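import Cfsg.Statements.S3332
import Cfsg.Agent.S1221
import Cfsg.Agent.Lib.SigC.Thms

set_option autoImplicit false
open Cfsg

namespace Cfsg.Agent.S3332

open Cfsg.Lib.SigC Cfsg.Lib.Layer Cfsg.Lib.Core Cfsg.Lib.Amalg

/-- Let G be a finite group of 2-rank at least 4 with O_{2'}(G) = 1 whose Sylow 2-subgroup S has a normal abelian subgroup of rank at least 3 that is its own centralizer in S. If the centralizer of every involution of G is solvable, then O_{2'}(C_G(t)) = 1 for every involution t of G. -/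
theorem result {G : Type*} [Group G] [Finite G]
    (hrank : ¬ Cfsg.PRankLE 2 3 G) (hO : Cfsg.oddCore G = ⊥) (S : Sylow 2 G)
    (A : Subgroup G) (hAS : A ≤ S) (hAn : (A.subgroupOf S).Normal) (hAc : IsMulCommutative A)
    (hAself : (S : Subgroup G) ⊓ Subgroup.centralizer (A : Set G) = A) (hA3 : ¬ Cfsg.PRankLE 2 2 A)
    (hsol : ∀ t : G, orderOf t = 2 → Group.IsSolvable (Subgroup.centralizer ({t} : Set G))) :
    ∀ t : G, orderOf t = 2 → Cfsg.oddCore (Subgroup.centralizer ({t} : Set G)) = ⊥ := by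
  intro t ht
  have hc : IsMulCommutative (A.subgroupOf (S : Subgroup G)) := by
    have := hAc
    infer_instance
  have h3 : ¬ Cfsg.PRankLE 2 2 (A.subgroupOf (S : Subgroup G)) := by
    obtain ⟨E, hE, h⟩ := not_pRankLE_iff.1 hA3
    refine not_pRankLE_iff.2 ⟨E.subgroupOf S, Subgroup.subgroupOf_mono _ hE, ?_⟩
    rw [← ea_map_subtype, Subgroup.map_subgroupOf_eq_of_le (hE.trans hAS)]
    exact h
  obtain ⟨hcon, hr⟩ := fourConnected_of_scn S.isPGroup' hAn hc h3
  have := sft2.cpc_eq_bot (fun H hH => Cfsg.Agent.S1221.result H hH) hO hr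
    (fun t ht => pLayerOf_eq_bot_of_solvable (hsol t ht)) (syl_top S) hcon ht
  unfold Cfsg.centralizerPPrimeCore at this
  exact (Subgroup.map_eq_bot_iff_of_injective _ (Subgroup.subtype_injective _)).1 this

end Cfsg.Agent.S3332
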