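import Cfsg.Statements.S4249
import Cfsg.Agent.Lib.Hall.Kegel

set_option autoImplicit false
open Cfsg

namespace Cfsg.Agent.S4249

open scoped Pointwise
open Cfsg.Lib Cfsg.Lib.Hall

/-- Let G be a finite group and p a prime such that G is not a p-group, and suppose the Hughes subgroup H_p(G), generated by all elements g with g^p ≠ 1, is a proper subgroup. Then H_p(G) is nilpotent and has index p in G. -/
theorem result {G : Type*} [Group G] [Finite G] (p : ℕ) (hp : p.Prime) (hG : ¬ IsPGroup p G)
    (hH : Subgroup.closure {g : G | g ^ p ≠ 1} ≠ ⊤) :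
    Group.IsNilpotent (Subgroup.closure {g : G | g ^ p ≠ 1}) ∧ (Subgroup.closure {g : G | g ^ p ≠ 1}).index = p := by
  haveI : (Subgroup.closure {g : G | g ^ p ≠ 1}).Normal := by
    refine ⟨fun n hn g => ?_⟩
    have : (Subgroup.closure {g : G | g ^ p ≠ 1}).map (MulAut.conj g).toMonoidHom ≤
        Subgroup.closure {g : G | g ^ p ≠ 1} := by
      rw [MonoidHom.map_closure]
      refine Subgroup.closure_mono ?_
      rintro _ ⟨x, hx, rfl⟩ h
      apply hx
      simp only [MulEquiv.coe_toMonoidHom] at h
      rw [← map_pow] at h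
      exact (MulAut.conj g).injective (h.trans (map_one _).symm)
    exact this ⟨n, hn, rfl⟩
  exact isNilpotent_and_index_of_forall_notMem hp hG hH fun g hg => by
    by_contra h
    exact hg (Subgroup.subset_closure h)

end Cfsg.Agent.S4249
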