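import Cfsg.Statements.S2507
import Cfsg.Agent.Lib.Known.PSL2

set_option autoImplicit false
open Cfsg

namespace Cfsg.Agent.S2507

open Cfsg.Lib.Known


/-- Let F be a finite field with q = 2^f ≥ 4 elements. The conjugacy class sizes of PSL(2,F) are exactly 1, q(q − 1), q² − 1 and q(q + 1). -/
theorem result {F : Type*} [Field F] [Fintype F]
    (h2 : 2 ∣ Fintype.card F) (h4 : 4 ≤ Fintype.card F) :
    Set.range (fun g : (Matrix.ProjectiveSpecialLinearGroup (Fin 2) F) => (Subgroup.centralizer ({g} : Set (Matrix.ProjectiveSpecialLinearGroup (Fin 2) F))).index) =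
      {1, Fintype.card F * (Fintype.card F - 1), Fintype.card F ^ 2 - 1, Fintype.card F * (Fintype.card F + 1)} := by
  rw [← Nat.card_eq_fintype_card] at h2 h4 ⊢
  have h2' : (2 : F) = 0 := two_eq_zero_of_even (even_iff_two_dvd.2 h2)
  have hg := Cfsg.Lib.Linear.gcd_two_of_two_eq_zero h2'
  have k1 : (Subgroup.centralizer ({1} : Set (Cfsg.Lib.Linear.PSL2 F))).index = 1 := by
    rw [Subgroup.index_eq_one, Subgroup.centralizer_eq_top_iff_subset]; simp
  have k2 : ∀ b : F, b ≠ 0 → (Subgroup.centralizer {pmk F (triS 1 b)}).index = Nat.card F ^ 2 - 1 :=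
    fun b hb => by rw [← index_centralizer_pmk_par hb, hg, one_mul]
  have k3 : ∀ a : Fˣ, a ^ 2 ≠ 1 → (Subgroup.centralizer {pmk F (torusS F a)}).index =
      Nat.card F * (Nat.card F + 1) := fun a ha => by
    rw [isTorus_torusS.index_pmk ha (Or.inl h2'), index_range_torusS]
  have k4 : ∀ a : U1 F, a ^ 2 ≠ 1 → (Subgroup.centralizer {pmk F (singerS F a)}).index =
      Nat.card F * (Nat.card F - 1) := fun a ha => by
    rw [isTorus_singerS.index_pmk ha (Or.inl h2'), index_range_singerS]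
  ext n
  simp only [Set.mem_range, Set.mem_insert_iff, Set.mem_singleton_iff]
  constructor
  · rintro ⟨x, rfl⟩
    rcases PSL2_types x with rfl | ⟨b, hb, h⟩ | ⟨a, ha, h⟩ | ⟨a, ha, h⟩
    · exact Or.inl k1
    · rw [index_centralizer_eq_of_isConj h, k2 b hb]; simp
    · rw [index_centralizer_eq_of_isConj h, k3 a ha]; simp
    · rw [index_centralizer_eq_of_isConj h, k4 a ha]; simp
  · obtain ⟨a, ha, -⟩ := (isTorus_torusS (F := F)).exists_gen (by rw [Nat.card_units]; omega)
    obtain ⟨z, hz, -⟩ := (isTorus_singerS (F := F)).exists_gen (by rw [card_U1]; omega)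
    rintro (rfl | rfl | rfl | rfl)
    exacts [⟨_, k1⟩, ⟨_, k4 z hz⟩, ⟨_, k2 1 one_ne_zero⟩, ⟨_, k3 a ha⟩]

end Cfsg.Agent.S2507
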