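import Cfsg.Statements.S2508
import Cfsg.Agent.Lib.Known.PSL2

set_option autoImplicit false
open Cfsg

namespace Cfsg.Agent.S2508

open Cfsg.Lib.Known

theorem aux {A : Type*} [Group A] [Finite A] [IsCyclic A] :
    (5 ≤ Nat.card A → ∃ a : A, a ^ 2 ≠ 1 ∧ a ^ 4 ≠ 1) ∧
    (4 ∣ Nat.card A → ∃ a : A, a ^ 2 ≠ 1 ∧ a ^ 4 = 1) ∧
    (Nat.card A % 4 = 2 → ∀ a : A, a ^ 2 ≠ 1 → a ^ 4 ≠ 1) := by
  refine ⟨fun h => ?_, fun h => ?_, fun h a h2 h4 => h2 ?_⟩
  · obtain ⟨a, ha⟩ := exists_orderOf_eq_of_isCyclic (A := A) dvd_rfl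
    refine ⟨a, fun h' => ?_, fun h' => ?_⟩ <;>
    · have := Nat.le_of_dvd (by norm_num) (orderOf_dvd_of_pow_eq_one h'); omega
  · obtain ⟨a, ha⟩ := exists_orderOf_eq_of_isCyclic h
    exact ⟨a, fun h' => absurd (ha ▸ orderOf_dvd_of_pow_eq_one h') (by decide),
      ha ▸ pow_orderOf_eq_one a⟩
  · have := pow_card_eq_one' (x := a)
    rwa [← Nat.div_add_mod (Nat.card A) 4, h, pow_add, pow_mul, h4, one_pow, one_mul] at this

/-- Let F be a finite field with q elements, q odd and q ≥ 7. If q ≡ 1 (mod 4) the conjugacy class sizes of PSL(2,F) are exactly 1, (q² − 1)/2, q(q + 1)/2, q(q − 1) and q(q + 1); if q ≡ 3 (mod 4) they are exactly 1, (q² − 1)/2, q(q − 1)/2, q(q + 1) and q(q − 1). -/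
theorem result {F : Type*} [Field F] [Fintype F]
    (hodd : ¬ 2 ∣ Fintype.card F) (h7 : 7 ≤ Fintype.card F) :
    (Fintype.card F % 4 = 1 →
      Set.range (fun g : (Matrix.ProjectiveSpecialLinearGroup (Fin 2) F) => (Subgroup.centralizer ({g} : Set (Matrix.ProjectiveSpecialLinearGroup (Fin 2) F))).index) =
        {1, (Fintype.card F ^ 2 - 1) / 2, Fintype.card F * (Fintype.card F + 1) / 2,
          Fintype.card F * (Fintype.card F - 1), Fintype.card F * (Fintype.card F + 1)}) ∧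
    (Fintype.card F % 4 = 3 →
      Set.range (fun g : (Matrix.ProjectiveSpecialLinearGroup (Fin 2) F) => (Subgroup.centralizer ({g} : Set (Matrix.ProjectiveSpecialLinearGroup (Fin 2) F))).index) =
        {1, (Fintype.card F ^ 2 - 1) / 2, Fintype.card F * (Fintype.card F - 1) / 2,
          Fintype.card F * (Fintype.card F + 1), Fintype.card F * (Fintype.card F - 1)}) := by
  rw [← Nat.card_eq_fintype_card] at hodd h7 ⊢
  have h2' : (2 : F) ≠ 0 := fun h => hodd (even_card_of_two_eq_zero h).two_dvd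
  have hg := Cfsg.Lib.Linear.gcd_two_of_two_ne_zero h2'
  have k1 : (Subgroup.centralizer ({1} : Set (Cfsg.Lib.Linear.PSL2 F))).index = 1 := by
    rw [Subgroup.index_eq_one, Subgroup.centralizer_eq_top_iff_subset]; simp
  have k2 : ∀ b : F, b ≠ 0 → (Subgroup.centralizer {pmk F (triS 1 b)}).index =
      (Nat.card F ^ 2 - 1) / 2 := fun b hb =>
    Nat.eq_div_of_mul_eq_right two_ne_zero (by rw [← index_centralizer_pmk_par hb, hg])
  have k3 : ∀ a : Fˣ, a ^ 2 ≠ 1 → a ^ 4 ≠ 1 → (Subgroup.centralizer {pmk F (torusS F a)}).index =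
      Nat.card F * (Nat.card F + 1) := fun a ha h4 => by
    rw [isTorus_torusS.index_pmk ha (Or.inr h4), index_range_torusS]
  have k4 : ∀ a : U1 F, a ^ 2 ≠ 1 → a ^ 4 ≠ 1 → (Subgroup.centralizer {pmk F (singerS F a)}).index =
      Nat.card F * (Nat.card F - 1) := fun a ha h4 => by
    rw [isTorus_singerS.index_pmk ha (Or.inr h4), index_range_singerS]
  have k5 : ∀ a : Fˣ, a ^ 2 ≠ 1 → a ^ 4 = 1 → (Subgroup.centralizer {pmk F (torusS F a)}).index =
      Nat.card F * (Nat.card F + 1) / 2 := fun a ha h4 => Nat.eq_div_of_mul_eq_right two_ne_zero (by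
    rw [isTorus_torusS.two_mul_index_pmk h2' ha h4, index_range_torusS])
  have k6 : ∀ a : U1 F, a ^ 2 ≠ 1 → a ^ 4 = 1 → (Subgroup.centralizer {pmk F (singerS F a)}).index =
      Nat.card F * (Nat.card F - 1) / 2 := fun a ha h4 => Nat.eq_div_of_mul_eq_right two_ne_zero (by
    rw [isTorus_singerS.two_mul_index_pmk h2' ha h4, index_range_singerS])
  have := isCyclic_U1 (F := F)
  obtain ⟨a1, a2, a3⟩ := aux (A := Fˣ)
  obtain ⟨b1, b2, b3⟩ := aux (A := U1 F)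
  rw [Nat.card_units] at a1 a2 a3
  rw [card_U1] at b1 b2 b3
  obtain ⟨a, ha, ha'⟩ := a1 (by omega)
  obtain ⟨z, hz, hz'⟩ := b1 (by omega)
  refine ⟨fun hq => ?_, fun hq => ?_⟩ <;> ext n <;>
    simp only [Set.mem_range, Set.mem_insert_iff, Set.mem_singleton_iff] <;> constructor
  · rintro ⟨x, rfl⟩
    rcases PSL2_types x with rfl | ⟨b, hb, h⟩ | ⟨a, ha, h⟩ | ⟨a, ha, h⟩
    · exact Or.inl k1
    · rw [index_centralizer_eq_of_isConj h, k2 b hb]; simp
    · rw [index_centralizer_eq_of_isConj h]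
      by_cases h4 : a ^ 4 = 1
      · rw [k5 a ha h4]; simp
      · rw [k3 a ha h4]; simp
    · rw [index_centralizer_eq_of_isConj h, k4 a ha (b3 (by omega) a ha)]; simp
  · obtain ⟨c, hc, hc'⟩ := a2 (by omega)
    rintro (rfl | rfl | rfl | rfl | rfl)
    exacts [⟨_, k1⟩, ⟨_, k2 1 one_ne_zero⟩, ⟨_, k5 c hc hc'⟩, ⟨_, k4 z hz hz'⟩, ⟨_, k3 a ha ha'⟩]
  · rintro ⟨x, rfl⟩
    rcases PSL2_types x with rfl | ⟨b, hb, h⟩ | ⟨a, ha, h⟩ | ⟨a, ha, h⟩
    · exact Or.inl k1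
    · rw [index_centralizer_eq_of_isConj h, k2 b hb]; simp
    · rw [index_centralizer_eq_of_isConj h, k3 a ha (a3 (by omega) a ha)]; simp
    · rw [index_centralizer_eq_of_isConj h]
      by_cases h4 : a ^ 4 = 1
      · rw [k6 a ha h4]; simp
      · rw [k4 a ha h4]; simp
  · obtain ⟨c, hc, hc'⟩ := b2 (by omega)
    rintro (rfl | rfl | rfl | rfl | rfl)
    exacts [⟨_, k1⟩, ⟨_, k2 1 one_ne_zero⟩, ⟨_, k6 c hc hc'⟩, ⟨_, k3 a ha ha'⟩, ⟨_, k4 z hz hz'⟩]

end Cfsg.Agent.S2508
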