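import Cfsg.Statements.S4483
import Cfsg.Agent.Lib.Block.Column
import Cfsg.Agent.Lib.Small.BF

set_option autoImplicit false
open Cfsg

namespace Cfsg.Agent.S4483

open Cfsg.Lib.Block Cfsg.Lib.Char Cfsg.Lib.Amalg
set_option linter.style.haveILetI false

/-- Let G be a finite group of order 2^n·g₀ with g₀ odd, and M a maximal ideal of the algebraic integers containing 2. Every real-valued irreducible character of G of odd degree lies in the principal 2-block; consequently G has at most 2^(2n) real-valued irreducible characters of odd degree. -/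
theorem result {G : Type*} [Group G] [Finite G] (M : Ideal Cfsg.AlgInt) (hM : Cfsg.IsPModular 2 M) : (∀ χ : Cfsg.IrrCharacter G, (∀ g : G, ((χ : G → ℂ) g).im = 0) → Odd (Cfsg.charDegree (χ : G → ℂ)) → χ ∈ Cfsg.principalBlock M G) ∧ Nat.card {χ : Cfsg.IrrCharacter G // (∀ g : G, ((χ : G → ℂ) g).im = 0) ∧ Odd (Cfsg.charDegree (χ : G → ℂ))} ≤ 2 ^ (2 * (Nat.card G).factorization 2) := by
  classical
  haveI := hM.2.1
  haveI : Fact (Nat.Prime 2) := ⟨Nat.prime_two⟩
  haveI := Fintype.ofFinite G
  have key : ∀ χ : Cfsg.IrrCharacter G, (∀ g : G, ((χ : G → ℂ) g).im = 0) →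
      Odd (Cfsg.charDegree (χ : G → ℂ)) → χ ∈ Cfsg.principalBlock M G := by
    intro χ hr ho
    haveI := charP_resField hM
    have hi : ∀ y, Cfsg.MemLocalRing M (χ.1 y) := fun y =>
      memLocalRing_of_isIntegral (χ.2.isCharacter.isIntegral y)
    have hi' : ∀ y, Cfsg.MemLocalRing M (if 2 ∣ orderOf y then 0 else χ.1 y) := fun y => by
      split_ifs
      exacts [memLocalRing_zero, hi y]
    have h1 : ¬ Cfsg.MemLocalIdeal M (χ.1 1) := by
      rw [← Cfsg.Lib.Block2.irr_cast_deg, memLocalIdeal_natCast_iff hM]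
      exact ho.not_two_dvd_nat
    rw [mem_principalBlock_iff hM, div_eq_mul_inv]
    refine not_memLocalIdeal_mul (memLocalRing_sum fun y _ => hi' y) ?_
      (not_memLocalIdeal_inv (hi 1) χ.2.apply_one_ne_zero)
    rw [← red_eq_zero_iff (memLocalRing_sum fun y _ => hi' y), red_sum fun y _ => hi' y,
      ← Finset.add_sum_erase _ _ (Finset.mem_univ (1 : G)),
      Finset.sum_involution (fun y _ => y⁻¹), add_zero, orderOf_one, if_neg (by norm_num),
      red_eq_zero_iff (hi 1)]
    · exact h1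
    · intro y _
      have e : χ.1 y⁻¹ = χ.1 y := by
        rw [χ.2.isCharacter.apply_inv, Complex.conj_eq_iff_im.2 (hr y)]
      rw [orderOf_inv, e]
      exact CharTwo.add_self_eq_zero _
    · intro y hy h0 e
      have h2 : orderOf y = 2 := Lib.Invol.two_of_mul_self (mul_eq_one_iff_eq_inv.2 e.symm) (Finset.ne_of_mem_erase hy)
      exact h0 (by rw [if_pos (h2 ▸ dvd_rfl), red_zero])
    · intro y hy
      simpa using hy
    · intro y _
      exact inv_inv y
  refine ⟨key, ?_⟩
  have h1 : Nat.card {χ : Cfsg.IrrCharacter G // (∀ g : G, ((χ : G → ℂ) g).im = 0) ∧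
      Odd (Cfsg.charDegree (χ : G → ℂ))} ≤ Nat.card (Cfsg.principalBlock M G) :=
    Lib.Invol.card_le_of_imp fun χ h => key χ h.1 h.2
  have h2 := Lib.Small.sum_pow_height_le hM (isPBlock_principalBlock (M := M) (G := G))
  have h3 : Nat.card (Cfsg.principalBlock M G) ≤ ∑ χ with χ ∈ Cfsg.principalBlock M G,
      2 ^ (2 * Cfsg.blockHeight 2 (Cfsg.principalBlock M G) χ.1) := by
    rw [Lib.Small.card_block_eq, Finset.card_eq_sum_ones]
    exact Finset.sum_le_sum fun χ _ => Nat.one_le_two_pow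
  have h4 : 2 ^ (2 * Cfsg.blockDefect 2 (Cfsg.principalBlock M G))
      ≤ 2 ^ (2 * (Nat.card G).factorization 2) :=
    Nat.pow_le_pow_right two_pos (Nat.mul_le_mul_left 2 (Nat.sub_le _ _))
  have h5 : 1 ≤ 2 ^ (2 * (Nat.card G).factorization 2) := Nat.one_le_two_pow
  omega

end Cfsg.Agent.S4483
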