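import Cfsg.Statements.S4675
import Cfsg.Agent.Lib.Small.Lat

set_option autoImplicit false
open Cfsg

namespace Cfsg.Agent.S4675

open Cfsg.Lib.Small Cfsg.Lib.Char Cfsg.Lib.Block

/-- Fix a prime p and a maximal ideal M of the algebraic integers containing p. Let B be a p-block of the finite group G with defect group P and p-regular rank one (a single irreducible Brauer character). Then there are a function φ on G that is, on the p-regular elements, an integer combination of the members of B, and natural numbers d_χ (χ ∈ B), such that every χ ∈ B agrees with d_χ·φ on the p-regular elements and Σ_{χ ∈ B} d_χ² equals the order of P (the single Cartan invariant of B is the order of P). -/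
theorem result {G : Type*} [Group G] [Fintype G] (p : ℕ) [Fact p.Prime] (M : Ideal Cfsg.AlgInt) (hM : Cfsg.IsPModular p M) (B : Set (Cfsg.IrrCharacter G)) (hB : Cfsg.IsPBlock M B) (P : Subgroup G) (hP : Cfsg.IsDefectGroup p M B P) (hl : Cfsg.blockRank p B = 1) : ∃ φ : G → ℂ, ∃ d : Cfsg.IrrCharacter G → ℕ, (∃ n : Cfsg.IrrCharacter G → ℤ, ∀ x : G, Cfsg.IsPRegular p x → φ x = ∑ᶠ ψ ∈ B, (n ψ : ℂ) * (ψ : G → ℂ) x) ∧ (∀ χ ∈ B, ∀ x : G, Cfsg.IsPRegular p x → (χ : G → ℂ) x = (d χ : ℂ) * φ x) ∧ ∑ᶠ χ ∈ B, d χ ^ 2 = Nat.card P := by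
  classical
  haveI := hM.2.1
  have hp : p.Prime := Fact.out
  obtain ⟨φ₀, h1, h2, h3⟩ := exists_basic hM hB
  have hreg : ∀ (θ : G → ℂ) x, IsPRegular p x → reg p θ x = θ x := fun θ x hx => reg_of_not_dvd θ hx
  have h0 : IsPRegular p (1 : G) := by simpa [IsPRegular] using hp.ne_one
  obtain ⟨φ, hφ, k, hk, h4⟩ : ∃ φ ∈ LB p B, ∃ k : ℕ, φ 1 = k ∧
      ∀ η ∈ LB p B, ∃ c : ℤ, η = (c : ℂ) • φ := by
    generalize blockRank p B = r at *
    subst hl
    obtain ⟨n, hn⟩ := exists_eq_sum_of_LB (h1 0)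
    have : φ₀ 0 1 = (∑ χ with χ ∈ B, n χ * charDegree χ.1 : ℤ) := by
      simp [hn, hreg _ _ h0, Cfsg.Lib.Block2.irr_cast_deg]
    obtain ⟨k, hk | hk⟩ := (∑ χ with χ ∈ B, n χ * charDegree χ.1 : ℤ).eq_nat_or_neg
    · exact ⟨φ₀ 0, h1 0, k, by simp [this, hk], fun η h => by
        obtain ⟨c, hc⟩ := h3 η h; exact ⟨c 0, by simpa using hc⟩⟩
    · exact ⟨-φ₀ 0, neg_mem (h1 0), k, by simp [this, hk], fun η h => by
        obtain ⟨c, hc⟩ := h3 η h; exact ⟨-c 0, by simpa using hc⟩⟩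
  choose! c hc using fun χ (hχ : χ ∈ B) => h4 _ (reg_mem_LB hχ)
  have h5 : ∀ χ ∈ B, (((c χ).toNat : ℕ) : ℤ) = c χ := fun χ hχ => by
    have := congrFun (hc χ hχ) 1
    rw [hreg _ _ h0, Pi.smul_apply, hk, smul_eq_mul, ← Cfsg.Lib.Block2.irr_cast_deg] at this
    have h6 : (charDegree χ.1 : ℤ) = c χ * k := by exact_mod_cast this
    have := Nat.pos_of_ne_zero (Cfsg.Lib.Block2.deg_ne_zero χ.2)
    exact Int.toNat_of_nonneg (by nlinarith)
  obtain ⟨n, hn⟩ := exists_eq_sum_of_LB hφ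
  refine ⟨φ, fun χ => (c χ).toNat, ⟨n, fun x hx => ?_⟩, fun χ hχ x hx => ?_, ?_⟩
  · rw [Cfsg.Lib.Block2.finsum_mem_irr, hn]
    simp [hreg _ _ hx]
  · rw [← hreg χ.1 _ hx, hc χ hχ, ← Int.cast_natCast, h5 χ hχ]; rfl
  obtain ⟨A, μ, κ, hA⟩ := exists_form hM hB
  obtain ⟨a, ha, ha'⟩ := exists_contrib hM hB
  obtain ⟨χ₁, h₁, h₁'⟩ := exists_blockHeight_eq_zero (p := p) hB.nonempty
  have hN : (p : ℂ) ^ blockDefect p B ≠ 0 := pow_ne_zero _ (Nat.cast_ne_zero.2 hp.ne_zero)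
  have h6 : ∀ χ ∈ B, (p : ℂ) ^ blockDefect p B * classInner (reg p χ.1) χ.1 = c χ ^ 2 * A φ φ :=
    fun χ hχ => by
      rw [← classInner_reg_reg, hc χ hχ, (hA φ hφ φ hφ).1, classInner_smul_left,
        classInner_smul_right, map_intCast]
      ring
  have h7 : (∑ χ with χ ∈ B, (c χ).toNat ^ 2 : ℕ) * A φ φ = p ^ blockDefect p B := by
    apply Int.cast_injective (α := ℂ)
    have := congrArg ((p : ℂ) ^ blockDefect p B * ·) (sum_inner_reg_eq_rank hM hB.isBlockUnion)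
    simp only [hl, Nat.cast_one, mul_one, Finset.mul_sum] at this
    push_cast
    rw [← this, Finset.sum_mul]
    refine Finset.sum_congr rfl fun χ hχ => ?_
    rw [h6 χ (by simpa using hχ), ← Int.cast_natCast, h5 χ (by simpa using hχ)]
  have h8 : ¬ (p : ℤ) ∣ A φ φ := fun h => by
    have h9 : a χ₁ χ₁ = c χ₁ ^ 2 * A φ φ := by exact_mod_cast (ha χ₁ h₁ χ₁).trans (h6 χ₁ h₁)
    have := (ha' χ₁ h₁ χ₁ h₁).2
    rw [h₁', zero_add, pow_one, h9] at this
    exact this.1 (h.mul_left _) rfl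
  rw [Cfsg.Lib.Block2.card_defectGroup hM hB hP, Cfsg.Lib.Block2.finsum_mem_irr]
  have h9 := congrArg Int.natAbs h7
  rw [Int.natAbs_mul, Int.natAbs_natCast, Int.natAbs_pow, Int.natAbs_natCast] at h9
  have h10 : (A φ φ).natAbs = 1 := (Nat.Coprime.pow_right (blockDefect p B) (Nat.coprime_comm.1
    (hp.coprime_iff_not_dvd.2 (by rwa [← Int.natCast_dvd])))).eq_one_of_dvd ⟨_, by rw [← h9, mul_comm]⟩
  rw [← h9, h10, mul_one]

end Cfsg.Agent.S4675
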