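import Cfsg.Statements.S0516
import Cfsg.Agent.Lib.R2.Fus
import Cfsg.Agent.S0949
import Cfsg.Agent.Lib.Block.ZStar
import Cfsg.Agent.Lib.FT.Sec14d

set_option autoImplicit false
open Cfsg

namespace Cfsg.Agent.S0516

open Cfsg.Lib
set_option linter.style.haveILetI false

/-- In a non-abelian finite simple group of 2-rank at most 2, a Sylow 2-subgroup is dihedral (of order at least 4),
quasi-dihedral, wreathed, or isomorphic to a Sylow 2-subgroup of the projective special unitary group of dimension 3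
over the field with 16 elements. -/
theorem result {G : Type*} [Group G] [Finite G] [IsSimpleGroup G]
    (hG : ¬ IsMulCommutative G) (h2 : Cfsg.PRankLE 2 2 G) (S : Sylow 2 G) {F : Type*} [Field F] [Fintype F]
    (hF : Fintype.card F = 16) (P : Sylow 2 (Cfsg.PSU 3 F 4)) :
    (∃ n : ℕ, 2 ≤ n ∧ Nonempty ((S : Subgroup G) ≃* DihedralGroup n)) ∨ Cfsg.IsQuasiDihedral (S : Subgroup G) ∨
      Cfsg.IsWreathed (S : Subgroup G) ∨ Nonempty ((S : Subgroup G) ≃* (P : Subgroup (Cfsg.PSU 3 F 4))) := by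
  have : Fact (Nat.Prime 2) := ⟨Nat.prime_two⟩
  obtain ⟨σ, c⟩ := Forms.isConj_of_card (q := 4) hF
  obtain ⟨e⟩ := U3.sylow_psu c (k := 2) rfl P
  have hs : ¬ Group.IsSolvable G := fun h => hG ⟨⟨IsSimpleGroup.comm_iff_isSolvable.2 h⟩⟩
  have he : ¬ Odd (Nat.card G) := fun h => hs (FT.odd_order_solvable G h)
  have hO : ∀ N : Subgroup G, N.Normal → Odd (Nat.card N) → N = ⊥ := fun N hN h =>
    hN.eq_bot_or_eq_top.resolve_right fun e => he (by rwa [e, Subgroup.card_top] at h)
  have hS := S.ne_bot_of_dvd_card (Nat.not_odd_iff_even.1 he).two_dvd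
  rcases R2.group_classify c h2 S hS fun z hz => hG ⟨⟨fun a b => Subgroup.mem_center_iff.1 (((inferInstance :
    (Subgroup.center G).Normal).eq_bot_or_eq_top.resolve_left fun e => Invol.ne_one_of_two hz.1 (Subgroup.mem_bot.1 (e ▸
      Block.mem_center_of_commutator_mem_oddCore hO (Block.z_star hz)))) ▸ Subgroup.mem_top b) a⟩⟩ with h | h | h | ⟨n, hn, ⟨f⟩⟩ | ⟨⟨f⟩⟩
  · exact Or.inl h
  · exact Or.inr (Or.inl h)
  · exact Or.inr (Or.inr (Or.inl h))
  · have h1 := (S0949.result S n hn f hO).1.eq_bot_or_eq_top.resolve_left hS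
    have h3 := (S.isPGroup'.of_equiv ((MulEquiv.subgroupCongr h1).trans Subgroup.topEquiv)).isNilpotent
    exact (hs inferInstance).elim
  · exact Or.inr (Or.inr (Or.inr ⟨f.trans e.symm⟩))

end Cfsg.Agent.S0516
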