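import Cfsg.Statements.S1248
import Cfsg.Agent.Lib.U3.Even

set_option autoImplicit false
open Cfsg

namespace Cfsg.Agent.S1248
open Cfsg.Lib

/-- Let F be a field with 16 elements and S a Sylow 2-subgroup of PSU(3) over F (the unitary group U₃(4)). Then |S| = 64; the centre Z(S) is a Klein four-group and coincides with the subgroup generated by the involutions of S and with the derived subgroup; and every element of S ⧸ Z(S) squares to the identity, S ⧸ Z(S) having order 16. -/
theorem result {F : Type*} [Field F] [Fintype F] (hF : Fintype.card F = 16) (S : Sylow 2 (Cfsg.PSU 3 F 4)) : Nat.card S = 64 ∧ IsKleinFour (Subgroup.center (S : Subgroup (Cfsg.PSU 3 F 4))) ∧ Subgroup.center (S : Subgroup (Cfsg.PSU 3 F 4)) = Subgroup.closure {x : (S : Subgroup (Cfsg.PSU 3 F 4)) | orderOf x = 2} ∧ Subgroup.center (S : Subgroup (Cfsg.PSU 3 F 4)) = commutator (S : Subgroup (Cfsg.PSU 3 F 4)) ∧ Nat.card ((S : Subgroup (Cfsg.PSU 3 F 4)) ⧸ Subgroup.center (S : Subgroup (Cfsg.PSU 3 F 4))) =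 16 ∧ ∀ x : (S : Subgroup (Cfsg.PSU 3 F 4)) ⧸ Subgroup.center (S : Subgroup (Cfsg.PSU 3 F 4)), x ^ 2 = 1 := by
    obtain ⟨σ, c⟩ := Lib.Forms.isConj_of_card (q := 4) hF
    obtain ⟨e⟩ := Lib.U3.sylow_psu c (k := 2) rfl S
    have h2 := Lib.U3.two_eq_zero c (n := 2) rfl
    have hS : Nat.card S = 64 := (Nat.card_congr e.toEquiv).trans (Lib.U3.Heis.card c)
    have hZ := (Nat.card_congr (Subgroup.centerCongr e).toEquiv).trans (Lib.U3.Heis.card_center c)
    have m : ∀ x, x ∈ Subgroup.center S ↔ (e x).a = 0 := fun x => by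
      rw [← Lib.U3.Heis.mem_center]; exact (MulEquivClass.apply_mem_center_iff e).symm
    have m2 : ∀ x, x ∈ Subgroup.center S ↔ x * x = 1 := fun x => by
      rw [m, ← Lib.U3.Heis.mul_self_eq_one h2, ← map_mul, map_eq_one_iff _ e.injective]
    have : Nontrivial (Subgroup.center S) := Finite.one_lt_card_iff_nontrivial.1 (by omega)
    refine ⟨hS, ⟨hZ, (Monoid.exponent_eq_prime_iff Nat.prime_two).2 fun x hx =>
      orderOf_eq_prime (Subtype.ext (by rw [sq]; exact (m2 _).1 x.2)) hx⟩, le_antisymm (fun x hx => ?_)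
      ((Subgroup.closure_le _).2 fun x hx => (m2 x).2 (by
        rw [← sq]; exact orderOf_dvd_iff_pow_eq_one.1 (Eq.dvd hx))),
      Subgroup.ext fun x => ?_, ?_, fun x => ?_⟩
    · by_cases h1 : x = 1
      · exact h1 ▸ one_mem _
      · exact Subgroup.subset_closure (orderOf_eq_prime (by rw [sq]; exact (m2 x).1 hx) h1)
    · rw [← Lib.Forms.mem_commutator_equiv e, Lib.U3.Heis.commutator_eq, m, Lib.U3.Heis.mem_center]
    · have := Subgroup.card_eq_card_quotient_mul_card_subgroup (Subgroup.center S)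
      rw [hS, hZ] at this
      omega
    · obtain ⟨x, rfl⟩ := QuotientGroup.mk_surjective x
      rw [← QuotientGroup.mk_pow, QuotientGroup.eq_one_iff, m, sq, map_mul, Lib.U3.Heis.mul_self_a h2]

end Cfsg.Agent.S1248
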