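import Cfsg.Statements.S0548
import Cfsg.Agent.Lib.Hall.Prim

set_option autoImplicit false
open Cfsg

namespace Cfsg.Agent.S0548

open scoped Pointwise
open Cfsg.Lib Cfsg.Lib.Hall

theorem corefree {G : Type*} [Group G] {Ω : Type*} [MulAction G Ω] [FaithfulSMul G Ω]
    (hprim : MulAction.IsPreprimitive G Ω) {M : Subgroup G} (hM : M ≠ ⊥) (ω : Ω) :
    IsCoatom (MulAction.stabilizer G ω) ∧ (MulAction.stabilizer G ω).normalCore = ⊥ := by
  haveI : Nontrivial Ω := by
    by_contra h
    rw [not_nontrivial_iff_subsingleton] at h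
    refine hM (eq_bot_iff.2 fun x _ => Subgroup.mem_bot.2 ?_)
    exact eq_of_smul_eq_smul (α := Ω) fun a => Subsingleton.elim _ _
  refine ⟨MulAction.IsPreprimitive.isCoatom_stabilizer_of_isPreprimitive G ω,
    normalCore_eq_bot_iff'.2 fun K hK hle => eq_bot_iff.2 fun x hx => Subgroup.mem_bot.2 ?_⟩
  refine eq_of_smul_eq_smul (α := Ω) fun a => ?_
  obtain ⟨g, rfl⟩ := MulAction.exists_smul_eq G ω a
  have h1 : (g⁻¹ * x * g⁻¹⁻¹) • ω = ω := hle (hK.conj_mem x hx g⁻¹)
  rw [inv_inv, mul_smul, mul_smul, inv_smul_eq_iff] at h1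
  rw [one_smul, h1]

/-- Let a finite solvable group G act faithfully and primitively on a set, let M be a minimal normal subgroup and H the stabilizer of a point. Then H is a complement to M, no non-identity element of H centralizes M, and the only subgroups of M normalized by H are the trivial subgroup and M. -/
theorem result {G : Type*} [Group G] [Finite G] [Group.IsSolvable G] {Ω : Type*} [MulAction G Ω] [FaithfulSMul G Ω] (hprim : MulAction.IsPreprimitive G Ω) (M : Subgroup G) [M.Normal] (hM : M ≠ ⊥) (hmin : ∀ K : Subgroup G, K.Normal → K ≤ M → K = ⊥ ∨ K = M) (ω : Ω) : Subgroup.IsComplement' M (MulAction.stabilizer G ω) ∧ MulAction.stabilizer G ω ⊓ Subgroup.centralizer (M : Set G) = ⊥ ∧ ∀ K : Subgroup G, K ≤ M → MulAction.stabilizer G ω ≤ Subgroup.normalizer (K : Set G) → K = ⊥ ∨ K = M := by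
  obtain ⟨hU, hc⟩ := corefree hprim hM ω
  haveI := isMulCommutative_of_minNormal hmin
  have h1 := isComplement'_of_corefree hU hc hM
  refine ⟨h1, ?_, fun K hK hn => hmin K ?_ hK⟩
  · rw [inf_comm]; exact centralizer_inf_eq_bot_of_corefree hU hc hM
  · exact normal_of_sup_eq_top (le_normalizer_of_le_of_comm hK) hn h1.sup_eq_top

end Cfsg.Agent.S0548
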