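import Cfsg.Statements.S0547
import Cfsg.Agent.Lib.Hall.Prim
import Cfsg.Agent.S0548
import Cfsg.Agent.Lib.Hall.Product

set_option autoImplicit false
open Cfsg

namespace Cfsg.Agent.S0547

open scoped Pointwise
open Cfsg.Lib Cfsg.Lib.Hall

/-- Let a finite solvable group G act faithfully and primitively on a set, and let M be a minimal normal subgroup of G. Then M is transitive with trivial point stabilizers, and the number of points equals the order of M, which is a prime power p ^ d with d ≥ 1. -/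
theorem result {G : Type*} [Group G] [Finite G] [Group.IsSolvable G] {Ω : Type*} [Nonempty Ω] [MulAction G Ω] [FaithfulSMul G Ω] (hprim : MulAction.IsPreprimitive G Ω) (M : Subgroup G) [M.Normal] (hM : M ≠ ⊥) (hmin : ∀ K : Subgroup G, K.Normal → K ≤ M → K = ⊥ ∨ K = M) : MulAction.IsPretransitive M Ω ∧ (∀ ω : Ω, MulAction.stabilizer M ω = ⊥) ∧ ∃ p d : ℕ, p.Prime ∧ 0 < d ∧ Nat.card Ω = p ^ d ∧ Nat.card M = p ^ d := by
  have h0 := fun ω : Ω => (Cfsg.Agent.S0548.result hprim M hM hmin ω).1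
  obtain ⟨ω⟩ := ‹Nonempty Ω›
  obtain ⟨-, p, hp, hpow⟩ := minNormal_elementary hM hmin
  haveI := Fact.mk hp
  obtain ⟨d, hd⟩ := (isPGroup_of_pow_eq_one hpow).exists_card_eq
  refine ⟨⟨fun a b => ?_⟩, fun a => ?_, p, d, hp, ?_, ?_, hd⟩
  · obtain ⟨g, rfl⟩ := MulAction.exists_smul_eq G a b
    obtain ⟨x, hx, y, hy, rfl⟩ := factor_of_sup_eq_top' (h0 a).sup_eq_top g
    refine ⟨⟨x, hx⟩, ?_⟩
    rw [mul_smul, MulAction.mem_stabilizer_iff.1 hy]
    rfl
  · refine eq_bot_iff.2 fun x hx => Subgroup.mem_bot.2 (Subtype.ext ?_)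
    exact Subgroup.mem_bot.1 ((h0 a).disjoint.le_bot ⟨x.2, hx⟩)
  · refine Nat.pos_of_ne_zero ?_
    rintro rfl
    exact hM (Subgroup.card_eq_one.1 (by rw [hd, pow_zero]))
  · rw [← MulAction.index_stabilizer_of_transitive G ω, (h0 ω).index_eq_card, hd]

end Cfsg.Agent.S0547
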