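import Cfsg.Statements.S5573
import Cfsg.Agent.Lib.Block2.JS7c
import Cfsg.Agent.Lib.Block2.JHy

set_option autoImplicit false
open Cfsg

namespace Cfsg.Agent.S5573

/-- Let G be a finite non-abelian simple group of Janko-four type (an involution z whose centralizer H has an extraspecial largest normal 2-subgroup E of order 2^13 containing its centralizer in H, a normal subgroup N ≥ E of H with N/E of order 3 and H/N the automorphism group of M₂₂, and a subgroup P ≤ N of order 3 with C_E(P) = ⟨z⟩, N_H(P) ≠ C_H(P) and P ≤ C_H(P)′). Let S ≤ H have order 7. Then S is a Sylow 7-subgroup of G, its centralizer is S × I with I isomorphic to the symmetric group of degree 5, and its normalizer has order three times that of its centralizer, namely 2^3·3^2·5·7. -/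
theorem result {G : Type*} [Group G] [Finite G] [IsSimpleGroup G] (hG : ¬ IsMulCommutative G) (z : G) (hJ : Cfsg.IsOfJankoFourTypeAt z) (S : Subgroup G) (hS : Nat.card ↥S = 7) (hSz : S ≤ Subgroup.centralizer ({z} : Set G)) :
    ¬ (49 ∣ Nat.card G) ∧
    (∃ I : Subgroup G, Cfsg.IsInternalDirectProduct S I (Subgroup.centralizer (S : Set G)) ∧ Nonempty (↥I ≃* Equiv.Perm (Fin 5))) ∧
    Nat.card ↥(Subgroup.normalizer (S : Set G)) = 3 * Nat.card ↥(Subgroup.centralizer (S : Set G)) ∧
    Nat.card ↥(Subgroup.normalizer (S : Set G)) = 2 ^ 3 * 3 ^ 2 * 5 * 7 := by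
  obtain ⟨P, hJ⟩ := hJ
  obtain ⟨p, φ, q, rfl, hi, A⟩ := Lib.JF.exists_allD hG hJ
  obtain ⟨ε, θ, T⟩ := A.gd.exists_TM
  have hN := A.s5563.2.2.2.2
  have := Fact.mk Nat.prime_three
  obtain ⟨s, t, u, x, g, y, h⟩ := T.q7 A.cenD fun g og => by
    obtain ⟨k, rfl⟩ := isConj_iff.1 (A.s5564 hN hi p g (orderOf_eq_prime A.js.p3 A.js.p1) og)
    refine ⟨k * z * k⁻¹, (Lib.Golay.orderOf_conj' k z).trans hJ.1, fun w hw => Subgroup.mem_centralizer_singleton_iff.2 ?_⟩
    have e : k⁻¹ * w * k * p = p * (k⁻¹ * w * k) := by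
      calc _ = k⁻¹ * (w * (k * p * k⁻¹)) * k := by group
        _ = _ := by rw [Subgroup.mem_centralizer_singleton_iff.1 hw]; group
    have e2 := Subgroup.mem_centralizer_singleton_iff.1 (hN (Subgroup.centralizer_le_normalizer _ (Lib.Known2.mem_cent_zpowers.2 e)))
    calc _ = k * (k⁻¹ * w * k * z) * k⁻¹ := by group
      _ = _ := by rw [e2]; group
  exact h.main S hS

end Cfsg.Agent.S5573
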