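import Cfsg.Statements.S5570
import Cfsg.Agent.Lib.Block2.JY3
import Cfsg.Agent.Lib.Block2.JX3
import Cfsg.Agent.Lib.Block2.JX1
import Cfsg.Agent.Lib.Block2.JI4
import Cfsg.Agent.Lib.Block2.JZ1
import Cfsg.Agent.Lib.Block2.JY2

set_option autoImplicit false
open Cfsg

namespace Cfsg.Agent.S5570

open Subgroup Cfsg.Lib Cfsg.Lib.Amalg Cfsg.Lib.JF

/-- Let G be a finite non-abelian simple group of Janko-four type (an involution z whose centralizer H has an extraspecial largest normal 2-subgroup E of order 2^13 containing its centralizer in H, a normal subgroup N ≥ E of H with N/E of order 3 and H/N the automorphism group of M₂₂, and a subgroup P ≤ N of order 3 with C_E(P) = ⟨z⟩, N_H(P) ≠ C_H(P) and P ≤ C_H(P)′). Then G has self-centralizing elementary abelian subgroups of order 2^10, any two of them are conjugate, and for such a subgroup A the normalizer of A is a split extension of A by a complement isomorphic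 to L₅(2) under which A has no proper non-trivial invariant subgroup. -/
theorem result {G : Type*} [Group G] [Finite G] [IsSimpleGroup G] (hG : ¬ IsMulCommutative G) (hJ : Cfsg.IsOfJankoFourType G) :
    (∃ A : Subgroup G, Cfsg.IsElementaryAbelian 2 A ∧ Nat.card ↥A = 2 ^ 10 ∧ Subgroup.centralizer (A : Set G) = A) ∧
    (∀ A A' : Subgroup G, Cfsg.IsElementaryAbelian 2 A → Nat.card ↥A = 2 ^ 10 → Subgroup.centralizer (A : Set G) = A → Cfsg.IsElementaryAbelian 2 A' → Nat.card ↥A' = 2 ^ 10 → Subgroup.centralizer (A' : Set G) = A' → ∃ g : G, A' = A.map (MulAut.conj g).toMonoidHom) ∧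
    ∀ A : Subgroup G, Cfsg.IsElementaryAbelian 2 A → Nat.card ↥A = 2 ^ 10 → Subgroup.centralizer (A : Set G) = A →
      (∃ B : Subgroup G, B ≤ Subgroup.normalizer (A : Set G) ∧ B ⊓ A = ⊥ ∧ B ⊔ A = Subgroup.normalizer (A : Set G) ∧
        Nonempty (↥B ≃* Matrix.SpecialLinearGroup (Fin 5) (ZMod 2))) ∧
      ∀ W : Subgroup G, W ≤ A → Subgroup.normalizer (A : Set G) ≤ Subgroup.normalizer (W : Set G) → W = ⊥ ∨ W = A := by
  obtain ⟨z, P, hJ⟩ := hJ
  obtain ⟨p, φ, q, -, -, X⟩ := exists_allD hG hJ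
  have cH := card_H hJ
  have : Fact Off24 := ⟨m24_off⟩
  obtain ⟨ε, θ, T⟩ := X.gd.exists_TM
  obtain ⟨K, k1, k2, k3, -⟩ := X.split
  obtain ⟨A, Y, sq, c, ce, AV, c1, c2, c3, tr, cen, y1, y2, y3, c4, trD⟩ := T.ten_std X.gd.card X.cenD k1 k2 k3
  have hA : ST10 A := ⟨sq, c, ce⟩
  obtain ⟨a, b, ha, hb, h1, h2⟩ := X.s5571 cH X.two hA
  obtain ⟨B, b1, b2, b3, ⟨e⟩⟩ := T.y_main m24_off X.cenD (fun g d hd h => gl_DD_cj g hd h) (X.js.uq mf)
    (fun a b c d e f g h i => l52 a b c d e f g h i) sq c AV c1 c2 c3 tr cen y1 y2 y3 c4 trD ha hb h1 h2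
  refine ⟨⟨A, ⟨⟨⟨fun x y => Subtype.ext ?_⟩⟩, fun x hx => by rw [pow_two, sq x hx]⟩, c, ce⟩, fun A1 A2 a1 a2 a3 a4 a5 a6 => ?_,
    fun A1 a1 a2 a3 => ⟨?_, ?_⟩⟩
  · exact (ce.ge y.2 x x.2)
  · obtain ⟨g, hg⟩ := X.ten_all cH X.two (st10_of a1 a2 a3) (st10_of a4 a5 a6)
    exact ⟨g, hg.symm⟩
  · obtain ⟨g, rfl⟩ := X.ten_all cH X.two hA (st10_of a1 a2 a3)
    refine ⟨cj g B, ?_, ?_, ?_, ⟨(cjEquiv g B).symm.trans e⟩⟩
    · rw [← cj_normalizer]; exact cj_mono g b1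
    · rw [← cj_inf, b2, cj_bot]
    · rw [← cj_sup, b3, cj_normalizer]
  · obtain ⟨a, b, ha, hb, h1, h2⟩ := X.s5571 cH X.two (st10_of a1 a2 a3)
    exact yO_irr a2 ha hb h1 h2

end Cfsg.Agent.S5570
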