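import Cfsg.Statements.S0160
import Cfsg.Agent.Lib.Hall.FS

set_option autoImplicit false
open Cfsg

namespace Cfsg.Agent.S0160

open scoped Pointwise
open Cfsg.Lib Cfsg.Lib.Hall Cfsg.Lib.Char

/-- A finite group has as many real-valued irreducible complex characters as conjugacy classes closed under taking inverses. -/
theorem result {G : Type*} [Group G] [Finite G] : Nat.card {χ : Cfsg.IrrCharacter G // ∀ g : G, ((χ : G → ℂ) g).im = 0} = Nat.card {C : ConjClasses G // ∀ g : G, ConjClasses.mk g = C → IsConj g g⁻¹} := by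
  classical
  haveI := Fintype.ofFinite G
  haveI := Fintype.ofFinite (ConjClasses G)
  have h1 : (Nat.card {χ : Cfsg.IrrCharacter G // ∀ g : G, ((χ : G → ℂ) g).im = 0} : ℂ) =
      ∑ χ : IrrCharacter G, classInner (χ : G → ℂ) (fun g => (starRingEnd ℂ) ((χ : G → ℂ) g)) := by
    rw [Nat.card_eq_fintype_card, Fintype.card_subtype, Finset.card_filter]
    push_cast
    refine Finset.sum_congr rfl fun χ _ => ?_
    rw [χ.2.classInner_eq_ite χ.2.conj]
    simp only [eq_conj_iff_im]
  have hco : ∀ g : G, ∑ χ : IrrCharacter G, (χ : G → ℂ) g * (starRingEnd ℂ) ((χ : G → ℂ) g⁻¹) =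
      if IsConj g g⁻¹ then (Nat.card (Subgroup.centralizer ({g} : Set G)) : ℂ) else 0 := fun g => by
    rw [Char.column_orthogonality]; congr
  have h2 : IsClassFunction G (fun g => if IsConj g g⁻¹ then
      (Nat.card (Subgroup.centralizer ({g} : Set G)) : ℂ) else 0) := by
    have : (fun g => if IsConj g g⁻¹ then
      (Nat.card (Subgroup.centralizer ({g} : Set G)) : ℂ) else 0) =
        ∑ χ : IrrCharacter G, (χ : G → ℂ) * fun g => (starRingEnd ℂ) ((χ : G → ℂ) g⁻¹) := by
      ext g
      rw [← hco]; simp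
    rw [this]
    exact Char.isClassFunction_sum _ fun χ _ => χ.2.isClassFunction.mul χ.2.isClassFunction.inv.conj
  have h3 : (Nat.card G : ℂ) * ∑ χ : IrrCharacter G,
      classInner (χ : G → ℂ) (fun g => (starRingEnd ℂ) ((χ : G → ℂ) g)) =
      Nat.card G * Nat.card {C : ConjClasses G // ∀ g : G, ConjClasses.mk g = C → IsConj g g⁻¹} := by
    simp only [Finset.mul_sum, Char.card_mul_classInner]
    rw [Finset.sum_comm]
    have e : ∀ (χ : IrrCharacter G) (g : G), (starRingEnd ℂ) ((starRingEnd ℂ) ((χ : G → ℂ) g)) =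
        (starRingEnd ℂ) ((χ : G → ℂ) g⁻¹) := fun χ g => by rw [χ.2.isCharacter.apply_inv]
    simp only [e, hco]
    rw [h2.sum_eq_sum_conjClasses, Nat.card_eq_fintype_card (α := Subtype _), Fintype.card_subtype,
      Finset.card_filter]
    push_cast
    rw [Finset.mul_sum]
    refine Finset.sum_congr rfl fun C _ => ?_
    have hC : ConjClasses.mk C.out = C := Quotient.out_eq C
    have : IsConj C.out C.out⁻¹ ↔ ∀ g : G, ConjClasses.mk g = C → IsConj g g⁻¹ := by
      refine ⟨fun h g hg => ?_, fun h => h _ hC⟩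
      have h4 : IsConj g C.out := ConjClasses.mk_eq_mk_iff_isConj.1 (hg.trans hC.symm)
      obtain ⟨c, hc⟩ := isConj_iff.1 h4
      exact h4.trans (h.trans (isConj_iff.2 ⟨c⁻¹, by rw [← hc]; group⟩))
    simp only [this]
    split_ifs
    · rw [← Nat.cast_mul, Subgroup.index_mul_card, mul_one]
    · simp
  have := mul_left_cancel₀ (Char.card_ne_zero G) h3
  exact_mod_cast h1.trans this

end Cfsg.Agent.S0160
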