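import Cfsg.Statements.S4733
import Cfsg.Agent.Lib.Small.Subsec

set_option autoImplicit false
open Cfsg

namespace Cfsg.Agent.S4733

open Cfsg.Lib.Small Cfsg.Lib.Char Cfsg.Lib.Block Cfsg.Lib.Block2

/-- Let p be a prime, M a maximal ideal of the algebraic integers containing p, and B a p-block of the finite group G with k irreducible characters and p-regular rank l (the number of irreducible Brauer characters). Then l ≤ k, and the following are equivalent: B has defect 0; k = l = 1; k = l. -/
theorem result {G : Type*} [Group G] [Finite G] (p : ℕ) [Fact p.Prime] (M : Ideal Cfsg.AlgInt) (hM : Cfsg.IsPModular p M) (B : Set (Cfsg.IrrCharacter G)) (hB : Cfsg.IsPBlock M B) : Cfsg.blockRank p B ≤ Nat.card B ∧ (Cfsg.blockDefect p B = 0 ↔ (Nat.card B = 1 ∧ Cfsg.blockRank p B = 1)) ∧ (Cfsg.blockDefect p B = 0 ↔ Nat.card B = Cfsg.blockRank p B) := by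
  classical
  haveI := hM.2.1
  haveI := Fintype.ofFinite G
  have h1 := sum_inner_reg_eq_rank hM hB.isBlockUnion
  have h2 : blockDefect p B = 0 → Nat.card B = 1 ∧ blockRank p B = 1 := fun h => by
    obtain ⟨χ, hχ⟩ := hB.nonempty
    have h3 := defectZero_of_blockDefect_eq_zero h hχ
    have h4 : B = {χ} := (hB.eq_blockOf hχ).trans (blockOf_eq_singleton_of_defectZero hM χ h3)
    have h5 : reg p χ.1 = χ.1 := funext fun g => by
      by_cases hg : p ∣ orderOf g
      · rw [reg_of_dvd _ hg, apply_eq_zero_of_isBlockUnion_singleton hM (h4 ▸ hB.isBlockUnion) hg]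
      · exact reg_of_not_dvd _ hg
    rw [show Finset.univ.filter (· ∈ B) = {χ} by ext; simp [h4], Finset.sum_singleton, h5,
      χ.2.classInner_self] at h1
    exact ⟨by simp [h4], by exact_mod_cast h1.symm⟩
  have h6 : ∀ χ : IrrCharacter G, classInner (reg p χ.1) χ.1 =
      1 - classInner (χ.1 - reg p χ.1) (χ.1 - reg p χ.1) := fun χ => by
    rw [classInner_sub_left, classInner_sub_right, classInner_sub_right, classInner_reg_reg,
      classInner_reg_right, χ.2.classInner_self]
    ring
  simp only [h6, Finset.sum_sub_distrib, Finset.sum_const, ← card_block_eq] at h1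
  have h7 := congrArg Complex.re h1
  simp only [Complex.sub_re, Complex.re_sum, nsmul_eq_mul, mul_one, Complex.natCast_re] at h7
  have h8 := fun (χ : IrrCharacter G) (_ : χ ∈ Finset.univ.filter (· ∈ B)) =>
    classInner_self_re_nonneg (χ.1 - reg p χ.1)
  have h9 := Finset.sum_nonneg h8
  refine ⟨by exact_mod_cast (by linarith : (blockRank p B : ℝ) ≤ Nat.card B),
    ⟨h2, fun h => ?_⟩, ⟨fun h => (h2 h).1.trans (h2 h).2.symm, fun h => ?_⟩⟩
  all_goals
    obtain ⟨χ, hχ⟩ := hB.nonempty
    have e : Nat.card B = blockRank p B := by omega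
    have h10 := (Finset.sum_eq_zero_iff_of_nonneg h8).1 (by rw [e] at h7; linarith) χ
      (by simpa using hχ)
    have h11 := classInner_self_eq_zero.1 (Complex.ext h10 (classInner_self_im _))
    refine (blockDefect_eq_zero_iff hM hB hχ).2 (defectZero_of_vanish hM.1 χ.2 ?_)
    rintro y ⟨k, hk⟩ hy
    rw [sub_eq_zero.1 h11]
    refine reg_of_dvd _ (hk ▸ dvd_pow_self _ ?_)
    rintro rfl
    exact hy (orderOf_eq_one_iff.1 hk)

end Cfsg.Agent.S4733
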