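import Cfsg.Statements.S4637
import Cfsg.Agent.Lib.Small.Klein

set_option autoImplicit false
open Cfsg

namespace Cfsg.Agent.S4637

open Cfsg.Lib Cfsg.Lib.Block Cfsg.Lib.Block2 Cfsg.Lib.Char Cfsg.Lib.Amalg Cfsg.Lib.Small Subgroup

/-- Let B be a block of the finite group G relative to a maximal ideal M of the algebraic integers containing 2, with a Klein four defect group P. Let c be a block of C_G(P) inducing B, T the stabilizer of c in N_G(P) and e the index of C_G(P) in T (the inertial index). Then e is 1 or 3, B contains exactly four irreducible characters, and the 2-regular rank of B (its number of irreducible Brauer characters) equals e. -/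
theorem result {G : Type*} [Group G] [Finite G] (M : Ideal Cfsg.AlgInt) (hM : Cfsg.IsPModular 2 M) (B : Set (Cfsg.IrrCharacter G)) (hB : Cfsg.IsPBlock M B) (P : Subgroup G) (hPD : Cfsg.IsDefectGroup 2 M B P) (hV : IsKleinFour P) (c : Set (Cfsg.IrrCharacter (Subgroup.centralizer (P : Set G)))) (hc : Cfsg.IsInducedBlock M (Subgroup.centralizer (P : Set G)) c B) (T : Subgroup G) (hT : ∀ g : G, g ∈ T ↔ (g ∈ Subgroup.normalizer (P : Set G) ∧ Cfsg.StabilizesBlock (Subgroup.centralizer (P : Set G)) c g)) (e : ℕ) (he : (Subgroup.centralizer (P : Set G)).relIndex T = e) : (e = 1 ∨ e = 3) ∧ Nat.card B = 4 ∧ Cfsg.blockRank 2 B = e := by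
  classical
  have := hM.2.1
  haveI := Fintype.ofFinite P
  obtain rfl := eq_stabP_of_forall hc.1 hT
  obtain ⟨B, rfl⟩ := (Set.toFinite B).exists_finset_coe
  obtain ⟨h1, h2, d, X, Y, δ, δ₀, μ, h⟩ := exists_DD_klein hM hB hV (hc.maxP hM hPD)
  obtain rfl : Nat.card (inE P (EB M c)) = e := (card_inE _ _).trans he
  have h4 := hV.card_four
  haveI : Nontrivial P := Finite.one_lt_card_iff_nontrivial.1 (by omega)
  have ab := (IsKleinFour.isMulCommutative (G := P)).is_comm.comm
  refine ⟨h2, ?_, h.rank h1 ab⟩
  have h3 := h.cardY h1 ab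
  rw [show B = X ∪ Y from Finset.ext fun χ => (h.cover χ).trans Finset.mem_union.symm,
    Nat.card_coe_set_eq, Set.ncard_coe_finset, Finset.card_union_of_disjoint h.disj, h.cardX]
  rcases h2 with e | e <;> rw [e] at h3 ⊢ <;> omega

end Cfsg.Agent.S4637
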