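import Cfsg.Statements.S3224
import Cfsg.Agent.Lib.PGrp.TwoMax

set_option autoImplicit false
open Cfsg

namespace Cfsg.Agent.S3224

open Cfsg.Lib.PGrp Subgroup
open scoped commutatorElement

/-- A finite 2-group containing an involution whose centralizer has order 4 is dihedral, quasi-dihedral (semidihedral), or of order 4. -/
theorem result {S : Type*} [Group S] [Finite S] (hS : IsPGroup 2 S)
    (x : S) (hx : orderOf x = 2) (hC : Nat.card ↥(Subgroup.centralizer ({x} : Set S)) = 4) :
    (∃ n : ℕ, Nonempty (S ≃* DihedralGroup n)) ∨ Cfsg.IsQuasiDihedral S ∨ Nat.card S = 4 := by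
  obtain ⟨n, hn⟩ := IsPGroup.iff_card.1 hS
  have h1 : 2 ≤ n := (Nat.pow_dvd_pow_iff_le_right one_lt_two).1 (hn ▸ ((dvd_of_eq hC.symm).trans (card_subgroup_dvd_card _)))
  obtain ⟨_ | m, rfl⟩ := Nat.exists_eq_add_of_le' h1
  · exact Or.inr (Or.inr hn)
  obtain ⟨a, b, h⟩ := exists_max2_of_maxClass (by omega) hn (maxClass_of_centralizer hn hC)
  rcases h.rel with e | e | e
  · exact Or.inl ⟨_, h.dihedral e.1 e.2⟩
  · have h2 := (h.quatData e.1 e.2).eq_z (by positivity) (mem_top x) hx
    rw [← centralizer_zpowers, centralizer_eq_top_of_le_center (zpowers_le.2 (h2 ▸ h.z_mem_center)), card_top,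
      hn] at hC
    have := Nat.pow_right_injective le_rfl (show 2 ^ (m + 1 + 2) = 2 ^ 2 from hC)
    omega
  · exact Or.inr (Or.inl (h.quasiDihedral e.1 e.2.1 e.2.2))

end Cfsg.Agent.S3224
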