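import Cfsg.Statements.S4706
import Cfsg.Agent.Lib.Small.PM1
import Cfsg.Agent.Lib.Perm.Heart
import Cfsg.Agent.S0157

set_option autoImplicit false
open Cfsg

namespace Cfsg.Agent.S4706

open Subgroup MulAction Cfsg.Lib Cfsg.Lib.Small Cfsg.Lib.Amalg Cfsg.Lib.Char Cfsg.Lib.Clifford Cfsg.Lib.Perm Cfsg.Lib.BN

/-- Let p > 2 be a prime and G a permutation group on p letters whose Sylow p-subgroup P has normalizer of order 2p. Then either P is normal in G, or p − 1 = 2^a for some a and G is isomorphic to SL(2, 2^a). -/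
theorem result {α : Type*} [Fintype α] [DecidableEq α] {p : ℕ} [Fact p.Prime] (hp : 2 < p) (hα : Fintype.card α = p) (G : Subgroup (Equiv.Perm α)) (P : Sylow p G) (hN : Nat.card (Subgroup.normalizer ((P : Subgroup G) : Set G)) = 2 * p) : (P : Subgroup G).Normal ∨ ∃ (a : ℕ) (F : Type) (_ : Field F) (_ : Fintype F), p = 2 ^ a + 1 ∧ Fintype.card F = 2 ^ a ∧ Nonempty (G ≃* Matrix.SpecialLinearGroup (Fin 2) F) := by
  classical
  have hpp : p.Prime := Fact.out
  by_cases hb : (P : Subgroup G) = ⊥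
  · exact Or.inl (hb ▸ inferInstance)
  obtain ⟨σ, hσ⟩ := exists_prime_orderOf_dvd_card' (G := G) p
    ((P.2.card_eq_or_dvd.resolve_left fun e => hb (card_eq_one.1 e)).trans (card_subgroup_dvd_card _))
  have hσ1 : orderOf (σ : Equiv.Perm α) = Fintype.card α := by rw [Subgroup.orderOf_coe, hσ, hα]
  have hσ2 := Equiv.Perm.isCycle_of_prime_order'' (hα ▸ hpp) hσ1
  have hσ3 := Finset.eq_univ_of_card _ (hσ2.orderOf.symm.trans hσ1)
  have : IsPretransitive G α := ⟨fun a b => by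
    obtain ⟨i, hi⟩ := hσ2.exists_pow_eq (Equiv.Perm.mem_support.1 (hσ3 ▸ Finset.mem_univ a))
      (Equiv.Perm.mem_support.1 (hσ3 ▸ Finset.mem_univ b))
    exact ⟨σ ^ i, hi⟩⟩
  have hP := primeDeg_card_sylow hα G P
  have hC := (primeDeg_centralizer hα G P).le
  rcases (show p = 3 ∨ 3 < p by omega) with rfl | hp3
  · refine Or.inl (normalizer_eq_top_iff.1 (eq_top_of_le_card _ ?_))
    rw [hN]
    exact Nat.le_of_dvd (by decide) (by have := card_dvd_factorial G; rwa [hα] at this)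
  obtain ⟨c, e, hc1, hc⟩ := primeDeg_coord hα G P
  rcases affine_or_two_transitive hc with h | h2
  · refine Or.inl (hc1 ▸ ⟨fun x ⟨k, hk⟩ g => ?_⟩)
    rw [← hk, ← conj_zpow]
    obtain ⟨a, b, hab⟩ := h g
    refine zpow_mem (coord_translation_mem hc (b := a) fun j => ?_) k
    obtain ⟨i, rfl⟩ := e.symm.surjective j
    obtain ⟨j, hj⟩ := e.surjective (g⁻¹ • i)
    rw [e.apply_symm_apply, mul_smul, mul_smul, ← hj, hc, hab, ← smul_inv_smul g i, ← hj, hab, e.symm_apply_apply,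
      add_right_comm, mul_add, mul_one]
  have hα' : Nat.card α = p := Nat.card_eq_fintype_card.trans hα
  let χ : IrrCharacter G := ⟨_, (S0157.result α (by omega)).2 h2⟩
  have hχ : ∀ g, χ.1 g = Nat.card (fixedBy α g) - 1 := fun _ => rfl
  have hχ1 : χ.1 1 = p - 1 := by rw [hχ, fixedBy_one_eq_univ, Nat.card_congr (Equiv.Set.univ α), hα']
  have hd : charDegree χ.1 + 1 = p := by
    apply Nat.cast_injective (R := ℂ); push_cast; rw [coe_deg, hχ1]; ring
  have hf : ∀ g, χ.1 g = χ.1 1 → g = 1 := fun g hg => by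
    rw [hχ1, hχ, sub_left_inj, Nat.cast_inj, ← hα', Nat.card_coe_set_eq, ← Set.ncard_univ] at hg
    have := Set.eq_of_subset_of_ncard_le (Set.subset_univ _) hg.ge
    exact eq_of_smul_eq_smul fun a : α => by rw [one_smul]; exact (this.symm ▸ Set.mem_univ a : a ∈ fixedBy α g)
  obtain ⟨e, t, X, Y, κ, ε, h⟩ := exists_PB hP P.not_dvd_index
  obtain ⟨D⟩ := h.dOne
  obtain rfl : 2 = e := Nat.eq_of_mul_eq_mul_left hpp.pos (by rw [← h.he, ← D.card_N hC, hN, mul_comm])
  obtain ⟨h1, h3, -, h4, -⟩ := h.pm1 hC hp3 hd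
  have : Nontrivial α := Fintype.one_lt_card_iff_nontrivial.1 (by omega)
  have z := z3_of_three h2 fun g a b c hab hbc hac ha hb hc => by
    by_contra hg
    obtain ⟨r, hr, hd'⟩ := Nat.exists_prime_and_dvd (mt orderOf_eq_one_iff.1 hg)
    have h5 := orderOf_pow_orderOf_div (orderOf_pos g).ne' hd'
    have h6 : 3 ≤ Nat.card (fixedBy α (g ^ (orderOf g / r))) := by
      rw [Nat.card_coe_set_eq, ← Set.ncard_eq_three.2 ⟨a, b, c, hab, hac, hbc, rfl⟩]
      refine Set.ncard_le_ncard (Set.Subset.trans ?_ (fixedBy_subset_fixedBy_zpow α g (orderOf g / r : ℕ) |>.trans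
        (by rw [zpow_natCast])))
      rintro x (rfl | rfl | rfl) <;> assumption
    generalize g ^ (orderOf g / r) = y at h5 h6
    suffices ∃ m : ℕ, m ≤ 2 ∧ χ.1 y = m - 1 by
      obtain ⟨m, h7, h8⟩ := this
      rw [hχ, sub_left_inj, Nat.cast_inj] at h8
      omega
    by_cases e1 : r = p
    · exact ⟨0, by omega, by rw [h.val_X χ ((h1 χ).2 (Or.inr rfl)) y (h5 ▸ e1.symm.dvd), h3]; simp⟩
    by_cases e2 : r = 2
    · exact ⟨1, by omega, by rw [h.val_two hC hp3 hd hf (h5.trans e2)]; simp⟩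
    · exact ⟨2, le_rfl, by
        rw [h.val_odd hC hp3 hd hf (by rw [h5, Nat.prime_dvd_prime_iff_eq hpp hr]; exact Ne.symm e1)
          (h5 ▸ hr.odd_of_ne_two e2) (by rintro rfl; exact hr.one_lt.ne (orderOf_one.symm.trans h5))]
        norm_num⟩
  obtain ⟨a, b, hab⟩ := exists_pair_ne α
  obtain ⟨θ, hθ⟩ := h.exists_Y
  obtain ⟨q, rfl⟩ : ∃ q, p = q + 2 := ⟨p - 2, by omega⟩
  have h5 := z.card_G hab
  have h6 := z.card_E2_dvd hab
  have h7 : Nat.card (z.K a) = q + 1 := by have := z.card_K a; omega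
  have h8 : q ∣ Nat.card G := (show charDegree θ.1 = q by have := h4 θ hθ; omega) ▸ (h.dvd_Y hθ).trans (index_dvd_card _)
  have ho : Odd q := by have := hpp.odd_of_ne_two (by omega); simpa [Nat.odd_add] using this
  rw [h7] at h5 h6
  rw [h5] at h8
  have h9 := Nat.dvd_antisymm h6 (Nat.Coprime.dvd_of_dvd_mul_left (Nat.Coprime.mul_right
    (by rw [add_assoc, Nat.add_sub_cancel, Nat.coprime_self_add_right]; exact (Nat.coprime_two_right.2 ho)) (by simp)) h8)
  obtain ⟨F, _, _, hF, ⟨φ⟩⟩ := psl_of_z3_even z (q := q + 1) hα' ho.add_one (h9 ▸ h5)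
  obtain ⟨m, -, hm⟩ := exists_pow_of_even (hF ▸ ho.add_one)
  obtain ⟨ψ⟩ := Small.nonempty_sl_equiv_psl (F := F) (by rw [Nat.card_eq_fintype_card, hF]; exact ho.add_one)
  exact Or.inr ⟨m, F, inferInstance, inferInstance, by omega, hm, ⟨φ.trans ψ.symm⟩⟩

end Cfsg.Agent.S4706
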