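import Cfsg.Statements.S0236
import Cfsg.Agent.Lib.Invol.Sylow2
import Cfsg.Agent.Lib.Invol.Count

set_option autoImplicit false
open Cfsg

namespace Cfsg.Agent.S0236
open Cfsg.Lib.Invol


/-- If x is an involution, the number of ordered pairs (u, v) of involutions with uv = x, plus one, equals the number of involutions in the centralizer of x. -/
theorem result {G : Type*} [Group G] [Finite G] (x : G) (hx : orderOf x = 2) : Nat.card {p : G × G // orderOf p.1 = 2 ∧ orderOf p.2 = 2 ∧ p.1 * p.2 = x} + 1 = Nat.card {t : G // orderOf t = 2 ∧ Commute t x} := by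
  rw [card_remove (p := fun t : G => orderOf t = 2 ∧ Commute t x) (a := x) ⟨hx, Commute.refl x⟩]
  congr 1
  refine card_eq_of_inverse Prod.fst (fun t => (t, t * x)) ?_ ?_ ?_ (fun _ _ => rfl)
  · rintro ⟨u, v⟩ ⟨hu, hv, rfl⟩
    refine ⟨⟨hu, ?_⟩, fun h => ne_one_of_two hv (by simpa using h)⟩
    exact (commute_of_inverts (left_inverts (mul_self_of_two hu) (mul_self_of_two hv))
      (mul_self_of_two hx)).symm
  · rintro t ⟨⟨ht, htx⟩, hne⟩
    refine ⟨ht, two_of_mul_self ?_ (fun h => hne ?_), ?_⟩
    · change t * x * (t * x) = 1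
      rw [htx.symm.mul_mul_mul_comm, mul_self_of_two ht, mul_self_of_two hx, one_mul]
    · rw [eq_inv_of_mul_eq_one_left h, inv_of_two hx]
    · change t * (t * x) = x
      rw [← mul_assoc, mul_self_of_two ht, one_mul]
  · rintro ⟨u, v⟩ ⟨hu, hv, rfl⟩
    refine Prod.ext rfl ?_
    change u * (u * v) = v
    rw [← mul_assoc, mul_self_of_two hu, one_mul]

end Cfsg.Agent.S0236
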