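import Cfsg.Statements.S0237
import Cfsg.Agent.Lib.Invol.Sylow2
import Cfsg.Agent.Lib.Invol.Count

set_option autoImplicit false
open Cfsg

namespace Cfsg.Agent.S0237
open Cfsg.Lib.Invol


/-- If x is real (conjugate to x⁻¹) in a finite group G, the number of g with g x g⁻¹ = x⁻¹ equals |C_G(x)|. -/
theorem result {G : Type*} [Group G] [Finite G] (x : G) (hreal : IsConj x x⁻¹) : Nat.card {g : G // g * x * g⁻¹ = x⁻¹} = Nat.card (Subgroup.centralizer ({x} : Set G)) := by
  obtain ⟨c, hc⟩ := isConj_iff.mp hreal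
  refine card_eq_of_inverse (fun g => c⁻¹ * g) (fun h => c * h) (fun g h => mem_cent.mpr ?_)
    (fun h hh => ?_) (fun g _ => by simp) (fun g _ => by simp)
  · calc c⁻¹ * g * x = c⁻¹ * (g * x * g⁻¹) * g := by group
      _ = c⁻¹ * (c * x * c⁻¹) * g := by rw [h, hc]
      _ = x * (c⁻¹ * g) := by group
  · have h1 := (mem_cent.mp hh).eq
    calc c * h * x * (c * h)⁻¹ = c * (h * x) * h⁻¹ * c⁻¹ := by group
      _ = c * x * c⁻¹ := by rw [h1]; group
      _ = x⁻¹ := hc

end Cfsg.Agent.S0237
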