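import Cfsg.Statements.S0238
import Cfsg.Agent.Lib.Invol.Sylow2
import Cfsg.Agent.Lib.Invol.Count
import Cfsg.Agent.S0236
import Cfsg.Agent.S0237

set_option autoImplicit false
open Cfsg

namespace Cfsg.Agent.S0238
open Cfsg.Lib.Invol


/-- For every x in a finite group G, the number c of ordered pairs (u, v) of involutions with uv = x is at most |C_G(x)|; c = 0 when x is not conjugate to x⁻¹; and c + 2 ≤ |C_G(x)| when x is an involution. -/
theorem result {G : Type*} [Group G] [Finite G] (x : G) : Nat.card {p : G × G // orderOf p.1 = 2 ∧ orderOf p.2 = 2 ∧ p.1 * p.2 = x} ≤ Nat.card (Subgroup.centralizer ({x} : Set G)) ∧ (¬ IsConj x x⁻¹ → Nat.card {p : G × G // orderOf p.1 = 2 ∧ orderOf p.2 = 2 ∧ p.1 * p.2 = x} = 0) ∧ (orderOf x = 2 → Nat.card {p : G × G // orderOf p.1 = 2 ∧ orderOf p.2 = 2 ∧ p.1 * p.2 = x} + 2 ≤ Nat.card (Subgroup.centralizer ({x} : Set G))) := by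
  have h0 : ¬ IsConj x x⁻¹ → Nat.card {p : G × G // orderOf p.1 = 2 ∧ orderOf p.2 = 2 ∧
      p.1 * p.2 = x} = 0 := by
    intro h
    apply card_eq_zero_of_forall
    rintro ⟨u, v⟩ ⟨hu, hv, rfl⟩
    exact h (isConj_iff.mpr ⟨u, left_inverts (mul_self_of_two hu) (mul_self_of_two hv)⟩)
  refine ⟨?_, h0, fun hx => ?_⟩
  · by_cases h : IsConj x x⁻¹
    · rw [← Cfsg.Agent.S0237.result x h]
      refine card_le_of_inj Prod.fst ?_ ?_
      · rintro ⟨u, v⟩ ⟨hu, hv, rfl⟩
        exact left_inverts (mul_self_of_two hu) (mul_self_of_two hv)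
      · rintro ⟨u, v⟩ ⟨u', v'⟩ ⟨-, -, h1⟩ ⟨-, -, h2⟩ h3
        simp only at h1 h2 h3
        subst h3
        rw [mul_left_cancel (h1.trans h2.symm)]
    · rw [h0 h]; exact Nat.zero_le _
  · have h1 := Cfsg.Agent.S0236.result x hx
    have h2 := card_remove (p := fun t : G => t ∈ Subgroup.centralizer ({x} : Set G)) (a := 1)
      (Subgroup.one_mem _)
    have h3 : Nat.card {t : G // orderOf t = 2 ∧ Commute t x} ≤
        Nat.card {t : G // t ∈ Subgroup.centralizer ({x} : Set G) ∧ t ≠ 1} :=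
      card_le_of_imp fun t ht => ⟨mem_cent.mpr ht.2, ne_one_of_two ht.1⟩
    omega

end Cfsg.Agent.S0238
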