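import Cfsg.Statements.S4458
import Cfsg.Agent.Lib.Clifford.Cd
import Cfsg.Agent.Lib.Core.Nilpotent

set_option autoImplicit false
open Cfsg

namespace Cfsg.Agent.S4458

open Cfsg.Lib Cfsg.Lib.Clifford Cfsg.Lib.Char Finset Subgroup
open scoped commutatorElement

/-- If a finite group has exactly two irreducible character degrees, 1 and m with m ≠ 1, then its commutator subgroup is abelian. -/
theorem result {G : Type*} [Group G] [Finite G] (m : ℕ) (hcd : ∀ χ : Cfsg.IrrCharacter G, Cfsg.charDegree (χ : G → ℂ) = 1 ∨ Cfsg.charDegree (χ : G → ℂ) = m) (hm : ∃ χ : Cfsg.IrrCharacter G, Cfsg.charDegree (χ : G → ℂ) = m) (hm1 : m ≠ 1) : ∀ a ∈ commutator G, ∀ b ∈ commutator G, a * b = b * a := by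
---
  obtain ⟨χ, hχ⟩ := hm
  have h : ∀ χ ∈ Irr (⊤ : Subgroup G), charDegree χ = 1 ∨ charDegree χ = m :=
    fun χ h => hcd ⟨χ, mem_Irr_top.1 h⟩
  have key : ∀ H : Subgroup G, H.index = m → commutator G ≤ H := fun H e =>
    commutator_le_of_deg le_top fun χ hχ => (h χ hχ).imp_right fun a => by rw [relIndex_top_right, e, a]
  intro a ha b hb
  rcases cd_two h ⟨χ, mem_Irr_top.2 χ.2, hχ⟩ hm1 with ⟨A, -, h1, h2⟩ | ⟨p, e, hp, -, P, A, _, _, h1, h2, -, h3⟩
  · exact h1 a (key A h2 ha) b (key A h2 hb)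
  have := Fact.mk hp
  have := h1.isNilpotent
  have : IsMulCommutative A := ⟨⟨fun x y => Subtype.ext (h2 x x.2 y y.2)⟩⟩
  have := Core.isNilpotent_of_isMulCommutative A
  have : Group.IsNilpotent (⊤ : Subgroup G) := h3 ▸ Core.isNilpotent_sup_of_normal P A
  by_contra hc
  obtain ⟨β, hβ, hne⟩ := exists_IrrKer_ne (K := ⊤) (N := ⊥) bot_le (nrm_of_normal _ _)
    (x := ⁅a, b⁆) fun e => hc (commutatorElement_eq_one_iff_mul_comm.1 e)
  have hβ := IrrKer_subset hβ
  have hi := irrOn_of_mem hβ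
  rcases h β hβ with e | e
  · exact hne (hi.linOn_iff.1 (hi.charOn.linOn_of_deg e) _ (commutator_mem_commutator trivial trivial))
  obtain ⟨H, -, lam, hl, e1⟩ := hi.exists_lin_of_nilpotent
  rw [cut_top] at e1
  have h4 := key H (by rw [← e, ← e1, hl.charOn.deg_ind le_top, hl.deg, mul_one, relIndex_top_right])
  have h5 := commutator_mono h4 h4
  exact hne (e1 ▸ Triv.ind (M := ⁅commutator G, commutator G⁆) (triv_kerOn.mono (h5.trans hl.commutator_le))
    (h5.trans (Clifford.commutator_le_self H)) (nrm_of_normal _ _) _ (commutator_mem_commutator ha hb))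

end Cfsg.Agent.S4458
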