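import Cfsg.Statements.S4967
import Mathlib.RepresentationTheory.Irreducible
import Mathlib.RingTheory.Trace.Basic
import Mathlib.FieldTheory.Finite.Basic
import Mathlib.FieldTheory.Normal.Basic
import Mathlib.FieldTheory.Finite.GaloisField


set_option autoImplicit false
open Cfsg

namespace Cfsg.Agent.S4967

open Module Polynomial FiniteField

theorem model.{u, v} {F : Type u} [Field F] {H : Type v} [CommGroup H] {V : Type*} [AddCommGroup V] [Module F V]
    [Nontrivial V] (ρ : Representation F H V)
    (hirr : ∀ U : Submodule F V, (∀ h : H, ∀ u ∈ U, ρ h u ∈ U) → U = ⊥ ∨ U = ⊤) :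
    ∃ (E : Type (max u v)) (_ : Field E) (_ : Algebra F E) (e : V ≃ₗ[F] E) (χ : H →* E),
      ∀ h v, e (ρ h v) = χ h * e v := by
  have : ρ.IsIrreducible :=
    { exists_pair_ne := ⟨⊥, ⊤, fun e => bot_ne_top (congrArg Subrepresentation.toSubmodule e)⟩
      eq_bot_or_eq_top := fun U => (hirr U.toSubmodule fun h u hu => U.apply_mem_toSubmodule h hu).imp
        (fun e => Subrepresentation.toSubmodule_injective e) fun e => Subrepresentation.toSubmodule_injective e }
  obtain ⟨I, hI, ⟨e⟩⟩ := isSimpleModule_iff_quot_maximal.1 (inferInstance : IsSimpleModule (MonoidAlgebra F H) ρ.asModule)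
  refine ⟨MonoidAlgebra F H ⧸ I, Ideal.Quotient.field I, Ideal.Quotient.algebra F,
    ρ.asModuleEquiv.symm.trans (e.restrictScalars F), (Ideal.Quotient.mk I).toMonoidHom.comp (MonoidAlgebra.of F H),
    fun h v => ?_⟩
  simp only [LinearEquiv.trans_apply, LinearEquiv.restrictScalars_apply, Representation.asModuleEquiv_symm_map_rho, map_smul]
  rfl

/-- Let F be a finite field with r elements and of characteristic p, H a finite abelian group of order prime to p, and V a faithful irreducible representation of H over F of dimension n (faithful: distinct elements act differently; irreducible: the only H-invariant subspaces are 0 and V). Call V self-dual when it carries a nondegenerate H-invariant bilinear form. If n = 1 and V is self-dual then H has order at most 2. If n ≥ 2 then V is self-dual if and only if n is even and the order of H divides r^(n/2) + 1. -/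
theorem result {F : Type*} [Field F] [Fintype F] (p : ℕ) [Fact p.Prime] [CharP F p] {H : Type*} [CommGroup H] [Finite H] (hcop : ¬ p ∣ Nat.card H) {V : Type*} [AddCommGroup V] [Module F V] [FiniteDimensional F V] (ρ : Representation F H V) (hfaith : Function.Injective ρ) (hirr : ∀ U : Submodule F V, (∀ h : H, ∀ u ∈ U, ρ h u ∈ U) → U = ⊥ ∨ U = ⊤) : (Module.finrank F V = 1 → (∃ B : LinearMap.BilinForm F V, B.Nondegenerate ∧ ∀ h : H, ∀ x y : V, B (ρ h x) (ρ h y) = B x y) → Nat.card H ≤ 2) ∧ (2 ≤ Module.finrank F V → ((∃ B : LinearMap.BilinForm F V, B.Nondegenerate ∧ ∀ h : H, ∀ x y : V, B (ρ h x) (ρ h y) = B x y) ↔ (Even (Module.finrank F V) ∧ Nat.card H ∣ Fintype.card F ^ (Module.finrank F V / 2) + 1))) := by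
  suffices H : ∀ [Nontrivial V], ((∃ B : LinearMap.BilinForm F V, B.Nondegenerate ∧ ∀ h : H, ∀ x y : V,
      B (ρ h x) (ρ h y) = B x y) → ∃ j < finrank F V, finrank F V ∣ 2 * j ∧ Nat.card H ∣ Fintype.card F ^ j + 1 ∧
      (j = 0 → finrank F V = 1)) ∧ ∀ m, finrank F V = m + m → Nat.card H ∣ Fintype.card F ^ m + 1 →
      ∃ B : LinearMap.BilinForm F V, B.Nondegenerate ∧ ∀ h : H, ∀ x y : V, B (ρ h x) (ρ h y) = B x y by
    refine ⟨fun h1 hB => ?_, fun h2 => ?_⟩
    · have := nontrivial_of_finrank_eq_succ h1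
      obtain ⟨j, a, -, b, -⟩ := H.1 hB
      obtain rfl : j = 0 := by omega
      exact Nat.le_of_dvd two_pos b
    have := nontrivial_of_finrank_pos (R := F) (M := V) (by omega)
    refine ⟨fun hB => ?_, fun ⟨⟨m, hm⟩, h⟩ => H.2 m hm (by rwa [hm, show (m + m) / 2 = m by omega] at h)⟩
    obtain ⟨j, a, ⟨c, hc⟩, b, d⟩ := H.1 hB
    obtain rfl : c = 1 := by
      rcases c with _ | _ | c
      · omega
      · rfl
      · nlinarith
    exact ⟨⟨j, by omega⟩, by rwa [show finrank F V / 2 = j by omega]⟩
  intro _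
  obtain ⟨E, _, _, e, χ, he⟩ := model ρ hirr
  have := e.finiteDimensional
  have := Module.finite_of_finite F (M := E)
  have hi : Function.Injective χ := fun a b h => hfaith (LinearMap.ext fun v => e.injective (by rw [he, he, h]))
  have := isCyclic_of_injective_ringHom χ hi
  obtain ⟨g, hg⟩ := IsCyclic.exists_monoid_generator (α := H)
  have hf : ∀ τ : Gal(E/F), τ (χ g) = χ g → τ = 1 := fun τ hτ => by
    have h1 : ∀ h, τ (χ h) = χ h := fun h => by obtain ⟨k, rfl⟩ := hg h; simp only [map_pow, hτ]
    rcases hirr (LinearMap.ker ((τ.toLinearMap - LinearMap.id) ∘ₗ e.toLinearMap)) fun h u hu => by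
      simp only [LinearMap.mem_ker, LinearMap.comp_apply, LinearMap.sub_apply, sub_eq_zero] at hu ⊢
      simpa [he, h1] using Or.inl hu with h | h
    · have : e.symm 1 = 0 := (Submodule.eq_bot_iff _).1 h _ (by simp)
      simp at this
    · ext x
      have : e.symm x ∈ _ := h.ge trivial
      simpa [sub_eq_zero] using this
  have hp : ∀ j x, (frobeniusAlgEquivOfAlgebraic F E ^ j) x = x ^ Fintype.card F ^ j := fun j x => by
    rw [AlgEquiv.coe_pow, coe_frobeniusAlgEquivOfAlgebraic_iterate]
  have ho := orderOf_frobeniusAlgEquivOfAlgebraic F E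
  rw [e.finrank_eq]
  refine ⟨fun ⟨B, hB, hv⟩ => ?_, fun m hm hd => ⟨(Algebra.traceForm F E).compl₁₂ e.toLinearMap
    ((frobeniusAlgEquivOfAlgebraic F E ^ m).toLinearMap ∘ₗ e.toLinearMap), ?_, fun h x y => ?_⟩⟩
  · have h1 : ∀ (q : F[X]) x y, B (e.symm (aeval (χ g) q * x)) (e.symm y) = B (e.symm x) (e.symm (aeval (χ g⁻¹) q * y)) := by
      intro q
      induction q using Polynomial.induction_on' with
      | add a b ha hb => intro x y; simp [add_mul, ha, hb]
      | monomial n a =>
        intro x y
        have : ∀ h x, e.symm (χ h * x) = ρ h (e.symm x) := fun h x => by rw [e.symm_apply_eq, he, e.apply_symm_apply]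
        simp only [aeval_monomial, ← map_pow, ← Algebra.smul_def, smul_mul_assoc, map_smul, this, LinearMap.smul_apply]
        rw [← hv (g⁻¹ ^ n), inv_pow, Representation.inv_self_apply]
    have h2 : aeval (χ g⁻¹) (minpoly F (χ g)) = 0 := by
      have := hB.2 (e.symm (aeval (χ g⁻¹) (minpoly F (χ g)) * 1)) fun x => by
        rw [← e.symm_apply_apply x, ← h1, minpoly.aeval]; simp
      simpa using this
    obtain ⟨σ, hσ⟩ := minpoly.exists_algEquiv_of_root' (Algebra.IsAlgebraic.isAlgebraic _) h2
    obtain ⟨⟨j, hj⟩, rfl⟩ := (bijective_frobeniusAlgEquivOfAlgebraic_pow F E).2 σ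
    dsimp only at hσ
    refine ⟨j, hj, ?_, ?_, fun h0 => ?_⟩
    · rw [← ho, orderOf_dvd_iff_pow_eq_one, two_mul, pow_add]
      refine hf _ ?_
      rw [AlgEquiv.mul_apply, hσ, map_inv χ, map_inv₀, hσ, map_inv χ, inv_inv]
    · rw [← orderOf_eq_card_of_forall_mem_powers hg, orderOf_dvd_iff_pow_eq_one]
      refine hi ?_
      rw [pow_succ, map_mul, map_pow, ← hp, hσ, ← map_mul, inv_mul_cancel]
    · rw [← ho, orderOf_eq_one_iff]
      refine hf _ ?_
      simp only [h0, pow_zero, AlgEquiv.one_apply] at hσ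
      have : χ g ^ 2 = 1 := by rw [pow_two]; nth_rw 1 [hσ]; rw [← map_mul, inv_mul_cancel, map_one]
      rcases sq_eq_one_iff.1 this with h | h <;> simp only [h, map_neg, map_one]
  · have := traceForm_nondegenerate F E
    refine ⟨fun x hx => e.injective ((this.1 _ fun y => ?_).trans (map_zero e).symm), fun y hy => ?_⟩
    · simpa using hx (e.symm ((frobeniusAlgEquivOfAlgebraic F E ^ m).symm y))
    · have := this.2 ((frobeniusAlgEquivOfAlgebraic F E ^ m) (e y)) fun x => by simpa using hy (e.symm x)
      simpa only [map_eq_zero_iff _ (AlgEquiv.injective _), e.map_eq_zero_iff] using this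
  · have : χ h * χ h ^ Fintype.card F ^ m = 1 := by
      rw [← pow_succ', ← map_pow, orderOf_dvd_iff_pow_eq_one.1 ((orderOf_dvd_natCard h).trans hd), map_one]
    simp only [LinearMap.compl₁₂_apply, LinearMap.comp_apply, LinearEquiv.coe_coe, he, AlgEquiv.toLinearMap_apply, map_mul,
      Algebra.traceForm_apply, hp m (χ h), mul_mul_mul_comm (χ h), this, one_mul]

end Cfsg.Agent.S4967
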