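import Cfsg.Statements.S4966
import Cfsg.Agent.Lib.Char.Rep
import Mathlib.LinearAlgebra.Matrix.BilinearForm


set_option autoImplicit false
open Cfsg

namespace Cfsg.Agent.S4966

open Module LinearMap Submodule Cfsg.Lib.Char

variable {F : Type*} [Field F] {G : Type*} [Group G] {V : Type*} [AddCommGroup V] [Module F V]
  (ρ : Representation F G V)

def Iv (U : Submodule F V) : Prop := ∀ g, ∀ u ∈ U, ρ g u ∈ U

def Fi (S : LinearMap.BilinForm F V) (U : Submodule F V) : Prop := ∀ g, ∀ x ∈ U, ∀ y ∈ U, S (ρ g x) (ρ g y) = S x y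

def Nd (S : LinearMap.BilinForm F V) (U : Submodule F V) : Prop := ∀ x ∈ U, (∀ y ∈ U, S x y = 0) → x = 0

def lp (S : LinearMap.BilinForm F V) (Y U : Submodule F V) : Submodule F V := Y ⊓ ker (S.domRestrict₂ U)

variable {ρ} {B S T : LinearMap.BilinForm F V} {X Y Z : Submodule F V}

theorem mem_lp {x : V} : x ∈ lp S Y X ↔ x ∈ Y ∧ ∀ y ∈ X, S x y = 0 := by
  simp [lp, LinearMap.ext_iff, domRestrict₂_apply]

theorem Iv.lp (hY : Iv ρ Y) (hX : Iv ρ X) (h : X ≤ Y) (hS : Fi ρ S Y) : Iv ρ (lp S Y X) := fun g u hu =>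
  mem_lp.2 ⟨hY g u (mem_lp.1 hu).1, fun y hy => by
    rw [← ρ.self_inv_apply g y, hS _ _ (mem_lp.1 hu).1 _ (h (hX _ _ hy)), (mem_lp.1 hu).2 _ (hX _ _ hy)]⟩

theorem Iv.sup (hX : Iv ρ X) (hZ : Iv ρ Z) : Iv ρ (X ⊔ Z) := fun g u hu => by
  obtain ⟨x, hx, z, hz, rfl⟩ := mem_sup.1 hu
  exact map_add (ρ g) x z ▸ add_mem_sup (hX g x hx) (hZ g z hz)

theorem proj (h : Disjoint X Z) : ∃ π : V →ₗ[F] V, (∀ x ∈ X, π x = x) ∧ (∀ z ∈ Z, π z = 0) ∧ ∀ v, π v ∈ X := by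
  obtain ⟨W, a, b⟩ := h.symm.exists_isCompl
  exact ⟨X.projection W b.symm, fun x hx => projection_apply_left _ ⟨x, hx⟩,
    fun z hz => projection_apply_right _ ⟨z, a hz⟩, projection_apply_mem _⟩

theorem comb (h : Disjoint X Z) (hX : Iv ρ X) (hZ : Iv ρ Z) (s1 : Fi ρ S X) (s2 : Nd S X)
    (s3 : ∀ x ∈ X, ∀ y ∈ X, S x y = S y x) (t1 : Fi ρ T Z) (t2 : Nd T Z) (t3 : ∀ x y, T x y = T y x) :
    ∃ R : LinearMap.BilinForm F V, (∀ x y, R x y = R y x) ∧ Fi ρ R (X ⊔ Z) ∧ Nd R (X ⊔ Z) := by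
  obtain ⟨π, a, b, c⟩ := proj h
  let R : LinearMap.BilinForm F V := S.compl₁₂ π π + T.compl₁₂ (1 - π) (1 - π)
  have e : ∀ x ∈ X, ∀ z ∈ Z, ∀ y ∈ X, ∀ w ∈ Z, R (x + z) (y + w) = S x y + T z w := fun x hx z hz y hy w hw => by
    simp [R, a _ hx, a _ hy, b _ hz, b _ hw]
  refine ⟨R, fun x y => by simp only [R, LinearMap.add_apply, compl₁₂_apply, s3 _ (c x) _ (c y), t3 ((1 - π) x)],
    fun g u hu v hv => ?_, fun u hu hv => ?_⟩
  · obtain ⟨x, hx, z, hz, rfl⟩ := mem_sup.1 hu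
    obtain ⟨y, hy, w, hw, rfl⟩ := mem_sup.1 hv
    rw [map_add (ρ g), map_add (ρ g), e _ (hX _ _ hx) _ (hZ _ _ hz) _ (hX _ _ hy) _ (hZ _ _ hw), e _ hx _ hz _ hy _ hw,
      s1 _ _ hx _ hy, t1 _ _ hz _ hw]
  · obtain ⟨x, hx, z, hz, rfl⟩ := mem_sup.1 hu
    rw [s2 x hx fun y hy => by simpa using (e _ hx _ hz _ hy _ Z.zero_mem).symm.trans (hv _ (add_mem_sup hy Z.zero_mem)),
      t2 z hz fun y hy => by simpa using (e _ hx _ hz _ X.zero_mem _ hy).symm.trans (hv _ (add_mem_sup X.zero_mem hy)),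
      add_zero]

theorem split [FiniteDimensional F V] (h : X ≤ Y) (hX : Nd B X) (hY : Nd B Y) :
    Disjoint X (lp B Y X) ∧ X ⊔ lp B Y X = Y ∧ Nd B (lp B Y X) := by
  have e : X ⊔ lp B Y X = Y := le_antisymm (sup_le h inf_le_left) fun y hy => by
    have hn : (B.restrict X).Nondegenerate := .ofSeparatingLeft fun x hx =>
      Subtype.ext (hX _ x.2 fun y hy => hx ⟨y, hy⟩)
    let x := ((B.restrict X).toDual hn).symm (B y ∘ₗ X.subtype)
    refine mem_sup.2 ⟨x, x.2, y - x, mem_lp.2 ⟨sub_mem hy (h x.2), fun z hz => ?_⟩, by simp⟩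
    rw [map_sub, LinearMap.sub_apply, sub_eq_zero]
    exact (BilinForm.apply_toDual_symm_apply (hB := hn) (B y ∘ₗ X.subtype) ⟨z, hz⟩).symm
  refine ⟨disjoint_def.2 fun x a b => hX x a (mem_lp.1 b).2, e, fun y a b => hY y (mem_lp.1 a).1 fun z hz => ?_⟩
  obtain ⟨x, hx, w, hw, rfl⟩ := mem_sup.1 (e.ge hz)
  rw [map_add, (mem_lp.1 a).2 x hx, b w hw, add_zero]

theorem step [Finite G] [NeZero (Nat.card G : F)] (hY : Iv ρ Y) (b1 : Fi ρ B Y) (b2 : Nd B Y)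
    (h : lp (B - B.flip) Y Y ≠ ⊥) : ∃ X ≤ Y, X ≠ ⊥ ∧ Iv ρ X ∧ Nd B X ∧ ∃ S : LinearMap.BilinForm F V,
      Fi ρ S X ∧ Nd S X ∧ ∀ x ∈ X, ∀ y ∈ X, S x y = S y x := by
  have r1 : Iv ρ (lp (B - B.flip) Y Y) := hY.lp hY le_rfl fun g x hx y hy => by simp [b1 g x hx y hy, b1 g y hy x hx]
  have r2 : ∀ x ∈ lp (B - B.flip) Y Y, ∀ y ∈ Y, B x y = B y x := fun x hx y hy => by
    simpa [sub_eq_zero] using (mem_lp.1 hx).2 y hy
  have r3 : lp (B - B.flip) Y Y ≤ Y := inf_le_left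
  generalize lp (B - B.flip) Y Y = R at *
  have r4 : Fi ρ B R := fun g x hx y hy => b1 g x (r3 hx) y (r3 hy)
  by_cases hM : lp B R R = ⊥
  · have : Nd B R := fun x a b => (Submodule.eq_bot_iff _).1 hM x (mem_lp.2 ⟨a, b⟩)
    exact ⟨R, r3, h, r1, this, B, r4, this, fun x hx y hy => r2 x hx y (r3 hy)⟩
  have m1 := r1.lp r1 le_rfl r4
  have m2 : ∀ x ∈ lp B R R, ∀ y ∈ lp B R R, B x y = 0 := fun x hx y hy => (mem_lp.1 hx).2 y (mem_lp.1 hy).1
  have m3 : lp B R R ≤ R := inf_le_left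
  generalize lp B R R = M at *
  obtain ⟨⟨N', n1⟩, n2⟩ := exists_isCompl (⟨lp B Y M, fun g v h => hY.lp m1 (m3.trans r3) b1 g v h⟩ : Subrepresentation ρ)
  replace n2 : IsCompl (lp B Y M) N' := isCompl_toSubmodule n2
  have n3 : Iv ρ (N' ⊓ Y) := fun g u hu => ⟨n1 g hu.1, hY g u hu.2⟩
  have n4 : ∀ n ∈ N' ⊓ Y, (∀ m ∈ M, B n m = 0) → n = 0 := fun n a b =>
    disjoint_def.1 n2.disjoint n (mem_lp.2 ⟨a.2, b⟩) a.1
  have n5 : ∀ m ∈ M, (∀ n ∈ N' ⊓ Y, B m n = 0) → m = 0 := fun m a b => b2 m (r3 (m3 a)) fun y hy => by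
    obtain ⟨z, hz, w, hw, rfl⟩ := mem_sup.1 (n2.sup_eq_top.ge (mem_top (x := y)))
    rw [map_add, b w ⟨hw, (add_mem_cancel_left (mem_lp.1 hz).1).1 hy⟩, r2 m (m3 a) z (mem_lp.1 hz).1,
      (mem_lp.1 hz).2 m a, add_zero]
  have n6 : N' ⊓ Y ≤ Y := inf_le_right
  generalize N' ⊓ Y = N at *
  obtain ⟨π, a, b, -⟩ := proj (X := M) (Z := N) (disjoint_def.2 fun x a b => n4 x b (m2 x a))
  let S : LinearMap.BilinForm F V := B ∘ₗ π + (B ∘ₗ π).flip
  have e : ∀ x ∈ M, ∀ z ∈ N, ∀ y ∈ M, ∀ w ∈ N, S (x + z) (y + w) = B x w + B y z := fun x hx z hz y hy w hw => by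
    simp [S, a _ hx, a _ hy, b _ hz, b _ hw, m2 _ hx _ hy, m2 _ hy _ hx]
  refine ⟨M ⊔ N, sup_le (m3.trans r3) n6, fun e => hM (le_bot_iff.1 (le_sup_left.trans e.le)), m1.sup n3,
    fun u hu hv => ?_, S, fun g u hu v hv => ?_, fun u hu hv => ?_, fun x _ y _ => add_comm _ _⟩
  · obtain ⟨x, hx, z, hz, rfl⟩ := mem_sup.1 hu
    obtain rfl := n4 z hz fun m hm => by simpa [m2 x hx m hm] using hv m (mem_sup_left hm)
    exact (add_zero x).trans (n5 x hx fun n hn => by simpa using hv n (mem_sup_right hn))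
  · obtain ⟨x, hx, z, hz, rfl⟩ := mem_sup.1 hu
    obtain ⟨y, hy, w, hw, rfl⟩ := mem_sup.1 hv
    rw [map_add (ρ g), map_add (ρ g), e _ (m1 _ _ hx) _ (n3 _ _ hz) _ (m1 _ _ hy) _ (n3 _ _ hw), e _ hx _ hz _ hy _ hw,
      b1 _ _ (r3 (m3 hx)) _ (n6 hw), b1 _ _ (r3 (m3 hy)) _ (n6 hz)]
  · obtain ⟨x, hx, z, hz, rfl⟩ := mem_sup.1 hu
    obtain rfl := n4 z hz fun m hm => by
      simpa [r2 m (m3 hm) z (n6 hz)] using (e _ hx _ hz _ hm _ N.zero_mem).symm.trans (hv _ (add_mem_sup hm N.zero_mem))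
    exact (add_zero x).trans (n5 x hx fun n hn => by
      simpa using (e _ hx _ hz _ M.zero_mem _ hn).symm.trans (hv _ (add_mem_sup M.zero_mem hn)))

theorem main [Finite G] [NeZero (Nat.card G : F)] [FiniteDimensional F V] (Y : Submodule F V) : Iv ρ Y → Fi ρ B Y →
    Nd B Y → ∃ U W, Disjoint U W ∧ U ⊔ W = Y ∧ Iv ρ U ∧ Iv ρ W ∧
      (∃ A : LinearMap.BilinForm F V, (∀ x, A x x = 0) ∧ Fi ρ A U ∧ Nd A U) ∧
      ∃ S : LinearMap.BilinForm F V, (∀ x y, S x y = S y x) ∧ Fi ρ S W ∧ Nd S W := by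
  induction Y using WellFoundedLT.induction with
  | _ Y ih =>
  intro hY b1 b2
  by_cases h : lp (B - B.flip) Y Y = ⊥
  · exact ⟨Y, ⊥, disjoint_bot_right, sup_bot_eq _, hY, fun g u hu => by simp_all, ⟨B - B.flip, by simp,
      fun g x hx y hy => by simp [b1 g x hx y hy, b1 g y hy x hx],
      fun x a b => (Submodule.eq_bot_iff _).1 h x (mem_lp.2 ⟨a, b⟩)⟩, 0, by simp, fun _ => by simp, fun _ a _ => a⟩
  obtain ⟨X, x1, x2, x3, x4, S, s1, s2, s3⟩ := step hY b1 b2 h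
  obtain ⟨y1, y2, y3⟩ := split x1 x4 b2
  obtain ⟨U, W, a, b, c, d, e, T, t1, t2, t3⟩ := ih (lp B Y X) (lt_of_le_of_ne inf_le_left fun e =>
    x2 (disjoint_self.1 (y1.mono_right (x1.trans e.ge)))) (hY.lp x3 x1 b1)
    (fun g x hx y hy => b1 g x hx.1 y hy.1) y3
  rw [← b] at y1 y2
  exact ⟨U, X ⊔ W, (a.disjoint_sup_right_of_disjoint_sup_left y1.symm).mono_right (sup_comm _ _).le, by rw [← y2]; ac_rfl, c, x3.sup d, e,
    comb (y1.mono_right le_sup_right) x3 d s1 s2 s3 t2 t3 t1⟩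

/-- Let F be a finite field of characteristic p, G a finite group of order prime to p, and V a finite-dimensional representation of G over F carrying a nondegenerate G-invariant bilinear form (equivalently, V is self-dual). Then V is the direct sum of two G-invariant subspaces U and W such that U carries a G-invariant alternating bilinear form that is nondegenerate on U and W carries a G-invariant symmetric bilinear form that is nondegenerate on W; moreover when p = 2 the decomposition can be chosen with G acting trivially on W. -/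
theorem result {F : Type*} [Field F] [Fintype F] (p : ℕ) [Fact p.Prime] [CharP F p] {G : Type*} [Group G] [Finite G] (hcop : ¬ p ∣ Nat.card G) {V : Type*} [AddCommGroup V] [Module F V] [FiniteDimensional F V] (ρ : Representation F G V) (B : LinearMap.BilinForm F V) (hB : B.Nondegenerate) (hBinv : ∀ g : G, ∀ x y : V, B (ρ g x) (ρ g y) = B x y) : ∃ U W : Submodule F V, IsCompl U W ∧ (∀ g : G, ∀ u ∈ U, ρ g u ∈ U) ∧ (∀ g : G, ∀ w ∈ W, ρ g w ∈ W) ∧ (∃ A : LinearMap.BilinForm F V, (∀ x : V, A x x = 0) ∧ (∀ g : G, ∀ x ∈ U, ∀ y ∈ U, A (ρ g x) (ρ g y) = A x y) ∧ (∀ x ∈ U, (∀ y ∈ U, A x y = 0) → x = 0)) ∧ (∃ S : LinearMap.BilinForm F V, (∀ x y : V, S x y = S y x) ∧ (∀ g : G, ∀ x ∈ W, ∀ y ∈ W, S (ρ g x) (ρ g y) = S x y) ∧ (∀ x ∈ W, (∀ y ∈ W, S x y = 0) → x = 0)) ∧ (p = 2 → ∀ g : G, ∀ w ∈ W, ρ g w = w) := by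
  have : NeZero (Nat.card G : F) := ⟨mt (CharP.cast_eq_zero_iff F p _).1 hcop⟩
  obtain ⟨U, W, a, b, c, d, ⟨A, a1, a2, a3⟩, S, s1, s2, s3⟩ := main (ρ := ρ) (B := B) ⊤ (fun _ _ _ => trivial)
    (fun g x _ y _ => hBinv g x y) fun x _ h => hB.1 x fun y => h y trivial
  by_cases hp : p = 2
  swap
  · exact ⟨U, W, ⟨a, codisjoint_iff.2 b⟩, c, d, ⟨A, a1, a2, a3⟩, ⟨S, s1, s2, s3⟩, fun h => (hp h).elim⟩
  subst hp
  have := Fintype.ofFinite G
  obtain ⟨R, r1, r2, r3⟩ := comb a c d a2 a3 (fun x _ y _ => by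
    rw [← IsAlt.neg a1, CharTwo.neg_eq]) s2 s3 s1
  rw [b] at r2 r3
  have h1 : ∀ v, ∑ g, ρ g v ∈ ρ.invariants := fun v g => by
    rw [map_sum]
    exact Fintype.sum_equiv (Equiv.mulLeft g) _ _ fun k => by simp
  have h2 : ∀ x : F, ∑ _g : G, x = 0 → x = 0 := fun x h => by
    simpa [← Nat.card_eq_fintype_card, NeZero.ne (Nat.card G : F)] using h
  have h3 : Nd R ρ.invariants := fun x a b => r3 x trivial fun v _ => h2 _ (by
    rw [← b _ (h1 v), map_sum]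
    exact Finset.sum_congr rfl fun g _ => by rw [← r2 g x trivial v trivial, a g])
  have h4 : Iv ρ ρ.invariants := fun g u hu => (hu g).symm ▸ hu
  obtain ⟨y1, y2, y3⟩ := split le_top h3 r3
  have y4 : Iv ρ (lp R ⊤ ρ.invariants) := Iv.lp (fun _ _ _ => trivial) h4 le_top r2
  generalize lp R ⊤ ρ.invariants = Z at *
  obtain ⟨π, p1, -, p2⟩ := proj y1.symm
  refine ⟨Z, ρ.invariants, ⟨y1.symm, codisjoint_iff.2 ((sup_comm _ _).trans y2)⟩, y4, h4, ⟨R.compl₁₂ π π, fun x => ?_,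
    fun g x hx y hy => ?_, fun x hx h => y3 x hx fun y hy => by simpa [p1 _ hx, p1 _ hy] using h y hy⟩,
    ⟨R, r1, fun g x _ y _ => r2 g x trivial y trivial, h3⟩, fun _ g w hw => hw g⟩
  · let q : V →+ F := AddMonoidHom.mk' (fun x => R x x) fun x y => by
      simp only [map_add, LinearMap.add_apply, r1 x y]
      linear_combination CharTwo.add_self_eq_zero (R y x)
    refine h2 _ ?_
    have := congrArg q (disjoint_def.1 y1 _ (h1 (π x)) (sum_mem fun g _ => y4 g _ (p2 x)))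
    rw [map_sum, map_zero] at this
    exact (Finset.sum_congr rfl fun g _ => (r2 g _ trivial _ trivial).symm).trans this
  · simp only [compl₁₂_apply, p1 _ hx, p1 _ hy, p1 _ (y4 g _ hx), p1 _ (y4 g _ hy), r2 g x trivial y trivial]

end Cfsg.Agent.S4966
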