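import Cfsg.Statements.S4278
import Cfsg.Agent.Lib.Chev.InvOdd

set_option autoImplicit false
open Cfsg Cfsg.Lie Cfsg.Lib.Chev Cfsg.Lib.Twist

namespace Cfsg.Agent.S4278

/-- In the Chevalley group of type G₂ over a finite field of odd order, any two involutions are conjugate. -/
theorem result {F : Type*} [Field F] [Fintype F] (hF : Odd (Fintype.card F)) (s t : ↥(Cfsg.Lie.chevG2.group F)) (hs : orderOf s = 2) (ht : orderOf t = 2) : IsConj s t := by
  obtain ⟨b, h1, h2⟩ := compat_G2.exists_inv2 matOK_G2 (by simp) hF rootOK_G2.R_A orb_G2 hs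
  obtain ⟨b', h1', h2'⟩ := compat_G2.exists_inv2 matOK_G2 (by simp) hF rootOK_G2.R_A orb_G2 ht
  rw [List.mem_singleton] at h1 h1'
  subst h1 h1'
  exact h2.trans h2'.symm

end Cfsg.Agent.S4278
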