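import Cfsg.Statements.S4279
import Cfsg.Agent.Lib.Chev.G2SL
import Cfsg.Agent.Lib.Core.Basic
import Cfsg.Agent.Lib.Linear.Card

set_option autoImplicit false
open Cfsg Cfsg.Lie Cfsg.Lib.Chev Cfsg.Lib.Twist

namespace Cfsg.Agent.S4279

/-- In the Chevalley group G of type G₂ over a finite field F of odd order q, the centralizer of an involution t has order q²(q² − 1)² and contains two elementwise commuting subgroups, each isomorphic to SL(2, F), which meet exactly in the subgroup generated by t and whose join has index 2 in the centralizer. -/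
theorem result {F : Type*} [Field F] [Fintype F] (hF : Odd (Fintype.card F)) (t : ↥(Cfsg.Lie.chevG2.group F)) (ht : orderOf t = 2) : Nat.card (Subgroup.centralizer ({t} : Set ↥(Cfsg.Lie.chevG2.group F))) = Fintype.card F ^ 2 * (Fintype.card F ^ 2 - 1) ^ 2 ∧ ∃ L₁ L₂ : Subgroup ↥(Cfsg.Lie.chevG2.group F), Nonempty (L₁ ≃* Matrix.SpecialLinearGroup (Fin 2) F) ∧ Nonempty (L₂ ≃* Matrix.SpecialLinearGroup (Fin 2) F) ∧ (∀ x ∈ L₁, ∀ y ∈ L₂, x * y = y * x) ∧ L₁ ⊓ L₂ = Subgroup.zpowers t ∧ L₁ ⊔ L₂ ≤ Subgroup.centralizer ({t} : Set ↥(Cfsg.Lie.chevG2.group F)) ∧ (L₁ ⊔ L₂).relIndex (Subgroup.centralizer ({t} : Set ↥(Cfsg.Lie.chevG2.group F))) = 2 := by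
  obtain ⟨b, h1, h2⟩ := compat_G2.exists_inv2 matOK_G2 (by simp) hF rootOK_G2.R_A orb_G2 ht
  obtain rfl := List.mem_singleton.1 h1
  have h0 := fun k => one_le_pow_card (F := F) k
  have h3 := h0 1
  have c1 := (card_cent_conj h2).trans (card_cent_tor rootOK_G2 chkCW_G2 (b := 1) (N := 2) two_pos chainG2_1 (by decide +kernel) (by decide +kernel)
    (compat_G2.gst matOK_G2) (compat_G2.gmult matOK_G2) (compat_G2.gsep matOK_G2) (compat_G2.gopp matOK_G2)
    (compat_G2.ggen matOK_G2) (compat_G2.gsc matOK_G2 (by simp) F) (prim_neg_one hF)).2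
  rw [Nat.card_eq_fintype_card (α := F)] at c1
  simp only [Nat.card_eq_fintype_card, pow_one] at h0 h3
  replace c1 := c1.trans (show _ = Fintype.card F ^ 2 * (Fintype.card F ^ 2 - 1) ^ 2 by
    simp only [gsG2_1, horner, List.map, List.foldr, List.prod_cons, List.prod_nil, show chevG2.rank = 2 from rfl]
    zify [h0, h3]; ring)
  obtain ⟨φ₀, ψ₀, a1, a2, a3, a4, a5⟩ := exists_sl2_pair F
  obtain ⟨c, hc⟩ := isConj_iff.1 h2.symm
  let φ := (MulAut.conj c).toMonoidHom.comp φ₀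
  let ψ := (MulAut.conj c).toMonoidHom.comp ψ₀
  have b1 : Function.Injective φ := (MulAut.conj c).injective.comp a1
  have b2 : Function.Injective ψ := (MulAut.conj c).injective.comp a2
  have b3 : ∀ x ∈ φ.range, ∀ y ∈ ψ.range, x * y = y * x := by
    rintro _ ⟨x, rfl⟩ _ ⟨y, rfl⟩
    exact (map_mul (MulAut.conj c) _ _).symm.trans ((congrArg _ (a3 x y)).trans (map_mul (MulAut.conj c) _ _))
  have b4 : φ (-1) = t := by rw [← hc, ← a4]; rfl
  have b5 : ψ (-1) = t := by rw [← hc, ← a5]; rfl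
  have b6 : φ.range ⊓ ψ.range = Subgroup.zpowers t := by
    refine le_antisymm ?_ (Subgroup.zpowers_le.2 ⟨⟨_, b4⟩, ⟨_, b5⟩⟩)
    rintro _ ⟨⟨x, rfl⟩, hx⟩
    obtain ⟨r, h4, h5⟩ := Matrix.SpecialLinearGroup.mem_center_iff.1 (Subgroup.mem_center_iff.2 fun y => b1 (by
      rw [map_mul, map_mul]; exact b3 _ ⟨y, rfl⟩ _ hx) : x ∈ Subgroup.center _)
    rcases sq_eq_one_iff.1 (show r ^ 2 = 1 from h4) with rfl | rfl
    · rw [show x = 1 from Subtype.ext (by simpa using h5.symm), map_one]; exact one_mem _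
    · rw [show x = -1 from Subtype.ext (h5.symm.trans (by simp [map_neg, -Matrix.scalar_apply])), b4]; exact Subgroup.mem_zpowers _
  have b7 : φ.range ⊔ ψ.range ≤ Subgroup.centralizer {t} := sup_le
    (fun x hx => Subgroup.mem_centralizer_singleton_iff.2 (b3 x hx t ⟨_, b5⟩))
    fun x hx => Subgroup.mem_centralizer_singleton_iff.2 (b3 t ⟨_, b4⟩ x hx).symm
  refine ⟨c1, φ.range, ψ.range, ⟨(MonoidHom.ofInjective b1).symm⟩, ⟨(MonoidHom.ofInjective b2).symm⟩, b3, b6, b7, ?_⟩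
  have b8 := Cfsg.Lib.Core.card_sup_mul_card_inf (H := φ.range) (K := ψ.range)
    ((show φ.range ≤ Subgroup.centralizer ψ.range from fun x hx y hy => (b3 x hx y hy).symm).trans (Subgroup.centralizer_le_normalizer _))
  rw [b6, Nat.card_zpowers, ht, ← Nat.card_congr (MonoidHom.ofInjective b1).toEquiv, ← Nat.card_congr (MonoidHom.ofInjective b2).toEquiv,
    Cfsg.Lib.Linear.card_SL_two, Nat.card_eq_fintype_card (α := F)] at b8
  have b9 := (Cfsg.Lib.Core.card_mul_relIndex b7).trans c1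
  have h2q : 1 < Fintype.card F ^ 2 := Nat.one_lt_pow two_ne_zero Fintype.one_lt_card
  rw [show Fintype.card F * (Fintype.card F - 1) * (Fintype.card F + 1) * (Fintype.card F * (Fintype.card F - 1) * (Fintype.card F + 1)) =
    Fintype.card F ^ 2 * (Fintype.card F ^ 2 - 1) ^ 2 by zify [h0, h3]; ring, ← b9] at b8
  refine (Nat.eq_of_mul_eq_mul_left (Nat.pos_of_ne_zero fun h => ?_) b8).symm
  rw [h, zero_mul] at b9
  exact (mul_pos (h0 2) (pow_pos (Nat.sub_pos_of_lt h2q) 2)).ne b9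

end Cfsg.Agent.S4279
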