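import Cfsg.Statements.S2132
import Cfsg.Agent.Lib.Comp.McLy.XCen
import Cfsg.Agent.Lib.X32.Rec
-- import your own Cfsg.Agent.* helpers here

set_option autoImplicit false
open Cfsg

namespace Cfsg.Agent.S2132

open Cfsg.Lib.Comp Cfsg.Lib.Comp.McLy

/-- The McLaughlin group (as a two-vector stabiliser in the automorphism group of the rank-24 lattice) has a single conjugacy class of involutions, and the centraliser of an involution is a non-split double cover of the alternating group of degree 8. -/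
theorem result : (∀ x y : ↥Cfsg.Spor.McL, orderOf x = 2 → orderOf y = 2 → IsConj x y) ∧ ∃ t : ↥Cfsg.Spor.McL, orderOf t = 2 ∧ Cfsg.IsNonsplitDoubleCover ↥(Subgroup.centralizer ({t} : Set ↥Cfsg.Spor.McL)) ↥(alternatingGroup (Fin 8)) := by
  obtain ⟨e⟩ := perm
  have := nets_ok.finite L
  have : Finite Cfsg.Spor.McL := Finite.of_equiv _ e.symm.toEquiv
  obtain ⟨φ, γ, h1, h2, h3⟩ := c_phi e
  obtain ⟨k⟩ := Cfsg.Lib.X32.iso8
  have s : IsSimpleGroup (alternatingGroup (Fin 8)) := alternatingGroup.isSimpleGroup (by simp)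
  obtain ⟨a1, -, a3, a4, -, i, ⟨f⟩⟩ := XC.main h1 h2 (c_ex.isBase cn_ok) ctb_ok X8.nets_iv X8.nets_rel X8.ord
    X8.lb c_side k.isSimpleGroup (by norm_num) c_xs h3
  have b := fun x => XC.invs_conj (x := x) h1 h2 (c_ex.isBase cn_ok) ctb_ok c_syl c_len (m := 7016625)
    ((Nat.card_congr e.toEquiv).trans card) (by norm_num)
  refine ⟨fun x y hx hy => (b x hx).symm.trans (b y hy), γ 16, a1, XC.nonsplit a1
    (Subgroup.eq_of_le_of_card_ge (a4.ge.trans inf_le_left) (by rw [a3, Nat.card_zpowers, a1]; rfl)).symm f k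
    (alternatingGroup.center_eq_bot (by simp))
    ((eq_of_base h1 h2 (c_ex.isBase cn_ok) ctb_ok c_sq).trans (ev_single _ _))⟩

end Cfsg.Agent.S2132
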