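import Cfsg.Statements.S2051
import Cfsg.Agent.Lib.Ru.Iso
import Cfsg.Agent.Lib.Comp.Rux.Mua
import Cfsg.Agent.Lib.Comp.Rux.Mub
import Cfsg.Agent.Lib.Comp.TMult2
-- import your own Cfsg.Agent.* helpers here

set_option autoImplicit false
open Cfsg

namespace Cfsg.Agent.S2051

open Cfsg.Lib.RuL Cfsg.Spor Cfsg.Lib.Comp

/-- The Schur multiplier of the Rudvalis group (the unitary automorphism group of the rank-28 Gaussian lattice modulo its centre) is cyclic of order 2; here the Schur multiplier is described through stem extensions, as in the definitions: surjective homomorphisms onto the group from a finite group, whose kernel is central in that finite group and contained in that finite group's commutator subgroup. -/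
theorem result : Cfsg.HasCyclicSchurMultiplier Cfsg.Spor.Ru 2 := by
  obtain ⟨e⟩ := iso
  have := Rux.nets_ok.finite Rux.L
  exact Cfsg.Lib.Mult.mult_congr_left (MB.mult (m := 2) (r := 79170) (i := 14)
    (MB.mul Rux.Mub_mb Rux.Mua_mb (by norm_num) (by norm_num) (by norm_num)) (by rw [Rux.card]; norm_num) cover2 cover2
    (by norm_num)) e.symm

end Cfsg.Agent.S2051
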