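import Cfsg.Statements.S0033
import Cfsg.Agent.Lib.BS.Thompson
import Cfsg.Agent.Lib.Coprime.Action
import Cfsg.Agent.Lib.Invol.Basic

set_option autoImplicit false
open Cfsg

namespace Cfsg.Agent.S0033
open Cfsg.Lib.Invol
open Cfsg.Lib.BS


/-- Thompson's Theorem on fixed-point-free automorphisms: a finite group with an automorphism of prime order fixing only the identity is nilpotent. -/
theorem result {G : Type*} [Group G] [Finite G] (φ : G ≃* G)
    (hφ : MonoidHom.FixedPointFree (φ : G →* G)) (p : ℕ) (hp : p.Prime) (hord : orderOf φ = p) :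
    Group.IsNilpotent G := by
  obtain ⟨H, _, _, i, j, h, -⟩ := Cfsg.Lib.Coprime.exists_ambient (MonoidHom.id (MulAut G))
  have h1 : orderOf (j φ) = p := by rw [orderOf_injective j h.inj_j]; exact hord
  have := thompson_fpf (K := (⊤ : Subgroup G).map i) (r := j φ)
    (h.le_normalizer_top ⊤ (Subgroup.mem_map_of_mem j (Subgroup.mem_top _))) (h1 ▸ hp) (by
      refine eq_bot_iff.mpr ?_
      rintro _ ⟨⟨x, -, rfl⟩, hx⟩
      have := hφ x (h.mem_centralizer_singleton_iff.mp hx)
      simp [this])
  exact Group.nilpotent_of_mulEquiv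
    (((⊤ : Subgroup G).equivMapOfInjective i h.inj_i).symm.trans Subgroup.topEquiv)

end Cfsg.Agent.S0033
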