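import Cfsg.Statements.S0304
import Cfsg.Agent.Lib.Forms.More

set_option autoImplicit false
open Cfsg

namespace Cfsg.Agent.S0304

open Cfsg.Lib.Forms Module



/-- In characteristic 2, O_{2m+1}(q) is isomorphic to Sp_{2m}(q). -/
theorem result {F : Type*} [Field F] [Fintype F] [CharP F 2] (m : ℕ) : Nonempty (Cfsg.isometryGroup F (Cfsg.quadFormOdd m F) ≃* Matrix.symplecticGroup (Fin m) F) := by
  have h2 : (2 : F) = 0 := two_eq_zero_of_charP
  set D := fOdd F m
  let r : Unit ⊕ (Fin m ⊕ Fin m) → F := Pi.single (.inl ()) 1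
  have hB : ∀ x y, D.B x y = (fPlus F m).B (x ∘ .inr) (y ∘ .inr) := fun x y => by
    rw [← (isIsometry_oddCoord m).B_map]; simp [h2]; rfl
  have hrad : D.perp ⊤ = F ∙ r := by
    ext x
    rw [Form.mem_perp', Submodule.mem_span_singleton]
    constructor
    · intro h
      have := fPlus_nondeg m (x ∘ .inr) fun y => by simpa [hB] using h (Sum.elim 0 y) trivial
      refine ⟨x (.inl ()), ?_⟩
      ext (i | i)
      · simp [r]
      · simpa [r] using (congrFun this i).symm
    · rintro ⟨c, rfl⟩ y -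
      rw [hB, show (c • r) ∘ Sum.inr = 0 by ext; simp [r], Form.B_zero_left]
  obtain ⟨C, hC⟩ := (F ∙ r).exists_isCompl
  have hr : D.Q r ≠ 0 := by simp [D, fOdd_Q, quadFormOdd, r]
  obtain ⟨e, -⟩ := exists_equiv_symp_of_rad h2 hr hrad hC
  have h3 := Submodule.finrank_add_eq_of_isCompl hC
  rw [finrank_span_singleton (by rintro h; simp [h] at hr), finrank_odd] at h3
  obtain ⟨e'⟩ := Symp.nonempty_isom_equiv (Form.nondeg_restrict_of_isCompl_rad (D.polarAlt h2) (C := C)
    (by rwa [← hrad] at hC)) (m := m) (by omega)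
  exact ⟨(oIso D fOdd_Q).trans (e.trans e')⟩

end Cfsg.Agent.S0304
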