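import Cfsg.Statements.S2585
import Cfsg.Agent.Lib.Forms.Perm

set_option autoImplicit false
open Cfsg

namespace Cfsg.Agent.S2585

open Cfsg.Lib.Forms Module Matrix



/-- Over a finite field of characteristic two every element of the symplectic group is orthogonal for a suitable quadratic form: for each A in Sp_2m(F) there is a quadratic form Q on F^(2m) whose polar form is the alternating form defining Sp_2m(F) (so Q is non-degenerate) and which A preserves. Equivalently, for m ≥ 1, Sp_2m(F) is the union of the conjugates of its two orthogonal subgroups O⁺_2m(F) and O⁻_2m(F). -/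
theorem result {F : Type*} [Field F] [Fintype F] [CharP F 2] {m : ℕ} (A : Matrix.symplecticGroup (Fin m) F) : ∃ Q : QuadraticForm F (Fin m ⊕ Fin m → F), (∀ u v : Fin m ⊕ Fin m → F, QuadraticMap.polar ⇑Q u v = Cfsg.sympForm m F u v) ∧ ∀ v : Fin m ⊕ Fin m → F, Q ((A : Matrix (Fin m ⊕ Fin m) (Fin m ⊕ Fin m) F).mulVec v) = Q v := by
  have h2 : (2 : F) = 0 := two_eq_zero_of_charP
  have hB : ∀ u v, (fPlus F m).B u v = (fSymp F m).B u v := fun u v => by
    simp [fPlus_B, fSymp_B', CharTwo.sub_eq_add, add_comm]
  obtain ⟨w, hw⟩ := (fPlus_nondeg m).exists_shift_invariant h2 ⟨(spEquiv F m A).1,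
    Symp.mem_isom.2 fun x y => by simp only [Form.polarAlt_B, hB, Form.B_isom]⟩
  refine ⟨toQuad (fPlus F m) + QuadraticMap.sq.comp ((fPlus F m).B w), fun u v => ?_, fun v => ?_⟩
  · rw [← fSymp_B, ← hB, quad_B_eq]
    simp [QuadraticMap.polar]
    linear_combination ((fPlus F m).B w u * (fPlus F m).B w v) * h2
  · simpa [sq] using hw v

end Cfsg.Agent.S2585
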