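import Cfsg.Statements.S4023
import Cfsg.Agent.Lib.FG.Act

set_option autoImplicit false
open Cfsg

open Subgroup Cfsg.Lib
open scoped commutatorElement
namespace Cfsg.Agent.S4023

/-- Let p be a prime and G a finite group in which any two p-subgroups of the same order are conjugate, with Sylow p-subgroup P. Then P is cyclic, or elementary abelian, or p = 2 and P is a quaternion group of order 8, or p is odd and P is non-abelian of order p³ and exponent p. -/
theorem result {G : Type*} [Group G] [Finite G]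
    {p : ℕ} [Fact p.Prime] (hC : ∀ H K : Subgroup G, IsPGroup p H → IsPGroup p K → Nat.card H = Nat.card K →
      ∃ g : G, K = H.map (MulAut.conj g).toMonoidHom) (P : Sylow p G) :
    IsCyclic P ∨ Cfsg.IsElementaryAbelian p (P : Subgroup G) ∨
      (p = 2 ∧ Nonempty ((P : Subgroup G) ≃* QuaternionGroup 2)) ∨
      (p ≠ 2 ∧ ¬ IsMulCommutative P ∧ Nat.card P = p ^ 3 ∧ Monoid.exponent P = p) := by
  have hp := (Fact.out : p.Prime)
  have hP := P.isPGroup'
  have key (A B : Subgroup P) (h : Nat.card A = Nat.card B) : Nonempty (A ≃* B) := FG.nonempty_equiv_of_conj (hC _ _ ((hP.to_subgroup A).map _)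
    ((hP.to_subgroup B).map _) (by rw [Core.card_map_subtype, Core.card_map_subtype, h]))
  rcases FG.dich hP fun A B hA hB hc => let ⟨e⟩ := key A B (hA.trans hB.symm); isCyclic_of_surjective e e.surjective with h | h | ⟨rfl, a, b, m, h, h1, h2⟩
  · exact .inl h
  · by_cases h2 : p = 2
    · subst h2; exact .inr (.inl (FG.elemAb_of_sq h))
    by_cases h3 : IsMulCommutative P
    · exact .inr (.inl ⟨h3, fun x hx => congrArg Subtype.val (h ⟨x, hx⟩)⟩)
    have h4 : center P ≠ ⊤ := fun e => h3 ⟨⟨fun a b => mem_center_iff.1 (e.ge (mem_top b)) a⟩⟩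
    obtain ⟨x, -, hx, -, hx'⟩ := PGrp.exists_mem_central_mod hP (center P) ⊤ (fun e => h4 (top_unique e))
    obtain ⟨y, hy⟩ := not_forall.1 (mt mem_center_iff.2 hx)
    have hz : ⁅x, y⁆ ≠ 1 := fun e => hy (commutatorElement_eq_one_iff_mul_comm.1 e).symm
    have h5 : zpowers ⁅x, y⁆ ≤ center P := zpowers_le.2 (hx' y)
    have := PGrp.normal_of_le_center h5
    have h6 := PGrp.card_sup_zpowers (p := p) (fun e => hx (h5 e)) (h x ▸ one_mem (zpowers ⁅x, y⁆))
    have h7 : IsMulCommutative ↥(zpowers ⁅x, y⁆ ⊔ zpowers x) :=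
      PGrp.isMulCommutative_sup_zpowers inferInstance ((PGrp.centralizer_eq_top_of_le_center h5).ge (mem_top x))
    have h8 := PGrp.card_sup_zpowers_of_mem_normalizer (p := p) (M := zpowers ⁅x, y⁆ ⊔ zpowers x) (x := y)
      (Transfer.mem_normalizer_of_cj_le (by
        rw [Transfer.cj_sup, Transfer.cj_eq_of_normal]
        refine sup_le le_sup_left (Transfer.cj_zpowers_le.2 ?_)
        convert mul_mem (mem_sup_left (inv_mem (mem_zpowers ⁅x, y⁆))) (mem_sup_right (mem_zpowers x)) using 1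
        simp [commutatorElement_def, mul_assoc]))
      (fun e => hy (PGrp.comm_of_mem h7 e (mem_sup_right (mem_zpowers x)))) (h y ▸ one_mem _)
    rw [h6, Nat.card_zpowers, orderOf_eq_prime (h _) hz] at h8
    have : Nontrivial P := ⟨⟨_, _, hz⟩⟩
    refine .inr (.inr (.inr ⟨h2, h3, ?_, (Monoid.exponent_eq_prime_iff hp).2 fun g hg => orderOf_eq_prime (h g) hg⟩))
    refine le_antisymm (not_lt.1 fun h9 => ?_) (by rw [pow_three, ← h8]; exact card_le_card_group _)
    have h10 : p ^ 4 ≤ Nat.card P := by simpa using PGrp.pow_succ_le_card_of_lt (hP.to_subgroup ⊤) (k := 3) (by simpa using h9)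
    obtain ⟨N, hN, -, h11⟩ := PGrp.exists_normal_le_card_eq hP ⊤ 2 (by rw [card_top]; exact (Nat.pow_le_pow_right hp.pos (by omega)).trans h10)
    have h12 := PGrp.isMulCommutative_of_card_le_sq (hP.to_subgroup N) h11.le
    obtain ⟨w, hw, hw'⟩ : ∃ w ∈ centralizer (N : Set P), w ∉ N := by
      by_contra! h13
      have h14 := (centralizer (N : Set P)).index_mul_card
      nlinarith [Nat.mul_le_mul (PGrp.index_centralizer_le_of_card_le_sq hP N h11.le) (card_le_of_le h13), hp.two_le]
    obtain ⟨e⟩ := key (N ⊔ zpowers w) (zpowers ⁅x, y⁆ ⊔ zpowers x ⊔ zpowers y) (by rw [PGrp.card_sup_zpowers hw' (h w ▸ one_mem _), h8, h11, sq])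
    have h13 := (PGrp.isMulCommutative_sup_zpowers h12 hw).is_comm.comm
    have h14 := congrArg (fun a => (e a : P)) (h13 (e.symm ⟨y, mem_sup_right (mem_zpowers y)⟩) (e.symm ⟨x, mem_sup_left (mem_sup_right (mem_zpowers x))⟩))
    exact hy (by simpa using h14)
  obtain _ | m := m
  · exact .inr (.inr (.inl ⟨rfl, h.quaternion h1 h2⟩))
  have := h.normal
  have h3 : zpowers (a ^ 2 ^ (m + 1)) ≤ zpowers a := zpowers_le.2 (pow_mem (mem_zpowers a) _)
  have := PGrp.normal_of_le_of_isCyclic inferInstance h3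
  have h4 (i j : ℕ) (e : i + j = m + 3) : orderOf (a ^ 2 ^ i) = 2 ^ j := by
    rw [orderOf_pow_of_dvd (by positivity) (by rw [h.ord]; exact pow_dvd_pow _ (by omega)), h.ord, show m + 1 + 2 = i + j by omega, pow_add,
      Nat.mul_div_cancel_left _ (by positivity)]
  obtain ⟨e⟩ := key (zpowers (a ^ 2 ^ m)) (zpowers (a ^ 2 ^ (m + 1)) ⊔ zpowers b) (by
    rw [PGrp.card_sup_zpowers (p := 2) (fun e => h.not_mem (h3 e)) (by rw [h1, pow_succ 2 (m + 1), pow_mul]; exact pow_mem (mem_zpowers _) _),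
      Nat.card_zpowers, Nat.card_zpowers, h4 _ 3 rfl, h4 _ 2 rfl]; rfl)
  have h5 := PGrp.comm_of_mem (PGrp.isMulCommutative_of_isCyclic (isCyclic_of_surjective e e.surjective)) (mem_sup_right (mem_zpowers b))
    (mem_sup_left (mem_zpowers _))
  have h6 : orderOf (a ^ 2 ^ (m + 1)) ∣ 2 := orderOf_dvd_of_pow_eq_one (by
    rw [sq, ← eq_inv_iff_mul_eq_one, ← inv_pow, ← h2, conj_pow, h5, mul_inv_cancel_right])
  rw [h4 _ 2 rfl] at h6
  omega

end Cfsg.Agent.S4023
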