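import Cfsg.Statements.S3214
import Cfsg.Agent.Lib.Exc.TwoNil

set_option autoImplicit false
open Cfsg

namespace Cfsg.Agent.S3214

open Cfsg.Lib Cfsg.Lib.Exc

/-- Let G be a finite non-abelian simple group in which the centralizer of every involution has a normal 2-complement. Then G is isomorphic to PSL₂(q) for some prime power q > 3, to a Suzuki group Sz(2ⁿ) with n ≥ 3 odd, to the alternating group A₇, or to PSL₃(4). -/
theorem result {G : Type*} [Group G] [Finite G] [IsSimpleGroup G]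
    (hG : ¬ IsMulCommutative G)
    (hI : ∀ t : G, orderOf t = 2 → Cfsg.HasNormalPComplement 2 ↥(Subgroup.centralizer ({t} : Set G))) :
    (∃ (F : Type) (_ : Field F) (_ : Fintype F), 3 < Fintype.card F ∧
        Nonempty (G ≃* Matrix.ProjectiveSpecialLinearGroup (Fin 2) F)) ∨
      Cfsg.Lie.IsoSuzuki G ∨ Nonempty (G ≃* ↥(alternatingGroup (Fin 7))) ∨
      (∃ (F : Type) (_ : Field F) (_ : Fintype F), Fintype.card F = 4 ∧
        Nonempty (G ≃* Matrix.ProjectiveSpecialLinearGroup (Fin 3) F)) := by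
  have := Invol.fact_two
  rcases twoNil_list hG fun t ht => Transfer.hasNormalPComplement_iff.1 (hI t ht) with
    (⟨F, _, _, n, h1, h2, h3⟩ | ⟨F, _, _, m, hm, ⟨e⟩⟩ | ⟨F, _, _, k, h1, h2, h3⟩ | h) | ⟨F, _, _, -, h⟩ | h
  · exact Or.inl ⟨F, _, _, by have := Nat.pow_le_pow_right two_pos h1; omega, h3⟩
  · exact Or.inr (Or.inl ⟨F, _, _, m, hm.one_le, by rw [← Nat.card_eq_fintype_card, hm.card_eq],
      ⟨e.trans (BN.Sz.szEquiv m)⟩⟩)
  · exact Or.inl ⟨F, _, _, by have := Nat.pow_le_pow_right two_pos h1; omega, h3⟩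
  · exact Or.inr (Or.inr (Or.inr h))
  · exact Or.inl ⟨F, _, _, h⟩
  · exact Or.inr (Or.inr (Or.inl h))

end Cfsg.Agent.S3214
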