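import Cfsg.Statements.S3116
import Cfsg.Agent.Lib.ABG.MC

set_option autoImplicit false
open Cfsg Cfsg.Lib Cfsg.Lib.ABG Cfsg.Lib.Invol Cfsg.Lib.Transfer Subgroup

namespace Cfsg.Agent.S3116

/-- The automorphism group of a dihedral 2-group of order at least 8, or of a quasi-dihedral (semidihedral) 2-group of order at least 16, is a 2-group. -/
theorem result {X : Type*} [Group X] [Finite X] (h2 : IsPGroup 2 X)
    (h : (∃ n : ℕ, 4 ≤ n ∧ Nonempty (X ≃* DihedralGroup n)) ∨ Cfsg.IsQuasiDihedral X) : IsPGroup 2 (MulAut X) := by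
  by_contra h1
  obtain ⟨g, ho, h3, h4⟩ := exists_odd_of_not_isPGroup (X := (⊤ : Subgroup X)) fun h => h1 (h.of_equiv (MulAut.congr topEquiv))
  have hf : Function.Injective (MulAction.toPermHom X X) := MulAction.toPerm_injective
  have key : ∀ {N} (E : MC N (⊤ : Subgroup X)), Nat.card X = 4 ∨ Nat.card X = 8 ∧ ∃ a, E.s a * E.s a = E.c := fun E => by
    rw [← card_top, ← card_map_of_injective hf]
    obtain ⟨a, ⟨-, h5, -⟩ | ⟨h5, h6, -⟩⟩ := (E.map _ hf).loc ((h2.to_subgroup ⊤).map _) le_rfl h3 ho h4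
    exacts [Or.inl (h5 ▸ MC.card_K _ a), Or.inr ⟨h6 ▸ MC.card_Q _ a, a, hf ((map_mul _ _ _).trans ((by
      rw [Idx2.s, map_mul]; exact h5)))⟩]
  rcases h with ⟨n, hn, ⟨e⟩⟩ | h
  · have h5 : 4 < Nat.card (⊤ : Subgroup X) := by rw [card_top, Nat.card_congr e.toEquiv, DihedralGroup.nat_card]; omega
    obtain ⟨k, -, E, hε⟩ := exists_mc_dih (h2.to_subgroup ⊤) (topEquiv.trans e) h5
    rcases key E with h | ⟨-, a, h⟩
    exacts [h5.ne' (card_top.trans h), E.c_ne_one (h.symm.trans (E.s_mul_self hε a))]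
  · obtain ⟨k, hk, h5, -, -, E, -⟩ := exists_mc_qd' h
    have := Nat.pow_le_pow_right two_pos (show 4 ≤ k + 3 by omega)
    rcases key E with h | ⟨h, -⟩ <;> omega

end Cfsg.Agent.S3116
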