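import Cfsg.Statements.S3344
import Cfsg.Agent.Lib.X32.Init

set_option autoImplicit false
open Cfsg

namespace Cfsg.Agent.S3344

/-- Let G be a finite group with an involution s, L = C_G(s) and Q = O₂(L). Suppose Q is extraspecial of order 32, L/Q is isomorphic to Sym(3), C_Q(X) = ⟨s⟩ for a Sylow 3-subgroup X of L, and s is not weakly closed in Q with respect to G (some conjugate of s other than s lies in Q). Then either G has an elementary abelian normal subgroup of order 8 with quotient isomorphic to PSL(3,2), or G is isomorphic to the alternating group of degree 8 or 9, or to the Mathieu group M₁₂. -/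
theorem result {G : Type*} [Group G] [Finite G]
    (s : G) (hs : orderOf s = 2) (L : Subgroup G) (hL : L = Subgroup.centralizer ({s} : Set G))
    (Q : Subgroup G) (hQ : Q = (Cfsg.pCore 2 L).map L.subtype)
    (hQex : Cfsg.IsExtraspecial 2 Q) (hQcard : Nat.card Q = 32)
    (e : L ⧸ Cfsg.pCore 2 L ≃* Equiv.Perm (Fin 3))
    (X : Sylow 3 L) (hCQX : Q ⊓ Subgroup.centralizer (((X : Subgroup L).map L.subtype : Subgroup G) : Set G) = Subgroup.zpowers s)
    (hnwc : ∃ g : G, g * s * g⁻¹ ∈ Q ∧ g * s * g⁻¹ ≠ s) :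
    (∃ (N : Subgroup G) (hN : N.Normal), IsMulCommutative N ∧ (∀ n ∈ N, n ^ 2 = 1) ∧ Nat.card N = 8 ∧
        Nonempty (G ⧸ N ≃* Matrix.ProjectiveSpecialLinearGroup (Fin 3) (ZMod 2))) ∨
    Nonempty (G ≃* alternatingGroup (Fin 8)) ∨ Nonempty (G ≃* alternatingGroup (Fin 9)) ∨ Cfsg.Spor.IsoM12 G := by
  have hm : ∀ l, l ∈ L ↔ l * s = s * l := fun l => by rw [hL, Subgroup.mem_centralizer_singleton_iff]
  have s1 : s ≠ 1 := Lib.Invol.ne_one_of_two hs
  have sQ : s ∈ Q := (hCQX.ge (Subgroup.mem_zpowers s)).1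
  have QL : Q ≤ L := hQ ▸ Subgroup.map_subtype_le _
  obtain ⟨z, hz, es⟩ := Lib.Known2.exists_ES hQex
  obtain rfl : s = z := (es.of_cen s sQ fun y hy => ((hm y).1 (QL hy)).symm).resolve_left s1
  let π : L →* Equiv.Perm (Fin 3) := e.toMonoidHom.comp (QuotientGroup.mk' _)
  have hπ : ∀ l : L, π l = 1 ↔ (l : G) ∈ Q := fun l => by
    rw [hQ]
    exact ((map_eq_one_iff e e.injective).trans (QuotientGroup.eq_one_iff l)).trans
      (Subgroup.mem_map_iff_mem L.subtype_injective).symm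
  have hn : ∀ l, l * s = s * l → ∀ q ∈ Q, l * q * l⁻¹ ∈ Q := fun l hl q hq =>
    (hπ (⟨l, (hm l).2 hl⟩ * ⟨q, QL hq⟩ * ⟨l, (hm l).2 hl⟩⁻¹)).1 (by
      rw [map_mul, map_mul, (hπ ⟨q, QL hq⟩).2 hq, map_inv, mul_one, mul_inv_cancel])
  have cL : Nat.card L = 192 := by
    rw [Subgroup.card_eq_card_quotient_mul_card_subgroup (pCore 2 L), Nat.card_congr e.toEquiv, Nat.card_perm,
      ← Subgroup.card_map_of_injective (K := pCore 2 L) L.subtype_injective, ← hQ, hQcard, Nat.card_fin]; rfl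
  have := Fact.mk Nat.prime_three
  have cX : Nat.card X = 3 := by
    obtain ⟨n, hn⟩ := X.isPGroup'.exists_card_eq
    have h1 := X.dvd_card_of_dvd_card (by rw [cL]; norm_num)
    have h2 := (X : Subgroup L).card_subgroup_dvd_card
    rw [cL] at h2
    rcases n with _ | _ | n
    · rw [hn] at h1; norm_num at h1
    · rw [hn]; rfl
    · rw [hn] at h2
      exact absurd ((pow_dvd_pow 3 (by omega : 2 ≤ n + 1 + 1)).trans h2) (by norm_num)
  have : Nontrivial X := Finite.one_lt_card_iff_nontrivial.1 (by rw [cX]; norm_num)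
  obtain ⟨x, x1⟩ := exists_ne (1 : X)
  have x3 : x * x * x = 1 := (pow_three' x).symm.trans ((congrArg (x ^ ·) cX).symm.trans pow_card_eq_one')
  have x3' : (x.1.1 : G) * x.1.1 * x.1.1 = 1 := congrArg (fun y : X => (y.1.1 : G)) x3
  have πx : π x ≠ 1 := fun h => x1 (Subtype.ext (Subtype.ext (by
    have h4 : (x.1.1 : G) * x.1.1 * (x.1.1 * x.1.1) = 1 := by
      rcases es.sq_mem _ ((hπ x).1 h) with h | h <;> rw [h]
      exacts [mul_one 1, es.sq]
    rwa [← mul_assoc, x3', one_mul] at h4)))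
  have πx3 : π x * π x * π x = 1 := by rw [← map_mul, ← map_mul, show x.1 * x.1 * x.1 = 1 from Subtype.ext x3', map_one]
  obtain ⟨g, g1, g2⟩ := hnwc
  refine Lib.X32.FP.main (x := x.1.1) ⟨es, x3', mul_inv_eq_iff_eq_mul.2 ((hm _).1 x.1.2), hn _ ((hm _).1 x.1.2),
    fun q hq h => es.mem_zp.1 (hCQX.le ⟨hq, ?_⟩)⟩ hQcard hn (fun u u1 u2 u3 => ?_) (fun t t1 t2 t3 l hl => ?_) g1 g2
  · rintro _ ⟨y, hy, rfl⟩
    obtain ⟨n, hn⟩ := mem_zpowers_of_prime_card cX x1 (g' := ⟨y, hy⟩)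
    rw [show L.subtype y = (x.1.1 : G) ^ n from congrArg (fun y : X => (y.1.1 : G)) hn.symm]
    exact (Commute.zpow_left (mul_inv_eq_iff_eq_mul.1 h) n).eq
  · refine (hπ (⟨u, (hm u).2 u1⟩ * (x * ⟨u, (hm u).2 u1⟩ * x.1⁻¹) * x.1⁻¹)).1 ?_
    simp only [map_mul, map_inv]
    exact (by decide +kernel : ∀ a b : Equiv.Perm (Fin 3), a * a = 1 → a ≠ 1 → b * b * b = 1 → b ≠ 1 → a * (b * a * b⁻¹) * b⁻¹ = 1) _ _
      (by rw [← map_mul, ← map_one π]; exact congrArg π (Subtype.ext u2)) (fun h => u3 ((hπ _).1 h)) πx3 πx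
  · have := (by decide +kernel : ∀ a b : Equiv.Perm (Fin 3), a * a = 1 → a ≠ 1 → b * b * b = 1 → b ≠ 1 → ∀ c,
      ∃ k ∈ [1, b, b⁻¹, a, a * b, a * b⁻¹], c * k⁻¹ = 1) (π ⟨t, (hm t).2 t1⟩) _
      (by rw [← map_mul, ← map_one π]; exact congrArg π (Subtype.ext t2)) (fun h => t3 ((hπ _).1 h)) πx3 πx (π ⟨l, (hm l).2 hl⟩)
    simp only [List.mem_cons, List.not_mem_nil, or_false, exists_eq_or_imp, exists_eq_left, ← map_one π, ← map_inv, ← map_mul] at this ⊢
    simp only [map_one, hπ] at this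
    exact this

end Cfsg.Agent.S3344
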