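import Cfsg.Statements.S0425
import Cfsg.Agent.Lib.Golay.Model

set_option autoImplicit false
open Cfsg

namespace Cfsg.Agent.S0425

open Cfsg.Lib.Golay
open scoped Pointwise
set_option maxRecDepth 100000
set_option linter.unusedSimpArgs false
set_option maxHeartbeats 400000

/-- Aut of an S(5, 6, 12) is simple of order 95040 and sharply 5-transitive on points. -/
theorem result {α : Type*} [Fintype α] [DecidableEq α] (hα : Fintype.card α = 12) {B : Set (Finset α)} (hB : Cfsg.IsSteinerSystem 5 6 B) : Cfsg.IsM12 (Cfsg.setSystemAut B) ∧ MulAction.IsMultiplyPretransitive (Cfsg.setSystemAut B) α 5 ∧ ∀ x : Fin 5 ↪ α, MulAction.stabilizer (Cfsg.setSystemAut B) x = ⊥ := by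

  obtain ⟨f, h⟩ := model12 hα hB
  have hn : om 0x5335f \ om 0 = om 0x5335f := by decide +kernel
  have hm : ∀ a, f a ∈ om 0x5335f := fun a => hn ▸ h.mem a
  obtain ⟨e, he⟩ := h.aut_equiv (K := Spor.M12) (fun m hm => ⟨hm.2, hexad_subset hm.1⟩)
    (fun g _ => by simp [gc.ofMask_zero]) (fun g hg => (mem_M12.mp hg).2) (fun g hg m hm => by
      rw [hexs_zero] at *
      rw [← (mem_M12.mp hg).2]; exact (smul_mem_hexadsOn (M12_le hg)).mpr hm)
    (fun g hg h1 => M12_eq_one_of_fix hg fun i hi => h1 _ (by revert i; decide +kernel))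
    (fun σ hσ h1 => by rw [hexs_zero] at h1; rw [hn]; exact aut_hex (symOn_smul_right hσ) h1)
  have := simple_M12
  exact ⟨⟨e.symm.isSimpleGroup, by rw [← Nat.card_congr e.toEquiv, card_M12]⟩,
    h.multiplyPretransitive he fun x y hx hy => exists_M12_emb x y (hn ▸ hx) (hn ▸ hy),
    fun x => stabilizer_eq_bot_of_model he x fun g hg => M12_eq_one_of_fix_emb hg (x.trans f) fun i => hm _⟩

end Cfsg.Agent.S0425
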