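import Cfsg.Statements.S4211
import Cfsg.Agent.Lib.PGrp.Comm
import Cfsg.Agent.Lib.PGrp.Basic
import Cfsg.Agent.Lib.Invol.Basic
import Cfsg.Agent.Lib.BG1.Sec1
import Cfsg.Agent.Lib.Transfer.Apps
import Cfsg.Agent.Lib.Hall.ClassSize
import Cfsg.Agent.Lib.Core.Nilpotent

set_option autoImplicit false
open Cfsg

namespace Cfsg.Agent.S4211

open Subgroup Cfsg.Lib Cfsg.Lib.Transfer
open scoped commutatorElement

variable {G : Type*} [Group G] [Finite G]

omit [Finite G] in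
theorem comm_mem_left (hn : ∀ H : Subgroup G, H.Normal) (x y : G) : ⁅x, y⁆ ∈ zpowers x := by
  have : ⁅x, y⁆ = x * (y * x⁻¹ * y⁻¹) := by rw [commutatorElement_def]; group
  rw [this]
  exact mul_mem (mem_zpowers x) ((hn _).conj_mem _ (inv_mem (mem_zpowers x)) y)

omit [Finite G] in
theorem comm_mem_right (hn : ∀ H : Subgroup G, H.Normal) (x y : G) : ⁅x, y⁆ ∈ zpowers y := by
  rw [← commutatorElement_inv]
  exact inv_mem (comm_mem_left hn y x)

theorem prime_pow_of_min {x y : G} (hxy : ⁅x, y⁆ ≠ 1)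
    (h : ∀ k : ℕ, orderOf (x ^ k) < orderOf x → ⁅x ^ k, y⁆ = 1) :
    ∃ p a : ℕ, p.Prime ∧ orderOf x = p ^ (a + 1) ∧ ⁅x ^ p, y⁆ = 1 := by
  have h1 : orderOf x ≠ 1 := fun e => hxy (by rw [orderOf_eq_one_iff.1 e, commutatorElement_one_left])
  have h2 : ∀ q : ℕ, q.Prime → q ∣ orderOf x → ⁅x ^ q, y⁆ = 1 := fun q hq hd => h q (by
    rw [orderOf_pow_of_dvd hq.ne_zero hd]
    exact Nat.div_lt_self (orderOf_pos x) hq.one_lt)
  obtain ⟨p, hp, hd⟩ := Nat.exists_prime_and_dvd h1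
  have h3 : ∀ q : ℕ, q.Prime → q ∣ orderOf x → q = p := fun q hq hqd => by
    by_contra hne
    have hc := (Nat.coprime_primes hq hp).2 hne
    have e1 := mem_centralizer_singleton_iff.2 (commutatorElement_eq_one_iff_mul_comm.1 (h2 q hq hqd))
    have e2 := mem_centralizer_singleton_iff.2 (commutatorElement_eq_one_iff_mul_comm.1 (h2 p hp hd))
    have e3 : x = (x ^ q) ^ Nat.gcdA q p * (x ^ p) ^ Nat.gcdB q p := by
      rw [← zpow_natCast, ← zpow_natCast, ← zpow_mul, ← zpow_mul, ← zpow_add, ← Nat.gcd_eq_gcd_ab, hc]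
      simp
    refine hxy (commutatorElement_eq_one_iff_mul_comm.2 (mem_centralizer_singleton_iff.1 ?_))
    rw [e3]
    exact mul_mem (zpow_mem e1 _) (zpow_mem e2 _)
  have h4 := Nat.eq_prime_pow_of_unique_prime_dvd (orderOf_pos x).ne' fun {q} hq hqd => h3 q hq hqd
  obtain ⟨a, ha⟩ := Nat.exists_eq_succ_of_ne_zero (n := (orderOf x).primeFactorsList.length)
    fun e => h1 (by rw [h4, e, pow_zero])
  exact ⟨p, a, hp, by rw [h4, ha], h2 p hp hd⟩

theorem pow_mem_of_order {x c : G} {p a : ℕ} (hp : p.Prime) (hx : orderOf x = p ^ (a + 1))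
    (hc : c ∈ zpowers x) (ho : orderOf c = p) : zpowers c = zpowers (x ^ p ^ a) := by
  refine PGrp.eq_of_le_of_card_le (zpowers_le.2 ?_) ?_
  · obtain ⟨k, rfl⟩ := mem_powers_iff_mem_zpowers.2 hc
    have : (x ^ k) ^ p = 1 := ho ▸ pow_orderOf_eq_one _
    rw [← pow_mul, ← orderOf_dvd_iff_pow_eq_one, hx, pow_succ, Nat.mul_dvd_mul_iff_right hp.pos] at this
    obtain ⟨j, rfl⟩ := this
    simp only [pow_mul]
    exact pow_mem (mem_zpowers _) j
  · rw [Nat.card_zpowers, Nat.card_zpowers, ho, orderOf_pow_of_dvd (pow_pos hp.pos a).ne'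
      (hx ▸ pow_dvd_pow p a.le_succ), hx, pow_succ, Nat.mul_div_cancel_left _ (pow_pos hp.pos a)]

theorem exists_quat_aux (hn : ∀ H : Subgroup G, H.Normal) (H : Subgroup G) {x y : G} (hx : x ∈ H)
    (hy : y ∈ H) (hxy : ⁅x, y⁆ ≠ 1) (hle : orderOf y ≤ orderOf x)
    (hmin : ∀ u ∈ H, ∀ v ∈ H, orderOf u + orderOf v < orderOf x + orderOf y → ⁅u, v⁆ = 1) :
    orderOf x = 4 ∧ orderOf y = 4 := by
  obtain ⟨p, a, hp, ha, hxp⟩ := prime_pow_of_min hxy fun k hk => hmin _ (H.pow_mem hx k) y hy (by omega)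
  obtain ⟨q, b, hq, hb, -⟩ := prime_pow_of_min (x := y) (y := x)
    (fun e => hxy (by rw [← commutatorElement_inv, e, inv_one])) fun k hk =>
      hmin _ (H.pow_mem hy k) x hx (by omega)
  haveI := Fact.mk hp
  have c1 := comm_mem_left hn x y
  have c2 := comm_mem_right hn x y
  have d1 := Hall.commute_of_mem_zpowers c1 (mem_zpowers x)
  have d2 := Hall.commute_of_mem_zpowers c2 (mem_zpowers y)
  rw [PGrp.commutator_pow_left d1] at hxp
  have ho := orderOf_eq_prime hxp hxy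
  obtain rfl : p = q := (Nat.prime_dvd_prime_iff_eq hp hq).1 (hp.dvd_of_dvd_pow
    (by rw [← hb, ← ho]; exact orderOf_dvd_of_mem_zpowers c2))
  rw [ha, hb, Nat.pow_le_pow_iff_right hp.one_lt] at hle
  obtain ⟨d, rfl⟩ : ∃ d, a = b + d := ⟨a - b, by omega⟩
  have e1 := pow_mem_of_order hp ha c1 ho
  have e2 := pow_mem_of_order hp hb c2 ho
  obtain ⟨m, hm⟩ := mem_powers_iff_mem_zpowers.2
    (e1 ▸ e2 ▸ inv_mem (mem_zpowers (y ^ p ^ b)) : (y ^ p ^ b)⁻¹ ∈ zpowers (x ^ p ^ (b + d)))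
  simp only at hm
  have e3 : ⁅x ^ (p ^ d * m), y⁆ = ⁅x, y⁆ ^ (p ^ d * m) := PGrp.commutator_pow_left d1 _
  have e4 : (y * x ^ (p ^ d * m)) ^ p ^ b = ⁅x, y⁆ ^ (p ^ d * m * (p ^ b).choose 2) := by
    rw [PGrp.mul_pow_eq_of_commute (e3 ▸ d2.pow_left _) (e3 ▸ (d1.pow_left _).pow_right _), e3,
      ← pow_mul x, show p ^ d * m * p ^ b = p ^ (b + d) * m by ring, pow_mul x, hm, mul_inv_cancel,
      one_mul, ← pow_mul]
  have e5 : ¬ p ∣ p ^ d * m * (p ^ b).choose 2 := fun h => by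
    replace h := ho.dvd.trans h
    rw [orderOf_dvd_iff_pow_eq_one, ← e4, ← orderOf_dvd_iff_pow_eq_one] at h
    have h1 := Nat.le_of_dvd (pow_pos hp.pos b) h
    have h2 : p ^ b < p ^ (b + 1) := Nat.pow_lt_pow_right hp.one_lt b.lt_succ_self
    have := hmin x hx _ (H.mul_mem hy (H.pow_mem hx (p ^ d * m))) (by omega)
    refine hxy ?_
    rw [← this, commutatorElement_def, commutatorElement_def]
    group
  obtain rfl : d = 0 := by
    by_contra h
    exact e5 (((dvd_pow_self p h).mul_right m).mul_right _)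
  have e6 : ¬ p ∣ (p ^ b).choose 2 := fun h => e5 (h.mul_left _)
  obtain ⟨b, rfl⟩ : ∃ c, b = c + 1 := Nat.exists_eq_succ_of_ne_zero (by rintro rfl; simp at e6)
  obtain rfl : p = 2 := by
    by_contra h
    exact e6 ((dvd_pow_self p b.succ_ne_zero).trans
      (PGrp.dvd_choose_two_of_odd (hp.odd_of_ne_two h).pow))
  obtain rfl : b = 0 := by
    by_contra h
    refine e6 ?_
    rw [Nat.choose_two_right, pow_succ, mul_right_comm, Nat.mul_div_cancel _ two_pos]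
    exact (dvd_pow_self 2 h).mul_right _
  exact ⟨ha, hb⟩

theorem exists_quat (hn : ∀ H : Subgroup G, H.Normal) (H : Subgroup G) (h : ¬ IsMulCommutative H) :
    ∃ x ∈ H, ∃ y ∈ H, ⁅x, y⁆ ≠ 1 ∧ orderOf x = 4 ∧ orderOf y = 4 := by
  classical
  have h1 : ∃ n, ∃ x ∈ H, ∃ y ∈ H, ⁅x, y⁆ ≠ 1 ∧ orderOf x + orderOf y = n := by
    by_contra hc
    push Not at hc
    exact h (PGrp.isMulCommutative_iff_forall.2 fun x hx y hy =>
      commutatorElement_eq_one_iff_mul_comm.1 (by_contra fun e => hc _ x hx y hy e rfl))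
  obtain ⟨x, hx, y, hy, hxy, e⟩ := Nat.find_spec h1
  have hmin : ∀ u ∈ H, ∀ v ∈ H, orderOf u + orderOf v < orderOf x + orderOf y → ⁅u, v⁆ = 1 :=
    fun u hu v hv hlt => by_contra fun hc => Nat.find_min h1 (e ▸ hlt) ⟨u, hu, v, hv, hc, rfl⟩
  rcases le_total (orderOf y) (orderOf x) with h2 | h2
  · exact ⟨x, hx, y, hy, hxy, exists_quat_aux hn H hx hy hxy h2 hmin⟩
  · exact ⟨x, hx, y, hy, hxy, (exists_quat_aux hn H hy hx
      (fun e => hxy (by rw [← commutatorElement_inv, e, inv_one])) h2 (by rwa [add_comm])).symm⟩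

theorem comm_cases (hn : ∀ H : Subgroup G, H.Normal) {x : G} (hx : x ^ 4 = 1) (g : G) :
    ⁅x, g⁆ = 1 ∨ ⁅x, g⁆ = x ^ 2 := by
  have c1 := comm_mem_left hn x g
  obtain ⟨k, hk⟩ := mem_powers_iff_mem_zpowers.2 c1
  simp only at hk
  rw [pow_eq_pow_mod k hx] at hk
  have h4 : k % 4 < 4 := Nat.mod_lt k (by norm_num)
  have h1 : ⁅x, g⁆ = x * (g * x⁻¹ * g⁻¹) := by rw [commutatorElement_def]; group
  have h2 : ∀ u : G, g * u * g⁻¹ = 1 → u = 1 := fun u hu => by
    rw [show u = g⁻¹ * (g * u * g⁻¹) * g by group, hu]; group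
  interval_cases k % 4
  · exact Or.inl (by rw [← hk, pow_zero])
  · left
    rw [h1, pow_one, eq_comm, mul_eq_left] at hk
    rw [inv_eq_one.1 (h2 _ hk), commutatorElement_one_left]
  · exact Or.inr hk.symm
  · left
    rw [h1, pow_succ', mul_left_cancel_iff] at hk
    have h3 : x ^ 2 = 1 := by
      have := h2 (x⁻¹ ^ 2) (by rw [← conj_pow, ← hk, ← pow_mul, hx])
      rwa [inv_pow, inv_eq_one] at this
    rw [h3, eq_comm] at hk
    rw [inv_eq_one.1 (h2 _ hk), commutatorElement_one_left]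


/-- A finite non-abelian group in which every subgroup is normal is the internal direct product of a subgroup isomorphic to the quaternion group of order `8`, an elementary abelian `2`-subgroup and an abelian subgroup of odd order. -/
theorem result {G : Type*} [Group G] [Finite G] (hna : ¬ IsMulCommutative G) (hn : ∀ H : Subgroup G, H.Normal) : ∃ Q E A : Subgroup G, Nonempty (Q ≃* QuaternionGroup 2) ∧ Cfsg.IsElementaryAbelian 2 E ∧ IsMulCommutative A ∧ Odd (Nat.card A) ∧ E ⊓ A = ⊥ ∧ Q ⊓ (E ⊔ A) = ⊥ ∧ Q ⊔ (E ⊔ A) = ⊤ := by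
  obtain ⟨x, -, y, -, hxy, hx, hy⟩ := exists_quat hn ⊤ fun h => hna ⟨⟨fun a b =>
    PGrp.comm_of_mem h (mem_top a) (mem_top b)⟩⟩
  have hx4 : x ^ 4 = 1 := hx ▸ pow_orderOf_eq_one x
  have hy4 : y ^ 4 = 1 := hy ▸ pow_orderOf_eq_one y
  have hyx : ⁅y, x⁆ ≠ 1 := fun e => hxy (by rw [← commutatorElement_inv, e, inv_one])
  have e1 := (comm_cases hn hx4 y).resolve_left hxy
  have e2 := (comm_cases hn hy4 x).resolve_left hyx
  have hz2 : (x ^ 2) ^ 2 = 1 := by rw [← pow_mul, hx4]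
  have hzi : (x ^ 2)⁻¹ = x ^ 2 := by rw [inv_eq_iff_mul_eq_one, ← pow_two, hz2]
  have e3 : y ^ 2 = x ^ 2 := by rw [← e2, ← commutatorElement_inv, e1, hzi]
  rw [e3] at e2
  have hz1 : x ^ 2 ≠ 1 := e1 ▸ hxy
  have hzo : orderOf (x ^ 2) = 2 := orderOf_eq_prime hz2 hz1
  have hzc : x ^ 2 ∈ center G := mem_center_iff.2 fun g => (commutatorElement_eq_one_iff_mul_comm.1
    ((comm_cases hn (by rw [← pow_mul, show 2 * 4 = 4 * 2 from rfl, pow_mul, hx4, one_pow]) g).elim id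
      fun h => h.trans hz2)).symm
  have hc : ∀ u g : G, u ^ 4 = 1 → ⁅u, g⁆ ≠ 1 → ⁅u, g⁆ = u ^ 2 := fun u g hu h =>
    (comm_cases hn hu g).resolve_left h
  set Q := closure ({y, x} : Set G) with hQ
  have hxQ : x ∈ Q := subset_closure (by simp)
  have hyQ : y ∈ Q := subset_closure (by simp)
  set C := centralizer (Q : Set G) with hC
  have hmemC : ∀ g, g ∈ C ↔ ⁅x, g⁆ = 1 ∧ ⁅y, g⁆ = 1 := fun g => by
    rw [hC, hQ, ← zpowers_le, le_centralizer_iff, closure_le]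
    simp only [Set.insert_subset_iff, Set.singleton_subset_iff, SetLike.mem_coe,
      commutatorElement_eq_one_iff_mul_comm, ← Hall.le_cent_iff, zpowers_le,
      mem_centralizer_singleton_iff]
    exact ⟨fun h => ⟨h.2.symm, h.1.symm⟩, fun h => ⟨h.2.symm, h.1.symm⟩⟩
  have hmul : ∀ u g h : G, ⁅u, h⁆ ∈ center G → ⁅u, g * h⁆ = ⁅u, g⁆ * ⁅u, h⁆ := fun u g h hh =>
    PGrp.commutator_mul_right (PGrp.commute_of_mem_center hh g)
  have hQC : Q ⊔ C = ⊤ := by
    rw [eq_top_iff]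
    intro g _
    have key : ∀ q ∈ Q, g * q ∈ C → g ∈ Q ⊔ C := fun q hq h =>
      (mul_mem_cancel_right (mem_sup_left hq)).1 (mem_sup_right h)
    have hzz : x ^ 2 * x ^ 2 = 1 := by rw [← pow_two, hz2]
    rcases comm_cases hn hx4 g with h1 | h1 <;> rcases comm_cases hn hy4 g with h2 | h2
    · exact mem_sup_right ((hmemC g).2 ⟨h1, h2⟩)
    · refine key x hxQ ((hmemC _).2 ⟨?_, ?_⟩)
      · rw [hmul _ _ _ (by simp [one_mem]), h1]; simp
      · rw [hmul _ _ _ (e2 ▸ hzc), h2, e2, e3, hzz]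
    · refine key y hyQ ((hmemC _).2 ⟨?_, ?_⟩)
      · rw [hmul _ _ _ (e1 ▸ hzc), h1, e1, hzz]
      · rw [hmul _ _ _ (by simp [one_mem]), h2]; simp
    · have f1 : ⁅x, x * y⁆ = x ^ 2 := by rw [hmul _ _ _ (e1 ▸ hzc), e1]; simp
      have f2 : ⁅y, x * y⁆ = x ^ 2 := by rw [hmul _ _ _ (by simp [one_mem]), e2]; simp
      refine key (x * y) (mul_mem hxQ hyQ) ((hmemC _).2 ⟨?_, ?_⟩)
      · rw [hmul _ _ _ (f1 ▸ hzc), h1, f1, hzz]
      · rw [hmul _ _ _ (f2 ▸ hzc), h2, f2, e3, hzz]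
  have h4 : ∀ g ∈ C, g ^ 4 = 1 → g ^ 2 = 1 := fun g hg h => by
    obtain ⟨h1, h2⟩ := (hmemC g).1 hg
    have h3 : Commute x g := commutatorElement_eq_one_iff_mul_comm.1 h1
    have h5 : ⁅x * g, y⁆ = x ^ 2 := by
      rw [← commutatorElement_inv, hmul _ _ _ (h2 ▸ one_mem _), h2, e2, mul_one, hzi]
    have := hc (x * g) y (by rw [h3.mul_pow, hx4, h, one_mul]) (h5 ▸ hz1)
    rw [h5, h3.mul_pow, eq_comm, mul_eq_left] at this
    exact this
  have hCab : IsMulCommutative C := by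
    by_contra h
    obtain ⟨u, hu, -, -, -, h1, -⟩ := exists_quat hn C h
    have := orderOf_dvd_of_pow_eq_one (h4 u hu (h1 ▸ pow_orderOf_eq_one u))
    rw [h1] at this
    norm_num at this
  obtain ⟨T, hT⟩ := exists_sylowIn 2 C
  have hTe : ∀ t ∈ T, t ^ 2 = 1 := fun t ht => by
    obtain ⟨k, hk⟩ := hT.2 ⟨t, ht⟩
    have hk' : t ^ 2 ^ k = 1 := congrArg Subtype.val hk
    clear hk
    induction k with
    | zero => rw [pow_zero, pow_one] at hk'; rw [hk', one_pow]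
    | succ k ih =>
      rcases k with _ | k
      · simpa using hk'
      refine ih ?_
      rw [pow_succ, pow_mul]
      exact h4 _ (C.pow_mem (hT.1 ht) _) (by rw [← pow_mul, ← hk']; congr 1; ring)
  have hzC : x ^ 2 ∈ C := center_le_centralizer _ hzc
  have hzp : IsPGroup 2 (zpowers (x ^ 2)) := IsPGroup.of_card (n := 1) (by rw [Nat.card_zpowers, hzo, pow_one])
  have hzT : zpowers (x ^ 2) ≤ T := hT.le_of_le_normalizer hzp (zpowers_le.2 hzC)
    (by haveI := hn (zpowers (x ^ 2)); rw [normalizer_eq_top]; exact le_top)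
  obtain ⟨E, hE1, hE2⟩ := BG1.exists_compl_abelem Nat.prime_two
    ⟨PGrp.isMulCommutative_of_le hCab hT.1, hTe⟩ hzT
  have hET : E ≤ T := hE1 ▸ le_sup_right
  have hP : PNil 2 C := pnil_of_isNilpotent (Core.isNilpotent_of_isMulCommutative C)
  refine ⟨Q, E, resOf 2 C, Invol.closure_mulEquiv_quaternion (n := 2) (by rw [← pow_two, e3]) ?_ hx
    fun h => hyx (commutatorElement_eq_one_iff_mul_comm.2
      (Hall.commute_of_mem_zpowers h (mem_zpowers x))),
    ⟨PGrp.isMulCommutative_of_le hCab (hET.trans hT.1), fun e he => hTe e (hET he)⟩,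
    PGrp.isMulCommutative_of_le hCab (resOf_le C), Nat.coprime_two_right.1 hP.coprime,
    hP.disjoint (hT.2.to_le hET), ?_, ?_⟩
  · calc y * x * y⁻¹ = ⁅y, x⁆ * x := by rw [commutatorElement_def]; group
      _ = x⁻¹ := by rw [e2, eq_inv_iff_mul_eq_one, ← pow_succ, ← pow_succ, hx4]
  · rw [eq_bot_iff]
    rintro w ⟨hw, hw'⟩
    have hwC : w ∈ C := (sup_le (hET.trans hT.1) (resOf_le C)) hw'
    have hwz : w ∈ zpowers (x ^ 2) := by
      have : Q = zpowers x ⊔ zpowers y := by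
        rw [hQ, Set.pair_comm, Set.insert_eq, Subgroup.closure_union, ← zpowers_eq_closure, ← zpowers_eq_closure]
      obtain ⟨_, ⟨i, rfl⟩, j, rfl⟩ := (PGrp.mem_sup_zpowers_of_mem_normalizer
        (by haveI := hn (zpowers x); rw [normalizer_eq_top]; exact mem_top y)).1 (this ▸ hw)
      obtain ⟨h1, h2⟩ := (hmemC _).1 hwC
      have f1 : ⁅x, y ^ j⁆ = (x ^ 2) ^ j := by
        rw [PGrp.commutator_zpow_right (PGrp.commute_of_mem_center (e1 ▸ hzc) y), e1]
      have f2 : ⁅y, x ^ i⁆ = (x ^ 2) ^ i := by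
        rw [PGrp.commutator_zpow_right (PGrp.commute_of_mem_center (e2 ▸ hzc) x), e2]
      simp only at h1 h2 ⊢
      rw [hmul _ _ _ (f1 ▸ zpow_mem hzc j), f1, commutatorElement_eq_one_iff_commute.2
        (Commute.self_zpow x i), one_mul, ← orderOf_dvd_iff_zpow_eq_one, hzo] at h1
      rw [hmul _ _ _ (by rw [commutatorElement_eq_one_iff_commute.2 (Commute.self_zpow y j)]; exact one_mem _),
        f2, commutatorElement_eq_one_iff_commute.2 (Commute.self_zpow y j), mul_one,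
        ← orderOf_dvd_iff_zpow_eq_one, hzo] at h2
      obtain ⟨j, rfl⟩ := h1
      obtain ⟨i, rfl⟩ := h2
      rw [zpow_mul, zpow_mul, zpow_natCast, zpow_natCast, e3]
      exact mul_mem (zpow_mem (mem_zpowers _) i) (zpow_mem (mem_zpowers _) j)
    haveI := hn E
    obtain ⟨e, he, a, ha, rfl⟩ := mem_sup_of_normal_left.1 hw'
    have ha1 : a = 1 := by
      rw [← mem_bot, ← hP.disjoint hT.2]
      exact ⟨(T.mul_mem_cancel_left (hET he)).1 (hzT hwz), ha⟩
    rw [ha1, mul_one] at hwz ⊢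
    exact hE2 ▸ ⟨hwz, he⟩
  · rw [eq_top_iff, ← hQC]
    refine sup_le le_sup_left (hT.resOf_sup.ge.trans (sup_le (le_sup_right.trans le_sup_right)
      (hE1.ge.trans ?_)))
    exact sup_le ((zpowers_le.2 (Q.pow_mem hxQ 2)).trans le_sup_left) (le_sup_left.trans le_sup_right)

end Cfsg.Agent.S4211
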