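import Cfsg.Statements.S0978
import Cfsg.Agent.Lib.Small.Sieve2

set_option autoImplicit false
open Cfsg

namespace Cfsg.Agent.S0978

open Cfsg.Lib.Small

/-- No finite simple group has order 5040 = 2^4 * 3^2 * 5 * 7. -/
theorem result {G : Type*} [Group G] [Finite G] [IsSimpleGroup G] : Nat.card G ≠ 5040 := by
  intro h
  exact absurd (not_joint (G := G) (p := 7) (q := 5) (not_isMulCommutative_of_not_prime (by rw [h]; norm_num)) 15 h
    (by norm_num) (by norm_num) (by norm_num) rfl (by norm_num) rfl (by norm_num) (by norm_num) (by norm_num)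
    [2, 3, 5, 7] (by simp; norm_num) (fun d => d == 9 || d == 14 || d == 36 || d == 24 || d == 56) (by decide +kernel)) (by decide +kernel)

end Cfsg.Agent.S0978
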