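import Cfsg.Statements.S0983
import Cfsg.Agent.Lib.Small.SylInt
import Cfsg.Agent.Lib.Small.Sieve
import Cfsg.Agent.S0978

set_option autoImplicit false
open Cfsg

namespace Cfsg.Agent.S0983

open Cfsg.Lib.Small Cfsg.Lib.Amalg Cfsg.Lib Subgroup

theorem key : ((List.range' 3641 2592).all fun n => kill 80 n || n == 4080 || n == 5616 || n == 6048 || n == 6072 ||
    n == 5040 || n == 5400) = true := by decide +kernel

theorem aux450 {H : Type*} [Group H] [Finite H] (h : Nat.card H = 450) : Nat.card (Sylow 5 H) ≠ 6 := fun h6 => by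
  have := Fact.mk Nat.prime_two
  have := Fact.mk Nat.prime_five
  obtain ⟨T⟩ : Nonempty (Sylow 2 H) := inferInstance
  obtain ⟨P⟩ : Nonempty (Sylow 5 H) := inferInstance
  have hT := card_sylow_subgroup_eq T (a := 1) (m := 225) h (by norm_num)
  obtain ⟨K, hK, h1, -⟩ := exists_normal_complement_of_normalizer_le T
    (relIndex_eq_one.1 (Nat.dvd_one.1 (relIndex_centralizer_dvd_of_card_prime (p := 2) hT)))
  have h2 := K.card_mul_index
  have h3 := card_sylow_normal P K
  rw [inf_eq_left.2 (((syl_top P).inf_normal_top K).of_le_of_not_dvd le_top (by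
    rw [relIndex_top_right, h1, hT]; norm_num) |>.le_of_le inf_le_left le_top P.2 |>.trans inf_le_right),
    index_normalizer_sylow, h6] at h3
  have := card_sylow_dvd_card (G := K) (p := 5)
  rw [h1, hT, h] at h2
  rw [h3, show Nat.card K = 225 by omega] at this
  omega

theorem aux {G : Type*} [Group G] [Finite G] [IsSimpleGroup G] (hG : ¬ IsMulCommutative G) :
    Nat.card G ≠ 5400 := fun hn => by
  have := Fact.mk Nat.prime_five
  obtain ⟨P⟩ : Nonempty (Sylow 5 G) := inferInstance
  have hd : 5 ∣ Nat.card G := by omega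
  have hP := card_sylow_subgroup_eq P (a := 2) (m := 216) hn (by norm_num)
  have hs : Nat.card (Sylow 5 G) = 36 := by
    have h1 := card_sylow_dvd (G := G) (p := 5) (a := 2) (m := 216) hn (by norm_num)
    have h2 := card_sylow_mod (G := G) (p := 5)
    have h3 := two_mul_card_dvd_factorial_card_sylow hG hd
    have h4 : Nat.card (Sylow 5 G) ≠ 216 := fun h => not_normalizer_le_centralizer hG P hd (by
      have h5 := card_normalizer_mul_card_sylow P
      rw [h] at h5
      have := IsPGroup.isMulCommutative_of_card_eq_prime_sq hP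
      rw [← eq_of_le_of_card_ge le_normalizer (by omega)]
      exact le_centralizer _)
    have := Nat.le_of_dvd (by norm_num) h1
    have h5 : Nat.card (Sylow 5 G) ≠ 1 := fun h => by simp [h, hn] at h3
    have h6 : Nat.card (Sylow 5 G) ≠ 6 := fun h => by simp [h, hn, Nat.factorial] at h3
    generalize Nat.card (Sylow 5 G) = s at *
    interval_cases s <;> omega
  obtain ⟨m, h1⟩ := exists_ncard_gam P
  have h2 := ncard_gam_ne hG hd P (by omega)
  obtain ⟨R, hR⟩ := Set.nonempty_of_ncard_ne_zero (s := gam P) (by omega)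
  obtain ⟨k, r, h0, h3, h4, h5, h6, h7, -⟩ := exists_line hR
  have h8 := mem_gam.1 hR
  have h9 := two_mul_card_dvd_factorial_index hG (normalizer_ne_top_of_isPGroup hG (P.2.to_inf_left (K := R))
    (by rw [← one_lt_card_iff_ne_bot]; omega))
  have h10 := (𝐍 ((P : Subgroup G) ⊓ R)).card_mul_index
  have h11 : k - 1 ≤ r * (k - 1) := Nat.le_mul_of_pos_left _ h5
  rw [hs] at h1 h2 h7
  rw [hn] at h9 h10
  obtain rfl | rfl : k = 6 ∨ k = 11 := by omega
  · obtain rfl | rfl : r = 1 ∨ r = 2 := by omega
    · rw [show (𝐍 ((P : Subgroup G) ⊓ R)).index = 6 by omega] at h9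
      simp [Nat.factorial] at h9
    · rw [show (𝐍 ((P : Subgroup G) ⊓ R)).index = 12 by omega] at h10
      exact aux450 (by omega) h0
  · omega

/-- A non-abelian finite simple group of order greater than 3640 and at most 6232 has order 4080, 5616, 6048 or 6072. -/
theorem result {G : Type*} [Group G] [Finite G] [IsSimpleGroup G] (hG : ¬ IsMulCommutative G) (h1 : 3640 < Nat.card G) (h2 : Nat.card G ≤ 6232) : Nat.card G = 4080 ∨ Nat.card G = 5616 ∨ Nat.card G = 6048 ∨ Nat.card G = 6072 := by
  have h3 := List.all_eq_true.1 key (Nat.card G) (List.mem_range'_1.2 (by omega))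
  simp only [Bool.or_eq_true, beq_iff_eq, or_assoc] at h3
  have := h3.resolve_left (not_kill hG 80)
  have := aux hG
  have := S0978.result (G := G)
  omega

end Cfsg.Agent.S0983
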