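import Cfsg.Statements.S0992
import Cfsg.Agent.Lib.Small.Simple
import Mathlib.GroupTheory.SpecificGroups.KleinFour

set_option autoImplicit false
open Cfsg

namespace Cfsg.Agent.S0992

open Cfsg.Lib.Small Cfsg.Lib.Amalg Cfsg.Lib Subgroup

/-- Let G be a non-abelian finite simple group of even order not divisible by 8, and T a Sylow 2-subgroup. Then T is a Klein four-group and the centralizer of T has index 3 in the normalizer of T. -/
theorem result {G : Type*} [Group G] [Finite G] [IsSimpleGroup G] (hG : ¬ IsMulCommutative G) (h2 : Even (Nat.card G)) (h8 : ¬ 8 ∣ Nat.card G) (T : Sylow 2 G) : IsKleinFour ↥(T : Subgroup G) ∧ (Subgroup.centralizer ((T : Subgroup G) : Set G)).relIndex (Subgroup.normalizer ((T : Subgroup G) : Set G)) = 3 := by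
  have hd : 2 ∣ Nat.card G := h2.two_dvd
  have hmin : (Nat.card G).minFac = 2 := (Nat.minFac_eq_two_iff _).2 hd
  have hnc : ¬ IsCyclic (T : Subgroup G) := fun h =>
    not_normalizer_le_centralizer hG T hd (IsCyclic.normalizer_le_centralizer hmin h)
  obtain ⟨k, hk⟩ := T.2.exists_card_eq
  have hk3 : k < 3 := by
    by_contra hc
    exact h8 ((pow_dvd_pow 2 (show 3 ≤ k by omega)).trans (hk ▸ card_subgroup_dvd_card _))
  have h4 : Nat.card (T : Subgroup G) = 4 := by
    interval_cases k
    · exact absurd (isCyclic_of_card_dvd_prime (p := 2) (by rw [hk]; norm_num)) hnc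
    · exact absurd (isCyclic_of_card_dvd_prime (p := 2) (by rw [hk]; norm_num)) hnc
    · exact hk
  have hK : IsKleinFour (T : Subgroup G) :=
    ⟨h4, (not_isCyclic_iff_exponent_eq_prime Nat.prime_two h4).1 hnc⟩
  refine ⟨hK, ?_⟩
  have := hK.isMulCommutative
  have h1 := (relIndex_centralizer_dvd_card_mulAut (T : Subgroup G)).trans
    (card_mulAut_dvd_factorial _)
  rw [h4] at h1
  have h3 := relIndex_centralizer_ne_one hG T hd
  have h5 : ¬ 2 ∣ (𝐂 (T : Subgroup G)).relIndex (𝐍 (T : Subgroup G)) := fun h =>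
    T.not_dvd_index ((h.trans (relIndex_dvd_of_le_left _ (le_centralizer _))).trans
      (relIndex_dvd_index_of_le le_normalizer))
  change (𝐂 (T : Subgroup G)).relIndex (𝐍 (T : Subgroup G)) = 3
  generalize (𝐂 (T : Subgroup G)).relIndex (𝐍 (T : Subgroup G)) = e at *
  have := Nat.le_of_dvd (by norm_num [Nat.factorial]) h1
  norm_num [Nat.factorial] at h1 this
  interval_cases e <;> omega

end Cfsg.Agent.S0992
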