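import Cfsg.Statements.S4501
import Cfsg.Agent.Lib.GW.Final
import Cfsg.Agent.Lib.Small.BT
import Cfsg.Agent.Lib.Small.Simple
import Cfsg.Agent.S3331
import Cfsg.Agent.S0992
import Cfsg.Agent.S0144

set_option autoImplicit false
open Cfsg

namespace Cfsg.Agent.S4501

open Cfsg.Lib Cfsg.Lib.Small Cfsg.Lib.Linear Subgroup

theorem arith {p q a b u : ℕ} (hp : p.Prime) (hq : q.Prime) (hu : 0 < u)
    (h : (2 * u + 1) * u * (u + 1) = 2 * p ^ a * q ^ b) : u ≤ 2 := by
  have h1 : ∀ v, v ∣ (2 * u + 1) * u * (u + 1) → ¬ p ∣ v → ¬ q ∣ v → v ≤ 2 := fun v h0 h1 h2 =>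
    Nat.le_of_dvd two_pos (((hp.coprime_iff_not_dvd.2 h1).symm.pow_right a).dvd_of_dvd_mul_right
      (((hq.coprime_iff_not_dvd.2 h2).symm.pow_right b).dvd_of_dvd_mul_right (h ▸ h0)))
  have h2 : ∀ l, l.Prime → (l ∣ 2 * u + 1 → ¬ l ∣ u ∧ ¬ l ∣ u + 1) ∧ (l ∣ u → ¬ l ∣ u + 1) :=
    fun l hl => ⟨fun h => ⟨fun h' => hl.not_dvd_one ((Nat.dvd_add_right (h'.mul_left 2)).1 h),
      fun h' => hl.not_dvd_one ((Nat.dvd_add_right h).1 (h'.mul_left 2))⟩,
      fun h h' => hl.not_dvd_one ((Nat.dvd_add_right h).1 h')⟩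
  have a1 := h1 _ ((dvd_mul_right _ _).mul_right _)
  have a2 := h1 _ ((dvd_mul_left _ _).mul_right _)
  have a3 := h1 _ (dvd_mul_left _ _)
  have := h2 p hp
  have := h2 q hq
  by_contra h
  have : ¬ 2 * u + 1 ≤ 2 := by omega
  have : ¬ u + 1 ≤ 2 := by omega
  tauto

/-- Let G be a non-abelian finite simple group and p, q distinct primes. If the order of G is 4·p^a·q^b with a ≤ 2, then G is isomorphic to the alternating group of degree 5. If the order of G is 3·p^a·q^b with a ≤ 2, then G is isomorphic to the alternating group of degree 5 or to PSL(2,7). -/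
theorem result {G : Type*} [Group G] [Finite G] [IsSimpleGroup G] (hna : ∃ x y : G, x * y ≠ y * x) (p q a b : ℕ) (hp : p.Prime) (hq : q.Prime) (hpq : p ≠ q) (ha : a ≤ 2) : (Nat.card G = 4 * p ^ a * q ^ b → Nonempty (G ≃* alternatingGroup (Fin 5))) ∧ (Nat.card G = 3 * p ^ a * q ^ b → Nonempty (G ≃* alternatingGroup (Fin 5)) ∨ Nonempty (G ≃* Matrix.ProjectiveSpecialLinearGroup (Fin 2) (ZMod 7))) := by
  obtain ⟨x, y, hxy⟩ := hna
  have hG : ¬ IsMulCommutative G := fun h => hxy (h.1.1 x y)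
  have h1 : ∀ a b c d : ℕ, a.Prime → b.Prime → Nat.card G ≠ a ^ c * b ^ d := fun a b c d ha hb h =>
    hG ⟨⟨IsSimpleGroup.comm_iff_isSolvable.2 (S0144.result a b c d ha hb h)⟩⟩
  have h2 : ∀ r k : ℕ, r.Prime → Nat.card G = r ^ k * p ^ a * q ^ b → ¬ r ∣ p ^ a * q ^ b :=
    fun r k hr h h' => by
      rcases hr.dvd_mul.1 h' with h' | h'
      · obtain rfl := (Nat.prime_dvd_prime_iff_eq hr hp).1 (hr.dvd_of_dvd_pow h')
        exact h1 r q (k + a) b hr hq (by rw [h]; ring)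
      · obtain rfl := (Nat.prime_dvd_prime_iff_eq hr hq).1 (hr.dvd_of_dvd_pow h')
        exact h1 p r a (k + b) hp hr (by rw [h]; ring)
  refine ⟨fun h => ?_, fun h => ?_⟩
  · have h3 := h2 2 2 Nat.prime_two h
    have h8 : ¬ 8 ∣ Nat.card G := by rw [h, mul_assoc]; omega
    haveI := Fact.mk Nat.prime_two
    obtain ⟨T⟩ : Nonempty (Sylow 2 G) := inferInstance
    haveI := (S0992.result hG ⟨2 * p ^ a * q ^ b, by rw [h]; ring⟩ h8 T).1
    obtain ⟨e⟩ := IsKleinFour.nonempty_mulEquiv (G₁ := (T : Subgroup G)) (G₂ := DihedralGroup 2)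
    rcases GW.known_of_simple G hG (GW.dc2_of_dihedral T e) with ⟨F, _, _, ⟨u, hu⟩, h4, ⟨f⟩⟩ | ⟨⟨f⟩⟩
    · rw [← Nat.card_eq_fintype_card] at hu h4
      have h5 := card_PSL_two_of_odd (F := F) ⟨u, hu⟩
      rw [← Nat.card_congr f.toEquiv, h, hu, Nat.add_sub_cancel] at h5
      have := arith (a := a) (b := b) (u := u) hp hq (by omega) (by linarith)
      exact ⟨f.trans (psl2_five_equiv (by omega)).some⟩
    · refine absurd ?_ h8
      have := two_mul_nat_card_alternatingGroup (α := Fin 7)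
      rw [Nat.card_perm, Nat.card_eq_fintype_card (α := Fin 7), Fintype.card_fin] at this
      rw [Nat.card_congr f.toEquiv]
      simp only [Nat.factorial] at this
      omega
  · have h3 := h2 3 1 Nat.prime_three h
    haveI := Fact.mk Nat.prime_three
    obtain ⟨z, hz⟩ := exists_prime_orderOf_dvd_card' (G := G) 3 ⟨_, h.trans (mul_assoc ..)⟩
    have h4 := centralizer_eq_of_three_primes hG Nat.prime_three hp hq (by rw [h, mul_assoc]; omega) (fun l hl h' => by
      rw [h, hl.dvd_mul, hl.dvd_mul, or_assoc] at h'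
      exact h'.imp (Nat.prime_dvd_prime_iff_eq hl Nat.prime_three).1 (.imp
        (fun h => (Nat.prime_dvd_prime_iff_eq hl hp).1 (hl.dvd_of_dvd_pow h))
        fun h => (Nat.prime_dvd_prime_iff_eq hl hq).1 (hl.dvd_of_dvd_pow h))) hz
    rcases S3331.result (zpowers z) (by rw [Nat.card_zpowers, hz]) (by
      rw [zpowers_eq_closure, centralizer_closure, h4, zpowers_eq_closure]) with ⟨N, hN, a1, a2, a3⟩ | ⟨N, hN, a1, -, ⟨e⟩⟩ | e
    · rcases hN.eq_bot_or_eq_top with rfl | rfl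
      · have := Nat.card_congr (QuotientGroup.quotientBot (G := G)).toEquiv
        rcases a3 with e | ⟨⟨e⟩⟩
        · exact absurd (this.symm.trans e) (h1 2 3 0 1 Nat.prime_two Nat.prime_three)
        · exact absurd (by rw [← this, Nat.card_congr e.toEquiv, Nat.card_perm]; simp [Nat.factorial])
            (h1 2 3 1 1 Nat.prime_two Nat.prime_three)
      · rw [card_top, h, mul_assoc] at a2
        exact absurd (a2.coprime_mul_right) (by decide)
    · rcases hN.eq_bot_or_eq_top with rfl | rfl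
      · exact .inl ⟨QuotientGroup.quotientBot.symm.trans e⟩
      · exact absurd ⟨⟨fun a b => congrArg Subtype.val (a1.1.1 ⟨a, trivial⟩ ⟨b, trivial⟩)⟩⟩ hG
    · exact .inr e

end Cfsg.Agent.S4501
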