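import Cfsg.Statements.S1084
import Cfsg.Agent.Lib.Linear.CubC
import Cfsg.Agent.Lib.Chev.All

set_option autoImplicit false
open Cfsg

namespace Cfsg.Agent.S1084

open Cfsg.Lie Cfsg.Lib.Chev Cfsg.Lib.Twist Cfsg.Lib.Chev.PreSys Cfsg.Lib.Chev.SL3 Cfsg.Lib.Linear.Cub

theorem exists_hom {I Φ : Type*} [Fintype I] [DecidableEq I] [Finite Φ] {R : RootSys I Φ} {F : Type*} [Field F]
    [Fintype F] {Γ G : Type*} [Group Γ] [Group G] {S : PreSys R F Γ} (hS : S.St) (hF : S.Sep) (hO : S.Opp) (hC : S.SC)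
    (hR : R.SL) (hN : R.Nb) (hgen : S.U Set.univ = ⊤) (y : I → Bool → F → G)
    (h1 : ∀ i j, i ≠ j → R.A i j ≠ 0 → ∃ a b, a ≠ b ∧ R.A a b ≠ 0 ∧ ({i, j} : Finset I) = {a, b} ∧
      ∃ θ : Matrix.SpecialLinearGroup (Fin 3) F →* G, ∀ c t, θ (blk ((sl2 F).x c t)) = y a c t ∧
        θ (blk' ((sl2 F).x c t)) = y b c t)
    (h2 : ∀ i j, i ≠ j → R.A i j = 0 → ∀ c c' t u, y i c t * y j c' u = y j c' u * y i c t) :
    ∃ φ : Γ →* G, ∀ i t, φ (S.x (R.simple i) t) = y i true t ∧ φ (S.x (R.neg (R.simple i)) t) = y i false t := by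
  have hM := hS.mult_of_finite
  refine hS.exists_hom_of_loc hF hM hO hC hgen (fun i t => y i true t) (fun i t => y i false t)
    fun i j g hg h0 => congrArg Prod.snd (hS.inj_of_adj hF hM hO hC hN
      (π := MonoidHom.fst Γ G) (fun _ _ => rfl) (fun _ _ => rfl) (fun i j h h' g hg h0 => ?_)
      (fun i j h h' a ha c hc => ?_) i j g hg h0)
  · obtain ⟨a, b, h3, h4, e, θ, c1⟩ := h1 i j h h'
    rw [e] at hg
    obtain ⟨ρ, c3, c4⟩ := hS.exists_sl3 hF hC hR h3 h4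
    obtain ⟨a, rfl⟩ := (Subgroup.closure_le (K := (ρ.prod θ).range)).2 (by
      rintro _ ⟨k, hk, t, rfl | rfl⟩ <;> rcases (by simpa using hk : k = a ∨ k = b) with rfl | rfl
      exacts [⟨_, Prod.ext (c4 t).1.1 (c1 _ _).1⟩, ⟨_, Prod.ext (c4 t).2.1 (c1 _ _).2⟩,
        ⟨_, Prod.ext (c4 t).1.2 (c1 _ _).1⟩, ⟨_, Prod.ext (c4 t).2.2 (c1 _ _).2⟩]) hg
    rw [c3 (h0.trans (map_one ρ).symm), map_one]
  · have s1 : ∀ k, R.simple k ∈ {r | R.InSub ({k} : Finset I) r} := fun k => RootSys.inSub_simple.2 (by simp)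
    have s2 : ∀ k, R.neg (R.simple k) ∈ {r | R.InSub ({k} : Finset I) r} := fun k => RootSys.inSub_neg.2 (s1 k)
    have s3 : ∀ {r s}, r ∈ {r | R.InSub ({i} : Finset I) r} → s ∈ {r | R.InSub ({j} : Finset I) r} → ∀ t u,
        S.x r t * S.x s u = S.x s u * S.x r t := fun hs hr t u =>
      S.commute_of_cone (RootSys.cone_of_orth h h' hs hr).1 (RootSys.cone_of_orth h h' hs hr).2 _ _
    refine (Subgroup.closure_le (K := Subgroup.centralizer {a})).2 ?_ hc _ rfl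
    rintro _ ⟨k, hk, t, hx⟩ _ rfl
    obtain rfl := Finset.mem_singleton.1 hk
    refine ((Subgroup.closure_le (K := Subgroup.centralizer {_})).2 ?_ ha _ rfl).symm
    rintro _ ⟨l, hl, u, hy⟩ _ rfl
    obtain rfl := Finset.mem_singleton.1 hl
    rcases hx with rfl | rfl <;> rcases hy with rfl | rfl
    exacts [Prod.ext (s3 (s1 _) (s1 _) _ _).symm (h2 _ _ h h' _ _ _ _).symm,
      Prod.ext (s3 (s2 _) (s1 _) _ _).symm (h2 _ _ h h' _ _ _ _).symm,
      Prod.ext (s3 (s1 _) (s2 _) _ _).symm (h2 _ _ h h' _ _ _ _).symm,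
      Prod.ext (s3 (s2 _) (s2 _) _ _).symm (h2 _ _ h h' _ _ _ _).symm]

/-- E₆ via the 27-dimensional cubic form: for a finite field with at least three elements, (isometries of the cubic form) / centre ≅ the Chevalley group E₆(F). -/
theorem result {F : Type*} [Field F] [Fintype F] (hF : 3 ≤ Fintype.card F) : Nonempty (Cfsg.Lie.E6 F ≃* ↥(Cfsg.Lie.chevE6.group F)) := by
  have hD : chevE6 ∈ [chevG2, chevB2, chevD4, chevF4, chevE6, chevE7, chevE8] := by simp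
  have h0 : ¬ (chevE6 = chevG2 ∨ chevE6 = chevB2) := fun e => by
    rcases e with e | e <;> exact absurd (congrArg ChevalleyDatum.rank e) (by decide)
  obtain ⟨R, η, hc, hm⟩ := good_of_mem hD
  have hA : ∀ i j, R.A i j = chevE6.cartan i (chevE6.simple j) := fun i j => by
    rw [← hc.simple_eq, hc.cartan_eq, R.pair_simple_simple]
  have hp : ∀ i j : Fin 6, i ≠ j → (chevE6.cartan i (chevE6.simple j) ≠ 0 ↔ (par j = i ∧ j ≠ 0) ∨ (par i = j ∧ i ≠ 0)) := by
    decide +kernel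
  obtain ⟨φ, hφ⟩ := exists_hom (hc.st_of_exact hm hD (hc.st_exact (K := F))) (hc.st_sep hm) (hc.st_opp hm)
    (hc.st_sc hD F) (hc.sl_of_dec (by decide +kernel)) (hc.nb hD) hc.st_gen (G := E6univ F) yy
    (fun i j h h' => by
      rcases (hp i j h).1 (hA i j ▸ h') with ⟨e, e'⟩ | ⟨e, e'⟩
      · exact ⟨i, j, h, h', rfl, th F j, fun c t => e ▸ th_edge j e' c t⟩
      · exact ⟨j, i, h.symm, R.A_ne_zero_symm h', Finset.pair_comm _ _, th F i, fun c t => e ▸ th_edge i e' c t⟩)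
    fun i j h h' => by
      have := mt (hp i j h).2 (not_not.2 (hA i j ▸ h'))
      exact yy_comm h (by tauto) (by tauto)
  have h1 : Function.Surjective φ := MonoidHom.range_eq_top.1 (eq_top_of_yy hF fun i b t => by
    cases b
    exacts [⟨_, (hφ i t).2⟩, ⟨_, (hφ i t).1⟩])
  have h2 := PreSys.surjective_of_gen (hc.proj_x hm) (hc.ggen hm (F := F))
  have := (hc.isSimpleGroup hm (F := F) hD fun e => absurd e h0).1
  have h3 : (hc.proj hm F).ker ≤ ((QuotientGroup.mk' (Subgroup.center (E6univ F))).comp φ).ker := fun g hg => by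
    have h3 := Subgroup.mem_center_iff.1 ((hc.ker_proj hm hD).1 hg)
    refine (QuotientGroup.eq_one_iff _).2 (Subgroup.mem_center_iff.2 fun a => ?_)
    obtain ⟨a, rfl⟩ := h1 a
    rw [← map_mul, h3, map_mul]
  have h4 : Function.Surjective ((hc.proj hm F).liftOfSurjective h2 ⟨_, h3⟩) := fun a => by
    obtain ⟨g, rfl⟩ := ((QuotientGroup.mk'_surjective _).comp h1) a
    exact ⟨_, MonoidHom.liftOfRightInverse_comp_apply _ _ _ _ g⟩
  refine ⟨(MulEquiv.ofBijective _ ⟨(MonoidHom.ker_eq_bot_iff _).1 ((Subgroup.Normal.eq_bot_or_eq_top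
    inferInstance).resolve_right fun e => ?_), h4⟩).symm⟩
  obtain ⟨a, ha⟩ := h4 (QuotientGroup.mk (yy 0 false 1))
  rw [e.ge (Subgroup.mem_top a)] at ha
  exact yy_not_comm (Subgroup.mem_center_iff.1 ((QuotientGroup.eq_one_iff _).1 ha.symm) _)

end Cfsg.Agent.S1084
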