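import Cfsg.Statements.S4355
import Cfsg.Agent.S2791
import Cfsg.Agent.Lib.Hall.ClassSize
import Cfsg.Agent.Lib.Core.Basic
import Cfsg.Agent.Lib.PGrp.Basic

set_option autoImplicit false
open Cfsg

namespace Cfsg.Agent.S4355

open Subgroup Cfsg.Lib Cfsg.Lib.Hall

def TC (G : Type*) [Group G] : Prop := ∀ x : G, IsPGroup 2 (zpowers x) → ¬ 2 ∣ cs x

variable {G : Type*} [Group G] [Finite G]

theorem TC.comm (h : TC G) {x y : G} (hx : IsPGroup 2 (zpowers x)) (hy : IsPGroup 2 (zpowers y))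
    (e : y * x * y⁻¹ ∈ zpowers x) : y * x = x * y := by
  have h1 : centralizer ({x} : Set G) = centralizer (zpowers x : Set G) := by rw [zpowers_eq_closure, centralizer_closure]
  have h2 : y ∈ normalizer (zpowers x : Set G) := mem_normalizer_fintype fun z hz => by
    obtain ⟨k, rfl⟩ := mem_zpowers_iff.1 hz
    rw [← conj_zpow]; exact zpow_mem e k
  have h3 : y ^ (centralizer (zpowers x : Set G)).relIndex (normalizer (zpowers x : Set G)) ∈ centralizer (zpowers x : Set G) :=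
    pow_index_mem ((centralizer (zpowers x : Set G)).subgroupOf (normalizer (zpowers x : Set G))) ⟨y, h2⟩
  refine mem_cent_iff.1 (h1 ▸ mem_of_pow_mem_of_coprime (coprime_orderOf_of_isPGroup Nat.prime_two hy
    ((Nat.prime_two.coprime_iff_not_dvd.2 fun hd => h x hx (hd.trans ?_)).symm)).symm h3)
  rw [h1]; exact relIndex_dvd_index_of_le (centralizer_le_normalizer _)

theorem main (n : ℕ) : ∀ (G : Type*) [Group G] [Finite G], Nat.card G = n → TC G →
    ∀ P : Subgroup G, IsPGroup 2 P → ∀ x ∈ P, ∀ y ∈ P, x * y = y * x := by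
  induction n using Nat.strong_induction_on with
  | _ n ih =>
  intro G _ _ hn h P hP x hx y hy
  have hz := fun {Q : Subgroup G} (hQ : IsPGroup 2 Q) {a : G} (ha : a ∈ Q) => isPGroup_zpowers_of_mem hQ ha
  have sub : ∀ N : Subgroup G, N ≠ ⊤ → TC N → ∀ Q ≤ N, IsPGroup 2 Q → ∀ x ∈ Q, ∀ y ∈ Q, x * y = y * x :=
    fun N h1 h2 Q h3 h4 a ha b hb => congrArg Subtype.val (ih _ (hn ▸ Core.card_lt_of_ne_top h1) N rfl h2 (Q.subgroupOf N)
      (h4.comap_of_injective _ N.subtype_injective) ⟨a, h3 ha⟩ ha ⟨b, h3 hb⟩ hb)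
  obtain ⟨S, hS⟩ := hP.exists_le_sylow
  have hc : ∀ a ∈ S, ∀ b ∈ S, a * a = 1 → b * b = 1 → a * b = b * a := fun a ha b hb h1 h2 => by
    have := h.comm (hz S.2 (mul_mem ha hb)) (hz S.2 ha) (by
      rw [show a * (a * b) * a⁻¹ = (a * b)⁻¹ by
        rw [← mul_assoc, h1, one_mul, mul_inv_rev, inv_eq_of_mul_eq_one_right h2]]
      exact inv_mem (mem_zpowers _))
    rwa [mul_assoc, mul_right_inj] at this
  let A : Subgroup G :=
    { carrier := {a | a ∈ S ∧ a * a = 1}
      one_mem' := ⟨one_mem _, mul_one 1⟩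
      mul_mem' := fun {a b} ha hb => ⟨mul_mem ha.1 hb.1, by
        rw [mul_assoc, ← mul_assoc b, ← hc a ha.1 b hb.1 ha.2 hb.2, mul_assoc, hb.2, mul_one, ha.2]⟩
      inv_mem' := fun {a} ha => ⟨inv_mem ha.1, by rw [← mul_inv_rev, ha.2, inv_one]⟩ }
  obtain ⟨T, hT, hF⟩ := S2791.result S A ⟨⟨fun a b => Subtype.ext (hc _ a.2.1 _ b.2.1 a.2.2 b.2.2)⟩⟩
    ⟨fun _ ha => ha.1, fun a ha g hg => ⟨hg, by rw [conj_mul, ha.2]; simp⟩⟩
  by_cases hN : normalizer (A : Set G) = ⊤
  swap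
  · have h1 : (T : Subgroup G) ≤ normalizer (A : Set G) := fun t ht => mem_normalizer_fintype fun a ha => by
      obtain ⟨m, hm, e⟩ := (hF A hT).2 t (by rintro _ ⟨b, hb, rfl⟩; exact mul_mem (mul_mem ht (hT hb)) (inv_mem ht))
      exact e a ha ▸ (mem_normalizer_iff.1 hm a).1 ha
    have h2 := sub _ hN (fun z h2 => by
      obtain ⟨Q, hQ⟩ := h2.exists_le_sylow
      obtain ⟨g, e⟩ := exists_conj_sylow_eq Q (T.subtype h1)
      have h3 : ((g * z * g⁻¹ : normalizer (A : Set G)) : G) ∈ (T : Subgroup G) := by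
        have := e.le (smul_mem_pointwise_smul _ _ _ (hQ (mem_zpowers z)))
        simpa [Sylow.coe_subtype, mem_subgroupOf] using this
      rw [← cs_conj g]
      generalize g * z * g⁻¹ = w at *
      obtain ⟨k, h4⟩ := exists_conj_mem_centralizer_sylow T (h w (hz T.2 h3))
      have h5 : k * w * k⁻¹ ∈ (T : Subgroup G) := (Amalg.syl_top T).le_of_le_normalizer' (P := zpowers (k * w * k⁻¹))
        ((hz T.2 h3).of_equiv ((MulAut.conj k).subgroupMap _ |>.trans (MulEquiv.subgroupCongr (by simp))))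
        le_top (zpowers_le.2 (centralizer_le_normalizer _ h4)) (mem_zpowers _)
      obtain ⟨m, hm, e⟩ := (hF {(w : G)} (Set.singleton_subset_iff.2 h3)).2 k (by rintro _ ⟨_, rfl, rfl⟩; exact h5)
      rw [← cs_conj ⟨m, hm⟩]
      refine not_dvd_index_of_sylow_le (T.subtype h1) fun t ht => mem_cent_iff.2 (Subtype.ext ?_)
      simpa [← e _ rfl] using h4 _ (mem_subgroupOf.1 ht)) T h1 T.2
    obtain ⟨g, e⟩ := exists_conj_sylow_eq S T
    simpa [conj_mul] using h2 _ (e.le (smul_mem_pointwise_smul _ _ _ (hS hx))) _ (e.le (smul_mem_pointwise_smul _ _ _ (hS hy)))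
  have := normalizer_eq_top_iff.1 hN
  have hA : ∀ z, IsPGroup 2 (zpowers z) → z ∈ centralizer (A : Set G) := fun z h1 a ha => by
    obtain ⟨Q, hQ⟩ := exists_sylow_le_of_not_dvd_index (h z h1)
    exact mem_cent_iff.1 (hQ ((S.2.to_le (fun _ h => h.1 : A ≤ S)).le_sylow_of_normal Q ha))
  by_cases hC : centralizer (A : Set G) = ⊤
  swap
  · exact sub _ hC (fun z h1 h2 => h z (by have := h1.map (Subgroup.subtype _); rwa [MonoidHom.map_zpowers] at this) (h2.trans (cs_subgroup_dvd z))) P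
      (fun z hz' => hA z (hz hP hz')) hP x hx y hy
  by_cases h1 : x = 1
  · simp [h1]
  obtain ⟨⟨a, ha⟩, h2⟩ := exists_prime_orderOf_dvd_card' (G := zpowers x) 2
    (Amalg.dvd_card_of_isPGroup_ne_bot (hz hP hx) (zpowers_ne_bot.2 h1))
  rw [Subgroup.orderOf_mk] at h2
  have h3 : a ∈ center G := mem_center_iff.2 fun g => (hC.ge (mem_top g) a
    ⟨zpowers_le.2 (hS hx) ha, by rw [← sq, ← h2, pow_orderOf_eq_one]⟩).symm
  have := PGrp.normal_of_le_center (zpowers_le.2 h3)
  have h4 := ih _ (hn ▸ Core.card_quotient_lt (N := zpowers a) (zpowers_ne_bot.2 (by rintro rfl; simp at h2))) (G ⧸ zpowers a) rfl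
    (fun z h4 h5 => by
      obtain ⟨w, rfl, h6⟩ := exists_lift_isPGroup (QuotientGroup.mk'_surjective _) Nat.prime_two h4
      exact h w h6 (h5.trans (cs_mk_dvd _ w))) _ (hP.map (QuotientGroup.mk' _)) _ (mem_map_of_mem _ hx) _ (mem_map_of_mem _ hy)
  have h5 : (x * y)⁻¹ * (y * x) ∈ zpowers x := zpowers_le.2 ha (QuotientGroup.eq.1 (by simpa using h4))
  have h6 := h.comm (hz hP hx) (hz hP (inv_mem hy)) (by
    simpa [mul_assoc] using inv_mem (mul_mem h5 (inv_mem (mem_zpowers x))))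
  exact (Commute.inv_left_iff.1 h6).symm


/-- If every element of 2-power order of a finite group has a conjugacy class of odd size, then the Sylow 2-subgroups of the group are abelian. -/
theorem result {G : Type*} [Group G] [Finite G]
    (h : ∀ x : G, (∃ k : ℕ, orderOf x = 2 ^ k) → ¬ 2 ∣ (Subgroup.centralizer ({x} : Set G)).index) (P : Sylow 2 G) :
    IsMulCommutative P := by
  exact ⟨⟨fun a b => Subtype.ext (main _ G rfl (fun x hx => h x ((isPGroup_zpowers_iff Nat.prime_two).1 hx)) P P.2 _ a.2 _ b.2)⟩⟩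

end Cfsg.Agent.S4355
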