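import Cfsg.Statements.S0562
import Cfsg.Agent.Lib.Hall.Product

set_option autoImplicit false
open Cfsg

namespace Cfsg.Agent.S0562

open scoped Pointwise

/-- Let the finite group G be the product HK of subgroups, A normal in H, B normal in K, and L the normalizer of the subgroup generated by A and B. Then every element of L is a product of an element of L ∩ H and an element of L ∩ K. -/
theorem result {G : Type*} [Group G] [Finite G] (H K A B : Subgroup G) (hHK : ∀ g : G, ∃ h ∈ H, ∃ k ∈ K, g = h * k) (hA : A ≤ H) (hAn : (A.subgroupOf H).Normal) (hB : B ≤ K) (hBn : (B.subgroupOf K).Normal) : ∀ g ∈ Subgroup.normalizer ((A ⊔ B : Subgroup G) : Set G), ∃ h ∈ Subgroup.normalizer ((A ⊔ B : Subgroup G) : Set G) ⊓ H, ∃ k ∈ Subgroup.normalizer ((A ⊔ B : Subgroup G) : Set G) ⊓ K, g = h * k := by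
  intro g hg
  obtain ⟨h, hh, k, hk, rfl⟩ := hHK g
  have hA' : h ∈ Subgroup.normalizer (A : Set G) :=
    Subgroup.le_normalizer_of_normal_subgroupOf hA hh
  have hB' : k ∈ Subgroup.normalizer (B : Set G) :=
    Subgroup.le_normalizer_of_normal_subgroupOf hB hk
  rw [← Cfsg.Lib.Hall.conj_smul_eq_self_iff] at hA' hB' hg
  -- (A ⊔ B)^k = (A ⊔ B)^(h⁻¹) contains both A and B
  have key : MulAut.conj k • (A ⊔ B) = A ⊔ B := by
    symm
    apply Subgroup.eq_of_le_of_card_ge
    · apply sup_le
      · have : MulAut.conj k • (A ⊔ B) = MulAut.conj h⁻¹ • (A ⊔ B) := by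
          conv_rhs => rw [← hg, Cfsg.Lib.Hall.conj_mul_smul, Cfsg.Lib.Hall.conj_inv_smul_conj_smul]
        rw [this, Subgroup.smul_sup]
        refine le_trans ?_ le_sup_left
        conv_rhs => rw [← hA', Cfsg.Lib.Hall.conj_inv_smul_conj_smul]
      · rw [Subgroup.smul_sup, hB']
        exact le_sup_right
    · rw [Cfsg.Lib.Hall.card_conj_smul]
  rw [Cfsg.Lib.Hall.conj_smul_eq_self_iff] at key hg
  refine ⟨h, ⟨?_, hh⟩, k, ⟨key, hk⟩, rfl⟩
  have := Subgroup.mul_mem _ hg (Subgroup.inv_mem _ key)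
  simpa using this

end Cfsg.Agent.S0562
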