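import Cfsg.Statements.S0572
import Cfsg.Agent.Lib.Hall.Product

set_option autoImplicit false
open Cfsg

namespace Cfsg.Agent.S0572

open scoped Pointwise
open Cfsg.Lib Cfsg.Lib.Hall

open scoped commutatorElement in
theorem key {G : Type*} [Group G] (A B : Subgroup G) [IsMulCommutative A] [IsMulCommutative B]
    (hAB : ∀ g : G, ∃ a ∈ A, ∃ b ∈ B, g = a * b) {a a₁ b b₁ : G} (ha : a ∈ A) (ha₁ : a₁ ∈ A)
    (hb : b ∈ B) (hb₁ : b₁ ∈ B) :
    a₁ * b₁ * ⁅a, b⁆ * (a₁ * b₁)⁻¹ = b₁ * a₁ * ⁅a, b⁆ * (b₁ * a₁)⁻¹ := by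
  obtain ⟨b₂, hb₂, a₂, ha₂, e₁⟩ := factor_symm hAB (a₁ * b * a₁⁻¹)
  obtain ⟨a₃, ha₃, b₃, hb₃, e₂⟩ := hAB (b₁ * a * b₁⁻¹)
  have cA : ∀ {x y : G}, x ∈ A → y ∈ A → x * y = y * x := fun hx hy =>
    setLike_mul_comm (s := A) hx hy
  have cB : ∀ {x y : G}, x ∈ B → y ∈ B → x * y = y * x := fun hx hy =>
    setLike_mul_comm (s := B) hx hy
  have jA : ∀ {x y : G}, x ∈ A → y ∈ A → x * y * x⁻¹ = y := fun hx hy => by
    rw [cA hx hy, mul_inv_cancel_right]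
  have jB : ∀ {x y : G}, x ∈ B → y ∈ B → x * y * x⁻¹ = y := fun hx hy => by
    rw [cB hx hy, mul_inv_cancel_right]
  have t1 : ∀ {x y : G} (z : G), x ∈ A → y ∈ A → ⁅x, z * y⁆ = ⁅x, z⁆ := fun z hx hy => by
    rw [commutatorElement_mul_right_eq_mul_conj, commutatorElement_eq_one_iff_mul_comm.mpr (cA hx hy)]
    group
  have t2 : ∀ {x y : G} (z : G), x ∈ B → y ∈ B → ⁅z * x, y⁆ = ⁅z, y⁆ := fun z hx hy => by
    rw [commutatorElement_mul_left_eq_conj_mul, commutatorElement_eq_one_iff_mul_comm.mpr (cB hx hy)]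
    group
  have l : a₁ * b₁ * ⁅a, b⁆ * (a₁ * b₁)⁻¹ = a₁ * (b₁ * ⁅a, b⁆ * b₁⁻¹) * a₁⁻¹ := by group
  have r : b₁ * a₁ * ⁅a, b⁆ * (b₁ * a₁)⁻¹ = b₁ * (a₁ * ⁅a, b⁆ * a₁⁻¹) * b₁⁻¹ := by group
  have l' : b₁ * ⁅a, b⁆ * b₁⁻¹ = ⁅a₃, b⁆ := by
    rw [conjugate_commutatorElement, e₂, jB hb₁ hb, t2 _ hb₃ hb]
  have r' : a₁ * ⁅a, b⁆ * a₁⁻¹ = ⁅a, b₂⁆ := by
    rw [conjugate_commutatorElement, e₁, jA ha₁ ha, t1 _ ha ha₂]
  rw [l, r, l', r', conjugate_commutatorElement, conjugate_commutatorElement,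
    e₁, e₂, jA ha₁ ha₃, jB hb₁ hb₂, t1 _ ha₃ ha₂, t2 _ hb₃ hb₂]

open scoped commutatorElement in
/-- In a product of two abelian groups the derived subgroup is `⁅A, B⁆`. -/
theorem commutator_eq {G : Type*} [Group G] (A B : Subgroup G) [IsMulCommutative A]
    [IsMulCommutative B] (hAB : ∀ g : G, ∃ a ∈ A, ∃ b ∈ B, g = a * b) :
    commutator G = ⁅A, B⁆ := by
  have hn : (⁅A, B⁆ : Subgroup G).Normal := by
    rw [← Subgroup.normalizer_eq_top_iff, eq_top_iff, ← sup_eq_top_of_factor hAB]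
    exact sup_le (Subgroup.normalizer_commutator_ge_left A B)
      (Subgroup.normalizer_commutator_ge_right A B)
  refine le_antisymm ?_ (Subgroup.commutator_mono le_top le_top)
  rw [← Subgroup.Normal.quotient_commutative_iff_commutator_le]
  refine ⟨⟨fun x y => ?_⟩⟩
  obtain ⟨x, rfl⟩ := QuotientGroup.mk_surjective x
  obtain ⟨y, rfl⟩ := QuotientGroup.mk_surjective y
  obtain ⟨a, ha, b, hb, rfl⟩ := hAB x
  obtain ⟨a', ha', b', hb', rfl⟩ := hAB y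
  have c : ∀ {u v : G}, u ∈ A → v ∈ B →
      Commute (u : G ⧸ (⁅A, B⁆ : Subgroup G)) (v : G ⧸ (⁅A, B⁆ : Subgroup G)) := fun hu hv => by
    rw [← commutatorElement_eq_one_iff_commute, ← QuotientGroup.mk'_apply,
      ← QuotientGroup.mk'_apply, ← map_commutatorElement, QuotientGroup.mk'_apply,
      QuotientGroup.eq_one_iff]
    exact Subgroup.commutator_mem_commutator hu hv
  have cA : Commute a a' := setLike_mul_comm (s := A) ha ha'
  have cB : Commute b b' := setLike_mul_comm (s := B) hb hb'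
  simp only [QuotientGroup.mk_mul]
  exact ((cA.map (QuotientGroup.mk' _)).mul_right (c ha hb')).mul_left
    ((c ha' hb).symm.mul_right (cB.map (QuotientGroup.mk' _)))

/-- Itô's Theorem: if a group G is the product AB of two abelian subgroups, then the commutator subgroup of G is abelian, i.e. the second term of the derived series is trivial. -/
theorem result {G : Type*} [Group G] (A B : Subgroup G) [IsMulCommutative A] [IsMulCommutative B] (hAB : ∀ g : G, ∃ a ∈ A, ∃ b ∈ B, g = a * b) : derivedSeries G 2 = ⊥ := by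
  have h : derivedSeries G 2 = ⁅commutator G, commutator G⁆ := rfl
  rw [h, commutator_eq A B hAB, Subgroup.commutator_self_eq_bot_iff, Subgroup.commutator_def]
  apply Subgroup.isMulCommutative_closure
  rintro _ ⟨a₁, ha₁, b₁, hb₁, rfl⟩ _ ⟨a, ha, b, hb, rfl⟩
  have := key A B hAB ha (A.inv_mem ha₁) hb (B.inv_mem hb₁)
  rw [commutatorElement_def a₁ b₁, commutatorElement_def a b]
  rw [commutatorElement_def] at this
  generalize a * b * a⁻¹ * b⁻¹ = c at this ⊢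
  have e : a₁ * b₁ * a₁⁻¹ * b₁⁻¹ * c = a₁ * b₁ * (a₁⁻¹ * b₁⁻¹ * c * (a₁⁻¹ * b₁⁻¹)⁻¹) * (a₁⁻¹ * b₁⁻¹) := by
    group
  rw [e, this]
  group

end Cfsg.Agent.S0572
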