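import Cfsg.Statements.S4034
import Cfsg.Agent.Lib.Hall.ClassSize

set_option autoImplicit false
open Cfsg

namespace Cfsg.Agent.S4034

open scoped Pointwise
open Cfsg.Lib Cfsg.Lib.Hall

universe u in
theorem solv {p : ℕ} (hp : p.Prime) (G : Type u) [Group G] [Finite G]
    (h : ∀ x : G, (orderOf x).Coprime p → ∃ k, cs x = p ^ k) : Group.IsSolvable G := by
  refine isSolvable_of_hereditary
    (fun G _ => ∀ x : G, (orderOf x).Coprime p → ∃ k, cs x = p ^ k) ?_ ?_ ?_ G h
  · intro G _ _ N _ h x hx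
    obtain ⟨k, hk⟩ := h x (by rwa [Subgroup.orderOf_coe])
    obtain ⟨j, -, hj⟩ := (Nat.dvd_prime_pow hp).1 (hk ▸ cs_subgroup_dvd x)
    exact ⟨j, hj⟩
  · intro G _ _ N _ h x hx
    obtain ⟨y, rfl, hy⟩ := exists_lift_coprime (QuotientGroup.mk'_surjective N) hx
    obtain ⟨k, hk⟩ := h y hy
    obtain ⟨j, -, hj⟩ := (Nat.dvd_prime_pow hp).1 (hk ▸ cs_mk_dvd N y)
    exact ⟨j, hj⟩
  · intro G _ _ _ h
    by_cases hx : ∃ x : G, x ≠ 1 ∧ (orderOf x).Coprime p
    · obtain ⟨x, hx1, hx⟩ := hx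
      obtain ⟨k, hk⟩ := h x hx
      exact Group.isSolvable_of_comm (Char.comm_of_isSimpleGroup_of_prime_pow_class hp hx1 hk)
    · push Not at hx
      refine Core.isSolvable_of_isPGroup hp ((Core.isPGroup_iff_isPiNumber hp).2 fun q hq hd => ?_)
      haveI := Fact.mk hq
      obtain ⟨x, hxq⟩ := exists_prime_orderOf_dvd_card' q hd
      by_contra hne
      refine hx x (fun h1 => ?_) (hxq ▸ (Nat.coprime_primes hq hp).2 hne)
      rw [h1, orderOf_one] at hxq
      exact hq.one_lt.ne hxq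

theorem comm_aux {p : ℕ} (hp : p.Prime) {G : Type*} [Group G] [Finite G] (hO : pCore p G = ⊥)
    (h : ∀ x : G, (orderOf x).Coprime p → ∃ k, cs x = p ^ k) {x y : G}
    (hx : (orderOf x).Coprime p) (hy : (orderOf y).Coprime p) : x * y = y * x := by
  haveI := solv hp G h
  haveI := Core.pPrimeCore_characteristic p G
  have key : ∀ z : G, (orderOf z).Coprime p → pPrimeCore p G ≤ Subgroup.centralizer {z} := by
    intro z hz
    obtain ⟨k, hk⟩ := h z hz
    exact Core.le_of_normal_of_coprime_index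
      (hk ▸ (Core.coprime_card_pPrimeCore p G).pow_right k)
  have hF := Core.fitting_le_pPrimeCore_of_pCore_eq_bot hp hO
  exact mem_cent_iff.1 (key y hy (hF (Core.centralizer_fitting_le
    (le_cent_iff.1 (hF.trans (key x hx))))))

/-- Let G be a finite group and p a prime. Every conjugacy class of p-regular elements of G (elements of order prime to p) has p-power size if and only if G has an abelian p-complement, i.e. an abelian subgroup of order prime to p and p-power index. -/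
theorem result {G : Type*} [Group G] [Finite G] {p : ℕ} (hp : p.Prime) :
    (∀ x : G, (orderOf x).Coprime p → ∃ k : ℕ, (ConjClasses.mk x).carrier.ncard = p ^ k) ↔
    (∃ H : Subgroup G, IsMulCommutative H ∧ ¬ p ∣ Nat.card H ∧ ∃ k : ℕ, H.index = p ^ k) := by
  simp only [ncard_carrier_mk]
  constructor
  · intro h
    haveI := solv hp G h
    obtain ⟨H, hH⟩ := exists_isPiHall (G := G) {p}ᶜ
    obtain ⟨h1, h2⟩ := (isPiHall_compl_singleton_iff hp).1 hH
    refine ⟨H, ⟨⟨fun x y => Subtype.ext ?_⟩⟩, h1, h2⟩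
    have hc : ∀ z ∈ H, (orderOf z).Coprime p := fun z hz =>
      ((Core.coprime_iff_not_dvd hp).2 h1).coprime_dvd_left (H.orderOf_dvd_natCard hz)
    have hq : ∀ z ∈ H, (orderOf (z : G ⧸ pCore p G)).Coprime p := fun z hz =>
      (hc z hz).coprime_dvd_left (orderOf_map_dvd (QuotientGroup.mk' (pCore p G)) z)
    have h3 := comm_aux hp (G := G ⧸ pCore p G) Core.pCore_quotient_pCore (fun z hz => by
      obtain ⟨y, rfl, hy⟩ := exists_lift_coprime (QuotientGroup.mk'_surjective (pCore p G)) hz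
      obtain ⟨k, hk⟩ := h y hy
      obtain ⟨j, -, hj⟩ := (Nat.dvd_prime_pow hp).1 (hk ▸ cs_mk_dvd (pCore p G) y)
      exact ⟨j, hj⟩) (hq x x.2) (hq y y.2)
    rw [← QuotientGroup.mk_mul, ← QuotientGroup.mk_mul, QuotientGroup.eq] at h3
    have h4 : pCore p G ⊓ H = ⊥ := (Subgroup.disjoint_of_coprime_natCard
      (Core.coprime_card_of_isPGroup hp (Core.isPGroup_pCore p G)
        ((Core.coprime_iff_not_dvd hp).2 h1))).eq_bot
    have h5 : ((x : G) * y)⁻¹ * (y * x) ∈ pCore p G ⊓ H :=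
      ⟨h3, H.mul_mem (H.inv_mem (H.mul_mem x.2 y.2)) (H.mul_mem y.2 x.2)⟩
    rw [h4, Subgroup.mem_bot, inv_mul_eq_one] at h5
    exact h5
  · rintro ⟨H, hc, h1, k, hk⟩ x hx
    haveI := Core.isNilpotent_of_isMulCommutative H
    obtain ⟨g, hg⟩ := le_conj_of_isPiHall_of_nilpotent
      ((isPiHall_compl_singleton_iff hp).2 ⟨h1, k, hk⟩) (K := Subgroup.zpowers x)
      (by rw [Nat.card_zpowers]; exact (Core.coprime_iff_isPiNumber_compl hp).1 hx)
    have h2 : g⁻¹ * x * g⁻¹⁻¹ ∈ H := by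
      rw [inv_inv]; exact Hall.mem_conj_smul.1 (hg (Subgroup.mem_zpowers x))
    have h3 := cs_dvd_index_of_le (le_cent_iff.2 (le_centralizer_of_le_of_comm le_rfl h2))
    rw [cs_conj, hk] at h3
    obtain ⟨j, -, hj⟩ := (Nat.dvd_prime_pow hp).1 h3
    exact ⟨j, hj⟩

end Cfsg.Agent.S4034
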