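import Cfsg.Statements.S1004
import Cfsg.Agent.Lib.Layer.L168F
import Cfsg.Agent.Lib.Layer.Misc

set_option autoImplicit false
open Cfsg

namespace Cfsg.Agent.S1004

open Subgroup Cfsg.Lib.Core Cfsg.Lib.Amalg Cfsg.Lib.BG1 Cfsg.Lib.Layer

/-- Let G be a simple group of order 168 and T a Sylow 2-subgroup. Then T is dihedral of order 8, T is its own normalizer, and T is the centralizer of any non-identity element of T that commutes with every element of T. -/
theorem result {G : Type*} [Group G] [Finite G] [IsSimpleGroup G] (h : Nat.card G = 168) (T : Sylow 2 G) : Nonempty (↥(T : Subgroup G) ≃* DihedralGroup 4) ∧ Subgroup.normalizer ((T : Subgroup G) : Set G) = T ∧ ∀ z : G, z ∈ (T : Subgroup G) → z ≠ 1 → (∀ t ∈ (T : Subgroup G), t * z = z * t) → Subgroup.centralizer ({z} : Set G) = T := by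
  obtain ⟨e, he⟩ := exists_l168_sylow h T
  rw [← he]
  refine ⟨⟨(mapEq e _).symm.trans (MonoidHom.ofInjective L168.hD_inj).symm⟩, by rw [← map_equiv_normalizer_eq, L168.norm_T],
    fun z _ h1 hz => ?_⟩
  obtain ⟨z, rfl⟩ := e.surjective z
  obtain rfl : z = L168.el 1 := L168.zz z (by simpa using h1) fun s => e.injective (by
    simpa using hz _ (mem_map_of_mem e.toMonoidHom (⟨s, rfl⟩ : L168.fD s ∈ L168.hD.range)))
  rw [← L168.cent_z]
  ext g
  obtain ⟨g, rfl⟩ := e.surjective g
  rw [mem_centralizer_singleton_iff, ← map_mul, ← map_mul, e.apply_eq_iff_eq, ← mem_centralizer_singleton_iff]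
  exact (mem_map_iff_mem e.injective).symm

end Cfsg.Agent.S1004
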