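import Cfsg.Statements.S1006
import Cfsg.Agent.Lib.Layer.L168F
import Cfsg.Agent.Lib.Layer.Misc

set_option autoImplicit false
open Cfsg

namespace Cfsg.Agent.S1006

open Subgroup Cfsg.Lib.Core Cfsg.Lib.Amalg Cfsg.Lib.BG1 Cfsg.Lib.Layer

/-- In a simple group of order 168 there are 56 elements of order 3, all conjugate; 42 elements of order 4, all conjugate; and 48 elements of order 7 falling into two conjugacy classes of size 24, an element of order 7 not being conjugate to its inverse. -/
theorem result {G : Type*} [Group G] [Finite G] [IsSimpleGroup G] (h : Nat.card G = 168) : Nat.card {g : G // orderOf g = 3} = 56 ∧ (∀ s t : G, orderOf s = 3 → orderOf t = 3 → IsConj s t) ∧ Nat.card {g : G // orderOf g = 4} = 42 ∧ (∀ s t : G, orderOf s = 4 → orderOf t = 4 → IsConj s t) ∧ Nat.card {g : G // orderOf g = 7} = 48 ∧ ∀ x : G, orderOf x = 7 → Nat.card {g : G // IsConj x g} = 24 ∧ ¬ IsConj x x⁻¹ := by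
  obtain ⟨e⟩ := exists_l168 h
  refine ⟨by rw [card_order_congr e, L168.card_o, L168.c3],
    isConj_of_model e fun s hs => L168.conj_three s (L168.orderOf_eq s ▸ hs), by rw [card_order_congr e, L168.card_o, L168.c4],
    isConj_of_model e fun s hs => L168.conj_four s (L168.orderOf_eq s ▸ hs), by rw [card_order_congr e, L168.card_o, L168.c7],
    fun x hx => ?_⟩
  obtain ⟨x, rfl⟩ := e.surjective x
  rw [MulEquiv.orderOf_eq, L168.orderOf_eq] at hx
  obtain ⟨h1, h2⟩ := L168.cent7 x hx
  constructor
  · have := card_conj_mul (e x)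
    have h3 : centralizer ({e x} : Set G) = (centralizer ({x} : Set L168)).map e.toMonoidHom := by
      ext g
      obtain ⟨g, rfl⟩ := e.surjective g
      rw [mem_centralizer_singleton_iff, ← map_mul, ← map_mul, e.apply_eq_iff_eq, ← mem_centralizer_singleton_iff]
      exact (mem_map_iff_mem e.injective).symm
    rw [h3, card_map_eq', L168.card_cent, h1, h] at this
    omega
  · intro hc
    obtain ⟨g, hg⟩ := isConj_iff.1 hc
    obtain ⟨g, rfl⟩ := e.surjective g
    exact h2 g (e.injective (by simpa using hg))

end Cfsg.Agent.S1006
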