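import Cfsg.Statements.S1003
import Cfsg.Agent.Lib.Layer.L168F
import Cfsg.Agent.Lib.Layer.Misc
import Cfsg.Agent.S1004
import Cfsg.Agent.S1006

set_option autoImplicit false
open Cfsg

namespace Cfsg.Agent.S1003

open Subgroup Cfsg.Lib.Core Cfsg.Lib.Amalg Cfsg.Lib.BG1 Cfsg.Lib.Layer

/-- A simple group of order 168 has exactly 21 Sylow 2-subgroups, 28 Sylow 3-subgroups and 8 Sylow 7-subgroups. -/
theorem result {G : Type*} [Group G] [Finite G] [IsSimpleGroup G] (h : Nat.card G = 168) : Nat.card (Sylow 2 G) = 21 ∧ Nat.card (Sylow 3 G) = 28 ∧ Nat.card (Sylow 7 G) = 8 := by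
  obtain ⟨h3, -, -, -, h7, -⟩ := S1006.result h
  have : Fact (Nat.Prime 7) := ⟨by norm_num⟩
  obtain ⟨T⟩ : Nonempty (Sylow 2 G) := inferInstance
  obtain ⟨P⟩ : Nonempty (Sylow 3 G) := inferInstance
  obtain ⟨Q⟩ : Nonempty (Sylow 7 G) := inferInstance
  have a2 := Lib.Small.card_normalizer_mul_card_sylow T
  rw [(S1004.result h T).2.1, Lib.Small.card_sylow_subgroup_eq T (a := 3) (m := 21) h (by norm_num), h] at a2
  rw [Lib.Small.card_orderOf_eq_prime P (Lib.Small.card_sylow_subgroup_eq P (a := 1) (m := 56) h (by norm_num))] at h3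
  rw [Lib.Small.card_orderOf_eq_prime Q (Lib.Small.card_sylow_subgroup_eq Q (a := 1) (m := 24) h (by norm_num))] at h7
  omega

end Cfsg.Agent.S1003
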