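import Cfsg.Statements.S3188
import Cfsg.Agent.Lib.Gold.AbSolv

set_option autoImplicit false
open Cfsg Cfsg.Lib Cfsg.Lib.Gold

namespace Cfsg.Agent.S3188

/-- Let G be a finite group with abelian Sylow 2-subgroups in which the centralizer of every involution is solvable. Then either G is solvable, or G modulo its largest normal subgroup of odd order has a normal subgroup isomorphic to PSL(2, q) with trivial centralizer (so that the quotient embeds in the automorphism group of PSL(2, q)), where q ≡ 3 or 5 mod 8 with q ≥ 5, or q = 2^n with n ≥ 2. -/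
theorem result {G : Type*} [Group G] [Finite G]
    (S : Sylow 2 G) (hS : IsMulCommutative ↥(S : Subgroup G))
    (hC : ∀ t : G, orderOf t = 2 → Group.IsSolvable ↥(Subgroup.centralizer ({t} : Set G))) :
    Group.IsSolvable G ∨
      ∃ (F : Type) (_ : Field F) (_ : Fintype F),
        (((Fintype.card F % 8 = 3 ∨ Fintype.card F % 8 = 5) ∧ 5 ≤ Fintype.card F) ∨
          (∃ n : ℕ, 2 ≤ n ∧ Fintype.card F = 2 ^ n)) ∧
        ∃ N : Subgroup (G ⧸ Cfsg.oddCore G), N.Normal ∧
          Nonempty (↥N ≃* Matrix.ProjectiveSpecialLinearGroup (Fin 2) F) ∧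
          Subgroup.centralizer (N : Set (G ⧸ Cfsg.oddCore G)) = ⊥ := by
  refine or_iff_not_imp_left.2 fun hs => ?_
  have hO : oddCore (G ⧸ pPrimeCore 2 G) = ⊥ := Core.pPrimeCore_quotient_pPrimeCore
  have h1 := (Amalg.syl_top S).map_top (QuotientGroup.mk'_surjective (pPrimeCore 2 G))
  have h2 := comm_map hS (QuotientGroup.mk' (pPrimeCore 2 G))
  have h3 : ∀ t : G ⧸ pPrimeCore 2 G, orderOf t = 2 → Group.IsSolvable (Subgroup.centralizer {t}) := fun t ht => by
    obtain ⟨s, h4, -, e⟩ := exists_lift_core ht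
    have := hC s h4
    exact e ▸ Core.isSolvable_map _ _
  obtain ⟨h4, h5, h6⟩ := layer_of_solvable hO (fun e => hs (by
    have := solvable_of_layer hO h1 h2 e
    have := FT.solvable_of_not_two_dvd (pPrimeCore 2 G)
      (Nat.prime_two.coprime_iff_not_dvd.1 (Core.coprime_card_pPrimeCore 2 G).symm)
    exact Core.isSolvable_of_normal_of_quotient (pPrimeCore 2 G))) h3
  have hn : (layer (G ⧸ pPrimeCore 2 G)).Normal := Layer.layer_normal
  rcases known_of_solvable h5 (h1.inf_normal_top _).subgroupOf_top (comm_subgroupOf (comm_of_le h2 inf_le_left) _)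
      (fun t ht => by
        have := h3 t ((Subgroup.orderOf_coe t).trans ht)
        exact cent_subtype t ▸ Core.isSolvable_subgroupOf _ _) with ⟨F, _, _, h7, h8, e⟩ | ⟨F, _, _, h7, e⟩
  · exact ⟨F, _, _, .inl ⟨h7, h8⟩, _, hn, e, h6⟩
  · exact ⟨F, _, _, .inr h7, _, hn, e, h6⟩

end Cfsg.Agent.S3188
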