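import Cfsg.Statements.S3300
import Cfsg.Agent.Lib.Push.LXf

set_option autoImplicit false
open Cfsg

namespace Cfsg.Agent.S3300

open Subgroup Cfsg.Lib Cfsg.Lib.Known2 Cfsg.Lib.Amalg

/-- Let G be a finite group with no nontrivial 2-group quotient (O^2(G) = G), z an involution of G with H = C_G(z), and suppose E = O_2(H) is extraspecial with C_G(E) ≤ E and of order 2^(2n+1) with n ≥ 3. If H has a normal subgroup of index 2, then z is conjugate in G to an element of E other than z. -/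
theorem result {G : Type*} [Group G] [Finite G] (hres : Cfsg.pResidual 2 G = ⊤) (z : G) (hz : orderOf z = 2)
    (E : Subgroup G) (hE : E = (Cfsg.pCore 2 ↥(Subgroup.centralizer ({z} : Set G))).map (Subgroup.centralizer ({z} : Set G)).subtype)
    (hext : Cfsg.IsExtraspecial 2 ↥E) (hcent : Subgroup.centralizer (E : Set G) ≤ E) (n : ℕ) (hn : 3 ≤ n) (hcard : Nat.card ↥E = 2 ^ (2 * n + 1))
    (K : Subgroup G) (hKH : K ≤ Subgroup.centralizer ({z} : Set G))
    (hKn : ∀ h ∈ Subgroup.centralizer ({z} : Set G), K.map (MulAut.conj h).toMonoidHom = K)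
    (hKi : K.relIndex (Subgroup.centralizer ({z} : Set G)) = 2) :
    ∃ g : G, g * z * g⁻¹ ∈ E ∧ g * z * g⁻¹ ≠ z := by
  subst hE
  by_contra! hn
  have h := ls_of_op hz hext hcent
  have hG := Invol.pResidual_two_eq_top_iff.1 hres
  have h1 : 32 < Nat.card (pCoreOf 2 (centralizer {z})) :=
    hcard ▸ (show 2 ^ 5 < 2 ^ (2 * n + 1) from Nat.pow_lt_pow_right one_lt_two (by omega))
  obtain ⟨L, -, F⟩ := exists_fam h hKi
  have h2 : ∀ t ∈ {t | ∃ g, g * z * g⁻¹ = t}, 32 < Nat.card (pCoreOf 2 (centralizer {t})) := by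
    rintro _ ⟨g, rfl⟩
    rwa [← cj_Qc, card_cj]
  refine WC.false ⟨F, ?_, fun t ht => (F.ls t ht).le_of_index_two (by have := h2 t ht; omega) hG (F.idx t ht), h2⟩ ?_ hG
    (z := z) ⟨1, by group⟩
  · rintro _ ⟨g, rfl⟩ _ ⟨k, rfl⟩ h3
    rw [← cj_Qc, mem_cj] at h3
    have := hn (g⁻¹ * k) (by rwa [show g⁻¹ * k * z * (g⁻¹ * k)⁻¹ = g⁻¹ * (k * z * k⁻¹) * g by group])
    calc _ = g * (g⁻¹ * k * z * (g⁻¹ * k)⁻¹) * g⁻¹ := by group
      _ = _ := by rw [this]
  · rintro _ ⟨g, rfl⟩ _ ⟨g', rfl⟩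
    exact ⟨g' * g⁻¹, by group⟩

end Cfsg.Agent.S3300
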