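import Cfsg.Statements.S5344
import Cfsg.Agent.Lib.Known2.ThreeTr
import Cfsg.Agent.Lib.Known2.TCSym

set_option autoImplicit false
open Cfsg

namespace Cfsg.Agent.S5344
open Cfsg.Lib.Known2

theorem key : ∀ x : Equiv.Perm (Fin 4), x ≠ 1 → ∃ g h : Equiv.Perm (Fin 4),
    h * (x * g * x⁻¹ * g⁻¹) * h⁻¹ = Equiv.swap 0 1 * Equiv.swap 2 3 := by
  decide +kernel

/-- In a set of 3-transpositions, let a, b, c be members with a and c different and commuting, while neither a nor c commutes with b (a 3-string). Then there is an injective homomorphism from the symmetric group of degree 4 into the ambient group sending the transpositions (0 1), (1 2), (2 3) to a, b, c; so a, b, c generate a copy of the symmetric group of degree 4 in which they are transpositions. -/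
theorem result {G : Type*} [Group G] {D : Set G} (hD : Cfsg.IsThreeTranspositionSet D) {a b c : G} (ha : a ∈ D) (hb : b ∈ D) (hc : c ∈ D) (hac : a ≠ c) (hac' : Commute a c) (hab : ¬ Commute a b) (hbc : ¬ Commute b c) : ∃ φ : Equiv.Perm (Fin 4) →* G, Function.Injective φ ∧ φ (Equiv.swap 0 1) = a ∧ φ (Equiv.swap 1 2) = b ∧ φ (Equiv.swap 2 3) = c := by
  have h1 := tt_mul_self hD ha
  have h2 := tt_mul_self hD hb
  have h3 := tt_mul_self hD hc
  obtain ⟨φ, e1, e2, e3⟩ := TC.exists_hom_perm4 h1 h2 h3 (tt_cube hD ha hb hab)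
    ((commute_iff_sq_eq_one h1 h3).1 hac') (tt_cube hD hb hc hbc)
  refine ⟨φ, (injective_iff_map_eq_one φ).2 fun x hx => ?_, e1, e2, e3⟩
  by_contra hx1
  obtain ⟨g, h, e⟩ := key x hx1
  have := congrArg φ e
  simp only [map_mul, map_inv, hx, e1, e3] at this
  apply hac
  have h4 : a * c = 1 := by rw [← this]; group
  have := eq_inv_of_mul_eq_one_left h4
  rwa [tt_inv hD hc] at this

end Cfsg.Agent.S5344
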