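import Cfsg.Statements.S3103
import Cfsg.Agent.Lib.KS9.Plane
import Cfsg.Agent.Lib.Linear.SmallIso
import Cfsg.Agent.Lib.Core.UpperP
import Cfsg.Agent.Lib.Coprime.Basic
import Cfsg.Agent.Lib.Transfer.PNilp
import Cfsg.Agent.Lib.Invol.Closed

set_option autoImplicit false
open Cfsg

open Subgroup Cfsg.Lib
open scoped commutatorElement
open Cfsg.Lib.Invol Cfsg.Lib.Transfer
namespace Cfsg.Agent.S3103

def blk {F : Type*} [Field F] {n k m : ℕ} (e : Fin n ⊕ Fin k ≃ Fin m) :
    Matrix (Fin n) (Fin n) F →* Matrix (Fin m) (Fin m) F where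
  toFun M := Matrix.reindex e e (Matrix.fromBlocks M 0 0 1)
  map_one' := by simp
  map_mul' M N := by simp [Matrix.fromBlocks_multiply]

theorem blk_inj {F : Type*} [Field F] {n k m : ℕ} (e : Fin n ⊕ Fin k ≃ Fin m) : Function.Injective (blk (F := F) e) :=
  fun _ _ h => (Matrix.fromBlocks_inj.1 ((Matrix.reindex e e).injective h)).1

/-- Let X be a finite 2-constrained group with no nontrivial normal subgroup of odd order such that O₂(X) has sectional 2-rank at most 4. Then X/O₂(X) is isomorphic to a subgroup of the alternating group of degree 8. -/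
theorem result {X : Type*} [Group X] [Finite X] (hc : Cfsg.IsPConstrained 2 X) (hO : Cfsg.oddCore X = ⊥)
    (h4 : Cfsg.SectionalPRankLE 2 4 ↥(Cfsg.pCore 2 X)) :
    ∃ f : X ⧸ Cfsg.pCore 2 X →* ↥(alternatingGroup (Fin 8)), Function.Injective f := by
  have := fact_two
  have hF := Core.isPGroup_pCore 2 X
  have hC := (Core.isPConstrained_iff_of_pPrimeCore_eq_bot hO).1 hc
  haveI := Core.normal_frattiniOf (pCore 2 X)
  set π := QuotientGroup.mk' ((frattini (pCore 2 X)).map (pCore 2 X).subtype)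
  have hk : ∀ a, π a = 1 ↔ a ∈ (frattini (pCore 2 X)).map (pCore 2 X).subtype := fun a => QuotientGroup.eq_one_iff a
  have hcm : ∀ a ∈ pCore 2 X, ∀ b ∈ pCore 2 X, Commute (π a) (π b) := fun a ha b hb =>
    commutatorElement_eq_one_iff_commute.1 (by
      rw [← map_commutatorElement, hk]; exact PGrp.commutator_le_map_frattini hF (commutator_mem_commutator ha hb))
  have hW : IsElementaryAbelian 2 ((pCore 2 X).map π) := ⟨mulComm_of_forall (by
    rintro _ ⟨a, ha, rfl⟩ _ ⟨b, hb, rfl⟩; exact hcm a ha b hb), by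
    rintro _ ⟨a, ha, rfl⟩; rw [← map_pow, hk]; exact PGrp.pow_mem_map_frattini hF ha⟩
  obtain ⟨n, hn⟩ := (hF.map π).exists_card_eq
  have hn4 : n ≤ 4 := by
    let φ := π.comp ((pCore 2 X).subtype.comp (⊤ : Subgroup (pCore 2 X)).subtype)
    have hr : φ.range = (pCore 2 X).map π := by
      rw [MonoidHom.range_comp, MonoidHom.range_comp, range_subtype, ← MonoidHom.range_eq_map, range_subtype]
    let e := QuotientGroup.quotientKerEquivRange φ
    have := h4 ⊤ φ.ker ⊤ (mulComm_of_forall fun x _ y _ => e.injective (by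
      rw [map_mul, map_mul]; exact Subtype.ext (commute_of_mulComm hW.1 (hr ▸ (e x).2) (hr ▸ (e y).2))))
      fun x _ => e.injective (by rw [map_pow, map_one]; exact Subtype.ext (hW.2 _ (hr ▸ (e x).2)))
    rw [card_top, Nat.card_congr e.toEquiv, hr, hn] at this
    exact (Nat.pow_le_pow_iff_right one_lt_two).1 this
  obtain ⟨-, σ, -, -, -, -, hσ⟩ := KS9.exists_gl_rep hW hn
  haveI := (inferInstance : (pCore 2 X).Normal).map π (QuotientGroup.mk'_surjective _)
  obtain ⟨g⟩ := Linear.gl4_two_equiv (F := ZMod 2) (Nat.card_zmod 2)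
  let e : Fin n ⊕ Fin (4 - n) ≃ Fin 4 := finSumFinEquiv.trans (finCongr (by omega))
  let τ := σ.comp (π.codRestrict _ fun x => by rw [normalizer_eq_top]; exact mem_top _)
  have hτ : ∀ x, τ x = 1 ↔ π x ∈ centralizer ((pCore 2 X).map π : Set _) := fun x => hσ _
  have hker : τ.ker = pCore 2 X := le_antisymm (Core.le_pCore (isPGroup_of_forall fun x hx => by
    obtain ⟨k, hk'⟩ := exists_pow_coprime_orderOf (p := 2) x
    refine ⟨k, eq_one_of_odd_of_mem hF (hC (Coprime.le_centralizer_of_commutator_le_frattini (A := zpowers (x ^ 2 ^ k))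
      (by rw [normalizer_eq_top]; exact le_top) ?_ (commutator_le.2 fun a ha b hb => ?_) (mem_zpowers _)))
      (Nat.coprime_two_right.1 hk')⟩
    · rw [Nat.card_zpowers]
      exact (Core.coprime_card_of_isPGroup Nat.prime_two (hF.to_subgroup _) hk').symm
    · rw [← hk, map_commutatorElement, commutatorElement_eq_one_iff_commute]
      exact (hτ b).1 (zpowers_le.2 (pow_mem hx _) hb) _ ⟨a, ha, rfl⟩))
    fun x hx => (hτ x).2 (by rintro _ ⟨a, ha, rfl⟩; exact hcm a ha x hx)
  exact ⟨g.toMonoidHom.comp ((Units.map (blk e)).comp ((QuotientGroup.kerLift τ).comp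
    (QuotientGroup.quotientMulEquivOfEq hker.symm).toMonoidHom)), g.injective.comp ((Units.map_injective (blk_inj e)).comp
      ((QuotientGroup.kerLift_injective τ).comp (MulEquiv.injective _)))⟩

end Cfsg.Agent.S3103
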