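import Cfsg.Statements.S0672
import Cfsg.Agent.Lib.Perm.Heart

set_option autoImplicit false
open Cfsg

namespace Cfsg.Agent.S0672

open scoped Pointwise

/-- Let a finite group act faithfully and doubly transitively with point stabilisers of even order, and let `K` have characteristic `p` dividing the degree. If the heart of the permutation module admits no non-zero equivariant map to the permutation module on unordered pairs (phrased: every intertwining map from the sum-zero functions vanishing on the constants is zero), the action is triply transitive. -/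
theorem result {G : Type*} [Group G] [Finite G] {K : Type*} [Field K] {p : ℕ} [Fact p.Prime] [CharP K p] {Ω : Type*} [Fintype Ω] [DecidableEq Ω] [MulAction G Ω] [FaithfulSMul G Ω] (h2 : MulAction.IsMultiplyPretransitive G Ω 2) (hp : p ∣ Fintype.card Ω) (heven : ∀ a : Ω, Even (Nat.card (MulAction.stabilizer G a))) (h : ∀ f : Representation.IntertwiningMap (Cfsg.permSumZero K G Ω).toRepresentation (Cfsg.permRep K G (Set.powersetCard Ω 2)), (∀ v : (Cfsg.permSumZero K G Ω).toSubmodule, (v : Ω → K) ∈ (Cfsg.permConstants K G Ω).toSubmodule → f v = 0) → f = 0) : MulAction.IsMultiplyPretransitive G Ω 3 := by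
  classical
  rcases isEmpty_or_nonempty Ω with h0 | ⟨⟨c⟩⟩
  · exact Cfsg.Lib.Perm.three_iff.mpr fun a => h0.elim a
  obtain ⟨⟨t, htc⟩, ht⟩ := exists_prime_orderOf_dvd_card' (G := MulAction.stabilizer G c) 2
    (even_iff_two_dvd.mp (heven c))
  rw [← Subgroup.orderOf_coe] at ht
  replace ht : orderOf t = 2 := ht
  have htc : t • c = c := htc
  have htt : ∀ x : Ω, t • t • x = x := fun x => by rw [← mul_smul, ← sq, ← ht, pow_orderOf_eq_one, one_smul]
  obtain ⟨a, hab⟩ : ∃ a : Ω, t • a ≠ a := by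
    by_contra h1
    push Not at h1
    have : t = 1 := FaithfulSMul.eq_of_smul_eq_smul (α := Ω) fun x => by rw [h1, one_smul]
    rw [this, orderOf_one] at ht
    omega
  set b := t • a with hb
  have hca : c ≠ a := by rintro rfl; exact hab htc
  have hcb : c ≠ b := fun e => hca (by rw [← htc, e, hb, htt])
  by_contra hcon
  obtain ⟨d, hda, hdb, hd⟩ : ∃ d, d ≠ a ∧ d ≠ b ∧ ∀ g : G, g • a = a → g • b = b → g • c ≠ d := by
    by_contra h1
    push Not at h1
    refine hcon (Cfsg.Lib.Perm.mt_succ_of_exists h2 {a, b} (Finset.card_pair hab.symm) fun x hx y hy => ?_)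
    simp only [Finset.mem_insert, Finset.mem_singleton, not_or] at hx hy
    obtain ⟨g, e1, e2, e3⟩ := h1 x hx.1 hx.2
    obtain ⟨k, e4, e5, e6⟩ := h1 y hy.1 hy.2
    refine ⟨k * g⁻¹, fun z hz => ?_, by rw [mul_smul, inv_smul_eq_iff.mpr e3.symm, e6]⟩
    rcases Finset.mem_insert.mp hz with rfl | hz
    · rw [mul_smul, inv_smul_eq_iff.mpr e1.symm, e4]
    · rw [Finset.mem_singleton.mp hz, mul_smul, inv_smul_eq_iff.mpr e2.symm, e5]
  let π₀ : Set.powersetCard Ω 2 := ⟨{a, b}, Finset.card_pair hab.symm⟩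
  have hS : ∀ g : G, g • π₀ = π₀ → ∀ x, g • x ∈ ({a, b} : Finset Ω) ↔ x ∈ ({a, b} : Finset Ω) := by
    intro g hg x
    have : g • ({a, b} : Finset Ω) = {a, b} := congrArg Subtype.val hg
    conv_lhs => rw [← this]
    exact Finset.smul_mem_smul_finset_iff g
  let O : Finset Ω := Finset.univ.filter fun x => ∃ g : G, g • π₀ = π₀ ∧ g • c = x
  have hO : ∀ g : G, g • π₀ = π₀ → ∀ x, g • x ∈ O ↔ x ∈ O := by
    intro g hg x
    simp only [O, Finset.mem_filter, Finset.mem_univ, true_and]
    exact ⟨fun ⟨k, h1, h3⟩ => ⟨g⁻¹ * k, by rw [mul_smul, h1, inv_smul_eq_iff, hg],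
      by rw [mul_smul, h3, inv_smul_smul]⟩, fun ⟨k, h1, h3⟩ => ⟨g * k, by rw [mul_smul, h1, hg],
      by rw [mul_smul, h3]⟩⟩
  have hcO : c ∈ O := by simpa [O] using ⟨1, one_smul _ _, one_smul _ _⟩
  have haO : a ∉ O := by
    simp only [O, Finset.mem_filter, Finset.mem_univ, true_and]
    rintro ⟨g, h1, h3⟩
    have := (hS g h1 c).mp (by simp [h3])
    simp [hca, hcb] at this
  have hdO : d ∉ O := by
    simp only [O, Finset.mem_filter, Finset.mem_univ, true_and]
    rintro ⟨g, h1, h3⟩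
    have h4 := (hS g h1 a).mpr (by simp)
    have h5 := (hS g h1 b).mpr (by simp)
    simp only [Finset.mem_insert, Finset.mem_singleton] at h4 h5
    rcases h4 with h4 | h4 <;> rcases h5 with h5 | h5
    · exact hab (smul_left_cancel g (h5.trans h4.symm))
    · exact hd g h4 h5 h3
    · exact hd (g * t) (by rw [mul_smul, ← hb, h5]) (by rw [mul_smul, hb, htt, h4]) (by rw [mul_smul, htc, h3])
    · exact hab (smul_left_cancel g (h5.trans h4.symm))
  obtain ⟨φ, hφ, hφs, x, y, hxy⟩ : ∃ φ : Ω → K, (∀ g : G, g • π₀ = π₀ → ∀ x, φ (g • x) = φ x) ∧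
      ∑ x, φ x = 0 ∧ ∃ x y, φ x ≠ φ y := by
    by_cases h1 : (O.card : K) = 0
    · refine ⟨fun x => if x ∈ O then 1 else 0, fun g hg x => by simp only [hO g hg], by simpa using h1,
        c, a, by simp [hcO, haO]⟩
    · refine ⟨fun x => (if x ∈ ({a, b} : Finset Ω) then (O.card : K) else 0) - if x ∈ O then 2 else 0,
        fun g hg x => by simp only [hO g hg, hS g hg], ?_, a, d, by simp [haO, hdO, hda, hdb, h1]⟩
      rw [Finset.sum_sub_distrib, Finset.sum_ite_mem, Finset.sum_ite_mem, Finset.univ_inter,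
        Finset.univ_inter, Finset.sum_const, Finset.sum_const, Finset.card_pair hab.symm]
      simp [mul_comm]
  have htr := Set.powersetCard.isPretransitive_of_isMultiplyPretransitive G h2
  choose r hr using fun π : Set.powersetCard Ω 2 => MulAction.exists_smul_eq G π₀ π
  have hr' : ∀ (g : G) (π : Set.powersetCard Ω 2), g • π₀ = π → ∀ x, φ ((r π)⁻¹ • x) = φ (g⁻¹ • x) := by
    intro g π hg x
    rw [← hφ ((r π)⁻¹ * g) (by rw [mul_smul, hg, inv_smul_eq_iff, hr]) (g⁻¹ • x), mul_smul, smul_inv_smul]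
  let F : (Ω → K) →ₗ[K] (Set.powersetCard Ω 2 → K) :=
    { toFun := fun v π => ∑ x, v x * φ ((r π)⁻¹ • x)
      map_add' := fun u v => by ext π; simp [add_mul, Finset.sum_add_distrib]
      map_smul' := fun s v => by ext π; simp [Finset.mul_sum, mul_assoc] }
  have := h ((F ∘ₗ (Cfsg.permSumZero K G Ω).toSubmodule.subtype).intertwiningMap_of_isIntertwiningMap _ _
    fun g v => by
      ext π
      change ∑ x, (v : Ω → K) (g⁻¹ • x) * φ ((r π)⁻¹ • x) = ∑ x, (v : Ω → K) x * φ ((r (g⁻¹ • π))⁻¹ • x)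
      rw [← Cfsg.Lib.Perm.sum_smul_eq g]
      refine Finset.sum_congr rfl fun x _ => ?_
      rw [inv_smul_smul, hr' (g⁻¹ * r π) (g⁻¹ • π) (by rw [mul_smul, hr]), mul_inv_rev, inv_inv, mul_smul])
    (fun v hv => by
      obtain ⟨s, hs⟩ := Submodule.mem_span_singleton.mp hv
      ext π
      change ∑ x, (v : Ω → K) x * φ ((r π)⁻¹ • x) = 0
      rw [← hs]
      simp only [Pi.smul_apply, smul_eq_mul, mul_one, ← Finset.mul_sum]
      rw [Cfsg.Lib.Perm.sum_smul_eq, hφs, mul_zero])
  have h3 := congrFun (DFunLike.congr_fun this ⟨Pi.single x 1 - Pi.single y 1, by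
    change ∑ x, _ = (0 : K); simp [Finset.sum_sub_distrib]⟩) π₀
  change ∑ z, (Pi.single x 1 - Pi.single y 1 : Ω → K) z * φ ((r π₀)⁻¹ • z) = 0 at h3
  simp only [hr' 1 π₀ (one_smul _ _), inv_one, one_smul] at h3
  simp [sub_mul, Finset.sum_sub_distrib, Pi.single_apply, sub_eq_zero] at h3
  exact hxy h3

end Cfsg.Agent.S0672
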