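import Cfsg.Statements.S0676
import Cfsg.Agent.S0672

set_option autoImplicit false
open Cfsg

namespace Cfsg.Agent.S0676

open scoped Pointwise

/-- A non-solvable transitive permutation group of prime degree `p` whose Sylow `p`-normaliser has even order is triply transitive. -/
theorem result {α : Type*} [Fintype α] [DecidableEq α] {p : ℕ} [Fact p.Prime] (hα : Fintype.card α = p) (G : Subgroup (Equiv.Perm α)) [MulAction.IsPretransitive G α] (hG : ¬ Group.IsSolvable G) (P : Sylow p G) (heven : Even (Nat.card (Subgroup.normalizer ((P : Subgroup G) : Set G)))) : MulAction.IsMultiplyPretransitive G α 3 := by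
  have hpp : p.Prime := Fact.out
  obtain ⟨c, e, hP, hc⟩ := Cfsg.Lib.Perm.primeDeg_coord hα G P
  have hna : ¬ ∀ g : G, ∃ a b : ZMod p, ∀ j, g • e j = e (a * j + b) := fun h =>
    hG (Cfsg.Lib.Perm.solvable_of_affine h)
  have h2 := (Cfsg.Lib.Perm.affine_or_two_transitive hc).resolve_left hna
  have hh := (Cfsg.Lib.Perm.affine_or_heart hc (ZMod p)).resolve_left hna
  have hp2 : p ≠ 2 := by
    rintro rfl
    have h1 := Cfsg.Lib.Perm.card_dvd_factorial G
    rw [hα] at h1
    have : IsCyclic G := isCyclic_of_card_dvd_prime (p := 2) h1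
    exact hG (isSolvable_of_comm fun a b => mul_comm' a b)
  have htwo : (2 : ZMod p) ≠ 0 := fun h => hp2 ((Nat.prime_dvd_prime_iff_eq hpp Nat.prime_two).mp
    ((ZMod.natCast_eq_zero_iff 2 p).mp h))
  obtain ⟨b, t, ht⟩ := Cfsg.Lib.Perm.coord_reflection hc hp2 (hP ▸ heven)
  refine Cfsg.Agent.S0672.result (K := ZMod p) (p := p) h2 (by rw [hα]) (fun a => ?_) fun f hf => ?_
  · have h1 := Cfsg.Lib.Perm.card_eq_mul_of_transitive (G := G) a
    rw [Nat.card_eq_fintype_card (α := α), hα] at h1
    have h3 : Even (Nat.card G) := even_iff_two_dvd.mpr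
      ((even_iff_two_dvd.mp heven).trans (Subgroup.card_subgroup_dvd_card _))
    rw [h1, Nat.even_mul] at h3
    exact h3.resolve_left (Nat.not_even_iff_odd.mpr (hpp.odd_of_ne_two hp2))
  let W : Subrepresentation (Cfsg.permRep (ZMod p) G α) :=
    ⟨(LinearMap.ker f.toLinearMap).map (Cfsg.permSumZero (ZMod p) G α).toSubmodule.subtype, by
      rintro g _ ⟨v, hv, rfl⟩
      refine ⟨(Cfsg.permSumZero (ZMod p) G α).toRepresentation g v, ?_, rfl⟩
      have hv : f v = 0 := hv
      change f _ = 0
      rw [Representation.IntertwiningMap.isIntertwining, hv, map_zero]⟩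
  have hone : (fun _ => 1 : α → ZMod p) ∈ (Cfsg.permSumZero (ZMod p) G α).toSubmodule := by
    change ∑ x, _ = (0 : ZMod p); simp [hα]
  rcases hh W ((Submodule.span_singleton_le_iff_mem _ _).mpr
    ⟨⟨_, hone⟩, hf _ (Submodule.mem_span_singleton_self _), rfl⟩) (by
      rintro _ ⟨v, -, rfl⟩; exact v.2) with h | h
  · exfalso
    have htinv : ∀ j, t⁻¹ • e j = e (b - j) := fun j => by rw [inv_smul_eq_iff, ht]; simp
    have hcinv : ∀ j, c⁻¹ • e j = e (j - 1) := fun j => by rw [inv_smul_eq_iff, hc]; simp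
    let v₀ : α → ZMod p := fun x => 2 * e.symm x - b
    have hv₀ : Cfsg.permRep (ZMod p) G α t v₀ = -v₀ := by
      ext x
      obtain ⟨j, rfl⟩ := e.surjective x
      change v₀ (t⁻¹ • e j) = -v₀ (e j)
      simp only [v₀, htinv, Equiv.symm_apply_apply]; ring
    have hvS : v₀ ∈ (Cfsg.permSumZero (ZMod p) G α).toSubmodule := by
      have h1 := Cfsg.Lib.Perm.sum_smul_eq t⁻¹ v₀
      have h3 : ∑ x, v₀ (t⁻¹ • x) = ∑ x, (-v₀) x := Finset.sum_congr rfl fun x _ => congrFun hv₀ x
      simp only [Pi.neg_apply, Finset.sum_neg_distrib] at h3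
      change ∑ x, v₀ x = 0
      apply mul_left_cancel₀ htwo
      linear_combination h3 - h1
    set w := f ⟨v₀, hvS⟩ with hw
    have hwc : ∀ π, w (c⁻¹ • π) = w π := fun π => by
      have h1 := f.isIntertwining _ _ c ⟨v₀, hvS⟩
      have h3 : (Cfsg.permSumZero (ZMod p) G α).toRepresentation c ⟨v₀, hvS⟩ =
          ⟨v₀, hvS⟩ - (2 : ZMod p) • ⟨_, hone⟩ := by
        ext x
        obtain ⟨j, rfl⟩ := e.surjective x
        change v₀ (c⁻¹ • e j) = v₀ (e j) - 2 * 1
        simp only [v₀, hcinv, Equiv.symm_apply_apply]; ring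
      rw [h3, map_sub, map_smul, hf ⟨_, hone⟩ (Submodule.mem_span_singleton_self _), smul_zero, sub_zero] at h1
      exact (congrFun h1 π).symm
    have hwc' : ∀ (n : ℕ) π, w (c ^ n • π) = w π := fun n π => by
      induction n with
      | zero => simp
      | succ n ih => rw [← hwc, pow_succ', mul_smul, inv_smul_smul, ih]
    have hw0 : w = 0 := by
      ext π
      have h1 := f.isIntertwining _ _ t ⟨v₀, hvS⟩
      have h3 : (Cfsg.permSumZero (ZMod p) G α).toRepresentation t ⟨v₀, hvS⟩ = -⟨v₀, hvS⟩ :=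
        Subtype.ext hv₀
      rw [h3, map_neg] at h1
      have h4 : -w π = w (t⁻¹ • π) := congrFun h1 π
      obtain ⟨x, y, -, hxy⟩ := Finset.card_eq_two.mp π.2
      obtain ⟨i, rfl⟩ := e.surjective x
      obtain ⟨j, rfl⟩ := e.surjective y
      have h5 : t⁻¹ • π = c ^ (b - i - j).val • π := by
        apply Subtype.ext
        change t⁻¹ • (π : Finset α) = c ^ (b - i - j).val • (π : Finset α)
        rw [hxy, Finset.smul_finset_insert, Finset.smul_finset_singleton, Finset.smul_finset_insert,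
          Finset.smul_finset_singleton, htinv, htinv, Cfsg.Lib.Perm.coord_pow hc,
          Cfsg.Lib.Perm.coord_pow hc, Finset.pair_comm, ZMod.natCast_zmod_val]
        congr 3
        · ring
        · ring
      rw [h5, hwc'] at h4
      apply mul_left_cancel₀ htwo
      simp only [Pi.zero_apply, mul_zero]
      linear_combination -h4
    have h6 : v₀ ∈ W.toSubmodule := ⟨⟨v₀, hvS⟩, hw0, rfl⟩
    rw [h] at h6
    obtain ⟨s, hs⟩ := Submodule.mem_span_singleton.mp h6
    have h7 := congrFun hs (e 0)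
    have h8 := congrFun hs (e 1)
    simp only [v₀, Pi.smul_apply, smul_eq_mul, Equiv.symm_apply_apply] at h7 h8
    apply htwo
    linear_combination h7 - h8
  · ext v : 2
    have : (v : α → ZMod p) ∈ W.toSubmodule := by rw [h]; exact v.2
    obtain ⟨u, hu, e1⟩ := this
    rw [← Subtype.ext e1]
    exact hu

end Cfsg.Agent.S0676
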