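import Cfsg.Statements.S0735
import Cfsg.Agent.Lib.Perm.Basic
import Mathlib.GroupTheory.GroupAction.SubMulAction.Combination

set_option autoImplicit false
open Cfsg

namespace Cfsg.Agent.S0735

open Pointwise in

/-- A 2-homogeneous permutation group (transitive on 2-subsets) of even order is doubly transitive; a non-trivial 2-homogeneous group is primitive. -/
theorem result {α : Type*} [Fintype α] [DecidableEq α] (G : Subgroup (Equiv.Perm α)) (h2 : MulAction.IsPretransitive G (Set.powersetCard α 2)) (hα : 3 ≤ Fintype.card α) : (Even (Nat.card G) → MulAction.IsMultiplyPretransitive G α 2) ∧ (G ≠ ⊥ → MulAction.IsPreprimitive G α) := by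
  classical
  have key : ∀ a b c d : α, a ≠ b → c ≠ d → ∃ g : G, (g • a = c ∧ g • b = d) ∨ (g • a = d ∧ g • b = c) := by
    intro a b c d hab hcd
    obtain ⟨g, hg⟩ := MulAction.exists_smul_eq G
      (⟨{a, b}, by simp [Set.powersetCard, Finset.card_pair hab]⟩ : Set.powersetCard α 2)
      (⟨{c, d}, by simp [Set.powersetCard, Finset.card_pair hcd]⟩ : Set.powersetCard α 2)
    have h1 : g • ({a, b} : Finset α) = {c, d} := congrArg Subtype.val hg
    have ha : g • a ∈ ({c, d} : Finset α) := h1 ▸ Finset.smul_mem_smul_finset (by simp)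
    have hb : g • b ∈ ({c, d} : Finset α) := h1 ▸ Finset.smul_mem_smul_finset (by simp)
    have hne : g • a ≠ g • b := fun h => hab (smul_left_cancel g h)
    simp only [Finset.mem_insert, Finset.mem_singleton] at ha hb
    refine ⟨g, ?_⟩
    rcases ha with ha | ha <;> rcases hb with hb | hb
    · exact absurd (ha.trans hb.symm) hne
    · exact Or.inl ⟨ha, hb⟩
    · exact Or.inr ⟨ha, hb⟩
    · exact absurd (ha.trans hb.symm) hne
  have third : ∀ a b : α, ∃ c, c ≠ a ∧ c ≠ b := by
    intro a b
    by_contra h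
    push Not at h
    have : (Finset.univ : Finset α) ⊆ {a, b} := by
      intro c _
      by_cases hc : c = a
      · simp [hc]
      · simp [h c hc]
    have h1 := Finset.card_le_card this
    have h2 : ({a, b} : Finset α).card ≤ 2 := Finset.card_le_two
    rw [Finset.card_univ] at h1
    omega
  constructor
  · intro hev
    obtain ⟨t, ht⟩ := exists_prime_orderOf_dvd_card' 2 (G := G) hev.two_dvd
    have ht1 : t ≠ 1 := by rintro rfl; simp at ht
    obtain ⟨u, hu⟩ : ∃ u, t • u ≠ u := by
      by_contra h
      push Not at h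
      exact ht1 (Subtype.ext (Equiv.ext h))
    have htt : t • t • u = u := by rw [← mul_smul, ← sq, ← ht, pow_orderOf_eq_one, one_smul]
    have h1 : ∀ a b : α, a ≠ b → ∃ g : G, g • a = u ∧ g • b = t • u := by
      intro a b hab
      obtain ⟨g, hg | hg⟩ := key a b u (t • u) hab hu.symm
      · exact ⟨g, hg⟩
      · exact ⟨t * g, by rw [mul_smul, hg.1, htt], by rw [mul_smul, hg.2]⟩
    rw [MulAction.is_two_pretransitive_iff]
    intro a b c d hab hcd
    obtain ⟨g, h2, h3⟩ := h1 a b hab
    obtain ⟨k, h4, h5⟩ := h1 c d hcd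
    exact ⟨k⁻¹ * g, by rw [mul_smul, h2, ← h4, inv_smul_smul], by rw [mul_smul, h3, ← h5, inv_smul_smul]⟩
  · intro _
    have htr : MulAction.IsPretransitive G α := by
      constructor
      intro a b
      obtain ⟨c, hca, hcb⟩ := third a b
      by_cases hab : a = b
      · exact ⟨1, by simp [hab]⟩
      obtain ⟨g, hg | hg⟩ := key a c b c hca.symm hcb.symm
      · exact ⟨g, hg.1⟩
      · exact ⟨g * g, by rw [mul_smul, hg.1, hg.2]⟩
    constructor
    intro B hB
    by_cases hs : B.Subsingleton
    · exact Or.inl hs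
    right
    rw [Set.not_subsingleton_iff] at hs
    obtain ⟨a, ha, b, hb, hab⟩ := hs
    rw [Set.eq_univ_iff_forall]
    intro c
    by_cases hca : c = a
    · exact hca ▸ ha
    obtain ⟨g, hg | hg⟩ := key a b a c hab (Ne.symm hca)
    · rw [← hB.smul_eq_of_mem (g := g) ha (hg.1.symm ▸ ha), ← hg.2]
      exact Set.smul_mem_smul_set hb
    · rw [← hB.smul_eq_of_mem (g := g) hb (hg.2.symm ▸ ha), ← hg.1]
      exact Set.smul_mem_smul_set ha

end Cfsg.Agent.S0735
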