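import Cfsg.Statements.S0743
import Cfsg.Agent.Lib.Perm.Basic

set_option autoImplicit false
open Cfsg

namespace Cfsg.Agent.S0743

/-- Gleason's Lemma: let `p` be a prime and `1 ≤ k < n`; if every `k`-subset of the `n` points is exactly the fixed-point set of some `p`-subgroup of `G`, then `G` is `k`-transitive. -/
theorem result {α : Type*} [Fintype α] [DecidableEq α] (G : Subgroup (Equiv.Perm α)) {p k : ℕ} (hp : p.Prime) (hk : 1 ≤ k) (hkn : k < Fintype.card α) (h : ∀ s : Finset α, s.card = k → ∃ P : Subgroup G, IsPGroup p P ∧ MulAction.fixedPoints P α = (s : Set α)) : MulAction.IsMultiplyPretransitive G α k := by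
  have := Fact.mk hp
  have h1 : ∀ t : Finset α, t.card = k - 1 → ∀ a ∉ t, ∀ b ∉ t, ∃ g : G, (∀ x ∈ t, g • x = x) ∧ g • a = b := by
    intro t ht a ha b hb
    set K := fixingSubgroup G (t : Set α) with hK
    by_contra hcon
    have hPK : ∀ c ∉ t, ∃ P : Subgroup G, IsPGroup p P ∧ P ≤ K ∧ (∀ g ∈ P, g • c = c) ∧
        ∀ x, x ∉ t → (∀ g ∈ P, g • x = x) → x = c := by
      intro c hc
      obtain ⟨P, hP, hfix⟩ := h (insert c t) (by rw [Finset.card_insert_of_notMem hc]; omega)
      have hf : ∀ x, (∀ g ∈ P, g • x = x) ↔ x ∈ insert c t := by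
        intro x
        rw [← Finset.mem_coe, ← hfix]
        exact ⟨fun h g => h g g.2, fun h g hg => h ⟨g, hg⟩⟩
      refine ⟨P, hP, fun g hg => ?_, (hf c).mpr (by simp), fun x hx hx' => ?_⟩
      · rw [hK, mem_fixingSubgroup_iff]
        intro y hy
        exact (hf y).mpr (Finset.mem_insert_of_mem hy) g hg
      · exact (Finset.mem_insert.mp ((hf x).mp hx')).resolve_right hx
    have hOt : ∀ x ∈ MulAction.orbit K a, x ∉ t := by
      rintro _ ⟨g, rfl⟩ hx
      apply ha
      have := (mem_fixingSubgroup_iff G).mp (g⁻¹).2 _ hx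
      change ((g⁻¹ : K) : G) • (g : G) • a = (g : G) • a at this
      simp only [Subgroup.coe_inv, inv_smul_smul] at this
      change (g : G) • a ∈ t at hx
      rwa [← this] at hx
    have hinv : ∀ P : Subgroup G, P ≤ K → ∀ g ∈ P, ∀ x ∈ MulAction.orbit K a, g • x ∈ MulAction.orbit K a := by
      rintro P hP g hg _ ⟨k, rfl⟩
      exact ⟨⟨g, hP hg⟩ * k, mul_smul _ _ _⟩
    have hd : p ∣ Nat.card (MulAction.orbit K a) := by
      by_contra hd
      obtain ⟨P, hP, hPK, -, hu⟩ := hPK b hb
      obtain ⟨x, hx, hx'⟩ := Cfsg.Lib.Perm.exists_fixed_of_not_dvd hP _ (hinv P hPK) hd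
      have := hu x (hOt x hx) hx'
      subst this
      obtain ⟨g, hg⟩ := hx
      exact hcon ⟨g, fun y hy => (mem_fixingSubgroup_iff G).mp g.2 y hy, hg⟩
    obtain ⟨P, hP, hPK, hfa, hu⟩ := hPK a ha
    have hd' : ¬ p ∣ Nat.card (MulAction.orbit K a \ {a} : Set α) := by
      intro hd'
      rw [Nat.card_coe_set_eq] at hd hd'
      rw [← Set.ncard_sdiff_singleton_add_one (MulAction.mem_orbit_self a)] at hd
      exact hp.one_lt.ne' (Nat.dvd_one.mp ((Nat.dvd_add_right hd').mp hd))
    obtain ⟨x, hx, hx'⟩ := Cfsg.Lib.Perm.exists_fixed_of_not_dvd hP (MulAction.orbit K a \ {a}) (fun g hg x hx =>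
      ⟨hinv P hPK g hg x hx.1, fun e => hx.2 (by
        have e' : g • x = a := e
        rw [← hfa g hg] at e'
        exact smul_left_cancel g e')⟩) hd'
    exact hx.2 (hu x (hOt x hx.1) hx')
  have : ∀ j ≤ k, MulAction.IsMultiplyPretransitive G α j := by
    intro j
    induction j with
    | zero => intro _; exact MulAction.is_zero_pretransitive'
    | succ j ih =>
      intro hj
      refine Cfsg.Lib.Perm.mt_succ_of_forall (ih (by omega)) fun s hs a ha b hb => ?_
      obtain ⟨t, ht, ht', htc⟩ := Finset.exists_subsuperset_card_eq (s := s)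
        (t := Finset.univ \ {a, b}) (n := k - 1) (by
          intro x hx
          simp only [Finset.mem_sdiff, Finset.mem_univ, Finset.mem_insert, Finset.mem_singleton, true_and, not_or]
          exact ⟨fun e => ha (e ▸ hx), fun e => hb (e ▸ hx)⟩) (by omega) (by
          rw [Finset.card_univ_sdiff]
          have : ({a, b} : Finset α).card ≤ 2 := Finset.card_le_two
          omega)
      obtain ⟨g, hg, e⟩ := h1 t htc a (fun h => by simpa using ht' h) b (fun h => by simpa using ht' h)
      exact ⟨g, fun x hx => hg x (ht hx), e⟩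
  exact this k le_rfl

end Cfsg.Agent.S0743
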