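import Cfsg.Statements.S0744
import Cfsg.Agent.S0743
import Cfsg.Agent.Lib.Amalg.Syl

set_option autoImplicit false
open Cfsg

namespace Cfsg.Agent.S0744

/-- If for some `k > 1` the pointwise stabilisers of all `(k-1)`-subsets have the same order `> 1` and those of all `k`-subsets have the same order, then the group is `(k-1)`-transitive. -/
theorem result {α : Type*} [Fintype α] [DecidableEq α] (G : Subgroup (Equiv.Perm α)) {k : ℕ} (hk : 1 < k) (hkn : k ≤ Fintype.card α) (l m : ℕ) (hl : 1 < l) (hkm1 : ∀ s : Finset α, s.card = k - 1 → Nat.card (fixingSubgroup G (s : Set α)) = l) (hkm : ∀ s : Finset α, s.card = k → Nat.card (fixingSubgroup G (s : Set α)) = m) : MulAction.IsMultiplyPretransitive G α (k - 1) := by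
  have hle : ∀ (s : Finset α) (x : α), fixingSubgroup G ((insert x s : Finset α) : Set α) ≤
      fixingSubgroup G (s : Set α) := fun s x =>
    fixingSubgroup_antitone _ _ (by simp)
  have hidx : ∀ s : Finset α, s.card = k - 1 → ∀ x ∉ s,
      m * (fixingSubgroup G ((insert x s : Finset α) : Set α)).relIndex
        (fixingSubgroup G (s : Set α)) = l := by
    intro s hs x hx
    rw [← hkm1 s hs, ← hkm (insert x s) (by rw [Finset.card_insert_of_notMem hx]; omega),
      ← Nat.card_congr (Subgroup.subgroupOfEquivOfLe (hle s x)).toEquiv]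
    exact Subgroup.card_mul_index _
  have hm0 : 0 < m := by
    obtain ⟨s, -, hs⟩ := Finset.exists_subset_card_eq (s := (Finset.univ : Finset α)) (n := k)
      (by simpa using hkn)
    rw [← hkm s hs]; exact Nat.card_pos
  have hlm : l / m ≠ 1 := by
    intro h1
    obtain ⟨s, -, hs⟩ := Finset.exists_subset_card_eq (s := (Finset.univ : Finset α)) (n := k - 1)
      (by simp; omega)
    have : fixingSubgroup G (s : Set α) = ⊥ := by
      rw [eq_bot_iff]
      intro g hg
      rw [Subgroup.mem_bot]
      ext x
      by_cases hx : x ∈ s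
      · exact (mem_fixingSubgroup_iff G).mp hg x hx
      · have h2 := hidx s hs x hx
        rw [← h2, Nat.mul_div_cancel_left _ hm0, Subgroup.relIndex_eq_one] at h1
        exact (mem_fixingSubgroup_iff G).mp (h1 hg) x (by simp)
    have h3 := hkm1 s hs
    rw [this, Subgroup.card_bot] at h3
    omega
  obtain ⟨p, hp, hpd⟩ := Nat.exists_prime_and_dvd hlm
  have := Fact.mk hp
  refine Cfsg.Agent.S0743.result G hp (by omega) (by omega) fun s hs => ?_
  obtain ⟨T, hT⟩ := Cfsg.Lib.Amalg.exists_syl p (fixingSubgroup G (s : Set α))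
  refine ⟨T, hT.isPGroup, ?_⟩
  ext x
  constructor
  · intro hx
    by_contra hxs
    have hxs : x ∉ s := hxs
    have hTle : T ≤ fixingSubgroup G ((insert x s : Finset α) : Set α) := by
      intro g hg
      rw [mem_fixingSubgroup_iff]
      intro y hy
      rcases Finset.mem_insert.mp hy with rfl | hy
      · exact hx ⟨g, hg⟩
      · exact (mem_fixingSubgroup_iff G).mp (hT.le hg) y hy
    apply hT.not_dvd_relIndex
    rw [← Subgroup.relIndex_mul_relIndex _ _ _ hTle (hle s x)]
    rw [← hidx s hs x hxs, Nat.mul_div_cancel_left _ hm0] at hpd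
    exact Dvd.dvd.mul_left hpd _
  · intro hx g
    exact (mem_fixingSubgroup_iff G).mp (hT.le g.2) x hx

end Cfsg.Agent.S0744
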