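import Cfsg.Statements.S0695
import Cfsg.Agent.Lib.Perm.Regular

set_option autoImplicit false
open Cfsg

namespace Cfsg.Agent.S0695

/-- A regular normal subgroup of a doubly primitive group of finite degree at least 2 is an elementary abelian 2-group (and the degree is a power of 2), unless the degree is 3. -/
theorem result {G : Type*} [Group G] {X : Type*} [Fintype X] [MulAction G X] (hX : 2 ≤ Fintype.card X) (h2 : MulAction.IsMultiplyPreprimitive G X 2) (N : Subgroup G) [N.Normal] (htrans : MulAction.IsPretransitive N X) (hreg : ∀ x : X, MulAction.stabilizer N x = ⊥) : Fintype.card X = 3 ∨ (IsMulCommutative N ∧ (∀ n ∈ N, n ^ 2 = 1) ∧ ∃ m : ℕ, Fintype.card X = 2 ^ m) := by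
  classical
  obtain ⟨x⟩ : Nonempty X := Fintype.card_pos_iff.mp (by omega)
  have hcard := Cfsg.Lib.Perm.card_eq_of_regular (G := N) x (hreg x)
  have hfin : Finite N := Nat.finite_of_card_ne_zero (by rw [hcard, Nat.card_eq_fintype_card]; omega)
  by_cases hsq : ∀ n ∈ N, n ^ 2 = 1
  · right
    have hne : N ≠ ⊥ := by
      rintro rfl
      rw [Subgroup.card_bot, Nat.card_eq_fintype_card] at hcard
      omega
    obtain ⟨p, hp, h1, h3, j, hj, hc⟩ := Cfsg.Lib.Perm.elementary_of_regular_normal
      h2.isMultiplyPretransitive N hne x (hreg x)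
    have hP : IsPGroup 2 N := fun a => ⟨1, Subtype.ext (by simpa using hsq a a.2)⟩
    obtain ⟨m, hm⟩ := hP.exists_card_eq
    exact ⟨h1, hsq, m, by rw [← Nat.card_eq_fintype_card, ← hcard, hm]⟩
  · left
    push Not at hsq
    obtain ⟨n, hn, hn2⟩ := hsq
    have hne : ∀ c ∈ N, c ≠ 1 → c • x ≠ x := fun c hc hc1 e =>
      hc1 (Cfsg.Lib.Perm.stabilizer_subgroup_eq_bot_iff.mp (hreg x) c hc e)
    have hn1 : n ≠ 1 := by rintro rfl; simp at hn2
    have hnn : n • x ≠ n⁻¹ • x := fun e => hn2 (by
      have := Cfsg.Lib.Perm.eq_of_smul_eq_of_semiregular (hreg x) hn (N.inv_mem hn) e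
      rw [sq]; nth_rewrite 1 [this]; simp)
    have hconj : ∀ g : G, g • x = x → ∀ m : G, g • m • x = (g * m * g⁻¹) • x := fun g hg m => by
      rw [mul_smul, mul_smul, inv_smul_eq_iff.mpr hg.symm]
    rcases Cfsg.Lib.Perm.block_of_fixing_primitive (h2.isPreprimitive_ofFixingSubgroup
      (s := {x}) (by simp; rfl)) {n • x, n⁻¹ • x} (by
        rintro b (rfl | rfl)
        · exact hne n hn hn1
        · exact hne _ (N.inv_mem hn) (by simpa using hn1)) (by
        intro g hg b hb hgb c hc
        have hg := hg x rfl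
        have hN : ∀ m ∈ N, g * m * g⁻¹ ∈ N := fun m hm => Subgroup.Normal.conj_mem inferInstance m hm g
        have key : g * n * g⁻¹ = n ∨ g * n * g⁻¹ = n⁻¹ := by
          rcases hb with rfl | rfl <;> rw [hconj g hg] at hgb <;> rcases hgb with e | e
          · exact Or.inl (Cfsg.Lib.Perm.eq_of_smul_eq_of_semiregular (hreg x) (hN n hn) hn e)
          · exact Or.inr (Cfsg.Lib.Perm.eq_of_smul_eq_of_semiregular (hreg x) (hN n hn) (N.inv_mem hn) e)
          · have := Cfsg.Lib.Perm.eq_of_smul_eq_of_semiregular (hreg x) (hN _ (N.inv_mem hn)) hn e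
            right; rw [← inv_inj, inv_inv]; nth_rewrite 2 [← this]; group
          · have := Cfsg.Lib.Perm.eq_of_smul_eq_of_semiregular (hreg x) (hN _ (N.inv_mem hn)) (N.inv_mem hn) e
            left; rw [← inv_inj, ← this]; group
        have key2 : g * n⁻¹ * g⁻¹ = (g * n * g⁻¹)⁻¹ := by group
        rcases hc with rfl | rfl <;> rw [hconj g hg] <;> rcases key with e | e
        · simp [e]
        · simp [e]
        · rw [key2, e]; simp
        · rw [key2, e]; simp) with h | h
    · exact absurd (h (by simp) (by simp)) hnn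
    · have : (Finset.univ : Finset X) = {x, n • x, n⁻¹ • x} := by
        ext y
        simp only [Finset.mem_univ, Finset.mem_insert, Finset.mem_singleton, true_iff]
        by_cases hy : y = x
        · exact Or.inl hy
        · exact Or.inr (h y hy)
      rw [← Finset.card_univ, this, Finset.card_eq_three]
      exact ⟨_, _, _, (hne n hn hn1).symm, (hne _ (N.inv_mem hn) (by simpa using hn1)).symm, hnn, rfl⟩

end Cfsg.Agent.S0695
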