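import Cfsg.Statements.S0696
import Cfsg.Agent.S0695

set_option autoImplicit false
open Cfsg

namespace Cfsg.Agent.S0696

/-- A triply primitive group of degree at least 3 having a regular normal subgroup has degree 3 or 4. -/
theorem result {G : Type*} [Group G] {X : Type*} [Fintype X] [MulAction G X] (hX : 3 ≤ Fintype.card X) (h3 : MulAction.IsMultiplyPreprimitive G X 3) (N : Subgroup G) [N.Normal] (htrans : MulAction.IsPretransitive N X) (hreg : ∀ x : X, MulAction.stabilizer N x = ⊥) : Fintype.card X = 3 ∨ Fintype.card X = 4 := by
  classical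
  have hc : Nat.card X = Fintype.card X := Nat.card_eq_fintype_card
  have h2 : MulAction.IsMultiplyPreprimitive G X 2 :=
    MulAction.isMultiplyPreprimitive_of_le G X h3 (by norm_num) (by
      rw [ENat.card_eq_coe_fintype_card]; exact_mod_cast hX)
  rcases Cfsg.Agent.S0695.result (by omega) h2 N htrans hreg with h | ⟨hcomm, hsq, k, hk⟩
  · exact Or.inl h
  by_cases hn3 : Fintype.card X = 3
  · exact Or.inl hn3
  right
  obtain ⟨x, y, z, hxy, hxz, hyz⟩ := Fintype.two_lt_card_iff.mp (show 2 < Fintype.card X by omega)
  obtain ⟨m, hm, rfl⟩ := Cfsg.Lib.Perm.isPretransitive_subgroup_iff.mp htrans x y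
  have hmm : ∀ w : X, m • m • w = w := fun w => by rw [← mul_smul, ← sq, hsq m hm, one_smul]
  have hm1 : m ≠ 1 := by rintro rfl; simp at hxy
  have hmz : m • z ≠ z := fun e =>
    hm1 (Cfsg.Lib.Perm.stabilizer_subgroup_eq_bot_iff.mp (hreg z) m hm e)
  rcases Cfsg.Lib.Perm.block_of_fixing_primitive (h3.isPreprimitive_ofFixingSubgroup
    (s := {x, m • x}) (by rw [Set.encard_pair hxy]; rfl)) {z, m • z} (by
      rintro b (rfl | rfl) (e | e)
      · exact hxz e.symm
      · exact hyz e.symm
      · exact hyz (by rw [← e, hmm])
      · exact hxz (smul_left_cancel m e).symm) (by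
      intro g hg b hb hgb c hc
      have h1 : g * m * g⁻¹ = m := Cfsg.Lib.Perm.eq_of_smul_eq_of_semiregular (hreg x)
        (Subgroup.Normal.conj_mem inferInstance m hm g) hm (by
          rw [mul_smul, mul_smul, inv_smul_eq_iff.mpr (hg x (by simp)).symm, hg _ (by simp)])
      have h2 : ∀ w : X, g • m • w = m • g • w := fun w => by
        rw [← mul_smul, ← mul_smul]; nth_rewrite 2 [← h1]; simp
      have h3 : g • z = z ∨ g • z = m • z := by
        rcases hb with rfl | rfl
        · exact hgb
        · rw [h2] at hgb
          rcases hgb with e | e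
          · right; rw [← hmm (g • z), e]
          · left; exact smul_left_cancel m e
      rcases hc with rfl | rfl
      · exact h3
      · rw [h2]
        rcases h3 with e | e <;> rw [e]
        · simp
        · simp [hmm]) with h | h
  · exact absurd (h (by simp) (by simp)) hmz
  · have : (Finset.univ : Finset X) ⊆ {x, m • x, z, m • z} := by
      intro y _
      simp only [Finset.mem_insert, Finset.mem_singleton]
      by_cases hy : y ∈ ({x, m • x} : Set X)
      · rcases hy with h | h
        · exact Or.inl h
        · exact Or.inr (Or.inl h)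
      · exact Or.inr (Or.inr (h y hy))
    have h4 := (Finset.card_le_card this).trans Finset.card_le_four
    rw [Finset.card_univ] at h4
    omega

end Cfsg.Agent.S0696
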