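import Cfsg.Statements.S0021
import Cfsg.Agent.Lib.Hall.SolvCrit

set_option autoImplicit false
open Pointwise
open Cfsg

namespace Cfsg.Agent.S0021

open scoped Pointwise
open Cfsg.Lib Cfsg.Lib.Hall

theorem finset_aux {G : Type*} [Group G] [Finite G] {ι : Type*} (S : ι → Subgroup G) {π : Set ℕ}
    (hS : ∀ i j, Perm (S i) (S j)) (s : Finset ι) (h : ∀ i ∈ s, Core.IsPiNumber π (Nat.card (S i))) :
    Core.IsPiNumber π (Nat.card (⨆ i ∈ s, S i : Subgroup G)) := by
  classical
  induction s using Finset.induction_on with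
  | empty => intro r hr hd; simp at hd; exact absurd hd hr.one_lt.ne'
  | insert a s ha ih =>
    rw [Finset.iSup_insert]
    exact Perm.isPi_sup (perm_iSup fun i => perm_iSup fun _ => hS i a).symm
      (h a (Finset.mem_insert_self _ _)) (ih fun i hi => h i (Finset.mem_insert_of_mem hi))

/-- A finite group with a family of pairwise permuting Sylow subgroups, one for each prime, is solvable (this direction rests on Burnside's two-prime Theorem). -/
theorem result {G : Type*} [Group G] [Finite G]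
    (S : (p : Nat.Primes) → Sylow (p : ℕ) G)
    (hS : ∀ p q : Nat.Primes, (S p : Set G) * (S q : Set G) = (S q : Set G) * (S p : Set G)) :
    Group.IsSolvable G := by
  classical
  refine isSolvable_of_forall_isPiHall_compl fun p hp => ?_
  have hfin : {q : Nat.Primes | (q : ℕ) ∣ Nat.card G ∧ (q : ℕ) ≠ p}.Finite := by
    refine Set.Finite.of_finite_image (f := fun q : Nat.Primes => (q : ℕ)) ?_
      (Subtype.val_injective.injOn)
    refine (Set.finite_Iic (Nat.card G)).subset ?_
    rintro _ ⟨q, hq, rfl⟩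
    exact Nat.le_of_dvd Nat.card_pos hq.1
  refine ⟨⨆ q ∈ hfin.toFinset, (S q : Subgroup G), isPiHall_iff.2 ⟨?_, ?_⟩⟩
  · refine finset_aux (fun q => (S q : Subgroup G)) (fun i j => perm_iff.2 (hS i j)) _
      fun q hq r hr hd => ?_
    haveI := Fact.mk q.2
    obtain ⟨k, hk⟩ := IsPGroup.iff_card.1 (S q).isPGroup'
    rw [hk] at hd
    rw [(Nat.prime_dvd_prime_iff_eq hr q.2).1 (hr.dvd_of_dvd_pow hd)]
    exact (hfin.mem_toFinset.1 hq).2
  · intro r hr hd hm
    haveI := Fact.mk hr
    have hle : (S ⟨r, hr⟩ : Subgroup G) ≤ ⨆ q ∈ hfin.toFinset, (S q : Subgroup G) :=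
      le_iSup₂_of_le (f := fun q (_ : q ∈ hfin.toFinset) => (S q : Subgroup G)) ⟨r, hr⟩
        (hfin.mem_toFinset.2 ⟨hd.trans (Subgroup.index_dvd_card _), hm⟩) le_rfl
    exact (S ⟨r, hr⟩).not_dvd_index (hd.trans (Subgroup.index_dvd_of_le hle))

end Cfsg.Agent.S0021
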