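import Cfsg.Statements.S3815
import Cfsg.Agent.Lib.Core.PCore

set_option autoImplicit false
open Cfsg

namespace Cfsg.Agent.S3815

open Subgroup Cfsg.Lib Cfsg.Lib.Core

/-- Let G be a finite group, p a prime and d ∈ G an element of order prime to p. If dg has order prime to p for every element g ∈ G of order prime to p, then d ∈ O_{p'}(G). -/
theorem result {G : Type*} [Group G] [Finite G] {p : ℕ} [Fact p.Prime]
    (d : G) (hd : (orderOf d).Coprime p)
    (h : ∀ g : G, (orderOf g).Coprime p → (orderOf (d * g)).Coprime p) :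
    d ∈ Cfsg.pPrimeCore p G := by
  let M : Submonoid G :=
    { carrier := {d | ∀ g : G, (orderOf g).Coprime p → (orderOf (d * g)).Coprime p}
      one_mem' := fun g hg => by rwa [one_mul]
      mul_mem' := fun {a b} ha hb g hg => by rw [mul_assoc]; exact ha _ (hb g hg) }
  let S : Subgroup G :=
    { M with
      inv_mem' := fun {a} ha => by
        have : a⁻¹ = a ^ (orderOf a - 1) := by
          rw [inv_eq_iff_mul_eq_one, ← pow_succ', Nat.sub_add_cancel (orderOf_pos a),
            pow_orderOf_eq_one]
        exact this ▸ M.pow_mem ha _ }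
  have hc : ∀ k x : G, orderOf (k * x * k⁻¹) = orderOf x := fun k x =>
    (MulAut.conj k).orderOf_eq x
  have : S.Normal := ⟨fun a ha k g hg => by
    have := ha (k⁻¹ * g * k⁻¹⁻¹) (by rwa [hc])
    rw [← hc k] at this
    convert this using 2
    group⟩
  refine le_pPrimeCore (N := S) ?_ h
  rw [Nat.coprime_comm, (Fact.out : p.Prime).coprime_iff_not_dvd]
  intro hp
  obtain ⟨x, hx⟩ := exists_prime_orderOf_dvd_card' p hp
  have := x.2 1 (by simp)
  rw [mul_one, orderOf_coe, hx, Nat.coprime_self] at this
  exact (Fact.out : p.Prime).ne_one this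

end Cfsg.Agent.S3815
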