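import Cfsg.Statements.S3289
import Cfsg.Agent.Lib.ZD.H2

set_option autoImplicit false
open Cfsg

namespace Cfsg.Agent.S3289

open Subgroup Cfsg.Lib.Core Cfsg.Lib.Amalg Cfsg.Lib.BG1 Cfsg.Lib.Invol Cfsg.Lib.SCl Cfsg.Lib.GW

/-- Let T be a Sylow 2-subgroup of a finite group G and S a nontrivial subgroup of T strongly closed in T with respect to G. Suppose a proper subgroup H of G contains the centralizer of every non-identity element of S and the normalizer of the subgroup generated by the involutions of S. Then, writing X for the normal closure of S, the subgroup H ∩ X is strongly embedded in X, and S equals T ∩ X or the subgroup generated by the involutions of T ∩ X; if moreover S has 2-rank 1, then S = T ∩ X. -/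
theorem result {G : Type*} [Group G] [Finite G] (T : Sylow 2 G) (S : Subgroup G) (hS : S ≠ ⊥)
    (hsc : Cfsg.IsStronglyClosed S (T : Subgroup G)) (H : Subgroup G) (hH : H ≠ ⊤)
    (hC : ∀ s ∈ S, s ≠ 1 → Subgroup.centralizer ({s} : Set G) ≤ H)
    (hN : Subgroup.normalizer ((Cfsg.omegaOne 2 S : Subgroup G) : Set G) ≤ H) :
    Cfsg.IsStronglyEmbedded ((H ⊓ Subgroup.normalClosure (S : Set G)).subgroupOf (Subgroup.normalClosure (S : Set G))) ∧
      (S = (T : Subgroup G) ⊓ Subgroup.normalClosure (S : Set G) ∨ S = Cfsg.omegaOne 2 ((T : Subgroup G) ⊓ Subgroup.normalClosure (S : Set G))) ∧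
      (Cfsg.PRankLE 2 1 ↥S → S = (T : Subgroup G) ⊓ Subgroup.normalClosure (S : Set G)) := by
  have hT := syl_top T
  have c := sc_cls hT hsc
  obtain ⟨z, z1, z2, z3⟩ := Lib.ZD.sc_exists hT hsc hS
  have h4 := (Lib.ZD.sc_zc hT hsc hH (((Lib.ZD.sc_norm hsc).trans fun g hg => Lib.BS.mem_normalizer_closure (S := {x : G | x ∈ S ∧ x ^ 2 = 1}) fun x hx =>
    ⟨conj_mem_of_mem_normalizer hg hx.1, by rw [conj_pow, hx.2]; simp⟩).trans hN) (fun t ht h => hC t ht (ne_one_of_two h)) z1 z2 z3).1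
  have h : UF (cls S) H := ⟨c, hH, ⟨z, mem_cls z1, h4.mem, z2⟩, fun x hx x1 x2 g k => by
    obtain ⟨m, hm⟩ := c.two x hx
    obtain ⟨l, hl⟩ := hx
    have key : ∀ b : G, b⁻¹ * (l * x * l⁻¹) * b ∈ H → b ∈ H := fun b hb => by
      simpa using inv_mem (QuotientGroup.eq.1 (h4.eq_of_cent_le (k := m) (by rw [conj_pow, hm]; simp)
        (hC _ hl fun e => x1 (conj_eq_one_iff.1 e)) (Lib.ZD.fix_coset.2 hb)))
    simpa using mul_mem (inv_mem (key (l * g⁻¹) (by simpa [mul_assoc] using k))) (key l (by simpa [mul_assoc] using x2))⟩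
  have hle : S ≤ normalClosure (S : Set G) := fun x hx => subset_normalClosure hx
  have hX := KK_cls S
  have hn : (normalClosure (S : Set G)).Normal := inferInstance
  generalize normalClosure (S : Set G) = X at *
  have h' := h.sub (K := X) (mem_cls z1) h4.mem z2 (hle z1)
  have hg : KK (X.subtype ⁻¹' cls S) ⊤ = ⊤ := map_injective X.subtype_injective (by
    rw [KK_sub, ← MonoidHom.range_eq_map, range_subtype]
    exact le_antisymm (KK_le _ _) (hX.ge.trans (KK_le_iff.2 fun x hx _ => mem_KK hx (hX ▸ mem_KK hx trivial))))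
  obtain ⟨h1, h2⟩ := h'.main hg
  have h3 : (∀ x : X, Two x → x ∈ X.subtype ⁻¹' cls S) → S = (T : Subgroup G) ⊓ X := fun e =>
    le_antisymm (le_inf hsc.1 hle) fun x hx => mem_of_cls' hsc (e ⟨x, hx.2⟩
      (let ⟨k, hk⟩ := Two.of_mem T.isPGroup' hx.1; ⟨k, Subtype.ext hk⟩)) hx.1
  refine ⟨by rw [inf_subgroupOf_right]; exact h'.se h1, h2.symm.imp h3 fun e => le_antisymm (fun x hx => Subgroup.subset_closure (k := {x : G | x ∈ (T : Subgroup G) ⊓ X ∧ x ^ 2 = 1})
    ⟨⟨hsc.1 hx, hle hx⟩, (sq x).trans (congrArg Subtype.val (e ⟨x, hle hx⟩ (mem_cls hx)))⟩) ((closure_le _).2 fun x hx =>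
      mem_of_cls' hsc (h1 ⟨x, hx.1.2⟩ (Subtype.ext ((sq x).symm.trans hx.2))) hx.1.1), fun e => h3 fun x => ?_⟩
  have hR := (hT.inf_normal_top X).subgroupOf_top
  refine h'.sc.rk1 hg hR fun s hs t ht s2 t2 => ?_
  have k : ∀ s ∈ KK (X.subtype ⁻¹' cls S) (((T : Subgroup G) ⊓ X).subgroupOf X), (s : G) ∈ S := fun s hs =>
    mem_of_cls' hsc (h'.sc.mem_of_KK hR.isPGroup hs) (KK_le _ _ hs).1
  exact Subtype.ext (congrArg Subtype.val ((uniqInv_of_rank e).eq_of_mem ((T.isPGroup'.to_le hsc.1).to_subgroup ⊤)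
    (mem_top ⟨s, k s hs⟩) (mem_top ⟨t, k t ht⟩) (by simpa using s2) (by simpa using t2)) :)

end Cfsg.Agent.S3289
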