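import Cfsg.Statements.S3277
import Cfsg.Agent.Lib.Exc.Chz
import Cfsg.Agent.Lib.Clifford.Bound

set_option autoImplicit false
open Cfsg Cfsg.Lib Cfsg.Lib.Core Cfsg.Lib.GW Cfsg.Lib.Invol Cfsg.Lib.Transfer Subgroup

namespace Cfsg.Agent.S3277

/-- Let G be a finite group containing an involution whose centralizer is elementary abelian of order 4. If G has no normal 2-complement and no normal elementary abelian 2-subgroup of order 2 or 4, then G is isomorphic to the alternating group of degree 5 (that is, to PSL(2, 5)). -/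
theorem result {G : Type*} [Group G] [Finite G] (x : G) (hx : orderOf x = 2)
    (hC4 : Nat.card ↥(Subgroup.centralizer ({x} : Set G)) = 4) (hCe : ∀ c ∈ Subgroup.centralizer ({x} : Set G), c ^ 2 = 1)
    (hnc : ¬ Cfsg.HasNormalPComplement 2 G)
    (hne : ∀ E : Subgroup G, E.Normal → Cfsg.IsElementaryAbelian 2 E → Nat.card ↥E ≠ 2 ∧ Nat.card ↥E ≠ 4) :
    Nonempty (G ≃* ↥(alternatingGroup (Fin 5))) := by
  have := Fact.mk Nat.prime_two
  rw [hasNormalPComplement_iff_top] at hnc
  have hO : Odd (Nat.card (pPrimeCore 2 G)) := odd_card_oddCore G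
  have hn : (pPrimeCore 2 G).Normal := inferInstance
  have hP : IsPGroup 2 (centralizer ({x} : Set G)) := IsPGroup.of_card (n := 2) hC4
  have h0 : ∀ u ∈ pPrimeCore 2 G, Commute u x → u = 1 := fun u hu h =>
    (Two.of_mem hP (mem_cent.2 h)).eq_one (hO.of_dvd_nat (orderOf_dvd_natCard _ hu))
  have h1 : ∀ y, IsConj x y → ∀ u ∈ pPrimeCore 2 G, y * u * y⁻¹ = u⁻¹ := fun y hy u hu => by
    obtain ⟨g, rfl⟩ := isConj_iff.1 hy
    have := inverts_of_fpf (mul_self_of_two hx) (le_normalizer_of_normal (mem_top x)) h0 _ (hn.conj_mem _ hu g⁻¹)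
    calc _ = g * (x * (g⁻¹ * u * g⁻¹⁻¹) * x⁻¹) * g⁻¹ := by group
      _ = _ := by rw [this]; group
  have h2 : ∀ y z, IsConj x y → IsConj x z → y * z ∈ centralizer (pPrimeCore 2 G : Set G) := fun y z hy hz u hu =>
    calc u * (y * z) = (y * (z * u * z⁻¹) * y⁻¹) * (y * z) := by rw [h1 z hz u hu, h1 y hy _ (inv_mem hu), inv_inv]
      _ = _ := by group
  have : Nontrivial (centralizer ({x} : Set G)) := Finite.one_lt_card_iff_nontrivial.1 (by omega)
  have hK : IsKleinFour (centralizer ({x} : Set G)) :=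
    ⟨hC4, (Monoid.exponent_eq_prime_iff Nat.prime_two).2 fun c hc => by
      rw [← orderOf_coe]; exact two_of_sq (hCe c c.2) fun e => hc (Subtype.ext e)⟩
  obtain ⟨S, hS⟩ := hP.exists_le_sylow
  have hxS := hS (mem_cent.2 (Commute.refl x))
  have h3 : Nat.card (centralizer ({⟨x, hxS⟩} : Set S)) = 4 := by
    rw [← hC4, ← card_map_of_injective (S : Subgroup G).subtype_injective]
    refine congrArg (fun H : Subgroup G => Nat.card H) (le_antisymm ?_ fun y hy => ⟨⟨y, hS hy⟩, ?_, rfl⟩)
    · rintro _ ⟨y, hy, rfl⟩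
      exact Invol.mem_cent.2 (congrArg Subtype.val (Invol.mem_cent.1 hy))
    · exact Invol.mem_cent.2 (Subtype.ext (Invol.mem_cent.1 hy))
  have h4 : DC2 G ∨ IsQuasiDihedral S := by
    obtain ⟨n, hn⟩ := IsPGroup.iff_card.1 S.2
    have h1 : 2 ≤ n := (Nat.pow_dvd_pow_iff_le_right one_lt_two).1 (hn ▸ ((dvd_of_eq h3.symm).trans (card_subgroup_dvd_card _)))
    obtain ⟨_ | m, rfl⟩ := Nat.exists_eq_add_of_le' h1
    · exact Or.inl (Exc.dc2_of_card_four (sylowIn_top S) hn)
    obtain ⟨a, b, h⟩ := PGrp.exists_max2_of_maxClass (by omega) hn (PGrp.maxClass_of_centralizer hn h3)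
    rcases h.cases with ⟨⟨e⟩⟩ | ⟨⟨e⟩⟩ | e
    · exact Or.inl (GW.dc2_of_dihedral S e)
    · obtain ⟨s, hs, s1, s2⟩ := klein_exists_ne hK x
      exact absurd ⟨x, trivial, s, trivial, hx, klein_two hK hs s1, s2, mem_cent.1 hs⟩
        (uniqInv_iff.1 (uniqInv_of_quat (sylowIn_top S) e))
    · exact Or.inr e
  rcases h4 with hD | hQ
  · let f := QuotientGroup.mk' (pPrimeCore 2 G)
    have hf := QuotientGroup.mk'_surjective (pPrimeCore 2 G)
    have h5 : Nat.card (centralizer ({f x} : Set (G ⧸ pPrimeCore 2 G))) ≤ 4 :=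
      hC4 ▸ Clifford.card_centralizer_quotient_le _ x
    have hx' : orderOf (f x) = 2 := two_of_mul_self (by rw [← map_mul, mul_self_of_two hx, map_one]) fun e =>
      ne_one_of_two hx (h0 x ((QuotientGroup.eq_one_iff x).1 e) (Commute.refl x))
    have h6 : ¬ centralizer (pPrimeCore 2 G : Set G) ≤ pPrimeCore 2 G := fun h => hnc (PNil.of_map f (by
      have a : centralizer {f x} = ⊤ := eq_top_iff.2 fun y _ => by
        obtain ⟨g, rfl⟩ := hf y
        have := (QuotientGroup.eq_one_iff _).2 (h (h2 _ x (isConj_conj g x) (IsConj.refl x)))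
        rw [mem_cent, commute_iff_eq, ← mul_inv_eq_iff_eq_mul, ← inv_of_two hx', ← mul_eq_one_iff_eq_inv, inv_of_two hx']
        exact this
      rw [a, card_top] at h5
      have b := hx' ▸ orderOf_dvd_natCard (f x)
      have c : 0 < Nat.card (G ⧸ pPrimeCore 2 G) := Nat.card_pos
      refine pnil_of_isPGroup (IsPGroup.to_subgroup ?_ _)
      rcases (show Nat.card (G ⧸ pPrimeCore 2 G) = 2 ^ 1 ∨ Nat.card (G ⧸ pPrimeCore 2 G) = 2 ^ 2 by omega) with e | e <;>
        exact IsPGroup.of_card e) (by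
      rw [inf_top_eq, QuotientGroup.ker_mk']; exact hO.not_two_dvd_nat))
    have h7 : pCore 2 G = ⊥ := by_contra fun h => by
      obtain ⟨M, hM, h1, h2, h3⟩ := exists_minimal_normal_le _ h
      have h4 := (isPGroup_pCore 2 G).to_le h2
      obtain ⟨q, hq, h5⟩ := BG1.elementary_of_min (A := ⊤) (by have := h4.isNilpotent; infer_instance) h1
        le_normalizer_of_normal fun W hW hn => h3 W (normalizer_eq_top_iff.1 (top_le_iff.1 hn)) hW
      obtain ⟨u, hu, u1⟩ := (bot_or_exists_ne_one M).resolve_left h1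
      obtain rfl : q = 2 := by_contra fun e => u1 ((Two.of_mem h4 hu).eq_one
        ((hq.odd_of_ne_two e).of_dvd_nat (orderOf_dvd_of_pow_eq_one (h5.2 u hu))))
      have h6 := hne M hM h5
      have h7 : ∀ r ∈ M, orderOf r = 1 ∨ orderOf r = 2 := fun r hr =>
        (Nat.dvd_prime hq).1 (orderOf_dvd_of_pow_eq_one (h5.2 r hr))
      rcases hD M h4 with h | ⟨r, s, h⟩
      · obtain ⟨r, hr⟩ := (Subgroup.isCyclic_iff_exists_zpowers_eq_top M).1 h
        have := h7 r (hr ▸ mem_zpowers r)
        rw [← Nat.card_zpowers, hr] at this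
        exact this.elim (fun e => h1 (card_eq_one.1 e)) h6.1
      · have := h7 r (h.le (mem_zpowers r))
        have := h.card
        omega
    have hO' := pPrimeCore_quotient_pPrimeCore (p := 2) (G := G)
    have hD' := hD.quotient (pPrimeCore 2 G)
    by_cases hE : layer (G ⧸ pPrimeCore 2 G) = ⊥
    · have := (hD'.core_free_solv hO' hE).1
      have := solvable_of_odd hO
      have : Group.IsSolvable G := Group.isSolvable_of_ker_le_range (pPrimeCore 2 G).subtype f (by simp [f])
      have a := fitting_le_pPrimeCore_of_pCore_eq_bot Nat.prime_two h7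
      exact absurd (((centralizer_anti a).trans centralizer_fitting_le).trans a) h6
    obtain ⟨a1, a2, a3⟩ := hD'.core_free_ns hO' hE
    rcases (hD'.known_layer hO' hE).2.1.type with ⟨a, b, h⟩ | h
    · obtain ⟨c, b1, b2, b3⟩ := h.tor _ hx'
      have b4 := b1.card ▸ (card_le_of_le inf_le_right).trans h5
      have := h.three_le
      have := h.two_le
      have b5 : f x ∈ layer _ := by_contra fun e => by have := b3 e; omega
      have b6 := b2 b5
      obtain rfl : a = 2 := by omega
      obtain rfl : b = 3 := by have := h.ab; omega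
      have b7 : centralizer {f x} ≤ layer _ := inf_eq_right.1 (eq_of_le_of_card_ge inf_le_right (by rw [b1.card]; omega))
      have b8 : layer (G ⧸ pPrimeCore 2 G) = ⊤ := eq_top_iff.2 fun g _ => by
        obtain ⟨e, he, h⟩ := hD'.oneClass_of_perfect Layer.layer_commutator_self _ b5 _
          (Layer.layer_normal.conj_mem _ b5 g) hx' (by rw [orderOf_conj, hx'])
        refine (Subgroup.mul_mem_cancel_left _ (inv_mem he)).1 (b7 (mem_cent.2 ?_))
        rw [commute_iff_eq, ← mul_inv_eq_iff_eq_mul]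
        calc _ = e⁻¹ * (g * f x * g⁻¹) * e := by group
          _ = _ := by rw [← h]; group
      have b9 := h.card
      rw [b8] at a1
      rw [b8, card_top] at b9
      have := topEquiv.symm.isSimpleGroup (G := G ⧸ pPrimeCore 2 G)
      obtain ⟨e⟩ := Linear.nonempty_equiv_A5_of_simple b9
      have c1 := (IsSimpleGroup.eq_bot_or_eq_top_of_normal _ (normal_map_mk' (pPrimeCore 2 G) (centralizer (pPrimeCore 2 G : Set G)))).resolve_left
        fun e => h6 ((map_mk'_eq_bot_iff _ _).1 e)
      have c2 : x ∈ centralizer (pPrimeCore 2 G : Set G) := by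
        have := comap_map_mk' (pPrimeCore 2 G) (centralizer (pPrimeCore 2 G : Set G))
        rw [c1, comap_top, sup_eq_right.2 fun u hu v hv => commute_of_inverted (h1 x (IsConj.refl x)) hv hu] at this
        exact this ▸ mem_top x
      exact ⟨(MulEquiv.ofBijective f ⟨(injective_iff_map_eq_one f).2 fun u hu =>
        h0 u ((QuotientGroup.eq_one_iff u).1 hu) (c2 u ((QuotientGroup.eq_one_iff u).1 hu)), hf⟩).trans e⟩
    · obtain ⟨k, -, -, hk, b, -⟩ := h.data _ hx'
      have c1 := orderOf_dvd_natCard _ (mem_cent.2 b)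
      have c2 := orderOf_dvd_natCard _ (mem_cent.2 (Commute.refl (f x)))
      have c3 : 0 < Nat.card (centralizer ({f x} : Set (G ⧸ pPrimeCore 2 G))) := Nat.card_pos
      rw [hk] at c1; rw [hx'] at c2
      omega
  · obtain ⟨n, hn, hc, E, hE⟩ := ABG.exists_mc_qd hQ
    have h5 : ¬ IsConj E.c x := fun h => by
      have := card_le_of_le (show (S : Subgroup G) ≤ centralizer {E.c} from fun g hg => mem_cent.2 (E.commute_c hg))
      rw [card_centralizer_of_isConj h, hC4, hc] at this
      have := Nat.pow_le_pow_right two_pos (show 3 ≤ n + 3 by omega)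
      omega
    have h6 := (E.two_cases' hE (sylowIn_top S) hx).resolve_left h5
    have h7 := Block.inZStar_iff.1 (Block.z_star_elt (k := 1) (by simpa [sq] using E.c_mul_c)
      (Block.isIsolated_of_sylow S (E.r_mem _) fun g hg =>
        E.conj_c_eq hE (sylowIn_top S) (fun h => h5 (h.isConj.trans h6)) hg))
    have h8 := h2 _ _ (h6.symm.trans (E.isConj_s 0 E.w)) h6.symm
    rw [E.ss, E.hδ, map_zero, zero_add, add_zero, add_zero] at h8
    have h9 : E.c ∈ center G := mem_center_iff.2 fun g => by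
      have a : (E.c)⁻¹ * (g * E.c * g⁻¹) ∈ pPrimeCore 2 G := QuotientGroup.eq.1 (by
        simp [mem_center_iff.1 h7 g])
      have b : Commute _ E.c := h8 _ a
      have c := Two.eq_one (x := E.c⁻¹ * (g * E.c * g⁻¹)) ⟨1, by
        have := ((b.symm.mul_pow 2).symm.trans (by rw [mul_inv_cancel_left, conj_pow, sq_of_two E.two_c]))
        rwa [sq_of_two E.two_c, one_mul, mul_one, mul_inv_cancel] at this⟩ (hO.of_dvd_nat (orderOf_dvd_natCard _ a))
      rw [inv_mul_eq_one, eq_mul_inv_iff_mul_eq] at c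
      exact c.symm
    exact absurd (by rw [Nat.card_zpowers, E.two_c]) (hne _ (normal_zpowers h9) ⟨inferInstance, fun a ha => by
      rcases E.mem_zpowers_c.1 ha with rfl | rfl
      exacts [one_pow 2, sq_of_two E.two_c]⟩).1

end Cfsg.Agent.S3277
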