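import Cfsg.Statements.S0481
import Cfsg.Agent.Lib.Known2.LE

set_option autoImplicit false
open Cfsg

namespace Cfsg.Agent.S0481
open Cfsg.Lib.Known2 Cfsg.Lib.Amalg Cfsg.Lib.Core Subgroup

/-- Large extraspecial subgroups: let z be an involution of a finite group G whose centraliser C contains a normal 2-subgroup Q with centre of order 2 and all squares central, such that every element of G centralising Q lies in Q. Then C contains a Sylow 2-subgroup of G, and any involution of G whose centraliser contains a Sylow 2-subgroup of G is conjugate to z. -/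
theorem result {G : Type*} [Group G] [Finite G] (z : G) (hz : orderOf z = 2) (Q : Subgroup G) (hQC : Q ≤ Subgroup.centralizer ({z} : Set G)) (hQn : ∀ g ∈ Subgroup.centralizer ({z} : Set G), ∀ q ∈ Q, g * q * g⁻¹ ∈ Q) (hQ2 : IsPGroup 2 Q) (hZ : Nat.card (Subgroup.center Q) = 2) (hsq : ∀ x : Q, x ^ 2 ∈ Subgroup.center Q) (hlarge : Subgroup.centralizer (Q : Set G) ≤ Q) : (∃ P : Sylow 2 G, (P : Subgroup G) ≤ Subgroup.centralizer ({z} : Set G)) ∧ ∀ u : G, orderOf u = 2 → (∃ P : Sylow 2 G, (P : Subgroup G) ≤ Subgroup.centralizer ({u} : Set G)) → IsConj z u := by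
  have : Fact (Nat.Prime 2) := ⟨Nat.prime_two⟩
  have hzc : z ∈ 𝐂 Q := mem_centralizer_comm.2 fun x hx => mem_cent_single.1 (hQC hx)
  have key : ∀ t, t ∈ 𝐂 Q → t ≠ 1 → t = z := by
    intro t ht h1
    obtain ⟨w, hw1, hw2, hw⟩ := exists_invol_of_card_two (Z := (center Q).map Q.subtype)
      (by rw [card_map_subtype, hZ])
    have hm : ∀ s, s ∈ 𝐂 Q → s = 1 ∨ s = w := by
      intro s hs
      rw [← mem_zpowers_invol hw2, ← hw, map_subtype_center]
      exact ⟨hlarge hs, hs⟩
    rw [(hm t ht).resolve_left h1, (hm z hzc).resolve_left (ne_one_of_orderOf_two hz)]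
  obtain ⟨T, hT, hQT⟩ := exists_syl_ge hQ2 (le_top (a := Q))
  have hTC : T ≤ centralizer {z} := by
    have hne := inf_center_ne_bot hT.isPGroup le_rfl le_normalizer
      (fun e => ne_one_of_orderOf_two hz (mem_bot.1 (e ▸ hQT (hlarge hzc))))
    obtain ⟨⟨t, ht1, ht2⟩, ht⟩ := ne_bot_iff_exists_ne_one.1 hne
    have e := key t (mem_centralizer_comm.2 fun x hx => mem_centralizer_comm.1 ht2 x (hQT hx))
      (fun e => ht (Subtype.ext e))
    intro x hx
    rw [mem_cent_single, ← e]
    exact mem_centralizer_comm.1 ht2 x hx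
  refine ⟨⟨hT.toSylowTop, hTC⟩, ?_⟩
  rintro u hu ⟨P, hP⟩
  obtain ⟨g, -, hg⟩ := (syl_top P).exists_conj hT
  have : g * u * g⁻¹ = z := by
    apply key
    · refine mem_centralizer_comm.2 fun x hx => ?_
      have := hQT hx
      rw [← hg] at this
      obtain ⟨y, hy, rfl⟩ := mem_cj'.1 this
      rw [conj_mul, conj_mul, mem_cent_single.1 (hP hy)]
    · simpa using ne_one_of_orderOf_two hu
  exact (isConj_iff.2 ⟨g, this⟩).symm

end Cfsg.Agent.S0481
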