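import Cfsg.Statements.S1623
import Cfsg.Agent.Lib.J2.Cent
-- import your own Cfsg.Agent.* helpers here

set_option autoImplicit false
open Quaternion
open Cfsg

namespace Cfsg.Agent.S1623

open Cfsg.Lib.J2 Cfsg.Lib.Golay Cfsg.Lib.Known2 Subgroup

/-- A reflection centraliser in the Hall–Janko group is an extension of an extraspecial group of order 32 by the alternating group of degree 5. -/
theorem result (f : Equiv.Perm ↥Cfsg.Spor.icoLeech) (hf : Cfsg.Spor.IsIcoReflection f) (hfm : f ∈ Cfsg.Spor.twoJ2) : ∃ (Q : Subgroup ↥(Subgroup.centralizer {(QuotientGroup.mk ⟨f, hfm⟩ : Cfsg.Spor.J2)})) (_ : Q.Normal), Nat.card Q = 32 ∧ Cfsg.IsExtraspecial 2 Q ∧ Nonempty (↥(Subgroup.centralizer {(QuotientGroup.mk ⟨f, hfm⟩ : Cfsg.Spor.J2)}) ⧸ Q ≃* alternatingGroup (Fin 5)) := by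
  obtain ⟨g, hg⟩ := refl_conj_δ hf hfm
  obtain ⟨e⟩ := cent_equiv hg
  obtain ⟨φ, h1, h2⟩ := hom_Cz
  obtain ⟨N, hN, a, b, c⟩ := exists_normal_of_hom e φ h1
  have k : N.map (Cz.subtype.comp e.toMonoidHom) = pc.gen qs := by
    rw [← h2, ← map_map]; congr 1; ext x; obtain ⟨x, rfl⟩ := e.surjective x
    exact (mem_map_iff_mem e.injective).trans (b x)
  have : Finite (centralizer {(QuotientGroup.mk ⟨f, hfm⟩ : Spor.J2)}) := Finite.of_equiv _ e.symm.toEquiv
  obtain ⟨z, -, hz⟩ := es_of_map (Cz.subtype.comp e.toMonoidHom) (Cz.subtype_injective.comp e.injective)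
    (k ▸ es_Q.2)
  exact ⟨N, hN, by rw [a, ← card_subtype, h2, es_Q.1], hz.isExtraspecial, c⟩

end Cfsg.Agent.S1623
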