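import Cfsg.Statements.S0204
import Cfsg.Agent.Lib.Block.ZStar
import Cfsg.Agent.Lib.FT.Cor

set_option autoImplicit false
open Cfsg

namespace Cfsg.Agent.S0204

open Cfsg.Lib.Block Cfsg.Lib.Char Cfsg.Lib.Amalg
set_option linter.style.haveILetI false

/-- A non-cyclic finite simple group contains a subgroup which is a Klein four-group; this combines the Odd Order Theorem, Burnside's transfer argument for cyclic Sylow 2-subgroups and the Brauer–Suzuki Theorem. -/
theorem result {G : Type*} [Group G] [Finite G] [IsSimpleGroup G] (hG : ¬ IsCyclic G) : ∃ E : Subgroup G, IsKleinFour E := by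
  by_contra! h
  have hna : ¬ ∀ a b : G, a * b = b * a := fun hc => hG (by
    letI : CommGroup G := { (inferInstance : Group G) with mul_comm := hc }
    infer_instance)
  have hev := Cfsg.Lib.FT.even_card_of_simple G hna
  obtain ⟨z, hz⟩ := exists_prime_orderOf_dvd_card' 2 hev.two_dvd
  have hc := mem_center_of_commutator_mem_oddCore (fun N hN hodd => hN.eq_bot_or_eq_top.resolve_right (by
    rintro rfl
    exact Nat.not_even_iff_odd.2 hodd (by simpa using hev))) ((uniqInv_of_no_klein h).commutator_mem_oddCore hz)
  rcases (inferInstance : (Subgroup.center G).Normal).eq_bot_or_eq_top with e | e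
  · rw [e, Subgroup.mem_bot] at hc
    simp [hc] at hz
  · exact hna fun a b => Subgroup.mem_center_iff.1 (e.ge (Subgroup.mem_top b)) a

end Cfsg.Agent.S0204
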