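import Cfsg.Statements.S2603
import Cfsg.Agent.Lib.CAut.OutG

set_option autoImplicit false
open Cfsg

namespace Cfsg.Agent.S2603

open Cfsg.Lib.CAut Cfsg.Lib.Forms Cfsg.Lib.Forms.Form Module


/-- Structure of the outer automorphism group of PSU_n(q), n ≥ 3, (n, q) ≠ (3, 2), q = p^f, realised over the field with q² elements: it has a normal cyclic subgroup of order gcd(n, q + 1) (diagonal automorphisms) with cyclic quotient of order 2f (generated by the Frobenius field automorphism of the field with q² elements, whose f-th power is the graph automorphism). -/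
theorem result {K : Type*} [Field K] [Fintype K] {p f q n : ℕ} [Fact p.Prime] (hf : 1 ≤ f) (hq : q = p ^ f) (hK : Fintype.card K = q ^ 2) (hn : 3 ≤ n) (h32 : ¬ (n = 3 ∧ q = 2)) : ∃ φ : Cfsg.Out (Cfsg.PSU n K q) →* Multiplicative (ZMod (2 * f)), Function.Surjective φ ∧ IsCyclic φ.ker ∧ Nat.card φ.ker = Nat.gcd n (q + 1) := by
  obtain ⟨σ, h⟩ := isConj_of_card hK
  have hS := stdSU h hn h32
  have hs := suAct_surjective h hn h32
  have H := isOut_gout (jSU h hn) hS hs
  obtain ⟨φ, hφ⟩ := H.exists_fld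
  obtain ⟨e⟩ := nonempty_ringAut_equiv (F := K) (p := p) (f := 2 * f)
    (by rw [Nat.card_eq_fintype_card, hK, hq, ← pow_mul, mul_comm])
  have h1 : Function.Surjective φ := fun s => by
    obtain ⟨a, rfl⟩ := gfld_surjective_herm h hS.nondeg s
    exact ⟨_, hφ a⟩
  have h2 := e.surjective.comp h1
  refine ⟨e.toMonoidHom.comp φ, h2, ?_, ?_⟩
  · rw [MonoidHom.ker_comp_of_injective _ _ e.injective]
    obtain ⟨χ, hχ⟩ := exists_lift (stdHerm h (Fin n)).det.rangeRestrict
      ((gout (jSU h hn) hS).comp (glin _)) (MonoidHom.rangeRestrict_surjective _) fun g hg =>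
        H.glin (by rw [Herm.E_eq hS.nondeg (by simpa)]; exact congrArg Subtype.val hg)
    refine isCyclic_of_surjective (χ.codRestrict φ.ker fun x => ?_) ?_
    · obtain ⟨g, rfl⟩ := MonoidHom.rangeRestrict_surjective _ x
      rw [hχ]; exact hφ _
    · rintro ⟨x, hx⟩
      obtain ⟨a, rfl⟩ := H.surj x
      obtain ⟨u, g, rfl⟩ := exists_scal_mul_herm h hS (a := a) ((hφ a).symm.trans hx)
      exact ⟨_, Subtype.ext ((hχ g).trans (by simp [H.gscal]))⟩
  · have h3 := H.card (jSU h hn) hS
    rw [card_range_suAct h hn h32 hq, card_eq_range_mul_ker (e.toMonoidHom.comp φ),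
      card_range_of_surjective h2, Nat.card_congr Multiplicative.toAdd, Nat.card_zmod] at h3
    exact Nat.eq_of_mul_eq_mul_left (show 0 < 2 * f by omega)
      ((Nat.eq_of_mul_eq_mul_right Nat.card_pos h3).trans (mul_comm _ _))

end Cfsg.Agent.S2603
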