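import Cfsg.Statements.S0227
import Cfsg.Agent.Lib.Block.IsoLocal
import Cfsg.Agent.S0205

set_option autoImplicit false
open Cfsg

namespace Cfsg.Agent.S0227

open Cfsg.Lib.Block Cfsg.Lib.Char Cfsg.Lib.Amalg
set_option linter.style.haveILetI false

/-- Let G be a finite group with no nontrivial normal subgroup of odd order, S a Sylow 2-subgroup, and C the group of automorphisms of G that fix every element of S. Then every Sylow 2-subgroup of C is abelian and has a normal complement in C; in particular C is solvable. -/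
theorem result {G : Type*} [Group G] [Finite G] (hO : ∀ N : Subgroup G, N.Normal → Odd (Nat.card N) → N = ⊥) (S : Sylow 2 G) (C : Subgroup (MulAut G)) (hC : ∀ φ : MulAut G, φ ∈ C ↔ ∀ s : G, s ∈ S → φ s = s) : (∀ T : Sylow 2 ↥C, (∀ a b : ↥T, a * b = b * a) ∧ ∃ N : Subgroup ↥C, N.Normal ∧ Subgroup.IsComplement' N (T : Subgroup ↥C)) ∧ Group.IsSolvable ↥C := by
  obtain ⟨D, hD, hc, hp⟩ := exists_odd_normal_of_centralizes_sylow
    (hO _ inferInstance (Cfsg.Lib.Core.odd_card_oddCore G)) S (C := C) fun φ h s hs => (hC φ).1 h s hs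
  haveI : Finite (MulAut G) := Finite.of_injective (fun φ : MulAut G => (φ : G → G)) DFunLike.coe_injective
  haveI : D.Normal := ⟨fun d hd g => by
    have := mul_mem (hc g d) hd
    simpa using this⟩
  refine ⟨fun T => ⟨fun a b => ?_, ?_⟩, ?_⟩
  · have h1 : (a : C) * b * (a : C)⁻¹ * (b : C)⁻¹ ∈ (T : Subgroup C) :=
      mul_mem (mul_mem (mul_mem a.2 b.2) (inv_mem a.2)) (inv_mem b.2)
    obtain ⟨k, hk⟩ := (T.2 ⟨_, h1⟩)
    have h2 := Cfsg.Lib.Invol.odd_orderOf_of_mem (Nat.not_even_iff_odd.1 fun h => hD h.two_dvd) (hc a b)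
    have h3 : orderOf ((a : C) * b * (a : C)⁻¹ * (b : C)⁻¹) ∣ 2 ^ k :=
      orderOf_dvd_of_pow_eq_one (congrArg Subtype.val hk)
    have h4 := orderOf_eq_one_iff.1 (Nat.Coprime.eq_one_of_dvd ((Nat.coprime_two_right.2 h2).pow_right k) h3)
    apply Subtype.ext
    rw [mul_inv_eq_one, mul_inv_eq_iff_eq_mul] at h4
    exact h4
  · exact (Cfsg.Lib.Transfer.exists_isComplement'_iff T).2
      (Cfsg.Lib.Transfer.pnil_of_pow_mem hD fun x _ => hp x)
  · haveI := Cfsg.Agent.S0205.result (G := D) (Nat.not_even_iff_odd.1 fun h => hD h.two_dvd)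
    haveI : Group.IsSolvable (C ⧸ D) := Group.isSolvable_of_comm fun a b => by
      induction a using QuotientGroup.induction_on with | H a =>
      induction b using QuotientGroup.induction_on with | H b =>
      rw [← QuotientGroup.mk_mul, ← QuotientGroup.mk_mul, QuotientGroup.eq]
      simpa [mul_assoc] using hc b⁻¹ a⁻¹
    exact Group.isSolvable_of_ker_le_range D.subtype (QuotientGroup.mk' D) (by simp)

end Cfsg.Agent.S0227
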