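import Cfsg.Statements.S3065
import Cfsg.Agent.S0227

set_option autoImplicit false
open Cfsg

namespace Cfsg.Agent.S3065

open Cfsg.Lib.Block Cfsg.Lib.Char Cfsg.Lib.Amalg
set_option linter.style.haveILetI false

/-- automorphisms stabilizing `S` -/
def stab {G : Type*} [Group G] (S : Subgroup G) : Subgroup (MulAut G) where
  carrier := {φ | ∀ s, φ s ∈ S ↔ s ∈ S}
  one_mem' _ := Iff.rfl
  mul_mem' {φ ψ} h1 h2 s := (h1 (ψ s)).trans (h2 s)
  inv_mem' {φ} h s := by simpa using (h (φ⁻¹ s)).symm

/-- restriction to `S` -/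
def res {G : Type*} [Group G] (S : Subgroup G) : stab S →* MulAut S where
  toFun φ :=
    { toFun s := ⟨φ.1 s, (φ.2 s).2 s.2⟩
      invFun s := ⟨φ⁻¹.1 s, (φ⁻¹.2 s).2 s.2⟩
      left_inv s := by ext; simp
      right_inv s := by ext; simp
      map_mul' a b := by ext; simp }
  map_one' := by ext; rfl
  map_mul' a b := by ext; rfl

/-- automorphisms centralizing `S` -/
def cen {G : Type*} [Group G] (S : Subgroup G) : Subgroup (MulAut G) where
  carrier := {φ | ∀ s ∈ S, φ s = s}
  one_mem' _ _ := rfl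
  mul_mem' {φ ψ} h1 h2 s hs := by rw [MulAut.mul_apply, h2 s hs, h1 s hs]
  inv_mem' {φ} h s hs := by rw [MulAut.inv_apply, MulEquiv.symm_apply_eq, h s hs]

theorem cen_le {G : Type*} [Group G] (S : Subgroup G) : cen S ≤ stab S := fun φ h s =>
  ⟨fun hs => by rwa [← φ.injective (h _ hs)], fun hs => by rwa [h s hs]⟩

/-- Let G be a finite non-abelian simple group with a nontrivial Sylow 2-subgroup S (that is, G has even order). If the automorphism group of S is solvable, then the outer automorphism group Out(G) = Aut(G)/Inn(G) is solvable. -/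
theorem result {G : Type*} [Group G] [Finite G] [IsSimpleGroup G]
    (hG : ¬ IsMulCommutative G) (S : Sylow 2 G) (hS1 : (S : Subgroup G) ≠ ⊥) (hS : Group.IsSolvable (MulAut ↥S)) :
    Group.IsSolvable (Cfsg.Out G) := by
  haveI := (Cfsg.Agent.S0227.result (fun N hN hodd => ?_) S (cen S) fun φ => Iff.rfl).2
  · haveI : Group.IsSolvable (stab (S : Subgroup G)) :=
      Group.isSolvable_of_ker_le_range (Subgroup.inclusion (cen_le _)) (res (S : Subgroup G)) fun φ h =>
        ⟨⟨φ.1, fun s hs => by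
          exact congrArg (fun f : MulAut (S : Subgroup G) => (f ⟨s, hs⟩ : G)) (MonoidHom.mem_ker.1 h)⟩, rfl⟩
    refine Group.isSolvable_of_surjective
      (f := (QuotientGroup.mk' (Inn G)).comp (stab (S : Subgroup G)).subtype) fun x => ?_
    induction x using QuotientGroup.induction_on with | H φ =>
    obtain ⟨g, -, hg⟩ := (Cfsg.Lib.Transfer.sylowIn_top S).exists_cj_eq
      (by simpa using ((Cfsg.Lib.Transfer.sylowIn_top S).map φ⁻¹.toMonoidHom))
    refine ⟨⟨φ * MulAut.conj g, fun s => ?_⟩, ?_⟩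
    · rw [← Cfsg.Lib.Transfer.conj_mem_cj (g := g) (x := s), hg]
      exact (Subgroup.mem_map_equiv (f := φ⁻¹) (x := g * s * g⁻¹)).symm
    · simp only [MonoidHom.comp_apply, Subgroup.coe_subtype, QuotientGroup.mk'_apply]
      rw [eq_comm, QuotientGroup.eq]
      exact ⟨g, by simp⟩
  · rcases hN.eq_bot_or_eq_top with h | rfl
    · exact h
    · refine absurd ((Cfsg.Lib.Transfer.sylowIn_top S).eq_bot_iff.2 fun h => ?_) hS1
      exact Nat.not_even_iff_odd.2 hodd (even_iff_two_dvd.2 h)

end Cfsg.Agent.S3065
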