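import Cfsg.Statements.S5652
import Cfsg.Agent.Lib.Max.SL

set_option autoImplicit false
open Cfsg

namespace Cfsg.Agent.S5652

open Cfsg.Lib.Forms Cfsg.Lib.Forms.Form Module

theorem main {F V : Type*} [Field F] [Finite F] [AddCommGroup V] [Module F V]
    [FiniteDimensional F V] {D : Form (quadKind F) V} {D' : Form (altKind F) V} (hD : D.Nondeg)
    (h2 : (2 : F) = 0) (hB : ∀ u v, D'.B u v = D.B u v) (hn : 4 ≤ finrank F V)
    (S : Subgroup D'.isom) (hS : ∀ g, g ∈ S ↔ g.1 ∈ D.isom) :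
    ¬ D'.E ≤ S ∧ ∀ X : Subgroup D'.isom, D'.E ⊓ S ≤ X → ¬ X ≤ S → D'.E ≤ X := by
  have hD' : D'.Nondeg := fun x hx => hD x fun y => by rw [← hB, hx]
  obtain ⟨e, f, hef⟩ := Quad.exists_isHyp hD (by omega)
  have hE := Symp.E_eq_top hD'
  have neg : ∀ a : F, -a = a := fun a => by linear_combination (-a) * h2
  refine ⟨fun H => ?_, fun X h1 h3 => ?_⟩
  · have := ((hS _).1 (H (Symp.tv_mem_E e 1))).Q_map f
    simp [Symp.tv_apply, hB, hef.B_ef, quad_Q_add, hef.Q_e, hef.Q_f, hef.B_fe] at this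
  have h4 : ∀ g : D'.isom, g.1 ∈ D.isom → g ∈ X := fun g hg => h1 ⟨by simp [hE], (hS g).2 hg⟩
  have hT : ∀ w c, Symp.tv D' w c ∈ X → ∀ x, w ≠ 0 → x ≠ 0 → D.Q w = D.Q x → Symp.tv D' x c ∈ X := by
    intro w c h x hw hx hQ
    obtain ⟨g, rfl⟩ := hD.exists_map_of_Q_eq hw hx hQ
    have hg : g.1 ∈ D'.isom := Symp.mem_isom.2 fun x y => by simp [hB]
    rw [show g.1 w = (⟨g.1, hg⟩ : D'.isom).1 w from rfl, ← Symp.conj_tv]
    exact mul_mem (mul_mem (h4 _ g.2) h) (inv_mem (h4 _ g.2))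
  have hr : ∀ w, Symp.tv D' w (D.Q w)⁻¹ ∈ X := fun w => h4 _ (by
    convert (D.refl w).2 using 1
    ext x
    rw [Symp.tv_apply, refl_apply, hB, sub_eq_add_neg, ← neg_smul, neg])
  obtain ⟨g, hg, hg'⟩ := SetLike.not_le_iff_exists.1 h3
  obtain ⟨w, hw0, hw, hw1⟩ : ∃ w, w ≠ 0 ∧ Symp.tv D' w 1 ∈ X ∧ D.Q w ≠ 1 := by
    by_contra H
    push Not at H
    have k1 : ∀ v, D.Q v = 1 → D.Q (g.1 v) = 1 := fun v hv => H _
      (by rw [ne_eq, map_eq_zero_iff _ g.1.injective]; rintro rfl; simp at hv) (by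
        rw [← Symp.conj_tv]
        exact mul_mem (mul_mem hg (by simpa [hv] using hr v)) (inv_mem hg))
    have k2 : ∀ v, D.Q v ≠ 0 → D.Q (g.1 v) = D.Q v := fun v hv => by
      obtain ⟨t, ht⟩ := isSquare_of_two_eq_zero h2 (D.Q v)⁻¹
      have h5 : t ^ 2 * D.Q v = 1 := by rw [sq, ← ht, inv_mul_cancel₀ hv]
      have := k1 (t • v) (by rw [quad_Q_smul, h5])
      rw [map_smul, quad_Q_smul, ← h5] at this
      exact mul_left_cancel₀ (left_ne_zero_of_mul_eq_one h5) this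
    have k3 : ∀ x y, D.B (g.1 x) (g.1 y) = D.B x y := fun x y => by rw [← hB, ← hB, B_isom]
    refine hg' ((hS g).2 (mem_isom_quad.2 fun v => ?_))
    by_cases hv : D.Q v = 0
    swap
    · exact k2 v hv
    by_cases hv0 : v = 0
    · simp [hv0]
    obtain ⟨f, hf⟩ := hD.exists_isHyp hv hv0
    have := hf.finrank_hp
    obtain ⟨y, hy⟩ := Quad.exists_Q_eq (hf.nondeg_hp hD) (by omega) 1
    have hy' : D.Q y = 1 := hy
    have h5 := k2 (v + y) (by rw [quad_Q_add, hv, hy', (D.mem_hp.1 y.2).1]; simp)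
    rw [map_add, quad_Q_add, quad_Q_add, k3, k2 y (by simp [hy'])] at h5
    linear_combination h5
  obtain ⟨u, hu0, hu, hQ⟩ : ∃ u, u ≠ 0 ∧ Symp.tv D' u 1 ∈ X ∧ D.Q u = 0 := by
    by_cases h0 : D.Q w = 0
    · exact ⟨w, hw0, hw, h0⟩
    obtain ⟨t, ht⟩ := isSquare_of_two_eq_zero h2 (D.Q w + 1)⁻¹
    have h5 : D.Q w + 1 ≠ 0 := fun h => hw1 (by linear_combination h - h2)
    have h6 : t * t * (D.Q w + 1) = 1 := by rw [← ht, inv_mul_cancel₀ h5]
    have ht0 : t ≠ 0 := by rintro rfl; simp at h6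
    obtain ⟨y, hy, hy'⟩ : ∃ y, D.Q y = 1 ∧ D.B w y = t := by
      obtain ⟨g, hg⟩ := hD.exists_map_of_Q_eq (a := e + D.Q w • f) (b := w)
        (fun h => h0 (by simpa [h] using (hef.Q_smul_add 1 (D.Q w)).symm)) hw0
        (by simpa using hef.Q_smul_add 1 (D.Q w))
      have := hef.finrank_hp
      obtain ⟨y, hy⟩ := Quad.exists_Q_eq (hef.nondeg_hp hD) (by omega) 1
      have hy' : D.Q y = 1 := hy
      refine ⟨g.1 (t • f + y), ?_, ?_⟩
      · rw [Q_isom, quad_Q_add, D.Q_smul_of_Q hef.Q_f, hy']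
        simp [D.B_lin, (D.mem_hp.1 y.2).2]
      · conv_lhs => rw [← hg, B_isom]
        simp [D.B_lin, (D.mem_hp.1 y.2).1, (D.mem_hp.1 y.2).2, hef.B_ef, hef.B_ff]
    refine ⟨(Symp.tv D' w 1).1 y, ?_, ?_, ?_⟩
    · rw [ne_eq, map_eq_zero_iff _ (Symp.tv D' w 1).1.injective]; rintro rfl; simp at hy
    · rw [← Symp.conj_tv]
      exact mul_mem (mul_mem hw (by simpa [hy] using hr y)) (inv_mem hw)
    · rw [Symp.tv_apply, hB, hy', quad_Q_add, quad_Q_smul, D.B_smul_right, quad_symm D y w, hy, hy']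
      linear_combination h6 + h2
  have hA : ∀ x, x ≠ 0 → D.Q x = 0 → D'.At X ⊤ x := fun x hx0 hx => by
    refine at_of_zSet (he := alt_Q D' x) (fun z hz d hd => ?_) fun z _ hz => ?_
    · obtain rfl : z = 0 := by simpa using hz
      rw [Symp.eich_zero_eq_tv]
      obtain ⟨t, rfl⟩ := isSquare_of_two_eq_zero h2 d
      by_cases ht : t = 0
      · simp [ht]
      simpa [Symp.tv_smul, sq] using hT u 1 hu (t • x) hu0 (by simp [ht, hx0])
        (by rw [hQ, D.Q_smul_of_Q hx])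
    · have h5 := isEich_quad hx (z := z) (by rwa [← hB])
      refine ⟨D.Q z, Symp.isEich hz _, h4 _ ?_⟩
      convert (D.eich _ _ _ h5).2 using 1
      ext y
      simp [eich_apply, hB, neg]
  exact (hA e hef.e_ne_zero hef.Q_e).E_le hD' (hA f hef.f_ne_zero hef.Q_f) (alt_Q _ _) (alt_Q _ _)
    (by simp [hB, hef.B_ef])

/-- For a finite field F of characteristic two and m ≥ 7, let Q be a non-degenerate quadratic form on F^(2m) whose polar form is the standard alternating form. Then the elements of Sp_2m(F) that are similarities of Q (they are exactly the isometries of Q) form a maximal subgroup of Sp_2m(F). -/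
theorem result {F : Type*} [Field F] [Fintype F] (m : ℕ) (hm : 7 ≤ m) (heven : ¬ Odd (Fintype.card F)) (Q : (Fin m ⊕ Fin m → F) → F) (hQ : Cfsg.Geo.IsNondegenerateQuadraticForm Q) (hpol : ∀ u v, QuadraticMap.polar Q u v = Cfsg.sympForm m F u v) : Cfsg.Geo.IsMaximalIn (Cfsg.spGL m F) (Cfsg.Geo.quadSimilarityGroup Q ⊓ Cfsg.spGL m F) := by
  obtain ⟨D, rfl, hD⟩ := exists_form_of_quad hQ
  have h2 : (2 : F) = 0 := by
    rw [← ringChar_eq_two_iff, FiniteField.even_card_iff_char_two]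
    exact Nat.even_iff.1 (Nat.not_odd_iff_even.1 heven)
  have hB : ∀ u v, (fSymp F m).B u v = D.B u v := fun u v => by
    rw [fSymp_B, ← hpol, polar_eq_B D rfl]
  obtain ⟨e, f, hef⟩ := Quad.exists_isHyp hD (by rw [finrank_plus]; omega)
  obtain ⟨h3, h4⟩ := main hD h2 hB (by rw [finrank_plus]; omega)
    ((Geo.quadSimilarityGroup D.Q).comap (toGL _)) fun g => by
      change (∃ c : Fˣ, ∀ u, D.Q (Matrix.mulVec (toGL _ g : Matrix _ _ F) u) = c * D.Q u) ↔ _
      simp only [toGL_mulVec, mem_isom_quad]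
      refine ⟨fun ⟨c, hc⟩ u => ?_, fun h => ⟨1, by simpa using h⟩⟩
      have := B_isom g e f
      rw [hB, hB, quad_B_eq, ← map_add, hc, hc, hc, ← mul_sub, ← mul_sub, ← quad_B_eq,
        hef.B_ef, mul_one] at this
      rw [hc, this, one_mul]
  exact isMaximalIn_map (spGL_eq m) rfl h3 h4

end Cfsg.Agent.S5652
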