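import Cfsg.Statements.S2325
import Cfsg.Agent.Lib.Known.Unipotent

set_option autoImplicit false
open Cfsg

namespace Cfsg.Agent.S2325

open Cfsg.Lib.Known


/-- Over a finite field with q elements, q odd, the special linear group SL₂ has exactly q + 4 conjugacy classes. -/
theorem result {F : Type*} [Field F] [Fintype F] (hodd : Odd (Fintype.card F)) :
    Nat.card (ConjClasses (Matrix.SpecialLinearGroup (Fin 2) F)) = Fintype.card F + 4 := by
  have h2 : (2 : F) ≠ 0 := two_ne_zero_of_odd (by rwa [Nat.card_eq_fintype_card])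
  have hc : ringChar F ≠ 2 := by
    intro h
    apply h2
    have := ringChar.Nat.cast_ringChar (R := F)
    rw [h] at this; exact_mod_cast this
  obtain ⟨e, he⟩ := FiniteField.exists_nonsquare hc
  have he0 : e ≠ 0 := fun h => he (h ▸ IsSquare.zero)
  have hne : (1 : Fˣ) ≠ -1 := by
    intro h; apply h2
    have := congrArg Units.val h
    simp only [Units.val_one, Units.val_neg] at this
    linear_combination this
  have hsq : ∀ b : F, b ≠ 0 → ¬ IsSquare b → IsSquare (b * e) := by
    intro b hb hs
    classical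
    have h1 := (quadraticChar_neg_one_iff_not_isSquare (F := F)).2 hs
    have h3 := (quadraticChar_neg_one_iff_not_isSquare (F := F)).2 he
    refine (quadraticChar_one_iff_isSquare (mul_ne_zero hb he0)).1 ?_
    rw [map_mul, h1, h3]; norm_num
  let bb : Fin 3 → F := ![0, 1, e]
  have htr : ∀ (a : Fˣ) (b : F), a ^ 2 = 1 → (triS a b : M2 F).trace = 2 * a := by
    intro a b ha
    rw [trace_triS, ← (units_eq_inv_iff a).2 ha]; ring
  have ha2 : ∀ a : Fˣ, a ^ 2 = 1 → (2 * (a : F)) ^ 2 = 4 := by
    intro a ha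
    have : (a : F) ^ 2 = 1 := by rw [← Units.val_pow_eq_pow_val, ha, Units.val_one]
    rw [mul_pow, this]; norm_num
  rw [card_conjClasses_of_reps (X := {t : F // t ^ 2 ≠ 4} ⊕ ({a : Fˣ // a ^ 2 = 1} × Fin 3))
    (Sum.elim (fun t => compS t.1) (fun x => triS x.1.1 (bb x.2)))]
  · classical
    have h4 : Nat.card {t : F // t ^ 2 = 4} = 2 := by
      have : ∀ t : F, t ^ 2 = 4 ↔ t ^ 2 - (2 + -2) * t + 2 * -2 = 0 := fun t =>
        ⟨fun h => by linear_combination h, fun h => by linear_combination h⟩
      simp only [this]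
      refine card_roots_split fun h => h2 ?_
      have : (2 : F) * 2 = 0 := by linear_combination h
      simpa using this
    have h5 : Nat.card {t : F // t ^ 2 ≠ 4} + 2 = Fintype.card F := by
      have h6 := Fintype.card_subtype_le (fun t : F => t ^ 2 = 4)
      rw [Nat.card_eq_fintype_card] at h4
      rw [Nat.card_eq_fintype_card, Fintype.card_subtype_compl]
      omega
    rw [Nat.card_sum, Nat.card_prod, card_sq_eq_one h2, ← h5]
    simp
  · intro g
    by_cases hs : IsScal (g : M2 F)
    · obtain ⟨a, -, -, ha⟩ := eq_triS_of_upper hs.2.1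
      rw [hs.1] at ha
      have := ((isScal_triS_iff a 0).1 (ha ▸ hs)).2
      exact ⟨Sum.inr (⟨a, this⟩, 0), by rw [ha]; exact IsConj.refl _⟩
    · by_cases ht : (g : M2 F).trace ^ 2 = 4
      · obtain ⟨a, ha, hta⟩ : ∃ a : Fˣ, a ^ 2 = 1 ∧ (g : M2 F).trace = 2 * a := by
          have : ((g : M2 F).trace - 2) * ((g : M2 F).trace + 2) = 0 := by linear_combination ht
          rcases mul_eq_zero.1 this with h | h
          · exact ⟨1, one_pow 2, by simpa using sub_eq_zero.1 h⟩
          · exact ⟨-1, by simp, by simpa using eq_neg_of_add_eq_zero_left h⟩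
        obtain ⟨b, hb, hgb⟩ := exists_isConj_triS_par hs ha hta
        by_cases hsb : IsSquare b
        · exact ⟨Sum.inr (⟨a, ha⟩, 1),
            hgb.trans ((isConj_triS_par_iff ha hb one_ne_zero).2 (by simpa))⟩
        · exact ⟨Sum.inr (⟨a, ha⟩, 2),
            hgb.trans ((isConj_triS_par_iff ha hb he0).2 (hsq b hb hsb))⟩
      · exact ⟨Sum.inl ⟨_, ht⟩, isConj_SL2_of_trace hs (not_isScal_compS _)
          (trace_compS _).symm (Or.inr ht)⟩
  · rintro (⟨t, ht⟩ | ⟨⟨a, ha⟩, i⟩) (⟨t', ht'⟩ | ⟨⟨a', ha'⟩, i'⟩) h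
    · have h1 : (compS t : M2 F).trace = (compS t' : M2 F).trace := SL2_trace_eq_of_isConj h
      rw [trace_compS, trace_compS] at h1
      subst h1; rfl
    · have h1 : (compS t : M2 F).trace = (triS a' (bb i') : M2 F).trace := SL2_trace_eq_of_isConj h
      rw [trace_compS, htr _ _ ha'] at h1
      exact absurd (h1 ▸ ha2 a' ha') ht
    · have h1 : (triS a (bb i) : M2 F).trace = (compS t' : M2 F).trace := SL2_trace_eq_of_isConj h
      rw [trace_compS, htr _ _ ha] at h1
      exact absurd (h1 ▸ ha2 a ha) ht'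
    · have h' : IsConj (triS a (bb i)) (triS a' (bb i')) := h
      have h1 := SL2_trace_eq_of_isConj h'
      rw [htr _ _ ha, htr _ _ ha'] at h1
      have h3 : a = a' := Units.ext (mul_left_cancel₀ h2 h1)
      subst h3
      have h4 := SL2_isScal_iff_of_isConj h'
      rw [isScal_triS_iff, isScal_triS_iff] at h4
      simp only [ha, and_true] at h4
      have : i = i' := by
        fin_cases i <;> fin_cases i' <;> simp [bb, he0] at h4 h' ⊢
        · exact he (by simpa using (isConj_triS_par_iff ha one_ne_zero he0).1 (isConj_iff.2 h'))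
        · exact he (by simpa using (isConj_triS_par_iff ha he0 one_ne_zero).1 (isConj_iff.2 h'))
      rw [this]

end Cfsg.Agent.S2325
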