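import Cfsg.Statements.S2331
import Cfsg.Agent.Lib.Known.Unipotent

set_option autoImplicit false
open Cfsg

namespace Cfsg.Agent.S2331

open Cfsg.Lib.Known


/-- Over a finite field with q elements, q even, the special linear group SL₂ has exactly q + 1 conjugacy classes. -/
theorem result {F : Type*} [Field F] [Fintype F] [CharP F 2] :
    Nat.card (ConjClasses (Matrix.SpecialLinearGroup (Fin 2) F)) = Fintype.card F + 1 := by
  have h2 : (2 : F) = 0 := CharP.ofNat_eq_zero F 2
  rw [card_conjClasses_of_reps (X := Option F) (fun o => o.elim (1 : SL2 F) compS)]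
  · rw [Finite.card_option, Nat.card_eq_fintype_card]
  · intro g
    by_cases hs : IsScal (g : M2 F)
    · refine ⟨none, ?_⟩
      obtain ⟨a, -, -, ha⟩ := eq_triS_of_upper hs.2.1
      rw [hs.1] at ha
      have := (units_sq_eq_one_iff_of_two h2 a).1 ((isScal_triS_iff a 0).1 (ha ▸ hs)).2
      rw [ha, this, triS_one]
      exact IsConj.refl _
    · exact ⟨some (g : M2 F).trace, isConj_SL2_of_trace hs (not_isScal_compS _)
        (trace_compS _).symm (Or.inl h2)⟩
  · rintro (_ | t) (_ | t') h
    · rfl
    · exact absurd ((SL2_isScal_iff_of_isConj h).1 isScal_one) (not_isScal_compS _)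
    · exact absurd ((SL2_isScal_iff_of_isConj h).2 isScal_one) (not_isScal_compS _)
    · have h1 : (compS t : M2 F).trace = (compS t' : M2 F).trace := SL2_trace_eq_of_isConj h
      rw [trace_compS, trace_compS] at h1
      rw [h1]

end Cfsg.Agent.S2331
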