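import Cfsg.Statements.S2384
import Cfsg.Agent.Lib.Known.SimilarMat

set_option autoImplicit false
open Cfsg

namespace Cfsg.Agent.S2384

open Cfsg.Lib.Known

open Polynomial

/-- In `SL_n(q)`, `q` a power of the prime `p`, the number of conjugacy classes of elements of order prime to `p` (the semisimple classes) is `q^(n-1)`. -/
theorem result {F : Type*} [Field F] [Fintype F] {q : ℕ} (hq : Fintype.card F = q) (p : ℕ) [Fact p.Prime] [CharP F p] (n : ℕ) (hn : 1 ≤ n) :
    Nat.card {c : ConjClasses (Matrix.SpecialLinearGroup (Fin n) F) //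
      ∃ g : Matrix.SpecialLinearGroup (Fin n) F, ConjClasses.mk g = c ∧ (orderOf g).Coprime p} = q ^ (n - 1) := by
  obtain ⟨m, rfl⟩ := Nat.exists_eq_add_of_le' hn
  rw [card_classes_of_invariant' _ 
    (fun g : Matrix.SpecialLinearGroup (Fin (m + 1)) F =>
      (g : Matrix (Fin (m + 1)) (Fin (m + 1)) F).charpoly)
    (fun f => f.Monic ∧ f.natDegree = m + 1 ∧ f.coeff 0 = (-1) ^ (m + 1)),
    card_monic_coeff_zero m (fun c => c = (-1) ^ (m + 1)), Nat.card_eq_fintype_card (α := F), hq]
  · simp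
  · intro g h hg hh
    rw [SL_coprime_iff_isSS p] at hg hh
    constructor
    · intro hc
      rw [charpoly_eq_edProd, charpoly_eq_edProd, ed_eq_of_isConj_SL hc]
    · intro hc
      exact hg.detSurj.isConj (ed_eq_of_isSS hg hh hc)
  · intro f
    constructor
    · rintro ⟨h1, h2, h3⟩
      obtain ⟨A, hA, rfl⟩ := exists_isSS_charpoly (n := Fin (m + 1)) h1 (by simpa using h2)
      refine ⟨⟨A, ?_⟩, (SL_coprime_iff_isSS p _).2 hA, rfl⟩
      rw [Matrix.det_eq_sign_charpoly_coeff, h3, Fintype.card_fin, ← mul_pow]; simp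
    · rintro ⟨g, -, rfl⟩
      refine ⟨Matrix.charpoly_monic _, by simp, ?_⟩
      have := Matrix.det_eq_sign_charpoly_coeff (g : Matrix (Fin (m + 1)) (Fin (m + 1)) F)
      rw [g.det_coe, Fintype.card_fin] at this
      have h2 : ((-1 : F) ^ (m + 1)) * (-1) ^ (m + 1) = 1 := by rw [← mul_pow]; simp
      linear_combination (-(-1 : F) ^ (m + 1)) * this -
        (g : Matrix (Fin (m + 1)) (Fin (m + 1)) F).charpoly.coeff 0 * h2

end Cfsg.Agent.S2384
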