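import Cfsg.Statements.S2479
import Cfsg.Agent.Lib.Linear.ClassNum2
import Cfsg.Agent.S2384

set_option autoImplicit false
open Cfsg

namespace Cfsg.Agent.S2479

/-- The number of conjugacy classes of SL(n,q): for F a finite field with q elements, the number k of conjugacy classes of SL(n,F) satisfies q^(n−1) < k and k ≤ (5/2)·q^(n−1) for n ≥ 2, and k ≤ q^(n−1) + 3q^(n−2) for n ≥ 3. -/
theorem result {F : Type*} [Field F] [Fintype F] (n : ℕ) (hn : 2 ≤ n) :
    Fintype.card F ^ (n - 1) < Nat.card (ConjClasses (Matrix.SpecialLinearGroup (Fin n) F)) ∧ 2 * Nat.card (ConjClasses (Matrix.SpecialLinearGroup (Fin n) F)) ≤ 5 * Fintype.card F ^ (n - 1) ∧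
      (3 ≤ n → Nat.card (ConjClasses (Matrix.SpecialLinearGroup (Fin n) F)) ≤ Fintype.card F ^ (n - 1) + 3 * Fintype.card F ^ (n - 2)) := by
  classical
  obtain ⟨p, hp⟩ := CharP.exists F
  have : Fact p.Prime := ⟨CharP.char_is_prime F p⟩
  have h := Lib.Linear.card_classes_SL_le_admS (n := Fin n) (F := F)
  have hq := Lib.Linear.two_le_q (F := F)
  rw [Fintype.card_fin] at h
  refine ⟨?_, ?_, fun h3 => h.trans (Lib.Linear.admS_three_le _ h3 _)⟩
  · rw [← S2384.result rfl p n (by omega)]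
    have h01 : (⟨0, by omega⟩ : Fin n) ≠ ⟨1, by omega⟩ := by simp
    let t : Matrix.SpecialLinearGroup (Fin n) F := ⟨_, Matrix.det_transvection_of_ne _ _ h01 1⟩
    refine Finite.card_subtype_lt (x := ConjClasses.mk t) ?_
    rintro ⟨g, h1, h2⟩
    rw [Lib.Known.SL_coprime_iff_isSS, Lib.Known.ed_eq_of_isConj_SL (ConjClasses.mk_eq_mk_iff_isConj.1 h1)] at h2
    have h3 : (t.1 - 1) ^ 2 = 0 := by simp [t, Matrix.transvection, sq, Matrix.single_mul_single_of_ne _ _ _ _ h01.symm]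
    have h4 := (Lib.Known.sub_one_pow_eq_zero_iff_ed t.1 1).2 fun x hx =>
      ⟨((Lib.Known.sub_one_pow_eq_zero_iff_ed t.1 2).1 h3 x hx).1, (h2 x hx).le⟩
    simpa [t, Matrix.transvection] using congrFun₂ h4 ⟨0, by omega⟩ ⟨1, by omega⟩
  rcases hn.eq_or_lt with rfl | h3
  · exact (Nat.mul_le_mul_left _ h).trans (by simpa using (Lib.Linear.admS_two _ _).2)
  have := h.trans (Lib.Linear.admS_three_le _ h3 _)
  have : Fintype.card F ^ (n - 1) = Fintype.card F * Fintype.card F ^ (n - 2) := by rw [← pow_succ']; congr 1; omega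
  nlinarith [Nat.mul_le_mul_right (Fintype.card F ^ (n - 2)) hq]

end Cfsg.Agent.S2479
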