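import Cfsg.Statements.S2480
import Cfsg.Agent.S2479
import Cfsg.Agent.S4201

set_option autoImplicit false
open Cfsg

namespace Cfsg.Agent.S2480

open Lib.Linear Matrix Finset

/-- The number of conjugacy classes of PSL(n,q): for F a finite field with q elements, n ≥ 2 and d = gcd(n, q − 1), the number k of conjugacy classes of PSL(n,F) satisfies q^(n−1) ≤ d·k ≤ q^(n−1) + 5q^(n−2). -/
theorem result {F : Type*} [Field F] [Fintype F] (n : ℕ) (hn : 2 ≤ n) :
    Fintype.card F ^ (n - 1) ≤ Nat.gcd n (Fintype.card F - 1) * Nat.card (ConjClasses (Matrix.ProjectiveSpecialLinearGroup (Fin n) F)) ∧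
      Nat.gcd n (Fintype.card F - 1) * Nat.card (ConjClasses (Matrix.ProjectiveSpecialLinearGroup (Fin n) F)) ≤ Fintype.card F ^ (n - 1) + 5 * Fintype.card F ^ (n - 2) := by
  classical
  have : Nonempty (Fin n) := ⟨⟨0, by omega⟩⟩
  have hZ := card_center_SL (ι := Fin n) (F := F)
  rw [Fintype.card_fin, Nat.card_eq_fintype_card (α := F)] at hZ
  have hq := two_le_q (F := F)
  rw [← hZ]
  refine ⟨(S2479.result n hn).1.le.trans ((S4201.result (Subgroup.center _)).trans (Nat.mul_le_mul_right _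
    (Nat.card_le_card_of_surjective _ ConjClasses.mk_surjective))), (card_center_mul_classes_le _).trans ?_⟩
  have h1 : ∀ z : Subgroup.center (SpecialLinearGroup (Fin n) F), z ≠ 1 → ∃ k, 1 ≤ k ∧ 2 * k ≤ n ∧
      Nat.card {C // ∃ g, ConjClasses.mk g = C ∧ IsConj (z.1 * g) g} ≤ admS F n k ((-1) ^ n) := fun z hz => by
    obtain ⟨r, hr, h⟩ := Matrix.SpecialLinearGroup.mem_center_iff.1 z.2
    rw [Fintype.card_fin] at hr
    have h0 : r ≠ 0 := by rintro rfl; simp [show n ≠ 0 by omega] at hr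
    have h2 := orderOf_dvd_of_pow_eq_one hr
    have h3 : 2 ≤ orderOf r := by
      have := Nat.pos_of_dvd_of_pos h2 (by omega)
      have : orderOf r ≠ 1 := fun e => hz (Subtype.ext (Subtype.ext (by rw [← h, orderOf_eq_one_iff.1 e]; simp)))
      omega
    refine ⟨n / orderOf r, Nat.div_pos (Nat.le_of_dvd (by omega) h2) (by omega), (Nat.mul_le_mul_right _ h3).trans (Nat.mul_div_le _ _), ?_⟩
    simpa using card_fixed_le (n := Fin n) h0 (fun C => ∃ g, ConjClasses.mk g = C ∧ IsConj (z.1 * g) g) fun g ⟨g', h4, h5⟩ => by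
      have h6 : IsConj (z.1 * g) g := by
        obtain ⟨c, rfl⟩ := isConj_iff.1 (ConjClasses.mk_eq_mk_iff_isConj.1 h4)
        refine IsConj.trans (isConj_iff.2 ⟨c⁻¹, ?_⟩) (h5.trans (isConj_iff.2 ⟨c, rfl⟩))
        simp [← mul_assoc, Subgroup.mem_center_iff.1 z.2 c⁻¹]
      simpa [← h, Matrix.smul_eq_diagonal_mul] using Lib.Known.ed_eq_of_isConj_SL h6
  have h2 := card_classes_SL_le_admS (n := Fin n) (F := F)
  rw [Fintype.card_fin] at h2
  have h3 : ∀ B, (∀ k, 1 ≤ k → 2 * k ≤ n → admS F n k ((-1) ^ n) ≤ B) → ∑ z : Subgroup.center (SpecialLinearGroup (Fin n) F),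
      Nat.card {C // ∃ g, ConjClasses.mk g = C ∧ IsConj (z.1 * g) g} ≤ admS F n n ((-1) ^ n) + (n.gcd (Fintype.card F - 1) - 1) * B := fun B hB => by
    rw [← add_sum_erase _ _ (mem_univ 1), ← hZ]
    refine add_le_add ((Finite.card_subtype_le _).trans h2) ((sum_le_card_nsmul _ _ B fun z hz => ?_).trans_eq (by simp))
    obtain ⟨k, h4, h5, h6⟩ := h1 z (ne_of_mem_erase hz)
    exact h6.trans (hB k h4 h5)
  have h4 : n.gcd (Fintype.card F - 1) - 1 ≤ Fintype.card F - 2 := Nat.sub_le_sub_right (Nat.gcd_le_right _ (by omega)) 1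
  have h5 : n.gcd (Fintype.card F - 1) - 1 ≤ n - 1 := Nat.sub_le_sub_right (Nat.gcd_le_left _ (by omega)) 1
  have a1 := admS_one (F := F) n ((-1) ^ n)
  have a2 := admS_two (F := F) n ((-1) ^ n)
  have a3 := fun k hk => admS_three_le (F := F) n (n := k) hk ((-1) ^ n)
  generalize n.gcd (Fintype.card F - 1) - 1 = d at *
  generalize Fintype.card F = q at *
  clear h1 h2 hZ
  generalize (-1 : F) ^ n = δ at *
  obtain ⟨p, rfl⟩ := Nat.exists_eq_add_of_le' hq
  by_cases h : n < 4
  · refine (h3 1 fun k _ _ => by obtain rfl : k = 1 := by omega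
                                 exact a1).trans ?_
    have := a3 3 le_rfl
    interval_cases n <;> simp at * <;> omega
  by_cases h' : n = 4
  · refine (h3 (p + 2 + 4) fun k _ _ => ?_).trans ?_
    · obtain rfl | rfl : k = 1 ∨ k = 2 := by omega
      all_goals omega
    have := a3 4 (by omega)
    subst h'
    simp at *; nlinarith
  obtain ⟨m, rfl⟩ := Nat.exists_eq_add_of_le' (show 5 ≤ n by omega)
  have e1 : 1 ≤ (p + 2) ^ m := Nat.one_le_pow _ _ (by omega)
  refine (h3 (3 * (p + 2) ^ (m + 1)) fun k _ _ => ?_).trans ?_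
  · obtain rfl | rfl | hk : k = 1 ∨ k = 2 ∨ 3 ≤ k := by omega
    · rw [pow_succ]; nlinarith
    · rw [pow_succ]; nlinarith
    have := Nat.pow_le_pow_right (n := p + 2) (by omega) (show k - 1 ≤ m + 1 by omega)
    have := Nat.pow_le_pow_right (n := p + 2) (by omega) (show k - 2 ≤ m by omega)
    have := a3 k hk
    rw [pow_succ _ m] at *; nlinarith
  have := a3 (m + 5) (by omega)
  have h6 := Nat.mul_le_mul_right (3 * (p + 2) ^ (m + 1)) h4
  have h7 : p * (3 * (p + 2) ^ (m + 1)) ≤ 2 * (p + 2) ^ (m + 3) := by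
    rw [pow_succ _ (m + 2), pow_succ _ (m + 1)]
    generalize (p + 2) ^ (m + 1) = y
    nlinarith [Nat.zero_le (y * p * p), Nat.zero_le (y * p)]
  simp only [Nat.add_sub_cancel, show m + 5 - 2 = m + 3 from rfl] at *
  omega

end Cfsg.Agent.S2480
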