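import Cfsg.Statements.S4198
import Mathlib.GroupTheory.SpecificGroups.Alternating.Centralizer
import Mathlib.Combinatorics.Enumerative.Composition

set_option autoImplicit false
open Cfsg

namespace Cfsg.Agent.S4198

open Equiv Equiv.Perm

variable {α : Type*} [Fintype α] [DecidableEq α]

theorem card_le_of_rel {A B : Type*} [Finite B] (R : A → B → Prop) (h1 : ∀ a, ∃ b, R a b)
    (h2 : ∀ a a' b, R a b → R a' b → a = a') : Nat.card A ≤ Nat.card B := by
  choose f hf using h1
  exact Nat.card_le_card_of_injective f fun a a' e => h2 a a' _ (hf a) (e ▸ hf a')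

def ct (C : ConjClasses (Perm α)) : Multiset ℕ :=
  Quotient.lift cycleType (fun _ _ h => isConj_iff_cycleType_eq.1 h) C

theorem ct_mk (g : Perm α) : ct (ConjClasses.mk g) = g.cycleType := rfl

theorem ct_inj {C D : ConjClasses (Perm α)} (h : ct C = ct D) : C = D := by
  obtain ⟨g, rfl⟩ := C.exists_rep
  obtain ⟨k, rfl⟩ := D.exists_rep
  exact ConjClasses.mk_eq_mk_iff_isConj.2 (isConj_iff_cycleType_eq.2 h)

theorem part_two (n : ℕ) (hn : Fintype.card α = n + 5) :
    Nat.card (ConjClasses (Perm α)) ≤ 2 ^ (n + 3) := by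
  have hc : Nat.card (Composition (n + 4)) = 2 ^ (n + 3) := by
    rw [Nat.card_eq_fintype_card, composition_card]; rfl
  rw [← hc]
  refine card_le_of_rel (fun C c => (ct C = 0 ∧ c.blocks = 1 :: 1 :: 2 :: List.replicate n 1) ∨
    (c.blocks ≠ 1 :: 1 :: 2 :: List.replicate n 1 ∧
      ct C = (c.blocks.headI + 1) ::ₘ (c.blocks.tail : Multiset ℕ).filter (2 ≤ ·))) (fun C => ?_) ?_
  · obtain ⟨g, rfl⟩ := C.exists_rep
    rw [ct_mk]
    by_cases h0 : g.cycleType = 0
    · exact ⟨⟨1 :: 1 :: 2 :: List.replicate n 1, by simp +contextual [or_imp], by simp; omega⟩,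
        Or.inl ⟨h0, rfl⟩⟩
    obtain ⟨a, ha⟩ := Multiset.exists_mem_of_ne_zero h0
    obtain ⟨m, hm⟩ := Multiset.exists_cons_of_mem ha
    have h1 := g.sum_cycleType_le
    have h2 : ∀ b ∈ g.cycleType, 2 ≤ b := fun b => two_le_of_mem_cycleType
    have h3 := h2 a ha
    rw [hm] at h1 h2 ⊢
    obtain ⟨l, rfl⟩ := Quotient.exists_rep m
    simp only [Multiset.quot_mk_to_coe, Multiset.sum_cons, Multiset.sum_coe, Multiset.mem_cons,
      Multiset.mem_coe] at h1 h2 ⊢
    refine ⟨⟨(a - 1) :: (l ++ List.replicate (n + 5 - (a + l.sum)) 1), fun {i} hi => ?_,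
      by simp; omega⟩, Or.inr ⟨fun e => ?_, ?_⟩⟩
    · simp only [List.mem_cons, List.mem_append, List.mem_replicate] at hi
      rcases hi with h | h | h
      · omega
      · have := h2 i (Or.inr h); omega
      · omega
    · simp only [List.cons.injEq] at e
      rcases l with _ | ⟨b, l⟩
      · have : 2 ∈ List.replicate (n + 5 - (a + [].sum)) 1 := by
          rw [List.nil_append] at e; rw [e.2]; simp
        simp at this
      · have := h2 b (Or.inr List.mem_cons_self)
        simp only [List.cons_append, List.cons.injEq] at e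
        omega
    · simp only [List.headI_cons, List.tail_cons, ← Multiset.coe_add, Multiset.filter_add]
      rw [Nat.sub_add_cancel (by omega), Multiset.filter_eq_self.2 fun b hb => h2 b (Or.inr hb),
        Multiset.filter_eq_nil.2 (by simp), add_zero]
  · rintro C D c (⟨h1, h2⟩ | ⟨h1, h2⟩) (⟨h3, h4⟩ | ⟨h3, h4⟩)
    · exact ct_inj (h1.trans h3.symm)
    · exact absurd h2 h3
    · exact absurd h4 h1
    · exact ct_inj (h2.trans h4.symm)

theorem isConj_alt {g k : alternatingGroup α} {s : Perm α} (hs : sign s = 1)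
    (h : s * g * s⁻¹ = k) : ConjClasses.mk g = ConjClasses.mk k :=
  ConjClasses.mk_eq_mk_iff_isConj.2 (isConj_iff.2 ⟨⟨s, mem_alternatingGroup.2 hs⟩, Subtype.ext h⟩)

theorem exists_odd {g k : alternatingGroup α} (h : g.1.cycleType = k.1.cycleType)
    (hne : ConjClasses.mk g ≠ ConjClasses.mk k) : ∃ s : Perm α, sign s = -1 ∧ s * g * s⁻¹ = k := by
  obtain ⟨s, hs⟩ := isConj_iff.1 (isConj_iff_cycleType_eq.2 h)
  exact ⟨s, (Int.units_eq_one_or _).resolve_left fun e => hne (isConj_alt e hs), hs⟩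

theorem part_one (hn : 5 ≤ Fintype.card α) :
    Nat.card (ConjClasses (alternatingGroup α)) < Nat.card (ConjClasses (Perm α)) := by
  have hb : ∀ m : Multiset ℕ, ∃ g0 : alternatingGroup α, ∀ g : alternatingGroup α,
      g.1.cycleType = m → g0.1.cycleType = m := fun m => by
    by_cases h : ∃ g : alternatingGroup α, g.1.cycleType = m
    · exact ⟨h.choose, fun _ _ => h.choose_spec⟩
    · exact ⟨1, fun g hg => absurd ⟨g, hg⟩ h⟩
  choose b hb using hb
  obtain ⟨t, ht⟩ := (exists_with_cycleType_iff α (m := {2})).2 ⟨by simp; omega, by simp⟩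
  have hpar : ∀ g : alternatingGroup α, Even (g.1.cycleType.sum + g.1.cycleType.card) := fun g => by
    have := mem_alternatingGroup.1 g.2
    rw [sign_of_cycleType] at this
    exact (neg_one_pow_eq_one_iff_even (by decide)).1 this
  have hpar' : ∀ (g : alternatingGroup α) (a : ℕ) (m : Multiset ℕ), g.1.cycleType = (a + 1) ::ₘ m →
      ∀ k : alternatingGroup α, k.1.cycleType ≠ a ::ₘ m := fun g a m h k e => by
    have h1 := hpar g
    have h2 := hpar k
    rw [h] at h1
    rw [e] at h2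
    simp only [Multiset.sum_cons, Multiset.card_cons, Nat.even_iff] at h1 h2
    omega
  refine lt_of_le_of_lt (card_le_of_rel (B := {C : ConjClasses (Perm α) // C ≠ ConjClasses.mk t})
    (fun D C => ∃ g : alternatingGroup α, ConjClasses.mk g = D ∧
      ((D = ConjClasses.mk (b g.1.cycleType) ∧ ct C.1 = g.1.cycleType) ∨
        (D ≠ ConjClasses.mk (b g.1.cycleType) ∧ (∀ c ∈ g.1.cycleType, Odd c) ∧
          ∃ a m, g.1.cycleType = (a + 1) ::ₘ m ∧ ct C.1 = a ::ₘ m))) (fun D => ?_) ?_)
    (Finite.card_subtype_lt (x := ConjClasses.mk t) (by simp))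
  · obtain ⟨g, rfl⟩ := D.exists_rep
    by_cases h : ConjClasses.mk g = ConjClasses.mk (b g.1.cycleType)
    · refine ⟨⟨ConjClasses.mk g.1, fun e => ?_⟩, g, rfl, Or.inl ⟨h, rfl⟩⟩
      have h1 := hpar g
      rw [← ct_mk, e, ct_mk, ht] at h1
      simp at h1
      exact absurd h1 (by decide)
    obtain ⟨s, hs, e⟩ := exists_odd (hb _ g rfl).symm h
    obtain ⟨h1, h2, -⟩ := centralizer_le_alternating_iff.1 (fun c hc => mem_alternatingGroup.2
      ((Int.units_eq_one_or _).resolve_right fun hc' => h (isConj_alt (s := s * c)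
        (by rw [map_mul, hs, hc']; rfl) (by
          rw [← e, mul_assoc s, Subgroup.mem_centralizer_singleton_iff.1 hc]; group))) :
        Subgroup.centralizer {g.1} ≤ alternatingGroup α)
    obtain ⟨a, ha⟩ := Multiset.exists_mem_of_ne_zero (s := g.1.cycleType) fun e => by
      rw [e] at h2; simp at h2; omega
    obtain ⟨m, hm⟩ := Multiset.exists_cons_of_mem ha
    have h3 := two_le_of_mem_cycleType ha
    obtain ⟨a, rfl⟩ : ∃ c, a = c + 1 := ⟨a - 1, by omega⟩
    have h4 := h1 _ ha
    obtain ⟨k, hk⟩ := (exists_with_cycleType_iff α (m := a ::ₘ m)).2 ⟨by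
      have := g.1.sum_cycleType_le
      rw [hm] at this
      simp only [Multiset.sum_cons] at this ⊢
      omega, fun c hc => by
      rcases Multiset.mem_cons.1 hc with rfl | hc
      · obtain ⟨j, hj⟩ := h4; omega
      · exact two_le_of_mem_cycleType (hm ▸ Multiset.mem_cons_of_mem hc)⟩
    refine ⟨⟨ConjClasses.mk k, fun e => ?_⟩, g, rfl, Or.inr ⟨h, h1, a, m, hm, hk⟩⟩
    rw [← ct_mk, e, ct_mk, ht, eq_comm, ← Multiset.cons_zero, Multiset.cons_eq_cons] at hk
    rcases hk with ⟨rfl, rfl⟩ | ⟨-, _, -, hk⟩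
    · rw [hm] at h2; simp at h2; omega
    · exact Multiset.zero_ne_cons hk
  · rintro D D' C ⟨g, rfl, ⟨h1, h2⟩ | ⟨h1, h2, a, m, h3, h4⟩⟩ ⟨k, rfl, ⟨h5, h6⟩ | ⟨h5, h6, a', m', h7, h8⟩⟩
    · rw [h1, h5, ← h2, h6]
    · exact absurd (h2.symm.trans h8) (hpar' k a' m' h7 g)
    · exact absurd (h6.symm.trans h4) (hpar' g a m h3 k)
    · have e : g.1.cycleType = k.1.cycleType := by
        rcases Multiset.cons_eq_cons.1 (h4.symm.trans h8) with ⟨rfl, rfl⟩ | ⟨-, u, hu, -⟩
        · rw [h3, h7]
        · have o1 := h2 a' (by rw [h3, hu]; simp)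
          have o2 := h6 (a' + 1) (by rw [h7]; simp)
          rw [Nat.odd_iff] at o1 o2
          omega
      rw [← e] at h5
      obtain ⟨s, hs, e1⟩ := exists_odd (hb _ g rfl).symm h1
      obtain ⟨s', hs', e2⟩ := exists_odd (e.symm.trans (hb _ g rfl).symm) h5
      refine isConj_alt (s := s'⁻¹ * s) (by rw [map_mul, map_inv, hs, hs']; rfl) ?_
      rw [← e2] at e1
      calc s'⁻¹ * s * g * (s'⁻¹ * s)⁻¹ = s'⁻¹ * (s * g * s⁻¹) * s' := by group
        _ = k := by rw [e1]; group


/-- For n ≥ 5 the alternating group of degree n has strictly fewer conjugacy classes than the symmetric group of degree n, and the symmetric group of degree n (whose classes correspond to the partitions of n) has at most 2^(n−2) conjugacy classes. -/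
theorem result (n : ℕ) (hn : 5 ≤ n) : Nat.card (ConjClasses (alternatingGroup (Fin n))) < Nat.card (ConjClasses (Equiv.Perm (Fin n))) ∧ Nat.card (ConjClasses (Equiv.Perm (Fin n))) ≤ 2 ^ (n - 2) := by
  obtain ⟨n, rfl⟩ : ∃ m, n = m + 5 := ⟨n - 5, by omega⟩
  exact ⟨part_one (by simp), part_two n (by simp)⟩

end Cfsg.Agent.S4198
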