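import Cfsg.Statements.S1714
import Cfsg.Agent.Lib.Known2.Glob

set_option autoImplicit false
open Cfsg

namespace Cfsg.Agent.S1714
open Cfsg.Lib.Known2

/-- The Fischer group Fi₂₃ from a transposition centraliser: let G be a finite group with an involution d such that the centraliser C of d is quasisimple, C modulo the subgroup generated by d is isomorphic to the presented Fischer group Fi₂₂, and some conjugate of d different from d commutes with d. Then G is isomorphic to the presented Fischer group Fi₂₃. -/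
theorem result {G : Type*} [Group G] [Finite G] (d : G) (hd : orderOf d = 2) (hq : Cfsg.IsQuasisimple (Subgroup.centralizer ({d} : Set G))) [((Subgroup.zpowers d).subgroupOf (Subgroup.centralizer ({d} : Set G))).Normal] (e : Cfsg.Spor.IsoFi22 ((Subgroup.centralizer ({d} : Set G)) ⧸ (Subgroup.zpowers d).subgroupOf (Subgroup.centralizer ({d} : Set G)))) (hnwc : ∃ g : G, g * d * g⁻¹ ∈ Subgroup.centralizer ({d} : Set G) ∧ g * d * g⁻¹ ≠ d) : Cfsg.Spor.IsoFi23 G := by
  obtain ⟨e⟩ := e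
  obtain ⟨a, b, c⟩ := fi22_t22
  have k : Corr (conjugatesOf (γ22 1)) (e.symm.toMonoidHom '' conjugatesOf (γ22 1)) fun x y => x ∈ conjugatesOf (γ22 1) ∧ e.symm x = y :=
    ⟨a.tt, a.tt.map e.symm.injective, fun _ _ h => ⟨h.1, _, h.1, h.2⟩, fun x h => ⟨_, h, rfl⟩, fun _ h => h,
      fun _ _ _ _ h h' => by rw [← h.2, ← h'.2, e.symm.injective.eq_iff], fun x _ y _ h h' =>
        ⟨a.tt.conj x h.1 y h'.1, by rw [← h.2, ← h'.2, map_mul, map_mul]⟩⟩
  have z := (Lib.Fi.map_center_equiv e.symm).symm.trans (by rw [b, Subgroup.map_bot])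
  obtain ⟨h1, h2, h3⟩ := recog23 hq hd hnwc ⟨k.t₂.set, ⟨_, ⟨_, IsConj.refl _, rfl⟩, Set.ext fun y =>
    ⟨fun ⟨x, h, h'⟩ => h' ▸ e.symm.toMonoidHom.map_isConj h, fun h => ⟨e y, e.apply_symm_apply (γ22 1) ▸ e.toMonoidHom.map_isConj h, by simp⟩⟩⟩, by
      rw [← MonoidHom.map_closure, a.grp.2.2, Subgroup.map_top_of_surjective _ e.symm.surjective]⟩ ((k.t22 c).type z)
  exact ⟨(h1.iso h2 h3).choose⟩

end Cfsg.Agent.S1714
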