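import Cfsg.Statements.S0731
import Cfsg.Agent.Lib.BN.ZassFeit

set_option autoImplicit false
open Cfsg

namespace Cfsg.Agent.S0731

open Cfsg.Lib.BN

/-- A finite Zassenhaus group whose point stabiliser has an abelian regular normal subgroup on the remaining points is sharply triply transitive or isomorphic to `PSL(2, F)` for a finite field `F` of odd characteristic. -/
theorem result {G Ω : Type*} [Group G] [Finite G] [MulAction G Ω] [Finite Ω] (hZ : Cfsg.IsZassenhausGroup G Ω) (x : Ω) (F : Subgroup G) (hFle : F ≤ MulAction.stabilizer G x) (hFn : (F.subgroupOf (MulAction.stabilizer G x)).Normal) (hFab : IsMulCommutative F) (hreg : ∀ y z : Ω, y ≠ x → z ≠ x → ∃! u : F, (u : G) • y = z) : (MulAction.IsMultiplyPretransitive G Ω 3 ∧ ∀ t : Fin 3 ↪ Ω, MulAction.stabilizer G t = ⊥) ∨ ∃ (K : Type) (_ : Field K) (_ : Fintype K), ringChar K ≠ 2 ∧ Nonempty (G ≃* Matrix.ProjectiveSpecialLinearGroup (Fin 2) K) := by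
  have z := z3_of_zass hZ
  obtain ⟨b, hb⟩ := z.exists_ne x
  obtain rfl := z.eq_K_of_reg hFle hb hreg
  rcases z.eq_or_eq_of_large hb (zass_E2_ne_bot hZ hb) (zass_large_of_comm hZ z hb hFab) with h | h
  · refine Or.inl ⟨z.three_trans hb h, fun t => (Subgroup.eq_bot_iff_forall _).2 fun g hg => ?_⟩
    have e : ∀ i, g • t i = t i := fun i => congrArg (fun s : Fin 3 ↪ Ω => s i) hg
    exact z.three (t.injective.ne (by decide)) (t.injective.ne (by decide)) (t.injective.ne (by decide))
      (e 0) (e 1) (e 2)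
  · obtain ⟨k, _, _, -, h2, e⟩ := zass_psl_of_half hZ z hb h
    obtain ⟨F, _, _, -, h3, e⟩ := exists_psl_zero e
    exact Or.inr ⟨F, inferInstance, inferInstance, h3 ▸ h2, e⟩

end Cfsg.Agent.S0731
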