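import Cfsg.Statements.S0102
import Cfsg.Agent.Lib.Transfer.Apps

set_option autoImplicit false
open Cfsg

namespace Cfsg.Agent.S0102

open Lib.Transfer Subgroup

/-- A finite perfect group with cyclic Sylow p-subgroups has no perfect central extension whose kernel has order divisible by p. -/
theorem result {G : Type*} {H : Type*} [Group G] [Group H] [Finite G] [Finite H] (hG : commutator G = ⊤) {p : ℕ} [Fact p.Prime] (hcyc : ∀ P : Sylow p G, IsCyclic P) (σ : H →* G) (hσ : Function.Surjective σ) (hz : σ.ker ≤ Subgroup.center H) (hH : commutator H = ⊤) : ¬ p ∣ Nat.card σ.ker := by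
  intro hd
  obtain ⟨P⟩ : Nonempty (Sylow p H) := inferInstance
  obtain ⟨Q, hQ⟩ := (P.2.map σ).exists_le_sylow
  have := hcyc Q
  let f : (P : Subgroup H) →* (Q : Subgroup G) :=
    (σ.comp (P : Subgroup H).subtype).codRestrict _ fun x => hQ (mem_map_of_mem σ x.2)
  have hc : IsMulCommutative (P : Subgroup H) := ⟨⟨commutative_of_cyclic_center_quotient f fun x hx => by
    have h1 : (x : H) ∈ σ.ker := by simpa [f] using congrArg Subtype.val (MonoidHom.mem_ker.1 hx)
    exact mem_center_iff.2 fun y => Subtype.ext (mem_center_iff.1 (hz h1) y)⟩⟩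
  have h1 := inf_commutator_inf_center_le (P : Subgroup H) (coprime_relIndex_commutator P.card_coprime_index)
  rw [commutator_self_eq_bot hc] at h1
  obtain ⟨x, hx⟩ := exists_prime_orderOf_dvd_card' p hd
  have h2 : (x : H) ^ p ^ 1 = 1 := by
    rw [pow_one, ← hx, ← Subgroup.orderOf_coe, pow_orderOf_eq_one]
  have h3 : (x : H) = 1 := h1 ⟨⟨center_inf_le_sylow P (hz x.2) ⟨1, h2⟩, hH ▸ mem_top _⟩, hz x.2⟩
  rw [← Subgroup.orderOf_coe, h3, orderOf_one] at hx
  exact (Fact.out : p.Prime).one_lt.ne hx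

end Cfsg.Agent.S0102
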