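import Cfsg.Statements.S0331
import Cfsg.Agent.Lib.BN.SzPartition

set_option autoImplicit false
open Cfsg

namespace Cfsg.Agent.S0331

open Cfsg.Lib.BN.Sz

/-- For every odd prime `p` the Sylow `p`-subgroups of the Suzuki group are cyclic. -/
theorem result {F : Type*} [Field F] [Fintype F] {m : ℕ} (hm : 1 ≤ m)
    (hF : Fintype.card F = 2 ^ (2 * m + 1)) {p : ℕ} [Fact p.Prime] (hp : p ≠ 2)
    (P : Sylow p (Cfsg.Sz F m)) : IsCyclic P := by
  have := szField_of_card hm hF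
  rcases subsingleton_or_nontrivial P with h | h
  · exact isCyclic_of_subsingleton
  have := P.2.center_nontrivial
  obtain ⟨⟨⟨z, hzP⟩, hz⟩, hz1⟩ := exists_ne (1 : Subgroup.center P)
  have hz1' : z ≠ 1 := fun e => hz1 (Subtype.ext (Subtype.ext e))
  have hz2 : (P : Subgroup (Cfsg.Sz F m)) ≤ Subgroup.centralizer {z} := fun y hy =>
    Subgroup.mem_centralizer_singleton_iff.2 (congrArg Subtype.val (Subgroup.mem_center_iff.1 hz ⟨y, hy⟩))
  have h4 : z ^ 4 ≠ 1 := by
    intro h4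
    obtain ⟨n, hn⟩ := P.2 ⟨z, hzP⟩
    have hn' : z ^ p ^ n = 1 := congrArg Subtype.val hn
    have hc : (2 ^ 2).Coprime (p ^ n) :=
      Nat.Coprime.pow _ _ ((Nat.coprime_primes Nat.prime_two Fact.out).2 hp.symm)
    exact hz1' ((pow_eq_one_iff_of_coprime hc).1 ⟨h4, hn'⟩)
  have := isCyclic_centralizer h4
  exact Subgroup.isCyclic_of_le hz2

end Cfsg.Agent.S0331
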