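import Cfsg.Statements.S0261
import Cfsg.Agent.Lib.Linear.SL2Sub

set_option autoImplicit false
open Cfsg

namespace Cfsg.Agent.S0261

/-- For q odd, the Sylow 2-subgroups of SL_2(q) are generalised quaternion. -/
theorem result {F : Type*} [Field F] [Fintype F] (hF : Odd (Fintype.card F)) (P : Sylow 2 (Matrix.SpecialLinearGroup (Fin 2) F)) : ∃ k : ℕ, 1 ≤ k ∧ Nonempty ((P : Subgroup (Matrix.SpecialLinearGroup (Fin 2) F)) ≃* QuaternionGroup (2 ^ k)) := by
  have h2 := Cfsg.Lib.Known.two_ne_zero_of_odd (F := F) (by rwa [Nat.card_eq_fintype_card])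
  obtain ⟨φ, hφ⟩ := Cfsg.Lib.Linear.exists_hom_quaternion_two h2
  rcases Cfsg.Lib.Linear.sl2_two_subgroup h2 P.isPGroup' with h | h
  · obtain ⟨T, hT⟩ := (Cfsg.Lib.Linear.isPGroup_quaternion_two.of_equiv
      (MonoidHom.ofInjective hφ)).exists_le_sylow
    have := (Sylow.equiv P T).isCyclic.1 h
    exact absurd ((MonoidHom.ofInjective hφ).isCyclic.2
      (isCyclic_of_injective _ (Subgroup.inclusion_injective hT)))
      Cfsg.Lib.Linear.not_isCyclic_quaternion_two
  · exact h

end Cfsg.Agent.S0261
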