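import Cfsg.Statements.S5891
import Cfsg.Agent.Lib.Max.L2

set_option autoImplicit false
open Cfsg

namespace Cfsg.Agent.S5891

open Cfsg.Lib.Forms Cfsg.Lib.Linear



/-- Let F be a finite field of odd order q > 3 and characteristic p, and let M be a maximal subgroup of PGL₂(F) not containing the image L of SL₂(F) (a copy of PSL₂(F) of index 2). Then one of the following holds: |M| = q(q − 1) (M is the stabiliser of a point of the projective line); q ≠ 5 and M is dihedral of order 2(q − 1); M is dihedral of order 2(q + 1); q = p ≡ ±3 (mod 8) and M ≅ S₄; or q = q₀^r for an odd prime r and M ≅ PGL₂(F₀) with |F₀| = q₀. -/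
theorem result {F : Type*} [Field F] [Fintype F]
    (hodd : Odd (Fintype.card F)) (h3 : 3 < Fintype.card F) (M : Subgroup (Matrix.ProjGenLinGroup (Fin 2) F)) (hM : IsCoatom M)
    (hML : ¬ (Matrix.ProjGenLinGroup.mk.comp Matrix.SpecialLinearGroup.toGL).range ≤ M) :
    Nat.card M = Fintype.card F * (Fintype.card F - 1) ∨
    (Fintype.card F ≠ 5 ∧ Nonempty (M ≃* DihedralGroup (Fintype.card F - 1))) ∨
    Nonempty (M ≃* DihedralGroup (Fintype.card F + 1)) ∨
    ((Fintype.card F).Prime ∧ (Fintype.card F % 8 = 3 ∨ Fintype.card F % 8 = 5) ∧ Nonempty (M ≃* Equiv.Perm (Fin 4))) ∨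
    (∃ (F₀ : Type) (_ : Field F₀) (_ : Fintype F₀) (r : ℕ), r.Prime ∧ Odd r ∧ Fintype.card F = Fintype.card F₀ ^ r ∧
        Nonempty (M ≃* Matrix.ProjGenLinGroup (Fin 2) F₀)) := by
  rw [← Nat.card_eq_fintype_card (α := F)] at hodd h3 ⊢
  simp only [← Nat.card_eq_fintype_card]
  have hL : (Matrix.ProjGenLinGroup.mk.comp Matrix.SpecialLinearGroup.toGL).range = LL F := by
    rw [← L2.PS_id, L2.PS, ← slToPGL_range]
    congr 1
  rw [hL] at hML
  rcases L2.pgl_odd (L2.two_ne_zero_of_odd hodd) h3 hM hML with ⟨x, h⟩ | ⟨s, r, h5, h6, rfl⟩ | h |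
    ⟨E, _, _, f, r, t, hr, h5, h6, rfl⟩
  · have h7 := L2.card_stab le_top x
    rw [inf_top_eq, ← h, Subgroup.card_top, card_PGL_two, mul_comm] at h7
    exact Or.inl (Nat.eq_of_mul_eq_mul_right (Nat.succ_pos _) h7)
  · have h8 := h5.equiv
    rcases h6 with ⟨h6, h7⟩ | h7 <;> rw [h7] at h8
    exacts [Or.inr (Or.inl ⟨h6, h8⟩), Or.inr (Or.inr (Or.inl h8))]
  · exact Or.inr (Or.inr (Or.inr (Or.inl h)))
  · exact Or.inr (Or.inr (Or.inr (Or.inr ⟨E, _, inferInstance, r, hr, h5, h6, L2.equiv_PG f t⟩)))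

end Cfsg.Agent.S5891
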