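import Cfsg.Statements.S0678
import Cfsg.Agent.Lib.Hall.Deg7

set_option autoImplicit false
open Cfsg

namespace Cfsg.Agent.S0678

open scoped Pointwise commutatorElement
open Cfsg.Lib Cfsg.Lib.Hall

/-- A non-solvable transitive permutation group on 7 points that does not contain the alternating group is a simple group of order 168. -/
theorem result {α : Type*} [Fintype α] [DecidableEq α] (hα : Fintype.card α = 7) (G : Subgroup (Equiv.Perm α)) [MulAction.IsPretransitive G α] (hG : ¬ Group.IsSolvable G) (hA : ¬ alternatingGroup α ≤ G) : Nat.card G = 168 ∧ IsSimpleGroup G := by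
  have : Fact (Nat.Prime 7) := ⟨by norm_num⟩
  refine ⟨card_seven hα hG hA, simple_of_descend hα hG fun M _ hM => ?_⟩
  rw [card_seven hα hG hA, descend hα (· = 168) (fun H _ h1 h2 => card_seven hα h1 h2) hG hA M hM]

end Cfsg.Agent.S0678
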