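import Cfsg.Statements.S3050
import Cfsg.Agent.Lib.Amalg.Hig3b

set_option autoImplicit false
open Cfsg

namespace Cfsg.Agent.S3050

open Subgroup Cfsg.Lib.Amalg
open Cfsg.Lib.Core hiding isPGroup_subgroupOf isPGroup_subgroupOf_iff isPGroup_map_subtype_iff isPGroup_zpowers_of_orderOf
open scoped commutatorElement

open Cfsg.Lib.Amalg.Hig3

/-- Let G be a finite group with a normal 2-subgroup Q such that G/Q is isomorphic to SL(2, 2ⁿ) with n ≥ 2, and suppose some element of G of order 3 fixes no nonidentity element of Q under conjugation. Then Q is elementary abelian and is the direct product of normal subgroups of G on each of which G acts as SL(2, 2ⁿ) acts on its natural two-dimensional module (a Galois twist of the natural action allowed). -/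
theorem result {G : Type*} [Group G] [Finite G]
    (Q : Subgroup G) [Q.Normal] (hQ : IsPGroup 2 ↥Q) (n : ℕ) (hn : 2 ≤ n)
    (K : Type*) [Field K] [Fintype K] (hK : Fintype.card K = 2 ^ n)
    (e : G ⧸ Q ≃* Matrix.SpecialLinearGroup (Fin 2) K)
    (x : G) (hx : orderOf x = 3) (hfpf : ∀ q ∈ Q, x * q * x⁻¹ = q → q = 1) :
    Cfsg.IsElementaryAbelian 2 Q ∧
      ∃ (k : ℕ) (V : Fin k → Subgroup G), (∀ i, V i ≤ Q ∧ (V i).Normal ∧
        Cfsg.ActsAsSL2OnSection K ⊤ ⊤ (V i) ⊥) ∧ iSupIndep V ∧ ⨆ i, V i = Q := by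
  have h2 : (2 : K) = 0 := by
    have := FiniteField.cast_card_eq_zero K
    rw [hK, Nat.cast_pow] at this
    exact_mod_cast pow_eq_zero_iff (by omega) |>.1 this
  have hK4 : 4 ≤ Nat.card K := by
    rw [Nat.card_eq_fintype_card, hK]; exact Nat.pow_le_pow_right (by norm_num : 0 < 2) hn
  let f : G →* Matrix.SpecialLinearGroup (Fin 2) K := e.toMonoidHom.comp (QuotientGroup.mk' Q)
  have hf : Function.Surjective f := e.surjective.comp (QuotientGroup.mk'_surjective Q)
  have hk : f.ker = Q := by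
    ext g
    exact e.map_eq_one_iff.trans (QuotientGroup.eq_one_iff g)
  have hx3 : x ^ 3 = 1 := hx ▸ pow_orderOf_eq_one x
  have hN := N3.of_fpf hx3 hfpf
  have hx1 : f x ≠ 1 := by
    intro h
    have h1 := hfpf x (hk ▸ h) (by group)
    rw [h1, orderOf_one] at hx
    omega
  have ht := trace_of_cube h2 (by rw [← map_pow, hx3, map_one]) hx1
  refine main h2 hK4 hf hk (fun g hg => ?_) hQ
  obtain ⟨c, hc⟩ := isConj_iff.1 ((conj_of_trace h2 ht).symm.trans (conj_of_trace h2 hg))
  obtain ⟨c, rfl⟩ := hf c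
  exact ⟨c * x * c⁻¹, by rw [map_mul, map_mul, map_inv, hc], hN.conj c⟩

end Cfsg.Agent.S3050
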