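import Cfsg.Statements.S0801
import Cfsg.Agent.Lib.Linear.PSL2Small

set_option autoImplicit false
open Cfsg

namespace Cfsg.Agent.S0801

open Matrix MulAction Cfsg.Lib.Linear Cfsg.Lib.Linear.PL Cfsg.Lib.Known

variable {F : Type*} [Field F]

/-- An orbit of length `40` on `𝔽₉²`. -/
def P (a b c d : ZMod 3) : Prop :=
  Nat.testBit 762828073181388188904526 (a.val + 3 * b.val + 9 * c.val + 27 * d.val) = true

instance (a b c d : ZMod 3) : Decidable (P a b c d) := by unfold P; infer_instance

theorem P_u : ∀ a b c d, P a b c d → P a b (a + c) (b + d) := by decide +kernel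
theorem P_v : ∀ a b c d, P a b c d → P (a - d) (b + c) c d := by decide +kernel

theorem ne_top [Finite F] [CharP F 3] {lam : F} (h : lam ^ 2 = -1) :
    Subgroup.closure {slMat (1 : F) 0 1 1 (by simp), slMat 1 lam 0 1 (by simp)} ≠ ⊤ := by
  intro e
  let ι := ZMod.castHom (dvd_refl 3) F
  have h3 : (3 : F) = 0 := CharP.cast_eq_zero F 3
  let χ : F → F → Prop := fun x y => ∃ a b c d, P a b c d ∧ x = ι a + ι b * lam ∧ y = ι c + ι d * lam
  have hm : ∀ (g h : SL2 F) (i j : Fin 2), (g * h) i j = g i 0 * h 0 j + g i 1 * h 1 j :=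
    fun g h i j => m2_mul _ _ i j
  have key : ∀ g ∈ Submonoid.closure {slMat (1 : F) 0 1 1 (by simp), slMat 1 lam 0 1 (by simp)},
      χ (g 0 0) (g 1 0) := by
    intro g hg
    induction hg using Submonoid.closure_induction_left with
    | one => exact ⟨1, 0, 0, 0, by decide, by simp, by simp⟩
    | mul_left x hx y _ ih =>
      obtain ⟨a, b, c, d, h1, h2, h3⟩ := ih
      rcases hx with rfl | rfl
      · refine ⟨_, _, _, _, P_u _ _ _ _ h1, ?_, ?_⟩
        · rw [hm, h2]; simp
        · rw [hm, h2, h3, map_add, map_add]; simp; ring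
      · refine ⟨_, _, _, _, P_v _ _ _ _ h1, ?_, ?_⟩
        · rw [hm, h2, h3, map_add, map_sub]
          simp only [coe_slMat, of_apply, cons_val', cons_val_zero, cons_val_one, cons_val_fin_one]
          linear_combination ι d * h
        · rw [hm, h3]; simp
  rw [← Subgroup.closure_toSubmonoid_of_finite, e] at key
  obtain ⟨a, b, c, d, h1, h2, h4⟩ := key (slMat (1 + lam) 0 0 (lam - 1)
    (by linear_combination h - h3)) trivial
  have ind : ∀ a b : ZMod 3, ι a + ι b * lam = 0 → a = 0 ∧ b = 0 := fun a b e => by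
    have : ι (a ^ 2 + b ^ 2) = 0 := by
      rw [map_add, map_pow, map_pow]
      linear_combination (ι a - ι b * lam) * e + (ι b) ^ 2 * h
    rw [map_eq_zero] at this
    revert a b
    exact fun a b _ => (by decide : ∀ a b : ZMod 3, a ^ 2 + b ^ 2 = 0 → a = 0 ∧ b = 0) a b
  obtain ⟨rfl, rfl⟩ := ind c d (by simpa using h4.symm)
  obtain ⟨e1, e2⟩ := ind (a - 1) (b - 1) (by
    rw [map_sub, map_sub, map_one]
    simp only [coe_slMat, of_apply, cons_val', cons_val_zero, cons_val_fin_one] at h2
    linear_combination -h2)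
  rw [sub_eq_zero] at e1 e2
  subst e1 e2
  exact absurd h1 (by decide)

theorem card_eq_two_mul {K : Type*} [Field K] (f : F →+* K) (h2 : (2 : F) ≠ 0) {H : Subgroup (SL2 F)}
    (h : -1 ∈ H) : Nat.card H = 2 * Nat.card (H.map (slToPGL f)) := by
  have h1 : (slToPGL f).ker = Subgroup.zpowers (-1) := by
    ext g
    rw [MonoidHom.mem_ker, slToPGL_eq_one_iff]
    refine ⟨fun h => h.elim (fun e => by rw [e]; exact one_mem _)
      fun e => by rw [e]; exact Subgroup.mem_zpowers _, ?_⟩
    rintro ⟨n, rfl⟩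
    rcases Int.even_or_odd n with h | h
    · exact Or.inl h.neg_one_zpow
    · exact Or.inr h.neg_one_zpow
  have h3 : orderOf (-1 : SL2 F) = 2 := orderOf_eq_prime (by simp) (sl2_neg_one_ne_one h2)
  rw [← Subgroup.relIndex_ker, Subgroup.relIndex, ← ((slToPGL f).ker.subgroupOf H).card_mul_index,
    Nat.card_congr (Subgroup.subgroupOfEquivOfLe (by rwa [h1, Subgroup.zpowers_le])).toEquiv, h1,
    Nat.card_zpowers]
  exact congrArg (· * _) h3

open Polynomial in
theorem card_le [Finite F] [CharP F 3] {lam : F} (hgen : Subfield.closure ({lam} : Set F) = ⊤)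
    {n : ℕ} (hn : n ≠ 0) (c : ℤ) (h : lam ^ n = c) : Nat.card F ≤ 3 ^ n := by
  let _ := ZMod.algebra F 3
  have h1 : IntermediateField.adjoin (ZMod 3) {lam} = ⊤ := by
    apply IntermediateField.toSubfield_injective
    rw [eq_top_iff.2 (hgen ▸ Subfield.closure_le.2 (IntermediateField.subset_adjoin _ _) :
      ⊤ ≤ (IntermediateField.adjoin (ZMod 3) {lam}).toSubfield)]
    rfl
  have h2 := IntermediateField.adjoin.finrank (Algebra.IsIntegral.isIntegral (R := ZMod 3) lam)
  rw [h1, IntermediateField.finrank_top'] at h2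
  have h3 := natDegree_le_natDegree (minpoly.degree_le_of_ne_zero (ZMod 3) lam
    (X_pow_sub_C_ne_zero (Nat.pos_of_ne_zero hn) (c : ZMod 3)) (by simp [h]))
  rw [natDegree_X_pow_sub_C, ← h2] at h3
  rw [Module.natCard_eq_pow_finrank (K := ZMod 3), Nat.card_zmod]
  exact Nat.pow_le_pow_right (by norm_num) h3

theorem main [Finite F] (h2 : (2 : F) ≠ 0) (lam : F) (hlam : lam ≠ 0)
    (hgen : Subfield.closure ({lam} : Set F) = ⊤) :
    Subgroup.closure {slMat (1 : F) 0 1 1 (by simp), slMat 1 lam 0 1 (by simp)} = ⊤ ∨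
      (Nat.card F = 9 ∧ lam ^ 2 = -1 ∧ Nat.card
        (Subgroup.closure {slMat (1 : F) 0 1 1 (by simp), slMat 1 lam 0 1 (by simp)}) = 120) := by
  set u : SL2 F := slMat (1 : F) 0 1 1 (by simp) with hu
  set v : SL2 F := slMat 1 lam 0 1 (by simp) with hv
  set H := Subgroup.closure {u, v}
  have huH : u ∈ H := Subgroup.subset_closure (by simp)
  have hvH : v ∈ H := Subgroup.subset_closure (by simp)
  let K := AlgebraicClosure F
  let f := algebraMap F K
  obtain ⟨p, hp⟩ := CharP.exists F
  have : Fact p.Prime := ⟨CharP.char_is_prime F p⟩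
  have hc := centralP'_slToPGL f p
  have hu1 : u ∈ pU hc (pt 0) := mem_pU_of_pow hc (n := 1)
    (by rw [slToPGL_eq, sl_smul_pt_eq_pt]; simp [hu])
    (by rw [pow_one, ← transvection_pow_char (show (1 : Fin 2) ≠ 0 by decide) (1 : F)]
        congr 1
        apply sl2_ext <;> simp [hu, SpecialLinearGroup.transvection_coe])
  have hv1 : v ∈ pU hc inf := mem_pU_of_pow hc (n := 1)
    (by rw [slToPGL_eq, sl_smul_inf_eq_inf]; simp [hv])
    (by rw [pow_one, ← transvection_pow_char (show (0 : Fin 2) ≠ 1 by decide) lam]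
        congr 1
        apply sl2_ext <;> simp [hv, SpecialLinearGroup.transvection_coe])
  have hu2 : slToPGL f u ≠ 1 := fun e => by
    simpa [hu, one_eq_slMat, slMat_inj] using hc.coprime u e hu1.2
  have hv2 : slToPGL f v ≠ 1 := fun e => by
    simpa [hv, one_eq_slMat, slMat_inj, hlam] using hc.coprime v e hv1.2
  have t1 : tr2 (u * v) = 2 + lam := by rw [hu, hv, slMat_mul, tr2_slMat]; ring
  have t2 : tr2 (u * v⁻¹) = 2 - lam := by rw [hu, hv, slMat_inv, slMat_mul, tr2_slMat]; ring
  have : Finite (H.map (slToPGL f)) := Finite.of_surjective _ ((slToPGL f).subgroupMap_surjective H)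
  have hneg : ∀ g ∈ H, slToPGL f g ≠ 1 → slToPGL f g ^ 2 = 1 → -1 ∈ H := fun g hg h1 h3 => by
    rw [← map_pow, slToPGL_eq_one_iff, sq] at h3
    rcases h3 with h3 | h3
    · exact absurd ((slToPGL_eq_one_iff f).2 (sl2_mul_self_eq_one h2 h3)) h1
    · exact h3 ▸ mul_mem hg hg
  rcases dickson_two_unip (H := H.map (slToPGL f))
    (by rw [← map_ofNat f]; exact (map_ne_zero f).2 h2) (pt_ne_inf 0) ⟨u, huH, rfl⟩ ⟨v, hvH, rfl⟩
    hu1.1 hv1.1 hu2 hv2 with ⟨h3, ⟨e⟩⟩ | ⟨R, t, hR, h⟩
  · right
    have h3' : (3 : F) = 0 := by rwa [← map_ofNat f, map_eq_zero] at h3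
    have : CharP F 3 := (CharP.charP_iff_prime_eq_zero Nat.prime_three).2 (by exact_mod_cast h3')
    have hcard : Nat.card H = 120 := by
      obtain ⟨g, hg, e'⟩ := (e.symm a5x).2
      rw [card_eq_two_mul f h2 (hneg g hg (by
        rw [e', Ne, OneMemClass.coe_eq_one, map_eq_one_iff _ e.symm.injective]; decide) (by
        rw [e', ← Subgroup.coe_pow, ← map_pow, show a5x ^ 2 = 1 by decide, map_one]; rfl)),
        Nat.card_congr e.toEquiv, card_A5]
    have hdvd := H.card_subgroup_dvd_card
    rw [hcard, card_SL_two] at hdvd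
    have hq := two_le_card_field (F := F)
    have h1 : lam ^ 2 ≠ 1 := fun h => by
      have : Nat.card F ≤ 3 ^ 1 := by
        rcases sq_eq_one_iff.1 h with h | h
        · exact card_le hgen one_ne_zero 1 (by simpa using h)
        · exact card_le hgen one_ne_zero (-1) (by simpa using h)
      generalize Nat.card F = q at *
      interval_cases q <;> omega
    have htr : ∀ g ∈ H, tr2 g = 0 ∨ tr2 g ^ 2 = 1 ∨ tr2 g ^ 4 = -1 := fun g hg => by
      have h4 : ∀ n, e ⟨_, g, hg, rfl⟩ ^ n = 1 → (g : PSL2 F) ^ n = 1 := fun n hn => by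
        rw [← map_pow, map_eq_one_iff _ e.injective] at hn
        apply pslToPGL_injective f
        rw [map_pow, map_one]
        exact congrArg Subtype.val hn
      by_cases h5 : (g : PSL2 F) = 1
      · exact Or.inr (Or.inl (by linear_combination tr2_sq_of_mk_eq_one h5 + h3'))
      rcases A5_pow (e ⟨_, g, hg, rfl⟩) with h | h | h
      · exact Or.inl ((psl2_sq_eq_one_iff.1 (h4 _ h)).resolve_right h5)
      · exact Or.inr (Or.inl (sub_eq_zero.1 ((psl2_pow_three_eq_one_iff.1 (h4 _ h)).resolve_right h5)))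
      · exact Or.inr (Or.inr (by
          linear_combination (psl2_pow_five_eq_one_iff.1 (h4 _ h)).resolve_right h5 + tr2 g ^ 2 * h3'))
    have h6 : (2 + lam) ^ 4 = -1 := by
      rcases t1 ▸ htr _ (mul_mem huH hvH) with h | h | h
      · exact absurd (by linear_combination (lam - 2) * h + h3') h1
      · exact absurd (mul_left_cancel₀ hlam (by
          linear_combination (lam - 1) * h - (lam ^ 2 - 1) * h3') : lam ^ 2 = 1) h1
      · exact h
    have h7 : (2 - lam) ^ 4 = -1 := by
      rcases t2 ▸ htr _ (mul_mem huH (inv_mem hvH)) with h | h | h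
      · exact absurd (by linear_combination -(lam + 2) * h + h3') h1
      · exact absurd (mul_left_cancel₀ hlam (by
          linear_combination (lam + 1) * h + (lam ^ 2 - 1) * h3') : lam ^ 2 = 1) h1
      · exact h
    have h8 : lam ^ 2 = -1 := mul_left_cancel₀ hlam (by
      linear_combination h6 - h7 - (5 * lam ^ 3 + 21 * lam) * h3')
    refine ⟨?_, h8, hcard⟩
    have h9 := card_le hgen two_ne_zero (-1) (by simpa using h8)
    have h10 := char_dvd_card (K := F) (p := 3)
    generalize Nat.card F = q at *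
    interval_cases q <;> omega
  · left
    have hle : H.map (slToPGL f) ≤ (pslToPGL f).range := slToPGL_range f ▸ Subgroup.map_le_range _ _
    have h3 : (pslToPGL R.subtype).range.map (MulAut.conj t).toMonoidHom ≤ H.map (slToPGL f) := by
      rcases h with h | h <;> rw [h]
      exact Subgroup.map_mono (pslToPGL_range_le _)
    have h4 : R ≤ f.fieldRange := le_fieldRange_of_conj f (h3.trans (hle.trans (pslToPGL_range_le f)))
    have h5 : ∀ g ∈ H, f (tr2 g ^ 2) ∈ R := fun g hg => by
      have h6 : slToPGL f g ∈ (ProjGenLinGroup.map (n := Fin 2) R.subtype).range.map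
          (MulAut.conj t).toMonoidHom := by
        have : slToPGL f g ∈ H.map (slToPGL f) := ⟨g, hg, rfl⟩
        rcases h with h | h <;> rw [h] at this
        · exact this
        · exact Subgroup.map_mono (pslToPGL_range_le _) this
      obtain ⟨_, ⟨k, rfl⟩, e⟩ := h6
      rw [tr2, ← tau_slToPGL, ← e]
      exact Set.mem_of_eq_of_mem ((tau_conj t _).trans (tau_map R.subtype k)) (tau k).2
    have h6 : lam ∈ R.comap f := by
      have h8 : (8 : F) ≠ 0 := by
        rw [show (8 : F) = 2 ^ 3 by norm_num]; exact pow_ne_zero _ h2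
      rw [show lam = ((2 + lam) ^ 2 - (2 - lam) ^ 2) / (8 : ℕ) by push_cast; field_simp; ring]
      exact div_mem (sub_mem (t1 ▸ h5 _ (mul_mem huH hvH)) (t2 ▸ h5 _ (mul_mem huH (inv_mem hvH))))
        (natCast_mem _ 8)
    have h7 : R.comap f = ⊤ := eq_top_iff.2 (hgen ▸ Subfield.closure_le.2 (by simpa using h6))
    obtain ⟨M, hM, ⟨e⟩⟩ := exists_sl_le_of_psl_le f _ h3
    obtain ⟨e'⟩ := nonempty_sl_equiv_of_card_eq (ι := Fin 2) (F := R) (K := F) (by
      rw [← Nat.card_congr (comapEquiv f h4).toEquiv, h7]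
      exact Nat.card_congr (Subfield.topEquiv (K := F)).toEquiv)
    rw [eq_top_iff, ← (Subgroup.card_eq_iff_eq_top M).1 (Nat.card_congr (e.trans e').toEquiv)]
    exact hM

/-- Let F be a finite field of odd characteristic and λ ≠ 0 an element generating F as a field. Then the lower and upper unitriangular matrices with off-diagonal entries 1 and λ generate SL_2(F), unless |F| = 9 and λ² = −1, in which case they generate a subgroup of order 120. -/
theorem result {F : Type*} [Field F] [Fintype F] (h2 : (2 : F) ≠ 0) (lam : F) (hlam : lam ≠ 0) (hgen : Subfield.closure ({lam} : Set F) = ⊤) : (Subgroup.closure {g : Matrix.SpecialLinearGroup (Fin 2) F | (g : Matrix (Fin 2) (Fin 2) F) = !![1, 0; 1, 1] ∨ (g : Matrix (Fin 2) (Fin 2) F) = !![1, lam; 0, 1]} = ⊤ ∧ ¬ (Fintype.card F = 9 ∧ lam ^ 2 = -1)) ∨ (Fintype.card F = 9 ∧ lam ^ 2 = -1 ∧ Nat.card ↥(Subgroup.closure {g : Matrix.SpecialLinearGroup (Fin 2) F | (g : Matrix (Fin 2) (Fin 2) F) = !![1, 0; 1, 1] ∨ (g : Matrix (Fin 2) (Fin 2) F)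 = !![1, lam; 0, 1]}) = 120) := by
  have e : {g : Matrix.SpecialLinearGroup (Fin 2) F | (g : Matrix (Fin 2) (Fin 2) F) = !![1, 0; 1, 1] ∨
      (g : Matrix (Fin 2) (Fin 2) F) = !![1, lam; 0, 1]} =
      {slMat (1 : F) 0 1 1 (by simp), slMat 1 lam 0 1 (by simp)} := by
    ext g
    exact ⟨Or.imp (fun h => Subtype.ext h) (fun h => Subtype.ext h),
      Or.imp (congrArg Subtype.val) (congrArg Subtype.val)⟩
  rw [e, ← Nat.card_eq_fintype_card]
  refine (main h2 lam hlam hgen).imp_left fun h => ⟨h, fun ⟨h9, hl⟩ => ?_⟩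
  have : CharP F 3 := charP_of_card_eq_prime_pow (f := 2) (by rwa [← Nat.card_eq_fintype_card])
  exact ne_top hl h

end Cfsg.Agent.S0801
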