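import Cfsg.Statements.S5886
import Cfsg.Agent.Lib.Max.C3

set_option autoImplicit false
open Cfsg

namespace Cfsg.Agent.S5886

open Cfsg.Lib.Forms Cfsg.Lib.Forms.Form Module



/-- Let F be a finite field, n a positive integer and r a prime that divides n with r < n. Let K be a subalgebra of the algebra of n × n matrices over F which is a field of degree r over F (commutative, every non-zero element invertible, of dimension r over F; it contains the scalars). Then the normaliser N of K in GL_n(F) — the invertible F-linear maps that are semilinear over the field K, a group of type ΓL_{n/r}(F_{q^r}) for |F| = q — is a maximal subgroup of GL_n(F), and N ∩ SL_n(F) is a maximal subgroup of SL_n(F). No lower bound on n is assumed. -/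
theorem result {F : Type*} [Field F]
    [Fintype F] (n r : ℕ) (hr : r.Prime) (hrn : r ∣ n) (hlt : r < n) (K : Subalgebra F (Matrix (Fin n) (Fin n) F))
    (hK : Cfsg.Geo.IsFieldSubalgebra r K) :
    IsCoatom (Cfsg.Geo.subalgebraNormalizer K) ∧
      Cfsg.Geo.IsMaximalIn (Cfsg.Geo.specialLinear (Fin n) F)
        (Cfsg.Geo.subalgebraNormalizer K ⊓ Cfsg.Geo.specialLinear (Fin n) F) := by
  have : NeZero n := ⟨by omega⟩
  obtain ⟨E, _, _, _, _, _, _, e, h1, h2, -, -, -, h3⟩ := exists_field hK
  have : Finite E := Module.finite_of_finite F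
  rw [Fintype.card_fin] at h2
  have h4 : 2 ≤ finrank E (Fin n → F) := by
    by_contra h
    have : finrank E (Fin n → F) ≤ 1 := by omega
    nlinarith
  have h5 := hr.two_le
  obtain ⟨a, ha⟩ := exists_not_mem_range (F := F) (K := E) (by omega)
  have h6 := not_slV_le_nK (V := Fin n → F) (by simp; omega) ha
  refine ⟨⟨fun h => h6 (by rw [← h3, h]; exact le_top), fun X hX => ?_⟩, isMaximalIn_map
    specialLinear_eq h3 h6 fun X h7 h8 => C3.main (by rwa [inf_comm]) (h1 ▸ hr) h4 h8⟩
  have h7 : nK F E (Fin n → F) ≤ X.comap (ofLin F (Fin n)) := h3 ▸ Subgroup.comap_mono hX.le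
  have h8 := C3.eq_top h7 (C3.main (inf_le_left.trans h7) (h1 ▸ hr) h4 fun h => hX.not_ge
    fun g hg => by
      rw [← ofLin_glEquiv g] at hg ⊢
      exact (h3.ge (h hg) :))
  refine eq_top_iff.2 fun g _ => ?_
  rw [← ofLin_glEquiv g]
  exact (h8.ge (Subgroup.mem_top _) :)

end Cfsg.Agent.S5886
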