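import Cfsg.Statements.S3333
import Cfsg.Agent.Lib.Block.Tri7

set_option autoImplicit false
open Cfsg

namespace Cfsg.Agent.S3333

open Cfsg.Lib Cfsg.Lib.Block Cfsg.Lib.Transfer Subgroup
set_option linter.style.haveILetI false

/-- Let G be a finite group with a Sylow 3-subgroup S of order 9 that is its own centralizer, with N_G(S)/S dihedral of order 8, and such that C_G(x) ≤ N_G(S) for every non-identity x in S. Then S is normal in G or G is isomorphic to the symmetric group of degree 6. -/
theorem result {G : Type*} [Group G] [Finite G]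
    (P : Sylow 3 G) (S : Subgroup G) (hSP : S = P) (hcard : Nat.card S = 9)
    (hC : Subgroup.centralizer (S : Set G) = S)
    (eN : Subgroup.normalizer (S : Set G) ⧸ S.subgroupOf (Subgroup.normalizer (S : Set G)) ≃* DihedralGroup 4)
    (hcent : ∀ x ∈ S, x ≠ 1 → Subgroup.centralizer ({x} : Set G) ≤ Subgroup.normalizer (S : Set G)) :
    S.Normal ∨ Nonempty (G ≃* Equiv.Perm (Fin 6)) := by
  subst hSP
  haveI : Fact (Nat.Prime 2) := ⟨Nat.prime_two⟩
  obtain ⟨Q⟩ : Nonempty (Sylow 2 (normalizer ((P : Subgroup G) : Set G))) := inferInstance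
  have h72 : Nat.card (normalizer ((P : Subgroup G) : Set G)) = 2 ^ 3 * 9 := by
    rw [card_eq_card_quotient_mul_card_subgroup ((P : Subgroup G).subgroupOf _), Nat.card_congr eN.toEquiv,
      Nat.card_congr (subgroupOfEquivOfLe le_normalizer).toEquiv, hcard, DihedralGroup.nat_card]; rfl
  let f := (eN.toMonoidHom.comp (QuotientGroup.mk' _)).comp (Q : Subgroup _).subtype
  have h8 := Small.card_sylow_subgroup_eq Q h72 (by norm_num)
  have hf : Function.Injective f := (injective_iff_map_eq_one f).2 fun a ha => by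
    have h1 : (a.1.1 : G) ∈ (P : Subgroup G) := (QuotientGroup.eq_one_iff a.1).1 (eN.injective (ha.trans (map_one eN).symm))
    have h2 : (a.1.1 : G) ^ 9 = 1 := congrArg Subtype.val (hcard ▸ pow_card_eq_one' (x := (⟨_, h1⟩ : (P : Subgroup G))))
    have h3 : a ^ 2 ^ 3 = 1 := (h8 ▸ pow_card_eq_one' (x := a) :)
    have h4 : a ^ (2 ^ 3 + 1) = 1 := Subtype.ext (Subtype.ext h2)
    rwa [pow_succ, h3, one_mul] at h4
  let e := MulEquiv.ofBijective f ((Nat.bijective_iff_injective_and_card f).2 ⟨hf, by rw [h8, DihedralGroup.nat_card]; rfl⟩)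
  obtain ⟨κ, h, e1⟩ := Tri.exists_md' ⟨sylowIn_top P, fun a ha b hb => (hC.ge hb a ha :), hcent⟩ hcard hC.le
    Q e
  exact e1 ▸ h.normal_or_sym

end Cfsg.Agent.S3333
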