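import Cfsg.Statements.S3330
import Cfsg.Agent.Lib.S8L.Init
import Cfsg.Agent.Lib.S8L.Dich
import Cfsg.Agent.Lib.S8L.CaseA
import Cfsg.Agent.Lib.S8L.One
import Cfsg.Agent.Lib.S8L.Exc2
-- import your own Cfsg.Agent.* helpers here

set_option autoImplicit false
open Cfsg

namespace Cfsg.Agent.S3330

/-- A 3-local characterization of the symmetric group of degree 8, with one exceptional configuration. Let G be a finite group whose Sylow 3-subgroup D is elementary abelian of order 9, generated by y and z, and suppose: (i) C_G(D) has order 18, N_G(D)/D is isomorphic to the direct product of a dihedral group of order 8 and a group of order 2, and N_G(D)/C_G(D) is dihedral of order 8; (ii) D is normal in C_G(y), C_G(y) has order 36 with every square lying in D, D is normal in N_G(⟨y⟩), and N_G(⟨y⟩) has order 72 with every square lying in D; (iii) C_G(z) is isomorphic to the direct product of a cyclic group of order 3 and Sym(5), and N_G(⟨z⟩) is isomorphic to Sym(3) × Sym(5). Then either G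 is isomorphic to the symmetric group of degree 8, or the generalized Fitting subgroup of G is a minimal normal subgroup isomorphic to Alt(5) × Alt(5) of index 4 with every square of G lying in it. -/
theorem result {G : Type*} [Group G] [Finite G]
    (P : Sylow 3 G) (D : Subgroup G) (hDP : D = P) (y z : G) (hgen : Subgroup.closure {y, z} = D)
    (hcomm : IsMulCommutative D) (hcard : Nat.card D = 9) (hexp : ∀ a ∈ D, a ^ 3 = 1)
    (hC : Nat.card (Subgroup.centralizer (D : Set G)) = 18)
    (eN : Subgroup.normalizer (D : Set G) ⧸ D.subgroupOf (Subgroup.normalizer (D : Set G)) ≃* DihedralGroup 4 × Multiplicative (ZMod 2))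
    [hcn : ((Subgroup.centralizer (D : Set G)).subgroupOf (Subgroup.normalizer (D : Set G))).Normal]
    (eNC : Subgroup.normalizer (D : Set G) ⧸ (Subgroup.centralizer (D : Set G)).subgroupOf (Subgroup.normalizer (D : Set G)) ≃* DihedralGroup 4)
    (hyn : (D.subgroupOf (Subgroup.centralizer ({y} : Set G))).Normal)
    (hycard : Nat.card (Subgroup.centralizer ({y} : Set G)) = 36)
    (hysq : ∀ g ∈ Subgroup.centralizer ({y} : Set G), g ^ 2 ∈ D)
    (Ny : Subgroup G) (hNy : Ny = Subgroup.normalizer (Subgroup.zpowers y : Set G))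
    (hyNn : (D.subgroupOf Ny).Normal) (hyNcard : Nat.card Ny = 72) (hyNsq : ∀ g ∈ Ny, g ^ 2 ∈ D)
    (eC : Subgroup.centralizer ({z} : Set G) ≃* Multiplicative (ZMod 3) × Equiv.Perm (Fin 5))
    (eL : Subgroup.normalizer (Subgroup.zpowers z : Set G) ≃* Equiv.Perm (Fin 3) × Equiv.Perm (Fin 5)) :
    Nonempty (G ≃* Equiv.Perm (Fin 8)) ∨
      ∃ N : Subgroup G, N.Normal ∧ Cfsg.generalizedFittingSubgroup G = N ∧
        Nonempty (N ≃* alternatingGroup (Fin 5) × alternatingGroup (Fin 5)) ∧
        (∀ K : Subgroup G, K.Normal → K ≤ N → K = ⊥ ∨ K = N) ∧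
        N.index = 4 ∧ ∀ g : G, g ^ 2 ∈ N := by
  have zD : z ∈ D := hgen ▸ Subgroup.subset_closure (by simp)
  have yD : y ∈ D := hgen ▸ Subgroup.subset_closure (by simp)
  have : Fact (Nat.Prime 3) := ⟨Nat.prime_three⟩
  have hS : Cfsg.Lib.Transfer.SylowIn 3 D ⊤ := hDP ▸ Cfsg.Lib.Transfer.sylowIn_top P
  have sπ := eNC.surjective.comp (QuotientGroup.mk'_surjective _)
  have hπ : ∀ g, (eNC.toMonoidHom.comp (QuotientGroup.mk' _)) g = 1 ↔ g.1 ∈ Subgroup.centralizer (D : Set G) :=
    fun g => (map_eq_one_iff _ eNC.injective).trans (QuotientGroup.eq_one_iff _)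
  obtain ⟨κ, u, rfl, h, ha⟩ := Cfsg.Lib.S8L.exists_cs hgen hcard (hexp y yD) (hexp z zD)
    (congrArg Subtype.val (hcomm.is_comm.comm ⟨y, yD⟩ ⟨z, zD⟩)) _ sπ hπ
    (fun g hg => ⟨pow_two g ▸ hysq g (Subgroup.mem_centralizer_singleton_iff.2 hg), fun d hd =>
      hyn.conj_mem ⟨d, Subgroup.mem_centralizer_singleton_iff.2
        (congrArg Subtype.val (hcomm.is_comm.comm ⟨d, hd⟩ ⟨y, yD⟩))⟩ hd ⟨g, Subgroup.mem_centralizer_singleton_iff.2 hg⟩⟩)
    (fun g hg => pow_two g ▸ hyNsq g (hNy ▸ hg)) eL
  rcases h.dich hS _ sπ hπ with hB | ⟨ψ, h1, h2⟩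
  · rcases ha with ha | ha
    · exact .inl ((h.caseB ha hB).elim fun _ hs => h.sym8 ha hs hS)
    · exact .inr ((h.cw ha hB).elim fun _ c => c.main)
  · rcases ha with ha | ha
    · exact .inl ((h.caseA (.inl rfl) ha ψ h1 h2).2.elim fun _ hs => h.sym8 ha hs hS)
    · exact absurd (h.caseA (.inr rfl) ha ψ h1 h2).1 (by decide +kernel)

end Cfsg.Agent.S3330
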