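import Cfsg.Statements.S0223
import Cfsg.Agent.Lib.Invol.Strong

set_option autoImplicit false
open Cfsg

namespace Cfsg.Agent.S0223
open Cfsg.Lib.Invol


/-- Let H be a proper subgroup of even order of the finite group G. Then H is strongly embedded if and only if (i) C_G(t) ≤ H for every involution t of H and (ii) H controls fusion of its involutions: involutions of H conjugate in G are conjugate in H. -/
theorem result {G : Type*} [Group G] [Finite G] (H : Subgroup G) (hH : H ≠ ⊤) (heven : Even (Nat.card H)) : Cfsg.IsStronglyEmbedded H ↔ ((∀ t ∈ H, orderOf t = 2 → Subgroup.centralizer ({t} : Set G) ≤ H) ∧ (∀ t ∈ H, ∀ s ∈ H, orderOf t = 2 → orderOf s = 2 → IsConj t s → ∃ h ∈ H, h * t * h⁻¹ = s)) := by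
  constructor
  · intro h
    exact ⟨fun t htH ht g hg => se_mem_of_commute h ht htH (mem_cent.mp hg),
      fun t htH s hsH ht hs _ => se_exists_conj h ht hs htH hsH⟩
  · rintro ⟨h1, h2⟩
    refine stronglyEmbedded_iff.mpr ⟨hH, heven, fun t g ht htH hg => ?_⟩
    obtain ⟨h, hh, he⟩ := h2 t htH _ hg ht ((orderOf_conj g t).trans ht) (isConj_conj g t)
    have h3 : h⁻¹ * g ∈ H := by
      refine h1 t htH ht (mem_cent.mpr ?_)
      calc h⁻¹ * g * t = h⁻¹ * (g * t * g⁻¹) * g := by group
        _ = t * (h⁻¹ * g) := by rw [← he]; group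
    simpa using H.mul_mem hh h3

end Cfsg.Agent.S0223
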