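import Cfsg.Statements.S2090
import Cfsg.Agent.Lib.Comp.U43x.Mu
import Cfsg.Agent.Lib.Comp.U43x.Cov
import Cfsg.Agent.Lib.Comp.U43x.Mat

set_option autoImplicit false
open Cfsg

namespace Cfsg.Agent.S2090

open Cfsg.Lib.Comp Cfsg.Lib.MatB


/-- Exceptional Schur multiplier: PSU₄(3), realised over the field with 9 elements, has Schur multiplier isomorphic to the product of cyclic groups of orders 4, 3 and 3 (order 36, not cyclic; here the Schur multiplier is described through stem extensions, as in the definitions). -/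
theorem result {F : Type*} [Field F] [Fintype F] (hF : Fintype.card F = 9) : Cfsg.HasSchurMultiplier (Cfsg.PSU 4 F 3) (Multiplicative (ZMod 4 × ZMod 3 × ZMod 3)) := by
  obtain ⟨e⟩ := U43x.iso hF
  have := U43x.nets_ok.finite U43x.L
  exact Cfsg.Lib.Mult.mult_congr_left (MB2.mult3 (l := 4) (m := 3) (r := 210) (i := 7) U43x.Mu_mb (by norm_num)
    (by rw [U43x.card]; norm_num) U43x.cover (s := 3) (t := 1) (by norm_num)) e

end Cfsg.Agent.S2090
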