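import Cfsg.Statements.S1337
import Cfsg.Agent.Lib.PGrp.TwoMax

set_option autoImplicit false
open Cfsg

namespace Cfsg.Agent.S1337

open Cfsg.Lib.PGrp Subgroup
open scoped commutatorElement

/-- Let P be a finite p-group of p-rank greater than 2. Then P has a normal elementary abelian subgroup U of order p², and for every elementary abelian X ≤ P with |X| ≥ p²: X is joined to U by a chain of pairwise commuting elementary abelian subgroups of order ≥ p² if and only if C_P(X) has p-rank greater than 2. -/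
theorem result {P : Type*} [Group P] [Finite P] (p : ℕ) [Fact p.Prime] (hP : IsPGroup p P) (hrk : ¬ Cfsg.PRankLE p 2 P) : ∃ U : Subgroup P, U.Normal ∧ Cfsg.IsElementaryAbelian p U ∧ Nat.card ↥U = p ^ 2 ∧ ∀ X : Subgroup P, Cfsg.IsElementaryAbelian p X → p ^ 2 ≤ Nat.card ↥X → (Relation.ReflTransGen (fun A B : Subgroup P => Cfsg.IsElementaryAbelian p A ∧ p ^ 2 ≤ Nat.card ↥A ∧ Cfsg.IsElementaryAbelian p B ∧ p ^ 2 ≤ Nat.card ↥B ∧ ∀ a ∈ A, ∀ b ∈ B, a * b = b * a) X U ↔ ¬ Cfsg.PRankLE p 2 ↥(Subgroup.centralizer (X : Set P))) := by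
  have hp := (Fact.out : p.Prime)
  obtain ⟨U, hUn, hU, hU2⟩ := exists_normal_elem_sq_of_rank hP hrk
  have hi := index_centralizer_le_of_card_le_sq hP U hU2.le
  have key : ∀ B : Subgroup P, Nat.card B = p ^ 3 → p ^ 2 ≤ Nat.card ↥(B ⊓ centralizer (U : Set P)) := fun B h => by
    have := (card_le_card_inf_mul_index (centralizer (U : Set P)) B).trans (Nat.mul_le_mul_left _ hi)
    rw [h, pow_succ] at this
    exact Nat.le_of_mul_le_mul_right this hp.pos
  have hone : ∀ {X Y : Subgroup P}, PRankLE p 2 (centralizer (X : Set P)) → IsElementaryAbelian p X →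
      p ^ 2 ≤ Nat.card X → IsElementaryAbelian p Y → p ^ 2 ≤ Nat.card Y → Y ≤ centralizer (X : Set P) → Y = X :=
    fun {X Y} h hX hX2 hY hY2 hc => by
      have h1 := pRankLE_subgroup_iff.1 h _ (sup_le (le_centralizer_iff_isMulCommutative.2 hX.1) hc)
        (isElementaryAbelian_sup hX hY hc)
      exact (eq_of_le_of_card_le le_sup_right (h1.trans hY2)).trans
        (eq_of_le_of_card_le le_sup_left (h1.trans hX2)).symm
  refine ⟨U, hUn, hU, hU2, fun X hX hX2 => ⟨fun h hr => ?_, fun h => ?_⟩⟩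
  · obtain rfl : U = X := by
      clear key hi hU2 hU hUn
      induction h with
      | refl => rfl
      | tail _ h ih => subst ih; exact hone hr hX hX2 h.2.2.1 h.2.2.2.1 fun b hb a ha => h.2.2.2.2 a ha b hb
    obtain ⟨B, hB, hB3⟩ := not_pRankLE_iff.1 hrk
    have h1 := hone hr hU hU2.ge (isElementaryAbelian_of_le hB inf_le_left) (key B hB3) inf_le_right
    have h2 := pRankLE_subgroup_iff.1 hr B (le_centralizer_iff.1 ((h1.ge.trans inf_le_left).trans
      (le_centralizer_iff_isMulCommutative.2 hB.1))) hB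
    exact (Nat.pow_lt_pow_right hp.one_lt (by norm_num)).not_ge (hB3 ▸ h2)
  · obtain ⟨B, hBX, hB, hB3⟩ := not_pRankLE_subgroup_iff.1 h
    have h1 := isElementaryAbelian_of_le hB (inf_le_left : B ⊓ centralizer (U : Set P) ≤ B)
    exact .head ⟨hX, hX2, h1, key B hB3, fun a ha b hb => hBX hb.1 a ha⟩
      (.single ⟨h1, key B hB3, hU, hU2.ge, fun a ha b hb => (ha.2 b hb).symm⟩)

end Cfsg.Agent.S1337
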