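import Cfsg.Statements.S4377


set_option autoImplicit false
open Cfsg

namespace Cfsg.Agent.S4377

theorem aux {G : Type*} [Group G] [Finite G] {n : ℕ} (hn : n ≠ 0) :
    Nat.card {g : G // g ^ n = 1} = ∑ d ∈ n.divisors, Nat.card {g : G // orderOf g = d} := by
  classical
  have := Fintype.ofFinite G
  simp only [Nat.card_eq_fintype_card, Fintype.card_subtype]
  convert (sum_card_orderOf_eq_card_pow_eq_one (G := G) hn).symm

theorem aux0 {G : Type*} [Group G] [Finite G] : Nat.card {g : G // orderOf g = 0} = 0 := by
  have : IsEmpty {g : G // orderOf g = 0} := ⟨fun g => (orderOf_pos g.1).ne' g.2⟩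
  exact Nat.card_of_isEmpty

theorem aux1 {G : Type*} [Group G] [Finite G] {n : ℕ} (hn : n ≠ 0) (hd : Nat.card G ∣ n) :
    Nat.card {g : G // g ^ 0 = 1} = Nat.card {g : G // g ^ n = 1} :=
  Nat.card_congr (Equiv.subtypeEquivRight fun g => by
    simpa using orderOf_dvd_iff_pow_eq_one.1 ((orderOf_dvd_natCard g).trans hd))

/-- Two finite groups have the same number of elements of each order if and only if, for every n, they have the same number of elements g with gⁿ = 1. -/
theorem result {G H : Type*} [Group G] [Finite G] [Group H] [Finite H] :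
    (∀ n : ℕ, Nat.card {g : G // orderOf g = n} = Nat.card {h : H // orderOf h = n}) ↔
      ∀ n : ℕ, Nat.card {g : G // g ^ n = 1} = Nat.card {h : H // h ^ n = 1} := by
  constructor
  · intro h n
    have key : ∀ n, n ≠ 0 → Nat.card {g : G // g ^ n = 1} = Nat.card {h : H // h ^ n = 1} :=
      fun n hn => by rw [aux hn, aux hn]; exact Finset.sum_congr rfl fun d _ => h d
    rcases eq_or_ne n 0 with rfl | hn
    · have hn : Nat.card G * Nat.card H ≠ 0 := mul_ne_zero Nat.card_pos.ne' Nat.card_pos.ne'
      rw [aux1 hn (dvd_mul_right _ _), aux1 hn (dvd_mul_left _ _), key _ hn]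
    · exact key n hn
  · intro h n
    induction n using Nat.strong_induction_on with
    | _ n ih =>
      rcases eq_or_ne n 0 with rfl | hn
      · rw [aux0, aux0]
      have := h n
      rw [aux hn, aux hn, ← Nat.insert_self_properDivisors hn, Finset.sum_insert Nat.self_notMem_properDivisors,
        Finset.sum_insert Nat.self_notMem_properDivisors,
        Finset.sum_congr rfl fun d hd => ih d (Nat.mem_properDivisors.1 hd).2] at this
      omega

end Cfsg.Agent.S4377
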