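import Cfsg.Statements.S0244
import Mathlib

set_option autoImplicit false
open Cfsg

namespace Cfsg.Agent.S0244

/-- Sp_2 = SL_2: a matrix on Fin 1 ⊕ Fin 1 lies in Mathlib's symplectic group iff its determinant is 1. -/
theorem result {R : Type*} [CommRing R] (A : Matrix (Fin 1 ⊕ Fin 1) (Fin 1 ⊕ Fin 1) R) : A ∈ Matrix.symplecticGroup (Fin 1) R ↔ A.det = 1 := by
  refine ⟨SymplecticGroup.det_eq_one, fun h => ?_⟩
  rw [← Matrix.fromBlocks_toBlocks A] at h ⊢
  rw [SymplecticGroup.fromBlocks_mem_iff]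
  have hdet : ∀ B C D E : Matrix (Fin 1) (Fin 1) R,
      (Matrix.fromBlocks B C D E).det = B 0 0 * E 0 0 - C 0 0 * D 0 0 := by
    intro B C D E
    rw [← Matrix.det_reindex_self (finSumFinEquiv (m := 1) (n := 1)), Matrix.det_fin_two]
    rfl
  rw [hdet] at h
  refine ⟨?_, ?_, ?_⟩
  · ext i j; fin_cases i; fin_cases j; simp [Matrix.mul_apply, mul_comm]
  · ext i j; fin_cases i; fin_cases j; simp [Matrix.mul_apply, mul_comm]
  · ext i j; fin_cases i; fin_cases j; simp [Matrix.mul_apply, ← h, mul_comm]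

end Cfsg.Agent.S0244
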