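import Cfsg.Statements.S0281
import Cfsg.Agent.Lib.Forms.Ext
import Cfsg.Agent.S0244

set_option autoImplicit false
open Cfsg

namespace Cfsg.Agent.S0281

open Cfsg.Lib.Forms Module Matrix



/-- SU_2(q) is isomorphic to SL_2(q). -/
theorem result {F K : Type*} [Field F] [Fintype F] [Field K] [Fintype K] {q : ℕ} (hF : Fintype.card F = q ^ 2) (hK : Fintype.card K = q) : Nonempty (Cfsg.SU 2 F q ≃* Matrix.SpecialLinearGroup (Fin 2) K) := by
  obtain ⟨_, σ, h, hK', h2⟩ := exists_isConj_algebra hF hK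
  obtain ⟨θ, h0, hθ⟩ := h.exists_trace_zero
  obtain ⟨φ, h1, -⟩ := exists_symp_hom_su h hK' hθ 1
  have hD := hermSymp_nondeg h hθ h0 1
  obtain ⟨e, he⟩ := Herm.iso_std hD (finrank_plus 1)
  have := Form.finite_isom (D := hermSymp h hθ 1)
  have h3 := Herm.card_ker_det hD (by simp)
  rw [finrank_plus] at h3
  have h4 : Function.Bijective φ := h1.bijective_of_nat_card_le (by
    rw [Symp.card_isom (fSymp_nondeg 1) (finrank_plus 1), hK']
    refine Nat.le_of_mul_le_mul_left (c := q + 1) ?_ (by omega)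
    rw [h3]; simp [guOrder, spOrder, Finset.prod_range_succ]; ring_nf; rfl)
  let e1 : SpecialLinearGroup (Fin 1 ⊕ Fin 1) K ≃* symplecticGroup (Fin 1) K :=
    { toFun := fun g => ⟨g.1, (S0244.result _).2 g.2⟩
      invFun := fun g => ⟨g.1, (S0244.result _).1 g.2⟩
      left_inv := fun _ => rfl, right_inv := fun _ => rfl, map_mul' := fun _ _ => rfl }
  exact ⟨(suEquiv h 2).trans ((subgroupEquivOfIff (Form.isomCongr e he) _ _ fun g => by
    simp [Form.det_isomCongr]).symm.trans ((MulEquiv.ofBijective φ h4).symm.trans ((spEquiv K 1).symm.trans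
      (e1.symm.trans (Lib.Linear.slReindex finSumFinEquiv)))))⟩

end Cfsg.Agent.S0281
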