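import Cfsg.Statements.S3377
import Cfsg.Agent.Lib.Linear.Pres
import Cfsg.Agent.Lib.Linear.Triangle

set_option autoImplicit false
open Cfsg

namespace Cfsg.Agent.S3377

open Cfsg.Lib.Linear

/-- The alternating group of degree 5 has the presentation ⟨x, y | x³ = 1, y⁵ = 1, (xy)² = 1⟩: the group so presented is isomorphic to Alt(5). -/
theorem result :
    Nonempty (PresentedGroup ({FreeGroup.of (0 : Fin 2) ^ 3, FreeGroup.of (1 : Fin 2) ^ 5,
        (FreeGroup.of (0 : Fin 2) * FreeGroup.of 1) ^ 2} : Set (FreeGroup (Fin 2))) ≃* alternatingGroup (Fin 5)) := by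
  set R : Set (FreeGroup (Fin 2)) := {FreeGroup.of (0 : Fin 2) ^ 3, FreeGroup.of (1 : Fin 2) ^ 5,
        (FreeGroup.of (0 : Fin 2) * FreeGroup.of 1) ^ 2}
  have h1 := lift_of_eq_one (R := R) (Or.inl rfl)
  have h2 := lift_of_eq_one (R := R) (Or.inr (Or.inl rfl))
  have h3 := lift_of_eq_one (R := R) (Or.inr (Or.inr rfl))
  simp only [map_pow, map_mul, FreeGroup.lift_apply_of] at h1 h2 h3
  obtain ⟨φ, hx, hy⟩ := exists_hom_A5 (G := PresentedGroup R)
    (x := PresentedGroup.of 0 * PresentedGroup.of 1) (y := (PresentedGroup.of 0)⁻¹)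
    (by rw [← sq, h3]) (by rw [inv_pow, h1, inv_one]) (by rw [conj_pow, h2]; simp)
  have hR : ∀ r ∈ R, FreeGroup.lift ![a5y⁻¹, a5y * a5x] r = 1 := by
    rintro _ (rfl | rfl | rfl) <;> simp only [map_pow, map_mul, FreeGroup.lift_apply_of] <;> decide
  haveI := alternatingGroup.isSimpleGroup (α := Fin 5) (by simp)
  refine ⟨(MulEquiv.ofBijective φ ⟨injective_of_simple φ (v := a5x) fun h => ?_,
    hom_surjective_of_closure (PresentedGroup.closure_range_of R) φ fun i => ?_⟩).symm⟩
  · have := congrArg (PresentedGroup.toGroup hR) (hx.symm.trans h)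
    simp only [map_mul, PresentedGroup.toGroup.of, map_one] at this
    exact absurd this (by decide)
  · fin_cases i
    · exact ⟨a5y⁻¹, by simp [hy]⟩
    · exact ⟨a5y * a5x, by simp [hx, hy]⟩

end Cfsg.Agent.S3377
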