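import Cfsg.Statements.S2288
import Cfsg.Agent.Lib.Pres.AltN
import Cfsg.Agent.Lib.Pres.SLc

set_option autoImplicit false
open Cfsg

namespace Cfsg.Agent.S2288

open Cfsg.Lib.Pres

/-- For every finite field F and n ≥ 4: SL_n(F) has a presentation with 7 generators and at most 25 relations, and PSL_n(F) one with 7 generators and at most 26 relations; moreover SL_4(F) has one with 6 generators and at most 21 relations and SL_5(F) one with 6 generators and at most 22 relations. -/
theorem result {F : Type*} [Field F] [Fintype F] (n : ℕ) (hn : 4 ≤ n) :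
    (∃ rels : Finset (FreeGroup (Fin 7)), rels.card ≤ 25 ∧ Nonempty (PresentedGroup (↑rels : Set (FreeGroup (Fin 7))) ≃* Matrix.SpecialLinearGroup (Fin n) F)) ∧ (∃ rels : Finset (FreeGroup (Fin 7)), rels.card ≤ 26 ∧ Nonempty (PresentedGroup (↑rels : Set (FreeGroup (Fin 7))) ≃* Matrix.ProjectiveSpecialLinearGroup (Fin n) F)) ∧
    (∃ rels : Finset (FreeGroup (Fin 6)), rels.card ≤ 21 ∧ Nonempty (PresentedGroup (↑rels : Set (FreeGroup (Fin 6))) ≃* Matrix.SpecialLinearGroup (Fin 4) F)) ∧ (∃ rels : Finset (FreeGroup (Fin 6)), rels.card ≤ 22 ∧ Nonempty (PresentedGroup (↑rels : Set (FreeGroup (Fin 6))) ≃* Matrix.SpecialLinearGroup (Fin 5) F)) := by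
  have h : Prs (Matrix.SpecialLinearGroup (Fin n) F) 7 25 := by
    obtain rfl | rfl | h : n = 4 ∨ n = 5 ∨ 6 ≤ n := by omega
    · exact prs_SL4.le (by decide) (by decide)
    · exact prs_SL5.le (by decide) (by decide)
    obtain ⟨m, rfl⟩ : ∃ m, n = m + 1 := ⟨n - 1, by omega⟩
    exact (prs_SL_large (by omega) (prs_alt_sym (by omega)).1).le (by decide) (by decide)
  exact ⟨h.out, h.quot_center.out, (prs_SL4.le (by decide) (by decide)).out,
    (prs_SL5.le (by decide) (by decide)).out⟩

end Cfsg.Agent.S2288
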