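import Cfsg.Statements.S2403
import Cfsg.Agent.Lib.Linear.Tv

set_option autoImplicit false
open Cfsg

namespace Cfsg.Agent.S2403

open Matrix Cfsg.Lib.Linear

section
variable {K : Type*} [Field K] {n : ℕ} {w : SpecialLinearGroup (Fin (n + 1)) K}
  (hw : (w : Matrix (Fin (n + 1)) (Fin (n + 1)) K) =
    Matrix.of (fun i j => if j.val = i.val + 1 then 1 else if i.val = n ∧ j.val = 0 then (-1) ^ n else 0))
include hw

theorem exists_sign : ∃ ε : Fin (n + 1) → K, (∀ i, ε i * ε i = 1) ∧
    ∀ i j, (w : Matrix (Fin (n + 1)) (Fin (n + 1)) K) i j = if j = i + 1 then ε i else 0 := by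
  refine ⟨fun i => if i.1 = n then (-1) ^ n else 1, fun i => by dsimp only; split_ifs <;> simp [← mul_pow], fun i j => ?_⟩
  have := j.2
  simp only [hw, of_apply, Fin.ext_iff (a := j), Fin.val_add_one, Fin.ext_iff (a := i), Fin.val_last]
  split_ifs <;> first | rfl | omega

theorem eq_top {H : Subgroup (SpecialLinearGroup (Fin (n + 1)) K)} (h1 : w ∈ H)
    (h2 : ∀ h c, SpecialLinearGroup.transvection (i := 0) (j := 1) h c ∈ H) : H = ⊤ := by
  obtain ⟨ε, h3, h4⟩ := exists_sign hw
  have h5 : ∀ (m : ℕ) h c, SpecialLinearGroup.transvection (i := Fin.ofNat (n + 1) m) (j := Fin.ofNat (n + 1) m + 1) h c ∈ H := by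
    intro m
    induction m with
    | zero => simpa using h2
    | succ m ih =>
      have : Fin.ofNat (n + 1) (m + 1) = Fin.ofNat (n + 1) m + 1 := by simp [Fin.ext_iff, Fin.val_add]
      rw [this]
      generalize Fin.ofNat (n + 1) m = a at ih
      intro h c
      convert mul_mem (mul_mem (inv_mem h1) (ih (by simpa using h) (ε a * c * ε (a + 1)))) h1 using 1
      rw [mul_assoc, eq_inv_mul_iff_mul_eq]
      refine Subtype.ext ?_
      simp only [sl_coe_mul, coe_transvection_eq, mul_add, add_mul, mul_one, one_mul, mul_vecMulVec, vecMulVec_mul,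
        add_right_inj]
      ext i j
      simp only [vecMulVec_apply, mulVec_single_one, single_vecMul, col_apply, h4, add_left_inj, Pi.smul_apply, row_apply,
        Pi.single_apply, smul_eq_mul]
      by_cases a1 : i = a <;> by_cases a2 : j = a + 1 + 1 <;> simp [a1, a2, eq_comm (a := a + 1), eq_comm (a := a) (b := i), mul_assoc, h3]
  have h6 : ∀ (i : Fin (n + 1)) (m : ℕ), m < n → ∀ h c,
      SpecialLinearGroup.transvection (i := i) (j := i + Fin.ofNat (n + 1) (m + 1)) h c ∈ H := by
    intro i m
    have h7 : ∀ (i : Fin (n + 1)) h c, SpecialLinearGroup.transvection (i := i) (j := i + 1) h c ∈ H := fun i => by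
      simpa using h5 i
    induction m with
    | zero => intro _; simpa using h7 i
    | succ m ih =>
      intro hm
      have : i + Fin.ofNat (n + 1) (m + 1 + 1) = i + Fin.ofNat (n + 1) (m + 1) + 1 := by
        simp [Fin.ext_iff, Fin.val_add, add_assoc]
      rw [this]
      intro h c
      have a1 : i ≠ i + Fin.ofNat (n + 1) (m + 1) := by simp [Fin.ext_iff, Nat.mod_eq_of_lt (show m + 1 < n + 1 by omega)]
      have a2 : i + Fin.ofNat (n + 1) (m + 1) ≠ i + Fin.ofNat (n + 1) (m + 1) + 1 := by simp; omega
      rw [← mul_one c, ← sl_commutator_transvection h a1 a2]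
      exact mul_mem (mul_mem (mul_mem (ih (by omega) _ _) (h7 _ _ _)) (inv_mem (ih (by omega) _ _))) (inv_mem (h7 _ _ _))
  refine sl_eq_top_of_transvection_mem H fun i j hij c => ?_
  obtain ⟨m, rfl⟩ : ∃ m, j = i + m := ⟨j - i, by simp⟩
  have h7 : m.1 ≠ 0 := fun h => hij (by simp [Fin.val_eq_zero_iff.mp h])
  have := h6 i (m.1 - 1) (by omega)
  rw [Nat.sub_add_cancel (by omega), Fin.ofNat_val_eq_self] at this
  exact this _ _

end

/-- Explicit two-element generation of `PSL_{n+1}(K)` over the fields with two or three elements: with `x = 1 + E₁₂` and `w` the monomial matrix with entries `1` in positions `(i, i+1)` and `(−1)^n` in position `(n+1, 1)`, the elements `x` and `w` generate `SL_{n+1}(K)` modulo its centre. -/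
theorem result {K : Type*} [Field K] [Fintype K] (hK : Fintype.card K ≤ 3) (n : ℕ) (hn : 1 ≤ n)
    (x w : Matrix.SpecialLinearGroup (Fin (n + 1)) K)
    (hx : (x : Matrix (Fin (n + 1)) (Fin (n + 1)) K) = Matrix.transvection (0 : Fin (n + 1)) (1 : Fin (n + 1)) 1)
    (hw : (w : Matrix (Fin (n + 1)) (Fin (n + 1)) K) =
      Matrix.of (fun i j => if j.val = i.val + 1 then 1 else if i.val = n ∧ j.val = 0 then (-1) ^ n else 0)) :
    Subgroup.closure ({x, w} : Set (Matrix.SpecialLinearGroup (Fin (n + 1)) K)) ⊔
      Subgroup.center (Matrix.SpecialLinearGroup (Fin (n + 1)) K) = ⊤ := by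
  classical
  refine top_le_iff.mp ((eq_top hw (Subgroup.subset_closure (by simp)) fun h c => ?_).ge.trans le_sup_left)
  have h1 : SpecialLinearGroup.transvection h (1 : K) ∈ Subgroup.closure {x, w} :=
    Subgroup.subset_closure (.inl (Subtype.ext hx.symm))
  have h2 : c = 0 ∨ c = 1 ∨ c = -1 := by
    by_contra h2
    push Not at h2
    have := FiniteField.pow_card_sub_one_eq_one c h2.1
    have h3 := Fintype.one_lt_card (α := K)
    obtain h4 | h4 : Fintype.card K = 2 ∨ Fintype.card K = 3 := by omega
    all_goals simp [h4, h2] at this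
  rcases h2 with rfl | rfl | rfl
  · rw [SpecialLinearGroup.transvection_coeff_zero]; exact one_mem _
  · exact h1
  · rw [← SpecialLinearGroup.transvection_inv]; exact inv_mem h1

end Cfsg.Agent.S2403
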