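import Cfsg.Statements.S2402
import Cfsg.Agent.S2403
import Cfsg.Agent.Lib.Linear.PSL2Small

set_option autoImplicit false
open Cfsg

namespace Cfsg.Agent.S2402

open Matrix Cfsg.Lib.Linear

theorem conj_tv {K : Type*} [Field K] {ι : Type} [Fintype ι] [DecidableEq ι] {g : SpecialLinearGroup ι K} {d : ι → K}
    (hg : (g : Matrix ι ι K) = diagonal d) {i j : ι} (hij : i ≠ j) {β : K} (h : d i = β * d j) (c : K) :
    g * SpecialLinearGroup.transvection hij c = SpecialLinearGroup.transvection hij (β * c) * g := by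
  refine Subtype.ext ?_
  simp only [sl_coe_mul, hg, SpecialLinearGroup.transvection_coe, mul_add, add_mul, mul_one, one_mul, add_right_inj]
  ext a b
  simp only [diagonal_mul, mul_diagonal, single_apply]
  split_ifs with h'
  · rw [← h'.1, ← h'.2, h]; ring
  · simp

/-- Explicit two-element generation of `PSL_{n+1}(K)` for a finite field `K` with more than three elements: let `k` generate the multiplicative group of `K`, `h = diag(k, k⁻¹, 1, …, 1)`, `x = 1 + E₁₂` (the elementary transvection) and `w` the monomial matrix with entries `1` in positions `(i, i+1)` and `(−1)^n` in position `(n+1, 1)`. Then `h` and `x·w` generate `SL_{n+1}(K)` modulo its centre: the subgroup they generate together with the centre is everything. -/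
theorem result {K : Type*} [Field K] [Fintype K] (hK : 3 < Fintype.card K) (n : ℕ) (hn : 1 ≤ n)
    (k : Kˣ) (hk : ∀ u : Kˣ, u ∈ Subgroup.zpowers k)
    (h x w : Matrix.SpecialLinearGroup (Fin (n + 1)) K)
    (hh : (h : Matrix (Fin (n + 1)) (Fin (n + 1)) K) =
      Matrix.diagonal (fun i => if i.val = 0 then (k : K) else if i.val = 1 then ((k⁻¹ : Kˣ) : K) else 1))
    (hx : (x : Matrix (Fin (n + 1)) (Fin (n + 1)) K) = Matrix.transvection (0 : Fin (n + 1)) (1 : Fin (n + 1)) 1)
    (hw : (w : Matrix (Fin (n + 1)) (Fin (n + 1)) K) =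
      Matrix.of (fun i j => if j.val = i.val + 1 then 1 else if i.val = n ∧ j.val = 0 then (-1) ^ n else 0)) :
    Subgroup.closure ({h, x * w} : Set (Matrix.SpecialLinearGroup (Fin (n + 1)) K)) ⊔
      Subgroup.center (Matrix.SpecialLinearGroup (Fin (n + 1)) K) = ⊤ := by
  classical
  have h01 : (0 : Fin (n + 1)) ≠ 1 := by simp; omega
  obtain rfl : x = SpecialLinearGroup.transvection h01 1 := Subtype.ext hx
  set t := SpecialLinearGroup.transvection (F := K) h01 with ht
  set H := Subgroup.closure {h, t 1 * w}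
  have a1 : h ∈ H := Subgroup.subset_closure (by simp)
  have a2 : t 1 * w ∈ H := Subgroup.subset_closure (by simp)
  have v1 : (1 : Fin (n + 1)).1 = 1 := by simp [Nat.mod_eq_of_lt (show 1 < n + 1 by omega)]
  have hk2 : (k : K) ^ 2 ≠ 1 := fun h2 => by
    have := orderOf_le_of_pow_eq_one two_pos (Units.ext h2 : k ^ 2 = 1)
    rw [orderOf_eq_card_of_forall_mem_zpowers hk, Nat.card_units, Nat.card_eq_fintype_card] at this
    omega
  have hk1 : (k : K) ≠ 1 := fun h => hk2 (by simp [h])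
  obtain ⟨ε, -, h4⟩ := S2403.exists_sign hw
  generalize hd : (fun i : Fin (n + 1) => if i.val = 0 then (k : K) else if i.val = 1 then ((k⁻¹ : Kˣ) : K) else 1) = d at hh
  have b1 : ((w * h * w⁻¹ : Matrix.SpecialLinearGroup (Fin (n + 1)) K) : Matrix _ _ K) = diagonal fun i => d (i + 1) := by
    have : (w : Matrix _ _ K) * diagonal d = (diagonal fun i => d (i + 1)) * (w : Matrix _ _ K) := by
      ext i j; rw [mul_diagonal, diagonal_mul, h4]; split_ifs with h <;> simp [h, mul_comm]
    rw [sl_coe_mul, sl_coe_mul, hh, this, mul_assoc, sl_coe_mul_inv, mul_one]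
  have b2 := conj_tv hh h01 (β := k ^ 2) (by simp [← hd, v1, pow_two, show n ≠ 0 by omega, show 0 < n by omega])
  obtain ⟨β, hβ, b3⟩ : ∃ β ≠ 1, d (0 + 1) = β * d (1 + 1) := by
    rcases hn.eq_or_lt with rfl | hn
    · exact ⟨(k ^ 2)⁻¹, by simpa using hk2, by simp [← hd, pow_two]⟩
    · exact ⟨(k : K)⁻¹, by simpa using hk1, by
        have v2 : (1 + 1 : Fin (n + 1)).1 = 2 := by rw [Fin.val_add, v1, Nat.mod_eq_of_lt (by omega)]
        simp only [← hd, zero_add, v1, v2]; simp⟩
  have b4 := conj_tv b1 h01 b3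
  have b5 : h * (w * h * w⁻¹) = w * h * w⁻¹ * h := Subtype.ext (by
    rw [sl_coe_mul h, sl_coe_mul _ h, b1, hh, diagonal_mul_diagonal, diagonal_mul_diagonal]; simp [mul_comm])
  have b6 := mul_mem (mul_mem a2 a1) (inv_mem a2)
  rw [show t 1 * w * h * (t 1 * w)⁻¹ = t 1 * (w * h * w⁻¹) * (t 1)⁻¹ by group] at b6
  generalize w * h * w⁻¹ = g at b4 b5 b6
  have c0 : ∀ a b, t (a + b) = t a * t b := SpecialLinearGroup.transvection_add h01
  have c0' : ∀ a, (t a)⁻¹ = t (-a) := SpecialLinearGroup.transvection_inv h01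
  have c1 : t (((k : K) ^ 2 - 1) * (1 - β)) ∈ H := by
    convert mul_mem (mul_mem (mul_mem a1 b6) (inv_mem a1)) (inv_mem b6) using 1
    rw [show h * (t 1 * g * (t 1)⁻¹) * h⁻¹ * (t 1 * g * (t 1)⁻¹)⁻¹ =
      h * t 1 * h⁻¹ * (h * g * h⁻¹) * (h * (t 1)⁻¹ * h⁻¹ * t 1) * g⁻¹ * (t 1)⁻¹ by group, c0', b2, b2, b5]
    simp only [mul_inv_cancel_right]
    rw [← c0, mul_assoc _ g, b4, ← mul_assoc, mul_inv_cancel_right, ← c0, ← c0]
    congr 1; ring
  have c2 : ∀ (j : ℕ) c, t c ∈ H → t (((k : K) ^ j) ^ 2 * c) ∈ H := fun j => by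
    induction j with
    | zero => simp
    | succ j ih =>
      intro c hc
      have := mul_mem (mul_mem a1 (ih c hc)) (inv_mem a1)
      rw [b2, mul_inv_cancel_right] at this
      convert this using 2; ring
  have c3 : ∀ a c : K, t c ∈ H → t (a ^ 2 * c) ∈ H := fun a c hc => by
    by_cases ha : a = 0
    · simpa [ha, t] using one_mem H
    obtain ⟨j, hj⟩ := (mem_powers_iff_mem_zpowers.mpr (hk (Units.mk0 a ha)) :)
    simpa [← Units.val_pow_eq_pow_val, show k ^ j = _ from hj] using c2 j c hc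
  have c4 : ∀ c, t c ∈ H := fun c => by
    have h0 : ((k : K) ^ 2 - 1) * (1 - β) ≠ 0 := mul_ne_zero (sub_ne_zero.mpr hk2) (sub_ne_zero.mpr hβ.symm)
    obtain ⟨a, b, hab⟩ : ∃ a b : K, a ^ 2 + b ^ 2 = c / (((k : K) ^ 2 - 1) * (1 - β)) := by
      by_cases h2 : (2 : K) = 0
      · obtain ⟨a, ha⟩ := FiniteField.isSquare_of_char_two (have : CharP K 2 := (CharP.charP_iff_prime_eq_zero Nat.prime_two).mpr h2; ringChar.eq K 2) (c / (((k : K) ^ 2 - 1) * (1 - β)))
        exact ⟨a, 0, by rw [ha]; ring⟩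
      · exact exists_sq_add_sq h2 _
    rw [← div_mul_cancel₀ c h0, ← hab, add_mul, c0]
    exact mul_mem (c3 _ _ c1) (c3 _ _ c1)
  exact top_le_iff.mp ((S2403.eq_top hw ((mul_mem_cancel_left (c4 1)).mp a2) fun _ => c4).ge.trans le_sup_left)

end Cfsg.Agent.S2402
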