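import Cfsg.Statements.S2290
import Cfsg.Agent.S2288
import Cfsg.Agent.S2402
import Cfsg.Agent.S2403

set_option autoImplicit false
open Cfsg

namespace Cfsg.Agent.S2290

open Cfsg.Lib.Pres Matrix Subgroup

theorem gen2 {F : Type*} [Field F] [Fintype F] (n : ℕ) (hn : 1 ≤ n) :
    ∃ a b : Matrix.SpecialLinearGroup (Fin (n + 1)) F, closure {a, b} ⊔ center _ = ⊤ := by
  have h01 : (0 : Fin (n + 1)) ≠ 1 := by simp; omega
  let w : Matrix.SpecialLinearGroup (Fin (n + 1)) F := ⟨Matrix.of (fun i j => if j.val = i.val + 1 then 1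
    else if i.val = n ∧ j.val = 0 then (-1) ^ n else 0), by
      have := det_mul (diagonal fun i => if i = Fin.last n then ((-1) ^ n : F) else 1)
        ((finRotate (n + 1)).permMatrix F)
      rw [det_diagonal, det_permutation, sign_finRotate] at this
      convert this using 2
      · ext i j
        simp only [diagonal_mul, of_apply, PEquiv.toMatrix_apply, Equiv.toPEquiv_apply, Option.mem_def,
          Option.some.injEq]
        rcases eq_or_ne i (Fin.last n) with rfl | h
        · rw [finRotate_last, if_neg (by simp; omega)]; simp [@eq_comm _ 0 j]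
        · simp only [h, Fin.ext_iff, coe_finRotate_of_ne_last h, show ¬i.val = n from
            fun e => h (Fin.ext e), @eq_comm _ j.val]; simp
      · simp [← mul_pow]⟩
  by_cases hK : Fintype.card F ≤ 3
  · exact ⟨_, w, S2403.result hK n hn (SpecialLinearGroup.transvection h01 1) w rfl rfl⟩
  obtain ⟨k, hk⟩ := IsCyclic.exists_generator (α := Fˣ)
  refine ⟨dg k.ne_zero 0 1, _, S2402.result (not_le.1 hK) n hn k hk _
    (SpecialLinearGroup.transvection h01 1) w ?_ rfl rfl⟩
  rw [dg_val]; congr 1; ext i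
  have : (1 : Fin (n + 1)).val = 1 := by simp; omega
  simp only [dv, Fin.ext_iff, Fin.val_zero, this]; split_ifs <;> simp_all

/-- For every finite field F with q elements and n ≥ 2, with q ≥ 4 when n = 2, the simple group PSL_n(F) has a presentation with 2 generators and at most 80 relations. -/
theorem result {F : Type*} [Field F] [Fintype F] (n : ℕ) (hn : 2 ≤ n) (h2 : n = 2 → 4 ≤ Fintype.card F) :
    ∃ rels : Finset (FreeGroup (Fin 2)), rels.card ≤ 80 ∧ Nonempty (PresentedGroup (↑rels : Set (FreeGroup (Fin 2))) ≃* Matrix.ProjectiveSpecialLinearGroup (Fin n) F) := by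
  obtain ⟨m, rfl⟩ : ∃ m, n = m + 1 := ⟨n - 1, by omega⟩
  obtain ⟨a, b, h⟩ := gen2 (F := F) m (by omega)
  have h1 : ∃ g, Prs (Matrix.ProjectiveSpecialLinearGroup (Fin (m + 1)) F) (g + 1) 78 := by
    obtain rfl | rfl | h : m = 1 ∨ m = 2 ∨ 4 ≤ m + 1 := by omega
    · exact ⟨_, prs_SL2.quot_center.mono (by decide)⟩
    · exact ⟨_, prs_SL3.quot_center.mono (by decide)⟩
    obtain ⟨R, h1, ⟨e⟩⟩ := (S2288.result (F := F) _ h).2.1
    exact ⟨6, _, R, h1.trans (by decide), e, fun _ => rfl⟩
  obtain ⟨g, h1⟩ := h1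
  refine (h1.gens (b := ![QuotientGroup.mk a, QuotientGroup.mk b]) ?_).exists_equiv
  have := congrArg (Subgroup.map (QuotientGroup.mk' (center _))) h
  rw [Subgroup.map_sup, QuotientGroup.map_mk'_self, sup_bot_eq, MonoidHom.map_closure, Set.image_pair,
    map_top_of_surjective _ (QuotientGroup.mk'_surjective _)] at this
  simpa [Set.pair_comm] using this

end Cfsg.Agent.S2290
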