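import Cfsg.Statements.S2412
import Cfsg.Agent.Lib.Pres.TwoU

set_option autoImplicit false
open Cfsg Cfsg.Lib.Forms Cfsg.Lib.Pres

namespace Cfsg.Agent.S2412

/-- The projective special unitary group `PSU_n(q)` with `n ≥ 3`, realised over the field with `q²` elements, `(n, q) ≠ (3, 2)`, is generated by two of its elements. -/
theorem result {F : Type*} [Field F] [Fintype F] {q : ℕ} (hq : IsPrimePow q) (hF : Fintype.card F = q ^ 2) (n : ℕ) (hn : 3 ≤ n) (h32 : n = 3 → q ≠ 2) :
    ∃ a b : Cfsg.PSU n F q, Subgroup.closure ({a, b} : Set (Cfsg.PSU n F q)) = ⊤ := by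
  obtain ⟨σ, h⟩ := isConj_of_card hF
  rcases hn.eq_or_lt with rfl | hn
  · obtain ⟨u, g, -, e⟩ := Lib.Linear.EG.su3_gen h (by have := h.two_le; have := h32 rfl; omega)
    exact (TwoG.of (K := ⊤) (Subgroup.mem_top u) (Subgroup.mem_top (g * u * g⁻¹)) fun H a b =>
      e ▸ (Subgroup.closure_le _).2 (by simp [Set.insert_subset_iff, a, b])).quot rfl
      (Lib.Linear.quotientCenterCongr Subgroup.topEquiv.symm)
  · exact (two_SU (stdHerm_nondeg h (Fin n)) (by simp; omega)).quot rfl (psuEquiv h n)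

end Cfsg.Agent.S2412
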