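import Cfsg.Statements.S5388
import Cfsg.Agent.Lib.Small.Co1Z2
import Cfsg.Agent.Lib.Leech.MonQ

set_option autoImplicit false
open Cfsg

namespace Cfsg.Agent.S5388

open Cfsg.Lib.Leech Cfsg.Lib.Golay Cfsg.Spor Cfsg.Lib.Forms Subgroup Cfsg.Lib.Small.Co1Z Cfsg.Lib.Known2
  Cfsg.Lib.Core
open scoped Pointwise symmDiff

abbrev DD : Subgroup Co1 := centralizer {mk1 ep}

noncomputable def θ : LL →* DD := (mk1.comp LL.subtype).codRestrict _ fun l =>
  mem_centralizer_singleton_iff.2 ((map_mul mk1 _ _).symm.trans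
    ((congrArg mk1 (mem_centralizer_singleton_iff.1 l.2)).trans (map_mul mk1 _ _)))

theorem θ_eq {l m : LL} : θ l = θ m ↔ l = m ∨ (l : Co0) = negOne * m :=
  Subtype.ext_iff.trans (mk1_eq_iff.trans (or_congr_left Subtype.ext_iff.symm))

theorem neg_sgn {c : Finset GolayPt} (hc : Cw c) : negOne * sgn c hc = sgn cᶜ (cw_compl hc) := by
  rw [negOne, sgn_mul_sgn]; congr 1; exact top_symmDiff c

theorem θ_surj : Function.Surjective θ := by
  rintro ⟨d, hd⟩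
  obtain ⟨g, rfl⟩ := mk1_surjective d
  have := mem_centralizer_singleton_iff.1 hd
  rw [← map_mul, ← map_mul, mk1_eq_iff] at this
  refine ⟨⟨g, mem_centralizer_singleton_iff.2 (this.resolve_right fun e => ?_)⟩, rfl⟩
  let v : leechLattice := ⟨decV 0x808080a080a08080a08080a0a0a0a060808080408080808,
    mem_of_inL (by decide +kernel)⟩
  have h1 : ep • v = v := Subtype.ext (funext fun l => (sgn_smul _ _ _ _).trans (by
    simp only [Coding.mem_ofMask, v]; revert l; decide +kernel))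
  have h2 : Lm (g⁻¹ • v) := by
    rw [Lm_iff, ← (MulAction.injective g).eq_iff, ← mul_smul, e, mul_smul, mul_smul, co0_smul_neg,
      smul_inv_smul, h1, negOne_smul]
  obtain ⟨n, h3, -⟩ := qn h2
  rw [sqNorm_smul, ← dotInt_self, show dotInt (v : GolayPt → ℤ) v = 48 from
    (dot_decV _ _).trans (by decide +kernel)] at h3
  omega

noncomputable def ζ : LL := sL (cw_compl cw_oo)

theorem ζ_eq : (ζ : Co0) = negOne * ep := (neg_sgn _).symm

theorem θζ : (θ ζ : Co1) = mk1 ep := mk1_eq_iff.2 (Or.inr ζ_eq)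

theorem ζ_comm (l : LL) : l * ζ = ζ * l := Subtype.ext (by
  rw [coe_mul, coe_mul, ζ_eq, ← mul_assoc, negOne_comm, mul_assoc,
    mem_centralizer_singleton_iff.1 l.2, mul_assoc])

theorem sL_sq {c : Finset GolayPt} (hc : Cw c) : sL hc * sL hc = 1 := Subtype.ext (sgn_mul_self hc)

theorem θ_sL {c d : Finset GolayPt} {hc : Cw c} {hd : Cw d} : θ (sL hc) = θ (sL hd) ↔ c = d ∨ c = dᶜ := by
  rw [θ_eq]
  refine or_congr ⟨fun e => sgn_injective (hc := hc) (hd := hd) (congrArg Subtype.val e), fun e => by subst e; rfl⟩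
    ⟨fun e => sgn_injective (hc := hc) (e.trans (neg_sgn hd)), fun e => by subst e; exact (neg_sgn hd).symm⟩

theorem sL_empty : sL cw_empty = 1 := Subtype.ext sgn_empty

theorem om_ne {a b : ℕ} (h : a % 2 ^ 24 ≠ b % 2 ^ 24 ∧ a % 2 ^ 24 ≠ (Nat.xor b 16777215) % 2 ^ 24) :
    ¬ (om a = om b ∨ om a = (om b)ᶜ) := by
  have key : ∀ a b : ℕ, om a = om b → a % 2 ^ 24 = b % 2 ^ 24 := fun a b e =>
    (om_inj (Nat.mod_lt _ (by norm_num)) (Nat.mod_lt _ (by norm_num))).1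
      ((gc.ofMask_mod a).trans (e.trans (gc.ofMask_mod b).symm))
  rw [← om_compl]
  exact fun e => e.elim (fun e => h.1 (key _ _ e)) fun e => h.2 (key _ _ e)

theorem θζ_ne : θ ζ ≠ 1 := by
  rw [← map_one θ, ← sL_empty, ζ, Ne, θ_sL, ← om_compl, ← gc.ofMask_zero]
  exact om_ne (by decide +kernel)

set_option maxRecDepth 100000 in
theorem F1 {σ : Equiv.Perm GolayPt} (h : σ ∈ E16) {c : Finset GolayPt} (hc : Gd c) :
    σ • c = c ∨ σ • c = c ∆ ooᶜ := by
  rw [← gen_gE16] at h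
  obtain ⟨y, hy, rfl, H⟩ := Coding.forall_mem_gen (fun g hg => (inH_gE16 g hg).1) (M := 13) (d := 4)
    (a := 1) (q := fun y => allN 4096 fun i => bif' (bor (Nat.beq (Nat.land (cwN i) 0x82402f) 0)
      (Nat.beq (Nat.land (cwN i) 0x82402f) 0x82402f)) (bor (Nat.beq (imgN 24 y (cwN i)) (cwN i))
      (Nat.beq (imgN 24 y (cwN i)) (Nat.xor (cwN i) (Nat.xor 0x82402f 16777215)))) true)
    (by decide +kernel) h
  obtain ⟨i, hi, rfl⟩ := exists_cwN hc.1
  have := allN_iff.1 H i hi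
  rw [bif'_pos ((Gd_iff (isCw_cwN hi)).1 hc), bor_iff, beq_iff, beq_iff] at this
  rw [hy.smul_ofMask, ← om_compl, ← gc.ofMask_xor]
  exact this.imp (congrArg om) (congrArg om)

theorem F2 {σ : Equiv.Perm GolayPt} (h : σ ∈ E16) : σ = 1 ∨ ∃ c, Gd c ∧ σ • c ≠ c := by
  rw [← gen_gE16] at h
  obtain ⟨y, hy, rfl, H⟩ := Coding.forall_mem_gen (fun g hg => (inH_gE16 g hg).1) (M := 13) (d := 4)
    (a := 1) (q := fun y => bor (Nat.beq y (idN 24)) (anyL [0x6920d0, 0x3da100, 0x51a610, 0x742a40]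
      fun m => bnot (Nat.beq (imgN 24 y m) m))) (by decide +kernel) h
  rcases bor_iff.1 H with e | e
  · left; rw [beq_iff.1 e]; exact Coding.dec_one
  · obtain ⟨m, hm, e⟩ := anyL_iff.1 e
    have : isCw m = true ∧ bor (Nat.beq (Nat.land m 0x82402f) 0)
        (Nat.beq (Nat.land m 0x82402f) 0x82402f) = true := by clear e; revert m; decide +kernel
    refine Or.inr ⟨om m, (Gd_iff this.1).2 this.2, fun e' => bnot_iff.1 e (beq_iff.2 ?_)⟩
    rwa [hy.smul_ofMask, om_inj (hy.imgN_lt m) (isCw_lt this.1)] at e'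

theorem F3 {c : Finset GolayPt} (hc : Gd c) :
    ((c = ∅ ∨ c = ∅ᶜ) ∨ (c = ooᶜ ∨ c = ooᶜᶜ)) ∨ ∃ σ ∈ E16, σ • c ≠ c := by
  by_cases h : ∃ a ∉ oo, ∃ b ∉ oo, a ∈ c ∧ b ∉ c
  · obtain ⟨a, ha, b, hb, h1, h2⟩ := h
    obtain ⟨σ, hσ, rfl⟩ := exists_E16 ha hb
    exact Or.inr ⟨σ, hσ, fun e => h2 (e ▸ (mem_smul_iff σ c a).2 h1)⟩
  left
  push Not at h
  have h1 : (∀ a ∉ oo, a ∈ c) ∨ ∀ a ∉ oo, a ∉ c := by
    by_contra hn
    push Not at hn
    obtain ⟨⟨b, hb, h2⟩, a, ha, h1⟩ := hn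
    exact h2 (h a ha b hb h1)
  have h2 : (∀ a ∈ oo, a ∉ c) ∨ ∀ a ∈ oo, a ∈ c := hc.2.imp
    (fun e a ha h => by have := Finset.ext_iff.1 e a; simp [ha, h] at this)
    fun e a ha => by have := Finset.ext_iff.1 e a; simpa [ha] using this
  generalize oo = o at h1 h2
  rcases h1 with h1 | h1 <;> rcases h2 with h2 | h2
  · refine Or.inr (Or.inl ?_); ext a; by_cases ha : a ∈ o <;> simp [*]
  · refine Or.inl (Or.inr ?_); ext a; by_cases ha : a ∈ o <;> simp [*]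
  · refine Or.inl (Or.inl ?_); ext a; by_cases ha : a ∈ o <;> simp [*]
  · refine Or.inr (Or.inr ?_); ext a; by_cases ha : a ∈ o <;> simp [*]

theorem ps {σ : Equiv.Perm GolayPt} (h : σ ∈ E16) {c : Finset GolayPt} (hc : Gd c) :
    (σ • c = c ∧ pL h * sL hc.1 = sL hc.1 * pL h) ∨ pL h * sL hc.1 = sL hc.1 * pL h * ζ := by
  refine (F1 h hc).imp (fun e => ⟨e, Subtype.ext ?_⟩) fun e => ?_
  · refine (prm_mul_sgn _ hc.1).trans ?_
    congr 2
  · rw [mul_assoc, ζ_comm, ← mul_assoc]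
    refine Subtype.ext ((prm_mul_sgn _ hc.1).trans ?_)
    show _ = sgn _ hc.1 * sgn _ (cw_compl cw_oo) * _
    rw [sgn_mul_sgn]
    congr 2

def Z (x y : LL) : Prop := x * y = y * x ∨ x * y = y * x * ζ

theorem Z.symm {x y : LL} (h : Z x y) : Z y x :=
  h.imp Eq.symm fun e => by rw [e, mul_assoc, ζ, sL_sq, mul_one]

theorem Z.mul {x y w : LL} (h : Z x w) (h' : Z y w) : Z (x * y) w := by
  have a : ζ * ζ = 1 := sL_sq _
  rcases h with e | e <;> rcases h' with e' | e'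
  · left; rw [mul_assoc, e', ← mul_assoc, e, mul_assoc]
  · right; rw [mul_assoc, e', ← mul_assoc, ← mul_assoc, e, mul_assoc w]
  · right; rw [mul_assoc, e', ← mul_assoc, e, mul_assoc, ← ζ_comm, ← mul_assoc, mul_assoc w]
  · left
    rw [mul_assoc, e', ← mul_assoc, ← mul_assoc, e, mul_assoc _ ζ, ← ζ_comm, mul_assoc, mul_assoc y, a,
      mul_one, mul_assoc]

theorem ss {c d : Finset GolayPt} (hc : Cw c) (hd : Cw d) : sL hc * sL hd = sL hd * sL hc :=
  Subtype.ext (Sgn_comm (sgn_mem_Sgn _ hc) (sgn_mem_Sgn _ hd))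

theorem pL_sq {σ : Equiv.Perm GolayPt} (h : σ ∈ E16) : pL h * pL h = 1 :=
  Subtype.ext ((prm_mul _ _).symm.trans ((congrArg prm (Subtype.ext (E16_sq h))).trans prm_one))

theorem pp {σ τ : Equiv.Perm GolayPt} (h : σ ∈ E16) (h' : τ ∈ E16) : pL h * pL h' = pL h' * pL h := by
  have e : pL h * pL h' = pL (mul_mem h h') := Subtype.ext (prm_mul _ _).symm
  have := pL_sq (mul_mem h h')
  rw [← e, ← eq_inv_iff_mul_eq_one, mul_inv_rev, ← eq_inv_iff_mul_eq_one.2 (pL_sq h),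
    ← eq_inv_iff_mul_eq_one.2 (pL_sq h')] at this
  exact this

theorem nc {x y : LL} (h : x * y = y * x * ζ) : θ x * θ y ≠ θ y * θ x := fun e => by
  rw [← map_mul, h, map_mul, map_mul, mul_eq_left] at e
  exact θζ_ne e

theorem Gd_om {m : ℕ} (h : band (isCw m) (bor (Nat.beq (Nat.land m 0x82402f) 0)
    (Nat.beq (Nat.land m 0x82402f) 0x82402f)) = true) : Gd (om m) :=
  (Gd_iff (band_iff.1 h).1).2 (band_iff.1 h).2

theorem G1 : Gd (om 0x149f00) := Gd_om (by decide +kernel)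

section
variable {ρ : LL →* D8.isom} (hρ : ∀ (g : LL) v, Lm v → (ρ g).1 (cl v) = cl ((g : Co0) • v))
include hρ

theorem ZZ {x y : LL} (hx : x ∈ ρ.ker) (hy : y ∈ ρ.ker) : Z x y := by
  obtain ⟨c, hc, σ, h, rfl⟩ := (main hρ).2.2 x hx
  obtain ⟨d, hd, τ, h', rfl⟩ := (main hρ).2.2 y hy
  exact Z.mul (Z.mul (Or.inl (ss _ _)) ((ps h' hc).imp_left And.right)).symm
    (Z.mul (Z.symm ((ps h hd).imp_left And.right)) (Or.inl (pp _ _))).symm

theorem es : ES (ρ.ker.map θ) (θ ζ) where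
  mem := ⟨ζ, sL_ker hρ ⟨cw_compl cw_oo, Or.inl (disjoint_compl_left.eq_bot)⟩, rfl⟩
  ne := θζ_ne
  sq := by rw [← map_mul, ζ, sL_sq, map_one]
  cen := by rintro _ ⟨x, -, rfl⟩; rw [← map_mul, ζ_comm, map_mul]
  of_cen := by
    rintro _ ⟨x, hx, rfl⟩ H
    obtain ⟨c, hc, σ, h, rfl⟩ := (main hρ).2.2 x hx
    rcases F2 h with rfl | ⟨d, hd, e⟩
    · rw [show pL h = 1 from Subtype.ext prm_one, mul_one] at H ⊢
      rcases F3 hc with (e | e) | ⟨τ, hτ, e⟩
      · left; rw [← map_one θ, ← sL_empty]; exact θ_sL.2 e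
      · right; exact θ_sL.2 e
      · exact absurd (H _ ⟨_, pL_ker hρ hτ, rfl⟩).symm (nc ((ps hτ hc).resolve_left fun a => e a.1))
    · refine absurd (H _ ⟨_, sL_ker hρ hd, rfl⟩) (nc ?_)
      rw [mul_assoc, (ps h hd).resolve_left fun a => e a.1, ← mul_assoc, ← mul_assoc, ss, mul_assoc _ _ (pL h)]
  comm := by
    rintro _ ⟨x, hx, rfl⟩ _ ⟨y, hy, rfl⟩
    simp only [← map_mul]
    exact (ZZ hρ hx hy).imp (congrArg θ) (congrArg θ)
  sq_mem := by
    rintro _ ⟨x, hx, rfl⟩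
    obtain ⟨c, hc, σ, h, rfl⟩ := (main hρ).2.2 x hx
    rw [← map_mul, ← map_one θ, mul_assoc, ← mul_assoc (pL h)]
    refine (ps h hc).imp (fun e => ?_) fun e => ?_
    · rw [e.2, mul_assoc, pL_sq, mul_one, sL_sq]
    · rw [e, mul_assoc _ ζ, ← ζ_comm, mul_assoc, ← mul_assoc (pL h), pL_sq, one_mul, ← mul_assoc, sL_sq,
        one_mul]
  nonab := by
    rcases F3 G1 with (e | e) | ⟨τ, hτ, e⟩
    · rw [← gc.ofMask_zero] at e; exact absurd e (om_ne (by decide +kernel))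
    · rw [← om_compl] at e; exact absurd e (om_ne (by decide +kernel))
    · exact ⟨_, ⟨_, pL_ker hρ hτ, rfl⟩, _, ⟨_, sL_ker hρ G1, rfl⟩,
        nc ((ps hτ G1).resolve_left fun a => e a.1)⟩

theorem mem_Q {l : LL} : θ l ∈ ρ.ker.map θ ↔ l ∈ ρ.ker := by
  refine ⟨?_, fun h => ⟨l, h, rfl⟩⟩
  rintro ⟨m, hm, e⟩
  rcases θ_eq.1 e.symm with rfl | e
  · exact hm
  · rw [show l = sL cw_univ * m from Subtype.ext e]
    exact mul_mem (sL_ker hρ ⟨cw_univ, Or.inr (by simp)⟩) hm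

theorem card_Q : Nat.card (ρ.ker.map θ) = 2 ^ 9 := by
  have h1 := card_comap_mk1 ((ρ.ker.map θ).map DD.subtype)
  have h2 : ((ρ.ker.map θ).map DD.subtype).comap mk1 = ρ.ker.map LL.subtype := by
    ext g
    constructor
    · rintro ⟨_, ⟨l, hl, rfl⟩, e⟩
      rcases mk1_eq_iff.1 e.symm with rfl | rfl
      · exact ⟨l, hl, rfl⟩
      · exact ⟨sL cw_univ * l, mul_mem (sL_ker hρ ⟨cw_univ, Or.inr (by simp)⟩) hl, rfl⟩
    · rintro ⟨l, hl, rfl⟩
      exact ⟨_, ⟨l, hl, rfl⟩, rfl⟩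
  rw [h2, card_subtype, card_subtype, (main hρ).2.1] at h1
  omega

end

theorem simple8 (N : Subgroup (commutator D8.isom)) (hN : N.Normal) : N = ⊥ ∨ N = ⊤ := by
  classical
  have h := (fPlus_nondeg (F := ZMod 2) 4).card_center_omega good8 (by rw [finrank_plus]; norm_num)
  rw [if_neg fun a => a.1 rfl] at h
  have := (((fPlus_nondeg (F := ZMod 2) 4).omega_normal_and_simple
    (by rw [finrank_plus]; norm_num)).1 N hN)
  rwa [eq_bot_of_card_eq _ h, le_bot_iff] at this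

/-- The first Conway group, the automorphism group of the Leech lattice modulo its centre, satisfies the large extraspecial hypothesis of plus type in dimension 8: it has an involution z whose centralizer C has generalized Fitting subgroup Q extraspecial of order 2^9, with C/Q isomorphic to the commutator subgroup of the isometry group of the hyperbolic quadratic form in dimension 8 over the field with two elements, and some conjugate of z other than z lies in Q. -/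
theorem result : ∃ z : Cfsg.Spor.Co1, orderOf z = 2 ∧ ∃ (Q : Subgroup (Subgroup.centralizer ({z} : Set Cfsg.Spor.Co1))) (_ : Q.Normal), Cfsg.generalizedFittingSubgroup (Subgroup.centralizer ({z} : Set Cfsg.Spor.Co1)) = Q ∧ Cfsg.IsExtraspecial 2 Q ∧ Nat.card Q = 2 ^ 9 ∧ Nonempty ((Subgroup.centralizer ({z} : Set Cfsg.Spor.Co1)) ⧸ Q ≃* Cfsg.Omega (ZMod 2) (Cfsg.quadFormPlus 4 (ZMod 2))) ∧ ∃ g : Cfsg.Spor.Co1, (∃ hq : g * z * g⁻¹ ∈ Subgroup.centralizer ({z} : Set Cfsg.Spor.Co1), (⟨g * z * g⁻¹, hq⟩ : Subgroup.centralizer ({z} : Set Cfsg.Spor.Co1)) ∈ Q) ∧ g * z * g⁻¹ ≠ z := by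
  obtain ⟨ρ, hρ⟩ := exists_rho
  have E := es hρ
  have hn : (ρ.ker.map θ).Normal := Normal.map inferInstance θ θ_surj
  let τ : LL →* commutator D8.isom := ρ.codRestrict _ fun l => (main hρ).1 ▸ ⟨l, rfl⟩
  have hτ : Function.Surjective τ := fun ⟨x, hx⟩ => by
    obtain ⟨l, rfl⟩ := (main hρ).1.ge hx
    exact ⟨l, rfl⟩
  have hk : ∀ l, τ l = 1 ↔ θ l ∈ ρ.ker.map θ := fun l => Subtype.ext_iff.trans (mem_Q hρ).symm
  obtain ⟨e, -⟩ := exists_quot_equiv θ_surj hτ hk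
  have := Module.finite_of_finite (ZMod 2) (M := V8)
  have := Form.finite_isom (D := D8)
  refine ⟨mk1 ep, by rw [← θζ, orderOf_coe, E.orderOf_eq], ρ.ker.map θ, hn,
    fstar_eq_of e ?_ E.isPGroup ?_, E.isExtraspecial, card_Q hρ,
    ⟨e.trans (omegaIso D8 fPlus_Q).symm⟩, ?_⟩
  · refine (simple8 _ inferInstance).resolve_right fun h => ?_
    have := Fact.mk Nat.prime_two
    obtain ⟨n, h1⟩ := IsPGroup.iff_card.1 (isPGroup_pCore 2 (commutator D8.isom))
    rw [h, card_top, card_om8] at h1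
    have : 3 ∣ 2 ^ n := h1 ▸ by norm_num
    exact absurd (Nat.prime_three.dvd_of_dvd_pow this) (by norm_num)
  · intro d hd
    obtain ⟨l, rfl⟩ := θ_surj d
    rcases simple8 (((centralizer (ρ.ker.map θ : Set DD)).comap θ).map τ)
      (Normal.map inferInstance τ hτ) with h | h
    · exact (hk l).1 (mem_bot.1 (h ▸ ⟨l, hd, rfl⟩))
    exfalso
    have g := inH_gHO 0x20910060c13001214051604080d0b0a070f0e1503171101 (by simp [gHO])
    let p : LL := ⟨_, prm_LL g.2⟩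
    obtain ⟨n, h1, h2⟩ := h.ge (mem_top (τ p))
    have h3 : n⁻¹ * p ∈ ρ.ker := (mem_Q hρ).1 ((hk _).1 (by rw [map_mul, map_inv, h2, inv_mul_cancel]))
    have h4 : p * sL G1.1 * p⁻¹ = sL (cw_smul g.2.1 G1.1) := Subtype.ext (prm_sgn_conj _ G1.1)
    have m1 := sL_ker hρ G1
    have m2 : θ (sL G1.1) * θ ζ ∈ ρ.ker.map θ := mul_mem ⟨_, m1, rfl⟩ E.mem
    have h5 : θ (p * sL G1.1 * p⁻¹) = θ n * (θ (n⁻¹ * p) * θ (sL G1.1) * (θ (n⁻¹ * p))⁻¹) * (θ n)⁻¹ := by
      simp only [map_mul, map_inv]; group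
    rw [h4] at h5
    simp only [g.1.smul_ofMask] at h5
    rcases E.conj_eq ⟨_, h3, rfl⟩ ⟨_, m1, rfl⟩ with e | e <;> rw [e] at h5
    · rw [← h1 _ ⟨_, m1, rfl⟩, mul_inv_cancel_right, θ_sL] at h5
      exact om_ne (by decide +kernel) h5
    · rw [← h1 _ m2, mul_inv_cancel_right, ← map_mul, show sL G1.1 * ζ =
        sL (cw_symmDiff G1.1 (cw_compl cw_oo)) from Subtype.ext (sgn_mul_sgn G1.1 (cw_compl cw_oo)), θ_sL, ← om_compl,
        ← gc.ofMask_xor] at h5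
      exact om_ne (by decide +kernel) h5
  · obtain ⟨σ, hσ, e⟩ := exists_M24_octad O0_mem (om_mem_octads (m := 0x149f00) (by decide +kernel))
    have h : mk1 (prm ⟨σ, hσ⟩) * mk1 ep * (mk1 (prm ⟨σ, hσ⟩))⁻¹ = θ (sL G1.1) := by
      rw [← map_inv, ← map_mul, ← map_mul, prm_sgn_conj]
      simp only [e]
      rfl
    refine ⟨mk1 (prm ⟨σ, hσ⟩), ⟨h ▸ (θ _).2, ?_⟩, ?_⟩
    · simp only [h]
      exact ⟨_, sL_ker hρ G1, rfl⟩
    · rw [h]
      exact fun e => om_ne (by decide +kernel) ((θ_sL (hd := cw_oo)).1 (Subtype.ext e))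

end Cfsg.Agent.S5388
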