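import Cfsg.Statements.S1572
import Cfsg.Agent.Lib.Small.MaxA
import Cfsg.Agent.Lib.Leech.Config
import Cfsg.Agent.Lib.Leech.Order

set_option autoImplicit false
open scoped Pointwise
open Cfsg

namespace Cfsg.Agent.S1572

open Cfsg.Lib.Leech Cfsg.Lib.Golay Cfsg.Spor Cfsg.Lib.Small.MaxA MulAction

theorem sgn_of_abs {v w : leechLattice} {S : Finset GolayPt}
    (h0 : ∀ l, l ∉ S → (v : GolayPt → ℤ) l = 0 ∧ (w : GolayPt → ℤ) l = 0)
    (h1 : ∀ l, (v : GolayPt → ℤ) l = (w : GolayPt → ℤ) l ∨ (v : GolayPt → ℤ) l = -(w : GolayPt → ℤ) l)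
    (h : ∀ c, Cw c → c ⊆ S →
      Even ((S.filter fun l => (v : GolayPt → ℤ) l ≠ (w : GolayPt → ℤ) l) ∩ c).card) :
    ∃ c hc, sgn c hc • v = w ∧ ∀ i ∈ S, (v : GolayPt → ℤ) i = (w : GolayPt → ℤ) i → i ∉ c := by
  obtain ⟨c, hc, e⟩ := exists_cw_inter (Finset.filter_subset _ S) h
  have key : ∀ i ∈ S, i ∈ c ↔ (v : GolayPt → ℤ) i ≠ (w : GolayPt → ℤ) i := by
    intro i hi
    have := Finset.ext_iff.1 e i
    simpa [hi] using this
  refine ⟨c, hc, Subtype.ext (funext fun l => ?_), fun i hi e' hc' => (key i hi).1 hc' e'⟩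
  rw [sgn_smul]
  by_cases hl : l ∈ S
  · have := key l hl
    have := h1 l
    split_ifs with hlc
    · have := (key l hl).1 hlc; omega
    · by_contra hne; exact hlc ((key l hl).2 hne)
  · have := h0 l hl
    split_ifs <;> omega

def PQ (p q : GolayPt) : Prop := (p = none ∧ q = some 0) ∨ (p = some 0 ∧ q = none)

theorem PQ.ne {p q : GolayPt} (h : PQ p q) : p ≠ q := by
  rcases h with ⟨rfl, rfl⟩ | ⟨rfl, rfl⟩ <;> simp

abbrev KK : Subgroup Co0 := Mono ⊓ stabilizer Co0 leechU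

theorem prm_KK {σ : M24} {p q p' q' : GolayPt} (h : PQ p q) (h' : PQ p' q') (e1 : σ.1 p = p')
    (e2 : σ.1 q = q') : prm σ ∈ KK := by
  refine ⟨prm_mem_Mono σ, ?_⟩
  show prm σ • leechU = leechU
  have sw : v44 (some 0) none 1 1 (by norm_num) = v44 none (some 0) 1 1 (by norm_num) :=
    Subtype.ext (funext fun l => by rw [v44_apply, v44_apply, add_comm])
  rw [leechU_eq, prm_smul_v44]
  rcases h with ⟨rfl, rfl⟩ | ⟨rfl, rfl⟩ <;> rcases h' with ⟨rfl, rfl⟩ | ⟨rfl, rfl⟩ <;>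
    rw [e1, e2] <;> exact sw

theorem sgn_KK {c : Finset GolayPt} {hc : Cw c} {p q : GolayPt} (h : PQ p q) (h1 : p ∉ c)
    (h2 : q ∉ c) : sgn c hc ∈ KK := by
  refine ⟨sgn_mem_Mono c hc, ?_⟩
  show sgn c hc • leechU = leechU
  refine Subtype.ext (funext fun l => ?_)
  rw [sgn_smul]
  split_ifs with hl
  · have : ¬ (l = none ∨ l = some 0) := by
      rcases h with ⟨rfl, rfl⟩ | ⟨rfl, rfl⟩ <;> rintro (rfl | rfl) <;> contradiction
    simp [leechU, vecU, this]
  · rfl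

theorem exists_pq {v : leechLattice} {k : ℤ} (h : v ∈ DK k) :
    ∃ p q, PQ p q ∧ (v : GolayPt → ℤ) p = k ∧ (v : GolayPt → ℤ) q = -k := by
  obtain ⟨-, h1, h2⟩ := h
  rw [ip, dotInt_comm, dot_leechU] at h1
  rcases h2 with h2 | h2
  · exact ⟨none, some 0, Or.inl ⟨rfl, rfl⟩, h2, by omega⟩
  · exact ⟨some 0, none, Or.inr ⟨rfl, rfl⟩, by omega, h2⟩

theorem sg44 {i j : GolayPt} {a b c d : ℤ} (ha : a = 1 ∨ a = -1) (hb : b = 1 ∨ b = -1)
    (hc : c = 1 ∨ c = -1) (hd : d = 1 ∨ d = -1) (hij : i ≠ j) (h : 2 ∣ a + b) (h' : 2 ∣ c + d) :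
    ∃ e he, sgn e he • v44 i j a b h = v44 i j c d h' ∧
      ∀ x, x ≠ i → x ≠ j → (x = none ∨ x = some 0) → x ∉ e := by
  obtain ⟨e, he, h1, h2⟩ := sgn_of_abs (v := v44 i j a b h) (w := v44 i j c d h')
    (S := {i, j, none, some 0})
    (fun l hl => by
      simp only [Finset.mem_insert, Finset.mem_singleton, not_or] at hl
      simp [v44_apply, hl.1, hl.2.1])
    (fun l => by
      rw [v44_apply, v44_apply]
      split_ifs with h1 h2
      · exact absurd (h1.symm.trans h2) hij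
      all_goals omega)
    (fun c hc hS => by
      rw [cw_eq_empty hc (lt_of_le_of_lt (Finset.card_le_card hS)
        (lt_of_le_of_lt Finset.card_le_four (by norm_num)))]
      simp)
  refine ⟨e, he, h1, fun x hi hj hx => h2 x ?_ (by simp [v44_apply, hi, hj])⟩
  rcases hx with rfl | rfl <;> simp

theorem shape44 {v : leechLattice} (hv : v ∈ MinV) (h4 : ∀ l, 4 ∣ (v : GolayPt → ℤ) l) :
    ∃ i j a b, i ≠ j ∧ (a = 1 ∨ a = -1) ∧ (b = 1 ∨ b = -1) ∧ ∃ h, v = v44 i j a b h := by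
  have hv' : sqNorm (v : GolayPt → ℤ) = 32 := hv
  obtain ⟨i, hi⟩ : ∃ i, (v : GolayPt → ℤ) i ≠ 0 := by
    by_contra hc
    push Not at hc
    rw [show (v : GolayPt → ℤ) = 0 from funext hc, sqNorm_zero] at hv'
    omega
  obtain ⟨a, ha⟩ := h4 i
  have h1 := sq_le_sqNorm (v : GolayPt → ℤ) i
  have h2 : a = 1 ∨ a = -1 := by
    rw [hv', ha] at h1
    have : a ≠ 0 := by rintro rfl; exact hi (by simpa using ha)
    have : -2 < a := by nlinarith
    have : a < 2 := by nlinarith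
    omega
  obtain ⟨j, hij, b, hb, h, e⟩ := eq_v44_of_dvd hv' h2 ha h4
  exact ⟨i, j, a, b, hij, h2, hb, h, e⟩

theorem tA : ∀ v ∈ SA, ∀ w ∈ SA, ∃ g ∈ Mono, g • v = w := by
  intro v hv w hw
  obtain ⟨i, j, a, b, hij, ha, hb, h, rfl⟩ := shape44 hv.1 hv.2
  obtain ⟨k, l, c, d, hkl, hc, hd, h', rfl⟩ := shape44 hw.1 hw.2
  obtain ⟨σ, e1, e2⟩ := exists_M24_pair hij hkl
  obtain ⟨e, he, h1, -⟩ := sg44 ha hb hc hd hkl h h'
  exact ⟨sgn e he * prm σ, Mono.mul_mem (sgn_mem_Mono _ _) (prm_mem_Mono _), by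
    rw [mul_smul, prm_smul_v44, e1, e2, h1]⟩

theorem zero_at {v : leechLattice} (h : ip leechU v = 0) (h0 : (v : GolayPt → ℤ) none = 0) :
    (v : GolayPt → ℤ) (some 0) = 0 := by
  rw [ip, dotInt_comm, dot_leechU] at h; omega

theorem v44_ne {i j x : GolayPt} {a b : ℤ} (ha : a = 1 ∨ a = -1) (hb : b = 1 ∨ b = -1) (hij : i ≠ j)
    {h : 2 ∣ a + b} (hx : (v44 i j a b h : GolayPt → ℤ) x = 0) : x ≠ i ∧ x ≠ j := by
  rw [v44_apply] at hx
  constructor
  · rintro rfl; rw [if_pos rfl, if_neg hij] at hx; omega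
  · rintro rfl; rw [if_pos rfl, if_neg hij.symm] at hx; omega

theorem t0a : ∀ v ∈ D0a, ∀ w ∈ D0a, ∃ g ∈ KK, g • v = w := by
  intro v hv w hw
  have v0 := zero_at hv.2.1 hv.2.2.1
  have w0 := zero_at hw.2.1 hw.2.2.1
  have v1 := hv.2.2.1
  have w1 := hw.2.2.1
  obtain ⟨i, j, a, b, hij, ha, hb, h, rfl⟩ := shape44 hv.1 hv.2.2.2
  obtain ⟨k, l, c, d, hkl, hc, hd, h', rfl⟩ := shape44 hw.1 hw.2.2.2
  obtain ⟨a1, a2⟩ := v44_ne ha hb hij v0
  obtain ⟨a3, a4⟩ := v44_ne ha hb hij v1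
  obtain ⟨b1, b2⟩ := v44_ne hc hd hkl w0
  obtain ⟨b3, b4⟩ := v44_ne hc hd hkl w1
  obtain ⟨σ, hσ, e⟩ := exists_M24_list (l := [none, some 0, i, j]) (l' := [none, some 0, k, l])
    (by simp [a1, a2, a3, a4, hij]) (by simp [b1, b2, b3, b4, hkl]) rfl (by simp)
  simp only [List.map_cons, List.map_nil, List.cons.injEq, and_true] at e
  obtain ⟨e', he, h1, h2⟩ := sg44 ha hb hc hd hkl h h'
  refine ⟨sgn e' he * prm ⟨σ, hσ⟩, KK.mul_mem
    (sgn_KK (Or.inl ⟨rfl, rfl⟩) (h2 _ b3 b4 (Or.inl rfl)) (h2 _ b1 b2 (Or.inr rfl)))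
    (prm_KK (Or.inl ⟨rfl, rfl⟩) (Or.inl ⟨rfl, rfl⟩) e.1 e.2.1), ?_⟩
  rw [mul_smul, prm_smul_v44]
  simp only [e.2.2.1, e.2.2.2, h1]

theorem t4 : ∀ v ∈ DK 4, ∀ w ∈ DK 4, ∃ g ∈ KK, g • v = w := by
  have key : ∀ v ∈ MinV, ∀ p q : GolayPt, p ≠ q → (v : GolayPt → ℤ) p = 4 → (v : GolayPt → ℤ) q = -4 →
      v = v44 p q 1 (-1) (by norm_num) := by
    intro v hv p q hpq h1 h2
    refine eq_of_ip hv (by show _ = _; rw [sqNorm_v44 hpq]; norm_num) ?_
    rw [ip, dot_v44, h1, h2]; norm_num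
  intro v hv w hw
  obtain ⟨p, q, h, h1, h2⟩ := exists_pq hv
  obtain ⟨p', q', h', h1', h2'⟩ := exists_pq hw
  obtain ⟨σ, e1, e2⟩ := exists_M24_pair h.ne h'.ne
  refine ⟨prm σ, prm_KK h h' e1 e2, ?_⟩
  rw [key v hv.1 p q h.ne h1 h2, key w hw.1 p' q' h'.ne h1' h2', prm_smul_v44, e1, e2]

def Sh (v : leechLattice) (o : Finset GolayPt) : Prop :=
  Cw o ∧ o.card = 8 ∧ (∀ l ∈ o, (v : GolayPt → ℤ) l = 2 ∨ (v : GolayPt → ℤ) l = -2) ∧
    ∀ l ∉ o, (v : GolayPt → ℤ) l = 0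

theorem Sh.oct {v : leechLattice} {o : Finset GolayPt} (h : Sh v o) : o ∈ octads :=
  Lib.Leech.mem_octads.2 ⟨h.1, h.2.1⟩

theorem Sh.prm {v : leechLattice} {o : Finset GolayPt} (h : Sh v o) (σ : M24) :
    Sh (prm σ • v) (σ.1 • o) := by
  refine ⟨cw_smul σ.2 h.1, by rw [Finset.card_smul_finset, h.2.1], fun l hl => ?_, fun l hl => ?_⟩
  · rw [prm_smul]; exact h.2.2.1 _ (mem_perm_smul.1 hl)
  · rw [prm_smul]; exact h.2.2.2 _ fun h' => hl (mem_perm_smul.2 h')

theorem Sh.sgn {v w : leechLattice} {o : Finset GolayPt} (hv : Sh v o) (hw : Sh w o) :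
    ∃ c hc, sgn c hc • v = w ∧
      ∀ i, (i = none ∨ i = some 0) → (v : GolayPt → ℤ) i = (w : GolayPt → ℤ) i → i ∉ c := by
  obtain ⟨c, hc, h1, h2⟩ := sgn_of_abs (v := v) (w := w) (S := o ∪ {none, some 0})
    (fun l hl => ⟨hv.2.2.2 l fun h => hl (by simp [h]), hw.2.2.2 l fun h => hl (by simp [h])⟩)
    (fun l => by
      by_cases hl : l ∈ o
      · have := hv.2.2.1 l hl; have := hw.2.2.1 l hl; omega
      · have := hv.2.2.2 l hl; have := hw.2.2.2 l hl; omega)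
    (fun c hc hS => by
      set T := (o ∪ {none, some 0}).filter fun l => (v : GolayPt → ℤ) l ≠ (w : GolayPt → ℤ) l
      have hT : ∀ l, l ∈ T ↔ (v : GolayPt → ℤ) l ≠ (w : GolayPt → ℤ) l := by
        intro l
        simp only [T, Finset.mem_filter, and_iff_right_iff_imp]
        intro hne
        by_contra hl
        have hl' : l ∉ o := fun h => hl (by simp [h])
        exact hne ((hv.2.2.2 l hl').trans (hw.2.2.2 l hl').symm)
      have hc10 : c.card ≤ (c ∩ o).card + 2 := by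
        have : c ⊆ (c ∩ o) ∪ {none, some 0} := by
          intro x hx
          have := hS hx
          simp only [Finset.mem_union, Finset.mem_inter] at this ⊢
          tauto
        exact (Finset.card_le_card this).trans ((Finset.card_union_le _ _).trans
          (Nat.add_le_add_left Finset.card_le_two _))
      have h8 : (c ∩ o).card ≤ 8 := hv.2.1 ▸ Finset.card_le_card Finset.inter_subset_right
      by_cases hc0 : c.card < 8
      · rw [cw_eq_empty hc hc0]; simp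
      have hc8 : c.card = 8 := by have := cw_card hc; omega
      have e : c = o := octad_eq_of_card_inter (Lib.Leech.mem_octads.2 ⟨hc, hc8⟩) hv.oct (by omega)
      subst e
      have hTc : T ∩ c = T := by
        refine Finset.inter_eq_left.2 fun l hl => ?_
        by_contra hl'
        exact (hT l).1 hl ((hv.2.2.2 l hl').trans (hw.2.2.2 l hl').symm)
      rw [hTc]
      obtain ⟨j, hj⟩ := exists_not_mem_octad hv.oct
      have s1 := eight_dvd_sum_sub v.2 j
      have s2 := eight_dvd_sum_sub w.2 j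
      rw [hv.2.2.2 j hj] at s1
      rw [hw.2.2.2 j hj] at s2
      have s3 : (8 : ℤ) ∣ ∑ l, ((v : GolayPt → ℤ) l - (w : GolayPt → ℤ) l - if l ∈ T then 4 else 0) := by
        refine Finset.dvd_sum fun l _ => ?_
        have := hT l
        by_cases hl : l ∈ c
        · have := hv.2.2.1 l hl; have := hw.2.2.1 l hl
          split_ifs with h'
          · have := (hT l).1 h'; omega
          · have : (v : GolayPt → ℤ) l = (w : GolayPt → ℤ) l := by
              by_contra hne; exact h' ((hT l).2 hne)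
            omega
        · have := hv.2.2.2 l hl; have := hw.2.2.2 l hl
          split_ifs with h'
          · have := (hT l).1 h'; omega
          · omega
      rw [Finset.sum_sub_distrib, Finset.sum_sub_distrib, sum_ite_mem_const, Finset.univ_inter] at s3
      rw [Nat.even_iff]
      omega)
  refine ⟨c, hc, h1, fun i hi => h2 i ?_⟩
  rcases hi with rfl | rfl <;> simp

theorem exists_sh {v : leechLattice} (hv : v ∈ MinV) (h2 : 2 ∣ (v : GolayPt → ℤ) none)
    (h4 : ¬ ∀ l, 4 ∣ (v : GolayPt → ℤ) l) : ∃ o, Sh v o :=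
  (even_min_shape hv h2).resolve_left h4

theorem tB : ∀ v ∈ SB, ∀ w ∈ SB, ∃ g ∈ Mono, g • v = w := by
  intro v hv w hw
  obtain ⟨o, ho⟩ := exists_sh hv.1 hv.2.1 hv.2.2
  obtain ⟨o', ho'⟩ := exists_sh hw.1 hw.2.1 hw.2.2
  obtain ⟨σ, hσ, e⟩ := exists_M24_octad ho.oct ho'.oct
  have h1 := ho.prm ⟨σ, hσ⟩
  simp only [e] at h1
  obtain ⟨c, hc, h2, -⟩ := h1.sgn ho'
  exact ⟨sgn c hc * prm ⟨σ, hσ⟩, Mono.mul_mem (sgn_mem_Mono _ _) (prm_mem_Mono _), by
    rw [mul_smul, h2]⟩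

theorem PQ.or {p q : GolayPt} (h : PQ p q) : (p = none ∨ p = some 0) ∧ (q = none ∨ q = some 0) := by
  rcases h with ⟨rfl, rfl⟩ | ⟨rfl, rfl⟩ <;> simp

theorem t2 : ∀ v ∈ DK 2, ∀ w ∈ DK 2, ∃ g ∈ KK, g • v = w := by
  intro v hv w hw
  obtain ⟨p, q, h, h1, h2⟩ := exists_pq hv
  obtain ⟨p', q', h', h1', h2'⟩ := exists_pq hw
  obtain ⟨o, ho⟩ := exists_sh hv.1 (by have := hv.2.2; omega) (fun H => by have := H p; omega)
  obtain ⟨o', ho'⟩ := exists_sh hw.1 (by have := hw.2.2; omega) (fun H => by have := H p'; omega)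
  have m : ∀ {v o p}, Sh v o → (v : GolayPt → ℤ) p ≠ 0 → p ∈ o := fun {v o p} h hp => by
    by_contra hn; exact hp (h.2.2.2 p hn)
  obtain ⟨σ, hσ, a1, a2, a3⟩ := std_octad_two ho.oct (p := p) (q := q) (m ho (by omega))
    (m ho (by omega)) h.ne
  obtain ⟨τ, hτ, b1, b2, b3⟩ := std_octad_two ho'.oct (p := p') (q := q') (m ho' (by omega))
    (m ho' (by omega)) h'.ne
  let ρ : M24 := ⟨τ * σ⁻¹, M24.mul_mem hτ (M24.inv_mem hσ)⟩
  have e1 : ρ.1 p = p' := by rw [a2, b2]; simp [ρ]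
  have e2 : ρ.1 q = q' := by rw [a3, b3]; simp [ρ]
  have e3 : ρ.1 • o = o' := by rw [a1, b1]; simp [ρ, mul_smul]
  have h3 := ho.prm ρ
  rw [e3] at h3
  obtain ⟨c, hc, h4, h5⟩ := h3.sgn ho'
  refine ⟨sgn c hc * prm ρ, KK.mul_mem (sgn_KK h' (h5 _ h'.or.1 ?_) (h5 _ h'.or.2 ?_))
    (prm_KK h h' e1 e2), by rw [mul_smul, h4]⟩
  · rw [← e1, prm_smul_apply, e1, h1, h1']
  · rw [← e2, prm_smul_apply, e2, h2, h2']

noncomputable def cls0 (m : ℕ) : ℕ :=
  bif' (Nat.beq (pop24 m) 8) (bif' (Nat.beq (Nat.land m 0x800001) 0) 1 0) 0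

set_option maxRecDepth 100000 in
theorem oct330 {o o' : Finset GolayPt} (ho : o ∈ octads) (ho' : o' ∈ octads)
    (h : Disjoint o (om 0x800001)) (h' : Disjoint o' (om 0x800001)) : ∃ g ∈ HD2, g • o = o' := by
  obtain ⟨a, ha, rfl⟩ := exists_isOct ho
  obtain ⟨b, hb, rfl⟩ := exists_isOct ho'
  have key : ∀ a, isOct a = true → Disjoint (om a) (om 0x800001) → cls0 a = 1 := by
    intro a ha h
    rw [disjoint_comm, om_disjoint_iff (by norm_num)] at h
    have h2 : Nat.land a 0x800001 = 0 := (Nat.land_comm _ _).trans h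
    rw [cls0, (isOct_iff.mp ha).2, h2]; rfl
  exact cw_classes inf_le_left inH_gHD2 cls0 [0x293e] (by decide +kernel)
    (isOct_iff.mp ha).1 (isOct_iff.mp hb).1 (by rw [key a ha h]; omega)
    (by rw [key a ha h, key b hb h'])

theorem om_pair : om 0x800001 = {none, some 0} := by
  ext i; revert i; decide +kernel

theorem t0b : ∀ v ∈ D0b, ∀ w ∈ D0b, ∃ g ∈ KK, g • v = w := by
  intro v hv w hw
  have v0 := zero_at hv.2.1 hv.2.2.1
  have w0 := zero_at hw.2.1 hw.2.2.1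
  have v1 := hv.2.2.1
  have w1 := hw.2.2.1
  obtain ⟨o, ho⟩ := exists_sh hv.1 (by omega) hv.2.2.2
  obtain ⟨o', ho'⟩ := exists_sh hw.1 (by omega) hw.2.2.2
  have d : ∀ {v o}, Sh v o → (v : GolayPt → ℤ) none = 0 → (v : GolayPt → ℤ) (some 0) = 0 →
      Disjoint o (om 0x800001) := fun {v o} h a b => by
    rw [om_pair, Finset.disjoint_insert_right, Finset.disjoint_singleton_right]
    exact ⟨fun hm => by have := h.2.2.1 _ hm; omega, fun hm => by have := h.2.2.1 _ hm; omega⟩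
  obtain ⟨σ, hσ, e⟩ := oct330 ho.oct ho'.oct (d ho v1 v0) (d ho' w1 w0)
  have hs : σ • om 0x800001 = om 0x800001 := hσ.2
  rw [om_pair, smul_pair] at hs
  have hpq : PQ (σ none) (σ (some 0)) := by
    have a1 : σ none ∈ ({none, some 0} : Finset GolayPt) := by rw [← hs]; simp
    have a2 : σ (some 0) ∈ ({none, some 0} : Finset GolayPt) := by rw [← hs]; simp
    have a3 : σ none ≠ σ (some 0) := fun h => by simpa using σ.injective h
    simp only [Finset.mem_insert, Finset.mem_singleton] at a1 a2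
    rcases a1 with a1 | a1 <;> rcases a2 with a2 | a2
    · exact absurd (a1.trans a2.symm) a3
    · exact Or.inl ⟨a1, a2⟩
    · exact Or.inr ⟨a1, a2⟩
    · exact absurd (a1.trans a2.symm) a3
  have h3 := ho.prm ⟨σ, hσ.1⟩
  simp only [e] at h3
  obtain ⟨c, hc, h4, h5⟩ := h3.sgn ho'
  have z : ∀ i, (i = none ∨ i = some 0) → (w : GolayPt → ℤ) i = 0 := by
    rintro i (rfl | rfl) <;> assumption
  refine ⟨sgn c hc * prm ⟨σ, hσ.1⟩, KK.mul_mem (sgn_KK hpq (h5 _ hpq.or.1 ?_) (h5 _ hpq.or.2 ?_))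
    (prm_KK (Or.inl ⟨rfl, rfl⟩) hpq rfl rfl), by rw [mul_smul, h4]⟩
  · rw [z _ hpq.or.1]; exact (prm_smul_apply ⟨σ, hσ.1⟩ v none).trans v1
  · rw [z _ hpq.or.2]; exact (prm_smul_apply ⟨σ, hσ.1⟩ v (some 0)).trans v0

def So (v : leechLattice) (c : Finset GolayPt) (j : GolayPt) : Prop :=
  Cw c ∧ ∀ l, (v : GolayPt → ℤ) l = if l ∈ c then -oddVec j l else oddVec j l

theorem exists_so {v : leechLattice} (hv : v ∈ MinV) (h : ¬ 2 ∣ (v : GolayPt → ℤ) none) :
    ∃ c j, So v c j := by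
  obtain ⟨c, hc, j, h⟩ := odd_min_shape hv (i := none) (by omega)
  exact ⟨c, j, hc, h⟩

theorem So.move {v w : leechLattice} {c d : Finset GolayPt} {j k : GolayPt} (hv : So v c j)
    (hw : So w d k) (σ : M24) (e : σ.1 j = k) : ∃ c hc, sgn c hc • prm σ • v = w := by
  refine ⟨_, cw_symmDiff (cw_smul σ.2 hv.1) hw.1, Subtype.ext (funext fun l => ?_)⟩
  rw [sgn_smul, prm_smul, hv.2, hw.2]
  have e1 : oddVec j (σ.1.symm l) = oddVec k l := by
    simp only [oddVec, Equiv.symm_apply_eq, e]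
  rw [e1]
  simp only [Finset.mem_symmDiff, mem_perm_smul]
  by_cases h1 : σ.1.symm l ∈ c <;> by_cases h2 : l ∈ d <;> simp [h1, h2]

theorem tC : ∀ v ∈ SC, ∀ w ∈ SC, ∃ g ∈ Mono, g • v = w := by
  intro v hv w hw
  obtain ⟨c, j, h⟩ := exists_so hv.1 hv.2
  obtain ⟨d, k, h'⟩ := exists_so hw.1 hw.2
  obtain ⟨σ, e⟩ := exists_M24_point j k
  obtain ⟨c, hc, h2⟩ := h.move h' σ e
  exact ⟨sgn c hc * prm σ, Mono.mul_mem (sgn_mem_Mono _ _) (prm_mem_Mono _), by
    rw [mul_smul, h2]⟩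

theorem So.three {v : leechLattice} {c : Finset GolayPt} {j : GolayPt} (h : So v c j) (l : GolayPt) :
    (l = j ∧ ((v : GolayPt → ℤ) l = 3 ∨ (v : GolayPt → ℤ) l = -3)) ∨
    (l ≠ j ∧ ((v : GolayPt → ℤ) l = 1 ∨ (v : GolayPt → ℤ) l = -1)) := by
  rw [h.2 l, oddVec]
  by_cases h1 : l = j <;> split_ifs <;> simp [h1]

theorem t1 : ∀ v ∈ DK 1, ∀ w ∈ DK 1, ∃ g ∈ KK, g • v = w := by
  intro v hv w hw
  obtain ⟨p, q, h, h1, h2⟩ := exists_pq hv
  obtain ⟨p', q', h', h1', h2'⟩ := exists_pq hw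
  obtain ⟨c, j, hc⟩ := exists_so hv.1 (by have := hv.2.2; omega)
  obtain ⟨d, k, hd⟩ := exists_so hw.1 (by have := hw.2.2; omega)
  have a1 : p ≠ j := by
    rcases hc.three p with ⟨-, h9⟩ | ⟨h9, -⟩
    · omega
    · exact h9
  have a2 : q ≠ j := by
    rcases hc.three q with ⟨-, h9⟩ | ⟨h9, -⟩
    · omega
    · exact h9
  have a3 : p' ≠ k := by
    rcases hd.three p' with ⟨-, h9⟩ | ⟨h9, -⟩
    · omega
    · exact h9
  have a4 : q' ≠ k := by
    rcases hd.three q' with ⟨-, h9⟩ | ⟨h9, -⟩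
    · omega
    · exact h9
  obtain ⟨σ, hσ, e⟩ := exists_M24_list (l := [p, q, j]) (l' := [p', q', k])
    (by simp [a1, a2, h.ne]) (by simp [a3, a4, h'.ne]) rfl (by simp)
  simp only [List.map_cons, List.map_nil, List.cons.injEq, and_true] at e
  obtain ⟨c', hc', h3⟩ := hc.move hd ⟨σ, hσ⟩ e.2.2
  have key : ∀ x y, σ x = y → (v : GolayPt → ℤ) x = (w : GolayPt → ℤ) y → (w : GolayPt → ℤ) y ≠ 0 →
      y ∉ c' := by
    intro x y exy e1 e2 hy
    have := sgn_smul c' hc' (prm ⟨σ, hσ⟩ • v) y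
    rw [h3, if_pos hy, ← exy] at this
    have h4 := prm_smul_apply ⟨σ, hσ⟩ v x
    simp only at h4
    rw [h4, exy] at this
    omega
  exact ⟨sgn c' hc' * prm ⟨σ, hσ⟩, KK.mul_mem
    (sgn_KK h' (key p p' e.1 (by omega) (by omega)) (key q q' e.2.1 (by omega) (by omega)))
    (prm_KK h h' e.1 e.2.1), by rw [mul_smul, h3]⟩

theorem dvd23 {S : Set leechLattice} (hS : S.Finite) (β : Co0) (hβ : β ^ 23 = 1)
    (hinv : ∀ v ∈ S, β • v ∈ S) (hfix : ∀ v ∈ S, β • v ≠ v) : 23 ∣ S.ncard := by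
  classical
  haveI := hS.fintype
  haveI : Fact (Nat.Prime 23) := ⟨by norm_num⟩
  let f : Function.End S := fun v => ⟨β • v.1, hinv v.1 v.2⟩
  have key : ∀ (n : ℕ) (v : S), ((f ^ n) v).1 = β ^ n • v.1 := by
    intro n
    induction n with
    | zero => intro v; simp; rfl
    | succ n ih => intro v; rw [pow_succ, pow_succ, mul_smul]; exact ih (f v)
  have hf : f ^ 23 ^ 1 = 1 := by
    funext v
    apply Subtype.ext
    rw [pow_one, key, hβ, one_smul]; rfl
  have h := Equiv.Perm.card_fixedPoints_modEq hf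
  have h0 : Fintype.card f.fixedPoints = 0 :=
    Fintype.card_eq_zero_iff.2 ⟨fun v => hfix v.1.1 v.1.2 (congrArg Subtype.val v.2)⟩
  rw [h0] at h
  rw [← Nat.card_coe_set_eq, Nat.card_eq_fintype_card]
  exact (Nat.modEq_zero_iff_dvd).1 h

def sh : M24 := ⟨Equiv.optionCongr (Equiv.addRight (1 : ZMod 23)), by
  rw [← dec_cA]; exact (inH_gM24 cA (by simp [gM24])).2⟩

theorem sh_pow : prm sh ^ 23 = 1 := by
  rw [← prmHom_apply, ← map_pow]
  have : sh ^ 23 = 1 := by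
    apply Subtype.ext
    have : ∀ i, ((Equiv.optionCongr (Equiv.addRight (1 : ZMod 23))) ^ 23) i = i := by decide +kernel
    exact Equiv.ext this
  rw [this, map_one]

def x0 : leechLattice := ⟨oddVec none, oddVec_mem none⟩

theorem sh_x0 : prm sh • x0 = x0 := by
  refine Subtype.ext (funext fun l => ?_)
  rw [prm_smul]
  show oddVec none _ = oddVec none l
  have : sh.1 none = none := rfl
  simp only [oddVec, Equiv.symm_apply_eq, this]

theorem sh_nofix {v : leechLattice} (hv : v ∈ MinV) (h : ip x0 v = 0) : prm sh • v ≠ v := by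
  intro e
  have h1 : ∀ t : ZMod 23, (v : GolayPt → ℤ) (some (t + 1)) = (v : GolayPt → ℤ) (some t) := by
    intro t
    have := prm_smul_apply sh v (some t)
    rw [e] at this
    exact this
  have h2 : ∀ n : ℕ, (v : GolayPt → ℤ) (some (n : ZMod 23)) = (v : GolayPt → ℤ) (some 0) := by
    intro n
    induction n with
    | zero => simp
    | succ n ih => rw [Nat.cast_succ, h1, ih]
  have h3 : ∀ t : ZMod 23, (v : GolayPt → ℤ) (some t) = (v : GolayPt → ℤ) (some 0) := fun t => by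
    rw [← h2 t.val, ZMod.natCast_zmod_val]
  have hv' : sqNorm (v : GolayPt → ℤ) = 32 := hv
  simp only [sqNorm, Fintype.sum_option, h3, Finset.sum_const, Finset.card_univ, ZMod.card] at hv'
  simp only [ip, dotInt, x0, oddVec, Fintype.sum_option, h3, if_true, reduceCtorEq, if_false,
    Finset.sum_const, Finset.card_univ, ZMod.card] at h
  simp only [nsmul_eq_mul, Nat.cast_ofNat] at h hv'
  generalize (v : GolayPt → ℤ) none = a at h hv'
  generalize (v : GolayPt → ℤ) (some 0) = b at h hv'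
  have : -6 < a := by nlinarith
  have : a < 6 := by nlinarith
  have : a = 0 := by omega
  have : b = 0 := by omega
  subst_vars
  norm_num at hv'

def OO (H : Subgroup Co0) (x : leechLattice) : Set leechLattice := {y | ∃ g ∈ H, g • x = y}

theorem OO_inv {H : Subgroup Co0} {x y : leechLattice} {g : Co0} (hg : g ∈ H) (hy : y ∈ OO H x) :
    g • y ∈ OO H x := by
  obtain ⟨k, hk, rfl⟩ := hy
  exact ⟨g * k, H.mul_mem hg hk, mul_smul _ _ _⟩

theorem OO_cls {H K : Subgroup Co0} (hK : K ≤ H) (x : leechLattice) {D : Set leechLattice}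
    (hD : ∀ v ∈ D, ∀ w ∈ D, ∃ g ∈ K, g • v = w) : OO H x ∩ D = ∅ ∨ D ⊆ OO H x := by
  rcases Set.eq_empty_or_nonempty (OO H x ∩ D) with h | ⟨v, h1, h2⟩
  · exact Or.inl h
  · refine Or.inr fun w hw => ?_
    obtain ⟨g, hg, rfl⟩ := hD v h2 w hw
    exact OO_inv (hK hg) h1

theorem OO_cnt {H K : Subgroup Co0} (hK : K ≤ H) (x : leechLattice) {D : Set leechLattice}
    (hD : ∀ v ∈ D, ∀ w ∈ D, ∃ g ∈ K, g • v = w) :
    (OO H x ∩ D).ncard = 0 ∨ (OO H x ∩ D).ncard = D.ncard := by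
  rcases OO_cls hK x hD with h | h
  · left; rw [h, Set.ncard_empty]
  · right; rw [Set.inter_eq_right.2 h]

theorem split2 {S : Set leechLattice} (hS : S.Finite) (P : leechLattice → Prop) :
    S.ncard = {v | v ∈ S ∧ P v}.ncard + {v | v ∈ S ∧ ¬ P v}.ncard := by
  rw [← Set.ncard_union_eq (Set.disjoint_left.2 fun v h h' => h'.2 h.2)
    (hS.subset fun v h => h.1) (hS.subset fun v h => h.1)]
  congr 1
  ext v
  simp only [Set.mem_union, Set.mem_ofPred_eq]
  tauto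

theorem splitM {S : Set leechLattice} (hS : S ⊆ MinV) :
    S.ncard = (S ∩ SA).ncard + (S ∩ SB).ncard + (S ∩ SC).ncard := by
  have hf := finite_MinV.subset hS
  rw [split2 hf (fun v => 2 ∣ (v : GolayPt → ℤ) none),
    split2 (hf.subset fun v h => h.1) (fun v => ∀ l, 4 ∣ (v : GolayPt → ℤ) l)]
  congr 1
  congr 1
  · congr 1; ext v
    simp only [Set.mem_ofPred_eq, Set.mem_inter_iff, SA]
    exact ⟨fun h => ⟨h.1.1, hS h.1.1, h.2⟩, fun h => ⟨⟨h.1, by have := h.2.2 none; omega⟩, h.2.2⟩⟩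
  · congr 1; ext v
    simp only [Set.mem_ofPred_eq, Set.mem_inter_iff, SB]
    exact ⟨fun h => ⟨h.1.1, hS h.1.1, h.1.2, h.2⟩, fun h => ⟨⟨h.1, h.2.2.1⟩, h.2.2.2⟩⟩
  · congr 1; ext v
    simp only [Set.mem_ofPred_eq, Set.mem_inter_iff, SC]
    exact ⟨fun h => ⟨h.1, hS h.1, h.2⟩, fun h => ⟨h.1, h.2.2⟩⟩

theorem val_cases {v : leechLattice} (hv : v ∈ XD leechU 0) :
    (v : GolayPt → ℤ) none = 0 ∨ (v : GolayPt → ℤ) none = 1 ∨ (v : GolayPt → ℤ) none = -1 ∨
    (v : GolayPt → ℤ) none = 2 ∨ (v : GolayPt → ℤ) none = -2 ∨ (v : GolayPt → ℤ) none = 4 ∨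
    (v : GolayPt → ℤ) none = -4 := by
  have h := hv.2
  rw [ip, dotInt_comm, dot_leechU] at h
  by_cases h2 : 2 ∣ (v : GolayPt → ℤ) none
  · have h1 := sq_le_sqNorm (v : GolayPt → ℤ) none
    rw [show sqNorm (v : GolayPt → ℤ) = 32 from hv.1] at h1
    have : -6 < (v : GolayPt → ℤ) none := by nlinarith
    have : (v : GolayPt → ℤ) none < 6 := by nlinarith
    omega
  · obtain ⟨c, j, hc⟩ := exists_so hv.1 h2
    rcases hc.three none with ⟨a1, a2⟩ | ⟨a1, a2⟩
    · rcases hc.three (some 0) with ⟨b1, b2⟩ | ⟨b1, b2⟩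
      · rw [← a1] at b1; cases b1
      · omega
    · omega

theorem splitX {S : Set leechLattice} (hS : S ⊆ XD leechU 0) :
    S.ncard = (S ∩ DK 1).ncard + ((S ∩ DK 2).ncard + ((S ∩ DK 4).ncard + ((S ∩ D0a).ncard +
      (S ∩ D0b).ncard))) := by
  have hf := finite_MinV.subset (hS.trans XD_sub)
  rw [split2 hf (fun v => (v : GolayPt → ℤ) none = 1 ∨ (v : GolayPt → ℤ) none = -1)]
  congr 1
  · congr 1; ext v
    simp only [Set.mem_ofPred_eq, Set.mem_inter_iff, DK]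
    exact ⟨fun h => ⟨h.1, (hS h.1).1, (hS h.1).2, h.2⟩, fun h => ⟨h.1, h.2.2.2⟩⟩
  rw [split2 (hf.subset fun v h => h.1) (fun v => (v : GolayPt → ℤ) none = 2 ∨ (v : GolayPt → ℤ) none = -2)]
  congr 1
  · congr 1; ext v
    simp only [Set.mem_ofPred_eq, Set.mem_inter_iff, DK]
    exact ⟨fun h => ⟨h.1.1, (hS h.1.1).1, (hS h.1.1).2, h.2⟩,
      fun h => ⟨⟨h.1, by have := h.2.2.2; omega⟩, h.2.2.2⟩⟩
  rw [split2 (hf.subset fun v h => h.1.1) (fun v => (v : GolayPt → ℤ) none = 4 ∨ (v : GolayPt → ℤ) none = -4)]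
  congr 1
  · congr 1; ext v
    simp only [Set.mem_ofPred_eq, Set.mem_inter_iff, DK]
    exact ⟨fun h => ⟨h.1.1.1, (hS h.1.1.1).1, (hS h.1.1.1).2, h.2⟩,
      fun h => ⟨⟨⟨h.1, by have := h.2.2.2; omega⟩, by have := h.2.2.2; omega⟩, h.2.2.2⟩⟩
  rw [split2 (hf.subset fun v h => h.1.1.1) (fun v => ∀ l, 4 ∣ (v : GolayPt → ℤ) l)]
  congr 1
  · congr 1; ext v
    simp only [Set.mem_ofPred_eq, Set.mem_inter_iff, D0a]
    exact ⟨fun h => ⟨h.1.1.1.1, (hS h.1.1.1.1).1, (hS h.1.1.1.1).2, by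
        have := val_cases (hS h.1.1.1.1); have := h.1.1.1.2; have := h.1.1.2; have := h.1.2; omega, h.2⟩,
      fun h => ⟨⟨⟨⟨h.1, by have := h.2.2.2.1; omega⟩, by have := h.2.2.2.1; omega⟩,
        by have := h.2.2.2.1; omega⟩, h.2.2.2.2⟩⟩
  · congr 1; ext v
    simp only [Set.mem_ofPred_eq, Set.mem_inter_iff, D0b]
    exact ⟨fun h => ⟨h.1.1.1.1, (hS h.1.1.1.1).1, (hS h.1.1.1.1).2, by
        have := val_cases (hS h.1.1.1.1); have := h.1.1.1.2; have := h.1.1.2; have := h.1.2; omega, h.2⟩,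
      fun h => ⟨⟨⟨⟨h.1, by have := h.2.2.2.1; omega⟩, by have := h.2.2.2.1; omega⟩,
        by have := h.2.2.2.1; omega⟩, h.2.2.2.2⟩⟩

theorem U_SA : leechU ∈ SA := ⟨sqNorm_leechU, fun l => by
  simp only [leechU, vecU]; split_ifs <;> norm_num⟩

theorem U'_SA : leechU' ∈ SA := ⟨sqNorm_leechU', fun l => by
  simp only [leechU', vecU']; split_ifs <;> norm_num⟩

theorem UU' : leechU + leechU' = e8 none := by
  refine Subtype.ext (funext fun l => ?_)
  rw [e8_apply]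
  revert l
  decide

theorem ipUU' : ip leechU leechU' = 0 := by
  rw [ip, dot_leechU']; decide

theorem eq_e8 {y : leechLattice} (hy : sqNorm (y : GolayPt → ℤ) = 64) {i : GolayPt}
    (h : (y : GolayPt → ℤ) i = 8 ∨ (y : GolayPt → ℤ) i = -8) : y = e8 i ∨ y = -e8 i := by
  rcases h with h | h
  · left
    have := sqNorm_sub (y : GolayPt → ℤ) (e8 i : GolayPt → ℤ)
    rw [dot_e8, sqNorm_e8, hy, h] at this
    exact Subtype.ext (sub_eq_zero.1 (sqNorm_eq_zero (by rw [this]; norm_num)))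
  · right
    have := sqNorm_add (y : GolayPt → ℤ) (e8 i : GolayPt → ℤ)
    rw [dot_e8, sqNorm_e8, hy, h] at this
    exact Subtype.ext (eq_neg_of_add_eq_zero_left (sqNorm_eq_zero (by rw [this]; norm_num)))

theorem mono_of_SA {H : Subgroup Co0} (h : ∀ g ∈ H, ∀ v ∈ SA, g • v ∈ SA) : H ≤ Mono := by
  intro g hg
  have ha := h g hg _ U_SA
  have hb := h g hg _ U'_SA
  have hab : ip (g • leechU') (g • leechU) = 0 := by rw [ip, dot_smul, dotInt_comm]; exact ipUU'
  have hs : g • e8 none = g • leechU + g • leechU' := by rw [← UU', co0_smul_add]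
  have hn : sqNorm ((g • e8 none : leechLattice) : GolayPt → ℤ) = 64 := by rw [sqNorm_smul, sqNorm_e8]
  obtain ⟨i, j, s, t, hij, hs1, ht1, h2, ea⟩ := shape44 ha.1 ha.2
  obtain ⟨k, l, s', t', hkl, hs2, ht2, h2', eb⟩ := shape44 hb.1 hb.2
  have hi : ((g • leechU : leechLattice) : GolayPt → ℤ) i = 4 * s := by
    rw [ea, v44_apply, if_pos rfl, if_neg hij]; ring
  have hj : ((g • leechU : leechLattice) : GolayPt → ℤ) j = 4 * t := by
    rw [ea, v44_apply, if_pos rfl, if_neg hij.symm]; ring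
  have hbv : ∀ x, ((g • leechU' : leechLattice) : GolayPt → ℤ) x = 0 ∨
      ((g • leechU' : leechLattice) : GolayPt → ℤ) x = 4 ∨
      ((g • leechU' : leechLattice) : GolayPt → ℤ) x = -4 := by
    intro x
    rw [eb, v44_apply]
    split_ifs with h1 h2
    · exact absurd (h1.symm.trans h2) hkl
    all_goals omega
  have hab' := hab
  rw [ip, ea, dot_v44] at hab'
  have val : ∀ x, ((g • e8 none : leechLattice) : GolayPt → ℤ) x =
      ((g • leechU : leechLattice) : GolayPt → ℤ) x + ((g • leechU' : leechLattice) : GolayPt → ℤ) x := by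
    intro x; rw [hs]; rfl
  by_cases h0 : ((g • leechU' : leechLattice) : GolayPt → ℤ) i = 0
  · exfalso
    obtain ⟨m, hm⟩ : ∃ m, m ∉ ({i, j, k, l} : Finset GolayPt) := by
      by_contra hc
      push Not at hc
      have := Finset.card_le_card (s := Finset.univ) (t := {i, j, k, l}) fun x _ => hc x
      rw [Finset.card_univ, Lib.Leech.card_golayPt] at this
      have := Finset.card_le_four (a := i) (b := j) (c := k) (d := l)
      omega
    simp only [Finset.mem_insert, Finset.mem_singleton, not_or] at hm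
    have him : i ≠ m := fun e => hm.1 e.symm
    have hw : v44 i m 1 1 (by norm_num) ∈ SA :=
      ⟨by show _ = _; rw [sqNorm_v44 him]; norm_num, fun x => by rw [v44_apply]; exact dvd_mul_right _ _⟩
    have hw' := h g⁻¹ (H.inv_mem hg) _ hw
    have d1 := dot_smul g (g⁻¹ • v44 i m 1 1 (by norm_num)) leechU
    have d2 := dot_smul g (g⁻¹ • v44 i m 1 1 (by norm_num)) leechU'
    rw [smul_inv_smul, dotInt_comm, dot_v44] at d1 d2
    rw [dot_leechU, hi, ea, v44_apply, if_neg hm.1, if_neg hm.2.1] at d1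
    rw [dot_leechU', h0, eb, v44_apply, if_neg hm.2.2.1, if_neg hm.2.2.2] at d2
    have := hw'.2 none
    omega
  · have bi := hbv i
    have bj := hbv j
    have vi := val i
    have vj := val j
    by_cases h8 : ((g • e8 none : leechLattice) : GolayPt → ℤ) i = 0
    · exact mem_Mono_of (eq_e8 hn (i := j) (by
        rcases hs1 with rfl | rfl <;> rcases ht1 with rfl | rfl <;> omega))
    · exact mem_Mono_of (eq_e8 hn (i := i) (by omega))

theorem step1 {H : Subgroup Co0} (h : Mono < H) : ∀ v ∈ MinV, v ∈ OO H leechU := by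
  have hs : OO H leechU ⊆ MinV := by
    rintro _ ⟨g, -, rfl⟩; exact (smul_mem_MinV g).2 sqNorm_leechU
  have h0 : leechU ∈ OO H leechU := ⟨1, H.one_mem, one_smul _ _⟩
  have hA : SA ⊆ OO H leechU := (OO_cls h.le leechU tA).resolve_left fun e =>
    (Set.nonempty_iff_ne_empty.1 (⟨leechU, h0, U_SA⟩ : Set.Nonempty (_ ∩ _))) e
  have c1 := splitM hs
  have c2 := splitM (S := MinV) subset_rfl
  have i1 : SA ⊆ MinV := fun v h => h.1
  have i2 : SB ⊆ MinV := fun v h => h.1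
  have i3 : SC ⊆ MinV := fun v h => h.1
  rw [Set.inter_eq_right.2 i1, Set.inter_eq_right.2 i2, Set.inter_eq_right.2 i3, cntAC.1, cntAC.2, show MinV.ncard = 196560 from ncard_norm32] at c2
  rw [Set.inter_eq_right.2 hA, cntAC.1] at c1
  have hB := OO_cnt h.le leechU tB
  have hC := OO_cnt h.le leechU tC
  rw [cntAC.2] at hC
  have hd : (OO H leechU).ncard ∣ 8315553613086720000 := by
    rw [← card_Co0]
    exact (Dvd.intro _ (card_eq_ncard_mul H leechU).symm).trans (Subgroup.card_subgroup_dvd_card H)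
  have hne : (OO H leechU).ncard ≠ 1104 := by
    intro e
    have e' : SA = OO H leechU :=
      Set.eq_of_subset_of_ncard_le hA (by rw [e, cntAC.1]) (finite_MinV.subset hs)
    exact h.not_ge (mono_of_SA fun g hg v hv => by rw [e'] at hv ⊢; exact OO_inv hg hv)
  have : (OO H leechU).ncard = 196560 := by
    rcases hB with hB | hB <;> rcases hC with hC | hC
    · omega
    · rw [show (OO H leechU).ncard = 99408 by omega] at hd; norm_num at hd
    · rw [show (OO H leechU).ncard = 98256 by omega] at hd; norm_num at hd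
    · omega
  rw [Set.eq_of_subset_of_ncard_le hs (by rw [this]; exact ncard_norm32.le) finite_MinV]
  exact fun v h => h

theorem step2 {H : Subgroup Co0} (h : Mono < H) :
    ∀ v ∈ XD leechU 0, v ∈ OO (H ⊓ stabilizer Co0 leechU) leechU' := by
  have hU : leechU' ∈ XD leechU 0 := ⟨sqNorm_leechU', ipUU'⟩
  have hs : OO (H ⊓ stabilizer Co0 leechU) leechU' ⊆ XD leechU 0 := by
    rintro _ ⟨g, hg, rfl⟩; exact XD_inv g hg.2 _ hU
  have hK : KK ≤ H ⊓ stabilizer Co0 leechU := inf_le_inf_right _ h.le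
  have h0 : leechU' ∈ OO (H ⊓ stabilizer Co0 leechU) leechU' := ⟨1, Subgroup.one_mem _, one_smul _ _⟩
  have h4 : DK 4 ⊆ OO (H ⊓ stabilizer Co0 leechU) leechU' :=
    (OO_cls hK leechU' t4).resolve_left fun e =>
      (Set.nonempty_iff_ne_empty.1
        (⟨leechU', h0, sqNorm_leechU', ipUU', Or.inl rfl⟩ : Set.Nonempty (_ ∩ DK 4))) e
  have c1 := splitX hs
  have c2 := splitX (S := XD leechU 0) subset_rfl
  have cX : (XD leechU 0).ncard = 93150 := census_UV.1
  have i1 : ∀ k, DK k ⊆ XD leechU 0 := fun k v h => ⟨h.1, h.2.1⟩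
  have i2 : D0a ⊆ XD leechU 0 := fun v h => ⟨h.1, h.2.1⟩
  have i3 : D0b ⊆ XD leechU 0 := fun v h => ⟨h.1, h.2.1⟩
  rw [Set.inter_eq_right.2 (i1 1), Set.inter_eq_right.2 (i1 2), Set.inter_eq_right.2 (i1 4),
    Set.inter_eq_right.2 i2, Set.inter_eq_right.2 i3, cnt12.1, cnt12.2, cnt40.1, cnt40.2, cX] at c2
  rw [Set.inter_eq_right.2 h4, cnt40.1] at c1
  have a1 := OO_cnt hK leechU' t1
  have a2 := OO_cnt hK leechU' t2
  have a3 := OO_cnt hK leechU' t0a
  have a4 := OO_cnt hK leechU' t0b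
  rw [cnt12.1] at a1
  rw [cnt12.2] at a2
  rw [cnt40.2] at a3
  obtain ⟨k, hk, ek⟩ := step1 h x0 (sqNorm_oddVec none)
  have hd := dvd23 (finite_MinV.subset (hs.trans XD_sub)) (k⁻¹ * prm sh * k)
    (by rw [← inv_inv k, inv_inv k⁻¹, conj_pow, sh_pow]; simp)
    (fun v hv => OO_inv ⟨H.mul_mem (H.mul_mem (H.inv_mem hk) (h.le (prm_mem_Mono sh))) hk, by
      show _ • leechU = leechU
      rw [mul_smul, mul_smul, ek, sh_x0, ← ek, inv_smul_smul]⟩ hv)
    (fun v hv e => by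
      refine sh_nofix (v := k • v) ((smul_mem_MinV k).2 (hs hv).1) ?_ ?_
      · rw [← ek, ip, dot_smul]; exact (hs hv).2
      · rw [mul_smul, mul_smul, inv_smul_eq_iff] at e; exact e)
  have : (OO (H ⊓ stabilizer Co0 leechU) leechU').ncard = 93150 := by omega
  rw [Set.eq_of_subset_of_ncard_le hs (by rw [this, cX]) (finite_MinV.subset XD_sub)]
  exact fun v h => h

theorem coatom : IsCoatom Mono := by
  refine ⟨fun e => ?_, fun H h => ?_⟩
  · have := card_Mono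
    rw [e, Subgroup.card_top, card_Co0] at this
    norm_num at this
  · rw [eq_top_iff]
    intro g _
    obtain ⟨k, hk, ek⟩ := step1 h (g • leechU) ((smul_mem_MinV g).2 sqNorm_leechU)
    have e1 : (k⁻¹ * g) • leechU = leechU := by rw [mul_smul, ← ek, inv_smul_smul]
    obtain ⟨m, hm, em⟩ := step2 h ((k⁻¹ * g) • leechU') (XD_inv _ e1 _ ⟨sqNorm_leechU', ipUU'⟩)
    have e2 : (m⁻¹ * (k⁻¹ * g)) • e8 none = e8 none := by
      have e3 : m • leechU = leechU := hm.2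
      rw [← UU', mul_smul, co0_smul_add, e1, ← em, co0_smul_add, inv_smul_smul, inv_smul_eq_iff.2 e3.symm]
    have := h.le (mem_Mono_of (Or.inl e2))
    have e4 : g = k * (m * (m⁻¹ * (k⁻¹ * g))) := by group
    rw [e4]
    exact H.mul_mem hk (H.mul_mem hm.1 this)

/-- The stabiliser of the standard cross is a maximal proper subgroup of the lattice's automorphism group. -/
theorem result (H : Subgroup ↥Cfsg.Co0) (hH : (H : Set ↥Cfsg.Co0) = {g : ↥Cfsg.Co0 | (∀ v : ↥Cfsg.leechLattice, (v : Cfsg.GolayPt → ℤ) ∈ Cfsg.stdCross → ((g • v : ↥Cfsg.leechLattice) : Cfsg.GolayPt → ℤ) ∈ Cfsg.stdCross)}) : IsCoatom H := by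
  have : H = Mono := by
    ext g
    rw [mem_Mono_iff_stdCross, ← SetLike.mem_coe, hH]
    rfl
  rw [this]
  exact coatom

end Cfsg.Agent.S1572
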