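import Cfsg.Statements.S1784
import Cfsg.Agent.Lib.Known2.LE4

set_option autoImplicit false
open Cfsg

namespace Cfsg.Agent.S1784

open Subgroup Cfsg.Lib Cfsg.Lib.Known2 Cfsg.Lib.Amalg Cfsg.Lib.Layer Cfsg.Lib.Core

theorem xs_eqv {G H : Type*} [Group G] [Group H] {p : ℕ} (e : G ≃* H) (h : IsExtraspecial p G) :
    IsExtraspecial p H := by
  have h1 : (center G).map (e : G →* H) = center H := by
    rw [← Core.centralizer_top_eq_center, ← Core.centralizer_top_eq_center,
      Core.map_equiv_centralizer, map_top_of_surjective _ e.surjective]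
  refine ⟨⟨h.1.1.of_equiv e, ?_, ?_⟩, by rw [← h1, card_map_of_injective e.injective, h.2]⟩
  · rw [← h1, ← h.1.2.1]; exact (map_frattini_equiv e).symm
  · rw [← h1, ← h.1.2.2, _root_.commutator_def, _root_.commutator_def, map_commutator,
      map_top_of_surjective _ e.surjective]

theorem aux {G : Type*} [Group G] [Finite G] {Q : Subgroup G} {z : G} (h : LS Q z) (α : G)
    (hα : orderOf α = 2) (hαC : α * z = z * α) (hαQ : α ∉ Q) (Q₀ : Subgroup G)
    (hQ₀ : ∀ q : G, q ∈ Q₀ ↔ (q ∈ Q ∧ α * q * α⁻¹ * q⁻¹ ∈ zpowers z)) :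
    closure ((fun q : G => α * q * α⁻¹ * q⁻¹) '' (Q : Set G)) = (center Q₀).map Q₀.subtype ∧
      (¬ Q₀ ≤ (Q ⊓ centralizer ({α} : Set G)) ⊔ zpowers z → ∃ q ∈ Q, q * α * q⁻¹ = α * z) := by
  have haa : α * α = 1 := by rw [← pow_two, ← hα, pow_orderOf_eq_one]
  have hai : α⁻¹ = α := inv_eq_of_mul_eq_one_right haa
  have hn := h.norm α hαC
  have h2 : ∀ x, α * (α * x * α⁻¹) * α⁻¹ = x := fun x => by
    calc _ = (α * α) * x * (α * α)⁻¹ := by group
      _ = x := by rw [haa]; group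
  have hcc : ∀ x y, α * x * α⁻¹ * (α * y * α⁻¹) = α * y * α⁻¹ * (α * x * α⁻¹) ↔ x * y = y * x :=
    fun x y => by rw [conj_mul, conj_mul, mul_left_inj, mul_right_inj]
  have hinv : ∀ x y : G, x * y⁻¹ = y⁻¹ * x ↔ x * y = y * x := fun x y =>
    ⟨fun e => (Commute.inv_right_iff.1 e).eq, fun e => (Commute.inv_right e).eq⟩
  have hc : ∀ q ∈ Q, α * q * α⁻¹ * q⁻¹ ∈ Q := fun q hq => mul_mem (hn q hq) (inv_mem hq)
  have hQ0 : ∀ q, q ∈ Q₀ ↔ q ∈ Q ∧ (α * q * α⁻¹ = q ∨ α * q * α⁻¹ = z * q) := fun q => by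
    rw [hQ₀, h.toES.mem_zp, mul_inv_eq_one, mul_inv_eq_iff_eq_mul (c := z)]
  set A := closure ((fun q : G => α * q * α⁻¹ * q⁻¹) '' (Q : Set G)) with hA
  have hAm : ∀ q ∈ Q, α * q * α⁻¹ * q⁻¹ ∈ A := fun q hq => subset_closure ⟨q, hq, rfl⟩
  have hAQ : A ≤ Q := (closure_le _).2 (by rintro _ ⟨q, hq, rfl⟩; exact hc q hq)
  refine ⟨le_antisymm ?_ ?_, fun hne => ?_⟩
  · rw [Core.map_subtype_center, hA, closure_le]
    rintro _ ⟨q, hq, rfl⟩
    refine mem_inf.2 ⟨(hQ₀ _).2 ⟨hc q hq, ?_⟩, mem_centralizer_comm.2 fun x hx => ?_⟩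
    · have e : α * (α * q * α⁻¹ * q⁻¹) * α⁻¹ = (α * q * α⁻¹ * q⁻¹)⁻¹ := by
        rw [← conj_mul, h2]; group
      rw [e, h.toES.mem_zp]
      exact h.sq_mem _ (inv_mem (hc q hq))
    · obtain ⟨hx, hx'⟩ := (hQ0 x).1 hx
      simp only
      rw [h.toES.mul_comm_iff hx (hn q hq) (inv_mem hq), hinv, ← hcc x q]
      rcases hx' with e | e <;> rw [e]
      rw [mul_assoc z, ← mul_assoc _ z, h.cen _ (hn q hq), mul_assoc z, mul_right_inj]
  · have hzA : z ∈ A := by
      obtain ⟨q, hq, e1, e2⟩ : ∃ q ∈ Q, α * q * α⁻¹ ≠ q ∧ α * q * α⁻¹ ≠ q * z := by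
        by_contra hcon
        push Not at hcon
        exact hαQ (h.mem_of_inner hαC fun x hx => or_iff_not_imp_left.2 (hcon x hx))
      obtain ⟨y, hy, hcy⟩ := h.toES.exists_anti (hc q hq) (fun e => e1 (mul_inv_eq_one.1 e))
        (fun e => e2 (by rw [mul_inv_eq_iff_eq_mul.1 e, h.cen q hq]))
      have e3 := h.toES.conj_anti hy (hc q hq) (Ne.symm hcy)
      have e4 : α * (y * q) * α⁻¹ * (y * q)⁻¹ =
          α * y * α⁻¹ * y⁻¹ * (y * (α * q * α⁻¹ * q⁻¹) * y⁻¹) := by group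
      have := mul_mem (inv_mem (mul_mem (hAm y hy) (hAm q hq))) (hAm _ (mul_mem hy hq))
      rwa [e4, e3, ← mul_assoc _ _ z, inv_mul_cancel_left] at this
    rw [Core.map_subtype_center]
    intro x hx
    obtain ⟨hx0, hxc⟩ := mem_inf.1 hx
    by_contra hxA
    obtain ⟨g, hg, hgA, hgx⟩ := h.toES.exists_sep hAQ hzA ((hQ0 x).1 hx0).1 hxA
    refine hgx (mem_centralizer_comm.1 hxc g ((hQ₀ g).2 ⟨hg, h.toES.mem_zp.2
      (h.of_cen _ (hc g hg) fun q hq => ?_)⟩))
    have := hgA _ (hAm q hq)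
    rw [h.toES.mul_comm_iff hg (hn q hq) (inv_mem hq), hinv, ← hcc g (α * q * α⁻¹), h2] at this
    symm
    rw [h.toES.mul_comm_iff hq (hn g hg) (inv_mem hg), hinv, eq_comm, this, eq_comm]
  · by_contra hcon
    push Not at hcon
    refine hne fun q hq => mem_sup_left ?_
    obtain ⟨hq, e | e⟩ := (hQ0 q).1 hq
    · exact mem_inf.2 ⟨hq, mem_cent_single.2 (comm_of_conj_eq e).symm⟩
    · refine absurd ?_ (hcon q hq)
      calc q * α * q⁻¹ = α * (α * q * α⁻¹) * q⁻¹ := by
            rw [hai, ← mul_assoc, ← mul_assoc, haa, one_mul]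
        _ = α * z := by rw [e]; group

/-- Let G be a finite group and let z be an involution of G such that Q, the generalized Fitting subgroup of the centralizer C of z, is a 2-group of symplectic type (every characteristic abelian subgroup of Q is cyclic); suppose Q is extraspecial, and view Q inside G. Let α be an involution of C that is not in Q, and let Q₀ be the subgroup of those q ∈ Q whose commutator with α lies in the subgroup generated by z. Then (a) the subgroup generated by the commutators α q α⁻¹ q⁻¹, q ∈ Q, equals the centre of Q₀; and (b) if Q₀ is not contained in the product of the centralizer of α in Q with the subgroup generated by z, then some element of Q conjugates α to α z. -/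
theorem result {G : Type*} [Group G] [Finite G] (z : G) (hz : orderOf z = 2) (hQ : Cfsg.IsOfSymplecticType ↥(Cfsg.generalizedFittingSubgroup ↥(Subgroup.centralizer ({z} : Set G)))) (hE : Cfsg.IsExtraspecial 2 ↥(Cfsg.generalizedFittingSubgroup ↥(Subgroup.centralizer ({z} : Set G))))
    (α : G) (hα : orderOf α = 2) (hαC : α ∈ Subgroup.centralizer ({z} : Set G)) (hαQ : α ∉ (Cfsg.generalizedFittingSubgroup ↥(Subgroup.centralizer ({z} : Set G))).map (Subgroup.centralizer ({z} : Set G)).subtype)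
    (Q₀ : Subgroup G) (hQ₀ : ∀ q : G, q ∈ Q₀ ↔ (q ∈ (Cfsg.generalizedFittingSubgroup ↥(Subgroup.centralizer ({z} : Set G))).map (Subgroup.centralizer ({z} : Set G)).subtype ∧ α * q * α⁻¹ * q⁻¹ ∈ Subgroup.zpowers z)) :
    Subgroup.closure ((fun q : G => α * q * α⁻¹ * q⁻¹) '' ((Cfsg.generalizedFittingSubgroup ↥(Subgroup.centralizer ({z} : Set G))).map (Subgroup.centralizer ({z} : Set G)).subtype : Set G)) = (Subgroup.center ↥Q₀).map Q₀.subtype ∧
      (¬ Q₀ ≤ ((Cfsg.generalizedFittingSubgroup ↥(Subgroup.centralizer ({z} : Set G))).map (Subgroup.centralizer ({z} : Set G)).subtype ⊓ Subgroup.centralizer ({α} : Set G)) ⊔ Subgroup.zpowers z →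
        ∃ q ∈ (Cfsg.generalizedFittingSubgroup ↥(Subgroup.centralizer ({z} : Set G))).map (Subgroup.centralizer ({z} : Set G)).subtype, q * α * q⁻¹ = α * z) := by
  exact aux (ls_of_fstar hz rfl (xs_eqv (equivMapOfInjective _ _ (subtype_injective _)) hE)).1 α hα
    (mem_cent_single.1 hαC) hαQ Q₀ hQ₀

end Cfsg.Agent.S1784
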