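import Cfsg.Statements.S5397
import Cfsg.Agent.Lib.Small.CoT6
import Cfsg.Agent.Lib.Hall.Gaschutz

set_option autoImplicit false
open Cfsg

namespace Cfsg.Agent.S5397

open Cfsg.Lib.Leech Cfsg.Lib.Golay Cfsg.Spor Cfsg.Lib.Forms Subgroup Cfsg.Lib.Small.Co1Z Cfsg.Lib.Known2
  Cfsg.Lib.Core Cfsg.Agent.S5388 Function Cfsg.Lib.Small.CoT
open scoped Pointwise symmDiff

section
variable {G : Type*} [Group G] {Q : Subgroup G} {z g : G} {ρ : LL →* D8.isom} {Φ : LL →* G}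

/-- pairs acting in the same way on the sign changes -/
def Ac (Φ : LL →* G) : Subgroup (G × M24) where
  carrier := {p | ∀ c, Cw c → p.1 * Φ (S c) * p.1⁻¹ = Φ (S (p.2.1 • c))}
  one_mem' := fun c _ => by simp
  mul_mem' := fun {a b} ha hb c hc => by
    rw [Prod.snd_mul, coe_mul, mul_smul, ← ha _ (cw_smul b.2.2 hc), ← hb c hc, Prod.fst_mul]; group
  inv_mem' := fun {a} ha c hc => by
    have := ha _ (cw_smul (inv_mem a.2.2) hc)
    rw [smul_inv_smul] at this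
    rw [← this, Prod.fst_inv, Prod.snd_inv, coe_inv]; group

theorem Ac_SP {c : Finset GolayPt} {σ : Equiv.Perm GolayPt} (hc : Cw c) (h : σ ∈ HO) :
    (Φ (S c * P σ), (⟨σ, h.1⟩ : M24)) ∈ Ac Φ := fun d hd => by
  rw [← map_inv, ← map_mul, ← map_mul, SP_conj hc h hd]

theorem Ac_P {σ : Equiv.Perm GolayPt} (h : σ ∈ HO) : (Φ (P σ), (⟨σ, h.1⟩ : M24)) ∈ Ac Φ := by
  simpa [S_empty] using Ac_SP (Φ := Φ) cw_empty h

theorem Ac_norm [Finite G] {n : G} {σ : M24} (h : (n, σ) ∈ Ac Φ) : n ∈ normalizer (AA Φ : Set G) :=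
  mem_normalizer_of_conj_mem fun x hx => by
    obtain ⟨c, hc, rfl⟩ := mem_AA.1 hx
    exact mem_AA.2 ⟨_, cw_smul σ.2 hc, (h c hc).symm⟩

theorem gen24 {R : Subgroup (Equiv.Perm GolayPt)} (h1 : HO ≤ R) (h2 : gc.dec sg1 ∈ R) : M24 ≤ R := by
  have s : gc.InH R sg1 := ⟨sg1_M.1, h2⟩
  have := fun g hg => (inH_inf_om (gs := [0x30b130a08100e0704110c140d16090f1215020600050117,
    0x1708060d160b02121501140c0a1013090704110f05030e00, 0x10d090a160b050704110c0f10121506081302140317000e,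
    0x20907041206110f140116130b0d0a08150c05100017030e, 0x3060d151308001210050f07160b0a14090c11040e170102])
    (inH_of_allL (by decide +kernel)) 0x82402f (by decide +kernel) g hg).mono h1
  simp only [List.forall_mem_cons] at this
  obtain ⟨a1, a2, a3, a4, a5, -⟩ := this
  rw [← gen_gM24p]
  refine Coding.gen_le fun g hg => ?_
  simp only [gM24p, List.mem_cons, List.not_mem_nil, or_false] at hg
  rcases hg with rfl | rfl
  · have := ((((((a1.mul s).mul a2).mul s).mul a3).mul s).mul a4)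
    convert this using 1; decide +kernel
  · have := ((((a2.mul s).mul a3).mul s).mul a5)
    convert this using 1; decide +kernel

variable (H : PH ρ Φ Q z g)
include H

theorem Ac_one {n : G} {σ : M24} (h : (n, σ) ∈ Ac Φ) : σ = 1 ↔ n ∈ AA Φ := by
  constructor
  · rintro rfl
    have e : ∀ c, Cw c → n * Φ (S c) = Φ (S c) * n := fun c hc => comm_of_conj_eq (by simpa using h c hc)
    obtain ⟨l, rfl⟩ := (H.rng n).1 (H.zo ▸ e _ cw_oo)
    obtain ⟨c, hc, rfl⟩ := SG (l := l) fun c hc => by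
      have := e c hc.1
      rwa [← map_mul, ← map_mul, H.inj, map_mul, map_mul] at this
    exact mem_AA.2 ⟨c, hc, rfl⟩
  · intro hn
    have e : ∀ c, Cw c → σ.1 • c = c ∨ σ.1 • c = cᶜ := fun c hc => (H.S_eq (cw_smul σ.2 hc) hc).1
      ((h c hc).symm.trans (conj_eq_of_comm (AA_comm hn (mem_AA.2 ⟨c, hc, rfl⟩))))
    refine Subtype.ext (fix_one ⟨σ.2, (e _ cw_oo).resolve_right fun e => ?_⟩ fun c hc => e c hc.1)
    have := congrArg Finset.card e
    rw [Finset.card_smul_finset, Finset.card_compl, Lib.Golay.card_golayPt, O0_mem.2] at this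
    omega

variable [Finite G] (hρ : ∀ (g : LL) v, Lm v → (ρ g).1 (cl v) = cl ((g : Co0) • v))
include hρ

theorem Ac_sur (σ : M24) : ∃ n, (n, σ) ∈ Ac Φ := by
  obtain ⟨y, hy⟩ := H.exists_y hρ
  obtain ⟨_, ⟨⟨n, τ⟩, h, rfl⟩, e⟩ := gen24 (R := ((Ac Φ).map (MonoidHom.snd _ _)).map M24.subtype)
    (fun σ h => ⟨_, ⟨_, Ac_P h, rfl⟩, rfl⟩) ⟨_, ⟨(y, ⟨_, sg1_M.2⟩), hy, rfl⟩, rfl⟩ σ.2
  exact ⟨n, (Subtype.ext e : τ = σ) ▸ h⟩

omit [Finite G] hρ in
theorem Ac_pow {n : G} {σ : M24} (h : (n, σ) ∈ Ac Φ) (k : ℕ) (e : n ^ k = 1) : orderOf σ.1 ∣ k :=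
  orderOf_dvd_iff_pow_eq_one.2 (congrArg Subtype.val
    ((Ac_one H (n := n ^ k) (σ := σ ^ k) (pow_mem h k)).2 (e ▸ one_mem _)))

theorem nofuse (n : G) {d : Finset GolayPt} (hd : d ∈ dodecads) : n * z * n⁻¹ ≠ Φ (S d) := by
  intro e
  obtain ⟨σ, hσ, rfl⟩ := exists_M24_dodecad (om_mem_dodecads (m := 0x5335f) (by decide +kernel)) hd
  have c0 : Cw (om 0x5335f) := om_mem_cw (by decide +kernel)
  obtain ⟨k, hk⟩ := Ac_sur H hρ ⟨σ, hσ⟩
  have v := inH_gM12 0xe151117130414020a0f0112070b0308050d161006000c09 (by simp [gM12])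
  obtain ⟨m, hm⟩ := Ac_sur H hρ ⟨_, (mem_M12.1 v.2).1⟩
  have e1 := hm _ c0
  simp only [(mem_M12.1 v.2).2] at e1
  rw [← hk _ c0] at e
  obtain ⟨τ, -, h2⟩ := H.quo
  have e2 : (k⁻¹ * n)⁻¹ * m * (k⁻¹ * n) * z = z * ((k⁻¹ * n)⁻¹ * m * (k⁻¹ * n)) := by
    have : z = (k⁻¹ * n)⁻¹ * Φ (S (om 0x5335f)) * (k⁻¹ * n) := by
      calc z = n⁻¹ * (n * z * n⁻¹) * n := by group
        _ = _ := by rw [e]; group
    rw [this]; nth_rw 2 [← e1]; group
  have := Module.finite_of_finite (ZMod 2) (M := V8)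
  have := Form.finite_isom (D := D8)
  have e3 := H.pow_four ((h2 (⟨_, mem_cent_single.2 e2⟩ ^ 174182400)).1
    (by rw [map_pow, ← card_om8, pow_card_eq_one']))
  rw [coe_pow, ← pow_mul, coe_mk, show (k⁻¹ * n)⁻¹ * m * (k⁻¹ * n) = (k⁻¹ * n)⁻¹ * m * (k⁻¹ * n)⁻¹⁻¹ by group,
    conj_pow, conj_eq_one_iff] at e3
  have e5 := Ac_pow H hm _ e3
  rw [coe_mk, orderOf_eq_prime (p := 11) (hp := ⟨by norm_num⟩)
    ((v.1.pow_eq_one_iff 11).2 (by decide +kernel)) fun e => absurd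
      ((v.1.pow_eq_one_iff 1).1 (by rw [e, one_pow])) (by decide +kernel)] at e5
  norm_num at e5

theorem orb {x : G} (hx : x ∈ AA Φ) (h1 : x ≠ 1) : (∃ n σ, (n, σ) ∈ Ac Φ ∧ n * x * n⁻¹ = z) ∨
    ∃ d ∈ dodecads, x = Φ (S d) := by
  obtain ⟨c, hc, rfl⟩ := mem_AA.1 hx
  have oc : ∀ c ∈ octads, ∃ n σ, (n, σ) ∈ Ac Φ ∧ n * Φ (S c) * n⁻¹ = z := fun c hc => by
    obtain ⟨σ, hσ, e⟩ := exists_M24_octad hc O0_mem
    obtain ⟨n, hn⟩ := Ac_sur H hρ ⟨σ, hσ⟩
    exact ⟨n, _, hn, by rw [hn c hc.1, e, H.zo]⟩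
  rw [← map_one Φ, ← S_empty, Ne, H.S_eq hc cw_empty] at h1
  rcases card_cw hc with e | e | e | e | e
  · exact absurd (.inl (Finset.card_eq_zero.1 e)) h1
  · exact .inl (oc c ⟨hc, e⟩)
  · exact .inr ⟨c, ⟨hc, e⟩, rfl⟩
  · rw [(H.S_eq hc (cw_compl hc)).2 (.inr (compl_compl c).symm)]
    exact .inl (oc _ ⟨cw_compl hc, by rw [Finset.card_compl, e, Lib.Golay.card_golayPt]⟩)
  · exact absurd (.inr (by simpa using Finset.eq_univ_of_card c (e.trans Lib.Golay.card_golayPt.symm))) h1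

theorem Ac_tot {n : G} (hn : n ∈ normalizer (AA Φ : Set G)) : ∃ σ, (n, σ) ∈ Ac Φ := by
  have zA : z ∈ AA Φ := mem_AA.2 ⟨_, cw_oo, H.zo⟩
  rcases orb H hρ ((mem_normalizer_iff.1 hn z).1 zA) (by simpa using H.ne) with ⟨k, σ, hk, e⟩ | ⟨d, hd, e⟩
  · obtain ⟨l, hl⟩ := (H.rng (k * n)).1 (comm_of_conj_eq (Eq.trans (by group) e))
    have m := mul_mem (Ac_norm hk) hn
    obtain ⟨c, τ, hc, hτ, rfl⟩ := NG (l := l) fun c hc => by
      obtain ⟨d, hd, e⟩ := mem_AA.1 ((mem_normalizer_iff.1 (inv_mem m) _).1 (mem_AA.2 ⟨c, hc, rfl⟩))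
      refine ⟨d, hd, ?_⟩
      rw [← map_mul, ← map_mul, ← H.inj, map_mul, map_mul, e, hl]; group
    have := mul_mem (inv_mem hk) (hl ▸ Ac_SP (Φ := Φ) hc hτ)
    exact ⟨_, by simpa using this⟩
  · exact absurd e (nofuse H hρ n hd)

omit hρ in
theorem card_AA : Nat.card (AA Φ) = 2 ^ 11 := by
  have h1 : Nat.card (Sgn.subgroupOf LL) = 4096 := by
    rw [← card_Sgn]
    exact Nat.card_congr (subgroupOfEquivOfLe (by rintro _ ⟨c, hc, rfl⟩; exact sgn_LL hc)).toEquiv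
  have m : S Finset.univ ∈ Sgn.subgroupOf LL := by rw [mem_subgroupOf, S_univ]; exact negOne_mem_Sgn
  have h2 : (Φ.comp (Sgn.subgroupOf LL).subtype).ker = zpowers ⟨_, m⟩ := by
    ext x
    rw [mem_zpowers_invol (Subtype.ext (S_sq cw_univ)), MonoidHom.mem_ker, ← map_one Φ, Subtype.ext_iff,
      Subtype.ext_iff (a1 := x)]
    refine (H.inj _ _).trans (θ_eq.trans (or_congr_right ?_))
    rw [coe_one, mul_one, ← S_univ, SetLike.coe_eq_coe]; rfl
  have h3 := (Φ.comp (Sgn.subgroupOf LL).subtype).ker.card_mul_index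
  rw [index_ker, h2, card_zpowers_invol (Subtype.ext (S_sq cw_univ)) fun e => negOne_ne_one
    (S_univ.symm.trans (congrArg (fun x => x.1.1) e)), h1, ← MonoidHom.map_range, range_subtype] at h3
  show Nat.card ((Sgn.subgroupOf LL).map Φ) = _
  omega

end

/-- Let G be a finite group of Conway type (involution z with generalized Fitting subgroup Q of its centralizer C extraspecial of order 2^9, C/Q the commutator subgroup of the isometry group of the hyperbolic quadratic form in dimension 8 over the field with two elements, z not weakly closed in Q). Then G has an elementary abelian subgroup A of order 2^11 containing z whose normalizer N is a split extension of A with N/A isomorphic to the automorphism group of the length-24 code built from the squares modulo 23, and N has exactly two orbits on the non-identity elements of A. -/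
theorem result {G : Type*} [Group G] [Finite G] (z : G) (hz : orderOf z = 2) (Q : Subgroup (Subgroup.centralizer ({z} : Set G))) [Q.Normal] (hF : Cfsg.generalizedFittingSubgroup (Subgroup.centralizer ({z} : Set G)) = Q) (hQ : Cfsg.IsExtraspecial 2 Q) (hcard : Nat.card Q = 2 ^ 9) (e : (Subgroup.centralizer ({z} : Set G)) ⧸ Q ≃* Cfsg.Omega (ZMod 2) (Cfsg.quadFormPlus 4 (ZMod 2))) (hnwc : ∃ g : G, (∃ hq : g * z * g⁻¹ ∈ Subgroup.centralizer ({z} : Set G), (⟨g * z * g⁻¹, hq⟩ : Subgroup.centralizer ({z} : Set G)) ∈ Q) ∧ g * z * g⁻¹ ≠ z) : ∃ A : Subgroup G, Cfsg.IsElementaryAbelian 2 A ∧ Nat.card A = 2 ^ 11 ∧ z ∈ A ∧ ∃ _ : (A.subgroupOf (Subgroup.normalizer (A : Set G))).Normal, Nonempty (↥(Subgroup.normalizer (A : Set G)) ⧸ A.subgroupOf (Subgroup.normalizer (A : Set G)) ≃* ↥Cfsg.M24) ∧ (∃ K : Subgroup ↥(Subgroup.normalizer (A : Set G)), (A.subgroupOf (Subgroup.normalizer (A : Set G))).IsComplement' K)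 ∧ ∃ a ∈ A, ∃ b ∈ A, a ≠ 1 ∧ b ≠ 1 ∧ (∀ n ∈ Subgroup.normalizer (A : Set G), n * a * n⁻¹ ≠ b) ∧ ∀ c ∈ A, c ≠ 1 → ∃ n ∈ Subgroup.normalizer (A : Set G), n * c * n⁻¹ = a ∨ n * c * n⁻¹ = b := by
  have h := XT.of hz hF hQ hcard (e.trans (omegaIso D8 fPlus_Q))
  obtain ⟨g, ⟨hq, hg⟩, hne⟩ := hnwc
  obtain ⟨ρ, hρ⟩ := exists_rho
  obtain ⟨Φ, H⟩ := exists_PH hρ h ⟨_, hg, rfl⟩ hne
  have zA : z ∈ AA Φ := mem_AA.2 ⟨_, cw_oo, H.zo⟩
  choose f hf using fun n : normalizer (AA Φ : Set G) => Ac_tot H hρ n.2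
  have un : ∀ (n : normalizer (AA Φ : Set G)) σ, (n.1, σ) ∈ Ac Φ → f n = σ := fun n σ a => by
    have := mul_mem (inv_mem (hf n)) a
    exact inv_mul_eq_one.1 ((Ac_one H this).2 (by simp))
  let ϑ : normalizer (AA Φ : Set G) →* M24 := MonoidHom.mk' f fun a b => un _ _ (mul_mem (hf a) (hf b))
  have hs : Surjective ϑ := fun σ => let ⟨n, hn⟩ := Ac_sur H hρ σ; ⟨⟨n, Ac_norm hn⟩, un _ _ hn⟩
  have hk : (AA Φ).subgroupOf (normalizer (AA Φ : Set G)) = ϑ.ker := Subgroup.ext fun n => (Ac_one H (hf n)).symm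
  have hc : IsMulCommutative (AA Φ) := ⟨⟨fun a b => Subtype.ext (AA_comm a.2 b.2)⟩⟩
  have d0 := om_mem_dodecads (m := 0x5335f) (by decide +kernel)
  refine ⟨AA Φ, ⟨hc, fun a ha => (pow_two a).trans (AA_sq ha)⟩, card_AA H, zA, inferInstance,
    ⟨(QuotientGroup.quotientMulEquivOfEq hk).trans (QuotientGroup.quotientKerEquivOfSurjective ϑ hs)⟩, ?_,
    z, zA, Φ (S (om 0x5335f)), mem_AA.2 ⟨_, d0.1, rfl⟩, H.ne, fun e => ?_, fun n _ => nofuse H hρ n d0,
    fun c hc h1 => ?_⟩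
  · let j : HO →* normalizer (AA Φ : Set G) := MonoidHom.mk' (fun σ => ⟨Φ (P σ), Ac_norm (Ac_P σ.2)⟩)
      fun a b => Subtype.ext (by simp [P_mul a.2 b.2])
    have hj : ∀ σ : HO, ϑ (j σ) = ⟨σ, σ.2.1⟩ := fun σ => un _ _ (Ac_P σ.2)
    refine Lib.Hall.gaschutz_exists _ ((HO.subgroupOf M24).comap ϑ) (hk ▸ ker_le_comap _ _) ?_ j.range ?_ ?_
    · have h1 := (HO.subgroupOf M24).card_mul_index
      rw [Nat.card_congr (subgroupOfEquivOfLe inf_le_left).toEquiv, card_HO, card_M24] at h1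
      rw [index_comap_of_surjective _ hs, Nat.card_congr (subgroupOfEquivOfLe le_normalizer).toEquiv, card_AA H,
        show (HO.subgroupOf M24).index = 759 by omega]
      norm_num
    · rw [hk, eq_bot_iff]
      rintro _ ⟨⟨σ, rfl⟩, e⟩
      rw [show σ = 1 from Subtype.ext (congrArg (fun x : M24 => x.1) ((hj σ).symm.trans e)), map_one]
      exact one_mem _
    · rw [hk]
      refine le_antisymm (sup_le (ker_le_comap _ _) ?_) fun u hu => ?_
      · rintro _ ⟨σ, rfl⟩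
        rw [mem_comap, hj]; exact σ.2
      · rw [← inv_mul_cancel_right u (j ⟨_, hu⟩)]
        refine mul_mem (mem_sup_left ?_) (mem_sup_right ⟨_, rfl⟩)
        rw [MonoidHom.mem_ker, map_mul, map_inv, hj, mul_inv_eq_one]; rfl
  · rw [← map_one Φ, ← S_empty, H.S_eq d0.1 cw_empty, ← gc.ofMask_zero] at e
    exact om_ne (by decide +kernel) e
  · rcases orb H hρ hc h1 with ⟨n, σ, hn, e⟩ | ⟨d, hd, rfl⟩
    · exact ⟨n, Ac_norm hn, .inl e⟩
    · obtain ⟨σ, hσ, e⟩ := exists_M24_dodecad hd d0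
      obtain ⟨n, hn⟩ := Ac_sur H hρ ⟨σ, hσ⟩
      exact ⟨n, Ac_norm hn, .inr (by rw [hn d hd.1, e])⟩

end Cfsg.Agent.S5397
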