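import Cfsg.Statements.S4633
import Cfsg.Agent.Lib.Block2.Num
import Cfsg.Agent.Lib.PGrp.Cyclic
import Cfsg.Agent.Lib.Coprime.Basic

set_option autoImplicit false
open Cfsg

namespace Cfsg.Agent.S4633

/-- Let B be a block of the finite group G relative to a maximal ideal M of the algebraic integers containing the prime p, with a nontrivial cyclic defect group P. Let c be a block of C_G(P) inducing B and T the stabilizer of c in N_G(P) (the elements of N_G(P) conjugating c to itself); T contains C_G(P). Then T/C_G(P) is cyclic of order dividing p − 1, and it acts freely on the non-identity elements of P: an element of T fixing some non-identity element of P under conjugation lies in C_G(P). -/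
theorem result {G : Type*} [Group G] [Finite G] (p : ℕ) [Fact p.Prime] (M : Ideal Cfsg.AlgInt) (hM : Cfsg.IsPModular p M) (B : Set (Cfsg.IrrCharacter G)) (hB : Cfsg.IsPBlock M B) (P : Subgroup G) (hPD : Cfsg.IsDefectGroup p M B P) (hP1 : P ≠ ⊥) (hcyc : IsCyclic P) (c : Set (Cfsg.IrrCharacter (Subgroup.centralizer (P : Set G)))) (hc : Cfsg.IsInducedBlock M (Subgroup.centralizer (P : Set G)) c B) (T : Subgroup G) (hT : ∀ g : G, g ∈ T ↔ (g ∈ Subgroup.normalizer (P : Set G) ∧ Cfsg.StabilizesBlock (Subgroup.centralizer (P : Set G)) c g)) [hn : ((Subgroup.centralizer (P : Set G)).subgroupOf T).Normal] : IsCyclic (T ⧸ (Subgroup.centralizer (P : Set G)).subgroupOf T) ∧ (Subgroup.centralizer (P : Set G)).relIndex T ∣ p - 1 ∧ ∀ g ∈ T, ∀ x ∈ P, x ≠ 1 → g * x * g⁻¹ = x → g ∈ Subgroup.centralizer (P : Set G) := by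
  open Cfsg.Lib Cfsg.Lib.Block Cfsg.Lib.Block2 Cfsg.Lib.Char Cfsg.Lib.Amalg in
  have := hM.2.1
  have hP := hPD.isPGroup
  have hm := hc.maxP hM hPD
  obtain rfl := eq_stabP_of_forall hc.1 hT
  haveI := PGrp.isMulCommutative_of_isCyclic hcyc
  have hPC : P ≤ Subgroup.centralizer (P : Set G) := Subgroup.le_centralizer P
  have h1 := hm.not_dvd hM
  rw [top_inf_eq, sup_eq_right.2 hPC] at h1
  have hCT : Subgroup.centralizer (P : Set G) ≤ stabP ⊤ P (EB M c) :=
    le_trans (le_inf le_top le_rfl) hm.bp.cent_le_stabP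
  have key : ∀ g ∈ stabP ⊤ P (EB M c), ∀ x ∈ P, x ≠ 1 → g * x * g⁻¹ = x →
      g ∈ Subgroup.centralizer (P : Set G) := fun g hg x hx hx1 e => by
    obtain ⟨u, hu⟩ := exists_isPPart hM.1 g
    have h2 : u ∈ Subgroup.centralizer (P : Set G) :=
      le_of_not_dvd_relIndex (isPGroup_zpowers hu.orderOf_eq)
        (Subgroup.zpowers_le.2 (hu.mem hM.1 hg)) hCT (stabP_le_norm.trans norm_le_norm_cent) h1
        (Subgroup.mem_zpowers u)
    have h3 : Subgroup.zpowers (u⁻¹ * g) ≤ Subgroup.centralizer (P : Set G) := by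
      refine Coprime.le_centralizer_of_prime_order (Subgroup.zpowers_le.2 (mul_mem
        (inv_mem (Subgroup.centralizer_le_normalizer _ h2)) (stabP_le_norm hg)))
        (Coprime.coprime_card_of_isPGroup hP ?_) fun v hv hvp a ha => ?_
      · rw [Nat.card_zpowers]
        exact ((Nat.Prime.coprime_iff_not_dvd hM.1).2 hu.not_dvd_orderOf).symm
      · have h4 : v ∈ Subgroup.zpowers x := by
          refine PGrp.mem_zpowers_of_pow_eq_one hcyc hv hx (orderOf_dvd_iff_pow_eq_one.1 ?_)
          obtain ⟨k, hk⟩ := exists_orderOf_of_mem_isPGroup hM.1 hP hv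
          rw [(Nat.prime_dvd_prime_iff_eq hvp hM.1).1 (hvp.dvd_of_dvd_pow hk.dvd)]
          exact dvd_orderOf_of_mem_isPGroup hM.1 hP hx hx1
        have h5 : Commute (u⁻¹ * g) x :=
          (Commute.inv_left (h2 x hx).symm).mul_left (mul_inv_eq_iff_eq_mul.1 e)
        obtain ⟨i, rfl⟩ := ha
        obtain ⟨j, rfl⟩ := h4
        exact h5.zpow_zpow i j
    simpa using mul_mem h2 (h3 (Subgroup.mem_zpowers _))
  obtain ⟨z, hz⟩ := exists_prime_orderOf_dvd_card' p (dvd_card_of_isPGroup_ne_bot hP hP1)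
  rw [← Subgroup.orderOf_coe] at hz
  have hV : stabP ⊤ P (EB M c) ≤ Subgroup.normalizer (Subgroup.zpowers (z : G) : Set G) :=
    stabP_le_norm.trans (PGrp.normalizer_le_normalizer_of_isCyclic hcyc (Subgroup.zpowers_le.2 z.2))
  let φ := (Subgroup.zpowers (z : G)).normalizerMonoidHom.comp (Subgroup.inclusion hV)
  have hker : φ.ker = (Subgroup.centralizer (P : Set G)).subgroupOf (stabP ⊤ P (EB M c)) := by
    ext g
    rw [← MonoidHom.comap_ker, Subgroup.normalizerMonoidHom_ker, Subgroup.mem_comap,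
      Subgroup.mem_subgroupOf, Subgroup.mem_subgroupOf, centralizer_zpowers_eq,
      Subgroup.mem_centralizer_singleton_iff]
    refine ⟨fun h => key g g.2 z z.2 ?_ (mul_inv_eq_iff_eq_mul.2 h), fun h => (h z z.2).symm⟩
    intro h0
    rw [h0, orderOf_one] at hz
    exact hM.1.one_lt.ne hz
  have hcard : Nat.card (Subgroup.zpowers (z : G)) = p := by rw [Nat.card_zpowers, hz]
  haveI : IsCyclic (MulAut (Subgroup.zpowers (z : G))) := by
    haveI := (ZMod.isCyclic_units_prime hM.1)
    exact isCyclic_of_surjective _ (hcard ▸ IsCyclic.mulAutMulEquiv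
      (Subgroup.zpowers (z : G))).symm.surjective
  refine ⟨isCyclic_of_injective (QuotientGroup.lift _ φ fun g hg => by rwa [← hker] at hg) ?_,
    ?_, key⟩
  · rw [← MonoidHom.ker_eq_bot_iff, QuotientGroup.ker_lift, hker, Subgroup.map_eq_bot_iff,
      QuotientGroup.ker_mk']
  · rw [Subgroup.relIndex, ← hker, Subgroup.index_ker, ← Nat.totient_prime hM.1, ← hcard,
      ← IsCyclic.card_mulAut]
    exact Subgroup.card_subgroup_dvd_card _

end Cfsg.Agent.S4633
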