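import Cfsg.Statements.S0014
import Cfsg.Agent.Lib.Core.Subnormal

set_option autoImplicit false
open Cfsg

namespace Cfsg.Agent.S0014

open Subgroup Cfsg.Lib.Core
open scoped commutatorElement

section
variable {G : Type*} [Group G] [Finite G] {p : ℕ} [Fact p.Prime]

theorem step (hG : IsPGroup p G) (H : Subgroup G) (hH : frattini G ≤ H) (x : G) (hx : x ∉ H) :
    Nat.card (H ⊔ zpowers x : Subgroup G) = p * Nat.card H := by
  have hn : H.Normal := ⟨fun a ha g => by
    have : g * a * g⁻¹ = ⁅g, a⁆ * a := by rw [commutatorElement_def]; group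
    rw [this]
    exact mul_mem (hH (commutator_le_frattini_of_isPGroup hG
      (commutator_mem_commutator (mem_top _) (mem_top _)))) ha⟩
  have h1 : Nat.card ((zpowers x).map (QuotientGroup.mk' H)) = p := by
    rw [MonoidHom.map_zpowers, Nat.card_zpowers]
    refine orderOf_eq_prime ?_ ?_
    · rw [← map_pow, QuotientGroup.mk'_apply, QuotientGroup.eq_one_iff]
      exact hH (pow_mem_frattini_of_isPGroup hG x)
    · rwa [QuotientGroup.mk'_apply, Ne, QuotientGroup.eq_one_iff]
  rw [← comap_map_mk' H, card_comap_mk', h1]

theorem card_le (hG : IsPGroup p G) (T : Finset G) :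
    Nat.card (frattini G ⊔ closure (T : Set G) : Subgroup G) ≤ p ^ T.card * Nat.card (frattini G) := by
  classical
  induction T using Finset.induction_on with
  | empty => simp
  | insert x T hx ih =>
    rw [Finset.card_insert_of_notMem hx, Finset.coe_insert, Set.insert_eq, Subgroup.closure_union,
      ← zpowers_eq_closure, sup_comm (zpowers x), ← sup_assoc, pow_succ']
    have hp := (Fact.out : p.Prime).one_lt
    by_cases h : x ∈ frattini G ⊔ closure (T : Set G)
    · rw [sup_eq_left.2 (zpowers_le.2 h), mul_assoc]
      exact ih.trans (Nat.le_mul_of_pos_left _ (by omega))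
    · rw [step hG _ le_sup_left x h, mul_assoc]
      exact Nat.mul_le_mul_left _ ih

theorem exists_sub (hG : IsPGroup p G) (S : Finset G) : ∃ T ⊆ S,
    frattini G ⊔ closure (T : Set G) = frattini G ⊔ closure (S : Set G) ∧
    Nat.card (frattini G ⊔ closure (T : Set G) : Subgroup G) = p ^ T.card * Nat.card (frattini G) := by
  classical
  induction S using Finset.induction_on with
  | empty => exact ⟨∅, le_rfl, rfl, by simp⟩
  | insert x S hx ih =>
    obtain ⟨T, h1, h2, h3⟩ := ih
    have key : ∀ U : Finset G, frattini G ⊔ closure ((insert x U : Finset G) : Set G) =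
        frattini G ⊔ closure (U : Set G) ⊔ zpowers x := fun U => by
      rw [Finset.coe_insert, Set.insert_eq, Subgroup.closure_union,
        ← zpowers_eq_closure, sup_comm (zpowers x), ← sup_assoc]
    by_cases h : x ∈ frattini G ⊔ closure (T : Set G)
    · refine ⟨T, h1.trans (Finset.subset_insert _ _), ?_, h3⟩
      rw [key, ← h2, sup_eq_left.2 (zpowers_le.2 h)]
    · refine ⟨insert x T, Finset.insert_subset_insert _ h1, by rw [key, key, h2], ?_⟩
      rw [key, step hG _ le_sup_left x h, h3, Finset.card_insert_of_notMem fun h' => hx (h1 h'),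
        pow_succ', mul_assoc]
end

/-- Burnside's basis Theorem: in a finite p-group whose Frattini quotient has order p ^ n, every generating set contains n elements that already generate, and no set with fewer than n elements generates. -/
theorem result {G : Type*} [Group G] [Finite G] (p n : ℕ) [Fact p.Prime]
    (hG : IsPGroup p G) (hn : (frattini G).index = p ^ n) :
    (∀ S : Finset G, Subgroup.closure (S : Set G) = ⊤ → ∃ T : Finset G, T ⊆ S ∧ T.card = n ∧ Subgroup.closure (T : Set G) = ⊤) ∧
    (∀ T : Finset G, Subgroup.closure (T : Set G) = ⊤ → n ≤ T.card) := by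
  have hc := (frattini G).index_mul_card
  have hpos : 0 < Nat.card (frattini G) := Nat.card_pos
  have hp := (Fact.out : p.Prime).one_lt
  refine ⟨fun S hS => ?_, fun T hT => ?_⟩
  · obtain ⟨T, h1, h2, h3⟩ := exists_sub hG S
    rw [hS, sup_top_eq] at h2
    rw [h2, card_top, ← hc, hn] at h3
    refine ⟨T, h1, (Nat.pow_right_injective hp (Nat.eq_of_mul_eq_mul_right hpos h3)).symm, ?_⟩
    exact frattini_nongenerating (by rwa [sup_comm])
  · have := card_le hG T
    rw [hT, sup_top_eq, card_top, ← hc, hn] at this
    exact (Nat.pow_le_pow_iff_right hp).1 (Nat.le_of_mul_le_mul_right this hpos)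

end Cfsg.Agent.S0014
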