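import Cfsg.Statements.S0031
import Mathlib.Tactic

set_option autoImplicit false
open Cfsg

namespace Cfsg.Agent.S0031

/-- A fixed-point-free automorphism of a finite group maps some Sylow p-subgroup to itself. -/
theorem result {G : Type*} [Group G] [Finite G] (φ : G ≃* G)
    (hφ : MonoidHom.FixedPointFree (φ : G →* G)) (p : ℕ) [Fact p.Prime] :
    ∃ P : Sylow p G, (P : Subgroup G).map (φ : G →* G) = P := by
  obtain ⟨P⟩ : Nonempty (Sylow p G) := inferInstance
  obtain ⟨g, hg⟩ := MulAction.exists_smul_eq G ((φ : MulAut G) • P) P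
  obtain ⟨x, hx⟩ := hφ.commutatorMap_surjective g⁻¹
  have hx' : g = φ x * x⁻¹ := by
    have : x / φ x = g⁻¹ := hx
    rw [← inv_inv g, ← this, div_eq_mul_inv, mul_inv_rev, inv_inv]
  obtain ⟨y, hy⟩ := hφ.commutatorMap_surjective g
  have hy' : g = y * (φ y)⁻¹ := by
    have : y / φ y = g := hy
    rw [← this, div_eq_mul_inv]
  refine ⟨y⁻¹ • P, ?_⟩
  conv_rhs => rw [← hg, hy', ← mul_smul, inv_mul_cancel_left]
  ext z
  simp only [Subgroup.mem_map, Sylow.coe_subgroup_smul, Sylow.pointwise_smul_def,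
    Subgroup.mem_smul_pointwise_iff_exists, MulAut.smul_def, MulAut.conj_apply, MonoidHom.coe_coe]
  constructor
  · rintro ⟨_, ⟨w, hw, rfl⟩, rfl⟩
    exact ⟨_, ⟨w, hw, rfl⟩, by simp⟩
  · rintro ⟨_, ⟨w, hw, rfl⟩, rfl⟩
    exact ⟨_, ⟨w, hw, rfl⟩, by simp⟩

end Cfsg.Agent.S0031
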