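import Cfsg.Statements.S0034
import Cfsg.Agent.Lib.Coprime.FrobKernel

set_option autoImplicit false
open Cfsg

namespace Cfsg.Agent.S0034

/-- For a Frobenius complement H, the set of elements lying in no conjugate of H, together with 1, has exactly as many elements as the index of H, and that index is congruent to 1 modulo the order of H. -/
theorem result {G : Type*} [Group G] [Finite G] (H : Subgroup G) (hH : Cfsg.IsFrobeniusComplement H) :
    Nat.card (Cfsg.frobeniusKernel H) = H.index ∧ H.index % Nat.card H = 1 % Nat.card H := by
  obtain ⟨N, h1, hn, hc, hN, h, hNH⟩ := Cfsg.Lib.Coprime.exists_frobKernel hH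
  have e : Nat.card N = H.index := hc.index_eq_card.symm
  refine ⟨by rw [← h1, ← e]; rfl, ?_⟩
  have hd := h.card_dvd Subgroup.le_normalizer_of_normal
  rw [← e]
  exact ((Nat.modEq_iff_dvd' (Nat.card_pos (α := N))).2 hd).symm

end Cfsg.Agent.S0034
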