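import Cfsg.Statements.S0040
import Cfsg.Agent.Lib.Coprime.FrobKernel
import Cfsg.Agent.Lib.Block.GenQuat

set_option autoImplicit false
open Cfsg

namespace Cfsg.Agent.S0040

/-- Sylow subgroups of Frobenius complements: if H complements a nontrivial normal subgroup K and every nonidentity element of H has trivial centraliser in K, then each Sylow subgroup of H is cyclic or isomorphic to a generalized quaternion group. -/
theorem result {G : Type*} [Group G] [Finite G] (K H : Subgroup G) [K.Normal]
    (hc : Subgroup.IsComplement' K H) (hK : K ≠ ⊥) (hfpf : ∀ h ∈ H, h ≠ 1 → K ⊓ Subgroup.centralizer {h} = ⊥)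
    (p : ℕ) [Fact p.Prime] (P : Sylow p H) :
    IsCyclic P ∨ ∃ n : ℕ, Nonempty (P ≃* QuaternionGroup (2 ^ n)) := by
  have h : Cfsg.Lib.Coprime.Fpf K H := hfpf
  have hn : H ≤ Subgroup.normalizer (K : Set G) := Subgroup.le_normalizer_of_normal
  set Q : Subgroup G := (P : Subgroup H).map H.subtype with hQ
  have hQH : Q ≤ H := Subgroup.map_subtype_le _
  have e : (P : Subgroup H) ≃* Q := Subgroup.equivMapOfInjective _ _ H.subtype_injective
  have hQp : IsPGroup p Q := P.isPGroup'.map _
  by_cases hp : p = 2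
  · subst hp
    rcases Cfsg.Lib.Block.isCyclic_or_quatData' hQp (fun s hs t ht hs2 ht2 => by
      have a1 : s ≠ 1 := by rintro rfl; simp at hs2
      have a2 : t ≠ 1 := by rintro rfl; simp at ht2
      have b1 : s * s = 1 := by rw [← pow_two, ← hs2, pow_orderOf_eq_one]
      have b2 : t * t = 1 := by rw [← pow_two, ← ht2, pow_orderOf_eq_one]
      exact (h.involution_unique hn hK (hQH hs) (hQH ht) a1 a2 b1 b2).symm) with hc | ⟨a, x, n, hq⟩
    · exact Or.inl (isCyclic_of_surjective e.symm e.symm.surjective)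
    · obtain ⟨f⟩ := hq.nonempty_mulEquiv
      exact Or.inr ⟨n + 1, ⟨e.trans f⟩⟩
  · haveI := (h.mono le_rfl hQH).isCyclic_of_isPGroup (hQH.trans hn) hK hp hQp
    exact Or.inl (isCyclic_of_surjective e.symm e.symm.surjective)

end Cfsg.Agent.S0040
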