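import Cfsg.Statements.S0048
import Cfsg.Agent.Lib.Hall.Product
import Cfsg.Agent.Lib.Hall.HallThm

set_option autoImplicit false
open Cfsg

namespace Cfsg.Agent.S0048

open scoped Pointwise
open Cfsg.Lib Cfsg.Lib.Hall

/-- In a finite solvable group every maximal subgroup has index a prime power. -/
theorem result {G : Type*} [Group G] [Finite G] [Group.IsSolvable G]
    (M : Subgroup G) (hM : IsCoatom M) : IsPrimePow M.index := by
  have key := solvable_normal_induction (G := G) (fun N => N ≤ M → IsPrimePow M.index)
    (fun h => absurd (top_le_iff.mp h) hM.1)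
    (fun N K _ _ p hp hlt _ _ _ hK ih hNM => by
      by_cases hKM : K ≤ M
      · exact ih hKM
      have h1 : M ⊔ K = ⊤ := hM.2 _ (left_lt_sup.mpr hKM)
      have h2 := relIndex_eq_index_of_factor (factor_symm (factor_of_sup_eq_top h1))
      have := Fact.mk hp
      obtain ⟨k, hk⟩ := IsPGroup.iff_card.mp hK
      rw [card_map_mk'] at hk
      have h3 : M.index ∣ p ^ k := by
        rw [← h2, ← hk]
        exact Subgroup.relIndex_dvd_of_le_left K hNM
      obtain ⟨j, -, hj⟩ := (Nat.dvd_prime_pow hp).mp h3
      refine ⟨p, j, hp.prime, Nat.pos_of_ne_zero ?_, hj.symm⟩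
      rintro rfl
      exact hM.1 (Subgroup.index_eq_one.mp (by simpa using hj))) ⊥
  exact key bot_le

end Cfsg.Agent.S0048
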