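import Cfsg.Statements.S0054
import Cfsg.Agent.Lib.Coprime.Frobenius
import Cfsg.Agent.Lib.Core.Nilpotent

set_option autoImplicit false
open Cfsg

namespace Cfsg.Agent.S0054

/-- A regular normal subgroup of a finite 2-transitive group is elementary abelian: it is commutative and all its elements have order dividing one prime. -/
theorem result {G : Type*} [Group G] [Finite G]
    {X : Type*} [Nonempty X] [MulAction G X] (h2 : MulAction.IsMultiplyPretransitive G X 2)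
    (N : Subgroup G) [N.Normal] (htrans : MulAction.IsPretransitive N X) (hreg : ∀ x : X, MulAction.stabilizer N x = ⊥) :
    IsMulCommutative N ∧ ∃ p : ℕ, p.Prime ∧ ∀ n ∈ N, n ^ p = 1 := by
  obtain ⟨x₀⟩ := ‹Nonempty X›
  have hinj : ∀ n ∈ N, n • x₀ = x₀ → n = 1 := fun n hn e => by
    have : (⟨n, hn⟩ : N) ∈ MulAction.stabilizer N x₀ := e
    rw [hreg, Subgroup.mem_bot] at this
    exact congrArg Subtype.val this
  have hconj : ∀ n ∈ N, ∀ m ∈ N, n ≠ 1 → m ≠ 1 → ∃ g : G, g * n * g⁻¹ = m := by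
    intro n hn m hm hn1 hm1
    rw [MulAction.is_two_pretransitive_iff] at h2
    obtain ⟨g, h1, h2⟩ := @h2 x₀ (n • x₀)
      x₀ (m • x₀) (fun e => hn1 (hinj n hn e.symm)) (fun e => hm1 (hinj m hm e.symm))
    refine ⟨g, ?_⟩
    have h3 : g⁻¹ • x₀ = x₀ := by rw [inv_smul_eq_iff, h1]
    have := hinj (m⁻¹ * (g * n * g⁻¹)) (N.mul_mem (N.inv_mem hm)
      ((inferInstance : N.Normal).conj_mem n hn g)) (by
        rw [mul_smul, mul_smul, mul_smul, h3, h2, inv_smul_smul])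
    exact (inv_mul_eq_one.1 this).symm
  by_cases hN : N = ⊥
  · subst hN
    exact ⟨inferInstance, 2, Nat.prime_two, fun n hn => by rw [Subgroup.mem_bot.1 hn, one_pow]⟩
  obtain ⟨r, hr, hp⟩ := Cfsg.Lib.Coprime.exists_mem_orderOf_prime hN
  have hr1 : r ≠ 1 := by rintro rfl; simp at hp; exact Nat.not_prime_one hp
  have hpow : ∀ n ∈ N, n ^ orderOf r = 1 := fun n hn => by
    by_cases hn1 : n = 1
    · rw [hn1, one_pow]
    obtain ⟨g, rfl⟩ := hconj r hr n hn hr1 hn1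
    rw [conj_pow, pow_orderOf_eq_one]; group
  refine ⟨?_, _, hp, hpow⟩
  haveI : Fact (orderOf r).Prime := ⟨hp⟩
  have hP : IsPGroup (orderOf r) N := fun n => ⟨1, Subtype.ext (by simpa using hpow n n.2)⟩
  haveI : Nontrivial N := (Subgroup.nontrivial_iff_ne_bot N).2 hN
  haveI := hP.center_nontrivial
  obtain ⟨⟨z, hz⟩, hz1⟩ := exists_ne (1 : Subgroup.center N)
  have hz1' : (z : G) ≠ 1 := fun e => hz1 (Subtype.ext (Subtype.ext e))
  refine ⟨⟨fun a b => Subtype.ext ?_⟩⟩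
  by_cases ha : (a : G) = 1
  · simp [ha]
  obtain ⟨g, hg⟩ := hconj z z.2 a a.2 hz1' ha
  have := congrArg Subtype.val (Subgroup.mem_center_iff.1 hz
    ⟨g⁻¹ * b * g⁻¹⁻¹, (inferInstance : N.Normal).conj_mem b b.2 g⁻¹⟩)
  simp only [Subgroup.coe_mul, inv_inv] at this ⊢
  rw [← hg]
  calc g * z * g⁻¹ * b = g * (z * (g⁻¹ * b * g)) * g⁻¹ := by group
    _ = b * (g * z * g⁻¹) := by rw [← this]; group

end Cfsg.Agent.S0054
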