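import Cfsg.Statements.S0060
import Cfsg.Agent.Lib.Core.Subnormal
import Cfsg.Agent.Lib.Transfer.SylowIn

set_option autoImplicit false
open Pointwise
open Cfsg

namespace Cfsg.Agent.S0060

/-- Brodkey's Theorem: in a finite group with abelian Sylow p-subgroups and no nontrivial normal p-subgroup, some conjugate of a Sylow p-subgroup meets it trivially. -/
theorem result {G : Type*} [Group G] [Finite G] (p : ℕ) [Fact p.Prime]
    (S : Sylow p G) (hS : IsMulCommutative S) (hOp : Cfsg.pCore p G = ⊥) :
    ∃ g : G, (S : Subgroup G) ⊓ MulAut.conj g • (S : Subgroup G) = ⊥ := by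
  open Subgroup Cfsg.Lib.Core Cfsg.Lib.Transfer in
  · obtain ⟨D, -, ⟨g, hg⟩, hmin⟩ := exists_minimal_le
      (fun D : Subgroup G => ∃ g : G, D = (S : Subgroup G) ⊓ cj g S)
      (H := (S : Subgroup G) ⊓ cj 1 S) ⟨1, rfl⟩
    refine ⟨g, ?_⟩
    change (S : Subgroup G) ⊓ cj g S = ⊥
    rw [← hg, eq_bot_iff, ← hOp, pCore_eq_iInf_sylow]
    refine le_iInf fun P => ?_
    have hc : (S : Subgroup G) ≤ centralizer (S : Set G) := le_centralizer_iff_isMulCommutative.2 hS
    have h1 : (S : Subgroup G) ≤ normalizer (D : Set G) :=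
      (hc.trans (centralizer_le (hg ▸ inf_le_left : D ≤ S))).trans (centralizer_le_normalizer _)
    have h2 : cj g S ≤ normalizer (D : Set G) := by
      refine le_trans ?_ ((centralizer_le (hg ▸ inf_le_right : D ≤ cj g S)).trans
        (centralizer_le_normalizer _))
      rw [← cj_centralizer]; exact cj_mono g hc
    have h3 : SylowIn p (cj g S) (normalizer (D : Set G)) := sylowIn_of_le (g • S) h2
    obtain ⟨x, hx, hx'⟩ := h3.exists_cj_le (Q := (P : Subgroup G) ⊓ normalizer (D : Set G))
      (P.isPGroup'.to_le inf_le_left) inf_le_right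
    obtain ⟨y, hy⟩ := MulAction.exists_smul_eq G S (x • P)
    have hy' : cj y S = cj x P := congrArg Sylow.toSubgroup hy
    have h4 : (S : Subgroup G) ⊓ cj y S ≤ D := by
      rw [hg, hy']
      refine le_inf inf_le_left (le_trans ?_ hx')
      rw [cj_inf, cj_eq_of_mem hx]
      exact le_inf inf_le_right (inf_le_left.trans h1)
    have h5 := hmin _ ⟨y, rfl⟩ h4
    rw [← cj_le_cj (g := x), cj_eq_of_mem_normalizer hx, ← hy', ← h5]
    exact inf_le_right

end Cfsg.Agent.S0060
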