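import Cfsg.Statements.S0063
import Cfsg.Agent.Lib.Core.Subnormal

set_option autoImplicit false
open Cfsg

namespace Cfsg.Agent.S0063

universe u in
theorem aux (p : ℕ) [Fact p.Prime] (m : ℕ) : ∀ (G : Type u) [Group G] [Finite G],
    Nat.card G = p ^ m → Group.nilpotencyClass G ≤ max 1 (m - 1) := by
  induction m using Nat.strong_induction_on with
  | _ m ih =>
  intro G _ _ hG
  have hp : IsPGroup p G := IsPGroup.of_card hG
  have := hp.isNilpotent
  by_cases hc : IsMulCommutative G
  · let _ : CommGroup G := { (inferInstance : Group G) with mul_comm := hc.is_comm.comm }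
    exact CommGroup.nilpotencyClass_le_one.trans (le_max_left _ _)
  have hnt : Nontrivial G := by
    by_contra h
    rw [not_nontrivial_iff_subsingleton] at h
    exact hc ⟨⟨fun a b => Subsingleton.elim _ _⟩⟩
  obtain ⟨k, hk⟩ := (IsPGroup.iff_card.1 (hp.to_quotient (Subgroup.center G)))
  obtain ⟨j, hj⟩ := (IsPGroup.iff_card.1 (hp.to_subgroup (Subgroup.center G)))
  have h1 := Subgroup.card_eq_card_quotient_mul_card_subgroup (Subgroup.center G)
  rw [hG, hk, hj, ← pow_add] at h1
  have h2 : m = k + j := Nat.pow_right_injective (Fact.out : p.Prime).two_le h1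
  have hj0 : j ≠ 0 := by
    rintro rfl
    have := hp.center_nontrivial
    exact absurd hj (by simpa using (Finite.one_lt_card (α := Subgroup.center G)).ne')
  have hk2 : 2 ≤ k := by
    by_contra h
    have : IsCyclic (G ⧸ Subgroup.center G) := by
      obtain rfl | rfl : k = 0 ∨ k = 1 := by omega
      · have : Subsingleton (G ⧸ Subgroup.center G) := (Nat.card_eq_one_iff_unique.1 (by simpa using hk)).1
        infer_instance
      · exact isCyclic_of_prime_card (p := p) (by simpa using hk)
    exact hc (MonoidHom.isMulCommutative_of_isCyclic_of_ker_le_center (QuotientGroup.mk' (Subgroup.center G))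
      (by rw [QuotientGroup.ker_mk']))
  have h3 := ih k (by omega) _ hk
  rw [Group.nilpotencyClass_eq_quotient_center_plus_one]
  omega

/-- A finite group of prime-power order p ^ m with m > 1 is nilpotent of class at most m - 1. -/
theorem result {G : Type*} [Group G] [Finite G] (p m : ℕ) [Fact p.Prime]
    (hG : Nat.card G = p ^ m) (hm : 1 < m) : Group.nilpotencyClass G ≤ m - 1 := by
  have := aux p m G hG
  omega

end Cfsg.Agent.S0063
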