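import Cfsg.Statements.S0073
import Cfsg.Agent.Lib.Transfer.Apps

set_option autoImplicit false
open Cfsg

namespace Cfsg.Agent.S0073

open Lib.Transfer Subgroup

/-- For a finite non-abelian simple group, either the cube of the least prime divisor of the order divides the order, or 12 does. -/
theorem result {G : Type*} [Group G] [Finite G] [IsSimpleGroup G] (hG : ∃ x y : G, x * y ≠ y * x) : (Nat.card G).minFac ^ 3 ∣ Nat.card G ∨ 12 ∣ Nat.card G := by
  by_contra hcon
  rw [not_or] at hcon
  have h1 : Nat.card G ≠ 1 := (Finite.one_lt_card (α := G)).ne'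
  have hp : (Nat.card G).minFac.Prime := Nat.minFac_prime h1
  generalize hpe : (Nat.card G).minFac = p at hcon hp
  have : Fact p.Prime := ⟨hp⟩
  have hd : p ∣ Nat.card G := hpe ▸ Nat.minFac_dvd _
  obtain ⟨P⟩ : Nonempty (Sylow p G) := inferInstance
  obtain ⟨q, i, hq, hqp, hqd, hi, h2, h3⟩ := (sylowIn_top P).exists_dvd_of_not_pnil (not_pnil_of_simple hG hd)
  rw [card_top] at hqd
  have h4 : p ≤ q := hpe ▸ Nat.minFac_le_of_dvd hq.two_le hqd
  have h5 : p ^ i ∣ Nat.card G := h2.trans (card_subgroup_dvd_card _)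
  have h6 : i < 3 := by
    by_contra h
    exact hcon.1 ((pow_dvd_pow p (by omega)).trans h5)
  have hp2 := hp.two_le
  have h7 : ¬ q ∣ p - 1 := fun h => by have := Nat.le_of_dvd (by omega) h; omega
  obtain rfl | rfl : i = 1 ∨ i = 2 := by omega
  · exact h7 (by simpa using h3)
  · have e : p ^ 2 - 1 = (p + 1) * (p - 1) := by simpa using Nat.sq_sub_sq p 1
    rw [e] at h3
    have h8 := Nat.le_of_dvd (by omega) (((Nat.Prime.dvd_mul hq).1 h3).resolve_right h7)
    have h9 : q = p + 1 := by omega
    have h10 : p = 2 := by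
      rcases hp.eq_two_or_odd' with h | h
      · exact h
      · rcases hq.eq_two_or_odd' with h' | h'
        · omega
        · obtain ⟨a, ha⟩ := h; obtain ⟨b, hb⟩ := h'; omega
    subst h10; subst h9
    exact hcon.2 (Nat.Coprime.mul_dvd_of_dvd_of_dvd (by norm_num : Nat.Coprime (2 ^ 2) (2 + 1)) h5 hqd)

end Cfsg.Agent.S0073
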