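import Cfsg.Statements.S0074
import Cfsg.Agent.Lib.Transfer.Frobenius

set_option autoImplicit false
open Cfsg

namespace Cfsg.Agent.S0074

/-- For an abelian Sylow p-subgroup P, the intersection of P with the derived subgroup of G equals its intersection with the derived subgroup of the normalizer of P. -/
theorem result {G : Type*} [Group G] [Finite G] {p : ℕ} [Fact p.Prime] (P : Sylow p G) (hP : IsMulCommutative P) : commutator G ⊓ (P : Subgroup G) = ⁅Subgroup.normalizer (P : Set G), Subgroup.normalizer (P : Set G)⁆ ⊓ (P : Subgroup G) := by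
  open Lib.Transfer Subgroup in
  have hc : (P : Subgroup G) ≤ centralizer (P : Set G) := le_centralizer_iff_isMulCommutative.2 hP
  open Lib.Transfer Subgroup in
  rw [commutator_def, (sylowIn_top P).commutator_inf,
    show ⁅normalizer (P : Set G), normalizer (P : Set G)⁆ ⊓ (P : Subgroup G) = _ from
      (sylowIn_of_le P le_normalizer).commutator_inf]
  open Lib.Transfer Subgroup in
  refine le_antisymm (focalIn_le_of_controls fun x hx g hg h => ?_) (focalIn_mono_right _ le_top)
  obtain ⟨n, hn, e⟩ := (Lib.Transfer.sylowIn_top P).exists_normalizer_conj_eq hg (hc hx) (hc h)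
  exact ⟨n, hn.2, e⟩

end Cfsg.Agent.S0074
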