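import Cfsg.Statements.S0076
import Cfsg.Agent.Lib.Transfer.Frobenius

set_option autoImplicit false
open Cfsg

namespace Cfsg.Agent.S0076

open Lib.Transfer Subgroup

theorem aux {G : Type*} [Group G] (X : Set G) (x : G) :
    x ∈ normalizer X ↔ (fun y => x * y * x⁻¹) '' X = X := mem_normalizer_iff_conj_image_eq

/-- Two P-invariant subsets of a Sylow p-subgroup P that are conjugate in G are conjugate under the normalizer of P. -/
theorem result {G : Type*} [Group G] [Finite G] {p : ℕ} [Fact p.Prime] (P : Sylow p G) (X Y : Set G) (hXP : X ⊆ P) (hYP : Y ⊆ P) (hX : ∀ x ∈ P, (fun y => x * y * x⁻¹) '' X = X) (hY : ∀ x ∈ P, (fun y => x * y * x⁻¹) '' Y = Y) (g : G) (hg : (fun y => g * y * g⁻¹) '' X = Y) : ∃ n ∈ Subgroup.normalizer (P : Set G), (fun y => n * y * n⁻¹) '' X = Y := by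
  obtain ⟨n, hn, d, hd, e⟩ := (sylowIn_top P).burnside_fusion (D := normalizer X) (mem_top g)
    (fun x hx => (aux X x).2 (hX x hx)) (fun x hx => by
      rw [mem_cj, aux]
      have h1 := hY x hx
      rw [← hg] at h1
      have h2 := congrArg (fun S => (fun y => g⁻¹ * y * g) '' S) h1
      simpa [Set.image_image, mul_assoc] using h2)
  refine ⟨n, hn.2, ?_⟩
  have h3 := (aux X d).1 hd.2
  rw [← hg]
  conv_rhs => rw [← h3]
  simp [e, Set.image_image, mul_assoc]

end Cfsg.Agent.S0076
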