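import Cfsg.Statements.S0078
import Cfsg.Agent.Lib.Transfer.Apps

set_option autoImplicit false
open Cfsg

namespace Cfsg.Agent.S0078

open Lib.Transfer Subgroup

/-- In a p-normal group, a Sylow p-subgroup P meets O^p(G) exactly where it meets O^p(V), for any subgroup V containing the normalizer of the centre of P. -/
theorem result {G : Type*} [Group G] [Finite G] {p : ℕ} [Fact p.Prime] (P : Sylow p G) (hn : ∀ Q : Sylow p G, (P : Subgroup G) ⊓ Subgroup.centralizer (P : Set G) ≤ (Q : Subgroup G) → (Q : Subgroup G) ⊓ Subgroup.centralizer (Q : Set G) = (P : Subgroup G) ⊓ Subgroup.centralizer (P : Set G)) (V : Subgroup G) (hV : Subgroup.normalizer (((P : Subgroup G) ⊓ Subgroup.centralizer (P : Set G) : Subgroup G) : Set G) ≤ V) : (P : Subgroup G) ⊓ Cfsg.pResidual p G = (P : Subgroup G) ⊓ (Cfsg.pResidual p V).map V.subtype := by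
  have h := controls_of_weaklyClosed P (Z := (P : Subgroup G) ⊓ centralizer (P : Set G)) inf_le_right
    inf_le_left (fun g hg => by
      have h1 := hn (g⁻¹ • P) (by rw [coe_sylow_smul]; exact cj_le_iff_le_cj_inv.1 hg)
      have h2 : ((g⁻¹ • P : Sylow p G) : Set G) = (cj g⁻¹ P : Set G) := by
        rw [← coe_sylow_smul]; rfl
      rw [h2, coe_sylow_smul, ← cj_centralizer, ← cj_inf] at h1
      have h3 := congrArg (cj g) h1
      rw [cj_cj_inv] at h3
      exact h3.symm)
  rw [map_pResidual, ← resOf_top]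
  refine (sylowIn_top P).inf_resOf_eq_of_controls
    ((le_normalizer_of_le_centralizer inf_le_right).trans hV) le_top fun x hx g hg hy => ?_
  obtain ⟨v, hv, e⟩ := h x hx g hg hy
  exact ⟨v, hV hv, e⟩

end Cfsg.Agent.S0078
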