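import Cfsg.Statements.S0082
import Cfsg.Agent.Lib.Transfer.Apps

set_option autoImplicit false
open Cfsg

namespace Cfsg.Agent.S0082

open Lib.Transfer Subgroup

/-- With a cyclic Sylow p-subgroup, either there is a normal p-complement or the elements of order prime to p generate the whole group. -/
theorem result {G : Type*} [Group G] [Finite G] {p : ℕ} [Fact p.Prime] (P : Sylow p G) (hP : IsCyclic P) : Cfsg.HasNormalPComplement p G ∨ Cfsg.pResidual p G = ⊤ := by
  have hc : IsMulCommutative P := IsCyclic.isMulCommutative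
  obtain ⟨h1, h2⟩ := (sylowIn_top P).fitting_decomp hc
  rw [← (sylowIn_top P).inf_resOf_of_comm hc] at h1 h2
  by_cases h3 : (P : Subgroup G) ⊓ resOf p ⊤ = ⊥
  · exact Or.inl (hasNormalPComplement_iff_top.2 ((sylowIn_top P).pnil_iff.2 h3))
  right
  generalize hC : (P : Subgroup G) ⊓ centralizer ((⊤ ⊓ normalizer ((P : Subgroup G) : Set G) : Subgroup G) : Set G) = C at h1 h2
  have hCP : C ≤ P := hC ▸ inf_le_left
  have h4 : C = ⊥ := by
    by_contra h4
    have key : ∀ A : Subgroup G, A ≤ P → A ≠ ⊥ → ∃ x ∈ A, orderOf x = p := fun A hA h0 => by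
      obtain ⟨n, hn⟩ := IsPGroup.iff_card.1 (P.2.to_le hA)
      have hd : p ∣ Nat.card A := by
        rw [hn]; refine dvd_pow_self p ?_
        rintro rfl
        exact h0 (card_eq_one.1 (by simpa using hn))
      obtain ⟨x, hx⟩ := exists_prime_orderOf_dvd_card' p hd
      exact ⟨x, x.2, by rw [← hx, Subgroup.orderOf_coe]⟩
    obtain ⟨x, hx, ox⟩ := key C hCP h4
    obtain ⟨y, hy, oy⟩ := key _ inf_le_left h3
    have h6 : x ∈ zpowers y := Lib.PGrp.mem_zpowers_of_pow_eq_one hP (hCP hx) hy.1 (by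
      rw [oy, ← ox, pow_orderOf_eq_one])
    have h7 : x ∈ C ⊓ ((P : Subgroup G) ⊓ resOf p ⊤) := ⟨hx, zpowers_le.2 hy h6⟩
    rw [h1, mem_bot] at h7
    rw [h7, orderOf_one] at ox
    exact (Fact.out : p.Prime).one_lt.ne ox
  rw [h4, bot_sup_eq, inf_eq_left] at h2
  have h5 := (sylowIn_top P).resOf_sup
  rwa [sup_eq_left.2 h2, resOf_top] at h5

end Cfsg.Agent.S0082
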