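import Cfsg.Statements.S0083
import Cfsg.Agent.Lib.Transfer.Apps

set_option autoImplicit false
open Cfsg

namespace Cfsg.Agent.S0083

open Lib.Transfer Subgroup

/-- For an abelian Sylow p-subgroup P, a normal p-complement exists exactly when the normalizer of P is an internal direct product of P with some subgroup. -/
theorem result {G : Type*} [Group G] [Finite G] {p : ℕ} [Fact p.Prime] (P : Sylow p G) (hP : IsMulCommutative P) : Cfsg.HasNormalPComplement p G ↔ ∃ Q : Subgroup G, Q ≤ Subgroup.centralizer (P : Set G) ∧ Q ⊓ (P : Subgroup G) = ⊥ ∧ Q ⊔ (P : Subgroup G) = Subgroup.normalizer (P : Set G) := by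
  rw [hasNormalPComplement_iff_top]
  constructor
  · intro h
    have h1 : (P : Subgroup G) ≤ normalizer (P : Set G) := le_normalizer
    obtain ⟨K, hK, h2, h3, h4⟩ := Lib.Hall.sz_exists_internal h1 le_rfl (sylowIn_of_le P h1).coprime
    refine ⟨K, fun k hk => h.mem_centralizer P.2 le_top ?_ (hK hk), by rw [inf_comm, h2], by rw [sup_comm, h3]⟩
    refine le_resOf_of_coprime le_top ?_ hk
    rw [h4]
    exact ((Nat.Prime.coprime_iff_not_dvd Fact.out).2 (sylowIn_of_le P h1).not_dvd).symm
  · rintro ⟨Q, h1, -, h2⟩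
    refine (sylowIn_top P).pnil_of_normalizer_le_centralizer (inf_le_right.trans ?_)
    exact h2 ▸ sup_le h1 (le_centralizer_self hP)

end Cfsg.Agent.S0083
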