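import Cfsg.Statements.S0085
import Cfsg.Agent.Lib.Transfer.Apps

set_option autoImplicit false
open Cfsg

namespace Cfsg.Agent.S0085

open Lib.Transfer Subgroup

/-- A group whose Sylow 2-subgroups are elementary abelian of order 8 and whose order is prime to 3 and to 7 has a normal 2-complement. -/
theorem result {G : Type*} [Group G] [Finite G] (T : Sylow 2 G) (h8 : Nat.card T = 8) (he : ∀ x : T, x * x = 1) (h3 : ¬ 3 ∣ Nat.card G) (h7 : ¬ 7 ∣ Nat.card G) : Cfsg.HasNormalPComplement 2 G := by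
  rw [hasNormalPComplement_iff_top]
  by_contra h
  obtain ⟨q, i, hq, -, hqd, hi, h2, h4⟩ := (sylowIn_top T).exists_dvd_of_not_pnil h
  rw [card_top] at hqd
  have h5 : Nat.card (T : Subgroup G) = 2 ^ 3 := h8
  rw [h5] at h2
  have h6 := (Nat.pow_dvd_pow_iff_le_right (by norm_num)).1 h2
  obtain rfl | rfl | rfl : i = 1 ∨ i = 2 ∨ i = 3 := by omega
  · exact hq.one_lt.ne' (by simpa using h4)
  · exact h3 ((Nat.prime_dvd_prime_iff_eq hq Nat.prime_three).1 h4 ▸ hqd)
  · exact h7 ((Nat.prime_dvd_prime_iff_eq hq Nat.prime_seven).1 h4 ▸ hqd)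

end Cfsg.Agent.S0085
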