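import Cfsg.Statements.S0086
import Cfsg.Agent.Lib.Transfer.PNilp

set_option autoImplicit false
open Cfsg

namespace Cfsg.Agent.S0086

/-- A normal complement to a Sylow p-subgroup is exactly the set of elements of order prime to p. -/
theorem result {G : Type*} [Group G] [Finite G] {p : ℕ} [Fact p.Prime] (P : Sylow p G) (N : Subgroup G) [N.Normal] (hN : N.IsComplement' (P : Subgroup G)) (x : G) : x ∈ N ↔ Nat.Coprime (orderOf x) p := by
  open Lib.Transfer Subgroup in
  constructor
  · intro hx
    have h1 : ¬ p ∣ Nat.card N := hN.index_eq_card ▸ P.not_dvd_index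
    exact (((Nat.Prime.coprime_iff_not_dvd Fact.out).2 h1).symm).coprime_dvd_left
      (Subgroup.orderOf_dvd_natCard N hx)
  · intro hx
    obtain ⟨n, hn⟩ := P.2.exists_card_eq
    refine Lib.Transfer.mem_of_pow_mem_of_coprime (hx.pow_right n) ?_
    rw [← hn, ← hN.symm.index_eq_card]
    exact N.pow_index_mem x

end Cfsg.Agent.S0086
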