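import Cfsg.Statements.S0087
import Cfsg.Agent.Lib.Transfer.Apps

set_option autoImplicit false
open Cfsg

namespace Cfsg.Agent.S0087

open Lib.Transfer Subgroup
open scoped Pointwise

/-- A Hall subgroup that is central in its normalizer has a normal complement. -/
theorem result {G : Type*} [Group G] [Finite G] (H : Subgroup G) (hHall : Nat.Coprime (Nat.card H) H.index) (h : Subgroup.normalizer (H : Set G) ≤ Subgroup.centralizer (H : Set G)) : ∃ N : Subgroup G, N.Normal ∧ N.IsComplement' H := by
  have hc : IsMulCommutative H := le_centralizer_iff_isMulCommutative.1 (le_normalizer.trans h)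
  have hn : Group.IsNilpotent H := by
    open scoped IsMulCommutative in exact CommGroup.isNilpotent
  refine exists_normal_isComplement'_of_controls hn hHall fun x hx g hg => ?_
  have h1 : H ≤ centralizer ({g * x * g⁻¹} : Set G) := fun z hz =>
    mem_centralizer_singleton_iff.2 (mem_centralizer_iff.1 (le_centralizer_self hc hz) _ hg).symm
  have h2 : cj g H ≤ centralizer ({g * x * g⁻¹} : Set G) := by
    rw [cj_le_iff]
    intro z hz
    have e := mem_centralizer_iff.1 (le_centralizer_self hc hz) _ hx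
    rw [mem_centralizer_singleton_iff]
    calc g * z * g⁻¹ * (g * x * g⁻¹) = g * (z * x) * g⁻¹ := by group
      _ = _ := by rw [← e]; group
  have h3 : IsPiHallOf {q | q ∣ Nat.card H} H (centralizer ({g * x * g⁻¹} : Set G)) :=
    ⟨h1, fun _ _ h => h, fun q hq hd h' => hq.one_lt.ne'
      (Nat.eq_one_of_dvd_coprimes hHall hd (h'.trans (relIndex_dvd_index_of_le h1)))⟩
  obtain ⟨c, hc', h4⟩ := Lib.Hall.le_conj_of_isPiHallOf_of_nilpotent h3 h2 (by
    rw [card_cj]; exact fun _ _ h => h)
  rw [← cj_eq_smul] at h4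
  have h5 : c⁻¹ * g ∈ normalizer (H : Set G) := mem_normalizer_of_cj_le (by
    rw [cj_mul, cj_le_iff_le_cj_inv, inv_inv]; exact h4)
  have h6 := mem_centralizer_iff.1 (h h5) x hx
  have h7 := mem_centralizer_singleton_iff.1 hc'
  refine ⟨1, one_mem _, ?_⟩
  calc 1 * x * 1⁻¹ = (c⁻¹ * g) * x * (c⁻¹ * g)⁻¹ := by rw [← h6]; group
    _ = c⁻¹ * (g * x * g⁻¹ * c) := by group
    _ = _ := by rw [← h7]; group

end Cfsg.Agent.S0087
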