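import Cfsg.Statements.S0089
import Cfsg.Agent.Lib.Transfer.Apps

set_option autoImplicit false
open Cfsg

namespace Cfsg.Agent.S0089

open Lib.Transfer Subgroup

/-- When all Sylow subgroups are abelian, the derived subgroup meets the centre trivially. -/
theorem result {G : Type*} [Group G] [Finite G] (h : ∀ p : ℕ, p.Prime → ∀ P : Sylow p G, IsMulCommutative P) : commutator G ⊓ Subgroup.center G = ⊥ := by
  refine le_bot_iff.1 (le_of_forall_prime_pow fun q hq x hx hk => ?_)
  have : Fact q.Prime := ⟨hq⟩
  obtain ⟨P⟩ : Nonempty (Sylow q G) := inferInstance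
  have h1 := inf_commutator_inf_center_le (P : Subgroup G) (coprime_relIndex_commutator P.card_coprime_index)
  rw [commutator_self_eq_bot (h q hq P)] at h1
  exact h1 ⟨⟨center_inf_le_sylow P hx.2 hk, hx.1⟩, hx.2⟩

end Cfsg.Agent.S0089
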