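import Cfsg.Statements.S0090
import Cfsg.Agent.Lib.Transfer.Apps

set_option autoImplicit false
open Cfsg

namespace Cfsg.Agent.S0090

open Lib.Transfer Subgroup

/-- An abelian normal Hall subgroup A splits as the internal direct product of G' ∩ A and Z(G) ∩ A, and [A, G] = G' ∩ A. -/
theorem result {G : Type*} [Group G] [Finite G] (A : Subgroup G) [A.Normal] (hc : IsMulCommutative A) (hHall : Nat.Coprime (Nat.card A) A.index) : ⁅A, (⊤ : Subgroup G)⁆ = commutator G ⊓ A ∧ (commutator G ⊓ A) ⊓ (Subgroup.center G ⊓ A) = ⊥ ∧ (commutator G ⊓ A) ⊔ (Subgroup.center G ⊓ A) = A := by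
  obtain ⟨-, h2⟩ := fitting_decomp hc le_top (normalizer_eq_top A).ge (by rwa [relIndex_top_right])
  rw [coe_top, centralizer_univ] at h2
  have h3 := inf_commutator_inf_center_le A (coprime_relIndex_commutator hHall)
  rw [commutator_self_eq_bot hc, le_bot_iff] at h3
  have h4 : ⁅A, (⊤ : Subgroup G)⁆ ≤ commutator G ⊓ A :=
    le_inf (commutator_mono le_top le_rfl) (commutator_le_left _ _)
  have h5 : (commutator G ⊓ A) ⊓ (center G ⊓ A) = ⊥ := by
    rw [eq_bot_iff, ← h3]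
    exact fun x hx => ⟨⟨hx.1.2, hx.1.1⟩, hx.2.1⟩
  have h6 : ⁅A, (⊤ : Subgroup G)⁆ = commutator G ⊓ A := by
    refine le_antisymm h4 fun x hx => ?_
    have hx' : x ∈ A ⊓ center G ⊔ ⁅A, (⊤ : Subgroup G)⁆ := h2.symm ▸ hx.2
    obtain ⟨z, hz, u, hu, rfl⟩ := mem_sup_of_normal_right.1 hx'
    have h7 : z ∈ (commutator G ⊓ A) ⊓ (center G ⊓ A) :=
      ⟨by simpa using mul_mem hx (inv_mem (h4 hu)), hz.2, hz.1⟩
    rw [h5, mem_bot] at h7
    rwa [h7, one_mul]
  refine ⟨h6, h5, ?_⟩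
  rw [← h6, sup_comm, inf_comm, h2]

end Cfsg.Agent.S0090
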