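import Cfsg.Statements.S0091
import Cfsg.Agent.Lib.Transfer.Frobenius

set_option autoImplicit false
open Cfsg

namespace Cfsg.Agent.S0091

open Lib.Transfer Subgroup

/-- If a nontrivial Sylow p-subgroup controls its own fusion then it is not contained in the derived subgroup. -/
theorem result {G : Type*} [Group G] [Finite G] {p : ℕ} [Fact p.Prime] (P : Sylow p G) (hp : p ∣ Nat.card G) (h : ∀ x ∈ P, ∀ y ∈ P, (∃ g : G, g * x * g⁻¹ = y) → ∃ z ∈ P, z * x * z⁻¹ = y) : ¬ (P : Subgroup G) ≤ commutator G := by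
  intro hle
  have h1 : (P : Subgroup G) ≤ ⁅(P : Subgroup G), (P : Subgroup G)⁆ ⊔ ⊥ := by
    have h2 := (sylowIn_top P).commutator_inf
    rw [inf_eq_right.2 (show (P : Subgroup G) ≤ ⁅(⊤ : Subgroup G), ⊤⁆ from hle)] at h2
    rw [sup_bot_eq]
    refine h2.le.trans ((focalIn_le_of_controls fun x hx g _ hg => ?_).trans
      (focalIn_le_commutator _ _))
    exact h x hx _ hg ⟨g, rfl⟩
  have h2 := le_of_le_commutator_sup P.2.isNilpotent le_rfl le_normalizer_of_normal h1
  exact P.ne_bot_of_dvd_card hp (le_bot_iff.1 h2)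

end Cfsg.Agent.S0091
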