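import Cfsg.Statements.S0092
import Cfsg.Agent.Lib.Transfer.Apps

set_option autoImplicit false
open Cfsg

namespace Cfsg.Agent.S0092

open Lib.Transfer Subgroup

/-- If the Sylow p-subgroups of O^p(G) are abelian then G splits over O^p(G). -/
theorem result {G : Type*} [Group G] [Finite G] {p : ℕ} [Fact p.Prime] (h : ∀ Q : Sylow p (Cfsg.pResidual p G), IsMulCommutative Q) : ∃ K : Subgroup G, K.IsComplement' (Cfsg.pResidual p G) := by
  have hp : p.Prime := Fact.out
  have hn : (pResidual p G).Normal := pResidual_normal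
  obtain ⟨S₀⟩ : Nonempty (Sylow p (pResidual p G)) := inferInstance
  have hS := sylowIn_map_subtype S₀
  have hc : IsMulCommutative ((S₀ : Subgroup (pResidual p G)).map (pResidual p G).subtype) :=
    have := h S₀; inferInstance
  generalize (S₀ : Subgroup (pResidual p G)).map (pResidual p G).subtype = S at hS hc
  have e : resOf p (pResidual p G) = pResidual p G := by rw [← resOf_top, resOf_resOf]
  generalize hN : pResidual p G = N at *
  have h1 : S ≤ N ⊓ normalizer (S : Set G) := le_inf hS.1 le_normalizer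
  obtain ⟨L, hL, h2, h3, h4⟩ := Lib.Hall.sz_exists_internal h1 inf_le_right (hS.mono h1 inf_le_left).coprime
  have hcop : (Nat.card L).Coprime (Nat.card S) := h4 ▸ (hS.mono h1 inf_le_left).coprime.symm
  have h5 : S ⊓ centralizer (L : Set G) = ⊥ := by
    have h6 := (hS.fitting_decomp hc).1
    rw [← hS.inf_resOf_of_comm hc, e, inf_eq_left.2 hS.1, inf_eq_left.2 inf_le_left, ← h3,
      inf_centralizer_sup_of_comm hc] at h6
    exact h6
  obtain ⟨K, hK⟩ := exists_sylowIn (p := p) (normalizer (S : Set G) ⊓ normalizer (L : Set G))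
  refine ⟨K, (Lib.Hall.isComplement'_of_normal ?_ ?_).symm⟩
  · rw [eq_bot_iff, ← h5]
    have h6 : N ⊓ K ≤ S := (hS.mono h1 inf_le_left).le_of_normalizes (hK.isPGroup.to_le inf_le_right)
      (inf_le_inf_left _ (hK.1.trans inf_le_left)) (inf_le_right.trans (hK.1.trans inf_le_left))
    refine le_inf h6 ?_
    rw [← commutator_eq_bot_iff_le_centralizer, eq_bot_iff, ← h2]
    refine le_inf ((commutator_mono h6 le_rfl).trans (Lib.Coprime.commutator_le_of_le_normalizer
      (hL.trans inf_le_right))) ?_
    rw [commutator_comm]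
    exact Lib.Coprime.commutator_le_of_le_normalizer (inf_le_right.trans (hK.1.trans inf_le_right))
  · rw [eq_top_iff]
    intro g _
    obtain ⟨n, hn', m, hm, rfl⟩ := hS.frattini (H := ⊤) (normalizer_eq_top N).ge (mem_top g)
    obtain ⟨s, hs, h6⟩ := Lib.Coprime.exists_conj_eq_of_card_eq (B := cj m L) (hL.trans inf_le_right) hcop
      (Or.inr (Lib.Coprime.isSolvable_of_isMulCommutative S)) (by
        rw [h3]
        refine (cj_mono m hL).trans ?_
        rw [cj_inf, cj_eq_of_normal, cj_eq_of_mem hm]) (card_cj m L)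
    rw [← cj_eq_smul] at h6
    have h7 : s⁻¹ * m ∈ normalizer (S : Set G) ⊓ normalizer (L : Set G) :=
      mem_inf.2 ⟨mul_mem (inv_mem (le_normalizer hs)) hm, cj_eq_iff.1 (by rw [cj_mul, ← h6, cj_inv_cj])⟩
    rw [← hK.resOf_sup] at h7
    have h8 : resOf p (normalizer (S : Set G) ⊓ normalizer (L : Set G)) ≤ N := by
      rw [← hN, ← resOf_top]; exact resOf_mono le_top
    have h9 := mul_mem (mem_sup_left (mul_mem hn' (hS.1 hs)) : n * s ∈ N ⊔ K) (sup_le_sup_right h8 K h7)
    simpa [mul_assoc] using h9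

end Cfsg.Agent.S0092
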