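import Cfsg.Statements.S0094
import Cfsg.Agent.Lib.PGrp.CExt

set_option autoImplicit false
open Cfsg

namespace Cfsg.Agent.S0094

open Cfsg.Lib.PGrp Cfsg.Lib.Forms Subgroup
open scoped commutatorElement

/-- In a special p-group every central element has order dividing p. -/
theorem result {P : Type*} [Group P] [Finite P] {p : ℕ} [Fact p.Prime] (h : Cfsg.IsSpecial p P) (z : P) (hz : z ∈ Subgroup.center P) : z ^ p = 1 := by
  obtain ⟨hP, h1, h2⟩ := h
  have hc := commutator_le_center_iff.1 h2.le
  have : commutator P ≤ omegaOne p (center P) := commutator_le.2 fun x _ y _ => mem_omegaOne_of_pow (hc x y) (by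
    rw [← commutator_pow_left (commute_of_mem_center (hc x y) x)]
    exact (commute_of_mem_center (h1 ▸ pow_mem_frattini hP x) y).commutator_eq)
  exact pow_eq_one_of_mem_omegaOne_of_comm inferInstance z (this (h2 ▸ hz))

end Cfsg.Agent.S0094
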