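import Cfsg.Statements.S0097
import Cfsg.Agent.Lib.PGrp.CExt

set_option autoImplicit false
open Cfsg

namespace Cfsg.Agent.S0097

open Cfsg.Lib.PGrp Cfsg.Lib.Forms Subgroup
open scoped commutatorElement

/-- For odd p and E extraspecial, the subgroup generated by the elements of order dividing p has exponent dividing p and index at most p. -/
theorem result {E : Type*} [Group E] [Finite E] {p : ℕ} [Fact p.Prime] (hp : p ≠ 2) (h : Cfsg.IsExtraspecial p E) : (Subgroup.closure {x : E | x ^ p = 1}).index ≤ p ∧ ∀ g ∈ Subgroup.closure {x : E | x ^ p = 1}, g ^ p = 1 := by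
  obtain ⟨V, _, _, _, M, m, -, hm⟩ := Cfsg.Lib.PGrp.IsExtraspecial.exists_cExt h
  have ho := (Fact.out : p.Prime).odd_of_ne_two hp
  let f : E →* E := MonoidHom.mk' (· ^ p) fun x y =>
    mul_pow_eq_of_odd (M.commutator_comm _ _ _) (M.commutator_comm _ _ _) ho (M.commutator_pow _ _)
  rw [show closure {x : E | x ^ p = 1} = f.ker from closure_eq f.ker]
  refine ⟨?_, fun _ h => h⟩
  rw [index_ker, ← M.card_range]
  exact card_le_of_le (by rintro _ ⟨x, rfl⟩; exact M.pr_eq_zero'.1 (M.pr_pow_p x))

end Cfsg.Agent.S0097
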