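import Cfsg.Statements.S0098
import Cfsg.Agent.Lib.PGrp.CExt

set_option autoImplicit false
open Cfsg

namespace Cfsg.Agent.S0098

open Cfsg.Lib.PGrp Cfsg.Lib.Forms Subgroup
open scoped commutatorElement

/-- For odd p, extraspecial p-groups of exponent p are determined up to isomorphism by their order. -/
theorem result {E₁ : Type*} {E₂ : Type*} [Group E₁] [Group E₂] [Finite E₁] [Finite E₂] {p : ℕ} [Fact p.Prime] (hp : p ≠ 2) (h₁ : Cfsg.IsExtraspecial p E₁) (h₂ : Cfsg.IsExtraspecial p E₂) (he₁ : Monoid.exponent E₁ = p) (he₂ : Monoid.exponent E₂ = p) (hc : Nat.card E₁ = Nat.card E₂) : Nonempty (E₁ ≃* E₂) := by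
  obtain ⟨V, _, _, _, M, m, hN, hm⟩ := Cfsg.Lib.PGrp.IsExtraspecial.exists_cExt h₁
  obtain ⟨V', _, _, _, M', m', hN', hm'⟩ := Cfsg.Lib.PGrp.IsExtraspecial.exists_cExt h₂
  rw [M.card_eq_pow, M'.card_eq_pow, Nat.pow_right_inj (Fact.out : p.Prime).one_lt, Nat.succ_inj] at hc
  obtain ⟨f, hf⟩ := Symp.iso hN hN' hc
  obtain ⟨φ, -⟩ := M.exists_mulEquiv M' f hf.1 fun v => by
    obtain ⟨x, rfl⟩ := M.pr_surjective v
    obtain ⟨y, hy⟩ := M'.pr_surjective (f (M.pr x))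
    rw [← hy, M.P_eq_zero.2 (he₁ ▸ Monoid.pow_exponent_eq_one x), M'.P_eq_zero.2 (he₂ ▸ Monoid.pow_exponent_eq_one y)]
  exact ⟨φ⟩

end Cfsg.Agent.S0098
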