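import Cfsg.Statements.S0099
import Cfsg.Agent.Lib.PGrp.CExt

set_option autoImplicit false
open Cfsg

namespace Cfsg.Agent.S0099

open Cfsg.Lib.PGrp Cfsg.Lib.Forms Subgroup
open scoped commutatorElement

/-- Among three extraspecial 2-groups of equal order, some two are isomorphic. -/
theorem result {E₁ : Type*} {E₂ : Type*} {E₃ : Type*} [Group E₁] [Group E₂] [Group E₃] [Finite E₁] [Finite E₂] [Finite E₃] (h₁ : Cfsg.IsExtraspecial 2 E₁) (h₂ : Cfsg.IsExtraspecial 2 E₂) (h₃ : Cfsg.IsExtraspecial 2 E₃) (h12 : Nat.card E₁ = Nat.card E₂) (h23 : Nat.card E₂ = Nat.card E₃) : Nonempty (E₁ ≃* E₂) ∨ Nonempty (E₂ ≃* E₃) ∨ Nonempty (E₁ ≃* E₃) := by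
  obtain ⟨V₁, _, _, _, M₁, m, hN₁, hm₁⟩ := Cfsg.Lib.PGrp.IsExtraspecial.exists_cExt h₁
  obtain ⟨V₂, _, _, _, M₂, -, hN₂, -⟩ := Cfsg.Lib.PGrp.IsExtraspecial.exists_cExt h₂
  obtain ⟨V₃, _, _, _, M₃, -, hN₃, -⟩ := Cfsg.Lib.PGrp.IsExtraspecial.exists_cExt h₃
  rw [M₁.card_eq_pow, M₂.card_eq_pow, Nat.pow_right_inj one_lt_two, Nat.succ_inj, hm₁] at h12
  rw [M₂.card_eq_pow, M₃.card_eq_pow, Nat.pow_right_inj one_lt_two, Nat.succ_inj, ← h12] at h23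
  have : (M₁.quad.HasTS (m + 1) ↔ M₂.quad.HasTS (m + 1)) ∨ (M₂.quad.HasTS (m + 1) ↔ M₃.quad.HasTS (m + 1)) ∨
    (M₁.quad.HasTS (m + 1) ↔ M₃.quad.HasTS (m + 1)) := by tauto
  exact this.imp (fun h => M₁.nonempty_mulEquiv M₂ (Quad.iso_of_type hN₁ hN₂ hm₁ h12.symm h)) (Or.imp
    (fun h => M₂.nonempty_mulEquiv M₃ (Quad.iso_of_type hN₂ hN₃ h12.symm h23.symm h))
    fun h => M₁.nonempty_mulEquiv M₃ (Quad.iso_of_type hN₁ hN₃ hm₁ h23.symm h))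

end Cfsg.Agent.S0099
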