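import Cfsg.Statements.S0104
import Cfsg.Agent.Lib.Transfer.Frobenius

set_option autoImplicit false
open Cfsg

namespace Cfsg.Agent.S0104

open Lib.Transfer Subgroup

/-- A subgroup Z of a Sylow p-subgroup P that is normalized by N_G(P) is weakly closed in P exactly when it is normal in every Sylow p-subgroup containing it. -/
theorem result {G : Type*} [Group G] [Finite G] {p : ℕ} [Fact p.Prime] (P : Sylow p G) (Z : Subgroup G) (hZP : Z ≤ (P : Subgroup G)) (hZN : Subgroup.normalizer (P : Set G) ≤ Subgroup.normalizer (Z : Set G)) : Cfsg.IsWeaklyClosed Z P ↔ ∀ R : Sylow p G, Z ≤ (R : Subgroup G) → (R : Subgroup G) ≤ Subgroup.normalizer (Z : Set G) := by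
  constructor
  · rintro ⟨-, h⟩ R hR r hr
    obtain ⟨g, hg⟩ := MulAction.exists_smul_eq G R P
    have e : cj g R = P := by rw [← coe_sylow_smul, hg]
    have h1 : cj g Z = Z := h g (e ▸ cj_mono g hR)
    have h2 : cj (g * r) Z = Z := h _ (by
      change cj _ _ ≤ _
      rw [cj_mul, ← e, ← cj_eq_of_mem hr]
      exact cj_mono _ (cj_mono _ hR))
    rw [cj_mul] at h2
    conv_rhs at h2 => rw [← h1]
    exact cj_eq_iff.1 (cj_inj.1 h2)
  · intro h
    refine ⟨hZP, fun g hg => ?_⟩
    change cj g Z ≤ P at hg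
    obtain ⟨n, hn, d, hd, e⟩ := (sylowIn_top P).burnside_fusion (D := normalizer (Z : Set G))
      (mem_top g) (h P hZP) (by
        have h1 := h (g⁻¹ • P) (by rw [coe_sylow_smul]; exact cj_le_iff_le_cj_inv.1 hg)
        rw [coe_sylow_smul, cj_le_iff_le_cj_inv, inv_inv] at h1
        exact h1)
    have h1 := cj_eq_iff.2 (hZN hn.2)
    rw [e, cj_mul, cj_eq_iff.2 hd.2] at h1
    exact h1

end Cfsg.Agent.S0104
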