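import Cfsg.Statements.S0105
import Cfsg.Agent.Lib.Transfer.Apps

set_option autoImplicit false
open Cfsg

namespace Cfsg.Agent.S0105

open Lib.Transfer Subgroup

/-- With an abelian Sylow p-subgroup P, some quotient of G is isomorphic to the part of P central in N_G(P). -/
theorem result {G : Type*} [Group G] [Finite G] {p : ℕ} [Fact p.Prime] (P : Sylow p G) (hP : IsMulCommutative P) : ∃ (N : Subgroup G) (hN : N.Normal), Nonempty (G ⧸ N ≃* ((P : Subgroup G) ⊓ Subgroup.centralizer (Subgroup.normalizer (P : Set G) : Set G) : Subgroup G)) := by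
  obtain ⟨h1, h2⟩ := (sylowIn_top P).fitting_decomp hP
  rw [← (sylowIn_top P).inf_resOf_of_comm hP, top_inf_eq, resOf_top] at h1 h2
  have h3 := (sylowIn_top P).resOf_sup
  rw [resOf_top] at h3
  have hn : (pResidual p G).Normal := pResidual_normal
  refine ⟨pResidual p G, hn, ⟨IsComplement'.QuotientMulEquiv (IsComplement'.symm
    (Lib.Hall.isComplement'_of_normal ?_ ?_))⟩⟩
  · rw [eq_bot_iff, ← h1]
    exact fun x hx => ⟨hx.2, hx.2.1, hx.1⟩
  · rw [eq_top_iff, ← h3]
    refine sup_le le_sup_left (h2.ge.trans (sup_le le_sup_right (inf_le_right.trans le_sup_left)))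

end Cfsg.Agent.S0105
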