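import Cfsg.Statements.S0106
import Cfsg.Agent.Lib.ABG.SolvQ

set_option autoImplicit false
open Cfsg Cfsg.Lib Cfsg.Lib.ABG Cfsg.Lib.Invol Cfsg.Lib.Transfer Subgroup

namespace Cfsg.Agent.S0106

/-- A finite group with generalized quaternion Sylow 2-subgroups either has a normal 2-complement or has a section isomorphic to SL(2,3). -/
theorem result {G : Type*} [Group G] [Finite G] (T : Sylow 2 G) (n : ℕ) (hn : 1 ≤ n) (hT : Nonempty ((T : Subgroup G) ≃* QuaternionGroup (2 ^ n))) : Cfsg.HasNormalPComplement 2 G ∨ ∃ (H K : Subgroup G) (hK : (K.subgroupOf H).Normal), Nonempty ((H ⧸ K.subgroupOf H) ≃* Matrix.SpecialLinearGroup (Fin 2) (ZMod 3)) := by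
  have := fact_two
  refine or_iff_not_imp_left.2 fun h => ?_
  obtain ⟨Q, h1, q, h2, h3, g, -, ⟨k, h4⟩, h5, h6⟩ := (sylowIn_top T).exists_of_not_pnil (mt hasNormalPComplement_iff_top.2 h)
  have h7 := T.isPGroup'.to_le h1
  have := Coprime.isSolvable_of_isPGroup h7
  have := Coprime.isSolvable_zpowers g
  have := Core.isSolvable_sup_of_le_normalizer (zpowers_le.2 h5)
  obtain ⟨E, -, ⟨e⟩⟩ := solv_uniqInv ((GW.uniqInv_of_quat (sylowIn_top T) hT.some).subgroup (zpowers g ⊔ Q)) fun e => h6
    ((hasNormalPComplement_iff.1 (hasNormalPComplement_iff_top.2 e)).mem_centralizer h7 le_sup_right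
      (mem_resOf (mem_sup_left (mem_zpowers g)) ((((Nat.coprime_primes h2 Nat.prime_two).2 h3).pow_left k).coprime_dvd_left
        (orderOf_dvd_of_pow_eq_one h4))) h5)
  let f := (e.toMonoidHom.comp ((QuotientGroup.mk' _).subgroupComap E)).comp
    (equivMapOfInjective _ _ (zpowers g ⊔ Q).subtype_injective).symm.toMonoidHom
  have hf : Function.Surjective f := (e.surjective.comp (MonoidHom.subgroupComap_surjective_of_surjective _ E
    (QuotientGroup.mk'_surjective _))).comp (MulEquiv.surjective _)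
  have h8 := comap_map_eq_self_of_injective (subtype_injective _) f.ker
  have h9 : (comap (Subgroup.subtype _) (f.ker.map (Subgroup.subtype _))).Normal := h8.symm ▸ f.normal_ker
  exact ⟨_, _, h9, ⟨(QuotientGroup.quotientMulEquivOfEq h8).trans (QuotientGroup.quotientKerEquivOfSurjective f hf)⟩⟩

end Cfsg.Agent.S0106
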