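import Cfsg.Statements.S0107
import Cfsg.Agent.Lib.Transfer.Apps

set_option autoImplicit false
open Cfsg

namespace Cfsg.Agent.S0107

open Lib.Transfer Subgroup

/-- A finite group with no nontrivial 2-group quotient and dihedral Sylow 2-subgroups of order at least 8 has a single class of involutions. -/
theorem result {G : Type*} [Group G] [Finite G] (T : Sylow 2 G) (n : ℕ) (hn : 2 ≤ n) (hT : Nonempty ((T : Subgroup G) ≃* DihedralGroup (2 ^ n))) (hO : Cfsg.pResidual 2 G = ⊤) (x y : G) (hx : orderOf x = 2) (hy : orderOf y = 2) : ∃ g : G, g * x * g⁻¹ = y := by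
  obtain ⟨e⟩ := hT
  have : NeZero (2 ^ n) := ⟨by positivity⟩
  let r : G := (e.symm (DihedralGroup.r 1) : (T : Subgroup G))
  have hr : orderOf r = 2 ^ n := by
    rw [Subgroup.orderOf_coe, MulEquiv.orderOf_eq, DihedralGroup.orderOf_r_one]
  have h1 : zpowers r ≤ T := zpowers_le.2 (e.symm _).2
  have h2 : (zpowers r).relIndex T = 2 := by
    have h3 := card_mul_relIndex h1
    rw [Nat.card_zpowers, hr, Nat.card_congr e.toEquiv, DihedralGroup.nat_card, mul_comm 2] at h3
    exact Nat.eq_of_mul_eq_mul_left (by positivity) h3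
  have h4 := Lib.Invol.pResidual_two_eq_top_iff.1 hO
  obtain ⟨g, hg⟩ := Lib.Invol.thompson_transfer' h4 (Lib.Invol.odd_index_sylow T) h2 hx
  obtain ⟨h, hh⟩ := Lib.Invol.thompson_transfer' h4 (Lib.Invol.odd_index_sylow T) h2 hy
  have h5 := Lib.Invol.eq_of_mem_zpowers hg hh (by rw [Lib.Invol.orderOf_conj, hx])
    (by rw [Lib.Invol.orderOf_conj, hy])
  refine ⟨h⁻¹ * g, ?_⟩
  calc h⁻¹ * g * x * (h⁻¹ * g)⁻¹ = h⁻¹ * (g * x * g⁻¹) * h := by group
    _ = y := by rw [h5]; group

end Cfsg.Agent.S0107
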