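import Cfsg.Statements.S0109
import Cfsg.Agent.Lib.KS9.TF

set_option autoImplicit false
open Cfsg

namespace Cfsg.Agent.S0109

open Subgroup Cfsg.Lib.Amalg Cfsg.Lib.KS9

/-- The Thompson factorization Theorem for solvable groups states that, with p odd (and abelian Sylow 2-subgroups when p = 3) and no nontrivial normal subgroup of order prime to p, every element of G is a product of an element normalizing J(P) and an element centralizing the elements of order dividing p in the centre of P. -/
theorem result {G : Type*} [Group G] [Finite G] {p : ℕ} [Fact p.Prime] (hp : p ≠ 2) (hs : Group.IsSolvable G) (h3 : p = 3 → ∀ T : Sylow 2 G, IsMulCommutative T) (hF : ∀ N : Subgroup G, N.Normal → Nat.Coprime (Nat.card N) p → N = ⊥) (P : Sylow p G) (g : G) : ∃ a ∈ Subgroup.normalizer (Cfsg.thompsonSubgroupOf p (P : Subgroup G) : Set G), ∃ c ∈ Subgroup.centralizer {x : G | x ∈ (P : Subgroup G) ∧ (∀ y ∈ (P : Subgroup G), x * y = y * x) ∧ x ^ p = 1}, g = a * c := by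
  have hsep : Cfsg.IsPSolvable p G := Cfsg.Lib.Core.isPSolvable_of_isSolvable Fact.out
  have hc : CharP p (⊤ : Subgroup G) := charP_top.2
    (Cfsg.Lib.Core.centralizer_pCore_le_of_isPSolvable Fact.out hsep
      (hF _ inferInstance (Cfsg.Lib.Core.coprime_card_pPrimeCore p G)))
  have h := thompson_le_cent_of_abelian_two hc.pRed_scc
    ((Cfsg.Lib.Core.isPSolvable_top_iff Fact.out).2 hsep) hp fun e => by
      obtain ⟨T⟩ : Nonempty (Sylow 2 G) := inferInstance
      exact ⟨T, syl_top T, h3 e T⟩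
  obtain ⟨c, hc, m, hm, e⟩ := factor_of_thompson_le (syl_top P) h (mem_top g⁻¹)
  refine ⟨m⁻¹, inv_mem hm.2, c⁻¹, inv_mem fun x hx => ?_, by rw [← mul_inv_rev, ← e, inv_inv]⟩
  exact hc.2 x (mem_omZ_iff.2 ⟨hx.1, fun y hy => (hx.2.1 y hy).symm, hx.2.2⟩)

end Cfsg.Agent.S0109
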