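import Cfsg.Statements.S0115
import Cfsg.Agent.Lib.PGrp.TwoMax

set_option autoImplicit false
open Cfsg

namespace Cfsg.Agent.S0115

open Cfsg.Lib.PGrp Subgroup
open scoped commutatorElement

/-- A 2-group of order 2^n, n ≥ 3, is of maximal class exactly when its commutator quotient is a Klein four-group. -/
theorem result {X : Type*} [Group X] [Finite X] (n : ℕ) (hn : 3 ≤ n) (hX : Nat.card X = 2 ^ n) : Group.nilpotencyClass X = n - 1 ↔ IsKleinFour (X ⧸ commutator X) := by
  refine ⟨fun hc => ?_, fun h => ?_⟩
  · have h := index_commutator_of_maxClass hX hc hn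
    exact ⟨h, (not_isCyclic_iff_exponent_eq_prime Nat.prime_two h).1
      (mt (isCyclic_of_quotient_commutator (IsPGroup.of_card hX)) (not_isCyclic_of_maxClass hc hn))⟩
  · obtain ⟨m, rfl⟩ := Nat.exists_eq_add_of_le' hn
    obtain ⟨a, b, h⟩ := exists_max2_of_index_commutator hX h.card_four
    exact h.maxClass

end Cfsg.Agent.S0115
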