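import Cfsg.Statements.S0116
import Cfsg.Agent.Lib.Transfer.Frobenius

set_option autoImplicit false
open Cfsg

namespace Cfsg.Agent.S0116

open Cfsg.Lib.Transfer Subgroup

section
variable {G : Type*} [Group G] {p : ℕ}

def Tame (P Q : Sylow p G) (x : G) : Prop :=
  x ∈ normalizer (((P : Subgroup G) ⊓ (Q : Subgroup G) : Subgroup G) : Set G) ∧
  ¬ p ∣ ((P : Subgroup G) ⊓ normalizer (((P : Subgroup G) ⊓ (Q : Subgroup G) : Subgroup G) : Set G)).relIndex
    (normalizer (((P : Subgroup G) ⊓ (Q : Subgroup G) : Subgroup G) : Set G)) ∧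
  ¬ p ∣ ((Q : Subgroup G) ⊓ normalizer (((P : Subgroup G) ⊓ (Q : Subgroup G) : Subgroup G) : Set G)).relIndex
    (normalizer (((P : Subgroup G) ⊓ (Q : Subgroup G) : Subgroup G) : Set G))

inductive Chain (P : Sylow p G) : Subgroup G → List (Sylow p G × G) → Prop
  | nil (D : Subgroup G) : Chain P D []
  | cons (D : Subgroup G) (Q : Sylow p G) (x : G) (l : List (Sylow p G × G)) :
      Tame P Q x → D ≤ (P : Subgroup G) ⊓ Q → Chain P (cj x⁻¹ D) l → Chain P D ((Q, x) :: l)

theorem Chain.mono {P : Sylow p G} {D : Subgroup G} {l : List (Sylow p G × G)} (h : Chain P D l) :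
    ∀ E ≤ D, Chain P E l := by
  induction h with
  | nil D => exact fun E _ => .nil E
  | cons D Q x l h1 h2 _ ih => exact fun E hE => .cons E Q x l h1 (hE.trans h2) (ih _ (cj_mono _ hE))

theorem Chain.append {P : Sylow p G} {D : Subgroup G} {l l' : List (Sylow p G × G)}
    (h : Chain P D l) : Chain P (cj (l.map Prod.snd).prod⁻¹ D) l' → Chain P D (l ++ l') := by
  induction h with
  | nil D => simp [cj_one]
  | cons D Q x l h1 h2 _ ih =>
    intro h
    refine .cons D Q x _ h1 h2 (ih ?_)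
    simpa [cj_mul] using h

theorem Chain.get {P : Sylow p G} {D : Subgroup G} {l : List (Sylow p G × G)} (h : Chain P D l) :
    ∀ (i : ℕ) (hi : i < l.length), Tame P l[i].1 l[i].2 ∧
      cj ((l.map Prod.snd).take i).prod⁻¹ D ≤ (P : Subgroup G) ⊓ l[i].1 := by
  induction h with
  | nil D => intro i hi; simp at hi
  | cons D Q x l h1 h2 _ ih =>
    intro i hi
    cases i with
    | zero => exact ⟨h1, by simpa [cj_one] using h2⟩
    | succ i =>
      have := ih i (by simpa using hi)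
      refine ⟨this.1, ?_⟩
      simpa [cj_mul] using this.2

theorem exists_chain [Finite G] [Fact p.Prime] (P : Sylow p G) (D : Subgroup G) (hD : D ≤ P) (g : G)
    (h : cj g D ≤ P) : ∃ l, Chain P D l ∧ (l.map Prod.snd).prod = g⁻¹ := by
  refine (sylowIn_top P).alperin_induction
    (fun D g => ∃ l, Chain P D l ∧ (l.map Prod.snd).prod = g⁻¹) ?_ ?_ ?_ D hD g (mem_top _) h
  · rintro D E g ⟨l, h1, h2⟩ hE
    exact ⟨l, h1.mono E hE, h2⟩
  · rintro D g h - - ⟨l, h1, h2⟩ ⟨l', h3, h4⟩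
    refine ⟨l ++ l', h1.append (by rwa [h2, inv_inv]), ?_⟩
    simp [h2, h4]
  · intro D hD hx ih n hn
    rw [top_inf_eq] at hx hn
    have hn' : n⁻¹ ∈ normalizer (D : Set G) := inv_mem hn
    have hDQ : D ≤ cj n⁻¹ P := by
      conv_lhs => rw [← cj_eq_of_mem_normalizer hn']
      exact cj_mono _ hD
    rcases (le_inf hD hDQ).eq_or_lt with e | hlt
    · refine ⟨[(n⁻¹ • P, n⁻¹)], .cons _ _ _ _ ?_ ?_ (.nil _), by simp⟩
      · unfold Tame
        rw [coe_sylow_smul, ← e]
        refine ⟨hn', hx.not_dvd, ?_⟩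
        have := (hx.cj_of_mem hn').not_dvd
        rwa [cj_inf, cj_normalizer, cj_eq_of_mem_normalizer hn'] at this
      · rw [coe_sylow_smul, ← e]
    · obtain ⟨l, h1, h2⟩ := ih _ inf_le_left n (mem_top _) (by
        rw [cj_inf, cj_cj_inv]; exact inf_le_right) (card_lt_of_lt hlt)
      exact ⟨l, h1.mono _ hlt.le, h2⟩

end

/-- The Alperin fusion Theorem states that conjugation between subsets of a Sylow p-subgroup P factors through normalizers of tame intersections P ∩ Q_i with other Sylow p-subgroups, carrying the subset along step by step. -/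
theorem result {G : Type*} [Group G] [Finite G] {p : ℕ} [Fact p.Prime] (P : Sylow p G) (A : Set G) (g : G) (hA : A ⊆ (P : Set G)) (hAg : (fun a => g⁻¹ * a * g) '' A ⊆ (P : Set G)) : ∃ (n : ℕ) (Q : Fin n → Sylow p G) (x : Fin n → G), (List.ofFn x).prod = g ∧ (∀ i : Fin n, x i ∈ Subgroup.normalizer ((((P : Subgroup G) ⊓ (Q i : Subgroup G)) : Subgroup G) : Set G) ∧ ¬ p ∣ ((P : Subgroup G) ⊓ Subgroup.normalizer ((((P : Subgroup G) ⊓ (Q i : Subgroup G)) : Subgroup G) : Set G)).relIndex (Subgroup.normalizer ((((P : Subgroup G) ⊓ (Q i : Subgroup G)) : Subgroup G) : Set G)) ∧ ¬ p ∣ ((Q i : Subgroup G) ⊓ Subgroup.normalizer ((((P : Subgroup G) ⊓ (Q i : Subgroup G)) : Subgroup G) : Set G)).relIndex (Subgroup.normalizer ((((P : Subgroup G) ⊓ (Q i : Subgroup G)) : Subgroup G) : Set G))) ∧ (∀ h : 0 < n, A ⊆ (((P : Subgroup G) ⊓ (Q ⟨0, h⟩ : Subgroup G) : Subgroup G) : Set G)) ∧ ∀ i : Fin n, ∀ h : i.val + 1 < n, (fun a => (((List.ofFn x).take (i.val + 1)).prod)⁻¹ * a * ((List.ofFn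 x).take (i.val + 1)).prod) '' A ⊆ (((P : Subgroup G) ⊓ (Q ⟨i.val + 1, h⟩ : Subgroup G) : Subgroup G) : Set G) := by
  have hD : Subgroup.closure A ≤ (P : Subgroup G) := (Subgroup.closure_le _).2 hA
  have hD' : cj g⁻¹ (Subgroup.closure A) ≤ (P : Subgroup G) := by
    rw [cj_le_iff_le_cj_inv, Subgroup.closure_le]
    intro a ha
    rw [inv_inv]
    exact mem_cj.2 (hAg ⟨a, ha, rfl⟩)
  obtain ⟨l, h1, h2⟩ := exists_chain P _ hD _ hD'
  have e : List.ofFn (fun i : Fin l.length => (l[i]).2) = l.map Prod.snd := by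
    apply List.ext_getElem <;> simp
  refine ⟨l.length, fun i => l[i].1, fun i => l[i].2, by rw [e, h2, inv_inv],
    fun i => (h1.get i i.2).1, fun h => ?_, fun i h => ?_⟩
  · have := (h1.get 0 h).2
    simp only [List.take_zero, List.prod_nil, inv_one, cj_one] at this
    exact fun a ha => this (Subgroup.subset_closure ha)
  · rintro _ ⟨a, ha, rfl⟩
    have := (h1.get (i + 1) h).2
    rw [cj_le_iff] at this
    rw [e]
    have := this a (Subgroup.subset_closure ha)
    rw [inv_inv] at this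
    exact this

end Cfsg.Agent.S0116
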