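import Cfsg.Statements.S0119
import Cfsg.Agent.Lib.Coprime.ActionForm

set_option autoImplicit false
open Cfsg

namespace Cfsg.Agent.S0119

open Subgroup Cfsg.Lib Cfsg.Lib.Coprime
open scoped commutatorElement


/-- If a p'-group A of automorphisms of a p-group G satisfies G = [G, A] and acts trivially on every characteristic abelian subgroup, then G is special with centre equal to the fixed points of A. -/
theorem result {G : Type*} [Group G] [Finite G] {p : ℕ} [Fact p.Prime] (hG : IsPGroup p G) (A : Subgroup (MulAut G)) (hA : Nat.Coprime (Nat.card A) p) (hGA : Subgroup.closure {x : G | ∃ g : G, ∃ a ∈ A, x = g⁻¹ * a g} = ⊤) (hchar : ∀ H : Subgroup G, H.Characteristic → IsMulCommutative H → ∀ a ∈ A, ∀ h ∈ H, a h = h) : Cfsg.IsSpecial p G ∧ (∀ g : G, (g ∈ Subgroup.center G ↔ ∀ a ∈ A, a g = g)) := by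
  set φ := MonoidHom.id (MulAut G) with hφ
  have hcomm : actComm φ ⊤ A = ⊤ := by
    rw [actComm]
    refine Eq.trans ?_ hGA
    congr 1
    ext x
    simp [hφ]
  have hcent : ∀ H : Subgroup G, H.Characteristic → IsMulCommutative H → H ≤ center G := by
    intro H h1 h2
    have h3 := actComm_le_centralizer (φ := φ) (B := A) (H := ⊤) (N := H) le_normalizer_of_normal
      (hchar H h1 h2)
    rw [hcomm, le_centralizer_iff, coe_top, centralizer_univ] at h3
    exact h3
  -- `G' ≤ Z(G)`
  have h1 : _root_.commutator G ≤ center G := by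
    by_contra hne
    obtain ⟨x, hx, hxZ, -, hx2⟩ := PGrp.exists_mem_central_mod hG (center G) (_root_.commutator G) hne
    let Z₂ : Subgroup G := (center (G ⧸ center G)).comap (QuotientGroup.mk' (center G))
    have hZ₂ : ⁅Z₂, (⊤ : Subgroup G)⁆ ≤ center G := by
      rw [commutator_le]
      intro y hy g _
      exact (PGrp.mk_mem_center_iff (center G) y).mp hy g
    have h3 : ⁅⁅(⊤ : Subgroup G), (⊤ : Subgroup G)⁆, Z₂⁆ = ⊥ := by
      apply commutator_commutator_eq_bot_of_rotate
      · rw [commutator_top_right_eq_bot_iff_le_center, commutator_comm]; exact hZ₂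
      · rw [commutator_top_right_eq_bot_iff_le_center]; exact hZ₂
    rw [commutator_eq_bot_iff_le_centralizer] at h3
    have hZc : Z₂.Characteristic := by
      rw [characteristic_iff_map_le]
      rintro ψ _ ⟨y, hy, rfl⟩
      refine (PGrp.mk_mem_center_iff (center G) _).mpr fun g => ?_
      obtain ⟨g, rfl⟩ := ψ.surjective g
      have := characteristic_iff_map_le.mp (inferInstance : (center G).Characteristic) ψ
        ⟨_, (PGrp.mk_mem_center_iff (center G) y).mp hy g, rfl⟩
      simpa [map_commutatorElement] using this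
    have hch : (Z₂ ⊓ _root_.commutator G).Characteristic := by
      rw [characteristic_iff_map_le]
      intro ψ
      exact (map_inf_le _ _ _).trans (inf_le_inf (characteristic_iff_map_le.mp hZc ψ)
        (characteristic_iff_map_le.mp inferInstance ψ))
    refine hxZ (hcent _ hch ⟨⟨fun a b => Subtype.ext ?_⟩⟩ ⟨(PGrp.mk_mem_center_iff (center G) x).mpr hx2, hx⟩)
    exact mem_centralizer_iff.mp (h3 b.2.2) a a.2.1
  have h1' := PGrp.commutator_le_center_iff.mp h1
  -- fixed points lie in `G'`
  have h2 : ∀ g : G, (∀ a ∈ A, a g = g) → g ∈ _root_.commutator G := by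
    intro g hg
    have hinv : ∀ a : MulAut G, ∀ x ∈ _root_.commutator G, φ a x ∈ _root_.commutator G :=
      fun a y hy => characteristic_iff_map_le.mp inferInstance a ⟨y, hy, rfl⟩
    have hab : IsMulCommutative (⊤ : Subgroup (G ⧸ _root_.commutator G)) :=
      ⟨⟨fun a b => Subtype.ext (mul_comm (G := Abelianization G) a.1 b.1)⟩⟩
    have h3 := actFix_inf_actComm (φ := quotAut φ _ hinv) (B := A) (V := ⊤) (fun _ _ _ _ => mem_top _)
      (coprime_card_of_isPGroup ((hG.to_quotient _).to_subgroup ⊤) hA)
    have h4 : (⊤ : Subgroup G) ≤ (actComm (quotAut φ _ hinv) ⊤ A).comap (QuotientGroup.mk' _) := by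
      rw [← hcomm, actComm_le]
      intro x _ b hb
      exact mem_actComm (φ := quotAut φ _ hinv) (mem_top (x : G ⧸ _root_.commutator G)) hb
    rw [← QuotientGroup.eq_one_iff, ← mem_bot, ← h3]
    refine ⟨⟨mem_top _, fun b hb => ?_⟩, h4 (mem_top g)⟩
    rw [quotAut_mk]
    exact congrArg _ (hg b hb)
  have h3 : ∀ g ∈ center G, ∀ a ∈ A, a g = g := fun g hg a ha =>
    hchar _ inferInstance inferInstance a ha g hg
  have h4 : _root_.commutator G = center G := le_antisymm h1 fun g hg => h2 g (h3 g hg)
  -- `p`-th powers are central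
  have h5 : ∀ e : ℕ, (∀ x : G, x ^ p ^ (e + 1) ∈ center G) → ∀ x : G, x ^ p ∈ center G := by
    intro e
    induction e with
    | zero => simp
    | succ e ih =>
      intro h
      apply ih
      have hch : (closure (Set.range fun x : G => x ^ p ^ (e + 1))).Characteristic := by
        rw [characteristic_iff_map_le]
        intro ψ
        rw [MonoidHom.map_closure]
        apply Subgroup.closure_mono
        rintro _ ⟨_, ⟨x, rfl⟩, rfl⟩
        exact ⟨ψ x, by simp⟩
      have hab : IsMulCommutative (closure (Set.range fun x : G => x ^ p ^ (e + 1))) := by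
        apply isMulCommutative_closure
        rintro _ ⟨x, rfl⟩ _ ⟨y, rfl⟩
        rw [← commutatorElement_eq_one_iff_mul_comm,
          PGrp.commutator_pow_left (PGrp.commute_of_mem_center (h1' _ _) _),
          PGrp.commutator_pow_right (PGrp.commute_of_mem_center (h1' _ _) _), ← pow_mul, ← pow_add,
          show e + 1 + (e + 1) = (e + 1 + 1) + e by ring, pow_add, pow_mul,
          ← PGrp.commutator_pow_left (PGrp.commute_of_mem_center (h1' _ _) _),
          (PGrp.commute_of_mem_center (h x) y).commutator_eq, one_pow]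
      exact fun x => hcent _ hch hab (subset_closure ⟨x, rfl⟩)
  obtain ⟨n, hn⟩ := IsPGroup.iff_card.mp hG
  have h6 := h5 n fun x => by
    rw [pow_succ, pow_mul, ← hn, pow_card_eq_one', one_pow]; exact one_mem _
  refine ⟨⟨hG, le_antisymm (PGrp.frattini_le hG _ h1 h6) (h4 ▸ PGrp.commutator_le_frattini hG), h4⟩,
    fun g => ⟨h3 g, fun hg => h1 (h2 g hg)⟩⟩

end Cfsg.Agent.S0119
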