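import Cfsg.Statements.S0123
import Cfsg.Agent.Lib.PGrp.Regular

set_option autoImplicit false
open Cfsg

namespace Cfsg.Agent.S0123

open Cfsg.Lib.PGrp

/-- For a p-group of small class relative to p (class ≤ 2 with p odd, or class ≤ 3 with p > 3) whose derived subgroup is generated by elements of order dividing p, the p-th power map is multiplicative. -/
theorem result {R : Type*} [Group R] [Finite R] {p : ℕ} [Fact p.Prime] (hR : IsPGroup p R) (hcl : (p ≠ 2 ∧ ⁅commutator R, (⊤ : Subgroup R)⁆ = ⊥) ∨ (3 < p ∧ ⁅⁅commutator R, (⊤ : Subgroup R)⁆, (⊤ : Subgroup R)⁆ = ⊥)) (hder : commutator R ≤ Subgroup.closure {x : R | x ^ p = 1}) (x y : R) : (x * y) ^ p = x ^ p * y ^ p := by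
  have h : WeakReg p R := by
    refine weakReg_of_lcs_eq_bot (eq_bot_iff.2 ?_)
    rcases hcl with ⟨hp, hcl⟩ | ⟨hp, hcl⟩
    · have h3 : (⊤ : Subgroup R).lowerCentralSeries 2 = ⊥ := hcl
      have := (Fact.out : p.Prime).two_le
      exact h3 ▸ Subgroup.lowerCentralSeries_antitone _ (by omega)
    · have h3 : (⊤ : Subgroup R).lowerCentralSeries 3 = ⊥ := hcl
      exact h3 ▸ Subgroup.lowerCentralSeries_antitone _ (by omega)
  rw [← omegaOne_top] at hder
  have := h.mul_pow_pow hR 1 ⊤ (fun c hc => by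
    rw [pow_one]; exact h.pow_eq_one_of_mem_omegaOne hR ⊤ c (hder hc)) x trivial y trivial
  rwa [pow_one] at this

end Cfsg.Agent.S0123
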