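import Cfsg.Statements.S0132
import Cfsg.Agent.Lib.Transfer.Apps

set_option autoImplicit false
open Cfsg

namespace Cfsg.Agent.S0132

open Lib.Transfer Subgroup

/-- A minimal non-p-nilpotent finite group is a minimal non-nilpotent group with a normal Sylow p-subgroup. -/
theorem result {G : Type*} [Group G] [Finite G] {p : ℕ} [Fact p.Prime] (h1 : ¬ Cfsg.HasNormalPComplement p G) (h2 : ∀ H : Subgroup G, H ≠ ⊤ → Cfsg.HasNormalPComplement p H) : (∀ H : Subgroup G, H ≠ ⊤ → Group.IsNilpotent H) ∧ ¬ Group.IsNilpotent G ∧ ∀ P : Sylow p G, (P : Subgroup G).Normal := by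
  have hp : p.Prime := Fact.out
  rw [hasNormalPComplement_iff_top] at h1
  simp only [hasNormalPComplement_iff] at h2
  obtain ⟨P⟩ : Nonempty (Sylow p G) := inferInstance
  obtain ⟨Q, hQ, q, hq, hqp, g, -, ⟨k, hk⟩, hn, hc⟩ := (sylowIn_top P).exists_of_not_pnil h1
  have : Fact q.Prime := ⟨hq⟩
  have hQp : IsPGroup p Q := P.2.to_le hQ
  have hA : IsPGroup q (zpowers g) := Lib.Invol.isPGroup_zpowers hk
  have h3 : Q ⊔ zpowers g = ⊤ := by
    by_contra h
    refine hc ((h2 _ h).mem_centralizer hQp le_sup_left (mem_resOf (mem_sup_right (mem_zpowers g)) ?_) hn)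
    exact Nat.Coprime.coprime_dvd_left (orderOf_dvd_of_pow_eq_one hk)
      (Nat.Coprime.pow_left k ((Nat.coprime_primes hq hp).2 hqp))
  obtain ⟨a, ha⟩ := IsPGroup.iff_card.1 hQp
  obtain ⟨b, hb⟩ := IsPGroup.iff_card.1 hA
  have h4 : ¬ q ∣ Nat.card Q := by
    rw [ha]; exact fun h => hqp ((Nat.prime_dvd_prime_iff_eq hq hp).1 (hq.dvd_of_dvd_pow h))
  have h5 : PNil q (⊤ : Subgroup G) := h3 ▸ pnil_sup h4 hA (zpowers_le.2 hn)
  have h6 : Nat.card G = p ^ a * q ^ b := by
    rw [← card_top, ← h3, Lib.Coprime.card_sup_of_disjoint' (zpowers_le.2 hn)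
      (disjoint_iff.1 (IsPGroup.disjoint_of_ne p q hqp.symm _ _ hQp hA)), ha, hb]
  have hN : Q.Normal := by
    rw [← normalizer_eq_top_iff, eq_top_iff, ← h3]
    exact sup_le le_normalizer (zpowers_le.2 hn)
  refine ⟨fun H hH => Lib.Hall.isNilpotent_of_forall_pnil fun r hr hd => ?_,
    fun h => h1 (hasNormalPComplement_iff_top.1 hasNormalPComplement_of_isNilpotent), fun R => ?_⟩
  · have h7 : PNil r H := by
      have h8 := hd.trans (card_subgroup_dvd_card H)
      rw [h6] at h8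
      rcases (Nat.Prime.dvd_mul hr.out).1 h8 with h | h
      · obtain rfl := (Nat.prime_dvd_prime_iff_eq hr.out hp).1 (hr.out.dvd_of_dvd_pow h)
        exact h2 H hH
      · obtain rfl := (Nat.prime_dvd_prime_iff_eq hr.out hq).1 (hr.out.dvd_of_dvd_pow h)
        exact h5.mono le_top
    exact hasNormalPComplement_iff_top.1 (hasNormalPComplement_iff.2 h7)
  · have h7 : SylowIn p Q ⊤ := by
      refine ⟨le_top, hQp, ?_⟩
      have h8 := card_mul_relIndex (le_top : Q ≤ ⊤)
      rw [card_top, h6, ha] at h8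
      rw [Nat.eq_of_mul_eq_mul_left (pow_pos hp.pos a) h8]
      exact fun h => hqp ((Nat.prime_dvd_prime_iff_eq hp hq).1 (hp.dvd_of_dvd_pow h)).symm
    obtain ⟨h, -, h8⟩ := h7.exists_cj_eq (sylowIn_top R)
    rw [← h8, cj_eq_of_normal]
    exact hN

end Cfsg.Agent.S0132
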