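import Cfsg.Statements.S0154
import Cfsg.Agent.Lib.Char.Kernel

set_option autoImplicit false
open Cfsg

namespace Cfsg.Agent.S0154
open Cfsg.Lib.Char

/-- A finite group has exactly as many irreducible complex characters of degree 1 as the index of its commutator subgroup. -/
theorem result {G : Type*} [Group G] [Finite G] : Nat.card {χ : Cfsg.IrrCharacter G // (χ : G → ℂ) 1 = 1} = (commutator G).index := by
  have e : {χ : Cfsg.IrrCharacter G // (χ : G → ℂ) 1 = 1} ≃
      {χ : IrrCharacter G // commutator G ≤ charKer (χ : G → ℂ)} :=
    Equiv.subtypeEquivRight fun χ => χ.2.degree_eq_one_iff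
  rw [Nat.card_congr (e.trans (irrQuotientEquiv (commutator G)).symm), card_irr_eq_card_conjClasses,
    Subgroup.index_eq_card]
  exact (Nat.card_congr (ConjClasses.mkEquiv (α := Abelianization G))).symm

end Cfsg.Agent.S0154
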