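import Cfsg.Statements.S0161
import Cfsg.Agent.Lib.Hall.FS

set_option autoImplicit false
open Cfsg

namespace Cfsg.Agent.S0161

open scoped Pointwise
open Cfsg.Lib Cfsg.Lib.Hall Cfsg.Lib.Char

/-- In a finite group of odd order, a real-valued irreducible complex character is the trivial character. -/
theorem result {G : Type*} [Group G] [Finite G] (hodd : Odd (Nat.card G)) (χ : Cfsg.IrrCharacter G) (hreal : ∀ g : G, ((χ : G → ℂ) g).im = 0) : (χ : G → ℂ) = fun _ => 1 := by
  haveI := Fintype.ofFinite G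
  by_contra h
  have h1 := χ.2.sum_eq_zero h
  have h2 : fs (χ : G → ℂ) = 0 := by
    rw [fs, ← mul_zero (Nat.card G : ℂ)⁻¹, ← h1]
    congr 1
    refine Fintype.sum_equiv (powCoprime (G := G) (n := 2) hodd.coprime_two_right) _ _ fun s => ?_
    simp [sq]
  obtain ⟨g, hg⟩ := χ.2.fs_eq_zero_iff.1 h2
  exact hg (hreal g)

end Cfsg.Agent.S0161
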