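import Cfsg.Statements.S0162
import Cfsg.Agent.Lib.Hall.FS
import Cfsg.Agent.S0161

set_option autoImplicit false
open Cfsg

namespace Cfsg.Agent.S0162

open scoped Pointwise
open Cfsg.Lib Cfsg.Lib.Hall Cfsg.Lib.Char

/-- If a finite group has odd order, its order is congruent to its number of conjugacy classes modulo 16. -/
theorem result {G : Type*} [Group G] [Finite G] (hodd : Odd (Nat.card G)) : Nat.card G ≡ Nat.card (ConjClasses G) [MOD 16] := by
  classical
  haveI := Fintype.ofFinite G
  rw [← Char.card_irr_eq_card_conjClasses, ← ZMod.natCast_eq_natCast_iff]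
  have h1 : Nat.card G = ∑ χ : IrrCharacter G, charDegree (χ : G → ℂ) ^ 2 := by
    have := Char.sum_degree_sq (G := G)
    simp only [← fun χ : IrrCharacter G => χ.2.coe_charDegree] at this
    exact_mod_cast this.symm
  have h2 : ∑ χ : IrrCharacter G, ((charDegree (χ : G → ℂ) : ZMod 16) ^ 2 - 1) = 0 := by
    refine Finset.sum_involution (fun χ _ => ⟨_, χ.2.conj⟩) (fun χ _ => ?_) (fun χ _ h e => h ?_)
      (fun _ _ => Finset.mem_univ _) (fun χ _ => Subtype.ext (by simp))
    · have e : charDegree (fun g => (starRingEnd ℂ) ((χ : G → ℂ) g)) = charDegree (χ : G → ℂ) :=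
        Char.charDegree_eq_of_eq (by rw [← χ.2.coe_charDegree, map_natCast])
      obtain ⟨k, hk⟩ := hodd.of_dvd_nat χ.2.charDegree_dvd_card
      obtain ⟨m, hm⟩ := Nat.even_mul_succ_self k
      have hm' : (k : ZMod 16) * (k + 1) = m + m := by exact_mod_cast congrArg (Nat.cast : ℕ → ZMod 16) hm
      simp only [e, hk]
      push_cast
      have h16 : (16 : ZMod 16) = 0 := rfl
      linear_combination 8 * hm' + m * h16
    · have := Cfsg.Agent.S0161.result hodd χ (eq_conj_iff_im.1 (congrArg Subtype.val e).symm)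
      rw [Char.charDegree_eq_of_eq (n := 1) (by rw [this]; simp)]; simp
  rw [Finset.sum_sub_distrib, sub_eq_zero] at h2
  rw [h1]; push_cast
  rw [h2]; simp

end Cfsg.Agent.S0162
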