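import Cfsg.Statements.S0163
import Cfsg.Agent.Lib.Block.BrauerInd
import Cfsg.Agent.S0176

set_option autoImplicit false
open Cfsg

namespace Cfsg.Agent.S0163

open Cfsg.Lib.Block Cfsg.Lib.Char Cfsg.Lib.Amalg
set_option linter.style.haveILetI false

/-- linear characters of elementary subgroups, induced -/
def linSet (G : Type*) [Group G] [Fintype G] : Set (G → ℂ) :=
  {f | ∃ (E : Subgroup G) (lam : E →* ℂˣ), (∃ p : ℕ, p.Prime ∧ IsElementary p E) ∧
    f = indFun E fun e => (lam e : ℂ)}

theorem elem_of_injective {A B : Type*} [Group A] [Group B] [Finite B] {p : ℕ} (hp : p.Prime)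
    (h : IsElementary p B) (f : A →* B) (hf : Function.Injective f) : IsElementary p A := by
  obtain ⟨x, hx, hc, k, hk⟩ := h
  haveI : (Subgroup.zpowers x).Normal := ⟨fun a ha g => by
    rw [Subgroup.mem_center_iff.1 (Subgroup.zpowers_le.2 hx ha) g, mul_inv_cancel_right]; exact ha⟩
  haveI : IsCyclic ((Subgroup.zpowers x).comap f) :=
    isCyclic_of_injective (((Subgroup.zpowers x).comap f).subtype.codRestrict _ (fun y => y.2) |>
      (f.subgroupComap _).comp) fun a b e => Subtype.ext (hf (congrArg Subtype.val e))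
  obtain ⟨y, hy⟩ := (Subgroup.isCyclic_iff_exists_zpowers_eq_top _).1 this
  have hyx : f y ∈ Subgroup.zpowers x := hy.le (Subgroup.mem_zpowers y)
  refine ⟨y, Subgroup.mem_center_iff.2 fun a => hf ?_, ?_, ?_⟩
  · rw [map_mul, map_mul, Subgroup.mem_center_iff.1 (Subgroup.zpowers_le.2 hx hyx)]
  · rw [← orderOf_injective f hf]
    exact hc.coprime_dvd_left (orderOf_dvd_of_mem_zpowers hyx)
  · rw [hy, Subgroup.index_comap]
    obtain ⟨j, -, hj⟩ := (Nat.dvd_prime_pow hp).1 (hk ▸ Subgroup.relIndex_dvd_index_of_normal (Subgroup.zpowers x) f.range)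
    exact ⟨j, hj⟩

theorem indFun_mem {G : Type*} [Group G] [Fintype G] {E : Subgroup G} {p : ℕ} (hp : p.Prime)
    (hE : IsElementary p E) {φ : E → ℂ} (hφ : IsCharacter E φ) :
    indFun E φ ∈ Submodule.span ℤ (linSet G) := by
  classical
  haveI := hE.isNilpotent hp
  refine hφ.induction_on (P := fun φ => indFun E φ ∈ Submodule.span ℤ (linSet G))
    (by rw [indFun_zero]; exact zero_mem _) (fun ψ hψ => ?_)
    fun a b _ _ ha hb => by rw [indFun_add]; exact add_mem ha hb
  · obtain ⟨L, lam, rfl⟩ := Cfsg.Agent.S0176.result ψ hψ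
    rw [indFun_indFun_map]
    let e := (L.equivMapOfInjective _ E.subtype_injective).symm
    exact Submodule.subset_span ⟨_, lam.comp e.toMonoidHom, ⟨p, hp,
      elem_of_injective hp hE (L.subtype.comp e.toMonoidHom)
        (L.subtype_injective.comp e.injective)⟩, rfl⟩

/-- Brauer's induction Theorem: every character of a finite group is a ℤ-linear combination of functions induced from linear characters (homomorphisms to ℂˣ) of elementary subgroups. -/
theorem result {G : Type*} [Group G] [Fintype G] (χ : G → ℂ) (hχ : Cfsg.IsCharacter G χ) : ∃ l : List ((E : Subgroup G) × ((E →* ℂˣ) × ℤ)), (∀ t ∈ l, ∃ p : ℕ, p.Prime ∧ Cfsg.IsElementary p t.1) ∧ χ = (l.map fun t => (t.2.2 : ℂ) • Cfsg.indFun t.1 (fun e => (t.2.1 e : ℂ))).sum := by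
  have h1 : ∀ v ∈ Submodule.span ℤ (⋃ p ∈ {p : ℕ | p.Prime}, elemSet G p),
      v * χ ∈ Submodule.span ℤ (linSet G) := by
    intro v hv
    induction hv using Submodule.span_induction with
    | mem x hx =>
      simp only [Set.mem_iUnion] at hx
      obtain ⟨p, hp, E, φ, hE', hφ, rfl⟩ := hx
      rw [← indFun_mul_restrict _ hχ.isClassFunction]
      exact indFun_mem hp hE' (hφ.mul (hχ.restrict E))
    | zero => rw [zero_mul]; exact zero_mem _
    | add x y _ _ hx hy => rw [add_mul]; exact add_mem hx hy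
    | smul c x _ hx => rw [smul_mul_assoc]; exact Submodule.smul_mem _ c hx
  have h2 := h1 1 one_mem_span_elemSet
  rw [one_mul] at h2
  clear hχ h1
  induction h2 using Submodule.span_induction with
  | mem x hx =>
    obtain ⟨E, lam, hE, rfl⟩ := hx
    exact ⟨[⟨E, lam, 1⟩], by simpa using hE, by simp⟩
  | zero => exact ⟨[], by simp, by simp⟩
  | add x y _ _ hx hy =>
    obtain ⟨l, h1, rfl⟩ := hx
    obtain ⟨l', h2, rfl⟩ := hy
    exact ⟨l ++ l', fun t ht => (List.mem_append.1 ht).elim (h1 t) (h2 t), by simp⟩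
  | smul c x _ hx =>
    obtain ⟨l, h1, rfl⟩ := hx
    refine ⟨l.map fun t => ⟨t.1, t.2.1, c * t.2.2⟩, fun t ht => ?_, ?_⟩
    · obtain ⟨s, hs, rfl⟩ := List.mem_map.1 ht
      exact h1 s hs
    · rw [List.smul_sum, List.map_map, List.map_map]
      congr 2
      funext t
      simp [mul_smul, ← Int.cast_smul_eq_zsmul ℂ]

end Cfsg.Agent.S0163
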