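import Cfsg.Statements.S0166
import Cfsg.Agent.S0163
import Cfsg.Agent.Lib.Small.Realize
import Cfsg.Agent.Lib.Char.Prod

set_option autoImplicit false
open Cfsg

namespace Cfsg.Agent.S0166

open Cfsg.Lib Cfsg.Lib.Char Cfsg.Lib.Small Module Finset
open scoped ComplexConjugate

variable {G : Type*} [Group G] (F : Subfield ℂ)

/-- characters afforded by representations over `F` -/
def FC (φ : G → ℂ) : Prop :=
  ∃ (n : ℕ) (R : G →* Matrix (Fin n) (Fin n) F), ∀ g, ((R g).trace : ℂ) = φ g

variable {F} {φ ψ : G → ℂ}

theorem fc_rep {V : Type*} [AddCommGroup V] [Module F V] [FiniteDimensional F V] (ρ : Representation F G V) :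
    FC F fun g => (ρ.character g : ℂ) :=
  ⟨_, (LinearMap.toMatrixAlgEquiv (finBasis F V)).toMonoidHom.comp ρ, fun g =>
    congrArg _ (LinearMap.trace_eq_matrix_trace F (finBasis F V) (ρ g)).symm⟩

theorem fc_char {V : Type*} [AddCommGroup V] [Module F V] [FiniteDimensional F V] (ρ : Representation F G V) :
    IsCharacter G fun g => (ρ.character g : ℂ) := by
  obtain ⟨n, R, h⟩ := fc_rep ρ
  exact ⟨n, matRep (F.subtype.mapMatrix.toMonoidHom.comp R), funext fun g => by
    rw [matRep_character]; exact (AddMonoidHom.map_trace F.subtype (R g)).symm.trans (h g)⟩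

theorem FC.add (h : FC F φ) (h' : FC F ψ) : FC F (φ + ψ) := by
  obtain ⟨n, R, h⟩ := h
  obtain ⟨m, S, h'⟩ := h'
  convert fc_rep ((matRep R).prod (matRep S)) using 1
  ext g
  simp [character_prod, matRep_character, h, h']

theorem fc_zero : FC F (0 : G → ℂ) := ⟨0, 1, fun _ => by simp⟩

theorem FC.nsmul (h : FC F φ) (n : ℕ) : FC F (n • φ) := by
  induction n with
  | zero => exact zero_smul ℕ φ ▸ fc_zero
  | succ n ih => exact succ_nsmul φ n ▸ ih.add h

theorem cancel [Finite G] (hφ : IsCharacter G φ) (n : ℕ) : ∀ (V W : Type) [AddCommGroup V] [Module F V]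
    [FiniteDimensional F V] [AddCommGroup W] [Module F W] [FiniteDimensional F W] (ρ : Representation F G V)
    (σ : Representation F G W), finrank F W = n → (∀ g, (ρ.character g : ℂ) = φ g + σ.character g) → FC F φ := by
  have : NeZero (Nat.card G : F) := ⟨Nat.cast_ne_zero.2 Nat.card_pos.ne'⟩
  have := Fintype.ofFinite G
  induction n using Nat.strong_induction_on with
  | _ n ih =>
  intro V W _ _ _ _ _ _ ρ σ hn h
  rcases subsingleton_or_nontrivial W with hV | hV
  · convert fc_rep ρ using 1
    ext g
    rw [h, Representation.character, Subsingleton.elim (σ g) 0]; simp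
  obtain ⟨U, hU⟩ := exists_irreducible_subrep σ
  obtain ⟨U', hc⟩ := exists_isCompl U
  have hc' := isCompl_toSubmodule hc
  have e1 := character_eq_add_of_isCompl U U' hc'
  have h5 := finrank_pos_of_isIrreducible U.toRepresentation
  have h2 : 0 < finrank F (U.toRepresentation.IntertwiningMap ρ) := Nat.pos_of_ne_zero fun e => by
    have := invertibleOfNonzero (NeZero.ne (Nat.card G : F))
    have a1 := congrArg F.subtype (Representation.card_inv_mul_sum_char_mul_char_eq_finrank U.toRepresentation ρ)
    have a2 := fc_char U.toRepresentation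
    obtain ⟨a, ha⟩ := hφ.classInner_nat a2
    obtain ⟨b, hb⟩ := a2.classInner_nat a2
    obtain ⟨c, hc⟩ := (fc_char U'.toRepresentation).classInner_nat a2
    have a3 : classInner (φ + (fun g => (U.toRepresentation.character g : ℂ)) + fun g => (U'.toRepresentation.character g : ℂ))
        (fun g => (U.toRepresentation.character g : ℂ)) = 0 := by
      rw [e, Nat.cast_zero, map_zero, map_mul, map_inv₀, map_natCast, map_sum] at a1
      rw [← a1, classInner]
      exact congrArg _ (sum_congr rfl fun g _ => by simp [← a2.apply_inv, h, e1, add_assoc])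
    rw [classInner_add_left, classInner_add_left, ha, hb, hc] at a3
    have a4 : b = 0 := by have : a + b + c = 0 := by exact_mod_cast a3
                          omega
    have := congrFun (classInner_self_eq_zero.1 (hb.trans (by simp [a4]))) 1
    simp only [Representation.char_one, Pi.zero_apply, SubringClass.coe_natCast, Nat.cast_eq_zero] at this
    omega
  have := nontrivial_of_finrank_pos h2
  obtain ⟨f, hf⟩ := exists_ne (0 : U.toRepresentation.IntertwiningMap ρ)
  have hinj := (Representation.IsIrreducible.injective_or_eq_zero f).resolve_right hf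
  obtain ⟨X', hd⟩ := exists_isCompl f.range
  have e2 := character_eq_add_of_isCompl f.range X' (isCompl_toSubmodule hd)
  let e : U.toRepresentation.Equiv f.range.toRepresentation :=
    Representation.Equiv.mk (LinearEquiv.ofInjective f.toLinearMap hinj) fun g => by
      ext v
      exact f.isIntertwining _ _ g v
  have h4 := Submodule.finrank_add_eq_of_isCompl hc'
  refine ih _ (by omega) _ _ X'.toRepresentation U'.toRepresentation rfl fun g => ?_
  have := h g
  rw [e1, e2, Representation.char_iso e] at this
  push_cast [Pi.add_apply] at this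
  linear_combination this

theorem fc_ind [Fintype G] {H : Subgroup G} (l : H →* ℂ) (hl : ∀ h, l h ∈ F) : FC F (indFun H l) := by
  classical
  have h1 : ∀ x, extendByZero H l x ∈ F := fun x => by
    rw [extendByZero_eq_dite]; split_ifs; exacts [hl _, F.zero_mem]
  have h2 : ∀ x, ∀ y ∈ H, extendByZero H l (x * y) = extendByZero H l x * extendByZero H l y := fun x y hy => by
    by_cases hx : x ∈ H
    · rw [extendByZero_of_mem _ hx, extendByZero_of_mem _ hy, extendByZero_of_mem _ (mul_mem hx hy), ← map_mul]; rfl
    · rw [extendByZero_of_notMem _ hx, extendByZero_of_notMem _ (mt (mul_mem_cancel_right hy).1 hx), zero_mul]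
  let R : G →* Matrix (G ⧸ H) (G ⧸ H) F :=
    { toFun := fun g => Matrix.of fun x y => ⟨extendByZero H l (x.out⁻¹ * g * y.out), h1 _⟩
      map_one' := by
        ext x y
        by_cases e : x = y
        · subst e; simpa using (extendByZero_coe l 1).trans l.map_one
        · simpa [Matrix.one_apply_ne e] using extendByZero_of_notMem _ fun h => e (by
            simpa using QuotientGroup.eq.2 h)
      map_mul' := fun g k => by
        ext x y
        simp only [Matrix.mul_apply, AddSubmonoidClass.coe_finsetSum, MulMemClass.coe_mul, Matrix.of_apply]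
        rw [sum_eq_single (QuotientGroup.mk (k * y.out)) (fun z _ e => ?_) (by simp), ← h2 _ _ (by
          rw [mul_assoc, ← QuotientGroup.eq]; simp)]
        · congr 1; group
        · rw [extendByZero_of_notMem l (g := z.out⁻¹ * k * y.out) fun h => e (by
            rw [mul_assoc, ← QuotientGroup.eq] at h; simpa using h), mul_zero] }
  convert fc_rep (Matrix.toLinAlgEquiv'.toMonoidHom.comp R) using 1
  ext g
  have hc : IsClassFunction H l := fun a b => by rw [map_mul, map_mul, mul_right_comm, ← map_mul, mul_inv_cancel, map_one, one_mul]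
  rw [hc.indFun_eq_sum_quotient]
  rw [show Representation.character (Matrix.toLinAlgEquiv'.toMonoidHom.comp R) g = (R g).trace from
    Matrix.trace_toLin'_eq (R g)]
  simp [Matrix.trace, R]

/-- Brauer's splitting field Theorem: a complex representation of a finite group of exponent m is equivalent to a representation by matrices with entries in ℚ adjoined exp(2πi/m). -/
theorem result {G : Type*} [Group G] [Finite G] (n : ℕ) (ρ : Representation ℂ G (Fin n → ℂ)) : ∃ σ : Representation ℂ G (Fin n → ℂ), Nonempty (ρ.Equiv σ) ∧ ∀ g : G, ∀ i j : Fin n, LinearMap.toMatrix' (σ g) i j ∈ Algebra.adjoin ℚ ({Complex.exp (2 * Real.pi * Complex.I / (Monoid.exponent G : ℂ))} : Set ℂ) := by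
  have := Fintype.ofFinite G
  have : NeZero (Monoid.exponent G) := ⟨Monoid.exponent_ne_zero_of_finite⟩
  have hζ := Complex.isPrimitiveRoot_exp (Monoid.exponent G) (NeZero.ne _)
  generalize Complex.exp (2 * Real.pi * Complex.I / (Monoid.exponent G : ℂ)) = ζ at hζ
  let F := (IntermediateField.adjoin ℚ {ζ}).toSubfield
  have hχ := isCharacter_character ρ
  obtain ⟨l, -, h⟩ := S0163.result _ hχ
  obtain ⟨A, B, ⟨a, R, h1⟩, ⟨b, S, h2⟩, h3⟩ : ∃ A B, FC F A ∧ FC F B ∧ A = ρ.character + B := by
    rw [h]
    clear h
    induction l with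
    | nil => exact ⟨0, 0, fc_zero, fc_zero, by simp⟩
    | cons t l ih =>
      obtain ⟨A, B, h1, h2, h3⟩ := ih
      have := fc_ind (F := F) ((Units.coeHom ℂ).comp t.2.1) fun x => by
        obtain ⟨i, -, e⟩ := hζ.eq_pow_of_pow_eq_one (ξ := (Units.coeHom ℂ).comp t.2.1 x) (by
          rw [← map_pow, show x ^ Monoid.exponent G = 1 from Subtype.ext (Monoid.pow_exponent_eq_one _), map_one])
        exact e ▸ pow_mem (IntermediateField.mem_adjoin_simple_self ℚ ζ) i
      refine ⟨_, _, h1.add (this.nsmul t.2.2.toNat), h2.add (this.nsmul (-t.2.2).toNat), ?_⟩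
      have e : (t.2.2 : ℂ) = (t.2.2.toNat : ℂ) - ((-t.2.2).toNat : ℂ) := by
        exact_mod_cast (Int.toNat_sub_toNat_neg _).symm
      rw [h3, List.map_cons, List.sum_cons]
      ext g
      change _ = (t.2.2 : ℂ) * indFun t.1 ((Units.coeHom ℂ).comp t.2.1) g + _ + _
      simp only [Pi.add_apply, Pi.smul_apply, e]
      simp only [nsmul_eq_mul]
      ring
  obtain ⟨m, T, hT⟩ := cancel hχ _ _ _ (matRep R) (matRep S) rfl fun g => by
    rw [matRep_character, matRep_character, h1, h2, h3]; rfl
  obtain rfl : m = n := by simpa using hT 1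
  refine ⟨matRep (F.subtype.mapMatrix.toMonoidHom.comp T), nonempty_equiv_of_character_eq _ _ (funext fun g => by
    rw [matRep_character]; exact ((AddMonoidHom.map_trace F.subtype (T g)).symm.trans (hT g)).symm), fun g i j => ?_⟩
  rw [matRep_apply, LinearMap.toMatrix'_toLin', ← IntermediateField.adjoin_simple_toSubalgebra_of_isAlgebraic
    ((hζ.isIntegral (NeZero.pos _)).tower_top (A := ℚ)).isAlgebraic]
  exact (T g i j).2

end Cfsg.Agent.S0166
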