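import Cfsg.Statements.S0167
import Cfsg.Agent.Lib.Hall.FS

set_option autoImplicit false
open Cfsg

namespace Cfsg.Agent.S0167

open scoped Pointwise
open Cfsg.Lib Cfsg.Lib.Hall Cfsg.Lib.Char

/-- An element g of a finite group is a commutator if and only if the sum over the irreducible characters χ of χ g / χ 1 is nonzero. -/
theorem result {G : Type*} [Group G] [Finite G] (g : G) : (∃ a b : G, g = a * b * a⁻¹ * b⁻¹) ↔ ∑ᶠ χ : Cfsg.IrrCharacter G, (χ : G → ℂ) g / (χ : G → ℂ) 1 ≠ 0 := by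
  classical
  haveI := Fintype.ofFinite G
  rw [finsum_eq_sum_of_fintype]
  have key : ∑ b : G, ∑ a : G, Char.regChar G (a * b * a⁻¹ * (b⁻¹ * g⁻¹)) =
      Nat.card G * Nat.card G *
        (starRingEnd ℂ) (∑ χ : IrrCharacter G, (χ : G → ℂ) g / (χ : G → ℂ) 1) := by
    simp only [← Char.sum_degree_mul_apply]
    rw [map_sum, Finset.mul_sum]
    simp only [Finset.sum_comm (s := (Finset.univ : Finset G)) (t := (Finset.univ : Finset (IrrCharacter G)))]
    refine Finset.sum_congr rfl fun χ _ => ?_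
    simp only [← Finset.mul_sum, χ.2.sum_conj_mul]
    have h1 := χ.2.apply_one_ne_zero
    have h2 := χ.2.sum_mul_apply_inv_mul χ.2.isClassFunction g⁻¹
    rw [χ.2.classInner_self] at h2
    obtain ⟨n, -, hn⟩ := χ.2.exists_pos_degree
    have h3 : (starRingEnd ℂ) ((χ : G → ℂ) 1) = (χ : G → ℂ) 1 := by rw [hn, map_natCast]
    simp only [mul_assoc, ← Finset.sum_div, ← Finset.mul_sum]
    rw [h2, map_div₀, h3, χ.2.isCharacter.apply_inv]
    field_simp
  have h0 : ∀ x : G, Char.regChar G x = ((if x = 1 then Nat.card G else 0 : ℕ) : ℂ) := fun x => by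
    split_ifs with h
    · rw [h, Char.regChar_one]
    · rw [Char.regChar_of_ne h, Nat.cast_zero]
  have hG := Char.card_ne_zero G
  rw [← map_ne_zero_iff (starRingEnd ℂ) (starRingEnd ℂ).injective,
    ← mul_ne_zero_iff_left (mul_ne_zero hG hG), ← key]
  simp only [h0, ← Nat.cast_sum, Nat.cast_ne_zero]
  simp only [Ne, Finset.sum_eq_zero_iff, Finset.mem_univ, true_imp_iff, not_forall, ite_eq_right_iff,
    Nat.card_pos.ne', not_false_iff, exists_prop, and_true]
  constructor
  · rintro ⟨a, b, rfl⟩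
    exact ⟨b, a, by group⟩
  · rintro ⟨b, a, h⟩
    refine ⟨a, b, ?_⟩
    rw [← mul_assoc, mul_inv_eq_one] at h
    exact h.symm

end Cfsg.Agent.S0167
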