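import Cfsg.Statements.S0168
import Cfsg.Agent.Lib.Char.Kernel
import Mathlib.Algebra.Polynomial.BigOperators

set_option autoImplicit false
open Cfsg

namespace Cfsg.Agent.S0168

open Cfsg.Lib.Char Polynomial Finset

/-- The Burnside–Brauer Theorem. Let χ be the character of a faithful complex representation of a finite group, taking m distinct values. Then every irreducible character has nonzero inner product with χ ^ i for some i < m. -/
theorem result {G : Type*} [Group G] [Fintype G] {V : Type*} [AddCommGroup V] [Module ℂ V] [FiniteDimensional ℂ V] (ρ : Representation ℂ G V) (hfaithful : Function.Injective ρ) (ψ : G → ℂ) (hψ : Cfsg.IsIrrCharacter G ψ) : ∃ i : ℕ, i < Nat.card (Set.range ρ.character) ∧ Cfsg.classInner (fun g => ρ.character g ^ i) ψ ≠ 0 := by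
  classical
  by_contra h
  push Not at h
  set χ := ρ.character with hχ
  let s : Finset ℂ := (univ.image χ).erase (χ 1)
  let P : ℂ[X] := ∏ a ∈ s, (X - C a)
  have hdeg : P.natDegree < Nat.card (Set.range χ) := by
    rw [natDegree_prod_of_monic _ _ fun a _ => monic_X_sub_C a]
    simp only [natDegree_X_sub_C, sum_const, smul_eq_mul, mul_one]
    have : Nat.card (Set.range χ) = (univ.image χ).card := by
      rw [Nat.card_eq_card_toFinset, Set.toFinset_range]
    rw [this]
    exact card_erase_lt_of_mem (mem_image_of_mem _ (mem_univ _))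
  have h1 : classInner (fun g => P.eval (χ g)) ψ = 0 := by
    have : (fun g => P.eval (χ g)) = ∑ i ∈ range (Nat.card (Set.range χ)), P.coeff i • fun g => χ g ^ i := by
      ext g
      rw [eval_eq_sum_range' hdeg, Finset.sum_apply]; rfl
    rw [this, classInner_sum_left]
    exact sum_eq_zero fun i hi => by rw [classInner_smul_left, h i (mem_range.1 hi), mul_zero]
  rw [classInner_def, sum_eq_single 1] at h1
  · have h2 : P.eval (χ 1) ≠ 0 := by
      rw [eval_prod, prod_ne_zero_iff]
      intro a ha
      rw [eval_sub, eval_X, eval_C, sub_ne_zero]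
      exact (mem_erase.1 ha).1.symm
    exact mul_ne_zero (inv_ne_zero (card_ne_zero G)) (mul_ne_zero h2
      ((_root_.map_ne_zero _).2 hψ.apply_one_ne_zero)) h1
  · intro g _ hg
    have : χ g ∈ s := by
      refine mem_erase.2 ⟨fun e => hg (hfaithful ?_), mem_image_of_mem _ (mem_univ _)⟩
      rw [hχ, Representation.char_one, character_eq_finrank_iff] at e
      rw [e, map_one]; rfl
    rw [eval_prod, prod_eq_zero this (by simp), zero_mul]
  · simp

end Cfsg.Agent.S0168
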