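import Cfsg.Statements.S0172
import Cfsg.Agent.Lib.Clifford.Frobenius

set_option autoImplicit false
open Cfsg

namespace Cfsg.Agent.S0172

open Cfsg.Lib.Clifford

/-- Class number of a Frobenius group: if G = K H with K normal, K ⊓ H trivial and no non-identity element of H commuting with a non-identity element of K, then |H| * k(G) + 1 = |H| * k(H) + k(K), where k denotes the number of conjugacy classes. -/
theorem result {G : Type*} [Group G] [Finite G] (K H : Subgroup G) [K.Normal] (hKH : K ⊓ H = ⊥) (hKH' : K ⊔ H = ⊤) (hfpf : ∀ h ∈ H, h ≠ 1 → ∀ k ∈ K, h * k = k * h → k = 1) : Nat.card H * Nat.card (ConjClasses G) + 1 = Nat.card H * Nat.card (ConjClasses H) + Nat.card (ConjClasses K) := by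
  classical
  have h := frobKer_of_fpf (nrm_of_normal H K) hfpf
  rw [sup_comm, hKH'] at h
  have h1 := h.card_Irr le_top (nrm_of_normal ⊤ K)
  have h2 := card_IrrKer_eq (QuotientGroup.mk' K) ⊤
  have h3 := card_IrrKer_eq (QuotientGroup.mk' K) H
  have h4 : H.map (QuotientGroup.mk' K) = (⊤ : Subgroup G).map (QuotientGroup.mk' K) := by
    rw [← hKH', Subgroup.map_sup, (Subgroup.map_eq_bot_iff K).mpr (by simp), bot_sup_eq]
  have h5 : IrrKer H ⊥ = Irr H :=
    Finset.filter_true_of_mem fun χ _ => triv_bot χ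
  rw [QuotientGroup.ker_mk', inf_comm, hKH, h4, ← h2, QuotientGroup.ker_mk', top_inf_eq, h5] at h3
  have h6 := Finset.card_sdiff_add_card_eq_card (IrrKer_subset (K := ⊤) (N := K))
  have h7 : K.relIndex ⊤ = Nat.card H := by
    have := card_mul_card_of_prod (le_top : K ≤ ⊤) (le_top : H ≤ ⊤) fun k _ =>
      exists_mul_of_mem_sup_nrm' (nrm_of_normal H K) (by rw [sup_comm, hKH']; trivial)
    rw [hKH, Subgroup.card_bot, one_mul, ← card_mul_relIndex (le_top : K ≤ ⊤)] at this
    exact (Nat.eq_of_mul_eq_mul_left Nat.card_pos this).symm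
  rw [← card_Irr_eq_card_conjClasses, ← card_Irr_eq_card_conjClasses, ← card_irrCharacter_eq,
    ← card_Irr_top, h1, ← h6, h3, h7]
  ring

end Cfsg.Agent.S0172
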