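import Cfsg.Statements.S0174
import Cfsg.Agent.Lib.Clifford.Clifford

set_option autoImplicit false
open Cfsg

namespace Cfsg.Agent.S0174

open Cfsg.Lib.Clifford

/-- The Clifford Theorem for characters: if θ is an irreducible character of a finite group G, N is a normal subgroup and χ is an irreducible character of N occurring in the restriction of θ, then θ restricted to N equals e times the sum of the distinct G-conjugates of χ, where e is the inner product of the restriction with χ. -/
theorem result {G : Type*} [Group G] [Fintype G] (N : Subgroup G) [Fintype N] (hN : N.Normal) (θ : G → ℂ) (hθ : Cfsg.IsIrrCharacter G θ) (χ : N → ℂ) (hχ : Cfsg.IsIrrCharacter N χ) (hconst : Cfsg.classInner (fun n : N => θ n) χ ≠ 0) : (fun n : N => θ n) = Cfsg.classInner (fun n : N => θ n) χ • ∑ᶠ ψ ∈ {ψ : N → ℂ | ∃ g : G, ψ = fun n : N => χ ⟨g * n * g⁻¹, hN.conj_mem n n.2 g⟩}, ψ := by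
  classical
  obtain ⟨χ, rfl, -⟩ := exists_res _ χ
  have hN' : Nrm ⊤ N := nrm_of_normal ⊤ N
  rw [← dot_eq_classInner] at hconst ⊢
  have h := clifford le_top hN' (irrOn_top.mpr hθ) hχ hconst
  have hs : {ψ : N → ℂ | ∃ g : G, ψ = fun n : N => res N χ ⟨g * n * g⁻¹, hN.conj_mem n n.2 g⟩} =
      ((orb ⊤ N χ).image (res N) : Finset (N → ℂ)) := by
    ext ψ
    simp only [Set.mem_ofPred_eq, Finset.coe_image, Set.mem_image, Finset.mem_coe, mem_orb]
    constructor
    · rintro ⟨g, rfl⟩
      exact ⟨_, ⟨g, trivial, rfl⟩, by rw [cj_cut hN' trivial, res_cut]; rfl⟩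
    · rintro ⟨_, ⟨g, -, rfl⟩, rfl⟩
      exact ⟨g, by rw [cj_cut hN' trivial, res_cut]; rfl⟩
  rw [hs, finsum_mem_coe_finset, Finset.sum_image]
  · ext n
    have := congrFun h n
    rw [cut_of_mem _ n.2] at this
    simpa [Finset.sum_apply] using this
  · intro a ha b hb e
    exact eq_of_mem_Irr (orb_subset hN' hχ ha) (orb_subset hN' hχ hb) fun x hx => congrFun e ⟨x, hx⟩

end Cfsg.Agent.S0174
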