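import Cfsg.Statements.S0175
import Cfsg.Agent.Lib.Clifford.Det
import Cfsg.Agent.Lib.Char.Classes

set_option autoImplicit false
open Cfsg

namespace Cfsg.Agent.S0175

open Cfsg.Lib Cfsg.Lib.Clifford Subgroup

/-- Taketa's Theorem on M-groups: if every irreducible complex character of a finite group is induced from a linear character (a homomorphism to ℂˣ) of some subgroup, the group is solvable. -/
theorem result {G : Type*} [Group G] [Fintype G] (hM : ∀ χ : G → ℂ, Cfsg.IsIrrCharacter G χ → ∃ (H : Subgroup G) (lam : H →* ℂˣ), χ = Cfsg.indFun H (fun h => (lam h : ℂ))) : Group.IsSolvable G := by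
  -- a perfect normal subgroup lies in the kernel of every irreducible character
  have key : ∀ K : Subgroup G, K.Normal → ⁅K, K⁆ = K → ∀ χ, IrrOn ⊤ χ → Triv K χ := by
    intro K hKn hK χ hχ
    induction h : charDegree χ using Nat.strong_induction_on generalizing χ with
    | _ n ih =>
    obtain ⟨H, lam, e⟩ := hM χ (irrOn_top.1 hχ)
    rw [indFun_eq_ind] at e
    have hl : LinOn H (extendByZero H fun h => (lam h : ℂ)) :=
      linOn_of_hom lam fun x => Clifford.extendByZero_of_mem _ x.2
    have h1 : CharOn ⊤ (ind H ⊤ (1 : G → ℂ)) := (charOn_one H).ind le_top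
    have hdeg : charDegree (ind H ⊤ (1 : G → ℂ)) = n := by
      rw [← h, e]
      apply charDegree_of_eq
      rw [← (hl.1.ind le_top).one_eq, ind_one le_top, ind_one le_top, hl.2]; rfl
    have hd1 : dot ⊤ (ind H ⊤ (1 : G → ℂ)) 1 ≠ 0 := by
      rw [dot_ind_left le_top _ (classOn_one _), (irrOn_one H).dot_self]; exact one_ne_zero
    have h2 := h1.sub_irr (irrOn_one ⊤) hd1
    have hKH : K ≤ H := by
      intro k hk
      refine ((charOn_one H).mem_of_ind_eq (K := ⊤) one_ne_zero ?_).1
      refine h1.classOn.eq_of_forall (mem_top _) fun ψ hψ hd => ?_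
      by_cases hψ1 : ∀ x ∈ (⊤ : Subgroup G), ψ x = (1 : G → ℂ) x
      · rw [hψ1 k (mem_top _), hψ1 1 (mem_top _)]; rfl
      refine ih _ ?_ ψ (irrOn_of_mem hψ) rfl k hk
      have h3 := h2.deg_le_of_dot (irrOn_of_mem hψ) (by
        rw [dot_sub_left, (irrOn_one ⊤).dot_eq_zero (irrOn_of_mem hψ) (fun h => hψ1 fun x hx => (h x hx).symm),
          sub_zero]; exact hd)
      have h4 := h2.one_eq
      rw [Pi.sub_apply, h1.one_eq, hdeg, Pi.one_apply, sub_eq_iff_eq_add] at h4
      have h5 : n = charDegree (ind H ⊤ (1 : G → ℂ) - 1) + 1 := by exact_mod_cast h4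
      omega
    rw [e]
    refine Triv.ind ((triv_kerOn (K := H)).mono ?_) hKH (nrm_of_normal _ _)
    exact hK.ge.trans ((commutator_mono hKH hKH).trans hl.commutator_le)
  have hwf := Finite.to_wellFoundedLT (α := Subgroup G)
  obtain ⟨_, ⟨n, rfl⟩, hn⟩ := hwf.wf.has_min (Set.range (derivedSeries G)) ⟨_, 0, rfl⟩
  have h1 : ⁅derivedSeries G n, derivedSeries G n⁆ = derivedSeries G n := by
    by_contra h
    exact hn _ ⟨n + 1, rfl⟩ (lt_of_le_of_ne (Clifford.commutator_le_self _) h)
  refine ⟨n, eq_bot_iff.2 fun x hx => ?_⟩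
  exact Cfsg.Lib.Char.eq_one_of_forall_irr fun χ hχ => key _ inferInstance h1 χ (irrOn_top.2 hχ) x hx

end Cfsg.Agent.S0175
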