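import Cfsg.Statements.S0177
import Cfsg.Agent.Lib.Block.BrauerInd

set_option autoImplicit false
open Cfsg

namespace Cfsg.Agent.S0177

open Cfsg.Lib.Char Cfsg.Lib.Block Finset

/-- The Artin induction Theorem: for a character χ of a finite group, |G| • χ is a ℤ-linear combination of functions induced from homomorphisms of cyclic subgroups into ℂˣ. -/
theorem result {G : Type*} [Group G] [Fintype G] (χ : G → ℂ) (hχ : Cfsg.IsCharacter G χ) : ∃ l : List ((A : Subgroup G) × ((A →* ℂˣ) × ℤ)), (∀ t ∈ l, IsCyclic t.1) ∧ (Nat.card G : ℂ) • χ = (l.map fun t => (t.2.2 : ℂ) • Cfsg.indFun t.1 (fun a => (t.2.1 a : ℂ))).sum := by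
  classical
  let S : Set (G → ℂ) := {f | ∃ (A : Subgroup G) (lam : A →* ℂˣ), IsCyclic A ∧
    f = indFun A (fun a => (lam a : ℂ))}
  have h1 : (Nat.card G : ℂ) • χ ∈ Submodule.span ℤ S := by
    refine mem_span_int_of_mem_span_algInt ?_ (hχ.natCast_smul _).isGeneralizedCharacter ?_
    · rintro _ ⟨A, lam, -, rfl⟩
      exact (isCharacter_linear lam).indFun.isGeneralizedCharacter
    · rw [(hχ.natCast_smul (Nat.card G)).isClassFunction.eq_sum_classIndicator]
      refine Submodule.sum_mem _ fun g _ => smul_mem_of_isIntegral ?_ ?_
      · rw [Pi.smul_apply, smul_eq_mul, mul_div_cancel_left₀ _ (card_ne_zero G)]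
        exact hχ.isIntegral g
      · have e := indFun_card_smul_classIndicator (H := Subgroup.zpowers g) ⟨g, Subgroup.mem_zpowers g⟩
        rw [← e]
        refine aSpan_induction (P := fun f => indFun (Subgroup.zpowers g) f ∈ Submodule.span AlgInt S)
          (card_smul_classIndicator_mem_aSpan _) ?_ ?_ ?_
        · intro φ hφ
          obtain ⟨s, hs⟩ := hφ.exists_sum_linear_of_comm (fun a b => mul_comm' a b)
          have : φ = (s.map fun lam => fun a => (lam a : ℂ)).sum := by
            ext a; rw [hs]
            induction s using Multiset.induction_on with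
            | empty => simp
            | cons x s ih => simp [Multiset.sum_cons, Multiset.map_cons, Pi.multiset_sum_apply]
          rw [this]
          clear this hs
          induction s using Multiset.induction_on with
          | empty => simp [indFun_zero]
          | cons x s ih =>
            rw [Multiset.map_cons, Multiset.sum_cons, indFun_add]
            exact Submodule.add_mem _ (Submodule.subset_span ⟨_, x, inferInstance, rfl⟩) ih
        · intro a b ha hb
          rw [indFun_add]; exact Submodule.add_mem _ ha hb
        · intro c a hc ha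
          rw [indFun_smul]; exact smul_mem_of_isIntegral hc ha
  generalize (Nat.card G : ℂ) • χ = f at h1
  induction h1 using Submodule.span_induction with
  | mem x hx =>
    obtain ⟨A, lam, hA, rfl⟩ := hx
    exact ⟨[⟨A, lam, 1⟩], by simpa using hA, by simp⟩
  | zero => exact ⟨[], by simp, by simp⟩
  | add x y _ _ hx hy =>
    obtain ⟨l, hl, rfl⟩ := hx
    obtain ⟨l', hl', rfl⟩ := hy
    refine ⟨l ++ l', fun t ht => ?_, by simp⟩
    rcases List.mem_append.1 ht with h | h
    · exact hl t h
    · exact hl' t h
  | smul n x _ hx =>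
    obtain ⟨l, hl, rfl⟩ := hx
    refine ⟨l.map fun t => ⟨t.1, t.2.1, n * t.2.2⟩, fun t ht => ?_, ?_⟩
    · obtain ⟨t', ht', rfl⟩ := List.mem_map.1 ht
      exact hl t' ht'
    · rw [List.smul_sum, List.map_map, List.map_map]
      congr 1
      refine List.map_congr_left fun t _ => ?_
      simp only [Function.comp, Int.cast_mul, mul_smul, Int.cast_smul_eq_zsmul]

end Cfsg.Agent.S0177
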