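import Cfsg.Statements.S0180
import Cfsg.Agent.Lib.Char.Galois
import Cfsg.Agent.Lib.Char.Classes

set_option autoImplicit false
open Cfsg

namespace Cfsg.Agent.S0180
open Cfsg.Lib.Char

/-- Every irreducible complex character of a finite group takes only rational values if and only if g is conjugate to g ^ m for every element g and every m coprime to the group order. -/
theorem result {G : Type*} [Group G] [Finite G] : (∀ χ : Cfsg.IrrCharacter G, ∀ g : G, ∃ q : ℚ, (χ : G → ℂ) g = (q : ℂ)) ↔ ∀ m : ℕ, m.Coprime (Nat.card G) → ∀ g : G, IsConj g (g ^ m) := by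
  constructor
  · intro h m hm g
    obtain ⟨σ, hσ⟩ := exists_ringEquiv_map_char G hm
    refine (isConj_iff_irr _ _).2 fun χ => ?_
    obtain ⟨q, hq⟩ := h χ g
    rw [← hσ _ χ.2.isGeneralizedCharacter, hq, map_ratCast]
  · intro h χ g
    obtain ⟨n, hn⟩ := χ.2.isGeneralizedCharacter.exists_int_of_pow (g := g)
      (Nat.card_pos (α := G)).ne' pow_card_eq_one'
      fun k hk => (χ.2.isClassFunction.eq_of_isConj (h k hk g)).symm
    exact ⟨n, by simpa using hn⟩

end Cfsg.Agent.S0180
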