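import Cfsg.Statements.S0184
import Cfsg.Agent.Lib.Char.Center
import Cfsg.Agent.Lib.PGrp.Cyclic

set_option autoImplicit false
open Cfsg

namespace Cfsg.Agent.S0184

open Cfsg.Lib Cfsg.Lib.Char Finset

/-- A finite p-group admits a faithful irreducible complex representation if and only if its centre is cyclic. -/
theorem result {G : Type*} [Group G] [Finite G] (p : ℕ) [Fact p.Prime] (hG : IsPGroup p G) : (∃ (n : ℕ) (ρ : Representation ℂ G (Fin n → ℂ)), ρ.IsIrreducible ∧ Function.Injective ρ) ↔ IsCyclic (Subgroup.center G) := by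
  constructor
  · rintro ⟨n, ρ, hρ, hinj⟩
    refine (isIrrCharacter_character ρ).isCyclic_center ?_
    rw [charKer_character, MonoidHom.ker_eq_bot_iff]
    exact hinj
  · intro hc
    have key : ∃ χ, IsIrrCharacter G χ ∧ charKer χ = ⊥ := by
      by_cases hZ : Subgroup.center G = ⊥
      · refine ⟨fun _ => 1, isIrrCharacter_one, ?_⟩
        by_contra h
        have := isIrrCharacter_one (G := G) |>.charKer_normal
        exact PGrp.inf_center_ne_bot hG _ h (by rw [hZ, inf_bot_eq])
      · obtain ⟨z, hz, hzp⟩ := PGrp.exists_mem_orderOf_eq hG hZ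
        have hz1 : z ≠ 1 := by
          rintro rfl
          rw [orderOf_one] at hzp
          exact (Fact.out : p.Prime).one_lt.ne hzp
        obtain ⟨χ, hχ, hzχ⟩ := exists_irr_notMem_charKer hz1
        refine ⟨χ, hχ, ?_⟩
        by_contra h
        have := hχ.charKer_normal
        obtain ⟨w, hw, hwZ, hwp⟩ := PGrp.exists_central_orderOf_eq hG _ h
        have := PGrp.mem_zpowers_of_pow_eq_one hc hz hwZ (by rw [hwp, ← hzp, pow_orderOf_eq_one])
        exact hzχ ((Subgroup.zpowers_le.2 hw) this)
    obtain ⟨χ, ⟨n, ρ, hρ, rfl⟩, hk⟩ := key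
    refine ⟨n, ρ, hρ, ?_⟩
    rwa [charKer_character, MonoidHom.ker_eq_bot_iff] at hk

end Cfsg.Agent.S0184
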