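import Cfsg.Statements.S0186
import Cfsg.Agent.Lib.Clifford.Solomon
import Cfsg.Agent.Lib.Char.Classes

set_option autoImplicit false
open Cfsg

namespace Cfsg.Agent.S0186

open Cfsg.Lib Cfsg.Lib.Clifford Cfsg.Lib.Char Finset

/-- Let G be a finite simple group of order n and p a prime dividing n. If G has more than n / p^2 conjugacy classes, then every Sylow p-subgroup of G is abelian. -/
theorem result {G : Type*} [Group G] [Finite G] [IsSimpleGroup G] (p : ℕ) [Fact p.Prime] (hp : p ∣ Nat.card G) (hmany : Nat.card G < p ^ 2 * Nat.card (ConjClasses G)) (P : Sylow p G) (a b : G) (ha : a ∈ P) (hb : b ∈ P) : a * b = b * a := by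
  classical
  have hq : p.Prime := Fact.out
  have := Fintype.ofFinite G
  by_cases h2 : p ^ 2 ∣ Nat.card G
  · have key : ∃ χ : IrrCharacter G, χ ≠ principalIrr G ∧ charDegree (χ : G → ℂ) < p := by
      by_contra h
      push Not at h
      have h1 := sum_degree_sq (G := G)
      have h3 : ∀ χ : IrrCharacter G, (χ : G → ℂ) 1 ^ 2 = ((charDegree (χ : G → ℂ) ^ 2 : ℕ) : ℂ) :=
        fun χ => by
          have hχ : IsIrrCharacter G χ := χ.2
          rw [Nat.cast_pow, hχ.coe_charDegree]
      simp only [h3] at h1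
      rw [← Nat.cast_sum, Nat.cast_inj, ← add_sum_erase _ _ (mem_univ (principalIrr G))] at h1
      have h4 := card_nsmul_le_sum (univ.erase (principalIrr G))
        (fun χ : IrrCharacter G => charDegree (χ : G → ℂ) ^ 2) (p ^ 2)
        fun χ hχ => Nat.pow_le_pow_left (h χ (ne_of_mem_erase hχ)) 2
      have h5 : 0 < charDegree (principalIrr G : G → ℂ) ^ 2 :=
        pow_pos (show IsIrrCharacter G _ from (principalIrr G).2).charDegree_pos 2
      rw [card_erase_of_mem (mem_univ _), card_univ, ← Nat.card_eq_fintype_card,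
        card_irr_eq_card_conjClasses, smul_eq_mul] at h4
      obtain ⟨m, hm⟩ := h2
      rw [hm] at hmany h1
      have h6 := lt_of_mul_lt_mul_left hmany (Nat.zero_le _)
      have h7 : m * p ^ 2 ≤ (Nat.card (ConjClasses G) - 1) * p ^ 2 :=
        Nat.mul_le_mul_right _ (by omega)
      nlinarith
    obtain ⟨χ, h1, hd⟩ := key
    have hχ : IsIrrCharacter G χ := χ.2
    have hk : charKer (χ : G → ℂ) = ⊥ := by
      refine (hχ.charKer_normal.eq_bot_or_eq_top).resolve_right fun h => h1 ?_
      exact Subtype.ext (hχ.charKer_eq_top_iff.1 h)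
    have := comm_of_small_degree (hχ.isCharacter.comp (P : Subgroup G).subtype) (by
      rw [charKer_comp hχ.isCharacter, hk]
      exact (P : Subgroup G).ker_subtype) (n := charDegree (χ : G → ℂ))
      (by simp [hχ.coe_charDegree]) (fun q hq' hqd => by
        obtain ⟨k, hk⟩ := P.isPGroup'.exists_card_eq
        rw [hk] at hqd
        rwa [(Nat.prime_dvd_prime_iff_eq hq' hq).1 (hq'.dvd_of_dvd_pow hqd)]) ⟨a, ha⟩ ⟨b, hb⟩
    exact congrArg Subtype.val this
  · refine PGrp.comm_of_mem (PGrp.isMulCommutative_of_card_le_sq P.isPGroup' ?_) ha hb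
    obtain ⟨k, hk⟩ := P.isPGroup'.exists_card_eq
    rw [hk]
    refine Nat.pow_le_pow_right hq.pos ?_
    by_contra h
    exact h2 ((pow_dvd_pow p (by omega)).trans (hk ▸ Subgroup.card_subgroup_dvd_card _))

end Cfsg.Agent.S0186
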