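import Cfsg.Statements.S0192
import Cfsg.Agent.Lib.Char.Ortho

set_option autoImplicit false
open Cfsg

namespace Cfsg.Agent.S0192

open Cfsg.Lib.Char Module

/-- Brauer's generation criterion. Let G be a finite simple group, H₁ and H₂ subgroups, and χ a non-principal irreducible character. If the multiplicity of the principal character in χ restricted to H₁ ⊓ H₂ is less than the sum of the corresponding multiplicities for H₁ and H₂, then H₁ and H₂ do not generate G. -/
theorem result {G : Type*} [Group G] [Fintype G] [IsSimpleGroup G] (H₁ H₂ : Subgroup G) [Fintype H₁] [Fintype H₂] [Fintype ↥(H₁ ⊓ H₂)] (χ : G → ℂ) (hχ : Cfsg.IsIrrCharacter G χ) (hχ1 : χ ≠ fun _ => 1) (hlt : (Cfsg.classInner (fun x : ↥(H₁ ⊓ H₂) => χ x) (fun _ => 1)).re < (Cfsg.classInner (fun x : H₁ => χ x) (fun _ => 1)).re + (Cfsg.classInner (fun x : H₂ => χ x) (fun _ => 1)).re) : H₁ ⊔ H₂ ≠ ⊤ := by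
  intro htop
  have hχ' := hχ
  obtain ⟨n, ρ, hρ, rfl⟩ := hχ
  have key : ∀ (K : Subgroup G) [Fintype K], classInner (fun x : K => ρ.character x) (fun _ => 1) =
      finrank ℂ (Representation.invariants (ρ.comp K.subtype)) := by
    intro K _
    rw [← classInner_character_one]; rfl
  rw [key, key, key] at hlt
  simp only [Complex.natCast_re] at hlt
  have hlt' : finrank ℂ (Representation.invariants (ρ.comp (H₁ ⊓ H₂).subtype)) <
      finrank ℂ (Representation.invariants (ρ.comp H₁.subtype)) +
      finrank ℂ (Representation.invariants (ρ.comp H₂.subtype)) := by exact_mod_cast hlt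
  have hinf : Representation.invariants (ρ.comp H₁.subtype) ⊓
      Representation.invariants (ρ.comp H₂.subtype) = ⊥ := by
    have h0 : finrank ℂ ρ.invariants = 0 := by
      have := classInner_character_one ρ
      rw [hχ'.classInner_of_ne isIrrCharacter_one hχ1] at this
      exact_mod_cast this.symm
    rw [Submodule.finrank_eq_zero] at h0
    rw [eq_bot_iff, ← h0]
    intro v ⟨h1, h2⟩ g
    have hg : g ∈ H₁ ⊔ H₂ := htop ▸ Subgroup.mem_top g
    rw [Subgroup.sup_eq_closure] at hg
    induction hg using Subgroup.closure_induction with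
    | mem x hx =>
      rcases hx with hx | hx
      · exact h1 ⟨x, hx⟩
      · exact h2 ⟨x, hx⟩
    | one => simp
    | mul x y _ _ hx hy => rw [map_mul, Module.End.mul_apply, hy, hx]
    | inv x _ hx =>
      calc ρ x⁻¹ v = ρ x⁻¹ (ρ x v) := by rw [hx]
        _ = v := by rw [← Module.End.mul_apply, ← map_mul]; simp
  have hle : Representation.invariants (ρ.comp H₁.subtype) ⊔
      Representation.invariants (ρ.comp H₂.subtype) ≤
      Representation.invariants (ρ.comp (H₁ ⊓ H₂).subtype) :=
    sup_le (fun v hv g => hv ⟨g, g.2.1⟩) (fun v hv g => hv ⟨g, g.2.2⟩)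
  have := Submodule.finrank_sup_add_finrank_inf_eq (Representation.invariants (ρ.comp H₁.subtype))
    (Representation.invariants (ρ.comp H₂.subtype))
  rw [hinf, finrank_bot, add_zero] at this
  have := Submodule.finrank_mono hle
  omega

end Cfsg.Agent.S0192
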