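import Cfsg.Statements.S0193
import Cfsg.Agent.Lib.Clifford.Clifford

set_option autoImplicit false
open Cfsg

namespace Cfsg.Agent.S0193

open Cfsg.Lib.Clifford

/-- Let H be a normal subgroup of a finite group G and θ an irreducible character of H. Then |H| times the inner product of the induced function of θ with itself equals the number of g in G with θ(g h g⁻¹) = θ(h) for all h in H; in particular the induced character is irreducible when only elements of H stabilise θ. -/
theorem result {G : Type*} [Group G] [Fintype G] (H : Subgroup G) [hN : H.Normal] (θ : H → ℂ) (hθ : Cfsg.IsIrrCharacter H θ) : (Nat.card H : ℂ) * Cfsg.classInner (Cfsg.indFun H θ) (Cfsg.indFun H θ) = (Nat.card {g : G // ∀ h : H, θ ⟨g * h * g⁻¹, hN.conj_mem h h.2 g⟩ = θ h} : ℂ) := by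
  obtain ⟨θ, rfl, -⟩ := exists_res _ θ
  have hN' : Nrm ⊤ H := nrm_of_normal ⊤ H
  have hθ' : IrrOn H θ := hθ
  rw [indFun_res, ← dot_top, dot_ind_self_nrm le_top hN' hθ', ← Nat.cast_mul,
    card_mul_relIndex (le_inertia le_top hN' hθ'.classOn)]
  congr 1
  refine Nat.card_congr (Equiv.subtypeEquivRight fun g => ?_)
  rw [mem_inertia hN']
  exact ⟨fun h n => h.2 n n.2, fun h => ⟨trivial, fun n hn => h ⟨n, hn⟩⟩⟩

end Cfsg.Agent.S0193
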