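import Cfsg.Statements.S0194
import Cfsg.Agent.Lib.PF.Sec1

set_option autoImplicit false
open scoped ComplexConjugate
open Cfsg

namespace Cfsg.Agent.S0194

open Cfsg.Lib.Clifford Cfsg.Lib.PF

/-- Let G have odd order, H be a normal subgroup and θ a non-principal irreducible character of H. Then the function induced from θ is orthogonal to its complex conjugate. -/
theorem result {G : Type*} [Group G] [Fintype G] (hodd : Odd (Nat.card G)) (H : Subgroup G) [H.Normal] (θ : H → ℂ) (hθ : Cfsg.IsIrrCharacter H θ) (hθ1 : θ ≠ fun _ => 1) : Cfsg.classInner (fun g => conj (Cfsg.indFun H θ g)) (Cfsg.indFun H θ) = 0 := by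
  have h1 : extendByZero H θ ∈ Irr H := mem_Irr.2 ⟨irrOn_extendByZero.2 hθ, fun x hx =>
    Cfsg.Lib.Char.extendByZero_of_notMem θ hx⟩
  have h2 : extendByZero H θ ≠ cf1 H := by
    intro e
    apply hθ1
    ext x
    have := congrFun e x
    rw [Cfsg.Lib.Char.extendByZero_coe] at this
    rw [this]
    exact cut_of_mem _ x.2
  have h3 := odd_induced_orthogonal (G := ⊤) (H := H) le_top
    (fun g _ x hx => Subgroup.Normal.conj_mem inferInstance x hx g) (by rwa [Subgroup.card_top]) h1 h2
  rw [dot_top, ← indFun_eq_ind] at h3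
  rw [Cfsg.Lib.Char.classInner_eq_zero_comm]
  exact h3

end Cfsg.Agent.S0194
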