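import Cfsg.Statements.S0196
import Cfsg.Agent.Lib.Clifford.Orbits

set_option autoImplicit false
open Cfsg

namespace Cfsg.Agent.S0196

open Cfsg.Lib.Clifford

/-- Let A be a subgroup of a finite group G that equals the centralizer of each of its non-identity elements, and let N be its normalizer. Then the index of A in N divides |A| − 1 (N/A permutes the non-identity elements of A in orbits of full length). -/
theorem result {G : Type*} [Group G] [Finite G] (A : Subgroup G) (hA : ∀ x ∈ A, x ≠ 1 → Subgroup.centralizer ({x} : Set G) = A) : (A.subgroupOf (Subgroup.normalizer (A : Set G))).index ∣ Nat.card A - 1 := by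
  have h := dvd_ncard_of_act (H := Subgroup.normalizer (A : Set G)) (X := G)
    (fun g x => g * x * (g : G)⁻¹) (by simp) (by intro a b x; simp [mul_assoc])
    ((A : Set G) \ {1}) (Set.toFinite _)
    (fun a x hx => ⟨(Subgroup.mem_normalizer_iff.mp a.2 x).mp hx.1, by simpa using hx.2⟩)
    (A.subgroupOf (Subgroup.normalizer (A : Set G))).index
    (fun x hx => ⟨_, rfl, fun a => by
      rw [Subgroup.mem_subgroupOf, ← SetLike.ext_iff.mp (hA x hx.1 hx.2)]
      simp only [Subgroup.mem_centralizer_iff, Set.mem_singleton_iff, forall_eq]
      rw [mul_inv_eq_iff_eq_mul, eq_comm]⟩)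
  rwa [Set.ncard_sdiff_singleton_of_mem (by exact A.one_mem)] at h

end Cfsg.Agent.S0196
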