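import Cfsg.Statements.S0197
import Cfsg.Agent.Lib.Exc.G3b

set_option autoImplicit false
open Cfsg

namespace Cfsg.Agent.S0197

/-- If a finite simple group has an involution whose centralizer is isomorphic to the general linear group GL(2, 3), then the group has order 5616 or 7920. -/
theorem result {G : Type*} [Group G] [Finite G] [IsSimpleGroup G] (t : G) (ht : orderOf t = 2) (e : Subgroup.centralizer ({t} : Set G) ≃* Matrix.GeneralLinearGroup (Fin 2) (ZMod 3)) : Nat.card G = 5616 ∨ Nat.card G = 7920 := by
  obtain ⟨f, h⟩ := Lib.Exc.G3.exists_glt (fun K hK => by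
    rcases (Subgroup.normal_of_index_eq_two hK).eq_bot_or_eq_top with rfl | rfl
    · have h1 := Subgroup.card_le_card_group (Subgroup.centralizer ({t} : Set G))
      rw [Nat.card_congr (Lib.Exc.G3.eGL.trans e.symm).symm.toEquiv, Lib.Exc.G3.card_M, ← Subgroup.index_bot, hK] at h1
      omega
    · simp at hK) ht e
  exact h.card_cases

end Cfsg.Agent.S0197
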