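import Cfsg.Statements.S0203
import Cfsg.Agent.Lib.Invol.Classes

set_option autoImplicit false
open Cfsg

namespace Cfsg.Agent.S0203
open Cfsg.Lib.Invol


/-- If a Sylow 2-subgroup P of a finite group G is a Klein four-group, then G has three classes of involutions if and only if P has a normal complement in G. -/
theorem result {G : Type*} [Group G] [Finite G] (P : Sylow 2 G) (hP : IsKleinFour (P : Subgroup G)) : Nat.card {C : ConjClasses G // ∃ t : G, orderOf t = 2 ∧ ConjClasses.mk t = C} = 3 ↔ ∃ N : Subgroup G, N.Normal ∧ Subgroup.IsComplement' N (P : Subgroup G) := by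
  have := fact_two
  have := hP.isMulCommutative
  constructor
  · intro h3
    rcases klein_sylow_fusion P hP with h | h
    · refine ⟨_, inferInstance, MonoidHom.ker_transferSylow_isComplement' P ?_⟩
      intro n hn
      rw [Subgroup.mem_centralizer_iff]
      intro x hx
      have := h x hx _ ((Subgroup.mem_normalizer_iff.mp hn x).mp hx) (isConj_conj n x)
      exact mul_inv_eq_iff_eq_mul.mp this.symm |>.symm
    · obtain ⟨a, b, ha, -⟩ := klein_exists hP
      have := h3.symm.trans (card_classes_eq_one (p := fun t : G => orderOf t = 2) ha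
        fun t ht => h a t ha ht)
      omega
  · rintro ⟨N, hN, hc⟩
    refine klein_sylow_three P hP fun x hx y hy hxy => ?_
    obtain ⟨g, rfl⟩ := isConj_iff.mp hxy
    obtain ⟨⟨n, p⟩, rfl⟩ := hc.2 g
    simp only at hy ⊢
    have e : (n : G) * p * x * ((n : G) * p)⁻¹ = n * x * (n : G)⁻¹ := by
      rw [mul_assoc (n : G), (klein_commute hP p.2 hx).eq]; group
    rw [e] at hy ⊢
    have h1 : x⁻¹ * (n * x * (n : G)⁻¹) ∈ N := by
      have := N.mul_mem (hN.conj_mem _ n.2 x⁻¹) (N.inv_mem n.2)
      simpa [mul_assoc] using this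
    have h2 := Subgroup.disjoint_def.mp hc.disjoint h1 (P.1.mul_mem (P.1.inv_mem hx) hy)
    exact (inv_mul_eq_one.mp h2)

end Cfsg.Agent.S0203
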