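import Cfsg.Statements.S0210
import Cfsg.Agent.Lib.Invol.Basic

set_option autoImplicit false
open Cfsg

namespace Cfsg.Agent.S0210
open Cfsg.Lib.Invol


/-- If x, y are involutions whose product has even order, no element of the subgroup generated by x and y conjugates x to y. -/
theorem result {G : Type*} [Group G] [Finite G] (x y : G) (hx : orderOf x = 2) (hy : orderOf y = 2) (heven : Even (orderOf (x * y))) (d : G) (hd : d ∈ Subgroup.closure ({x, y} : Set G)) : d * x * d⁻¹ ≠ y := by
  have hx2 := mul_self_of_two hx
  have hy2 := mul_self_of_two hy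
  have h1 := left_inverts hx2 hy2
  have hy' : y = x * (x * y) := by rw [← mul_assoc, hx2, one_mul]
  obtain ⟨k, hk⟩ := (mem_closure_invols_iff hx2 hy2 d).mp hd
  generalize x * y = r at *
  intro h
  have key : ∀ j : ℤ, x * r ^ (2 * j) ≠ y := by
    intro j hj
    rw [hy'] at hj
    have h3 : r ^ (2 * j - 1) = 1 := by
      rw [zpow_sub, mul_left_cancel hj]; simp
    rw [← orderOf_dvd_iff_zpow_eq_one] at h3
    obtain ⟨m, hm⟩ := heven
    have : (2 : ℤ) ∣ 2 * j - 1 := dvd_trans ⟨m, by rw [hm]; push_cast; ring⟩ h3
    omega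
  rcases hk with rfl | rfl
  · apply key (-k)
    have := conj_refl_by_rot h1 k 0
    rw [zpow_zero, mul_one] at this
    rw [← h, this]; group
  · apply key k
    have := conj_refl_by_refl h1 k 0
    rw [zpow_zero, mul_one] at this
    rw [← h, this]; group

end Cfsg.Agent.S0210
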