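import Cfsg.Statements.S0211
import Cfsg.Agent.Lib.Invol.Basic

set_option autoImplicit false
open Cfsg

namespace Cfsg.Agent.S0211
open Cfsg.Lib.Invol


/-- Let x, y be involutions with xy of even order n and z = (xy)^(n/2). Then xz is conjugate to x by an element of the subgroup generated by x, y if and only if 4 divides n. -/
theorem result {G : Type*} [Group G] [Finite G] (x y : G) (hx : orderOf x = 2) (hy : orderOf y = 2) (heven : Even (orderOf (x * y))) : (∃ d ∈ Subgroup.closure ({x, y} : Set G), d * x * d⁻¹ = x * (x * y) ^ (orderOf (x * y) / 2)) ↔ 4 ∣ orderOf (x * y) := by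
  have hx2 := mul_self_of_two hx
  have hy2 := mul_self_of_two hy
  have h1 := left_inverts hx2 hy2
  have hmem := mem_closure_invols_iff hx2 hy2
  generalize x * y = r at *
  obtain ⟨m, hm⟩ := heven
  have hm2 : orderOf r / 2 = m := by omega
  rw [hm2]
  have key : ∀ j : ℤ, x * r ^ (2 * j) = x * r ^ m → 4 ∣ orderOf r := by
    intro j hj
    have h3 : r ^ (2 * j - m) = 1 := by
      rw [zpow_sub, mul_left_cancel hj]; simp
    rw [← orderOf_dvd_iff_zpow_eq_one, hm] at h3
    have : (2 : ℤ) ∣ 2 * j - m := dvd_trans ⟨m, by push_cast; ring⟩ h3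
    omega
  constructor
  · rintro ⟨d, hd, h⟩
    obtain ⟨k, rfl | rfl⟩ := (hmem d).mp hd
    · apply key (-k)
      have := conj_refl_by_rot h1 k 0
      rw [zpow_zero, mul_one] at this
      rw [← h, this]; group
    · apply key k
      have := conj_refl_by_refl h1 k 0
      rw [zpow_zero, mul_one] at this
      rw [← h, this]; group
  · rintro ⟨c, hc⟩
    have hmc : m = 2 * c := by omega
    refine ⟨x * r ^ (c : ℤ), (hmem _).mpr ⟨c, Or.inr rfl⟩, ?_⟩
    have := conj_refl_by_refl h1 c 0
    rw [zpow_zero, mul_one] at this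
    rw [this, hmc, ← zpow_natCast]; congr 2

end Cfsg.Agent.S0211
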