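import Cfsg.Statements.S0212
import Cfsg.Agent.Lib.Invol.Classes
import Cfsg.Agent.S0238

set_option autoImplicit false
open Cfsg

namespace Cfsg.Agent.S0212
open Cfsg.Lib.Invol


/-- The Brauer–Fowler bound: if G is a finite simple group and t an involution of G whose centralizer has order n, then |G| ≤ (2n^2)!. -/
theorem result {G : Type*} [Group G] [Finite G] [IsSimpleGroup G] (t : G) (ht : orderOf t = 2) : Nat.card G ≤ Nat.factorial (2 * (Nat.card (Subgroup.centralizer ({t} : Set G))) ^ 2) := by
  classical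
  have := Fintype.ofFinite G
  set n := Nat.card (Subgroup.centralizer ({t} : Set G)) with hn
  have hmn := card_isConj_mul t
  rw [← hn] at hmn
  set m := Nat.card {y : G // IsConj t y} with hm
  have hn0 : 0 < n := Nat.card_pos
  have hm0 : 0 < m := card_pos_of (IsConj.refl t)
  by_cases hm1 : m = 1
  · rw [← hmn, hm1, one_mul]
    exact le_trans (by nlinarith) (Nat.self_le_factorial _)
  obtain ⟨x, hx, hmax⟩ := Finset.exists_max_image (Finset.univ.filter fun x : G => x ≠ 1)
    (fun x => Nat.card (Subgroup.centralizer ({x} : Set G))) ⟨t, by simpa using ne_one_of_two ht⟩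
  simp only [Finset.mem_filter, Finset.mem_univ, true_and] at hx hmax
  have hC : Subgroup.centralizer ({x} : Set G) ≠ ⊤ := by
    intro h
    have h1 : x ∈ Subgroup.center G := by
      rw [Subgroup.centralizer_eq_top_iff_subset] at h; exact h rfl
    have h2 : Subgroup.center G = ⊤ :=
      (Subgroup.Normal.eq_bot_or_eq_top inferInstance).resolve_left fun h => hx (by
        rwa [h, Subgroup.mem_bot] at h1)
    apply hm1
    rw [hm, ← card_eq_self t]
    refine card_congr_iff fun y => ⟨fun hy => ?_, fun hy => hy ▸ IsConj.refl _⟩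
    obtain ⟨g, rfl⟩ := isConj_iff.mp hy
    have : t ∈ Subgroup.center G := h2 ▸ Subgroup.mem_top t
    rw [Subgroup.mem_center_iff.mp this g, mul_inv_cancel_right]
  refine (Nat.le_of_dvd (Nat.factorial_pos _) (card_dvd_factorial_index hC)).trans
    (Nat.factorial_le ?_)
  have hkc := (Subgroup.centralizer ({x} : Set G)).index_mul_card
  set k := (Subgroup.centralizer ({x} : Set G)).index
  set c := Nat.card (Subgroup.centralizer ({x} : Set G))
  have hcount : m * m ≤ m + (Nat.card G - 1) * c := by
    rw [hm, ← card_prod_and, card_split _ (fun p : G × G => p.1 * p.2 = 1)]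
    apply Nat.add_le_add
    · refine card_le_of_inj Prod.fst (fun p hp => hp.1.1) ?_
      rintro ⟨u, v⟩ ⟨u', v'⟩ ⟨-, h1⟩ ⟨-, h2⟩ h3
      simp only at h1 h2 h3
      subst h3
      rw [mul_left_cancel (h1.trans h2.symm)]
    · have e : Nat.card G - 1 = Nat.card {y : G // y ≠ 1} := by
        have := card_remove (p := fun _ : G => True) (a := 1) trivial
        rw [card_true, card_congr_iff (q := fun y : G => y ≠ 1) (fun y => by simp)] at this
        omega
      rw [e]
      refine card_le_mul_of_fibers (fun p : G × G => p.1 * p.2) (fun p hp => hp.2) fun y hy => ?_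
      refine le_trans ?_ ((Cfsg.Agent.S0238.result y).1.trans (hmax y hy))
      exact card_le_of_imp fun p hp => ⟨(orderOf_of_isConj hp.1.1.1).symm.trans ht,
        (orderOf_of_isConj hp.1.1.2).symm.trans ht, hp.2⟩
  obtain ⟨m', hm'⟩ : ∃ m', m = m' + 2 := ⟨m - 2, by omega⟩
  have hG : Nat.card G - 1 + 1 = Nat.card G := Nat.sub_add_cancel Nat.card_pos
  generalize Nat.card G - 1 = g at *
  rw [← hG] at hmn hkc
  rw [hm'] at hcount hmn
  have h1 : (m' + 2) * (m' + 1) ≤ g * c := by nlinarith
  have h2 : (m' + 2) * (k * (m' + 1)) ≤ (m' + 2) * (n * g) := by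
    calc (m' + 2) * (k * (m' + 1)) = k * ((m' + 2) * (m' + 1)) := by ring
      _ ≤ k * (g * c) := Nat.mul_le_mul_left _ h1
      _ = g * ((m' + 2) * n) := by rw [hmn, ← hkc]; ring
      _ = _ := by ring
  have h3 := Nat.le_of_mul_le_mul_left h2 (by omega)
  have h4 : g ≤ 2 * n * (m' + 1) := by nlinarith
  have h5 : k * (m' + 1) ≤ 2 * n ^ 2 * (m' + 1) := by
    calc _ ≤ n * g := h3
      _ ≤ n * (2 * n * (m' + 1)) := Nat.mul_le_mul_left _ h4
      _ = _ := by ring
  exact Nat.le_of_mul_le_mul_right h5 (by omega)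

end Cfsg.Agent.S0212
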