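import Cfsg.Statements.S0214
import Cfsg.Agent.Lib.Invol.Strong

set_option autoImplicit false
open Cfsg

namespace Cfsg.Agent.S0214
open Cfsg.Lib.Invol


/-- Let H be a proper subgroup of the finite group G and P a nontrivial Sylow 2-subgroup of H. Then H is strongly embedded in G if and only if N_G(X) ≤ H for every nontrivial subgroup X of P. -/
theorem result {G : Type*} [Group G] [Finite G] (H : Subgroup G) (hH : H ≠ ⊤) (P : Sylow 2 ↥H) (hP : (P : Subgroup ↥H) ≠ ⊥) : Cfsg.IsStronglyEmbedded H ↔ (∀ X : Subgroup ↥H, X ≤ (P : Subgroup ↥H) → X ≠ ⊥ → Subgroup.normalizer ((X.map H.subtype : Subgroup G) : Set G) ≤ H) := by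
  have := fact_two
  have hev : ∀ X : Subgroup H, X ≤ P → X ≠ ⊥ → Even (Nat.card (X.map H.subtype)) := by
    intro X hX hne
    rw [Subgroup.card_map_of_injective H.subtype_injective, even_iff_two_dvd]
    rcases (P.2.to_le hX).card_eq_or_dvd with h | h
    · exact absurd (Subgroup.card_eq_one.mp h) hne
    · exact h
  constructor
  · intro h X hX hne
    exact se_normalizer_le h (Subgroup.map_subtype_le X) (hev X hX hne)
  · intro h
    let T : Subgroup G := (P : Subgroup H).map H.subtype
    have hTH : T ≤ H := Subgroup.map_subtype_le _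
    have hTp : IsPGroup 2 T := P.2.map _
    have hN : ∀ X : Subgroup G, X ≤ T → X ≠ ⊥ → Subgroup.normalizer (X : Set G) ≤ H := by
      intro X hX hne
      have e : (X.subgroupOf H).map H.subtype = X := Subgroup.map_subgroupOf_eq_of_le (hX.trans hTH)
      have := h (X.subgroupOf H) (fun x hx => by
        obtain ⟨y, hy, hyx⟩ := hX hx
        rwa [← Subtype.ext hyx]) (fun h0 => hne (by rw [← e, h0, Subgroup.map_bot]))
      rwa [e] at this
    -- every nontrivial 2-subgroup of `H` has its normaliser in `H`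
    have hN' : ∀ X : Subgroup G, X ≤ H → IsPGroup 2 X → X ≠ ⊥ →
        Subgroup.normalizer (X : Set G) ≤ H := by
      intro X hXH hXp hne g hg
      obtain ⟨a, ha, hXa⟩ := exists_conj_le_sylow_sub P hXp hXH
      have h1 := hN (X.map (MulAut.conj a).toMonoidHom) (by
        rintro _ ⟨x, hx, rfl⟩; exact hXa x hx)
        (by rwa [Ne, Subgroup.map_eq_bot_iff_of_injective _ (MulAut.conj a).injective])
      have h2 : a * g * a⁻¹ ∈ H := h1 (Subgroup.le_normalizer_map _ ⟨g, hg, rfl⟩)
      simpa [mul_assoc] using H.mul_mem (H.mul_mem (H.inv_mem ha) h2) ha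
    -- a 2-subgroup of `G` meeting `H` nontrivially lies in `H`
    have hle : ∀ R : Subgroup G, IsPGroup 2 R → R ⊓ H ≠ ⊥ → R ≤ H := by
      intro R hR hne
      by_contra hc
      obtain ⟨x, hxR, hxn, hxN⟩ := exists_mem_normalizer_not_mem hR (Q := R ⊓ H) inf_le_left
        (fun h => hc (h ▸ inf_le_right))
      exact hxn ⟨hxR, hN' _ inf_le_right hR.to_inf_left hne hxN⟩
    refine stronglyEmbedded_iff.mpr ⟨hH, (hev P le_rfl hP).trans_dvd
      (Subgroup.card_dvd_of_le hTH), fun t g ht htH hg => ?_⟩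
    obtain ⟨R, hR⟩ := (isPGroup_zpowers_two ht).exists_le_sylow
    have htR : t ∈ R := hR (Subgroup.mem_zpowers t)
    have hRH : (R : Subgroup G) ≤ H := hle R R.2 (fun h0 => ne_one_of_two ht
      (Subgroup.mem_bot.mp (h0 ▸ ⟨htR, htH⟩)))
    have hgR : ((g • R : Sylow 2 G) : Subgroup G) ≤ H := hle _ (g • R).2 (fun h0 =>
      ne_one_of_two ((orderOf_conj g t).trans ht) (Subgroup.mem_bot.mp (h0 ▸
        ⟨mem_smul_sylow.mpr (by simpa [mul_assoc] using htR), hg⟩)))
    obtain ⟨a, ha, hconj⟩ := exists_conj_le_sylow_of_le R hRH (g • R).2 hgR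
    have h3 : a * g ∈ Subgroup.normalizer ((R : Subgroup G) : Set G) := by
      apply Subgroup.mem_normalizer_fintype
      intro x hx
      have := hconj (g * x * g⁻¹) (mem_smul_sylow.mpr (by simpa [mul_assoc] using hx))
      simpa [mul_assoc] using this
    have h4 := hN' R hRH R.2 (fun h0 => ne_one_of_two ht
      (Subgroup.mem_bot.mp (h0 ▸ htR))) h3
    simpa using H.mul_mem (H.inv_mem ha) h4

end Cfsg.Agent.S0214
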