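import Cfsg.Statements.S0216
import Cfsg.Agent.Lib.Invol.Isolated

set_option autoImplicit false
open Cfsg

namespace Cfsg.Agent.S0216
open Cfsg.Lib.Invol


/-- For an involution u in a Sylow 2-subgroup P of a finite group G, the following are equivalent: no G-conjugate of u other than u lies in P; every commutator of u with an element of G has odd order. -/
theorem result {G : Type*} [Group G] [Finite G] (P : Sylow 2 G) (u : G) (hu : orderOf u = 2) (huP : u ∈ P) : (∀ g : G, g * u * g⁻¹ ∈ P → g * u * g⁻¹ = u) ↔ (∀ g : G, Odd (orderOf (u * g * u⁻¹ * g⁻¹))) := by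
  constructor
  · intro h g
    have e : u * g * u⁻¹ * g⁻¹ = u * (g * u * g⁻¹) := by rw [inv_of_two hu]; group
    rw [e]
    exact isolated_odd_mul (isolated_of_sylow P hu h) (isConj_conj g u)
  · intro h g hg
    have h1 : u * g * u⁻¹ * g⁻¹ ∈ (P : Subgroup G) := by
      have e : u * g * u⁻¹ * g⁻¹ = u * (g * u * g⁻¹)⁻¹ := by group
      rw [e]; exact P.1.mul_mem huP (P.1.inv_mem hg)
    have h2 := eq_one_of_odd_of_mem P.2 h1 (h g)
    calc g * u * g⁻¹ = (u * g * u⁻¹ * g⁻¹) * (g * u * g⁻¹) := by rw [h2, one_mul]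
      _ = u := by group

end Cfsg.Agent.S0216
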