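import Cfsg.Statements.S0218
import Cfsg.Agent.Lib.Invol.Basic

set_option autoImplicit false
open Cfsg

namespace Cfsg.Agent.S0218
open Cfsg.Lib.Invol


/-- The generalized quaternion group of order 2^(n+3) contains exactly one element of order 2. -/
theorem result (n : ℕ) : Nat.card {x : QuaternionGroup (2 ^ (n + 1)) // orderOf x = 2} = 1 := by
  haveI : NeZero (2 ^ (n + 1)) := ⟨by positivity⟩
  rw [Nat.card_eq_one_iff_unique]
  have h1 : orderOf (QuaternionGroup.a ((2 ^ (n + 1) : ℕ) : ZMod (2 * 2 ^ (n + 1))) :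
      QuaternionGroup (2 ^ (n + 1))) = 2 := by
    rw [← QuaternionGroup.a_one_pow, orderOf_pow, QuaternionGroup.orderOf_a_one,
      Nat.gcd_mul_left_left, Nat.mul_div_cancel _ (by positivity)]
  have key : ∀ x : QuaternionGroup (2 ^ (n + 1)), orderOf x = 2 →
      x = QuaternionGroup.a ((2 ^ (n + 1) : ℕ) : ZMod (2 * 2 ^ (n + 1))) := by
    rintro (i | i) hi
    · have h2 := mul_self_of_two hi
      have h3 := ne_one_of_two hi
      rw [QuaternionGroup.a_mul_a, QuaternionGroup.one_def, QuaternionGroup.a.injEq] at h2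
      rw [QuaternionGroup.one_def, Ne, QuaternionGroup.a.injEq] at h3
      congr 1
      obtain ⟨k, rfl⟩ := ZMod.intCast_surjective i
      rw [← Int.cast_add, ZMod.intCast_zmod_eq_zero_iff_dvd] at h2
      rw [ZMod.intCast_zmod_eq_zero_iff_dvd] at h3
      rw [← Int.cast_natCast, ZMod.intCast_eq_intCast_iff, Int.modEq_iff_dvd]
      generalize 2 ^ (n + 1) = N at *
      obtain ⟨c, hc⟩ := h2
      push_cast at *
      have hk : k = N * c := by linarith
      rcases Int.even_or_odd' c with ⟨d, rfl | rfl⟩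
      · exact absurd ⟨d, by rw [hk]; ring⟩ h3
      · exact ⟨-d, by rw [hk]; ring⟩
    · rw [QuaternionGroup.orderOf_xa] at hi; omega
  exact ⟨⟨fun a b => Subtype.ext ((key _ a.2).trans (key _ b.2).symm)⟩, ⟨⟨_, h1⟩⟩⟩

end Cfsg.Agent.S0218
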