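import Cfsg.Statements.S0219
import Cfsg.Agent.Lib.Invol.Sylow2

set_option autoImplicit false
open Cfsg

namespace Cfsg.Agent.S0219
open Cfsg.Lib.Invol


/-- If a finite group has even order and a cyclic Sylow 2-subgroup, then it has a subgroup of index 2 (consider the parity of permutations in the regular representation). -/
theorem result {G : Type*} [Group G] [Finite G] (heven : Even (Nat.card G)) (T : Sylow 2 G) (hT : IsCyclic (T : Subgroup G)) : ∃ H : Subgroup G, H.index = 2 := by
  have := fact_two
  have hmin : (Nat.card G).minFac = 2 := (Nat.minFac_eq_two_iff _).mpr heven.two_dvd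
  have hc := IsCyclic.isComplement' (P := T) hmin hT
  obtain ⟨t, ht⟩ := exists_two_of_even heven
  obtain ⟨g, hg⟩ := exists_conj_two_mem_sylow T ht
  refine exists_index_two_of_hom T.2 (MonoidHom.transferSylow T (hT.normalizer_le_centralizer hmin))
    (g := g * t * g⁻¹) (fun h => ?_)
  have h1 := hc.disjoint
  rw [Subgroup.disjoint_def] at h1
  exact ne_one_of_two ((orderOf_conj g t).trans ht) (h1 h hg)

end Cfsg.Agent.S0219
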