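import Cfsg.Statements.S0220
import Cfsg.Agent.Lib.Invol.Sylow2
import Cfsg.Agent.S0219

set_option autoImplicit false
open Cfsg

namespace Cfsg.Agent.S0220
open Cfsg.Lib.Invol


/-- If x is an involution of a finite group G and a Sylow 2-subgroup of the centralizer of x is cyclic, then G has a subgroup of index 2; in particular G is not simple unless it has order 2. -/
theorem result {G : Type*} [Group G] [Finite G] (x : G) (hx : orderOf x = 2) (S : Sylow 2 ↥(Subgroup.centralizer ({x} : Set G))) (hS : IsCyclic (S : Subgroup ↥(Subgroup.centralizer ({x} : Set G)))) : ∃ H : Subgroup G, H.index = 2 := by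
  have := fact_two
  -- `Q` is the image of `S` in `G`
  let Q : Subgroup G := (S : Subgroup _).map (Subgroup.centralizer ({x} : Set G)).subtype
  have hQp : IsPGroup 2 Q := S.2.map _
  have hQc : IsCyclic Q := isCyclic_of_surjective _
    (Subgroup.equivMapOfInjective (S : Subgroup (Subgroup.centralizer ({x} : Set G)))
      (Subgroup.centralizer ({x} : Set G)).subtype (Subgroup.subtype_injective _)).surjective
  have hxC : x ∈ Subgroup.centralizer ({x} : Set G) := mem_cent.mpr (Commute.refl x)
  have hxQ : x ∈ Q := by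
    obtain ⟨h, hh, hconj⟩ := exists_conj_le_sylow_sub S (isPGroup_zpowers_two hx)
      (by rwa [Subgroup.zpowers_le])
    have h1 := hconj x (Subgroup.mem_zpowers x)
    rwa [(mem_cent.mp hh).eq, mul_inv_cancel_right] at h1
  obtain ⟨P, hP⟩ := exists_sylow_eq_of_normalizer hQp (fun R hR hRN hQR => by
    have hRC : R ≤ Subgroup.centralizer ({x} : Set G) := by
      intro r hr
      have h1 := (Subgroup.mem_normalizer_iff.mp (hRN hr) x).mp hxQ
      have h2 := eq_of_isCyclic hQc h1 hxQ ((orderOf_conj r x).trans hx) hx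
      rw [mul_inv_eq_iff_eq_mul] at h2
      exact mem_cent.mpr h2
    have := S.3 (hR.comap_subtype) (fun y hy => hQR ⟨y, hy, rfl⟩)
    intro r hr
    refine ⟨⟨r, hRC hr⟩, ?_, rfl⟩
    change (⟨r, hRC hr⟩ : Subgroup.centralizer ({x} : Set G)) ∈ (S : Subgroup _)
    rw [← this]; exact hr)
  refine Cfsg.Agent.S0219.result ?_ P (hP ▸ hQc)
  rw [even_iff_two_dvd, ← hx]; exact orderOf_dvd_natCard x

end Cfsg.Agent.S0220
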