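import Cfsg.Statements.S0221
import Cfsg.Agent.Lib.Amalg.Syl
import Cfsg.Agent.Lib.PGrp.TwoMax
import Cfsg.Agent.Lib.Invol.Transfer2

set_option autoImplicit false
open Cfsg

namespace Cfsg.Agent.S0221

open Subgroup Cfsg.Lib Cfsg.Lib.Core Cfsg.Lib.Amalg Cfsg.Lib.PGrp

theorem aux {P : Type*} [Group P] [Finite P] (hP : IsPGroup 2 P) {E : Subgroup P} (hE : IsElementaryAbelian 2 E)
    (h8 : Nat.card E = 8) : ∃ C : Subgroup P, (C = ⊤ ∨ C.index = 2) ∧ ∀ y ∈ C, y ^ 2 = 1 →
      ∃ A : Subgroup P, A ≤ centralizer {y} ∧ IsElementaryAbelian 2 A ∧ Nat.card A = 2 ^ (2 + 1) := by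
  haveI := Invol.fact_two
  obtain ⟨U, _, h1, h2⟩ := exists_normal_elem_sq_of_rank hP (not_pRankLE_iff.2 ⟨E, hE, h8⟩)
  have hi := index_centralizer_le_of_card_le_sq hP U h2.le
  refine ⟨_, eq_top_or_index_eq hP hi, fun y hy y2 => not_pRankLE_subgroup_iff.1 fun h => ?_⟩
  rw [pRankLE_subgroup_iff] at h
  have k : ∀ A, A ≤ 𝐂 U → A ≤ centralizer {y} → IsElementaryAbelian 2 A → A ≤ U := fun A a1 a2 a3 =>
    le_sup_right.trans (eq_of_le_of_card_ge (le_sup_left : U ≤ U ⊔ A) (h2 ▸ h _ (sup_le (fun u hu =>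
      mem_centralizer_singleton_iff.2 (hy u hu)) a2) (isElementaryAbelian_sup h1 a3 a1))).ge
  have hyU := zpowers_le.1 (k _ (zpowers_le.2 hy) (zpowers_le.2 (mem_centralizer_singleton_iff.2 rfl)) (isElementaryAbelian_zpowers y2))
  have hc : 𝐂 U ≤ centralizer {y} := centralizer_le (by simpa using hyU)
  have h3 := card_le_card_inf_mul_index (𝐂 U) E
  have h4 : E ⊓ 𝐂 U = U := eq_of_le_of_card_ge (k _ inf_le_right (inf_le_right.trans hc) (isElementaryAbelian_of_le hE inf_le_left))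
    (by rw [h2]; nlinarith)
  haveI := hE.1
  have := h E (((le_centralizer E).trans (centralizer_le (h4.ge.trans inf_le_left))).trans hc) hE
  omega

/-- Let G be a finite group with no subgroup of index 2 whose 2-rank is at least 3 (it contains an elementary abelian subgroup of order 8). Then the centralizer of every involution of G also contains an elementary abelian subgroup of order 8. -/
theorem result {G : Type*} [Group G] [Finite G] (hno : ∀ H : Subgroup G, H.index ≠ 2) (hrank : ∃ E : Subgroup G, Nat.card E = 8 ∧ ∀ e ∈ E, e ^ 2 = 1) (x : G) (hx : orderOf x = 2) : ∃ E : Subgroup G, E ≤ Subgroup.centralizer ({x} : Set G) ∧ Nat.card E = 8 ∧ ∀ e ∈ E, e ^ 2 = 1 := by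
  haveI := Invol.fact_two
  obtain ⟨E, h8, h2⟩ := hrank
  have hE : IsElementaryAbelian 2 E := ⟨⟨⟨fun a b => Subtype.ext (by
    have h := h2 _ (mul_mem a.2 b.2)
    have ha := h2 _ a.2
    have hb := h2 _ b.2
    rw [pow_two] at h ha hb
    change (a : G) * b = b * a
    rw [eq_inv_of_mul_eq_one_left h, mul_inv_rev, ← eq_inv_of_mul_eq_one_left ha, ← eq_inv_of_mul_eq_one_left hb])⟩⟩, h2⟩
  obtain ⟨P, hP⟩ := (isPGroup_of_isElementaryAbelian hE).exists_le_sylow
  obtain ⟨C, h1, h3⟩ := aux P.isPGroup' (isElementaryAbelian_subgroupOf hE P) (by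
    rw [← h8]; exact Nat.card_congr (subgroupOfEquivOfLe hP).toEquiv)
  obtain ⟨g, y, hy, e⟩ : ∃ g : G, g * x * g⁻¹ ∈ C.map (P : Subgroup G).subtype := by
    rcases h1 with rfl | h1
    · obtain ⟨Q, hQ⟩ := (Invol.isPGroup_zpowers_two hx).exists_le_sylow
      obtain ⟨g, rfl⟩ := MulAction.exists_smul_eq G Q P
      exact ⟨g, ⟨_, by rw [coe_smul_sylow]; exact conj_mem_cj g (hQ (mem_zpowers x))⟩, mem_top _, rfl⟩
    · refine Invol.thompson_transfer' hno (H := P) (Nat.odd_iff.2 (Nat.two_dvd_ne_zero.1 P.not_dvd_index)) ?_ hx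
      rw [relIndex, subgroupOf, comap_map_eq_self_of_injective (subtype_injective _), h1]
  obtain ⟨A, a1, a2, a3⟩ := h3 y hy (Subtype.ext (by
    rw [SubmonoidClass.coe_pow, show (y : G) = _ from e, conj_pow, show x ^ 2 = 1 from hx ▸ pow_orderOf_eq_one x]; simp))
  refine ⟨cj g⁻¹ (A.map (P : Subgroup G).subtype), ?_, by rw [card_cj, card_map_of_injective (subtype_injective _), a3]; rfl,
    (isElementaryAbelian_map _ (isElementaryAbelian_map _ a2)).2⟩
  rw [cj_le_iff, inv_inv, cj_centralizer_singleton, ← e]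
  rintro _ ⟨a, ha, rfl⟩
  exact mem_centralizer_singleton_iff.2 (congrArg Subtype.val (mem_centralizer_singleton_iff.1 (a1 ha)))

end Cfsg.Agent.S0221
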