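import Cfsg.Statements.S0224
import Cfsg.Agent.Lib.Invol.Strong

set_option autoImplicit false
open Cfsg

namespace Cfsg.Agent.S0224
open Cfsg.Lib.Invol


/-- Let H be a proper subgroup of even order of the finite group G. Then H is strongly embedded if and only if each involution of H fixes exactly one point (namely the coset H) in the action of G on the cosets of H. -/
theorem result {G : Type*} [Group G] [Finite G] (H : Subgroup G) (hH : H ≠ ⊤) (heven : Even (Nat.card H)) : Cfsg.IsStronglyEmbedded H ↔ ∀ t ∈ H, orderOf t = 2 → Nat.card {c : G ⧸ H // t • c = c} = 1 := by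
  have e : ∀ t g : G, t • (g : G ⧸ H) = g ↔ g⁻¹ * t * g ∈ H := by
    intro t g
    rw [MulAction.Quotient.smul_coe, eq_comm, QuotientGroup.eq, smul_eq_mul, mul_assoc]
  constructor
  · intro h t htH ht
    rw [← card_eq_self ((1 : G) : G ⧸ H)]
    refine card_congr_iff fun c => ?_
    obtain ⟨g, rfl⟩ := QuotientGroup.mk_surjective c
    rw [e, QuotientGroup.eq, mul_one]
    exact ⟨fun hg => se_mem h ht htH (by simpa using hg),
      fun hg => by simpa using H.mul_mem (H.mul_mem hg htH) (H.inv_mem hg)⟩
  · intro h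
    refine stronglyEmbedded_iff.mpr ⟨hH, heven, fun t g ht htH hg => ?_⟩
    have h1 := (Nat.card_eq_one_iff_unique.mp (h t htH ht)).1
    have h2 := h1.elim ⟨((g⁻¹ : G) : G ⧸ H), (e _ _).mpr (by simpa using hg)⟩
      ⟨((1 : G) : G ⧸ H), (e _ _).mpr (by simpa using htH)⟩
    simpa using QuotientGroup.eq.mp (congrArg Subtype.val h2)

end Cfsg.Agent.S0224
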