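import Cfsg.Statements.S0226
import Cfsg.Agent.Lib.Invol.Sylow2

set_option autoImplicit false
open Cfsg

namespace Cfsg.Agent.S0226
open Cfsg.Lib.Invol


/-- A finite group of even order has an odd number of involutions. -/
theorem result {G : Type*} [Group G] [Finite G] (heven : Even (Nat.card G)) : Odd (Nat.card {t : G // orderOf t = 2}) := by
  classical
  have := fact_two
  have := Fintype.ofFinite G
  -- the involution `x ↦ x⁻¹` on `G`
  let f : Function.End G := fun x => x⁻¹
  have hf : f ^ 2 ^ 1 = 1 := funext fun x => inv_inv x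
  have h1 := Equiv.Perm.card_fixedPoints_modEq hf
  have h2 : Fintype.card f.fixedPoints = Nat.card {t : G // orderOf t = 2} + 1 := by
    rw [← Nat.card_eq_fintype_card, ← Finite.card_option]
    refine Nat.card_congr ⟨fun x => if h : x.1 = 1 then none else some ⟨x.1, ?_⟩,
      fun o => o.elim ⟨1, inv_one⟩ (fun t => ⟨t.1, inv_of_two t.2⟩), ?_, ?_⟩
    · exact two_of_mul_self (by have : x.1⁻¹ = x.1 := x.2
                                nth_rewrite 1 [← this]; simp) h
    · intro x
      by_cases h : x.1 = 1
      · simp only [h, dif_pos]; exact Subtype.ext h.symm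
      · simp only [h, dif_neg, not_false_iff]; rfl
    · rintro (_ | t)
      · simp
      · simp [ne_one_of_two t.2]
  rw [h2, ← Nat.card_eq_fintype_card] at h1
  obtain ⟨m, hm⟩ := heven
  rw [Nat.odd_iff]
  unfold Nat.ModEq at h1
  omega

end Cfsg.Agent.S0226
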