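import Cfsg.Statements.S0228
import Cfsg.Agent.Lib.Invol.Classes
import Mathlib.GroupTheory.SpecificGroups.Alternating

set_option autoImplicit false
open Cfsg

namespace Cfsg.Agent.S0228
open Cfsg.Lib.Invol


/-- A group of order 12 in which no involution is central is isomorphic to the alternating group on four letters. -/
theorem result {G : Type*} [Group G] [Finite G] (hG : Nat.card G = 12) (hz : ∀ z : G, orderOf z = 2 → z ∉ Subgroup.center G) : Nonempty (G ≃* alternatingGroup (Fin 4)) := by
  classical
  have := fact_two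
  have h3 : Fact (Nat.Prime 3) := ⟨Nat.prime_three⟩
  obtain ⟨x, hx⟩ := exists_prime_orderOf_dvd_card' (G := G) 3 (by rw [hG]; norm_num)
  let P := Subgroup.zpowers x
  have hP : Nat.card P = 3 := by rw [Nat.card_zpowers, hx]
  have hPi : P.index = 4 := by
    have := P.card_mul_index
    rw [hP, hG] at this; omega
  have hcore : P.normalCore = ⊥ := by
    by_contra hne
    have h1 : P.normalCore = P := by
      have h2 := Subgroup.card_dvd_of_le P.normalCore_le
      rw [hP] at h2
      rcases (Nat.dvd_prime Nat.prime_three).mp h2 with h | h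
      · exact absurd (Subgroup.card_eq_one.mp h) hne
      · exact Subgroup.eq_of_le_of_card_ge P.normalCore_le (by rw [h, hP])
    have hN : P.Normal := h1 ▸ P.normalCore_normal
    have h4 : Nat.card {y : G // IsConj x y} ≤ 2 := by
      have h5 := card_remove (p := fun y : G => y ∈ P) P.one_mem
      rw [hP] at h5
      have h6 : Nat.card {y : G // IsConj x y} ≤ Nat.card {y : G // y ∈ P ∧ y ≠ 1} := by
        refine card_le_of_imp fun y hy => ?_
        obtain ⟨g, rfl⟩ := isConj_iff.mp hy
        refine ⟨hN.conj_mem x (Subgroup.mem_zpowers x) g, fun h => ?_⟩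
        rw [conj_eq_one_iff.mp h] at hx
        simp at hx
      omega
    have h5 := card_isConj_mul x
    have h6 : 0 < Nat.card {y : G // IsConj x y} := card_pos_of (IsConj.refl _)
    have h7 : Even (Nat.card (Subgroup.centralizer ({x} : Set G))) := by
      rw [hG] at h5
      rw [Nat.even_iff]
      interval_cases Nat.card {y : G // IsConj x y} <;> omega
    obtain ⟨z, hzx, hz2⟩ := exists_two_mem_of_even h7
    apply hz z hz2
    obtain ⟨S, hS⟩ := (isPGroup_zpowers_two hz2).exists_le_sylow
    have hS4 : Nat.card S = 2 ^ 2 := by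
      rw [S.card_eq_multiplicity, hG, show 12 = 2 ^ 2 * 3 by norm_num,
        Nat.factorization_mul (by norm_num) (by norm_num), Nat.Prime.factorization_pow Nat.prime_two]
      simp [Nat.prime_three.factorization]
    have hcomm := IsPGroup.isMulCommutative_of_card_eq_prime_sq hS4
    have hSC : (S : Subgroup G) ≤ Subgroup.centralizer ({z} : Set G) := fun s hs => mem_cent.mpr
      (congrArg Subtype.val (hcomm.is_comm.comm ⟨s, hs⟩ ⟨z, hS (Subgroup.mem_zpowers z)⟩))
    have hPC : P ≤ Subgroup.centralizer ({z} : Set G) :=
      Subgroup.zpowers_le.mpr (mem_cent.mpr (mem_cent.mp hzx).symm)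
    have h8 := Subgroup.card_dvd_of_le hSC
    have h9 := Subgroup.card_dvd_of_le hPC
    have h10 : Subgroup.centralizer ({z} : Set G) = ⊤ := by
      apply Subgroup.eq_top_of_le_card
      rw [hG]
      rw [hP] at h9
      change Nat.card S ∣ _ at h8
      rw [hS4] at h8
      exact Nat.le_of_dvd Nat.card_pos (Nat.Coprime.mul_dvd_of_dvd_of_dvd (by norm_num) h8 h9)
    rw [Subgroup.centralizer_eq_top_iff_subset] at h10
    exact h10 rfl
  rw [Subgroup.normalCore_eq_ker, MonoidHom.ker_eq_bot_iff] at hcore
  have := Fintype.ofFinite (G ⧸ P)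
  let e : (G ⧸ P) ≃ Fin 4 := Fintype.equivFinOfCardEq (by
    rw [← Nat.card_eq_fintype_card, ← Subgroup.index_eq_card, hPi])
  let f : G →* Equiv.Perm (Fin 4) := e.permCongrHom.toMonoidHom.comp (MulAction.toPermHom G (G ⧸ P))
  have hf : Function.Injective f := e.permCongrHom.injective.comp hcore
  have hr : f.range = alternatingGroup (Fin 4) := by
    apply Equiv.Perm.eq_alternatingGroup_of_index_eq_two
    have h1 := f.range.card_mul_index
    rw [← Nat.card_congr (MonoidHom.ofInjective hf).toEquiv, hG, Nat.card_perm, Nat.card_fin] at h1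
    norm_num [Nat.factorial] at h1
    omega
  exact ⟨(MonoidHom.ofInjective hf).trans (MulEquiv.subgroupCongr hr)⟩

end Cfsg.Agent.S0228
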