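import Cfsg.Statements.S0229
import Cfsg.Agent.Lib.Invol.Isolated

set_option autoImplicit false
open Cfsg

namespace Cfsg.Agent.S0229
open Cfsg.Lib.Invol


/-- Let t be an involution of a Sylow 2-subgroup S of a finite group G, conjugate in G to no other element of S, and let s be an involution of G not conjugate to t. Then the order of st is twice an odd number. -/
theorem result {G : Type*} [Group G] [Finite G] (S : Sylow 2 G) (t : G) (ht : orderOf t = 2) (htS : t ∈ S) (hiso : ∀ g : G, g * t * g⁻¹ ∈ S → g * t * g⁻¹ = t) (s : G) (hs : orderOf s = 2) (hns : ¬ IsConj s t) : orderOf (s * t) % 4 = 2 := by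
  have hiso' := isolated_of_sylow S ht hiso
  have hs2 := mul_self_of_two hs
  have ht2 := mul_self_of_two ht
  have heven : Even (orderOf (t * s)) := by
    by_contra hc
    exact hns (isConj_of_odd ht2 hs2 (Nat.not_even_iff_odd.mp hc)).symm
  rw [orderOf_mul_comm]
  obtain ⟨hz, hzt, hzs⟩ := exists_central_of_even ht2 hs2 heven
  obtain ⟨m, hm⟩ := heven
  have hm2 : orderOf (t * s) / 2 = m := by omega
  rw [hm2] at hz hzt
  by_contra hne
  have hme : Even (m : ℤ) := by
    rw [Int.even_coe_nat, Nat.even_iff]; omega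
  obtain ⟨j, ⟨_, hj⟩ | ⟨ho, _⟩⟩ := exists_conj_left_mul_zpow ht2 hs2 (m : ℤ)
  · rw [zpow_natCast] at hj
    have := isolated_eq_of_commute hiso' (isConj_iff.mpr ⟨_, hj⟩)
      ((Commute.refl t).mul_right hzt.symm)
    exact ne_one_of_two hz (by simpa using this)
  · exact (Int.not_odd_iff_even.mpr hme) ho

end Cfsg.Agent.S0229
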