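import Cfsg.Statements.S0230
import Cfsg.Agent.Lib.Invol.Classes

set_option autoImplicit false
open Cfsg

namespace Cfsg.Agent.S0230
open Cfsg.Lib.Invol


/-- Let G be a finite group with two non-conjugate involutions, and let t be an involution whose centralizer has maximal order among centralizers of involutions. Then |G| < |C_G(t)|^3. -/
theorem result {G : Type*} [Group G] [Finite G] (s t : G) (hs : orderOf s = 2) (ht : orderOf t = 2) (hnc : ¬ IsConj s t) (hmax : ∀ u : G, orderOf u = 2 → Nat.card (Subgroup.centralizer ({u} : Set G)) ≤ Nat.card (Subgroup.centralizer ({t} : Set G))) : Nat.card G < Nat.card (Subgroup.centralizer ({t} : Set G)) ^ 3 := by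
  have hs2 := card_isConj_mul s
  have h1 : ∀ u : G, Nat.card {y : G // Commute y u ∧ y ≠ 1} + 1 =
      Nat.card (Subgroup.centralizer ({u} : Set G)) := by
    intro u
    rw [← card_remove (p := fun y : G => Commute y u) (Commute.one_left u)]
    exact card_congr_iff fun y => mem_cent.symm
  set c := Nat.card (Subgroup.centralizer ({t} : Set G))
  have h2 : Nat.card {y : G // IsConj s y} ≤
      Nat.card {p : G × G // (orderOf p.1 = 2 ∧ Commute p.1 t) ∧ (Commute p.2 p.1 ∧ p.2 ≠ 1)} := by
    refine card_le_of_surj Prod.snd fun y hy => ?_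
    have hy2 : orderOf y = 2 := (orderOf_of_isConj hy).symm.trans hs
    obtain ⟨z, hz, hzy, hzt, -⟩ := exists_central_of_not_isConj (mul_self_of_two hy2)
      (mul_self_of_two ht) (fun h => hnc (hy.trans h))
    exact ⟨(z, y), ⟨⟨hz, hzt⟩, hzy.symm, ne_one_of_two hy2⟩, rfl⟩
  have h3 := card_rel_le_mul_left (p := fun z : G => orderOf z = 2 ∧ Commute z t)
    (r := fun z y : G => Commute y z ∧ y ≠ 1) (k := c - 1) (fun z hz => by
      have := h1 z
      have := hmax z hz.1
      omega)
  have h4 : Nat.card {z : G // orderOf z = 2 ∧ Commute z t} ≤ c - 1 := by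
    have := card_le_of_imp (p := fun z : G => orderOf z = 2 ∧ Commute z t)
      (q := fun y : G => Commute y t ∧ y ≠ 1) fun z hz => ⟨hz.2, ne_one_of_two hz.1⟩
    have := h1 t
    omega
  have hc : 0 < c := Nat.card_pos
  obtain ⟨d, hd⟩ : ∃ d, c = d + 1 := ⟨c - 1, by omega⟩
  have h5 := hmax s hs
  rw [hd] at h3 h4 h5 ⊢
  simp only [Nat.add_sub_cancel] at h3 h4
  calc Nat.card G ≤ d * d * (d + 1) := by
        rw [← hs2]
        exact Nat.mul_le_mul (h2.trans (h3.trans (Nat.mul_le_mul_right _ h4))) h5
    _ < (d + 1) ^ 3 := by nlinarith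

end Cfsg.Agent.S0230
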