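import Cfsg.Statements.S0231
import Cfsg.Agent.Lib.Invol.Isolated

set_option autoImplicit false
open scoped Pointwise
open Cfsg

namespace Cfsg.Agent.S0231
open Cfsg.Lib.Invol


/-- Let T be a Sylow 2-subgroup of the finite group G which is not normal and which intersects every other Sylow 2-subgroup trivially. Then G has a single conjugacy class of involutions. -/
theorem result {G : Type*} [Group G] [Finite G] (T : Sylow 2 G) (hnn : ¬ (T : Subgroup G).Normal) (hTI : ∀ g : G, MulAut.conj g • (T : Subgroup G) ≠ T → MulAut.conj g • (T : Subgroup G) ⊓ T = ⊥) (s t : G) (hs : orderOf s = 2) (ht : orderOf t = 2) : IsConj s t := by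
  have := fact_two
  by_contra hnc
  -- `t` lies in some Sylow subgroup `A`; pick a different Sylow `B` and a conjugate `s'` of `s` in it
  have key : ∀ (A B : Sylow 2 G) (z : G), z ≠ 1 → z ∈ A → z ∈ B → A = B := by
    intro A B z hz hA hB
    obtain ⟨a, rfl⟩ := MulAction.exists_smul_eq G T A
    obtain ⟨b, rfl⟩ := MulAction.exists_smul_eq G T B
    by_contra hne
    have h1 := hTI (a⁻¹ * b) (by
      intro h
      apply hne
      have : (a⁻¹ * b) • T = T := Sylow.ext h
      rw [mul_smul, inv_smul_eq_iff] at this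
      exact this.symm)
    have h2 : a⁻¹ * z * a ∈ MulAut.conj (a⁻¹ * b) • (T : Subgroup G) ⊓ T := by
      refine ⟨mem_conj_smul.mpr ?_, mem_smul_sylow.mp hA⟩
      have : b⁻¹ * z * b ∈ (T : Subgroup G) := mem_smul_sylow.mp hB
      simpa [mul_assoc] using this
    rw [h1, Subgroup.mem_bot] at h2
    apply hz
    calc z = a * (a⁻¹ * z * a) * a⁻¹ := by group
      _ = 1 := by rw [h2]; group
  obtain ⟨A, hA⟩ := (isPGroup_zpowers_two ht).exists_le_sylow
  have htA : t ∈ A := hA (Subgroup.mem_zpowers t)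
  have hB : ∃ B : Sylow 2 G, B ≠ A := by
    by_contra hc
    push Not at hc
    have : Subsingleton (Sylow 2 G) := ⟨fun a b => (hc a).trans (hc b).symm⟩
    exact hnn (Sylow.normal_of_subsingleton T)
  obtain ⟨B, hBA⟩ := hB
  obtain ⟨g, hg⟩ := exists_conj_two_mem_sylow B hs
  have hs' : orderOf (g * s * g⁻¹) = 2 := (orderOf_conj g s).trans hs
  obtain ⟨z, hz, hzs, hzt, -⟩ := exists_central_of_not_isConj (mul_self_of_two hs')
    (mul_self_of_two ht) (fun h => hnc ((isConj_conj g s).trans h))
  have e : ∀ w : G, orderOf w = 2 → w ^ 2 ^ 1 = 1 := fun w hw => by rw [pow_one, sq_of_two hw]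
  obtain ⟨A', hzA, htA'⟩ := exists_sylow_of_commute (e z hz) (e t ht) hzt
  obtain ⟨B', hzB, hsB'⟩ := exists_sylow_of_commute (e z hz) (e _ hs') hzs
  apply hBA
  rw [key B B' _ (ne_one_of_two hs') hg hsB', key A A' _ (ne_one_of_two ht) htA htA',
    key A' B' z (ne_one_of_two hz) hzA hzB]

end Cfsg.Agent.S0231
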