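import Cfsg.Statements.S0235
import Cfsg.Agent.Lib.Invol.Sylow2
import Cfsg.Agent.Lib.Invol.Count

set_option autoImplicit false
open Cfsg

namespace Cfsg.Agent.S0235
open Cfsg.Lib.Invol


/-- If x² ≠ 1, the ordered pairs (u, v) of involutions with uv = x correspond bijectively to the involutions t with t x t⁻¹ = x⁻¹ (via (u, v) ↦ u), so the two counts agree. -/
theorem result {G : Type*} [Group G] [Finite G] (x : G) (hx : x ^ 2 ≠ 1) : Nat.card {p : G × G // orderOf p.1 = 2 ∧ orderOf p.2 = 2 ∧ p.1 * p.2 = x} = Nat.card {t : G // orderOf t = 2 ∧ t * x * t⁻¹ = x⁻¹} := by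
  refine card_eq_of_inverse Prod.fst (fun t => (t, t * x)) ?_ ?_ ?_ (fun _ _ => rfl)
  · rintro ⟨u, v⟩ ⟨hu, hv, rfl⟩
    exact ⟨hu, left_inverts (mul_self_of_two hu) (mul_self_of_two hv)⟩
  · rintro t ⟨ht, htx⟩
    refine ⟨ht, two_of_mul_self ?_ (fun h => hx ?_), ?_⟩
    · have := mul_zpow_mul_self htx 1
      rwa [zpow_one, mul_self_of_two ht] at this
    · rw [eq_inv_of_mul_eq_one_right h, inv_of_two ht, sq_of_two ht]
    · change t * (t * x) = x
      rw [← mul_assoc, mul_self_of_two ht, one_mul]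
  · rintro ⟨u, v⟩ ⟨hu, hv, rfl⟩
    refine Prod.ext rfl ?_
    change u * (u * v) = v
    rw [← mul_assoc, mul_self_of_two hu, one_mul]

end Cfsg.Agent.S0235
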