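import Cfsg.Statements.S0233
import Cfsg.Agent.Lib.Invol.Classes
import Cfsg.Agent.S0238
import Cfsg.Agent.S0235
import Cfsg.Agent.S0237

set_option autoImplicit false
open Cfsg

namespace Cfsg.Agent.S0233
open Cfsg.Lib.Invol


/-- Let G be a finite group of even order with exactly n involutions whose centre has odd order, and put a = |G|/n. Then G has a proper subgroup H with |G : H| = 2 or |G : H| < a(a+1)/2; over ℕ the latter reads 2·|G:H|·n² < |G|·(|G| + n). -/
theorem result {G : Type*} [Group G] [Finite G] (heven : Even (Nat.card G)) (hZ : Odd (Nat.card (Subgroup.center G))) : ∃ H : Subgroup G, H ≠ ⊤ ∧ (H.index = 2 ∨ 2 * H.index * (Nat.card {t : G // orderOf t = 2}) ^ 2 < Nat.card G * (Nat.card G + Nat.card {t : G // orderOf t = 2})) := by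
  classical
  have := Fintype.ofFinite G
  by_cases h2 : ∃ H : Subgroup G, H.index = 2
  · obtain ⟨H, hH⟩ := h2
    exact ⟨H, fun h => by rw [h, Subgroup.index_top] at hH; omega, Or.inl hH⟩
  push Not at h2
  obtain ⟨t, ht⟩ := exists_two_of_even heven
  have hbot : (⊥ : Subgroup G) ≠ ⊤ := fun h => ne_one_of_two ht
    (Subgroup.mem_bot.mp (h ▸ Subgroup.mem_top t))
  have : Fintype (Subgroup G) := Fintype.ofFinite _
  obtain ⟨H, hH, hmax⟩ := Finset.exists_max_image (Finset.univ.filter fun H : Subgroup G => H ≠ ⊤)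
    (fun H => Nat.card H) ⟨⊥, by simpa using hbot⟩
  simp only [Finset.mem_filter, Finset.mem_univ, true_and] at hH hmax
  refine ⟨H, hH, Or.inr ?_⟩
  have hjh := H.index_mul_card
  have hh0 : 0 < Nat.card H := Nat.card_pos
  have hj0 : 0 < H.index := Nat.pos_of_ne_zero Subgroup.index_ne_zero_of_finite
  set h := Nat.card H
  set j := H.index
  set n := Nat.card {t : G // orderOf t = 2} with hn
  have hn0 : 0 < n := card_pos_of ht
  let c : G → ℕ := fun x =>
    Nat.card {p : G × G // orderOf p.1 = 2 ∧ orderOf p.2 = 2 ∧ p.1 * p.2 = x}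
  have hinv : ∀ x, orderOf x = 2 → c x + 2 ≤ h := by
    intro x hx
    refine ((Cfsg.Agent.S0238.result x).2.2 hx).trans (hmax _ fun e => ?_)
    rw [Subgroup.centralizer_eq_top_iff_subset] at e
    exact odd_card_iff.mp hZ x (e rfl) hx
  have hoth : ∀ x, x ≠ 1 → orderOf x ≠ 2 → 2 * c x ≤ h := by
    intro x hx1 hx2
    by_cases hr : IsConj x x⁻¹
    · have hne : x ≠ x⁻¹ := fun e => hx2 (two_of_mul_self (by nth_rewrite 2 [e]; simp) hx1)
      let K : Subgroup G :=
        { carrier := {g | g * x * g⁻¹ = x ∨ g * x * g⁻¹ = x⁻¹}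
          one_mem' := Or.inl (by simp)
          mul_mem' := by
            intro a b ha hb
            have e : ∀ y, a * b * y * (a * b)⁻¹ = a * (b * y * b⁻¹) * a⁻¹ := fun y => by group
            have e2 : a * x⁻¹ * a⁻¹ = (a * x * a⁻¹)⁻¹ := by group
            rcases hb with hb | hb <;> rcases ha with ha | ha <;>
              simp only [Set.mem_ofPred_eq, e, hb, e2, ha, inv_inv, true_or, or_true]
          inv_mem' := by
            intro a ha
            rcases ha with ha | ha
            · left
              calc a⁻¹ * x * a⁻¹⁻¹ = a⁻¹ * (a * x * a⁻¹) * a⁻¹⁻¹ := by rw [ha]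
                _ = x := by group
            · right
              calc a⁻¹ * x * a⁻¹⁻¹ = a⁻¹ * (a * x * a⁻¹)⁻¹ * a⁻¹⁻¹ := by rw [ha, inv_inv x]
                _ = x⁻¹ := by group }
      have hK : Nat.card K = 2 * Nat.card (Subgroup.centralizer ({x} : Set G)) := by
        have e1 := card_or_of_disjoint (fun g : G => g * x * g⁻¹ = x) (fun g => g * x * g⁻¹ = x⁻¹)
          (fun g h1 h2 => hne (h1.symm.trans h2))
        rw [Cfsg.Agent.S0237.result x hr, card_congr_iff (p := fun g : G => g * x * g⁻¹ = x) (q := fun g =>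
          g ∈ Subgroup.centralizer ({x} : Set G))
          (fun g => by rw [mem_cent, mul_inv_eq_iff_eq_mul]; rfl)] at e1
        rw [two_mul]; exact e1
      have hKt : K ≠ ⊤ := by
        intro e
        apply h2 (Subgroup.centralizer ({x} : Set G))
        rw [e, Subgroup.card_top, ← (Subgroup.centralizer ({x} : Set G)).index_mul_card] at hK
        exact Nat.eq_of_mul_eq_mul_right Nat.card_pos hK
      have := hmax K hKt
      have := (Cfsg.Agent.S0238.result x).1
      simp only [c]
      omega
    · simp only [c, (Cfsg.Agent.S0238.result x).2.1 hr]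
      omega
  have hone : c 1 ≤ n := by
    refine card_le_of_inj Prod.fst (fun p hp => hp.1) ?_
    rintro ⟨u, v⟩ ⟨u', v'⟩ ⟨-, -, h1⟩ ⟨-, -, h2⟩ h3
    simp only at h1 h2 h3
    subst h3
    rw [mul_left_cancel (h1.trans h2.symm)]
  have hsum : n * n = ∑ x, c x := by
    rw [hn, ← card_prod_and, card_eq_sum_fibers _ (fun p : G × G => p.1 * p.2)]
    exact Finset.sum_congr rfl fun x _ => card_congr_iff fun p => and_assoc
  have hle : ∑ x : G, (2 * c x + (if orderOf x = 2 then 4 else 0)) ≤
      ∑ x : G, ((if x = 1 then 2 * n else 0) + h + (if orderOf x = 2 then h else 0)) := by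
    refine Finset.sum_le_sum fun x _ => ?_
    by_cases hx1 : x = 1
    · subst hx1; simp; omega
    · by_cases hx2 : orderOf x = 2
      · have := hinv x hx2
        simp [hx1, hx2]; omega
      · have := hoth x hx1 hx2
        simp [hx1, hx2]; omega
  have hn' : (Finset.univ.filter fun x : G => orderOf x = 2).card = n := (card_eq_filter _).symm
  simp only [Finset.sum_add_distrib, Finset.sum_ite_eq', Finset.mem_univ, if_true] at hle
  simp only [← Finset.mul_sum, ← hsum, ← Finset.sum_filter,
    Finset.sum_const, hn', smul_eq_mul, Finset.card_univ, ← Nat.card_eq_fintype_card] at hle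
  have h1 : 2 * n ^ 2 < h * (Nat.card G + n) := by nlinarith
  calc 2 * j * n ^ 2 = j * (2 * n ^ 2) := by ring
    _ < j * (h * (Nat.card G + n)) := Nat.mul_lt_mul_of_pos_left h1 hj0
    _ = _ := by rw [← mul_assoc, hjh]

end Cfsg.Agent.S0233
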