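import Cfsg.Statements.S0232
import Cfsg.Agent.Lib.Invol.Classes
import Cfsg.Agent.S0233
import Cfsg.Agent.S0230
import Cfsg.Agent.S0219

set_option autoImplicit false
open Cfsg

namespace Cfsg.Agent.S0232
open Cfsg.Lib.Invol


/-- A finite group G of even order greater than 2 has a proper subgroup H with |G| < |H|^3. -/
theorem result {G : Type*} [Group G] [Finite G] (heven : Even (Nat.card G)) (hgt : 2 < Nat.card G) : ∃ H : Subgroup G, H ≠ ⊤ ∧ Nat.card G < (Nat.card H) ^ 3 := by
  induction hN : Nat.card G using Nat.strong_induction_on generalizing G with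
  | _ N ih =>
  subst hN
  have hidx : ∀ H : Subgroup G, H.index = 2 → ∃ H : Subgroup G, H ≠ ⊤ ∧
      Nat.card G < (Nat.card H) ^ 3 := by
    intro H hH
    refine ⟨H, fun h => by rw [h, Subgroup.index_top] at hH; omega, ?_⟩
    have := H.index_mul_card
    rw [hH] at this
    have h2 : 2 ≤ Nat.card H := by omega
    rw [← this]
    generalize Nat.card H = h at *
    nlinarith [Nat.mul_le_mul h2 h2]
  by_cases hZ : Odd (Nat.card (Subgroup.center G))
  · classical
    have := Fintype.ofFinite G
    obtain ⟨s, hs⟩ := exists_two_of_even heven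
    obtain ⟨t, ht, hmax⟩ := Finset.exists_max_image (Finset.univ.filter fun x : G => orderOf x = 2)
      (fun x => Nat.card (Subgroup.centralizer ({x} : Set G))) ⟨s, by simpa using hs⟩
    simp only [Finset.mem_filter, Finset.mem_univ, true_and] at ht hmax
    have hC : Subgroup.centralizer ({t} : Set G) ≠ ⊤ := fun e => by
      rw [Subgroup.centralizer_eq_top_iff_subset] at e
      exact odd_card_iff.mp hZ t (e rfl) ht
    by_cases hcl : ∀ s : G, orderOf s = 2 → IsConj s t
    · obtain ⟨H, hH, h | h⟩ := Cfsg.Agent.S0233.result heven hZ
      · exact hidx H h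
      · have h1 := card_isConj_mul t
        rw [card_congr_iff (q := fun s : G => orderOf s = 2) (fun s =>
          ⟨fun h => (orderOf_of_isConj h).symm.trans ht, fun h => (hcl s h).symm⟩)] at h1
        have hn0 : 0 < Nat.card {t : G // orderOf t = 2} := card_pos_of ht
        have hjh := H.index_mul_card
        have hh0 : 0 < Nat.card H := Nat.card_pos
        have ha0 : 0 < Nat.card (Subgroup.centralizer ({t} : Set G)) := Nat.card_pos
        have key : ∀ m, Nat.card (Subgroup.centralizer ({t} : Set G)) ≤ m → Nat.card H ≤ m →
            Nat.card G < m ^ 3 := by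
          intro m h2 h3
          generalize Nat.card (Subgroup.centralizer ({t} : Set G)) = a at *
          generalize Nat.card {t : G // orderOf t = 2} = n at *
          generalize Nat.card H = b at *
          generalize H.index = j at *
          rw [← h1] at h
          have h4 : 2 * j < a * (a + 1) := by
            apply Nat.lt_of_mul_lt_mul_right (a := n ^ 2)
            calc _ < _ := h
              _ = _ := by ring
          have h5 : j < m * m := by nlinarith
          rw [← hjh]
          calc j * b < m * m * b := Nat.mul_lt_mul_of_pos_right h5 hh0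
            _ ≤ m * m * m := Nat.mul_le_mul_left _ h3
            _ = _ := by ring
        rcases le_total (Nat.card H) (Nat.card (Subgroup.centralizer ({t} : Set G))) with h2 | h2
        · exact ⟨_, hC, key _ le_rfl h2⟩
        · exact ⟨_, hH, key _ h2 le_rfl⟩
    · push Not at hcl
      obtain ⟨s, hs, hst⟩ := hcl
      exact ⟨_, hC, Cfsg.Agent.S0230.result s t hs ht hst hmax⟩
  · obtain ⟨z, hzZ, hz⟩ := exists_two_mem_of_even (Nat.not_odd_iff_even.mp hZ)
    have hle : Subgroup.zpowers z ≤ Subgroup.center G := Subgroup.zpowers_le.mpr hzZ
    have hN : (Subgroup.zpowers z).Normal := ⟨fun a ha g => by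
      rwa [Subgroup.mem_center_iff.mp (hle ha) g, mul_inv_cancel_right]⟩
    have hc : Nat.card (Subgroup.zpowers z) = 2 := by rw [Nat.card_zpowers, hz]
    have h1 := (Subgroup.zpowers z).card_mul_index
    rw [hc, Subgroup.index_eq_card] at h1
    by_cases he : Even (Nat.card (G ⧸ Subgroup.zpowers z))
    · by_cases h2 : 2 < Nat.card (G ⧸ Subgroup.zpowers z)
      · obtain ⟨H, hH, hlt⟩ := ih _ (by omega) he h2 rfl
        have hi := Subgroup.index_comap_of_surjective H (QuotientGroup.mk'_surjective _)
        refine ⟨H.comap (QuotientGroup.mk' _), fun e => hH ?_, ?_⟩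
        · rwa [e, Subgroup.index_top, eq_comm, Subgroup.index_eq_one] at hi
        · have h3 := (H.comap (QuotientGroup.mk' (Subgroup.zpowers z))).index_mul_card
          have h4 := H.index_mul_card
          have hj0 : 0 < H.index := Nat.pos_of_ne_zero Subgroup.index_ne_zero_of_finite
          rw [hi, ← h1, ← h4, mul_left_comm] at h3
          rw [Nat.eq_of_mul_eq_mul_left hj0 h3, ← h1]
          nlinarith
      · refine hidx (Subgroup.zpowers z) ?_
        rw [Subgroup.index_eq_card]; omega
    · have := fact_two
      obtain ⟨P⟩ : Nonempty (Sylow 2 G) := inferInstance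
      have hP : Nat.card P = 2 := by
        rw [P.card_eq_multiplicity, ← h1, Nat.factorization_mul two_ne_zero Nat.card_pos.ne',
          Finsupp.add_apply, Nat.factorization_eq_zero_of_not_dvd
            (fun h => he (even_iff_two_dvd.mpr h))]
        simp [Nat.prime_two.factorization]
      obtain ⟨H, hH⟩ := Cfsg.Agent.S0219.result heven P (isCyclic_of_prime_card hP)
      exact hidx H hH

end Cfsg.Agent.S0232
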