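import Cfsg.Statements.S0234
import Cfsg.Agent.Lib.Invol.Classes
import Cfsg.Agent.S0233
import Cfsg.Agent.S0219
import Cfsg.Agent.S0228
import Mathlib.GroupTheory.SpecificGroups.Alternating
import Mathlib.GroupTheory.Solvable

set_option autoImplicit false
open Cfsg

namespace Cfsg.Agent.S0234
open Cfsg.Lib.Invol

theorem card_inv_five : Nat.card {σ : Equiv.Perm (Fin 5) //
    σ * σ = 1 ∧ σ ≠ 1 ∧ Equiv.Perm.sign σ = 1} = 15 := by
  rw [Nat.card_eq_fintype_card]
  decide +kernel

theorem card_inv_four : Nat.card {σ : alternatingGroup (Fin 4) // σ * σ = 1 ∧ σ ≠ 1} = 3 := by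
  rw [Nat.card_eq_fintype_card]
  decide +kernel

/-- In a finite simple group G of even order greater than 2, the number n of involutions satisfies 3n < |G|. -/
theorem result {G : Type*} [Group G] [Finite G] [IsSimpleGroup G] (heven : Even (Nat.card G)) (hgt : 2 < Nat.card G) : 3 * Nat.card {t : G // orderOf t = 2} < Nat.card G := by
  classical
  have := fact_two
  have hno : ∀ H : Subgroup G, H.index ≠ 2 := by
    intro H hH
    have := H.index_mul_card
    rcases (Subgroup.normal_of_index_eq_two hH).eq_bot_or_eq_top with h | h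
    · rw [hH, h, Subgroup.card_bot] at this; omega
    · rw [h, Subgroup.index_top] at hH; omega
  have hZ : Subgroup.center G = ⊥ := by
    refine (Subgroup.Normal.eq_bot_or_eq_top inferInstance).resolve_right fun h => ?_
    obtain ⟨t, ht⟩ := exists_two_of_even heven
    have hN : (Subgroup.zpowers t).Normal := ⟨fun a ha g => by
      have : a ∈ Subgroup.center G := h ▸ Subgroup.mem_top a
      rwa [Subgroup.mem_center_iff.mp this g, mul_inv_cancel_right]⟩
    have hc : Nat.card (Subgroup.zpowers t) = 2 := by rw [Nat.card_zpowers, ht]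
    rcases hN.eq_bot_or_eq_top with h | h
    · rw [h, Subgroup.card_bot] at hc; omega
    · rw [h, Subgroup.card_top] at hc; omega
  obtain ⟨H, hH, h | h⟩ := Cfsg.Agent.S0233.result heven (by rw [hZ, Subgroup.card_bot]; simp)
  · exact absurd h (hno H)
  by_contra hge
  push Not at hge
  set n := Nat.card {t : G // orderOf t = 2} with hn
  have hj : H.index ≤ 5 := by
    by_contra hc
    have : 6 ≤ H.index := by omega
    nlinarith [Nat.mul_le_mul hge hge, Nat.mul_le_mul this (le_refl (n ^ 2))]
  have hcore : H.normalCore = ⊥ :=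
    (H.normalCore_normal.eq_bot_or_eq_top).resolve_right fun h => hH (top_le_iff.mp
      (h ▸ H.normalCore_le))
  rw [Subgroup.normalCore_eq_ker, MonoidHom.ker_eq_bot_iff] at hcore
  have := Fintype.ofFinite (G ⧸ H)
  obtain ⟨e⟩ : Nonempty ((G ⧸ H) ↪ Fin 5) := Function.Embedding.nonempty_of_card_le (by
    rw [← Nat.card_eq_fintype_card, ← Subgroup.index_eq_card]; simpa using hj)
  let f : G →* Equiv.Perm (Fin 5) :=
    (Equiv.Perm.viaEmbeddingHom e).comp (MulAction.toPermHom G (G ⧸ H))
  have hf : Function.Injective f := (Equiv.Perm.viaEmbeddingHom_injective e).comp hcore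
  have hsign : ∀ g, Equiv.Perm.sign (f g) = 1 := by
    intro g
    by_contra hg
    obtain ⟨K, hK⟩ := exists_index_two_of_hom (Q := ℤˣ) (IsPGroup.of_card (n := 1) (by simp))
      (Equiv.Perm.sign.comp f) hg
    exact hno K hK
  have h15 : n ≤ 15 := by
    rw [← card_inv_five]
    refine card_le_of_inj f (fun t ht => ⟨by rw [← map_mul, mul_self_of_two ht, map_one],
      fun h => ne_one_of_two ht (hf (h.trans (map_one f).symm)), hsign t⟩) fun a b _ _ h => hf h
  have h60 : Nat.card G ∣ 60 := by
    have h1 := Subgroup.card_dvd_of_injective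
      (f.codRestrict (alternatingGroup (Fin 5)) (fun g => Equiv.Perm.mem_alternatingGroup.mpr
        (hsign g))) (fun a b h => hf (congrArg Subtype.val h))
    rwa [nat_card_alternatingGroup, Nat.card_fin] at h1
  have h4 : 4 ∣ Nat.card G := by
    by_contra h4
    obtain ⟨P⟩ : Nonempty (Sylow 2 G) := inferInstance
    obtain ⟨m, hm⟩ := heven
    have hP : Nat.card P = 2 := by
      rw [P.card_eq_multiplicity, hm, ← two_mul, Nat.factorization_mul two_ne_zero (by omega),
        Finsupp.add_apply, Nat.factorization_eq_zero_of_not_dvd (n := m) (by omega)]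
      simp [Nat.prime_two.factorization]
    obtain ⟨K, hK⟩ := Cfsg.Agent.S0219.result ⟨m, hm⟩ P (isCyclic_of_prime_card hP)
    exact hno K hK
  -- a normal Sylow subgroup is impossible
  have hsyl : ∀ (p : ℕ) [Fact p.Prime] (P : Sylow p G), p ∣ Nat.card G →
      (∀ k, Nat.card G ≠ p ^ k) → ¬ (P : Subgroup G).Normal := by
    intro p _ P hp hk hN
    rcases hN.eq_bot_or_eq_top with h | h
    · exact P.ne_bot_of_dvd_card hp h
    · obtain ⟨k, hk'⟩ := P.2.exists_card_eq
      rw [h, Subgroup.card_top] at hk'
      exact hk k hk'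
  have hcases : Nat.card G = 4 ∨ Nat.card G = 12 ∨ Nat.card G = 20 := by
    have : Nat.card G ≤ 45 := by omega
    obtain ⟨a, ha⟩ := h4
    obtain ⟨b, hb⟩ := h60
    rw [ha] at this hb ⊢
    have : a ≤ 11 := by omega
    interval_cases a <;> omega
  rcases hcases with h | h | h
  · have hp : IsPGroup 2 G := IsPGroup.of_card (n := 2) h
    obtain ⟨K, hK⟩ := exists_index_two_of_isPGroup hp
    exact hno K hK
  · obtain ⟨e⟩ := Cfsg.Agent.S0228.result h (fun z hz hzZ => ne_one_of_two hz (by
      rwa [hZ, Subgroup.mem_bot] at hzZ))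
    have h3 : n ≤ 3 := by
      rw [← card_inv_four]
      refine card_le_of_inj e (fun t ht => ⟨by rw [← map_mul, mul_self_of_two ht, map_one],
        fun h => ne_one_of_two ht (e.injective (h.trans (map_one e).symm))⟩)
        fun a b _ _ h => e.injective h
    omega
  · have h5 : Fact (Nat.Prime 5) := ⟨Nat.prime_five⟩
    obtain ⟨P⟩ : Nonempty (Sylow 5 G) := inferInstance
    refine hsyl 5 P (by rw [h]; norm_num) (fun k hk => ?_) ?_
    · rw [h] at hk
      have : 2 ∣ 5 ^ k := hk ▸ by norm_num
      have := Nat.prime_two.dvd_of_dvd_pow this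
      omega
    · have h1 := card_sylow_modEq_one 5 G
      have h2 := P.card_dvd_index
      have h3 := P.1.card_mul_index
      have h4 : 5 ∣ Nat.card P := P.dvd_card_of_dvd_card (by rw [h]; norm_num)
      have h6 : P.1.index ≤ 4 := by
        have := Nat.le_of_dvd Nat.card_pos h4
        change Nat.card P * _ = _ at h3
        nlinarith
      have h7 := Nat.le_of_dvd (Nat.pos_of_ne_zero Subgroup.index_ne_zero_of_finite) h2
      have h8 : Nat.card (Sylow 5 G) = 1 := by unfold Nat.ModEq at h1; omega
      have := (Nat.card_eq_one_iff_unique.mp h8).1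
      exact Sylow.normal_of_subsingleton P

end Cfsg.Agent.S0234
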