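import Cfsg.Statements.S0239
import Mathlib.GroupTheory.OrderOfElement
import Mathlib.Tactic

set_option autoImplicit false
open Cfsg

namespace Cfsg.Agent.S0239

/-- If some nontrivial element x of a finite group G is conjugate to x⁻¹, then |G| is even. -/
theorem result {G : Type*} [Group G] [Finite G] (x : G) (hx : x ≠ 1) (hreal : IsConj x x⁻¹) : Even (Nat.card G) := by
  by_contra hodd
  rw [Nat.not_even_iff_odd] at hodd
  obtain ⟨g, hg⟩ := isConj_iff.mp hreal
  have h2 : ∀ k : ℕ, (g ^ 2) ^ k * x * ((g ^ 2) ^ k)⁻¹ = x := by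
    intro k
    have h1 : g ^ 2 * x * (g ^ 2)⁻¹ = x := by
      have : g ^ 2 * x * (g ^ 2)⁻¹ = g * (g * x * g⁻¹) * g⁻¹ := by rw [sq]; group
      rw [this, hg]
      have : g * x⁻¹ * g⁻¹ = (g * x * g⁻¹)⁻¹ := by group
      rw [this, hg, inv_inv]
    have hc : Commute (g ^ 2) x := by
      rw [Commute, SemiconjBy]; rw [mul_inv_eq_iff_eq_mul] at h1; exact h1
    rw [(hc.pow_left k).eq]; group
  obtain ⟨m, hm⟩ := hodd
  have hg1 : g ^ (2 * m + 1) = 1 := by rw [← hm]; exact pow_card_eq_one'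
  have hg2 : g = (g ^ 2) ^ (m + 1) := by
    rw [← pow_mul, show 2 * (m + 1) = (2 * m + 1) + 1 by ring, pow_succ, hg1, one_mul]
  have h3 : x = x⁻¹ := by rw [← hg]; conv_rhs => rw [hg2]
                          exact (h2 _).symm
  have hx1 : x ^ (2 * m + 1) = 1 := by rw [← hm]; exact pow_card_eq_one'
  have hx2 : x ^ 2 = 1 := by rw [sq]; nth_rewrite 1 [h3]; simp
  rw [pow_succ, pow_mul, hx2, one_pow, one_mul] at hx1
  exact hx hx1

end Cfsg.Agent.S0239
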