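import Cfsg.Statements.S0240
import Cfsg.Agent.Lib.Invol.Sylow2
import Cfsg.Agent.Lib.Invol.Count

set_option autoImplicit false
open Cfsg

namespace Cfsg.Agent.S0240
open Cfsg.Lib.Invol


/-- Let G be a finite group with n involutions and H a subgroup with |H|·(n+1) > |G|. Then some nontrivial h ∈ H is strongly real in G: an involution t of G satisfies t h t⁻¹ = h⁻¹. -/
theorem result {G : Type*} [Group G] [Finite G] (H : Subgroup G) (hH : Nat.card G < Nat.card H * (Nat.card {t : G // orderOf t = 2} + 1)) : ∃ h : G, h ∈ H ∧ h ≠ 1 ∧ ∃ t : G, orderOf t = 2 ∧ t * h * t⁻¹ = h⁻¹ := by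
  by_contra hc
  push Not at hc
  -- the map `t ↦ tH` is injective on the elements with `t² = 1`
  have hinj : ∀ s t : G, s * s = 1 → t * t = 1 → (s : G ⧸ H) = t → s = t := by
    intro s t hs ht hst
    by_contra hne
    rw [QuotientGroup.eq, inv_eq_of_mul_eq_one_right hs] at hst
    have hne1 : s * t ≠ 1 := fun h => hne (by
      rw [eq_inv_of_mul_eq_one_left h, inv_eq_of_mul_eq_one_right ht])
    by_cases hs1 : s = 1
    · subst hs1
      exact hc _ hst hne1 t (two_of_mul_self ht (Ne.symm hne)) (right_inverts hs ht)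
    · exact hc _ hst hne1 s (two_of_mul_self hs hs1) (left_inverts hs ht)
  have h1 : Nat.card {t : G // t * t = 1} ≤ Nat.card {_c : G ⧸ H // True} :=
    card_le_of_inj (fun t : G => (t : G ⧸ H)) (fun _ _ => trivial) hinj
  rw [card_true, ← Subgroup.index_eq_card, card_remove (p := fun t : G => t * t = 1) (a := 1)
    (mul_one 1), card_congr_iff (q := fun t : G => orderOf t = 2) (fun t => two_iff.symm)] at h1
  rw [← H.card_mul_index] at hH
  exact absurd (Nat.mul_le_mul_left (Nat.card H) h1) (not_le.mpr hH)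

end Cfsg.Agent.S0240
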