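import Cfsg.Statements.S0241
import Cfsg.Agent.Lib.Invol.Sylow2

set_option autoImplicit false
open Cfsg

namespace Cfsg.Agent.S0241
open Cfsg.Lib.Invol


/-- If x ≠ 1 is conjugate to x⁻¹ in a finite group G and |C_G(x)| is odd, then some involution t satisfies t x t⁻¹ = x⁻¹. -/
theorem result {G : Type*} [Group G] [Finite G] (x : G) (hx : x ≠ 1) (hreal : IsConj x x⁻¹) (hodd : Odd (Nat.card (Subgroup.centralizer ({x} : Set G)))) : ∃ t : G, orderOf t = 2 ∧ t * x * t⁻¹ = x⁻¹ := by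
  obtain ⟨g, hg⟩ := isConj_iff.mp hreal
  have hxodd : Odd (orderOf x) := odd_orderOf_of_mem hodd (mem_cent.mpr (Commute.refl x))
  have hg2 : g * g ∈ Subgroup.centralizer ({x} : Set G) := by
    rw [mem_cent]
    have h1 : g * x⁻¹ * g⁻¹ = x := by
      rw [show g * x⁻¹ * g⁻¹ = (g * x * g⁻¹)⁻¹ by group, hg, inv_inv]
    calc g * g * x = g * (g * x * g⁻¹) * g⁻¹ * (g * g) := by group
      _ = x * (g * g) := by rw [hg, h1]
  obtain ⟨m, hm⟩ := odd_orderOf_of_mem hodd hg2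
  have h1 : (g * g) ^ (2 * m + 1) = 1 := by rw [← hm]; exact pow_orderOf_eq_one _
  have hc : Commute ((g * g) ^ m) x := (mem_cent.mp hg2).pow_left m
  have hinv : g ^ (2 * m + 1) * x * (g ^ (2 * m + 1))⁻¹ = x⁻¹ := by
    rw [pow_succ', pow_mul, sq]
    calc g * (g * g) ^ m * x * (g * (g * g) ^ m)⁻¹
        = g * ((g * g) ^ m * x) * ((g * g) ^ m)⁻¹ * g⁻¹ := by group
      _ = g * x * g⁻¹ := by rw [hc.eq]; group
      _ = x⁻¹ := hg
  refine ⟨g ^ (2 * m + 1), two_of_mul_self ?_ (fun h => hx ?_), hinv⟩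
  · rw [← (Commute.refl g).mul_pow, h1]
  · rw [h, one_mul, inv_one, mul_one] at hinv
    rw [← orderOf_eq_one_iff]
    have h2 : x ^ 2 = 1 := by rw [sq]; nth_rewrite 1 [hinv]; simp
    exact Nat.eq_one_of_dvd_coprimes (Nat.coprime_two_left.mpr hxodd)
      (orderOf_dvd_of_pow_eq_one h2) dvd_rfl

end Cfsg.Agent.S0241
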