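import Cfsg.Statements.S0257
import Cfsg.Agent.Lib.Linear.PSL2Small
import Cfsg.Agent.Lib.Linear.Tv

set_option autoImplicit false
open Cfsg

namespace Cfsg.Agent.S0257

open Cfsg.Lib.Linear

/-- SL_2(3) has a normal subgroup of index 3 isomorphic to the quaternion group of order 8, and its centre has order 2. -/
theorem result {F : Type*} [Field F] [Fintype F] (hF : Fintype.card F = 3) : (∃ Q : Subgroup (Matrix.SpecialLinearGroup (Fin 2) F), Q.Normal ∧ Q.index = 3 ∧ Nonempty (Q ≃* QuaternionGroup 2)) ∧ Nat.card (Subgroup.center (Matrix.SpecialLinearGroup (Fin 2) F)) = 2 := by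
  have hF' : Nat.card F = 3 := by rw [Nat.card_eq_fintype_card, hF]
  have hZ : Nat.card (Subgroup.center (Matrix.SpecialLinearGroup (Fin 2) F)) = 2 := by
    rw [card_center_SL, hF']; rfl
  refine ⟨?_, hZ⟩
  have hG : Nat.card (Matrix.SpecialLinearGroup (Fin 2) F) = 24 := by
    rw [card_SL_two, hF']
  have h2 : (2 : F) ≠ 0 := by
    intro h
    have : ringChar F = 2 := CharP.ringChar_of_prime_eq_zero Nat.prime_two (by exact_mod_cast h)
    rw [FiniteField.even_card_iff_char_two, hF] at this
    exact absurd this (by decide)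
  obtain ⟨e⟩ := psl2_three_equiv hF'
  obtain ⟨φ, hφ⟩ := exists_hom_quaternion_two h2
  have h4 : Nat.card (Fin 4) = 4 := by simp
  haveI := alternatingGroup.normal_kleinFour h4
  let π : Matrix.SpecialLinearGroup (Fin 2) F →* alternatingGroup (Fin 4) :=
    e.toMonoidHom.comp (QuotientGroup.mk' _)
  have hπ : Function.Surjective π := e.surjective.comp (QuotientGroup.mk'_surjective _)
  have hV : (alternatingGroup.kleinFour (Fin 4)).index = 3 := by
    have := (alternatingGroup.kleinFour (Fin 4)).card_mul_index
    rw [alternatingGroup.kleinFour_card_of_card_eq_four h4, card_A4] at this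
    omega
  have hN : ((alternatingGroup.kleinFour (Fin 4)).comap π).index = 3 := by
    rw [Subgroup.index_comap_of_surjective _ hπ, hV]
  refine ⟨(alternatingGroup.kleinFour (Fin 4)).comap π, inferInstance, hN, ?_⟩
  have hc : Nat.card ((alternatingGroup.kleinFour (Fin 4)).comap π) = 8 := by
    have := ((alternatingGroup.kleinFour (Fin 4)).comap π).card_mul_index
    rw [hN, hG] at this
    omega
  have hP : IsPGroup 2 φ.range := isPGroup_quaternion_two.of_surjective _ φ.rangeRestrict_surjective
  obtain ⟨g, hg⟩ := exists_conj_mem_of_not_dvd_index (C := (alternatingGroup.kleinFour (Fin 4)).comap π)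
    hP (by rw [hN]; decide)
  have hle : φ.range ≤ (alternatingGroup.kleinFour (Fin 4)).comap π := fun u hu => by
    have := (inferInstance : ((alternatingGroup.kleinFour (Fin 4)).comap π).Normal).conj_mem _
      (hg u hu) g
    simpa [mul_assoc] using this
  have hr : Nat.card φ.range = 8 := by
    rw [← Nat.card_congr (MonoidHom.ofInjective hφ).toEquiv, Nat.card_eq_fintype_card,
      QuaternionGroup.card]
  have heq : φ.range = (alternatingGroup.kleinFour (Fin 4)).comap π :=
    Subgroup.eq_of_le_of_card_ge hle (by rw [hc, hr])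
  exact ⟨(MulEquiv.subgroupCongr heq.symm).trans (MonoidHom.ofInjective hφ).symm⟩

end Cfsg.Agent.S0257
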