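import Cfsg.Statements.S0267
import Cfsg.Agent.Lib.Linear.SL2Sub

set_option autoImplicit false
open Cfsg

namespace Cfsg.Agent.S0267

open Cfsg.Lib.Linear Cfsg.Lib.Linear.PL MulAction

/-- SL_2(q) is 3-transitive on the q+1 points of the projective line if and only if q is even. -/
theorem result {F : Type*} [Field F] [Fintype F] : MulAction.IsMultiplyPretransitive (Matrix.SpecialLinearGroup (Fin 2) F) (Projectivization F (Fin 2 → F)) 3 ↔ ringChar F = 2 := by
  constructor
  · intro h
    by_contra hc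
    obtain ⟨a, ha⟩ := FiniteField.exists_nonsquare (F := F) hc
    have ha0 : a ≠ 0 := fun h0 => ha (h0 ▸ IsSquare.zero)
    rw [isMultiplyPretransitive_iff] at h
    have inj : ∀ z : F, z ≠ 0 → Function.Injective (![inf, pt 0, pt z] : Fin 3 → PL F) := by
      intro z hz i j hij
      fin_cases i <;> fin_cases j <;>
        simp_all [pt_ne_inf, inf_ne_pt, pt_inj, eq_comm]
    obtain ⟨g, hg⟩ := h ⟨_, inj 1 one_ne_zero⟩ ⟨_, inj a ha0⟩
    have h0 : g • (inf : PL F) = inf := congrArg (fun e : Fin 3 ↪ PL F => e 0) hg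
    have h1 : g • (pt 0 : PL F) = pt 0 := congrArg (fun e : Fin 3 ↪ PL F => e 1) hg
    have h2 : g • (pt 1 : PL F) = pt a := congrArg (fun e : Fin 3 ↪ PL F => e 2) hg
    rw [← sl_toPGL_smul] at h0 h1 h2
    rw [sl_smul_inf_eq_inf] at h0
    rw [sl_smul_pt_eq_pt] at h1 h2
    have hd := sl2_det g
    rw [h0] at h1 h2 hd
    exact ha ⟨g 0 0, by linear_combination (-a) * hd - g 0 0 * h2 + g 0 0 * h1⟩
  · intro hc
    have hs : Function.Surjective
        (Matrix.SpecialLinearGroup.toPGL : Matrix.SpecialLinearGroup (Fin 2) F → PGL2 F) := by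
      intro g
      obtain ⟨a, b, c, d, h, rfl⟩ := exists_mat g
      obtain ⟨u, hu⟩ := FiniteField.isSquare_of_char_two hc (a * d - b * c)
      have hu0 : u ≠ 0 := fun h0 => h (by rw [hu, h0, mul_zero])
      refine ⟨slMat (a / u) (b / u) (c / u) (d / u) (by field_simp; linear_combination hu), ?_⟩
      rw [sl_toPGL_eq_mat, mat_eq_mat_iff]
      exact ⟨u, hu0, by simp [slMat, hu0], by simp [slMat, hu0], by simp [slMat, hu0],
        by simp [slMat, hu0]⟩
    have h3 := pgl2_three_pretransitive (K := F)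
    rw [isMultiplyPretransitive_iff] at h3 ⊢
    intro x y
    obtain ⟨g, hg⟩ := h3 x y
    obtain ⟨g, rfl⟩ := hs g
    refine ⟨g, ?_⟩
    ext i
    rw [← hg]
    exact (sl_toPGL_smul g (x i)).symm

end Cfsg.Agent.S0267
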