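import Cfsg.Statements.S0268
import Mathlib

set_option autoImplicit false
open Cfsg

namespace Cfsg.Agent.S0268

/-- For q odd, -1 is the unique involution of SL_2(q). -/
theorem result {F : Type*} [Field F] [Fintype F] (hF : Odd (Fintype.card F)) (g : Matrix.SpecialLinearGroup (Fin 2) F) (h1 : g ≠ 1) (h2 : g * g = 1) : (g : Matrix (Fin 2) (Fin 2) F) = -1 := by
  have h2' : (2 : F) ≠ 0 := by
    intro h
    have : ringChar F = 2 := CharP.ringChar_of_prime_eq_zero Nat.prime_two (by exact_mod_cast h)
    rw [FiniteField.even_card_iff_char_two, ← Nat.even_iff] at this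
    exact (Nat.not_even_iff_odd.2 hF) this
  obtain ⟨M, hM⟩ := g
  have h3 : M * M = 1 := congrArg Subtype.val h2
  have h4 : M ≠ 1 := fun h => h1 (Subtype.ext h)
  rw [Matrix.det_fin_two] at hM
  have e00 := congrFun (congrFun h3 0) 0
  have e01 := congrFun (congrFun h3 0) 1
  have e10 := congrFun (congrFun h3 1) 0
  have e11 := congrFun (congrFun h3 1) 1
  simp [Matrix.mul_apply] at e00 e01 e10 e11
  have ht : M 0 0 + M 1 1 ≠ 0 := by
    intro ht
    apply h2'
    have : M 1 1 = - M 0 0 := by linear_combination ht
    rw [this] at hM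
    linear_combination -hM - e00
  have hb : M 0 1 = 0 := by
    apply mul_left_cancel₀ ht; linear_combination e01
  have hc : M 1 0 = 0 := by
    apply mul_left_cancel₀ ht; linear_combination e10
  have had : M 0 0 = M 1 1 := by
    apply mul_left_cancel₀ ht; linear_combination e00 - e11
  have ha : M 0 0 = -1 := by
    have : (M 0 0 - 1) * (M 0 0 + 1) = 0 := by rw [hb] at e00; linear_combination e00
    rcases mul_eq_zero.1 this with h | h
    · exfalso; apply h4
      have h' : M 0 0 = 1 := by linear_combination h
      ext i j; fin_cases i <;> fin_cases j <;> simp [hb, hc, ← had, h']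
    · linear_combination h
  ext i j; fin_cases i <;> fin_cases j <;> simp [hb, hc, ← had, ha]

end Cfsg.Agent.S0268
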