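import Cfsg.Statements.S0275
import Cfsg.Agent.Lib.Linear.SL2Sub

set_option autoImplicit false
open Cfsg

namespace Cfsg.Agent.S0275

/-- If p is odd and H is a subgroup of SL_2(q), q a power of p, with more than one Sylow p-subgroup, then the Sylow 2-subgroups of H are generalised quaternion. -/
theorem result {F : Type*} [Field F] [Fintype F] (p : ℕ) [Fact p.Prime] [CharP F p] (hp : p ≠ 2) (H : Subgroup (Matrix.SpecialLinearGroup (Fin 2) F)) (hH : 1 < Nat.card (Sylow p H)) (S : Sylow 2 H) : ∃ k : ℕ, 1 ≤ k ∧ Nonempty ((S : Subgroup H) ≃* QuaternionGroup (2 ^ k)) := by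
  have h2 : ∀ (L : Type _) [Field L] [CharP L p], (2 : L) ≠ 0 := fun L _ _ h =>
    hp ((Nat.prime_dvd_prime_iff_eq Fact.out Nat.prime_two).1
      ((CharP.cast_eq_zero_iff L p 2).1 (by exact_mod_cast h)))
  have h2' : (2 : ZMod p) ≠ 0 := fun h =>
    hp ((Nat.prime_dvd_prime_iff_eq Fact.out Nat.prime_two).1
      ((CharP.cast_eq_zero_iff (ZMod p) p 2).1 (by exact_mod_cast h)))
  obtain ⟨M, hM, ⟨e⟩⟩ := Cfsg.Lib.Linear.exists_sl2_prime_le p hp H hH
  obtain ⟨φ, hφ⟩ := Cfsg.Lib.Linear.exists_hom_quaternion_two h2'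
  exact Cfsg.Lib.Linear.sl2_sylow_two_quaternion_of_hom (h2 F)
    ((Subgroup.inclusion hM).comp (e.symm.toMonoidHom.comp φ))
    ((Subgroup.inclusion_injective hM).comp (e.symm.injective.comp hφ)) S

end Cfsg.Agent.S0275
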