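import Cfsg.Statements.S0276
import Cfsg.Agent.Lib.Linear.PSL2Sub

set_option autoImplicit false
open Cfsg

namespace Cfsg.Agent.S0276

/-- For q = 3 or 5 mod 8 the Sylow 2-subgroups of PSL_2(q) are elementary abelian of order 4. -/
theorem result {F : Type*} [Field F] [Fintype F] {q : ℕ} (hF : Fintype.card F = q) (hq : q % 8 = 3 ∨ q % 8 = 5) (P : Sylow 2 (Matrix.ProjectiveSpecialLinearGroup (Fin 2) F)) : IsKleinFour (P : Subgroup (Matrix.ProjectiveSpecialLinearGroup (Fin 2) F)) := by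
  have h1 : ¬ IsSquare (2 : F) := by rw [FiniteField.isSquare_two_iff, hF]; omega
  rw [← Nat.card_eq_fintype_card] at hF
  have h2 := Cfsg.Lib.Linear.card_PSL_two_of_odd (F := F) (by rw [hF, Nat.odd_iff]; omega)
  rw [hF] at h2
  have h4 : Nat.card P = 2 ^ 2 := by
    obtain ⟨k, rfl | rfl⟩ : ∃ k, q = 8 * k + 3 ∨ q = 8 * k + 5 := ⟨q / 8, by omega⟩
    · refine Cfsg.Lib.Linear.card_sylow_of_eq P (m := (8 * k + 3) * ((4 * k + 1) * (2 * k + 1)))
        (Nat.eq_of_mul_eq_mul_left two_pos (h2.trans (by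
          rw [show 8 * k + 3 - 1 = 8 * k + 2 by omega]; ring))) ?_
      simp only [Nat.prime_two.dvd_mul]
      omega
    · refine Cfsg.Lib.Linear.card_sylow_of_eq P (m := (8 * k + 5) * ((4 * k + 3) * (2 * k + 1)))
        (Nat.eq_of_mul_eq_mul_left two_pos (h2.trans (by
          rw [show 8 * k + 5 - 1 = 8 * k + 4 by omega]; ring))) ?_
      simp only [Nat.prime_two.dvd_mul]
      omega
  have : Nontrivial P := Finite.one_lt_card_iff_nontrivial.1 (by omega)
  refine ⟨h4, (Monoid.exponent_eq_prime_iff Nat.prime_two).2 fun g hg => orderOf_eq_prime ?_ hg⟩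
  obtain ⟨x, hx⟩ := QuotientGroup.mk_surjective g.1
  have h5 : (x : Cfsg.Lib.Linear.PSL2 F) ^ 4 = 1 := by
    rw [hx]
    exact congrArg Subtype.val (h4 ▸ pow_card_eq_one' : g ^ 2 ^ 2 = 1)
  apply Subtype.ext
  rw [Subgroup.coe_pow, ← hx]
  refine Cfsg.Lib.Linear.psl2_sq_eq_one_iff.2
    ((Cfsg.Lib.Linear.psl2_pow_four_eq_one_iff.1 h5).imp_left fun h => ?_)
  exact (mul_eq_zero.1 h).resolve_right fun h => h1 ⟨Cfsg.Lib.Linear.tr2 x, by linear_combination -h⟩

end Cfsg.Agent.S0276
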