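import Cfsg.Statements.S0282
import Cfsg.Agent.Lib.Forms.Small

set_option autoImplicit false
open Cfsg

namespace Cfsg.Agent.S0282

open Cfsg.Lib.Forms Module



/-- PSU_3(2) is a solvable group of order 72. -/
theorem result {F : Type*} [Field F] [Fintype F] (hF : Fintype.card F = 4) : Nat.card (Cfsg.PSU 3 F 2) = 72 ∧ Group.IsSolvable (Cfsg.PSU 3 F 2) := by
  obtain ⟨σ, h⟩ := isConj_of_card (q := 2) hF
  obtain ⟨h1, N, hN, h2, -, ⟨e⟩⟩ := psu32_structure (stdHerm_nondeg h (Fin 3)) (by simp)
  refine ⟨(Nat.card_congr (psuEquiv h 3).toEquiv).trans h1, ?_⟩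
  have : Fact (Nat.Prime 3) := ⟨Nat.prime_three⟩
  have : Finite N := Nat.finite_of_card_ne_zero (by omega)
  have := (IsPGroup.of_card (p := 3) (n := 2) h2).isNilpotent
  have := (IsPGroup.of_card (G := QuaternionGroup 2) (p := 2) (n := 3)
    (by rw [Nat.card_eq_fintype_card, QuaternionGroup.card]; rfl)).isNilpotent
  have := Group.isSolvable_of_isSolvable_injective (f := e.toMonoidHom) e.injective
  have := Group.isSolvable_of_ker_le_range N.subtype (QuotientGroup.mk' N) (by simp)
  exact Group.isSolvable_of_isSolvable_injective (f := (psuEquiv h 3).toMonoidHom) (psuEquiv h 3).injective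

end Cfsg.Agent.S0282
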