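import Cfsg.Statements.S0289
import Cfsg.Agent.Lib.Forms.Quad

set_option autoImplicit false
open Cfsg

namespace Cfsg.Agent.S0289

open Cfsg.Lib.Forms



/-- The hyperbolic quadratic form on F^(2m), m at least 1, has q^(2m-1) + q^m - q^(m-1) zeros (that is, (q^m - 1)(q^(m-1) + 1) non-zero isotropic vectors). -/
theorem result {F : Type*} [Field F] [Fintype F] {q : ℕ} (hF : Fintype.card F = q) (m : ℕ) (hm : 1 ≤ m) : Nat.card {v : Fin m ⊕ Fin m → F // Cfsg.quadFormPlus m F v = 0} = q ^ (2 * m - 1) + q ^ m - q ^ (m - 1) := by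
  rw [← Nat.card_eq_fintype_card] at hF
  subst hF
  obtain ⟨m, rfl⟩ := Nat.exists_eq_add_of_le' hm
  refine (Quad.card_Q_eq_zero_plus (fPlus_nondeg _) (finrank_plus _) (fPlus_hasTS _)).trans ?_
  have h1 : 1 ≤ Nat.card F ^ (m + 1) := Nat.one_le_pow _ _ Nat.card_pos
  have h2 : Nat.card F ^ m ≤ Nat.card F ^ (m + 1) := Nat.pow_le_pow_right Nat.card_pos (by omega)
  rw [show 2 * (m + 1) - 1 = m + 1 + m by omega, pow_add _ (m + 1) m, Nat.add_sub_cancel,
    Nat.add_sub_assoc h2]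
  zify [h1, h2]; ring

end Cfsg.Agent.S0289
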