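import Cfsg.Statements.S0307
import Cfsg.Agent.Lib.Linear.OutPSL

set_option autoImplicit false
open Cfsg

namespace Cfsg.Agent.S0307

/-- PSL_n(q) is normal in PGL_n(q) with cyclic quotient of order gcd(n, q-1): the image of the natural map PSL_n → PGL_n is the kernel of a surjective homomorphism onto the cyclic group of that order. -/
theorem result {F : Type*} [Field F] [Fintype F] {q : ℕ} (hF : Fintype.card F = q) (n : ℕ) (hn : 1 ≤ n) : ∃ g : Matrix.ProjGenLinGroup (Fin n) F →* Multiplicative (ZMod (Nat.gcd n (q - 1))), Function.Surjective g ∧ g.ker = (Matrix.ProjectiveSpecialLinearGroup.toPGL : Matrix.ProjectiveSpecialLinearGroup (Fin n) F →* Matrix.ProjGenLinGroup (Fin n) F).range := by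
  open Cfsg.Lib.Linear Matrix in
  have : Nonempty (Fin n) := ⟨⟨0, hn⟩⟩
  have hc := isCyclic_detMod_target (ι := Fin n) (F := F)
  have h1 := card_detMod_target (ι := Fin n) (F := F)
  have h2 := h1.trans (show _ = Nat.gcd n (q - 1) by
    rw [Nat.card_eq_fintype_card, hF, Fintype.card_fin])
  have e := (zmodCyclicMulEquiv hc).symm
  rw [h2] at e
  obtain ⟨χ, hχ⟩ := Cfsg.Lib.CAut.exists_lift ProjGenLinGroup.mk (detMod (Fin n) F)
    ProjGenLinGroup.mk_surjective (fun g hg => by
      obtain ⟨u, rfl⟩ := gl_mem_center_iff.1 (ProjGenLinGroup.mk_eq_one.1 hg)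
      exact mem_ker_detMod.2 ⟨1, u, by simp⟩)
  refine ⟨e.toMonoidHom.comp χ, e.surjective.comp fun x => ?_, ?_⟩
  · obtain ⟨g, rfl⟩ := detMod_surjective x
    exact ⟨_, hχ g⟩
  · ext x
    obtain ⟨g, rfl⟩ := ProjGenLinGroup.mk_surjective x
    have : ProjGenLinGroup.mk g ∈ (e.toMonoidHom.comp χ).ker ↔ g ∈ (detMod (Fin n) F).ker := by
      simp [hχ]
    rw [this, mem_ker_detMod]
    constructor
    · rintro ⟨s, u, rfl⟩
      exact ⟨s, by simp⟩
    · rintro ⟨y, hy⟩
      induction y using QuotientGroup.induction_on with | H s => ?_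
      obtain ⟨u, hu⟩ := ProjGenLinGroup.mk_eq_mk_iff.1 hy
      exact ⟨s, u, hu.symm⟩

end Cfsg.Agent.S0307
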