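import Cfsg.Statements.S0316
import Cfsg.Agent.Lib.BN.Parabolic

set_option autoImplicit false
open Cfsg

namespace Cfsg.Agent.S0316

open Cfsg.Lib.BN

/-- The map `J ↦ P_J` is a lattice isomorphism from the power set of the set of distinguished generators onto the
subgroups containing `B`. -/
theorem result {G : Type*} [Group G] (P : Cfsg.BNPair G) :
    ∃ e : Set P.S ≃o {M : Subgroup G // P.B ≤ M},
      ∀ J : Set P.S, ((e J : {M : Subgroup G // P.B ≤ M}) : Subgroup G) = P.parabolic (Subtype.val '' J) := by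
  have hsub : ∀ J : Set P.S, (Subtype.val '' J) ⊆ P.S := fun J => Subtype.coe_image_subset _ J
  refine ⟨⟨⟨fun J => ⟨P.parabolic (Subtype.val '' J), B_le_parabolic P _⟩,
    fun M => {s | (s : G) ∈ M.1}, fun J => ?_, fun M => ?_⟩, ?_⟩, fun J => rfl⟩
  · ext s
    simp only [Set.mem_ofPred_eq]
    rw [mem_parabolic_iff_of_mem_S P (hsub J) s.2]
    simp
  · apply Subtype.ext
    simp only
    conv_rhs => rw [eq_parabolic_of_le P M.2]
    congr 1
    ext s
    simp [and_comm]
  · intro J K
    simp only [Equiv.coe_fn_mk, Subtype.mk_le_mk]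
    refine ⟨fun h s hs => ?_, fun h => parabolic_mono P (Set.image_mono h)⟩
    have := (mem_parabolic_iff_of_mem_S P (hsub K) s.2).1 (h (subset_parabolic P _ ⟨s, hs, rfl⟩))
    simpa using this

end Cfsg.Agent.S0316
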