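import Cfsg.Statements.S0321
import Cfsg.Agent.Lib.BN.Parabolic

set_option autoImplicit false
open Cfsg

namespace Cfsg.Agent.S0321

open Cfsg.Lib.BN

/-- For `n ∈ N` not in `B`, the union `B ∪ B n B` is (the underlying set of) a subgroup exactly when `n` agrees
modulo `B ⊓ N` with one of the distinguished representatives; thus the distinguished involutions are
determined by `B` and `N`. -/
theorem result {G : Type*} [Group G] (P : Cfsg.BNPair G) {n : G}
    (hn : n ∈ P.N) (hnB : n ∉ P.B) :
    (∃ H : Subgroup G, (H : Set G) = (P.B : Set G) ∪ DoubleCoset.doubleCoset n (P.B : Set G) P.B) ↔ ∃ s ∈ P.S, s⁻¹ * n ∈ P.B := by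
  have hC := C_toW P ⟨n, hn⟩
  simp only at hC
  rw [← hC]
  constructor
  · rintro ⟨H, hH⟩
    have hB : P.B ≤ H := fun b hb => by
      rw [← SetLike.mem_coe, hH]; exact Or.inl hb
    have hnH : n ∈ H := by
      rw [← SetLike.mem_coe, hH]; exact Or.inr (coe_mem_C P ⟨n, hn⟩)
    have e := eq_parabolic_of_le P hB
    by_cases h1 : (P.S ∩ H).Nonempty
    · obtain ⟨s, hs, hsH⟩ := h1
      rw [hH] at hsH
      rcases hsH with h | h
      · exact absurd h (not_mem_B P hs)
      · exact ⟨s, hs, (toW_eq_iff P).1 (eq_of_mem_C (mem_C_sim P ⟨s, hs⟩) h)⟩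
    · rw [Set.not_nonempty_iff_eq_empty] at h1
      rw [h1, parabolic_empty] at e
      exact absurd (e ▸ hnH) hnB
  · rintro ⟨s, hs, h⟩
    have e : sim P ⟨s, hs⟩ = toW P ⟨n, hn⟩ := (toW_eq_iff P).2 h
    rw [← e]
    refine ⟨cellSubgroup P {⟨s, hs⟩}, ?_⟩
    ext g
    simp only [SetLike.mem_coe, mem_cellSubgroup, Set.image_singleton, Set.mem_union]
    constructor
    · rintro ⟨w, hw, hg⟩
      have : w = 1 ∨ w = sim P ⟨s, hs⟩ := by
        clear hg
        induction hw using Subgroup.closure_induction with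
        | mem x hx => exact Or.inr hx
        | one => exact Or.inl rfl
        | mul x y _ _ hx hy =>
          rcases hx with rfl | rfl <;> rcases hy with rfl | rfl <;> simp [sim_mul_self]
        | inv x _ hx => rcases hx with rfl | rfl <;> simp [sim_inv]
      rcases this with rfl | rfl
      · exact Or.inl (mem_C_one.1 hg)
      · exact Or.inr hg
    · rintro (hg | hg)
      · exact ⟨1, Subgroup.one_mem _, mem_C_one.2 hg⟩
      · exact ⟨_, Subgroup.subset_closure rfl, hg⟩

end Cfsg.Agent.S0321
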