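import Cfsg.Statements.S0322
import Cfsg.Agent.Lib.BN.Parabolic

set_option autoImplicit false
open Cfsg

namespace Cfsg.Agent.S0322

open Cfsg.Lib.BN

/-- A group with a (B,N)-pair of rank one acts doubly transitively on the left cosets of `B`. -/
theorem result {G : Type*} [Group G] (P : Cfsg.BNPair G) (h : P.rank = 1) : MulAction.IsMultiplyPretransitive G (G ⧸ P.B) 2 := by
  obtain ⟨⟨s, hs⟩⟩ := (Nat.card_eq_one_iff_unique.1 h).2
  have huniq : ∀ t : P.S, t = ⟨s, hs⟩ := fun t => (Nat.card_eq_one_iff_unique.1 h).1.elim _ _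
  have hW : ∀ w : W P, w = 1 ∨ w = sim P ⟨s, hs⟩ := by
    intro w
    obtain ⟨l, rfl⟩ := wprod_surjective P w
    induction l with
    | nil => exact Or.inl rfl
    | cons t l ih =>
      rw [wprod_cons, huniq t]
      rcases ih with h | h <;> simp [h, sim_mul_self]
  have key : ∀ x : G, x ∉ P.B → x ∈ C P (sim P ⟨s, hs⟩) := by
    intro x hx
    obtain ⟨w, hw⟩ := exists_mem_C P x
    rcases hW w with rfl | rfl
    · exact absurd (mem_C_one.1 hw) hx
    · exact hw
  rw [MulAction.is_two_pretransitive_iff]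
  intro a b c d hab hcd
  obtain ⟨a, rfl⟩ := QuotientGroup.mk_surjective a
  obtain ⟨b, rfl⟩ := QuotientGroup.mk_surjective b
  obtain ⟨c, rfl⟩ := QuotientGroup.mk_surjective c
  obtain ⟨d, rfl⟩ := QuotientGroup.mk_surjective d
  rw [Ne, QuotientGroup.eq] at hab hcd
  obtain ⟨b₁, hb₁, b₂, hb₂, e⟩ := exists_eq_of_mem_C (key _ hab) (key _ hcd)
  refine ⟨c * b₁ * a⁻¹, ?_, ?_⟩
  · rw [MulAction.Quotient.smul_mk, QuotientGroup.eq]
    simpa using hb₁
  · rw [MulAction.Quotient.smul_mk, QuotientGroup.eq]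
    have : (c * b₁ * a⁻¹ * b)⁻¹ * d = b₂ := by
      calc _ = (b₁ * (a⁻¹ * b))⁻¹ * (c⁻¹ * d) := by group
        _ = _ := by rw [e]; group
    rw [smul_eq_mul, this]; exact hb₂

end Cfsg.Agent.S0322
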