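import Cfsg.Statements.S0323

set_option autoImplicit false
open scoped Pointwise
open Cfsg

namespace Cfsg.Agent.S0323

/-- A doubly transitive action on a set with at least three points yields a (B,N)-pair of rank one:
`B` is the stabiliser of a point `x`, `N` the setwise stabiliser of a pair `{x, y}`. -/
theorem result {G Ω : Type*} [Group G] [MulAction G Ω]
    (h2 : MulAction.IsMultiplyPretransitive G Ω 2) {x y z : Ω} (hxy : x ≠ y) (hyz : y ≠ z) (hxz : x ≠ z) :
    ∃ P : Cfsg.BNPair G, P.B = MulAction.stabilizer G x ∧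
      P.N = MulAction.stabilizer G ({x, y} : Set Ω) ∧ P.rank = 1 := by
  have h2' : ∀ {a b c d : Ω}, a ≠ b → c ≠ d → ∃ g : G, g • a = c ∧ g • b = d :=
    MulAction.is_two_pretransitive_iff.1 h2
  obtain ⟨s, hsx, hsy⟩ := h2' hxy hxy.symm
  have hN : ∀ g : G, g ∈ MulAction.stabilizer G ({x, y} : Set Ω) ↔
      (g • x = x ∧ g • y = y) ∨ (g • x = y ∧ g • y = x) := by
    intro g
    rw [MulAction.mem_stabilizer_iff, Set.smul_set_insert, Set.smul_set_singleton, Set.pair_eq_pair_iff]
  -- the double coset of an element moving `x`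
  have hcell : ∀ n g : G, n • x ≠ x → g • x ≠ x →
      g ∈ DoubleCoset.doubleCoset n (MulAction.stabilizer G x : Set G) (MulAction.stabilizer G x) := by
    intro n g hn hg
    obtain ⟨b, hb1, hb2⟩ := h2' hn.symm hg.symm
    refine DoubleCoset.mem_doubleCoset.2 ⟨b, hb1, n⁻¹ * b⁻¹ * g, ?_, by group⟩
    simp only [SetLike.mem_coe, MulAction.mem_stabilizer_iff]
    rw [mul_smul, mul_smul, ← hb2, inv_smul_smul, inv_smul_smul]
  have hsx' : s • x ≠ x := hsx ▸ hxy.symm
  refine ⟨⟨MulAction.stabilizer G x, MulAction.stabilizer G ({x, y} : Set Ω), {s}, ?_, ?_, ?_, ?_, ?_,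
    ?_, ?_, ?_⟩, rfl, rfl, by simp [BNPair.rank]⟩
  · rw [eq_top_iff]
    rintro g -
    by_cases hg : g • x = x
    · exact (le_sup_left : MulAction.stabilizer G x ≤ _) hg
    · obtain ⟨b, hb, b', hb', rfl⟩ := DoubleCoset.mem_doubleCoset.1 (hcell s g hsx' hg)
      exact Subgroup.mul_mem _ (Subgroup.mul_mem _ ((le_sup_left : MulAction.stabilizer G x ≤ _) hb)
        ((le_sup_right : MulAction.stabilizer G ({x, y} : Set Ω) ≤ _) ((hN s).2 (Or.inr ⟨hsx, hsy⟩))))
        ((le_sup_left : MulAction.stabilizer G x ≤ _) hb')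
  · rintro n hn t ⟨ht1, ht2⟩
    have ht1 : t • x = x := ht1
    have ht3 : t • y = y := by
      rcases (hN t).1 ht2 with h | h
      · exact h.2
      · exact absurd (ht1.symm.trans h.1) hxy
    rw [MulAction.mem_stabilizer_iff, mul_smul, mul_smul]
    rcases (hN n⁻¹).1 (Subgroup.inv_mem _ hn) with h | h
    · rw [h.1, ht1, ← h.1, smul_inv_smul, h.1]
    · rw [h.1, ht3, ← h.1, smul_inv_smul]
  · rintro _ rfl
    exact (hN _).2 (Or.inr ⟨hsx, hsy⟩)
  · rintro _ rfl
    rw [MulAction.mem_stabilizer_iff, mul_smul, hsx, hsy]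
  · rintro _ rfl _ rfl _
    rfl
  · apply le_antisymm
    · refine sup_le ((Subgroup.closure_le _).2 ?_) inf_le_right
      rintro _ rfl
      exact (hN _).2 (Or.inr ⟨hsx, hsy⟩)
    · intro n hn
      rcases (hN n).1 hn with h | h
      · exact Subgroup.mem_sup_right ⟨h.1, hn⟩
      · have h1 : s⁻¹ * n ∈ MulAction.stabilizer G x ⊓ MulAction.stabilizer G ({x, y} : Set Ω) := by
          refine ⟨?_, Subgroup.mul_mem _ (Subgroup.inv_mem _ ((hN _).2 (Or.inr ⟨hsx, hsy⟩))) hn⟩
          change (s⁻¹ * n) • x = x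
          rw [mul_smul, h.1, ← hsx, inv_smul_smul]
        have h3 : s ∈ Subgroup.closure ({s} : Set G) := Subgroup.subset_closure rfl
        have := Subgroup.mul_mem_sup h3 h1
        simpa using this
  · intro s' hs' n hn b hb
    rw [show s' = s from hs']
    have hb : b • x = x := hb
    by_cases h : (s * b * n) • x = x
    · rcases (hN n).1 hn with h' | h'
      · rw [mul_smul, mul_smul, h'.1, hb] at h
        exact absurd h hsx'
      · left
        refine DoubleCoset.mem_doubleCoset.2 ⟨1, Subgroup.one_mem _, (s * n)⁻¹ * (s * b * n), ?_, by group⟩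
        simp only [SetLike.mem_coe, MulAction.mem_stabilizer_iff]
        rw [mul_smul, h, inv_smul_eq_iff, mul_smul, h'.1, hsy]
    · rcases (hN n).1 hn with h' | h'
      · left
        exact hcell _ _ (by rw [mul_smul, h'.1]; exact hsx') h
      · right
        exact hcell _ _ (by rw [h'.1]; exact hxy.symm) h
  · intro s' hs' h
    rw [show s' = s from hs'] at h
    obtain ⟨b, hb1, hb2⟩ := h2' hxy hxz
    have : s * b * s ∈ (MulAction.stabilizer G x : Set G) := by
      rw [← h]; exact ⟨b, hb1, rfl⟩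
    rw [SetLike.mem_coe, MulAction.mem_stabilizer_iff, mul_smul, mul_smul, hsx, hb2, ← hsy,
      smul_left_cancel_iff] at this
    exact hyz this.symm

end Cfsg.Agent.S0323
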