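import Cfsg.Statements.S0332
import Cfsg.Agent.Lib.BN.SzPartition

set_option autoImplicit false
open Cfsg

namespace Cfsg.Agent.S0332

open Cfsg.Lib.BN.Sz

/-- The Suzuki group is a CN-group: every non-identity element has nilpotent centraliser. -/
theorem result {F : Type*} [Field F] [Fintype F] {m : ℕ} (hm : 1 ≤ m)
    (hF : Fintype.card F = 2 ^ (2 * m + 1)) : Cfsg.IsCNGroup (Cfsg.Sz F m) := by
  have := szField_of_card hm hF
  intro g hg
  by_cases h4 : g ^ 4 = 1
  · exact (isPGroup_centralizer hg h4).isNilpotent
  · let _ := (isCyclic_centralizer h4).commGroup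
    exact CommGroup.isNilpotent

end Cfsg.Agent.S0332
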