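import Cfsg.Statements.S0335
import Cfsg.Agent.Lib.BN.SzModel

set_option autoImplicit false
open Cfsg

namespace Cfsg.Agent.S0335

open Cfsg.Lib.BN.Sz

/-- The Suzuki–Tits point set is an ovoid: any three distinct points of it are projectively independent
(no line of projective 3-space meets it in more than two points). -/
theorem result {F : Type*} [Field F] [Fintype F] {m : ℕ} (hm : 1 ≤ m)
    (hF : Fintype.card F = 2 ^ (2 * m + 1)) (p : Fin 3 ↪ Cfsg.suzukiOvoid F m) :
    Projectivization.Independent (fun i => (p i : Projectivization F (Fin 4 → F))) := by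
  have := szField_of_card hm hF
  obtain ⟨g, h0, h1⟩ := exists_smul_inf_zero m (p := p 0) (p' := p 1) (by simp)
  have h2 : g⁻¹ • p 2 ≠ inf F m := by rw [Ne, inv_smul_eq_iff, h0]; simp
  obtain ⟨x, y, h2⟩ := exists_pt_of_ne_inf m h2
  have h3 : ¬ (x = 0 ∧ y = 0) := by
    rintro ⟨rfl, rfl⟩
    rw [inv_smul_eq_iff, h1] at h2
    simp at h2
  rw [inv_smul_eq_iff] at h2
  let v : Fin 3 → Fin 4 → F := ![![1, 0, 0, 0], ![f m 0 0, 0, 0, 1], ![f m x y, y, x, 1]]
  have hv : LinearIndependent F v := by
    rw [Fintype.linearIndependent_iff]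
    intro c hc
    have e0 := congrFun hc 0
    have e1 := congrFun hc 1
    have e2 := congrFun hc 2
    have e3 := congrFun hc 3
    simp [v, Fin.sum_univ_three, f_zero] at e0 e1 e2 e3
    have h4 : c 2 = 0 := by tauto
    intro i
    fin_cases i <;> simp_all
  have hv' := hv.map' (DistribSMul.toLinearMap F (Fin 4 → F) g.1)
    (LinearMap.ker_eq_bot.2 (MulAction.injective g.1))
  convert Projectivization.Independent.mk _ hv'.ne_zero hv' using 2 with i
  fin_cases i
  · exact congrArg Subtype.val h0.symm
  · exact congrArg Subtype.val h1.symm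
  · exact congrArg Subtype.val h2

end Cfsg.Agent.S0335
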