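import Cfsg.Statements.S0349
import Cfsg.Agent.Lib.ZD.Final
import Cfsg.Agent.Lib.BS.Bro
import Cfsg.Agent.Lib.BN.Basic

set_option autoImplicit false
open Cfsg

namespace Cfsg.Agent.S0349
open Cfsg.Lib.Invol
open Cfsg.Lib.BS

open Subgroup Cfsg.Lib.Core Cfsg.Lib.Amalg Cfsg.Lib.BG1 Cfsg.Lib.ZD

/-- Let a finite simple group have a (B,N)-pair of rank one which is strongly split (`B = U (B ⊓ N)` with `U` nilpotent,
normal in `B` and meeting `N` trivially), with `[G : B]` and `|B ⊓ N|` odd. Then the group is isomorphic to `PSL₂(F)` with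
`|F|` a power of `2`, or is simple of Suzuki order, or is isomorphic to `PSU₃` realised over a field with `q²` elements,
`q = 2^n`, `n ≥ 2`. -/
theorem result {G : Type*} [Group G] [Finite G] [IsSimpleGroup G]
    (P : Cfsg.BNPair G) (hrank : P.rank = 1) (U : Subgroup G) (hUB : U ≤ P.B)
    (hUn : (U.subgroupOf P.B).Normal) (hUnil : Group.IsNilpotent U) (hsplit : U ⊔ (P.B ⊓ P.N) = P.B)
    (hdisj : U ⊓ P.N = ⊥) (hind : Odd P.B.index) (hH : Odd (Nat.card ↥(P.B ⊓ P.N))) :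
    (∃ (F : Type) (_ : Field F) (_ : Fintype F), (∃ n : ℕ, Fintype.card F = 2 ^ n) ∧ Nonempty (G ≃* Matrix.ProjectiveSpecialLinearGroup (Fin 2) F)) ∨
      Cfsg.IsSuzuki G ∨
      (∃ (F : Type) (_ : Field F) (_ : Fintype F) (n : ℕ), 2 ≤ n ∧ Fintype.card F = (2 ^ n) ^ 2 ∧
        Nonempty (G ≃* Cfsg.PSU 3 F (2 ^ n))) := by
  haveI := fact_two
  obtain ⟨hs1, ⟨s⟩⟩ := Nat.card_eq_one_iff_unique.mp hrank
  have hsB := Lib.BN.not_mem_B P s.2
  haveI : Nonempty P.S := ⟨s⟩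
  haveI := Finite.of_surjective _ (Lib.BN.toW_surjective P)
  have hn : P.B ≤ normalizer (U : Set G) := (normal_subgroupOf_iff_le_normalizer hUB).mp hUn
  have hB : ∀ g, g ∉ P.B → ∃ u ∈ U, ∃ b ∈ P.B, g = u * s * b := fun g hg => by
    obtain ⟨w, hw⟩ := Lib.BN.exists_mem_C P g
    have h1 : w ∈ zpowers (Lib.BN.sim P s) := by
      rw [zpowers_eq_closure, ← Set.range_eq_singleton fun t => congrArg (Lib.BN.sim P) (Subsingleton.elim t s), Lib.BN.closure_range_sim]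
      exact mem_top w
    rcases eq_or_of_zp (Lib.BN.sim_mul_self P s) h1 with rfl | rfl
    · exact absurd (Lib.BN.mem_C_one.mp hw) hg
    obtain ⟨b, hb, b', hb', rfl⟩ := (Lib.BN.mem_C_toW P).mp hw
    obtain ⟨u, hu, h, hh, rfl⟩ := (Lib.Coprime.mem_sup_iff_of_le_normalizer (inf_le_left.trans hn)).mp (hsplit.ge hb)
    exact ⟨u, hu, _, mul_mem (P.conj_mem _ (inv_mem (P.subset s.2)) h hh) hb', by simp [mul_assoc]⟩
  have hBt : P.B ≠ ⊤ := fun e => hsB (e ▸ mem_top _)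
  have hA : ∀ c ∈ U ⊓ centralizer (U : Set G), c ≠ 1 → ∀ g, g * c * g⁻¹ ∈ P.B → g ∈ P.B := fun c hc h1 g hg => by
    have key : ∀ u ∈ U, ∀ b ∈ P.B, (u * s * b)⁻¹ * c * (u * s * b) ∈ P.B ↔ (s : G)⁻¹ * c * s ∈ P.B := fun u hu b hb => by
      rw [show (u * s * b)⁻¹ * c * (u * s * b) = b⁻¹ * ((s : G)⁻¹ * (u⁻¹ * (c * u)) * s) * b by group, ← hc.2 u hu, inv_mul_cancel_left,
        P.B.mul_mem_cancel_right hb, P.B.mul_mem_cancel_left (inv_mem hb)]
    by_contra h2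
    obtain ⟨u, hu, b, hb, e⟩ := hB g⁻¹ (by rwa [inv_mem_iff])
    have h3 := (key u hu b hb).mp (by rwa [← e, inv_inv])
    refine h1 (mem_bot.mp ((P.B.normalCore_normal.eq_bot_or_eq_top.resolve_right fun e => hBt
      (eq_top_iff.mpr (e ▸ P.B.normalCore_le))).le fun x => ?_))
    by_cases h4 : x⁻¹ ∈ P.B
    · exact mul_mem (mul_mem (inv_mem_iff.mp h4) (hUB hc.1)) h4
    · obtain ⟨u, hu, b, hb, e⟩ := hB x⁻¹ h4
      simpa [← e] using (key u hu b hb).mpr h3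
  have hU : Even (Nat.card U) := Nat.not_odd_iff_even.mp fun e => by
    have h1 := (hsplit ▸ odd_sup e hH (inf_le_left.trans hn)).mul hind
    rw [card_mul_index] at h1
    obtain ⟨k, hk⟩ := exists_sqrt (h1.of_dvd_nat (orderOf_dvd_natCard (s : G)))
    exact hsB (by rw [← hk, ← (Commute.refl _).mul_pow]; exact pow_mem (P.sq_mem _ s.2) k)
  obtain ⟨T, hT⟩ := exists_syl 2 U
  have hT' : T = pCoreOf 2 U := le_antisymm (le_pCoreOf_of_nilpotent hT.isPGroup hT.le) hT.op_le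
  obtain ⟨z, h1, h2, -⟩ := Lib.Invol.exists_central (hT.isPGroup.to_le inf_le_left)
    (inf_centralizer_ne_bot_of_nilpotent (K := T) (H := U) (L := U) hT.le le_rfl (hT' ▸ le_norm_op U) (hT.ne_bot hU.two_dvd))
  have h3 : z ∈ U ⊓ centralizer (U : Set G) := ⟨hT.le h1.1, h1.2⟩
  have hf := hA z h3 (ne_one_of_two h2)
  have h : ZC P.B z := ⟨h2, hUB h3.1, hBt, ⟨T, ((hT.of_le_of_not_dvd hUB (by
    rw [← hsplit, Lib.Coprime.relIndex_sup_of_le_normalizer' (inf_le_left.trans hn)]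
    exact fun e => odd_iff_not_dvd.mp hH (e.trans (relIndex_dvd_card _ _)))).of_le_of_not_dvd le_top
      (by rw [relIndex_top_right]; exact odd_iff_not_dvd.mp hind)), fun x hx => h1.2 x (hT.le hx)⟩, hf⟩
  have hse := h.se_top eg fun g h4 h5 x hx => hA _ (mul_mem h3 (conj_mem_of_mem_normalizer (le_normalizer_inf hn
    (le_normalizer_centralizer hn) (hf g (hf _ (by rw [← h4.eq, mul_inv_cancel_right]; exact h.mem)))) h3))
    (ne_one_of_two (two_mul_of_commute h2 ((orderOf_conj g z).trans h2) h5.symm h4)) x (by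
      rw [(mem_cent1.mp hx).eq, mul_inv_cancel_right]
      exact mul_mem h.mem (hf _ (by rw [← h4.eq, mul_inv_cancel_right]; exact h.mem)))
  rcases bro.bender hse with ⟨F, _, _, ⟨n, -, h4⟩, h5⟩ | h4 | h4
  exacts [Or.inl ⟨F, _, _, ⟨n, h4⟩, h5⟩, Or.inr (Or.inl (isSuzuki_of_iso h4)), Or.inr (Or.inr h4)]

end Cfsg.Agent.S0349
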