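import Cfsg.Statements.S0351
import Cfsg.Agent.Lib.Golay.Steiner

set_option autoImplicit false
open Cfsg

namespace Cfsg.Agent.S0351

open Cfsg.Lib.Golay

/-- Derived design: removing a point p from the blocks through p of an S(t+1, k+1, v) yields an S(t, k, v-1) on the points other than p. -/
theorem result {α : Type*} [Fintype α] [DecidableEq α] {t k : ℕ} {B : Set (Finset α)} (hB : Cfsg.IsSteinerSystem (t + 1) (k + 1) B) (p : α) : Cfsg.IsSteinerSystem t k {b' : Finset {a : α // a ≠ p} | ∃ b ∈ B, p ∈ b ∧ b' = Finset.subtype (fun a => a ≠ p) b} := by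
  constructor
  · rintro b' ⟨b, hb, hp, rfl⟩
    have h1 := hB.1 b hb
    rw [Finset.card_subtype, Finset.filter_ne', Finset.card_erase_of_mem hp, h1]; rfl
  · intro s hs
    have hps : p ∉ s.map (Function.Embedding.subtype _) := by simp
    have hc : (insert p (s.map (Function.Embedding.subtype _))).card = t + 1 := by
      rw [Finset.card_insert_of_notMem hps, Finset.card_map, hs]
    obtain ⟨b, ⟨hb, hsb⟩, hu⟩ := hB.2 _ hc
    rw [Finset.insert_subset_iff] at hsb
    refine ⟨Finset.subtype (fun a => a ≠ p) b, ⟨⟨b, hb, hsb.1, rfl⟩, fun x hx => ?_⟩, ?_⟩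
    · rw [Finset.mem_subtype]; exact hsb.2 (Finset.mem_map_of_mem _ hx)
    · rintro b' ⟨⟨c, hc, hpc, rfl⟩, h⟩
      rw [hu c ⟨hc, Finset.insert_subset hpc fun x hx => ?_⟩]
      obtain ⟨y, hy, rfl⟩ := Finset.mem_map.mp hx
      exact Finset.mem_subtype.mp (h hy)

end Cfsg.Agent.S0351
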