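import Cfsg.Statements.S0353
import Cfsg.Agent.Lib.Golay.Model

set_option autoImplicit false
open Cfsg

namespace Cfsg.Agent.S0353

open Cfsg.Lib.Golay
open scoped Pointwise
set_option maxRecDepth 100000
set_option linter.unusedSimpArgs false
set_option maxHeartbeats 400000

/-- In an S(5, 8, 24), the symmetric difference of two blocks meeting in four points is a block. -/
theorem result {α : Type*} [Fintype α] [DecidableEq α] (hα : Fintype.card α = 24) {B : Set (Finset α)} (hB : Cfsg.IsSteinerSystem 5 8 B) {b c : Finset α} (hb : b ∈ B) (hc : c ∈ B) (h4 : (b ∩ c).card = 4) : symmDiff b c ∈ B := by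

  obtain ⟨f, h⟩ := model24 hα hB
  have e : (symmDiff b c).map f = symmDiff (b.map f) (c.map f) := by
    rw [Finset.map_eq_image, Finset.map_eq_image, Finset.map_eq_image,
      Finset.image_symmDiff _ _ f.injective]
  have h1 := card_symmDiff_add b c
  rw [hB.1 b hb, hB.1 c hc, h4] at h1
  rw [h.iff, Finset.union_empty, octs_empty] at hb hc ⊢
  exact ⟨e ▸ symmDiff_mem_cw hb.1 hc.1, by rw [Finset.card_map]; omega⟩

end Cfsg.Agent.S0353
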