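import Cfsg.Statements.S0357
import Cfsg.Agent.Lib.Golay.Steiner

set_option autoImplicit false
open Cfsg

namespace Cfsg.Agent.S0357

open Cfsg.Lib.Golay

/-- In a Steiner system S(5, 6, 12), the complement of every block is again a block. -/
theorem result {α : Type*} [Fintype α] [DecidableEq α] (hα : Fintype.card α = 12) {B : Set (Finset α)} (hB : Cfsg.IsSteinerSystem 5 6 B) {b : Finset α} (hb : b ∈ B) : bᶜ ∈ B := by
  have h := ncard_card_inter_block hB (by norm_num) hb 0 1 (by rw [hα]; decide)
  obtain ⟨c, hc, h0⟩ := Set.nonempty_of_ncard_ne_zero (h.trans_ne (by decide))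
  have h1 : c ⊆ bᶜ := by
    rw [Finset.card_eq_zero, ← Finset.disjoint_iff_inter_eq_empty] at h0
    exact Finset.subset_compl_iff_disjoint_left.mpr h0
  rw [← Finset.eq_of_subset_of_card_le h1 (by rw [Finset.card_compl, hα, hB.1 b hb, hB.1 c hc])]
  exact hc

end Cfsg.Agent.S0357
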