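import Cfsg.Statements.S0371
import Cfsg.Agent.Lib.Golay.M24

set_option autoImplicit false
open Cfsg

namespace Cfsg.Agent.S0371

open Cfsg.Lib.Golay
open scoped Pointwise

/-- Multiplication by a nonzero square residue modulo 23, fixing the extra point, lies in the group of the length-24 code. -/
theorem result (u : (ZMod 23)ˣ) (hu : IsSquare u) : Equiv.optionCongr (Units.mulLeft u) ∈ Cfsg.M24 := by
  obtain ⟨r, rfl⟩ := hu
  refine mem_M24_of_qr fun t ht => ?_
  have h : Equiv.optionCongr (Units.mulLeft (r * r)) • om (qrM t) =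
      om (qrM (((r * r : (ZMod 23)ˣ) : ZMod 23) * (t : ZMod 23)).val) := by
    rw [← support₂_qrWord, show om (qrM t) = support₂ (qrWord (t : ZMod 23)) by
      rw [support₂_qrWord, ZMod.val_cast_of_lt (by omega)]]
    ext p
    rw [← Finset.inv_smul_mem_iff, mem_support₂, mem_support₂]
    cases p with
    | none => rfl
    | some x =>
      show (if ∃ s : ZMod 23, ((r * r)⁻¹ : (ZMod 23)ˣ) * x = s ^ 2 + t then (1 : ZMod 2) else 0) ≠ 0 ↔
        (if ∃ s : ZMod 23, x = s ^ 2 + _ then (1 : ZMod 2) else 0) ≠ 0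
      congr! 2
      constructor
      · rintro ⟨s, hs⟩
        refine ⟨r * s, ?_⟩
        rw [Units.inv_mul_eq_iff_eq_mul] at hs
        rw [hs]; push_cast; ring
      · rintro ⟨s, hs⟩
        refine ⟨(r⁻¹ : (ZMod 23)ˣ) * s, ?_⟩
        rw [Units.inv_mul_eq_iff_eq_mul, hs]
        have : (r : ZMod 23) * (r⁻¹ : (ZMod 23)ˣ) = 1 := by simp
        push_cast
        linear_combination (-(s ^ 2) * ((r : ZMod 23) * (r⁻¹ : (ZMod 23)ˣ) + 1)) * this
  rw [h]; exact om_qrM_mem (ZMod.val_lt _)

end Cfsg.Agent.S0371
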