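import Cfsg.Statements.S0381
import Cfsg.Agent.Lib.Golay.Oct

set_option autoImplicit false
open Cfsg

namespace Cfsg.Agent.S0381

open Cfsg.Lib.Golay
open scoped Pointwise
set_option maxRecDepth 100000
set_option linter.unusedSimpArgs false

/-- The pointwise stabiliser of an octad in the group of the length-24 code has order 16 and every element of it squares to the identity. -/
theorem result (o : Finset Cfsg.GolayPt) (ho : o ∈ Cfsg.octads) : Nat.card ↥(Cfsg.M24 ⊓ fixingSubgroup (Equiv.Perm Cfsg.GolayPt) (o : Set Cfsg.GolayPt)) = 16 ∧ ∀ g ∈ Cfsg.M24 ⊓ fixingSubgroup (Equiv.Perm Cfsg.GolayPt) (o : Set Cfsg.GolayPt), g * g = 1 := by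
  obtain ⟨σ, hσ, rfl⟩ := std_octad ho
  rw [Finset.coe_smul_finset]
  have h := (ConjA.base hσ).inf (ConjA.fixing σ (om 0x82402f : Set GolayPt))
  refine ⟨h.card_eq.trans card_E16, fun g hg => ?_⟩
  calc g * g = σ * ((σ⁻¹ * g * σ) * (σ⁻¹ * g * σ)) * σ⁻¹ := by group
    _ = 1 := by rw [E16_sq ((h g).mp hg)]; group

end Cfsg.Agent.S0381
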