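import Cfsg.Statements.S0384
import Cfsg.Agent.Lib.Golay.Stab

set_option autoImplicit false
open scoped Pointwise
open Cfsg

namespace Cfsg.Agent.S0384

open Cfsg.Lib.Golay

/-- A dodecad stabiliser is sharply 5-transitive on the dodecad. -/
theorem result (d : Finset Cfsg.GolayPt) (hd : d ∈ Cfsg.dodecads) (x y : Fin 5 ↪ Cfsg.GolayPt) (hx : ∀ i, x i ∈ d) (hy : ∀ i, y i ∈ d) : ∃! g : MulAction.stabilizer Cfsg.M24 d, ∀ i, ((g : Cfsg.M24) : Equiv.Perm Cfsg.GolayPt) (x i) = y i := by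
  obtain ⟨σ, hσ, rfl⟩ := std_dodecad hd
  have hx' : ∀ i, (σ⁻¹ • x) i ∈ om 0x5335f := fun i => by
    rw [← mem_smul_iff σ]; simpa using hx i
  have hy' : ∀ i, (σ⁻¹ • y) i ∈ om 0x5335f := fun i => by
    rw [← mem_smul_iff σ]; simpa using hy i
  obtain ⟨k, hk, e⟩ := exists_M12_emb _ _ hx' hy'
  refine ⟨⟨_, (conjTo_M12 hσ).conj_mem hk⟩, fun i => ?_, fun g hg => ?_⟩
  · show σ (k (σ⁻¹ (x i))) = y i
    rw [show k (σ⁻¹ (x i)) = σ⁻¹ (y i) from e i]; simp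
  · have h1 := ((conjTo_M12 hσ).iff g).mp g.2
    have h2 := M12_eq_one_of_fix_emb (mul_mem (inv_mem hk) h1) _ hx' fun i => by
      show k⁻¹ (σ⁻¹ ((g : Equiv.Perm GolayPt) (σ (σ⁻¹ (x i))))) = σ⁻¹ (x i)
      rw [Equiv.Perm.inv_eq_iff_eq, show k (σ⁻¹ (x i)) = σ⁻¹ (y i) from e i, ← hg i]; simp
    rw [inv_mul_eq_one] at h2
    refine Subtype.ext (Subtype.ext ?_)
    show (g : Equiv.Perm GolayPt) = σ * k * σ⁻¹
    rw [h2]; simp [mul_assoc]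

end Cfsg.Agent.S0384
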