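import Cfsg.Statements.S0385
import Cfsg.Agent.Lib.Golay.Oct

set_option autoImplicit false
open Cfsg

namespace Cfsg.Agent.S0385

open Cfsg.Lib.Golay
open scoped Pointwise
set_option maxRecDepth 100000
set_option linter.unusedSimpArgs false

/-- The 6-point intersections of octads with a fixed dodecad form a Steiner system S(5, 6, 12) on the dodecad. -/
theorem result (d : Finset Cfsg.GolayPt) (hd : d ∈ Cfsg.dodecads) : Cfsg.IsSteinerSystem 5 6 {h : Finset {p : Cfsg.GolayPt // p ∈ d} | ∃ o ∈ Cfsg.octads, (o ∩ d).card = 6 ∧ h = Finset.subtype (fun p => p ∈ d) o} := by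
  have hc : ∀ o : Finset GolayPt, (Finset.subtype (fun p => p ∈ d) o).card = (o ∩ d).card := fun o => by
    rw [Finset.card_subtype, Finset.filter_mem_eq_inter]
  refine ⟨?_, fun s hs => ?_⟩
  · rintro _ ⟨o, -, h6, rfl⟩; rw [hc, h6]
  have hs' : (s.map (Function.Embedding.subtype _)).card = 5 := by rw [Finset.card_map, hs]
  obtain ⟨o, ⟨ho, hso⟩, hu⟩ := octads_steiner.2 _ hs'
  have hsub : ∀ o : Finset GolayPt, s ⊆ Finset.subtype (fun p => p ∈ d) o ↔
      s.map (Function.Embedding.subtype _) ⊆ o := fun o => by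
    rw [Finset.map_subset_iff_subset_preimage]
    exact forall₂_congr fun a _ => by simp
  refine ⟨_, ⟨⟨o, ho, ?_, rfl⟩, (hsub o).mpr hso⟩, ?_⟩
  · have h1 := Finset.card_le_card ((hsub o).mpr hso)
    have h2 := card_symmDiff_add o d
    have h3 := card_cw (symmDiff_mem_cw ho.1 hd.1)
    have h4 : (o ∩ d).card ≤ o.card := Finset.card_le_card Finset.inter_subset_left
    rw [hc, hs] at h1
    rw [ho.2, hd.2] at *
    omega
  · rintro _ ⟨⟨o', ho', -, rfl⟩, h⟩
    rw [hu o' ⟨ho', (hsub o').mp h⟩]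

end Cfsg.Agent.S0385
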