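import Cfsg.Statements.S0386
import Cfsg.Agent.Lib.Golay.Oct

set_option autoImplicit false
open Cfsg

namespace Cfsg.Agent.S0386

open Cfsg.Lib.Golay
open scoped Pointwise
set_option maxRecDepth 100000
set_option linter.unusedSimpArgs false

/-- For a fixed dodecad, 132 octads meet it in 6 points, 132 in 2 points and 495 in 4 points. -/
theorem result (d : Finset Cfsg.GolayPt) (hd : d ∈ Cfsg.dodecads) : {o : Finset Cfsg.GolayPt | o ∈ Cfsg.octads ∧ (o ∩ d).card = 6}.ncard = 132 ∧ {o : Finset Cfsg.GolayPt | o ∈ Cfsg.octads ∧ (o ∩ d).card = 2}.ncard = 132 ∧ {o : Finset Cfsg.GolayPt | o ∈ Cfsg.octads ∧ (o ∩ d).card = 4}.ncard = 495 := by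
  obtain ⟨σ, hσ, rfl⟩ := std_dodecad hd
  refine ⟨?_, ?_, ?_⟩
  · rw [ncard_setOf_smul σ]
    simp only [smul_mem_octads_iff hσ, smul_mem_dodecads_iff hσ, smul_mem_smul', card_smul_inter]
    rw [ncard_oct (fun m => (Nat.beq (pop24 (Nat.land m 0x5335f)) 6)) (fun m _ => by
      simp only [none_mem_om, zero_mem_om, pt_mem_om (show 4 < 24 by norm_num), card_om_inter, band_iff, bnot_iff, beq_iff])]
    decide +kernel
  · rw [ncard_setOf_smul σ]
    simp only [smul_mem_octads_iff hσ, smul_mem_dodecads_iff hσ, smul_mem_smul', card_smul_inter]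
    rw [ncard_oct (fun m => (Nat.beq (pop24 (Nat.land m 0x5335f)) 2)) (fun m _ => by
      simp only [none_mem_om, zero_mem_om, pt_mem_om (show 4 < 24 by norm_num), card_om_inter, band_iff, bnot_iff, beq_iff])]
    decide +kernel
  · rw [ncard_setOf_smul σ]
    simp only [smul_mem_octads_iff hσ, smul_mem_dodecads_iff hσ, smul_mem_smul', card_smul_inter]
    rw [ncard_oct (fun m => (Nat.beq (pop24 (Nat.land m 0x5335f)) 4)) (fun m _ => by
      simp only [none_mem_om, zero_mem_om, pt_mem_om (show 4 < 24 by norm_num), card_om_inter, band_iff, bnot_iff, beq_iff])]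
    decide +kernel

end Cfsg.Agent.S0386
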