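import Cfsg.Statements.S0389
import Cfsg.Agent.Lib.Golay.Stab

set_option autoImplicit false
open scoped Pointwise
open Cfsg

namespace Cfsg.Agent.S0389

open Cfsg.Lib.Golay

/-- The stabiliser of a dodecad and a point on it is 3-transitive on the complementary dodecad. -/
theorem result (d : Finset Cfsg.GolayPt) (hd : d ∈ Cfsg.dodecads) (p : Cfsg.GolayPt) (hp : p ∈ d) (x y : Fin 3 ↪ Cfsg.GolayPt) (hx : ∀ i, x i ∉ d) (hy : ∀ i, y i ∉ d) : ∃ g ∈ MulAction.stabilizer Cfsg.M24 d ⊓ MulAction.stabilizer Cfsg.M24 p, ∀ i, (g : Equiv.Perm Cfsg.GolayPt) (x i) = y i := by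
  obtain ⟨σ, hσ, rfl, rfl⟩ := std_dodecad_pt hd hp
  have hx' : ∀ i, (σ⁻¹ • x) i ∉ om 0x5335f := fun i => by
    rw [← mem_smul_iff σ]; simpa using hx i
  have hy' : ∀ i, (σ⁻¹ • y) i ∉ om 0x5335f := fun i => by
    rw [← mem_smul_iff σ]; simpa using hy i
  obtain ⟨k, hk, e⟩ := exists_M11_emb _ _ hx' hy'
  refine ⟨_, (conjTo_M11 hσ).conj_mem hk, fun i => ?_⟩
  show σ (k (σ⁻¹ (x i))) = y i
  rw [show k (σ⁻¹ (x i)) = σ⁻¹ (y i) from e i]; simp

end Cfsg.Agent.S0389
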