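import Cfsg.Statements.S0405
import Cfsg.Agent.Lib.Leech.Simple

set_option autoImplicit false
open Cfsg

namespace Cfsg.Agent.S0405

open Cfsg.Lib.Leech

/-- Joint stabiliser of two vectors of sum of squares 48 with coordinate dot product −32 is simple of order 44352000. -/
theorem result (v w : Cfsg.leechLattice) (hv : Cfsg.sqNorm (v : Cfsg.GolayPt → ℤ) = 48) (hw : Cfsg.sqNorm (w : Cfsg.GolayPt → ℤ) = 48) (hvw : Cfsg.dotInt (v : Cfsg.GolayPt → ℤ) (w : Cfsg.GolayPt → ℤ) = -32) : Cfsg.IsHS ↥(MulAction.stabilizer Cfsg.Co0 v ⊓ MulAction.stabilizer Cfsg.Co0 w) := by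
  obtain ⟨k, rfl, rfl⟩ := std233 hv hw hvw
  have e := stabEquiv2 k Cfsg.Spor.leechV (-(Cfsg.Spor.leechV + Cfsg.Spor.leechU'))
  have h : MulAction.stabilizer Cfsg.Co0 Cfsg.Spor.leechV ⊓
      MulAction.stabilizer Cfsg.Co0 (-(Cfsg.Spor.leechV + Cfsg.Spor.leechU')) = sHS := by
    rw [stabilizer_neg]
    ext g
    simp only [Subgroup.mem_inf, MulAction.mem_stabilizer_iff, co0_smul_add]
    exact ⟨fun h => ⟨h.1, add_left_cancel (h.1 ▸ h.2 :)⟩, fun h => ⟨h.1, by rw [h.1, h.2]⟩⟩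
  rw [h] at e
  have := simple_sHS
  exact ⟨e.isSimpleGroup, (Nat.card_congr e.toEquiv).trans card_sHS⟩

end Cfsg.Agent.S0405
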