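import Cfsg.Statements.S0406
import Cfsg.Agent.Lib.Small.MaxA
import Cfsg.Agent.Lib.Golay.Coset
import Cfsg.Agent.Lib.Leech.ModTwo

set_option autoImplicit false
open Matrix
open Cfsg

namespace Cfsg.Agent.S0406

open Cfsg.Lib.Leech Cfsg.Lib.Small.MaxA
open Cfsg.Lib.Golay (mem_support₂ hammingNorm_eq_card min_supports code_unique)

/-- integer lattices looking like the Leech lattice in frame coordinates -/
structure Good (M : AddSubgroup (GolayPt → ℤ)) : Prop where
  dot : ∀ x ∈ M, ∀ y ∈ M, 8 ∣ dotInt x y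
  even : ∀ x ∈ M, 16 ∣ sqNorm x
  min : ∀ x ∈ M, sqNorm x < 32 → x = 0
  four : ∀ w : GolayPt → ℤ, 2 ∣ ∑ i, w i → (fun i => 4 * w i) ∈ M
  cnt : {x | x ∈ M ∧ sqNorm x = 32}.ncard = 196560

variable {M : AddSubgroup (GolayPt → ℤ)}

theorem Good.par (h : Good M) {x : GolayPt → ℤ} (hx : x ∈ M) (i j : GolayPt) : 2 ∣ x i - x j := by
  have h1 := h.four (Pi.single i 1 - Pi.single j 1) (by simp [Finset.sum_sub_distrib])
  have h2 := h.dot x hx _ h1
  have e : (fun l => 4 * (Pi.single i 1 - Pi.single j 1 : GolayPt → ℤ) l) =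
      (Pi.single i 4 - Pi.single j 4 : GolayPt → ℤ) := by
    funext l; simp only [Pi.sub_apply, Pi.single_apply]; split_ifs <;> norm_num
  rw [e, dotInt_sub_right, dotInt_single_right, dotInt_single_right] at h2
  omega

def code (M : AddSubgroup (GolayPt → ℤ)) : Submodule (ZMod 2) (GolayPt → ZMod 2) where
  carrier := {w | ∃ y : GolayPt → ℤ, (fun i => 2 * y i) ∈ M ∧ ∀ i, w i = (y i : ZMod 2)}
  add_mem' := by
    rintro a b ⟨y, hy, ey⟩ ⟨z, hz, ez⟩
    refine ⟨y + z, ?_, fun i => by simp [ey, ez]⟩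
    convert M.add_mem hy hz using 1
    funext i; simp [mul_add]
  zero_mem' := ⟨0, by convert M.zero_mem using 1; funext i; simp, fun i => by simp⟩
  smul_mem' := by
    rintro c a ⟨y, hy, ey⟩
    rcases zmod2_cases c with rfl | rfl
    · exact ⟨0, by convert M.zero_mem using 1; funext i; simp, fun i => by simp⟩
    · exact ⟨y, hy, fun i => by simp [ey]⟩

theorem cast_ne_zero {a : ℤ} : (a : ZMod 2) ≠ 0 ↔ a % 2 = 1 := by
  rw [Ne, ZMod.intCast_zmod_eq_zero_iff_dvd]; push_cast; omega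

theorem Good.orth (h : Good M) : ∀ v ∈ code M, ∀ w ∈ code M, ∑ i, v i * w i = 0 := by
  rintro v ⟨y, hy, ey⟩ w ⟨z, hz, ez⟩
  have h1 := h.dot _ hy _ hz
  have h2 : dotInt (fun i => 2 * y i) (fun i => 2 * z i) = 4 * ∑ i, y i * z i := by
    rw [dotInt, Finset.mul_sum]; exact Finset.sum_congr rfl fun i _ => by ring
  have h3 : ((∑ i, y i * z i : ℤ) : ZMod 2) = 0 := by
    rw [ZMod.intCast_zmod_eq_zero_iff_dvd]; push_cast; omega
  simp only [ey, ez]
  rw [← h3]; push_cast; rfl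

theorem sum_ind (S : Finset GolayPt) (a : ℤ) : ∑ i, (if i ∈ S then a else 0) = a * S.card := by
  rw [sum_ite_mem_const, Finset.univ_inter]

theorem Good.hmin (h : Good M) : ∀ w ∈ code M, w ≠ 0 → 8 ≤ hammingNorm w := by
  rintro w ⟨y, hy, ey⟩ hw
  obtain ⟨p, hp⟩ := Function.ne_iff.1 hw
  rw [hammingNorm_eq_card]
  have hS : ∀ i, i ∈ support₂ w ↔ y i % 2 = 1 := fun i => by rw [mem_support₂, ey, cast_ne_zero]
  have hp' : y p % 2 = 1 := (hS p).1 (mem_support₂.2 hp)
  have key : ∀ a : ℤ, (a = 0 ∨ a = 1) → 2 ∣ ∑ i, (y i / 2 + if i = p then a else 0) →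
      8 ≤ (support₂ w).card := by
    intro a ha h2
    have h3 := M.sub_mem hy (h.four _ h2)
    have h4 : sqNorm ((fun i => 2 * y i) - fun i => 4 * (y i / 2 + if i = p then a else 0)) =
        4 * (support₂ w).card := by
      rw [← sum_ind, sqNorm]
      refine Finset.sum_congr rfl fun i _ => ?_
      simp only [Pi.sub_apply, hS]
      split_ifs with h1 h6 h6
      · rcases ha with rfl | rfl
        · rw [show 2 * y i - 4 * (y i / 2 + 0) = 2 by omega]; norm_num
        · rw [show 2 * y i - 4 * (y i / 2 + 1) = -2 by omega]; norm_num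
      · subst h1; exact absurd hp' h6
      · rw [show 2 * y i - 4 * (y i / 2 + 0) = 2 by omega]; norm_num
      · rw [show 2 * y i - 4 * (y i / 2 + 0) = 0 by omega]; norm_num
    by_contra hlt
    have h5 := congrFun (h.min _ h3 (by rw [h4]; omega)) p
    simp only [Pi.sub_apply, if_true, Pi.zero_apply] at h5
    omega
  by_cases h2 : 2 ∣ ∑ i, y i / 2
  · exact key 0 (Or.inl rfl) (by simpa using h2)
  · refine key 1 (Or.inr rfl) ?_
    rw [Finset.sum_add_distrib, Finset.sum_ite_eq' , if_pos (Finset.mem_univ _)]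
    omega

theorem Good.dim_le (h : Good M) : Module.finrank (ZMod 2) (code M) ≤ 12 := by
  have h1 : code M ≤ dotF.orthogonal (code M) := by
    intro w hw
    rw [LinearMap.BilinForm.mem_orthogonal_iff]
    intro v hv
    show dotF v w = 0
    rw [dotF_apply]; exact h.orth v hv w hw
  have h2 := Submodule.finrank_mono h1
  rw [LinearMap.BilinForm.finrank_orthogonal dotF_nondeg, Module.finrank_fintype_fun_eq_card,
    card_golayPt] at h2
  omega

theorem Good.oct_le (h : Good M) (O : Finset (Finset GolayPt))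
    (hO : ∀ s ∈ O, s.card = 8 ∧ s ∈ supports (code M : Set (GolayPt → ZMod 2))) : O.card ≤ 759 := by
  have h1 : (O.biUnion fun s => Finset.powersetCard 5 s).card = ∑ s ∈ O, 56 := by
    rw [Finset.card_biUnion]
    · exact Finset.sum_congr rfl fun s hs => by rw [Finset.card_powersetCard, (hO s hs).1]; rfl
    · intro s hs t ht hst
      refine Finset.disjoint_left.2 fun u hu hu' => ?_
      rw [Finset.mem_powersetCard] at hu hu'
      have := min_supports h.hmin (Lib.Golay.symmDiff_mem_supports (hO s hs).2 (hO t ht).2) hst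
      have h5 := Finset.card_le_card (Finset.subset_inter hu.1 hu'.1)
      rw [(hO s hs).1, (hO t ht).1] at this
      omega
  have h2 : (O.biUnion fun s => Finset.powersetCard 5 s) ⊆ Finset.powersetCard 5 Finset.univ := by
    intro u hu
    obtain ⟨s, -, hs⟩ := Finset.mem_biUnion.1 hu
    rw [Finset.mem_powersetCard] at hs ⊢
    exact ⟨Finset.subset_univ _, hs.2⟩
  have h3 := Finset.card_le_card h2
  rw [h1, Finset.card_powersetCard, Finset.card_univ, card_golayPt, Finset.sum_const, smul_eq_mul,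
    show Nat.choose 24 5 = 42504 by decide +kernel] at h3
  omega

theorem fin32 (P : (GolayPt → ℤ) → Prop) : {x | (x ∈ M ∧ sqNorm x = 32) ∧ P x}.Finite :=
  (finite_sqNorm_le 32).subset fun _ hx => le_of_eq hx.1.2

theorem cntA : {x | (x ∈ M ∧ sqNorm x = 32) ∧ ∀ l, 4 ∣ x l}.ncard ≤ 1104 := by
  have h1 := ncard_leech_eq (fun x => sqNorm x = 32 ∧ ∀ l, 4 ∣ x l)
  rw [← cntAC.1]
  refine le_trans (Set.ncard_le_ncard ?_ ((finite_sqNorm_le 32).subset fun _ hx => le_of_eq hx.2.1))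
    (le_of_eq h1.symm)
  intro x hx
  refine ⟨mem_of_four_dvd hx.2 ?_, hx.1.2, hx.2⟩
  choose w hw using hx.2
  have e : x = (4 : ℤ) • w := funext fun l => by rw [hw]; simp
  have h2 := hx.1.2
  rw [e, sqNorm_zsmul] at h2
  have h3 := two_dvd_sqNorm_sub_sum w
  simp only [hw, ← Finset.mul_sum]
  omega

theorem Good.shapeB (h : Good M) {x : GolayPt → ℤ} (hx : x ∈ M) (hn : sqNorm x = 32)
    (h2 : 2 ∣ x none) (h4 : ¬ ∀ l, 4 ∣ x l) :
    (Finset.univ.filter fun i => x i ≠ 0).card = 8 ∧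
    (Finset.univ.filter fun i => x i ≠ 0) ∈ supports (code M : Set (GolayPt → ZMod 2)) ∧
    ∀ i, x i = 0 ∨ x i = 2 ∨ x i = -2 := by
  have h3 : ∀ i, 2 ∣ x i := fun i => by have := h.par hx i none; omega
  choose y hy using h3
  have hw : (fun i => (y i : ZMod 2)) ∈ code M := ⟨y, by rw [← funext hy]; exact hx, fun _ => rfl⟩
  set w : GolayPt → ZMod 2 := fun i => (y i : ZMod 2)
  have hS : ∀ i, i ∈ support₂ w ↔ y i % 2 = 1 := fun i => by rw [mem_support₂, cast_ne_zero]
  have h8 := h.hmin w hw (by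
    intro h0
    apply h4
    intro l
    have : ¬ y l % 2 = 1 := by rw [← cast_ne_zero]; exact fun h => h (congrFun h0 l)
    have := hy l
    omega)
  rw [hammingNorm_eq_card] at h8
  have e : x = (2 : ℤ) • y := funext fun l => by rw [hy]; simp
  rw [e, sqNorm_zsmul] at hn
  have s1 : ∑ i, (y i ^ 2 - if i ∈ support₂ w then 1 else 0) = (8 : ℤ) - ((support₂ w).card : ℤ) := by
    rw [Finset.sum_sub_distrib, sum_ind]; unfold sqNorm at hn; omega
  have nn : ∀ i ∈ Finset.univ, 0 ≤ y i ^ 2 - if i ∈ support₂ w then 1 else 0 := by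
    intro i _
    split_ifs with hi
    · have := (hS i).1 hi
      have : y i ≠ 0 := by omega
      have := sq_pos_of_ne_zero this
      omega
    · have := sq_nonneg (y i); omega
  have s2 := Finset.sum_nonneg nn
  have s3 := (Finset.sum_eq_zero_iff_of_nonneg nn).1 (by omega)
  have k : ∀ i, (i ∈ support₂ w ∧ (y i = 1 ∨ y i = -1)) ∨ (i ∉ support₂ w ∧ y i = 0) := by
    intro i
    have := s3 i (Finset.mem_univ _)
    split_ifs at this with hi
    · left; refine ⟨hi, ?_⟩
      have : -2 < y i := by nlinarith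
      have : y i < 2 := by nlinarith
      have := (hS i).1 hi
      omega
    · right; exact ⟨hi, by nlinarith⟩
  have eS : (Finset.univ.filter fun i => x i ≠ 0) = support₂ w := by
    ext i
    simp only [Finset.mem_filter, Finset.mem_univ, true_and]
    have := hy i
    rcases k i with ⟨h1, h2⟩ | ⟨h1, h2⟩
    · simp only [h1, iff_true]; omega
    · simp only [h1, iff_false]; omega
  rw [eS]
  refine ⟨by omega, ⟨w, hw, rfl⟩, fun i => ?_⟩
  have := hy i
  rcases k i with ⟨-, h2⟩ | ⟨-, h2⟩ <;> omega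

theorem Good.cntB (h : Good M) :
    {x | (x ∈ M ∧ sqNorm x = 32) ∧ 2 ∣ x none ∧ ¬ ∀ l, 4 ∣ x l}.ncard ≤ 128 * 759 := by
  classical
  have hf := fin32 (M := M) fun x => 2 ∣ x none ∧ ¬ ∀ l, 4 ∣ x l
  rw [Set.ncard_eq_toFinset_card _ hf]
  let O := Finset.univ.filter fun s : Finset GolayPt =>
    s.card = 8 ∧ s ∈ supports (code M : Set (GolayPt → ZMod 2))
  have hO := h.oct_le O fun s hs => (Finset.mem_filter.1 hs).2
  refine le_trans (Finset.card_le_mul_card_image_of_maps_to (t := O)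
    (f := fun x => Finset.univ.filter fun i => x i ≠ 0) (fun x hx => ?_) 128 fun S hS => ?_) (by omega)
  · rw [Set.Finite.mem_toFinset] at hx
    have := h.shapeB hx.1.1 hx.1.2 hx.2.1 hx.2.2
    exact Finset.mem_filter.2 ⟨Finset.mem_univ _, this.1, this.2.1⟩
  · have h8 := (Finset.mem_filter.1 hS).2.1
    obtain ⟨p, hp⟩ : S.Nonempty := Finset.card_pos.1 (by omega)
    have : (S.erase p).powerset.card = 128 := by
      rw [Finset.card_powerset, Finset.card_erase_of_mem hp, h8]; rfl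
    rw [← this]
    refine Finset.card_le_card_of_injOn (fun x => (S.erase p).filter fun i => x i = 2)
      (fun x _ => Finset.mem_coe.2 (Finset.mem_powerset.2 (Finset.filter_subset _ _))) ?_
    intro x hx x' hx' e
    simp only [Finset.coe_filter, Set.Finite.mem_toFinset, Set.mem_ofPred_eq] at hx hx'
    have a := (h.shapeB hx.1.1.1 hx.1.1.2 hx.1.2.1 hx.1.2.2).2.2
    have a' := (h.shapeB hx'.1.1.1 hx'.1.1.2 hx'.1.2.1 hx'.1.2.2).2.2
    have b : ∀ i, i ∈ S ↔ x i ≠ 0 := fun i => by rw [← hx.2]; simp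
    have b' : ∀ i, i ∈ S ↔ x' i ≠ 0 := fun i => by rw [← hx'.2]; simp
    have c : ∀ i, i ≠ p → x i = x' i := by
      intro i hi
      have e1 := Finset.ext_iff.1 e i
      simp only [Finset.mem_filter, Finset.mem_erase] at e1
      by_cases hs : i ∈ S
      · have := (b i).1 hs; have := (b' i).1 hs
        simp only [hi, hs, ne_eq, not_false_eq_true, true_and] at e1
        have := a i; have := a' i
        omega
      · have := (b i).not.1 hs; have := (b' i).not.1 hs
        omega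
    have d : x - x' = Pi.single p (x p - x' p) := by
      funext i
      by_cases hi : i = p
      · subst hi; simp
      · simp [hi, c i hi]
    refine sub_eq_zero.1 (h.min _ (M.sub_mem hx.1.1.1 hx'.1.1.1) ?_)
    rw [d, sqNorm_single]
    rcases a p with h1 | h1 | h1 <;> rcases a' p with h2 | h2 | h2 <;> rw [h1, h2] <;> norm_num

theorem shapeC {x : GolayPt → ℤ} (ho : ∀ i, x i % 2 = 1) (hn : sqNorm x = 32) :
    ∃ j, (x j = 3 ∨ x j = -3) ∧ ∀ i, i ≠ j → x i = 1 ∨ x i = -1 := by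
  have s1 : ∑ i, (x i ^ 2 - 1) = 8 := by
    rw [Finset.sum_sub_distrib, Finset.sum_const, Finset.card_univ, card_golayPt]
    unfold sqNorm at hn; simp [hn]
  have nn : ∀ i, 0 ≤ x i ^ 2 - 1 := by
    intro i
    have := ho i
    have : x i ≠ 0 := by omega
    have := sq_pos_of_ne_zero this
    omega
  have k1 : ∀ i, x i ^ 2 - 1 = 0 → x i = 1 ∨ x i = -1 := by
    intro i hi
    have : -2 < x i := by nlinarith
    have : x i < 2 := by nlinarith
    have := ho i
    omega
  obtain ⟨j, hj⟩ : ∃ j, x j ^ 2 - 1 ≠ 0 := by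
    by_contra hc
    push Not at hc
    simp [hc] at s1
  have h8 : 8 ≤ x j ^ 2 - 1 := by
    have := ho j
    have h1 : x j ≠ 1 := by rintro h; simp [h] at hj
    have h2 : x j ≠ -1 := by rintro h; simp [h] at hj
    rcases (show x j ≤ -3 ∨ 3 ≤ x j by omega) with h | h <;> nlinarith
  rw [← Finset.add_sum_erase _ _ (Finset.mem_univ j)] at s1
  have s2 := Finset.sum_nonneg (s := Finset.univ.erase j) fun i _ => nn i
  have s3 := (Finset.sum_eq_zero_iff_of_nonneg (s := Finset.univ.erase j) fun i _ => nn i).1 (by omega)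
  refine ⟨j, ?_, fun i hi => k1 i (s3 i (by simp [hi]))⟩
  have : -4 < x j := by nlinarith
  have : x j < 4 := by nlinarith
  have := ho j
  have h1 : x j ≠ 1 := by rintro h; simp [h] at hj
  have h2 : x j ≠ -1 := by rintro h; simp [h] at hj
  omega

theorem Good.cntC (h : Good M) {x0 : GolayPt → ℤ} (h0 : x0 ∈ M) (ho : ¬ 2 ∣ x0 none) :
    {x | (x ∈ M ∧ sqNorm x = 32) ∧ ¬ 2 ∣ x none}.ncard ≤ 24 * Nat.card (code M) := by
  have odd : ∀ x ∈ M, ¬ 2 ∣ x none → ∀ i, x i % 2 = 1 := fun x hx hn i => by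
    have := h.par hx i none; omega
  rw [← Nat.card_coe_set_eq, ← card_golayPt, ← Nat.card_eq_fintype_card, ← Nat.card_prod]
  have sh := fun x : {x | (x ∈ M ∧ sqNorm x = 32) ∧ ¬ 2 ∣ x none} =>
    shapeC (odd x.1 x.2.1.1 x.2.2) x.2.1.2
  choose j hj using sh
  refine Nat.card_le_card_of_injective (fun x => (j x, ⟨fun i => (((x.1 i - x0 i) / 2 : ℤ) : ZMod 2),
    fun i => (x.1 i - x0 i) / 2, ?_, fun _ => rfl⟩)) ?_
  · convert M.sub_mem x.2.1.1 h0 using 1
    funext i
    have := odd _ x.2.1.1 x.2.2 i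
    have := odd _ h0 ho i
    simp only [Pi.sub_apply]; omega
  · intro x y e
    simp only [Prod.mk.injEq, Subtype.mk.injEq] at e
    refine Subtype.ext (funext fun i => ?_)
    have e1 := congrFun (congrArg Subtype.val e.2) i
    simp only at e1
    rw [ZMod.intCast_eq_intCast_iff_dvd_sub] at e1
    push_cast at e1
    have := odd _ h0 ho i
    by_cases hi : i = j x
    · have a := (hj x).1
      have b := (hj y).1
      rw [← e.1] at b
      rw [← hi] at a b
      omega
    · have a := (hj x).2 i hi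
      have b := (hj y).2 i (e.1 ▸ hi)
      omega

theorem split2 {S : Set (GolayPt → ℤ)} (P : (GolayPt → ℤ) → Prop) :
    S.ncard ≤ {v | v ∈ S ∧ P v}.ncard + {v | v ∈ S ∧ ¬ P v}.ncard := by
  refine le_trans (le_of_eq ?_) (Set.ncard_union_le _ _)
  congr 1
  ext v
  simp only [Set.mem_union, Set.mem_ofPred_eq]
  tauto

theorem Good.key (h : Good M) :
    (∃ x0 ∈ M, ¬ 2 ∣ x0 none) ∧ Module.finrank (ZMod 2) (code M) = 12 := by
  have c1 := split2 (S := {x | x ∈ M ∧ sqNorm x = 32}) (fun x => 2 ∣ x none)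
  have c2 := split2 (S := {v | v ∈ {x | x ∈ M ∧ sqNorm x = 32} ∧ 2 ∣ v none}) (fun x => ∀ l, 4 ∣ x l)
  have a1 : {v | v ∈ {v | v ∈ {x | x ∈ M ∧ sqNorm x = 32} ∧ 2 ∣ v none} ∧ ∀ l, 4 ∣ v l}.ncard ≤ 1104 :=
    le_trans (Set.ncard_le_ncard (t := {x | (x ∈ M ∧ sqNorm x = 32) ∧ ∀ l, 4 ∣ x l})
      (fun x hx => ⟨hx.1.1, hx.2⟩) (fin32 _)) cntA
  have a2 : {v | v ∈ {v | v ∈ {x | x ∈ M ∧ sqNorm x = 32} ∧ 2 ∣ v none} ∧ ¬ ∀ l, 4 ∣ v l}.ncard ≤
      128 * 759 :=
    le_trans (Set.ncard_le_ncard (t := {x | (x ∈ M ∧ sqNorm x = 32) ∧ 2 ∣ x none ∧ ¬ ∀ l, 4 ∣ x l})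
      (fun x hx => ⟨hx.1.1, hx.1.2, hx.2⟩) (fin32 _)) h.cntB
  rw [h.cnt] at c1
  have a3 : 98304 ≤ {v | v ∈ {x | x ∈ M ∧ sqNorm x = 32} ∧ ¬ 2 ∣ v none}.ncard := by omega
  obtain ⟨x0, hx0⟩ := Set.nonempty_of_ncard_ne_zero (s := {v | v ∈ {x | x ∈ M ∧ sqNorm x = 32} ∧
    ¬ 2 ∣ v none}) (by omega)
  refine ⟨⟨x0, hx0.1.1, hx0.2⟩, ?_⟩
  have a4 := a3.trans (h.cntC hx0.1.1 hx0.2)
  rw [Module.natCard_eq_pow_finrank (K := ZMod 2), Nat.card_zmod] at a4
  have a5 := h.dim_le
  by_contra hne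
  have : 2 ^ Module.finrank (ZMod 2) (code M) ≤ 2 ^ 11 := Nat.pow_le_pow_right (by norm_num) (by omega)
  omega

theorem Good.iso (h : Good M) : ∃ τ : (GolayPt → ℤ) →+ (GolayPt → ℤ), (∀ x, sqNorm (τ x) = sqNorm x) ∧
    (∀ x ∈ M, τ x ∈ leechLattice) ∧ ∀ y ∈ leechLattice, ∃ x ∈ M, τ x = y := by
  obtain ⟨⟨x0, h0, ho⟩, hd⟩ := h.key
  obtain ⟨e, he⟩ := code_unique card_golayPt hd h.orth h.hmin
  have odd : ∀ i, x0 i % 2 = 1 := fun i => by have := h.par h0 i none; omega
  let ε : GolayPt → ℤ := fun k => if x0 k % 4 = 1 then 1 else -1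
  have hε : ∀ k, ε k = 1 ∨ ε k = -1 := fun k => by simp only [ε]; split_ifs <;> simp
  let τ : (GolayPt → ℤ) →+ (GolayPt → ℤ) :=
    AddMonoidHom.mk' (fun x i => ε (e.symm i) * x (e.symm i)) fun x y => by funext i; simp [mul_add]
  have τa : ∀ x i, τ x i = ε (e.symm i) * x (e.symm i) := fun _ _ => rfl
  have τd : ∀ x y, dotInt (τ x) (τ y) = dotInt x y := by
    intro x y
    rw [dotInt, dotInt, ← Equiv.sum_comp e]
    refine Finset.sum_congr rfl fun i _ => ?_
    rw [τa, τa, Equiv.symm_apply_apply]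
    rcases hε i with h1 | h1 <;> rw [h1] <;> ring
  have τ0 : ∀ i, τ x0 i % 4 = 1 := by
    intro i
    rw [τa]
    have := odd (e.symm i)
    simp only [ε]
    split_ifs <;> omega
  have ev : ∀ y : GolayPt → ℤ, (fun i => 2 * y i) ∈ M →
      Cw ((support₂ fun i => (y i : ZMod 2)).map e.toEmbedding) ∧
      (∀ i, 4 ∣ τ (fun i => 2 * y i) i - 0 -
        (if i ∈ (support₂ fun i => (y i : ZMod 2)).map e.toEmbedding then 2 else 0)) := by
    intro y hy
    refine ⟨(he _).1 ⟨_, ⟨y, hy, fun _ => rfl⟩, rfl⟩, fun i => ?_⟩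
    rw [τa]
    simp only [Finset.mem_map_equiv, mem_support₂, cast_ne_zero]
    rcases hε (e.symm i) with h1 | h1 <;> rw [h1] <;> split_ifs <;> omega
  have ev2 : ∀ y : GolayPt → ℤ, (fun i => 2 * y i) ∈ M → τ (fun i => 2 * y i) ∈ leechLattice := by
    intro y hy
    refine mem_of_mod_four (ev y hy).1 (ev y hy).2 ?_
    have h1 := h.dot _ hy _ h0
    rw [← τd] at h1
    have h2 : (8 : ℤ) ∣ ∑ i, (τ (fun i => 2 * y i) i * τ x0 i - τ (fun i => 2 * y i) i) := by
      refine Finset.dvd_sum fun i _ => ?_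
      have := τ0 i
      obtain ⟨k, hk⟩ : 4 ∣ τ x0 i - 1 := by omega
      exact ⟨ε (e.symm i) * y (e.symm i) * k, by rw [← mul_sub_one, hk, τa]; ring⟩
    rw [Finset.sum_sub_distrib] at h2
    unfold dotInt at h1
    omega
  have m0 : τ x0 ∈ leechLattice := by
    refine mem_of_mod_four (m := 1) cw_empty (fun i => by have := τ0 i; simp; omega) ?_
    have h1 := h.even _ h0
    rw [← dotInt_self, ← τd, dotInt] at h1
    have h2 : (16 : ℤ) ∣ ∑ i, (τ x0 i * τ x0 i - 2 * τ x0 i + 1) := by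
      refine Finset.dvd_sum fun i _ => ?_
      have := τ0 i
      obtain ⟨k, hk⟩ : 4 ∣ τ x0 i - 1 := by omega
      exact ⟨k * k, by linear_combination (τ x0 i - 1 + 4 * k) * hk⟩
    rw [Finset.sum_add_distrib, Finset.sum_sub_distrib, ← Finset.mul_sum, Finset.sum_const,
      Finset.card_univ, card_golayPt] at h2
    simp only [nsmul_eq_mul, Nat.cast_ofNat] at h2
    omega
  have evM : ∀ x ∈ M, 2 ∣ x none → τ x ∈ leechLattice := by
    intro x hx h2
    have h3 : ∀ i, 2 ∣ x i := fun i => by have := h.par hx i none; omega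
    choose y hy using h3
    rw [funext hy] at hx ⊢
    exact ev2 y hx
  have sur : ∀ y ∈ leechLattice, 2 ∣ y none → ∃ x ∈ M, τ x = y := by
    intro y hy h2
    obtain ⟨m, s, hm, hs, h4, -⟩ := exists_mod_four hy
    have hm0 : m = 0 := by have := h4 none; split_ifs at this <;> omega
    subst hm0
    obtain ⟨w, ⟨z, hz, ez⟩, ew⟩ := (he (s.map e.symm.toEmbedding)).2 (by
      rw [Finset.map_map]; simpa using hs)
    have e1 : (support₂ fun i => (z i : ZMod 2)).map e.toEmbedding = s := by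
      rw [← funext ez, ew, Finset.map_map]; simp
    have h5 := (ev z hz).2
    rw [e1] at h5
    have hd := leechLattice.sub_mem hy (ev2 z hz)
    have h6 : ∀ i, 4 ∣ (y - τ fun i => 2 * z i) i := fun i => by
      have := h4 i; have := h5 i; simp only [Pi.sub_apply]; omega
    have h7 := eight_dvd_sum_sub hd none
    choose d hd' using h6
    have h8 : 2 ∣ ∑ i, d i := by
      simp only [hd', ← Finset.mul_sum] at h7; omega
    have h9 : 2 ∣ ∑ k, ε k * d (e k) := by
      have : (2 : ℤ) ∣ ∑ k, (ε k * d (e k) - d (e k)) := by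
        refine Finset.dvd_sum fun k _ => ?_
        rcases hε k with h1 | h1 <;> rw [h1] <;> omega
      rw [Finset.sum_sub_distrib, Equiv.sum_comp e d] at this
      omega
    refine ⟨_, M.add_mem hz (h.four _ h9), ?_⟩
    rw [map_add]
    funext i
    have := hd' i
    simp only [Pi.sub_apply] at this
    rw [Pi.add_apply, τa (fun k => 4 * (ε k * d (e k))), Equiv.apply_symm_apply]
    rcases hε (e.symm i) with h1 | h1 <;> rw [h1] <;> omega
  refine ⟨τ, fun x => by rw [← dotInt_self, τd, dotInt_self], fun x hx => ?_, fun y hy => ?_⟩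
  · by_cases h2 : 2 ∣ x none
    · exact evM x hx h2
    · have := leechLattice.add_mem (evM _ (M.sub_mem hx h0) (by simp only [Pi.sub_apply]; omega)) m0
      rwa [← map_add, sub_add_cancel] at this
  · by_cases h2 : 2 ∣ y none
    · exact sur y hy h2
    · obtain ⟨x, hx, e⟩ := sur _ (leechLattice.sub_mem hy m0) (by
        have := τ0 none; simp only [Pi.sub_apply]; omega)
      exact ⟨x + x0, M.add_mem hx h0, by rw [map_add, e, sub_add_cancel]⟩

theorem frame {L : Type} [AddCommGroup L] [Module.Finite ℤ L] (R : Rootless L)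
    (hr : Module.finrank ℤ L = 24) {x : L}
    (h48 : {y | R.B y y = 8 ∧ ∃ z, x - y = 2 • z}.ncard = 48) :
    ∃ f : GolayPt → L, (∀ i, R.B (f i) (f i) = 8) ∧ (∀ i j, i ≠ j → R.B (f i) (f j) = 0) ∧
      ∀ i j, ∃ z, f i - f j = 2 • z := by
  classical
  have hf := Set.finite_of_ncard_ne_zero (s := {y | R.B y y = 8 ∧ ∃ z, x - y = 2 • z}) (by omega)
  rw [Set.ncard_eq_toFinset_card _ hf] at h48
  set s := hf.toFinset
  have hs : ∀ y, y ∈ s ↔ R.B y y = 8 ∧ ∃ z, x - y = 2 • z := fun y => Set.Finite.mem_toFinset _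
  have h0 : ∀ y ∈ s, y ≠ 0 := by rintro y hy rfl; have := ((hs _).1 hy).1; simp at this
  have hc : ∀ a ∈ s, ∀ b ∈ s, ∃ z, a - b = 2 • z := by
    intro a ha b hb
    obtain ⟨-, z, hz⟩ := (hs a).1 ha
    obtain ⟨-, w, hw⟩ := (hs b).1 hb
    exact ⟨w - z, by rw [smul_sub, ← hz, ← hw]; abel⟩
  obtain ⟨_, -⟩ := exists_wellFoundedLT L
  have ho : ∀ a ∈ s.filter fun x => x < -x, ∀ b ∈ s.filter fun x => x < -x, a ≠ b → R.B a b = 0 := by
    intro a ha b hb hab
    rw [Finset.mem_filter] at ha hb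
    obtain ⟨z, hz⟩ := hc a ha.1 b hb.1
    rcases R.short_congr hab ((hs a).1 ha.1).1.le ((hs b).1 hb.1).1.le hz with e | e
    · subst e; rw [neg_neg] at ha; exact absurd ha.2 (lt_asymm hb.2)
    · exact e.2.2
  have h1 := R.card_le_of_ortho _ (fun y hy => h0 y (Finset.mem_filter.1 hy).1) ho
  have h2 : (s.filter fun x => ¬ x < -x).card ≤ (s.filter fun x => x < -x).card := by
    apply Finset.card_le_card_of_injOn (fun x => -x)
    · intro y hy
      simp only [Finset.coe_filter, Set.mem_ofPred_eq, neg_neg] at hy ⊢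
      refine ⟨?_, lt_of_le_of_ne (not_lt.1 hy.2) (R.ne_neg (h0 y hy.1)).symm⟩
      obtain ⟨a, z, hz⟩ := (hs y).1 hy.1
      exact (hs _).2 ⟨by simpa using a, z + y, by rw [smul_add, ← hz, two_nsmul]; abel⟩
    · exact neg_injective.injOn
  have h3 := Finset.card_filter_add_card_filter_not (s := s) (fun x => x < -x)
  let q : GolayPt ≃ (s.filter fun x => x < -x) :=
    Fintype.equivOfCardEq (by rw [card_golayPt, Fintype.card_coe]; omega)
  refine ⟨fun i => q i, fun i => ((hs _).1 (Finset.mem_filter.1 (q i).2).1).1,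
    fun i j hij => ho _ (q i).2 _ (q j).2 fun e => hij (q.injective (Subtype.ext e)),
    fun i j => hc _ (Finset.mem_filter.1 (q i).2).1 _ (Finset.mem_filter.1 (q j).2).1⟩

theorem coords {L : Type} [AddCommGroup L] [Module.Finite ℤ L] (R : Rootless L)
    (hr : Module.finrank ℤ L = 24) (f : GolayPt → L) (h8 : ∀ i, R.B (f i) (f i) = 8)
    (ho : ∀ i j, i ≠ j → R.B (f i) (f j) = 0) (h2 : ∀ i j, ∃ z, f i - f j = 2 • z) :
    ∃ ψ : L →+ (GolayPt → ℤ), (∀ x y, dotInt (ψ x) (ψ y) = 8 * R.B x y) ∧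
      ∀ w : GolayPt → ℤ, 2 ∣ ∑ i, w i → ∃ x, ψ x = fun i => 4 * w i := by
  classical
  let ψ : L →+ (GolayPt → ℤ) := AddMonoidHom.mk' (fun x i => R.B (f i) x) fun x y => by
    funext i; simp
  have ψa : ∀ x i, ψ x i = R.B (f i) x := fun _ _ => rfl
  have ψf : ∀ j i, ψ (f j) i = if i = j then 8 else 0 := by
    intro j i
    rw [ψa]
    split_ifs with h
    · rw [h, h8]
    · exact ho i j h
  have par : ∀ x, (8 : ℤ) • x = ∑ i, ψ x i • f i := by
    intro x
    by_contra hne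
    set z := (8 : ℤ) • x - ∑ i, ψ x i • f i with hz
    have hz0 : z ≠ 0 := sub_ne_zero.2 hne
    have hzf : ∀ j, R.B (f j) z = 0 := by
      intro j
      rw [← ψa, hz, map_sub, map_zsmul, map_sum, Pi.sub_apply, Finset.sum_apply]
      simp only [map_zsmul, Pi.smul_apply, ψf, smul_eq_mul, mul_ite, mul_zero, Finset.sum_ite_eq,
        Finset.mem_univ, if_true]
      ring
    have inj : Function.Injective f := by
      intro i j e
      by_contra hij
      have := ho i j hij
      rw [e, h8] at this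
      omega
    have hn : z ∉ Finset.univ.image f := by
      intro hm
      obtain ⟨j, -, e⟩ := Finset.mem_image.1 hm
      have := hzf j
      rw [← e, h8] at this
      omega
    have := R.card_le_of_ortho (insert z (Finset.univ.image f)) (by
      intro y hy
      rcases Finset.mem_insert.1 hy with rfl | hy
      · exact hz0
      · obtain ⟨j, -, rfl⟩ := Finset.mem_image.1 hy
        intro e
        have := h8 j
        rw [e] at this
        simp at this) (by
      intro a ha b hb hab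
      rcases Finset.mem_insert.1 ha with rfl | ha <;> rcases Finset.mem_insert.1 hb with rfl | hb
      · exact absurd rfl hab
      · obtain ⟨j, -, rfl⟩ := Finset.mem_image.1 hb
        rw [R.symm]; exact hzf j
      · obtain ⟨j, -, rfl⟩ := Finset.mem_image.1 ha
        exact hzf j
      · obtain ⟨i, -, rfl⟩ := Finset.mem_image.1 ha
        obtain ⟨j, -, rfl⟩ := Finset.mem_image.1 hb
        exact ho i j fun e => hab (by rw [e]))
    rw [Finset.card_insert_of_notMem hn, Finset.card_image_of_injective _ inj, Finset.card_univ,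
      card_golayPt, hr] at this
    omega
  refine ⟨ψ, fun x y => ?_, fun w hw => ?_⟩
  · have := congrArg (R.B y) (par x)
    rw [map_zsmul, map_sum, smul_eq_mul, R.symm] at this
    rw [this, dotInt]
    refine Finset.sum_congr rfl fun i _ => ?_
    rw [map_zsmul, smul_eq_mul, R.symm, ψa y]
  · choose z hz using fun i => h2 i none
    obtain ⟨k, hk⟩ := hw
    have hz' : ∀ i l, ψ (z i) l = (if l = i then 4 else 0) - if l = none then 4 else 0 := by
      intro i l
      have := congrFun (congrArg ψ (hz i)) l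
      rw [map_sub, map_nsmul, Pi.sub_apply, ψf, ψf, Pi.smul_apply, nsmul_eq_mul] at this
      push_cast at this
      split_ifs at this ⊢ <;> omega
    refine ⟨∑ i, w i • z i + k • f none, funext fun l => ?_⟩
    rw [map_add, map_sum, map_zsmul, Pi.add_apply, Finset.sum_apply, Pi.smul_apply, ψf]
    simp only [map_zsmul, Pi.smul_apply, hz', smul_eq_mul, mul_sub, Finset.sum_sub_distrib,
      mul_ite, mul_zero, Finset.sum_ite_eq, Finset.mem_univ, if_true]
    split_ifs
    · rw [← Finset.sum_mul, hk]; ring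
    · simp; ring

/-- A rank-24 even lattice with no roots and the stated numbers of vectors of norms 4, 6, 8 is isomorphic to the Leech lattice. -/
theorem result (B : Matrix (Fin 24) (Fin 24) ℤ) (hsymm : B.IsSymm) (hpos : ∀ x : Fin 24 → ℤ, x ≠ 0 → 0 < x ⬝ᵥ (B *ᵥ x)) (heven : ∀ x : Fin 24 → ℤ, (2 : ℤ) ∣ x ⬝ᵥ (B *ᵥ x)) (h2 : ∀ x : Fin 24 → ℤ, x ⬝ᵥ (B *ᵥ x) ≠ 2) (h4 : {x : Fin 24 → ℤ | x ⬝ᵥ (B *ᵥ x) = 4}.ncard = 196560) (h6 : {x : Fin 24 → ℤ | x ⬝ᵥ (B *ᵥ x) = 6}.ncard = 16773120) (h8 : {x : Fin 24 → ℤ | x ⬝ᵥ (B *ᵥ x) = 8}.ncard = 398034000) : ∃ f : (Fin 24 → ℤ) ≃+ Cfsg.leechLattice, ∀ x : Fin 24 → ℤ, Cfsg.sqNorm ((f x : Cfsg.leechLattice) : Cfsg.GolayPt → ℤ) = 8 * (x ⬝ᵥ (B *ᵥ x)) := by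
  let R := gramRootless B hsymm hpos heven h2
  have hr : Module.finrank ℤ (Fin 24 → ℤ) = 24 := by simp
  obtain ⟨x8, hx8⟩ := Set.nonempty_of_ncard_ne_zero (s := {x : Fin 24 → ℤ | x ⬝ᵥ (B *ᵥ x) = 8}) (by omega)
  obtain ⟨f, f8, fo, f2⟩ := frame R hr ((R.classes hr h4 h6 h8 x8).2 hx8)
  obtain ⟨ψ, hψ, h4w⟩ := coords R hr f f8 fo f2
  have hn : ∀ x, sqNorm (ψ x) = 8 * R.B x x := fun x => by rw [← dotInt_self, hψ]
  have inj : Function.Injective ψ := by
    rw [injective_iff_map_eq_zero]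
    intro x hx
    by_contra h0
    have h1 := R.min x h0
    have h3 := hn x
    rw [hx, sqNorm_zero] at h3
    omega
  have hG : Good ψ.range := by
    refine ⟨?_, ?_, ?_, h4w, ?_⟩
    · rintro _ ⟨x, rfl⟩ _ ⟨y, rfl⟩; rw [hψ]; exact dvd_mul_right _ _
    · rintro _ ⟨x, rfl⟩; rw [hn]; have := R.even x; omega
    · rintro _ ⟨x, rfl⟩ h
      by_cases h0 : x = 0
      · rw [h0, map_zero]
      · have := R.min x h0; rw [hn] at h; omega
    · rw [← h4, ← Set.ncard_image_of_injective _ inj]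
      congr 1
      ext y
      constructor
      · rintro ⟨⟨x, rfl⟩, h⟩
        refine ⟨x, ?_, rfl⟩
        rw [hn] at h
        show R.B x x = 4
        omega
      · rintro ⟨x, hx, rfl⟩
        refine ⟨⟨x, rfl⟩, ?_⟩
        rw [hn, show R.B x x = 4 from hx]; rfl
  obtain ⟨τ, t1, t2, t3⟩ := hG.iso
  let g : (Fin 24 → ℤ) →+ leechLattice := (τ.comp ψ).codRestrict _ fun x => t2 _ ⟨x, rfl⟩
  have hg : ∀ x, sqNorm (g x : GolayPt → ℤ) = 8 * R.B x x := fun x => (t1 _).trans (hn x)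
  refine ⟨AddEquiv.ofBijective g ⟨?_, fun y => ?_⟩, hg⟩
  · rw [injective_iff_map_eq_zero]
    intro x hx
    by_contra h0
    have h1 := R.min x h0
    have h3 := hg x
    rw [hx] at h3
    have : sqNorm ((0 : leechLattice) : GolayPt → ℤ) = 0 := sqNorm_zero
    omega
  · obtain ⟨_, ⟨x, rfl⟩, e⟩ := t3 y y.2
    exact ⟨x, Subtype.ext e⟩

end Cfsg.Agent.S0406
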