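import Cfsg.Statements.S0412
import Cfsg.Agent.Lib.Golay.Model

set_option autoImplicit false
open Cfsg

namespace Cfsg.Agent.S0412

open Cfsg.Lib.Golay
open scoped Pointwise
set_option maxRecDepth 100000
set_option linter.unusedSimpArgs false
set_option maxHeartbeats 400000

/-- Aut of an S(5, 8, 24) is simple of order 244823040 and 5-transitive on points. -/
theorem result {α : Type*} [Fintype α] [DecidableEq α] (hα : Fintype.card α = 24) {B : Set (Finset α)} (hB : Cfsg.IsSteinerSystem 5 8 B) : Cfsg.IsM24 (Cfsg.setSystemAut B) ∧ MulAction.IsMultiplyPretransitive (Cfsg.setSystemAut B) α 5 := by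

  obtain ⟨f, h⟩ := model24 hα hB
  obtain ⟨e, he⟩ := h.aut_equiv (K := M24) (fun m _ => by simp) (fun g _ => by simp)
    (fun g _ => by simp) (fun g hg m hm => by
      rw [octs_empty] at *; exact (smul_mem_octads_iff hg).mpr hm)
    (fun g _ h1 => Equiv.ext fun p => h1 p (by simp))
    (fun σ _ h1 => ⟨σ, by
      rw [octs_empty] at h1; rw [M24_eq_aut_octads]; exact mem_setSystemAut_iff.mpr h1, fun _ _ => rfl⟩)
  have := simple_M24
  exact ⟨⟨e.symm.isSimpleGroup, by rw [← Nat.card_congr e.toEquiv, card_M24]⟩,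
    h.multiplyPretransitive he fun x y _ _ => exists_M24_emb le_rfl x y⟩

end Cfsg.Agent.S0412
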