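import Cfsg.Statements.S0413
import Cfsg.Agent.Lib.Golay.Model

set_option autoImplicit false
open Cfsg

namespace Cfsg.Agent.S0413

open Cfsg.Lib.Golay
open scoped Pointwise
set_option maxRecDepth 100000
set_option linter.unusedSimpArgs false
set_option maxHeartbeats 400000

/-- Aut of an S(4, 7, 23) is simple of order 10200960 and 4-transitive. -/
theorem result {α : Type*} [Fintype α] [DecidableEq α] (hα : Fintype.card α = 23) {B : Set (Finset α)} (hB : Cfsg.IsSteinerSystem 4 7 B) : Cfsg.IsM23 (Cfsg.setSystemAut B) ∧ MulAction.IsMultiplyPretransitive (Cfsg.setSystemAut B) α 4 := by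

  obtain ⟨f, h⟩ := model23 hα hB
  have hF : ∀ g ∈ Spor.M23, g • om 0x800000 = om 0x800000 := fun g hg =>
    smul_eq_of_fix fun p hp => by
      rw [F1_eq] at hp; rw [show p = none by simpa using hp]; exact hg.2
  have hn : ∀ p, p ∈ Finset.univ \ om 0x800000 ↔ p ≠ none := by simp [F1_eq]
  obtain ⟨e, he⟩ := h.aut_equiv (K := Spor.M23) (fun m hm => ⟨hm.2, by simp⟩) hF
    (fun g _ => by simp) (fun g hg m hm =>
      ⟨(smul_mem_octads_iff hg.1).mpr hm.1, hF g hg ▸ (smul_subset_smul' _ _ _).mpr hm.2⟩)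
    (fun g hg h1 => Equiv.ext fun p => by
      by_cases hp : p = none
      · rw [hp]; exact hg.2
      · exact h1 p ((hn p).mpr hp))
    (fun σ hσ h1 => ⟨σ, ⟨aut1 fun o ho => (h1 o ho).1,
      mem_symOn.mp hσ _ (Or.inl (by simp [F1_eq]))⟩, fun _ _ => rfl⟩)
  have := simple_M23
  refine ⟨⟨e.symm.isSimpleGroup, by rw [← Nat.card_congr e.toEquiv, card_M23]⟩,
    h.multiplyPretransitive he fun x y hx hy => ?_⟩
  obtain ⟨g, hg, h1⟩ := exists_M24_emb le_rfl (Fin.Embedding.cons x (a := none) (by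
    rintro ⟨i, e⟩; exact (hn _).mp (hx i) e)) (Fin.Embedding.cons y (a := none) (by
    rintro ⟨i, e⟩; exact (hn _).mp (hy i) e))
  exact ⟨g, ⟨hg, h1 0⟩, fun i => h1 i.succ⟩

end Cfsg.Agent.S0413
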