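import Cfsg.Statements.S0414
import Cfsg.Agent.Lib.Golay.Model

set_option autoImplicit false
open Cfsg

namespace Cfsg.Agent.S0414

open Cfsg.Lib.Golay
open scoped Pointwise
set_option maxRecDepth 100000
set_option linter.unusedSimpArgs false
set_option maxHeartbeats 400000

/-- Aut of an S(3, 6, 22) has order 887040, is 3-transitive, and contains a simple subgroup of index 2. -/
theorem result {α : Type*} [Fintype α] [DecidableEq α] (hα : Fintype.card α = 22) {B : Set (Finset α)} (hB : Cfsg.IsSteinerSystem 3 6 B) : Nat.card (Cfsg.setSystemAut B) = 887040 ∧ MulAction.IsMultiplyPretransitive (Cfsg.setSystemAut B) α 3 ∧ ∃ H : Subgroup (Cfsg.setSystemAut B), H.index = 2 ∧ Cfsg.IsM22 H := by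

  obtain ⟨f, h⟩ := model22 hα hB
  have hn : ∀ p, p ∈ om 0x800001 ↔ p = some 0 ∨ p = none := by simp [F2_eq, F1_eq]
  obtain ⟨e, he⟩ := h.aut_equiv (K := HD2) (fun m hm => ⟨hm.2, by simp⟩) (fun g hg => hg.2)
    (fun g _ => by simp) (fun g hg m hm =>
      ⟨(smul_mem_octads_iff hg.1).mpr hm.1, hg.2 ▸ (smul_subset_smul' _ _ _).mpr hm.2⟩)
    (fun g hg h1 => by
      obtain ⟨σ, hσ, e⟩ := exists_M24_two (a := some 0) (b := none) (a' := gc.pt 7) (b' := gc.pt 8)
        (by decide) (by decide)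
      have := eq_one_of_fix_base (σ := σ * g * σ⁻¹) (mul_mem (mul_mem hσ hg.1) (inv_mem hσ)) fun i hi => by
        obtain ⟨p, hp⟩ := exists_eq_smul σ (gc.pt i)
        rw [hp, conj_apply_smul, h1 p]
        simp only [Finset.mem_sdiff, Finset.mem_univ, true_and, hn]
        rintro (rfl | rfl)
        · exact (by decide : ∀ i < 7, gc.pt i ≠ gc.pt 7) i hi (hp.trans e.1)
        · exact (by decide : ∀ i < 7, gc.pt i ≠ gc.pt 8) i hi (hp.trans e.2)
      simpa [mul_assoc] using congrArg (fun z => σ⁻¹ * z * σ) this)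
    (fun σ hσ h1 => by
      have h2 : ∀ p ∈ om 0x800001, σ p = p := fun p hp => mem_symOn.mp hσ _ (Or.inl hp)
      obtain ⟨y, hy, h3⟩ := aut2 h2 fun o ho => (h1 o ho).1
      refine ⟨_, ⟨h3, ?_⟩, fun p hp => ?_⟩
      · show (_ * σ) • _ = _
        rw [mul_smul, smul_eq_of_fix h2]
        rcases (hn y).mp hy with rfl | rfl <;> decide +kernel
      · have := (apply_mem_iff_of_smul_eq (smul_eq_of_fix h2) p).not.mpr (Finset.mem_sdiff.mp hp).2
        exact Equiv.swap_apply_of_ne_of_ne (fun e => this (e ▸ by decide +kernel)) fun e => this (e ▸ hy))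
  have hle : Spor.M22 ≤ HD2 := fun g hg => ⟨M22_le hg, smul_eq_of_fix fun p hp => by
    rcases (hn p).mp hp with rfl | rfl; exacts [hg.2, hg.1.2]⟩
  have hc : Nat.card (setSystemAut B) = 887040 := by rw [← Nat.card_congr e.toEquiv, HD2_aux.2]
  have e2 : (Spor.M22.subgroupOf HD2).map e.toMonoidHom ≃* Spor.M22 :=
    (e.subgroupMap _).symm.trans (Subgroup.subgroupOfEquivOfLe hle)
  have := simple_M22
  have h2 : Nat.card ((Spor.M22.subgroupOf HD2).map e.toMonoidHom) = 443520 := by
    rw [Nat.card_congr e2.toEquiv, card_M22]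
  refine ⟨hc, h.multiplyPretransitive he fun x y hx hy => ?_, _, ?_, e2.isSimpleGroup, h2⟩
  · simp only [Finset.mem_sdiff, Finset.mem_univ, true_and, hn, not_or] at hx hy
    obtain ⟨g, hg, h1⟩ := exists_M24_list (l := [none, some 0, x 0, x 1, x 2])
      (l' := [none, some 0, y 0, y 1, y 2]) (by simp [Ne.symm (hx _).1, Ne.symm (hx _).2])
      (by simp [Ne.symm (hy _).1, Ne.symm (hy _).2]) rfl (by simp)
    simp only [List.map_cons, List.map_nil, List.cons.injEq, and_true] at h1
    exact ⟨g, hle ⟨⟨hg, h1.1⟩, h1.2.1⟩, fun i => by fin_cases i; exacts [h1.2.2.1, h1.2.2.2.1, h1.2.2.2.2]⟩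
  · have := Subgroup.card_mul_index ((Spor.M22.subgroupOf HD2).map e.toMonoidHom)
    rw [h2, hc] at this; omega

end Cfsg.Agent.S0414
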