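import Cfsg.Statements.S0426
import Cfsg.Agent.Lib.Golay.Model

set_option autoImplicit false
open Cfsg

namespace Cfsg.Agent.S0426

open Cfsg.Lib.Golay
open scoped Pointwise
set_option maxRecDepth 100000
set_option linter.unusedSimpArgs false
set_option maxHeartbeats 400000

/-- Aut of an S(4, 5, 11) is simple of order 7920 and sharply 4-transitive on points. -/
theorem result {α : Type*} [Fintype α] [DecidableEq α] (hα : Fintype.card α = 11) {B : Set (Finset α)} (hB : Cfsg.IsSteinerSystem 4 5 B) : Cfsg.IsM11 (Cfsg.setSystemAut B) ∧ MulAction.IsMultiplyPretransitive (Cfsg.setSystemAut B) α 4 ∧ ∀ x : Fin 4 ↪ α, MulAction.stabilizer (Cfsg.setSystemAut B) x = ⊥ := by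

  obtain ⟨f, h⟩ := model11 hα hB
  have h0 : ∀ p, p ∈ om 1 ↔ p = some 0 := by decide +kernel
  have hF : ∀ g ∈ Spor.M11, g • om 1 = om 1 := fun g hg =>
    smul_eq_of_fix fun p hp => by rw [(h0 p).mp hp]; exact hg.2
  have hc : ∀ b ∈ hexadsOn (om 0x5335f), om 0x5335f \ b ∈ hexadsOn (om 0x5335f) := fun b hb => by
    obtain ⟨m, hm, rfl⟩ := mem_hex132.mp hb
    obtain ⟨x, hx, e⟩ := (by decide +kernel : ∀ m ∈ hex132, ∃ x ∈ hex132, om x = om 0x5335f \ om m) m hm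
    exact mem_hex132.mpr ⟨x, hx, e⟩
  obtain ⟨e, he⟩ := h.aut_equiv (K := Spor.M11) (fun m hm => ⟨hm.2, hexad_subset hm.1⟩) hF
    (fun g hg => (mem_M11.mp hg).2.1) (fun g hg m hm => ⟨by
      rw [← (mem_M11.mp hg).2.1]; exact (smul_mem_hexadsOn (M11_le hg)).mpr hm.1,
      hF g hg ▸ (smul_subset_smul' _ _ _).mpr hm.2⟩)
    (fun g hg h1 => M12_eq_one_of_fix hg.1 fun i hi => by
      by_cases h2 : i = 0
      · rw [h2]; exact hg.2
      · exact h1 _ (by revert i; decide +kernel))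
    (fun σ hσ h1 => by
      have hD := symOn_smul_right hσ
      have h2 : ∀ b ∈ hexadsOn (om 0x5335f), some 0 ∈ b → σ • b ∈ hexadsOn (om 0x5335f) :=
        fun b hb h3 => (h1 b ⟨hb, fun p hp => (h0 p).mp hp ▸ h3⟩).1
      obtain ⟨g, hg, h3⟩ := aut_hex hD fun b hb => by
        by_cases h4 : some 0 ∈ b
        · exact h2 b hb h4
        · have := hc _ (h2 _ (hc b hb) (Finset.mem_sdiff.mpr ⟨zero_mem_D0, h4⟩))
          rwa [← smul_sdiff', hD, Finset.sdiff_sdiff_eq_self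
            (hD ▸ (smul_subset_smul' _ _ _).mpr (hexad_subset hb))] at this
      exact ⟨g, ⟨hg, (h3 _ zero_mem_D0).trans (mem_symOn.mp hσ _ (Or.inl ((h0 _).mpr rfl)))⟩,
        fun p hp => h3 p (Finset.mem_sdiff.mp hp).1⟩)
  have := simple_M11
  have hx : ∀ x : Fin 4 ↪ GolayPt, (∀ i, x i ∈ om 0x5335f \ om 1) → ∃ y : Fin 5 ↪ GolayPt,
      y 0 = some 0 ∧ (∀ i : Fin 4, y i.succ = x i) ∧ ∀ i, y i ∈ om 0x5335f := fun x hx =>
    ⟨Fin.Embedding.cons x (a := some 0) (by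
      rintro ⟨i, e⟩; exact (Finset.mem_sdiff.mp (hx i)).2 ((h0 _).mpr e)), rfl, fun _ => rfl,
      fun i => Fin.cases zero_mem_D0 (fun i => (Finset.mem_sdiff.mp (hx i)).1) i⟩
  refine ⟨⟨e.symm.isSimpleGroup, by rw [← Nat.card_congr e.toEquiv, card_M11]⟩,
    h.multiplyPretransitive he fun x y h1 h2 => ?_,
    fun x => stabilizer_eq_bot_of_model he x fun g hg h1 => ?_⟩
  · obtain ⟨x', a1, a2, a3⟩ := hx x h1
    obtain ⟨y', b1, b2, b3⟩ := hx y h2
    obtain ⟨g, hg, h3⟩ := exists_M12_emb x' y' a3 b3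
    exact ⟨g, ⟨hg, by have := h3 0; rwa [a1, b1] at this⟩, fun i => by rw [← a2, ← b2, h3]⟩
  · obtain ⟨x', a1, a2, a3⟩ := hx (x.trans f) fun i => h.mem _
    exact M12_eq_one_of_fix_emb hg.1 x' a3 fun i => Fin.cases (by rw [a1]; exact hg.2)
      (fun i => by rw [a2]; exact h1 i) i

end Cfsg.Agent.S0426
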