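import Cfsg.Statements.S0418
import Cfsg.Agent.Lib.Golay.Jordan
import Cfsg.Agent.S0426

set_option autoImplicit false
open Cfsg

namespace Cfsg.Agent.S0418

open Cfsg.Lib.Golay
open scoped Pointwise
set_option maxRecDepth 100000
set_option linter.unusedSimpArgs false
set_option maxHeartbeats 400000

/-- A sharply 4-transitive group of degree 11 is simple of order 7920. -/
theorem result {α : Type*} [Fintype α] [DecidableEq α] (hα : Fintype.card α = 11) (G : Subgroup (Equiv.Perm α)) [MulAction.IsMultiplyPretransitive G α 4] (hsharp : ∀ x : Fin 4 ↪ α, MulAction.stabilizer G x = ⊥) : Cfsg.IsM11 G := by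

  have h := sharp_univ hsharp
  obtain ⟨h1, B, h2, h3, e, h4, h5, h6⟩ := h.core (hα.ge.trans' (by norm_num))
  obtain ⟨h7, h8⟩ := h.steiner (by rw [Finset.card_insert_of_notMem h5, h3]) (h.full le_rfl h1 h2 h3 h4 h5 h6)
  have h9 := (S0426.result hα h7).1
  rwa [Subgroup.eq_of_le_of_card_ge h8 (by rw [h9.2, h.card (h1.ge.trans' (by norm_num)), h1]; norm_num)]

end Cfsg.Agent.S0418
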