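import Cfsg.Statements.S0430
import Cfsg.Agent.Lib.Golay.SRG

set_option autoImplicit false
open Cfsg

namespace Cfsg.Agent.S0430

open Cfsg.Lib.Golay
open scoped Pointwise
set_option maxRecDepth 100000
set_option linter.unusedSimpArgs false
set_option maxHeartbeats 400000

/-- Uniqueness of the strongly regular graph with parameters (100, 22, 0, 6). -/
theorem result {V W : Type*} [Fintype V] [Fintype W] {G : SimpleGraph V} {H : SimpleGraph W} [DecidableRel G.Adj] [DecidableRel H.Adj] (hG : G.IsSRGWith 100 22 0 6) (hH : H.IsSRGWith 100 22 0 6) : Nonempty (G ≃g H) := by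

  classical
  obtain ⟨c, hc, h⟩ := srg_hs_rows hG
  obtain ⟨c', hc', h'⟩ := srg_hs_rows hH
  exact h.iso h' (hc.trans hc'.symm)

end Cfsg.Agent.S0430
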