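import Cfsg.Statements.S0431
import Cfsg.Agent.Lib.Golay.Graph

set_option autoImplicit false
open Cfsg

namespace Cfsg.Agent.S0431

open Cfsg.Lib.Golay
open scoped Pointwise
set_option maxRecDepth 100000
set_option linter.unusedSimpArgs false
set_option maxHeartbeats 400000

/-- Aut of the point-block graph of an S(3, 6, 22) contains a simple subgroup of order 44352000. -/
theorem result {α : Type*} [Fintype α] (hα : Fintype.card α = 22) {B : Set (Finset α)} (hB : Cfsg.IsSteinerSystem 3 6 B) : ∃ H : Subgroup (Cfsg.pointBlockGraph B ≃g Cfsg.pointBlockGraph B), Cfsg.IsHS H := by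

  classical
  obtain ⟨c, hc, h⟩ := pointBlock_rows hα hB
  have := simple_hs hc h
  have e := Subgroup.subgroupOfEquivOfLe (inf_le_left (a := autG (pointBlockGraph B)) (b := alternatingGroup _))
  have e' := ((autEquiv (pointBlockGraph B)).symm.subgroupMap _).symm.trans e
  exact ⟨_, e'.isSimpleGroup, (Nat.card_congr e'.toEquiv).trans (card_hs hc h)⟩

end Cfsg.Agent.S0431
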