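import Cfsg.Statements.S0437
import Cfsg.Agent.Lib.Known2.ThreeTr

set_option autoImplicit false
open Cfsg

namespace Cfsg.Agent.S0437
open Cfsg.Lib.Known2

/-- For three distinct, pairwise commuting members a, b, c of a set of 3-transpositions E, a member e of E centralises a * b * c if and only if it centralises each of a, b and c. -/
theorem result {G : Type*} [Group G] {E : Set G} (hE : Cfsg.IsThreeTranspositionSet E) {a b c e : G} (ha : a ∈ E) (hb : b ∈ E) (hc : c ∈ E) (he : e ∈ E) (hab : a ≠ b) (hac : a ≠ c) (hbc : b ≠ c) (h₁ : Commute a b) (h₂ : Commute a c) (h₃ : Commute b c) : Commute e (a * b * c) ↔ (Commute e a ∧ Commute e b ∧ Commute e c) := by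
  constructor
  · intro h
    by_cases hec : Commute e c
    · have hab' : Commute e (a * b) := by
        have : a * b = a * b * c * c := by rw [mul_assoc, tt_mul_self hE hc, mul_one]
        rw [this]; exact h.mul_right hec
      have := (tt_commute_mul_iff hE ha hb he hab h₁).1 hab'
      exact ⟨this.1, this.2, hec⟩
    by_cases heb : Commute e b
    · have hac' : Commute e (a * c) := by
        have : a * c = a * b * c * b := by
          rw [mul_assoc a b c, h₃.eq, mul_assoc, mul_assoc, tt_mul_self hE hb, mul_one]
        rw [this]; exact h.mul_right heb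
      exact absurd ((tt_commute_mul_iff hE ha hc he hac h₂).1 hac').2 hec
    by_cases hea : Commute e a
    · have hbc' : Commute e (b * c) := by
        have : b * c = a * (a * b * c) := by
          rw [mul_assoc a b c, tt_cancel hE ha]
        rw [this]; exact hea.mul_right h
      exact absurd ((tt_commute_mul_iff hE hb hc he hbc h₃).1 hbc').2 hec
    exfalso
    set z := a * b * c with hz
    have h4 := tt_string_pow_four hE ha hb he h₁ hea heb
    have h3 := tt_cube hE he hc hec
    have habc : Commute (a * b) c := h₂.mul_left h₃
    have hab2 : (a * b) * (a * b) = 1 := by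
      have := (commute_iff_sq_eq_one (tt_mul_self hE ha) (tt_mul_self hE hb)).1 h₁
      rwa [pow_two] at this
    have hz2 : z ^ 2 = 1 := (commute_iff_sq_eq_one hab2 (tt_mul_self hE hc)).1 habc
    have hec' : e * c = (e * (a * b)) * z := by
      rw [hz, mul_assoc e, ← mul_assoc (a * b), hab2, one_mul]
    have hcz : Commute (e * (a * b)) z := h.mul_left ((Commute.refl _).mul_right habc)
    rw [hec', hcz.mul_pow, pow_succ z, hz2, one_mul] at h3
    have h5 : e * (a * b) = z := by
      rw [pow_succ] at h4
      exact mul_left_cancel (h4.trans h3.symm)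
    have h6 : e = c := by
      rw [hz, habc.eq] at h5
      exact mul_right_cancel h5
    exact hec (h6 ▸ Commute.refl e)
  · rintro ⟨h1, h2, h3⟩
    exact (h1.mul_right h2).mul_right h3

end Cfsg.Agent.S0437
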