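import Cfsg.Statements.S0439
import Cfsg.Agent.Lib.Known2.ThreeTr

set_option autoImplicit false
open Cfsg

namespace Cfsg.Agent.S0439
open Cfsg.Lib.Known2 Equiv Equiv.Perm

/-- In the symmetric group of degree n ≥ 2, the set of transpositions is a conjugacy class of 3-transpositions which generates the group. -/
theorem result (n : ℕ) (hn : 2 ≤ n) : Cfsg.IsThreeTranspositionClass {σ : Equiv.Perm (Fin n) | σ.IsSwap} := by
  refine ⟨⟨?_, ?_⟩, ?_, ?_⟩
  · rintro d ⟨x, y, hxy, rfl⟩
    exact orderOf_eq_two_of (swap_mul_self x y) (by simpa using hxy)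
  · rintro d ⟨x, y, hxy, rfl⟩ e ⟨z, w, hzw, rfl⟩
    have h3 : ∀ a b c : Fin n, a ≠ b → a ≠ c → b ≠ c → (swap a b * swap a c) ^ 3 = 1 := by
      intro a b c h1 h2 h3
      have := (isThreeCycle_swap_mul_swap_same h1 h2 h3).orderOf
      rw [← this, pow_orderOf_eq_one]
    have h2 : ∀ a b : Fin n, (swap a b * swap a b) ^ 2 = 1 := by
      intro a b; rw [swap_mul_self, one_pow]
    by_cases hxz : x = z
    · subst hxz
      by_cases hyw : y = w
      · subst hyw; left; exact h2 _ _
      · right; exact h3 _ _ _ hxy hzw hyw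
    by_cases hxw : x = w
    · subst hxw
      rw [swap_comm z x]
      by_cases hyz : y = z
      · subst hyz; left; exact h2 _ _
      · right; exact h3 _ _ _ hxy hxz hyz
    by_cases hyz : y = z
    · subst hyz
      rw [swap_comm x y]
      right; exact h3 _ _ _ hxy.symm hzw hxw
    by_cases hyw : y = w
    · subst hyw
      rw [swap_comm x y, swap_comm z y]
      right; exact h3 _ _ _ hxy.symm hyz hxz
    left
    apply (commute_iff_sq_eq_one (swap_mul_self x y) (swap_mul_self z w)).1
    apply Equiv.Perm.Disjoint.commute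
    intro a
    by_cases hax : a = x
    · right; subst hax; exact swap_apply_of_ne_of_ne hxz hxw
    by_cases hay : a = y
    · right; subst hay; exact swap_apply_of_ne_of_ne hyz hyw
    left; exact swap_apply_of_ne_of_ne hax hay
  · have h01 : (⟨0, by omega⟩ : Fin n) ≠ ⟨1, by omega⟩ := by simp
    refine ⟨swap ⟨0, by omega⟩ ⟨1, by omega⟩, ⟨_, _, h01, rfl⟩, ?_⟩
    ext σ
    constructor
    · rintro ⟨x, y, hxy, rfl⟩
      exact isConj_swap h01 hxy
    · intro h
      obtain ⟨c, rfl⟩ := isConj_iff.1 h
      refine ⟨c ⟨0, by omega⟩, c ⟨1, by omega⟩, c.injective.ne h01, ?_⟩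
      rw [swap_apply_apply]
  · exact closure_isSwap

end Cfsg.Agent.S0439
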