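import Cfsg.Statements.S1629
import Cfsg.Agent.Lib.Max.Inv2M

set_option autoImplicit false
open scoped MatrixGroups
open Cfsg

namespace Cfsg.Agent.S1629

open Cfsg.Lib.Forms Form Module

theorem ttc_of {G F V : Type*} [Group G] [Field F] [AddCommGroup V] [Module F V] {σ : F →+* F}
    (h2 : (2 : F) = 0) (ρ : G →* (V ≃ₗ[F] V)) (hρ : Function.Injective ρ) {D : Set G}
    (B : V →ₛₗ[σ] V →ₗ[F] F) (hB : ∀ p p', (B p p' = 0 ∧ B p' p = 0) ∨ B p p' * B p' p = 1)
    (hD : ∀ d ∈ D, d ≠ 1 ∧ ∃ p, B p p = 0 ∧ ∀ x, ρ d x = x + B p x • p) (hne : D.Nonempty)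
    (hc : ∀ d ∈ D, ∀ e ∈ D, d * d = 1 → e * e = 1 → IsConj d e)
    (hc' : ∀ d ∈ D, ∀ g, g * d * g⁻¹ ∈ D) (ht : Subgroup.closure D = ⊤) :
    IsThreeTranspositionClass D := by
  have h1 : ∀ d ∈ D, d * d = 1 := fun d hd => by
    obtain ⟨-, p, hp, H⟩ := hD d hd
    refine hρ (LinearEquiv.ext fun x => ?_)
    simp only [map_mul, map_one, LinearEquiv.mul_apply, H, map_add, map_smul, hp, smul_zero,
      add_zero, LinearEquiv.coe_one, id]
    linear_combination (norm := module) (B p x * h2) • p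
  obtain ⟨d, hd⟩ := hne
  refine ⟨⟨fun d hd => orderOf_eq_two_iff'.2 ⟨h1 d hd, (hD d hd).1⟩, fun d hd e he => ?_⟩,
    ⟨d, hd, Set.ext fun e => ⟨fun he => hc d hd e he (h1 d hd) (h1 e he), fun he => ?_⟩⟩, ht⟩
  · obtain ⟨-, p, hp, H⟩ := hD d hd
    obtain ⟨-, p', hp', H'⟩ := hD e he
    refine (hB p p').imp (fun h => ?_) fun h => ?_
    · have : d * e = e * d := hρ (LinearEquiv.ext fun x => by
        simp only [map_mul, LinearEquiv.mul_apply, H, H', map_add, map_smul, h.1, h.2, smul_zero,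
          add_zero]; abel)
      rw [sq]; nth_rw 2 [this]
      rw [mul_assoc, ← mul_assoc e, h1 e he, one_mul, h1 d hd]
    · have : d * e * d = e * d * e := hρ (LinearEquiv.ext fun x => by
        simp only [map_mul, LinearEquiv.mul_apply, H, H', map_add, map_smul, hp, hp', smul_eq_mul]
        linear_combination (norm := module) (B p x * h + B p x * h2) • p -
          (B p' x * h + B p' x * h2) • p')
      calc (d * e) ^ 3 = d * e * d * (e * d * e) := by simp only [pow_succ, pow_zero, one_mul, mul_assoc]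
        _ = d * (e * (d * d) * e) * d := by rw [← this]; simp only [mul_assoc]
        _ = 1 := by rw [h1 d hd, mul_one, h1 e he, mul_one, h1 d hd]
  · obtain ⟨g, rfl⟩ := isConj_iff.1 he
    exact hc' d hd g

theorem rank_conj {ι F : Type*} [Fintype ι] [DecidableEq ι] [Field F] {G : Type*} [Group G]
    (ρ : G →* Matrix ι ι F) (g d : G) : (ρ (g * d * g⁻¹) - 1).rank = (ρ d - 1).rank := by
  have : ρ (g * d * g⁻¹) - 1 = ρ g * (ρ d - 1) * ρ g⁻¹ := by
    rw [mul_sub, sub_mul, mul_one, ← map_mul ρ g g⁻¹, mul_inv_cancel, map_one, map_mul, map_mul]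
  rw [this, Matrix.rank_mul_eq_left_of_isUnit_det _ _
    ((Matrix.isUnit_iff_isUnit_det _).1 ((Group.isUnit _).map ρ)),
    Matrix.rank_mul_eq_right_of_isUnit_det _ _
    ((Matrix.isUnit_iff_isUnit_det _).1 ((Group.isUnit _).map ρ))]

theorem quad {F : Type*} [Field F] [Finite F] (h2 : (2 : F) = 0) (h01 : ∀ a : F, a = 0 ∨ a = 1)
    {ι : Type} [Fintype ι] [DecidableEq ι] {D : Form (quadKind F) (ι → F)}
    (hD : D.Nondeg) {Q : (ι → F) → F} (hQ : D.Q = Q) (hn : 4 < finrank F (ι → F)) :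
    IsThreeTranspositionClass {g : isometryGroup F Q | ((g.1 : Matrix ι ι F) - 1).rank = 1} := by
  have hr : ∀ v, D.Q v ≠ 0 → finrank F (supp (D.refl v).1) = 1 := fun v hv =>
    hD.finrank_range_rk1 _ (by simpa using hv) (by rintro rfl; simp at hv)
  refine ttc_of h2 (D.isom.subtype.comp (oIso D hQ).toMonoidHom)
    (Subtype.val_injective.comp (oIso D hQ).injective) D.B (fun p p' => ?_) (fun d hd => ?_) ?_
    (fun d hd e he h1 h1' => ?_) (fun d hd g => (rank_conj
      ((Units.coeHom (Matrix ι ι F)).comp (isometryGroup F Q).subtype) g d).trans hd) ?_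
  · rw [B_comm_two h2 p p']
    rcases h01 (D.B p p') with h | h <;> simp [h]
  · rw [Set.mem_ofPred, o_rank hQ] at hd
    obtain ⟨v, hv, e⟩ := hD.exists_eq_refl hd
    refine ⟨fun h => finrank_supp_pos.1 hd.ge (by rw [h, map_one]), v, Quad.B_self_two h2 v, fun x => ?_⟩
    show (oIso D hQ d).1 x = _
    rw [e, refl_apply, (h01 _).resolve_left hv, inv_one, one_mul, sub_eq_add_neg,
      neg_eq_of_add_eq_zero_left (vec_add_self h2 _)]
  · obtain ⟨g, -, hg, -⟩ := Quad.exists_invol h2 hD le_rfl (by omega)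
    exact ⟨(oIso D hQ).symm g, by rw [Set.mem_ofPred, o_rank hQ, MulEquiv.apply_symm_apply, hg]⟩
  · rw [Set.mem_ofPred, o_rank hQ] at hd he
    rw [← isConj_equiv (oIso D hQ), Quad.isConj_iff' h2 hD (by rw [← map_mul, h1, map_one])
      (by rw [← map_mul, h1', map_one])]
    exact ⟨hd.trans he.symm, iff_of_false (fun h => by simpa [hd] using Quad.altI_even h2 hD h)
      fun h => by simpa [he] using Quad.altI_even h2 hD h⟩
  · refine eq_top_iff.2 fun g _ => ?_
    rw [← (oIso D hQ).symm_apply_apply g]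
    refine hD.refl_induction (good_of_finrank hn.ne') (P := fun k => (oIso D hQ).symm k ∈ Subgroup.closure _)
      (by simp) (fun v k hv hk => ?_) _
    rw [map_mul]
    exact mul_mem (Subgroup.subset_closure
      (by rw [Set.mem_ofPred, o_rank hQ, MulEquiv.apply_symm_apply, hr v hv])) hk

/-- The orthogonal transvections of the plus-type orthogonal group in dimension 2m ≥ 6 over the field with two elements form a generating conjugacy class of 3-transpositions. -/
theorem result (m : ℕ) (hm : 3 ≤ m) : Cfsg.IsThreeTranspositionClass {g : ↥(Cfsg.isometryGroup (ZMod 2) (Cfsg.quadFormPlus m (ZMod 2))) | (((g : GL (Fin m ⊕ Fin m) (ZMod 2)) : Matrix (Fin m ⊕ Fin m) (Fin m ⊕ Fin m) (ZMod 2)) - 1).rank = 1} := by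
  exact quad rfl (by decide) (fPlus_nondeg m) fPlus_Q (by rw [finrank_plus]; omega)

end Cfsg.Agent.S1629
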