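import Cfsg.Statements.S0440
import Cfsg.Agent.Lib.Known2.F3
import Cfsg.Agent.S1629

set_option autoImplicit false
open Cfsg

namespace Cfsg.Agent.S0440
open Cfsg.Lib.Known2 Cfsg.Lib.Forms Module

/-- In the symplectic group in dimension 2n ≥ 2 over the field with two elements, the elements g for which g - 1 has rank one (the symplectic transvections) form a conjugacy class of 3-transpositions generating the group. -/
theorem result (n : ℕ) (hn : 1 ≤ n) : Cfsg.IsThreeTranspositionClass {g : Matrix.symplecticGroup (Fin n) (ZMod 2) | ((g : Matrix (Fin n ⊕ Fin n) (Fin n ⊕ Fin n) (ZMod 2)) - 1).rank = 1} := by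
  have hD := fSymp_nondeg (F := ZMod 2) n
  have k : ∀ g : Matrix.symplecticGroup (Fin n) (ZMod 2), ((g : Matrix (Fin n ⊕ Fin n) (Fin n ⊕ Fin n) (ZMod 2)) - 1).rank = 1 ↔
      ∃ p ≠ 0, Symp.tv (fSymp (ZMod 2) n) p 1 = spEquiv _ n g := fun g => by
    simp only [sp_rank, supp_rk1 hD, Symp.rk1_eq_tv]
    exact ⟨fun ⟨p, c, _, hp, hc, e⟩ => ⟨p, hp, z2_one hc ▸ e⟩, fun ⟨p, hp, e⟩ => ⟨p, 1, Symp.isRk1 _ _ _, hp, one_ne_zero, e⟩⟩
  refine S1629.ttc_of rfl ((fSymp (ZMod 2) n).isom.subtype.comp (spEquiv _ n).toMonoidHom)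
    (Subtype.val_injective.comp (spEquiv _ n).injective) (fSymp (ZMod 2) n).B (fun p p' => ?_) (fun d hd => ?_) ?_
    (fun d hd e he _ _ => ?_) (fun d hd g => (S1629.rank_conj
      ((Matrix.symplecticGroup (Fin n) (ZMod 2)).subtype) g d).trans hd) ?_
  · rw [Symp.B_symm _ p p']
    rcases z2 ((fSymp (ZMod 2) n).B p p') with h | h <;> simp [h]
  · obtain ⟨p, hp, e⟩ := (k d).1 hd
    refine ⟨fun h => by simp [h] at hd, p, Symp.B_self _ p, fun x => ?_⟩
    show (spEquiv _ n d).1 x = _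
    rw [← e, Symp.tv_apply, one_mul]
  · exact ⟨(spEquiv _ n).symm (Symp.tv _ (Pi.single (.inl ⟨0, hn⟩) 1) 1), (k _).2 ⟨Pi.single (.inl ⟨0, hn⟩) 1, by simp, by simp⟩⟩
  · obtain ⟨p, hp, e1⟩ := (k d).1 hd
    obtain ⟨q, hq, e2⟩ := (k e).1 he
    obtain ⟨g, rfl⟩ := Symp.exists_map hD hp hq
    exact isConj_iff.2 ⟨(spEquiv _ n).symm g, (spEquiv _ n).injective (by simp [← e1, ← e2, Symp.conj_tv])⟩
  · refine eq_top_iff.2 fun g _ => ?_
    have := Symp.eq_top_of_tv hD ((Subgroup.closure {g : Matrix.symplecticGroup (Fin n) (ZMod 2) |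
      ((g : Matrix (Fin n ⊕ Fin n) (Fin n ⊕ Fin n) (ZMod 2)) - 1).rank = 1}).comap (spEquiv _ n).symm.toMonoidHom) fun p c => by
      by_cases hp : p = 0
      · simp [hp]
      rcases z2 c with rfl | rfl
      · simp
      · exact Subgroup.subset_closure ((k _).2 ⟨p, hp, by simp⟩)
    rw [← (spEquiv _ n).symm_apply_apply g]
    exact (this ▸ Subgroup.mem_top (spEquiv _ n g) : spEquiv _ n g ∈ Subgroup.comap _ _)

end Cfsg.Agent.S0440
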