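import Cfsg.Statements.S0442
import Cfsg.Agent.Lib.Known2.ThreeTr

set_option autoImplicit false
open Cfsg

namespace Cfsg.Agent.S0442
open Cfsg.Lib.Known2

theorem conj_pow_inv {G : Type*} [Group G] {a b : G} (ha : a * a = 1) (hb : b * b = 1) (m : ℕ) :
    a * (a * b) ^ m = ((a * b) ^ m)⁻¹ * a := by
  have h : a * (a * b) * a⁻¹ = (a * b)⁻¹ := by
    rw [← mul_assoc, ha, one_mul, mul_inv_rev, inv_eq_of_mul_eq_one_right hb]
  have h2 : a * (a * b) ^ m * a⁻¹ = ((a * b) ^ m)⁻¹ := by
    rw [← conj_pow, h, inv_pow]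
  rw [← h2]; group

theorem even_case {G : Type*} [Group G] {a b : G} (ha : a * a = 1) (hb : b * b = 1) (m : ℕ)
    (h : (a * b) ^ (2 * m) = 1) : Commute ((a * b) ^ m) a := by
  have h1 : ((a * b) ^ m)⁻¹ = (a * b) ^ m := by
    apply inv_eq_of_mul_eq_one_right
    rw [← pow_add, ← two_mul, h]
  have := conj_pow_inv ha hb m
  rw [h1] at this
  exact this.symm

/-- A standard trick for producing elements of an involution centraliser: for an involution a and an element g, let b be the conjugate g⁻¹ * a * g. If a * b has odd order 2m + 1 then g * (a * b) ^ m commutes with a; if a * b has even order 2m then (a * b) ^ m and (a * (g * a * g⁻¹)) ^ m commute with a. -/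
theorem result {G : Type*} [Group G] (a g : G) (ha : orderOf a = 2) : (∀ m : ℕ, orderOf (a * (g⁻¹ * a * g)) = 2 * m + 1 → Commute (g * (a * (g⁻¹ * a * g)) ^ m) a) ∧ (∀ m : ℕ, orderOf (a * (g⁻¹ * a * g)) = 2 * m → Commute ((a * (g⁻¹ * a * g)) ^ m) a ∧ Commute ((a * (g * a * g⁻¹)) ^ m) a) := by
  have haa := mul_self_of_orderOf_two ha
  have hb : (g⁻¹ * a * g) * (g⁻¹ * a * g) = 1 := by
    calc _ = g⁻¹ * (a * a) * g := by group
      _ = 1 := by rw [haa]; group
  have hb' : (g * a * g⁻¹) * (g * a * g⁻¹) = 1 := by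
    calc _ = g * (a * a) * g⁻¹ := by group
      _ = 1 := by rw [haa]; group
  constructor
  · intro m hm
    set b := g⁻¹ * a * g with hbdef
    have h1 : (a * b) ^ (2 * m + 1) = 1 := hm ▸ pow_orderOf_eq_one _
    have h2 := conj_pow_inv haa hb m
    have h3 : a * g = g * b := by rw [hbdef]; group
    have h4 : b = a * (a * b) := by rw [← mul_assoc, haa, one_mul]
    have h5 : (a * b) ^ (m + 1) = ((a * b) ^ m)⁻¹ := by
      apply eq_inv_of_mul_eq_one_left
      rw [← pow_add, ← h1]; congr 1; omega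
    have h6 := conj_pow_inv haa hb (m + 1)
    show g * (a * b) ^ m * a = a * (g * (a * b) ^ m)
    calc g * (a * b) ^ m * a = g * (((a * b) ^ (m + 1))⁻¹ * a) := by rw [h5, inv_inv, mul_assoc]
      _ = g * (a * (a * b) ^ (m + 1)) := by rw [h6]
      _ = g * (a * (a * b)) * (a * b) ^ m := by rw [pow_succ']; simp only [mul_assoc]
      _ = a * (g * (a * b) ^ m) := by rw [← h4, ← h3, mul_assoc]
  · intro m hm
    have h1 : (a * (g⁻¹ * a * g)) ^ (2 * m) = 1 := hm ▸ pow_orderOf_eq_one _
    refine ⟨even_case haa hb m h1, even_case haa hb' m ?_⟩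
    have h2 : a * (g * a * g⁻¹) = (g * a) * (a * (g⁻¹ * a * g)) * (g * a)⁻¹ := by
      calc a * (g * a * g⁻¹) = a * g * (a⁻¹ * g⁻¹) := by
            rw [inv_eq_of_mul_eq_one_right haa]; group
        _ = (g * (a * a) * g⁻¹) * a * g * (a⁻¹ * g⁻¹) := by rw [haa]; group
        _ = _ := by group
    rw [h2, conj_pow, h1]; group

end Cfsg.Agent.S0442
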