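import Cfsg.Statements.S0444
import Cfsg.Agent.Lib.Known2.ThreeTr
import Cfsg.Agent.Lib.Known2.TCSym

set_option autoImplicit false
open Cfsg

namespace Cfsg.Agent.S0444
open Cfsg.Lib.Known2

theorem key : ∀ x : Equiv.Perm (Fin 3), x ≠ 1 → ∃ g h : Equiv.Perm (Fin 3),
    h * (x * g * x⁻¹ * g⁻¹) * h⁻¹ = Equiv.swap 0 1 * Equiv.swap 1 2 := by
  decide +kernel

/-- Two members of a set of 3-transpositions which do not commute generate a subgroup isomorphic to the symmetric group on three letters. -/
theorem result {G : Type*} [Group G] {E : Set G} (hE : Cfsg.IsThreeTranspositionSet E) {d e : G} (hd : d ∈ E) (he : e ∈ E) (h : ¬ Commute d e) : Nonempty (Subgroup.closure ({d, e} : Set G) ≃* Equiv.Perm (Fin 3)) := by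
  have h1 := tt_mul_self hE hd
  have h2 := tt_mul_self hE he
  obtain ⟨φ, e1, e2⟩ := TC.exists_hom_perm3 h1 h2 (tt_cube hE hd he h)
  have hinj : Function.Injective φ := by
    refine (injective_iff_map_eq_one φ).2 fun x hx => ?_
    by_contra hx1
    obtain ⟨g, k, e'⟩ := key x hx1
    have := congrArg φ e'
    simp only [map_mul, map_inv, hx, e1, e2] at this
    apply h
    have h4 : d * e = 1 := by rw [← this]; group
    have := eq_inv_of_mul_eq_one_left h4
    rw [tt_inv hE he] at this
    rw [this]
  have hr : φ.range = Subgroup.closure ({d, e} : Set G) := by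
    have := TC.closure_adj_swaps 2 (fun s => [Equiv.swap 0 1, Equiv.swap 1 2].getD s 1) (by decide)
    rw [MonoidHom.range_eq_map, ← this, MonoidHom.map_closure]
    congr 1
    ext x
    simp only [Set.mem_image, Set.mem_setOf_eq, Set.mem_insert_iff, Set.mem_singleton_iff]
    constructor
    · rintro ⟨_, ⟨s, hs, rfl⟩, rfl⟩
      interval_cases s
      · left; exact e1
      · right; exact e2
    · rintro (rfl | rfl)
      · exact ⟨_, ⟨0, by norm_num, rfl⟩, e1⟩
      · exact ⟨_, ⟨1, by norm_num, rfl⟩, e2⟩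
  exact ⟨(MulEquiv.subgroupCongr hr.symm).trans (MonoidHom.ofInjective hinj).symm⟩

end Cfsg.Agent.S0444
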