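import Cfsg.Statements.S0446
import Cfsg.Agent.Lib.Known2.ThreeTr

set_option autoImplicit false
open Cfsg

namespace Cfsg.Agent.S0446
open Cfsg.Lib.Known2

/-- Every finite group of even order contains a 2-central involution, i.e. an element of order 2 in the centre of some Sylow 2-subgroup. -/
theorem result {G : Type*} [Group G] [Finite G] (h : Even (Nat.card G)) : ∃ t : G, Cfsg.IsTwoCentralInvolution t := by
  have : Fact (Nat.Prime 2) := ⟨Nat.prime_two⟩
  obtain ⟨P⟩ : Nonempty (Sylow 2 G) := inferInstance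
  have hP : Nontrivial P := by
    have h1 : 2 ∣ Nat.card P := P.dvd_card_of_dvd_card h.two_dvd
    rw [← Finite.one_lt_card_iff_nontrivial]
    have := Nat.le_of_dvd Nat.card_pos h1
    omega
  have hc := P.isPGroup'.center_nontrivial
  have hZ : IsPGroup 2 (Subgroup.center P) := P.isPGroup'.to_subgroup _
  obtain ⟨k, hk, hcard⟩ := hZ.nontrivial_iff_card.1 hc
  obtain ⟨t, ht⟩ := exists_prime_orderOf_dvd_card' (G := Subgroup.center P) 2
    (by rw [hcard]; exact dvd_pow_self 2 hk.ne')
  refine ⟨((t : P) : G), ?_, P, (t : P).2, ?_⟩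
  · rw [Subgroup.orderOf_coe, Subgroup.orderOf_coe, ht]
  · intro x hx
    have := Subgroup.mem_center_iff.1 t.2 ⟨x, hx⟩
    exact congrArg Subtype.val this

end Cfsg.Agent.S0446
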