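import Cfsg.Statements.S0447
import Cfsg.Agent.Lib.Linear.AltSix

set_option autoImplicit false
open Cfsg

namespace Cfsg.Agent.S0447

/-- Involutions in double covers of alternating groups: for n ≤ 7, a finite non-split double cover of the alternating group of degree n has exactly one element of order 2 (the central one); for degree 8 there is a non-split double cover with two distinct involutions. -/
theorem result : (∀ (n : ℕ) (H : Type) (_ : Group H) (_ : Finite H), n ≤ 7 → Cfsg.IsNonsplitDoubleCover H (alternatingGroup (Fin n)) → ∀ x y : H, orderOf x = 2 → orderOf y = 2 → x = y) ∧ ∃ (H : Type) (_ : Group H) (_ : Finite H), Cfsg.IsNonsplitDoubleCover H (alternatingGroup (Fin 8)) ∧ ∃ x y : H, x ≠ y ∧ orderOf x = 2 ∧ orderOf y = 2 := by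
  refine ⟨fun n H _ _ hn h x y hx hy => ?_, Cfsg.Lib.Linear.exists_cover_alt_eight⟩
  have h1 := Cfsg.Lib.Linear.mem_center_of_nonsplit hn h (hx ▸ pow_orderOf_eq_one x)
  have h2 := Cfsg.Lib.Linear.mem_center_of_nonsplit hn h (hy ▸ pow_orderOf_eq_one y)
  obtain ⟨z, -, hz⟩ := (Nat.card_eq_two_iff' (1 : Subgroup.center H)).1 h.1
  have e1 := hz ⟨x, h1⟩ fun e => by simp [show x = 1 from congrArg Subtype.val e] at hx
  have e2 := hz ⟨y, h2⟩ fun e => by simp [show y = 1 from congrArg Subtype.val e] at hy
  exact congrArg Subtype.val (e1.trans e2.symm)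

end Cfsg.Agent.S0447
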