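import Cfsg.Statements.S0454
import Cfsg.Agent.Lib.Comp.Ly.Cent
import Cfsg.Agent.Lib.Comp.ThreeTr

set_option autoImplicit false
open Cfsg

namespace Cfsg.Agent.S0454

open Cfsg.Lib.Comp

/-- Existence of the Lyons group: there is a transitive permutation group of degree 8835156, simple of order 51765179004000000, whose point stabiliser is simple of the order of a group of type G2, and which has an involution whose centraliser is a non-split double cover of the alternating group of degree 11. -/
theorem result : ∃ H : Subgroup (Equiv.Perm (Fin 8835156)), Cfsg.IsLy H ∧ MulAction.IsPretransitive H (Fin 8835156) ∧ Cfsg.IsG2 (MulAction.stabilizer H (0 : Fin 8835156)) ∧ ∃ t : H, orderOf t = 2 ∧ Cfsg.IsNonsplitDoubleCover (Subgroup.centralizer ({t} : Set H)) (alternatingGroup (Fin 11)) := by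
  have := Ly.simple
  obtain ⟨H, e, h1, ⟨f⟩⟩ := exists_coset_fin Ly.index (by norm_num)
  have := Ly.simpleH
  have h : Ly.CT.map e.toMonoidHom = Subgroup.centralizer {e Ly.tt} := Subgroup.ext fun g => by
    obtain ⟨g, rfl⟩ := e.surjective g
    refine (Subgroup.mem_map_iff_mem e.injective).trans ?_
    rw [Subgroup.mem_centralizer_singleton_iff, Subgroup.mem_centralizer_singleton_iff, ← e.injective.eq_iff, map_mul,
      map_mul]
  refine ⟨H, ⟨e.symm.isSimpleGroup, (Nat.card_congr e.toEquiv).symm.trans Ly.card⟩, h1,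
    ⟨f.symm.isSimpleGroup, 5, (by norm_num : Nat.Prime 5).isPrimePow, by norm_num, ?_⟩, e Ly.tt,
    (e.orderOf_eq _).trans Ly.t_ord, nsdc_congr ((e.subgroupMap _).trans (MulEquiv.subgroupCongr h)).symm Ly.cover⟩
  rw [← Nat.card_congr f.toEquiv, Ly.cardH]; norm_num

end Cfsg.Agent.S0454
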