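import Cfsg.Statements.S0458
import Cfsg.Agent.Lib.Comp.J3x.Main
import Cfsg.Agent.Lib.Comp.Fin

set_option autoImplicit false
open Cfsg

namespace Cfsg.Agent.S0458

open Cfsg.Lib.Comp

/-- Janko's third group exists as a transitive permutation group of degree 6156 with point stabiliser of order 8160: a simple group of order 50232960. -/
theorem result : ∃ H : Subgroup (Equiv.Perm (Fin 6156)), Cfsg.IsJ3 H ∧ MulAction.IsPretransitive H (Fin 6156) ∧ Nat.card (MulAction.stabilizer H (0 : Fin 6156)) = 8160 := by
  obtain ⟨H, e, a, -, b⟩ := exists_fin_nets J3x.nets_ok (by norm_num) (by norm_num) J3x.simpleB (m := 8160) J3x.card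
  have := J3x.simple
  exact ⟨H, ⟨e.symm.isSimpleGroup, (Nat.card_congr e.toEquiv).symm.trans J3x.card⟩, a, b⟩

end Cfsg.Agent.S0458
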