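import Cfsg.Statements.S0459
import Cfsg.Agent.Lib.Ru.Model
-- import your own Cfsg.Agent.* helpers here

set_option autoImplicit false
open Cfsg

namespace Cfsg.Agent.S0459

open Cfsg.Lib.RuM Cfsg.Lib.Comp

/-- The Rudvalis group exists as a transitive permutation group of degree 4060: simple of order 145926144000, with point stabiliser of order 35942400 containing a simple subgroup of order 17971200 (the order of the Tits group). -/
theorem result : ∃ H : Subgroup (Equiv.Perm (Fin 4060)), Cfsg.IsRu H ∧ MulAction.IsPretransitive H (Fin 4060) ∧ Nat.card (MulAction.stabilizer H (0 : Fin 4060)) = 35942400 ∧ ∃ T : Subgroup (MulAction.stabilizer H (0 : Fin 4060)), Cfsg.IsTits T := by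
  obtain ⟨H, e, h1, ⟨e1⟩, h2⟩ := exists_fin_nets Rux.nets_ok (by norm_num) (by norm_num) Rux.simpleB (m := 35942400) Rux.card
  obtain ⟨e2, -⟩ := tits
  have := Rux.nets_ok.finite Rux.L
  have b := Rux.simpleB
  simp only [cnd_tt] at b
  have hc : Nat.card (cl (gp Rux.nets) Titsx.L) = 17971200 := (Nat.card_congr e2.toEquiv).symm.trans Titsx.card
  obtain ⟨T, -, ⟨e3⟩⟩ := sub_stab (c := 2) Subtype.val_injective (transOn_of_transB Rux.nets_ok (Subgroup.range_subtype _) b.1)
    (K := cl (gp Rux.nets) Titsx.L) ((tits_le.trans M1_le).trans (Subgroup.range_subtype _).ge)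
    (fun s hs => (stab0.1 s (M1_le (tits_le hs))).2 (tits_le hs)) (by rw [Rux.card, hc]) e1
  have := Rux.simple
  have := Titsx.simple
  exact ⟨H, ⟨e.symm.isSimpleGroup, (Nat.card_congr e.symm.toEquiv).trans Rux.card⟩, h1, h2,
    T, (e3.trans e2.symm).isSimpleGroup, (Nat.card_congr e3.toEquiv).trans hc⟩

end Cfsg.Agent.S0459
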