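import Cfsg.Statements.S0460
import Cfsg.Agent.Lib.Comp.ON.Sub

set_option autoImplicit false
open Cfsg

namespace Cfsg.Agent.S0460

open Cfsg.Lib.Comp

/-- The O'Nan group exists as a transitive permutation group of degree 122760: simple of order 460815505920, point stabiliser of order 3753792, and containing simple subgroups of orders 175560 and 7920. -/
theorem result : ∃ H : Subgroup (Equiv.Perm (Fin 122760)), Cfsg.IsON H ∧ MulAction.IsPretransitive H (Fin 122760) ∧ Nat.card (MulAction.stabilizer H (0 : Fin 122760)) = 3753792 ∧ (∃ K : Subgroup H, Cfsg.IsJ1 K) ∧ (∃ K : Subgroup H, Cfsg.IsM11 K) := by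
  obtain ⟨H, e, h1, -, h2⟩ := exists_fin_nets ON.nets_ok (by norm_num) (by norm_num) ON.simpleB (m := 3753792) ON.card
  obtain ⟨e1⟩ := ON.j1_iso
  obtain ⟨e2⟩ := ON.m11_iso
  obtain ⟨K1, ⟨e3⟩⟩ := exists_sub_iso Subtype.val_injective (ON.j1_le.trans (Subgroup.range_subtype _).ge) e
  obtain ⟨K2, ⟨e4⟩⟩ := exists_sub_iso Subtype.val_injective (ON.m11_le.trans (Subgroup.range_subtype _).ge) e
  have := ON.simple
  have := JRa.simple
  have := M11x.simple
  exact ⟨H, ⟨e.symm.isSimpleGroup, (Nat.card_congr e.symm.toEquiv).trans ON.card⟩, h1, h2,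
    ⟨K1, (e3.trans e1.symm).isSimpleGroup, (Nat.card_congr (e3.trans e1.symm).toEquiv).trans JRa.card⟩,
    ⟨K2, (e4.trans e2.symm).isSimpleGroup, (Nat.card_congr (e4.trans e2.symm).toEquiv).trans M11x.card⟩⟩

end Cfsg.Agent.S0460
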