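import Cfsg.Statements.S0462
import Cfsg.Agent.Lib.Comp.He.Sub
import Cfsg.Agent.Lib.Comp.S44x.Mat
import Cfsg.Agent.Lib.Comp.J3x.Mat

set_option autoImplicit false
open Cfsg

namespace Cfsg.Agent.S0462

open Cfsg.Lib.Comp

/-- The Held group exists as a transitive permutation group of degree 2058: simple of order 4030387200, with point stabiliser containing, with index 2, a copy of the 4-dimensional symplectic group over the field with four elements. -/
theorem result : ∃ H : Subgroup (Equiv.Perm (Fin 2058)), Cfsg.IsHe H ∧ MulAction.IsPretransitive H (Fin 2058) ∧ ∃ (F : Type) (_ : Field F) (_ : Fintype F), Fintype.card F = 4 ∧ ∃ N : Subgroup (MulAction.stabilizer H (0 : Fin 2058)), N.index = 2 ∧ Nonempty (N ≃* Matrix.symplecticGroup (Fin 2) F) := by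
  obtain ⟨H, e, h1, ⟨e0⟩, -⟩ := exists_fin_nets He.nets_ok (by norm_num) (by norm_num) He.simpleB (m := 1958400) He.card
  obtain ⟨e1⟩ := He.s44_iso
  obtain ⟨e2⟩ := S44x.iso J3x.card_K4
  have := He.nets_ok.finite He.L
  have := He.simple
  obtain ⟨N, hN, ⟨e3⟩⟩ := sub_stab (c := 2) Subtype.val_injective
    (transOn_of_transB He.nets_ok (Subgroup.range_subtype _) (cnd_tt.1 He.simpleB).1)
    (He.s44_le.trans (Subgroup.range_subtype _).ge) He.s44_fix
    (by rw [← Nat.card_congr e1.toEquiv, S44x.card]; exact He.card) e0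
  exact ⟨H, ⟨e.symm.isSimpleGroup, (Nat.card_congr e.symm.toEquiv).trans He.card⟩, h1, _, _, _, J3x.card_K4, N, hN,
    ⟨e3.trans (e1.symm.trans e2)⟩⟩

end Cfsg.Agent.S0462
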