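import Cfsg.Statements.S0464
import Cfsg.Agent.Lib.Comp.Th.Main

set_option autoImplicit false
open Cfsg

namespace Cfsg.Agent.S0464

theorem aux {G M : Type} [Group G] [Group M] {f : G →* M} (hf : Function.Injective f) (h : Cfsg.IsTh G)
    {K L : Subgroup G} (hK : K.index = 143127000) (hL : L ≤ K) (h3 : Cfsg.Is3D4 L) :
    ∃ H : Subgroup M, Cfsg.IsTh H ∧ ∃ K : Subgroup H, K.index = 143127000 ∧ ∃ L : Subgroup H, L ≤ K ∧ Cfsg.Is3D4 L := by
  have e : G ≃* f.range := MonoidHom.ofInjective hf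
  have e' : L ≃* L.map e.toMonoidHom := e.subgroupMap L
  have := h.1
  have := h3.1
  have h1 : Nat.card f.range = Nat.card G := (Nat.card_congr e.toEquiv).symm
  have h2 : Nat.card (L.map e.toMonoidHom) = Nat.card L := (Nat.card_congr e'.toEquiv).symm
  refine ⟨f.range, ⟨e.symm.isSimpleGroup, ?_⟩, K.map e.toMonoidHom, ?_, _, Subgroup.map_mono hL,
    e'.symm.isSimpleGroup, ?_⟩
  · rw [h1]; exact h.2
  · rw [Subgroup.index_map_of_bijective e.bijective, hK]
  · rw [h2]; exact h3.2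


/-- The Thompson group exists as a group of 248 × 248 matrices over the field with three elements: a simple subgroup of GL(248, 3) of order 90745943887872000, possessing a subgroup of index 143127000 which contains a simple subgroup of the order of a triality-twisted D4 group. -/
theorem result : ∃ H : Subgroup (GL (Fin 248) (ZMod 3)), Cfsg.IsTh H ∧ ∃ K : Subgroup H, K.index = 143127000 ∧ ∃ L : Subgroup H, L ≤ K ∧ Cfsg.Is3D4 L := by
  have h1 : Cfsg.IsTh Spor.Th := ⟨Lib.Comp.Th.simple, Lib.Comp.Th.card_all.1⟩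
  have h2 : Lib.Comp.cl Lib.Comp.Th.gam Lib.Comp.Th.LD ≤ Lib.Comp.Th.H := Lib.Comp.cl_mono (by decide)
  have h3 : Cfsg.Is3D4 (Lib.Comp.cl Lib.Comp.Th.gam Lib.Comp.Th.LD) :=
    ⟨Lib.Comp.Th.d_simple, 2, Nat.prime_two.isPrimePow, Lib.Comp.Th.d_ord.trans (by norm_num)⟩
  exact aux Lib.Comp.Th.card_all.2.1 h1 Lib.Comp.Th.card_all.2.2.1 h2 h3

end Cfsg.Agent.S0464
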