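import Cfsg.Statements.S0473
import Cfsg.Agent.Lib.Comp.Fi24.Sub
import Cfsg.Agent.Lib.Known2.FiC

set_option autoImplicit false
open Cfsg

namespace Cfsg.Agent.S0473

open Cfsg.Lib.Comp

/-- The largest Fischer 3-transposition group: a group of order 2 · 1255205709190661721292800 generated by a conjugacy class of 306936 3-transpositions, in which a transposition centraliser has order 2 · 4089470473293004800 and contains a simple subgroup of order 4089470473293004800; its subgroup of index 2 is simple and contains simple subgroups of orders 4089470473293004800 and 4030387200. -/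
theorem result : ∃ (G : Type) (_ : Group G) (_ : Finite G), Nat.card G = 2 * 1255205709190661721292800 ∧ ∃ D : Set G, Cfsg.IsThreeTranspositionClass D ∧ Nat.card D = 306936 ∧ (∀ d ∈ D, Nat.card (Subgroup.centralizer ({d} : Set G)) = 2 * 4089470473293004800 ∧ ∃ K : Subgroup G, K ≤ Subgroup.centralizer ({d} : Set G) ∧ Cfsg.IsFi23 K) ∧ ∃ H : Subgroup G, H.index = 2 ∧ Cfsg.IsFi24' H ∧ (∃ K : Subgroup H, Cfsg.IsFi23 K) ∧ (∃ K : Subgroup H, Cfsg.IsHe K) := by
  obtain ⟨P, -, -, h1⟩ := Cfsg.Lib.Known2.fi24_t24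
  obtain ⟨K, k1, k2, ⟨e⟩⟩ := Fi24.fi23_sub
  obtain ⟨M, m1, ⟨e'⟩⟩ := Fi24.he_le_comm
  have h2 : Nat.card (conjugatesOf (Fi24.γ 12)) = 306936 := h1
  have := Fi23.main.1
  have := He.main.1
  refine ⟨Spor.Fi24, inferInstance, inferInstance, Fi24.card24, _, P.cls, h2, fun d hd => ⟨?_, ?_⟩,
    commutator _, Fi24.comm_eq.2, ⟨Fi24.simple', Fi24.card24'⟩, ⟨K.subgroupOf _, ?_⟩, ⟨M.subgroupOf _, ?_⟩⟩
  · obtain ⟨e1⟩ := centralizer_equiv hd
    have h3 := (Subgroup.centralizer {Fi24.γ 12}).card_mul_index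
    rw [← card_conjugatesOf, h2, Fi24.card24] at h3
    rw [Nat.card_congr e1.toEquiv]
    exact Nat.eq_of_mul_eq_mul_right (by norm_num : 0 < 306936) (h3.trans (by norm_num))
  · obtain ⟨g, rfl⟩ := isConj_iff.1 hd
    have e1 := ((MulAut.conj g).subgroupMap K).symm.trans e
    refine ⟨_, ?_, e1.isSimpleGroup, (Nat.card_congr e1.toEquiv).trans Fi23.main.2⟩
    rintro _ ⟨x, hx, rfl⟩
    have := Subgroup.mem_centralizer_singleton_iff.1 (k2 hx)
    rw [Subgroup.mem_centralizer_singleton_iff]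
    change g * x * g⁻¹ * _ = _ * (g * x * g⁻¹)
    calc g * x * g⁻¹ * (g * Fi24.γ 12 * g⁻¹) = g * (x * Fi24.γ 12) * g⁻¹ := by group
      _ = _ := by rw [this]; group
  · have e1 := (Subgroup.subgroupOfEquivOfLe k1).trans e
    exact ⟨e1.isSimpleGroup, (Nat.card_congr e1.toEquiv).trans Fi23.main.2⟩
  · have e1 := (Subgroup.subgroupOfEquivOfLe m1).trans e'
    exact ⟨e1.isSimpleGroup, (Nat.card_congr e1.toEquiv).trans He.main.2⟩

end Cfsg.Agent.S0473
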