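import Cfsg.Statements.S0477
import Cfsg.Agent.Lib.Comp.Ly.Mcl

set_option autoImplicit false
open Cfsg

namespace Cfsg.Agent.S0477

open Cfsg.Lib.Comp

/-- In some simple group of the Lyons group's order there is an element of order 3 whose centraliser has centre of order 3 with quotient by the centre simple of order 898128000 (a triple cover of a group of McLaughlin's order). -/
theorem result : ∃ (G : Type) (_ : Group G) (_ : Finite G), Cfsg.IsLy G ∧ ∃ x : G, orderOf x = 3 ∧ Nat.card (Subgroup.center (Subgroup.centralizer ({x} : Set G))) = 3 ∧ Cfsg.IsMcL ((Subgroup.centralizer ({x} : Set G)) ⧸ Subgroup.center (Subgroup.centralizer ({x} : Set G))) := by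
  refine ⟨Spor.Ly, inferInstance, Ly.finLy, ⟨Ly.simple, Ly.card⟩, Ly.xe, Ly.x_ord, ?_⟩
  rw [show Subgroup.centralizer {Ly.xe} = Ly.MM from Ly.cenX]
  have e := (QuotientGroup.quotientMulEquivOfEq Ly.center_M).trans
    (QuotientGroup.quotientKerEquivOfSurjective _ Ly.piM_stem.1)
  have := Ly.mcl_simple
  exact ⟨Ly.center_M ▸ Ly.piM_ker, e.isSimpleGroup, (Nat.card_congr e.toEquiv).trans Ly.mcl_card⟩

end Cfsg.Agent.S0477
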