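import Cfsg.Statements.S0480
import Cfsg.Agent.Lib.Known2.F19

set_option autoImplicit false
open Cfsg

namespace Cfsg.Agent.S0480
open Cfsg.Lib.Known2

/-- The simple 3-transposition groups: if a finite non-abelian simple group G is generated by a conjugacy class of 3-transpositions, then G is isomorphic to a symplectic group Sp(2n, 2), or to a projective special unitary group PSU(n, 2) (defined over the field with four elements), or to the projective commutator subgroup of an orthogonal group in odd dimension over the field with three elements, or G has order 64561751654400, or G has order 4089470473293004800. -/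
theorem result {G : Type*} [Group G] [Finite G] [IsSimpleGroup G] (hna : ∃ x y : G, x * y ≠ y * x) {D : Set G} (hD : Cfsg.IsThreeTranspositionClass D) : (∃ n : ℕ, Nonempty (G ≃* Matrix.symplecticGroup (Fin n) (ZMod 2))) ∨ (∃ (F : Type) (_ : Field F) (_ : Fintype F) (n : ℕ), Fintype.card F = 4 ∧ Nonempty (G ≃* Cfsg.PSU n F 2)) ∨ (∃ m : ℕ, Nonempty (G ≃* Cfsg.POmega (ZMod 3) (Cfsg.quadFormOdd m (ZMod 3)))) ∨ Cfsg.IsFi22 G ∨ Cfsg.IsFi23 G := by
  obtain ⟨x, y, hxy⟩ := hna
  have hs : ¬ Group.IsSolvable G := fun h => hxy (IsSimpleGroup.comm_iff_isSolvable.2 h x y)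
  obtain ⟨P, hZ⟩ := prim_of_min hD (fun M hM n => (hM.eq_bot_or_eq_top.resolve_left n).symm ▸ le_top) hs
  have hp : commutator G = ⊤ := (inferInstance : (commutator G).Normal).eq_bot_or_eq_top.resolve_left fun e =>
    hxy (commutatorElement_eq_one_iff_mul_comm.1 (Subgroup.mem_bot.1 (e ▸ Subgroup.commutator_mem_commutator (Subgroup.mem_top x)
      (Subgroup.mem_top y))))
  have h := P.r3
  have t := hD.2.2
  rcases h.cls with c | ⟨n, hn, c⟩ | c | c | c | c
  · rcases h.symp_cases c with ⟨m, hm, T⟩ | T | T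
    · obtain ⟨e, -⟩ := T.iso hm t hZ
      have := no_sign hp e Equiv.Perm.sign (Equiv.swap ⟨0, by omega⟩ ⟨1, by omega⟩)
      rw [Equiv.Perm.sign_swap (by simp)] at this
      exact absurd this (by decide)
    · exact Or.inl ((T.iso h t hZ).imp fun _ ⟨e, _⟩ => ⟨e⟩)
    · exact (T.not_perfect h t hZ hp).elim
  · obtain ⟨F, _, _, a, e, -⟩ := c.iso hn t hZ
    exact Or.inr (Or.inl ⟨F, _, _, n, a, ⟨e⟩⟩)
  · exact Or.inr (Or.inr (Or.inl (c.1.pomega t hZ hp)))
  · obtain ⟨e, -⟩ := m22_iso P.grp P.prim (c.type hZ)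
    exact Or.inr (Or.inr (Or.inr (Or.inl ⟨‹_›, (Nat.card_congr e.toEquiv).trans Cfsg.Lib.Comp.Fi22.main.2⟩)))
  · obtain ⟨e, -⟩ := m23_iso P.grp P.prim (c.type hZ)
    exact Or.inr (Or.inr (Or.inr (Or.inr ⟨‹_›, (Nat.card_congr e.toEquiv).trans Cfsg.Lib.Comp.Fi23.main.2⟩)))
  · obtain ⟨e, -⟩ := c.iso t hZ
    exact (Cfsg.Lib.Comp.Fi24.not_mem_comm (x := 12) (by decide) (by
      rw [← e.apply_symm_apply (Cfsg.Lib.Comp.Fi24.γ 12), Cfsg.Lib.Forms.mem_commutator_equiv, hp]; trivial)).elim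

end Cfsg.Agent.S0480
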