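import Cfsg.Statements.S3199
import Cfsg.Agent.Lib.JT.Sy3
import Cfsg.Agent.Lib.Glaub.Fac

set_option autoImplicit false
open Cfsg

namespace Cfsg.Agent.S3199

open Subgroup Cfsg.Lib Cfsg.Lib.JT Cfsg.Lib.JT.Sy Cfsg.Lib.Amalg

set_option maxRecDepth 100000

theorem j2_jt : ∃ ψ : HH false →* Cfsg.Spor.J2, JT ψ := by
  have : Fact (Nat.Prime 2) := ⟨Nat.prime_two⟩
  have h1 := Cfsg.Agent.S1619.result.2.2.2
  have : Finite Cfsg.Spor.J2 := Nat.finite_of_card_ne_zero (by rw [h1]; norm_num)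
  have := Cfsg.Agent.S1620.result.1
  have hf := J2.γ_refl
  have hm : J2.γ 1 ∈ Cfsg.Spor.twoJ2 := subset_closure hf
  have h0 := Cfsg.Agent.S1623.result _ hf hm
  have t2 : (QuotientGroup.mk ⟨_, hm⟩ : Cfsg.Spor.J2) ^ 2 = 1 := by
    obtain ⟨r, -, hr⟩ := J2.isRefl_iff.1 hf
    rw [← QuotientGroup.mk_pow, show (⟨_, hm⟩ : Cfsg.Spor.twoJ2) ^ 2 = 1 from Subtype.ext ((sq (J2.γ 1)).trans (by rw [hr]; exact J2.rp_sq r))]; rfl
  generalize (QuotientGroup.mk ⟨_, hm⟩ : Cfsg.Spor.J2) = t at h0 t2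
  obtain ⟨Q, _, q1, q2, ⟨e⟩⟩ := h0
  have hC : Nat.card (centralizer ({t} : Set Cfsg.Spor.J2)) = 1920 := by
    rw [card_eq_card_quotient_mul_card_subgroup Q, (a5_facts e).2, q1]
  have ht : orderOf t = 2 := orderOf_eq_prime t2 fun e => by
    rw [e, centralizer_eq_top_iff_subset.2 (by simp), card_top, h1] at hC; omega
  obtain ⟨T, hT⟩ := Transfer.exists_sylowIn 2 (centralizer ({t} : Set Cfsg.Spor.J2))
  obtain ⟨P, rfl⟩ := (show Transfer.SylowIn 2 T ⊤ from ⟨le_top, hT.2, by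
    have h2 := relIndex_mul_index hT.1
    have h3 := (centralizer ({t} : Set Cfsg.Spor.J2)).card_mul_index
    rw [relIndex_top_right, ← h2, show (centralizer ({t} : Set Cfsg.Spor.J2)).index = 315 by rw [hC, h1] at h3; omega]
    exact fun h => hT.3 ((Nat.Coprime.dvd_mul_right (by norm_num)).1 h)⟩).exists_sylow_top
  obtain ⟨ψ, hψ, -⟩ := jt_of_simple ⟨ht, P, (hT.le_of_le_normalizer (Q := zpowers t) (IsPGroup.of_card (n := 1) (by simp [ht]))
    (zpowers_le.2 (mem_centralizer_singleton_iff.2 rfl)) fun g hg => Transfer.mem_normalizer_of_cj_le (Transfer.cj_le_iff.2 (by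
      rintro _ ⟨n, rfl⟩
      exact ⟨n, by rw [← conj_zpow, mem_centralizer_singleton_iff.1 (hT.1 hg), mul_inv_cancel_right]⟩))) (mem_zpowers _),
    fun x hx => mem_centralizer_singleton_iff.1 (hT.1 hx)⟩ Q q2 q1 e
  exact ⟨ψ, hψ⟩

/-- Let G be a finite group with no normal subgroup of index 2 whose Sylow 2-subgroups are isomorphic to those of the Hall–Janko group J₂, and let z be an involution central in a Sylow 2-subgroup of G. Then the centralizer of z modulo its largest normal subgroup of odd order is isomorphic to the centralizer of a 2-central involution in J₂ or to the centralizer of a 2-central involution in the third Janko group J₃. -/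
theorem result {G : Type*} [Group G] [Finite G]
    (S : Sylow 2 G) (P : Sylow 2 Cfsg.Spor.J2) (hS : Nonempty (↥(S : Subgroup G) ≃* ↥(P : Subgroup Cfsg.Spor.J2)))
    (h2 : ∀ H : Subgroup G, H.Normal → H.index ≠ 2)
    (z : G) (hz : orderOf z = 2) (hzS : z ∈ (S : Subgroup G)) (hzc : ∀ s ∈ (S : Subgroup G), s * z = z * s) :
    (∃ (z' : Cfsg.Spor.J2) (Q : Sylow 2 Cfsg.Spor.J2), orderOf z' = 2 ∧ z' ∈ (Q : Subgroup Cfsg.Spor.J2) ∧
        (∀ s ∈ (Q : Subgroup Cfsg.Spor.J2), s * z' = z' * s) ∧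
        Nonempty ((↥(Subgroup.centralizer ({z} : Set G)) ⧸ Cfsg.oddCore ↥(Subgroup.centralizer ({z} : Set G))) ≃*
          ↥(Subgroup.centralizer ({z'} : Set Cfsg.Spor.J2)))) ∨
      (∃ (F : Type) (_ : Field F) (_ : Fintype F) (ω : F), Fintype.card F = 4 ∧ ω ^ 2 + ω + 1 = 0 ∧
        ∃ (z' : Cfsg.Spor.J3 F ω) (Q : Sylow 2 (Cfsg.Spor.J3 F ω)), orderOf z' = 2 ∧ z' ∈ (Q : Subgroup (Cfsg.Spor.J3 F ω)) ∧
          (∀ s ∈ (Q : Subgroup (Cfsg.Spor.J3 F ω)), s * z' = z' * s) ∧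
          Nonempty ((↥(Subgroup.centralizer ({z} : Set G)) ⧸ Cfsg.oddCore ↥(Subgroup.centralizer ({z} : Set G))) ≃*
            ↥(Subgroup.centralizer ({z'} : Set (Cfsg.Spor.J3 F ω))))) := by
  have : Fact (Nat.Prime 2) := ⟨Nat.prime_two⟩
  have h1 := Cfsg.Agent.S1619.result.2.2.2
  have : Finite Cfsg.Spor.J2 := Nat.finite_of_card_ne_zero (by rw [h1]; norm_num)
  obtain ⟨φ, hφ⟩ := j2_jt
  obtain ⟨e⟩ := hS
  let φ1 := φ.comp T0.subtype
  have i1 : Function.Injective φ1 := hφ.inj.comp Subtype.val_injective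
  have s1 : Syl 2 φ1.range ⊤ := (syl_top P).of_card_ge (pgT.of_surjective _ φ1.rangeRestrict_surjective) le_top (by
    rw [(syl_top P).card_eq_pow, card_top, h1, ← Nat.card_congr (MonoidHom.ofInjective i1).toEquiv, card_TT,
      show Nat.factorization 604800 2 = 7 by rw [Nat.factorization_def _ Nat.prime_two]; decide +kernel]; norm_num)
  obtain ⟨g, -, hg⟩ := s1.exists_conj (syl_top P)
  let e1 : TT ≃* S := ((MonoidHom.ofInjective i1).trans (cjEquiv g _)).trans ((MulEquiv.subgroupCongr hg).trans e.symm)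
  let ψ : TT →* G := (S : Subgroup G).subtype.comp e1.toMonoidHom
  have hi : Function.Injective ψ := Subtype.val_injective.comp e1.injective
  have hr : ψ.range = S := by
    rw [MonoidHom.range_comp, MonoidHom.range_eq_top.2 e1.surjective, ← MonoidHom.range_eq_map, range_subtype]
  have hS : Syl 2 ψ.range ⊤ := hr ▸ syl_top S
  obtain ⟨k, rfl⟩ := hr.ge hzS
  have kc : ∀ l, k * l = l * k := fun l => hi (by rw [map_mul, map_mul, hzc _ (hr.le ⟨l, rfl⟩)])
  obtain rfl : k = Sy.z := (cen_z k (kc _) (kc _) (kc _) (kc _)).resolve_left (by rintro rfl; simp at hz)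
  obtain ⟨c, c1, c2⟩ := stepA (fun K hK => h2 K (normal_of_index_eq_two hK) hK) hi hS
  have hZ : ∀ x, ψ x ∈ centralizer {ψ Sy.z} := fun x => by rw [mem_centralizer_singleton_iff, ← map_mul, z_cen, map_mul]
  let ρ := QuotientGroup.mk' (oddCore (centralizer {ψ Sy.z}))
  let ψ1 := ψ.codRestrict _ hZ
  have s : St (ρ.comp ψ1) := by
    refine ⟨(injective_iff_map_eq_one _).2 fun x hx => ?_, ?_, fun g => ?_, ρ ⟨c, mem_centralizer_singleton_iff.2
      (mul_inv_eq_iff_eq_mul.1 c1)⟩, ?_⟩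
    · have := (Glaub.inf_ker_mk' (p := 2) (Q := ψ1.range) (pgT.of_surjective _ ψ1.rangeRestrict_surjective)).le ⟨⟨x, rfl⟩, hx⟩
      exact hi ((congrArg Subtype.val (mem_bot.1 this)).trans ψ.map_one.symm)
    · rw [MonoidHom.range_comp]
      refine Syl.map_top ?_ (QuotientGroup.mk'_surjective _)
      have := (hS.of_le (K := centralizer {ψ Sy.z}) (by rintro _ ⟨x, rfl⟩; exact hZ x) le_top).subgroupOf_top
      convert this using 1
      ext y
      exact ⟨fun ⟨x, hx⟩ => ⟨x, congrArg Subtype.val hx⟩, fun ⟨x, hx⟩ => ⟨x, Subtype.ext hx⟩⟩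
    · obtain ⟨g, rfl⟩ := QuotientGroup.mk'_surjective _ g
      change ρ g * ρ _ * (ρ g)⁻¹ = ρ _
      rw [← map_inv, ← map_mul, ← map_mul]
      exact congrArg ρ (Subtype.ext (mul_inv_eq_iff_eq_mul.2 (mem_centralizer_singleton_iff.1 g.2)))
    · change ρ _ * ρ _ * (ρ _)⁻¹ = ρ _
      rw [← map_inv, ← map_mul, ← map_mul]
      exact congrArg ρ (Subtype.ext c2)
  obtain ⟨f⟩ := s.main Core.pPrimeCore_quotient_pPrimeCore
  refine .inl ⟨φ z0, s1.toSylowTop, hφ.oz, ⟨Sy.z, rfl⟩, ?_, ⟨f.trans ((MonoidHom.ofInjective hφ.inj).trans (MulEquiv.subgroupCongr hφ.cent))⟩⟩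
  rintro _ ⟨x, rfl⟩
  exact (map_mul φ1 x Sy.z).symm.trans ((congrArg φ1 (z_cen x)).trans (map_mul φ1 Sy.z x))

end Cfsg.Agent.S3199
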