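import Cfsg.Statements.S1776
import Cfsg.Agent.Lib.JT.So6
import Cfsg.Agent.S3199

set_option autoImplicit false
open Cfsg

namespace Cfsg.Agent.S1776

open Subgroup Cfsg.Lib Cfsg.Lib.JT Cfsg.Lib.JT.So Cfsg.Lib.Core Cfsg.Lib.Layer Cfsg.Lib.SigC Cfsg.Lib.Push.ZC
open Cfsg.Lib.Amalg hiding le_cent_symm op_top
open Cfsg.Lib.JT.Sy hiding W cent_Q

set_option maxRecDepth 100000

theorem of_hy {G : Type*} [Group G] [Finite G] [IsSimpleGroup G] {ψ : TT →* G} (hi : Function.Injective ψ)
    (hS : Syl 2 ψ.range ⊤) : ∃ φ : HH false →* G, JT φ := by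
  have : Fact (Nat.Prime 2) := ⟨Nat.prime_two⟩
  have c1 : 128 ∣ Nat.card G := by
    rw [← card_TT, Nat.card_congr (MonoidHom.ofInjective hi).toEquiv]; exact card_subgroup_dvd_card _
  have s : Hy ψ := ⟨hi, hS, fun K hK => by
    rcases (normal_of_index_eq_two hK).eq_bot_or_eq_top with rfl | rfl
    · rw [index_bot] at hK; rw [hK] at c1; omega
    · simp at hK⟩
  have hO : pPrimeCore 2 G = ⊥ := oddCore_eq_bot_of_simple (even_iff_two_dvd.2 (Dvd.dvd.trans (by norm_num) c1))
  have h0 := main_aux _ G rfl ψ s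
  rw [hO, le_bot_iff, th, cpc_eq, ← BG1.map_pPrimeCore_subtype Nat.prime_two,
    map_eq_bot_iff_of_injective _ (subtype_injective _)] at h0
  obtain ⟨g, hg⟩ := s.iso_or.resolve_left fun h => by
    have e := zsplit hS ⟨z, rfl⟩ (Invol.mul_self_of_two s.oz) fun g _ => h g
    rw [← BG1.map_pPrimeCore_subtype Nat.prime_two, pPrimeCoreOf_top, hO, bot_sup_eq] at e
    have : (zpowers (ψ z)).Normal := ⟨by
      rintro _ ⟨n, rfl⟩ g
      exact ⟨n, by rw [← conj_zpow, show g * ψ z * g⁻¹ = ψ z from C_of_mem (e.ge (mem_top g)).2]⟩⟩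
    have c2 := Nat.card_zpowers (ψ z)
    rcases this.eq_bot_or_eq_top with e | e <;> rw [e, s.oz] at c2
    · simp at c2
    · rw [card_top] at c2; rw [c2] at c1; omega
  obtain ⟨χ, f, t, fz, e⟩ := s.loc
  let q := (QuotientGroup.quotientMulEquivOfEq h0).trans QuotientGroup.quotientBot
  let φ : HH false →* G := (Subgroup.subtype _).comp (f.symm.trans q).toMonoidHom
  have hφ : ∀ k, φ (f (χ k)) = ψ k := fun k => by
    change ((q (f.symm (f (χ k))) : centralizer {ψ z}) : G) = _
    rw [f.symm_apply_apply, e]; rfl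
  have φi : Function.Injective φ := Subtype.val_injective.comp (f.symm.trans q).injective
  refine ⟨φ, φi, ?_, ?_⟩
  · rw [← fz, hφ, MonoidHom.range_comp, MonoidHom.range_eq_top.2 (f.symm.trans q).surjective, ← MonoidHom.range_eq_map,
      range_subtype]
  rw [← fz, hφ]
  have fi : ∀ {k l}, f (χ k) = f (χ l) → k = l := fun e => t.inj (f.injective e)
  rcases inv_cls (f (χ u)) (by rw [← map_mul, ← map_mul, show u * u = 1 by decide +kernel, map_one, map_one]) with
    e | e | ⟨c, e | e⟩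
  · exact absurd (fi (l := 1) (by rw [e, map_one, map_one])) (by decide +kernel)
  · exact absurd (fi (e.trans fz.symm)) (by decide +kernel)
  · exact (isConj_iff.2 ⟨g, hg⟩).trans (isConj_iff.2 ⟨φ c, by rw [← hφ, e]; simp⟩).symm
  · have h1 : f (χ (m0 12)) * f (χ u) = f (χ u) * f (χ (m0 12)) := by
      rw [← map_mul, ← map_mul, show m0 12 * u = u * m0 12 by decide +kernel, map_mul, map_mul]
    have h2 := cent_a_sq (c⁻¹ * f (χ (m0 12)) * c) (by
      rw [show a0 = c⁻¹ * f (χ u) * c by rw [e]; group, ← inv_inv c, inv_inv c⁻¹, conj_mul, conj_mul, h1])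
    rw [← inv_inv c, inv_inv c⁻¹, conj_mul, conj_eq_one_iff, ← map_mul, ← map_mul] at h2
    exact absurd (fi (l := 1) (by rw [h2, map_one, map_one])) (by decide +kernel)

/-- Let G be a finite simple group whose Sylow 2-subgroups are isomorphic to a Sylow 2-subgroup of the second Janko group. Then G is isomorphic to the second Janko group or to the third Janko group. -/
theorem result {G : Type*} [Group G] [Finite G] [IsSimpleGroup G]
    (S : Sylow 2 G) (P : Sylow 2 Cfsg.Spor.J2) (hS : Nonempty (↥(S : Subgroup G) ≃* ↥(P : Subgroup Cfsg.Spor.J2))) :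
    Cfsg.Spor.IsoJ2 G ∨ Cfsg.Spor.IsoJ3 G := by
  have : Fact (Nat.Prime 2) := ⟨Nat.prime_two⟩
  have h1 := Cfsg.Agent.S1619.result.2.2.2
  have : Finite Cfsg.Spor.J2 := Nat.finite_of_card_ne_zero (by rw [h1]; norm_num)
  obtain ⟨φ, hφ⟩ := S3199.j2_jt
  obtain ⟨e⟩ := hS
  let φ1 := φ.comp T0.subtype
  have i1 : Function.Injective φ1 := hφ.inj.comp Subtype.val_injective
  have s1 : Syl 2 φ1.range ⊤ := (syl_top P).of_card_ge (pgT.of_surjective _ φ1.rangeRestrict_surjective) le_top (by
    rw [(syl_top P).card_eq_pow, card_top, h1, ← Nat.card_congr (MonoidHom.ofInjective i1).toEquiv, card_TT,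
      show Nat.factorization 604800 2 = 7 by rw [Nat.factorization_def _ Nat.prime_two]; decide +kernel]; norm_num)
  obtain ⟨g, -, hg⟩ := s1.exists_conj (syl_top P)
  let e1 : TT ≃* S := ((MonoidHom.ofInjective i1).trans (cjEquiv g _)).trans ((MulEquiv.subgroupCongr hg).trans e.symm)
  let ψ : TT →* G := (S : Subgroup G).subtype.comp e1.toMonoidHom
  have hi : Function.Injective ψ := Subtype.val_injective.comp e1.injective
  have hr : ψ.range = S := by
    rw [MonoidHom.range_comp, MonoidHom.range_eq_top.2 e1.surjective, ← MonoidHom.range_eq_map, range_subtype]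
  obtain ⟨θ, hθ⟩ := of_hy hi (hr ▸ syl_top S)
  exact (em _).symm.imp (isoJ2 hθ) (isoJ3 hθ)

end Cfsg.Agent.S1776
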