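import Cfsg.Statements.S0503
import Cfsg.Agent.Lib.NC.F
import Cfsg.Agent.S1776
import Cfsg.Agent.Lib.Layer.Transf

set_option autoImplicit false
open Cfsg

namespace Cfsg.Agent.S0503

open Subgroup Cfsg.Lib Cfsg.Lib.NC Cfsg.Lib.Amalg

theorem hom_triv {G A : Type*} [Group G] [IsSimpleGroup G] [CommGroup A] (ψ : G →* A) {a b : G} (h : ¬ Commute a b) (x : G) :
    ψ x = 1 := by
  rcases (MonoidHom.normal_ker ψ).eq_bot_or_eq_top with e | e
  · exact absurd ((MonoidHom.ker_eq_bot_iff ψ).1 e (a₁ := a * b) (a₂ := b * a) (by rw [map_mul, map_mul, mul_comm])) h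
  · exact e.ge (mem_top _)

universe v in
theorem ab_quot {P : Type v} [Group P] (M : Subgroup P) [M.Normal] (hc : ∀ x y : P, (x * y)⁻¹ * (y * x) ∈ M) :
    ∃ (A : Type v) (_ : CommGroup A) (φ : P →* A), φ.ker = M :=
  ⟨P ⧸ M, { (inferInstance : Group (P ⧸ M)) with
    mul_comm := fun x y => by
      obtain ⟨x, rfl⟩ := QuotientGroup.mk_surjective x
      obtain ⟨y, rfl⟩ := QuotientGroup.mk_surjective y
      exact QuotientGroup.eq.2 (hc x y) }, QuotientGroup.mk' M, QuotientGroup.ker_mk' M⟩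

/-- A finite simple group containing an elementary abelian subgroup of order 8 whose Sylow 2-subgroups have a
disconnected commuting graph of Klein four-subgroups is simple of order 604800 or 50232960. -/
theorem result {G : Type*} [Group G] [Finite G] [IsSimpleGroup G]
    (h3 : ¬ Cfsg.PRankLE 2 2 G) (S : Sylow 2 G) (hS : ¬ Cfsg.IsFourConnected (S : Subgroup G)) :
    Cfsg.IsJ2 G ∨ Cfsg.IsJ3 G := by
  have : Fact (Nat.Prime 2) := ⟨Nat.prime_two⟩
  obtain ⟨u, z, t, s0⟩ := exists_St S.isPGroup' (fun h => h3 (syl_rank S h)) hS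
  obtain ⟨b, b1, b2, b3, b4⟩ := s0.exists_b
  have s : S2 u z t b := ⟨s0, b1, b2, b3, b4⟩
  have pq : IsPGroup 2 ((centralizer {u}).map (S : Subgroup G).subtype) := (S.isPGroup'.to_subgroup _).map _
  have nab : ¬ Commute t.1 u.1 := fun c => s.ntu (Subtype.ext c)
  have u1 : u ≠ 1 := fun e => s.ntu (e ▸ Commute.one_right t)
  by_cases hu : IsConj z.1 u.1
  · obtain ⟨k, h1, h2⟩ := H1 s.zc hu pq cen_u
    obtain ⟨f, hf, e⟩ := mkf h2
    obtain ⟨ψ0, h0⟩ := s.isoT f hf fun x hx => Subtype.ext (by rw [e, hx, h1])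
    have hr : ((S : Subgroup G).subtype.comp ψ0).range = S := by
      rw [MonoidHom.range_comp, MonoidHom.range_eq_top.2 h0.2, ← MonoidHom.range_eq_map, range_subtype]
    obtain ⟨φ, h⟩ := S1776.of_hy (ψ := (S : Subgroup G).subtype.comp ψ0) (Subtype.val_injective.comp h0.1) (by rw [hr]; exact syl_top S)
    by_cases ha : IsConj (φ Lib.JT.z0) (φ Lib.JT.a0)
    · exact .inr ⟨inferInstance, Lib.JT.card_of_isoJ3 (Lib.JT.isoJ3 h ha)⟩
    · exact .inl ⟨inferInstance, Lib.JT.card_of_isoJ2 (Lib.JT.isoJ2 h ha)⟩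
  exfalso
  have zz : z.1 * z.1 = 1 := congrArg Subtype.val s.zz
  have oz : orderOf z.1 = 2 := orderOf_eq_prime (by rw [sq, zz]) fun e => s.z1 (Subtype.ext e)
  have hO : pPrimeCore 2 G = ⊥ := SigC.oddCore_eq_bot_of_simple (even_iff_two_dvd.2 (oz ▸ orderOf_dvd_natCard _))
  have s3 := s.toS3 hu (by_contra fun hh => by
    have e := JT.So.zsplit (syl_top S) z.2 zz fun g _ h => by_contra fun ne =>
      hh ⟨⟨_, h⟩, isConj_iff.2 ⟨g, rfl⟩, fun e => ne (congrArg Subtype.val e)⟩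
    rw [← BG1.map_pPrimeCore_subtype Nat.prime_two, Core.pPrimeCoreOf_top, hO, bot_sup_eq] at e
    have hc : ∀ g, Commute g z.1 := fun g => mem_centralizer_singleton_iff.1 (e.ge (mem_top g)).2
    rcases (inferInstance : (center G).Normal).eq_bot_or_eq_top with e | e
    · exact s.z1 (Subtype.ext (mem_bot.1 (e ▸ mem_center_iff.2 hc)))
    · exact nab (mem_center_iff.1 (e.ge (mem_top _)) _))
  obtain ⟨M, hn, hc, m1, m2, m3⟩ := s3.main
  obtain ⟨A, _, φ, rfl⟩ := ab_quot M hc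
  have o1 : Odd (S : Subgroup G).index := Nat.not_even_iff_odd.1 fun h => S.not_dvd_index (even_iff_two_dvd.1 h)
  have o2 : φ u * φ u = 1 := by rw [← map_mul, s.uu, map_one]
  have o3 : ∀ x : (S : Subgroup G), x ^ 2 = 1 → φ x = 1 ∨ φ x = φ u := fun x hx =>
    (m3 x (by rw [← sq, hx])).imp id fun h => by rwa [MonoidHom.mem_ker, map_mul, map_inv, inv_mul_eq_one] at h
  have o4 : orderOf u.1 = 2 := orderOf_eq_prime (by rw [sq]; exact congrArg Subtype.val s.uu) fun e => u1 (Subtype.ext e)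
  have o5 : (centralizer {u}).map (S : Subgroup G).subtype ≤ centralizer {u.1} := fun x hx =>
    mem_centralizer_singleton_iff.2 (cen_u x hx)
  obtain ⟨g, ⟨m, hM⟩, hg⟩ := Layer.transfer_extremal o1 φ m1 o2 o3 o4 (hom_triv _ nab _) pq o5
  obtain ⟨f, hf, e⟩ := mkf (k := g) (u := u) fun x hx => by rw [cn_def]; exact hg x hx
  have hx : (⟨_, m⟩ : (S : Subgroup G)).1 = cn g u.1 := (cn_def _ _).symm
  generalize (⟨_, m⟩ : (S : Subgroup G)) = x at hx hM
  have x2 : x * x = 1 := Subtype.ext (by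
    change x.1 * x.1 = 1
    rw [hx, ← map_mul, show u.1 * u.1 = 1 from congrArg Subtype.val s.uu, map_one])
  rcases s3.Ext x2 (s.ext' f hf x2 (by
    rintro _ ⟨y, rfl⟩
    refine Subtype.ext ?_
    change (f y).1 * x.1 = x.1 * (f y).1
    rw [e, hx]
    exact (cen_u (u := u) y.1.1 ⟨y, y.2, rfl⟩).map (cn g))) with e | e | e | e
  · exact u1 (Subtype.ext (cn_inj g (by rw [← hx, e]; simp)))
  · exact hu (e ▸ hx ▸ (cn_conj g u.1).symm)
  · exact m1 (by rw [← e]; exact hM)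
  · exact m2 (by rw [← e]; exact hM)

end Cfsg.Agent.S0503
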