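import Cfsg.Statements.S0505
import Cfsg.Agent.Lib.SigC.Two

set_option autoImplicit false
open Cfsg

namespace Cfsg.Agent.S0505

open Subgroup Cfsg.Lib.Core Cfsg.Lib.Amalg Cfsg.Lib.BG1 Cfsg.Lib.Layer Cfsg.Lib.SigC

/-- Let G be a finite group of even order in which the centralizer of every involution is solvable and has trivial
core (no nontrivial normal subgroup of odd order). Then G is of characteristic 2 type. -/
theorem result {G : Type*} [Group G] [Finite G]
    (h2 : Even (Nat.card G))
    (hs : ∀ t : G, orderOf t = 2 → Group.IsSolvable (Subgroup.centralizer ({t} : Set G)))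
    (hc : ∀ t : G, orderOf t = 2 → Cfsg.oddCore (Subgroup.centralizer ({t} : Set G)) = ⊥) :
    Cfsg.IsCharacteristicTwoType G := by
  refine charTwoType_of_cent h2 fun t ht => charP_of_core_layer ?_ (pLayerOf_eq_bot_of_solvable (hs t ht))
  rw [← map_pPrimeCore_subtype Nat.prime_two]
  exact (congrArg _ (hc t ht)).trans (Subgroup.map_bot _)

end Cfsg.Agent.S0505
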