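import Cfsg.Statements.S0508
import Cfsg.Agent.Lib.Exc.D8
import Cfsg.Agent.Lib.Core.PCore

set_option autoImplicit false
open Cfsg

namespace Cfsg.Agent.S0508

open Cfsg.Lib Cfsg.Lib.Exc Cfsg.Lib.Transfer Cfsg.Lib.Invol Subgroup

/-- Let G be a finite simple group with a dihedral Sylow 2-subgroup S (of order at least 4), t an involution in the
centre of S, C the centralizer of t and O the core of C (its largest normal subgroup of odd order). Suppose that: if O
is nontrivial then the centralizer of O in S is cyclic of index 2 in S; every element of S not centralizing O inverts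
every element of O; and the normalizer of every nontrivial subgroup of O lies in C. Then G is isomorphic to a projective
special linear group of dimension 2 over a field of odd order. -/
theorem result {G : Type*} [Group G] [Finite G] [IsSimpleGroup G] (S : Sylow 2 G) (n : ℕ)
    (hn : 2 ≤ n) (hS : Nonempty ((S : Subgroup G) ≃* DihedralGroup n)) (t : G) (ht : orderOf t = 2)
    (htS : t ∈ (S : Subgroup G))
    (htZ : ∀ s ∈ (S : Subgroup G), s * t = t * s) (O : Subgroup G)
    (hO : O = (Cfsg.oddCore (Subgroup.centralizer ({t} : Set G))).map (Subgroup.centralizer ({t} : Set G)).subtype)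
    (ha : O ≠ ⊥ → IsCyclic ((S : Subgroup G) ⊓ Subgroup.centralizer (O : Set G) : Subgroup G) ∧
      ((S : Subgroup G) ⊓ Subgroup.centralizer (O : Set G)).relIndex (S : Subgroup G) = 2)
    (hb : ∀ s ∈ (S : Subgroup G), s ∉ Subgroup.centralizer (O : Set G) → ∀ y ∈ O, s * y * s⁻¹ = y⁻¹)
    (hc : ∀ Y : Subgroup G, Y ≤ O → Y ≠ ⊥ → Subgroup.normalizer (Y : Set G) ≤ Subgroup.centralizer ({t} : Set G)) :
    ∃ (F : Type) (_ : Field F) (_ : Fintype F), Odd (Fintype.card F) ∧ Nonempty (G ≃* Matrix.ProjectiveSpecialLinearGroup (Fin 2) F) := by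
  have := fact_two
  obtain ⟨e⟩ := hS
  obtain ⟨r, x, h, htr, hr⟩ := exists_ds hn e htS htZ
  have hS := sylowIn_top S
  have hG : ∀ H : Subgroup G, H.index ≠ 2 := fun H hH => by
    rcases (normal_of_index_eq_two hH).eq_bot_or_eq_top with rfl | rfl
    · have := card_le_card_group (S : Subgroup G)
      rw [h.card, hr, ← index_bot, hH] at this
      omega
    · simp at hH
  have hP := h.pnil_cent hS ht htr
  have hO' : O = resOf 2 (centralizer ({t} : Set G)) := by
    refine hO.trans (le_antisymm (le_resOf_of_coprime (map_subtype_le _) ?_) ?_)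
    · rw [card_map_of_injective (subtype_injective _)]
      exact Nat.coprime_two_right.2 (Core.odd_card_oddCore _)
    · have := Transfer.pResidual_normal (p := 2) (G := centralizer ({t} : Set G))
      have h1 := hP.coprime
      rw [← map_pResidual] at h1 ⊢
      rw [card_map_of_injective (subtype_injective _)] at h1
      exact map_mono (Core.le_oddCore (Nat.coprime_two_right.1 h1))
  have h1 : O ≠ ⊥ → (S : Subgroup G) ⊓ centralizer (O : Set G) = zpowers r := fun h1 => by
    obtain ⟨h2, h3⟩ := ha h1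
    obtain ⟨a, h4⟩ := (Subgroup.isCyclic_iff_exists_zpowers_eq_top _).1 h2
    have h5 := card_mul_relIndex (inf_le_left : (S : Subgroup G) ⊓ centralizer (O : Set G) ≤ S)
    have h6 : t ∈ zpowers a := h4 ▸ mem_inf.2 ⟨htS, mem_centS.2 fun y hy =>
      (mem_cent.1 (resOf_le _ (hO' ▸ hy))).symm⟩
    refine eq_of_le_of_card_ge (h4 ▸ zpowers_le.2 (by_contra fun h7 => h7 ?_)) (by
      rw [h3, h.card] at h5; rw [Nat.card_zpowers]; omega)
    have h8 := h.mul_self (h4 ▸ mem_zpowers a : a ∈ (S : Subgroup G) ⊓ _).1 h7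
    exact eq_of_mem_zpowers h6 (mem_zpowers a) ht (two_of_mul_self h8 fun e => h7 (e ▸ one_mem _)) ▸ htr
  have h2 : ∀ y ∈ O, y ≠ 1 → O ≠ ⊥ := fun y hy h2 e => h2 (mem_bot.1 (e ▸ hy))
  obtain ⟨F, _, _, h3, h4⟩ := (h.bsw hG hS ht htr hO' (fun y hy => by
    by_cases h3 : y = 1
    · simp [h3]
    exact mem_centS.1 (h1 (h2 y hy h3) ▸ mem_zpowers r : r ∈ (S : Subgroup G) ⊓ _).2 y hy) (fun y hy => by
    by_cases h3 : y = 1
    · simp [h3]
    exact hb x h.x_mem (fun e => h.notMem (h1 (h2 y hy h3) ▸ mem_inf.2 ⟨h.x_mem, e⟩)) y hy)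
    fun y hy h3 g hg => hc _ (zpowers_le.2 hy) (by simpa using h3) (mem_normalizer_of_cj_le
      (cj_zpowers_le.2 (by rw [(mem_cent.1 hg).eq, mul_inv_cancel_right]; exact mem_zpowers y)))).psl
  exact ⟨F, inferInstance, inferInstance, Nat.odd_iff.2 (by omega), h4⟩

end Cfsg.Agent.S0508
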