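import Cfsg.Statements.S0514
import Cfsg.Agent.Lib.GW.Final

set_option autoImplicit false
open Cfsg Cfsg.Lib Cfsg.Lib.Invol Cfsg.Lib.Transfer Subgroup

namespace Cfsg.Agent.S0514

/-- In a finite group whose Sylow 2-subgroups are dihedral of order at least 4, the centralizer of any involution has a
normal subgroup of odd order whose index in the centralizer is a power of 2. -/
theorem result {X : Type*} [Group X] [Finite X]
    (S : Sylow 2 X) (n : ℕ) (hn : 2 ≤ n) (hS : Nonempty ((S : Subgroup X) ≃* DihedralGroup n)) (t : X)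
    (ht : orderOf t = 2) :
    ∃ N : Subgroup (Subgroup.centralizer ({t} : Set X)), N.Normal ∧ Odd (Nat.card N) ∧ ∃ k : ℕ, N.index = 2 ^ k := by
  have := fact_two
  obtain ⟨k, hk⟩ := relIndex_resOf (p := 2) (centralizer {t})
  refine ⟨(resOf 2 (centralizer {t})).subgroupOf _, normal_subgroupOf_of_le_normalizer (le_normalizer_resOf _), ?_, k, hk⟩
  rw [Nat.card_congr (subgroupOfEquivOfLe (resOf_le _)).toEquiv]
  exact (GW.dc2_of_dihedral S hS.some).odd_UU ht

end Cfsg.Agent.S0514
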