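import Cfsg.Statements.S2947
import Cfsg.Agent.Lib.Amalg.StrongEmb

set_option autoImplicit false
open Cfsg

namespace Cfsg.Agent.S2947

open Subgroup Cfsg.Lib.Amalg
open Cfsg.Lib.Core hiding isPGroup_subgroupOf isPGroup_subgroupOf_iff isPGroup_map_subtype_iff isPGroup_zpowers_of_orderOf
open scoped commutatorElement

/-- Let G be a finite group of characteristic 2 type in which every 2-local subgroup is solvable and the centralizer of Ω₁(Z(S)) lies in N_G(S) for every Sylow 2-subgroup S; suppose O₂(G) = 1, fix a Sylow 2-subgroup S and a 2-local subgroup M containing N_G(J(S)) (J the Thompson subgroup generated by the elementary abelian 2-subgroups of largest order). Then M is strongly embedded in G (a proper subgroup of even order whose intersection with each conjugate by an element outside M has odd order) if and only if no nontrivial 2-subgroup of M lies in a 2-local subgroup of G not contained in M. -/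
theorem result {G : Type*} [Group G] [Finite G] (hL : Cfsg.IsCharacteristicTwoType G) (hN : ∀ N : Subgroup G, Cfsg.IsTwoLocal N → Group.IsSolvable ↥N)
    (hZ : ∀ S : Sylow 2 G, Subgroup.centralizer (Cfsg.omegaCenterOf (S : Subgroup G) : Set G) ≤ Subgroup.normalizer ((S : Subgroup G) : Set G)) (hO : Cfsg.pCore 2 G = ⊥) (S : Sylow 2 G) (M : Subgroup G) (hM : Cfsg.IsTwoLocal M)
    (hMJ : Subgroup.normalizer (Cfsg.thompsonSubgroupOf 2 (S : Subgroup G) : Set G) ≤ M) :
    Cfsg.IsStronglyEmbedded M ↔ Cfsg.straddlingTwoSubgroups M = ∅ := by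
  rw [← spe_two_iff, Set.eq_empty_iff_forall_notMem]
  obtain ⟨Q, q1, q2, rfl⟩ := hM
  constructor
  · rintro h T ⟨a1, a2, a3, _, ⟨R, b1, b2, rfl⟩, b3, b4⟩
    have := h.le_of_inf_ne_bot (isPGroup_sup_of_le_normalizer a1 b1 b3) le_top fun e =>
      a2 (eq_bot_iff.2 (e ▸ le_inf le_sup_left a3))
    exact b4 (by simpa using h.norm R (le_sup_right.trans this) b1 b2)
  · intro h
    refine ⟨le_top, fun e => q2 ?_, dvd_card_of_isPGroup_le q1 q2 le_normalizer, fun A a1 a2 a3 => ?_⟩
    · haveI := normal_of_top_le_normalizer e.ge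
      exact eq_bot_of_pCore_eq_bot hO q1
    · by_contra hn
      exact h A ⟨a2, a3, a1, _, ⟨A, a2, a3, rfl⟩, le_normalizer, fun e => hn (inf_le_right.trans e)⟩

end Cfsg.Agent.S2947
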