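import Cfsg.Statements.S0519
import Cfsg.Agent.Lib.PGrp.TwoMax

set_option autoImplicit false
open Cfsg

namespace Cfsg.Agent.S0519

open Cfsg.Lib.PGrp Subgroup
open scoped commutatorElement

/-- Let P be a finite p-group in which every abelian normal subgroup is cyclic, but which has a non-cyclic abelian
subgroup. Then p = 2 and P is generalized quaternion, dihedral of order at least 16, or quasi-dihedral. -/
theorem result {P : Type*} [Group P] [Finite P] (p : ℕ) [Fact p.Prime]
    (hP : IsPGroup p P) (hn : ∀ A : Subgroup P, A.Normal → IsMulCommutative A → IsCyclic A)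
    (hm : ∃ B : Subgroup P, IsMulCommutative B ∧ ¬ IsCyclic B) :
    p = 2 ∧ ((∃ n : ℕ, Nonempty (P ≃* QuaternionGroup n)) ∨ (∃ n : ℕ, 8 ≤ n ∧ Nonempty (P ≃* DihedralGroup n)) ∨
      Cfsg.IsQuasiDihedral P) := by
  rcases isCyclic_or_max2 hP (fun A h1 h2 h3 => not_isCyclic_of_isElementaryAbelian h2
    (by rw [h3]; exact (pow_one p).symm.trans_lt (Nat.pow_lt_pow_right (Fact.out : p.Prime).one_lt one_lt_two))
    (hn A h1 h2.1)) with h | ⟨rfl, a, b, m, h, hm'⟩
  · obtain ⟨B, -, hB⟩ := hm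
    exact absurd (Subgroup.isCyclic B) hB
  refine ⟨rfl, ?_⟩
  rcases h.rel with e | e | e
  · exact Or.inr (Or.inl ⟨_, Nat.pow_le_pow_right two_pos (by have := hm' e.1; omega : 3 ≤ m + 2),
      h.dihedral e.1 e.2⟩)
  · exact Or.inl ⟨_, h.quaternion e.1 e.2⟩
  · exact Or.inr (Or.inr (h.quasiDihedral e.1 e.2.1 e.2.2))

end Cfsg.Agent.S0519
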