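import Cfsg.Statements.S0520
import Cfsg.Agent.Lib.Layer.Misc
import Cfsg.Agent.Lib.PGrp.OmegaBasic
import Cfsg.Agent.Lib.Invol.Classes

set_option autoImplicit false
open Cfsg

namespace Cfsg.Agent.S0520

open Subgroup Cfsg.Lib.Core Cfsg.Lib.Amalg Cfsg.Lib.BG1 Cfsg.Lib.Layer
theorem four {G : Type*} [Group G] [Finite G] {H : Subgroup G} : ¬ PRankLE 2 1 H ↔ ∃ U ≤ H, IsKleinFour U := by
  rw [Lib.PGrp.not_pRankLE_subgroup_iff]
  constructor
  · rintro ⟨E, h1, h2, h3⟩
    exact ⟨E, h1, Lib.Invol.isKleinFour_of_card h3 fun x hx => by rw [← pow_two]; exact h2.2 x hx⟩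
  · rintro ⟨U, h1, h2⟩
    exact ⟨U, h1, ⟨⟨⟨IsKleinFour.isMulCommutative.is_comm.comm⟩⟩, fun x hx => by
      rw [pow_two]; exact congrArg Subtype.val (IsKleinFour.mul_self (⟨x, hx⟩ : U))⟩, h2.card_four⟩

/-- The commuting relation. -/
abbrev R (G : Type*) [Group G] (A B : Subgroup G) : Prop := IsKleinFour A ∧ IsKleinFour B ∧ ∀ a ∈ A, ∀ b ∈ B, a * b = b * a

theorem lift {G H : Type*} [Group G] [Group H] {f : G →* H} (hf : Function.Injective f) {A B : Subgroup G}
    (h : Relation.ReflTransGen (R G) A B) : Relation.ReflTransGen (R H) (A.map f) (B.map f) :=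
  h.lift _ fun A B ⟨h1, h2, h3⟩ => ⟨Lib.Invol.isKleinFour_of_equiv (A.equivMapOfInjective f hf).symm h1,
    Lib.Invol.isKleinFour_of_equiv (B.equivMapOfInjective f hf).symm h2, by
      rintro _ ⟨a, ha, rfl⟩ _ ⟨b, hb, rfl⟩; rw [← map_mul, h3 a ha b hb, map_mul]⟩


/-- Let G be a finite group of 2-rank at least 2 and S a Sylow 2-subgroup whose commuting graph of Klein four-subgroups is
connected. Then the commuting graph of Klein four-subgroups of G is disconnected if and only if the 2-generated core — the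
subgroup generated by the normalizers N_G(Q) of the subgroups Q of S that contain a Klein four-group — is a proper
subgroup of G. -/
theorem result {G : Type*} [Group G] [Finite G] (h2 : ¬ Cfsg.PRankLE 2 1 G)
    (S : Sylow 2 G) (hS : Cfsg.IsFourConnected (S : Subgroup G)) :
    ¬ Cfsg.IsFourConnected G ↔
      (⨆ Q : {Q : Subgroup G // Q ≤ (S : Subgroup G) ∧ ¬ Cfsg.PRankLE 2 1 Q},
          Subgroup.normalizer ((Q : Subgroup G) : Set G)) ≠ ⊤ := by
  set Γ := ⨆ Q : {Q : Subgroup G // Q ≤ (S : Subgroup G) ∧ ¬ PRankLE 2 1 Q}, Subgroup.normalizer ((Q : Subgroup G) : Set G)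
  have p4 : ∀ U : Subgroup G, IsKleinFour U → IsPGroup 2 U := fun U h => IsPGroup.of_card (n := 2) h.card_four
  have hc : ∀ U : Subgroup G, IsKleinFour U → ∃ g, cj g U ≤ S := fun U h => by
    obtain ⟨g, -, hg⟩ := (syl_top S).exists_conj_le (p4 U h) le_top
    exact ⟨g, hg⟩
  obtain ⟨U, hU, kU⟩ : ∃ U ≤ (S : Subgroup G), IsKleinFour U := by
    obtain ⟨U, -, kU⟩ := four.1 (mt Lib.PGrp.pRankLE_top_iff.1 h2)
    obtain ⟨g, hg⟩ := hc U kU
    exact ⟨_, hg, Lib.Invol.isKleinFour_map_conj kU g⟩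
  have hN : ∀ Q ≤ (S : Subgroup G), ¬ PRankLE 2 1 Q → normalizer (Q : Set G) ≤ Γ := fun Q h h' =>
    le_iSup (fun Q : {Q : Subgroup G // Q ≤ (S : Subgroup G) ∧ ¬ PRankLE 2 1 Q} => normalizer ((Q : Subgroup G) : Set G)) ⟨Q, h, h'⟩
  have hS' := hN S le_rfl (four.2 ⟨U, hU, kU⟩)
  refine not_congr ⟨fun h => eq_top_iff.2 fun g _ => ?_, fun h => ?_⟩
  · have h1 : Syl 2 S Γ := (syl_top S).of_le (le_normalizer.trans hS') le_top
    have h3 : ∀ Q ≤ Γ, IsPGroup 2 Q → ¬ PRankLE 2 1 Q → normalizer (Q : Set G) ≤ Γ := fun Q hQ hp hr => by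
      obtain ⟨x, hx, e⟩ := h1.exists_conj_le hp hQ
      have := hN _ e (by rwa [pRankLE_cj])
      rwa [← cj_normalizer, cj_le_iff, cj_of_mem (inv_mem hx)] at this
    have h4 : ∀ V : Subgroup G, IsKleinFour V → V ≤ Γ := by
      intro V kV
      have := h U V kU kV
      clear kV
      induction this with
      | refl => exact hU.trans h1.le
      | tail _ hB ih =>
        exact fun b hb => h3 _ ih (p4 _ hB.1) (four.2 ⟨_, le_rfl, hB.1⟩) (centralizer_le_normalizer _ fun a ha => hB.2.2 a ha b hb)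
    obtain ⟨T, hT, hUT⟩ := exists_syl_ge (p4 U kU) (le_inf (h4 U kU)
      (cj_le_iff.1 (h4 _ (Lib.Invol.isKleinFour_map_conj kU g))))
    have r := four.2 ⟨U, hUT, kU⟩
    have h5 : cj g T ≤ Γ := cj_le_iff.2 (hT.le.trans inf_le_right)
    have h6 := hT.of_normalizer_le le_top (inf_le_right.trans (le_inf (h3 _ (hT.le.trans inf_le_left) hT.isPGroup r) (by
      rw [← cj_le_iff, cj_normalizer]; exact h3 _ h5 (isPGroup_cj g hT.isPGroup) (by rwa [pRankLE_cj]))))
    obtain ⟨x, hx, e⟩ := ((h6.conj_top g).of_le h5 le_top).exists_conj (h6.of_le (hT.le.trans inf_le_left) le_top)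
    rw [← cj_mul, cj_eq_self_iff] at e
    exact (mul_mem_cancel_left hx).1 (h3 _ (hT.le.trans inf_le_left) hT.isPGroup r e)
  · have sy : ∀ A B, Relation.ReflTransGen (R G) A B → Relation.ReflTransGen (R G) B A := fun A B h =>
      Relation.ReflTransGen.mono (r := Function.swap (R G)) (fun A B h => ⟨h.2.1, h.1, fun a ha b hb => (h.2.2 b hb a ha).symm⟩) _ _ h.swap
    have h1 : ∀ A B : Subgroup G, A ≤ (S : Subgroup G) → B ≤ S → IsKleinFour A → IsKleinFour B → Relation.ReflTransGen (R G) A B :=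
      fun A B hA hB kA kB => by
        have := lift (S : Subgroup G).subtype_injective (hS _ _ (Lib.Invol.isKleinFour_of_equiv (subgroupOfEquivOfLe hA) kA)
          (Lib.Invol.isKleinFour_of_equiv (subgroupOfEquivOfLe hB) kB))
        rwa [map_subgroupOf_of_le hA, map_subgroupOf_of_le hB] at this
    have h3 : ∀ g {A B}, Relation.ReflTransGen (R G) A B → Relation.ReflTransGen (R G) (cj g A) (cj g B) := fun g _ _ h =>
      lift (MulAut.conj g).injective h
    let K : Subgroup G :=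
      { carrier := {g | Relation.ReflTransGen (R G) U (cj g U)}
        one_mem' := by simp only [Set.mem_ofPred_eq, cj_one]; rfl
        mul_mem' := fun {a b} ha hb => by simp only [Set.mem_ofPred_eq, cj_mul]; exact ha.trans (h3 a hb)
        inv_mem' := fun {a} ha => sy _ _ (by simpa only [cj_inv_cj] using h3 a⁻¹ ha) }
    have h4 : Γ ≤ K := iSup_le fun Q g hg => by
      obtain ⟨V, hV, kV⟩ := four.1 Q.2.2
      exact (h1 _ (cj g V) hU ((cj_le_of_le_of_mem_normalizer hV hg).trans Q.2.1) kU (Lib.Invol.isKleinFour_map_conj kV g)).trans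
        (h3 g (h1 _ U (hV.trans Q.2.1) hU kV kU))
    have h5 : ∀ V : Subgroup G, IsKleinFour V → Relation.ReflTransGen (R G) U V := fun V kV => by
      obtain ⟨g, hg⟩ := hc V kV
      have := h3 g⁻¹ (h1 _ _ hU hg kU (Lib.Invol.isKleinFour_map_conj kV g))
      rw [cj_inv_cj] at this
      exact Relation.ReflTransGen.trans (h4 (h ▸ mem_top g⁻¹)) this
    exact fun A B kA kB => (sy _ _ (h5 A kA)).trans (h5 B kB)

end Cfsg.Agent.S0520
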