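import Cfsg.Statements.S0521
import Cfsg.Agent.Lib.HH.Std

set_option autoImplicit false
open Cfsg

namespace Cfsg.Agent.S0521

open Subgroup Cfsg.Lib Cfsg.Lib.Core Cfsg.Lib.HH Cfsg.Lib.Amalg Cfsg.Lib.BG1

/-- Let X be a finite solvable group of odd order, p a prime and S a Sylow p-subgroup of X whose commutator subgroup is
cyclic. Then the product of the largest normal subgroup of X of order prime to p with S is a normal subgroup of X. -/
theorem result {X : Type*} [Group X] [Finite X] [Group.IsSolvable X]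
    (hX : Odd (Nat.card X)) (p : ℕ) [Fact p.Prime] (S : Sylow p X) (hS : IsCyclic (commutator (S : Subgroup X))) :
    (Cfsg.pPrimeCore p X ⊔ (S : Subgroup X)).Normal := by
  have hp : p.Prime := Fact.out
  by_cases hp2 : p = 2
  · subst hp2
    have : pPrimeCore 2 X = ⊤ := top_le_iff.1 (le_pPrimeCore (by
      rw [card_top]; exact Nat.coprime_two_right.2 hX))
    rw [this, top_sup_eq]; infer_instance
  rw [← sylow_le_pPrimePCore_iff]
  obtain ⟨H, _, _, f, hf, hH, he⟩ := exists_std (isPSolvable_of_isSolvable (G := X) hp)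
  rw [← he, ← map_le_iff_le_comap]
  have hc : IsCyclic ↥⁅(S : Subgroup X).map f, (S : Subgroup X).map f⁆ := by
    rw [← map_commutator, ← map_subtype_commutator, map_map]
    exact isCyclic_of_surjective _ (MonoidHom.subgroupMap_surjective _ _)
  have hT : IsPGroup p ((S : Subgroup X).map f) := S.isPGroup'.map f
  have hV : pCore p H ≤ (S : Subgroup X).map f := pCore_le_sylow (S.mapSurjective hf)
  generalize (S : Subgroup X).map f = T at hc hT hV ⊢
  have hodd : Odd (Nat.card (⊤ : Subgroup H)) := by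
    rw [card_top]; exact hX.of_dvd_nat (card_dvd_of_surjective f hf)
  have key : ∀ A : Subgroup H, ⁅⁅pCore p H, A⁆, A⁆ = ⊥ → A ≤ pCore p H := fun A h => by
    have := odd_quad_le_pCoreOf (H := ⊤) hp hp2 (isPGroup_pCore p H) (by rw [normalizer_eq_top])
      ((isPGroup_pCore p H).to_le (inf_le_right.trans hH.cent)) hodd le_top h
    rwa [BG1.op_top hp] at this
  have hn : T ≤ 𝐍 ⁅T, T⁆ := le_normalizer_iff_commutator_le_left.2
    (commutator_mono (le_normalizer_iff_commutator_le_left.1 le_normalizer) le_rfl)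
  have h1 : ⁅T, T⁆ ≤ pCore p H := key _ (by
    rw [← le_bot_iff, ← (commutator_eq_bot_iff_le_centralizer.2
      (le_centralizer_iff_isMulCommutative.2 (IsCyclic.isMulCommutative (α := ↥⁅T, T⁆))))]
    refine commutator_mono ?_ le_rfl
    rw [commutator_comm]
    exact le_normalizer_iff_commutator_le_left.1 (hV.trans hn))
  refine key _ (le_bot_iff.1 ((commutator_mono (commutator_mono hV le_rfl) le_rfl).trans ?_))
  by_cases h0 : ⁅T, T⁆ = ⊥
  · rw [h0, commutator_bot_left]
  have h2 : Nat.card ↥⁅T, T⁆ = p := by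
    obtain ⟨a, ha⟩ := (isCyclic_iff_exists_zpowers_eq_top.1 hc)
    have h3 : Nat.card ↥⁅T, T⁆ ∣ p := by
      rw [← card_top, ← ha, Nat.card_zpowers]
      exact orderOf_dvd_of_pow_eq_one (Subtype.ext (hH.elem.2 _ (h1 a.2)))
    exact ((Nat.dvd_prime hp).1 h3).resolve_left fun h => h0 (card_eq_one.1 h)
  have h4 := commutator_lt_of_isPGroup (IsPGroup.of_card (h2.trans (pow_one p).symm)) hT hn h0
  have h5 := card_dvd_of_le h4.le
  rw [h2] at h5
  rcases (Nat.dvd_prime hp).1 h5 with h6 | h6
  · exact (card_eq_one.1 h6).le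
  · exact (h4.ne (eq_of_le_of_card_ge h4.le (h2.trans h6.symm).le)).elim

end Cfsg.Agent.S0521
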