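import Cfsg.Statements.S0522
import Cfsg.Agent.Lib.Layer.Misc
import Cfsg.Agent.Lib.BG2.Sec7b
import Cfsg.Agent.Lib.FT.Sec14d

set_option autoImplicit false
open Cfsg

namespace Cfsg.Agent.S0522

open Subgroup Cfsg.Lib.Core Cfsg.Lib.Amalg Cfsg.Lib.BG1 Cfsg.Lib.Layer

/-- Transitivity Theorem (odd-order setting). Let X be a finite group of odd order in which the normalizer of every
nontrivial p-subgroup is solvable, P a Sylow p-subgroup, and B an abelian subgroup of P, normalized by P, with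
C_P(B) = B and containing an elementary abelian subgroup of order p^3. Then for every prime q ≠ p, any two q-subgroups
that are maximal among the q-subgroups normalized by B are conjugate by an element of the centralizer of B. -/
theorem result {X : Type*} [Group X] [Finite X] (hX : Odd (Nat.card X)) (p : ℕ)
    [Fact p.Prime] (hloc : ∀ T : Subgroup X, IsPGroup p T → T ≠ ⊥ → Group.IsSolvable (Subgroup.normalizer (T : Set X)))
    (P : Sylow p X) (B : Subgroup X) (hBP : B ≤ (P : Subgroup X))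
    (hBn : ∀ x ∈ (P : Subgroup X), ∀ b ∈ B, x * b * x⁻¹ ∈ B) (hBa : IsMulCommutative B)
    (hBc : (P : Subgroup X) ⊓ Subgroup.centralizer (B : Set X) = B)
    (hB3 : ∃ E : Subgroup X, E ≤ B ∧ (∀ e ∈ E, e ^ p = 1) ∧ p ^ 3 ≤ Nat.card E)
    (q : ℕ) [Fact q.Prime] (hqp : q ≠ p) (Q₁ Q₂ : Subgroup X)
    (h₁ : IsPGroup q Q₁ ∧ B ≤ Subgroup.normalizer (Q₁ : Set X) ∧
      ∀ R : Subgroup X, IsPGroup q R → B ≤ Subgroup.normalizer (R : Set X) → Q₁ ≤ R → R = Q₁)
    (h₂ : IsPGroup q Q₂ ∧ B ≤ Subgroup.normalizer (Q₂ : Set X) ∧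
      ∀ R : Subgroup X, IsPGroup q R → B ≤ Subgroup.normalizer (R : Set X) → Q₂ ≤ R → R = Q₂) :
    ∃ c ∈ Subgroup.centralizer (B : Set X), Q₂ = Q₁.map (MulAut.conj c).toMonoidHom := by
  have hp : p.Prime := Fact.out
  have hq : q.Prime := Fact.out
  have hs : Group.IsSolvable X := Lib.FT.odd_order_solvable X hX
  have hst : Group.IsSolvable (⊤ : Subgroup X) := inferInstance
  have hscn : IsSCN (P : Subgroup X) B :=
    ⟨hBP, le_normalizer_of_cj_le fun k hk => cj_le_iff'.2 (hBn k hk), hBc⟩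
  set K := piCoreOf {p}ᶜ (⊤ : Subgroup X) with hK
  have hBK : B ≤ 𝐍(K) := le_norm_piCoreOf _ le_normalizer_of_normal
  have hBp : IsPGroup p B := P.isPGroup'.to_le hBP
  have hc : (Nat.card B).Coprime (Nat.card K) :=
    coprime_of_isPGroup_of_not_dvd hp hBp (not_dvd_card_pPrimeCoreOf hp ⊤)
  have key : ∀ Q : Subgroup X, (IsPGroup q Q ∧ B ≤ Subgroup.normalizer (Q : Set X) ∧
      ∀ R : Subgroup X, IsPGroup q R → B ≤ Subgroup.normalizer (R : Set X) → Q ≤ R → R = Q) → Syl q Q K := by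
    rintro Q ⟨h1, h2, h3⟩
    have h4 : ¬ p ∣ Nat.card Q := by
      obtain ⟨n, hn⟩ := h1.exists_card_eq
      rw [hn]
      exact fun h => hqp ((Nat.prime_dvd_prime_iff_eq hp hq).1 (hp.dvd_of_dvd_pow h)).symm
    have h5 : Q ≤ K := Lib.BG2.scn_norm_le_pPrimeCore hst (by rwa [card_top]) (syl_top P) hscn le_top h2 h4
    obtain ⟨Y, h6, h7, h8⟩ := coprime_sylow_exists_ge hBK hc (Or.inl inferInstance) h5 h2 h1
    rwa [h3 Y h7.isPGroup h8 h6] at h7
  obtain ⟨c, hc1, hc2⟩ := coprime_sylow_trans hBK hc (Or.inl inferInstance) (key Q₁ h₁) (key Q₂ h₂) h₁.2.1 h₂.2.1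
  exact ⟨c, hc1.2, hc2.symm⟩

end Cfsg.Agent.S0522
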