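import Cfsg.Statements.S0529
import Cfsg.Agent.Lib.Hall.Supersolvable

set_option autoImplicit false
open Cfsg

namespace Cfsg.Agent.S0529

open scoped Pointwise
open Cfsg.Lib Cfsg.Lib.Hall

/-- A finite supersolvable group has a chain of normal subgroups, from the trivial subgroup to the whole group, in which every step has prime index and the primes occurring are non-increasing as one goes up the chain. -/
theorem result {G : Type*} [Group G] [Finite G] (hG : Cfsg.IsSupersolvable G) : ∃ (n : ℕ) (H : Fin (n + 1) → Subgroup G), H 0 = ⊥ ∧ H (Fin.last n) = ⊤ ∧ (∀ i, (H i).Normal) ∧ (∀ i : Fin n, H i.castSucc ≤ H i.succ ∧ ((H i.castSucc).relIndex (H i.succ)).Prime) ∧ ∀ i j : Fin n, i ≤ j → (H j.castSucc).relIndex (H j.succ) ≤ (H i.castSucc).relIndex (H i.succ) := by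
  have key : ∀ N : Subgroup G, N.Normal → ∃ (n : ℕ) (H : Fin (n + 1) → Subgroup G), H 0 = N ∧
      H (Fin.last n) = ⊤ ∧ (∀ i, (H i).Normal) ∧
      (∀ i : Fin n, H i.castSucc ≤ H i.succ ∧ ((H i.castSucc).relIndex (H i.succ)).Prime) ∧
      (∀ i : Fin n, (H i.castSucc).relIndex (H i.succ) ∣ N.index) ∧
      ∀ i j : Fin n, i ≤ j →
        (H j.castSucc).relIndex (H j.succ) ≤ (H i.castSucc).relIndex (H i.succ) := by
    intro N
    induction N using WellFoundedGT.induction with
    | ind N ih =>
    intro hN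
    by_cases htop : N = ⊤
    · exact ⟨0, fun _ => N, rfl, htop, fun _ => hN, fun i => i.elim0, fun i => i.elim0,
        fun i => i.elim0⟩
    have h1 : N.index ≠ 1 := fun h => htop (Subgroup.index_eq_one.1 h)
    have hne : N.index.primeFactors.Nonempty :=
      Nat.nonempty_primeFactors.2 (lt_of_le_of_ne Subgroup.index_ne_zero_of_finite.bot_lt h1.symm)
    set p := N.index.primeFactors.max' hne
    have hp := Nat.mem_primeFactors.1 (N.index.primeFactors.max'_mem hne)
    have hmax : ∀ q : ℕ, q.Prime → q ∣ N.index → q ≤ p := fun q hq hd =>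
      Finset.le_max' _ q (Nat.mem_primeFactors.2 ⟨hq, hd, hp.2.2⟩)
    obtain ⟨M, hMn, hM⟩ := ss_exists_normal_card_eq (ss_quotient hG N) hp.1 hp.2.1 hmax
    have h2 : N.relIndex (M.comap (QuotientGroup.mk' N)) = p := by
      rw [Core.relIndex_comap_mk', hM]
    have hle := Core.le_comap_mk' N M
    have hlt : N < M.comap (QuotientGroup.mk' N) := lt_of_le_of_ne hle fun h3 => by
      rw [← h3, Subgroup.relIndex_self] at h2
      exact hp.1.one_lt.ne h2
    obtain ⟨n, H, h0, hl, hn, hs, hd, hm⟩ := ih _ hlt inferInstance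
    have e0 : ∀ j : Fin n, (Fin.cons N H : Fin (n + 2) → Subgroup G) j.succ.castSucc =
        H j.castSucc := fun j => by rw [← Fin.succ_castSucc, Fin.cons_succ]
    have e1 : (Fin.cons N H : Fin (n + 2) → Subgroup G) (0 : Fin (n + 1)).castSucc = N := rfl
    have e2 : (Fin.cons N H : Fin (n + 2) → Subgroup G) (0 : Fin (n + 1)).succ =
        M.comap (QuotientGroup.mk' N) := by rw [Fin.cons_succ, h0]
    refine ⟨n + 1, Fin.cons N H, rfl, by rw [← Fin.succ_last, Fin.cons_succ, hl], fun i => ?_,
      fun i => ?_, fun i => ?_, fun i j => ?_⟩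
    · exact Fin.cases hN (fun j => by rw [Fin.cons_succ]; exact hn j) i
    · refine Fin.cases ?_ (fun j => ?_) i
      · rw [e1, e2, h2]; exact ⟨hle, hp.1⟩
      · rw [e0, Fin.cons_succ]; exact hs j
    · refine Fin.cases ?_ (fun j => ?_) i
      · rw [e1, e2, h2]; exact hp.2.1
      · rw [e0, Fin.cons_succ]; exact (hd j).trans (Subgroup.index_dvd_of_le hle)
    · refine Fin.cases ?_ (fun i => ?_) i
      · refine Fin.cases (fun _ => le_rfl) (fun j _ => ?_) j
        rw [e1, e2, h2, e0, Fin.cons_succ]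
        exact hmax _ (hs j).2 ((hd j).trans (Subgroup.index_dvd_of_le hle))
      · refine Fin.cases (fun h => absurd h (by simp)) (fun j h => ?_) j
        rw [e0, e0, Fin.cons_succ, Fin.cons_succ]
        exact hm i j (Fin.succ_le_succ_iff.1 h)
  obtain ⟨n, H, h0, hl, hn, hs, -, hm⟩ := key ⊥ inferInstance
  exact ⟨n, H, h0, hl, hn, hs, hm⟩

end Cfsg.Agent.S0529
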