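import Cfsg.Statements.S0530
import Cfsg.Agent.Lib.Hall.Supersolvable

set_option autoImplicit false
open Cfsg

namespace Cfsg.Agent.S0530

open scoped Pointwise
open Cfsg.Lib Cfsg.Lib.Hall

theorem exists_normal_zpowers {Q : Type*} [Group Q] [Finite Q] [Nontrivial Q] (P : Subgroup Q)
    [P.Normal] [Group.IsNilpotent P] (h : P.index ∣ 2) :
    ∃ g : Q, g ≠ 1 ∧ (Subgroup.zpowers g).Normal := by
  by_cases hP : P = ⊥
  · rw [hP, Subgroup.index_bot] at h
    have h2 : Nat.card Q = 2 :=
      ((Nat.dvd_prime Nat.prime_two).1 h).resolve_left Finite.one_lt_card.ne'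
    haveI : IsCyclic Q := isCyclic_of_prime_card h2
    obtain ⟨g, hg⟩ := exists_ne (1 : Q)
    exact ⟨g, hg, Subgroup.normal_of_isMulCommutative _⟩
  have h1 := Core.inf_centralizer_ne_bot_of_nilpotent (K := P) (H := P) (L := P) le_rfl le_rfl
    Subgroup.le_normalizer hP
  obtain ⟨⟨z, hz, hzc⟩, hz1⟩ := Subgroup.ne_bot_iff_exists_ne_one.1 h1
  have hz1' : z ≠ 1 := fun h0 => hz1 (Subtype.ext h0)
  have hnorm : ∀ w : Q, w ∈ Subgroup.centralizer (P : Set Q) →
      (∀ t : Q, t ∉ P → t * w * t⁻¹ ∈ Subgroup.zpowers w) → (Subgroup.zpowers w).Normal := by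
    intro w hw ht
    refine ⟨?_⟩
    rintro _ ⟨k, rfl⟩ g
    have h3 : g * w * g⁻¹ ∈ Subgroup.zpowers w := by
      by_cases hg : g ∈ P
      · rw [Subgroup.mem_centralizer_iff.1 hw g hg, mul_inv_cancel_right]
        exact Subgroup.mem_zpowers w
      · exact ht g hg
    have := Subgroup.zpow_mem _ h3 k
    rwa [conj_zpow] at this
  by_cases htop : P = ⊤
  · exact ⟨z, hz1', hnorm z hzc fun t ht => absurd (htop ▸ Subgroup.mem_top t) ht⟩
  have h2 : P.index = 2 :=
    ((Nat.dvd_prime Nat.prime_two).1 h).resolve_left fun h0 => htop (Subgroup.index_eq_one.1 h0)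
  obtain ⟨t, ht⟩ : ∃ t, t ∉ P := by
    by_contra h0
    push Not at h0
    exact htop (eq_top_iff.2 fun x _ => h0 x)
  have hC : (Subgroup.centralizer (P : Set Q)).Normal := inferInstance
  -- conjugation by any element outside `P` agrees with conjugation by `t` on `C(P)`
  have hconj : ∀ w ∈ Subgroup.centralizer (P : Set Q), ∀ s, s ∉ P → ∀ s', s' ∉ P →
      s * w * s⁻¹ = s'⁻¹ * w * s' := by
    intro w hw s hs s' hs'
    have h3 : s' * s ∈ P := (Subgroup.mul_mem_iff_of_index_two h2).2 (by simp [hs, hs'])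
    have h4 := Subgroup.mem_centralizer_iff.1 hw _ h3
    calc s * w * s⁻¹ = s'⁻¹ * ((s' * s) * w) * s⁻¹ := by group
      _ = s'⁻¹ * w * s' := by rw [h4]; group
  have hz' : t * z * t⁻¹ ∈ Subgroup.centralizer (P : Set Q) := hC.conj_mem z hzc t
  by_cases hw : z * (t * z * t⁻¹) = 1
  · refine ⟨z, hz1', hnorm z hzc fun s hs => ?_⟩
    rw [hconj z hzc s hs t ht, ← hconj z hzc t ht t ht, ← mul_eq_one_iff_inv_eq.1 hw]
    exact Subgroup.inv_mem _ (Subgroup.mem_zpowers z)
  · refine ⟨_, hw, hnorm _ (mul_mem hzc hz') fun s hs => ?_⟩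
    have h5 : s * (z * (t * z * t⁻¹)) * s⁻¹ = z * (t * z * t⁻¹) := by
      calc s * (z * (t * z * t⁻¹)) * s⁻¹ = (s * z * s⁻¹) * (s * (t * z * t⁻¹) * s⁻¹) := by group
        _ = (t * z * t⁻¹) * z := by
          rw [hconj z hzc s hs t ht, ← hconj z hzc t ht t ht, hconj _ hz' s hs t ht]; group
        _ = z * (t * z * t⁻¹) := (Subgroup.mem_centralizer_iff.1 hz' z hz).symm
    rw [h5]
    exact Subgroup.mem_zpowers _

/-- A finite group with a nilpotent subgroup of index at most two is supersolvable. -/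
theorem ss_of_nilpotent_index_two {G : Type*} [Group G] [Finite G] (P : Subgroup G)
    [P.Normal] [Group.IsNilpotent P] (h : P.index ∣ 2) : Cfsg.IsSupersolvable G := by
  refine ss_iff_quotient.2 fun N _ hN => ?_
  haveI : Nontrivial (G ⧸ N) := QuotientGroup.nontrivial_iff.2 hN
  haveI := Core.normal_map_mk' N P
  haveI := Core.isNilpotent_map P (QuotientGroup.mk' N)
  exact exists_normal_zpowers (P.map (QuotientGroup.mk' N))
    ((P.index_map_dvd (QuotientGroup.mk'_surjective N)).trans h)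

/-- A finite group whose order is twice a prime power is supersolvable. -/
theorem result {G : Type*} [Group G] [Finite G] (p n : ℕ) (hp : p.Prime) (hG : Nat.card G = 2 * p ^ n) : Cfsg.IsSupersolvable G := by
  haveI := Fact.mk hp
  obtain ⟨P, hP⟩ := Sylow.exists_subgroup_card_pow_prime (G := G) p (n := n) ⟨2, by rw [hG, mul_comm]⟩
  have h1 := P.card_mul_index
  rw [hP, hG, mul_comm] at h1
  have h2 : P.index = 2 := Nat.eq_of_mul_eq_mul_right (pow_pos hp.pos n) h1
  haveI := Subgroup.normal_of_index_eq_two h2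
  haveI := (IsPGroup.of_card hP).isNilpotent
  exact ss_of_nilpotent_index_two P (by rw [h2])

end Cfsg.Agent.S0530
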