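import Cfsg.Statements.S0531
import Cfsg.Agent.Lib.Hall.Supersolvable

set_option autoImplicit false
open Cfsg

namespace Cfsg.Agent.S0531

open scoped Pointwise
open Cfsg.Lib Cfsg.Lib.Hall

universe u

theorem aux (n : ℕ) : ∀ (G : Type u) [Group G] [Finite G], Nat.card G = n →
    Cfsg.IsSupersolvable G → Cfsg.HasSubgroupOfEveryOrder G := by
  induction n using Nat.strong_induction_on with
  | _ n ih =>
  intro G _ _ hn h d hd
  by_cases htop : (⊤ : Subgroup G) = ⊥
  · rw [← Subgroup.card_top, htop, Subgroup.card_bot, Nat.dvd_one] at hd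
    exact ⟨⊥, by rw [hd, Subgroup.card_bot]⟩
  obtain ⟨N, hNn, -, hq⟩ := ss_exists_normal_card_prime_le h ⊤ htop
  have hN : N ≠ ⊥ := fun h1 => by rw [h1, Subgroup.card_bot] at hq; exact Nat.not_prime_one hq
  have hG := N.card_eq_card_quotient_mul_card_subgroup
  have hQ := ih _ (hn ▸ card_quotient_lt hN) (G ⧸ N) rfl (ss_quotient h N)
  by_cases hdiv : Nat.card N ∣ d
  · obtain ⟨e, rfl⟩ := hdiv
    rw [hG, mul_comm] at hd
    obtain ⟨K, hK⟩ := hQ e (Nat.dvd_of_mul_dvd_mul_right hq.pos hd)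
    exact ⟨K.comap (QuotientGroup.mk' N), by rw [card_comap_mk', hK]⟩
  · have hcop := (Nat.Prime.coprime_iff_not_dvd hq).2 hdiv
    obtain ⟨K, hK⟩ := hQ d (hcop.symm.dvd_of_dvd_mul_right (hG ▸ hd))
    have h1 := Core.relIndex_comap_mk' N K
    obtain ⟨H, -, -, -, hH⟩ := sz_exists_internal (Core.le_comap_mk' N K)
      (le_normalizer_of_normal' _ N) (by rw [h1, hK]; exact hcop)
    exact ⟨H, by rw [hH, h1, hK]⟩

/-- A finite supersolvable group has a subgroup of each order dividing its order. -/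
theorem result {G : Type*} [Group G] [Finite G] (hG : Cfsg.IsSupersolvable G) : Cfsg.HasSubgroupOfEveryOrder G := by
  exact aux _ G rfl hG

end Cfsg.Agent.S0531
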