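import Cfsg.Statements.S0532
import Cfsg.Agent.Lib.Hall.Supersolvable

set_option autoImplicit false
open Cfsg

namespace Cfsg.Agent.S0532

open scoped Pointwise
open Cfsg.Lib Cfsg.Lib.Hall

universe u

theorem hereditary {G : Type*} [Group G] (h : ∀ H : Subgroup G, Cfsg.HasSubgroupOfEveryOrder H)
    (M : Subgroup G) (H : Subgroup M) : Cfsg.HasSubgroupOfEveryOrder H := by
  intro d hd
  have e := H.equivMapOfInjective M.subtype M.subtype_injective
  obtain ⟨K, hK⟩ := h (H.map M.subtype) d (by rwa [card_map_subtype])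
  exact ⟨K.map e.symm.toMonoidHom, by
    rw [Subgroup.card_map_of_injective e.symm.injective, hK]⟩

theorem exists_index {G : Type*} [Group G] [Finite G]
    (h : ∀ H : Subgroup G, Cfsg.HasSubgroupOfEveryOrder H) {q : ℕ} (hq : q ∣ Nat.card G) :
    ∃ M : Subgroup G, M.index = q := by
  obtain ⟨d, hd⟩ := hq
  obtain ⟨K, hK⟩ := h ⊤ d (by rw [Subgroup.card_top, hd]; exact Dvd.intro_left _ rfl)
  refine ⟨K.map (⊤ : Subgroup G).subtype, ?_⟩
  have h1 := (K.map (⊤ : Subgroup G).subtype).card_mul_index
  rw [card_map_subtype, hK, hd, mul_comm] at h1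
  refine Nat.eq_of_mul_eq_mul_right (Nat.pos_of_ne_zero ?_) h1
  rintro rfl
  exact Nat.card_pos.ne' hd

theorem aux (p : ℕ) [hp : Fact p.Prime] (n : ℕ) : ∀ (G : Type u) [Group G] [Finite G],
    Nat.card G = n → (∀ H : Subgroup G, Cfsg.HasSubgroupOfEveryOrder H) →
    (∀ q : ℕ, q.Prime → q ∣ Nat.card G → q ≤ p) → ∀ P : Sylow p G, (P : Subgroup G).Normal := by
  induction n using Nat.strong_induction_on with
  | _ n ih =>
  intro G _ _ hn h hmax P
  by_cases h1 : Nat.card G = 1
  · haveI := (Nat.card_eq_one_iff_unique.1 h1).1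
    rw [Subsingleton.elim (P : Subgroup G) ⊤]; infer_instance
  have hq := Nat.minFac_prime h1
  by_cases hpq : (Nat.card G).minFac = p
  · have hG : IsPGroup p G := (Core.isPGroup_iff_isPiNumber hp.out).2 fun q hq' hd =>
      le_antisymm (hmax q hq' hd) (hpq ▸ Nat.minFac_le_of_dvd hq'.two_le hd)
    haveI := hG.isNilpotent
    infer_instance
  obtain ⟨M, hM⟩ := exists_index h (Nat.minFac_dvd (Nat.card G))
  haveI := Subgroup.normal_of_index_eq_minFac_card hM
  have hle : (P : Subgroup G) ≤ M := Core.le_of_coprime_card_index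
    (Core.coprime_card_of_isPGroup hp.out P.isPGroup' (hM ▸ (Nat.coprime_primes hq hp.out).2 hpq))
  have hMtop : M ≠ ⊤ := fun h2 => hq.one_lt.ne (by rw [← hM, h2, Subgroup.index_top])
  haveI := ih _ (hn ▸ card_lt_of_ne_top hMtop) M rfl (hereditary h M)
    (fun q hq' hd => hmax q hq' (hd.trans M.card_subgroup_dvd_card)) (P.subtype hle)
  haveI := Sylow.characteristic_of_normal (P.subtype hle) ‹_›
  have h2 : (((P.subtype hle : Sylow p M) : Subgroup M).map M.subtype).Normal := inferInstance
  rwa [Sylow.coe_subtype, Core.map_subtype_subgroupOf_of_le hle] at h2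

/-- If each subgroup of a finite group satisfies the converse of Lagrange's theorem, then a Sylow subgroup for the largest prime dividing the group order is normal. -/
theorem result {G : Type*} [Group G] [Finite G] (h : ∀ H : Subgroup G, Cfsg.HasSubgroupOfEveryOrder H) (p : ℕ) [Fact p.Prime] (hdvd : p ∣ Nat.card G) (hmax : ∀ q : ℕ, q.Prime → q ∣ Nat.card G → q ≤ p) (P : Sylow p G) : (P : Subgroup G).Normal := by
  exact aux p _ G rfl h hmax P

end Cfsg.Agent.S0532
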