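import Cfsg.Statements.S0533
import Cfsg.Agent.Lib.Hall.Supersolvable
import Cfsg.Agent.S0532

set_option autoImplicit false
open Cfsg

namespace Cfsg.Agent.S0533

open scoped Pointwise
open Cfsg.Lib Cfsg.Lib.Hall

universe u

theorem aux (n : ℕ) : ∀ (G : Type u) [Group G] [Finite G],
    Nat.card G = n → (∀ H : Subgroup G, Cfsg.HasSubgroupOfEveryOrder H) →
    Cfsg.IsSupersolvable G := by
  induction n using Nat.strong_induction_on with
  | _ n ih =>
  intro G _ _ hn h
  by_cases h1 : Nat.card G = 1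
  · haveI := (Nat.card_eq_one_iff_unique.1 h1).1
    exact ss_of_subsingleton
  have hne : (Nat.card G).primeFactors.Nonempty :=
    Nat.nonempty_primeFactors.2 (lt_of_le_of_ne Nat.card_pos (Ne.symm h1))
  set p := (Nat.card G).primeFactors.max' hne
  have hp := Nat.mem_primeFactors.1 ((Nat.card G).primeFactors.max'_mem hne)
  have hmax : ∀ q : ℕ, q.Prime → q ∣ Nat.card G → q ≤ p := fun q hq hd =>
    Finset.le_max' _ q (Nat.mem_primeFactors.2 ⟨hq, hd, hp.2.2⟩)
  haveI : Fact p.Prime := ⟨hp.1⟩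
  obtain ⟨S⟩ : Nonempty (Sylow p G) := inferInstance
  haveI hPn := Cfsg.Agent.S0532.result h p hp.2.1 hmax S
  set P := (S : Subgroup G)
  have hPp : IsPGroup p P := S.isPGroup'
  haveI := hPp.isNilpotent
  have hsub : ∀ M : Subgroup G, M ≠ ⊤ → Cfsg.IsSupersolvable M := fun M hM =>
    ih _ (hn ▸ card_lt_of_ne_top hM) M rfl (Cfsg.Agent.S0532.hereditary h M)
  have hPbot : P ≠ ⊥ := S.ne_bot_of_dvd_card hp.2.1
  -- the quotient by `P`
  obtain ⟨H, hH⟩ := Subgroup.exists_right_complement'_of_coprime S.card_coprime_index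
  have hHtop : H ≠ ⊤ := fun h2 => hPbot (Subgroup.isComplement'_top_right.1 (h2 ▸ hH))
  have hQ : Cfsg.IsSupersolvable (G ⧸ P) :=
    ss_of_mulEquiv (hsub H hHtop) hH.symm.QuotientMulEquiv.symm
  -- a subgroup of index `p`
  obtain ⟨M, hM⟩ := Cfsg.Agent.S0532.exists_index h hp.2.1
  have hMc : IsCoatom M := Core.isCoatom_of_index_prime (hM ▸ hp.1)
  have hPM : ¬ P ≤ M := fun h2 => S.not_dvd_index (hM.symm.dvd.trans (Subgroup.index_dvd_of_le h2))
  have hsup : P ⊔ M = ⊤ := sup_eq_top_of_isCoatom_of_not_le hMc hPM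
  have hrel : M.relIndex P = p :=
    (relIndex_eq_index_of_factor (factor_of_sup_eq_top' hsup)).trans hM
  have hrel' : (P ⊓ M).relIndex P = p := by rw [Subgroup.inf_relIndex_left, hrel]
  haveI hP1 : (P ⊓ M).Normal := by
    refine normal_of_sup_eq_top ?_ (le_normalizer_inf_of_normal P M) hsup
    rw [← Subgroup.normal_subgroupOf_iff_le_normalizer inf_le_left]
    exact Core.normal_of_index_eq_of_isPGroup hPp hrel'
  refine ss_of_step P hQ fun K _ hK => ?_
  by_cases h2 : P ⊓ M ≤ K
  · obtain ⟨g, -, hg⟩ := exists_eq_sup_zpowers_of_relIndex_prime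
      (inf_le_left : P ⊓ M ≤ P) (hrel' ▸ hp.1)
    have h3 : K ⊔ Subgroup.zpowers g = K ⊔ P := by
      rw [hg, ← sup_assoc, sup_eq_left.2 h2]
    refine ⟨g, fun h4 => hK (hg ▸ sup_le h2 (Subgroup.zpowers_le.2 h4)), ?_⟩
    rw [h3]; infer_instance
  · -- a minimal normal section `A / B` of `G` inside `P ∩ M`
    set B := K ⊓ (P ⊓ M)
    have hB : B < P ⊓ M := lt_of_le_of_ne inf_le_right fun h3 => h2 (h3 ▸ inf_le_left)
    obtain ⟨A, hA1, ⟨hAn, hBA⟩, hAmin⟩ := Core.exists_minimal_le
      (fun A : Subgroup G => A.Normal ∧ B < A) (H := P ⊓ M) ⟨hP1, hB⟩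
    have hAP : ⁅A, P⁆ ≤ B := by
      haveI := Core.normal_map_mk' B A
      haveI := Core.normal_map_mk' B P
      haveI := Core.isNilpotent_map P (QuotientGroup.mk' B)
      have h3 := le_centralizer_of_nilpotent_of_minNormal (N := A.map (QuotientGroup.mk' B))
        (K := P.map (QuotientGroup.mk' B)) (fun L hL hle => by
          have h4 : L.comap (QuotientGroup.mk' B) ≤ A :=
            (Subgroup.comap_mono hle).trans (by rw [Core.comap_map_mk', sup_eq_right.2 hBA.le])
          rcases (Core.le_comap_mk' B L).eq_or_lt with h5 | h5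
          · left; rw [← Core.map_comap_mk' B L, ← h5, Core.map_mk'_eq_bot_iff]
          · right; rw [← hAmin _ ⟨inferInstance, h5⟩ h4, Core.map_comap_mk'])
      rw [← Core.map_mk'_eq_bot_iff, Subgroup.map_commutator, Subgroup.commutator_comm,
        Subgroup.commutator_eq_bot_iff_le_centralizer]
      exact h3
    have hAM : A ≤ M := hA1.trans inf_le_right
    obtain ⟨g, hgA, hgB, hgn⟩ := ss_exists_step (hsub M hMc.1) (N := B.subgroupOf M)
      (M := A.subgroupOf M) (fun h3 => hBA.not_ge fun x hx => h3 (x := ⟨x, hAM hx⟩) hx)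
    have h4 : M ≤ Subgroup.normalizer ((B ⊔ Subgroup.zpowers (g : G) : Subgroup G) : Set G) := by
      have h5 := Core.le_normalizer_map_subtype (B.subgroupOf M ⊔ Subgroup.zpowers g)
      rwa [Subgroup.map_sup, Core.map_subtype_subgroupOf_of_le (hBA.le.trans hAM),
        MonoidHom.map_zpowers] at h5
    have h5 : P ≤ Subgroup.normalizer ((B ⊔ Subgroup.zpowers (g : G) : Subgroup G) : Set G) := by
      rw [Subgroup.le_normalizer_iff_commutator_le_left]
      exact ((Subgroup.commutator_mono (sup_le hBA.le (Subgroup.zpowers_le.2 hgA)) le_rfl).trans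
        hAP).trans le_sup_left
    haveI := normal_of_sup_eq_top h5 h4 hsup
    refine ⟨g, fun h6 => hgB ⟨h6, hA1 hgA⟩, ?_⟩
    have h6 : K ⊔ Subgroup.zpowers (g : G) = K ⊔ (B ⊔ Subgroup.zpowers (g : G)) := by
      rw [← sup_assoc, sup_eq_left.2 (inf_le_left : B ≤ K)]
    rw [h6]; infer_instance

/-- If every subgroup of a finite group has subgroups of all orders dividing its order, then the group is supersolvable. -/
theorem result {G : Type*} [Group G] [Finite G] (h : ∀ H : Subgroup G, Cfsg.HasSubgroupOfEveryOrder H) : Cfsg.IsSupersolvable G := by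
  exact aux _ G rfl h

end Cfsg.Agent.S0533
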