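import Cfsg.Statements.S0535
import Cfsg.Agent.Lib.Hall.SolvCrit

set_option autoImplicit false
open Cfsg

namespace Cfsg.Agent.S0535

open scoped Pointwise
open Cfsg.Lib Cfsg.Lib.Hall

universe u in
theorem aux (n : ℕ) : ∀ (G : Type u) [Group G] [Finite G], Nat.card G = n →
    (∀ H : Subgroup G, H ≠ ⊥ → ∀ p : ℕ, p.Prime → p ∣ Nat.card H →
      ∃ K : Subgroup H, K ≠ ⊤ ∧ ∃ k : ℕ, K.index = p ^ k) → Group.IsSolvable G := by
  induction n using Nat.strong_induction_on with
  | _ n ih =>
  intro G _ _ hn h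
  rcases two_primes_or_three (Nat.card G) with ⟨p, q, hp, hq, h2⟩ |
    ⟨p, q, r, hp, hq, hr, hpd, hqd, hrd, hpq, hpr, hqr⟩
  · exact isSolvable_of_two_primes hp hq h2
  have hnt : (⊤ : Subgroup G) ≠ ⊥ := by
    intro h0
    have : Nat.card G = 1 := by rw [← Subgroup.card_top, h0, Subgroup.card_bot]
    rw [this] at hpd
    exact hp.one_lt.ne' (Nat.dvd_one.1 hpd)
  have key : ∀ s : ℕ, s.Prime → s ∣ Nat.card G → ∃ K : Subgroup G, Group.IsSolvable K ∧
      ∃ k, K.index = s ^ k := by
    intro s hs hd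
    obtain ⟨K, hK, k, hk⟩ := h ⊤ hnt s hs (by rwa [Subgroup.card_top])
    refine ⟨K.map (Subgroup.topEquiv : (⊤ : Subgroup G) ≃* G), ?_, k, ?_⟩
    · refine ih _ ?_ _ rfl fun H hH t ht htd => ?_
      · rw [← hn]
        refine Hall.card_lt_of_ne_top fun h0 => hK ?_
        apply Subgroup.map_injective (f := ((Subgroup.topEquiv : (⊤ : Subgroup G) ≃* G) : _ →* G))
          Subgroup.topEquiv.injective
        rw [h0, Subgroup.map_top_of_surjective _ Subgroup.topEquiv.surjective]
      · revert H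
        generalize K.map ((Subgroup.topEquiv : (⊤ : Subgroup G) ≃* G) : _ →* G) = L
        intro H hH htd
        have e := H.equivMapOfInjective L.subtype L.subtype_injective
        obtain ⟨K', hK', k', hk'⟩ := h (H.map L.subtype) (fun h0 => hH
          ((Subgroup.map_eq_bot_iff_of_injective _ L.subtype_injective).1 h0)) t ht
          (by rwa [← Nat.card_congr e.toEquiv])
        refine ⟨K'.comap (e : H →* _), fun h0 => hK' ?_, k', ?_⟩
        · rw [eq_top_iff]
          intro x _
          obtain ⟨y, rfl⟩ := e.surjective x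
          exact (h0.ge (Subgroup.mem_top y) : y ∈ K'.comap (e : H →* _))
        · rw [Subgroup.index_comap_of_surjective _ e.surjective, hk']
    · rw [Subgroup.index_map_equiv, hk]
  obtain ⟨K₁, h₁, k₁, e₁⟩ := key p hp hpd
  obtain ⟨K₂, h₂, k₂, e₂⟩ := key q hq hqd
  obtain ⟨K₃, h₃, k₃, e₃⟩ := key r hr hrd
  refine isSolvable_of_three_coprime (H₁ := K₁) (H₂ := K₂) (H₃ := K₃) ?_ ?_ ?_
  · rw [e₁, e₂]; exact Nat.coprime_pow_primes _ _ hp hq hpq
  · rw [e₁, e₃]; exact Nat.coprime_pow_primes _ _ hp hr hpr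
  · rw [e₂, e₃]; exact Nat.coprime_pow_primes _ _ hq hr hqr

/-- Suppose that for every nontrivial subgroup H of a finite group and every prime p dividing the order of H there is a proper subgroup of H whose index in H is a power of p. Then the group is solvable. -/
theorem result {G : Type*} [Group G] [Finite G] (h : ∀ H : Subgroup G, H ≠ ⊥ → ∀ p : ℕ, p.Prime → p ∣ Nat.card H → ∃ K : Subgroup H, K ≠ ⊤ ∧ ∃ k : ℕ, K.index = p ^ k) : Group.IsSolvable G := by
  exact aux _ G rfl h

end Cfsg.Agent.S0535
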