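import Cfsg.Statements.S0536
import Cfsg.Agent.Lib.Hall.SolvCrit

set_option autoImplicit false
open Cfsg

namespace Cfsg.Agent.S0536

open scoped Pointwise
open Cfsg.Lib Cfsg.Lib.Hall

/-- Structure of minimal non-nilpotent groups: if a finite group is not nilpotent but all its proper subgroups are, then there are distinct primes p and q, a cyclic Sylow p-subgroup P and a normal Sylow q-subgroup Q with G generated by P and Q. -/
theorem result {G : Type*} [Group G] [Finite G] (hG : Cfsg.IsMinimalNonNilpotent G) : ∃ p q : ℕ, p.Prime ∧ q.Prime ∧ p ≠ q ∧ ∃ (P : Sylow p G) (Q : Sylow q G), IsCyclic P ∧ (Q : Subgroup G).Normal ∧ (P : Subgroup G) ⊔ Q = ⊤ := by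
  obtain ⟨p, q, Q, g, hp, hq, hpq, hQn, hQ, hg, htop, -⟩ :=
    exists_of_minimal_non_nilpotent hG.1 hG.2
  haveI := Fact.mk hp
  haveI := Fact.mk hq
  obtain ⟨P, hP⟩ := exists_sylow_eq_of_factor hg
    (Core.coprime_card_of_isPGroup hq hQ ((Nat.coprime_primes hp hq).2 hpq))
    (factor_of_sup_eq_top' htop)
  obtain ⟨S, hS⟩ := exists_sylow_eq_of_factor hQ
    (Core.coprime_card_of_isPGroup hp hg ((Nat.coprime_primes hq hp).2 hpq.symm))
    (factor_of_sup_eq_top (by rw [sup_comm, htop]))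
  refine ⟨p, q, hp, hq, hpq, P, S, ?_, hS ▸ hQn, by rw [hP, hS, sup_comm, htop]⟩
  change IsCyclic (P : Subgroup G)
  rw [hP]; infer_instance

end Cfsg.Agent.S0536
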