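import Cfsg.Statements.S0537
import Cfsg.Agent.Lib.Hall.SolvCrit
import Cfsg.Agent.Lib.Amalg.Ops
import Cfsg.Agent.Lib.Coprime.Basic

set_option autoImplicit false
open Cfsg

namespace Cfsg.Agent.S0537

open scoped Pointwise
open Cfsg.Lib Cfsg.Lib.Hall

/-- A finite non-abelian group in which every proper subgroup is abelian is either of prime-power order, or is generated by a cyclic Sylow p-subgroup and a normal Sylow q-subgroup that is elementary abelian, for distinct primes p and q. -/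
theorem result {G : Type*} [Group G] [Finite G] (hna : ¬ IsMulCommutative G) (h : ∀ H : Subgroup G, H ≠ ⊤ → IsMulCommutative H) : (∃ p : ℕ, p.Prime ∧ IsPGroup p G) ∨ ∃ p q : ℕ, p.Prime ∧ q.Prime ∧ p ≠ q ∧ ∃ (P : Sylow p G) (Q : Sylow q G), IsCyclic P ∧ (Q : Subgroup G).Normal ∧ Cfsg.IsElementaryAbelian q (Q : Subgroup G) ∧ (P : Subgroup G) ⊔ Q = ⊤ := by
  have hnil : ∀ H : Subgroup G, H ≠ ⊤ → Group.IsNilpotent H := fun H hH => by
    haveI := h H hH
    exact Core.isNilpotent_of_isMulCommutative _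
  by_cases hG : Group.IsNilpotent G
  · left
    by_contra hcon
    push Not at hcon
    haveI : Group.IsNilpotent (⊤ : Subgroup G) := inferInstance
    have := isMulCommutative_of_nilpotent_of_forall_isPGroup (L := (⊤ : Subgroup G))
      fun r hr R _ hR => h R fun h0 => hcon r hr (by
        subst h0
        exact hR.of_equiv Subgroup.topEquiv)
    exact hna ⟨⟨fun a b => congrArg Subtype.val
      (this.is_comm.comm (⟨a, trivial⟩ : (⊤ : Subgroup G)) ⟨b, trivial⟩)⟩⟩
  right
  obtain ⟨p, q, Q, g, hp, hq, hpq, hQn, hQ, hg, htop, hgc⟩ :=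
    exists_of_minimal_non_nilpotent hG hnil
  haveI := Fact.mk hp
  haveI := Fact.mk hq
  obtain ⟨P, hP⟩ := exists_sylow_eq_of_factor hg
    (Core.coprime_card_of_isPGroup hq hQ ((Nat.coprime_primes hp hq).2 hpq))
    (factor_of_sup_eq_top' htop)
  obtain ⟨S, hS⟩ := exists_sylow_eq_of_factor hQ
    (Core.coprime_card_of_isPGroup hp hg ((Nat.coprime_primes hq hp).2 hpq.symm))
    (factor_of_sup_eq_top (by rw [sup_comm, htop]))
  have hcop : (Nat.card (Subgroup.zpowers g)).Coprime (Nat.card Q) :=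
    IsPGroup.coprime_card_of_ne p q hpq _ _ hg hQ
  haveI hQc : IsMulCommutative Q := h Q fun h0 => hG (by
    subst h0
    exact (hQ.of_equiv Subgroup.topEquiv).isNilpotent)
  refine ⟨p, q, hp, hq, hpq, P, S, ?_, hS ▸ hQn, ?_, by rw [hP, hS, sup_comm, htop]⟩
  · change IsCyclic (P : Subgroup G)
    rw [hP]; infer_instance
  rw [hS]
  haveI := Amalg.om_normal (p := q) Q
  by_cases hΩ : omegaOne q Q ⊔ Subgroup.zpowers g = ⊤
  · have h1 : Q = omegaOne q Q := by
      have h2 := sup_inf_of_normal_le (N := omegaOne q Q) (H := Subgroup.zpowers g) (Amalg.om_le Q)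
      rw [hΩ, top_inf_eq, (Subgroup.disjoint_of_coprime_natCard hcop).eq_bot, sup_bot_eq] at h2
      exact h2
    rw [h1]
    exact Amalg.isElemAb_om hQc
  · exfalso
    haveI := h _ hΩ
    refine hgc (Coprime.le_centralizer_of_prime_order (A := Subgroup.zpowers g) (V := Q)
      (Subgroup.le_normalizer_of_normal) hcop (fun v hv hvp a ha => ?_) (Subgroup.mem_zpowers g))
    have hvq : v ^ q = 1 := by
      obtain ⟨k, hk⟩ := hQ ⟨v, hv⟩
      have h3 : orderOf v ∣ q ^ k := orderOf_dvd_of_pow_eq_one (congrArg Subtype.val hk)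
      rw [← (Nat.prime_dvd_prime_iff_eq hvp hq).1 (hvp.dvd_of_dvd_pow h3), pow_orderOf_eq_one]
    exact congrArg Subtype.val (this.is_comm.comm
      (⟨a, Subgroup.mem_sup_right ha⟩ : (omegaOne q Q ⊔ Subgroup.zpowers g : Subgroup G))
      ⟨v, Subgroup.mem_sup_left (Amalg.mem_om hv hvq)⟩)

end Cfsg.Agent.S0537
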