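import Cfsg.Statements.S0539
import Cfsg.Agent.Lib.Hall.MinNormal
import Cfsg.Agent.Lib.Core.Subnormal

set_option autoImplicit false
open Pointwise
open Cfsg

namespace Cfsg.Agent.S0539

open scoped Pointwise
open Cfsg.Lib Cfsg.Lib.Hall

/-- A family closed under conjugation by `L` generates a subgroup normalised by `L`. -/
theorem le_normalizer_sSup {G : Type*} [Group G] {L : Subgroup G} {S : Set (Subgroup G)}
    (h : ∀ U ∈ S, ∀ g ∈ L, MulAut.conj g • U ∈ S) :
    L ≤ Subgroup.normalizer ((sSup S : Subgroup G) : Set G) := by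
  have key : ∀ g ∈ L, MulAut.conj g • sSup S ≤ sSup S := fun g hg => by
    rw [Hall.conj_smul_eq_map, Subgroup.map_le_iff_le_comap]
    refine sSup_le fun U hU => ?_
    rw [← Subgroup.map_le_iff_le_comap, ← Hall.conj_smul_eq_map]
    exact le_sSup (h U hU g hg)
  intro g hg
  rw [← conj_smul_eq_self_iff]
  refine le_antisymm (key g hg) ?_
  conv_lhs => rw [← conj_smul_conj_inv_smul (sSup S) g]
  exact Subgroup.pointwise_smul_le_pointwise_smul_iff.2 (key _ (inv_mem hg))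

theorem ambient {G : Type*} [Group G] [Finite G] (S S₀ : Set (Subgroup G)) (h₀ : S₀ ⊆ S) :
    ∀ (L : Subgroup G), Core.SubnormalIn L (sSup S₀) →
      (∀ U ∈ S, ∀ g ∈ L, MulAut.conj g • U ∈ S) → (∃ X ∈ S, X ∉ S₀ ∧ X ≤ L) →
      ∃ X ∈ S, X ∉ S₀ ∧ X ≤ Subgroup.normalizer ((sSup S₀ : Subgroup G) : Set G) := by
  intro L
  induction L using WellFoundedLT.induction with
  | _ L ih =>
  rintro hsub hconj ⟨X, hX, hX0, hXL⟩
  by_cases hL : sSup S₀ = L
  · exact ⟨X, hX, hX0, hXL.trans (hL ▸ Subgroup.le_normalizer)⟩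
  obtain ⟨N, hNL, hLN, hN⟩ := hsub.exists_lt hL
  by_cases hex : ∃ X ∈ S, X ∉ S₀ ∧ X ≤ N
  · exact ih N hNL hN (fun U hU g hg => hconj U hU g (hNL.le hg)) hex
  push Not at hex
  refine ⟨X, hX, hX0, hXL.trans (le_normalizer_sSup fun U hU g hg => ?_)⟩
  by_contra hcon
  refine hex _ (hconj U (h₀ hU) g hg) hcon ?_
  rw [← conj_smul_eq_self_iff.2 (hLN hg)]
  exact Subgroup.pointwise_smul_le_pointwise_smul_iff.2 ((le_sSup hU).trans hN.le)

/-- Let S be a family of subnormal subgroups of a finite group that is closed under conjugation, and S₀ a proper subfamily. Then some member of S not in S₀ normalizes the join of S₀. -/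
theorem result {G : Type*} [Group G] [Finite G] (S S₀ : Set (Subgroup G)) (hS : ∀ U ∈ S, U.IsSubnormal) (hconj : ∀ U ∈ S, ∀ g : G, MulAut.conj g • U ∈ S) (h₀ : S₀ ⊂ S) : ∃ X ∈ S, X ∉ S₀ ∧ X ≤ Subgroup.normalizer ((sSup S₀ : Subgroup G) : Set G) := by
  obtain ⟨X, hX, hX0⟩ := Set.exists_of_ssubset h₀
  exact ambient S S₀ h₀.le ⊤ (Core.subnormalIn_top_iff.2
    (Core.isSubnormal_sSup _ fun U hU => hS U (h₀.le hU))) (fun U hU g _ => hconj U hU g)
    ⟨X, hX, hX0, le_top⟩

end Cfsg.Agent.S0539
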