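import Cfsg.Statements.S0540
import Cfsg.Agent.S0539
import Cfsg.Agent.Lib.Hall.MinNormal

set_option autoImplicit false
open Pointwise
open Cfsg

namespace Cfsg.Agent.S0540

open scoped Pointwise
open Cfsg.Lib Cfsg.Lib.Hall

/-- A uniqueness lemma of zipper type. Let A be a subgroup of a finite group G and U a nonempty family of subgroups. For V in U write S(V) for the set of conjugates of A that lie in V and are subnormal in V. Assume: A belongs to S(V) for every V in U; a member of some S(W) that lies in V belongs to S(V); and for all V, W in U the normalizer of the join of S(V) ∩ S(W) lies in some member of U. Then U has a greatest element. -/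
theorem result {G : Type*} [Group G] [Finite G] (A : Subgroup G) (U : Set (Subgroup G)) (hU : U.Nonempty) (S : Subgroup G → Set (Subgroup G)) (hS : ∀ V B : Subgroup G, B ∈ S V ↔ (∃ g : G, B = MulAut.conj g • A) ∧ B ≤ V ∧ (B.subgroupOf V).IsSubnormal) (h1 : ∀ V ∈ U, A ∈ S V) (h2 : ∀ V ∈ U, ∀ W ∈ U, ∀ B ∈ S W, B ≤ V → B ∈ S V) (h3 : ∀ V ∈ U, ∀ W ∈ U, ∃ X ∈ U, Subgroup.normalizer ((sSup (S V ∩ S W) : Subgroup G) : Set G) ≤ X) : ∃ M ∈ U, ∀ V ∈ U, V ≤ M := by
  have hS' : ∀ V B : Subgroup G, B ∈ S V ↔ (∃ g : G, B = MulAut.conj g • A) ∧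
      Core.SubnormalIn V B := fun V B => by rw [hS, Core.subnormalIn_iff]
  have hconj : ∀ V : Subgroup G, ∀ B ∈ S V, ∀ g ∈ V, MulAut.conj g • B ∈ S V := by
    intro V B hB g hg
    obtain ⟨⟨x, rfl⟩, hB⟩ := (hS' V B).1 hB
    refine (hS' _ _).2 ⟨⟨g * x, (conj_mul_smul _ _ _).symm⟩, ?_⟩
    rw [Hall.conj_smul_eq_map]
    exact hB.conj (Subgroup.le_normalizer hg)
  have hmax : ∀ V ∈ U, ∃ M, V ≤ M ∧ Maximal (· ∈ U) M := fun V hV =>
    Finite.exists_le_maximal hV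
  have key : ∀ (T : Set (Subgroup G)) (M₁ M₂ : Subgroup G), Maximal (· ∈ U) M₁ →
      Maximal (· ∈ U) M₂ → S M₁ ∩ S M₂ = T → M₁ = M₂ := by
    intro T
    induction T using WellFoundedGT.induction with
    | _ T ih =>
    intro M₁ M₂ h₁ h₂ hT
    obtain ⟨X, hX, hNX⟩ := h3 M₁ h₁.1 M₂ h₂.1
    obtain ⟨M₃, hXM, h₃⟩ := hmax X hX
    rw [hT] at hNX
    have step : ∀ M, Maximal (· ∈ U) M → T ⊆ S M → M = M₃ := by
      intro M hM hTM
      by_cases hex : ∃ B ∈ S M, B ∉ T ∧ B ≤ M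
      · obtain ⟨B, hB, hBT, hBN⟩ := S0539.ambient (S M) T hTM M
          (Core.subnormalIn_sSup _ fun B hB => ((hS' _ _).1 (hTM hB)).2) (hconj M) hex
        refine ih (S M ∩ S M₃) (Set.ssubset_iff_of_subset ?_ |>.2 ⟨B, ⟨hB, ?_⟩, hBT⟩) M M₃ hM h₃ rfl
        · exact fun C hC => ⟨hTM hC, h2 _ h₃.1 _ hM.1 _ (hTM hC)
            ((le_sSup hC).trans (Subgroup.le_normalizer.trans (hNX.trans hXM)))⟩
        · exact h2 _ h₃.1 _ hM.1 _ hB (hBN.trans (hNX.trans hXM))
      · push Not at hex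
        have hTe : T = S M := hTM.antisymm fun B hB => by
          by_contra hc
          exact hex B hB hc ((hS' _ _).1 hB).2.le
        refine hM.eq_of_le h₃.1 (le_trans ?_ (hNX.trans hXM))
        rw [hTe]
        exact S0539.le_normalizer_sSup (hconj M)
    rw [step M₁ h₁ (hT ▸ Set.inter_subset_left), step M₂ h₂ (hT ▸ Set.inter_subset_right)]
  obtain ⟨V₀, hV₀⟩ := hU
  obtain ⟨M, -, hM⟩ := hmax V₀ hV₀
  refine ⟨M, hM.1, fun V hV => ?_⟩
  obtain ⟨M', hVM, hM'⟩ := hmax V hV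
  rwa [key _ M M' hM hM' rfl]

end Cfsg.Agent.S0540
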