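import Cfsg.Statements.S0541
import Cfsg.Agent.S0539
import Cfsg.Agent.Lib.Hall.MinNormal

set_option autoImplicit false
open Pointwise
open Cfsg

namespace Cfsg.Agent.S0541

open scoped Pointwise
open Cfsg.Lib Cfsg.Lib.Hall

/-- Let Z and Y be subgroups of a finite group G and p a prime. Suppose that for every g in G the subgroup generated by the conjugates of g Z g⁻¹ under Y is a p-group. Then there is a Sylow p-subgroup P of G such that Y normalizes the subgroup generated by all conjugates of Z contained in P. -/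
theorem result {G : Type*} [Group G] [Finite G] (p : ℕ) [Fact p.Prime] (Z Y : Subgroup G) (h : ∀ g : G, IsPGroup p ↥(⨆ y ∈ Y, MulAut.conj (y * g) • Z)) : ∃ P : Sylow p G, Y ≤ Subgroup.normalizer ((⨆ g ∈ {g : G | MulAut.conj g • Z ≤ (P : Subgroup G)}, MulAut.conj g • Z : Subgroup G) : Set G) := by
  let C : Subgroup G → Set (Subgroup G) := fun J => {U | (∃ g : G, U = MulAut.conj g • Z) ∧ U ≤ J}
  obtain ⟨J, -, hJ⟩ := Finite.exists_le_maximal
    (p := fun J : Subgroup G => IsPGroup p J ∧ Y ≤ Subgroup.normalizer (J : Set G) ∧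
      J ≤ sSup (C J)) (a := ⊥) ⟨IsPGroup.of_bot, Subgroup.le_normalizer_of_normal, bot_le⟩
  obtain ⟨hJp, hYJ, hJC⟩ := hJ.1
  have hJe : sSup (C J) = J := le_antisymm (sSup_le fun U hU => hU.2) hJC
  obtain ⟨P, hP⟩ := hJp.exists_le_sylow
  refine ⟨P, ?_⟩
  have hW : (⨆ g ∈ {g : G | MulAut.conj g • Z ≤ (P : Subgroup G)}, MulAut.conj g • Z : Subgroup G)
      = J := by
    refine le_antisymm (iSup₂_le fun g hg => ?_) (hJC.trans (sSup_le ?_))
    · by_contra hcon
      haveI : Group.IsNilpotent (P : Subgroup G) := P.isPGroup'.isNilpotent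
      obtain ⟨X, ⟨⟨x, rfl⟩, hXP⟩, hX0, hXN⟩ := S0539.ambient (C P) (C J)
        (fun U hU => ⟨hU.1, hU.2.trans hP⟩) P
        (by rw [hJe]; exact Core.subnormalIn_of_nilpotent hP)
        (by
          rintro U ⟨⟨x, rfl⟩, hU⟩ y hy
          refine ⟨⟨y * x, (conj_mul_smul _ _ _).symm⟩, ?_⟩
          rw [← conj_smul_eq_self_iff.2 (Subgroup.le_normalizer hy)]
          exact Subgroup.pointwise_smul_le_pointwise_smul_iff.2 hU)
        ⟨_, ⟨⟨g, rfl⟩, hg⟩, fun h0 => hcon h0.2, hg⟩
      rw [hJe] at hXN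
      set K : Subgroup G := ⨆ y ∈ Y, MulAut.conj (y * x) • Z with hK
      have hKN : K ≤ Subgroup.normalizer (J : Set G) := iSup₂_le fun y hy => by
        have h1 : MulAut.conj y • Subgroup.normalizer (J : Set G) = Subgroup.normalizer (J : Set G) :=
          conj_smul_eq_self_iff.2 (Subgroup.le_normalizer (hYJ hy))
        rw [conj_mul_smul, ← h1]
        exact Subgroup.pointwise_smul_le_pointwise_smul_iff.2 hXN
      have hKe : K = sSup {U | ∃ y ∈ Y, U = MulAut.conj (y * x) • Z} := by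
        refine le_antisymm (iSup₂_le fun y hy => le_sSup ⟨y, hy, rfl⟩) (sSup_le ?_)
        rintro U ⟨y, hy, rfl⟩
        exact le_iSup₂_of_le (f := fun y (_ : y ∈ Y) => MulAut.conj (y * x) • Z) y hy le_rfl
      have hYK : Y ≤ Subgroup.normalizer (K : Set G) := by
        rw [hKe]
        refine S0539.le_normalizer_sSup ?_
        rintro U ⟨y, hy, rfl⟩ z hz
        exact ⟨z * y, mul_mem hz hy, by rw [← conj_mul_smul, mul_assoc]⟩
      have hle : K ⊔ J ≤ J := hJ.le_of_ge ⟨IsPGroup.to_sup_of_normal_right' (h x) hJp hKN,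
        Core.le_normalizer_sup hYK hYJ, sup_le ?_ ?_⟩
        le_sup_right
      · refine hX0 ⟨⟨x, rfl⟩, le_trans ?_ (le_sup_left.trans hle)⟩
        refine le_iSup₂_of_le (f := fun y (_ : y ∈ Y) => MulAut.conj (y * x) • Z) 1 (one_mem _) ?_
        rw [one_mul]
      · exact iSup₂_le fun y hy => le_sSup ⟨⟨_, rfl⟩, le_sup_of_le_left
          (le_iSup₂_of_le (f := fun y (_ : y ∈ Y) => MulAut.conj (y * x) • Z) y hy le_rfl)⟩
      · exact hJC.trans (sSup_le_sSup fun U hU => ⟨hU.1, hU.2.trans le_sup_right⟩)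
    · rintro U ⟨⟨g, rfl⟩, hU⟩
      exact le_iSup₂_of_le (f := fun g (_ : g ∈ {g : G | MulAut.conj g • Z ≤ (P : Subgroup G)}) =>
        MulAut.conj g • Z) g (hU.trans hP) le_rfl
  rw [hW]
  exact hYJ

end Cfsg.Agent.S0541
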