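import Cfsg.Statements.S0542
import Cfsg.Agent.Lib.Hall.Prim
import Cfsg.Agent.Lib.Transfer.SylowIn

set_option autoImplicit false
open Cfsg

namespace Cfsg.Agent.S0542

open scoped Pointwise
open Cfsg.Lib Cfsg.Lib.Hall

/-- A Sylow p-subgroup of a finite group meets every subnormal subgroup H in a Sylow p-subgroup of H. -/
theorem result {G : Type*} [Group G] [Finite G] (p : ℕ) [Fact p.Prime] (H : Subgroup G) (hH : H.IsSubnormal) (S : Sylow p G) : ∃ Q : Sylow p H, (Q : Subgroup H) = (S : Subgroup G).subgroupOf H := by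
  have key : Transfer.SylowIn p ((S : Subgroup G) ⊓ H) H := by
    induction hH with
    | top => rw [inf_top_eq]; exact Transfer.sylowIn_top S
    | step H K hle hK hN ih =>
      have h1 := ih.inf_of_le ((Subgroup.normal_subgroupOf_iff_le_normalizer hle).1 hN) hle
      rwa [inf_assoc, inf_eq_right.2 hle] at h1
  refine ⟨key.toSylow, ?_⟩
  rw [key.coe_toSylow, Subgroup.inf_subgroupOf_right]

end Cfsg.Agent.S0542
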