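import Cfsg.Statements.S0546
import Cfsg.Agent.Lib.Hall.System

set_option autoImplicit false
open Cfsg

namespace Cfsg.Agent.S0546

open scoped Pointwise
open Cfsg.Lib Cfsg.Lib.Hall

/-- The normal closure of a system normalizer of a finite solvable group is the whole group. -/
theorem result {G : Type*} [Group G] [Finite G] [Group.IsSolvable G] (K : Nat.Primes → Subgroup G) (hK : Cfsg.IsComplementSystem K) : Subgroup.normalClosure ((Cfsg.systemNormalizer K : Subgroup G) : Set G) = ⊤ := by
  set N := Subgroup.normalClosure ((Cfsg.systemNormalizer K : Subgroup G) : Set G)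
  by_contra hN
  haveI : Nontrivial (G ⧸ N) := QuotientGroup.nontrivial_iff.2 hN
  have h1 := Group.IsSolvable.commutator_lt_top_of_nontrivial (G ⧸ N)
  haveI : Group.IsNilpotent (G ⧸ commutator G) :=
    inferInstanceAs (Group.IsNilpotent (Abelianization G))
  have h2 := congrArg (Subgroup.map (QuotientGroup.mk' N))
    (sup_systemNormalizer_eq_top hK (commutator G))
  rw [Subgroup.map_sup, (Core.map_mk'_eq_bot_iff N _).2 Subgroup.le_normalClosure, sup_bot_eq,
    Subgroup.map_top_of_surjective _ (QuotientGroup.mk'_surjective N), commutator,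
    Subgroup.map_commutator] at h2
  exact h1.not_ge (h2.ge.trans (Subgroup.commutator_mono le_top le_top))

end Cfsg.Agent.S0546
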