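import Cfsg.Statements.S0550
import Cfsg.Agent.Lib.Hall.Prim

set_option autoImplicit false
open Cfsg

namespace Cfsg.Agent.S0550

open scoped Pointwise
open Cfsg.Lib Cfsg.Lib.Hall

/-- Let U be a maximal subgroup with trivial normal core in a finite group G, and A ≠ B two minimal normal subgroups. Then A is the centralizer of B and B that of A, U complements each of them, A and B are non-abelian, and A, B and (A ⊔ B) ∩ U are pairwise isomorphic. -/
theorem result {G : Type*} [Group G] [Finite G] (U : Subgroup G) (hU : IsCoatom U) (hcore : U.normalCore = ⊥) (A B : Subgroup G) [A.Normal] [B.Normal] (hA : A ≠ ⊥) (hB : B ≠ ⊥) (hAmin : ∀ K : Subgroup G, K.Normal → K ≤ A → K = ⊥ ∨ K = A) (hBmin : ∀ K : Subgroup G, K.Normal → K ≤ B → K = ⊥ ∨ K = B) (hAB : A ≠ B) : Subgroup.centralizer (B : Set G) = A ∧ Subgroup.centralizer (A : Set G) = B ∧ Subgroup.IsComplement' A U ∧ Subgroup.IsComplement' B U ∧ ¬ IsMulCommutative A ∧ Nonempty (A ≃* B) ∧ Nonempty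 (A ≃* ↥((A ⊔ B) ⊓ U)) := by
  have hinf : A ⊓ B = ⊥ := by
    rcases hAmin _ inferInstance (inf_le_left : A ⊓ B ≤ A) with h | h
    · exact h
    · exact absurd ((hBmin A inferInstance (inf_eq_left.1 h)).resolve_left hA) hAB
  have h1 : Subgroup.centralizer (B : Set G) = A :=
    ((minNormal_centralizer_of_corefree hU hcore hB A inferInstance
      (le_centralizer_of_normal_of_inf_eq_bot hinf)).resolve_left hA).symm
  have h2 : Subgroup.centralizer (A : Set G) = B :=
    ((minNormal_centralizer_of_corefree hU hcore hA B inferInstance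
      (le_centralizer_of_normal_of_inf_eq_bot (inf_comm A B ▸ hinf))).resolve_left hB).symm
  have h3 : A ⊓ U = ⊥ := h1 ▸ centralizer_inf_eq_bot_of_corefree hU hcore hB
  have h4 : B ⊓ U = ⊥ := h2 ▸ centralizer_inf_eq_bot_of_corefree hU hcore hA
  have h5 := sup_eq_top_of_corefree hU hcore hA
  have h6 := sup_eq_top_of_corefree hU hcore hB
  have hD1 : A ⊓ ((A ⊔ B) ⊓ U) = ⊥ :=
    eq_bot_iff.2 (h3 ▸ inf_le_inf_left A inf_le_right)
  have hD2 : B ⊓ ((A ⊔ B) ⊓ U) = ⊥ :=
    eq_bot_iff.2 (h4 ▸ inf_le_inf_left B inf_le_right)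
  have hE1 : A ⊔ B = A ⊔ ((A ⊔ B) ⊓ U) := by
    rw [inf_comm, ← sup_inf_of_normal_le le_sup_left, h5, top_inf_eq]
  have hE2 : B ⊔ A = B ⊔ ((A ⊔ B) ⊓ U) := by
    rw [inf_comm, ← sup_inf_of_normal_le le_sup_right, h6, top_inf_eq, sup_comm]
  obtain ⟨e1⟩ := nonempty_mulEquiv_of_sup_eq hinf hD1 hE1
  obtain ⟨e2⟩ := nonempty_mulEquiv_of_sup_eq (inf_comm A B ▸ hinf) hD2 hE2
  refine ⟨h1, h2, isComplement'_of_normal h3 h5, isComplement'_of_normal h4 h6, fun hc => ?_,
    ⟨e2.trans e1.symm⟩, ⟨e2⟩⟩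
  have : A ≤ B := h2 ▸ le_centralizer_of_le_of_comm le_rfl
  exact hA (by rw [← hinf, inf_eq_left.2 this])

end Cfsg.Agent.S0550
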