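import Cfsg.Statements.S0551
import Cfsg.Agent.Lib.Hall.Prim

set_option autoImplicit false
open Pointwise
open Cfsg

namespace Cfsg.Agent.S0551

open scoped Pointwise
open Cfsg.Lib Cfsg.Lib.Hall

/-- In a finite solvable group all core-free maximal subgroups are conjugate. -/
theorem result {G : Type*} [Group G] [Finite G] [Group.IsSolvable G] (U V : Subgroup G) (hU : IsCoatom U) (hV : IsCoatom V) (hUc : U.normalCore = ⊥) (hVc : V.normalCore = ⊥) : ∃ g : G, MulAut.conj g • U = V := by
  haveI : Nontrivial G := by
    by_contra h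
    rw [not_nontrivial_iff_subsingleton] at h
    exact hU.1 (Subsingleton.elim _ _)
  obtain ⟨N, p, hNn, hN, hmin, hc, -⟩ := exists_minNormal_elementary (G := G)
  obtain ⟨g, -, h⟩ := exists_conj_of_isComplement'_of_centralizer_le hN hmin
    (centralizer_eq_of_corefree hU hUc hN).le (isComplement'_of_corefree hU hUc hN)
    (isComplement'_of_corefree hV hVc hN)
  exact ⟨g, h⟩

end Cfsg.Agent.S0551
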