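import Cfsg.Statements.S0552
import Cfsg.Agent.Lib.Hall.Prim

set_option autoImplicit false
open Cfsg

namespace Cfsg.Agent.S0552

open scoped Pointwise
open Cfsg.Lib Cfsg.Lib.Hall

/-- Let σ be an automorphism of a finite solvable group G fixing every element of the Fitting subgroup. If σ is not the identity then the order of σ and the order of G have a common prime factor. -/
theorem result {G : Type*} [Group G] [Finite G] [Group.IsSolvable G] (σ : G ≃* G) (hσ : ∀ x ∈ Cfsg.fittingSubgroup G, σ x = x) (hne : σ ≠ MulEquiv.refl G) : ¬ (orderOf σ).Coprime (Nat.card G) := by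
  intro hcop
  haveI := Core.fitting_normal G
  apply hne
  ext g
  -- `c = σ g * g⁻¹` centralises the Fitting subgroup, hence lies in it
  have hc : σ g * g⁻¹ ∈ Cfsg.fittingSubgroup G := by
    refine Core.centralizer_fitting_le (Subgroup.mem_centralizer_iff.2 fun x hx => ?_)
    have h1 := hσ _ (‹(Cfsg.fittingSubgroup G).Normal›.conj_mem x hx g⁻¹)
    rw [map_mul, map_mul, hσ x hx, inv_inv, map_inv] at h1
    calc x * (σ g * g⁻¹) = σ g * ((σ g)⁻¹ * x * σ g) * g⁻¹ := by group
      _ = σ g * g⁻¹ * x := by rw [h1]; group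
  have hpow : ∀ n : ℕ, ((σ : MulAut G) ^ n) g = (σ g * g⁻¹) ^ n * g := by
    intro n
    induction n with
    | zero => simp
    | succ n ih =>
      rw [pow_succ', MulAut.mul_apply, ih, map_mul, map_pow, hσ _ hc, pow_succ]
      group
  have h1 := hpow (orderOf σ)
  rw [pow_orderOf_eq_one, MulAut.one_apply, eq_comm, mul_eq_right] at h1
  have h2 : orderOf (σ g * g⁻¹) = 1 :=
    Nat.eq_one_of_dvd_coprimes hcop (orderOf_dvd_of_pow_eq_one h1) (orderOf_dvd_natCard _)
  rw [orderOf_eq_one_iff, mul_inv_eq_one] at h2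
  exact h2

end Cfsg.Agent.S0552
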