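import Cfsg.Statements.S0553
import Cfsg.Agent.Lib.Hall.Supersolvable

set_option autoImplicit false
open Cfsg

namespace Cfsg.Agent.S0553

open scoped Pointwise
open Cfsg.Lib Cfsg.Lib.Hall

/-- Let G be a nontrivial finite solvable group in which every maximal subgroup has order coprime to its index. Then for some prime p dividing the order of G the Sylow p-subgroups of G are normal. -/
theorem result {G : Type*} [Group G] [Finite G] [Group.IsSolvable G] [Nontrivial G] (h : ∀ M : Subgroup G, IsCoatom M → (Nat.card M).Coprime M.index) : ∃ p : ℕ, p.Prime ∧ p ∣ Nat.card G ∧ ∀ P : Sylow p G, (P : Subgroup G).Normal := by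
  have h1 : ¬ Cfsg.fittingSubgroup G ≤ frattini G := by
    intro hle
    haveI : Nontrivial (G ⧸ frattini G) := QuotientGroup.nontrivial_iff.2 Core.frattini_ne_top
    apply Core.fitting_ne_bot_of_solvable (G := G ⧸ frattini G)
    rw [← Core.map_fitting_quotient_of_le_frattini _ le_rfl, Core.map_mk'_eq_bot_iff]
    exact hle
  obtain ⟨p, hp, h2⟩ : ∃ p : ℕ, p.Prime ∧ ¬ Cfsg.pCore p G ≤ frattini G := by
    by_contra h3
    push Not at h3
    exact h1 (Core.fitting_le_of_forall_pCore_le h3)
  haveI := Fact.mk hp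
  rw [Core.le_frattini_iff] at h2
  push Not at h2
  obtain ⟨M, hM, h2⟩ := h2
  have hf := factor_of_sup_eq_top' (sup_eq_top_of_isCoatom_of_not_le hM h2)
  have h3 := index_dvd_card_of_factor hf
  obtain ⟨k, hk⟩ := (Core.isPGroup_pCore p G).exists_card_eq
  obtain ⟨j, -, hj⟩ := (Nat.dvd_prime_pow hp).1 (hk ▸ h3)
  have h4 : p ∣ M.index := by
    rw [hj]
    refine dvd_pow_self p ?_
    rintro rfl
    exact hM.1 (Subgroup.index_eq_one.1 (by rw [hj, pow_zero]))
  refine ⟨p, hp, h4.trans M.index_dvd_card,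
    sylow_normal_of_not_dvd_index (Core.isPGroup_pCore p G) fun h5 => ?_⟩
  have h6 := h5.trans (index_dvd_card_of_factor (factor_symm hf))
  exact hp.one_lt.ne' (Nat.eq_one_of_dvd_coprimes (h M hM) h6 h4)

end Cfsg.Agent.S0553
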