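import Cfsg.Statements.S0554
import Cfsg.Agent.Lib.Hall.Supersolvable

set_option autoImplicit false
open Cfsg

namespace Cfsg.Agent.S0554

open scoped Pointwise
open Cfsg.Lib Cfsg.Lib.Hall

theorem prod_update {G : Type*} [Group G] {t : ℕ} (s : Fin t → G) (i : Fin t) :
    ∃ a : G, ∀ u : G, (List.ofFn (Function.update s i (u * s i))).prod =
      a * u * a⁻¹ * (List.ofFn s).prod := by
  refine ⟨((List.ofFn s).take i).prod, fun u => ?_⟩
  have h1 : ∀ x : G, List.ofFn (Function.update s i x) = (List.ofFn s).set i x := by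
    intro x
    refine List.ext_getElem (by simp) fun j h1 h2 => ?_
    rw [List.getElem_ofFn, List.getElem_set, Function.update_apply]
    simp only [List.getElem_ofFn, Fin.ext_iff, eq_comm]
  have h2 := h1 (s i)
  rw [Function.update_eq_self] at h2
  rw [h1, List.prod_set]
  conv_rhs => rw [h2, List.prod_set]
  rw [← h2]
  simp only [List.length_ofFn, Fin.is_lt, if_true]
  group

/-- Let G be a finite solvable group and let S assign to each of t distinct primes, including every prime divisor of the order of G, a Sylow subgroup of G. Then every element of G is a product s_0 s_1 ⋯ s_(t-1) with s_i in S i, the factors taken in the given order. -/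
theorem result {G : Type*} [Group G] [Finite G] [Group.IsSolvable G] (t : ℕ) (p : Fin t → ℕ) (hp : ∀ i, (p i).Prime) (hinj : Function.Injective p) (hall : ∀ q : ℕ, q.Prime → q ∣ Nat.card G → ∃ i, p i = q) (S : (i : Fin t) → Sylow (p i) G) : ∀ g : G, ∃ s : (i : Fin t) → G, (∀ i, s i ∈ (S i : Subgroup G)) ∧ g = (List.ofFn s).prod := by
  have key := solvable_normal_induction (G := G)
    (fun N => ∀ g : G, ∃ s : (i : Fin t) → G, (∀ i, s i ∈ (S i : Subgroup G)) ∧
      ∃ n ∈ N, g = n * (List.ofFn s).prod)
    (fun g => ⟨fun _ => 1, fun i => one_mem _, g * ((List.ofFn fun _ : Fin t => (1 : G)).prod)⁻¹,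
      Subgroup.mem_top _, by group⟩)
    (fun N M _ _ q hq hlt _ _ _ hP ih g => by
      obtain ⟨s, hs, m, hm, rfl⟩ := ih g
      haveI := Fact.mk hq
      have h1 : q ∣ Nat.card G := by
        have h2 : M.map (QuotientGroup.mk' N) ≠ ⊥ := fun h3 =>
          hlt.not_ge ((Core.map_mk'_eq_bot_iff N M).1 h3)
        exact ((Core.dvd_card_of_isPGroup_of_ne_bot hq hP h2).trans
          (Subgroup.card_map_dvd _ _)).trans M.card_subgroup_dvd_card
      obtain ⟨i, rfl⟩ := hall q hq h1
      haveI := Core.normal_map_mk' N M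
      have h2 : M ≤ N ⊔ S i := by
        rw [← Core.map_mk'_le_map_mk'_iff]
        exact hP.le_sylow_of_normal ((S i).mapSurjective (QuotientGroup.mk'_surjective N))
      obtain ⟨a, ha⟩ := prod_update s i
      obtain ⟨n, hn, u, hu, h3⟩ := (Core.mem_sup_of_le_normalizer_left
        (le_normalizer_of_normal' _ N)).1 (h2 (‹M.Normal›.conj_mem m hm a⁻¹))
      refine ⟨Function.update s i (u * s i), fun j => ?_, a * n * a⁻¹,
        ‹N.Normal›.conj_mem n hn a, ?_⟩
      · by_cases hj : j = i
        · subst hj; rw [Function.update_self]; exact mul_mem hu (hs j)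
        · rw [Function.update_of_ne hj]; exact hs j
      · rw [ha]
        calc m * (List.ofFn s).prod = a * (a⁻¹ * m * a⁻¹⁻¹) * a⁻¹ * (List.ofFn s).prod := by group
          _ = _ := by rw [← h3]; group) ⊥
  intro g
  obtain ⟨s, hs, n, hn, h⟩ := key g
  exact ⟨s, hs, by rw [h, Subgroup.mem_bot.1 hn, one_mul]⟩

end Cfsg.Agent.S0554
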