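import Cfsg.Statements.S0555
import Cfsg.Agent.Lib.Hall.Supersolvable

set_option autoImplicit false
open Cfsg

namespace Cfsg.Agent.S0555

open scoped Pointwise
open Cfsg.Lib Cfsg.Lib.Hall

/-- Let i ≥ 1. If in the derived series of a group the quotient of the i-th term by the (i+1)-st and the quotient of the (i+1)-st by the (i+2)-nd are both cyclic, then the (i+1)-st and (i+2)-nd terms coincide. -/
theorem result {G : Type*} [Group G] (i : ℕ) (hi : 1 ≤ i) (h₁ : IsCyclic (↥(derivedSeries G i) ⧸ (derivedSeries G (i + 1)).subgroupOf (derivedSeries G i))) (h₂ : IsCyclic (↥(derivedSeries G (i + 1)) ⧸ (derivedSeries G (i + 2)).subgroupOf (derivedSeries G (i + 1)))) : derivedSeries G (i + 1) = derivedSeries G (i + 2) := by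
  obtain ⟨e₂⟩ := nonempty_quotient_subgroupOf_equiv (derivedSeries G (i + 2))
    (derivedSeries G (i + 1))
  obtain ⟨e₁⟩ := nonempty_quotient_subgroupOf_equiv (derivedSeries G (i + 1)) (derivedSeries G i)
  have hle : ∀ j, derivedSeries G (j + 1) ≤ derivedSeries G j := fun j =>
    Subgroup.commutator_le_self _
  obtain ⟨a, -, ha⟩ := exists_eq_sup_zpowers_of_isCyclic (hle (i + 1))
    (isCyclic_of_surjective e₂ e₂.surjective)
  obtain ⟨b, hb, hb'⟩ := exists_eq_sup_zpowers_of_isCyclic (hle i)
    (isCyclic_of_surjective e₁ e₁.surjective)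
  haveI : (derivedSeries G (i + 2) ⊔ Subgroup.zpowers a).Normal := ha ▸ inferInstance
  have h1 := commutator_commutator_le_of_cyclic_section (derivedSeries G (i + 2)) a
  rw [← ha] at h1
  have h2 : derivedSeries G i ≤ commutator G := by
    obtain ⟨j, rfl⟩ := Nat.exists_eq_add_of_le' hi
    exact Subgroup.commutator_mono le_top le_top
  refine le_antisymm ?_ (hle _)
  set N := derivedSeries G (i + 2)
  set A := (derivedSeries G (i + 1)).map (QuotientGroup.mk' N) with hA
  have h3 : A ≤ Subgroup.centralizer
      (((derivedSeries G i).map (QuotientGroup.mk' N) : Subgroup (G ⧸ N)) : Set (G ⧸ N)) := by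
    rw [← Subgroup.commutator_eq_bot_iff_le_centralizer, ← Subgroup.map_commutator,
      Core.map_mk'_eq_bot_iff]
    exact (Subgroup.commutator_mono le_rfl h2).trans h1
  have h4 : (derivedSeries G i).map (QuotientGroup.mk' N) =
      A ⊔ Subgroup.zpowers (QuotientGroup.mk' N b) := by
    rw [hb', Subgroup.map_sup, MonoidHom.map_zpowers]
  haveI : IsCyclic A := isCyclic_of_surjective e₂ e₂.surjective
  haveI : IsMulCommutative ((derivedSeries G i).map (QuotientGroup.mk' N)) := by
    rw [h4] at h3 ⊢
    exact Core.isMulCommutative_sup_of_le_centralizer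
      (h3.trans (Core.centralizer_anti le_sup_right))
  rw [← Core.map_mk'_eq_bot_iff, derivedSeries_succ, Subgroup.map_commutator,
    Subgroup.commutator_eq_bot_iff_le_centralizer]
  exact le_centralizer_of_le_of_comm le_rfl

end Cfsg.Agent.S0555
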