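import Cfsg.Statements.S0556
import Cfsg.Agent.Lib.Hall.SolvCrit
import Cfsg.Agent.Lib.PGrp.Cyclic
import Cfsg.Agent.Lib.Clifford.Frobenius
import Cfsg.Agent.Lib.Coprime.Frobenius
import Cfsg.Agent.Lib.Coprime.Sylow

set_option autoImplicit false
open Cfsg

namespace Cfsg.Agent.S0556

open scoped Pointwise
open Cfsg.Lib Cfsg.Lib.Hall

theorem aux {G : Type*} [Group G] [Finite G] (A : Subgroup G) (hA : IsCoatom A)
    [IsMulCommutative A] (hTI : ∀ g, g ∉ A → ∀ a ∈ A, g * a * g⁻¹ ∈ A → a = 1) :
    ⁅commutator G, commutator G⁆ = ⊥ := by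
  obtain ⟨N, -, hNn, hNA, hsup, -⟩ := Clifford.frobenius_complement (H := A) (K := ⊤) le_top
    fun g _ hg => hTI g hg
  haveI : N.Normal := ⟨fun n hn g => hNn g trivial n hn⟩
  have hf : Coprime.Fpf N A := Coprime.fpf_iff.2 fun r hr hr1 k hk e => by
    by_contra hk1
    have hkH : k ∉ A := fun h => hk1 (Subgroup.mem_bot.1 (hNA ▸ ⟨hk, h⟩))
    exact hr1 (hTI k hkH r hr (by rwa [← e, mul_inv_cancel_right]))
  have hn : A ≤ Subgroup.normalizer (N : Set G) := Subgroup.le_normalizer_of_normal
  have hN0 : N ≠ ⊥ := fun h0 => hA.1 (by rwa [h0, sup_bot_eq] at hsup)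
  obtain ⟨q, hq, hqd⟩ := Nat.exists_prime_and_dvd (n := Nat.card N)
    fun h => hN0 (Subgroup.card_eq_one.1 h)
  haveI := Fact.mk hq
  obtain ⟨V, hVN, hV0, hAV, hVc, -⟩ := Coprime.exists_invariant_elementary hn (hf.coprime hn)
    (Or.inl (Coprime.isSolvable_of_isMulCommutative A)) hqd
  have htop : V ⊔ A = ⊤ := sup_eq_top_of_isCoatom_of_not_le hA fun h =>
    hV0 (le_bot_iff.1 (hNA ▸ le_inf hVN h))
  have hNV : N ≤ V := fun n hn' => by
    obtain ⟨a, ha, v, hv, rfl⟩ := (perm_of_le_normalizer hAV).exists_mul (g := n)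
      (by rw [sup_comm, htop]; trivial)
    have : a ∈ N ⊓ A := ⟨by simpa using mul_mem hn' (inv_mem (hVN hv)), ha⟩
    rw [hNA, Subgroup.mem_bot] at this
    rwa [this, one_mul]
  have hcomm : commutator G ≤ N := Subgroup.Normal.commutator_le_of_self_sup_commutative_eq_top
    (by rw [sup_comm, hsup]) ‹_›
  rw [Subgroup.commutator_eq_bot_iff_le_centralizer]
  exact (hcomm.trans hNV).trans (le_centralizer_of_le_of_comm (hcomm.trans hNV) |>.trans' le_rfl)

/-- If a finite group has a maximal subgroup that is abelian, then the third term of its derived series is trivial (so the group is solvable of derived length at most three). -/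
theorem result {G : Type*} [Group G] [Finite G] (A : Subgroup G) (hA : IsCoatom A) [IsMulCommutative A] : derivedSeries G 3 = ⊥ := by
  have h3 : derivedSeries G 3 = ⁅⁅commutator G, commutator G⁆, ⁅commutator G, commutator G⁆⁆ := rfl
  rw [h3]
  by_cases hn : A.Normal
  · obtain ⟨g, -, hg⟩ := SetLike.exists_of_lt (lt_top_iff_ne_top.2 hA.1)
    haveI : IsCyclic (G ⧸ A) := (PGrp.isCyclic_quotient_iff _).2 ⟨g, by
      rw [sup_comm]
      exact sup_eq_top_of_isCoatom_of_not_le hA fun h => hg (h (Subgroup.mem_zpowers g))⟩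
    have hc : commutator G ≤ A :=
      Subgroup.Normal.quotient_commutative_iff_commutator_le.1 inferInstance
    have : ⁅commutator G, commutator G⁆ = ⊥ := by
      rw [Subgroup.commutator_eq_bot_iff_le_centralizer]
      exact hc.trans (le_centralizer_of_le_of_comm hc)
    rw [this, Subgroup.commutator_bot_left]
  have hNA : Subgroup.normalizer (A : Set G) = A := by
    refine ((hA.le_iff.1 Subgroup.le_normalizer).resolve_left fun h => hn ?_)
    exact Subgroup.normalizer_eq_top_iff.1 h
  have hZA : Subgroup.center G ≤ A := hNA ▸ Subgroup.center_le_normalizer _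
  have hTI : ∀ g, g ∉ A → ∀ a ∈ A, g * a * g⁻¹ ∈ A → a ∈ Subgroup.center G := by
    intro g hg a ha hga
    have h1 : A ≤ Subgroup.centralizer {a} := fun b hb =>
      Subgroup.mem_centralizer_singleton_iff.2
        (congrArg Subtype.val (mul_comm' (⟨b, hb⟩ : A) ⟨a, ha⟩))
    rcases hA.le_iff.1 h1 with h2 | h2
    · exact Subgroup.mem_center_iff.2 fun b =>
        Subgroup.mem_centralizer_singleton_iff.1 (h2.ge (Subgroup.mem_top b))
    · exfalso
      refine hg (hNA ▸ ?_)
      rw [← inv_mem_iff, ← conj_smul_eq_self_iff]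
      refine Subgroup.eq_of_le_of_card_ge ?_ (card_conj_smul A g⁻¹).ge
      intro x hx
      rw [Hall.mem_conj_smul, inv_inv] at hx
      rw [← h2, Subgroup.mem_centralizer_singleton_iff]
      have := congrArg Subtype.val (mul_comm' (⟨_, hx⟩ : A) ⟨_, hga⟩)
      simp only [Subgroup.coe_mul] at this
      calc x * a = g⁻¹ * (g * x * g⁻¹ * (g * a * g⁻¹)) * g := by group
        _ = a * x := by rw [this]; group
  set f := QuotientGroup.mk' (Subgroup.center G)
  have hsurj : Function.Surjective f := QuotientGroup.mk'_surjective _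
  have hker : f.ker ≤ A := by rwa [QuotientGroup.ker_mk']
  have hmem : ∀ x, f x ∈ A.map f → x ∈ A := fun x hx => by
    have : x ∈ (A.map f).comap f := hx
    rwa [Subgroup.comap_map_eq_self hker] at this
  haveI : IsMulCommutative (A.map f) := Subgroup.map_isMulCommutative A f
  have hco : IsCoatom (A.map f) := by
    refine ⟨fun h => hA.1 (eq_top_iff.2 fun x _ => hmem x (h ▸ Subgroup.mem_top _)), fun B hB => ?_⟩
    have h1 : A < B.comap f := lt_of_le_of_ne (Subgroup.map_le_iff_le_comap.1 hB.le) fun h => by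
      rw [h, Subgroup.map_comap_eq_self_of_surjective hsurj] at hB
      exact lt_irrefl _ hB
    rw [← Subgroup.map_comap_eq_self_of_surjective hsurj B, hA.2 _ h1,
      Subgroup.map_top_of_surjective _ hsurj]
  have h4 := aux (A.map f) hco (by
    intro g hg a ha hga
    obtain ⟨g, rfl⟩ := hsurj g
    obtain ⟨a, rfl⟩ := hsurj a
    rw [← map_inv, ← map_mul, ← map_mul] at hga
    exact (QuotientGroup.eq_one_iff a).2 (hTI g (fun h => hg ⟨g, h, rfl⟩) a (hmem a ha) (hmem _ hga)))
  have h5 : ⁅commutator G, commutator G⁆ ≤ Subgroup.center G := by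
    rw [← QuotientGroup.ker_mk' (Subgroup.center G), ← Subgroup.map_eq_bot_iff,
      Subgroup.map_commutator, commutator_def, Subgroup.map_commutator,
      Subgroup.map_top_of_surjective _ hsurj]
    exact h4
  rw [Subgroup.commutator_eq_bot_iff_le_centralizer]
  exact h5.trans (Subgroup.center_le_centralizer _)

end Cfsg.Agent.S0556
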