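import Cfsg.Statements.S0557
import Cfsg.Agent.Lib.Hall.Supersolvable
import Cfsg.Agent.Lib.Transfer.Frobenius

set_option autoImplicit false
open Cfsg

namespace Cfsg.Agent.S0557

open scoped Pointwise
open Cfsg.Lib Cfsg.Lib.Hall

/-- Let H be a subgroup of a finite group G with order coprime to its index. If iterating the focal-subgroup construction starting from H reaches the trivial subgroup after finitely many steps, then H has a normal complement in G. -/
theorem result {G : Type*} [Group G] [Finite G] (H : Subgroup G) (hHall : (Nat.card H).Coprime H.index) (n : ℕ) (hfoc : (fun K : Subgroup G => Subgroup.focalSubgroup K)^[n] H = ⊥) : ∃ N : Subgroup G, N.Normal ∧ Subgroup.IsComplement' N H := by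
  set N := Subgroup.closure {g : G | (orderOf g).Coprime (Nat.card H)} with hN
  haveI hNn : N.Normal := by
    refine Core.normal_of_forall_map_conj_le fun g => ?_
    rw [hN, MonoidHom.map_closure]
    refine Subgroup.closure_mono ?_
    rintro _ ⟨x, hx, rfl⟩
    change (orderOf (MulAut.conj g x)).Coprime _
    rw [MulEquiv.orderOf_eq]; exact hx
  -- `N H = G`
  have hsup : N ⊔ H = ⊤ := by
    refine Core.eq_top_of_forall_sylow_le fun p _ _ => ?_
    by_cases hp : p ∣ Nat.card H
    · obtain ⟨P⟩ : Nonempty (Sylow p H) := inferInstance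
      obtain ⟨Q, hQ⟩ := exists_sylow_eq_of_isPiHall (isPiHall_of_isPiHallOf
        (isPiHallOf_map_subtype (isPiHall_sylow P))
        ((Core.coprime_iff_isPiNumber_compl Fact.out).1 (hHall.coprime_dvd_left hp).symm))
      exact ⟨Q, hQ ▸ (Subgroup.map_subtype_le _).trans le_sup_right⟩
    · obtain ⟨P⟩ : Nonempty (Sylow p G) := inferInstance
      refine ⟨P, le_trans (fun x hx => Subgroup.subset_closure ?_) le_sup_left⟩
      exact Core.coprime_orderOf_of_mem (Core.coprime_card_of_isPGroup Fact.out P.isPGroup'
        ((Core.coprime_iff_not_dvd Fact.out).2 hp)) hx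
  -- the transfer of `N` into `K = H ∩ N`
  have hK : H ⊓ N ≤ (H ⊓ N).focalSubgroup := by
    set K := (H ⊓ N).subgroupOf N with hKdef
    have hcK : Nat.card K ∣ Nat.card H := by
      rw [card_subgroupOf_of_le inf_le_right]; exact Subgroup.card_dvd_of_le inf_le_left
    have hV : ∀ x (hx : x ∈ N), K.transferFocal ⟨x, hx⟩ = 1 := by
      intro x hx
      induction hx using Subgroup.closure_induction with
      | mem x hx =>
        rw [← orderOf_eq_one_iff]
        refine Nat.eq_one_of_dvd_coprimes hx ?_ ?_
        · exact (orderOf_map_dvd _ _).trans (Subgroup.orderOf_mk _ _).dvd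
        · exact (orderOf_dvd_natCard _).trans ((Subgroup.card_quotient_dvd_card _).trans hcK)
      | one => exact map_one _
      | mul x y hx hy h1 h2 =>
        have : (⟨x * y, mul_mem hx hy⟩ : N) = ⟨x, hx⟩ * ⟨y, hy⟩ := rfl
        rw [this, map_mul, h1, h2, mul_one]
      | inv x hx h1 =>
        have : (⟨x⁻¹, inv_mem hx⟩ : N) = (⟨x, hx⟩ : N)⁻¹ := rfl
        rw [this, map_inv, h1, inv_one]
    have hidx : K.index ∣ H.index := by
      rw [hKdef, Subgroup.inf_subgroupOf_right]
      exact relIndex_dvd_index_of_normal_right H N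
    intro x hx
    let y : K := ⟨⟨x, hx.2⟩, hx⟩
    have h1 := K.transferFocal_eq_pow y
    rw [hV x hx.2, eq_comm, ← QuotientGroup.mk_pow, QuotientGroup.eq_one_iff] at h1
    have h2 : y ∈ K.focalSubgroupOf := Transfer.mem_of_pow_mem_of_coprime
      ((hHall.coprime_dvd_right hidx).coprime_dvd_left ((orderOf_dvd_natCard y).trans hcK)) h1
    have h3 : x ∈ Transfer.focalIn (H ⊓ N) N := by
      rw [← Transfer.map_focalSubgroup_subgroupOf inf_le_right]
      exact ⟨⟨x, hx.2⟩, h2, rfl⟩
    rw [← Transfer.focalIn_top]
    exact Transfer.focalIn_mono_right _ le_top h3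
  have hmono : ∀ A B : Subgroup G, A ≤ B → A.focalSubgroup ≤ B.focalSubgroup := by
    intro A B hAB
    rw [← Transfer.focalIn_top, ← Transfer.focalIn_top, Transfer.focalIn_le_iff]
    exact fun x hx u hu h => Transfer.mem_focalIn (hAB hx) hu (hAB h)
  have hall : ∀ m : ℕ, H ⊓ N ≤ (fun K : Subgroup G => Subgroup.focalSubgroup K)^[m] H := by
    intro m
    induction m with
    | zero => exact inf_le_left
    | succ m ih => rw [Function.iterate_succ_apply']; exact hK.trans (hmono _ _ ih)
  exact ⟨N, hNn, isComplement'_of_normal (by rw [inf_comm, eq_bot_iff, ← hfoc]; exact hall n) hsup⟩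

end Cfsg.Agent.S0557
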