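import Cfsg.Statements.S0558
import Cfsg.Agent.Lib.Hall.NilpHall

set_option autoImplicit false
open Cfsg

namespace Cfsg.Agent.S0558

open scoped Pointwise
open Cfsg.Lib Cfsg.Lib.Hall

/-- Let H be a subgroup of a finite group G that is not a Sylow subgroup of G for any prime, and suppose that for every prime p dividing the order of H and every Sylow p-subgroup P of H the normalizer of P in G is exactly H. Then some normal subgroup of G is a complement to H. -/
theorem result {G : Type*} [Group G] [Finite G] (H : Subgroup G) (hnot : ∀ p : ℕ, p.Prime → ∀ P : Sylow p G, (P : Subgroup G) ≠ H) (hnorm : ∀ p : ℕ, p.Prime → p ∣ Nat.card H → ∀ P : Sylow p H, Subgroup.normalizer (((P : Subgroup H).map H.subtype : Subgroup G) : Set G) = H) : ∃ N : Subgroup G, N.Normal ∧ Subgroup.IsComplement' N H := by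
  have hn : ∀ p : ℕ, p.Prime → ∀ T : Subgroup G, Transfer.SylowIn p T H → T ≠ ⊥ →
      Subgroup.normalizer (T : Set G) = H := fun p hp T hT h0 => by
    haveI := Fact.mk hp
    have := hnorm p hp (by_contra fun hc => h0 (hT.eq_bot_iff.2 hc)) hT.toSylow
    rwa [hT.map_toSylow] at this
  haveI : Group.IsNilpotent H := by
    refine Core.isNilpotent_iff_sylow_normal.2 fun p hp P => ?_
    by_cases h0 : (P : Subgroup H).map H.subtype = ⊥
    · rw [(Subgroup.map_eq_bot_iff_of_injective _ H.subtype_injective).1 h0]; infer_instance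
    · have h1 := (hn p hp.out _ (Transfer.sylowIn_map_subtype P) h0).ge
      refine ⟨fun x hx g => ?_⟩
      obtain ⟨y, hy, e⟩ := (Subgroup.mem_normalizer_iff.1 (h1 g.2) x).1 ⟨x, hx, rfl⟩
      have : y = g * x * g⁻¹ := Subtype.ext e
      exact this ▸ hy
  refine exists_normal_isComplement'_of_normalizer_le (fun p hp hH => ?_)
    fun p hp T hT h0 => (hn p hp T hT h0).le
  haveI := Fact.mk hp
  by_cases h0 : H = ⊥
  · obtain ⟨q, hq, hqp⟩ := Nat.exists_infinite_primes (Nat.card G + 1)
    haveI := Fact.mk hqp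
    obtain ⟨S⟩ : Nonempty (Sylow q G) := inferInstance
    refine hnot q hqp S ?_
    rw [h0]
    refine (Transfer.sylowIn_top S).eq_bot_iff.2 fun hd => ?_
    rw [Subgroup.card_top] at hd
    have := Nat.le_of_dvd Nat.card_pos hd
    omega
  · have hT : Transfer.SylowIn p H H := ⟨le_rfl, hH, by
      rw [Subgroup.relIndex_self]; exact hp.one_lt.ne' ∘ Nat.dvd_one.1⟩
    obtain ⟨S, hS⟩ := (Coprime.sylowIn_of_sylowIn_normalizer (K := ⊤) (by
      rw [top_inf_eq, hn p hp H hT h0]; exact hT)).exists_sylow_top
    exact hnot p hp S hS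

end Cfsg.Agent.S0558
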