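import Cfsg.Statements.S0561
import Cfsg.Agent.Lib.Hall.SolvCrit

set_option autoImplicit false
open Pointwise
open Cfsg

namespace Cfsg.Agent.S0561

open scoped Pointwise
open Cfsg.Lib Cfsg.Lib.Hall

/-- Let the finite solvable group G be the product HK of subgroups, and let A be normal in H and B normal in K, where A and B are Hall subgroups of G (order coprime to index). Then for all x, y the product set of xAx⁻¹ and yBy⁻¹ is a subgroup of G. -/
theorem result {G : Type*} [Group G] [Finite G] [Group.IsSolvable G] (H K A B : Subgroup G) (hHK : ∀ g : G, ∃ h ∈ H, ∃ k ∈ K, g = h * k) (hA : A ≤ H) (hAn : (A.subgroupOf H).Normal) (hB : B ≤ K) (hBn : (B.subgroupOf K).Normal) (hAh : (Nat.card A).Coprime A.index) (hBh : (Nat.card B).Coprime B.index) (x y : G) : ∃ S : Subgroup G, (S : Set G) = ((MulAut.conj x • A : Subgroup G) : Set G) * ((MulAut.conj y • B : Subgroup G) : Set G) := by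
  have hA' := isPiHall_of_coprime hAh
  have hB' := isPiHall_of_coprime hBh
  set π : Set ℕ := {p | p ∣ Nat.card A}
  set σ : Set ℕ := {p | p ∣ Nat.card B}
  obtain ⟨R, hR⟩ := exists_isPiHall (G := G) (π ∪ σ)
  obtain ⟨u, hu⟩ := le_conj_of_isPiHall (U := A) hR fun p hp hd => Or.inl hd
  obtain ⟨v, hv⟩ := le_conj_of_isPiHall (U := B) hR fun p hp hd => Or.inr hd
  have hHA : H ≤ Subgroup.normalizer (A : Set G) :=
    (Subgroup.normal_subgroupOf_iff_le_normalizer hA).1 hAn
  have hKB : K ≤ Subgroup.normalizer (B : Set G) :=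
    (Subgroup.normal_subgroupOf_iff_le_normalizer hB).1 hBn
  obtain ⟨h, hh, k, hk, z, h1, h2⟩ := exists_conj_le_conj_of_factor hHK hu hv
  rw [conj_smul_eq_self_iff.2 (hHA hh)] at h1
  rw [conj_smul_eq_self_iff.2 (hKB hk)] at h2
  have hR' := (isPiHall_iff.1 (isPiHall_conj_smul hR z)).1
  set M := MulAut.conj z • R
  have hperm : Perm A B := perm_iff_exists.2 ⟨M, coe_eq_mul_of_coprime_relIndex h1 h2 (by
    refine Nat.coprime_of_dvd fun p hp hd hd' => ?_
    rcases hR' p hp (hd.trans (Subgroup.relIndex_dvd_card _ _)) with h3 | h3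
    · exact (isPiHall_iff.1 hA').2 p hp (hd.trans (Subgroup.relIndex_dvd_index_of_le h1)) h3
    · exact (isPiHall_iff.1 hB').2 p hp (hd'.trans (Subgroup.relIndex_dvd_index_of_le h2)) h3)⟩
  exact perm_iff_exists.1 (hperm.conj_conj_of_factor hHK hHA hKB x y)

end Cfsg.Agent.S0561
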