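import Cfsg.Statements.S0563
import Cfsg.Agent.Lib.Hall.KW
import Cfsg.Agent.S0561

set_option autoImplicit false
open Pointwise
open Cfsg

namespace Cfsg.Agent.S0563

open scoped Pointwise commutatorElement
open Cfsg.Lib Cfsg.Lib.Hall

open Subgroup Cfsg.Lib.Core Cfsg.Lib.Amalg Cfsg.Lib.BG1

/-- If a finite group G is the product AB of two nilpotent subgroups of coprime orders, then G is solvable, and for every Sylow p-subgroup P of A and Sylow q-subgroup Q of B the product set PQ is a subgroup. -/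
theorem result {G : Type*} [Group G] [Finite G] (A B : Subgroup G) (hA : Group.IsNilpotent A) (hB : Group.IsNilpotent B) (hcop : (Nat.card A).Coprime (Nat.card B)) (hAB : ∀ g : G, ∃ a ∈ A, ∃ b ∈ B, g = a * b) : Group.IsSolvable G ∧ ∀ (p q : ℕ) [Fact p.Prime] [Fact q.Prime] (P : Sylow p A) (Q : Sylow q B), ∃ S : Subgroup G, (S : Set G) = (((P : Subgroup A).map A.subtype : Subgroup G) : Set G) * (((Q : Subgroup B).map B.subtype : Subgroup G) : Set G) := by
  haveI := kegel_wielandt hA hB hAB
  have key : ∀ (A B : Subgroup G) (p : ℕ) [Fact p.Prime] (P : Sylow p A), Group.IsNilpotent A →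
      (Nat.card A).Coprime (Nat.card B) → (∀ g : G, ∃ b ∈ B, ∃ a ∈ A, g = b * a) →
      let Q := (P : Subgroup A).map A.subtype
      Q ≤ A ∧ (Q.subgroupOf A).Normal ∧ (Nat.card Q).Coprime Q.index := fun A B p _ P hA hc h => by
    have hP := syl_of_sylow P
    refine ⟨hP.le, (normal_subgroupOf_iff_le_normalizer hP.le).2 (kw_nil_norm hA hP le_rfl le_normalizer), ?_⟩
    rw [← relIndex_mul_index hP.le]
    exact (coprime_of_isPGroup_of_not_dvd Fact.out hP.isPGroup hP.not_dvd_relIndex).mul_right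
      ((hc.coprime_dvd_left (card_dvd_of_le hP.le)).coprime_dvd_right (index_dvd_card_of_factor h))
  refine ⟨this, fun p q _ _ P Q => ?_⟩
  obtain ⟨h1, h2, h3⟩ := key A B p P hA hcop (factor_symm hAB)
  obtain ⟨h4, h5, h6⟩ := key B A q Q hB hcop.symm hAB
  simpa only [map_one, one_smul] using Cfsg.Agent.S0561.result A B _ _ hAB h1 h2 h4 h5 h3 h6 1 1

end Cfsg.Agent.S0563
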