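import Cfsg.Statements.S0567
import Cfsg.Agent.Lib.Hall.Prim

set_option autoImplicit false
open Cfsg

namespace Cfsg.Agent.S0567

open scoped Pointwise commutatorElement
open Cfsg.Lib Cfsg.Lib.Hall

/-- A subgroup H of a group G is subnormal exactly when, for some m, the subgroup obtained from G by taking the commutator with H m times in succession is contained in H. -/
theorem result {G : Type*} [Group G] (H : Subgroup G) : H.IsSubnormal ↔ ∃ m : ℕ, (fun K : Subgroup G => ⁅K, H⁆)^[m] ⊤ ≤ H := by
  constructor
  · intro hH
    have key : ∀ K : Subgroup G, K.IsSubnormal → H ≤ K →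
        ∃ m : ℕ, (fun K : Subgroup G => ⁅K, H⁆)^[m] ⊤ ≤ K := by
      intro K hK
      induction hK with
      | top => exact fun _ => ⟨0, le_top⟩
      | step K L hle _ hN ih =>
        intro hHK
        obtain ⟨m, hm⟩ := ih (hHK.trans hle)
        refine ⟨m + 1, ?_⟩
        rw [Function.iterate_succ_apply']
        exact (Subgroup.commutator_mono hm hHK).trans (Subgroup.le_normalizer_iff_commutator_le_right.1
          ((Subgroup.normal_subgroupOf_iff_le_normalizer hle).1 hN))
    exact key H hH le_rfl
  · rintro ⟨m, hm⟩
    have key : ∀ j : ℕ, H ≤ Subgroup.normalizer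
        (((fun K : Subgroup G => ⁅K, H⁆)^[j] ⊤ : Subgroup G) : Set G) ∧
        ((fun K : Subgroup G => ⁅K, H⁆)^[j] ⊤ ⊔ H).IsSubnormal := by
      intro j
      induction j with
      | zero => exact ⟨le_normalizer_of_normal' H ⊤, by simp⟩
      | succ j ih =>
        rw [Function.iterate_succ_apply']
        set X := (fun K : Subgroup G => ⁅K, H⁆)^[j] ⊤
        have h1 : ⁅X, H⁆ ≤ X := Subgroup.le_normalizer_iff_commutator_le_left.1 ih.1
        have h2 := Subgroup.normalizer_commutator_ge_right X H
        refine ⟨h2, Subgroup.IsSubnormal.step _ _ (sup_le_sup_right h1 H) ih.2 ?_⟩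
        rw [Subgroup.normal_subgroupOf_iff_le_normalizer (sup_le_sup_right h1 H)]
        refine sup_le ?_ (le_sup_right.trans Subgroup.le_normalizer)
        rw [Subgroup.le_normalizer_iff_commutator_le_right, Subgroup.commutator_le]
        intro x hx y hy
        obtain ⟨a, ha, b, hb, rfl⟩ := (Core.mem_sup_of_le_normalizer_left h2).1 hy
        have e : ⁅x, a * b⁆ = (x * a * x⁻¹) * ⁅x, b⁆ * a⁻¹ := by
          simp only [commutatorElement_def]; group
        rw [e]
        exact Subgroup.mem_sup_left (mul_mem (mul_mem (Core.conj_mem_of_mem_normalizer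
          (Subgroup.normalizer_commutator_ge_left X H hx) ha)
          (Subgroup.commutator_mem_commutator hx hb)) (inv_mem ha))
    have h := (key m).2
    rwa [sup_eq_right.2 hm] at h

end Cfsg.Agent.S0567
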