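import Cfsg.Statements.S0568
import Cfsg.Agent.Lib.Hall.System

set_option autoImplicit false
open Cfsg

namespace Cfsg.Agent.S0568

open scoped Pointwise
open Cfsg.Lib Cfsg.Lib.Hall

/-- Let D be the system normalizer of a Hall complement system of a finite solvable group G, and let A < B be normal subgroups with no normal subgroup of G strictly between them (a chief factor). If G centralizes B modulo A then B ≤ A ⊔ D (D covers the factor); otherwise B ∩ D ≤ A (D avoids it). -/
theorem result {G : Type*} [Group G] [Finite G] [Group.IsSolvable G] (K : Nat.Primes → Subgroup G) (hK : Cfsg.IsComplementSystem K) (A B : Subgroup G) [A.Normal] [B.Normal] (hAB : A < B) (hchief : ∀ N : Subgroup G, N.Normal → A ≤ N → N ≤ B → N = A ∨ N = B) : (⁅B, (⊤ : Subgroup G)⁆ ≤ A → B ≤ A ⊔ Cfsg.systemNormalizer K) ∧ (¬ ⁅B, (⊤ : Subgroup G)⁆ ≤ A → B ⊓ Cfsg.systemNormalizer K ≤ A) := by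
  have hK' := cs_map hK (QuotientGroup.mk'_surjective A)
  have hD := systemNormalizer_map_mk' hK A
  haveI := Core.normal_map_mk' A B
  have hiff : ⁅B, (⊤ : Subgroup G)⁆ ≤ A ↔
      B.map (QuotientGroup.mk' A) ≤ Subgroup.center (G ⧸ A) := by
    rw [← Core.map_mk'_eq_bot_iff, Subgroup.map_commutator,
      Subgroup.map_top_of_surjective _ (QuotientGroup.mk'_surjective A),
      Subgroup.commutator_eq_bot_iff_le_centralizer, Core.centralizer_top_eq_center]
  rw [hiff]
  refine ⟨fun h => ?_, fun h => ?_⟩
  · rw [← Core.map_mk'_le_map_mk'_iff, ← hD]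
    exact le_systemNormalizer fun p => h.trans (Subgroup.center_le_normalizer _)
  · have h1 := inf_systemNormalizer_eq_bot hK' (B := B.map (QuotientGroup.mk' A)) (fun L hL hle => by
      have h4 : L.comap (QuotientGroup.mk' A) ≤ B :=
        (Subgroup.comap_mono hle).trans (by rw [Core.comap_map_mk', sup_eq_right.2 hAB.le])
      rcases hchief _ inferInstance (Core.le_comap_mk' A L) h4 with h5 | h5
      · left; rw [← Core.map_comap_mk' A L, h5, Core.map_mk'_eq_bot_iff]
      · right; rw [← h5, Core.map_comap_mk']) h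
    rw [← Core.map_mk'_eq_bot_iff, eq_bot_iff, ← h1, hD]
    exact Subgroup.map_inf_le _ _ _

end Cfsg.Agent.S0568
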