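import Cfsg.Statements.S0570
import Cfsg.Agent.Lib.Hall.Carter

set_option autoImplicit false
open Cfsg

namespace Cfsg.Agent.S0570

open scoped Pointwise
open Cfsg.Lib Cfsg.Lib.Hall

/-- Let G be a finite group with a nilpotent normal subgroup F such that G modulo F is nilpotent (nilpotent length at most two). Then a subgroup of G is a Carter subgroup if and only if it is the system normalizer of some Hall complement system. -/
theorem result {G : Type*} [Group G] [Finite G] (F : Subgroup G) [F.Normal] (hF : Group.IsNilpotent F) (hGF : Group.IsNilpotent (G ⧸ F)) (C : Subgroup G) : Cfsg.IsCarterSubgroup C ↔ ∃ K : Nat.Primes → Subgroup G, Cfsg.IsComplementSystem K ∧ C = Cfsg.systemNormalizer K := by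
  haveI := isSolvable_of_normal_quotient F
  have key : ∀ C : Subgroup G, Cfsg.IsCarterSubgroup C → ∃ K : Nat.Primes → Subgroup G,
      Cfsg.IsComplementSystem K ∧ C = Cfsg.systemNormalizer K := by
    intro C hC
    haveI := hC.1
    obtain ⟨K, hK, hred⟩ := exists_cs_reduces C
    refine ⟨K, hK, le_antisymm (le_systemNormalizer fun p => ?_)
      (systemNormalizer_le_carter hC hK hred)⟩
    have hKp := isComplementSystem_iff.1 hK p
    have hF' := isPiHallOf_inf_normal hKp F
    have h1 := eq_sup_of_coe_eq_mul (coe_eq_mul_of_isPiHallOf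
      (factor_of_sup_eq_top' (carter_sup_eq_top hC F)) hF' (hred p) (isPiHall_iff.1 hKp).1
      inf_le_left inf_le_left)
    have h2 : K p ⊓ F = (Cfsg.piCore {(p : ℕ)}ᶜ F).map F.subtype :=
      eq_of_isPiHallOf_of_le hF' (Core.isPi_piCoreOf F)
        (Core.le_piCoreOf_of_nilpotent (isPiHallOf_iff.1 hF').2.1 inf_le_right) (Core.piCoreOf_le F)
    rw [h1]
    refine Core.le_normalizer_sup ?_ (le_normalizer_of_isPiHallOf_of_nilpotent (hred p))
    rw [h2]
    exact (le_normalizer_of_normal' C F).trans (Core.normalizer_le_normalizer_piCoreOf F)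
  refine ⟨key C, ?_⟩
  rintro ⟨K, hK, rfl⟩
  obtain ⟨D, hD⟩ := exists_carter G
  obtain ⟨L, hL, rfl⟩ := key D hD
  obtain ⟨g, hg⟩ := cs_exists_conj hL hK
  rw [← funext hg, systemNormalizer_conj_smul]
  exact carter_conj_smul hD g

end Cfsg.Agent.S0570
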