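import Cfsg.Statements.S0573
import Cfsg.Agent.Lib.Hall.SolvCrit
import Cfsg.Agent.S0572

set_option autoImplicit false
open Cfsg

namespace Cfsg.Agent.S0573

open scoped Pointwise
open Cfsg.Lib Cfsg.Lib.Hall

open scoped commutatorElement

theorem comm {G : Type*} [Group G] {A : Subgroup G} [IsMulCommutative A] {x y : G} (hx : x ∈ A)
    (hy : y ∈ A) : x * y = y * x :=
  congrArg Subtype.val (mul_comm' (⟨x, hx⟩ : A) ⟨y, hy⟩)

theorem symm_factor {G : Type*} [Group G] {A B : Subgroup G}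
    (hAB : ∀ g : G, ∃ a ∈ A, ∃ b ∈ B, g = a * b) : ∀ g : G, ∃ b ∈ B, ∃ a ∈ A, g = b * a := by
  intro g
  obtain ⟨a, ha, b, hb, e⟩ := hAB g⁻¹
  exact ⟨b⁻¹, inv_mem hb, a⁻¹, inv_mem ha, by rw [← mul_inv_rev, ← e, inv_inv]⟩

theorem step1 {G : Type*} [Group G] (A B : Subgroup G) [IsMulCommutative A] [IsMulCommutative B]
    (hAB : ∀ g : G, ∃ a ∈ A, ∃ b ∈ B, g = a * b)
    (h : ∀ N : Subgroup G, N.Normal → (N ≤ A ∨ N ≤ B) → N = ⊥) {a : G} (ha : a ∈ A)
    (hc : a ∈ Subgroup.centralizer (commutator G : Set G)) : a = 1 := by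
  haveI : (A ⊔ commutator G).Normal := Subgroup.Normal.of_commutator_le _ le_sup_right
  have hD : Subgroup.centralizer ((A ⊔ commutator G : Subgroup G) : Set G) ≤ A := by
    intro d hd
    obtain ⟨x, hx, y, hy, rfl⟩ := hAB d
    have hyZ : y ∈ Subgroup.center G := by
      refine Subgroup.mem_center_iff.2 fun g => ?_
      obtain ⟨u, hu, v, hv, rfl⟩ := hAB g
      have h1 := Subgroup.mem_centralizer_iff.1 hd u (Subgroup.mem_sup_left hu)
      rw [← mul_assoc, comm hu hx, mul_assoc, mul_assoc, mul_right_inj] at h1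
      rw [mul_assoc, comm hv hy, ← mul_assoc, h1, mul_assoc]
    have h2 : Subgroup.zpowers y = ⊥ := h _ ⟨fun n hn g => by
      rwa [Subgroup.mem_center_iff.1 (Subgroup.zpowers_le.2 hyZ hn) g, mul_inv_cancel_right]⟩
      (Or.inr (Subgroup.zpowers_le.2 hy))
    rw [Subgroup.zpowers_eq_bot.1 h2, mul_one]
    exact hx
  have h3 := h _ inferInstance (Or.inl hD)
  rw [← Subgroup.mem_bot, ← h3, Core.centralizer_sup]
  exact ⟨le_centralizer_of_le_of_comm le_rfl ha, hc⟩

theorem step2 {G : Type*} [Group G] (A B N M : Subgroup G) [IsMulCommutative A]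
    [IsMulCommutative B] [N.Normal] [M.Normal] (hAB : ∀ g : G, ∃ a ∈ A, ∃ b ∈ B, g = a * b)
    (hNM : N ⊓ M = ⊥) {a b : G} (ha : a ∈ A) (hb : b ∈ B) (hab : a * b ∈ N ∨ b * a ∈ N) :
    a ∈ Subgroup.centralizer (M : Set G) := by
  refine Subgroup.mem_centralizer_iff.2 fun m hm => ?_
  rw [← commutatorElement_eq_one_iff_mul_comm, ← Subgroup.mem_bot, ← hNM]
  refine ⟨?_, ?_⟩
  · have h1 : (a : G ⧸ N) = (b : G ⧸ N)⁻¹ := by
      rcases hab with h | h
      · rw [← QuotientGroup.eq_one_iff, QuotientGroup.mk_mul] at h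
        exact eq_inv_of_mul_eq_one_left h
      · rw [← QuotientGroup.eq_one_iff, QuotientGroup.mk_mul] at h
        exact eq_inv_of_mul_eq_one_right h
    obtain ⟨u, hu, v, hv, rfl⟩ := hAB m
    have h2 : Commute (u : G ⧸ N) a := by
      change _ * _ = _ * _
      rw [← QuotientGroup.mk_mul, comm hu ha, QuotientGroup.mk_mul]
    have h3 : Commute (v : G ⧸ N) a := by
      rw [h1]
      refine Commute.inv_right ?_
      change _ * _ = _ * _
      rw [← QuotientGroup.mk_mul, comm hv hb, QuotientGroup.mk_mul]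
    change ⁅u * v, a⁆ ∈ N
    rw [← QuotientGroup.eq_one_iff]
    change QuotientGroup.mk' N ⁅u * v, a⁆ = 1
    rw [map_commutatorElement, commutatorElement_eq_one_iff_commute, map_mul]
    exact h2.mul_left h3
  · change ⁅m, a⁆ ∈ M
    rw [commutatorElement_def, mul_assoc, mul_assoc, ← mul_assoc a]
    exact mul_mem hm (‹M.Normal›.conj_mem _ (inv_mem hm) a)

/-- If a nontrivial finite group G is the product AB of abelian subgroups A and B, then some nontrivial normal subgroup of G is contained in A or in B. -/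
theorem result {G : Type*} [Group G] [Finite G] [Nontrivial G] (A B : Subgroup G) [IsMulCommutative A] [IsMulCommutative B] (hAB : ∀ g : G, ∃ a ∈ A, ∃ b ∈ B, g = a * b) : ∃ N : Subgroup G, N.Normal ∧ N ≠ ⊥ ∧ (N ≤ A ∨ N ≤ B) := by
  by_contra hcon
  push Not at hcon
  have h : ∀ N : Subgroup G, N.Normal → (N ≤ A ∨ N ≤ B) → N = ⊥ := fun N hN hle => by
    by_contra h0
    exact hle.elim (hcon N hN h0).1 (hcon N hN h0).2
  have hBA := symm_factor hAB
  have hA1 := @step1 G _ A B _ _ hAB h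
  have hB1 := @step1 G _ B A _ _ hBA fun N hN hle => h N hN hle.symm
  have hcomm : commutator G ≤ Subgroup.centralizer (commutator G : Set G) :=
    Subgroup.commutator_eq_bot_iff_le_centralizer.1 (S0572.result A B hAB)
  haveI : IsMulCommutative (commutator G) := Subgroup.le_centralizer_iff_isMulCommutative.1 hcomm
  haveI : Group.IsNilpotent (commutator G) := Core.isNilpotent_of_isMulCommutative _
  have hne : commutator G ≠ ⊥ := fun h0 => by
    obtain ⟨g, hg⟩ := exists_ne (1 : G)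
    obtain ⟨a, ha, b, hb, rfl⟩ := hAB g
    have hc : ∀ x : G, x ∈ Subgroup.centralizer (commutator G : Set G) := fun x => by
      rw [h0]; exact Subgroup.mem_centralizer_iff.2 fun y hy => by
        rw [Subgroup.mem_bot.1 hy, one_mul, mul_one]
    exact hg (by rw [hA1 ha (hc a), hB1 hb (hc b), one_mul])
  haveI : Nontrivial (commutator G) := (Subgroup.nontrivial_iff_ne_bot _).2 hne
  obtain ⟨p, hp, hO⟩ := Core.exists_pCore_ne_bot_of_solvable (G := commutator G)
  haveI := Fact.mk hp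
  haveI : ((pCore p (commutator G)).map (commutator G).subtype).Normal := Core.normal_pCoreOf _
  haveI : ((pPrimeCore p (commutator G)).map (commutator G).subtype).Normal := by
    rw [Core.map_subtype_pPrimeCore_eq]
    haveI := Core.pPrimeCore_characteristic p G
    infer_instance
  set N := (pCore p (commutator G)).map (commutator G).subtype
  set M := (pPrimeCore p (commutator G)).map (commutator G).subtype
  have hN0 : N ≠ ⊥ := fun h0 =>
    hO ((Subgroup.map_eq_bot_iff_of_injective _ (Subgroup.subtype_injective _)).1 h0)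
  have hNp : IsPGroup p N := Core.isPGroup_pCoreOf _
  have hsup : N ⊔ M = commutator G := Core.pCoreOf_sup_pPrimeCoreOf_of_nilpotent hp _
  have hNM : N ⊓ M = ⊥ := (Subgroup.disjoint_of_coprime_natCard
    (Core.coprime_card_of_isPGroup hp hNp (Core.coprime_card_pPrimeCoreOf _))).eq_bot
  obtain ⟨A', B', R, hA', hB', hR⟩ := exists_sylow_eq_mul hAB p
  have hNR : N ≤ R := hNp.le_sylow_of_normal R
  obtain ⟨⟨z, hzN, hzC⟩, hz1⟩ := Subgroup.ne_bot_iff_exists_ne_one.1
    (Core.inf_centralizer_ne_bot_of_isPGroup hNp R.isPGroup' Subgroup.le_normalizer_of_normal hN0)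
  have hz : z ∈ ((R : Subgroup G) : Set G) := hNR hzN
  rw [hR] at hz
  obtain ⟨a, ha, b, hb, rfl⟩ := hz
  have hAR : A' ≤ R := fun x hx => by
    rw [← SetLike.mem_coe, hR]; exact ⟨x, hx, 1, one_mem _, mul_one x⟩
  have hbC : b ∈ Subgroup.centralizer ((R : Subgroup G) : Set G) := by
    refine Subgroup.mem_centralizer_iff.2 fun g hg => ?_
    rw [hR] at hg
    obtain ⟨u, hu, v, hv, rfl⟩ := hg
    have h1 : u * (a * b) = a * b * u := Subgroup.mem_centralizer_iff.1 hzC u (hAR hu)
    rw [← mul_assoc, comm (hA'.1 hu) (hA'.1 ha), mul_assoc, mul_assoc, mul_right_inj] at h1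
    change u * v * b = b * (u * v)
    rw [mul_assoc, comm (hB'.1 hv) (hB'.1 hb), ← mul_assoc, h1, mul_assoc]
  have haC : a ∈ Subgroup.centralizer ((R : Subgroup G) : Set G) := by
    have := mul_mem (show a * b ∈ Subgroup.centralizer ((R : Subgroup G) : Set G) from hzC)
      (inv_mem hbC)
    rwa [mul_inv_cancel_right] at this
  have ha1 : a = 1 := hA1 (hA'.1 ha) (by
    rw [← hsup, Core.centralizer_sup]
    exact ⟨Core.centralizer_anti hNR haC,
      step2 A B N M hAB hNM (hA'.1 ha) (hB'.1 hb) (Or.inl hzN)⟩)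
  have hb1 : b = 1 := hB1 (hB'.1 hb) (by
    rw [← hsup, Core.centralizer_sup]
    exact ⟨Core.centralizer_anti hNR hbC,
      step2 B A N M hBA hNM (hB'.1 hb) (hA'.1 ha) (Or.inr hzN)⟩)
  exact hz1 (Subtype.ext (by simp [ha1, hb1]))

end Cfsg.Agent.S0573
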