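import Cfsg.Statements.S0571
import Cfsg.Agent.Lib.Hall.Supersolvable
import Cfsg.Agent.S0573

set_option autoImplicit false
open Cfsg

namespace Cfsg.Agent.S0571

open scoped Pointwise
open Cfsg.Lib Cfsg.Lib.Hall

/-- If a finite group G is the product AB of two cyclic subgroups (every element is a product ab), then G is supersolvable. -/
theorem result {G : Type*} [Group G] [Finite G] (A B : Subgroup G) [IsCyclic A] [IsCyclic B] (hAB : ∀ g : G, ∃ a ∈ A, ∃ b ∈ B, g = a * b) : Cfsg.IsSupersolvable G := by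
  refine ss_iff_quotient.2 fun N _ hN => ?_
  haveI : Nontrivial (G ⧸ N) := QuotientGroup.nontrivial_iff.2 hN
  have hsurj := QuotientGroup.mk'_surjective N
  haveI : IsCyclic (A.map (QuotientGroup.mk' N)) :=
    isCyclic_of_surjective _ ((QuotientGroup.mk' N).subgroupMap_surjective A)
  haveI : IsCyclic (B.map (QuotientGroup.mk' N)) :=
    isCyclic_of_surjective _ ((QuotientGroup.mk' N).subgroupMap_surjective B)
  obtain ⟨K, hK, hK0, hle⟩ := S0573.result (A.map (QuotientGroup.mk' N))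
    (B.map (QuotientGroup.mk' N)) fun g => by
      obtain ⟨g, rfl⟩ := hsurj g
      obtain ⟨a, ha, b, hb, rfl⟩ := hAB g
      exact ⟨_, ⟨a, ha, rfl⟩, _, ⟨b, hb, rfl⟩, map_mul _ _ _⟩
  have hc : IsCyclic K := hle.elim (fun h => Subgroup.isCyclic_of_le h)
    fun h => Subgroup.isCyclic_of_le h
  obtain ⟨g, hg⟩ := (Subgroup.isCyclic_iff_exists_zpowers_eq_top K).1 hc
  refine ⟨g, fun h0 => hK0 ?_, hg ▸ hK⟩
  rw [← hg, h0, Subgroup.zpowers_one_eq_bot]

end Cfsg.Agent.S0571
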