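import Cfsg.Statements.S0574
import Cfsg.Agent.Lib.Hall.KW

set_option autoImplicit false
open Cfsg

namespace Cfsg.Agent.S0574

open scoped Pointwise commutatorElement
open Cfsg.Lib Cfsg.Lib.Hall

open Subgroup Cfsg.Lib.Core Cfsg.Lib.Amalg Cfsg.Lib.BG1

/-- Let the finite group G be the product AB of an abelian subgroup A and a subgroup B of nilpotency class at most two, and let Ω be the number of prime factors, with multiplicity, of the order of the commutator subgroup of B. Then the term of index 2(1 + Ω) of the derived series of G is trivial. -/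
theorem result {G : Type*} [Group G] [Finite G] (A B : Subgroup G) [IsMulCommutative A] (hB : commutator ↥B ≤ Subgroup.center ↥B) (hAB : ∀ g : G, ∃ a ∈ A, ∃ b ∈ B, g = a * b) : derivedSeries G (2 * (1 + (Nat.card ↥(commutator ↥B)).primeFactorsList.length)) = ⊥ := by
  have h1 : Group.IsNilpotent B := Subgroup.isNilpotent_of_ker_le_center (Abelianization.of (G := B))
    (by rwa [Abelianization.ker_of])
  haveI := kegel_wielandt (A := A) ⟨⟨1, upperCentralSeries_one_eq_top_iff.2 ‹_›⟩⟩ h1 hAB
  refine kw_class_two _ G A B inferInstance ?_ hAB ?_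
  · rw [← map_commutator_subtype]
    rintro _ ⟨x, hx, rfl⟩
    exact mem_centralizer_comm.2 fun b hb => congrArg Subtype.val (mem_center_iff.1 (hB hx) ⟨b, hb⟩)
  · rw [← map_commutator_subtype, Hall.card_map_subtype, ArithmeticFunction.cardFactors_apply]

end Cfsg.Agent.S0574
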