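import Cfsg.Statements.S0576
import Cfsg.Agent.Lib.Hall.Supersolvable

set_option autoImplicit false
open Cfsg

namespace Cfsg.Agent.S0576

open scoped Pointwise
open Cfsg.Lib Cfsg.Lib.Hall

/-- Let H be a normal subgroup of a finite group G with H contained in the Frattini subgroup of G. Then the group of inner automorphisms of H is contained in the Frattini subgroup of the automorphism group of H. -/
theorem result {G : Type*} [Group G] [Finite G] (H : Subgroup G) [H.Normal] (hH : H ≤ frattini G) : (MulAut.conj : ↥H →* MulAut ↥H).range ≤ frattini (MulAut ↥H) := by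
  haveI : (MulAut.conj : ↥H →* MulAut ↥H).range.Normal := ⟨by
    rintro _ ⟨h, rfl⟩ φ
    refine ⟨φ h, ?_⟩
    ext x
    simp⟩
  refine Core.le_frattini_of_normal_of_le_frattiniOf
    (L := (⊤ : Subgroup G).map (MulAut.conjNormal : G →* MulAut H)) ?_
  refine le_trans ?_ (Core.map_frattiniOf_le _ ⊤)
  rw [Core.frattiniOf_top]
  rintro _ ⟨h, rfl⟩
  exact ⟨h, hH h.2, MulAut.conjNormal_val⟩

end Cfsg.Agent.S0576
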