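import Cfsg.Statements.S0577
import Cfsg.Agent.Lib.Hall.SolvCrit
import Cfsg.Agent.Lib.PGrp.Cyclic

set_option autoImplicit false
open Cfsg

namespace Cfsg.Agent.S0577

open scoped Pointwise
open Cfsg.Lib Cfsg.Lib.Hall

theorem le_sylow_aux {G : Type*} [Group G] [Finite G] {p : ℕ} [Fact p.Prime] {R : Subgroup G}
    (hR : IsPGroup p R) (Q : Sylow p G) (hQ : (Q : Subgroup G).Normal) : R ≤ Q := by
  obtain ⟨S, hS⟩ := hR.exists_le_sylow
  haveI := Sylow.unique_of_normal Q hQ
  rwa [Subsingleton.elim Q S]

/-- Let G be a finite minimal non-nilpotent group and Q a normal Sylow q-subgroup of G, and let D be the commutator subgroup of Q regarded in G (a normal subgroup). Then G modulo D is non-abelian and all its proper subgroups are abelian. -/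
theorem result {G : Type*} [Group G] [Finite G] (hG : Cfsg.IsMinimalNonNilpotent G) (q : ℕ) [Fact q.Prime] (hq : q ∣ Nat.card G) (Q : Sylow q G) (hQ : (Q : Subgroup G).Normal) (D : Subgroup G) [D.Normal] (hD : D = (commutator ↥(Q : Subgroup G)).map (Q : Subgroup G).subtype) : ¬ IsMulCommutative (G ⧸ D) ∧ ∀ K : Subgroup (G ⧸ D), K ≠ ⊤ → IsMulCommutative K := by
  obtain ⟨p, q', Q', g, hp, hq', hpq, hQn, hQ', hg, htop, hgc⟩ :=
    exists_of_minimal_non_nilpotent hG.1 hG.2
  haveI := Fact.mk hp
  haveI := Fact.mk hq'
  have hqp := (Fact.out : q.Prime)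
  have hQQ : (Q : Subgroup G) = Q' := by
    by_cases h1 : q = q'
    · subst h1
      obtain ⟨S, hS⟩ := exists_sylow_eq_of_factor hQ'
        (Core.coprime_card_of_isPGroup hp hg ((Nat.coprime_primes hq' hp).2 hpq.symm))
        (factor_of_sup_eq_top (by rw [sup_comm, htop]))
      haveI := Sylow.unique_of_normal Q hQ
      rw [← hS, Subsingleton.elim Q S]
    · exfalso
      have h2 : q = p := by
        have h3 : Nat.card G ∣ Nat.card Q' * Nat.card (Subgroup.zpowers g) := by
          rw [← Subgroup.card_top, ← htop]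
          exact (perm_of_le_normalizer Subgroup.le_normalizer_of_normal).symm.card_sup_dvd
        rcases hqp.dvd_mul.1 (hq.trans h3) with h4 | h4
        · obtain ⟨k, hk⟩ := IsPGroup.iff_card.1 hQ'
          rw [hk] at h4
          exact absurd ((Nat.prime_dvd_prime_iff_eq hqp hq').1 (hqp.dvd_of_dvd_pow h4)) h1
        · obtain ⟨k, hk⟩ := IsPGroup.iff_card.1 hg
          rw [hk] at h4
          exact (Nat.prime_dvd_prime_iff_eq hqp hp).1 (hqp.dvd_of_dvd_pow h4)
      subst h2
      have h5 : Subgroup.zpowers g ≤ Q := le_sylow_aux hg Q hQ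
      exact hgc (le_centralizer_of_normal_of_inf_eq_bot (A := (Q : Subgroup G)) (B := Q')
        (Subgroup.disjoint_of_coprime_natCard
          (IsPGroup.coprime_card_of_ne q q' hpq _ _ Q.isPGroup' hQ')).eq_bot
        (h5 (Subgroup.mem_zpowers g)))
  have hcomm : commutator G ≤ (Q : Subgroup G) := by
    haveI : IsCyclic (G ⧸ (Q : Subgroup G)) :=
      (PGrp.isCyclic_quotient_iff _).2 ⟨g, by rw [hQQ, htop]⟩
    exact Subgroup.Normal.quotient_commutative_iff_commutator_le.1 inferInstance
  refine ⟨fun hc => hG.1 ?_, fun K hK => ?_⟩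
  · haveI : Group.IsNilpotent (G ⧸ D) := by
      open scoped IsMulCommutative in infer_instance
    refine Core.isNilpotent_of_quotient_le_frattini D ?_
    rw [hD]
    exact (Subgroup.map_mono (Core.commutator_le_frattini_of_isPGroup Q.isPGroup')).trans
      (Core.frattiniOf_le_frattini _)
  · have hsurj := QuotientGroup.mk'_surjective D
    haveI : Group.IsNilpotent K := by
      have h1 : K.comap (QuotientGroup.mk' D) ≠ ⊤ := fun h0 => hK (by
        rw [← Subgroup.map_comap_eq_self_of_surjective hsurj K, h0,
          Subgroup.map_top_of_surjective _ hsurj])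
      haveI := hG.2 _ h1
      rw [← Subgroup.map_comap_eq_self_of_surjective hsurj K]
      exact Core.isNilpotent_map _ _
    have hQb : IsPGroup q ((Q : Subgroup G).map (QuotientGroup.mk' D)) := Q.isPGroup'.map _
    refine isMulCommutative_of_nilpotent_of_forall_isPGroup fun r hr R _ hR => ?_
    rw [← Subgroup.le_centralizer_iff_isMulCommutative, ← Subgroup.commutator_eq_bot_iff_le_centralizer]
    by_cases hrq : r = q
    · subst hrq
      have h2 : R ≤ (Q : Subgroup G).map (QuotientGroup.mk' D) := by
        haveI : ((Q.mapSurjective hsurj : Sylow r (G ⧸ D)) : Subgroup (G ⧸ D)).Normal :=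
          hQ.map _ hsurj
        exact le_sylow_aux hR (Q.mapSurjective hsurj) this
      rw [eq_bot_iff]
      refine (Subgroup.commutator_mono h2 h2).trans ?_
      rw [← Subgroup.map_commutator, le_bot_iff, Subgroup.map_eq_bot_iff, QuotientGroup.ker_mk', hD,
        Subgroup.map_subtype_commutator]
    · haveI := Fact.mk hr
      rw [eq_bot_iff, ← (Subgroup.disjoint_of_coprime_natCard
        (IsPGroup.coprime_card_of_ne r q hrq _ _ hR hQb)).eq_bot]
      refine le_inf (Subgroup.commutator_le_self R) ?_
      refine (Subgroup.commutator_mono le_top le_top).trans ?_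
      rw [← Subgroup.map_top_of_surjective _ hsurj, ← Subgroup.map_commutator]
      exact Subgroup.map_mono hcomm

end Cfsg.Agent.S0577
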