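import Cfsg.Statements.S0578
import Cfsg.Agent.Lib.Hall.Factor

set_option autoImplicit false
open Cfsg

namespace Cfsg.Agent.S0578

open scoped Pointwise
open Cfsg.Lib Cfsg.Lib.Hall

/-- If in a finite group the normalizer of each abelian subgroup coincides with its centralizer, then the group is abelian. -/
theorem result {G : Type*} [Group G] [Finite G] (h : ∀ A : Subgroup G, IsMulCommutative A → Subgroup.normalizer (A : Set G) = Subgroup.centralizer (A : Set G)) : IsMulCommutative G := by
  have key : ∀ P : Subgroup G, Group.IsNilpotent P → IsMulCommutative P := by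
    intro P _
    obtain ⟨N, hNn, hNc, -, hC⟩ := Core.exists_selfCentralizing_normal_ge (⊥ : Subgroup P)
    have h1 := Core.le_normalizer_map_subtype N
    rw [h _ inferInstance] at h1
    have h2 := Core.map_subtype_centralizer N
    rw [hC, inf_eq_left.2 h1] at h2
    rw [← h2]
    infer_instance
  haveI : Group.IsNilpotent G := isNilpotent_of_forall_pnil fun p _ _ => by
    obtain ⟨P⟩ : Nonempty (Sylow p G) := inferInstance
    refine (Transfer.sylowIn_top P).pnil_of_normalizer_le_centralizer ?_
    rw [h _ (key _ P.isPGroup'.isNilpotent)]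
    exact inf_le_right
  haveI := key ⊤ inferInstance
  exact ⟨⟨fun a b => setLike_mul_comm (s := (⊤ : Subgroup G)) (Subgroup.mem_top a)
    (Subgroup.mem_top b)⟩⟩

end Cfsg.Agent.S0578
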