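import Cfsg.Statements.S0582
import Cfsg.Agent.Lib.Hall.Supersolvable

set_option autoImplicit false
open Pointwise
open Cfsg

namespace Cfsg.Agent.S0582

open scoped Pointwise
open Cfsg.Lib Cfsg.Lib.Hall

universe u

theorem aux (n : ℕ) : ∀ (G : Type u) [Group G] [Finite G], Nat.card G = n →
    ∀ H K : Subgroup G, Cfsg.IsSupersolvable H → Cfsg.IsSupersolvable K →
      Nat.card H = Nat.card K → (Nat.card H).Coprime H.index →
      ∃ x : G, MulAut.conj x • H = K := by
  induction n using Nat.strong_induction_on with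
  | _ n ih =>
  intro G _ _ hn H K hH hK hcard hHall
  by_cases h1 : Nat.card H = 1
  · refine ⟨1, ?_⟩
    rw [Subgroup.card_eq_one.1 h1, Subgroup.card_eq_one.1 (hcard.symm.trans h1), map_one, one_smul]
  have hne : (Nat.card H).primeFactors.Nonempty :=
    Nat.nonempty_primeFactors.2 (lt_of_le_of_ne Nat.card_pos (Ne.symm h1))
  set p := (Nat.card H).primeFactors.max' hne
  have hp := Nat.mem_primeFactors.1 ((Nat.card H).primeFactors.max'_mem hne)
  have hmax : ∀ q : ℕ, q.Prime → q ∣ Nat.card H → q ≤ p := fun q hq hd =>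
    Finset.le_max' _ q (Nat.mem_primeFactors.2 ⟨hq, hd, hp.2.2⟩)
  haveI : Fact p.Prime := ⟨hp.1⟩
  have hidx : K.index = H.index := by
    have h2 := K.card_mul_index.trans H.card_mul_index.symm
    rw [← hcard] at h2
    exact Nat.eq_of_mul_eq_mul_left Nat.card_pos h2
  have hpH : ¬ p ∣ H.index := (Nat.Prime.coprime_iff_not_dvd hp.1).1 (hHall.coprime_dvd_left hp.2.1)
  -- normal Sylow subgroups
  have key : ∀ L : Subgroup G, Cfsg.IsSupersolvable L → Nat.card L = Nat.card H →
      L.index = H.index → ∃ P : Sylow p G, (P : Subgroup G) ≤ L ∧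
        L ≤ Subgroup.normalizer ((P : Subgroup G) : Set G) := by
    intro L hL h2 h3
    obtain ⟨S⟩ : Nonempty (Sylow p L) := inferInstance
    haveI := ss_sylow_normal hL (h2 ▸ hmax) S
    obtain ⟨P, hP⟩ := exists_sylow_eq_of_isPiHall (isPiHall_of_isPiHallOf
      (isPiHallOf_map_subtype (isPiHall_sylow S))
      ((Core.coprime_iff_isPiNumber_compl hp.1).1 ((Core.coprime_iff_not_dvd hp.1).2 (h3 ▸ hpH))))
    exact ⟨P, hP ▸ Subgroup.map_subtype_le _, hP ▸ Core.le_normalizer_map_subtype _⟩
  obtain ⟨Q, hQ1, hQ2⟩ := key K hK hcard.symm hidx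
  obtain ⟨P, hP1, hP2⟩ := key H hH rfl rfl
  obtain ⟨g, rfl⟩ := MulAction.exists_smul_eq G P Q
  rw [Sylow.coe_subgroup_smul] at hQ1 hQ2
  set K' := MulAut.conj g⁻¹ • K with hK'
  have hK1 : (P : Subgroup G) ≤ K' := by
    rw [hK', ← conj_inv_smul_conj_smul (P : Subgroup G) g]
    exact Subgroup.pointwise_smul_le_pointwise_smul_iff.2 hQ1
  have hK2 : K' ≤ Subgroup.normalizer ((P : Subgroup G) : Set G) := by
    rw [normalizer_conj_smul] at hQ2
    rw [hK', ← conj_inv_smul_conj_smul (Subgroup.normalizer _) g]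
    exact Subgroup.pointwise_smul_le_pointwise_smul_iff.2 hQ2
  set L := Subgroup.normalizer ((P : Subgroup G) : Set G)
  set N := (P : Subgroup G).subgroupOf L
  haveI : N.Normal := Subgroup.normal_in_normalizer
  have hPbot : (P : Subgroup G) ≠ ⊥ := P.ne_bot_of_dvd_card (hp.2.1.trans H.card_subgroup_dvd_card)
  have hN : N ≠ ⊥ := fun h2 => hPbot (by
    rw [← Core.map_subtype_subgroupOf_of_le (Subgroup.le_normalizer : (P : Subgroup G) ≤ L)]
    exact (Subgroup.map_eq_bot_iff_of_injective _ L.subtype_injective).2 h2)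
  have hlt : Nat.card (L ⧸ N) < n :=
    (card_quotient_lt hN).trans_le (hn ▸ Subgroup.card_le_card_group L)
  have hK'ss : Cfsg.IsSupersolvable K' := by
    rw [hK', conj_smul_eq_map]; exact ss_map hK _
  have hc : ∀ X : Subgroup G, (P : Subgroup G) ≤ X → X ≤ L →
      Nat.card N * Nat.card ((X.subgroupOf L).map (QuotientGroup.mk' N)) = Nat.card X := by
    intro X h2 h3
    rw [card_map_mk', card_mul_relIndex (Subgroup.subgroupOf_mono L h2), card_subgroupOf_of_le h3]
  have hHall' : (Nat.card (H.subgroupOf L)).Coprime (H.subgroupOf L).index := by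
    rw [card_subgroupOf_of_le hP2]
    exact hHall.coprime_dvd_right (Subgroup.relIndex_dvd_index_of_le hP2)
  obtain ⟨x, hx⟩ := ih _ hlt (L ⧸ N) rfl ((H.subgroupOf L).map (QuotientGroup.mk' N))
    ((K'.subgroupOf L).map (QuotientGroup.mk' N)) (ss_map (ss_subgroupOf hH L) _)
    (ss_map (ss_subgroupOf hK'ss L) _)
    (Nat.eq_of_mul_eq_mul_left Nat.card_pos
      (by rw [hc H hP1 hP2, hc K' hK1 hK2, hK', card_conj_smul, hcard]))
    (coprime_map hHall' (QuotientGroup.mk'_surjective N))
  obtain ⟨x, rfl⟩ := QuotientGroup.mk_surjective x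
  have h2 := conj_smul_sup_eq_of_quotient x hx
  have h3 : N ≤ MulAut.conj x • H.subgroupOf L := by
    rw [← Subgroup.Normal.conj_smul_eq_self x N]
    exact Subgroup.pointwise_smul_le_pointwise_smul_iff.2 (Subgroup.subgroupOf_mono L hP1)
  rw [sup_eq_left.2 h3, sup_eq_left.2 (Subgroup.subgroupOf_mono L hK1)] at h2
  refine ⟨g * x, ?_⟩
  rw [conj_mul_smul, conj_smul_eq_of_subgroupOf hP2 hK2 x h2, hK', conj_smul_conj_inv_smul]

/-- Let H and K be supersolvable subgroups of a finite group G of the same order, that order being coprime to their index. Then H and K are conjugate in G. -/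
theorem result {G : Type*} [Group G] [Finite G] (H K : Subgroup G) (hH : Cfsg.IsSupersolvable H) (hK : Cfsg.IsSupersolvable K) (hcard : Nat.card H = Nat.card K) (hHall : (Nat.card H).Coprime H.index) : ∃ x : G, MulAut.conj x • H = K := by
  exact aux _ G rfl H K hH hK hcard hHall

end Cfsg.Agent.S0582
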