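import Cfsg.Statements.S0584
import Cfsg.Agent.Lib.Hall.Prim

set_option autoImplicit false
open Cfsg

namespace Cfsg.Agent.S0584

open scoped Pointwise
open Cfsg.Lib Cfsg.Lib.Hall

/-- Let B ≤ A be normal subgroups of a finite group G with B contained in the Frattini subgroup of G. If A modulo B is nilpotent then A is nilpotent. -/
theorem result {G : Type*} [Group G] [Finite G] (A B : Subgroup G) [A.Normal] [B.Normal] (hBA : B ≤ A) (hB : B ≤ frattini G) (h : Group.IsNilpotent (↥A ⧸ B.subgroupOf A)) : Group.IsNilpotent A := by
  haveI : Group.IsNilpotent (A.map (QuotientGroup.mk' B)) := by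
    have e : (↥A ⧸ B.subgroupOf A) ≃* A.map (QuotientGroup.mk' B) := by
      refine (QuotientGroup.quotientMulEquivOfEq ?_).trans
        (QuotientGroup.quotientKerEquivOfSurjective
          ((QuotientGroup.mk' B).subgroupMap A) (MonoidHom.subgroupMap_surjective _ _))
      ext x
      simp [Subgroup.mem_subgroupOf, MonoidHom.mem_ker, Subtype.ext_iff]
    exact Group.nilpotent_of_mulEquiv e
  exact Core.isNilpotent_of_map_mk'_of_le_frattini B A hB

end Cfsg.Agent.S0584
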