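import Cfsg.Statements.S0586
import Cfsg.Agent.Lib.Hall.Prim

set_option autoImplicit false
open Cfsg

namespace Cfsg.Agent.S0586

open scoped Pointwise
open Cfsg.Lib Cfsg.Lib.Hall

/-- If the Frattini subgroup of a finite group G is trivial, then the Fitting subgroup of G equals the join of all abelian minimal normal subgroups of G. -/
theorem result {G : Type*} [Group G] [Finite G] (hΦ : frattini G = ⊥) : Cfsg.fittingSubgroup G = sSup {N : Subgroup G | N.Normal ∧ N ≠ ⊥ ∧ IsMulCommutative N ∧ ∀ K : Subgroup G, K.Normal → K ≤ N → K = ⊥ ∨ K = N} := by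
  haveI := Core.fitting_normal G
  haveI := Core.isNilpotent_fitting G
  set S := {N : Subgroup G | N.Normal ∧ N ≠ ⊥ ∧ IsMulCommutative N ∧
    ∀ K : Subgroup G, K.Normal → K ≤ N → K = ⊥ ∨ K = N} with hS
  have hle : sSup S ≤ Cfsg.fittingSubgroup G := sSup_le fun N hN => by
    haveI := hN.1
    haveI := hN.2.2.1
    exact Core.le_fitting_of_isMulCommutative
  refine le_antisymm ?_ hle
  -- the Fitting subgroup is abelian
  have hΦF : (frattini (Cfsg.fittingSubgroup G)).map (Cfsg.fittingSubgroup G).subtype = ⊥ :=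
    eq_bot_iff.2 (hΦ ▸ Core.frattiniOf_le_frattini _)
  have hcomm : IsMulCommutative (Cfsg.fittingSubgroup G) := by
    have h1 := Core.commutator_le_frattini_of_nilpotent (G := Cfsg.fittingSubgroup G)
    rw [(Subgroup.map_eq_bot_iff_of_injective _ (Subgroup.subtype_injective _)).1 hΦF,
      le_bot_iff, commutator_eq_bot_iff_center_eq_top, Subgroup.center_eq_top_iff] at h1
    exact h1
  haveI hSn : (sSup S).Normal := Subgroup.sSup_normal _ fun N hN => hN.1
  haveI : IsMulCommutative (sSup S : Subgroup G) :=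
    ⟨⟨fun a b => Subtype.ext (setLike_mul_comm (s := Cfsg.fittingSubgroup G) (hle a.2) (hle b.2))⟩⟩
  obtain ⟨H, hH⟩ := exists_isComplement'_of_inf_frattini_eq_bot (sSup S) (by rw [hΦ, inf_bot_eq])
  have h1 : Cfsg.fittingSubgroup G ⊔ H = ⊤ :=
    eq_top_iff.2 (hH.sup_eq_top ▸ sup_le_sup_right hle H)
  haveI := normal_inf_of_comm h1
  have h2 : Cfsg.fittingSubgroup G ⊓ H = ⊥ := by
    by_contra hne
    obtain ⟨M, hMn, hM, hMle, hmin⟩ := exists_minNormal_le _ hne
    have hMc : IsMulCommutative M :=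
      ⟨⟨fun a b => Subtype.ext (setLike_mul_comm (s := Cfsg.fittingSubgroup G)
        (hMle a.2).1 (hMle b.2).1)⟩⟩
    have h3 : M ≤ sSup S := le_sSup ⟨hMn, hM, hMc, hmin⟩
    exact hM (eq_bot_iff.2 ((le_inf h3 (hMle.trans inf_le_right)).trans hH.disjoint.le_bot))
  have h3 := sup_inf_of_normal_le (H := H) hle
  rw [hH.sup_eq_top, top_inf_eq, inf_comm, h2, sup_bot_eq] at h3
  exact h3.le

end Cfsg.Agent.S0586
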