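import Cfsg.Statements.S0587
import Cfsg.Agent.Lib.Hall.Prim
import Cfsg.Agent.Lib.Block2.Count

set_option autoImplicit false
open Cfsg

namespace Cfsg.Agent.S0587

open scoped Pointwise
open Cfsg.Lib Cfsg.Lib.Hall

/-- Let G be a finite group whose largest normal p-subgroup L is nontrivial, and M a maximal subgroup of G with trivial normal core. Then L is elementary abelian, M is a complement to L, L is a minimal normal subgroup of G, the centralizer of L is L, and for every prime q such that the largest normal q-subgroup of M is nontrivial, the order of L is congruent to 1 modulo q and q ≠ p. -/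
theorem result {G : Type*} [Group G] [Finite G] (p : ℕ) [Fact p.Prime] (hL : Cfsg.pCore p G ≠ ⊥) (M : Subgroup G) (hM : IsCoatom M) (hcore : M.normalCore = ⊥) : Cfsg.IsElementaryAbelian p (Cfsg.pCore p G) ∧ Subgroup.IsComplement' (Cfsg.pCore p G) M ∧ (∀ K : Subgroup G, K.Normal → K ≤ Cfsg.pCore p G → K = ⊥ ∨ K = Cfsg.pCore p G) ∧ Subgroup.centralizer ((Cfsg.pCore p G : Subgroup G) : Set G) = Cfsg.pCore p G ∧ ∀ (q : ℕ) [Fact q.Prime], Cfsg.pCore q ↥M ≠ ⊥ → Nat.card (Cfsg.pCore p G) % q = 1 % q ∧ q ≠ p := by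
  have hp : p.Prime := Fact.out
  have hLp := Core.isPGroup_pCore p G
  haveI := hLp.isNilpotent
  obtain ⟨N, r, hNn, hN, hNle, hmin, hc, hr, hpow, hNr⟩ := exists_minNormal_elementary_le _ hL
  have hC := centralizer_eq_of_corefree hM hcore hN
  have hLN : Cfsg.pCore p G = N :=
    le_antisymm (hC ▸ le_centralizer_of_nilpotent_of_minNormal hmin) hNle
  have hrp : r = p := by
    haveI := Fact.mk hr
    by_contra hne
    have := IsPGroup.coprime_card_of_ne r p hne N N hNr (hLN ▸ hLp)
    rw [Nat.coprime_self, Subgroup.card_eq_one] at this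
    exact hN this
  subst hrp
  have hcompl := isComplement'_of_corefree hM hcore hN
  rw [hLN]
  refine ⟨⟨hc, hpow⟩, hcompl, hmin, hC, fun q _ hq => ?_⟩
  set Q := (Cfsg.pCore q M).map M.subtype with hQ
  have hQq : IsPGroup q Q := Core.isPGroup_pCoreOf M
  have hQn : M ≤ Subgroup.normalizer (Q : Set G) := Core.le_normalizer_pCoreOf M
  have hD : (N ⊓ Subgroup.centralizer (Q : Set G)).Normal :=
    normal_of_sup_eq_top (le_normalizer_of_le_of_comm inf_le_left)
      (Core.le_normalizer_inf (le_normalizer_of_normal' M N) (Core.le_normalizer_centralizer hQn))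
      hcompl.sup_eq_top
  have hbot : N ⊓ Subgroup.centralizer (Q : Set G) = ⊥ := by
    refine (hmin _ hD inf_le_left).resolve_right fun h => hq ?_
    have h1 : Q ≤ N := hC ▸ Subgroup.le_centralizer_iff.1 (inf_eq_left.1 h)
    have h2 : Q = ⊥ :=
      eq_bot_iff.2 ((le_inf h1 (Core.pCoreOf_le M)).trans hcompl.disjoint.le_bot)
    exact (Subgroup.map_eq_bot_iff_of_injective _ (Subgroup.subtype_injective _)).1 h2
  have hmod := Block2.card_modEq_card_centralizer hQq (fun x => x ∈ N)
    (fun a _ x hx => hNn.conj_mem x hx a)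
  have h1 : Nat.card {x // x ∈ N ∧ x ∈ Subgroup.centralizer (Q : Set G)} = 1 := by
    have : Nat.card (N ⊓ Subgroup.centralizer (Q : Set G) : Subgroup G) = 1 := by
      rw [hbot, Subgroup.card_bot]
    exact this
  rw [h1] at hmod
  refine ⟨hmod, ?_⟩
  rintro rfl
  have h2 : q ∣ Nat.card N := Core.dvd_card_of_isPGroup_of_ne_bot hp hNr hN
  have h3 := ((Nat.modEq_zero_iff_dvd.2 h2).symm.trans hmod).symm
  exact hp.one_lt.ne' (Nat.dvd_one.1 (Nat.modEq_zero_iff_dvd.1 h3))

end Cfsg.Agent.S0587
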