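import Cfsg.Statements.S0588
import Cfsg.Agent.Lib.Hall.Prim

set_option autoImplicit false
open Cfsg

namespace Cfsg.Agent.S0588

open scoped Pointwise
open Cfsg.Lib Cfsg.Lib.Hall

/-- If a subgroup H of a finite group G contains the centralizer of every non-identity element of H, then the order of H is coprime to its index. -/
theorem result {G : Type*} [Group G] [Finite G] (H : Subgroup G) (h : ∀ x ∈ H, x ≠ 1 → Subgroup.centralizer ({x} : Set G) ≤ H) : (Nat.card H).Coprime H.index := by
  refine Nat.coprime_of_dvd fun p hp h1 h2 => ?_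
  haveI := Fact.mk hp
  obtain ⟨x, hx⟩ := exists_prime_orderOf_dvd_card' p h1
  have hx1 : (x : G) ≠ 1 := by
    intro h0
    have : x = 1 := Subtype.ext h0
    rw [this, orderOf_one] at hx
    exact hp.one_lt.ne hx
  have hxp : IsPGroup p (Subgroup.zpowers (x : G)) :=
    Core.isPGroup_zpowers_of_orderOf (k := 1) (by rw [Subgroup.orderOf_coe, hx, pow_one])
  obtain ⟨P, hP⟩ := hxp.exists_le_sylow
  have hPne : (P : Subgroup G) ≠ ⊥ := fun h0 =>
    hx1 (Subgroup.mem_bot.1 (h0 ▸ hP (Subgroup.mem_zpowers _)))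
  have h3 := Core.inf_centralizer_ne_bot_of_isPGroup P.isPGroup' P.isPGroup'
    Subgroup.le_normalizer hPne
  obtain ⟨⟨z, hz⟩, hz1⟩ := (Subgroup.ne_bot_iff_exists_ne_one).1 h3
  have hz1' : z ≠ 1 := fun h0 => hz1 (Subtype.ext h0)
  have hzH : z ∈ H := h x x.2 hx1 (Core.centralizer_zpowers (x : G) ▸ Core.centralizer_anti hP hz.2)
  have hPH : (P : Subgroup G) ≤ H := by
    refine le_trans ?_ (h z hzH hz1')
    rw [← Core.centralizer_zpowers, Subgroup.le_centralizer_iff, Subgroup.zpowers_le]
    exact hz.2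
  exact P.not_dvd_index (h2.trans (Subgroup.index_dvd_of_le hPH))

end Cfsg.Agent.S0588
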