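import Cfsg.Statements.S0589
import Cfsg.Agent.Lib.Hall.MinNormal
import Cfsg.Agent.S0035
import Cfsg.Agent.Lib.Coprime.FrobCompl

set_option autoImplicit false
open Pointwise
open Cfsg

namespace Cfsg.Agent.S0589

open scoped Pointwise
open Cfsg.Lib Cfsg.Lib.Hall

/-- Let H be a Frobenius complement in a finite group G and L a subgroup of G whose order divides the order of H. Then L is contained in some conjugate of H. -/
theorem result {G : Type*} [Group G] [Finite G] (H : Subgroup G) (hH : Cfsg.IsFrobeniusComplement H) (L : Subgroup G) (hL : Nat.card L ∣ Nat.card H) : ∃ x : G, L ≤ MulAut.conj x • H := by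
  obtain ⟨N, -, hN, hc⟩ := S0035.result H hH
  have hNH : N ⊓ H = ⊥ := hc.disjoint.eq_bot
  have hsup : N ⊔ H = ⊤ := hc.sup_eq_top
  have hf : Coprime.Fpf N H := Coprime.fpf_iff.2 fun r hr hr1 k hk e => by
    by_contra hk1
    have hkH : k ∉ H := fun h => hk1 (Subgroup.mem_bot.1 (hNH ▸ ⟨hk, h⟩))
    refine hr1 (Subgroup.mem_bot.1 (hH.2.2 k hkH ▸ ⟨hr, ?_⟩))
    change r ∈ MulAut.conj k • H
    rw [Hall.mem_conj_smul, mul_assoc, e, inv_mul_cancel_left]
    exact hr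
  have hn : H ≤ Subgroup.normalizer (N : Set G) := Subgroup.le_normalizer_of_normal
  have hN0 : N ≠ ⊥ := fun h0 => hH.2.1 (by rwa [h0, bot_sup_eq] at hsup)
  by_cases hL0 : L = ⊥
  · exact ⟨1, hL0 ▸ bot_le⟩
  have hLN : L ⊓ N = ⊥ :=
    (Subgroup.disjoint_of_coprime_natCard ((hf.coprime hn).coprime_dvd_left hL)).eq_bot
  have hfL : Coprime.Fpf N L := fun r hr hr1 =>
    hf.inf_centralizer_eq_bot_of_not_mem hn (hsup ▸ Subgroup.mem_top r)
      fun h => hr1 (Subgroup.mem_bot.1 (hLN ▸ ⟨hr, h⟩))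
  obtain ⟨y, hy, hyp, hyc⟩ := hfL.exists_central Subgroup.le_normalizer_of_normal hN0 hL0
  have hy1 : y ≠ 1 := fun h => by rw [h, orderOf_one] at hyp; exact Nat.not_prime_one hyp
  obtain ⟨k, -, r, hr, hr1, rfl⟩ := hf.exists_conj hn (hsup ▸ Subgroup.mem_top y)
    fun h => hy1 (Subgroup.mem_bot.1 (hLN ▸ ⟨hy, h⟩))
  refine ⟨k, fun x hx => Hall.mem_conj_smul.2 (hf.sup_inf_centralizer_le' hn hr hr1
    ⟨hsup ▸ Subgroup.mem_top _, Subgroup.mem_centralizer_singleton_iff.2 ?_⟩)⟩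
  have := Subgroup.mem_centralizer_iff.1 hyc x hx
  calc k⁻¹ * x * k * r = k⁻¹ * (x * (k * r * k⁻¹)) * k := by group
    _ = r * (k⁻¹ * x * k) := by rw [this]; group

end Cfsg.Agent.S0589
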