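import Cfsg.Statements.S0592
import Cfsg.Agent.Lib.Glaub.QuadRep

set_option autoImplicit false
open Cfsg

namespace Cfsg.Agent.S0592

open Subgroup Cfsg.Lib Cfsg.Lib.Glaub Polynomial

variable {G F : Type*} [Group G] [Finite G] [Field F] [Fintype F] {p k : ℕ} [Fact p.Prime] [CharP F p] {x y : G}
  (hxy : closure {x, y} = ⊤) (hn : (x * y) ^ (p ^ k * (Fintype.card F - 1)) = 1)
  (hσ : ∀ σ : G →* Matrix.SpecialLinearGroup (Fin 2) F, IsPGroup p σ.range)
  {V : Type*} [AddCommGroup V] [Module F V] [Module.Finite F V] (ρ : G →* Module.End F V)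
  (hx : (ρ x - 1) * (ρ x - 1) = 0) (hy : (ρ y - 1) * (ρ y - 1) = 0)
include hxy hn hσ hx hy

theorem fixed [Nontrivial V] : ∃ v, v ≠ 0 ∧ ∀ g, ρ g v = v := by
  have h1 : aeval (ρ (x * y)) ((X ^ Fintype.card F - X : F[X]) ^ p ^ k) = 0 := by
    obtain ⟨n, e⟩ : ∃ n, Fintype.card F = n + 1 := ⟨_, (Nat.succ_pred_eq_of_pos Fintype.card_pos).symm⟩
    rw [e, Nat.add_sub_cancel] at hn
    rw [sub_pow_char_pow, ← pow_mul, e, add_mul, one_mul, mul_comm n, map_sub, aeval_X_pow, aeval_X_pow, pow_add,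
      ← map_pow, hn, map_one, one_mul, sub_self]
  have h0 : (X ^ Fintype.card F - X : F[X]).Splits := by simpa using (FiniteField.isSplittingField_sub F F).splits
  obtain ⟨μ, hμ⟩ := ((h0.pow _).of_dvd (pow_ne_zero _
    (FiniteField.X_pow_card_sub_X_ne_zero F Fintype.one_lt_card)) (minpoly.dvd _ _ h1)).exists_eval_eq_zero
      (minpoly.degree_pos (Algebra.IsIntegral.isIntegral _)).ne'
  obtain ⟨w, hw⟩ := (Module.End.hasEigenvalue_iff_isRoot.2 hμ).exists_hasEigenvector
  have h2 := hw.apply_eq_smul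
  have h3 : μ ≠ 0 := fun e => hw.2 (by
    have := congrArg (ρ (x * y)⁻¹) h2
    rwa [← Module.End.mul_apply, ← map_mul, inv_mul_cancel, map_one, e, zero_smul, map_zero] at this)
  have h4 : ((ρ x - 1) * (ρ y - 1) + (ρ y - 1) * (ρ x - 1)) * ρ (x * y) = (ρ (x * y) - 1) * (ρ (x * y) - 1) := by
    rw [map_mul]
    linear_combination (norm := noncomm_ring) (ρ y - 1) * hx + (ρ y - 1) * hx * (ρ y - 1) - hx - hx * (ρ y - 1) - hy
  obtain ⟨-, h⟩ | ⟨hl, ι, σ, -, -, sx, sy⟩ := quad_dich hxy ρ hx hy hw.2 (l := μ⁻¹ * ((μ - 1) * (μ - 1))) (by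
    have := congrArg (· w) h4
    simp only [Module.End.mul_apply, h2, LinearMap.sub_apply, map_sub, map_smul, Module.End.one_apply] at this
    rw [mul_smul, eq_inv_smul_iff₀ h3, this]; module)
  · exact h
  · exact absurd (hσ σ) (not_isPGroup_of_mem hl ⟨x, sx⟩ ⟨y, sy⟩)

theorem key {z : G} (hz : ¬ p ∣ orderOf z) : ρ z = 1 := by
  obtain ⟨U, ⟨hU, hz'⟩, hm⟩ := set_has_maximal_iff_noetherian.2 (inferInstance : IsNoetherian F V)
    {U : Submodule F V | (∀ g, U ≤ U.comap (ρ g)) ∧ ∀ v ∈ U, ρ z v = v} ⟨⊥, fun _ => bot_le, by simp⟩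
  by_contra hne
  have : Nontrivial (V ⧸ U) := Submodule.Quotient.nontrivial_iff.2 fun h => hne (LinearMap.ext fun v => hz' v (h ▸ trivial))
  have key : ∀ g, (ρ g - 1) * (ρ g - 1) = 0 →
      (Representation.quotient ρ U hU g - 1) * (Representation.quotient ρ U hU g - 1) = 0 := fun g hg => by
    ext v
    have := congrArg (fun f => U.mkQ (f v)) hg
    simpa [Representation.quotient] using this
  obtain ⟨w, hw, h1⟩ := fixed hxy hn hσ (Representation.quotient ρ U hU) (key x hx) (key y hy)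
  obtain ⟨v, rfl⟩ := U.mkQ_surjective w
  have hg : ∀ g, ρ g v - v ∈ U := fun g => (Submodule.Quotient.eq U).1 (h1 g)
  have hn : ∀ n : ℕ, ρ (z ^ n) v = v + (n : F) • (ρ z v - v) := fun n => by
    induction n with
    | zero => simp
    | succ n ih => rw [pow_succ', map_mul, Module.End.mul_apply, ih, map_add, map_smul, hz' _ (hg z)]; push_cast; module
  have h0 := hn (orderOf z)
  rw [pow_orderOf_eq_one, map_one, Module.End.one_apply, left_eq_add, smul_eq_zero, CharP.cast_eq_zero_iff F p,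
    or_iff_right hz] at h0
  refine hm (U ⊔ F ∙ v) ⟨fun g => sup_le ((hU g).trans (Submodule.comap_mono le_sup_left)) ?_, fun u hu => ?_⟩
    (left_lt_sup.2 fun h => hw ((Submodule.Quotient.mk_eq_zero U).2 (h (Submodule.mem_span_singleton_self v))))
  · rw [Submodule.span_singleton_le_iff_mem, Submodule.mem_comap, ← sub_add_cancel (ρ g v) v]
    exact Submodule.add_mem_sup (hg g) (Submodule.mem_span_singleton_self v)
  · obtain ⟨a, ha, b, hb, rfl⟩ := Submodule.mem_sup.1 hu
    obtain ⟨c, rfl⟩ := Submodule.mem_span_singleton.1 hb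
    rw [map_add, map_smul, hz' a ha, sub_eq_zero.1 h0]

omit hxy hn hσ hx hy

/-- Two quadratically acting generators of a linear group that is not a p-group, with the p'-part of the order of their product dividing q - 1, give a homomorphism onto a subgroup of SL(2, q) that is not a p-group. -/
theorem result {K : Type*} [Field K] [Fintype K] {p : ℕ} [Fact p.Prime] [CharP K p] {W : Type*} [AddCommGroup W] [Module K W] [FiniteDimensional K W] [Finite W] [Nontrivial W] (H : Subgroup (W ≃ₗ[K] W)) (a b : W ≃ₗ[K] W) (hH : H = Subgroup.closure {a, b}) (ha : ∀ w : W, a (a w - w) = a w - w) (hb : ∀ w : W, b (b w - w) = b w - w) (hnp : ¬ IsPGroup p H) (hk : ∃ e k : ℕ, orderOf (a * b) = p ^ e * k ∧ k ∣ Fintype.card K - 1) : ∃ φ : H →* Matrix.SpecialLinearGroup (Fin 2) K, ¬ IsPGroup p φ.range := by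
  subst hH
  have : Finite (W ≃ₗ[K] W) := Finite.of_injective _ DFunLike.coe_injective
  obtain ⟨e, k, h1, c, h2⟩ := hk
  by_contra! h
  refine hnp (Amalg.res_eq_bot_iff.1 (eq_bot_iff.2 (Amalg.res_le_iff.2 fun z hz hz' => ?_)))
  have := key (k := e) (closure_pair_top a b) (Subtype.ext (by
    simp [h2, ← mul_assoc, ← h1, pow_mul])) h (LinearEquiv.automorphismGroup.toLinearMapMonoidHom.comp (Subgroup.subtype _))
    (LinearMap.ext fun w => sub_eq_zero.2 (ha w)) (LinearMap.ext fun w => sub_eq_zero.2 (hb w)) (z := ⟨z, hz⟩)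
    (by rw [← orderOf_coe]; exact (Nat.Prime.coprime_iff_not_dvd Fact.out).1 hz'.symm)
  exact LinearEquiv.ext fun w => congrArg (· w) this

end Cfsg.Agent.S0592
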