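import Cfsg.Statements.S0594
import Cfsg.Agent.Lib.Glaub.Stab

set_option autoImplicit false
open Cfsg

namespace Cfsg.Agent.S0594

open Cfsg.Lib.Fus2 Cfsg.Lib.Amalg Subgroup Cfsg.Lib Cfsg.Lib.Glaub

/-- For odd p, two quadratic generators of a faithful group that is not a p-group, one of which acts nontrivially on a normal subgroup of order prime to p, force p = 3 and a section isomorphic to SL(2,3). -/
theorem result {G : Type*} [Group G] [Finite G] {p : ℕ} [Fact p.Prime] (hp : p ≠ 2) (V H : Subgroup G) (hV : Cfsg.IsElementaryAbelian p V) (hHV : H ≤ Subgroup.normalizer (V : Set G)) (hf : H ⊓ Subgroup.centralizer (V : Set G) = ⊥) (a b : G) (hab : H = Subgroup.closure {a, b}) (ha : ⁅⁅V, Subgroup.zpowers a⁆, Subgroup.zpowers a⁆ = ⊥) (hb : ⁅⁅V, Subgroup.zpowers b⁆, Subgroup.zpowers b⁆ = ⊥) (hnp : ¬ IsPGroup p H) (Q : Subgroup G) (hQH : Q ≤ H) (hQn : H ≤ Subgroup.normalizer (Q : Set G)) (hQ : (Nat.card Q).Coprime p) (hQa : ⁅Q, Subgroup.zpowers a⁆ ≠ ⊥) : p =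 3 ∧ ∃ (K L : Subgroup G) (hL : (L.subgroupOf K).Normal), K ≤ H ∧ Nonempty ((K ⧸ L.subgroupOf K) ≃* Matrix.SpecialLinearGroup (Fin 2) (ZMod 3)) := by
  have haH : a ∈ H := hab ▸ subset_closure (by simp)
  have h1 : Q ⊔ zpowers a ≤ H := sup_le hQH (zpowers_le.2 haH)
  have h2 : IsPGroup p (zpowers a) := elemAb_isPGroup (KS9.elemAb_of_quad hV ((zpowers_le.2 haH).trans hHV)
    (eq_bot_iff.2 (hf ▸ inf_le_inf_right _ (zpowers_le.2 haH))) ha)
  have h := involves_sl2_of_not_mem hp (elemAb_isPGroup hV) (h1.trans hHV) (mem_sup_right (mem_zpowers a)) ha (by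
    rw [opMod_of_faithful (eq_bot_iff.2 (hf ▸ inf_le_inf_right _ h1))]
    exact fun c => hQa (eq_bot_iff.2 ((le_inf ((commutator_mono le_rfl (zpowers_le.2 c)).trans
      (comm_le_right (le_sup_left.trans (le_norm_op _)))) (comm_le_left ((zpowers_le.2 haH).trans hQn))).trans
        (inf_eq_bot_of_coprime (coprime_card_of_pPrime hQ (op_isPGroup _)).symm).le)))
  have hn := normal_subgroupOf_of_le_normalizer (h1.trans hQn)
  obtain rfl := eq_three_of_involves_sl2 hp (Core.isPSolvable_of_le Fact.out (Core.isPSolvable_sup_of_normal Fact.out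
    (Q.subgroupOf (Q ⊔ zpowers a)) (H := (zpowers a).subgroupOf _)
      (Core.isPSolvable_subgroupOf Fact.out (Core.isPSolvable_of_coprime Fact.out hQ) _)
      (Core.isPSolvable_subgroupOf Fact.out (Core.isPSolvable_of_isPGroup Fact.out h2) _))
    (by rw [← subgroupOf_sup le_sup_left le_sup_right, subgroupOf_self]) |> (Core.isPSolvable_top_iff Fact.out).1) h
  exact ⟨rfl, section_of_involves (involves_of_le h h1)⟩

end Cfsg.Agent.S0594
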