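import Cfsg.Statements.S0600
import Cfsg.Agent.Lib.KS9.Offender

set_option autoImplicit false
open Cfsg

namespace Cfsg.Agent.S0600

open Subgroup Cfsg.Lib.Amalg

/-- A normal elementary abelian p-subgroup generated by the fixed points of the Sylow p-subgroups admits no nontrivial normal p-subgroup of G modulo its centralizer. -/
theorem result {G : Type*} [Group G] [Finite G] {p : ℕ} [Fact p.Prime] (V : Subgroup G) [V.Normal] (hV : Cfsg.IsElementaryAbelian p V) (hgen : V = ⨆ S : Sylow p G, V ⊓ Subgroup.centralizer ((S : Subgroup G) : Set G)) : Cfsg.pCore p (G ⧸ Subgroup.centralizer (V : Set G)) = ⊥ := by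
  have h : PRed p V ⊤ := by
    refine ⟨le_top, le_normalizer_of_normal, hV, fun K _ hn hr => ?_⟩
    haveI := normal_of_top_le_normalizer hn
    refine le_cent_symm ?_
    rw [hgen]
    refine iSup_le fun S => le_cent_symm ?_
    rw [← ((syl_top S).inf_normal_top K).res_sup]
    exact sup_le (hr.trans (Cfsg.Lib.Core.centralizer_anti inf_le_left))
      (inf_le_left.trans (le_cent_symm inf_le_right))
  obtain ⟨-, -, _, h4⟩ := pRed_top_iff.1 h
  exact h4

end Cfsg.Agent.S0600
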