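import Cfsg.Statements.S0617
import Cfsg.Agent.Lib.KS9.FF

set_option autoImplicit false
open Cfsg

namespace Cfsg.Agent.S0617

open Subgroup Cfsg.Lib.Amalg Cfsg.Lib.KS9

/-- Structure Theorem for failure of factorization: a faithful group generated by best offenders, with self-centralizing p'-core, is a direct product of copies of SL(2, p) (p = 2 or 3), each acting on its own plane in V, which is the direct product of these planes and C_V(H). -/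
theorem result {G : Type*} [Group G] [Finite G] {p : ℕ} [Fact p.Prime] (V H : Subgroup G) (hV : Cfsg.IsElementaryAbelian p V) (hHV : H ≤ Subgroup.normalizer (V : Set G)) (hf : H ⊓ Subgroup.centralizer (V : Set G) = ⊥) (hS1 : Subgroup.centralizer (Cfsg.pPrimeCore p ↥H : Set ↥H) ≤ Cfsg.pPrimeCore p ↥H) (hS3 : H = ⨆ A : {A : Subgroup G // A ≤ H ∧ Cfsg.IsBestOffenderOn p V A}, (A : Subgroup G)) (hH1 : H ≠ ⊥) : (p = 2 ∨ p = 3) ∧ (∀ E : {E : Subgroup G // ∃ A : Subgroup G, A ≤ H ∧ Cfsg.IsBestOffenderOn p V A ∧ ⁅V, A⁆ ≠ ⊥ ∧ (∀ B : Subgroup G, B ≤ A → Cfsg.IsBestOffenderOn p V B → ⁅V, B⁆ ≠ ⊥ → B = A) ∧ E = ⁅((Cfsg.pPrimeCore p ↥H).map H.subtype), A⁆ ⊔ A}, H ≤ Subgroup.normalizer ((E : Subgroup G) : Set G) ∧ Nonempty (↥(E : Subgroup G) ≃* Matrix.SpecialLinearGroup (Fin 2) (ZMod p)) ∧ Nat.card ↥(⁅V, (E : Subgroup G)⁆) = p ^ 2) ∧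 iSupIndep (fun E : {E : Subgroup G // ∃ A : Subgroup G, A ≤ H ∧ Cfsg.IsBestOffenderOn p V A ∧ ⁅V, A⁆ ≠ ⊥ ∧ (∀ B : Subgroup G, B ≤ A → Cfsg.IsBestOffenderOn p V B → ⁅V, B⁆ ≠ ⊥ → B = A) ∧ E = ⁅((Cfsg.pPrimeCore p ↥H).map H.subtype), A⁆ ⊔ A} => (E : Subgroup G)) ∧ (⨆ E : {E : Subgroup G // ∃ A : Subgroup G, A ≤ H ∧ Cfsg.IsBestOffenderOn p V A ∧ ⁅V, A⁆ ≠ ⊥ ∧ (∀ B : Subgroup G, B ≤ A → Cfsg.IsBestOffenderOn p V B → ⁅V, B⁆ ≠ ⊥ → B = A) ∧ E = ⁅((Cfsg.pPrimeCore p ↥H).map H.subtype), A⁆ ⊔ A}, (E : Subgroup G)) = H ∧ iSupIndep (fun o : Option {E : Subgroup G // ∃ A : Subgroup G, A ≤ H ∧ Cfsg.IsBestOffenderOn p V A ∧ ⁅V, A⁆ ≠ ⊥ ∧ (∀ B : Subgroup G, B ≤ A → Cfsg.IsBestOffenderOn p V B → ⁅V, B⁆ ≠ ⊥ → B = A) ∧ E = ⁅((Cfsg.pPrimeCore p ↥H).map H.subtype), A⁆ ⊔ A} => o.elim (V ⊓ Subgroup.centralizer (H : Set G)) (fun E => ⁅V, (E : Subgroup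 G)⁆)) ∧ (V ⊓ Subgroup.centralizer (H : Set G)) ⊔ (⨆ E : {E : Subgroup G // ∃ A : Subgroup G, A ≤ H ∧ Cfsg.IsBestOffenderOn p V A ∧ ⁅V, A⁆ ≠ ⊥ ∧ (∀ B : Subgroup G, B ≤ A → Cfsg.IsBestOffenderOn p V B → ⁅V, B⁆ ≠ ⊥ → B = A) ∧ E = ⁅((Cfsg.pPrimeCore p ↥H).map H.subtype), A⁆ ⊔ A}, ⁅V, (E : Subgroup G)⁆) = V := by
  have h := ff_of_pPrimeCore hV hHV hf hS1
  have e : (fun E : Subgroup G => ∃ A : Subgroup G, A ≤ H ∧ Cfsg.IsBestOffenderOn p V A ∧ ⁅V, A⁆ ≠ ⊥ ∧ (∀ B : Subgroup G, B ≤ A → Cfsg.IsBestOffenderOn p V B → ⁅V, B⁆ ≠ ⊥ → B = A) ∧ E = ⁅((Cfsg.pPrimeCore p ↥H).map H.subtype), A⁆ ⊔ A) = IsFac p V ((Cfsg.pPrimeCore p ↥H).map H.subtype) H := by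
    ext E
    exact ⟨fun ⟨A, h1, h2, h3, h4, h5⟩ => ⟨A, h1, ⟨h2, h3, h4⟩, h5⟩,
      fun ⟨A, h1, h2, h3⟩ => ⟨A, h1, h2.best, h2.ne, h2.min, h3⟩⟩
  suffices key : ∀ P : Subgroup G → Prop, P = IsFac p V ((Cfsg.pPrimeCore p ↥H).map H.subtype) H →
      (p = 2 ∨ p = 3) ∧ (∀ E : Subtype P, H ≤ Subgroup.normalizer ((E : Subgroup G) : Set G) ∧ Nonempty (↥(E : Subgroup G) ≃* Matrix.SpecialLinearGroup (Fin 2) (ZMod p)) ∧ Nat.card ↥(⁅V, (E : Subgroup G)⁆) = p ^ 2) ∧ iSupIndep (fun E : Subtype P => (E : Subgroup G)) ∧ (⨆ E : Subtype P, (E : Subgroup G)) = H ∧ iSupIndep (fun o : Option (Subtype P) => o.elim (V ⊓ Subgroup.centralizer (H : Set G)) (fun E => ⁅V, (E : Subgroup G)⁆)) ∧ (V ⊓ Subgroup.centralizer (H : Set G)) ⊔ (⨆ E : Subtype P, ⁅V, (E : Subgroup G)⁆) = V from key _ e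
  rintro _ rfl
  obtain ⟨A, hA, hm⟩ := h.exists_minOff hS3 hH1
  refine ⟨h.le_three hA hm, ?_, ?_, ?_, ?_, h.cent_sup_iSup hS3⟩
  · rintro ⟨_, B, h1, h2, rfl⟩
    exact ⟨h.norm_E hS3 h1 h2, h.equiv_E h1 h2, h.card_W h1 h2⟩
  · rintro ⟨_, B, h1, h2, rfl⟩
    rw [disjoint_iff, ← le_bot_iff, ← h.faith_E h1 h2]
    exact inf_le_inf_left _ (iSup₂_le fun E hE =>
      (h.fac_dichotomy ⟨B, h1, h2, rfl⟩ E.2 fun e' => hE (Subtype.ext e'.symm)).1)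
  · exact le_antisymm (iSup_le fun E => h.fac_le E.2) (h.le_of_fac hS3 fun E hE =>
      le_iSup (fun E : Subtype (IsFac p V ((Cfsg.pPrimeCore p ↥H).map H.subtype) H) => (E : Subgroup G)) ⟨E, hE⟩)
  · rintro (_ | ⟨_, B, h1, h2, rfl⟩)
    · rw [disjoint_iff, ← le_bot_iff, ← h.cent_inf_iSup]
      refine inf_le_inf_left _ (iSup₂_le ?_)
      rintro (_ | E) hE
      · exact absurd rfl hE
      · exact le_iSup (fun E : Subtype (IsFac p V ((Cfsg.pPrimeCore p ↥H).map H.subtype) H) => ⁅V, (E : Subgroup G)⁆) E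
    · rw [disjoint_iff, ← le_bot_iff, ← h.W_inf_cent h1 h2]
      refine inf_le_inf_left _ (iSup₂_le ?_)
      rintro (_ | E) hE
      · exact inf_le_inf_left _ (Cfsg.Lib.Core.centralizer_anti (h.comm_sup_le_H h1))
      · exact le_inf (comm_le_left ((h.fac_le E.2).trans hHV)) (le_cent_symm
          (h.fac_dichotomy E.2 ⟨B, h1, h2, rfl⟩ fun e' => hE (congrArg some (Subtype.ext e'))).1)

end Cfsg.Agent.S0617
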