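import Cfsg.Statements.S0618
import Cfsg.Agent.Lib.KS9.TF

set_option autoImplicit false
open Cfsg

namespace Cfsg.Agent.S0618

open Subgroup Cfsg.Lib.Amalg Cfsg.Lib.KS9

/-- A p-separable group with trivial p'-core in which the Thompson factorization fails has p = 2 or 3, and J(G) induces on the normal closure of Ω₁(Z(S)) a group containing a normal SL(2, p). -/
theorem result {G : Type*} [Group G] [Finite G] {p : ℕ} [Fact p.Prime] (hsep : Cfsg.IsPSolvable p G) (hO : Cfsg.pPrimeCore p G = ⊥) (hnf : ¬ Cfsg.IsThompsonFactorizable p G) : (p = 2 ∨ p = 3) ∧ ∃ E : Subgroup G, Subgroup.centralizer ((⨆ S : Sylow p G, Cfsg.omegaOne p ((S : Subgroup G) ⊓ Subgroup.centralizer ((S : Subgroup G) : Set G))) : Set G) ≤ E ∧ E ≤ Cfsg.thompsonSubgroup p G ⊔ Subgroup.centralizer ((⨆ S : Sylow p G, Cfsg.omegaOne p ((S : Subgroup G) ⊓ Subgroup.centralizer ((S : Subgroup G) : Set G))) : Set G) ∧ Cfsg.thompsonSubgroup p G ⊔ Subgroup.centralizer ((⨆ S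 : Sylow p G, Cfsg.omegaOne p ((S : Subgroup G) ⊓ Subgroup.centralizer ((S : Subgroup G) : Set G))) : Set G) ≤ Subgroup.normalizer (E : Set G) ∧ ∃ hn : ((Subgroup.centralizer ((⨆ S : Sylow p G, Cfsg.omegaOne p ((S : Subgroup G) ⊓ Subgroup.centralizer ((S : Subgroup G) : Set G))) : Set G)).subgroupOf E).Normal, Nonempty ((↥E ⧸ (Subgroup.centralizer ((⨆ S : Sylow p G, Cfsg.omegaOne p ((S : Subgroup G) ⊓ Subgroup.centralizer ((S : Subgroup G) : Set G))) : Set G)).subgroupOf E) ≃* Matrix.SpecialLinearGroup (Fin 2) (ZMod p)) := by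
  have hc : CharP p (⊤ : Subgroup G) := charP_top.2
    (Cfsg.Lib.Core.centralizer_pCore_le_of_isPSolvable Fact.out hsep hO)
  obtain ⟨h1, E, h2, h3, h4, -, h5⟩ := exists_sl2_of_not_cent hc.pRed_scc
    ((Cfsg.Lib.Core.isPSolvable_top_iff Fact.out).2 hsep) fun h => hnf ((factorizable_iff hO).2 h)
  have e : Subgroup.centralizer ((⨆ S : Sylow p G, Cfsg.omegaOne p ((S : Subgroup G) ⊓ Subgroup.centralizer ((S : Subgroup G) : Set G))) : Set G) = 𝐂 (Cfsg.sylowCenterClosure p (⊤ : Subgroup G)) := by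
    rw [← scc_top_eq, Cfsg.Lib.Amalg.centralizer_iSup]
    ext g
    simp only [mem_centralizer_iff, mem_iInf, Set.iSup_eq_iUnion, Set.mem_iUnion, forall_exists_index]
    exact ⟨fun h S x hx => h x S hx, fun h x S hx => h S x hx⟩
  rw [Cfsg.Lib.Transfer.thompsonOf_top] at h3 h4
  rw [e]
  exact ⟨h1, E, h2, h3, h4, h5⟩

end Cfsg.Agent.S0618
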