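import Cfsg.Statements.S0620
import Cfsg.Agent.Lib.KS9.TF

set_option autoImplicit false
open Cfsg

namespace Cfsg.Agent.S0620

open Subgroup Cfsg.Lib.Amalg Cfsg.Lib.KS9

/-- Under coprime action of an elementary abelian q-group X on a p-separable group K with trivial p'-core, K is generated by the normalizer of J(S), the centralizer of Ω₁(Z(S)) and the fixed points of X. -/
theorem result {G : Type*} [Group G] [Finite G] {p : ℕ} [Fact p.Prime] {q : ℕ} [Fact q.Prime] (K X : Subgroup G) (hXK : X ≤ Subgroup.normalizer (K : Set G)) (hX : Cfsg.IsElementaryAbelian q X) (hq : ¬ q ∣ Nat.card K) (hsep : Cfsg.IsPSolvable p ↥K) (hO : Cfsg.pPrimeCore p ↥K = ⊥) (S : Sylow p ↥K) : (Subgroup.normalizer (Cfsg.thompsonSubgroupOf p (S : Subgroup ↥K) : Set ↥K) ⊔ Subgroup.centralizer (Cfsg.omegaOne p ((S : Subgroup ↥K) ⊓ Subgroup.centralizer ((S : Subgroup ↥K) : Set ↥K)) : Set ↥K) ⊔ (Subgroup.centralizer (X : Set G)).subgroupOf K) = ⊤ := by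
  have hc := charP_of_isPSolvable hsep hO
  have hXq := elemAb_isPGroup hX
  have hT := syl_of_sylow S
  rw [eq_top_iff, ← map_le_map_iff_of_injective K.subtype_injective, Cfsg.Lib.Amalg.map_subtype_top]
  refine le_of_operator hc.pRed_scc hsep hXK (hXK.trans (norm_le_norm_scc K))
    (coprime_card_of_pPrime ((Nat.Prime.coprime_iff_not_dvd Fact.out).2 hq).symm hXq).symm
    (by have := hXq.isNilpotent; infer_instance) hT (map_subtype_le _) ?_ ?_ ?_
  · refine le_trans ?_ (map_mono (le_sup_of_le_left le_sup_right))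
    rw [Cfsg.Lib.Core.map_subtype_centralizer, ← omZ_def, ← omZ_map_subtype]
    exact inf_le_inf_left _ (Cfsg.Lib.Core.centralizer_anti hT.omZ_le_scc)
  · refine le_trans ?_ (map_mono (le_sup_of_le_left le_sup_left))
    rw [Cfsg.Lib.Core.map_subtype_normalizer, Cfsg.Lib.Transfer.map_thompsonOf K.subtype_injective]
  · refine le_trans ?_ (map_mono le_sup_right)
    rw [subgroupOf_map_subtype, inf_comm]

end Cfsg.Agent.S0620
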