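import Cfsg.Statements.S0627
import Cfsg.Agent.Lib.KS9.W
import Cfsg.Agent.Lib.Glaub.Fac
import Cfsg.Agent.Lib.Glaub.Stab

set_option autoImplicit false
open Cfsg

namespace Cfsg.Agent.S0627

open Subgroup Cfsg.Lib Cfsg.Lib.Amalg Cfsg.Lib.KS9

/-- In a p-separable group with p at least 5, the normalizer of W(S) supplements the largest normal subgroup of order prime to p. -/
theorem result {G : Type*} [Group G] [Finite G] {p : ℕ} [Fact p.Prime] (hp : 5 ≤ p) (hsep : Cfsg.IsPSolvable p G) (S : Sylow p G) : Cfsg.pPrimeCore p G ⊔ Subgroup.normalizer (((Cfsg.stableNormalClosure p ↥(S : Subgroup G)).map (S : Subgroup G).subtype) : Set G) = ⊤ := by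
  set π := QuotientGroup.mk' (pPrimeCore p G)
  have hs := Core.isPSolvable_quotient Fact.out hsep (pPrimeCore p G)
  have hst := Glaub.actionPStable_of_sl2 (by omega) (Glaub.not_involves_sl2_of_isPSolvable hp hs)
  have hc : CharP p (⊤ : Subgroup (G ⧸ pPrimeCore p G)) :=
    charP_top.2 (Core.centralizer_pCore_le_of_isPSolvable Fact.out hs Core.pPrimeCore_quotient_pPrimeCore)
  have hn := WOf_normal hst hc (S.mapSurjective (QuotientGroup.mk'_surjective (pPrimeCore p G)))
  have hW : IsPGroup p (WOf p (S : Subgroup G)) := S.isPGroup'.to_le (WOf_le _)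
  have h1 := Glaub.map_norm_pq hW
  rw [map_WOf _ (by rw [inf_comm]; exact Glaub.inf_ker_mk' S.isPGroup')] at h1
  have h2 : (normalizer (WOf p (S : Subgroup G) : Set G)).map π = ⊤ := by
    rw [h1]; exact normalizer_eq_top_iff.2 hn
  have h3 := congrArg (comap π) h2
  rw [comap_map_eq, comap_top, QuotientGroup.ker_mk', sup_comm] at h3
  exact h3

end Cfsg.Agent.S0627
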