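import Cfsg.Statements.S0628
import Cfsg.Agent.Lib.KS9.W
import Cfsg.Agent.Lib.Glaub.NPC

set_option autoImplicit false
open Cfsg

namespace Cfsg.Agent.S0628

open Cfsg.Lib Cfsg.Lib.Amalg Cfsg.Lib.Glaub Cfsg.Lib.Fus2 Cfsg.Lib.Transfer in

/-- The normal p-complement Theorem of Thompson in the form with W(S): for odd p, G has a normal p-complement as soon as the normalizer of the characteristic subgroup W(S) of a Sylow p-subgroup S has one. -/
theorem result {G : Type*} [Group G] [Finite G] {p : ℕ} [Fact p.Prime] (hp : p ≠ 2) (S : Sylow p G) (hN : Cfsg.HasNormalPComplement p ↥(Subgroup.normalizer (((Cfsg.stableNormalClosure p ↥(S : Subgroup G)).map (S : Subgroup G).subtype) : Set G))) : Cfsg.HasNormalPComplement p G := by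
  have hW : Fct p fun (Q : Type _) _ => stableNormalClosure p Q :=
    ⟨fun _ _ _ a _ => KS9.W_ne_bot a, fun _ _ _ _ _ _ φ => KS9.map_W φ⟩
  refine hasNormalPComplement_iff_top.2 (npc_of_min (G := G) (nt_one hW) (fun H _ _ T _ a => ?_) G S (syl_top S)
    (involves_refl G) (by rw [subs_one]; rintro _ rfl; exact hasNormalPComplement_iff.1 hN))
  obtain ⟨T, rfl⟩ := syl_top_iff.1 a.syl
  rw [subs_one]
  exact (Subgroup.normalizer_eq_top_iff.2 (KS9.WOf_normal (actionPStable_of_sl2 hp (a.not_involves_sl2 hp))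
    a.charP T)).symm

end Cfsg.Agent.S0628
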