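import Cfsg.Statements.S0629
import Cfsg.Agent.Lib.KS9.TF
import Cfsg.Agent.Lib.Core.UpperP

set_option autoImplicit false
open Cfsg

namespace Cfsg.Agent.S0629

open Subgroup Cfsg.Lib Cfsg.Lib.Amalg Cfsg.Lib.Core

/-- A group in which the centralizer of a Sylow p-subgroup of O_{p',p}(G) is p-solvable is p-constrained. -/
theorem result {G : Type*} [Group G] [Finite G] {p : ℕ} [Fact p.Prime] (P : Sylow p ↥(Cfsg.pPrimePCore p G)) (hsol : Cfsg.IsPSolvable p ↥(Subgroup.centralizer (((P : Subgroup ↥(Cfsg.pPrimePCore p G)).map (Cfsg.pPrimePCore p G).subtype : Subgroup G) : Set G))) : Cfsg.IsPConstrained p G := by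
  have hp : p.Prime := Fact.out
  have hc := coprime_card_pPrimeCore p G
  have hP := P.isPGroup'.map (Cfsg.pPrimePCore p G).subtype
  have h := isPSolvable_map hp hsol (QuotientGroup.mk' (Cfsg.pPrimeCore p G))
  rw [KS9.map_mk'_cent _ hc hP, map_mk'_sylow_pPrimePCore] at h
  exact isPConstrained_iff.2 (le_pCore_of_isPSolvable_of_le_centralizer hp
    pPrimeCore_quotient_pPrimeCore _ h le_rfl)

end Cfsg.Agent.S0629
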