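import Cfsg.Statements.S0632
import Cfsg.Agent.Lib.KS9.TF
import Cfsg.Agent.Lib.Core.UpperP

set_option autoImplicit false
open Cfsg

namespace Cfsg.Agent.S0632

open Subgroup Cfsg.Lib Cfsg.Lib.Amalg
open Cfsg.Lib.Core hiding isPGroup_subgroupOf isPGroup_subgroupOf_iff isPGroup_map_subtype_iff
  isPGroup_zpowers_of_orderOf

section
variable {G G' : Type*} [Group G] [Group G'] (f : G →* G') (P : Subgroup G)

def nh : 𝐍 P →* 𝐍 (P.map f) :=
  (f.comp (𝐍 P).subtype).codRestrict _ fun x => le_normalizer_map f ⟨x, x.2, rfl⟩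

theorem nh_le : (𝐂 P).subgroupOf (𝐍 P) ≤ ((𝐂 (P.map f)).subgroupOf (𝐍 (P.map f))).comap (nh f P) := by
  rintro x hx _ ⟨y, hy, rfl⟩
  change f y * f x = f x * f y
  rw [← map_mul, ← map_mul, show y * x = x * y from hx y hy]

def qh : 𝐍 P ⧸ (𝐂 P).subgroupOf (𝐍 P) →* 𝐍 (P.map f) ⧸ (𝐂 (P.map f)).subgroupOf (𝐍 (P.map f)) :=
  QuotientGroup.map _ _ (nh f P) (nh_le f P)

theorem qh_inj (h : f.ker ⊓ P = ⊥) : Function.Injective (qh f P) := by
  refine (injective_iff_map_eq_one _).2 fun x hx => ?_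
  obtain ⟨x, rfl⟩ := QuotientGroup.mk_surjective x
  refine (QuotientGroup.eq_one_iff _).2 fun y hy => ?_
  have h1 : f y * f x = f x * f y := (QuotientGroup.eq_one_iff _).1 hx (f y) ⟨y, hy, rfl⟩
  have h2 : (x : G) * y * (x : G)⁻¹ * y⁻¹ ∈ f.ker ⊓ P := by
    refine mem_inf.2 ⟨?_, mul_mem ((mem_normalizer_iff.1 x.2 y).1 hy) (inv_mem hy)⟩
    rw [MonoidHom.mem_ker, map_mul, map_mul, map_mul, ← h1, map_inv, map_inv]
    group
  rw [h, mem_bot, mul_inv_eq_one, mul_inv_eq_iff_eq_mul] at h2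
  exact h2.symm

theorem qh_surj (h : (𝐍 P).map f = 𝐍 (P.map f)) : Function.Surjective (qh f P) := by
  intro x
  obtain ⟨⟨x, hx⟩, rfl⟩ := QuotientGroup.mk_surjective x
  obtain ⟨y, hy, rfl⟩ := h.ge hx
  exact ⟨QuotientGroup.mk ⟨y, hy⟩, rfl⟩

theorem map_qh {A : Subgroup G} (h : A ≤ 𝐍 P) :
    ((A.subgroupOf (𝐍 P)).map (QuotientGroup.mk' ((𝐂 P).subgroupOf (𝐍 P)))).map (qh f P) =
      ((A.map f).subgroupOf (𝐍 (P.map f))).map
        (QuotientGroup.mk' ((𝐂 (P.map f)).subgroupOf (𝐍 (P.map f)))) := by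
  apply le_antisymm
  · rintro _ ⟨_, ⟨x, hx, rfl⟩, rfl⟩
    exact ⟨nh f P x, ⟨x, hx, rfl⟩, rfl⟩
  · rintro _ ⟨⟨_, hx⟩, ⟨x, hxA, rfl⟩, rfl⟩
    exact ⟨_, ⟨⟨x, h hxA⟩, hxA, rfl⟩, rfl⟩

end

/-- For a group with a nontrivial normal p-subgroup, p-stability passes to and from the quotient by the largest normal subgroup of order prime to p. -/
theorem result {G : Type*} [Group G] [Finite G] {p : ℕ} [Fact p.Prime] (hO : Cfsg.pCore p G ≠ ⊥) : Cfsg.IsPStable p G ↔ Cfsg.IsPStable p (G ⧸ Cfsg.pPrimeCore p G) := by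
  have hp : p.Prime := Fact.out
  have hc := coprime_card_pPrimeCore p G
  have h0 : Cfsg.pPrimeCore p (G ⧸ Cfsg.pPrimeCore p G) = ⊥ := pPrimeCore_quotient_pPrimeCore
  set π := QuotientGroup.mk' (Cfsg.pPrimeCore p G) with hπ
  have hs : Function.Surjective π := QuotientGroup.mk'_surjective _
  have hk : ∀ {P : Subgroup G}, IsPGroup p P → π.ker ⊓ P = ⊥ := fun h =>
    KS9.ker_mk'_inf_eq_bot _ hc h
  have hn : ∀ {H : Type _} [Group H] [Finite H] {A P : Subgroup H},
      (∀ a ∈ A, ∀ x ∈ P, a * x * a⁻¹ ∈ P) → A ≤ 𝐍 P := fun h =>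
    le_normalizer_of_cj_le fun a ha => cj_le_iff'.2 (h a ha)
  constructor
  · rintro ⟨h1, -, h⟩
    refine ⟨h1, fun e => hO ?_, fun A P hA hP hAP hPO hPn hq => ?_⟩
    · rw [← hk (isPGroup_pCore p G), right_eq_inf, ← Subgroup.map_eq_bot_iff, eq_bot_iff, ← e]
      exact map_pCore_le_of_surjective hs
    · have hAP' := hn hAP
      obtain ⟨T, hT⟩ := exists_syl (p := p) ((A ⊔ P).comap π)
      have key : ∀ X ≤ A ⊔ P, (T ⊓ X.comap π).map π = X := fun X hX => by
        have h0 := hT.map π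
        rw [map_comap_eq_self_of_surjective hs] at h0
        have h1 := (h0.eq_of_isPGroup (isPGroup_sup_of_le_normalizer hA hP hAP')).symm
        refine le_antisymm ((map_mono inf_le_right).trans (map_comap_le _ _)) fun x hx => ?_
        obtain ⟨t, ht, rfl⟩ := h1.le (hX hx)
        exact ⟨t, ⟨ht, hx⟩, rfl⟩
      have kA := key A le_sup_left
      have kP := key P le_sup_right
      have hA0 := hT.isPGroup.to_le (inf_le_left : T ⊓ A.comap π ≤ T)
      have hP0 := hT.isPGroup.to_le (inf_le_left : T ⊓ P.comap π ≤ T)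
      have hnn : T ⊓ A.comap π ≤ 𝐍 (T ⊓ P.comap π) :=
        le_normalizer_inf (inf_le_left.trans le_normalizer)
          (inf_le_right.trans ((comap_mono hAP').trans (le_normalizer_comap π)))
      have h2 := h _ _ hA0 hP0 (fun a ha x hx => (mem_normalizer_iff.1 (hnn ha) x).1 hx)
        (inf_le_right.trans (comap_mono (by rwa [pPrimePCore_eq_pCore h0] at hPO))) (by
          rw [h0, bot_sup_eq] at hPn
          have : Cfsg.pPrimeCore p G ⊔ T ⊓ P.comap π = P.comap π := by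
            conv_rhs => rw [← kP, comap_map_eq, hπ, QuotientGroup.ker_mk', sup_comm]
          rw [this]; infer_instance) (by
          rw [eq_bot_iff, ← hk hT.isPGroup, le_inf_iff, ← Subgroup.map_eq_bot_iff, map_commutator,
            map_commutator, kA, kP]
          exact ⟨hq, comm_le_of_le (comm_le_of_le inf_le_left inf_le_left) inf_le_left⟩)
      have h3 := (map_mono h2).trans (map_pCore_le_of_surjective
        (qh_surj π _ (KS9.map_mk'_norm _ hc hP0)))
      rw [map_qh _ _ hnn] at h3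
      rwa [kA, kP] at h3
  · rintro ⟨h1, -, h⟩
    refine ⟨h1, hO, fun A P hA hP hAP hPO hPn hq => ?_⟩
    have hAP' := hn hAP
    have h2 := h (A.map π) (P.map π) (hA.map π) (hP.map π)
      (fun a ha x hx => (mem_normalizer_iff.1 ((map_mono hAP').trans (le_normalizer_map π) ha) x).1 hx)
      (by rw [pPrimePCore_eq_pCore h0]; exact map_le_iff_le_comap.2 hPO) (by
        have := hPn.map π hs
        rwa [Subgroup.map_sup, (map_mk'_eq_bot_iff _ _).2 le_rfl, ← h0] at this)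
      (by rw [← map_commutator, ← map_commutator, hq, Subgroup.map_bot])
    rw [← map_qh _ _ hAP', map_le_iff_le_comap] at h2
    exact h2.trans (comap_pCore_le_of_injective (qh_inj _ _ (hk hP)))

end Cfsg.Agent.S0632
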