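import Cfsg.Statements.S0633
import Cfsg.Agent.Lib.HH.ThmB

set_option autoImplicit false
open Cfsg

namespace Cfsg.Agent.S0633

/-- Theorem B of Hall and Higman on the minimal polynomial of a p-element of order p^n in a p-solvable linear group on a nonzero vector space in characteristic p with no nontrivial normal p-subgroup: its degree is p^n, except when some p^n₀ - 1 (n₀ ≤ n) is a power of a prime q for which the Sylow q-subgroups are non-abelian, in which case the degree is at least p^(n-n₀)(p^n₀ - 1). -/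
theorem result {F : Type*} [Field F] {p : ℕ} [Fact p.Prime] [CharP F p] {V : Type*} [AddCommGroup V] [Module F V] [FiniteDimensional F V] [Nontrivial V] (H : Subgroup (V ≃ₗ[F] V)) [Finite H] (hsol : Cfsg.IsPSolvable p H) (hOp : Cfsg.pCore p H = ⊥) (x : V ≃ₗ[F] V) (hx : x ∈ H) (n : ℕ) (hn : orderOf x = p ^ n) (r : ℕ) (hr : minpoly F (x : Module.End F V) = (Polynomial.X - 1) ^ r) : r = p ^ n ∨ ∃ n₀ q m : ℕ, 1 ≤ n₀ ∧ n₀ ≤ n ∧ q.Prime ∧ 1 ≤ m ∧ p ^ n₀ - 1 = q ^ m ∧ (∀ Q : Sylow q H, ¬ IsMulCommutative Q) ∧ p ^ (n - n₀) * (p ^ n₀ - 1) ≤ r := by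
  have hp : p.Prime := Fact.out
  have h1 : ((x : Module.End F V) - 1) ^ r = 0 := by
    have := minpoly.aeval F (x : Module.End F V)
    rw [hr] at this
    simpa using this
  have hxn : x ^ p ^ n = 1 := hn ▸ pow_orderOf_eq_one x
  let ρ : H →* Module.End F V :=
    (LinearEquiv.automorphismGroup.toLinearMapMonoidHom).comp H.subtype
  have hρ : ∀ g : H, ρ g = (g.1 : Module.End F V) := fun g => rfl
  have h2 : r ≤ p ^ n := by
    have h3 : minpoly F (x : Module.End F V) ∣ (Polynomial.X - 1) ^ p ^ n := by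
      apply minpoly.dvd
      simp only [map_pow, map_sub, Polynomial.aeval_X, map_one]
      rw [Cfsg.Lib.HH.sub_one_pow_char (K := F) p, ← hρ ⟨x, hx⟩, ← map_pow, sub_eq_zero]
      have : (⟨x, hx⟩ : H) ^ p ^ n = 1 := Subtype.ext hxn
      rw [this, map_one]
    rw [hr] at h3
    have h0 : (Polynomial.X - 1 : Polynomial F) ≠ 0 := by
      simpa using Polynomial.X_sub_C_ne_zero (1 : F)
    have hu : ¬ IsUnit (Polynomial.X - 1 : Polynomial F) := by
      simpa using Polynomial.not_isUnit_X_sub_C (1 : F)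
    exact (pow_dvd_pow_iff h0 hu).1 h3
  rcases n with _ | n
  · left
    rcases r with _ | r
    · rw [pow_zero] at h1
      exact absurd h1 one_ne_zero
    · rw [pow_zero] at h2 ⊢; omega
  rcases Cfsg.Lib.HH.thmB_faithful ρ hsol hOp (fun g hg => Subtype.ext (LinearEquiv.toLinearMap_injective hg))
    (x := ⟨x, hx⟩) (n := n) (Subtype.ext hxn) (fun h => by
      have h3 : x ^ p ^ n = 1 := congrArg Subtype.val h
      have h4 := orderOf_dvd_of_pow_eq_one h3
      rw [hn, Nat.pow_dvd_pow_iff_le_right hp.one_lt] at h4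
      omega) (r := r) h1 with h3 | h3
  · left; omega
  · right; exact h3

end Cfsg.Agent.S0633
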