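import Cfsg.Statements.S0635
import Cfsg.Agent.Lib.Core.UpperP

set_option autoImplicit false
open Cfsg

namespace Cfsg.Agent.S0635

open Subgroup Cfsg.Lib Cfsg.Lib.Core

universe v

theorem aux {p : ℕ} [hp : Fact p.Prime] (c : ℕ) : ∀ (G : Type v) [Group G] [Finite G],
    Cfsg.IsPSolvable p G → ∀ S : Sylow p G, Group.nilpotencyClass (S : Subgroup G) ≤ c →
      Cfsg.PLengthLE p c G := by
  induction c with
  | zero =>
    intro G _ _ _ S h
    have := S.isPGroup'.isNilpotent
    have h1 : Subsingleton (S : Subgroup G) := Group.nilpotencyClass_zero_iff_subsingleton.1 (Nat.le_zero.1 h)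
    rw [pLengthLE_zero_iff, Nat.coprime_comm, hp.out.coprime_iff_not_dvd]
    intro hd
    have h2 := S.dvd_card_of_dvd_card hd
    rw [Nat.card_of_subsingleton (1 : (S : Subgroup G))] at h2
    exact hp.out.one_lt.ne' (Nat.dvd_one.1 h2)
  | succ c ih =>
    intro G _ _ hs S h
    have := pPrimePCore_normal p G
    have := S.isPGroup'.isNilpotent
    refine pLengthLE_succ_of_quotient (Cfsg.pPrimePCore p G) le_rfl (ih _
      (isPSolvable_quotient hp.out hs _) (S.mapSurjective (QuotientGroup.mk'_surjective _)) ?_)
    let f := (QuotientGroup.mk' (Cfsg.pPrimePCore p G)).subgroupMap (S : Subgroup G)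
    have hk : center (S : Subgroup G) ≤ f.ker := fun x hx => Subtype.ext
      ((QuotientGroup.eq_one_iff _).2 (IsPConstrained.centralizer_sylow_inf_le (isPConstrained_of_isPSolvable hs) S
        fun y hy => congrArg Subtype.val (mem_center_iff.1 hx ⟨y, hy.1⟩)))
    have h1 := Group.nilpotencyClass_le_of_surjective (QuotientGroup.lift _ f hk)
      (QuotientGroup.lift_surjective_of_surjective _ f (MonoidHom.subgroupMap_surjective _ _) hk)
    rw [Group.nilpotencyClass_quotient_center] at h1
    exact h1.trans (by omega)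

/-- The p-length of a p-soluble group is at most the nilpotency class of its Sylow p-subgroups. -/
theorem result {G : Type*} [Group G] [Finite G] {p : ℕ} [Fact p.Prime] (hsol : Cfsg.IsPSolvable p G) (S : Sylow p G) : Cfsg.PLengthLE p (Group.nilpotencyClass ↥(S : Subgroup G)) G := by
  exact aux _ G hsol S le_rfl

end Cfsg.Agent.S0635
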