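import Cfsg.Statements.S0640
import Cfsg.Agent.Lib.PGrp.Critical

set_option autoImplicit false
open Cfsg

namespace Cfsg.Agent.S0640

open Cfsg.Lib.PGrp

/-- For odd p, a prime q ≠ p dividing the order of the automorphism group of a p-group of rank at most 2 divides p² - 1 and is less than p. -/
theorem result {R : Type*} [Group R] [Finite R] {p : ℕ} [Fact p.Prime] (hp : p ≠ 2) (hR : IsPGroup p R) (hrk : Cfsg.PRankLE p 2 R) (q : ℕ) (hq : q.Prime) (hqp : q ≠ p) (hdvd : q ∣ Nat.card (MulAut R)) : q ∣ p ^ 2 - 1 ∧ q < p := by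
  have := Fact.mk hq
  obtain ⟨φ, hφ⟩ := exists_prime_orderOf_dvd_card' q hdvd
  have := Lib.Coprime.finite_semidirect (MonoidHom.id (MulAut R))
  have h := Lib.Coprime.isAmbient_semidirect (MonoidHom.id (MulAut R))
  have h1 : q ∣ p ^ 2 - 1 := by
    refine prime_dvd_sq_sub_one_of_rank_two hp ((hR.to_subgroup ⊤).map _) ?_ hq hqp
      ((IsPGroup.of_card (n := 1) ?_).map _) (h.le_normalizer_top (Subgroup.zpowers φ)) ?_
    · exact pRankLE_of_injective
        (f := (Subgroup.equivMapOfInjective _ _ h.inj_i).symm.toMonoidHom)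
        (MulEquiv.injective _) (pRankLE_subgroup hrk ⊤)
    · rw [Nat.card_zpowers, hφ, pow_one]
    · rw [h.le_centralizer_iff]
      intro h2
      have : φ = 1 := MulEquiv.ext fun x => h2 φ (Subgroup.mem_zpowers φ) x trivial
      rw [this, orderOf_one] at hφ
      exact hq.one_lt.ne hφ
  exact ⟨h1, (lt_of_prime_dvd_sq_sub_one Fact.out hp hq h1).1⟩

end Cfsg.Agent.S0640
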