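import Cfsg.Statements.S0642
import Cfsg.Agent.Lib.PGrp.MaxClass

set_option autoImplicit false
open Cfsg

namespace Cfsg.Agent.S0642

open Cfsg.Lib.PGrp Subgroup
open scoped commutatorElement

/-- Among finite 2-groups the regular ones are exactly the abelian ones. -/
theorem result {G : Type*} [Group G] [Finite G] (hG : IsPGroup 2 G) : Cfsg.IsRegularPGroup 2 G ↔ ∀ a b : G, a * b = b * a := by
  refine ⟨fun h a b => ?_, fun h => (weakReg_of_comm h).isRegularPGroup hG⟩
  have h1 := weakReg_of_isRegularPGroup h a b
  set H := Subgroup.closure ({a, b} : Set G)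
  have hn : H ≤ normalizer (powerClosure 2 1 ⁅H, H⁆ : Set G) :=
    (Cfsg.Lib.Core.le_normalizer_commutator le_normalizer le_normalizer).trans
      (normalizer_le_normalizer_powerClosure _ _ _)
  have ha := left_mem_closure_pair a b
  have hb := right_mem_closure_pair a b
  have h2 : ⁅H, H⁆ ≤ powerClosure 2 1 ⁅H, H⁆ := commutator_closure_pair_le (hn ha) (hn hb) (by
    convert (mem_normalizer_iff.1 (hn (mul_mem (mul_mem hb ha) hb)) _).1 (inv_mem h1) using 1
    simp only [sq, commutatorElement_def]; group)
  have h3 : ⁅H, H⁆ = ⊥ := by_contra fun e => (powerClosure_lt (hG.to_subgroup _) e).not_ge h2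
  have h4 := commutator_mem_commutator ha hb
  rwa [h3, mem_bot, commutatorElement_eq_one_iff_mul_comm] at h4

end Cfsg.Agent.S0642
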