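import Cfsg.Statements.S0645
import Cfsg.Agent.Lib.PGrp.Rank2

set_option autoImplicit false
open Cfsg

namespace Cfsg.Agent.S0645

open Cfsg.Lib.PGrp

/-- Classification of p-groups with a cyclic maximal subgroup, odd p: a non-abelian one of order p^n has generators a of order p^(n-1) and b of order p, b outside the cyclic subgroup generated by a, with b a b⁻¹ = a^(1 + p^(n-2)). -/
theorem result {G : Type*} [Group G] [Finite G] {p : ℕ} [Fact p.Prime] (hp : p ≠ 2) (n : ℕ) (hn : 3 ≤ n) (hG : Nat.card G = p ^ n) (C : Subgroup G) (hC : IsCyclic C) (hCi : C.index = p) (hna : ∃ x y : G, x * y ≠ y * x) : ∃ a b : G, orderOf a = p ^ (n - 1) ∧ orderOf b = p ∧ b ∉ Subgroup.zpowers a ∧ b * a * b⁻¹ = a ^ (1 + p ^ (n - 2)) := by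
  have hpp : p.Prime := Fact.out
  have hP : IsPGroup p G := IsPGroup.of_card hG
  obtain ⟨a, rfl⟩ := exists_zpowers_eq_of_isCyclic hC
  obtain ⟨m, rfl⟩ : ∃ m, n = m + 2 := ⟨n - 2, by omega⟩
  have ha : orderOf a = p ^ (m + 1) := by
    have := (Subgroup.zpowers a).card_mul_index
    rw [hCi, hG, Nat.card_zpowers, pow_succ] at this
    exact Nat.eq_of_mul_eq_mul_right hpp.pos this
  have hz : orderOf (a ^ p ^ m) = p := by
    rw [orderOf_pow' _ (pow_ne_zero _ hpp.ne_zero), ha, Nat.gcd_eq_right (pow_dvd_pow p m.le_succ),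
      pow_succ, Nat.mul_div_cancel_left _ (pow_pos hpp.pos m)]
  obtain ⟨b, h1, h2, h3⟩ := exists_generators_of_cyclic_index hp hP hCi hna
    (Subgroup.npow_mem_zpowers a (p ^ m)) hz
  exact ⟨a, b, ha, h1, h2, by rw [h3, add_comm, pow_succ]; rfl⟩

end Cfsg.Agent.S0645
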