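import Cfsg.Statements.S0647
import Cfsg.Agent.Lib.Amalg.Ops

set_option autoImplicit false
open Cfsg

namespace Cfsg.Agent.S0647

open Subgroup Cfsg.Lib.Amalg

/-- For a nonempty family of maximal abelian subgroups of a finite group, the intersection of the family is the centre of the subgroup it generates, which is also the full centralizer of that subgroup. -/
theorem result {S : Type*} [Group S] [Finite S] (𝒜 : Set (Subgroup S)) (hne : 𝒜.Nonempty) (hab : ∀ A ∈ 𝒜, IsMulCommutative A) (hmax : ∀ A ∈ 𝒜, ∀ B : Subgroup S, IsMulCommutative B → A ≤ B → B = A) : sInf 𝒜 = sSup 𝒜 ⊓ Subgroup.centralizer ((sSup 𝒜 : Subgroup S) : Set S) ∧ sInf 𝒜 = Subgroup.centralizer ((sSup 𝒜 : Subgroup S) : Set S) := by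
  have h : sInf 𝒜 = Subgroup.centralizer ((sSup 𝒜 : Subgroup S) : Set S) := by
    refine le_antisymm (le_cent_symm (sSup_le fun A hA => (isMulCommutative_iff_le_cent.1
      (hab A hA)).trans (Cfsg.Lib.Core.centralizer_anti (sInf_le hA)))) (le_sInf fun A hA x hx => ?_)
    have hx' : zpowers x ≤ 𝐂 A := (zpowers_le.2 hx).trans (Cfsg.Lib.Core.centralizer_anti (le_sSup hA))
    rw [← hmax A hA (A ⊔ zpowers x) ?_ le_sup_left]
    · exact mem_sup_right (mem_zpowers x)
    · rw [isMulCommutative_iff_le_cent, Cfsg.Lib.Core.centralizer_sup]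
      exact sup_le (le_inf (isMulCommutative_iff_le_cent.1 (hab A hA)) (le_cent_symm hx'))
        (le_inf hx' (isMulCommutative_iff_le_cent.1 inferInstance))
  refine ⟨le_antisymm (le_inf ?_ h.le) (inf_le_right.trans h.ge), h⟩
  obtain ⟨A, hA⟩ := hne
  exact (sInf_le hA).trans (le_sSup hA)

end Cfsg.Agent.S0647
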