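import Cfsg.Statements.S0648
import Cfsg.Agent.Lib.Amalg.Ops

set_option autoImplicit false
open Cfsg

namespace Cfsg.Agent.S0648

open Subgroup Cfsg.Lib Cfsg.Lib.Amalg
open scoped commutatorElement

theorem key {G : Type*} [Group G] {b u x y : G} (h1 : Commute ⁅x, b⁆ u)
    (h2 : Commute ⁅x, y⁆ b) (h3 : Commute u y) (h : ⁅u * x, b * y⁆ = ⁅x, b⁆)
    (h4 : Commute ⁅x, y⁆ u) : ⁅u, b⁆ = ⁅y, x⁆ := by
  have e1 : ⁅u * x, b * y⁆ = u * (⁅x, b⁆ * (b * ⁅x, y⁆ * b⁻¹)) * u⁻¹ *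
      (⁅u, b⁆ * (b * ⁅u, y⁆ * b⁻¹)) := by simp only [commutatorElement_def]; group
  rw [h3.commutator_eq, ← h2.eq, mul_inv_cancel_right, ← (h1.mul_left h4).eq, mul_inv_cancel_right,
    mul_one, mul_inv_cancel, mul_one, h, mul_assoc, left_eq_mul] at e1
  rw [← commutatorElement_inv x y]
  exact eq_inv_of_mul_eq_one_right e1

/-- If A acts on B centralizing [B, B], then [B, A] has derived subgroup central in B, and for abelian A and b ∈ B with [[b, A], A, A] = 1 the derived subgroup of the subgroup [b, A] generated by the commutators of b with A has exponent dividing 2. -/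
theorem result {G : Type*} [Group G] [Finite G] (A B : Subgroup G) (hAB : A ≤ Subgroup.normalizer (B : Set G)) (hc : ⁅⁅B, B⁆, A⁆ = ⊥) : ⁅⁅B, A⁆, ⁅B, A⁆⁆ ≤ B ⊓ Subgroup.centralizer (B : Set G) ∧ (IsMulCommutative A → ∀ b ∈ B, ⁅⁅(Subgroup.closure {g : G | ∃ a ∈ A, g = b⁻¹ * a * b * a⁻¹}), A⁆, A⁆ = ⊥ → ∀ w ∈ ⁅(Subgroup.closure {g : G | ∃ a ∈ A, g = b⁻¹ * a * b * a⁻¹}), (Subgroup.closure {g : G | ∃ a ∈ A, g = b⁻¹ * a * b * a⁻¹})⁆, w ^ 2 = 1) := by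
  have hXB : ⁅B, A⁆ ≤ B := comm_le_left hAB
  have hBB : ⁅B, B⁆ ≤ B := comm_le_left le_normalizer
  have h1 : ⁅⁅B, A⁆, ⁅B, B⁆⁆ = ⊥ := by
    refine commutator_commutator_eq_bot_of_rotate ?_ ?_
    · rw [commutator_comm A, hc, commutator_bot_left]
    · exact le_bot_iff.1 ((commutator_mono (commutator_mono hBB le_rfl) le_rfl).trans hc.le)
  have h2 : ⁅⁅⁅B, A⁆, ⁅B, A⁆⁆, B⁆ = ⊥ := by
    rw [commutator_comm] at h1
    exact commutator_commutator_eq_bot_of_rotate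
      (le_bot_iff.1 ((commutator_mono (commutator_mono hXB le_rfl) le_rfl).trans h1.le))
      (le_bot_iff.1 ((commutator_mono (commutator_mono le_rfl hXB) le_rfl).trans h1.le))
  have h3 : ⁅⁅B, A⁆, ⁅B, A⁆⁆ ≤ B ⊓ 𝐂 B := le_inf (comm_le_of_le hXB hXB) (comm_eq_bot_iff.1 h2)
  refine ⟨h3, fun hA b hb hq w hw => ?_⟩
  set Y := closure {g : G | ∃ a ∈ A, g = b⁻¹ * a * b * a⁻¹} with hY
  have hg : ∀ a ∈ A, b⁻¹ * a * b * a⁻¹ ∈ ⁅B, A⁆ := fun a ha => by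
    simpa only [commutatorElement_def, inv_inv] using commutator_mem_commutator (inv_mem hb) ha
  have hYX : Y ≤ ⁅B, A⁆ := (closure_le _).2 (by rintro _ ⟨a, ha, rfl⟩; exact hg a ha)
  have hBA : ∀ x ∈ B, ∀ a ∈ A, a * ⁅x, b⁆ * a⁻¹ = ⁅x, b⁆ := fun x hx a ha => by
    rw [comm_eq_bot_iff.1 hc (commutator_mem_commutator hx hb) a ha, mul_inv_cancel_right]
  have hZ : ∀ x ∈ ⁅B, A⁆, ∀ y ∈ ⁅B, A⁆, ∀ z ∈ B, Commute ⁅x, y⁆ z := fun x hx y hy z hz =>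
    ((h3 (commutator_mem_commutator hx hy)).2 z hz).symm
  have hU : ∀ y ∈ Y, ∀ a ∈ A, ⁅a, y⁆ ∈ ⁅B, A⁆ ∧ ∀ c ∈ A, Commute ⁅a, y⁆ (b⁻¹ * c * b * c⁻¹) := by
    intro y hy a ha
    have h4 : ⁅a, y⁆ ∈ ⁅Y, A⁆ := commutator_comm A Y ▸ commutator_mem_commutator ha hy
    have h5 := commutator_mono (hYX.trans hXB) le_rfl h4
    refine ⟨h5, fun c hc' => ?_⟩
    have h6 := hBA _ (hXB h5) c hc'
    have h7 : c * ⁅a, y⁆ = ⁅a, y⁆ * c := comm_eq_bot_iff.1 hq h4 c hc'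
    generalize ⁅a, y⁆ = u at h6 h7
    have h8 : c * ⁅u, b⁆ * c⁻¹ = ⁅c * u * c⁻¹, b⁆ * (b * ⁅c * u * c⁻¹, b⁻¹ * c * b * c⁻¹⁆ * b⁻¹) := by
      simp only [commutatorElement_def]; group
    rw [h6, h7, mul_inv_cancel_right, left_eq_mul, mul_inv_eq_one, mul_eq_left] at h8
    exact commutatorElement_eq_one_iff_commute.1 h8
  have hK : ∀ a ∈ A, ∀ c ∈ A, ⁅⁅a, b⁻¹ * c * b * c⁻¹⁆, b⁆ =
      ⁅b⁻¹ * a * b * a⁻¹, b⁻¹ * c * b * c⁻¹⁆ := fun a ha c hc' => by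
    have h4 := hU _ (subset_closure ⟨c, hc', rfl⟩) a ha
    refine key ((comm_eq_bot_iff'.1 h1 (commutator_mem_commutator (hXB (hg c hc')) hb) _ h4.1).symm)
      (hZ _ (hg c hc') _ (hg a ha) b hb) (h4.2 a ha) ?_ (hZ _ (hg c hc') _ (hg a ha) _ (hXB h4.1))
    rw [← hBA _ (hXB (hg c hc')) a ha]
    simp only [commutatorElement_def]; group
  have hsq : ∀ a ∈ A, ∀ c ∈ A, ⁅b⁻¹ * a * b * a⁻¹, b⁻¹ * c * b * c⁻¹⁆ ^ 2 = 1 := by
    intro a ha c hc'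
    have h4 := hU _ (subset_closure ⟨c, hc', rfl⟩) a ha
    have h5 := hZ _ (inv_mem (hg c hc')) _ (hg a ha)
    have h6 : ⁅c, b⁻¹ * a * b * a⁻¹⁆ = ⁅(b⁻¹ * c * b * c⁻¹)⁻¹, b⁻¹ * a * b * a⁻¹⁆ *
        ⁅a, b⁻¹ * c * b * c⁻¹⁆ := by
      have e := comm_of_mem_of_isMulCommutative hA ha hc'
      have e1 := (h4.2 a ha).eq
      have e2 := (h4.2 c hc').eq
      have e3 : (b⁻¹ * a * b * a⁻¹) * (⁅a, b⁻¹ * c * b * c⁻¹⁆ * (b⁻¹ * c * b * c⁻¹)) =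
          (b⁻¹ * c * b * c⁻¹) * ⁅c, b⁻¹ * a * b * a⁻¹⁆ * (b⁻¹ * a * b * a⁻¹) := by
        calc _ = b⁻¹ * (a * c) * b * (a * c)⁻¹ := by simp only [commutatorElement_def]; group
          _ = _ := by rw [e]; simp only [commutatorElement_def]; group
      generalize ⁅a, b⁻¹ * c * b * c⁻¹⁆ = u at e1 e2 e3
      generalize ⁅c, b⁻¹ * a * b * a⁻¹⁆ = v at e3
      generalize b⁻¹ * a * b * a⁻¹ = x at e1 e3
      generalize b⁻¹ * c * b * c⁻¹ = y at e2 e3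
      calc v = y⁻¹ * (y * v * x) * x⁻¹ := by group
        _ = y⁻¹ * x * y * x⁻¹ * (x * u) * x⁻¹ := by rw [← e3, e2]; group
        _ = _ := by rw [← e1, commutatorElement_def]; group
    have h7 := hK c hc' a ha
    have h8 : ∀ z u : G, ⁅z * u, b⁆ = z * ⁅u, b⁆ * z⁻¹ * ⁅z, b⁆ := fun z u => by
      simp only [commutatorElement_def]; group
    rw [h6, h8, (h5 b hb).commutator_eq, mul_one,
      (h5 _ (hBB (commutator_mem_commutator (hXB h4.1) hb))).eq, mul_inv_cancel_right, hK a ha c hc',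
      ← commutatorElement_inv] at h7
    rw [sq, ← commutatorElement_inv]
    nth_rewrite 1 [h7]
    exact mul_inv_cancel _
  have hT : B ≤ 𝐍 (omegaOne 2 (B ⊓ 𝐂 B)) :=
    (le_cent_symm ((om_le _).trans inf_le_right)).trans (cent_le_norm _)
  refine pow_eq_one_of_mem_om (isMulCommutative_inf_cent B) (comm_closure_le ?_ ?_ hw)
  · rintro _ ⟨a, ha, rfl⟩ k hk
    induction hk using closure_induction with
    | mem x hx =>
      obtain ⟨c, hc', rfl⟩ := hx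
      exact mem_om (h3 (commutator_mem_commutator (hg a ha) (hg c hc'))) (hsq a ha c hc')
    | one => rw [commutatorElement_one_right]; exact one_mem _
    | mul x y hx hy h h' =>
      have : ∀ z : G, ⁅z, x * y⁆ = ⁅z, x⁆ * (x * ⁅z, y⁆ * x⁻¹) := fun z => by
        simp only [commutatorElement_def]; group
      rw [this]
      exact mul_mem h ((mem_normalizer_iff.1 (hT (hXB (hYX hx))) _).1 h')
    | inv x hx h =>
      have : ∀ z : G, ⁅z, x⁻¹⁆ = x⁻¹ * ⁅z, x⁆⁻¹ * x⁻¹⁻¹ := fun z => by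
        simp only [commutatorElement_def]; group
      rw [this]
      exact (mem_normalizer_iff.1 (hT (hXB (hYX (inv_mem hx)))) _).1 (inv_mem h)
  · rintro _ ⟨a, ha, rfl⟩
    exact hT (hXB (hg a ha))

end Cfsg.Agent.S0648
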