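import Cfsg.Statements.S0653
import Cfsg.Agent.Lib.Glaub.ZJ

set_option autoImplicit false
open Cfsg

namespace Cfsg.Agent.S0653

open Cfsg.Lib.Amalg Subgroup Cfsg.Lib Cfsg.Lib.Glaub

/-- Glauberman's ZJ-Theorem: for odd p, if the largest normal p-subgroup of G contains its centralizer and G acts p-stably on every normal p-subgroup, then the centre of the abelian-version Thompson subgroup of a Sylow p-subgroup is a characteristic subgroup of G. -/
theorem result {G : Type*} [Group G] [Finite G] {p : ℕ} [Fact p.Prime] (hp : p ≠ 2) (hc : Subgroup.centralizer (Cfsg.pCore p G : Set G) ≤ Cfsg.pCore p G) (hst : ∀ (P : Subgroup G) [P.Normal], IsPGroup p P → Cfsg.IsPStableOn p P) (S : Sylow p G) : (Cfsg.centerThompsonAOf ((S : Subgroup G))).Characteristic := by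
  rw [centerThompsonAOf_eq]
  exact characteristic_of_normal (syl_top S) (fun e _ => map_zj e.injective) (normal_of_top_le_normalizer
    (zj_normal_of_stab hp (.inl rfl) (syl_top S) scl_self (charP_top.2 hc) fun V _ a b =>
      have := normal_of_top_le_normalizer a; isPStableOn_iff.1 (hst V b)))

end Cfsg.Agent.S0653
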