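import Cfsg.Statements.S0655
import Cfsg.Agent.Lib.Amalg.Ops
import Cfsg.Agent.Lib.Transfer.ThompsonJ

set_option autoImplicit false
open Cfsg

namespace Cfsg.Agent.S0655

open Subgroup Cfsg.Lib.Amalg Cfsg.Lib

/-- In a p-group the intersection of all elementary abelian subgroups of largest order is the subgroup generated by the elements of order dividing p in the centre (equivalently the centralizer) of the elementary-version Thompson subgroup. -/
theorem result {S : Type*} [Group S] [Finite S] {p : ℕ} [Fact p.Prime] (hS : IsPGroup p S) : sInf (Cfsg.maxElementaryAbelianSubgroups p S) = Cfsg.omegaCenterThompson p S ∧ Cfsg.omegaCenterThompson p S = Cfsg.omegaOne p (Subgroup.centralizer (Cfsg.thompsonSubgroup p S : Set S)) := by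
  have h2 : Cfsg.omegaCenterThompson p S = Cfsg.omegaOne p (𝐂 (Cfsg.thompsonSubgroup p S)) := by
    refine le_antisymm (om_mono inf_le_right) (om_le_iff.2 fun x hx hp => mem_om ⟨?_, hx⟩ hp)
    rw [← Transfer.thompsonOf_top] at hx ⊢
    exact Transfer.mem_thompsonOf_of_centralizes (mem_top x) hp hx
  refine ⟨?_, h2⟩
  rw [h2, ← Transfer.maxEl_top, ← Transfer.thompsonOf_top]
  refine le_antisymm (fun x hx => ?_) (le_sInf fun A hA => om_le_iff.2 fun x hx hp =>
    Transfer.mem_of_mem_maxEl hA (mem_top x) hp (Core.centralizer_anti (Transfer.le_thompsonOf hA) hx))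
  obtain ⟨B, hB⟩ := Transfer.exists_mem_maxEl (p := p) (⊤ : Subgroup S)
  refine mem_om (zpowers_le.1 (le_cent_symm (Transfer.thompsonOf_le_iff.2 fun A hA => ?_)))
    (hB.2.1.2 x (sInf_le hB hx))
  exact (elemAb_le_cent hA.2.1).trans (Core.centralizer_anti (zpowers_le.2 (sInf_le hA hx)))

end Cfsg.Agent.S0655
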