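import Cfsg.Statements.S0658
import Cfsg.Agent.S0667

set_option autoImplicit false
open Cfsg

namespace Cfsg.Agent.S0658

open Subgroup Cfsg.Lib Cfsg.Lib.Amalg Cfsg.Lib.Glaub

/-- In a group of characteristic p type all of whose p-locals are p-stable (p odd), the normalizer of Z(J(P)) contains the normalizer of every nontrivial subgroup of the Sylow p-subgroup P. -/
theorem result {G : Type*} [Group G] [Finite G] {p : ℕ} [Fact p.Prime] (hp : p ≠ 2) (hloc : ∀ Q : Subgroup G, IsPGroup p Q → Q ≠ ⊥ → Cfsg.pPrimeCore p ↥(Subgroup.normalizer (Q : Set G)) = ⊥ ∧ Cfsg.IsPConstrained p ↥(Subgroup.normalizer (Q : Set G)) ∧ Cfsg.IsPStable p ↥(Subgroup.normalizer (Q : Set G))) (P : Sylow p G) (Q : Subgroup G) (hQP : Q ≤ (P : Subgroup G)) (hQ1 : Q ≠ ⊥) : Subgroup.normalizer (Q : Set G) ≤ Subgroup.normalizer (Cfsg.centerThompsonAOf ((P : Subgroup G)) : Set G) := by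
  have key : ∀ Q R : Subgroup G, IsPGroup p Q → Q ≠ ⊥ → Syl p R (𝐍 Q) → 𝐍 Q ≤ 𝐍 (centerThompsonOf 0 R) := fun Q R a b c => by
    obtain ⟨S, rfl⟩ := c.exists_sylow
    obtain ⟨h1, h2, h3⟩ := hloc Q a b
    have := (S0667.result hp h2 h3 S).2 h1
    rw [← map_zj (subtype_injective _), ← centerThompsonAOf_eq]
    exact (range_subtype _).ge.trans ((MonoidHom.range_eq_map _).le.trans
      ((map_mono (normalizer_eq_top _).ge).trans (le_normalizer_map _)))
  have hP := (syl_top P).of_le (le_normalizer.trans (norm_le_norm_zj (n := 0))) le_top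
  rw [centerThompsonAOf_eq]
  suffices h : ∀ R : Subgroup G, IsPGroup p R → R ≠ ⊥ → R ≤ 𝐍 (centerThompsonOf 0 (P : Subgroup G)) → ∀ Q : Subgroup G,
      IsPGroup p Q → Q ≠ ⊥ → R ≤ 𝐍 Q → 𝐍 Q ≤ 𝐍 (centerThompsonOf 0 (P : Subgroup G)) from
    h Q (P.isPGroup'.to_le hQP) hQ1 (hQP.trans hP.le) Q (P.isPGroup'.to_le hQP) hQ1 le_normalizer
  intro R
  induction R using WellFoundedGT.induction with | ind R ih => ?_
  intro a1 a2 a3 Q a4 a5 a6
  have h : ∀ Q : Subgroup G, IsPGroup p Q → Q ≠ ⊥ → R ≤ 𝐍 Q → 𝐍 Q ≤ 𝐍 (centerThompsonOf 0 (P : Subgroup G)) ∨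
      Syl p R (𝐍 (centerThompsonOf 0 (P : Subgroup G)) ⊓ 𝐍 Q) := fun Q b1 b2 b3 => by
    obtain ⟨T, c1, c2⟩ := exists_syl_ge a1 (le_inf a3 b3)
    exact c2.lt_or_eq.imp (fun e => ih T e c1.isPGroup (ne_bot_of_gt e) (c1.le.trans inf_le_left) Q b1 b2
      (c1.le.trans inf_le_right)) fun e : R = T => e ▸ c1
  have h1 : 𝐍 (centerThompsonOf 0 R) ≤ 𝐍 (centerThompsonOf 0 (P : Subgroup G)) := by
    refine (h _ (a1.to_le zj_le) (zj_ne_bot (.inl rfl) a1 a2) (le_normalizer.trans norm_le_norm_zj)).elim id fun e => ?_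
    obtain ⟨m, c1, rfl⟩ := hP.exists_conj ((e.of_normalizer_le inf_le_left (inf_le_inf_left _ norm_le_norm_zj)))
    rw [← cj_zj, cj_of_mem_normalizer c1]
  exact (h Q a4 a5 a6).elim id fun e => (key Q R a4 a5 (e.of_normalizer_le inf_le_right
    (le_inf (inf_le_right.trans (norm_le_norm_zj.trans h1)) inf_le_left))).trans h1

end Cfsg.Agent.S0658
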