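import Cfsg.Statements.S0660
import Cfsg.Agent.Lib.BG1.Sec1
import Cfsg.Agent.Lib.Amalg.Ops

set_option autoImplicit false
open Cfsg

namespace Cfsg.Agent.S0660

open Subgroup Cfsg.Lib Cfsg.Lib.Amalg

/-- Under a coprime action on an abelian group, an invariant subgroup that is complemented admits an invariant complement. -/
theorem result {G : Type*} [Group G] [Finite G] (V A U : Subgroup G) (hVab : IsMulCommutative V) (hAV : A ≤ Subgroup.normalizer (V : Set G)) (hcop : (Nat.card A).Coprime (Nat.card V)) (hUV : U ≤ V) (hAU : A ≤ Subgroup.normalizer (U : Set G)) (W : Subgroup G) (hWV : W ≤ V) (hUW : U ⊓ W = ⊥) (hUWV : U ⊔ W = V) : ∃ W' : Subgroup G, W' ≤ V ∧ A ≤ Subgroup.normalizer (W' : Set G) ∧ U ⊓ W' = ⊥ ∧ U ⊔ W' = V := by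
  have hVU : ∀ Y ≤ V, V ≤ 𝐍 Y := fun Y hY => ((isMulCommutative_iff_le_cent.1 hVab).trans
    (Core.centralizer_anti hY)).trans (cent_le_norm Y)
  obtain ⟨M, h3, h4⟩ := BG1.gaschutz_split (isMulCommutative_of_le' hVab hUV) hUV
    (le_sup_left : V ≤ V ⊔ A) (sup_le (hVU U hUV) hAU)
    ((hcop.symm.coprime_dvd_left (card_dvd_of_le hUV)).coprime_dvd_right
      (BG1.relIndex_dvd_card_of_sup hAV)) hUWV hUW
  have hM : M ≤ V ⊔ A := h3 ▸ le_sup_right
  refine ⟨M ⊓ V, inf_le_right, ?_, by rw [← inf_assoc, h4, bot_inf_eq], ?_⟩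
  · refine (le_sup_right : A ≤ V ⊔ A).trans (h3 ▸ sup_le (hUV.trans (hVU _ inf_le_right)) ?_)
    exact Core.le_normalizer_inf le_normalizer (hM.trans (sup_le le_normalizer hAV))
  · rw [← sup_inf_of_le_normalizer' hUV (hM.trans (sup_le (hVU U hUV) hAU)), h3,
      inf_eq_right.2 le_sup_left]

end Cfsg.Agent.S0660
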