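import Cfsg.Statements.S0663
import Cfsg.Agent.Lib.PGrp.MaxClass

set_option autoImplicit false
open Cfsg

namespace Cfsg.Agent.S0663

open Cfsg.Lib.PGrp Subgroup
open scoped commutatorElement

/-- A p-group acts uniserially on a p-group N of order p^n exactly when the iterated commutator chain from N has length n; in that case the chain terms are all the invariant subgroups of N and they are normal in N. -/
theorem result {L : Type*} [Group L] [Finite L] {p : ℕ} [Fact p.Prime] (N G : Subgroup L) (hN : IsPGroup p N) (hG : IsPGroup p G) (hGN : G ≤ Subgroup.normalizer (N : Set L)) (n : ℕ) (hn : Nat.card N = p ^ n) : ((∀ H : Subgroup L, H ≤ N → G ≤ Subgroup.normalizer (H : Set L) → H ≠ ⊥ → (⁅H, G⁆).relIndex H = p) ↔ Cfsg.iterCommutator N G (n - 1) ≠ ⊥ ∨ n = 0) ∧ ((∀ H : Subgroup L, H ≤ N → G ≤ Subgroup.normalizer (H : Set L) → H ≠ ⊥ → (⁅H, G⁆).relIndex H = p) → ∀ H : Subgroup L, H ≤ N → G ≤ Subgroup.normalizer (H : Set L) → (∃ i ≤ n, H = Cfsg.iterCommutator N G i) ∧ N ≤ Subgroup.normalizer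 (H : Set L)) := by
  have hp := (Fact.out : p.Prime)
  have h0 := fun i => iterCommutator_le_and_norm hGN i
  have hd : ∀ H : Subgroup L, H ≤ N → ∃ i j, n = i + j ∧ Nat.card H = p ^ j := fun H h => by
    obtain ⟨j, hj, e⟩ := (Nat.dvd_prime_pow hp).1 (hn ▸ card_dvd_of_le h)
    exact ⟨n - j, j, by omega, e⟩
  have h1 : (∀ H : Subgroup L, H ≤ N → G ≤ Subgroup.normalizer (H : Set L) → H ≠ ⊥ → (⁅H, G⁆).relIndex H = p) →
      Cfsg.iterCommutator N G (n - 1) ≠ ⊥ ∨ n = 0 := fun h => by
    have key : ∀ i j, n = i + j → Nat.card (Cfsg.iterCommutator N G i) = p ^ j := fun i => by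
      induction i with
      | zero => rintro j rfl; exact hn.trans (by rw [zero_add])
      | succ i ih =>
        intro j e
        have h2 := ih (j + 1) (by omega)
        have h3 := card_mul_relIndex_of_le (le_normalizer_iff_commutator_le_left.1 (h0 i).2)
        rw [h _ (h0 i).1 (h0 i).2 (fun e => by
          rw [e, card_bot] at h2; exact (Nat.one_lt_pow (by omega) hp.one_lt).ne h2), h2, pow_succ] at h3
        exact Nat.eq_of_mul_eq_mul_right hp.pos h3
    refine or_iff_not_imp_right.2 fun h2 e => ?_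
    have := key (n - 1) 1 (by omega)
    rw [e, card_bot, pow_one] at this
    exact hp.ne_one this.symm
  refine ⟨⟨h1, fun h H hH hGH hb => ?_⟩, fun h H hH hGH => ?_⟩
  · obtain ⟨i, _ | j, rfl, e⟩ := hd H hH
    · exact absurd (card_eq_one.1 (e.trans (pow_zero p))) hb
    have h2 := card_mul_relIndex_of_le (le_normalizer_iff_commutator_le_left.1 hGH)
    have h3 := card_iterCommutator_of_ne_bot hN hG hGN (i := i + 1) (j := j) (by rw [hn]; ring)
      (by rwa [add_right_comm, add_assoc])
    change Nat.card ↥⁅Cfsg.iterCommutator N G i, G⁆ = _ at h3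
    rw [← eq_iterCommutator_of_ne_bot hN hG hGN hn h hH hGH e] at h3
    rw [h3, e, pow_succ] at h2
    exact Nat.eq_of_mul_eq_mul_left (Nat.pow_pos hp.pos) h2
  · obtain ⟨i, j, rfl, e⟩ := hd H hH
    have h2 := eq_iterCommutator_of_ne_bot hN hG hGN hn (h1 h) hH hGH e
    refine ⟨⟨i, by omega, h2⟩, ?_⟩
    have hT := hG.to_sup_of_normal_right' hN hGN
    haveI := normal_subgroupOf_of_le_normalizer (sup_le hGN le_normalizer : G ⊔ N ≤ _)
    obtain ⟨K, hK, k1, k2⟩ := exists_normal_le_card_eq hT (N.subgroupOf (G ⊔ N)) j (by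
      rw [Nat.card_congr (subgroupOfEquivOfLe le_sup_right).toEquiv, ← e]; exact card_le_of_le hH)
    have h3 := le_normalizer_map_subtype hK
    rw [eq_iterCommutator_of_ne_bot hN hG hGN hn (h1 h) ((map_mono k1).trans
      (map_subgroupOf_eq_of_le (le_sup_right : N ≤ G ⊔ N)).le) (le_sup_left.trans h3) (by rw [card_map_of_injective (subtype_injective _), k2]), ← h2] at h3
    exact le_sup_right.trans h3

end Cfsg.Agent.S0663
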