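import Cfsg.Statements.S0666
import Cfsg.Agent.Lib.Coprime.FrobKernel
import Cfsg.Agent.Lib.Amalg.Ops

set_option autoImplicit false
open Cfsg

namespace Cfsg.Agent.S0666

open Subgroup Cfsg.Lib Cfsg.Lib.Amalg Cfsg.Lib.Coprime

/-- A Frobenius group acting on a nontrivial abelian group of order prime to that of its kernel, with the kernel acting without nontrivial fixed points, has a complement with a nontrivial fixed point. -/
theorem result {G : Type*} [Group G] [Finite G] (V F : Subgroup G) (hVab : IsMulCommutative V) (hV1 : V ≠ ⊥) (hFV : F ≤ Subgroup.normalizer (V : Set G)) (H : Subgroup ↥F) (hH : Cfsg.IsFrobeniusComplement H) (hcop : (Nat.card V).Coprime (Nat.card (Cfsg.frobeniusKernel H))) (hCK : V ⊓ Subgroup.centralizer (Subtype.val '' Cfsg.frobeniusKernel H : Set G) = ⊥) : V ⊓ Subgroup.centralizer ((H.map F.subtype : Subgroup G) : Set G) ≠ ⊥ := by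
  obtain ⟨N, hN, hn, -, -, hf, -⟩ := exists_frobKernel hH
  have e : Subtype.val '' Cfsg.frobeniusKernel H = (N.map F.subtype : Set G) := by
    rw [← hN]; rfl
  have := hVab
  refine (hf.map_of_injective F.subtype_injective).inf_centralizer_ne_bot
    ((map_subtype_le _).trans (le_normalizer_map_of_normal N)) ((map_subtype_le _).trans hFV)
    ((map_subtype_le _).trans hFV) ?_ fun h => hV1 ?_
  · rw [card_map_of_injective F.subtype_injective]
    rw [← hN] at hcop
    exact hcop.symm
  · rw [e] at hCK
    rw [← hCK, inf_eq_left.2 (le_cent_symm h)]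

end Cfsg.Agent.S0666
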