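import Cfsg.Statements.S0668
import Mathlib.Tactic

set_option autoImplicit false
open Cfsg

namespace Cfsg.Agent.S0668

/-- The equivariant linear maps between the permutation modules of two finite `G`-sets form a space whose dimension is the number of `G`-orbits on the product of the two sets. -/
theorem result {G : Type*} [Group G] {K : Type*} [Field K] {Ω₁ Ω₂ : Type*} [Fintype Ω₁] [Fintype Ω₂] [MulAction G Ω₁] [MulAction G Ω₂] : Module.finrank K ((Cfsg.permRep K G Ω₁).linHom (Cfsg.permRep K G Ω₂)).invariants = Nat.card (MulAction.orbitRel.Quotient G (Ω₁ × Ω₂)) := by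
  classical
  let V := ((Cfsg.permRep K G Ω₁).linHom (Cfsg.permRep K G Ω₂)).invariants
  have hV : ∀ T : (Ω₁ → K) →ₗ[K] (Ω₂ → K), T ∈ V ↔
      ∀ (g : G) (a : Ω₁) (b : Ω₂), T (Pi.single (g • a) 1) (g • b) = T (Pi.single a 1) b := by
    have hs : ∀ (g : G) (a : Ω₁), Cfsg.permRep K G Ω₁ g⁻¹ (Pi.single (g • a) 1) = Pi.single a 1 := by
      intro g a
      ext x
      change (Pi.single (g • a) (1 : K) : Ω₁ → K) (g⁻¹⁻¹ • x) = _
      simp [Pi.single_apply]
    intro T
    rw [Representation.mem_invariants]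
    constructor
    · intro h g a b
      have := congrArg (fun S : (Ω₁ → K) →ₗ[K] (Ω₂ → K) => S (Pi.single (g • a) 1) (g • b)) (h g)
      simp only [Representation.linHom_apply, LinearMap.comp_apply, hs] at this
      rw [← this]
      change T (Pi.single a 1) (g⁻¹ • g • b) = _
      rw [inv_smul_smul]
    · intro h g
      apply LinearMap.pi_ext'
      intro a
      ext b
      simp only [Representation.linHom_apply, LinearMap.comp_apply, LinearMap.single_apply]
      have := hs g (g⁻¹ • a)
      rw [smul_inv_smul] at this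
      rw [this]
      exact h g⁻¹ a b
  let φ : V →ₗ[K] (MulAction.orbitRel.Quotient G (Ω₁ × Ω₂) → K) :=
    { toFun := fun T q => (T : (Ω₁ → K) →ₗ[K] (Ω₂ → K)) (Pi.single q.out.1 1) q.out.2
      map_add' := fun _ _ => rfl
      map_smul' := fun _ _ => rfl }
  have hout : ∀ (a : Ω₁) (b : Ω₂), ∃ g : G,
      (Quotient.out (⟦(a, b)⟧ : MulAction.orbitRel.Quotient G (Ω₁ × Ω₂))) = (g • a, g • b) := by
    intro a b
    obtain ⟨g, hg⟩ := MulAction.orbitRel_apply.mp (Quotient.mk_out (s := MulAction.orbitRel G (Ω₁ × Ω₂)) (a, b))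
    exact ⟨g, hg.symm⟩
  have hinj : Function.Injective φ := by
    rw [injective_iff_map_eq_zero]
    intro T hT
    apply Subtype.ext
    apply LinearMap.pi_ext'
    intro a
    ext b
    obtain ⟨g, hg⟩ := hout a b
    have := congrFun hT ⟦(a, b)⟧
    simp only [φ, LinearMap.coe_mk, AddHom.coe_mk, hg, (hV T).mp T.2] at this
    simpa using this
  have hsurj : Function.Surjective φ := by
    intro f
    let T : (Ω₁ → K) →ₗ[K] (Ω₂ → K) :=
      (Pi.basisFun K Ω₁).constr K fun a b => f ⟦(a, b)⟧
    have hT : ∀ a, T (Pi.single a 1) = fun b => f ⟦(a, b)⟧ := fun a => by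
      rw [← Pi.basisFun_apply]; exact Module.Basis.constr_basis _ _ _ _
    refine ⟨⟨T, (hV T).mpr fun g a b => ?_⟩, ?_⟩
    · rw [hT, hT]
      exact congrArg f (Quotient.sound (MulAction.orbitRel_apply.mpr ⟨g, rfl⟩))
    · ext q
      simp only [φ, LinearMap.coe_mk, AddHom.coe_mk, hT]
      exact congrArg f (Quotient.out_eq q)
  have : Fintype (MulAction.orbitRel.Quotient G (Ω₁ × Ω₂)) := Fintype.ofFinite _
  rw [(LinearEquiv.ofBijective φ ⟨hinj, hsurj⟩).finrank_eq, Module.finrank_fintype_fun_eq_card,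
    Nat.card_eq_fintype_card]

end Cfsg.Agent.S0668
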