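import Cfsg.Statements.S0669
import Mathlib.Tactic

set_option autoImplicit false
open Cfsg

namespace Cfsg.Agent.S0669

/-- The rank of a transitive action: orbits on ordered pairs correspond to orbits of a point stabiliser. -/
theorem result {G : Type*} [Group G] {Ω : Type*} [Finite Ω] [MulAction G Ω] [MulAction.IsPretransitive G Ω] (a : Ω) : Nat.card (MulAction.orbitRel.Quotient G (Ω × Ω)) = Nat.card (MulAction.orbitRel.Quotient (MulAction.stabilizer G a) Ω) := by
  symm
  refine Nat.card_congr (Equiv.ofBijective (Quotient.map (fun x : Ω => (a, x)) ?_) ⟨?_, ?_⟩)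
  · rintro x y ⟨g, hg⟩
    exact ⟨g, Prod.ext g.2 hg⟩
  · intro x y
    induction x using Quotient.inductionOn with | _ x =>
    induction y using Quotient.inductionOn with | _ y =>
    intro h
    obtain ⟨g, hg⟩ := Quotient.exact h
    apply Quotient.sound
    exact ⟨⟨g, congrArg Prod.fst hg⟩, congrArg Prod.snd hg⟩
  · intro z
    induction z using Quotient.inductionOn with | _ z =>
    obtain ⟨g, hg⟩ := MulAction.exists_smul_eq G z.1 a
    refine ⟨Quotient.mk _ (g • z.2), Quotient.sound ⟨g, ?_⟩⟩
    exact Prod.ext hg rfl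

end Cfsg.Agent.S0669
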