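import Cfsg.Statements.S0677
import Cfsg.Agent.Lib.Perm.Heart

set_option autoImplicit false
open Cfsg

namespace Cfsg.Agent.S0677

/-- In a transitive permutation group of prime degree `p` whose Sylow `p`-normaliser has even order, the point stabilisers are the only subgroups of index `p`. -/
theorem result {α : Type*} [Fintype α] [DecidableEq α] {p : ℕ} [Fact p.Prime] (hα : Fintype.card α = p) (G : Subgroup (Equiv.Perm α)) [MulAction.IsPretransitive G α] (P : Sylow p G) (heven : Even (Nat.card (Subgroup.normalizer ((P : Subgroup G) : Set G)))) (H : Subgroup G) (hH : H.index = p) : ∃ a : α, H = MulAction.stabilizer G a := by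
  classical
  have hpp : p.Prime := Fact.out
  obtain ⟨c, e, hP, hc⟩ := Cfsg.Lib.Perm.primeDeg_coord hα G P
  suffices ∃ a : α, ∀ h ∈ H, h • a = a by
    obtain ⟨a, ha⟩ := this
    refine ⟨a, Subgroup.eq_of_le_of_card_ge ha (le_of_eq ?_)⟩
    apply Nat.eq_of_mul_eq_mul_right hpp.pos
    conv_rhs => rw [← hH, Subgroup.card_mul_index, ← (MulAction.stabilizer G a).card_mul_index,
      MulAction.index_stabilizer_of_transitive, Nat.card_eq_fintype_card (α := α), hα]
  have hHp : ¬ p ∣ Nat.card H := fun h => Cfsg.Lib.Perm.not_sq_dvd_factorial hpp (by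
    have := Cfsg.Lib.Perm.card_dvd_factorial G
    rw [hα, ← H.card_mul_index, hH] at this
    exact (Nat.mul_dvd_mul_right h p).trans this)
  let D : Finset α := Finset.univ.filter fun x => x ∈ MulAction.orbit H (e 0)
  have hD : ∀ h ∈ H, ∀ x, h • x ∈ D ↔ x ∈ D := fun h hh x => by
    simp only [D, Finset.mem_filter, Finset.mem_univ, true_and]
    exact ⟨fun ⟨k, hk⟩ => ⟨(⟨h, hh⟩ : H)⁻¹ * k, by
      change (h⁻¹ * k) • e 0 = x
      rw [mul_smul, inv_smul_eq_iff]; exact hk⟩, fun ⟨k, hk⟩ => ⟨(⟨h, hh⟩ : H) * k, by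
      change (h * k) • e 0 = h • x
      rw [mul_smul, ← hk]; rfl⟩⟩
  have hDc : ¬ p ∣ D.card := fun h => hHp (h.trans (by
    have : D.card = (MulAction.stabilizer H (e 0)).index := by
      rw [MulAction.index_stabilizer, ← Set.ncard_coe_finset]; simp [D]
    rw [this]; exact Subgroup.index_dvd_card _))
  rcases Cfsg.Lib.Perm.affine_or_two_transitive hc with haff | h2
  · have hk : (D.card : ZMod p) ≠ 0 := by rwa [Ne, ZMod.natCast_eq_zero_iff]
    refine ⟨e ((∑ x ∈ D, e.symm x) / D.card), fun h hh => ?_⟩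
    obtain ⟨a, b, hab⟩ := haff h
    have h1 : ∑ x ∈ D, e.symm (h • x) = ∑ x ∈ D, e.symm x :=
      Finset.sum_equiv (MulAction.toPerm h) (fun x => (hD h hh x).symm) fun _ _ => rfl
    have h3 : ∀ x, e.symm (h • x) = a * e.symm x + b := fun x => by
      rw [e.symm_apply_eq, ← hab, Equiv.apply_symm_apply]
    simp only [h3, Finset.sum_add_distrib, ← Finset.mul_sum, Finset.sum_const, nsmul_eq_mul] at h1
    rw [hab]
    congr 1
    field_simp
    linear_combination h1
  suffices ∃ m : α, ∀ x y, x ≠ m → y ≠ m → (x ∈ D ↔ y ∈ D) by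
    obtain ⟨m, hm⟩ := this
    refine ⟨m, fun h hh => ?_⟩
    by_contra h1
    apply hDc
    have h3 : ∀ x, x ∈ D ↔ m ∈ D := fun x => by
      by_cases hx : x = m
      · rw [hx]
      · rw [hm x _ hx h1, hD h hh]
    rw [Finset.eq_univ_of_forall (s := D) fun x => (h3 x).mpr ((h3 (e 0)).mp (by simp [D])),
      Finset.card_univ, hα]
  by_cases hp2 : p = 2
  · subst hp2
    refine ⟨e 0, fun x y hx hy => ?_⟩
    obtain ⟨i, rfl⟩ := e.surjective x
    obtain ⟨j, rfl⟩ := e.surjective y
    have : ∀ i j : ZMod 2, i ≠ 0 → j ≠ 0 → i = j := Cfsg.Lib.Perm.zmod2_c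
    rw [this i j (by simpa using hx) (by simpa using hy)]
  have htwo : (2 : ZMod p) ≠ 0 := fun h => hp2 ((Nat.prime_dvd_prime_iff_eq hpp Nat.prime_two).mp
    ((ZMod.natCast_eq_zero_iff 2 p).mp h))
  obtain ⟨b, t, ht⟩ := Cfsg.Lib.Perm.coord_reflection hc hp2 (hP ▸ heven)
  let χ : α → ZMod 2 := fun x => if x ∈ D then 1 else 0
  let X : G ⧸ H → α → ZMod 2 := fun q x => χ (q.out⁻¹ • x)
  have hX : ∀ (g : G) x, X (g : G ⧸ H) x = χ (g⁻¹ • x) := fun g x => by
    obtain ⟨h, hh⟩ := QuotientGroup.mk_out_eq_mul H g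
    simp only [X, χ, hh, mul_inv_rev, mul_smul, hD _ (H.inv_mem h.2)]
  have hXg : ∀ (g : G) q x, X (g • q) (g • x) = X q x := fun g q x => by
    obtain ⟨k, rfl⟩ := QuotientGroup.mk_surjective q
    rw [MulAction.Quotient.smul_mk, hX, hX, smul_eq_mul, mul_inv_rev, mul_smul, inv_smul_smul]
  have hsurj : Function.Surjective fun j : ZMod p => ((c ^ j.val : G) : G ⧸ H) := by
    intro q
    have htr := Cfsg.Lib.Perm.sylow_transitive_of_prime_pow_degree (G := G) (α := G ⧸ H) (f := 1)
      (by rw [pow_one, ← hH]; rfl) P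
    obtain ⟨g, hg, rfl⟩ := Cfsg.Lib.Perm.isPretransitive_subgroup_iff.mp htr ((1 : G) : G ⧸ H) q
    rw [← hP, mem_zpowers_iff_mem_range_orderOf] at hg
    obtain ⟨i, hi, rfl⟩ := Finset.mem_image.mp hg
    rw [← Nat.card_zpowers, hP, Cfsg.Lib.Perm.primeDeg_card_sylow hα, Finset.mem_range] at hi
    exact ⟨i, by simp [ZMod.val_cast_of_lt hi]⟩
  have := Fintype.ofFinite (G ⧸ H)
  have hbij := (Fintype.bijective_iff_surjective_and_card _).mpr ⟨hsurj, by
    rw [ZMod.card, ← Nat.card_eq_fintype_card, ← hH]; rfl⟩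
  have hcj : ∀ u j : ZMod p, (c ^ j.val)⁻¹ • e u = e (u - j) := fun u j => by
    rw [inv_smul_eq_iff, Cfsg.Lib.Perm.coord_pow hc]; simp
  obtain ⟨i, hi⟩ := hsurj (t : G ⧸ H)
  have hsym : ∀ d, χ (e (b - i - d)) = χ (e d) := fun d => by
    have h1 := hX t (e (b - d))
    rw [← hi, hX, hcj, inv_smul_eq_iff.mpr (ht d).symm] at h1
    rw [← h1]; congr 2; ring
  set m := b - i
  have hN : ∀ u v : ZMod p, ∑ q, X q (e u) * X q (e v) = χ (e ((u - v + m) / 2)) := by
    intro u v
    rw [← hbij.sum_comp]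
    simp only [hX, hcj]
    rw [← Finset.add_sum_erase _ _ (Finset.mem_univ ((u + v - m) / 2))]
    rw [Finset.sum_involution (fun j _ => u + v - m - j), add_zero, ← hsym (v - _)]
    · have h1 : u - (u + v - m) / 2 = (u - v + m) / 2 := by field_simp; ring
      have h3 : m - (v - (u + v - m) / 2) = (u - v + m) / 2 := by field_simp; ring
      rw [h1, h3]
      simp only [χ]; split_ifs <;> simp
    · intro j _
      rw [← hsym (u - (u + v - m - j)), ← hsym (v - (u + v - m - j)),
        show m - (u - (u + v - m - j)) = v - j by ring, show m - (v - (u + v - m - j)) = u - j by ring,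
        mul_comm (χ (e (v - j))), CharTwo.add_self_eq_zero]
    · intro j hj _ h1
      apply Finset.ne_of_mem_erase hj
      field_simp
      linear_combination -h1
    · intro j hj
      refine Finset.mem_erase.mpr ⟨fun h1 => Finset.ne_of_mem_erase hj ?_, Finset.mem_univ _⟩
      field_simp at h1 ⊢
      linear_combination -h1
    · intro j _; ring
  refine ⟨e (m / 2), fun x y hx hy => ?_⟩
  obtain ⟨x, rfl⟩ := e.surjective x
  obtain ⟨y, rfl⟩ := e.surjective y
  have h3 : ∀ x, e x ≠ e (m / 2) → e (2 * x - m) ≠ e 0 := fun x hx h => hx (by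
    have := e.injective h
    congr 1; field_simp; linear_combination this)
  obtain ⟨g, e1, e2⟩ := MulAction.is_two_pretransitive_iff.mp h2 (h3 x hx) (h3 y hy)
  have h4 := hN (2 * y - m) 0
  rw [← e1, ← e2, ← Cfsg.Lib.Perm.sum_smul_eq g] at h4
  simp only [hXg, hN] at h4
  rw [show (2 * x - m - 0 + m) / 2 = x by field_simp; ring,
    show (2 * y - m - 0 + m) / 2 = y by field_simp; ring] at h4
  simp only [χ] at h4
  by_cases h5 : e x ∈ D <;> by_cases h6 : e y ∈ D <;> simp_all

end Cfsg.Agent.S0677
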