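import Cfsg.Statements.S0681
import Mathlib.Tactic

set_option autoImplicit false
open Cfsg

namespace Cfsg.Agent.S0681

theorem zero_mul' {F : Type*} [Cfsg.NearField F] (a : F) : (0 : F) * a = 0 := by
  have := Cfsg.NearField.right_distrib (0 : F) 0 a
  rw [add_zero] at this
  exact left_eq_add.mp this
theorem neg_mul' {F : Type*} [Cfsg.NearField F] (x a : F) : (-x) * a = -(x * a) := by
  have := Cfsg.NearField.right_distrib (-x) x a
  rw [neg_add_cancel, zero_mul'] at this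
  exact eq_neg_of_add_eq_zero_left this.symm

/-- The affine maps `x ↦ x * a + b`, `a ≠ 0`, of a near-field form a sharply doubly transitive permutation group. -/
theorem result {F : Type*} [Cfsg.NearField F] : ∃ H : Subgroup (Equiv.Perm F), (∀ σ : Equiv.Perm F, σ ∈ H ↔ ∃ a b : F, a ≠ 0 ∧ ∀ x : F, σ x = x * a + b) ∧ MulAction.IsMultiplyPretransitive H F 2 ∧ ∀ x : Fin 2 ↪ F, MulAction.stabilizer H x = ⊥ := by
  have hinj : ∀ a : F, a ≠ 0 → ∀ x y : F, x * a = y * a → x = y := by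
    intro a ha x y h
    obtain ⟨b, hb, -⟩ := Cfsg.NearField.exists_inv a ha
    have := congrArg (· * b) h
    simpa [mul_assoc, hb] using this
  have hne : ∀ a b : F, a ≠ 0 → b ≠ 0 → a * b ≠ 0 := by
    intro a b ha hb h
    exact ha (hinj b hb _ _ (by rw [h, zero_mul']))
  have hinv : ∀ a b : F, a * b = 1 → b ≠ 0 := by
    intro a b h hb
    rw [hb, Cfsg.NearField.mul_zero] at h
    exact Cfsg.NearField.zero_ne_one h
  let H : Subgroup (Equiv.Perm F) :=
    { carrier := {σ | ∃ a b : F, a ≠ 0 ∧ ∀ x : F, σ x = x * a + b}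
      one_mem' := ⟨1, 0, Cfsg.NearField.zero_ne_one.symm, fun x => by simp⟩
      mul_mem' := by
        rintro σ τ ⟨a, b, ha, hσ⟩ ⟨c, d, hc, hτ⟩
        refine ⟨c * a, d * a + b, hne _ _ hc ha, fun x => ?_⟩
        simp [hσ, hτ, Cfsg.NearField.right_distrib, mul_assoc, add_assoc]
      inv_mem' := by
        rintro σ ⟨a, b, ha, hσ⟩
        obtain ⟨c, hc, hc'⟩ := Cfsg.NearField.exists_inv a ha
        refine ⟨c, (-b) * c, hinv _ _ hc, fun x => ?_⟩
        apply σ.injective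
        rw [hσ (x * c + -b * c), ← Cfsg.NearField.right_distrib, mul_assoc, hc']
        simp }
  have hmk : ∀ a b : F, a ≠ 0 → ∃ σ ∈ H, ∀ x, σ x = x * a + b := by
    intro a b ha
    obtain ⟨c, hc, hc'⟩ := Cfsg.NearField.exists_inv a ha
    exact ⟨⟨fun x => x * a + b, fun y => (y + -b) * c, fun x => by simp [mul_assoc, hc], fun y => by
      simp only [mul_assoc, hc']; simp⟩, ⟨a, b, ha, fun x => rfl⟩, fun x => rfl⟩
  have h01 : ∀ u v : F, u ≠ v → ∃ σ ∈ H, σ 0 = u ∧ σ 1 = v := by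
    intro u v huv
    obtain ⟨σ, hσ, h⟩ := hmk (v + -u) u (fun h => huv (by rw [← sub_eq_add_neg, sub_eq_zero] at h; exact h.symm))
    exact ⟨σ, hσ, by simp [h, zero_mul'], by simp [h]⟩
  refine ⟨H, fun σ => Iff.rfl, ?_, ?_⟩
  · rw [MulAction.is_two_pretransitive_iff]
    intro a b c d hab hcd
    obtain ⟨σ, hσ, h0, h1⟩ := h01 a b hab
    obtain ⟨τ, hτ, h0', h1'⟩ := h01 c d hcd
    refine ⟨⟨τ * σ⁻¹, H.mul_mem hτ (H.inv_mem hσ)⟩, ?_, ?_⟩
    · change τ (σ⁻¹ a) = c
      rw [← h0]; simpa using h0'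
    · change τ (σ⁻¹ b) = d
      rw [← h1]; simpa using h1'
  · intro x
    rw [eq_bot_iff]
    rintro ⟨σ, a, b, ha, hσ⟩ hx
    rw [Subgroup.mem_bot]
    have h0 : σ (x 0) = x 0 := congrArg (fun e : Fin 2 ↪ F => e 0) hx
    have h1 : σ (x 1) = x 1 := congrArg (fun e : Fin 2 ↪ F => e 1) hx
    rw [hσ] at h0 h1
    have hz : x 0 + -(x 1) ≠ 0 := by
      rw [← sub_eq_add_neg, sub_ne_zero]
      exact fun h => absurd (x.injective h) (by decide)
    have h2 : (x 0 + -(x 1)) * a = (x 0 + -(x 1)) := by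
      rw [Cfsg.NearField.right_distrib, neg_mul']
      conv_rhs => rw [← h0, ← h1]
      simp [add_assoc]
    obtain ⟨c, hc, hc'⟩ := Cfsg.NearField.exists_inv _ hz
    have ha1 : a = 1 := by
      have := congrArg (c * ·) h2
      simpa [← mul_assoc, hc'] using this
    have hb : b = 0 := by
      rw [ha1, mul_one] at h0
      simpa using h0
    ext y
    simp [hσ, ha1, hb]

end Cfsg.Agent.S0681
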