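import Cfsg.Statements.S0682
import Cfsg.Agent.Lib.Perm.Regular

set_option autoImplicit false
open Cfsg

namespace Cfsg.Agent.S0682

/-- A finite near-field has prime-power order; its additive group is commutative of prime exponent. -/
theorem result {F : Type*} [Cfsg.NearField F] [Finite F] : ∃ p j : ℕ, p.Prime ∧ 1 ≤ j ∧ Nat.card F = p ^ j ∧ (∀ x y : F, x + y = y + x) ∧ ∀ x : F, p • x = 0 := by
  have : Nontrivial F := ⟨0, 1, Cfsg.NearField.zero_ne_one⟩
  obtain ⟨p, hp, h1, h2, j, hj, hc⟩ := Cfsg.Lib.Perm.elementary_of_aut_transitive (N := Multiplicative F) (by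
    intro a b ha hb
    obtain ⟨c, hc, hc'⟩ := Cfsg.NearField.exists_inv a.toAdd (by simpa using ha)
    obtain ⟨d, hd, hd'⟩ := Cfsg.NearField.exists_inv b.toAdd (by simpa using hb)
    refine ⟨⟨⟨fun x => Multiplicative.ofAdd (x.toAdd * (c * b.toAdd)), fun x => Multiplicative.ofAdd (x.toAdd * (d * a.toAdd)), fun x => ?_, fun x => ?_⟩, fun x y => ?_⟩, ?_⟩
    · simp only [toAdd_ofAdd, mul_assoc]
      rw [← mul_assoc b.toAdd, hd, one_mul, hc', mul_one]; rfl
    · simp only [toAdd_ofAdd, mul_assoc]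
      rw [← mul_assoc a.toAdd, hc, one_mul, hd', mul_one]; rfl
    · simp only [toAdd_mul, Cfsg.NearField.right_distrib, ofAdd_add]
    · change Multiplicative.ofAdd (a.toAdd * (c * b.toAdd)) = b
      rw [← mul_assoc, hc, one_mul]; rfl)
  exact ⟨p, j, hp, hj, hc, fun x y => h1 (Multiplicative.ofAdd x) (Multiplicative.ofAdd y),
    fun x => h2 (Multiplicative.ofAdd x)⟩

end Cfsg.Agent.S0682
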