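import Cfsg.Statements.S0683
import Cfsg.Agent.Lib.Perm.Sharp2

set_option autoImplicit false
open Cfsg

namespace Cfsg.Agent.S0683

/-- A finite sharply doubly transitive permutation group is the affine group of a near-field: the permuted set carries a near-field structure for which the group consists exactly of the maps `x ↦ x * a + b` with `a ≠ 0`. -/
theorem result {α : Type*} [Fintype α] [DecidableEq α] (H : Subgroup (Equiv.Perm α)) [MulAction.IsMultiplyPretransitive H α 2] (hsharp : ∀ x : Fin 2 ↪ α, MulAction.stabilizer H x = ⊥) (h2 : 2 ≤ Fintype.card α) : ∃ _ : Cfsg.NearField α, ∀ σ : Equiv.Perm α, σ ∈ H ↔ ∃ a b : α, a ≠ 0 ∧ ∀ x : α, σ x = x * a + b := by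
  have : Nontrivial α := Fintype.one_lt_card_iff_nontrivial.mp h2
  have hs := Cfsg.Lib.Perm.sharp_two_iff.mp hsharp
  obtain ⟨p, j, N, hp, hj, hc, h1, h3, h4, h5, h6, h7, h8⟩ :=
    Cfsg.Lib.Perm.sharp2_kernel (G := H) (α := α) inferInstance hs
  obtain ⟨o, e, hoe⟩ := exists_pair_ne α
  choose t ht hto using fun y => Cfsg.Lib.Perm.isPretransitive_subgroup_iff.mp h5 o y
  have tu : ∀ g ∈ N, ∀ y, g • o = y → g = t y := fun g hg y h =>
    Cfsg.Lib.Perm.eq_of_smul_eq_of_semiregular (h6 o) hg (ht y) (h.trans (hto y).symm)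
  have tcomm : ∀ x y, t x * t y = t y * t x := fun x y =>
    congrArg Subtype.val (h3.is_comm.comm (⟨t x, ht x⟩ : N) ⟨t y, ht y⟩)
  have hm : ∀ a : α, ∃ g : H, a ≠ o → g • o = o ∧ g • e = a := fun a => by
    by_cases ha : a = o
    · exact ⟨1, fun h => absurd ha h⟩
    · obtain ⟨g, hg⟩ := MulAction.is_two_pretransitive_iff.mp
        (inferInstance : MulAction.IsMultiplyPretransitive H α 2) hoe (Ne.symm ha)
      exact ⟨g, fun _ => hg⟩
  choose m hm using hm
  have mu : ∀ g : H, g • o = o → g • e ≠ o ∧ g = m (g • e) := fun g hg => by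
    have h9 : g • e ≠ o := fun h => hoe (smul_left_cancel g (hg.trans h.symm))
    exact ⟨h9, Cfsg.Lib.Perm.sharp2_ext hs hoe (hg.trans (hm _ h9).1.symm) (hm _ h9).2.symm⟩
  have to1 : t o = 1 := (tu 1 N.one_mem o (one_smul _ _)).symm
  have tt : ∀ x y, t (t x • y) = t x * t y := fun x y =>
    (tu _ (N.mul_mem (ht x) (ht y)) _ (by rw [mul_smul, hto])).symm
  let mul : α → α → α := fun x a => if a = o then o else m a • x
  have mul0 : ∀ x, mul x o = o := fun x => if_pos rfl
  have mul1 : ∀ x a, a ≠ o → mul x a = m a • x := fun x a h => if_neg h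
  have mo : ∀ a, mul o a = o := fun a => by
    by_cases h : a = o
    · rw [h, mul0]
    · rw [mul1 _ _ h, (hm a h).1]
  have me : m e = 1 := by
    have := (mu 1 (one_smul _ _)).2
    rw [one_smul] at this
    exact this.symm
  let A : AddGroup α :=
    { add := fun x y => t y • x
      zero := o
      neg := fun x => (t x)⁻¹ • o
      add_assoc := fun x y z => by
        change t z • t y • x = t (t z • y) • x
        rw [tt, mul_smul]
      zero_add := fun x => hto x
      add_zero := fun x => by change t o • x = x; rw [to1, one_smul]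
      nsmul := @nsmulRec α ⟨o⟩ ⟨fun x y => t y • x⟩
      zsmul := @zsmulRec α ⟨o⟩ ⟨fun x y => t y • x⟩ ⟨fun x => (t x)⁻¹ • o⟩
        (@nsmulRec α ⟨o⟩ ⟨fun x y => t y • x⟩)
      neg_add_cancel := fun x => smul_inv_smul _ _ }
  let M : Monoid α :=
    { mul := mul
      one := e
      mul_assoc := fun x a b => by
        change mul (mul x a) b = mul x (mul a b)
        by_cases hb : b = o
        · rw [hb, mul0, mul0, mul0]
        by_cases ha : a = o
        · rw [ha, mul0, mo, mul0]
        have h9 := mu (m b * m a) (by rw [mul_smul, (hm a ha).1, (hm b hb).1])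
        rw [mul_smul, (hm a ha).2] at h9
        rw [mul1 _ _ hb, mul1 _ _ ha, mul1 _ _ hb, mul1 _ _ h9.1, ← h9.2, mul_smul]
      one_mul := fun a => by
        change mul e a = a
        by_cases ha : a = o
        · rw [ha, mul0]
        · rw [mul1 _ _ ha, (hm a ha).2]
      mul_one := fun a => by
        change mul a e = a
        rw [mul1 _ _ hoe.symm, me, one_smul]
      npow := @npowRec α ⟨e⟩ ⟨mul⟩ }
  refine ⟨{ A, M with
    right_distrib := fun a b c => ?_
    mul_zero := mul0
    zero_ne_one := hoe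
    exists_inv := fun a ha => ?_ }, fun σ => ⟨fun hσ => ?_, ?_⟩⟩
  · change mul (t b • a) c = t (mul b c) • mul a c
    by_cases hc : c = o
    · rw [hc, mul0, mul0, mul0, hto]
    · rw [mul1 _ _ hc, mul1 _ _ hc, mul1 _ _ hc, ← tu (m c * t b * (m c)⁻¹) (h1.conj_mem _ (ht b) _) (m c • b) (by
        rw [mul_smul, mul_smul, inv_smul_eq_iff.mpr (hm c hc).1.symm, hto])]
      rw [mul_smul, mul_smul, inv_smul_smul]
  · have ha : a ≠ o := ha
    have h9 := mu (m a)⁻¹ (inv_smul_eq_iff.mpr (hm a ha).1.symm)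
    refine ⟨(m a)⁻¹ • e, ?_, ?_⟩
    · change mul a _ = e
      rw [mul1 _ _ h9.1, ← h9.2, inv_smul_eq_iff, (hm a ha).2]
    · change mul _ a = e
      rw [mul1 _ _ ha, smul_inv_smul]
  · have h9 := mu ((t (σ o))⁻¹ * ⟨σ, hσ⟩) (by rw [mul_smul, inv_smul_eq_iff, hto]; rfl)
    refine ⟨_, σ o, h9.1, fun x => ?_⟩
    change σ x = t (σ o) • mul x _
    rw [mul1 _ _ h9.1, ← h9.2, mul_smul, smul_inv_smul]; rfl
  · rintro ⟨a, b, ha, h⟩
    have : σ = (t b * m a : H) := by
      ext x
      rw [h x]
      change t b • mul x a = _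
      rw [mul1 _ _ ha]; rfl
    rw [this]
    exact Subtype.prop _

end Cfsg.Agent.S0683
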