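import Cfsg.Statements.S0684
import Cfsg.Agent.Lib.Hall.Sh2c

set_option autoImplicit false
open Cfsg

namespace Cfsg.Agent.S0684

open scoped Pointwise commutatorElement
open Cfsg.Lib Cfsg.Lib.Hall

open Subgroup Cfsg.Lib.Core Cfsg.Lib.Transfer Cfsg.Lib.Hall.Lin

/-- Point stabiliser of a sharply doubly transitive group not of semilinear type: a maximal normal abelian subgroup `A` of a linear group `H` that is regular on non-zero vectors and has no irreducible cyclic normal subgroup is cyclic and reducible, and the order of `A` divides `p ^ k - 1` for `k` the dimension of a minimal `A`-invariant subspace. -/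
theorem result {p : ℕ} [Fact p.Prime] {V : Type*} [AddCommGroup V] [Module (ZMod p) V] [Finite V] (H : Subgroup (V ≃ₗ[ZMod p] V)) (hreg : ∀ v w : V, v ≠ 0 → w ≠ 0 → ∃! h : H, (h : V ≃ₗ[ZMod p] V) v = w) (hI : ∀ A : Subgroup H, A.Normal → IsCyclic A → ∃ W : Submodule (ZMod p) V, W ≠ ⊥ ∧ W ≠ ⊤ ∧ ∀ a ∈ A, ∀ v ∈ W, ((a : H) : V ≃ₗ[ZMod p] V) v ∈ W) (A : Subgroup H) (hAn : A.Normal) (hAc : IsMulCommutative A) (hAmax : ∀ B : Subgroup H, B.Normal → IsMulCommutative B → A ≤ B → B = A) : IsCyclic A ∧ ∃ W : Submodule (ZMod p) V, W ≠ ⊥ ∧ W ≠ ⊤ ∧ (∀ a ∈ A, ∀ v ∈ W, ((a : H) : V ≃ₗ[ZMod p] V) v ∈ W) ∧ (∀ W' : Submodule (ZMod p) V, W' ≤ W → (∀ a ∈ A, ∀ v ∈ W', ((a : H) : V ≃ₗ[ZMod p] V) v ∈ W') → W' = ⊥ ∨ W' = W) ∧ Nat.card A ∣ p ^ Module.finrank (ZMod p) W - 1 := by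
  haveI : Nontrivial V := by
    obtain ⟨W, h1, -⟩ := hI ⊥ inferInstance inferInstance
    obtain ⟨v, -, hv⟩ := W.exists_mem_ne_zero_of_ne_bot h1
    exact ⟨v, 0, hv⟩
  have h := Reg.of_subgroup H hreg
  have hI' : ∀ A : Subgroup H, A.Normal → IsCyclic A → ¬ Irr (LinearEquiv.automorphismGroup.toLinearMapMonoidHom.comp H.subtype) A :=
    fun A h1 h2 hc => let ⟨W, a, b, c⟩ := hI A h1 h2; (hc W c).elim a b
  haveI := finite_of_inj h.inj
  have h1 := h.tr.isCyclic h.inj hAc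
  obtain ⟨W0, a, b, c⟩ := hI A hAn h1
  haveI : Finite (Submodule (ZMod p) V) := Finite.of_injective _ SetLike.coe_injective
  obtain ⟨W, hW⟩ := (Set.toFinite {W : Submodule (ZMod p) V | W ≠ ⊥ ∧ W ≤ W0 ∧
    ∀ a ∈ A, ∀ v ∈ W, ((a : H) : V ≃ₗ[ZMod p] V) v ∈ W}).exists_minimal ⟨W0, a, le_rfl, c⟩
  refine ⟨h1, W, hW.prop.1, fun e => b (top_le_iff.mp (e ▸ hW.prop.2.1)), hW.prop.2.2, fun W' h2 h3 =>
    or_iff_not_imp_left.mpr fun h4 => hW.eq_of_le ⟨h4, h2.trans hW.prop.2.1, h3⟩ h2, ?_⟩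
  have := h.tr.card_dvd_inv h.inj hAc hW.prop.2.2
  rwa [Module.natCard_eq_pow_finrank (K := ZMod p) (V := W), Nat.card_zmod] at this

end Cfsg.Agent.S0684
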