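import Cfsg.Statements.S0691
import Cfsg.Agent.Lib.Perm.RegMat

set_option autoImplicit false
open Cfsg

namespace Cfsg.Agent.S0691

def tS : ℕ := 0x3040102000304010200030401020003040102000103020400
def tT : ℕ := 0x2020202040101010102040404040303030303010000000000
def tD : ℕ := 0x4020204020103030301020404030303030302000102020300
def fS (x y : ZMod 5) : ZMod 5 := (Cfsg.Lib.Perm.tab2 5 tS x y : ℕ)
def fT (x y : ZMod 5) : ZMod 5 := (Cfsg.Lib.Perm.tab2 5 tT x y : ℕ)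
theorem okA : Cfsg.Lib.Perm.SecOK 5 fS fT 2 0 0 3 := by
  unfold Cfsg.Lib.Perm.SecOK
  decide +kernel
theorem okB : Cfsg.Lib.Perm.SecOK 5 fS fT 0 4 1 0 := by
  unfold Cfsg.Lib.Perm.SecOK
  decide +kernel
theorem okC : Cfsg.Lib.Perm.SecOK 5 fS fT 1 2 1 3 := by
  unfold Cfsg.Lib.Perm.SecOK
  decide +kernel
theorem okD : ∀ x y : ZMod 5, (x = 0 ∧ y = 0) ∨ (x = 1 ∧ y = 0) ∨ Cfsg.Lib.Perm.tab2 5 tD (2 * x + 0 * y) (0 * x + 3 * y) < Cfsg.Lib.Perm.tab2 5 tD x y ∨ Cfsg.Lib.Perm.tab2 5 tD (0 * x + 4 * y) (1 * x + 0 * y) < Cfsg.Lib.Perm.tab2 5 tD x y ∨ Cfsg.Lib.Perm.tab2 5 tD (1 * x + 2 * y) (1 * x + 3 * y) < Cfsg.Lib.Perm.tab2 5 tD x y := by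
  decide +kernel

/-- An exceptional sharply doubly transitive group of degree 5^2: the listed matrices generate a subgroup of GL(2,5) of order 24 acting regularly on the non-zero vectors. -/
theorem result (A : Matrix.GeneralLinearGroup (Fin 2) (ZMod 5)) (B : Matrix.GeneralLinearGroup (Fin 2) (ZMod 5)) (C : Matrix.GeneralLinearGroup (Fin 2) (ZMod 5)) (hA : (A : Matrix (Fin 2) (Fin 2) (ZMod 5)) = !![2, 0; 0, -2]) (hB : (B : Matrix (Fin 2) (Fin 2) (ZMod 5)) = !![0, -1; 1, 0]) (hC : (C : Matrix (Fin 2) (Fin 2) (ZMod 5)) = !![1, 2; 1, -2]) : Nat.card (Subgroup.closure ({A, B, C} : Set (Matrix.GeneralLinearGroup (Fin 2) (ZMod 5)))) = 24 ∧ ∀ v w : Fin 2 → ZMod 5, v ≠ 0 → w ≠ 0 → ∃! h : Subgroup.closure ({A, B, C} : Set (Matrix.GeneralLinearGroup (Fin 2) (ZMod 5))), Matrix.mulVec ((h : Matrix.GeneralLinearGroup (Fin 2) (ZMod 5)) : Matrix (Fin 2) (Fin 2)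 (ZMod 5)) v = w := by
  have eA : A 0 0 = 2 ∧ A 0 1 = 0 ∧ A 1 0 = 0 ∧ A 1 1 = 3 := by
    rw [hA]; decide
  have eB : B 0 0 = 0 ∧ B 0 1 = 4 ∧ B 1 0 = 1 ∧ B 1 1 = 0 := by
    rw [hB]; decide
  have eC : C 0 0 = 1 ∧ C 0 1 = 2 ∧ C 1 0 = 1 ∧ C 1 1 = 3 := by
    rw [hC]; decide
  refine @Cfsg.Lib.Perm.regular_of_cert 5 ⟨by norm_num⟩ _ fS fT (Cfsg.Lib.Perm.tab2 5 tD) (by decide +kernel) ?_ ?_
  · rintro g (rfl | rfl | rfl)
    · rw [eA.1, eA.2.1, eA.2.2.1, eA.2.2.2]; exact okA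
    · rw [eB.1, eB.2.1, eB.2.2.1, eB.2.2.2]; exact okB
    · rw [eC.1, eC.2.1, eC.2.2.1, eC.2.2.2]; exact okC
  · intro x y
    rcases okD x y with h | h | h | h | h
    · exact Or.inl h
    · exact Or.inr (Or.inl h)
    · exact Or.inr (Or.inr ⟨A, by simp, by rw [eA.1, eA.2.1, eA.2.2.1, eA.2.2.2]; exact h⟩)
    · exact Or.inr (Or.inr ⟨B, by simp, by rw [eB.1, eB.2.1, eB.2.2.1, eB.2.2.2]; exact h⟩)
    · exact Or.inr (Or.inr ⟨C, by simp, by rw [eC.1, eC.2.1, eC.2.2.1, eC.2.2.2]; exact h⟩)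

end Cfsg.Agent.S0691
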