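import Cfsg.Statements.S0692
import Cfsg.Agent.Lib.Perm.RegMat

set_option autoImplicit false
open Cfsg

namespace Cfsg.Agent.S0692

def tS : ℕ := 0xa010407050608020309000709080a050600020301040709080a02050304060001000608070901040203050a090a050706080003010204090a080003050406010207060809070a020403050001000507080609010302040a0a0809000506010302040702080903050604070a01000106040309020807050a00
def tT : ℕ := 0x90100050202000404010a0303060301010502020a050202040203060303030707080003040004040101040806060501080502090606020505020906030a06050509070a0a07070007080003030408080805080907090904010909060a0a08050808060a070700090906000a02010004010a0407010a070000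
def tD : ℕ := 0x706080b0a070902050402040a0b03090805090b0705010c0a060b05090b0909080804080c060b0c03040c090a07080a0506070c06070709080a0504070c060908050b02050c09080b0a06060a070b090b070c040c0a030a05090b030607050a0802070603040709080a0a0805000108070806040a09060300
def fS (x y : ZMod 11) : ZMod 11 := (Cfsg.Lib.Perm.tab2 11 tS x y : ℕ)
def fT (x y : ZMod 11) : ZMod 11 := (Cfsg.Lib.Perm.tab2 11 tT x y : ℕ)
theorem okA : Cfsg.Lib.Perm.SecOK 11 fS fT 0 10 1 0 := by
  unfold Cfsg.Lib.Perm.SecOK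
  decide +kernel
theorem okB : Cfsg.Lib.Perm.SecOK 11 fS fT 2 4 1 8 := by
  unfold Cfsg.Lib.Perm.SecOK
  decide +kernel
theorem okD : ∀ x y : ZMod 11, (x = 0 ∧ y = 0) ∨ (x = 1 ∧ y = 0) ∨ Cfsg.Lib.Perm.tab2 11 tD (0 * x + 10 * y) (1 * x + 0 * y) < Cfsg.Lib.Perm.tab2 11 tD x y ∨ Cfsg.Lib.Perm.tab2 11 tD (2 * x + 4 * y) (1 * x + 8 * y) < Cfsg.Lib.Perm.tab2 11 tD x y := by
  decide +kernel

/-- An exceptional sharply doubly transitive group of degree 11^2: the listed matrices generate a subgroup of GL(2,11) of order 120 acting regularly on the non-zero vectors. -/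
theorem result (A : Matrix.GeneralLinearGroup (Fin 2) (ZMod 11)) (B : Matrix.GeneralLinearGroup (Fin 2) (ZMod 11)) (hA : (A : Matrix (Fin 2) (Fin 2) (ZMod 11)) = !![0, -1; 1, 0]) (hB : (B : Matrix (Fin 2) (Fin 2) (ZMod 11)) = !![2, 4; 1, -3]) : Nat.card (Subgroup.closure ({A, B} : Set (Matrix.GeneralLinearGroup (Fin 2) (ZMod 11)))) = 120 ∧ ∀ v w : Fin 2 → ZMod 11, v ≠ 0 → w ≠ 0 → ∃! h : Subgroup.closure ({A, B} : Set (Matrix.GeneralLinearGroup (Fin 2) (ZMod 11))), Matrix.mulVec ((h : Matrix.GeneralLinearGroup (Fin 2) (ZMod 11)) : Matrix (Fin 2) (Fin 2) (ZMod 11)) v = w := by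
  have eA : A 0 0 = 0 ∧ A 0 1 = 10 ∧ A 1 0 = 1 ∧ A 1 1 = 0 := by
    rw [hA]; decide
  have eB : B 0 0 = 2 ∧ B 0 1 = 4 ∧ B 1 0 = 1 ∧ B 1 1 = 8 := by
    rw [hB]; decide
  refine @Cfsg.Lib.Perm.regular_of_cert 11 ⟨by norm_num⟩ _ fS fT (Cfsg.Lib.Perm.tab2 11 tD) (by decide +kernel) ?_ ?_
  · rintro g (rfl | rfl)
    · rw [eA.1, eA.2.1, eA.2.2.1, eA.2.2.2]; exact okA
    · rw [eB.1, eB.2.1, eB.2.2.1, eB.2.2.2]; exact okB
  · intro x y
    rcases okD x y with h | h | h | h
    · exact Or.inl h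
    · exact Or.inr (Or.inl h)
    · exact Or.inr (Or.inr ⟨A, by simp, by rw [eA.1, eA.2.1, eA.2.2.1, eA.2.2.2]; exact h⟩)
    · exact Or.inr (Or.inr ⟨B, by simp, by rw [eB.1, eB.2.1, eB.2.2.1, eB.2.2.2]; exact h⟩)

end Cfsg.Agent.S0692
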