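import Cfsg.Statements.S0694
import Mathlib.NumberTheory.Multiplicity
import Mathlib.Tactic

set_option autoImplicit false
open Cfsg

namespace Cfsg.Agent.S0694

/-- The Dickson pair condition: for a prime power `q` and `n > 1`, (every prime factor of `n` divides `q - 1`, and `4 ∣ n → 4 ∣ q - 1`) holds exactly when `q ^ n ≡ 1` modulo `n * (q - 1)` but `q ^ i` is not, for `0 < i < n`. -/
theorem result (q n : ℕ) (hq : IsPrimePow q) (hn : 1 < n) : ((∀ r : ℕ, r.Prime → r ∣ n → r ∣ q - 1) ∧ (4 ∣ n → 4 ∣ q - 1)) ↔ (q ^ n ≡ 1 [MOD n * (q - 1)] ∧ ∀ i : ℕ, 0 < i → i < n → ¬ q ^ i ≡ 1 [MOD n * (q - 1)]) := by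
  obtain ⟨t, rfl⟩ : ∃ t, q = t + 1 := ⟨q - 1, by have := hq.two_le; omega⟩
  have ht : 0 < t := by have := hq.two_le; omega
  simp only [Nat.add_sub_cancel]
  set f : ℕ → ℕ := fun i => ∑ j ∈ Finset.range i, (t + 1) ^ j with hf
  have hgeom : ∀ i, f i * t + 1 = (t + 1) ^ i := fun i => geom_sum_mul_add t i
  have hmod : ∀ i, (t + 1) ^ i ≡ 1 [MOD n * t] ↔ n ∣ f i := by
    intro i
    rw [← hgeom, Nat.ModEq.comm, Nat.modEq_iff_dvd' (by omega), Nat.add_sub_cancel,
      Nat.mul_dvd_mul_iff_right ht]
  have hsucc : ∀ i, f (i + 1) = (t + 1) * f i + 1 := fun i => by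
    simp only [hf]; rw [Finset.sum_range_succ', Finset.mul_sum]; simp [pow_succ']
  have hpos : ∀ i, 0 < i → 0 < f i := by
    intro i hi
    obtain ⟨j, rfl⟩ : ∃ j, i = j + 1 := ⟨i - 1, by omega⟩
    rw [hsucc]; omega
  simp only [hmod]
  constructor
  · rintro ⟨h1, h2⟩
    have key : ∀ i, 0 < i → ∀ p k : ℕ, p.Prime → p ^ k ∣ n → (p ^ k ∣ f i ↔ p ^ k ∣ i) := by
      intro i hi p k hp hk
      rcases Nat.eq_zero_or_pos k with rfl | hk0
      · simp
      have := Fact.mk hp
      have hpt : p ∣ t := h1 p hp ((dvd_pow_self p hk0.ne').trans hk)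
      have hpq : ¬ p ∣ t + 1 := fun h => hp.one_lt.ne' (Nat.dvd_one.mp ((Nat.dvd_add_right hpt).mp h))
      have hsub : (t + 1) ^ i - 1 ^ i = f i * t := by rw [← hgeom]; simp
      have hv : p ≠ 2 ∨ 4 ∣ t → padicValNat p (f i) = padicValNat p i := by
        intro h
        by_cases hp2 : p = 2
        · subst hp2
          have h4 : 4 ∣ t := h.resolve_left (by simp)
          rcases Nat.even_or_odd i with he | ho
          · have := padicValNat.pow_two_sub_pow (x := t + 1) (y := 1) (by omega) (by simpa using hpt)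
              hpq hi.ne' he
            rw [hsub, padicValNat.mul (hpos i hi).ne' ht.ne', Nat.add_sub_cancel] at this
            obtain ⟨u, rfl⟩ := h4
            have h3 : padicValNat 2 (4 * u + 1 + 1) = 1 := by
              rw [show 4 * u + 1 + 1 = 2 * (2 * u + 1) by ring, padicValNat.mul (by norm_num) (by omega),
                padicValNat_self, padicValNat.eq_zero_of_not_dvd (by omega)]
            omega
          · have ho := Nat.odd_iff.mp ho
            rw [padicValNat.eq_zero_of_not_dvd (n := i) (by omega), padicValNat.eq_zero_of_not_dvd]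
            have : ∀ j, f j % 2 = j % 2 := by
              intro j
              induction j with
              | zero => simp [hf]
              | succ j ih =>
                obtain ⟨u, rfl⟩ := hpt
                rw [hsucc, show (2 * u + 1) * f j + 1 = f j + 1 + 2 * (u * f j) by ring]; omega
            have := this i
            omega
        · have := padicValNat.pow_sub_pow (p := p) (x := t + 1) (y := 1) (hp.odd_of_ne_two hp2) (by omega)
            (by simpa using hpt) hpq hi.ne'
          rw [hsub, padicValNat.mul (hpos i hi).ne' ht.ne', Nat.add_sub_cancel] at this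
          omega
      by_cases h : p ≠ 2 ∨ 4 ∣ t
      · rw [padicValNat_dvd_iff_le (hpos i hi).ne', padicValNat_dvd_iff_le hi.ne', hv h]
      · push Not at h
        obtain ⟨rfl, h4⟩ := h
        have hk1 : k = 1 := by
          by_contra hk1
          exact h4 (h2 ((pow_dvd_pow 2 (show 2 ≤ k by omega)).trans hk))
        subst hk1
        have : ∀ j, f j % 2 = j % 2 := by
          intro j
          induction j with
          | zero => simp [hf]
          | succ j ih =>
            obtain ⟨u, rfl⟩ := hpt
            rw [hsucc, show (2 * u + 1) * f j + 1 = f j + 1 + 2 * (u * f j) by ring]; omega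
        have := this i
        omega
    refine ⟨(Nat.dvd_iff_prime_pow_dvd_dvd _ _).mpr fun p k hp hk =>
      (key n (by omega) p k hp hk).mpr hk, fun i hi hin h => ?_⟩
    have : n ∣ i := (Nat.dvd_iff_prime_pow_dvd_dvd _ _).mpr fun p k hp hk =>
      (key i hi p k hp hk).mp (hk.trans h)
    exact absurd (Nat.le_of_dvd hi this) (by omega)
  · rintro ⟨h1, h2⟩
    have : NeZero n := ⟨by omega⟩
    have hstep : ∀ i j k, f i ≡ f j [MOD n] → f (i + k) ≡ f (j + k) [MOD n] := by
      intro i j k h
      induction k with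
      | zero => exact h
      | succ k ih => rw [← add_assoc, ← add_assoc, hsucc, hsucc]; exact (ih.mul_left _).add_right _
    have hlt : ∀ i j, i < j → j < n → ¬ f i ≡ f j [MOD n] := by
      intro i j hij hj h
      have := hstep i j (n - j) h
      rw [show j + (n - j) = n by omega] at this
      exact h2 (i + (n - j)) (by omega) (by omega)
        ((Nat.modEq_zero_iff_dvd).mp (this.trans ((Nat.modEq_zero_iff_dvd).mpr h1)))
    have hinj : Function.Injective fun i : Fin n => (f i : ZMod n) := by
      intro i j h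
      have h := (ZMod.natCast_eq_natCast_iff _ _ _).mp h
      rcases lt_trichotomy i j with h3 | h3 | h3
      · exact absurd h (hlt _ _ h3 j.2)
      · exact h3
      · exact absurd h.symm (hlt _ _ h3 i.2)
    have hsurj : ∀ x : ℕ, ∃ i, f i ≡ x [MOD n] := by
      intro x
      obtain ⟨i, hi⟩ := ((Fintype.bijective_iff_injective_and_card _).mpr
        ⟨hinj, by simp [ZMod.card]⟩).2 (x : ZMod n)
      exact ⟨i, (ZMod.natCast_eq_natCast_iff _ _ _).mp hi⟩
    have hA : ∀ r : ℕ, r.Prime → r ∣ n → r ∣ t := by
      intro r hr hrn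
      by_contra hrt
      have := Fact.mk hr
      have ht0 : (t : ZMod r) ≠ 0 := by rwa [Ne, ZMod.natCast_eq_zero_iff]
      obtain ⟨i, hi⟩ := hsurj (-(t : ZMod r)⁻¹).val
      have hi' := (ZMod.natCast_eq_natCast_iff _ _ _).mpr (hi.of_dvd hrn)
      rw [ZMod.natCast_zmod_val] at hi'
      have h3 := congrArg (Nat.cast : ℕ → ZMod r) (hgeom i)
      push_cast at h3
      rw [hi', neg_mul, inv_mul_cancel₀ ht0, neg_add_cancel] at h3
      have h4 := eq_zero_of_pow_eq_zero h3.symm
      have h5 := congrArg (Nat.cast : ℕ → ZMod r) (hsucc (n - 1))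
      rw [show n - 1 + 1 = n by omega, (ZMod.natCast_eq_zero_iff _ _).mpr (hrn.trans h1)] at h5
      push_cast at h5
      rw [h4] at h5
      simp at h5
    refine ⟨hA, fun h4 => ?_⟩
    obtain ⟨u, rfl⟩ := hA 2 Nat.prime_two ((by norm_num : 2 ∣ 4).trans h4)
    by_contra hu
    obtain ⟨v, rfl⟩ : ∃ v, u = 2 * v + 1 := ⟨u / 2, by omega⟩
    have : ∀ j, f j % 4 = j % 2 := by
      intro j
      induction j with
      | zero => simp [hf]
      | succ j ih =>
        rw [hsucc, show (2 * (2 * v + 1) + 1) * f j + 1 = 3 * f j + 1 + 4 * (v * f j) by ring,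
          Nat.add_mul_mod_self_left]
        rcases Nat.mod_two_eq_zero_or_one j with h | h <;> omega
    obtain ⟨i, hi⟩ := hsurj 2
    have h5 : f i % 4 = 2 % 4 := hi.of_dvd h4
    have := this i
    omega

end Cfsg.Agent.S0694
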