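import Cfsg.Statements.S0699
import Cfsg.Agent.Lib.Hall.MTrans
import Cfsg.Agent.S0695

set_option autoImplicit false
open Cfsg

namespace Cfsg.Agent.S0699

open scoped Pointwise commutatorElement
open Cfsg.Lib Cfsg.Lib.Hall

open Subgroup MulAction Cfsg.Lib.Amalg

/-- Wagner's Theorem: a non-trivial normal subgroup of a triply transitive permutation group of odd degree at least 5 is triply transitive. -/
theorem result {α : Type*} [Fintype α] [DecidableEq α] (G : Subgroup (Equiv.Perm α)) (hodd : Odd (Fintype.card α)) (h5 : 5 ≤ Fintype.card α) (hG : MulAction.IsMultiplyPretransitive G α 3) (N : Subgroup G) [N.Normal] (hN : N ≠ ⊥) : MulAction.IsMultiplyPretransitive N α 3 := by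
  haveI := (is_one_preprimitive_iff G α).mp (mp_of_mt (j := 1) hG (by omega) (by rw [Nat.card_eq_fintype_card]; omega))
  haveI := Perm.isPretransitive_of_normal (α := α) N hN
  obtain ⟨a, b, hab⟩ := Fintype.one_lt_card_iff.mp (show 1 < Fintype.card α by omega)
  have hodd' : ¬ 2 ∣ Nat.card (Set.univ : Set α) := by rw [Nat.card_univ, Nat.card_eq_fintype_card]; exact hodd.not_two_dvd_nat
  have h2 : IsMultiplyPretransitive N α 2 := (jordan_normal 1 (by rw [Nat.card_eq_fintype_card]; omega) hG N hN).elim id fun H => by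
    have h3 := mp_of_mt (j := 2) hG (by omega) (by rw [Nat.card_eq_fintype_card]; omega)
    rcases Cfsg.Agent.S0695.result (by omega) h3 N inferInstance H.2 with e | ⟨-, -, m, e⟩
    · omega
    · rcases m with _ | m
      · omega
      · exact absurd (e ▸ hodd) (by simp [pow_succ])
  have hK : ∀ g : G, g ∈ N ⊓ stabilizer G ({a, b} : Set α) ↔ g ∈ N ∧ ((g • a = a ∧ g • b = b) ∨ (g • a = b ∧ g • b = a)) := fun g => by
    rw [mem_inf, mem_stabilizer_iff, Set.smul_set_insert, Set.smul_set_singleton, Set.pair_eq_pair_iff]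
  generalize N ⊓ stabilizer G ({a, b} : Set α) = K at hK
  have k1 : ∀ T, Syl 2 T K → ¬ T ≤ stabilizer G a := fun T hT e => hT.not_dvd_relIndex_of_le e (by
    obtain ⟨t, t1, t2⟩ := is_two_pretransitive_iff.mp h2 hab hab.symm
    rw [← card_orbit_subgroup, show orbit K a = {a, b} from Set.Subset.antisymm
      (fun _ ⟨g, e⟩ => e ▸ ((hK g).mp g.2).2.imp And.left And.left)
      (Set.pair_subset (mem_orbit_self a) ⟨⟨t, (hK t).mpr ⟨t.2, Or.inr ⟨t1, t2⟩⟩⟩, t1⟩), Nat.card_coe_set_eq, Set.ncard_pair hab])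
  obtain ⟨S, hS⟩ := exists_syl 2 K
  obtain ⟨c, -, hc⟩ := Perm.exists_fixed_of_not_dvd hS.isPGroup (Set.univ : Set α) (fun _ _ _ _ => trivial) hodd'
  obtain ⟨s, s1, s2⟩ := not_forall₂.mp (k1 S hS)
  have s3 := (((hK s).mp (hS.le s1)).2.resolve_left fun e => s2 e.1)
  have k2 : ∀ d, (∀ g ∈ S, g • d = d) → d = c := fun d hd => by_contra fun e => by
    obtain ⟨g, g1, g2⟩ := is_two_pretransitive_iff.mp h2 e hab
    have : ∀ x ∈ cj (g : G) S, x • a = a ∧ x • b = b := fun x hx => by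
      obtain ⟨y, hy, rfl⟩ := mem_cj'.mp hx
      rw [← g1, ← g2]
      simp only [Subgroup.smul_def g, mul_smul, inv_smul_smul, hc y hy, hd y hy, and_self]
    exact k1 _ (hS.of_card_ge (isPGroup_cj _ hS.isPGroup) (fun x hx => (hK x).mpr ⟨by
      obtain ⟨y, hy, rfl⟩ := mem_cj'.mp hx
      exact mul_mem (mul_mem g.2 ((hK y).mp (hS.le hy)).1) (inv_mem g.2), Or.inl (this x hx)⟩) (card_cj _ _).ge) fun x hx => (this x hx).1
  have c1 : c ≠ a := fun e => hab (by rw [← s3.1, ← e, hc s s1])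
  have c2 : c ≠ b := fun e => hab (by rw [← s3.2, ← e, hc s s1])
  have k3 : ∀ d, d ≠ a → d ≠ b → ∃ h ∈ N, h • a = a ∧ h • b = b ∧ h • c = d := fun d d1 d2 => by
    obtain ⟨g, g1, g2, g3⟩ := Perm.three_iff.mp hG a b c a b d hab c1.symm c2.symm hab d1.symm d2.symm
    obtain ⟨h, h1, h2⟩ := hS.exists_conj (hS.conj_of_mem_normalizer (g := g) (mem_normalizer_of_cj_le fun x hx => by
      obtain ⟨y, hy, rfl⟩ := mem_cj'.mp hx
      refine (hK _).mpr ⟨‹N.Normal›.conj_mem _ ((hK y).mp hy).1 g, ?_⟩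
      rw [mul_smul, mul_smul, mul_smul, mul_smul, inv_smul_eq_iff.mpr g1.symm, inv_smul_eq_iff.mpr g2.symm]
      rcases ((hK y).mp hy).2 with e | e <;> simp [e.1, e.2, g1, g2]))
    have e : h • c = d := (inv_smul_eq_iff.mp (k2 (h⁻¹ • d) fun x hx => by
      obtain ⟨y, hy, e⟩ := mem_cj'.mp (h2 ▸ conj_mem_cj h hx)
      rw [eq_inv_smul_iff, smul_smul, smul_smul, ← e, ← g3, mul_smul, inv_smul_smul, mul_smul, hc y hy])).symm
    rcases ((hK h).mp h1).2 with e1 | e1
    · exact ⟨h, ((hK h).mp h1).1, e1.1, e1.2, e⟩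
    · exact ⟨h * s, ((hK _).mp (mul_mem h1 (hS.le s1))).1, by rw [mul_smul, s3.1, e1.2], by rw [mul_smul, s3.2, e1.1],
        by rw [mul_smul, hc s s1, e]⟩
  refine Perm.mt_succ_of_exists h2 {a, b} (Finset.card_pair hab) fun x hx y hy => ?_
  simp only [Finset.mem_insert, Finset.mem_singleton, not_or] at hx hy
  obtain ⟨g, g0, g1, g2, rfl⟩ := k3 x hx.1 hx.2
  obtain ⟨h, h0, h1, h2, rfl⟩ := k3 y hy.1 hy.2
  refine ⟨⟨h * g⁻¹, mul_mem h0 (inv_mem g0)⟩, fun z hz => ?_, by rw [Subgroup.mk_smul, mul_smul, inv_smul_smul]⟩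
  rw [Subgroup.mk_smul, mul_smul]
  rcases Finset.mem_insert.mp hz with rfl | hz
  · rw [inv_smul_eq_iff.mpr g1.symm, h1]
  · rw [Finset.mem_singleton.mp hz, inv_smul_eq_iff.mpr g2.symm, h2]

end Cfsg.Agent.S0699
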