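import Cfsg.Statements.S0701
import Mathlib.Tactic

set_option autoImplicit false
open Cfsg

namespace Cfsg.Agent.S0701

/-- The centraliser in the full symmetric group of a transitive permutation group `G` is semiregular, and it is transitive if and only if `G` is regular. -/
theorem result {α : Type*} (G : Subgroup (Equiv.Perm α)) [MulAction.IsPretransitive G α] : (∀ c ∈ Subgroup.centralizer (G : Set (Equiv.Perm α)), ∀ a : α, c a = a → c = 1) ∧ (MulAction.IsPretransitive (Subgroup.centralizer (G : Set (Equiv.Perm α))) α ↔ ∀ a : α, MulAction.stabilizer G a = ⊥) := by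
  have h1 : ∀ c ∈ Subgroup.centralizer (G : Set (Equiv.Perm α)), ∀ a : α, c a = a → c = 1 := by
    intro c hc a ha
    ext x
    obtain ⟨g, hg⟩ := MulAction.exists_smul_eq G a x
    have hg' : (g : Equiv.Perm α) a = x := hg
    have := Subgroup.mem_centralizer_iff.mp hc g g.2
    have h2 := congrArg (fun σ : Equiv.Perm α => σ a) this
    simp only [Equiv.Perm.coe_mul, Function.comp_apply, ha, hg'] at h2
    simpa using h2.symm
  refine ⟨h1, ?_, ?_⟩
  · intro ht a
    rw [eq_bot_iff]
    intro g hg
    have hg' : (g : Equiv.Perm α) a = a := hg
    rw [Subgroup.mem_bot]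
    ext x
    obtain ⟨c, hc⟩ := MulAction.exists_smul_eq (Subgroup.centralizer (G : Set (Equiv.Perm α))) a x
    have hc' : (c : Equiv.Perm α) a = x := hc
    have := Subgroup.mem_centralizer_iff.mp c.2 g g.2
    have h2 := congrArg (fun σ : Equiv.Perm α => σ a) this
    simp only [Equiv.Perm.coe_mul, Function.comp_apply, hg', hc'] at h2
    simpa using h2
  · intro hreg
    constructor
    intro a b
    have huniq : ∀ (x : α) (g h : G), g • x = h • x → g = h := by
      intro x g h hgh
      have : h⁻¹ * g ∈ MulAction.stabilizer G x := by
        rw [MulAction.mem_stabilizer_iff, mul_smul, hgh, inv_smul_smul]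
      rw [hreg x, Subgroup.mem_bot, inv_mul_eq_one] at this
      exact this.symm
    choose f hf using fun x => MulAction.exists_smul_eq G a x
    choose f' hf' using fun x => MulAction.exists_smul_eq G b x
    let c : Equiv.Perm α :=
      { toFun := fun x => f x • b
        invFun := fun x => f' x • a
        left_inv := fun x => by
          have : f' (f x • b) = f x := huniq b _ _ (hf' _)
          simp only [this, hf]
        right_inv := fun x => by
          have : f (f' x • a) = f' x := huniq a _ _ (hf _)
          simp only [this, hf'] }
    have hc : c ∈ Subgroup.centralizer (G : Set (Equiv.Perm α)) := by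
      rw [Subgroup.mem_centralizer_iff]
      intro g hg
      ext x
      have : f (g x) = ⟨g, hg⟩ * f x := huniq a _ _ (by rw [hf, mul_smul, hf]; rfl)
      change g (f x • b) = f (g x) • b
      rw [this, mul_smul]; rfl
    refine ⟨⟨c, hc⟩, ?_⟩
    change f a • b = b
    have : f a = 1 := huniq a _ _ (by rw [hf, one_smul])
    rw [this, one_smul]

end Cfsg.Agent.S0701
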