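import Cfsg.Statements.S0702
import Cfsg.Agent.Lib.Perm.Basic

set_option autoImplicit false
open Cfsg

namespace Cfsg.Agent.S0702

/-- For a transitive permutation group `G` on a finite set, the centraliser of `G` in the symmetric group is isomorphic to `N_G(G_ω)/G_ω`, and its orbit of `ω` is the set of fixed points of `G_ω`. -/
theorem result {α : Type*} [Finite α] (G : Subgroup (Equiv.Perm α)) [MulAction.IsPretransitive G α] (a : α) : Nonempty (Subgroup.centralizer (G : Set (Equiv.Perm α)) ≃* Subgroup.normalizer ((MulAction.stabilizer G a : Subgroup G) : Set G) ⧸ (MulAction.stabilizer G a).subgroupOf (Subgroup.normalizer ((MulAction.stabilizer G a : Subgroup G) : Set G))) ∧ MulAction.orbit (Subgroup.centralizer (G : Set (Equiv.Perm α))) a = MulAction.fixedPoints (MulAction.stabilizer G a) α := by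
  set H := MulAction.stabilizer G a with hH
  set N := Subgroup.normalizer (H : Set G) with hN
  choose f hf using fun x => MulAction.exists_smul_eq G a x
  have hwd : ∀ n ∈ N, ∀ g : G, f (g • a) • n • a = g • n • a := by
    intro n hn g
    have h1 : g⁻¹ * f (g • a) ∈ H := by
      rw [hH, MulAction.mem_stabilizer_iff, mul_smul, hf, inv_smul_smul]
    have h2 : n⁻¹ * (g⁻¹ * f (g • a)) * n ∈ H := (Subgroup.mem_normalizer_iff''.mp hn _).mp h1
    rw [hH, MulAction.mem_stabilizer_iff, mul_smul, mul_smul, mul_smul, inv_smul_eq_iff,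
      inv_smul_eq_iff] at h2
    exact h2
  let φ : N →* Equiv.Perm α :=
    { toFun := fun n =>
        { toFun := fun x => f x • (n : G)⁻¹ • a
          invFun := fun x => f x • (n : G) • a
          left_inv := fun x => by
            simp only
            rw [← mul_smul (f x), hwd n n.2, mul_smul, inv_smul_smul, hf]
          right_inv := fun x => by
            simp only
            rw [← mul_smul (f x), hwd _ (N.inv_mem n.2), mul_smul, smul_inv_smul, hf] }
      map_one' := by ext x; simp [hf]
      map_mul' := fun n m => by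
        ext x
        change f x • ((n : G) * m)⁻¹ • a = f (f x • (m : G)⁻¹ • a) • (n : G)⁻¹ • a
        rw [← mul_smul (f x) (m : G)⁻¹, hwd _ (N.inv_mem n.2), mul_inv_rev, mul_smul, mul_smul] }
  have hφ : ∀ (n : N) (g : G), φ n (g • a) = g • (n : G)⁻¹ • a := fun n g => hwd _ (N.inv_mem n.2) g
  have hker : φ.ker = H.subgroupOf N := by
    ext n
    rw [MonoidHom.mem_ker, Subgroup.mem_subgroupOf, hH, MulAction.mem_stabilizer_iff]
    constructor
    · intro h
      have := hφ n 1
      rw [h, one_smul, one_smul, eq_comm, inv_smul_eq_iff] at this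
      exact this.symm
    · intro h
      ext x
      rw [← hf x, hφ, inv_smul_eq_iff.mpr h.symm]; rfl
  have hcomm : ∀ c ∈ Subgroup.centralizer (G : Set (Equiv.Perm α)), ∀ (g : G) (x : α), c (g • x) = g • c x := by
    intro c hc g x
    exact (congrArg (fun σ : Equiv.Perm α => σ x) (Subgroup.mem_centralizer_iff.mp hc g g.2)).symm
  have hfixN : ∀ n : G, (∀ h ∈ H, h • n • a = n • a) → n ∈ N := by
    intro n hn
    rw [← inv_inv n]
    apply Subgroup.inv_mem
    apply Subgroup.mem_normalizer_fintype
    intro h hh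
    have := hn h hh
    change (n⁻¹ * h * n⁻¹⁻¹) • a = a
    rw [inv_inv, mul_smul, mul_smul, this, inv_smul_smul]
  have hrange : φ.range = Subgroup.centralizer (G : Set (Equiv.Perm α)) := by
    ext c
    constructor
    · rintro ⟨n, rfl⟩
      rw [Subgroup.mem_centralizer_iff]
      intro g hg
      ext x
      change (⟨g, hg⟩ : G) • φ n x = φ n ((⟨g, hg⟩ : G) • x)
      rw [← hf x, ← mul_smul, hφ, hφ, mul_smul]
    · intro hc
      have hn : f (c a) ∈ N := hfixN _ fun h hh => by
        rw [hf, ← hcomm c hc, MulAction.mem_stabilizer_iff.mp hh]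
      refine ⟨⟨_, N.inv_mem hn⟩, ?_⟩
      ext x
      rw [← hf x, hφ, inv_inv, hf, hcomm c hc]
  refine ⟨⟨((MulEquiv.subgroupCongr hrange).symm.trans (QuotientGroup.quotientKerEquivRange φ).symm).trans
    (QuotientGroup.quotientMulEquivOfEq hker)⟩, ?_⟩
  ext x
  constructor
  · rintro ⟨c, rfl⟩ h
    change (h : G) • (c : Equiv.Perm α) a = (c : Equiv.Perm α) a
    rw [← hcomm c c.2, MulAction.mem_stabilizer_iff.mp h.2]
  · intro hx
    have hn : f x ∈ N := hfixN _ fun h hh => by rw [hf]; exact hx ⟨h, hh⟩
    refine ⟨⟨φ ⟨_, N.inv_mem hn⟩, hrange ▸ ⟨_, rfl⟩⟩, ?_⟩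
    have := hφ ⟨_, N.inv_mem hn⟩ 1
    rw [one_smul, one_smul, inv_inv, hf] at this
    exact this

end Cfsg.Agent.S0702
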