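import Cfsg.Statements.S0703
import Cfsg.Agent.Lib.Perm.Basic
import Cfsg.Agent.S0701

set_option autoImplicit false
open Cfsg

namespace Cfsg.Agent.S0703

/-- An abelian transitive minimal normal subgroup `M` of a permutation group on a finite set is self-centralising in the symmetric group, regular, elementary abelian, and is the unique minimal normal subgroup. -/
theorem result {α : Type*} [Finite α] (G : Subgroup (Equiv.Perm α)) (M : Subgroup G) [M.Normal] (hM : M ≠ ⊥) (hmin : ∀ L : Subgroup G, L.Normal → L ≤ M → L = ⊥ ∨ L = M) (hab : IsMulCommutative M) (htrans : MulAction.IsPretransitive M α) : Subgroup.centralizer ((M.map G.subtype : Subgroup (Equiv.Perm α)) : Set (Equiv.Perm α)) = M.map G.subtype ∧ (∀ a : α, MulAction.stabilizer M a = ⊥) ∧ (∃ p : ℕ, p.Prime ∧ ∀ m ∈ M, m ^ p = 1) ∧ ∀ L : Subgroup G, L.Normal → L ≠ ⊥ → (∀ L' : Subgroup G, L'.Normal → L' ≤ L → L' = ⊥ ∨ L' = L) → L = M := by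
  set M' := M.map G.subtype with hM'
  have htr : MulAction.IsPretransitive M' α := by
    rw [Cfsg.Lib.Perm.isPretransitive_subgroup_iff] at htrans ⊢
    intro a b
    obtain ⟨g, hg, e⟩ := htrans a b
    exact ⟨g, ⟨g, hg, rfl⟩, e⟩
  have hcomm : ∀ x ∈ M, ∀ y ∈ M, x * y = y * x := fun x hx y hy =>
    congrArg Subtype.val (hab.is_comm.comm (⟨x, hx⟩ : M) ⟨y, hy⟩)
  have hle : M' ≤ Subgroup.centralizer (M' : Set (Equiv.Perm α)) := by
    rintro _ ⟨x, hx, rfl⟩
    rw [Subgroup.mem_centralizer_iff]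
    rintro _ ⟨y, hy, rfl⟩
    exact congrArg Subtype.val (hcomm y hy x hx)
  have hsr := (Cfsg.Agent.S0701.result M').1
  have hC : Subgroup.centralizer (M' : Set (Equiv.Perm α)) = M' := by
    refine le_antisymm (fun c hc => ?_) hle
    cases isEmpty_or_nonempty α with
    | inl h => rw [Subsingleton.elim c 1]; exact M'.one_mem
    | inr h =>
      obtain ⟨a⟩ := h
      obtain ⟨m, hm⟩ := MulAction.exists_smul_eq M' a (c a)
      have hm' : (m : Equiv.Perm α) a = c a := hm
      have := hsr ((m : Equiv.Perm α)⁻¹ * c) (Subgroup.mul_mem _ (Subgroup.inv_mem _ (hle m.2)) hc) a (by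
        simp [← hm'])
      rw [inv_mul_eq_one] at this
      exact this ▸ m.2
  refine ⟨hC, fun a => ?_, ?_, ?_⟩
  · rw [Cfsg.Lib.Perm.stabilizer_subgroup_eq_bot_iff]
    intro g hg e
    exact Subtype.ext (hsr g (hle ⟨g, hg, rfl⟩) a e)
  · have hnt : Nontrivial M := (Subgroup.nontrivial_iff_ne_bot M).mpr hM
    obtain ⟨p, hp, hpd⟩ := Nat.exists_prime_and_dvd (Finite.one_lt_card (α := M)).ne'
    have := Fact.mk hp
    obtain ⟨x, hx⟩ := exists_prime_orderOf_dvd_card' p hpd
    let L : Subgroup G :=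
      { carrier := {m | m ∈ M ∧ m ^ p = 1}
        one_mem' := ⟨M.one_mem, one_pow p⟩
        mul_mem' := fun {a b} ha hb => ⟨M.mul_mem ha.1 hb.1, by
          rw [Commute.mul_pow (hcomm a ha.1 b hb.1), ha.2, hb.2, one_mul]⟩
        inv_mem' := fun {a} ha => ⟨M.inv_mem ha.1, by rw [inv_pow, ha.2, inv_one]⟩ }
    have hL : L.Normal := ⟨fun n hn g => ⟨Subgroup.Normal.conj_mem inferInstance n hn.1 g, by
      rw [conj_pow, hn.2]; simp⟩⟩
    rcases hmin L hL (fun m hm => hm.1) with h | h
    · exfalso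
      have hxL : (x : G) ∈ L := ⟨x.2, by
        rw [← Subgroup.coe_pow, ← hx, pow_orderOf_eq_one]; rfl⟩
      rw [h, Subgroup.mem_bot] at hxL
      have : x = 1 := Subtype.ext hxL
      rw [this, orderOf_one] at hx
      exact hp.one_lt.ne hx
    · exact ⟨p, hp, fun m hm => (h.symm ▸ hm : m ∈ L).2⟩
  · intro L hL hLb hLmin
    rcases hmin (L ⊓ M) inferInstance inf_le_right with h | h
    · exfalso
      apply hLb
      rw [eq_bot_iff, ← h]
      intro l hl
      refine ⟨hl, ?_⟩
      have : (l : Equiv.Perm α) ∈ Subgroup.centralizer (M' : Set (Equiv.Perm α)) := by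
        rw [Subgroup.mem_centralizer_iff]
        rintro _ ⟨y, hy, rfl⟩
        exact congrArg Subtype.val (Subgroup.commute_of_normal_of_disjoint M L inferInstance hL
          (by rw [disjoint_iff, inf_comm, h]) y l hy hl).eq
      rw [hC] at this
      obtain ⟨y, hy, e⟩ := this
      rwa [← show y = l from Subtype.ext e]
    · rcases hLmin M inferInstance (h ▸ inf_le_left) with h1 | h1
      · exact absurd h1 hM
      · exact h1.symm

end Cfsg.Agent.S0703
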