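import Cfsg.Statements.S0704
import Cfsg.Agent.Lib.Perm.Regular
import Cfsg.Agent.S0701

set_option autoImplicit false
open Cfsg

namespace Cfsg.Agent.S0704

theorem aux {α : Type*} (G : Subgroup (Equiv.Perm α)) (M N : Subgroup G)
    (hc : ∀ m ∈ M, ∀ n ∈ N, m * n = n * m) (hMt : MulAction.IsPretransitive M α)
    (hNt : MulAction.IsPretransitive N α) : (∀ a : α, MulAction.stabilizer M a = ⊥) ∧
    Subgroup.centralizer ((M.map G.subtype : Subgroup (Equiv.Perm α)) : Set (Equiv.Perm α)) = N.map G.subtype := by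
  have htr : MulAction.IsPretransitive (M.map G.subtype) α := by
    rw [Cfsg.Lib.Perm.isPretransitive_subgroup_iff] at hMt ⊢
    intro a b
    obtain ⟨g, hg, e⟩ := hMt a b
    exact ⟨g, ⟨g, hg, rfl⟩, e⟩
  have hle : N.map G.subtype ≤ Subgroup.centralizer ((M.map G.subtype : Subgroup (Equiv.Perm α)) : Set (Equiv.Perm α)) := by
    rintro _ ⟨n, hn, rfl⟩
    rw [Subgroup.mem_centralizer_iff]
    rintro _ ⟨m, hm, rfl⟩
    exact congrArg Subtype.val (hc m hm n hn)
  rw [Cfsg.Lib.Perm.isPretransitive_subgroup_iff] at hNt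
  constructor
  · intro a
    rw [Cfsg.Lib.Perm.stabilizer_subgroup_eq_bot_iff]
    intro m hm e
    ext x
    obtain ⟨n, hn, rfl⟩ := hNt a x
    change m • n • a = n • a
    rw [← mul_smul, hc m hm n hn, mul_smul, e]
  · refine le_antisymm (fun c hc' => ?_) hle
    cases isEmpty_or_nonempty α with
    | inl h => rw [Subsingleton.elim c 1]; exact Subgroup.one_mem _
    | inr h =>
      obtain ⟨a⟩ := h
      obtain ⟨n, hn, e⟩ := hNt a (c a)
      have e' : (n : Equiv.Perm α) a = c a := e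
      have := (Cfsg.Agent.S0701.result (M.map G.subtype)).1 ((n : Equiv.Perm α)⁻¹ * c)
        (Subgroup.mul_mem _ (Subgroup.inv_mem _ (hle ⟨n, hn, rfl⟩)) hc') a (by simp [← e'])
      rw [inv_mul_eq_one] at this
      exact ⟨n, hn, this⟩

/-- Two distinct transitive minimal normal subgroups `M`, `N` of a permutation group are regular, non-abelian, isomorphic, each other's centraliser in the symmetric group, and the only minimal normal subgroups. -/
theorem result {α : Type*} (G : Subgroup (Equiv.Perm α)) (M N : Subgroup G) [M.Normal] [N.Normal] (hM : M ≠ ⊥) (hN : N ≠ ⊥) (hMmin : ∀ L : Subgroup G, L.Normal → L ≤ M → L = ⊥ ∨ L = M) (hNmin : ∀ L : Subgroup G, L.Normal → L ≤ N → L = ⊥ ∨ L = N) (hMN : M ≠ N) (hMt : MulAction.IsPretransitive M α) (hNt : MulAction.IsPretransitive N α) : (∀ a : α, MulAction.stabilizer M a = ⊥) ∧ (∀ a : α, MulAction.stabilizer N a = ⊥) ∧ ¬ IsMulCommutative M ∧ Nonempty (M ≃* N) ∧ Subgroup.centralizer ((M.map G.subtype : Subgroup (Equiv.Perm α))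 : Set (Equiv.Perm α)) = N.map G.subtype ∧ Subgroup.centralizer ((N.map G.subtype : Subgroup (Equiv.Perm α)) : Set (Equiv.Perm α)) = M.map G.subtype ∧ ∀ L : Subgroup G, L.Normal → L ≠ ⊥ → (∀ L' : Subgroup G, L'.Normal → L' ≤ L → L' = ⊥ ∨ L' = L) → L = M ∨ L = N := by
  have hdis : ∀ L : Subgroup G, L.Normal → L ≠ ⊥ → (∀ L' : Subgroup G, L'.Normal → L' ≤ L → L' = ⊥ ∨ L' = L) → L ≠ M → ∀ m ∈ M, ∀ n ∈ L, m * n = n * m := by
    intro L hL hLb hLmin hLM m hm n hn
    refine (Subgroup.commute_of_normal_of_disjoint M L inferInstance hL ?_ m n hm hn).eq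
    rw [disjoint_iff]
    rcases hMmin (M ⊓ L) inferInstance inf_le_left with h | h
    · exact h
    · rcases hLmin M inferInstance (h ▸ inf_le_right) with h1 | h1
      · exact absurd h1 hM
      · exact absurd h1.symm hLM
  have hc := hdis N inferInstance hN hNmin hMN.symm
  obtain ⟨h1, h2⟩ := aux G M N hc hMt hNt
  obtain ⟨h3, h4⟩ := aux G N M (fun n hn m hm => (hc m hm n hn).symm) hNt hMt
  have hleN : ∀ L : Subgroup G, (∀ m ∈ M, ∀ n ∈ L, m * n = n * m) → L ≤ N := by
    intro L hL l hl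
    have : (l : Equiv.Perm α) ∈ N.map G.subtype := by
      rw [← h2, Subgroup.mem_centralizer_iff]
      rintro _ ⟨m, hm, rfl⟩
      exact congrArg Subtype.val (hL m hm l hl)
    obtain ⟨y, hy, e⟩ := this
    rwa [← show y = l from Subtype.ext e]
  refine ⟨h1, h3, fun hab => ?_, ?_, h2, h4, fun L hL hLb hLmin => ?_⟩
  · have := hleN M fun x hx y hy => congrArg Subtype.val (hab.is_comm.comm (⟨x, hx⟩ : M) ⟨y, hy⟩)
    rcases hNmin M inferInstance this with h | h
    · exact hM h
    · exact hMN h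
  · cases isEmpty_or_nonempty α with
    | inl h =>
      exact absurd (Subsingleton.elim _ _) hMN
    | inr h =>
      obtain ⟨a⟩ := h
      choose f hf using fun m : M => MulAction.exists_smul_eq N a ((m : G)⁻¹ • a)
      have hf' : ∀ m, (f m : G) • a = (m : G)⁻¹ • a := hf
      let φ : M →* N := MonoidHom.mk' f fun x y => Subtype.ext
        (Cfsg.Lib.Perm.eq_of_smul_eq_of_semiregular (h3 a) (f (x * y)).2 (f x * f y).2 (by
          rw [hf', Subgroup.coe_mul, Subgroup.coe_mul, mul_smul, hf', ← mul_smul,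
            ← hc _ (M.inv_mem y.2) _ (f x).2, mul_smul, hf', mul_inv_rev, mul_smul]))
      refine ⟨MulEquiv.ofBijective φ ⟨fun x y e => ?_, fun n => ?_⟩⟩
      · have e' : f x = f y := e
        have := hf' x
        rw [e', hf'] at this
        exact Subtype.ext (inv_injective (Cfsg.Lib.Perm.eq_of_smul_eq_of_semiregular (h1 a)
          (M.inv_mem y.2) (M.inv_mem x.2) this)).symm
      · obtain ⟨m, hm⟩ := MulAction.exists_smul_eq M a ((n : G) • a)
        refine ⟨m⁻¹, Subtype.ext (Cfsg.Lib.Perm.eq_of_smul_eq_of_semiregular (h3 a) (f m⁻¹).2 n.2 ?_)⟩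
        change (f m⁻¹ : G) • a = _
        rw [hf', Subgroup.coe_inv, inv_inv]; exact hm
  · by_cases hLM : L = M
    · exact Or.inl hLM
    · rcases hNmin L hL (hleN L (hdis L hL hLb hLmin hLM)) with h | h
      · exact absurd h hLb
      · exact Or.inr h

end Cfsg.Agent.S0704
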