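import Cfsg.Statements.S0705
import Cfsg.Agent.Lib.Perm.Basic

set_option autoImplicit false
open scoped Pointwise
open Cfsg

namespace Cfsg.Agent.S0705

theorem gen {α : Type*} [Fintype α] [DecidableEq α] (G : Subgroup (Equiv.Perm α)) {k : ℕ} (hgen : ∀ s : Finset α, s.card = k + 1 → ∀ σ : Equiv.Perm ↥s, ∃ g ∈ G, ∀ x : ↥s, g (x : α) = σ x)
    (t : Finset α) (ht : t.card = k + 1) (f : α → α) (hf : Set.InjOn f t) (hm : ∀ x ∈ t, f x ∈ t) :
    ∃ g ∈ G, ∀ x ∈ t, g x = f x := by
  let f' : t → t := fun x => ⟨f x, hm x x.2⟩
  have hinj : Function.Injective f' := fun x y h => Subtype.ext (hf x.2 y.2 (congrArg Subtype.val h))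
  obtain ⟨g, hg, h⟩ := hgen t ht (Equiv.ofBijective f' hinj.bijective_of_finite)
  exact ⟨g, hg, fun x hx => h ⟨x, hx⟩⟩

/-- A generously `k`-transitive permutation group (every `(k+1)`-subset has its full symmetric group induced by the setwise stabiliser) of degree greater than `k` is `k`-transitive, and for a `k`-subset the setwise and pointwise stabilisers have the same orbits outside it. -/
theorem result {α : Type*} [Fintype α] [DecidableEq α] (G : Subgroup (Equiv.Perm α)) {k : ℕ} (hk : k < Fintype.card α) (hgen : ∀ s : Finset α, s.card = k + 1 → ∀ σ : Equiv.Perm ↥s, ∃ g ∈ G, ∀ x : ↥s, g (x : α) = σ x) : MulAction.IsMultiplyPretransitive G α k ∧ ∀ s : Finset α, s.card = k → ∀ a b : α, a ∉ s → b ∉ s → (∃ g ∈ G, g • s = s ∧ g a = b) → ∃ g ∈ G, (∀ x ∈ s, g x = x) ∧ g a = b := by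
  constructor
  · have : ∀ j ≤ k, MulAction.IsMultiplyPretransitive G α j := by
      intro j
      induction j with
      | zero => intro _; exact MulAction.is_zero_pretransitive'
      | succ j ih =>
        intro hj
        refine Cfsg.Lib.Perm.mt_succ_of_forall (ih (by omega)) fun s hs a ha b hb => ?_
        obtain ⟨t, ht, -, htc⟩ := Finset.exists_subsuperset_card_eq (s := insert a (insert b s))
          (t := Finset.univ) (n := k + 1) (Finset.subset_univ _)
          ((Finset.card_insert_le _ _).trans (by have := Finset.card_insert_le b s; omega))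
          (by simpa using hk)
        obtain ⟨g, hg, h⟩ := gen G hgen t htc (Equiv.swap a b) (Equiv.swap a b).injective.injOn (by
          intro x hx
          rw [Equiv.swap_apply_def]
          split_ifs
          · exact ht (by simp)
          · exact ht (by simp)
          · exact hx)
        refine ⟨⟨g, hg⟩, fun x hx => ?_, ?_⟩
        · change g x = x
          rw [h x (ht (by simp [hx])), Equiv.swap_apply_of_ne_of_ne]
          · rintro rfl; exact ha hx
          · rintro rfl; exact hb hx
        · change g a = b
          rw [h a (ht (by simp)), Equiv.swap_apply_left]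
    exact this k le_rfl
  · rintro s hs a b ha hb ⟨g, hg, hgs, hab⟩
    have hmem : ∀ x ∈ s, g⁻¹ x ∈ s := by
      intro x hx
      rw [← hgs, Finset.mem_smul_finset] at hx
      obtain ⟨y, hy, rfl⟩ := hx
      simpa using hy
    obtain ⟨h, hh, e⟩ := gen G hgen (insert a s) (by rw [Finset.card_insert_of_notMem ha, hs])
      (fun x => if x = a then a else g⁻¹ x) (by
        intro x hx y hy hxy
        simp only [Finset.coe_insert, Set.mem_insert_iff, Finset.mem_coe] at hx hy
        by_cases h1 : x = a <;> by_cases h2 : y = a
        · rw [h1, h2]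
        · simp only [h1, h2, if_true, if_false] at hxy
          exact absurd (hxy ▸ hmem y (hy.resolve_left h2)) ha
        · simp only [h1, h2, if_true, if_false] at hxy
          exact absurd (hxy ▸ hmem x (hx.resolve_left h1)) ha
        · simpa [h1, h2] using hxy) (by
        intro x hx
        by_cases h1 : x = a
        · simp [h1]
        · simp only [h1, if_false]
          exact Finset.mem_insert_of_mem (hmem x ((Finset.mem_insert.mp hx).resolve_left h1)))
    refine ⟨g * h, G.mul_mem hg hh, fun x hx => ?_, ?_⟩
    · have hxa : x ≠ a := fun h => ha (h ▸ hx)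
      simp [e x (Finset.mem_insert_of_mem hx), hxa]
    · simp [e a (Finset.mem_insert_self _ _), hab]

end Cfsg.Agent.S0705
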