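import Cfsg.Statements.S0706
import Cfsg.Agent.S0705
import Cfsg.Agent.Lib.Perm.Basic
import Cfsg.Agent.Lib.Amalg.Syl

set_option autoImplicit false
open Cfsg

namespace Cfsg.Agent.S0706

open scoped Pointwise

/-- In a generously `k`-transitive permutation group, for a prime `p ≤ k` and a `k`-set `Γ`, there are no `p` points outside `Γ` lying in distinct orbits of the pointwise stabiliser of `Γ` all of length prime to `p` (at most `p - 1` such orbits). -/
theorem result {α : Type*} [Fintype α] [DecidableEq α] (G : Subgroup (Equiv.Perm α)) {k : ℕ} (hk : k < Fintype.card α) (hgen : ∀ s : Finset α, s.card = k + 1 → ∀ σ : Equiv.Perm ↥s, ∃ g ∈ G, ∀ x : ↥s, g (x : α) = σ x) {p : ℕ} (hp : p.Prime) (hpk : p ≤ k) (Γ : Finset α) (hΓ : Γ.card = k) (f : Fin p → α) (hf : ∀ i, f i ∉ Γ) (hdist : ∀ i j, i ≠ j → f j ∉ MulAction.orbit (fixingSubgroup G (Γ : Set α)) (f i)) : ∃ i, p ∣ Nat.card (MulAction.orbit (fixingSubgroup G (Γ : Set α)) (f i)) := by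
  have := Fact.mk hp
  by_contra hcon
  push Not at hcon
  obtain ⟨hk1, horb⟩ := Cfsg.Agent.S0705.result G hk hgen
  obtain ⟨Δ, hΔ, hΔc⟩ := Finset.exists_subset_card_eq (s := Γ) (n := p) (by omega)
  set H := fixingSubgroup G (Γ : Set α) with hH
  let L : Subgroup G := fixingSubgroup G ((Γ \ Δ : Finset α) : Set α) ⊓
    (MulAction.stabilizer (Equiv.Perm α) Γ).subgroupOf G
  have hL : ∀ g : G, g ∈ L ↔ (∀ x ∈ Γ, x ∉ Δ → g • x = x) ∧ (g : Equiv.Perm α) • Γ = Γ := fun g => by
    simp only [L, Subgroup.mem_inf, mem_fixingSubgroup_iff, Subgroup.mem_subgroupOf,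
      MulAction.mem_stabilizer_iff, Finset.coe_sdiff, Set.mem_diff, Finset.mem_coe, and_imp]
  have hstab : ∀ g : Equiv.Perm α, (∀ x ∈ Γ, g x ∈ Γ) → g • Γ = Γ := fun g hg =>
    Finset.eq_of_subset_of_card_le (fun y hy => by
      obtain ⟨x, hx, rfl⟩ := Finset.mem_smul_finset.mp hy
      exact hg x hx) (by rw [Finset.card_smul_finset])
  have hHL : H ≤ L := fun g hg => by
    have := (mem_fixingSubgroup_iff G).mp hg
    exact (hL g).mpr ⟨fun x hx _ => this x hx, hstab _ fun x hx => by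
      have h1 : (g : Equiv.Perm α) x = x := this x hx
      rwa [h1]⟩
  obtain ⟨Q, hQ⟩ := Cfsg.Lib.Amalg.exists_syl p L
  have hy : ∀ i, ∃ y ∈ MulAction.orbit H (f i), ∀ g ∈ Q, g • y = y := fun i =>
    Cfsg.Lib.Perm.exists_fixed_of_not_dvd hQ.isPGroup _ (by
      rintro g hg _ ⟨h, rfl⟩
      have h1 := (hL _).mp (L.mul_mem (hQ.le hg) (hHL h.2))
      obtain ⟨u, hu, h2, h3⟩ := horb Γ hΓ (f i) (((g * h : G) : Equiv.Perm α) (f i)) (hf i) (fun h4 => hf i (by
        rw [← h1.2] at h4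
        exact Finset.smul_mem_smul_finset_iff _ |>.mp h4)) ⟨_, (g * h : G).2, h1.2, rfl⟩
      exact ⟨⟨⟨u, hu⟩, (mem_fixingSubgroup_iff G).mpr h2⟩, h3⟩) (hcon i)
  choose y hy1 hy2 using hy
  have hyΓ : ∀ i, y i ∉ Γ := fun i h => by
    obtain ⟨g, hg⟩ := hy1 i
    apply hf i
    have h1 := (mem_fixingSubgroup_iff G).mp g.2 _ h
    have h2 : (g : G) • f i = y i := hg
    rwa [smul_left_cancel _ (h2.trans h1.symm)]
  have hyi : Function.Injective y := fun i j e => by
    by_contra hij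
    apply hdist i j hij
    rw [← MulAction.orbit_eq_iff.mpr (hy1 i), e, MulAction.orbit_eq_iff.mpr (hy1 j)]
    exact MulAction.mem_orbit_self _
  have hc : ((Γ \ Δ) ∪ Finset.univ.image y).card = k := by
    rw [Finset.card_union_of_disjoint, Finset.card_sdiff_of_subset hΔ,
      Finset.card_image_of_injective _ hyi]
    · simp; omega
    · rw [Finset.disjoint_right]
      intro x hx hx'
      obtain ⟨i, -, rfl⟩ := Finset.mem_image.mp hx
      exact hyΓ i (Finset.mem_sdiff.mp hx').1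
  have hQle : Q ≤ fixingSubgroup G (((Γ \ Δ) ∪ Finset.univ.image y : Finset α) : Set α) := by
    intro g hg
    rw [mem_fixingSubgroup_iff]
    intro x hx
    rcases Finset.mem_union.mp hx with hx | hx
    · exact ((hL g).mp (hQ.le hg)).1 x (Finset.mem_sdiff.mp hx).1 (Finset.mem_sdiff.mp hx).2
    · obtain ⟨i, -, rfl⟩ := Finset.mem_image.mp hx
      exact hy2 i g hg
  obtain ⟨c, hc1⟩ := Subgroup.card_dvd_of_le hQle
  rw [Cfsg.Lib.Perm.card_fixingSubgroup_eq hk1 _ Γ hc hΓ, ← hH] at hc1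
  have hrel : ∀ A : Subgroup G, A ≤ L → Nat.card A * A.relIndex L = Nat.card L := fun A hA => by
    rw [← Nat.card_congr (Subgroup.subgroupOfEquivOfLe hA).toEquiv]
    exact Subgroup.card_mul_index _
  obtain ⟨δ, hδ⟩ : Δ.Nonempty := Finset.card_pos.mp (by have := hp.pos; omega)
  have horbL : MulAction.orbit L δ = (Δ : Set α) := by
    ext x
    constructor
    · rintro ⟨g, rfl⟩
      have h1 := (hL _).mp g.2
      by_contra hx
      have h2 : (g : G) • δ ∈ Γ := by
        rw [← h1.2]; exact Finset.smul_mem_smul_finset (hΔ hδ)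
      have h3 := smul_left_cancel _ (h1.1 _ h2 hx)
      exact hx (show (g : G) • δ ∈ Δ by rw [h3]; exact hδ)
    · intro hx
      obtain ⟨i⟩ : Nonempty (Fin p) := ⟨⟨0, hp.pos⟩⟩
      obtain ⟨g, hg, h1⟩ := hgen (insert (f i) Γ) (by rw [Finset.card_insert_of_notMem (hf i), hΓ])
        (Equiv.swap ⟨δ, by simp [hΔ hδ]⟩ ⟨x, by simp [hΔ hx]⟩)
      have h2 : ∀ z ∈ Γ, g z = Equiv.swap δ x z := fun z hz => by
        rw [h1 ⟨z, by simp [hz]⟩]
        simp only [Equiv.swap_apply_def, Subtype.mk.injEq]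
        split_ifs <;> rfl
      refine ⟨⟨⟨g, hg⟩, (hL _).mpr ⟨fun z hz hz' => ?_, hstab _ fun z hz => ?_⟩⟩, ?_⟩
      · change g z = z
        rw [h2 z hz, Equiv.swap_apply_of_ne_of_ne (fun e : z = δ => hz' (e ▸ hδ)) (fun e : z = x => hz' (e ▸ hx))]
      · change g z ∈ Γ
        rw [h2 z hz, Equiv.swap_apply_def]
        split_ifs
        · exact hΔ hx
        · exact hΔ hδ
        · exact hz
      · change g δ = x
        rw [h2 δ (hΔ hδ), Equiv.swap_apply_left]
  have hdvd : p ∣ H.relIndex L := by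
    have h1 : (MulAction.stabilizer L δ).index = p := by
      rw [MulAction.index_stabilizer, horbL, Set.ncard_coe_finset, hΔc]
    rw [← h1]
    exact Subgroup.index_dvd_of_le fun g hg => (mem_fixingSubgroup_iff G).mp hg δ (hΔ hδ)
  apply hQ.not_dvd_relIndex
  have h1 := hrel Q hQ.le
  rw [← hrel H hHL, hc1, mul_assoc] at h1
  rw [Nat.eq_of_mul_eq_mul_left Nat.card_pos h1]
  exact hdvd.mul_left _

end Cfsg.Agent.S0706
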