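import Cfsg.Statements.S0707
import Cfsg.Agent.Lib.Perm.Basic

set_option autoImplicit false
open Cfsg

namespace Cfsg.Agent.S0707

/-- In a primitive permutation group, distinct points have distinct stabilisers unless the group is regular of prime degree. -/
theorem result {α : Type*} (G : Subgroup (Equiv.Perm α)) [MulAction.IsPreprimitive G α] (h : ¬ (Nat.card α).Prime ∨ ∃ a : α, MulAction.stabilizer G a ≠ ⊥) {a b : α} (hab : a ≠ b) : MulAction.stabilizer G a ≠ MulAction.stabilizer G b := by
  intro hst
  have : Nontrivial α := ⟨a, b, hab⟩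
  have hB : MulAction.IsBlock G {x : α | MulAction.stabilizer G x = MulAction.stabilizer G a} := by
    rw [MulAction.isBlock_iff_smul_eq_of_mem]
    intro g x hx hgx
    simp only [Set.mem_setOf_eq] at hx hgx
    rw [MulAction.stabilizer_smul_eq_stabilizer_map_conj, hx] at hgx
    ext y
    rw [Set.mem_smul_set_iff_inv_smul_mem]
    simp only [Set.mem_setOf_eq]
    conv_rhs => rw [← smul_inv_smul g y, MulAction.stabilizer_smul_eq_stabilizer_map_conj, ← hgx]
    exact ((Subgroup.map_injective (f := (MulAut.conj g).toMonoidHom) (MulAut.conj g).injective).eq_iff).symm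
  have hall : ∀ x : α, MulAction.stabilizer G x = MulAction.stabilizer G a := by
    rcases hB.subsingleton_or_eq_univ with h1 | h1
    · exact absurd (h1 (show a ∈ _ from rfl) (show b ∈ _ from hst.symm)) hab
    · exact fun x => (h1 ▸ Set.mem_univ x : x ∈ {x : α | MulAction.stabilizer G x = MulAction.stabilizer G a})
  have hbot : ∀ x : α, MulAction.stabilizer G x = ⊥ := by
    intro x
    rw [eq_bot_iff]
    intro g hg
    rw [Subgroup.mem_bot]
    ext y
    have : g ∈ MulAction.stabilizer G y := by rw [hall y, ← hall x]; exact hg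
    exact this
  rcases h with h | ⟨c, hc⟩
  · apply h
    rw [← Cfsg.Lib.Perm.card_eq_of_regular (G := G) a (hbot a)]
    have hco := MulAction.IsPreprimitive.isCoatom_stabilizer_of_isPreprimitive G a
    rw [hbot a] at hco
    have hnt : Nontrivial G := Subgroup.nontrivial_iff.mp ⟨⊥, ⊤, hco.1⟩
    obtain ⟨g, hg⟩ := exists_ne (1 : G)
    have hz : Subgroup.zpowers g = ⊤ := hco.2 _ (bot_lt_iff_ne_bot.mpr (by simpa using hg))
    have : IsCyclic G := ⟨⟨g, fun x => by change x ∈ Subgroup.zpowers g; rw [hz]; trivial⟩⟩
    letI : CommGroup G := IsCyclic.commGroup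
    have : IsSimpleGroup G := ⟨fun H _ => by
      by_cases hH : H = ⊥
      · exact Or.inl hH
      · exact Or.inr (hco.2 _ (bot_lt_iff_ne_bot.mpr hH))⟩
    exact IsSimpleGroup.prime_card
  · exact hc (hbot c)

end Cfsg.Agent.S0707
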