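import Cfsg.Statements.S0708
import Cfsg.Agent.Lib.Hall.Half
import Cfsg.Agent.Lib.Golay.Jordan

set_option autoImplicit false
open Cfsg

namespace Cfsg.Agent.S0708

open Subgroup MulAction Cfsg.Lib

/-- Tits' argument: a sharply 4-transitive group (no finiteness assumed) has finite degree at most 11, and at most 6 when the degree is even. -/
theorem result {G : Type*} [Group G] {Ω : Type*} [MulAction G Ω] (h4 : MulAction.IsMultiplyPretransitive G Ω 4) (hsharp : ∀ x : Fin 4 ↪ Ω, MulAction.stabilizer G x = ⊥) (hne : Nonempty (Fin 4 ↪ Ω)) : Finite Ω ∧ Nat.card Ω ≤ 11 ∧ (Even (Nat.card Ω) → Nat.card Ω ≤ 6) := by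
  classical
  have hx : ∀ {a b c d : Ω} {g h : G}, Function.Injective ![a, b, c, d] → g • a = h • a → g • b = h • b → g • c = h • c →
      g • d = h • d → g = h := fun {a b c d g h} hi e1 e2 e3 e4 => by
    have : h⁻¹ * g ∈ stabilizer G (⟨_, hi⟩ : Fin 4 ↪ Ω) := Function.Embedding.ext fun i => by
      show (h⁻¹ * g) • ![a, b, c, d] i = ![a, b, c, d] i
      rw [mul_smul, inv_smul_eq_iff]
      fin_cases i <;> assumption
    rw [hsharp, mem_bot] at this
    exact (inv_mul_eq_one.mp this).symm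
  have ht : ∀ {a b c d a' b' c' d' : Ω}, Function.Injective ![a, b, c, d] → Function.Injective ![a', b', c', d'] →
      ∃ g : G, g • a = a' ∧ g • b = b' ∧ g • c = c' ∧ g • d = d' := fun h1 h2 =>
    (Perm.mt_iff.mp h4 _ _ h1 h2).imp fun g hg => ⟨hg 0, hg 1, hg 2, hg 3⟩
  have hf : ∀ g : G, g ≠ 1 → (fixedBy Ω g).Finite := fun g hg => by_contra fun h => by
    have x : Fin 4 ↪ fixedBy Ω g := Fin.valEmbedding.trans (Set.Infinite.natEmbedding _ h)
    have : g ∈ stabilizer G (x.trans (Function.Embedding.subtype _)) := Function.Embedding.ext fun i => (x i).2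
    exact hg (mem_bot.mp (hsharp _ ▸ this))
  obtain ⟨x⟩ := hne
  have x0 : ∀ {i j}, i ≠ j → x i ≠ x j := fun h => x.injective.ne h
  have x1 : Function.Injective ![x 0, x 1, x 2, x 3] :=
    Perm.inj_four (x0 (by decide)) (x0 (by decide)) (x0 (by decide)) (x0 (by decide)) (x0 (by decide)) (x0 (by decide))
  obtain ⟨c, c0, c1, c2, c3⟩ := ht (a' := x 1) (b' := x 0) (c' := x 2) (d' := x 3) x1
    (Perm.inj_four (x0 (by decide)) (x0 (by decide)) (x0 (by decide)) (x0 (by decide)) (x0 (by decide)) (x0 (by decide)))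
  have cc : c * c = 1 := hx x1 (by simp [mul_smul, *]) (by simp [mul_smul, *]) (by simp [mul_smul, *]) (by simp [mul_smul, *])
  have n1 : ∀ d : G, d • x 0 = x 1 → d ≠ 1 := fun d h e => x0 (by decide) (by rw [← h, e, one_smul] : x 1 = x 0)
  have hD : {d : G | d • x 0 = x 1 ∧ d • x 1 = x 0 ∧ c * d = d * c}.Finite :=
    Set.Finite.of_finite_image (f := fun d => (d • x 2, d • x 3)) (((hf c (n1 c c0)).prod (hf c (n1 c c0))).subset (by
      rintro _ ⟨d, ⟨-, -, h⟩, rfl⟩
      exact ⟨show c • d • x 2 = _ by rw [smul_smul, h, mul_smul, c2], show c • d • x 3 = _ by rw [smul_smul, h, mul_smul, c3]⟩))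
      fun d h d' h' e => hx x1 (h.1.trans h'.1.symm) (h.2.1.trans h'.2.1.symm) (Prod.ext_iff.mp e).1 (Prod.ext_iff.mp e).2
  haveI : Finite Ω := Set.finite_univ_iff.mp ((((hD.biUnion fun d h => hf d (n1 d h.1)).union (hf c (n1 c c0))).insert
    (x 0)).insert (x 1) |>.subset fun y _ => by
      by_contra h
      simp only [Set.mem_insert_iff, Set.mem_union, not_or, Set.mem_iUnion, not_exists] at h
      obtain ⟨y1, y0, h, y2⟩ := h
      have y3 : c • y ≠ x 0 := fun e => y1 (smul_left_cancel c (e.trans c1.symm))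
      have y4 : c • y ≠ x 1 := fun e => y0 (smul_left_cancel c (e.trans c0.symm))
      have y5 : Function.Injective ![x 0, x 1, y, c • y] :=
        Perm.inj_four (x0 (by decide)) (Ne.symm y0) y3.symm (Ne.symm y1) y4.symm (Ne.symm y2)
      obtain ⟨d, d0, d1, d2, d3⟩ := ht (a' := x 1) (b' := x 0) (c' := y) (d' := c • y) y5
        (Perm.inj_four (x0 (by decide)) (Ne.symm y1) y4.symm (Ne.symm y0) y3.symm (Ne.symm y2))
      exact h d ⟨d0, d1, hx y5 (by simp [mul_smul, *]) (by simp [mul_smul, *]) (by simp [mul_smul, *])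
        (by rw [mul_smul, mul_smul, d3, smul_smul, cc, one_smul, d2])⟩ d2)
  haveI := Fintype.ofFinite Ω
  haveI : IsMultiplyPretransitive (toPermHom G Ω).range Ω 4 := Perm.mt_iff.mpr fun x y h1 h2 =>
    (Perm.mt_iff.mp h4 x y h1 h2).elim fun g hg => ⟨⟨_, g, rfl⟩, hg⟩
  have hs := Golay.sharp_univ (G := (toPermHom G Ω).range) (k := 4) fun x => eq_bot_iff.mpr (by
    rintro ⟨_, g, rfl⟩ hg
    have : g ∈ stabilizer G x := hg
    rw [hsharp, mem_bot] at this
    exact Subtype.ext (by rw [this]; exact map_one _))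
  refine ⟨inferInstance, ?_⟩
  rw [Nat.card_eq_fintype_card, ← Finset.card_univ]
  by_cases h : 7 ≤ (Finset.univ : Finset Ω).card
  · rw [(hs.core h).1]; decide
  · omega

end Cfsg.Agent.S0708
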