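import Cfsg.Statements.S0709
import Cfsg.Agent.Lib.Hall.Half

set_option autoImplicit false
open Cfsg

namespace Cfsg.Agent.S0709

open scoped Pointwise commutatorElement
open Cfsg.Lib Cfsg.Lib.Hall

open Subgroup MulAction

theorem dc {X : Type*} [Group X] {A B : Subgroup X} {r s : X} (h1 : A ≤ B) (h2 : r ∈ B)
    (h3 : ∀ g ∈ B, g ∈ A ∨ ∃ a ∈ A, ∃ b ∈ A, g = a * r * b) (h4 : ∀ a ∈ A, s * a * s⁻¹ ∈ A) (h5 : s ^ 2 ∈ A) (h6 : (r * s) ^ 3 ∈ A) :
    ∀ g ∈ B ⊔ zpowers s, g ∈ B ∨ ∃ a ∈ B, ∃ b ∈ B, g = a * s * b := by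
  let C : Subgroup X :=
    { carrier := {g | g ∈ B ∨ ∃ a ∈ B, ∃ b ∈ B, g = a * s * b}
      one_mem' := Or.inl (one_mem _)
      inv_mem' := by
        rintro _ (h | ⟨a, ha, b, hb, rfl⟩)
        · exact Or.inl (inv_mem h)
        · exact Or.inr ⟨_, inv_mem hb, _, mul_mem (inv_mem (h1 h5)) (inv_mem ha), by rw [sq]; group⟩
      mul_mem' := by
        rintro x y (h | ⟨a, ha, b, hb, rfl⟩) (h' | ⟨c, hc, d, hd, rfl⟩)
        · exact Or.inl (mul_mem h h')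
        · exact Or.inr ⟨_, mul_mem h hc, d, hd, by group⟩
        · exact Or.inr ⟨a, ha, _, mul_mem hb h', by group⟩
        · rcases h3 _ (mul_mem hb hc) with h | ⟨u, hu, v, hv, e⟩
          · exact Or.inl (by simpa [sq, mul_assoc] using mul_mem (mul_mem (mul_mem ha (h1 (h4 _ h))) (h1 h5)) hd)
          · refine Or.inr ⟨_, mul_mem (mul_mem (mul_mem (mul_mem ha (h1 (h4 _ hu))) (inv_mem h2)) (h1 h6)) (inv_mem (h1 h5)), _,
              mul_mem (mul_mem (mul_mem (mul_mem (inv_mem h2) (inv_mem (h1 h5))) (h1 (h4 _ hv))) (h1 h5)) hd, ?_⟩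
            calc _ = a * s * (b * c) * s * d := by group
              _ = _ := by rw [e]; simp only [pow_succ, pow_zero]; group }
  exact fun g hg => (sup_le (fun _ => Or.inl) (zpowers_le.mpr (Or.inr ⟨1, one_mem _, 1, one_mem _, by simp⟩)) : _ ≤ C) hg

/-- the chain of extensions -/
def chain {X : Type*} [Group X] (A : Subgroup X) (s : ℕ → X) : ℕ → Subgroup X
  | 0 => A
  | i + 1 => chain A s i ⊔ zpowers (s (i + 1))

/-- Witt's Lemma for constructing transitive extensions. Points `q 1, …, q t` (`t ≥ 2`) of a finite set are given; `G` fixes `q i` for `i ≥ 3` and is doubly transitive on the remaining points; `s 1 ∈ G` swaps `q 1, q 2`; for `2 ≤ i ≤ t-1`, `s i` swaps `q i, q (i+1)` and fixes the other `q j`; with `H` the stabiliser of `q 1, q 2` in `G`: `s i ^ 2 ∈ H`, `(s i * s (i+1)) ^ 3 ∈ H`, `(s i * s j) ^ 2 ∈ H` for `j ≥ i + 2`, and `s i` (`i ≥ 2`) normalises the stabiliser of `q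 2` in `G`. Then `G` and the `s i` generate a `t`-transitive group whose pointwise stabiliser of the `q`'s is `H`. -/
theorem result {α : Type*} [Fintype α] [DecidableEq α] (t : ℕ) (ht : 2 ≤ t) (q : ℕ → α) (hq : ∀ i j : ℕ, 1 ≤ i → i ≤ t → 1 ≤ j → j ≤ t → q i = q j → i = j) (G : Subgroup (Equiv.Perm α)) (hfix : ∀ g ∈ G, ∀ i : ℕ, 3 ≤ i → i ≤ t → g (q i) = q i) (h2 : ∀ a b c d : α, (∀ i, 3 ≤ i → i ≤ t → a ≠ q i ∧ b ≠ q i ∧ c ≠ q i ∧ d ≠ q i) → a ≠ b → c ≠ d → ∃ g ∈ G, g a = c ∧ g b = d) (s : ℕ → Equiv.Perm α) (hs1 : s 1 ∈ G) (hs1q : s 1 (q 1) = q 2 ∧ s 1 (q 2) = q 1) (hsq : ∀ i : ℕ, 2 ≤ i → i + 1 ≤ t → s i (q i) = q (i + 1) ∧ s i (q (i + 1)) = q i ∧ ∀ j : ℕ, 1 ≤ j → j ≤ t → j ≠ i → j ≠ i + 1 → s i (q j) = q j) (H : Subgroup (Equiv.Perm α)) (hH : H = G ⊓ MulAction.stabilizer (Equiv.Perm α) (q 1) ⊓ MulAction.stabilizer (Equiv.Perm α) (q 2)) (hsq2 : ∀ i : ℕ, 1 ≤ i → i + 1 ≤ t → s i ^ 2 ∈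 H) (hbraid : ∀ i : ℕ, 1 ≤ i → i + 2 ≤ t → (s i * s (i + 1)) ^ 3 ∈ H) (hcomm : ∀ i j : ℕ, 1 ≤ i → i + 2 ≤ j → j + 1 ≤ t → (s i * s j) ^ 2 ∈ H ∧ (s j * s i) ^ 2 ∈ H) (hnorm : ∀ i : ℕ, 2 ≤ i → i + 1 ≤ t → ∀ g ∈ G ⊓ MulAction.stabilizer (Equiv.Perm α) (q 2), s i * g * (s i)⁻¹ ∈ G ⊓ MulAction.stabilizer (Equiv.Perm α) (q 2)) : MulAction.IsMultiplyPretransitive ↥(Subgroup.closure ((G : Set (Equiv.Perm α)) ∪ {x | ∃ i : ℕ, 2 ≤ i ∧ i + 1 ≤ t ∧ x = s i})) α t ∧ Subgroup.closure ((G : Set (Equiv.Perm α)) ∪ {x | ∃ i : ℕ, 2 ≤ i ∧ i + 1 ≤ t ∧ x = s i}) ⊓ fixingSubgroup (Equiv.Perm α) {x | ∃ i : ℕ, 1 ≤ i ∧ i ≤ t ∧ x = q i} = H := by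
  set M := chain (G ⊓ stabilizer (Equiv.Perm α) (q 2)) s with hM
  have m0 : M 0 = G ⊓ stabilizer (Equiv.Perm α) (q 2) := rfl
  have m1 : ∀ i, M (i + 1) = M i ⊔ zpowers (s (i + 1)) := fun _ => rfl
  clear_value M
  have m2 : Monotone M := monotone_nat_of_le_succ fun i => m1 i ▸ le_sup_left
  have m3 : ∀ i, s (i + 1) ∈ M (i + 1) := fun i => m1 i ▸ mem_sup_right (mem_zpowers _)
  have m4 : ∀ i, H ≤ M i := fun i => (hH ▸ m0 ▸ inf_le_inf_right _ inf_le_left : H ≤ M 0).trans (m2 i.zero_le)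
  have q1 : ∀ {i j}, 1 ≤ i → i < j → j ≤ t → q i ≠ q j := fun h1 h2 h3 e => h2.ne (hq _ _ h1 (by omega) (by omega) h3 e)
  have d0 : ∀ g ∈ G, g ∈ M 0 ∨ ∃ a ∈ M 0, ∃ b ∈ M 0, g = a * s 1 * b := fun g hg => or_iff_not_imp_left.mpr fun h => by
    obtain ⟨a, ha, a1, a2⟩ := h2 (q 2) (q 1) (q 2) (g (q 2)) (fun i h1 h3 => ⟨q1 (by omega) (by omega) h3, q1 (by omega) (by omega) h3,
      q1 (by omega) (by omega) h3, fun e => q1 (by omega) (by omega) h3 (g.injective (e.trans (hfix g hg i h1 h3).symm))⟩)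
      (q1 le_rfl (by omega) ht).symm fun e => h (m0 ▸ ⟨hg, e.symm⟩)
    refine ⟨a, m0 ▸ ⟨ha, a1⟩, (a * s 1)⁻¹ * g, m0 ▸ ⟨G.mul_mem (G.inv_mem (mul_mem ha hs1)) hg, ?_⟩, by group⟩
    show (a * s 1)⁻¹ (g (q 2)) = q 2
    rw [Equiv.Perm.inv_eq_iff_eq, Equiv.Perm.mul_apply, hs1q.2, a2]
  have g1 : M 1 = G := le_antisymm (m1 0 ▸ sup_le (m0 ▸ inf_le_left) (zpowers_le.mpr hs1)) fun g hg => by
    rcases d0 g hg with h | ⟨a, ha, b, hb, rfl⟩
    · exact m2 zero_le_one h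
    · exact mul_mem (mul_mem (m2 zero_le_one ha) (m3 0)) (m2 zero_le_one hb)
  have n1 : ∀ j, j + 1 ≤ t → ∀ i, i + 2 ≤ j → M i ≤ (M i).comap (MulAut.conj (s j)).toMonoidHom := fun j hj i => by
    induction i with
    | zero => exact fun h g hg => m0 ▸ hnorm j h hj g (m0 ▸ hg)
    | succ i ih =>
      intro h
      conv_lhs => rw [m1]
      refine sup_le ((ih (by omega)).trans (comap_mono (m2 i.le_succ))) (zpowers_le.mpr ?_)
      simpa [sq, mul_assoc] using mul_mem (mul_mem (inv_mem (m3 i)) (m4 _ (hcomm (i + 1) j (by omega) h hj).1))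
        (inv_mem (m4 _ (hsq2 j (by omega) hj)))
  have d1 : ∀ i, i + 2 ≤ t → ∀ g ∈ M (i + 1), g ∈ M i ∨ ∃ a ∈ M i, ∃ b ∈ M i, g = a * s (i + 1) * b := fun i => by
    induction i with
    | zero => exact fun _ => g1 ▸ d0
    | succ i ih => exact fun h => m1 (i + 1) ▸ dc (m2 i.le_succ) (m3 i) (ih (by omega)) (n1 (i + 2) h i le_rfl)
                      (m4 _ (hsq2 _ (by omega) h)) (m4 _ (hbraid (i + 1) (by omega) h))
  have f1 : ∀ i k, i + 3 ≤ k → k ≤ t → M (i + 1) ≤ stabilizer (Equiv.Perm α) (q k) := fun i k => by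
    induction i with
    | zero => exact fun h1 h3 g hg => hfix g (g1 ▸ hg) k h1 h3
    | succ i ih => exact fun h1 h3 => m1 (i + 1) ▸ sup_le (ih (by omega) h3) (zpowers_le.mpr
                      ((hsq (i + 2) (by omega) (by omega)).2.2 k (by omega) h3 (by omega) (by omega)))
  have t1 : ∀ i, i + 2 ≤ t → ∀ x : ℕ → α, (∀ j k, 1 ≤ j → j < k → k ≤ i + 2 → x j ≠ x k) →
      (∀ j k, 1 ≤ j → j ≤ i + 2 → i + 3 ≤ k → k ≤ t → x j ≠ q k) → ∃ g ∈ M (i + 1), ∀ j, 1 ≤ j → j ≤ i + 2 → g (q j) = x j := fun i => by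
    induction i with
    | zero =>
      intro _ x x1 x2
      obtain ⟨g, hg, e1, e2⟩ := h2 (q 1) (q 2) (x 1) (x 2) (fun i h1 h3 => ⟨q1 (by omega) (by omega) h3, q1 (by omega) (by omega) h3,
        x2 _ _ (by omega) (by omega) h1 h3, x2 _ _ (by omega) (by omega) h1 h3⟩) (q1 le_rfl (by omega) ht) (x1 _ _ le_rfl (by omega) le_rfl)
      refine ⟨g, g1 ▸ hg, fun j j1 j2 => ?_⟩
      obtain rfl | rfl : j = 1 ∨ j = 2 := by omega
      exacts [e1, e2]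
    | succ i ih =>
      intro h x x1 x2
      obtain ⟨g, hg, e⟩ : ∃ g ∈ M (i + 2), g (q (i + 3)) = x (i + 3) := by
        by_cases e : q (i + 3) = x (i + 3)
        · exact ⟨1, one_mem _, e⟩
        obtain ⟨b, hb, e1⟩ := ih (by omega) (fun j => Equiv.swap (q (i + 2)) (x (i + 3)) (q j))
          (fun j k h1 h3 h4 => (Equiv.injective _).ne (q1 h1 h3 (by omega))) fun j k h1 h3 h4 h5 e1 => by
            rw [Equiv.swap_apply_eq_iff, Equiv.swap_apply_of_ne_of_ne (q1 (by omega) (by omega) h5).symm] at e1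
            · exact q1 h1 (by omega) h5 e1
            · rcases h4.eq_or_lt with rfl | h4
              exacts [e, (x2 _ _ (by omega) le_rfl h4 h5).symm]
        refine ⟨b * s (i + 2), mul_mem (m2 (by omega) hb) (m3 _), ?_⟩
        rw [Equiv.Perm.mul_apply, (hsq (i + 2) (by omega) h).2.1, e1 _ (by omega) le_rfl, Equiv.swap_apply_left]
      obtain ⟨b, hb, e1⟩ := ih (by omega) (fun j => g⁻¹ (x j)) (fun j k h1 h3 h4 => (Equiv.injective _).ne (x1 j k h1 h3 (by omega)))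
        fun j k h1 h3 h4 h5 e1 => by
          rw [Equiv.Perm.inv_eq_iff_eq] at e1
          rcases h4.eq_or_lt with rfl | h4
          · exact x1 j _ h1 (by omega) le_rfl (e1.trans e)
          · exact x2 j k h1 (by omega) h4 h5 (e1.trans (f1 (i + 1) k h4 h5 hg))
      refine ⟨g * b, mul_mem hg (m2 (by omega) hb), fun j j1 j2 => ?_⟩
      rcases j2.eq_or_lt with rfl | j2
      · rw [Equiv.Perm.mul_apply, show b (q (i + 1 + 2)) = _ from f1 i _ le_rfl h hb, e]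
      · rw [Equiv.Perm.mul_apply, e1 j j1 (by omega)]; simp
  have t2 : ∀ i, i + 2 ≤ t → ∀ g ∈ M (i + 1), (∀ j, 1 ≤ j → j ≤ t → g (q j) = q j) → g ∈ G := fun i => by
    induction i with
    | zero => exact fun _ g hg _ => g1 ▸ hg
    | succ i ih =>
      intro h g hg e
      rcases d1 (i + 1) h g hg with h1 | ⟨a, ha, b, hb, rfl⟩
      · exact ih (by omega) g h1 e
      · have := e (i + 3) (by omega) h
        rw [Equiv.Perm.mul_apply, Equiv.Perm.mul_apply, show b (q (i + 3)) = _ from f1 i _ le_rfl h hb, (hsq (i + 2) (by omega) h).2.1] at this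
        exact absurd (a.injective (this.trans (f1 i _ le_rfl h ha).symm)) (q1 (by omega) (by omega) h)
  obtain ⟨t, rfl⟩ : ∃ i, t = i + 2 := ⟨t - 2, by omega⟩
  have c1 : closure ((G : Set (Equiv.Perm α)) ∪ {x | ∃ i : ℕ, 2 ≤ i ∧ i + 1 ≤ t + 2 ∧ x = s i}) = M (t + 1) := by
    refine le_antisymm ((closure_le _).mpr (Set.union_subset (g1 ▸ m2 (by omega)) ?_)) ?_
    · rintro _ ⟨_ | i, h1, h3, rfl⟩
      · omega
      · exact m2 (by omega) (m3 i)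
    · have : ∀ i ≤ t, M (i + 1) ≤ closure ((G : Set (Equiv.Perm α)) ∪ {x | ∃ i : ℕ, 2 ≤ i ∧ i + 1 ≤ t + 2 ∧ x = s i}) := fun i => by
        induction i with
        | zero => exact fun _ g hg => subset_closure (Or.inl (g1 ▸ hg))
        | succ i ih => exact fun h => m1 (i + 1) ▸ sup_le (ih (by omega)) (zpowers_le.mpr (subset_closure (Or.inr ⟨_, by omega, by omega, rfl⟩)))
      exact this t le_rfl
  rw [c1]
  refine ⟨?_, le_antisymm (fun g hg => ?_) (le_inf (m4 _) fun g hg => ?_)⟩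
  · have : ∀ x : Fin (t + 2) → α, Function.Injective x → ∃ g ∈ M (t + 1), ∀ j : Fin (t + 2), g (q (j + 1)) = x j := fun x hx => by
      obtain ⟨g, hg, e⟩ := t1 t le_rfl (fun j => x (Fin.ofNat _ (j - 1))) (fun j k h1 h3 h4 e => by
        have := congrArg Fin.val (hx e)
        simp only [Fin.val_ofNat] at this
        rw [Nat.mod_eq_of_lt (by omega), Nat.mod_eq_of_lt (by omega)] at this
        omega) fun j k _ _ _ _ => by omega
      exact ⟨g, hg, fun j => by rw [e _ (by omega) (by omega)]; simp⟩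
    refine Perm.mt_iff.mpr fun x y hx hy => ?_
    obtain ⟨g, hg, e⟩ := this x hx
    obtain ⟨h, hh, e'⟩ := this y hy
    exact ⟨⟨h * g⁻¹, mul_mem hh (inv_mem hg)⟩, fun i => by rw [← e, ← e']; simp⟩
  · have e : ∀ j, 1 ≤ j → j ≤ t + 2 → g (q j) = q j := fun j h1 h3 => (mem_fixingSubgroup_iff _).mp hg.2 _ ⟨j, h1, h3, rfl⟩
    exact hH ▸ ⟨⟨t2 t le_rfl g hg.1 e, e 1 le_rfl (by omega)⟩, e 2 (by omega) ht⟩
  · rw [hH] at hg
    rw [mem_fixingSubgroup_iff]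
    rintro _ ⟨i, h1, h3, rfl⟩
    obtain rfl | rfl | h : i = 1 ∨ i = 2 ∨ 3 ≤ i := by omega
    exacts [hg.1.2, hg.2, hfix g hg.1.1 i h h3]

end Cfsg.Agent.S0709
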