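import Cfsg.Statements.S0714
import Mathlib.Tactic
import Mathlib.GroupTheory.GroupAction.MultipleTransitivity
import Cfsg.Agent.Lib.Perm.Basic

set_option autoImplicit false
open Cfsg

namespace Cfsg.Agent.S0714

/-- Over any field, the permutation module of the alternating group of degree at least 5 has exactly four invariant subspaces: zero, the constant functions, the functions with coordinate sum zero, and everything. -/
theorem result {α : Type*} [Fintype α] [DecidableEq α] (hα : 5 ≤ Fintype.card α) {K : Type*} [Field K] (W : Subrepresentation (Cfsg.permRep K (alternatingGroup α) α)) : W.toSubmodule = ⊥ ∨ W = Cfsg.permConstants K (alternatingGroup α) α ∨ W = Cfsg.permSumZero K (alternatingGroup α) α ∨ W.toSubmodule = ⊤ := by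
  have hW : ∀ σ : Equiv.Perm α, σ ∈ alternatingGroup α → ∀ f ∈ W.toSubmodule,
      (fun x => f (σ x)) ∈ W.toSubmodule := fun σ hσ f hf =>
    W.apply_mem_toSubmodule (⟨σ, hσ⟩⁻¹ : alternatingGroup α) hf
  by_cases h0 : ∀ f ∈ W.toSubmodule, ∀ a b, f a = f b
  · by_cases h1 : W.toSubmodule = ⊥
    · exact Or.inl h1
    · right; left
      obtain ⟨a⟩ : Nonempty α := Fintype.card_pos_iff.mp (by omega)
      apply Subrepresentation.toSubmodule_injective
      apply le_antisymm
      · intro f hf
        exact Submodule.mem_span_singleton.mpr ⟨f a, by ext x; simp [h0 f hf a x]⟩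
      · obtain ⟨f, hf, hf0⟩ := Submodule.exists_mem_ne_zero_of_ne_bot h1
        have hfa : f a ≠ 0 := fun h => hf0 (by ext x; rw [h0 f hf x a, h]; rfl)
        refine (Submodule.span_singleton_le_iff_mem _ _).mpr ?_
        convert W.toSubmodule.smul_mem (f a)⁻¹ hf using 1
        ext x
        simp [h0 f hf x a, hfa]
  right; right
  push Not at h0
  obtain ⟨f, hf, a, b, hab⟩ := h0
  have hab' : a ≠ b := fun h => hab (h ▸ rfl)
  obtain ⟨c, d, e, hc, hd, he, hcd, hce, hde⟩ := Finset.two_lt_card_iff.mp
    (show 2 < (Finset.univ \ {a, b} : Finset α).card by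
      rw [Finset.card_univ_sdiff, Finset.card_pair hab']; omega)
  simp only [Finset.mem_sdiff, Finset.mem_univ, Finset.mem_insert, Finset.mem_singleton, true_and,
    not_or] at hc hd he
  have h3 : ∀ x y z : α, x ≠ y → x ≠ z → Equiv.swap x y * Equiv.swap x z ∈ alternatingGroup α := by
    intro x y z h1 h2
    simp [Equiv.Perm.mem_alternatingGroup, Equiv.Perm.sign_swap h1, Equiv.Perm.sign_swap h2]
  have hu := W.toSubmodule.sub_mem (hW _ (h3 a c b (Ne.symm hc.1) hab') f hf) hf
  have hv := W.toSubmodule.smul_mem (f b - f a)⁻¹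
    (W.toSubmodule.sub_mem hu (hW _ (h3 a e d (Ne.symm he.1) (Ne.symm hd.1)) _ hu))
  have hba : f b - f a ≠ 0 := sub_ne_zero.mpr hab.symm
  have h4 : (Pi.single a 1 - Pi.single e 1 : α → K) ∈ W.toSubmodule := by
    convert hv using 1
    ext x
    obtain ⟨hc1, hc2⟩ := hc
    obtain ⟨hd1, hd2⟩ := hd
    obtain ⟨he1, he2⟩ := he
    simp only [Pi.sub_apply, Pi.smul_apply, Equiv.Perm.coe_mul, Function.comp_apply, smul_eq_mul,
      Pi.single_apply]
    by_cases h1 : x = a
    · subst h1
      simp [Equiv.swap_apply_def, hd1, hd2, hde, hcd.symm, Ne.symm he1, hab'.symm, Ne.symm hc2, hba]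
    by_cases h2 : x = e
    · subst h2
      simp [Equiv.swap_apply_def, hde.symm, he1, he2, hce.symm, hab'.symm, Ne.symm hc2]
      field_simp; ring
    by_cases h5 : x = d
    · subst h5
      simp [Equiv.swap_apply_def, hd1, hd2, hde, hcd.symm, he1, he2, hce.symm, Ne.symm he1]
    simp [Equiv.swap_apply_def, h1, h2, h5]
  have h5 : ∀ x y : α, (Pi.single x 1 - Pi.single y 1 : α → K) ∈ W.toSubmodule := by
    intro x y
    by_cases hxy : x = y
    · simp [hxy]
    have := alternatingGroup.isMultiplyPretransitive α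
    have h2 : MulAction.IsMultiplyPretransitive (alternatingGroup α) α 2 :=
      MulAction.isMultiplyPretransitive_of_le (n := Nat.card α - 2)
        (by rw [Nat.card_eq_fintype_card]; omega) (by omega)
    obtain ⟨g, e1, e2⟩ := MulAction.is_two_pretransitive_iff.mp h2 hxy (Ne.symm he.1)
    convert hW g g.2 _ h4 using 1
    ext z
    rw [← e1, ← e2]
    simp [Pi.single_apply, Subgroup.smul_def]
  have h6 : (Cfsg.permSumZero K (alternatingGroup α) α).toSubmodule ≤ W.toSubmodule := by
    intro g hg
    have hg : ∑ x, g x = 0 := hg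
    have : g = ∑ x, g x • (Pi.single x 1 - Pi.single a 1 : α → K) := by
      simp only [smul_sub, Finset.sum_sub_distrib, ← Finset.sum_smul, hg, zero_smul, sub_zero]
      exact pi_eq_sum_univ' g
    rw [this]
    exact Submodule.sum_mem _ fun x _ => Submodule.smul_mem _ _ (h5 x a)
  by_cases h7 : W.toSubmodule ≤ (Cfsg.permSumZero K (alternatingGroup α) α).toSubmodule
  · exact Or.inl (Subrepresentation.toSubmodule_injective (le_antisymm h7 h6))
  · right
    obtain ⟨g, hg, hg0⟩ := SetLike.not_le_iff_exists.mp h7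
    have hg0 : ∑ x, g x ≠ 0 := hg0
    rw [eq_top_iff]
    intro v _
    have : v - ((∑ x, v x) / (∑ x, g x)) • g ∈ W.toSubmodule := h6 (by
      change ∑ x, _ = (0 : K)
      simp [Finset.sum_sub_distrib, ← Finset.mul_sum, hg0])
    simpa using W.toSubmodule.add_mem this (W.toSubmodule.smul_mem ((∑ x, v x) / (∑ x, g x)) hg)

end Cfsg.Agent.S0714
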