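import Cfsg.Statements.S0717
import Cfsg.Agent.Lib.Hall.Orbital

set_option autoImplicit false
open Cfsg

namespace Cfsg.Agent.S0717

open scoped Pointwise commutatorElement
open Cfsg.Lib Cfsg.Lib.Hall Cfsg.Lib.Char

/-- All suborbits of a transitive group are self-paired (every pair of points is interchanged by some group element) if and only if the permutation character is multiplicity-free and each of its irreducible constituents is real-valued. -/
theorem result {G : Type*} [Group G] [Fintype G] {Ω : Type*} [Fintype Ω] [MulAction G Ω] [MulAction.IsPretransitive G Ω] : (∀ a b : Ω, ∃ g : G, g • a = b ∧ g • b = a) ↔ ∀ χ : G → ℂ, Cfsg.IsIrrCharacter G χ → Cfsg.classInner (fun g : G => (Nat.card (MulAction.fixedBy Ω g) : ℂ)) χ ≠ 0 → Cfsg.classInner (fun g : G => (Nat.card (MulAction.fixedBy Ω g) : ℂ)) χ = 1 ∧ ∀ g : G, (starRingEnd ℂ) (χ g) = χ g := by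
  classical
  constructor
  · intro h χ hχ h0
    have hs : ∀ M : Matrix Ω Ω ℂ, MInv G M → M.transpose = M := fun M hM => by
      ext x y
      obtain ⟨g, h1, h2⟩ := h x y
      rw [Matrix.transpose_apply, ← hM g x y, h1, h2]
    have hmf := mf_iff_comm.2 fun M N hM hN => by
      rw [← hs _ (hM.mul hN), Matrix.transpose_mul, hs M hM, hs N hN]
    refine ⟨(hmf χ hχ).resolve_left h0, fun g => ?_⟩
    have h1 := tm_transpose (G := G) (ide Ω χ) g
    rw [hs _ (mInv_ide hχ.isClassFunction), tm_ide hχ, Pi.smul_apply, Pi.smul_apply,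
      hχ.isCharacter.apply_inv] at h1
    exact (mul_left_cancel₀ h0 h1).symm
  · intro h a b
    have hmf : ∀ χ, Cfsg.IsIrrCharacter G χ →
        Cfsg.classInner (pch G Ω) χ = 0 ∨ Cfsg.classInner (pch G Ω) χ = 1 := fun χ hχ => by
      by_cases h0 : Cfsg.classInner (pch G Ω) χ = 0
      · exact Or.inl h0
      · exact Or.inr (h χ hχ h0).1
    have hM := mInv_om (G := G) a b
    have h1 : om G a b - (om G a b).transpose = 0 := by
      refine (hM.sub hM.transpose).eq_zero_of_tm hmf ?_
      funext g
      rw [tm_sub, Pi.sub_apply, tm_transpose, hM.isClassFunction.apply_eq_sum,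
        hM.isClassFunction.apply_eq_sum g⁻¹, ← Finset.sum_sub_distrib]
      refine Finset.sum_eq_zero fun χ _ => ?_
      by_cases h0 : Cfsg.classInner (pch G Ω) χ = 0
      · rw [hM.inner_eq_zero χ.2.isCharacter h0]; simp
      · rw [χ.2.isCharacter.apply_inv, (h χ χ.2 h0).2 g, sub_self]
    have h2 := congrFun (congrFun h1 b) a
    rw [Matrix.sub_apply, Matrix.transpose_apply, om_of_mem (x := a) ⟨1, one_smul _ _, one_smul _ _⟩,
      Matrix.zero_apply, sub_eq_zero] at h2
    by_contra hc
    rw [om_of_not hc] at h2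
    exact zero_ne_one h2

end Cfsg.Agent.S0717
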