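import Cfsg.Statements.S0718
import Cfsg.Agent.Lib.Hall.Orbital

set_option autoImplicit false
open Cfsg

namespace Cfsg.Agent.S0718

open scoped Pointwise commutatorElement
open Cfsg.Lib Cfsg.Lib.Hall

/-- Multiplicity-freeness of the permutation character is equivalent to commutativity of the centraliser ring, i.e. of the algebra of `G`-equivariant endomorphisms of the complex permutation module. -/
theorem result {G : Type*} [Group G] [Fintype G] {Ω : Type*} [Fintype Ω] [MulAction G Ω] : (∀ χ : G → ℂ, Cfsg.IsIrrCharacter G χ → Cfsg.classInner (fun g : G => (Nat.card (MulAction.fixedBy Ω g) : ℂ)) χ = 0 ∨ Cfsg.classInner (fun g : G => (Nat.card (MulAction.fixedBy Ω g) : ℂ)) χ = 1) ↔ ∀ S T : (Ω → ℂ) →ₗ[ℂ] (Ω → ℂ), S ∈ ((Cfsg.permRep ℂ G Ω).linHom (Cfsg.permRep ℂ G Ω)).invariants → T ∈ ((Cfsg.permRep ℂ G Ω).linHom (Cfsg.permRep ℂ G Ω)).invariants → S ∘ₗ T = T ∘ₗ S := by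
  classical
  refine mf_iff_comm.trans ?_
  have key : ∀ M : Matrix Ω Ω ℂ, Matrix.toLin' M ∈
      ((Cfsg.permRep ℂ G Ω).linHom (Cfsg.permRep ℂ G Ω)).invariants ↔ MInv G M := fun M => by
    rw [← cm_toLin, Representation.mem_invariants]
    refine forall_congr' fun g => ?_
    rw [Representation.linHom_apply]
    have h1 : Cfsg.permRep ℂ G Ω g⁻¹ * Cfsg.permRep ℂ G Ω g = 1 := by
      rw [← map_mul, inv_mul_cancel, map_one]
    have h2 : Cfsg.permRep ℂ G Ω g * Cfsg.permRep ℂ G Ω g⁻¹ = 1 := by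
      rw [← map_mul, mul_inv_cancel, map_one]
    change Cfsg.permRep ℂ G Ω g * (Matrix.toLin' M * Cfsg.permRep ℂ G Ω g⁻¹) = _ ↔ _
    constructor
    · intro h
      have := congrArg (· * Cfsg.permRep ℂ G Ω g) h
      simp only [mul_assoc, h1, mul_one] at this
      exact this.symm
    · intro h
      rw [← mul_assoc, ← h.eq, mul_assoc, h2, mul_one]
  constructor
  · intro h S T hS hT
    obtain ⟨M, rfl⟩ := Matrix.toLin'.surjective S
    obtain ⟨N, rfl⟩ := Matrix.toLin'.surjective T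
    rw [← Matrix.toLin'_mul, ← Matrix.toLin'_mul, h M N ((key M).1 hS) ((key N).1 hT)]
  · intro h M N hM hN
    apply Matrix.toLin'.injective
    rw [Matrix.toLin'_mul, Matrix.toLin'_mul]
    exact h _ _ ((key M).2 hM) ((key N).2 hN)

end Cfsg.Agent.S0718
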