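import Cfsg.Statements.S5914
import Cfsg.Agent.Lib.Hall.MinNormal

set_option autoImplicit false
open Cfsg

namespace Cfsg.Agent.S5914

open Subgroup

theorem exists_indep {X : Type*} [Group X] [Finite X] (𝒮 : Set (Subgroup X))
    (h𝒮 : ∀ V ∈ 𝒮, V.Normal ∧ ∀ N : Subgroup X, N.Normal → N ≤ V → N = ⊥ ∨ N = V) :
    ∃ (n : ℕ) (V : Fin n → Subgroup X), (∀ i, V i ∈ 𝒮) ∧ iSupIndep V ∧ (⨆ i, V i) = sSup 𝒮 := by
  let P : Subgroup X → Prop := fun S => ∃ (n : ℕ) (V : Fin n → Subgroup X),
      (∀ i, V i ∈ 𝒮) ∧ iSupIndep V ∧ (⨆ i, V i) = S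
  obtain ⟨S, -, hS⟩ := Finite.exists_le_maximal (p := P) (a := ⊥)
    ⟨0, Fin.elim0, fun i => i.elim0, fun i => i.elim0, by simp⟩
  obtain ⟨n, V, h1, h2, h3⟩ := hS.1
  refine ⟨n, V, h1, h2, le_antisymm (iSup_le fun i => le_sSup (h1 i)) (sSup_le fun W hW => ?_)⟩
  by_contra hn
  haveI := (h𝒮 W hW).1
  haveI : ∀ i, (V i).Normal := fun i => (h𝒮 _ (h1 i)).1
  have hd : W ⊓ ⨆ i, V i = ⊥ := ((h𝒮 W hW).2 _ inferInstance inf_le_left).resolve_right
    fun e => hn (inf_eq_left.1 e)
  have h4 : (⨆ i, (Fin.cons W V : Fin (n + 1) → Subgroup X) i) = W ⊔ ⨆ i, V i := by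
    refine le_antisymm (iSup_le fun i => Fin.cases le_sup_left (fun i => le_sup_of_le_right (le_iSup V i)) i)
      (sup_le (le_iSup_of_le 0 le_rfl) (iSup_le fun i => le_iSup_of_le i.succ le_rfl))
  have := hS.2 (y := W ⊔ ⨆ i, V i) ⟨n + 1, Fin.cons W V, fun i => Fin.cases hW h1 i, fun i => ?_, h4⟩
    (h3 ▸ le_sup_right)
  · exact hn (le_sup_left.trans (this.trans h3.ge))
  refine Fin.cases ?_ (fun i => ?_) i
  · refine (disjoint_iff.2 hd).mono_right (iSup₂_le fun j => Fin.cases (fun h => absurd rfl h) (fun j _ => ?_) j)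
    exact le_iSup V j
  · have h5 : (⨆ j, ⨆ (_ : j ≠ i.succ), (Fin.cons W V : Fin (n + 1) → Subgroup X) j) ≤ W ⊔ ⨆ j, ⨆ (_ : j ≠ i), V j :=
      iSup₂_le fun j => Fin.cases (fun _ => le_sup_left) (fun j hj => le_sup_of_le_right
        (le_iSup₂_of_le j (fun e => hj (e ▸ rfl)) le_rfl)) j
    refine Disjoint.mono_right h5 (disjoint_def.2 fun {x} hx hx' => ?_)
    obtain ⟨w, hw, y, hy, rfl⟩ := (mem_sup_of_normal_left).1 hx'
    have hy' : y ∈ ⨆ i, V i := (iSup₂_le fun j _ => le_iSup V j : _ ≤ ⨆ i, V i) hy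
    have hw1 : w ∈ W ⊓ ⨆ i, V i := mem_inf.2 ⟨hw, by simpa using mul_mem (le_iSup V i hx) (inv_mem hy')⟩
    rw [hd, mem_bot] at hw1
    subst hw1
    rw [one_mul] at hx ⊢
    exact disjoint_def.1 (h2 i) hx hy

theorem forward {G : Type*} [Group G] [Finite G] [Nontrivial G]
    (h : ∀ H : Subgroup G, H.Characteristic → H = ⊥ ∨ H = ⊤) :
    ∃ (S : Type) (_ : Group S) (_ : IsSimpleGroup S) (n : ℕ), 1 ≤ n ∧ Nonempty (G ≃* (Fin n → S)) := by
  classical
  obtain ⟨M, hM, hM0, hmin⟩ := Cfsg.Lib.Hall.exists_minNormal (G := G)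
  let 𝒮 : Set (Subgroup G) := {V | ∃ α : MulAut G, V = M.map α.toMonoidHom}
  have h𝒮 : ∀ V ∈ 𝒮, V.Normal ∧ ∀ N : Subgroup G, N.Normal → N ≤ V → N = ⊥ ∨ N = V := by
    rintro _ ⟨α, rfl⟩
    refine ⟨hM.map _ α.surjective, fun N hN hle => ?_⟩
    have h1 : (N.comap α.toMonoidHom).map α.toMonoidHom = N :=
      map_comap_eq_self_of_surjective α.surjective _
    rcases hmin (N.comap α.toMonoidHom) (hN.comap _) (by
      rw [← comap_map_eq_self_of_injective (f := α.toMonoidHom) α.injective M]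
      exact comap_mono hle) with e | e
    · left; rw [← h1, e, Subgroup.map_bot]
    · right; rw [← h1, e]
  obtain ⟨n, V, hV, hind, hsup⟩ := exists_indep 𝒮 h𝒮
  have hMS : M ∈ 𝒮 := ⟨1, by ext; simp⟩
  have htop : sSup 𝒮 = ⊤ := by
    refine (h _ (characteristic_iff_map_le.2 fun α => ?_)).resolve_left fun e => hM0 ?_
    · rw [sSup_eq_iSup', Subgroup.map_iSup]
      refine iSup_le fun ⟨W, β, hW⟩ => le_iSup_of_le ⟨W.map α.toMonoidHom, α * β, ?_⟩ le_rfl
      rw [hW, map_map]; rfl
    · exact eq_bot_iff.2 (e ▸ le_sSup hMS)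
  have hcomm : Pairwise fun i j => ∀ x y : G, x ∈ V i → y ∈ V j → Commute x y := fun i j hij x y hx hy =>
    commute_of_normal_of_disjoint _ _ (h𝒮 _ (hV i)).1 (h𝒮 _ (hV j)).1 (hind.pairwiseDisjoint hij) x y hx hy
  have hn : 1 ≤ n := by
    rcases n with _ | n
    · exfalso
      rw [htop, iSup_of_empty] at hsup
      exact bot_ne_top hsup
    · omega
  let e1 : (∀ i, V i) ≃* G := MulEquiv.ofBijective (noncommPiCoprod hcomm)
    ⟨injective_noncommPiCoprod_of_iSupIndep hind, by
      rw [← MonoidHom.range_eq_top, noncommPiCoprod_range, hsup, htop]⟩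
  have e2 : ∀ i, Nonempty (V i ≃* M) := fun i => by
    obtain ⟨α, hα⟩ := hV i
    rw [hα]
    exact ⟨(M.equivMapOfInjective _ α.injective).symm⟩
  let i₀ : Fin n := ⟨0, hn⟩
  have hs : IsSimpleGroup (V i₀) := by
    haveI : Nontrivial M := (nontrivial_iff_ne_bot M).2 hM0
    haveI : Nontrivial (V i₀) := (e2 i₀).some.toEquiv.nontrivial
    refine ⟨fun N hN => ?_⟩
    have hN' : (N.map (V i₀).subtype).Normal := by
      rw [← normalizer_eq_top_iff, eq_top_iff, ← htop, ← hsup]
      refine iSup_le fun j => ?_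
      by_cases hj : j = i₀
      · subst hj
        intro g hg
        apply mem_normalizer_fintype
        rintro _ ⟨x, hx, rfl⟩
        exact ⟨_, hN.conj_mem x hx ⟨g, hg⟩, rfl⟩
      · refine le_trans (fun g hg => ?_) (centralizer_le_normalizer _)
        rintro _ ⟨x, hx, rfl⟩
        exact (hcomm hj g x hg x.2).symm.eq
    rcases (h𝒮 _ (hV i₀)).2 _ hN' (map_subtype_le _) with e | e
    · left; exact (map_eq_bot_iff_of_injective _ (subtype_injective _)).1 e
    · right
      apply map_injective (subtype_injective (V i₀))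
      rw [e, ← MonoidHom.range_eq_map, range_subtype]
  haveI : IsSimpleGroup M := (e2 i₀).some.symm.isSimpleGroup
  refine ⟨Shrink.{0} M, inferInstance, (Shrink.mulEquiv : Shrink.{0} M ≃* M).isSimpleGroup, n, hn, ⟨e1.symm.trans
    (MulEquiv.piCongrRight fun i => (e2 i).some.trans Shrink.mulEquiv.symm)⟩⟩

theorem backward {S : Type*} [Group S] [IsSimpleGroup S] (n : ℕ) (H : Subgroup (Fin n → S))
    (hH : H.Characteristic) : H = ⊥ ∨ H = ⊤ := by
  classical
  refine or_iff_not_imp_left.2 fun hb => ?_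
  obtain ⟨⟨x, hx⟩, hx1⟩ := (ne_bot_iff_exists_ne_one).1 hb
  have hx1' : x ≠ 1 := fun e => hx1 (Subtype.ext e)
  obtain ⟨i, hi⟩ := Function.ne_iff.1 hx1'
  have hα : ∀ α : MulAut (Fin n → S), ∀ y ∈ H, α y ∈ H := fun α y hy =>
    characteristic_iff_map_le.1 hH α ⟨y, hy, rfl⟩
  have hperm : ∀ i j s, Pi.mulSingle i s ∈ H → Pi.mulSingle j s ∈ H := by
    intro i j s h
    have := hα (MulEquiv.arrowCongr (Equiv.swap i j) (MulEquiv.refl S)) _ h
    convert this using 1
    ext k
    by_cases hk : k = j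
    · subst hk; simp
    · have : Equiv.swap i j k ≠ i := by rwa [Ne, Equiv.swap_apply_eq_iff, Equiv.swap_apply_left]
      simp [Pi.mulSingle_eq_of_ne hk, Pi.mulSingle_eq_of_ne this]
  have hex : ∃ j s, s ≠ 1 ∧ Pi.mulSingle j s ∈ H := by
    by_cases hc : ∀ g, g * x i = x i * g
    · by_cases h1 : ∀ j, j = i
      · refine ⟨i, x i, hi, ?_⟩
        convert hx using 1
        ext k; rw [h1 k]; simp
      · push Not at h1
        obtain ⟨j, hj⟩ := h1
        have hcomm : ∀ a b : S, a * b = b * a := by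
          rcases (inferInstance : (center S).Normal).eq_bot_or_eq_top with h' | h'
          · exact (hi (mem_bot.1 (h' ▸ mem_center_iff.2 hc))).elim
          · exact fun a b => mem_center_iff.1 (h' ▸ mem_top b) a
        let α : MulAut (Fin n → S) :=
          { toFun := fun y => y * Pi.mulSingle j (y i)
            invFun := fun y => y * Pi.mulSingle j (y i)⁻¹
            left_inv := fun y => by
              ext k; by_cases hk : k = j
              · subst hk; simp [Pi.mulSingle_eq_of_ne hj.symm]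
              · simp [Pi.mulSingle_eq_of_ne hk]
            right_inv := fun y => by
              ext k; by_cases hk : k = j
              · subst hk; simp [Pi.mulSingle_eq_of_ne hj.symm]
              · simp [Pi.mulSingle_eq_of_ne hk]
            map_mul' := fun y z => by
              ext k; by_cases hk : k = j
              · subst hk
                simp only [Pi.mul_apply, Pi.mulSingle_eq_same, mul_assoc]
                rw [← mul_assoc (z k), hcomm (z k), mul_assoc]
              · simp [Pi.mulSingle_eq_of_ne hk] }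
        refine ⟨j, x i, hi, ?_⟩
        have := H.mul_mem (H.inv_mem hx) (hα α x hx)
        simpa [α] using this
    · push Not at hc
      obtain ⟨g, hg⟩ := hc
      refine ⟨i, g * x i * g⁻¹ * (x i)⁻¹, fun e => hg (by rw [← mul_inv_eq_one, ← e]; group), ?_⟩
      have h1 := H.mul_mem (hα (MulAut.conj (Pi.mulSingle i g)) x hx) (H.inv_mem hx)
      convert h1 using 1
      ext j
      by_cases hj : j = i
      · subst hj; simp
      · simp [Pi.mulSingle_eq_of_ne hj]
  obtain ⟨j, s, hs, hjs⟩ := hex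
  let A : Subgroup S := H.comap (MonoidHom.mulSingle (fun _ => S) j)
  have hA : A.Normal := (inferInstance : H.Normal).comap _
  have hAt : A = ⊤ := hA.eq_bot_or_eq_top.resolve_left fun e => hs (mem_bot.1 (e ▸ (hjs : s ∈ A)))
  rw [eq_top_iff]
  intro y _
  rw [← Finset.noncommProd_mulSingle y]
  exact Subgroup.noncommProd_mem _ _ fun k _ => hperm j k _ (hAt ▸ mem_top (y k) : y k ∈ A)

/-- A non-trivial finite group G is characteristically simple (its only characteristic subgroups are 1 and G) if and only if G is isomorphic to a direct power S^n (n ≥ 1) of some simple group S (possibly cyclic of prime order). -/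
theorem result {G : Type*} [Group G] [Finite G] [Nontrivial G] :
    (∀ H : Subgroup G, H.Characteristic → H = ⊥ ∨ H = ⊤) ↔
    ∃ (S : Type) (_ : Group S) (_ : IsSimpleGroup S) (n : ℕ), 1 ≤ n ∧ Nonempty (G ≃* (Fin n → S)) := by
  refine ⟨forward, ?_⟩
  rintro ⟨S, _, _, n, -, ⟨e⟩⟩ H hH
  have : (H.map e.toMonoidHom).Characteristic := characteristic_iff_map_le.2 fun α => by
    rintro _ ⟨_, ⟨x, hx, rfl⟩, rfl⟩
    refine ⟨_, characteristic_iff_map_le.1 hH ((e.trans α).trans e.symm) ⟨x, hx, rfl⟩, by simp⟩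
  rcases backward n _ this with h | h
  · left; exact (map_eq_bot_iff_of_injective _ e.injective).1 h
  · right
    apply map_injective (f := e.toMonoidHom) e.injective
    rw [h, map_top_of_surjective _ e.surjective]

end Cfsg.Agent.S5914
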