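import Cfsg.Statements.S0723
import Cfsg.Agent.Lib.Hall.Scott
import Cfsg.Agent.S0721
import Cfsg.Agent.S0722
import Cfsg.Agent.Lib.Perm.Basic

set_option autoImplicit false
open Cfsg

namespace Cfsg.Agent.S0723

open scoped Pointwise commutatorElement
open Cfsg.Lib Cfsg.Lib.Hall

/-- The core of the O'Nan–Scott Theorem. Let `H` be a primitive permutation group on a finite set whose unique minimal normal subgroup `N` is non-abelian, and `K` a point stabiliser. Then there are a non-abelian simple group `T` and an isomorphism `N ≃* T^m` (`m ≥ 1`) under which `K ⊓ N` becomes either a product `∏ K_i` of proper subgroups `K_i < T`, or the set of functions constant on each block of a partition of the index set into blocks of one common size `k ≥ 2`. -/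
theorem result {α : Type*} [Finite α] (H : Subgroup (Equiv.Perm α)) [MulAction.IsPreprimitive H α] (N : Subgroup H) [N.Normal] (hN : N ≠ ⊥) (hmin : ∀ M : Subgroup H, M.Normal → M ≤ N → M = ⊥ ∨ M = N) (huniq : ∀ L : Subgroup H, L.Normal → L ≠ ⊥ → (∀ M : Subgroup H, M.Normal → M ≤ L → M = ⊥ ∨ M = L) → L = N) (hnab : ¬ IsMulCommutative N) (a : α) : ∃ (T : Type) (_ : Group T) (m : ℕ) (e : N ≃* (Fin m → T)), IsSimpleGroup T ∧ ¬ IsMulCommutative T ∧ 0 < m ∧ ((∃ K : Fin m → Subgroup T, (∀ i, K i ≠ ⊤) ∧ ∀ n : N, (n : H) ∈ MulAction.stabilizer H a ↔ ∀ i, e n i ∈ K i) ∨ (∃ (k : ℕ) (c : Fin m → Fin m), 2 ≤ k ∧ (∀ j : Fin m, Nat.card {i : Fin m // c i = j} = k ∨ Nat.card {i : Fin m // c i = j} = 0) ∧ ∀ n : N, (n : H) ∈ MulAction.stabilizer H a ↔ ∀ i j : Fin m, c i = c j → e n i = e n j)) := by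
  classical
  obtain ⟨T, _, m, hT, hm, ⟨e⟩⟩ := S0721.result N hN hmin
  have hTc : ¬ IsMulCommutative T := fun h => hnab ⟨⟨fun x y => e.injective (by
    rw [map_mul, map_mul]; funext i; exact h.1.1 _ _)⟩⟩
  set K := MulAction.stabilizer H a
  let D : Subgroup (Fin m → T) := (K.subgroupOf N).comap e.symm.toMonoidHom
  have hD : ∀ n : N, e n ∈ D ↔ (n : H) ∈ K := fun n => by
    simp [D, Subgroup.mem_subgroupOf]
  let φ : H → ((Fin m → T) ≃* (Fin m → T)) := fun k =>
    e.symm.trans ((MulAut.conjNormal k : N ≃* N).trans e)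
  have hφ : ∀ k (n : N), φ k (e n) = e (MulAut.conjNormal k n) := fun k n => by simp [φ]
  let lift : Subgroup (Fin m → T) → Subgroup H := fun X => (X.comap e.toMonoidHom).map N.subtype
  have hl : ∀ X (n : N), (n : H) ∈ lift X ↔ e n ∈ X := fun X n =>
    Subgroup.mem_map_iff_mem N.subtype_injective
  have hle : ∀ X, lift X ≤ N := fun X => Subgroup.map_subtype_le _
  have hnorm : ∀ X : Subgroup (Fin m → T), (∀ ψ ∈ φ '' K, ∀ x ∈ X, ψ x ∈ X) →
      K ≤ Subgroup.normalizer (lift X : Set H) := fun X h k hk => by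
    have key : ∀ k ∈ K, ∀ x ∈ lift X, k * x * k⁻¹ ∈ lift X := fun k hk x hx => by
      have h1 := h _ ⟨k, hk, rfl⟩ _ ((hl X ⟨x, hle X hx⟩).1 hx)
      rw [hφ, ← hl] at h1
      exact h1
    rw [Subgroup.mem_normalizer_iff]
    intro x
    refine ⟨key k hk x, fun hx => ?_⟩
    simpa [mul_assoc] using key k⁻¹ (K.inv_mem hk) _ hx
  have htr := Perm.isPretransitive_of_normal (α := α) N hN
  have htop : ∀ X, lift X = N → X = ⊤ := fun X h => eq_top_iff.2 fun x _ => by
    obtain ⟨n, rfl⟩ := e.surjective x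
    rw [← hl, h]; exact n.2
  rcases scott_core hTc D (φ '' K) (by
      rintro _ ⟨k, hk, rfl⟩ x
      obtain ⟨n, rfl⟩ := e.surjective x
      rw [hφ, hD, hD, MulAut.conjNormal_apply, K.mul_mem_cancel_right (K.inv_mem hk),
        K.mul_mem_cancel_left hk])
    (fun X h1 h2 => by
      rcases S0722.result H N hN hmin a (lift X) (hle X)
        (fun x hx => (hl X ⟨x, hx.2⟩).2 (h1 ((hD ⟨x, hx.2⟩).2 hx.1))) (hnorm X h2) with h | h
      · refine Or.inl (le_antisymm (fun x hx => ?_) h1)
        obtain ⟨n, rfl⟩ := e.surjective x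
        rw [← hl, h] at hx
        exact (hD n).2 hx.1
      · exact Or.inr (htop X h))
    (fun M h1 h2 => by
      have h3 : (lift M).Normal := by
        rw [← Subgroup.normalizer_eq_top_iff, eq_top_iff]
        intro g _
        obtain ⟨n, hn⟩ := MulAction.exists_smul_eq N a (g • a)
        have hk : (n : H)⁻¹ * g ∈ K := by
          rw [MulAction.mem_stabilizer_iff, mul_smul, inv_smul_eq_iff]; exact hn.symm
        have hn' : (n : H) ∈ Subgroup.normalizer (lift M : Set H) := by
          have key : ∀ n : N, ∀ x ∈ lift M, n * x * (n : H)⁻¹ ∈ lift M := fun n x hx => by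
            have h4 := h1.conj_mem _ ((hl M ⟨x, hle M hx⟩).1 hx) (e n)
            rw [← map_inv, ← map_mul, ← map_mul, ← hl] at h4
            exact h4
          rw [Subgroup.mem_normalizer_iff]
          intro x
          refine ⟨key n x, fun hx => ?_⟩
          simpa [mul_assoc] using key n⁻¹ _ hx
        simpa using Subgroup.mul_mem _ hn' (hnorm M h2 hk)
      rcases hmin _ h3 (hle M) with h | h
      · refine Or.inl (eq_bot_iff.2 fun x hx => ?_)
        obtain ⟨n, rfl⟩ := e.surjective x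
        rw [← hl, h] at hx
        rw [show n = 1 from Subtype.ext hx, map_one]
        exact Subgroup.one_mem _
      · exact Or.inr (htop M h))
    (fun h => hN (eq_bot_iff.2 fun g hg => by
      have h1 : ∀ n : N, n • a = a := fun n => (hD n).1 (h ▸ Subgroup.mem_top _)
      have h2 : ∀ b, b = a := fun b => by
        obtain ⟨n, rfl⟩ := MulAction.exists_smul_eq N a b
        exact h1 n
      exact Subtype.ext (Equiv.ext fun x => (h2 _).trans (h2 _).symm)))
    with ⟨L, h1, h2⟩ | ⟨β, k, c, h1, h2, h3⟩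
  · exact ⟨T, inferInstance, m, e, hT, hTc, hm, Or.inl ⟨L, h1, fun n => (hD n).symm.trans (h2 _)⟩⟩
  · exact ⟨T, inferInstance, m, e.trans (MulEquiv.piCongrRight β), hT, hTc, hm,
      Or.inr ⟨k, c, h1, h2, fun n => (hD n).symm.trans (h3 _)⟩⟩

end Cfsg.Agent.S0723
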