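import Cfsg.Statements.S0724
import Cfsg.Agent.Lib.Perm.Basic

set_option autoImplicit false
open Cfsg

namespace Cfsg.Agent.S0724

theorem dvd_sum_pow {α : Type*} [Fintype α] [DecidableEq α] (G : Subgroup (Equiv.Perm α)) [Fintype G] (n : ℕ) :
    Nat.card G ∣ ∑ g : G, Nat.card (MulAction.fixedBy α (g : Equiv.Perm α)) ^ n := by
  classical
  have h := MulAction.sum_card_fixedBy_eq_card_orbits_mul_card_group G (Fin n → α)
  rw [Nat.card_eq_fintype_card]
  refine ⟨Fintype.card (Quotient (MulAction.orbitRel G (Fin n → α))), ?_⟩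
  rw [mul_comm, ← h]
  refine Finset.sum_congr rfl fun g _ => ?_
  rw [← Nat.card_eq_fintype_card]
  have e : MulAction.fixedBy (Fin n → α) g ≃ (Fin n → MulAction.fixedBy α (g : Equiv.Perm α)) :=
    { toFun := fun f i => ⟨f.1 i, congrFun f.2 i⟩
      invFun := fun f => ⟨fun i => f i, funext fun i => (f i).2⟩
      left_inv := fun f => rfl
      right_inv := fun f => rfl }
  rw [Nat.card_congr e, Nat.card_fun]
  simp

/-- Blichfeldt's Theorem: if a finite set `L` of natural numbers contains the number of fixed points of every non-identity element of a permutation group `G` of degree `n`, then the order of `G` divides `∏ (n - l)` over `l ∈ L`. -/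
theorem result {α : Type*} [Fintype α] [DecidableEq α] (G : Subgroup (Equiv.Perm α)) (L : Finset ℕ) (hL : ∀ g ∈ G, g ≠ 1 → Nat.card (MulAction.fixedBy α g) ∈ L) : Nat.card G ∣ ∏ l ∈ L, (Fintype.card α - l) := by
  classical
  have : Fintype G := Fintype.ofFinite G
  have hpoly : ∀ P : Polynomial ℤ, (Nat.card G : ℤ) ∣ ∑ g : G, P.eval (Nat.card (MulAction.fixedBy α (g : Equiv.Perm α)) : ℤ) := by
    intro P
    induction P using Polynomial.induction_on' with
    | add p q hp hq => simpa [Finset.sum_add_distrib] using dvd_add hp hq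
    | monomial n a =>
      simp only [Polynomial.eval_monomial, ← Finset.mul_sum]
      apply Dvd.dvd.mul_left
      exact_mod_cast dvd_sum_pow G n
  have h := hpoly (∏ l ∈ L, (Polynomial.X - Polynomial.C (l : ℤ)))
  rw [Finset.sum_eq_single (1 : G)] at h
  · simp only [Polynomial.eval_prod, Polynomial.eval_sub, Polynomial.eval_X, Polynomial.eval_C,
      OneMemClass.coe_one, MulAction.fixedBy_one_eq_univ, Nat.card_univ, Nat.card_eq_fintype_card (α := α)] at h
    by_cases hl : ∃ l ∈ L, Fintype.card α < l
    · obtain ⟨l, hl, hl'⟩ := hl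
      rw [Finset.prod_eq_zero hl (by omega)]
      exact dvd_zero _
    · push Not at hl
      rw [← Int.natCast_dvd_natCast]
      convert h using 1
      rw [Nat.cast_prod]
      exact Finset.prod_congr rfl fun l hl' => Nat.cast_sub (hl l hl')
  · intro g _ hg
    rw [Polynomial.eval_prod]
    exact Finset.prod_eq_zero (hL g g.2 (fun h => hg (Subtype.ext h))) (by simp)
  · simp

end Cfsg.Agent.S0724
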