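import Cfsg.Statements.S0727
import Cfsg.Agent.Lib.BN.ZassSharp

set_option autoImplicit false
open Cfsg

namespace Cfsg.Agent.S0727

open Cfsg.Lib Cfsg.Lib.BN

/-- A sharply triply transitive permutation group of degree `2^f + 1` is isomorphic to the projective general linear group of degree 2 over the field with `2^f` elements. -/
theorem result {α : Type*} [Fintype α] [DecidableEq α] {f : ℕ} (hf : 1 ≤ f) (hα : Fintype.card α = 2 ^ f + 1) (G : Subgroup (Equiv.Perm α)) (h3 : MulAction.IsMultiplyPretransitive G α 3) (hsharp : ∀ x : Fin 3 ↪ α, MulAction.stabilizer G x = ⊥) : ∃ (F : Type) (_ : Field F) (_ : Fintype F), Fintype.card F = 2 ^ f ∧ Nonempty (G ≃* Matrix.ProjGenLinGroup (Fin 2) F) := by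
  rw [← Nat.card_eq_fintype_card] at hα
  have h2 : 2 ^ 1 ≤ 2 ^ f := Nat.pow_le_pow_right (by norm_num) hf
  obtain ⟨a, b, c, hab, hac, hbc⟩ := exists_three_of_card (Ω := α) (by omega)
  have h := z3_of_sharp h3 hsharp hab hac hbc
  obtain ⟨k, _, _, hk, e⟩ := h.pgl_of_sharp_odd hab (h.card_of_three h3 hab hac hbc)
    (hα ▸ (Nat.even_pow.mpr ⟨even_two, by omega⟩).add_one)
  obtain ⟨F, _, _, hF, e⟩ := exists_pgl_zero e
  have := h.card_K a
  exact ⟨F, inferInstance, inferInstance, by omega, e⟩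

end Cfsg.Agent.S0727
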