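import Cfsg.Statements.S0730
import Cfsg.Agent.Lib.BN.ZassSharp

set_option autoImplicit false
open Cfsg

namespace Cfsg.Agent.S0730

open Cfsg.Lib Cfsg.Lib.BN

/-- A sharply triply transitive group of degree `p^f + 1`, `p` an odd prime and `f` odd, is isomorphic to the projective general linear group of degree 2 over the field with `p^f` elements (for even `f` there is a second, twisted, group). -/
theorem result {α : Type*} [Fintype α] [DecidableEq α] {p f : ℕ} (hp : p.Prime) (hp2 : p ≠ 2) (hfo : Odd f) (hα : Fintype.card α = p ^ f + 1) (G : Subgroup (Equiv.Perm α)) (h3 : MulAction.IsMultiplyPretransitive G α 3) (hsharp : ∀ x : Fin 3 ↪ α, MulAction.stabilizer G x = ⊥) : ∃ (F : Type) (_ : Field F) (_ : Fintype F), Fintype.card F = p ^ f ∧ Nonempty (G ≃* Matrix.ProjGenLinGroup (Fin 2) F) := by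
  rw [← Nat.card_eq_fintype_card] at hα
  have h2 : p ^ 1 ≤ p ^ f := Nat.pow_le_pow_right hp.pos hfo.pos
  have h4 := hp.two_le
  have h5 : Odd (p ^ f) := (hp.odd_of_ne_two hp2).pow
  rw [pow_one] at h2
  obtain ⟨a, b, c, hab, hac, hbc⟩ := exists_three_of_card (Ω := α) (by omega)
  have h := z3_of_sharp h3 hsharp hab hac hbc
  have hc := h.card_of_three h3 hab hac hbc
  have := h.card_K a
  obtain ⟨k, _, _, hk, e⟩ := h.pgl_of_sharp_even hab hc (by
    rw [hc, Nat.even_iff]; rw [Nat.odd_iff] at h5; omega) hp hfo (by omega)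
  obtain ⟨F, _, _, hF, e⟩ := exists_pgl_zero e
  exact ⟨F, inferInstance, inferInstance, by omega, e⟩

end Cfsg.Agent.S0730
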