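import Cfsg.Statements.S0733
import Mathlib.Tactic
import Mathlib.GroupTheory.GroupAction.Primitive

set_option autoImplicit false
open Cfsg

namespace Cfsg.Agent.S0733

/-- A permutation group of affine type — generated by the translations of a finite vector space `V` over `ZMod p` together with a group `G₀` of linear automorphisms — is primitive on `V` if and only if `G₀` is irreducible on `V`. -/
theorem result {p : ℕ} [Fact p.Prime] {V : Type*} [AddCommGroup V] [Module (ZMod p) V] [Finite V] [Nontrivial V] (G₀ : Subgroup (V ≃ₗ[ZMod p] V)) (G : Subgroup (Equiv.Perm V)) (hG : ∀ σ : Equiv.Perm V, σ ∈ G ↔ ∃ g ∈ G₀, ∃ b : V, ∀ x : V, σ x = (g : V ≃ₗ[ZMod p] V) x + b) : MulAction.IsPreprimitive G V ↔ ∀ W : Submodule (ZMod p) V, (∀ g ∈ G₀, ∀ v ∈ W, (g : V ≃ₗ[ZMod p] V) v ∈ W) → W = ⊥ ∨ W = ⊤ := by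
  have htr : ∀ b : V, Equiv.addRight b ∈ G := fun b => (hG _).mpr ⟨1, G₀.one_mem, b, fun x => by simp⟩
  have hlin : ∀ g ∈ G₀, (g : V ≃ₗ[ZMod p] V).toEquiv ∈ G := fun g hg => (hG _).mpr ⟨g, hg, 0, fun x => by simp⟩
  haveI : MulAction.IsPretransitive G V := ⟨fun x y => ⟨⟨_, htr (y - x)⟩, by
    change x + (y - x) = y; abel⟩⟩
  constructor
  · intro hprim W hW
    have hB : MulAction.IsBlock G (W : Set V) := by
      rw [MulAction.isBlock_iff_smul_eq_of_mem]
      intro σ x hx hσx
      obtain ⟨g, hg, b, hb⟩ := (hG σ).mp σ.2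
      have hσx' : (σ : Equiv.Perm V) x ∈ W := hσx
      have hbW : b ∈ W := by
        rw [hb] at hσx'
        simpa using W.sub_mem hσx' (hW g hg x hx)
      ext y
      constructor
      · rintro ⟨z, hz, rfl⟩
        change (σ : Equiv.Perm V) z ∈ W
        rw [hb]; exact W.add_mem (hW g hg z hz) hbW
      · intro hy
        refine ⟨g⁻¹ (y - b), hW _ (G₀.inv_mem hg) _ (W.sub_mem hy hbW), ?_⟩
        change (σ : Equiv.Perm V) _ = y
        rw [hb]
        have : g (g⁻¹ (y - b)) = y - b := g.apply_symm_apply _
        rw [this]; abel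
    rcases hB.subsingleton_or_eq_univ with h | h
    · left
      rw [eq_bot_iff]
      intro x hx
      exact h hx W.zero_mem
    · right
      exact SetLike.coe_injective h
  · intro h
    apply MulAction.IsPreprimitive.of_isTrivialBlock_base (0 : V)
    intro B h0 hB
    have hadd : ∀ b ∈ B, ∀ x, x ∈ B ↔ x + b ∈ B := by
      intro b hb x
      have := hB.smul_eq_of_mem (g := (⟨_, htr b⟩ : G)) h0 (by change (0 : V) + b ∈ B; simpa using hb)
      constructor
      · intro hx
        rw [← this]; exact ⟨x, hx, rfl⟩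
      · intro hx
        rw [← this] at hx
        obtain ⟨z, hz, hz'⟩ := hx
        have : z + b = x + b := hz'
        rwa [← add_right_cancel this]
    let A : AddSubgroup V :=
      { carrier := B
        zero_mem' := h0
        add_mem' := fun {x y} hx hy => (hadd y hy x).mp hx
        neg_mem' := fun {x} hx => (hadd x hx (-x)).mpr (by simpa using h0) }
    rcases h (AddSubgroup.toZModSubmodule p A) (by
      intro g hg v hv
      have := hB.smul_eq_of_mem (g := (⟨_, hlin g hg⟩ : G)) h0 (by change g 0 ∈ B; simpa using h0)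
      change g v ∈ B
      rw [← this]; exact ⟨v, hv, rfl⟩) with h1 | h1
    · left
      intro x hx y hy
      have hx' : x ∈ AddSubgroup.toZModSubmodule p A := hx
      have hy' : y ∈ AddSubgroup.toZModSubmodule p A := hy
      rw [h1, Submodule.mem_bot] at hx' hy'
      rw [hx', hy']
    · right
      rw [Set.eq_univ_iff_forall]
      intro x
      have : x ∈ AddSubgroup.toZModSubmodule p A := h1 ▸ Submodule.mem_top
      exact this

end Cfsg.Agent.S0733
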