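import Cfsg.Statements.S0737
import Cfsg.Agent.Lib.Hall.Homog
import Cfsg.Agent.S0735
import Cfsg.Agent.Lib.FT.Sec14d
import Cfsg.Agent.Lib.BG1.Elem
import Cfsg.Agent.Lib.Hall.Sh2d

set_option autoImplicit false
open Cfsg

namespace Cfsg.Agent.S0737

open scoped Pointwise commutatorElement
open Cfsg.Lib Cfsg.Lib.Hall

open Subgroup MulAction Cfsg.Lib.Hall.Lin Cfsg.Lib.BG1

/-- A non-trivial 2-homogeneous permutation group that is not doubly transitive has odd order and degree `p^f ≡ 3 (mod 4)`, and is permutation-isomorphic to a group of semi-affine transformations `x ↦ a φ(x) + b` of the field with `p^f` elements containing all translations. -/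
theorem result {α : Type*} [Fintype α] [DecidableEq α] (G : Subgroup (Equiv.Perm α)) (hne : G ≠ ⊥) (h2 : MulAction.IsPretransitive G (Set.powersetCard α 2)) (hn2 : ¬ MulAction.IsMultiplyPretransitive G α 2) : Odd (Nat.card G) ∧ ∃ (p f : ℕ) (_ : Fact p.Prime), p ≠ 2 ∧ Fintype.card α = p ^ f ∧ p ^ f % 4 = 3 ∧ ∃ e : α ≃ GaloisField p f, (∀ g : G, e.symm.trans (((g : Equiv.Perm α)).trans e) ∈ Cfsg.semiaffineGroup (GaloisField p f)) ∧ ∀ b : GaloisField p f, ∃ g : G, ∀ x : α, e ((g : Equiv.Perm α) x) = e x + b := by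
  have h3 : 3 ≤ Fintype.card α := by_contra fun h => hn2 (by
    rw [Equiv.Perm.subgroup_eq_top_of_nontrivial (by rw [Nat.card_eq_fintype_card]; omega) ((nontrivial_iff_ne_bot G).mpr hne)]
    exact Perm.mt_iff.mpr fun x y hx hy => (Perm.mt_iff.mp (Equiv.Perm.isMultiplyPretransitive α 2) x y hx hy).elim
      fun g hg => ⟨⟨g, trivial⟩, hg⟩)
  have ho : Odd (Nat.card G) := Nat.not_even_iff_odd.mp fun h => hn2 ((Cfsg.Agent.S0735.result G h2 h3).1 h)
  haveI := (Cfsg.Agent.S0735.result G h2 h3).2 hne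
  haveI := FT.odd_order_solvable G ho
  haveI := (nontrivial_iff_ne_bot G).mpr hne
  obtain ⟨N, p, _, n1, -, n2, hp, n3, -⟩ := exists_minNormal_elementary (G := G)
  haveI := Fact.mk hp
  haveI : Fact (IsElementaryAbelian p N) := ⟨n2, n3⟩
  haveI := Perm.isPretransitive_of_normal (α := α) N n1
  have n4 := semiregular_of_commute (Ω := α) (M := N) (K := N) fun x hx y hy => congrArg Subtype.val (n2.is_comm.comm ⟨x, hx⟩ ⟨y, hy⟩)
  obtain ⟨a, b, hab⟩ := Fintype.one_lt_card_iff.mp (show 1 < Fintype.card α by omega)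
  have n5 : Fintype.card α = Nat.card (EV p N) := by rw [EV.card_eq, Perm.card_eq_of_regular a (n4 a), Nat.card_eq_fintype_card]
  have n6 : Fintype.card α % 4 = 3 := by
    have h1 := ho.of_dvd_nat ⟨_, choose_mul_card h2 (Finset.card_pair hab)⟩
    have h4 := ho.of_dvd_nat (card_subgroup_dvd_card N)
    rw [← EV.card_eq (p := p), ← n5] at h4
    rw [Nat.card_eq_fintype_card, Nat.choose_two_right] at h1
    obtain ⟨m, hm⟩ := h4
    rw [hm, Nat.add_sub_cancel, mul_left_comm, Nat.mul_div_cancel_left _ two_pos, Nat.odd_mul] at h1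
    obtain ⟨j, hj⟩ := h1.2
    omega
  haveI : Nontrivial (EV p N) := Finite.one_lt_card_iff_nontrivial.mp (by omega)
  let u : EV p N ≃ α := Equiv.ofBijective (fun v => v.val • a) ⟨fun v w e =>
    EV.ext' (Perm.eq_of_smul_eq_of_semiregular (n4 a) v.val_mem w.val_mem e), fun x => (exists_smul_eq N a x).elim fun n hn => ⟨EV.mk p n, hn⟩⟩
  have hu : ∀ v, u v = v.val • a := fun _ => rfl
  let ρ : stabilizer G a × ℤˣ →* Module.End (ZMod p) (EV p N) :=
    { toFun := fun x => (x.2 : ℤ) • autRep p N (MulAut.conjNormal (x.1 : G))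
      map_one' := by simp
      map_mul' := fun x y => by rw [smul_mul_smul_comm, ← map_mul, ← map_mul]; rfl }
  have r1 : ∀ g v, u (ρ (g, 1) v) = (g : G) • u v := fun g v => by
    show ((1 : ℤ) • autRep p N (MulAut.conjNormal (g : G)) v).val • a = _
    rw [one_smul, hu, ← mul_smul]
    show ((g : G) * v.val * (g : G)⁻¹) • a = _
    rw [mul_smul, inv_smul_eq_iff.mpr (show a = (g : G) • a from g.2.symm)]
  have r2 : ∀ g v, ρ (g, -1) v = - ρ (g, 1) v := fun g v => by simp [ρ]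
  have r3 : ∀ g, ρ (g, 1) = 1 → g = 1 := fun g e => Subtype.ext (eq_of_smul_eq_smul (α := α) fun x => by
    obtain ⟨v, rfl⟩ := u.surjective x
    rw [← r1, e]; rfl)
  have hi : Function.Injective ρ := (injective_iff_map_eq_one ρ).mpr fun ⟨g, ε⟩ e => by
    rcases Int.units_eq_one_or ε with rfl | rfl
    · rw [r3 g e]; rfl
    · exfalso
      have h1 : g ^ 2 = 1 := r3 _ (by rw [show (g ^ 2, (1 : ℤˣ)) = (g, -1) ^ 2 by simp, map_pow, e, one_pow])
      have h4 : g = 1 := orderOf_eq_one_iff.mp (Nat.eq_one_of_dvd_coprimes (Nat.coprime_two_left.mpr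
        (ho.of_dvd_nat (card_subgroup_dvd_card _))) (orderOf_dvd_of_pow_eq_one h1) (orderOf_dvd_natCard g))
      obtain ⟨v, hv⟩ := exists_ne (0 : EV p N)
      have h5 := r2 g v
      rw [e, h4, show ((1 : stabilizer G a), (1 : ℤˣ)) = 1 from rfl, map_one, Module.End.one_apply, eq_neg_iff_add_eq_zero, ← two_nsmul] at h5
      have h6 := addOrderOf_dvd_natCard v
      rw [addOrderOf_eq_prime h5 hv] at h6
      omega
  have u0 : u 0 = a := one_smul G a
  have ht : Tr ρ := fun v w hv hw => by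
    obtain ⟨g, ⟨h1, h4⟩ | ⟨h1, h4⟩⟩ := hom_two h2 (u.injective.ne hv.symm) (u.injective.ne hw.symm)
    · exact ⟨(⟨g, by rwa [u0] at h1⟩, 1), u.injective ((r1 _ _).trans h4)⟩
    · refine ⟨(⟨w.val⁻¹ * g, by rw [mem_stabilizer_iff, mul_smul, inv_smul_eq_iff, ← hu, ← h1, u0]⟩, -1), ?_⟩
      rw [r2, neg_eq_iff_eq_neg]
      exact u.injective (by rw [r1, mul_smul, h4, u0]; rfl)
  obtain ⟨A, hA⟩ := exists_maxAb (stabilizer G a × ℤˣ)
  haveI := hA.normal
  have hI : Irr ρ A := by_contra fun hI => by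
    have := ht.huppert hi hA hI
    simp only [Set.mem_insert_iff, Set.mem_singleton_iff] at this
    omega
  obtain ⟨F, _, _, _, _, χ, θ, hf⟩ := ht.exists_fld hi hA.comm
  obtain ⟨K, _, _, e, he⟩ := hf.semilinear hI
  have n7 : Fintype.card α = p ^ Module.finrank (ZMod p) (EV p N) := n5.trans EV.card_eq_pow
  generalize Module.finrank (ZMod p) (EV p N) = f at n7
  have f0 : f ≠ 0 := by rintro rfl; rw [pow_zero] at n7; omega
  haveI := Fintype.ofFinite (GaloisField p f)
  let ψ : K ≃+* GaloisField p f := FiniteField.ringEquivOfCardEq (by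
    rw [← Nat.card_eq_fintype_card, ← Nat.card_eq_fintype_card, GaloisField.card p f f0, ← n7, n5, Nat.card_congr e.toEquiv])
  have t1 : ∀ (w : EV p N) x, ψ (e (u.symm (w.val • x))) = ψ (e (u.symm x)) + ψ (e w) := fun w x => by
    obtain ⟨v, rfl⟩ := u.surjective x
    rw [hu, smul_smul, ← EV.val_add, ← hu, ← hu, u.symm_apply_apply, u.symm_apply_apply, map_add, map_add, add_comm]
  refine ⟨ho, p, f, inferInstance, ?_, n7, n7 ▸ n6, u.symm.trans (e.toEquiv.trans ψ.toEquiv), fun g => ?_, fun b =>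
    ⟨(e.symm (ψ.symm b)).val, fun x => (t1 _ x).trans (by simp)⟩⟩
  · rintro rfl
    have := dvd_pow_self 2 f0
    omega
  · obtain ⟨w, hw⟩ := u.surjective (g • a)
    have g0 : w.val⁻¹ * g ∈ stabilizer G a := by rw [mem_stabilizer_iff, mul_smul, inv_smul_eq_iff, ← hu, hw]
    obtain ⟨c, σ, hc⟩ := he (⟨_, g0⟩, 1)
    have c0 : c ≠ 0 := fun c0 => by
      obtain ⟨v, hv⟩ := exists_ne (0 : EV p N)
      exact apply_ne_zero _ hv (e.injective (by rw [hc, c0, zero_mul, map_zero]))
    refine ⟨Units.mk0 (ψ c) (by simpa using c0), ψ (e w), ψ.symm.trans (σ.trans ψ), fun x => ?_⟩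
    show ψ (e (u.symm (g • u (e.symm (ψ.symm x))))) = _
    rw [← mul_inv_cancel_left w.val g, mul_smul, t1]
    erw [← r1 ⟨_, g0⟩, u.symm_apply_apply, hc]
    simp

end Cfsg.Agent.S0737
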