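import Cfsg.Statements.S0740
import Cfsg.Agent.Lib.BN.ZassStruct

set_option autoImplicit false
open Cfsg

namespace Cfsg.Agent.S0740

open Cfsg.Lib Cfsg.Lib.BN

/-- In a finite Zassenhaus group any two points `a ≠ b` are swapped by an involution; every such involution has exactly one fixed point when the degree is odd and 0 or 2 fixed points when the degree is even; and if the two-point stabiliser has even order, some such involution has exactly 2 fixed points. -/
theorem result {G Ω : Type*} [Group G] [Finite G] [MulAction G Ω] [Fintype Ω] (hZ : Cfsg.IsZassenhausGroup G Ω) {a b : Ω} (hab : a ≠ b) : (∃ s : G, orderOf s = 2 ∧ s • a = b ∧ s • b = a) ∧ (∀ s : G, orderOf s = 2 → s • a = b → s • b = a → (Odd (Fintype.card Ω) → Nat.card (MulAction.fixedBy Ω s) = 1) ∧ (Even (Fintype.card Ω) → Nat.card (MulAction.fixedBy Ω s) = 0 ∨ Nat.card (MulAction.fixedBy Ω s) = 2)) ∧ (Even (Fintype.card Ω) → Even (Nat.card ↥(MulAction.stabilizer G a ⊓ MulAction.stabilizer G b)) → ∃ s : G,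 orderOf s = 2 ∧ s • a = b ∧ s • b = a ∧ Nat.card (MulAction.fixedBy Ω s) = 2) := by
  have h := z3_of_zass hZ
  have key : ∀ s : G, orderOf s = 2 → Nat.card (MulAction.fixedBy Ω s) ≤ 2 ∧
      Nat.card (MulAction.fixedBy Ω s) % 2 = Fintype.card Ω % 2 := fun s hs => by
    have h1 := h.ncard_fix_le (g := s) (fun e => by rw [e, orderOf_one] at hs; omega)
    have h2 := Z3.ncard_fix_modEq (Ω := Ω) (s := s) (by rw [← sq, ← hs, pow_orderOf_eq_one])
    rw [Nat.card_eq_fintype_card] at h2
    exact ⟨h1, h2⟩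
  refine ⟨?_, fun s hs _ _ => ⟨fun ho => ?_, fun he => ?_⟩, fun he he' => ?_⟩
  · obtain ⟨s, hs, hs2⟩ := h.exists_sw_two hab
    exact ⟨s, orderOf_eq_prime (by rw [sq, hs2]) (hs.ne_one hab), hs.ab, hs.ba⟩
  · have := key s hs
    rw [Nat.odd_iff] at ho
    omega
  · have := key s hs
    rw [Nat.even_iff] at he
    omega
  · obtain ⟨c, h1, h2⟩ := h.exists_third (zass_E2_ne_bot hZ hab)
    obtain ⟨t, ht, hc⟩ := h.exists_sw_fix_of_even hab he' h1 h2
    have h3 : orderOf t = 2 := orderOf_eq_prime (by rw [sq, h.mul_self_of_fix hab ht hc]) (ht.ne_one hab)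
    refine ⟨t, h3, ht.ab, ht.ba, ?_⟩
    have := key t h3
    rw [Nat.even_iff] at he
    have : Nonempty (MulAction.fixedBy Ω t) := ⟨⟨c, hc⟩⟩
    have : 0 < Nat.card (MulAction.fixedBy Ω t) := Nat.card_pos
    omega

end Cfsg.Agent.S0740
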