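import Cfsg.Statements.S0747
import Cfsg.Agent.Lib.Hall.Homog4

set_option autoImplicit false
open scoped Pointwise
open Cfsg

namespace Cfsg.Agent.S0747

open scoped Pointwise commutatorElement
open Cfsg.Lib Cfsg.Lib.Hall

/-- In a `k`-transitive permutation group with `4 ≤ k < n`, some `(k+1)`-subset `Δ` has the property that every even permutation of `Δ` is induced by an element of the group stabilising `Δ`. -/
theorem result {α : Type*} [Fintype α] [DecidableEq α] (G : Subgroup (Equiv.Perm α)) {k : ℕ} (hk : 4 ≤ k) (hkn : k < Fintype.card α) (hG : MulAction.IsMultiplyPretransitive G α k) : ∃ Δ : Finset α, Δ.card = k + 1 ∧ ∀ σ : Equiv.Perm ↥Δ, σ ∈ alternatingGroup ↥Δ → ∃ g ∈ G, ∀ x : ↥Δ, g (x : α) = σ x := by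
  obtain ⟨k, rfl⟩ : ∃ j, k = j + 4 := ⟨k - 4, by omega⟩
  obtain ⟨x, x1, x2⟩ := exists_alt_le_ind _ α rfl G hkn hG
  refine ⟨Finset.univ.image x, by simp [Finset.card_image_of_injective _ x1], fun σ hσ => ?_⟩
  let e := Equiv.ofBijective (fun i => (⟨x i, by simp⟩ : Finset.univ.image x)) ⟨fun i j e => x1 (congrArg Subtype.val e),
    fun ⟨a, ha⟩ => (Finset.mem_image.mp ha).imp fun i hi => Subtype.ext hi.2⟩
  obtain ⟨g, hg⟩ := alt_le_ind_of (y := Subtype.val) (g := 1) (e := e.symm)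
    (fun a => (congrArg Subtype.val (e.apply_symm_apply a)).symm) x2 hσ
  exact ⟨g, g.2, hg⟩

end Cfsg.Agent.S0747
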