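import Cfsg.Statements.S0752
import Cfsg.Agent.Lib.Forms.More

set_option autoImplicit false
open Cfsg

namespace Cfsg.Agent.S0752

open Cfsg.Lib.Forms Module



/-- Classification of alternating forms: for an alternating bilinear form B on a finite-dimensional space over any field there is a basis indexed by (Fin m ⊕ Fin m) ⊕ Fin k such that B (e_i, f_j) = δ_ij, the e's are pairwise orthogonal, the f's are pairwise orthogonal, and the last k basis vectors are orthogonal to everything (they span the radical). -/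
theorem result {F V : Type*} [Field F] [AddCommGroup V] [Module F V] [FiniteDimensional F V] (B : LinearMap.BilinForm F V) (hA : B.IsAlt) : ∃ (m k : ℕ) (b : Module.Basis ((Fin m ⊕ Fin m) ⊕ Fin k) F V), (∀ i j : Fin m, B (b (Sum.inl (Sum.inl i))) (b (Sum.inl (Sum.inr j))) = if i = j then 1 else 0) ∧ (∀ i j : Fin m, B (b (Sum.inl (Sum.inl i))) (b (Sum.inl (Sum.inl j))) = 0) ∧ (∀ i j : Fin m, B (b (Sum.inl (Sum.inr i))) (b (Sum.inl (Sum.inr j))) = 0) ∧ (∀ (j : Fin k) (v : V), B (b (Sum.inr j)) v = 0) := by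
  set D := ofAlt B hA
  obtain ⟨C, hC⟩ := (D.perp ⊤).exists_isCompl
  have hN := D.nondeg_restrict_of_isCompl_rad hC
  obtain ⟨m, hm⟩ := Symp.exists_finrank_eq hN
  obtain ⟨e, he⟩ := (Symp.iso_fSymp hN hm).symm
  let b := ((((Pi.basisFun F (Fin m ⊕ Fin m)).reindex (Equiv.sumComm _ _)).map e).prod
    (finBasis F (D.perp ⊤))).map (Submodule.prodEquivOfIsCompl _ _ hC.symm)
  have h1 : ∀ i, b (.inl i) = e (Pi.single i.swap 1) := fun i => by simp [b]
  have h2 : ∀ x y, B (e x) (e y) = (fSymp F m).B x y := he.B_map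
  refine ⟨m, _, b, fun i j => ?_, fun i j => ?_, fun i j => ?_, fun j v => ?_⟩
  · simp [h1, h2, fSymp_B_inr, Pi.single_apply]
  · simp [h1, h2, fSymp_B_inr]
  · simp [h1, h2, fSymp_B_inl]
  · have : b (.inr j) = finBasis F (D.perp ⊤) j := by simp [b]
    rw [this]
    exact D.mem_perp'.1 (finBasis F (D.perp ⊤) j).2 v trivial

end Cfsg.Agent.S0752
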