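import Cfsg.Statements.S0756
import Cfsg.Agent.Lib.Forms.More

set_option autoImplicit false
open Cfsg

namespace Cfsg.Agent.S0756

open Cfsg.Lib.Forms Module



/-- Classification of symmetric bilinear forms over finite fields of odd characteristic: if B is non-degenerate symmetric on V of dimension n + 1 and α is a fixed non-square of F, there is an orthogonal basis b_0, ..., b_n with B(b_i, b_i) = 1 for i < n and B(b_n, b_n) ∈ {1, α}. -/
theorem result {F V : Type*} [Field F] [Finite F] [AddCommGroup V] [Module F V] [FiniteDimensional F V] (h2 : (2 : F) ≠ 0) (B : LinearMap.BilinForm F V) (hS : B.IsSymm) (hB : B.Nondegenerate) {n : ℕ} (hn : Module.finrank F V = n + 1) (α : F) (hα : ¬ IsSquare α) : ∃ b : Module.Basis (Fin (n + 1)) F V, (∀ i j, i ≠ j → B (b i) (b j) = 0) ∧ (∀ i, i ≠ Fin.last n → B (b i) (b i) = 1) ∧ (B (b (Fin.last n)) (b (Fin.last n)) = 1 ∨ B (b (Fin.last n)) (b (Fin.last n)) = α) := by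
  have hD := ofSymm_nondeg (hS := hS.eq) h2 hB
  have hα0 : α ≠ 0 := by rintro rfl; simp at hα
  obtain ⟨d, hd, hd0, h⟩ : ∃ d : F, (d = 1 ∨ d = α) ∧ d ≠ 0 ∧ chi d = Form.disc hD := by
    rcases Int.units_eq_one_or (Form.disc hD) with h | h
    · exact ⟨1, Or.inl rfl, one_ne_zero, by simp [h]⟩
    · exact ⟨α, Or.inr rfl, hα0, by rw [h, chi_of_not_isSquare hα]⟩
  have hw := fDiag_nondeg h2 (w := fun i : Fin (n + 1) => if i = Fin.last n then d else 1)
    fun i => by split_ifs <;> simp [hd0]
  obtain ⟨e, he⟩ := Form.iso_of_disc hw hD h2 (by simp [hn]) (by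
    rw [disc_fDiag, ← h]; simp [apply_ite chi])
  refine ⟨(Pi.basisFun F _).map e, fun i j hij => ?_, fun i hi => ?_, ?_⟩
  · simpa [h2] using (he.B_map _ _).trans (fDiag_orth _ i j hij)
  · simpa [hi, fDiag_Q_single] using he.Q_map (Pi.single i 1)
  · have := he.Q_map (Pi.single (Fin.last n) 1)
    simp only [fDiag_Q_single, ofSymm_Q, if_true] at this
    simpa [this] using hd

end Cfsg.Agent.S0756
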