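import Cfsg.Statements.S0757
import Cfsg.Agent.Lib.Forms.More

set_option autoImplicit false
open Cfsg

namespace Cfsg.Agent.S0757

open Cfsg.Lib.Forms Module



/-- The two diagonal forms Σ x_i^2 and Σ_(i<n) x_i^2 + α x_n^2 on F^(n+1), with α a non-square and 2 ≠ 0 in F, are inequivalent quadratic forms (so over a finite field of odd order there are exactly two classes of non-singular symmetric bilinear forms in each dimension). -/
theorem result {F : Type*} [Field F] (h2 : (2 : F) ≠ 0) (n : ℕ) (α : F) (hα : ¬ IsSquare α) : ¬ (QuadraticMap.weightedSumSquares F (fun _ : Fin (n + 1) => (1 : F))).Equivalent (QuadraticMap.weightedSumSquares F (fun i : Fin (n + 1) => if i = Fin.last n then α else (1 : F))) := by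
  rintro ⟨e⟩
  have he : Form.IsIsometry (fDiag fun _ : Fin (n + 1) => (1 : F))
      (fDiag fun i : Fin (n + 1) => if i = Fin.last n then α else 1) e.toLinearEquiv :=
    quad_isIsometry (map_add _) fun x => by
      have := e.map_app x
      simp only [fDiag_Q, QuadraticMap.weightedSumSquares_apply, smul_eq_mul, sq] at this ⊢
      exact this
  obtain ⟨t, ht, h⟩ := Form.exists_det_gram_eq
    (D := fDiag fun i : Fin (n + 1) => if i = Fin.last n then α else 1) (Pi.basisFun F _)
    ((Pi.basisFun F _).map e.toLinearEquiv)
  rw [det_gram_fDiag, show Form.gram _ ((Pi.basisFun F _).map e.toLinearEquiv) =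
    (fDiag fun _ : Fin (n + 1) => (1 : F)).gram (Pi.basisFun F _) from
      Matrix.ext fun i j => he.B_map _ _, det_gram_fDiag] at h
  simp only [Finset.prod_const_one, Finset.prod_ite_eq', Finset.mem_univ, if_true] at h
  refine hα ⟨t⁻¹, ?_⟩
  field_simp at h ⊢
  exact h.symm

end Cfsg.Agent.S0757
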