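import Cfsg.Statements.S0758
import Cfsg.Agent.Lib.Forms.Quad

set_option autoImplicit false
open Cfsg

namespace Cfsg.Agent.S0758

open Cfsg.Lib.Forms



/-- For a finite field F of odd order q and a non-square α: the form x² + y² is isotropic iff q ≡ 1 mod 4, and the form x² + α y² is isotropic iff q ≡ 3 mod 4. -/
theorem result {F : Type*} [Field F] [Fintype F] (h2 : (2 : F) ≠ 0) (α : F) (hα : ¬ IsSquare α) : ((∃ x y : F, (x ≠ 0 ∨ y ≠ 0) ∧ x ^ 2 + y ^ 2 = 0) ↔ Fintype.card F % 4 = 1) ∧ ((∃ x y : F, (x ≠ 0 ∨ y ≠ 0) ∧ x ^ 2 + α * y ^ 2 = 0) ↔ Fintype.card F % 4 = 3) := by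
  have key : ∀ a : F, (∃ x y : F, (x ≠ 0 ∨ y ≠ 0) ∧ x ^ 2 + a * y ^ 2 = 0) ↔ IsSquare (-a) := by
    intro a
    refine ⟨fun ⟨x, y, h1, h3⟩ => ?_, fun ⟨s, hs⟩ => ⟨s, 1, Or.inr one_ne_zero, by linear_combination -hs⟩⟩
    have hy : y ≠ 0 := by
      rintro rfl
      simp_all
    exact ⟨x / y, by field_simp; linear_combination -h3⟩
  have h1 := odd_card_iff.2 h2
  rw [Nat.card_eq_fintype_card, Nat.odd_iff] at h1
  have h3 := FiniteField.isSquare_neg_one_iff (F := F)
  constructor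
  · have := key 1
    simp only [one_mul] at this
    rw [this, h3]; omega
  · rw [key]
    constructor
    · intro h
      by_contra hc
      exact not_isSquare_mul (h3.2 hc) (by simp) hα (by simpa using h)
    · intro h
      simpa using isSquare_mul_of_not_isSquare (h3.not.2 (by simpa using h)) hα

end Cfsg.Agent.S0758
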