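import Cfsg.Statements.S0759
import Cfsg.Agent.Lib.Forms.More

set_option autoImplicit false
open Cfsg

namespace Cfsg.Agent.S0759

open Cfsg.Lib.Forms Module



/-- Type of the orthonormal form: over a finite field of odd order q and for m ≥ 1, the quadratic form Σ_(i<2m) x_i² on F^(2m) admits an m-dimensional subspace on which it vanishes identically if and only if it is not the case that q ≡ 3 (mod 4) and m is odd. -/
theorem result {F : Type*} [Field F] [Fintype F] (h2 : (2 : F) ≠ 0) (m : ℕ) (hm : 1 ≤ m) : (∃ W : Submodule F (Fin (2 * m) → F), Module.finrank F W = m ∧ ∀ w ∈ W, ∑ i, w i ^ 2 = 0) ↔ ¬ (Fintype.card F % 4 = 3 ∧ Odd m) := by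
  have hD := fDiag_nondeg h2 (w := fun _ : Fin (2 * m) => (1 : F)) fun _ => one_ne_zero
  have h1 := Form.hasTS_iff_disc hD h2 (m := m) (by simp)
  simp only [Form.hasTS_quad_iff, fDiag_Q, one_mul, disc_fDiag, chi_one, Finset.prod_const_one] at h1
  rw [h1, eq_comm, ← Nat.card_eq_fintype_card]
  have h3 := chi_neg_one_pow h2 1
  have h4 := Nat.odd_iff.1 (odd_card_iff.2 h2)
  rw [pow_one, pow_one] at h3
  by_cases h5 : Nat.card F % 4 = 3
  · simp [h3.2.2 h5, h5, neg_one_pow_eq_one_iff_even, -Nat.card_eq_fintype_card]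
  · simp [h3.1.2 (by omega), h5, -Nat.card_eq_fintype_card]

end Cfsg.Agent.S0759
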