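import Cfsg.Statements.S0760
import Cfsg.Agent.Lib.Forms.Kinds

set_option autoImplicit false
open Cfsg

namespace Cfsg.Agent.S0760

open Cfsg.Lib.Forms Module

theorem le_of {F V : Type*} [Field F] [AddCommGroup V] [Module F V] [FiniteDimensional F V]
    (Q : QuadraticForm F V) (hQ : (QuadraticMap.polarBilin Q).Nondegenerate)
    (W₁ W₂ : Submodule F V) (h₁ : ∀ w ∈ W₁, Q w = 0) (h₂ : ∀ w ∈ W₂, Q w = 0)
    (hmax₁ : ∀ W : Submodule F V, W₁ ≤ W → (∀ w ∈ W, Q w = 0) → W = W₁) :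
    finrank F W₂ ≤ finrank F W₁ := by
  by_contra hlt
  push Not at hlt
  obtain ⟨φ, hφ⟩ := (finrank_le_iff_exists_linearMap (R := F) (M := W₁) (M' := W₂)).1 hlt.le
  obtain ⟨g, hg⟩ := Form.Nondeg.witt (D := ofQuad Q) hQ.1 W₁ (W₂.subtype ∘ₗ φ)
    (W₂.injective_subtype.comp hφ) (quad_isIsometry (map_add _) fun x => by
      simp [h₁ x x.2, h₂ _ (φ x).2])
  have := hmax₁ (W₂.comap (g.1 : V →ₗ[F] V)) (fun x hx => by
    have := hg ⟨x, hx⟩
    simp only [Submodule.mem_comap, LinearEquiv.coe_coe]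
    rw [this]; exact (φ ⟨x, hx⟩).2) (fun w hw => by
      rw [← h₂ _ hw]; exact (g.2.Q_map w).symm)
  rw [← this, Submodule.comap_equiv_eq_map_symm, LinearEquiv.finrank_map_eq] at hlt
  exact lt_irrefl _ hlt

/-- Witt index is well defined: if Q is a quadratic form on a finite-dimensional space V over a finite field with non-degenerate polar form, and W₁, W₂ are subspaces on which Q vanishes that are maximal with this property, then W₁ and W₂ have the same dimension, and twice this dimension is at most dim V. -/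
theorem result {F V : Type*} [Field F] [Finite F] [AddCommGroup V] [Module F V] [FiniteDimensional F V] (Q : QuadraticForm F V) (hQ : (QuadraticMap.polarBilin Q).Nondegenerate) (W₁ W₂ : Submodule F V) (h₁ : ∀ w ∈ W₁, Q w = 0) (h₂ : ∀ w ∈ W₂, Q w = 0) (hmax₁ : ∀ W : Submodule F V, W₁ ≤ W → (∀ w ∈ W, Q w = 0) → W = W₁) (hmax₂ : ∀ W : Submodule F V, W₂ ≤ W → (∀ w ∈ W, Q w = 0) → W = W₂) : Module.finrank F W₁ = Module.finrank F W₂ ∧ 2 * Module.finrank F W₁ ≤ Module.finrank F V := by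
  refine ⟨le_antisymm (le_of Q hQ W₂ W₁ h₂ h₁ hmax₂) (le_of Q hQ W₁ W₂ h₁ h₂ hmax₁), ?_⟩
  have h := Form.Nondeg.finrank_perp (D := ofQuad Q) hQ.1 W₁
  have : W₁ ≤ (ofQuad Q).perp W₁ := fun x hx w hw => by
    simp [QuadraticMap.polar, h₁ _ hx, h₁ _ hw, h₁ _ (add_mem hw hx)]
  have := Submodule.finrank_mono this
  omega

end Cfsg.Agent.S0760
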