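import Cfsg.Statements.S0761
import Cfsg.Agent.Lib.Forms.Kinds

set_option autoImplicit false
open Cfsg

namespace Cfsg.Agent.S0761

open Cfsg.Lib.Forms



/-- Hyperbolic partners: let B be a non-degenerate bilinear form on a finite-dimensional space, either alternating, or symmetric with 2 ≠ 0. If Z is a subspace on which B vanishes, x ∉ Z is isotropic and orthogonal to Z, then there is an isotropic y with B x y = 1 which is orthogonal to Z. -/
theorem result {F V : Type*} [Field F] [AddCommGroup V] [Module F V] [FiniteDimensional F V] (B : LinearMap.BilinForm F V) (hB : B.Nondegenerate) (hform : B.IsAlt ∨ (B.IsSymm ∧ (2 : F) ≠ 0)) (x : V) (Z : Submodule F V) (hxZ : x ∉ Z) (hx : B x x = 0) (hxz : ∀ z ∈ Z, B x z = 0) (hZ : ∀ z ∈ Z, ∀ z' ∈ Z, B z z' = 0) : ∃ y : V, B y y = 0 ∧ B x y = 1 ∧ ∀ z ∈ Z, B z y = 0 := by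
  rcases hform with hA | ⟨hS, h2⟩
  · obtain ⟨y, hy, -, h⟩ := Form.Nondeg.exists_partner (D := ofAlt B hA) hB.1 (H := Z) (e := x) rfl
      hxZ ((ofAlt B hA).mem_perp'.2 hxz) 1 one_ne_zero
    exact ⟨y, hA.self_eq_zero y, h, hy⟩
  · have hS' : LinearMap.IsSymm B := ⟨hS.eq⟩
    obtain ⟨y, hy, hQ, h⟩ := Form.Nondeg.exists_partner
      (D := ofHerm (σ := RingHom.id F) (fun _ => rfl) (Or.inr h2) B hS') hB.1 (H := Z) (e := x) hx
      hxZ ((ofHerm (σ := RingHom.id F) (fun _ => rfl) (Or.inr h2) B hS').mem_perp'.2 hxz) 1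
      one_ne_zero
    exact ⟨y, hQ, h, hy⟩

end Cfsg.Agent.S0761
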