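import Cfsg.Statements.S0763
import Cfsg.Agent.Lib.Forms.Quad

set_option autoImplicit false
open Cfsg

namespace Cfsg.Agent.S0763

open Cfsg.Lib.Forms



/-- Binary quadratic forms in characteristic two over a finite field: if Q is a quadratic form on a 2-dimensional space whose polar form is non-degenerate, then either there are vectors v, w with Q v = Q w = 0 and polar value 1 (Q is xy in these coordinates), or there are v, w and μ with Q v = 1, Q w = μ, polar value 1 and x² + x + μ without roots in F (Q is x² + xy + μy²). -/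
theorem result {F V : Type*} [Field F] [Finite F] [CharP F 2] [AddCommGroup V] [Module F V] (Q : QuadraticForm F V) (h2 : Module.finrank F V = 2) (hQ : (QuadraticMap.polarBilin Q).Nondegenerate) : (∃ v w : V, LinearIndependent F ![v, w] ∧ Q v = 0 ∧ Q w = 0 ∧ QuadraticMap.polar Q v w = 1) ∨ (∃ (v w : V) (μ : F), LinearIndependent F ![v, w] ∧ (∀ x : F, x ^ 2 + x + μ ≠ 0) ∧ Q v = 1 ∧ Q w = μ ∧ QuadraticMap.polar Q v w = 1) := by
  have : FiniteDimensional F V := Module.finite_of_finrank_pos (by omega)
  have hD := ofQuad_nondeg hQ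
  rcases hD.aniso_or_exists_isHyp with h | ⟨e, f, h⟩
  · obtain ⟨b, e, he⟩ := Quad.exists_iso_fBin_one (CharTwo.two_eq_zero) hD h2
    refine Or.inr ⟨e.symm ![1, 0], e.symm ![0, 1], b, ?_, fun x hx => ?_, ?_, ?_, ?_⟩
    · rw [LinearIndependent.pair_iff]
      intro s t hst
      simpa [funext_iff, Fin.forall_fin_two] using congrArg e hst
    · simpa using fBin_aniso_iff.1 (Form.Iso.aniso ⟨e, he⟩ h) x 1 (by simpa using hx)
    · simpa [fBin_Q] using he.symm.Q_map ![1, 0]
    · simpa [fBin_Q] using he.symm.Q_map ![0, 1]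
    · simpa [fBin_B] using he.symm.B_map ![1, 0] ![0, 1]
  · exact Or.inl ⟨e, f, h.linearIndependent, h.Q_e, h.Q_f, h.B_ef⟩

end Cfsg.Agent.S0763
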