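import Cfsg.Statements.S0767
import Cfsg.Agent.Lib.Forms.Symp

set_option autoImplicit false
open Cfsg

namespace Cfsg.Agent.S0767

open Cfsg.Lib.Forms



/-- The root group of a point: T_v(c) T_v(d) = T_v(c + d), and for A in the symplectic group with A v = a v, the conjugate A T_v(c) A⁻¹ is again some T_v(d). -/
theorem result {F : Type*} [Field F] (m : ℕ) (v : Fin m ⊕ Fin m → F) : (∀ c d : F, Cfsg.sympTransvection m v c * Cfsg.sympTransvection m v d = Cfsg.sympTransvection m v (c + d)) ∧ ∀ (A : Matrix (Fin m ⊕ Fin m) (Fin m ⊕ Fin m) F) (a : F), A ∈ Matrix.symplecticGroup (Fin m) F → A.mulVec v = a • v → ∀ c : F, ∃ d : F, A * Cfsg.sympTransvection m v c * A⁻¹ = Cfsg.sympTransvection m v d := by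
  refine ⟨fun c d => matrix_eq_iff.2 fun x => ?_, fun A a hA hv c => ⟨a ^ 2 * c, matrix_eq_iff.2 fun x => ?_⟩⟩
  · rw [← Matrix.mulVec_mulVec, sympTransvection_mulVec, sympTransvection_mulVec,
      sympTransvection_mulVec, neg_add, Symp.tv_add]; rfl
  · have h := Symp.conj_tv (spEquiv F m ⟨A, hA⟩) v (-c)
    rw [spEquiv_apply, hv, Symp.tv_smul, mul_neg] at h
    rw [sympTransvection_mulVec, ← h, ← map_inv, ← SymplecticGroup.coe_inv' ⟨A, hA⟩,
      ← Matrix.mulVec_mulVec, ← Matrix.mulVec_mulVec, sympTransvection_mulVec]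
    rfl

end Cfsg.Agent.S0767
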