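import Cfsg.Statements.S0768
import Cfsg.Agent.Lib.Forms.Symp

set_option autoImplicit false
open scoped LinearAlgebra.Projectivization
open Cfsg

namespace Cfsg.Agent.S0768

open Cfsg.Lib.Forms MulAction



/-- Primitivity: for m ≥ 1 and F finite, the symplectic group of the form sympForm (as a subgroup of the general linear group) acts primitively on the projective space of F^(2m). -/
theorem result {F : Type*} [Field F] [Finite F] (m : ℕ) (hm : 1 ≤ m) : MulAction.IsPreprimitive ↥(Cfsg.spGL m F) (ℙ F (Fin m ⊕ Fin m → F)) := by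
  have hD := fSymp_nondeg (F := F) m
  have act : ∀ (g : (fSymp F m).isom) (x : Fin m ⊕ Fin m → F) (hx : x ≠ 0),
      (spGLEquiv F m).symm g • Projectivization.mk F x hx =
        Projectivization.mk F (g.1 x) (by simpa using hx) := fun g x hx => by
    obtain ⟨g, rfl⟩ := (spGLEquiv F m).surjective g
    rw [MulEquiv.symm_apply_apply]; rfl
  have : IsPretransitive ↥(Cfsg.spGL m F) (ℙ F (Fin m ⊕ Fin m → F)) := ⟨fun x y => by
    induction x using Projectivization.ind with | h x hx => ?_
    induction y using Projectivization.ind with | h y hy => ?_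
    obtain ⟨g, rfl⟩ := Symp.exists_map hD hx hy
    exact ⟨_, act g x hx⟩⟩
  refine IsPreprimitive.mk fun {B} hB => ?_
  by_cases hs : B.Subsingleton
  · exact Or.inl hs
  right
  obtain ⟨a, ha, b, hb, hab⟩ := Set.not_subsingleton_iff.1 hs
  induction a using Projectivization.ind with | h a ha0 => ?_
  induction b using Projectivization.ind with | h b hb0 => ?_
  let R : (Fin m ⊕ Fin m → F) → (Fin m ⊕ Fin m → F) → Prop := fun x y => (x = 0 ∧ y = 0) ∨
    ∃ (hx : x ≠ 0) (hy : y ≠ 0), ∀ g : ↥(Cfsg.spGL m F), g • Projectivization.mk F x hx ∈ B ↔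
      g • Projectivization.mk F y hy ∈ B
  have key := fun x y hx hy => hD.rel_total (G := ⊤) (fun _ _ _ _ => trivial) (Symp.rich _ 5) R
    (by
      rintro x y (h | ⟨hx, hy, h⟩)
      · exact Or.inl h.symm
      · exact Or.inr ⟨hy, hx, fun g => (h g).symm⟩)
    (by
      rintro x y z (h | ⟨hx, hy, h⟩) (h' | ⟨hy', hz, h'⟩)
      · exact Or.inl ⟨h.1, h'.2⟩
      · exact (hy' h.2).elim
      · exact (hy h'.1).elim
      · exact Or.inr ⟨hx, hz, fun g => (h g).trans (h' g)⟩)
    (fun x c hc => by
      by_cases hx : x = 0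
      · exact Or.inl ⟨hx, by simp [hx]⟩
      · refine Or.inr ⟨hx, smul_ne_zero hc hx, fun g => ?_⟩
        rw [(Projectivization.mk_eq_mk_iff' F _ _ (smul_ne_zero hc hx) hx).2 ⟨c, rfl⟩])
    (by
      rintro g - x y (h | ⟨hx, hy, h⟩)
      · exact Or.inl ⟨by simp [h.1], by simp [h.2]⟩
      · refine Or.inr ⟨by simpa using hx, by simpa using hy, fun k => ?_⟩
        rw [← act g x hx, ← act g y hy, ← mul_smul, ← mul_smul, h])
    (alt_Q _ a) ha0 (alt_Q _ b) (fun h => hab (by
      obtain ⟨c, hc⟩ := Submodule.mem_span_singleton.1 h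
      exact ((Projectivization.mk_eq_mk_iff' F _ _ hb0 ha0).2 ⟨c, hc⟩).symm))
    (Or.inr ⟨ha0, hb0, fun g => by
      constructor
      · intro h
        rw [← hB.smul_eq_of_mem ha h]; exact Set.smul_mem_smul_set hb
      · intro h
        rw [← hB.smul_eq_of_mem hb h]; exact Set.smul_mem_smul_set ha⟩)
    (x := x) (y := y) (alt_Q _ x) hx (alt_Q _ y) hy
  rw [Set.eq_univ_iff_forall]
  intro x
  induction x using Projectivization.ind with | h x hx => ?_
  rcases key a x ha0 hx with h | ⟨_, _, h⟩
  · exact (ha0 h.1).elim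
  · simpa using (h 1).1 (by simpa using ha)

end Cfsg.Agent.S0768
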