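import Cfsg.Statements.S0770
import Cfsg.Agent.Lib.Linear.Stab

set_option autoImplicit false
open Cfsg

namespace Cfsg.Agent.S0770

/-- For a field with at least 3 elements, an invertible matrix normalises the subgroup of invertible diagonal matrices of GL_n if and only if it is monomial (exactly one non-zero entry in each row). -/
theorem result {F : Type*} [Field F] (hF : ∃ a : F, a ≠ 0 ∧ a ≠ 1) (n : ℕ) (g : Matrix.GeneralLinearGroup (Fin n) F) : g ∈ Subgroup.normalizer ((Units.map (Matrix.diagonalRingHom (Fin n) F).toMonoidHom).range : Subgroup (Matrix.GeneralLinearGroup (Fin n) F)) ↔ ∀ i : Fin n, ∃! j : Fin n, (g : Matrix (Fin n) (Fin n) F) i j ≠ 0 := by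
  open Cfsg.Lib.Linear Matrix in
  obtain ⟨a, ha, ha1⟩ := hF
  have hm : ∀ h : GL (Fin n) F, h ∈ (Units.map (diagonalRingHom (Fin n) F).toMonoidHom).range ↔
      ∃ d : Fin n → F, (h : Matrix (Fin n) (Fin n) F) = diagonal d := fun h => by
    refine ⟨by rintro ⟨d, rfl⟩; exact ⟨d, rfl⟩, fun ⟨d, hd⟩ => ?_⟩
    have : IsUnit d := by
      rw [← isUnit_diagonal, ← hd]; exact h.isUnit
    exact ⟨this.unit, Units.ext hd.symm⟩
  rw [Subgroup.mem_normalizer_iff]
  constructor
  · intro h i
    obtain ⟨j, hj⟩ := exists_row_ne_zero g.det_ne_zero i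
    refine ⟨j, hj, fun k hk => by_contra fun hkj => ?_⟩
    obtain ⟨d, hd⟩ := (hm _).1 ((h (GeneralLinearGroup.mkOfDetNeZero (diagonal (Function.update 1 j a))
      (by rw [det_diagonal, Finset.prod_update_of_mem (Finset.mem_univ _)]; simpa using ha))).1
      ((hm _).2 ⟨_, rfl⟩))
    have h2 : (g : Matrix (Fin n) (Fin n) F) * diagonal (Function.update 1 j a) = diagonal d * g := by
      rw [← hd]; simp
    have := (eq_of_mul_diagonal h2 hj).trans (eq_of_mul_diagonal h2 hk).symm
    simp [hkj, ha1] at this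
  · intro h x
    obtain ⟨σ, hσ⟩ := exists_perm_of_row_unique g.det_ne_zero h
    rw [hm, hm]
    constructor
    · rintro ⟨d, hd⟩
      exact ⟨d ∘ σ, by rw [Units.val_mul, Units.val_mul, hd, mul_diagonal_of_monomial hσ]; simp⟩
    · rintro ⟨d, hd⟩
      refine ⟨d ∘ σ.symm, ?_⟩
      have h1 := mul_diagonal_of_monomial hσ (d ∘ σ.symm)
      rw [show (d ∘ σ.symm) ∘ σ = d by ext; simp, ← hd] at h1
      simpa [mul_assoc] using h1.symm

end Cfsg.Agent.S0770
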