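import Cfsg.Statements.S0773
import Cfsg.Agent.Lib.Linear.Stab
import Cfsg.Agent.Lib.Forms.Bridge

set_option autoImplicit false
open Cfsg

namespace Cfsg.Agent.S0773

open Cfsg.Lib.Linear Matrix in
theorem aux {F : Type*} [Field F] {n k l : ℕ} (h : k + l = n) (g : GL (Fin n) F)
    (hg : g ∈ stabilizing (glToMat (Fin n) F) (coordKer F (fun i : Fin n => k ≤ (i : ℕ)) : Set _)) :
    glReindex Fin.revPerm (glInvTranspose (Fin n) F g) ∈
      stabilizing (glToMat (Fin n) F) (coordKer F (fun i : Fin n => l ≤ (i : ℕ)) : Set _) := by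
  have := mem_stabilizing_coordKer.1 (inv_mem hg)
  refine mem_stabilizing_coordKer.2 fun i j hi hj => this j.rev i.rev ?_ ?_
  · have := j.2; simp; omega
  · have := i.2; simp; omega

open Cfsg.Lib.Linear Matrix in
theorem aux2 {F : Type*} [Field F] {n k l : ℕ} (h : k + l = n) :
    Nonempty (stabilizing (glToMat (Fin n) F) (coordKer F (fun i : Fin n => k ≤ (i : ℕ)) : Set _) ≃*
      stabilizing (glToMat (Fin n) F) (coordKer F (fun i : Fin n => l ≤ (i : ℕ)) : Set _)) := by
  obtain ⟨e, he⟩ : ∃ e : GL (Fin n) F ≃* GL (Fin n) F,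
    ∀ g, e g = glReindex Fin.revPerm (glInvTranspose (Fin n) F g) :=
      ⟨(glInvTranspose (Fin n) F).trans (glReindex Fin.revPerm), fun _ => rfl⟩
  have he2 : ∀ g, e (e g) = g := fun g => by
    rw [he, he]
    refine Units.ext (Matrix.ext fun i j => ?_)
    rw [coe_glReindex, coe_glInvTranspose, ← map_inv, coe_glReindex, ← map_inv, coe_glInvTranspose]
    simp
  refine ⟨Cfsg.Lib.Forms.subgroupEquivOfIff e _ _ fun g => ⟨fun hg => ?_, fun hg => ?_⟩⟩
  · rw [he]; exact aux h g hg
  · rw [← he2 g, he]; exact aux (by omega) _ hg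

/-- The stabilisers in GL_n(F), F finite, of the coordinate subspaces of dimensions k and n − k are isomorphic groups, but when 2k ≠ n (and 0 < k < n) no element of GL_n conjugates one onto the other. -/
theorem result {F : Type*} [Field F] [Finite F] (n k : ℕ) (hk0 : 0 < k) (hkn : k < n) (h2 : 2 * k ≠ n) : Nonempty (↥(Cfsg.stabilizing (Cfsg.glToMat (Fin n) F) {v : Fin n → F | ∀ i : Fin n, k ≤ (i : ℕ) → v i = 0}) ≃* ↥(Cfsg.stabilizing (Cfsg.glToMat (Fin n) F) {v : Fin n → F | ∀ i : Fin n, n - k ≤ (i : ℕ) → v i = 0})) ∧ ∀ g : Matrix.GeneralLinearGroup (Fin n) F, (Cfsg.stabilizing (Cfsg.glToMat (Fin n) F) {v : Fin n → F | ∀ i : Fin n, k ≤ (i : ℕ) → v i = 0}).map (MulAut.conj g).toMonoidHom ≠ Cfsg.stabilizing (Cfsg.glToMat (Fin n) F) {v : Fin n → F | ∀ i : Fin n, n - k ≤ (i : ℕ) → v i = 0} := by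
  open Cfsg.Lib.Linear in
  constructor
  · exact aux2 (by omega)
  · intro g hg
    have h1 := finrank_coordKer (F := F) (fun i : Fin n => k ≤ (i : ℕ))
    have h2 := finrank_coordKer (F := F) (fun i : Fin n => n - k ≤ (i : ℕ))
    rw [card_fin_lt (by omega)] at h1 h2
    have h3 : Module.finrank F ((coordKer F (fun i : Fin n => k ≤ (i : ℕ))).map
        (Matrix.toLin' (glToMat (Fin n) F g))) = k := by
      exact ((Matrix.GeneralLinearGroup.toLin g).toLinearEquiv.finrank_map_eq _).trans h1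
    have := gl_stabilizing_injective (U := coordKer F (fun i : Fin n => n - k ≤ (i : ℕ))) (fun h => by rw [h] at h3; simp at h3; omega)
      (fun h => by rw [h] at h2; simp at h2; omega) ((map_conj_stabilizing _ g).symm.trans hg)
    rw [this] at h3
    omega

end Cfsg.Agent.S0773
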