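import Cfsg.Statements.S0774
import Cfsg.Agent.Lib.Forms.Std

set_option autoImplicit false
open Cfsg

namespace Cfsg.Agent.S0774

open Cfsg.Lib.Forms Module



/-- Borel subgroup of the symplectic group: the elements of Sp_2m(q) stabilising each of the totally isotropic coordinate subspaces ⟨e_0, ..., e_k⟩ (k < m) form a subgroup of order q^(m²) (q − 1)^m. -/
theorem result {F : Type*} [Field F] [Fintype F] {q : ℕ} (hF : Fintype.card F = q) (m : ℕ) : Nat.card ↥(⨅ k : Fin m, Cfsg.stabilizing (Cfsg.spToMat m F) {v : Fin m ⊕ Fin m → F | (∀ i : Fin m, (k : ℕ) < (i : ℕ) → v (Sum.inl i) = 0) ∧ ∀ i : Fin m, v (Sum.inr i) = 0}) = q ^ (m ^ 2) * (q - 1) ^ m := by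
  rw [← Nat.card_eq_fintype_card] at hF
  have hD := fSymp_nondeg (F := F) m
  set D := fSymp F m
  let W : ℕ → Submodule F (Fin m ⊕ Fin m → F) := fun k => Pi.spanSubset F (Sum.inl '' {i | (i : ℕ) < k})
  have hW : ∀ k v, v ∈ W k ↔ (∀ i : Fin m, k ≤ i → v (.inl i) = 0) ∧ ∀ i, v (.inr i) = 0 := fun k v => by
    simp only [W, Pi.mem_spanSubset_iff, Sum.forall, Sum.inl_injective.mem_set_image]
    simp
  have hT : ∀ k, D.IsTS (W k) := fun k => Symp.isTS fun u hu v hv => by
    simp [D, fSymp_B', ((hW _ _).1 hu).2, ((hW _ _).1 hv).2]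
  have hr : ∀ k ≤ m, finrank F (W k) = k := fun k hk => by
    simp only [W, Pi.dim_spanSubset, Set.ncard_image_of_injective _ Sum.inl_injective]
    rw [Set.ncard_eq_toFinset_card']; simp [Fin.card_filter_val_lt, hk]
  have hle : ∀ {k l}, k ≤ l → W k ≤ W l := fun {k l} h v hv =>
    (hW _ _).2 ⟨fun i hi => ((hW _ _).1 hv).1 i (h.trans hi), ((hW _ _).1 hv).2⟩
  obtain ⟨G, hG⟩ : ∃ G : ℕ → Subgroup D.isom, ∀ j g, g ∈ G j ↔ ∀ k ≤ j, g ∈ D.stab (W k) :=
    ⟨fun j => ⨅ k ≤ j, D.stab (W k), by simp [Subgroup.mem_iInf]⟩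
  have h0 : G 0 = ⊤ := eq_top_iff.2 fun g _ => (hG _ _).2 fun k hk => by
    rw [Submodule.finrank_eq_zero.1 ((hr k (by omega)).trans (by omega))]
    exact D.mem_stab_of_mapsTo fun x hx => by simp [show x = 0 from hx]
  have h1 : ∀ j ≤ m, Nat.card D.isom * (q - 1) ^ j =
      (∏ i ∈ Finset.range j, (q ^ (2 * (m - i)) - 1)) * Nat.card (G j) := fun j hj => by
    induction j with
    | zero => simp [h0]
    | succ j ih =>
      obtain ⟨W', hd⟩ := (hT j).exists_isDual hD
      have e1 := hD.card_eq_mul_card_inf_stab (hT (j + 1)) (hle j.le_succ) (G := G j)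
        (by rw [hr _ hj, hr _ (by omega)])
        (fun g hg => (hG _ _).2 fun k hk => D.fix_le_stab _ (D.fix_anti (hle hk) hg))
        fun g hg => (hG _ _).1 hg j le_rfl
      have e2 := Form.card_TS_one (D.restrict (D.perp (W j ⊔ W')))
      have e3 := hd.finrank_perp hD
      rw [hr _ (by omega), finrank_plus] at e3
      rw [← hd.card_TS_ge hD 1, hF, Nat.card_congr (Equiv.subtypeUnivEquiv fun x => alt_Q _ x),
        Module.natCard_eq_pow_finrank (K := F) (V := D.perp _), hF,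
        show finrank F (D.perp (W j ⊔ W')) = 2 * (m - j) by omega] at e2
      rw [show G j ⊓ D.stab (W (j + 1)) = G (j + 1) by
        ext g; simp only [Subgroup.mem_inf, hG, Nat.le_succ_iff, or_imp, forall_and, forall_eq]] at e1
      rw [pow_succ, ← mul_assoc, ih (by omega), e1, Finset.prod_range_succ, ← e2, Nat.add_sub_cancel]
      ring
  have h2 := h1 m le_rfl
  have hq : 2 ≤ q := hF ▸ two_le_card
  rw [Symp.card_isom hD (finrank_plus m), hF, spOrder, ← Finset.prod_range_reflect,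
    Finset.prod_congr rfl (g := fun i => q ^ (2 * (m - i)) - 1) fun i hi => by
      rw [show m - 1 - i + 1 = m - i by have := Finset.mem_range.1 hi; omega], mul_right_comm, mul_comm] at h2
  rw [Nat.eq_of_mul_eq_mul_left (Finset.prod_pos fun i hi => Nat.sub_pos_of_lt
    (Nat.one_lt_pow (by have := Finset.mem_range.1 hi; omega) hq)) h2]
  refine Nat.card_congr (subgroupEquivOfIff (spEquiv F m) _ _ fun g => ?_).toEquiv
  simp only [hG, Subgroup.mem_iInf]
  refine ⟨fun H k hk => ?_, fun H k v => ?_⟩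
  · rcases k with _ | k
    · exact (hG _ _).1 (h0 ▸ Subgroup.mem_top _) 0 le_rfl
    · exact fun v => (hW _ _).trans ((H ⟨k, hk⟩ v).trans (hW _ _).symm)
  · exact (hW _ _).symm.trans ((H (k + 1) k.2 v).trans (hW _ _))

end Cfsg.Agent.S0774
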