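import Cfsg.Statements.S0776
import Cfsg.Agent.Lib.Forms.Para

set_option autoImplicit false
open Cfsg

namespace Cfsg.Agent.S0776

open Cfsg.Lib.Forms



/-- If W ≤ F^(2m) is a 2k-dimensional subspace on which the symplectic form is non-degenerate, then the stabiliser of W in Sp_2m(F) is isomorphic to Sp_2k(F) × Sp_(2m−2k)(F). -/
theorem result {F : Type*} [Field F] (m k : ℕ) (hk : k ≤ m) (W : Submodule F (Fin m ⊕ Fin m → F)) (hWk : Module.finrank F W = 2 * k) (hW : ∀ u ∈ W, (∀ v ∈ W, Cfsg.sympForm m F u v = 0) → u = 0) : Nonempty (↥(Cfsg.stabilizing (Cfsg.spToMat m F) (W : Set (Fin m ⊕ Fin m → F))) ≃* Matrix.symplecticGroup (Fin k) F × Matrix.symplecticGroup (Fin (m - k)) F) := by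
  have hD := fSymp_nondeg (F := F) m
  have h1 : ((fSymp F m).restrict W).Nondeg := fun u hu =>
    Subtype.ext (hW u u.2 fun v hv => (fSymp_B _ _).symm.trans (hu ⟨v, hv⟩))
  have h2 := (fSymp F m).nondeg_restrict_iff.1 h1
  have h3 := hD.finrank_perp W
  rw [finrank_plus] at h3
  obtain ⟨e1⟩ := Symp.nonempty_isom_equiv h1 hWk
  obtain ⟨e2⟩ := Symp.nonempty_isom_equiv (hD.restrict_perp h2) (m := m - k) (by omega)
  exact ⟨(subgroupEquivOfIff (spEquiv F m) _ ((fSymp F m).stab W) fun g => Iff.rfl).trans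
    ((Form.stabEquiv (hD.isOrthCompl h2) hD).symm.trans (e1.prodCongr e2))⟩

end Cfsg.Agent.S0776
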