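import Cfsg.Statements.S0777
import Cfsg.Agent.Lib.Forms.Std

set_option autoImplicit false
open Cfsg

namespace Cfsg.Agent.S0777

open Cfsg.Lib.Forms Module

theorem exists_isom {F : Type*} [Field F] {m : ℕ} (v : Fin m ⊕ Fin m → Fin m ⊕ Fin m → F)
    (hv : ∀ i j, (fSymp F m).B (v i) (v j) = (fSymp F m).B (Pi.single i 1) (Pi.single j 1)) :
    ∃ g : (fSymp F m).isom, ∀ i, g.1 (Pi.single i 1) = v i := by
  have h : ∀ i, (Pi.basisFun F _).constr F v (Pi.single i 1) = v i := fun i => by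
    rw [← Pi.basisFun_apply, Basis.constr_basis]
  refine ⟨(fSymp F m).mkIsom (fSymp_nondeg m) ((Pi.basisFun F _).constr F v) (Form.isIsometry_of_span
    (Pi.basisFun F _).span_eq ?_ fun x _ => by simp [alt_Q]), h⟩
  rintro _ ⟨i, rfl⟩ _ ⟨j, rfl⟩
  simp only [Pi.basisFun_apply, h, hv]

/-- The axis with given side and index. -/
def ax {m : ℕ} (b : Bool) (i : Fin m) : Fin m ⊕ Fin m := bif b then .inr i else .inl i

theorem B_ax {F : Type*} [Field F] {m : ℕ} (b b' : Bool) (i j : Fin m) :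
    (fSymp F m).B (Pi.single (ax b i) 1) (Pi.single (ax b' j) 1) =
      if i = j then (if b = b' then 0 else if b then 1 else -1) else 0 := by
  cases b <;> cases b' <;> simp [ax, fSymp_B_inl, fSymp_B_inr, Pi.single_apply] <;> split_ifs <;> simp

theorem ax_surj {m : ℕ} (k : Fin m ⊕ Fin m) : ∃ b i, k = ax b i := by
  rcases k with i | i
  exacts [⟨false, i, rfl⟩, ⟨true, i, rfl⟩]

theorem ax_inj {m : ℕ} {b b' : Bool} {i j : Fin m} (h : ax b i = ax b' j) : b = b' ∧ i = j := by
  cases b <;> cases b' <;> simpa [ax] using h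

/-- Weyl group of type C_m: for q ≥ 4 the diagonal matrices of Sp_2m(q) form a torus T ≅ (C_(q−1))^m (the elements stabilising every coordinate axis), and the normaliser of T in Sp_2m(q) has order 2^m · m! · (q − 1)^m. -/
theorem result {F : Type*} [Field F] [Fintype F] {q : ℕ} (hF : Fintype.card F = q) (hq : 4 ≤ q) (m : ℕ) : Nat.card ↥(Subgroup.normalizer (⨅ i : Fin m ⊕ Fin m, Cfsg.stabilizing (Cfsg.spToMat m F) ((Submodule.span F {(Pi.single i (1 : F) : Fin m ⊕ Fin m → F)} : Submodule F (Fin m ⊕ Fin m → F)) : Set (Fin m ⊕ Fin m → F)) : Set (Matrix.symplecticGroup (Fin m) F))) = 2 ^ m * Nat.factorial m * (q - 1) ^ m := by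
  rw [← Nat.card_eq_fintype_card] at hF
  set D := fSymp F m
  let e : Fin m ⊕ Fin m → Fin m ⊕ Fin m → F := fun i => Pi.single i 1
  obtain ⟨T, hT⟩ : ∃ T : Subgroup D.isom, ∀ g, g ∈ T ↔ ∀ i, g ∈ D.stab (F ∙ e i) :=
    ⟨⨅ i, D.stab (F ∙ e i), fun g => Subgroup.mem_iInf⟩
  have hT' : ∀ g, g ∈ T ↔ ∀ i, ∃ c : F, g.1 (e i) = c • e i := fun g => (hT g).trans <| forall_congr' fun i =>
    ⟨fun H => (Submodule.mem_span_singleton.1 ((H _).1 (Submodule.mem_span_singleton_self _))).imp
      fun _ => Eq.symm, fun ⟨c, H⟩ => D.mem_stab_of_mapsTo fun x hx => by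
        obtain ⟨a, rfl⟩ := Submodule.mem_span_singleton.1 hx
        rw [map_smul, H, smul_smul]; exact Submodule.smul_mem _ _ (Submodule.mem_span_singleton_self _)⟩
  let v : Equiv.Perm (Fin m) × (Fin m → Bool) × (Fin m → Fˣ) → Fin m ⊕ Fin m → Fin m ⊕ Fin m → F :=
    fun p => Sum.elim (fun i => (p.2.2 i : F) • e (ax (p.2.1 i) (p.1 i)))
      fun i => ((if p.2.1 i then -1 else 1) * (p.2.2 i : F)⁻¹) • e (ax (!p.2.1 i) (p.1 i))
  choose Φ hΦ using fun p => exists_isom (v p) (by
    rintro (i | i) (j | j) <;>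
      simp only [v, e, Sum.elim_inl, Sum.elim_inr, Form.B_smul_left, Form.B_smul_right, B_ax, fSymp_B_inl,
        fSymp_B_inr] <;> rcases eq_or_ne i j with rfl | h <;> simp [*] <;> cases p.2.1 i <;> simp)
  have := Form.finite_isom (D := D)
  have hN : ∀ g : D.isom, g ∈ Subgroup.normalizer (T : Set D.isom) ↔
      ∀ i, ∃ (c : F) (k : _), g.1 (e i) = c • e k := fun g => by
    refine ⟨fun H i => ?_, fun H => inv_mem_iff.1 (Subgroup.mem_normalizer_fintype fun t ht => ?_)⟩
    · obtain ⟨k, hk⟩ := Function.ne_iff.1 (g.1.map_ne_zero_iff.2 (show e i ≠ 0 by simp [e]))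
      refine ⟨g.1 (e i) k, k, funext fun l => ?_⟩
      rcases eq_or_ne l k with rfl | hl
      · simp [e]
      obtain ⟨a, ha, ha'⟩ := Symp.exists_sq_ne_one (F := F) (Or.inl (hF ▸ hq))
      obtain ⟨b, j, rfl⟩ := ax_surj k
      let t := Φ (1, fun _ => false, Pi.mulSingle j (Units.mk0 a ha))
      obtain ⟨d, hd, hd'⟩ : ∃ d : Fin m ⊕ Fin m → F, (∀ i, t.1 (e i) = d i • e i) ∧ d l ≠ d (ax b j) := by
        refine ⟨Sum.elim (fun i => (Pi.mulSingle j (Units.mk0 a ha) : Fin m → Fˣ) i)
          fun i => ((Pi.mulSingle j (Units.mk0 a ha) : Fin m → Fˣ) i : F)⁻¹, fun i => ?_, ?_⟩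
        · rw [hΦ]; cases i <;> simp [v, ax]
        · have h1 : a ≠ 1 := by rintro rfl; simp at ha'
          have h2 : a ≠ a⁻¹ := fun H => ha' (by rw [sq]; nth_rw 1 [H]; exact inv_mul_cancel₀ ha)
          obtain ⟨b', j', rfl⟩ := ax_surj l
          rcases eq_or_ne j' j with rfl | h <;> cases b <;> cases b' <;>
            simp_all [ax, h1.symm, h2.symm]
      have h3 : ∀ x k, t.1 x k = d k * x k := fun x k => by
        rw [← Finset.univ_sum_single x, map_sum]
        simp only [← Pi.single_smul', show ∀ i, Pi.single i (x i) = x i • e i by simp [e, ← Pi.single_smul'],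
          map_smul, hd]
        simp [e, Pi.single_apply, mul_comm]
      obtain ⟨c, hc⟩ := (hT' _).1 ((Subgroup.mem_normalizer_iff''.1 H t).1 ((hT' t).2 fun i => ⟨_, hd i⟩)) i
      rw [Form.isom_mul_apply, Form.isom_mul_apply, Form.isom_inv_apply_eq, map_smul] at hc
      have h4 := (congrFun hc l).trans (h3 _ l)
      have h5 := mul_right_cancel₀ hk ((congrFun hc _).trans (h3 _ _))
      simpa [e, hl, h5, hd'.symm] using h4
    · refine (hT' _).2 fun i => ?_
      obtain ⟨c, k, h⟩ := H i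
      obtain ⟨d, hd⟩ := (hT' t).1 ht k
      refine ⟨d, ?_⟩
      rw [inv_inv, Form.isom_mul_apply, Form.isom_mul_apply, Form.isom_inv_apply_eq, map_smul, h, map_smul,
        hd, smul_comm]
  have h1 : ∀ {k l} {c d : F}, c ≠ 0 → c • e k = d • e l → k = l ∧ c = d := fun {k l c d} hc h => by
    have := congrFun h k
    rcases eq_or_ne k l with rfl | h <;> simp_all [e]
  rw [Nat.card_congr (subgroupEquivOfIff (spEquiv F m) _ (Subgroup.normalizer (T : Set D.isom)) fun g => by
    simp only [Subgroup.mem_set_normalizer_iff, (spEquiv F m).surjective.forall, ← map_inv, ← map_mul, hT,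
      SetLike.mem_coe, Set.iInf_eq_iInter, Set.mem_iInter]
    rfl).toEquiv, ← Nat.card_congr (Equiv.ofBijective (fun p => ⟨Φ p, (hN _).2 fun i => by
      rw [hΦ]; cases i <;> exact ⟨_, _, rfl⟩⟩) ⟨fun p p' h => ?_, fun g => ?_⟩)]
  · rw [Nat.card_prod, Nat.card_prod, Nat.card_perm, Nat.card_fun, Nat.card_fun, Nat.card_units, hF]
    simp; ring
  · have h2 := fun i => h1 (Units.ne_zero _) ((hΦ p (.inl i)).symm.trans
      ((show Φ p = Φ p' from congrArg Subtype.val h) ▸ hΦ p' (.inl i)))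
    exact Prod.ext (Equiv.ext fun i => (ax_inj (h2 i).1).2) (Prod.ext (funext fun i => (ax_inj (h2 i).1).1)
      (funext fun i => Units.ext (h2 i).2))
  choose c k h using (hN g).1 g.2
  choose b π hk using fun i => ax_surj (k i)
  have hc : ∀ i, c i ≠ 0 := fun i H => by simpa [H, e] using h i
  have h2 : ∀ i j, c i * c j * D.B (e (k i)) (e (k j)) = D.B (e i) (e j) := fun i j => by
    rw [← Form.B_isom g.1 (e i), h i, h j]; simp [D, mul_assoc, mul_left_comm]
  simp only [hk, e, D, B_ax] at h2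
  have h3 : Function.Injective fun i => π (.inl i) := fun i j H => by
    have h4 := h2 (.inl i) (.inl j)
    have h5 : b (.inl i) = b (.inl j) := by
      by_contra h5
      simp [show π (.inl i) = π (.inl j) from H, h5, fSymp_B_inl, hc] at h4
      split_ifs at h4 <;> simp [hc] at h4
    by_contra h6
    have h7 : g.1.1 (c (.inl j) • e (.inl i)) = g.1.1 (c (.inl i) • e (.inl j)) := by
      rw [map_smul, map_smul, h, h, hk, hk (.inl j), h5, show π (.inl i) = π (.inl j) from H, smul_comm]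
    exact h6 (Sum.inl_injective (h1 (hc _) (g.1.1.injective h7)).1)
  refine ⟨(Equiv.ofBijective _ h3.bijective_of_finite, fun i => b (.inl i), fun i => Units.mk0 _ (hc (.inl i))),
    Subtype.ext (Subtype.ext (LinearEquiv.toLinearMap_injective ((Pi.basisFun F _).ext fun i => ?_)))⟩
  rw [Pi.basisFun_apply, LinearEquiv.coe_coe, LinearEquiv.coe_coe, hΦ, h, hk]
  rcases i with i | i
  · rfl
  have h4 := h2 (.inl i) (.inr i)
  simp only [fSymp_B_inl, Pi.single_eq_same] at h4
  have h5 : π (.inl i) = π (.inr i) := by by_contra H; simp [H] at h4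
  have h6 : b (.inr i) = !b (.inl i) := by
    by_contra H; simp [h5, show b (.inl i) = b (.inr i) by simpa [eq_comm] using H] at h4
  simp only [v, Sum.elim_inr, Equiv.ofBijective_apply, h5, h6, Units.val_mk0]
  congr 1
  have := hc (.inl i)
  rcases (b (.inl i)).eq_false_or_eq_true with hb | hb <;> simp [h5, h6, hb] at h4 ⊢ <;> field_simp <;>
    linear_combination -h4

end Cfsg.Agent.S0777
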