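import Cfsg.Statements.S0778
import Cfsg.Agent.Lib.Forms.More

set_option autoImplicit false
open Cfsg

namespace Cfsg.Agent.S0778

open Cfsg.Lib.Forms Module



/-- The elements of Sp_2m(F) stabilising both W = ⟨e_1..e_m⟩ and U = ⟨f_1..f_m⟩ form a subgroup isomorphic to GL_m(F) (block-diagonal matrices diag(X, X^(−ᵀ)) up to the sign convention of J), for m ≥ 1 or m = 0 alike. -/
theorem result {F : Type*} [Field F] (m : ℕ) : Nonempty (↥(Cfsg.stabilizing (Cfsg.spToMat m F) {v : Fin m ⊕ Fin m → F | ∀ i : Fin m, v (Sum.inr i) = 0} ⊓ Cfsg.stabilizing (Cfsg.spToMat m F) {v : Fin m ⊕ Fin m → F | ∀ i : Fin m, v (Sum.inl i) = 0}) ≃* Matrix.GeneralLinearGroup (Fin m) F) := by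
  have hD := fSymp_nondeg (F := F) m
  let e : Fin m → Fin m ⊕ Fin m → F := fun i => Pi.single (.inl i) 1
  let f : Fin m → Fin m ⊕ Fin m → F := fun i => -Pi.single (.inr i) 1
  have h := Form.isDual_span (D := fSymp F m) (e := e) (f := f) (fun _ => alt_Q _ _)
    (fun i j => by simp [e, fSymp_B_inl]) (fun _ => alt_Q _ _) (fun i j => by simp [f, fSymp_B_inr])
    fun i j => by simp [e, f, fSymp_B_inl, Pi.single_apply]
  have h1 : ∀ v, v ∈ Submodule.span F (Set.range e) ↔ ∀ i, v (.inr i) = 0 :=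
    fun v => Pi.mem_span_range_single_inl_iff
  have h2 : ∀ v, v ∈ Submodule.span F (Set.range f) ↔ ∀ i, v (.inl i) = 0 := fun v => by
    rw [Submodule.mem_span_range_iff_exists_fun]
    refine ⟨by rintro ⟨c, rfl⟩; simp [f], fun H => ⟨fun i => -v (.inr i), ?_⟩⟩
    ext (i | i) <;> simp [f, H, Pi.single_apply]
  have h3 : Submodule.span F (Set.range e) ⊔ Submodule.span F (Set.range f) = ⊤ := eq_top_iff.2 fun v _ =>
    Submodule.mem_sup.2 ⟨Sum.elim (v ∘ .inl) 0, (h1 _).2 (by simp), Sum.elim 0 (v ∘ .inr), (h2 _).2 (by simp),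
      by ext (i | i) <;> simp⟩
  have h4 := h.finrank_sup hD
  rw [h3, finrank_top, finrank_plus] at h4
  obtain ⟨φ⟩ := nonempty_linAut_equiv (F := F) (V := Submodule.span F (Set.range e)) (k := m) (by omega)
  refine ⟨(subgroupEquivOfIff (spEquiv F m) _ _ fun g => ?_).trans ((Form.leviEquiv hD h).trans φ)⟩
  rw [Form.leviGL_of_sup_eq_top hD h3]
  simp only [Subgroup.mem_inf, Form.mem_stab, h1, h2]
  rfl

end Cfsg.Agent.S0778
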