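import Cfsg.Statements.S0779
import Cfsg.Agent.Lib.Forms.Matrix

set_option autoImplicit false
open Cfsg

namespace Cfsg.Agent.S0779

open Cfsg.Lib.Forms



/-- Unitary transvections: let |F| = q², h the standard Hermitian form Σ x_i y_i^q and v ≠ 0 with h(v, v) = 0. The linear map x ↦ x + c h(x, v) v is an isometry of h if and only if c = 0 or c^(q−1) = −1. -/
theorem result {F : Type*} [Field F] [Fintype F] {q : ℕ} (hF : Fintype.card F = q ^ 2) (n : ℕ) (v : Fin n → F) (hv : v ≠ 0) (hv0 : Cfsg.hermForm n F q v v = 0) (c : F) : (∀ x y : Fin n → F, Cfsg.hermForm n F q ((Cfsg.unitaryTransvection n q v c).mulVec x) ((Cfsg.unitaryTransvection n q v c).mulVec y) = Cfsg.hermForm n F q x y) ↔ (c = 0 ∨ c ^ (q - 1) = -1) := by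
  obtain ⟨σ, h⟩ := isConj_of_card hF
  rw [hermForm_self h] at hv0
  have h2 := h.two_le
  have key : (c = 0 ∨ c ^ (q - 1) = -1) ↔ c + σ c = 0 := by
    rw [h.apply, show c + c ^ q = c * (1 + c ^ (q - 1)) by
      rw [mul_add, ← pow_succ', Nat.sub_add_cancel (by omega), mul_one], mul_eq_zero,
      add_comm, add_eq_zero_iff_eq_neg]
  rw [key]
  simp only [hermForm_eq h, unitaryTransvection_mulVec h]
  have hD := stdHerm_nondeg h (Fin n)
  generalize stdHerm h (Fin n) = D at *
  have hvv := D.B_self_of_Q hv0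
  constructor
  · intro H
    obtain ⟨x, hx⟩ := hD.exists_ne_zero hv
    have := H x x
    simp only [D.B_lin, hvv, map_mul, herm_symm] at this
    have h3 : D.B x v ≠ 0 := D.ne_zero_symm hx
    apply mul_left_cancel₀ (mul_ne_zero hx h3)
    linear_combination this
  · intro H x y
    have hc : D.IsRk1 v c := by simp [Form.IsRk1, H, hv0]
    exact hc.isIsometry.B_map y x

end Cfsg.Agent.S0779
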