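import Cfsg.Statements.S0780
import Cfsg.Agent.Lib.Forms.Herm

set_option autoImplicit false
open Cfsg

namespace Cfsg.Agent.S0780

open Cfsg.Lib.Forms



/-- Generation of SU_n(q), n ≥ 3, (n, q) ≠ (3, 2), by unitary transvections: the subgroup generated by the elements whose matrix is x ↦ x + c h(x, v) v with v isotropic is all of SU_n(q). -/
theorem result {F : Type*} [Field F] [Fintype F] {q : ℕ} (hF : Fintype.card F = q ^ 2) (n : ℕ) (hn : 3 ≤ n) (h32 : ¬ (n = 3 ∧ q = 2)) : Subgroup.closure {A : ↥(Cfsg.SU n F q) | ∃ (v : Fin n → F) (c : F), Cfsg.hermForm n F q v v = 0 ∧ ((A : Matrix.SpecialLinearGroup (Fin n) F) : Matrix (Fin n) (Fin n) F) = Cfsg.unitaryTransvection n q v c} = ⊤ := by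
  obtain ⟨σ, h⟩ := isConj_of_card hF
  have key := Herm.closure_subgroupOf_eq_top
    (Herm.T_eq (stdHerm_nondeg h (Fin n)) (by simpa) (by simpa using h32))
    (M := (Subgroup.closure {A : ↥(Cfsg.SU n F q) | ∃ (v : Fin n → F) (c : F), Cfsg.hermForm n F q v v = 0 ∧ ((A : Matrix.SpecialLinearGroup (Fin n) F) : Matrix (Fin n) (Fin n) F) = Cfsg.unitaryTransvection n q v c}).comap (suEquiv h n).symm.toMonoidHom) (by
      intro x ⟨v, c, hc, hv, hx⟩
      refine Subgroup.subset_closure ⟨v, c, (hermForm_self h n v).trans hv, matrix_eq_iff.2 fun y => ?_⟩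
      rw [unitaryTransvection_mulVec h, ← suEquiv_apply h]
      simp [hx, Form.rk1_apply])
  rw [eq_top_iff]
  intro g _
  have : suEquiv h n g ∈ _ := key.ge trivial
  simpa using this

end Cfsg.Agent.S0780
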