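import Cfsg.Statements.S0781
import Cfsg.Agent.Lib.Forms.Herm

set_option autoImplicit false
open Cfsg

namespace Cfsg.Agent.S0781

open Cfsg.Lib.Forms
open scoped commutatorElement



/-- In SU_n(q) with n ≥ 4, or n = 3 and q > 2, every element whose matrix is a unitary transvection x ↦ x + c h(x, v) v (v isotropic) is a commutator ⁅B, C⁆ of two elements of SU_n(q). -/
theorem result {F : Type*} [Field F] [Fintype F] {q : ℕ} (hF : Fintype.card F = q ^ 2) (n : ℕ) (hn : 4 ≤ n ∨ (n = 3 ∧ 3 ≤ q)) (A : ↥(Cfsg.SU n F q)) (v : Fin n → F) (c : F) (hv0 : Cfsg.hermForm n F q v v = 0) (hA : ((A : Matrix.SpecialLinearGroup (Fin n) F) : Matrix (Fin n) (Fin n) F) = Cfsg.unitaryTransvection n q v c) : A ∈ commutatorSet ↥(Cfsg.SU n F q) := by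
  obtain ⟨σ, h⟩ := isConj_of_card hF
  have hD := stdHerm_nondeg h (Fin n)
  rw [hermForm_self h] at hv0
  have hA' : ∀ x, (suEquiv h n A).1.1 x = x + (c * (stdHerm h (Fin n)).B v x) • v := fun x => by
    rw [suEquiv_apply, hA, unitaryTransvection_mulVec h]
  obtain ⟨c', hc, H⟩ : ∃ c' hc, (suEquiv h n A).1 = (stdHerm h (Fin n)).rk1 v c' hc := by
    by_cases hv : v = 0
    · exact ⟨0, Form.isRk1_zero v, Form.isom_ext fun x => by simp [hA', hv, Form.rk1_apply]⟩
    obtain ⟨x, hx⟩ := hD.exists_ne_zero hv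
    have := Form.B_isom (suEquiv h n A).1 x x
    simp only [hA', Form.B_lin, Form.B_self_of_Q _ hv0, map_mul, herm_symm] at this
    refine ⟨c, (Herm.isRk1_iff_of_Q_eq_zero hv0).2 ?_, Form.isom_ext hA'⟩
    apply mul_left_cancel₀ (mul_ne_zero hx (Form.ne_zero_symm _ hx))
    linear_combination this
  obtain ⟨g, hg, k, hk, H'⟩ := Herm.exists_rk1_eq_commutator hD (by simp; omega) hc hv0
  refine ⟨(suEquiv h n).symm ⟨g, Form.E_le_ker_det hg⟩, (suEquiv h n).symm ⟨k, Form.E_le_ker_det hk⟩, ?_⟩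
  apply (suEquiv h n).injective
  rw [map_commutatorElement, MulEquiv.apply_symm_apply, MulEquiv.apply_symm_apply]
  exact Subtype.ext (H'.symm.trans H.symm)

end Cfsg.Agent.S0781
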