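import Cfsg.Statements.S0783
import Cfsg.Agent.Lib.Forms.More

set_option autoImplicit false
open Cfsg

namespace Cfsg.Agent.S0783

open Cfsg.Lib.Forms Module



/-- PGU_n(q)/PSU_n(q) is cyclic of order (n, q+1): for n ≥ 2 and |F| = q² there is a surjective homomorphism from GU_n(q) onto the cyclic group of order gcd(n, q + 1) whose kernel is generated by the determinant-one elements together with the centre. -/
theorem result {F : Type*} [Field F] [Fintype F] {q : ℕ} (hF : Fintype.card F = q ^ 2) (n : ℕ) (hn : 2 ≤ n) : ∃ φ : ↥(Cfsg.GU n F q) →* Multiplicative (ZMod (Nat.gcd n (q + 1))), Function.Surjective φ ∧ φ.ker = (Matrix.GeneralLinearGroup.det : Matrix.GeneralLinearGroup (Fin n) F →* Fˣ).ker.subgroupOf (Cfsg.GU n F q) ⊔ Subgroup.center ↥(Cfsg.GU n F q) := by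
  obtain ⟨σ, h⟩ := isConj_of_card hF
  have hD := stdHerm_nondeg h (Fin n)
  set D := stdHerm h (Fin n)
  have hn' : finrank F (Fin n → F) = n := by simp
  have := Form.finite_isom (D := D)
  set N := D.det.ker ⊔ Subgroup.center D.isom
  obtain ⟨e, f, hef⟩ := Herm.exists_isHyp hD (by omega)
  have h1 : Nat.card ↥(D.det.ker ⊓ Subgroup.center D.isom) = n.gcd (q + 1) := by
    have := Herm.card_center hD (by omega)
    rw [hn'] at this
    rw [← this]
    refine Nat.card_congr ⟨fun g => ⟨⟨g.1, g.2.1⟩, Subgroup.mem_center_iff.2 fun k =>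
      Subtype.ext (Subgroup.mem_center_iff.1 g.2.2 k.1)⟩, fun g => ⟨g.1.1, g.1.2, ?_⟩,
      fun _ => rfl, fun _ => rfl⟩
    obtain ⟨c, hc⟩ := (hef.mem_center_iff hD (Herm.rich D 3) Form.det_eich g.1).1 g.2
    exact Subgroup.mem_center_iff.2 (Form.mul_comm_of_smul hc)
  have h2 : N.index = n.gcd (q + 1) := by
    have e1 := Subgroup.relIndex_mul_index (le_sup_left : D.det.ker ≤ N)
    have e2 := Subgroup.card_mul_index (D.det.ker.subgroupOf (Subgroup.center D.isom))
    rw [Subgroup.relIndex_sup_left, Herm.index_ker_det hD (by omega), Subgroup.relIndex] at e1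
    rw [Herm.card_center_isom hD (by omega), ← Subgroup.inf_subgroupOf_right,
      Nat.card_congr (Subgroup.subgroupOfEquivOfLe inf_le_right).toEquiv, h1,
      Subgroup.inf_subgroupOf_right, mul_comm] at e2
    exact (Nat.eq_of_mul_eq_mul_left (Nat.pos_of_ne_zero Subgroup.index_ne_zero_of_finite)
      (e2.trans e1.symm)).symm
  have : IsCyclic (D.isom ⧸ D.det.ker) :=
    isCyclic_of_injective _ (QuotientGroup.kerLift_injective D.det)
  have : IsCyclic (D.isom ⧸ N) := isCyclic_of_surjective
    (QuotientGroup.map D.det.ker N (MonoidHom.id _) le_sup_left)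
    (QuotientGroup.map_surjective_of_surjective _ _ _ (QuotientGroup.mk_surjective) _)
  have : NeZero (n.gcd (q + 1)) := ⟨by simp⟩
  let ψ : (D.isom ⧸ N) ≃* Multiplicative (ZMod (n.gcd (q + 1))) :=
    mulEquivOfCyclicCardEq (by simp [← h2, Subgroup.index])
  refine ⟨ψ.toMonoidHom.comp ((QuotientGroup.mk' N).comp (guEquiv h n).toMonoidHom),
    ψ.surjective.comp ((QuotientGroup.mk'_surjective N).comp (guEquiv h n).surjective), ?_⟩
  rw [MonoidHom.ker_comp_of_injective _ _ ψ.injective, ← MonoidHom.comap_ker, QuotientGroup.ker_mk',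
    ← Subgroup.comap_sup_eq _ _ _ (guEquiv h n).surjective]
  congr 1
  · ext g; exact (congrArg (· = 1) (det_guEquiv h g)).to_iff
  · ext g; exact MulEquivClass.apply_mem_center_iff (guEquiv h n)

end Cfsg.Agent.S0783
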