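import Cfsg.Statements.S0784
import Cfsg.Agent.Lib.Forms.Matrix

set_option autoImplicit false
open Cfsg

namespace Cfsg.Agent.S0784

open Cfsg.Lib.Forms



/-- Reflections: if Q(v) ≠ 0 then the matrix R = 1 − Q(v)⁻¹ · v f(v, ·)ᵀ preserves Q, maps v to −v, fixes each x with f(v, x) = 0, and has determinant −1 (in characteristic two, −1 = 1 and R is the orthogonal transvection of v). -/
theorem result {F : Type*} [Field F] {n : ℕ} (Q : QuadraticForm F (Fin n → F)) (v : Fin n → F) (hv : Q v ≠ 0) : (∀ x, Q ((Cfsg.reflectionMatrix ⇑Q v).mulVec x) = Q x) ∧ (Cfsg.reflectionMatrix ⇑Q v).mulVec v = -v ∧ (∀ x, QuadraticMap.polar ⇑Q v x = 0 → (Cfsg.reflectionMatrix ⇑Q v).mulVec x = x) ∧ (Cfsg.reflectionMatrix ⇑Q v).det = -1 := by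
  have h : (ofQuad Q).IsRk1 v (-(Q v)⁻¹) := by
    simp only [Form.IsRk1, quadKind_tr, quadKind_ε, ofQuad_Q, RingHom.id_apply]; field_simp; ring
  have key : ∀ x, (reflectionMatrix Q v).mulVec x = ((ofQuad Q).rk1 v _ h).1 x :=
    reflectionMatrix_mulVec (ofQuad Q) v
  have hB : (ofQuad Q).B v v = 2 * Q v := quad_B_self _ v
  refine ⟨fun x => ?_, ?_, fun x hx => ?_, ?_⟩
  · rw [key]; exact Form.Q_isom ((ofQuad Q).rk1 v _ h) x
  · rw [key, Form.rk1_apply, hB, show -(Q v)⁻¹ * (2 * Q v) = -2 by field_simp]; module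
  · rw [key]; exact (ofQuad Q).rk1_apply_of_perp _ h hx
  · have := Form.det_rk1 v _ h
    rw [← (oEquiv (ofQuad Q)).apply_symm_apply (Form.rk1 _ _ _ h), coe_det_oEquiv,
      (oEquiv_eq_iff _ _ _ key).2 (MulEquiv.apply_symm_apply _ _), hB] at this
    rw [this]; field_simp; ring

end Cfsg.Agent.S0784
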