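import Cfsg.Statements.S0785
import Cfsg.Agent.Lib.Forms.Matrix
import Cfsg.Agent.S0784

set_option autoImplicit false
open Cfsg

namespace Cfsg.Agent.S0785

open Cfsg.Lib.Forms



/-- det(I) = {±1}: for a quadratic form on F^n whose polar form is non-degenerate, every element of the isometry group has determinant 1 or −1, and as soon as Q takes a non-zero value some isometry has determinant −1. -/
theorem result {F : Type*} [Field F] {n : ℕ} (Q : QuadraticForm F (Fin n → F)) (hQ : (QuadraticMap.polarBilin Q).Nondegenerate) : (∀ g : ↥(Cfsg.isometryGroup F ⇑Q), ((g : Matrix.GeneralLinearGroup (Fin n) F) : Matrix (Fin n) (Fin n) F).det = 1 ∨ ((g : Matrix.GeneralLinearGroup (Fin n) F) : Matrix (Fin n) (Fin n) F).det = -1) ∧ ((∃ v, Q v ≠ 0) → ∃ g : ↥(Cfsg.isometryGroup F ⇑Q), ((g : Matrix.GeneralLinearGroup (Fin n) F) : Matrix (Fin n) (Fin n) F).det = -1) := by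
  refine ⟨fun g => ?_, fun ⟨v, hv⟩ => ?_⟩
  · have := (ofQuad_nondeg hQ).det_mul_σ_det (oEquiv (ofQuad Q) g)
    rw [coe_det_oEquiv (ofQuad Q) g] at this
    exact mul_self_eq_one_iff.1 this
  · have h : (ofQuad Q).IsRk1 v (-(Q v)⁻¹) := by
      simp only [Form.IsRk1, quadKind_tr, quadKind_ε, ofQuad_Q, RingHom.id_apply]; field_simp; ring
    refine ⟨(oEquiv (ofQuad Q)).symm (Form.rk1 _ _ _ h), ?_⟩
    rw [(oEquiv_eq_iff _ _ _ (reflectionMatrix_mulVec (ofQuad Q) v)).2
      (MulEquiv.apply_symm_apply _ _)]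
    exact (S0784.result Q v hv).2.2.2

end Cfsg.Agent.S0785
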