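import Cfsg.Statements.S0787
import Cfsg.Agent.Lib.Forms.More

set_option autoImplicit false
open Cfsg

namespace Cfsg.Agent.S0787

open Cfsg.Lib.Forms Module
open scoped commutatorElement



/-- Existence and uniqueness of Ω: if F is finite, n ≥ 2, Q is a quadratic form on F^n with non-degenerate polar form and (|F|, n) ≠ (2, 4), then the group of isometries of determinant one has a unique subgroup of index 2. -/
theorem result {F : Type*} [Field F] [Fintype F] {n : ℕ} (hn : 2 ≤ n) (Q : QuadraticForm F (Fin n → F)) (hQ : (QuadraticMap.polarBilin Q).Nondegenerate) (h : Fintype.card F ≠ 2 ∨ n ≠ 4) : ∃! H : Subgroup ↥(Cfsg.specialIsometryGroup F ⇑Q), H.index = 2 := by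
  have hD := ofQuad_nondeg hQ
  have hDQ := ofQuad_Q_eq Q
  set D := ofQuad Q
  have hG : D.Good := good_of_fintype_card (by simpa)
  have := Form.finite_isom (D := D)
  have hle : commutator D.isom ≤ D.det.ker := Abelianization.commutator_subset_ker _
  have h1 : ((commutator D.isom).subgroupOf D.det.ker).index = 2 := by
    have e1 := Subgroup.relIndex_mul_index hle
    by_cases h2 : (2 : F) = 0
    · rw [hD.index_commutator_even hG h2 (by simp; omega), show D.det.ker = ⊤ from
        eq_top_iff.2 fun g _ => Form.det_eq_one_of_two_eq_zero hD h2 g, Subgroup.index_top, mul_one] at e1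
      rw [← e1, ← Subgroup.relIndex, show D.det.ker = ⊤ from
        eq_top_iff.2 fun g _ => Form.det_eq_one_of_two_eq_zero hD h2 g]
    · have : Nontrivial (Fin n → F) := Module.nontrivial_of_finrank_pos (R := F) (by simp; omega)
      rw [hD.index_commutator_odd h2 (by simpa), show D.det.ker = (Form.dickson hD).ker from
        Subgroup.ext fun g => (Form.dickson_eq_one_iff_det hD h2 g).symm, hD.index_ker_dickson] at e1
      rw [← Subgroup.relIndex, show D.det.ker = (Form.dickson hD).ker from
        Subgroup.ext fun g => (Form.dickson_eq_one_iff_det hD h2 g).symm]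
      omega
  have key : ∀ H : Subgroup D.det.ker, H.index = 2 → H = (commutator D.isom).subgroupOf D.det.ker := by
    intro H hH
    set N := Subgroup.closure {g : D.isom | ∃ k, D.det k = 1 ∧ g = k ^ 2}
    have : N.Normal := Form.normal_closure_of_conj (by
      rintro g _ ⟨k, hk, rfl⟩
      exact ⟨g * k * g⁻¹, by simp [hk], by simp⟩)
    have h3 : commutator D.isom ≤ N := commutator_le_of_closure (hD.closure_refl hG) N (by
      rintro _ ⟨v, hv, rfl⟩ _ ⟨w, hw, rfl⟩
      refine Subgroup.subset_closure ⟨D.refl v * D.refl w, by simp [Form.det_refl hv, Form.det_refl hw], ?_⟩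
      simp [commutatorElement_def, Form.refl_inv, sq, mul_assoc])
    have h4 : N ≤ H.map D.det.ker.subtype := (Subgroup.closure_le _).2 (by
      rintro _ ⟨k, hk, rfl⟩
      exact ⟨_, Subgroup.sq_mem_of_index_two hH ⟨k, hk⟩, rfl⟩)
    refine (Subgroup.eq_of_le_of_card_ge (fun g hg => ?_) (by
      have e1 := H.card_mul_index
      have e2 := ((commutator D.isom).subgroupOf D.det.ker).card_mul_index
      rw [hH] at e1; rw [h1] at e2; omega)).symm
    obtain ⟨k, hk, h5⟩ := h4 (h3 hg)
    exact Subtype.ext h5 ▸ hk
  generalize soIso D hDQ = e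
  generalize (commutator D.isom).subgroupOf D.det.ker = S at h1 key
  refine ⟨S.comap (e : specialIsometryGroup F Q →* D.det.ker),
    (index_comap_equiv e _).trans h1, fun H hH => ?_⟩
  rw [← key (H.map (e : specialIsometryGroup F Q →* D.det.ker)) ((index_map_equiv e _).trans hH),
    Subgroup.comap_map_eq_self_of_injective e.injective]

end Cfsg.Agent.S0787
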