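import Cfsg.Statements.S0790
import Cfsg.Agent.Lib.Forms.Omega

set_option autoImplicit false
open Cfsg

namespace Cfsg.Agent.S0790

open Cfsg.Lib.Forms



/-- −1 ∈ Ω⁺_2m(q) iff q^m ≡ 1 (mod 4), for q odd and m ≥ 1 (so that in the other case SO⁺_2m(q) = 2 × Ω⁺_2m(q)). -/
theorem result {F : Type*} [Field F] [Fintype F] {q : ℕ} (hF : Fintype.card F = q) (hodd : Odd q) (m : ℕ) (hm : 1 ≤ m) : (∃ g : ↥(Cfsg.isometryGroup F (Cfsg.quadFormPlus m F)), g ∈ Cfsg.Omega F (Cfsg.quadFormPlus m F) ∧ ((g : Matrix.GeneralLinearGroup (Fin m ⊕ Fin m) F) : Matrix (Fin m ⊕ Fin m) (Fin m ⊕ Fin m) F) = -1) ↔ q ^ m % 4 = 1 := by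
  rw [← Nat.card_eq_fintype_card] at hF
  subst hF
  rw [← Form.negOne_mem_commutator_plus (fPlus_nondeg m) (odd_card_iff.1 hodd) (finrank_plus m)
    (fPlus_hasTS m)]
  have key := fun g => oEquiv_eq_iff (fPlus F m) g (fPlus F m).negOne (M := -1)
    (by simp [Matrix.neg_mulVec])
  constructor
  · rintro ⟨g, h1, h2⟩
    rw [← (key g).1 h2]
    exact (mem_commutator_equiv _).2 h1
  · intro h
    exact ⟨(oEquiv (fPlus F m)).symm _, (mem_commutator_equiv _).2 h,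
      (key _).2 (MulEquiv.apply_symm_apply _ _)⟩

end Cfsg.Agent.S0790
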