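import Cfsg.Statements.S0791
import Cfsg.Agent.Lib.Forms.Omega

set_option autoImplicit false
open Cfsg

namespace Cfsg.Agent.S0791

open Cfsg.Lib.Forms



/-- −1 ∈ Ω⁻_2m(q) iff q^m ≡ −1 (mod 4), for q odd and m ≥ 1; for the minus-type form quadFormMinus (m−1) with anisotropic binary part. -/
theorem result {F : Type*} [Field F] [Fintype F] {q : ℕ} (hF : Fintype.card F = q) (hodd : Odd q) (m : ℕ) (hm : 1 ≤ m) (a b : F) (hab : ∀ z₁ z₂ : F, z₁ ^ 2 + a * z₁ * z₂ + b * z₂ ^ 2 = 0 → z₁ = 0 ∧ z₂ = 0) : (∃ g : ↥(Cfsg.isometryGroup F (Cfsg.quadFormMinus (m - 1) F a b)), g ∈ Cfsg.Omega F (Cfsg.quadFormMinus (m - 1) F a b) ∧ ((g : Matrix.GeneralLinearGroup ((Fin (m - 1) ⊕ Fin (m - 1)) ⊕ Fin 2) F) : Matrix ((Fin (m - 1) ⊕ Fin (m - 1)) ⊕ Fin 2) ((Fin (m - 1) ⊕ Fin (m - 1)) ⊕ Fin 2) F) = -1) ↔ q ^ m % 4 = 3 := by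
  rw [← Nat.card_eq_fintype_card] at hF
  subst hF
  obtain ⟨m, rfl⟩ : ∃ k, m = k + 1 := ⟨m - 1, by omega⟩
  rw [← Form.negOne_mem_commutator_minus (fMinus_nondeg m hab) (odd_card_iff.1 hodd)
    (finrank_minus m) (fMinus_not_hasTS m hab)]
  have key := fun g => oEquiv_eq_iff (fMinus m a b) g (fMinus m a b).negOne (M := -1)
    (by simp [Matrix.neg_mulVec])
  constructor
  · rintro ⟨g, h1, h2⟩
    rw [← (key g).1 h2]
    exact (mem_commutator_equiv _).2 h1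
  · intro h
    exact ⟨(oEquiv (fMinus m a b)).symm _, (mem_commutator_equiv _).2 h,
      (key _).2 (MulEquiv.apply_symm_apply _ _)⟩

end Cfsg.Agent.S0791
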