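import Cfsg.Statements.S0792
import Cfsg.Agent.Lib.Forms.Bridge

set_option autoImplicit false
open Cfsg

namespace Cfsg.Agent.S0792

open Cfsg.Lib.Forms



/-- For q odd and Q with non-degenerate polar form on F^n, the determinant-one isometries form the subgroup generated by all products r_u r_v of two reflections (Q(u), Q(v) ≠ 0). -/
theorem result {F : Type*} [Field F] [Fintype F] (h2 : (2 : F) ≠ 0) {n : ℕ} (Q : QuadraticForm F (Fin n → F)) (hQ : (QuadraticMap.polarBilin Q).Nondegenerate) : Cfsg.specialIsometryGroup F ⇑Q = Subgroup.closure {g : ↥(Cfsg.isometryGroup F ⇑Q) | ∃ u v : Fin n → F, Q u ≠ 0 ∧ Q v ≠ 0 ∧ ((g : Matrix.GeneralLinearGroup (Fin n) F) : Matrix (Fin n) (Fin n) F) = Cfsg.reflectionMatrix ⇑Q u * Cfsg.reflectionMatrix ⇑Q v} := by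
  have hD := ofQuad_nondeg hQ
  have hDQ := ofQuad_Q_eq Q
  set D := ofQuad Q
  rw [closure_eq_comap_equiv (oIso D hDQ)
    (t := {g | ∃ u v, D.Q u ≠ 0 ∧ D.Q v ≠ 0 ∧ g = D.refl u * D.refl v})]
  · ext g
    rw [mem_specialIsometryGroup_iff D hDQ, Subgroup.mem_comap, MonoidHom.coe_coe]
    generalize oIso D hDQ g = g
    constructor
    · intro hg
      refine (hD.refl_induction (Form.good_of_two_ne_zero h2) (P := fun g =>
        (D.det g = 1 → g ∈ Subgroup.closure {g | ∃ u v, D.Q u ≠ 0 ∧ D.Q v ≠ 0 ∧ g = D.refl u * D.refl v}) ∧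
        (D.det g = -1 → ∀ v, D.Q v ≠ 0 → D.refl v * g ∈
          Subgroup.closure {g | ∃ u v, D.Q u ≠ 0 ∧ D.Q v ≠ 0 ∧ g = D.refl u * D.refl v}))
        ⟨fun _ => one_mem _, fun h => absurd (congrArg Units.val h) ?_⟩ (fun v g hv H => ⟨fun h => ?_, fun h w hw => ?_⟩) g).1 hg
      · simpa using fun H : (1 : F) = -1 => h2 (by linear_combination H)
      · rw [map_mul, Form.det_refl hv, neg_one_mul, neg_eq_iff_eq_neg] at h
        exact H.2 h v hv
      · rw [map_mul, Form.det_refl hv, neg_one_mul, neg_inj] at h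
        rw [← mul_assoc]
        exact mul_mem (Subgroup.subset_closure ⟨w, v, hw, hv, rfl⟩) (H.1 h)
    · refine fun hg => (Subgroup.closure_le _).2 ?_ hg
      rintro _ ⟨u, v, hu, hv, rfl⟩
      simp [Form.det_refl hu, Form.det_refl hv]
  · intro g
    refine exists₂_congr fun u v => and_congr_right fun _ => and_congr_right fun _ => ?_
    exact oIso_eq_iff D hDQ g _ fun x => by
      rw [← Matrix.mulVec_mulVec, reflectionMatrix_mulVec' D hDQ, reflectionMatrix_mulVec' D hDQ]; rfl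

end Cfsg.Agent.S0792
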