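import Cfsg.Statements.S0793
import Cfsg.Agent.Lib.Forms.Matrix

set_option autoImplicit false
open Cfsg

namespace Cfsg.Agent.S0793

open Cfsg.Lib.Forms



/-- Root elements: if Q(u) = Q(v) = 0 and f(u, v) = 0 (f the polar form), then for every c the Siegel matrix T_(u,v)(c) preserves Q, fixes u and v, and T(c) T(d) = T(c + d). -/
theorem result {F : Type*} [Field F] {n : ℕ} (Q : QuadraticForm F (Fin n → F)) (u v : Fin n → F) (hu : Q u = 0) (hv : Q v = 0) (huv : QuadraticMap.polar ⇑Q u v = 0) : (∀ c x, Q ((Cfsg.siegelMatrix ⇑Q u v c).mulVec x) = Q x) ∧ (∀ c, (Cfsg.siegelMatrix ⇑Q u v c).mulVec u = u ∧ (Cfsg.siegelMatrix ⇑Q u v c).mulVec v = v) ∧ ∀ c d, Cfsg.siegelMatrix ⇑Q u v c * Cfsg.siegelMatrix ⇑Q u v d = Cfsg.siegelMatrix ⇑Q u v (c + d) := by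
  set D := ofQuad Q
  have key : ∀ c x, (siegelMatrix Q u v c).mulVec x = x + (c * D.B u x) • v - (c * D.B v x) • u :=
    fun c x => siegelMatrix_mulVec D u v x c
  have h1 : D.B u v = 0 := huv
  have h2 := D.eq_zero_symm h1
  have h3 := D.B_self_of_Q hu
  have h4 := D.B_self_of_Q hv
  refine ⟨fun c x => ?_, fun c => ⟨?_, ?_⟩, fun c d => ?_⟩
  · have hE : D.IsEich v (c • u) 0 := ⟨hv, by simp [h2], by simp [D.Q_smul_of_Q hu]⟩
    have := Form.Q_isom (D.eich _ _ _ hE) x
    rw [Form.eich_apply] at this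
    rw [key]
    refine Eq.trans (congrArg Q ?_) this
    simp only [D.B_smul_left, RingHom.id_apply, quadKind_ε]
    module
  · simp [key, h2, h3]
  · simp [key, h1, h4]
  · rw [matrix_eq_iff]
    intro x
    rw [← Matrix.mulVec_mulVec, key, key, key]
    simp only [D.B_lin, h1, h2, h3, h4]
    module

end Cfsg.Agent.S0793
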