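import Cfsg.Statements.S0794
import Cfsg.Agent.Lib.Forms.Bridge

set_option autoImplicit false
open Cfsg

namespace Cfsg.Agent.S0794

open Cfsg.Lib.Forms



/-- For q odd, n ≥ 5 and Q with non-degenerate polar form: an isometry whose matrix is a Siegel transformation T_(u,v)(c) (u, v singular and orthogonal) is a commutator in the isometry group, so lies in Ω. -/
theorem result {F : Type*} [Field F] [Fintype F] (h2 : (2 : F) ≠ 0) {n : ℕ} (hn : 5 ≤ n) (Q : QuadraticForm F (Fin n → F)) (hQ : (QuadraticMap.polarBilin Q).Nondegenerate) (u v : Fin n → F) (hu : Q u = 0) (hv : Q v = 0) (huv : QuadraticMap.polar ⇑Q u v = 0) (c : F) (g : ↥(Cfsg.isometryGroup F ⇑Q)) (hg : ((g : Matrix.GeneralLinearGroup (Fin n) F) : Matrix (Fin n) (Fin n) F) = Cfsg.siegelMatrix ⇑Q u v c) : g ∈ commutatorSet ↥(Cfsg.isometryGroup F ⇑Q) ∧ g ∈ Cfsg.Omega F ⇑Q := by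
  have hD := ofQuad_nondeg hQ
  have hE := isEich_siegel (D := ofQuad Q) hu hv huv c
  have h1 := (oIso_eq_eich_iff (ofQuad Q) (ofQuad_Q_eq Q) g hE).1 hg
  obtain ⟨a, -, b, -, H⟩ := hD.exists_eich_eq_commutator (by simpa) hE
  rw [← mem_commutatorSet_equiv (oIso (ofQuad Q) (ofQuad_Q_eq Q)), mem_Omega_iff (ofQuad Q) (ofQuad_Q_eq Q), h1, H]
  exact ⟨⟨a, b, rfl⟩, Subgroup.commutator_mem_commutator trivial trivial⟩

end Cfsg.Agent.S0794
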