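import Cfsg.Statements.S0795
import Cfsg.Agent.Lib.Forms.Bridge

set_option autoImplicit false
open Cfsg

namespace Cfsg.Agent.S0795

open Cfsg.Lib.Forms



/-- Generation of Ω by root elements: for q odd, n ≥ 5 and Q with non-degenerate polar form on F^n, the commutator subgroup of the isometry group equals the subgroup generated by the isometries whose matrices are Siegel transformations T_(u,v)(c) with u, v singular and orthogonal. -/
theorem result {F : Type*} [Field F] [Fintype F] (h2 : (2 : F) ≠ 0) {n : ℕ} (hn : 5 ≤ n) (Q : QuadraticForm F (Fin n → F)) (hQ : (QuadraticMap.polarBilin Q).Nondegenerate) : Cfsg.Omega F ⇑Q = Subgroup.closure {g : ↥(Cfsg.isometryGroup F ⇑Q) | ∃ (u v : Fin n → F) (c : F), Q u = 0 ∧ Q v = 0 ∧ QuadraticMap.polar ⇑Q u v = 0 ∧ ((g : Matrix.GeneralLinearGroup (Fin n) F) : Matrix (Fin n) (Fin n) F) = Cfsg.siegelMatrix ⇑Q u v c} := by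
  have hD := ofQuad_nondeg hQ
  rw [closure_eq_comap_equiv (oIso (ofQuad Q) (ofQuad_Q_eq Q))
    (t := {g | ∃ e z h, (ofQuad Q).Q z = 0 ∧ g = (ofQuad Q).eich e z 0 h}), Omega,
    commutator_eq_comap_equiv (oIso (ofQuad Q) (ofQuad_Q_eq Q)),
    hD.commutator_eq_E (Form.good_of_two_ne_zero h2) (by simp; omega)]
  · congr 1
    refine le_antisymm (hD.E_le_of_singular (Quad.hasTS_pred hD (by simpa)) _
      fun e z h hz => Subgroup.subset_closure ⟨e, z, h, hz, rfl⟩) ((Subgroup.closure_le _).2 ?_)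
    rintro _ ⟨e, z, h, -, rfl⟩
    exact Form.eich_mem_E _ _ _ h
  · intro g
    constructor
    · rintro ⟨u, v, c, hu, hv, huv, hg⟩
      exact ⟨_, _, _, (ofQuad Q).Q_smul_of_Q hu c, (oIso_eq_eich_iff (ofQuad Q) (ofQuad_Q_eq Q) g
        (isEich_siegel (D := ofQuad Q) hu hv huv c)).1 hg⟩
    · rintro ⟨e, z, h, hz, hg⟩
      exact ⟨z, e, 1, hz, h.Q_e, h.B_ze, (oIso_eq_eich_iff (ofQuad Q) (ofQuad_Q_eq Q) g
        (by rwa [one_smul])).2 (hg.trans (Form.eich_congr _ _ _ rfl (one_smul _ _).symm rfl))⟩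

end Cfsg.Agent.S0795
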