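import Cfsg.Statements.S0797
import Cfsg.Agent.Lib.Forms.More

set_option autoImplicit false
open Cfsg

namespace Cfsg.Agent.S0797

open Cfsg.Lib.Forms Module



/-- O^ε_2m(q) ≅ Ω.2² for q odd: if F is finite of odd characteristic, n ≥ 2 is even and Q has non-degenerate polar form on F^n, the isometry group of Q has exactly three subgroups of index 2. -/
theorem result {F : Type*} [Field F] [Fintype F] (h2 : (2 : F) ≠ 0) {n : ℕ} (hn : 2 ≤ n) (heven : Even n) (Q : QuadraticForm F (Fin n → F)) (hQ : (QuadraticMap.polarBilin Q).Nondegenerate) : Nat.card {H : Subgroup ↥(Cfsg.isometryGroup F ⇑Q) // H.index = 2} = 3 := by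
  have hD := ofQuad_nondeg hQ
  have hDQ := ofQuad_Q_eq Q
  set D := ofQuad Q
  let φ := ((Form.dickson hD).prod (Form.spinor hD)).comp (oIso D hDQ).toMonoidHom
  have h1 : Function.Surjective φ :=
    (hD.dickson_prod_spinor_surjective h2 (by simpa)).comp (oIso D hDQ).surjective
  have h3 : φ.ker = commutator _ := by
    rw [← MonoidHom.comap_ker, ← hD.commutator_eq_ker (Form.good_of_two_ne_zero h2),
      commutator_eq_comap_equiv (oIso D hDQ)]; rfl
  have h4 : ∀ x : ℤˣ × ℤˣ, x ≠ 1 → orderOf x = 2 := fun x hx =>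
    orderOf_eq_prime (by revert x; decide) hx
  have h5 : ∀ K : Subgroup (ℤˣ × ℤˣ), K.index = 2 ↔ Nat.card K = 2 := fun K => by
    have := K.card_mul_index
    rw [Nat.card_eq_fintype_card (α := ℤˣ × ℤˣ), show Fintype.card (ℤˣ × ℤˣ) = 4 by decide] at this
    constructor <;> intro h <;> rw [h] at this <;> omega
  rw [show 3 = Nat.card {x : ℤˣ × ℤˣ // x ≠ 1} by rw [Nat.card_eq_fintype_card]; decide]
  symm
  refine Nat.card_eq_of_bijective (fun x => ⟨(Subgroup.zpowers x.1).comap φ, by
    rw [Subgroup.index_comap_of_surjective _ h1, h5, Nat.card_zpowers, h4 _ x.2]⟩) ⟨fun x y h => ?_, fun H => ?_⟩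
  · have h6 := Subgroup.comap_injective h1 (congrArg Subtype.val h)
    have h7 : x.1 ∈ Subgroup.zpowers y.1 := h6 ▸ Subgroup.mem_zpowers _
    rw [mem_zpowers_iff_mem_range_orderOf, h4 _ y.2] at h7
    have := x.2
    simp only [Finset.mem_image, Finset.mem_range] at h7
    obtain ⟨k, hk, h8⟩ := h7
    interval_cases k
    · exact (this (by simpa using h8.symm)).elim
    · exact Subtype.ext (by simpa using h8.symm)
  · have := Subgroup.normal_of_index_eq_two H.2
    have h6 : φ.ker ≤ H.1 := by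
      rw [h3, ← Subgroup.Normal.quotient_commutative_iff_commutator_le]
      have : Fact (Nat.Prime 2) := ⟨Nat.prime_two⟩
      have := isCyclic_of_prime_card (α := _ ⧸ H.1) H.2
      exact IsCyclic.isMulCommutative
    have h7 : Nat.card (H.1.map φ) = 2 := by
      rw [← h5, ← Subgroup.index_comap_of_surjective _ h1, Subgroup.comap_map_eq_self h6, H.2]
    obtain ⟨y, hy, -⟩ := (Nat.card_eq_two_iff' (1 : H.1.map φ)).1 h7
    have hy' : y.1 ≠ 1 := by simpa using hy
    refine ⟨⟨y.1, hy'⟩, Subtype.ext ?_⟩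
    simp only
    rw [Subgroup.eq_of_le_of_card_ge (Subgroup.zpowers_le.2 y.2) (by rw [h7, Nat.card_zpowers, h4 _ hy']),
      Subgroup.comap_map_eq_self h6]

end Cfsg.Agent.S0797
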