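import Cfsg.Statements.S0802
import Cfsg.Agent.Lib.Linear.PSL2Small

set_option autoImplicit false
open Cfsg

namespace Cfsg.Agent.S0802

/-- PSL_2(p^n) has a subgroup isomorphic to A_4 if and only if it is not the case that p = 2 and n is odd. -/
theorem result {F : Type*} [Field F] [Fintype F] (p n : ℕ) [Fact p.Prime] [CharP F p] (hF : Fintype.card F = p ^ n) : (∃ H : Subgroup (Matrix.ProjectiveSpecialLinearGroup (Fin 2) F), Nonempty (H ≃* alternatingGroup (Fin 4))) ↔ ¬ (p = 2 ∧ Odd n) := by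
  rw [Cfsg.Lib.Linear.psl2_exists_A4_iff, Nat.card_eq_fintype_card, hF]
  by_cases hp : p = 2
  · subst hp
    have h2 : (2 : F) = 0 := CharP.cast_eq_zero F 2
    simp only [h2, ne_eq, not_true_eq_false, false_or, true_and]
    obtain ⟨k, rfl | rfl⟩ := Nat.even_or_odd' n
    · simpa [pow_mul] using Nat.sub_dvd_pow_sub_pow 4 1 k
    · have : 2 ^ (2 * k + 1) % 3 = 2 := by
        rw [pow_add, pow_mul, Nat.mul_mod, Nat.pow_mod]; simp
      simp only [odd_two_mul_add_one, not_true_eq_false, iff_false]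
      omega
  · have h2 : (2 : F) ≠ 0 := fun h => hp ((Nat.prime_dvd_prime_iff_eq Fact.out Nat.prime_two).1
      ((CharP.cast_eq_zero_iff F p 2).1 (by exact_mod_cast h)))
    simp [h2, hp]

end Cfsg.Agent.S0802
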