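import Cfsg.Statements.S0805
import Cfsg.Agent.Lib.Linear.PSL2Sub

set_option autoImplicit false
open Cfsg

namespace Cfsg.Agent.S0805

/-- Subfield subgroups: let F be a finite field of odd order q and K a finite field with |K|^m = q, m ≥ 1. Then PSL_2(F) has a subgroup isomorphic to PSL_2(K), and has a subgroup isomorphic to PGL_2(K) if and only if m is even. -/
theorem result {F K : Type*} [Field F] [Fintype F] [Field K] [Fintype K] {q : ℕ} (hF : Fintype.card F = q) (hodd : Odd q) (m : ℕ) (hm : 1 ≤ m) (hK : Fintype.card K ^ m = q) : (∃ H : Subgroup (Matrix.ProjectiveSpecialLinearGroup (Fin 2) F), Nonempty (H ≃* Matrix.ProjectiveSpecialLinearGroup (Fin 2) K)) ∧ ((∃ H : Subgroup (Matrix.ProjectiveSpecialLinearGroup (Fin 2) F), Nonempty (H ≃* Matrix.ProjGenLinGroup (Fin 2) K)) ↔ Even m) := by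
  rw [← Nat.card_eq_fintype_card] at hF hK
  subst hF
  obtain ⟨f⟩ := Cfsg.Lib.Linear.nonempty_ringHom_of_card_pow hK
  have hk : Odd (Nat.card K) := (Nat.odd_pow_iff (by omega)).1 (hK ▸ hodd)
  have hk2 := Cfsg.Lib.Linear.two_le_card_field (F := K)
  refine ⟨Cfsg.Lib.Linear.psl2_exists_subfield f, fun ⟨H, ⟨e⟩⟩ => ?_, fun ⟨n, hn⟩ =>
    Cfsg.Lib.Linear.psl2_exists_pgl_subfield f fun a => ?_⟩
  · by_contra hm'
    have h1 := Nat.mul_dvd_mul_left 2 H.card_subgroup_dvd_card
    rw [Nat.card_congr e.toEquiv, Cfsg.Lib.Linear.card_PGL_two,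
      Cfsg.Lib.Linear.card_PSL_two_of_odd hodd, mul_assoc, mul_assoc, mul_comm (_ - 1),
      mul_comm (_ - 1), ← Nat.sq_sub_sq _ 1, ← Nat.sq_sub_sq _ 1, ← hK, ← pow_mul, mul_comm m 2,
      pow_mul] at h1
    have h2 := Nat.geomSum_eq (m := Nat.card K ^ 2) (by nlinarith) m
    have h3 : (Nat.card K ^ 2) ^ m - 1 ^ 2 =
        (Nat.card K ^ 2 - 1 ^ 2) * ∑ i ∈ Finset.range m, (Nat.card K ^ 2) ^ i := by
      rw [h2, one_pow, Nat.mul_div_cancel' (by simpa using Nat.sub_dvd_pow_sub_pow (Nat.card K ^ 2) 1 m)]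
    have h4 : Odd (∑ i ∈ Finset.range m, (Nat.card K ^ 2) ^ i) := by
      rw [Finset.odd_sum_iff_odd_card_odd, Finset.filter_true_of_mem fun i _ => hk.pow.pow,
        Finset.card_range]
      exact Nat.not_even_iff_odd.1 hm'
    rw [h3, mul_left_comm 2, mul_comm 2, mul_left_comm (_ ^ m)] at h1
    have h5 := Nat.dvd_of_mul_dvd_mul_left (by rw [one_pow]; apply Nat.sub_pos_of_lt; nlinarith)
      ((dvd_mul_left _ _).trans h1)
    exact (Nat.not_even_iff_odd.2 (hk.pow.mul h4)) (even_iff_two_dvd.2 h5)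
  · by_cases ha : a = 0
    · simp [ha]
    have h2 : ringChar F ≠ 2 := fun h => by
      have := FiniteField.even_card_iff_char_two.1 h
      rw [← Nat.card_eq_fintype_card] at this
      exact absurd (Nat.odd_iff.1 hodd) (by omega)
    rw [FiniteField.isSquare_iff h2 ((map_ne_zero f).2 ha), ← map_pow, ← Nat.card_eq_fintype_card, ← hK]
    obtain ⟨j, hj⟩ := hk
    obtain ⟨c, hc⟩ : Nat.card K ^ 2 - 1 ∣ Nat.card K ^ m - 1 := by
      simpa [hn, ← two_mul, pow_mul] using Nat.sub_dvd_pow_sub_pow (Nat.card K ^ 2) 1 n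
    have h3 : Nat.card K ^ m / 2 = (Nat.card K - 1) * ((j + 1) * c) := by
      have h4 : Nat.card K ^ 2 - 1 = 2 * ((Nat.card K - 1) * (j + 1)) := by
        rw [hj]; apply Nat.sub_eq_of_eq_add; simp only [Nat.add_sub_cancel]; ring
      have h5 : 0 < Nat.card K ^ m := by positivity
      rw [h4, mul_assoc, mul_assoc] at hc
      omega
    rw [h3, pow_mul, Nat.card_eq_fintype_card, FiniteField.pow_card_sub_one_eq_one a ha, one_pow, map_one]

end Cfsg.Agent.S0805
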