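import Cfsg.Statements.S0806
import Cfsg.Agent.Lib.Linear.PSL2Sub

set_option autoImplicit false
open Cfsg

namespace Cfsg.Agent.S0806

open Cfsg.Lib.Linear Cfsg.Lib.Known in
theorem card_le {F : Type*} [Field F] [Finite F] (hq : Nat.card F ∉ ({2, 3, 5, 7, 9, 11} : Finset ℕ))
    (H : Subgroup (PSL2 F)) (hH : H ≠ ⊤) :
    Nat.gcd 2 (Nat.card F - 1) * Nat.card H ≤ Nat.card F * (Nat.card F - 1) := by
  obtain ⟨p, hp⟩ := CharP.exists F
  have : Fact p.Prime := ⟨CharP.char_is_prime F p⟩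
  have hG := card_PSL_two (F := F)
  have h2 := two_le_card_field (F := F)
  have hd := gcd_two_eq (F := F)
  have h6 : Nat.card F ≠ 6 ∧ Nat.card F ≠ 10 := by
    have := Fintype.ofFinite F
    have := FiniteField.isPrimePow_card F
    rw [Nat.card_eq_fintype_card]
    constructor <;> intro e <;> rw [e] at this <;> exact absurd this (by decide +kernel)
  simp only [Finset.mem_insert, Finset.mem_singleton, not_or, Nat.even_iff, Nat.odd_iff] at hq hd
  have hM1 := H.card_subgroup_dvd_card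
  have hM2 : Nat.card H ≠ Nat.card (PSL2 F) := fun e => hH ((Subgroup.card_eq_iff_eq_top H).1 e)
  have hsmall : Nat.card H = 12 ∨ Nat.card H = 24 ∨ Nat.card H = 60 →
      Nat.gcd 2 (Nat.card F - 1) * Nat.card H ≤ Nat.card F * (Nat.card F - 1) := fun h => by
    rcases (by omega : Nat.card F = 4 ∨ Nat.card F = 8 ∨ 12 ≤ Nat.card F) with e | e | e
    · rw [e] at hG ⊢
      rw [show Nat.card (PSL2 F) = 60 from Nat.eq_of_mul_eq_mul_left one_pos hG] at hM1 hM2
      rcases h with h | h | h <;> rw [h] at hM1 hM2 ⊢ <;> simp_all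
    · rw [e] at hG ⊢
      rw [show Nat.card (PSL2 F) = 504 from Nat.eq_of_mul_eq_mul_left one_pos hG] at hM1
      rcases h with h | h | h <;> rw [h] at hM1 ⊢ <;> simp_all
    · have : 12 * 11 ≤ Nat.card F * (Nat.card F - 1) := Nat.mul_le_mul e (by omega)
      rcases hd with ⟨hd, -⟩ | ⟨hd, -⟩ <;> rw [hd] <;> omega
  rcases dickson_psl2 p H with ⟨k, hk1, hk2⟩ | ⟨P, hP⟩ | ⟨-, ⟨⟨e⟩⟩ | ⟨⟨e⟩⟩ | ⟨⟨e⟩⟩⟩ | ⟨-, ⟨e⟩⟩ | ⟨R, h⟩
  · have h7 : 0 < k ∧ k ≤ (Nat.card F + 1) / Nat.gcd 2 (Nat.card F - 1) := by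
      rcases hd with ⟨hd, hd'⟩ | ⟨hd, hd'⟩ <;> rw [hd] at hk1 ⊢ <;> rcases hk1 with h | h <;>
        have := Nat.le_of_dvd (by omega) h <;> have := Nat.pos_of_dvd_of_pos h (by omega) <;> omega
    have h8 : Nat.card H ≤ 2 * k := by
      rcases hk2 with ⟨-, h⟩ | ⟨⟨e⟩⟩
      · omega
      · have : NeZero k := ⟨h7.1.ne'⟩
        rw [Nat.card_congr e.toEquiv, Nat.card_eq_fintype_card, DihedralGroup.card]
    have : 4 * (Nat.card F - 1) ≤ Nat.card F * (Nat.card F - 1) := Nat.mul_le_mul_right _ (by omega)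
    rcases hd with ⟨hd, hd'⟩ | ⟨hd, hd'⟩ <;> rw [hd] at h7 ⊢ <;> omega
  · rw [← card_normalizer_sylow_PSL2 P]
    exact Nat.mul_le_mul_left _ (Subgroup.card_le_of_le hP)
  · exact hsmall (Or.inl ((Nat.card_congr e.toEquiv).trans card_A4))
  · exact hsmall (Or.inr (Or.inl ((Nat.card_congr e.toEquiv).trans card_S4)))
  · exact hsmall (Or.inr (Or.inr ((Nat.card_congr e.toEquiv).trans card_A5)))
  · exact hsmall (Or.inr (Or.inr ((Nat.card_congr e.toEquiv).trans card_A5)))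
  · obtain ⟨m, hm, hm'⟩ := (eq_top_or_sq_le h).resolve_left hH
    obtain ⟨φ, hφ⟩ := exists_injective_of_subfield h
    have := finite_PGL (ι := Fin 2) (F := R)
    have h8 := Nat.card_le_card_of_injective φ hφ
    rw [card_PGL_two, mul_assoc, mul_comm (_ - 1), ← Nat.sq_sub_sq _ 1, one_pow] at h8
    have h9 := two_le_card_field (F := R)
    have h10 : Nat.card R ^ 2 ≤ Nat.card F := hm' ▸ Nat.pow_le_pow_right (by omega) hm
    calc _ ≤ 2 * (Nat.card R * (Nat.card R ^ 2 - 1)) :=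
          Nat.mul_le_mul (Nat.gcd_le_left _ two_pos) h8
      _ = 2 * Nat.card R * (Nat.card R ^ 2 - 1) := by ring
      _ ≤ _ := Nat.mul_le_mul (le_trans (by nlinarith) h10) (by omega)

/-- Minimal index (Galois): if q ∉ {2, 3, 5, 7, 9, 11} then every proper subgroup of PSL_2(q) has index ≥ q + 1, and some subgroup has index exactly q + 1. -/
theorem result {F : Type*} [Field F] [Fintype F] {q : ℕ} (hF : Fintype.card F = q) (hq : q ∉ ({2, 3, 5, 7, 9, 11} : Finset ℕ)) : (∀ H : Subgroup (Matrix.ProjectiveSpecialLinearGroup (Fin 2) F), H ≠ ⊤ → q + 1 ≤ H.index) ∧ ∃ H : Subgroup (Matrix.ProjectiveSpecialLinearGroup (Fin 2) F), H.index = q + 1 := by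
  rw [← Nat.card_eq_fintype_card] at hF
  subst hF
  obtain ⟨p, hp⟩ := CharP.exists F
  have : Fact p.Prime := ⟨CharP.char_is_prime F p⟩
  obtain ⟨P⟩ : Nonempty (Sylow p (Matrix.ProjectiveSpecialLinearGroup (Fin 2) F)) := inferInstance
  refine ⟨fun H hH => ?_, _, Cfsg.Lib.Linear.index_normalizer_sylow_PSL2 P⟩
  have h1 := card_le hq H hH
  have h2 := Cfsg.Lib.Linear.card_PSL_two (F := F)
  rw [← H.card_mul_index, ← mul_assoc] at h2
  have h3 := Cfsg.Lib.Linear.two_le_card_field (F := F)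
  refine Nat.le_of_mul_le_mul_left (c := Nat.card F * (Nat.card F - 1)) ?_
    (Nat.mul_pos (by omega) (by omega))
  rw [← h2]
  exact Nat.mul_le_mul_right _ h1

end Cfsg.Agent.S0806
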