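import Cfsg.Statements.S0808
import Cfsg.Agent.Lib.Linear.PSL2Klein
import Cfsg.Agent.S0276

set_option autoImplicit false
open Cfsg

namespace Cfsg.Agent.S0808

open Cfsg.Lib.Linear Cfsg.Lib.Known

/-- Conjugacy classes of four-groups in PSL_2(q), q odd: if q ≡ 3 or 5 (mod 8) all Klein four-subgroups are conjugate; if q ≡ 1 or 7 (mod 8) there are two Klein four-subgroups which are not conjugate, and every Klein four-subgroup is conjugate to one of them. -/
theorem result {F : Type*} [Field F] [Fintype F] {q : ℕ} (hF : Fintype.card F = q) (hodd : Odd q) : ((q % 8 = 3 ∨ q % 8 = 5) → ∀ V W : Subgroup (Matrix.ProjectiveSpecialLinearGroup (Fin 2) F), IsKleinFour V → IsKleinFour W → ∃ g : Matrix.ProjectiveSpecialLinearGroup (Fin 2) F, W = V.map (MulAut.conj g).toMonoidHom) ∧ ((q % 8 = 1 ∨ q % 8 = 7) → ∃ V₁ V₂ : Subgroup (Matrix.ProjectiveSpecialLinearGroup (Fin 2) F), IsKleinFour V₁ ∧ IsKleinFour V₂ ∧ (¬ ∃ g : Matrix.ProjectiveSpecialLinearGroup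 (Fin 2) F, V₂ = V₁.map (MulAut.conj g).toMonoidHom) ∧ ∀ W : Subgroup (Matrix.ProjectiveSpecialLinearGroup (Fin 2) F), IsKleinFour W → (∃ g : Matrix.ProjectiveSpecialLinearGroup (Fin 2) F, W = V₁.map (MulAut.conj g).toMonoidHom) ∨ (∃ g : Matrix.ProjectiveSpecialLinearGroup (Fin 2) F, W = V₂.map (MulAut.conj g).toMonoidHom)) := by
  have h2 : (2 : F) ≠ 0 := two_ne_zero_of_odd (by rwa [Nat.card_eq_fintype_card, hF])
  refine ⟨fun h V W hV hW => ?_, fun h => ?_⟩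
  · obtain ⟨P⟩ : Nonempty (Sylow 2 (PSL2 F)) := inferInstance
    have h4 := (Cfsg.Agent.S0276.result hF h P).card_four
    rw [P.card_eq_multiplicity] at h4
    obtain ⟨g, hg⟩ := MulAction.exists_smul_eq (PSL2 F) (Sylow.ofCard V (hV.card_four.trans h4.symm))
      (Sylow.ofCard W (hW.card_four.trans h4.symm))
    exact ⟨g, (congrArg Sylow.toSubgroup hg).symm⟩
  have h3 : IsSquare (2 : F) := by rw [FiniteField.isSquare_two_iff, hF]; omega
  let cl : Subgroup (PSL2 F) → Set (Subgroup (PSL2 F)) := fun V =>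
    {W | ∃ g : PSL2 F, W = V.map (MulAut.conj g).toMonoidHom}
  have h4 : ∀ V : Subgroup (PSL2 F), IsKleinFour V →
      2 * (cl V).ncard = {V : Subgroup (PSL2 F) | IsKleinFour V}.ncard := fun V hV => by
    have h5 := ncard_conj_mul_card_normalizer V
    rw [card_normalizer_klein h2 h3 hV, ← card_klein_PSL2 h2] at h5
    rw [← Nat.card_coe_set_eq {V : Subgroup (PSL2 F) | IsKleinFour V}]
    exact Nat.eq_of_mul_eq_mul_left (show 0 < 12 by norm_num) (by rw [← mul_assoc, mul_comm]; exact h5)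
  have h5 : ∀ V : Subgroup (PSL2 F), IsKleinFour V → cl V ⊆ {V : Subgroup (PSL2 F) | IsKleinFour V} := by
    rintro V hV _ ⟨g, rfl⟩
    exact isKleinFour_map_conj hV g
  obtain ⟨i, j, hi, -, hij⟩ := exists_quaternion_pair h2
  obtain ⟨V₁, hV⟩ : ∃ V₁ : Subgroup (PSL2 F), IsKleinFour V₁ :=
    ⟨_, ((kPair_mk_iff h2).2 ⟨hi, hij⟩).isKleinFour⟩
  have h6 : 0 < (cl V₁).ncard := (Set.ncard_pos (Set.toFinite _)).2 ⟨_, 1, rfl⟩
  obtain ⟨V₂, hV₂, h7⟩ := Set.exists_mem_notMem_of_ncard_lt_ncard (s := cl V₁)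
    (t := {V : Subgroup (PSL2 F) | IsKleinFour V}) (by have := h4 V₁ hV; omega)
  refine ⟨V₁, V₂, hV, hV₂, h7, fun W hW => ?_⟩
  have h8 : Disjoint (cl V₁) (cl V₂) := by
    rw [Set.disjoint_left]
    rintro _ ⟨g, rfl⟩ ⟨k, hk⟩
    refine h7 ⟨k⁻¹ * g, ?_⟩
    rw [map_mul, show (MulAut.conj k⁻¹ * MulAut.conj g).toMonoidHom =
      (MulAut.conj k⁻¹).toMonoidHom.comp (MulAut.conj g).toMonoidHom from rfl, ← Subgroup.map_map, hk,
      Subgroup.map_map]
    ext x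
    simp [mul_assoc]
  have h9 : cl V₁ ∪ cl V₂ = {V : Subgroup (PSL2 F) | IsKleinFour V} :=
    Set.eq_of_subset_of_ncard_le (Set.union_subset (h5 _ hV) (h5 _ hV₂)) (by
      rw [Set.ncard_union_eq h8]
      have := h4 _ hV
      have := h4 _ hV₂
      omega)
  exact (h9 ▸ hW : W ∈ cl V₁ ∪ cl V₂)

end Cfsg.Agent.S0808
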