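import Cfsg.Statements.S0809
import Cfsg.Agent.Lib.Linear.PSL2Klein

set_option autoImplicit false
open Cfsg

namespace Cfsg.Agent.S0809

open Cfsg.Lib.Linear Cfsg.Lib.Known

theorem key {F : Type*} [Field F] [Finite F] {i : SL2 F} (hA : orderOf i = 4) {A : Type*} [CommGroup A]
    [Finite A] {τ : A →* SL2 F} {a : A} (h : IsTorus τ) (ha : a ^ 2 ≠ 1) (hc : IsConj i (τ a)) :
    4 ∣ Nat.card A ∧
      Nat.card (Subgroup.normalizer (Subgroup.zpowers i : Set (SL2 F))) = 2 * Nat.card A := by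
  refine ⟨by rw [← hA, orderOf_eq_of_isConj hc, orderOf_injective _ h.inj]; exact orderOf_dvd_natCard a,
    ?_⟩
  obtain ⟨c, rfl⟩ := isConj_iff.1 hc.symm
  exact ((h.conj c).card_normalizer (Subgroup.zpowers_le.2 ⟨a, rfl⟩) ha (Subgroup.mem_zpowers _)).1

/-- In SL_2(q), q odd: any two subgroups of order 4 are conjugate, and the normaliser of a subgroup of order 4 has order 2(q − 1) if q ≡ 1 (mod 4) and 2(q + 1) if q ≡ 3 (mod 4); consequently all involutions of PSL_2(q) are conjugate. -/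
theorem result {F : Type*} [Field F] [Fintype F] {q : ℕ} (hF : Fintype.card F = q) (hodd : Odd q) (A : Subgroup (Matrix.SpecialLinearGroup (Fin 2) F)) (hA : Nat.card A = 4) : (∀ B : Subgroup (Matrix.SpecialLinearGroup (Fin 2) F), Nat.card B = 4 → ∃ g : Matrix.SpecialLinearGroup (Fin 2) F, B = A.map (MulAut.conj g).toMonoidHom) ∧ (q % 4 = 1 → Nat.card ↥(Subgroup.normalizer (A : Set (Matrix.SpecialLinearGroup (Fin 2) F))) = 2 * (q - 1)) ∧ (q % 4 = 3 → Nat.card ↥(Subgroup.normalizer (A : Set (Matrix.SpecialLinearGroup (Fin 2) F))) = 2 * (q + 1)) ∧ (∀ x y : Matrix.ProjectiveSpecialLinearGroup (Fin 2) F, orderOf x = 2 → orderOf y = 2 → IsConj x y) := by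
  rw [← Nat.card_eq_fintype_card] at hF
  subst hF
  have h2 := two_ne_zero_of_odd hodd
  obtain ⟨i, hi, rfl⟩ := exists_gen_of_card_four h2 hA
  rw [Nat.card_zpowers] at hA
  have h3 : (4 ∣ Nat.card F - 1 ∧ Nat.card (Subgroup.normalizer (Subgroup.zpowers i : Set (SL2 F))) =
      2 * (Nat.card F - 1)) ∨ (4 ∣ Nat.card F + 1 ∧
      Nat.card (Subgroup.normalizer (Subgroup.zpowers i : Set (SL2 F))) = 2 * (Nat.card F + 1)) := by
    have h4 : ∀ (a : Fˣ) (b : F), a ^ 2 = 1 → ¬ IsConj i (triS a b) := fun a b ha h => by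
      have h5 := SL2_trace_eq_of_isConj h
      rw [SL2_sq_eq_neg_one_iff.1 hi, trace_triS, ← (units_eq_inv_iff a).2 ha, ← two_mul] at h5
      exact mul_ne_zero h2 a.ne_zero h5.symm
    rcases SL2_types i with ⟨a, ha, h⟩ | ⟨a, b, ha, -, h⟩ | ⟨a, ha, h⟩ | ⟨a, ha, h⟩
    · exact absurd (h ▸ IsConj.refl i) (h4 a 0 ha)
    · exact absurd h (h4 a b ha)
    · exact Or.inl (by simpa only [Nat.card_units] using key hA isTorus_torusS ha h)
    · exact Or.inr (by simpa only [card_U1] using key hA isTorus_singerS ha h)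
  refine ⟨fun B hB => ?_, fun h => (h3.resolve_right fun e => by omega).2,
    fun h => (h3.resolve_left fun e => by omega).2, fun x y => psl2_isConj_of_orderOf_two h2⟩
  obtain ⟨j, hj, rfl⟩ := exists_gen_of_card_four h2 hB
  obtain ⟨c, rfl⟩ := isConj_iff.1 (isConj_of_mul_self_eq_neg_one h2 hi hj)
  exact ⟨c, by rw [MonoidHom.map_zpowers]; rfl⟩

end Cfsg.Agent.S0809
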