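import Cfsg.Statements.S0810
import Cfsg.Agent.Lib.Linear.PSL2Sub

set_option autoImplicit false
open Cfsg

namespace Cfsg.Agent.S0810

open Cfsg.Lib.Linear Cfsg.Lib.Known

theorem card_ne_sixty {F : Type*} [Field F] [Finite F] (h : 5 < Nat.card F) :
    Nat.card (PSL2 F) ≠ 60 := fun e => by
  have h1 := card_PSL_two (F := F)
  rw [show Nat.card (Matrix.ProjectiveSpecialLinearGroup (Fin 2) F) = 60 from e] at h1
  have h2 := Nat.gcd_le_left (Nat.card F - 1) two_pos
  have : 6 * 5 * 7 ≤ Nat.card F * (Nat.card F - 1) * (Nat.card F + 1) :=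
    Nat.mul_le_mul (Nat.mul_le_mul h (by omega)) (by omega)
  omega

theorem pow_mod_five (a : ℕ) (h : a % 5 = 4) (k : ℕ) : a ^ k % 5 = 1 ∨ a ^ k % 5 = 4 := by
  induction k with
  | zero => simp
  | succ k ih => rcases ih with e | e <;> simp [pow_succ, Nat.mul_mod, e, h]

theorem card_lt {F L : Type*} [Field F] [Finite F] [Field L] [Finite L] {m : ℕ} (hm : 2 ≤ m)
    (h : Nat.card L ^ m = Nat.card F) : Nat.card (PSL2 L) ≠ Nat.card (PSL2 F) := fun e => by
  have h1 := card_PSL_two (F := F)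
  have h2 := (card_PSL2_le_card_PGL2 (F := L)).trans card_PGL_two.le
  have h3 := Nat.gcd_le_left (Nat.card F - 1) two_pos
  have h4 := two_le_card_field (F := L)
  have h5 : 2 * Nat.card L ≤ Nat.card F :=
    h ▸ le_trans (by nlinarith) (Nat.pow_le_pow_right (by omega) hm)
  have h6 : 2 * Nat.card L * (Nat.card L - 1) * (Nat.card L + 1) <
      Nat.card F * (Nat.card F - 1) * (Nat.card F + 1) :=
    Nat.mul_lt_mul_of_le_of_lt (Nat.mul_le_mul h5 (by omega)) (by omega)
      (Nat.mul_pos (by omega) (by omega))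
  rw [← h1, show Nat.card (Matrix.ProjectiveSpecialLinearGroup (Fin 2) F) = _ from e.symm] at h6
  nlinarith

/-- PSL_2(q) is minimal simple iff q is 2^r (r prime), 3^r (r an odd prime), a prime greater than 5 congruent to 2 or 3 mod 5, or 5. -/
theorem result {F : Type*} [Field F] [Fintype F] {q : ℕ} (hF : Fintype.card F = q) : Cfsg.IsMinimalSimple (Matrix.ProjectiveSpecialLinearGroup (Fin 2) F) ↔ ((∃ r : ℕ, r.Prime ∧ q = 2 ^ r) ∨ (∃ r : ℕ, r.Prime ∧ r ≠ 2 ∧ q = 3 ^ r) ∨ (q.Prime ∧ 5 < q ∧ (q % 5 = 2 ∨ q % 5 = 3)) ∨ q = 5) := by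
  rw [← Nat.card_eq_fintype_card] at hF
  subst hF
  obtain ⟨p, hp⟩ := CharP.exists F
  have hpp : p.Prime := CharP.char_is_prime F p
  have := Fact.mk hpp
  obtain ⟨n, -, hn⟩ := FiniteField.card F p
  rw [← Nat.card_eq_fintype_card] at hn
  constructor
  · rintro ⟨h1, h2, h3⟩
    have h4 : 4 ≤ Nat.card F := by
      by_contra h
      exact not_isSolvable_of_simple h2 (isSolvable_PSL2 (by omega))
    have hA5 : 5 < Nat.card F → ¬ 5 ∣ Nat.card F * (Nat.card F ^ 2 - 1) := fun h h5 => by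
      obtain ⟨H, ⟨e⟩⟩ := psl2_exists_A5_iff.2 h5
      have := h3 H fun e' => card_ne_sixty h (by
        rw [← Subgroup.card_top, ← e', Nat.card_congr e.toEquiv, card_A5])
      exact not_isSolvable_A5 (isSolvable_of_equiv e.symm)
    have hsub : ∀ s m : ℕ, 2 ≤ m → s * m = n → p ^ s ≤ 3 := fun s m hm e => by
      by_contra h
      have hs : s ≠ 0 := by rintro rfl; simp at h
      have hL : Nat.card (GaloisField p s) = p ^ s := GaloisField.card p s hs
      have h5 : Nat.card (GaloisField p s) ^ m = Nat.card F := by rw [hL, hn, ← e, pow_mul]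
      obtain ⟨f⟩ := nonempty_ringHom_of_card_pow h5
      obtain ⟨H, ⟨e⟩⟩ := psl2_exists_subfield f
      have := h3 H fun e' => card_lt hm h5 (by
        rw [← Subgroup.card_top (G := PSL2 F), ← e', Nat.card_congr e.toEquiv])
      exact not_isSolvable_PSL2 (F := GaloisField p s) (by omega) (isSolvable_of_equiv e.symm)
    by_cases hn1 : (n : ℕ) = 1
    · rw [hn1, pow_one] at hn
      by_cases h5 : Nat.card F = 5
      · exact Or.inr (Or.inr (Or.inr h5))
      have h6 : 5 < Nat.card F := by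
        have : Nat.card F ≠ 4 := fun e => by rw [← hn, e] at hpp; exact absurd hpp (by decide)
        omega
      refine Or.inr (Or.inr (Or.inl ⟨hn ▸ hpp, h6, ?_⟩))
      have h7 := hA5 h6
      rw [Nat.prime_five.dvd_mul, Nat.sq_sub_sq _ 1, Nat.prime_five.dvd_mul] at h7
      omega
    have hn2 : 2 ≤ (n : ℕ) := by have := n.pos; omega
    have hprime : (n : ℕ).Prime := Nat.prime_def_lt.2 ⟨hn2, fun s hs ⟨m, hm⟩ => by
      have h5 := hsub s m (by
        by_contra h
        have : m ≤ 1 := by omega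
        nlinarith) hm.symm
      by_contra h
      have hs0 : s ≠ 0 := by rintro rfl; omega
      have : 2 ^ 2 ≤ p ^ s := (Nat.pow_le_pow_left hpp.two_le 2).trans
        (Nat.pow_le_pow_right hpp.pos (by omega))
      omega⟩
    have h5 := hsub 1 n hn2 (one_mul _)
    have h6 := hpp.two_le
    rw [pow_one] at h5
    rcases (by omega : p = 2 ∨ p = 3) with rfl | rfl
    · exact Or.inl ⟨n, hprime, hn⟩
    · refine Or.inr (Or.inl ⟨n, hprime, fun e => ?_, hn⟩)
      rw [e] at hn
      exact hA5 (by omega) (by rw [hn]; decide)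
  · intro h
    have h4 : 4 ≤ Nat.card F := by
      rcases h with ⟨r, hr, e⟩ | ⟨r, hr, -, e⟩ | h | h
      · exact e ▸ Nat.pow_le_pow_right two_pos hr.two_le
      · exact e ▸ le_trans (by norm_num) (Nat.pow_le_pow_right three_pos hr.two_le)
      · omega
      · omega
    refine ⟨isSimpleGroup_PSL2 h4, psl_not_isMulCommutative, fun H hH => ?_⟩
    have hA5 : ¬ Nonempty (H ≃* alternatingGroup (Fin 5)) := fun ⟨e⟩ => by
      have h5 := psl2_exists_A5_iff.1 ⟨H, ⟨e⟩⟩
      have h6 : Nat.card F ≠ 4 ∧ Nat.card F ≠ 5 := by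
        constructor <;> intro e' <;> refine hH ((Subgroup.card_eq_iff_eq_top H).1 ?_)
        · obtain ⟨e''⟩ := psl2_four_equiv e'
          exact Nat.card_congr (e.trans e''.symm).toEquiv
        · obtain ⟨e''⟩ := psl2_five_equiv e'
          exact Nat.card_congr (e.trans e''.symm).toEquiv
      rw [Nat.prime_five.dvd_mul, Nat.sq_sub_sq _ 1, Nat.prime_five.dvd_mul] at h5
      rcases h with ⟨r, hr, e⟩ | ⟨r, hr, hr', e⟩ | h | h
      · obtain ⟨k, rfl⟩ := hr.odd_of_ne_two (by rintro rfl; exact h6.1 e)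
        rw [pow_succ, pow_mul] at e
        have := pow_mod_five (2 ^ 2) rfl k
        omega
      · obtain ⟨k, rfl⟩ := hr.odd_of_ne_two hr'
        rw [pow_succ, pow_mul] at e
        have := pow_mod_five (3 ^ 2) rfl k
        omega
      · omega
      · omega
    rcases dickson_psl2 p H with ⟨k, -, ⟨h, -⟩ | ⟨⟨e⟩⟩⟩ | ⟨P, hP⟩ | ⟨-, ⟨⟨e⟩⟩ | ⟨⟨e⟩⟩ | h⟩ | ⟨-, h⟩ |
      ⟨R, hR⟩
    · exact isSolvable_of_isCyclic h
    · have := isSolvable_dihedral k
      exact isSolvable_of_equiv e
    · exact isSolvable_of_le_normalizer hP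
    · have := isSolvable_A4
      exact isSolvable_of_equiv e
    · have := isSolvable_S4
      exact isSolvable_of_equiv e
    · exact absurd h hA5
    · exact absurd h hA5
    obtain ⟨m, hm, hm'⟩ := (eq_top_or_sq_le hR).resolve_left hH
    obtain ⟨φ, hφ⟩ := exists_injective_of_subfield hR
    have h5 := two_le_card_field (F := R)
    have h6 : ∀ l r : ℕ, l.Prime → r.Prime → Nat.card F = l ^ r → Nat.card R = l := fun l r hl hr e => by
      obtain ⟨s, -, hs⟩ := (Nat.dvd_prime_pow hl).1 (e ▸ hm' ▸ dvd_pow_self _ (by omega) :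
        Nat.card R ∣ l ^ r)
      rw [hs, e, ← pow_mul] at hm'
      have h7 := Nat.pow_right_injective hl.two_le hm'
      rcases (hr.eq_one_or_self_of_dvd s ⟨m, h7⟩) with rfl | rfl
      · simpa using hs
      · nlinarith [hr.two_le]
    have h7 : ¬ (Nat.card F).Prime := by
      rw [hm']
      exact Nat.Prime.not_prime_pow hm
    have := isSolvable_PGL2 (F := R) (by
      rcases h with ⟨r, hr, e⟩ | ⟨r, hr, -, e⟩ | h | h
      · rw [h6 _ _ Nat.prime_two hr e]; omega
      · rw [h6 _ _ Nat.prime_three hr e]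
      · exact absurd h.1 h7
      · exact absurd (h ▸ Nat.prime_five) h7)
    exact Group.isSolvable_of_isSolvable_injective hφ

end Cfsg.Agent.S0810
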