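import Cfsg.Statements.S0812
import Cfsg.Agent.Lib.Linear.PSL2Sub

set_option autoImplicit false
open Cfsg

namespace Cfsg.Agent.S0812

/-- For q ∉ {2, 3, 5, 7, 9, 11}, PSL_2(q) has a maximal subgroup isomorphic to the dihedral group of order 2(q − 1)/d, d = gcd(2, q − 1). -/
theorem result {F : Type*} [Field F] [Fintype F] {q : ℕ} (hF : Fintype.card F = q) (hq : q ∉ ({2, 3, 5, 7, 9, 11} : Finset ℕ)) : ∃ H : Subgroup (Matrix.ProjectiveSpecialLinearGroup (Fin 2) F), IsCoatom H ∧ Nonempty (H ≃* DihedralGroup ((q - 1) / Nat.gcd 2 (q - 1))) := by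
  rw [← Nat.card_eq_fintype_card] at hF
  subst hF
  obtain ⟨s, r, h1, h2, h3, h4⟩ := Cfsg.Lib.Linear.exists_dihedral_of_isTorus
    (Cfsg.Lib.Known.isTorus_torusS (F := F)) (by
      rw [Nat.card_units]
      have := Cfsg.Lib.Linear.two_le_card_field (F := F)
      simp only [Finset.mem_insert, Finset.mem_singleton, not_or] at hq
      omega)
  rw [Nat.card_units] at h3
  exact ⟨_, Cfsg.Lib.Linear.isCoatom_dihedral h1 h2 h4 (Or.inr ⟨h3, hq⟩),
    Cfsg.Lib.Invol.closure_mulEquiv_dihedral h1 h2 h3 h4⟩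

end Cfsg.Agent.S0812
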