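import Cfsg.Statements.S0816
import Cfsg.Agent.Lib.CAut.Fam

set_option autoImplicit false
open Cfsg

namespace Cfsg.Agent.S0816

open Cfsg.Lib.CAut Cfsg.Lib.Forms Cfsg.Lib.Forms.Form Module


/-- |Aut(PΩ_(2m+1)(q))| = 2 f · |PΩ_(2m+1)(q)| for q = p^f odd and m ≥ 3 (for the form quadFormOdd). -/
theorem result {F : Type*} [Field F] [Fintype F] (p f : ℕ) [Fact p.Prime] (hf : 1 ≤ f) (hF : Fintype.card F = p ^ f) (hodd : Odd p) (m : ℕ) (hm : 3 ≤ m) : Nat.card (MulAut (Cfsg.POmega F (Cfsg.quadFormOdd m F))) = 2 * f * Nat.card (Cfsg.POmega F (Cfsg.quadFormOdd m F)) := by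
  rw [← Nat.card_eq_fintype_card] at hF
  have h2 : (2 : F) ≠ 0 := odd_card_iff.1 (hF ▸ hodd.pow)
  have hn : 5 ≤ finrank F (Unit ⊕ (Fin m ⊕ Fin m) → F) := by rw [finrank_odd]; omega
  rw [← card_range_oAct_odd fOdd_Q (fOdd_nondeg h2 m) hn hF (finrank_odd m),
    card_range_of_surjective (oAct_surjective _ _ _ fun k _ hk => by rw [finrank_odd] at hk; omega)]

end Cfsg.Agent.S0816
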