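import Cfsg.Statements.S0818
import Cfsg.Agent.Lib.CAut.OutT

set_option autoImplicit false
open Cfsg

namespace Cfsg.Agent.S0818

open Cfsg.Lib.CAut Cfsg.Lib.Forms Cfsg.Lib.Forms.Form Module


/-- |Aut(PΩ⁻_2m(q))| for q = p^f, m ≥ 4 (form quadFormMinus (m−1) with anisotropic binary part): |PΩ⁻_2m(q)| times f, times 2 if p = 2, and times 4 or 8 if p is odd according as m(q−1)/2 is even or odd. -/
theorem result {F : Type*} [Field F] [Fintype F] (p f : ℕ) [Fact p.Prime] (hf : 1 ≤ f) (hF : Fintype.card F = p ^ f) (m : ℕ) (hm : 4 ≤ m) (a b : F) (hab : ∀ z₁ z₂ : F, z₁ ^ 2 + a * z₁ * z₂ + b * z₂ ^ 2 = 0 → z₁ = 0 ∧ z₂ = 0) : Nat.card (MulAut (Cfsg.POmega F (Cfsg.quadFormMinus (m - 1) F a b))) = (if p = 2 then 2 else (if Even (m * (p ^ f - 1) / 2) then 4 else 8)) * f * Nat.card (Cfsg.POmega F (Cfsg.quadFormMinus (m - 1) F a b)) := by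
  rw [← Nat.card_eq_fintype_card] at hF
  obtain ⟨m, rfl⟩ := Nat.exists_eq_add_of_le' (show 1 ≤ m by omega)
  have hn : 5 ≤ finrank F ((Fin m ⊕ Fin m) ⊕ Fin 2 → F) := by rw [finrank_minus]; omega
  haveI := charP_of_card hF
  have h := isOut_gout _ _ (oAct_surjective (fMinus_Q a b) (fMinus_nondeg m hab) hn fun k _ hk => by
    rw [finrank_minus] at hk
    rw [show k = m + 1 by omega]; exact fMinus_not_hasTS m hab)
  refine (card_mulAut_eq (center_quotient_eq_bot (jO _ (fMinus_Q a b)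
    (commutator_eq_E' (fMinus_nondeg m hab) hn)) (std_quad (fMinus_nondeg m hab) hn))).trans ?_
  congr 1
  by_cases hp : p = 2
  · subst hp
    rw [if_pos rfl]
    exact h.card_two (fMinus_nondeg m hab) hn hF (finrank_minus m) two_eq_zero_of_charP
  · have ho := ((Fact.out : p.Prime).odd_of_ne_two hp).pow (n := f)
    have h2 : (2 : F) ≠ 0 := odd_card_iff.1 (hF ▸ ho)
    refine (h.card_disc (fMinus_nondeg m hab) hn hF (finrank_minus m) h2).trans ?_
    rw [if_neg hp, disc_minus h2 m hab, hF]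
    obtain ⟨k, hk⟩ := ho
    rw [hk, Nat.add_sub_cancel, mul_left_comm, Nat.mul_div_cancel_left _ two_pos]
    congr 1
    by_cases h3 : Even m ∧ (2 * k + 1) % 4 = 3
    · rw [if_pos h3, if_pos rfl, if_neg]
      exact Nat.not_even_iff_odd.2 (h3.1.add_one.mul (Nat.odd_iff.2 (by omega)))
    · rw [if_neg h3, if_neg (by decide), if_pos]
      rw [Nat.even_mul, Nat.even_iff, Nat.even_iff]
      rw [Nat.even_iff] at h3
      omega

end Cfsg.Agent.S0818
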