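import Cfsg.Statements.S0821
import Cfsg.Agent.Lib.CAut.Fam

set_option autoImplicit false
open Cfsg

namespace Cfsg.Agent.S0821

open Cfsg.Lib.CAut Cfsg.Lib.Forms Cfsg.Lib.Forms.Form Module


/-- PSp_2m(q) ≇ PΩ_(2m+1)(q) for q odd and m ≥ 3 (they have the same order). -/
theorem result {F : Type*} [Field F] [Fintype F] (hodd : Odd (Fintype.card F)) (m : ℕ) (hm : 3 ≤ m) : IsEmpty (Cfsg.PSp m F ≃* Cfsg.POmega F (Cfsg.quadFormOdd m F)) := by
  refine ⟨fun β => ?_⟩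
  have h2 : (2 : F) ≠ 0 := odd_card_iff.1 (by rwa [Nat.card_eq_fintype_card])
  have hn : 5 ≤ finrank F (Unit ⊕ (Fin m ⊕ Fin m) → F) := by rw [finrank_odd]; omega
  have hO := std_quad (fOdd_nondeg h2 m) hn
  have hS := stdSp (F := F) (m := m) (by omega)
  let C := corr (jO _ fOdd_Q (commutator_eq_E' hO.nondeg hn)) (jSp F m) hO hS β.symm
  obtain ⟨p, hp⟩ := CharP.exists F
  haveI : Fact p.Prime := ⟨CharP.char_is_prime F p⟩
  obtain ⟨e, f, hef⟩ := hO.hyp
  obtain ⟨U, hU, hU0, H⟩ := C.exists_isTS p hO hS hef.Q_e hef.e_ne_zero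
  have h1 := C.comm_RU p hO hef.Q_e hef.e_ne_zero H (fun a => by simp)
  have h3 := (C.card_le p hO hS.nondeg hef.Q_e hef.e_ne_zero hU H).1
  have h4 : (fSymp F m).perp U = U := by
    refine le_antisymm (fun z hz => ?_) hU.le_perp
    rw [← hS.nondeg.perp_perp U, mem_perp']
    intro z' hz'
    obtain ⟨u, hu, hu0⟩ := Submodule.exists_mem_ne_zero_of_ne_bot hU0
    obtain ⟨v, huv⟩ := Symp.exists_isHyp' hS.nondeg hu0
    have hd := Symp.isEich ((fSymp F m).mem_perp.1 hz u hu) 0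
    have hd' := Symp.isEich ((fSymp F m).mem_perp.1 hz' u hu) 0
    have h5 := commutatorElement_eq_one_iff_mul_comm.2
      (h1 _ ⟨eich_mem_RU hU hd hu hz, eich_mem_E _ _ _ _⟩ _ ⟨eich_mem_RU hU hd' hu hz', eich_mem_E _ _ _ _⟩)
    rw [commutator_eich hd hd' (Symp.isEich (by simp) _),
      ← (fSymp F m).eich_zero (e := u) (Symp.isEich (by simp) _)] at h5
    have h6 := (eich_inj huv (zero_mem _) (zero_mem _) h5).2
    rw [Symp.B_symm _ z z', sub_neg_eq_add, ← two_mul, mul_eq_zero] at h6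
    exact h6.resolve_left h2
  have h5 := hS.nondeg.finrank_perp U
  rw [h4, finrank_plus] at h5
  rw [Symp.card_ker_tr, card_ker_tr_quad, mul_one, ← pow_add, finrank_odd,
    Nat.pow_le_pow_iff_right two_le_card, show finrank F U = m by omega] at h3
  obtain ⟨k, rfl⟩ : ∃ k, m = k + 3 := ⟨m - 3, by omega⟩
  rw [show k + 3 - 1 = k + 2 from rfl] at h3
  have h6 : k + 3 ≤ (k + 3) * (k + 2) / 2 := (Nat.le_div_iff_mul_le two_pos).2 (by nlinarith)
  omega

end Cfsg.Agent.S0821
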