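import Cfsg.Statements.S0823
import Cfsg.Agent.Lib.Forms.Small

set_option autoImplicit false
open Cfsg

namespace Cfsg.Agent.S0823

open Cfsg.Lib.Forms Module



/-- SO_3(3) ≅ S_4: the determinant-one isometries of the form x_0² + x_1y_1 over the field with 3 elements form a group isomorphic to the symmetric group on 4 letters. -/
theorem result {F : Type*} [Field F] [Fintype F] (hF : Fintype.card F = 3) : Nonempty (↥(Cfsg.specialIsometryGroup F (Cfsg.quadFormOdd 1 F)) ≃* Equiv.Perm (Fin 4)) := by
  have h2 : (2 : F) ≠ 0 := two_ne_zero_of_odd_card hF (by decide)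
  rw [← Nat.card_eq_fintype_card] at hF
  have hD := fOdd_nondeg h2 1
  obtain ⟨e, f, h⟩ := Quad.exists_isHyp hD (finrank_odd 1).ge
  obtain ⟨φ, hφ⟩ := exists_perm_points hD (Or.inr (finrank_odd 1).ge) h (n := 4)
    (by rw [Quad.card_Q_eq_zero_odd hD (finrank_odd 1), hF]; rfl)
  have := Form.finite_isom (D := fOdd F 1)
  obtain ⟨ψ⟩ := Cfsg.Lib.Linear.nonempty_equiv_perm_of_injective (φ.comp (fOdd F 1).det.ker.subtype)
    ((injective_iff_map_eq_one _).2 fun g hg => by
      obtain ⟨c, hc⟩ := (hφ g).1 hg
      have h3 := Form.det_of_smul hc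
      rw [g.2, finrank_odd] at h3
      have h4 : c ≠ 0 := by rintro rfl; simp at h3
      have h5 := Cfsg.Lib.Known.pow_natCard_sub_one h4
      rw [hF] at h5
      have h6 : c = 1 := by
        have : c ^ (2 * 1 + 1) = c ^ (3 - 1) * c := by ring
        rw [this, h5] at h3; simpa using h3.symm
      exact Subtype.ext (Form.isom_ext fun x => by simp [hc, h6, Form.isom_one_apply])) (by
      have h3 := (fOdd F 1).det.ker.card_mul_index
      rw [show (fOdd F 1).det.ker = (Form.dickson hD).ker from
        Subgroup.ext fun g => (Form.dickson_eq_one_iff_det hD h2 g).symm] at h3 ⊢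
      rw [hD.index_ker_dickson, Quad.card_isom_odd hD (finrank_odd 1), hF] at h3
      simp [Nat.factorial] at h3 ⊢; omega)
  exact ⟨(soIso _ fOdd_Q).trans ψ⟩

end Cfsg.Agent.S0823
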