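import Cfsg.Statements.S0824
import Cfsg.Agent.Lib.Forms.Small

set_option autoImplicit false
open Cfsg

namespace Cfsg.Agent.S0824

open Cfsg.Lib.Forms Module



/-- O⁻_4(2) ≅ S_5: the isometry group of the form x y + z_1² + z_1 z_2 + z_2² over the field with 2 elements is isomorphic to the symmetric group on 5 letters. -/
theorem result {F : Type*} [Field F] [Fintype F] (hF : Fintype.card F = 2) : Nonempty (↥(Cfsg.isometryGroup F (Cfsg.quadFormMinus 1 F 1 1)) ≃* Equiv.Perm (Fin 5)) := by
  rw [← Nat.card_eq_fintype_card] at hF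
  have hab := aniso_of_irred (F := F) (ζ := 1) fun t ht => by
    have h2 : (2 : F) = 0 := by
      by_contra H
      have := odd_card_iff.2 H
      rw [hF] at this; exact absurd this (by decide)
    rcases eq_or_ne t 0 with rfl | h0
    · simp at ht
    · rw [eq_one_of_card_eq_two hF h0] at ht
      exact one_ne_zero (by linear_combination ht - h2 : (1 : F) = 0)
  have hD := fMinus_nondeg 1 hab
  obtain ⟨e, f, h⟩ := Quad.exists_isHyp hD (by rw [finrank_minus]; omega)
  obtain ⟨φ, hφ⟩ := exists_perm_points hD (Or.inr (by rw [finrank_minus]; omega)) h (n := 5)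
    (by rw [Quad.card_Q_eq_zero_minus hD (finrank_minus 1) (fMinus_not_hasTS 1 hab), hF]; rfl)
  have := Form.finite_isom (D := fMinus 1 (1 : F) 1)
  obtain ⟨ψ⟩ := Cfsg.Lib.Linear.nonempty_equiv_perm_of_injective φ
    ((injective_iff_map_eq_one _).2 fun g hg => by
      obtain ⟨c, hc⟩ := (hφ g).1 hg
      have h4 : c ≠ 0 := by
        rintro rfl; exact h.e_ne_zero (g.1.injective (by simp [hc]))
      exact Form.isom_ext fun x => by simp [hc, eq_one_of_card_eq_two hF h4, Form.isom_one_apply]) (by
      rw [Quad.card_isom_minus hD (finrank_minus 1) (fMinus_not_hasTS 1 hab), hF]; rfl)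
  exact ⟨(oIso _ (fMinus_Q 1 1)).trans ψ⟩

end Cfsg.Agent.S0824
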