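import Cfsg.Statements.S0825
import Cfsg.Agent.Lib.Forms.Perm

set_option autoImplicit false
open Cfsg

namespace Cfsg.Agent.S0825

open Cfsg.Lib.Forms Module



/-- O⁺_6(2) ≅ S_8: the isometry group of the hyperbolic form x_1y_1 + x_2y_2 + x_3y_3 over the field with 2 elements is isomorphic to the symmetric group on 8 letters. -/
theorem result {F : Type*} [Field F] [Fintype F] (hF : Fintype.card F = 2) : Nonempty (↥(Cfsg.isometryGroup F (Cfsg.quadFormPlus 3 F)) ≃* Equiv.Perm (Fin 8)) := by
  rw [← Nat.card_eq_fintype_card] at hF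
  obtain ⟨ρ, hρ⟩ := exists_perm_hom_quad hF le_rfl (fPlus_nondeg 3) (finrank_plus 3)
    (iff_of_true (fPlus_hasTS 3) odd_one)
  have := Form.finite_isom (D := fPlus F 3)
  exact ⟨(oIso _ fPlus_Q).trans (MulEquiv.ofBijective ρ (hρ.bijective_of_nat_card_le (by
    rw [Quad.card_isom_plus (fPlus_nondeg 3) (finrank_plus 3) (fPlus_hasTS 3), hF, Nat.card_perm]
    simp [Finset.prod_range_succ, Nat.factorial]))).symm⟩

end Cfsg.Agent.S0825
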