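import Cfsg.Statements.S0828
import Cfsg.Agent.Lib.Forms.More

set_option autoImplicit false
open Cfsg

namespace Cfsg.Agent.S0828

open Cfsg.Lib.Forms Module



/-- The symplectic generalised quadrangle over a field with q elements: the number of 2-dimensional subspaces of F^4 on which the symplectic form vanishes is (q + 1)(q² + 1), and every non-zero vector lies in exactly q + 1 of them. -/
theorem result {F : Type*} [Field F] [Fintype F] {q : ℕ} (hF : Fintype.card F = q) : Nat.card {W : Submodule F (Fin 2 ⊕ Fin 2 → F) // Module.finrank F W = 2 ∧ ∀ u ∈ W, ∀ v ∈ W, Cfsg.sympForm 2 F u v = 0} = (q + 1) * (q ^ 2 + 1) ∧ ∀ v : Fin 2 ⊕ Fin 2 → F, v ≠ 0 → Nat.card {W : Submodule F (Fin 2 ⊕ Fin 2 → F) // Module.finrank F W = 2 ∧ v ∈ W ∧ ∀ u ∈ W, ∀ w ∈ W, Cfsg.sympForm 2 F u w = 0} = q + 1 := by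
  have hD := fSymp_nondeg (F := F) 2
  rw [← Nat.card_eq_fintype_card] at hF
  have h3 : 2 ≤ q := hF ▸ two_le_card
  have hTS : ∀ W : Submodule F (Fin 2 ⊕ Fin 2 → F), (∀ u ∈ W, ∀ v ∈ W, sympForm 2 F u v = 0) ↔
      (fSymp F 2).IsTS W := fun W => by
    simp only [← fSymp_B]; exact ⟨Symp.isTS, fun h => h.B_eq⟩
  simp only [hTS]
  refine ⟨?_, fun v hv => ?_⟩
  · obtain ⟨W, hW, h1⟩ := Symp.hasTS hD (m := 2) (finrank_plus 2).ge
    have h2 := h1.card_mul_card_stab hD hW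
    rw [Symp.card_stab hD (finrank_plus 2) h1 hW, Symp.card_isom hD (finrank_plus 2), hF] at h2
    simp [spOrder, Finset.prod_range_succ] at h2
    have h4 : 1 ≤ q ^ 2 := Nat.one_le_pow _ _ (by omega)
    have h6 : q ≤ q ^ 2 := Nat.le_self_pow (by omega) _
    have h7 : 1 ≤ q ^ 4 := Nat.one_le_pow _ _ (by omega)
    zify [h4, h6, h7] at h2 ⊢
    have h8 : (2 : ℤ) ≤ q := by exact_mod_cast h3
    have h9 : (q : ℤ) ^ 2 - 1 ≠ 0 := by nlinarith
    have h10 : (q : ℤ) - 1 ≠ 0 := by omega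
    refine mul_right_cancel₀ (b := (q : ℤ) ^ 4 * (q ^ 2 - 1) * (q - 1)) (by positivity) ?_
    linear_combination h2
  · obtain ⟨f, hf⟩ := Symp.exists_isHyp' hD hv
    have h2 := hf.isDual.card_TS_ge hD 1
    have h4 := hf.isDual.finrank_perp hD
    have h5 := Form.card_TS_one ((fSymp F 2).restrict ((fSymp F 2).perp ((F ∙ v) ⊔ F ∙ f)))
    rw [finrank_span_singleton hv] at h2 h4
    rw [← h2, Nat.card_congr (Equiv.subtypeUnivEquiv (alt_Q _)), Module.natCard_eq_pow_finrank (K := F) (V := (fSymp F 2).perp ((F ∙ v) ⊔ F ∙ f)),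
      show finrank F ((fSymp F 2).perp ((F ∙ v) ⊔ F ∙ f)) = 2 by rw [finrank_plus] at h4; omega, hF] at h5
    simp only [Submodule.span_singleton_le_iff_mem] at h5
    simp only [and_comm (a := v ∈ _)]
    refine Nat.eq_of_mul_eq_mul_right (m := q - 1) (by omega) (Nat.add_right_cancel (h5.trans ?_))
    zify [show 1 ≤ q by omega]
    ring

end Cfsg.Agent.S0828
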