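import Cfsg.Statements.S0829
import Cfsg.Agent.Lib.Forms.Para

set_option autoImplicit false
open Cfsg

namespace Cfsg.Agent.S0829

open Cfsg.Lib.Forms



/-- The unitary quadrangle of PSU_4(q): with |F| = q², the number of 2-dimensional subspaces of F^4 on which the Hermitian form Σ x_i y_i^q vanishes is (q + 1)(q³ + 1). -/
theorem result {F : Type*} [Field F] [Fintype F] {q : ℕ} (hF : Fintype.card F = q ^ 2) : Nat.card {W : Submodule F (Fin 4 → F) // Module.finrank F W = 2 ∧ ∀ u ∈ W, ∀ v ∈ W, Cfsg.hermForm 4 F q u v = 0} = (q + 1) * (q ^ 3 + 1) := by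
  obtain ⟨σ, h⟩ := isConj_of_card hF
  have hD := stdHerm_nondeg h (Fin 4)
  obtain ⟨W, hW, h1⟩ := Herm.hasTS hD (m := 2) (by simp)
  have h2 := h1.card_mul_card_stab hD hW
  rw [Herm.card_stab hD h1 hW, Herm.card_isom hD, Module.finrank_fin_fun] at h2
  rw [Nat.card_congr (Equiv.subtypeEquivRight (q := fun U : Submodule F (Fin 4 → F) => Module.finrank F U = 2 ∧ (stdHerm h (Fin 4)).IsTS U)
    fun U => and_congr_right fun _ => ⟨fun H => Herm.isTS fun u hu v hv =>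
      (hermForm_eq h _ _ _).symm.trans (H v hv u hu), fun H u hu v hv =>
      (hermForm_eq h _ _ _).trans (H.B_eq v hv u hu)⟩)]
  have h3 := h.two_le
  simp [guOrder, Finset.prod_range_succ, show ¬ Even 3 by decide, show Even 2 by decide] at h2
  have h4 : 1 ≤ q ^ 2 := Nat.one_le_pow _ _ (by omega)
  have h5 : 1 ≤ (q ^ 2) ^ 2 := Nat.one_le_pow _ _ (by omega)
  have h6 : q ^ 2 ≤ (q ^ 2) ^ 2 := Nat.le_self_pow (by omega) _
  have h7 : 1 ≤ q ^ 4 := Nat.one_le_pow _ _ (by omega)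
  zify [h4, h5, h6, h7] at h2 ⊢
  have h8 : (2 : ℤ) ≤ q := by exact_mod_cast h3
  have h9 : (q : ℤ) ^ 2 - 1 ≠ 0 := by nlinarith
  have h10 : (q : ℤ) ^ 4 - 1 ≠ 0 := by nlinarith
  refine mul_right_cancel₀ (b := (q : ℤ) ^ 6 * (q ^ 2 - 1) * (q ^ 4 - 1)) (by positivity) ?_
  linear_combination h2

end Cfsg.Agent.S0829
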