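import Cfsg.Statements.S0831
import Cfsg.Agent.Lib.Forms.Refl

set_option autoImplicit false
open Cfsg

namespace Cfsg.Agent.S0831

open Cfsg.Lib.Forms



/-- The two families of maximal totally singular subspaces of the hyperbolic quadric: for the form Σ x_i y_i on F^(2m), m ≥ 1, and m-dimensional subspaces U, W, X on which it vanishes, the parities of m − dim(U ∩ W), m − dim(W ∩ X) and m − dim(U ∩ X) sum to an even number (so 'even codimension of the intersection' is an equivalence relation), and there exist two such subspaces meeting in codimension 1 (so there are exactly two classes). -/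
theorem result {F : Type*} [Field F] (m : ℕ) (hm : 1 ≤ m) : (∀ U W X : Submodule F (Fin m ⊕ Fin m → F), (Module.finrank F U = m ∧ ∀ w ∈ U, Cfsg.quadFormPlus m F w = 0) → (Module.finrank F W = m ∧ ∀ w ∈ W, Cfsg.quadFormPlus m F w = 0) → (Module.finrank F X = m ∧ ∀ w ∈ X, Cfsg.quadFormPlus m F w = 0) → Even ((m - Module.finrank F ↥(U ⊓ W)) + (m - Module.finrank F ↥(W ⊓ X)) + (m - Module.finrank F ↥(U ⊓ X)))) ∧ ∃ U W : Submodule F (Fin m ⊕ Fin m → F), (Module.finrank F U = m ∧ ∀ w ∈ U, Cfsg.quadFormPlus m F w = 0) ∧ (Module.finrank F W = m ∧ ∀ w ∈ W, Cfsg.quadFormPlus m F w = 0) ∧ Module.finrank F ↥(U ⊓ W) + 1 = m := by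
  have hD := fPlus_nondeg (F := F) m
  refine ⟨fun U W X hU hW hX => ?_, ?_⟩
  · have := hD.even_three_TS (finrank_plus m) (Form.isTS_quad hU.2) (Form.isTS_quad hW.2)
      (Form.isTS_quad hX.2) hU.1 hW.1 hX.1
    have h1 := Submodule.finrank_mono (inf_le_left : U ⊓ W ≤ U)
    have h2 := Submodule.finrank_mono (inf_le_left : W ⊓ X ≤ W)
    have h3 := Submodule.finrank_mono (inf_le_left : U ⊓ X ≤ U)
    rw [Nat.even_iff] at *
    omega
  · obtain ⟨U, h1, hU⟩ := fPlus_hasTS (F := F) m
    have : Nontrivial (Fin m ⊕ Fin m → F) :=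
      Module.nontrivial_of_finrank_pos (R := F) (by rw [finrank_plus]; omega)
    obtain ⟨v, hv⟩ := hD.quad_exists_Q_ne_zero
    have hv0 : v ≠ 0 := by rintro rfl; simp at hv
    have hU' := hU.map (f := ((fPlus F m).refl v).1.toLinearMap) ((fPlus F m).refl v).2
    refine ⟨U, _, ⟨h1, hU.Q_eq⟩, ⟨by rw [LinearEquiv.finrank_map_eq, h1], hU'.Q_eq⟩, ?_⟩
    have h2 : U ⊓ U.map ((fPlus F m).refl v).1.toLinearMap = (fPlus F m).perp (U ⊔ F ∙ v) := by
      rw [Form.perp_sup, hU.eq_perp hD (by rw [finrank_plus, h1])]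
      ext x
      simp only [Submodule.mem_inf, Form.mem_perp_span_singleton, and_congr_right_iff]
      intro hx
      constructor
      · rintro ⟨y, hy, rfl⟩
        by_contra hc
        have h3 := sub_mem hy hx
        simp only [LinearEquiv.coe_coe, Form.refl_apply, sub_sub_cancel] at h3
        have h4 := hU.Q_eq _ h3
        rw [quad_Q_smul, mul_eq_zero, or_iff_left hv, pow_eq_zero_iff two_ne_zero] at h4
        have h5 : (fPlus F m).B v y = 0 := by simpa [hv] using h4
        exact hc (by simp [Form.refl_apply_of_perp h5, h5])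
      · exact fun h => ⟨x, hx, Form.refl_apply_of_perp h⟩
    have h3 := hD.finrank_perp (U ⊔ F ∙ v)
    rw [Submodule.finrank_sup_span_singleton (fun h => hv (hU.Q_eq v h)), finrank_plus] at h3
    rw [h2]; omega

end Cfsg.Agent.S0831
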