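import Cfsg.Statements.S0832
import Cfsg.Agent.Lib.Forms.More

set_option autoImplicit false
open Cfsg

namespace Cfsg.Agent.S0832

open Cfsg.Lib.Forms Module



/-- For the form Σ x_i y_i on F^(2m) over a finite field, m ≥ 1: an (m−1)-dimensional subspace on which the form vanishes is contained in exactly two m-dimensional subspaces on which it vanishes. -/
theorem result {F : Type*} [Field F] [Finite F] (m : ℕ) (hm : 1 ≤ m) (U : Submodule F (Fin m ⊕ Fin m → F)) (hU : Module.finrank F U + 1 = m ∧ ∀ u ∈ U, Cfsg.quadFormPlus m F u = 0) : Nat.card {W : Submodule F (Fin m ⊕ Fin m → F) // Module.finrank F W = m ∧ (∀ w ∈ W, Cfsg.quadFormPlus m F w = 0) ∧ U ≤ W} = 2 := by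
  have hD := fPlus_nondeg (F := F) m
  have h1 : (fPlus F m).IsTS U := Form.isTS_quad hU.2
  obtain ⟨U', h⟩ := h1.exists_isDual hD
  have h2 := h.card_TS_ge hD 1
  have h3 := h.finrank_perp hD
  rw [finrank_plus] at h3
  have h4 := Form.card_TS_one ((fPlus F m).restrict ((fPlus F m).perp (U ⊔ U')))
  rw [← h2, Quad.card_Q_eq_zero_plus (h.nondeg_perp hD) (m := 0) (by omega)
    ((h.hasTS_iff hD 1).1 (hU.1.symm ▸ fPlus_hasTS m)), hU.1] at h4
  refine (Nat.card_congr (Equiv.subtypeEquivRight (q := fun W : Submodule F (Fin m ⊕ Fin m → F) =>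
    finrank F W = m ∧ (fPlus F m).IsTS W ∧ U ≤ W) fun W => and_congr_right fun _ =>
      and_congr_left fun _ => ⟨Form.isTS_quad, fun h => h.Q_eq⟩)).trans ?_
  have := two_le_card (F := F)
  exact Nat.eq_of_mul_eq_mul_right (m := Nat.card F - 1) (by omega) (by simpa [mul_comm] using h4)

end Cfsg.Agent.S0832
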