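import Cfsg.Statements.S0833
import Cfsg.Agent.Lib.Forms.More

set_option autoImplicit false
open Cfsg

namespace Cfsg.Agent.S0833

open Cfsg.Lib.Forms Module



/-- If B₁, B₂ are non-degenerate alternating forms on U (dim 2k) and W (dim 2l), then B₁ ⊗ B₂ on U ⊗ W is symmetric, non-degenerate, and vanishes identically on some subspace of dimension 2kl (half of dim U ⊗ W). -/
theorem result {F U W : Type*} [Field F] [Fintype F] [AddCommGroup U] [Module F U] [FiniteDimensional F U] [AddCommGroup W] [Module F W] [FiniteDimensional F W] (B₁ : LinearMap.BilinForm F U) (B₂ : LinearMap.BilinForm F W) (h₁ : B₁.Nondegenerate) (h₂ : B₂.Nondegenerate) (hA₁ : B₁.IsAlt) (hA₂ : B₂.IsAlt) (k l : ℕ) (hU : Module.finrank F U = 2 * k) (hW : Module.finrank F W = 2 * l) : (B₁.tmul B₂).IsSymm ∧ (B₁.tmul B₂).Nondegenerate ∧ (∃ X : Submodule F (TensorProduct F U W), Module.finrank F X = 2 * k * l ∧ ∀ x ∈ X, ∀ y ∈ X, (B₁.tmul B₂) x y = 0) := by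
  refine ⟨⟨fun x y => ?_⟩, nondegenerate_tmul h₁ h₂, ?_⟩
  · refine LinearMap.congr_fun₂ (f := (B₁.tmul B₂)) (g := (B₁.tmul B₂).flip) ?_ x y
    ext a b c d
    simp [← hA₁.neg_eq c a, ← hA₂.neg_eq d b]
  · obtain ⟨X, hX, h⟩ := Symp.hasTS (D := ofAlt B₁ hA₁) h₁.1 hU.ge
    refine ⟨LinearMap.range (X.subtype.rTensor W), ?_, ?_⟩
    · rw [LinearMap.finrank_range_of_inj
        (Module.Flat.rTensor_preserves_injective_linearMap _ X.injective_subtype),
        Module.finrank_tensorProduct, hX, hW]; ring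
    · rintro _ ⟨x, rfl⟩ _ ⟨y, rfl⟩
      refine LinearMap.congr_fun₂ (f := (B₁.tmul B₂).compl₁₂ (X.subtype.rTensor W) (X.subtype.rTensor W))
        (g := 0) ?_ x y
      ext a b c d
      simp [show B₁ a c = 0 from h.B_eq _ a.2 _ c.2]

end Cfsg.Agent.S0833
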