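import Cfsg.Statements.S0837
import Cfsg.Agent.Lib.Forms.Para

set_option autoImplicit false
open Cfsg

namespace Cfsg.Agent.S0837

open Cfsg.Lib.Forms



/-- If W ≤ F^n (|F| = q²) is a k-dimensional subspace on which the Hermitian form Σ x_i y_i^q is non-degenerate, then the stabiliser of W in GU_n(q) is isomorphic to GU_k(q) × GU_(n−k)(q). -/
theorem result {F : Type*} [Field F] [Fintype F] {q : ℕ} (hF : Fintype.card F = q ^ 2) (n k : ℕ) (hk : k ≤ n) (W : Submodule F (Fin n → F)) (hWk : Module.finrank F W = k) (hW : ∀ u ∈ W, (∀ v ∈ W, Cfsg.hermForm n F q u v = 0) → u = 0) : Nonempty (↥((Cfsg.stabilizing (Cfsg.glToMat (Fin n) F) (W : Set (Fin n → F))).subgroupOf (Cfsg.GU n F q)) ≃* ↥(Cfsg.GU k F q) × ↥(Cfsg.GU (n - k) F q)) := by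
  obtain ⟨σ, h⟩ := isConj_of_card hF
  have hD := stdHerm_nondeg h (Fin n)
  have h1 : ((stdHerm h (Fin n)).restrict W).Nondeg := fun u hu =>
    Subtype.ext (hW u u.2 fun v hv => (hermForm_eq h _ _ _).trans
      ((stdHerm h (Fin n)).eq_zero_symm (hu ⟨v, hv⟩)))
  have h2 := (stdHerm h (Fin n)).nondeg_restrict_iff.1 h1
  have h3 := hD.finrank_perp W
  rw [Module.finrank_fin_fun] at h3
  obtain ⟨e1⟩ := (Herm.iso_std h1 hWk).nonempty_isom
  obtain ⟨e2⟩ := (Herm.iso_std (hD.restrict_perp h2) (n := n - k) (by omega)).nonempty_isom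
  exact ⟨(subgroupEquivOfIff (guEquiv h n) _ ((stdHerm h (Fin n)).stab W) fun g => Iff.rfl).trans
    ((Form.stabEquiv (hD.isOrthCompl h2) hD).symm.trans
      ((e1.trans (guEquiv h k).symm).prodCongr (e2.trans (guEquiv h _).symm)))⟩

end Cfsg.Agent.S0837
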