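import Cfsg.Statements.S0839
import Cfsg.Agent.Lib.Linear.Tv

set_option autoImplicit false
open Cfsg

namespace Cfsg.Agent.S0839

/-- Every transvection t ∈ SL_(n+2)(F) (rank(t − 1) = 1, (t − 1)² = 0) is conjugate in SL_(n+2)(F) to 1 + v·e_0ᵀ for some column vector v with v_0 = 0 (the group A of matrices that are the identity except in the first column below the diagonal); the dimension is written n + 2 ≥ 2. -/
theorem result {F : Type*} [Field F] (n : ℕ) (t : Matrix.SpecialLinearGroup (Fin (n + 2)) F) (ht : Cfsg.IsTransvection (t : Matrix (Fin (n + 2)) (Fin (n + 2)) F)) : ∃ (g : Matrix.SpecialLinearGroup (Fin (n + 2)) F) (v : Fin (n + 2) → F), v 0 = 0 ∧ ((g⁻¹ * t * g : Matrix.SpecialLinearGroup (Fin (n + 2)) F) : Matrix (Fin (n + 2)) (Fin (n + 2)) F) = 1 + Matrix.vecMulVec v (Pi.single 0 1) := by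
  open Cfsg.Lib.Linear Matrix in
  obtain ⟨v, φ, h0, hv⟩ := isTv_iff.2 (Or.inr ht)
  have hφ : φ ≠ 0 := by
    rintro rfl
    have := ht.1
    simp [hv] at this
  obtain ⟨g, -, hg⟩ := exists_gl_fix_map (W := ⊥) (v := φ) (v' := Pi.single 0 1) (by simpa) (by simp)
  have hd := g.det_ne_zero
  let k : Matrix.SpecialLinearGroup (Fin (n + 2)) F :=
    ⟨g.1ᵀ * diagonal (Function.update 1 0 g.1.det⁻¹), by
      rw [det_mul, det_transpose, det_diagonal, Finset.prod_update_of_mem (Finset.mem_univ _)]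
      simp [hd]⟩
  have hk : φ ᵥ* k.1 = g.1.det⁻¹ • Pi.single 0 1 := by
    change φ ᵥ* (_ * _) = _
    rw [← vecMul_vecMul, vecMul_transpose, hg]
    ext i
    rw [vecMul_diagonal]
    by_cases hi : i = 0 <;> simp [hi]
  have h1 : ((k⁻¹ * t * k : Matrix.SpecialLinearGroup (Fin (n + 2)) F) : Matrix (Fin (n + 2)) (Fin (n + 2)) F) =
      1 + vecMulVec (g.1.det⁻¹ • (k⁻¹).1 *ᵥ v)
        (Pi.single 0 1) := by
    rw [sl_coe_mul, sl_coe_mul, coe_conj_of_coe_eq hv (sl_coe_inv_mul k), hk, vecMulVec_smul,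
      smul_vecMulVec]
  exact ⟨k, _, by simpa using dotProduct_eq_zero_of_coe_eq h1, h1⟩

end Cfsg.Agent.S0839
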