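import Cfsg.Statements.S0840
import Cfsg.Agent.Lib.Char.Integral
import Cfsg.Agent.Lib.Char.Classes

set_option autoImplicit false
open scoped ComplexConjugate
open Cfsg

namespace Cfsg.Agent.S0840

open Cfsg.Lib.Char Finset

/-- Class multiplication coefficients from the character table: for elements a, b, c of a finite group G, the number of ordered pairs (x, y) with x conjugate to a, y conjugate to b and x * y = c equals the product of the sizes of the conjugacy classes of a and b, divided by the order of G, times the sum over the irreducible characters χ of χ a * χ b * conj (χ c) / χ 1. -/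
theorem result {G : Type*} [Group G] [Finite G] (a b c : G) : (Nat.card {p : G × G // IsConj a p.1 ∧ IsConj b p.2 ∧ p.1 * p.2 = c} : ℂ) = (Nat.card {x : G // IsConj a x} : ℂ) * (Nat.card {x : G // IsConj b x} : ℂ) / (Nat.card G : ℂ) * ∑ᶠ χ : Cfsg.IrrCharacter G, (χ : G → ℂ) a * (χ : G → ℂ) b * conj ((χ : G → ℂ) c) / (χ : G → ℂ) 1 := by
  classical
  haveI := Fintype.ofFinite G
  rw [finsum_eq_sum_of_fintype]
  -- number of pairs as a double sum of the regular character
  have h1 : (Nat.card {p : G × G // IsConj a p.1 ∧ IsConj b p.2 ∧ p.1 * p.2 = c} : ℂ) * Nat.card G =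
      ∑ x ∈ univ.filter (IsConj a), ∑ y ∈ univ.filter (IsConj b), regChar G (x * (y * c⁻¹)) := by
    rw [← sum_product', Nat.card_eq_fintype_card, Fintype.card_subtype, card_eq_sum_ones, Nat.cast_sum, sum_mul,
      ← filter_product, univ_product_univ, sum_filter, sum_filter]
    refine sum_congr rfl fun p _ => ?_
    by_cases h : IsConj a p.1 ∧ IsConj b p.2
    · rw [if_pos h]
      by_cases e : p.1 * p.2 = c
      · rw [if_pos ⟨h.1, h.2, e⟩, ← mul_assoc, e, mul_inv_cancel, regChar_one]; simp
      · rw [if_neg (fun h' => e h'.2.2), regChar_of_ne]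
        rw [← mul_assoc]; exact fun h' => e (mul_inv_eq_one.1 h')
    · rw [if_neg h, if_neg (fun h' => h ⟨h'.1, h'.2.1⟩)]
  have h2 : ∑ x ∈ univ.filter (IsConj a), ∑ y ∈ univ.filter (IsConj b), regChar G (x * (y * c⁻¹)) =
      ∑ χ : IrrCharacter G, (χ : G → ℂ) 1 * (centralChar (χ : G → ℂ) a * (centralChar (χ : G → ℂ) b *
        conj ((χ : G → ℂ) c))) := by
    simp_rw [← sum_degree_mul_apply]
    rw [sum_comm]
    simp_rw [sum_comm (s := univ.filter (IsConj a)) (t := (univ : Finset (IrrCharacter G)))]
    rw [sum_comm]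
    refine sum_congr rfl fun χ _ => ?_
    simp_rw [← mul_sum]
    congr 1
    simp_rw [χ.2.sum_class_mul]
    rw [← mul_sum, χ.2.sum_class_mul, χ.2.isCharacter.apply_inv]
  have hG := card_ne_zero G
  apply mul_right_cancel₀ hG
  rw [h1, h2, mul_sum, sum_mul]
  refine sum_congr rfl fun χ _ => ?_
  have := χ.2.apply_one_ne_zero
  rw [centralChar, centralChar, card_isConj, card_isConj]
  field_simp

end Cfsg.Agent.S0840
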