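import Cfsg.Statements.S0842
import Cfsg.Agent.Lib.Block.BSBig

set_option autoImplicit false
open Cfsg

namespace Cfsg.Agent.S0842

open Cfsg.Lib.Block Cfsg.Lib.Char Cfsg.Lib.Amalg
set_option linter.style.haveILetI false

/-- Suppose a Sylow 2-subgroup S of the finite group G is generalized quaternion of order at least 16, and let D be the commutator subgroup of S, C its centralizer and N its normalizer in G. Then there is a subgroup K of odd order, contained in C and normalized by N, with K ⊔ S = N and K ⊔ (S ⊓ C) = C, and C has index 2 in N. -/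
theorem result {G : Type*} [Group G] [Finite G] (S : Sylow 2 G) (n : ℕ) (e : (S : Subgroup G) ≃* QuaternionGroup (2 ^ (n + 2))) (D : Subgroup G) (hD : D = ⁅(S : Subgroup G), (S : Subgroup G)⁆) : ∃ K : Subgroup G, Odd (Nat.card K) ∧ K ≤ Subgroup.centralizer (D : Set G) ∧ Subgroup.normalizer (D : Set G) ≤ Subgroup.normalizer (K : Set G) ∧ K ⊔ (S : Subgroup G) = Subgroup.normalizer (D : Set G) ∧ K ⊔ ((S : Subgroup G) ⊓ Subgroup.centralizer (D : Set G)) = Subgroup.centralizer (D : Set G) ∧ ((Subgroup.centralizer (D : Set G)).subgroupOf (Subgroup.normalizer (D : Set G))).index = 2 := by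
  haveI : Fact (Nat.Prime 2) := ⟨Nat.prime_two⟩
  obtain ⟨a, x, h⟩ := exists_quatData e
  have hj := QuatData.not_dvd_two (n := n)
  rw [h.commutator_eq, ← zpow_ofNat] at hD
  subst hD
  rw [Lib.PGrp.centralizer_zpowers, h.inf_centralizer hj]
  refine ⟨Lib.Transfer.resOf 2 (Subgroup.centralizer {a ^ (2 : ℤ)}),
    Nat.coprime_two_right.1 (h.pnil_centralizer hj).coprime, Lib.Transfer.resOf_le _,
    (normalizer_zpowers_le _).trans (Lib.Transfer.normalizer_le_normalizer_resOf _), ?_,
    (h.sylowIn_centralizer hj).resOf_sup, ?_⟩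
  · rw [← h.resOf_normalizer]
    exact (Lib.Transfer.sylowIn_of_le S (h.le_normalizer_zpowers 2)).resOf_sup
  · have hx := h.le_normalizer_zpowers 2 h.x_mem
    rw [Subgroup.index_eq_two_iff']
    refine ⟨⟨x, hx⟩⁻¹, fun b => ?_⟩
    simp only [Subgroup.mem_subgroupOf, Subgroup.coe_mul, Subgroup.coe_inv]
    rcases h.mem_or b.2 with h1 | h1
    · exact Or.inr ⟨h1, fun h2 => h.x_not_mem hj
        (inv_mem_iff.1 ((Subgroup.mul_mem_cancel_right _ h1).1 h2))⟩
    · exact Or.inl ⟨h1, fun h2 => h.x_not_mem hj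
        (inv_mem_iff.1 ((Subgroup.mul_mem_cancel_right _ h2).1 h1))⟩

end Cfsg.Agent.S0842
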