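import Cfsg.Statements.S0846
import Cfsg.Agent.Lib.Block.ZStar

set_option autoImplicit false
open Cfsg

namespace Cfsg.Agent.S0846

open Cfsg.Lib.Block Cfsg.Lib.Char Cfsg.Lib.Amalg
set_option linter.style.haveILetI false

/-- Suppose a Sylow 2-subgroup S of the finite group G is generalized quaternion of order at least 16. Then every Sylow 2-subgroup of the subgroup generated by the involutions of G is cyclic. -/
theorem result {G : Type*} [Group G] [Finite G] (S : Sylow 2 G) (n : ℕ) (e : (S : Subgroup G) ≃* QuaternionGroup (2 ^ (n + 2))) (Q : Sylow 2 ↥(Subgroup.closure {g : G | orderOf g = 2})) : IsCyclic Q := by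
  haveI : Fact (Nat.Prime 2) := ⟨Nat.prime_two⟩
  obtain ⟨a, x, h⟩ := exists_quatData e
  have hU := h.uniqInv (by positivity)
  have hz := h.orderOf_z (by positivity)
  generalize a ^ 2 ^ (n + 2) = z at hz
  have h1 : Subgroup.closure {g : G | orderOf g = 2} ≤ oddCore G ⊔ Subgroup.zpowers z := by
    rw [Subgroup.closure_le]
    intro t ht
    obtain ⟨g, rfl⟩ : ∃ g, g * z * g⁻¹ = t := by
      by_contra hn
      obtain ⟨w, hw, h2, h3, -⟩ := Lib.Invol.exists_central_of_not_isConj
        (Lib.Invol.mul_self_of_two hz) (Lib.Invol.mul_self_of_two ht) fun h => hn (isConj_iff.1 h)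
      exact hn ⟨1, by simpa using (hU _ _ hw hz h2).symm.trans (hU _ _ hw ht h3)⟩
    have := Subgroup.mul_mem_sup (inv_mem (hU.commutator_mem_oddCore hz g)) (Subgroup.mem_zpowers z)
    rwa [show (z * g * z⁻¹ * g⁻¹)⁻¹ * z = g * z * g⁻¹ by group] at this
  have h2 : Nat.card Q ∣ Nat.card (oddCore G) * 2 := by
    refine (Subgroup.card_subgroup_dvd_card _).trans ((Subgroup.card_dvd_of_le h1).trans ?_)
    rw [sup_comm, mul_comm, ← hz, ← Nat.card_zpowers, ← Lib.PGrp.card_sup_mul_card_inf]
    exact dvd_mul_right _ _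
  obtain ⟨k, hk⟩ := IsPGroup.iff_card.1 Q.2
  refine Lib.PGrp.isCyclic_of_card_le Q.2 (Nat.le_of_dvd two_pos
    (Nat.Coprime.dvd_of_dvd_mul_left ?_ h2))
  exact hk ▸ (Nat.coprime_two_left.2 (Lib.Core.odd_card_oddCore G)).pow_left k

end Cfsg.Agent.S0846
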