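import Cfsg.Statements.S0848
import Cfsg.Agent.Lib.Exc.D8

set_option autoImplicit false
open Cfsg

namespace Cfsg.Agent.S0848

open Cfsg.Lib Cfsg.Lib.Exc Cfsg.Lib.Invol Subgroup

/-- If a finite group equals its own commutator subgroup and contains an involution whose centralizer is isomorphic to the dihedral group of order 8, then the group has order 168 or 360. -/
theorem result {G : Type*} [Group G] [Finite G] (hperf : commutator G = ⊤) (t : G) (ht : orderOf t = 2) (e : Subgroup.centralizer ({t} : Set G) ≃* DihedralGroup 4) : Nat.card G = 168 ∨ Nat.card G = 360 := by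
  obtain ⟨F, _, _, h1, ⟨e'⟩⟩ := psl_of_d8 (fun H hH => by
    have := commutator_le_of_index_two hH
    rw [hperf, top_le_iff] at this
    simp [this] at hH) ht e
  rw [← Nat.card_eq_fintype_card] at h1
  have h2 := Linear.card_PSL_two_of_odd (F := F) (Nat.odd_iff.2 (by omega))
  rw [← Nat.card_congr e'.toEquiv] at h2
  rcases h1 with h1 | h1 <;> rw [h1] at h2 <;> omega

end Cfsg.Agent.S0848
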