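import Cfsg.Statements.S0849
import Cfsg.Agent.Lib.Char.Induce

set_option autoImplicit false
open Cfsg

namespace Cfsg.Agent.S0849

open Cfsg.Lib.Char Finset

/-- Let H be a subgroup of a finite group G and S a subset of H that is mapped to itself under conjugation by H, is disjoint from its conjugate by any element outside H, and is closed under inverses. Let φ be a class function of H vanishing on H away from S, and let u, v be involutions of G. Then the sum of the induced function of φ over all products a * b with a conjugate to u and b conjugate to v equals the index of H times the sum of φ (a * b) over such pairs with a and b in H. -/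
theorem result {G : Type*} [Group G] [Fintype G] (H : Subgroup G) (S : Set G) (hSH : S ⊆ H) (hHS : ∀ h ∈ H, ∀ s ∈ S, h * s * h⁻¹ ∈ S) (hTI : ∀ g : G, g ∉ H → ∀ s ∈ S, g * s * g⁻¹ ∉ S) (hinv : ∀ s ∈ S, s⁻¹ ∈ S) (φ : H → ℂ) (hφ : Cfsg.IsClassFunction H φ) (hφS : ∀ x : H, (x : G) ∉ S → φ x = 0) (u v : G) (hu : orderOf u = 2) (hv : orderOf v = 2) : ∑ᶠ p ∈ {p : G × G | IsConj u p.1 ∧ IsConj v p.2}, Cfsg.indFun H φ (p.1 * p.2) = (H.index : ℂ) * ∑ᶠ p ∈ {p : H × H | IsConj u (p.1 : G) ∧ IsConj v (p.2 : G)}, φ (p.1 * p.2) := by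
  classical
  have := Fintype.ofFinite H
  rw [finsum_mem_eq_finite_toFinset_sum _ (Set.toFinite _), finsum_mem_eq_finite_toFinset_sum _ (Set.toFinite _)]
  set A := (Set.toFinite {p : G × G | IsConj u p.1 ∧ IsConj v p.2}).toFinset with hA
  have hmem : ∀ p, p ∈ A ↔ IsConj u p.1 ∧ IsConj v p.2 := fun p => by simp [hA]
  have h1 : ∀ x : G, ∑ p ∈ A, extendByZero H φ (x * (p.1 * p.2) * x⁻¹) =
      ∑ p ∈ A, extendByZero H φ (p.1 * p.2) := by
    intro x
    refine sum_bijective (fun p => (x * p.1 * x⁻¹, x * p.2 * x⁻¹)) ?_ ?_ ?_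
    · exact ((MulAut.conj x).toEquiv.prodCongr (MulAut.conj x).toEquiv).bijective
    · intro p
      rw [hmem, hmem]
      have e : ∀ a b : G, IsConj a (x * b * x⁻¹) ↔ IsConj a b := fun a b =>
        ⟨fun h => h.trans (isConj_iff.2 ⟨x⁻¹, by group⟩), fun h => h.trans (isConj_iff.2 ⟨x, rfl⟩)⟩
      rw [e, e]
    · intro p _
      congr 1; group
  have h2 : ∑ p ∈ A, extendByZero H φ (p.1 * p.2) =
      ∑ p ∈ (Set.toFinite {p : H × H | IsConj u (p.1 : G) ∧ IsConj v (p.2 : G)}).toFinset,
        φ (p.1 * p.2) := by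
    symm
    refine sum_of_injOn (fun p => ((p.1 : G), (p.2 : G))) ?_ ?_ ?_ ?_
    · intro p _ q _ e
      exact Prod.ext (Subtype.ext (congrArg Prod.fst e)) (Subtype.ext (congrArg Prod.snd e))
    · intro p hp
      exact (hmem _).2 (by simpa only [Set.Finite.coe_toFinset, Set.mem_ofPred_eq] using hp)
    · intro p hp hn
      by_contra h0
      have hH : p.1 * p.2 ∈ H := by
        by_contra h; exact h0 (extendByZero_of_notMem φ h)
      rw [extendByZero_of_mem φ hH] at h0
      have hS : p.1 * p.2 ∈ S := by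
        by_contra h; exact h0 (hφS _ h)
      obtain ⟨ha, hb⟩ := (hmem p).1 hp
      have sq : ∀ {w a : G}, orderOf w = 2 → IsConj w a → a * a = 1 := by
        intro w a hw h
        obtain ⟨c, rfl⟩ := isConj_iff.1 h
        have : w * w = 1 := by rw [← pow_two, ← hw, pow_orderOf_eq_one]
        calc c * w * c⁻¹ * (c * w * c⁻¹) = c * (w * w) * c⁻¹ := by group
          _ = 1 := by rw [this]; group
      have h1H : p.1 ∈ H := by
        by_contra h
        refine hTI p.1 h _ hS ?_
        have : p.1 * (p.1 * p.2) * p.1⁻¹ = (p.1 * p.2)⁻¹ := by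
          rw [← mul_assoc, sq hu ha, one_mul, mul_inv_rev, inv_eq_of_mul_eq_one_right (sq hv hb)]
        rw [this]; exact hinv _ hS
      have h2H : p.2 ∈ H := (H.mul_mem_cancel_left h1H).1 hH
      exact hn ⟨(⟨p.1, h1H⟩, ⟨p.2, h2H⟩), by
        simp only [Set.Finite.coe_toFinset, Set.mem_ofPred_eq]; exact ⟨ha, hb⟩, rfl⟩
    · intro p _
      exact (extendByZero_coe φ (p.1 * p.2)).symm
  simp_rw [indFun_apply']
  rw [← mul_sum, sum_comm]
  simp_rw [h1]
  rw [h2, sum_const, card_univ, nsmul_eq_mul, ← mul_assoc, ← Nat.card_eq_fintype_card,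
    ← H.card_mul_index, Nat.cast_mul, inv_mul_cancel_left₀ (card_ne_zero H)]

end Cfsg.Agent.S0849
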