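import Cfsg.Statements.S0850
import Cfsg.Agent.Lib.Clifford.TI
import Mathlib.GroupTheory.PGroup

set_option autoImplicit false
open Cfsg

namespace Cfsg.Agent.S0850

open Cfsg.Lib Cfsg.Lib.Clifford Subgroup

/-- Let K be a subgroup of the finite group G that meets each conjugate by an element outside its normalizer N trivially, is properly contained in N, and contains the centralizer of each of its non-identity elements (a T.I. subgroup with Frobenius normalizer). Then no element of N outside K is conjugate in G to an element of K, and for every class function ϑ of N that vanishes on N away from K and at the identity, the function induced from ϑ to G agrees with ϑ on all of N. -/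
theorem result {G : Type*} [Group G] [Fintype G] (K : Subgroup G) (hTI : ∀ g : G, g ∉ Subgroup.normalizer (K : Set G) → ∀ k ∈ K, g * k * g⁻¹ ∈ K → k = 1) (hlt : K < Subgroup.normalizer (K : Set G)) (hC : ∀ k ∈ K, k ≠ 1 → Subgroup.centralizer ({k} : Set G) ≤ K) : (∀ x ∈ Subgroup.normalizer (K : Set G), x ∉ K → ∀ g : G, g * x * g⁻¹ ∉ K) ∧ ∀ (ϑ : Subgroup.normalizer (K : Set G) → ℂ), Cfsg.IsClassFunction (Subgroup.normalizer (K : Set G)) ϑ → (∀ x : Subgroup.normalizer (K : Set G), (x : G) ∉ K → ϑ x = 0) → ϑ 1 = 0 → ∀ x : Subgroup.normalizer (K : Set G), Cfsg.indFun (Subgroup.normalizer (K : Set G)) ϑ x = ϑ x := by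
  have part1 : ∀ x ∈ normalizer (K : Set G), x ∉ K → ∀ g : G, g * x * g⁻¹ ∉ K := by
    intro x hxN hxK g hg
    -- `x` is not centralized by a nontrivial element of `K`; reduce to prime power order
    induction h : orderOf x using Nat.strong_induction_on generalizing x with
    | _ n ih =>
    have hn0 : n ≠ 0 := h ▸ (orderOf_pos x).ne'
    by_cases hpp : ∃ p k : ℕ, p.Prime ∧ n = p ^ k
    · obtain ⟨p, k, hp, rfl⟩ := hpp
      have := Fact.mk hp
      have hx1 : x ≠ 1 := fun e => hxK (e ▸ K.one_mem)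
      have hk : k ≠ 0 := by rintro rfl; exact hx1 (orderOf_eq_one_iff.1 (by simpa using h))
      have hP : IsPGroup p (zpowers x) := IsPGroup.of_card (by rw [Nat.card_zpowers, h])
      have hdvd : p ∣ Nat.card K := by
        have h1 : orderOf (g * x * g⁻¹) = p ^ k := by
          rw [← h]; exact (MulAut.conj g).orderOf_eq x
        exact (dvd_pow_self p hk).trans (h1 ▸ K.orderOf_dvd_natCard hg)
      have hle : zpowers x ≤ normalizer (K : Set G) := (zpowers_le).2 hxN
      letI : MulAction (zpowers x) K := MulAction.compHom K ((K.normalizerMonoidHom).comp (inclusion hle))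
      have h1 : (1 : K) ∈ MulAction.fixedPoints (zpowers x) K := fun a =>
        map_one (K.normalizerMonoidHom (inclusion hle a))
      obtain ⟨b, hb, hb1⟩ := hP.exists_fixed_point_of_prime_dvd_card_of_fixed_point K hdvd h1
      have h2 : x * b * x⁻¹ = b := congrArg Subtype.val (hb ⟨x, mem_zpowers x⟩)
      refine hxK (hC b b.2 (fun e => hb1 (Subtype.ext e.symm)) ?_)
      rw [mem_centralizer_singleton_iff]
      exact mul_inv_eq_iff_eq_mul.1 h2
    · have hn1 : n ≠ 1 := fun e => hpp ⟨2, 0, Nat.prime_two, by simp [e]⟩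
      obtain ⟨p, hp, hpn⟩ := Nat.exists_prime_and_dvd hn1
      obtain ⟨e, m, hm, rfl⟩ := Nat.exists_eq_pow_mul_and_not_dvd hn0 p hp.one_lt.ne'
      have he : e ≠ 0 := by rintro rfl; exact hm (by simpa using hpn)
      have hm1 : m ≠ 1 := by rintro rfl; exact hpp ⟨p, e, hp, by simp⟩
      have hm0 : m ≠ 0 := by rintro rfl; simp at hm
      have hpe : 1 < p ^ e := Nat.one_lt_pow he hp.one_lt
      have hcj : ∀ j : ℕ, g * x ^ j * g⁻¹ ∈ K := fun j => by
        rw [← conj_pow]; exact K.pow_mem hg j
      have h1 : x ^ p ^ e ∈ K := by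
        by_contra hh
        refine ih _ ?_ (x ^ p ^ e) (pow_mem hxN _) hh (hcj _) rfl
        rw [orderOf_pow_of_dvd (by omega) (h ▸ dvd_mul_right _ _), h, Nat.mul_div_cancel_left _ (by omega)]
        nlinarith [Nat.pos_of_ne_zero hm0]
      have h2 : x ^ m ∈ K := by
        by_contra hh
        refine ih _ ?_ (x ^ m) (pow_mem hxN _) hh (hcj _) rfl
        rw [orderOf_pow_of_dvd hm0 (h ▸ dvd_mul_left _ _), h, Nat.mul_div_cancel _ (by omega)]
        have : 1 < m := by omega
        nlinarith
      have hc : IsCoprime ((p ^ e : ℕ) : ℤ) (m : ℤ) :=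
        Nat.isCoprime_iff_coprime.2 (((Nat.Prime.coprime_iff_not_dvd hp).2 hm).pow_left e)
      obtain ⟨a, b, hab⟩ := hc
      apply hxK
      have : x = (x ^ p ^ e) ^ a * (x ^ m) ^ b := by
        rw [← zpow_natCast, ← zpow_natCast, ← zpow_mul, ← zpow_mul, ← zpow_add, mul_comm _ a, mul_comm _ b,
          hab, zpow_one]
      rw [this]
      exact K.mul_mem (K.zpow_mem h1 a) (K.zpow_mem h2 b)
  refine ⟨part1, fun ϑ hϑ h0 h1 x => ?_⟩
  rw [indFun_eq_ind]
  have hcl : ClassOn (normalizer (K : Set G)) (extendByZero _ ϑ) := by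
    rw [classOn_iff, res_extendByZero]; exact hϑ
  have hz : ∀ y ∈ normalizer (K : Set G), y ∉ K → extendByZero _ ϑ y = 0 := fun y hy hyK => by
    rw [Clifford.extendByZero_of_mem ϑ hy]; exact h0 _ hyK
  by_cases hx1 : x = 1
  · rw [hx1, coe_one, ind_one le_top, Clifford.extendByZero_of_mem ϑ (one_mem _)]
    rw [show (⟨1, one_mem _⟩ : normalizer (K : Set G)) = 1 from rfl, h1, mul_zero]
  by_cases hxK : (x : G) ∈ K
  · rw [ind_apply_ti le_top (A := K) (fun g _ hg a ha h => hTI g hg a ha h) hcl
      (fun y hy hyK _ => hz y hy hyK) x.2 hxK (fun e => hx1 (Subtype.ext e)), Clifford.extendByZero_of_mem ϑ x.2]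
  · rw [h0 x hxK]
    exact ind_eq_zero fun g _ hg => hz _ hg (part1 x x.2 hxK g)

end Cfsg.Agent.S0850
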