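import Cfsg.Statements.S0851
import Cfsg.Agent.Lib.Clifford.Frobenius
import Cfsg.Agent.Lib.Clifford.Exceptional
import Cfsg.Agent.Lib.Char.Induce

set_option autoImplicit false
open Cfsg

namespace Cfsg.Agent.S0851

open Cfsg.Lib Cfsg.Lib.Clifford Subgroup

/-- Let K be a subgroup of the finite group G that meets each conjugate by an element outside its normalizer N trivially, is properly contained in N, and contains the centralizer of each of its non-identity elements (a T.I. subgroup with Frobenius normalizer). Suppose K is abelian, let e be the index of K in N, and call an irreducible character of N relevant when it takes at some element of K a value different from its degree. Then either there is exactly one relevant character and K is an elementary abelian p-group of order e + 1 for some prime p, or there are a sign ε and an injective map f from the relevant characters to the irreducible characters of G such that inducing χ - ξ to G gives ε (f χ - f ξ) for all relevant χ and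 ξ. -/
theorem result {G : Type*} [Group G] [Fintype G] (K : Subgroup G) (hTI : ∀ g : G, g ∉ Subgroup.normalizer (K : Set G) → ∀ k ∈ K, g * k * g⁻¹ ∈ K → k = 1) (hlt : K < Subgroup.normalizer (K : Set G)) (hC : ∀ k ∈ K, k ≠ 1 → Subgroup.centralizer ({k} : Set G) ≤ K) (hab : ∀ a ∈ K, ∀ b ∈ K, a * b = b * a) : (Nat.card {χ : Cfsg.IrrCharacter (Subgroup.normalizer (K : Set G)) // ∃ k : Subgroup.normalizer (K : Set G), (k : G) ∈ K ∧ (χ : ↥(Subgroup.normalizer (K : Set G)) → ℂ) k ≠ (χ : ↥(Subgroup.normalizer (K : Set G)) → ℂ) 1} = 1 ∧ ∃ p : ℕ, p.Prime ∧ Cfsg.IsElementaryAbelian p K ∧ Nat.card K = (K.subgroupOf (Subgroup.normalizer (K : Set G))).index + 1) ∨ ∃ (ε : ℂ) (f : {χ : Cfsg.IrrCharacter (Subgroup.normalizer (K : Set G)) // ∃ k : Subgroup.normalizer (K : Set G), (k : G) ∈ K ∧ (χ : ↥(Subgroup.normalizer (K : Set G)) → ℂ) k ≠ (χ : ↥(Subgroup.normalizer (K : Set G)) → ℂ) 1} → Cfsg.IrrCharacter G), (ε = 1 ∨ ε = -1) ∧ Function.Injective f ∧ ∀ χ ξ, Cfsg.indFun (Subgroup.normalizer (K :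 Set G)) ((χ.1 : ↥(Subgroup.normalizer (K : Set G)) → ℂ) - (ξ.1 : ↥(Subgroup.normalizer (K : Set G)) → ℂ)) = ε • ((f χ : G → ℂ) - (f ξ : G → ℂ)) := by
  right
  set N := normalizer (K : Set G) with hN
  by_cases hne : Nonempty {χ : IrrCharacter N // ∃ k : N, (k : G) ∈ K ∧ (χ : N → ℂ) k ≠ (χ : N → ℂ) 1}
  swap
  · rw [not_nonempty_iff] at hne
    exact ⟨1, fun x => hne.elim x, Or.inl rfl, fun x => hne.elim x, fun x => hne.elim x⟩
  have hKN : K ≤ N := hlt.le
  have hnrm : Nrm N K := nrm_of_le_normalizer le_rfl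
  have hF : FrobKer N K := fun n hn hn1 g _ hc => hC n hn hn1 (by
    rw [mem_centralizer_singleton_iff]; exact hc)
  have key : ∀ χ : {χ : IrrCharacter N // ∃ k : N, (k : G) ∈ K ∧ (χ : N → ℂ) k ≠ (χ : N → ℂ) 1},
      extendByZero N χ.1.1 1 = K.relIndex N ∧ ∀ x ∈ N, x ∉ K → extendByZero N χ.1.1 x = 0 := by
    rintro ⟨χ, k, hk, hk'⟩
    have hχ : IrrOn N (extendByZero N χ.1) := irrOn_extendByZero.2 χ.2
    obtain ⟨θ, hθ, -, e⟩ := hF.exists_ind hKN hnrm hχ (fun h => hk' (by
      have := h k hk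
      rwa [Clifford.extendByZero_of_mem _ k.2, Clifford.extendByZero_of_mem _ N.one_mem] at this))
    refine ⟨?_, fun x hx hxK => ?_⟩
    · rw [← cut_of_mem (H := N) (extendByZero N χ.1) N.one_mem, ← e, ind_one hKN, (irrOn_of_mem hθ).degree_one_of_comm hab,
        mul_one]
    · rw [← cut_of_mem (H := N) (extendByZero N χ.1) hx, ← e, ind_of_notMem_nrm le_rfl hnrm _ hxK]
  obtain ⟨ε, hε, μ, hμ, hinj, e⟩ := exists_exceptional_ti (K := ⊤) (L := N) le_top (A := K)
    (fun g _ hg a ha h => hTI g hg a ha h)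
    (ι := {χ : IrrCharacter N // ∃ k : N, (k : G) ∈ K ∧ (χ : N → ℂ) k ≠ (χ : N → ℂ) 1})
    (fun χ => extendByZero N χ.1.1) (fun χ => irrOn_extendByZero.2 χ.1.2)
    (fun i j h => Subtype.ext (Subtype.ext (funext fun x => by
      have := h x x.2
      rwa [Clifford.extendByZero_of_mem _ x.2, Clifford.extendByZero_of_mem _ x.2] at this)))
    (fun i j x hx hxK => by rw [(key i).2 x hx hxK, (key j).2 x hx hxK])
    (fun i j => by rw [(key i).1, (key j).1])
  refine ⟨ε, fun i => ⟨μ i, mem_Irr_top.1 (hμ i)⟩, hε, fun i j h => hinj (congrArg Subtype.val h),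
    fun i j => ?_⟩
  rw [Cfsg.Lib.Char.indFun_sub, indFun_eq_ind, indFun_eq_ind]
  exact e i j

end Cfsg.Agent.S0851
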