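import Cfsg.Statements.S0852
import Cfsg.Agent.Lib.BN.Tifn

set_option autoImplicit false
open Cfsg

namespace Cfsg.Agent.S0852

open Cfsg.Lib.Char Cfsg.Lib.Clifford Cfsg.Lib.PF Cfsg.Lib.BN

/-- Let K be a subgroup of the finite group G that meets each conjugate by an element outside its normalizer N trivially, is properly contained in N, and contains the centralizer of each of its non-identity elements (a T.I. subgroup with Frobenius normalizer). Let S be the set of irreducible characters of N taking at some element of K a value different from their degree, suppose S has at least two members, and let star be a linear isometry on the integer span of S into the generalized characters of G that agrees with induction on the members vanishing at the identity (so S is coherent, with star as the extending isometry). Then an irreducible character ψ of G is of the form star χ or -star χ for some χ in S if and only if ψ is not constant on the non-identity elements of K.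 -/
theorem result {G : Type*} [Group G] [Fintype G] (K : Subgroup G) (hTI : ∀ g : G, g ∉ Subgroup.normalizer (K : Set G) → ∀ k ∈ K, g * k * g⁻¹ ∈ K → k = 1) (hlt : K < Subgroup.normalizer (K : Set G)) (hC : ∀ k ∈ K, k ≠ 1 → Subgroup.centralizer ({k} : Set G) ≤ K) [Fintype ↥(Subgroup.normalizer (K : Set G))] (S : Set (↥(Subgroup.normalizer (K : Set G)) → ℂ)) (hS : S = {χ : ↥(Subgroup.normalizer (K : Set G)) → ℂ | Cfsg.IsIrrCharacter ↥(Subgroup.normalizer (K : Set G)) χ ∧ ∃ k : ↥(Subgroup.normalizer (K : Set G)), (k : G) ∈ K ∧ χ k ≠ χ 1}) (htwo : ∃ χ ∈ S, ∃ ξ ∈ S, χ ≠ ξ) (star : (↥(Subgroup.normalizer (K : Set G)) → ℂ) → (G → ℂ)) (hstar : Cfsg.IsLinearIsometryOn (Cfsg.zspan S) star) (hext : ∀ α ∈ Cfsg.zspanOn S ({1}ᶜ : Set ↥(Subgroup.normalizer (K : Set G))), star α = Cfsg.indFun (Subgroup.normalizer (K : Set G)) α) (ψ : G → ℂ) (hψ : Cfsg.IsIrrCharacter G ψ) : (∃ χ ∈ S, ψ = star χ ∨ ψ = -star χ) ↔ ∃ a ∈ K, ∃ b ∈ K, a ≠ 1 ∧ b ≠ 1 ∧ ψ a ≠ ψ b := by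
  obtain ⟨χ, hχ, ξ, hξ, hne⟩ := htwo
  have h1 : K ≠ ⊥ := fun e => by
    obtain ⟨-, k, hk, hk1⟩ := hS ▸ hχ
    exact hk1 (by rw [show k = 1 from Subtype.ext (Subgroup.mem_bot.1 (e ▸ hk))])
  have h := tifn_of h1 hTI hlt hC
  have hF := h.frobK
  have hS' : ∀ φ, φ ∈ S ↔ _ := fun φ => (Set.ext_iff.1 hS φ).trans (hF.exL_mem_iff le_rfl h.nrm φ)
  obtain ⟨ν, hν, e⟩ := exists_coherentWith hF.subset_Irr hS' hstar hext
  rw [← h.exc_iff hν (Finset.one_lt_card.2 ⟨_, (hS' _).1 hχ, _, (hS' _).1 hξ, fun e' => hne (by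
    rw [← res_exL χ, e', res_exL])⟩) (mem_Irr_top.2 hψ)]
  refine ⟨fun ⟨φ, hφ, e'⟩ => ⟨_, (hS' _).1 hφ, by rwa [e φ hφ]⟩, fun ⟨φ, hφ, e'⟩ => ?_⟩
  have e1 := exL_res (irr_cf (hF.subset_Irr hφ))
  have h2 := (hS' _).2 (e1 ▸ hφ)
  exact ⟨_, h2, by rwa [← e _ h2, e1]⟩

end Cfsg.Agent.S0852
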