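import Cfsg.Statements.S0854
import Cfsg.Agent.Lib.Clifford.Clifford

set_option autoImplicit false
open Cfsg

namespace Cfsg.Agent.S0854

open Cfsg.Lib.Clifford

/-- Let H be a normal subgroup of the finite group G, ϑ an irreducible character of H, and T the inertia group of ϑ (the elements g with ϑ(g n g⁻¹) = ϑ(n) for all n in H). If χ is an irreducible character of G whose restriction to H has nonzero inner product with ϑ, then χ is induced from some irreducible character ψ of T, and the restrictions of ψ and of χ to H have the same inner product with ϑ. -/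
theorem result {G : Type*} [Group G] [Fintype G] (H : Subgroup G) [hN : H.Normal] [Fintype H] (ϑ : H → ℂ) (hϑ : Cfsg.IsIrrCharacter H ϑ) (T : Subgroup G) [Fintype T] (hT : ∀ g : G, g ∈ T ↔ ∀ n : H, ϑ ⟨g * n * g⁻¹, hN.conj_mem (n : G) n.2 g⟩ = ϑ n) (hHT : H ≤ T) (χ : G → ℂ) (hχ : Cfsg.IsIrrCharacter G χ) (hcon : Cfsg.classInner (fun n : H => χ n) ϑ ≠ 0) : ∃ ψ : T → ℂ, Cfsg.IsIrrCharacter T ψ ∧ Cfsg.indFun T ψ = χ ∧ Cfsg.classInner (fun n : H => ψ ⟨(n : G), hHT n.2⟩) ϑ = Cfsg.classInner (fun n : H => χ n) ϑ := by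
  obtain ⟨ϑ, rfl, -⟩ := exists_res _ ϑ
  have hN' : Nrm ⊤ H := nrm_of_normal ⊤ H
  obtain rfl : T = inertia ⊤ H ϑ := by
    ext g
    rw [hT, mem_inertia hN']
    exact ⟨fun h => ⟨trivial, fun n hn => h ⟨n, hn⟩⟩, fun h n => h.2 n n.2⟩
  rw [← dot_eq_classInner] at hcon ⊢
  obtain ⟨ψ, hψ, -, h1, h2⟩ := exists_ind_inertia le_top hN' hϑ (irrOn_top.mpr hχ) hcon
  refine ⟨res _ ψ, irrOn_of_mem hψ, by rw [indFun_res, h1, cut_top], ?_⟩
  rw [← h2, dot_eq_classInner]

end Cfsg.Agent.S0854
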