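import Cfsg.Statements.S0855
import Cfsg.Agent.Lib.Clifford.Thompson

set_option autoImplicit false
open Cfsg

namespace Cfsg.Agent.S0855

open Cfsg.Lib Cfsg.Lib.Clifford Cfsg.Lib.Char Finset Cfsg.Lib.Transfer

/-- For a finite group G and a prime p: every irreducible character of G has degree a power of p if and only if G has an abelian normal subgroup whose order is prime to p and whose index is a power of p. -/
theorem result {G : Type*} [Group G] [Finite G] (p : ℕ) (hp : p.Prime) : (∀ χ : Cfsg.IrrCharacter G, ∃ k : ℕ, (χ : G → ℂ) 1 = (p : ℂ) ^ k) ↔ ∃ A : Subgroup G, A.Normal ∧ (∀ a ∈ A, ∀ b ∈ A, a * b = b * a) ∧ Nat.Coprime (Nat.card A) p ∧ ∃ k : ℕ, A.index = p ^ k := by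
  have := Fact.mk hp
  constructor
  · intro h
    have h' : ∀ χ ∈ Irr (⊤ : Subgroup G), ∃ k, charDegree χ = p ^ k := fun χ hχ => by
      obtain ⟨k, hk⟩ := h ⟨χ, mem_Irr_top.1 hχ⟩
      exact ⟨k, charDegree_of_eq (by rw [show χ 1 = _ from hk]; simp)⟩
    have h1 := thompson_pnil (K := (⊤ : Subgroup G)) (p := p) fun χ hχ h1 => by
      obtain ⟨k, hk⟩ := h' χ hχ
      rcases k with _ | k
      · exact absurd hk h1
      · exact hk ▸ dvd_pow_self p k.succ_ne_zero
    obtain ⟨n, hn⟩ := relIndex_resOf (p := p) (⊤ : Subgroup G)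
    refine ⟨resOf p ⊤, resOf_normal ⊤, fun a ha b hb => ?_, h1.coprime, n,
      by rwa [Subgroup.relIndex_top_right] at hn⟩
    by_contra hc
    obtain ⟨β, hβ, hne⟩ := exists_IrrKer_ne (K := resOf p (⊤ : Subgroup G)) (N := ⊥) bot_le
      (nrm_of_normal _ _) (x := a * b * a⁻¹ * b⁻¹) fun e => hc (by
        rw [Subgroup.mem_bot, mul_inv_eq_one, mul_inv_eq_iff_eq_mul] at e; exact e)
    have hβ := irrOn_of_mem (IrrKer_subset hβ)
    obtain ⟨χ, hχ, h0⟩ := hβ.exists_over (K := ⊤) le_top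
    obtain ⟨k, hk⟩ := h' χ hχ
    have h2 := deg_dvd_of_dot le_top (nrm_resOf ⊤) (irrOn_of_mem hχ) hβ h0
    have hl := hβ.charOn.linOn_of_deg (Nat.Coprime.eq_one_of_dvd
      ((h1.coprime.pow_right k).of_dvd_left hβ.deg_dvd_card) (hk ▸ h2))
    exact hne (by rw [hl.map_commutator ha hb, hl.2])
  · rintro ⟨A, hn, hc, -, k, hk⟩ χ
    have := (irrOn_top.2 χ.2).deg_dvd_relIndex_of_comm le_top (nrm_of_normal _ A) hc
    rw [Subgroup.relIndex_top_right, hk] at this
    obtain ⟨j, -, hj⟩ := (Nat.dvd_prime_pow hp).1 this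
    exact ⟨j, by rw [(irrOn_top.2 χ.2).one_eq, hj]; simp⟩

end Cfsg.Agent.S0855
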