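import Cfsg.Statements.S0856
import Cfsg.Agent.Lib.Clifford.Gallagher

set_option autoImplicit false
open Cfsg

namespace Cfsg.Agent.S0856

open Cfsg.Lib.Clifford

/-- Let N be a normal subgroup of the finite group G and φ, ϑ irreducible characters of N that are invariant under conjugation by G, such that the pointwise product φ * ϑ is irreducible and ϑ is the restriction of an irreducible character χ of G. Then multiplication by χ is a bijection from the set of irreducible characters of G having nonzero inner product with the function induced from φ onto the set of those having nonzero inner product with the function induced from φ * ϑ. -/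
theorem result {G : Type*} [Group G] [Fintype G] (N : Subgroup G) [hN : N.Normal] (φ ϑ : N → ℂ) (hφ : Cfsg.IsIrrCharacter N φ) (hϑ : Cfsg.IsIrrCharacter N ϑ) (hφinv : ∀ (g : G) (n : N), φ ⟨g * n * g⁻¹, hN.conj_mem (n : G) n.2 g⟩ = φ n) (hϑinv : ∀ (g : G) (n : N), ϑ ⟨g * n * g⁻¹, hN.conj_mem (n : G) n.2 g⟩ = ϑ n) (hprod : Cfsg.IsIrrCharacter N (φ * ϑ)) (χ : G → ℂ) (hχ : Cfsg.IsIrrCharacter G χ) (hext : ∀ n : N, χ n = ϑ n) : Set.BijOn (fun β : G → ℂ => β * χ) {β : G → ℂ | Cfsg.IsIrrCharacter G β ∧ Cfsg.classInner (Cfsg.indFun N φ) β ≠ 0} {ψ : G → ℂ | Cfsg.IsIrrCharacter G ψ ∧ Cfsg.classInner (Cfsg.indFun N (φ * ϑ)) ψ ≠ 0} := by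
  obtain ⟨φ, rfl, -⟩ := exists_res _ φ
  obtain rfl : ϑ = res N χ := funext fun n => (hext n).symm
  have hN' : Nrm ⊤ N := nrm_of_normal ⊤ N
  have hinv : InvOn ⊤ N φ := fun g _ n hn => hφinv g ⟨n, hn⟩
  have hp : IrrOn N (φ * χ) := hprod
  have hc : CharOn ⊤ χ := (irrOn_top.2 hχ).charOn
  have e : ∀ θ : G → ℂ, {β : G → ℂ | Cfsg.IsIrrCharacter G β ∧
      Cfsg.classInner (Cfsg.indFun N (res N θ)) β ≠ 0} = (IrrOver ⊤ N θ : Set (G → ℂ)) := by
    intro θ
    ext β
    rw [Set.mem_ofPred_eq, Finset.mem_coe, mem_IrrOver, mem_Irr_top, indFun_res, ← dot_top]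
    refine and_congr_right fun h => ?_
    rw [dot_ind_left le_top _ (irrOn_top.2 h).classOn, Ne, dot_eq_zero_comm]
  rw [e φ, show res N φ * res N χ = res N (φ * χ) from rfl, e (φ * χ),
    gallagher_image le_top hN' hc hφ hinv hp, @Finset.coe_image _ _ (_)]
  exact (gallagher_injOn le_top hN' hc hφ hinv hp).bijOn_image

end Cfsg.Agent.S0856
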