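import Cfsg.Statements.S0857
import Cfsg.Agent.Lib.Clifford.Mono

set_option autoImplicit false
open Cfsg

namespace Cfsg.Agent.S0857

open Cfsg.Lib Cfsg.Lib.Clifford Subgroup

/-- Let L < K be normal subgroups of the finite group G with no normal subgroup of G strictly between them and with K / L abelian (the commutator subgroup of K lies in L). Let ϑ be an irreducible character of K invariant under conjugation by G. Then the restriction of ϑ to L is irreducible; or it equals e times an irreducible character of L with e ^ 2 equal to the index of L in K; or it is the sum of a family of pairwise distinct irreducible characters of L indexed by a set whose size is the index of L in K. -/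
theorem result {G : Type*} [Group G] [Fintype G] (K L : Subgroup G) [hK : K.Normal] [L.Normal] (hLK : L < K) (hchief : ∀ M : Subgroup G, M.Normal → L ≤ M → M ≤ K → M = L ∨ M = K) (hab : ⁅K, K⁆ ≤ L) (ϑ : K → ℂ) (hϑ : Cfsg.IsIrrCharacter K ϑ) (hinv : ∀ (g : G) (n : K), ϑ ⟨g * n * g⁻¹, hK.conj_mem (n : G) n.2 g⟩ = ϑ n) : Cfsg.IsIrrCharacter L (fun x : L => ϑ ⟨(x : G), hLK.le x.2⟩) ∨ (∃ (φ : L → ℂ) (e : ℕ), Cfsg.IsIrrCharacter L φ ∧ (fun x : L => ϑ ⟨(x : G), hLK.le x.2⟩) = (e : ℂ) • φ ∧ e ^ 2 = L.relIndex K) ∨ (∃ F : Finset (L → ℂ), (∀ φ ∈ F, Cfsg.IsIrrCharacter L φ) ∧ F.card = L.relIndex K ∧ (fun x : L => ϑ ⟨(x : G), hLK.le x.2⟩) = ∑ φ ∈ F, φ) := by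
  classical
  obtain ⟨θ, rfl, -⟩ := exists_res K ϑ
  have hθ : IrrOn K θ := hϑ
  have hc : Chief ⊤ K L := ⟨hLK, le_top, nrm_of_normal _ _, nrm_of_normal _ _,
    fun M a b c => hchief M c.normal a b⟩
  rcases going_down hc hab hθ (fun g _ n hn => hinv g ⟨n, hn⟩) with h | ⟨φ, hφ, e, h1, h2⟩ | ⟨φ, hφ, h1, h2⟩
  · exact Or.inl h
  · exact Or.inr (Or.inl ⟨res L φ, e, irrOn_of_mem hφ, funext fun x => h1 x x.2, h2⟩)
  · have hL : Nrm K L := nrm_of_normal _ _
    have h3 := ind_nrm hLK.le hL (irrOn_of_mem hφ).classOn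
    rw [h2, relIndex_self, Nat.cast_one, one_smul, h1] at h3
    have hs := orb_subset hL (irrOn_of_mem hφ)
    have hinj : Set.InjOn (res L) (orb K L φ : Set (G → ℂ)) := fun a ha b hb e =>
      eq_of_mem_Irr (hs ha) (hs hb) fun x hx => congrFun e ⟨x, hx⟩
    refine Or.inr (Or.inr ⟨(orb K L φ).image (res L), fun ψ hψ => ?_, ?_, ?_⟩)
    · obtain ⟨a, ha, rfl⟩ := Finset.mem_image.1 hψ
      exact irrOn_of_mem (hs ha)
    · rw [Finset.card_image_of_injOn hinj, card_orb, h2]
    · rw [Finset.sum_image hinj]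
      ext x
      have := congrFun h3 x
      rw [cut_of_mem _ (hLK.le x.2)] at this
      simpa [Finset.sum_apply] using this

end Cfsg.Agent.S0857
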