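import Cfsg.Statements.S0859
import Cfsg.Agent.Lib.Clifford.Mono

set_option autoImplicit false
open Cfsg

namespace Cfsg.Agent.S0859

open Cfsg.Lib Cfsg.Lib.Clifford Subgroup

/-- Let G be a finite solvable group and N a normal subgroup such that for every prime p every Sylow p-subgroup of N is abelian. Suppose every irreducible character of G is induced from an irreducible character of some subgroup containing N whose restriction to N is irreducible. Then every irreducible character of G is induced from a character of degree 1 of some subgroup. -/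
theorem result {G : Type*} [Group G] [Fintype G] [Group.IsSolvable G] (N : Subgroup G) [N.Normal] (hab : ∀ (p : ℕ) [Fact p.Prime] (P : Sylow p N), ∀ a ∈ P, ∀ b ∈ P, a * b = b * a) (hrel : ∀ χ : G → ℂ, Cfsg.IsIrrCharacter G χ → ∃ (H : Subgroup G) (hNH : N ≤ H) (ψ : H → ℂ), Cfsg.IsIrrCharacter H ψ ∧ Cfsg.indFun H ψ = χ ∧ Cfsg.IsIrrCharacter N (fun n : N => ψ ⟨(n : G), hNH n.2⟩)) (χ : G → ℂ) (hχ : Cfsg.IsIrrCharacter G χ) : ∃ (U : Subgroup G) (lam : U → ℂ), Cfsg.IsCharacter U lam ∧ lam 1 = 1 ∧ Cfsg.indFun U lam = χ := by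
  obtain ⟨H, hNH, ψ, hψ, rfl, hψN⟩ := hrel χ hχ
  obtain ⟨θ, rfl, -⟩ := exists_res H ψ
  have hθ : IrrOn H θ := hψ
  obtain ⟨U, hU, lam, hl, e⟩ := hθ.exists_lin_of_abelian_sylow hNH (nrm_of_normal _ _) hψN
    (solvMod_of_isSolvable _ _) (by
      intro p hp P hPN hP a ha b hb
      have := Fact.mk hp
      obtain ⟨S, hS⟩ := Core.exists_sylow_map_subtype_ge hPN hP
      obtain ⟨a, ha', rfl⟩ := hS ha
      obtain ⟨b, hb', rfl⟩ := hS hb
      exact congrArg Subtype.val (hab p S a ha' b hb'))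
  refine ⟨U, res U lam, hl.1, hl.2, ?_⟩
  rw [indFun_res, indFun_res, ← ind_ind hU le_top, e, ind_cut]

end Cfsg.Agent.S0859
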