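import Cfsg.Statements.S0861
import Cfsg.Agent.Lib.Clifford.AmGm
import Cfsg.Agent.Lib.Block.BrauerInd
import Cfsg.Agent.Lib.Clifford.Cover

set_option autoImplicit false
open Cfsg

namespace Cfsg.Agent.S0861

open Cfsg.Lib.Char Cfsg.Lib.Clifford Cfsg.Lib.Block Subgroup

/-- Let P be a normal abelian Sylow p-subgroup of the finite group G and suppose some element g of P has centralizer exactly P. Then the number of irreducible characters of G is at most the order of P, and if equality holds then G / P is abelian (the commutator subgroup lies in P). -/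
theorem result {G : Type*} [Group G] [Finite G] (p : ℕ) [Fact p.Prime] (P : Sylow p G) [(P : Subgroup G).Normal] (hab : ∀ a ∈ P, ∀ b ∈ P, a * b = b * a) (g : G) (hg : g ∈ P) (hC : Subgroup.centralizer ({g} : Set G) = P) : Nat.card (Cfsg.IrrCharacter G) ≤ Nat.card P ∧ (Nat.card (Cfsg.IrrCharacter G) = Nat.card P → commutator G ≤ P) := by
  have hp : p.Prime := Fact.out
  have h0 : ∀ χ, IsIrrCharacter G χ → χ g ≠ 0 := by
    intro χ hχ h
    have hχ' : IrrOn ⊤ χ := irrOn_top.2 hχ
    obtain ⟨k, hk⟩ := (IsPGroup.iff_orderOf.1 P.isPGroup') ⟨g, hg⟩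
    have hd := hχ'.deg_dvd_relIndex_of_comm (N := P) le_top (nrm_of_normal _ _) hab
    rw [relIndex_top_right] at hd
    obtain ⟨M, hM⟩ := Cfsg.Lib.Block2.exists_isPModular hp
    have := hM.2.1
    have h1 := mul_sub_mem_of_mem_aSpan hM hχ.isCharacter.mem_aSpan (x := g) (y := 1)
      (Commute.one_right g) ⟨k, by rw [← hk]; exact (Subgroup.orderOf_mk _ hg).symm⟩
    rw [mul_one, h, zero_sub, hχ'.one_eq] at h1
    have h2 := h1.neg
    rw [neg_neg, memLocalIdeal_natCast_iff hM] at h2
    exact P.not_dvd_index (h2.trans hd)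
  obtain ⟨h1, h2⟩ := card_irr_le_of_nonvanishing h0
  rw [hC] at h1 h2
  refine ⟨h1, fun e x hx => mem_of_forall_irr_le_charKer (P : Subgroup G) fun χ hχ hk => ?_⟩
  have h3 := h2 e χ hχ
  rw [apply_eq_of_mem_charKer (hk hg), (irrOn_top.2 hχ).one_eq, Complex.norm_natCast] at h3
  have h4 : χ 1 = 1 := by rw [(irrOn_top.2 hχ).one_eq]; exact_mod_cast h3
  exact apply_eq_of_mem_charKer (hχ.degree_eq_one_iff.1 h4 hx)

end Cfsg.Agent.S0861
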