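import Cfsg.Statements.S0862
import Cfsg.Agent.Lib.Clifford.Cover

set_option autoImplicit false
open Cfsg

namespace Cfsg.Agent.S0862

open Cfsg.Lib.Clifford Cfsg.Lib.Char

/-- Let N be a normal subgroup of the finite group G and ϑ an irreducible character of N of degree d coprime to the index of N, which is the restriction of some irreducible character of G. Let μ be a character of G of degree 1 whose restriction to N is the determinantal character of ϑ. Then there is exactly one irreducible character χ of G restricting to ϑ whose determinantal character is μ. -/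
theorem result {G : Type*} [Group G] [Finite G] (N : Subgroup G) [N.Normal] (ϑ : N → ℂ) (hϑ : Cfsg.IsIrrCharacter N ϑ) (d : ℕ) (hd : ϑ 1 = d) (hcop : Nat.Coprime N.index d) (hext : ∃ η : G → ℂ, Cfsg.IsIrrCharacter G η ∧ (∀ n : N, η n = ϑ n)) (μ : G → ℂ) (hμ : Cfsg.IsCharacter G μ ∧ μ 1 = 1) (hμN : ∀ n : N, μ n = Cfsg.detChar ϑ n) : ∃! χ : G → ℂ, Cfsg.IsIrrCharacter G χ ∧ (∀ n : N, χ n = ϑ n) ∧ Cfsg.detChar χ = μ := by
  obtain ⟨η, h1, h2⟩ := hext
  obtain rfl : ϑ = res N η := funext fun n => (h2 n).symm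
  have hN' : Nrm ⊤ N := nrm_of_normal ⊤ N
  have hη := (irrOn_top.2 h1).charOn
  have hc : (N.relIndex ⊤).Coprime (charDegree η) := by
    rwa [Subgroup.relIndex_top_right, charDegree_of_eq (φ := η) hd]
  obtain ⟨lam, a, b, c⟩ := exists_ext_det_eq le_top hN' hη hc (linOn_top.2 hμ)
    fun n hn => (hμN ⟨n, hn⟩).trans (detOn_apply η ⟨n, hn⟩).symm
  have h3 := (irrOn_top.2 h1).lin_mul a
  have h4 : ∀ n ∈ N, (lam * η) n = η n := fun n hn => by rw [Pi.mul_apply, b n hn, one_mul]
  refine ⟨lam * η, ⟨irrOn_top.1 h3, fun n => h4 n n.2, ?_⟩, ?_⟩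
  · rw [← detOn_top (charOn_top.1 h3.charOn)]; exact funext fun x => c x trivial
  · rintro ψ ⟨d1, d2, d3⟩
    have hψ := (irrOn_top.2 d1).charOn
    refine funext fun x => ext_unique_of_det le_top hN' h3.charOn
      (IrrOn.congr hϑ fun x hx => (h4 x hx).symm) ?_ hψ
      (fun n hn => (d2 ⟨n, hn⟩).trans (h4 n hn).symm) (fun y hy => ?_) x trivial
    · rwa [charDegree_of_eq ((h4 1 N.one_mem).trans hη.one_eq)]
    · rw [c y hy, detOn_top (charOn_top.1 hψ), d3]

end Cfsg.Agent.S0862
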