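import Cfsg.Statements.S0863
import Cfsg.Agent.Lib.Clifford.Cover

set_option autoImplicit false
open Cfsg

namespace Cfsg.Agent.S0863

open Cfsg.Lib.Clifford Cfsg.Lib.Char

/-- Let N be a normal subgroup of the finite group G with G / N solvable, and ϑ an irreducible character of N, invariant under conjugation by G, of degree d coprime to the index of N. Then ϑ is the restriction of an irreducible character of G if and only if the determinantal character of ϑ is the restriction of a character of G of degree 1. -/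
theorem result {G : Type*} [Group G] [Finite G] (N : Subgroup G) [hN : N.Normal] (hsolv : Group.IsSolvable (G ⧸ N)) (ϑ : N → ℂ) (hϑ : Cfsg.IsIrrCharacter N ϑ) (hinv : ∀ (g : G) (n : N), ϑ ⟨g * n * g⁻¹, hN.conj_mem (n : G) n.2 g⟩ = ϑ n) (d : ℕ) (hd : ϑ 1 = d) (hcop : Nat.Coprime N.index d) : (∃ χ : G → ℂ, Cfsg.IsIrrCharacter G χ ∧ (∀ n : N, χ n = ϑ n)) ↔ ∃ μ : G → ℂ, Cfsg.IsCharacter G μ ∧ μ 1 = 1 ∧ ∀ n : N, μ n = Cfsg.detChar ϑ n := by
  obtain ⟨θ, rfl, -⟩ := exists_res _ ϑ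
  have hN' : Nrm ⊤ N := nrm_of_normal ⊤ N
  constructor
  · rintro ⟨χ, h1, h2⟩
    have h3 := linOn_top.1 (linOn_detOn ⊤ χ)
    refine ⟨_, h3.1, h3.2, fun n => ?_⟩
    rw [← (irrOn_top.2 h1).charOn.detOn_mono le_top n.2, detOn_congr fun x hx => h2 ⟨x, hx⟩]
    exact detOn_apply θ n
  · rintro ⟨μ, h1, h2, h3⟩
    obtain ⟨χ, a, b⟩ := exists_ext_of_det le_top hN' hϑ (fun g _ n hn => hinv g ⟨n, hn⟩)
      (by rwa [Subgroup.relIndex_top_right, charDegree_of_eq (φ := θ) hd]) (linOn_top.2 ⟨h1, h2⟩)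
      fun n hn => (h3 ⟨n, hn⟩).trans (detOn_apply θ ⟨n, hn⟩).symm
    exact ⟨χ, mem_Irr_top.1 a, fun n => b n n.2⟩

end Cfsg.Agent.S0863
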