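import Cfsg.Statements.S0864
import Cfsg.Agent.Lib.Clifford.Cover

set_option autoImplicit false
open Cfsg

namespace Cfsg.Agent.S0864

open Cfsg.Lib.Clifford Cfsg.Lib.Char

/-- Let N be a normal subgroup of the finite group G and λ a character of N of degree 1 invariant under conjugation by G. Suppose that for every prime p dividing the order of λ (in the group of functions under pointwise multiplication) there is a subgroup H containing N, of index prime to p and with the index of N in H a power of p, together with a character of H of degree 1 restricting to λ. Then λ is the restriction of a character of G of degree 1. -/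
theorem result {G : Type*} [Group G] [Finite G] (N : Subgroup G) [hN : N.Normal] (lam : N → ℂ) (hlam : Cfsg.IsCharacter N lam ∧ lam 1 = 1) (hinv : ∀ (g : G) (n : N), lam ⟨g * n * g⁻¹, hN.conj_mem (n : G) n.2 g⟩ = lam n) (hsyl : ∀ p : ℕ, p.Prime → p ∣ orderOf lam → ∃ (H : Subgroup G) (hNH : N ≤ H) (ν : H → ℂ), Nat.Coprime H.index p ∧ (∃ k : ℕ, N.relIndex H = p ^ k) ∧ Cfsg.IsCharacter H ν ∧ ν 1 = 1 ∧ ∀ n : N, ν ⟨(n : G), hNH n.2⟩ = lam n) : ∃ μ : G → ℂ, Cfsg.IsCharacter G μ ∧ μ 1 = 1 ∧ ∀ n : N, μ n = lam n := by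
  obtain ⟨θ, rfl, -⟩ := exists_res _ lam
  obtain ⟨μ, h1, h2⟩ := LinOn.exists_ext_of_sylow (N := N) (lam := θ) hlam le_top
    (nrm_of_normal ⊤ N) (fun g _ n hn => hinv g ⟨n, hn⟩) fun p hp h _ => by
      obtain ⟨H, a, ν, b, -, c, d, e⟩ := hsyl p hp h
      obtain ⟨ν, rfl, -⟩ := exists_res _ ν
      refine ⟨H, a, le_top, ?_, ν, ⟨c, d⟩, fun x hx => e ⟨x, hx⟩⟩
      rw [Subgroup.relIndex_top_right]
      exact (Nat.Prime.coprime_iff_not_dvd hp).1 b.symm
  exact ⟨μ, (linOn_top.1 h1).1, h1.2, fun n => h2 n n.2⟩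

end Cfsg.Agent.S0864
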