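import Cfsg.Statements.S0865
import Cfsg.Agent.Lib.Clifford.Cover

set_option autoImplicit false
open Cfsg

namespace Cfsg.Agent.S0865

open Cfsg.Lib.Clifford Cfsg.Lib.Char

/-- Let N be a normal subgroup of the finite group G and λ a character of N of degree 1, invariant under conjugation by G, whose order (under pointwise multiplication) is coprime to the index of N. Then there is a character μ of G of degree 1 restricting to λ with the same order as λ, and μ is the only degree-1 character of G restricting to λ whose order is coprime to the index of N. -/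
theorem result {G : Type*} [Group G] [Finite G] (N : Subgroup G) [hN : N.Normal] (lam : N → ℂ) (hlam : Cfsg.IsCharacter N lam ∧ lam 1 = 1) (hinv : ∀ (g : G) (n : N), lam ⟨g * n * g⁻¹, hN.conj_mem (n : G) n.2 g⟩ = lam n) (hcop : Nat.Coprime N.index (orderOf lam)) : ∃ μ : G → ℂ, (Cfsg.IsCharacter G μ ∧ μ 1 = 1 ∧ (∀ n : N, μ n = lam n) ∧ orderOf μ = orderOf lam) ∧ ∀ μ' : G → ℂ, Cfsg.IsCharacter G μ' ∧ μ' 1 = 1 → (∀ n : N, μ' n = lam n) → Nat.Coprime N.index (orderOf μ') → μ' = μ := by
  obtain ⟨θ, rfl, -⟩ := exists_res _ lam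
  rw [← Subgroup.relIndex_top_right] at hcop ⊢
  obtain ⟨μ, h1, h2, h3⟩ := LinOn.exists_ext_of_coprime (N := N) (lam := θ) hlam le_top
    (nrm_of_normal ⊤ N) (fun g _ n hn => hinv g ⟨n, hn⟩) hcop
  refine ⟨μ, ⟨(linOn_top.1 h1).1, h1.2, fun n => h2 n n.2, (ordOn_top μ).symm.trans h3⟩,
    fun μ' a b c => funext fun x => (linOn_top.2 a).ext_unique h1 le_top (nrm_of_normal ⊤ N)
      (fun n hn => (b ⟨n, hn⟩).trans (h2 n hn).symm) (by rwa [ordOn_top]) (h3 ▸ hcop) x trivial⟩

end Cfsg.Agent.S0865
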