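import Cfsg.Statements.S0867
import Cfsg.Agent.Lib.Clifford.Cover

set_option autoImplicit false
open Cfsg

namespace Cfsg.Agent.S0867

open Cfsg.Lib.Clifford Cfsg.Lib.Char

/-- Let N be a normal subgroup of the finite group G and ϑ an irreducible character of N of degree d, invariant under conjugation by G, such that the index of N is coprime to the product of d and the determinantal order of ϑ. Then there is an irreducible character χ of G restricting to ϑ whose determinantal order equals that of ϑ, and χ is the only irreducible character of G restricting to ϑ whose determinantal order is coprime to the index of N. -/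
theorem result {G : Type*} [Group G] [Finite G] (N : Subgroup G) [hN : N.Normal] (ϑ : N → ℂ) (hϑ : Cfsg.IsIrrCharacter N ϑ) (hinv : ∀ (g : G) (n : N), ϑ ⟨g * n * g⁻¹, hN.conj_mem (n : G) n.2 g⟩ = ϑ n) (d : ℕ) (hd : ϑ 1 = d) (hcop : Nat.Coprime N.index (Cfsg.detOrder ϑ * d)) : ∃ χ : G → ℂ, (Cfsg.IsIrrCharacter G χ ∧ (∀ n : N, χ n = ϑ n) ∧ Cfsg.detOrder χ = Cfsg.detOrder ϑ) ∧ ∀ χ' : G → ℂ, Cfsg.IsIrrCharacter G χ' → (∀ n : N, χ' n = ϑ n) → Nat.Coprime N.index (Cfsg.detOrder χ') → χ' = χ := by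
  obtain ⟨θ, rfl, -⟩ := exists_res _ ϑ
  have hθ : IrrOn N θ := hϑ
  rw [← Subgroup.relIndex_top_right, ← ordOn_detOn] at hcop ⊢
  rw [← charDegree_of_eq (φ := θ) hd] at hcop
  have key : ∀ χ, IsIrrCharacter G χ → detOrder χ = ordOn ⊤ (detOn ⊤ χ) := fun χ h => by
    rw [detOn_top (charOn_top.1 (irrOn_top.2 h).charOn), ordOn_top, detOrder]
  obtain ⟨χ, h1, h2, h3⟩ := exists_ext_of_coprime le_top (nrm_of_normal ⊤ N) hθ
    (fun g _ n hn => hinv g ⟨n, hn⟩) hcop
  refine ⟨χ, ⟨mem_Irr_top.1 h1, fun n => h2 n n.2, (key χ (mem_Irr_top.1 h1)).trans h3⟩,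
    fun ψ a b c => funext fun x => ext_unique_of_coprime le_top (nrm_of_normal ⊤ N)
      (irrOn_of_mem h1).charOn (hθ.congr fun x hx => (h2 x hx).symm) ?_ (irrOn_top.2 a).charOn
      (fun n hn => (b ⟨n, hn⟩).trans (h2 n hn).symm) (key ψ a ▸ c)
      (h3 ▸ hcop.coprime_mul_right_right) x trivial⟩
  rw [charDegree_of_eq ((h2 1 N.one_mem).trans hθ.one_eq)]
  exact hcop.coprime_mul_left_right

end Cfsg.Agent.S0867
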