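import Cfsg.Statements.S0868
import Cfsg.Agent.Lib.Clifford.Gallagher

set_option autoImplicit false
open scoped ComplexConjugate
open Cfsg

namespace Cfsg.Agent.S0868

open Cfsg.Lib.Clifford

/-- Let N be a normal subgroup of the finite group G, χ an irreducible character of G whose restriction ϑ to N is irreducible, and ψ an irreducible character of G. Define η on G by η g = (1 / order of N) * Σ over n in N of ψ (n * g) * conj (χ (n * g)). Then: if the restriction of ψ to N has nonzero inner product with ϑ, η is an irreducible character of G; if that inner product is zero, η vanishes identically; and if ψ = χ then η is identically 1. -/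
theorem result {G : Type*} [Group G] [Fintype G] (N : Subgroup G) [N.Normal] [Fintype N] (χ : G → ℂ) (hχ : Cfsg.IsIrrCharacter G χ) (hχN : Cfsg.IsIrrCharacter N (fun n : N => χ n)) (ψ : G → ℂ) (hψ : Cfsg.IsIrrCharacter G ψ) (η : G → ℂ) (hη : η = fun g => (Nat.card N : ℂ)⁻¹ * ∑ n : N, ψ ((n : G) * g) * conj (χ ((n : G) * g))) : (Cfsg.classInner (fun n : N => ψ n) (fun n : N => χ n) ≠ 0 → Cfsg.IsIrrCharacter G η) ∧ (Cfsg.classInner (fun n : N => ψ n) (fun n : N => χ n) = 0 → η = 0) ∧ (ψ = χ → η = fun _ => 1) := by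
  classical
  have hN' : Nrm ⊤ N := nrm_of_normal ⊤ N
  have hc : CharOn ⊤ χ := (irrOn_top.2 hχ).charOn
  have hp := irrOn_top.2 hψ
  have hχN : IrrOn N χ := hχN
  have e : ∀ g, η g = ∑ β ∈ IrrKer ⊤ N, dot ⊤ ψ (β * χ) * β g := by
    intro g
    have := InvOn.avg_coset (hp.classOn.mul hc.star.classOn) le_top hN' (Subgroup.mem_top g)
    rw [sum_elems] at this
    rw [hη]
    refine Eq.trans this (Finset.sum_congr rfl fun β _ => ?_)
    rw [dot_mul_right]
  have e2 : ∀ γ ∈ IrrKer ⊤ N, (∀ x ∈ (⊤ : Subgroup G), ψ x = γ x * χ x) → η = γ := by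
    intro γ hγ h
    funext g
    obtain ⟨hg, ht⟩ := mem_IrrKer.1 hγ
    rw [e, Finset.sum_eq_single_of_mem γ hγ]
    · rw [hp.dot_eq_one (ψ := γ * χ) h, one_mul]
    · intro β hβ hne
      obtain ⟨hb, ht'⟩ := mem_IrrKer.1 hβ
      rw [dot_congr_left (φ' := γ * χ) h,
        dot_mul_ext le_top hN' hc hχN (irrOn_of_mem hg) (irrOn_of_mem hb) ht ht',
        dot_irr_of_ne hg hb hne.symm, zero_mul]
  rw [show classInner (fun n : N => ψ n) (fun n : N => χ n) = dot N ψ χ from
    (dot_eq_classInner N ψ χ).symm]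
  refine ⟨fun h => ?_, fun h => ?_, fun h => ?_⟩
  · obtain ⟨β, hβ, h⟩ := exists_mul_ext le_top hN' hc hχN hp h
    rw [e2 β hβ h]
    exact mem_Irr_top.1 (IrrKer_subset hβ)
  · funext g
    rw [e]
    refine Finset.sum_eq_zero fun β hβ => mul_eq_zero_of_left (by_contra fun hd => ?_) _
    obtain ⟨hb, ht⟩ := mem_IrrKer.1 hβ
    have := hp.eq_of_dot_ne_zero ((irrOn_of_mem hb).mul_ext ht le_top hN' hc hχN) hd
    rw [dot_congr_left (fun x _ => this x trivial), ht.dot_mul_ext hχN] at h
    exact (irrOn_of_mem hb).one_ne_zero h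
  · have := e2 _ (cut_one_mem_IrrKer le_top) (by simp [cut_top, h])
    rw [this, cut_top]; rfl

end Cfsg.Agent.S0868
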