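import Cfsg.Statements.S0869
import Cfsg.Agent.Lib.Clifford.Solomon

set_option autoImplicit false
open Cfsg

namespace Cfsg.Agent.S0869

open Cfsg.Lib Cfsg.Lib.Clifford Cfsg.Lib.Char Finset

/-- Let S be a nonempty finite type and R an additive subgroup of the integer-valued functions on S that is closed under pointwise multiplication. If the constant function 1 is not in R, then there exist a point x of S and a prime p such that p divides f x for every f in R. -/
theorem result {S : Type*} [Finite S] [Nonempty S] (R : AddSubgroup (S → ℤ)) (hmul : ∀ f ∈ R, ∀ g ∈ R, f * g ∈ R) (h1 : (1 : S → ℤ) ∉ R) : ∃ (x : S) (p : ℕ), p.Prime ∧ ∀ f ∈ R, (p : ℤ) ∣ f x := by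
  have := Fintype.ofFinite S
  by_contra h
  push Not at h
  have key : ∀ x : S, ∃ f ∈ R, f x = ((1 : ℤ) : ℤ) := by
    intro x
    obtain ⟨a, ha⟩ := Int.subgroup_cyclic (R.map (Pi.evalAddMonoidHom (fun _ : S => ℤ) x))
    have h1 : a.natAbs = 1 := by
      by_contra h1
      obtain ⟨q, hq, hqa⟩ := Nat.exists_prime_and_dvd h1
      obtain ⟨f, hf, hfq⟩ := h x q hq
      have : f x ∈ AddSubgroup.closure {a} := ha ▸ ⟨f, hf, rfl⟩
      obtain ⟨k, hk⟩ := AddSubgroup.mem_closure_singleton.1 this
      exact hfq (hk ▸ (Int.natCast_dvd.2 hqa).mul_left k)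
    have h2 : (1 : ℤ) ∈ AddSubgroup.closure {a} := by
      refine AddSubgroup.mem_closure_singleton.2 ⟨a, ?_⟩
      rcases Int.natAbs_eq_iff.1 h1 with rfl | rfl <;> rfl
    rw [← ha] at h2
    exact h2
  choose f hf hfx using key
  have := const_prod_mem R hmul (fun _ => 1) f hf hfx
  simp only [prod_const_one, Int.cast_one] at this
  exact h1 this

end Cfsg.Agent.S0869
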