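import Cfsg.Statements.S0872
import Cfsg.Agent.Lib.Clifford.Solomon

set_option autoImplicit false
open Cfsg

namespace Cfsg.Agent.S0872

open Cfsg.Lib Cfsg.Lib.Clifford Cfsg.Lib.Char Finset

/-- For a finite group G and a prime p there are an integer m not divisible by p and a ℤ-linear combination of functions induced from the constant function 1 on subgroups H, each having a cyclic normal subgroup of order prime to p and p-power index in H, that equals the constant function m. -/
theorem result {G : Type*} [Group G] [Fintype G] (p : ℕ) (hp : p.Prime) : ∃ (m : ℤ) (a : Subgroup G → ℤ), ¬ (p : ℤ) ∣ m ∧ (∀ H, a H ≠ 0 → (∃ C : Subgroup G, C ≤ H ∧ H ≤ Subgroup.normalizer (C : Set G) ∧ IsCyclic C ∧ Nat.Coprime (Nat.card C) p ∧ ∃ k : ℕ, C.relIndex H = p ^ k)) ∧ (fun _ : G => (m : ℂ)) = ∑ H : Subgroup G, (a H : ℂ) • Cfsg.indFun H (fun _ => 1) := by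
  classical
  let R : Submodule ℤ (G → ℂ) :=
    Submodule.span ℤ (Set.range fun H : {H : Subgroup G // QElem p H} => indFun H.1 fun _ => 1)
  have hmem : ∀ H : Subgroup G, QElem p H → indFun H (fun _ => 1) ∈ R := fun H hH =>
    Submodule.subset_span ⟨⟨H, hH⟩, rfl⟩
  have hmul : ∀ f ∈ R, ∀ g ∈ R, f * g ∈ R := by
    intro f hf g hg
    induction hf using Submodule.span_induction with
    | zero => simp
    | add a b _ _ ha hb => rw [add_mul]; exact R.add_mem ha hb
    | smul c a _ ha => rw [smul_mul_assoc]; exact R.smul_mem c ha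
    | mem a ha =>
      obtain ⟨H, rfl⟩ := ha
      induction hg using Submodule.span_induction with
      | zero => simp
      | add a b _ _ ha hb => rw [mul_add]; exact R.add_mem ha hb
      | smul c a _ ha => rw [mul_smul_comm]; exact R.smul_mem c ha
      | mem b hb =>
        obtain ⟨K, rfl⟩ := hb
        obtain ⟨a, ha, e⟩ := indFun_one_mul H.1 K.1
        simp only
        rw [e]
        refine R.sum_mem fun U _ => ?_
        by_cases h0 : a U = 0
        · simp [h0]
        · rw [Nat.cast_smul_eq_nsmul]
          exact nsmul_mem (hmem U (H.2.of_le hp (ha U h0))) _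
  choose H hH n hn hpn using fun x : G => exists_qElem_indFun x hp
  have h := const_prod_mem R.toAddSubgroup hmul (fun x => (n x : ℤ))
    (fun x => indFun (H x) fun _ => 1) (fun x => hmem _ (hH x)) (fun x => by simp [hn])
  obtain ⟨c, hc⟩ := (Submodule.mem_span_range_iff_exists_fun ℤ).1 h
  refine ⟨∏ x, (n x : ℤ), fun U => if h : QElem p U then c ⟨U, h⟩ else 0, fun h => ?_,
    fun U hU => ?_, ?_⟩
  · obtain ⟨x, -, hx⟩ := (Nat.prime_iff_prime_int.1 hp).exists_mem_finset_dvd h
    exact hpn x (Int.natCast_dvd_natCast.1 hx)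
  · by_contra h
    exact hU (dif_neg h)
  · rw [← hc, ← sum_subset (filter_subset (QElem p) univ) fun U _ hU => by
      simp [show ¬ QElem p U by simpa using hU],
      sum_subtype (p := QElem p) _ (fun U => by simp)]
    refine sum_congr rfl fun U _ => ?_
    simp only [dif_pos U.2, Int.cast_smul_eq_zsmul]

end Cfsg.Agent.S0872
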