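import Cfsg.Statements.S0873
import Cfsg.Agent.Lib.Coprime.Basic
import Cfsg.Agent.Lib.Char.Basic

set_option autoImplicit false
open Cfsg

namespace Cfsg.Agent.S0873

open Cfsg.Lib.Char Cfsg.Lib.Coprime Subgroup

/-- Let C be a normal subgroup of the finite group G of order prime to p and P a p-subgroup with C ⊔ P = G. Let λ be a character of C of degree 1 invariant under conjugation by G and equal to 1 at every element of C centralized by P. Then λ is identically 1. -/
theorem result {G : Type*} [Group G] [Finite G] (p : ℕ) [Fact p.Prime] (C P : Subgroup G) [hC : C.Normal] (hP : IsPGroup p P) (hcop : Nat.Coprime (Nat.card C) p) (hCP : C ⊔ P = ⊤) (lam : C → ℂ) (hlam : Cfsg.IsCharacter C lam ∧ lam 1 = 1) (hinv : ∀ (g : G) (c : C), lam ⟨g * c * g⁻¹, hC.conj_mem (c : G) c.2 g⟩ = lam c) (hker : ∀ c : C, (c : G) ∈ Subgroup.centralizer (P : Set G) → lam c = 1) : lam = fun _ => 1 := by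
  obtain ⟨f, rfl⟩ := hlam.1.exists_linear_of_degree_one hlam.2
  beta_reduce at hinv hker
  have hn : P ≤ normalizer (C : Set G) := by rw [normalizer_eq_top]; exact le_top
  ext k
  obtain ⟨s, hs, hc⟩ := exists_mul_mem_centralizer (A := P) (S := f.ker.map C.subtype) (k := k)
    (by
      intro a _
      rw [mem_normalizer_iff]
      intro x
      constructor
      · rintro ⟨y, hy, rfl⟩
        refine ⟨⟨a * y * a⁻¹, hC.conj_mem _ y.2 a⟩, ?_, rfl⟩
        have := hinv a y
        rw [SetLike.mem_coe, MonoidHom.mem_ker] at hy ⊢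
        rw [hy] at this
        exact Units.ext this
      · rintro ⟨y, hy, e⟩
        have hx : x = a⁻¹ * y * a⁻¹⁻¹ := by
          rw [show (y : G) = a * x * a⁻¹ from e]; group
        refine ⟨⟨a⁻¹ * y * a⁻¹⁻¹, hC.conj_mem _ y.2 _⟩, ?_, hx.symm⟩
        have := hinv a⁻¹ y
        rw [SetLike.mem_coe, MonoidHom.mem_ker] at hy ⊢
        rw [hy] at this
        exact Units.ext this)
    ((coprime_card_of_isPGroup hP hcop).symm.coprime_dvd_right (card_dvd_of_le (map_subtype_le _)))
    (Or.inl (isSolvable_of_isPGroup hP)) (by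
      intro a _
      refine ⟨k⁻¹ * ⟨a * k * a⁻¹, hC.conj_mem _ k.2 a⟩, ?_, rfl⟩
      rw [SetLike.mem_coe, MonoidHom.mem_ker, map_mul, map_inv, Units.ext (hinv a k), inv_mul_cancel])
  obtain ⟨y, hy, rfl⟩ := hs
  have := hker (k * y) hc
  rw [SetLike.mem_coe, MonoidHom.mem_ker] at hy
  simpa [hy] using this

end Cfsg.Agent.S0873
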