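import Cfsg.Statements.S0874
import Cfsg.Agent.Lib.Block.BrauerInd

set_option autoImplicit false
open Cfsg

namespace Cfsg.Agent.S0874

open Cfsg.Lib.Block Cfsg.Lib.Char Cfsg.Lib.Amalg
set_option linter.style.haveILetI false

/-- For a finite group G and a prime p there are an integer m not divisible by p and a list of triples (E, φ, c), with E a p-elementary subgroup, φ a character of E and c an integer, such that the constant function m on G equals the sum of the c • (function induced from φ). -/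
theorem result {G : Type*} [Group G] [Fintype G] (p : ℕ) (hp : p.Prime) : ∃ (m : ℤ) (l : List ((E : Subgroup G) × ((E → ℂ) × ℤ))), ¬ (p : ℤ) ∣ m ∧ (∀ t ∈ l, Cfsg.IsElementary p t.1 ∧ Cfsg.IsCharacter t.1 t.2.1) ∧ (fun _ : G => (m : ℂ)) = (l.map fun t => (t.2.2 : ℂ) • Cfsg.indFun t.1 t.2.1).sum := by
  haveI := Fact.mk hp
  have key : ∀ v ∈ Submodule.span ℤ (elemSet G p),
      ∃ l : List ((E : Subgroup G) × ((E → ℂ) × ℤ)),
        (∀ t ∈ l, Cfsg.IsElementary p t.1 ∧ Cfsg.IsCharacter t.1 t.2.1) ∧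
        v = (l.map fun t => (t.2.2 : ℂ) • Cfsg.indFun t.1 t.2.1).sum := by
    intro v hv
    induction hv using Submodule.span_induction with
    | mem x hx =>
      obtain ⟨E, φ, hE, hφ, rfl⟩ := hx
      exact ⟨[⟨E, φ, 1⟩], by simpa using ⟨hE, hφ⟩, by simp⟩
    | zero => exact ⟨[], by simp, by simp⟩
    | add x y _ _ hx hy =>
      obtain ⟨l, hl, rfl⟩ := hx
      obtain ⟨l', hl', rfl⟩ := hy
      refine ⟨l ++ l', fun t ht => ?_, by simp⟩
      rcases List.mem_append.1 ht with h | h
      exacts [hl t h, hl' t h]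
    | smul c x _ hx =>
      obtain ⟨l, hl, rfl⟩ := hx
      refine ⟨l.map fun t => ⟨t.1, t.2.1, c * t.2.2⟩, fun t ht => ?_, ?_⟩
      · obtain ⟨s, hs, rfl⟩ := List.mem_map.1 ht
        exact hl s hs
      · rw [List.smul_sum, List.map_map, List.map_map]
        congr 2
        funext t
        ext g
        simp [mul_assoc]
  obtain ⟨l, hl, e⟩ := key _ ordCompl_mem_span
  refine ⟨(ordCompl[p] (Nat.card G) : ℕ), l, ?_, hl, by rw [← e, Int.cast_natCast]⟩
  exact_mod_cast Nat.not_dvd_ordCompl hp (Nat.card_pos (α := G)).ne'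

end Cfsg.Agent.S0874
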