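import Cfsg.Statements.S0875
import Cfsg.Agent.Lib.Clifford.BrSuz

set_option autoImplicit false
open Cfsg

namespace Cfsg.Agent.S0875

open Cfsg.Lib Cfsg.Lib.Clifford Cfsg.Lib.Char Cfsg.Lib.Block Cfsg.Lib.Block2 Finset

/-- Let G be a finite group of order m * n with m and n coprime, and g an element whose order is coprime to m. Every x in G factors uniquely as x = u * v with u, v commuting, the order of u coprime to n and the order of v coprime to m; let ϑ be the function on G equal to n at those x whose factor v is conjugate to g and equal to 0 elsewhere. Then ϑ is a linear combination of the irreducible characters of G with algebraic-integer coefficients. -/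
theorem result {G : Type*} [Group G] [Fintype G] (m n : ℕ) (hmn : Nat.card G = m * n) (hcop : Nat.Coprime m n) (g : G) (hg : Nat.Coprime (orderOf g) m) (ϑ : G → ℂ) (hϑ1 : ∀ x : G, (∃ v : G, IsConj v g ∧ (∃ u : G, x = u * v ∧ Commute u v ∧ Nat.Coprime (orderOf u) n ∧ Nat.Coprime (orderOf v) m)) → ϑ x = n) (hϑ0 : ∀ x : G, (¬ ∃ v : G, IsConj v g ∧ (∃ u : G, x = u * v ∧ Commute u v ∧ Nat.Coprime (orderOf u) n ∧ Nat.Coprime (orderOf v) m)) → ϑ x = 0) : ∃ c : Cfsg.IrrCharacter G → ℂ, (∀ χ, c χ ∈ Cfsg.AlgInt) ∧ ϑ = ∑ᶠ χ : Cfsg.IrrCharacter G, c χ • (χ : G → ℂ) := by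
  classical
  obtain ⟨e, he⟩ := exists_powProj (G := G) hcop hmn.dvd
  have h : ϑ = fun x => if IsConj (x ^ e) g then (n : ℂ) else 0 := by
    funext x
    split_ifs with hx
    · exact hϑ1 x ⟨_, hx, x * (x ^ e)⁻¹, by group,
        ((Commute.refl x).pow_right e).mul_left (Commute.refl _).inv_left,
        he.coprime_mul_inv x, he.coprime_pow x⟩
    · refine hϑ0 x ?_
      rintro ⟨v, hv, u, rfl, hc, hu, hv'⟩
      exact hx (by rwa [he.pow_mul_eq hc hu hv'])
  have hm : ϑ ∈ aSpan G := by
    rw [h]
    convert he.indicator_mem_aSpan g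
  exact ⟨fun χ => classInner ϑ χ, fun χ => isIntegral_classInner_of_mem_aSpan hm
    (show IsIrrCharacter G χ from χ.2).isGeneralizedCharacter,
    (isClassFunction_of_mem_aSpan hm).eq_finsum⟩

end Cfsg.Agent.S0875
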