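import Cfsg.Statements.S0886
import Cfsg.Agent.Lib.Clifford.Cover

set_option autoImplicit false
open Cfsg

namespace Cfsg.Agent.S0886

open Cfsg.Lib.Clifford Cfsg.Lib.Char

/-- Let N be a normal subgroup of the finite group G with G / N cyclic, and ϑ an irreducible character of N invariant under conjugation by G. Then ϑ is the restriction of some irreducible character of G. -/
theorem result {G : Type*} [Group G] [Finite G] (N : Subgroup G) [hN : N.Normal] (hcyc : IsCyclic (G ⧸ N)) (ϑ : N → ℂ) (hϑ : Cfsg.IsIrrCharacter N ϑ) (hinv : ∀ (g : G) (n : N), ϑ ⟨g * n * g⁻¹, hN.conj_mem (n : G) n.2 g⟩ = ϑ n) : ∃ χ : G → ℂ, Cfsg.IsIrrCharacter G χ ∧ ∀ n : N, χ n = ϑ n := by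
  obtain ⟨θ, rfl, -⟩ := exists_res _ ϑ
  obtain ⟨q, hq⟩ := IsCyclic.exists_generator (α := G ⧸ N)
  obtain ⟨g, rfl⟩ := QuotientGroup.mk_surjective q
  have hg : Subgroup.zpowers g ⊔ N = ⊤ := eq_top_iff.2 fun x _ => by
    obtain ⟨i, hi⟩ := hq (QuotientGroup.mk x)
    have : (g ^ i)⁻¹ * x ∈ N := QuotientGroup.eq.1 hi
    simpa using Subgroup.mul_mem_sup (Subgroup.zpow_mem_zpowers g i) this
  obtain ⟨χ, a, b⟩ := exists_ext_of_zpowers hg (nrm_of_normal ⊤ N) hϑ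
    (fun g _ n hn => hinv g ⟨n, hn⟩)
  exact ⟨χ, mem_Irr_top.1 a, fun n => b n n.2⟩

end Cfsg.Agent.S0886
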