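import Cfsg.Statements.S0888
import Cfsg.Agent.Lib.Clifford.Cover

set_option autoImplicit false
open Cfsg

namespace Cfsg.Agent.S0888

open Cfsg.Lib.Clifford Cfsg.Lib.Char

/-- Let N be a normal subgroup of the finite group G and ϑ an irreducible character of N invariant under conjugation by G. Suppose that for every prime p there are a subgroup P containing N, of index prime to p and with the index of N in P a power of p, and an irreducible character of P restricting to ϑ. Then ϑ is the restriction of an irreducible character of G. -/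
theorem result {G : Type*} [Group G] [Finite G] (N : Subgroup G) [hN : N.Normal] (ϑ : N → ℂ) (hϑ : Cfsg.IsIrrCharacter N ϑ) (hinv : ∀ (g : G) (n : N), ϑ ⟨g * n * g⁻¹, hN.conj_mem (n : G) n.2 g⟩ = ϑ n) (hsyl : ∀ p : ℕ, p.Prime → ∃ (P : Subgroup G) (hNP : N ≤ P) (η : P → ℂ), Nat.Coprime P.index p ∧ (∃ k : ℕ, N.relIndex P = p ^ k) ∧ Cfsg.IsIrrCharacter P η ∧ ∀ n : N, η ⟨(n : G), hNP n.2⟩ = ϑ n) : ∃ χ : G → ℂ, Cfsg.IsIrrCharacter G χ ∧ ∀ n : N, χ n = ϑ n := by
  obtain ⟨θ, rfl, -⟩ := exists_res _ ϑ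
  obtain ⟨χ, a, b⟩ := exists_ext_of_sylow le_top (nrm_of_normal ⊤ N) hϑ
    (fun g _ n hn => hinv g ⟨n, hn⟩) fun p hp _ => by
      obtain ⟨H, a, ν, b, -, c, e⟩ := hsyl p hp
      obtain ⟨ν, rfl, -⟩ := exists_res _ ν
      refine ⟨H, a, le_top, ?_, ν, IrrOn.charOn c, fun x hx => e ⟨x, hx⟩⟩
      rw [Subgroup.relIndex_top_right]
      exact (Nat.Prime.coprime_iff_not_dvd hp).1 b.symm
  exact ⟨χ, mem_Irr_top.1 a, fun n => b n n.2⟩

end Cfsg.Agent.S0888
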