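import Cfsg.Statements.S0889
import Cfsg.Agent.Lib.Clifford.Berger

set_option autoImplicit false
open Cfsg

namespace Cfsg.Agent.S0889

open Cfsg.Lib Cfsg.Lib.Clifford Subgroup

/-- Let G be a finite solvable group and χ an irreducible character of G such that for every normal subgroup N the restriction of χ to N is a natural-number multiple of one irreducible character of N. Then χ is not induced from a character of any proper subgroup. -/
theorem result {G : Type*} [Group G] [Fintype G] [Group.IsSolvable G] (χ : G → ℂ) (hχ : Cfsg.IsIrrCharacter G χ) (hqp : ∀ (N : Subgroup G), N.Normal → ∃ (ϑ : N → ℂ) (e : ℕ), Cfsg.IsIrrCharacter N ϑ ∧ (fun n : N => χ n) = (e : ℂ) • ϑ) (K : Subgroup G) (hK : K ≠ ⊤) (ψ : K → ℂ) (hψ : Cfsg.IsCharacter K ψ) : Cfsg.indFun K ψ ≠ χ := by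
  intro e
  have hχ' : IrrOn ⊤ χ := irrOn_top.2 hχ
  refine hχ'.not_indFrom_of_homog (N := ⊥) (nrm_of_normal _ _) (solvMod_of_isSolvable _ _) (fun M _ _ hM => ?_)
    (indFrom_of_charOn hχ' bot_le hK.lt_top (charOn_extendByZero.2 hψ) (by rw [← indFun_eq_ind, e, cut_top]))
  obtain ⟨θ, k, hθ, h⟩ := hqp M hM.normal
  obtain ⟨φ, rfl, h0⟩ := exists_res M θ
  exact ⟨φ, mem_Irr.2 ⟨hθ, h0⟩, k, fun n hn => congrFun h ⟨n, hn⟩⟩

end Cfsg.Agent.S0889
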