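import Cfsg.Statements.S0890
import Cfsg.Agent.Lib.Clifford.Berger

set_option autoImplicit false
open Cfsg

namespace Cfsg.Agent.S0890

open Cfsg.Lib Cfsg.Lib.Clifford Subgroup

/-- Let L ≤ H < G with L normal in G, H a maximal subgroup and G / L solvable. Let ϑ be an irreducible character of H whose restriction to L is irreducible and whose induction χ to G is irreducible. Then there is a normal subgroup M of G containing L such that the restriction of χ to M is not a natural-number multiple of a single irreducible character of M. -/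
theorem result {G : Type*} [Group G] [Fintype G] (L H : Subgroup G) [L.Normal] (hLH : L ≤ H) (hmax : IsCoatom H) (hsolv : Group.IsSolvable (G ⧸ L)) (ϑ : H → ℂ) (hϑ : Cfsg.IsIrrCharacter H ϑ) (hϑL : Cfsg.IsIrrCharacter L (fun x : L => ϑ ⟨(x : G), hLH x.2⟩)) (hind : Cfsg.IsIrrCharacter G (Cfsg.indFun H ϑ)) : ∃ M : Subgroup G, M.Normal ∧ L ≤ M ∧ ¬ ∃ (φ : M → ℂ) (e : ℕ), Cfsg.IsIrrCharacter M φ ∧ (fun m : M => Cfsg.indFun H ϑ m) = (e : ℂ) • φ := by
  obtain ⟨θ, rfl, -⟩ := exists_res H ϑ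
  rw [indFun_res] at hind ⊢
  obtain ⟨M, h1, -, h2, h3⟩ := exists_not_homog_of_ind (G := ⊤) (θ := θ) hLH (nrm_of_normal _ _) hmax.lt_top
    (fun M a _ => (a.eq_or_lt.imp Eq.symm (hmax.2 M))) (solvMod_of_quotient hsolv _) hϑ hϑL (irrOn_top.2 hind)
  refine ⟨M, h2.normal, h1, ?_⟩
  rintro ⟨φ, k, hφ, h⟩
  obtain ⟨φ, rfl, h0⟩ := exists_res M φ
  exact h3 ⟨φ, mem_Irr.2 ⟨hφ, h0⟩, k, fun n hn => congrFun h ⟨n, hn⟩⟩

end Cfsg.Agent.S0890
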