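import Cfsg.Statements.S0893
import Cfsg.Agent.Lib.Clifford.XSChar

set_option autoImplicit false
open Cfsg

namespace Cfsg.Agent.S0893

open Cfsg.Lib Cfsg.Lib.Clifford Cfsg.Lib.Char Cfsg.Lib.FG Finset Subgroup

/-- Let P be an extraspecial p-group of order p ^ (2 * n + 1), A an abelian subgroup of order p ^ (n + 1), and λ a character of A of degree 1 that is not identically 1 on the elements of A lying in the centre of P. Then the function induced from λ to P is an irreducible character of P and vanishes at every element outside the centre. -/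
theorem result {P : Type*} [Group P] [Fintype P] (p n : ℕ) [Fact p.Prime] (hP : Cfsg.IsExtraspecial p P) (hcard : Nat.card P = p ^ (2 * n + 1)) (A : Subgroup P) (hab : ∀ a ∈ A, ∀ b ∈ A, a * b = b * a) (hA : Nat.card A = p ^ (n + 1)) (lam : A → ℂ) (hlam : Cfsg.IsCharacter A lam ∧ lam 1 = 1) (hZ : ∃ a : A, (a : P) ∈ Subgroup.center P ∧ lam a ≠ 1) : Cfsg.IsIrrCharacter P (Cfsg.indFun A lam) ∧ ∀ x : P, x ∉ Subgroup.center P → Cfsg.indFun A lam x = 0 := by
  classical
  have hp : p.Prime := Fact.out
  have h := xs_top hP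
  obtain ⟨φ, rfl, -⟩ := exists_res A lam
  have hl : LinOn A φ := hlam
  obtain ⟨a, ha, h1⟩ := hZ
  rw [indFun_res]
  have hc : CharOn ⊤ (ind A ⊤ φ) := hl.charOn.ind le_top
  obtain ⟨χ, hχ, h2⟩ := hl.irrOn.exists_over (le_top (a := A))
  have hi := irrOn_of_mem hχ
  have ht : ¬ Triv (center P) χ := fun e => h1 <| by
    have := (hi.charOn.mono le_top).eq_of_dot hl.irrOn h2 a.2 (e a ha)
    rwa [hl.2] at this
  have h3 := h.deg_sq hp hi ht
  rw [card_top, hcard, pow_succ p, mul_comm 2 n, pow_mul] at h3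
  have h4 := Nat.pow_left_injective two_ne_zero (Nat.eq_of_mul_eq_mul_right hp.pos h3)
  have h5 : A.relIndex ⊤ = p ^ n := by
    have := card_mul_relIndex (le_top (a := A))
    rw [card_top, hA, hcard, show 2 * n + 1 = n + 1 + n by ring, pow_add p (n + 1)] at this
    exact Nat.eq_of_mul_eq_mul_left (pow_pos hp.pos _) this
  have h6 := hi.ind_eq_of_deg_le le_top hl.charOn h2 (by rw [h5, hl.deg, h4, mul_one])
  have h7 : ind A ⊤ φ = χ := funext fun x => h6 x trivial
  rw [h7]
  exact ⟨irrOn_top.1 hi, fun x hx => h.vanish hp hi ht trivial hx⟩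

end Cfsg.Agent.S0893
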