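import Cfsg.Statements.S0894
import Cfsg.Agent.Lib.Clifford.XSChar

set_option autoImplicit false
open Cfsg

namespace Cfsg.Agent.S0894

open Cfsg.Lib Cfsg.Lib.Clifford Cfsg.Lib.Char Cfsg.Lib.FG Finset Subgroup

/-- Let P be an extraspecial p-group of order p ^ (2 * n + 1). Then every irreducible character of P has degree 1 or p ^ n, and exactly p - 1 of them have degree p ^ n. -/
theorem result {P : Type*} [Group P] [Finite P] (p n : ℕ) [Fact p.Prime] (hP : Cfsg.IsExtraspecial p P) (hcard : Nat.card P = p ^ (2 * n + 1)) : (∀ χ : Cfsg.IrrCharacter P, (χ : P → ℂ) 1 = 1 ∨ (χ : P → ℂ) 1 = (p : ℂ) ^ n) ∧ Nat.card {χ : Cfsg.IrrCharacter P // (χ : P → ℂ) 1 = (p : ℂ) ^ n} = p - 1 := by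
  classical
  have hp : p.Prime := Fact.out
  have h := xs_top hP
  have h1 : ∀ χ : P → ℂ, IrrOn ⊤ χ → ¬ Triv (center P) χ → χ 1 = (p : ℂ) ^ n := fun χ hχ ht => by
    have h2 := h.deg_sq hp hχ ht
    rw [card_top, hcard, pow_succ p, mul_comm 2 n, pow_mul] at h2
    have h3 := Nat.pow_left_injective two_ne_zero (Nat.eq_of_mul_eq_mul_right hp.pos h2)
    rw [hχ.one_eq, h3, Nat.cast_pow]
  have hn : n ≠ 0 := by
    rintro rfl
    have h2 : center P = ⊤ := eq_top_of_card_eq _ (by rw [hP.2, hcard]; simp)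
    have h3 := hP.1.2.2
    have : commutator P = ⊥ := by
      rw [_root_.commutator, commutator_eq_bot_iff_le_centralizer, coe_top, centralizer_univ, h2]
    rw [this] at h3
    have h4 := hP.2
    rw [← h3, card_bot] at h4
    exact hp.ne_one h4.symm
  refine ⟨fun χ => ?_, ?_⟩
  · by_cases ht : Triv (center P) χ.1
    · exact Or.inl ((h.lin_iff (irrOn_top.2 χ.2)).2 ht).2
    · exact Or.inr (h1 _ (irrOn_top.2 χ.2) ht)
  · rw [card_irr_filter (fun χ : P → ℂ => χ 1 = (p : ℂ) ^ n), ← h.card_sdiff hp]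
    congr 1
    ext χ
    rw [mem_filter, mem_sdiff, mem_IrrKer]
    refine and_congr_right fun hχ => ⟨fun e ht => ?_, fun e => h1 _ (irrOn_of_mem hχ) fun ht => e ⟨hχ, ht⟩⟩
    rw [((h.lin_iff (irrOn_of_mem hχ)).2 ht.2).2] at e
    have : 1 = p ^ n := by exact_mod_cast e
    exact (Nat.one_lt_pow hn hp.one_lt).ne this

end Cfsg.Agent.S0894
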