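import Cfsg.Statements.S0895
import Cfsg.Agent.Lib.Hall.FS

set_option autoImplicit false
open Cfsg

namespace Cfsg.Agent.S0895

open scoped Pointwise
open Cfsg.Lib Cfsg.Lib.Hall

/-- Let χ be a real-valued irreducible character of a finite group G whose degree is an odd natural number. Then the average over s in G of χ (s * s) equals 1. -/
theorem result {G : Type*} [Group G] [Fintype G] (χ : G → ℂ) (hχ : Cfsg.IsIrrCharacter G χ) (hreal : ∀ g : G, (χ g).im = 0) (d : ℕ) (hd : χ 1 = d) (hodd : Odd d) : (Nat.card G : ℂ)⁻¹ * ∑ s : G, χ (s * s) = 1 := by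
  refine (hχ.fs_of_real hreal).resolve_right fun h1 => ?_
  obtain ⟨n, ρ, hρ, rfl⟩ := hχ
  have e : (fun g => (repMat ρ g).trace) = ρ.character := funext (trace_repMat ρ)
  have h : IsIrrCharacter G fun g => (repMat ρ g).trace := e ▸ Char.isIrrCharacter_character ρ
  have hr : ∀ g, ((repMat ρ g).trace).im = 0 := fun g => by rw [trace_repMat]; exact hreal g
  obtain ⟨M, h2, h3, h4⟩ := exists_form_of_fs _ h hr
  have h5 := congrArg Matrix.det h3
  have hn : n = d := by
    rw [Representation.char_one, Module.finrank_fin_fun] at hd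
    exact_mod_cast hd
  rw [e, h1, Matrix.det_transpose, Matrix.det_smul, Fintype.card_fin, (hn ▸ hodd : Odd n).neg_one_pow] at h5
  refine det_ne_zero_of_invariant ρ h2 h4 ?_
  linear_combination h5 / 2

end Cfsg.Agent.S0895
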