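import Cfsg.Statements.S0897
import Cfsg.Agent.Lib.Clifford.Dade

set_option autoImplicit false
open Cfsg

namespace Cfsg.Agent.S0897

open Cfsg.Lib Cfsg.Lib.Clifford Cfsg.Lib.Char Finset Subgroup
open scoped commutatorElement

/-- Let N be a normal subgroup of the finite group G with the index of N a power of the prime p, and P a Sylow p-subgroup of G such that P ⊓ N lies in the centre of P and every character of degree 1 of P ⊓ N is the restriction of a character of degree 1 of P. Then every irreducible character of N invariant under conjugation by G is the restriction of an irreducible character of G. -/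
theorem result {G : Type*} [Group G] [Fintype G] (p : ℕ) [Fact p.Prime] (N : Subgroup G) [hN : N.Normal] (hind : ∃ k : ℕ, N.index = p ^ k) (P : Sylow p G) (hcent : ∀ x ∈ (P : Subgroup G) ⊓ N, ∀ y ∈ (P : Subgroup G), x * y = y * x) (hlin : ∀ lam : ↥((P : Subgroup G) ⊓ N) → ℂ, Cfsg.IsCharacter ↥((P : Subgroup G) ⊓ N) lam → lam 1 = 1 → ∃ μ : ↥(P : Subgroup G) → ℂ, Cfsg.IsCharacter ↥(P : Subgroup G) μ ∧ μ 1 = 1 ∧ ∀ x : ↥((P : Subgroup G) ⊓ N), μ ⟨(x : G), x.2.1⟩ = lam x) (ϑ : N → ℂ) (hϑ : Cfsg.IsIrrCharacter N ϑ) (hinv : ∀ (g : G) (n : N), ϑ ⟨g * n * g⁻¹, hN.conj_mem (n : G) n.2 g⟩ = ϑ n) : ∃ χ : G → ℂ, Cfsg.IsIrrCharacter G χ ∧ ∀ n : N, χ n = ϑ n := by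
---
  obtain ⟨k, hk⟩ := hind
  obtain ⟨ψ, h1, h2⟩ := exists_ext_of_sylow_commutator hk (Amalg.syl_top P) (eq_bot_iff.2 fun y hy => by
    have hy' : y ∈ (P : Subgroup G) ⊓ N := ⟨Clifford.commutator_le_self _ hy.1, hy.2⟩
    by_contra h
    obtain ⟨β, h1, h2⟩ := exists_IrrKer_ne (bot_le : ⊥ ≤ (P : Subgroup G) ⊓ N) (nrm_of_normal _ _) h
    have hl := (irrOn_of_mem (mem_IrrKer.1 h1).1).linOn_of_comm fun a ha b hb => hcent a ha b hb.1
    obtain ⟨μ, h3, h4, h5⟩ := hlin (res _ β) hl.1 hl.2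
    have hm : LinOn P (extendByZero _ μ) :=
      ⟨charOn_extendByZero.2 h3, (Clifford.extendByZero_of_mem _ (one_mem _)).trans h4⟩
    exact h2 ((h5 ⟨y, hy'⟩).symm.trans ((Clifford.extendByZero_of_mem μ hy'.1).symm.trans
      ((hm.mem_kerOn.1 (hm.commutator_le hy.1)).2.trans hl.2.symm)))) (irrOn_extendByZero.2 hϑ) fun g _ n hn => by
    rw [Clifford.extendByZero_of_mem _ hn, Clifford.extendByZero_of_mem _ (hN.conj_mem n hn g)]
    exact hinv g ⟨n, hn⟩
  exact ⟨ψ, mem_Irr_top.1 h1, fun n => (h2 n n.2).trans (Clifford.extendByZero_of_mem _ n.2)⟩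

end Cfsg.Agent.S0897
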