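import Cfsg.Statements.S0898
import Cfsg.Agent.Lib.Clifford.FTLin

set_option autoImplicit false
open Cfsg

namespace Cfsg.Agent.S0898

open Cfsg.Lib Cfsg.Lib.Clifford Cfsg.Lib.Char Finset Subgroup
open scoped commutatorElement

/-- Let H be an abelian subgroup of the finite group G meeting the centre of G trivially, such that for every non-central g the centralizer of g has nontrivial intersection with at most one conjugate of H. Let χ be an irreducible character of G with χ h ≠ χ 1 for some h in H, and let c be the inner product of the restriction of χ to H with the principal character. Then χ(1)² > (order of H)·c²; and if in addition χ 1 ≠ 1 and no proper normal subgroup of G contains H, then (1 + χ 1)² > order of H (both sides read as real numbers). -/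
theorem result {G : Type*} [Group G] [Fintype G] (H : Subgroup G) [Fintype H] (hab : ∀ a ∈ H, ∀ b ∈ H, a * b = b * a) (hZ : H ⊓ Subgroup.center G = ⊥) (hone : ∀ g : G, g ∉ Subgroup.center G → ∀ a b : G, Subgroup.centralizer ({g} : Set G) ⊓ H.map (MulAut.conj a).toMonoidHom ≠ ⊥ → Subgroup.centralizer ({g} : Set G) ⊓ H.map (MulAut.conj b).toMonoidHom ≠ ⊥ → H.map (MulAut.conj a).toMonoidHom = H.map (MulAut.conj b).toMonoidHom) (χ : G → ℂ) (hχ : Cfsg.IsIrrCharacter G χ) (hker : ∃ h ∈ H, χ h ≠ χ 1) : (χ 1).re ^ 2 > (Nat.card H : ℝ) * (Cfsg.classInner (fun h : H => χ h) (fun _ => 1)).re ^ 2 ∧ (χ 1 ≠ 1 → (∀ M : Subgroup G, M.Normal → H ≤ M → M = ⊤) → (1 + (χ 1).re) ^ 2 > (Nat.card H : ℝ)) := by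
  have hi := irrOn_top.2 hχ
  have h1 : ∀ g ∉ center G, ∀ x, (∃ h ∈ H, h ≠ 1 ∧ g * h = h * g) →
      (∃ h ∈ H, h ≠ 1 ∧ x * g * x⁻¹ * h = h * (x * g * x⁻¹)) → x ∈ normalizer (H : Set G) := by
    rintro g hg x ⟨a, a1, a2, a3⟩ ⟨b, b1, b2, b3⟩
    refine inv_mem_iff.1 (Amalg.cj_eq_self_iff.1 ((hone g hg x⁻¹ 1 (fun e => b2 ?_) fun e => a2 ?_).trans
      (Amalg.cj_one H)))
    · have h : x⁻¹ * b * x⁻¹⁻¹ * g = g * (x⁻¹ * b * x⁻¹⁻¹) :=
        calc _ = x⁻¹ * (b * (x * g * x⁻¹)) * x := by group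
          _ = _ := by rw [← b3]; group
      exact conj_eq_one_iff.1 (mem_bot.1 (e.le (mem_inf.2 ⟨mem_centralizer_singleton_iff.2 h, mem_map_of_mem _ b1⟩)))
    · exact mem_bot.1 (e.le (mem_inf.2 ⟨mem_centralizer_singleton_iff.2 a3.symm, mem_map.2 ⟨a, a1, by simp⟩⟩))
  obtain ⟨h, h2, h3⟩ := hker
  have e : classInner (fun h : H => χ h) (fun _ => 1) = mult H χ 1 :=
    (dot_eq_classInner H χ 1).symm.trans ((hi.charOn.mono le_top).dot_eq_mult (charOn_one H))
  have e' := hi.one_eq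
  refine ⟨?_, fun h4 h5 => ?_⟩
  · rw [e, e', Complex.natCast_re, Complex.natCast_re]
    exact_mod_cast ft_lin hab hZ h1 hi fun ht => h3 (ht h h2)
  · rw [e', Complex.natCast_re]
    exact_mod_cast ft_lin' hab hZ h1 hi h4 h5

end Cfsg.Agent.S0898
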