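import Cfsg.Statements.S0899
import Cfsg.Agent.Lib.Clifford.FTLin
import Cfsg.Agent.Lib.Coprime.Blichfeldt
import Cfsg.Agent.Lib.BG1.Amb

set_option autoImplicit false
open Cfsg

namespace Cfsg.Agent.S0899

open Cfsg.Lib Cfsg.Lib.Clifford Cfsg.Lib.Char Finset Subgroup
open scoped commutatorElement

theorem psol {G : Type*} [Group G] [Finite G] {p : ℕ} [hp : Fact p.Prime] (K : Subgroup G) [K.Normal]
    (h : commutator G ≤ K) (Q : Sylow p K) [(Q : Subgroup K).Normal] : IsPSolvable p G := by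
  have h1 : IsPSolvable p (Q : Subgroup K) := Core.isPSolvable_of_isPGroup hp.out Q.isPGroup'
  have h2 : IsPSolvable p (K ⧸ (Q : Subgroup K)) := Core.isPSolvable_of_coprime hp.out
    ((Nat.Prime.coprime_iff_not_dvd hp.out).2 (by rw [← index_eq_card]; exact Q.not_dvd_index)).symm
  have : IsMulCommutative (G ⧸ K) := Normal.quotient_commutative_iff_commutator_le.2 h
  have : Group.IsSolvable (G ⧸ K) := Group.isSolvable_of_comm fun a b => mul_comm' a b
  exact Core.isPSolvable_of_normal_of_quotient hp.out K (Core.isPSolvable_of_normal_of_quotient hp.out _ h1 h2)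
    (Core.isPSolvable_of_isSolvable hp.out)

theorem aux {G : Type*} [Group G] [Finite G] {χ : G → ℂ} (hχ : IsCharacter G χ) (hf : ∀ x, χ x = χ 1 → x = 1)
    {p : ℕ} [hp : Fact p.Prime] (h1 : charDegree χ + 1 < p) (P : Sylow p G)
    (h2 : ¬ p ^ 2 ∣ Nat.card G → (charDegree χ + 1) ^ 2 ≤ p ∨ (P : Subgroup G).Normal)
    (ih : ∀ K : Subgroup G, K ≠ ⊤ → ∀ Q : Sylow p K, (Q : Subgroup K).Normal) : (P : Subgroup G).Normal := by
  by_contra hP
  have hS := Amalg.syl_top P
  have key : ∀ {K T : Subgroup G}, K ≠ ⊤ → Amalg.Syl p T K → K ≤ normalizer (T : Set G) := fun hK hT => by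
    have := ih _ hK hT.toSylow
    rw [hT.coe_toSylow] at this
    exact (normal_subgroupOf_iff_le_normalizer hT.le).1 this
  have hM : ∀ M : Subgroup G, M.Normal → (P : Subgroup G) ≤ M → M = ⊤ := fun M _ h => by_contra fun hM =>
    hP (normalizer_eq_top_iff.1 (top_unique (((hS.of_le h le_top).frattini le_top
      Amalg.le_normalizer_of_normal').ge.trans (sup_le (key hM (hS.of_le h le_top)) inf_le_right))))
  have hG : commutator G = ⊤ := by_contra fun h => by
    obtain ⟨Q⟩ : Nonempty (Sylow p (commutator G)) := inferInstance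
    have := ih _ h Q
    exact h1.ne (ito_fermat (psol _ le_rfl Q) hχ hf h1.le P hP).1
  have hab : ∀ {T : Subgroup G}, IsPGroup p T → ∀ a ∈ T, ∀ b ∈ T, a * b = b * a := fun hT =>
    Coprime.comm_of_large_primes hχ hf fun q hq h => by
      obtain ⟨k, hk⟩ := IsPGroup.iff_card.1 hT
      rw [(Nat.prime_dvd_prime_iff_eq hq hp.out).1 (hq.dvd_of_dvd_pow (hk ▸ h))]; omega
  have hZ : (P : Subgroup G) ⊓ center G = ⊥ := by_contra fun h => by
    obtain ⟨z, h3, h4⟩ := BG1.exists_mem_orderOf_eq_prime hp.out (Amalg.dvd_card_of_isPGroup_ne_bot P.isPGroup'.to_inf_left h)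
    exact Coprime.not_central_of_perfect hχ hf hG hp.out (by omega) h4
      (centralizer_eq_top_iff_subset.2 (Set.singleton_subset_iff.2 h3.2))
  have hc : ∀ {T : Subgroup G} {a : G}, Amalg.Syl p T ⊤ → a ∈ T → a ≠ 1 → centralizer {a} ≤ normalizer (T : Set G) :=
    fun {T a} hT ha h => by
      refine key (fun e => ?_) (hT.of_le (fun b hb => mem_centralizer_singleton_iff.2 (hab hT.isPGroup b hb a ha)) le_top)
      obtain ⟨g, -, rfl⟩ := hS.exists_conj hT
      obtain ⟨a, ha, rfl⟩ := ha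
      refine h ((map_eq_one_iff _ (MulAut.conj g).injective).2 (mem_bot.1 (hZ.le ⟨ha, ?_⟩)))
      exact ((nrm_of_normal ⊤ _).mem_iff (mem_top g) a).1 (centralizer_eq_top_iff_subset.1 e rfl)
  obtain ⟨a, ha, ha'⟩ : ∃ a ∈ (P : Subgroup G), a ≠ 1 := by
    by_contra! h; exact hP (by rw [(eq_bot_iff_forall _).2 h]; infer_instance)
  obtain ⟨ψ, h3, h4, h5⟩ : ∃ ψ ∈ Irr ⊤, dot ⊤ χ ψ ≠ 0 ∧ ψ a ≠ ψ 1 := by
    by_contra! h; exact ha' (hf a ((charOn_top.2 hχ).classOn.eq_of_forall trivial h))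
  have hi := irrOn_of_mem h3
  have h6 := ft_lin' (hab P.isPGroup') hZ (fun g hg x ⟨b, b1, b2, b3⟩ ⟨c, c1, c2, c3⟩ => by
    obtain ⟨Q, hQ⟩ := Amalg.exists_syl p (centralizer {g})
    have hn := key (fun e => hg (centralizer_eq_top_iff_subset.1 e (Set.mem_singleton g))) hQ
    have hT := hS.conj_top x⁻¹
    have c4 : x⁻¹ * c * x⁻¹⁻¹ ∈ Transfer.cj x⁻¹ P := mem_map_of_mem _ c1
    have c5 : x⁻¹ * c * x⁻¹⁻¹ ≠ 1 := mt conj_eq_one_iff.1 c2
    have c6 : x⁻¹ * c * x⁻¹⁻¹ * g = g * (x⁻¹ * c * x⁻¹⁻¹) :=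
      calc _ = x⁻¹ * (c * (x * g * x⁻¹)) * x := by group
        _ = _ := by rw [← c3]; group
    have mem : ∀ {T : Subgroup G} {y}, IsPGroup p T → y ∈ T → y * g = g * y → y ∈ Q := fun hT hy e =>
      hQ.le_of_normal_syl hn (hT.to_le (zpowers_le_of_mem hy))
        (zpowers_le_of_mem (mem_centralizer_singleton_iff.2 e)) (mem_zpowers _)
    have b4 : b ∈ Transfer.cj x⁻¹ P := hT.le_of_le_normalizer' (P.isPGroup'.to_le (zpowers_le_of_mem b1)) le_top
      ((zpowers_le_of_mem (mem_centralizer_singleton_iff.2 (hab hQ.isPGroup _ (mem P.isPGroup' b1 b3.symm) _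
        (mem hT.isPGroup c4 c6)))).trans (hc hT c4 c5)) (mem_zpowers b)
    exact inv_mem_iff.1 (Amalg.cj_eq_self_iff.1 (le_antisymm (hS.le_of_le_normalizer' hT.isPGroup le_top
      (le_trans (fun y hy => mem_centralizer_singleton_iff.2 (hab hT.isPGroup y hy b b4)) (hc hS b1 b2)))
      (hT.le_of_le_normalizer' P.isPGroup' le_top (le_trans (fun y hy => mem_centralizer_singleton_iff.2
        (hab P.isPGroup' y hy b b1)) (hc hT b4 b2)))))) hi (fun e => h5 (triv_kerOn _ ((hi.linOn e).commutator_le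
          (hG.ge (mem_top a))))) hM
  have h7 := h6.trans_le (Nat.pow_le_pow_left (Nat.add_le_add_left ((charOn_top.2 hχ).deg_le_of_dot hi h4) 1) 2)
  rw [add_comm] at h7
  refine (h2 fun h => ?_).elim (fun h => ?_) hP
  · rw [P.card_eq_multiplicity] at h7
    exact (h7.trans (Nat.pow_lt_pow_left h1 two_ne_zero)).not_ge (Nat.pow_le_pow_right hp.out.pos
      ((hp.out.pow_dvd_iff_le_factorization Nat.card_pos.ne').1 h))
  · obtain ⟨_ | k, hk⟩ := IsPGroup.iff_card.1 P.isPGroup'
    · exact ha' (mem_bot.1 ((card_eq_one.1 hk).le ha))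
    · exact (h7.trans_le h).not_ge (hk ▸ Nat.le_self_pow k.succ_ne_zero p)

theorem main {p n : ℕ} [hp : Fact p.Prime] (h1 : n + 1 < p) (G : Type*) [Group G] [Finite G] {χ : G → ℂ}
    (hχ : IsCharacter G χ) (hf : ∀ x, χ x = χ 1 → x = 1) (hn : charDegree χ ≤ n)
    (h : (n + 1) ^ 2 ≤ p ∨ ∀ K : Subgroup G, ¬ p ^ 2 ∣ Nat.card K → ∀ Q : Sylow p K, (Q : Subgroup K).Normal)
    (P : Sylow p G) : (P : Subgroup G).Normal := by
  induction hc : Nat.card G using Nat.strong_induction_on generalizing G with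
  | _ m ih =>
  have sub : ∀ {A B : Type _} [Group A] [Group B] [Finite A] (e : A ≃* B), (∀ Q : Sylow p B, (Q : Subgroup B).Normal) →
      ∀ Q : Sylow p A, (Q : Subgroup A).Normal := fun e h Q => by
    have : (comap e.toMonoidHom (Subgroup.map e.toMonoidHom Q)).Normal :=
      (h (Q.mapSurjective (f := e.toMonoidHom) e.surjective)).comap e.toMonoidHom
    rwa [comap_map_eq_self_of_injective e.injective] at this
  refine aux hχ hf (by omega) P (fun h2 => h.imp (le_trans (by gcongr)) fun h =>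
    sub topEquiv.symm (h ⊤ (by rwa [card_top])) P) fun K hK Q => ?_
  refine ih _ (hc ▸ Core.card_lt_of_ne_top hK) K (χ := fun x => χ x) (hχ.comp K.subtype)
    (fun x hx => Subtype.ext (hf _ hx)) hn (h.imp_right fun h L hL => ?_) Q rfl
  exact sub (L.equivMapOfInjective _ K.subtype_injective) (h _ (by rwa [card_map_of_injective K.subtype_injective]))

/-- Let G be a finite group with a faithful complex representation of degree n (on Fin n → ℂ) and p a prime. Suppose either that (n + 1) ^ 2 ≤ p, or that n + 1 < p and every subgroup of G whose order is not divisible by p ^ 2 has a normal Sylow p-subgroup. Then every Sylow p-subgroup of G is normal. -/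
theorem result {G : Type*} [Group G] [Finite G] (n : ℕ) (ρ : Representation ℂ G (Fin n → ℂ)) (hρ : Function.Injective ρ) (p : ℕ) [Fact p.Prime] (h : (n + 1) ^ 2 ≤ p ∨ (n + 1 < p ∧ ∀ K : Subgroup G, ¬ p ^ 2 ∣ Nat.card K → ∀ Q : Sylow p K, (Q : Subgroup K).Normal)) (P : Sylow p G) : (P : Subgroup G).Normal := by
  have hp : p.Prime := Fact.out
  have hχ : IsCharacter G ρ.character := ⟨n, ρ, rfl⟩
  have hd : charDegree ρ.character = n := by simp [charDegree]
  rcases n with _ | n
  · have : Subsingleton G := ⟨fun a b => hρ (Subsingleton.elim _ _)⟩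
    exact ⟨fun a ha g => by rwa [Subsingleton.elim (g * a * g⁻¹) a]⟩
  refine main (n := n + 1) (h.elim (fun h => by nlinarith) And.left) G hχ (fun x hx => hρ ?_) hd.le
    (h.imp_right And.right) P
  rw [map_one]
  exact (character_eq_finrank_iff ρ x).1 (hx.trans ρ.char_one)

end Cfsg.Agent.S0899
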