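import Cfsg.Statements.S0900
import Cfsg.Agent.Lib.Clifford.Gallagher

set_option autoImplicit false
open Cfsg

namespace Cfsg.Agent.S0900

open Cfsg.Lib.Clifford

/-- Let N be a normal subgroup of the finite group G, χ an irreducible character of G and ϑ an irreducible character of N having nonzero inner product with the restriction of χ. Consider: (a) the restriction of χ to N is e • ϑ for a natural number e with e ^ 2 equal to the index of N; (b) χ vanishes outside N and ϑ is invariant under conjugation by G; (c) ϑ is invariant and every irreducible character of G having nonzero inner product with the function induced from ϑ equals χ. Then (a) ↔ (b) and (a) ↔ (c). -/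
theorem result {G : Type*} [Group G] [Fintype G] (N : Subgroup G) [hN : N.Normal] [Fintype N] (χ : G → ℂ) (hχ : Cfsg.IsIrrCharacter G χ) (ϑ : N → ℂ) (hϑ : Cfsg.IsIrrCharacter N ϑ) (hcon : Cfsg.classInner (fun n : N => χ n) ϑ ≠ 0) : ((∃ e : ℕ, (fun n : N => χ n) = (e : ℂ) • ϑ ∧ e ^ 2 = N.index) ↔ ((∀ g : G, g ∉ N → χ g = 0) ∧ ∀ (g : G) (n : N), ϑ ⟨g * n * g⁻¹, hN.conj_mem (n : G) n.2 g⟩ = ϑ n)) ∧ ((∃ e : ℕ, (fun n : N => χ n) = (e : ℂ) • ϑ ∧ e ^ 2 = N.index) ↔ (∀ (g : G) (n : N), ϑ ⟨g * n * g⁻¹, hN.conj_mem (n : G) n.2 g⟩ = ϑ n ∧ ∀ ψ : G → ℂ, Cfsg.IsIrrCharacter G ψ → Cfsg.classInner (Cfsg.indFun N ϑ) ψ ≠ 0 → ψ = χ)) := by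
  classical
  obtain ⟨θ, rfl, -⟩ := exists_res _ ϑ
  have hN' : Nrm ⊤ N := nrm_of_normal ⊤ N
  have hχ' := irrOn_top.2 hχ
  have hθ : IrrOn N θ := hϑ
  have hd : dot N χ θ ≠ 0 := by rwa [dot_eq_classInner]
  have hI : (∀ (g : G) (n : N), res N θ ⟨g * n * g⁻¹, hN.conj_mem (n : G) n.2 g⟩ = res N θ n) ↔
      InvOn ⊤ N θ := ⟨fun h g _ n hn => h g ⟨n, hn⟩, fun h g n => h g trivial n n.2⟩
  have hA : (∃ e : ℕ, (fun n : N => χ n) = (e : ℂ) • res N θ ∧ e ^ 2 = N.index) ↔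
      InvOn ⊤ N θ ∧ mult N χ θ ^ 2 = N.relIndex ⊤ := by
    rw [Subgroup.relIndex_top_right]
    constructor
    · rintro ⟨e, h1, h2⟩
      have h3 : ∀ n ∈ N, χ n = ((e : ℂ) • θ) n := fun n hn => congrFun h1 ⟨n, hn⟩
      have h4 : dot N χ θ = e := by rw [dot_congr_left h3, dot_smul_left, hθ.dot_self, mul_one]
      exact ⟨invOn_of_eq_mul le_top hN' hχ'.classOn (h4 ▸ hd) h3, by rw [mult_of_eq h4, h2]⟩
    · rintro ⟨h1, h2⟩
      exact ⟨_, funext fun n => clifford_invOn le_top hN' hχ' hθ h1 hd n.2, h2⟩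
  rw [hA, hI]
  refine ⟨⟨fun ⟨h1, h2⟩ => ⟨fun g => (mult_sq_eq_iff_vanish le_top hN' hχ' hθ h1 hd).1 h2 g trivial,
    h1⟩, fun ⟨h1, h2⟩ => ⟨h2, (mult_sq_eq_iff_vanish le_top hN' hχ' hθ h2 hd).2 fun g _ => h1 g⟩⟩,
    fun ⟨h1, h2⟩ g n => ⟨hI.2 h1 g n, fun ψ hψ h => ?_⟩, fun h => ?_⟩
  · rw [mult_sq_eq_iff_unique le_top hN' hχ' hθ h1 hd, cut_top] at h2
    rw [indFun_res, ← dot_top, dot_ind_left le_top _ (irrOn_top.2 hψ).classOn, Ne,
      dot_eq_zero_comm] at h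
    rw [← Finset.mem_singleton, ← h2]
    exact mem_IrrOver.2 ⟨mem_Irr_top.2 hψ, h⟩
  · have h1 := hI.1 fun g n => (h g n).1
    refine ⟨h1, (mult_sq_eq_iff_unique le_top hN' hχ' hθ h1 hd).2 ?_⟩
    refine Finset.eq_singleton_iff_unique_mem.2 ⟨hχ'.cut_mem_IrrOver le_top hd, fun ψ hψ => ?_⟩
    obtain ⟨a, b⟩ := mem_IrrOver.1 hψ
    rw [cut_top]
    refine (h 1 1).2 ψ (mem_Irr_top.1 a) ?_
    rwa [indFun_res, ← dot_top, dot_ind_left le_top _ (irrOn_of_mem a).classOn, Ne,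
      dot_eq_zero_comm]

end Cfsg.Agent.S0900
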