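import Cfsg.Statements.S0901
import Cfsg.Agent.Lib.Block2.RootsLift

set_option autoImplicit false
open Cfsg

namespace Cfsg.Agent.S0901

/-- Let M be a maximal ideal of the ring of algebraic integers containing the prime p, and let U be the set of complex roots of unity of order prime to p. Then reduction modulo M is injective on U, and every algebraic integer not in M is congruent modulo M to an element of U (so U maps bijectively onto the nonzero residues). -/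
theorem result (p : ℕ) [Fact p.Prime] (M : Ideal Cfsg.AlgInt) (hM : Cfsg.IsPModular p M) : (∀ ε₁ ε₂ : Cfsg.AlgInt, (∃ m : ℕ, ¬ p ∣ m ∧ (ε₁ : ℂ) ^ m = 1) → (∃ m : ℕ, ¬ p ∣ m ∧ (ε₂ : ℂ) ^ m = 1) → ε₁ - ε₂ ∈ M → ε₁ = ε₂) ∧ (∀ a : Cfsg.AlgInt, a ∉ M → ∃ ε : Cfsg.AlgInt, (∃ m : ℕ, ¬ p ∣ m ∧ (ε : ℂ) ^ m = 1) ∧ a - ε ∈ M) := by
  refine ⟨?_, fun a ha => ?_⟩
  · rintro a b ⟨m, hm, ha⟩ ⟨n, hn, hb⟩ hab
    have hmn : ¬ p ∣ m * n := fun h => ((Nat.Prime.dvd_mul hM.1).mp h).elim hm hn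
    have ha' : a ^ m = 1 := Subtype.ext (by simpa using ha)
    have hb' : b ^ n = 1 := Subtype.ext (by simpa using hb)
    refine Cfsg.Lib.Block2.eq_of_pow_eq_one_of_sub_mem hM hmn ?_ ?_ hab
    · rw [pow_mul, ha', one_pow]
    · rw [mul_comm, pow_mul, hb', one_pow]
  · obtain ⟨ε, ⟨m, hm, hε⟩, h⟩ := Cfsg.Lib.Block2.exists_root_of_unity_sub_mem hM ha
    exact ⟨ε, ⟨m, hm, by simpa using congrArg Subtype.val hε⟩, h⟩

end Cfsg.Agent.S0901
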