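import Cfsg.Statements.S0904
import Cfsg.Agent.Lib.Small.BT

set_option autoImplicit false
open Cfsg

namespace Cfsg.Agent.S0904

open Cfsg.Lib.Small

/-- Let G be a finite simple group of order p ^ a * q ^ b * r with p, q, r distinct primes. Then every Sylow r-subgroup S of G satisfies C_G(S) = S. -/
theorem result {G : Type*} [Group G] [Finite G] [IsSimpleGroup G] (p q r a b : ℕ) (hp : p.Prime) (hq : q.Prime) [Fact r.Prime] (hpq : p ≠ q) (hpr : p ≠ r) (hqr : q ≠ r) (hcard : Nat.card G = p ^ a * q ^ b * r) (S : Sylow r G) : Subgroup.centralizer (S : Set G) = (S : Subgroup G) := by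
  have hr : r.Prime := Fact.out
  have h2 : ¬ r ^ 2 ∣ Nat.card G := fun h => by
    rw [hcard, sq, Nat.mul_dvd_mul_iff_right hr.pos, hr.dvd_mul] at h
    rcases h with h | h
    · exact hpr ((Nat.prime_dvd_prime_iff_eq hr hp).1 (hr.dvd_of_dvd_pow h)).symm
    · exact hqr ((Nat.prime_dvd_prime_iff_eq hr hq).1 (hr.dvd_of_dvd_pow h)).symm
  have hS : Nat.card S = r := by
    rw [S.card_eq_multiplicity, show (Nat.card G).factorization r = 1 from ?_, pow_one]
    refine le_antisymm ?_ ((hr.dvd_iff_one_le_factorization Nat.card_pos.ne').1 ⟨_, by rw [hcard, mul_comm]⟩)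
    by_contra h
    exact h2 ((hr.pow_dvd_iff_le_factorization Nat.card_pos.ne').2 (by omega))
  obtain ⟨⟨x, hxS⟩, hx⟩ := exists_prime_orderOf_dvd_card' (G := S) r (by rw [hS])
  rw [Subgroup.orderOf_mk] at hx
  have hz : Subgroup.zpowers x = S :=
    Subgroup.eq_of_le_of_card_ge (by simpa using hxS) (by rw [hS, Nat.card_zpowers, hx])
  change Subgroup.centralizer ((S : Subgroup G) : Set G) = _
  rw [← hz, Cfsg.Lib.Block2.centralizer_zpowers_eq]
  by_cases hc : IsMulCommutative G
  · have h1 : Subgroup.zpowers x = ⊤ := by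
      refine (Subgroup.Normal.eq_bot_or_eq_top ⟨fun n hn g => ?_⟩).resolve_left fun h => ?_
      · rwa [mul_comm' g n, mul_inv_cancel_right]
      · rw [Subgroup.zpowers_eq_bot] at h
        rw [h, orderOf_one] at hx
        exact hr.ne_one hx.symm
    rw [h1, eq_top_iff]
    exact fun g _ => Subgroup.mem_centralizer_singleton_iff.2 (mul_comm' _ _)
  refine centralizer_eq_of_three_primes hc hr hp hq h2 (fun l hl h => ?_) hx
  rw [hcard, hl.dvd_mul, hl.dvd_mul] at h
  rcases h with (h | h) | h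
  · exact Or.inr (Or.inl ((Nat.prime_dvd_prime_iff_eq hl hp).1 (hl.dvd_of_dvd_pow h)))
  · exact Or.inr (Or.inr ((Nat.prime_dvd_prime_iff_eq hl hq).1 (hl.dvd_of_dvd_pow h)))
  · exact Or.inl ((Nat.prime_dvd_prime_iff_eq hl hr).1 h)

end Cfsg.Agent.S0904
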