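import Cfsg.Statements.S0905
import Cfsg.Agent.Lib.Block2.PMod
import Cfsg.Agent.Lib.Block2.Count
import Cfsg.Agent.Lib.Core.PCore

set_option autoImplicit false
open Cfsg

namespace Cfsg.Agent.S0905

/-- Let F be a field of characteristic p and let g be an element of the finite group G no conjugate of which centralizes O_p(G). Then the class sum of g is a nilpotent element of the group algebra F[G]. -/
theorem result {G : Type*} [Group G] [Finite G] (p : ℕ) [Fact p.Prime] (F : Type*) [Field F] [CharP F p] (g : G) (hg : ∀ x : G, IsConj g x → x ∉ Subgroup.centralizer (Cfsg.pCore p G : Set G)) : IsNilpotent (∑ᶠ x ∈ ConjClasses.carrier (ConjClasses.mk g), MonoidAlgebra.single x (1 : F) : MonoidAlgebra F G) := by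
  classical
  have := Fintype.ofFinite G
  have hcoef : ∀ y : G, (∑ᶠ x ∈ ConjClasses.carrier (ConjClasses.mk g),
      MonoidAlgebra.single x (1 : F) : MonoidAlgebra F G).coeff y = if IsConj g y then 1 else 0 := by
    intro y
    rw [finsum_mem_eq_finite_toFinset_sum _ (Set.toFinite _)]
    simp [Finsupp.single_apply, Finsupp.finsetSum_apply, ConjClasses.mem_carrier_iff_mk_eq,
      ConjClasses.mk_eq_mk_iff_isConj, isConj_comm, -isConj_iff]
  refine Cfsg.Lib.Block2.isNilpotent_of_coset_sum_eq_zero (Cfsg.Lib.Core.isPGroup_pCore p G) _ ?_ ?_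
  · intro b
    induction b using MonoidAlgebra.induction_linear with
    | zero => simp
    | add x y hx hy => rw [mul_add, add_mul, hx, hy]
    | single m r =>
      ext y
      rw [MonoidAlgebra.coeff_mul_single_apply, MonoidAlgebra.coeff_single_mul_apply, hcoef, hcoef,
        mul_comm]
      have : IsConj g (y * m⁻¹) ↔ IsConj g (m⁻¹ * y) := by
        have h : IsConj (y * m⁻¹) (m⁻¹ * y) := isConj_iff.mpr ⟨m⁻¹, by group⟩
        exact ⟨fun h' => h'.trans h, fun h' => h'.trans h.symm⟩
      simp only [this]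
  · intro x
    have key := Cfsg.Lib.Block2.card_modEq_card_centralizer (Cfsg.Lib.Core.isPGroup_pCore p G)
      (fun y : G => IsConj g y ∧ x⁻¹ * y ∈ pCore p G) (by
        rintro a ha y ⟨h1, h2⟩
        refine ⟨h1.trans (isConj_iff.mpr ⟨a, rfl⟩), ?_⟩
        have : x⁻¹ * (a * y * a⁻¹) = (x⁻¹ * a * x⁻¹⁻¹) * (x⁻¹ * y) * a⁻¹ := by group
        rw [this]
        exact mul_mem (mul_mem ((pCore_normal p G).conj_mem a ha _) h2) (inv_mem ha))
    have h0 : Nat.card {y // (IsConj g y ∧ x⁻¹ * y ∈ pCore p G) ∧
        y ∈ Subgroup.centralizer (pCore p G : Set G)} = 0 := by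
      rw [Nat.card_eq_zero]
      exact Or.inl ⟨fun y => hg y.1 y.2.1.1 y.2.2⟩
    rw [h0, Nat.modEq_zero_iff_dvd] at key
    rw [finsum_eq_sum_of_fintype]
    simp only [hcoef]
    rw [Finset.sum_boole, CharP.cast_eq_zero_iff F p]
    convert key using 1
    rw [← Fintype.card_subtype, ← Nat.card_eq_fintype_card]
    exact Nat.card_congr
      { toFun := fun u => ⟨x * u.1, u.2, by simp⟩
        invFun := fun y => ⟨⟨x⁻¹ * y.1, y.2.2⟩, by simpa using y.2.1⟩
        left_inv := fun u => by simp
        right_inv := fun y => by simp }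

end Cfsg.Agent.S0905
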