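import Cfsg.Statements.S0916
import Cfsg.Agent.Lib.Amalg.Syl

set_option autoImplicit false
open Cfsg

namespace Cfsg.Agent.S0916

/-- Let P be a p-subgroup of the finite group G, C its centralizer and N its normalizer. Say that a conjugacy class (of G, or of N) has defect group P when P is a Sylow p-subgroup of the centralizer (in G, respectively in N) of some element of the class. Then: (i) if the class of g in G has defect group P, the elements of that class lying in C form a single N-class, again with defect group P; (ii) every N-class with defect group P arises this way from exactly one G-class with defect group P. -/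
theorem result {G : Type*} [Group G] [Finite G] (p : ℕ) [Fact p.Prime] (P : Subgroup G) (hP : IsPGroup p P) : (∀ g : G, (∃ S : Sylow p (Subgroup.centralizer ({g} : Set G)), (S : Subgroup (Subgroup.centralizer ({g} : Set G))).map (Subgroup.centralizer ({g} : Set G)).subtype = P) → (∃ c : G, IsConj g c ∧ c ∈ Subgroup.centralizer (P : Set G)) ∧ (∀ c₁ c₂ : G, IsConj g c₁ → IsConj g c₂ → c₁ ∈ Subgroup.centralizer (P : Set G) → c₂ ∈ Subgroup.centralizer (P : Set G) → ∃ n ∈ Subgroup.normalizer (P : Set G), n * c₁ * n⁻¹ = c₂)) ∧ (∀ c : G, c ∈ Subgroup.centralizer (P : Set G) → (∃ S : Sylow p (Subgroup.centralizer ({c} : Set G) ⊓ Subgroup.normalizer (P : Set G) : Subgroup G), (S : Subgroup ↥(Subgroup.centralizer ({c} : Set G) ⊓ Subgroup.normalizer (P : Set G))).map (Subgroup.centralizer ({c} : Set G) ⊓ Subgroup.normalizer (P : Set G)).subtype = P) → ∃ S : Sylow p (Subgroup.centralizer ({c} : Set G)), (S : Subgroup (Subgroup.centralizer ({c} : Set G))).map (Subgroup.centralizer ({c} : Set G)).subtype = P) := by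
  open Cfsg.Lib.Amalg in
  have hle : ∀ c : G, c ∈ Subgroup.centralizer (P : Set G) → P ≤ Subgroup.centralizer ({c} : Set G) := by
    intro c hc x hx
    rw [Subgroup.mem_centralizer_singleton_iff]
    exact (Subgroup.mem_centralizer_iff.mp hc) x hx
  refine ⟨fun g hg => ?_, fun c hc hS => ?_⟩
  · have hg' : Syl p P (Subgroup.centralizer ({g} : Set G)) := syl_iff_exists_sylow.mpr hg
    refine ⟨⟨g, IsConj.refl g, ?_⟩, ?_⟩
    · rw [Subgroup.mem_centralizer_iff]
      intro x hx
      exact Subgroup.mem_centralizer_singleton_iff.mp (hg'.le hx)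
    · have key : ∀ c : G, IsConj g c → c ∈ Subgroup.centralizer (P : Set G) →
          Syl p P (Subgroup.centralizer ({c} : Set G)) := by
        intro c hc hc'
        obtain ⟨x, rfl⟩ := isConj_iff.mp hc
        have h1 := hg'.conj x
        rw [cj_centralizer_singleton] at h1
        exact h1.of_card_ge hP (hle _ hc') (card_cj x P).le
      intro c₁ c₂ h1 h2 h3 h4
      obtain ⟨x, rfl⟩ := isConj_iff.mp (h1.symm.trans h2)
      have h5 := (key _ h1 h3).conj x
      rw [cj_centralizer_singleton] at h5
      obtain ⟨y, hy, e⟩ := h5.exists_conj (key _ h2 h4)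
      rw [← cj_mul, cj_eq_self_iff] at e
      refine ⟨y * x, e, ?_⟩
      have := Subgroup.mem_centralizer_singleton_iff.mp hy
      calc y * x * c₁ * (y * x)⁻¹ = y * (x * c₁ * x⁻¹) * y⁻¹ := by group
        _ = x * c₁ * x⁻¹ := by rw [this]; group
  · exact syl_iff_exists_sylow.mp (syl_of_syl_normalizer (syl_iff_exists_sylow.mpr hS))

end Cfsg.Agent.S0916
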