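import Cfsg.Statements.S0925
import Cfsg.Agent.Lib.Block2.Second

set_option autoImplicit false
open Cfsg

namespace Cfsg.Agent.S0925

/-- (i) Let ϑ be a class function on the finite group G and x a p-element, and suppose ϑ vanishes at every element whose p-part is conjugate to x. Then for every block B (relative to a maximal ideal M of the algebraic integers containing p) the B-part of ϑ — the sum over χ ∈ B of the inner product of ϑ with χ, times χ — also vanishes at every such element. (ii) Block orthogonality, its corollary: if the p-parts of g and h are not conjugate, then the sum over χ ∈ B of χ g * χ h⁻¹ is zero for every block B. -/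
theorem result {G : Type*} [Group G] [Finite G] (p : ℕ) [Fact p.Prime] (M : Ideal Cfsg.AlgInt) (hM : Cfsg.IsPModular p M) : (∀ (ϑ : G → ℂ), Cfsg.IsClassFunction G ϑ → ∀ x : G, (∃ k : ℕ, orderOf x = p ^ k) → (∀ u z : G, Cfsg.IsPPart p u z → IsConj x z → ϑ u = 0) → ∀ B : Set (Cfsg.IrrCharacter G), Cfsg.IsPBlock M B → ∀ u z : G, Cfsg.IsPPart p u z → IsConj x z → Cfsg.blockPart B ϑ u = 0) ∧ (∀ g h x y : G, Cfsg.IsPPart p g x → Cfsg.IsPPart p h y → ¬ IsConj x y → ∀ B : Set (Cfsg.IrrCharacter G), Cfsg.IsPBlock M B → ∑ᶠ χ ∈ B, (χ : G → ℂ) g * (χ : G → ℂ) h⁻¹ = 0) := by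
  open Cfsg.Lib.Block Cfsg.Lib.Block2 in
  have := hM.2.1
  refine ⟨fun ϑ _ x _ h0 B hB u z hz hxz => ?_,
    fun g h x y hx hy hxy B hB => block_orthogonality hM hB.isBlockUnion hx hy hxy⟩
  have hS := (isSectionClosed_section hM.1 x).compl
  have h1 : ϑ = Set.indicator {u : G | ∃ z, IsPPart p u z ∧ IsConj x z}ᶜ ϑ := by
    funext g
    by_cases hg : g ∈ {u : G | ∃ z, IsPPart p u z ∧ IsConj x z}ᶜ
    · rw [Set.indicator_of_mem hg]
    · rw [Set.indicator_of_notMem hg]
      obtain ⟨w, hw, hxw⟩ := not_not.mp hg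
      exact h0 g w hw hxw
  rw [h1, hS.blockPart_indicator hM hB.isBlockUnion, Set.indicator_of_notMem]
  exact not_not.mpr ⟨z, hz, hxz⟩

end Cfsg.Agent.S0925
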