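import Cfsg.Statements.S0932
import Cfsg.Agent.Lib.Char.Induce
import Cfsg.Agent.Lib.Block.Omega

set_option autoImplicit false
open Cfsg

namespace Cfsg.Agent.S0932

/-- Let H be a subgroup of the finite group G and ξ a character of H. For every g ∈ G, the sum of ξ h / ξ 1 over the elements h ∈ H that are conjugate in G to g equals the central character at g of the character of G induced from ξ (class size times value divided by degree). -/
theorem result {G : Type*} [Group G] [Fintype G] (H : Subgroup G) (ξ : H → ℂ) (hξ : Cfsg.IsCharacter H ξ) (g : G) : Cfsg.inducedCentralChar H ξ g = Cfsg.centralChar (Cfsg.indFun H ξ) g := by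
  open Cfsg.Lib.Char Cfsg.Lib.Block in
  classical
  have := Fintype.ofFinite H
  by_cases h1 : ξ 1 = 0
  · rw [hξ.eq_zero_of_apply_one h1, indFun_zero]
    simp [inducedCentralChar, centralChar]
  rw [← omega_res_classSum, ← omega_classSum (isClassFunction_indFun ξ), omega_apply, omega_apply,
    indFun_one, charExt_apply, charExt_apply]
  have h2 := classInner_indFun_left ξ (χ := fun x => (classSum ℂ g).coeff x)
    (fun x y => isCen_classSum g y x)
  have h3 : ∀ x, (starRingEnd ℂ) ((classSum ℂ g).coeff x) = (classSum ℂ g).coeff x := by
    intro x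
    rw [coeff_classSum]; split_ifs <;> simp
  simp only [classInner, h3] at h2
  have h4 := card_ne_zero G
  have h5 := card_ne_zero H
  have h6 : (H.index : ℂ) ≠ 0 := by exact_mod_cast H.index_ne_zero_of_finite
  have h7 : (Nat.card G : ℂ) = Nat.card H * H.index := by exact_mod_cast H.card_mul_index.symm
  simp only [coeff_res, mul_comm ((classSum ℂ g).coeff _)]
  rw [h7] at h2
  field_simp at h2 ⊢
  rw [h2]

end Cfsg.Agent.S0932
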