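import Cfsg.Statements.S0943
import Cfsg.Agent.Lib.Block2.Orth

set_option autoImplicit false
open Cfsg

namespace Cfsg.Agent.S0943

/-- Let χ be an irreducible character of the finite group G and u, v ∈ G. If χ (x * y) = χ (u * v) whenever x is conjugate to u and y is conjugate to v, then χ u * χ v = χ 1 * χ (u * v). (Multiply the class sums of u and v and apply the central character of χ.) -/
theorem result {G : Type*} [Group G] [Finite G] (χ : Cfsg.IrrCharacter G) (u v : G) (hc : ∀ x y : G, IsConj u x → IsConj v y → (χ : G → ℂ) (x * y) = (χ : G → ℂ) (u * v)) : (χ : G → ℂ) u * (χ : G → ℂ) v = (χ : G → ℂ) 1 * (χ : G → ℂ) (u * v) := by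
  open Cfsg.Lib.Char in
  have := Fintype.ofFinite G
  have h1 := fun x => Cfsg.Lib.Block2.sum_apply_mul_conj χ.2 x v
  have h2 : ∑ k : G, (χ : G → ℂ) (u * (k * v * k⁻¹)) = (Nat.card G : ℂ) * (χ : G → ℂ) (u * v) := by
    rw [Finset.sum_congr rfl fun k _ => hc u (k * v * k⁻¹) (IsConj.refl u) (isConj_iff.mpr ⟨k, rfl⟩)]
    simp
  rw [h1] at h2
  have h3 := χ.2.apply_one_ne_zero
  have h4 := card_ne_zero G
  field_simp at h2
  rw [h2]

end Cfsg.Agent.S0943
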