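import Cfsg.Statements.S0944
import Cfsg.Agent.Lib.Char.Basic

set_option autoImplicit false
open Cfsg

namespace Cfsg.Agent.S0944

/-- Let χ be an irreducible character of the finite group G and u an involution. Then χ u is a rational integer n with n ≡ χ 1 (mod 2). -/
theorem result {G : Type*} [Group G] [Finite G] (χ : Cfsg.IrrCharacter G) (u : G) (hu : orderOf u = 2) : ∃ n : ℤ, (χ : G → ℂ) u = (n : ℂ) ∧ (2 : ℤ) ∣ (Cfsg.charDegree (χ : G → ℂ) : ℤ) - n := by
  open Cfsg.Lib.Char in
  obtain ⟨s, h0, h1, h2, -⟩ := χ.2.isCharacter.exists_eigenvalues u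
  have key : ∀ t : Multiset ℂ, (∀ z ∈ t, z ^ 2 = 1) →
      ∃ n : ℤ, t.sum = n ∧ (2 : ℤ) ∣ (Multiset.card t : ℤ) - n := by
    intro t
    induction t using Multiset.induction_on with
    | empty => intro _; exact ⟨0, by simp, by simp⟩
    | cons a t ih =>
      intro h
      obtain ⟨n, hn, hd⟩ := ih (fun z hz => h z (Multiset.mem_cons_of_mem hz))
      rcases mul_self_eq_one_iff.mp ((sq a).symm.trans (h a (Multiset.mem_cons_self a t))) with ha | ha
      · refine ⟨n + 1, by rw [Multiset.sum_cons, hn, ha]; push_cast; ring, ?_⟩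
        rw [Multiset.card_cons]; push_cast; omega
      · refine ⟨n - 1, by rw [Multiset.sum_cons, hn, ha]; push_cast; ring, ?_⟩
        rw [Multiset.card_cons]; push_cast; omega
  obtain ⟨n, hn, hd⟩ := key s (by rwa [hu] at h1)
  refine ⟨n, by rw [h2, hn], ?_⟩
  have : charDegree (χ : G → ℂ) = Multiset.card s := by
    rw [charDegree, ← h0]; simp
  rw [this]; exact hd

end Cfsg.Agent.S0944
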