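import Cfsg.Statements.S0948
import Cfsg.Agent.Lib.Block.KleinB

set_option autoImplicit false
open Cfsg

namespace Cfsg.Agent.S0948

open Cfsg.Lib.Block Cfsg.Lib.Char Cfsg.Lib.Amalg
set_option linter.style.haveILetI false

/-- Let the finite group G have a Sylow 2-subgroup P that is a Klein four-group, suppose all involutions of G are conjugate, and fix a maximal ideal M of the algebraic integers containing 2. Then the principal block consists of exactly four irreducible characters, the principal character and ζ₂, ζ₃, ζ₄, and there is a sign ε such that for every involution z: ζ₂ z = 1, ζ₃ z = ε, ζ₄ z = -1; moreover ζ₂ 1 ≡ 1, ζ₃ 1 ≡ ε, ζ₄ 1 ≡ -1 (mod 4), and 1 + ζ₂ y + ε ζ₃ y - ζ₄ y = 0 for every y of odd order. -/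
theorem result {G : Type*} [Group G] [Finite G] (M : Ideal Cfsg.AlgInt) (hM : Cfsg.IsPModular 2 M) (P : Sylow 2 G) (hP : IsKleinFour (P : Subgroup G)) (hone : ∀ s t : G, orderOf s = 2 → orderOf t = 2 → IsConj s t) : ∃ ζ₂ ζ₃ ζ₄ : Cfsg.IrrCharacter G, ∃ ε : ℤ, (ε = 1 ∨ ε = -1) ∧ (ζ₂ : G → ℂ) ≠ (fun _ => 1) ∧ (ζ₃ : G → ℂ) ≠ (fun _ => 1) ∧ ζ₂ ≠ ζ₃ ∧ ζ₂ ≠ ζ₄ ∧ ζ₃ ≠ ζ₄ ∧ Cfsg.principalBlock M G = {χ : Cfsg.IrrCharacter G | (χ : G → ℂ) = (fun _ => 1) ∨ χ = ζ₂ ∨ χ = ζ₃ ∨ χ = ζ₄} ∧ (∀ z : G, orderOf z = 2 → (ζ₂ : G → ℂ) z = 1 ∧ (ζ₃ : G → ℂ) z = (ε : ℂ) ∧ (ζ₄ : G → ℂ) z = -1) ∧ (4 : ℤ) ∣ (Cfsg.charDegree (ζ₂ : G → ℂ) : ℤ) - 1 ∧ (4 : ℤ) ∣ (Cfsg.charDegree (ζ₃ : G → ℂ) : ℤ) - ε ∧ (4 : ℤ) ∣ (Cfsg.charDegree (ζ₄ : G → ℂ) : ℤ) + 1 ∧ ∀ y : G, Odd (orderOf y) → 1 + (ζ₂ : G → ℂ) y + (ε : ℂ) * (ζ₃ : G → ℂ) y - (ζ₄ : G → ℂ) y = 0 := by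
  classical
  haveI := hM.2.1
  haveI : Fact (Nat.Prime 2) := ⟨Nat.prime_two⟩
  haveI := Fintype.ofFinite (Cfsg.principalBlock M G)
  obtain ⟨ε, hε, ho, h4, hv, hd, hr⟩ := exists_kleinB hM P hP hone
  have h1 := hr 1 (by simp)
  simp only [← Lib.Block2.irr_cast_deg] at h1
  have h1' : ∑ χ, ε χ * Cfsg.charDegree χ.1.1 = 0 := by exact_mod_cast h1
  have hpos : ∀ χ : Cfsg.principalBlock M G, (0 : ℤ) < Cfsg.charDegree χ.1.1 := fun χ =>
    Int.natCast_pos.2 χ.1.2.charDegree_pos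
  obtain ⟨c, hc⟩ : ∃ c, ε c = -1 := by
    by_contra h
    refine (Finset.sum_pos (fun χ _ => ?_) ⟨oneB M G, Finset.mem_univ _⟩).ne' h1'
    rw [(hε χ).resolve_right fun e => h ⟨χ, e⟩, one_mul]
    exact hpos χ
  obtain ⟨a, ha1, ha⟩ : ∃ a, a ≠ oneB M G ∧ ε a = 1 := by
    by_contra h
    have h2 : ∑ χ ∈ Finset.univ.erase (oneB M G), ε χ * Cfsg.charDegree χ.1.1
        ≤ ∑ χ ∈ Finset.univ.erase (oneB M G), -1 := Finset.sum_le_sum fun χ hχ => by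
      rw [(hε χ).resolve_left fun e => h ⟨χ, Finset.ne_of_mem_erase hχ, e⟩]
      have := hpos χ
      omega
    rw [← Finset.add_sum_erase _ _ (Finset.mem_univ (oneB M G)), ho,
      Lib.Block2.deg_eq_of_apply_one (n := 1) (by simp)] at h1'
    rw [Finset.sum_const, Finset.card_erase_of_mem (Finset.mem_univ _), Finset.card_univ, h4] at h2
    norm_num at h2 h1'
    omega
  have hc1 : c ≠ oneB M G := fun e => by rw [e, ho] at hc; omega
  have hac : a ≠ c := fun e => by rw [e, hc] at ha; omega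
  obtain ⟨b, hb⟩ := Finset.card_eq_one.1
    (show (((Finset.univ.erase (oneB M G)).erase a).erase c).card = 1 by
      rw [Finset.card_erase_of_mem (by simp [hc1, hac.symm]), Finset.card_erase_of_mem (by simp [ha1]),
        Finset.card_erase_of_mem (Finset.mem_univ _), Finset.card_univ, h4])
  have hb' : ∀ χ, χ = b ↔ χ ≠ c ∧ χ ≠ a ∧ χ ≠ oneB M G := fun χ => by
    rw [← Finset.mem_singleton, ← hb]; simp
  obtain ⟨hbc, hba, hb1⟩ := (hb' b).1 rfl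
  have hodd : ∀ χ : Cfsg.principalBlock M G, ∀ z : G, orderOf z = 2 → χ.1.1 z = ε χ :=
    fun χ z hz => hv χ z (hz ▸ dvd_rfl)
  refine ⟨a.1, b.1, c.1, ε b, hε b, fun h => ha1 (eq_oneB_iff.2 h), fun h => hb1 (eq_oneB_iff.2 h),
    fun e => hba (Subtype.ext e).symm, fun e => hac (Subtype.ext e), fun e => hbc (Subtype.ext e),
    ?_, fun z hz => ⟨by rw [hodd a z hz, ha, Int.cast_one], hodd b z hz, by
      rw [hodd c z hz, hc, Int.cast_neg, Int.cast_one]⟩, ha ▸ hd a, hd b, by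
      simpa [hc] using hd c, fun y hy => ?_⟩
  · ext χ
    refine ⟨fun h => ?_, ?_⟩
    · have := (hb' ⟨χ, h⟩).2
      simp only [ne_eq, eq_oneB_iff, Subtype.ext_iff (a2 := a), Subtype.ext_iff (a2 := b),
        Subtype.ext_iff (a2 := c)] at this
      simp only [Set.mem_setOf_eq]
      tauto
    · rintro (h | rfl | rfl | rfl)
      exacts [(show χ = (oneB M G).1 from Subtype.ext h) ▸ (oneB M G).2, a.2, b.2, c.2]
  · have := hr y hy.not_two_dvd_nat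
    rw [sum_eq_add_three _ ha1 hc1 hac, hb, Finset.sum_singleton, ho, ha, hc, oneB_apply] at this
    push_cast at this
    linear_combination this

end Cfsg.Agent.S0948
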