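import Cfsg.Statements.S0951
import Cfsg.Agent.Lib.Block.ZStar

set_option autoImplicit false
open Cfsg

namespace Cfsg.Agent.S0951

open Cfsg.Lib.Block Cfsg.Lib.Char Cfsg.Lib.Amalg
set_option linter.style.haveILetI false

/-- Let S be a Sylow 2-subgroup of the finite group G isomorphic to the quaternion group of order 8. Suppose G has no nontrivial normal subgroup of odd order and G ≠ S. Then, relative to any maximal ideal M of the algebraic integers containing 2, the principal block of G consists of exactly 7 irreducible characters. -/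
theorem result {G : Type*} [Group G] [Finite G] (M : Ideal Cfsg.AlgInt) (hM : Cfsg.IsPModular 2 M) (S : Sylow 2 G) (e : (S : Subgroup G) ≃* QuaternionGroup 2) (hO : ∀ N : Subgroup G, N.Normal → Odd (Nat.card N) → N = ⊥) (hG : (S : Subgroup G) ≠ ⊤) : Nat.card (Cfsg.principalBlock M G) = 7 := by
  haveI := hM.2.1
  haveI : Fact (Nat.Prime 2) := ⟨Nat.prime_two⟩
  obtain ⟨a, x, h⟩ := exists_quatData e
  obtain ⟨A, F, e, t, j, hq⟩ := (h.q8Hyp (by
    rw [h.center_eq two_ne_zero hO (by decide)]; exact Subgroup.mem_zpowers _) fun hn => by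
      have h1 := (Lib.Transfer.sylowIn_top S).resOf_sup
      rw [hO _ (Lib.Transfer.resOf_normal ⊤) (Nat.coprime_two_right.1 hn.coprime), bot_sup_eq] at h1
      exact hG h1).exists_q8Block hM
  exact hq.card_principalBlock

end Cfsg.Agent.S0951
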