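import Cfsg.Statements.S0952
import Cfsg.Agent.Lib.Block2.Second

set_option autoImplicit false
open scoped ComplexConjugate
open Cfsg

namespace Cfsg.Agent.S0952

/-- Let χ and ψ be irreducible characters of the finite group G lying in different blocks relative to a maximal ideal M of the algebraic integers containing the prime p. Then the sum of χ x * conj (ψ x) over the elements x of order prime to p is zero. -/
theorem result {G : Type*} [Group G] [Finite G] (p : ℕ) [Fact p.Prime] (M : Ideal Cfsg.AlgInt) (hM : Cfsg.IsPModular p M) (χ ψ : Cfsg.IrrCharacter G) (h : ¬ Cfsg.SameBlock M (χ : G → ℂ) (ψ : G → ℂ)) : ∑ᶠ x ∈ {x : G | ¬ p ∣ orderOf x}, (χ : G → ℂ) x * conj ((ψ : G → ℂ) x) = 0 := by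
  open Cfsg.Lib.Block Cfsg.Lib.Block2 Cfsg.Lib.Char in
  have := hM.2.1
  have := Fintype.ofFinite G
  have key := (isSectionClosed_regular (G := G) hM.1).classInner_indicator_eq_zero hM h
  rw [finsum_mem_def, finsum_eq_sum_of_fintype]
  have h2 := card_mul_classInner (Set.indicator {g : G | ¬ p ∣ orderOf g} (χ : G → ℂ)) (ψ : G → ℂ)
  rw [key, mul_zero] at h2
  rw [h2]
  refine Finset.sum_congr rfl fun g _ => ?_
  by_cases hg : g ∈ {g : G | ¬ p ∣ orderOf g}
  · rw [Set.indicator_of_mem hg, Set.indicator_of_mem hg]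
  · rw [Set.indicator_of_notMem hg, Set.indicator_of_notMem hg, zero_mul]

end Cfsg.Agent.S0952
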