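import Cfsg.Statements.S0953
import Cfsg.Agent.Lib.Block2.Num
import Cfsg.Agent.S0920

set_option autoImplicit false
open Cfsg

namespace Cfsg.Agent.S0953

/-- Let P be a Sylow p-subgroup of the finite group G with normalizer N, and fix a maximal ideal M of the algebraic integers containing p. The number of blocks of G having P as a defect group equals the number of conjugacy classes of N consisting of elements of order prime to p that centralize P. -/
theorem result {G : Type*} [Group G] [Finite G] (p : ℕ) [Fact p.Prime] (M : Ideal Cfsg.AlgInt) (hM : Cfsg.IsPModular p M) (P : Sylow p G) : Nat.card {B : Set (Cfsg.IrrCharacter G) // Cfsg.IsPBlock M B ∧ Cfsg.IsDefectGroup p M B (P : Subgroup G)} = Nat.card {C : ConjClasses (Subgroup.normalizer ((P : Subgroup G) : Set G)) // ∀ n : Subgroup.normalizer ((P : Subgroup G) : Set G), ConjClasses.mk n = C → ¬ p ∣ orderOf n ∧ (n : G) ∈ Subgroup.centralizer ((P : Subgroup G) : Set G)} := by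
  open Cfsg.Lib Cfsg.Lib.Block Cfsg.Lib.Block2 Cfsg.Lib.Char Cfsg.Lib.Amalg in
  have := hM.2.1
  classical
  have hN : ((P : Subgroup G).subgroupOf (Subgroup.normalizer ((P : Subgroup G) : Set G))).Normal :=
    Subgroup.normal_in_normalizer
  have hS : Syl p ((P : Subgroup G).subgroupOf (Subgroup.normalizer ((P : Subgroup G) : Set G))) ⊤ :=
    ((syl_top P).of_le Subgroup.le_normalizer le_top).subgroupOf_top
  have hdef : ∀ b, IsPBlock M b → IsDefectGroup p M b
      ((P : Subgroup G).subgroupOf (Subgroup.normalizer ((P : Subgroup G) : Set G))) := fun b hb => by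
    obtain ⟨D, hD⟩ := hb.exists_isDefectGroup p
    exact hS.eq_of_le D (hD.normal_le hM hb hS.isPGroup) le_top hD.isPGroup ▸ hD
  obtain ⟨h1, h2⟩ := S0920.result p M hM (P : Subgroup G) P.isPGroup'
  have e1 : Nat.card {B : Set (IrrCharacter G) // IsPBlock M B ∧ IsDefectGroup p M B P} =
      Nat.card {b : Set (IrrCharacter (Subgroup.normalizer ((P : Subgroup G) : Set G))) //
        IsPBlock M b ∧ True} := by
    choose F hF using fun B : {B // IsPBlock M B ∧ IsDefectGroup p M B (P : Subgroup G)} =>
      h2 B B.2.1 B.2.2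
    refine Nat.card_eq_of_bijective (fun B => ⟨F B, (hF B).1.1, trivial⟩) ⟨fun B B' h => ?_, ?_⟩
    · have h3 := (hF B).1.2.2
      rw [show F B = F B' from congrArg Subtype.val h] at h3
      exact Subtype.ext (h3.unique (hF B').1.2.2)
    · rintro ⟨b, hb, -⟩
      obtain ⟨B, h3, h4, h5⟩ := h1 b hb (hdef b hb)
      exact ⟨⟨B, h3, h4⟩, Subtype.ext ((hF ⟨B, h3, h4⟩).2 b ⟨hb, hdef b hb, h5⟩).symm⟩
  rw [e1]
  refine le_antisymm (card_blocks_le _ _ fun b b' g _ _ hb' _ _ h n hn => ?_) ?_
  · have h3 : (eB M b').coeff n ≠ 0 := by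
      rwa [(isCen_eB b').coeff_eq (ConjClasses.mk_eq_mk_iff_isConj.1 hn)]
    exact ⟨not_dvd_orderOf_of_coeff hM hb'.isBlockUnion h3,
      (mem_centralizer_subgroupOf_iff Subgroup.le_normalizer n).1
        ((supp_eB_of_normal hM hb'.isBlockUnion hS.isPGroup fun _ h _ => h).mem h3)⟩
  · simp only [and_true]
    haveI := Fintype.ofFinite {C : ConjClasses (Subgroup.normalizer ((P : Subgroup G) : Set G)) //
      ∀ n : Subgroup.normalizer ((P : Subgroup G) : Set G), ConjClasses.mk n = C →
        ¬ p ∣ orderOf n ∧ (n : G) ∈ Subgroup.centralizer ((P : Subgroup G) : Set G)}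
    rw [Nat.card_eq_fintype_card, Nat.card_eq_fintype_card]
    refine card_le_of_biorth (fun C b => lamB M b.1 (classSum (resField M) (rep C.1)))
      (fun b C => (setSum (resField M) {x | ∃ k, orderOf x = p ^ k} * eB M b.1).coeff (rep C.1))
      fun C C' => ?_
    have h3 := congrArg (fun a => a.coeff (rep C'.1))
      (setSum_pElements_mul_eq_sum hM (isCen_classSum (S := resField M) (rep C.1)))
    simp only [coeff_sum', coeff_smul'] at h3
    rw [← h3, coeff_setSum_pElements_mul, coeff_classSum, isConj_rep_iff, mk_rep]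
    · by_cases h : C = C'
      · simp [h]
      · simp [h, Subtype.ext_iff.not.1 h]
    · intro u hu hu1
      refine coeff_classSum_of_not_isConj fun h => ?_
      have h4 := (C.2 _ ((isConj_rep_iff _ _).1 h).symm).1
      have h5 := C'.2 _ (mk_rep _)
      obtain ⟨k, hk⟩ := hu
      have h6 := hS.mem_of_mem_normalizer (x := u) (k := k) (by rw [← hk, pow_orderOf_eq_one])
        (Subgroup.mem_top _) (Subgroup.le_normalizer_of_normal (Subgroup.mem_top _))
      have h7 : IsPPart p (u⁻¹ * rep C'.1) u⁻¹ := isPPart_mul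
        (Subtype.ext (h5.2 _ (inv_mem h6))) ⟨k, by rwa [orderOf_inv]⟩ h5.1
      exact hu1 (inv_eq_one.1 ((h7.eq_one_iff hM.1).2 h4))

end Cfsg.Agent.S0953
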