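import Cfsg.Statements.S4441
import Cfsg.Agent.Lib.Small.DefOne

set_option autoImplicit false
open Cfsg

namespace Cfsg.Agent.S4441

open Cfsg.Lib.Small Cfsg.Lib.Char Cfsg.Lib.Block

/-- Let p be an odd prime and G a finite group whose Sylow p-subgroup P has order p; let C = C_G(P), N = N_G(P), e the index of C in N and t = (p − 1)/e; fix a maximal ideal M of the algebraic integers containing p and let B₀ be the principal block. Then B₀ is the disjoint union of a set X of e characters and a set Y of t characters such that: each χ ∈ X has a sign ε_χ with χ(1) ≡ ε_χ (mod p) and χ(x y) = ε_χ for every non-identity x ∈ P and every p-regular y ∈ C; all members of Y agree on the p-regular elements of G; there is one sign ε with θ(1) ≡ ε e (mod p) for every θ ∈ Y; and for every θ ∈ Y and every p-regular g, ε θ(g) = Σ_{χ ∈ X} ε_χ χ(g). -/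
theorem result {G : Type*} [Group G] [Fintype G] (p : ℕ) [Fact p.Prime] (M : Ideal Cfsg.AlgInt) (hM : Cfsg.IsPModular p M) (hodd : p ≠ 2) (P : Sylow p G) (hP : Nat.card P = p) (e : ℕ) (he : (Subgroup.centralizer ((P : Subgroup G) : Set G)).relIndex (Subgroup.normalizer ((P : Subgroup G) : Set G)) = e) : ∃ X Y : Set (Cfsg.IrrCharacter G), Cfsg.principalBlock M G = X ∪ Y ∧ Disjoint X Y ∧ Nat.card X = e ∧ Nat.card Y = (p - 1) / e ∧ ∃ (εX : Cfsg.IrrCharacter G → ℤ) (ε : ℤ), (∀ χ ∈ X, (εX χ = 1 ∨ εX χ = -1) ∧ (Cfsg.charDegree (χ : G → ℂ) : ℤ) ≡ εX χ [ZMOD p] ∧ ∀ x : G, x ∈ (P : Subgroup G) → x ≠ 1 → ∀ y : G, y ∈ Subgroup.centralizer ((P : Subgroup G) : Set G) → ¬ p ∣ orderOf y → (χ : G → ℂ) (x * y) = (εX χ : ℂ)) ∧ (ε = 1 ∨ ε = -1) ∧ (∀ θ ∈ Y, (Cfsg.charDegree (θ : G → ℂ) : ℤ) ≡ ε * (e : ℤ) [ZMOD p]) ∧ (∀ θ ∈ Y, ∀ θ' ∈ Y, ∀ g : G, ¬ p ∣ orderOf g → (θ : G → ℂ) g = (θ' : G → ℂ) g) ∧ ∀ θ ∈ Y, ∀ g : G, ¬ p ∣ orderOf g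 → (ε : ℂ) * (θ : G → ℂ) g = ∑ᶠ χ ∈ X, (εX χ : ℂ) * (χ : G → ℂ) g := by
  classical
  haveI := hM.2.1
  obtain ⟨D⟩ := exists_dOne hP P.not_dvd_index
  obtain ⟨X, Y, κ, c, H⟩ := D.exists_tree hM (θ := principalIrr _) (fun _ _ => rfl)
    (D.induced_principal hM)
  have h1 : Nat.card D.a.range = e := D.card_range_a.trans he
  have h2 : Nat.card (D.E (principalIrr _)) = e := by rw [D.E_principal, h1]
  have h3 : charDegree (principalIrr (Subgroup.centralizer ((P : Subgroup G) : Set G))).1 = 1 :=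
    charDegree_one
  have he0 : (e : ZMod p) ≠ 0 := by
    rw [Ne, ZMod.natCast_eq_zero_iff, ← h1]; exact DOne.not_dvd_card_units _
  refine ⟨X, Y, Set.ext H.mem, Finset.disjoint_coe.2 H.disj, by rw [← h2, ← H.card_X]; simp, ?_,
    fun χ => - c χ, κ, fun χ hχ => ⟨by have := H.sign_c χ hχ; dsimp only; omega, ?_, fun x hx hx1 y hy hpy => ?_⟩,
    H.sign, fun θ hθ => by simpa only [h1, h3, Nat.cast_one, one_mul] using H.deg_Y θ hθ, H.regular, fun θ hθ g hg => ?_⟩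
  · rw [← H.card_Y, h2, Nat.mul_div_cancel _ (h2 ▸ Nat.card_pos)]; simp
  · have := H.deg_X χ hχ
    rw [h1, h2, h3, ← ZMod.intCast_eq_intCast_iff] at this
    rw [← ZMod.intCast_eq_intCast_iff]
    apply mul_left_cancel₀ he0
    push_cast at this ⊢
    rw [this]; ring
  · have hc : D.π (⟨x, D.le_C hx⟩ * ⟨y, hy⟩) ≠ 0 := by
      rw [D.π_mul, (D.π_eq_zero ⟨y, hy⟩).2 (by rwa [← Subgroup.orderOf_coe]), add_zero]
      exact D.π_ne_zero hx hx1
    refine (D.value_principal hM ((H.mem χ).2 (Or.inl hχ)) hc).trans ?_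
    simp only [H.const χ hχ, ← Finset.mul_sum, sum_units_psi hc]
    simp
  · rw [finsum_mem_coe_finset, eq_neg_of_add_eq_zero_left (H.rel θ hθ g hg)]
    simp

end Cfsg.Agent.S4441
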