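import Cfsg.Statements.S0963
import Cfsg.Agent.Lib.Block2.Cover

set_option autoImplicit false
open Cfsg

namespace Cfsg.Agent.S0963

/-- Let N be a normal subgroup of the finite group G, χ an irreducible character of G and θ an irreducible character of N. Then θ occurs in the restriction of χ to N if and only if, for every n ∈ N, the central character of χ at n (class size in G times χ n over χ 1) equals the sum of θ m / θ 1 over the elements m of N conjugate in G to n. -/
theorem result {G : Type*} [Group G] [Fintype G] (N : Subgroup G) [N.Normal] [Fintype N] (χ : Cfsg.IrrCharacter G) (θ : Cfsg.IrrCharacter N) : Cfsg.classInner (fun n : N => (χ : G → ℂ) n) (θ : N → ℂ) ≠ 0 ↔ ∀ n : N, Cfsg.centralChar (χ : G → ℂ) (n : G) = Cfsg.inducedCentralChar N (θ : N → ℂ) (n : G) := by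
  open Cfsg.Lib.Block Cfsg.Lib.Block2 Cfsg.Lib.Char Cfsg.Lib.Amalg in
  skip
  have hs : ∀ {n : G}, n ∈ N → Supp N (classSum ℂ n) := by
    intro n hn g hg
    refine coeff_classSum_of_not_isConj fun h => hg ?_
    obtain ⟨c, rfl⟩ := isConj_iff.1 h
    exact Subgroup.Normal.conj_mem inferInstance n hn c
  classical
  constructor
  · intro h n
    have h' : Over N.subtype (χ : G → ℂ) (θ : N → ℂ) := over_iff.2 h
    rw [← omega_classSum χ.2.isCharacter.isClassFunction, ← omega_res_classSum]
    exact h'.omega_eq_res (isCen_classSum _) (hs n.2)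
  · intro h
    refine over_iff (f := N.subtype).1 ((over_iff_charExt _ χ.2.isCharacter θ).2 fun h0 => ?_)
    rw [push_subtype] at h0
    set z : MonoidAlgebra ℂ G := ∑ x : G, cjA x (IB {θ}) with hz
    have hzc : IsCen z := by
      refine isCen_iff_cjA.2 fun y => ?_
      rw [hz, map_sum]
      simp only [← cjA_mul]
      exact Equiv.sum_comp (Equiv.mulLeft y) fun x => cjA x (IB {θ})
    have hzs : Supp N z := supp_sum fun x _ => by
      have := (cenIn_IB {θ}).supp.cjA x
      rwa [cj_normal] at this
    have e : omega (χ : G → ℂ) z = (omega (θ : N → ℂ) ∘ₗ res N) z := by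
      refine hzc.linearMap_eq fun g hg => ?_
      rw [LinearMap.comp_apply, omega_classSum χ.2.isCharacter.isClassFunction, omega_res_classSum]
      exact h ⟨g, hzs.mem hg⟩
    have e1 : omega (χ : G → ℂ) z = 0 := by
      rw [omega_apply, hz, map_sum, Finset.sum_eq_zero, zero_div]
      intro x _
      rw [cjA_eq_mul, charExt_mul_comm χ.2.isCharacter.isClassFunction, ← mul_assoc,
        MonoidAlgebra.single_mul_single, inv_mul_cancel, one_mul, ← MonoidAlgebra.one_def, one_mul]
      exact h0
    have e2 : (omega (θ : N → ℂ) ∘ₗ res N) z =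
        ((∑ x : G, if θ ∈ conjSet N N x {θ} then 1 else 0 : ℕ) : ℂ) := by
      rw [hz, map_sum, Nat.cast_sum]
      refine Finset.sum_congr rfl fun x _ => ?_
      rw [← IB_conjSet (cj_normal x N), LinearMap.comp_apply, res_IB, omega_idem]
      split_ifs <;> simp
    rw [e1, e2, eq_comm, Nat.cast_eq_zero, Finset.sum_eq_zero_iff] at e
    have := e 1 (Finset.mem_univ _)
    rw [if_pos] at this
    · exact one_ne_zero this
    · exact ⟨θ, rfl, fun c c' e => by rw [Subtype.ext (e.trans (by simp) : (c' : G) = c)]⟩

end Cfsg.Agent.S0963
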