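import Cfsg.Statements.S0964
import Cfsg.Agent.Lib.Block2.Cover

set_option autoImplicit false
open Cfsg

namespace Cfsg.Agent.S0964

/-- Let N be a normal subgroup of the finite group G, B a block of G and b a block of N relative to a maximal ideal M of the algebraic integers containing the prime p. Suppose some χ ∈ B has a constituent θ ∈ b on restriction to N. Then for every χ' ∈ B and every constituent ψ of the restriction of χ' to N there are g ∈ G and θ' ∈ b with ψ n = θ' (g n g⁻¹) for all n ∈ N. -/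
theorem result {G : Type*} [Group G] [Fintype G] (p : ℕ) [Fact p.Prime] (M : Ideal Cfsg.AlgInt) (hM : Cfsg.IsPModular p M) (N : Subgroup G) [hN : N.Normal] [Fintype N] (B : Set (Cfsg.IrrCharacter G)) (hB : Cfsg.IsPBlock M B) (b : Set (Cfsg.IrrCharacter N)) (hb : Cfsg.IsPBlock M b) (χ : Cfsg.IrrCharacter G) (hχ : χ ∈ B) (θ : Cfsg.IrrCharacter N) (hθ : θ ∈ b) (hcon : Cfsg.classInner (fun n : N => (χ : G → ℂ) n) (θ : N → ℂ) ≠ 0) (χ' : Cfsg.IrrCharacter G) (hχ' : χ' ∈ B) (ψ : Cfsg.IrrCharacter N) (hψ : Cfsg.classInner (fun n : N => (χ' : G → ℂ) n) (ψ : N → ℂ) ≠ 0) : ∃ g : G, ∃ θ' ∈ b, ∀ n : N, (ψ : N → ℂ) n = (θ' : N → ℂ) ⟨g * n * g⁻¹, hN.conj_mem n n.2 g⟩ := by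
  open Cfsg.Lib.Block Cfsg.Lib.Block2 Cfsg.Lib.Char Cfsg.Lib.Amalg in
  have := hM.2.1
  have h0 := (covers_iff hB.isBlockUnion hb.isBlockUnion).1 ⟨χ, hχ, θ, hθ, hcon⟩
  have hc := isPBlock_blockOf (M := M) ψ
  have h1 := (covers_iff hB.isBlockUnion hc.isBlockUnion).1 ⟨χ', hχ', ψ, mem_blockOf_self ψ, hψ⟩
  obtain ⟨x, -, e⟩ := (blk_top_eB hB).exists_cjA_eq (blk_EB hb) (blk_EB hc) le_top
    Subgroup.le_normalizer_of_normal h0 h1
  have e2 := conjSet_eq_of_cjA (cj_normal x N) hb.isBlockUnion hc.isBlockUnion e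
  have hm := mem_blockOf_self (M := M) ψ
  rw [← e2] at hm
  obtain ⟨ξ, hξ, h⟩ := hm
  refine ⟨x⁻¹, ξ, hξ, fun n => h _ _ ?_⟩
  simp [mul_assoc]

end Cfsg.Agent.S0964
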