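import Cfsg.Statements.S0965
import Cfsg.Agent.Lib.Block2.Cover

set_option autoImplicit false
open Cfsg

namespace Cfsg.Agent.S0965

/-- Let N be a normal subgroup of the finite group G and let B, b be blocks of G and of N relative to a maximal ideal M of the algebraic integers containing the prime p. Then some χ ∈ B has a constituent in b on restriction to N if and only if, for all χ ∈ B, θ ∈ b and n ∈ N, the central character of χ at n is congruent modulo the local ideal at M to the sum of θ m / θ 1 over the elements m ∈ N conjugate in G to n. -/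
theorem result {G : Type*} [Group G] [Fintype G] (p : ℕ) [Fact p.Prime] (M : Ideal Cfsg.AlgInt) (hM : Cfsg.IsPModular p M) (N : Subgroup G) [N.Normal] [Fintype N] (B : Set (Cfsg.IrrCharacter G)) (hB : Cfsg.IsPBlock M B) (b : Set (Cfsg.IrrCharacter N)) (hb : Cfsg.IsPBlock M b) : (∃ χ ∈ B, ∃ θ ∈ b, Cfsg.classInner (fun n : N => (χ : G → ℂ) n) (θ : N → ℂ) ≠ 0) ↔ ∀ χ ∈ B, ∀ θ ∈ b, ∀ n : N, Cfsg.MemLocalIdeal M (Cfsg.centralChar (χ : G → ℂ) (n : G) - Cfsg.inducedCentralChar N (θ : N → ℂ) (n : G)) := by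
  open Cfsg.Lib.Block Cfsg.Lib.Block2 Cfsg.Lib.Char Cfsg.Lib.Amalg in
  have := hM.2.1
  have hs : ∀ (S : Type) [CommRing S] {n : G}, n ∈ N → Supp N (classSum S n) := by
    intro S _ n hn g hg
    refine coeff_classSum_of_not_isConj fun h => hg ?_
    obtain ⟨c, rfl⟩ := isConj_iff.1 h
    exact Subgroup.Normal.conj_mem inferInstance n hn c
  rw [covers_iff hB.isBlockUnion hb.isBlockUnion]
  constructor
  · intro h0 χ hχ θ hθ n
    have e := (blk_top_eB hB).lamE_eq_of_mul_ne_zero (blk_EB hb) le_top h0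
      (isCen_classSum (n : G)).cenIn_top (hs _ n.2)
    rw [lamE_top hB hχ (isCen_classSum _), lamE_EB hb hθ, χ.2.lam_classSum, θ.2.lam_res_classSum] at e
    exact (red_eq_red_iff (χ.2.memLocalRing_centralChar _) (θ.2.memLocalRing_inducedCentralChar _)).1 e
  · intro h h0
    obtain ⟨χ, hχ⟩ := hB.nonempty
    obtain ⟨θ, hθ⟩ := hb.nonempty
    have hz : CenIn ⊤ (orbSum ⊤ N (EB M b)) := cenIn_orbSum' le_top Subgroup.le_normalizer_of_normal _
    have hz' := cenIn_top_iff.1 hz
    have e : lam M (χ : G → ℂ) (orbSum ⊤ N (EB M b)) =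
        (lam M (θ : N → ℂ) ∘ₗ res N) (orbSum ⊤ N (EB M b)) := by
      refine hz'.linearMap_eq fun g hg => ?_
      have hg' := (cenIn_orbSum ⊤ N (EB M b)).supp.mem hg
      rw [LinearMap.comp_apply, χ.2.lam_classSum, θ.2.lam_res_classSum]
      exact (red_eq_red_iff (χ.2.memLocalRing_centralChar _)
        (θ.2.memLocalRing_inducedCentralChar _)).2 (h χ hχ θ hθ ⟨g, hg'⟩)
    rw [LinearMap.comp_apply, (mul_EB_eq_iff hb hθ (cenIn_orbSum _ _ _) (orbSum_mul_self _ _ _)).1
      (blk_EB hb).orbSum_mul, ← mul_eB_eq_iff hB hχ hz' (orbSum_mul_self _ _ _), hz'.comm,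
      mul_orbSum_eq_zero ((isCen_eB B).isFixed ⊤) h0] at e
    exact (blk_top_eB hB).ne_zero e.symm

end Cfsg.Agent.S0965
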