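import Cfsg.Statements.S0970
import Cfsg.Agent.Lib.Block2.Cover

set_option autoImplicit false
open Cfsg

namespace Cfsg.Agent.S0970

/-- Let N be a normal subgroup of the finite group G and fix a maximal ideal M of the algebraic integers containing the prime p. Let b be a block of N that is invariant under conjugation by G, and B a block of G covering b (some χ ∈ B has a constituent in b) whose defect is at least that of every block covering b. If P is a defect group of B, then p does not divide the index of P ⊔ N, the subgroup P ∩ N of N is a defect group of b, and the defect of B equals the defect of b plus the exponent of p in the index of N. -/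
theorem result {G : Type*} [Group G] [Fintype G] (p : ℕ) [Fact p.Prime] (M : Ideal Cfsg.AlgInt) (hM : Cfsg.IsPModular p M) (N : Subgroup G) [hN : N.Normal] [Fintype N] (b : Set (Cfsg.IrrCharacter N)) (hb : Cfsg.IsPBlock M b) (hinv : ∀ g : G, ∀ θ ∈ b, ∀ θ' : Cfsg.IrrCharacter N, (∀ n : N, (θ' : N → ℂ) n = (θ : N → ℂ) ⟨g * n * g⁻¹, hN.conj_mem n n.2 g⟩) → θ' ∈ b) (B : Set (Cfsg.IrrCharacter G)) (hB : Cfsg.IsPBlock M B) (hcov : ∃ χ ∈ B, ∃ θ ∈ b, Cfsg.classInner (fun n : N => (χ : G → ℂ) n) (θ : N → ℂ) ≠ 0) (hmax : ∀ B' : Set (Cfsg.IrrCharacter G), Cfsg.IsPBlock M B' → (∃ χ ∈ B', ∃ θ ∈ b, Cfsg.classInner (fun n : N => (χ : G → ℂ) n) (θ : N → ℂ) ≠ 0) → Cfsg.blockDefect p B' ≤ Cfsg.blockDefect p B) (P : Subgroup G) (hP : Cfsg.IsDefectGroup p M B P) : ¬ p ∣ (P ⊔ N).index ∧ Cfsg.IsDefectGroup p M b ((P ⊓ N).subgroupOf N) ∧ Cfsg.blockDefect p B = Cfsg.blockDefect p b + N.index.factorization p := by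
  open Cfsg.Lib.Block Cfsg.Lib.Block2 Cfsg.Lib.Char Cfsg.Lib.Amalg in
  have := hM.2.1
  have hp := hM.1
  have h0 := (covers_iff hB.isBlockUnion hb.isBlockUnion).1 hcov
  have hf : IsFixed ⊤ (EB M b) := isFixed_iff_cjA.2 fun x _ =>
    (stab_normal_iff_EB hb.isBlockUnion).1 (hinv x)
  have key : ∀ B' D, IsPBlock M B' → eB M B' * EB M b ≠ 0 → IsDefectGroup p M B' D →
      IsDefectGroup p M b ((D ⊓ N).subgroupOf N) ∧
      blockDefect p B' + (N ⊔ D).index.factorization p = blockDefect p b + N.index.factorization p := by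
    intro B' D hB' h0 hD
    have h1 := (isDefectGroup_subgroupOf_iff hM hb inf_le_right).2
      ((hD.defG_top hM hB').inf_of_fixed hM (blk_top_eB hB') (blk_EB hb) le_top
        Subgroup.le_normalizer_of_normal h0 hf)
    refine ⟨h1, ?_⟩
    have h2 := h1.factorization_card hM hb
    rw [Nat.card_congr (Subgroup.subgroupOfEquivOfLe inf_le_right).toEquiv] at h2
    rw [← hD.factorization_card hM hB', ← h2,
      card_eq_card_inf_mul (N := N) Subgroup.le_normalizer_of_normal,
      ← Subgroup.relIndex_mul_index (le_sup_left : N ≤ N ⊔ D), Subgroup.relIndex,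
      Nat.factorization_mul Nat.card_pos.ne' Subgroup.FiniteIndex.index_ne_zero,
      Nat.factorization_mul Subgroup.FiniteIndex.index_ne_zero Subgroup.FiniteIndex.index_ne_zero]
    simp only [Finsupp.add_apply]
    omega
  obtain ⟨η, D, hη, h1, hD, h2⟩ := (blk_EB hb).exists_cover_max hM le_top
    Subgroup.le_normalizer_of_normal hf
  obtain ⟨B', hB', rfl⟩ := hη.exists_eq_top
  rw [Subgroup.relIndex_top_right] at h2
  have h3 := (key B' D hB' h1 ((isDefectGroup_iff_defG_top hM hB').2 hD)).2
  rw [Nat.factorization_eq_zero_of_not_dvd h2] at h3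
  have h4 := hmax B' hB' ((covers_iff hB'.isBlockUnion hb.isBlockUnion).2 h1)
  obtain ⟨h5, h6⟩ := key B P hB h0 hP
  refine ⟨fun h => ?_, h5, by omega⟩
  rw [sup_comm] at h
  have := hp.factorization_pos_of_dvd Subgroup.FiniteIndex.index_ne_zero h
  omega

end Cfsg.Agent.S0970
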