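import Cfsg.Statements.S0971
import Cfsg.Agent.Lib.Block2.Cover

set_option autoImplicit false
open Cfsg

namespace Cfsg.Agent.S0971

/-- Let Q be a normal p-subgroup of the finite group G, let N = Q ⊔ C_G(Q) (a normal subgroup) and let b be a block of N relative to a maximal ideal M of the algebraic integers containing p. Then b induces some block of G, and every block B of G containing a character whose restriction to N has a constituent in b is induced by b. -/
theorem result {G : Type*} [Group G] [Fintype G] (p : ℕ) [Fact p.Prime] (M : Ideal Cfsg.AlgInt) (hM : Cfsg.IsPModular p M) (Q : Subgroup G) [Q.Normal] (hQ : IsPGroup p Q) [Fintype ↥(Q ⊔ Subgroup.centralizer (Q : Set G))] (b : Set (Cfsg.IrrCharacter ↥(Q ⊔ Subgroup.centralizer (Q : Set G)))) (hb : Cfsg.IsPBlock M b) : Cfsg.InducedBlockDefined M (Q ⊔ Subgroup.centralizer (Q : Set G)) b ∧ ∀ B : Set (Cfsg.IrrCharacter G), Cfsg.IsPBlock M B → (∃ χ ∈ B, ∃ θ ∈ b, Cfsg.classInner (fun n : ↥(Q ⊔ Subgroup.centralizer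 (Q : Set G)) => (χ : G → ℂ) n) (θ : ↥(Q ⊔ Subgroup.centralizer (Q : Set G)) → ℂ) ≠ 0) → Cfsg.IsInducedBlock M (Q ⊔ Subgroup.centralizer (Q : Set G)) b B := by
  open Cfsg.Lib.Block Cfsg.Lib.Block2 Cfsg.Lib.Char Cfsg.Lib.Amalg in
  have := hM.2.1
  refine ⟨hb.inducedBlockDefined hM hQ le_sup_left le_sup_right Subgroup.le_normalizer_of_normal,
    fun B hB h => ?_⟩
  have h0 := (covers_iff hB.isBlockUnion hb.isBlockUnion).1 h
  have hl : LocalAt p Q (Q ⊔ Subgroup.centralizer (Q : Set G)) ⊤ :=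
    ⟨hQ, le_top, le_top, Subgroup.le_normalizer_of_normal, inf_le_right.trans le_sup_right,
      Or.inl le_sup_left⟩
  refine Ind.isInducedBlock ((hl.ind_iff_ne_zero hM (blk_EB hb) (blk_top_eB hB)).2 ?_) hb hB
  rwa [hB.isBlockUnion.brauer_eB hM hQ]

end Cfsg.Agent.S0971
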