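import Cfsg.Statements.S0973
import Cfsg.Agent.Lib.Block2.PairsB

set_option autoImplicit false
open Cfsg

namespace Cfsg.Agent.S0973

/-- Let B be a block of the finite group G with defect group P (relative to a maximal ideal M of the algebraic integers containing p), and let L = P ⊔ C_G(P). Then (i) some block b of L with defect group P (viewed in L) induces B, and (ii) if b and b' are blocks of L both inducing B, there is n ∈ N_G(P) carrying b to b': for every θ ∈ b there is θ' ∈ b' with θ' x = θ (n x n⁻¹) for all x ∈ L. -/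
theorem result {G : Type*} [Group G] [Finite G] (p : ℕ) [Fact p.Prime] (M : Ideal Cfsg.AlgInt) (hM : Cfsg.IsPModular p M) (B : Set (Cfsg.IrrCharacter G)) (hB : Cfsg.IsPBlock M B) (P : Subgroup G) (hP : Cfsg.IsDefectGroup p M B P) : (∃ b : Set (Cfsg.IrrCharacter ↥(P ⊔ Subgroup.centralizer (P : Set G))), Cfsg.IsDefectGroup p M b (P.subgroupOf (P ⊔ Subgroup.centralizer (P : Set G))) ∧ Cfsg.IsInducedBlock M (P ⊔ Subgroup.centralizer (P : Set G)) b B) ∧ ∀ b b' : Set (Cfsg.IrrCharacter ↥(P ⊔ Subgroup.centralizer (P : Set G))), Cfsg.IsInducedBlock M (P ⊔ Subgroup.centralizer (P : Set G)) b B → Cfsg.IsInducedBlock M (P ⊔ Subgroup.centralizer (P : Set G)) b' B → ∃ n ∈ Subgroup.normalizer (P : Set G), ∀ θ ∈ b, ∃ θ' ∈ b', ∀ x : ↥(P ⊔ Subgroup.centralizer (P : Set G)), ∀ hx : n * (x : G) * n⁻¹ ∈ P ⊔ Subgroup.centralizer (P : Set G), (θ' : ↥(P ⊔ Subgroup.centralizer (P : Set G)) → ℂ) x = (θ : ↥(P ⊔ Subgroup.centralizer (P : Set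 G)) → ℂ) ⟨n * (x : G) * n⁻¹, hx⟩ := by
  open Cfsg.Lib.Block Cfsg.Lib.Block2 Cfsg.Lib.Char Cfsg.Lib.Amalg in
  have := hM.2.1
  have hH : P ⊔ ⊤ ⊓ Subgroup.centralizer (P : Set G) = P ⊔ Subgroup.centralizer (P : Set G) := by
    rw [top_inf_eq]
  have hD := hP.defG_top hM hB
  constructor
  · obtain ⟨ε, h⟩ := hD.exists_maxP hM (blk_top_eB hB)
    have h1 := h.bpo.ind_sup hM
    have h2 := h.defG_sup hM
    rw [hH] at h1 h2
    obtain ⟨b, hb, rfl⟩ := h1.blk.exists_eq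
    exact ⟨b, (isDefectGroup_subgroupOf_iff hM hb le_sup_left).2 h2, h1.isInducedBlock hb hB⟩
  · intro b b' hb hb'
    have h1 : MaxP p ⊤ (eB M B) P (EB M b) :=
      ⟨bpo_of_ind_sup hM hD.isPGroup le_top (by rw [hH]; exact hb.ind), hD⟩
    have h2 : MaxP p ⊤ (eB M B) P (EB M b') :=
      ⟨bpo_of_ind_sup hM hD.isPGroup le_top (by rw [hH]; exact hb'.ind), hD⟩
    obtain ⟨x, -, e1, e2⟩ := h1.exists_conj hM h2
    have e3 : cj x (P ⊔ Subgroup.centralizer (P : Set G)) = P ⊔ Subgroup.centralizer (P : Set G) := by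
      rw [cj_sup, cj_centralizer, e1]
    have e4 := conjSet_eq_of_cjA e3 hb.1.isBlockUnion hb'.1.isBlockUnion e2
    refine ⟨x⁻¹, inv_mem (cj_eq_self_iff.1 e1), fun θ hθ => ⟨irrCongr (cjEq e3) θ, ?_, fun y hy => ?_⟩⟩
    · rw [← e4, conjSet_eq e3]
      exact ⟨θ, hθ, rfl⟩
    · exact (irrCongr_cjEq_eq_iff e3).1 rfl _ _ (by simp [mul_assoc])

end Cfsg.Agent.S0973
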