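import Cfsg.Statements.S0981
import Cfsg.Agent.Lib.Small.Brauer

set_option autoImplicit false
open Cfsg

namespace Cfsg.Agent.S0981

open Cfsg.Lib.Small Cfsg.Lib.Linear

/-- A simple group of order 4080 is isomorphic to the projective special linear group of dimension 2 over the field with 16 elements. -/
theorem result {G : Type*} [Group G] [Finite G] [IsSimpleGroup G] (h : Nat.card G = 4080) {F : Type*} [Field F] [Fintype F] (hF : Fintype.card F = 16) : Nonempty (G ≃* Matrix.ProjectiveSpecialLinearGroup (Fin 2) F) := by
  have : Fact (Nat.Prime 17) := ⟨by norm_num⟩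
  rcases psl_of_lt_cube (p := 17) (G := G) (not_isMulCommutative_of_not_prime (by rw [h]; norm_num))
    (by rw [h]; norm_num) (by rw [h]; norm_num) with ⟨-, ⟨e⟩⟩ | ⟨m, K, _, _, h1, h2, -, e⟩
  · have := card_PSL_two_of_odd (F := ZMod 17) (by rw [Nat.card_zmod]; decide)
    rw [← Nat.card_congr e.toEquiv, h, Nat.card_zmod] at this
    omega
  · exact psl_transfer (by rw [Nat.card_eq_fintype_card, Nat.card_eq_fintype_card]; omega) e

end Cfsg.Agent.S0981
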