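import Cfsg.Statements.S0986
import Cfsg.Agent.Lib.Small.Simple

set_option autoImplicit false
open Cfsg

namespace Cfsg.Agent.S0986

open Cfsg.Lib.Small Cfsg.Lib.Amalg Cfsg.Lib Subgroup

/-- Let P and Q be distinct Sylow p-subgroups of a finite group G chosen so that the order of P ∩ Q is as large as possible among intersections of two distinct Sylow p-subgroups, and let N be the normalizer of P ∩ Q. Then N has more than one Sylow p-subgroup, any two distinct Sylow p-subgroups of N intersect exactly in P ∩ Q, and each Sylow p-subgroup of N lies in exactly one Sylow p-subgroup of G. -/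
theorem result {G : Type*} [Group G] [Finite G] (p : ℕ) [Fact p.Prime] (P Q : Sylow p G) (hPQ : P ≠ Q) (hmax : ∀ P' Q' : Sylow p G, P' ≠ Q' → Nat.card ↥((P' : Subgroup G) ⊓ (Q' : Subgroup G)) ≤ Nat.card ↥((P : Subgroup G) ⊓ (Q : Subgroup G))) : 1 < Nat.card (Sylow p ↥(Subgroup.normalizer (((P : Subgroup G) ⊓ (Q : Subgroup G) : Subgroup G) : Set G))) ∧ (∀ S T : Sylow p ↥(Subgroup.normalizer (((P : Subgroup G) ⊓ (Q : Subgroup G) : Subgroup G) : Set G)), S ≠ T → (S : Subgroup _) ⊓ (T : Subgroup _) = ((P : Subgroup G) ⊓ (Q : Subgroup G)).subgroupOf (Subgroup.normalizer (((P : Subgroup G) ⊓ (Q : Subgroup G) : Subgroup G) : Set G))) ∧ ∀ S : Sylow p ↥(Subgroup.normalizer (((P : Subgroup G) ⊓ (Q : Subgroup G) : Subgroup G) : Set G)), ∃! T : Sylow p G, (S : Subgroup _).map (Subgroup.normalizer (((P : Subgroup G) ⊓ (Q : Subgroup G) : Subgroup G) : Set G)).subtype ≤ (T : Subgroup G) := by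
  set D : Subgroup G := (P : Subgroup G) ⊓ Q with hD
  have hDp : IsPGroup p D := P.2.to_le inf_le_left
  have uniq : ∀ (X : Subgroup G) (T T' : Sylow p G), D < X → X ≤ T → X ≤ T' → T = T' := by
    intro X T T' h1 h2 h3
    by_contra hne
    have a1 := hmax T T' hne
    have a2 := Core.card_lt_of_lt (h1.trans_le (le_inf h2 h3))
    omega
  have hlt : ∀ R : Sylow p G, D ≤ R → D < R := by
    intro R hR
    refine hR.lt_of_ne fun e => hPQ ?_
    have a1 : R = P := Sylow.ext (R.is_maximal' P.2 (e ▸ inf_le_left)).symm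
    have a2 : R = Q := Sylow.ext (R.is_maximal' Q.2 (e ▸ inf_le_right)).symm
    rw [← a1, a2]
  have hP1 := lt_inf_normalizer_of_lt P.2 (hlt P inf_le_left)
  have hQ1 := lt_inf_normalizer_of_lt Q.2 (hlt Q inf_le_right)
  have hS : ∀ S : Sylow p (𝐍 D), D < (S : Subgroup (𝐍 D)).map (𝐍 D).subtype := by
    intro S
    have hs := syl_of_sylow S
    have h1 : D ≤ _ := hs.le_of_normal hDp le_normalizer le_rfl
    refine h1.lt_of_ne fun e => ?_
    have a1 := hs.card_le (P.2.to_le inf_le_left : IsPGroup p ↥((P : Subgroup G) ⊓ 𝐍 D)) inf_le_right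
    have a2 := Core.card_lt_of_lt hP1
    rw [← e] at a1
    omega
  have hex : ∀ S : Sylow p (𝐍 D), ∃ T : Sylow p G, (S : Subgroup (𝐍 D)).map (𝐍 D).subtype ≤ T :=
    fun S => (syl_of_sylow S).isPGroup.exists_le_sylow
  refine ⟨?_, ?_, fun S => ?_⟩
  · rw [Finite.one_lt_card_iff_nontrivial]
    by_contra hc
    rw [not_nontrivial_iff_subsingleton] at hc
    obtain ⟨S, hS1⟩ := Core.exists_sylow_map_subtype_ge (L := 𝐍 D) inf_le_right
      (P.2.to_le inf_le_left : IsPGroup p ↥((P : Subgroup G) ⊓ 𝐍 D))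
    obtain ⟨S', hS2⟩ := Core.exists_sylow_map_subtype_ge (L := 𝐍 D) inf_le_right
      (Q.2.to_le inf_le_left : IsPGroup p ↥((Q : Subgroup G) ⊓ 𝐍 D))
    obtain rfl := Subsingleton.elim S S'
    obtain ⟨T, hT⟩ := hex S
    exact hPQ ((uniq _ P T hP1 inf_le_left (hS1.trans hT)).trans
      (uniq _ Q T hQ1 inf_le_left (hS2.trans hT)).symm)
  · intro S T hST
    obtain ⟨S', hS'⟩ := hex S
    obtain ⟨T', hT'⟩ := hex T
    have hne : S' ≠ T' := by
      rintro rfl
      apply hST
      have hp : IsPGroup p ((S' : Subgroup G).subgroupOf (𝐍 D)) := isPGroup_subgroupOf S'.2 _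
      have a1 := S.is_maximal' hp (map_le_iff_le_comap.1 hS')
      have a2 := T.is_maximal' hp (map_le_iff_le_comap.1 hT')
      exact Sylow.ext (a1.symm.trans a2)
    have a1 := hmax S' T' hne
    have a2 : D = (S' : Subgroup G) ⊓ T' :=
      eq_of_le_of_card_ge (le_inf ((hS S).le.trans hS') ((hS T).le.trans hT')) a1
    apply le_antisymm
    · intro x hx
      exact a2.ge ⟨hS' ⟨x, hx.1, rfl⟩, hT' ⟨x, hx.2, rfl⟩⟩
    · intro x hx
      obtain ⟨y, hy, e⟩ := (hS S).le hx
      obtain ⟨z, hz, e'⟩ := (hS T).le hx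
      rw [← Subtype.ext e] 
      refine ⟨hy, ?_⟩
      rw [Subtype.ext e, ← Subtype.ext e']
      exact hz
  · obtain ⟨T, hT⟩ := hex S
    exact ⟨T, hT, fun T' hT' => uniq _ T' T (hS S) hT' hT⟩

end Cfsg.Agent.S0986
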