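import Cfsg.Statements.S0987
import Cfsg.Agent.Lib.Small.Simple
import Mathlib.GroupTheory.SpecificGroups.ZGroup

set_option autoImplicit false
open Cfsg

namespace Cfsg.Agent.S0987

open Cfsg.Lib.Small Cfsg.Lib.Amalg Cfsg.Lib Subgroup

/-- If a finite group has order pqr for primes p < q < r, then its Sylow r-subgroups are normal. -/
theorem result {G : Type*} [Group G] [Finite G] (p q r : ℕ) (hp : p.Prime) (hq : q.Prime) [Fact r.Prime] (hpq : p < q) (hqr : q < r) (hG : Nat.card G = p * q * r) (R : Sylow r G) : (R : Subgroup G).Normal := by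
  have hr : r.Prime := Fact.out
  have := Fact.mk hp
  have hpr : p < r := hpq.trans hqr
  have hnd : ¬ p ∣ q * r := by
    rw [hp.dvd_mul, Nat.prime_dvd_prime_iff_eq hp hq, Nat.prime_dvd_prime_iff_eq hp hr]; omega
  have hmin : (Nat.card G).minFac = p := by
    have h1 : (Nat.card G).minFac ≤ p := Nat.minFac_le_of_dvd hp.two_le ⟨q * r, by rw [hG]; ring⟩
    have h2 : Nat.card G ≠ 1 := by
      rw [hG]; intro h
      exact hr.one_lt.ne' (Nat.eq_one_of_mul_eq_one_left h)
    have h3 := Nat.minFac_prime h2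
    have h4 := Nat.minFac_dvd (Nat.card G)
    generalize (Nat.card G).minFac = s at *
    rw [hG, h3.dvd_mul, h3.dvd_mul, Nat.prime_dvd_prime_iff_eq h3 hp,
      Nat.prime_dvd_prime_iff_eq h3 hq, Nat.prime_dvd_prime_iff_eq h3 hr] at h4
    omega
  obtain ⟨P⟩ : Nonempty (Sylow p G) := inferInstance
  have hP : Nat.card (P : Subgroup G) = p := by
    simpa using card_sylow_subgroup_eq P (a := 1) (m := q * r) (by rw [hG]; ring) hnd
  obtain ⟨K, hK, hi, -⟩ := exists_normal_complement_of_normalizer_le P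
    (IsCyclic.normalizer_le_centralizer hmin (isCyclic_of_prime_card hP))
  have hKc : Nat.card K = r ^ 1 * q := by
    have h1 := K.card_mul_index
    rw [hi, hP, hG] at h1
    exact Nat.eq_of_mul_eq_mul_right hp.pos (by rw [h1]; ring)
  have hrq : ¬ r ∣ q := Nat.not_dvd_of_pos_of_lt hq.pos hqr
  have hn : Nat.card (Sylow r K) = 1 := by
    have h1 := card_sylow_dvd hKc hrq
    have h2 := card_sylow_mod (p := r) (G := K)
    rcases (Nat.dvd_prime hq).1 h1 with h | h
    · exact h
    · rw [h, Nat.mod_eq_of_lt hqr] at h2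
      exact absurd h2 hq.one_lt.ne'
  obtain ⟨S, hS⟩ := Core.exists_sylow_eq_inf_of_normal R K
  have hSn := normal_of_card_sylow_eq_one S hn
  have := S.characteristic_of_normal hSn
  have h1 := Core.normal_map_subtype_of_characteristic (S : Subgroup K)
  rw [hS] at h1
  have h2 : (R : Subgroup G) ⊓ K = R := by
    apply eq_of_le_of_card_ge inf_le_left
    rw [← hS, Core.card_map_subtype, card_sylow_subgroup_eq S hKc hrq,
      card_sylow_subgroup_eq R (a := 1) (m := p * q) (by rw [hG]; ring)]
    rw [hr.dvd_mul, Nat.prime_dvd_prime_iff_eq hr hp, Nat.prime_dvd_prime_iff_eq hr hq]; omega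
  rwa [h2] at h1

end Cfsg.Agent.S0987
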