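import Cfsg.Statements.S0998
import Cfsg.Agent.Lib.Small.BTuan
import Cfsg.Agent.Lib.Linear.SmallIso

set_option autoImplicit false
open Cfsg

namespace Cfsg.Agent.S0998

open Cfsg.Lib.Small Cfsg.Lib.Linear

theorem arith {p q r b n : ℕ} (hp : p.Prime) (hq : q.Prime) (hr : r.Prime) (h3 : 3 < p)
    (h : p * r * q ^ b = n) (h4 : 4 ∣ n) (h5 : 3 ∣ n) : q = 2 ∧ r = 3 := by
  subst h
  have h1 : ∀ l, l.Prime → l ≤ 3 → l ∣ p * r * q ^ b → l = r ∨ l = q := fun l hl h1 h => by
    rcases hl.dvd_mul.1 h with h | h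
    · rcases hl.dvd_mul.1 h with h | h
      · have := (Nat.prime_dvd_prime_iff_eq hl hp).1 h; omega
      · exact .inl ((Nat.prime_dvd_prime_iff_eq hl hr).1 h)
    · exact .inr ((Nat.prime_dvd_prime_iff_eq hl hq).1 (hl.dvd_of_dvd_pow h))
  have h2 := h1 3 Nat.prime_three le_rfl h5
  rcases h1 2 Nat.prime_two (by omega) (Dvd.dvd.trans (by omega) h4) with rfl | rfl
  · obtain rfl : 3 = q := by omega
    have : Odd (p * 3 ^ b) := (hp.odd_of_ne_two (by omega)).mul (Odd.pow (by decide))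
    rw [mul_right_comm] at h4
    obtain ⟨k, hk⟩ := this
    omega
  · omega

theorem aux {G : Type*} [Group G] [Finite G] [IsSimpleGroup G] (hG : ¬ IsMulCommutative G) {p q r b : ℕ}
    (hp : p.Prime) (hq : q.Prime) (hr : r.Prime) (hpq : p ≠ q) (hrp : r < p) (hqr : q ≠ r)
    (hc : Nat.card G = p * r * q ^ b) : Nonempty (G ≃* alternatingGroup (Fin 5)) ∨
      Nonempty (G ≃* PSL2 (ZMod 7)) := by
  haveI := Fact.mk hp
  by_cases h : r + 1 = p
  · obtain rfl : r = 2 := hr.eq_two_or_odd.resolve_right fun h1 => by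
      have := hp.eq_two_or_odd
      have := hr.two_le
      omega
    haveI := Fact.mk Nat.prime_two
    refine absurd (by simp) (not_coprime_of_simple hG (p := 2) (m := p * q ^ b) (by rw [hc]; ring) ?_)
    exact ((hp.odd_of_ne_two (by omega)).mul (hq.odd_of_ne_two hqr).pow).not_two_dvd_nat
  rcases brauer_tuan hG hq hpq (hc.trans (mul_right_comm ..)) (by omega) with
    ⟨h3, ⟨e⟩⟩ | ⟨m, F, _, _, h1, h2, h3, ⟨e⟩⟩
  · obtain ⟨u, hu⟩ := hp.odd_of_ne_two (by omega)
    have h1 := card_PSL_two_of_odd (F := ZMod p) (by rw [Nat.card_zmod]; exact ⟨u, hu⟩)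
    rw [← Nat.card_congr e.toEquiv, hc, Nat.card_zmod, show p - 1 = 2 * u by omega] at h1
    have h2 : p * r * q ^ b = p * (2 * (u * (u + 1))) := Nat.eq_of_mul_eq_mul_left two_pos (by
      linear_combination h1 + (2 * u * p) * hu)
    obtain ⟨k, hk⟩ := Nat.even_mul_succ_self u
    obtain ⟨rfl, rfl⟩ := arith hp hq hr h3 h2 ⟨p * k, by rw [hk]; ring⟩ (by
      have : 3 ∣ p ∨ 3 ∣ u ∨ 3 ∣ u + 1 := by
        obtain h | h | h : u % 3 = 0 ∨ u % 3 = 1 ∨ u % 3 = 2 := by omega
        exacts [.inr (.inl (by omega)), .inl (by omega), .inr (.inr (by omega))]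
      rcases this with h | h | h
      exacts [h.mul_right _, ((h.mul_right _).mul_left _).mul_left _, ((h.mul_left _).mul_left _).mul_left _])
    rw [mul_assoc, Nat.mul_right_inj hp.ne_zero] at h2
    have h4 : ∀ v, Odd v → v ∣ u * (u + 1) → v ≤ 3 := fun v h1 h => Nat.le_of_dvd three_pos
      (((Nat.coprime_two_right.2 h1).pow_right b).dvd_of_dvd_mul_right (h2 ▸ h.mul_left 2))
    obtain rfl | rfl : p = 5 ∨ p = 7 := by
      rcases Nat.even_or_odd u with h | h
      · have := h4 _ h.add_one (dvd_mul_left _ _); omega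
      · have := h4 _ h (dvd_mul_right _ _); omega
    · exact .inl ⟨e.trans (psl2_five_equiv (Nat.card_zmod 5)).some⟩
    · exact .inr ⟨e⟩
  · rw [← Nat.card_eq_fintype_card] at h1
    obtain ⟨m, rfl⟩ : ∃ k, m = k + 2 := ⟨m - 2, by rcases m with _ | _ | m <;> omega⟩
    have h4 := card_PSL_two_of_even (F := F) (by rw [h1]; exact ⟨2 ^ (m + 1), by ring⟩)
    rw [← Nat.card_congr e.toEquiv, hc, h1, ← h2] at h4
    have h5 : 3 ∣ 2 ^ (m + 2) - 1 := by
      have : ¬ 3 ∣ p := fun h => by have := (Nat.prime_dvd_prime_iff_eq Nat.prime_three hp).1 h; omega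
      have : ¬ 3 ∣ 2 ^ (m + 2) := fun h => absurd (Nat.prime_three.dvd_of_dvd_pow h) (by omega)
      omega
    obtain ⟨rfl, rfl⟩ := arith hp hq hr h3 h4 ⟨2 ^ m * (2 ^ (m + 2) - 1) * p, by ring⟩
      ((h5.mul_left _).mul_right _)
    rw [mul_assoc, mul_comm _ p, Nat.mul_right_inj hp.ne_zero] at h4
    have : 2 ^ (m + 2) - 1 ≤ 3 := Nat.le_of_dvd three_pos (((Nat.coprime_two_right.2 (Nat.Even.sub_odd
      Nat.one_le_two_pow ⟨2 ^ (m + 1), by ring⟩ odd_one)).pow_right b).dvd_of_dvd_mul_right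
        (h4 ▸ dvd_mul_left _ _))
    exact .inl ⟨e.trans (psl2_four_equiv (by omega)).some⟩

/-- A non-cyclic finite simple group whose order has the form p * r * q^b for distinct primes p, q, r is isomorphic to the projective special linear group of dimension 2 over the field with 5 or with 7 elements. -/
theorem result {G : Type*} [Group G] [Finite G] [IsSimpleGroup G] (hG : ¬ IsCyclic G) (p q r b : ℕ) (hp : p.Prime) (hq : q.Prime) (hr : r.Prime) (hpq : p ≠ q) (hpr : p ≠ r) (hqr : q ≠ r) (hG' : Nat.card G = p * r * q ^ b) : (∃ (F : Type) (_ : Field F) (_ : Fintype F), Fintype.card F = 5 ∧ Nonempty (G ≃* Matrix.ProjectiveSpecialLinearGroup (Fin 2) F)) ∨ (∃ (F : Type) (_ : Field F) (_ : Fintype F), Fintype.card F = 7 ∧ Nonempty (G ≃* Matrix.ProjectiveSpecialLinearGroup (Fin 2) F)) := by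
  have hG := not_comm_of_not_isCyclic hG
  haveI := Fact.mk Nat.prime_five
  refine Or.imp (fun (⟨e⟩ : Nonempty (G ≃* alternatingGroup (Fin 5))) => ⟨ZMod 5, inferInstance, inferInstance, rfl,
    ⟨e.trans (psl2_five_equiv (Nat.card_zmod 5)).some.symm⟩⟩)
    (fun e => ⟨ZMod 7, inferInstance, inferInstance, rfl, e⟩) ?_
  rcases hpr.lt_or_gt with h | h
  · exact aux hG hr hq hp hqr.symm h hpq.symm (by rw [hG', mul_comm p])
  · exact aux hG hp hq hr hpq h hqr hG'

end Cfsg.Agent.S0998
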