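import Cfsg.Statements.S0988
import Cfsg.Agent.S0998
import Cfsg.Agent.S0144

set_option autoImplicit false
open Cfsg

namespace Cfsg.Agent.S0988

open Cfsg.Lib.Small Cfsg.Lib.Linear

/-- If a finite simple group has order p^2 * q * r with p, q and r prime, then its order is 60. -/
theorem result {G : Type*} [Group G] [Finite G] [IsSimpleGroup G] (p q r : ℕ) (hp : p.Prime) (hq : q.Prime) (hr : r.Prime) (hG : Nat.card G = p ^ 2 * q * r) : Nat.card G = 60 := by
  have hn : ¬ (Nat.card G).Prime := by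
    rw [hG, mul_assoc]
    exact Nat.not_prime_mul (by nlinarith [hp.two_le]) (by nlinarith [hq.two_le, hr.two_le])
  have hc := not_isMulCommutative_of_not_prime hn
  have h1 : ∀ a b c d : ℕ, a.Prime → b.Prime → Nat.card G ≠ a ^ c * b ^ d := fun a b c d ha hb h =>
    hc ⟨⟨IsSimpleGroup.comm_iff_isSolvable.2 (S0144.result a b c d ha hb h)⟩⟩
  have h2 : p ≠ q := by rintro rfl; exact h1 p r 3 1 hp hr (by rw [hG]; ring)
  have h3 : p ≠ r := by rintro rfl; exact h1 p q 3 1 hp hq (by rw [hG]; ring)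
  have h4 : q ≠ r := by rintro rfl; exact h1 p q 2 2 hp hq (by rw [hG]; ring)
  obtain ⟨⟨e⟩⟩ | ⟨⟨e⟩⟩ : Nonempty (G ≃* alternatingGroup (Fin 5)) ∨ Nonempty (G ≃* PSL2 (ZMod 7)) := by
    rcases h4.lt_or_gt with h | h
    · exact S0998.aux hc hr hp hq h3.symm h h2 (b := 2) (by rw [hG]; ring)
    · exact S0998.aux hc hq hp hr h2.symm h h3 (b := 2) (by rw [hG]; ring)
  · rw [Nat.card_congr e.toEquiv, card_A5]
  have h5 := card_PSL_two_of_odd (F := ZMod 7) (by rw [Nat.card_zmod]; decide)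
  rw [← Nat.card_congr e.toEquiv, Nat.card_zmod, hG] at h5
  have h6 : ∀ l, l.Prime → l ∣ 2 ^ 3 * 3 * 7 → l = 2 ∨ l = 3 ∨ l = 7 := fun l hl h => by
    simpa [hl.dvd_mul, hl.prime.dvd_pow_iff_dvd, Nat.prime_dvd_prime_iff_eq hl, Nat.prime_two,
      Nat.prime_three, Nat.prime_seven, or_assoc, -Nat.reducePow, -Nat.reduceMul] using h
  have a1 := h6 p hp ⟨p * q * r, by linarith⟩
  have a2 := h6 q hq ⟨p ^ 2 * r, by linarith⟩
  have a3 := h6 r hr ⟨p ^ 2 * q, by linarith⟩
  rcases a1 with rfl | rfl | rfl <;> rcases a2 with rfl | rfl | rfl <;> rcases a3 with rfl | rfl | rfl <;>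
    omega

end Cfsg.Agent.S0988
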