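import Cfsg.Statements.S0994
import Cfsg.Agent.Lib.Small.Simple

set_option autoImplicit false
open Cfsg

namespace Cfsg.Agent.S0994

open Cfsg.Lib.Small Cfsg.Lib.Amalg Cfsg.Lib Subgroup

/-- No finite simple group has order 1188 = 2^2 * 3^3 * 11. -/
theorem result {G : Type*} [Group G] [Finite G] [IsSimpleGroup G] : Nat.card G ≠ 1188 := by
  intro h
  have hG : ¬ IsMulCommutative G := not_isMulCommutative_of_not_prime (by rw [h]; norm_num)
  haveI : Fact (Nat.Prime 11) := ⟨by norm_num⟩
  obtain ⟨P⟩ : Nonempty (Sylow 11 G) := inferInstance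
  have hc : Nat.card G = 11 ^ 1 * 108 := by rw [h]; norm_num
  have hd : 11 ∣ Nat.card G := by rw [h]; norm_num
  have h1 := card_sylow_dvd hc (by norm_num)
  have h2 := card_sylow_mod (G := G) (p := 11)
  have h3 := one_lt_card_sylow hG hd
  have hP := card_sylow_subgroup_eq P hc (by norm_num)
  have h4 : Nat.card (Sylow 11 G) = 12 := by
    have := Nat.le_of_dvd (by norm_num) h1
    interval_cases Nat.card (Sylow 11 G) <;> simp_all
  have h5 := card_normalizer_mul_card_sylow P
  rw [h4, h] at h5
  have h6 := relIndex_centralizer_dvd_of_card_prime (p := 11) (H := P) (by simpa using hP)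
  have h7 := relIndex_centralizer_ne_one hG P hd
  have h8 : (𝐂 (P : Subgroup G)).relIndex (𝐍 (P : Subgroup G)) ∣ Nat.card (𝐍 (P : Subgroup G)) :=
    relIndex_dvd_card _ _
  have h9 : Nat.card (𝐍 (P : Subgroup G)) = 99 := by omega
  rw [h9] at h8
  exact h7 (Nat.eq_one_of_dvd_coprimes (by norm_num) h6 h8)

end Cfsg.Agent.S0994
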