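import Cfsg.Statements.S0995
import Cfsg.Agent.Lib.Small.Simple

set_option autoImplicit false
open Cfsg

namespace Cfsg.Agent.S0995

open Cfsg.Lib.Small Cfsg.Lib.Amalg Cfsg.Lib Subgroup MulAction

/-- Let G be a finite perfect group containing an element z of prime order p whose centralizer is the cyclic group it generates. Let t be the number of conjugacy classes of elements of order p. Then t divides p - 1, the number of Sylow p-subgroups has the form 1 + n * p, and |G| * t = (p - 1) * p * (1 + n * p). -/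
theorem result {G : Type*} [Group G] [Finite G] (hperf : commutator G = ⊤) (p : ℕ) [Fact p.Prime] (z : G) (hz : orderOf z = p) (hC : Subgroup.centralizer ({z} : Set G) = Subgroup.zpowers z) : ∃ n t : ℕ, t = Nat.card {c : ConjClasses G // ∃ g : G, ConjClasses.mk g = c ∧ orderOf g = p} ∧ t ∣ p - 1 ∧ Nat.card (Sylow p G) = 1 + n * p ∧ Nat.card G * t = (p - 1) * p * (1 + n * p) := by
  have hp : p.Prime := Fact.out
  have hz1 : z ≠ 1 := by rintro rfl; exact hp.one_lt.ne (by simpa using hz)
  have hzc : Nat.card (zpowers z) = p := by rw [Nat.card_zpowers, hz]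
  have hzp : IsPGroup p (zpowers z) := IsPGroup.of_card (n := 1) (by simpa using hzc)
  obtain ⟨P, hP⟩ := hzp.exists_le_sylow
  have hPz : zpowers z = P := by
    refine eq_of_inf_normalizer_le P.2 hP fun x hx => ?_
    have h1 := Core.inf_centralizer_ne_bot_of_isPGroup hzp
      (P.2.to_le inf_le_left : IsPGroup p ↥((P : Subgroup G) ⊓ 𝐍 (zpowers z))) inf_le_right
      (by rwa [Ne, zpowers_eq_bot])
    obtain ⟨⟨y, hy1, hy2⟩, hy⟩ := ne_bot_iff_exists_ne_one.1 h1
    have := eq_zpowers_of_mem_card_prime hzc hy1 (fun e => hy (Subtype.ext e))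
    rw [← hC, ← Core.centralizer_zpowers, ← this, Core.centralizer_zpowers,
      mem_centralizer_singleton_iff]
    exact hy2 x hx
  have hPc : Nat.card (P : Subgroup G) = p := hPz ▸ hzc
  have hcent : ∀ g : G, orderOf g = p → Nat.card (centralizer ({g} : Set G)) = p := by
    intro g hg
    obtain ⟨h, hh⟩ := Invol.exists_conj_mem_sylow (k := 1) (x := g) P (by rw [pow_one, ← hg, pow_orderOf_eq_one])
    have h1 : h * g * h⁻¹ ≠ 1 := by
      intro e; have := Invol.orderOf_conj h g; rw [e, hg, orderOf_one] at this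
      exact hp.one_lt.ne this
    rw [Invol.card_centralizer_of_isConj (Invol.isConj_conj h g), ← Core.centralizer_zpowers,
      eq_zpowers_of_mem_card_prime hPc hh h1, ← hPz, Core.centralizer_zpowers, hC, hzc]
  have h1 := card_orderOf_eq_prime P hPc
  obtain ⟨m, hm⟩ : p ∣ Nat.card G := hz ▸ orderOf_dvd_natCard z
  have h2 : Nat.card {g : G // orderOf g = p} =
      Nat.card {c : ConjClasses G // ∃ g : G, ConjClasses.mk g = c ∧ orderOf g = p} * m := by
    refine Invol.card_eq_mul_of_fibers ConjClasses.mk (fun g hg => ⟨g, rfl, hg⟩) ?_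
    rintro _ ⟨g, rfl, hg⟩
    have := Invol.card_isConj_mul g
    rw [hcent g hg, hm, mul_comm] at this
    rw [← Nat.eq_of_mul_eq_mul_left hp.pos this]
    refine Invol.card_congr_iff fun y => ?_
    rw [ConjClasses.mk_eq_mk_iff_isConj]
    exact ⟨fun h => h.2.symm, fun h => ⟨(Invol.orderOf_of_isConj h).symm.trans hg, h.symm⟩⟩
  have h3 := card_sylow_mod (p := p) (G := G)
  have h4 := card_normalizer_mul_card_sylow P
  have h5 := card_normalizer_zpowers z
  rw [hPz, hcent z hz] at h5
  refine ⟨Nat.card (Sylow p G) / p, _, rfl, ?_, ?_, ?_⟩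
  · generalize Nat.card {y : G // y ∈ (P : Subgroup G) ∧ IsConj z y} = e at h5
    rw [h5, hm] at h4
    have h6 : m = e * Nat.card (Sylow p G) := Nat.eq_of_mul_eq_mul_left hp.pos (by rw [← h4]; ring)
    rw [h2, h6] at h1
    have h7 : 0 < Nat.card (Sylow p G) := Nat.card_pos
    exact ⟨e, Nat.eq_of_mul_eq_mul_left h7 (by rw [← h1]; ring)⟩
  · have := Nat.div_add_mod (Nat.card (Sylow p G)) p
    rw [h3] at this
    rw [add_comm, mul_comm, this]
  · have := Nat.div_add_mod (Nat.card (Sylow p G)) p
    rw [h3] at this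
    rw [show 1 + Nat.card (Sylow p G) / p * p = Nat.card (Sylow p G) by rw [add_comm, mul_comm, this],
      hm]
    calc _ = p * (Nat.card {c : ConjClasses G // ∃ g : G, ConjClasses.mk g = c ∧ orderOf g = p} * m) := by ring
      _ = _ := by rw [← h2, h1]; ring

end Cfsg.Agent.S0995
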