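import Cfsg.Statements.S0997
import Cfsg.Agent.Lib.Small.BTuan

set_option autoImplicit false
open Cfsg

namespace Cfsg.Agent.S0997

open Cfsg.Lib.Small Cfsg.Lib.Linear

/-- Let G be a non-cyclic finite simple group of order p * q^b * g₀, where p and q are distinct primes and g₀ < p - 1. Then either p has the form 2^m + 1 or 2^m - 1 and G is isomorphic to the projective special linear group of dimension 2 over the field with p elements, or p = 2^m + 1 > 3 and G is isomorphic to that group over the field with 2^m elements. -/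
theorem result {G : Type*} [Group G] [Finite G] [IsSimpleGroup G] (hG : ¬ IsCyclic G) (p q b g₀ : ℕ) (hp : p.Prime) (hq : q.Prime) (hpq : p ≠ q) (hG' : Nat.card G = p * q ^ b * g₀) (hg : g₀ < p - 1) : (∃ (m : ℕ) (F : Type) (_ : Field F) (_ : Fintype F), Fintype.card F = p ∧ (p = 2 ^ m + 1 ∨ p = 2 ^ m - 1) ∧ Nonempty (G ≃* Matrix.ProjectiveSpecialLinearGroup (Fin 2) F)) ∨ (∃ (m : ℕ) (F : Type) (_ : Field F) (_ : Fintype F), Fintype.card F = 2 ^ m ∧ p = 2 ^ m + 1 ∧ 3 < p ∧ Nonempty (G ≃* Matrix.ProjectiveSpecialLinearGroup (Fin 2) F)) := by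
  haveI := Fact.mk hp
  rcases brauer_tuan (not_comm_of_not_isCyclic hG) hq hpq hG' (by omega) with ⟨h, ⟨e⟩⟩ | h
  swap
  · exact .inr h
  obtain ⟨u, hu⟩ := hp.odd_of_ne_two (by omega)
  have h1 := card_PSL_two_of_odd (F := ZMod p) (by rw [Nat.card_zmod]; exact ⟨u, hu⟩)
  rw [← Nat.card_congr e.toEquiv, hG', Nat.card_zmod] at h1
  have h2 : q ^ b * g₀ = 2 * u * (u + 1) := Nat.eq_of_mul_eq_mul_left (show 0 < 2 * p by omega) (by
    rw [show p - 1 = 2 * u by omega] at h1
    linear_combination h1 + (2 * u * p) * hu)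
  have h3 : ∀ v, q ^ b = 2 * v → q = 2 := fun v h =>
    ((Nat.prime_dvd_prime_iff_eq Nat.prime_two hq).1 (Nat.prime_two.dvd_of_dvd_pow ⟨v, h⟩)).symm
  refine .inl ⟨b, ZMod p, inferInstance, inferInstance, ZMod.card p, ?_, ⟨e⟩⟩
  by_cases h4 : q ∣ u
  · obtain ⟨c, hc⟩ : u + 1 ∣ g₀ := ((hq.coprime_iff_not_dvd.2 fun h5 => hq.not_dvd_one
      ((Nat.dvd_add_right h4).1 h5)).symm.pow_right b).dvd_of_dvd_mul_left ⟨2 * u, by rw [h2]; ring⟩
    obtain rfl : c = 1 := by rcases c with _ | _ | c <;> [simp_all; rfl; nlinarith [Nat.sub_add_cancel hp.one_le]]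
    have : q ^ b = 2 * u := Nat.eq_of_mul_eq_mul_right (show 0 < u + 1 by omega) (by rw [← h2, hc, mul_one])
    obtain rfl := h3 _ this
    omega
  · obtain ⟨c, hc⟩ : u ∣ g₀ := ((hq.coprime_iff_not_dvd.2 h4).symm.pow_right b).dvd_of_dvd_mul_left
      ⟨2 * (u + 1), by rw [h2]; ring⟩
    obtain rfl : c = 1 := by rcases c with _ | _ | c <;> [simp_all; rfl; nlinarith [Nat.sub_add_cancel hp.one_le]]
    have : q ^ b = 2 * (u + 1) := Nat.eq_of_mul_eq_mul_right (show 0 < u by omega) (by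
      rw [← mul_one u, ← hc, h2, hc]; ring)
    obtain rfl := h3 _ this
    omega

end Cfsg.Agent.S0997
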