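import Cfsg.Statements.S1007
import Cfsg.Agent.Lib.Layer.L168F
import Cfsg.Agent.Lib.Layer.Misc

set_option autoImplicit false
open Cfsg

namespace Cfsg.Agent.S1007

open Subgroup Cfsg.Lib.Core Cfsg.Lib.Amalg Cfsg.Lib.BG1 Cfsg.Lib.Layer

/-- Let G be a simple group of order 168 and T a Sylow 2-subgroup. Then T contains exactly two subgroups that are Klein four-groups; they are not conjugate in G; and the normalizer of every Klein four-subgroup of G is isomorphic to the symmetric group of degree 4. -/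
theorem result {G : Type*} [Group G] [Finite G] [IsSimpleGroup G] (h : Nat.card G = 168) (T : Sylow 2 G) : Nat.card {U : Subgroup G // U ≤ (T : Subgroup G) ∧ IsKleinFour ↥U} = 2 ∧ (∀ U W : Subgroup G, U ≤ (T : Subgroup G) → W ≤ (T : Subgroup G) → IsKleinFour ↥U → IsKleinFour ↥W → U ≠ W → ∀ g : G, U.map (MulAut.conj g).toMonoidHom ≠ W) ∧ ∀ U : Subgroup G, IsKleinFour ↥U → Nonempty (↥(Subgroup.normalizer (U : Set G)) ≃* Equiv.Perm (Fin 4)) := by
  obtain ⟨e, he⟩ := exists_l168_sylow h T
  have kl : ∀ U : Subgroup L168, IsKleinFour (U.map e.toMonoidHom) ↔ IsKleinFour U := fun U =>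
    ⟨Lib.Invol.isKleinFour_of_equiv (mapEq e U), Lib.Invol.isKleinFour_of_equiv (mapEq e U).symm⟩
  have inj := map_injective (f := e.toMonoidHom) e.injective
  have two : ∀ U : Subgroup G, U ≤ T → IsKleinFour U → U = L168.V1.map e.toMonoidHom ∨ U = L168.V2.map e.toMonoidHom := by
    intro U hU hK
    obtain ⟨U, rfl⟩ := exists_map_eq e U
    rw [← he, map_le_map_iff_of_injective e.injective] at hU
    exact (L168.eq_V hU ((kl U).1 hK)).imp (congrArg _) (congrArg _)
  have ne : L168.V1.map e.toMonoidHom ≠ L168.V2.map e.toMonoidHom := fun e' => L168.V1_ne 1 (by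
    rw [← inj e']; convert map_id L168.V1; ext; simp)
  refine ⟨?_, fun U W hU hW kU kW hne g => ?_, fun U kU => ?_⟩
  · rw [Nat.card_eq_two_iff]
    refine ⟨⟨_, he ▸ map_mono L168.V1_le, (kl _).2 L168.kl_V1⟩, ⟨_, he ▸ map_mono L168.V2_le, (kl _).2 L168.kl_V2⟩,
      fun e' => ne (congrArg Subtype.val e'), Set.eq_univ_of_forall fun U => ?_⟩
    rcases two U.1 U.2.1 U.2.2 with e' | e'
    · exact Or.inl (Subtype.ext e')
    · exact Or.inr (Subtype.ext e')
  · obtain ⟨g, rfl⟩ := e.surjective g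
    rcases two U hU kU with rfl | rfl <;> rcases two W hW kW with rfl | rfl
    · exact absurd rfl hne
    · rw [map_conj_map]; exact fun e' => L168.V1_ne g (inj e')
    · rw [map_conj_map]; exact fun e' => L168.V2_ne g (inj e')
    · exact absurd rfl hne
  · have hp : IsPGroup 2 U := IsPGroup.of_card (n := 2) kU.card_four
    obtain ⟨S, hS⟩ := hp.exists_le_sylow
    obtain ⟨e, he⟩ := exists_l168_sylow h S
    obtain ⟨U, rfl⟩ := exists_map_eq e U
    rw [← he, map_le_map_iff_of_injective e.injective] at hS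
    rw [← map_equiv_normalizer_eq]
    rcases L168.eq_V hS (Lib.Invol.isKleinFour_of_equiv (mapEq e U) kU) with rfl | rfl
    · rw [L168.norm_V1]; exact ⟨(mapEq e _).symm.trans (MonoidHom.ofInjective L168.hA_inj).symm⟩
    · rw [L168.norm_V2]; exact ⟨(mapEq e _).symm.trans (MonoidHom.ofInjective L168.hB_inj).symm⟩

end Cfsg.Agent.S1007
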