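import Cfsg.Statements.S1008
import Cfsg.Agent.Lib.Layer.L168F
import Cfsg.Agent.Lib.Layer.Misc
import Cfsg.Agent.S1003
import Cfsg.Agent.S1005

set_option autoImplicit false
open Cfsg

namespace Cfsg.Agent.S1008

open Subgroup Cfsg.Lib.Core Cfsg.Lib.Amalg Cfsg.Lib.BG1 Cfsg.Lib.Layer
theorem cc {G : Type*} [Group G] (M : Subgroup G) (g k : G) :
    (M.map (MulAut.conj g).toMonoidHom).map (MulAut.conj k).toMonoidHom = M.map (MulAut.conj (k * g)).toMonoidHom := by
  rw [map_map]; congr 1; ext; simp [mul_assoc]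

theorem c1 {G : Type*} [Group G] (M : Subgroup G) : M.map (MulAut.conj (1 : G)).toMonoidHom = M := by
  convert map_id M; ext; simp

theorem flip {G : Type*} [Group G] {M A : Subgroup G} {g : G} (h : M.map (MulAut.conj g).toMonoidHom ≤ A) :
    M ≤ A.map (MulAut.conj g⁻¹).toMonoidHom := by
  have := map_mono (f := (MulAut.conj g⁻¹).toMonoidHom) h
  rwa [cc, inv_mul_cancel, c1] at this

theorem eqc {G : Type*} [Group G] {M A : Subgroup G} (hM : IsCoatom M) (h : M ≤ A) (hA : A ≠ ⊤) : M = A :=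
  (hM.le_iff.1 h).resolve_left hA ▸ rfl

open L168 in
theorem key (M : Subgroup L168) (hM : IsCoatom M) (h7 : ¬ 7 ∣ Nat.card M) :
    ∃ g, M = hA.range.map (MulAut.conj g).toMonoidHom ∨ M = hB.range.map (MulAut.conj g).toMonoidHom := by
  have nA : ∀ g, hA.range.map (MulAut.conj g).toMonoidHom ≠ ⊤ := fun g => ((isCoatom_map_iff _ _).2 (coatom_of card_A)).1
  have nB : ∀ g, hB.range.map (MulAut.conj g).toMonoidHom ≠ ⊤ := fun g => ((isCoatom_map_iff _ _).2 (coatom_of card_B)).1
  by_cases h3 : 3 ∣ Nat.card M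
  · obtain ⟨x, hx⟩ := exists_prime_orderOf_dvd_card' 3 h3
    obtain ⟨g, hg⟩ := conj_three x (by rw [← L168.orderOf_eq, orderOf_coe, hx])
    have : el 32 ∈ M.map (MulAut.conj g⁻¹).toMonoidHom := ⟨x, x.2, by simp [← hg, mul_assoc]⟩
    rcases le_of_three this (by rwa [card_map_eq']) with h | h
    · exact ⟨_, Or.inl (eqc hM (flip h) (nA _))⟩
    · have := flip h
      rw [cc] at this
      exact ⟨_, Or.inr (eqc hM this (nB _))⟩
  · have hd : Nat.card M ∣ 8 * 3 * 7 := (card_subgroup_dvd_card M).trans (card ▸ dvd_rfl)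
    have hd := (Nat.Coprime.dvd_mul_right ((Nat.Prime.coprime_iff_not_dvd (by norm_num)).2 h3).symm).1
      ((Nat.Coprime.dvd_mul_right ((Nat.Prime.coprime_iff_not_dvd (by norm_num)).2 h7).symm).1 hd)
    obtain ⟨n, -, hn⟩ := (Nat.dvd_prime_pow Nat.prime_two (m := 3)).1 hd
    obtain ⟨S, hS⟩ := (IsPGroup.of_card hn).exists_le_sylow
    obtain ⟨T, hT⟩ := Lib.Small.exists_sylow_of_card (p := 2) (a := 3) (m := 21) (Q := hD.range) card (by norm_num) card_T
    obtain ⟨g, rfl⟩ := MulAction.exists_smul_eq L168 T S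
    rw [Sylow.coe_subgroup_smul, hT] at hS
    exact ⟨g, Or.inl (eqc hM (hS.trans (map_mono T_le_A)) (nA g))⟩


/-- In a simple group of order 168 every maximal subgroup is either isomorphic to the symmetric group of degree 4 or non-abelian of order 21; the maximal subgroups of order 21 form one conjugacy class and those isomorphic to the symmetric group of degree 4 form exactly two conjugacy classes. -/
theorem result {G : Type*} [Group G] [Finite G] [IsSimpleGroup G] (h : Nat.card G = 168) : (∀ M : Subgroup G, IsCoatom M → Nonempty (↥M ≃* Equiv.Perm (Fin 4)) ∨ (Nat.card ↥M = 21 ∧ ¬ IsMulCommutative ↥M)) ∧ (∀ M M' : Subgroup G, IsCoatom M → IsCoatom M' → Nat.card ↥M = 21 → Nat.card ↥M' = 21 → ∃ g : G, M' = M.map (MulAut.conj g).toMonoidHom) ∧ ∃ M₁ M₂ : Subgroup G, IsCoatom M₁ ∧ IsCoatom M₂ ∧ Nonempty (↥M₁ ≃* Equiv.Perm (Fin 4)) ∧ Nonempty (↥M₂ ≃* Equiv.Perm (Fin 4)) ∧ (∀ g : G, M₂ ≠ M₁.map (MulAut.conj g).toMonoidHom) ∧ ∀ M : Subgroup G, IsCoatom M → Nonempty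 (↥M ≃* Equiv.Perm (Fin 4)) → ∃ g : G, M = M₁.map (MulAut.conj g).toMonoidHom ∨ M = M₂.map (MulAut.conj g).toMonoidHom := by
  have : Fact (Nat.Prime 7) := ⟨by norm_num⟩
  have hG := Lib.Small.not_isMulCommutative_of_not_prime (G := G) (by rw [h]; norm_num)
  obtain ⟨e⟩ := exists_l168 h
  have c7 : ∀ P : Sylow 7 G, Nat.card (P : Subgroup G) = 7 := fun P =>
    Lib.Small.card_sylow_subgroup_eq P (a := 1) (m := 24) h (by norm_num)
  have cN : ∀ P : Sylow 7 G, Nat.card (normalizer ((P : Subgroup G) : Set G)) = 21 := fun P => by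
    have := Lib.Small.card_normalizer_mul_card_sylow P
    rw [(S1003.result h).2.2, h] at this
    omega
  have k7 : ∀ M : Subgroup G, IsCoatom M → 7 ∣ Nat.card M → ∃ P : Sylow 7 G, M = normalizer ((P : Subgroup G) : Set G) := by
    intro M hM h7
    obtain ⟨Q⟩ : Nonempty (Sylow 7 M) := inferInstance
    obtain ⟨k, hk⟩ := h7
    have hi := M.index_mul_card
    have h1 := Lib.Small.two_mul_card_dvd_factorial_index hG hM.1
    rw [h] at hi h1
    have h2 : 7 ≤ M.index := by
      by_contra hl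
      have : M.index ≤ 6 := by omega
      exact absurd (h1.trans (Nat.factorial_dvd_factorial this)) (by decide)
    have hk3 : k ≤ 3 := by rw [hk] at hi; nlinarith
    have hk0 : 0 < k := by rw [hk] at hi; rcases k with _ | k <;> omega
    have hk7 : ¬ 7 ∣ k := fun d => by have := Nat.le_of_dvd hk0 d; omega
    have hQ := Lib.Small.card_sylow_subgroup_eq Q (a := 1) (m := k) (by rw [hk, pow_one]) hk7
    have hn := Lib.Small.card_sylow_dvd (G := M) (p := 7) (a := 1) (m := k) (by rw [hk, pow_one]) hk7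
    have hm := Lib.Small.card_sylow_mod (G := M) (p := 7)
    have hle := Nat.le_of_dvd hk0 hn
    have hQn := Lib.Small.normal_of_card_sylow_eq_one Q (by omega)
    obtain ⟨P, hP⟩ := Lib.Small.exists_sylow_of_card (p := 7) (a := 1) (m := 24) (Q := (Q : Subgroup M).map M.subtype) h (by norm_num)
      (by rw [card_map_of_injective M.subtype_injective, hQ])
    have hle : M ≤ normalizer ((P : Subgroup G) : Set G) := by
      rw [hP]
      have := Lib.Small.map_normalizer_le M.subtype (Q : Subgroup M)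
      rwa [normalizer_eq_top, ← MonoidHom.range_eq_map, range_subtype] at this
    refine ⟨P, eqc hM hle fun e => ?_⟩
    have := cN P
    rw [e, card_top, h] at this
    omega
  have k24 : ∀ M : Subgroup G, IsCoatom M → ¬ 7 ∣ Nat.card M → ∃ g : G,
      M = (L168.hA.range.map e.toMonoidHom).map (MulAut.conj g).toMonoidHom ∨
      M = (L168.hB.range.map e.toMonoidHom).map (MulAut.conj g).toMonoidHom := by
    intro M hM h7
    obtain ⟨M, rfl⟩ := exists_map_eq e M
    obtain ⟨g, hg⟩ := key M ((isCoatom_map_iff _ _).1 hM) (by rwa [card_map_eq'] at h7)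
    refine ⟨e g, ?_⟩
    rw [map_conj_map, map_conj_map]
    exact hg.imp (congrArg _) (congrArg _)
  have eA := (mapEq e _).symm.trans (MonoidHom.ofInjective L168.hA_inj).symm
  have eB := (mapEq e _).symm.trans (MonoidHom.ofInjective L168.hB_inj).symm
  refine ⟨fun M hM => ?_, fun M M' hM hM' h1 h2 => ?_, _, _, (isCoatom_map_iff _ _).2 (L168.coatom_of L168.card_A),
    (isCoatom_map_iff _ _).2 (L168.coatom_of L168.card_B), ⟨eA⟩, ⟨eB⟩, fun g => ?_, fun M hM ⟨f⟩ => k24 M hM ?_⟩
  · by_cases h7 : 7 ∣ Nat.card M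
    · obtain ⟨P, hP⟩ := k7 M hM h7
      have h21 : Nat.card M = 21 := hP ▸ cN P
      refine Or.inr ⟨h21, fun hc => ?_⟩
      obtain ⟨x, hx⟩ := exists_prime_orderOf_dvd_card' 7 h7
      obtain ⟨y, hy⟩ := exists_prime_orderOf_dvd_card' (G := M) 3 (by rw [h21]; norm_num)
      have := (Commute.orderOf_mul_eq_mul_orderOf_of_coprime (hc.is_comm.comm x y) (by rw [hx, hy]; norm_num))
      have h5 := (S1005.result h).1 (x * y : M)
      rw [orderOf_coe, this, hx, hy] at h5
      omega
    · obtain ⟨g, rfl | rfl⟩ := k24 M hM h7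
      · exact Or.inl ⟨(mapEq _ _).symm.trans eA⟩
      · exact Or.inl ⟨(mapEq _ _).symm.trans eB⟩
  · obtain ⟨P, rfl⟩ := k7 M hM (by rw [h1]; norm_num)
    obtain ⟨P', rfl⟩ := k7 M' hM' (by rw [h2]; norm_num)
    obtain ⟨g, rfl⟩ := MulAction.exists_smul_eq G P P'
    exact ⟨g, (map_equiv_normalizer_eq _ (MulAut.conj g)).symm⟩
  · obtain ⟨g, rfl⟩ := e.surjective g
    rw [map_conj_map]
    exact fun e' => L168.B_ne g (map_injective e.injective e')
  · rw [Nat.card_congr f.toEquiv, Nat.card_perm]; simp [Nat.factorial]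

end Cfsg.Agent.S1008
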