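import Cfsg.Statements.S4304
import Cfsg.Agent.Lib.Small.SylNum

set_option autoImplicit false
open Cfsg

namespace Cfsg.Agent.S4304

open Cfsg.Lib.Small Cfsg.Lib.Amalg

/-- No finite group has exactly 15 Sylow 7-subgroups. -/
theorem result {G : Type*} [Group G] [Finite G] : Nat.card (Sylow 7 G) ≠ 15 := by
  intro h
  have := Fact.mk (show Nat.Prime 7 by norm_num)
  obtain ⟨S, _, _, _, hS, hn⟩ := exists_simple_of_card_sylow (p := 7) (m := 15) (fun d hd h1 => by
    have := Nat.le_of_dvd (by norm_num) hd
    interval_cases d <;> simp_all) (by norm_num)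
    (not_isPrimePow_of Nat.prime_three Nat.prime_five (by norm_num) (by norm_num) (by norm_num)) G h
  obtain ⟨P⟩ : Nonempty (Sylow 7 S) := inferInstance
  have hP := card_eq_of_card_sylow_lt hS (dvd_card_of_card_sylow_ne_one (by omega)) (by omega) P
  rcases brauer_core (commutator_eq_top_of_simple hS) P hP (n := 2) hn (onlyDiv_of_lt (by norm_num) (by norm_num))
    (Or.inr fun K hK hd => hK.eq_bot_or_eq_top.resolve_right fun e => hd (by
      rw [e, Subgroup.card_top]; exact hP ▸ Subgroup.card_subgroup_dvd_card _)) with ⟨-, h1, -⟩ | ⟨m, -, -, -, -, h1, -⟩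
  · omega
  · have : m < 3 := (Nat.pow_lt_pow_iff_right (a := 2) (by norm_num)).1 (by omega)
    interval_cases m <;> omega

end Cfsg.Agent.S4304
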