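import Cfsg.Statements.S1010
import Cfsg.Agent.Lib.Small.PB2
import Cfsg.Agent.S4304

set_option autoImplicit false
open Cfsg

namespace Cfsg.Agent.S1010

open Cfsg.Lib.Small Cfsg.Lib.Amalg Cfsg.Lib.Char Cfsg.Lib Subgroup

theorem aux {G : Type*} [Group G] [Finite G] [IsSimpleGroup G] (hG : ¬ IsMulCommutative G)
    (hn : Nat.card (Sylow 5 G) = 21) : False := by
  have := Fact.mk Nat.prime_five
  have := Fact.mk Nat.prime_two
  have := Fact.mk (show Nat.Prime 7 by norm_num)
  obtain ⟨P⟩ : Nonempty (Sylow 5 G) := inferInstance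
  have hd : 5 ∣ Nat.card G := dvd_card_of_card_sylow_ne_one (by omega)
  have hP := card_eq_of_card_sylow_lt hG hd (by omega) P
  have hperf := commutator_eq_top_of_simple hG
  obtain ⟨M, hM⟩ := Block2.exists_isPModular Nat.prime_five
  have := hM.2.1
  obtain ⟨e, t, X, Y, κ, ε, h, hB⟩ := exists_PB_block hM hP P.not_dvd_index
  obtain ⟨D⟩ := h.dOne
  have he := one_lt_relIndex_of_perfect hperf P hd
  rw [h.he] at he
  have hi := h.index_C
  have hs := (index_normalizer_sylow P).trans hn
  rw [hs] at hi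
  have hm := h.mul
  have het : (e = 2 ∧ t = 2) ∨ (e = 4 ∧ t = 1) := by
    have : e ≤ 4 := by nlinarith [h.t_pos]
    interval_cases e <;> omega
  have A : 𝐂 (P : Subgroup G) ≤ P → False := fun hC => by
    have h1 := h.card_eq hC
    rw [hs] at h1
    rcases het with ⟨rfl, -⟩ | ⟨rfl, -⟩
    · exact not_coprime_of_simple (p := 2) hG (m := 105) (by omega) (by norm_num) (by norm_num)
    · have h2 := card_sylow_dvd (p := 7) (G := G) (a := 1) (m := 60) (by omega) (by norm_num)
      have h3 := card_sylow_mod (p := 7) (G := G)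
      have h4 := one_lt_card_sylow (p := 7) hG (by omega)
      have h5 := Agent.S4304.result (G := G)
      have := Nat.le_of_dvd (by norm_num) h2
      generalize Nat.card (Sylow 7 G) = k at *
      interval_cases k <;> omega
  have B : ∀ χ : IrrCharacter G, charDegree χ.1 = 6 → (∀ g, 5 ∣ orderOf g → χ.1 g = 1) → False :=
    fun χ h1 h2 => A (D.C_le_of_deg_succ hG h1 h2)
  have hO := normal_eq_bot_of_simple hd
  obtain ⟨χ, h1, h2, h3, -⟩ := exists_principal_not_dvd hM (m := 7) (by norm_num) (g := (D.x : G))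
    (D.orderOf_eq D.x_mem D.x_ne_one).symm.dvd
  have h4 : charDegree χ.1 ≠ 1 := fun e => h2 (eq_principal_of_degree_one hperf e)
  have key : charDegree χ.1 ∣ e * 21 → charDegree χ.1 ∣ e * 3 := fun hd =>
    ((Nat.Prime.coprime_iff_not_dvd (by norm_num)).2 h3).symm.dvd_of_dvd_mul_right (by rwa [mul_assoc])
  rcases (hB χ).1 h1 with hχ | hχ
  · have h5 := key (hi ▸ h.dvd_X hχ)
    have h6 := h.av_X hχ
    have h7 := Nat.le_of_dvd (by omega) h5
    rcases h.sign_ε χ hχ with e1 | e1
    · refine B χ ?_ fun g hg => by rw [h.val_X χ hχ g hg, e1]; simp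
      rw [e1] at h6
      generalize charDegree χ.1 = d at *
      rcases het with ⟨rfl, -⟩ | ⟨rfl, -⟩ <;> interval_cases d <;> omega
    · have h8 : charDegree χ.1 + 1 = 5 := by
        rw [e1] at h6
        generalize charDegree χ.1 = d at *
        rcases het with ⟨rfl, -⟩ | ⟨rfl, -⟩ <;> interval_cases d <;> omega
      exact A (D.C_le_of_ker hO (h.av_X_zero hχ h8 e1) fun y => h.ker_X hχ h8 e1)
  · have h5 := key (hi ▸ h.dvd_Y hχ)
    have h6 := h.av_Y hχ
    have h7 := Nat.le_of_dvd (by omega) h5
    rcases h.sign with e1 | e1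
    · have h8 : charDegree χ.1 = e := by
        rw [e1] at h6
        generalize charDegree χ.1 = d at *
        rcases het with ⟨rfl, -⟩ | ⟨rfl, -⟩ <;> interval_cases d <;> omega
      exact A (D.C_le_of_ker hO (h.av_Y_zero hχ h8 e1) fun y => h.ker_Y hχ h8 e1)
    rw [e1] at h6
    rcases het with ⟨rfl, rfl⟩ | ⟨rfl, rfl⟩
    · obtain ⟨φ, -, h8, h9⟩ := h.two rfl (h.one_mem_X hperf one_lt_two)
      have h10 := h9 χ hχ
      have hφ := (h8 φ).2 (Or.inr rfl)
      have h11 := hi ▸ h.dvd_X hφ
      have h12 : charDegree χ.1 = 3 := by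
        generalize charDegree χ.1 = d at *
        interval_cases d <;> omega
      have h13 : charDegree φ.1 = 4 := by rcases h.sign_ε φ hφ with e2 | e2 <;> rw [e1, e2, h12] at h10 <;> omega
      rw [h13] at h11
      omega
    · refine B χ ?_ fun g hg => by rw [h.val_Y_one rfl hχ hg, e1]; simp
      generalize charDegree χ.1 = d at *
      interval_cases d <;> omega

/-- No finite group has exactly twenty-one Sylow 5-subgroups. -/
theorem result {G : Type*} [Group G] [Finite G] : Nat.card (Sylow 5 G) ≠ 21 := by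
  intro h
  have := Fact.mk Nat.prime_five
  obtain ⟨S, _, _, _, hS, hn⟩ := exists_simple_of_card_sylow (p := 5) (m := 21) (fun d hd h1 => by
    have := Nat.le_of_dvd (by norm_num) hd
    interval_cases d <;> simp_all) (by norm_num)
    (not_isPrimePow_of Nat.prime_three (show Nat.Prime 7 by norm_num) (by norm_num) (by norm_num) (by norm_num)) G h
  exact aux hS hn

end Cfsg.Agent.S1010
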