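import Cfsg.Statements.S1011
import Cfsg.Agent.Lib.Small.BTuan
import Cfsg.Agent.Lib.Exc.CIT6

set_option autoImplicit false
open Cfsg

namespace Cfsg.Agent.S1011

open Cfsg.Lib Cfsg.Lib.Small Cfsg.Lib.Linear Cfsg.Lib.Char Subgroup

/-- A simple group of order 504 is isomorphic to the projective special linear group of dimension 2 over the field with 8 elements. -/
theorem result {G : Type*} [Group G] [Finite G] [IsSimpleGroup G] (h : Nat.card G = 504) {F : Type*} [Field F] [Fintype F] (hF : Fintype.card F = 8) : Nonempty (G ≃* Matrix.ProjectiveSpecialLinearGroup (Fin 2) F) := by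
  classical
  have hG := not_isMulCommutative_of_not_prime (G := G) (by rw [h]; norm_num)
  haveI := Fact.mk Nat.prime_seven
  have hperf := commutator_eq_top_of_simple hG
  obtain ⟨P⟩ : Nonempty (Sylow 7 G) := inferInstance
  have hP : Nat.card (P : Subgroup G) = 7 := card_sylow_subgroup_eq P (a := 1) (m := 72) h (by omega)
  obtain ⟨n, hn⟩ := exists_card_sylow_eq (G := G) (p := 7)
  have h1 := card_sylow_dvd (G := G) (p := 7) (a := 1) (m := 72) h (by omega)
  have h2 := one_lt_card_sylow (p := 7) hG (by omega)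
  have h3 := card_normalizer_mul_card_sylow P
  obtain rfl : n = 5 := by
    rw [hn] at h1 h2
    have := Nat.le_of_dvd (by omega) h1
    obtain rfl | rfl : n = 1 ∨ n = 5 := by
      have : n ≤ 11 := by omega
      interval_cases n <;> omega
    rcases brauer_core hperf P hP hn (onlyDiv_of_lt (by omega) (by omega)) (.inr
      (normal_eq_bot_of_simple (by omega))) with ⟨-, -, ⟨e⟩⟩ | ⟨m, -, -, -, -, h4, -⟩
    · have := card_PSL_two_of_odd (F := ZMod 7) (by rw [Nat.card_zmod]; decide)
      rw [← Nat.card_congr e.toEquiv, Nat.card_zmod] at this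
      omega
    · rcases m with _ | _ | m <;> omega
    · rfl
  obtain ⟨e, t, X, Y, κ, ε, H⟩ := exists_PB hP P.not_dvd_index
  obtain ⟨D⟩ := H.dOne
  have h4 := one_lt_relIndex_of_perfect hperf P (by omega)
  have h5 := H.index_C
  have h6 := index_mul_card (centralizer ((P : Subgroup G) : Set G))
  have h7 := D.card_C
  have h8 := H.mul
  rw [H.he] at h4
  rw [index_normalizer_sylow, hn] at h5
  obtain ⟨rfl, h9⟩ : e = 2 ∧ (P : Subgroup G).relIndex (centralizer ((P : Subgroup G) : Set G)) = 1 := by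
    rw [h5, h7, h] at h6
    generalize (P : Subgroup G).relIndex _ = k at h6
    rcases k with _ | _ | k <;> [omega; omega; nlinarith]
  have hC := relIndex_eq_one.1 h9
  obtain ⟨χ, a1, a2, a3⟩ := H.two rfl (H.one_mem_X hperf (by omega))
  obtain ⟨θ, hθ⟩ := H.exists_Y
  have hχ := (a2 χ).2 (.inr rfl)
  have b1 := H.dvd_X hχ
  have b2 := H.dvd_Y hθ
  have b3 := H.av_X hχ
  have b4 := a3 θ hθ
  have b5 := mt (eq_principal_of_degree_one hperf) a1
  rw [h5] at b1 b2
  obtain ⟨b6, b7⟩ : charDegree χ.1 = 8 ∧ charDegree θ.1 = 9 := by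
    have := Nat.le_of_dvd (by omega) b1
    have := deg_pos χ
    generalize charDegree χ.1 = x at *
    rcases H.sign with rfl | rfl <;> rcases H.sign_ε χ hχ with e | e <;> rw [e] at b3 b4
    · obtain e : charDegree θ.1 = x + 1 := by omega
      rw [e] at b2 ⊢
      interval_cases x <;> omega
    · omega
    · omega
    · obtain e : charDegree θ.1 = x - 1 := by omega
      rw [e] at b2 ⊢
      interval_cases x <;> omega
  have hcit : Exc.CIT G := fun s hs => (isPGroup_iff_primeFactors_card_subset two_ne_zero).2 fun r hr => by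
    have hr1 := Nat.prime_of_mem_primeFactors hr
    haveI := Fact.mk hr1
    obtain ⟨y, hy⟩ := exists_prime_orderOf_dvd_card' r (Nat.dvd_of_mem_primeFactors hr)
    rw [← orderOf_coe] at hy
    rw [Nat.prime_two.primeFactors, Finset.mem_singleton]
    by_contra c1
    have c2 := Commute.orderOf_mul_eq_mul_orderOf_of_coprime (mem_centralizer_singleton_iff.1 y.2)
      (by rw [hy, hs]; exact (Nat.coprime_primes hr1 Nat.prime_two).2 c1)
    rw [hy, hs] at c2
    have c3 : r ∣ 2 ^ 3 * 3 ^ 2 * 7 := hy ▸ (_root_.orderOf_dvd_natCard _).trans h.dvd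
    obtain rfl | rfl : r = 3 ∨ r = 7 := by
      simpa [hr1.dvd_mul, hr1.prime.dvd_pow_iff_dvd, Nat.prime_dvd_prime_iff_eq hr1, Nat.prime_two,
        Nat.prime_three, Nat.prime_seven, c1, -Nat.reducePow, -Nat.reduceMul] using c3
    · have c4 := H.rel θ hθ (y * s) (by omega)
      rw [apply_eq_zero_of_defectZero Nat.prime_three (by rw [b7, h]; decide +kernel) (by omega),
        show X = {principalIrr G, χ} by ext; simp [a2], Finset.sum_pair a1.symm,
        apply_eq_zero_of_defectZero (χ := χ) Nat.prime_two (by rw [b6, h]; decide +kernel) (by omega),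
        H.ε_one ((a2 _).2 (.inl rfl))] at c4
      simp [principalIrr] at c4
    · have := D.orderOf_eq_p hC (g := y * s) (by omega)
      omega
  rcases hcit.simple hG with ⟨K, _, _, n, c1, c2, ⟨e⟩⟩ | ⟨K, _, _, m, c1, ⟨e⟩⟩ | ⟨K, _, _, k, c1, c2, ⟨e⟩⟩ |
    ⟨K, _, _, c1, ⟨e⟩⟩
  · have c3 := card_PSL_two_of_even (F := K) (by
      rw [Nat.card_eq_fintype_card, c2]; exact Nat.even_pow.2 ⟨even_two, by omega⟩)
    rw [← Nat.card_congr e.toEquiv, h, Nat.card_eq_fintype_card] at c3
    have : Fintype.card K = 8 := by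
      obtain ⟨q, hq⟩ := Nat.exists_eq_add_of_le' (Fintype.card_pos (α := K))
      rw [hq, Nat.add_sub_cancel] at c3
      have : q < 9 := by by_contra! h; nlinarith [Nat.mul_le_mul h h]
      interval_cases q <;> omega
    exact ⟨e.trans (pslMapEquiv _ (FiniteField.ringEquivOfCardEq (this.trans hF.symm)))⟩
  · have c2 := BN.Sz.card_Sz (F := K) (m := m)
    obtain ⟨m, rfl⟩ := Nat.exists_eq_add_of_le' c1.one_le
    rw [← Nat.card_congr e.toEquiv, h] at c2
    have : 64 ∣ 504 := c2 ▸ Dvd.dvd.mul_right (Dvd.dvd.mul_right ⟨(2 ^ (2 * m)) ^ 2, by ring⟩ _) _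
    omega
  · obtain ⟨k, rfl⟩ := Nat.exists_eq_add_of_le' c1
    have c3 := card_PSL_two_of_odd (F := K) (by rw [Nat.card_eq_fintype_card, Nat.odd_iff]; rw [pow_succ] at c2; omega)
    rw [← Nat.card_congr e.toEquiv, h, Nat.card_eq_fintype_card] at c3
    obtain ⟨q, hq⟩ := Nat.exists_eq_add_of_le' (Fintype.card_pos (α := K))
    rw [hq, Nat.add_sub_cancel] at c3
    have : q < 11 := by by_contra! h; nlinarith [Nat.mul_le_mul h h]
    interval_cases q <;> omega
  · have := Exc.card_psl3_four (Nat.card_eq_fintype_card.trans c1)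
    rw [← Nat.card_congr e.toEquiv] at this
    omega

end Cfsg.Agent.S1011
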