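import Cfsg.Statements.S1013
import Cfsg.Agent.Lib.Small.Simple
import Mathlib.GroupTheory.GroupAction.Primitive

set_option autoImplicit false
open Cfsg

namespace Cfsg.Agent.S1013

open Cfsg.Lib.Small Cfsg.Lib.Amalg Cfsg.Lib Subgroup MulAction

/-- Let G be a transitive permutation group of prime degree p having more than one Sylow p-subgroup, and suppose a Sylow p-subgroup P has prime index in its normalizer. Then G is simple. -/
theorem result {α : Type*} [Fintype α] [DecidableEq α] {p : ℕ} [Fact p.Prime] (hα : Fintype.card α = p) (G : Subgroup (Equiv.Perm α)) [MulAction.IsPretransitive ↥G α] (P : Sylow p ↥G) (hn : 1 < Nat.card (Sylow p ↥G)) (ht : (((P : Subgroup ↥G).subgroupOf (Subgroup.normalizer ((P : Subgroup ↥G) : Set ↥G))).index).Prime) : IsSimpleGroup ↥G := by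
  have hp : p.Prime := Fact.out
  have hα' : Nat.card α = p := by rw [Nat.card_eq_fintype_card, hα]
  have hprim : IsPreprimitive G α := IsPreprimitive.of_prime_card (hα' ▸ hp)
  have : Nontrivial α := Fintype.one_lt_card_iff_nontrivial.1 (hα ▸ hp.one_lt)
  have hdvd : ∀ K : Subgroup G, K.Normal → K ≠ ⊥ → p ∣ Nat.card K := by
    intro K hK hne
    have htr : IsPretransitive K α := by
      apply IsQuasiPreprimitive.isPretransitive_of_normal
      intro h
      apply hne
      rw [eq_bot_iff]
      intro k hk
      ext x
      have : x ∈ fixedPoints K α := h ▸ Set.mem_univ x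
      exact this ⟨k, hk⟩
    obtain ⟨x⟩ : Nonempty α := inferInstance
    rw [← hα', ← index_stabilizer_of_transitive K x]
    exact index_dvd_card _
  have hG1 : Nontrivial G := by
    by_contra h
    rw [not_nontrivial_iff_subsingleton] at h
    have : Subsingleton (Sylow p G) := ⟨fun a b => Sylow.ext (Subsingleton.elim _ _)⟩
    rw [Finite.one_lt_card_iff_nontrivial] at hn
    exact not_nontrivial _ hn
  have hPc : Nat.card (P : Subgroup G) ∣ p := by
    obtain ⟨k, hk⟩ := P.2.exists_card_eq
    have h1 : p ^ k ∣ p.factorial := by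
      have := (card_subgroup_dvd_card (P : Subgroup G)).trans (card_subgroup_dvd_card G)
      rwa [hk, Nat.card_perm, hα'] at this
    rw [hk]
    rcases k with _ | _ | k
    · simp
    · simp
    · exfalso
      rw [← Nat.mul_factorial_pred hp.ne_zero, pow_succ', Nat.mul_dvd_mul_iff_left hp.pos] at h1
      have := (hp.dvd_factorial).1 ((dvd_pow_self p (by omega)).trans h1)
      have := hp.pos
      omega
  refine ⟨fun K hK => ?_⟩
  by_cases hne : K = ⊥
  · exact Or.inl hne
  right
  have hS := (syl_top P).inf_normal_top K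
  have hPK : (P : Subgroup G) ≤ K := by
    have h1 : p ∣ Nat.card ↥((P : Subgroup G) ⊓ K) := dvd_card_of_isPGroup_ne_bot hS.isPGroup (hS.ne_bot (hdvd K hK hne))
    have h2 : (P : Subgroup G) ⊓ K = P := eq_of_le_of_card_ge inf_le_left
      ((Nat.le_of_dvd hp.pos hPc).trans (Nat.le_of_dvd Nat.card_pos h1))
    exact h2 ▸ inf_le_right
  have hF := P.normalizer_sup_eq_top' hPK
  change ((P : Subgroup G).relIndex (𝐍 (P : Subgroup G))).Prime at ht
  have h1 := relIndex_mul_relIndex (P : Subgroup G) (𝐍 (P : Subgroup G) ⊓ K) (𝐍 (P : Subgroup G))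
    (le_inf le_normalizer hPK) inf_le_left
  rcases (Nat.dvd_prime ht).1 (Dvd.intro _ h1) with h | h
  · exfalso
    rw [relIndex_eq_one] at h
    have hcomm : IsMulCommutative (P : Subgroup G) := (isCyclic_of_card_dvd_prime hPc).isMulCommutative
    obtain ⟨M, hM, hi, hnd⟩ := exists_normal_complement_of_normalizer_le (P.subtype hPK) (by
      rw [Sylow.coe_subtype, normalizer_subgroupOf hPK, Core.centralizer_subgroupOf hPK]
      intro x hx
      exact le_centralizer (P : Subgroup G) (h ⟨hx, x.2⟩))
    have hcop : (Nat.card M).Coprime M.index := by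
      rw [hi]
      obtain ⟨k, hk⟩ := (P.subtype hPK).2.exists_card_eq
      rw [hk]
      exact ((Nat.Prime.coprime_iff_not_dvd hp).2 hnd).symm.pow_right _
    have hMc : M.Characteristic := by
      rw [characteristic_iff_map_le]
      intro φ
      rw [← relIndex_eq_one]
      refine Nat.eq_one_of_dvd_coprimes hcop ?_ (relIndex_dvd_index_of_normal _ _)
      rw [← card_map_of_injective (K := M) (f := φ.toMonoidHom) φ.injective]
      exact relIndex_dvd_card _ _
    have h2 := Core.normal_map_subtype_of_characteristic M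
    by_cases hM1 : M.map K.subtype = ⊥
    · rw [map_eq_bot_iff_of_injective _ K.subtype_injective] at hM1
      rw [hM1, index_bot, Sylow.coe_subtype, Core.card_subgroupOf_of_le hPK] at hi
      have h3 : (P : Subgroup G) = K := eq_of_le_of_card_ge hPK hi.le
      have := P.unique_of_normal (h3 ▸ hK)
      rw [Nat.card_unique] at hn
      exact lt_irrefl _ hn
    · exact hnd (Core.card_map_subtype M ▸ hdvd _ h2 hM1)
  · rw [h] at h1
    have h2 := Nat.eq_of_mul_eq_mul_left ht.pos (h1.trans (mul_one _).symm)
    rw [relIndex_eq_one] at h2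
    rw [← hF]
    exact (sup_eq_right.2 (h2.trans inf_le_right)).symm

end Cfsg.Agent.S1013
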