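import Cfsg.Statements.S1014
import Cfsg.Agent.Lib.Small.Sylow

set_option autoImplicit false
open Cfsg

namespace Cfsg.Agent.S1014

open Cfsg.Lib.Small Cfsg.Lib.Amalg Cfsg.Lib Subgroup

/-- No finite simple group has order 1104 = 2^4 * 3 * 23. -/
theorem result {G : Type*} [Group G] [Finite G] [IsSimpleGroup G] : Nat.card G ≠ 1104 := by
  intro h
  have hG : ¬ IsMulCommutative G := not_isMulCommutative_of_not_prime (by rw [h]; norm_num)
  haveI : Fact (Nat.Prime 23) := ⟨by norm_num⟩
  obtain ⟨P⟩ : Nonempty (Sylow 23 G) := inferInstance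
  have hc : Nat.card G = 23 ^ 1 * 48 := by rw [h]; norm_num
  have hd : 23 ∣ Nat.card G := by rw [h]; norm_num
  have h1 := card_sylow_dvd hc (by norm_num)
  have h2 := card_sylow_mod (G := G) (p := 23)
  have h3 := one_lt_card_sylow hG hd
  have hP := card_sylow_subgroup_eq P hc (by norm_num)
  have h4 : Nat.card (Sylow 23 G) = 24 := by
    have := Nat.le_of_dvd (by norm_num) h1
    interval_cases Nat.card (Sylow 23 G) <;> simp_all
  have h5 := two_mul_card_dvd_of_card_sylow hG (by norm_num) P (by simpa using hP) h4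
  rw [h] at h5
  norm_num at h5

end Cfsg.Agent.S1014
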