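import Cfsg.Statements.S1015
import Cfsg.Agent.Lib.Small.Sylow

set_option autoImplicit false
open Cfsg

namespace Cfsg.Agent.S1015

open Cfsg.Lib.Small Cfsg.Lib.Amalg Cfsg.Lib Subgroup

/-- No finite simple group has order 1200 = 2^4 * 3 * 5^2. -/
theorem result {G : Type*} [Group G] [Finite G] [IsSimpleGroup G] : Nat.card G ≠ 1200 := by
  intro h
  have hG : ¬ IsMulCommutative G := not_isMulCommutative_of_not_prime (by rw [h]; norm_num)
  haveI : Fact (Nat.Prime 5) := ⟨by norm_num⟩
  have hc : Nat.card G = 5 ^ 2 * 48 := by rw [h]; norm_num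
  have hd : 5 ∣ Nat.card G := by rw [h]; norm_num
  have h1 := card_sylow_dvd hc (by norm_num)
  have h3 := one_lt_card_sylow hG hd
  have h4 : ¬ Nat.card (Sylow 5 G) ≡ 1 [MOD 5 ^ 2] := by
    have := Nat.le_of_dvd (by norm_num) h1
    unfold Nat.ModEq
    interval_cases Nat.card (Sylow 5 G) <;> simp_all
  obtain ⟨k, i, hk1, hk2, hi1, hki, h5⟩ :=
    two_mul_card_dvd_of_not_modEq_sq hG hc (by norm_num) le_rfl h4
  rw [h] at h5
  have h6 := Nat.le_of_dvd (by norm_num) hki
  have h7 : i ≤ 8 := by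
    have : 6 ≤ k := by omega
    nlinarith
  interval_cases i <;> simp [Nat.factorial] at h5

end Cfsg.Agent.S1015
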