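import Cfsg.Statements.S1018
import Cfsg.Agent.Lib.Small.Simple

set_option autoImplicit false
open Cfsg

namespace Cfsg.Agent.S1018

open Cfsg.Lib.Small Cfsg.Lib.Amalg Cfsg.Lib Subgroup MulAction

/-- Let P be a Sylow p-subgroup of order p of a finite group G, and consider the action of G on the left cosets of the normalizer N of P. Then every element of order p fixes exactly one coset, and an element of N that does not centralize P fixes at most as many cosets as there are orbits of P. -/
theorem result {G : Type*} [Group G] [Finite G] (p : ℕ) [Fact p.Prime] (P : Sylow p G) (hP : Nat.card ↥(P : Subgroup G) = p) : (∀ y : G, orderOf y = p → Nat.card (MulAction.fixedBy (G ⧸ Subgroup.normalizer ((P : Subgroup G) : Set G)) y) = 1) ∧ ∀ x : G, x ∈ Subgroup.normalizer ((P : Subgroup G) : Set G) → x ∉ Subgroup.centralizer ((P : Subgroup G) : Set G) → Nat.card (MulAction.fixedBy (G ⧸ Subgroup.normalizer ((P : Subgroup G) : Set G)) x) ≤ Nat.card (MulAction.orbitRel.Quotient ↥(P : Subgroup G)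 (G ⧸ Subgroup.normalizer ((P : Subgroup G) : Set G))) := by
  have hp : p.Prime := Fact.out
  have hfix : ∀ (y g : G), y • (g : G ⧸ 𝐍 (P : Subgroup G)) = g ↔ g⁻¹ * y * g ∈ 𝐍 (P : Subgroup G) := by
    intro y g
    rw [MulAction.Quotient.smul_coe, eq_comm, QuotientGroup.eq, smul_eq_mul, mul_assoc]
  refine ⟨fun y hy => ?_, fun x hx hxc => ?_⟩
  · have hy1 : y ^ p ^ 1 = 1 := by rw [pow_one, ← hy, pow_orderOf_eq_one]
    obtain ⟨g, hg⟩ := Invol.exists_conj_mem_sylow P hy1
    have hne : y ≠ 1 := by rintro rfl; exact hp.one_lt.ne (by simpa using hy)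
    rw [Nat.card_eq_one_iff_exists]
    refine ⟨⟨((g⁻¹ : G) : G ⧸ 𝐍 (P : Subgroup G)), (hfix _ _).2 (by simpa using le_normalizer hg)⟩, ?_⟩
    rintro ⟨q, hq⟩
    obtain ⟨h, rfl⟩ := QuotientGroup.mk_surjective q
    have h1 := (hfix _ _).1 hq
    have h2 : h⁻¹ * y * h ∈ (P : Subgroup G) := by
      refine (syl_top P).mem_of_mem_normalizer (k := 1) ?_ (mem_top _) h1
      have : h⁻¹ * y * h = MulAut.conj h⁻¹ y := by simp
      rw [this, ← map_pow, hy1, map_one]
    apply Subtype.ext
    change (h : G ⧸ 𝐍 (P : Subgroup G)) = ((g⁻¹ : G) : G ⧸ 𝐍 (P : Subgroup G))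
    rw [QuotientGroup.eq, ← cj_eq_self_iff]
    have a1 := eq_zpowers_of_mem_card_prime hP hg (by simpa using hne)
    have a2 := eq_zpowers_of_mem_card_prime hP h2 (by
      intro e; apply hne
      calc y = h * (h⁻¹ * y * h) * h⁻¹ := by group
        _ = 1 := by rw [e]; group)
    conv_lhs => rw [← a1]
    rw [cj_zpowers, ← a2]
    congr 1; group
  · refine Nat.card_le_card_of_injective
      (fun q => Quotient.mk (orbitRel (P : Subgroup G) _) q.1) ?_
    rintro ⟨a, ha⟩ ⟨b, hb⟩ hab
    obtain ⟨u, hu⟩ := Quotient.exact hab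
    apply Subtype.ext
    change (u : G) • b = a at hu
    change a = b
    rw [mem_fixedBy] at ha hb
    by_cases hu1 : (u : G) = 1
    · rw [← hu, hu1, one_smul]
    have hz := eq_zpowers_of_mem_card_prime hP u.2 hu1
    have hc : (u : G)⁻¹ * (x * u * x⁻¹) ≠ 1 := by
      intro e
      apply hxc
      change x ∈ 𝐂 (P : Subgroup G)
      rw [← hz, Core.centralizer_zpowers, mem_centralizer_singleton_iff]
      calc x * u = u * ((u : G)⁻¹ * (x * u * x⁻¹)) * x := by group
        _ = _ := by rw [e]; group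
    have hm : (u : G)⁻¹ * (x * u * x⁻¹) ∈ (P : Subgroup G) :=
      mul_mem (inv_mem u.2) (Core.conj_mem_of_mem_normalizer hx u.2)
    have hs : (u : G)⁻¹ * (x * u * x⁻¹) ∈ stabilizer G b := by
      rw [mem_stabilizer_iff, mul_smul, mul_smul, mul_smul, inv_smul_eq_iff.2 hb.symm, hu, ha, ← hu,
        inv_smul_smul]
    have := eq_zpowers_of_mem_card_prime hP hm hc
    have hu' : (u : G) ∈ stabilizer G b := (zpowers_le.2 hs) (this.ge u.2)
    rw [← hu]; exact hu'

end Cfsg.Agent.S1018
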