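import Cfsg.Statements.S1019
import Cfsg.Agent.Lib.Small.Simple

set_option autoImplicit false
open Cfsg

namespace Cfsg.Agent.S1019

open Cfsg.Lib.Small Cfsg.Lib.Amalg Cfsg.Lib Subgroup

/-- Let H be a subgroup of a finite group G and x an element of H. In the action of G on the left cosets of H, the number of cosets fixed by x, multiplied by the size of the conjugacy class of x, equals the index of H multiplied by the number of conjugates of x that lie in H. -/
theorem result {G : Type*} [Group G] [Finite G] (H : Subgroup G) (x : G) (hx : x ∈ H) : Nat.card (MulAction.fixedBy (G ⧸ H) x) * Nat.card {g : G // IsConj x g} = H.index * Nat.card {g : G // IsConj x g ∧ g ∈ H} := by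
  have h1 : Nat.card {g : G // g⁻¹ * x * g ∈ H} =
      Nat.card {q : G ⧸ H // q ∈ MulAction.fixedBy (G ⧸ H) x} * Nat.card H := by
    refine Invol.card_eq_mul_of_fibers (fun g : G => (g : G ⧸ H)) (fun g hg => ?_) (fun q hq => ?_)
    · rw [MulAction.mem_fixedBy, MulAction.Quotient.smul_coe, eq_comm, QuotientGroup.eq]
      simpa [mul_assoc] using hg
    · obtain ⟨g, rfl⟩ := QuotientGroup.mk_surjective q
      rw [MulAction.mem_fixedBy, MulAction.Quotient.smul_coe, eq_comm, QuotientGroup.eq] at hq
      refine Invol.card_eq_of_inverse (fun a => g⁻¹ * a) (fun h => g * h) ?_ ?_ (by simp) (by simp)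
      · rintro a ⟨-, ha⟩
        exact QuotientGroup.eq.1 ha.symm
      · intro h hh
        refine ⟨?_, QuotientGroup.mk_mul_of_mem g hh⟩
        have : (g * h)⁻¹ * x * (g * h) = h⁻¹ * (g⁻¹ * (x * g)) * h := by group
        rw [this]
        exact mul_mem (mul_mem (inv_mem hh) hq) hh
  have h2 : Nat.card {g : G // g⁻¹ * x * g ∈ H} =
      Nat.card {g : G // IsConj x g ∧ g ∈ H} * Nat.card (centralizer ({x} : Set G)) := by
    refine Invol.card_eq_mul_of_fibers (fun g => g⁻¹ * x * g) 
      (fun g hg => ⟨by simpa using Invol.isConj_conj g⁻¹ x, hg⟩) ?_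
    · rintro y ⟨hy, hyH⟩
      obtain ⟨g, rfl⟩ := isConj_iff.1 hy
      refine Invol.card_eq_of_inverse (fun a => a * g) (fun c => c * g⁻¹) ?_ ?_ (by simp) (by simp)
      · rintro a ⟨-, ha⟩
        rw [mem_centralizer_singleton_iff]
        calc a * g * x = a * (g * x * g⁻¹) * g := by group
          _ = _ := by rw [← ha]; group
      · intro c hc
        rw [mem_centralizer_singleton_iff] at hc
        have : (c * g⁻¹)⁻¹ * x * (c * g⁻¹) = g * x * g⁻¹ := by
          calc (c * g⁻¹)⁻¹ * x * (c * g⁻¹) = g * c⁻¹ * (x * c) * g⁻¹ := by group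
            _ = _ := by rw [← hc]; group
        exact ⟨this ▸ hyH, this⟩
  have h3 := Invol.card_isConj_mul x
  have h4 := H.card_mul_index
  have h5 : 0 < Nat.card H * Nat.card (centralizer ({x} : Set G)) := Nat.mul_pos Nat.card_pos Nat.card_pos
  apply Nat.eq_of_mul_eq_mul_right h5
  change Nat.card {q : G ⧸ H // q ∈ MulAction.fixedBy (G ⧸ H) x} * _ * _ = _
  calc _ = (Nat.card {q : G ⧸ H // q ∈ MulAction.fixedBy (G ⧸ H) x} * Nat.card H) *
      (Nat.card {g : G // IsConj x g} * Nat.card (centralizer ({x} : Set G))) := by ring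
    _ = _ := by rw [← h1, h2, h3, ← h4]; ring

end Cfsg.Agent.S1019
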