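import Cfsg.Statements.S1022
import Cfsg.Agent.Lib.Small.Sieve2

set_option autoImplicit false
open Cfsg

namespace Cfsg.Agent.S1022

open Cfsg.Lib.Small

/-- No finite simple group has order 459648 = 2^7 * 3^3 * 7 * 19. -/
theorem result {G : Type*} [Group G] [Finite G] [IsSimpleGroup G] : Nat.card G ≠ 459648 := by
  intro h
  exact absurd (not_joint (G := G) (p := 19) (q := 7) (not_isMulCommutative_of_not_prime (by rw [h]; norm_num)) 100 h
    (by norm_num) (by norm_num) (by norm_num) rfl (by norm_num) rfl (by norm_num) (by norm_num) (by norm_num)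
    [2, 3, 7, 19] (by simp; norm_num) (fun d => d != 96 && d != 108) (by decide +kernel)) (by decide +kernel)

end Cfsg.Agent.S1022
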