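import Cfsg.Statements.S1026
import Cfsg.Agent.Lib.Chev.MatTop

set_option autoImplicit false
open Cfsg Cfsg.Lie Cfsg.Lib.Chev

namespace Cfsg.Agent.S1026

/-- Every element of `U` has a unique expression `∏_{r ∈ Φ⁺} x_r(t_r)`, the product over the positive roots in increasing index order (the coefficient family `t`, supported on the positive roots, exists and is unique); and conversely every such ordered product is the matrix of an element of `U`. -/
theorem result {F : Type*} [Field F] (D : Cfsg.Lie.ChevalleyDatum) (hD : D ∈ [Cfsg.Lie.chevG2, Cfsg.Lie.chevB2, Cfsg.Lie.chevD4, Cfsg.Lie.chevF4, Cfsg.Lie.chevE6, Cfsg.Lie.chevE7, Cfsg.Lie.chevE8]) :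
    (∀ g : GL D.Idx F, g ∈ D.posUnipotent F →
      ∃! t : ℕ → F, (∀ r, ¬ D.IsPosRoot r → t r = 0) ∧
        (g : Matrix D.Idx D.Idx F) = D.wordMat F (D.posRoots.map fun r => (r, t r))) ∧
    (∀ t : ℕ → F, ∃ g : GL D.Idx F, g ∈ D.posUnipotent F ∧
      (g : Matrix D.Idx D.Idx F) = D.wordMat F (D.posRoots.map fun r => (r, t r))) := by
  obtain ⟨R, η, hc, hm⟩ := good_of_mem hD
  have key : ∀ t : ℕ → F, D.wordMat F (D.posRoots.map fun r => (r, t r)) = ((hc.sys hm F).prod hc.posL fun r => t r).val :=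
    fun t => by rw [hc.prod_val hm, ← hc.map_posL, List.map_map]; rfl
  simp only [key, hc.posUnipotent_eq hm]
  refine ⟨fun g hg => ?_, fun t => ⟨_, PreSys.prod_mem _ fun r hr h => absurd (hc.mem_posL.1 hr) h, rfl⟩⟩
  obtain ⟨c, h1, rfl⟩ := (hc.sys hm F).exists_prod RootSys.nil_pos hc.posL_nodup (fun r => hc.mem_posL.2) hg
  refine ⟨fun r => if h : r < D.nroots then c ⟨r, h⟩ else 0, ⟨fun r hr => ?_, by simp⟩, fun t ⟨h2, h3⟩ => funext fun r => ?_⟩
  · beta_reduce
    split_ifs with h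
    · exact h1 _ (mt (hc.pos_iff ⟨r, h⟩).2 hr)
    · rfl
  · split_ifs with h
    · by_cases h4 : R.Pos ⟨r, h⟩
      · exact (PreSys.prod_inj _ (hc.sep hm) RootSys.nil_pos hc.posL_nodup (fun r _ => h1 r)
          (fun r hr h => absurd (hc.mem_posL.1 hr) h) (Units.ext h3) _ (hc.mem_posL.2 h4)).symm
      · rw [h1 _ h4, h2 _ (mt (hc.pos_iff ⟨r, h⟩).1 h4)]
    · exact h2 r fun h' => h h'.1

end Cfsg.Agent.S1026
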