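import Cfsg.Statements.S1039
import Cfsg.Agent.Lib.Chev.A1
import Cfsg.Agent.Lib.Twist.WeylAll

set_option autoImplicit false
open Cfsg Cfsg.Lie Cfsg.Lib.Chev

namespace Cfsg.Agent.S1039

theorem aux {F : Type*} [Field F] {D : ChevalleyDatum} {R : RootSys (Fin D.rank) (Fin D.nroots)} (hc : Compat D R)
    {η : ℕ → ℕ → ℤ} (hm : MatOK D η) {M : CoxeterMatrix (Fin D.rank)} (h : Cfsg.Lib.Twist.IsCoxOf R.A M) :
    ∃ φ : ↥(D.monomialSubgroup F) →* M.Group, Function.Surjective φ ∧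
      φ.ker = (D.diagonalSubgroup F).subgroupOf (D.monomialSubgroup F) ∧
      ∀ (i : Fin D.rank) (g : ↥(D.monomialSubgroup F)),
        ((g : GL D.Idx F) : Matrix D.Idx D.Idx F) = D.nMat F (D.simple i) 1 → φ g = M.simple i := by
  rw [hc.monomialSubgroup_eq hm, hc.diagonalSubgroup_eq hm]
  obtain ⟨φ, h1, h2, h3⟩ := (hc.st hm (F := F)).exists_weyl_hom (hc.sep hm)
  refine ⟨(Cfsg.Lib.Twist.coxEquiv h).symm.toMonoidHom.comp φ, (Cfsg.Lib.Twist.coxEquiv h).symm.surjective.comp h1, ?_,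
    fun i g hg => ?_⟩
  · rw [← h2]; ext g; simp
  · rw [← Cfsg.Lib.Twist.coxEquiv_symm_s h]
    refine congrArg (Cfsg.Lib.Twist.coxEquiv h).symm (Subtype.ext (h3 g _ ?_))
    rw [show g.1 = (hc.sys hm F).n (R.simple i) 1 from Units.ext (by rw [hg, hc.n_simple_val])]
    exact (hc.st hm).act_n _ one_ne_zero

/-- `N/H ≅ W`: there is a surjective homomorphism from `N` onto the Coxeter group of the type (Mathlib's Coxeter matrix G₂, B₂, F₄, E₆, E₇, E₈, nodes numbered as the fundamental roots) with kernel `H`, mapping each `n_{p_i}` to the `i`-th simple reflection. -/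
theorem result {F : Type*} [Field F]
    (p : Cfsg.Lie.ChevalleyDatum × (Σ n : ℕ, CoxeterMatrix (Fin n)))
    (hp : p ∈ [(Cfsg.Lie.chevG2, ⟨2, CoxeterMatrix.G₂⟩), (Cfsg.Lie.chevB2, ⟨2, CoxeterMatrix.B 2⟩), (Cfsg.Lie.chevD4, ⟨4, Cfsg.Lie.coxeterD4⟩), (Cfsg.Lie.chevF4, ⟨4, CoxeterMatrix.F₄⟩),
      (Cfsg.Lie.chevE6, ⟨6, CoxeterMatrix.E₆⟩), (Cfsg.Lie.chevE7, ⟨7, CoxeterMatrix.E₇⟩), (Cfsg.Lie.chevE8, ⟨8, CoxeterMatrix.E₈⟩)]) :
    ∃ φ : ↥(p.1.monomialSubgroup F) →* p.2.2.Group, Function.Surjective φ ∧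
      φ.ker = (p.1.diagonalSubgroup F).subgroupOf (p.1.monomialSubgroup F) ∧
      ∀ (i : Fin p.2.1) (g : ↥(p.1.monomialSubgroup F)),
        ((g : GL p.1.Idx F) : Matrix p.1.Idx p.1.Idx F) = p.1.nMat F (p.1.simple i) 1 → φ g = p.2.2.simple i := by
  simp only [List.mem_cons, List.not_mem_nil, or_false] at hp
  rcases hp with rfl | rfl | rfl | rfl | rfl | rfl | rfl
  · obtain ⟨R, hc⟩ := exists_compat_G2; exact aux hc matOK_G2 (Cfsg.Lib.Twist.isCoxOf_G2 hc)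
  · obtain ⟨R, hc⟩ := exists_compat_B2; exact aux hc matOK_B2 (Cfsg.Lib.Twist.isCoxOf_B2 hc)
  · obtain ⟨R, hc⟩ := exists_compat_D4; exact aux hc matOK_D4 (Cfsg.Lib.Twist.isCoxOf_D4 hc)
  · obtain ⟨R, hc⟩ := exists_compat_F4; exact aux hc matOK_F4 (Cfsg.Lib.Twist.isCoxOf_F4 hc)
  · obtain ⟨R, hc⟩ := exists_compat_E6; exact aux hc matOK_E6 (Cfsg.Lib.Twist.isCoxOf_E6 hc)
  · obtain ⟨R, hc⟩ := exists_compat_E7; exact aux hc matOK_E7 (Cfsg.Lib.Twist.isCoxOf_E7 hc)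
  · obtain ⟨R, hc⟩ := exists_compat_E8; exact aux hc matOK_E8 (Cfsg.Lib.Twist.isCoxOf_E8 hc)

end Cfsg.Agent.S1039
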