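import Cfsg.Statements.S1040
import Cfsg.Agent.Lib.Chev.MatTop

set_option autoImplicit false
open Cfsg Cfsg.Lie Cfsg.Lib.Chev

namespace Cfsg.Agent.S1040

/-- `U ∩ N = 1` and `B ∩ N = UH ∩ N = H`. -/
theorem result {F : Type*} [Field F] (D : Cfsg.Lie.ChevalleyDatum) (hD : D ∈ [Cfsg.Lie.chevG2, Cfsg.Lie.chevB2, Cfsg.Lie.chevD4, Cfsg.Lie.chevF4, Cfsg.Lie.chevE6, Cfsg.Lie.chevE7, Cfsg.Lie.chevE8]) :
    D.posUnipotent F ⊓ D.monomialSubgroup F = ⊥ ∧ D.borelSubgroup F ⊓ D.monomialSubgroup F = D.diagonalSubgroup F := by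
  obtain ⟨R, η, hc, hm⟩ := good_of_mem hD
  rw [hc.monomialSubgroup_eq hm, hc.diagonalSubgroup_eq hm, hc.borelSubgroup_eq hm, hc.posUnipotent_eq hm]
  refine ⟨le_bot_iff.1 ?_, (hc.st hm).B_inf_N (hc.sep hm)⟩
  rw [← (hc.st hm).U_inf_H (hc.opp hm), ← (hc.st hm).B_inf_N (hc.sep hm)]
  exact le_inf inf_le_left (inf_le_inf_right _ (PreSys.U_le_B _))

end Cfsg.Agent.S1040
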