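import Cfsg.Statements.S1044
import Cfsg.Agent.Lib.Chev.MatTop

set_option autoImplicit false
open Cfsg Cfsg.Lie Cfsg.Lib.Chev

namespace Cfsg.Agent.S1044

/-- For a fundamental root `p` the set `B ∪ B n_p B` is (the carrier of) a subgroup of the general linear group. -/
theorem result {F : Type*} [Field F] (D : Cfsg.Lie.ChevalleyDatum) (hD : D ∈ [Cfsg.Lie.chevG2, Cfsg.Lie.chevB2, Cfsg.Lie.chevD4, Cfsg.Lie.chevF4, Cfsg.Lie.chevE6, Cfsg.Lie.chevE7, Cfsg.Lie.chevE8]) (i : ℕ) (hi : i < D.rank) (n : GL D.Idx F)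
    (hn : (n : Matrix D.Idx D.Idx F) = D.nMat F (D.simple i) 1) :
    ∃ P : Subgroup (GL D.Idx F), (P : Set (GL D.Idx F)) =
      (D.borelSubgroup F : Set (GL D.Idx F)) ∪ DoubleCoset.doubleCoset n (D.borelSubgroup F : Set (GL D.Idx F)) (D.borelSubgroup F) := by
  obtain ⟨R, η, hc, hm⟩ := good_of_mem hD
  obtain rfl : n = (hc.sys hm F).n (R.simple ⟨i, hi⟩) 1 := Units.ext (hn.trans (hc.n_simple_val hm ⟨i, hi⟩ 1).symm)
  refine ⟨(hc.sys hm F).P {⟨i, hi⟩}, Set.ext fun g => ?_⟩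
  have h1 := ((hc.st hm).mem_cell_iff (hc.sep hm) (R.s_mem_W ⟨i, hi⟩) (PreSys.n_mem_N _ _ one_ne_zero)
    ((hc.st hm).act_n _ one_ne_zero) (g := g)).symm
  rw [SetLike.mem_coe, (hc.st hm).mem_P_iff (hc.sep hm), hc.borelSubgroup_eq hm, Set.mem_union,
    DoubleCoset.mem_doubleCoset, SetLike.mem_coe, ← (hc.st hm).mem_cell_one (hc.sep hm)]
  refine Iff.trans ?_ (or_congr Iff.rfl h1).symm
  refine ⟨fun ⟨w, hw, h⟩ => ?_, ?_⟩
  · have : w = 1 ∨ w = R.s ⟨i, hi⟩ := by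
      clear h
      induction hw using R.WJ_induction_left with
      | h1 => exact Or.inl rfl
      | h2 j hj w _ ih =>
        obtain rfl : j = ⟨i, hi⟩ := hj
        rcases ih with rfl | rfl
        · simp
        · exact Or.inl (R.s_mul_s _)
    rcases this with rfl | rfl
    · exact Or.inl h
    · exact Or.inr h
  · rintro (h | h)
    · exact ⟨1, one_mem _, h⟩
    · exact ⟨_, R.s_mem_WJ rfl, h⟩

end Cfsg.Agent.S1044
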