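import Cfsg.Statements.S1045
import Cfsg.Agent.Lib.Chev.MatTop

set_option autoImplicit false
open Cfsg Cfsg.Lie Cfsg.Lib.Chev

namespace Cfsg.Agent.S1045

/-- For a fundamental root `p`, the subgroup `U_p` generated by the `X_s`, `s` positive and `s ≠ p`, is normalised by `X_p` and `X_{-p}`, and `U = U_p ⊔ X_p`. -/
theorem result {F : Type*} [Field F] (D : Cfsg.Lie.ChevalleyDatum) (hD : D ∈ [Cfsg.Lie.chevG2, Cfsg.Lie.chevB2, Cfsg.Lie.chevD4, Cfsg.Lie.chevF4, Cfsg.Lie.chevE6, Cfsg.Lie.chevE7, Cfsg.Lie.chevE8]) (i : ℕ) (hi : i < D.rank) :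
    D.rootSubgroup F (D.simple i) ⊔ D.rootSubgroup F (D.neg (D.simple i)) ≤
        Subgroup.normalizer (Subgroup.closure {g : GL D.Idx F | ∃ (s : ℕ) (t : F), D.IsPosRoot s ∧ s ≠ D.simple i ∧
          (g : Matrix D.Idx D.Idx F) = D.x F s t} : Set (GL D.Idx F)) ∧
      Subgroup.closure {g : GL D.Idx F | ∃ (s : ℕ) (t : F), D.IsPosRoot s ∧ s ≠ D.simple i ∧
          (g : Matrix D.Idx D.Idx F) = D.x F s t} ⊔ D.rootSubgroup F (D.simple i) = D.posUnipotent F := by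
  obtain ⟨R, η, hc, hm⟩ := good_of_mem hD
  have h1 : Subgroup.closure {g : GL D.Idx F | ∃ (s : ℕ) (t : F), D.IsPosRoot s ∧ s ≠ D.simple i ∧
      (g : Matrix D.Idx D.Idx F) = D.x F s t} = (hc.sys hm F).U ({r | R.Pos r} \ {R.simple ⟨i, hi⟩}) := by
    simp only [← and_assoc]
    rw [hc.closure_eq_U hm _ fun _ h => h.1.1]
    congr 1; ext r; simp [hc.pos_iff, Fin.ext_iff, hc.simple_eq]
  rw [h1, ← hc.simple_eq ⟨i, hi⟩, ← hc.neg_eq, hc.rootSubgroup_eq hm, hc.rootSubgroup_eq hm, hc.posUnipotent_eq hm,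
    ← PreSys.U_union _ (_ \ _), Set.sdiff_union_of_subset (by simpa using R.pos_simple _)]
  exact ⟨PreSys.U_pair_le_normalizer _ _, rfl⟩

end Cfsg.Agent.S1045
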