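import Cfsg.Statements.S1046
import Cfsg.Agent.Lib.Chev.Orders

set_option autoImplicit false
open Cfsg Cfsg.Lie Cfsg.Lib.Chev

namespace Cfsg.Agent.S1046

/-- Two elements of `H` conjugate in the Chevalley group are conjugate by an element of `N`. -/
theorem result {F : Type*} [Field F] (D : Cfsg.Lie.ChevalleyDatum) (hD : D ∈ [Cfsg.Lie.chevG2, Cfsg.Lie.chevB2, Cfsg.Lie.chevD4, Cfsg.Lie.chevF4, Cfsg.Lie.chevE6, Cfsg.Lie.chevE7, Cfsg.Lie.chevE8]) (h₁ h₂ g : GL D.Idx F) (h1 : h₁ ∈ D.diagonalSubgroup F) (h2 : h₂ ∈ D.diagonalSubgroup F)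
    (hg : g ∈ D.group F) (hc : g * h₁ * g⁻¹ = h₂) :
    ∃ n ∈ D.monomialSubgroup F, n * h₁ * n⁻¹ = h₂ := by
  obtain ⟨R, η, hR, hm⟩ := good_of_mem hD
  rw [hR.diagonalSubgroup_eq hm] at h1 h2
  rw [hR.group_eq hm] at hg
  rw [hR.monomialSubgroup_eq hm]
  have hS := hR.st hm (F := F)
  obtain ⟨w, hw, h⟩ := hS.exists_cell hg
  obtain ⟨m, hN, h'⟩ := hS.exists_rep hw
  obtain ⟨b, hb, u, hu, rfl⟩ := (hS.mem_cell_iff' (hR.sep hm) hw hN h').1 h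
  have e1 := (hS.normal_form_unique (hR.opp hm) h' (mul_mem hb (PreSys.H_le_B _ (hS.conj_mem_H hN h1)))
    (mul_mem (PreSys.H_le_B _ h2) hb) (hS.H_conj_mem_U (inv_mem h1) hu) hu (by rw [← hc]; group)).1
  obtain ⟨v, hv, a, ha, rfl⟩ := hS.mem_U_sup_H.1 hb
  refine ⟨a * m, mul_mem (PreSys.H_le_N _ ha) hN, ?_⟩
  have e2 : a * m * h₁ * (a * m)⁻¹ * h₂⁻¹ = v⁻¹ * (h₂ * v * h₂⁻¹) := by
    calc _ = v⁻¹ * (v * a * (m * h₁ * m⁻¹)) * a⁻¹ * h₂⁻¹ := by group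
      _ = _ := by rw [e1]; group
  have e3 : a * m * h₁ * (a * m)⁻¹ * h₂⁻¹ ∈ (hR.sys hm F).U {r | R.Pos r} ⊓ (hR.sys hm F).H := Subgroup.mem_inf.2
    ⟨e2 ▸ mul_mem (inv_mem hv) (hS.H_conj_mem_U h2 hv),
      mul_mem (hS.conj_mem_H (mul_mem (PreSys.H_le_N _ ha) hN) h1) (inv_mem h2)⟩
  rwa [hS.U_inf_H (hR.opp hm), Subgroup.mem_bot, mul_inv_eq_one] at e3

end Cfsg.Agent.S1046
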