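import Cfsg.Statements.S1051
import Cfsg.Agent.Lib.Chev.MatTop

set_option autoImplicit false
open Cfsg Cfsg.Lie Cfsg.Lib.Chev

namespace Cfsg.Agent.S1051

/-- `⋂_g g B g⁻¹ = 1`: the normal core of `B` in the Chevalley group is trivial. -/
theorem result {F : Type*} [Field F] (D : Cfsg.Lie.ChevalleyDatum) (hD : D ∈ [Cfsg.Lie.chevG2, Cfsg.Lie.chevB2, Cfsg.Lie.chevD4, Cfsg.Lie.chevF4, Cfsg.Lie.chevE6, Cfsg.Lie.chevE7, Cfsg.Lie.chevE8]) : ((D.borelSubgroup F).subgroupOf (D.group F)).normalCore = ⊥ := by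
  obtain ⟨R, η, hc, hm⟩ := good_of_mem hD
  rw [← hc.gsys_B hm]
  refine le_bot_iff.1 fun g hg => Subtype.ext (hc.eq_one_of_central hm g.2 fun s u => ?_)
  have := ((hc.gst hm).core_le (hc.gsep hm) (hc.gopp hm)
    (fun a _ b hb => (Subgroup.normalCore_normal _).conj_mem b hb a) (Subgroup.normalCore_le _) hg).2 s u
  exact congrArg Subtype.val (mul_inv_eq_iff_eq_mul.1 this)

end Cfsg.Agent.S1051
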