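import Cfsg.Statements.S1053
import Cfsg.Agent.Lib.Chev.MatTop

set_option autoImplicit false
open Cfsg Cfsg.Lie Cfsg.Lib.Chev

namespace Cfsg.Agent.S1053

/-- There is `n₀ ∈ N` with `n₀ U n₀⁻¹ = V` (a representative of the longest element of the Weyl group). -/
theorem result {F : Type*} [Field F] (D : Cfsg.Lie.ChevalleyDatum) (hD : D ∈ [Cfsg.Lie.chevG2, Cfsg.Lie.chevB2, Cfsg.Lie.chevD4, Cfsg.Lie.chevF4, Cfsg.Lie.chevE6, Cfsg.Lie.chevE7, Cfsg.Lie.chevE8]) :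
    ∃ n ∈ D.monomialSubgroup F, (D.posUnipotent F).map (MulAut.conj n).toMonoidHom = D.negUnipotent F := by
  obtain ⟨R, η, hc, hm⟩ := good_of_mem hD
  rw [hc.monomialSubgroup_eq hm, hc.posUnipotent_eq hm, hc.negUnipotent_eq hm]
  obtain ⟨m, hN, w, hw, h, h'⟩ := (hc.st hm (F := F)).exists_longest
  refine ⟨m, hN, (h.map_U hw _).trans (congrArg _ (Set.ext fun r => ⟨?_, fun hr => ⟨w⁻¹ r, ?_, by simp⟩⟩))⟩
  · rintro ⟨s, hs, rfl⟩ h0; exact (h' s).1 h0 hs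
  · by_contra h0; exact hr (by simpa using (h' _).2 h0)

end Cfsg.Agent.S1053
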