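import Cfsg.Statements.S1058
import Cfsg.Agent.Lib.MatB.ChevB
import Cfsg.Agent.Lib.Known2.TCSym
import Cfsg.Agent.S1060

set_option autoImplicit false
open Cfsg

namespace Cfsg.Agent.S1058

open Cfsg.Lie Cfsg.Lib Equiv

def m (n : ℕ) : Matrix chevB2.Idx chevB2.Idx (ZMod 2) := fun i j =>
  if n.testBit (10 * Sum.elim (·.val) (·.val + 2) i + Sum.elim (·.val) (·.val + 2) j) then 1 else 0

def nA := 0x8018020060080180200408801
def nB := 0x8010060040180100600410801
def nC := 0x891b62a0640801c020040980d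
def nD := 0x8010020040081102220480a01
def nE := 0x8111022040080100200401805
def nS := 0x8030020240080920a02400881

theorem sq : ∀ n ∈ [nA, nB, nC, nD, nE, nS], m n * m n = 1 := by decide +kernel
theorem root : ∀ p ∈ [(nA, 4), (nB, 3), (nD, 0), (nE, 7), (nS, 2)], m p.1 = chevB2.x (ZMod 2) p.2 1 := by decide +kernel
theorem cm : ∀ p ∈ [(nA, nC), (nA, nD), (nA, nE), (nB, nD), (nB, nE), (nC, nE)], m p.1 * m p.2 = m p.2 * m p.1 := by
  decide +kernel
theorem br : ∀ p ∈ [(nA, nB), (nB, nC), (nC, nD), (nD, nE)], m p.1 * m p.2 * m p.1 = m p.2 * m p.1 * m p.2 := by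
  decide +kernel
theorem hC : m nC = m nS * m nE * m nS ∧ m nA ≠ m nB := by decide +kernel

attribute [local irreducible] m nA nB nC nD nE nS

/-- B₂(2) ≅ S₆. -/
theorem result {F : Type*} [Field F] [Fintype F] (hF : Fintype.card F = 2) :
    Nonempty (↥(Cfsg.Lie.chevB2.group F) ≃* Equiv.Perm (Fin 6)) := by
  obtain ⟨φ⟩ := MatB.hom2 hF
  let U : (n : ℕ) → n ∈ [nA, nB, nC, nD, nE, nS] → GL chevB2.Idx (ZMod 2) := fun n h => ⟨m n, m n, sq n h, sq n h⟩
  have h2 : ∀ n h, U n h * U n h = 1 := fun n h => Units.ext (sq n h)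
  have c2 : ∀ a b ha hb, (a, b) ∈ [(nA, nC), (nA, nD), (nA, nE), (nB, nD), (nB, nE), (nC, nE)] → (U a ha * U b hb) ^ 2 = 1 :=
    fun a b ha hb h => by
      have e : Commute (U a ha) (U b hb) := Units.ext (cm (a, b) h)
      rw [e.mul_pow, pow_two, pow_two, h2 a ha, h2 b hb, one_mul]
  have c3 : ∀ a b ha hb, (a, b) ∈ [(nA, nB), (nB, nC), (nC, nD), (nD, nE)] → (U a ha * U b hb) ^ 3 = 1 :=
    fun a b ha hb h => by
      have e : U a ha * U b hb * U a ha = U b hb * U a ha * U b hb := Units.ext (br (a, b) h)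
      calc _ = U a ha * U b hb * U a ha * (U b hb * U a ha * U b hb) := by simp only [pow_succ, pow_zero, one_mul, mul_assoc]
        _ = U a ha * (U b hb * (U a ha * U a ha) * U b hb) * U a ha := by rw [← e]; simp only [mul_assoc]
        _ = 1 := by rw [h2 a ha, mul_one, h2 b hb, mul_one, h2 a ha]
  obtain ⟨f, fa, fb, fc, fd, fe⟩ := Known2.TC.exists_hom_perm6 (h2 nA (by simp)) (h2 nB (by simp)) (h2 nC (by simp))
    (h2 nD (by simp)) (h2 nE (by simp)) (c3 _ _ (by simp) (by simp) (by simp)) (c2 _ _ (by simp) (by simp) (by simp)) (c2 _ _ (by simp) (by simp) (by simp)) (c2 _ _ (by simp) (by simp) (by simp))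
    (c3 _ _ (by simp) (by simp) (by simp)) (c2 _ _ (by simp) (by simp) (by simp)) (c2 _ _ (by simp) (by simp) (by simp)) (c3 _ _ (by simp) (by simp) (by simp)) (c2 _ _ (by simp) (by simp) (by simp))
    (c3 _ _ (by simp) (by simp) (by simp))
  let ψ : GL chevB2.Idx (ZMod 2) →* GL chevB2.Idx F := Units.map φ.mapMatrix.toMonoidHom
  have hψ : Function.Injective ψ := Units.map_injective (Matrix.map_injective φ.injective)
  have hr : ∀ n h (r : ℕ), (n, r) ∈ [(nA, 4), (nB, 3), (nD, 0), (nE, 7), (nS, 2)] → r < 8 → ψ (U n h) ∈ chevB2.group F :=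
    fun n h r h1 h3 => Subgroup.subset_closure ⟨⟨r, h3⟩, φ 1, by
      change (m n).map φ = _
      rw [show m n = chevB2.x (ZMod 2) r 1 from root (n, r) h1, Chev.x_map, ChevalleyDatum.x]
      exact dif_pos h3⟩
  have hf : Function.Injective f := by
    rw [← MonoidHom.ker_eq_bot_iff]
    by_contra h
    have := Perm.alternatingGroup_le_of_normal (N := f.ker) (by simp) ((Subgroup.nontrivial_iff_ne_bot _).2 h) (x := swap 0 1 * swap 1 2) (by
      rw [Perm.mem_alternatingGroup]; decide)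
    rw [MonoidHom.mem_ker, map_mul, fa, fb] at this
    exact hC.2 (congrArg Units.val (mul_left_cancel (this.trans (h2 nA (by simp)).symm))).symm
  have hm : ∀ x, (ψ.comp f) x ∈ chevB2.group F := fun x => by
    have : (⊤ : Subgroup (Perm (Fin 6))) ≤ (chevB2.group F).comap (ψ.comp f) := by
      rw [← Known2.TC.closure_adj_swaps 5 (fun s => [swap 0 1, swap 1 2, swap 2 3, swap 3 4, swap 4 5].getD s 1) (by decide),
        Subgroup.closure_le]
      rintro _ ⟨s, hs, rfl⟩
      change ψ (f ([swap 0 1, swap 1 2, swap 2 3, swap 3 4, swap 4 5].getD s 1)) ∈ chevB2.group F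
      obtain rfl | rfl | rfl | rfl | rfl : s = 0 ∨ s = 1 ∨ s = 2 ∨ s = 3 ∨ s = 4 := by simp at hs; omega
      · exact (congrArg (fun y => ψ y ∈ chevB2.group F) fa).mpr (hr _ (by simp) 4 (by simp) (by simp))
      · exact (congrArg (fun y => ψ y ∈ chevB2.group F) fb).mpr (hr _ (by simp) 3 (by simp) (by simp))
      · have e : U nC (by simp) = U nS (by simp) * U nE (by simp) * U nS (by simp) := Units.ext hC.1
        change ψ (f (swap 2 3)) ∈ _
        rw [fc, e, map_mul, map_mul]
        exact mul_mem (mul_mem (hr _ (by simp) 2 (by simp) (by simp)) (hr _ (by simp) 7 (by simp) (by simp))) (hr _ (by simp) 2 (by simp) (by simp))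
      · exact (congrArg (fun y => ψ y ∈ chevB2.group F) fd).mpr (hr _ (by simp) 0 (by simp) (by simp))
      · exact (congrArg (fun y => ψ y ∈ chevB2.group F) fe).mpr (hr _ (by simp) 7 (by simp) (by simp))
    exact this (Subgroup.mem_top x)
  have hc := Cfsg.Agent.S1060.result hF
  haveI : Finite (chevB2.group F) := Nat.finite_of_card_ne_zero fun h => by rw [h] at hc; simp at hc
  refine ⟨(MulEquiv.ofBijective ((ψ.comp f).codRestrict _ hm) ((Nat.bijective_iff_injective_and_card _).2
    ⟨fun x y h => hf (hψ (congrArg Subtype.val h)), ?_⟩)).symm⟩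
  rw [Nat.card_perm]
  simpa [Nat.factorial] using hc.symm

end Cfsg.Agent.S1058
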