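import Cfsg.Statements.S1065
import Cfsg.Agent.Lib.Chev.Orders

set_option autoImplicit false
open Cfsg Cfsg.Lie Cfsg.Lib.Chev

namespace Cfsg.Agent.S1065

/-- `|E₈(q)| = q¹²⁰ ∏_{d ∈ {2,8,12,14,18,20,24,30}} (q^d - 1)`. -/
theorem result {F : Type*} [Field F] [Fintype F] {q : ℕ} (hq : Fintype.card F = q) : Nat.card ↥(Cfsg.Lie.chevE8.group F) = q ^ 120 * (q ^ 2 - 1) * (q ^ 8 - 1) * (q ^ 12 - 1) * (q ^ 14 - 1) * (q ^ 18 - 1) * (q ^ 20 - 1) * (q ^ 24 - 1) * (q ^ 30 - 1) := by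
  obtain ⟨R, η, hc, hm⟩ := good_of_mem (D := chevE8) (by simp)
  have h1 := hc.card_group hm (F := F)
  have h2 := poin_E8 hc (Nat.card F)
  rw [card_cartanKer_E8 hc] at h1
  change _ = _ ^ 120 * (_ ^ 8 * _) at h1
  rw [← hq, ← Nat.card_eq_fintype_card]
  refine Eq.trans (by simp) (h1.trans ?_)
  have h3 := one_le_pow_card (F := F)
  have h4 : 1 ≤ Nat.card F := Nat.card_pos
  zify [h4, h3 2, h3 8, h3 12, h3 14, h3 18, h3 20, h3 24, h3 30]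
  rw [R.poin_cast, h2]
  ring

end Cfsg.Agent.S1065
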