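import Cfsg.Statements.S1078
import Cfsg.Agent.Lib.Chev.Embed

set_option autoImplicit false
open Cfsg Cfsg.Lie Cfsg.Lib.Chev

namespace Cfsg.Agent.S1078

/-- For G₂, F₄, E₈ the presented group has trivial centre (the universal and adjoint groups coincide). -/
theorem result {K : Type*} [Field K] (D : Cfsg.Lie.ChevalleyDatum) (hD : D ∈ [Cfsg.Lie.chevG2, Cfsg.Lie.chevF4, Cfsg.Lie.chevE8]) :
    Subgroup.center (D.SteinbergGroup K) = ⊥ := by
  have hD' : D ∈ [chevG2, chevB2, chevD4, chevF4, chevE6, chevE7, chevE8] := by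
    simp only [List.mem_cons, List.not_mem_nil, or_false] at hD ⊢; tauto
  obtain ⟨R, η, hc, hm⟩ := good_of_mem hD'
  obtain ⟨e⟩ := hc.st_center_equiv hm (K := K) hD'
  rw [hc.cartanKer_eq_bot hD] at e
  have := e.symm.subsingleton
  exact Subgroup.eq_bot_of_subsingleton _

end Cfsg.Agent.S1078
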