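import Cfsg.Statements.S1081
import Cfsg.Agent.Lib.Twist.Graph

set_option autoImplicit false
open Cfsg

namespace Cfsg.Agent.S1081

open Cfsg.Lib.Twist Cfsg.Lib.Chev

/-- Graph automorphisms: for E₆ with ρ = (p₁ p₆)(p₃ p₅) and for D₄ with ρ the 3-cycle on the outer nodes there is a group automorphism sending `x_p(t) ↦ x_{ρ(p)}(t)` and `x_{-p}(t) ↦ x_{-ρ(p)}(t)` for every fundamental root `p`. -/
theorem result {F : Type*} [Field F] (p : Cfsg.Lie.ChevalleyDatum × List ℕ)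
    (hp : p ∈ [(Cfsg.Lie.chevE6, [5, 1, 4, 3, 2, 0]), (Cfsg.Lie.chevD4, [2, 1, 3, 0]), (Cfsg.Lie.chevD4, [3, 1, 0, 2])]) :
    ∃ α : ↥(p.1.group F) ≃* ↥(p.1.group F), ∀ (g : ↥(p.1.group F)) (i : ℕ) (t : F), i < p.1.rank →
      (((g : GL p.1.Idx F) : Matrix p.1.Idx p.1.Idx F) = p.1.x F (p.1.simple i) t →
        ((α g : GL p.1.Idx F) : Matrix p.1.Idx p.1.Idx F) = p.1.x F (p.1.simple (p.2.getD i 0)) t) ∧
      (((g : GL p.1.Idx F) : Matrix p.1.Idx p.1.Idx F) = p.1.x F (p.1.neg (p.1.simple i)) t →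
        ((α g : GL p.1.Idx F) : Matrix p.1.Idx p.1.Idx F) = p.1.x F (p.1.neg (p.1.simple (p.2.getD i 0))) t) := by
  simp only [List.mem_cons, List.not_mem_nil, or_false] at hp
  rcases hp with rfl | rfl | rfl
  · obtain ⟨α, h⟩ := exists_graph_simple rootOK_E6 matOK_E6 piE6_val chkG_E6 (by decide +kernel) F
    have e : ∀ i : Fin Lie.chevE6.rank, [5, 1, 4, 3, 2, 0].getD i 0 = (piE6 i : ℕ) := by decide +kernel
    exact ⟨α, fun g i t hi => by have := h g ⟨i, hi⟩ t; rwa [← e] at this⟩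
  · obtain ⟨α, h⟩ := exists_graph_simple rootOK_D4 matOK_D4 piD4_val chkG_D4 (by decide +kernel) F
    have e : ∀ i : Fin Lie.chevD4.rank, [2, 1, 3, 0].getD i 0 = (piD4 i : ℕ) := by decide +kernel
    exact ⟨α, fun g i t hi => by have := h g ⟨i, hi⟩ t; rwa [← e] at this⟩
  · obtain ⟨α, h⟩ := exists_graph_simple rootOK_D4 matOK_D4 piD4_inv_val chkG_D4' (by decide +kernel) F
    have e : ∀ i : Fin Lie.chevD4.rank, [3, 1, 0, 2].getD i 0 = (piD4⁻¹ i : ℕ) := by decide +kernel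
    exact ⟨α, fun g i t hi => by have := h g ⟨i, hi⟩ t; rwa [← e] at this⟩

end Cfsg.Agent.S1081
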