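import Cfsg.Statements.S1100
import Cfsg.Agent.Lib.Chev.Orders

set_option autoImplicit false
open Cfsg Cfsg.Lie Cfsg.Lib.Chev

namespace Cfsg.Agent.S1100

/-- Canonical form `g = b n_w u` (`b ∈ B`, `u ∈ U_w⁻ = ⟨X_r : r > 0, n_w X_r n_w⁻¹ ≤ V⟩`): such a decomposition exists for every element of the group; the coset `n_w H` is determined by `g`; and for a fixed representative `n_w` the factors `b`, `u` are unique. -/
theorem result {F : Type*} [Field F] (D : Cfsg.Lie.ChevalleyDatum) (hD : D ∈ [Cfsg.Lie.chevG2, Cfsg.Lie.chevB2, Cfsg.Lie.chevD4, Cfsg.Lie.chevF4, Cfsg.Lie.chevE6, Cfsg.Lie.chevE7, Cfsg.Lie.chevE8]) :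
    (∀ g ∈ D.group F, ∃ b ∈ D.borelSubgroup F, ∃ n ∈ D.monomialSubgroup F,
      ∃ u ∈ Subgroup.closure {x : GL D.Idx F | ∃ (r : ℕ) (t : F), D.IsPosRoot r ∧
            (D.rootSubgroup F r).map (MulAut.conj n).toMonoidHom ≤ D.negUnipotent F ∧ (x : Matrix D.Idx D.Idx F) = D.x F r t},
        g = b * n * u) ∧
    (∀ (b b' n n' u u' : GL D.Idx F), b ∈ D.borelSubgroup F → b' ∈ D.borelSubgroup F →
      n ∈ D.monomialSubgroup F → n' ∈ D.monomialSubgroup F →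
      u ∈ Subgroup.closure {x : GL D.Idx F | ∃ (r : ℕ) (t : F), D.IsPosRoot r ∧
            (D.rootSubgroup F r).map (MulAut.conj n).toMonoidHom ≤ D.negUnipotent F ∧ (x : Matrix D.Idx D.Idx F) = D.x F r t} →
      u' ∈ Subgroup.closure {x : GL D.Idx F | ∃ (r : ℕ) (t : F), D.IsPosRoot r ∧
            (D.rootSubgroup F r).map (MulAut.conj n').toMonoidHom ≤ D.negUnipotent F ∧ (x : Matrix D.Idx D.Idx F) = D.x F r t} →
      b * n * u = b' * n' * u' → n⁻¹ * n' ∈ D.diagonalSubgroup F ∧ (n = n' → b = b' ∧ u = u')) := by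
  obtain ⟨R, η, hc, hm⟩ := good_of_mem hD
  have hS := hc.st hm (F := F)
  have hF := hc.sep hm (F := F)
  have key : ∀ (n : GL D.Idx F) w, w ∈ R.W → (hc.sys hm F).Act n w →
      Subgroup.closure {x : GL D.Idx F | ∃ (r : ℕ) (t : F), D.IsPosRoot r ∧
        (D.rootSubgroup F r).map (MulAut.conj n).toMonoidHom ≤ D.negUnipotent F ∧
        (x : Matrix D.Idx D.Idx F) = D.x F r t} = (hc.sys hm F).U (R.Inv w) := by
    intro n w hw h
    simp only [← and_assoc]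
    rw [hc.closure_eq_U hm _ fun _ h => h.1.1]
    congr 1; ext r
    simp only [Set.mem_ofPred_eq, hc.pos_iff, hc.rootSubgroup_eq hm, hc.negUnipotent_eq hm, h.map_U hw, RootSys.Inv,
      Set.image_singleton]
    refine and_congr_right fun _ => ⟨fun h1 h2 => ?_, fun h1 => PreSys.U_mono _ (by simpa using h1)⟩
    have h3 : (hc.sys hm F).x (w r) 1 ∈ (hc.sys hm F).B ⊓ (hc.sys hm F).U {r | ¬ R.Pos r} :=
      Subgroup.mem_inf.2 ⟨PreSys.x_mem_B _ h2 1, h1 (PreSys.x_mem_U _ (Set.mem_singleton _) 1)⟩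
    rw [hc.opp hm] at h3
    exact one_ne_zero (hF.x_eq_one h3)
  rw [hc.group_eq hm, hc.borelSubgroup_eq hm, hc.monomialSubgroup_eq hm, hc.diagonalSubgroup_eq hm]
  refine ⟨fun g hg => ?_, fun b b' n n' u u' hb hb' hn hn' hu hu' e => ?_⟩
  · obtain ⟨w, hw, h⟩ := hS.exists_cell hg
    obtain ⟨m, hN, h'⟩ := hS.exists_rep hw
    obtain ⟨b, hb, u, hu, rfl⟩ := (hS.mem_cell_iff' hF hw hN h').1 h
    exact ⟨b, hb, m, hN, u, key m w hw h' ▸ hu, rfl⟩
  · obtain ⟨w, hw, h⟩ := hS.exists_act hn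
    obtain ⟨w', hw', h'⟩ := hS.exists_act hn'
    rw [key n w hw h] at hu
    rw [key n' w' hw' h'] at hu'
    obtain rfl := hS.cell_unique hF hw hw' ((hS.mem_cell_iff' hF hw hn h).2 ⟨b, hb, u, hu, rfl⟩)
      ((hS.mem_cell_iff' hF hw' hn' h').2 ⟨b', hb', u', hu', e⟩)
    refine ⟨hS.inv_mul_mem_H hF hn hn' hw h h', ?_⟩
    rintro rfl
    exact hS.normal_form_unique (hc.opp hm) h hb hb' hu hu' e

end Cfsg.Agent.S1100
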