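import Cfsg.Statements.S1101
import Cfsg.Agent.Lib.Twist.TwG2

set_option autoImplicit false
open Cfsg

namespace Cfsg.Agent.S1101

/-- For ²G₂ over `K` with `|K| = 3^(2m+1)`, `θ = 3^m`: `U¹ = G¹ ∩ U` consists exactly of the elements `x_a(t^θ) x_b(t) x_{a+b}(t^{θ+1}+u^θ) x_{2a+b}(t^{2θ+1}+v^θ) x_{3a+b}(u) x_{3a+2b}(v)`, `t, u, v ∈ K`, and it has `|K|³` elements. -/
theorem result {K : Type*} [Field K] [Fintype K] {m : ℕ} (hK : Fintype.card K = 3 ^ (2 * m + 1)) :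
    (∀ g : GL Cfsg.Lie.chevG2.Idx K, g ∈ Cfsg.Lie.chevG2.posUnipotent K ⊓ Cfsg.Lie.twistedG2 K (3 ^ m) ↔
      ∃ t u v : K, (g : Matrix Cfsg.Lie.chevG2.Idx Cfsg.Lie.chevG2.Idx K) = Cfsg.Lie.chevG2.wordMat K (Cfsg.Lie.reeWordU (3 ^ m) t u v)) ∧
    Nat.card ↥(Cfsg.Lie.chevG2.posUnipotent K ⊓ Cfsg.Lie.twistedG2 K (3 ^ m)) = (3 ^ (2 * m + 1)) ^ 3 := by
  obtain ⟨d⟩ := Cfsg.Lib.Twist.exists_G2Data hK
  refine ⟨fun g => ⟨fun hg => ?_, fun ⟨t, u, v, h⟩ => ?_⟩, by rw [← hK, ← Nat.card_eq_fintype_card]; exact d.card_U⟩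
  · obtain ⟨t, u, v, h⟩ := d.mem_U.1 (show (⟨g, d.gen.1 hg.2⟩ : Cfsg.Lie.chevG2.group K) ∈ _ from
      ⟨(Cfsg.Lib.Twist.gsys_pos Cfsg.Lib.Twist.compat_G2 Cfsg.Lib.Chev.matOK_G2).ge hg.1, d.grp.le hg.2⟩)
    exact ⟨t, u, v, by rw [← d.U_val, h]⟩
  · rw [show g = (d.U t u v).1 from Units.ext (h.trans (d.U_val t u v).symm)]
    exact ⟨(Cfsg.Lib.Twist.gsys_pos Cfsg.Lib.Twist.compat_G2 Cfsg.Lib.Chev.matOK_G2).le (d.mem_U.2 ⟨t, u, v, rfl⟩).1,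
      d.U_mem t u v⟩

end Cfsg.Agent.S1101
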