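import Cfsg.Statements.S1124
import Cfsg.Agent.Lib.BS.Setup

set_option autoImplicit false
open scoped Pointwise
open Cfsg

namespace Cfsg.Agent.S1124
open Cfsg.Lib.Invol
open Cfsg.Lib.BS


/-- Let `t` be an element of order 2 of a finite group normalising a subgroup `X` of odd order, `Y = C_X(t)` and `Z` the set of elements of `X` inverted by `t`. Then `(y, z) ↦ y z` is a bijection `Y × Z → X`, so `|X| = |Y| |Z|`, and the subgroup generated by `Z` is normal in `X`. -/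
theorem result {M : Type*} [Group M] [Finite M]
    (t : M) (ht : orderOf t = 2) (X : Subgroup M) (hodd : Odd (Nat.card X))
    (hnorm : ∀ x ∈ X, t * x * t⁻¹ ∈ X) :
    (∀ x ∈ X, ∃! p : M × M, p.1 ∈ X ⊓ Subgroup.centralizer {t} ∧ p.2 ∈ Cfsg.invertedBy X t ∧ x = p.1 * p.2) ∧
      Nat.card X = Nat.card ↥(X ⊓ Subgroup.centralizer {t}) * Nat.card (Cfsg.invertedBy X t) ∧
      ∀ x ∈ X, MulAut.conj x • Subgroup.closure (Cfsg.invertedBy X t) = Subgroup.closure (Cfsg.invertedBy X t) := by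
  have ht2 := mul_self_of_two ht
  have hu : ∀ {y z y' z' : M}, y ∈ X ⊓ Subgroup.centralizer {t} → z ∈ Cfsg.invertedBy X t →
      y' ∈ X ⊓ Subgroup.centralizer {t} → z' ∈ Cfsg.invertedBy X t → y * z = y' * z' →
      y = y' ∧ z = z' := fun hy hz hy' hz' e =>
    cent_mul_inv_unique (odd_orderOf_of_mem hodd hz.1) (odd_orderOf_of_mem hodd hz'.1)
      (mem_cent.mp hy.2) hz.2 (mem_cent.mp hy'.2) hz'.2 e
  have he : ∀ x ∈ X, ∃ y ∈ X ⊓ Subgroup.centralizer {t}, ∃ z ∈ Cfsg.invertedBy X t, x = y * z :=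
    fun x hx => by
      obtain ⟨y, hy, z, hz, h1, h2, h3⟩ := exists_cent_mul_inv ht2 hodd hnorm hx
      exact ⟨y, ⟨hy, mem_cent.mpr h1⟩, z, ⟨hz, h2⟩, h3⟩
  refine ⟨fun x hx => ?_, ?_, fun x hx => ?_⟩
  · obtain ⟨y, hy, z, hz, e⟩ := he x hx
    refine ⟨(y, z), ⟨hy, hz, e⟩, ?_⟩
    rintro ⟨y', z'⟩ ⟨hy', hz', e'⟩
    have := hu hy' hz' hy hz (e'.symm.trans e)
    exact Prod.ext this.1 this.2
  · refine Eq.trans (Eq.symm ?_) (card_prod_and (fun y => y ∈ X ⊓ Subgroup.centralizer {t})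
      (fun z => z ∈ Cfsg.invertedBy X t))
    refine card_eq_of_bij (q := fun x => x ∈ X) (fun p => p.1 * p.2)
      (fun p hp => mul_mem hp.1.1 hp.2.1) (fun p q hp hq e => ?_) fun x hx => ?_
    · have := hu hp.1 hp.2 hq.1 hq.2 e
      exact Prod.ext this.1 this.2
    · obtain ⟨y, hy, z, hz, e⟩ := he x hx
      exact ⟨(y, z), ⟨hy, hz⟩, e.symm⟩
  · obtain ⟨y, hy, z, hz, rfl⟩ := he x hx
    rw [conj_smul_eq_map, ← Cfsg.Lib.Transfer.cj_def, Cfsg.Lib.Transfer.cj_mul,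
      Cfsg.Lib.Transfer.cj_eq_of_mem (Subgroup.subset_closure hz)]
    refine Cfsg.Lib.Transfer.cj_eq_iff.mpr (Cfsg.Lib.Transfer.mem_normalizer_of_cj_le ?_)
    rw [Cfsg.Lib.Transfer.cj_def, MonoidHom.map_closure]
    refine Subgroup.closure_mono ?_
    rintro _ ⟨w, hw, rfl⟩
    refine ⟨mul_mem (mul_mem hy.1 hw.1) (inv_mem hy.1), ?_⟩
    have h0 : t * y * t⁻¹ = y := by rw [← (mem_cent.mp hy.2).eq, mul_inv_cancel_right]
    show t * (y * w * y⁻¹) * t⁻¹ = (y * w * y⁻¹)⁻¹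
    calc t * (y * w * y⁻¹) * t⁻¹ = (t * y * t⁻¹) * (t * w * t⁻¹) * (t * y * t⁻¹)⁻¹ := by group
      _ = _ := by rw [h0, hw.2]; group

end Cfsg.Agent.S1124
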