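import Cfsg.Statements.S1125
import Cfsg.Agent.Lib.BS.Setup

set_option autoImplicit false
open Cfsg

namespace Cfsg.Agent.S1125
open Cfsg.Lib.Invol
open Cfsg.Lib.BS


/-- In the rank-one set-up (`G` finite and doubly transitive on `Ω`, `t` an involution moving `a`, `Q` normal in `G_a` with `G_a = Q D`, `Q ⊓ D = 1` for the two-point stabiliser `D = G_a ⊓ G_{t • a}`, `|Q|` even, `|D|` odd), let `X ⊆ D` fix at least three points of `Ω`. Then `C_G(X)` is doubly transitive on the fixed-point set of `X`, `|C_Q(X)|` is even, and `C_{G_a}(X) = C_Q(X) C_D(X)`. -/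
theorem result {G Ω : Type*} [Group G] [Finite G] [MulAction G Ω] {a : Ω} {t : G} {Q : Subgroup G}
    (hS : Cfsg.IsRankOneSetup G Ω a t Q)
    (X : Set G) (hX : X ⊆ ((MulAction.stabilizer G a ⊓ MulAction.stabilizer G (t • a)) : Set G))
    (h3 : ∃ b c d : Ω, b ≠ c ∧ b ≠ d ∧ c ≠ d ∧ ∀ x ∈ X, x • b = b ∧ x • c = c ∧ x • d = d) :
    (∀ b₁ b₂ c₁ c₂ : Ω, (∀ x ∈ X, x • b₁ = b₁ ∧ x • b₂ = b₂ ∧ x • c₁ = c₁ ∧ x • c₂ = c₂) →
        b₁ ≠ b₂ → c₁ ≠ c₂ → ∃ g ∈ Subgroup.centralizer X, g • b₁ = c₁ ∧ g • b₂ = c₂) ∧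
      Even (Nat.card ↥(Subgroup.centralizer X ⊓ Q)) ∧
      (Subgroup.centralizer X ⊓ Q) ⊔ (Subgroup.centralizer X ⊓ (MulAction.stabilizer G a ⊓ MulAction.stabilizer G (t • a))) = Subgroup.centralizer X ⊓ MulAction.stabilizer G a := by
  have h := ro_of_setup hS
  have hX' : ∀ x ∈ X, x ∈ Dg (MulAction.stabilizer G a) t := fun x hx => by
    have := hX hx
    rw [stabilizer_smul_eq_cj] at this; exact this
  obtain ⟨y, hy, h1, hc⟩ := setup_exists_commute hS hX' h3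
  refine ⟨?_, ?_, ?_⟩
  · obtain ⟨k, hk, -, h4⟩ := h.exists_conj_V hX' hy h1 hc
    have hu : k * t * k⁻¹ ∈ Subgroup.centralizer X := fun x hx => by
      simpa only [mul_assoc, mul_inv_cancel_left, mul_inv_cancel, mul_one] using
        (commute_conj k (mem_cent.mp (h4 x hx).2)).eq
    have hu' : (k * t * k⁻¹) • a = t • a := by
      have := hk.2
      rw [← stabilizer_smul_eq_cj] at this
      rw [mul_smul, mul_smul, show k⁻¹ • a = a from (inv_mem hk).1]; exact this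
    have h5 : ∀ b : Ω, (∀ x ∈ X, x • b = b) → b ≠ a →
        ∃ g ∈ Subgroup.centralizer X, g • a = a ∧ g • b = t • a := fun b hb hba => by
      obtain ⟨z, hz, rfl⟩ := setup_exists_Q hS hba
      exact ⟨z⁻¹, inv_mem fun x hx => (setup_fix_iff hS (hX' x hx) hz).mp (hb x hx),
        inv_mem (h.le hz), by simp⟩
    have h6 : ∀ b₁ b₂ : Ω, (∀ x ∈ X, x • b₁ = b₁) → (∀ x ∈ X, x • b₂ = b₂) → b₁ ≠ b₂ →
        ∃ g ∈ Subgroup.centralizer X, g • b₁ = a ∧ g • b₂ = t • a := fun b₁ b₂ hb₁ hb₂ hb => by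
      by_cases e : b₁ = a
      · subst e; exact h5 b₂ hb₂ hb.symm
      obtain ⟨g, hg, -, e1⟩ := h5 b₁ hb₁ e
      have hg' := mul_mem (inv_mem hu) hg
      have e2 : ((k * t * k⁻¹)⁻¹ * g) • b₁ = a := by rw [mul_smul, e1, ← hu', inv_smul_smul]
      obtain ⟨g', hg'', e3, e4⟩ := h5 (((k * t * k⁻¹)⁻¹ * g) • b₂) (fun x hx => by
        rw [← mul_smul, hg' x hx, mul_smul, hb₂ x hx]) (by
          rw [← e2]; exact fun e => hb (smul_left_cancel _ e).symm)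
      exact ⟨g' * _, mul_mem hg'' hg', by rw [mul_smul, e2, e3], by rw [mul_smul, e4]⟩
    intro b₁ b₂ c₁ c₂ hf hb hc
    obtain ⟨g, hg, e1, e2⟩ := h6 b₁ b₂ (fun x hx => (hf x hx).1) (fun x hx => (hf x hx).2.1) hb
    obtain ⟨g', hg', e3, e4⟩ := h6 c₁ c₂ (fun x hx => (hf x hx).2.2.1) (fun x hx => (hf x hx).2.2.2) hc
    exact ⟨g'⁻¹ * g, mul_mem (inv_mem hg') hg, by rw [mul_smul, e1, ← e3, inv_smul_smul],
      by rw [mul_smul, e2, ← e4, inv_smul_smul]⟩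
  · obtain ⟨u, hu, h2, h4⟩ := h.exists_two_commute hX' hy h1 hc
    exact even_card_of_two_mem h2 ⟨h4, hu⟩
  · rw [stabilizer_smul_eq_cj]
    refine le_antisymm (sup_le (inf_le_inf_left _ h.le) (inf_le_inf_left _ inf_le_left)) ?_
    rintro g ⟨hg, hgH⟩
    obtain ⟨y, hy, d, hd, rfl⟩ := h.exists_QD hgH
    exact Subgroup.mul_mem_sup
      ⟨fun x hx => (h.commute_of_QD (hX' x hx) hy hd (hg x hx)).1, hy⟩
      ⟨fun x hx => (h.commute_of_QD (hX' x hx) hy hd (hg x hx)).2, hd⟩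

end Cfsg.Agent.S1125
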