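import Cfsg.Statements.S1127
import Cfsg.Agent.Lib.BS.Setup

set_option autoImplicit false
open Cfsg

namespace Cfsg.Agent.S1127
open Cfsg.Lib.Invol
open Cfsg.Lib.BS


/-- In the rank-one set-up (`G` finite and doubly transitive on `Ω`, `t` an involution moving `a`, `Q` normal in `G_a` with `G_a = Q D`, `Q ⊓ D = 1` for the two-point stabiliser `D = G_a ⊓ G_{t • a}`, `|Q|` even, `|D|` odd): if `s` is an involution of `G_a` and `r ∈ Q` satisfy `t s t = r⁻¹ t r`, then `C_D(t) = C_D(s)`; moreover `C_D(t) ⊓ C_D(K) = C_D(I ∩ G_a)`, where `K` is the set of elements of `D` inverted by `t` and `I ∩ G_a` the set of involutions of `G_a`. -/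
theorem result {G Ω : Type*} [Group G] [Finite G] [MulAction G Ω] {a : Ω} {t : G} {Q : Subgroup G}
    (hS : Cfsg.IsRankOneSetup G Ω a t Q) :
    (∀ s r : G, s ∈ Cfsg.involutionsIn (MulAction.stabilizer G a : Set G) → r ∈ Q → t * s * t = r⁻¹ * t * r →
        (MulAction.stabilizer G a ⊓ MulAction.stabilizer G (t • a)) ⊓ Subgroup.centralizer {t} = (MulAction.stabilizer G a ⊓ MulAction.stabilizer G (t • a)) ⊓ Subgroup.centralizer {s}) ∧
      (MulAction.stabilizer G a ⊓ MulAction.stabilizer G (t • a)) ⊓ Subgroup.centralizer {t} ⊓ Subgroup.centralizer (Cfsg.invertedBy (MulAction.stabilizer G a ⊓ MulAction.stabilizer G (t • a)) t) =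
        (MulAction.stabilizer G a ⊓ MulAction.stabilizer G (t • a)) ⊓ Subgroup.centralizer (Cfsg.involutionsIn (MulAction.stabilizer G a : Set G)) := by
  have h := ro_of_setup hS
  rw [stabilizer_smul_eq_cj]
  refine ⟨fun s r hs hr e => Subgroup.ext fun v => ?_, Subgroup.ext fun w => ?_⟩
  · rw [h.mem_V_iff ⟨(mem_inv_iff.mp hs).1, hs.1, hr, e⟩, Subgroup.mem_inf (p := Dg _ _), mem_cent]
  · have := h.mem_W_iff (w := w)
    refine ⟨fun hw => ?_, fun hw => ?_⟩
    · have h1 := this.mp ⟨hw.1, fun k hk hi => (hw.2 k ⟨hk, hi⟩).symm⟩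
      exact ⟨h1.1, fun u hu => (h1.2 u hu.1 (mem_inv_iff.mp hu).1).symm⟩
    · have h1 := this.mpr ⟨hw.1, fun u hu h2 => (hw.2 u (mem_inv_iff.mpr ⟨h2, hu⟩)).symm⟩
      exact ⟨h1.1, fun k hk => (h1.2 k hk.1 hk.2).symm⟩

end Cfsg.Agent.S1127
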