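import Cfsg.Statements.S1132
import Cfsg.Agent.Lib.BS.Higman

set_option autoImplicit false
open Cfsg

namespace Cfsg.Agent.S1132
open Cfsg.Lib.Invol
open Cfsg.Lib.BS


/-- In the rank-one set-up (`G` finite and doubly transitive on `Ω`, `t` an involution moving `a`, `Q` normal in `G_a` with `G_a = Q D`, `Q ⊓ D = 1` for the two-point stabiliser `D = G_a ⊓ G_{t • a}`, `|Q|` even, `|D|` odd), with the action faithful and `G` containing two distinct commuting involutions: a Sylow 2-subgroup of `Q` is abelian or a Suzuki 2-group. -/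
theorem result {G Ω : Type*} [Group G] [Finite G] [MulAction G Ω] [FaithfulSMul G Ω] {a : Ω} {t : G} {Q : Subgroup G}
    (hS : Cfsg.IsRankOneSetup G Ω a t Q)
    (h2 : ∃ x y : G, x ≠ 1 ∧ y ≠ 1 ∧ x ≠ y ∧ x * x = 1 ∧ y * y = 1 ∧ x * y = y * x)
    (S : Sylow 2 ↥Q) : IsMulCommutative (S : Subgroup ↥Q) ∨ Cfsg.IsSuzukiTwoGroup ↥(S : Subgroup ↥Q) := by
  have h := ro_of_setup hS
  have h2' := r2_top_of h2.choose_spec.choose_spec
  refine or_iff_not_imp_left.mpr fun hna => ?_
  obtain ⟨s, r, hs⟩ := h.exists_SE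
  obtain ⟨F, _, _, π, χ, hF, -, _, -⟩ := h.exists_field h2' hs
  let e := Subgroup.equivMapOfInjective (S : Subgroup Q) Q.subtype Q.subtype_injective
  have hna' : ¬ IsMulCommutative ((S : Subgroup Q).map Q.subtype) := fun h =>
    hna ⟨⟨fun x y => e.injective (by rw [map_mul, map_mul, h.is_comm.comm])⟩⟩
  haveI := h.nilpotent h2'
  haveI := fact_two
  haveI := S.characteristic_of_normal inferInstance
  exact suzuki_congr e.symm ((h.sz h2' (Subgroup.map_subtype_le _) (S.2.map _)
    (h.K_norm_Q.trans (Lib.Core.normalizer_le_normalizer_map_subtype _)) (fun e => hna' (e ▸ inferInstance)) hF).suzuki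
    (h.isCyclic_K h2') hna')

end Cfsg.Agent.S1132
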