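import Cfsg.Statements.S1137
import Cfsg.Agent.Lib.BS.Higman

set_option autoImplicit false
open Cfsg

namespace Cfsg.Agent.S1137
open Cfsg.Lib.Invol
open Cfsg.Lib.BS


/-- In a Suzuki 2-group `P` (a finite non-abelian 2-group with more than one involution admitting a cyclic group of automorphisms regular on its involutions) the involutions are exactly the non-identity central elements, and `Z(P)` is elementary abelian. -/
theorem result {P : Type*} [Group P] (hP : Cfsg.IsSuzukiTwoGroup P) :
    (∀ x : P, (x ≠ 1 ∧ x * x = 1) ↔ (x ∈ Subgroup.center P ∧ x ≠ 1)) ∧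
      ∀ z ∈ Subgroup.center P, z * z = 1 := by
  obtain ⟨Γ, _, _, i, K, F, _, _, _, π, χ, hi, h, -⟩ := sz_of_suzuki hP
  have h1 : ∀ x : P, x ∈ Subgroup.center P ↔ x * x = 1 := fun x => by
    rw [← Subgroup.mem_map_iff_mem hi, h.mem, ← map_mul, map_eq_one_iff i hi]
    simp
  exact ⟨fun x => by rw [h1, and_comm], fun z hz => (h1 z).mp hz⟩

end Cfsg.Agent.S1137
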