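import Cfsg.Statements.S1138
import Cfsg.Agent.Lib.BS.Higman

set_option autoImplicit false
open Cfsg

namespace Cfsg.Agent.S1138
open Cfsg.Lib.Invol
open Cfsg.Lib.BS


/-- Let `P` be a Suzuki 2-group with `|Z(P)| = q`. Then every square lies in `Z(P)` and `P/Z(P)` is abelian (so elementary abelian), `|P| = q²` or `|P| = q³`, and `P` has exponent 4. -/
theorem result {P : Type*} [Group P] (hP : Cfsg.IsSuzukiTwoGroup P) :
    (∀ x : P, x * x ∈ Subgroup.center P) ∧ (∀ x y : P, x⁻¹ * y⁻¹ * x * y ∈ Subgroup.center P) ∧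
      (Nat.card P = Nat.card (Subgroup.center P) ^ 2 ∨ Nat.card P = Nat.card (Subgroup.center P) ^ 3) ∧
      Monoid.exponent P = 4 := by
  obtain ⟨Γ, _, _, i, K, F, _, _, _, π, χ, hi, h, hna⟩ := sz_of_suzuki hP
  have h0 := h.sqg_le_Z hna
  have h1 : ∀ x : P, x ∈ Subgroup.center P ↔ x * x = 1 := fun x => by
    rw [← Subgroup.mem_map_iff_mem hi, h.mem, ← map_mul, map_eq_one_iff i hi]
    simp
  have h2 : ∀ x : P, x * x ∈ Subgroup.center P := fun x => by
    rw [← Subgroup.mem_map_iff_mem hi, map_mul]; exact h0 (sq_mem_sqg ⟨x, rfl⟩)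
  refine ⟨h2, fun x y => ?_, ?_, ?_⟩
  · rw [← Subgroup.mem_map_iff_mem hi]
    simpa [commutatorElement_def] using h0 (comm_mem_sqg ⟨x⁻¹, rfl⟩ ⟨y⁻¹, rfl⟩)
  · have := h.card_eq hna
    rwa [← h.card_Z, Subgroup.card_map_of_injective hi, MonoidHom.range_eq_map,
      Subgroup.card_map_of_injective hi, Subgroup.card_top] at this
  · haveI := fact_two
    refine Nat.eq_prime_pow_of_dvd_least_prime_pow (k := 1) Nat.prime_two (fun e => ?_)
      (Monoid.exponent_dvd_of_forall_pow_eq_one fun x => by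
        rw [pow_succ, pow_mul, pow_one, sq, sq]; exact (h1 _).mp (h2 x))
    obtain ⟨x, y, hxy⟩ := hP.2.2.1
    exact hxy (Subgroup.mem_center_iff.mp ((h1 y).mpr (by
      rw [← sq]; exact Monoid.exponent_dvd_iff_forall_pow_eq_one.mp e y)) x)

end Cfsg.Agent.S1138
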