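import Cfsg.Statements.S1139
import Cfsg.Agent.Lib.BS.Higman

set_option autoImplicit false
open Cfsg

namespace Cfsg.Agent.S1139
open Cfsg.Lib.Invol
open Cfsg.Lib.BS


/-- A Suzuki 2-group `P` with `|P| = |Z(P)|²` is of type A: for some finite field `F` with `|F| = |Z(P)|` and some field automorphism `φ ≠ 1` of odd order, `P` is isomorphic to the group of lower unitriangular matrices with rows `(1,0,0)`, `(x,1,0)`, `(y, φ x, 1)`. -/
theorem result {P : Type*} [Group P] (hP : Cfsg.IsSuzukiTwoGroup P)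
    (hcard : Nat.card P = Nat.card (Subgroup.center P) ^ 2) :
    ∃ (F : Type) (_ : Field F) (_ : Fintype F) (φ : F ≃+* F), Fintype.card F = Nat.card (Subgroup.center P) ∧
      φ ≠ RingEquiv.refl F ∧ Odd (orderOf φ) ∧ Nonempty (P ≃* Cfsg.suzukiTypeA F (φ : F →+* F)) := by
  obtain ⟨Γ, _, _, i, K, F, _, _, _, π, χ, hi, h, hna⟩ := sz_of_suzuki hP
  have h1 := h.card_Z
  rw [Subgroup.card_map_of_injective hi] at h1
  obtain ⟨u, v, ψ, θ, hS, h2, h3, -, h4, h5, -⟩ := h.typeA hna (by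
    rw [MonoidHom.range_eq_map, Subgroup.card_map_of_injective hi, Subgroup.card_top, hcard, h1])
  obtain ⟨e⟩ := h.iso_typeA hS h4 h5
  exact ⟨F, inferInstance, inferInstance, θ, by rw [h1, Nat.card_eq_fintype_card], h2, h3,
    ⟨(MonoidHom.ofInjective hi).trans e⟩⟩

end Cfsg.Agent.S1139
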