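import Cfsg.Statements.S1142
import Cfsg.Agent.Lib.BN.FH2

set_option autoImplicit false
open Cfsg

namespace Cfsg.Agent.S1142

open Cfsg.Lib.BN Cfsg.Lib.Invol in

/-- Feit–Higman: if a finite group has a (B,N)-pair of rank 2, its Weyl group `N/(B ⊓ N)` has order 4, 6, 8, 12 or 16. -/
theorem result {G : Type*} [Group G] [Finite G] (P : Cfsg.BNPair G)
    (h2 : P.rank = 2) :
    ((P.B ⊓ P.N).subgroupOf P.N).index ∈ ({4, 6, 8, 12, 16} : Set ℕ) := by
  haveI := Fintype.ofFinite G
  haveI : Finite (W P) := Finite.of_surjective _ (toW_surjective P)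
  obtain ⟨s, t, hst, h⟩ := Nat.card_eq_two_iff.1 h2
  have h1 := FH.orderOf_mem hst
  have hs := sim_mul_self P s
  have ht := sim_mul_self P t
  obtain ⟨e⟩ := closure_mulEquiv_dihedral hs (left_inverts hs ht) rfl fun hx => by
    obtain ⟨k, hk⟩ := hx
    have hc : Commute (sim P s) (sim P s * sim P t) := by
      have := (Commute.refl (sim P s * sim P t)).zpow_left k
      rwa [show (sim P s * sim P t) ^ k = sim P s from hk] at this
    have h3 : (sim P s * sim P t) ^ (2 : ℤ) = 1 := by
      rw [zpow_two]; nth_rewrite 1 [← mul_inv_cancel_right (sim P s * sim P t) (sim P s), ← hc.eq, left_inverts hs ht]; exact inv_mul_cancel _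
    rcases Int.even_or_odd' k with ⟨m, rfl | rfl⟩ <;> simp only [zpow_add, zpow_mul, h3, one_zpow, zpow_one, one_mul] at hk
    exacts [sim_ne_one P s hk.symm, sim_ne_one P t (mul_eq_left.1 hk)]
  have h4 : Subgroup.closure ({sim P s, sim P s * sim P t} : Set (W P)) = ⊤ := by
    rw [← closure_pair_eq, ← closure_range_sim, ← Set.image_univ, ← h, Set.image_pair]
  have h5 := Nat.card_congr e.toEquiv
  rw [h4, Subgroup.card_top, DihedralGroup.nat_card] at h5
  change Nat.card (W P) ∈ _
  rw [h5]
  simp only [Set.mem_insert_iff, Set.mem_singleton_iff] at h1 ⊢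
  omega

end Cfsg.Agent.S1142
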