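import Cfsg.Statements.S1148
import Cfsg.Agent.Lib.U3.Odd5
import Cfsg.Agent.Lib.BN.Basic

set_option autoImplicit false
open Cfsg

namespace Cfsg.Agent.S1148

open Subgroup Cfsg.Lib.Invol Cfsg.Lib.OU

theorem eq_or_of_zp {G : Type*} [Group G] {t s : G} (ht : t * t = 1) (hs : s ∈ zpowers t) : s = 1 ∨ s = t := by
  obtain ⟨k, rfl⟩ := hs
  rcases Int.even_or_odd' k with ⟨j, rfl | rfl⟩
  · left; simp only [zpow_mul, zpow_ofNat, sq, ht, one_zpow]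
  · right; simp only [zpow_add, zpow_mul, zpow_ofNat, sq, ht, one_zpow, one_mul, pow_one]

/-- Let `G` be finite simple with a (B,N)-pair of rank 1, `B = U H` with `U` nilpotent normal in `B`, `H = B ⊓ N`, `U ⊓ H = 1`, where `[G : B] = p^(3n) + 1` for an odd prime `p`, `|U| = p^(3n)` and `H` is cyclic of order `(p^(2n) - 1)/gcd(3, p^n + 1)`. Then `G ≅ PSU₃(p^n)`. -/
theorem result {G : Type*} [Group G] [Finite G] [IsSimpleGroup G]
    (P : Cfsg.BNPair G) (h1 : P.rank = 1) {p n : ℕ} (hp : p.Prime) (hp2 : p ≠ 2) (hn : 1 ≤ n)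
    (U : Subgroup G) (hUB : U ≤ P.B) (hUn : ∀ b ∈ P.B, ∀ u ∈ U, b * u * b⁻¹ ∈ U)
    (hUnil : Group.IsNilpotent U) (hsplit : U ⊔ (P.B ⊓ P.N) = P.B) (hdisj : U ⊓ (P.B ⊓ P.N) = ⊥)
    (hind : P.B.index = p ^ (3 * n) + 1) (hU : Nat.card U = p ^ (3 * n))
    (hHc : IsCyclic ↥(P.B ⊓ P.N))
    (hH : Nat.gcd 3 (p ^ n + 1) * Nat.card ↥(P.B ⊓ P.N) = p ^ (2 * n) - 1) :
    ∃ (F : Type) (_ : Field F) (_ : Fintype F), Fintype.card F = (p ^ n) ^ 2 ∧
      Nonempty (G ≃* Cfsg.PSU 3 F (p ^ n)) := by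
  obtain ⟨hs1, ⟨s⟩⟩ := Nat.card_eq_one_iff_unique.mp h1
  have hsB := Lib.BN.not_mem_B P s.2
  haveI : Nonempty P.S := ⟨s⟩
  haveI := Finite.of_surjective _ (Lib.BN.toW_surjective P)
  have hn' : P.B ≤ normalizer (U : Set G) := fun b hb => Lib.BS.mem_norm_of (hUn b hb)
  have hdec : ∀ b ∈ P.B, ∃ x ∈ U, ∃ d ∈ P.B ⊓ P.N, b = x * d := fun b hb => by
    obtain ⟨u, hu, h, hh, rfl⟩ := (Lib.Coprime.mem_sup_iff_of_le_normalizer (inf_le_left.trans hn')).mp (hsplit.ge hb)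
    exact ⟨u, hu, h, hh, rfl⟩
  have hB : ∀ g, g ∉ P.B → ∃ u ∈ U, ∃ b ∈ P.B, g = u * s * b := fun g hg => by
    obtain ⟨w, hw⟩ := Lib.BN.exists_mem_C P g
    have h1 : w ∈ zpowers (Lib.BN.sim P s) := by
      rw [zpowers_eq_closure, ← Set.range_eq_singleton fun t => congrArg (Lib.BN.sim P) (Subsingleton.elim t s), Lib.BN.closure_range_sim]
      exact mem_top w
    rcases eq_or_of_zp (Lib.BN.sim_mul_self P s) h1 with rfl | rfl
    · exact absurd (Lib.BN.mem_C_one.mp hw) hg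
    obtain ⟨b, hb, b', hb', rfl⟩ := (Lib.BN.mem_C_toW P).mp hw
    obtain ⟨u, hu, h, hh, rfl⟩ := hdec b hb
    exact ⟨u, hu, _, mul_mem (P.conj_mem _ (inv_mem (P.subset s.2)) h hh) hb', by simp [mul_assoc]⟩
  have hsN : (s : G) ∈ P.N := P.subset s.2
  have hreg : ∀ x ∈ U, ∀ y ∈ U, ((x * s : G) : G ⧸ P.B) = (y * s : G) → x = y := by
    have h2 : Nat.card U ≤ Nat.card {ω : G ⧸ P.B // True ∧ ω ≠ ((1 : G) : G ⧸ P.B)} := by
      have := card_remove (p := fun _ : G ⧸ P.B => True) (a := ((1 : G) : G ⧸ P.B)) trivial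
      rw [card_true, ← index, hind] at this; omega
    let φ : U → {ω : G ⧸ P.B // True ∧ ω ≠ ((1 : G) : G ⧸ P.B)} := fun x => ⟨(x * s : G), trivial, fun e =>
      hsB (by simpa using mul_mem (inv_mem (hUB x.2)) (inv_mem (QuotientGroup.eq.1 e)))⟩
    have h3 : Function.Surjective φ := fun ⟨ω, hω⟩ => by
      obtain ⟨g, rfl⟩ := QuotientGroup.mk_surjective ω
      obtain ⟨x, hx, b, hb, rfl⟩ := hB g fun e => hω.2 (QuotientGroup.eq.2 (by simpa using e))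
      exact ⟨⟨x, hx⟩, Subtype.ext (QuotientGroup.eq.2 (by simpa [mul_assoc] using hb))⟩
    exact fun x hx y hy e => congrArg Subtype.val ((h3.bijective_of_nat_card_le h2).1 (a₁ := ⟨x, hx⟩) (a₂ := ⟨y, hy⟩)
      (Subtype.ext e))
  obtain ⟨i, hi⟩ := exists_prime_orderOf_dvd_card' (G := ↥(P.B ⊓ P.N)) 2 (hp := fact_two) (by
    have h2 : 2 ∣ p ^ (2 * n) - 1 := even_iff_two_dvd.1 (Nat.Odd.sub_odd (hp.odd_of_ne_two hp2).pow odd_one)
    exact (Nat.prime_two.dvd_mul.1 (hH ▸ h2)).resolve_left fun e => by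
      have := e.trans (Nat.gcd_dvd_left _ _); omega)
  exact OU.iso (B := P.B) (Q := U) (D := P.B ⊓ P.N) (i := i) (t := s) ⟨hp, hp2, hn, hUB, inf_le_left, hn', hdec,
    Lib.BS.mem_norm_of fun d hd => mem_inf.2 ⟨P.conj_mem _ hsN d hd, mul_mem (mul_mem hsN hd.2) (inv_mem hsN)⟩, hsB,
    ⟨P.sq_mem _ s.2, mul_mem hsN hsN⟩, hB, fun x hx e => (hreg 1 (one_mem _) x hx (QuotientGroup.eq.2 (by
      simpa [mul_assoc] using e))).symm, P.B.normalCore_normal.eq_bot_or_eq_top.resolve_right fun e =>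
      hsB (P.B.normalCore_le (e ▸ mem_top _)), hU, hHc, hH, (orderOf_coe i).trans hi, i.2⟩

end Cfsg.Agent.S1148
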