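import Cfsg.Statements.S1151
import Cfsg.Agent.Lib.Twist.ReeSyl

set_option autoImplicit false
open Cfsg

namespace Cfsg.Agent.S1151

open Cfsg.Lib.Twist Cfsg.Lib.Transfer Subgroup


/-- In the small Ree group ²G₂(q), q = 3^(2m+1), realised as G¹ inside the Chevalley group G₂ over the field with q elements (θ the 3^m-th power map), with H¹ = G¹ ∩ H and U¹ = G¹ ∩ U the intersections with the ambient diagonal and positive unipotent subgroups: `H¹` has exactly `(q - 1)/2` elements of odd order, and each non-identity one centralises no non-identity element of `U¹`. -/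
theorem result {K : Type*} [Field K] [Fintype K] {m : ℕ} (hK : Fintype.card K = 3 ^ (2 * m + 1)) :
    2 * Nat.card {h : ↥(Cfsg.Lie.chevG2.diagonalSubgroup K ⊓ Cfsg.Lie.twistedG2 K (3 ^ m)) // Odd (orderOf h)} = 3 ^ (2 * m + 1) - 1 ∧
      ∀ h ∈ (Cfsg.Lie.chevG2.diagonalSubgroup K ⊓ Cfsg.Lie.twistedG2 K (3 ^ m)), h ≠ 1 → Odd (orderOf h) →
        (Cfsg.Lie.chevG2.posUnipotent K ⊓ Cfsg.Lie.twistedG2 K (3 ^ m)) ⊓ Subgroup.centralizer {h} = ⊥ := by
  obtain ⟨R, hQ, hH, -⟩ := exists_ree hK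
  have := R.q_mod
  refine ⟨?_, fun h hh h1 h2 => eq_bot_iff.2 fun x hx => ?_⟩
  · let e := ((MonoidHom.ofInjective R.D_inj).trans (MulEquiv.subgroupCongr hH)).trans (infEquiv _ _)
    have h2 : Nat.card K - 1 = 2 * ((Nat.card K - 1) / 2) := by omega
    rw [← Nat.card_congr (e.toEquiv.subtypeEquiv (p := fun k => k ^ ((Nat.card K - 1) / 2) = 1) fun k => ?_), card_units_pow,
      Nat.gcd_eq_left (Dvd.intro_left _ h2.symm), ← h2, Nat.card_eq_fintype_card, hK]
    rw [← orderOf_dvd_iff_pow_eq_one, show orderOf (e.toEquiv k) = orderOf k from e.orderOf_eq k]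
    exact ⟨(Nat.odd_iff.2 (by omega)).of_dvd_nat, fun h => (Nat.coprime_two_right.2 h).dvd_of_dvd_mul_left
      (h2 ▸ Nat.card_units K ▸ orderOf_dvd_natCard k)⟩
  · obtain ⟨k, hk⟩ : (⟨h, hh.2⟩ : Lie.twistedG2 K (3 ^ m)) ∈ R.H := hH ▸ hh.1
    obtain rfl : (R.D k).1 = h := congrArg Subtype.val hk
    refine congrArg Subtype.val (R.eq_one_of_comm_D (x := ⟨x, hx.1.2⟩) (hQ ▸ hx.1.1) (k := k) (fun e => h1 ?_)
      (Subtype.ext (mul_inv_eq_iff_eq_mul.2 (hx.2 _ rfl))))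
    exact orderOf_eq_one_iff.1 (Nat.eq_one_of_dvd_coprimes (Nat.coprime_two_right.2 h2) dvd_rfl
      (orderOf_dvd_of_pow_eq_one (by rw [← coe_pow, ← map_pow, e, map_one, coe_one])))

end Cfsg.Agent.S1151
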