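import Cfsg.Statements.S1153
import Cfsg.Agent.Lib.Twist.ReeSyl

set_option autoImplicit false
open Cfsg

namespace Cfsg.Agent.S1153

open Cfsg.Lib.Twist Cfsg.Lib.Transfer Subgroup

variable {K : Type*} [Field K] {G : Type*} [Group G] (R : Ree K G)

theorem stab {B : Subgroup G} {g h : G} : h ∈ MulAction.stabilizer G (g : G ⧸ B) ↔ g⁻¹ * h * g ∈ B :=
  (QuotientGroup.eq (a := h * g)).trans (B.inv_mem_iff.symm.trans (by simp [mul_assoc]))

theorem h1 : ((1 : G) : G ⧸ R.B) ≠ (R.U 0 1 0 * R.w : G) := fun e =>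
  R.not_mem_B (R.Q_le_B (R.U_mem ..)) (one_mem _) (by simpa using QuotientGroup.eq.1 e)

theorem h2 : ((R.w : G) : G ⧸ R.B) ≠ (R.U 0 1 0 * R.w : G) := fun e => one_ne_zero (R.U_eq_one.1
  (R.opp (R.U_mem ..) (by simpa [mul_assoc, R.w_inv] using QuotientGroup.eq.1 e))).2.1

theorem fix_D {k : Kˣ} (hk : k ^ 2 ≠ 1) {g : G} (h : g⁻¹ * R.D k * g ∈ R.B) (hg : g ∉ R.B) : R.w * g ∈ R.B := by
  obtain ⟨x, hx, l, y, hy, e⟩ := (R.bruhat g⁻¹).resolve_left (by simpa)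
  have hb := mul_mem (R.Q_le_B hx) (R.D_mem_B l)
  obtain rfl := R.eq_one_of_comm_D hy hk (R.QD_conj hy (by
    simpa using R.conj_eq_D (one_mem _) hy hb (k := k) (by simpa [e] using h))).1
  rwa [← R.B.inv_mem_iff, mul_inv_rev, ← e, mul_one, mul_inv_cancel_right]

theorem fix3 [Finite G] {g g' h : G} (h1 : h ∈ R.B) (h2 : g⁻¹ * h * g ∈ R.B) (h3 : g'⁻¹ * h * g' ∈ R.B) (hg : g ∉ R.B)
    (hg' : g' ∉ R.B) (h4 : g⁻¹ * g' ∉ R.B) (h5 : h ≠ 1) : h * R.D (-1) ∈ R.Q := by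
  obtain ⟨x, hx, k, rfl⟩ := h1
  by_cases hk : k ^ 2 = 1
  · rcases Ree.sq_eq_one_iff'.1 hk with rfl | rfl
    · rw [map_one, mul_one] at h2 h5
      exact (hg (by simpa using R.mem_B_of_conj (g := g⁻¹) hx h5 (by simpa))).elim
    · rwa [mul_assoc, R.a_sq, mul_one]
  · obtain ⟨y, hy, e⟩ := R.conj_D_of_mem_B hx hk
    have key : ∀ g, g⁻¹ * (x * R.D k) * g ∈ R.B → g ∉ R.B → R.w * (y * g) ∈ R.B := fun g h hg =>
      fix_D R hk (by rw [← e]; simpa [mul_assoc] using h) (by rwa [mul_mem_cancel_left (R.Q_le_B hy)])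
    exact (h4 (by simpa [mul_assoc] using mul_mem (inv_mem (key g h2 hg)) (key g' h3 hg'))).elim

theorem aux [Finite G] (x y z : G ⧸ R.B) (hxy : x ≠ y) (hxz : x ≠ z) (hyz : y ≠ z) :
    Nat.card ↥(MulAction.stabilizer G x ⊓ MulAction.stabilizer G y ⊓ MulAction.stabilizer G z) ≤ 2 := by
  induction x, y, z using Quotient.inductionOn₃' with | h a b c =>
  have hab : a⁻¹ * b ∉ R.B := mt QuotientGroup.eq.2 hxy
  generalize hL : (_ ⊓ _ ⊓ _ : Subgroup G) = L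
  have key : ∀ h ∈ L, h ≠ 1 → a⁻¹ * h * a * R.D (-1) ∈ R.Q := fun h hh h1 => by
    subst hL
    exact fix3 R (stab.1 hh.1.1) (by simpa [mul_assoc] using stab.1 hh.1.2) (by simpa [mul_assoc] using stab.1 hh.2) hab
      (mt QuotientGroup.eq.2 hxz) (by simpa [mul_assoc] using mt QuotientGroup.eq.2 hyz) (mt conj_eq_one'.1 h1)
  by_cases h : L = ⊥
  · simp [h]
  obtain ⟨⟨t, ht⟩, h1⟩ := ne_bot_iff_exists_ne_one.1 h
  refine (Set.ncard_le_ncard (t := {1, t}) fun s hs => or_iff_not_imp_left.2 fun h2 => by_contra fun h3 => ?_).trans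
    ((Set.ncard_insert_le ..).trans (by simp))
  refine hab (R.B.inv_mem_iff.1 (R.mem_B_of_conj (mul_mem (key s hs h2) (inv_mem (key t ht fun e => h1 (Subtype.ext e))))
    (fun e => h3 (mul_inv_eq_one.1 (conj_eq_one'.1 (by simpa [mul_assoc] using e)))) ?_))
  subst hL
  simpa [mul_assoc] using stab.1 (mul_mem hs (inv_mem ht)).1.2


/-- In the small Ree group ²G₂(q), q = 3^(2m+1), realised as G¹ inside the Chevalley group G₂ over the field with q elements, with `B¹ = G¹ ∩ B`: in the action of `G¹` on the cosets of `B¹`, the joint stabiliser of any three distinct cosets has order at most 2, and for some three distinct cosets it has order exactly 2. -/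
theorem result {K : Type*} [Field K] [Fintype K] {m : ℕ} (hK : Fintype.card K = 3 ^ (2 * m + 1)) :
    (∀ x y z : ↥(Cfsg.Lie.twistedG2 K (3 ^ m)) ⧸ ((Cfsg.Lie.chevG2.borelSubgroup K ⊓ Cfsg.Lie.twistedG2 K (3 ^ m))).subgroupOf (Cfsg.Lie.twistedG2 K (3 ^ m)), x ≠ y → x ≠ z → y ≠ z →
        Nat.card ↥(MulAction.stabilizer ↥(Cfsg.Lie.twistedG2 K (3 ^ m)) x ⊓ MulAction.stabilizer ↥(Cfsg.Lie.twistedG2 K (3 ^ m)) y ⊓ MulAction.stabilizer ↥(Cfsg.Lie.twistedG2 K (3 ^ m)) z) ≤ 2) ∧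
      ∃ x y z : ↥(Cfsg.Lie.twistedG2 K (3 ^ m)) ⧸ ((Cfsg.Lie.chevG2.borelSubgroup K ⊓ Cfsg.Lie.twistedG2 K (3 ^ m))).subgroupOf (Cfsg.Lie.twistedG2 K (3 ^ m)), x ≠ y ∧ x ≠ z ∧ y ≠ z ∧
        Nat.card ↥(MulAction.stabilizer ↥(Cfsg.Lie.twistedG2 K (3 ^ m)) x ⊓ MulAction.stabilizer ↥(Cfsg.Lie.twistedG2 K (3 ^ m)) y ⊓ MulAction.stabilizer ↥(Cfsg.Lie.twistedG2 K (3 ^ m)) z) = 2 := by
  obtain ⟨R, -, -, h⟩ := exists_ree hK
  rw [inf_subgroupOf_right, ← h]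
  refine ⟨aux R, _, _, _, fun e => R.w_not_mem (by simpa using QuotientGroup.eq.1 e), h1 R, h2 R, le_antisymm
    (aux R _ _ _ (fun e => R.w_not_mem (by simpa using QuotientGroup.eq.1 e)) (h1 R) (h2 R)) ?_⟩
  refine (one_lt_card_iff_ne_bot _).2 (ne_bot_iff_exists_ne_one.2 ⟨⟨R.D (-1), ⟨stab.2 ?_, stab.2 ?_⟩, stab.2 ?_⟩,
    fun e => R.a_ne (congrArg Subtype.val e)⟩)
  · simpa using R.D_mem_B _
  · simpa [mul_assoc, R.a_w] using R.D_mem_B _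
  · have : R.D (-1) * R.U 0 1 0 = R.U 0 1 0 * R.D (-1) := mul_inv_eq_iff_eq_mul.1 (by simp [R.a_U])
    simpa [mul_assoc, ← mul_assoc (R.D _), this, R.a_w] using R.D_mem_B _

end Cfsg.Agent.S1153
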