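import Cfsg.Statements.S1154
import Cfsg.Agent.Lib.Twist.ReeSyl

set_option autoImplicit false
open Cfsg

namespace Cfsg.Agent.S1154

open Cfsg.Lib.Twist Cfsg.Lib.Transfer Subgroup


/-- In the small Ree group ²G₂(q), q = 3^(2m+1) with m ≥ 1, realised as G¹ inside the Chevalley group G₂ over the field with q elements (θ the 3^m-th power map), with `U¹ = G¹ ∩ U` (U the positive unipotent subgroup of the ambient G₂): `U¹` has exactly `q² - 1` elements of order 3. -/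
theorem result {K : Type*} [Field K] [Fintype K] {m : ℕ} (hm : 1 ≤ m) (hK : Fintype.card K = 3 ^ (2 * m + 1)) :
    Nat.card {u : ↥(Cfsg.Lie.chevG2.posUnipotent K ⊓ Cfsg.Lie.twistedG2 K (3 ^ m)) // orderOf u = 3} = (3 ^ (2 * m + 1)) ^ 2 - 1 := by
  obtain ⟨R, hQ, -⟩ := exists_ree hK
  let e := (MulEquiv.subgroupCongr hQ).trans (infEquiv _ _)
  have := Fact.mk Nat.prime_three
  rw [← Nat.card_congr (e.toEquiv.subtypeEquiv (p := fun x => orderOf x.1 = 3) fun x => by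
      rw [show orderOf (e.toEquiv x) = orderOf x from e.orderOf_eq x, orderOf_coe]),
    ← Nat.card_eq_of_bijective (fun p : {p : K × K // p ≠ 0} => ⟨⟨_, R.U_mem 0 p.1.1 p.1.2⟩, orderOf_eq_prime
      (R.U_cube_eq_one.2 rfl) fun h => p.2 (Prod.ext (R.U_eq_one.1 h).2.1 (R.U_eq_one.1 h).2.2)⟩)
      ⟨fun p p' h => Subtype.ext (Prod.ext_iff.2 (R.U_inj (congrArg (·.1.1) h)).2), ?_⟩]
  · classical simp [hK, pow_two]
  · rintro ⟨⟨_, t, u, v, rfl⟩, h⟩
    obtain rfl := R.U_cube_eq_one.1 (h ▸ pow_orderOf_eq_one _)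
    exact ⟨⟨(u, v), fun e => by simp [(Prod.ext_iff.1 e).1, show u = 0 from (Prod.ext_iff.1 e).1,
      show v = 0 from (Prod.ext_iff.1 e).2, R.U_zero] at h⟩, rfl⟩

end Cfsg.Agent.S1154
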