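import Cfsg.Statements.S1155
import Cfsg.Agent.Lib.Twist.ReeSyl

set_option autoImplicit false
open Cfsg

namespace Cfsg.Agent.S1155

open Cfsg.Lib.Twist Cfsg.Lib.Transfer Subgroup


/-- In the small Ree group ²G₂(q), q = 3^(2m+1) with m ≥ 1, realised as G¹ inside the Chevalley group G₂ over the field with q elements (θ the 3^m-th power map): distinct Sylow 3-subgroups of `G¹` meet trivially. -/
theorem result {K : Type*} [Field K] [Fintype K] {m : ℕ} (hm : 1 ≤ m) (hK : Fintype.card K = 3 ^ (2 * m + 1))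
    (P Q : Sylow 3 ↥(Cfsg.Lie.twistedG2 K (3 ^ m))) (hPQ : P ≠ Q) : (P : Subgroup ↥(Cfsg.Lie.twistedG2 K (3 ^ m))) ⊓ (Q : Subgroup ↥(Cfsg.Lie.twistedG2 K (3 ^ m))) = ⊥ := by
  obtain ⟨R, -⟩ := exists_ree hK
  obtain ⟨g, hg⟩ := R.exists_cj_Q P
  obtain ⟨g', hg'⟩ := R.exists_cj_Q Q
  refine eq_bot_iff.2 fun x hx => by_contra fun h => hPQ (Sylow.ext ?_)
  have := R.mem_B_of_conj (g := g'⁻¹ * g) (mem_cj.1 (hg ▸ hx.1)) (mt conj_eq_one'.1 h)
    (by simpa [mul_assoc] using R.Q_le_B (mem_cj.1 (hg' ▸ hx.2)))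
  rw [← hg, ← hg', ← mul_inv_cancel_left g' g, cj_mul, cj_eq_of_mem_normalizer (H := R.Q) (R.normalizer_Q ▸ this)]

end Cfsg.Agent.S1155
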