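import Cfsg.Statements.S1158
import Cfsg.Agent.Lib.Twist.ReeTori

set_option autoImplicit false
open Cfsg

namespace Cfsg.Agent.S1158

open Cfsg.Lib.Twist Cfsg.Lib.Transfer Subgroup


/-- In the small Ree group ²G₂(q), q = 3^(2m+1) with m ≥ 1, realised as G¹ inside the Chevalley group G₂ over the field with q elements (θ the 3^m-th power map), with `r = 3^(m+1)` (so `r² = 3q`): for each `k ∈ {(q-1)/2, (q+1)/4, q - r + 1, q + r + 1}` there is a cyclic subgroup `A` of order `k` whose normaliser has order `2(q-1)`, `6(q+1)`, `6(q-r+1)`, `6(q+r+1)` respectively, and `N(A₀) = N(A)` for every non-trivial `A₀ ≤ A`. -/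
theorem result {K : Type*} [Field K] [Fintype K] {m : ℕ} (hm : 1 ≤ m) (hK : Fintype.card K = 3 ^ (2 * m + 1)) :
    ∀ kn ∈ ({((3 ^ (2 * m + 1) - 1) / 2, 2 * (3 ^ (2 * m + 1) - 1)), ((3 ^ (2 * m + 1) + 1) / 4, 6 * (3 ^ (2 * m + 1) + 1)),
        (3 ^ (2 * m + 1) - 3 ^ (m + 1) + 1, 6 * (3 ^ (2 * m + 1) - 3 ^ (m + 1) + 1)),
        (3 ^ (2 * m + 1) + 3 ^ (m + 1) + 1, 6 * (3 ^ (2 * m + 1) + 3 ^ (m + 1) + 1))} : Set (ℕ × ℕ)),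
      ∃ A : Subgroup ↥(Cfsg.Lie.twistedG2 K (3 ^ m)), IsCyclic A ∧ Nat.card A = kn.1 ∧
        Nat.card (Subgroup.normalizer (A : Set ↥(Cfsg.Lie.twistedG2 K (3 ^ m)))) = kn.2 ∧
        ∀ A₀ : Subgroup ↥(Cfsg.Lie.twistedG2 K (3 ^ m)), A₀ ≤ A → A₀ ≠ ⊥ →
          Subgroup.normalizer (A₀ : Set ↥(Cfsg.Lie.twistedG2 K (3 ^ m))) = Subgroup.normalizer (A : Set ↥(Cfsg.Lie.twistedG2 K (3 ^ m))) := by
  obtain ⟨R, -⟩ := exists_ree hK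
  obtain ⟨e, hq, hr⟩ := ree_par hm hK
  obtain ⟨T₁, T₂, h₁, h₂, c₁, c₂, n₁, n₂⟩ := R.exists_tori hq hr
  rw [e]
  rintro _ (rfl | rfl | rfl | rfl)
  exacts [⟨_, (R.ht_H₀ hq).cyc, R.card_H₀, R.card_normalizer_H₀ hq, fun _ => (R.ht_H₀ hq).normalizer_eq⟩,
    ⟨_, (R.ht_T₀ hq).cyc, R.card_T₀, R.card_normalizer_T₀ hq, fun _ => (R.ht_T₀ hq).normalizer_eq⟩,
    ⟨_, h₁.cyc, c₁, n₁, fun _ => h₁.normalizer_eq⟩, ⟨_, h₂.cyc, c₂, n₂, fun _ => h₂.normalizer_eq⟩]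

end Cfsg.Agent.S1158
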