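import Cfsg.Statements.S1160
import Cfsg.Agent.Lib.BS.Huppert

set_option autoImplicit false
open Cfsg

namespace Cfsg.Agent.S1160
open Cfsg.Lib.Invol
open Cfsg.Lib.BS


/-- Let `p ≠ 2` be prime and `P` a finite `p`-group acting faithfully by additive automorphisms on a finite elementary abelian `q`-group `E` (`q` prime), such that `|P_a|` is the same for all `a ≠ 0`. Then `P` is cyclic and every non-identity element of `P` fixes only `0`. -/
theorem result {P E : Type*} [Group P] [Finite P]
    [AddCommGroup E] [Finite E] [DistribMulAction P E] [FaithfulSMul P E]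
    {p q : ℕ} [Fact p.Prime] (hp2 : p ≠ 2) (hP : IsPGroup p P) (hq : q.Prime) (hE : ∀ e : E, q • e = 0)
    (hconst : ∀ a b : E, a ≠ 0 → b ≠ 0 →
      Nat.card (MulAction.stabilizer P a) = Nat.card (MulAction.stabilizer P b)) :
    IsCyclic P ∧ ∀ g : P, g ≠ 1 → ∀ a : E, g • a = a → a = 0 := by
  let φ : P →* MulAut (Multiplicative E) :=
    { toFun := fun d => AddEquiv.toMultiplicative (DistribMulAction.toAddEquiv E d)
      map_one' := by ext x; exact congrArg Multiplicative.ofAdd (one_smul P x.toAdd)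
      map_mul' := fun a b => by ext x; exact congrArg Multiplicative.ofAdd (mul_smul a b x.toAdd) }
  have hφ : ∀ g : P, (∀ x, φ g x = x) → g = 1 := fun g e => eq_of_smul_eq_smul fun x : E =>
    (e (Multiplicative.ofAdd x)).trans (one_smul P x).symm
  obtain ⟨Γ, _, _, i, j, h, -, -⟩ := Cfsg.Lib.Coprime.exists_ambient φ
  have hc : ∀ a : Multiplicative E, (⊤ : Subgroup P).map j ⊓ Subgroup.centralizer {i a} =
      (MulAction.stabilizer P a.toAdd).map j := fun a => by
    ext x
    constructor
    · rintro ⟨⟨g, -, rfl⟩, hg⟩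
      exact ⟨g, (h.mul_comm_iff g a).mp (Subgroup.mem_centralizer_singleton_iff.mp hg), rfl⟩
    · rintro ⟨g, hg, rfl⟩
      exact ⟨⟨g, trivial, rfl⟩, Subgroup.mem_centralizer_singleton_iff.mpr ((h.mul_comm_iff g a).mpr hg)⟩
  have hP' : IsPGroup p ((⊤ : Subgroup P).map j) := (hP.to_subgroup ⊤).map j
  have h1 := fpf_of_const_stab (P := (⊤ : Subgroup P).map j) (E := (⊤ : Subgroup (Multiplicative E)).map i)
    hp2 hP' hq (by
      rintro _ ⟨e, -, rfl⟩
      rw [← map_pow, show e ^ q = 1 from congrArg Multiplicative.ofAdd (hE e.toAdd), map_one])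
    (h.le_normalizer_top ⊤) (eq_bot_iff.mpr (by
      rintro _ ⟨⟨d, -, rfl⟩, hd⟩
      simp [hφ d fun e => (h.mul_comm_iff d e).mp (hd _ ⟨e, trivial, rfl⟩).symm])) (by
      rintro _ ⟨a, -, rfl⟩ _ ⟨b, -, rfl⟩ ha hb
      rw [hc, hc, h.card_map_j, h.card_map_j]
      exact hconst _ _ (fun e => ha (by rw [show a = 1 from e, map_one]))
        fun e => hb (by rw [show b = 1 from e, map_one]))
  refine ⟨?_, fun g hg a e => h.inj_i ((h1.eq_one ⟨g, trivial, rfl⟩ (fun e => hg (h.inj_j (by simpa using e)))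
    ⟨Multiplicative.ofAdd a, trivial, rfl⟩ ((h.mul_comm_iff g _).mpr e)).trans (map_one i).symm)⟩
  rcases subsingleton_or_nontrivial (Multiplicative E) with hs | hs
  · haveI : Subsingleton P := ⟨fun a b => by
      rw [hφ a fun _ => Subsingleton.elim _ _, hφ b fun _ => Subsingleton.elim _ _]⟩
    exact isCyclic_of_subsingleton
  · have := h1.isCyclic_of_isPGroup (h.le_normalizer_top ⊤) (by
      rw [Ne, Subgroup.map_eq_bot_iff_of_injective _ h.inj_i]; exact top_ne_bot) hp2 hP'
    exact (MulEquiv.isCyclic (Subgroup.topEquiv.symm.trans (Subgroup.equivMapOfInjective _ j h.inj_j))).mpr this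

end Cfsg.Agent.S1160
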