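import Cfsg.Statements.S1161
import Cfsg.Agent.Lib.BS.Kcyc

set_option autoImplicit false
open Cfsg

namespace Cfsg.Agent.S1161
open Cfsg.Lib.Invol
open Cfsg.Lib.BS
open scoped commutatorElement


/-- Let `D` be a finite group of odd order acting faithfully by additive automorphisms on a finite elementary abelian `q`-group `E ≠ 0` (`q` prime), transitively on `E ∖ {0}`. Then the Fitting subgroup `F(D)` is cyclic, its non-identity elements fix only `0`, and `D/F(D)` is abelian (the derived subgroup lies in `F(D)`). -/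
theorem result {D E : Type*} [Group D] [Finite D]
    [AddCommGroup E] [Finite E] [Nontrivial E] [DistribMulAction D E] [FaithfulSMul D E]
    (hodd : Odd (Nat.card D)) {q : ℕ} (hq : q.Prime) (hE : ∀ e : E, q • e = 0)
    (htrans : ∀ a b : E, a ≠ 0 → b ≠ 0 → ∃ d : D, d • a = b) :
    IsCyclic ↥(Cfsg.fittingSubgroup D) ∧
      (∀ g ∈ Cfsg.fittingSubgroup D, g ≠ 1 → ∀ a : E, g • a = a → a = 0) ∧
      commutator D ≤ Cfsg.fittingSubgroup D := by
  haveI : Nontrivial (Multiplicative E) := ‹_›
  let φ : D →* MulAut (Multiplicative E) :=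
    { toFun := fun d => AddEquiv.toMultiplicative (DistribMulAction.toAddEquiv E d)
      map_one' := by ext x; exact congrArg Multiplicative.ofAdd (one_smul D x.toAdd)
      map_mul' := fun a b => by ext x; exact congrArg Multiplicative.ofAdd (mul_smul a b x.toAdd) }
  obtain ⟨h1, h2, h3⟩ := huppert_act φ (fun a b e => eq_of_smul_eq_smul fun x : E =>
    congrArg Multiplicative.toAdd (DFunLike.congr_fun e (Multiplicative.ofAdd x))) hq
    (fun e => congrArg Multiplicative.ofAdd (hE e.toAdd)) hodd fun a b ha hb => htrans a.toAdd b.toAdd ha hb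
  refine ⟨h1, fun g hg hg1 a e => h2 g hg hg1 (Multiplicative.ofAdd a) e, le_trans ?_ h3⟩
  haveI := Cfsg.Lib.Core.fitting_normal D
  let ψ : D →* MulAut (Cfsg.fittingSubgroup D) := MulAut.conjNormal
  letI := IsCyclic.commGroup (α := Cfsg.fittingSubgroup D)
  haveI : IsMulCommutative (MulAut (Cfsg.fittingSubgroup D)) := ⟨⟨fun a b =>
    (IsCyclic.mulAutMulEquiv _).injective (by rw [map_mul, map_mul, mul_comm])⟩⟩
  rw [commutator_def, Subgroup.commutator_le]
  intro a _ b _ x hx
  have : ψ ⁅a, b⁆ = 1 := by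
    rw [map_commutatorElement]; exact commutatorElement_eq_one_iff_mul_comm.mpr (mul_comm' _ _)
  exact (mul_inv_eq_iff_eq_mul.mp (congrArg Subtype.val (DFunLike.congr_fun this ⟨x, hx⟩))).symm

end Cfsg.Agent.S1161
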