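import Cfsg.Statements.S1164
import Cfsg.Agent.Lib.Chev.CT
import Cfsg.Agent.Lib.Chev.Fams
import Cfsg.Agent.Lib.Chev.All

set_option autoImplicit false
open Cfsg Cfsg.Lie Cfsg.Lib.Chev Cfsg.Lib.Twist

namespace Cfsg.Agent.S1164

theorem map_stH {D : ChevalleyDatum} {R : RootSys (Fin D.rank) (Fin D.nroots)} (hc : Compat D R) {K G : Type*} [Field K]
    [Group G] (f : FreeGroup (Fin D.nroots × K) →* G) (r : Fin D.nroots) (t : K) :
    f (D.stH r t) = f (.of (r, t)) * f (.of (R.neg r, -t⁻¹)) * f (.of (r, t)) *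
      (f (.of (r, -1)) * f (.of (R.neg r, -(-1)⁻¹)) * f (.of (r, -1))) := by
  simp [← stX_coe, ChevalleyDatum.stH, ChevalleyDatum.stWord, ChevalleyDatum.hWord, ChevalleyDatum.nWord, hc.neg_eq,
    mul_assoc]

/-- Curtis–Tits: for the Chevalley datum of type D₄, F₄, E₆, E₇ or E₈ and a field `K` with at least four elements, there is an isomorphism from the group presented by the Curtis–Tits relators (additivity, the commutator relators and the `h̄`-relators only for roots inside a common rank-two subsystem spanned by two fundamental roots, all other generators killed) onto the group of Steinberg's presentation, sending each generator `x̄_r(t)` with `r` in such a subsystem to `x̄_r(t)`. -/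
theorem result (D : Cfsg.Lie.ChevalleyDatum)
    (hD : D ∈ [Cfsg.Lie.chevD4, Cfsg.Lie.chevF4, Cfsg.Lie.chevE6, Cfsg.Lie.chevE7, Cfsg.Lie.chevE8])
    (K : Type*) [Field K] [Fintype K] (hK : 4 ≤ Fintype.card K) :
    ∃ e : D.CurtisTitsGroup K ≃* D.SteinbergGroup K,
      ∀ (i j r : ℕ) (t : K), D.InRankTwoSub i j r →
        e (PresentedGroup.mk (D.curtisTitsRels K) (D.stX r t)) = D.stGen K r t := by
  classical
  replace hD : D ∈ [chevG2, chevB2, chevD4, chevF4, chevE6, chevE7, chevE8] := by
    simp only [List.mem_cons] at hD ⊢; tauto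
  obtain ⟨R, η, hc, hm⟩ := good_of_mem hD
  have hS := hc.st_of_exact hm hD (hc.st_exact (K := K))
  have hF := hc.st_sep hm (K := K)
  have hO := hc.st_opp hm (K := K)
  have hC := hc.st_sc hD K
  have e1 : ∀ {i j : Fin D.rank} {r : Fin D.nroots}, D.InRankTwoSub i j r ↔ R.InSub ({i, j} : Finset _) r :=
    ⟨fun h k hk => (R.co_eq_zero_iff _ _).1 ((hc.co_eq _ _).trans (h.2.2.2 k k.2 (fun e => hk (by simp [Fin.ext e]))
      fun e => hk (by simp [Fin.ext e]))), fun h => ⟨Fin.is_lt _, Fin.is_lt _, Fin.is_lt _, fun k hk a b =>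
        (hc.co_eq _ ⟨k, hk⟩).symm.trans ((R.co_eq_zero_iff _ _).2 (h _ (by simp [Fin.ext_iff, a, b])))⟩⟩
  let f : FreeGroup (Fin D.nroots × K) →* D.SteinbergGroup K := FreeGroup.lift fun p =>
    if ∃ i j, D.InRankTwoSub i j p.1 then (hc.stSys K).x p.1 p.2 else 1
  have f1 : ∀ {i j : Fin D.rank} {r}, R.InSub ({i, j} : Finset _) r → ∀ t, f (.of (r, t)) = (hc.stSys K).x r t :=
    fun h t => by simp only [f, FreeGroup.lift_apply_of]; exact if_pos ⟨_, _, e1.2 h⟩
  have f2 : ∀ g ∈ D.curtisTitsRels K, f g = 1 := by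
    rintro _ (((⟨r, t, hr, h, rfl⟩ | ⟨i, j, r, t, u, h, rfl⟩) | ⟨i, j, r, s, t, u, h, h', h1, h2, rfl⟩) |
      ⟨i, j, r, t, u, h, ht, hu, rfl⟩)
    · lift r to Fin D.nroots using hr
      simp only [stX_coe, f, FreeGroup.lift_apply_of]; exact if_neg (by simpa using h)
    all_goals
      lift r to Fin D.nroots using h.1
      lift i to Fin D.rank using h.2.1
      lift j to Fin D.rank using h.2.2.1
      replace h := e1.1 h
    · simp only [stX_coe, map_mul, map_inv, f1 h, PreSys.x_add, mul_inv_cancel]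
    · lift s to Fin D.nroots using h'.1
      replace h' := e1.1 h'
      simp only [stX_coe, map_mul, map_inv, mul_inv_eq_one, map_stWord_commWord, f1 h, f1 h']
      rw [List.map_congr_left fun c hk => f1 (RootSys.inSub_of_mem_cone (hc.terms _ _ c hk) h h') _, mul_assoc,
        hc.st_exact r s (fun e => h1 (by rw [e])) (hc.ne_neg_of_val h2)]
      group
    · simp only [map_mul, map_inv, map_stH hc, f1 h, f1 (RootSys.inSub_neg.2 h), mul_inv_eq_one]
      exact (hc.st_mult r t u ht hu).symm
  let π : D.CurtisTitsGroup K →* D.SteinbergGroup K := PresentedGroup.toGroup f2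
  let X : Fin D.nroots → K → D.CurtisTitsGroup K := fun r t => PresentedGroup.of (r, t)
  have x1 : ∀ {i j : Fin D.rank} {r}, R.InSub ({i, j} : Finset _) r → ∀ t, π (X r t) = (hc.stSys K).x r t :=
    fun h t => (PresentedGroup.toGroup.of f2).trans (if_pos ⟨_, _, e1.2 h⟩)
  have x2 : ∀ g ∈ D.curtisTitsRels K, PresentedGroup.mk (D.curtisTitsRels K) g = 1 := fun g => PresentedGroup.one_of_mem
  have x3 : ∀ {i j : Fin D.rank} r, R.InSub ({i, j} : Finset _) r → ∀ t u, X r (t + u) = X r t * X r u :=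
    fun r h t u => by
      have := x2 _ (.inl (.inl (.inr ⟨_, _, r, t, u, e1.2 h, rfl⟩)))
      simp only [stX_coe, map_mul, map_inv, mul_inv_eq_one] at this
      exact this.symm
  let T : ∀ i j : Fin D.rank, PreSys (R.sub {i, j}) K (D.CurtisTitsGroup K) := fun i j => .ofSub _ X x3
    fun r s h h' h1 h2 => comm_mem_of_rel (x := fun r : {r // R.InSub ({i, j} : Finset _) r} => X r) (r := ⟨r, h⟩)
      (s := ⟨s, h'⟩) (fun r => x3 r r.2) fun t u => by
        have := x2 _ (.inl (.inr ⟨_, _, r, s, t, u, e1.2 h, e1.2 h', Fin.val_ne_of_ne h1, hc.ne_neg_val h2, rfl⟩))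
        simp only [stX_coe, map_mul, map_inv, mul_inv_eq_one, map_stWord_commWord] at this
        refine ⟨_, this ▸ Subgroup.list_prod_mem _ ?_, by simp only [X, PresentedGroup.of]; group⟩
        simp only [List.mem_map, forall_exists_index, and_imp]
        rintro _ c hk rfl
        exact Subgroup.subset_closure ⟨_, hc.terms _ _ c hk, _, rfl⟩
  have t1 : ∀ i j r t, π ((T i j).x r t) = ((hc.stSys K).sub {i, j}).x r t := fun i j r => x1 r.2
  have t2 : ∀ {i j}, i ≠ j → R.A i j ≠ 0 → (T i j).St := fun h h' =>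
    (hS.sub _).comap (hF.sub _) (t1 _ _) (RootSys.nb_sub h h')
  have s1 : ∀ {i j : Fin D.rank} {k}, k ∈ ({i, j} : Finset _) → R.InSub ({i, j} : Finset _) (R.simple k) :=
    RootSys.inSub_simple.2
  let C : (hc.stSys K).CT π := ⟨fun i => X (R.simple i), fun i => X (R.neg (R.simple i)), fun i => x1 (s1 (i := i) (j := i) (by simp)),
    fun i => x1 (RootSys.inSub_neg.2 (s1 (i := i) (j := i) (by simp))), hS.inj_of_adj hF hc.st_mult hO hC (hc.nb hD)
      (fun i => x1 (s1 (i := i) (j := i) (by simp))) (fun i => x1 (RootSys.inSub_neg.2 (s1 (i := i) (j := i) (by simp))))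
      (fun i j h h' g hg => (t2 h h').eq_one_of_sc (fun r t u ht hu => by
        have := x2 _ (.inr ⟨_, _, r.1, t, u, e1.2 r.2, ht, hu, rfl⟩)
        simp only [map_mul, map_inv, map_stH hc, mul_inv_eq_one] at this
        exact this.symm) (hF.sub _) (hO.sub _) (hC.sub _ hS hc.st_mult) (t1 i j) ((Subgroup.closure_le _).2 (by
          rintro _ ⟨k, hk, t, rfl | rfl⟩
          · exact (T i j).x_mem_U (Set.mem_univ ⟨_, s1 hk⟩) t
          · exact (T i j).x_mem_U (Set.mem_univ ⟨_, RootSys.inSub_neg.2 (s1 hk)⟩) t) hg))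
      fun i j h h' a ha b hb => by
        have key : ∀ {i k : Fin D.rank}, k ∈ ({i} : Finset _) → ∀ r, r = R.simple k ∨ r = R.neg (R.simple k) →
            R.InSub ({i} : Finset _) r := by
          rintro i k hk _ (rfl | rfl)
          exacts [RootSys.inSub_simple.2 hk, RootSys.inSub_neg.2 (RootSys.inSub_simple.2 hk)]
        have key' : ∀ {r s}, R.InSub ({i} : Finset _) r → R.InSub ({j} : Finset _) s → ∀ t u,
            X r t * X s u = X s u * X r t := fun hr hs =>
          (T i j).commute_of_cone (r := ⟨_, fun k hk => hr k (by simp_all)⟩) (s := ⟨_, fun k hk => hs k (by simp_all)⟩)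
            (fun e => (RootSys.cone_of_orth h h' hr hs).1 (congrArg Subtype.val e))
            (Set.image_eq_empty.1 ((RootSys.image_sub_cone _ _).trans (RootSys.cone_of_orth h h' hr hs).2))
        refine (Subgroup.closure_le (K := Subgroup.centralizer {a})).2 ?_ hb a rfl
        rintro b ⟨k, hk, t, hb⟩ _ rfl
        refine ((Subgroup.closure_le (K := Subgroup.centralizer {b})).2 ?_ ha b rfl).symm
        rintro a ⟨k', hk', t', ha⟩ _ rfl
        rcases ha with rfl | rfl <;> rcases hb with rfl | rfl <;>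
          exact (key' (key hk' _ (by simp)) (key hk _ (by simp)) _ _).symm⟩
  obtain ⟨φ, h1, h2⟩ := C.exists_section hS hF hc.st_mult hO hC hc.st_gen
  refine ⟨MonoidHom.toMulEquiv π φ (PresentedGroup.ext fun ⟨r, t⟩ => ?_) (MonoidHom.ext h1), fun i j r t h => ?_⟩
  · by_cases h : ∃ i j, D.InRankTwoSub i j r
    swap
    · have : X r t = 1 := x2 _ (.inl (.inl (.inl ⟨r, t, r.2, by simpa using h, (stX_coe r t).symm⟩)))
      show φ (π (X r t)) = X r t
      rw [this, map_one, map_one]
    obtain ⟨i, j, h⟩ := h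
    lift i to Fin D.rank using h.2.1
    lift j to Fin D.rank using h.2.2.1
    replace h := e1.1 h
    show φ (π (X r t)) = X r t
    rw [x1 h]
    rcases RootSys.inSub_two h with ⟨a, b⟩ | h | h
    · refine C.eq_of (i := i) (j := j) (hS.x_mem_of_simple (X := (C.A i j).comap φ) (fun k hk => ?_) (fun k hk t => ?_) h t)
        ((t2 a b).univ_le_of_simple (fun k => C.nn_mem k.2 1) (fun k => C.yp_mem k.2)
          ((T i j).x_mem_U (r := ⟨r, h⟩) (Set.mem_univ _) t)) (by rw [h1, x1 h])
      · simpa [PreSys.n, h2, PreSys.CT.nn] using C.nn_mem hk 1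
      · simpa [h2] using C.yp_mem hk t
    all_goals rcases RootSys.eq_of_inSub_one h with rfl | rfl
    exacts [(h2 _ t).1, (h2 _ t).2, (h2 _ t).1, (h2 _ t).2]
  · lift r to Fin D.nroots using h.1
    lift i to Fin D.rank using h.2.1
    lift j to Fin D.rank using h.2.2.1
    rw [stX_coe, ← hc.stSys_x]; exact x1 (e1.1 h) t

end Cfsg.Agent.S1164
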