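import Cfsg.Statements.S1167
import Cfsg.Agent.Lib.BN.ZassOdd

set_option autoImplicit false
open Cfsg

namespace Cfsg.Agent.S1167

open Cfsg.Lib.BN

/-- Let `G` be a finite simple Zassenhaus group on `Ω`, `U` a normal subgroup of `G_a` regular on `Ω` minus `a` which is an abelian 2-group, and `v` an involution with `v • a ≠ a`. Then there is a unique `u₀ ∈ U`, `u₀ ≠ 1`, with `v u₀ v = u₀ v u₀`. -/
theorem result {G Ω : Type*} [Group G] [Finite G] [MulAction G Ω] [Finite Ω]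
    (hZ : Cfsg.IsZassenhausGroup G Ω) [IsSimpleGroup G] {a : Ω}
    (U : Subgroup G) (hUle : U ≤ MulAction.stabilizer G a)
    (hUn : ∀ h ∈ MulAction.stabilizer G a, ∀ u ∈ U, h * u * h⁻¹ ∈ U)
    (hreg : ∀ c d : Ω, c ≠ a → d ≠ a → ∃! u : U, (u : G) • c = d)
    (hU2 : IsPGroup 2 U) (hUab : ∀ u ∈ U, ∀ u' ∈ U, u * u' = u' * u)
    (v : G) (hv1 : v ≠ 1) (hv2 : v * v = 1) (hva : v • a ≠ a) :
    ∃! u₀ : G, u₀ ∈ U ∧ u₀ ≠ 1 ∧ v * u₀ * v = u₀ * v * u₀ := by
  have z := z3_of_zass hZ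
  have hab : a ≠ v • a := hva.symm
  obtain rfl := z.eq_K_of_reg hUle hab hreg
  have hE := zass_E2_ne_bot hZ hab
  have he : Even (Nat.card (z.K a)) := by
    obtain ⟨n, hn⟩ := hU2.exists_card_eq
    rw [hn]
    refine (Nat.even_pow.2 ⟨even_two, fun e => z.K_ne_bot' hab hE ?_⟩)
    rwa [e, pow_zero, Subgroup.card_eq_one] at hn
  obtain ⟨s, r, H⟩ := z.exists_zo hab he hE (sw_of_mul_self hv2 a)
  have hc := zass_sharp_of_comm_even hZ z hab ⟨⟨fun x y => Subtype.ext (hUab _ x.2 _ y.2)⟩⟩ he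
  have h2 : ∀ x ∈ z.K a, x * x = 1 := by
    have h1 := H.card_invol
    have hpos : 0 < Nat.card (z.K a) := Nat.card_pos
    have h3 : Function.Bijective fun x : {x : G // x ∈ z.K a ∧ x * x = 1} => (⟨x.1, x.2.1⟩ : z.K a) := by
      refine (Nat.bijective_iff_injective_and_card _).2 ⟨fun x y e => Subtype.ext (Subtype.mk.inj e), by omega⟩
    intro x hx
    obtain ⟨y, e⟩ := h3.2 ⟨x, hx⟩
    obtain rfl : y.1 = x := congrArg Subtype.val e
    exact y.2.2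
  obtain rfl : r = s := (H.eq_or_five fun x hx => by rw [h2 x hx, one_mul]).resolve_right fun e =>
    H.s_ne (e.1.symm.trans (h2 r H.r_mem))
  refine ⟨r, ⟨H.r_mem, H.s_ne, H.eq.symm⟩, fun u ⟨hu, _, e⟩ => H.ext hu H.r_mem (by_contra fun hn => hv1 ?_)⟩
  refine z.eq_one_of_fix_two hab H.odd hv2 hn ?_ H.f_r
  simpa [mul_smul, z.K_fix hu] using congrArg (· • a) e

end Cfsg.Agent.S1167
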