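import Cfsg.Statements.S1176
import Cfsg.Agent.Lib.Invol.Closed
import Cfsg.Agent.Lib.Invol.Classes

set_option autoImplicit false
open Cfsg

namespace Cfsg.Agent.S1176
open Cfsg.Lib.Invol

open Subgroup
open scoped commutatorElement

/-- Let x₀ be an involution of the finite group G and D its conjugacy class. Assume (a) for each x ∈ D the subgroup W(x) generated by the members of D commuting with x is a 2-group of nilpotency class at most 2, and (b) the product of two distinct commuting members of D again lies in D. Then for all x, y ∈ D, if xy has even order greater than 2, its order is 4. -/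
theorem result {G : Type*} [Group G] [Finite G] (x₀ : G) (hx₀ : orderOf x₀ = 2) (ha : ∀ x : G, IsConj x₀ x → IsPGroup 2 ↥(Subgroup.closure {y : G | IsConj x₀ y ∧ Commute y x}) ∧ ⁅⁅Subgroup.closure {y : G | IsConj x₀ y ∧ Commute y x}, Subgroup.closure {y : G | IsConj x₀ y ∧ Commute y x}⁆, Subgroup.closure {y : G | IsConj x₀ y ∧ Commute y x}⁆ = ⊥) (hb : ∀ x y : G, IsConj x₀ x → IsConj x₀ y → x ≠ y → Commute x y → IsConj x₀ (x * y)) (x y : G) (hx : IsConj x₀ x) (hy : IsConj x₀ y) (heven : Even (orderOf (x * y))) (hgt : 2 < orderOf (x * y)) : orderOf (x * y) = 4 := by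
  have hx2 : orderOf x = 2 := by rw [← orderOf_of_isConj hx, hx₀]
  have hy2 : orderOf y = 2 := by rw [← orderOf_of_isConj hy, hx₀]
  have hxx := mul_self_of_two hx2
  have hyy := mul_self_of_two hy2
  obtain ⟨hz2, hzx, hzy⟩ := exists_central_of_even hxx hyy heven
  set z := (x * y) ^ (orderOf (x * y) / 2) with hz
  have h1 : IsConj x₀ (x * z) := by
    obtain ⟨j, h | h⟩ := exists_conj_left_mul_zpow hxx hyy ((orderOf (x * y) / 2 : ℕ) : ℤ)
    · rw [zpow_natCast] at h
      rw [← h.2]; exact hx.trans (isConj_conj _ _)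
    · rw [zpow_natCast] at h
      rw [← h.2]; exact hy.trans (isConj_conj _ _)
  have h2 : IsConj x₀ z := by
    have := hb x (x * z) hx h1 (fun e => ne_one_of_two hz2 (by simpa using e))
      ((Commute.refl x).mul_right hzx.symm)
    rwa [← mul_assoc, hxx, one_mul] at this
  obtain ⟨-, hc⟩ := ha z h2
  have hxW : x ∈ closure {y : G | IsConj x₀ y ∧ Commute y z} := subset_closure ⟨hx, hzx.symm⟩
  have hyW : y ∈ closure {y : G | IsConj x₀ y ∧ Commute y z} := subset_closure ⟨hy, hzy.symm⟩
  have h3 : ⁅⁅x, y⁆, x⁆ = 1 := by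
    rw [← mem_bot, ← hc]
    exact commutator_mem_commutator (commutator_mem_commutator hxW hyW) hxW
  have h4 : (x * y) ^ 4 = 1 := by
    rw [commutatorElement_def, commutatorElement_def] at h3
    simp only [mul_inv_rev, inv_of_two hx2, inv_of_two hy2] at h3
    have e : x * y * x * y * x * (y * (x * (y * x))) * x = (x * y) ^ 4 * (x * x) := by
      simp only [pow_succ, pow_zero, mul_assoc, one_mul]
    rwa [e, hxx, mul_one] at h3
  have h5 : orderOf (x * y) ∣ 2 ^ 2 := orderOf_dvd_of_pow_eq_one h4
  obtain ⟨k, hk, e⟩ := (Nat.dvd_prime_pow Nat.prime_two).mp h5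
  rw [e] at hgt ⊢
  interval_cases k <;> simp_all

end Cfsg.Agent.S1176
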