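import Cfsg.Statements.S1177
import Cfsg.Agent.Lib.Invol.Closed

set_option autoImplicit false
open Cfsg

namespace Cfsg.Agent.S1177
open Cfsg.Lib.Invol

open Cfsg.Lib.Transfer Subgroup

/-- Let A be a nontrivial elementary abelian 2-subgroup of a finite group G which is a T.I. set (each conjugate of A meets A trivially or equals A) and which does not commute elementwise with any conjugate of A other than A itself. Then for every a ∈ A, a ≠ 1, every conjugate of A contained in C_G(a) is equal to A (A is weakly closed in C_G(a)). -/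
theorem result {G : Type*} [Group G] [Finite G] (A : Subgroup G) (hA : Cfsg.IsElementaryAbelian 2 A) (hA1 : A ≠ ⊥) (hTI : ∀ g : G, A.map (MulAut.conj g).toMonoidHom ⊓ A = ⊥ ∨ A.map (MulAut.conj g).toMonoidHom = A) (hb : ∀ g : G, (∀ a ∈ A, ∀ b ∈ A.map (MulAut.conj g).toMonoidHom, a * b = b * a) → A.map (MulAut.conj g).toMonoidHom = A) (a : G) (ha : a ∈ A) (ha1 : a ≠ 1) (g : G) (hg : A.map (MulAut.conj g).toMonoidHom ≤ Subgroup.centralizer ({a} : Set G)) : A.map (MulAut.conj g).toMonoidHom = A := by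
  change cj g A = A
  change cj g A ≤ _ at hg
  by_contra hne
  have hTI' : ∀ h : G, ∀ x ∈ A, x ≠ 1 → x ∈ cj h A → cj h A = A := fun h x hx h1 hx' =>
    (hTI h).resolve_left fun e => h1 (by
      have : x ∈ cj h A ⊓ A := ⟨hx', hx⟩
      change cj h A ⊓ A = ⊥ at e
      rwa [e, mem_bot] at this)
  have hCA : ∀ x ∈ A, x ≠ 1 → ∀ c, Commute c x → c ∈ normalizer (A : Set G) := fun x hx h1 c hc =>
    cj_eq_iff.mp (hTI' c x hx h1 (by
      rw [mem_cj, mul_assoc, ← hc.eq, inv_mul_cancel_left]; exact hx))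
  have hCB : ∀ y ∈ cj g A, y ≠ 1 → ∀ c, Commute c y → c ∈ normalizer (cj g A : Set G) := by
    intro y hy h1 c hc
    rw [← cj_normalizer, mem_cj]
    refine hCA _ (mem_cj.mp hy) (fun e => h1 (by
      have : y = g * (g⁻¹ * y * g) * g⁻¹ := by group
      rw [this, e]; group)) _ ?_
    have := commute_conj g⁻¹ hc
    simpa using this
  have hBA : ∀ y ∈ cj g A, y ∈ normalizer (A : Set G) := fun y hy =>
    hCA a ha ha1 y (mem_cent.mp (hg hy))
  have hdisj : ∀ x ∈ A, x ∈ cj g A → x = 1 := fun x hx hx' => by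
    by_contra h1; exact hne (hTI' g x hx h1 hx')
  -- elements of `A` commuting with one non-trivial element of `B` commute with `B`
  have key : ∀ x ∈ A, ∀ y ∈ cj g A, y ≠ 1 → Commute x y → ∀ z ∈ cj g A, Commute x z := by
    intro x hx y hy h1 hc z hz
    have h2 := hCB y hy h1 x hc
    have h3 : x * z * x⁻¹ * z⁻¹ = 1 := hdisj _
      (by
        have : x * z * x⁻¹ * z⁻¹ = x * (z * x⁻¹ * z⁻¹) := by group
        rw [this]
        exact A.mul_mem hx (conj_mem_of_mem_normalizer (hBA z hz) (A.inv_mem hx)))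
      (mul_mem (conj_mem_of_mem_normalizer h2 hz) (inv_mem hz))
    calc x * z = (x * z * x⁻¹ * z⁻¹) * (z * x) := by group
      _ = z * x := by rw [h3, one_mul]
  have hex : ∃ x ∈ A, ∃ z ∈ cj g A, ¬ Commute x z := by
    by_contra hall
    push Not at hall
    exact hne (hb g fun x hx z hz => (hall x hx z hz).eq)
  obtain ⟨x, hx, z, hz, hxz⟩ := hex
  have hmem : ∀ y ∈ cj g A, x * y * x⁻¹ * y⁻¹ ∈ A := fun y hy => by
    have : x * y * x⁻¹ * y⁻¹ = x * (y * x⁻¹ * y⁻¹) := by group
    rw [this]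
    exact A.mul_mem hx (conj_mem_of_mem_normalizer (hBA y hy) (A.inv_mem hx))
  have hsq : ∀ y ∈ cj g A, y * y = 1 := fun y hy => by
    have := hA.2 _ (mem_cj.mp hy)
    have e : y * y = g * ((g⁻¹ * y * g) ^ 2) * g⁻¹ := by rw [sq]; group
    rw [e, this]; group
  obtain ⟨y, hy, hxy⟩ := surj_of_inj_of_card_le (p := fun y => y ∈ cj g A) (q := fun y => y ∈ A)
    (fun y => x * y * x⁻¹ * y⁻¹) hmem (by
      intro y y' hy hy' e
      by_contra hyy
      have h1 : y'⁻¹ * y ≠ 1 := fun e => hyy (by rw [inv_mul_eq_one] at e; exact e.symm)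
      refine hxz (key x hx _ (mul_mem (inv_mem hy') hy) h1 ?_ z hz)
      have e' : y * x⁻¹ * y⁻¹ = y' * x⁻¹ * y'⁻¹ := by
        have : x * (y * x⁻¹ * y⁻¹) = x * (y' * x⁻¹ * y'⁻¹) := by
          simpa [mul_assoc] using e
        exact mul_left_cancel this
      have : Commute x⁻¹ (y'⁻¹ * y) := by
        calc x⁻¹ * (y'⁻¹ * y) = y'⁻¹ * (y' * x⁻¹ * y'⁻¹) * y := by group
          _ = y'⁻¹ * (y * x⁻¹ * y⁻¹) * y := by rw [e']
          _ = y'⁻¹ * y * x⁻¹ := by group
      simpa using this.inv_left) (card_cj g A).ge x hx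
  have hxy' : y * x⁻¹ * y⁻¹ = 1 := by
    have : x * (y * x⁻¹ * y⁻¹) = x * 1 := by simpa [mul_assoc] using hxy
    exact mul_left_cancel this
  have : x = 1 := by
    have e : x = (y⁻¹ * (y * x⁻¹ * y⁻¹) * y)⁻¹ := by group
    rw [e, hxy']; group
  exact hxz (by rw [this]; exact Commute.one_left z)

end Cfsg.Agent.S1177
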