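import Cfsg.Statements.S1181
import Cfsg.Agent.Lib.Invol.Isolated

set_option autoImplicit false
open Cfsg

namespace Cfsg.Agent.S1181
open Cfsg.Lib.Invol


/-- Let z be an isolated involution of the finite group G and N a normal subgroup with z ∉ N. Then the centralizer of zN in G/N is the image of C_G(z), and zN is an isolated involution of G/N. -/
theorem result {G : Type*} [Group G] [Finite G] (z : G) (hz : Cfsg.IsIsolatedInvolution z) (N : Subgroup G) [N.Normal] (hzN : z ∉ N) : Subgroup.centralizer ({(QuotientGroup.mk z : G ⧸ N)} : Set (G ⧸ N)) = (Subgroup.centralizer ({z} : Set G)).map (QuotientGroup.mk' N) ∧ Cfsg.IsIsolatedInvolution (QuotientGroup.mk z : G ⧸ N) := by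
  have hz2 : orderOf (QuotientGroup.mk z : G ⧸ N) = 2 := two_of_mul_self
    (by rw [← QuotientGroup.mk_mul, mul_self_of_two hz.1, QuotientGroup.mk_one])
    (fun h => hzN ((QuotientGroup.eq_one_iff z).mp h))
  refine ⟨le_antisymm (fun q hq => ?_) ?_, hz2, fun q hq => ?_⟩
  · obtain ⟨g, rfl⟩ := QuotientGroup.mk_surjective q
    obtain ⟨k, hk, -, -, hkz⟩ := isolated_exists_inverted hz g
    have hkN : k ∈ N := by
      refine (Subgroup.zpowers_le.mpr ?_ : _ ≤ N) hk
      rw [← QuotientGroup.eq_one_iff]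
      simp only [QuotientGroup.mk_mul, QuotientGroup.mk_inv]
      rw [(mem_cent.mp hq).eq, mul_inv_cancel_right, mul_self_of_two hz2]
    refine ⟨k⁻¹ * g, mem_cent.mpr ?_, ?_⟩
    · calc k⁻¹ * g * z = k⁻¹ * (g * z * g⁻¹) * g := by group
        _ = z * (k⁻¹ * g) := by rw [← hkz]; group
    · simp [(QuotientGroup.eq_one_iff k).mpr hkN]
  · rintro _ ⟨c, hc, rfl⟩
    exact mem_cent.mpr ((mem_cent.mp hc).map (QuotientGroup.mk' N))
  · obtain ⟨g, rfl⟩ := QuotientGroup.mk_surjective q
    have hodd := isolated_odd_mul hz (isConj_conj g z)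
    have h1 : Odd (orderOf ((z : G ⧸ N) * (g * z * (g : G ⧸ N)⁻¹))) :=
      Odd.of_dvd_nat hodd (orderOf_map_dvd (QuotientGroup.mk' N) _)
    have h2 := mul_self_of_two ((orderOf_conj (g : G ⧸ N) z).trans hz2)
    have h3 := eq_one_of_odd_of_inv h1 (inv_eq_of_mul_eq_one_right (by
      rw [hq.symm.mul_mul_mul_comm, mul_self_of_two hz2, h2, one_mul]))
    rw [eq_inv_of_mul_eq_one_right h3, inv_of_two hz2]

end Cfsg.Agent.S1181
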