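import Cfsg.Statements.S1182
import Cfsg.Agent.Lib.Invol.Isolated

set_option autoImplicit false
open Cfsg

namespace Cfsg.Agent.S1182
open Cfsg.Lib.Invol


/-- Let z be an isolated involution of the finite group G and H a subgroup normalized by z. If x, y ∈ H both commute with z and y = h x h⁻¹ for some h ∈ H, then y = c x c⁻¹ for some c ∈ H commuting with z. -/
theorem result {G : Type*} [Group G] [Finite G] (z : G) (hz : Cfsg.IsIsolatedInvolution z) (H : Subgroup G) (hzH : z ∈ Subgroup.normalizer (H : Set G)) (x y : G) (hx : x ∈ H) (hy : y ∈ H) (hxz : Commute x z) (hyz : Commute y z) (h : G) (hh : h ∈ H) (hconj : h * x * h⁻¹ = y) : ∃ c ∈ H, Commute c z ∧ c * x * c⁻¹ = y := by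
  obtain ⟨k, hk, -, -, hkz⟩ := isolated_exists_inverted hz h
  have hkH : k ∈ H := by
    refine (Subgroup.zpowers_le.mpr ?_ : _ ≤ H) hk
    have := H.mul_mem hh ((Subgroup.mem_normalizer_iff.mp hzH _).mp (H.inv_mem hh))
    rw [inv_of_two hz.1] at this
    simpa [mul_assoc] using this
  have hky : Commute k y := by
    obtain ⟨j, rfl⟩ := hk
    refine Commute.zpow_left (Commute.mul_left ?_ hyz.symm) j
    rw [← hconj]; exact commute_conj h hxz.symm
  refine ⟨k⁻¹ * h, H.mul_mem (H.inv_mem hkH) hh, ?_, ?_⟩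
  · calc k⁻¹ * h * z = k⁻¹ * (h * z * h⁻¹) * h := by group
      _ = z * (k⁻¹ * h) := by rw [← hkz]; group
  · calc k⁻¹ * h * x * (k⁻¹ * h)⁻¹ = k⁻¹ * (h * x * h⁻¹) * k := by group
      _ = y := by rw [hconj, mul_assoc, ← hky.eq, inv_mul_cancel_left]

end Cfsg.Agent.S1182
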