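import Cfsg.Statements.S1183
import Cfsg.Agent.Lib.Invol.Isolated
import Cfsg.Agent.Lib.Invol.Focal
import Cfsg.Agent.S1182

set_option autoImplicit false
open Cfsg

namespace Cfsg.Agent.S1183
open Cfsg.Lib.Invol


/-- Let z be an isolated involution of the finite group G and C = C_G(z). Then the subgroup of G generated by its elements of odd order is all of G if and only if the subgroup of C generated by its elements of odd order is all of C. -/
theorem result {G : Type*} [Group G] [Finite G] (z : G) (hz : Cfsg.IsIsolatedInvolution z) : Cfsg.pResidual 2 G = ⊤ ↔ Cfsg.pResidual 2 ↥(Subgroup.centralizer ({z} : Set G)) = ⊤ := by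
  have := fact_two
  obtain ⟨P, hP⟩ := (isPGroup_zpowers_two hz.1).exists_le_sylow
  have hzP : z ∈ P := hP (Subgroup.mem_zpowers z)
  have hPC : (P : Subgroup G) ≤ Subgroup.centralizer ({z} : Set G) :=
    fun x hx => mem_cent.mpr (isolated_commute_of_mem_two_group hz P.2 hzP hx)
  rw [pResidual_two_eq_top_iff, pResidual_two_eq_top_iff, no_index_two_iff_focal P,
    no_index_two_iff_le_commutator (P.subtype hPC)]
  constructor
  · intro h x hx
    have h1 : (P : Subgroup G).focalSubgroup ≤
        (commutator (Subgroup.centralizer ({z} : Set G))).map (Subgroup.subtype _) := by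
      refine focalSubgroup_le_of fun x hx g hg => ?_
      obtain ⟨c, -, hcz, hc⟩ := Cfsg.Agent.S1182.result z hz ⊤ (Subgroup.le_normalizer (Subgroup.mem_top z)) x _ trivial trivial
        (mem_cent.mp (hPC hx)) (mem_cent.mp (hPC hg)) g trivial rfl
      refine ⟨_, Subgroup.commutator_mem_commutator (Subgroup.mem_top ⟨x, hPC hx⟩⁻¹)
        (Subgroup.mem_top ⟨c, mem_cent.mpr hcz⟩), ?_⟩
      rw [← hc, commutatorElement_def]
      simp [mul_assoc]
    obtain ⟨y, hy, hyx⟩ := h1 (h hx)
    rwa [← Subtype.ext hyx]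
  · intro h x hx
    rw [← Subgroup.commutator_inf_eq_focalSubgroup]
    refine ⟨?_, hx⟩
    have h1 := h (x := ⟨x, hPC hx⟩) hx
    have h2 := Subgroup.map_commutator ⊤ ⊤ (Subgroup.centralizer ({z} : Set G)).subtype
    have h3 : x ∈ Subgroup.map (Subgroup.centralizer ({z} : Set G)).subtype ⁅⊤, ⊤⁆ := ⟨_, h1, rfl⟩
    rw [h2] at h3
    exact Subgroup.commutator_mono le_top le_top h3

end Cfsg.Agent.S1183
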