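import Cfsg.Statements.S1184
import Cfsg.Agent.Lib.Invol.Isolated

set_option autoImplicit false
open Cfsg

namespace Cfsg.Agent.S1184
open Cfsg.Lib.Invol


/-- Let z be an isolated involution of the finite group G. If s and t are distinct conjugates of z, then st does not commute with z. -/
theorem result {G : Type*} [Group G] [Finite G] (z : G) (hz : Cfsg.IsIsolatedInvolution z) (g h : G) (hne : g * z * g⁻¹ ≠ h * z * h⁻¹) : ¬ Commute (g * z * g⁻¹ * (h * z * h⁻¹)) z := by
  intro hc
  have hg := (orderOf_conj g z).trans hz.1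
  have hh := (orderOf_conj h z).trans hz.1
  have hodd := isolated_odd_mul' hz (isConj_conj g z) (isConj_conj h z)
  have hodd2 := isolated_odd_mul' hz (IsConj.refl z) (isConj_conj g z)
  have hinv := left_inverts (mul_self_of_two hg) (mul_self_of_two hh)
  generalize g * z * g⁻¹ = s at *
  generalize h * z * h⁻¹ = t at *
  obtain ⟨m, hm⟩ := exists_conj_of_odd (mul_self_of_two hz.1) (mul_self_of_two hg) hodd2
  -- `z` centralises `w = st`, `s` inverts it, and `s` is conjugate to `z` in `⟨z, s⟩`
  have h1 : s * t = 1 := by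
    generalize s * t = w at *
    have h3 : (z * s) * w * (z * s)⁻¹ = w⁻¹ := by
      calc (z * s) * w * (z * s)⁻¹ = z * (s * w * s⁻¹) * z⁻¹ := by group
        _ = w⁻¹ := by rw [hinv, hc.symm.inv_right.eq, mul_inv_cancel_right]
    obtain ⟨n, hn⟩ := hodd2
    have h4 : ∀ k : ℕ, (z * s) ^ (2 * k + 1) * w * ((z * s) ^ (2 * k + 1))⁻¹ = w⁻¹ := by
      intro k
      induction k with
      | zero => simpa using h3
      | succ k ih =>
        have h5 : (z * s) * w⁻¹ * (z * s)⁻¹ = w := by
          rw [show (z * s) * w⁻¹ * (z * s)⁻¹ = ((z * s) * w * (z * s)⁻¹)⁻¹ by group, h3, inv_inv]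
        generalize z * s = r at *
        calc r ^ (2 * (k + 1) + 1) * w * (r ^ (2 * (k + 1) + 1))⁻¹
            = r * (r * (r ^ (2 * k + 1) * w * (r ^ (2 * k + 1))⁻¹) * r⁻¹) * r⁻¹ := by group
          _ = w⁻¹ := by rw [ih, h5, h3]
    have h6 := h4 n
    rw [← hn, pow_orderOf_eq_one, one_mul, inv_one, mul_one] at h6
    exact eq_one_of_odd_of_inv hodd h6.symm
  exact hne (by rw [eq_inv_of_mul_eq_one_left h1, inv_of_two hh])

end Cfsg.Agent.S1184
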