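import Cfsg.Statements.S1186
import Cfsg.Agent.Lib.Invol.Isolated
import Cfsg.Agent.Lib.Invol.Count
import Cfsg.Agent.S0229

set_option autoImplicit false
open Cfsg

namespace Cfsg.Agent.S1186
open Cfsg.Lib.Invol

theorem conj_eq {G : Type*} [Group G] {z k : G} (hk : z * k * z⁻¹ = k⁻¹) :
    k * z * k⁻¹ = z * (k * k)⁻¹ := by
  have : z⁻¹ * k * z = k⁻¹ := by
    have h1 : z * k⁻¹ * z⁻¹ = k := by
      rw [show z * k⁻¹ * z⁻¹ = (z * k * z⁻¹)⁻¹ by group, hk, inv_inv]
    calc z⁻¹ * k * z = z⁻¹ * (z * k⁻¹ * z⁻¹) * z := by rw [h1]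
      _ = _ := by group
  calc k * z * k⁻¹ = z * (z⁻¹ * k * z) * k⁻¹ := by group
    _ = _ := by rw [this]; group

theorem mem_zpowers_mul {G : Type*} [Group G] {w k : G} (hw : orderOf w = 2)
    (hk : Odd (orderOf k)) (h : Commute w k) : w ∈ Subgroup.zpowers (w * k) := by
  refine ⟨(orderOf k : ℕ), ?_⟩
  obtain ⟨m, hm⟩ := hk
  simp only [zpow_natCast]
  rw [h.mul_pow, pow_orderOf_eq_one, mul_one, hm, pow_succ, pow_mul, sq_of_two hw, one_pow, one_mul]

/-- Let z be an isolated involution of the finite group G, C = C_G(z), K the set of elements of odd order inverted by z, and s an involution of C. Then |G| = |C| · |C_K(sz)| · |C_K(s)|. -/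
theorem result {G : Type*} [Group G] [Finite G] (z : G) (hz : Cfsg.IsIsolatedInvolution z) (s : G) (hs : orderOf s = 2) (hsz : Commute s z) : Nat.card G = Nat.card (Subgroup.centralizer ({z} : Set G)) * Nat.card {k : G // Odd (orderOf k) ∧ z * k * z⁻¹ = k⁻¹ ∧ Commute k (s * z)} * Nat.card {k : G // Odd (orderOf k) ∧ z * k * z⁻¹ = k⁻¹ ∧ Commute k s} := by
  have hK : Nat.card {y : G // IsConj z y} =
      Nat.card {k : G // Odd (orderOf k) ∧ z * k * z⁻¹ = k⁻¹} := by
    symm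
    refine card_eq_of_bij (fun k => k * z * k⁻¹) (fun k _ => isConj_conj k z)
      (fun k l hk hl h => inverted_unique hk.1 hl.1 hk.2 hl.2 h) (fun y hy => ?_)
    obtain ⟨g, rfl⟩ := isConj_iff.mp hy
    obtain ⟨k, -, h1, h2, h3⟩ := isolated_exists_inverted hz g
    exact ⟨k, ⟨h1, h2⟩, h3⟩
  rw [← card_isConj_mul z, mul_comm, mul_assoc]
  congr 1
  by_cases hsz' : s = z
  · subst hsz'
    rw [hK, mul_self_of_two hs]
    have h1 : Nat.card {k : G // Odd (orderOf k) ∧ s * k * s⁻¹ = k⁻¹ ∧ Commute k s} = 1 := by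
      rw [← card_eq_self (1 : G)]
      refine card_congr_iff fun k => ⟨fun h => eq_one_of_odd_of_inv h.1 ?_, ?_⟩
      · rw [← h.2.1, ← h.2.2.eq, mul_inv_cancel_right]
      · rintro rfl; simp
    rw [h1, mul_one]
    exact card_congr_iff fun k => by simp
  have hw : orderOf (s * z) = 2 := two_of_mul_self
    (by rw [hsz.symm.mul_mul_mul_comm, mul_self_of_two hs, mul_self_of_two hz.1, one_mul])
    (fun h => hsz' (by rw [eq_inv_of_mul_eq_one_left h, inv_of_two hz.1]))
  have hnc : ¬ IsConj z s := fun h => hsz' (isolated_eq_of_commute hz h hsz.symm)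
  rw [mul_comm, ← card_prod_and]
  symm
  -- the involution in `⟨s u⟩` for `u = a b z b⁻¹ a⁻¹`
  have key : ∀ a b : G, Commute a s → Odd (orderOf b) → z * b * z⁻¹ = b⁻¹ → Commute b (s * z) →
      s * (a * z * a⁻¹) ∈ Subgroup.zpowers (s * ((a * b) * z * (a * b)⁻¹)) := by
    intro a b ha hb hb' hb''
    have h1 := mem_zpowers_mul hw (k := (b * b)⁻¹)
      (by rw [orderOf_inv, ← sq]; exact odd_orderOf_pow hb 2) (hb''.mul_left hb'').inv_left.symm
    obtain ⟨j, hj⟩ := h1
    refine ⟨j, ?_⟩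
    have e1 : s * ((a * b) * z * (a * b)⁻¹) = a * (s * z * (b * b)⁻¹) * a⁻¹ := by
      calc s * ((a * b) * z * (a * b)⁻¹) = (s * a) * (b * z * b⁻¹) * a⁻¹ := by group
        _ = _ := by rw [← ha.eq, conj_eq hb']; group
    simp only at hj ⊢
    rw [e1, conj_zpow, hj, ← mul_assoc, ← mul_assoc, ← mul_assoc, ha.eq]
  have hinv : ∀ a : G, Commute a s → orderOf (s * (a * z * a⁻¹)) = 2 := by
    intro a ha
    have : s * (a * z * a⁻¹) = a * (s * z) * a⁻¹ := by
      rw [← mul_assoc, ← mul_assoc, ← mul_assoc, ha.eq]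
    rw [this, orderOf_conj, hw]
  refine card_eq_of_bij (fun x => (x.1 * x.2) * z * (x.1 * x.2)⁻¹) (fun x _ => isConj_conj _ z)
    ?_ ?_
  · rintro ⟨a, b⟩ ⟨a', b'⟩ ⟨ha, hb⟩ ⟨ha', hb'⟩ h
    simp only at ha hb ha' hb' h
    have h1 := key a b ha.2.2 hb.1 hb.2.1 hb.2.2
    have h2 := key a' b' ha'.2.2 hb'.1 hb'.2.1 hb'.2.2
    rw [h] at h1
    have h3 := mul_left_cancel (eq_of_mem_zpowers h1 h2 (hinv a ha.2.2) (hinv a' ha'.2.2))
    have h4 := inverted_unique ha.1 ha'.1 ha.2.1 ha'.2.1 h3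
    subst h4
    have h5 : b * z * b⁻¹ = b' * z * b'⁻¹ := by
      calc b * z * b⁻¹ = a⁻¹ * (a * b * z * (a * b)⁻¹) * a := by group
        _ = _ := by rw [h]; group
    rw [inverted_unique hb.1 hb'.1 hb.2.1 hb'.2.1 h5]
  · intro u hu
    have hu2 : orderOf u = 2 := (orderOf_of_isConj hu).symm.trans hz.1
    have hui := isolated_of_isConj hz hu
    have hs2 := mul_self_of_two hs
    have hu3 := mul_self_of_two hu2
    have heven : Even (orderOf (u * s)) := by
      by_contra hc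
      exact hnc (hu.trans (isConj_of_odd hu3 hs2 (Nat.not_even_iff_odd.mp hc)))
    obtain ⟨hw2, hwu, hws⟩ := exists_central_of_even hu3 hs2 heven
    set m := orderOf (u * s) / 2
    have hsu : s * u = (u * s)⁻¹ := by rw [mul_inv_rev, inv_of_two hs, inv_of_two hu2]
    -- `v = s w` is conjugate to `u`
    have hv : IsConj u (s * (u * s) ^ m) := by
      obtain ⟨j, ⟨_, hj⟩ | ⟨ho, hj⟩⟩ := exists_conj_left_mul_zpow hu3 hs2 (m : ℤ)
      · rw [zpow_natCast] at hj
        have := isolated_eq_of_commute hui (isConj_iff.mpr ⟨_, hj⟩)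
          ((Commute.refl u).mul_right hwu.symm)
        exact absurd (by simpa using this) (ne_one_of_two hw2)
      · obtain ⟨j, ⟨he, _⟩ | ⟨_, hj⟩⟩ := exists_conj_left_mul_zpow hs2 hu3 (m : ℤ)
        · exact absurd ho (Int.not_odd_iff_even.mpr he)
        · refine isConj_iff.mpr ⟨_, hj.trans ?_⟩
          rw [zpow_natCast, hsu, inv_pow, inv_of_two hw2]
    generalize (u * s) ^ m = w at *
    obtain ⟨g, hg⟩ := isConj_iff.mp (hu.trans hv)
    obtain ⟨a, ha, ha1, ha2, ha3⟩ := isolated_exists_inverted hz g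
    rw [hg] at ha ha3
    have has : Commute a s := by
      obtain ⟨j, rfl⟩ := ha
      exact (((Commute.refl s).mul_left hws).mul_left hsz.symm).zpow_left j
    obtain ⟨h, hh⟩ := isConj_iff.mp (hu.trans (isConj_conj a⁻¹ u))
    obtain ⟨b, hb, hb1, hb2, hb3⟩ := isolated_exists_inverted hz h
    rw [hh] at hb hb3
    have e : a⁻¹ * w * a⁻¹⁻¹ = s * z := by
      have : w = s * (a * z * a⁻¹) := by rw [ha3, ← mul_assoc, hs2, one_mul]
      rw [this, ← mul_assoc, ← mul_assoc, ← mul_assoc, has.inv_left.eq]; group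
    have hbs : Commute b (s * z) := by
      obtain ⟨j, rfl⟩ := hb
      refine (Commute.mul_left ?_ (hsz.symm.mul_right (Commute.refl z))).zpow_left j
      rw [← e]; exact commute_conj _ hwu.symm
    refine ⟨(a, b), ⟨⟨ha1, ha2, has⟩, hb1, hb2, hbs⟩, ?_⟩
    calc a * b * z * (a * b)⁻¹ = a * (b * z * b⁻¹) * a⁻¹ := by group
      _ = u := by rw [hb3]; group

end Cfsg.Agent.S1186
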