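import Cfsg.Statements.S1187
import Cfsg.Agent.Lib.Block.IsoElt
import Cfsg.Agent.Lib.Coprime.Sylow

set_option autoImplicit false
open Cfsg Cfsg.Lib Cfsg.Lib.Invol Cfsg.Lib.Transfer Subgroup

namespace Cfsg.Agent.S1187

theorem aux {G : Type*} [Group G] [Finite G] {z : G} (hz : IsIsolatedInvolution z) {p : ℕ} [hp : Fact p.Prime] {Q : Subgroup G}
    (hQ : IsPGroup p Q) (hzQ : z ∈ normalizer (Q : Set G)) : ∃ P, SylowIn p P ⊤ ∧ Q ≤ P ∧ z ∈ normalizer (P : Set G) := by
  rcases hp.out.eq_two_or_odd' with rfl | h2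
  · obtain ⟨P, h1, h2⟩ := exists_sylowIn_ge (isPGroup_sup_zpowers (k := 1) hQ ((sq z).trans (mul_self_of_two hz.1)) hzQ) le_top
    exact ⟨P, h2, le_sup_left.trans h1, le_normalizer (h1 (mem_sup_right (mem_zpowers z)))⟩
  obtain ⟨P, h1, h3⟩ := exists_sylowIn_ge hQ le_top
  have : (oddCore G).Normal := inferInstance
  obtain ⟨k, hk⟩ := h3.2.exists_card_eq
  obtain ⟨R, h4, h5, h6⟩ := Coprime.exists_invariant_sylowIn_ge (A := zpowers z) (K := oddCore G ⊔ P)
    (zpowers_le.2 (Core.mem_normalizer_of_conj_mem fun x hx => by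
      simpa using mul_mem (mem_sup_left (Block.z_star hz x)) hx))
    (by
      rw [Nat.card_zpowers, hz.1, Nat.coprime_two_left]
      exact ((Nat.odd_iff.2 (Nat.two_dvd_ne_zero.1 (Core.not_dvd_card_pPrimeCore Nat.prime_two))).mul
        (hk ▸ h2.pow)).of_dvd_nat (Core.card_sup_dvd' le_normalizer_of_normal))
    (Or.inl (Coprime.isSolvable_zpowers z)) (h1.trans le_sup_right) hQ (zpowers_le.2 hzQ)
  exact ⟨R, h3.of_card_le le_top h4.2 (h4.card_le h3.2 le_sup_right), h5, zpowers_le.1 h6⟩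

/-- Let z be an isolated involution of the finite group G and p a prime. If Q is a p-subgroup normalized by z that is maximal among p-subgroups normalized by z, then Q is a Sylow p-subgroup of G. -/
theorem result {G : Type*} [Group G] [Finite G] (z : G) (hz : Cfsg.IsIsolatedInvolution z) {p : ℕ} [Fact p.Prime] (Q : Subgroup G) (hQ : IsPGroup p Q) (hzQ : z ∈ Subgroup.normalizer (Q : Set G)) (hmax : ∀ R : Subgroup G, IsPGroup p R → z ∈ Subgroup.normalizer (R : Set G) → Q ≤ R → R = Q) : ∃ P : Sylow p G, (P : Subgroup G) = Q := by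
  obtain ⟨P, h1, h2, h3⟩ := aux hz hQ hzQ
  exact hmax P h1.2 h3 h2 ▸ h1.exists_sylow_top

end Cfsg.Agent.S1187
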