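import Cfsg.Statements.S1224
import Cfsg.Agent.Lib.Invol.Strong

set_option autoImplicit false
open Cfsg

namespace Cfsg.Agent.S1224
open Cfsg.Lib.Invol


/-- Let H be a strongly embedded subgroup of the finite group G and x ≠ y two cosets in G/H. Then the number of involutions i of G with i • x = y equals the number of involutions lying in H. -/
theorem result {G : Type*} [Group G] [Finite G] (H : Subgroup G) (hH : Cfsg.IsStronglyEmbedded H) (x y : G ⧸ H) (hxy : x ≠ y) : Nat.card {i : G // orderOf i = 2 ∧ i • x = y} = Nat.card {t : G // orderOf t = 2 ∧ t ∈ H} := by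
  obtain ⟨a, rfl⟩ := QuotientGroup.mk_surjective x
  obtain ⟨b, rfl⟩ := QuotientGroup.mk_surjective y
  rw [← se_coset_card hH ((a⁻¹ * b : G) : G ⧸ H)]
  refine card_eq_of_inverse (fun i => a⁻¹ * i * a) (fun i => a * i * a⁻¹) ?_ ?_
    (fun _ _ => by group) (fun _ _ => by group)
  · rintro i ⟨hi, hia⟩
    refine ⟨(orderOf_conj' a i).trans hi, ?_⟩
    rw [MulAction.Quotient.smul_coe, QuotientGroup.eq] at hia
    rw [QuotientGroup.eq]
    simpa [mul_assoc] using hia
  · rintro i ⟨hi, hia⟩
    refine ⟨(orderOf_conj a i).trans hi, ?_⟩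
    rw [MulAction.Quotient.smul_coe, QuotientGroup.eq]
    rw [QuotientGroup.eq] at hia
    simpa [mul_assoc] using hia

end Cfsg.Agent.S1224
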