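import Cfsg.Statements.S1229
import Cfsg.Agent.Lib.Invol.RankOne

set_option autoImplicit false
open Cfsg

namespace Cfsg.Agent.S1229
open Cfsg.Lib.Invol

open Subgroup Cfsg.Lib.Transfer

/-- Let G be a finite group with a Sylow 2-subgroup T that is neither cyclic nor normal, such that the centralizer of every involution is an elementary abelian 2-group; put H = N_G(T) and X = G/H. Then G is triply transitive on X, an element fixing three distinct points of X is the identity, and T acts regularly on X minus the point H. -/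
theorem result {G : Type*} [Group G] [Finite G] (T : Sylow 2 G) (hnc : ¬ IsCyclic (T : Subgroup G)) (hnn : ¬ (T : Subgroup G).Normal) (hC : ∀ t : G, orderOf t = 2 → IsMulCommutative (Subgroup.centralizer ({t} : Set G)) ∧ ∀ c ∈ Subgroup.centralizer ({t} : Set G), c ^ 2 = 1) : (∀ x₁ x₂ x₃ y₁ y₂ y₃ : G ⧸ Subgroup.normalizer ((T : Subgroup G) : Set G), x₁ ≠ x₂ → x₁ ≠ x₃ → x₂ ≠ x₃ → y₁ ≠ y₂ → y₁ ≠ y₃ → y₂ ≠ y₃ → ∃ g : G, g • x₁ = y₁ ∧ g • x₂ = y₂ ∧ g • x₃ = y₃) ∧ (∀ g : G, ∀ x₁ x₂ x₃ : G ⧸ Subgroup.normalizer ((T : Subgroup G) : Set G), x₁ ≠ x₂ → x₁ ≠ x₃ → x₂ ≠ x₃ → g • x₁ = x₁ → g • x₂ = x₂ → g • x₃ = x₃ → g = 1) ∧ (∀ x y : G ⧸ Subgroup.normalizer ((T : Subgroup G) : Set G), x ≠ QuotientGroup.mk 1 → y ≠ QuotientGroup.mk 1 → ∃! t : G, t ∈ T ∧ t • x = y) := by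
  have h := eac_rankOne T hnc hC hnn
  have hE := eac_elem T hnc hC
  set H := normalizer ((T : Subgroup G) : Set G) with hH
  obtain ⟨u, huH, hu⟩ := se_exists_two_not_mem h.se
  have third : ∀ y : G ⧸ H, y ≠ ((1 : G) : G ⧸ H) → y ≠ (u : G ⧸ H) →
      ∃ t ∈ T, t ≠ 1 ∧ y = ((t * u : G) : G ⧸ H) := by
    intro y h1 h2
    obtain ⟨y, rfl⟩ := QuotientGroup.mk_surjective y
    obtain ⟨t, ht, e⟩ := h.exists_mem_trans huH (y := y) fun e =>
      h1 (QuotientGroup.eq.mpr (by simpa using e))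
    exact ⟨t, ht, fun e1 => h2 (QuotientGroup.eq.mpr (by simpa [e1] using e)),
      QuotientGroup.eq.mpr e⟩
  obtain ⟨⟨s, hs⟩, hs1⟩ := ne_bot_iff_exists_ne_one.mp
    (show (T : Subgroup G) ≠ ⊥ from fun e => hnc (e ▸ inferInstance))
  have hs1' : s ≠ 1 := fun e => hs1 (Subtype.ext e)
  have base : ∀ x₁ x₂ x₃ : G ⧸ H, x₁ ≠ x₂ → x₁ ≠ x₃ → x₂ ≠ x₃ → ∃ g : G,
      g • x₁ = ((1 : G) : G ⧸ H) ∧ g • x₂ = (u : G ⧸ H) ∧ g • x₃ = ((s * u : G) : G ⧸ H) := by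
    intro x₁ x₂ x₃ h12 h13 h23
    obtain ⟨g, h1, h2⟩ := h.two_trans h12 huH
    obtain ⟨t, ht, ht1, e⟩ := third (g • x₃)
      (fun e => h13 (MulAction.injective g (h1.trans e.symm)))
      (fun e => h23 (MulAction.injective g (h2.trans e.symm)))
    obtain ⟨d, hd, hdu, hds⟩ := se_exists_inverted_conj h.se hu huH (two_of_sq (hE.2 t ht) ht1)
      (h.le ht) (two_of_sq (hE.2 s hs) hs1') (h.le hs)
    have hd' : u⁻¹ * d * u ∈ H := by
      rw [inv_of_two hu] at hdu ⊢; rw [hdu]; exact inv_mem hd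
    refine ⟨d * g, ?_, ?_, ?_⟩
    · rw [mul_smul, h1, smul_mk_eq_iff, cj_one]; exact hd
    · rw [mul_smul, h2, smul_mk_eq_iff]; exact mem_cj.mpr hd'
    · rw [mul_smul, e, MulAction.Quotient.smul_mk, smul_eq_mul, eq_comm, QuotientGroup.eq, ← hds]
      simpa [mul_assoc] using hd'
  refine ⟨fun x₁ x₂ x₃ y₁ y₂ y₃ a b c a' b' c' => ?_, fun g x₁ x₂ x₃ a b c h1 h2 h3 => ?_,
    fun x y hx hy => ?_⟩
  · obtain ⟨g, h1, h2, h3⟩ := base _ _ _ a b c
    obtain ⟨g', h1', h2', h3'⟩ := base _ _ _ a' b' c'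
    exact ⟨g'⁻¹ * g, by rw [mul_smul, h1, inv_smul_eq_iff, h1'],
      by rw [mul_smul, h2, inv_smul_eq_iff, h2'], by rw [mul_smul, h3, inv_smul_eq_iff, h3']⟩
  · obtain ⟨k, k1, k2, k3⟩ := base _ _ _ a b c
    have f : ∀ (x : G ⧸ H) (y : G), g • x = x → k • x = (y : G ⧸ H) → k * g * k⁻¹ ∈ cj y H := by
      intro x y e1 e2
      rw [← smul_mk_eq_iff, ← e2, mul_smul, inv_smul_smul, mul_smul, e1]
    have d1 := f _ _ h1 k1
    have d2 := f _ _ h2 k2
    have d3 := f _ _ h3 k3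
    rw [cj_one] at d1
    set d := k * g * k⁻¹ with hd
    rw [cj_mul, mem_cj] at d3
    have h4 : s⁻¹ * d * s * d⁻¹ = 1 := h.eq_one huH
      (by rw [mul_assoc, mul_assoc, ← mul_assoc d]
          exact mul_mem (inv_mem hs) (conj_mem_of_mem_normalizer d1 hs))
      (mul_mem d3 (inv_mem d2))
    have h5 : d ∈ (T : Subgroup G) := by
      rw [← eac_cent T hnc hC hs hs1', mem_cent]
      calc d * s = s * (s⁻¹ * d * s * d⁻¹) * d := by group
        _ = s * d := by rw [h4, mul_one]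
    have h6 := h.eq_one huH h5 d2
    calc g = k⁻¹ * d * k := by rw [hd]; group
      _ = 1 := by rw [h6]; group
  · obtain ⟨x, rfl⟩ := QuotientGroup.mk_surjective x
    obtain ⟨y, rfl⟩ := QuotientGroup.mk_surjective y
    have hx' : x ∉ H := fun e => hx (QuotientGroup.eq.mpr (by simpa using e))
    have hy' : y ∉ H := fun e => hy (QuotientGroup.eq.mpr (by simpa using e))
    obtain ⟨t, ht, e⟩ := h.exists_mem_trans hx' hy'
    refine ⟨t, ⟨ht, (QuotientGroup.eq.mpr e).symm⟩, fun t' ht' => ?_⟩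
    exact h.eq_of_trans hx' ht'.1 ht
      (QuotientGroup.eq.mp ((QuotientGroup.eq.mpr e).symm.trans ht'.2.symm))

end Cfsg.Agent.S1229
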