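import Cfsg.Statements.S1230
import Cfsg.Agent.Lib.Exc.AC2

set_option autoImplicit false
open Cfsg

namespace Cfsg.Agent.S1230

/-- Let G be a finite group with a Sylow 2-subgroup T that is neither cyclic nor normal, such that the centralizer of every involution is an elementary abelian 2-group. Then G ≅ PSL(2,F) for a finite field F with |F| = |T|. -/
theorem result {G : Type*} [Group G] [Finite G] (T : Sylow 2 G) (hnc : ¬ IsCyclic (T : Subgroup G)) (hnn : ¬ (T : Subgroup G).Normal) (hC : ∀ t : G, orderOf t = 2 → IsMulCommutative (Subgroup.centralizer ({t} : Set G)) ∧ ∀ c ∈ Subgroup.centralizer ({t} : Set G), c ^ 2 = 1) : ∃ (F : Type) (_ : Field F) (_ : Fintype F), Fintype.card F = Nat.card T ∧ Nonempty (G ≃* Matrix.ProjectiveSpecialLinearGroup (Fin 2) F) := by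
  have h1 : Cfsg.Lib.Exc.AC G := fun t ht x y hx hy => congrArg Subtype.val
    (((hC t ht).1).is_comm.comm (⟨x, Cfsg.Lib.Invol.mem_cent.2 hx⟩ : Subgroup.centralizer ({t} : Set G)) ⟨y, Cfsg.Lib.Invol.mem_cent.2 hy⟩)
  have he : Even (Nat.card G) := by
    by_contra h
    have : (T : Subgroup G) = ⊥ := by
      obtain ⟨k, hk⟩ := T.2.exists_card_eq
      rcases k with _ | k
      · exact Subgroup.card_eq_one.1 hk
      · exact absurd (even_iff_two_dvd.2 ((hk ▸ dvd_pow_self 2 k.succ_ne_zero).trans (Subgroup.card_subgroup_dvd_card _))) h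
    exact hnc (by rw [this]; infer_instance)
  rcases h1.main he with h2 | h2 | ⟨F, i1, i2, A, i3, i4, h2, -, h3, ⟨e⟩⟩
  · exact absurd (h2 T) hnc
  · exact absurd (h2 T) hnn
  obtain ⟨z, -, z2, -⟩ := Cfsg.Lib.Exc.exists_le_cent he T
  have h5 : ∀ a : A, a = 1 := fun a => by
    have := (hC z z2).2 (e.symm (1, a)) (Cfsg.Lib.Invol.mem_cent.2 (e.injective (by
      simp only [map_mul, MulEquiv.apply_symm_apply]; exact Prod.ext (by simp) (mul_comm _ _))))
    rw [← map_pow, map_eq_one_iff _ e.symm.injective] at this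
    have h6 : a ^ 2 = 1 := congrArg Prod.snd this
    exact Cfsg.Lib.Exc.eq_one_of_odd_pow (k := 1) (h3.of_dvd_nat (orderOf_dvd_natCard a)) h6
  have : Unique A := ⟨⟨1⟩, h5⟩
  replace e := e.trans MulEquiv.prodUnique
  have h4 : Even (Fintype.card F) := Nat.even_iff.2 (FiniteField.even_card_of_char_two (ringChar.eq F 2))
  obtain ⟨m, hm, h7⟩ := Cfsg.Lib.Small.exists_pow_of_even h4
  obtain ⟨e'⟩ := Cfsg.Lib.Small.nonempty_sl_equiv_psl (F := F) (by rwa [Nat.card_eq_fintype_card])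
  refine ⟨F, i1, i2, ?_, ⟨e.trans e'⟩⟩
  have h6 := Nat.card_congr e.toEquiv
  rw [Cfsg.Lib.Linear.card_SL_two, Nat.card_eq_fintype_card (α := F), h7] at h6
  have h8 : Even (2 ^ m) := h7 ▸ h4
  have h9 : 1 ≤ 2 ^ m := Nat.one_le_two_pow
  have h10 : ¬ 2 ∣ (2 ^ m - 1) * (2 ^ m + 1) :=
    ((Nat.Even.sub_odd h9 h8 odd_one).mul h8.add_one).not_two_dvd_nat
  rw [h7, T.card_eq_multiplicity, h6, mul_assoc, Nat.factorization_mul (by positivity) (show (2 ^ m - 1) * (2 ^ m + 1) ≠ 0 from fun h => h10 (h ▸ dvd_zero 2)),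
    Finsupp.add_apply, Nat.factorization_eq_zero_of_not_dvd h10, Nat.Prime.factorization_pow Nat.prime_two]
  simp

end Cfsg.Agent.S1230
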