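import Cfsg.Statements.S1231
import Cfsg.Agent.Lib.Invol.Closed
import Cfsg.Agent.Lib.PGrp.OmegaBasic

set_option autoImplicit false
open Cfsg

namespace Cfsg.Agent.S1231
open Cfsg.Lib.Invol

open Subgroup Cfsg.Lib.Transfer

theorem mono {G : Type*} [Group G] {p k : ℕ} {A B : Subgroup G} (h : A ≤ B)
    (hB : Cfsg.PRankLE p k B) : Cfsg.PRankLE p k A :=
  Cfsg.Lib.PGrp.pRankLE_of_injective (f := inclusion h) (inclusion_injective h) hB

theorem of_cj {G : Type*} [Group G] {p k : ℕ} {A : Subgroup G} (g : G)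
    (hB : Cfsg.PRankLE p k (cj g A)) : Cfsg.PRankLE p k A :=
  Cfsg.Lib.PGrp.pRankLE_of_injective
    (f := (A.equivMapOfInjective _ (MulAut.conj g).injective).toMonoidHom)
    (MulEquiv.injective _) hB

/-- Let H be a subgroup of the finite group G, p a prime, k ≥ 1, and P a Sylow p-subgroup of H whose p-rank is at least k. Then N_G(X) ≤ H for every subgroup X of P of p-rank at least k if and only if H ∩ gHg⁻¹ has p-rank less than k for every g ∉ H. -/
theorem result {G : Type*} [Group G] [Finite G] {p : ℕ} [Fact p.Prime] (k : ℕ) (hk : 1 ≤ k) (H : Subgroup G) (P : Sylow p ↥H) (hP : ¬ Cfsg.PRankLE p (k - 1) ↥(P : Subgroup ↥H)) : (∀ X : Subgroup G, X ≤ (P : Subgroup ↥H).map H.subtype → ¬ Cfsg.PRankLE p (k - 1) ↥X → Subgroup.normalizer (X : Set G) ≤ H) ↔ (∀ g : G, g ∉ H → Cfsg.PRankLE p (k - 1) ↥(H ⊓ H.map (MulAut.conj g).toMonoidHom)) := by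
  have hT := sylowIn_map_subtype P
  set T := (P : Subgroup H).map H.subtype with hTdef
  constructor
  · intro h g hg
    have h' : ∀ X ≤ H, IsPGroup p X → ¬ Cfsg.PRankLE p (k - 1) X → normalizer (X : Set G) ≤ H := by
      intro X hX hXp hr n hn
      obtain ⟨u, hu, hle⟩ := hT.exists_cj_le hXp hX
      have := h _ hle (fun e => hr (of_cj u e)) (x := u * n * u⁻¹) (by
        rw [← cj_normalizer]; exact conj_mem_cj.mpr hn)
      have e : n = u⁻¹ * (u * n * u⁻¹) * u := by group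
      rw [e]; exact mul_mem (mul_mem (inv_mem hu) this) hu
    by_contra hr
    change ¬ Cfsg.PRankLE p (k - 1) ↥(H ⊓ cj g H) at hr
    obtain ⟨D, hD⟩ := exists_sylowIn (p := p) (H ⊓ cj g H)
    have hDr : ¬ Cfsg.PRankLE p (k - 1) D := by
      intro e
      refine hr (Cfsg.Lib.PGrp.pRankLE_subgroup_iff.mpr fun A hA hAe => ?_)
      obtain ⟨u, -, hle⟩ := hD.exists_cj_le (isPGroup_of_elem hAe.2) hA
      have := of_cj u (mono hle e)
      exact Cfsg.Lib.PGrp.pRankLE_subgroup_iff.mp this A le_rfl hAe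
    have hDH : D ≤ H := hD.le.trans inf_le_left
    have hDg : cj g⁻¹ D ≤ H := by
      rw [← cj_le_cj (g := g), cj_cj_inv]; exact hD.le.trans inf_le_right
    have hN1 := h' D hDH hD.isPGroup hDr
    have hDr' : ¬ Cfsg.PRankLE p (k - 1) (cj g⁻¹ D) := fun e => hDr (of_cj _ e)
    have hN2 := h' _ hDg (isPGroup_cj _ hD.isPGroup) hDr'
    rw [← cj_normalizer, cj_le_iff_le_cj_inv, inv_inv] at hN2
    obtain ⟨Q, hQ⟩ := exists_sylow_eq_of_normalizer hD.isPGroup fun R hR hRN hDR =>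
      (hD.eq_of_le hR hDR (hRN.trans (le_inf hN1 hN2))).le
    have hQ1 : SylowIn p D H := sylowIn_of_maximal hDH hD.isPGroup fun R hR hDR _ => by
      rw [← hQ] at hDR ⊢; exact (Q.3 hR hDR).le
    have hQ2 : SylowIn p (cj g⁻¹ D) H := hQ1.of_card_le hDg (isPGroup_cj _ hD.isPGroup)
      (card_cj _ _).ge
    obtain ⟨u, hu, e⟩ := hQ2.exists_cj_eq hQ1
    rw [← cj_mul, cj_eq_iff] at e
    have := mul_mem (inv_mem hu) (hN1 e)
    exact hg (by simpa using this)
  · intro h X hX hr n hn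
    by_contra hnH
    refine hr (mono (le_inf (hX.trans hT.le) ?_) (h n hnH))
    change X ≤ cj n H
    rw [← cj_eq_of_mem_normalizer hn]
    exact cj_mono n (hX.trans hT.le)

end Cfsg.Agent.S1231
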