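import Cfsg.Statements.S1233
import Cfsg.Agent.Lib.SRank.Har4

set_option autoImplicit false
open Cfsg

namespace Cfsg.Agent.S1233

open Subgroup Cfsg.Lib Cfsg.Lib.SRank Cfsg.Lib.Core Cfsg.Lib.Invol

/-- Let S be a finite 2-group and Q a subgroup of order 32 generated by two elementwise-commuting subgroups Q₁, Q₂ each isomorphic to the quaternion group of order 8 (so Q = Q₁ ∗ Q₂). If C_S(Q) ≤ Q, then every section of S has 2-rank at most 4. -/
theorem result {S : Type*} [Group S] [Finite S] (hS : IsPGroup 2 S) (Q Q₁ Q₂ : Subgroup S) (e₁ : Q₁ ≃* QuaternionGroup 2) (e₂ : Q₂ ≃* QuaternionGroup 2) (hcomm : ∀ a ∈ Q₁, ∀ b ∈ Q₂, a * b = b * a) (hQ : Q₁ ⊔ Q₂ = Q) (hQ32 : Nat.card Q = 32) (hC : Subgroup.centralizer (Q : Set S) ≤ Q) : Cfsg.SectionalPRankLE 2 4 S := by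
  subst hQ
  obtain ⟨z₁, h₁⟩ := exists_Qd e₁
  obtain ⟨z₂, h₂⟩ := exists_Qd e₂
  have c := card_sup_mul_card_inf' (H := Q₁) (K := Q₂) fun b hb => mem_normalizer_of_conj_mem fun a ha => by
    rw [← hcomm a ha b hb, mul_inv_cancel_right]; exact ha
  rw [hQ32, Nat.card_congr e₁.toEquiv, Nat.card_congr e₂.toEquiv,
    Nat.card_eq_fintype_card (α := QuaternionGroup 2), QuaternionGroup.card] at c
  obtain ⟨t, ht, ho⟩ := exists_two_mem_of_even (H := Q₁ ⊓ Q₂) (by rw [show Nat.card ↥(Q₁ ⊓ Q₂) = 2 by omega]; decide)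
  have t1 : t ≠ 1 := fun e => by rw [e, orderOf_one] at ho; omega
  have tt : t * t = 1 := by rw [← sq, ← ho, pow_orderOf_eq_one]
  obtain rfl := (h₁.sq t ht.1 tt).resolve_left t1
  obtain rfl := (h₂.sq t ht.2 tt).resolve_left t1
  exact sec_top hS (quat_prod hS h₁ h₂ hcomm hC)

end Cfsg.Agent.S1233
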