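import Cfsg.Statements.S1234
import Cfsg.Agent.Lib.SRank.Har3

set_option autoImplicit false
open Cfsg

namespace Cfsg.Agent.S1234

open Subgroup Cfsg.Lib Cfsg.Lib.SRank Cfsg.Lib.Core Cfsg.Lib.Invol

/-- Let S be a finite 2-group and Q ≤ S a subgroup of order 32 having an elementary abelian subgroup E of order 16 and an involution s ∉ E whose centralizer in E has order 4 (so Q ≅ (Z₂ × Z₂) ≀ Z₂). If C_S(Z(Q)) = Q, then every section of S has 2-rank at most 4. -/
theorem result {S : Type*} [Group S] [Finite S] (hS : IsPGroup 2 S) (Q E : Subgroup S) (hEQ : E ≤ Q) (hE : Cfsg.IsElementaryAbelian 2 E) (hE16 : Nat.card E = 16) (hQ32 : Nat.card Q = 32) (s : S) (hsQ : s ∈ Q) (hsE : s ∉ E) (hs : orderOf s = 2) (hfix : Nat.card ↥(E ⊓ Subgroup.centralizer ({s} : Set S)) = 4) (hC : Subgroup.centralizer (((Subgroup.center Q).map Q.subtype : Subgroup S) : Set S) = Q) : Cfsg.SectionalPRankLE 2 4 S := by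
  haveI := fact_two
  have sE : ∀ e ∈ E, e * e = 1 := fun e he => by rw [← sq]; exact hE.2 e he
  have ss : s * s = 1 := by rw [← sq, ← hs, pow_orderOf_eq_one]
  have r : E.relIndex Q ≤ 2 := rel2 (by rw [inf_eq_left.2 hEQ, hE16, hQ32])
  have hn : s ∈ normalizer ((E ⊓ centralizer {s} : Subgroup S) : Set S) :=
    mem_normalizer_of_conj_mem fun x hx => by rw [← mem_c.1 hx.2, mul_inv_cancel_right]; exact hx
  refine sec_top hS (harada hS (A := (E ⊓ centralizer {s}) ⊔ zpowers s) (fun a ha => ?_) ?_ fun g hg => ?_)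
  · obtain ⟨e, he, t, ht, rfl⟩ := (mem_sup_of_le_normalizer_left (zpowers_le.2 hn)).1 ha
    rcases zp2 ss ht with e1 | e1 <;> rw [e1]
    · rw [mul_one]; exact sE e he.1
    · calc e * s * (e * s) = e * (s * e) * s := by group
        _ = (e * e) * (s * s) := by rw [← mem_c.1 he.2]; group
        _ = 1 := by rw [sE e he.1, ss, one_mul]
  · rw [PGrp.card_sup_zpowers_of_mem_normalizer (p := 2) hn (fun e => hsE e.1) (by rw [sq, ss]; exact one_mem _), hfix]
  · have gs : g * s = s * g := (hg s (mem_sup_right (mem_zpowers s))).symm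
    have gQ : g ∈ Q := by
      rw [← hC]
      refine centralizer_le (fun x hx => ?_) hg
      rw [map_subtype_center] at hx
      refine mem_sup_left (mem_inf.2 ⟨?_, mem_c.2 (hx.2 s hsQ).symm⟩)
      by_contra e
      have h1 := cos2 r hsQ hx.1 hsE e
      have h2 : E ≤ E ⊓ centralizer {s} := fun y hy => ⟨hy, mem_c.2 (by
        have e1 := hx.2 y (hEQ hy)
        have e2 := comm_of_sq sE _ h1 y hy
        calc y * s = y * x * (s⁻¹ * x)⁻¹ := by group
          _ = s * (s⁻¹ * x * y) * (s⁻¹ * x)⁻¹ := by rw [e1]; group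
          _ = _ := by rw [e2]; group)⟩
      have := card_mono h2
      omega
    by_cases e : g ∈ E
    · exact mem_sup_left (mem_inf.2 ⟨e, mem_c.2 gs⟩)
    · have := mul_mem (mem_sup_right (mem_zpowers s)) (mem_sup_left (T := zpowers s)
        (mem_inf.2 ⟨cos2 r hsQ gQ hsE e, mem_c.2 (show s⁻¹ * g * s = s * (s⁻¹ * g) by rw [mul_assoc, gs]; group)⟩))
      simpa using this

end Cfsg.Agent.S1234
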