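import Cfsg.Statements.S1235
import Cfsg.Agent.Lib.SRank.E16

set_option autoImplicit false
open Cfsg

namespace Cfsg.Agent.S1235

open Subgroup Cfsg.Lib Cfsg.Lib.SRank Cfsg.Lib.Invol Cfsg.Lib.Core

theorem struct {D : Type*} [Group D] [Finite D]
    (hD : (∃ m : ℕ, 2 ≤ m ∧ Nonempty (D ≃* DihedralGroup m)) ∨ Cfsg.IsQuasiDihedral D) :
    (Nat.card D = 4 ∧ ∀ d : D, d * d = 1) ∨ ∃ r y : D, (zpowers r).index = 2 ∧ y * r ≠ r * y := by
  rcases hD with ⟨m, hm, ⟨e⟩⟩ | ⟨n, hn, hc, x, y, hx, -, hxy⟩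
  · have hc : Nat.card D = 2 * m := by rw [Nat.card_congr e.toEquiv, DihedralGroup.nat_card]
    rcases hm.eq_or_lt with rfl | hm
    · exact .inl ⟨hc, fun d => e.injective (by rw [map_mul, map_one]; generalize e d = u; revert u; decide)⟩
    haveI : NeZero m := ⟨by omega⟩
    refine .inr ⟨e.symm (.r 1), e.symm (.sr 0), ?_, fun h => ?_⟩
    · have := (zpowers (e.symm (.r 1))).card_mul_index
      rw [Nat.card_zpowers, MulEquiv.orderOf_eq, DihedralGroup.orderOf_r_one, hc, mul_comm 2] at this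
      exact Nat.eq_of_mul_eq_mul_left (by omega) this
    · rw [← map_mul, ← map_mul, e.symm.apply_eq_iff_eq, DihedralGroup.sr_mul_r, DihedralGroup.r_mul_sr] at h
      have h : ((2 : ℕ) : ZMod m) = 0 := by
        have := DihedralGroup.sr.inj h; push_cast; linear_combination this
      exact absurd (Nat.le_of_dvd two_pos ((ZMod.natCast_eq_zero_iff 2 m).1 h)) (by omega)
  · refine .inr ⟨x, y, ?_, fun h => ?_⟩
    · have := (zpowers x).card_mul_index
      rw [Nat.card_zpowers, hx, hc, pow_succ] at this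
      exact Nat.eq_of_mul_eq_mul_left (by positivity) this
    · obtain ⟨k, rfl⟩ : ∃ k, n = k + 3 := ⟨n - 3, by omega⟩
      rw [h, mul_inv_cancel_right] at hxy
      have h1 : x ^ 1 = x ^ (2 ^ (k + 3 - 1) - 1) := by rwa [pow_one]
      have h2 : 1 ≤ 2 ^ k := Nat.one_le_two_pow
      rw [show k + 3 - 1 = k + 2 by omega] at h1
      have h3 : 2 ^ (k + 3) = 8 * 2 ^ k := by ring
      have h4 : 2 ^ (k + 2) = 4 * 2 ^ k := by ring
      have h5 : 1 < orderOf x := by omega
      have h6 : 2 ^ (k + 2) - 1 < orderOf x := by omega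
      have := pow_injOn_Iio_orderOf h5 h6 h1
      omega

/-- Let G be a finite group, x an involution and T ≤ G a Sylow 2-subgroup of C_G(x) (T ≤ C_G(x) with |C_G(x) : T| odd) which is the internal direct product of a subgroup D that is dihedral (of order ≥ 4) or quasi-dihedral and a Klein four-subgroup B. Suppose that for every involution b ∈ B, T ≤ C_G(b) with |C_G(b) : T| odd. Then every section of G has 2-rank at most 4. -/
theorem result {G : Type*} [Group G] [Finite G] (x : G) (hx : orderOf x = 2) (T D B : Subgroup G) (hT : IsPGroup 2 T) (hTx : T ≤ Subgroup.centralizer ({x} : Set G)) (hTxi : Odd (T.relIndex (Subgroup.centralizer ({x} : Set G)))) (hprod : Cfsg.IsInternalDirectProduct D B T) (hD : (∃ m : ℕ, 2 ≤ m ∧ Nonempty (D ≃* DihedralGroup m)) ∨ Cfsg.IsQuasiDihedral D) (hB : IsKleinFour B) (hTb : ∀ b ∈ B, orderOf b = 2 → T ≤ Subgroup.centralizer ({b} : Set G) ∧ Odd (T.relIndex (Subgroup.centralizer ({b} : Set G)))) : Cfsg.SectionalPRankLE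 2 4 G := by
  haveI := fact_two
  obtain ⟨hDT, hBT, hcm, hinf, hsup⟩ := hprod
  obtain ⟨S, hTS⟩ := hT.exists_le_sylow
  refine sec_of S (show SR 16 _ from ?_)
  have hBs : ∀ b ∈ B, b * b = 1 := fun b hb => congrArg Subtype.val (hB.mul_self ⟨b, hb⟩)
  have hn : B ≤ normalizer (D : Set G) := fun b hb => mem_norm fun d hd => by rw [← hcm d hd b hb]; simpa using hd
  have hmem : ∀ t ∈ T, ∃ d ∈ D, ∃ b ∈ B, d * b = t := fun t ht => (mem_sup_of_le_normalizer_left hn).1 (hsup ▸ ht)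
  have hcT : Nat.card T = Nat.card D * 4 := by
    have := card_sup_mul_card_inf' hn; rwa [hinf, card_bot, mul_one, hsup, hB.card_four] at this
  have hcent : ∀ b ∈ B, b ≠ 1 → ∀ s ∈ (S : Subgroup G), s * b = b * s → s ∈ T := fun b hb h1 s hs e => by
    obtain ⟨h2, h3⟩ := hTb b hb (two_of_mul_self (hBs b hb) h1)
    obtain ⟨k, hk⟩ := (S.2.to_le (inf_le_left : (S : Subgroup G) ⊓ centralizer {b} ≤ S)).index (T.subgroupOf _)
    have h5 := relIndex_mul_relIndex T _ _ (le_inf hTS h2) (inf_le_right : (S : Subgroup G) ⊓ centralizer {b} ≤ _)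
    rw [← h5, Nat.odd_mul, relIndex, hk] at h3
    obtain rfl : k = 0 := by
      by_contra hk0; exact absurd h3.1 (Nat.not_odd_iff_even.2 (Nat.even_pow.2 ⟨even_two, hk0⟩))
    exact relIndex_eq_one.1 hk ⟨hs, mem_centralizer_singleton_iff.2 e⟩
  rcases struct hD with ⟨h4, h2⟩ | ⟨r, y, hr, hy⟩
  · refine E16.sr ⟨S.2, hTS, fun t ht => ?_, by rw [hcT, h4], hBT, hB.card_four, hcent⟩
    obtain ⟨d, hd, b, hb, rfl⟩ := hmem t ht
    have : d * d = 1 := congrArg Subtype.val (h2 ⟨d, hd⟩)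
    rw [mul_assoc, ← mul_assoc b, ← hcm d hd b hb, mul_assoc, hBs b hb, mul_one, this]
  have hST : T = S := by
    by_contra hne
    obtain ⟨s, hs, hsT, hsn, hss⟩ := exists_norm_sq S.2 hTS hne
    have hbc : ∀ b ∈ B, ∀ t ∈ T, b * t = t * b := fun b hb t ht => by
      obtain ⟨d, hd, c, hc, rfl⟩ := hmem t ht
      rw [← mul_assoc, ← hcm d hd b hb, mul_assoc, comm_of_sq hBs b hb c hc, mul_assoc]
    have hbc' : ∀ b ∈ B, ∀ t ∈ T, s * b * s⁻¹ * t = t * (s * b * s⁻¹) := fun b hb t ht => by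
      have := hbc b hb _ (conj_mem (inv_mem hsn) ht)
      calc s * b * s⁻¹ * t = s * (b * (s⁻¹ * t * s⁻¹⁻¹)) * s⁻¹ := by group
        _ = _ := by rw [this]; group
    -- `s b s⁻¹ ∉ B`
    have k1 : ∀ b ∈ B, b ≠ 1 → s * b * s⁻¹ ∉ B := fun b hb h1 h2 => by
      have e : s * (b * (s * b * s⁻¹)) = b * (s * b * s⁻¹) * s := by
        have e1 := hbc b hb _ hss
        have e2 := hbc' b hb b (hBT hb)
        calc s * (b * (s * b * s⁻¹)) = s * b * s⁻¹ * (s * s * b) * s⁻¹ := by group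
          _ = s * b * s⁻¹ * b * s := by rw [← e1]; group
          _ = _ := by rw [e2]
      by_cases h3 : b * (s * b * s⁻¹) = 1
      · rw [mul_eq_one_iff_eq_inv', inv_eq_of_mul_eq_one_right (hBs b hb), mul_inv_eq_iff_eq_mul] at h3
        exact hsT (hcent b hb h1 s hs h3)
      · exact hsT (hcent _ (mul_mem hb h2) h3 s hs e)
    have k2 : ∀ b ∈ B, b ≠ 1 → ∃ d : D, d ∈ zpowers r ∧ orderOf d = 2 ∧ ∃ c ∈ B, d * c = s * b * s⁻¹ := fun b hb h1 => by
      obtain ⟨d, hd, c, hc, e⟩ := hmem _ (conj_mem hsn (hBT hb))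
      have hd' : d = s * b * s⁻¹ * c⁻¹ := by rw [← e]; group
      have hdc : ∀ t ∈ T, d * t = t * d := fun t ht => by
        rw [hd', mul_assoc, hbc _ (inv_mem hc) t ht, ← mul_assoc, hbc' b hb t ht, mul_assoc]
      refine ⟨⟨d, hd⟩, ?_, two_of_mul_self (Subtype.ext ?_) fun h => k1 b hb h1 ?_, c, hc, e⟩
      · by_contra hz
        refine hy ?_
        have hrd : (⟨d, hd⟩ : D) * r = r * ⟨d, hd⟩ := Subtype.ext (hdc r (hDT r.2))
        by_cases hyr : y ∈ zpowers r
        · obtain ⟨k, rfl⟩ := hyr; exact (Commute.zpow_self r k).eq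
        · obtain ⟨k, hk⟩ := (mul_mem_iff_of_index_two hr (a := y) (b := ⟨d, hd⟩⁻¹)).2 (by simp [hyr, hz])
          have : y = r ^ k * ⟨d, hd⟩ := by rw [eq_mul_inv_iff_mul_eq] at hk; exact hk.symm
          rw [this, mul_assoc, hrd, ← mul_assoc, (Commute.zpow_self r k).eq, mul_assoc]
      · have e1 : d * c * (d * c) = 1 := by rw [e]; simp [mul_assoc, ← mul_assoc b, hBs b hb]
        rwa [mul_assoc, ← mul_assoc c, ← hcm d hd c hc, mul_assoc, hBs c hc, mul_one] at e1
      · have : d = 1 := congrArg Subtype.val h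
        rw [← e, this, one_mul]; exact hc
    haveI : Nontrivial B := Finite.one_lt_card_iff_nontrivial.1 (by rw [hB.card_four]; norm_num)
    obtain ⟨b1, h1⟩ := exists_ne (1 : B)
    obtain ⟨b2, h2, h3⟩ : ∃ b2 : B, b2 ≠ 1 ∧ b1 * b2 ≠ 1 := by
      by_contra hn
      push_neg at hn
      have := Nat.card_le_card_of_surjective (fun i : Bool => if i then (1 : B) else b1⁻¹) fun b => by
        by_cases e : b = 1
        · exact ⟨true, e.symm⟩
        · exact ⟨false, inv_eq_of_mul_eq_one_right (hn b e)⟩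
      rw [hB.card_four] at this; simp at this
    obtain ⟨d1, m1, o1, c1, n1, e1⟩ := k2 b1 b1.2 fun e => h1 (Subtype.ext e)
    obtain ⟨d2, m2, o2, c2, n2, e2⟩ := k2 b2 b2.2 fun e => h2 (Subtype.ext e)
    obtain rfl := eq_of_mem_zpowers m1 m2 o1 o2
    refine k1 _ (b1 * b2).2 (fun e => h3 (Subtype.ext e)) ?_
    have : s * ↑(b1 * b2) * s⁻¹ = c1 * c2 := by
      have e3 : (d1 : G) * d1 = 1 := congrArg Subtype.val (mul_self_of_two o1)
      calc s * ↑(b1 * b2) * s⁻¹ = s * b1 * s⁻¹ * (s * b2 * s⁻¹) := by simp [mul_assoc]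
        _ = _ := by rw [← e1, ← e2, hcm _ d1.2 c1 n1, mul_assoc, ← mul_assoc (d1 : G), e3, one_mul]
    exact this ▸ mul_mem n1 n2
  refine (sr_zpowers (r : G)).of_rel (m := 8) (le_of_eq ?_)
  have e1 := card_mul_relIndex (zpowers_le.2 (hDT r.2))
  have e2 := (zpowers r).card_mul_index
  rw [hr, Nat.card_zpowers] at e2
  rw [hcT, ← e2, Nat.card_zpowers, orderOf_coe, mul_assoc, hST] at e1
  exact Nat.eq_of_mul_eq_mul_left (orderOf_pos r) e1

end Cfsg.Agent.S1235
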