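import Cfsg.Statements.S1236
import Cfsg.Agent.Lib.ABG.MC

set_option autoImplicit false
open Cfsg Cfsg.Lib Cfsg.Lib.ABG Cfsg.Lib.Invol Cfsg.Lib.Transfer Subgroup

namespace Cfsg.Agent.S1236

theorem dih {m : ℕ} [NeZero m] {V : Subgroup (DihedralGroup m)} (hV : IsKleinFour V) : centralizer (V : Set _) ≤ V := by
  have k : ∀ i j : ZMod m, orderOf (DihedralGroup.r i) = 2 → orderOf (DihedralGroup.r j) = 2 → DihedralGroup.r i = .r j := fun i j => by
    obtain ⟨i, rfl⟩ := ZMod.intCast_surjective i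
    obtain ⟨j, rfl⟩ := ZMod.intCast_surjective j
    exact eq_of_mem_zpowers ⟨i, DihedralGroup.r_one_zpow i⟩ ⟨j, DihedralGroup.r_one_zpow j⟩
  obtain ⟨i, j, h1, h2, h3⟩ : ∃ i j, orderOf (DihedralGroup.r i) = 2 ∧ .r i ∈ V ∧ .sr j ∈ V := by
    obtain ⟨a | a, b | b, ha, hb, hab, h, h1⟩ := klein_exists hV
    exacts [absurd (k _ _ ha hb) hab, ⟨a, b, ha, by simp [h1], by simp [h1]⟩, ⟨b, a, hb, by simp [h1], by simp [h1]⟩,
      ⟨_, a, two_mul_of_commute ha hb hab h, by simp [h1], by simp [h1]⟩]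
  have h4 : ∀ l, .r l ∈ centralizer (V : Set (DihedralGroup m)) → .r l ∈ V := fun l hl => by
    by_cases e : DihedralGroup.r l = 1
    · exact e ▸ one_mem _
    · have := hl _ h3
      refine k _ _ h1 (two_of_mul_self ?_ e) ▸ h2
      simp only [DihedralGroup.sr_mul_r, DihedralGroup.r_mul_sr, DihedralGroup.sr.injEq] at this
      rw [DihedralGroup.r_mul_r, DihedralGroup.one_def]; congr 1; linear_combination this
  rintro (l | l) hl
  · exact h4 l hl
  · exact (mul_mem_cancel_left h3).1 (h4 _ (mul_mem (mem_centS.2 fun _ hx => klein_commute hV h3 hx) hl))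

/-- Let R be a finite group, t a central involution of R such that R ⧸ ⟨t⟩ is dihedral (of order ≥ 4) or quasi-dihedral, and A ≤ R an elementary abelian subgroup of order 8 containing t. Then C_R(A) = A. -/
theorem result {R : Type*} [Group R] [Finite R] (t : R) (ht : orderOf t = 2) (htz : t ∈ Subgroup.center R) [(Subgroup.zpowers t).Normal] (hq : (∃ m : ℕ, 2 ≤ m ∧ Nonempty (R ⧸ Subgroup.zpowers t ≃* DihedralGroup m)) ∨ Cfsg.IsQuasiDihedral (R ⧸ Subgroup.zpowers t)) (A : Subgroup R) (hA : Cfsg.IsElementaryAbelian 2 A) (hA8 : Nat.card A = 8) (htA : t ∈ A) : Subgroup.centralizer (A : Set R) = A := by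
  let f := QuotientGroup.mk' (zpowers t)
  have h1 : IsKleinFour (A.map f) := isKleinFour_of_card (by
    have h2 := card_mul_relIndex (zpowers_le.2 htA)
    rw [Nat.card_zpowers, ht, hA8, ← QuotientGroup.ker_mk' (zpowers t), relIndex_ker] at h2
    exact Nat.eq_of_mul_eq_mul_left two_pos h2) (by rintro _ ⟨x, hx, rfl⟩; rw [← map_mul, ← sq, hA.2 x hx, map_one])
  have h2 : centralizer (A.map f : Set _) ≤ A.map f := by
    rcases hq with ⟨m, hm, ⟨e⟩⟩ | h
    · have : NeZero m := ⟨by omega⟩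
      intro x hx
      obtain ⟨y, hy, e1⟩ := dih (V := (A.map f).map e.toMonoidHom) (isKleinFour_of_equiv (e.subgroupMap _).symm h1) (x := e x) (by
        rintro _ ⟨y, hy, rfl⟩; exact ((map_mul e _ _).symm.trans (congrArg e (hx y hy))).trans (map_mul e _ _))
      exact e.injective e1 ▸ hy
    · obtain ⟨n, -, -, -, -, E, -⟩ := exists_mc_qd' h
      obtain ⟨a, -, h3⟩ := E.klein_eq h1 le_top
      rw [h3]
      exact (le_inf le_top le_rfl).trans (E.inf_centralizer_K a)
  refine le_antisymm (fun x hx => ?_) fun x hx => mem_centS.2 fun y hy => commute_of_mulComm hA.1 hx hy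
  have h3 : x ∈ (A.map f).comap f := h2 (by rintro _ ⟨y, hy, rfl⟩; rw [← map_mul, hx y hy, map_mul])
  rwa [comap_map_eq, QuotientGroup.ker_mk', sup_eq_left.2 (zpowers_le.2 htA)] at h3

end Cfsg.Agent.S1236
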