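import Cfsg.Statements.S1237
import Cfsg.Agent.Lib.R2.U34

set_option autoImplicit false
open Cfsg

namespace Cfsg.Agent.S1237

open Cfsg.Lib
set_option linter.style.haveILetI false

/-- Let T be a finite 2-group of 2-rank exactly 2 (it has a Klein four-subgroup but no elementary abelian subgroup of order 8) admitting an automorphism φ such that any two involutions of T are carried to one another by a power of φ. Then T ≅ Z_{2^n} × Z_{2^n} for some n ≥ 1, or T is isomorphic to a Sylow 2-subgroup of PSU(3) over the field with 16 elements. -/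
theorem result {T : Type*} [Group T] [Finite T] (hT : IsPGroup 2 T) (h2 : Cfsg.PRankLE 2 2 T) (h1 : ¬ Cfsg.PRankLE 2 1 T) (φ : MulAut T) (htrans : ∀ s t : T, orderOf s = 2 → orderOf t = 2 → ∃ k : ℕ, (φ ^ k) s = t) {F : Type*} [Field F] [Fintype F] (hF : Fintype.card F = 16) (P : Sylow 2 (Cfsg.PSU 3 F 4)) : (∃ n : ℕ, 1 ≤ n ∧ Nonempty (T ≃* Multiplicative (ZMod (2 ^ n) × ZMod (2 ^ n)))) ∨ Nonempty (T ≃* (P : Subgroup (Cfsg.PSU 3 F 4))) := by
  have : Fact (Nat.Prime 2) := ⟨Nat.prime_two⟩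
  obtain ⟨σ, c⟩ := Forms.isConj_of_card (q := 4) hF
  obtain ⟨e⟩ := U3.sylow_psu c (k := 2) rfl P
  obtain ⟨A, hA⟩ := not_forall.1 h1
  simp only [not_forall, not_le] at hA
  obtain ⟨-, hA, h3⟩ := hA
  obtain ⟨z, -, z2, hz⟩ := Invol.exists_central (hT.to_subgroup ⊤) fun e => by
    have := Subgroup.card_le_of_le (le_top.trans e.le : A ≤ ⊥)
    rw [Subgroup.card_bot] at this; omega
  have hc : ∀ s : T, s * s = 1 → ∀ x, Commute s x := fun s hs x => by
    by_cases s1 : s = 1
    · rw [s1]; exact Commute.one_left x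
    obtain ⟨k, rfl⟩ := htrans z s z2 (orderOf_eq_prime (by rwa [sq]) s1)
    simpa using (hz ((φ ^ k).symm x) trivial).map (φ ^ k)
  let V : Subgroup T :=
    { carrier := {x | x * x = 1}
      one_mem' := mul_one 1
      mul_mem' := fun {a b} ha hb => by
        change a * b * (a * b) = 1
        rw [(hc b hb a).mul_mul_mul_comm, ha, hb, mul_one]
      inv_mem' := fun {a} ha => by
        change a⁻¹ * a⁻¹ = 1
        rw [← mul_inv_rev, ha, inv_one] }
  have h4 : Nat.card V = 4 := by
    have l1 := h2 V ⟨⟨fun a b => Subtype.ext (hc _ a.2 b)⟩⟩ fun a ha => (sq a).trans ha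
    have l2 := Subgroup.card_le_of_le (show A ≤ V from fun a ha => (sq a).symm.trans (hA a ha))
    obtain ⟨k, hk⟩ := (hT.to_subgroup V).exists_card_eq
    rw [hk] at l1 l2 ⊢
    have : k ≤ 2 := (Nat.pow_le_pow_iff_right (le_refl 2)).1 l1
    interval_cases k <;> omega
  refine (R2.hc_or_heis_of_move c hT (V := V) Iff.rfl hc h4 (φ := φ) z2 fun h => ?_).imp (fun ⟨n, h⟩ => ?_)
    fun ⟨f⟩ => ⟨f.trans e.symm⟩
  · have h5 : ∀ k : ℕ, (φ ^ k) z = z ∨ (φ ^ k) z = φ z := fun k => by
      induction k with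
      | zero => exact Or.inl rfl
      | succ k ih =>
        rw [pow_succ', MulAut.mul_apply]
        rcases ih with e | e <;> rw [e]
        exacts [Or.inr rfl, Or.inl h]
    have h6 : (V : Set T) ⊆ {1, z, φ z} := fun v hv => by
      by_cases v1 : v = 1
      · exact Or.inl v1
      obtain ⟨k, rfl⟩ := htrans z v z2 (orderOf_eq_prime (by rw [sq]; exact hv) v1)
      exact Or.inr (h5 k)
    have h7 := (Set.ncard_le_ncard h6).trans ((Set.ncard_insert_le _ _).trans (Nat.succ_le_succ (Set.ncard_insert_le _ _)))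
    rw [Set.ncard_singleton, ← Nat.card_coe_set_eq] at h7
    exact absurd (h4.symm.trans_le h7) (by decide)
  · obtain ⟨f⟩ := h.equiv
    exact ⟨n + 1, n.succ_pos, ⟨Subgroup.topEquiv.symm.trans f⟩⟩

end Cfsg.Agent.S1237
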