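import Cfsg.Statements.S1238
import Cfsg.Agent.Lib.R2.Fus

set_option autoImplicit false
open Cfsg

namespace Cfsg.Agent.S1238

open Cfsg.Lib
set_option linter.style.haveILetI false

/-- Let G be a finite group of 2-rank 2 (a Klein four-subgroup but no elementary abelian subgroup of order 8) which is fusion simple: G has no subgroup of index 2 and no isolated involution. Let S be a Sylow 2-subgroup. Then S is dihedral, quasi-dihedral, wreathed, isomorphic to Z_{2^n} × Z_{2^n} for some n ≥ 2, or isomorphic to a Sylow 2-subgroup of PSU(3) over the field with 16 elements. -/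
theorem result {G : Type*} [Group G] [Finite G] (h2 : Cfsg.PRankLE 2 2 G) (h1 : ¬ Cfsg.PRankLE 2 1 G) (hidx : ∀ H : Subgroup G, H.index ≠ 2) (hiso : ∀ z : G, ¬ Cfsg.IsIsolatedInvolution z) (S : Sylow 2 G) {F : Type*} [Field F] [Fintype F] (hF : Fintype.card F = 16) (P : Sylow 2 (Cfsg.PSU 3 F 4)) : (∃ m : ℕ, 2 ≤ m ∧ Nonempty ((S : Subgroup G) ≃* DihedralGroup m)) ∨ Cfsg.IsQuasiDihedral (S : Subgroup G) ∨ Cfsg.IsWreathed (S : Subgroup G) ∨ (∃ n : ℕ, 2 ≤ n ∧ Nonempty ((S : Subgroup G) ≃* Multiplicative (ZMod (2 ^ n) × ZMod (2 ^ n)))) ∨ Nonempty ((S : Subgroup G) ≃* (P : Subgroup (Cfsg.PSU 3 F 4))) := by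
  have : Fact (Nat.Prime 2) := ⟨Nat.prime_two⟩
  obtain ⟨σ, c⟩ := Forms.isConj_of_card (q := 4) hF
  obtain ⟨e⟩ := U3.sylow_psu c (k := 2) rfl P
  refine (R2.group_classify c h2 S (S.ne_bot_of_dvd_card ?_) hiso).imp_right (Or.imp_right (Or.imp_right (Or.imp_right
    fun ⟨f⟩ => ⟨f.trans e.symm⟩)))
  obtain ⟨A, hA⟩ := not_forall.1 h1
  simp only [not_forall, not_le] at hA
  obtain ⟨-, hA, h3⟩ := hA
  obtain ⟨⟨a, ha⟩, a1⟩ := A.ne_bot_iff_exists_ne_one.1 fun e => by rw [e, Subgroup.card_bot] at h3; omega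
  exact orderOf_eq_prime (hA a ha) (fun e => a1 (Subtype.ext e)) ▸ orderOf_dvd_natCard a

end Cfsg.Agent.S1238
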