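import Cfsg.Statements.S1239
import Cfsg.Agent.Lib.Block.IsoLocal

set_option autoImplicit false
open Cfsg

namespace Cfsg.Agent.S1239

open Cfsg.Lib.Block Cfsg.Lib.Char Cfsg.Lib.Amalg
set_option linter.style.haveILetI false

open Cfsg.Lib Subgroup in
theorem rank_two_of_index_two {S : Type*} [Group S] {U : Subgroup S} (hU : U.index = 2)
    (h : ∀ e ∉ U, ∀ a ∈ U, ∀ b ∈ U, orderOf a = 2 → orderOf b = 2 → Commute e a → Commute e b →
      a = b)
    (h' : ∀ a ∈ U, ∀ b ∈ U, ∀ c ∈ U, orderOf a = 2 → orderOf b = 2 → orderOf c = 2 → a ≠ b →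
      c = a ∨ c = b ∨ c = a * b) (a b c : S) (ha : orderOf a = 2) (hb : orderOf b = 2)
    (hc : orderOf c = 2) (hab : Commute a b) (hac : Commute a c) (hbc : Commute b c) (hne : a ≠ b) :
    c = a ∨ c = b ∨ c = a * b := by
  have hm : ∀ {s t : S}, s ∉ U → t ∉ U → s * t ∈ U := fun hs ht =>
    (mul_mem_iff_of_index_two hU).2 (iff_of_false hs ht)
  have ha2 := Invol.mul_self_of_two ha
  have hb2 := Invol.mul_self_of_two hb
  by_cases hca : c = a
  · exact Or.inl hca
  by_cases hcb : c = b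
  · exact Or.inr (Or.inl hcb)
  have h1 := Invol.two_mul_of_commute ha hc (Ne.symm hca) hac
  have h2 := Invol.two_mul_of_commute hb hc (Ne.symm hcb) hbc
  have h3 := Invol.two_mul_of_commute ha hb hne hab
  by_cases haU : a ∈ U <;> by_cases hbU : b ∈ U <;> by_cases hcU : c ∈ U
  · exact h' a haU b hbU c hcU ha hb hc hne
  · exact absurd (h c hcU a haU b hbU ha hb hac.symm hbc.symm) hne
  · exact Or.inl (h b hbU c hcU a haU hc ha hbc hab.symm)
  · have := h b hbU _ (hm hbU hcU) a haU h2 ha ((Commute.refl b).mul_right hbc) hab.symm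
    exact Or.inr (Or.inr (by rw [hab.eq, ← this, ← mul_assoc, hb2, one_mul]))
  · exact Or.inr (Or.inl (h a haU c hcU b hbU hc hb hac hab))
  · have := h a haU _ (hm haU hcU) b hbU h1 hb ((Commute.refl a).mul_right hac) hab
    exact Or.inr (Or.inr (by rw [← this, ← mul_assoc, ha2, one_mul]))
  · exact Or.inr (Or.inr (h a haU c hcU _ (hm haU hbU) hc h3 hac ((Commute.refl a).mul_right hab)))
  · exact Or.inr (Or.inl (mul_left_cancel (h a haU _ (hm haU hcU) _ (hm haU hbU) h1 h3
      ((Commute.refl a).mul_right hac) ((Commute.refl a).mul_right hab))))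

open Cfsg.Lib Subgroup in
theorem rank_two {S : Type*} [Group S] [Finite S] (hS : IsQuasiDihedral S ∨ IsWreathed S) :
    ∀ a b c : S, orderOf a = 2 → orderOf b = 2 → orderOf c = 2 → Commute a b → Commute a c →
      Commute b c → a ≠ b → c = a ∨ c = b ∨ c = a * b := by
  rcases hS with ⟨n, -, h1, x, y, hx, -, -⟩ | ⟨n, hn, h1, x, y, z, hx, hxy, hd, hz, hzx⟩
  · refine rank_two_of_index_two (U := zpowers x) ?_
      (fun _ _ a ha b hb h1 h2 _ _ => Invol.eq_of_mem_zpowers ha hb h1 h2)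
      fun a ha b hb _ _ h1 h2 _ h => absurd (Invol.eq_of_mem_zpowers ha hb h1 h2) h
    have := (zpowers x).card_mul_index
    rw [Nat.card_zpowers, hx, h1, pow_succ] at this
    exact Nat.eq_of_mul_eq_mul_left (by positivity) this
  have hc : Commute x y := hxy
  have hy : orderOf y = 2 ^ n := by rw [← hzx, Invol.orderOf_conj, hx]
  have hzy : z * y * z⁻¹ = x := by
    rw [← hzx, show z * (z * x * z⁻¹) * z⁻¹ = z * z * x * (z * z)⁻¹ by group,
      Invol.mul_self_of_two hz]; simp
  have hn' : zpowers y ≤ normalizer (zpowers x : Set S) :=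
    zpowers_le_of_mem (Invol.mem_normalizer_zpowers_of_commute hc.symm)
  have hU : (zpowers x ⊔ zpowers y).index = 2 := by
    have := (zpowers x ⊔ zpowers y).card_mul_index
    rw [Coprime.card_sup_of_disjoint' hn' hd, Nat.card_zpowers, Nat.card_zpowers, hx, hy, h1,
      pow_succ, ← pow_add, ← two_mul] at this
    exact Nat.eq_of_mul_eq_mul_left (by positivity) this
  have hmem : ∀ a ∈ zpowers x ⊔ zpowers y, ∃ i j : ℤ, a = x ^ i * y ^ j := fun a ha => by
    obtain ⟨_, ⟨i, rfl⟩, _, ⟨j, rfl⟩, e⟩ := (Coprime.mem_sup_iff_of_le_normalizer hn').1 ha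
    exact ⟨i, j, e⟩
  have hcomm : ∀ a ∈ zpowers x ⊔ zpowers y, ∀ b ∈ zpowers x ⊔ zpowers y, Commute a b :=
    fun a ha b hb => by
      obtain ⟨i, j, rfl⟩ := hmem a ha
      obtain ⟨k, l, rfl⟩ := hmem b hb
      exact (((Commute.refl x).zpow_zpow i k).mul_right (hc.zpow_zpow i l)).mul_left
        ((hc.symm.zpow_zpow j k).mul_right ((Commute.refl y).zpow_zpow j l))
  obtain ⟨s, hs, hs2⟩ := Invol.exists_two_zpowers_of_even (x := x) (by
    rw [hx]; exact Nat.even_pow.2 ⟨even_two, by omega⟩)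
  have ht : z * s * z⁻¹ ∈ zpowers y := by
    obtain ⟨k, rfl⟩ := hs
    exact ⟨k, by simp only [← hzx, conj_zpow]⟩
  have ht2 := (Invol.orderOf_conj z s).trans hs2
  have hts : z * (z * s * z⁻¹) * z⁻¹ = s := by
    rw [show z * (z * s * z⁻¹) * z⁻¹ = z * z * s * (z * z)⁻¹ by group, Invol.mul_self_of_two hz]
    simp
  generalize htdef : z * s * z⁻¹ = t at ht ht2 hts
  have hst : s ≠ t := fun e => Invol.ne_one_of_two hs2 (by
    have : s ∈ zpowers x ⊓ zpowers y := ⟨hs, e ▸ ht⟩
    rwa [hd] at this)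
  have hstc := hcomm s (mem_sup_left hs) t (mem_sup_right ht)
  have hinv : ∀ a ∈ zpowers x ⊔ zpowers y, orderOf a = 2 → a = s ∨ a = t ∨ a = s * t :=
    fun a ha h2 => by
      obtain ⟨i, j, rfl⟩ := hmem a ha
      have h3 : (x ^ i) ^ 2 = ((y ^ j) ^ 2)⁻¹ := by
        rw [eq_inv_iff_mul_eq_one, ← (hc.zpow_zpow i j).mul_pow, Invol.sq_of_two h2]
      have h4 : (x ^ i) ^ 2 = 1 := by
        have : (x ^ i) ^ 2 ∈ zpowers x ⊓ zpowers y := mem_inf.2 ⟨pow_mem (zpow_mem_zpowers x i) 2,
          by rw [h3]; exact inv_mem (pow_mem (zpow_mem_zpowers y j) 2)⟩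
        rwa [hd] at this
      have h5 : (y ^ j) ^ 2 = 1 := by rwa [h4, eq_comm, inv_eq_one] at h3
      by_cases h6 : x ^ i = 1 <;> by_cases h7 : y ^ j = 1
      · rw [h6, h7, one_mul, orderOf_one] at h2; omega
      · rw [h6, one_mul]
        exact Or.inr (Or.inl (Invol.eq_of_mem_zpowers (zpow_mem_zpowers y j) ht
          (Invol.two_of_sq h5 h7) ht2))
      · rw [h7, mul_one]
        exact Or.inl (Invol.eq_of_mem_zpowers (zpow_mem_zpowers x i) hs (Invol.two_of_sq h4 h6) hs2)
      · rw [Invol.eq_of_mem_zpowers (zpow_mem_zpowers x i) hs (Invol.two_of_sq h4 h6) hs2,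
          Invol.eq_of_mem_zpowers (zpow_mem_zpowers y j) ht (Invol.two_of_sq h5 h7) ht2]
        exact Or.inr (Or.inr rfl)
  have hzU : z ∉ zpowers x ⊔ zpowers y := fun h => hst (by
    rw [← htdef, (hcomm z h s (mem_sup_left hs)).eq, mul_inv_cancel_right])
  refine rank_two_of_index_two hU (fun e he => ?_) fun a ha b hb c hc h1 h2 h3 h4 => ?_
  · have key : ∀ a ∈ zpowers x ⊔ zpowers y, orderOf a = 2 → Commute e a → a = s * t :=
      fun a ha h2 h3 => by
        have h4 : Commute z a := by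
          rw [← inv_mul_cancel_left e z]
          exact h3.inv_left.mul_left (hcomm _ ((mul_mem_iff_of_index_two hU).2
            (iff_of_false he hzU)) a ha)
        rcases hinv a ha h2 with rfl | rfl | h
        · exact absurd (by rw [← htdef, h4.eq, mul_inv_cancel_right]) hst
        · exact absurd (by rw [← hts, h4.eq, mul_inv_cancel_right]) hst
        · exact h
    exact fun a ha b hb h1 h2 h3 h4 => (key a ha h1 h3).trans (key b hb h2 h4).symm
  · have hV : ∀ a ∈ zpowers x ⊔ zpowers y, orderOf a = 2 → a ∈ closure ({s, t} : Set S) :=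
      fun a ha h2 => (Invol.mem_closure_klein hs2 ht2 hstc a).2 (Or.inr (hinv a ha h2))
    exact (Invol.klein_eq_mul (Invol.isKleinFour_closure hs2 ht2 hst hstc) (hV a ha h1) (hV b hb h2)
      (hV c hc h3) (Invol.ne_one_of_two h1) (Invol.ne_one_of_two h2) h4).resolve_left
      (Invol.ne_one_of_two h3)

/-- Let X be a finite group whose Sylow 2-subgroup S is quasi-dihedral or wreathed, and suppose some involution of S is isolated in X. Then the product of the largest normal odd-order subgroup O(X) with the centre of S is normal in X. -/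
theorem result {X : Type*} [Group X] [Finite X] (S : Sylow 2 X) (hS : Cfsg.IsQuasiDihedral (S : Subgroup X) ∨ Cfsg.IsWreathed (S : Subgroup X)) (z : X) (hzS : z ∈ S) (hz : Cfsg.IsIsolatedInvolution z) : (Cfsg.oddCore X ⊔ (Subgroup.center (S : Subgroup X)).map (S : Subgroup X).subtype).Normal := by
  have hle := Subgroup.map_subtype_le (Subgroup.center (S : Subgroup X))
  have h : ∀ x ∈ (Subgroup.center (S : Subgroup X)).map (S : Subgroup X).subtype, InZStar 2 x :=
    fun x hx => by
      obtain ⟨k, hk⟩ := Lib.Invol.pow_eq_one_of_mem S.2 (hle hx)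
      refine z_star_elt hk (isIsolated_of_rank_two S (fun a ha b hb c hc h1 h2 h3 h4 h5 h6 h7 => ?_)
        hzS hz (hle hx) fun s hs => ?_)
      · have := rank_two hS ⟨a, ha⟩ ⟨b, hb⟩ ⟨c, hc⟩ (by rwa [← Subgroup.orderOf_coe])
          (by rwa [← Subgroup.orderOf_coe]) (by rwa [← Subgroup.orderOf_coe]) (Subtype.ext h4)
          (Subtype.ext h5) (Subtype.ext h6) (by simpa using h7)
        simpa [Subtype.ext_iff] using this
      · obtain ⟨y, h1, rfl⟩ := hx
        exact Lib.Invol.mem_cent.2 (congrArg Subtype.val (Subgroup.mem_center_iff.1 h1 ⟨s, hs⟩))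
  refine ⟨fun n hn g => ?_⟩
  obtain ⟨a, ha, b, hb, rfl⟩ := Subgroup.mem_sup_of_normal_left.1 hn
  rw [show g * (a * b) * g⁻¹ = g * a * g⁻¹ * (g * b * g⁻¹ * b⁻¹) * b by group]
  exact Subgroup.mul_mem_sup (mul_mem (Subgroup.Normal.conj_mem inferInstance a ha g) (h b hb g)) hb

end Cfsg.Agent.S1239
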