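import Cfsg.Statements.S1240
import Cfsg.Agent.Lib.ABG.QGrp

set_option autoImplicit false
open Cfsg Cfsg.Lib Cfsg.Lib.ABG Cfsg.Lib.Invol Cfsg.Lib.Transfer Subgroup

namespace Cfsg.Agent.S1240

theorem aux {C : Type*} [Group C] [Finite C] {T : Subgroup C} (h2 : SylowIn 2 T ⊤) (h3 : QW T) (h4 : ¬ PNil 2 (⊤ : Subgroup C))
    {z : C} (hz : orderOf z = 2) (hc : z ∈ center C) : GW.IsSL2 (commutator (C ⧸ pPrimeCore 2 C)) := by
  have := fact_two
  obtain ⟨h5, h6⟩ := h3.quotient h2
  have h7 := Core.not_dvd_card_pPrimeCore (G := C) Nat.prime_two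
  have hf := QuotientGroup.mk'_surjective (pPrimeCore 2 C)
  obtain ⟨Y, h8⟩ := exists_qg h5 h6 (z := QuotientGroup.mk' _ z)
    (two_iff.2 ⟨by rw [← map_mul, mul_self_of_two hz, map_one], fun e =>
      h7 (hz.symm.dvd.trans (Subgroup.orderOf_dvd_natCard _ ((QuotientGroup.eq_one_iff (N := pPrimeCore 2 C) z).1 e)))⟩)
    (mem_center_iff.2 fun g => by
      obtain ⟨g, rfl⟩ := hf g
      rw [← map_mul, ← map_mul, mem_center_iff.1 hc])
    fun e => h4 (PNil.of_map _ ((map_top_of_surjective _ hf).symm ▸ e) (by rwa [QuotientGroup.ker_mk', inf_top_eq]))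
  exact (h8.sl2 Core.pPrimeCore_quotient_pPrimeCore).1

/-- Let G be a finite group with quasi-dihedral or wreathed Sylow 2-subgroups with no subgroup of index 2 and in which all involutions are conjugate, t an involution, C = C_G(t) and C̄ = C/O(C). Then the commutator subgroup of C̄ is isomorphic to SL(2,F) for some finite field F of odd order. -/
theorem result {G : Type*} [Group G] [Finite G] (S : Sylow 2 G) (hS : Cfsg.IsQuasiDihedral (S : Subgroup G) ∨ Cfsg.IsWreathed (S : Subgroup G)) (hG : ∀ H : Subgroup G, H.index ≠ 2) (hone : ∀ a b : G, orderOf a = 2 → orderOf b = 2 → IsConj a b) (t : G) (ht : orderOf t = 2) : ∃ (F : Type) (_ : Field F) (_ : Fintype F), Odd (Fintype.card F) ∧ Nonempty (↥(commutator (↥(Subgroup.centralizer ({t} : Set G)) ⧸ Cfsg.oddCore ↥(Subgroup.centralizer ({t} : Set G)))) ≃* Matrix.SpecialLinearGroup (Fin 2) F) := by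
  obtain ⟨T, -, h2, h3, h4⟩ := exists_qg_centralizer (sylowIn_top S) hS hG ht
  exact aux h2 h3 h4 (z := ⟨t, mem_cent.2 rfl⟩) ((orderOf_mk_eq _).trans ht) (mem_center_iff.2 fun g => Subtype.ext (mem_cent.1 g.2))

end Cfsg.Agent.S1240
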