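import Cfsg.Statements.S1241
import Cfsg.Agent.Lib.Invol.Transfer2

set_option autoImplicit false
open Cfsg

namespace Cfsg.Agent.S1241
open Cfsg.Lib.Invol

open Subgroup

/-- Let G be a finite group, p a prime, H a subgroup of index prime to p, K a subgroup of H normal in H with H/K commutative, and g ∈ H ∖ K an element of p-power order such that for all integers m and all a ∈ G with a g^m a⁻¹ ∈ H one has a g^m a⁻¹ ∈ g^m K. Then g ∉ G'. -/
theorem result {G : Type*} [Group G] [Finite G] {p : ℕ} [Fact p.Prime] (H K : Subgroup G) (hHK : K ≤ H) (hKn : (K.subgroupOf H).Normal) (hab : ∀ x ∈ H, ∀ y ∈ H, x * y * x⁻¹ * y⁻¹ ∈ K) (hidx : Nat.Coprime p H.index) (g : G) (hgH : g ∈ H) (hgK : g ∉ K) (hgp : ∃ k : ℕ, orderOf g = p ^ k) (hctrl : ∀ (m : ℤ) (a : G), a * g ^ m * a⁻¹ ∈ H → (a * g ^ m * a⁻¹) * (g ^ m)⁻¹ ∈ K) : g ∉ commutator G := by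
  have := hKn
  have hc : ∀ a b : H ⧸ K.subgroupOf H, a * b = b * a := by
    intro a b
    obtain ⟨a, rfl⟩ := QuotientGroup.mk_surjective a
    obtain ⟨b, rfl⟩ := QuotientGroup.mk_surjective b
    rw [← QuotientGroup.mk_mul, ← QuotientGroup.mk_mul, QuotientGroup.eq, mem_subgroupOf]
    have := hab _ (H.inv_mem b.2) _ (H.inv_mem a.2)
    simpa [mul_assoc] using this
  letI : CommGroup (H ⧸ K.subgroupOf H) := { (inferInstance : Group _) with mul_comm := hc }
  let φ : H →* H ⧸ K.subgroupOf H := QuotientGroup.mk' _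
  have key := transfer_eq_pow_of φ g (φ ⟨g, hgH⟩) (by
    intro k g₀ h _
    rw [← map_pow, eq_comm, ← mul_inv_eq_one, ← inv_eq_one, mul_inv_rev, inv_inv, ← map_inv,
      ← map_mul]
    refine (QuotientGroup.eq_one_iff _).mpr (mem_subgroupOf.mpr ?_)
    have := hctrl k g₀⁻¹ (by simpa using h)
    simpa using this)
  intro hg
  have h1 : MonoidHom.transfer φ g = 1 := by
    have := Abelianization.commutator_subset_ker (MonoidHom.transfer φ) hg
    exact this
  rw [key] at h1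
  obtain ⟨k, hk⟩ := hgp
  have h2 : φ ⟨g, hgH⟩ ^ p ^ k = 1 := by
    rw [← map_pow]
    have : (⟨g, hgH⟩ : H) ^ p ^ k = 1 := Subtype.ext (by
      change g ^ p ^ k = 1
      rw [← hk, pow_orderOf_eq_one])
    rw [this, map_one]
  have h3 := Nat.dvd_gcd (orderOf_dvd_of_pow_eq_one h2) (orderOf_dvd_of_pow_eq_one h1)
  rw [Nat.Coprime.pow_left k hidx, Nat.dvd_one, orderOf_eq_one_iff] at h3
  exact hgK (mem_subgroupOf.mp ((QuotientGroup.eq_one_iff _).mp h3))

end Cfsg.Agent.S1241
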