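import Cfsg.Statements.S1242
import Cfsg.Agent.Lib.Invol.Transfer2
import Cfsg.Agent.Lib.Transfer.PNilp

set_option autoImplicit false
open Cfsg

namespace Cfsg.Agent.S1242
open Cfsg.Lib.Invol

open Subgroup Cfsg.Lib.Transfer

/-- Let G be a finite group, p a prime and H a subgroup of index prime to p such that any two elements of H of p-power order that are conjugate in G are conjugate in H. Then (O^p(G)·G') ∩ H = O^p(H)·H', where O^p denotes the subgroup generated by the elements of order prime to p. -/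
theorem result {G : Type*} [Group G] [Finite G] {p : ℕ} [Fact p.Prime] (H : Subgroup G) (hidx : Nat.Coprime p H.index) (hfus : ∀ g ∈ H, (∃ k : ℕ, orderOf g = p ^ k) → ∀ a : G, a * g * a⁻¹ ∈ H → ∃ h ∈ H, h * g * h⁻¹ = a * g * a⁻¹) : (Cfsg.pResidual p G ⊔ commutator G) ⊓ H = (Cfsg.pResidual p ↥H ⊔ commutator ↥H).map H.subtype := by
  have hp : p.Prime := Fact.out
  apply le_antisymm
  · set K : Subgroup H := Cfsg.pResidual p ↥H ⊔ commutator ↥H with hK
    have := Cfsg.Lib.Invol.pResidual_normal (G := H) p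
    have hc : ∀ a b : H ⧸ K, a * b = b * a := by
      intro a b
      obtain ⟨a, rfl⟩ := QuotientGroup.mk_surjective a
      obtain ⟨b, rfl⟩ := QuotientGroup.mk_surjective b
      rw [← QuotientGroup.mk_mul, ← QuotientGroup.mk_mul, QuotientGroup.eq]
      refine mem_sup_right ?_
      have := commutator_mem_commutator (mem_top b⁻¹) (mem_top a⁻¹)
      rw [_root_.commutator_def]
      simpa [commutatorElement_def, mul_assoc] using this
    let _ : CommGroup (H ⧸ K) := { (inferInstance : Group _) with mul_comm := hc }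
    let φ : H →* H ⧸ K := QuotientGroup.mk' _
    have hA : IsPGroup p (H ⧸ K) := by
      intro x
      obtain ⟨x, rfl⟩ := QuotientGroup.mk_surjective x
      obtain ⟨k, hk⟩ := exists_pow_coprime_orderOf (p := p) x
      refine ⟨k, ?_⟩
      rw [← QuotientGroup.mk_pow, QuotientGroup.eq_one_iff]
      exact mem_sup_left (subset_closure hk)
    have hker : Cfsg.pResidual p G ⊔ commutator G ≤ (MonoidHom.transfer φ).ker :=
      sup_le (pResidual_le_ker hA _) (Abelianization.commutator_subset_ker _)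
    rintro h ⟨hh, hH⟩
    obtain ⟨e, m, hm, ho⟩ := Nat.exists_eq_pow_mul_and_not_dvd (orderOf_pos h).ne' p hp.one_lt.ne'
    have h1 : (h ^ m) ^ p ^ e = 1 := by rw [← pow_mul, mul_comm, ← ho, pow_orderOf_eq_one]
    have key := transfer_eq_pow_of φ (h ^ m) (φ ⟨h ^ m, pow_mem hH m⟩) (by
      intro k g₀ hg _
      have h2 : ((h ^ m) ^ k) ^ p ^ e = 1 := by rw [← pow_mul, mul_comm, pow_mul, h1, one_pow]
      obtain ⟨j, -, hj⟩ := (Nat.dvd_prime_pow hp).mp (orderOf_dvd_of_pow_eq_one h2)
      obtain ⟨u, hu, e⟩ := hfus ((h ^ m) ^ k) (pow_mem (pow_mem hH m) k) ⟨j, hj⟩ g₀⁻¹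
        (by simpa using hg)
      have : (⟨_, hg⟩ : H) = ⟨u, hu⟩ * ⟨h ^ m, pow_mem hH m⟩ ^ k * ⟨u, hu⟩⁻¹ :=
        Subtype.ext (by simpa using e.symm)
      rw [this, map_mul, map_mul, map_inv, mul_inv_cancel_comm, map_pow])
    have h3 : MonoidHom.transfer φ (h ^ m) = 1 := pow_mem (hker hh) m
    rw [key] at h3
    have h4 : φ ⟨h, hH⟩ ^ (m * H.index) = 1 := by
      rw [pow_mul, ← map_pow]; exact h3
    obtain ⟨j, hj⟩ := hA (φ ⟨h, hH⟩)
    have h5 := Nat.dvd_gcd (orderOf_dvd_of_pow_eq_one hj) (orderOf_dvd_of_pow_eq_one h4)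
    rw [Nat.Coprime.pow_left j (Nat.Coprime.mul_right ((Nat.Prime.coprime_iff_not_dvd hp).mpr hm)
      hidx), Nat.dvd_one, orderOf_eq_one_iff] at h5
    exact ⟨⟨h, hH⟩, (QuotientGroup.eq_one_iff _).mp h5, rfl⟩
  · refine le_inf ?_ (map_subtype_le _)
    rw [Subgroup.map_sup, map_pResidual, ← resOf_top]
    refine sup_le_sup (resOf_mono le_top) ?_
    rw [_root_.commutator_def, map_commutator]
    exact commutator_mono le_top le_top

end Cfsg.Agent.S1242
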