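import Cfsg.Statements.S1244
import Cfsg.Agent.Lib.Invol.Transfer2
import Cfsg.Agent.Lib.Transfer.Frobenius
import Cfsg.Agent.Lib.PGrp.OmegaBasic

set_option autoImplicit false
open Cfsg

namespace Cfsg.Agent.S1244
open Cfsg.Lib.Invol

open Subgroup Cfsg.Lib.Transfer Cfsg.Lib.PGrp

/-- Let G be a finite group with no subgroup of index 2 whose Sylow 2-subgroup S is commutative, and let R ≤ S be a subgroup whose 2-rank is exactly one less than the 2-rank r of S. Then every involution of S is conjugate, by an element of N_G(S), to an element of R. -/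
theorem result {G : Type*} [Group G] [Finite G] (hG : ∀ H : Subgroup G, H.index ≠ 2) (S : Sylow 2 G) (hS : IsMulCommutative (S : Subgroup G)) (r : ℕ) (hr1 : 1 ≤ r) (hSr : Cfsg.PRankLE 2 r (S : Subgroup G) ∧ ¬ Cfsg.PRankLE 2 (r - 1) (S : Subgroup G)) (R : Subgroup G) (hRS : R ≤ S) (hRr : Cfsg.PRankLE 2 (r - 1) R ∧ (r = 1 ∨ ¬ Cfsg.PRankLE 2 (r - 2) R)) (t : G) (ht : orderOf t = 2) (htS : t ∈ S) : ∃ n ∈ Subgroup.normalizer ((S : Subgroup G) : Set G), n * t * n⁻¹ ∈ R := by
  have := fact_two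
  by_contra hno
  push Not at hno
  obtain ⟨E, hER, hE, hE4⟩ : ∃ E ≤ R, Cfsg.IsElementaryAbelian 2 E ∧ 2 ^ r < 2 * (2 * Nat.card E) := by
    rcases Nat.lt_or_ge r 2 with h | h
    · refine ⟨⊥, bot_le, isElementaryAbelian_bot 2, ?_⟩
      obtain rfl : r = 1 := by omega
      simp
    · have h1 := hRr.2.resolve_left (by omega)
      rw [pRankLE_subgroup_iff] at h1
      push Not at h1
      obtain ⟨E, h1, h2, h3⟩ := h1
      refine ⟨E, h1, h2, ?_⟩
      obtain ⟨k, rfl⟩ : ∃ k, r = k + 2 := ⟨r - 2, by omega⟩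
      rw [Nat.add_sub_cancel] at h3
      rw [pow_add]; omega
  have hSC : (S : Subgroup G) ≤ centralizer ((S : Subgroup G) : Set G) := fun x hx =>
    mem_centS.mpr fun y hy => commute_of_mulComm hS hx hy
  have hsup : ∀ E ≤ (S : Subgroup G), Cfsg.IsElementaryAbelian 2 E → ∀ x ∈ S, orderOf x = 2 →
      Cfsg.IsElementaryAbelian 2 (E ⊔ zpowers x) ∧
        (x ∉ E → Nat.card ↥(E ⊔ zpowers x) = 2 * Nat.card E) := by
    intro E hE hEe x hx ho
    have hxc : x ∈ centralizer (E : Set G) := centralizer_le (SetLike.coe_subset_coe.mpr hE) (hSC hx)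
    refine ⟨⟨isMulCommutative_sup_zpowers hEe.1 hxc, pow_eq_one_of_mem_sup (by rwa [zpowers_le])
      hEe.2 ?_⟩, fun hxE => card_sup_zpowers_of_mem_normalizer (centralizer_le_normalizer _ hxc)
      hxE (by rw [sq_of_two ho]; exact one_mem _)⟩
    rintro _ ⟨k, rfl⟩
    change (x ^ k) ^ 2 = 1
    rw [← zpow_natCast, ← zpow_mul, mul_comm, zpow_mul, zpow_natCast, sq_of_two ho, one_zpow]
  have htR : t ∉ R := by simpa using hno 1 (one_mem _)
  have key : ∀ y ∈ S, orderOf y = 2 → y ∉ R → t⁻¹ * y ∈ R := by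
    intro y hy ho hyR
    have hES := hER.trans hRS
    obtain ⟨h1, h2⟩ := hsup E hES hE t htS ht
    have hle : E ⊔ zpowers t ≤ S := sup_le hES (by rwa [zpowers_le])
    obtain ⟨h3, h4⟩ := hsup _ hle h1 y hy ho
    have hmem : y ∈ E ⊔ zpowers t := by
      by_contra hc
      have := pRankLE_subgroup_iff.mp hSr.1 _ (sup_le hle (by rwa [zpowers_le])) h3
      rw [h4 hc, h2 (fun e => htR (hER e))] at this
      omega
    obtain ⟨a, ha, k, rfl⟩ := (mem_sup_zpowers_of_mem_normalizer (centralizer_le_normalizer _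
      (centralizer_le (SetLike.coe_subset_coe.mpr hES) (hSC htS)))).mp hmem
    have hk : t ^ k = 1 ∨ t ^ k = t := by
      rcases Int.even_or_odd' k with ⟨j, rfl | rfl⟩
      · left; rw [zpow_mul, zpow_ofNat, sq_of_two ht, one_zpow]
      · right; rw [zpow_add, zpow_mul, zpow_ofNat, sq_of_two ht, one_zpow, one_mul, zpow_one]
    rcases hk with hk | hk
    · rw [hk, mul_one] at hyR; exact absurd (hER ha) hyR
    · rw [hk, (commute_of_mulComm hS (hES ha) htS).eq, inv_mul_cancel_left]; exact hER ha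
  let _ : CommGroup (S : Subgroup G) := { (inferInstance : Group _) with mul_comm := hS.is_comm.comm }
  let φ := QuotientGroup.mk' (R.subgroupOf (S : Subgroup G))
  have h2 : φ ⟨t, htS⟩ ^ 2 = 1 := by
    rw [← map_pow]
    have : (⟨t, htS⟩ : (S : Subgroup G)) ^ 2 = 1 := Subtype.ext (sq_of_two ht)
    rw [this, map_one]
  have hV := transfer_eq_pow_of φ t (φ ⟨t, htS⟩) (by
    intro k g₀ hg hk
    rw [ht] at hk
    rcases (Nat.dvd_prime Nat.prime_two).mp hk with rfl | rfl
    · rw [pow_one (φ _), eq_comm]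
      refine QuotientGroup.eq.mpr (mem_subgroupOf.mpr (key _ hg (by simp [orderOf_conj', ht]) ?_))
      obtain ⟨n, hn, e⟩ := (sylowIn_top S).exists_normalizer_conj_eq (mem_top g₀⁻¹) (hSC htS)
        (hSC (by simpa using hg))
      have := hno n hn.2
      rw [e] at this
      simpa using this
    · rw [h2]
      have : (⟨_, hg⟩ : (S : Subgroup G)) = 1 := Subtype.ext (by simp [sq_of_two ht])
      rw [this, map_one])
  obtain ⟨m, hm⟩ := odd_index_sylow S
  rw [hm, pow_succ, pow_mul, h2, one_pow, one_mul] at hV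
  obtain ⟨K, hK⟩ := exists_index_two_of_hom (S.2.to_quotient (R.subgroupOf (S : Subgroup G)))
    (MonoidHom.transfer φ) (g := t) (by
      rw [hV]; exact fun e => htR (mem_subgroupOf.mp ((QuotientGroup.eq_one_iff _).mp e)))
  exact hG K hK

end Cfsg.Agent.S1244
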