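import Cfsg.Statements.S1245
import Cfsg.Agent.Lib.Layer.Misc
import Cfsg.Agent.Lib.Wal.Main
import Cfsg.Agent.Lib.Known.PSL2

set_option autoImplicit false
open Cfsg

namespace Cfsg.Agent.S1245

open Subgroup Cfsg.Lib.Core Cfsg.Lib.Amalg Cfsg.Lib.BG1 Cfsg.Lib.Layer

theorem dvd24 (q : ℕ) (h : Odd q) : 24 ∣ q * (q - 1) * (q + 1) := by
  obtain ⟨k, rfl⟩ := h
  rw [Nat.add_sub_cancel]
  have h1 : (2 * k + 1) * (2 * k) * (2 * k + 1 + 1) = 4 * (k * (k + 1) * (2 * k + 1)) := by ring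
  rw [h1]
  refine Nat.mul_dvd_mul_left 4 (show 6 ∣ k * (k + 1) * (2 * k + 1) from ?_)
  apply Nat.dvd_of_mod_eq_zero
  have : k % 6 < 6 := Nat.mod_lt _ (by norm_num)
  rw [Nat.mul_mod, Nat.mul_mod k, Nat.add_mod k, Nat.add_mod (2 * k), Nat.mul_mod 2 k]
  generalize k % 6 = r at *
  interval_cases r <;> rfl


/-- Let G be a non-abelian finite simple group with commutative Sylow 2-subgroups, and t an involution whose centralizer is the internal direct product of ⟨t⟩ and a subgroup E which has a normal subgroup E₀ ≅ PSL(2,F), |F| odd, with C_E(E₀) = 1 (so PSL(2,q) ≤ E ≤ Aut PSL(2,q)). Then C_G(t) is a maximal subgroup of G. -/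
theorem result {G : Type*} [Group G] [Finite G] [IsSimpleGroup G] (hna : ¬ IsMulCommutative G) (S : Sylow 2 G) (hS : IsMulCommutative (S : Subgroup G)) (t : G) (ht : orderOf t = 2) (E E₀ : Subgroup G) (hprod : Cfsg.IsInternalDirectProduct (Subgroup.zpowers t) E (Subgroup.centralizer ({t} : Set G))) (hE₀E : E₀ ≤ E) (hE₀n : (E₀.subgroupOf E).Normal) (hE₀ : ∃ (F : Type) (_ : Field F) (_ : Fintype F), Odd (Fintype.card F) ∧ Nonempty (E₀ ≃* Matrix.ProjectiveSpecialLinearGroup (Fin 2) F)) (hCE : E ⊓ Subgroup.centralizer (E₀ : Set G) = ⊥) : IsCoatom (Subgroup.centralizer ({t} : Set G)) := by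
  obtain ⟨F, _, _, hF, ⟨e⟩⟩ := hE₀
  have h12 : 12 ∣ Nat.card E₀ := by
    have h3 := Lib.Linear.card_PSL_two_of_odd (F := F) (Nat.card_eq_fintype_card (α := F) ▸ hF)
    rw [← Nat.card_congr e.toEquiv] at h3
    have := dvd24 _ (Nat.card_eq_fintype_card (α := F) ▸ hF : Odd (Nat.card F))
    rw [← h3] at this
    exact Nat.dvd_of_mul_dvd_mul_left two_pos this
  obtain ⟨h1, h2, h3, h4, h5⟩ := hprod
  have hE : 12 ∣ Nat.card E := h12.trans (card_dvd_of_le hE₀E)
  rcases (Lib.Wal.walter_aux G inferInstance hna S (syl_top S) hS).2 with ⟨h, -⟩ | ⟨-, K, _, _, ⟨n, hn, hK⟩, ⟨f⟩⟩ | ⟨s, E', K, h⟩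
  · exfalso
    have h6 := Lib.Core.card_sup_of_disjoint (le_normalizer_of_commutator_eq_bot (commutator_eq_bot_of_forall h3)) h4
    rw [Nat.card_zpowers, ht] at h6
    have h7 : 2 ^ 3 ∣ Nat.card G := by
      refine Dvd.dvd.trans ?_ (card_subgroup_dvd_card (zpowers t ⊔ E))
      rw [h6]
      exact Nat.mul_dvd_mul_left 2 (Dvd.dvd.trans (show 4 ∣ 12 by norm_num) hE)
    have := S.pow_dvd_card_of_pow_dvd_card (n := 3) h7
    omega
  · exfalso
    haveI : Fact (Nat.Prime 3) := ⟨by norm_num⟩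
    obtain ⟨y, hy⟩ := exists_prime_orderOf_dvd_card' 3 (Dvd.dvd.trans (by norm_num) hE)
    have hc : Commute t (y : G) := h3 t (mem_zpowers t) y y.2
    have h6 : orderOf (t * y) = 6 := by
      rw [hc.orderOf_mul_eq_mul_orderOf_of_coprime, ht, Subgroup.orderOf_coe, hy]
      rw [ht, Subgroup.orderOf_coe, hy]; norm_num
    haveI : CharP K 2 := by
      obtain ⟨p, hp⟩ := CharP.exists K
      obtain ⟨m, hp', hm⟩ := FiniteField.card K p
      have : p ∣ 2 ^ n := by rw [← hK, hm]; exact dvd_pow_self p m.ne_zero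
      obtain rfl := (Nat.prime_dvd_prime_iff_eq hp' Nat.prime_two).1 (hp'.dvd_of_dvd_pow this)
      exact hp
    have h7 := (Lib.Known.PSL2_spectrum (F := K) 2 6).1 ⟨f (t * y), by rw [MulEquiv.orderOf_eq, h6]⟩
    rw [Nat.card_eq_fintype_card, hK] at h7
    obtain ⟨m, rfl⟩ := Nat.exists_eq_add_of_le' hn
    have h8 : 2 ^ (m + 2) = 4 * 2 ^ m := by ring
    have h9 := Nat.one_le_two_pow (n := m)
    have h10 : Nat.gcd 2 (2 ^ (m + 2) - 1) = 1 := by
      rw [h8]
      exact (Nat.coprime_two_left.2 ⟨2 * 2 ^ m - 1, by omega⟩)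
    rw [h10, h8] at h7
    omega
  · obtain ⟨g, rfl⟩ := h.one t ht
    rw [← cj_centralizer_singleton]
    exact isCoatom_cj h.coatom

end Cfsg.Agent.S1245
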