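import Cfsg.Statements.S1246
import Cfsg.Agent.Lib.Layer.Bender

set_option autoImplicit false
open Cfsg

namespace Cfsg.Agent.S1246

open Subgroup Cfsg.Lib.Core Cfsg.Lib.Amalg Cfsg.Lib.BG1 Cfsg.Lib.Layer

/-- Let V ≤ U be p-subgroups of the finite group G. If the generalized Fitting subgroup of C_G(V) is a p-group, then so is that of C_G(U). -/
theorem result {G : Type*} [Group G] [Finite G] {p : ℕ} [Fact p.Prime] (U V : Subgroup G) (hVU : V ≤ U) (hU : IsPGroup p U) (hV : IsPGroup p ↥(Cfsg.generalizedFittingSubgroup ↥(Subgroup.centralizer (V : Set G)))) : IsPGroup p ↥(Cfsg.generalizedFittingSubgroup ↥(Subgroup.centralizer (U : Set G))) := by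
  rw [← fstar_eq_pCore_iff_isPGroup, fstar_eq_pCore_iff] at hV ⊢
  induction V using WellFoundedGT.induction with
  | _ V ih =>
  rcases hVU.eq_or_lt with rfl | h
  · exact hV
  · refine ih (U ⊓ 𝐍(V)) (lt_inf_normalizer_of_lt hU h) inf_le_left ?_
    have := charP_inf_centralizer (P := U ⊓ 𝐍(V)) inf_le_right
      ((charP_normalizer_iff_centralizer (hU.to_le hVU)).2 hV) hU.to_inf_left
    rwa [inf_of_le_right ((centralizer_le (lt_inf_normalizer_of_lt hU h).le).trans (centralizer_le_normalizer _))] at this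

end Cfsg.Agent.S1246
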