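import Cfsg.Statements.S1247
import Cfsg.Agent.Lib.Layer.Bender

set_option autoImplicit false
open Cfsg

namespace Cfsg.Agent.S1247

open Subgroup Cfsg.Lib.Core Cfsg.Lib.Amalg Cfsg.Lib.BG1 Cfsg.Lib.Layer

/-- Let G be a non-abelian finite simple group, A a maximal subgroup, F = F*(A) its generalized Fitting subgroup (viewed in G), and S ≤ F a subgroup subnormal in F with C_F(S) ≤ S. Let B be any subgroup of G containing S. Then (a) for every prime q not dividing |F(A)|, O_q(B) ∩ A = 1; and (b) for every prime p dividing |F(A)|, O_p(B) commutes elementwise with the subgroup of F generated by its elements of order prime to p. -/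
theorem result {G : Type*} [Group G] [Finite G] [IsSimpleGroup G] (hna : ¬ IsMulCommutative G) (A : Subgroup G) (hA : IsCoatom A) (S : Subgroup G) (hSF : S ≤ (Cfsg.generalizedFittingSubgroup ↥A).map A.subtype) (hSsn : (S.subgroupOf ((Cfsg.generalizedFittingSubgroup ↥A).map A.subtype)).IsSubnormal) (hSC : (Cfsg.generalizedFittingSubgroup ↥A).map A.subtype ⊓ Subgroup.centralizer (S : Set G) ≤ S) (B : Subgroup G) (hSB : S ≤ B) : (∀ q : ℕ, q.Prime → ¬ q ∣ Nat.card (Cfsg.fittingSubgroup ↥A) → (Cfsg.pCore q ↥B).map B.subtype ⊓ A = ⊥) ∧ (∀ p : ℕ, p.Prime → p ∣ Nat.card (Cfsg.fittingSubgroup ↥A) → ∀ x ∈ (Cfsg.pCore p ↥B).map B.subtype, ∀ y ∈ (Cfsg.pResidual p ↥(Cfsg.generalizedFittingSubgroup ↥A)).map ((Cfsg.generalizedFittingSubgroup ↥A).subtype) , x * (A.subtype y) = (A.subtype y) * x) := by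
  change S ≤ 𝐅⋆(A) at hSF
  change 𝐅⋆(A) ⊓ 𝐂(S) ≤ S at hSC
  have hFA : 𝐅⋆(A) ≤ A := map_subtype_le _
  have hSA := hSF.trans hFA
  have hsn : (S.subgroupOf A).IsSubnormal := isSubnormal_subgroupOf_trans hSF hFA hSsn
    (isSubnormal_subgroupOf_of_le_normalizer (le_normalizer.trans (normalizer_le_normalizer_fstarOf A)))
  have hE : 𝐄(A) ≤ S := layerOf_le_iff.2 fun L h1 h2 =>
    (component_of_le_or_commutator_eq_bot_of_isSubnormal h1 h2 hSA hsn).elim id fun h =>
      (le_inf ((le_layerOf h1 h2).trans (layerOf_le_fstarOf A)) (comm_eq_bot_iff.1 h)).trans hSC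
  have hS : S ≤ 𝐄(A) ⊔ (S ⊓ fittingOf A) := fun x hx => by
    obtain ⟨a, ha, b, hb, rfl⟩ := (mem_sup_of_le_normalizer_left ((fitOf_le A).trans (le_norm_layerOf le_normalizer))).1
      (fstarOf_eq' A ▸ hSF hx)
    exact mul_mem (mem_sup_left ha) (mem_sup_right ⟨by simpa using mul_mem (inv_mem (hE ha)) hx, hb⟩)
  have hnil : Group.IsNilpotent (S ⊓ fittingOf A : Subgroup G) :=
    haveI := fittingOf_nilpotent A; Group.nilpotent_of_mulEquiv (subgroupOfEquivOfLe inf_le_right)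
  have key : ∀ p : ℕ, p.Prime → 𝐎'[p](fittingOf A) ⊓ 𝐂(S ⊓ 𝐎'[p](fittingOf A)) ≤ S := fun p hp => by
    refine le_trans (le_inf (inf_le_left.trans ((piCoreOf_le _).trans (fitOf_le_fstarOf A)))
      (le_trans ?_ (cent_anti hS))) hSC
    rw [Lib.Core.centralizer_sup, ← piCoreOf_sup_compl_of_nilpotent {p} hnil, Lib.Core.centralizer_sup]
    refine le_inf (inf_le_left.trans ((piCoreOf_le _).trans (Lib.BG1.le_cent_symm (layerOf_le_cent_fitOf A))))
      (le_inf (inf_le_left.trans (Lib.BG1.le_cent_symm (le_trans ?_ (piCoreOf_le_cent_compl {p} _))))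
        (inf_le_right.trans (cent_anti (le_inf ((piCoreOf_le _).trans inf_le_left) ?_)))) <;>
    exact le_piCoreOf_of_nil (fittingOf_nilpotent A) ((piCoreOf_le _).trans inf_le_right) (isPi_piCoreOf' _ _)
  have n : ∀ p : ℕ, S ≤ 𝐍(𝐎[p](B) ⊓ A) := fun p =>
    le_normalizer_inf (le_norm_piCoreOf _ (hSB.trans le_normalizer)) (le_normalizer_of_le hSA)
  have nR : ∀ p : ℕ, A ≤ 𝐍(𝐎'[p](fittingOf A)) := fun p => le_norm_piCoreOf _ (le_norm_fittingOf le_normalizer)
  have k1 : ∀ p : ℕ, p.Prime → S ⊓ 𝐎'[p](fittingOf A) ≤ 𝐂(𝐎[p](B) ⊓ A) := fun p hp =>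
    comm_eq_bot_iff.1 (eq_bot_iff.2 ((le_inf (comm_le_right (inf_le_left.trans (n p)))
      ((commutator_mono inf_le_right le_rfl).trans (comm_le_left (inf_le_right.trans (nR p))))).trans
        (inf_eq_bot_of_isPGroup_of_not_dvd hp ((pgroup_pCoreOf hp B).to_le inf_le_left)
          (not_dvd_card_pPrimeCoreOf hp _)).le))
  have k2 : ∀ p : ℕ, p.Prime → 𝐎[p](B) ⊓ A ≤ 𝐂(𝐄(A) ⊔ 𝐎'[p](fittingOf A)) := fun p hp => by
    have hX := (pgroup_pCoreOf hp B).to_le (inf_le_left : 𝐎[p](B) ⊓ A ≤ _)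
    rw [Lib.Core.centralizer_sup]
    refine le_inf (Lib.BG1.le_cent_symm (layerOf_le_cent_of_solvable inf_le_right (hE.trans (n p))
      (solvable_of_pgroup hp hX))) (coprime_nil_faithful (inf_le_right.trans (nR p))
        (coprime_of_isPGroup_of_not_dvd hp hX (not_dvd_card_pPrimeCoreOf hp _)) ?_ ?_)
    · haveI := fittingOf_nilpotent A
      exact Group.nilpotent_of_mulEquiv (subgroupOfEquivOfLe (piCoreOf_le _))
    · exact (le_inf ((inf_le_inf_left _ (cent_anti (le_inf inf_le_right (k1 p hp)))).trans (key p hp)) inf_le_left).trans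
        (k1 p hp)
  have hc : Nat.card (fittingOf A) = Nat.card (fittingSubgroup A) := card_map_of_injective A.subtype_injective
  refine ⟨fun q hq h => ?_, fun p hp h => ?_⟩
  · rw [map_pCore_subtype hq]
    rw [← hc] at h
    have h2 := k2 q hq
    rw [pPrimeCoreOf_eq_self hq h, Lib.Core.centralizer_sup] at h2
    exact eq_bot_iff.2 ((le_inf le_rfl (le_fitOf_of_cent inf_le_right (h2.trans inf_le_left) (h2.trans inf_le_right))).trans
      (inf_eq_bot_of_isPGroup_of_not_dvd hq ((pgroup_pCoreOf hq B).to_le inf_le_left) h).le)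
  haveI := Fact.mk hp
  have h0 : 𝐎[p](A) ≠ ⊥ := fun e => by
    rw [← hc, ← fitOf_eq_sup hp A, e, bot_sup_eq] at h; exact not_dvd_card_pPrimeCoreOf hp _ h
  have hZ : ∀ X, X ≤ fittingOf A → X ≤ 𝐂(fittingOf A) → X ≤ S := fun X h1 h2 =>
    (le_inf (h1.trans (fitOf_le_fstarOf A)) (le_trans (by
      rw [fstarOf_eq', Lib.Core.centralizer_sup]
      exact le_inf (h1.trans (Lib.BG1.le_cent_symm (layerOf_le_cent_fitOf A))) h2) (cent_anti hSF))).trans hSC
  have hZp : 𝐎[p](A) ⊓ 𝐂(𝐎[p](A)) ≤ S := hZ _ (inf_le_left.trans (pCoreOf_le_fitting hp A)) (by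
    rw [← fitOf_eq_sup hp A, Lib.Core.centralizer_sup]
    exact le_inf inf_le_right (inf_le_left.trans (pCoreOf_fittingOf hp A ▸ piCoreOf_le_cent_compl _ _)))
  have c : 𝐂(𝐎[p](A) ⊓ 𝐂(𝐎[p](A))) ≤ A := (centralizer_le_normalizer _).trans
    (coatom_norm_le hA (center_pCoreOf_ne_bot hp h0) (inf_le_left.trans (piCoreOf_le _)) (le_norm_center_pCoreOf A))
  have hr : ∀ X, X ≤ A → X ≤ 𝐅⋆(A) → pResidualOf p X ≤ 𝐄(A) ⊔ 𝐎'[p](fittingOf A) := fun X h1 h2 =>
    res_le_of_le_sup (P := 𝐎[p](A)) (pgroup_pCoreOf hp A)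
      ((piCoreOf_le _).trans (le_normalizer_sup (le_norm_layerOf le_normalizer) (nR p)))
      (h2.trans ((fstarOf_eq' A).le.trans (sup_le (le_sup_of_le_left le_sup_left) ((fitOf_eq_sup hp A).ge.trans
        (sup_le le_sup_right (le_sup_of_le_left le_sup_right))))))
  have h1 : pResidualOf p S ≤ 𝐂(𝐎[p](B)) := by
    refine thompson_PxQ_res (P := 𝐎[p](A) ⊓ 𝐂(𝐎[p](A))) ((pgroup_pCoreOf hp A).to_le inf_le_left) (pgroup_pCoreOf hp B)
      ((hr S hSA hSF).trans (sup_le ((layerOf_le_cent_fitOf A).trans (cent_anti (inf_le_left.trans (pCoreOf_le_fitting hp A))))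
        (Lib.BG1.le_cent_symm (inf_le_left.trans (pCoreOf_fittingOf hp A ▸ piCoreOf_le_cent_compl _ _)))))
      (le_norm_piCoreOf _ ((res_le S).trans (hSB.trans le_normalizer)))
      (le_norm_piCoreOf _ (hZp.trans (hSB.trans le_normalizer)))
      ((inf_le_inf_left _ c).trans ((k2 p hp).trans (cent_anti (hr S hSA hSF))))
  have h2 : 𝐎[p](B) ≤ 𝐂(𝐄(A) ⊔ 𝐎'[p](fittingOf A)) := by
    by_cases e : 𝐎'[p](fittingOf A) = ⊥
    · rw [e, sup_bot_eq]
      exact Lib.BG1.le_cent_symm ((le_res_of_perfect (layerOf_commutator_self A) hE).trans h1)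
    refine le_trans (le_inf le_rfl ?_) (k2 p hp)
    haveI : Group.IsNilpotent 𝐎'[p](fittingOf A) := haveI := fittingOf_nilpotent A
      Group.nilpotent_of_mulEquiv (subgroupOfEquivOfLe (piCoreOf_le _))
    refine (Lib.BG1.le_cent_symm (le_trans (le_res_of_coprime (hZ _ (inf_le_left.trans (piCoreOf_le _)) ?_) ?_) h1)).trans
      ((centralizer_le_normalizer _).trans (coatom_norm_le hA
        (inf_centralizer_ne_bot_of_nilpotent (L := 𝐎'[p](fittingOf A)) le_rfl le_rfl le_normalizer e)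
        (inf_le_left.trans ((piCoreOf_le _).trans (fitOf_le A)))
        (le_normalizer_inf (nR p) (le_normalizer_centralizer (nR p)))))
    · conv_rhs => rw [← fitOf_eq_sup hp A, Lib.Core.centralizer_sup]
      exact le_inf (inf_le_left.trans (Lib.BG1.le_cent_symm (pCoreOf_fittingOf hp A ▸ piCoreOf_le_cent_compl _ _))) inf_le_right
    · exact ((Nat.Prime.coprime_iff_not_dvd hp).2 fun d =>
        not_dvd_card_pPrimeCoreOf hp _ (d.trans (card_dvd_of_le inf_le_left))).symm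
  intro x hx y hy
  rw [map_pCore_subtype hp] at hx
  refine (h2 hx _ (hr _ hFA le_rfl ?_)).symm
  rw [← res_def] at hy
  exact (res_map_subtype _).ge ⟨y, hy, rfl⟩

end Cfsg.Agent.S1247
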