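import Cfsg.Statements.S1250
import Cfsg.Agent.Lib.Invol.Closed

set_option autoImplicit false
open Cfsg

namespace Cfsg.Agent.S1250
open Cfsg.Lib.Invol

open Cfsg.Lib.Transfer

/-- Let S be a Sylow p-subgroup of the finite group G, A ≤ S strongly closed in S, and N a normal subgroup. Then the image of A in G ⧸ N is strongly closed in the image of S (which is a Sylow p-subgroup of G ⧸ N). -/
theorem result {G : Type*} [Group G] [Finite G] {p : ℕ} [Fact p.Prime] (S : Sylow p G) (A : Subgroup G) (hA : Cfsg.IsStronglyClosed A (S : Subgroup G)) (N : Subgroup G) [N.Normal] : Cfsg.IsStronglyClosed (A.map (QuotientGroup.mk' N)) ((S : Subgroup G).map (QuotientGroup.mk' N)) := by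
  refine ⟨Subgroup.map_mono hA.1, ?_⟩
  rintro _ ⟨a, ha, rfl⟩ g ⟨s, hs, hsg⟩
  obtain ⟨g, rfl⟩ := QuotientGroup.mk'_surjective N g
  have hmem : g * a * g⁻¹ ∈ (S : Subgroup G) ⊔ N := by
    have h1 : s⁻¹ * (g * a * g⁻¹) ∈ N := by
      rw [← QuotientGroup.eq]
      simpa using hsg
    have : g * a * g⁻¹ = s * (s⁻¹ * (g * a * g⁻¹)) := by group
    rw [this]
    exact Subgroup.mul_mem _ (Subgroup.mem_sup_left hs) (Subgroup.mem_sup_right h1)
  obtain ⟨k, hk⟩ := pow_eq_one_of_mem S.2 (hA.1 ha)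
  have hk' : (g * a * g⁻¹) ^ p ^ k = 1 := by rw [conj_pow, hk]; group
  obtain ⟨h, hh, hle⟩ := exists_conj_le_sylow_of_le S (le_sup_left : _ ≤ (S : Subgroup G) ⊔ N)
    (isPGroup_zpowers hk') (by rwa [Subgroup.zpowers_le])
  have h2 := hle _ (Subgroup.mem_zpowers _)
  have hh' : h ∈ ((S : Subgroup G) ⊔ N : Subgroup G) := hh
  rw [← SetLike.mem_coe, Subgroup.mul_normal] at hh'
  obtain ⟨t, ht, n, hn, rfl⟩ := hh'
  have h3 : (n * g) * a * (n * g)⁻¹ ∈ (S : Subgroup G) := by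
    have e : (n * g) * a * (n * g)⁻¹ = t⁻¹ * (t * n * (g * a * g⁻¹) * (t * n)⁻¹) * t := by group
    rw [e]
    exact Subgroup.mul_mem _ (Subgroup.mul_mem _ (Subgroup.inv_mem _ ht) h2) ht
  refine ⟨_, hA.2 a ha _ h3, ?_⟩
  have : (n : G ⧸ N) = 1 := (QuotientGroup.eq_one_iff n).mpr hn
  simp [this]

end Cfsg.Agent.S1250
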