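import Cfsg.Statements.S1253
import Cfsg.Agent.S1187
import Cfsg.Agent.Lib.BS.Ben1

set_option autoImplicit false
open Cfsg Cfsg.Lib Cfsg.Lib.Invol Cfsg.Lib.Transfer Subgroup

namespace Cfsg.Agent.S1253

/-- Let z be an isolated involution of the finite group G with centralizer C, p an odd prime and P a Sylow p-subgroup of G normalized by z. Then P ∩ C has p-power-free index in C (it is a Sylow p-subgroup of C), and |P : C_P(z)| equals the number of elements x ∈ P with z x z⁻¹ = x⁻¹. -/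
theorem result {G : Type*} [Group G] [Finite G] (z : G) (hz : Cfsg.IsIsolatedInvolution z) {p : ℕ} [Fact p.Prime] (hp : p ≠ 2) (P : Sylow p G) (hzP : z ∈ Subgroup.normalizer ((P : Subgroup G) : Set G)) : ¬ p ∣ ((P : Subgroup G) ⊓ Subgroup.centralizer ({z} : Set G)).relIndex (Subgroup.centralizer ({z} : Set G)) ∧ ((P : Subgroup G) ⊓ Subgroup.centralizer ({z} : Set G)).relIndex (P : Subgroup G) = Nat.card {x : G // x ∈ P ∧ z * x * z⁻¹ = x⁻¹} := by
  have h0 := mul_self_of_two hz.1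
  refine ⟨?_, ?_⟩
  · obtain ⟨R, h1⟩ := exists_sylowIn (p := p) (centralizer ({z} : Set G))
    obtain ⟨Q, h2, h3, h4⟩ := S1187.aux hz h1.2 (centralizer_le_normalizer _ (mem_centS.2 fun x hx => (mem_cent.1 (h1.1 hx)).symm))
    obtain ⟨g, -, rfl⟩ := (sylowIn_top P).exists_cj_eq h2
    have h5 : g⁻¹ * z * g⁻¹⁻¹ ∈ normalizer ((P : Subgroup G) : Set G) := by
      rw [← cj_normalizer, mem_cj] at h4; rwa [inv_inv]
    obtain ⟨m, hm⟩ := isolated_exists_conj hz (IsConj.refl z) (isConj_conj g⁻¹ z)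
    have h6 := pow_mem (mul_mem hzP h5) m
    generalize (z * (g⁻¹ * z * g⁻¹⁻¹)) ^ m = n at hm h6
    have h7 : g * n ∈ centralizer ({z} : Set G) :=
      mem_cent.2 (mul_inv_eq_iff_eq_mul.1 (by rw [mul_inv_rev, mul_assoc g, mul_assoc g, ← mul_assoc (n * z), hm]; group))
    have h8 : R ≤ cj (g * n) (P ⊓ centralizer {z}) := fun x hx => mem_cj.2 (mem_inf.2 ⟨by
      rw [← cj_eq_of_mem_normalizer h6, ← cj_mul] at h3; exact mem_cj.1 (h3 hx),
      mul_mem (mul_mem (inv_mem h7) (h1.1 hx)) h7⟩)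
    exact (h1.of_card_le inf_le_right (P.isPGroup'.to_le inf_le_left) ((card_le_of_le h8).trans (card_cj _ _).le)).3
  · obtain ⟨k, hk⟩ := P.isPGroup'.exists_card_eq
    rw [inf_relIndex_left, ← BS.nI_eq_relIndex h0 (hk ▸ ((Fact.out : p.Prime).odd_of_ne_two hp).pow) hzP]; rfl

end Cfsg.Agent.S1253
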