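import Cfsg.Statements.S1254
import Cfsg.Agent.Lib.ABG.MC

set_option autoImplicit false
open Cfsg Cfsg.Lib Cfsg.Lib.ABG Cfsg.Lib.Invol Cfsg.Lib.Transfer Subgroup

namespace Cfsg.Agent.S1254

/-- Let X be a finite group whose Sylow 2-subgroup S is dihedral (of order at least 4). Then X has a normal 2-complement if and only if, for every Klein four-subgroup U ≤ S, the normalizer N_X(U) is generated by C_X(U) and N_S(U). -/
theorem result {X : Type*} [Group X] [Finite X] (S : Sylow 2 X) (m : ℕ) (hm : 2 ≤ m) (eS : (S : Subgroup X) ≃* DihedralGroup m) : Cfsg.HasNormalPComplement 2 X ↔ ∀ U : Subgroup X, U ≤ S → IsKleinFour U → Subgroup.normalizer (U : Set X) = Subgroup.centralizer (U : Set X) ⊔ ((S : Subgroup X) ⊓ Subgroup.normalizer (U : Set X)) := by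
  have := fact_two
  have hs := sylowIn_top S
  rw [hasNormalPComplement_iff_top]
  refine ⟨fun h U hU _ => le_antisymm (fun g hg => ?_) (sup_le (centralizer_le_normalizer _) inf_le_right), fun h =>
    hs.pnil_iff_forall.2 fun U hU g _ h1 h2 => ?_⟩
  · obtain ⟨v, hv, h1⟩ := h.exists_conj_eq hs (mem_top g)
    have h2 : ∀ x ∈ U, v * x * v⁻¹ = g * x * g⁻¹ := fun x hx => h1 x (hU hx) (hU (conj_mem_of_mem_normalizer hg hx))
    rw [← mul_inv_cancel_left v g]
    refine mul_mem (mem_sup_right ⟨hv, mem_normalizer_of_cj_le (cj_le_iff.2 fun x hx => h2 x hx ▸ conj_mem_of_mem_normalizer hg hx)⟩)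
      (mem_sup_left (mem_centS.2 fun x hx => mul_inv_eq_iff_eq_mul.1 ?_))
    rw [show v⁻¹ * g * x * (v⁻¹ * g)⁻¹ = v⁻¹ * (g * x * g⁻¹) * v by group, ← h2 x hx]; group
  · by_contra h3
    have h4 := mem_resOf h1 h2
    rw [h U hU (klein_of_odd S.2 eS hm hU h1 (Nat.coprime_two_right.1 h2) h3), resOf_sup_of_isPGroup (S.2.to_le inf_le_left)
      (inf_le_right.trans (Core.normalizer_le_normalizer_centralizer U))] at h4
    exact h3 (resOf_le _ h4)

end Cfsg.Agent.S1254
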