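import Cfsg.Statements.S1255
import Cfsg.Agent.Lib.ABG.MC
import Cfsg.Agent.Lib.GW.Final

set_option autoImplicit false
open Cfsg Cfsg.Lib Cfsg.Lib.ABG Cfsg.Lib.Invol Cfsg.Lib.Transfer Subgroup

namespace Cfsg.Agent.S1255

/-- Let X be a finite group whose Sylow 2-subgroup S is dihedral of order 2m ≥ 4. Then X has no subgroup of index 2 and no isolated involution if and only if either all involutions of X are conjugate, or for every Klein four-subgroup U ≤ S the index |N_X(U) : C_X(U)| equals 3 when |S| = 4 and equals 6 when |S| > 4. -/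
theorem result {X : Type*} [Group X] [Finite X] (S : Sylow 2 X) (m : ℕ) (hm : 2 ≤ m) (eS : (S : Subgroup X) ≃* DihedralGroup m) : ((∀ H : Subgroup X, H.index ≠ 2) ∧ (∀ z : X, ¬ Cfsg.IsIsolatedInvolution z)) ↔ ((∀ a b : X, orderOf a = 2 → orderOf b = 2 → IsConj a b) ∨ (∀ U : Subgroup X, U ≤ S → IsKleinFour U → (Subgroup.centralizer (U : Set X)).relIndex (Subgroup.normalizer (U : Set X)) = (if Nat.card S = 4 then 3 else 6))) := by
  have := fact_two
  have hs := sylowIn_top S
  refine ⟨fun h => Or.inl fun a b ha hb => (GW.dc2_of_dihedral S eS).isConj h.1 ha hb, fun h => ?_⟩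
  have hc := dih_cases S.2 eS hm
  have h1 : ∀ a b : X, orderOf a = 2 → orderOf b = 2 → IsConj a b := by
    refine h.elim id fun h => ?_
    rcases hc with hK | ⟨h4, k, E, hε⟩
    · refine (klein_sylow_fusion S hK).resolve_left fun h1 => ?_
      have h2 := h S le_rfl hK
      rw [if_pos hK.card_four, relIndex_eq_one.2 fun g hg => mem_centS.2 fun x hx => mul_inv_eq_iff_eq_mul.1
        (h1 x hx _ (conj_mem_of_mem_normalizer hg hx) (isConj_conj g x)).symm] at h2
      omega
    · have k : ∀ a, E.FK a := fun a => ((E.klein_dich (E.s_mul_self hε a)).resolve_left fun h1 => by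
        have := h _ E.D_le (E.klein (E.s_mul_self hε a))
        rw [if_neg h4.ne', h1.1] at this; omega).2
      exact fun a b => isConj_of_card_classes_eq_one (p := fun t => orderOf t = 2) (E.dih_one hε hs (k 0) (k 1))
  obtain ⟨a, b, ha, hb, hab, h2, -⟩ : ∃ a b : X, orderOf a = 2 ∧ orderOf b = 2 ∧ a ≠ b ∧ Commute a b ∧ True := by
    rcases hc with hK | ⟨-, k, E, -⟩
    exacts [(klein_exists hK).imp fun _ => Exists.imp fun _ h => ⟨h.1, h.2.1, h.2.2.1, h.2.2.2.1, trivial⟩,
      ⟨_, _, E.two_c, E.s_two_iff.2 E.s_zero_sq, E.r_ne_s _ _, (E.commute_c (E.s_mem 0)).symm, trivial⟩]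
  refine ⟨fun H hH => not_sylow_le_of_index_two S hH fun x hx => ?_, fun z hz =>
    hab (isolated_eq_of_commute (isolated_of_isConj hz (h1 z a hz.1 ha)) (h1 a b ha hb) h2).symm⟩
  have k : ∀ s t : X, orderOf s = 2 → orderOf t = 2 → s ∈ H → t ∈ H := fun s t hs ht h => by
    obtain ⟨g, rfl⟩ := isConj_iff.1 (h1 s t hs ht)
    exact (conj_mem_iff_of_index_two hH g s).2 h
  have h3 : a ∈ H := by
    by_contra h3
    exact h3 (k _ a (two_mul_of_commute ha hb hab h2) ha ((mul_mem_iff_of_index_two hH).2 (iff_of_false h3 fun h => h3 (k b a hb ha h))))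
  have h4 : ∀ i, ((eS.symm (.sr i) : S) : X) ∈ H := fun i => k a _ ha (by simp) h3
  obtain ⟨i | i, rfl⟩ : ∃ d, ((eS.symm d : S) : X) = x := ⟨eS ⟨x, hx⟩, by simp⟩
  · simpa [← coe_mul, ← map_mul] using mul_mem (h4 0) (h4 i)
  · exact h4 i

end Cfsg.Agent.S1255
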