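import Cfsg.Statements.S1256
import Cfsg.Agent.Lib.ABG.MC

set_option autoImplicit false
open Cfsg Cfsg.Lib Cfsg.Lib.ABG Cfsg.Lib.Invol Cfsg.Lib.Transfer Subgroup

namespace Cfsg.Agent.S1256

/-- Let X be a finite group whose Sylow 2-subgroup S is dihedral of order 2m ≥ 4. If |S| = 4, any two Klein four-subgroups of X are conjugate; if |S| > 4, there are Klein four-subgroups U₁, U₂ of X that are not conjugate, and every Klein four-subgroup of X is conjugate to U₁ or to U₂. -/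
theorem result {X : Type*} [Group X] [Finite X] (S : Sylow 2 X) (m : ℕ) (hm : 2 ≤ m) (eS : (S : Subgroup X) ≃* DihedralGroup m) : (Nat.card S = 4 → ∀ U V : Subgroup X, IsKleinFour U → IsKleinFour V → (∃ x : X, U.map (MulAut.conj x).toMonoidHom = V)) ∧ (4 < Nat.card S → ∃ U₁ U₂ : Subgroup X, IsKleinFour U₁ ∧ IsKleinFour U₂ ∧ ¬ (∃ x : X, U₁.map (MulAut.conj x).toMonoidHom = U₂) ∧ ∀ V : Subgroup X, IsKleinFour V → (∃ x : X, V.map (MulAut.conj x).toMonoidHom = U₁) ∨ (∃ x : X, V.map (MulAut.conj x).toMonoidHom = U₂)) := by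
  have := fact_two
  have hs := sylowIn_top S
  refine ⟨fun h U V hU hV => ?_, fun h => ?_⟩
  · obtain ⟨g, -, hg⟩ := (hs.of_card_le le_top (klein_isPGroup hU) (h.trans hU.card_four.symm).le).exists_cj_eq
      (hs.of_card_le le_top (klein_isPGroup hV) (h.trans hV.card_four.symm).le)
    exact ⟨g, hg⟩
  obtain ⟨k, -, E, hε⟩ := exists_mc_dih S.2 eS h
  refine ⟨E.K 0, E.K 1, E.klein E.s_zero_sq, E.klein (E.s_mul_self hε 1), fun ⟨g, hg⟩ => E.cj_K_ne hε hs g hg, fun V hV => ?_⟩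
  obtain ⟨g, -, hg⟩ := hs.exists_cj_le (klein_isPGroup hV) le_top
  obtain ⟨a, -, ha⟩ := E.klein_eq (isKleinFour_map_conj hV g) hg
  obtain ⟨d, rfl | rfl⟩ := E.parity 0 a
  · exact Or.inl ⟨_ * g, (cj_mul _ g V).trans ((congrArg _ ha).trans ((E.cj_D (-d)).trans (by congr 1; ring)))⟩
  · exact Or.inr ⟨_ * g, (cj_mul _ g V).trans ((congrArg _ ha).trans ((E.cj_D (-d)).trans (by congr 1; ring)))⟩

end Cfsg.Agent.S1256
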