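import Cfsg.Statements.S1263
import Cfsg.Agent.Lib.Layer.CompAction

set_option autoImplicit false
open Cfsg

namespace Cfsg.Agent.S1263

open Cfsg.Lib.Layer

/-- For a finite group G, Z(E(G)) is the subgroup generated by the centres Z(L) of the components L of G (all viewed as subgroups of G). -/
theorem result {G : Type*} [Group G] [Finite G] : (Subgroup.center ↥(Cfsg.layer G)).map (Cfsg.layer G).subtype = ⨆ L : {K : Subgroup G // Cfsg.IsComponent K}, (Subgroup.center ↥(L : Subgroup G)).map (L : Subgroup G).subtype := by
  rw [map_subtype_center]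
  have key : ∀ S : Set (Subgroup G), S.Finite → (∀ L ∈ S, IsComponent L) →
      sSup S ⊓ Subgroup.centralizer ((sSup S : Subgroup G) : Set G) ≤
        ⨆ L : {K : Subgroup G // IsComponent K},
          (Subgroup.center ↥(L : Subgroup G)).map (L : Subgroup G).subtype := by
    intro S hS
    induction S, hS using Set.Finite.induction_on with
    | empty => intro _; simp
    | @insert L S hLS _ ih =>
      intro h
      have hL := h L (Set.mem_insert _ _)
      have hS' : ∀ K ∈ S, IsComponent K := fun K hK => h K (Set.mem_insert_of_mem _ hK)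
      have hc : ⁅sSup S, L⁆ = ⊥ := commutator_sSup_eq_bot fun K hK =>
        IsComponent.commutator_eq_bot_of_ne (hS' K hK) hL fun e => hLS (e ▸ hK)
      rw [sSup_insert, Cfsg.Lib.Core.centralizer_sup]
      rintro x ⟨hx, hx1, hx2⟩
      obtain ⟨a, ha, b, hb, rfl⟩ := (Cfsg.Lib.Core.mem_sup_of_le_normalizer_left
        (le_normalizer_of_commutator_eq_bot hc)).1 hx
      have hb1 := Subgroup.commutator_eq_bot_iff_le_centralizer.1 hc hb
      have ha1 := Subgroup.commutator_eq_bot_iff_le_centralizer.1 (commutator_eq_bot_symm hc) ha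
      refine Subgroup.mul_mem _ (le_iSup (fun L : {K : Subgroup G // IsComponent K} =>
          (Subgroup.center ↥(L : Subgroup G)).map (L : Subgroup G).subtype) ⟨L, hL⟩ ?_) (ih hS' ⟨hb, ?_⟩)
      · rw [map_subtype_center]
        exact ⟨ha, by simpa using Subgroup.mul_mem _ hx1 (Subgroup.inv_mem _ hb1)⟩
      · simpa using Subgroup.mul_mem _ (Subgroup.inv_mem _ ha1) hx2
  refine le_antisymm (key _ (Set.toFinite _) fun _ h => h) (iSup_le fun L => ?_)
  rw [map_subtype_center]
  refine le_inf (inf_le_left.trans (IsComponent.le_layer L.2)) ?_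
  refine Subgroup.le_centralizer_iff.1 (layer_le fun K hK => Subgroup.le_centralizer_iff.1 ?_)
  by_cases e : L = K
  · rw [← e]; exact inf_le_right
  · exact inf_le_left.trans (Subgroup.commutator_eq_bot_iff_le_centralizer.1
      (IsComponent.commutator_eq_bot_of_ne L.2 hK e))

end Cfsg.Agent.S1263
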