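import Cfsg.Statements.S1264
import Cfsg.Agent.Lib.Layer.FStar

set_option autoImplicit false
open Cfsg

namespace Cfsg.Agent.S1264

open Cfsg.Lib.Layer

/-- Let G be finite, C = C_G(F(G)) the centralizer of the Fitting subgroup, and N a solvable subgroup of C normalized by C. Then N ≤ Z(F(G)). -/
theorem result {G : Type*} [Group G] [Finite G] (N : Subgroup G) (hN : N ≤ Subgroup.centralizer (Cfsg.fittingSubgroup G : Set G)) (hnorm : Subgroup.centralizer (Cfsg.fittingSubgroup G : Set G) ≤ Subgroup.normalizer (N : Set G)) (hsolv : Group.IsSolvable ↥N) : N ≤ (Subgroup.center ↥(Cfsg.fittingSubgroup G)).map (Cfsg.fittingSubgroup G).subtype := by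
  have := fit_normal (G := G)
  have hs : N.IsSubnormal := Subgroup.IsSubnormal.trans hN
    (isSubnormal_subgroupOf_of_le_normalizer hnorm) (Subgroup.Normal.isSubnormal inferInstance)
  rw [map_subtype_center]
  refine le_inf (le_fit_of_no_component hs (fun L hL => IsQuasisimple.not_le_of_isSolvable hL.2 hsolv) ?_) hN
  exact commutator_eq_bot_mono (Subgroup.commutator_eq_bot_iff_le_centralizer.2 hN) le_rfl inf_le_left

end Cfsg.Agent.S1264
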