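import Cfsg.Statements.S1267
import Cfsg.Agent.Lib.Layer.PLocal

set_option autoImplicit false
open Cfsg

namespace Cfsg.Agent.S1267

open Cfsg.Lib.Layer

/-- Let G be finite and P ≤ O_p(G). Then E(N_G(P)) = E(G). -/
theorem result {G : Type*} [Group G] [Finite G] (p : ℕ) [Fact p.Prime] (P : Subgroup G) (hP : P ≤ Cfsg.pCore p G) : (Cfsg.layer ↥(Subgroup.normalizer ((P : Subgroup G) : Set G))).map (Subgroup.normalizer ((P : Subgroup G) : Set G)).subtype = Cfsg.layer G := by
  have hp : IsPGroup p P := (Cfsg.Lib.Core.isPGroup_pCore p G).to_le hP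
  have hC : Subgroup.centralizer (pCore p G : Set G) ≤ Subgroup.normalizer (P : Set G) :=
    (Cfsg.Lib.Core.centralizer_anti hP).trans (Subgroup.centralizer_le_normalizer _)
  refine le_antisymm ?_ (layer_le_layerOf (layer_le_centralizer_pCore.trans hC))
  refine (layerOf_le_layerOf hC ?_).trans (layerOf_le_layer (Subgroup.Normal.isSubnormal inferInstance))
  refine (Subgroup.map_mono (layer_le_pLayer_sup (p := p))).trans ?_
  rw [Subgroup.map_sup]
  exact sup_le (pLayerOf_normalizer_le_centralizer_pCore hp) (pPrimeCoreOf_normalizer_le_centralizer_pCore hp)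

end Cfsg.Agent.S1267
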