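import Cfsg.Statements.S1271
import Cfsg.Agent.Lib.Layer.LocBal

set_option autoImplicit false
open Cfsg

namespace Cfsg.Agent.S1271

open Subgroup Cfsg.Lib.Core Cfsg.Lib.Amalg Cfsg.Lib.BG1 Cfsg.Lib.Layer

/-- Let G be finite with O_{p'}(G) = 1. Suppose that for every component L of G and every subgroup H ≥ L in which L is normal, the quotient H / C_H(L) is balanced for the prime p. Then G is balanced for p. -/
theorem result {G : Type*} [Group G] [Finite G] (p : ℕ) [Fact p.Prime] (hO : Cfsg.pPrimeCore p G = ⊥) (h : ∀ L : Subgroup G, Cfsg.IsComponent L → ∀ H : Subgroup G, L ≤ H → (L.subgroupOf H).Normal → ∀ [((Subgroup.centralizer (L : Set G)).subgroupOf H).Normal], Cfsg.IsBalancedFor p (↥H ⧸ (Subgroup.centralizer (L : Set G)).subgroupOf H)) : Cfsg.IsBalancedFor p G := by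
  have hp : p.Prime := Fact.out
  intro x hx
  have hP : IsPGroup p (zpowers x) := Lib.Amalg.isPGroup_zpowers_of_orderOf (k := 1) (by simpa using hx)
  rw [eq_bot_of_cent_components hO (cpc_not_dvd x) (fun K hK => ?_) (cpc_le_cent_pCore hP)]
  · exact bot_le
  by_cases h1 : x ∉ 𝐍(K) ∨ x ∈ 𝐂(K)
  · exact IsComponent.cpc_le_cent hO hK hx h1
  push Not at h1
  have hE : zpowers x ⊔ centralizerPPrimeCore p x ≤ 𝐍(K) :=
    sup_le (by rw [zpowers_le]; exact h1.1) (IsComponent.cpc_le_norm hO hK hP)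
  generalize hH : K ⊔ (zpowers x ⊔ centralizerPPrimeCore p x) = H
  have hHK : H ≤ 𝐍(K) := hH ▸ sup_le le_normalizer hE
  have hKH : K ≤ H := hH ▸ le_sup_left
  have hEH : zpowers x ⊔ centralizerPPrimeCore p x ≤ H := hH ▸ le_sup_right
  have hxH : x ∈ H := hEH (mem_sup_left (mem_zpowers x))
  haveI : ((𝐂(K)).subgroupOf H).Normal := normal_subgroupOf_of_le_normalizer (le_normalizer_centralizer hHK)
  have hb := h K hK H hKH ((normal_subgroupOf_iff_le_normalizer hKH).2 hHK)
  let f := QuotientGroup.mk' ((𝐂(K)).subgroupOf H)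
  have hf : mker f = 𝐂(K) ⊓ H := by rw [mker, QuotientGroup.ker_mk', subgroupOf_map_subtype]
  have h2 := mim_core_le f hHK hKH (hf ▸ (le_inf inf_le_right (inf_le_left.trans inf_le_left)).trans
    (inf_centralizer_le_pCore hO hK.1)) hP (le_sup_left.trans hEH)
    (sup_le (isMulCommutative_iff_le_cent.1 inferInstance) ((cpc_le_cent x).trans (cent_zpowers x).ge)) hEH
  rw [hH, mim_dom, MonoidHom.range_eq_top.2 (QuotientGroup.mk'_surjective _), top_inf_eq, mim_zpowers hxH,
    cent_zpowers, cent_zpowers, ← cpc_eq, ← cpc_eq, inf_eq_left.2 le_sup_right] at h2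
  have h3 := h2.trans (hb _ (orderOf_eq_prime (by rw [← map_pow, ← map_one f]; congr 1; ext; simp [← hx])
    fun e => h1.2 (hf ▸ (mem_mker_iff hxH).2 e).1))
  have h4 : H ≤ 𝐍(mpre f (pPrimeCore p _)) := le_norm_mpre le_rfl le_normalizer_of_normal'
  rcases IsComponent.le_or_commutator_eq_bot_of_le_normalizer hK (hKH.trans h4) with h5 | h5
  · exfalso
    refine IsComponent.not_coprime_of_pPrimeCore_eq_bot hK hO
      (coprime_card_of_isPerfect_of_index_center (IsQuasisimple.perfect hK.2) ?_)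
    have h6 := card_dvd_of_le (mim_le_of_le_mpre h5)
    rw [card_mim hKH, hf, ← inf_relIndex_right, inf_assoc, inf_eq_right.2 hKH, inf_comm,
      ← Lib.Layer.map_subtype_center, relIndex, map_subtype_subgroupOf] at h6
    exact (coprime_card_pPrimeCore p _).coprime_dvd_left h6
  · exact ((mim_le_iff (le_sup_right.trans hEH)).1 h3).trans (comm_eq_bot_iff'.1 h5)

end Cfsg.Agent.S1271
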