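import Cfsg.Statements.S1278
import Cfsg.Agent.Lib.Layer.PComp

set_option autoImplicit false
open Cfsg

namespace Cfsg.Agent.S1278

open Cfsg.Lib.Layer

/-- Let K ≠ L be 2-components of the finite group X. Then ⁅K, L⁆ ≤ O(K) ⊓ O(L), and if K is quasisimple then ⁅K, L⁆ = 1. -/
theorem result {X : Type*} [Group X] [Finite X] (K L : Subgroup X) (hK : Cfsg.IsPComponent 2 K) (hL : Cfsg.IsPComponent 2 L) (hne : K ≠ L) : ⁅K, L⁆ ≤ ((Cfsg.oddCore ↥K).map K.subtype) ⊓ ((Cfsg.oddCore ↥L).map L.subtype) ∧ (Cfsg.IsQuasisimple ↥K → ⁅K, L⁆ = ⊥) := by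
  refine ⟨?_, fun hq => ?_⟩
  · have h := IsPComponent.commutator_le_of_ne hK hL hne
    rw [pPrimeCoreOf_eq_of_isSubnormal hK.1, pPrimeCoreOf_eq_of_isSubnormal hL.1]
    refine le_inf (le_inf h ?_) (le_inf h ?_)
    · exact Subgroup.le_normalizer_iff_commutator_le_left.1
        ((IsPComponent.le_pLayer hL).trans (IsPComponent.pLayer_le_normalizer hK))
    · exact Subgroup.le_normalizer_iff_commutator_le_right.1
        ((IsPComponent.le_pLayer hK).trans (IsPComponent.pLayer_le_normalizer hL))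
  · exact (IsComponent.le_or_commutator_eq_bot (IsPComponent.isComponent hK hq) hL.1).resolve_left
      fun h => hne (IsPComponent.eq_of_le hL hK h)

end Cfsg.Agent.S1278
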