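import Cfsg.Statements.S1286
import Cfsg.Agent.Lib.Layer.Spec

set_option autoImplicit false
open Cfsg

namespace Cfsg.Agent.S1286

open Subgroup Cfsg.Lib.Core Cfsg.Lib.Amalg Cfsg.Lib.BG1 Cfsg.Lib.Layer
open Equiv Equiv.Perm

abbrev G5 := Equiv.Perm (Fin 5)
def ea : G5 := swap 3 4
def eb : G5 := swap 0 1
def ex : G5 := swap 0 1 * swap 1 2
def ey : G5 := swap 2 3 * swap 3 4

def fin {G : Type} [Group G] [Fintype G] [DecidableEq G] (s : Finset G) (h1 : (1 : G) ∈ s)
    (h2 : ∀ x ∈ s, ∀ y ∈ s, x * y ∈ s) (h3 : ∀ x ∈ s, x⁻¹ ∈ s) : Subgroup G where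
  carrier := s
  one_mem' := h1
  mul_mem' := fun {x y} hx hy => h2 x hx y hy
  inv_mem' := fun {x} hx => h3 x hx

def sA : Subgroup G5 := fin {1, ea, eb, ea * eb} (by decide +kernel) (by decide +kernel) (by decide +kernel)
def sX : Subgroup G5 := fin {1, ex, ex * ex} (by decide +kernel) (by decide +kernel) (by decide +kernel)
def sY : Subgroup G5 := fin {1, ey, ey * ey} (by decide +kernel) (by decide +kernel) (by decide +kernel)
def th (g : G5) : Subgroup G5 := if g = ea then sX else if g = eb then sY else ⊥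

theorem mem_sA {g : G5} : g ∈ sA ↔ g ∈ ({1, ea, eb, ea * eb} : Finset G5) := Iff.rfl
theorem mem_th {g x : G5} : x ∈ th g ↔ x ∈ (if g = ea then {1, ex, ex * ex} else if g = eb then {1, ey, ey * ey}
    else {1} : Finset G5) := by
  unfold th; split_ifs
  · rfl
  · rfl
  · simp

theorem card_th (g : G5) : Nat.card (th g) = 3 ∨ Nat.card (th g) = 1 := by
  unfold th; split_ifs
  · left; change Nat.card ({1, ex, ex * ex} : Finset G5) = 3
    rw [Nat.card_eq_fintype_card, Fintype.card_coe]; decide +kernel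
  · left; change Nat.card ({1, ey, ey * ey} : Finset G5) = 3
    rw [Nat.card_eq_fintype_card, Fintype.card_coe]; decide +kernel
  · right; exact card_bot

/-- There exist a finite group X, an elementary abelian subgroup A of order 4 and a solvable A-signalizer functor θ on X for the prime 2 which is not complete. -/
theorem result : ∃ (X : Type) (_ : Group X) (_ : Finite X) (A : Subgroup X) (θ : X → Subgroup X), Cfsg.IsElementaryAbelian 2 A ∧ Nat.card ↥A = 4 ∧ Cfsg.IsSolvableSignalizerFunctor 2 A θ ∧ ¬ Cfsg.IsCompleteSignalizerFunctor 2 A θ := by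
  have h1 : ∀ a ∈ ({1, ea, eb, ea * eb} : Finset G5), ∀ b ∈ ({1, ea, eb, ea * eb} : Finset G5),
      a * b = b * a ∧ a ^ 2 = 1 := by decide +kernel
  have h2 : ∀ a ∈ ({1, ea, eb, ea * eb} : Finset G5), ∀ x ∈ (if a = ea then {1, ex, ex * ex} else
      if a = eb then {1, ey, ey * ey} else {1} : Finset G5), x * a = a * x ∧
      ∀ b ∈ ({1, ea, eb, ea * eb} : Finset G5), b * x * b⁻¹ ∈ (if a = ea then {1, ex, ex * ex} else
      if a = eb then {1, ey, ey * ey} else {1} : Finset G5) ∧ (b ≠ 1 → x * b = b * x → x ∈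
        (if b = ea then {1, ex, ex * ex} else if b = eb then {1, ey, ey * ey} else {1} : Finset G5)) := by decide +kernel
  refine ⟨G5, inferInstance, inferInstance, sA, th, ⟨⟨⟨fun a b => Subtype.ext (h1 a a.2 b b.2).1⟩⟩,
    fun a ha => (h1 a ha a ha).2⟩, ?_, ⟨⟨fun a ha _ x hx => ?_, fun a _ _ => ?_, fun a ha _ b hb x hx => ?_,
    fun a ha _ b hb hb1 x hx => ?_⟩, fun a _ _ => ?_⟩, ?_⟩
  · change Nat.card ({1, ea, eb, ea * eb} : Finset G5) = 4
    rw [Nat.card_eq_fintype_card, Fintype.card_coe]; decide +kernel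
  · exact mem_centralizer_singleton_iff.2 (h2 a ha x (mem_th.1 hx)).1
  · rcases card_th a with h | h <;> rw [h] <;> decide
  · exact mem_th.2 ((h2 a ha x (mem_th.1 hx)).2 b hb).1
  · exact mem_th.2 (((h2 a ha x (mem_th.1 hx.1)).2 b hb).2 hb1 (mem_centralizer_singleton_iff.1 hx.2))
  · haveI : Fact (Nat.Prime 3) := ⟨Nat.prime_three⟩
    haveI : IsCyclic (th a) := by
      rcases card_th a with h | h
      · exact isCyclic_of_prime_card h
      · haveI := (Nat.card_eq_one_iff_unique.1 h).1; infer_instance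
    exact Group.isSolvable_of_comm fun x y => (IsCyclic.isMulCommutative (α := th a)).is_comm.comm x y
  · rintro ⟨-, X, -, hX, h⟩
    have hx : ex ∈ X := (show ex ∈ X ⊓ _ from (h ea (by rw [mem_sA]; decide) (by decide +kernel)).symm ▸
      mem_th.2 (by decide +kernel)).1
    have hy : ey ∈ X := (show ey ∈ X ⊓ _ from (h eb (by rw [mem_sA]; decide) (by decide +kernel)).symm ▸
      mem_th.2 (by decide +kernel)).1
    have hw := X.mul_mem (X.mul_mem (X.mul_mem (X.mul_mem hx hx) hy) hx) hy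
    haveI : Fact (Nat.Prime 2) := ⟨Nat.prime_two⟩
    refine hX (orderOf_eq_prime (x := ex * ex * ey * ex * ey) (p := 2) (by decide +kernel) (by decide +kernel) ▸
      Subgroup.orderOf_dvd_natCard X hw)

end Cfsg.Agent.S1286
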