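import Cfsg.Statements.S1288
import Cfsg.Agent.Lib.Layer.Baer
import Cfsg.Agent.Lib.BG1.PLength

set_option autoImplicit false
open Cfsg

namespace Cfsg.Agent.S1288

open Subgroup Cfsg.Lib.Core Cfsg.Lib.Amalg Cfsg.Lib.BG1 Cfsg.Lib.Layer

/-- Let A be a noncyclic elementary abelian p-subgroup of a finite group H normalizing a solvable subgroup K of order prime to p, q a prime dividing |K|, and U ≤ K a subgroup of order prime to q such that ⁅U, C_K(B)⁆ has order prime to q for every subgroup B of index p in A. Then U ≤ O_{q'}(K). -/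
theorem result {H : Type*} [Group H] [Finite H] (p : ℕ) [Fact p.Prime] (A K : Subgroup H) (hA : Cfsg.IsElementaryAbelian p A) (hA2 : p ^ 2 ≤ Nat.card ↥A) (hK : ¬ p ∣ Nat.card ↥K) (hKs : Group.IsSolvable ↥K) (hAK : A ≤ Subgroup.normalizer (K : Set H)) (q : ℕ) [Fact q.Prime] (hqK : q ∣ Nat.card ↥K) (U : Subgroup H) (hU : U ≤ K) (hUq : ¬ q ∣ Nat.card ↥U) (hcomm : ∀ B : Subgroup H, B ≤ A → B.relIndex A = p → ¬ q ∣ Nat.card ↥⁅U, K ⊓ Subgroup.centralizer (B : Set H)⁆) : U ≤ (Cfsg.pPrimeCore q ↥K).map K.subtype := by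
  have hq : q.Prime := Fact.out
  rw [map_pPrimeCore_subtype hq]
  have hMK := pPrimePCoreOf_le q K
  have hH := isPiHallOf_pPrimeCoreOf_pPrimePCoreOf hq K
  have hN : K ≤ 𝐍(𝐎'[q](K)) := le_norm_piCoreOf_self _ _
  have key : ∀ X : Subgroup H, X ≤ pPrimePCoreOf q K → ¬ q ∣ Nat.card X → X ≤ 𝐎'[q](K) := fun X h1 h2 => by
    obtain ⟨n, hn⟩ := relIndex_pPrimePCoreOf hq K
    rw [← quo_eq_bot_iff ((h1.trans hMK).trans hN)]
    refine isPGroup_eq_bot_of_not_dvd (p := q) (IsPGroup.to_le ?_ (mim_mono _ h1)) le_rfl (not_dvd_card_mim _ h2)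
    exact (isPGroup_quo_iff (hMK.trans hN)).2 ⟨n, hn⟩
  have h1 : pPrimePCoreOf q K ≤ centQuo 𝐎'[q](K) U :=
    le_of_forall_hyperplane' hA (ne_bot_of_card_ge hA2) (le_norm_pPrimePCoreOf hq hAK) (not_dvd_card_of_le hMK hK)
      fun B h1 h2 => le_centQuo (hU.trans hN) ((inf_le_left.trans hMK).trans hN) (key _
        ((commutator_mono le_rfl inf_le_left).trans (comm_le_right (hU.trans (le_norm_pPrimePCoreOf_self _ _))))
        (not_dvd_card_of_le (commutator_mono le_rfl (inf_le_inf_right _ hMK)) (hcomm B h1 h2)))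
  refine key U ?_ hUq
  have h2 := cent_pCoreOf_le hq (isSolvable_mim (qmk 𝐎'[q](K)) hKs) (piCoreOf_quo_piCoreOf _ K)
  rw [← quo_pPrimePCoreOf hq] at h2
  exact (quo_le_quo_iff_of_le (hU.trans hN) (hMK.trans hN) (pPrimeCoreOf_le_pPrimePCoreOf hq K)).1
    (le_trans (le_inf (mim_mono _ hU) ((quo_cent_iff (hU.trans hN) (hMK.trans hN)).2
      (commutator_le_of_le_centQuo (hU.trans hN) h1))) h2)

end Cfsg.Agent.S1288
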