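import Cfsg.Statements.S1292
import Cfsg.Agent.Lib.Layer.PLocal

set_option autoImplicit false
open Cfsg

namespace Cfsg.Agent.S1292

open Cfsg.Lib.Layer

/-- Let G be a finite group such that F*(C_G(t)) = O_2(C_G(t)) for every involution t. Then F*(N_G(T)) = O_2(N_G(T)) for every nontrivial 2-subgroup T of G. -/
theorem result {G : Type*} [Group G] [Finite G] (h : ∀ t : G, orderOf t = 2 → Cfsg.generalizedFittingSubgroup ↥(Subgroup.centralizer ({t} : Set G)) = Cfsg.pCore 2 ↥(Subgroup.centralizer ({t} : Set G))) (T : Subgroup G) (hT : IsPGroup 2 ↥T) (hT1 : T ≠ ⊥) : Cfsg.generalizedFittingSubgroup ↥(Subgroup.normalizer (T : Set G)) = Cfsg.pCore 2 ↥(Subgroup.normalizer (T : Set G)) := by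
  have : Fact (Nat.Prime 2) := ⟨Nat.prime_two⟩
  have hZ := Cfsg.Lib.Core.inf_centralizer_ne_bot_of_isPGroup hT hT Subgroup.le_normalizer hT1
  obtain ⟨t, ht⟩ := exists_prime_orderOf_dvd_card' (G := ↥(T ⊓ Subgroup.centralizer (T : Set G))) 2
    (Cfsg.Lib.Core.dvd_card_of_isPGroup_of_ne_bot Nat.prime_two (hT.to_le inf_le_left) hZ)
  have ht2 : orderOf (t : G) = 2 := by rw [Subgroup.orderOf_coe, ht]
  have hTC : T ≤ Subgroup.centralizer {(t : G)} := fun x hx =>
    Subgroup.mem_centralizer_singleton_iff.2 (Subgroup.mem_centralizer_iff.1 t.2.2 x hx)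
  have h1 := charP_inf_centralizer hTC (fstar_eq_pCore_iff.1 (h t ht2)) hT
  have ht1 : (t : G) ∈ (T : Set G) := t.2.1
  rw [inf_eq_right.2 (Subgroup.centralizer_le (Set.singleton_subset_iff.2 ht1))] at h1
  exact fstar_eq_pCore_iff.2 ((charP_normalizer_iff_centralizer hT).2 h1)

end Cfsg.Agent.S1292
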