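import Cfsg.Statements.S1297
import Cfsg.Agent.Lib.Layer.LocBal

set_option autoImplicit false
open Cfsg

namespace Cfsg.Agent.S1297

open Subgroup Cfsg.Lib.Core Cfsg.Lib.Amalg Cfsg.Lib.BG1 Cfsg.Lib.Layer

/-- Let G be finite. Suppose that for every involution x, writing C = C_G(x), every component K of C / O(C) has K / Z(K) locally balanced. Then G is balanced. -/
theorem result {G : Type*} [Group G] [Finite G] (h : ∀ x : G, orderOf x = 2 → ∀ K : Subgroup (↥(Subgroup.centralizer ({x} : Set G)) ⧸ Cfsg.oddCore ↥(Subgroup.centralizer ({x} : Set G))), Cfsg.IsComponent K → Cfsg.IsLocallyBalanced (↥K ⧸ Subgroup.center ↥K)) : Cfsg.IsBalanced G := by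
  have key : ∀ x y : G, orderOf x = 2 → orderOf y = 2 → x * y = y * x →
      centralizerPPrimeCore 2 x ⊓ 𝐂[y] ≤ centralizerPPrimeCore 2 y ⊓ 𝐂[x] := by
    intro x y hx hy hxy
    refine le_inf ((inf_le_inf_right _ (cpc_le_delta_zpowers hx)).trans ?_) (inf_le_left.trans (cpc_le_cent x))
    have hc : Nat.card (zpowers x) = 2 := by rw [Nat.card_zpowers, hx]
    rw [cpc_eq]
    exact delta_inf_le_of_locKBal (by rw [zpowers_le]; exact mem_centralizer_singleton_iff.2 hxy)
      (isElementaryAbelian_of_card_prime Nat.prime_two hc) le_rfl hc.ge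
      fun K hK => Or.inr (isLocallyKBalanced_one_of (h y hy K hK))
  exact fun x y hx hy hxy => le_antisymm (key x y hx hy hxy) (key y x hy hx hxy.symm)

end Cfsg.Agent.S1297
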