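import Cfsg.Statements.S1299
import Cfsg.Agent.Lib.Layer.LocBal
import Cfsg.Agent.Lib.Sig.Main

set_option autoImplicit false
open Cfsg

namespace Cfsg.Agent.S1299

open Subgroup Cfsg.Lib.Core Cfsg.Lib.Amalg Cfsg.Lib.BG1 Cfsg.Lib.Layer
theorem gen {G : Type*} [Group G] [Finite G] {p : ℕ} [hp : Fact p.Prime] {A B U X : Subgroup G}
    (hA : IsElementaryAbelian p A) (hB : B ≤ A) (hlt : Nat.card B < Nat.card A) (hn : A ≤ 𝐍 U)
    (hU : ¬ p ∣ Nat.card U) (hc : U ≤ 𝐂 B)
    (h : ∀ H : Subgroup G, B ≤ H → H ≤ A → Nat.card A = Nat.card H * p → U ⊓ 𝐂 H ≤ X) : U ≤ X := by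
  obtain ⟨W, h1, h2⟩ := exists_compl_abelem hp.out hA hB
  have hW : W ≤ A := h1 ▸ le_sup_right
  have hcomm : ∀ {Y Z : Subgroup G}, Y ≤ A → Z ≤ A → Y ≤ 𝐍 Z := fun hY hZ =>
    (hY.trans ((elemAb_le_cent hA).trans (centralizer_le hZ))).trans (centralizer_le_normalizer _)
  refine le_of_forall_hyperplane' (elemAb_of_le hA hW) (fun e => ?_) (hW.trans hn) hU fun H hH hi => ?_
  · rw [e, sup_bot_eq] at h1; rw [h1] at hlt; exact lt_irrefl _ hlt
  · refine le_trans ?_ (h (B ⊔ H) le_sup_left (sup_le hB (hH.trans hW)) ?_)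
    · rw [Lib.Core.centralizer_sup]; exact le_inf inf_le_left (le_inf (inf_le_left.trans hc) inf_le_right)
    · rw [← h1, card_sup_of_disjoint (hcomm hB hW) h2, card_sup_of_disjoint (hcomm hB (hH.trans hW))
        (eq_bot_iff.2 (h2 ▸ inf_le_inf_left _ hH)), ← card_mul_relIndex hH, hi, mul_assoc]

/-- Let G be finite and k-balanced for the prime p (k ≥ 1), A an elementary abelian p-subgroup of order at least p^(k+2) such that O_{p'}(C_G(a)) is solvable for every non-identity a ∈ A. For a ∈ A put θ a = the subgroup generated by the Δ_G(D) ∩ C_G(a) over the subgroups D ≤ A of order p^k. Then θ is an A-signalizer functor. -/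
theorem result {G : Type*} [Group G] [Finite G] (p k : ℕ) [Fact p.Prime] (hk : 1 ≤ k) (hbal : Cfsg.IsKBalanced p k G) (A : Subgroup G) (hA : Cfsg.IsElementaryAbelian p A) (hAk : p ^ (k + 2) ≤ Nat.card ↥A) (hsolv : ∀ a ∈ A, a ≠ 1 → Group.IsSolvable ↥(Cfsg.centralizerPPrimeCore p a)) : Cfsg.IsSignalizerFunctor p A (fun a => ⨆ D : {D : Subgroup G // D ≤ A ∧ Nat.card ↥D = p ^ k}, Cfsg.signalizerDelta p (D : Subgroup G) ⊓ Subgroup.centralizer {a}) := by
  classical
  have hp : p.Prime := Fact.out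
  have hAp := elemAb_isPGroup hA
  have hAc := elemAb_le_cent hA
  have f1 : ∀ D E : Subgroup G, D ≤ E → E ≤ A → p ^ k ≤ Nat.card D →
      signalizerDelta p D ⊓ 𝐂 E ≤ signalizerDelta p E := by
    intro D E hDE hE hD
    obtain ⟨D', hD', hc⟩ := exists_le_card_eq_pow (hAp.to_le (hDE.trans hE)) hD
    refine le_delta fun e he h1 => le_trans (inf_le_inf (delta_anti hD') (cent_le_cent1 he)) ?_
    exact hbal D' (elemAb_of_le hA (hD'.trans (hDE.trans hE))) hc e (orderOf_eq_prime (hA.2 e (hE he)) h1)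
      fun a ha => hAc (hE he) a (hE (hDE (hD' ha)))
  let T : Subgroup G → Subgroup G := fun B =>
    ⨆ H : {H : Subgroup G // B ≤ H ∧ H ≤ A ∧ Nat.card A = Nat.card H * p}, signalizerDelta p H.1
  have leT : ∀ B H, B ≤ H → H ≤ A → Nat.card A = Nat.card H * p → signalizerDelta p H ≤ T B :=
    fun B H h1 h2 h3 => le_iSup_of_le ⟨H, h1, h2, h3⟩ le_rfl
  have Tle : ∀ B X, (∀ H, B ≤ H → H ≤ A → Nat.card A = Nat.card H * p → signalizerDelta p H ≤ X) → T B ≤ X :=
    fun B X h => iSup_le fun H => h H.1 H.2.1 H.2.2.1 H.2.2.2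
  have Tcpc : ∀ B, ∀ b ∈ B, b ≠ 1 → T B ≤ centralizerPPrimeCore p b := fun B b hb h1 =>
    Tle _ _ fun H h _ _ => delta_le (h hb) h1
  have Tc : ∀ B, T B ≤ 𝐂 B := fun B => Tle _ _ fun H h _ _ => delta_le_cent.trans (centralizer_le h)
  have Tn : ∀ B, A ≤ 𝐍 (T B) := fun B => le_normalizer_iSup fun H =>
    (hAc.trans (centralizer_le H.2.2.1)).trans cent_le_norm_delta
  have Td : ∀ B, ∀ b ∈ B, b ≠ 1 → ¬ p ∣ Nat.card (T B) := fun B b hb h1 h =>
    cpc_not_dvd b (h.trans (card_dvd_of_le (Tcpc B b hb h1)))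
  have hz : ∀ B ≤ A, ∀ e ∈ A, Nat.card (B ⊔ zpowers e : Subgroup G) ≤ Nat.card B * p := fun B hB e he => by
    refine (Nat.le_of_dvd (Nat.mul_pos Nat.card_pos Nat.card_pos) (card_sup_dvd'
      ((zpowers_le.2 he).trans ((hAc.trans (centralizer_le hB)).trans (centralizer_le_normalizer _))))).trans ?_
    rw [Nat.card_zpowers]
    exact Nat.mul_le_mul_left _ (Nat.le_of_dvd hp.pos (orderOf_dvd_of_pow_eq_one (hA.2 e he)))
  have bal : ∀ B B', B ≤ B' → B' ≤ A → Nat.card B' < Nat.card A → (∃ b ∈ B, b ≠ 1) →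
      (∀ H, B ≤ H → H ≤ A → Nat.card A = Nat.card H * p → T B ⊓ 𝐂 H ≤ signalizerDelta p H) →
      T B ⊓ 𝐂 B' ≤ T B' := by
    rintro B B' h1 h2 h3 ⟨b, hb, hb1⟩ h
    refine gen hA h2 h3 (le_normalizer_inf (Tn B) (le_norm_cent_of_le hA.1 h2))
      (fun hd => Td B b hb hb1 (hd.trans (card_dvd_of_le inf_le_left))) inf_le_right fun H k1 k2 k3 => ?_
    exact ((inf_le_inf_right _ inf_le_left).trans (h H (h1.trans k1) k2 k3)).trans (leT B' H k1 k2 k3)
  have claim : ∀ B ≤ A, ∀ H, B ≤ H → H ≤ A → Nat.card A = Nat.card H * p →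
      T B ⊓ 𝐂 H ≤ signalizerDelta p H := by
    intro B
    induction B using WellFoundedGT.induction with
    | _ B ih =>
    intro hB H hBH hH hc
    by_cases hk' : p ^ k ≤ Nat.card B
    · exact (inf_le_inf_right _ (Tle B _ fun H' h _ _ => delta_anti h)).trans (f1 B H hBH hH hk')
    obtain ⟨W, h1, h2⟩ := exists_compl_abelem hp hA hB
    have hW : W ≤ A := h1 ▸ le_sup_right
    have hBW : B ≤ 𝐍 W := (hB.trans (hAc.trans (centralizer_le hW))).trans (centralizer_le_normalizer _)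
    have hcard : Nat.card A = Nat.card B * Nat.card W := by rw [← h1, card_sup_of_disjoint hBW h2]
    have hW3 : p ^ 3 ≤ Nat.card W := by
      obtain ⟨j, hj⟩ := (hAp.to_le hW).exists_card_eq
      rw [hj]; refine Nat.pow_le_pow_right hp.pos ?_
      by_contra hlt
      have : Nat.card B * Nat.card W < p ^ k * p ^ 2 :=
        Nat.mul_lt_mul_of_lt_of_le (not_le.1 hk') (hj ▸ Nat.pow_le_pow_right hp.pos (by omega)) (pow_pos hp.pos 2)
      rw [← hcard, ← pow_add] at this; omega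
    have hlt : ∀ e ∈ W, e ≠ 1 → B < B ⊔ zpowers e := fun e he h1 => left_lt_sup.2 fun h =>
      h1 (mem_bot.1 (h2 ▸ (⟨h (mem_zpowers e), he⟩ : e ∈ B ⊓ W)))
    have hmem : ∀ e, e ∈ B ⊔ zpowers e := fun e => mem_sup_right (mem_zpowers e)
    have hle : ∀ e ∈ W, B ⊔ zpowers e ≤ A := fun e he => sup_le hB (zpowers_le.2 (hW he))
    obtain ⟨X, -, hX, hX'⟩ := Lib.Sig.sft (p := p) (A := W) (θ := fun e => T (B ⊔ zpowers e))
      (sf_mk (fun e _ _ => (Tc _).trans (cent_le_cent1 (hmem e))) fun e he h1 =>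
        ⟨Td _ e (hmem e) h1, hW.trans (Tn _), fun e' he' h1' => by
          have := bal (B ⊔ zpowers e) (B ⊔ zpowers e ⊔ zpowers e') le_sup_left
            (sup_le (hle e he) (zpowers_le.2 (hW he'))) (by
              refine ((hz _ (hle e he) e' (hW he')).trans (Nat.mul_le_mul_right _ (hz _ hB e (hW he)))).trans_lt ?_
              rw [hcard, mul_assoc]
              refine Nat.mul_lt_mul_of_pos_left (lt_of_lt_of_le ?_ hW3) Nat.card_pos
              rw [← sq]; exact Nat.pow_lt_pow_right hp.one_lt (by norm_num)) ⟨e, hmem e, h1⟩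
            (ih _ (hlt e he h1) (hle e he))
          refine le_trans ?_ (this.trans (Tle _ _ fun H k1 k2 k3 => leT _ H
            (sup_le (le_sup_left.trans (le_sup_left.trans k1)) (le_sup_right.trans k1)) k2 k3))
          rw [Lib.Core.centralizer_sup _ (zpowers e'), cent_zpowers]
          exact le_inf inf_le_left (le_inf (inf_le_left.trans (Tc _)) inf_le_right)⟩)
      (fun e he h1 => solvable_of_le (Tcpc _ e (hmem e) h1) (hsolv e (hW he) h1)) (elemAb_of_le hA hW) hW3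
    have hex : ∀ H, B ≤ H → H ≤ A → Nat.card A = Nat.card H * p → ∃ e ∈ W, e ≠ 1 ∧ e ∈ H := by
      intro H k1 k2 k3
      by_contra hc
      push Not at hc
      have hb : W ⊓ H = ⊥ := eq_bot_iff.2 fun e he => by
        by_contra h; exact hc e he.1 h he.2
      have : H = B := by
        rw [← inf_eq_right.2 k2, ← h1, sup_inf_assoc_of_le_normalizer hBW k1, hb, sup_bot_eq]
      rw [this, hcard, Nat.mul_right_inj Nat.card_pos.ne'] at k3
      rw [k3] at hW3
      exact absurd hW3 (not_le.2 (by simpa using Nat.pow_lt_pow_right hp.one_lt (by norm_num : 1 < 3)))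
    have hTX : T B ≤ X := Tle _ _ fun H' k1 k2 k3 => by
      obtain ⟨e, he, h1, heH⟩ := hex H' k1 k2 k3
      exact (leT _ H' (sup_le k1 (zpowers_le.2 heH)) k2 k3).trans (hX' e he h1)
    obtain ⟨e, he, h1, heH⟩ := hex H hBH hH hc
    refine le_trans (le_inf ?_ inf_le_right) (ih _ (hlt e he h1) (hle e he) H (sup_le hBH (zpowers_le.2 heH)) hH hc)
    exact (inf_le_inf hTX (cent_le_cent1 heH)).trans (hX.inf_le e he h1)
  have hzp : ∀ a ∈ A, Nat.card (zpowers a) ≤ p := fun a ha => by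
    rw [Nat.card_zpowers]; exact Nat.le_of_dvd hp.pos (orderOf_dvd_of_pow_eq_one (hA.2 a ha))
  have heq : ∀ a ∈ A, a ≠ 1 → (⨆ D : {D : Subgroup G // D ≤ A ∧ Nat.card ↥D = p ^ k},
      signalizerDelta p (D : Subgroup G) ⊓ 𝐂[a]) = T (zpowers a) := by
    intro a ha h1
    refine le_antisymm (iSup_le fun ⟨D, hD, hc⟩ => ?_) (Tle _ _ fun H k1 k2 k3 => ?_)
    · have hD1 : D ≠ ⊥ := fun h => by
        rw [h, card_bot] at hc; exact absurd hc (Nat.one_lt_pow (by omega) hp.one_lt).ne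
      refine gen hA (sup_le hD (zpowers_le.2 ha)) ((hz D hD a ha).trans_lt ?_)
        (le_normalizer_inf ((hAc.trans (centralizer_le hD)).trans cent_le_norm_delta) (le_norm_cent1 hA.1 ha))
        (fun h => delta_not_dvd hD1 (h.trans (card_dvd_of_le inf_le_left))) ?_ fun H k1 k2 k3 => ?_
      · rw [hc, ← pow_succ]; exact (Nat.pow_lt_pow_right hp.one_lt (by omega)).trans_le hAk
      · rw [Lib.Core.centralizer_sup, cent_zpowers]; exact inf_le_inf_right _ delta_le_cent
      · exact ((inf_le_inf_right _ inf_le_left).trans (f1 D H (le_sup_left.trans k1) k2 hc.ge)).trans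
          (leT _ H (le_sup_right.trans k1) k2 k3)
    · obtain ⟨D, hD, hc⟩ := exists_le_card_eq_pow (k := k) (hAp.to_le k2) (by
        rw [k3, pow_succ] at hAk
        exact (Nat.pow_le_pow_right hp.pos (by omega)).trans (Nat.le_of_mul_le_mul_right hAk hp.pos))
      exact le_iSup_of_le ⟨D, hD.trans k2, hc⟩ (le_inf (delta_anti hD)
        (delta_le_cent.trans (cent_le_cent1 (k1 (mem_zpowers a)))))
  refine sf_mk (fun a ha h1 => iSup_le fun _ => inf_le_right) fun a ha h1 => ?_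
  simp only [heq a ha h1]
  refine ⟨Td _ a (mem_zpowers a) h1, Tn _, fun b hb h2 => ?_⟩
  simp only [heq b hb h2]
  have := bal (zpowers a) (zpowers a ⊔ zpowers b) le_sup_left (sup_le (zpowers_le.2 ha) (zpowers_le.2 hb))
    (((hz _ (zpowers_le.2 ha) b hb).trans (Nat.mul_le_mul_right _ (hzp a ha))).trans_lt (by
      rw [← sq]; exact (Nat.pow_lt_pow_right hp.one_lt (by omega)).trans_le hAk)) ⟨a, mem_zpowers a, h1⟩
    (claim _ (zpowers_le.2 ha))
  refine le_trans ?_ (this.trans (Tle _ _ fun H k1 k2 k3 => leT _ H (le_sup_right.trans k1) k2 k3))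
  rw [Lib.Core.centralizer_sup, cent_zpowers b]
  exact le_inf inf_le_left (le_inf (inf_le_left.trans (Tc _)) inf_le_right)

end Cfsg.Agent.S1299
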