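import Cfsg.Statements.S1300
import Cfsg.Agent.Lib.Layer.CompAction

set_option autoImplicit false
open Cfsg

namespace Cfsg.Agent.S1300

open Cfsg.Lib.Layer

/-- For a finite group G, balance in the sense of commuting involutions is the same as 1-balance for the prime 2. -/
theorem result {G : Type*} [Group G] [Finite G] : Cfsg.IsBalanced G ↔ Cfsg.IsKBalanced 2 1 G := by
  constructor
  · intro h A hA hc b hb hab
    obtain ⟨x, hx⟩ := exists_prime_orderOf_dvd_card' (G := A) 2 (by rw [hc]; norm_num)
    have hx2 : orderOf (x : G) = 2 := by rw [Subgroup.orderOf_coe, hx]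
    have hx1 : (x : G) ≠ 1 := fun e => by simp [e] at hx2
    have h1 : signalizerDelta 2 A ≤ centralizerPPrimeCore 2 (x : G) :=
      iInf_le (fun a : {a : G // a ∈ A ∧ a ≠ 1} => centralizerPPrimeCore 2 (a : G)) ⟨x, x.2, hx1⟩
    exact ((inf_le_inf_right _ h1).trans (h x b hx2 hb (hab x x.2)).le).trans inf_le_left
  · intro h
    have key : ∀ x y : G, orderOf x = 2 → orderOf y = 2 → x * y = y * x →
        centralizerPPrimeCore 2 x ⊓ Subgroup.centralizer {y} ≤
          centralizerPPrimeCore 2 y ⊓ Subgroup.centralizer {x} := by
      intro x y hx hy hxy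
      have hmem : ∀ a ∈ Subgroup.zpowers x, a = 1 ∨ a = x := by
        intro a ha
        classical
        rw [mem_zpowers_iff_mem_range_orderOf, hx] at ha
        simp only [Finset.mem_image, Finset.mem_range] at ha
        obtain ⟨i, hi, rfl⟩ := ha
        interval_cases i <;> simp
      refine le_inf (le_trans (inf_le_inf_right _ ?_) (h (Subgroup.zpowers x) ⟨inferInstance, ?_⟩
        (by rw [Nat.card_zpowers, hx, pow_one]) y hy ?_)) (inf_le_left.trans (Subgroup.map_subtype_le _))
      · refine le_iInf fun a => ?_
        rw [(hmem a a.2.1).resolve_left a.2.2]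
      · intro a ha
        rcases hmem a ha with rfl | rfl
        · simp
        · rw [← hx, pow_orderOf_eq_one]
      · intro a ha
        rcases hmem a ha with rfl | rfl
        · simp
        · exact hxy
    intro x y hx hy hxy
    exact le_antisymm (key x y hx hy hxy) (key y x hy hx hxy.symm)

end Cfsg.Agent.S1300
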