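import Cfsg.Statements.S1303
import Cfsg.Agent.Lib.Layer.Bender
import Cfsg.Agent.Lib.Linear.PUnip
import Cfsg.Agent.Lib.Linear.PSL2Sub
import Cfsg.Agent.Lib.Linear.DicksonFin
import Cfsg.Agent.Lib.Core.UpperP

set_option autoImplicit false
open Cfsg

namespace Cfsg.Agent.S1303

open Subgroup Cfsg.Lib.Core Cfsg.Lib.Amalg Cfsg.Lib.BG1 Cfsg.Lib.Layer

/-- The group X = SL(2, 3): it is 2-constrained, O_{2'}(X) = 1, its centre A = Z(X) contains every involution of X = C_X(A), and X has a subgroup of order 3 (normalized by A) not contained in O_{2'}(X). -/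
theorem result : Cfsg.IsPConstrained 2 (Matrix.SpecialLinearGroup (Fin 2) (ZMod 3)) ∧ Cfsg.pPrimeCore 2 (Matrix.SpecialLinearGroup (Fin 2) (ZMod 3)) = ⊥ ∧ (∀ t : Matrix.SpecialLinearGroup (Fin 2) (ZMod 3), orderOf t = 2 → t ∈ Subgroup.center (Matrix.SpecialLinearGroup (Fin 2) (ZMod 3))) ∧ ∃ Q : Subgroup (Matrix.SpecialLinearGroup (Fin 2) (ZMod 3)), Nat.card ↥Q = 3 ∧ ¬ (Q ≤ Cfsg.pPrimeCore 2 (Matrix.SpecialLinearGroup (Fin 2) (ZMod 3))) := by
  have h23 : (2 : ZMod 3) ≠ 0 := by decide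
  haveI : Fact (Nat.Prime 3) := ⟨Nat.prime_three⟩
  have hc : Nat.card (Matrix.SpecialLinearGroup (Fin 2) (ZMod 3)) = 24 := by
    rw [Lib.Linear.card_SL_two, Nat.card_zmod]
  haveI := Lib.Linear.isSolvable_PSL2 (F := ZMod 3) (by rw [Nat.card_zmod])
  haveI := Group.isSolvable_of_comm (G := center (Matrix.SpecialLinearGroup (Fin 2) (ZMod 3))) mul_comm'
  haveI : Group.IsSolvable (Matrix.SpecialLinearGroup (Fin 2) (ZMod 3)) :=
    Group.isSolvable_of_ker_le_range (center _).subtype (QuotientGroup.mk' (center _)) (by simp)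
  have hO : pPrimeCore 2 (Matrix.SpecialLinearGroup (Fin 2) (ZMod 3)) = ⊥ := by
    by_contra h
    have h1 := card_subgroup_dvd_card (pPrimeCore 2 (Matrix.SpecialLinearGroup (Fin 2) (ZMod 3)))
    have h2 := coprime_card_pPrimeCore 2 (Matrix.SpecialLinearGroup (Fin 2) (ZMod 3))
    have h3 : Nat.card (pPrimeCore 2 (Matrix.SpecialLinearGroup (Fin 2) (ZMod 3))) = 3 ^ 1 :=
      ((Nat.dvd_prime Nat.prime_three).1 ((Nat.Coprime.pow_right 3 h2).dvd_of_dvd_mul_left (h1.trans (by rw [hc])))).resolve_left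
        fun c => h (card_eq_one.1 c)
    let P : Sylow 3 _ := (IsPGroup.of_card h3).toSylow (by
      have := (pPrimeCore 2 (Matrix.SpecialLinearGroup (Fin 2) (ZMod 3))).card_mul_index
      rw [h3, hc] at this; omega)
    haveI := Sylow.unique_of_normal P (pPrimeCore_normal 2 _)
    have := Lib.Linear.card_sylow_SL2 (p := 3) (K := ZMod 3)
    rw [Nat.card_unique, Nat.card_zmod] at this
    omega
  refine ⟨isPConstrained_of_isSolvable, hO, fun t ht => ?_, ?_⟩
  · rcases Lib.Linear.sl2_mul_self_eq_one h23 (g := t)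
      (by have := pow_orderOf_eq_one t; rwa [ht, pow_two] at this) with rfl | rfl
    · exact one_mem _
    · exact mem_center_iff.2 fun g => by simp
  · obtain ⟨x, hx⟩ := exists_prime_orderOf_dvd_card' (G := Matrix.SpecialLinearGroup (Fin 2) (ZMod 3)) 3 (by rw [hc]; decide)
    refine ⟨zpowers x, by rw [Nat.card_zpowers, hx], fun c => ?_⟩
    rw [hO, le_bot_iff, zpowers_eq_bot] at c
    simp [c] at hx

end Cfsg.Agent.S1303
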