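import Cfsg.Statements.S1304
import Cfsg.Agent.Lib.Layer.Component

set_option autoImplicit false
open Cfsg

namespace Cfsg.Agent.S1304

open Cfsg.Lib.Layer

/-- Let X be a perfect group and α an automorphism of X with α(x) x⁻¹ central for every x. Then α is the identity. -/
theorem result {X : Type*} [Group X] (hperf : commutator X = ⊤) (α : X ≃* X) (h : ∀ x : X, α x * x⁻¹ ∈ Subgroup.center X) : ∀ x : X, α x = x := by
  let K : Subgroup X :=
    { carrier := {x | α x = x}
      mul_mem' := fun {a b} ha hb => by
        simp only [Set.mem_setOf_eq] at *; rw [map_mul, ha, hb]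
      one_mem' := by simp
      inv_mem' := fun {a} ha => by simp only [Set.mem_setOf_eq] at *; rw [map_inv, ha] }
  have hk : commutator X ≤ K := by
    rw [commutator_def, Subgroup.commutator_le]
    intro a _ b _
    show α _ = _
    have ha : α a = (α a * a⁻¹) * a := by group
    have hb : α b = (α b * b⁻¹) * b := by group
    have h1 := Subgroup.mem_center_iff.1 (h a)
    have h2 := Subgroup.mem_center_iff.1 (h b)
    rw [map_commutatorElement, ha, hb]
    generalize α a * a⁻¹ = z at *
    generalize α b * b⁻¹ = w at *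
    simp only [commutatorElement_def, mul_inv_rev]
    calc z * a * (w * b) * (a⁻¹ * z⁻¹) * (b⁻¹ * w⁻¹)
        = z * (a * (w * b) * a⁻¹) * z⁻¹ * b⁻¹ * w⁻¹ := by group
      _ = a * (w * b) * a⁻¹ * b⁻¹ * w⁻¹ := by rw [← h1]; group
      _ = (a * w) * (b * a⁻¹ * b⁻¹) * w⁻¹ := by group
      _ = w * (a * b * a⁻¹ * b⁻¹) * w⁻¹ := by rw [h2]; group
      _ = _ := by rw [← h2]; group
  intro x
  exact hk (hperf ▸ Subgroup.mem_top x)

end Cfsg.Agent.S1304
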