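import Cfsg.Statements.S1305
import Cfsg.Agent.Lib.Layer.Pumpup2

set_option autoImplicit false
open Cfsg

namespace Cfsg.Agent.S1305

open Subgroup Cfsg.Lib.Core Cfsg.Lib.Amalg Cfsg.Lib.BG1 Cfsg.Lib.Layer

/-- Let G be a finite group of component type with the B-property and no nontrivial normal subgroup of odd order. Let a be an involution and K a component of C_G(a) such that (a) |K| is maximal among the orders of components of centralizers of involutions of G, (b) subject to (a) the 2-rank of the centralizer of K in C_G(a) is as large as possible, and (c) K has 2-rank at least 2. If B is an elementary abelian 2-subgroup of that centralizer of the largest possible order, then K is a component of C_G(b) for every non-identity b ∈ B. -/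
theorem result {G : Type*} [Group G] [Finite G] (hO : Cfsg.oddCore G = ⊥) (hB : Cfsg.HasBProperty G) (hct : Cfsg.IsComponentType G) (a : G) (ha : orderOf a = 2) (K : Subgroup G) (hKa : K ≤ Subgroup.centralizer ({a} : Set G)) (hK : Cfsg.IsComponent (K.subgroupOf (Subgroup.centralizer ({a} : Set G)))) (hmax : ∀ y : G, orderOf y = 2 → ∀ K' : Subgroup G, K' ≤ Subgroup.centralizer ({y} : Set G) → Cfsg.IsComponent (K'.subgroupOf (Subgroup.centralizer ({y} : Set G))) → Nat.card ↥K' ≤ Nat.card ↥K ∧ (Nat.card ↥K' = Nat.card ↥K → ∀ k : ℕ, Cfsg.PRankLE 2 k ↥(Subgroup.centralizer ({a} : Set G) ⊓ Subgroup.centralizer (K : Set G)) → Cfsg.PRankLE 2 k ↥(Subgroup.centralizer ({y} : Set G) ⊓ Subgroup.centralizer (K' : Set G)))) (hrk : ¬ Cfsg.PRankLE 2 1 ↥K) (B : Subgroup G) (hBle : B ≤ Subgroup.centralizer ({a} : Set G) ⊓ Subgroup.centralizer (K : Set G)) (hBel : Cfsg.IsElementaryAbelian 2 B) (hBmax : ∀ B' : Subgroup G, B' ≤ Subgroup.centralizer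 ({a} : Set G) ⊓ Subgroup.centralizer (K : Set G) → Cfsg.IsElementaryAbelian 2 B' → Nat.card ↥B' ≤ Nat.card ↥B) (b : G) (hb : b ∈ B) (hb1 : b ≠ 1) : K ≤ Subgroup.centralizer ({b} : Set G) ∧ Cfsg.IsComponent (K.subgroupOf (Subgroup.centralizer ({b} : Set G))) := by
  haveI : Fact (Nat.Prime 2) := ⟨Nat.prime_two⟩
  have hbo := Lib.BG2.elem_orderOf hBel hb hb1
  obtain ⟨hb2, hb3⟩ := mem_inf.1 (hBle hb)
  have haH : a ∈ 𝐂[b] := mem_cent1_symm hb2
  have hKH : K ≤ 𝐂[b] := mem_cent1_of_mem_cent hb3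
  have haK : a ∈ 𝐂(K) := mem_cent_of_le_cent1 hKa
  have hP : IsPComponentOf 2 K (𝐂[b] ⊓ 𝐂(zpowers a)) := cent_zpowers a ▸
    IsComponentOf.two (IsComponentOf.of_le ⟨hKa, hK⟩ (le_inf hKH hKa) inf_le_right)
  have hR : zpowers a ≤ 𝐂[b] := zpowers_le.2 haH
  obtain ⟨D, hD, hn, hle⟩ := IsPComponentOf.exists_le_conjClosure_of hP hR (((IsPComponentOf.le_pLayerOf hP).trans
    (l_balance_two_of hR (isPGroup_zpowers_prime ha))).trans (HasBProperty.pLayerOf_le hB hO hbo))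
  obtain ⟨m1, m2⟩ := hmax b hbo D hD.1 hD.2
  by_cases h : a ∈ 𝐍(D)
  · rw [conjClosure_eq_self (zpowers_le.2 h)] at hle
    exact eq_of_le_of_card_ge hle m1 ▸ hD
  exfalso
  have ha2 := mul_self_of_orderOf ha
  have hc := IsComponentOf.cj_le_cent hD (le_normalizer haH) h
  obtain ⟨π, p1, p2⟩ := exists_diag_two ha2 hc
  have p3 : ∀ k : D, (k : G)⁻¹ * π k ∈ 𝐂(D) := fun k => by
    rw [p1, inv_mul_cancel_left]; exact hc (conj_mem_cj a k.2)
  have p4 := IsPComponentOf.eq_diag hP (hR.trans le_normalizer) hD hle p2 p3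
  have p5 : Nat.card D = Nat.card π.range * Nat.card π.ker := by
    rw [← Nat.card_congr (QuotientGroup.quotientKerEquivRange π).toEquiv, card_eq_card_quotient_mul_card_subgroup π.ker]
  rw [p4] at p5
  have p6 : Nat.card π.ker = 1 := by
    have := Nat.card_pos (α := π.ker)
    have := Nat.card_pos (α := K)
    nlinarith
  have p7 : Function.Injective π := (MonoidHom.ker_eq_bot_iff π).1 (card_eq_one.1 p6)
  obtain ⟨k, hk⟩ := (elemAb_isPGroup hBel).exists_card_eq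
  have r1 := Lib.BG2.prank_iff.1 (m2 (by rw [p5, p6, mul_one]) k
    (Lib.BG2.prank_iff.2 fun A h1 h2 => hk ▸ hBmax A h1 h2))
  have hBa : B ≤ 𝐂(zpowers a) := cent_zpowers a ▸ hBle.trans inf_le_left
  have haB : a ∈ B := by
    have h1 := elemAb_sup hBel (Lib.BG2.elem_zpowers (ha ▸ pow_orderOf_eq_one a)) hBa
    exact (eq_of_le_of_card_ge le_sup_left (hBmax _ (sup_le hBle (zpowers_le.2 (mem_inf.2
      ⟨mem_centralizer_singleton_iff.2 rfl, haK⟩))) h1)).ge ((le_sup_right : zpowers a ≤ _) (mem_zpowers a))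
  have hBH : B ≤ 𝐂[b] := le_cent1_of_comm hBel.1 hb
  have hBK : B ≤ 𝐂(K) := hBle.trans inf_le_right
  have b1 : B ⊓ 𝐍(D) ≤ 𝐂(D) := (inf_le_inf_right _ (p4 ▸ hBK)).trans (diag_cent (IsComponentOf.perfect hD) p3)
  have b2 : B ⊓ 𝐍(D) ≤ 𝐂(cj a D) := by
    rw [← cj_centralizer]
    exact (cj_of_mem_centralizer (Lib.BG1.le_cent_symm (inf_le_left.trans hBa) (mem_zpowers a))).ge.trans (cj_mono a b1)
  have b3 : B ≤ (B ⊓ 𝐍(D)) ⊔ zpowers a := fun c hc' => by
    rw [conjClosure_zpowers_two ha2] at hle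
    rcases IsComponentOf.cj_eq_or hD (IsComponentOf.conj_of_mem hD (le_normalizer haH))
      (IsComponentOf.conj_of_mem hD (le_normalizer (hBH hc'))) hle (not_le_cent_cj (cent_le_norm _ (hBK hc')) hn) with e | e
    · exact (le_sup_left : B ⊓ 𝐍(D) ≤ _) (mem_inf.2 ⟨hc', cj_eq_self_iff.1 e⟩)
    · rw [sup_comm, ← mul_inv_cancel_left a c]
      exact mul_mem_sup (mem_zpowers a) (mem_inf.2 ⟨mul_mem (inv_mem haB) hc',
        cj_eq_self_iff.1 (by rw [cj_mul, e, cj_inv_cj])⟩)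
  have b4 : Nat.card B ≤ Nat.card ↥(B ⊓ 𝐍(D)) * 2 := by
    have h1 := card_sup_mul_card_inf (le_norm_of_le_cent (inf_le_left.trans hBa : B ⊓ 𝐍(D) ≤ _))
    rw [Nat.card_zpowers, ha] at h1
    exact (card_le_of_le b3).trans (h1 ▸ Nat.le_mul_of_pos_right _ Nat.card_pos)
  have hrk' : ¬ PRankLE 2 1 (cj a D) := by
    rw [Lib.BG2.prank_cj, ← Lib.BG2.prank_top_iff, ← Lib.BG2.prank_map_of_injective p7, ← MonoidHom.range_eq_map, p4]
    exact hrk
  obtain ⟨E, hE⟩ := Lib.BG2.not_prank_iff.1 hrk'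
  have b5 : B ⊓ 𝐍(D) ≤ 𝐂(E) := b2.trans (cent_anti hE.le)
  have b6 : (B ⊓ 𝐍(D)) ⊓ E = ⊥ := eq_bot_iff.2 fun z hz => by
    obtain ⟨hz1, hz2⟩ := mem_inf.1 hz
    have h1 : a * z = z * a := hBa (mem_inf.1 hz1).1 a (mem_zpowers a)
    have h2 : z ∈ D := by
      have := mem_cj.1 (hE.le hz2)
      rwa [mul_assoc, ← h1, inv_mul_cancel_left] at this
    have h3 : π ⟨z, h2⟩ = 1 := by
      rw [p1, h1, mul_inv_cancel_right, ← pow_two]; exact hE.elem.2 z hz2
    exact congrArg Subtype.val ((injective_iff_map_eq_one π).1 p7 _ h3)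
  have b7 := r1 _ (sup_le (le_inf (inf_le_left.trans hBH) b1) (hE.le.trans (le_inf
    (cj_le_of_le_of_mem hD.1 haH) hc))) (elemAb_sup (elemAb_of_le hBel inf_le_left) hE.elem b5)
  have b8 := card_sup_mul_card_inf (le_norm_of_le_cent b5)
  rw [b6, card_bot, hE.card] at b8
  have := Nat.card_pos (α := ↥(B ⊓ 𝐍(D)))
  omega

end Cfsg.Agent.S1305
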