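import Cfsg.Statements.S1306
import Cfsg.Agent.Lib.Layer.Pumpup2

set_option autoImplicit false
open Cfsg

namespace Cfsg.Agent.S1306

open Subgroup Cfsg.Lib.Core Cfsg.Lib.Amalg Cfsg.Lib.BG1 Cfsg.Lib.Layer

/-- Let G be finite, x an involution and L ≤ C_G(x) a component of C_G(x). Suppose L is a component of C_G(y) for every involution y ∈ C_G(L), and ⁅L, g L g⁻¹⁆ ≠ 1 whenever g L g⁻¹ ≠ L. Then L is a standard subgroup of G. -/
theorem result {G : Type*} [Group G] [Finite G] (x : G) (hx : orderOf x = 2) (L : Subgroup G) (hLx : L ≤ Subgroup.centralizer ({x} : Set G)) (hL : Cfsg.IsComponent (L.subgroupOf (Subgroup.centralizer ({x} : Set G)))) (hne : ∀ y : G, orderOf y = 2 → y ∈ Subgroup.centralizer (L : Set G) → L ≤ Subgroup.centralizer ({y} : Set G) ∧ Cfsg.IsComponent (L.subgroupOf (Subgroup.centralizer ({y} : Set G)))) (hnc : ∀ g : G, L.map (MulAut.conj g).toMonoidHom ≠ L → ⁅L, L.map (MulAut.conj g).toMonoidHom⁆ ≠ ⊥) : Cfsg.IsStandardSubgroup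 L := by
  have key : ∀ g y : G, orderOf y = 2 → y ∈ 𝐂(L) → y ∈ cj g 𝐂(L) → g ∈ 𝐍(L) := by
    intro g y hy h1 h2
    have h3 : IsComponentOf L 𝐂[g⁻¹ * y * g] := hne _ (by simpa using (orderOf_conj' g⁻¹ y).trans hy) (mem_cj.1 h2)
    have h4 := IsComponentOf.conj h3 g
    rw [cj_centralizer_singleton, show g * (g⁻¹ * y * g) * g⁻¹ = y by group] at h4
    by_contra hn
    rcases IsComponentOf.eq_or_le_cent (hne y hy h1) h4 with e | e
    · exact hn (cj_eq_self_iff.1 e.symm)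
    · exact hnc g (fun e' => hn (cj_eq_self_iff.1 e')) (comm_eq_bot_iff.2 e)
  have hxL : x ∈ 𝐂(L) := mem_cent_of_le_cent1 hLx
  refine ⟨IsComponentOf.quasisimple ⟨hLx, hL⟩, ⟨even_iff_two_dvd.2 (hx ▸ Subgroup.orderOf_dvd_natCard _ hxL), fun g hg => ?_⟩, hnc,
    le_antisymm (le_normalizer_centralizer le_rfl) fun g hg => key g x hx hxL ((cj_of_mem_normalizer hg).ge hxL)⟩
  rw [← Nat.not_even_iff_odd, even_iff_two_dvd]
  intro hd
  obtain ⟨y, hy, ho⟩ := exists_mem_orderOf_eq_prime Nat.prime_two hd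
  exact hg (le_normalizer_centralizer le_rfl (key g y ho (mem_inf.1 hy).1 (mem_inf.1 hy).2))

end Cfsg.Agent.S1306
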