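import Cfsg.Statements.S1307
import Cfsg.Agent.Lib.Layer.Pumpup2
import Cfsg.Agent.Lib.Block.ZStar

set_option autoImplicit false
open Cfsg

namespace Cfsg.Agent.S1307

open Subgroup Cfsg.Lib.Core Cfsg.Lib.Amalg Cfsg.Lib.BG1 Cfsg.Lib.Layer

/-- Let G be finite, x an involution and L ≤ C_G(x) a component of C_G(x) of even order and 2-rank 1, such that L is a component of C_G(y) for every involution y ∈ C_G(L). Then some involution of L is a classical involution of G. -/
theorem result {G : Type*} [Group G] [Finite G] (x : G) (hx : orderOf x = 2) (L : Subgroup G) (hLx : L ≤ Subgroup.centralizer ({x} : Set G)) (hL : Cfsg.IsComponent (L.subgroupOf (Subgroup.centralizer ({x} : Set G)))) (heven : Even (Nat.card ↥L)) (hrk : Cfsg.PRankLE 2 1 ↥L) (hne : ∀ y : G, orderOf y = 2 → y ∈ Subgroup.centralizer (L : Set G) → L ≤ Subgroup.centralizer ({y} : Set G) ∧ Cfsg.IsComponent (L.subgroupOf (Subgroup.centralizer ({y} : Set G)))) : ∃ t ∈ L, Cfsg.IsClassicalInvolution t := by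
  haveI : Fact (Nat.Prime 2) := ⟨Nat.prime_two⟩
  have hq : IsQuasisimple L := IsComponentOf.quasisimple ⟨hLx, hL⟩
  have hU : Lib.Block.UniqInv L := by
    intro s t hs ht hc
    by_contra hne'
    have h1 : IsElementaryAbelian 2 (zpowers s ⊔ zpowers t : Subgroup L) :=
      elemAb_sup (Lib.BG2.elem_zpowers (hs ▸ pow_orderOf_eq_one s)) (Lib.BG2.elem_zpowers (ht ▸ pow_orderOf_eq_one t))
        (by rw [cent_zpowers]; exact zpowers_le.2 (mem_centralizer_singleton_iff.2 hc))
    have h2 := hrk _ h1.1 h1.2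
    have h3 : zpowers s = zpowers s ⊔ zpowers t := eq_of_le_of_card_ge le_sup_left (by rwa [Nat.card_zpowers, hs, ← pow_one 2])
    exact hne' (Lib.Invol.eq_of_mem_zpowers (mem_zpowers s) (h3.ge ((le_sup_right : zpowers t ≤ _) (mem_zpowers t))) hs ht)
  obtain ⟨t, ht⟩ := exists_prime_orderOf_dvd_card' (G := L) 2 heven.two_dvd
  have hO : oddCore L ≤ center L := (IsQuasisimple.normal_eq_top_or_le_center hq _).resolve_left fun e => by
    have := coprime_card_pPrimeCore 2 L
    rw [show pPrimeCore 2 L = ⊤ from e, card_top] at this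
    exact (Nat.Prime.coprime_iff_not_dvd Nat.prime_two).1 this.symm heven.two_dvd
  have hc : (⊤ : Subgroup L) ≤ 𝐂(zpowers t) := by
    refine comm_eq_bot_iff.1 (commutator_eq_bot_of_le_centralizer (IsQuasisimple.commutator_eq_top hq) ?_)
    rw [commutator_comm, coe_top, centralizer_univ, zpowers_eq_closure]
    refine comm_closure_le (fun z hz g _ => ?_) fun z _ => le_normalizer_of_normal (mem_top z)
    obtain rfl := Set.mem_singleton_iff.1 hz
    exact hO (hU.commutator_mem_oddCore ht g)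
  have ht' : orderOf (t : G) = 2 := by rw [orderOf_coe, ht]
  obtain ⟨h1, h2⟩ := hne t ht' fun g hg => (congrArg Subtype.val (hc (mem_top ⟨g, hg⟩) t (mem_zpowers t))).symm
  refine ⟨t, t.2, ht', L, h1, t.2, h2.1, ?_⟩
  obtain ⟨S⟩ : Nonempty (Sylow 2 L) := inferInstance
  rcases Lib.Block.isCyclic_or_quatData' S.2 (fun s hs t ht => hU.eq_of_mem S.2 hs ht) with h | ⟨a, x, n, h⟩
  · exfalso
    have h3 := Lib.Block.pnil_two_of_isCyclic (Lib.Transfer.sylowIn_top S) h
    haveI := Lib.Transfer.resOf_normal (p := 2) (⊤ : Subgroup L)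
    refine h3 (heven.two_dvd.trans ?_)
    rw [← card_top]
    refine card_dvd_of_le (perfect_le_of_pow_mem (p := 2) (IsQuasisimple.commutator_eq_top hq) fun z hz => ?_)
    exact Lib.Transfer.exists_pow_mem_resOf hz
  · exact ⟨S, n, h.nonempty_mulEquiv⟩

end Cfsg.Agent.S1307
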