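import Cfsg.Statements.S1313
import Cfsg.Agent.Lib.Layer.FStar

set_option autoImplicit false
open Cfsg

namespace Cfsg.Agent.S1313

open Cfsg.Lib.Layer

/-- For a finite group H, |H| ≤ |F*(H)|!. -/
theorem result {H : Type*} [Group H] [Finite H] : Nat.card H ≤ Nat.factorial (Nat.card ↥(Cfsg.generalizedFittingSubgroup H)) := by
  classical
  set F := generalizedFittingSubgroup H with hF
  have hn : F.Normal := fstar_normal
  let φ : H →* Equiv.Perm F := (MulAut.toPerm F).comp (MulAut.conjNormal (H := F))
  have hker : φ.ker ≤ F := by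
    intro x hx
    refine centralizer_fstar_le (Subgroup.mem_centralizer_iff.2 fun y hy => ?_)
    have := congrArg (fun e : Equiv.Perm F => (e ⟨y, hy⟩ : H)) (MonoidHom.mem_ker.1 hx)
    have h2 : x * y * x⁻¹ = y := this
    rw [← h2]; simp only [inv_mul_cancel_right]; rw [h2]
  have hrange : φ.range ≤ MulAction.stabilizer (Equiv.Perm F) (1 : F) := by
    rintro _ ⟨x, rfl⟩
    rw [MulAction.mem_stabilizer_iff]
    exact map_one (MulAut.conjNormal (H := F) x)
  have h1 : Nat.card H = Nat.card φ.range * Nat.card φ.ker := by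
    rw [← Subgroup.index_ker, Subgroup.index_mul_card]
  have h2 : (MulAction.stabilizer (Equiv.Perm F) (1 : F)).index = Nat.card F :=
    MulAction.index_stabilizer_of_transitive _ _
  have h3 := Subgroup.index_mul_card (MulAction.stabilizer (Equiv.Perm F) (1 : F))
  rw [h2, Nat.card_perm] at h3
  rw [h1, ← h3, mul_comm]
  exact Nat.mul_le_mul (Subgroup.card_le_of_le hker) (Subgroup.card_le_of_le hrange)

end Cfsg.Agent.S1313
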