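import Cfsg.Statements.S1314
import Cfsg.Agent.Lib.Layer.SigCore

set_option autoImplicit false
open Cfsg

namespace Cfsg.Agent.S1314

open Subgroup Cfsg.Lib.Core Cfsg.Lib.Amalg Cfsg.Lib.BG1 Cfsg.Lib.Layer

/-- Let x be an involution of a group G and L a perfect subgroup with ⁅L, x L x⁻¹⁆ = 1. Then l ↦ l (x l x⁻¹) is a group homomorphism π from L to G whose kernel is central in L and whose image lies in C_G(x); and the commutator subgroup of C_{L ⊔ xLx⁻¹}(x) equals the image of π. -/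
theorem result {G : Type*} [Group G] [Finite G] (x : G) (hx : orderOf x = 2) (L : Subgroup G) (hperf : ⁅L, L⁆ = L) (hcomm : ⁅L, L.map (MulAut.conj x).toMonoidHom⁆ = ⊥) : ∃ π : ↥L →* G, (∀ l : ↥L, π l = (l : G) * (x * (l : G) * x⁻¹)) ∧ π.ker ≤ Subgroup.center ↥L ∧ π.range ≤ Subgroup.centralizer ({x} : Set G) ∧ ⁅(L ⊔ L.map (MulAut.conj x).toMonoidHom) ⊓ Subgroup.centralizer ({x} : Set G), (L ⊔ L.map (MulAut.conj x).toMonoidHom) ⊓ Subgroup.centralizer ({x} : Set G)⁆ = π.range := by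
  have hx2 : x * x = 1 := by rw [← sq, ← hx, pow_orderOf_eq_one]
  have hxi : x⁻¹ = x := inv_eq_of_mul_eq_one_right hx2
  have hc : ∀ a ∈ L, ∀ b ∈ L, a * (x * b * x⁻¹) = (x * b * x⁻¹) * a := fun a ha b hb =>
    mul_comm_of_commutator_eq_bot hcomm ha (conj_mem_cj x hb)
  let π : L →* G :=
    { toFun := fun l => (l : G) * (x * (l : G) * x⁻¹)
      map_one' := by simp
      map_mul' := fun a b => by
        have := hc b b.2 a a.2
        simp only [Subgroup.coe_mul]
        calc (a : G) * b * (x * (a * b) * x⁻¹) = a * (b * (x * a * x⁻¹)) * (x * b * x⁻¹) := by group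
          _ = _ := by rw [this]; group }
  have hπ : ∀ l : L, π l = (l : G) * (x * (l : G) * x⁻¹) := fun _ => rfl
  have h1 : π.range ≤ 𝐂[x] := by
    rintro _ ⟨l, rfl⟩
    rw [mem_centralizer_singleton_iff, hπ]
    calc (l : G) * (x * l * x⁻¹) * x = (x * x) * l * x * l := by rw [hx2]; group
      _ = x * ((x * l * x⁻¹) * l) := by rw [hxi]; group
      _ = _ := by rw [← hc l l.2 l l.2]
  have h2 : π.range ≤ L ⊔ cj x L := by
    rintro _ ⟨l, rfl⟩
    exact mul_mem_sup l.2 (conj_mem_cj x l.2)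
  have hZ : L ⊔ cj x L ≤ 𝐂(L ⊓ cj x L) :=
    sup_le ((comm_eq_bot_iff.1 hcomm).trans (centralizer_le (SetLike.coe_subset_coe.2 inf_le_right)))
      ((comm_eq_bot_iff'.1 hcomm).trans (centralizer_le (SetLike.coe_subset_coe.2 inf_le_left)))
  refine ⟨π, hπ, fun l hl => ?_, h1, le_antisymm ?_ ?_⟩
  · rw [mem_center_iff]
    intro g
    have h3 : (l : G) = x * (l⁻¹ : L) * x⁻¹ := by
      have := eq_inv_of_mul_eq_one_left ((hπ l).symm.trans hl)
      rw [this, Subgroup.coe_inv, ← this]; nth_rw 1 [this]; group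
    refine Subtype.ext ?_
    rw [Subgroup.coe_mul, Subgroup.coe_mul, h3]
    exact hc g g.2 _ (l⁻¹).2
  · refine (commutator_sup_central_le (Z := L ⊓ cj x L) (comm_eq_bot_iff'.2 (h2.trans hZ))
      (comm_eq_bot_iff'.2 ((inf_le_left.trans le_sup_left).trans hZ)) ?_).trans (comm_le_of_le le_rfl le_rfl)
    intro c hc0
    obtain ⟨hc1, hc2⟩ := mem_inf.1 hc0
    obtain ⟨a, ha, _, hb', rfl⟩ := (mem_sup_of_le_normalizer
      (le_normalizer_of_commutator_eq_bot hcomm)).1 hc1
    obtain ⟨b, hb, rfl⟩ := mem_cj'.1 hb'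
    have h3 : a * b⁻¹ ∈ 𝐂[x] := by
      have := mul_mem hc2 (inv_mem (h1 ⟨⟨b, hb⟩, rfl⟩))
      rw [hπ] at this
      simpa [mul_assoc] using this
    have h4 : a * b⁻¹ ∈ L ⊓ cj x L := mem_inf.2 ⟨mul_mem ha (inv_mem hb), by
      have := conj_mem_cj x (mul_mem ha (inv_mem hb))
      rwa [← mem_centralizer_singleton_iff.1 h3, mul_inv_cancel_right] at this⟩
    have := mul_mem (mem_sup_right (S := π.range) h4) (mem_sup_left (T := L ⊓ cj x L) (⟨⟨b, hb⟩, rfl⟩ : _ ∈ π.range))
    rw [hπ] at this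
    simpa [mul_assoc] using this
  · have h3 : ⁅π.range, π.range⁆ = π.range := by
      rw [MonoidHom.range_eq_map, ← Subgroup.map_commutator]
      congr 1
      apply map_injective L.subtype_injective
      rw [Subgroup.map_commutator, map_subtype_top, hperf]
    rw [← h3]
    exact commutator_mono (le_inf h2 h1) (le_inf h2 h1)

end Cfsg.Agent.S1314
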