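import Cfsg.Statements.S1316
import Cfsg.Agent.Lib.Layer.FStar

set_option autoImplicit false
open Cfsg

namespace Cfsg.Agent.S1316

open Cfsg.Lib.Layer

/-- For a finite group X, E(X) equals the intersection of the derived series of F*(X) (its last term). -/
theorem result {X : Type*} [Group X] [Finite X] : (⨅ n : ℕ, (derivedSeries ↥(Cfsg.generalizedFittingSubgroup X) n).map (Cfsg.generalizedFittingSubgroup X).subtype) = Cfsg.layer X := by
  apply le_antisymm
  · obtain ⟨n, hn⟩ := (fit_solvable (G := X)).solvable
    refine (iInf_le _ n).trans ?_
    have := layer_normal (G := X)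
    have key : ∀ k : ℕ, (derivedSeries ↥(generalizedFittingSubgroup X) k).map
        (generalizedFittingSubgroup X).subtype ≤
        layer X ⊔ (derivedSeries ↥(fittingSubgroup X) k).map (fittingSubgroup X).subtype := by
      intro k
      induction k with
      | zero =>
        simp only [derivedSeries_zero, ← MonoidHom.range_eq_map, Subgroup.range_subtype]; rfl
      | succ k ih =>
        rw [derivedSeries_succ, derivedSeries_succ, Subgroup.map_commutator, Subgroup.map_commutator]
        refine (Subgroup.commutator_mono ih ih).trans ?_
        rw [← Cfsg.Lib.Core.map_mk'_le_map_mk'_iff, Subgroup.map_commutator, Subgroup.map_commutator,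
          Subgroup.map_sup, (Cfsg.Lib.Core.map_mk'_eq_bot_iff _ _).2 le_rfl, bot_sup_eq]
    have := key n
    rwa [hn, Subgroup.map_bot, sup_bot_eq] at this
  · refine le_iInf fun n => ?_
    induction n with
    | zero =>
      simp only [derivedSeries_zero, ← MonoidHom.range_eq_map, Subgroup.range_subtype]
      exact layer_le_fstar
    | succ k ih =>
      rw [derivedSeries_succ, Subgroup.map_commutator]
      exact layer_commutator_self.ge.trans (Subgroup.commutator_mono ih ih)

end Cfsg.Agent.S1316
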