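import Cfsg.Statements.S1322
import Cfsg.Agent.Lib.Layer.Pumpup
import Cfsg.Agent.Lib.FT.Cor

set_option autoImplicit false
open Cfsg

namespace Cfsg.Agent.S1322

open Subgroup Cfsg.Lib.Core Cfsg.Lib.Amalg Cfsg.Lib.BG1 Cfsg.Lib.Layer

/-- Let G be finite with L_{2'}(G) = E(G), t an involution and L ≤ C_G(t) a component of C_G(t). Then there is a component D of G with: L = D; or L < D and D = ⁅D, ⟨t⟩⁆; or tDt⁻¹ ≠ D and L is the layer of C_{D ⊔ tDt⁻¹}(t). -/
theorem result {G : Type*} [Group G] [Finite G] (hL2 : Cfsg.pLayer 2 G = Cfsg.layer G) (t : G) (ht : orderOf t = 2) (L : Subgroup G) (hLt : L ≤ Subgroup.centralizer ({t} : Set G)) (hL : Cfsg.IsComponent (L.subgroupOf (Subgroup.centralizer ({t} : Set G)))) : ∃ D : Subgroup G, Cfsg.IsComponent D ∧ (L = D ∨ (L < D ∧ D = ⁅D, Subgroup.zpowers t⁆) ∨ (D.map (MulAut.conj t).toMonoidHom ≠ D ∧ L = (Cfsg.layer ↥((D ⊔ D.map (MulAut.conj t).toMonoidHom) ⊓ Subgroup.centralizer ({t} : Set G))).map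 ((D ⊔ D.map (MulAut.conj t).toMonoidHom) ⊓ Subgroup.centralizer ({t} : Set G)).subtype)) := by
  haveI : Fact (Nat.Prime 2) := ⟨Nat.prime_two⟩
  have hq : IsQuasisimple L := ((isComponent_subgroupOf_iff hLt).1 hL).2
  have hev := Lib.FT.even_card_of_not_solvable L (IsQuasisimple.not_isSolvable hq)
  have hP : IsPComponentOf 2 L 𝐂(zpowers t) := by
    rw [cent_zpowers]
    exact IsComponentOf.isPComponentOf ⟨hLt, hL⟩ fun hc => (Nat.Prime.coprime_iff_not_dvd Nat.prime_two).1 hc.symm hev.two_dvd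
  have hT : IsPGroup 2 (zpowers t) := IsPGroup.of_card (n := 1) (by rw [Nat.card_zpowers, ht, pow_one])
  have hLE : L ≤ layer G := hL2 ▸ (IsPComponentOf.le_pLayerOf hP).trans (l_balance_two hT)
  obtain ⟨K, hK, hn, hle⟩ := IsPComponentOf.exists_le_conjClosure hP hLE
  have ht2 : t * t = 1 := by rw [← pow_two, ← ht, pow_orderOf_eq_one]
  refine ⟨K, hK, ?_⟩
  by_cases h : t ∈ 𝐍(K)
  · rw [conjClosure_eq_self (zpowers_le.2 h)] at hle
    rcases IsQuasisimple.commutator_eq_or_eq_bot hK.2 (zpowers_le.2 h) with e | e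
    · rcases hle.eq_or_lt with e' | e'
      · exact Or.inl e'
      · exact Or.inr (Or.inl ⟨e', e.symm⟩)
    · exact Or.inl (IsPComponentOf.eq_of_le_quasisimple hP hK.2 hle (comm_eq_bot_iff.1 e))
  · refine Or.inr (Or.inr ⟨fun e => h (cj_eq_self_iff.1 e), ?_⟩)
    obtain ⟨π, -, h2, -, -⟩ := IsPComponentOf.exists_diag hP hK hle
      (zpowers_inf_norm_le_cent (ht ▸ Nat.prime_two) (Or.inl h))
    rw [conjClosure_zpowers_two ht2] at h2 hle
    rw [cent_zpowers] at h2
    refine le_antisymm (le_layerOf (le_inf hle hLt) (isComponent_subgroupOf_of_le (le_inf hle hLt) inf_le_right hL)) ?_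
    exact (layerOf_commutator_self _).ge.trans ((commutator_mono (layerOf_le _) (layerOf_le _)).trans h2.le)

end Cfsg.Agent.S1322
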