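import Cfsg.Statements.S1323
import Cfsg.Agent.Lib.Layer.Bender

set_option autoImplicit false
open Cfsg

namespace Cfsg.Agent.S1323

open Subgroup Cfsg.Lib.Core Cfsg.Lib.Amalg Cfsg.Lib.BG1 Cfsg.Lib.Layer
open Equiv Equiv.Perm alternatingGroup
open scoped Pointwise

variable {α : Type*} [Fintype α] [DecidableEq α]

theorem cent_range {s : Finset α} (hs : 4 ≤ s.card) :
    𝐂((alternatingGroup.ofSubtype s).range) = (alternatingGroup.ofSubtype sᶜ).range := by
  ext g
  rw [alternatingGroup.mem_range_ofSubtype_iff]
  refine ⟨fun h x hx => Finset.mem_compl.2 fun hxs => ?_, fun h c hc => Subtype.ext (Perm.Disjoint.commute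
    (disjoint_iff_disjoint_support.2 (disjoint_compl_right.mono
      ((alternatingGroup.mem_range_ofSubtype_iff s c).1 hc) h))).eq⟩
  obtain ⟨y, hy, z, hz, hyz⟩ := Finset.one_lt_card.1 (show 1 < (s \ {x, g.1 x}).card by
    have := Finset.le_card_sdiff {x, g.1 x} s
    have := Finset.card_le_two (a := x) (b := g.1 x)
    omega)
  simp only [Finset.mem_sdiff, Finset.mem_insert, Finset.mem_singleton, not_or] at hy hz
  have hc : swap x y * swap x z ∈ alternatingGroup α := by simp [mem_alternatingGroup, Ne.symm hy.2.1, Ne.symm hz.2.1]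
  have := congrArg (fun f : alternatingGroup α => f.1 x) (h ⟨_, hc⟩ ((alternatingGroup.mem_range_ofSubtype_iff _ _).2
    ((support_mul_le _ _).trans (by
      rw [support_swap (Ne.symm hy.2.1), support_swap (Ne.symm hz.2.1)]
      simp [Finset.insert_subset_iff, hxs, hy.1, hz.1]))))
  have hx := mem_support.1 hx
  simp only [Subgroup.coe_mul, Perm.mul_apply, swap_apply_left, swap_apply_of_ne_of_ne hx (Ne.symm hz.2.2),
    swap_apply_of_ne_of_ne hx (Ne.symm hy.2.2), swap_apply_of_ne_of_ne hz.2.1 hyz.symm] at this
  exact hz.2.1 (g.1.injective this).symm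

theorem four_le_support {t : alternatingGroup α} (h : orderOf t = 2) : 4 ≤ t.1.support.card := by
  rw [← Subgroup.orderOf_coe] at h
  have h1 : t.1 ≠ 1 := fun e => by simp [e] at h
  have h2 := two_le_card_support_of_ne_one h1
  have h3 : t.1.support.card ≠ 2 := fun e => by
    have := (card_support_eq_two.1 e).sign_eq
    rw [mem_alternatingGroup.1 t.2] at this; exact absurd this (by decide)
  have h4 : t.1.support.card ≠ 3 := fun e => by
    have := (card_support_eq_three_iff.1 e).orderOf; omega
  omega

theorem cj_range (g : alternatingGroup α) (s : Finset α) :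
    cj g (alternatingGroup.ofSubtype s).range = (alternatingGroup.ofSubtype (g • s)).range :=
  alternatingGroup.conj_smul_range_ofSubtype s g

theorem standard {s : Finset α} (hs : s.card = 4) (hn : 9 ≤ Fintype.card α) :
    IsStandardSubgroup (alternatingGroup.ofSubtype sᶜ).range := by
  have hc : 5 ≤ sᶜ.card := by rw [Finset.card_compl]; omega
  have h1 := cent_range (s := sᶜ) (by omega)
  rw [compl_compl] at h1
  have h2 := cent_range hs.ge
  refine ⟨?_, ⟨?_, fun g hg => ?_⟩, fun g _ h => ?_, ?_⟩
  · haveI := alternatingGroup.isSimpleGroup (α := (sᶜ : Finset α)) (by rwa [Nat.card_eq_fintype_card, Fintype.card_coe])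
    exact IsQuasisimple.of_mulEquiv (isQuasisimple_of_isSimpleGroup fun c => by
      have := isMulCommutative_iff_card_le_three.1 c
      simp only [Nat.card_eq_fintype_card, Fintype.card_coe] at this; omega)
      (MonoidHom.ofInjective alternatingGroup.ofSubtype_injective)
  · rw [h1, ← Nat.card_congr (MonoidHom.ofInjective alternatingGroup.ofSubtype_injective).toEquiv]
    haveI : Nontrivial s := Finset.one_lt_card_iff_nontrivial.1 (by omega) |>.coe_sort
    rw [nat_card_alternatingGroup, Nat.card_eq_fintype_card, Fintype.card_coe, hs]; decide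
  · rw [h1] at hg ⊢
    refine Nat.not_even_iff_odd.1 fun he => hg ?_
    obtain ⟨t, ht⟩ := exists_prime_orderOf_dvd_card' 2 he.two_dvd
    have a := (alternatingGroup.mem_range_ofSubtype_iff _ _).1 t.2.1
    have b := (alternatingGroup.mem_range_ofSubtype_iff _ _).1 ((cj_range g s).le t.2.2)
    have c := four_le_support ((Subgroup.orderOf_coe t).trans ht)
    have e : g • s = s := (Finset.eq_of_subset_of_card_le b (by simpa [hs] using c)).symm.trans
      (Finset.eq_of_subset_of_card_le a (hs ▸ c))
    exact mem_normalizer_of_cj_le (by rw [cj_range, e])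
  · have h3 : (alternatingGroup.ofSubtype (g • sᶜ)).range ≤ (alternatingGroup.ofSubtype s).range :=
      (cj_range g _).ge.trans ((Lib.BG1.le_cent_symm (comm_eq_bot_iff.1 h)).trans h1.le)
    have h5 := card_le_of_le h3
    rw [← Nat.card_congr (MonoidHom.ofInjective alternatingGroup.ofSubtype_injective).toEquiv,
      ← Nat.card_congr (MonoidHom.ofInjective alternatingGroup.ofSubtype_injective).toEquiv] at h5
    haveI : Nontrivial s := Finset.one_lt_card_iff_nontrivial.1 (by omega) |>.coe_sort
    have hg : 5 ≤ (g • sᶜ).card := by rwa [Finset.card_smul_finset]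
    haveI : Nontrivial (g • sᶜ : Finset α) := Finset.one_lt_card_iff_nontrivial.1 (by omega) |>.coe_sort
    rw [nat_card_alternatingGroup, nat_card_alternatingGroup] at h5
    simp only [Nat.card_eq_fintype_card, Fintype.card_coe, hs] at h5
    exact absurd ((Nat.div_le_div_right (Nat.factorial_le hg)).trans h5) (by decide)
  · refine le_antisymm (le_normalizer_centralizer le_rfl) ?_
    rw [h1, ← h2]; exact le_normalizer_centralizer le_rfl


/-- For n ≥ 9, the subgroup of the alternating group on Fin n fixing each of the points 0, 1, 2, 3 is a standard subgroup. -/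
theorem result (n : ℕ) (h4 : 4 ≤ n) (hn : 9 ≤ n) : Cfsg.IsStandardSubgroup (⨅ i : Fin 4, MulAction.stabilizer ↥(alternatingGroup (Fin n)) (Fin.castLE h4 i : Fin n)) := by
  convert standard (s := Finset.univ.map (Fin.castLEEmb h4)) (by simp) (by simpa using hn)
  ext g
  simp only [mem_iInf, MulAction.mem_stabilizer_iff, alternatingGroup.mem_range_ofSubtype_iff, Finset.subset_iff,
    mem_support, Finset.mem_compl, Finset.mem_map, Finset.mem_univ, true_and, not_exists]
  exact ⟨fun h x hx i e => hx (e ▸ h i), fun h i => by_contra fun c => h c i rfl⟩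

end Cfsg.Agent.S1323
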