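import Cfsg.Statements.S1328
import Cfsg.Agent.Lib.Layer.LocBal

set_option autoImplicit false
open Cfsg

namespace Cfsg.Agent.S1328

open Subgroup Cfsg.Lib.Core Cfsg.Lib.Amalg Cfsg.Lib.BG1 Cfsg.Lib.Layer

/-- Let G be finite, H ≤ G with O(H) = 1, t an involution of G normalizing H, and Y a nontrivial subgroup of O(C_H(t)). Then some component E of H is normalized by t and by Y and centralized by neither t nor Y. -/
theorem result {G : Type*} [Group G] [Finite G] (H : Subgroup G) (hO : Cfsg.oddCore ↥H = ⊥) (t : G) (ht : orderOf t = 2) (htH : t ∈ Subgroup.normalizer (H : Set G)) (Y : Subgroup G) (hY1 : Y ≠ ⊥) (hY : Y ≤ (Cfsg.oddCore ↥(H ⊓ Subgroup.centralizer ({t} : Set G))).map (H ⊓ Subgroup.centralizer ({t} : Set G)).subtype) : ∃ E : Subgroup ↥H, Cfsg.IsComponent E ∧ (E.map H.subtype).map (MulAut.conj t).toMonoidHom = E.map H.subtype ∧ Y ≤ Subgroup.normalizer ((E.map H.subtype : Subgroup G) : Set G) ∧ ¬ (t ∈ Subgroup.centralizer ((E.map H.subtype : Subgroup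 G) : Set G)) ∧ ¬ (Y ≤ Subgroup.centralizer ((E.map H.subtype : Subgroup G) : Set G)) := by
  have hP : IsPGroup 2 (zpowers t) := Lib.Amalg.isPGroup_zpowers_of_orderOf (k := 1) (by simpa using ht)
  have hz : zpowers t ≤ 𝐍(H) := by rwa [zpowers_le]
  rw [map_pPrimeCore_subtype Nat.prime_two] at hY
  generalize hX : H ⊔ zpowers t = X
  have hHX : H ≤ X := hX ▸ le_sup_left
  have htX : t ∈ X := hX ▸ mem_sup_right (mem_zpowers t)
  have hXH : X ≤ 𝐍(H) := hX ▸ sup_le le_normalizer hz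
  have hYH : Y ≤ H := hY.trans ((piCoreOf_le' _ _).trans inf_le_left)
  have hOX : pPrimeCore 2 X = ⊥ := by
    rw [← Subgroup.map_eq_bot_iff_of_injective _ X.subtype_injective, map_pPrimeCore_subtype Nat.prime_two,
      eq_bot_iff, ← Subgroup.map_bot H.subtype, ← hO, map_pPrimeCore_subtype Nat.prime_two,
      piCoreOf_eq_inf_of_normal hHX hXH]
    refine le_inf le_rfl ((le_res_of_coprime (piCoreOf_le' _ _) ?_).trans (hX ▸ res_sup_of_isPGroup hP hz))
    exact ((Nat.Prime.coprime_iff_not_dvd Nat.prime_two).2 (not_dvd_card_pPrimeCoreOf Nat.prime_two _)).symm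
  have h1 : Y.subgroupOf X ≤ centralizerPPrimeCore 2 (⟨t, htX⟩ : X) := by
    rw [cpc_subtype]
    exact comap_mono (hY.trans (piCoreOf_le_of_normal (inf_le_inf_right _ hHX)
      (le_normalizer_inf (inf_le_left.trans hXH) (inf_le_right.trans le_normalizer))))
  have ht' : orderOf (⟨t, htX⟩ : X) = 2 := by rw [orderOf_mk, ht]
  have hP' : IsPGroup 2 (zpowers (⟨t, htX⟩ : X)) := Lib.Amalg.isPGroup_zpowers_of_orderOf (k := 1) (by simpa using ht')
  obtain ⟨K, hK, h2⟩ : ∃ K : Subgroup X, IsComponent K ∧ ¬ Y.subgroupOf X ≤ 𝐂(K) := by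
    by_contra hn
    push Not at hn
    have := eq_bot_of_cent_components hOX (not_dvd_card_of_le h1 (cpc_not_dvd _)) hn (h1.trans (cpc_le_cent_pCore hP'))
    exact hY1 (by rw [← map_subgroupOf_of_le (hYH.trans hHX), this, Subgroup.map_bot])
  have h3 : ¬ ((⟨t, htX⟩ : X) ∉ 𝐍(K) ∨ (⟨t, htX⟩ : X) ∈ 𝐂(K)) := fun h =>
    h2 (h1.trans (IsComponent.cpc_le_cent hOX hK ht' h))
  push Not at h3
  have hKX : K.map X.subtype ≤ X := map_subtype_le _
  have hKH : K.map X.subtype ≤ H := by
    rw [← IsComponent.commutator_self hK, Subgroup.map_commutator]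
    refine (commutator_mono hKX hKX).trans ?_
    rw [← hX]
    exact comm_sup_le (comm_le_left (hX ▸ hXH)) (comm_sup_le' (comm_le_right hz)
      ((comm_eq_bot_iff.2 ((isMulCommutative_iff_le_cent (A := zpowers t)).1 inferInstance)).le.trans bot_le)
      le_normalizer hz) le_normalizer hz
  refine ⟨(K.map X.subtype).subgroupOf H, isComponent_subgroupOf_of_le hKH hHX (isComponent_subgroupOf_map_subtype.2 hK),
    ?_⟩
  rw [map_subgroupOf_of_le hKH]
  refine ⟨by rw [show cj t _ = _ from cj_map_subtype (⟨t, htX⟩ : X) K, cj_of_mem_normalizer h3.1], ?_,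
    fun h => h3.2 fun k hk => Subtype.ext (h _ (mem_map_of_mem _ hk)),
    fun h => h2 fun y hy k hk => Subtype.ext (h hy _ (mem_map_of_mem _ hk))⟩
  rw [← map_subgroupOf_of_le (hYH.trans hHX)]
  exact (map_mono (h1.trans (IsComponent.cpc_le_norm hOX hK hP'))).trans (le_normalizer_map _)

end Cfsg.Agent.S1328
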