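import Cfsg.Statements.S1329
import Cfsg.Agent.Lib.Layer.CoprimeFac

set_option autoImplicit false
open Cfsg

namespace Cfsg.Agent.S1329

open Subgroup Cfsg.Lib.Core Cfsg.Lib.Amalg Cfsg.Lib.BG1 Cfsg.Lib.Layer

/-- Let A be an abelian 2-subgroup of the finite group G, B ≤ A, and Y a subgroup of odd order normalized by A with ⁅Y, A⁆ = Y. Then Y ∩ C_G(B) is generated by the subgroups Y ∩ C_G(B) ∩ ⁅Y ∩ C_G(B₀), A⁆, B₀ ranging over the subgroups of B with B / B₀ cyclic. -/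
theorem result {G : Type*} [Group G] [Finite G] (A B Y : Subgroup G) (hA2 : IsPGroup 2 ↥A) (hAc : IsMulCommutative ↥A) (hB : B ≤ A) (hYodd : Odd (Nat.card ↥Y)) (hAY : A ≤ Subgroup.normalizer (Y : Set G)) (hYA : ⁅Y, A⁆ = Y) : Y ⊓ Subgroup.centralizer (B : Set G) = ⨆ B₀ : {B₀ : Subgroup G // B₀ ≤ B ∧ ∀ [(B₀.subgroupOf B).Normal], IsCyclic (↥B ⧸ B₀.subgroupOf B)}, Y ⊓ Subgroup.centralizer (B : Set G) ⊓ ⁅Y ⊓ Subgroup.centralizer ((B₀ : Subgroup G) : Set G), A⁆ := by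
  haveI : Fact (Nat.Prime 2) := ⟨Nat.prime_two⟩
  have h2 : ¬ 2 ∣ Nat.card Y := Nat.two_dvd_ne_zero.2 (Nat.odd_iff.1 hYodd)
  have hc := coprime_of_isPGroup_of_not_dvd Nat.prime_two hA2 h2
  refine le_antisymm ?_ (iSup_le fun _ => inf_le_left)
  have hAB : A ≤ 𝐍(Y ⊓ 𝐂(B)) := le_normalizer_inf hAY (le_norm_cent_of_le hAc hB)
  conv_lhs => rw [← coprime_cent_prod hAB (Lib.Coprime.coprime_card_of_le hc le_rfl inf_le_left)
    (Or.inl (isSolvable_of_isPGroup Nat.prime_two hA2))]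
  refine sup_le (le_trans (le_inf (comm_le_left hAB) le_rfl) (le_iSup_of_le ⟨B, le_rfl, ?_⟩ le_rfl)) ?_
  · intro _
    haveI : Subsingleton (B ⧸ B.subgroupOf B) := by rw [subgroupOf_self]; exact QuotientGroup.subsingleton_quotient_top
    infer_instance
  refine (inf_le_inf_right _ (inf_le_left.trans hYA.ge)).trans (comm_inf_cent_le_of_cocyclic hAc hAY hc
    (Lib.FT.solvable_of_not_two_dvd Y h2) ?_)
  rintro D ⟨a, ha, e⟩
  have hD : D ≤ A := e ▸ le_sup_right
  refine le_trans (le_inf (le_inf (inf_le_left.trans ((comm_le_left (le_normalizer_inf hAY (le_norm_cent_of_le hAc hD))).trans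
    inf_le_left)) (inf_le_right.trans (cent_anti hB))) (inf_le_left.trans (commutator_mono
      (inf_le_inf_left _ (cent_anti inf_le_right)) le_rfl))) (le_iSup_of_le ⟨B ⊓ D, inf_le_left, ?_⟩ le_rfl)
  intro _
  have hn : A ≤ 𝐍(D) := le_norm_of_le_cent (Lib.BG2.le_centralizer_of_comm hAc le_rfl hD)
  haveI : IsCyclic (quo D A) := by
    rw [← e, sup_comm, quo_sup_left (zpowers_le.2 (hn ha))]
    exact isCyclic_mim _ inferInstance
  let f : B →* quo D A := ((qmk D).comp (inclusion (hB.trans hn))).codRestrict _ fun b => mem_mim_of_mem _ (hB b.2)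
  refine isCyclic_of_injective (QuotientGroup.lift _ f fun b hb => Subtype.ext ((qmk_eq_one_iff _).2 hb.2)) ?_
  rw [injective_iff_map_eq_one]
  intro x hx
  induction x using QuotientGroup.induction_on with | _ b => ?_
  exact (QuotientGroup.eq_one_iff _).2 ⟨b.2, (qmk_eq_one_iff _).1 (congrArg Subtype.val hx)⟩

end Cfsg.Agent.S1329
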