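import Cfsg.Statements.S1330
import Cfsg.Agent.Lib.Layer.SigCore2

set_option autoImplicit false
open Cfsg

namespace Cfsg.Agent.S1330

open Subgroup Cfsg.Lib.Core Cfsg.Lib.Amalg Cfsg.Lib.BG1 Cfsg.Lib.Layer
theorem symm {G : Type*} [Group G] {A₁ A₂ : Subgroup G} (h : IsCoreSeparated A₁ A₂) : IsCoreSeparated A₂ A₁ := by
  obtain ⟨h1, h2, h3, h4, h5, h6, h7, h8⟩ := h
  exact ⟨h2, h1, h4, h3, h5.symm, by rwa [inf_comm], fun x hx y hy => (h7 y hy x hx).symm,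
    fun a ha h1 E hE => (h8 a (sup_comm A₂ A₁ ▸ ha) h1 E hE).symm⟩

theorem elem {G : Type*} [Group G] {A₁ A₂ : Subgroup G} (h : IsCoreSeparated A₁ A₂) : IsElementaryAbelian 2 (A₁ ⊔ A₂) :=
  elemAb_sup h.1 h.2.1 fun x hx y hy => (h.2.2.2.2.2.2.1 x hx y hy).symm

theorem sep {G : Type*} [Group G] [Finite G] {A₁ A₂ E : Subgroup G} (h : IsCoreSeparated A₁ A₂) {a : G} (ha : a ∈ A₁ ⊔ A₂) (h1 : a ≠ 1)
    (hE : IsPComponentOf 2 E 𝐂[a]) : ⁅E, A₁⁆ ≤ 𝐎'[2](𝐂[a]) ∨ ⁅E, A₂⁆ ≤ 𝐎'[2](𝐂[a]) := by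
  haveI : Fact (Nat.Prime 2) := ⟨Nat.prime_two⟩
  have := h.2.2.2.2.2.2.2 a ha h1 _ hE.2
  rwa [map_subgroupOf_of_le hE.1, cpc_eq] at this

theorem k1 {G : Type*} [Group G] [Finite G] {A₁ A₂ : Subgroup G} (h : IsCoreSeparated A₁ A₂) {a c : G} (ha : a ∈ A₁ ⊔ A₂)
    (hc : c ∈ A₁) (hc1 : c ≠ 1) : ⁅𝐎'[2](𝐂[a]) ⊓ 𝐂[c], A₁⁆ ≤ 𝐎'[2](𝐂[c]) := by
  haveI : Fact (Nat.Prime 2) := ⟨Nat.prime_two⟩
  have hA := elem h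
  have hAp := elemAb_isPGroup hA
  have hc' : c ∈ A₁ ⊔ A₂ := (le_sup_left : A₁ ≤ _) hc
  have hAc := le_cent1_of_comm hA.1 hc'
  have hR := isPGroup_zpowers_of_mem hAp ha
  have hRH : zpowers a ≤ 𝐂[c] := zpowers_le.2 (hAc ha)
  have hD : A₁ ⊔ A₂ ≤ 𝐍(𝐎'[2](𝐂[a]) ⊓ 𝐂[c]) :=
    le_normalizer_inf (le_norm_piCoreOf _ (le_norm_cent1 hA.1 ha)) (le_norm_cent1 hA.1 hc')
  have hX : 𝐎'[2](𝐂[a]) ⊓ 𝐂[c] ≤ 𝐎'[2](𝐂(zpowers a)) ⊓ 𝐂[c] := by rw [cent_zpowers]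
  have h1 := comm_le_left (le_sup_left.trans hD)
  refine le_core_of_comm_pComp hR hRH (h1.trans hX) fun E hE => ?_
  have hO : 𝐂[c] ≤ 𝐍(𝐎'[2](𝐂[c])) := le_norm_piCoreOf_self _ _
  have hn := le_norm_centQuo (inf_le_right.trans hO) (IsPComponentOf.core_cent_le_norm hE hR hRH hX)
  refine commutator_le_of_le_centQuo (hE.1.trans hO) ?_
  rcases sep h hc' hc1 hE with e | e
  · exact (commutator_mono le_rfl (le_centQuo (hE.1.trans hO) ((le_sup_left.trans hAc).trans hO) e)).trans (comm_le_right hn)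
  by_cases h2 : a ∈ centQuo 𝐎'[2](𝐂[c]) E
  · exact h1.trans (le_centQuo (hE.1.trans hO) (inf_le_right.trans hO) (IsPComponentOf.comm_core_cent_le hE hR hRH hX
      (commutator_le_of_le_centQuo (hE.1.trans hO) (zpowers_le.2 h2))))
  set Z := centQuo 𝐎'[2](𝐂[c]) E ⊓ (A₁ ⊔ A₂)
  have h3 : A₂ < Z := by
    refine lt_of_le_of_ne (le_inf (le_centQuo (hE.1.trans hO) ((le_sup_right.trans hAc).trans hO) e) le_sup_right)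
      fun e' => hc1 (mem_bot.1 (h.2.2.2.2.2.1.le (mem_inf.2 ⟨hc, e'.ge (mem_inf.2 ⟨cent_le_centQuo _ _ (mem_inf.2
        ⟨hO (hAc hc'), mem_cent_of_le_cent1 hE.1⟩), hc'⟩)⟩)))
  have h4 : zpowers a ⊔ Z ≤ A₁ ⊔ A₂ := sup_le (zpowers_le.2 ha) inf_le_right
  have h5 : zpowers a ⊔ Z = A₁ ⊔ A₂ := by
    refine eq_of_le_of_card_ge h4 ?_
    obtain ⟨k, hk⟩ := (hAp.to_le (inf_le_right : Z ≤ _)).exists_card_eq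
    have h6 := Lib.BG2.card_ge_of_lt (hAp.to_le inf_le_right) (n := 2) h.2.2.2.1 h3
    have h7 := Lib.BG2.card_ge_of_lt (hAp.to_le h4) hk (lt_of_le_of_ne le_sup_right fun e' =>
      h2 (mem_inf.1 (e'.ge ((le_sup_left : zpowers a ≤ _) (mem_zpowers a)))).1)
    have h8 := card_sup_mul_card_inf (le_norm_of_le_cent (Lib.BG2.le_centralizer_of_comm hA.1 le_sup_left le_sup_right))
    rw [h.2.2.2.2.2.1, card_bot, h.2.2.1, h.2.2.2.1] at h8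
    omega
  have h6 : ⁅𝐎'[2](𝐂[a]) ⊓ 𝐂[c], Z⁆ ≤ 𝐂(zpowers a) :=
    ((comm_le_left (inf_le_right.trans hD)).trans hX).trans (inf_le_left.trans (piCoreOf_le _))
  refine ((commutator_mono le_rfl (le_sup_left.trans h5.ge)).trans (comm_sup_le' ((comm_eq_bot_iff.2
    (hX.trans (inf_le_left.trans (piCoreOf_le _)))).le.trans bot_le) le_rfl (le_norm_of_le_cent (Lib.BG1.le_cent_symm h6))
    (right_le_normalizer_comm _ _))).trans ((commutator_mono le_rfl inf_le_left).trans (comm_le_right hn))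

theorem k2 {G : Type*} [Group G] [Finite G] {A₁ A₂ : Subgroup G} (h : IsCoreSeparated A₁ A₂) {a : G} (ha : a ∈ A₁ ⊔ A₂) :
    (⁅𝐎'[2](𝐂[a]), A₁⁆ ⊔ (𝐎'[2](𝐂[a]) ⊓ 𝐎'[2](𝐂(A₁)))) ⊓ 𝐂(A₁) ≤ 𝐎'[2](𝐂(A₁)) := by
  haveI : Fact (Nat.Prime 2) := ⟨Nat.prime_two⟩
  have hA := elem h
  have h1 : A₁ ≤ 𝐍(𝐎'[2](𝐂[a])) := le_sup_left.trans (le_norm_piCoreOf _ (le_norm_cent1 hA.1 ha))
  have h2 := not_dvd_card_pPrimeCoreOf Nat.prime_two 𝐂[a]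
  have h3 : 𝐎'[2](𝐂[a]) ⊓ 𝐎'[2](𝐂(A₁)) ≤ 𝐂(A₁) := inf_le_right.trans (piCoreOf_le _)
  rw [sup_comm, sup_inf_of_le_normalizer h3 (inf_le_left.trans (left_le_normalizer_comm _ _))]
  refine sup_le inf_le_right (comm_inf_cent_le_of_cocyclic h.1.1 h1 (coprime_of_isPGroup_of_not_dvd Nat.prime_two
    (elemAb_isPGroup h.1) h2) (Lib.FT.solvable_of_not_two_dvd _ h2) ?_)
  rintro B ⟨b, hb, e⟩
  obtain ⟨c, hc, hc1⟩ := Lib.BG2.exists_ne_one_of_ne_bot (H := B) fun e' => not_isCyclic_of_elem h.1 h.2.2.1.ge (by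
    rw [← e, e', sup_bot_eq]; infer_instance)
  have hcA : c ∈ A₁ := e ▸ (le_sup_right : B ≤ _) hc
  exact (inf_le_inf_right _ ((commutator_mono (inf_le_inf_left _ (cent_le_cent1 hc)) le_rfl).trans
    (k1 h ha hcA hc1))).trans (piCoreOf_inf_le' (cent_le_cent1 hcA))

/-- Let A₁, A₂ be core-separated four-subgroups of the finite group G and A = A₁A₂. For a ∈ G put O_a = O(C_G(a)) and θ a = ⋂_{i=1,2} ( ⁅O_a, A_i⁆ · (O_a ∩ O(C_G(A_i))) ). Then θ is an A-signalizer functor for the prime 2. -/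
theorem result {G : Type*} [Group G] [Finite G] (A₁ A₂ : Subgroup G) (hcs : Cfsg.IsCoreSeparated A₁ A₂) : Cfsg.IsSignalizerFunctor 2 (A₁ ⊔ A₂) (fun a => (⁅Cfsg.centralizerPPrimeCore 2 a, A₁⁆ ⊔ (Cfsg.centralizerPPrimeCore 2 a ⊓ ((Cfsg.oddCore ↥(Subgroup.centralizer ((A₁ : Subgroup G) : Set G))).map (Subgroup.centralizer ((A₁ : Subgroup G) : Set G)).subtype))) ⊓ (⁅Cfsg.centralizerPPrimeCore 2 a, A₂⁆ ⊔ (Cfsg.centralizerPPrimeCore 2 a ⊓ ((Cfsg.oddCore ↥(Subgroup.centralizer ((A₂ : Subgroup G) : Set G))).map (Subgroup.centralizer ((A₂ : Subgroup G) : Set G)).subtype)))) := by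
  haveI : Fact (Nat.Prime 2) := ⟨Nat.prime_two⟩
  have hA := elem hcs
  have hAp := elemAb_isPGroup hA
  simp only [cpc_eq, oddCore, map_pPrimeCore_subtype Nat.prime_two]
  have n1 : ∀ a ∈ A₁ ⊔ A₂, A₁ ⊔ A₂ ≤ 𝐍(𝐎'[2](𝐂[a])) := fun a ha => le_norm_piCoreOf _ (le_norm_cent1 hA.1 ha)
  have l1 : ∀ a ∈ A₁ ⊔ A₂, ∀ B ≤ A₁ ⊔ A₂, ⁅𝐎'[2](𝐂[a]), B⁆ ⊔ (𝐎'[2](𝐂[a]) ⊓ 𝐎'[2](𝐂(B))) ≤ 𝐎'[2](𝐂[a]) :=
    fun a ha B hB => sup_le (comm_le_left (hB.trans (n1 a ha))) inf_le_left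
  have n2 : ∀ a ∈ A₁ ⊔ A₂, ∀ B ≤ A₁ ⊔ A₂, A₁ ⊔ A₂ ≤ 𝐍(⁅𝐎'[2](𝐂[a]), B⁆ ⊔ (𝐎'[2](𝐂[a]) ⊓ 𝐎'[2](𝐂(B)))) :=
    fun a ha B hB => le_normalizer_sup (le_normalizer_commutator (n1 a ha) (le_norm_of_le_cent
      (Lib.BG2.le_centralizer_of_comm hA.1 le_rfl hB))) (le_normalizer_inf (n1 a ha)
        (le_norm_piCoreOf _ (le_norm_cent_of_le hA.1 hB)))
  refine sf_mk (fun a ha _ => (inf_le_left.trans (l1 a ha _ le_sup_left)).trans (piCoreOf_le _)) fun a ha _ => ?_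
  have hn := le_normalizer_inf (n2 a ha _ le_sup_left) (n2 a ha _ le_sup_right)
  have hl := inf_le_left (b := ⁅𝐎'[2](𝐂[a]), A₂⁆ ⊔ (𝐎'[2](𝐂[a]) ⊓ 𝐎'[2](𝐂(A₂)))).trans (l1 a ha _ le_sup_left)
  have hd := not_dvd_card_of_le hl (not_dvd_card_pPrimeCoreOf Nat.prime_two _)
  refine ⟨hd, hn, fun b hb hb1 => ?_⟩
  have e1 := (inf_le_inf_right 𝐂(A₁) (inf_le_left (b := ⁅𝐎'[2](𝐂[a]), A₂⁆ ⊔ (𝐎'[2](𝐂[a]) ⊓ 𝐎'[2](𝐂(A₂)))))).trans (k2 hcs ha)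
  have e2 := (inf_le_inf_right 𝐂(A₂) (inf_le_right (a := ⁅𝐎'[2](𝐂[a]), A₁⁆ ⊔ (𝐎'[2](𝐂[a]) ⊓ 𝐎'[2](𝐂(A₁)))))).trans
    (k2 (symm hcs) (sup_comm A₁ A₂ ▸ ha))
  generalize (⁅𝐎'[2](𝐂[a]), A₁⁆ ⊔ (𝐎'[2](𝐂[a]) ⊓ 𝐎'[2](𝐂(A₁)))) ⊓ (⁅𝐎'[2](𝐂[a]), A₂⁆ ⊔ (𝐎'[2](𝐂[a]) ⊓ 𝐎'[2](𝐂(A₂)))) = T
    at hn hl hd e1 e2
  have hAb := le_cent1_of_comm hA.1 hb
  have hn' : A₁ ⊔ A₂ ≤ 𝐍(T ⊓ 𝐂[b]) := le_normalizer_inf hn (le_norm_cent1 hA.1 hb)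
  have dec : ∀ B ≤ A₁ ⊔ A₂, ⁅T ⊓ 𝐂[b], B⁆ ⊔ (T ⊓ 𝐂[b] ⊓ 𝐂(B)) = T ⊓ 𝐂[b] := fun B hB =>
    coprime_cent_prod (hB.trans hn') (coprime_of_isPGroup_of_not_dvd Nat.prime_two (hAp.to_le hB)
      (not_dvd_card_of_le inf_le_left hd)) (Or.inl (isSolvable_of_isPGroup Nat.prime_two (hAp.to_le hB)))
  have hR := isPGroup_zpowers_of_mem hAp ha
  have hRH : zpowers a ≤ 𝐂[b] := zpowers_le.2 (hAb ha)
  have hX : T ⊓ 𝐂[b] ≤ 𝐎'[2](𝐂(zpowers a)) ⊓ 𝐂[b] := cent_zpowers a ▸ inf_le_inf_right _ hl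
  have hO : 𝐂[b] ≤ 𝐍(𝐎'[2](𝐂[b])) := le_norm_piCoreOf_self _ _
  have key : T ⊓ 𝐂[b] ≤ 𝐎'[2](𝐂[b]) := by
    refine le_core_of_comm_pComp hR hRH hX fun E hE => ?_
    have k : ∀ B ≤ A₁ ⊔ A₂, T ⊓ 𝐂(B) ≤ 𝐎'[2](𝐂(B)) → ⁅E, B⁆ ≤ 𝐎'[2](𝐂[b]) → ⁅E, T ⊓ 𝐂[b]⁆ ≤ 𝐎'[2](𝐂[b]) := by
      intro B hB h1 h2
      refine commutator_le_of_le_centQuo (hE.1.trans hO) ((dec B hB).ge.trans (sup_le ?_ ?_))
      · exact (commutator_mono le_rfl (le_centQuo (hE.1.trans hO) ((hB.trans hAb).trans hO) h2)).trans (comm_le_right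
          (le_norm_centQuo (inf_le_right.trans hO) (IsPComponentOf.core_cent_le_norm hE hR hRH hX)))
      · exact le_centQuo (hE.1.trans hO) ((inf_le_left.trans inf_le_right).trans hO) (IsPComponentOf.comm_core_cent_le hE
          (hAp.to_le hB) (hB.trans hAb) (le_inf ((inf_le_inf_right _ inf_le_left).trans h1) (inf_le_left.trans inf_le_right)) h2)
    exact (sep hcs hb hb1 hE).elim (k _ le_sup_left e1) (k _ le_sup_right e2)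
  have fin : ∀ B ≤ A₁ ⊔ A₂, T ⊓ 𝐂(B) ≤ 𝐎'[2](𝐂(B)) → T ⊓ 𝐂[b] ≤ ⁅𝐎'[2](𝐂[b]), B⁆ ⊔ (𝐎'[2](𝐂[b]) ⊓ 𝐎'[2](𝐂(B))) :=
    fun B hB h1 => (dec B hB).ge.trans (sup_le_sup (commutator_mono key le_rfl) (le_inf (inf_le_left.trans key)
      ((inf_le_inf_right _ inf_le_left).trans h1)))
  exact le_inf (fin _ le_sup_left e1) (fin _ le_sup_right e2)

end Cfsg.Agent.S1330
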