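import Cfsg.Statements.S1336
import Cfsg.Agent.Lib.Layer.SigCore
import Cfsg.Agent.Lib.Amalg.StrongEmb

set_option autoImplicit false
open Cfsg

namespace Cfsg.Agent.S1336

open Subgroup Cfsg.Lib.Core Cfsg.Lib.Amalg Cfsg.Lib.BG1 Cfsg.Lib.Layer
theorem card_iff {G : Type*} [Group G] [Finite G] {p : ℕ} [hp : Fact p.Prime] {E : Subgroup G}
    (hE : IsElementaryAbelian p E) : p ^ 1 ≤ Nat.card E ↔ E ≠ ⊥ :=
  ⟨ne_bot_of_card_ge, fun h => by
    rw [pow_one]; exact Nat.le_of_dvd Nat.card_pos (dvd_card_of_isPGroup_ne_bot (elemAb_isPGroup hE) h)⟩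

def R {G : Type*} [Group G] (p : ℕ) (A B : Subgroup G) : Prop :=
  IsElementaryAbelian p A ∧ p ^ 1 ≤ Nat.card ↥A ∧ IsElementaryAbelian p B ∧
        p ^ 1 ≤ Nat.card ↥B ∧ ∀ a ∈ A, ∀ b ∈ B, a * b = b * a

theorem R.symm {G : Type*} [Group G] {p : ℕ} {A B : Subgroup G} (h : R p A B) : R p B A :=
  ⟨h.2.2.1, h.2.2.2.1, h.1, h.2.1, fun a ha b hb => (h.2.2.2.2 b hb a ha).symm⟩

theorem R.conj {G : Type*} [Group G] [Finite G] {p : ℕ} {A B : Subgroup G} (h : R p A B) (g : G) :
    R p (cj g A) (cj g B) := by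
  refine ⟨isElementaryAbelian_cj g h.1, by rw [card_cj]; exact h.2.1, isElementaryAbelian_cj g h.2.2.1,
    by rw [card_cj]; exact h.2.2.2.1, ?_⟩
  rintro _ ⟨a, ha, rfl⟩ _ ⟨b, hb, rfl⟩
  rw [← map_mul, ← map_mul, h.2.2.2.2 a ha b hb]

theorem conj' {G : Type*} [Group G] [Finite G] {p : ℕ} {A B : Subgroup G} (h : Relation.ReflTransGen (R p) A B)
    (g : G) : Relation.ReflTransGen (R p) (cj g A) (cj g B) :=
  h.lift (fun A => cj g A) fun _ _ h => h.conj g

theorem symm' {G : Type*} [Group G] {p : ℕ} {A B : Subgroup G} (h : Relation.ReflTransGen (R p) A B) :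
    Relation.ReflTransGen (R p) B A := by
  induction h with
  | refl => exact .refl
  | tail _ h ih => exact .head h.symm ih


/-- Let G be finite and p prime. Then G has a proper subgroup H with p ∣ |H| and p ∤ |H ∩ gHg⁻¹| for every g ∉ H (a strongly p-embedded subgroup) if and only if G is not 1-connected for p. -/
theorem result {G : Type*} [Group G] [Finite G] (p : ℕ) [Fact p.Prime] : (∃ H : Subgroup G, H ≠ ⊤ ∧ p ∣ Nat.card ↥H ∧ ∀ g : G, g ∉ H → ¬ p ∣ Nat.card ↥(H ⊓ H.map (MulAut.conj g).toMonoidHom)) ↔ ¬ Cfsg.IsKConnected p 1 G := by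
  constructor
  · rintro ⟨H, h1, h2, h3⟩ hc
    have hH : SPE p H ⊤ := spe_of_not_dvd le_top h1 h2 fun g _ => h3 g
    obtain ⟨E, hE, hEc⟩ := exists_le_card_eq_prime (Fact.out : p.Prime) h2
    have hEe := isElementaryAbelian_of_card_prime Fact.out hEc
    obtain ⟨g, -, hg⟩ := hH.exists_not_mem
    have h4 := hc E (cj g E) hEe (by rw [pow_one, hEc]) (isElementaryAbelian_cj g hEe) (by rw [card_cj, pow_one, hEc])
    have key : ∀ B, Relation.ReflTransGen (R p) E B → B ≤ H := by
      intro B hB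
      induction hB with
      | refl => exact hE
      | tail _ h ih =>
        exact fun b hb => hH.cent_le ih (elemAb_isPGroup h.1) (ne_bot_of_card_ge h.2.1)
          ⟨mem_top _, fun a ha => h.2.2.2.2 a ha b hb⟩
    exact hg (hH.mem_of_cj_le (elemAb_isPGroup hEe) ((card_iff hEe).1 (by rw [pow_one, hEc])) hE (mem_top g)
      (key _ h4))
  · intro hc
    by_contra hn
    refine hc fun E E' hE hE1 hE' hE1' => ?_
    obtain ⟨T, hT, hET⟩ := exists_syl_ge (elemAb_isPGroup hE) (le_top (a := E))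
    have hT1 : T ≠ ⊥ := fun e => ne_bot_of_card_ge hE1 (eq_bot_iff.2 (e ▸ hET))
    have hZ : ∀ A : Subgroup G, A ≤ T → IsElementaryAbelian p A → A ≠ ⊥ → R p A (omegaOneCenter p T) :=
      fun A hA hAe h1 => ⟨hAe, (card_iff hAe).2 h1, isElemAb_omZ T,
        (card_iff (isElemAb_omZ T)).2 (omZ_ne_bot hT.isPGroup hT1), fun a ha b hb => omZ_le_cent T hb a (hA ha)⟩
    let M : Subgroup G :=
      { carrier := {g | Relation.ReflTransGen (R p) (omegaOneCenter p T) (cj g (omegaOneCenter p T))}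
        one_mem' := by rw [Set.mem_ofPred_eq, cj_one]
        mul_mem' := fun {a b} ha hb => by
          have := conj' hb a
          rw [← cj_mul] at this
          exact Relation.ReflTransGen.trans ha this
        inv_mem' := fun {a} ha => by
          have := conj' ha a⁻¹
          rw [cj_inv_cj] at this
          exact symm' this }
    have hM : M = ⊤ := by
      by_contra hM
      have := spe_of_syl le_top hM hT hT1 fun A hA h1 g hg => by
        have h2 := hZ _ ((omZ_le A).trans hA) (isElemAb_omZ A) (omZ_ne_bot (hT.isPGroup.to_le hA) h1)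
        have h3 := h2.conj g
        rw [cj_of_mem_normalizer (norm_le_norm_omZ A hg.2)] at h3
        exact Relation.ReflTransGen.head h2.symm (.single h3)
      exact hn ⟨M, hM, this.dvd, fun g hg hd => hg (this.mem_of_dvd (mem_top g) hd)⟩
    obtain ⟨g, -, hg⟩ := hT.exists_conj_le (elemAb_isPGroup hE') le_top
    have h1 := (hZ _ hg (isElementaryAbelian_cj g hE') (by rw [Ne, cj_eq_bot_iff]; exact ne_bot_of_card_ge hE1')).conj g⁻¹
    rw [cj_inv_cj] at h1
    have h2 : g⁻¹ ∈ M := hM ▸ mem_top _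
    exact Relation.ReflTransGen.head (hZ E hET hE (ne_bot_of_card_ge hE1)) (Relation.ReflTransGen.tail h2 h1.symm)

end Cfsg.Agent.S1336
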