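import Cfsg.Statements.S1338
import Cfsg.Agent.Lib.PGrp.TwoMax

set_option autoImplicit false
open Cfsg

namespace Cfsg.Agent.S1338

open Cfsg.Lib.PGrp Subgroup
open scoped commutatorElement

/-- A finite 3-group of 3-rank at least 4 is 2-connected for the prime 3: its commuting graph on elementary abelian subgroups of order ≥ 9 is connected. -/
theorem result {P : Type*} [Group P] [Finite P] (hP : IsPGroup 3 P) (hrk : ¬ Cfsg.PRankLE 3 3 P) : Cfsg.IsKConnected 3 2 P := by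
  haveI : Fact (Nat.Prime 3) := ⟨Nat.prime_three⟩
  obtain ⟨E, hE, hE4⟩ := not_pRankLE_iff.1 hrk
  obtain ⟨A, _, hA, hA4⟩ := exists_normal_elem_card_four (by norm_num) hP hE hE4.ge
  intro U V hU hU2 hV hV2
  obtain ⟨X, x1, x2⟩ := exists_le_card_eq (hP.to_subgroup U) hU2
  obtain ⟨X', x1', x2'⟩ := exists_le_card_eq (hP.to_subgroup V) hV2
  have hX := isElementaryAbelian_of_le hU x1
  have hX' := isElementaryAbelian_of_le hV x1'
  obtain ⟨Y, B, h1, h2, h3, h4, h5, h6⟩ := exists_commuting_chain hP hA (by rw [hA4]; norm_num) hX x2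
  obtain ⟨Y', B', h1', h2', h3', h4', h5', h6'⟩ := exists_commuting_chain hP hA (by rw [hA4]; norm_num) hX' x2'
  have hB := isElementaryAbelian_of_le hA h3
  have hB' := isElementaryAbelian_of_le hA h3'
  exact .head ⟨hU, hU2, hX, x2.ge, fun a ha b hb => comm_of_mem hU.1 ha (x1 hb)⟩
    (.head ⟨hX, x2.ge, h1, h2.ge, fun a ha b hb => h5 hb a ha⟩
    (.head ⟨h1, h2.ge, hB, h4.ge, fun a ha b hb => h6 hb a ha⟩
    (.head ⟨hB, h4.ge, hB', h4'.ge, fun a ha b hb => comm_of_mem hA.1 (h3 ha) (h3' hb)⟩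
    (.head ⟨hB', h4'.ge, h1', h2'.ge, fun a ha b hb => (h6' ha b hb).symm⟩
    (.head ⟨h1', h2'.ge, hX', x2'.ge, fun a ha b hb => (h5' ha b hb).symm⟩
    (.single ⟨hX', x2'.ge, hV, hV2, fun a ha b hb => comm_of_mem hV.1 (x1' ha) hb⟩))))))

end Cfsg.Agent.S1338
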