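import Cfsg.Statements.S1339
import Cfsg.Agent.Lib.Layer.Bender
import Cfsg.Agent.Lib.Linear.Tv

set_option autoImplicit false
open Cfsg

namespace Cfsg.Agent.S1339

open Subgroup Cfsg.Lib.Core Cfsg.Lib.Amalg Cfsg.Lib.BG1 Cfsg.Lib.Layer
open Matrix Cfsg.Lib.Linear


/-- Let F be a field with 2 elements, n ≥ 3, and t ∈ SL(n, F) a transvection (t = 1 + E_{ij}, i ≠ j). Then the generalized Fitting subgroup of C(t) is O_2(C(t)). -/
theorem result {F : Type*} [Field F] [Fintype F] [DecidableEq F] (hF : Fintype.card F = 2) (n : ℕ) (hn : 3 ≤ n) (i j : Fin n) (hij : i ≠ j) (t : Matrix.SpecialLinearGroup (Fin n) F) (ht : (t : Matrix (Fin n) (Fin n) F) = Matrix.transvection i j 1) : Cfsg.generalizedFittingSubgroup ↥(Subgroup.centralizer ({t} : Set (Matrix.SpecialLinearGroup (Fin n) F))) = Cfsg.pCore 2 ↥(Subgroup.centralizer ({t} : Set (Matrix.SpecialLinearGroup (Fin n) F))) := by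
  haveI : CharP F 2 := by
    obtain ⟨p, hp⟩ := CharP.exists F
    obtain ⟨k, hk, h⟩ := FiniteField.card F p
    obtain rfl : p = 2 := (Nat.prime_dvd_prime_iff_eq hk Nat.prime_two).1 (hF ▸ h ▸ dvd_pow_self p k.ne_zero)
    exact hp
  haveI : Finite (SpecialLinearGroup (Fin n) F) := Subtype.finite
  have h01 : ∀ a : F, a ≠ 0 → a = 1 := fun a ha => by simpa [hF] using FiniteField.pow_card_sub_one_eq_one a ha
  have ht' : (t : Matrix (Fin n) (Fin n) F) = 1 + vecMulVec (Pi.single i 1) (Pi.single j 1) := by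
    rw [ht, Matrix.transvection, single_eq_vecMulVec]
  let A : Subgroup (SpecialLinearGroup (Fin n) F) :=
    { carrier := {g | ∃ ψ, (g : Matrix (Fin n) (Fin n) F) = 1 + vecMulVec (Pi.single i 1) ψ}
      one_mem' := ⟨0, by simp⟩
      mul_mem' := by
        rintro a b ⟨ψ, ha⟩ ⟨χ, hb⟩
        refine ⟨ψ + χ, ?_⟩
        rw [sl_coe_mul, ha, hb, add_mul, mul_add, mul_add, vecMulVec_mul_vecMulVec, dotProduct_eq_zero_of_coe_eq ha]
        simp [vecMulVec_add]; abel
      inv_mem' := fun ⟨ψ, h⟩ => ⟨-ψ, coe_inv_of_coe_eq h⟩ }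
  have hA : A ≤ 𝐂[t] := fun a ⟨ψ, h⟩ => mem_centralizer_singleton_iff.2
    (commute_of_coe_eq h ht' (dotProduct_eq_zero_of_coe_eq h) (dotProduct_eq_zero_of_coe_eq ht')).eq
  have hn : 𝐂[t] ≤ 𝐍(A) := le_norm_of_conj_mem fun c hc a ⟨ψ, h⟩ => by
    have h1 : (c : Matrix (Fin n) (Fin n) F) * t = t * c :=
      congrArg (fun g : SpecialLinearGroup (Fin n) F => (g : Matrix (Fin n) (Fin n) F)) (mem_centralizer_singleton_iff.1 hc)
    rw [ht, Matrix.transvection, mul_add, add_mul, mul_one, one_mul, add_right_inj] at h1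
    have h2 : (c : Matrix (Fin n) (Fin n) F) *ᵥ Pi.single i 1 = c i i • Pi.single i 1 := by
      ext k
      have := congrFun (congrFun h1 k) j
      by_cases e : k = i
      · simp [e]
      · simpa [e] using this
    refine ⟨c i i • (ψ ᵥ* (c⁻¹ : SpecialLinearGroup (Fin n) F)), ?_⟩
    rw [sl_coe_mul, sl_coe_mul, coe_conj_of_coe_eq h (sl_coe_mul_inv c), h2, smul_vecMulVec, vecMulVec_smul]
  have hC : 𝐂(A) ≤ A := fun g hg => by
    have h1 : ∀ k, k ≠ i → ∀ l, g k l = if l = k then g i i else 0 := fun k hk l => by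
      have := congrArg Subtype.val (hg _ ⟨_, coe_transvection_eq hk.symm 1⟩)
      rw [sl_coe_mul, sl_coe_mul, coe_transvection_eq, ← single_eq_vecMulVec, mul_add, add_mul, mul_one, one_mul,
        add_right_inj] at this
      have := congrFun (congrFun this i) l
      by_cases e : l = k
      · simpa [e] using this
      · simpa [e] using this
    have h2 : g i i = 1 := h01 _ fun e => by
      have := det_eq_zero_of_row_eq_zero (A := (g : Matrix (Fin n) (Fin n) F)) j fun l => by simp [h1 j hij.symm l, e]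
      simp at this
    refine ⟨fun l => g i l - (1 : Matrix (Fin n) (Fin n) F) i l, ?_⟩
    ext k l
    by_cases e : k = i
    · simp [e, vecMulVec_apply]
    · simp [e, vecMulVec_apply, h1 k e l, h2, one_apply, eq_comm]
  have hp : IsPGroup 2 A := fun a => ⟨1, Subtype.ext (by simpa using (isTv_of_coe_eq a.2.choose_spec).pow_char (p := 2))⟩
  have h3 : A ≤ (pCore 2 𝐂[t]).map (𝐂[t]).subtype := 
    (le_pCoreOf' Nat.prime_two hA hn hp).trans (map_pCore_subtype Nat.prime_two _).ge
  refine fstar_eq_pCore_iff.2 fun g hg => ?_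
  obtain ⟨x, hx, e⟩ := h3 (hC fun a ha => by
    obtain ⟨y, hy, rfl⟩ := h3 ha
    exact congrArg Subtype.val (hg y hy) : (g : SpecialLinearGroup (Fin n) F) ∈ A)
  exact Subtype.ext e ▸ hx

end Cfsg.Agent.S1339
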