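import Cfsg.Statements.S1340
import Cfsg.Agent.Lib.Layer.SLBlock

set_option autoImplicit false
open Cfsg

namespace Cfsg.Agent.S1340

open Subgroup Cfsg.Lib.Core Cfsg.Lib.Amalg Cfsg.Lib.BG1 Cfsg.Lib.Layer
open Matrix Cfsg.Lib.Linear


/-- Let F be a finite field of odd order and n ≥ 3 with (n, |F|) ≠ (3, 3). Then GL(n, F) has a non-central involution t such that C(t) / O(C(t)) has a component. -/
theorem result {F : Type*} [Field F] [Fintype F] [DecidableEq F] (hF : Odd (Fintype.card F)) (n : ℕ) (hn : 3 ≤ n) (h33 : ¬ (n = 3 ∧ Fintype.card F = 3)) : ∃ t : Matrix.GeneralLinearGroup (Fin n) F, orderOf t = 2 ∧ t ∉ Subgroup.center (Matrix.GeneralLinearGroup (Fin n) F) ∧ Cfsg.HasComponent (↥(Subgroup.centralizer ({t} : Set (Matrix.GeneralLinearGroup (Fin n) F))) ⧸ Cfsg.oddCore ↥(Subgroup.centralizer ({t} : Set (Matrix.GeneralLinearGroup (Fin n) F)))) := by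
  obtain ⟨n, rfl⟩ : ∃ k, n = k + 1 := ⟨n - 1, by omega⟩
  haveI : Nontrivial (Fin n) := Fin.nontrivial_iff_two_le.2 (by omega)
  have h2 : (2 : F) ≠ 0 := Ring.two_ne_zero fun c => by
    have := FiniteField.even_card_iff_char_two.1 c; have := Nat.odd_iff.1 hF; omega
  let e := lastEquiv n
  let m : GL (Fin (n + 1)) F →* Matrix (Fin (n + 1)) (Fin (n + 1)) F := Units.coeHom _
  have hm : Function.Injective m := Units.val_injective
  let t : GL (Fin (n + 1)) F := ⟨blk e (-1) 1, blk e (-1) 1, by simp [blk_mul, blk_one], by simp [blk_mul, blk_one]⟩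
  have ht : m t = blk e (-1) 1 := rfl
  have hφ : ∀ A, m (SpecialLinearGroup.toGL.comp (slBlk e) A) = blk e A 1 := fun _ => rfl
  have hq : 3 ≤ Fintype.card (Fin n) ∨ ∃ a : F, a ≠ 0 ∧ a ^ 2 ≠ 1 := by
    by_cases h : 3 ≤ n
    · exact Or.inl (by simpa using h)
    · refine Or.inr (exists_sq_ne_one_of_four_le_card ?_)
      have := Fintype.one_lt_card (α := F); have := Nat.odd_iff.1 hF
      rw [Nat.card_eq_fintype_card]; omega
  obtain ⟨i, j, hij⟩ := exists_pair_ne (Fin n)
  refine ⟨t, orderOf_blk hm ht h2, fun c => ?_, _, (IsComponent.map (component_blk hm hφ ht h2 hq)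
    (QuotientGroup.mk'_surjective _) fun c => ?_)⟩
  · have hne : e (.inl i) ≠ e (.inr ()) := by simp
    obtain ⟨A, c, -, -, h, -⟩ := cent_blk ht h2 (g := (SpecialLinearGroup.transvection hne 1).toGL)
      (mem_centralizer_singleton_iff.2 (mem_center_iff.1 c _))
    have := congrFun (congrFun h (e (.inl i))) (e (.inr ()))
    change (1 + single _ _ 1 : Matrix _ _ F) _ _ = _ at this
    simp [blk, hne] at this
  · rw [Subgroup.map_eq_bot_iff, QuotientGroup.ker_mk'] at c
    have h1 := card_dvd_of_le c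
    rw [Nat.card_congr (subgroupOfEquivOfLe (range_le_cent_blk hm hφ ht h2)).toEquiv,
      ← Nat.card_congr (MonoidHom.ofInjective (blk_hom_injective hφ)).toEquiv] at h1
    have h3 : orderOf (SpecialLinearGroup.diag2n hij (-1 : F) (by simp)) = 2 := orderOf_eq_prime (sl_ext_smul fun v => by
      ext k; simp [pow_two, mul_smul, sl_diag2n_smul_apply]; split_ifs <;> simp) fun c => h2 (by
        have := sl_diag2n_smul_apply hij (-1 : F) (by simp) 1 i
        rw [c] at this; simp at this; linear_combination this)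
    exact (Nat.not_even_iff_odd.2 (odd_card_oddCore _)) (even_iff_two_dvd.2 ((h3 ▸ _root_.orderOf_dvd_natCard _).trans h1))

end Cfsg.Agent.S1340
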