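import Cfsg.Statements.S1343
import Cfsg.Agent.Lib.Layer.CoreBalance

set_option autoImplicit false
open Cfsg

namespace Cfsg.Agent.S1343

open Cfsg.Lib.Layer
open Subgroup Cfsg.Lib.Core Cfsg.Lib.Amalg Cfsg.Lib.BG1

/-- Let X be finite. Then L*_{2'}(X) = L_{2'}(X) ⊔ F for some subgroup F of odd order normalized by a Sylow 2-subgroup of X. -/
theorem result {X : Type*} [Group X] [Finite X] : ∃ F : Subgroup X, Odd (Nat.card ↥F) ∧ (∃ S : Sylow 2 X, (S : Subgroup X) ≤ Subgroup.normalizer (F : Set X)) ∧ Cfsg.extendedTwoLayer X = Cfsg.pLayer 2 X ⊔ F := by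
  haveI : Fact (Nat.Prime 2) := ⟨Nat.prime_two⟩
  haveI := pLayer_normal (p := 2) (G := X)
  haveI := pPrimePCore_normal' (p := 2) (G := X)
  obtain ⟨S⟩ : Nonempty (Sylow 2 X) := inferInstance
  have hT := (syl_top S).inf_normal_top (pLayer 2 X ⊔ pPrimePCore 2 X)
  refine ⟨_, ?_, ⟨S, ?_⟩, by rw [extendedTwoLayer_eq hT, sup_assoc]⟩
  · rw [← Nat.not_even_iff_odd, even_iff_two_dvd]
    exact not_dvd_card_sup Nat.prime_two (not_dvd_card_pPrimeCore Nat.prime_two)
      (not_dvd_card_pPrimeCoreOf Nat.prime_two _) le_normalizer_of_normal'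
  · exact le_normalizer_sup le_normalizer_of_normal' (le_norm_piCoreOf _ (le_normalizer_centralizer
      (le_normalizer_inf le_normalizer le_normalizer_of_normal')))

end Cfsg.Agent.S1343
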