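import Cfsg.Statements.S1346
import Cfsg.Agent.Lib.Layer.CoreBalance

set_option autoImplicit false
open Cfsg

namespace Cfsg.Agent.S1346

open Cfsg.Lib.Layer
open Subgroup Cfsg.Lib.Core Cfsg.Lib.Amalg Cfsg.Lib.BG1

/-- Let G be a finite group all of whose 2-local subgroups have known non-abelian composition factors, and x, y commuting involutions. Then the extended 2-layer of L*_{2'}(C_G(x)) ∩ C_G(y) (as a group) is contained in L*_{2'}(C_G(y)). -/
theorem result {G : Type*} [Group G] [Finite G] (hK : ∀ T : Subgroup G, IsPGroup 2 ↥T → T ≠ ⊥ → Cfsg.IsCompositionKGroup ↥(Subgroup.normalizer (T : Set G))) (x y : G) (hx : orderOf x = 2) (hy : orderOf y = 2) (hxy : x * y = y * x) : (Cfsg.extendedTwoLayer ↥((Cfsg.extendedTwoLayer ↥(Subgroup.centralizer ({x} : Set G))).map (Subgroup.centralizer ({x} : Set G)).subtype ⊓ Subgroup.centralizer ({y} : Set G))).map ((Cfsg.extendedTwoLayer ↥(Subgroup.centralizer ({x} : Set G))).map (Subgroup.centralizer ({x} : Set G)).subtype ⊓ Subgroup.centralizer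 ({y} : Set G)).subtype ≤ (Cfsg.extendedTwoLayer ↥(Subgroup.centralizer ({y} : Set G))).map (Subgroup.centralizer ({y} : Set G)).subtype := by
  haveI : Fact (Nat.Prime 2) := ⟨Nat.prime_two⟩
  haveI := extendedTwoLayer_normal (G := 𝐂[x])
  set H := (extendedTwoLayer 𝐂[x]).map (𝐂[x]).subtype ⊓ 𝐂[y] with hH
  obtain ⟨T, hTH, hT, e⟩ := exists_extendedTwoLayerOf_eq H
  have hxy' : zpowers x ≤ 𝐂[y] := by rw [zpowers_le, mem_centralizer_singleton_iff]; exact hxy
  have hxp : IsPGroup 2 (zpowers x) := Cfsg.Lib.Amalg.isPGroup_zpowers_of_orderOf (k := 1) (by simpa using hx)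
  have ez : 𝐂(zpowers x) = 𝐂[x] := by rw [zpowers_eq_closure, centralizer_closure]
  have hHZ : H ≤ 𝐂[y] ⊓ 𝐂(zpowers x) := by
    rw [ez]; exact le_inf inf_le_right (inf_le_left.trans (map_subtype_le _))
  have hn : 𝐂[y] ⊓ 𝐂(zpowers x) ≤ 𝐍(H) := by
    rw [ez]
    exact le_normalizer_inf (inf_le_right.trans (le_normalizer_map_of_normal _)) (inf_le_left.trans le_normalizer)
  rw [e]
  refine sup_le (sup_le ?_ ?_) ?_
  · refine ((pLayerOf_mono hHZ (isSubnormal_subgroupOf_of_le_normalizer hn)).trans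
      (l_balance_two_of hxy' hxp)).trans (map_mono (le_sup_of_le_left le_sup_left))
  · exact (piCoreOf_le_of_normal hHZ hn).trans (core_balance_two_of hxy' hxp)
  · have hTx : T ≤ 𝐂(zpowers x) := hTH.trans (hHZ.trans inf_le_right)
    refine le_trans (piCoreOf_le_of_normal ?_ ?_) (core_balance_two_of (R := zpowers x ⊔ T)
      (sup_le hxy' (hTH.trans inf_le_right))
      (isPGroup_sup_of_le_normalizer' hxp hT (le_norm_of_le_cent hTx)))
    · rw [Cfsg.Lib.Core.centralizer_sup, ← inf_assoc]; exact inf_le_inf_right _ hHZ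
    · rw [Cfsg.Lib.Core.centralizer_sup, ← inf_assoc]
      exact le_normalizer_inf (inf_le_left.trans hn) (inf_le_right.trans le_normalizer)

end Cfsg.Agent.S1346
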