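import Cfsg.Statements.S1347
import Cfsg.Agent.Lib.Layer.Pumpup2

set_option autoImplicit false
open Cfsg

namespace Cfsg.Agent.S1347

open Subgroup Cfsg.Lib.Core Cfsg.Lib.Amalg Cfsg.Lib.BG1 Cfsg.Lib.Layer

/-- Let A be a standard subgroup of the finite group G with O(G) = 1, and t an involution of C_G(A). Then (i) A is normal in G; or (ii) there is a non-abelian simple subgroup X ≅ A with X and tXt⁻¹ commuting, meeting trivially and generating E(G), and C_G(A) = ⟨t⟩; or (iii) A ≤ E(G) and E(G) is non-abelian simple. -/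
theorem result {G : Type*} [Group G] [Finite G] (A : Subgroup G) (hA : Cfsg.IsStandardSubgroup A) (hO : Cfsg.oddCore G = ⊥) (t : G) (ht : orderOf t = 2) (htA : t ∈ Subgroup.centralizer (A : Set G)) : A.Normal ∨ (∃ X : Subgroup G, IsSimpleGroup ↥X ∧ ¬ IsMulCommutative ↥X ∧ Nonempty (↥X ≃* ↥A) ∧ (∀ a ∈ X, ∀ b ∈ X.map (MulAut.conj t).toMonoidHom, a * b = b * a) ∧ X ⊓ X.map (MulAut.conj t).toMonoidHom = ⊥ ∧ X ⊔ X.map (MulAut.conj t).toMonoidHom = Cfsg.layer G ∧ Subgroup.centralizer (A : Set G) = Subgroup.zpowers t) ∨ (A ≤ Cfsg.layer G ∧ IsSimpleGroup ↥(Cfsg.layer G) ∧ ¬ IsMulCommutative ↥(Cfsg.layer G)) := by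
  haveI : Fact (Nat.Prime 2) := ⟨Nat.prime_two⟩
  obtain ⟨hq, ⟨-, hti⟩, hnc, hN⟩ := hA
  have k1 : ∀ s ∈ 𝐂(A), orderOf s = 2 → 𝐂[s] ≤ 𝐍(A) := by
    intro s hs ho g hg
    rw [hN]
    by_contra hn
    refine (Nat.not_even_iff_odd.2 (hti g hn)) (even_iff_two_dvd.2 (ho ▸ Subgroup.orderOf_dvd_natCard _ (mem_inf.2 ⟨hs, ?_⟩)))
    have := conj_mem_cj g hs
    rwa [mem_centralizer_singleton_iff.1 hg, mul_inv_cancel_right] at this
  have hAt : IsComponentOf A 𝐂[t] := isComponentOf_of_norm hq (mem_cent1_of_mem_cent htA) (k1 t htA ht)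
  have hP : IsPComponentOf 2 A 𝐂(zpowers t) := cent_zpowers t ▸ IsComponentOf.two hAt
  have hLE : A ≤ layer G := pLayer_eq_layer hO ▸ (IsPComponentOf.le_pLayerOf hP).trans (l_balance_two (isPGroup_zpowers_prime ht))
  obtain ⟨K, hK, hn, hle⟩ := IsPComponentOf.exists_le_conjClosure hP hLE
  by_cases hKA : K ≤ A
  · left
    have e : A = K := by
      refine ((IsQuasisimple.subnormal_eq_top_or_le_center hq (hK.1.subgroupOf (K := A))).elim (fun e => ?_) fun e => ?_)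
      · exact le_antisymm (subgroupOf_eq_top.1 e) hKA
      · exact absurd (fun a ha k hk => ((mem_center_subgroup_iff ⟨k, hKA hk⟩).1 (e hk) a ha).symm) hn
    subst e
    refine normalizer_eq_top_iff.1 (eq_top_iff.2 fun g _ => by_contra fun hg => ?_)
    exact hnc g (fun e => hg (cj_eq_self_iff.1 e)) (comm_eq_bot_iff'.2 (IsComponent.cj_le_cent hK hg))
  right
  -- the centralizer of `M = ⟨K^t⟩` has odd order
  have k2 : ∀ X : Subgroup G, X ≤ 𝐂(conjClosure K (zpowers t)) → ¬ 2 ∣ Nat.card X := by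
    intro X hX hd
    obtain ⟨s, hs, ho⟩ := exists_mem_orderOf_eq_prime Nat.prime_two hd
    have h1 : K ≤ 𝐍(A) := ((le_conjClosure _ _).trans (mem_cent1_of_mem_cent (hX hs))).trans
      (k1 s (cent_anti hle (hX hs)) ho)
    exact hn (comm_eq_bot_iff'.1 ((IsComponent.le_or_commutator_eq_bot_of_le_normalizer hK h1).resolve_left hKA))
  have k3 : layer G = conjClosure K (zpowers t) := by
    refine le_antisymm (layer_le fun L hL => ?_) (IsComponent.conjClosure_le_layer hK _)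
    exact (IsComponent.le_or_commutator_eq_bot_of_le_normalizer hL ((IsComponent.le_layer hL).trans
      (IsComponent.layer_le_norm_conjClosure hK _))).resolve_right fun e =>
        k2 L (comm_eq_bot_iff.1 e) (two_dvd_card_of_quasisimple hL.2)
  haveI := layer_normal (G := G)
  have k4 : 𝐂(layer G) = ⊥ := eq_bot_iff.2 (hO ▸ le_pPrimeCore ((Nat.Prime.coprime_iff_not_dvd Nat.prime_two).2
    (k2 _ (k3 ▸ le_rfl))).symm)
  have k5 : K ⊓ 𝐂(K) = ⊥ := eq_bot_iff.2 (k4 ▸ Lib.BG1.le_cent_symm (layer_le fun L hL => Lib.BG1.le_cent_symm (by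
    by_cases e : K = L
    · exact e ▸ inf_le_right
    · exact inf_le_left.trans (comm_eq_bot_iff.1 (IsComponent.commutator_eq_bot_of_ne hK hL e)))))
  have k6 : center K = ⊥ := (map_eq_bot_iff_of_injective _ K.subtype_injective).1 ((Lib.Layer.map_subtype_center K).trans k5)
  have hs := IsQuasisimple.isSimpleGroup hK.2 k6
  by_cases h : t ∈ 𝐍(K)
  · rw [conjClosure_eq_self (zpowers_le.2 h)] at k3
    exact Or.inr ⟨hLE, k3 ▸ hs, k3 ▸ IsQuasisimple.not_isMulCommutative hK.2⟩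
  left
  obtain ⟨π, h1, -, -, h2⟩ := IsPComponentOf.exists_diag hP hK hle
    (zpowers_inf_norm_le_cent (ht ▸ Nat.prime_two) (Or.inl h))
  have h3 := fun k => h2 k _ fun g _ hg => IsComponent.cj_le_cent hK hg
  have h4 := IsComponent.cj_le_cent hK h
  rw [conjClosure_zpowers_two (mul_self_of_orderOf ht)] at k3 hle
  have h5 : Function.Injective π := (MonoidHom.ker_eq_bot_iff π).1 (eq_bot_iff.2 (k6 ▸ diag_ker_le h3))
  have h6 : 𝐂(A) ⊓ 𝐍(K) = ⊥ := by
    have h7 : 𝐂(A) ⊓ 𝐍(K) ≤ 𝐂(K) := h1 ▸ diag_cent (IsComponent.commutator_self hK) h3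
    refine eq_bot_iff.2 (k4 ▸ k3 ▸ Lib.BG1.le_cent_symm (sup_le (Lib.BG1.le_cent_symm h7) ?_))
    refine Lib.BG1.le_cent_symm fun c hc => ?_
    have hL := IsComponent.conj (IsComponent.conj hK t) c
    rcases IsComponentOf.cj_eq_or (isComponentOf_top.2 hK) (isComponentOf_top.2 (IsComponent.conj hK t))
      (isComponentOf_top.2 hL) (k3 ▸ IsComponent.le_layer hL) (IsQuasisimple.not_le_centralizer hL.2) with e | e
    · refine absurd (cj_eq_self_iff.1 ?_) h
      rw [← cj_inv_cj c (cj t K), show cj c (cj t K) = K from e, cj_of_mem_normalizer (inv_mem (mem_inf.1 hc).2)]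
    · rw [← cj_centralizer, mem_cj]
      refine h7 (mem_inf.2 ⟨mul_mem (mul_mem (inv_mem htA) (mem_inf.1 hc).1) htA, cj_eq_self_iff.1 ?_⟩)
      rw [cj_mul, cj_mul, show cj c (cj t K) = cj t K from e, cj_inv_cj]
  refine ⟨K, hs, IsQuasisimple.not_isMulCommutative hK.2, ⟨(MonoidHom.ofInjective h5).trans (MulEquiv.subgroupCongr h1)⟩,
    fun a ha b hb => h4 hb a ha, eq_bot_iff.2 (k5 ▸ inf_le_inf_left _ h4), k3.symm,
    le_antisymm (fun c hc => ?_) (zpowers_le.2 htA)⟩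
  have hK' := isComponentOf_top.2 hK
  rcases IsComponentOf.cj_eq_or hK' (isComponentOf_top.2 (IsComponent.conj hK t)) (isComponentOf_top.2 (IsComponent.conj hK c))
    hle (not_le_cent_cj (cent_le_norm _ hc) hn) with e | e
  · rw [mem_bot.1 (h6.le (mem_inf.2 ⟨hc, cj_eq_self_iff.1 e⟩))]; exact one_mem _
  · have h9 : t⁻¹ * c ∈ 𝐍(K) := cj_eq_self_iff.1 (by rw [cj_mul, show cj c K = cj t K from e, cj_inv_cj])
    rw [← inv_mul_eq_one.1 (mem_bot.1 (h6.le (mem_inf.2 ⟨mul_mem (inv_mem htA) hc, h9⟩)))]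
    exact mem_zpowers t

end Cfsg.Agent.S1347
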