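import Cfsg.Statements.S1348
import Cfsg.Agent.Lib.Layer.SLBlock

set_option autoImplicit false
open Cfsg

namespace Cfsg.Agent.S1348

open Subgroup Cfsg.Lib.Core Cfsg.Lib.Amalg Cfsg.Lib.BG1 Cfsg.Lib.Layer
open Matrix Cfsg.Lib.Linear


/-- Let F be a finite field of odd order, n ≥ 7 odd, and t ∈ SL(n, F) the diagonal matrix with entries −1, …, −1, 1. Then E(C(t)) is a standard subgroup of SL(n, F). -/
theorem result {F : Type*} [Field F] [Fintype F] [DecidableEq F] (hF : Odd (Fintype.card F)) (n : ℕ) (hn : 7 ≤ n) (hodd : Odd n) (t : Matrix.SpecialLinearGroup (Fin n) F) (ht : (t : Matrix (Fin n) (Fin n) F) = Matrix.diagonal (fun i : Fin n => if (i : ℕ) + 1 = n then (1 : F) else -1)) : Cfsg.IsStandardSubgroup ((Cfsg.layer ↥(Subgroup.centralizer ({t} : Set (Matrix.SpecialLinearGroup (Fin n) F)))).map (Subgroup.centralizer ({t} : Set (Matrix.SpecialLinearGroup (Fin n) F))).subtype) := by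
  obtain ⟨n, rfl⟩ : ∃ k, n = k + 1 := ⟨n - 1, by omega⟩
  haveI : Finite (SpecialLinearGroup (Fin (n + 1)) F) := Subtype.finite
  haveI : Nontrivial (Fin n) := Fin.nontrivial_iff_two_le.2 (by omega)
  have h2 : (2 : F) ≠ 0 := Ring.two_ne_zero fun c => by
    have := FiniteField.even_card_iff_char_two.1 c; have := Nat.odd_iff.1 hF; omega
  rw [← blk_last] at ht
  let m : SpecialLinearGroup (Fin (n + 1)) F →* Matrix (Fin (n + 1)) (Fin (n + 1)) F := SpecialLinearGroup.coeMonoidHom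
  have hm : Function.Injective m := Subtype.val_injective
  have hφ : ∀ A, m (slBlk (lastEquiv n) A) = blk (lastEquiv n) A 1 := fun _ => rfl
  have hq : 3 ≤ Fintype.card (Fin n) ∨ ∃ a : F, a ≠ 0 ∧ a ^ 2 ≠ 1 := Or.inl (by simp; omega)
  have hev : Even (Fintype.card (Fin n)) := by simpa [Nat.odd_add_one] using hodd
  have htL := mem_range_blk hm hφ (g := t) ht (by rw [det_neg, det_one, hev.neg_one_pow, one_mul])
  have hu := @eq_of_cent_blk _ _ _ _ _ _ _ _ _ _ _ _ _ hm _ hφ t ht h2 _ htL (fun g => g.2) hev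
  have h1 := range_le_cent_blk hm hφ ht h2
  have h3 := cent_le_norm_blk hm hφ ht h2
  have h4 := comm_cent_blk hm hφ ht h2
  have hQ := quasisimple_blk hφ hq
  change IsStandardSubgroup 𝐄(𝐂[t])
  rw [layer_cent_blk hm hφ ht h2 hq]
  set L := (slBlk (F := F) (lastEquiv n)).range
  have htK : t ∈ 𝐂(L) := fun x hx => mem_centralizer_singleton_iff.1 (h1 hx)
  have ho : orderOf t = 2 := orderOf_blk hm ht h2
  have hk : ∀ g, g * t * g⁻¹ ∈ 𝐂(L) → g ∈ 𝐍(L) := fun g hg => h3 (mem_centralizer_singleton_iff.2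
    (mul_inv_eq_iff_eq_mul.1 (hu hg (by rw [← ho]; exact (MulAut.conj g).orderOf_eq t))))
  refine ⟨hQ, ⟨?_, fun g hg => Nat.not_even_iff_odd.1 fun he => hg ?_⟩, fun g hg h => hg ?_,
    le_antisymm (le_normalizer_centralizer le_rfl) fun g hg => hk g ((mem_normalizer_iff.1 hg t).1 htK)⟩
  · exact even_iff_two_dvd.2 (ho ▸ orderOf_dvd_natCard _ htK)
  · obtain ⟨u, hu2⟩ := exists_prime_orderOf_dvd_card' 2 he.two_dvd
    have := u.2.2
    rw [hu u.2.1 ((Subgroup.orderOf_coe u).trans hu2)] at this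
    exact le_normalizer_centralizer le_rfl (inv_inv g ▸ inv_mem (hk g⁻¹ (by simpa using mem_cj.1 this)))
  · have h5 : cj g L ≤ 𝐂[t] := (Lib.BG1.le_cent_symm (comm_eq_bot_iff.1 h)).trans (centralizer_le (by simpa using htL))
    refine eq_of_le_of_card_ge (le_trans ?_ ((commutator_mono h5 h5).trans h4)) (card_cj g L).ge
    rw [← cj_commutator, IsQuasisimple.commutator_self hQ]

end Cfsg.Agent.S1348
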