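import Cfsg.Statements.S1349
import Cfsg.Agent.Lib.Layer.TDih

set_option autoImplicit false
open Cfsg

namespace Cfsg.Agent.S1349

open Subgroup Cfsg.Lib.Core Cfsg.Lib.Amalg Cfsg.Lib.BG1 Cfsg.Lib.Layer

/-- Let G be finite, L ≤ G solvable of odd order, and A an elementary abelian 2-subgroup of order 2^d (d ≥ 1) normalizing L with C_A(L) = 1. Then there are subgroups A_1, …, A_d of A of order 2 generating A and subgroups L_1, …, L_d of L such that each A_i ⊔ L_i is dihedral of order 2 n_i with n_i odd and at least 3, and A_i ⊔ L_i commutes elementwise with A_j ⊔ L_j for i ≠ j. -/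
theorem result {G : Type*} [Group G] [Finite G] (L A : Subgroup G) (hLs : Group.IsSolvable ↥L) (hLodd : Odd (Nat.card ↥L)) (hA : Cfsg.IsElementaryAbelian 2 A) (d : ℕ) (hd : 1 ≤ d) (hAd : Nat.card ↥A = 2 ^ d) (hAL : A ≤ Subgroup.normalizer (L : Set G)) (hfaith : A ⊓ Subgroup.centralizer (L : Set G) = ⊥) : ∃ (Ai : Fin d → Subgroup G) (Li : Fin d → Subgroup G) (n : Fin d → ℕ), (∀ i, Ai i ≤ A ∧ Nat.card ↥(Ai i) = 2 ∧ Li i ≤ L ∧ Odd (n i) ∧ 3 ≤ n i ∧ Nonempty (↥(Ai i ⊔ Li i) ≃* DihedralGroup (n i))) ∧ (⨆ i, Ai i) = A ∧ ∀ i j, i ≠ j → ∀ x ∈ Ai i ⊔ Li i, ∀ y ∈ Ai j ⊔ Li j, x * y = y * x := by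
  have hle : fittingOf L ≤ L := map_subtype_le _
  have hco : (Nat.card A).Coprime (Nat.card L) := by
    rw [hAd]; exact Nat.Coprime.pow_left _ (Nat.coprime_two_left.2 hLodd)
  obtain ⟨a, x, k1, k2, -, k4, k5⟩ := TDih.main hA hAd (fittingOf_nilpotent L) (odd_card_of_le hle hLodd)
    (le_norm_fittingOf hAL) (eq_bot_iff.2 (hfaith ▸ le_inf inf_le_left (coprime_cent_fittingOf hAL hco hLs)))
  have ho : ∀ i, Odd (orderOf (x i)) := fun i => hLodd.of_dvd_nat (L.orderOf_dvd_natCard (hle (k1 i).2.1))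
  have ha : ∀ i, a i * a i = 1 := fun i => by rw [← sq]; exact hA.2 _ (k1 i).1
  have hne : ∀ i, a i ∉ zpowers (x i) := fun i h => by
    have h1 := (k1 i).2.2.2.1
    obtain ⟨k, hk⟩ := h
    rw [← hk] at h1
    apply TDih.ne_inv_of_odd (k1 i).2.2.1 (ho i)
    rw [← h1]; group
  refine ⟨fun i => zpowers (a i), fun i => zpowers (x i), fun i => orderOf (x i), fun i =>
    ⟨zpowers_le.2 (k1 i).1, ?_, zpowers_le.2 (hle (k1 i).2.1), ho i, ?_, ?_⟩,
    le_antisymm (iSup_le fun i => zpowers_le.2 (k1 i).1) k4, fun i j hij => ?_⟩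
  · rw [Nat.card_zpowers]
    exact orderOf_eq_prime (by rw [sq, ha]) fun e => hne i (e ▸ one_mem _)
  · have h1 := (k1 i).2.2.1.two_le
    obtain ⟨m, hm⟩ := ho i
    show 3 ≤ orderOf (x i)
    omega
  · have := Lib.Invol.closure_mulEquiv_dihedral (ha i) (k1 i).2.2.2.1 rfl (hne i)
    rwa [Set.insert_eq, Subgroup.closure_union, ← zpowers_eq_closure, ← zpowers_eq_closure] at this
  · have key : ∀ u v : G, u * v = v * u → zpowers u ≤ 𝐂(zpowers v) := fun u v h => zpowers_le.2 fun w ⟨k, hk⟩ => by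
      rw [← hk]; exact (Commute.zpow_left h.symm k)
    have : zpowers (a i) ⊔ zpowers (x i) ≤ 𝐂(zpowers (a j) ⊔ zpowers (x j)) := by
      refine sup_le (Lib.BG1.le_cent_symm (sup_le (key _ _ ?_) (key _ _ ?_))) (Lib.BG1.le_cent_symm (sup_le (key _ _ ?_) (key _ _ ?_)))
      · exact Lib.PGrp.comm_of_mem hA.1 (k1 j).1 (k1 i).1
      · exact (mul_inv_eq_iff_eq_mul.1 (k2 i j hij)).symm
      · exact mul_inv_eq_iff_eq_mul.1 (k2 j i hij.symm)
      · exact k5 j i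
    exact fun u hu v hv => (this hu v hv).symm

end Cfsg.Agent.S1349
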