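import Cfsg.Statements.S1386
import Cfsg.Agent.Lib.BG1.Amb
import Cfsg.Agent.Lib.PGrp.Cyclic
import Cfsg.Agent.Lib.Amalg.Ops

set_option autoImplicit false
open Cfsg

open Subgroup Cfsg.Lib
open scoped commutatorElement
open Cfsg.Lib.Amalg
namespace Cfsg.Agent.S1386

/-- Let G be a finite group, W₁, W₂ subgroups forming a self-normalizing cyclic pair, S a subgroup with W₂ ≤ S and W₁ a complement to S' in S, and (W₁, U, W₂') type-P data for S. Then W₂' = W₂ (that is, C_{S'}(W₁) = W₂). -/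
theorem result {G : Type*} [Group G] [Finite G] (W₁ W₂ S U W₂' : Subgroup G) (hW : Cfsg.IsSelfNormalizingCyclic W₁ W₂)
    (hSW : Cfsg.IsComplIn ⁅S, S⁆ W₁ S) (hW₂S : W₂ ≤ S) (hP : Cfsg.IsTypePWith S W₁ U W₂') :
    W₂' = W₂ := by
  obtain ⟨h1, h2, h3, h4, h5, h6⟩ := hW
  obtain ⟨-, -, k3, k4, k5, -⟩ := hP.selfNormalizing
  obtain ⟨x, x1, x2⟩ := (W₁.bot_or_exists_ne_one).resolve_left h1
  obtain ⟨y, y1, y2⟩ := (W₂.bot_or_exists_ne_one).resolve_left h2
  haveI := hP.W₁_cyclic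
  have c1 : W₁ ≤ centralizer {x} := fun a ha => mem_centralizer_singleton_iff.2 (comm_of_mem_of_isMulCommutative inferInstance ha x1)
  have l1 : W₂ ≤ W₁ ⊔ W₂' := fun b hb => by
    obtain ⟨k, hk, w, hw, rfl⟩ := hSW.2.2.2 b (hW₂S hb)
    refine mul_mem (mem_sup_right ((hP.W₂_centralizer x x1 x2).le ⟨hk, ?_⟩)) (mem_sup_left hw)
    exact (mul_mem_cancel_right (c1 hw)).1 (mem_centralizer_singleton_iff.2 (h4 x x1 _ hb).symm)
  have xy : x * y ∈ W₁ ⊔ W₂ := mul_mem (mem_sup_left x1) (mem_sup_right y1)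
  have e : W₁ ⊔ W₂ = W₁ ⊔ W₂' := by
    refine (sup_le le_sup_left l1).antisymm (le_trans (fun g hg => ?_) (h6 {x * y} ?_ (Set.singleton_nonempty _)).le)
    · exact centralizer_le_normalizer _ (mem_centralizer_singleton_iff.2 (comm_of_mem_of_isMulCommutative inferInstance hg (sup_le le_sup_left l1 xy)))
    · rintro _ rfl
      refine ⟨xy, fun h => h.elim (fun h => y2 (h3.le ⟨(mul_mem_cancel_left x1).1 h, y1⟩)) fun h => x2 (h3.le ⟨x1, (mul_mem_cancel_right y1).1 h⟩)⟩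
  refine PGrp.eq_of_card_eq_of_isCyclic k5 le_sup_right l1 (Nat.eq_of_mul_eq_mul_right (Nat.card_pos (α := W₁)) ?_)
  rw [← Coprime.card_sup_of_disjoint' (fun a ha => cent_le_norm W₂' fun b hb => (k4 a ha b hb).symm) (inf_comm W₁ _ ▸ k3), sup_comm, ← e, sup_comm,
    Coprime.card_sup_of_disjoint' (fun a ha => cent_le_norm W₂ fun b hb => (h4 a ha b hb).symm) (inf_comm W₁ _ ▸ h3)]

end Cfsg.Agent.S1386
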