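import Cfsg.Statements.S1387
import Cfsg.Agent.Lib.BG3.Fcore

set_option autoImplicit false
open Cfsg

open Subgroup Cfsg.Lib
open scoped commutatorElement
open Cfsg.Lib.Amalg Cfsg.Lib.BG1 Cfsg.Lib.BG3
namespace Cfsg.Agent.S1387

theorem aux {G : Type*} [Group G] [Finite G] {M W₁ U W₂ : Subgroup G} (h : IsTypePWith M W₁ U W₂) : U ⊓ fittingOf M = U ⊓ 𝐂 (fittingHallOf M) := by
  have c := fcore_coprime M
  rw [← relIndex_mul_relIndex _ _ _ h.U_compl.1 h.W₁_compl.1, relIndex_of_isComplIn h.U_compl] at c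
  refine le_antisymm (le_inf inf_le_left ?_) (le_inf inf_le_left ?_)
  · exact le_cent_of_coprime_of_nilpotent (fittingOf_nilpotent M) inf_le_right (fcore_le_fitting M)
      (c.coprime_mul_right_right.symm.coprime_dvd_left (card_dvd_of_le inf_le_left))
  · rw [← h.fitting_eq]
    exact le_sup_of_le_right (inf_le_inf_right _ (h.U_compl.2.1.trans h.W₁_compl.1))

/-- Let M be a subgroup of a finite group G with type-P data (W₁, U, W₂) and H = M_F. Then the Fitting subgroup F(M) is generated by H and the centralizer of H in U. -/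
theorem result {G : Type*} [Group G] [Finite G] (M W₁ U W₂ : Subgroup G) (hP : Cfsg.IsTypePWith M W₁ U W₂) :
    Cfsg.fittingOf M = Cfsg.fittingHallOf M ⊔ (U ⊓ Subgroup.centralizer (Cfsg.fittingHallOf M : Set G)) := by
  rw [← aux hP, ← sup_inf_of_le_normalizer' (fcore_le_fitting M) ((hP.U_compl.2.1.trans hP.W₁_compl.1).trans (le_norm_fcore_self M)),
    sup_eq_of_isComplIn hP.U_compl, inf_eq_right.2 hP.fitting_le]

end Cfsg.Agent.S1387
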