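import Cfsg.Statements.S1388
import Cfsg.Agent.Lib.BG3.Fcore
import Cfsg.Agent.S1387

set_option autoImplicit false
open Cfsg

open Subgroup Cfsg.Lib
open scoped commutatorElement
open Cfsg.Lib.Amalg Cfsg.Lib.BG1 Cfsg.Lib.BG3
namespace Cfsg.Agent.S1388

/-- Let M be a subgroup of a finite group G with type-P data (W₁, U, W₂) and H = M_F. Then the derived subgroup of U centralizes H, and if U ≠ 1 then U does not centralize H. -/
theorem result {G : Type*} [Group G] [Finite G] (M W₁ U W₂ : Subgroup G) (hP : Cfsg.IsTypePWith M W₁ U W₂) :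
    ⁅U, U⁆ ≤ Subgroup.centralizer (Cfsg.fittingHallOf M : Set G) ∧ (U ≠ ⊥ → ¬ U ≤ Subgroup.centralizer (Cfsg.fittingHallOf M : Set G)) := by
  have hU := hP.U_compl.2.1
  refine ⟨le_trans (le_inf (comm_le_of_le le_rfl le_rfl) ?_) ((S1387.aux hP).le.trans inf_le_right), fun h hc => ?_⟩
  · rw [← hP.fitting_eq]
    exact (commutator_mono hU hU).trans hP.derived_two_le
  have e := S1387.result M W₁ U W₂ hP
  rw [inf_eq_left.2 hc, sup_eq_of_isComplIn hP.U_compl] at e
  have c := hP.W₁_hall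
  rw [relIndex_of_isComplIn' hP.W₁_compl] at c
  have : ⁅M, M⁆ ≤ fittingHallOf M := le_fcore hP.W₁_compl.1 (left_le_normalizer_comm M M) (e ▸ fittingOf_nilpotent M)
    (by rw [relIndex_of_isComplIn hP.W₁_compl]; exact c.symm)
  exact h (by rw [← hP.U_compl.2.2.1, inf_eq_right.2 (hU.trans this)])

end Cfsg.Agent.S1388
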