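import Cfsg.Statements.S1451
import Cfsg.Agent.Lib.BG1.Top

set_option autoImplicit false
open Cfsg

namespace Cfsg.Agent.S1451

open Cfsg.Lib

/-- Let G be a solvable group of odd order such that G, or its Fitting subgroup, has no elementary abelian subgroup of order q ^ 3 for any prime q. Then G' is nilpotent; for every Sylow subgroup S of G, every characteristic subgroup T of S with T ≤ [S, S] is normal in G; and for every prime p, G has a characteristic subgroup that is a Hall subgroup for the set of primes greater than p. -/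
theorem result {G : Type*} [Group G] [Finite G] [Group.IsSolvable G] (hodd : Odd (Nat.card G)) (hr : Cfsg.RankLE 2 G ∨ Cfsg.RankLE 2 (Cfsg.fittingSubgroup G)) :
    Group.IsNilpotent ↥(commutator G) ∧
      (∀ (q : ℕ) [Fact q.Prime] (S : Sylow q G) (T : Subgroup ↥(S : Subgroup G)), T.Characteristic → T.map (S : Subgroup G).subtype ≤ ⁅(S : Subgroup G), (S : Subgroup G)⁆ →
        (T.map (S : Subgroup G).subtype).Normal) ∧
      ∀ p : ℕ, ∃ N : Subgroup G, N.Characteristic ∧ Cfsg.IsPiHall {q | q.Prime ∧ p < q} N := by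
  have hr' : Cfsg.RankLE 2 (Cfsg.fittingOf (⊤ : Subgroup G)) := by
    rw [Core.fittingOf_top]
    exact hr.elim (fun h p hp => PGrp.pRankLE_subgroup (h p hp) _) id
  have ho := BG1.odd_card_top hodd
  refine ⟨BG1.nilpotent_of_le (BG1.rank2_der_le_fitting BG1.solvable_top2 ho hr') (BG1.fittingOf_nilpotent _),
    fun q _ S T hT h => ?_, fun p => ⟨Cfsg.piCore {q | p + 1 ≤ q} G, Core.piCore_characteristic _ _, ?_⟩⟩
  · exact Subgroup.normalizer_eq_top_iff.1 (top_le_iff.1
      (BG1.rank2_char_sylow_normal BG1.solvable_top2 ho hr' (Amalg.syl_top S) T h))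
  · have h := BG1.rank2_ge_core_hall BG1.solvable_top2 ho hr' (p + 1)
    rw [BG1.piCoreOf_top'] at h
    exact ⟨fun q hq hd => ⟨hq, h.2.1 q hq hd⟩, fun q hq hq' => by
      rw [← Subgroup.relIndex_top_right]; exact h.2.2 q hq hq'.2⟩

end Cfsg.Agent.S1451
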