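import Cfsg.Statements.S1454
import Cfsg.Agent.Lib.BG1.Top

set_option autoImplicit false
open Cfsg

namespace Cfsg.Agent.S1454

open Cfsg.Lib Cfsg.Lib.BG1 Subgroup

/-- Let G be a finite group, p an odd prime, R a narrow p-subgroup and A a solvable subgroup of odd order normalizing R with A ∩ C_G(R) = 1. Then [A, A] ≤ O_p(A) and the index of O_p(A) in A is coprime to p; if R has an elementary abelian subgroup of order p ^ 3 then the order of every element of A of order coprime to p divides p − 1; and if the order of A is a prime not dividing p(p − 1), then 2·#A divides p + 1, and if in addition [R, A] = R and R is non-abelian then #R = p ^ 3. -/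
theorem result {G : Type*} [Group G] [Finite G] (p : ℕ) [Fact p.Prime] (hp : p ≠ 2) (R A : Subgroup G) (hR : IsPGroup p R) (hRn : Cfsg.IsNarrow p R)
    (hA : (A ≤ Subgroup.normalizer (R : Set G))) (hAs : Group.IsSolvable A) (hAodd : Odd (Nat.card A)) (hfaith : A ⊓ Subgroup.centralizer (R : Set G) = ⊥) :
    (commutator ↥A ≤ Cfsg.pCore p ↥A ∧ ((Cfsg.pCore p ↥A).index).Coprime p) ∧
      (¬ Cfsg.PRankLE p 2 R → ∀ a ∈ A, (orderOf a).Coprime p → orderOf a ∣ p - 1) ∧
      ((Nat.card A).Prime → ¬ Nat.card A ∣ p * (p - 1) →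
        2 * Nat.card A ∣ p + 1 ∧ (⁅R, A⁆ = R → ¬ IsMulCommutative R → Nat.card R = p ^ 3)) := by
  have hp' : p.Prime := Fact.out
  refine ⟨?_, fun hr a ha hc => ?_, fun hq hd => aut_narrow_prime hp' hp hR hRn hA hq hAodd (fun h => ?_) hd⟩
  · obtain ⟨n, h⟩ := aut_narrow_der hp' hp hR hRn hA hAodd
    have h1 : ⁅A, A⁆ ≤ 𝐎[p](A) := by
      refine le_pCoreOf' hp' (commutator_le_self A) (le_norm_der le_normalizer)
        (isPGroup_of_relIndex_eq_pow h (IsPGroup.of_bot.to_le ?_))
      rw [← hfaith]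
      exact le_inf (inf_le_right.trans (commutator_le_self A)) inf_le_left
    obtain ⟨S, hS⟩ := Amalg.exists_syl p A
    have h2 : S ≤ 𝐎[p](A) := le_pCoreOf' hp' hS.le (le_norm_of_der_le (h1.trans (pCoreOf_le_syl hS)) hS.le) hS.isPGroup
    have h3 := hS.not_dvd_relIndex_of_le h2
    rw [← map_pCore_subtype hp'] at h1 h3
    rw [← map_commutator_subtype, map_le_map_iff_of_injective (subtype_injective _)] at h1
    rw [relIndex, Core.subgroupOf_map_subtype_self] at h3
    exact ⟨h1, (Core.coprime_iff_not_dvd hp').2 h3⟩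
  · have h1 := aut_narrow_pow' hp' hp hR hRn hr (hA ha) ((Core.coprime_iff_not_dvd hp').1 hc)
    exact orderOf_dvd_of_pow_eq_one (mem_bot.1 (hfaith ▸ mem_inf.2 ⟨pow_mem ha _, h1⟩))
  · rw [inf_eq_left.2 h] at hfaith
    rw [hfaith, card_bot] at hq
    exact Nat.not_prime_one hq

end Cfsg.Agent.S1454
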