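import Cfsg.Statements.S1458
import Cfsg.Agent.Lib.Glaub.ZJ
import Cfsg.Agent.Lib.Core.UpperP
import Cfsg.Agent.Lib.Core.PSolvable

set_option autoImplicit false
open Cfsg

open Subgroup Cfsg.Lib
open scoped commutatorElement
open Amalg Glaub
namespace Cfsg.Agent.S1458

/-- Let G be a solvable group of odd order, p a prime and S a Sylow p-subgroup of G. Then the subgroup generated by the centre of the Thompson subgroup of S and O_{p'}(G) is normal in G. -/
theorem result {G : Type*} [Group G] [Finite G] [Group.IsSolvable G] (hodd : Odd (Nat.card G)) (p : ℕ) [Fact p.Prime] (S : Sylow p G) :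
    (Cfsg.centerThompsonOf p (S : Subgroup G) ⊔ Cfsg.pPrimeCore p G).Normal := by
  have : Fact (Nat.Prime 2) := ⟨Nat.prime_two⟩
  have h2 {H : Type _} [Group H] [Finite H] (h : Odd (Nat.card H)) {T : Subgroup H} (hT : IsPGroup 2 T) : T = ⊥ :=
    isPGroup_eq_bot_of_not_dvd hT le_top (by rw [card_top]; exact h.not_two_dvd_nat)
  by_cases hp : p = 2
  · subst hp
    rw [eq_bot_iff.2 (zj_le.trans (h2 hodd S.isPGroup').le), bot_sup_eq]; infer_instance
  have h := zj_fac hp (.inr rfl) (syl_top S) scl_self (charP_top.2 (Core.isPConstrained_iff.1 Core.isPConstrained_of_isSolvable))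
    fun V A a b c d e => by
      obtain ⟨T⟩ : Nonempty (Sylow 2 (𝐍 V)) := inferInstance
      refine (stab_of_sl2 hp (S.isPGroup'.to_le a) le_rfl (not_involves_sl2_of_syl_two hp (syl_top T) ?_)).le d e
      rw [h2 (hodd.of_dvd_nat (card_subgroup_dvd_card _)) T.isPGroup']; infer_instance
  refine normalizer_eq_top_iff.1 (top_unique (h.ge.trans (sup_le (le_normalizer_of_le le_sup_right)
    (Core.le_normalizer_sup le_rfl le_normalizer_of_normal'))))

end Cfsg.Agent.S1458
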