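import Cfsg.Statements.S1465
import Cfsg.Agent.Lib.BG1.AppA

set_option autoImplicit false
open Cfsg

open Cfsg.Lib.BG1 Cfsg.Lib.Amalg Cfsg.Lib.Core
namespace Cfsg.Agent.S1465

/-- Let p be an odd prime, G a solvable group of odd order, P a normal p-subgroup of G, and X the subgroup generated by a family of abelian p-subgroups of G each normalized by P. Then the image of X in G/C_G(P) lies in O_p(G/C_G(P)); and if O_{p'}(G) = 1 and O_p(G) ∩ C_G(P) ≤ P then X ≤ O_p(G). -/
theorem result {G : Type*} [Group G] [Finite G] [Group.IsSolvable G] (hodd : Odd (Nat.card G)) (p : ℕ) [Fact p.Prime] (hp : p ≠ 2) (P : Subgroup G) [P.Normal] (hP : IsPGroup p P)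
    (S : Set (Subgroup G)) (hS : ∀ B ∈ S, IsMulCommutative B ∧ IsPGroup p B ∧ P ≤ Subgroup.normalizer (B : Set G)) :
    (sSup S).map (QuotientGroup.mk' (Subgroup.centralizer (P : Set G))) ≤ Cfsg.pCore p (G ⧸ Subgroup.centralizer (P : Set G)) ∧
      (Cfsg.pPrimeCore p G = ⊥ → Cfsg.pCore p G ⊓ Subgroup.centralizer (P : Set G) ≤ P → sSup S ≤ Cfsg.pCore p G) := by
  have hp' : p.Prime := Fact.out
  have hn : ⊤ ≤ Subgroup.normalizer (P : Set G) := by rw [Subgroup.normalizer_eq_top]
  refine ⟨Subgroup.map_le_iff_le_comap.2 (sSup_le fun B hB => Subgroup.map_le_iff_le_comap.1 ?_), fun h1 h2 => sSup_le fun B hB => ?_⟩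
  · have h := odd_p_stable hp' hp ((QuotientGroup.mk' (Subgroup.centralizer (P : Set G))).comp (⊤ : Subgroup G).subtype) hP le_rfl hn
      (fun x hx => (mem_mker_iff hx.1).2 ((QuotientGroup.eq_one_iff _).2 hx.2)) (odd_top hodd) le_top
      (commutator_commutator_eq_bot_of_norm (hS B hB).2.2 (hS B hB).1)
    rwa [mim_restrict_top, mim_restrict_top, Subgroup.map_top_of_surjective _ (QuotientGroup.mk'_surjective _), op_top hp'] at h
  · rw [← op_top hp'] at h2 ⊢
    exact odd_abelian_le_pCoreOf hp' solvable_top (odd_top hodd) ((opp_top hp').trans h1) hP hn h2 le_top (hS B hB).2.1 (hS B hB).2.2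
      (hS B hB).1

end Cfsg.Agent.S1465
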