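import Cfsg.Statements.S1466
import Cfsg.Agent.Lib.BG1.Sec6a

set_option autoImplicit false
open Cfsg

open Cfsg.Lib.BG1 Cfsg.Lib.Amalg Cfsg.Lib.Core
namespace Cfsg.Agent.S1466

/-- Let p be a prime and R a nontrivial finite p-group. Then for every i > 0, Z(R) ≤ C_R(L_i(R)) ≤ L_i(R); likewise Z(R) ≤ C_R(L_*(R)) ≤ L_*(R) and Z(R) ≤ C_R(L(R)) ≤ L(R); and L(R) ≠ 1, L_*(R) ≠ 1. -/
theorem result {R : Type*} [Group R] [Finite R] (p : ℕ) [Fact p.Prime] (hR : IsPGroup p R) [Nontrivial R] :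
    (∀ i : ℕ, 0 < i → Subgroup.center R ≤ Subgroup.centralizer ((Cfsg.puigSeq R i : Subgroup R) : Set R) ∧
        Subgroup.centralizer ((Cfsg.puigSeq R i : Subgroup R) : Set R) ≤ Cfsg.puigSeq R i) ∧
      (Subgroup.center R ≤ Subgroup.centralizer ((Cfsg.puigLower R : Subgroup R) : Set R) ∧ Subgroup.centralizer ((Cfsg.puigLower R : Subgroup R) : Set R) ≤ Cfsg.puigLower R) ∧
      (Subgroup.center R ≤ Subgroup.centralizer ((Cfsg.puigSubgroup R : Subgroup R) : Set R) ∧ Subgroup.centralizer ((Cfsg.puigSubgroup R : Subgroup R) : Set R) ≤ Cfsg.puigSubgroup R) ∧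
      Cfsg.puigSubgroup R ≠ ⊥ ∧ Cfsg.puigLower R ≠ ⊥ := by
  have hp : p.Prime := Fact.out
  have hT : IsPGroup p (⊤ : Subgroup R) := hR.to_subgroup _
  have h1 := cent_puigLowOf_le hp hT
  have h2 := cent_puigOf_le hp hT
  rw [top_inf_eq, puigLowOf_top] at h1
  rw [top_inf_eq, puigOf_top] at h2
  have h3 : Subgroup.center R ≠ ⊥ := (Subgroup.nontrivial_iff_ne_bot _).1 hR.center_nontrivial
  refine ⟨fun i hi => ⟨Subgroup.center_le_centralizer _, ?_⟩, ⟨Subgroup.center_le_centralizer _, h1⟩, ⟨Subgroup.center_le_centralizer _, h2⟩,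
    fun h => h3 (eq_bot_iff.2 (((Subgroup.center_le_centralizer _).trans h2).trans h.le)),
    fun h => h3 (eq_bot_iff.2 (((Subgroup.center_le_centralizer _).trans h1).trans h.le))⟩
  obtain ⟨n, rfl⟩ := Nat.exists_eq_succ_of_ne_zero hi.ne'
  simpa [pSeq_top] using cent_pSeq_le hp hT n

end Cfsg.Agent.S1466
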