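import Cfsg.Statements.S1469
import Cfsg.Agent.Lib.BG1.Sec6a

set_option autoImplicit false
open Cfsg

open Cfsg.Lib.BG1 Cfsg.Lib.Amalg Cfsg.Lib.Core
namespace Cfsg.Agent.S1469

/-- Let p be an odd prime, G a solvable group of odd order and S a Sylow p-subgroup, and let Z be the centre of the Puig subgroup L(S), viewed inside G. Then G is generated by O_{p'}(G) and N_G(Z); and if O_{p'}(G) = 1 then Z is normal in G. -/
theorem result {G : Type*} [Group G] [Finite G] [Group.IsSolvable G] (hodd : Odd (Nat.card G)) (p : ℕ) [Fact p.Prime] (hp : p ≠ 2) (S : Sylow p G) :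
    Cfsg.pPrimeCore p G ⊔ Subgroup.normalizer ((((Subgroup.center ↥(Cfsg.puigSubgroup ↥(S : Subgroup G))).map (Cfsg.puigSubgroup ↥(S : Subgroup G)).subtype).map (S : Subgroup G).subtype : Subgroup G) : Set G) = ⊤ ∧
      (Cfsg.pPrimeCore p G = ⊥ → (((Subgroup.center ↥(Cfsg.puigSubgroup ↥(S : Subgroup G))).map (Cfsg.puigSubgroup ↥(S : Subgroup G)).subtype).map (S : Subgroup G).subtype).Normal) := by
  have hp' : p.Prime := Fact.out
  have e : ((Subgroup.center ↥(Cfsg.puigSubgroup ↥(S : Subgroup G))).map (Cfsg.puigSubgroup ↥(S : Subgroup G)).subtype).map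
      (S : Subgroup G).subtype = zPuig (S : Subgroup G) := by
    ext x
    constructor
    · rintro ⟨_, ⟨z, hz, rfl⟩, rfl⟩
      refine ⟨⟨z, z.2, rfl⟩, ?_⟩
      rintro _ ⟨y, hy, rfl⟩
      exact congrArg (fun t => t.1.1) (Subgroup.mem_center_iff.1 hz ⟨y, hy⟩)
    · rintro ⟨⟨z, hz, rfl⟩, h⟩
      exact ⟨z, ⟨⟨z, hz⟩, Subgroup.mem_center_iff.2 fun y => Subtype.ext (Subtype.ext (h _ ⟨y.1, y.2, rfl⟩)), rfl⟩, rfl⟩
  rw [e, ← opp_top hp']
  refine ⟨?_, fun h => normal_of_top_le_normalizer (puig_center_normal solvable_top (odd_top hodd) (syl_top S) h)⟩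
  simpa using puig_factorization solvable_top (odd_top hodd) (syl_top S)

end Cfsg.Agent.S1469
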