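import Cfsg.Statements.S1474
import Cfsg.Agent.Lib.BG3.Fcore
import Cfsg.Agent.Lib.BG3.CN
import Cfsg.Agent.Lib.Coprime.FrobCompl
import Cfsg.Agent.Lib.Coprime.FrobKernel

set_option autoImplicit false
open Cfsg

open Subgroup Cfsg.Lib
open scoped commutatorElement
open Cfsg.Lib.Amalg Cfsg.Lib.BG3
namespace Cfsg.Agent.S1474

theorem cent_le {G : Type*} [Group G] [Finite G] (h : IsCNGroup G) (N : Subgroup G) [N.Normal] (hN : N ≠ ⊥) : 𝐂 N ≤ fittingSubgroup G := by
  obtain ⟨x, x1, x2⟩ := N.bot_or_exists_ne_one.resolve_left hN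
  exact Core.le_fitting (CN.nilpotent_of_le h x2 (centralizer_le (Set.singleton_subset_iff.2 x1)))

theorem fh (G : Type*) [Group G] [Finite G] : fittingHallOf (⊤ : Subgroup G) = fittingHall G := by
  obtain ⟨h1, h2, h3⟩ := fcore_prop (⊤ : Subgroup G)
  exact le_antisymm (le_sSup ⟨normal_of_top_le_normalizer h1, h2, relIndex_top_right (G := G) _ ▸ h3⟩)
    (sSup_le fun N hN => le_fcore le_top (haveI := hN.1; le_normalizer_of_normal') hN.2.1 (by rw [relIndex_top_right]; exact hN.2.2))

theorem syl_le {G : Type*} [Group G] [Finite G] {p : ℕ} [Fact p.Prime] {P : Subgroup G} (h : Syl p P ⊤) (hn : P.Normal) : P ≤ fittingHall G :=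
  le_sSup ⟨hn, h.isPGroup.isNilpotent, BG1.coprime_of_isPGroup_of_not_dvd Fact.out h.isPGroup h.not_dvd_index⟩

/-- Let G be a finite group in which every non-identity element has nilpotent centralizer, not itself nilpotent, and having a nontrivial normal Sylow p-subgroup for some prime p. Let H be the largest normal nilpotent Hall subgroup of G. Then H is a nontrivial proper normal subgroup with a complement E that is a Frobenius complement in G (no non-identity element of E centralizes a non-identity element of H), and G/H is nilpotent. -/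
theorem result {G : Type*} [Group G] [Finite G] (hCN : Cfsg.IsCNGroup G) (hnn : ¬ Group.IsNilpotent G) (p : ℕ) [Fact p.Prime] (P : Sylow p G)
    (hP1 : (P : Subgroup G) ≠ ⊥) (hPn : (P : Subgroup G).Normal) :
    Cfsg.fittingHall G ≠ ⊥ ∧ Cfsg.fittingHall G ≠ ⊤ ∧
      (∃ E : Subgroup G, Subgroup.IsComplement' (Cfsg.fittingHall G) E ∧ Cfsg.IsFrobeniusComplement E ∧
        ∀ e ∈ E, e ≠ 1 → Cfsg.fittingHall G ⊓ Subgroup.centralizer ({e} : Set G) = ⊥) ∧
      Group.IsNilpotent (G ⧸ Cfsg.fittingHall G) := by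
  obtain ⟨-, h2, h3⟩ := fcore_prop (⊤ : Subgroup G)
  rw [fh, relIndex_top_right] at h3; rw [fh] at h2
  set H := fittingHall G
  have n1 : H ≠ ⊥ := fun e => hP1 (eq_bot_iff.2 ((syl_le (syl_top P) hPn).trans e.le))
  have n2 : H ≠ ⊤ := fun e => hnn (by rw [e] at h2; exact Group.nilpotent_of_mulEquiv topEquiv)
  obtain ⟨E, hE⟩ := exists_right_complement'_of_coprime h3
  have n3 : E ≠ ⊥ := by rintro rfl; exact n2 (by simpa using hE.sup_eq_top)
  have hf : Coprime.Fpf H E := Coprime.fpf_iff.2 fun e he e1 x hx ex => by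
    by_contra x1
    obtain ⟨k, hk⟩ := exists_prime_order_pow e1
    haveI := Fact.mk hk
    obtain ⟨Q, hQ, eQ⟩ := exists_syl_ge (isPGroup_zpowers_of_orderOf (pow_one (orderOf (e ^ k))).symm) le_top
    have := (CN.le_centralizer hCN hQ.isPGroup.isNilpotent h2 (BG1.coprime_of_isPGroup_of_not_dvd hk hQ.isPGroup fun d => hk.ne_one
      (Nat.eq_one_of_dvd_coprimes h3 d (hE.symm.index_eq_card ▸ E.orderOf_dvd_natCard (pow_mem he k)))) (eQ (mem_zpowers _))
      (ne_one_of_prime_orderOf hk) hx x1 (Commute.pow_left ex k)).trans (cent_le hCN H n1)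
    have e : Q = pCore _ G := (Core.le_pCore_of_le_fitting hk hQ.isPGroup this).antisymm hQ.pCore_le
    exact ne_one_of_prime_orderOf hk (hE.disjoint.le_bot ⟨syl_le hQ (e ▸ inferInstance) (eQ (mem_zpowers _)), pow_mem he k⟩)
  refine ⟨n1, n2, ⟨E, hE, Coprime.isFrobeniusComplement_of_fpf hf hE.sup_eq_top n1 n3, hf⟩, ?_⟩
  obtain ⟨y, -, y1, y2⟩ := hf.exists_central le_normalizer_of_normal' n1 n3
  haveI := CN.nilpotent_of_le hCN (H := E) (ne_one_of_prime_orderOf y1) fun e he => mem_centralizer_singleton_iff.2 (y2 e he)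
  exact Group.nilpotent_of_mulEquiv hE.symm.QuotientMulEquiv.symm

end Cfsg.Agent.S1474
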