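import Cfsg.Statements.S1476
import Cfsg.Agent.Lib.BG3.Fcore
import Cfsg.Agent.Lib.BG3.CN
import Cfsg.Agent.Lib.Coprime.FrobCompl
import Cfsg.Agent.Lib.Coprime.FrobKernel
import Cfsg.Agent.Lib.Hall.Camina
import Cfsg.Agent.Lib.Hall.System
import Cfsg.Agent.Lib.Clifford.Fixed
import Cfsg.Agent.Lib.BG1.Sec1
import Cfsg.Agent.S1474

set_option autoImplicit false
open Cfsg

open Subgroup Cfsg.Lib
open scoped commutatorElement
open Cfsg.Lib.Amalg Cfsg.Lib.BG3 Cfsg.Lib.BG1
namespace Cfsg.Agent.S1476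

theorem nil {G : Type*} [Group G] [Finite G] (h : IsCNGroup G) {K E : Subgroup G} [K.Normal] (hf : Coprime.Fpf K E) (hK : K ≠ ⊥) : Group.IsNilpotent E := by
  by_cases hE : E = ⊥
  · rw [hE]; infer_instance
  obtain ⟨y, -, y1, y2⟩ := hf.exists_central le_normalizer_of_normal' hK hE
  exact CN.nilpotent_of_le h (ne_one_of_prime_orderOf y1) fun e he => mem_centralizer_singleton_iff.2 (y2 e he)

theorem cyc {G : Type*} [Group G] [Finite G] (h : IsCNGroup G) {K E : Subgroup G} [K.Normal] (hf : Coprime.Fpf K E) (hK : K ≠ ⊥) (ho : Odd (Nat.card E)) : IsCyclic E :=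
  haveI := nil h hf hK
  haveI := hf.isZGroup le_normalizer_of_normal' hK ho
  inferInstance

/-- Let G be a finite solvable group in which every non-identity element has nilpotent centralizer. Then either G is nilpotent; or G has a normal subgroup K with a Frobenius complement E (K E = G, K ∩ E = 1, E meets its conjugates by outside elements trivially) such that E is cyclic or E is generated by two elementwise-commuting subgroups, one cyclic of odd order and one isomorphic to a generalized quaternion group; or G is a three-step group with respect to some prime p. -/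
theorem result {G : Type*} [Group G] [Finite G] [Group.IsSolvable G] (hCN : Cfsg.IsCNGroup G) :
    Group.IsNilpotent G ∨
      (∃ K E : Subgroup G, K.Normal ∧ Subgroup.IsComplement' K E ∧ Cfsg.IsFrobeniusComplement E ∧
        (IsCyclic E ∨ ∃ C Q : Subgroup G, C ⊔ Q = E ∧ (∀ a ∈ C, ∀ b ∈ Q, a * b = b * a) ∧ IsCyclic C ∧ Odd (Nat.card C) ∧
          ∃ n : ℕ, Nonempty (↥Q ≃* QuaternionGroup (2 ^ n)))) ∨
      ∃ p : ℕ, p.Prime ∧ Cfsg.IsThreeStepGroup p G := by
  refine or_iff_not_imp_left.2 fun hn => ?_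
  by_cases h : ∃ p : ℕ, p.Prime ∧ pCore p G ≠ ⊥ ∧ Syl p (pCore p G) ⊤
  · obtain ⟨p, hp, h1, h2⟩ := h
    haveI := Fact.mk hp
    obtain ⟨n1, -, ⟨E, e1, e2, e3⟩, -⟩ := S1474.result hCN hn p h2.toSylowTop h1 (inferInstanceAs (pCore p G).Normal)
    refine .inl ⟨_, E, inferInstance, e1, e2, ?_⟩
    have s := piCoreOf_sup_compl_of_nilpotent {2}ᶜ (nil hCN e3 n1)
    have c := piCoreOf_le_cent_compl {2}ᶜ E
    rw [compl_compl] at s c
    have o : Odd (Nat.card (piCoreOf {2}ᶜ E)) := Nat.not_even_iff_odd.1 (mt even_iff_two_dvd.1 (not_dvd_card_pPrimeCoreOf Nat.prime_two E))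
    have cy := cyc hCN (Coprime.Fpf.mono e3 le_rfl (piCoreOf_le' {2}ᶜ E)) n1 o
    rcases Hall.cyclic_or_quaternion_of_abelian (pgroup_pCoreOf Nat.prime_two E) (fun A hA => by
      haveI : IsMulCommutative (A.map (piCoreOf {2} E).subtype) := inferInstance
      have := (Coprime.Fpf.mono e3 le_rfl ((map_subtype_le A).trans (piCoreOf_le' {2} E))).isCyclic_of_comm le_normalizer_of_normal' n1
      exact isCyclic_of_surjective _ (A.equivMapOfInjective _ (subtype_injective _)).symm.surjective) with q | ⟨-, q⟩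
    · exact .inl (s ▸ Clifford.isCyclic_sup_of_coprime cy q (fun a ha b hb => (c ha b hb).symm)
        (coprime_of_isPGroup_of_not_dvd Nat.prime_two (pgroup_pCoreOf Nat.prime_two E) (not_dvd_card_pPrimeCoreOf Nat.prime_two E)).symm)
    exact .inr ⟨_, _, s, fun a ha b hb => (c ha b hb).symm, cy, o, q⟩
  push Not at h
  haveI : Nontrivial G := not_subsingleton_iff_nontrivial.1 fun _ => hn inferInstance
  obtain ⟨p, hp, h1⟩ := Core.exists_pCore_ne_bot_of_solvable (G := G)
  haveI := Fact.mk hp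
  refine .inr ⟨p, hp, h1, ?_⟩
  set H := pCore p G
  have hH : IsPGroup p H := Core.isPGroup_pCore p G
  have hF : fittingSubgroup G ≤ H := Core.fitting_le_of_forall_pCore_le fun q hq => by
    by_cases e : q = p
    · rw [e]
    by_contra h2
    have h3 : pCore q G ≠ ⊥ := fun e => h2 (e ▸ bot_le)
    haveI := Fact.mk hq
    obtain ⟨P, hP⟩ := exists_syl p (⊤ : Subgroup G)
    obtain ⟨x, x1, x2⟩ := H.bot_or_exists_ne_one.resolve_left h1
    obtain ⟨y, y1, y2⟩ := (pCore q G).bot_or_exists_ne_one.resolve_left h3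
    have hQ := Core.isPGroup_pCore q G
    have c (T : Subgroup G) (hT : IsPGroup p T) : (Nat.card T).Coprime (Nat.card (pCore q G)) := IsPGroup.coprime_card_of_ne p q (Ne.symm e) _ _ hT hQ
    have := (CN.le_centralizer hCN hP.isPGroup.isNilpotent hQ.isNilpotent (c P hP.isPGroup) (hP.pCore_le x1) x2 y1 y2
      (le_cent_of_coprime_of_norm le_normalizer_of_normal' le_normalizer_of_normal' (c H hH) x1 y y1).symm).trans (S1474.cent_le hCN _ h3)
    exact h p hp h1 ((Core.le_pCore_of_le_fitting hp hP.isPGroup this).antisymm hP.pCore_le ▸ hP)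
  obtain ⟨D, hD⟩ := exists_hall {p}ᶜ (Core.isSolvable_top_iff.2 ‹Group.IsSolvable G›)
  have d1 : ¬ p ∣ Nat.card D := (isPi_compl_iff_not_dvd hp).1 (isPi_of_hall hD)
  have hf : Coprime.Fpf H D := Coprime.fpf_iff.2 fun e he e1 x hx ex => by
    by_contra x1
    have := (CN.le_centralizer hCN (Core.isNilpotent_of_isMulCommutative (zpowers e)) hH.isNilpotent (coprime_of_isPGroup_of_not_dvd hp hH (not_dvd_card_of_le (zpowers_le.2 he) d1)).symm
      (mem_zpowers e) e1 hx x1 ex).trans ((S1474.cent_le hCN H h1).trans hF)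
    exact e1 ((inf_eq_bot_of_isPGroup_of_not_dvd hp hH d1).le ⟨this (mem_zpowers e), he⟩)
  set f := QuotientGroup.mk' H
  have hk : f.ker = H := QuotientGroup.ker_mk' _
  have hs : Function.Surjective f := QuotientGroup.mk'_surjective _
  have cn := CN.quotient hCN H inferInstance
  set F := fittingSubgroup (G ⧸ H) with hFd
  haveI : F.Normal := Core.fitting_normal _
  have f1 : ¬ p ∣ Nat.card F := not_dvd_card_of_le (Core.fitting_le_pPrimeCore_of_pCore_eq_bot hp Core.pCore_quotient_pCore) (Core.not_dvd_card_pPrimeCore hp)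
  have f0 : F ≠ ⊤ := fun e => h p hp h1 (syl_of_not_dvd le_top hH (by rw [e, card_top] at f1; rwa [relIndex_top_right]))
  have f2 : F ≠ ⊥ := fun e => f0 (top_unique (le_trans (by rw [← hFd, e, Amalg.centralizer_bot]) (Core.centralizer_fitting_le (G := G ⧸ H))))
  have hD' := Hall.isPiHallOf_map hD f
  rw [map_top_of_surjective f hs] at hD'
  have f3 : F ≤ D.map f := le_hall_of_norm hD' le_top le_normalizer_of_normal' ((isPi_compl_iff_not_dvd hp).2 f1)
  have inj : ∀ d ∈ D, f d = 1 → d = 1 := fun d hd e => (inf_eq_bot_of_isPGroup_of_not_dvd hp hH d1).le ⟨hk.le e, hd⟩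
  have f4 : (D ⊓ F.comap f).map f = F := le_antisymm (map_le_iff_le_comap.2 inf_le_right) fun y hy => by obtain ⟨d, d1, rfl⟩ := f3 hy; exact ⟨d, ⟨d1, hy⟩, rfl⟩
  have f5 : Odd (Nat.card ↥(D ⊓ F.comap f)) := Nat.not_even_iff_odd.1 fun e => by
    obtain ⟨s, s1, s2, s3⟩ := Coprime.exists_involution_of_two_dvd (even_iff_two_dvd.1 e)
    have s4 : f s ≠ 1 := mt (inj s s1.1) s2
    haveI := CN.nilpotent_of_le cn (H := ⊤) s4 fun g _ => mem_centralizer_singleton_iff.2 (by
      obtain ⟨t, t1, t2⟩ := f3 (‹F.Normal›.conj_mem _ s1.2 g)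
      have : t = s := hf.involution_unique le_normalizer_of_normal' h1 s1.1 t1 s2 (fun e => s4 (by simpa [e] using t2.symm)) s3
        (inj _ (mul_mem t1 t1) (by rw [map_mul, t2, ← sq, conj_pow, ← map_pow, sq, s3]; simp))
      rw [this] at t2; exact mul_inv_eq_iff_eq_mul.1 t2.symm)
    exact f0 (top_unique (Core.le_fitting this))
  have f6 : IsCyclic F := by
    have := cyc hCN (hf.mono le_rfl inf_le_left) h1 f5
    rw [← f4]; exact isCyclic_of_surjective _ (f.subgroupMap_surjective _)
  have f7 : D.map f = F := by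
    haveI : (D.map f).Normal := normal_of_top_le_normalizer (le_normalizer_of_comm_le ((commutator_mono le_top le_rfl).trans
      ((der_norm_le_cent_of_cyclic f6 le_normalizer_of_normal').trans (Core.centralizer_fitting_le.trans f3))))
    haveI := nil hCN hf h1
    exact (Core.le_fitting (Core.isNilpotent_map D f)).antisymm f3
  rw [inf_eq_left.2 (map_le_iff_le_comap.1 f7.le)] at f5
  have f8 : H ⊔ D = F.comap f := by rw [← f7, comap_map_eq, hk, sup_comm]
  obtain ⟨n, f9⟩ : ∃ n, F.index = p ^ n := by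
    have := isPi_relIndex_of_hall hD'
    rw [compl_compl, relIndex_top_right, f7] at this
    exact ⟨_, Nat.eq_prime_pow_of_unique_prime_dvd FiniteIndex.index_ne_zero fun hq hd => this _ hq hd⟩
  refine ⟨D, fun e => f2 (by rw [← f7, e, Subgroup.map_bot]), cyc hCN hf h1 f5, f5, ((Nat.Prime.coprime_iff_not_dvd hp).2 d1).symm, f8 ▸ inferInstance,
    fun e => f0 (by rw [← map_comap_eq_self_of_surjective hs F, ← f8, e, map_top_of_surjective f hs]), ⟨n, by rw [f8, index_comap_of_surjective _ hs, f9]⟩,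
    hf, fun x hx a ha a1 e => hx ?_⟩
  rw [f8, mem_comap]
  have c : Commute (f x) (f a) := show f x * f a = f a * f x by simpa [mul_inv_eq_iff_eq_mul] using (hk.ge e : f _ = 1)
  have a2 : f a ≠ 1 := mt (inj a ha) a1
  have a3 : f a ∈ F := f7.le (mem_map_of_mem f ha)
  obtain ⟨m, k, m1, m2⟩ := exists_pow_isPElt (p := p) (isOfFinOrder_of_finite (f x))
  refine mem_of_coprime_pows (m1.pow_right n) ?_ (f9 ▸ F.pow_index_mem _)
  by_cases e : f x ^ m = 1
  · rw [e]; exact one_mem _
  exact Core.centralizer_fitting_le (CN.le_centralizer cn (Core.isNilpotent_of_isMulCommutative (zpowers (f x ^ m))) (Core.isNilpotent_fitting _)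
    (coprime_of_isPGroup_of_not_dvd hp (isPGroup_zpowers_of_pow m2) f1) (mem_zpowers _) e a3 a2 (c.pow_left m) (mem_zpowers _))

end Cfsg.Agent.S1476
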