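import Cfsg.Statements.S1480
import Cfsg.Agent.Lib.BG2.Sec7a
import Cfsg.Agent.Lib.BG2.Rank
import Cfsg.Agent.Lib.Layer.Baer
import Cfsg.Agent.Lib.Hall.MaxNil
import Cfsg.Agent.Lib.Core.UpperP
import Cfsg.Agent.Lib.Transfer.Frobenius
import Cfsg.Agent.Lib.Coprime.Generation
import Cfsg.Agent.Lib.Coprime.PGroup

set_option autoImplicit false
open Cfsg

open Subgroup Cfsg.Lib
open scoped commutatorElement
open Cfsg.Lib.Core Cfsg.Lib.Amalg Cfsg.Lib.BG1 Cfsg.Lib.BG2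
namespace Cfsg.Agent.S1480

section
variable {G : Type*} [Group G] [Finite G] {p q : ℕ} [hp : Fact p.Prime]

/-- the elements centralizing `Z` and acting trivially on `P` modulo `Z` -/
def stab2 (P Z : Subgroup G) : Subgroup G where
  carrier := {g | g ∈ 𝐂 Z ∧ ∀ u ∈ P, ⁅g, u⁆ ∈ Z}
  one_mem' := ⟨one_mem _, fun u _ => by rw [commutatorElement_one_left]; exact one_mem _⟩
  mul_mem' := fun {g h} hg hh => ⟨mul_mem hg.1 hh.1, fun u hu => by
    have e : ⁅g * h, u⁆ = g * ⁅h, u⁆ * g⁻¹ * ⁅g, u⁆ := by simp only [commutatorElement_def]; group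
    have := (mem_centralizer_iff.1 hg.1) _ (hh.2 u hu)
    rw [e, ← this, mul_inv_cancel_right]
    exact mul_mem (hh.2 u hu) (hg.2 u hu)⟩
  inv_mem' := fun {g} hg => ⟨inv_mem hg.1, fun u hu => by
    have e : ⁅g⁻¹, u⁆ = g⁻¹ * ⁅g, u⁆⁻¹ * g := by simp only [commutatorElement_def]; group
    have := (mem_centralizer_iff.1 hg.1) _ (inv_mem (hg.2 u hu))
    rw [e, mul_assoc, this, inv_mul_cancel_left]
    exact inv_mem (hg.2 u hu)⟩

theorem solv {E : Subgroup G} (hE : IsPGroup p E) : Group.IsSolvable E := by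
  have := hE.isNilpotent
  infer_instance

theorem core {P E X : Subgroup G} (hP : IsPGroup p P) (hE : IsPGroup p E) (hX : (Nat.card X).Coprime p)
    (hEX : E ≤ 𝐍 X) (hEP : E ≤ 𝐍 P) (hXP : X ≤ 𝐍 P) (hC : P ⊓ 𝐂 E ≤ E) (h2 : p = 2 → ⁅P, E⁆ ≤ 𝐂 E) :
    X ≤ 𝐂 P := by
  have hXP' : (Nat.card X).Coprime (Nat.card P) := by
    obtain ⟨n, hn⟩ := hP.exists_card_eq
    rw [hn]; exact hX.pow_right n
  have h0 : P ⊓ 𝐂 E ≤ 𝐂 X := by
    refine comm_eq_bot_iff.1 (eq_bot_iff.2 ?_)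
    rw [← Subgroup.inf_eq_bot_of_coprime hXP'.symm]
    refine le_inf ?_ (comm_le_right ((hC.trans hEX)))
    exact (commutator_mono inf_le_left le_rfl).trans (comm_le_left hXP)
  by_cases hp2 : p = 2
  · have h3 : ⁅P, E⁆ ≤ P ⊓ 𝐂 E ⊓ 𝐂 X :=
      le_inf (le_inf (comm_le_left hEP) (h2 hp2)) ((le_inf (comm_le_left hEP) (h2 hp2)).trans h0)
    set Z := P ⊓ 𝐂 E ⊓ 𝐂 X with hZ
    have hEs : E ≤ stab2 P Z := fun e he =>
      ⟨Amalg.le_cent_symm (inf_le_left.trans inf_le_right : Z ≤ 𝐂 E) he, fun u hu => by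
        rw [← commutatorElement_inv]; exact inv_mem (h3 (commutator_mem_commutator hu he))⟩
    have hXZ : X ≤ 𝐂 Z := Amalg.le_cent_symm inf_le_right
    have hY : ⁅X, E⁆ ≤ stab2 P Z := by
      refine commutator_le.2 fun x hx e he => ?_
      rw [commutatorElement_def, mul_assoc _ x⁻¹]
      rw [show x * e * (x⁻¹ * e⁻¹) = (x * e * x⁻¹) * e⁻¹ by group]
      refine mul_mem ?_ (inv_mem (hEs he))
      refine ⟨mul_mem (mul_mem (hXZ hx) (hEs he).1) (inv_mem (hXZ hx)), fun u hu => ?_⟩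
      have hu' : x⁻¹ * u * x ∈ P := by
        have := (mem_normalizer_iff.1 (inv_mem (hXP hx)) u).1 hu
        rwa [inv_inv] at this
      have h4 := (hEs he).2 _ hu'
      have e1 : ⁅x * e * x⁻¹, u⁆ = x * ⁅e, x⁻¹ * u * x⁆ * x⁻¹ := by simp only [commutatorElement_def]; group
      have := (mem_centralizer_iff.1 (hXZ hx)) _ h4
      rw [e1, ← this, mul_inv_cancel_right]
      exact h4
    have hYX : ⁅X, E⁆ ≤ X := comm_le_left hEX
    have hYP : ⁅X, E⁆ ≤ 𝐂 P := by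
      refine Coprime.le_centralizer_of_commutator_le_centralizer (hYX.trans hXP)
        (Coprime.coprime_card_of_le hXP' hYX le_rfl) ?_
      refine commutator_le.2 fun u hu y hy => ?_
      have : ⁅u, y⁆ ∈ Z := by rw [← commutatorElement_inv]; exact inv_mem ((hY hy).2 u hu)
      exact centralizer_le (SetLike.coe_subset_coe.2 hYX) this.2
    -- `X = C_X(E) [X, E]`
    have hEX' : (Nat.card E).Coprime (Nat.card X) := by
      obtain ⟨n, hn⟩ := hE.exists_card_eq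
      rw [hn]; exact (hX.pow_right n).symm
    have h5 : X ⊓ 𝐂 E ≤ 𝐂 P :=
      Coprime.thompson_PxQ hE (Nat.Coprime.coprime_dvd_left (card_dvd_of_le inf_le_left) hX) hP
        (Amalg.le_cent_symm inf_le_right) hEP (inf_le_left.trans hXP)
        (h0.trans (centralizer_le (SetLike.coe_subset_coe.2 inf_le_left)))
    rw [← Coprime.commutator_sup_centralizer hEX hEX' (Or.inl (solv hE))]
    exact sup_le hYP h5
  · exact Layer.bender_AxB hp2 hX hE hP hEX hXP hEP fun x hx _ => h0 hx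

/-- the Thompson–Bender lemma -/
theorem tb (hc : IsPConstrained p G) {E X : Subgroup G} (hE : Syl p E (𝐂 E))
    (h2 : p = 2 → ∀ T : Subgroup G, IsPGroup p T → ⁅T, T⁆ ≤ 𝐂 T) (hX : (Nat.card X).Coprime p)
    (hEX : E ≤ 𝐍 X) : X ≤ pPrimeCore p G := by
  set N := pPrimeCore p G with hN
  set f := QuotientGroup.mk' N with hf
  have hs : Function.Surjective f := QuotientGroup.mk'_surjective N
  have hEc : IsMulCommutative E := le_centralizer_iff_isMulCommutative.1 hE.le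
  have hcop : (Nat.card E).Coprime (Nat.card N) := by
    obtain ⟨n, hn⟩ := hE.isPGroup.exists_card_eq
    rw [hn]; exact ((Core.coprime_card_pPrimeCore p G).symm).pow_left n
  have hE' : Syl p (E.map f) (𝐂 (E.map f)) := by
    have := hE.map f
    rwa [Coprime.map_mk'_centralizer N hcop (Or.inl (solv hE.isPGroup))] at this
  have hX' : (Nat.card (X.map f)).Coprime p := Nat.Coprime.coprime_dvd_left (card_map_dvd _ _) hX
  have hP := isPConstrained_iff.1 hc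
  have h := core (P := pCore p (G ⧸ N)) (E := E.map f) (X := X.map f) (Core.isPGroup_pCore _ _) hE'.isPGroup hX'
    ((map_mono hEX).trans (le_normalizer_map f)) le_normalizer_of_normal le_normalizer_of_normal
    (hE'.le_of_le_normalizer' ((Core.isPGroup_pCore _ _).to_le inf_le_left) inf_le_right
      (inf_le_right.trans (cent_le_norm _))) fun e => by
      obtain ⟨T, hT, hET⟩ := exists_syl_ge hE.isPGroup (le_top : E ≤ ⊤)
      have hT' := hT.map_top hs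
      have h3 : ⁅T.map f, T.map f⁆ ≤ 𝐂 (T.map f) := by
        have := comm_eq_bot_iff.2 (h2 e T hT.isPGroup)
        rw [← comm_eq_bot_iff, ← map_commutator, ← map_commutator, this, Subgroup.map_bot]
      exact (commutator_mono hT'.pCore_le (map_mono hET)).trans
        (h3.trans (centralizer_le (SetLike.coe_subset_coe.2 (map_mono hET))))
  have h6 : X.map f = ⊥ := isPGroup_eq_bot_of_not_dvd ((Core.isPGroup_pCore _ _).to_le (h.trans hP)) le_rfl
    ((Nat.Prime.coprime_iff_not_dvd hp.out).1 hX'.symm)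
  rwa [Subgroup.map_eq_bot_iff, QuotientGroup.ker_mk'] at h6

theorem tb' {H E X : Subgroup G} (hc : IsPConstrained p H) (hEH : E ≤ H) (hXH : X ≤ H) (hE : Syl p E (𝐂 E))
    (h2 : p = 2 → ∀ T : Subgroup G, IsPGroup p T → ⁅T, T⁆ ≤ 𝐂 T) (hX : (Nat.card X).Coprime p)
    (hEX : E ≤ 𝐍 X) : X ≤ 𝐎 {p}ᶜ H := by
  rw [opi_compl_singleton hp.out, ← map_subgroupOf_eq_of_le hXH]
  refine map_mono (tb hc (E := E.subgroupOf H) ?_ (fun e T hT => ?_) ?_ ?_)
  · rw [Core.centralizer_subgroupOf hEH, ← inf_subgroupOf_right (𝐂 E)]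
    exact (hE.of_le (le_inf hE.le hEH) inf_le_left).subgroupOf inf_le_right
  · have := comm_eq_bot_iff.2 (h2 e _ (Amalg.isPGroup_map_subtype_iff.2 hT))
    rw [← map_commutator, ← map_commutator, map_eq_bot_iff_of_injective _ H.subtype_injective] at this
    exact comm_eq_bot_iff.1 this
  · rwa [Nat.card_congr (subgroupOfEquivOfLe hXH).toEquiv]
  · rw [normalizer_subgroupOf hXH]; exact comap_mono hEX

theorem le_K {E Y : Subgroup G} (hE : Syl p E (𝐂 E)) (hY : Y ≤ 𝐂 E) (hc : (Nat.card Y).Coprime p) :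
    Y ≤ 𝐎 {p}ᶜ (𝐂 E) :=
  le_opi_of_hall (pnil_iff_hall.1 ((syl_iff_sylowIn.1 hE).pnil_of_normalizer_le_centralizer inf_le_left)) hY
    ((isPi_compl_singleton_iff_coprime hp.out).2 hc)

theorem main [hq : Fact q.Prime] (hqp : q ≠ p) {E A : Subgroup G} (hE : Syl p E (𝐂 E)) (hA : EAb p 3 E A)
    (htb : ∀ a ∈ A, a ≠ 1 → ∃ M : Subgroup G, (Nat.card M).Coprime p ∧ E ≤ 𝐍 M ∧
      ∀ X : Subgroup G, X ≤ 𝐂[a] → IsPGroup q X → E ≤ 𝐍 X → X ≤ M)
    {Q₁ Q₂ : Subgroup G} (h₁ : Q₁ ∈ maxInvSubgroups ⊤ E {q}) (h₂ : Q₂ ∈ maxInvSubgroups ⊤ E {q}) :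
    ∃ k ∈ 𝐎 {p}ᶜ (𝐂 E), Q₂ = cj k Q₁ := by
  induction hn : Nat.card G - Nat.card (Q₁ ⊓ Q₂ : Subgroup G) using Nat.strong_induction_on generalizing Q₁ Q₂ with
  | _ n ih =>
  by_cases e : Q₁ = Q₂
  · exact ⟨1, one_mem _, by rw [cj_one, e]⟩
  have hEc : IsMulCommutative E := le_centralizer_iff_isMulCommutative.1 hE.le
  set D := Q₁ ⊓ Q₂ with hD
  have l₁ : D < Q₁ := lt_of_le_of_ne inf_le_left fun h =>
    e (maxInv_max h₁ (maxInv_isPGroup h₂) (maxInv_norm h₂) (inf_eq_left.1 h)).symm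
  have l₂ : D < Q₂ := lt_of_le_of_ne inf_le_right fun h =>
    e (maxInv_max h₂ (maxInv_isPGroup h₁) (maxInv_norm h₁) (inf_eq_right.1 h))
  have hED : E ≤ 𝐍 D := le_normalizer_inf (maxInv_norm h₁) (maxInv_norm h₂)
  have hDq : IsPGroup q D := (maxInv_isPGroup h₁).to_le inf_le_left
  have nn : ∀ Q ∈ maxInvSubgroups ⊤ E {q}, E ≤ 𝐍 (Q ⊓ 𝐍 D : Subgroup G) := fun Q hQ =>
    le_normalizer_inf (maxInv_norm hQ) (le_normalizer_normalizer hED)
  have co : ∀ B X : Subgroup G, B ≤ E → IsPGroup q X → (Nat.card B).Coprime (Nat.card X) := fun B X hB hX =>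
    coprime_of_isPGroup_of_ne (hE.isPGroup.to_le hB) hX hqp.symm
  have k₁ := lt_inf_normalizer_of_lt (maxInv_isPGroup h₁) l₁
  have k₂ := lt_inf_normalizer_of_lt (maxInv_isPGroup h₂) l₂
  have q₁ : IsPGroup q (Q₁ ⊓ 𝐍 D : Subgroup G) := (maxInv_isPGroup h₁).to_le inf_le_left
  have q₂ : IsPGroup q (Q₂ ⊓ 𝐍 D : Subgroup G) := (maxInv_isPGroup h₂).to_le inf_le_left
  obtain ⟨B, hB, hB1⟩ : ∃ B, EAb p 2 A B ∧ ¬ Q₁ ⊓ 𝐍 D ⊓ 𝐂 B ≤ D := by
    by_contra h
    push Not at h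
    have := hA.comm
    refine k₁.not_ge (Coprime.le_of_forall_hyperplane hA.elem.2 hA.ne_bot (hA.le.trans (nn _ h₁))
      (co _ _ hA.le q₁) fun B hB hi => ?_)
    refine h B ⟨hB, elem_of_le hA.elem hB, ?_⟩
    have := Core.card_mul_relIndex hB
    rw [hi, hA.card, pow_succ] at this
    exact Nat.eq_of_mul_eq_mul_right hp.out.pos this
  obtain ⟨a, ha, ha1, ha2⟩ : ∃ a ∈ B, a ≠ 1 ∧ ¬ Q₂ ⊓ 𝐍 D ⊓ 𝐂[a] ≤ D := by
    by_contra h
    push Not at h
    have := hB.comm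
    exact k₂.not_ge (Coprime.le_of_forall_centralizer_le hB.not_isCyclic ((hB.le.trans hA.le).trans (nn _ h₂))
      (co _ _ (hB.le.trans hA.le) q₂) h)
  have ha1' : ¬ Q₁ ⊓ 𝐍 D ⊓ 𝐂[a] ≤ D := fun h =>
    hB1 ((inf_le_inf_left _ (centralizer_le_centralizer_singleton ha)).trans h)
  obtain ⟨M, hMc, hEM, hM⟩ := htb a (hB.le ha) ha1
  have hEa : E ≤ 𝐂[a] := le_centralizer_singleton_iff.2 (hE.le (hA.le (hB.le ha)))
  set L := D ⊔ (M ⊓ 𝐍 D) with hL
  have hnL : E ≤ 𝐍 L := le_normalizer_sup hED (le_normalizer_inf hEM (le_normalizer_normalizer hED))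
  have hLp : (Nat.card L).Coprime p := by
    refine (isPi_compl_singleton_iff_coprime hp.out).1 (IsPi.sup' (isPi_of_isPGroup hDq hqp) ?_ inf_le_right)
    exact ((isPi_compl_singleton_iff_coprime hp.out).2 hMc).of_le inf_le_left
  have hcL : (Nat.card E).Coprime (Nat.card L) := by
    obtain ⟨n, hn⟩ := hE.isPGroup.exists_card_eq
    rw [hn]; exact hLp.symm.pow_left n
  have syl : ∀ Q ∈ maxInvSubgroups ⊤ E {q}, D ≤ Q → ¬ Q ⊓ 𝐍 D ⊓ 𝐂[a] ≤ D →
      ∃ X R, D < X ∧ X ≤ Q ∧ X ≤ R ∧ Syl q R L ∧ E ≤ 𝐍 R := fun Q hQ hDQ h0 => by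
    have hn : E ≤ 𝐍 (Q ⊓ 𝐍 D ⊓ 𝐂[a] : Subgroup G) := le_normalizer_inf (nn Q hQ) (le_normalizer_of_le hEa)
    have hle : D ⊔ Q ⊓ 𝐍 D ⊓ 𝐂[a] ≤ Q := sup_le hDQ (inf_le_left.trans inf_le_left)
    obtain ⟨R, s, hR, n⟩ := coprime_sylow_exists_ge hnL hcL (Or.inl (solv hE.isPGroup))
      (X := D ⊔ Q ⊓ 𝐍 D ⊓ 𝐂[a]) (sup_le_sup_left (le_inf (hM _ inf_le_right
        ((maxInv_isPGroup hQ).to_le (inf_le_left.trans inf_le_left)) hn) (inf_le_left.trans inf_le_right)) _)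
      (le_normalizer_sup hED hn) ((maxInv_isPGroup hQ).to_le hle)
    exact ⟨_, R, left_lt_sup.2 h0, hle, s, hR, n⟩
  obtain ⟨X₁, R₁, d₁, x₁, s₁, hR₁, n₁⟩ := syl Q₁ h₁ inf_le_left ha1'
  obtain ⟨X₂, R₂, d₂, x₂, s₂, hR₂, n₂⟩ := syl Q₂ h₂ inf_le_right ha2
  obtain ⟨c, hc, e⟩ := coprime_sylow_trans hnL hcL (Or.inl (solv hE.isPGroup)) hR₁ hR₂ n₁ n₂
  have hcK : c ∈ 𝐎 {p}ᶜ (𝐂 E) := le_K hE inf_le_right
    (Nat.Coprime.coprime_dvd_left (card_dvd_of_le inf_le_left) hLp) hc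
  obtain ⟨Q₃, h₃, s₃⟩ := exists_maxInv_ge hR₂.isPGroup n₂
  have bd : ∀ X Y : Subgroup G, Nat.card D < Nat.card X → X ≤ Y → Nat.card G - Nat.card Y < n := fun X Y h1 h2 => by
    have := card_le_of_le h2
    have := Y.card_le_card_group
    omega
  obtain ⟨k, hk, e₁⟩ := ih _ (bd (cj c X₁) _ (by rw [card_cj]; exact card_lt_of_lt d₁)
    (le_inf (cj_mono c x₁) ((cj_mono c s₁).trans (e ▸ s₃))))
    (maxInv_cj h₁ (centralizer_le_normalizer' E hc.2)) h₃ rfl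
  obtain ⟨k', hk', e₂⟩ := ih _ (bd X₂ _ (card_lt_of_lt d₂) (le_inf (s₂.trans s₃) x₂)) h₃ h₂ rfl
  exact ⟨k' * k * c, Subgroup.mul_mem _ (Subgroup.mul_mem _ hk' hk) hcK, by rw [e₂, e₁, cj_mul, cj_mul]⟩

end

/-- Let G be a finite group and p a prime such that the normalizer of every nontrivial p-subgroup of G is p-constrained; if p = 2 assume also that the Sylow 2-subgroups of G have nilpotency class at most 2. Let E be an abelian p-subgroup containing an elementary abelian subgroup of order p ^ 3 and containing every element of p-power order of C_G(E). Then for every prime q ≠ p, any two maximal E-invariant q-subgroups of G are conjugate by an element of O_{p'}(C_G(E)). -/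
theorem result {G : Type*} [Group G] [Finite G] (p : ℕ) [Fact p.Prime]
    (hloc : ∀ T : Subgroup G, IsPGroup p T → T ≠ ⊥ → Cfsg.IsPConstrained p ↥(Subgroup.normalizer (T : Set G)))
    (h2 : p = 2 → ∀ S : Sylow p G, Group.IsNilpotent (S : Subgroup G) ∧ Group.nilpotencyClass (S : Subgroup G) ≤ 2)
    (E : Subgroup G) (hEp : IsPGroup p E) (hEc : IsMulCommutative E) (hE3 : ¬ Cfsg.PRankLE p 2 E)
    (hEfull : ∀ x ∈ Subgroup.centralizer (E : Set G), IsPGroup p (Subgroup.zpowers x) → x ∈ E)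
    (q : ℕ) [Fact q.Prime] (hqp : q ≠ p) :
    ∀ Q₁ ∈ Cfsg.maxInvSubgroups ⊤ E {q}, ∀ Q₂ ∈ Cfsg.maxInvSubgroups ⊤ E {q},
        ∃ k ∈ Cfsg.piCoreOf (Cfsg.primesNotDvd p) (Subgroup.centralizer (E : Set G)), Q₂ = Q₁.map (MulAut.conj k).toMonoidHom := by
  intro Q₁ h₁ Q₂ h₂
  have hp : p.Prime := Fact.out
  have hE : Syl p E (𝐂 E) := ⟨le_centralizer_iff_isMulCommutative.2 hEc, hEp, fun U h1 h2 h3 =>
    le_antisymm (fun x hx => hEfull x (h2 hx) (h3.to_le ((zpowers_le).2 hx))) h1⟩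
  obtain ⟨A, hA⟩ := not_prank_iff.1 hE3
  rw [opi_primesNotDvd_prime hp]
  have h2' : p = 2 → ∀ T : Subgroup G, IsPGroup p T → ⁅T, T⁆ ≤ 𝐂 T := fun e T hT => by
    obtain ⟨S, hS⟩ := hT.exists_le_sylow
    obtain ⟨h3, h4⟩ := h2 e S
    exact (commutator_mono hS hS).trans ((Hall.commutator_le_centralizer_of_class_le_two h4).trans
      (centralizer_le (SetLike.coe_subset_coe.2 hS)))
  refine main hqp hE hA (fun a ha ha1 => ?_) h₁ h₂
  have h5 : 𝐂[a] ≤ 𝐍 (zpowers a) := by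
    rw [← Core.centralizer_zpowers]; exact cent_le_norm _
  have hEa : E ≤ 𝐂[a] := le_centralizer_singleton_iff.2 (hE.le (hA.le ha))
  refine ⟨𝐎 {p}ᶜ (𝐍 (zpowers a)), (isPi_compl_singleton_iff_coprime hp).1 (opi_isPi _ _),
    le_normalizer_opi_of_le _ (hEa.trans h5), fun X h6 h7 h8 => ?_⟩
  refine tb' (hloc _ (hEp.to_le (zpowers_le.2 (hA.le ha))) (by simpa using ha1)) (hEa.trans h5) (h6.trans h5) hE h2'
    ?_ h8
  obtain ⟨n, hn⟩ := h7.exists_card_eq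
  rw [hn]
  exact ((Nat.coprime_primes Fact.out hp).2 hqp).pow_left n

end Cfsg.Agent.S1480
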