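import Cfsg.Statements.S1481
import Cfsg.Agent.Lib.BG1.Sec1
import Cfsg.Agent.Lib.Coprime.Sylow
import Cfsg.Agent.Lib.Coprime.PGroup
import Cfsg.Agent.Lib.Amalg.Bridge
import Cfsg.Agent.Lib.Core.Fitting

set_option autoImplicit false
open Cfsg

namespace Cfsg.Agent.S1481

open Subgroup Cfsg.Lib Cfsg.Lib.Core
open scoped commutatorElement

/-- Let G be a finite group and H a local subgroup (the normalizer of a nontrivial subgroup of prime-power order) not properly contained in any local subgroup; let F = F(H), suppose at least two primes divide #F, put X = H ∩ C_G(F), let M ≤ F with F ∩ C_G(M) ≤ M, and let R be a solvable subgroup normalized by M and by X. Then for every prime q not dividing #F there is exactly one maximal M-invariant q-subgroup of R, and it is a Sylow q-subgroup of the largest normal subgroup of R of order coprime to #F. -/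
theorem result {G : Type*} [Group G] [Finite G] (H : Subgroup G) (hH : Cfsg.IsLocalSubgroup H) (hHmax : ∀ L : Subgroup G, Cfsg.IsLocalSubgroup L → H ≤ L → L = H)
    (hF2 : 2 ≤ (Nat.card (Cfsg.fittingOf H)).primeFactors.card)
    (M : Subgroup G) (hM : M ≤ Cfsg.fittingOf H) (hCM : Cfsg.fittingOf H ⊓ Subgroup.centralizer (M : Set G) ≤ M)
    (R : Subgroup G) (hR : Group.IsSolvable R) (hMR : M ≤ Subgroup.normalizer (R : Set G))
    (hXR : H ⊓ Subgroup.centralizer (Cfsg.fittingOf H : Set G) ≤ Subgroup.normalizer (R : Set G))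
    (q : ℕ) [Fact q.Prime] (hq : ¬ q ∣ Nat.card (Cfsg.fittingOf H)) :
    ∃! Q : Subgroup G, Q ∈ Cfsg.maxInvSubgroups R M {q} ∧
      (∀ Q' : Subgroup G, Q' ∈ Cfsg.maxInvSubgroups R M {q} →
        Q' ≤ Cfsg.piCoreOf (Cfsg.primesNotDvd (Nat.card (Cfsg.fittingOf H))) R ∧
        ¬ q ∣ Q'.relIndex (Cfsg.piCoreOf (Cfsg.primesNotDvd (Nat.card (Cfsg.fittingOf H))) R)) := by
  set F := fittingOf H with hF
  have hFH : F ≤ H := fittingOf_le H
  have hHF : H ≤ normalizer (F : Set G) := le_normalizer_fittingOf H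
  haveI hnil : Group.IsNilpotent F := isNilpotent_fittingOf H
  let Z : ℕ → Subgroup G := fun p => (pCore p H).map H.subtype ⊓ centralizer (F : Set G)
  have zp : ∀ p, IsPGroup p (Z p) := fun p => (isPGroup_pCoreOf H).to_inf_left
  have zM : ∀ p, p.Prime → Z p ≤ M := fun p hp =>
    le_trans (inf_le_inf (pCoreOf_le_fittingOf hp H) (centralizer_le hM)) hCM
  have zH : ∀ p, H ≤ normalizer (Z p : Set G) := fun p =>
    le_normalizer_inf (le_normalizer_pCoreOf H) (hHF.trans (normalizer_le_normalizer_centralizer _))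
  have zN : ∀ p, p.Prime → p ∣ Nat.card F → centralizer (Z p : Set G) ≤ H := fun p hp hd => by
    haveI := Fact.mk hp
    obtain ⟨P, h1, h2, h3⟩ := Amalg.exists_isPGroup_ne_bot_of_dvd hd
    have h4 : (pCore p H).map H.subtype ≠ ⊥ := fun e => h3 (le_bot_iff.1 (e ▸ le_pCoreOf_of_le_fittingOf hp h2 h1))
    have h5 : Z p ≠ ⊥ := inf_centralizer_ne_bot_of_nilpotent (L := F) (pCoreOf_le_fittingOf hp H) le_rfl
      (hFH.trans (le_normalizer_pCoreOf H)) h4
    exact (centralizer_le_normalizer _).trans (hHmax _ ⟨p, _, hp, zp p, h5, rfl⟩ (zH p)).le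
  have A : ∀ S : Subgroup G, S ≤ R → S ≤ H → S ≤ centralizer (M : Set G) → (Nat.card S).Coprime (Nat.card F) → S = ⊥ :=
    fun S h1 h2 h3 h4 => by
      have h5 := Coprime.le_centralizer_of_centralizes_selfCentralizing hnil (h2.trans hHF) h4 hM hCM h3
      have hX : H ≤ normalizer ((H ⊓ centralizer (F : Set G) : Subgroup G) : Set G) :=
        le_normalizer_inf le_normalizer (hHF.trans (normalizer_le_normalizer_centralizer _))
      have h6 : fittingOf (H ⊓ centralizer (F : Set G) ⊓ R) ≤ F :=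
        (fittingOf_le_fittingOf inf_le_left (le_normalizer_inf le_normalizer hXR)).trans (fittingOf_le_fittingOf inf_le_left hX)
      haveI : Group.IsSolvable (H ⊓ centralizer (F : Set G) ⊓ R : Subgroup G) := isSolvable_of_le inf_le_right
      have h7 : S ≤ F := (le_inf (le_inf (le_inf h2 h5) h1) (h5.trans (centralizer_le h6))).trans
        ((inf_centralizer_fittingOf_le _).trans h6)
      rw [← inf_eq_right.2 h7]
      exact Coprime.inf_eq_bot_of_coprime_card h4
  set K := piCoreOf (primesNotDvd (Nat.card F)) R with hK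
  have cop : ∀ S : Subgroup G, IsPGroup q S → (Nat.card S).Coprime (Nat.card F) := fun S h =>
    (Coprime.coprime_card_of_isPGroup h ((coprime_iff_not_dvd Fact.out).2 hq)).symm
  haveI : Group.IsSolvable M := isSolvable_of_le hM
  have hL : Group.IsSolvable (M ⊔ R : Subgroup G) := isSolvable_sup_of_le_normalizer hMR
  have B : ∀ Q : Subgroup G, Q ≤ R → IsPGroup q Q → M ≤ normalizer (Q : Set G) → Q ≤ K := fun Q h1 h2 h3 => by
    have B1 : ∀ p, p.Prime → p ∣ Nat.card F → Q ≤ piCoreOf {p}ᶜ (M ⊔ R) := fun p hp hd => by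
      obtain ⟨r, hr, hne⟩ := Finset.exists_mem_ne hF2 p
      obtain ⟨hr, hrd, -⟩ := Nat.mem_primeFactors.1 hr
      have hZF : Z r ≤ F := (zM r hr).trans hM
      have hSH : Q ⊓ centralizer (Z r : Set G) ≤ H := inf_le_right.trans (zN r hr hrd)
      have c1 : Q ⊓ centralizer (Z r : Set G) = ⊥ := by
        refine A _ (inf_le_left.trans h1) hSH ?_ (cop _ h2.to_inf_left)
        rw [← commutator_eq_bot_iff_le_centralizer, eq_bot_iff,
          ← Coprime.inf_eq_bot_of_coprime_card (cop _ h2), commutator_comm]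
        refine le_inf ((commutator_mono hM hSH).trans (Coprime.commutator_le_of_le_normalizer hHF)) ?_
        rw [commutator_comm]
        exact (commutator_mono inf_le_left le_rfl).trans (Coprime.commutator_le_of_le_normalizer h3)
      have c2 := Coprime.commutator_sup_centralizer ((zM r hr).trans h3)
        ((cop _ h2).symm.coprime_dvd_left (card_dvd_of_le hZF)) (Or.inl (isSolvable_of_le hZF))
      rw [c1, sup_bot_eq] at c2
      have c3 : Z r ≤ piCoreOf {p}ᶜ (M ⊔ R) := by
        refine le_trans ?_ (BG1.pPrimeCoreOf_cent_pgroup hp hL ((zM p hp).trans le_sup_left) (zp p))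
        refine le_piCoreOf (le_inf ((zM r hr).trans le_sup_left) (inf_le_right.trans (centralizer_le ((zM p hp).trans hM))))
          ((inf_le_right.trans (zN p hp hd)).trans (zH r)) ?_
        exact ((isPGroup_iff_isPiNumber hr).1 (zp r)).mono (by simpa using hne.symm)
      rw [← c2, commutator_comm]
      exact (commutator_mono c3 le_rfl).trans (Coprime.commutator_le_of_le_normalizer
        ((h1.trans le_sup_right).trans (le_normalizer_piCoreOf _)))
    let W := R ⊓ ⨅ p : {p : ℕ // p.Prime ∧ p ∣ Nat.card F}, piCoreOf {p.1}ᶜ (M ⊔ R)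
    refine le_trans (le_inf h1 (le_iInf fun p => B1 p.1 p.2.1 p.2.2) : Q ≤ W) (le_piCoreOf inf_le_left
      (le_normalizer_inf le_normalizer (le_normalizer_iff.2 fun g hg x hx =>
        mem_iInf.2 fun p => Coprime.conj_mem (le_sup_right.trans (le_normalizer_piCoreOf _)) hg (mem_iInf.1 hx p)))
      fun p hp hd => ⟨hp, fun h => ?_⟩)
    exact isPi_of_le (isPi_piCoreOf _) (inf_le_right.trans (iInf_le _ ⟨p, hp, h⟩)) p hp hd rfl
  have hKR : K ≤ R := piCoreOf_le R
  have hMK : M ≤ normalizer (K : Set G) := hMR.trans (normalizer_le_normalizer_piCoreOf R)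
  have cK : (Nat.card K).Coprime (Nat.card F) :=
    Nat.coprime_of_dvd fun p hp h => (isPi_piCoreOf R p hp h).2
  have cM : (Nat.card M).Coprime (Nat.card K) := cK.symm.coprime_dvd_left (card_dvd_of_le hM)
  have hC : K ⊓ centralizer (M : Set G) = ⊥ := by
    obtain ⟨r, hr⟩ := Finset.card_pos.1 (lt_of_lt_of_le two_pos hF2)
    obtain ⟨hr, hrd, -⟩ := Nat.mem_primeFactors.1 hr
    exact A _ (inf_le_left.trans hKR) (inf_le_right.trans ((centralizer_le (zM r hr)).trans (zN r hr hrd))) inf_le_right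
      (cK.coprime_dvd_left (card_dvd_of_le inf_le_left))
  have pg : ∀ {Q : Subgroup G}, IsPGroup q Q ↔ IsPiNumber {q} (Nat.card Q) := isPGroup_iff_isPiNumber Fact.out
  have syl : ∀ Q ∈ maxInvSubgroups R M {q}, Transfer.SylowIn q Q K := fun Q ⟨⟨h1, h2, h3⟩, h4⟩ => by
    obtain ⟨P, hP, h5, h6⟩ := Coprime.exists_invariant_sylowIn_ge hMK cM (Or.inl inferInstance) (B Q h1 (pg.2 h2) h3)
      (pg.2 h2) h3
    exact h4 P ⟨hP.1.trans hKR, pg.1 hP.2, h6⟩ h5 ▸ hP
  obtain ⟨P, hP, h6⟩ := Coprime.exists_invariant_sylowIn hMK cM (Or.inl inferInstance) q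
  refine ⟨P, ⟨⟨⟨hP.1.trans hKR, pg.1 hP.2, h6⟩, fun Q ⟨h1, h2, h3⟩ h => ?_⟩, fun Q hQ => ⟨(syl Q hQ).1, (syl Q hQ).3⟩⟩,
    fun Q hQ => Coprime.invariant_sylowIn_unique hMK cM (Or.inl inferInstance) hC (syl Q hQ.1) hP hQ.1.1.2.2 h6⟩
  exact le_antisymm ((Amalg.syl_of_sylowIn hP).le_of_le h (B Q h1 (pg.2 h2) h3) (pg.2 h2)) h

end Cfsg.Agent.S1481
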