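import Cfsg.Statements.S1485
import Cfsg.Agent.Lib.Clifford.Clifford

set_option autoImplicit false
open Cfsg

namespace Cfsg.Agent.S1485

open Cfsg.Lib.Clifford

/-- Let H be a normal subgroup of the finite group G and θ an irreducible character of H. On H, the function induced from θ equals r times the sum of the distinct G-conjugates of θ, where r is the number of elements of G fixing θ under conjugation divided by the order of H (the index of H in the inertia group). -/
theorem result {G : Type*} [Group G] [Fintype G] (H : Subgroup G) [hN : H.Normal] (θ : H → ℂ) (hθ : Cfsg.IsIrrCharacter H θ) : (fun h : H => Cfsg.indFun H θ h) = ((Nat.card {g : G // ∀ h : H, θ ⟨g * h * g⁻¹, hN.conj_mem h h.2 g⟩ = θ h} : ℂ) / (Nat.card H : ℂ)) • ∑ᶠ ψ ∈ {ψ : H → ℂ | ∃ g : G, ψ = fun h : H => θ ⟨g * h * g⁻¹, hN.conj_mem h h.2 g⟩}, ψ := by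
  classical
  obtain ⟨θ, rfl, -⟩ := exists_res _ θ
  have hN' : Nrm ⊤ H := nrm_of_normal ⊤ H
  have hθ' : IrrOn H θ := hθ
  have hs : {ψ : H → ℂ | ∃ g : G, ψ = fun n : H => res H θ ⟨g * n * g⁻¹, hN.conj_mem n n.2 g⟩} =
      ((orb ⊤ H θ).image (res H) : Finset (H → ℂ)) := by
    ext ψ
    simp only [Set.mem_ofPred_eq, Finset.coe_image, Set.mem_image, Finset.mem_coe, mem_orb]
    constructor
    · rintro ⟨g, rfl⟩
      exact ⟨_, ⟨g, trivial, rfl⟩, by rw [cj_cut hN' trivial, res_cut]; rfl⟩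
    · rintro ⟨_, ⟨g, -, rfl⟩, rfl⟩
      exact ⟨g, by rw [cj_cut hN' trivial, res_cut]; rfl⟩
  have hc : Nat.card {g : G // ∀ h : H, res H θ ⟨g * h * g⁻¹, hN.conj_mem h h.2 g⟩ = res H θ h} =
      Nat.card (inertia ⊤ H θ) := by
    refine Nat.card_congr (Equiv.subtypeEquivRight fun g => ?_)
    rw [mem_inertia hN']
    exact ⟨fun h => ⟨trivial, fun n hn => h ⟨n, hn⟩⟩, fun h n => h.2 n n.2⟩
  rw [hs, hc, finsum_mem_coe_finset, Finset.sum_image, indFun_res, ind_nrm le_top hN' hθ'.classOn,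
    div_eq_inv_mul, card_div_card (le_inertia le_top hN' hθ'.classOn)]
  · ext n
    simp [Finset.sum_apply]
  · intro a ha b hb e
    exact eq_of_mem_Irr (orb_subset hN' hθ ha) (orb_subset hN' hθ hb) fun x hx => congrFun e ⟨x, hx⟩

end Cfsg.Agent.S1485
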