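import Cfsg.Statements.S1486
import Cfsg.Agent.Lib.Clifford.Clifford

set_option autoImplicit false
open Cfsg

namespace Cfsg.Agent.S1486

open Cfsg.Lib.Clifford

/-- Let H be a normal subgroup of the finite group G and θ, φ irreducible characters of H. If φ is a G-conjugate of θ then the functions induced from θ and φ coincide; if φ is not a G-conjugate of θ then the induced functions are orthogonal. -/
theorem result {G : Type*} [Group G] [Fintype G] (H : Subgroup G) [hN : H.Normal] (θ φ : H → ℂ) (hθ : Cfsg.IsIrrCharacter H θ) (hφ : Cfsg.IsIrrCharacter H φ) : ((∃ g : G, φ = fun h : H => θ ⟨g * h * g⁻¹, hN.conj_mem h h.2 g⟩) → Cfsg.indFun H φ = Cfsg.indFun H θ) ∧ ((¬ ∃ g : G, φ = fun h : H => θ ⟨g * h * g⁻¹, hN.conj_mem h h.2 g⟩) → Cfsg.classInner (Cfsg.indFun H φ) (Cfsg.indFun H θ) = 0) := by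
  obtain ⟨θ, rfl, -⟩ := exists_res _ θ
  obtain ⟨φ, rfl, -⟩ := exists_res _ φ
  have hN' : Nrm ⊤ H := nrm_of_normal ⊤ H
  rw [indFun_res, indFun_res]
  constructor
  · rintro ⟨g, e⟩
    rw [← ind_cj (K := ⊤) (g := g) trivial (hN'.mem_iff trivial) θ]
    exact ind_congr _ fun x hx => congrFun e ⟨x, hx⟩
  · intro h
    rw [← dot_top, dot_eq_zero_comm, dot_ind_ind_nrm le_top hN' hθ hφ, if_neg]
    intro h'
    obtain ⟨g, -, e⟩ := mem_orb.mp h'
    rw [cj_cut hN' trivial] at e
    exact h ⟨g, by rw [← res_cut, ← e, res_cut]; rfl⟩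

end Cfsg.Agent.S1486
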