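import Cfsg.Statements.S1487
import Cfsg.Agent.Lib.Clifford.Ker

set_option autoImplicit false
open Cfsg

namespace Cfsg.Agent.S1487

open Cfsg.Lib.Clifford

/-- Let A ≤ H be normal subgroups of the finite group G and θ an irreducible character of H. Then θ takes the value θ 1 on all of A if and only if the function induced from θ to G takes its value at 1 on all of A. -/
theorem result {G : Type*} [Group G] [Fintype G] (A H : Subgroup G) [A.Normal] [H.Normal] (hAH : A ≤ H) (θ : H → ℂ) (hθ : Cfsg.IsIrrCharacter H θ) : (∀ a : H, (a : G) ∈ A → θ a = θ 1) ↔ (∀ a : G, a ∈ A → Cfsg.indFun H θ a = Cfsg.indFun H θ 1) := by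
  obtain ⟨θ, rfl, -⟩ := exists_res _ θ
  have hθ' : IrrOn H θ := hθ
  rw [indFun_res]
  exact ⟨fun h => Triv.ind (fun a ha => h ⟨a, hAH ha⟩ ha) hAH (nrm_of_normal ⊤ A),
    fun h a ha => (hθ'.charOn.mem_of_ind_eq hθ'.one_ne_zero (h a ha)).2⟩

end Cfsg.Agent.S1487
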