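import Cfsg.Statements.S1490
import Cfsg.Agent.Lib.Clifford.Gallagher

set_option autoImplicit false
open Cfsg

namespace Cfsg.Agent.S1490

open Cfsg.Lib.Clifford

/-- Let H be a normal subgroup of the finite group G, θ an irreducible character of H with inertia group T, and suppose the commutator of any two elements of T lies in H (T/H abelian). Then there are a positive integer e and a finite set C of irreducible characters of G with e ^ 2 * |C| * |H| = |T|, such that the function induced from θ is e times the sum of the members of C and every member of C has degree [G:T] * e * θ(1). -/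
theorem result {G : Type*} [Group G] [Fintype G] (H T : Subgroup G) [hN : H.Normal] (θ : H → ℂ) (hθ : Cfsg.IsIrrCharacter H θ) (hT : ∀ g : G, g ∈ T ↔ ∀ h : H, θ ⟨g * h * g⁻¹, hN.conj_mem h h.2 g⟩ = θ h) (hab : ∀ x ∈ T, ∀ y ∈ T, x * y * x⁻¹ * y⁻¹ ∈ H) : ∃ (e : ℕ) (C : Finset (G → ℂ)), 0 < e ∧ (∀ χ ∈ C, Cfsg.IsIrrCharacter G χ) ∧ e ^ 2 * C.card * Nat.card H = Nat.card T ∧ Cfsg.indFun H θ = (e : ℂ) • ∑ χ ∈ C, χ ∧ ∀ χ ∈ C, χ 1 = (T.index : ℂ) * e * θ 1 := by
  obtain ⟨θ, rfl, -⟩ := exists_res _ θ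
  have hN' : Nrm ⊤ H := nrm_of_normal ⊤ H
  obtain rfl : T = inertia ⊤ H θ := by
    ext g
    rw [hT, mem_inertia hN']
    exact ⟨fun h => ⟨trivial, fun n hn => h ⟨n, hn⟩⟩, fun h n => h.2 n n.2⟩
  obtain ⟨e, he, -, -, h1, h2, h3⟩ := exists_ind_eq_of_abelian_inertia le_top hN' hθ
    (Subgroup.commutator_le.2 hab)
  refine ⟨e, _, he, fun χ hχ => mem_Irr_top.1 (IrrOver_subset hχ), ?_, by rw [indFun_res, h2],
    fun χ hχ => by rw [h3 χ hχ, Subgroup.relIndex_top_right]; rfl⟩
  rw [h1, mul_comm, card_mul_relIndex (le_inertia le_top hN' (IrrOn.classOn hθ))]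

end Cfsg.Agent.S1490
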