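import Cfsg.Statements.S1493
import Cfsg.Agent.Lib.Clifford.Amb

set_option autoImplicit false
open Cfsg

namespace Cfsg.Agent.S1493

open Cfsg.Lib.Clifford Cfsg.Lib.Char

/-- Let G be a finite group of order a * b with a and b coprime, let k be coprime to a, and let χ be a character of G. Then there is a character χ' of G such that χ'(g) = χ(g ^ k) whenever the order of g divides a and χ'(g) = χ(g) whenever the order of g is coprime to a; moreover χ' is irreducible if χ is. -/
theorem result {G : Type*} [Group G] [Finite G] (a b k : ℕ) (hab : Nat.card G = a * b) (hcop : Nat.Coprime a b) (hk : Nat.Coprime k a) (χ : G → ℂ) (hχ : Cfsg.IsCharacter G χ) : ∃ χ' : G → ℂ, Cfsg.IsCharacter G χ' ∧ (Cfsg.IsIrrCharacter G χ → Cfsg.IsIrrCharacter G χ') ∧ (∀ g : G, orderOf g ∣ a → χ' g = χ (g ^ k)) ∧ (∀ g : G, Nat.Coprime (orderOf g) a → χ' g = χ g) := by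
  obtain ⟨u, hu⟩ := exists_pi_ringEquiv G (a := a) (Or.inl hk)
  have h := hu ⊤ χ (charOn_top.2 hχ).genOn
  exact ⟨fun g => u (χ g), Cfsg.IsCharacter.map_ringEquiv hχ u,
    fun h => Cfsg.IsIrrCharacter.map_ringEquiv h u, fun g => (h g trivial).1,
    fun g => (h g trivial).2⟩

end Cfsg.Agent.S1493
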