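import Cfsg.Statements.S1497
import Cfsg.Agent.Lib.PF.Dade

set_option autoImplicit false
open Cfsg

namespace Cfsg.Agent.S1497

open Cfsg.Lib.PF

/-- Let A be a nonempty subset of the finite group G not containing 1 and L a subgroup. Then A is a TI-subset whose normaliser is L if and only if the Dade hypothesis holds for A, L and the constant choice H(a) = ⊥. -/
theorem result {G : Type*} [Group G] [Finite G] (A : Set G) (hA : A.Nonempty) (h1 : (1 : G) ∉ A) (L : Subgroup G) : (Cfsg.IsTISubset A ∧ Subgroup.normalizer A = L) ↔ Cfsg.DadeHypothesis A L (fun _ => ⊥) := by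
  constructor
  · rintro ⟨hTI, hN⟩
    have key : ∀ a ∈ A, ∀ g : G, g * a * g⁻¹ ∈ A → g ∈ L := by
      intro a ha g hg
      by_contra hgL
      exact h1 (hTI g (hN ▸ hgL) a ha hg ▸ ha)
    have hconj : ∀ x ∈ L, ∀ a ∈ A, x * a * x⁻¹ ∈ A := fun x hx a ha =>
      (Subgroup.mem_set_normalizer_iff.1 (hN ▸ hx) a).1 ha
    refine ⟨h1, fun a ha => key a ha a (by simpa using ha), hconj,
      fun a ha g hg => ⟨g, key a ha g hg, rfl⟩, fun _ _ => bot_le, ?_, fun _ _ => bot_inf_eq _,
      fun a ha => ?_, fun _ _ _ _ => by simp⟩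
    · intro a _ c _ u hu
      rw [Subgroup.mem_bot] at hu ⊢
      simp [hu]
    · rw [bot_sup_eq, inf_eq_right]
      intro c hc
      exact key a ha c (by rw [mem_cent'.1 hc]; exact ha)
  · intro hD
    have key : ∀ a ∈ A, ∀ g : G, g * a * g⁻¹ ∈ A → g ∈ L := by
      intro a ha g hg
      obtain ⟨x, hx, e⟩ := hD.fusion a ha g hg
      have h2 : x⁻¹ * g ∈ Subgroup.centralizer ({a} : Set G) := by
        rw [mem_cent']
        calc x⁻¹ * g * a * (x⁻¹ * g)⁻¹ = x⁻¹ * (g * a * g⁻¹) * x := by group
          _ = a := by rw [← e]; group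
      rw [← hD.sup_eq a ha, bot_sup_eq] at h2
      simpa using L.mul_mem hx h2.1
    have hN : Subgroup.normalizer A = L := by
      ext g
      rw [Subgroup.mem_set_normalizer_iff]
      constructor
      · intro h
        obtain ⟨a, ha⟩ := hA
        exact key a ha g ((h a).1 ha)
      · intro hg n
        exact (Dade.conj_mem_iff hD hg).symm
    exact ⟨fun g hg x hx hgx => absurd (hN ▸ key x hx g hgx) hg, hN⟩

end Cfsg.Agent.S1497
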