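import Cfsg.Statements.S1499
import Cfsg.Agent.Lib.PF.Dade

set_option autoImplicit false
open Cfsg

namespace Cfsg.Agent.S1499

open Cfsg.Lib.PF

/-- Under the Dade hypothesis for (A, L, H), let a, b ∈ A. If an element of the coset a·H(a) is conjugate in G to an element of b·H(b), then a and b are conjugate by an element of L. Moreover the set normaliser of the coset a·H(a) is the centraliser of a. -/
theorem result {G : Type*} [Group G] [Finite G] (A : Set G) (L : Subgroup G) (H : G → Subgroup G) (hD : Cfsg.DadeHypothesis A L H) (a b : G) (ha : a ∈ A) (hb : b ∈ A) : ((∃ u ∈ H a, ∃ v ∈ H b, ∃ g : G, g * (a * u) * g⁻¹ = b * v) → ∃ x ∈ L, x * a * x⁻¹ = b) ∧ Subgroup.normalizer ((fun u : G => a * u) '' (H a : Set G)) = Subgroup.centralizer ({a} : Set G) := by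
  refine ⟨fun ⟨u, hu, v, hv, g, e⟩ => Dade.exists_conj hD ha hb hu hv e, ?_⟩
  ext x
  rw [Subgroup.mem_set_normalizer_iff]
  constructor
  · intro h
    obtain ⟨v, hv, e⟩ := (h a).1 ⟨1, (H a).one_mem, by simp⟩
    exact mem_cent'.2 (Dade.conj_part hD ha ha (H a).one_mem hv (by simpa using e.symm))
  · intro hx n
    have hx' := mem_cent'.1 hx
    constructor
    · rintro ⟨u, hu, rfl⟩
      refine ⟨x * u * x⁻¹, hD.conj_mem_H a ha x hx u hu, ?_⟩
      conv_lhs => rw [← hx']
      simp only; group
    · rintro ⟨u, hu, e⟩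
      refine ⟨x⁻¹ * u * x, by simpa using hD.conj_mem_H a ha x⁻¹ (inv_mem hx) u hu, ?_⟩
      simp only at e ⊢
      have : n = x⁻¹ * (a * u) * x := by rw [e]; group
      rw [this]
      conv_rhs => rw [← hx']
      group

end Cfsg.Agent.S1499
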