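import Cfsg.Statements.S1500
import Cfsg.Agent.Lib.PF.Sec2

set_option autoImplicit false
open Cfsg

namespace Cfsg.Agent.S1500

open Cfsg.Lib.PF Cfsg.Lib.Clifford

/-- Under the Dade hypothesis for (A, L, H), let α be a class function of L vanishing outside A. Then (i) for every class function β of L vanishing outside A, the inner product over G of the Dade images of α and β equals the inner product of α and β over L; and (ii) for every class function χ of G and every function ψ on L whose value at each a ∈ A is the average of χ over the coset a·H(a), the inner product over G of the Dade image of α with χ equals the inner product over L of α with ψ. -/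
theorem result {G : Type*} [Group G] [Fintype G] (A : Set G) (L : Subgroup G) [Fintype L] (H : G → Subgroup G) (hD : Cfsg.DadeHypothesis A L H) (α : L → ℂ) (hα : Cfsg.IsClassFunction L α) (hαA : ∀ x : L, (x : G) ∉ A → α x = 0) : (∀ β : L → ℂ, Cfsg.IsClassFunction L β → (∀ x : L, (x : G) ∉ A → β x = 0) → Cfsg.classInner (Cfsg.dadeIsometry A L H α) (Cfsg.dadeIsometry A L H β) = Cfsg.classInner α β) ∧ (∀ (χ : G → ℂ) (ψ : L → ℂ), Cfsg.IsClassFunction G χ → (∀ a : L, (a : G) ∈ A → ψ a = (Nat.card (H a) : ℂ)⁻¹ * ∑ᶠ u ∈ (H a : Set G), χ (a * u)) → Cfsg.classInner (Cfsg.dadeIsometry A L H α) χ = Cfsg.classInner α ψ) := by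
  have key : ∀ β : L → ℂ, IsClassFunction L β → (∀ x : L, (x : G) ∉ A → β x = 0) →
      ∃ φ ∈ CFon L A, β = res L φ := fun β hβ hA => by
    obtain ⟨φ, rfl, h0⟩ := exists_res L β
    exact ⟨φ, ⟨mem_CF_of_classOn (classOn_iff.mpr hβ) h0,
      fun x hx => (em (x ∈ L)).elim (fun h => hA ⟨x, h⟩ hx) (h0 x)⟩, rfl⟩
  obtain ⟨φ, hφ, rfl⟩ := key α hα hαA
  rw [Dade.dadeIsometry_res hD (cf_classOn hφ.1)]
  refine ⟨fun β hβ hA => ?_, fun χ ψ hχ hψ => ?_⟩
  · obtain ⟨ψ, hψ, rfl⟩ := key β hβ hA
    rw [Dade.dadeIsometry_res hD (cf_classOn hψ.1), ← dot_top, Dade.isometry hD hφ hψ, dot_eq_classInner]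
  · obtain ⟨ξ, rfl, -⟩ := exists_res L ψ
    rw [← dot_top, Dade.dot_dade hD hφ (mem_CF_top.mpr hχ), ← dot_eq_classInner]
    refine dot_congr_on (fun x _ hx => hφ.2 x hx) fun a ha => ?_
    rw [rho_of_mem _ ha, show ξ a = _ from hψ ⟨a, hD.subset ha⟩ ha, avg, finsum_mem_eq_finite_toFinset_sum _ (Set.toFinite _)]
    exact congrArg _ (Finset.sum_congr (by ext; simp [mem_elems]) fun u hu => by
      rw [Dade.comm hD ha (by simpa using hu)])

end Cfsg.Agent.S1500
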