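import Cfsg.Statements.S1502
import Cfsg.Agent.Lib.PF.Typed3

set_option autoImplicit false
open Cfsg

namespace Cfsg.Agent.S1502

open Cfsg.Lib.PF Cfsg.Lib.Clifford

/-- Let W₁, W₂ be nontrivial subgroups of the finite group G generating a cyclic subgroup W = W₁ ⊔ W₂ of odd order that is the normaliser of every nonempty set of its elements outside W₁ ∪ W₂. Then there is a family attaching to each linear character ω of W an irreducible character of G up to sign, orthonormal, sending the trivial character to the principal character, with χ ω = ω on W outside W₁ ∪ W₂, and such that inducing (1 − φ)(1 − ψ) to G gives 1 − χ φ − χ ψ + χ (φψ) whenever φ ≠ 1 is trivial on W₂ and ψ ≠ 1 is trivial on W₁. -/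
theorem result {G : Type*} [Group G] [Fintype G] (W₁ W₂ : Subgroup G) (hW : Cfsg.IsSelfNormalizingCyclic W₁ W₂) (hodd : Odd (Nat.card ↥(W₁ ⊔ W₂))) : ∃ χ : (↥(W₁ ⊔ W₂) →* ℂˣ) → (G → ℂ), Cfsg.IsCyclicTIFamily W₁ W₂ χ := by
  classical
  have h := Cfsg.Lib.FT.cyclicTI_of_selfNormalizing hW hodd
  refine ⟨fun ω => cycEta ⊤ (res₁ (.ofHom ω)) (res₂ (.ofHom ω)), fun ω => (h.eta_dirr _ _).imp mem_Irr_top.mp mem_Irr_top.mp,
    fun ω ω' => ?_, ?_, fun ω w h1 h2 => ?_, fun φ ψ _ _ hφ hψ => ?_⟩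
  · rw [← dot_top, h.dot_eta]
    by_cases e : ω = ω'
    · simp [e]
    · rw [if_neg e, if_neg fun e' => e (h.res_bijective.1 (Prod.ext e'.1 e'.2))]
  · exact h.eta_one.trans cf1_top
  · rw [h.eta_apply _ _ ⟨w.2, h1, h2⟩, ← h.lin_eq, lin_coe]; rfl
  · have e1 : res₂ (Lin.ofHom φ) = 1 := Lin.ext fun w => hφ _ w.2
    have e2 : res₁ (Lin.ofHom ψ) = 1 := Lin.ext fun w => hψ _ w.2
    have e3 : res₁ (Lin.ofHom φ * Lin.ofHom ψ) = res₁ (Lin.ofHom φ) := (mul_one _).symm.trans (e2 ▸ rfl) |>.symm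
    have e4 : res₂ (Lin.ofHom φ * Lin.ofHom ψ) = res₂ (Lin.ofHom ψ) := (one_mul _).symm.trans (e1 ▸ rfl) |>.symm
    have := h.ind_alpha (res₁ (.ofHom φ)) (res₂ (.ofHom ψ))
    rw [indFun_eq_ind, alphaT_eq, alphaT, lin_one, h.lin_eq, h.lin_eq, h.lin_eq, e1, e2, e3, e4, ← cycAlpha, this,
      cf1_top]
    conv_lhs => enter [2]; rw [← e3, ← e4]
    rfl

end Cfsg.Agent.S1502
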