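import Cfsg.Statements.S1503
import Cfsg.Agent.Lib.PF.Typed3

set_option autoImplicit false
open Cfsg

namespace Cfsg.Agent.S1503

open Cfsg.Lib.PF Cfsg.Lib.Clifford

/-- Let W₁, W₂ ≤ G with W = W₁ ⊔ W₂ and let χ an orthonormal family of irreducible characters of G up to sign, indexed by the linear characters ω of W, with χ_1 = 1, χ_ω = ω on W outside W₁ ∪ W₂, and the induction identity for (1 − φ)(1 − ψ). If θ is an irreducible character of G orthogonal to χ ω for every linear character ω of W, then θ vanishes at every element of W lying outside W₁ ∪ W₂. -/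
theorem result {G : Type*} [Group G] [Fintype G] (W₁ W₂ : Subgroup G) (hW : Cfsg.IsSelfNormalizingCyclic W₁ W₂) (χ : (↥(W₁ ⊔ W₂) →* ℂˣ) → (G → ℂ)) (hχ : Cfsg.IsCyclicTIFamily W₁ W₂ χ) (θ : G → ℂ) (hθ : Cfsg.IsIrrCharacter G θ) (horth : ∀ ω, Cfsg.classInner θ (χ ω) = 0) (w : ↥(W₁ ⊔ W₂)) (hw₁ : (w : G) ∉ W₁) (hw₂ : (w : G) ∉ W₂) : θ w = 0 := by
  classical
  have hT := normedTI_of_selfNorm hW
  have hc := comm_of_isCyclic hW.2.2.2.2.1
  have hθ' := mem_Irr_top.mpr hθ
  have hf : (cycV W₁ W₂).indicator θ ∈ CFon (W₁ ⊔ W₂) (cycV W₁ W₂) :=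
    ⟨mem_CF_of_classOn (fun g hg x hx => by rw [hc g hg x hx, mul_inv_cancel_right])
      fun x hx => Set.indicator_of_notMem (fun h => hx h.1) _, fun x hx => Set.indicator_of_notMem hx _⟩
  have hb := bessel_family (L := ⊤) Finset.univ (fun o : Option (Lin (W₁ ⊔ W₂)) => o.elim θ fun ω => χ ω.hom)
    (fun o _ => by
      cases o
      · exact irr_dot_self hθ'
      · exact (family_dirr hχ _).dot_self)
    (fun o _ o' _ hne => by
      cases o <;> cases o'
      · exact absurd rfl hne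
      · exact (dot_top _ _).trans (horth _)
      · exact dot_eq_zero_comm.mp ((dot_top _ _).trans (horth _))
      · exact (dot_top _ _).trans ((hχ.orthonormal _ _).trans (if_neg fun e => hne (congrArg some e))))
    (ind (W₁ ⊔ W₂) ⊤ ((cycV W₁ W₂).indicator θ))
  rw [hT.nsq_ind hf, nsq_eq_sum hf.1, sum_Irr_of_comm hc, Fintype.sum_option, Finset.sum_congr rfl fun ω _ => by
    rw [Option.elim_some, dot_ind_cf le_top _ (family_dirr hχ ω.hom).cf,
      dot_congr_on (fun x _ hx => hf.2 x hx) fun x hx => show χ ω.hom x = _ from family_apply hχ ω hx], add_le_iff_nonpos_left,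
    Option.elim_none, dot_ind_cf le_top _ (irr_cf hθ'), sq_nonpos_iff, norm_eq_zero,
    dot_congr_on (fun x _ hx => hf.2 x hx) fun x hx => (Set.indicator_of_mem hx θ).symm, dot_self_eq_zero] at hb
  exact (Set.indicator_of_mem (show (w : G) ∈ cycV W₁ W₂ from ⟨w.2, hw₁, hw₂⟩) θ).symm.trans (hb w w.2)

end Cfsg.Agent.S1503
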