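import Cfsg.Statements.S1504
import Cfsg.Agent.Lib.PF.Typed3

set_option autoImplicit false
open Cfsg

namespace Cfsg.Agent.S1504

open Cfsg.Lib.PF Cfsg.Lib.Clifford

/-- Let W₁, W₂ be subgroups of a finite group with W₁ ⊓ W₂ = ⊥ whose elements commute, and W = W₁ ⊔ W₂. For linear characters φ, ψ of W with φ trivial on W₂ and ψ trivial on W₁, the function (1 − φ)(1 − ψ) vanishes on W₁ ∪ W₂; and the family of these functions, indexed by pairs (φ, ψ) with φ ≠ 1 ≠ ψ, is linearly independent over ℂ. -/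
theorem result {G : Type*} [Group G] [Finite G] (W₁ W₂ : Subgroup G) (hdisj : W₁ ⊓ W₂ = ⊥) (hcomm : ∀ a ∈ W₁, ∀ b ∈ W₂, a * b = b * a) : (∀ φ ψ : ↥(W₁ ⊔ W₂) →* ℂˣ, (∀ w : ↥(W₁ ⊔ W₂), (w : G) ∈ W₂ → φ w = 1) → (∀ w : ↥(W₁ ⊔ W₂), (w : G) ∈ W₁ → ψ w = 1) → ∀ w : ↥(W₁ ⊔ W₂), ((w : G) ∈ W₁ ∨ (w : G) ∈ W₂) → (1 - (φ w : ℂ) - (ψ w : ℂ) + (φ w : ℂ) * (ψ w : ℂ)) = 0) ∧ LinearIndependent ℂ (fun p : {p : (↥(W₁ ⊔ W₂) →* ℂˣ) × (↥(W₁ ⊔ W₂) →* ℂˣ) // p.1 ≠ 1 ∧ p.2 ≠ 1 ∧ (∀ w : ↥(W₁ ⊔ W₂), (w : G) ∈ W₂ → p.1 w = 1) ∧ (∀ w : ↥(W₁ ⊔ W₂), (w : G) ∈ W₁ → p.2 w = 1)} => fun w : ↥(W₁ ⊔ W₂) => 1 - (p.1.1 w : ℂ) - (p.1.2 w : ℂ) + (p.1.1 w : ℂ) * (p.1.2 w : ℂ)) := by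
  classical
  refine ⟨fun φ ψ hφ hψ w hw => by rcases hw with hw | hw <;> simp [hφ w, hψ w, hw], ?_⟩
  have := Fintype.ofFinite G
  rw [linearIndependent_iff']
  intro s g hg p hp
  have h1 : dot (W₁ ⊔ W₂) (∑ q ∈ s, g q • alphaT (.ofHom q.1.1) (.ofHom q.1.2))
      (lin (Lin.ofHom p.1.1 * Lin.ofHom p.1.2)) = 0 := by
    rw [dot_congr_left (φ' := 0), dot_zero_left]
    intro x hx
    simpa [← alphaT_eq, extendByZero_of_mem _ hx] using congrFun hg ⟨x, hx⟩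
  have h2 : 1 ≠ Lin.ofHom p.1.1 := p.2.1.symm
  have h3 : 1 ≠ Lin.ofHom p.1.2 := p.2.2.1.symm
  have h4 := fun q (hq : q ∈ s) => dot_alphaT_lin hcomm (φ := .ofHom q.1.1) (ψ := .ofHom q.1.2) (φ' := .ofHom p.1.1)
    (ψ' := .ofHom p.1.2) (fun w h => ⟨q.2.2.2.1 w h, p.2.2.2.1 w h⟩) fun w h => ⟨q.2.2.2.2 w h, p.2.2.2.2 w h⟩
  simp only [if_neg h2, if_neg h3, sub_zero, ite_zero_mul_ite_zero] at h4
  rwa [dot_sum_left, Finset.sum_eq_single_of_mem p hp fun q hq hne => by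
    rw [dot_smul_left, h4 q hq, if_neg fun e => hne (Subtype.ext (Prod.ext e.1 e.2)), mul_zero], dot_smul_left,
    h4 p hp, if_pos ⟨rfl, rfl⟩, mul_one, mul_one] at h1

end Cfsg.Agent.S1504
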