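import Cfsg.Statements.S1505
import Cfsg.Agent.Lib.PF.Typed3

set_option autoImplicit false
open Cfsg

namespace Cfsg.Agent.S1505

open Cfsg.Lib.PF Cfsg.Lib.Clifford

open Classical in
/-- Let W₁, W₂ ≤ G form a self-normalising cyclic subgroup W = W₁ ⊔ W₂. For nontrivial linear characters φ, φ' of W trivial on W₂ and ψ, ψ' trivial on W₁, put α = (1 − φ)(1 − ψ) and α' = (1 − φ')(1 − ψ'). Then the function induced from α to G has inner product 1 with the principal character, and the inner product of the functions induced from α and α' is 1 + a + b + ab where a = 1 if φ = φ' (else 0) and b = 1 if ψ = ψ' (else 0). -/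
theorem result {G : Type*} [Group G] [Fintype G] (W₁ W₂ : Subgroup G) (hW : Cfsg.IsSelfNormalizingCyclic W₁ W₂) (φ φ' ψ ψ' : ↥(W₁ ⊔ W₂) →* ℂˣ) (hφ : φ ≠ 1) (hφ' : φ' ≠ 1) (hψ : ψ ≠ 1) (hψ' : ψ' ≠ 1) (hφ₂ : ∀ w : ↥(W₁ ⊔ W₂), (w : G) ∈ W₂ → φ w = 1 ∧ φ' w = 1) (hψ₁ : ∀ w : ↥(W₁ ⊔ W₂), (w : G) ∈ W₁ → ψ w = 1 ∧ ψ' w = 1) : Cfsg.classInner (Cfsg.indFun (W₁ ⊔ W₂) (fun w => 1 - (φ w : ℂ) - (ψ w : ℂ) + (φ w : ℂ) * (ψ w : ℂ))) (fun _ => 1) = 1 ∧ Cfsg.classInner (Cfsg.indFun (W₁ ⊔ W₂) (fun w => 1 - (φ w : ℂ) - (ψ w : ℂ) + (φ w : ℂ) * (ψ w : ℂ))) (Cfsg.indFun (W₁ ⊔ W₂) (fun w => 1 - (φ' w : ℂ) - (ψ' w : ℂ) + (φ' w : ℂ) * (ψ' w : ℂ))) = 1 + (if φ = φ' then 1 else 0) + (if ψ = ψ' then 1 else 0) + (if φ = φ' then 1 else 0) * (if ψ = ψ' then 1 else 0) := by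
  have hc := hW.2.2.2.1
  replace hφ : Lin.ofHom φ ≠ 1 := hφ
  replace hφ' : Lin.ofHom φ' ≠ 1 := hφ'
  replace hψ : Lin.ofHom ψ ≠ 1 := hψ
  replace hψ' : Lin.ofHom ψ' ≠ 1 := hψ'
  have h1 := dot_alphaT_lin hc (φ := .ofHom φ) (ψ := .ofHom ψ) (φ' := 1) (ψ' := 1)
    (fun w h => ⟨(hφ₂ w h).1, rfl⟩) fun w h => ⟨(hψ₁ w h).1, rfl⟩
  have h2 := dot_alphaT_lin hc (φ := .ofHom φ) (ψ := .ofHom ψ) (φ' := .ofHom φ') (ψ' := 1)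
    hφ₂ fun w h => ⟨(hψ₁ w h).1, rfl⟩
  have h3 := dot_alphaT_lin hc (φ := .ofHom φ) (ψ := .ofHom ψ) (φ' := 1) (ψ' := .ofHom ψ')
    (fun w h => ⟨(hφ₂ w h).1, rfl⟩) hψ₁
  have h4 := dot_alphaT_lin hc (φ := .ofHom φ) (ψ := .ofHom ψ) (φ' := .ofHom φ') (ψ' := .ofHom ψ') hφ₂ hψ₁
  rw [mul_one, if_neg hφ, if_neg hψ, if_pos rfl] at h1
  rw [mul_one, if_neg hφ'.symm, if_neg hψ, if_pos rfl] at h2
  rw [one_mul, if_neg hφ, if_neg hψ'.symm, if_pos rfl] at h3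
  rw [if_neg hφ'.symm, if_neg hψ'.symm] at h4
  simp only [indFun_eq_ind, alphaT_eq, ← dot_top]
  constructor
  · refine (dot_ind_cf le_top _ one_cf_top).trans ?_
    rw [← dot_cf1_right, ← lin_one, h1]; ring
  · rw [(normedTI_of_selfNorm hW).dot_ind (alphaT_cfon (fun w h => (hφ₂ w h).1) fun w h => (hψ₁ w h).1)
      (alphaT_cfon (fun w h => (hφ₂ w h).2) fun w h => (hψ₁ w h).2), alphaT.eq_def (.ofHom φ'), dot_add_right,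
      dot_sub_right, dot_sub_right, h1, h2, h3, h4]
    have e : ∀ a b : ↥(W₁ ⊔ W₂) →* ℂˣ, Lin.ofHom a = Lin.ofHom b ↔ a = b := fun _ _ => Iff.rfl
    simp only [e]
    split_ifs <;> ring

end Cfsg.Agent.S1505
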