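import Cfsg.Statements.S1507
import Cfsg.Agent.Lib.PF.Typed3

set_option autoImplicit false
open Cfsg

namespace Cfsg.Agent.S1507

open Cfsg.Lib.PF Cfsg.Lib.Clifford

open Classical in
/-- Let W₁, W₂ ≤ G form a self-normalising cyclic subgroup W = W₁ ⊔ W₂ of odd order with Nat.card W₁ < Nat.card W₂, and χ an orthonormal family of irreducible characters of G up to sign, indexed by the linear characters ω of W, with χ_1 = 1, χ_ω = ω on W outside W₁ ∪ W₂, and the induction identity for (1 − φ)(1 − ψ). Let θ be a class function of G vanishing on W outside W₁ ∪ W₂, and suppose fewer than 2 · Nat.card W₁ linear characters ω of W have ⟨θ, χ ω⟩ ≠ 0. Then one of: all ⟨θ, χ ω⟩ vanish; or there are ψ₀ and a with ⟨θ, χ ω⟩ = a when ω ψ₀⁻¹ is trivial on W₂ and 0 otherwise; or there are φ₀ and a with ⟨θ, χ ω⟩ = a when ω φ₀⁻¹ is trivial on W₁ and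 0 otherwise. -/
theorem result {G : Type*} [Group G] [Fintype G] (W₁ W₂ : Subgroup G) (hW : Cfsg.IsSelfNormalizingCyclic W₁ W₂) (hodd : Odd (Nat.card ↥(W₁ ⊔ W₂))) (χ : (↥(W₁ ⊔ W₂) →* ℂˣ) → (G → ℂ)) (hχ : Cfsg.IsCyclicTIFamily W₁ W₂ χ) (hlt : Nat.card W₁ < Nat.card W₂) (θ : G → ℂ) (hθ : Cfsg.IsClassFunction G θ) (hθV : ∀ w : ↥(W₁ ⊔ W₂), (w : G) ∉ W₁ → (w : G) ∉ W₂ → θ w = 0) (hfew : Nat.card {ω : ↥(W₁ ⊔ W₂) →* ℂˣ // Cfsg.classInner θ (χ ω) ≠ 0} < 2 * Nat.card W₁) : (∀ ω, Cfsg.classInner θ (χ ω) = 0) ∨ (∃ (ψ₀ : ↥(W₁ ⊔ W₂) →* ℂˣ) (a : ℂ), ∀ ω, Cfsg.classInner θ (χ ω) = if (∀ w : ↥(W₁ ⊔ W₂), (w : G) ∈ W₂ → (ω * ψ₀⁻¹) w = 1) then a else 0) ∨ (∃ (φ₀ : ↥(W₁ ⊔ W₂) →* ℂˣ) (a : ℂ), ∀ ω, Cfsg.classInner θ (χ ω) = if (∀ w : ↥(W₁ ⊔ W₂), (w : G) ∈ W₁ → (ω * φ₀⁻¹) w = 1) then a else 0) := by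
  have h := Cfsg.Lib.FT.cyclicTI_of_selfNormalizing hW hodd
  have e : ∀ ω : Lin (W₁ ⊔ W₂), classInner θ (χ ω) = dot ⊤ θ (cycEta ⊤ (res₁ ω) (res₂ ω)) := fun ω => by
    rw [h.family_eq hχ ω, dot_top]
  refine (Classical.em _).imp_right fun hn => ?_
  obtain ⟨ω₀, h0⟩ := not_forall.mp hn
  have hN : cycNC ⊤ W₁ W₂ θ < 2 * min (Nat.card W₁) (Nat.card W₂) := by
    rw [min_eq_left hlt.le, cycNC, ← Fintype.card_subtype, ← Nat.card_eq_fintype_card]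
    exact (Nat.card_congr ((Equiv.ofBijective _ h.res_bijective).subtypeEquiv fun ω => by rw [e]; rfl)).symm.trans_lt hfew
  refine (h.small_nc (mem_CF_top.mpr hθ) (fun x hx => hθV ⟨x, hx.1⟩ hx.2.1 hx.2.2) hN (e ω₀ ▸ h0)).imp
    (fun k => ⟨ω₀, classInner θ (χ ω₀), fun ω => ?_⟩) fun k => ⟨ω₀, classInner θ (χ ω₀), fun ω => ?_⟩ <;>
  exact (e ω).trans ((k _ _).trans (if_congr (resLin_eq_iff _ _ _) (e ω₀).symm rfl))

end Cfsg.Agent.S1507
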