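import Cfsg.Statements.S1511
import Cfsg.Agent.Lib.PF.Sec4Top

set_option autoImplicit false
open Cfsg

namespace Cfsg.Agent.S1511

open Cfsg.Lib.Clifford Cfsg.Lib.PF

/-- Let L be a finite group with K normal with complement W₁ ≠ 1 a cyclic Hall subgroup, and W₂ ≠ 1 a cyclic subgroup of K equal to C_K(x) for every non-identity x ∈ W₁, with W₁W₂ of odd order. Then there are a map μ from the linear characters of W = W₁ ⊔ W₂ to irreducible characters of L, injective, and a sign δ(ω) ∈ {1, −1} depending only on the values of ω on W₂, such that: for ω, ω' agreeing on W₂, the function induced to L from ω − ω' equals δ(ω) • (μ ω − μ ω'); μ ω x = δ(ω) ω x for x ∈ W outside W₂; every irreducible character of L not of the form μ ω vanishes on W outside W₂; and μ ω 1 − δ(ω) is an integer multiple of Nat.card W₁. -/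
theorem result {L : Type*} [Group L] [Fintype L] (K W₁ W₂ : Subgroup L) [hK : K.Normal] (hKW₁ : K ⊓ W₁ = ⊥) (hKW₁' : K ⊔ W₁ = ⊤) (hW₁ : W₁ ≠ ⊥) (hW₁c : IsCyclic W₁) (hHall : Nat.Coprime (Nat.card W₁) W₁.index) (hW₂ : W₂ ≠ ⊥) (hW₂c : IsCyclic W₂) (hW₂K : W₂ ≤ K) (hC : ∀ x ∈ W₁, x ≠ 1 → K ⊓ Subgroup.centralizer ({x} : Set L) = W₂) (hodd : Odd (Nat.card ↥(W₁ ⊔ W₂))) : ∃ (μ : (↥(W₁ ⊔ W₂) →* ℂˣ) → (L → ℂ)) (δ : (↥(W₁ ⊔ W₂) →* ℂˣ) → ℂ), Function.Injective μ ∧ (∀ ω, Cfsg.IsIrrCharacter L (μ ω)) ∧ (∀ ω, δ ω = 1 ∨ δ ω = -1) ∧ (∀ ω ω' : ↥(W₁ ⊔ W₂) →* ℂˣ, (∀ w : ↥(W₁ ⊔ W₂), (w : L) ∈ W₂ → ω w = ω' w) → δ ω = δ ω' ∧ Cfsg.indFun (W₁ ⊔ W₂) (fun w => (ω w : ℂ) - (ω' w : ℂ)) = δ ω • (μ ω - μ ω')) ∧ (∀ ω, ∀ w : ↥(W₁ ⊔ W₂), (w : L) ∉ W₂ → μ ω w = δ ω * (ω w : ℂ)) ∧ (∀ θ : L → ℂ, Cfsg.IsIrrCharacter L θ → (∀ ω, θ ≠ μ ω) → ∀ w : ↥(W₁ ⊔ W₂), (w : L) ∉ W₂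 → θ w = 0) ∧ (∀ ω, ∃ n : ℤ, μ ω 1 - δ ω = n * (Nat.card W₁ : ℂ)) := by
  have h := primeTI_top hKW₁ hKW₁' hW₁ hW₁c hHall hW₂ hW₂c hW₂K hC hodd
  have e := h.cyc.cycIrr_resLin
  refine ⟨fun ω => prIrr ⊤ (resLin le_sup_left (Lin.ofHom ω)) (resLin le_sup_right (Lin.ofHom ω)),
    fun ω => prSign ⊤ W₁ (resLin le_sup_right (Lin.ofHom ω)), fun ω ω' hω => ?_, fun ω => mem_Irr_top.1 (h.irr_mem _ _),
    fun ω => prSign_cases _ _ _, fun ω ω' hω => ?_, fun ω w hw => ?_, fun θ hθ hn w hw => ?_, fun ω => ?_⟩ <;> beta_reduce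
  · obtain ⟨a, b⟩ := h.irr_inj.1 hω
    exact lin_injective (a₁ := Lin.ofHom ω) (a₂ := Lin.ofHom ω') (by rw [← e, ← e, a, b])
  · have e2 : resLin (le_sup_right : W₂ ≤ W₁ ⊔ W₂) (Lin.ofHom ω') = resLin le_sup_right (Lin.ofHom ω) :=
      lin_ext fun x hx => by
        rw [lin_resLin, lin_resLin, cut_of_mem _ hx, cut_of_mem _ hx, lin_of_mem _ (Subgroup.mem_sup_right hx),
          lin_of_mem _ (Subgroup.mem_sup_right hx)]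
        exact congrArg _ (hω _ hx).symm
    refine ⟨by rw [e2], ?_⟩
    rw [e2, ← h.ind_sub, e, ← e2, e, ← indFun_res]
    congr 1
    ext w
    simp [lin_coe, Lin.hom_ofHom]
  · rw [h.irr_apply _ _ w.2 hw, e, lin_coe]; rfl
  · refine h.vanish (mem_Irr_top.2 hθ) (fun i j hij => ?_) w.2 hw
    obtain ⟨ω, hω⟩ := exists_lin_of_comm (fun a ha b hb => h.cyc.comm ha hb) (h.cyc.irr_mem i j)
    obtain ⟨a, b⟩ := h.cyc.irr_inj.1 (hω.trans (e ω).symm)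
    exact hn ω.hom (by rw [hij, a, b]; rfl)
  · obtain ⟨n, hn⟩ := h.irr1_mod (resLin le_sup_left (Lin.ofHom ω)) (resLin le_sup_right (Lin.ofHom ω))
    exact ⟨n, by rw [hn]; ring⟩

end Cfsg.Agent.S1511
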