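import Cfsg.Statements.S1512
import Cfsg.Agent.Lib.Clifford.Fixed

set_option autoImplicit false
open Cfsg

namespace Cfsg.Agent.S1512

open Cfsg.Lib.Clifford

/-- Let K be a normal subgroup of the finite group L and x a non-identity element whose order is coprime to the order of K, such that K ⊓ C_L(y) = W₂ for every non-identity element y of the cyclic group generated by x. Then the number of conjugacy classes of K mapped to themselves by conjugation by x is at most Nat.card W₂. -/
theorem result {L : Type*} [Group L] [Finite L] (K W₂ : Subgroup L) [hK : K.Normal] (x : L) (hx1 : x ≠ 1) (hx : Nat.Coprime (orderOf x) (Nat.card K)) (hC : ∀ y ∈ Subgroup.zpowers x, y ≠ 1 → K ⊓ Subgroup.centralizer ({y} : Set L) = W₂) : Nat.card {C : ConjClasses K // ConjClasses.map (MulEquiv.toMonoidHom ((MulAut.conjNormal x : MulAut K))) C = C} ≤ Nat.card W₂ := by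
  rw [← card_fixed_irr_eq (MulAut.conjNormal x : MulAut K) (fun χ hχ => (Lib.Char.isIrrCharacter_comp_equiv_iff _).2 hχ) _
    fun y => by
      rw [show ConjClasses.map _ (ConjClasses.mk y) = ConjClasses.mk ((MulAut.conjNormal x : MulAut K) y) from rfl,
        ConjClasses.mk_eq_mk_iff_isConj]
      exact isConj_comm, ← hC x (Subgroup.mem_zpowers x) hx1]
  refine le_trans ?_ (card_IrrFix_le (nrm_of_normal ⊤ K) trivial hx)
  rw [← Nat.card_eq_finsetCard]
  refine Nat.card_le_card_of_injective (fun χ => ⟨extendByZero K χ.1.1, mem_IrrFix.2 ⟨mem_Irr.2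
    ⟨irrOn_extendByZero.2 χ.1.2, fun _ hy => extendByZero_of_notMem _ hy⟩, fun y hy => ?_⟩⟩) fun χ ψ e => ?_
  · rw [extendByZero_of_mem _ hy, extendByZero_of_mem _ (hK.conj_mem y hy x)]
    exact congrFun χ.2 ⟨y, hy⟩
  · exact Subtype.ext (Subtype.ext (by
      rw [← res_extendByZero K χ.1.1, ← res_extendByZero K ψ.1.1]; exact congrArg (res K ∘ Subtype.val) e))

end Cfsg.Agent.S1512
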