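import Cfsg.Statements.S1513
import Cfsg.Agent.Lib.PF.Sec4Top

set_option autoImplicit false
open Cfsg

namespace Cfsg.Agent.S1513

open Cfsg.Lib.Clifford Cfsg.Lib.PF

/-- Let L be a finite group with K normal with complement W₁ ≠ 1 a cyclic Hall subgroup, and W₂ ≠ 1 a cyclic subgroup of K equal to C_K(x) for every non-identity x ∈ W₁, with W₁W₂ of odd order. For an irreducible character θ of K: if θ is not fixed under conjugation by some element of W₁, then the function induced from θ to L is an irreducible character of L; and the irreducible characters of K fixed by all of W₁ are exactly Nat.card W₂ in number, each inducing to the sum of Nat.card W₁ pairwise distinct irreducible characters of L. -/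
theorem result {L : Type*} [Group L] [Fintype L] (K W₁ W₂ : Subgroup L) [hK : K.Normal] (hKW₁ : K ⊓ W₁ = ⊥) (hKW₁' : K ⊔ W₁ = ⊤) (hW₁ : W₁ ≠ ⊥) (hW₁c : IsCyclic W₁) (hHall : Nat.Coprime (Nat.card W₁) W₁.index) (hW₂ : W₂ ≠ ⊥) (hW₂c : IsCyclic W₂) (hW₂K : W₂ ≤ K) (hC : ∀ x ∈ W₁, x ≠ 1 → K ⊓ Subgroup.centralizer ({x} : Set L) = W₂) (hodd : Odd (Nat.card ↥(W₁ ⊔ W₂))) : (∀ θ : K → ℂ, Cfsg.IsIrrCharacter K θ → (∃ x ∈ W₁, (fun k : K => θ ⟨x * k * x⁻¹, hK.conj_mem (k : L) k.2 x⟩) ≠ θ) → Cfsg.IsIrrCharacter L (Cfsg.indFun K θ)) ∧ Nat.card {θ : Cfsg.IrrCharacter K // ∀ x ∈ W₁, (fun k : K => (θ : K → ℂ) ⟨x * k * x⁻¹, hK.conj_mem (k : L) k.2 x⟩) = θ} = Nat.card W₂ ∧ (∀ θ : K → ℂ, Cfsg.IsIrrCharacter K θ → (∀ x ∈ W₁, (fun k : K => θ ⟨x * k * x⁻¹, hK.conj_mem (k : L) k.2 x⟩) = θ) → ∃ C : Finset (L → ℂ), C.card = Nat.card W₁ ∧ (∀ μ ∈ C, Cfsg.IsIrrCharacter L μ) ∧ Cfsg.indFun K θ = ∑ μ ∈ C, μ)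 := by
  classical
  have h := primeTI_top hKW₁ hKW₁' hW₁ hW₁c hHall hW₂ hW₂c hW₂K hC hodd
  have hm : ∀ θ : K → ℂ, IsIrrCharacter K θ → extendByZero K θ ∈ Irr K := fun θ hθ =>
    mem_Irr.2 ⟨irrOn_extendByZero.2 hθ, fun _ hy => extendByZero_of_notMem _ hy⟩
  have hf : ∀ j : Lin W₂, ∀ x : L, (fun k : K => res K (prRes ⊤ K W₁ j) ⟨x * k * x⁻¹, hK.conj_mem (k : L) k.2 x⟩) =
      res K (prRes ⊤ K W₁ j) := fun j x => funext fun k => h.res_invOn j x trivial k k.2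
  have hf' : ∀ θ : K → ℂ, IsIrrCharacter K θ → (∀ x ∈ W₁, (fun k : K => θ ⟨x * k * x⁻¹, hK.conj_mem (k : L) k.2 x⟩) = θ) →
      ∃ j : Lin W₂, prRes ⊤ K W₁ j = extendByZero K θ := fun θ hθ hx => by
    obtain ⟨a, ha, ha1⟩ := h.exists_ne_one₁
    have : extendByZero K θ ∈ IrrFix K a := mem_IrrFix.2 ⟨hm θ hθ, fun y hy => by
      rw [extendByZero_of_mem _ hy, extendByZero_of_mem _ (hK.conj_mem y hy a)]
      exact congrFun (hx a ha) ⟨y, hy⟩⟩
    rw [h.IrrFix_eq ha ha1] at this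
    simpa using this
  refine ⟨fun θ hθ ⟨x, hx, hne⟩ => ?_, ?_, fun θ hθ hx => ?_⟩
  · rw [indFun_eq_ind]
    refine mem_Irr_top.1 (h.ind_mem_Irr (hm θ hθ) fun j e => hne ?_)
    have := hf j x
    rwa [← e, res_extendByZero] at this
  · rw [← card_Lin_of_isCyclic hW₂c, ← Nat.card_eq_fintype_card]
    refine (Nat.card_eq_of_bijective (fun j : Lin W₂ => (⟨⟨res K (prRes ⊤ K W₁ j), irrOn_of_mem (h.res_mem j)⟩,
      fun x _ => hf j x⟩ : {θ : IrrCharacter K // ∀ x ∈ W₁, (fun k : K => (θ : K → ℂ) ⟨x * k * x⁻¹,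
        hK.conj_mem (k : L) k.2 x⟩) = θ})) ⟨fun j k e => h.res_inj (eq_of_mem_Irr (h.res_mem j)
        (h.res_mem k) fun x hx => ?_), fun θ => ?_⟩).symm
    · exact congrFun (congrArg (fun z => z.1.1) e) ⟨x, hx⟩
    obtain ⟨j, hj⟩ := hf' θ.1.1 θ.1.2 θ.2
    exact ⟨j, Subtype.ext (Subtype.ext (by simp only [hj, res_extendByZero]))⟩
  · obtain ⟨j, hj⟩ := hf' θ hθ hx
    have hi : Function.Injective fun i : Lin W₁ => prIrr ⊤ i j := fun i i' e => (h.irr_inj.1 e).1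
    refine ⟨Finset.univ.image fun i : Lin W₁ => prIrr ⊤ i j, by
      rw [Finset.card_image_of_injective _ hi, Finset.card_univ, card_Lin_of_isCyclic hW₁c], fun μ hμ => ?_, by
      rw [indFun_eq_ind, ← hj, h.ind_res, Finset.sum_image hi.injOn]; rfl⟩
    obtain ⟨i, -, rfl⟩ := Finset.mem_image.1 hμ
    exact mem_Irr_top.1 (h.irr_mem i j)

end Cfsg.Agent.S1513
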