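import Cfsg.Statements.S1515
import Cfsg.Agent.Lib.PF5.Bridge

set_option autoImplicit false
open Cfsg

namespace Cfsg.Agent.S1515
open Cfsg.Lib.Char Cfsg.Lib.Clifford Cfsg.Lib.PF Cfsg.Lib.PF5

/-- Let (S, τ, R) be a coherence system from L to G, χ ∈ S, and ψ an integer combination of S with ⟨χ, ψ⟩ = ⟨conj χ, ψ⟩ = 0. Let τ₁ be a linear isometry on the integer combinations of χ − ψ and χ − conj χ, with virtual-character values, agreeing with τ on integer multiples of χ − conj χ. Then the sum over α ∈ R χ of the squared absolute values of ⟨τ₁(χ − ψ), α⟩ is at least ⟨χ, χ⟩; and if ⟨τ₁(χ − ψ), τ₁(χ − ψ)⟩ minus that sum is at least ⟨ψ, ψ⟩, then the sum equals ⟨χ, χ⟩ and every ⟨τ₁(χ − ψ), α⟩ with α ∈ R χ is 0 or 1. -/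
theorem result {L : Type*} [Group L] [Fintype L] {G : Type*} [Group G] [Fintype G] (S : Set (L → ℂ)) (τ : (L → ℂ) → (G → ℂ)) (R : (L → ℂ) → Finset (G → ℂ)) (hS : Cfsg.IsCoherenceSystem S τ R) (χ : L → ℂ) (hχ : χ ∈ S) (ψ : L → ℂ) (hψ : ψ ∈ Cfsg.zspan S) (h1 : Cfsg.classInner χ ψ = 0) (h2 : Cfsg.classInner (Cfsg.conjFun χ) ψ = 0) (τ₁ : (L → ℂ) → (G → ℂ)) (hτ₁ : Cfsg.IsLinearIsometryOn (Cfsg.zspan {χ - ψ, χ - Cfsg.conjFun χ}) τ₁) (hagree : ∀ n : ℤ, τ₁ (n • (χ - Cfsg.conjFun χ)) = τ (n • (χ - Cfsg.conjFun χ))) : (Cfsg.classInner χ χ).re ≤ ∑ α ∈ R χ, ‖Cfsg.classInner (τ₁ (χ - ψ)) α‖ ^ 2 ∧ ((Cfsg.classInner ψ ψ).re ≤ (Cfsg.classInner (τ₁ (χ - ψ)) (τ₁ (χ - ψ))).re - ∑ α ∈ R χ, ‖Cfsg.classInner (τ₁ (χ - ψ)) α‖ ^ 2 → (∑ α ∈ R χ, ‖Cfsg.classInner (τ₁ (χ - ψ)) α‖ ^ 2 = (Cfsg.classInner χ χ).re ∧ ∀ α ∈ R χ, Cfsg.classInner (τ₁ (χ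 - ψ)) α = 0 ∨ Cfsg.classInner (τ₁ (χ - ψ)) α = 1)) := by
  classical
  lift S to Finset (L → ℂ) using IsCoherenceSystem.finite hS
  obtain ⟨σ, e, hs⟩ := IsCoherenceSystem.subcoherent hS
  obtain ⟨σ₁, e₁⟩ := IsLinearIsometryOn.exists_linear hτ₁
  rw [← Finset.coe_pair] at hτ₁ e₁
  have hI := isom_of_isometry (E := ZS {χ - ψ, χ - star χ}) hτ₁ e₁
  have hR := hs.orthonorm χ hχ
  have e2 : σ₁ (χ - ψ) = τ₁ (χ - ψ) := e₁ _ (mem_ZS (by simp))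
  have e3 : σ₁ (χ - star χ) = σ (χ - star χ) := by
    rw [e₁ _ (mem_ZS (by simp [conjFun_eq_star])), e _ (hs.sub_star_mem hχ)]
    simpa [conjFun_eq_star] using hagree 1
  simp only [← dot_top] at h1 h2 ⊢
  rw [← e2, ← hR.nsq_proj]
  have hY : ∀ α ∈ R χ, dot ⊤ (proj ⊤ (R χ) (σ₁ (χ - ψ)) - σ₁ (χ - ψ)) α = 0 := fun α hα => by
    rw [← neg_sub, dot_neg_left, hR.dot_sub_proj _ hα, neg_zero]
  obtain ⟨h3, h4⟩ := hs.norm hχ (hs.zs_vc hψ) h1 h2 hI e3 (proj_mem_CF (hs.R_cf hχ) _) (sub_sub_cancel _ _).symm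
    (dot_eq_zero_comm.1 (dot_proj_right_eq_zero hY _)) hY
  refine ⟨h3, fun h5 => ?_⟩
  obtain ⟨h6, -, E, hE, h7⟩ := h4 (by
    have := hR.nsq_eq_proj_add (σ₁ (χ - ψ))
    rw [← neg_sub, nsq_neg]
    unfold nsq at *
    linarith)
  refine ⟨h6, fun α hα => ?_⟩
  rw [← hR.dot_proj _ hα, h7, hR.dot_subsum hE hα]
  split_ifs <;> simp

end Cfsg.Agent.S1515
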