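import Cfsg.Statements.S1518
import Cfsg.Agent.Lib.PF5.Bridge

set_option autoImplicit false
open Cfsg

namespace Cfsg.Agent.S1518
open Cfsg.Lib.Char Cfsg.Lib.Clifford Cfsg.Lib.PF Cfsg.Lib.PF5

/-- Under the Dade hypothesis for (A, L, H): if χ is an irreducible character of L vanishing at every non-identity element of L outside A, then the Dade image of χ − conj χ equals μ − conj μ for some irreducible character μ of G. -/
theorem result {G : Type*} [Group G] [Fintype G] (A : Set G) (L : Subgroup G) [Fintype L] (H : G → Subgroup G) (hD : Cfsg.DadeHypothesis A L H) (χ : L → ℂ) (hχ : Cfsg.IsIrrCharacter L χ) (hsupp : ∀ x : L, x ≠ 1 → (x : G) ∉ A → χ x = 0) : ∃ μ : G → ℂ, Cfsg.IsIrrCharacter G μ ∧ Cfsg.dadeIsometry A L H (χ - Cfsg.conjFun χ) = μ - Cfsg.conjFun μ := by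
  obtain ⟨ψ, rfl, h0⟩ := exists_res L χ
  have hψ : ψ ∈ Irr L := mem_Irr.2 ⟨hχ, h0⟩
  obtain ⟨t, ht, e⟩ := Dade_irr_sub_conj hD hψ ⟨cf_of_irr hψ, fun x hx => by
    by_cases hL : x ∈ L
    · exact hsupp ⟨x, hL⟩ (fun e => hx (Or.inl (congrArg Subtype.val e))) fun e => hx (Or.inr e)
    · exact h0 x hL⟩
  refine ⟨t, mem_Irr_top.1 ht, Eq.trans ?_ e⟩
  exact Dade.dadeIsometry_res hD ((irrOn_of_mem hψ).classOn.sub (irrOn_of_mem hψ).classOn.star)

end Cfsg.Agent.S1518
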