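import Cfsg.Statements.S1521
import Cfsg.Agent.Lib.PF5.Bridge

set_option autoImplicit false
open Cfsg

namespace Cfsg.Agent.S1521
open Cfsg.Lib.Char Cfsg.Lib.Clifford Cfsg.Lib.PF Cfsg.Lib.PF5

/-- Let K be a solvable normal subgroup of the finite group L of odd order and (S, τ, R) a coherence system from L to G with S the functions induced from non-principal irreducible characters of K; S(A) as before. Let M ≤ K be normal in L with K/M nilpotent, H₁ = [K, K] ⊔ M, H₁ < K < L, and suppose every element of K outside H₁ is centralised modulo H₁ only from inside K (L/H₁ is a Frobenius group with kernel K/H₁). Suppose one of the following: some normal subgroup of L lies strictly between H₁ and K; or [K:H₁] > 4[L:K]^2 + 1; or [K:M] is not a prime power; or [K,K] ≤ M; or [K:M] is a power of a prime p with [L:K] dividing p − 1. Then S(M) is coherent. -/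
theorem result {L : Type*} [Group L] [Fintype L] {G : Type*} [Group G] [Fintype G] (K : Subgroup L) [hK : K.Normal] (hsolv : Group.IsSolvable K) (τ : (L → ℂ) → (G → ℂ)) (R : (L → ℂ) → Finset (G → ℂ)) (hS : Cfsg.IsCoherenceSystem (Cfsg.inducedIrrAbove K ⊥) τ R) (hodd : Odd (Nat.card L)) (M : Subgroup L) [M.Normal] (hMK : M ≤ K) [(M.subgroupOf K).Normal] (hnil : Group.IsNilpotent (↥K ⧸ M.subgroupOf K)) (H₁ : Subgroup L) (hH₁ : H₁ = ⁅K, K⁆ ⊔ M) (hH₁K : H₁ < K) (hKL : K < ⊤) (hfrob : ∀ k ∈ K, k ∉ H₁ → ∀ x : L, x * k * x⁻¹ * k⁻¹ ∈ H₁ → x ∈ K) (hgood : (∃ N : Subgroup L, N.Normal ∧ H₁ < N ∧ N < K) ∨ 4 * K.index ^ 2 + 1 < H₁.relIndex K ∨ (¬ ∃ p m : ℕ, p.Prime ∧ M.relIndex K = p ^ m) ∨ ⁅K, K⁆ ≤ M ∨ (∃ p m : ℕ, p.Prime ∧ M.relIndex K = p ^ m ∧ K.index ∣ p - 1)) : Cfsg.IsCoherent (Cfsg.inducedIrrAbove K M) {1}ᶜ τ := by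
  subst hH₁
  obtain ⟨σ, hs, -, -, h2⟩ := IsCoherenceSystem.seqInd hS
  refine h2 M inferInstance (le_sup_right.trans_lt hH₁K) (by_contra fun hn => ?_)
  obtain ⟨h3, h4, p, hp, ⟨n, hn⟩, h5, h6⟩ := non_coherent_chief le_top (nrm_of_normal ⊤ K) hsolv hs
    ⟨by simpa using hodd, nrm_of_normal ⊤ M, hMK, ⟨_, hnil⟩, hH₁K, hKL, nrm_of_normal ⊤ K, nrm_of_normal ⊤ _,
      fun x _ y hy hy' e => hfrob y hy hy' x e⟩ hn
  rw [Subgroup.relIndex_top_right] at h4 h6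
  rcases hgood with ⟨N, hN, a, b⟩ | a | a | a | ⟨q, m, hq, a, b⟩
  · exact (h3.2.2.2.2 N a.le b.le (nrm_of_normal ⊤ N).le_normalizer).elim a.ne' b.ne
  · omega
  · exact a ⟨p, n, hp, hn⟩
  · exact h5 a
  · have h7 : n ≠ 0 := fun e => (le_sup_right.trans_lt hH₁K).not_ge
      (Subgroup.relIndex_eq_one.1 (by rw [hn, e, pow_zero]))
    exact h6 ((Nat.prime_dvd_prime_iff_eq hp hq).1 (hp.dvd_of_dvd_pow (a ▸ hn ▸ dvd_pow_self p h7)) ▸ b)

end Cfsg.Agent.S1521
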