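import Cfsg.Statements.S1522
import Cfsg.Agent.Lib.PF5.Bridge

set_option autoImplicit false
open Cfsg

namespace Cfsg.Agent.S1522
open Cfsg.Lib.Char Cfsg.Lib.Clifford Cfsg.Lib.PF Cfsg.Lib.PF5

/-- Let K be a nilpotent normal subgroup of the finite group L of odd order with [K,K] < K < L and L/[K,K] a Frobenius group with kernel K/[K,K] (elements of K outside [K,K] are centralised modulo [K,K] only from inside K); let (S, τ, R) be a coherence system from L to G with S the functions induced from non-principal irreducible characters of K. Let Z be a nontrivial normal subgroup of L contained in the centre of K, and suppose every member of S outside S(Z) is an irreducible character of L. Then S minus S(Z) is the set of irreducible characters χ of L with χ z ≠ χ 1 for some z ∈ Z, and it is coherent. -/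
theorem result {L : Type*} [Group L] [Fintype L] {G : Type*} [Group G] [Fintype G] (K : Subgroup L) [hK : K.Normal] (hsolv : Group.IsSolvable K) (τ : (L → ℂ) → (G → ℂ)) (R : (L → ℂ) → Finset (G → ℂ)) (hS : Cfsg.IsCoherenceSystem (Cfsg.inducedIrrAbove K ⊥) τ R) (hodd : Odd (Nat.card L)) (hnil : Group.IsNilpotent K) (hH₁K : ⁅K, K⁆ < K) (hKL : K < ⊤) (hfrob : ∀ k ∈ K, k ∉ ⁅K, K⁆ → ∀ x : L, x * k * x⁻¹ * k⁻¹ ∈ ⁅K, K⁆ → x ∈ K) (Z : Subgroup L) [Z.Normal] (hZ1 : Z ≠ ⊥) (hZK : Z ≤ K) (hZc : ∀ z ∈ Z, ∀ k ∈ K, z * k = k * z) (hirr : ∀ χ ∈ Cfsg.inducedIrrAbove K ⊥ \ Cfsg.inducedIrrAbove K Z, Cfsg.IsIrrCharacter L χ) : Cfsg.inducedIrrAbove K ⊥ \ Cfsg.inducedIrrAbove K Z = {χ | Cfsg.IsIrrCharacter L χ ∧ ∃ z ∈ Z, χ z ≠ χ 1} ∧ Cfsg.IsCoherent (Cfsg.inducedIrrAbove K ⊥ \ Cfsg.inducedIrrAbove K Z) {1}ᶜ τ := by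
  obtain ⟨σ, hs, e, -, -⟩ := IsCoherenceSystem.seqInd hS
  have hZ := nrm_of_normal ⊤ Z
  have h1 : inducedIrrAbove K ⊥ \ inducedIrrAbove K Z = (seqIndD K ⊤ Z ⊥ : Set (L → ℂ)) := by
    rw [inducedIrrAbove_eq bot_le, inducedIrrAbove_eq hZK]
    ext φ
    simp only [Set.mem_sdiff, Finset.mem_coe]
    constructor
    · rintro ⟨a, b⟩
      have hT := seqIndD_subT a
      rw [mem_seqIndD_iff_ker le_top (nrm_of_normal ⊤ K) (nrm_of_normal ⊤ _) hT] at a b
      exact (mem_seqIndD_iff_ker le_top hZ (nrm_of_normal ⊤ _) hT).2 ⟨bot_le, fun c => b ⟨c, a.2⟩⟩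
    · intro a
      have hT := seqIndD_subT a
      refine ⟨seqIndD_mono hZK le_rfl a, fun b => ?_⟩
      rw [mem_seqIndD_iff_ker le_top (nrm_of_normal ⊤ _) (nrm_of_normal ⊤ _) hT] at a b
      exact a.2 b.1
  rw [h1] at hirr ⊢
  obtain ⟨h2, h3⟩ := seqIndD_irr_coherence le_top (nrm_of_normal ⊤ K) hsolv hs
    ⟨by simpa using hodd, nrm_of_normal ⊤ _, bot_le, ⟨inferInstance, inferInstance⟩, by simpa using hH₁K, hKL,
      nrm_of_normal ⊤ K, nrm_of_normal ⊤ _, fun x _ y hy hy' e => hfrob y hy (by simpa using hy') x (by simpa using e)⟩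
    hZ hZ1 (le_inf hZK fun z hz => Subgroup.mem_centralizer_iff.2 fun k hk => (hZc z hz k hk).symm)
    fun χ hχ => mem_Irr_top.2 (hirr χ hχ)
  refine ⟨Set.ext fun χ => (h2 χ).trans ?_, hs.isCoherent e (seqIndD_conjSub hZK le_rfl)
    (seqIndD_nonempty hZK (nrm_of_normal K _) (bot_lt_iff_ne_bot.2 hZ1)) h3⟩
  rw [Set.mem_ofPred_eq, ← mem_Irr_top]
  exact and_congr_right fun a => by rw [Lib.PF5.irr_le_charKer_iff a]; simp [Triv]

end Cfsg.Agent.S1522
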