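import Cfsg.Statements.S1524
import Cfsg.Agent.Lib.PF5.Bridge

set_option autoImplicit false
open Cfsg

namespace Cfsg.Agent.S1524
open Cfsg.Lib.Char Cfsg.Lib.Clifford Cfsg.Lib.PF Cfsg.Lib.PF5

/-- Let G be a finite group and H ≤ L subgroups with L of odd order, H ≠ ⊥ nilpotent and normal in L with a nontrivial complement W₁ in L (H ⊓ W₁ = ⊥, H ⊔ W₁ = L) acting on H without non-identity fixed points (L is a Frobenius group with kernel H), and suppose the underlying set of H is a TI-subset of G whose normaliser is L. Let S be the set of functions on L induced from the non-principal irreducible characters of H. Then (S, L minus 1, induction to G) is coherent. -/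
theorem result {G : Type*} [Group G] [Fintype G] (H L W₁ : Subgroup G) [Fintype L] (hodd : Odd (Nat.card L)) (hHL : H ≤ L) (hW₁L : W₁ ≤ L) (hH1 : H ≠ ⊥) (hW1 : W₁ ≠ ⊥) (hnil : Group.IsNilpotent H) (hHn : ∀ x ∈ L, ∀ h ∈ H, x * h * x⁻¹ ∈ H) (hinf : H ⊓ W₁ = ⊥) (hsup : H ⊔ W₁ = L) (hfpf : ∀ w ∈ W₁, w ≠ 1 → ∀ h ∈ H, w * h = h * w → h = 1) (hTI : Cfsg.IsTISubset (H : Set G)) (hN : Subgroup.normalizer (H : Set G) = L) : Cfsg.IsCoherent (Cfsg.inducedIrrAbove (H.subgroupOf L) ⊥) {1}ᶜ (fun α : L → ℂ => Cfsg.indFun L α) := by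
  classical
  obtain ⟨ν, h1, h2⟩ := Sibley_coherence (W₁ := W₁) hodd hnil (hN ▸ normedTI_of_isTISubset hTI hH1)
    (Or.inl ⟨⟨hH1, hW1, (Nrm.mono hHn hW₁L).le_normalizer, fun w hw hw1 => (Subgroup.eq_bot_iff_forall _).2
      fun h hh => hfpf w hw hw1 h hh.1 (Subgroup.mem_centralizer_iff.1 hh.2 w rfl)⟩, hsup⟩)
  let ex : (L → ℂ) →ₗ[ℂ] (G → ℂ) :=
    ⟨⟨extendByZero L, fun a b => funext fun x => by
        by_cases hx : x ∈ L <;> simp [Lib.Char.extendByZero_of_mem, Lib.Char.extendByZero_of_notMem, hx]⟩,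
      fun c a => funext fun x => by by_cases hx : x ∈ L <;> simp [Lib.Char.extendByZero_of_mem, Lib.Char.extendByZero_of_notMem, hx]⟩
  have ex1 : ∀ α, res L (ex α) = α := res_extendByZero L
  have hT : ∀ φ, φ ∈ inducedIrrAbove (H.subgroupOf L) ⊥ ↔ ∃ χ ∈ seqIndD H L H ⊥, res L χ = φ := fun φ => by
    let f := Subgroup.subgroupOfEquivOfLe hHL
    constructor
    · rintro ⟨θ, a, b, -, rfl⟩
      obtain ⟨ψ, e, h0⟩ := exists_res H fun x => θ (f.symm x)
      have e' : θ = fun x : H.subgroupOf L => ψ x := funext fun x => congrFun e (f x)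
      refine ⟨_, mem_seqIndC1.2 ⟨ψ, mem_Irr.2 ⟨?_, h0⟩, fun c => b ?_, rfl⟩, by rw [res_ind hHL, e']⟩
      · unfold IrrOn; rw [← e]; exact a.comp_equiv f.symm
      · rw [e', c]; exact funext fun x => Lib.PF.cf1_of_mem x.2
    · rintro ⟨_, hχ, rfl⟩
      obtain ⟨ψ, a, b, rfl⟩ := mem_seqIndC1.1 hχ
      refine ⟨fun x : H.subgroupOf L => ψ x, (show IsIrrCharacter H (res H ψ) from irrOn_of_mem a).comp_equiv f,
        fun c => b (eq_of_mem_Irr a (cf1_irr H) fun x hx => ?_), fun x hx => by simp only [Subgroup.mem_bot.1 hx]; rfl,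
        res_ind hHL ψ⟩
      rw [Lib.PF.cf1_of_mem hx]
      exact congrFun c ⟨⟨x, hHL hx⟩, hx⟩
  have hZ : ∀ α ∈ zspan (inducedIrrAbove (H.subgroupOf L) ⊥), ex α ∈ ZS (seqIndD H L H ⊥) := fun α hα =>
    Submodule.span_induction (p := fun α _ => ex α ∈ ZS (seqIndD H L H ⊥)) (fun φ hφ => by
        obtain ⟨χ, a, rfl⟩ := (hT φ).1 hφ
        have : ex (res L χ) = χ :=
          (extendByZero_res L χ).trans (cut_eq_self (seqInd_ch hHL (seqIndD_subT a)).2)
        exact this.symm ▸ mem_ZS a)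
      (by rw [map_zero]; exact zero_mem _) (fun x y _ _ a b => by rw [map_add]; exact add_mem a b)
      (fun c x _ a => by rw [map_zsmul]; exact Submodule.smul_mem _ c a) hα
  refine ⟨?_, fun α => ν (ex α), ⟨fun _ _ _ _ => by simp only [map_add], fun _ _ _ => by simp only [map_zsmul],
    fun α hα β hβ => by rw [← dot_top, h1.dot_eq _ (hZ α hα) _ (hZ β hβ), dot_eq_classInner, ex1, ex1],
    fun α hα => Lib.PF.mem_VC_top.1 (h1.vc _ (hZ α hα))⟩, fun α hα => ?_⟩
  · obtain ⟨χ, hχ⟩ := seqIndD_nonempty (K := H) (L := L) le_rfl (nrm_of_normal H ⊥) (bot_lt_iff_ne_bot.2 hH1)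
    have hv := seqInd_vc hHL (seqIndD_subT hχ)
    refine ⟨res L χ - res L (star χ), ⟨sub_mem (Submodule.subset_span ((hT _).2 ⟨_, hχ, rfl⟩))
      (Submodule.subset_span ((hT _).2 ⟨_, seqIndD_star hχ, rfl⟩)), fun x hx => ?_⟩, fun e => ?_⟩
    · rw [show x = 1 by simpa using hx]
      exact sub_eq_zero.2 (star_one_of_vc hv).symm
    · refine seqIndD_star_ne hHL hHn hodd le_rfl hχ (funext fun x => ?_)
      by_cases hx : x ∈ L
      · exact (sub_eq_zero.1 (congrFun e ⟨x, hx⟩)).symm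
      · simp [hv.2 x hx]
  · have := h2 _ ⟨hZ α hα.1, (congrFun (ex1 α) 1).trans (hα.2 1 (by simp))⟩
    exact this.trans (indFun_eq_ind L α).symm

end Cfsg.Agent.S1524
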