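import Cfsg.Statements.S1526
import Cfsg.Agent.Lib.FT.Cor

set_option autoImplicit false
open Cfsg

namespace Cfsg.Agent.S1526

open Cfsg.Lib.PF Cfsg.Lib.Clifford Cfsg.Lib.BG1 Cfsg.Lib.FT

/-- Let G be a finite group of odd order and (L i, H i), i in a finite index type with at least two elements, pairs of subgroups with H i a nontrivial proper normal subgroup of L i such that every non-identity element of H i has its centraliser within L i contained in H i (L i is a Frobenius group with kernel H i), the orders of the H i pairwise coprime, and the underlying set of each H i a TI-subset of G with normaliser L i. If every non-identity element of G is conjugate to an element of some H i, we reach a contradiction. -/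
theorem result {G : Type*} [Group G] [Finite G] (hodd : Odd (Nat.card G)) {ι : Type*} [Fintype ι] (hι : 2 ≤ Fintype.card ι) (L H : ι → Subgroup G) (hHL : ∀ i, H i < L i) (hH1 : ∀ i, H i ≠ ⊥) (hHn : ∀ i, ∀ x ∈ L i, ∀ h ∈ H i, x * h * x⁻¹ ∈ H i) (hfrob : ∀ i, ∀ h ∈ H i, h ≠ 1 → L i ⊓ Subgroup.centralizer ({h} : Set G) ≤ H i) (hcop : ∀ i j, i ≠ j → Nat.Coprime (Nat.card (H i)) (Nat.card (H j))) (hTI : ∀ i, Cfsg.IsTISubset (H i : Set G) ∧ Subgroup.normalizer (H i : Set G) = L i) (hcover : ∀ g : G, g ≠ 1 → ∃ i, ∃ x : G, x * g * x⁻¹ ∈ H i) : False := by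
  classical
  have hq : ∀ i, FrobQuo (L i) (H i) ⊥ := fun i =>
    ⟨bot_lt_iff_ne_bot.2 (hH1 i), hHL i, hHn i, fun g _ n hn => by simpa using hn,
      fun x hx y hy hy1 h => hfrob i y hy (by simpa using hy1) ⟨hx, by
        rw [Subgroup.mem_bot, mul_inv_eq_one, mul_inv_eq_iff_eq_mul] at h
        exact Subgroup.mem_centralizer_singleton_iff.2 h⟩⟩
  have hE : ∀ i, ∃ E, FrobIn (L i) (H i) E := fun i => by
    have hd := (hq i).index_dvd
    rw [Subgroup.relIndex_bot_left] at hd
    have hc : (Nat.card (H i)).Coprime ((H i).relIndex (L i)) :=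
      Nat.Coprime.coprime_dvd_right hd
        ((Nat.coprime_self_sub_right (Nat.card_pos (α := H i))).2 (Nat.coprime_one_right _))
    obtain ⟨E, h1, h2, h3, -⟩ :=
      Cfsg.Lib.Hall.sz_exists_internal (hHL i).le (hq i).nrm_ker.le_normalizer hc
    exact ⟨E, frobIn_of_frobQuo (hq i) (hH1 i)
      (isComplIn_of_sup (h1.trans (hq i).nrm_ker.le_normalizer) h2 h3)⟩
  choose E hE using hE
  obtain ⟨g, hg, h⟩ := no_coherent_Frobenius_partition (L := L) (H := H) (E := E) Finset.univ hodd
    (fun i _ => hE i)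
    (fun i _ => Regular.nilpotent (hE i).1.2.2.1
      (odd_order_solvable _ (odd_card_subgroup hodd _)) (hE i).1.2.1 (hE i).1.2.2.2)
    (fun i _ => by
      rw [← (hTI i).2]
      obtain ⟨⟨x, hx⟩, hx1⟩ := ((H i).bot_or_exists_ne_one.resolve_left (hH1 i)).elim
        fun x hx => (⟨⟨x, hx.1⟩, hx.2⟩ : ∃ x : H i, (x : G) ≠ 1)
      exact ⟨⟨x, hx, hx1⟩, le_top, fun a ha g _ =>
        ⟨fun h => by_contra fun hg => ha.2 ((hTI i).1 g hg a ha.1 h.1), fun hg =>
          ⟨(Subgroup.mem_normalizer_iff.1 hg a).1 ha.1, fun h => ha.2 (by simpa using h)⟩⟩⟩)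
    (fun i _ j _ => hcop i j) (by simpa using hι)
  obtain ⟨i, x, hx⟩ := hcover g hg
  exact h i (Finset.mem_univ i) ⟨_, ⟨hx, fun h => hg (by simpa using h)⟩, x⁻¹, trivial, by group⟩

end Cfsg.Agent.S1526
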