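import Cfsg.Statements.S1527
import Cfsg.Agent.Lib.PF.Ssq

set_option autoImplicit false
open Cfsg

namespace Cfsg.Agent.S1527

open Cfsg.Lib.PF Cfsg.Lib.Clifford

/-- Let G be a finite group and H i (i in a finite index type) subgroups of pairwise coprime orders, each of whose underlying sets is a TI-subset of G, such that every non-identity element of G is conjugate to an element of some H i. Then Nat.card G − 1 = Σ_i [G : N_G(H i)] · (Nat.card (H i) − 1). -/
theorem result {G : Type*} [Group G] [Finite G] {ι : Type*} [Fintype ι] (H : ι → Subgroup G) (hcop : ∀ i j, i ≠ j → Nat.Coprime (Nat.card (H i)) (Nat.card (H j))) (hTI : ∀ i, Cfsg.IsTISubset (H i : Set G)) (hcover : ∀ g : G, g ≠ 1 → ∃ i, ∃ x : G, x * g * x⁻¹ ∈ H i) : Nat.card G - 1 = ∑ i, (Subgroup.normalizer (H i : Set G)).index * (Nat.card (H i) - 1) := by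
  classical
  have h1 : ∀ i, (classSupp (sharp (H i)) ⊤).ncard = (Subgroup.normalizer (H i : Set G)).index * (Nat.card (H i) - 1) :=
    fun i => by
      rcases (sharp (H i)).eq_empty_or_nonempty with e | e
      · have := Set.ncard_sdiff_singleton_of_mem (H i).one_mem
        rw [show (H i : Set G).ncard = Nat.card (H i) from rfl, show (H i : Set G) \ {1} = ∅ from e] at this
        simp [← this, e, classSupp]
      have : NormedTI (sharp (H i)) ⊤ (Subgroup.normalizer (H i : Set G)) := ⟨e, le_top, fun a ha g _ =>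
        ⟨fun h => by_contra fun hg => ha.2 (hTI i g hg a ha.1 h.1), fun hg =>
          ⟨(Subgroup.mem_normalizer_iff.1 hg a).1 ha.1, fun h => ha.2 (by simpa using h)⟩⟩⟩
      rw [this.card_classSupp, Subgroup.relIndex_top_right, mul_comm, Set.ncard_sdiff_singleton_of_mem (H i).one_mem]
      rfl
  have h2 : ({1}ᶜ : Set G) = ⋃ i, classSupp (sharp (H i)) ⊤ := by
    ext g
    simp only [Set.mem_compl_iff, Set.mem_singleton_iff, Set.mem_iUnion]
    constructor
    · intro hg
      obtain ⟨i, x, hx⟩ := hcover g hg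
      exact ⟨i, _, ⟨hx, fun h => hg (by simpa using h)⟩, x⁻¹, trivial, by group⟩
    · rintro ⟨i, a, ha, x, -, rfl⟩ h
      exact ha.2 (by simpa using h)
  rw [← Finset.sum_congr rfl fun i _ => h1 i, ← Set.ncard_singleton (1 : G), ← Set.ncard_compl, h2,
    Set.ncard_iUnion_of_finite (fun _ => Set.toFinite _),
    finsum_eq_sum_of_fintype]
  intro i j hij
  refine Set.disjoint_left.mpr ?_
  rintro _ ⟨a, ha, x, -, rfl⟩ ⟨b, hb, y, -, e⟩
  have h3 : orderOf a = orderOf b := by
    rw [← MulAut.conj_apply, ← MulAut.conj_apply] at e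
    rw [← (MulAut.conj x).orderOf_eq a, e, MulEquiv.orderOf_eq]
  exact ha.2 (orderOf_eq_one_iff.1 (Nat.eq_one_of_dvd_coprimes (hcop i j hij) ((H i).orderOf_dvd_natCard ha.1)
    (h3 ▸ (H j).orderOf_dvd_natCard hb.1)))

end Cfsg.Agent.S1527
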