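import Cfsg.Statements.S1529
import Cfsg.Agent.Lib.PF5.Bridge

set_option autoImplicit false
open Cfsg

namespace Cfsg.Agent.S1529
open Cfsg.Lib.Char Cfsg.Lib.Clifford Cfsg.Lib.PF Cfsg.Lib.PF5

/-- Let N be a subgroup of the finite group G, S a set of irreducible characters of N with at least two members, and τ₁ a linear isometry on the integer combinations of S with virtual-character values such that τ₁ α vanishes at 1 whenever α ∈ ℤ[S] does. Then there is ε ∈ {1, −1} such that ε • τ₁ χ is an irreducible character of G for every χ ∈ S, and distinct members of S give distinct characters. -/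
theorem result {G : Type*} [Group G] [Fintype G] (N : Subgroup G) [Fintype N] (S : Set (N → ℂ)) (hirr : ∀ χ ∈ S, Cfsg.IsIrrCharacter N χ) (htwo : ∃ χ ∈ S, ∃ ψ ∈ S, χ ≠ ψ) (τ₁ : (N → ℂ) → (G → ℂ)) (hτ₁ : Cfsg.IsLinearIsometryOn (Cfsg.zspan S) τ₁) (h0 : ∀ α ∈ Cfsg.zspan S, α 1 = 0 → τ₁ α 1 = 0) : ∃ ε : ℂ, (ε = 1 ∨ ε = -1) ∧ (∀ χ ∈ S, Cfsg.IsIrrCharacter G (ε • τ₁ χ)) ∧ (∀ χ ∈ S, ∀ ψ ∈ S, τ₁ χ = τ₁ ψ → χ = ψ) := by
  lift S to Finset (N → ℂ) using (Irr (⊤ : Subgroup N)).finite_toSet.subset fun χ hχ => mem_Irr_top.2 (hirr χ hχ)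
  obtain ⟨σ, e⟩ := IsLinearIsometryOn.exists_linear hτ₁
  have hI := isom_of_isometry (E := ZS S) hτ₁ e
  have hi := fun χ hχ => mem_Irr_top.2 (hirr χ hχ)
  have hd := fun χ (hχ : χ ∈ S) => hI.dirr (mem_ZS hχ) (Or.inl (hi χ hχ))
  obtain ⟨χ₀, hχ₀, -⟩ := htwo
  obtain ⟨ε, hε, h1⟩ := dirr_exists_sign (hd χ₀ hχ₀)
  refine ⟨ε, hε, fun χ hχ => ?_, fun χ hχ ψ hψ h => hI.inj (mem_ZS hχ) (mem_ZS hψ) (cf_of_irr (hi χ hχ))
    (cf_of_irr (hi ψ hψ)) (by rw [e _ (mem_ZS hχ), e _ (mem_ZS hψ), h])⟩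
  rw [← e _ (mem_ZS hχ)]
  refine mem_Irr_top.1 (dirr_irr_of_re (dirr_sign_smul hε (hd χ hχ)) ?_)
  have h2 := smul_sub_smul_mem_ZS0 (mem_ZS hχ) (mem_ZS hχ₀) (Lib.PF5.vc_one_int (vc_of_irr (hi χ₀ hχ₀)))
    (Lib.PF5.vc_one_int (vc_of_irr (hi χ hχ))) (mul_comm _ _)
  have h3 := h0 _ h2.1 h2.2
  rw [← e _ h2.1, map_sub, map_smul, map_smul, Pi.sub_apply, Pi.smul_apply, Pi.smul_apply, sub_eq_zero,
    ch_one (ch_of_irr (hi χ₀ hχ₀)), ch_one (ch_of_irr (hi χ hχ))] at h3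
  have h4 : (charDegree χ₀ : ℂ) * (ε • σ χ) 1 = charDegree χ * charDegree (ε • σ χ₀) := by
    rw [← ch_one (ch_of_irr h1)]
    simp only [Pi.smul_apply, smul_eq_mul] at h3 ⊢
    linear_combination ε * h3
  have h5 := congrArg Complex.re h4
  rw [← Nat.cast_mul, Complex.natCast_re, ← Complex.ofReal_natCast, Complex.re_ofReal_mul] at h5
  exact (mul_nonneg_iff_of_pos_left (Nat.cast_pos.2 (irrOn_of_mem (hi χ₀ hχ₀)).deg_pos)).1 (h5 ▸ Nat.cast_nonneg _)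

end Cfsg.Agent.S1529
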