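import Cfsg.Statements.S1530
import Cfsg.Agent.Lib.BN.Tifn

set_option autoImplicit false
open Cfsg

namespace Cfsg.Agent.S1530

open Cfsg.Lib.Char Cfsg.Lib.Clifford Cfsg.Lib.PF Cfsg.Lib.PF5 Cfsg.Lib.BN
attribute [-instance] Cfsg.Lib.PF.decEqFun

/-- Let N be a subgroup of the finite group G and S₀ a finite set of irreducible characters of N, χ an irreducible character of N not in S₀, with degrees ξ 1 = d ξ. Let τ be a linear isometry on the integer combinations of S₀ ∪ {χ} vanishing at 1, with values virtual characters of G vanishing at 1, such that (S₀, N minus 1, τ) is coherent. If some ψ ∈ S₀ has d ψ dividing d χ and 2 · d ψ · d χ < Σ_{ξ ∈ S₀} (d ξ)², then (S₀ ∪ {χ}, N minus 1, τ) is coherent. -/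
theorem result {G : Type*} [Group G] [Fintype G] (N : Subgroup G) [Fintype N] (S₀ : Finset (N → ℂ)) (χ : N → ℂ) (hirr : ∀ ξ ∈ S₀, Cfsg.IsIrrCharacter N ξ) (hχ : Cfsg.IsIrrCharacter N χ) (hχS : χ ∉ S₀) (d : (N → ℂ) → ℕ) (hd : ∀ ξ ∈ insert χ S₀, ξ 1 = (d ξ : ℂ)) (τ : (N → ℂ) → (G → ℂ)) (hτ : Cfsg.IsLinearIsometryOn (Cfsg.zspanOn (↑(insert χ S₀) : Set (N → ℂ)) {1}ᶜ) τ) (hτ1 : ∀ α ∈ Cfsg.zspanOn (↑(insert χ S₀) : Set (N → ℂ)) {1}ᶜ, τ α 1 = 0) (hcoh : Cfsg.IsCoherent (↑S₀ : Set (N → ℂ)) {1}ᶜ τ) (ψ : N → ℂ) (hψ : ψ ∈ S₀) (hdvd : d ψ ∣ d χ) (hlt : 2 * d ψ * d χ < ∑ ξ ∈ S₀, d ξ ^ 2) : Cfsg.IsCoherent (↑(insert χ S₀) : Set (N → ℂ)) {1}ᶜ τ := by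
  have hI := hτ
  rw [zspanOn_coe] at hI hτ1
  obtain ⟨σ, e⟩ := IsLinearIsometryOn.exists_linear hI
  have hsub : S₀ ⊆ insert χ S₀ := Finset.subset_insert _ _
  have hS : S₀ ⊆ Irr ⊤ := fun ξ hξ => mem_Irr_top.2 (hirr ξ hξ)
  have h1 := hd χ (Finset.mem_insert_self _ _)
  have h2 := fun ξ hξ => hd ξ (hsub hξ)
  obtain ⟨a, ha⟩ := hdvd
  have hlt' : 2 * deg χ * deg ψ < ∑ ξ ∈ S₀, deg ξ ^ 2 := by
    rw [deg_of_eq_nat h1, deg_of_eq_nat (h2 ψ hψ), Finset.sum_congr rfl fun ξ hξ => by rw [deg_of_eq_nat (h2 ξ hξ)],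
      mul_right_comm]
    exact_mod_cast hlt
  refine isCoherent_of_coherent (by
    convert feit_ext hS (mem_Irr_top.2 hχ) hχS (by convert isom_of_isometry hI e)
      (fun α hα => by
        have hα' : α ∈ ZS0 (insert χ S₀) := by convert hα
        rw [e α hα', hτ1 α hα'])
      (coherent_of_isCoherent hcoh fun α hα => e α (ZS0_mono hsub hα)) hψ
      ⟨a, by rw [h1, h2 ψ hψ, ha]; push_cast; ring⟩ hlt') e ?_
  · obtain ⟨α, hα, h0⟩ := hcoh.1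
    rw [zspanOn_coe] at hα
    exact ⟨α, ZS0_mono hsub hα, h0⟩

end Cfsg.Agent.S1530
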