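import Cfsg.Statements.S1531
import Cfsg.Agent.Lib.BN.Tifn

set_option autoImplicit false
open Cfsg

namespace Cfsg.Agent.S1531

open Cfsg.Lib.Char Cfsg.Lib.Clifford Cfsg.Lib.PF Cfsg.Lib.PF5 Cfsg.Lib.BN

/-- Let N be a subgroup of the finite group G, S a set of irreducible characters of N, and α a linear isometry on the integer combinations of S vanishing at 1 with values virtual characters of G vanishing at 1. Let X, Y ⊆ S be disjoint, each with at least two members, and σ, τ linear isometries on ℤ[X], ℤ[Y] into virtual characters agreeing with α on the members vanishing at 1. Then ⟨σ χ, τ η⟩ = 0 for χ ∈ X, η ∈ Y; and if for some χ₀ ∈ X, η₀ ∈ Y with degrees c = χ₀ 1, e = η₀ 1 one has α (c • η₀ − e • χ₀) = c • τ η₀ − e • σ χ₀, then (X ∪ Y, N minus 1, α) is coherent. -/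
theorem result {G : Type*} [Group G] [Fintype G] (N : Subgroup G) [Fintype N] (S X Y : Set (N → ℂ)) (hirr : ∀ ξ ∈ S, Cfsg.IsIrrCharacter N ξ) (hXS : X ⊆ S) (hYS : Y ⊆ S) (hXY : Disjoint X Y) (hX2 : ∃ a ∈ X, ∃ b ∈ X, a ≠ b) (hY2 : ∃ a ∈ Y, ∃ b ∈ Y, a ≠ b) (α : (N → ℂ) → (G → ℂ)) (hα : Cfsg.IsLinearIsometryOn (Cfsg.zspanOn S {1}ᶜ) α) (hα1 : ∀ θ ∈ Cfsg.zspanOn S {1}ᶜ, α θ 1 = 0) (σ τ : (N → ℂ) → (G → ℂ)) (hσ : Cfsg.IsLinearIsometryOn (Cfsg.zspan X) σ) (hσα : ∀ θ ∈ Cfsg.zspanOn X {1}ᶜ, σ θ = α θ) (hτ : Cfsg.IsLinearIsometryOn (Cfsg.zspan Y) τ) (hτα : ∀ θ ∈ Cfsg.zspanOn Y {1}ᶜ, τ θ = α θ) : (∀ χ ∈ X, ∀ η ∈ Y, Cfsg.classInner (σ χ) (τ η) = 0) ∧ ((∃ χ₀ ∈ X, ∃ η₀ ∈ Y, α (χ₀ 1 • η₀ - η₀ 1 • χ₀) = χ₀ 1 • τ η₀ - η₀ 1 • σ χ₀) → Cfsg.IsCoherent (X ∪ Y) {1}ᶜ α) := by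
  classical
  have hfin := (Irr (⊤ : Subgroup N)).finite_toSet.subset fun χ hχ => mem_Irr_top.2 (hirr χ hχ)
  lift X to Finset (N → ℂ) using hfin.subset hXS
  lift Y to Finset (N → ℂ) using hfin.subset hYS
  lift S to Finset (N → ℂ) using hfin
  rw [zspanOn_coe] at hα hα1 hσα hτα
  rw [Finset.coe_subset] at hXS hYS
  obtain ⟨a, e⟩ := IsLinearIsometryOn.exists_linear hα
  obtain ⟨s, es⟩ := IsLinearIsometryOn.exists_linear hσ
  obtain ⟨t, et⟩ := IsLinearIsometryOn.exists_linear hτ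
  have hI := isom_of_isometry hα e
  have hS : S ⊆ Irr ⊤ := fun ξ hξ => mem_Irr_top.2 (hirr ξ hξ)
  have hX := hXS.trans hS
  have hY := hYS.trans hS
  have cs : CoherentWith ⊤ ⊤ X a s := ⟨isom_of_isometry (E := ZS X) hσ es, fun θ hθ => by
    rw [es θ hθ.1, hσα θ hθ, e θ (ZS0_mono hXS hθ)]⟩
  have ct : CoherentWith ⊤ ⊤ Y a t := ⟨isom_of_isometry (E := ZS Y) hτ et, fun θ hθ => by
    rw [et θ hθ.1, hτα θ hθ, e θ (ZS0_mono hYS hθ)]⟩
  have h1 : ∀ θ ∈ ZS0 S, a θ 1 = 0 := fun θ hθ => by rw [e θ hθ, hα1 θ hθ]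
  have hi := fun χ (hχ : χ ∈ S) => Lib.PF.vc_one_int (irr_vc (hS hχ))
  have o : ∀ χ ∈ X, ∀ η ∈ Y, dot ⊤ χ η = 0 := fun χ hχ η hη =>
    irr_dot_ne (hX hχ) (hY hη) fun h => Set.disjoint_left.1 hXY hχ (h ▸ hη)
  have key : ∀ χ ∈ X, ∀ η ∈ Y, dot ⊤ (s χ) (t η) = 0 := fun χ hχ η hη => by
    obtain ⟨χ', hχ', n1⟩ := Finset.exists_mem_ne (Finset.one_lt_card.2 hX2) χ
    obtain ⟨η', hη', n2⟩ := Finset.exists_mem_ne (Finset.one_lt_card.2 hY2) η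
    have m1 := smul_sub_smul_mem_ZS0 (mem_ZS hχ) (mem_ZS hχ') (hi _ (hXS hχ')) (hi _ (hXS hχ)) (mul_comm _ _)
    have m2 := smul_sub_smul_mem_ZS0 (mem_ZS hη) (mem_ZS hη') (hi _ (hYS hη')) (hi _ (hYS hη)) (mul_comm _ _)
    have k := hI.dot_eq _ (ZS0_mono hXS m1) _ (ZS0_mono hYS m2)
    rw [← cs.eq_on _ m1, ← ct.eq_on _ m2] at k
    simp only [map_sub, map_smul, dot_sub_left, dot_smul_left, dot_sub_right, dot_smul_right_int (hi _ (hYS hη')),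
      dot_smul_right_int (hi _ (hYS hη)), o _ hχ _ hη, o _ hχ' _ hη, o _ hχ _ hη', o _ hχ' _ hη'] at k
    have k1 := coh_one hX cs (fun θ hθ => h1 θ (ZS0_mono hXS hθ)) hχ hχ'
    have k2 := coh_one hY ct (fun θ hθ => h1 θ (ZS0_mono hYS hθ)) hη hη'
    have k3 := coh_dot hX cs hχ' hχ
    have k4 := coh_dot hY ct hη hη'
    rw [if_neg n1] at k3
    rw [if_neg n2.symm] at k4
    have k5 := (ct.dirr hη (hY hη)).dot_self
    have k6 := (ct.dirr hη' (hY hη')).dot_self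
    have k7 := (ct.dirr hη (hY hη)).one_ne_zero
    have p : ∀ φ ∈ S, ∀ ψ ∈ S, ∀ φ' ∈ S, ∀ ψ' ∈ S, φ 1 * ψ 1 + φ' 1 * ψ' 1 ≠ 0 := fun φ a ψ b φ' c ψ' d => by
      rw [← deg_eq (hi _ a), ← deg_eq (hi _ b), ← deg_eq (hi _ c), ← deg_eq (hi _ d)]
      have := irr_deg_pos (hS a); have := irr_deg_pos (hS b); have := irr_deg_pos (hS c); have := irr_deg_pos (hS d)
      exact_mod_cast (by positivity : 0 < deg φ * deg ψ + deg φ' * deg ψ').ne'
    have p1 := p _ (hXS hχ') _ (hYS hη') _ (hXS hχ) _ (hYS hη)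
    have p2 := p _ (hXS hχ') _ (hYS hη) _ (hXS hχ) _ (hYS hη')
    have p3 := mul_ne_zero (Lib.PF.irr_one_ne_zero (hX hχ')) (Lib.PF.irr_one_ne_zero (hY hη'))
    rcases (cs.dirr hχ (hX hχ)).dot_cases (ct.dirr hη (hY hη)) with h | h | h
    · rw [h] at k k1 k3
      rw [k3, k4, k5] at k
      exfalso
      rcases (cs.dirr hχ' (hX hχ')).dot_cases (ct.dirr hη' (hY hη')) with h' | h' | h'
      · rw [h', k6] at k; exact p1 (by linear_combination k)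
      · rw [h', Pi.neg_apply] at k1
        exact mul_ne_zero p2 k7 (by linear_combination η 1 * k1 + χ 1 * k2)
      · rw [h'] at k; exact p3 (by linear_combination k)
    · rw [h] at k k1 k3
      rw [dot_neg_right, neg_eq_zero] at k3
      rw [dot_neg_left, dot_neg_left, k3, k4, k5] at k
      exfalso
      rcases (cs.dirr hχ' (hX hχ')).dot_cases (ct.dirr hη' (hY hη')) with h' | h' | h'
      · rw [h', Pi.neg_apply] at k1
        exact mul_ne_zero p2 k7 (by linear_combination -η 1 * k1 + χ 1 * k2)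
      · rw [h', dot_neg_left, k6] at k; exact p1 (by linear_combination -k)
      · rw [h'] at k; exact p3 (by linear_combination -k)
    · exact h
  refine ⟨fun χ hχ η hη => by rw [← dot_top, ← es χ (mem_ZS hχ), ← et η (mem_ZS hη), key χ hχ η hη], ?_⟩
  rintro ⟨χ, hχ, η, hη, h⟩
  obtain ⟨δ, e1, c1⟩ := exists_shift (fun χ hχ => hi _ (hXS hχ)) cs (mem_ZS hχ) (Lib.PF.irr_one_ne_zero (hX hχ))
  obtain ⟨δ', e2, c2⟩ := exists_shift (fun χ hχ => hi _ (hYS hχ)) ct (mem_ZS hη) (Lib.PF.irr_one_ne_zero (hY hη))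
  have m := smul_sub_smul_mem_ZS0 (mem_ZS (hYS hη)) (mem_ZS (hXS hχ)) (hi _ (hXS hχ)) (hi _ (hYS hη)) (mul_comm _ _)
  rw [← e _ m, ← es χ (mem_ZS hχ), ← et η (mem_ZS hη), e1 _ (mem_ZS hχ), e2 _ (mem_ZS hη), map_sub, map_smul,
    map_smul, shift_apply, shift_apply] at h
  obtain rfl : δ = δ' := funext fun x => by
    have := congrFun h x
    simp only [Pi.sub_apply, Pi.add_apply, Pi.smul_apply, smul_eq_mul] at this
    exact mul_left_cancel₀ (mul_ne_zero (Lib.PF.irr_one_ne_zero (hX hχ)) (Lib.PF.irr_one_ne_zero (hY hη)))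
      (by linear_combination this)
  rw [← Finset.coe_union]
  have hU := Finset.union_subset hXS hYS
  refine isCoherent_of_coherent ⟨_, coherentWith_shift (δ := δ) (fun φ hφ ψ hψ => ?_) fun φ hφ => ?_⟩
    (fun θ hθ => e θ (ZS0_mono hU hθ)) (exists_zs0_ne (hU.trans hS) ((Finset.one_lt_card.2 hX2).trans_le
      (Finset.card_le_card Finset.subset_union_left)))
  · rcases Finset.mem_union.1 hφ with hφ | hφ <;> rcases Finset.mem_union.1 hψ with hψ | hψ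
    · exact c1.isom.dot_eq _ (mem_ZS hφ) _ (mem_ZS hψ)
    · rw [o _ hφ _ hψ, ← key _ hφ _ hψ, e1 _ (mem_ZS hφ), e2 _ (mem_ZS hψ)]
    · rw [dot_eq_zero_comm.1 (o _ hψ _ hφ), dot_eq_zero_comm, ← key _ hψ _ hφ, e1 _ (mem_ZS hψ), e2 _ (mem_ZS hφ)]
    · exact c2.isom.dot_eq _ (mem_ZS hφ) _ (mem_ZS hψ)
  · rcases Finset.mem_union.1 hφ with hφ | hφ
    exacts [c1.isom.vc _ (mem_ZS hφ), c2.isom.vc _ (mem_ZS hφ)]

end Cfsg.Agent.S1531
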