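import Cfsg.Statements.S1532
import Cfsg.Agent.Lib.BN.Tifn

set_option autoImplicit false
open Cfsg

namespace Cfsg.Agent.S1532

open Cfsg.Lib.Char Cfsg.Lib.Clifford Cfsg.Lib.PF Cfsg.Lib.BN

/-- Let G be a finite group, p an odd prime and P a Sylow p-subgroup that is non-abelian, whose underlying set is a TI-subset of G, with P properly contained in its set normaliser N and C_G(x) ≤ P for every non-identity x ∈ P. Let Z be a nontrivial subgroup of the centre of P normalised by N. Then the set of irreducible characters χ of N with χ z ≠ χ 1 for some z ∈ Z is coherent for the map induced by induction from N to G. -/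
theorem result {G : Type*} [Group G] [Fintype G] (p : ℕ) [Fact p.Prime] (hp : p ≠ 2) (P : Sylow p G) (hna : ¬ IsMulCommutative (P : Subgroup G)) (hTI : Cfsg.IsTISubset ((P : Subgroup G) : Set G)) (hlt : (P : Subgroup G) < Subgroup.normalizer ((P : Subgroup G) : Set G)) (hC : ∀ k ∈ (P : Subgroup G), k ≠ 1 → Subgroup.centralizer ({k} : Set G) ≤ (P : Subgroup G)) [Fintype ↥(Subgroup.normalizer ((P : Subgroup G) : Set G))] (Z : Subgroup G) (hZ1 : Z ≠ ⊥) (hZP : ∀ z ∈ Z, z ∈ (P : Subgroup G) ∧ ∀ y ∈ (P : Subgroup G), z * y = y * z) (hZn : ∀ x ∈ Subgroup.normalizer ((P : Subgroup G) : Set G), ∀ z ∈ Z, x * z * x⁻¹ ∈ Z) : Cfsg.IsCoherent {χ : ↥(Subgroup.normalizer ((P : Subgroup G) : Set G)) → ℂ | Cfsg.IsIrrCharacter ↥(Subgroup.normalizer ((P : Subgroup G) : Set G)) χ ∧ ∃ z : ↥(Subgroup.normalizer ((P : Subgroup G) : Set G)), (z : G) ∈ Z ∧ χ z ≠ χ 1} {1}ᶜ (fun α => Cfsg.indFun (Subgroup.normalizer ((P : Subgroup G) : Set G)) α) := by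
  have h := tifn_of (fun e => hZ1 (eq_bot_iff.2 fun z hz => e ▸ (hZP z hz).1)) hTI hlt hC
  have hF := h.frobK
  have hZ : Z ≤ P := fun z hz => (hZP z hz).1
  have hsub := seqIndD_mono (K := (P : Subgroup G)) (L := Subgroup.normalizer ((P : Subgroup G) : Set G)) hZ
    (le_refl ⊥)
  obtain ⟨n, hn⟩ := IsPGroup.iff_card.mp P.isPGroup'
  have ho := ((Fact.out : p.Prime).odd_of_ne_two hp).pow (n := n)
  refine isCoherent_ind (hsub.trans hF.subset_Irr) (hF.exL_mem_iff hZ hZn) ?_ (Coherent.mono ?_ hsub)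
  · obtain ⟨φ, hφ⟩ := seqIndD_nonempty (L := Subgroup.normalizer ((P : Subgroup G) : Set G)) hZ
      (fun g _ x hx => by rw [Subgroup.mem_bot.1 hx]; simp) (bot_lt_iff_ne_bot.2 hZ1)
    refine seqIndD_one_lt_card h.le h.nrm ?_ hZ hφ
    rw [← Lib.Transfer.card_mul_relIndex h.le, hn]
    exact ho.mul (Nat.not_even_iff_odd.mp fun he => hna (hF.comm_of_even he))
  · by_contra hc
    obtain ⟨m, hm⟩ := IsPGroup.iff_card.mp (h.sibley hc).1
    rcases m with _ | m
    · exact h.ne_bot (Subgroup.card_eq_one.mp hm)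
    · rw [← hn, hm, pow_succ] at ho; exact Nat.not_even_iff_odd.mpr ho (by simp)

end Cfsg.Agent.S1532
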