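import Cfsg.Statements.S1533
import Cfsg.Agent.Lib.BN.Tifn

set_option autoImplicit false
open Cfsg

namespace Cfsg.Agent.S1533

open Cfsg.Lib.Char Cfsg.Lib.Clifford Cfsg.Lib.PF Cfsg.Lib.BN

/-- Let G be a finite group, p an odd prime, and P a nontrivial Sylow p-subgroup whose underlying set is a TI-subset of G, with P properly contained in its set normaliser N and C_G(x) ≤ P for every non-identity x ∈ P. Let S be the set of irreducible characters χ of N with χ x ≠ χ 1 for some x ∈ P. Then either S has exactly one member, P is elementary abelian and Nat.card P = [N:P] + 1; or (S, N minus 1, induction to G) is coherent. -/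
theorem result {G : Type*} [Group G] [Fintype G] (p : ℕ) [Fact p.Prime] (hp : p ≠ 2) (P : Sylow p G) (hP1 : (P : Subgroup G) ≠ ⊥) (hTI : Cfsg.IsTISubset ((P : Subgroup G) : Set G)) (hlt : (P : Subgroup G) < Subgroup.normalizer ((P : Subgroup G) : Set G)) (hC : ∀ k ∈ (P : Subgroup G), k ≠ 1 → Subgroup.centralizer ({k} : Set G) ≤ (P : Subgroup G)) [Fintype ↥(Subgroup.normalizer ((P : Subgroup G) : Set G))] : (Nat.card {χ : ↥(Subgroup.normalizer ((P : Subgroup G) : Set G)) → ℂ // Cfsg.IsIrrCharacter ↥(Subgroup.normalizer ((P : Subgroup G) : Set G)) χ ∧ ∃ x : ↥(Subgroup.normalizer ((P : Subgroup G) : Set G)), (x : G) ∈ (P : Subgroup G) ∧ χ x ≠ χ 1} = 1 ∧ Cfsg.IsElementaryAbelian p (P : Subgroup G) ∧ Nat.card (P : Subgroup G) = ((P : Subgroup G).subgroupOf (Subgroup.normalizer ((P : Subgroup G) : Set G))).index + 1) ∨ Cfsg.IsCoherent {χ : ↥(Subgroup.normalizer ((P : Subgroup G) : Set G)) → ℂ | Cfsg.IsIrrCharacter ↥(Subgroup.normalizer ((P : Subgroup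 G) : Set G)) χ ∧ ∃ x : ↥(Subgroup.normalizer ((P : Subgroup G) : Set G)), (x : G) ∈ (P : Subgroup G) ∧ χ x ≠ χ 1} {1}ᶜ (fun α => Cfsg.indFun (Subgroup.normalizer ((P : Subgroup G) : Set G)) α) := by
  have h := tifn_of hP1 hTI hlt hC
  have hF := h.frobK
  have hS := hF.exL_mem_iff le_rfl h.nrm
  obtain ⟨n, hn⟩ := IsPGroup.iff_card.mp P.isPGroup'
  have ho := ((Fact.out : p.Prime).odd_of_ne_two hp).pow (n := n)
  by_cases h1 : (seqIndD (P : Subgroup G) (Subgroup.normalizer ((P : Subgroup G) : Set G)) P ⊥).card ≤ 1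
  · have h2 := hF.card_le_one_iff.1 h1
    obtain ⟨q, hq, h3⟩ := hF.elementary h2
    refine Or.inl ⟨(card_eq_of_exL hF.subset_Irr hS).trans (le_antisymm h1 hF.card_pos), ?_, h2⟩
    obtain ⟨⟨x, hx⟩, hx1⟩ := Subgroup.ne_bot_iff_exists_ne_one.1 hP1
    have := Fact.mk hq
    have h4 := orderOf_eq_prime (h3.2 x hx) fun e => hx1 (Subtype.ext e)
    have h5 := Subgroup.orderOf_dvd_natCard _ hx
    rw [h4, hn] at h5
    have h6 := (Nat.prime_dvd_prime_iff_eq hq Fact.out).1 (hq.dvd_of_dvd_pow h5)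
    exact ⟨h3.1, fun a ha => by rw [← h3.2 a ha, h6]⟩
  refine Or.inr (isCoherent_ind hF.subset_Irr hS (not_le.1 h1) (by_contra fun hc => ?_))
  obtain ⟨m, hm⟩ := IsPGroup.iff_card.mp (h.sibley hc).1
  rcases m with _ | m
  · exact h.ne_bot (Subgroup.card_eq_one.mp hm)
  · rw [← hn, hm, pow_succ] at ho; exact Nat.not_even_iff_odd.mpr ho (by simp)

end Cfsg.Agent.S1533
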