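import Cfsg.Statements.S1534
import Cfsg.Agent.Lib.BN.Tifn

set_option autoImplicit false
open Cfsg

namespace Cfsg.Agent.S1534

open Cfsg.Lib.Char Cfsg.Lib.Clifford Cfsg.Lib.PF Cfsg.Lib.BN

/-- Let G be a finite group and K a nontrivial nilpotent subgroup whose underlying set is a TI-subset of G, properly contained in its set normaliser N, with C_G(k) ≤ K for every non-identity k ∈ K; let e be the index of K in N and S the set of irreducible characters χ of N with χ k ≠ χ 1 for some k ∈ K. Then one of: S has exactly one member, Nat.card K = e + 1 and K is an elementary abelian p-group for some prime p; or K is a Sylow 2-subgroup of G (Nat.card K is the largest power of 2 dividing Nat.card G) and [K : [K,K]] < 4e²; or (S, N minus 1, induction to G) is coherent. -/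
theorem result {G : Type*} [Group G] [Fintype G] (K : Subgroup G) (hK1 : K ≠ ⊥) (hnil : Group.IsNilpotent K) (hTI : Cfsg.IsTISubset (K : Set G)) (hlt : K < Subgroup.normalizer (K : Set G)) (hC : ∀ k ∈ K, k ≠ 1 → Subgroup.centralizer ({k} : Set G) ≤ K) [Fintype ↥(Subgroup.normalizer (K : Set G))] : (Nat.card {χ : ↥(Subgroup.normalizer (K : Set G)) → ℂ // Cfsg.IsIrrCharacter ↥(Subgroup.normalizer (K : Set G)) χ ∧ ∃ k : ↥(Subgroup.normalizer (K : Set G)), (k : G) ∈ K ∧ χ k ≠ χ 1} = 1 ∧ Nat.card K = (K.subgroupOf (Subgroup.normalizer (K : Set G))).index + 1 ∧ ∃ p : ℕ, p.Prime ∧ Cfsg.IsElementaryAbelian p K) ∨ (Nat.card K = 2 ^ (Nat.card G).factorization 2 ∧ (⁅K, K⁆.subgroupOf K).index < 4 * (K.subgroupOf (Subgroup.normalizer (K : Set G))).index ^ 2) ∨ Cfsg.IsCoherent {χ : ↥(Subgroup.normalizer (K : Set G)) → ℂ | Cfsg.IsIrrCharacter ↥(Subgroup.normalizer (K : Set G)) χ ∧ ∃ k : ↥(Subgroup.normalizer (K : Set G)), (k : G) ∈ K ∧ χ k ≠ χ 1} {1}ᶜ (fun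 α => Cfsg.indFun (Subgroup.normalizer (K : Set G)) α) := by
  have h := tifn_of hK1 hTI hlt hC
  have hF := h.frobK
  have hS := hF.exL_mem_iff le_rfl h.nrm
  by_cases h1 : (seqIndD K (Subgroup.normalizer (K : Set G)) K ⊥).card ≤ 1
  · have h2 := hF.card_le_one_iff.1 h1
    exact Or.inl ⟨(card_eq_of_exL hF.subset_Irr hS).trans (le_antisymm h1 hF.card_pos), h2, hF.elementary h2⟩
  by_cases hc : Coherent (Subgroup.normalizer (K : Set G)) ⊤ (seqIndD K (Subgroup.normalizer (K : Set G)) K ⊥)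
    (indL (Subgroup.normalizer (K : Set G)) ⊤)
  · exact Or.inr (Or.inr (isCoherent_ind hF.subset_Irr hS (not_le.1 h1) hc))
  obtain ⟨h2, -, h3⟩ := h.sibley hc
  refine Or.inr (Or.inl ⟨?_, h3⟩)
  obtain ⟨P, hP⟩ := h2.exists_le_sylow
  have : Nontrivial P := (Subgroup.nontrivial_iff_ne_bot _).2 fun e => hK1 (eq_bot_iff.2 (e ▸ hP))
  obtain ⟨⟨z, hz⟩, hz1⟩ := Subgroup.ne_bot_iff_exists_ne_one.1
    ((Subgroup.nontrivial_iff_ne_bot _).1 P.isPGroup'.center_nontrivial)
  have hz1 : (z : G) ≠ 1 := fun e => hz1 (Subtype.ext (Subtype.ext e))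
  have hzc : ∀ x ∈ (P : Subgroup G), x * z = z * x := fun x hx =>
    congrArg Subtype.val (Subgroup.mem_center_iff.1 hz ⟨x, hx⟩)
  obtain ⟨⟨k, hk⟩, hk1⟩ := Subgroup.ne_bot_iff_exists_ne_one.1 hK1
  have hzK := hC k hk (fun e => hk1 (Subtype.ext e))
    (Subgroup.mem_centralizer_singleton_iff.2 (hzc k (hP hk)).symm)
  rw [← P.card_eq_multiplicity, le_antisymm hP fun x hx =>
    hC z hzK hz1 (Subgroup.mem_centralizer_singleton_iff.2 (hzc x hx))]

end Cfsg.Agent.S1534
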