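import Cfsg.Statements.S1535
import Cfsg.Agent.Lib.BN.Tifn

set_option autoImplicit false
open Cfsg

namespace Cfsg.Agent.S1535

open Cfsg.Lib.Char Cfsg.Lib.Clifford Cfsg.Lib.PF Cfsg.Lib.PF5 Cfsg.Lib.BN

/-- Let N be a finite group with a proper nontrivial normal subgroup H such that every element commuting with a non-identity element of H lies in H (N is a Frobenius group with kernel H); let e be the index of H and suppose Nat.card H ≠ e + 1. Let S be the set of irreducible characters χ of N with χ h ≠ χ 1 for some h ∈ H, and τ a linear isometry on the integer combinations of S vanishing at 1, with values virtual characters of a finite group G vanishing at 1. Then (S, N minus 1, τ) is coherent, or there is a prime p with Nat.card H a power of p, H non-abelian and [H : [H,H]] ≤ 4e² + 1. -/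
theorem result {N : Type*} [Group N] [Fintype N] {G : Type*} [Group G] [Fintype G] (H : Subgroup N) [H.Normal] (hH1 : H ≠ ⊥) (hH2 : H ≠ ⊤) (hC : ∀ h ∈ H, h ≠ 1 → Subgroup.centralizer ({h} : Set N) ≤ H) (he : Nat.card H ≠ H.index + 1) (τ : (N → ℂ) → (G → ℂ)) (hτ : Cfsg.IsLinearIsometryOn (Cfsg.zspanOn {χ : N → ℂ | Cfsg.IsIrrCharacter N χ ∧ ∃ h ∈ H, χ h ≠ χ 1} {1}ᶜ) τ) (hτ1 : ∀ α ∈ Cfsg.zspanOn {χ : N → ℂ | Cfsg.IsIrrCharacter N χ ∧ ∃ h ∈ H, χ h ≠ χ 1} {1}ᶜ, τ α 1 = 0) : Cfsg.IsCoherent {χ : N → ℂ | Cfsg.IsIrrCharacter N χ ∧ ∃ h ∈ H, χ h ≠ χ 1} {1}ᶜ τ ∨ ∃ p : ℕ, p.Prime ∧ (∃ m : ℕ, Nat.card H = p ^ m) ∧ ¬ IsMulCommutative H ∧ (⁅H, H⁆.subgroupOf H).index ≤ 4 * H.index ^ 2 + 1 := by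
  have hF : FrobK ⊤ H := ⟨hH1, hH2.lt_top, nrm_of_normal ⊤ H,
    fun n hn hn1 _ _ e => hC n hn hn1 (Subgroup.mem_centralizer_singleton_iff.mpr e)⟩
  have hS : {χ : N → ℂ | Cfsg.IsIrrCharacter N χ ∧ ∃ h ∈ H, χ h ≠ χ 1} = seqIndD H ⊤ H ⊥ := by
    ext χ
    rw [Finset.mem_coe, hF.mem_iff le_rfl hF.nrm, Set.mem_ofPred_eq, ← mem_Irr_top]
    refine and_congr_right fun hχ => ?_
    rw [irr_le_ker_iff hχ, Triv]
    push Not
    rfl
  rw [hS] at hτ hτ1 ⊢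
  rw [zspanOn_coe] at hτ hτ1
  obtain ⟨σ, e⟩ := IsLinearIsometryOn.exists_linear hτ
  rw [← Subgroup.relIndex_top_right H] at he ⊢
  by_cases hc : Coherent ⊤ ⊤ (seqIndD H ⊤ H ⊥) σ
  · exact Or.inl (isCoherent_of_coherent hc e (exists_zs0_ne hF.subset_Irr
      (not_le.1 fun h => he (hF.card_le_one_iff.1 h))))
  obtain ⟨⟨p, hp, h1⟩, h2, h3⟩ := hF.feit (isom_of_isometry hτ e) (fun α hα => by rw [e α hα, hτ1 α hα]) hc
  have := Fact.mk hp
  exact Or.inr ⟨p, hp, IsPGroup.iff_card.mp h1, fun h => h2 (Subgroup.commutator_self_eq_bot_iff.mpr h), h3⟩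

end Cfsg.Agent.S1535
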