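import Cfsg.Statements.S1536
import Cfsg.Agent.Lib.Clifford.Frobenius

set_option autoImplicit false
open Cfsg

namespace Cfsg.Agent.S1536

open Cfsg.Lib.Clifford Cfsg.Lib.Char

/-- Let H be a normal subgroup of the finite group M whose order is coprime to its index. For x ∈ M: some non-principal irreducible character of H is unchanged under h ↦ θ(x h x⁻¹) if and only if some non-identity element of H commutes with x. -/
theorem result {M : Type*} [Group M] [Finite M] (H : Subgroup M) [hN : H.Normal] (hHall : Nat.Coprime (Nat.card H) H.index) (x : M) : (∃ θ : H → ℂ, Cfsg.IsIrrCharacter H θ ∧ θ ≠ (fun _ => 1) ∧ (fun h : H => θ ⟨x * h * x⁻¹, hN.conj_mem h h.2 x⟩) = θ) ↔ ∃ h ∈ H, h ≠ 1 ∧ x * h = h * x := by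
  have hN' : Nrm ⊤ H := nrm_of_normal ⊤ H
  constructor
  · rintro ⟨θ, h1, h2, h3⟩
    obtain ⟨θ, rfl, -⟩ := exists_res _ θ
    by_contra! hc
    have hC : ∀ n ∈ H, n * x = x * n → n = 1 := fun n hn e => by_contra fun h => hc n hn h e.symm
    refine h2 (funext fun y => eq_one_of_cj_eq hN' (Subgroup.mem_top x) (fun n hn m hm e => ?_) h1
      (fun n hn => congrFun h3 ⟨n, hn⟩) y y.2)
    obtain ⟨k, hk, e'⟩ := exists_conj_of_centralizer_eq_bot hN' (Subgroup.mem_top x) hC
      (H.inv_mem hm)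
    have := hC (k⁻¹ * n * k) (H.mul_mem (H.mul_mem (H.inv_mem hk) hn) hk) (by
      calc k⁻¹ * n * k * x = k⁻¹ * m⁻¹ * (m * n * m⁻¹) * m * (k * x * k⁻¹) * k := by group
        _ = k⁻¹ * (m⁻¹ * x) * n * k := by rw [e, e']; group
        _ = _ := by rw [← e']; group)
    calc n = k * (k⁻¹ * n * k) * k⁻¹ := by group
      _ = 1 := by rw [this]; group
  · rintro ⟨h, h1, h2, h3⟩
    obtain ⟨θ, a, b, c⟩ := exists_cj_eq hN' (Subgroup.mem_top x) h1 H.one_mem h2
      (by rw [h3]; group)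
    refine ⟨res H θ, irrOn_of_mem a, fun e => b (eq_of_mem_Irr a (cut_one_mem H) fun y hy => ?_),
      funext fun y => c y y.2⟩
    rw [cut_of_mem _ hy]; exact congrFun e ⟨y, hy⟩

end Cfsg.Agent.S1536
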