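import Cfsg.Statements.S1551
import Cfsg.Agent.Lib.Golay.Cls

set_option autoImplicit false
open scoped Pointwise
open Cfsg

namespace Cfsg.Agent.S1551

open Cfsg.Lib.Golay
open scoped Pointwise
set_option maxRecDepth 100000
set_option linter.unusedSimpArgs false
set_option maxHeartbeats 400000

/-- Structure of a sextet stabiliser: it induces every permutation of the six tetrads, the subgroup fixing each tetrad setwise has order 192, and there is a normal subgroup of order 64 consisting of elements squaring to the identity. -/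
theorem result (S : Finset (Finset Cfsg.GolayPt)) (hS : S ∈ Cfsg.sextets) : (∀ e : Equiv.Perm ↥S, ∃ g ∈ MulAction.stabilizer Cfsg.M24 S, ∀ t : ↥S, (g : Equiv.Perm Cfsg.GolayPt) • (t : Finset Cfsg.GolayPt) = ((e t : ↥S) : Finset Cfsg.GolayPt)) ∧ Nat.card {g : ↥(MulAction.stabilizer Cfsg.M24 S) // ∀ t ∈ S, ((g : Cfsg.M24) : Equiv.Perm Cfsg.GolayPt) • t = t} = 192 ∧ ∃ N : Subgroup ↥(MulAction.stabilizer Cfsg.M24 S), N.Normal ∧ Nat.card N = 64 ∧ ∀ x ∈ N, x * x = 1 := by

  obtain ⟨σ, hσ, e⟩ := std_sextet hS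
  have c1 := (ConjA.base hσ).inf_stab (sx 0xda1)
  have c2 := c1.inf (ConjA.fixing σ (sx 0xda1 : Set (Finset GolayPt)))
  have c3 := ConjTo.stab hσ (sx 0xda1)
  rw [← Finset.coe_smul_finset, ← e] at c2
  rw [← e] at c1 c3
  have h1 := Coding.chainO_le gc.setCode imgT (G := ⊤) (fun g hg => hg.1.impl_setT)
    [(0x24028,6,[[0,1],[1,1]]),(0x41900,5,[[1,1],[0,1,0],[1,0,0,0,1]]),(0x108600,4,[[0],[2,1,2],[1,1,2,1]]),(0x2800c0,3,[[0],[2,1],[2,2],[1,1,1]]),(0x412010,2,[])]
    (fun l hl => show _ < 2 ^ 24 by revert l; decide) le_top inH_gHS6 (by decide +kernel)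
    (K := HS6 ⊓ fixingSubgroup (Equiv.Perm GolayPt) (sx 0xda1 : Set (Finset GolayPt))) inf_le_left
    fun g hg l hl => (mem_fixingSubgroup_iff _).mp hg.2 _ (by
      rw [S0_eq]; exact mem_famL.mpr ⟨l.1, by revert l; decide, rfl⟩)
  rw [card_HS6, show chainProd _ = 720 from rfl] at h1
  obtain ⟨a1, a2, -⟩ := restrict_cert (H := M24 ⊓ MulAction.stabilizer (Equiv.Perm GolayPt) S) (E := S) (b := 192)
    (fun g hg x hx => stab_inv_finset hg.2 hx) (by rw [c2.card_eq]; exact Nat.le_of_mul_le_mul_left (h1.trans_eq rfl) (by norm_num))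
    (by rw [hS.1, c1.card_eq, card_HS6]; decide)
  refine ⟨fun s => ?_, ?_, ?_⟩
  · obtain ⟨g, hg, h⟩ := a1 s; exact ⟨⟨g, hg.1⟩, hg.2, h⟩
  · rw [← a2, ← card_subtype_fixing]
    exact Nat.card_congr ⟨fun g => ⟨g.1.1, ⟨g.1.1.2, g.1.2⟩, g.2⟩, fun g => ⟨⟨⟨g.1, g.2.1.1⟩, g.2.1.2⟩, g.2.2⟩,
      fun _ => rfl, fun _ => rfl⟩
  have hn : ∀ g ∈ [0x1704130f1508110d140e100b0c090a120607051603020100, 0x170d0609070b11040a0e1608120f140c1315051003020100, 0x1710150f130b03161405040812090a0c07060e0d11020100, 0x17041509130c050d0a031012080f140b070611160e020100, 0x116131415080e100f110d0b0c0a09120607030405001702, 0x160614070b03100f050d08120a090c13150e0411010217],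
      gc.InH HS6 g := inH_inf_sx le_rfl (inH_of_allL (by decide +kernel)) _ (by decide +kernel)
  obtain ⟨h1, h2, h3⟩ := Coding.normal_cert (fun g hg => (inH_gHS6 g hg).1) (fun g hg => (hn g hg).1)
    (M := 61) (d := 6) (a := 2) (n := 64) (q := fun y => Nat.beq (powN 24 y 2) (idN 24)) (by decide +kernel)
  rw [gen_gHS6] at h3
  obtain ⟨N, -, h4, hN⟩ := exists_subgroup_transport c3.equiv (Coding.gen_le hn)
  refine ⟨N, normal_of_transport _ hN h3, h4.trans h1, fun x hx => ?_⟩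
  obtain ⟨y, hy, e, h⟩ := h2 _ ((hN x).mp hx)
  apply c3.equiv.injective
  rw [← pow_two, map_pow, map_one]
  exact Subtype.ext (by rw [Subgroup.coe_pow, ← e]; exact (hy.pow_eq_one_iff 2).mpr (beq_iff.mp h))

end Cfsg.Agent.S1551
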