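import Cfsg.Statements.S1552
import Cfsg.Agent.Lib.Golay.Trio

set_option autoImplicit false
open scoped Pointwise
open Cfsg

namespace Cfsg.Agent.S1552

open Cfsg.Lib.Golay
open scoped Pointwise
set_option maxRecDepth 100000
set_option linter.unusedSimpArgs false

/-- A sextet stabiliser has four orbits on the 1771 sextets, of sizes 1, 90, 240, 1440; and the stabiliser is a maximal proper subgroup. -/
theorem result (S : Finset (Finset Cfsg.GolayPt)) (hS : S ∈ Cfsg.sextets) : ∃ X₁ ∈ Cfsg.sextets, ∃ X₂ ∈ Cfsg.sextets, ∃ X₃ ∈ Cfsg.sextets, (MulAction.orbit ↥(MulAction.stabilizer Cfsg.M24 S) X₁).ncard = 90 ∧ (MulAction.orbit ↥(MulAction.stabilizer Cfsg.M24 S) X₂).ncard = 240 ∧ (MulAction.orbit ↥(MulAction.stabilizer Cfsg.M24 S) X₃).ncard = 1440 ∧ Cfsg.sextets = {S} ∪ MulAction.orbit ↥(MulAction.stabilizer Cfsg.M24 S) X₁ ∪ MulAction.orbit ↥(MulAction.stabilizer Cfsg.M24 S)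 X₂ ∪ MulAction.orbit ↥(MulAction.stabilizer Cfsg.M24 S) X₃ ∧ IsCoatom (MulAction.stabilizer Cfsg.M24 S) := by
  obtain ⟨σ, hσ, rfl⟩ := std_sextet hS
  obtain ⟨h1, h2, h3⟩ := orbits_sx inf_le_left inH_gHS6 gen_gHS6 [(0xda1, 1), (0xdf2, 90), (0x737, 240), (0xe4f, 1440)]
    (by decide +kernel) (by decide) (by decide)
  have hc := ConjTo.stab hσ (sx 0xda1)
  refine ⟨σ • sx 0xdf2, (smul_mem_sextets_iff hσ).mpr (h1 (0xdf2, 90) (by decide)), σ • sx 0x737, (smul_mem_sextets_iff hσ).mpr (h1 (0x737, 240) (by decide)), σ • sx 0xe4f, (smul_mem_sextets_iff hσ).mpr (h1 (0xe4f, 1440) (by decide)),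
    (hc.ncard_orbit _).trans (h2 (0xdf2, 90) (by decide)), (hc.ncard_orbit _).trans (h2 (0x737, 240) (by decide)), (hc.ncard_orbit _).trans (h2 (0xe4f, 1440) (by decide)), ?_, ?_⟩
  · ext y
    rw [hc.mem_iff_orbits (fun g hg x => smul_mem_sextets_iff hg) h1 h3]
    simp only [List.mem_cons, List.not_mem_nil, or_false, exists_eq_or_imp, exists_eq_left, Set.mem_union, or_assoc, ConjTo.orbit_self]
  have h := Coding.max_cert sextCode sxAct (G := M24) (fun g hg => hg.impl_sx le_rfl) (x0 := 0xda1) (S0_V) inH_gHS6 gen_gHS6 card_M24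
    [(0xc121700030a080f1114040b15050e100201160607130d09, 240, [(0, 24, [[1, 1], [0, 2, 0, 0]]), (1, 23, [[0], [1, 1, 1, 0, 1, 1]]), (2, 22, [[0], [1, 0, 1, 0, 0, 1, 1]]), (3, 21, [[0, 0, 0, 1, 1], [0, 0, 1, 0, 1]]), (4, 20, [[0, 1, 1, 1], [1, 0, 0, 1], [0, 0, 0, 1, 0]]), (5, 16, [[2, 0]]), (6, 3, [])]),
    (0x110d0e0612050a140801090415020f130c1007030b1617, 1440, [(0, 24, [[0, 0], [0, 1, 0]]), (1, 23, [[0, 0, 1, 0, 0], [1, 0, 0, 0, 1]]), (2, 22, [[0, 1, 1], [0, 0, 0, 0]]), (3, 21, [[0, 0, 1, 0], [0, 0, 0, 1, 0, 0, 0, 1, 0, 1]]), (4, 20, [[0, 1], [1, 0, 0, 1, 1, 0], [0, 0, 0, 1, 1, 1, 0]]), (5, 16, [[1, 0, 2]]), (6, 3, [])]),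
    (0x100c1303170915040e061214050f0a1101070216000d0b08, 90, [(0, 24, [[1, 1], [0, 0, 1, 1, 0]]), (1, 23, [[0], [1, 0, 0, 1, 1, 0, 1, 1]]), (2, 22, [[0], [1, 1, 1, 0, 0, 0, 1]]), (3, 21, [[0, 1, 0], [0, 0, 1, 1, 0, 1]]), (4, 20, [[0, 0, 0, 0, 1], [0, 0, 0, 1, 0, 1, 0], [0, 0, 1, 1, 1, 0, 0]]), (5, 16, [[0, 0, 2]]), (6, 3, [])])]
    (inH_of_allL (by decide +kernel)) (by decide +kernel) (by decide) (by exact stab_S0_aux.1) (by decide)
  exact hc.isCoatom h.1 h.2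

end Cfsg.Agent.S1552
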