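import Cfsg.Statements.S1553
import Cfsg.Agent.Lib.Golay.Label

set_option autoImplicit false
open scoped Pointwise
open Cfsg

namespace Cfsg.Agent.S1553

open Cfsg.Lib.Golay
open scoped Pointwise
set_option maxRecDepth 100000
set_option linter.unusedSimpArgs false

/-- The stabiliser of an octad in the group of the length-24 code induces on the octad exactly its alternating group. -/
theorem result (o : Finset Cfsg.GolayPt) (ho : o ∈ Cfsg.octads) : {e : Equiv.Perm ↥o | ∃ g : Equiv.Perm Cfsg.GolayPt, g ∈ Cfsg.M24 ∧ ∃ h : (∀ x, g x ∈ o ↔ x ∈ o), g.subtypePerm h = e} = (alternatingGroup ↥o : Set (Equiv.Perm ↥o)) := by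

  obtain ⟨φ, hφ⟩ := exists_restrict_hom (H := M24 ⊓ MulAction.stabilizer (Equiv.Perm GolayPt) o) (E := o)
    fun g hg x hx => stab_inv_finset hg.2 hx
  have h1 := card_eq_range_mul_ker φ
  rw [restrict_ker hφ] at h1
  obtain ⟨σ, hσ, e⟩ := std_octad ho
  have c1 := (ConjA.base hσ).inf_stab (om 0x82402f)
  have c2 := c1.inf (ConjA.fixing σ (om 0x82402f : Set GolayPt))
  rw [← Finset.coe_smul_finset, ← e] at c2
  rw [← e] at c1
  rw [c1.card_eq, c2.card_eq, card_HO, show HO ⊓ fixingSubgroup (Equiv.Perm GolayPt) (om 0x82402f : Set GolayPt) = E16 from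
    le_antisymm (inf_le_inf_right _ inf_le_left) (le_inf E16_le inf_le_right), card_E16] at h1
  rw [← range_eq_alternating φ (by rw [Fintype.card_coe, ho.2]; simp only [Nat.factorial]; omega)]
  ext e
  constructor
  · rintro ⟨g, hg, h, rfl⟩
    refine ⟨⟨g, hg, ?_⟩, Equiv.ext fun p => Subtype.ext (hφ _ p)⟩
    refine Finset.eq_of_subset_of_card_le (fun x hx => ?_) (by rw [Finset.card_smul_finset])
    obtain ⟨y, hy, rfl⟩ := Finset.mem_smul_finset.mp hx
    exact (h y).mpr hy
  · rintro ⟨g, rfl⟩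
    exact ⟨g, g.2.1, apply_mem_iff_of_smul_eq g.2.2, Equiv.ext fun p => Subtype.ext (hφ _ p).symm⟩

end Cfsg.Agent.S1553
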