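import Cfsg.Statements.S1554
import Cfsg.Agent.Lib.Golay.Label

set_option autoImplicit false
open scoped Pointwise
open Cfsg

namespace Cfsg.Agent.S1554

open Cfsg.Lib.Golay
open scoped Pointwise
set_option maxRecDepth 100000
set_option linter.unusedSimpArgs false

/-- An octad stabiliser is a split extension: the joint stabiliser of the octad and a point outside it is a complement to the pointwise stabiliser of the octad, and is isomorphic to the alternating group of degree 8. -/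
theorem result (o : Finset Cfsg.GolayPt) (ho : o ∈ Cfsg.octads) (p : Cfsg.GolayPt) (hp : p ∉ o) : (Cfsg.M24 ⊓ fixingSubgroup (Equiv.Perm Cfsg.GolayPt) (o : Set Cfsg.GolayPt)) ⊓ (Cfsg.M24 ⊓ MulAction.stabilizer (Equiv.Perm Cfsg.GolayPt) o ⊓ MulAction.stabilizer (Equiv.Perm Cfsg.GolayPt) p) = ⊥ ∧ (Cfsg.M24 ⊓ fixingSubgroup (Equiv.Perm Cfsg.GolayPt) (o : Set Cfsg.GolayPt)) ⊔ (Cfsg.M24 ⊓ MulAction.stabilizer (Equiv.Perm Cfsg.GolayPt) o ⊓ MulAction.stabilizer (Equiv.Perm Cfsg.GolayPt) p) = (Cfsg.M24 ⊓ MulAction.stabilizer (Equiv.Perm Cfsg.GolayPt) o) ∧ Nonempty (↥(Cfsg.M24 ⊓ MulAction.stabilizer (Equiv.Perm Cfsg.GolayPt) o ⊓ MulAction.stabilizer (Equiv.Perm Cfsg.GolayPt) p) ≃* alternatingGroup (Fin 8)) := by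

  obtain ⟨σ, hσ, rfl, rfl⟩ := std_octad_out ho hp
  have c1 := (ConjA.base hσ).inf_stab (om 0x82402f)
  have c2 := (ConjA.base hσ).inf (ConjA.fixing σ (om 0x82402f : Set GolayPt))
  have c3 := c1.inf_stab (gc.pt 4)
  rw [← Finset.coe_smul_finset] at c2
  have h0 : E16 ⊓ (HO ⊓ MulAction.stabilizer (Equiv.Perm GolayPt) (gc.pt 4)) = ⊥ :=
    eq_bot_iff.mpr fun g hg => E16_eq_one hg.1 pt4_not_mem hg.2.2
  refine ⟨(c2.inf c3).eq_of_eq (h0 ▸ ConjA.bot σ), (c2.sup c3).eq_of_eq ?_, ?_⟩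
  · have : E16 ⊔ (HO ⊓ MulAction.stabilizer (Equiv.Perm GolayPt) (gc.pt 4)) = HO := by
      refine le_antisymm (sup_le E16_le inf_le_left) fun g hg => ?_
      obtain ⟨e, he, h⟩ := exists_E16 pt4_not_mem ((apply_mem_iff_of_smul_eq hg.2 _).not.mpr pt4_not_mem)
      rw [← mul_inv_cancel_left e g]
      exact Subgroup.mul_mem_sup he ⟨HO.mul_mem (HO.inv_mem (E16_le he)) hg, by
        show e⁻¹ (g _) = _; rw [← h]; simp⟩
    rw [this]; exact c1
  obtain ⟨e⟩ := equiv_alt_of_faithful (H := HO ⊓ MulAction.stabilizer (Equiv.Perm GolayPt) (gc.pt 4))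
    (E := om 0x82402f) (fun g hg x hx => stab_inv_finset hg.1.2 hx)
    (fun g hg h => E16_eq_one ⟨hg.1.1, (mem_fixingSubgroup_iff _).mpr h⟩ pt4_not_mem hg.2) O0_mem.2
    (by rw [(stab_pt_cert gen_gHO inH_gHO 4 (by decide) (n := 16) (N := 20160) card_HO (by decide +kernel)).2]; rfl)
  exact ⟨c3.equiv.trans e⟩

end Cfsg.Agent.S1554
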