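import Cfsg.Statements.S1558
import Cfsg.Agent.Lib.Golay.Fix
import Cfsg.Agent.Lib.Linear.Card

set_option autoImplicit false
open scoped Pointwise
open Cfsg

namespace Cfsg.Agent.S1558

open Cfsg.Lib.Golay
open scoped Pointwise
set_option maxRecDepth 100000
set_option linter.unusedSimpArgs false
set_option maxHeartbeats 400000

/-- the pure tensors of `2^6`. -/
noncomputable def tab (v : (Fin 3 → ZMod 2) × Fin 3) : ℕ := getL [0x17161514131211100f0e0d0c0b0a09080706050403020100, 0x1715160b040911070c0e060f1408120a100d051303020100, 0x1710070a060c1116090e041208140f0b1513050d03020100, 0x170710080d0f1115120e13090a0b0c141604050603020100, 0x1704130f1508110d140e100b0c090a120607051603020100, 0x1713040c160a11060b0e07140f1208090d10051503020100, 0x170d0609070b11040a0e1608120f140c1315051003020100, 0x17060d1210141113080e150a090c0b0f0416050703020100, 0x17161514131211100f0e0d0c0b0a09080706050403020100, 0x516150b130900100c010d0f1408120a0706170402030e11, 0x116150a130c031009050d1208140f0b07060e0411001702,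 0xe161508130f021012170d090a0b0c140706010400110503, 0x16150f1308051014030d0b0c090a12070611040e010217, 0x1116150c130a17100b020d140f12080907060004010e0305, 0x2161509130b0e100a110d08120f140c0706030405170001, 0x31615121314011008000d0a090c0b0f070602041705110e, 0x17161514131211100f0e0d0c0b0a09080706050403020100, 0x5151614041200070f01060c0b0a0908100d171302030e11, 0x1100714061203160f05040c0b0a090815130e0d11001702, 0xe0710140d1202150f17130c0b0a09081604010600110503, 0x413141512050d0f03100c0b0a0908060711160e010217, 0x11130414161217060f02070c0b0a09080d100015010e0305, 0x20d061407120e040f11160c0b0a09081315031005170001, 0x3060d14101201130f00150c0b0a0908041602071705110e] 0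
  ((v.1 0).val + 2 * (v.1 1).val + 4 * (v.1 2).val + 8 * v.2.val)

/-- Structure of a trio stabiliser: every permutation of the three octads is induced, and there is a normal subgroup of order 64 of elements squaring to the identity whose quotient is isomorphic to the product of GL(3, 2) with the symmetric group of degree 3. -/
theorem result (T : Finset (Finset Cfsg.GolayPt)) (hT : T ∈ Cfsg.trios) : (∀ e : Equiv.Perm ↥T, ∃ g ∈ MulAction.stabilizer Cfsg.M24 T, ∀ o : ↥T, (g : Equiv.Perm Cfsg.GolayPt) • (o : Finset Cfsg.GolayPt) = ((e o : ↥T) : Finset Cfsg.GolayPt)) ∧ ∃ (N : Subgroup ↥(MulAction.stabilizer Cfsg.M24 T)) (_ : N.Normal), Nat.card N = 64 ∧ (∀ x ∈ N, x * x = 1) ∧ Nonempty (↥(MulAction.stabilizer Cfsg.M24 T) ⧸ N ≃* GL (Fin 3) (ZMod 2) × Equiv.Perm (Fin 3)) := by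

  obtain ⟨σ, hσ, rfl⟩ := std_trio hT
  have c := ConjTo.stab hσ (tr 0x82402f6920d0149f00)
  have hL : Nat.card (GL (Fin 3) (ZMod 2) × Equiv.Perm (Fin 3)) = 1008 := by
    rw [Nat.card_prod, Lib.Linear.card_GL, Nat.card_zmod, Nat.card_eq_fintype_card, Fintype.card_perm]; decide
  obtain ⟨φ, h1, h2, -⟩ := Coding.label_hom gc.conjCode (conjN 24) gen_gHT3 (fun g hg => hg.1.impl_conj) inH_gHT3
    (fun (l : GL (Fin 3) (ZMod 2) × Equiv.Perm (Fin 3)) (v : (Fin 3 → ZMod 2) × Fin 3) => (l.1.val.mulVec v.1, l.2 v.2))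
    (fun v => Prod.ext (Matrix.one_mulVec v.1) rfl)
    (fun a b v => Prod.ext (Matrix.mulVec_mulVec v.1 a.1.val b.1.val).symm rfl)
    tab (fun v => Coding.valid_of_isPerm (by revert v; decide +kernel))
    (fun l h => by
      have k : ∀ v w, tab v = tab w → v.1 = w.1 ∧ (w.1 ≠ 0 → v.2 = w.2) := by decide +kernel
      exact Prod.ext (Units.ext (Matrix.ext_iff_mulVec.mpr fun v => (k _ _ (h (v, 0))).1.trans (Matrix.one_mulVec v).symm))
        (Equiv.ext fun i => (k _ _ (h (1, i))).2 (show (1 : Fin 3 → ZMod 2) ≠ 0 by decide)))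
    [(⟨!![0, 0, 1; 0, 1, 0; 1, 1, 0], !![0, 1, 1; 0, 1, 0; 1, 0, 0], by decide, by decide⟩, Equiv.swap 0 1),
      (⟨!![1, 1, 0; 0, 1, 1; 0, 1, 0], !![1, 0, 1; 0, 0, 1; 0, 1, 1], by decide, by decide⟩, Equiv.swap 1 2)]
    (by decide +kernel)
    [(0x1715160b040911070c0e060f1408120a100d051303020100, 21, [[1], [0, 1, 1, 1, 1, 1, 1, 0], [0, 1, 0, 0, 0, 1, 1, 0, 1, 0]]), (0x1710070a060c1116090e041208140f0b1513050d03020100, 6, [[1, 0], [0, 0, 0], [1, 2, 0], [2, 1, 0, 2]]), (0x1704130f1508110d140e100b0c090a120607051603020100, 4, [[1], [2, 2], [2, 3], [0, 2, 0, 2]]), (0x516150b130900100c010d0f1408120a0706170402030e11, 2, [])]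
    (by decide +kernel) (by decide +kernel) hL.le
  have h3 := card_ker_of_surj φ h1 (b := 64) (by rw [card_HT3, hL])
  refine ⟨fun e => ?_, ?_⟩
  · have c1 := (ConjA.base hσ).inf_stab (tr 0x82402f6920d0149f00)
    have c2 := c1.inf (ConjA.fixing σ (tr 0x82402f6920d0149f00 : Set (Finset GolayPt)))
    rw [← Finset.coe_smul_finset] at c2
    have h4 := Coding.chainO_le gc.setCode imgT (G := ⊤) (fun g hg => hg.1.impl_setT)
      [(0x82402f, 3, [[1], [0, 1, 1, 0]]), (0x149f00, 2, [])]
      (fun l hl => show _ < 2 ^ 24 by revert l; decide) le_top inH_gHT3 (by decide +kernel)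
      (K := HT3 ⊓ fixingSubgroup (Equiv.Perm GolayPt) (tr 0x82402f6920d0149f00 : Set (Finset GolayPt))) inf_le_left
      fun g hg l hl => (mem_fixingSubgroup_iff _).mp hg.2 _ (om_mem_T0 (by revert l; decide))
    rw [card_HT3, show chainProd _ = 6 from rfl] at h4
    obtain ⟨g, hg, h⟩ := (restrict_cert (H := M24 ⊓ MulAction.stabilizer (Equiv.Perm GolayPt) (σ • tr 0x82402f6920d0149f00))
      (b := 10752) (fun g hg x hx => stab_inv_finset hg.2 hx)
      (by rw [c2.card_eq]; exact Nat.le_of_mul_le_mul_left (h4.trans_eq rfl) (by norm_num))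
      (by rw [hT.1, c1.card_eq, card_HT3]; decide)).1 e
    exact ⟨⟨g, hg.1⟩, hg.2, h⟩
  obtain ⟨N, hN, h4, h5, h6⟩ := exists_normal_of_hom c.equiv φ h1
  refine ⟨N, hN, h4.trans h3, fun x hx => ?_, h6⟩
  have hn : ∀ g ∈ [0x1715160b040911070c0e060f1408120a100d051303020100, 0x1710070a060c1116090e041208140f0b1513050d03020100, 0x1704130f1508110d140e100b0c090a120607051603020100, 0xe161508130f021012170d090a0b0c140706010400110503, 0x2161509130b0e100a110d08120f140c0706030405170001, 0x16150f1308051014030d0b0c090a12070611040e010217],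
      gc.InH HT3 g := inH_inf_fam (inH_of_allL (by decide +kernel)) 3 _ T0_spec.1 (by decide +kernel)
  obtain ⟨a1, a2, -⟩ := Coding.normal_cert (gs := []) (by simp) (fun g hg => (hn g hg).1)
    (M := 61) (d := 6) (a := 2) (n := 64) (q := fun y => Nat.beq (powN 24 y 2) (idN 24)) (by decide +kernel)
  have a3 : gc.gen _ = φ.ker.map HT3.subtype := Subgroup.eq_of_le_of_card_ge (Coding.gen_le fun g hg =>
    ⟨(hn g hg).1, ⟨_, (hn g hg).2⟩, (h2 _).mpr fun v => (gc.conjCode.smul_eq_iff (hn g hg).1.impl_conj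
      (Coding.valid_of_isPerm (by revert v; decide +kernel))).mpr (by revert v g; decide +kernel), rfl⟩)
    (by rw [Subgroup.card_subtype, h3, a1])
  obtain ⟨y, hy, e, h⟩ := a2 (c.equiv x) (by rw [a3]; exact ⟨_, (h5 x).mp hx, rfl⟩)
  apply c.equiv.injective
  rw [← pow_two, map_pow, map_one]
  exact Subtype.ext (by rw [Subgroup.coe_pow, ← e]; exact (hy.pow_eq_one_iff 2).mpr (beq_iff.mp h))

end Cfsg.Agent.S1558
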