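import Cfsg.Statements.S1559
import Cfsg.Agent.Lib.Golay.Trio

set_option autoImplicit false
open scoped Pointwise
open Cfsg

namespace Cfsg.Agent.S1559

open Cfsg.Lib.Golay
open scoped Pointwise
set_option maxRecDepth 100000
set_option linter.unusedSimpArgs false

/-- A trio stabiliser has five orbits on the 3795 trios, of sizes 1, 42, 56, 1008, 2688; and the stabiliser is a maximal proper subgroup. -/
theorem result (T : Finset (Finset Cfsg.GolayPt)) (hT : T ∈ Cfsg.trios) : ∃ X₁ ∈ Cfsg.trios, ∃ X₂ ∈ Cfsg.trios, ∃ X₃ ∈ Cfsg.trios, ∃ X₄ ∈ Cfsg.trios, (MulAction.orbit ↥(MulAction.stabilizer Cfsg.M24 T) X₁).ncard = 42 ∧ (MulAction.orbit ↥(MulAction.stabilizer Cfsg.M24 T) X₂).ncard = 56 ∧ (MulAction.orbit ↥(MulAction.stabilizer Cfsg.M24 T) X₃).ncard = 1008 ∧ (MulAction.orbit ↥(MulAction.stabilizer Cfsg.M24 T) X₄).ncard = 2688 ∧ Cfsg.trios = {T} ∪ MulAction.orbit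 ↥(MulAction.stabilizer Cfsg.M24 T) X₁ ∪ MulAction.orbit ↥(MulAction.stabilizer Cfsg.M24 T) X₂ ∪ MulAction.orbit ↥(MulAction.stabilizer Cfsg.M24 T) X₃ ∪ MulAction.orbit ↥(MulAction.stabilizer Cfsg.M24 T) X₄ ∧ IsCoatom (MulAction.stabilizer Cfsg.M24 T) := by
  obtain ⟨σ, hσ, rfl⟩ := std_trio hT
  obtain ⟨h1, h2, h3⟩ := orbits_trio inf_le_left inH_gHT3 gen_gHT3 [(0x82402f6920d0149f00, 1), (0xc040d92b2026149f00, 42), (0xa34054583380048c2b, 56), (0x84805e5241a1293e00, 1008), (0xc48a1131412c0a34c2, 2688)]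
    (by decide +kernel) (by decide) (by decide)
  have hc := ConjTo.stab hσ (tr 0x82402f6920d0149f00)
  refine ⟨σ • tr 0xc040d92b2026149f00, (smul_mem_trios_iff hσ).mpr (h1 (0xc040d92b2026149f00, 42) (by decide)), σ • tr 0xa34054583380048c2b, (smul_mem_trios_iff hσ).mpr (h1 (0xa34054583380048c2b, 56) (by decide)), σ • tr 0x84805e5241a1293e00, (smul_mem_trios_iff hσ).mpr (h1 (0x84805e5241a1293e00, 1008) (by decide)), σ • tr 0xc48a1131412c0a34c2, (smul_mem_trios_iff hσ).mpr (h1 (0xc48a1131412c0a34c2, 2688) (by decide)),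
    (hc.ncard_orbit _).trans (h2 (0xc040d92b2026149f00, 42) (by decide)), (hc.ncard_orbit _).trans (h2 (0xa34054583380048c2b, 56) (by decide)), (hc.ncard_orbit _).trans (h2 (0x84805e5241a1293e00, 1008) (by decide)), (hc.ncard_orbit _).trans (h2 (0xc48a1131412c0a34c2, 2688) (by decide)), ?_, ?_⟩
  · ext y
    rw [hc.mem_iff_orbits (fun g hg x => smul_mem_trios_iff hg) h1 h3]
    simp only [List.mem_cons, List.not_mem_nil, or_false, exists_eq_or_imp, exists_eq_left, Set.mem_union, or_assoc, ConjTo.orbit_self]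
  have h := Coding.max_cert (famCode 3) (famAct 3) (G := M24) (fun g hg => hg.1.impl_fam 3) (x0 := 0x82402f6920d0149f00) (T0_spec.1) inH_gHT3 gen_gHT3 card_M24
    [(0xd02121601140917001506070e08110504030b0f0c0a1310, 1008, [(0, 24, [[2, 2], [0, 2, 0]]), (1, 23, [[0, 0, 0], [1, 1, 0, 1]]), (2, 22, [[0], [1, 0, 1, 1, 1, 1, 1], [1, 1, 1, 1, 1, 0, 1]]), (3, 21, [[0], [1, 0, 1, 2], [1, 2, 0, 2, 1]]), (4, 20, [[2, 0, 2], [0, 1, 2, 0], [1, 2, 1, 0, 1]]), (5, 16, [[1, 1, 0, 2]]), (6, 3, [])]),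
    (0xb08030c0e0d09150a0f0507061113010210161417001204, 2688, [(0, 24, [[2, 2], [0, 0, 1, 2]]), (1, 23, [[0, 1, 0, 1], [1, 1, 0, 0, 0, 1]]), (2, 22, [[1, 0, 1, 1], [1, 1, 0, 1, 0]]), (3, 21, [[0, 0, 1, 1], [0, 1, 0, 0, 0, 1]]), (4, 20, [[0, 0, 1, 0, 1], [1, 0, 0, 1, 1], [0, 1, 0, 0, 1, 1, 0]]), (5, 16, [[2]]), (6, 3, [])]),
    (0x16051109010807130c17100a0b0f1412150d0402030e0006, 42, [(0, 24, [[2, 2], [2, 1, 0, 0, 0]]), (1, 23, [[0, 0, 0], [1, 1, 1, 0, 1]]), (2, 22, [[1, 1, 1, 1, 1, 1, 0, 1], [1, 1, 0, 1, 1, 1, 1, 0, 1]]), (3, 21, [[0, 0, 1, 1, 0], [1, 0, 0, 0, 1, 1]]), (4, 20, [[0, 1, 0, 1, 0], [1, 1, 0, 0, 1], [0, 1, 1, 1, 0, 0]]), (5, 16, [[0]]), (6, 3, [])]),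
    (0x10d130e0c111208060a1615021017040907051403000f0b, 56, [(0, 24, [[2, 2], [0, 0, 0]]), (1, 23, [[0, 1, 0, 0], [1, 0, 0, 0, 0, 0, 1, 0, 1]]), (2, 22, [[0, 0, 0, 1, 0, 0], [0, 1, 0, 1, 0, 0, 0, 0]]), (3, 21, [[1, 0, 1], [1, 1, 0, 1, 1, 0, 1, 0]]), (4, 20, [[0, 0, 0, 1, 0], [0, 1, 1, 1, 0, 1], [0, 0, 1, 1, 0, 0, 0]]), (5, 16, [[0, 0, 1]]), (6, 3, [])])]
    (inH_of_allL (by decide +kernel)) (by decide +kernel) (by decide) (by exact ncard_orbit_T0) (by decide)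
  exact hc.isCoatom h.1 h.2

end Cfsg.Agent.S1559
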