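import Cfsg.Statements.S1560
import Cfsg.Agent.Lib.Golay.Oct

set_option autoImplicit false
open scoped Pointwise
open Cfsg

namespace Cfsg.Agent.S1560

open Cfsg.Lib.Golay
open scoped Pointwise
set_option maxRecDepth 100000
set_option linter.unusedSimpArgs false

/-- Intersection numbers of dodecads: a dodecad meets every other dodecad in 0, 4, 6 or 8 points, meeting 495 of them in 4 points, 1584 in 6 points and 495 in 8 points. -/
theorem result (d : Finset Cfsg.GolayPt) (hd : d ∈ Cfsg.dodecads) : (∀ d' ∈ Cfsg.dodecads, d' ≠ d → (d ∩ d').card = 0 ∨ (d ∩ d').card = 4 ∨ (d ∩ d').card = 6 ∨ (d ∩ d').card = 8) ∧ {d' : Finset Cfsg.GolayPt | d' ∈ Cfsg.dodecads ∧ (d ∩ d').card = 4}.ncard = 495 ∧ {d' : Finset Cfsg.GolayPt | d' ∈ Cfsg.dodecads ∧ (d ∩ d').card = 6}.ncard = 1584 ∧ {d' : Finset Cfsg.GolayPt | d' ∈ Cfsg.dodecads ∧ (d ∩ d').card = 8}.ncard = 495 := by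
  obtain ⟨σ, hσ, rfl⟩ := std_dodecad hd
  refine ⟨fun d' hd' hne => ?_, ?_, ?_, ?_⟩
  · obtain ⟨d', rfl⟩ := exists_eq_smul σ d'
    rw [smul_mem_dodecads_iff hσ] at hd'
    obtain ⟨m, hm, rfl⟩ := exists_isDod hd'
    have := allCw (q := fun m => bimp (Nat.beq (pop24 m) 12) (bor (Nat.beq m 0x5335f) (bor (Nat.beq (pop24 (Nat.land 0x5335f m)) 0)
      (bor (Nat.beq (pop24 (Nat.land 0x5335f m)) 4) (bor (Nat.beq (pop24 (Nat.land 0x5335f m)) 6) (Nat.beq (pop24 (Nat.land 0x5335f m)) 8)))))) (by decide +kernel) (isDod_iff.mp hm).1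
    simp only [bimp_iff, bor_iff, beq_iff] at this
    rw [card_smul_inter, card_om_inter]
    exact (this (isDod_iff.mp hm).2).resolve_left fun e => hne (e ▸ rfl)
  · rw [ncard_setOf_smul σ]
    simp only [smul_mem_octads_iff hσ, smul_mem_dodecads_iff hσ, smul_mem_smul', card_smul_inter]
    rw [ncard_dod (fun m => (Nat.beq (pop24 (Nat.land 0x5335f m)) 4)) (fun m _ => by
      simp only [none_mem_om, zero_mem_om, pt_mem_om (show 4 < 24 by norm_num), card_om_inter, band_iff, bnot_iff, beq_iff])]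
    decide +kernel
  · rw [ncard_setOf_smul σ]
    simp only [smul_mem_octads_iff hσ, smul_mem_dodecads_iff hσ, smul_mem_smul', card_smul_inter]
    rw [ncard_dod (fun m => (Nat.beq (pop24 (Nat.land 0x5335f m)) 6)) (fun m _ => by
      simp only [none_mem_om, zero_mem_om, pt_mem_om (show 4 < 24 by norm_num), card_om_inter, band_iff, bnot_iff, beq_iff])]
    decide +kernel
  · rw [ncard_setOf_smul σ]
    simp only [smul_mem_octads_iff hσ, smul_mem_dodecads_iff hσ, smul_mem_smul', card_smul_inter]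
    rw [ncard_dod (fun m => (Nat.beq (pop24 (Nat.land 0x5335f m)) 8)) (fun m _ => by
      simp only [none_mem_om, zero_mem_om, pt_mem_om (show 4 < 24 by norm_num), card_om_inter, band_iff, bnot_iff, beq_iff])]
    decide +kernel

end Cfsg.Agent.S1560
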