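import Cfsg.Statements.S1561
import Cfsg.Agent.Lib.Golay.Oct

set_option autoImplicit false
open scoped Pointwise
open Cfsg

namespace Cfsg.Agent.S1561

open Cfsg.Lib.Golay
open scoped Pointwise
set_option maxRecDepth 100000
set_option linter.unusedSimpArgs false

/-- Two dodecads meeting a fixed dodecad in equally many points lie in one orbit of its stabiliser. -/
theorem result (d d' d'' : Finset Cfsg.GolayPt) (hd : d ∈ Cfsg.dodecads) (hd' : d' ∈ Cfsg.dodecads) (hd'' : d'' ∈ Cfsg.dodecads) (h : (d ∩ d').card = (d ∩ d'').card) : ∃ g : Equiv.Perm Cfsg.GolayPt, g ∈ Cfsg.M24 ∧ g • d = d ∧ g • d' = d'' := by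
  obtain ⟨σ, hσ, rfl⟩ := std_dodecad hd
  obtain ⟨d', rfl⟩ := exists_eq_smul σ d'
  obtain ⟨d'', rfl⟩ := exists_eq_smul σ d''
  rw [smul_mem_dodecads_iff hσ] at hd' hd''
  rw [card_smul_inter, card_smul_inter] at h
  obtain ⟨a, ha, rfl⟩ := exists_isDod hd'
  obtain ⟨b, hb, rfl⟩ := exists_isDod hd''
  rw [card_om_inter, card_om_inter] at h
  obtain ⟨g, hg, e⟩ := cw_classes M12_le inH_gM12
    (fun m => bif' (Nat.beq (pop24 m) 12) (Nat.succ (pop24 (Nat.land 0x5335f m))) 0)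
    [0x7dd00d, 0xaf101f, 0xff9022, 0x5335f, 0xfacca0] (by decide +kernel)
    (isDod_iff.mp ha).1 (isDod_iff.mp hb).1
    (by rw [bif'_pos (beq_iff.mpr (isDod_iff.mp ha).2)]; exact Nat.succ_ne_zero _)
    (by rw [bif'_pos (beq_iff.mpr (isDod_iff.mp ha).2), bif'_pos (beq_iff.mpr (isDod_iff.mp hb).2), h])
  exact ⟨σ * g * σ⁻¹, mul_mem (mul_mem hσ (M12_le hg)) (inv_mem hσ),
    by rw [conj_smul_smul, (mem_M12.mp hg).2], by rw [conj_smul_smul, e]⟩

end Cfsg.Agent.S1561
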