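import Cfsg.Statements.S1562
import Cfsg.Agent.Lib.Golay.Trio
import Cfsg.Agent.Lib.Golay.Label

set_option autoImplicit false
open scoped Pointwise
open Cfsg

namespace Cfsg.Agent.S1562

open Cfsg.Lib.Golay
open scoped Pointwise
set_option maxRecDepth 100000
set_option linter.unusedSimpArgs false

/-- Orbits of a triad stabiliser on the triads disjoint from it: the 210 triads inside a common octad with it form one orbit and the remaining 1120 another. -/
theorem result (T : Finset Cfsg.GolayPt) (hT : T.card = 3) : {U : Finset Cfsg.GolayPt | U.card = 3 ∧ Disjoint T U ∧ (∃ o ∈ Cfsg.octads, T ∪ U ⊆ o)}.ncard = 210 ∧ {U : Finset Cfsg.GolayPt | U.card = 3 ∧ Disjoint T U ∧ ¬ (∃ o ∈ Cfsg.octads, T ∪ U ⊆ o)}.ncard = 1120 ∧ ∀ U U' : Finset Cfsg.GolayPt, U.card = 3 → U'.card = 3 → Disjoint T U → Disjoint T U' → ((∃ o ∈ Cfsg.octads, T ∪ U ⊆ o) ↔ (∃ o ∈ Cfsg.octads, T ∪ U' ⊆ o)) → ∃ g : Equiv.Perm Cfsg.GolayPt, g ∈ Cfsg.M24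 ∧ g • T = T ∧ g • U = U' := by
  obtain ⟨σ, hσ, rfl⟩ := std_finset 0x800003 (hT.trans (by decide)) (by decide)
  have hE : ∀ U : Finset GolayPt, (∃ o ∈ octads, σ • om 0x800003 ∪ σ • U ⊆ o) ↔
      ∃ o ∈ octads, om 0x800003 ∪ U ⊆ o := fun U => by
    rw [exists_smul_iff σ]; simp only [smul_union', smul_subset_smul', smul_mem_octads_iff hσ]
  have hO : ∀ m < 2 ^ 24, (∃ o ∈ octads, om 0x800003 ∪ om m ⊆ o) ↔ anyL [0x8ea003, 0xe0900b, 0xc12017, 0x82402f, 0xd40063, 0x907083, 0xa800c7, 0xb30103, 0x8081b3, 0x821253, 0x85028b, 0xc84303, 0xa44413, 0x891423, 0x80254b, 0x908607, 0x98081b, 0x81c843, 0x841907, 0xa02a23, 0xc20c83] (fun o => Nat.beq (Nat.land m o) m) = true :=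
    fun m hm => exists_oct_sup (by norm_num) (by decide +kernel) hm
  refine ⟨?_, ?_, fun U U' hU hU' hd hd' h => ?_⟩
  · rw [ncard_setOf_smul σ]
    simp only [hE, Finset.card_smul_finset, disjoint_smul']
    rw [ncard_sub 3 (fun m => band (Nat.beq (Nat.land 0x800003 m) 0) (anyL [0x8ea003, 0xe0900b, 0xc12017, 0x82402f, 0xd40063, 0x907083, 0xa800c7, 0xb30103, 0x8081b3, 0x821253, 0x85028b, 0xc84303, 0xa44413, 0x891423, 0x80254b, 0x908607, 0x98081b, 0x81c843, 0x841907, 0xa02a23, 0xc20c83] (fun o => Nat.beq (Nat.land m o) m))) (fun m hm _ => by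
      rw [hO m hm, om_disjoint_iff (by norm_num), band_iff, beq_iff])]
    decide +kernel
  · rw [ncard_setOf_smul σ]
    simp only [hE, Finset.card_smul_finset, disjoint_smul']
    rw [ncard_sub 3 (fun m => band (Nat.beq (Nat.land 0x800003 m) 0) (bnot (anyL [0x8ea003, 0xe0900b, 0xc12017, 0x82402f, 0xd40063, 0x907083, 0xa800c7, 0xb30103, 0x8081b3, 0x821253, 0x85028b, 0xc84303, 0xa44413, 0x891423, 0x80254b, 0x908607, 0x98081b, 0x81c843, 0x841907, 0xa02a23, 0xc20c83] (fun o => Nat.beq (Nat.land m o) m)))) (fun m hm _ => by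
      rw [hO m hm, om_disjoint_iff (by norm_num), band_iff, beq_iff, bnot_iff])]
    decide +kernel
  obtain ⟨U, rfl⟩ := exists_eq_smul σ U
  obtain ⟨U', rfl⟩ := exists_eq_smul σ U'
  simp only [hE, Finset.card_smul_finset, disjoint_smul'] at hU hU' hd hd' h
  obtain ⟨a, ha, rfl⟩ := exists_om U
  obtain ⟨b, hb, rfl⟩ := exists_om U'
  rw [om_disjoint_iff (by norm_num), ← beq_iff] at hd hd'
  rw [hO a ha, hO b hb, ← Bool.eq_iff_iff] at h
  obtain ⟨g, hg, e⟩ := sub_classes inH_gHD3 3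
    (fun m => bif' (Nat.beq (Nat.land 0x800003 m) 0) (Nat.succ (bif' (anyL [0x8ea003, 0xe0900b, 0xc12017, 0x82402f, 0xd40063, 0x907083, 0xa800c7, 0xb30103, 0x8081b3, 0x821253, 0x85028b, 0xc84303, 0xa44413, 0x891423, 0x80254b, 0x908607, 0x98081b, 0x81c843, 0x841907, 0xa02a23, 0xc20c83] (fun o => Nat.beq (Nat.land m o) m)) 1 0)) 0)
    [0x1c, 0x2c] (by decide +kernel) ha hb hU hU'
    (by rw [bif'_pos hd]; exact Nat.succ_ne_zero _) (by rw [bif'_pos hd, bif'_pos hd', h])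
  exact ⟨σ * g * σ⁻¹, mul_mem (mul_mem hσ hg.1) (inv_mem hσ), by rw [conj_smul_smul, hg.2],
    by rw [conj_smul_smul, e]⟩

end Cfsg.Agent.S1562
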