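import Cfsg.Statements.S1563
import Cfsg.Agent.Lib.Golay.Trio

set_option autoImplicit false
open scoped Pointwise
open Cfsg

namespace Cfsg.Agent.S1563

open Cfsg.Lib.Golay
open scoped Pointwise
set_option maxRecDepth 100000
set_option linter.unusedSimpArgs false

/-- The stabiliser of a pair of points (setwise) is a maximal proper subgroup of the group of the length-24 code. -/
theorem result (s : Finset Cfsg.GolayPt) (hs : s.card = 2) : IsCoatom (MulAction.stabilizer Cfsg.M24 s) := by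
  obtain ⟨σ, hσ, rfl⟩ := std_finset 0x800001 (hs.trans (by decide)) (by decide)
  have h := Coding.max_cert gc.setCode imgT (G := M24) (fun g hg => hg.1.impl_setT) (x0 := 0x800001) (show _ < 2 ^ 24 by norm_num) inH_gHD2 gen_gHD2 card_M24
    [(0x1080b100f17161303090c0e0a0506120211140d07041500, 44, [(0, 24, [[0], [1]]), (1, 23, [[1, 0, 1, 1], [0, 0, 0, 0, 1, 1]]), (2, 22, [[1, 0, 0], [0, 1, 0, 1, 0]]), (3, 21, [[0], [1, 0, 0, 0, 1, 1, 1]]), (4, 20, [[1, 0, 1, 1], [0, 0, 1, 1, 1], [0, 1, 1, 1, 1, 0]]), (5, 16, [[0, 0, 1]]), (6, 3, [])]),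
    (0x11415110f000608050e0d0407090b0312131610170a0c02, 231, [(0, 24, [[1], [0, 2, 2, 0]]), (1, 23, [[1, 1], [0, 1, 1, 0, 1]]), (2, 22, [[0, 0, 1, 0], [0, 1, 0, 0, 1, 1]]), (3, 21, [[0, 0, 1, 0], [0, 0, 0, 0, 1, 0, 0, 0, 1]]), (4, 20, [[0, 1], [0, 0, 1, 1, 0, 0, 0], [0, 0, 1, 0, 0, 0, 1, 1]]), (5, 16, [[0, 1, 2, 0]]), (6, 3, [])])]
    (inH_of_allL (by decide +kernel)) (by decide +kernel) (by decide) (by exact HD2_aux.1) (by decide)
  exact (ConjTo.stab hσ _).isCoatom h.1 h.2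

end Cfsg.Agent.S1563
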