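import Cfsg.Statements.S1564
import Cfsg.Agent.Lib.Golay.Trio

set_option autoImplicit false
open scoped Pointwise
open Cfsg

namespace Cfsg.Agent.S1564

open Cfsg.Lib.Golay
open scoped Pointwise
set_option maxRecDepth 100000
set_option linter.unusedSimpArgs false

/-- The stabiliser of a set of three points (setwise) is a maximal proper subgroup of the group of the length-24 code. -/
theorem result (s : Finset Cfsg.GolayPt) (hs : s.card = 3) : IsCoatom (MulAction.stabilizer Cfsg.M24 s) := by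
  obtain ⟨σ, hσ, rfl⟩ := std_finset 0x800003 (hs.trans (by decide)) (by decide)
  have h := Coding.max_cert gc.setCode imgT (G := M24) (fun g hg => hg.1.impl_setT) (x0 := 0x800003) (show _ < 2 ^ 24 by norm_num) inH_gHD3 gen_gHD3 card_M24
    [(0x90e11120817030c040b150a1413050f070d0610160102, 63, [(0, 24, [[1], [0, 2]]), (1, 23, [[0, 0], [1, 0]]), (2, 22, [[0, 0], [0, 1, 1, 1, 0, 1]]), (3, 21, [[1, 1, 0, 1], [0, 1, 0, 1, 0, 1, 1]]), (4, 20, [[0, 1, 0, 1], [1, 0, 0, 0], [1, 1, 0, 1, 1]]), (5, 16, [[1, 2, 0]]), (6, 3, [])]),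
    (0x30f0e0b0c1710040611140a13010912080d070515160200, 630, [(0, 24, [[0], [1]]), (1, 23, [[1, 1], [0, 0, 1, 0, 0, 0]]), (2, 22, [[0, 0], [1, 1, 1, 0, 1, 1]]), (3, 21, [[0, 1, 0, 1, 0], [1, 1, 0, 1, 0, 1, 1, 0, 1, 0, 1]]), (4, 20, [[0, 1, 0], [1, 1, 0, 0, 0, 1], [0, 0, 1, 1, 0, 0, 0]]), (5, 16, [[1, 0]]), (6, 3, [])]),
    (0x307150e1008160106170a14120905130d0f11000b0c0402, 1120, [(0, 24, [[1], [0, 0, 1, 2]]), (1, 23, [[0, 0], [0, 1, 1, 1]]), (2, 22, [[0, 0], [1, 0, 0, 1, 0, 1, 1]]), (3, 21, [[0, 1, 0], [1, 1, 1, 0, 1, 0, 1]]), (4, 20, [[0, 0, 1], [1, 0, 1, 0], [0, 1, 0, 0, 0, 1, 1]]), (5, 16, [[1, 2, 1]]), (6, 3, [])]),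
    (0x20a130b080e1500140f10060412170c1116070d01090503, 210, [(0, 24, [[1], [2, 0, 0]]), (1, 23, [[0, 0], [0, 1, 1, 0]]), (2, 22, [[0, 0], [1, 0, 1, 1, 1, 1]]), (3, 21, [[0, 1, 1, 1, 0, 1], [1, 0, 1, 0, 1, 1, 1]]), (4, 20, [[1, 0, 0, 1], [0, 1, 1, 0, 0, 1, 0], [1, 0, 1, 0, 1, 1, 0]]), (5, 16, [[0, 1]]), (6, 3, [])])]
    (inH_of_allL (by decide +kernel)) (by decide +kernel) (by decide) (by exact HD3_aux.1) (by decide)
  exact (ConjTo.stab hσ _).isCoatom h.1 h.2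

end Cfsg.Agent.S1564
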