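import Cfsg.Statements.S1565
import Cfsg.Agent.Lib.Golay.Fam

set_option autoImplicit false
open scoped Pointwise
open Cfsg

namespace Cfsg.Agent.S1565

open Cfsg.Lib.Golay
open scoped Pointwise
set_option maxRecDepth 100000
set_option linter.unusedSimpArgs false

/-- The stabiliser of an octad is a maximal proper subgroup of the group of the length-24 code. -/
theorem result (o : Finset Cfsg.GolayPt) (ho : o ∈ Cfsg.octads) : IsCoatom (MulAction.stabilizer Cfsg.M24 o) := by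
  obtain ⟨σ, hσ, rfl⟩ := std_octad ho
  have h := Coding.max_cert cwCode imgT (G := M24) (fun g hg => hg.impl_cw le_rfl) (x0 := 0x82402f) (show isCw _ = true by decide +kernel) inH_gHO gen_gHO card_M24
    [(0x8110e0317041407000b160105151006130d09020f120a0c, 30, [(0, 24, [[1, 1, 1], [1, 0, 2, 0]]), (1, 23, [[0], [1, 1, 1, 0, 1, 1, 1, 1, 1, 1]]), (2, 22, [[0, 1, 0], [1, 0, 1, 0, 1, 1, 1]]), (3, 21, [[0, 1], [1, 1, 0, 0]]), (4, 20, [[1, 0, 0, 1], [1, 0, 1, 0, 0], [0, 1, 0, 0, 0, 0]]), (5, 16, [[1, 2, 0]]), (6, 3, [])]),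
    (0x17030f13110601050d0c1407101504160a0e08090012020b, 280, [(0, 24, [[1, 1, 1], [0, 2, 1, 2]]), (1, 23, [[0], [1, 1, 1, 1, 0, 1, 1, 1]]), (2, 22, [[1, 1, 1, 0, 1, 1], [1, 0, 1, 1, 1, 0, 1, 1, 0]]), (3, 21, [[0, 1, 0, 1, 1], [1, 1, 0, 1, 1, 1, 1], [1, 0, 1, 0, 1, 1, 1, 1]]), (4, 20, [[0, 1, 0], [0, 1, 1], [1, 2, 1, 2]]), (5, 16, [[1]]), (6, 3, [])]),
    (0x2080309000a0c011114151006040513070b160e120f170d, 448, [(0, 24, [[1, 1, 1], [0, 2, 0, 0]]), (1, 23, [[0], [1, 0, 1, 1, 1, 1, 1, 1]]), (2, 22, [[1, 1, 0, 1, 1, 1], [1, 0, 1, 1, 0, 1, 1, 1, 0]]), (3, 21, [[1, 0, 1, 1, 1], [0, 1, 1, 0, 1, 0, 1]]), (4, 20, [[0, 1, 0, 1], [1, 1, 1, 0], [0, 0, 1, 0, 0]]), (5, 16, [[1, 0]]), (6, 3, [])])]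
    (inH_of_allL (by decide +kernel)) (by decide +kernel) (by decide) (by exact (congrArg Set.ncard orbit_O0).trans ncard_octads) (by decide)
  exact (ConjTo.stab hσ _).isCoatom h.1 h.2

end Cfsg.Agent.S1565
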