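import Cfsg.Statements.S1566
import Cfsg.Agent.Lib.Golay.Trio

set_option autoImplicit false
open scoped Pointwise
open Cfsg

namespace Cfsg.Agent.S1566

open Cfsg.Lib.Golay
open scoped Pointwise
set_option maxRecDepth 100000
set_option linter.unusedSimpArgs false

/-- The setwise stabiliser of a dodecad together with its complement is a maximal proper subgroup of the group of the length-24 code. -/
theorem result (d : Finset Cfsg.GolayPt) (hd : d ∈ Cfsg.dodecads) : IsCoatom (MulAction.stabilizer Cfsg.M24 ({d, dᶜ} : Finset (Finset Cfsg.GolayPt))) := by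
  obtain ⟨σ, hσ, rfl⟩ := std_dodecad hd
  rw [smul_P0]
  have h := Coding.max_cert (famCode 2) (famAct 2) (G := M24) (fun g hg => hg.1.impl_fam 2) (x0 := 0xfacca005335f) (P0_V) inH_gHP2 gen_gHP2 card_M24
    [(0xf06160c14071013081209050b000a0d1704150203110e01, 792, [(0, 24, [[1, 0], [2, 1, 2]]), (1, 23, [[0, 1, 1, 0, 0], [1, 1, 0, 0, 0]]), (2, 22, [[0, 0, 1, 0, 0], [0, 1, 1, 0, 0, 1]]), (3, 21, [[1, 0], [0, 0, 0, 0, 0, 1]]), (4, 20, [[1, 0, 0], [0, 1, 0, 1, 0, 1, 1], [0, 1, 1, 0, 0, 0, 0]]), (5, 16, [[0, 2, 0]]), (6, 3, [])]),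
    (0xc0806070d0f1209160a170b0304100113150011050e0214, 495, [(0, 24, [[0, 1, 2], [0, 2, 1]]), (1, 23, [[0, 0], [1, 1, 1, 0]]), (2, 22, [[0, 0], [0, 1, 0, 1, 1, 1, 0]]), (3, 21, [[1, 0, 1, 1], [1, 1, 0, 1, 0, 1, 1, 0]]), (4, 20, [[1, 1, 1, 0], [0, 0, 0, 1, 1, 0, 0], [0, 1, 0, 0, 0, 1, 0]]), (5, 16, [[2]]), (6, 3, [])])]
    (inH_of_allL (by decide +kernel)) (by decide +kernel) (by decide) (by exact ncard_orbit_P0) (by decide)
  exact (ConjTo.stab hσ _).isCoatom h.1 h.2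

end Cfsg.Agent.S1566
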