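import Cfsg.Statements.S1567
import Cfsg.Agent.Lib.Leech.Quad

set_option autoImplicit false
open Cfsg

namespace Cfsg.Agent.S1567

open Cfsg.Lib.Leech

/-- The rank-24 lattice is the additive subgroup generated by its 196560 minimal vectors. -/
theorem result : AddSubgroup.closure {x : Cfsg.GolayPt → ℤ | x ∈ Cfsg.leechLattice ∧ Cfsg.sqNorm x = 32} = Cfsg.leechLattice := by
  apply le_antisymm
  · rw [AddSubgroup.closure_le]; exact fun x hx => hx.1
  set A := AddSubgroup.closure {x : Cfsg.GolayPt → ℤ | x ∈ Cfsg.leechLattice ∧ Cfsg.sqNorm x = 32}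
  let M := AddSubgroup.closure {x : Cfsg.leechLattice | Cfsg.sqNorm (x : Cfsg.GolayPt → ℤ) = 32}
  have hM : ∀ g : Cfsg.Co0, ∀ v ∈ M, g • v ∈ M := by
    intro g v hv
    induction hv using AddSubgroup.closure_induction with
    | mem x hx => exact AddSubgroup.subset_closure ((sqNorm_smul g x).trans hx)
    | zero => rw [co0_smul_zero]; exact M.zero_mem
    | add x y _ _ hx hy => rw [co0_smul_add]; exact M.add_mem hx hy
    | neg x _ hx => rw [co0_smul_neg]; exact M.neg_mem hx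
  obtain ⟨k1, k2, k3⟩ := short_mem_of_inv hM (y := Cfsg.Spor.leechU)
    (AddSubgroup.subset_closure sqNorm_leechU) (Or.inl sqNorm_leechU)
  have step : ∀ x : Cfsg.leechLattice, ∃ y ∈ M, ∃ z, x = y + (z + z) := fun x => by
    obtain ⟨y, z, e, hy⟩ := leech_cases x
    refine ⟨y, ?_, z, e⟩
    rcases hy with rfl | hy | hy | hy
    exacts [M.zero_mem, k1 y hy, k2 y hy, k3 y hy]
  have h8 : ∀ x : Cfsg.leechLattice, (8 : ℤ) • x ∈ M := fun x => by
    rw [eight_smul_eq]
    exact M.sum_mem fun i _ => M.zsmul_mem (k3 _ (sqNorm_e8 i)) _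
  have hall : ∀ x : Cfsg.leechLattice, x ∈ M := fun x => by
    obtain ⟨y0, h0, x1, rfl⟩ := step x
    obtain ⟨y1, h1, x2, rfl⟩ := step x1
    obtain ⟨y2, h2, x3, rfl⟩ := step x2
    have : y0 + (y1 + (y2 + (x3 + x3) + (y2 + (x3 + x3))) + (y1 + (y2 + (x3 + x3) + (y2 + (x3 + x3))))) =
      y0 + (2 : ℤ) • y1 + (4 : ℤ) • y2 + (8 : ℤ) • x3 := by abel
    rw [this]
    exact M.add_mem (M.add_mem (M.add_mem h0 (M.zsmul_mem h1 _)) (M.zsmul_mem h2 _)) (h8 _)
  have hle : M ≤ A.addSubgroupOf Cfsg.leechLattice := by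
    rw [AddSubgroup.closure_le]
    exact fun x hx => AddSubgroup.subset_closure ⟨x.2, hx⟩
  exact fun x hx => hle (hall ⟨x, hx⟩)

end Cfsg.Agent.S1567
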