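import Cfsg.Statements.S1568
import Cfsg.Agent.Lib.Leech.Count

set_option autoImplicit false
open Cfsg

namespace Cfsg.Agent.S1568

open Cfsg.Lib.Leech

theorem three_threes {x : GolayPt → ℤ} (hx : x ∈ leechLattice) (hn : sqNorm x = 48) {i : GolayPt}
    (hi : |x i| = 3) :
    ∃ i j k, i ≠ j ∧ j ≠ k ∧ i ≠ k ∧ |x i| = 3 ∧ |x j| = 3 ∧ |x k| = 3 := by
  classical
  have hodd : ∀ l, x l % 2 = 1 := fun l => by
    have := two_dvd_sub hx l i
    rcases abs_eq (by norm_num : (0 : ℤ) ≤ 3) |>.1 hi with h | h <;> omega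
  have hsq : x i ^ 2 = 9 := by rw [← sq_abs, hi]; norm_num
  have hb : ∀ l, x l ^ 2 < 25 := by
    intro l
    by_cases hl : l = i
    · rw [hl, hsq]; norm_num
    have h1 : ∑ j, (1 + (if j = i then 8 else 0) + (if j = l then x l ^ 2 - 1 else 0)) ≤
        sqNorm x := Finset.sum_le_sum fun j _ => by
      split_ifs with h1 h2 h2
      · exact absurd (h2.symm.trans h1) hl
      · rw [h1, hsq]; norm_num
      · rw [h2]; omega
      · have := hodd j
        have : x j ≤ -1 ∨ 1 ≤ x j := by omega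
        rcases this with h | h <;> nlinarith
    simp only [Finset.sum_add_distrib, Finset.sum_ite_eq', Finset.mem_univ, if_true,
      Finset.sum_const, Finset.card_univ, card_golayPt, nsmul_eq_mul] at h1
    omega
  have hcase : ∀ l, x l ^ 2 = 1 + if l ∈ Finset.univ.filter (fun l => |x l| = 3) then 8 else 0 := by
    intro l
    have h1 := hb l
    have h2 := hodd l
    have h5 : x l < 5 := by nlinarith
    have h6 : -5 < x l := by nlinarith
    have : x l = -3 ∨ x l = -1 ∨ x l = 1 ∨ x l = 3 := by omega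
    rcases this with h | h | h | h <;> simp [h]
  rw [sqNorm, Finset.sum_congr rfl fun l _ => hcase l, Finset.sum_add_distrib, sum_ite_mem_const,
    Finset.univ_inter, Finset.sum_const, Finset.card_univ, card_golayPt] at hn
  have h3 : (Finset.univ.filter (fun l => |x l| = 3)).card = 3 := by
    simp only [nsmul_eq_mul] at hn; omega
  obtain ⟨a, b, c, hab, hac, hbc, h⟩ := Finset.card_eq_three.1 h3
  have hm : ∀ l, l ∈ ({a, b, c} : Finset GolayPt) → |x l| = 3 := fun l hl => by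
    rw [← h] at hl; exact (Finset.mem_filter.1 hl).2
  exact ⟨a, b, c, hab, hbc, hac, hm a (by simp), hm b (by simp), hm c (by simp)⟩

theorem ncard_exists (k : ℤ) (s t : ℕ) (ht : total (fun a => decide (|a| ≠ k)) 48 = t)
    (hst : s + t = 16773120) :
    {x : GolayPt → ℤ | x ∈ leechLattice ∧ sqNorm x = 48 ∧ ∃ i, |x i| = k}.ncard = s := by
  rw [← ncard_eq_total _ 48 (by norm_num)] at ht
  rw [← ncard48, ← ht] at hst
  refine Nat.add_right_cancel (Eq.trans ?_ hst.symm)
  rw [← Set.ncard_union_eq ?_ ((finite_sqNorm_le 48).subset fun x hx => le_of_eq hx.2.1)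
    ((finite_sqNorm_le 48).subset fun x hx => le_of_eq hx.2.1)]
  · refine congrArg Set.ncard ?_
    ext x
    simp only [Set.mem_union, Set.mem_ofPred_eq, decide_eq_true_eq, Nat.cast_ofNat]
    constructor
    · rintro (h | h) <;> exact ⟨h.1, h.2.1⟩
    · intro h
      by_cases h1 : ∃ i, |x i| = k
      · exact Or.inl ⟨h.1, h.2, h1⟩
      · exact Or.inr ⟨h.1, h.2, not_exists.1 h1⟩
  · rw [Set.disjoint_left]
    rintro x ⟨-, -, i, hi⟩ ⟨-, -, h⟩
    simpa [hi] using h i

/-- Shape census of the lattice vectors of sum of squares 48 (customary norm 6): the four families (2^12, 0^12), (±3^3, ±1^21), (±4, ±2^8, 0^15) and (±5, ±1^23) have 5275648, 8290304, 3108864 and 98304 members. -/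
theorem result : {x : Cfsg.GolayPt → ℤ | x ∈ Cfsg.leechLattice ∧ Cfsg.sqNorm x = 48 ∧ ∀ i, x i = 0 ∨ x i = 2 ∨ x i = -2}.ncard = 5275648 ∧ {x : Cfsg.GolayPt → ℤ | x ∈ Cfsg.leechLattice ∧ Cfsg.sqNorm x = 48 ∧ ∃ i j k, i ≠ j ∧ j ≠ k ∧ i ≠ k ∧ |x i| = 3 ∧ |x j| = 3 ∧ |x k| = 3}.ncard = 8290304 ∧ {x : Cfsg.GolayPt → ℤ | x ∈ Cfsg.leechLattice ∧ Cfsg.sqNorm x = 48 ∧ ∃ i, |x i| = 4}.ncard = 3108864 ∧ {x : Cfsg.GolayPt → ℤ | x ∈ Cfsg.leechLattice ∧ Cfsg.sqNorm x = 48 ∧ ∃ i, |x i| = 5}.ncard = 98304 := by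
  refine ⟨?_, ?_, ?_, ?_⟩
  · have := ncard_eq_total (fun a => decide (a = 0 ∨ a = 2 ∨ a = -2)) 48 (by norm_num)
    simp only [decide_eq_true_eq, Nat.cast_ofNat] at this
    rw [this]; decide +kernel
  · rw [← ncard_exists 3 8290304 8482816 (by decide +kernel) rfl]
    refine congrArg Set.ncard ?_
    ext x
    exact and_congr_right fun hx => and_congr_right fun hn =>
      ⟨fun ⟨i, _, _, _, _, _, hi, _⟩ => ⟨i, hi⟩, fun ⟨i, hi⟩ => three_threes hx hn hi⟩
  · exact ncard_exists 4 3108864 13664256 (by decide +kernel) rfl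
  · exact ncard_exists 5 98304 16674816 (by decide +kernel) rfl

end Cfsg.Agent.S1568
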