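import Cfsg.Statements.S1580
import Cfsg.Agent.Lib.Leech.Config

set_option autoImplicit false
open Cfsg

namespace Cfsg.Agent.S1580

open Cfsg.Lib.Leech

/-- The McLaughlin configuration: for u of customary norm 6 and v minimal with u − v minimal, there are 275 further such summands x of customary inner product 2 with v, permuted transitively by the stabiliser of u and v. -/
theorem result (u v : ↥Cfsg.leechLattice) (hu : Cfsg.sqNorm (u : Cfsg.GolayPt → ℤ) = 48) (hv : Cfsg.sqNorm (v : Cfsg.GolayPt → ℤ) = 32 ∧ Cfsg.sqNorm ((u - v) : Cfsg.GolayPt → ℤ) = 32) : {x : ↥Cfsg.leechLattice | Cfsg.sqNorm (x : Cfsg.GolayPt → ℤ) = 32 ∧ Cfsg.sqNorm ((u - x) : Cfsg.GolayPt → ℤ) = 32 ∧ Cfsg.dotInt (v : Cfsg.GolayPt → ℤ) (x : Cfsg.GolayPt → ℤ) = 16}.ncard = 275 ∧ ∀ x ∈ {x : ↥Cfsg.leechLattice | Cfsg.sqNorm (x : Cfsg.GolayPt → ℤ) = 32 ∧ Cfsg.sqNorm ((u -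 x) : Cfsg.GolayPt → ℤ) = 32 ∧ Cfsg.dotInt (v : Cfsg.GolayPt → ℤ) (x : Cfsg.GolayPt → ℤ) = 16}, ∀ x' ∈ {x : ↥Cfsg.leechLattice | Cfsg.sqNorm (x : Cfsg.GolayPt → ℤ) = 32 ∧ Cfsg.sqNorm ((u - x) : Cfsg.GolayPt → ℤ) = 32 ∧ Cfsg.dotInt (v : Cfsg.GolayPt → ℤ) (x : Cfsg.GolayPt → ℤ) = 16}, ∃ g : ↥Cfsg.Co0, g • u = u ∧ g • v = v ∧ g • x = x' := by
  have hv' := (mem_552_iff hu).1 hv
  simp only [← and_assoc, mem_552_iff hu, Set.mem_ofPred_eq]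
  constructor
  · obtain ⟨k, rfl, rfl⟩ := std552 hu hv'
    refine (ncard_inv_smul k fun x => ?_).trans orb552.2.1
    show _ ∧ ip _ _ = _ ↔ _ ∧ _
    rw [mem_XD_smul, ip_smul_left, ip_neg_left, neg_eq_iff_eq_neg]
  · intro x hx x' hx'
    obtain ⟨g, h1, h2, h3⟩ := std275 hu hv' hx.1 hx.2
    obtain ⟨k, k1, k2, k3⟩ := std275 hu hv' hx'.1 hx'.2
    exact ⟨k * g⁻¹, ⟨by rw [mul_smul, inv_smul_eq_iff.2 h1.symm, k1],
      by rw [mul_smul, inv_smul_eq_iff.2 h2.symm, k2]⟩,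
      by rw [mul_smul, inv_smul_eq_iff.2 h3.symm, k3]⟩

end Cfsg.Agent.S1580
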