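import Cfsg.Statements.S1581
import Cfsg.Agent.Lib.Leech.Config2

set_option autoImplicit false
open Cfsg

namespace Cfsg.Agent.S1581

open Cfsg.Lib.Leech

/-- The McLaughlin group acts with rank 3 and subdegrees 1, 112, 162 on its 275 points: the point stabiliser has two orbits on the remaining points, distinguished by customary inner product 1 or 2 with the fixed point. -/
theorem result (u v x : ↥Cfsg.leechLattice) (hu : Cfsg.sqNorm (u : Cfsg.GolayPt → ℤ) = 48) (hv : Cfsg.sqNorm (v : Cfsg.GolayPt → ℤ) = 32 ∧ Cfsg.sqNorm ((u - v) : Cfsg.GolayPt → ℤ) = 32) (hx : x ∈ {x : ↥Cfsg.leechLattice | Cfsg.sqNorm (x : Cfsg.GolayPt → ℤ) = 32 ∧ Cfsg.sqNorm ((u - x) : Cfsg.GolayPt → ℤ) = 32 ∧ Cfsg.dotInt (v : Cfsg.GolayPt → ℤ) (x : Cfsg.GolayPt → ℤ) = 16}) : {y : ↥Cfsg.leechLattice | y ∈ {x : ↥Cfsg.leechLattice | Cfsg.sqNorm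 (x : Cfsg.GolayPt → ℤ) = 32 ∧ Cfsg.sqNorm ((u - x) : Cfsg.GolayPt → ℤ) = 32 ∧ Cfsg.dotInt (v : Cfsg.GolayPt → ℤ) (x : Cfsg.GolayPt → ℤ) = 16} ∧ Cfsg.dotInt (x : Cfsg.GolayPt → ℤ) (y : Cfsg.GolayPt → ℤ) = 8}.ncard = 112 ∧ {y : ↥Cfsg.leechLattice | y ∈ {x : ↥Cfsg.leechLattice | Cfsg.sqNorm (x : Cfsg.GolayPt → ℤ) = 32 ∧ Cfsg.sqNorm ((u - x) : Cfsg.GolayPt → ℤ) = 32 ∧ Cfsg.dotInt (v : Cfsg.GolayPt → ℤ) (x : Cfsg.GolayPt → ℤ) = 16} ∧ y ≠ x ∧ Cfsg.dotInt (x : Cfsg.GolayPt → ℤ) (y : Cfsg.GolayPt → ℤ) = 16}.ncard = 162 ∧ ∀ y ∈ {x : ↥Cfsg.leechLattice | Cfsg.sqNorm (x : Cfsg.GolayPt → ℤ) = 32 ∧ Cfsg.sqNorm ((u - x) : Cfsg.GolayPt → ℤ) = 32 ∧ Cfsg.dotInt (v : Cfsg.GolayPt → ℤ) (x : Cfsg.GolayPt → ℤ) = 16}, ∀ y' ∈ {x : ↥Cfsg.leechLattice | Cfsg.sqNorm (x : Cfsg.GolayPt → ℤ) = 32 ∧ Cfsg.sqNorm ((u - x) : Cfsg.GolayPt → ℤ)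 = 32 ∧ Cfsg.dotInt (v : Cfsg.GolayPt → ℤ) (x : Cfsg.GolayPt → ℤ) = 16}, y ≠ x → y' ≠ x → Cfsg.dotInt (x : Cfsg.GolayPt → ℤ) (y : Cfsg.GolayPt → ℤ) = Cfsg.dotInt (x : Cfsg.GolayPt → ℤ) (y' : Cfsg.GolayPt → ℤ) → ∃ g : ↥Cfsg.Co0, g • u = u ∧ g • v = v ∧ g • x = x ∧ g • y = y' := by
  have hv' := (mem_552_iff hu).1 hv
  simp only [← and_assoc, mem_552_iff hu, Set.mem_ofPred_eq] at hx ⊢
  obtain ⟨k, rfl, rfl, rfl⟩ := std275 hu hv' hx.1 hx.2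
  have key : ∀ y, (y ∈ XD (k • Cfsg.Spor.leechV) 24 ∧ ip (k • -Cfsg.Spor.leechU) y = 16) ↔
      k⁻¹ • y ∈ SD (XD Cfsg.Spor.leechV 24) Cfsg.Spor.leechU (-16) := fun y => by
    show _ ↔ _ ∧ _
    rw [mem_XD_smul, ip_smul_left, ip_neg_left, neg_eq_iff_eq_neg]
  refine ⟨⟨(ncard_inv_smul k fun y => ?_).trans orb552.2.2.1,
    (ncard_inv_smul k fun y => ?_).trans orb552.2.2.2.1⟩, fun y hy y' hy' h1 h2 h3 => ?_⟩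
  · show _ ∧ ip _ _ = _ ↔ _ ∧ _
    rw [key, ip_smul_left]
  · show (_ ∧ _) ∧ ip _ _ = _ ↔ _ ∧ _
    rw [key, ip_smul_left]
    refine ⟨fun h => ⟨h.1.1, h.2⟩, fun h => ⟨⟨h.1, ?_⟩, h.2⟩⟩
    rintro rfl
    rw [inv_smul_smul, ip_self, sqNorm_leechX] at h
    omega
  · have h4 : ip (k • leechX) y = ip (k • leechX) y' := h3
    have h5 := ip_cases_552 hu hx.1 hy.1
    have h6 : ∃ g ∈ sU43, (k * g * k⁻¹) • y = y' := by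
      rcases h5 with h5 | h5 | h5 | h5
      · exact absurd h5.symm h1
      · have := congrArg (ip (k • -Cfsg.Spor.leechU)) h5
        rw [ip_add_right, show ip _ _ = 16 from hx.2, show ip _ _ = 16 from hy.2, ip_comm, hv'.2] at this
        omega
      · exact conj_trans orb112 k ⟨(key y).1 hy, by rw [← ip_smul_left, h5]⟩
          ⟨(key y').1 hy', by rw [← ip_smul_left, ← h4, h5]⟩
      · exact conj_trans orb162 k ⟨(key y).1 hy, by rw [← ip_smul_left, h5]⟩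
          ⟨(key y').1 hy', by rw [← ip_smul_left, ← h4, h5]⟩
    obtain ⟨g, hg, e⟩ := h6
    exact ⟨_, ⟨⟨conj_fix hg.1.1 k, conj_fix (neg_stab hg.1.2) k⟩, conj_fix hg.2 k⟩, e⟩

end Cfsg.Agent.S1581
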