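import Cfsg.Statements.S1584
import Cfsg.Agent.Lib.Leech.Config2

set_option autoImplicit false
open Cfsg

namespace Cfsg.Agent.S1584

open Cfsg.Lib.Leech

/-- The Higman–Sims group acts with rank 3 and subdegrees 1, 22, 77 on its 100 points, the orbits of a point stabiliser being distinguished by customary inner product 1 with the fixed point. -/
theorem result (v w x : ↥Cfsg.leechLattice) (hv : Cfsg.sqNorm (v : Cfsg.GolayPt → ℤ) = 48) (hw : Cfsg.sqNorm (w : Cfsg.GolayPt → ℤ) = 48) (hvw : Cfsg.dotInt (v : Cfsg.GolayPt → ℤ) (w : Cfsg.GolayPt → ℤ) = -32) (hx : x ∈ {x : ↥Cfsg.leechLattice | Cfsg.sqNorm (x : Cfsg.GolayPt → ℤ) = 32 ∧ Cfsg.dotInt (v : Cfsg.GolayPt → ℤ) (x : Cfsg.GolayPt → ℤ) = 24 ∧ Cfsg.dotInt (w : Cfsg.GolayPt → ℤ) (x : Cfsg.GolayPt → ℤ) = -24}) : {y : ↥Cfsg.leechLattice | y ∈ {x : ↥Cfsg.leechLattice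 | Cfsg.sqNorm (x : Cfsg.GolayPt → ℤ) = 32 ∧ Cfsg.dotInt (v : Cfsg.GolayPt → ℤ) (x : Cfsg.GolayPt → ℤ) = 24 ∧ Cfsg.dotInt (w : Cfsg.GolayPt → ℤ) (x : Cfsg.GolayPt → ℤ) = -24} ∧ Cfsg.dotInt (x : Cfsg.GolayPt → ℤ) (y : Cfsg.GolayPt → ℤ) = 8}.ncard = 22 ∧ {y : ↥Cfsg.leechLattice | y ∈ {x : ↥Cfsg.leechLattice | Cfsg.sqNorm (x : Cfsg.GolayPt → ℤ) = 32 ∧ Cfsg.dotInt (v : Cfsg.GolayPt → ℤ) (x : Cfsg.GolayPt → ℤ) = 24 ∧ Cfsg.dotInt (w : Cfsg.GolayPt → ℤ) (x : Cfsg.GolayPt → ℤ) = -24} ∧ y ≠ x ∧ Cfsg.dotInt (x : Cfsg.GolayPt → ℤ) (y : Cfsg.GolayPt → ℤ) ≠ 8}.ncard = 77 ∧ ∀ y ∈ {x : ↥Cfsg.leechLattice | Cfsg.sqNorm (x : Cfsg.GolayPt → ℤ) = 32 ∧ Cfsg.dotInt (v : Cfsg.GolayPt → ℤ) (x : Cfsg.GolayPt → ℤ) = 24 ∧ Cfsg.dotInt (w : Cfsg.GolayPt → ℤ) (x : Cfsg.GolayPt → ℤ) = -24}, ∀ y' ∈ {x : ↥Cfsg.leechLattice | Cfsg.sqNorm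 (x : Cfsg.GolayPt → ℤ) = 32 ∧ Cfsg.dotInt (v : Cfsg.GolayPt → ℤ) (x : Cfsg.GolayPt → ℤ) = 24 ∧ Cfsg.dotInt (w : Cfsg.GolayPt → ℤ) (x : Cfsg.GolayPt → ℤ) = -24}, y ≠ x → y' ≠ x → (Cfsg.dotInt (x : Cfsg.GolayPt → ℤ) (y : Cfsg.GolayPt → ℤ) = 8 ↔ Cfsg.dotInt (x : Cfsg.GolayPt → ℤ) (y' : Cfsg.GolayPt → ℤ) = 8) → ∃ g : ↥Cfsg.Co0, g • v = v ∧ g • w = w ∧ g • x = x ∧ g • y = y' := by
  obtain ⟨k, rfl, rfl, rfl⟩ := std100 hv hw hvw hx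
  have key := mem_100_iff k
  have hc : ∀ y, k⁻¹ • y ∈ SD (XD Cfsg.Spor.leechV 24) Cfsg.Spor.leechU' 0 →
      y ≠ k • -Cfsg.Spor.leechU → ip Cfsg.Spor.leechU (k⁻¹ • y) = -8 ∨
        ip Cfsg.Spor.leechU (k⁻¹ • y) = -16 := by
    intro y hy hne
    rcases ip_cases_552 sqNorm_leechV negU_mem.1 hy.1 with h | h | h
    · exact absurd (by rw [h, smul_inv_smul]) hne
    · have := congrArg (ip Cfsg.Spor.leechU') h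
      rw [ip_add_right, negU_mem.2, hy.2, ip_comm, U'_mem.1.2] at this
      omega
    · rw [ip_neg_left] at h; omega
  refine ⟨(ncard_inv_smul k fun y => ?_).trans orb552.2.2.2.2.2.2.1,
    (ncard_inv_smul k fun y => ?_).trans orb552.2.2.2.2.2.2.2, fun y hy y' hy' h1 h2 h3 => ?_⟩
  · show (_ ∧ _) ∧ ip _ _ = _ ↔ _ ∧ _
    rw [key, ip_smul_left, ip_neg_left, neg_eq_iff_eq_neg]
  · show (_ ∧ _) ∧ _ ∧ ip _ _ ≠ _ ↔ _ ∧ _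
    rw [key, ip_smul_left, ip_neg_left]
    refine ⟨fun h => ⟨h.1, by have := hc y h.1 h.2.1; omega⟩, fun h => ⟨h.1, ?_, by omega⟩⟩
    rintro rfl
    rw [inv_smul_smul, ip_neg_right, ip_self, sqNorm_leechU] at h
    omega
  · have h4 : ip (k • -Cfsg.Spor.leechU) y = 8 ↔ ip (k • -Cfsg.Spor.leechU) y' = 8 := h3
    rw [ip_smul_left, ip_smul_left, ip_neg_left, ip_neg_left] at h4
    have a1 := (key y).1 hy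
    have a2 := (key y').1 hy'
    have b1 := hc y a1 h1
    have b2 := hc y' a2 h2
    have h6 : ∃ g ∈ sHS ⊓ MulAction.stabilizer Cfsg.Co0 Cfsg.Spor.leechU, (k * g * k⁻¹) • y = y' := by
      rcases b1 with b1 | b1
      · exact conj_trans orb22 k ⟨a1, b1⟩ ⟨a2, by omega⟩
      · exact conj_trans orb77 k ⟨a1, b1⟩ ⟨a2, by omega⟩
    obtain ⟨g, hg, e⟩ := h6
    exact ⟨_, conj_fix hg.1.1 k, conj_fix_HS hg.1 k, conj_fix (neg_stab hg.2) k, e⟩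

end Cfsg.Agent.S1584
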