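import Cfsg.Statements.S1589
import Cfsg.Agent.Lib.Small.MathSub

set_option autoImplicit false
open scoped Pointwise
open Cfsg

namespace Cfsg.Agent.S1589

open Subgroup MulAction Cfsg.Lib.Small Cfsg.Lib.Golay
open scoped Pointwise
set_option maxRecDepth 100000

def tab : ℕ := 0x60000000000000000000000060000000000000000000000000000000000000000000000000000000000000000000000000000000000006000000000000006000000000000000000000000000000000000000000000000000900000000000000000000000000000000000000000000000300000000000000000000030000600000000000000000000000000000000000000000000000000000000000000003063000000000000000060000000008000030000300000000000300000086000003090000000000000000000000000000000000000000000000000000000005000000000000000000000000000000000000300000000300000000000000000000000a00000000000000000000000000000000000000000000000a00000000000000330000000000000005000000000003070000000000000300000070030500000350000000000000000000000000000000050000000000000000000000300000000300000000000003000001000000000000000000000003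0030000000060006130a00000000001000000000000000000306000001000000000a00030003000360000000000600000000000070010003001300000030050006330100000510670356000000000000000000000000000000000000000000000000000000000000005000000000000000000000000000000300000000000000000a0003000000000000000000000000000000000000000000000000000000030000000000000000030a0000000000000003000000000070000500000005000000000000073005000033000000000000000000000000000300000000000000000000000000050000030000000010000000000000000000000006000000000100000a0000000300036033000000000000030000000000000000310000000300000030100000060006000a00000000000300000007010600001005000003000060035600010030051376030000000000000006000000000000000000000000000000000000000600000000000000000000000000000006000200000000000000600300000020000003063300000000000000000000000000032003000000300000060000020300006000060200000000000030000000200000030600000006000603200003000302036033000000000000000000000400000000300003000000006003000000000046030900000000000300030000000610000125000003050000005602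100031050306300000000600000005000100100200000300000000050300330000032501601356000000010001423000400100012403860024100610060309080342130013643300000000000000000000000000000000000000000000000000000000000000090000000000030000000000000000000000000000000000000000003000000600000000000000000000000000000000000000000000000003000000000060030000000000000000000000000000000386000000060000000908000003000300300000000000000000000000000000400000000000000000000004000000000000000000000000000000000006000000050000000500000350000000000503003300000000000000050000000000030003000000300500000000000305000000560000040000000030004000000004030000000000004603000003400300036433000000000000000000000000000000030000000000000030000000050000000000000000000000000000010000000006000000000000030a0003000000136003000000000000030000000000000100300003000000000000000010060006030a0000001000000003000700061000000500000300016000560000003105037633000000060000000000000000000300000000000000030600000003000060035600000000000000310000002001200306100000060006000a00030213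02006033000000000000000602000011000002300000000300036033002000061106032a00010000020320030000010600721125000203250060130602112730051306330000000000000000000000000000000500000300000000000000000000030000000000000000000000000001000000300000000000000033000000061006030a00000000000000300000000001000006000000000000000a000300130000600300000006000001000001700000030003001000000503063000000305006713560000000000000003000000060000000000000000006000060000003005000633000000000000030602000000001102300003000300036000002011060006032a00010000000000000000012000200306000000060006130a0003020002136033000000061002002500000011020327130200203100030633017203251160035600000000000000000040000000000300000000000006000900000003000364300000000600001005000000000203001300010030050000030100032500600356000000010003000000000106000000250000000510000356020000300513063300000000002403060001041008104231000342030003603310240186014613090000000008000030000000000004038600000086000003000803400300030033000701000070000500017011000327030000073005137633007203051167135600007000000307130007000610721105017003050067035000112731050376330040012001000386020104110811403108030013021364331004118611461320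

def cls (m : ℕ) : ℕ := Nat.land (Nat.shiftRight tab (Nat.mul 4 (Nat.mod m 4096))) 15

def L15 : List ℕ := [0x65928, 0x12c628, 0x149f00, 0x2a40e8, 0x2c19c0, 0x3886c0, 0x436038, 0x453910,
  0x51a610, 0x6920d0, 0x82402f, 0x841907, 0x908607, 0xa800c7, 0xc12017]

def reps : List (ℕ × ℕ × List ℕ × ℕ) :=
  [(0x149f, 0xd10110e090515160b14170c0f0a13060708120403020100, [2, 4], 23),
  (0x293e, 0xf130e101606091417150d0a0b0c11080012050403020107, [2, 4], 23),
  (0x3da1, 0x20911131401150e03100d0c0b0a1608070405060f171200, [1, 4], 11),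
  (0x46e3, 0xb110d081213160f100e1503170a0914070605020c040100, [3, 4], 11),
  (0x8dc6, 0xd090e11100514130f1517040b0a16080706120c00020103, [4, 2], 23),
  (0xa4f8, 0x150217000c0901080f0b0d130e0a12100706050403161114, [4, 2], 11),
  (0xcb25, 0x6110c07030d16010f0e12150b0409081417050a13021000, [4, 2], 11),
  (0x160ce, 0xc0a120009150f10110e0d170516130407060b0803020114, [2, 4], 23),
  (0x527c0, 0xb020e0001120c1005150d11170a090807060f0304161314, [1, 4], 11),
  (0x99590, 0x9110103130216100f06000c050a1708070e0b041412150d, [4, 1], 23)]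

theorem E16_le_S : E16 ≤ gc.gen gS2 := by
  rw [← gen_gE16, show gE16 = mapL (wordN gc.n gS2) [[2, 2, 0, 1, 0, 1, 0], [2, 1, 2, 1],
    [3, 1, 2, 3, 2, 1, 0], [3, 0, 3]] by decide +kernel]
  exact Coding.gen_le (Coding.inH_words (Coding.inH_gen fun g hg => (inH_gS2 g hg).1) _)

variable {K : Subgroup (Equiv.Perm GolayPt)}

theorem mem15 (hK : K ≤ M24) (hS : gc.gen gS2 ≤ K) (h11 : ¬ 11 ∣ Nat.card K) (h23 : ¬ 23 ∣ Nat.card K)
    {h : Equiv.Perm GolayPt} (hh : h ∈ K) : ∃ m ∈ L15, h • om 0x82402f = om m := by
  obtain ⟨m, hm, e⟩ := exists_isOct ((smul_mem_octads_iff (hK hh)).2 O0_mem)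
  have hS' : ∀ g ∈ gS2, gc.InH K g := fun g hg => (Coding.inH_gen (fun g hg => (inH_gS2 g hg).1) g hg).mono hS
  have h1 := allCw (q := fun m => bimp (Nat.beq (pop24 m) 8) (bor (anyL L15 (Nat.beq m))
    (anyL reps fun r => Nat.beq (cls m) (cls r.1)))) (by decide +kernel) (isOct_iff.1 hm).1
  rw [bimp_iff, bor_iff, anyL_iff, anyL_iff, Nat.beq_eq] at h1
  rcases h1 (isOct_iff.1 hm).2 with ⟨m', h2, h3⟩ | ⟨r, hr, h3⟩
  · exact ⟨m', h2, by rw [← e, Nat.eq_of_beq_eq_true h3]⟩
  have h4 : ∀ r ∈ reps, isCw r.1 = true ∧ cls r.1 ≠ 0 ∧ inM24 r.2.1 = true ∧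
      (allN 24 fun i => (tb r.1 i).rec true (Nat.beq (app r.2.1 i) i)) = true ∧ (r.2.2.2 = 11 ∨ r.2.2.2 = 23) ∧
      band (Nat.beq (powN gc.n (wordN gc.n (gS2 ++ [r.2.1]) r.2.2.1) r.2.2.2) (idN gc.n))
        (bnot (Nat.beq (wordN gc.n (gS2 ++ [r.2.1]) r.2.2.1) (idN gc.n))) = true := by decide +kernel
  obtain ⟨a1, a2, a3, a4, a5, a6⟩ := h4 r hr
  obtain ⟨s, hs, e'⟩ := cw_classes hK hS' cls (mapL Prod.fst reps) (by decide +kernel) (isOct_iff.1 hm).1 a1
    (by rwa [Nat.eq_of_beq_eq_true h3]) (Nat.eq_of_beq_eq_true h3)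
  have a7 := inH_inf_fixing (gs := [r.2.1]) (fun g hg => by rw [List.mem_singleton.1 hg]; exact inH_of_inM24 a3)
    r.1 (by rw [allL_iff]; intro g hg; rw [List.mem_singleton.1 hg]; exact a4) _ List.mem_cons_self
  have hk := mul_mem hs hh
  have c := (ConjA.base (hK hk)).inf (ConjA.fixing (s * h) (om 0x82402f : Set GolayPt))
  rw [← Finset.coe_smul_finset, mul_smul, ← e, e'] at c
  have a8 : gc.InH K r.2.1 := ⟨a7.1, by
    have := mul_mem (mul_mem hk (hS (E16_le_S ((c _).1 a7.2)))) (inv_mem hk)
    rwa [show ∀ a b : Equiv.Perm GolayPt, a * (a⁻¹ * b * a) * a⁻¹ = b from fun a b => by group] at this⟩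
  have a9 := Coding.inH_wordN (gs := gS2 ++ [r.2.1]) (fun g hg => by
    rcases List.mem_append.1 hg with hg | hg
    · exact hS' g hg
    · rw [List.mem_singleton.1 hg]; exact a8) r.2.2.1
  have := order_dvd a9.2
  rw [a9.1.orderOf_eq (by rcases a5 with h | h <;> rw [h] <;> norm_num) a6] at this
  rcases a5 with h | h <;> rw [h] at this <;> contradiction

theorem over_S (hK : K ≤ M24) (hS : gc.gen gS2 ≤ K) (h11 : ¬ 11 ∣ Nat.card K) (h23 : ¬ 23 ∣ Nat.card K) :
    K ≤ HO ∨ K ≤ HT3 ∨ K ≤ HS6 := by
  have hS' : ∀ g ∈ gS2, gc.InH K g := fun g hg => (Coding.inH_gen (fun g hg => (inH_gS2 g hg).1) g hg).mono hS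
  by_cases h : ∃ a ∈ K, ∃ b ∈ K, (a • om 0x82402f ∩ b • om 0x82402f).card = 4
  · obtain ⟨a, ha, b, hb, e⟩ := h
    have key : ∀ g ∈ K, g • (a • om 0x82402f ∩ b • om 0x82402f) ∈ sx 0xda1 := fun g hg => by
      rw [← card_smul_inter g, ← mul_smul, ← mul_smul] at e
      rw [← smul_inter', ← mul_smul, ← mul_smul]
      obtain ⟨m, hm, e1⟩ := mem15 hK hS h11 h23 (mul_mem hg ha)
      obtain ⟨m', hm', e2⟩ := mem15 hK hS h11 h23 (mul_mem hg hb)
      rw [e1, e2, om_inter] at e ⊢
      rw [card_om] at e
      rw [S0_eq, mem_famL]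
      exact ⟨_, (by decide +kernel : ∀ m ∈ L15, ∀ m' ∈ L15, pop24 (Nat.land m m') = 4 → Nat.land m m' ∈
        [0x24028, 0x41900, 0x108600, 0x2800c0, 0x412010, 0x800007]) m hm m' hm' e, rfl⟩
    have hS0 : sx 0xda1 ∈ sextets := orbit_S0 ▸ mem_orbit_self _
    refine Or.inr (Or.inr fun g hg => ⟨hK hg, ?_⟩)
    have h1 := eq_sextOf hS0 (key 1 (one_mem _))
    rw [one_smul] at h1
    show g • sx 0xda1 = sx 0xda1
    conv_rhs => rw [eq_sextOf hS0 (key g hg), ← smul_sextOf (hK hg), ← h1]
  have h1 : ∀ g ∈ K, ∃ m ∈ [0x149f00, 0x6920d0, 0x82402f], g • om 0x82402f = om m := fun g hg => by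
    obtain ⟨m, hm, e⟩ := mem15 hK hS h11 h23 hg
    rcases (by decide +kernel : ∀ m ∈ L15, m ∈ [0x149f00, 0x6920d0, 0x82402f] ∨
      ∃ s ∈ gS2, pop24 (Nat.land m (imgT s m)) = 4) m hm with h2 | ⟨s, hs, h2⟩
    · exact ⟨m, h2, e⟩
    · exact absurd ⟨g, hg, _, mul_mem (hS' s hs).2 hg, by
        rw [mul_smul, e, (hS' s hs).1.smul_om, card_om_inter, h2]⟩ h
  by_cases h2 : K ≤ HO
  · exact Or.inl h2
  obtain ⟨g, hg, h3⟩ := SetLike.not_le_iff_exists.1 h2
  obtain ⟨s, hs, e1, e2⟩ : ∃ s ∈ gS2, imgT s 0x149f00 = 0x6920d0 ∧ imgT s 0x6920d0 = 0x149f00 := by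
    decide +kernel
  have h4 : ∀ m ∈ [0x149f00, 0x6920d0, 0x82402f], ∃ k ∈ K, k • om 0x82402f = om m := by
    have h5 := mul_mem (hS' s hs).2 hg
    obtain ⟨m, hm, e⟩ := h1 g hg
    simp only [List.mem_cons, List.not_mem_nil, or_false, forall_eq_or_imp, forall_eq] at hm ⊢
    rcases hm with rfl | rfl | rfl
    · exact ⟨⟨g, hg, e⟩, ⟨_, h5, by rw [mul_smul, e, (hS' s hs).1.smul_om, e1]⟩, 1, one_mem _, one_smul _ _⟩
    · exact ⟨⟨_, h5, by rw [mul_smul, e, (hS' s hs).1.smul_om, e2]⟩, ⟨g, hg, e⟩, 1, one_mem _, one_smul _ _⟩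
    · exact absurd ⟨hK hg, e⟩ h3
  refine Or.inr (Or.inl fun k hk => ⟨hK hk, Finset.eq_of_subset_of_card_le (fun x hx => ?_)
    (by rw [Finset.card_smul_finset])⟩)
  obtain ⟨y, hy, rfl⟩ := Finset.mem_smul_finset.mp hx
  rw [T0_eq, mem_famL] at hy ⊢
  obtain ⟨m, hm, rfl⟩ := hy
  obtain ⟨j, hj, e⟩ := h4 m hm
  obtain ⟨m', hm', e'⟩ := h1 _ (mul_mem hk hj)
  exact ⟨m', hm', by rw [← e', mul_smul, e]⟩

theorem odd_idx (H : Subgroup M24) {N : ℕ} (hn : ¬ 2 ∣ H.index) (hN : H.index * N = 244823040)
    (h11 : ¬ 11 ∣ N) (h23 : ¬ 23 ∣ N) (h0 : 64512 < N) :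
    (N ∣ 322560 ∧ (N = 322560 → ∃ o ∈ octads, H = stabilizer M24 o)) ∨
    (N ∣ 138240 ∧ (N = 138240 → ∃ o ∈ sextets, H = stabilizer M24 o)) := by
  have hle : H.map M24.subtype ≤ M24 := map_subtype_le H
  have h1 := H.index_mul_card
  rw [card_M24, ← hN] at h1
  have hc : Nat.card (H.map M24.subtype) = N := by
    rw [card_map_of_injective M24.subtype_injective]
    exact Nat.eq_of_mul_eq_mul_left (Nat.pos_of_ne_zero index_ne_zero_of_finite) h1
  obtain ⟨h, hh, e⟩ := exists_conj_le Nat.prime_two hle (n := H.index) (by rw [hc, hN, card_M24]) hn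
    (IsPGroup.of_card (n := 10) card_S2) (Coding.gen_le inH_gS2)
  have c := conjA_comap h (H.map M24.subtype)
  rw [← c.card_eq] at hc
  have fin : ∀ {X : Type} [MulAction (Equiv.Perm GolayPt) X] (x : X),
      (H.map M24.subtype).comap (MulAut.conj h⁻¹).toMonoidHom ≤ M24 ⊓ stabilizer _ x →
      N = Nat.card ↥(M24 ⊓ stabilizer (Equiv.Perm GolayPt) x) → H = stabilizer M24 (h⁻¹ • x) := by
    intro X _ x h2 h3
    rw [eq_of_le_of_card_ge h2 (by rw [hc, h3])] at c
    ext g
    have := c (h * g * h⁻¹)
    rw [show h⁻¹ * (h * g * h⁻¹) * h = g by group] at this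
    rw [← mem_map_iff_mem M24.subtype_injective, coe_subtype, ← this, mem_stabilizer_coe_iff,
      ← conj_mem_stabilizer_iff', inv_inv]
    exact ⟨fun h => h.2, fun h' => ⟨M24.mul_mem (M24.mul_mem hh g.2) (M24.inv_mem hh), h'⟩⟩
  rcases over_S (fun g hg => ((ConjA.base hh) g).2 (hle ((c g).1 hg))) (fun g hg => (c g).2 (e g hg))
    (hc ▸ h11) (hc ▸ h23) with h2 | h2 | h2
  · exact Or.inl ⟨hc ▸ card_HO ▸ card_dvd_of_le h2, fun h3 => ⟨_, (smul_mem_octads_iff (inv_mem hh)).2 O0_mem,
      fin _ h2 (h3.trans card_HO.symm)⟩⟩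
  · have := card_le_of_le h2
    rw [hc, card_HT3] at this; omega
  · exact Or.inr ⟨hc ▸ card_HS6 ▸ card_dvd_of_le h2, fun h3 => ⟨_, smul_mem_sextets (inv_mem hh)
      (orbit_S0 ▸ mem_orbit_self _), fin _ h2 (h3.trans card_HS6.symm)⟩⟩

theorem inv_card (hK : K ≤ M24) (h7 : 7 ∣ Nat.card K) (h11 : 11 ∣ Nat.card K) {A : Finset GolayPt}
    (hA : ∀ g ∈ K, ∀ a ∈ A, g a ∈ A) : A.card ≤ 2 ∨ 22 ≤ A.card := by
  have h1 := inv_mod hK (p := 7) (by norm_num) (by norm_num) (by norm_num) h7 hA
  have h2 := inv_mod hK (p := 11) (by norm_num) (by norm_num) (by norm_num) h11 hA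
  omega

theorem duad_or (hK : K ≤ M24) (h7 : 7 ∣ Nat.card K) (h11 : 11 ∣ Nat.card K) (h23 : ¬ 23 ∣ Nat.card K) :
    (∃ s : Finset GolayPt, s.card = 2 ∧ ∀ g ∈ K, ∀ a ∈ s, g a ∈ s) ∨ ∀ a b, ∃ g ∈ K, g a = b := by
  have key : ∀ a, (∃ s : Finset GolayPt, s.card = 2 ∧ ∀ g ∈ K, ∀ a ∈ s, g a ∈ s) ∨ (∀ g ∈ K, g a = a) ∨
      ∀ b, ∃ g ∈ K, g a = b := fun a => by
    obtain ⟨A, hA, hi, hd⟩ := exists_orb K a
    have h1 := inv_card hK h7 h11 hi
    have h2 := Finset.card_le_univ A
    have h3 : a ∈ A := (hA a).2 ⟨1, one_mem _, rfl⟩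
    have h4 := Finset.card_pos.2 ⟨a, h3⟩
    have h5 : A.card ≠ 23 := fun h => h23 (by rw [hd, h]; exact Dvd.intro _ rfl)
    rw [card_golayPt] at h2
    rcases (by omega : A.card = 1 ∨ A.card = 2 ∨ A.card = 22 ∨ A.card = 24) with h | h | h | h
    · exact Or.inr (Or.inl fun g hg => Finset.card_le_one.1 h.le _ (hi g hg a h3) _ h3)
    · exact Or.inl ⟨A, h, hi⟩
    · exact Or.inl ⟨Aᶜ, by rw [card_compl', h], inv_compl hi⟩
    · exact Or.inr (Or.inr fun b => (hA b).1 (by
        rw [Finset.eq_univ_of_card A (h.trans card_golayPt.symm)]; exact Finset.mem_univ _))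
  by_contra hn
  rw [not_or] at hn
  have h1 : ∀ a, ∀ g ∈ K, g a = a := fun a => ((key a).resolve_left hn.1).resolve_right fun h => hn.2 fun b c => by
    obtain ⟨g, hg, rfl⟩ := h b
    obtain ⟨k, hk, rfl⟩ := h c
    exact ⟨k * g⁻¹, mul_mem hk (inv_mem hg), by simp⟩
  exact hn.1 ⟨{none, some 0}, by decide, fun g hg a ha => by rwa [h1 a g hg]⟩

theorem idx276 (hK : K ≤ M24) (hc : Nat.card K = 887040) :
    ∃ s : Finset GolayPt, s.card = 2 ∧ ∀ g ∈ K, ∀ a ∈ s, g a ∈ s := by
  refine (duad_or hK (by rw [hc]; norm_num) (by rw [hc]; norm_num) (by rw [hc]; norm_num)).resolve_right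
    fun ht => ?_
  have c : ∀ a, Nat.card ↥(K ⊓ stabilizer (Equiv.Perm GolayPt) a) = 36960 := fun a => by
    obtain ⟨A, hA, -, hd⟩ := exists_orb K a
    rw [Finset.eq_univ_of_forall fun b => (hA b).2 (ht a b), Finset.card_univ, card_golayPt, hc] at hd
    omega
  have inv : ∀ a, ∀ A : Finset GolayPt, (∀ g ∈ K ⊓ stabilizer (Equiv.Perm GolayPt) a, ∀ b ∈ A, g b ∈ A) →
      A.card ≤ 2 ∨ 22 ≤ A.card := fun a A => inv_card (inf_le_left.trans hK) (by rw [c]; norm_num)
    (by rw [c]; norm_num)
  have ex : ∀ a, ∃ b, b ≠ a ∧ ∀ g ∈ K ⊓ stabilizer (Equiv.Perm GolayPt) a, g b = b := fun a => by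
    rcases duad_or (inf_le_left.trans hK : K ⊓ stabilizer (Equiv.Perm GolayPt) a ≤ M24) (by rw [c]; norm_num)
      (by rw [c]; norm_num) (by rw [c]; norm_num) with ⟨s, hs, hi⟩ | h
    · have ha : a ∈ s := by
        by_contra ha
        have := inv a _ (inv_insert (x := a) (fun g hg => hg.2) hi)
        rw [Finset.card_insert_of_notMem ha] at this; omega
      obtain ⟨b, hb⟩ := Finset.card_eq_one.1 (show (s.erase a).card = 1 by rw [Finset.card_erase_of_mem ha, hs])
      have h1 : ∀ x, x = b ↔ x ≠ a ∧ x ∈ s := fun x => by rw [← Finset.mem_erase, hb, Finset.mem_singleton]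
      have h2 := (h1 b).1 rfl
      exact ⟨b, h2.1, fun g hg => (h1 _).2 ⟨fun e => h2.1 (g.injective (e.trans hg.2.symm)), hi g hg b h2.2⟩⟩
    · obtain ⟨b, hb⟩ := exists_ne a
      obtain ⟨g, hg, e⟩ := h a b
      exact absurd (e.symm.trans hg.2) hb
  choose π h1 h2 using ex
  have h3 : ∀ a, π (π a) = a := fun a => by
    have e : K ⊓ stabilizer (Equiv.Perm GolayPt) a = K ⊓ stabilizer (Equiv.Perm GolayPt) (π a) :=
      eq_of_le_of_card_ge (fun g hg => ⟨hg.1, h2 a g hg⟩) (by rw [c, c])
    by_contra hn
    have := inv a {a, π a, π (π a)} fun g hg b hb => by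
      simp only [Finset.mem_insert, Finset.mem_singleton] at hb ⊢
      rcases hb with rfl | rfl | rfl
      · exact Or.inl hg.2
      · exact Or.inr (Or.inl (h2 a g hg))
      · exact Or.inr (Or.inr (h2 _ g (e ▸ hg)))
    rw [Finset.card_eq_three.2 ⟨_, _, _, (h1 a).symm, Ne.symm hn, (h1 _).symm, rfl⟩] at this
    omega
  obtain ⟨g, hg, h7⟩ := exists_order (K := K) (p := 7) (by norm_num) (by rw [hc]; norm_num)
  have h4 := card_mod_fix (by norm_num) h7 (A := Finset.univ) fun _ _ => Finset.mem_univ _
  have h5 : (Finset.univ.filter fun a => g a = a).card < 5 := by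
    by_contra h
    exact absurd (h7 ▸ dvd_48 (hK hg) (by omega)) (by norm_num)
  have h6 := card_mod_fix (g := Function.Involutive.toPerm π h3) Nat.prime_two (orderOf_eq_prime
    (Equiv.ext fun a => h3 a) fun e => h1 none (Equiv.congr_fun e none))
    (A := Finset.univ.filter fun a => g a = a) fun a ha => Finset.mem_filter.2 ⟨Finset.mem_univ _,
      h2 a g ⟨hg, (Finset.mem_filter.1 ha).2⟩⟩
  rw [Finset.filter_false_of_mem (p := fun a => Function.Involutive.toPerm π h3 a = a) fun a _ => h1 a,
    Finset.card_empty] at h6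
  rw [Finset.card_univ, card_golayPt] at h4
  unfold Nat.ModEq at h4 h6
  omega

/-- Subgroups of the group of the length-24 code of index 759, 276 and 1771 are exactly the octad, duad and sextet stabilisers, and no subgroup has index 253. -/
theorem result : (∀ H : Subgroup ↥Cfsg.M24, H.index = 759 → ∃ o ∈ Cfsg.octads, H = MulAction.stabilizer Cfsg.M24 o) ∧ (∀ H : Subgroup ↥Cfsg.M24, H.index = 276 → ∃ s : Finset Cfsg.GolayPt, s.card = 2 ∧ H = MulAction.stabilizer Cfsg.M24 s) ∧ (∀ H : Subgroup ↥Cfsg.M24, H.index = 1771 → ∃ S ∈ Cfsg.sextets, H = MulAction.stabilizer Cfsg.M24 S) ∧ ∀ H : Subgroup ↥Cfsg.M24, H.index ≠ 253 := by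
  refine ⟨fun H hH => ?_, fun H hH => ?_, fun H hH => ?_, fun H hH => ?_⟩
  · rcases odd_idx H (N := 322560) (by rw [hH]; norm_num) (by rw [hH]) (by norm_num) (by norm_num)
      (by norm_num) with h | h
    · exact h.2 rfl
    · exact absurd h.1 (by norm_num)
  · have h1 := H.index_mul_card
    rw [card_M24, hH] at h1
    obtain ⟨s, hs, hi⟩ := idx276 (map_subtype_le H)
      (by rw [card_map_of_injective M24.subtype_injective]; omega)
    refine ⟨s, hs, eq_of_le_of_card_ge (fun g hg => smul_eq_of_inv (hi g ⟨g, hg, rfl⟩)) ?_⟩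
    obtain ⟨σ, hσ, rfl⟩ := std_finset (s := s) 0x800001 (hs.trans (by decide +kernel)) (by decide +kernel)
    rw [(ConjTo.stab hσ _).card_eq, HD2_aux.2]; omega
  · rcases odd_idx H (N := 138240) (by rw [hH]; norm_num) (by rw [hH]) (by norm_num) (by norm_num)
      (by norm_num) with h | h
    · exact absurd h.1 (by norm_num)
    · exact h.2 rfl
  · rcases odd_idx H (N := 967680) (by rw [hH]; norm_num) (by rw [hH]) (by norm_num) (by norm_num)
      (by norm_num) with h | h <;> exact absurd h.1 (by norm_num)

end Cfsg.Agent.S1589
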