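import Cfsg.Statements.S1591
import Cfsg.Agent.Lib.Golay.Small

set_option autoImplicit false
open Cfsg

namespace Cfsg.Agent.S1591

open Cfsg.Lib.Golay
open scoped Pointwise symmDiff
set_option maxRecDepth 100000
set_option linter.unusedSimpArgs false
set_option maxHeartbeats 400000
set_option synthInstance.maxSize 4096
set_option synthInstance.maxHeartbeats 200000

/-- Any two words of the length-12 ternary code have dot product zero. -/
theorem result (x y : Cfsg.ArrayPt → ZMod 3) (hx : x ∈ Cfsg.ternaryGolayCode) (hy : y ∈ Cfsg.ternaryGolayCode) : ∑ p, x p * y p = 0 := by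

  rw [← mem_ternary.mp hx, ← mem_ternary.mp hy]
  obtain ⟨a, b, c, d, e, f⟩ := tinfo x
  obtain ⟨a', b', c', d', e', f'⟩ := tinfo y
  have h4 : ∀ f : ZMod 3 → ZMod 3, ∑ r, f r = f 0 + f 1 + f 2 := fun f => Fin.sum_univ_three f
  rw [Fintype.sum_prod_type, Fin.sum_univ_four]
  simp only [h4]
  show a * a' + b * b' + c * c' + (d * d' + e * e' + (a + b + c - d - e) * (a' + b' + c' - d' - e')) +
    (f * f' + (-b + c - d + e + f) * (-b' + c' - d' + e' + f') + (a - b + d - e + f) * (a' - b' + d' - e' + f')) +
    ((a - b - c - d - f) * (a' - b' - c' - d' - f') + (a + c + d + e - f) * (a' + c' + d' + e' - f') +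
      (-a - b + c - e - f) * (-a' - b' + c' - e' - f')) = 0
  grind

end Cfsg.Agent.S1591
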