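import Cfsg.Statements.S1594
import Cfsg.Agent.Lib.Golay.Small
import Cfsg.Agent.S0425

set_option autoImplicit false
open Cfsg

namespace Cfsg.Agent.S1594

open Cfsg.Lib.Golay
open scoped Pointwise symmDiff
set_option maxRecDepth 100000
set_option linter.unusedSimpArgs false
set_option maxHeartbeats 400000
set_option synthInstance.maxSize 4096
set_option synthInstance.maxHeartbeats 200000

/-- The monomial automorphism group of the length-12 ternary code has order 190080 and its permutation parts are exactly the automorphisms of its hexad system. -/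
theorem result : Nat.card {f : Equiv.Perm Cfsg.ArrayPt × (Cfsg.ArrayPt → (ZMod 3)ˣ) // (∀ x ∈ Cfsg.ternaryGolayCode, Cfsg.monomialMap f.1 f.2 x ∈ Cfsg.ternaryGolayCode)} = 190080 ∧ {σ : Equiv.Perm Cfsg.ArrayPt | ∃ c : Cfsg.ArrayPt → (ZMod 3)ˣ, (∀ x ∈ Cfsg.ternaryGolayCode, Cfsg.monomialMap σ c x ∈ Cfsg.ternaryGolayCode)} = (Cfsg.setSystemAut {h : Finset Cfsg.ArrayPt | ∃ x ∈ Cfsg.ternaryGolayCode, Cfsg.ternarySupport x = h ∧ h.card = 6} : Set (Equiv.Perm Cfsg.ArrayPt)) := by

  have h1 := (S0425.result tc.card_eq (ternary_hexads ▸ ternary_steiner.1)).1.2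
  have h2 : monoAut ternaryGolayCode ≤ setSystemAut {h : Finset ArrayPt |
      ∃ x ∈ ternaryGolayCode, ternarySupport x = h ∧ h.card = 6} := by
    rintro σ ⟨c, hc⟩
    rw [mem_setSystemAut_iff]
    rintro _ ⟨x, hx, rfl, h6⟩
    exact ⟨_, hc x hx, filter_monomialMap σ c x, by rwa [Finset.card_smul_finset]⟩
  have key : ∀ g g' c : ℕ, isPerm 12 g = true → invN 12 g = g' → (∀ v : P6,
      tw (tinfo fun p => (if tb c (tc.idx p) then -1 else 1) * tw v (tc.pt (app g' (tc.idx p)))) =
        fun p => (if tb c (tc.idx p) then -1 else 1) * tw v (tc.pt (app g' (tc.idx p)))) →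
      tc.InH (monoAut ternaryGolayCode) g := fun g g' c h3 h4 h5 => by
    have hv : tc.Valid g := Coding.valid_of_isPerm h3
    refine ⟨hv, fun p => if tb c (tc.idx p) then -1 else 1, forall_ternary.mpr fun v => ?_⟩
    convert mem_ternary.mpr (h5 v) using 1
    funext p
    rw [monomialMap, ← h4, show invN 12 g = invN tc.n g from rfl, ← hv.inv.1.idx_dec, hv.inv.2, tc.pt_idx]
    split_ifs <;> rfl
  have h3 : 95040 ≤ Nat.card (monoAut ternaryGolayCode) := Coding.chain_le (c := tc)
    [(0, 12, [[0, 0, 1], [0, 1, 0]]), (1, 11, [[0, 0, 1, 1], [0, 0, 0, 1, 0]]), (2, 10, [[0, 1, 0, 0], [1, 0, 1, 0]]), (3, 9, [[1, 1, 0, 1], [0, 0, 0, 1, 0]]), (4, 8, [])]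
    (gs := [0x60002070801040a03050b09, 0x9070a080001020b05030604]) (by
      simp only [List.forall_mem_cons, List.not_mem_nil, false_imp_iff, implies_true, and_true]
      exact ⟨key _ 0x1040007080b02050309060a 0xa5a (by decide +kernel) (by decide +kernel) (by decide +kernel),
        key _ 0x4090b080a01030002050607 0x5ca (by decide +kernel) (by decide +kernel) (by decide +kernel)⟩) (by decide +kernel)
  have h4 := Subgroup.eq_of_le_of_card_ge h2 (h1.le.trans h3)
  refine ⟨?_, congrArg SetLike.coe h4⟩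
  rw [card_monomial, h4, h1, show Nat.card {c : ArrayPt → (ZMod 3)ˣ // ∀ x ∈ ternaryGolayCode,
    monomialMap 1 c x ∈ ternaryGolayCode} = 2 from ?_]
  refine Nat.card_eq_two_iff.mpr ⟨⟨1, fun x hx => ?_⟩, ⟨-1, fun x hx => ?_⟩, fun e => ?_,
    Set.eq_univ_of_forall fun c => ?_⟩
  · convert hx; funext i; simp [monomialMap, Equiv.Perm.one_def]
  · convert neg_mem hx; funext i; simp [monomialMap, Equiv.Perm.one_def]
  · exact absurd (congrFun (congrArg Subtype.val e) (0, 0)) (by decide)
  · exact (ternary_diag c.2).imp (fun h => Subtype.ext (funext h)) fun h => Subtype.ext (funext h)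

end Cfsg.Agent.S1594
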