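import Cfsg.Statements.S1596
import Cfsg.Agent.Lib.Golay.M12

set_option autoImplicit false
open scoped Pointwise
open Cfsg

namespace Cfsg.Agent.S1596

open Cfsg.Lib.Golay
open scoped Pointwise
set_option maxRecDepth 100000
set_option linter.unusedSimpArgs false

/-- A quartet of a dodecad is determined by any two of its triples: two disjoint triples uniting to a hexad extend to exactly one quartet. -/
theorem result (d : Finset Cfsg.GolayPt) (hd : d ∈ Cfsg.dodecads) (t u : Finset Cfsg.GolayPt) (ht : t.card = 3) (hu : u.card = 3) (htu : Disjoint t u) (hh : t ∪ u ∈ Cfsg.hexadsOn d) : ∃! Q : Finset (Finset Cfsg.GolayPt), Q ∈ Cfsg.quartets d ∧ t ∈ Q ∧ u ∈ Q := by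

  obtain ⟨σ, hσ, rfl, rfl, rfl⟩ := std_triples hd ht hu htu hh
  refine ⟨σ • qt 0x50040002300001018000007, ⟨(smul_mem_quartets hσ).mpr Q0_spec.2,
    Finset.smul_mem_smul_finset ?_, Finset.smul_mem_smul_finset ?_⟩, fun Q hQ => ?_⟩
  · rw [Q0_eq]; exact mem_famL.mpr ⟨_, by simp, rfl⟩
  · rw [Q0_eq]; exact mem_famL.mpr ⟨_, by simp, rfl⟩
  obtain ⟨Q, rfl⟩ := exists_eq_smul σ Q
  rw [smul_mem_quartets hσ, Finset.smul_mem_smul_finset_iff, Finset.smul_mem_smul_finset_iff] at hQ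
  rw [quartet_eq_Q0 hQ.1 hQ.2.1 hQ.2.2]

end Cfsg.Agent.S1596
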