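import Cfsg.Statements.S1597
import Cfsg.Agent.Lib.Golay.M12

set_option autoImplicit false
open scoped Pointwise
open Cfsg

namespace Cfsg.Agent.S1597

open Cfsg.Lib.Golay
open scoped Pointwise
set_option maxRecDepth 100000
set_option linter.unusedSimpArgs false

/-- A dodecad has 220 quartets and its stabiliser is transitive on them. -/
theorem result (d : Finset Cfsg.GolayPt) (hd : d ∈ Cfsg.dodecads) : (Cfsg.quartets d).ncard = 220 ∧ ∀ Q ∈ Cfsg.quartets d, ∀ Q' ∈ Cfsg.quartets d, ∃ g : Equiv.Perm Cfsg.GolayPt, g ∈ Cfsg.M24 ∧ g • d = d ∧ g • Q = Q' := by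

  refine ⟨?_, fun Q hQ Q' hQ' => ?_⟩
  · obtain ⟨σ, hσ, rfl⟩ := std_dodecad hd
    rw [← ncard_orbit_Q0, orbit_Q0, ← Set.setOf_mem_eq (s := quartets (σ • _)), ncard_setOf_smul σ]
    simp only [smul_mem_quartets hσ, Set.setOf_mem_eq]
  obtain ⟨σ, hσ, e1, rfl⟩ := std_quartet hd hQ
  obtain ⟨τ, hτ, e2, rfl⟩ := std_quartet hd hQ'
  refine ⟨τ * σ⁻¹, mul_mem hτ (inv_mem hσ), ?_, by simp [mul_smul]⟩
  rw [mul_smul, e1, inv_smul_smul, ← e2, ← e1]

end Cfsg.Agent.S1597
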