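import Cfsg.Statements.S1598
import Cfsg.Agent.Lib.Golay.M12
import Cfsg.Agent.Lib.Golay.Iso
import Cfsg.Agent.Lib.Linear.Card

set_option autoImplicit false
open scoped Pointwise
open Cfsg

namespace Cfsg.Agent.S1598

open Cfsg.Lib.Golay
open scoped Pointwise
set_option maxRecDepth 100000
set_option linter.unusedSimpArgs false

/-- A quartet stabiliser inside the dodecad stabiliser has order 432, a normal subgroup of order 9 with quotient GL(2, 3), and is transitive on the dodecad. -/
theorem result (d : Finset Cfsg.GolayPt) (hd : d ∈ Cfsg.dodecads) (Q : Finset (Finset Cfsg.GolayPt)) (hQ : Q ∈ Cfsg.quartets d) : Nat.card ↥(MulAction.stabilizer Cfsg.M24 d ⊓ MulAction.stabilizer Cfsg.M24 Q) = 432 ∧ (∃ (N : Subgroup ↥(MulAction.stabilizer Cfsg.M24 d ⊓ MulAction.stabilizer Cfsg.M24 Q)) (_ : N.Normal), Nat.card N = 9 ∧ Nonempty (↥(MulAction.stabilizer Cfsg.M24 d ⊓ MulAction.stabilizer Cfsg.M24 Q) ⧸ N ≃* GL (Fin 2) (ZMod 3))) ∧ ∀ p ∈ d, ∀ q ∈ d, ∃ g ∈ (MulAction.stabilizer Cfsg.M24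 d ⊓ MulAction.stabilizer Cfsg.M24 Q), ((g : ↥Cfsg.M24) : Equiv.Perm Cfsg.GolayPt) p = q := by

  obtain ⟨σ, hσ, rfl, rfl⟩ := std_quartet hd hQ
  have c := (conjTo_M12 hσ).inf_stab (qt 0x50040002300001018000007)
  refine ⟨c.card_eq.trans card_HQ4, ?_, fun p hp q hq => ?_⟩
  · have hL : Nat.card (GL (Fin 2) (ZMod 3)) = 48 := by rw [Lib.Linear.card_GL_two, Nat.card_zmod]; rfl
    obtain ⟨φ, h1, -⟩ := Coding.label_hom gc.conjCode (conjN 24) gen_gHQ4 (fun g hg => hg.1.impl_conj) inH_gHQ4
      (fun (l : GL (Fin 2) (ZMod 3)) (v : Fin 2 → ZMod 3) => l.val.mulVec v) (fun v => Matrix.one_mulVec v)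
      (fun a b v => (Matrix.mulVec_mulVec v a.val b.val).symm)
      (fun v => getL [0x17161514131211100f0e0d0c0b0a09080706050403020100, 0x160b0e150f10110605140904170a080d071213030c020100, 0xb17140e0506111213150803160a0d0907100f0c04020100, 0xe140f13161011060b05080c150a0d090712170403000201, 0x1415050f0b06111217130d040e0a0908071016030c000201, 0x150e130517121110160f0903140a080d07060b0c04000201, 0x5130b16140611121517090c0f0a080d07100e0403010002, 0x130f170b151211100e160804050a0d09070614030c010002, 0xf0516170e101106140b0d03130a09080712150c04010002] 0 ((v 0).val + 3 * (v 1).val))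
      (fun v => Coding.valid_of_isPerm (by revert v; decide +kernel))
      (fun l h => Units.ext (Matrix.ext_iff_mulVec.mpr fun v => by
        have := h v
        rw [Units.val_one, Matrix.one_mulVec]
        generalize l.val.mulVec v = w at this
        revert v w; decide +kernel))
      [⟨!![2, 1; 2, 0], !![0, 2; 1, 2], by decide, by decide⟩, ⟨!![1, 1; 0, 2], !![1, 1; 0, 2], by decide, by decide⟩]
      (by decide +kernel)
      [(0x160b0e150f10110605140904170a080d071213030c020100, 8, [[1], [0, 1, 0, 1, 0, 0], [0, 0, 1, 0, 1, 0, 0, 1, 0]]), (0xe140f13161011060b05080c150a0d090712170403000201, 6, [])]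
      (by decide +kernel) (by decide +kernel) hL.le
    obtain ⟨N, hN, h2, -, h3⟩ := exists_normal_of_hom c.equiv φ h1
    exact ⟨N, hN, h2.trans (card_ker_of_surj φ h1 (by rw [card_HQ4, hL])), h3⟩
  obtain ⟨p, rfl⟩ := exists_eq_smul σ p
  obtain ⟨q, rfl⟩ := exists_eq_smul σ q
  rw [smul_mem_smul'] at hp hq
  exact c.exists_smul (pts_class inH_gHQ4 0 (by decide) _ (by decide +kernel) hp hq)

end Cfsg.Agent.S1598
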