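import Cfsg.Statements.S1599
import Cfsg.Agent.Lib.Golay.M12

set_option autoImplicit false
open scoped Pointwise
open Cfsg

namespace Cfsg.Agent.S1599

open Cfsg.Lib.Golay
open scoped Pointwise
set_option maxRecDepth 100000
set_option linter.unusedSimpArgs false

/-- A quartet stabiliser has five orbits on the quartets of its dodecad, of sizes 1, 12, 27, 72, 108. -/
theorem result (d : Finset Cfsg.GolayPt) (hd : d ∈ Cfsg.dodecads) (Q : Finset (Finset Cfsg.GolayPt)) (hQ : Q ∈ Cfsg.quartets d) : ∃ X₁ ∈ Cfsg.quartets d, ∃ X₂ ∈ Cfsg.quartets d, ∃ X₃ ∈ Cfsg.quartets d, ∃ X₄ ∈ Cfsg.quartets d, (MulAction.orbit ↥(MulAction.stabilizer Cfsg.M24 d ⊓ MulAction.stabilizer Cfsg.M24 Q) X₁).ncard = 12 ∧ (MulAction.orbit ↥(MulAction.stabilizer Cfsg.M24 d ⊓ MulAction.stabilizer Cfsg.M24 Q) X₂).ncard = 27 ∧ (MulAction.orbit ↥(MulAction.stabilizer Cfsg.M24 d ⊓ MulAction.stabilizer Cfsg.M24 Q) X₃).ncard = 72 ∧ (MulAction.orbit ↥(MulAction.stabilizer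 Cfsg.M24 d ⊓ MulAction.stabilizer Cfsg.M24 Q) X₄).ncard = 108 ∧ Cfsg.quartets d = {Q} ∪ MulAction.orbit ↥(MulAction.stabilizer Cfsg.M24 d ⊓ MulAction.stabilizer Cfsg.M24 Q) X₁ ∪ MulAction.orbit ↥(MulAction.stabilizer Cfsg.M24 d ⊓ MulAction.stabilizer Cfsg.M24 Q) X₂ ∪ MulAction.orbit ↥(MulAction.stabilizer Cfsg.M24 d ⊓ MulAction.stabilizer Cfsg.M24 Q) X₃ ∪ MulAction.orbit ↥(MulAction.stabilizer Cfsg.M24 d ⊓ MulAction.stabilizer Cfsg.M24 Q) X₄ := by

  obtain ⟨σ, hσ, rfl, rfl⟩ := std_quartet hd hQ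
  have c := (conjTo_M12 hσ).inf_stab (qt 0x50040002300001018000007)
  have hv : ∀ r ∈ [(0x50040002300001018000007, 1), (0x5004000201400120100010a, 12), (0x50001002210001108000046, 27),
      (0x40041012008001014000302, 72), (0x40208010003002014001140, 108)],
      (famCode 4).V r.1 ∧ (famCode 4).dec r.1 ∈ quartets (om 0x5335f) := fun r hr =>
    isQt_spec (by revert r; decide +kernel)
  obtain ⟨h1, h2⟩ := Coding.orbits_cert (famCode 4) (famAct 4) gen_gHQ4 (fun g hg => (inH_gHQ4 g hg).1.impl_fam 4)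
    (finite_set_fam _) (fun g hg x hx => (smul_mem_quartets_D0 hg.1).mpr hx) _ hv (by decide +kernel) (by decide)
    (by rw [← orbit_Q0, ncard_orbit_Q0]; decide)
  simp only [List.forall_mem_cons, List.not_mem_nil, List.exists_mem_cons_iff] at h1 h2 hv
  refine ⟨σ • qt 0x5004000201400120100010a, (smul_mem_quartets hσ).mpr hv.2.1.2,
    σ • qt 0x50001002210001108000046, (smul_mem_quartets hσ).mpr hv.2.2.1.2,
    σ • qt 0x40041012008001014000302, (smul_mem_quartets hσ).mpr hv.2.2.2.1.2,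
    σ • qt 0x40208010003002014001140, (smul_mem_quartets hσ).mpr hv.2.2.2.2.1.2,
    (c.ncard_orbit _).trans h1.2.1, (c.ncard_orbit _).trans h1.2.2.1, (c.ncard_orbit _).trans h1.2.2.2.1,
    (c.ncard_orbit _).trans h1.2.2.2.2.1, ?_⟩
  ext y
  obtain ⟨y, rfl⟩ := exists_eq_smul σ y
  simp only [c.orbit_eq, Set.mem_union, Set.smul_mem_smul_set_iff, Set.mem_singleton_iff,
    smul_left_cancel_iff, smul_mem_quartets hσ]
  constructor
  · intro hy
    have := h2 y hy
    rw [orbit_eq_singleton_of_fix (H := HQ4) (x := (famCode 4).dec 0x50040002300001018000007) inf_le_right] at this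
    simp only [false_and, exists_false, or_false, Set.mem_singleton_iff] at this
    simp only [or_assoc]
    exact this
  · have k : ∀ x ∈ quartets (om 0x5335f), y ∈ MulAction.orbit HQ4 x → y ∈ quartets (om 0x5335f) := by
      rintro x hx ⟨g, rfl⟩; exact (smul_mem_quartets_D0 g.2.1).mpr hx
    rintro ((((rfl | h) | h) | h) | h)
    exacts [Q0_spec.2, k _ hv.2.1.2 h, k _ hv.2.2.1.2 h, k _ hv.2.2.2.1.2 h, k _ hv.2.2.2.2.1.2 h]

end Cfsg.Agent.S1599
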