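import Cfsg.Statements.S1600
import Cfsg.Agent.Lib.Golay.M12

set_option autoImplicit false
open scoped Pointwise
open Cfsg

namespace Cfsg.Agent.S1600

open Cfsg.Lib.Golay
open scoped Pointwise
set_option maxRecDepth 100000
set_option linter.unusedSimpArgs false

/-- The pointwise stabiliser of three points of a dodecad inside the dodecad stabiliser (order 72) is transitive on the complementary dodecad. -/
theorem result (d : Finset Cfsg.GolayPt) (hd : d ∈ Cfsg.dodecads) (p q r : Cfsg.GolayPt) (hp : p ∈ d) (hq : q ∈ d) (hr : r ∈ d) (hpq : p ≠ q) (hpr : p ≠ r) (hqr : q ≠ r) : Nat.card ↥(MulAction.stabilizer Cfsg.M24 d ⊓ MulAction.stabilizer Cfsg.M24 p ⊓ MulAction.stabilizer Cfsg.M24 q ⊓ MulAction.stabilizer Cfsg.M24 r) = 72 ∧ ∀ x ∉ d, ∀ y ∉ d, ∃ g ∈ (MulAction.stabilizer Cfsg.M24 d ⊓ MulAction.stabilizer Cfsg.M24 p ⊓ MulAction.stabilizer Cfsg.M24 q ⊓ MulAction.stabilizer Cfsg.M24 r), ((g : ↥Cfsg.M24) : Equiv.Perm Cfsg.GolayPt)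 x = y := by
  obtain ⟨σ, hσ, rfl, e⟩ := std_dodecad_list hd (l := [some 0, gc.pt 1, gc.pt 2]) (l' := [p, q, r])
    (by decide) (by simp [hpq, hpr, hqr]) rfl (by simp) (by decide +kernel) (by simp [hp, hq, hr])
  simp only [List.map_cons, List.map_nil, List.cons.injEq, and_true] at e
  obtain ⟨rfl, rfl, rfl⟩ := e
  have hc := ((conjTo_M11 hσ).inf_stab (gc.pt 1)).inf_stab (gc.pt 2)
  refine ⟨hc.card_eq.trans card_M9, fun x hx y hy => ?_⟩
  obtain ⟨x, rfl⟩ := exists_eq_smul σ x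
  obtain ⟨y, rfl⟩ := exists_eq_smul σ y
  rw [smul_mem_smul', ← Finset.mem_compl, ← om_compl] at hx hy
  exact hc.exists_smul (pts_class inH_gM9 5 (by decide) _ (by decide +kernel) hx hy)

end Cfsg.Agent.S1600
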