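import Cfsg.Statements.S1602
import Cfsg.Agent.Lib.Golay.M12

set_option autoImplicit false
open scoped Pointwise
open Cfsg

namespace Cfsg.Agent.S1602

open Cfsg.Lib.Golay
open scoped Pointwise
set_option maxRecDepth 100000
set_option linter.unusedSimpArgs false

/-- In the 12-point action of the smallest Mathieu group the setwise stabiliser of a pair is isomorphic to the symmetric group of degree 5. -/
theorem result (d : Finset Cfsg.GolayPt) (hd : d ∈ Cfsg.dodecads) (p q q' : Cfsg.GolayPt) (hp : p ∈ d) (hq : q ∉ d) (hq' : q' ∉ d) (hqq' : q ≠ q') : Nonempty (↥(MulAction.stabilizer Cfsg.M24 d ⊓ MulAction.stabilizer Cfsg.M24 p ⊓ MulAction.stabilizer Cfsg.M24 ({q, q'} : Finset Cfsg.GolayPt)) ≃* Equiv.Perm (Fin 5)) := by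

  obtain ⟨σ, hσ, rfl, rfl⟩ := std_dodecad_pt hd hp
  obtain ⟨q, rfl⟩ := exists_eq_smul σ q
  obtain ⟨q', rfl⟩ := exists_eq_smul σ q'
  rw [smul_mem_smul'] at hq hq'
  obtain ⟨τ, hτ, e⟩ := exists_M11_list (l := [gc.pt 5, gc.pt 7]) (l' := [q, q']) (by decide)
    (by simpa using hqq') rfl (by simp) (by decide +kernel) (by simp [hq, hq'])
  simp only [List.map_cons, List.map_nil, List.cons.injEq, and_true] at e
  have c := (conjTo_M11 (mul_mem hσ (M12_le hτ.1))).inf_stab (om 0xa0)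
  rw [mul_smul, mul_smul, mul_smul, (mem_M11.mp hτ).2.1, show τ • (some 0 : GolayPt) = some 0 from hτ.2,
    show om 0xa0 = {gc.pt 5, gc.pt 7} by decide +kernel, smul_pair, smul_pair,
    show τ • gc.pt 5 = q from e.1, show τ • gc.pt 7 = q' from e.2, ← show om 0xa0 = {gc.pt 5, gc.pt 7} by decide +kernel] at c
  have h1 := (stab_set_cert gen_gM11 inH_gM11 0xa0 (by norm_num) (n := 66) (N := 120) card_M11 (by decide +kernel)).2
  have hg : ∀ g ∈ [0xb110e1315060a0d140f0c09161704020708051012030100, 0xb11160f17120a0c14130d040e1509020508070106031000],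
      gc.InH (Spor.M11 ⊓ MulAction.stabilizer (Equiv.Perm GolayPt) (om 0xa0)) g :=
    inH_inf_om (inH_M11 (by decide +kernel)) _ (by decide +kernel)
  have h2 := Coding.gen_eq_of_chain [(10, 10, [[0, 1, 1, 1], [0, 1, 0, 1, 0]]), (1, 6, [[0, 1, 0]]), (2, 2, [])]
    hg (by decide +kernel) h1.le
  obtain ⟨e⟩ := equiv_perm_of_faithful (H := Spor.M11 ⊓ MulAction.stabilizer (Equiv.Perm GolayPt) (om 0xa0))
    (E := om 0x4014c) (fun g h x hx => stab_inv_finset
      (Coding.gen_le (inH_inf_om hg 0x4014c (by decide +kernel)) (h2 ▸ h)).2 hx)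
    (fun g hg h => M12_eq_one_of_fix_emb hg.1.1 ⟨![gc.pt 2, gc.pt 3, gc.pt 6, gc.pt 8, gc.pt 18], by decide⟩
      (by decide +kernel) fun i => h _ (by revert i; decide +kernel)) (n := 5) (by decide +kernel) h1
  exact ⟨c.equiv.trans e⟩

end Cfsg.Agent.S1602
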