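import Cfsg.Statements.S1603
import Cfsg.Agent.Lib.Golay.Cls
import Cfsg.Agent.Lib.Linear.Card

set_option autoImplicit false
open scoped Pointwise
open Cfsg

namespace Cfsg.Agent.S1603

open Cfsg.Lib.Golay
open scoped Pointwise
set_option maxRecDepth 100000
set_option linter.unusedSimpArgs false
set_option maxHeartbeats 400000

/-- Involution centralisers in the smallest Mathieu group are isomorphic to GL(2, 3). -/
theorem result (d : Finset Cfsg.GolayPt) (hd : d ∈ Cfsg.dodecads) (p : Cfsg.GolayPt) (hp : p ∈ d) (x : ↥(MulAction.stabilizer Cfsg.M24 d ⊓ MulAction.stabilizer Cfsg.M24 p)) (hx : orderOf x = 2) : Nonempty (↥(Subgroup.centralizer ({x} : Set ↥(MulAction.stabilizer Cfsg.M24 d ⊓ MulAction.stabilizer Cfsg.M24 p))) ≃* GL (Fin 2) (ZMod 3)) := by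

  obtain ⟨σ, hσ, rfl, rfl⟩ := std_dodecad_pt hd hp
  have c := conjTo_M11 hσ
  obtain ⟨k, hk, e⟩ := M11_invol (c.equiv x).2 (by rw [Subgroup.orderOf_coe, MulEquiv.orderOf_eq, hx])
  have c2 := conjTo_centralizer_elem hk e
  have hz : gc.Valid z11 := Coding.valid_of_isPerm (by decide +kernel)
  have h1 := Coding.card_centralizer gen_gM11 (fun g hg => (inH_gM11 g hg).1) hz (n := 165) (N := 48) card_M11
    (M := 251) (d := 8) (a := 3) (by decide +kernel)
  have hg : ∀ g ∈ [0x160e140b110407030f170d06150a10121301050809020c00, 0xf1615050a04110d1707100c0b1309080e02141201060300],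
      gc.InH (Spor.M11 ⊓ Subgroup.centralizer {gc.dec z11}) g :=
    inH_inf_cent (inH_M11 (by decide +kernel)) hz (by decide +kernel)
  have h2 := Coding.gen_eq_of_chain [(1, 8, [[0, 0, 1, 0], [0, 1, 0, 1, 0, 0]]), (2, 6, [])]
    hg (by decide +kernel) h1.le
  have hL : Nat.card (GL (Fin 2) (ZMod 3)) = 48 := by rw [Lib.Linear.card_GL_two, Nat.card_zmod]; rfl
  obtain ⟨φ, h3, -⟩ := Coding.label_hom gc.ptCode app h2 (fun g hg => hg.1.impl_pt) hg
    (fun (l : GL (Fin 2) (ZMod 3)) (v : Fin 2 → ZMod 3) => l.val.mulVec v) (fun v => Matrix.one_mulVec v)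
    (fun a b v => (Matrix.mulVec_mulVec v a.val b.val).symm)
    (fun v => getL [0, 10, 15, 19, 17, 7, 23, 14, 22] 0 ((v 0).val + 3 * (v 1).val))
    (fun v => show _ < 24 by revert v; decide +kernel)
    (fun l h => Units.ext (Matrix.ext_iff_mulVec.mpr fun v => by
      have := h v
      rw [Units.val_one, Matrix.one_mulVec]
      generalize l.val.mulVec v = w at this
      revert v w; decide +kernel))
    [⟨!![1, 1; 0, 1], !![1, 2; 0, 1], by decide, by decide⟩, ⟨!![0, 1; 1, 0], !![0, 1; 1, 0], by decide, by decide⟩]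
    (by decide +kernel) [(10, 8, [[0], [1, 0, 0, 1, 0, 1]]), (19, 6, [])]
    (by decide +kernel) (by decide +kernel) hL.le
  obtain ⟨e⟩ := nonempty_equiv_of_surj φ h3 (by rw [h1]; exact hL.ge)
  exact ⟨((centralizerEquiv c.equiv x).trans c2.equiv).trans e⟩

end Cfsg.Agent.S1603
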