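import Cfsg.Statements.S1604
import Cfsg.Agent.Lib.Golay.Oct

set_option autoImplicit false
open scoped Pointwise
open Cfsg

namespace Cfsg.Agent.S1604

open Cfsg.Lib.Golay
open scoped Pointwise
set_option maxRecDepth 100000
set_option linter.unusedSimpArgs false

/-- A hexad stabiliser in the two-point stabiliser has orbits of sizes 1, 16, 60 on the 77 hexads: the 16 hexads disjoint from it and the 60 meeting it in two points. -/
theorem result (p q : Cfsg.GolayPt) (hpq : p ≠ q) (o o' o'' : Finset Cfsg.GolayPt) (ho : o ∈ Cfsg.octads) (ho' : o' ∈ Cfsg.octads) (ho'' : o'' ∈ Cfsg.octads) (hp : p ∈ o ∧ p ∈ o' ∧ p ∈ o'') (hq : q ∈ o ∧ q ∈ o' ∧ q ∈ o'') (h : (o ∩ o').card = (o ∩ o'').card) : {x : Finset Cfsg.GolayPt | x ∈ Cfsg.octads ∧ p ∈ x ∧ q ∈ x ∧ (o ∩ x).card = 2}.ncard = 16 ∧ {x : Finset Cfsg.GolayPt | x ∈ Cfsg.octads ∧ p ∈ x ∧ q ∈ x ∧ (o ∩ x).card = 4}.ncard = 60 ∧ ∃ g : Equiv.Perm Cfsg.GolayPt, g ∈ Cfsg.M24 ∧ g p = p ∧ g q =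 q ∧ g • o = o ∧ g • o' = o'' := by
  obtain ⟨σ, hσ, rfl, rfl, rfl⟩ := std_octad_two ho hp.1 hq.1 hpq
  refine ⟨?_, ?_, ?_⟩
  · rw [ncard_setOf_smul σ]
    simp only [smul_mem_octads_iff hσ, smul_mem_dodecads_iff hσ, smul_mem_smul', card_smul_inter]
    rw [ncard_oct (fun m => band (tb m 23) (band (tb m 0) (Nat.beq (pop24 (Nat.land 0x82402f m)) 2))) (fun m _ => by
      simp only [none_mem_om, zero_mem_om, pt_mem_om (show 4 < 24 by norm_num), card_om_inter, band_iff, bnot_iff, beq_iff])]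
    decide +kernel
  · rw [ncard_setOf_smul σ]
    simp only [smul_mem_octads_iff hσ, smul_mem_dodecads_iff hσ, smul_mem_smul', card_smul_inter]
    rw [ncard_oct (fun m => band (tb m 23) (band (tb m 0) (Nat.beq (pop24 (Nat.land 0x82402f m)) 4))) (fun m _ => by
      simp only [none_mem_om, zero_mem_om, pt_mem_om (show 4 < 24 by norm_num), card_om_inter, band_iff, bnot_iff, beq_iff])]
    decide +kernel
  obtain ⟨o', rfl⟩ := exists_eq_smul σ o'
  obtain ⟨o'', rfl⟩ := exists_eq_smul σ o''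
  simp only [smul_mem_octads_iff hσ, smul_mem_dodecads_iff hσ, smul_mem_smul', card_smul_inter] at ho' ho'' hp hq h
  obtain ⟨a, ha, rfl⟩ := exists_isOct ho'
  obtain ⟨b, hb, rfl⟩ := exists_isOct ho''
  rw [card_om_inter, card_om_inter] at h
  have ha' : band (Nat.beq (pop24 a) 8) (band (tb a 23) (tb a 0)) = true := by
    simp only [band_iff, beq_iff, bnot_iff]; exact ⟨(isOct_iff.mp ha).2, none_mem_om.mp hp.2.1, zero_mem_om.mp hq.2.1⟩
  have hb' : band (Nat.beq (pop24 b) 8) (band (tb b 23) (tb b 0)) = true := by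
    simp only [band_iff, beq_iff, bnot_iff]; exact ⟨(isOct_iff.mp hb).2, none_mem_om.mp hp.2.2, zero_mem_om.mp hq.2.2⟩
  obtain ⟨g, hg, e⟩ := cw_classes (H := HO ⊓ MulAction.stabilizer (Equiv.Perm GolayPt) (gc.pt 23) ⊓ MulAction.stabilizer (Equiv.Perm GolayPt) (gc.pt 0)) (inf_le_left.trans (inf_le_left.trans inf_le_left)) (gs := [0x170b080d160705130c0e0912040a1514060f031001110200, 0x17141207060a010908020d0f04130c100b1505160e110300])
    (inH_inf_pt (inH_inf_pt (inH_inf_om (inH_of_allL (by decide +kernel)) 0x82402f (by decide +kernel)) 23 (by decide) (by decide +kernel)) 0 (by decide) (by decide +kernel))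
    (fun m => bif' (band (Nat.beq (pop24 m) 8) (band (tb m 23) (tb m 0))) (Nat.succ (pop24 (Nat.land 0x82402f m))) 0)
    [0xc75001, 0xb0a051, 0x82402f] (by decide +kernel) (isOct_iff.mp ha).1 (isOct_iff.mp hb).1
    (by rw [bif'_pos ha']; exact Nat.succ_ne_zero _) (by rw [bif'_pos ha', bif'_pos hb', h])
  exact ⟨σ * g * σ⁻¹, mul_mem (mul_mem hσ hg.1.1.1) (inv_mem hσ), (conj_apply_smul σ g _).trans (congrArg (σ • ·) hg.1.2), (conj_apply_smul σ g _).trans (congrArg (σ • ·) hg.2), by rw [conj_smul_smul, hg.1.1.2], by rw [conj_smul_smul, e]⟩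

end Cfsg.Agent.S1604
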