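import Cfsg.Statements.S1605
import Cfsg.Agent.Lib.Golay.Oct

set_option autoImplicit false
open scoped Pointwise
open Cfsg

namespace Cfsg.Agent.S1605

open Cfsg.Lib.Golay
open scoped Pointwise
set_option maxRecDepth 100000
set_option linter.unusedSimpArgs false

/-- The two-point stabiliser acts on the 176 octads through the first point avoiding the second with rank 3 and subdegrees 1, 70, 105 (intersections 8, 2, 4). -/
theorem result (p q : Cfsg.GolayPt) (hpq : p ≠ q) : {x : Finset Cfsg.GolayPt | (x ∈ Cfsg.octads ∧ p ∈ x ∧ q ∉ x)}.ncard = 176 ∧ (∀ o o' : Finset Cfsg.GolayPt, (o ∈ Cfsg.octads ∧ p ∈ o ∧ q ∉ o) → (o' ∈ Cfsg.octads ∧ p ∈ o' ∧ q ∉ o') → ∃ g : Equiv.Perm Cfsg.GolayPt, g ∈ Cfsg.M24 ∧ g p = p ∧ g q = q ∧ g • o = o') ∧ ∀ o : Finset Cfsg.GolayPt, (o ∈ Cfsg.octads ∧ p ∈ o ∧ q ∉ o) → {x : Finset Cfsg.GolayPt | (x ∈ Cfsg.octads ∧ p ∈ x ∧ q ∉ x) ∧ (o ∩ x).card = 2}.ncard = 70 ∧ {x : Finset Cfsg.GolayPt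 | (x ∈ Cfsg.octads ∧ p ∈ x ∧ q ∉ x) ∧ (o ∩ x).card = 4}.ncard = 105 ∧ ∀ o' o'' : Finset Cfsg.GolayPt, (o' ∈ Cfsg.octads ∧ p ∈ o' ∧ q ∉ o') → (o'' ∈ Cfsg.octads ∧ p ∈ o'' ∧ q ∉ o'') → (o ∩ o').card = (o ∩ o'').card → ∃ g : Equiv.Perm Cfsg.GolayPt, g ∈ Cfsg.M24 ∧ g p = p ∧ g q = q ∧ g • o = o ∧ g • o' = o'' := by
  refine ⟨?_, fun o o' ho ho' => ?_, fun o ho => ?_⟩
  · obtain ⟨σ, hσ, h1, h2⟩ := exists_M24_two (a := none) (b := gc.pt 4) (by decide) hpq
    obtain rfl : σ • (none : GolayPt) = p := h1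
    obtain rfl : σ • gc.pt 4 = q := h2
    rw [ncard_setOf_smul σ]
    simp only [smul_mem_octads_iff hσ, smul_mem_dodecads_iff hσ, smul_mem_smul', card_smul_inter]
    rw [ncard_oct (fun m => band (tb m 23) (bnot (tb m 4))) (fun m _ => by
      simp only [none_mem_om, zero_mem_om, pt_mem_om (show 4 < 24 by norm_num), card_om_inter, band_iff, bnot_iff, beq_iff])]
    decide +kernel
  · obtain ⟨σ, hσ, rfl, rfl, rfl⟩ := std_octad_in_out ho.1 ho.2.1 ho.2.2
    obtain ⟨τ, hτ, rfl, h1, h2⟩ := std_octad_in_out ho'.1 ho'.2.1 ho'.2.2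
    refine ⟨τ * σ⁻¹, mul_mem hτ (inv_mem hσ), ?_, ?_, by simp [mul_smul]⟩
    · simpa using h1.symm
    · simpa using h2.symm
  obtain ⟨σ, hσ, rfl, rfl, rfl⟩ := std_octad_in_out ho.1 ho.2.1 ho.2.2
  refine ⟨?_, ?_, fun o' o'' ⟨ho', hp', hq'⟩ ⟨ho'', hp'', hq''⟩ h => ?_⟩
  · rw [ncard_setOf_smul σ]
    simp only [smul_mem_octads_iff hσ, smul_mem_dodecads_iff hσ, smul_mem_smul', card_smul_inter]
    simp only [and_assoc]
    rw [ncard_oct (fun m => band (tb m 23) (band (bnot (tb m 4)) (Nat.beq (pop24 (Nat.land 0x82402f m)) 2))) (fun m _ => by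
      simp only [none_mem_om, zero_mem_om, pt_mem_om (show 4 < 24 by norm_num), card_om_inter, band_iff, bnot_iff, beq_iff])]
    decide +kernel
  · rw [ncard_setOf_smul σ]
    simp only [smul_mem_octads_iff hσ, smul_mem_dodecads_iff hσ, smul_mem_smul', card_smul_inter]
    simp only [and_assoc]
    rw [ncard_oct (fun m => band (tb m 23) (band (bnot (tb m 4)) (Nat.beq (pop24 (Nat.land 0x82402f m)) 4))) (fun m _ => by
      simp only [none_mem_om, zero_mem_om, pt_mem_om (show 4 < 24 by norm_num), card_om_inter, band_iff, bnot_iff, beq_iff])]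
    decide +kernel
  obtain ⟨o', rfl⟩ := exists_eq_smul σ o'
  obtain ⟨o'', rfl⟩ := exists_eq_smul σ o''
  simp only [smul_mem_octads_iff hσ, smul_mem_dodecads_iff hσ, smul_mem_smul', card_smul_inter] at ho' ho'' hp' hp'' hq' hq'' h
  obtain ⟨a, ha, rfl⟩ := exists_isOct ho'
  obtain ⟨b, hb, rfl⟩ := exists_isOct ho''
  rw [card_om_inter, card_om_inter] at h
  have ha' : band (Nat.beq (pop24 a) 8) (band (tb a 23) (bnot (tb a 4))) = true := by
    simp only [band_iff, beq_iff, bnot_iff]; exact ⟨(isOct_iff.mp ha).2, none_mem_om.mp hp', (pt_mem_om (by norm_num)).not.mp hq'⟩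
  have hb' : band (Nat.beq (pop24 b) 8) (band (tb b 23) (bnot (tb b 4))) = true := by
    simp only [band_iff, beq_iff, bnot_iff]; exact ⟨(isOct_iff.mp hb).2, none_mem_om.mp hp'', (pt_mem_om (by norm_num)).not.mp hq''⟩
  obtain ⟨g, hg, e⟩ := cw_classes (H := HO ⊓ MulAction.stabilizer (Equiv.Perm GolayPt) (gc.pt 23) ⊓ MulAction.stabilizer (Equiv.Perm GolayPt) (gc.pt 4)) (inf_le_left.trans (inf_le_left.trans inf_le_left)) (gs := [0x17091315120f0310080214160a0c060d0b0711040105000e, 0x17090c0f061411070d050b1312150810160a0004030e0201])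
    (inH_inf_pt (inH_inf_pt (inH_inf_om (inH_of_allL (by decide +kernel)) 0x82402f (by decide +kernel)) 23 (by decide) (by decide +kernel)) 4 (by decide) (by decide +kernel))
    (fun m => bif' (band (Nat.beq (pop24 m) 8) (band (tb m 23) (bnot (tb m 4)))) (Nat.succ (pop24 (Nat.land 0x82402f m))) 0)
    [0xc75001, 0xd4b004, 0x82402f] (by decide +kernel) (isOct_iff.mp ha).1 (isOct_iff.mp hb).1
    (by rw [bif'_pos ha']; exact Nat.succ_ne_zero _) (by rw [bif'_pos ha', bif'_pos hb', h])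
  exact ⟨σ * g * σ⁻¹, mul_mem (mul_mem hσ hg.1.1.1) (inv_mem hσ), (conj_apply_smul σ g _).trans (congrArg (σ • ·) hg.1.2), (conj_apply_smul σ g _).trans (congrArg (σ • ·) hg.2), by rw [conj_smul_smul, hg.1.1.2], by rw [conj_smul_smul, e]⟩

end Cfsg.Agent.S1605
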