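import Cfsg.Statements.S1606
import Cfsg.Agent.Lib.Small.MathSub

set_option autoImplicit false
open scoped Pointwise
open Cfsg

namespace Cfsg.Agent.S1606

open Subgroup MulAction Cfsg.Lib.Small Cfsg.Lib.Golay Cfsg.Spor
open scoped Pointwise
set_option maxRecDepth 100000

def t1 : ℕ := 0x1705030a0f0413160e150c11140810120d0b060901070200
def t2 : ℕ := 0x170601080e090f05150311130a1216040c140b10020d0700
/-- the powers `1, 2, 3, 4, 5, 6, 8` of `t1`. -/
def tl : List ℕ := [t1, t2, 0x170b021215100e060301130f08040509110a1416070c0d00,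
  0x171407040316150b01020f0e1209061013080a050d110c00, 0x170a0d090105031402070e1504100b160f1208060c131100,
  0x17080c100206010a070d1503091614050e04120b110f1300, 0x170413050d1407120c1101021606080b0310090a0f150e00]

def ws : List (List ℕ) := [[1, 0], [2, 0], [1, 0, 3, 0, 7, 0], [2, 0, 7, 0, 4, 0], [3, 0, 6, 0, 5, 0],
  [1, 0, 3, 0, 5, 0], [1, 0, 2, 0, 4, 0]]

noncomputable def chk (y : ℕ) : Bool :=
  bor (band (Nat.beq (imgT y 0xd50f70) 0xd50f70)
    (anyL [t1, t2] fun s => Nat.beq (powN gc.n (mulN gc.n s y) 30) (idN gc.n)))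
  (anyL ws fun w => forceN (wordN gc.n (y :: tl) w) fun x =>
    band (Nat.beq (countN 24 fun i => Nat.beq (app x i) i) 3)
      (band (Nat.beq (powN gc.n x 7) (idN gc.n)) (bnot (Nat.beq x (idN gc.n)))))

theorem all_chk {g : Equiv.Perm GolayPt} (hg : g ∈ M22) (h : orderOf g = 2) :
    ∃ y, gc.Valid y ∧ gc.dec y = g ∧ chk y = true := by
  obtain ⟨k, hk, rfl⟩ := M22_invol hg h
  obtain ⟨mem, t, L, h1, h2, -⟩ := Coding.bfsH_gen gc.conjCode (conjN gc.n)
    (fun g hg => (inH_gM22 g hg).1.impl_conj) (M := 1021) (d := 10) (a := 20) (x0 := z2A) inH_z2A.1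
    (k := fun _ L => allL L chk) (by decide +kernel)
  obtain ⟨y, hy, e⟩ := h2.surj (toCj (k * gc.dec z2A * k⁻¹)) (mem_orbit_toCj.2 ⟨k, gen_gM22 ▸ hk, rfl⟩)
  exact ⟨y, h2.valid y hy, e, allL_iff.1 h1 y hy⟩

theorem key {K : Subgroup (Equiv.Perm GolayPt)} (hK : K ≤ M22) (ht : gc.dec t1 ∈ K) (h2 : 2 ∣ Nat.card K)
    (h7 : ¬ 7 ∣ Nat.card K) : Nat.card K ≤ 660 := by
  have h1 : ∀ g ∈ tl, gc.InH K g := by
    rw [show tl = mapL (wordN gc.n [t1]) [[0], [0, 0], [0, 0, 0], [0, 0, 0, 0], [0, 0, 0, 0, 0],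
      [0, 0, 0, 0, 0, 0], [0, 0, 0, 0, 0, 0, 0, 0]] by decide +kernel]
    exact Coding.inH_words (fun g hg => by
      rw [List.mem_singleton.1 hg]; exact ⟨(inH_gM22 _ List.mem_cons_self).1, ht⟩) _
  have h3 : ∀ g ∈ K, orderOf g = 2 → g • om 0xd50f70 = om 0xd50f70 ∧
      ∃ s ∈ [t1, t2], (gc.dec s * g) ^ 30 = 1 := fun g hg h => by
    obtain ⟨y, hy, rfl, h4⟩ := all_chk (hK hg) h
    rw [chk, bor_iff, band_iff, anyL_iff, anyL_iff] at h4
    rcases h4 with ⟨h4, s, hs, h5⟩ | ⟨w, -, h4⟩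
    · have hv := (h1 s ((by decide : ∀ s ∈ [t1, t2], s ∈ tl) s hs)).1
      exact ⟨by rw [hy.smul_om, Nat.eq_of_beq_eq_true h4], s, hs, by
        rw [← hv.dec_mul hy, (hv.mul hy).pow_eq_one_iff]; exact Nat.eq_of_beq_eq_true h5⟩
    · have h5 := Coding.inH_wordN (H := K) (gs := y :: tl) (fun g hg' => by
        rcases List.mem_cons.1 hg' with rfl | hg'
        · exact ⟨hy, hg⟩
        · exact h1 g hg') w
      rw [forceN_eq, band_iff] at h4
      exact absurd (h5.1.orderOf_eq (by norm_num) h4.2 ▸ order_dvd h5.2) h7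
  obtain ⟨y, hy, h4⟩ := exists_order Nat.prime_two h2
  obtain ⟨s, hs, h5⟩ := (h3 y hy h4).2
  have hs' := h1 s ((by decide : ∀ s ∈ [t1, t2], s ∈ tl) s hs)
  let φ := toPermHom K (orbit K (om 0xd50f70))
  have h6 : φ ⟨y, hy⟩ = 1 := Equiv.ext fun ⟨x, k, e⟩ => Subtype.ext (by
    subst e
    have := (h3 _ (mul_mem (mul_mem (inv_mem k.2) hy) k.2) (by
      simpa using (orderOf_conj' (k : Equiv.Perm GolayPt)⁻¹ y).trans h4)).1
    rw [mul_smul, mul_smul, inv_smul_eq_iff] at this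
    exact this)
  have h8 : φ ⟨_, hs'.2⟩ = 1 := by
    have a : φ ⟨_, hs'.2⟩ ^ 30 = 1 := by
      rw [← mul_one (φ _)]
      conv_lhs => rw [← h6, ← map_mul, ← map_pow]
      exact (congrArg φ (Subtype.ext h5)).trans (map_one φ)
    have b : φ ⟨_, hs'.2⟩ ^ 11 = 1 := by
      rw [← map_pow, ← map_one φ]
      exact congrArg φ (Subtype.ext ((hs'.1.pow_eq_one_iff 11).2
        ((by decide +kernel : ∀ s ∈ [t1, t2], powN gc.n s 11 = idN gc.n) s hs)))
    simpa using pow_gcd_eq_one.2 ⟨a, b⟩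
  rw [← (stab_cw_cert M22_le gen_gM22 inH_gM22 0xd50f70 (by decide +kernel) (n := 672) (N := 660) card_M22
    (by decide +kernel)).2]
  refine card_le_of_le fun k hk => ⟨hK hk, ?_⟩
  have h9 : gc.dec s • k • om 0xd50f70 = k • om 0xd50f70 :=
    congrArg Subtype.val (Equiv.congr_fun h8 ⟨_, mem_orbit _ (⟨k, hk⟩ : K)⟩)
  have h10 : (none : GolayPt) ∈ k • om 0xd50f70 := by
    rw [← (mem_M22.1 (hK hk)).2.1, mem_smul_iff, none_mem_om]; decide +kernel
  obtain ⟨m, hm, e⟩ := exists_isDod ((smul_mem_dodecads_iff (M22_le (hK hk))).2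
    (om_mem_dodecads (m := 0xd50f70) (by decide +kernel)))
  show k • om 0xd50f70 = om 0xd50f70
  rw [← e] at h9 h10 ⊢
  have h11 := allCw (q := fun m => allL [t1, t2] fun s => bimp (Nat.beq (pop24 m) 12) (bimp (tb m 23)
    (bimp (Nat.beq (imgT s m) m) (Nat.beq m 0xd50f70)))) (by decide +kernel) (isDod_iff.1 hm).1
  have h12 := allL_iff.1 h11 s hs
  rw [bimp_iff, bimp_iff, bimp_iff, Nat.beq_eq, Nat.beq_eq, Nat.beq_eq] at h12
  rw [hs'.1.smul_om, om_inj (hs'.1.imgT_lt _) (isCw_lt (isDod_iff.1 hm).1)] at h9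
  rw [h12 (isDod_iff.1 hm).2 (none_mem_om.1 h10) h9]

theorem key2 {K : Subgroup (Equiv.Perm GolayPt)} (hK : K ≤ M22) {n : ℕ} (hn : 443520 = n * Nat.card K)
    (h11 : ¬ 11 ∣ n) (h2 : 2 ∣ Nat.card K) (h7 : ¬ 7 ∣ Nat.card K) : Nat.card K ≤ 660 := by
  have h0 := inH_gM22 _ List.mem_cons_self
  obtain ⟨h, hh, e⟩ := exists_conj_mem (p := 11) (by norm_num) hK (card_M22.trans hn) h11 h0.2 (k := 1)
    ((h0.1.pow_eq_one_iff 11).2 (by decide +kernel))
  have c := conjA_comap h K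
  rw [← c.card_eq] at h2 h7 ⊢
  exact key (fun g hg => ((ConjA.base hh) g).2 (hK ((c g).1 hg))) ((c _).2 e) h2 h7

theorem key3 {A : Type*} [Group A] (c : A ≃* M22) (H : Subgroup A) : H.index ≠ 56 ∧ H.index ≠ 210 := by
  have h1 := (H.map c.toMonoidHom).index_mul_card
  rw [show (H.map c.toMonoidHom).index = H.index from index_map_of_bijective c.bijective H, card_M22,
    ← card_map_of_injective M22.subtype_injective] at h1
  have h2 := key2 (map_subtype_le (H.map c.toMonoidHom)) h1.symm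
  generalize Nat.card ((H.map c.toMonoidHom).map M22.subtype) = n at h1 h2
  constructor <;> intro h <;> rw [h] at h1 h2 <;> omega

/-- The stabiliser of two points in the group of the length-24 code has no subgroups of index 56 or 210. -/
theorem result (p q : Cfsg.GolayPt) (hpq : p ≠ q) (H : Subgroup ↥(MulAction.stabilizer Cfsg.M24 p ⊓ MulAction.stabilizer Cfsg.M24 q)) : H.index ≠ 56 ∧ H.index ≠ 210 := by
  obtain ⟨σ, hσ, e1, e2⟩ := std_two_pts hpq
  obtain ⟨c⟩ : Nonempty (↥(stabilizer M24 p ⊓ stabilizer M24 q) ≃* M22) := by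
    rw [e1, e2]; exact ⟨(conjTo_M22 hσ).equiv⟩
  exact key3 c H

end Cfsg.Agent.S1606
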