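import Cfsg.Statements.S1607
import Cfsg.Agent.Lib.Golay.Oct

set_option autoImplicit false
open scoped Pointwise
open Cfsg

namespace Cfsg.Agent.S1607

open Cfsg.Lib.Golay
open scoped Pointwise
set_option maxRecDepth 100000
set_option linter.unusedSimpArgs false

/-- The point stabiliser acts on the 253 heptads of its S(4, 7, 23) with rank 3 and subdegrees 1, 112, 140 (intersections 8, 2, 4). -/
theorem result (x : Cfsg.GolayPt) (o : Finset Cfsg.GolayPt) (ho : o ∈ Cfsg.octads) (hx : x ∈ o) : {o' : Finset Cfsg.GolayPt | o' ∈ Cfsg.octads ∧ x ∈ o' ∧ (o ∩ o').card = 2}.ncard = 112 ∧ {o' : Finset Cfsg.GolayPt | o' ∈ Cfsg.octads ∧ x ∈ o' ∧ (o ∩ o').card = 4}.ncard = 140 ∧ ∀ o' o'' : Finset Cfsg.GolayPt, o' ∈ Cfsg.octads → o'' ∈ Cfsg.octads → x ∈ o' → x ∈ o'' → (o ∩ o').card = (o ∩ o'').card → ∃ g : Equiv.Perm Cfsg.GolayPt, g ∈ Cfsg.M24 ∧ g x = x ∧ g • o = o ∧ g • o' = o'' := by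
  obtain ⟨σ, hσ, rfl, rfl⟩ := std_octad_in ho hx
  refine ⟨?_, ?_, fun o' o'' ho' ho'' hx' hx'' h => ?_⟩
  · rw [ncard_setOf_smul σ]
    simp only [smul_mem_octads_iff hσ, smul_mem_dodecads_iff hσ, smul_mem_smul', card_smul_inter]
    rw [ncard_oct (fun m => band (tb m 23) (Nat.beq (pop24 (Nat.land 0x82402f m)) 2)) (fun m _ => by
      simp only [none_mem_om, zero_mem_om, pt_mem_om (show 4 < 24 by norm_num), card_om_inter, band_iff, bnot_iff, beq_iff])]
    decide +kernel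
  · rw [ncard_setOf_smul σ]
    simp only [smul_mem_octads_iff hσ, smul_mem_dodecads_iff hσ, smul_mem_smul', card_smul_inter]
    rw [ncard_oct (fun m => band (tb m 23) (Nat.beq (pop24 (Nat.land 0x82402f m)) 4)) (fun m _ => by
      simp only [none_mem_om, zero_mem_om, pt_mem_om (show 4 < 24 by norm_num), card_om_inter, band_iff, bnot_iff, beq_iff])]
    decide +kernel
  obtain ⟨o', rfl⟩ := exists_eq_smul σ o'
  obtain ⟨o'', rfl⟩ := exists_eq_smul σ o''
  simp only [smul_mem_octads_iff hσ, smul_mem_dodecads_iff hσ, smul_mem_smul', card_smul_inter] at ho' ho'' hx' hx'' h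
  obtain ⟨a, ha, rfl⟩ := exists_isOct ho'
  obtain ⟨b, hb, rfl⟩ := exists_isOct ho''
  rw [card_om_inter, card_om_inter] at h
  have ha' : band (Nat.beq (pop24 a) 8) (tb a 23) = true := by
    simp only [band_iff, beq_iff, bnot_iff]; exact ⟨(isOct_iff.mp ha).2, none_mem_om.mp hx'⟩
  have hb' : band (Nat.beq (pop24 b) 8) (tb b 23) = true := by
    simp only [band_iff, beq_iff, bnot_iff]; exact ⟨(isOct_iff.mp hb).2, none_mem_om.mp hx''⟩
  obtain ⟨g, hg, e⟩ := cw_classes (H := HO ⊓ MulAction.stabilizer (Equiv.Perm GolayPt) (gc.pt 23)) (inf_le_left.trans inf_le_left) (gs := [0x170908151013010d1403120c040b160f070a050611000e02, 0x17060d07130c0e081600141510120f090a0b010402110305])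
    (inH_inf_pt (inH_inf_om (inH_of_allL (by decide +kernel)) 0x82402f (by decide +kernel)) 23 (by decide) (by decide +kernel))
    (fun m => bif' (band (Nat.beq (pop24 m) 8) (tb m 23)) (Nat.succ (pop24 (Nat.land 0x82402f m))) 0)
    [0xc75001, 0xd4b004, 0x82402f] (by decide +kernel) (isOct_iff.mp ha).1 (isOct_iff.mp hb).1
    (by rw [bif'_pos ha']; exact Nat.succ_ne_zero _) (by rw [bif'_pos ha', bif'_pos hb', h])
  exact ⟨σ * g * σ⁻¹, mul_mem (mul_mem hσ hg.1.1) (inv_mem hσ), (conj_apply_smul σ g _).trans (congrArg (σ • ·) hg.2), by rw [conj_smul_smul, hg.1.2], by rw [conj_smul_smul, e]⟩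

end Cfsg.Agent.S1607
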