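import Cfsg.Statements.S1608
import Cfsg.Agent.Lib.Golay.Oct

set_option autoImplicit false
open scoped Pointwise
open Cfsg

namespace Cfsg.Agent.S1608

open Cfsg.Lib.Golay
open scoped Pointwise
set_option maxRecDepth 100000
set_option linter.unusedSimpArgs false

/-- The point stabiliser acts on the 506 octads avoiding the point with rank 4 and subdegrees 1, 15, 210, 280, the suborbits being given by intersection size with the fixed octad. -/
theorem result (x : Cfsg.GolayPt) (o : Finset Cfsg.GolayPt) (ho : o ∈ Cfsg.octads) (hx : x ∉ o) : {o' : Finset Cfsg.GolayPt | o' ∈ Cfsg.octads ∧ x ∉ o' ∧ (o ∩ o').card = 0}.ncard = 15 ∧ {o' : Finset Cfsg.GolayPt | o' ∈ Cfsg.octads ∧ x ∉ o' ∧ (o ∩ o').card = 4}.ncard = 210 ∧ {o' : Finset Cfsg.GolayPt | o' ∈ Cfsg.octads ∧ x ∉ o' ∧ (o ∩ o').card = 2}.ncard = 280 ∧ ∀ o' o'' : Finset Cfsg.GolayPt, o' ∈ Cfsg.octads → o'' ∈ Cfsg.octads → x ∉ o' → x ∉ o'' → (o ∩ o').card = (o ∩ o'').card → ∃ g : Equiv.Perm Cfsg.GolayPt,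 g ∈ Cfsg.M24 ∧ g x = x ∧ g • o = o ∧ g • o' = o'' := by
  obtain ⟨σ, hσ, rfl, rfl⟩ := std_octad_out ho hx
  refine ⟨?_, ?_, ?_, fun o' o'' ho' ho'' hx' hx'' h => ?_⟩
  · rw [ncard_setOf_smul σ]
    simp only [smul_mem_octads_iff hσ, smul_mem_dodecads_iff hσ, smul_mem_smul', card_smul_inter]
    rw [ncard_oct (fun m => band (bnot (tb m 4)) (Nat.beq (pop24 (Nat.land 0x82402f m)) 0)) (fun m _ => by
      simp only [none_mem_om, zero_mem_om, pt_mem_om (show 4 < 24 by norm_num), card_om_inter, band_iff, bnot_iff, beq_iff])]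
    decide +kernel
  · rw [ncard_setOf_smul σ]
    simp only [smul_mem_octads_iff hσ, smul_mem_dodecads_iff hσ, smul_mem_smul', card_smul_inter]
    rw [ncard_oct (fun m => band (bnot (tb m 4)) (Nat.beq (pop24 (Nat.land 0x82402f m)) 4)) (fun m _ => by
      simp only [none_mem_om, zero_mem_om, pt_mem_om (show 4 < 24 by norm_num), card_om_inter, band_iff, bnot_iff, beq_iff])]
    decide +kernel
  · rw [ncard_setOf_smul σ]
    simp only [smul_mem_octads_iff hσ, smul_mem_dodecads_iff hσ, smul_mem_smul', card_smul_inter]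
    rw [ncard_oct (fun m => band (bnot (tb m 4)) (Nat.beq (pop24 (Nat.land 0x82402f m)) 2)) (fun m _ => by
      simp only [none_mem_om, zero_mem_om, pt_mem_om (show 4 < 24 by norm_num), card_om_inter, band_iff, bnot_iff, beq_iff])]
    decide +kernel
  obtain ⟨o', rfl⟩ := exists_eq_smul σ o'
  obtain ⟨o'', rfl⟩ := exists_eq_smul σ o''
  simp only [smul_mem_octads_iff hσ, smul_mem_dodecads_iff hσ, smul_mem_smul', card_smul_inter] at ho' ho'' hx' hx'' h
  obtain ⟨a, ha, rfl⟩ := exists_isOct ho'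
  obtain ⟨b, hb, rfl⟩ := exists_isOct ho''
  rw [card_om_inter, card_om_inter] at h
  have ha' : band (Nat.beq (pop24 a) 8) (bnot (tb a 4)) = true := by
    simp only [band_iff, beq_iff, bnot_iff]; exact ⟨(isOct_iff.mp ha).2, (pt_mem_om (by norm_num)).not.mp hx'⟩
  have hb' : band (Nat.beq (pop24 b) 8) (bnot (tb b 4)) = true := by
    simp only [band_iff, beq_iff, bnot_iff]; exact ⟨(isOct_iff.mp hb).2, (pt_mem_om (by norm_num)).not.mp hx''⟩
  obtain ⟨g, hg, e⟩ := cw_classes (H := HO ⊓ MulAction.stabilizer (Equiv.Perm GolayPt) (gc.pt 4)) (inf_le_left.trans inf_le_left) (gs := [0x3070d09151211160b05060f080c0a1413100104020e0017, 0x30d0b100806050916110f120c0a14131507020417000e01])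
    (inH_inf_pt (inH_inf_om (inH_of_allL (by decide +kernel)) 0x82402f (by decide +kernel)) 4 (by decide) (by decide +kernel))
    (fun m => bif' (band (Nat.beq (pop24 m) 8) (bnot (tb m 4))) (Nat.succ (pop24 (Nat.land 0x82402f m))) 0)
    [0xc75001, 0x49f002, 0x82402f, 0x3da100] (by decide +kernel) (isOct_iff.mp ha).1 (isOct_iff.mp hb).1
    (by rw [bif'_pos ha']; exact Nat.succ_ne_zero _) (by rw [bif'_pos ha', bif'_pos hb', h])
  exact ⟨σ * g * σ⁻¹, mul_mem (mul_mem hσ hg.1.1) (inv_mem hσ), (conj_apply_smul σ g _).trans (congrArg (σ • ·) hg.2), by rw [conj_smul_smul, hg.1.2], by rw [conj_smul_smul, e]⟩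

end Cfsg.Agent.S1608
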