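import Cfsg.Statements.S1609
import Cfsg.Agent.Lib.Small.MathSub

set_option autoImplicit false
open scoped Pointwise
open Cfsg

namespace Cfsg.Agent.S1609

open Subgroup Cfsg.Lib.Small Cfsg.Lib.Golay
open scoped Pointwise

/-- Subgroups of index 253 in the Mathieu group of degree 23 are exactly the duad stabilisers and the heptad stabilisers. -/
theorem result (x : Cfsg.GolayPt) (H : Subgroup ↥(MulAction.stabilizer Cfsg.M24 x)) (hH : H.index = 253) : (∃ s : Finset Cfsg.GolayPt, s.card = 2 ∧ x ∉ s ∧ H = (MulAction.stabilizer Cfsg.M24 s).subgroupOf (MulAction.stabilizer Cfsg.M24 x)) ∨ ∃ o ∈ Cfsg.octads, x ∈ o ∧ H = (MulAction.stabilizer Cfsg.M24 o).subgroupOf (MulAction.stabilizer Cfsg.M24 x) := by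
  have hm : ∀ g : MulAction.stabilizer M24 x, g ∈ H ↔ ((g : M24) : Equiv.Perm GolayPt) ∈
      (H.map (MulAction.stabilizer M24 x).subtype).map M24.subtype := fun g =>
    ⟨fun h => ⟨_, ⟨_, h, rfl⟩, rfl⟩, by
      rintro ⟨_, ⟨k, hk, rfl⟩, e⟩
      rwa [← show k = g from Subtype.ext (Subtype.ext e)]⟩
  have hc := H.card_mul_index
  obtain ⟨σ, hσ, e⟩ := std_pt x
  rw [hH, show Nat.card (MulAction.stabilizer M24 x) = 10200960 by
    rw [e, (conjTo_M23 hσ).card_eq, card_M23]] at hc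
  rcases idx253_M23 (x := x) (K := (H.map (MulAction.stabilizer M24 x).subtype).map M24.subtype)
    (by rintro _ ⟨_, ⟨k, -, rfl⟩, rfl⟩; exact ⟨k.1.2, k.2⟩)
    (by rw [card_map_of_injective M24.subtype_injective, card_map_of_injective (subtype_injective _)]; omega)
    with ⟨s, h1, h2, h3⟩ | ⟨s, h1, h2, h3⟩
  · exact Or.inl ⟨s, h1, h2, ext fun g => by
      rw [hm, h3]; exact ⟨fun h => h.1.2, fun h => ⟨⟨g.1.2, h⟩, g.2⟩⟩⟩
  · exact Or.inr ⟨s, h1, h2, ext fun g => by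
      rw [hm, h3]; exact ⟨fun h => h.1.2, fun h => ⟨⟨g.1.2, h⟩, g.2⟩⟩⟩

end Cfsg.Agent.S1609
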