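import Cfsg.Statements.S1610
import Cfsg.Agent.Lib.Golay.Small
import Mathlib.Algebra.QuadraticAlgebra.Basic

set_option autoImplicit false
open Cfsg

namespace Cfsg.Agent.S1610

open Cfsg.Lib.Golay
open scoped Pointwise symmDiff
set_option maxRecDepth 100000
set_option linter.unusedSimpArgs false
set_option maxHeartbeats 400000
set_option synthInstance.maxSize 4096
set_option synthInstance.maxHeartbeats 200000

/-- the field with four elements. -/
abbrev F4 : Type := QuadraticAlgebra (ZMod 2) 1 1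

instance factF4 : Fact (∀ r : ZMod 2, r ^ 2 ≠ 1 + 1 * r) := ⟨by decide⟩

instance fintypeF4 : Fintype F4 := Fintype.ofEquiv _ (QuadraticAlgebra.equivProd (1 : ZMod 2) 1).symm

/-- the systematic encoder. -/
def hw' (w : F4) (v : F4 × F4 × F4) : Fin 6 → F4 := ![v.1, v.2.1, v.2.2, v.1 + v.2.1 + v.2.2,
  (w + 1) * v.1 + w * v.2.1 + v.2.2, w * v.1 + (w + 1) * v.2.1 + v.2.2]

/-- The hexacode has 64 words, minimum weight 4, and weight distribution 0^1 4^45 6^18. -/
theorem result (F : Type*) [Field F] [Fintype F] [DecidableEq F] (hF : Fintype.card F = 4) (ω : F) (hω : ω ^ 2 + ω + 1 = 0) : Nat.card ↥(Cfsg.hexacode F ω) = 64 ∧ (∀ x ∈ Cfsg.hexacode F ω, x ≠ 0 → (Finset.univ.filter fun i => x i ≠ 0).card = 4 ∨ (Finset.univ.filter fun i => x i ≠ 0).card = 6) ∧ {x : Fin 6 → F | x ∈ Cfsg.hexacode F ω ∧ (Finset.univ.filter fun i => x i ≠ 0).card = 4}.ncard = 45 ∧ {x : Fin 6 → F | x ∈ Cfsg.hexacode F ω ∧ (Finset.univ.filter fun i => x i ≠ 0).card = 6}.ncard = 18 := by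

  let e : F4 ≃+* F := FiniteField.ringEquivOfCardEq (hF.symm ▸ rfl)
  obtain ⟨w, rfl⟩ := e.surjective ω
  have h2 : (2 : F) = 0 := by rw [← map_ofNat e 2, show (OfNat.ofNat 2 : F4) = 0 by decide, map_zero]
  have hw : w ^ 2 + w + 1 = 0 := e.injective (by simpa using hω)
  have hm : ∀ x, x ∈ hexacode F (e w) ↔ ∃ v, (fun i => e (hw' w v i)) = x := fun x => by
    rw [mem_hexacode h2 hω]
    constructor
    · rintro ⟨h3, h4, h5⟩
      refine ⟨(e.symm (x 0), e.symm (x 1), e.symm (x 2)), funext fun i => ?_⟩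
      fin_cases i <;> simp [hw', h3, h4, h5]
    · rintro ⟨v, rfl⟩; simp [hw']
  have hn : ∀ (P : ℕ → Prop) [DecidablePred P], {x | x ∈ hexacode F (e w) ∧
      P (Finset.univ.filter fun i => x i ≠ 0).card}.ncard = (Finset.univ.filter fun v =>
        P (Finset.univ.filter fun i => hw' w v i ≠ 0).card).card := fun P _ => by
    rw [← Set.ncard_coe_finset, ← Set.ncard_image_of_injective (f := fun v i => e (hw' w v i)) _
      fun v v' h => Prod.ext (e.injective (congrFun h 0)) (Prod.ext (e.injective (congrFun h 1))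
        (e.injective (congrFun h 2)))]
    congr 1; ext x
    simp only [hm, Set.mem_setOf_eq, Set.mem_image, Finset.coe_filter, Finset.mem_univ, true_and]
    exact ⟨by rintro ⟨⟨v, rfl⟩, h⟩; exact ⟨v, by simpa using h, rfl⟩, by
      rintro ⟨v, h, rfl⟩; exact ⟨⟨v, rfl⟩, by simpa using h⟩⟩
  refine ⟨?_, fun x hx h0 => ?_, (hn (· = 4)).trans ?_, (hn (· = 6)).trans ?_⟩
  · have := hn fun _ => True
    simp only [and_true, Finset.filter_true] at this
    exact this.trans (by decide +kernel)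
  · obtain ⟨v, rfl⟩ := (hm x).mp hx
    simpa using (by decide +kernel : ∀ w : F4, w * w + w + 1 = 0 → ∀ v, (∀ i, hw' w v i = 0) ∨
      (Finset.univ.filter fun i => hw' w v i ≠ 0).card = 4 ∨
      (Finset.univ.filter fun i => hw' w v i ≠ 0).card = 6) w (sq w ▸ hw) v |>.resolve_left
      fun h => h0 (funext fun i => by simp [h])
  all_goals rw [sq] at hw; clear * - hw; revert w; decide +kernel

end Cfsg.Agent.S1610
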