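import Cfsg.Statements.S1611
import Cfsg.Agent.Lib.Golay.Small

set_option autoImplicit false
open Cfsg

namespace Cfsg.Agent.S1611

open Cfsg.Lib.Golay
open scoped Pointwise symmDiff
set_option maxRecDepth 100000
set_option linter.unusedSimpArgs false
set_option maxHeartbeats 400000
set_option synthInstance.maxSize 4096
set_option synthInstance.maxHeartbeats 200000

/-- The monomial automorphism group of the hexacode has order 1080: its diagonal part is the scalars and its permutation parts form the alternating group of degree 6. -/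
theorem result (F : Type*) [Field F] [Fintype F] [DecidableEq F] (hF : Fintype.card F = 4) (ω : F) (hω : ω ^ 2 + ω + 1 = 0) : Nat.card {f : Equiv.Perm (Fin 6) × (Fin 6 → Fˣ) // (∀ x ∈ Cfsg.hexacode F ω, Cfsg.monomialMap f.1 f.2 x ∈ Cfsg.hexacode F ω)} = 1080 ∧ (∀ c : Fin 6 → Fˣ, (∀ x ∈ Cfsg.hexacode F ω, Cfsg.monomialMap 1 c x ∈ Cfsg.hexacode F ω) → ∀ i j, c i = c j) ∧ {σ : Equiv.Perm (Fin 6) | ∃ c : Fin 6 → Fˣ, (∀ x ∈ Cfsg.hexacode F ω, Cfsg.monomialMap σ c x ∈ Cfsg.hexacode F ω)} = (alternatingGroup (Fin 6) : Set (Equiv.Perm (Fin 6))) := by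

  have h2 : (2 : F) = 0 := by
    have := FiniteField.cast_card_eq_zero F
    rw [hF] at this
    exact pow_eq_zero_iff (n := 2) (by norm_num) |>.mp (by rw [← this]; norm_num)
  have h0 : ω ≠ 0 := by rintro rfl; simp at hω
  have h1 : ω + 1 ≠ 0 := fun h => by grind
  have b1 : ![1, 0, 0, 1, ω + 1, ω] ∈ hexacode F ω := by simp [mem_hexacode h2 hω]
  have b2 : ![0, 1, 0, 1, ω, ω + 1] ∈ hexacode F ω := by simp [mem_hexacode h2 hω]
  have b3 : ![0, 0, 1, 1, 1, 1] ∈ hexacode F ω := by simp [mem_hexacode h2 hω]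
  have hd : ∀ c : Fin 6 → Fˣ, (∀ x ∈ hexacode F ω, monomialMap 1 c x ∈ hexacode F ω) → ∀ i, c i = c 3 :=
    fun c h i => by
      have a1 := h _ b1
      have a2 := h _ b2
      have a3 := h _ b3
      simp [mem_hexacode h2 hω, monomialMap, Equiv.Perm.one_def] at a1 a2 a3
      fin_cases i
      exacts [Units.ext a1.1.symm, Units.ext a2.1.symm, Units.ext a3.1.symm, rfl,
        Units.ext (a3.2.1.trans a3.1.symm), Units.ext (a3.2.2.trans a3.1.symm)]
  let c := finCoding 6 (by norm_num)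
  have e1 := Coding.dec_eq_of (c := c) (g := 0x50403000201) (σ := c[0, 1, 2]) (by decide) (by decide)
  have e2 := Coding.dec_eq_of (c := c) (g := 0x10504030200) (σ := c[1, 2, 3, 4, 5]) (by decide) (by decide)
  have h3 : Nat.card (alternatingGroup (Fin 6)) = 360 := by rw [nat_card_alternatingGroup]; simp [Nat.factorial]
  have h4 : alternatingGroup (Fin 6) ≤ monoAut (hexacode F ω) := by
    refine inf_eq_left.mp (Subgroup.eq_of_le_of_card_ge inf_le_left (h3.le.trans (Coding.chain_le (c := c)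
      [(0, 6, [[1], [0, 1, 0]]), (1, 5, [[1, 0], [0, 0, 0, 1]]), (2, 4, [[0, 1]]), (3, 3, [])]
      (gs := [0x50403000201, 0x10504030200]) ?_ (by decide +kernel))))
    simp only [List.forall_mem_cons, List.not_mem_nil, false_imp_iff, implies_true, and_true]
    refine ⟨⟨e1.1, e1.2 ▸ ⟨Equiv.Perm.mem_alternatingGroup.mpr (by decide), ![1, 1, 1, 1, .mk0 _ h1, .mk0 _ h0], fun x => ?_⟩⟩,
      ⟨e2.1, e2.2 ▸ ⟨Equiv.Perm.mem_alternatingGroup.mpr (by decide), ![1, .mk0 _ h1, .mk0 _ h0, .mk0 _ h1, 1, .mk0 _ h0], fun x => ?_⟩⟩⟩ <;>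
    simp only [mem_hexacode h2 hω] <;> rintro ⟨a1, a2, a3⟩
    · show (1 : F) * x 3 = 1 * x 2 + 1 * x 0 + 1 * x 1 ∧
        (ω + 1) * x 4 = (ω + 1) * (1 * x 2) + ω * (1 * x 0) + 1 * x 1 ∧
        ω * x 5 = ω * (1 * x 2) + (ω + 1) * (1 * x 0) + 1 * x 1
      grind
    · show (ω + 1) * x 2 = 1 * x 0 + (ω + 1) * x 5 + ω * x 1 ∧
        1 * x 3 = (ω + 1) * (1 * x 0) + ω * ((ω + 1) * x 5) + ω * x 1 ∧
        ω * x 4 = ω * (1 * x 0) + (ω + 1) * ((ω + 1) * x 5) + ω * x 1
      grind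
  have h5 : monoAut (hexacode F ω) = alternatingGroup (Fin 6) := le_antisymm (fun σ hσ => by
    by_contra h
    have h6 := h4 (show σ⁻¹ * Equiv.swap 0 1 ∈ alternatingGroup (Fin 6) by
      rw [Equiv.Perm.mem_alternatingGroup] at *
      simp [Int.units_ne_iff_eq_neg.mp h])
    obtain ⟨c, hc⟩ := (Subgroup.mul_mem_cancel_left _ (inv_mem hσ)).mp h6
    have a1 := hc _ b1
    have a3 := hc _ b3
    simp [mem_hexacode h2 hω, monomialMap, Equiv.swap_apply_of_ne_of_ne] at a1 a3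
    have := (c 1).ne_zero
    grind) h4
  refine ⟨?_, fun c h i j => (hd c h i).trans (hd c h j).symm, congrArg SetLike.coe h5⟩
  rw [card_monomial, h5, h3, ← Nat.card_congr (Equiv.ofBijective (fun u : Fˣ => (⟨fun _ => u, fun x hx =>
    (hexacode F ω).smul_mem (u : F) hx⟩ : {c : Fin 6 → Fˣ // ∀ x ∈ hexacode F ω,
      monomialMap 1 c x ∈ hexacode F ω})) ⟨fun u v h => congrFun (congrArg Subtype.val h) 0,
      fun c => ⟨c.1 3, Subtype.ext (funext fun i => (hd _ c.2 i).symm)⟩⟩), Nat.card_units,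
    Nat.card_eq_fintype_card, hF]

end Cfsg.Agent.S1611
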