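import Cfsg.Statements.S1612
import Cfsg.Agent.Lib.Known2.TT5

set_option autoImplicit false
open Cfsg

namespace Cfsg.Agent.S1612
open Cfsg.Lib.Known2 Cfsg.Lib.Amalg Subgroup

theorem aux {G : Type*} [Group G] [Finite G] {D : Set G} (h : TT D) {E : Set G} (hE : E ⊆ D)
    (hmax : ∀ E' : Set G, E' ⊆ D → (∀ a ∈ E', ∀ b ∈ E', Commute a b) → E'.ncard ≤ E.ncard)
    {T : Subgroup G} (hT : IsPGroup 2 T) (hle : E ⊆ T) : E = D ∩ T := by
  refine Set.eq_of_subset_of_ncard_le (fun x hx => ⟨hE hx, hle hx⟩) (hmax _ Set.inter_subset_left ?_)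
  rintro a ⟨ha, haT⟩ b ⟨hb, hbT⟩
  by_contra hn
  obtain ⟨k, hk⟩ := isPGroup_iff_mem.1 hT _ (T.mul_mem haT hbT)
  have := eq_one_of_pow_prime_pow (by norm_num) (h.cube ha hb hn) hk
  rw [← h.inv ha, inv_mul_eq_one] at this
  exact hn (this ▸ Commute.refl a)

/-- In a 3-transposition group (no solvable normal subgroup, perfect derived group), the normaliser of a commuting set of transpositions of maximum size contains a Sylow 2-subgroup and is doubly transitive on the set. -/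
theorem result {G : Type*} [Group G] [Finite G] (hsol : ∀ N : Subgroup G, N.Normal → Group.IsSolvable ↥N → N = ⊥) (hperf : ⁅commutator G, commutator G⁆ = commutator G) {D : Set G} (hD : Cfsg.IsThreeTranspositionClass D) {E : Set G} (hE : E ⊆ D) (hc : ∀ a ∈ E, ∀ b ∈ E, Commute a b) (hmax : ∀ E' : Set G, E' ⊆ D → (∀ a ∈ E', ∀ b ∈ E', Commute a b) → E'.ncard ≤ E.ncard) : (∃ P : Sylow 2 G, (P : Subgroup G) ≤ Subgroup.normalizer E) ∧ ∀ a ∈ E, ∀ b ∈ E, ∀ c ∈ E, ∀ d ∈ E, a ≠ b → c ≠ d → ∃ g ∈ Subgroup.normalizer E, g * a * g⁻¹ = c ∧ g * b * g⁻¹ = d := by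
  have hP := prim_of_fischer hD hsol hperf
  have h := hP.tt
  have : Fact (Nat.Prime 2) := ⟨Nat.prime_two⟩
  have h2 := two_group_closure (fun a ha => h.sq (hE ha)) hc
  constructor
  · obtain ⟨P, hP'⟩ := h2.exists_le_sylow
    refine ⟨P, fun g hg => ?_⟩
    rw [aux h hE hmax P.isPGroup' fun x hx => hP' (subset_closure hx)]
    intro x
    simp only [Set.mem_inter_iff, SetLike.mem_coe, conj_mem_iff hP.grp.2.1]
    refine and_congr_right fun _ => ⟨fun hx => mul_mem (mul_mem hg hx) (inv_mem hg), fun hx => ?_⟩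
    simpa [mul_assoc] using mul_mem (mul_mem (inv_mem hg) hx) hg
  · intro a ha b hb c hc' d hd hab hcd
    obtain ⟨g, rfl, rfl⟩ := hP.trans_pair (hE ha) (hE hc') ⟨hE hb, hab.symm, hc a ha b hb⟩
      ⟨hE hd, hcd.symm, hc c hc' d hd⟩
    have l1 : closure E ≤ centralizer {g * a * g⁻¹, g * b * g⁻¹} := by
      rw [closure_le]
      rintro x hx y (rfl | rfl)
      exacts [hc _ hc' _ hx, hc _ hd _ hx]
    have l2 : cj g (closure E) ≤ centralizer {g * a * g⁻¹, g * b * g⁻¹} := by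
      rw [cj_closure, closure_le]
      rintro _ ⟨x, hx, rfl⟩ y (rfl | rfl)
      exacts [commute_conj_conj_iff.2 (hc _ ha _ hx), commute_conj_conj_iff.2 (hc _ hb _ hx)]
    obtain ⟨T, hT, hle⟩ := exists_syl_ge h2 l1
    obtain ⟨u, hu, hu2⟩ := hT.exists_conj_le (isPGroup_cj g h2) l2
    rw [← cj_mul] at hu2
    have e := aux h hE hmax hT.isPGroup fun x hx => hle (subset_closure hx)
    have k : ∀ x ∈ E, u * g * x * (u * g)⁻¹ ∈ E := fun x hx => by
      rw [e]; exact ⟨hP.conj _ (hE hx), hu2 (conj_mem_cj _ (subset_closure hx))⟩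
    refine ⟨u * g, fun x => ⟨k x, fun hx => ?_⟩, ?_, ?_⟩
    · have : (fun x => u * g * x * (u * g)⁻¹) '' E = E :=
        Set.eq_of_subset_of_ncard_le (by rintro _ ⟨x, hx, rfl⟩; exact k x hx)
          (Set.ncard_image_of_injective _ fun x y e => by simpa using e).ge
      rw [← this] at hx
      obtain ⟨y, hy, e⟩ := hx
      have : y = x := by simpa using e
      exact this ▸ hy
    · have := hu (g * a * g⁻¹) (by simp)
      calc _ = (u * (g * a * g⁻¹)) * u⁻¹ := by group
        _ = _ := by rw [← this]; group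
    · have := hu (g * b * g⁻¹) (by simp)
      calc _ = (u * (g * b * g⁻¹)) * u⁻¹ := by group
        _ = _ := by rw [← this]; group

end Cfsg.Agent.S1612
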