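import Cfsg.Statements.S1614
import Cfsg.Agent.Lib.Known2.F10

set_option autoImplicit false
open Cfsg

namespace Cfsg.Agent.S1614
open Cfsg.Lib.Known2

/-- If the commuting transpositions of one transposition generate a solvable group, a Fischer 3-transposition group is S5, S6, PSU(4, 2) or PSU(5, 2). -/
theorem result {G : Type*} [Group G] [Finite G] (hsol : ∀ N : Subgroup G, N.Normal → Group.IsSolvable ↥N → N = ⊥) (hperf : ⁅commutator G, commutator G⁆ = commutator G) {D : Set G} (hD : Cfsg.IsThreeTranspositionClass D) (x : G) (hx : x ∈ D) (hs : Group.IsSolvable ↥(Subgroup.closure {y : G | y ∈ D ∧ y ≠ x ∧ Commute x y})) : Nonempty (G ≃* Equiv.Perm (Fin 5)) ∨ Nonempty (G ≃* Equiv.Perm (Fin 6)) ∨ ∃ (F : Type) (_ : Field F) (_ : Fintype F), Fintype.card F = 4 ∧ (Nonempty (G ≃* Cfsg.PSU 4 F 2) ∨ Nonempty (G ≃* Cfsg.PSU 5 F 2)) := by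
  have R := (prim_of_fischer hD hsol hperf).r3
  have hZ := center_of_fischer hsol
  have k : ¬ A4 (Dd D x) := fun a => a.not_solvable (R.tt.dd x) hs
  rcases R.tri hx with ⟨y, hy, y', hy', n, r⟩ | ⟨y, hy, y', hy', n, r⟩ | R'
  · obtain ⟨e, -⟩ := (R.tsn_of_w2 (R.w2_of_w hx hy hy' n r)).iso le_rfl hD.2.2 hZ
    exact Or.inl ⟨e⟩
  · rcases R.v_cases hx hy hy' n r with T | ⟨n, hn, T⟩
    · rcases (T.small R hx).resolve_left k with T | T <;> obtain ⟨e, -⟩ := T.iso (by norm_num) hD.2.2 hZ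
      exacts [Or.inl ⟨e⟩, Or.inr (Or.inl ⟨e⟩)]
    · obtain ⟨F, _, _, h4, e, -⟩ := T.iso hn hD.2.2 hZ
      have : ¬ 6 ≤ n := fun q => k (T.a4 q hx)
      obtain rfl | rfl : n = 4 ∨ n = 5 := by omega
      exacts [Or.inr (Or.inr ⟨F, _, _, h4, Or.inl ⟨e⟩⟩), Or.inr (Or.inr ⟨F, _, _, h4, Or.inr ⟨e⟩⟩)]
  · exact (R'.not_solvable hs).elim

end Cfsg.Agent.S1614
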