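import Cfsg.Statements.S1617
import Cfsg.Agent.Lib.Layer.PTr

set_option autoImplicit false
open Cfsg

namespace Cfsg.Agent.S1617


/-- A generating conjugacy class of involutions on which the group (with trivial solvable radical) acts with rank 3 is a class of 3-transpositions. -/
theorem result {G : Type*} [Group G] [Finite G] (hsol : ∀ N : Subgroup G, N.Normal → Group.IsSolvable ↥N → N = ⊥) {D : Set G} (hinv : ∀ d ∈ D, orderOf d = 2) (hconj : ∃ d ∈ D, D = conjugatesOf d) (hgen : Subgroup.closure D = ⊤) (hrank : ∀ x ∈ D, ∃ y ∈ D, ∃ z ∈ D, {w : G | ∃ g : G, Commute g x ∧ g * y * g⁻¹ = w} ≠ {w : G | ∃ g : G, Commute g x ∧ g * x * g⁻¹ = w} ∧ {w : G | ∃ g : G, Commute g x ∧ g * z * g⁻¹ = w} ≠ {w : G | ∃ g : G, Commute g x ∧ g * x * g⁻¹ = w} ∧ {w : G | ∃ g : G, Commute g x ∧ g * y * g⁻¹ = w} ≠ {w : G | ∃ g : G, Commute g x ∧ g * z * g⁻¹ = w} ∧ D = {w : G | ∃ g : G, Commute g x ∧ g * x * g⁻¹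 = w} ∪ {w : G | ∃ g : G, Commute g x ∧ g * y * g⁻¹ = w} ∪ {w : G | ∃ g : G, Commute g x ∧ g * z * g⁻¹ = w}) : Cfsg.IsThreeTranspositionClass D := by
  obtain ⟨x, hx, -⟩ := id hconj
  obtain ⟨y, -, z, -, -, -, -, e⟩ := hrank x hx
  have k : ∀ u ∈ D, u ≠ x → (∃ g, Commute g x ∧ g * y * g⁻¹ = u) ∨ ∃ g, Commute g x ∧ g * z * g⁻¹ = u := fun u hu h => by
    rw [e] at hu
    rcases hu with (⟨g, h1, h2⟩ | hu) | hu
    · exact absurd (by rw [← h2, h1.eq, mul_inv_cancel_right]) h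
    · exact Or.inl hu
    · exact Or.inr hu
  have t : ∀ {y u v : G}, (∃ g, Commute g x ∧ g * y * g⁻¹ = u) → (∃ g, Commute g x ∧ g * y * g⁻¹ = v) →
      ∃ g, Commute g x ∧ g * u * g⁻¹ = v := fun ⟨g, h1, h2⟩ ⟨g', h3, h4⟩ =>
    ⟨g' * g⁻¹, h3.mul_left h1.inv_left, by rw [← h2, ← h4]; group⟩
  refine Cfsg.Lib.Layer.PT.main hsol hinv hconj hgen hx fun u hu v hv w hw h1 h2 h3 => ?_
  rcases k u hu h1 with a | a <;> rcases k v hv h2 with b | b <;> rcases k w hw h3 with c | c <;>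
    first | exact Or.inl (t a b) | exact Or.inr (Or.inl (t a c)) | exact Or.inr (Or.inr (t b c))

end Cfsg.Agent.S1617
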