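import Cfsg.Statements.S1618
import Cfsg.Agent.Lib.Known2.Odd

set_option autoImplicit false
open Cfsg

namespace Cfsg.Agent.S1618
open Cfsg.Lib.Known2 Subgroup

/-- A group generated by a class of involutions whose pairwise products (of distinct members) have p-power order for a fixed odd prime p has nilpotent derived subgroup. -/
theorem result {G : Type*} [Group G] [Finite G] (p : ℕ) (hp : p.Prime) (hodd : p ≠ 2) {D : Set G} (hinv : ∀ d ∈ D, orderOf d = 2) (hconj : ∃ d ∈ D, D = conjugatesOf d) (hgen : Subgroup.closure D = ⊤) (hprod : ∀ x ∈ D, ∀ y ∈ D, x ≠ y → ∃ k : ℕ, orderOf (x * y) = p ^ k) : Group.IsNilpotent ↥(commutator G) := by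
  obtain ⟨d, hd, rfl⟩ := hconj
  have := Fact.mk hp
  have h := mul_mem_pCore_of_pow hp hodd (hinv d hd) fun a ha b hb => by
    by_cases e : a = b
    · exact ⟨0, by rw [e, mul_self_of_orderOf_two (hinv b hb)]; simp⟩
    · exact hprod a ha b hb e
  have key : ∀ a ∈ conjugatesOf d, (a : G ⧸ pCore p G) = d := fun a ha => by
    rw [QuotientGroup.eq, inv_eq_of_orderOf_two (hinv a ha)]; exact h a ha d hd
  have h1 : ∀ g : G, (g : G ⧸ pCore p G) ∈ zpowers (d : G ⧸ pCore p G) := fun g =>
    (show (⊤ : Subgroup G) ≤ (zpowers (d : G ⧸ pCore p G)).comap (QuotientGroup.mk' _) from hgen ▸ (closure_le _).2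
      fun a ha => by simp [key a ha]) (mem_top g)
  have h2 : commutator G ≤ pCore p G := by
    rw [commutator_def, commutator_le]
    intro x _ y _
    rw [← QuotientGroup.eq_one_iff, ← QuotientGroup.mk'_apply, map_commutatorElement, commutatorElement_eq_one_iff_commute]
    obtain ⟨m, hm⟩ := h1 x
    obtain ⟨n, hn⟩ := h1 y
    simp only [QuotientGroup.mk'_apply, ← hm, ← hn]
    exact Commute.zpow_zpow_self _ _ _
  exact ((Cfsg.Lib.Core.isPGroup_pCore p G).to_le h2).isNilpotent

end Cfsg.Agent.S1618
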