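import Cfsg.Statements.S1624
import Cfsg.Agent.Lib.J2.Iso
import Cfsg.Agent.Lib.Comp.U33x.Mat
import Cfsg.Agent.Lib.Comp.Subst2
import Cfsg.Agent.Lib.Comp.Quot
-- import your own Cfsg.Agent.* helpers here

set_option autoImplicit false
open Quaternion
open Cfsg

namespace Cfsg.Agent.S1624

open Cfsg.Lib.J2 Cfsg.Lib.Comp Subgroup Cfsg.Lib.MatB

/-- The Hall–Janko group contains PSU(3, 3) with index 100 and acts on the 100 cosets with rank 3 and subdegrees 1, 36, 63. -/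
theorem result : ∃ H : Subgroup Cfsg.Spor.J2, H.index = 100 ∧ (∃ (F : Type) (_ : Field F) (_ : Fintype F), Fintype.card F = 9 ∧ Nonempty (↥H ≃* Cfsg.PSU 3 F 3)) ∧ ∃ c₁ c₂ : Cfsg.Spor.J2 ⧸ H, (MulAction.orbit ↥H c₁).ncard = 36 ∧ (MulAction.orbit ↥H c₂).ncard = 63 := by
  obtain ⟨e, -⟩ := equiv
  obtain ⟨f, hf, hr, -⟩ := faith_of_equiv e
  obtain ⟨a1, a2⟩ := cnd_tt.1 J2x.simpleB
  obtain ⟨a2, a3⟩ := cnd_tt.1 (cnd_tt.1 a2).2
  have ht := transOn_of_transB J2x.nets_ok hr a1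
  have hB : IsBase (cl (gp J2x.nets) [1, 2, 3, 4]) (List.range 100) := fun g hg h =>
    (fx100 (cl_mono (by decide) hg)).eq_one fun i hi => h i (List.mem_range.2 hi)
  have hp := tbA_pt J2x.nets_ok
  let V := [[], [4, 2, 3, 4, 2, 3], [4, 3, 2, 4, 3, 2], [2, 3, 4, 2, 3, 1, 2, 3, 4, 2, 3, 1],
    [3, 2, 4, 3, 2, 1, 3, 2, 4, 3, 2, 1], [3, 2], [2, 3], [1]]
  obtain ⟨e1, -⟩ := embed_of_rels U33x.simple U33x.nets_iv U33x.nets_rel U33x.ord U33x.lb
    (siv (V := V) hB hp (fun _ => mem_cl) (by decide +kernel) (by decide +kernel))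
    (srels hB hp (fun _ => mem_cl) (by decide +kernel) (by decide +kernel)) (x := 7) (by decide)
    (sv_ne (p := 2) hp (by decide +kernel))
  have h1 : cl (sv (gp J2x.nets) V) U33x.L ≤ cl (gp J2x.nets) [1, 2, 3, 4] :=
    cl_le.2 fun x _ => sv_mem (fun _ => mem_cl) (by decide +kernel) x
  have h2 : cl (gp J2x.nets) [1, 2, 3, 4] ≤ f.range := hr ▸ cl_mono (by decide)
  have h3 : (cl (gp J2x.nets) [1, 2, 3, 4]).comap f ≤ stab f 0 := fun g hg => fix_of_invB J2x.nets_ok a2 hg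
  obtain ⟨e2⟩ := comap_iso hf (h1.trans h2)
  have h4 := eq_stab_of_card ht ((comap_mono h1).trans h3) (by
    rw [card_J2, Nat.card_congr (e2.trans e1.symm).toEquiv, U33x.card])
  have h5 := le_antisymm h3 (h4.ge.trans (comap_mono h1))
  obtain ⟨h6, h7⟩ := rank_three ht h5 (subsIn_of_subsB J2x.nets_ok (map_comap_eq_self h2) a3) (by norm_num)
  let _ : Fintype K9 := Fintype.ofEquiv _ (QuadraticAlgebra.equivProd 2 0).symm
  have h9 : Fintype.card K9 = 9 := by rw [← Nat.card_eq_fintype_card, card_quad]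
  obtain ⟨e3⟩ := U33x.iso h9
  exact ⟨_, h6, ⟨K9, inferInstance, _, h9, ⟨(MulEquiv.subgroupCongr (h5.trans h4.symm)).trans
    (e2.trans (e1.symm.trans e3))⟩⟩, h7⟩

end Cfsg.Agent.S1624
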