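import Cfsg.Statements.S1627
import Cfsg.Agent.Lib.Ru.Iso
-- import your own Cfsg.Agent.* helpers here

set_option autoImplicit false
open Cfsg

namespace Cfsg.Agent.S1627

open Cfsg.Lib.RuL Cfsg.Spor Cfsg.Lib.Comp

/-- The automorphism group of the rank-28 Hermitian lattice is a fourfold cover of a simple group of order 145926144000 = 2^14·3^3·5^3·7·13·29. -/
theorem result : Nat.card ↥(Subgroup.center ↥Cfsg.Spor.fourRu) = 4 ∧ Nat.card Cfsg.Spor.Ru = 145926144000 ∧ IsSimpleGroup Cfsg.Spor.Ru := by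
  obtain ⟨e⟩ := iso
  obtain ⟨π, -, k, c, -⟩ := exists_pi
  have := Rux.simple
  exact ⟨k ▸ c, (Nat.card_congr e.toEquiv).trans Rux.card, e.isSimpleGroup⟩

end Cfsg.Agent.S1627
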