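import Cfsg.Statements.S1631
import Cfsg.Agent.S1629

set_option autoImplicit false
open scoped MatrixGroups
open Cfsg

namespace Cfsg.Agent.S1631

open Cfsg.Lib.Forms Form Module S1629



/-- The unitary transvections of SU(n, 2), n ≥ 4, form a generating conjugacy class of 3-transpositions. -/
theorem result (F : Type) [Field F] [Fintype F] [DecidableEq F] (hF : Fintype.card F = 4) (n : ℕ) (hn : 4 ≤ n) : Cfsg.IsThreeTranspositionClass {g : ↥(Cfsg.SU n F 2) | (((g : Matrix.SpecialLinearGroup (Fin n) F) : Matrix (Fin n) (Fin n) F) - 1).rank = 1} := by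
  obtain ⟨σ, h⟩ := isConj_of_card (q := 2) hF
  have h2 : (2 : F) = 0 := by
    have := FiniteField.cast_card_eq_zero F
    rw [hF, show ((4 : ℕ) : F) = 2 ^ 2 by norm_num] at this
    exact pow_eq_zero_iff two_ne_zero |>.1 this
  have hD := stdHerm_nondeg h (Fin n)
  set D := stdHerm h (Fin n) with hDD
  have hr : ∀ g : SU n F 2, (g.1.1 - 1).rank = finrank F (supp (suEquiv h n g).1.1) := fun g =>
    rank_eq_supp fun _ => (suEquiv_apply h _ _).symm
  have hT := Herm.T_eq hD (by simp; omega) (by simp; omega)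
  have key : ∀ M : Subgroup (SU n F 2), (∀ g : SU n F 2, (g.1.1 - 1).rank = 1 → g ∈ M) → M = ⊤ :=
    fun M hM => by
    have := Herm.closure_subgroupOf_eq_top hT (M := M.comap (suEquiv h n).symm.toMonoidHom) fun x hx => by
      obtain ⟨e, c, hc, -, H⟩ := hx
      by_cases h1 : x = 1
      · rw [h1]; exact one_mem _
      refine hM ((suEquiv h n).symm x) ?_
      rw [hr, MulEquiv.apply_symm_apply, H]
      refine hD.finrank_range_rk1 hc ?_ ?_ <;> rintro rfl <;>
        exact h1 (Subtype.ext (H.trans (isom_ext fun x => by simp [rk1_apply])))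
    exact eq_top_iff.2 fun g _ => by simpa using (this.ge trivial : suEquiv h n g ∈ _)
  refine ttc_of h2 (D.isom.subtype.comp (D.det.ker.subtype.comp (suEquiv h n).toMonoidHom))
    (Subtype.val_injective.comp (Subtype.val_injective.comp (suEquiv h n).injective)) D.B
    (fun p p' => ?_) (fun d hd => ?_) ?_ (fun d hd e he h1 h1' => ?_)
    (fun d hd g => (rank_conj ((slToMat n F).comp (SU n F 2).subtype) g d).trans hd)
    (key _ fun g hg => Subgroup.subset_closure hg)
  · rw [← herm_symm D p p', h.apply]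
    by_cases h0 : D.B p p' = 0
    · simp [h0]
    · right
      have := FiniteField.pow_card_sub_one_eq_one _ h0
      rw [hF] at this; linear_combination this
  · rw [Set.mem_ofPred, hr] at hd
    obtain ⟨p, c, hc, -, c0, e⟩ := hD.exists_eq_rk1_of_finrank hd
    have h1 := D.det_rk1 p c hc
    rw [← e, (suEquiv h n d).2, Units.val_one, left_eq_add, mul_eq_zero, or_iff_right c0] at h1
    have h3 := (Herm.isRk1_iff_of_Q_eq_zero ((herm_Q D p).trans h1)).1 hc
    rw [h.apply] at h3
    have h4 : c = 1 := mul_left_cancel₀ c0 (by linear_combination h3 - c * h2)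
    refine ⟨fun h => finrank_supp_pos.1 hd.ge (by rw [h, map_one]; rfl), p, h1, fun x => ?_⟩
    show (suEquiv h n d).1.1 x = _
    rw [e, rk1_apply, h4, one_mul]
  · by_contra hne
    have h0 := key ⊥ fun g hg => (hne ⟨g, hg⟩).elim
    obtain ⟨e, f, hef⟩ := Herm.exists_isHyp hD (by simp; omega)
    have hc : D.IsRk1 e 1 := (Herm.isRk1_iff_of_Q_eq_zero hef.Q_e).2 (by rw [map_one, one_add_one_eq_two, h2])
    have := h0.ge (x := (suEquiv h n).symm ⟨_, hT.le (Herm.rk1_mem_T hc hef.Q_e)⟩) trivial
    rw [Subgroup.mem_bot, MulEquiv.map_eq_one_iff] at this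
    exact hD.rk1_ne_one hc one_ne_zero (by rintro rfl; simpa using hef.B_ef) (congrArg Subtype.val this)
  · rw [Set.mem_ofPred, hr] at hd he
    rw [← isConj_equiv (suEquiv h n), isConj_subgroup]
    exact Herm.exists_conj_det hD h2 (by rw [← Subgroup.coe_mul, ← map_mul, h1, map_one]; rfl)
      (finrank_supp_pos.1 hd.ge) (by rw [← Subgroup.coe_mul, ← map_mul, h1', map_one]; rfl)
      (hd.trans he.symm)

end Cfsg.Agent.S1631
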