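import Cfsg.Statements.S1632
import Cfsg.Agent.Lib.Layer.Theta4

set_option autoImplicit false
open Matrix
open Cfsg

namespace Cfsg.Agent.S1632


/-- An even unimodular lattice of rank 24 without roots has 196560, 16773120 and 398034000 vectors of norms 4, 6 and 8. -/
theorem result (B : Matrix (Fin 24) (Fin 24) ℤ) (hsymm : B.IsSymm) (hpos : ∀ x : Fin 24 → ℤ, x ≠ 0 → 0 < x ⬝ᵥ (B *ᵥ x)) (heven : ∀ x : Fin 24 → ℤ, (2 : ℤ) ∣ x ⬝ᵥ (B *ᵥ x)) (hdet : B.det = 1) (h2 : ∀ x : Fin 24 → ℤ, x ⬝ᵥ (B *ᵥ x) ≠ 2) : {x : Fin 24 → ℤ | x ⬝ᵥ (B *ᵥ x) = 4}.ncard = 196560 ∧ {x : Fin 24 → ℤ | x ⬝ᵥ (B *ᵥ x) = 6}.ncard = 16773120 ∧ {x : Fin 24 → ℤ | x ⬝ᵥ (B *ᵥ x) = 8}.ncard = 398034000 := by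
  have h : Lib.Layer.Theta.EU B := ⟨hsymm, fun x => by
    by_cases hx : x = 0
    · simp [hx]
    · exact (hpos x hx).le, hdet, heven⟩
  have hset : ∀ m : ℕ, {x | Lib.Layer.Theta.hn B x = m} = {x : Fin 24 → ℤ | x ⬝ᵥ (B *ᵥ x) = 2 * m} := by
    intro m; ext x
    simp only [Set.mem_ofPred_eq, h.hn_eq]; omega
  have h0 : {x | Lib.Layer.Theta.hn B x = 0}.ncard = 1 := by
    rw [hset, Set.ncard_eq_one]
    refine ⟨0, Set.eq_singleton_iff_unique_mem.mpr ⟨by simp, fun x hx => ?_⟩⟩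
    by_contra h0
    have := hpos x h0
    simp only [Set.mem_ofPred_eq] at hx
    omega
  have h1 : {x | Lib.Layer.Theta.hn B x = 1}.ncard = 0 := by
    rw [hset]
    have : {x : Fin 24 → ℤ | x ⬝ᵥ (B *ᵥ x) = 2 * ((1 : ℕ) : ℤ)} = ∅ := by
      ext x; simpa using h2 x
    rw [this, Set.ncard_empty]
  have he := h.eq_leech h0 h1
  obtain ⟨-, -, c2, c3, c4⟩ := Lib.Layer.Theta.leech_coeff
  rw [← he, h.coeff, hset] at c2 c3 c4
  exact ⟨by exact_mod_cast c2, by exact_mod_cast c3, by exact_mod_cast c4⟩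

end Cfsg.Agent.S1632
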