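import Cfsg.Statements.S1634
import Cfsg.Agent.Lib.Leech.Config2

set_option autoImplicit false
open Cfsg

namespace Cfsg.Agent.S1634

open Cfsg.Lib.Leech

/-- The McLaughlin group acts on 2025 points (minimal vectors orthogonal to v with customary inner product 2 with w) transitively with rank 4 and subdegrees 1, 330, 462, 1232. -/
theorem result (v w : ↥Cfsg.leechLattice) (hv : Cfsg.sqNorm (v : Cfsg.GolayPt → ℤ) = 32) (hw : Cfsg.sqNorm (w : Cfsg.GolayPt → ℤ) = 32) (hvw : Cfsg.dotInt (v : Cfsg.GolayPt → ℤ) (w : Cfsg.GolayPt → ℤ) = -8) : {x : ↥Cfsg.leechLattice | Cfsg.sqNorm (x : Cfsg.GolayPt → ℤ) = 32 ∧ Cfsg.dotInt (v : Cfsg.GolayPt → ℤ) (x : Cfsg.GolayPt → ℤ) = 0 ∧ Cfsg.dotInt (w : Cfsg.GolayPt → ℤ) (x : Cfsg.GolayPt → ℤ) = 16}.ncard = 2025 ∧ (∀ x ∈ {x : ↥Cfsg.leechLattice | Cfsg.sqNorm (x : Cfsg.GolayPt → ℤ) = 32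 ∧ Cfsg.dotInt (v : Cfsg.GolayPt → ℤ) (x : Cfsg.GolayPt → ℤ) = 0 ∧ Cfsg.dotInt (w : Cfsg.GolayPt → ℤ) (x : Cfsg.GolayPt → ℤ) = 16}, ∀ x' ∈ {x : ↥Cfsg.leechLattice | Cfsg.sqNorm (x : Cfsg.GolayPt → ℤ) = 32 ∧ Cfsg.dotInt (v : Cfsg.GolayPt → ℤ) (x : Cfsg.GolayPt → ℤ) = 0 ∧ Cfsg.dotInt (w : Cfsg.GolayPt → ℤ) (x : Cfsg.GolayPt → ℤ) = 16}, ∃ g : ↥Cfsg.Co0, g • v = v ∧ g • w = w ∧ g • x = x') ∧ ∀ x ∈ {x : ↥Cfsg.leechLattice | Cfsg.sqNorm (x : Cfsg.GolayPt → ℤ) = 32 ∧ Cfsg.dotInt (v : Cfsg.GolayPt → ℤ) (x : Cfsg.GolayPt → ℤ) = 0 ∧ Cfsg.dotInt (w : Cfsg.GolayPt → ℤ) (x : Cfsg.GolayPt → ℤ) = 16}, ∃ y₁ ∈ {x : ↥Cfsg.leechLattice | Cfsg.sqNorm (x : Cfsg.GolayPt → ℤ) = 32 ∧ Cfsg.dotInt (v : Cfsg.GolayPt → ℤ) (x : Cfsg.GolayPt → ℤ) = 0 ∧ Cfsg.dotInt (w : Cfsg.GolayPt → ℤ) (x : Cfsg.GolayPt → ℤ) = 16}, ∃ y₂ ∈ {x : ↥Cfsg.leechLattice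 | Cfsg.sqNorm (x : Cfsg.GolayPt → ℤ) = 32 ∧ Cfsg.dotInt (v : Cfsg.GolayPt → ℤ) (x : Cfsg.GolayPt → ℤ) = 0 ∧ Cfsg.dotInt (w : Cfsg.GolayPt → ℤ) (x : Cfsg.GolayPt → ℤ) = 16}, ∃ y₃ ∈ {x : ↥Cfsg.leechLattice | Cfsg.sqNorm (x : Cfsg.GolayPt → ℤ) = 32 ∧ Cfsg.dotInt (v : Cfsg.GolayPt → ℤ) (x : Cfsg.GolayPt → ℤ) = 0 ∧ Cfsg.dotInt (w : Cfsg.GolayPt → ℤ) (x : Cfsg.GolayPt → ℤ) = 16}, (MulAction.orbit ↥(MulAction.stabilizer ↥Cfsg.Co0 v ⊓ MulAction.stabilizer ↥Cfsg.Co0 w ⊓ MulAction.stabilizer ↥Cfsg.Co0 x) y₁).ncard = 330 ∧ (MulAction.orbit ↥(MulAction.stabilizer ↥Cfsg.Co0 v ⊓ MulAction.stabilizer ↥Cfsg.Co0 w ⊓ MulAction.stabilizer ↥Cfsg.Co0 x) y₂).ncard = 462 ∧ (MulAction.orbit ↥(MulAction.stabilizer ↥Cfsg.Co0 v ⊓ MulAction.stabilizer ↥Cfsg.Co0 w ⊓ MulAction.stabilizer ↥Cfsg.Co0 x) y₃).ncard = 1232 := by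
  obtain ⟨k, rfl, rfl⟩ := std223 hv hw hvw
  set T := {x : ↥Cfsg.leechLattice | Cfsg.sqNorm (x : Cfsg.GolayPt → ℤ) = 32 ∧
    ip (k • -Cfsg.Spor.leechU) x = 0 ∧ ip (k • (Cfsg.Spor.leechV + Cfsg.Spor.leechU)) x = 16} with hTdef
  have fixW : ∀ g ∈ sMcL, ∀ k : Cfsg.Co0, (k * g * k⁻¹) • k • (Cfsg.Spor.leechV + Cfsg.Spor.leechU) =
      k • (Cfsg.Spor.leechV + Cfsg.Spor.leechU) := fun g hg k => conj_fix (by
    rw [MulAction.mem_stabilizer_iff, co0_smul_add, MulAction.mem_stabilizer_iff.1 hg.1,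
      MulAction.mem_stabilizer_iff.1 hg.2]) k
  have key : ∀ (k : Cfsg.Co0) (x : Cfsg.leechLattice), (Cfsg.sqNorm (x : Cfsg.GolayPt → ℤ) = 32 ∧
      ip (k • -Cfsg.Spor.leechU) x = 0 ∧ ip (k • (Cfsg.Spor.leechV + Cfsg.Spor.leechU)) x = 16) ↔
      (k * negOne)⁻¹ • x ∈ SD (XD Cfsg.Spor.leechV (-16)) Cfsg.Spor.leechU 0 := fun k x => by
    rw [ip_smul_left, ip_smul_left, ip_neg_left, ip_add_left, ← sqNorm_smul k⁻¹, mul_inv_rev,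
      inv_eq_of_mul_eq_one_right negOne_mul_self, mul_smul, negOne_smul]
    show _ ↔ (_ ∧ _) ∧ _
    rw [neg_mem_MinV, ip_neg_right, ip_neg_right]
    exact ⟨fun h => ⟨⟨h.1, by omega⟩, by omega⟩, fun h => ⟨h.1.1, by omega, by omega⟩⟩
  have cj : ∀ k g : Cfsg.Co0, k * negOne * g * (k * negOne)⁻¹ = k * g * k⁻¹ := fun k g => by
    rw [mul_assoc k, ← negOne_comm]; group
  have tr : ∀ x ∈ T, ∀ x' ∈ T, ∃ g ∈ sMcL, (k * g * k⁻¹) • x = x' := fun x hx x' hx' => by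
    obtain ⟨g, hg, e⟩ := conj_trans orb2025 _ ((key k x).1 hx) ((key k x').1 hx')
    exact ⟨g, hg, cj k g ▸ e⟩
  refine ⟨(ncard_inv_smul _ (key k)).trans orb11178.2.2.2.2.2.1, fun x hx x' hx' => ?_,
    fun x hx => ?_⟩
  · obtain ⟨g, hg, e⟩ := tr x hx x' hx'
    exact ⟨_, conj_fix (neg_stab hg.2) k, fixW g hg k, e⟩
  · obtain ⟨g, hg, rfl⟩ := tr (k • -Cfsg.Spor.leechU') ((key k _).2 (by
      rw [mul_inv_rev, mul_smul, inv_smul_smul, inv_eq_of_mul_eq_one_right negOne_mul_self,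
        negOne_smul, neg_neg]; exact U'_mem)) x hx
    have e1 : k • -Cfsg.Spor.leechU = (k * g) • -Cfsg.Spor.leechU := by
      rw [mul_smul, MulAction.mem_stabilizer_iff.1 (neg_stab hg.2)]
    have e2 : k • (Cfsg.Spor.leechV + Cfsg.Spor.leechU) =
        (k * g) • (Cfsg.Spor.leechV + Cfsg.Spor.leechU) := by
      rw [mul_smul, co0_smul_add g, MulAction.mem_stabilizer_iff.1 hg.1,
        MulAction.mem_stabilizer_iff.1 hg.2]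
    have e3 : (k * g * k⁻¹) • k • -Cfsg.Spor.leechU' = (k * g) • -Cfsg.Spor.leechU' := by
      rw [mul_smul (k * g), inv_smul_smul]
    rw [e3]
    rw [e1, e2] at hTdef
    rw [e1, e2]
    generalize k * g = m at *
    have main : ∀ (d : ℤ) (n : ℕ), n ≠ 0 →
        (SD (SD (XD Cfsg.Spor.leechV (-16)) Cfsg.Spor.leechU 0) Cfsg.Spor.leechU' d).ncard = n →
        (∀ v ∈ SD (SD (XD Cfsg.Spor.leechV (-16)) Cfsg.Spor.leechU 0) Cfsg.Spor.leechU' d,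
          ∀ w ∈ SD (SD (XD Cfsg.Spor.leechV (-16)) Cfsg.Spor.leechU 0) Cfsg.Spor.leechU' d,
            ∃ g ∈ sM22, g • v = w) →
        ∃ y ∈ T, (MulAction.orbit ↥(MulAction.stabilizer Cfsg.Co0 (m • -Cfsg.Spor.leechU) ⊓
          MulAction.stabilizer Cfsg.Co0 (m • (Cfsg.Spor.leechV + Cfsg.Spor.leechU)) ⊓
          MulAction.stabilizer Cfsg.Co0 (m • -Cfsg.Spor.leechU')) y).ncard = n := by
      intro d n hn hc ht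
      have hT : ∀ x, x ∈ SD T (m • -Cfsg.Spor.leechU') d ↔ (m * negOne)⁻¹ • x ∈
          SD (SD (XD Cfsg.Spor.leechV (-16)) Cfsg.Spor.leechU 0) Cfsg.Spor.leechU' d := fun x => by
        show _ ∧ _ ↔ _ ∧ _
        rw [← key, ← ip_smul_left, mul_smul, negOne_smul, hTdef]; rfl
      have h1 := (ncard_inv_smul _ hT).trans hc
      obtain ⟨y, hy⟩ := Set.nonempty_of_ncard_ne_zero (h1 ▸ hn)
      refine ⟨y, hy.1, ?_⟩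
      rw [orbit_eq_of _ ht (fun g hg => ?_) hT (SD_inv fun g hg v hv => ?_) hy, h1]
      · rw [cj]
        exact ⟨⟨conj_fix (neg_stab hg.1.2) m, fixW g hg.1 m⟩, conj_fix (neg_stab hg.2) m⟩
      · rw [hTdef] at hv ⊢
        exact ⟨(sqNorm_smul g v).trans hv.1, (ip_stab hg.1 v).trans hv.2.1,
          (ip_stab hg.2 v).trans hv.2.2⟩
    obtain ⟨y1, a1, b1⟩ := main _ _ (by norm_num) orb11178.2.2.2.2.2.2.1 orb330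
    obtain ⟨y2, a2, b2⟩ := main _ _ (by norm_num) orb11178.2.2.2.2.2.2.2.1 orb462
    obtain ⟨y3, a3, b3⟩ := main _ _ (by norm_num) orb11178.2.2.2.2.2.2.2.2 orb1232
    exact ⟨y1, a1, y2, a2, y3, a3, b1, b2, b3⟩

end Cfsg.Agent.S1634
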