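import Cfsg.Statements.S1636
import Cfsg.Agent.Lib.Golay.Coset

set_option autoImplicit false
open Cfsg

namespace Cfsg.Agent.S1636

open Cfsg.Lib.Golay
open scoped Pointwise symmDiff
set_option maxRecDepth 100000
set_option linter.unusedSimpArgs false
set_option maxHeartbeats 400000

/-- The punctured length-23 code has weight distribution 0^1 7^253 8^506 11^1288 12^1288 15^506 16^253 23^1. -/
theorem result : {u : ZMod 23 → ZMod 2 | ∃ w ∈ Cfsg.golayCode, ∀ x : ZMod 23, u x = w (some x)}.ncard = 4096 ∧ {u : ZMod 23 → ZMod 2 | u ∈ {u : ZMod 23 → ZMod 2 | ∃ w ∈ Cfsg.golayCode, ∀ x : ZMod 23, u x = w (some x)} ∧ hammingNorm u = 7}.ncard = 253 ∧ {u : ZMod 23 → ZMod 2 | u ∈ {u : ZMod 23 → ZMod 2 | ∃ w ∈ Cfsg.golayCode, ∀ x : ZMod 23, u x = w (some x)} ∧ hammingNorm u = 8}.ncard = 506 ∧ {u : ZMod 23 → ZMod 2 | u ∈ {u : ZMod 23 → ZMod 2 | ∃ w ∈ Cfsg.golayCode, ∀ x : ZMod 23, u x = w (some x)} ∧ hammingNorm u = 11}.ncard = 1288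 ∧ {u : ZMod 23 → ZMod 2 | u ∈ {u : ZMod 23 → ZMod 2 | ∃ w ∈ Cfsg.golayCode, ∀ x : ZMod 23, u x = w (some x)} ∧ hammingNorm u = 12}.ncard = 1288 ∧ {u : ZMod 23 → ZMod 2 | u ∈ {u : ZMod 23 → ZMod 2 | ∃ w ∈ Cfsg.golayCode, ∀ x : ZMod 23, u x = w (some x)} ∧ hammingNorm u = 15}.ncard = 506 ∧ {u : ZMod 23 → ZMod 2 | u ∈ {u : ZMod 23 → ZMod 2 | ∃ w ∈ Cfsg.golayCode, ∀ x : ZMod 23, u x = w (some x)} ∧ hammingNorm u = 16}.ncard = 253 ∧ ∀ u ∈ {u : ZMod 23 → ZMod 2 | ∃ w ∈ Cfsg.golayCode, ∀ x : ZMod 23, u x = w (some x)}, u ≠ 0 → 7 ≤ hammingNorm u := by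

  have hn : ∀ s : Finset GolayPt, hammingNorm (fun x : ZMod 23 => ind s (some x)) = (s.erase none).card :=
    fun s => by
      rw [hammingNorm_eq_card, ← Finset.card_map Function.Embedding.some]
      congr 1; ext p; cases p <;> simp [mem_support₂, ind]
  have hi : Set.InjOn (fun (s : Finset GolayPt) (x : ZMod 23) => ind s (some x)) cw := fun s hs t ht e => by
    have h1 := hn (s ∆ t)
    rw [ind_symmDiff, show (fun x : ZMod 23 => (ind s + ind t) (some x)) = 0 from funext fun x => by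
      rw [← sub_eq_add₂, Pi.sub_apply, show ind s (some x) = ind t (some x) from congrFun e x, sub_self]; rfl,
      hammingNorm_zero] at h1
    have h2 := card_cw (symmDiff_mem_cw hs ht)
    have h3 := Finset.pred_card_le_card_erase (s := s ∆ t) (a := none)
    exact symmDiff_eq_bot.mp (Finset.card_eq_zero.mp (by omega))
  have hS : ∀ P : (ZMod 23 → ZMod 2) → Prop, {u : ZMod 23 → ZMod 2 | u ∈ {u : ZMod 23 → ZMod 2 |
      ∃ w ∈ golayCode, ∀ x : ZMod 23, u x = w (some x)} ∧ P u} =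
      (fun (s : Finset GolayPt) (x : ZMod 23) => ind s (some x)) ''
        {s | s ∈ cw ∧ P fun x => ind s (some x)} := fun P => by
    ext u
    constructor
    · rintro ⟨⟨w, hw, e⟩, h⟩
      obtain rfl : u = fun x => w (some x) := funext e
      exact ⟨support₂ w, ⟨support₂_mem_cw_iff.mpr hw, by rwa [ind_support₂]⟩, by simp only [ind_support₂]⟩
    · rintro ⟨s, ⟨hs, h⟩, rfl⟩
      exact ⟨⟨_, mem_cw_iff.mp hs, fun _ => rfl⟩, h⟩
  have he : ∀ m, ((om m).erase none).card = pop24 (Nat.land m 0x7fffff) := fun m => by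
    rw [← card_om_inter, show om 0x7fffff = {none}ᶜ by decide +kernel]
    congr 1; ext p; simp [and_comm]
  have hk : ∀ k, {u : ZMod 23 → ZMod 2 | u ∈ {u : ZMod 23 → ZMod 2 |
      ∃ w ∈ golayCode, ∀ x : ZMod 23, u x = w (some x)} ∧ hammingNorm u = k}.ncard =
      countN 4096 fun i => Nat.beq (pop24 (Nat.land (cwN i) 0x7fffff)) k := fun k => by
    rw [hS, (hi.mono fun _ h => h.1).ncard_image]
    exact ncard_cw (fun m => Nat.beq (pop24 (Nat.land m 0x7fffff)) k) (fun _ h => h.1) fun m hm => by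
      rw [Set.mem_setOf_eq, hn, he, beq_iff]; exact and_iff_right (om_mem_cw hm)
  refine ⟨?_, ?_, ?_, ?_, ?_, ?_, ?_, fun u hu h => ?_⟩
  · have := hS fun _ => True
    simp only [and_true, Set.setOf_mem_eq] at this
    rw [this, hi.ncard_image, ncard_cw_all]
  iterate 6 rw [hk]; decide +kernel
  obtain ⟨s, ⟨hs, h1⟩, rfl⟩ := (hS fun u => u ≠ 0).le ⟨hu, h⟩
  have h2 := card_cw hs
  have h3 := Finset.pred_card_le_card_erase (s := s) (a := none)
  have h4 := hammingNorm_eq_zero.not.mpr h1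
  have h5 := Finset.card_erase_le (s := s) (a := none)
  rw [hn] at *
  omega

end Cfsg.Agent.S1636
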