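import Cfsg.Statements.S1637
import Cfsg.Agent.Lib.Golay.Coset

set_option autoImplicit false
open Cfsg

namespace Cfsg.Agent.S1637

open Cfsg.Lib.Golay
open scoped Pointwise symmDiff
set_option maxRecDepth 100000
set_option linter.unusedSimpArgs false
set_option maxHeartbeats 400000

/-- The punctured length-23 code is a perfect 3-error-correcting code: each word of length 23 is within distance 3 of exactly one codeword. -/
theorem result (u : ZMod 23 → ZMod 2) : ∃! c : ZMod 23 → ZMod 2, c ∈ {u : ZMod 23 → ZMod 2 | ∃ w ∈ Cfsg.golayCode, ∀ x : ZMod 23, u x = w (some x)} ∧ hammingDist u c ≤ 3 := by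

  have hn : ∀ w : GolayPt → ZMod 2, hammingNorm (fun x : ZMod 23 => w (some x)) =
      ((support₂ w).erase none).card := fun s => by
    rw [hammingNorm_eq_card, ← Finset.card_map Function.Embedding.some]
    congr 1; ext p; cases p <;> simp [mem_support₂]
  have hs : ∀ w : GolayPt → ZMod 2, ∑ p, w p = (support₂ w).card := fun w => by
    have := dot_eq_card_inter w 1
    rwa [← ind_univ, support₂_ind, Finset.inter_univ, ind_univ, show ∑ i, w i * (1 : GolayPt → ZMod 2) i =
      ∑ i, w i by simp] at this
  let w : GolayPt → ZMod 2 := fun p => p.elim (1 + ∑ x, u x) u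
  obtain ⟨v, h1, h2⟩ := exists_leader_cw (support₂ w)
  rw [← support₂_ind v] at h1 h2
  generalize ind v = v at h1 h2
  rw [← sub_mem_code_iff, ← sub_mem_comm_iff] at h2
  have h3 := orth_golay _ h2 1 (Submodule.subset_span (Set.mem_union_right _ rfl))
  simp only [Pi.one_apply, mul_one, Pi.sub_apply, Finset.sum_sub_distrib] at h3
  rw [hs v, Fintype.sum_option, sub_eq_zero, show w none + ∑ x, w (some x) = 1 from
    (by decide : ∀ a : ZMod 2, 1 + a + a = 1) _, eq_comm, ZMod.natCast_eq_one_iff_odd, Nat.odd_iff] at h3
  have h4 : hammingDist u (fun x => (w - v) (some x)) ≤ 3 := by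
    rw [hammingDist_comm, hammingDist_eq_hammingNorm,
      show ((-fun x => (w - v) (some x)) + u) = fun x => v (some x) from
      funext fun x => neg_add_eq_sub _ _ |>.trans (sub_sub_cancel _ _), hn]
    have := Finset.card_erase_le (s := support₂ v) (a := none)
    omega
  refine ⟨fun x => (w - v) (some x), ⟨⟨_, h2, fun _ => rfl⟩, h4⟩, ?_⟩
  rintro c ⟨⟨c', hc, e⟩, h5⟩
  obtain rfl : c = fun x => c' (some x) := funext e
  by_contra hne
  have h6 := min_golay _ (sub_mem hc h2) fun e => hne (by rw [sub_eq_zero.mp e])
  have h7 := hammingDist_triangle_left (fun x => c' (some x)) (fun x => (w - v) (some x)) u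
  have h8 := hn (c' - (w - v))
  rw [hammingNorm_eq_card] at h6
  rw [hammingDist_comm, hammingDist_eq_hammingNorm, neg_add_eq_sub] at h7
  have h9 := Finset.pred_card_le_card_erase (s := support₂ (c' - (w - v))) (a := none)
  have : hammingNorm (fun x : ZMod 23 => (c' - (w - v)) (some x)) ≤ 6 := h7.trans (by omega)
  omega

end Cfsg.Agent.S1637
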