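import Cfsg.Statements.S1638
import Cfsg.Agent.Lib.Golay.Trio
import Cfsg.Agent.Lib.Golay.Label

set_option autoImplicit false
open scoped Pointwise
open Cfsg

namespace Cfsg.Agent.S1638

open Cfsg.Lib.Golay
open scoped Pointwise
set_option maxRecDepth 100000
set_option linter.unusedSimpArgs false

/-- Fix two points p ≠ q and a pair s of two further points. Among the pairs avoiding p, q and disjoint from s, exactly 30 lie in an octad together with p, q and s and exactly 160 do not; and any two pairs other than s that meet s in equally many points and agree on that octad property are carried to one another by an element of the group of the length-24 code fixing p, q and s. -/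
theorem result (p q : Cfsg.GolayPt) (hpq : p ≠ q) (s : Finset Cfsg.GolayPt) (hs : (s.card = 2 ∧ p ∉ s ∧ q ∉ s)) : {t : Finset Cfsg.GolayPt | (t.card = 2 ∧ p ∉ t ∧ q ∉ t) ∧ Disjoint s t ∧ (∃ o ∈ Cfsg.octads, p ∈ o ∧ q ∈ o ∧ s ∪ t ⊆ o)}.ncard = 30 ∧ {t : Finset Cfsg.GolayPt | (t.card = 2 ∧ p ∉ t ∧ q ∉ t) ∧ Disjoint s t ∧ ¬ (∃ o ∈ Cfsg.octads, p ∈ o ∧ q ∈ o ∧ s ∪ t ⊆ o)}.ncard = 160 ∧ ∀ t t' : Finset Cfsg.GolayPt, (t.card = 2 ∧ p ∉ t ∧ q ∉ t) → (t'.card = 2 ∧ p ∉ t' ∧ q ∉ t') → t ≠ s → t' ≠ s → (s ∩ t).card = (s ∩ t').card → ((∃ o ∈ Cfsg.octads, p ∈ o ∧ q ∈ o ∧ s ∪ t ⊆ o) ↔ (∃ o ∈ Cfsg.octads, p ∈ o ∧ q ∈ o ∧ s ∪ t' ⊆ o)) → ∃ g : Equiv.Perm Cfsg.GolayPt, g ∈ Cfsg.M24 ∧ g p = p ∧ g q = q ∧ g • s = s ∧ g • t = t' := by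
  obtain ⟨x, y, hxy, rfl⟩ := Finset.card_eq_two.mp hs.1
  have h1 := hs.2.1
  have h2 := hs.2.2
  simp only [Finset.mem_insert, Finset.mem_singleton, not_or] at h1 h2
  obtain ⟨σ, hσ, e1, e2, e3, e4⟩ := exists_M24_four (a := none) (b := some 0) (c := gc.pt 1) (d := gc.pt 2)
    (a' := p) (b' := q) (c' := x) (d' := y) (by decide) (by simp [hpq, h1.1, h1.2, h2.1, h2.2, hxy])
  obtain rfl : σ • (none : GolayPt) = p := e1
  obtain rfl : σ • (some 0 : GolayPt) = q := e2
  have e5 : ({x, y} : Finset GolayPt) = σ • om 6 := by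
    rw [← e3, ← e4, show om 6 = {gc.pt 1, gc.pt 2} by decide +kernel, smul_pair]; rfl
  rw [e5]
  have hE : ∀ U : Finset GolayPt, (∃ o ∈ octads, σ • (none : GolayPt) ∈ o ∧ σ • (some 0 : GolayPt) ∈ o ∧
      σ • om 6 ∪ σ • U ⊆ o) ↔ ∃ o ∈ octads, om 0x800007 ∪ U ⊆ o := fun U => by
    rw [exists_smul_iff σ]
    simp only [smul_union', smul_subset_smul', smul_mem_octads_iff hσ, smul_mem_smul']
    rw [show om 0x800007 = insert none (insert (some 0) (om 6)) by decide +kernel]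
    simp only [Finset.insert_union, Finset.insert_subset_iff]
  have hO : ∀ m < 2 ^ 24, (∃ o ∈ octads, om 0x800007 ∪ om m ⊆ o) ↔ anyL [0xc12017, 0x82402f, 0xa800c7, 0x908607, 0x841907] (fun o => Nat.beq (Nat.land m o) m) = true :=
    fun m hm => exists_oct_sup (by norm_num) (by decide +kernel) hm
  refine ⟨?_, ?_, fun U U' hU hU' hd hd' h h' => ?_⟩
  · rw [ncard_setOf_smul σ]
    simp only [hE, Finset.card_smul_finset, disjoint_smul', smul_mem_smul', and_assoc]
    rw [ncard_sub 2 (fun m => band (bnot (tb m 23)) (band (bnot (tb m 0)) (band (Nat.beq (Nat.land 6 m) 0) (anyL [0xc12017, 0x82402f, 0xa800c7, 0x908607, 0x841907] (fun o => Nat.beq (Nat.land m o) m))))) (fun m hm _ => by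
      simp only [hO m hm, om_disjoint_iff (show 6 < 2 ^ 24 by norm_num), band_iff, beq_iff, bnot_iff, none_mem_om, zero_mem_om])]
    decide +kernel
  · rw [ncard_setOf_smul σ]
    simp only [hE, Finset.card_smul_finset, disjoint_smul', smul_mem_smul', and_assoc]
    rw [ncard_sub 2 (fun m => band (bnot (tb m 23)) (band (bnot (tb m 0)) (band (Nat.beq (Nat.land 6 m) 0) (bnot (anyL [0xc12017, 0x82402f, 0xa800c7, 0x908607, 0x841907] (fun o => Nat.beq (Nat.land m o) m)))))) (fun m hm _ => by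
      simp only [hO m hm, om_disjoint_iff (show 6 < 2 ^ 24 by norm_num), band_iff, beq_iff, bnot_iff, none_mem_om, zero_mem_om])]
    decide +kernel
  obtain ⟨U, rfl⟩ := exists_eq_smul σ U
  obtain ⟨U', rfl⟩ := exists_eq_smul σ U'
  simp only [hE, Finset.card_smul_finset, smul_mem_smul', card_smul_inter] at hU hU' h h'
  obtain ⟨a, ha, rfl⟩ := exists_om U
  obtain ⟨b, hb, rfl⟩ := exists_om U'
  rw [card_om_inter, card_om_inter] at h
  rw [hO a ha, hO b hb, ← Bool.eq_iff_iff] at h'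
  have ha' : band (bnot (tb a 23)) (bnot (tb a 0)) = true := by
    simpa only [band_iff, bnot_iff, none_mem_om, zero_mem_om] using hU.2
  have hb' : band (bnot (tb b 23)) (bnot (tb b 0)) = true := by
    simpa only [band_iff, bnot_iff, none_mem_om, zero_mem_om] using hU'.2
  obtain ⟨g, hg, e⟩ := sub_classes (H := M24 ⊓ MulAction.stabilizer (Equiv.Perm GolayPt) (gc.pt 23) ⊓ MulAction.stabilizer (Equiv.Perm GolayPt) (gc.pt 0) ⊓ MulAction.stabilizer _ (om 6))
    (gs := [0x17090c041203130f16060a0511100d0e0b08151407010200, 0x170c0709151110121416080e050a0f031306040b0d020100])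
    (inH_inf_om (inH_inf_pt (inH_inf_pt (inH_of_allL (by decide +kernel)) 23 (by decide) (by decide +kernel))
      0 (by decide) (by decide +kernel)) 6 (by decide +kernel)) 2
    (fun m => bif' (band (bnot (tb m 23)) (bnot (tb m 0)))
      (Nat.succ (Nat.add (Nat.mul 2 (pop24 (Nat.land 6 m))) (bif' (anyL [0xc12017, 0x82402f, 0xa800c7, 0x908607, 0x841907] (fun o => Nat.beq (Nat.land m o) m)) 1 0))) 0)
    [0x6, 0xa, 0x18, 0x28] (by decide +kernel) ha hb hU.1 hU'.1
    (by rw [bif'_pos ha']; exact Nat.succ_ne_zero _) (by rw [bif'_pos ha', bif'_pos hb', h, h'])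
  exact ⟨σ * g * σ⁻¹, mul_mem (mul_mem hσ hg.1.1.1) (inv_mem hσ),
    (conj_apply_smul σ g _).trans (congrArg (σ • ·) hg.1.1.2),
    (conj_apply_smul σ g _).trans (congrArg (σ • ·) hg.1.2), by rw [conj_smul_smul, hg.2],
    by rw [conj_smul_smul, e]⟩

end Cfsg.Agent.S1638
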