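import Cfsg.Statements.S1639
import Cfsg.Agent.Lib.Golay.Oct

set_option autoImplicit false
open scoped Pointwise
open Cfsg

namespace Cfsg.Agent.S1639

open Cfsg.Lib.Golay
open scoped Pointwise
set_option maxRecDepth 100000
set_option linter.unusedSimpArgs false

/-- The point stabiliser acts on the 1288 dodecads through the point with rank 4 and subdegrees 1, 165, 330, 792, distinguished by intersection 4, 8, 6 with the fixed dodecad. -/
theorem result (x : Cfsg.GolayPt) (d : Finset Cfsg.GolayPt) (hd : d ∈ Cfsg.dodecads) (hx : x ∈ d) : {d' : Finset Cfsg.GolayPt | d' ∈ Cfsg.dodecads ∧ x ∈ d' ∧ (d ∩ d').card = 4}.ncard = 165 ∧ {d' : Finset Cfsg.GolayPt | d' ∈ Cfsg.dodecads ∧ x ∈ d' ∧ (d ∩ d').card = 8}.ncard = 330 ∧ {d' : Finset Cfsg.GolayPt | d' ∈ Cfsg.dodecads ∧ x ∈ d' ∧ (d ∩ d').card = 6}.ncard = 792 ∧ ∀ d' d'' : Finset Cfsg.GolayPt, d' ∈ Cfsg.dodecads → d'' ∈ Cfsg.dodecads → x ∈ d' → x ∈ d'' → (d ∩ d').card = (d ∩ d'').card →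 ∃ g : Equiv.Perm Cfsg.GolayPt, g ∈ Cfsg.M24 ∧ g x = x ∧ g • d = d ∧ g • d' = d'' := by
  obtain ⟨σ, hσ, rfl, rfl⟩ := std_dodecad_pt hd hx
  refine ⟨?_, ?_, ?_, fun d' d'' hd' hd'' hx' hx'' h => ?_⟩
  · rw [ncard_setOf_smul σ]
    simp only [smul_mem_octads_iff hσ, smul_mem_dodecads_iff hσ, smul_mem_smul', card_smul_inter]
    rw [ncard_dod (fun m => band (tb m 0) (Nat.beq (pop24 (Nat.land 0x5335f m)) 4)) (fun m _ => by
      simp only [none_mem_om, zero_mem_om, pt_mem_om (show 4 < 24 by norm_num), card_om_inter, band_iff, bnot_iff, beq_iff])]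
    decide +kernel
  · rw [ncard_setOf_smul σ]
    simp only [smul_mem_octads_iff hσ, smul_mem_dodecads_iff hσ, smul_mem_smul', card_smul_inter]
    rw [ncard_dod (fun m => band (tb m 0) (Nat.beq (pop24 (Nat.land 0x5335f m)) 8)) (fun m _ => by
      simp only [none_mem_om, zero_mem_om, pt_mem_om (show 4 < 24 by norm_num), card_om_inter, band_iff, bnot_iff, beq_iff])]
    decide +kernel
  · rw [ncard_setOf_smul σ]
    simp only [smul_mem_octads_iff hσ, smul_mem_dodecads_iff hσ, smul_mem_smul', card_smul_inter]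
    rw [ncard_dod (fun m => band (tb m 0) (Nat.beq (pop24 (Nat.land 0x5335f m)) 6)) (fun m _ => by
      simp only [none_mem_om, zero_mem_om, pt_mem_om (show 4 < 24 by norm_num), card_om_inter, band_iff, bnot_iff, beq_iff])]
    decide +kernel
  obtain ⟨d', rfl⟩ := exists_eq_smul σ d'
  obtain ⟨d'', rfl⟩ := exists_eq_smul σ d''
  simp only [smul_mem_octads_iff hσ, smul_mem_dodecads_iff hσ, smul_mem_smul', card_smul_inter] at hd' hd'' hx' hx'' h
  obtain ⟨a, ha, rfl⟩ := exists_isDod hd'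
  obtain ⟨b, hb, rfl⟩ := exists_isDod hd''
  rw [card_om_inter, card_om_inter] at h
  have ha' : band (Nat.beq (pop24 a) 12) (tb a 0) = true := by
    simp only [band_iff, beq_iff, bnot_iff]; exact ⟨(isDod_iff.mp ha).2, zero_mem_om.mp hx'⟩
  have hb' : band (Nat.beq (pop24 b) 12) (tb b 0) = true := by
    simp only [band_iff, beq_iff, bnot_iff]; exact ⟨(isDod_iff.mp hb).2, zero_mem_om.mp hx''⟩
  obtain ⟨g, hg, e⟩ := cw_classes (H := Spor.M11) (M11_le) (gs := gM11)
    (inH_gM11)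
    (fun m => bif' (band (Nat.beq (pop24 m) 12) (tb m 0)) (Nat.succ (pop24 (Nat.land 0x5335f m))) 0)
    [0x7dd00d, 0xaf101f, 0xf3c069, 0x5335f] (by decide +kernel) (isDod_iff.mp ha).1 (isDod_iff.mp hb).1
    (by rw [bif'_pos ha']; exact Nat.succ_ne_zero _) (by rw [bif'_pos ha', bif'_pos hb', h])
  exact ⟨σ * g * σ⁻¹, mul_mem (mul_mem hσ (M11_le hg)) (inv_mem hσ), (conj_apply_smul σ g _).trans (congrArg (σ • ·) hg.2), by rw [conj_smul_smul, (mem_M11.mp hg).2.1], by rw [conj_smul_smul, e]⟩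

end Cfsg.Agent.S1639
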