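import Cfsg.Statements.S1641
import Cfsg.Agent.Lib.Leech.Config2

set_option autoImplicit false
open Cfsg

namespace Cfsg.Agent.S1641

open Cfsg.Lib.Leech

/-- The third Conway group acts on the 11178 cosets of the Higman–Sims group with rank 5 and subdegrees 1, 352, 1100, 4125, 5600. -/
theorem result (u x : ↥Cfsg.leechLattice) (hu : Cfsg.sqNorm (u : Cfsg.GolayPt → ℤ) = 48) (hx : x ∈ {x : ↥Cfsg.leechLattice | Cfsg.sqNorm (x : Cfsg.GolayPt → ℤ) = 32 ∧ Cfsg.dotInt (u : Cfsg.GolayPt → ℤ) (x : Cfsg.GolayPt → ℤ) = -16}) : ∃ y₁ ∈ {x : ↥Cfsg.leechLattice | Cfsg.sqNorm (x : Cfsg.GolayPt → ℤ) = 32 ∧ Cfsg.dotInt (u : Cfsg.GolayPt → ℤ) (x : Cfsg.GolayPt → ℤ) = -16}, ∃ y₂ ∈ {x : ↥Cfsg.leechLattice | Cfsg.sqNorm (x : Cfsg.GolayPt → ℤ) = 32 ∧ Cfsg.dotInt (u : Cfsg.GolayPt → ℤ) (x : Cfsg.GolayPt → ℤ) = -16}, ∃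 y₃ ∈ {x : ↥Cfsg.leechLattice | Cfsg.sqNorm (x : Cfsg.GolayPt → ℤ) = 32 ∧ Cfsg.dotInt (u : Cfsg.GolayPt → ℤ) (x : Cfsg.GolayPt → ℤ) = -16}, ∃ y₄ ∈ {x : ↥Cfsg.leechLattice | Cfsg.sqNorm (x : Cfsg.GolayPt → ℤ) = 32 ∧ Cfsg.dotInt (u : Cfsg.GolayPt → ℤ) (x : Cfsg.GolayPt → ℤ) = -16}, (MulAction.orbit ↥(MulAction.stabilizer ↥Cfsg.Co0 u ⊓ MulAction.stabilizer ↥Cfsg.Co0 x) y₁).ncard = 352 ∧ (MulAction.orbit ↥(MulAction.stabilizer ↥Cfsg.Co0 u ⊓ MulAction.stabilizer ↥Cfsg.Co0 x) y₂).ncard = 1100 ∧ (MulAction.orbit ↥(MulAction.stabilizer ↥Cfsg.Co0 u ⊓ MulAction.stabilizer ↥Cfsg.Co0 x) y₃).ncard = 4125 ∧ (MulAction.orbit ↥(MulAction.stabilizer ↥Cfsg.Co0 u ⊓ MulAction.stabilizer ↥Cfsg.Co0 x) y₄).ncard = 5600 ∧ {x : ↥Cfsg.leechLattice | Cfsg.sqNorm (x : Cfsg.GolayPt → ℤ) = 32 ∧ Cfsg.dotInt (u : Cfsg.GolayPt →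 ℤ) (x : Cfsg.GolayPt → ℤ) = -16} = {x} ∪ MulAction.orbit ↥(MulAction.stabilizer ↥Cfsg.Co0 u ⊓ MulAction.stabilizer ↥Cfsg.Co0 x) y₁ ∪ MulAction.orbit ↥(MulAction.stabilizer ↥Cfsg.Co0 u ⊓ MulAction.stabilizer ↥Cfsg.Co0 x) y₂ ∪ MulAction.orbit ↥(MulAction.stabilizer ↥Cfsg.Co0 u ⊓ MulAction.stabilizer ↥Cfsg.Co0 x) y₃ ∪ MulAction.orbit ↥(MulAction.stabilizer ↥Cfsg.Co0 u ⊓ MulAction.stabilizer ↥Cfsg.Co0 x) y₄ := by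
  obtain ⟨k, rfl, rfl⟩ := std11178 hu hx
  have main : ∀ (d : ℤ) (n : ℕ), n ≠ 0 → (SD (XD Cfsg.Spor.leechV (-16)) Cfsg.Spor.leechU' d).ncard = n →
      (∀ v ∈ SD (XD Cfsg.Spor.leechV (-16)) Cfsg.Spor.leechU' d,
        ∀ w ∈ SD (XD Cfsg.Spor.leechV (-16)) Cfsg.Spor.leechU' d, ∃ g ∈ sHS, g • v = w) →
      ∃ y ∈ XD (k • Cfsg.Spor.leechV) (-16), MulAction.orbit ↥(MulAction.stabilizer Cfsg.Co0
        (k • Cfsg.Spor.leechV) ⊓ MulAction.stabilizer Cfsg.Co0 (k • Cfsg.Spor.leechU')) y =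
        SD (XD (k • Cfsg.Spor.leechV) (-16)) (k • Cfsg.Spor.leechU') d ∧
        (SD (XD (k • Cfsg.Spor.leechV) (-16)) (k • Cfsg.Spor.leechU') d).ncard = n := by
    intro d n hn hc ht
    have hT : ∀ x, x ∈ SD (XD (k • Cfsg.Spor.leechV) (-16)) (k • Cfsg.Spor.leechU') d ↔
        k⁻¹ • x ∈ SD (XD Cfsg.Spor.leechV (-16)) Cfsg.Spor.leechU' d := fun x => by
      show _ ∧ _ ↔ _ ∧ _
      rw [mem_XD_smul, ip_smul_left]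
    have h1 := (ncard_inv_smul k hT).trans hc
    obtain ⟨y, hy⟩ := Set.nonempty_of_ncard_ne_zero (h1 ▸ hn)
    exact ⟨y, hy.1, orbit_eq_of k ht (fun g hg => Subgroup.mem_inf.2 ⟨conj_fix hg.1 k, conj_fix hg.2 k⟩) hT
      (SD_inv XD_inv) hy, h1⟩
  obtain ⟨y1, a1, b1, c1⟩ := main _ _ (by norm_num) orb11178.2.1 orb352
  obtain ⟨y2, a2, b2, c2⟩ := main _ _ (by norm_num) orb11178.2.2.1 orb1100
  obtain ⟨y3, a3, b3, c3⟩ := main _ _ (by norm_num) orb11178.2.2.2.1 orb4125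
  obtain ⟨y4, a4, b4, c4⟩ := main _ _ (by norm_num) orb11178.2.2.2.2.1 orb5600
  refine ⟨y1, a1, y2, a2, y3, a3, y4, a4, ?_⟩
  rw [b1, b2, b3, b4]
  refine ⟨c1, c2, c3, c4, Set.ext fun y => ⟨fun hy => ?_, ?_⟩⟩
  · rcases ip_cases_11178 hu hx hy with h | h | h | h | h
    · exact Or.inl (Or.inl (Or.inl (Or.inl h.symm)))
    · exact Or.inl (Or.inl (Or.inl (Or.inr ⟨hy, h⟩)))
    · exact Or.inl (Or.inl (Or.inr ⟨hy, h⟩))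
    · exact Or.inl (Or.inr ⟨hy, h⟩)
    · exact Or.inr ⟨hy, h⟩
  · rintro ((((rfl | h) | h) | h) | h)
    exacts [hx, h.1, h.1, h.1, h.1]

end Cfsg.Agent.S1641
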