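import Cfsg.Statements.S1643
import Cfsg.Agent.Lib.Small.MathSub

set_option autoImplicit false
open scoped Pointwise
open Cfsg

namespace Cfsg.Agent.S1643

open Subgroup MulAction Cfsg.Lib.Small Cfsg.Lib.Golay Cfsg.Spor
open scoped Pointwise
set_option maxRecDepth 100000

def cU : ℕ := 0x171513110f0d0b0907050301161412100e0c0a0806040200
def t0 : ℕ := 0x1704140f00100a0b090e1513110d070312050c0802010616
def u2 : (ZMod 23)ˣ := Units.mkOfMulEqOne 2 12 (by decide)

def mulL : (ZMod 23)ˣ →* Equiv.Perm GolayPt :=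
  MonoidHom.mk' (fun u => Equiv.optionCongr (Units.mulLeft u)) fun u v => Equiv.ext fun x => by
    cases x <;> simp [mul_assoc]

theorem dec_cU : gc.dec cU = mulL u2 := (Coding.dec_eq_of (by decide +kernel) (by decide +kernel)).2

theorem Coding.inH_gen_mem {gs : List ℕ} {g : ℕ} (h : g ∈ gs) : gc.dec g ∈ gc.gen gs :=
  Subgroup.subset_closure ⟨g, h, rfl⟩

theorem clos_eq (T : Set (Equiv.Perm GolayPt)) (gs : List ℕ) (h : ∀ σ, σ ∈ T ↔ ∃ g ∈ gs, gc.dec g = σ) :
    closure (T ∪ {g : Equiv.Perm GolayPt | ∃ u : (ZMod 23)ˣ, IsSquare u ∧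
      g = Equiv.optionCongr (Units.mulLeft u)}) = gc.gen (cU :: gs) := by
  refine le_antisymm ((Subgroup.closure_le _).2 ?_) (Subgroup.closure_mono ?_)
  · rintro σ (hσ | ⟨_, ⟨r, rfl⟩, rfl⟩)
    · obtain ⟨g, hg, e⟩ := (h σ).1 hσ
      exact Subgroup.subset_closure ⟨g, List.mem_cons_of_mem _ hg, e⟩
    · obtain ⟨k, hk⟩ := (by decide : ∀ x : ZMod 23, x ≠ 0 → ∃ k : Fin 11, x * x = 2 ^ (k : ℕ)) r
        fun h => absurd (h ▸ r.mul_inv : (0 : ZMod 23) * _ = 1) (by rw [zero_mul]; decide)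
      rw [show r * r = u2 ^ (k : ℕ) from Units.ext (by rw [Units.val_mul, hk, Units.val_pow_eq_pow_val]; rfl)]
      show mulL _ ∈ _
      rw [map_pow, ← dec_cU]
      exact pow_mem (Coding.inH_gen_mem List.mem_cons_self) _
  · rintro _ ⟨g, hg, rfl⟩
    rcases List.mem_cons.1 hg with rfl | hg
    · exact Or.inr ⟨u2, ⟨Units.mkOfMulEqOne 5 14 (by decide), Units.ext (by decide)⟩, dec_cU⟩
    · exact Or.inl ((h _).2 ⟨g, hg, rfl⟩)

theorem inH_M23 {gs : List ℕ} (h : allL gs inM24 = true) (h2 : allL gs (fun g => Nat.beq (app g 23) 23) = true) :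
    ∀ g ∈ gs, gc.InH M23 g := inH_inf_pt (inH_of_allL h) 23 (by decide) h2

theorem inH_N : ∀ g ∈ [cU, cA], gc.InH M23 g := inH_M23 (by decide +kernel) (by decide +kernel)
theorem inH_L : ∀ g ∈ [cU, cA, cG], gc.InH M24 g := inH_of_allL (by decide +kernel)
theorem card_N : Nat.card (gc.gen [cU, cA]) = 253 :=
  Coding.card_gen (fun g hg => (inH_N g hg).1) (M := 251) (d := 8) (a := 5) (by decide +kernel)
theorem card_L : Nat.card (gc.gen [cU, cA, cG]) = 6072 :=
  Coding.card_gen (fun g hg => (inH_L g hg).1) (M := 4093) (d := 12) (a := 96) (by decide +kernel)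

theorem cent_le {t : ℕ} (ht : gc.Valid t)
    (h : allN 7 (fun i => anyN 11 fun k => Nat.beq (app (powN gc.n t k) 0) i) = true) :
    Nat.card ↥(M23 ⊓ centralizer {gc.dec t}) ≤ 23 := by
  have := card_le_orbit_mul (K := M23 ⊓ centralizer {gc.dec t}) (L := ⊥) (gc.pt 0) (Finset.univ.erase none)
    (fun g hg => Finset.mem_erase.2 ⟨fun e => absurd (g.injective (e.trans (mem_M23.1 hg.1).2.symm))
      (by decide), Finset.mem_univ _⟩) fun g hg e => eq_one_of_fix_base (M23_le hg.1) fun i hi => by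
    obtain ⟨k, -, hk⟩ := anyN_iff.1 (allN_iff.1 h i hi)
    rw [← Nat.eq_of_beq_eq_true hk, ← (ht.powN k).1.dec_pt (by decide), (ht.powN k).2]
    exact fix_of_comm (Commute.pow_left (mem_centralizer_iff.1 hg.2 _ rfl) k).eq e
  rwa [Finset.card_erase_of_mem (Finset.mem_univ _), Finset.card_univ, card_golayPt, card_bot] at this

theorem nrm {t p d : ℕ} (ht : gc.InH M23 t) (hp : p.Prime) (ho : orderOf (gc.dec t) = p)
    (h : allN 7 (fun i => anyN 11 fun k => Nat.beq (app (powN gc.n t k) 0) i) = true) (h2 : ¬ p * p ∣ 10200960)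
    (h3 : ∀ m ∈ Nat.divisors (p - 1), ∀ c ∈ Finset.Icc 1 23, c % p = 0 → 10200960 / (m * c) % p = 1 → m * c = d)
    {x : Equiv.Perm GolayPt} (hx : x ∈ M23) (hx' : orderOf x = p) :
    Nat.card ↥(M23 ⊓ normalizer (zpowers x : Set (Equiv.Perm GolayPt))) = d := by
  obtain ⟨n, hn, h4⟩ := syl_cnt M23 hp (by rwa [card_M23])
  obtain ⟨m, hm, h5⟩ := norm_cnt M23 hp ho
  have h6 := h4 _ ht.2 ho
  have h7 := h3 m (Nat.mem_divisors.2 ⟨hm, by have := hp.two_le; omega⟩) _
    (Finset.mem_Icc.2 ⟨Nat.card_pos, cent_le ht.1 h⟩) (Nat.mod_eq_zero_of_dvd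
    (ho ▸ order_dvd ⟨ht.2, mem_centralizer_iff.2 fun _ h => by rw [h]⟩)) (by
      rw [← h5, ← card_M23, h6, Nat.mul_div_cancel _ Nat.card_pos, hn])
  rw [h5, h7, h4 x hx hx'] at h6
  exact Nat.eq_of_mul_eq_mul_left (Nat.pos_of_ne_zero (by rintro rfl; simp at hn)) h6

theorem arith {n k n1 n2 d : ℕ} (hk : n = 253 * k) (h3 : n ∣ 10200960) (a1 : n1 % 23 = 1) (a3 : n = n1 * 253)
    (b1 : n2 % 11 = 1) (b3 : n = n2 * d) (b4 : d ∣ 55) : n = 253 ∨ n = 10200960 := by
  have h4 : k ∣ 40320 := Nat.dvd_of_mul_dvd_mul_left (by norm_num : 0 < 253) (hk ▸ h3)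
  have h5 := (by decide +kernel : ∀ k ∈ Nat.divisors 40320, k % 23 = 1 → ∀ d ∈ Nat.divisors 55,
    253 * k / d % 11 = 1 → 253 * k % d = 0 → k = 1 ∨ k = 40320) k (Nat.mem_divisors.2 ⟨h4, by norm_num⟩)
    (by omega) d (Nat.mem_divisors.2 ⟨b4, by norm_num⟩) (by
      rw [← hk, b3, Nat.mul_div_cancel _ (Nat.pos_of_dvd_of_pos b4 (by norm_num)), b1])
    (by rw [← hk, b3, Nat.mul_mod_left])
  omega

theorem hU : gc.InH M23 cU := inH_N cU List.mem_cons_self
theorem hA : gc.InH M23 cA := inH_N cA (List.mem_cons_of_mem _ List.mem_cons_self)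
theorem oU : orderOf (gc.dec cU) = 11 := hU.1.orderOf_eq (by norm_num) (by decide +kernel)
theorem oA : orderOf (gc.dec cA) = 23 := hA.1.orderOf_eq (by norm_num) (by decide +kernel)
theorem h0 : gc.InH M23 t0 := inH_M23 (gs := [t0]) (by decide +kernel) (by decide +kernel) t0 List.mem_cons_self
theorem nA : Nat.card ↥(M23 ⊓ normalizer (zpowers (gc.dec cA) : Set (Equiv.Perm GolayPt))) = 253 :=
  nrm hA (by norm_num) oA (by decide +kernel) (by norm_num) (by decide +kernel) hA.2 oA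
theorem nU : Nat.card ↥(M23 ⊓ normalizer (zpowers (gc.dec cU) : Set (Equiv.Perm GolayPt))) = 55 :=
  nrm h0 (p := 11) (by norm_num) (h0.1.orderOf_eq (by norm_num) (by decide +kernel))
    (by decide +kernel) (by norm_num) (by decide +kernel) hU.2 oU

theorem N_le : gc.gen [cU, cA] ≤ normalizer (zpowers (gc.dec cA) : Set (Equiv.Perm GolayPt)) := by
  refine Coding.gen_le fun g hg => ⟨(inH_N g hg).1, ?_⟩
  simp only [List.mem_cons, List.not_mem_nil, or_false] at hg
  rcases hg with rfl | rfl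
  · refine mem_normalizer_fintype ?_
    rintro _ ⟨k, rfl⟩
    have e : gc.dec cU * gc.dec cA * (gc.dec cU)⁻¹ = gc.dec cA * gc.dec cA := by
      rw [← (hU.1.conj hA.1).2, ← hA.1.dec_mul hA.1]; exact congrArg _ (by decide +kernel)
    rw [← conj_zpow, e]
    exact zpow_mem (mul_mem (mem_zpowers _) (mem_zpowers _)) k
  · exact le_normalizer (mem_zpowers _)

theorem maxN' {G : Type*} [Group G] [Finite G] {N H M : Subgroup G} (h1 : N ≤ H) (h2 : H ≤ M) {a u : G}
    (ha : a ∈ N) (hu : u ∈ N) (oa : orderOf a = 23) (ou : orderOf u = 11) (cN : Nat.card N = 253)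
    (cM : Nat.card M = 10200960) (na : Nat.card ↥(M ⊓ normalizer (zpowers a : Set G)) = 253)
    (nu : Nat.card ↥(M ⊓ normalizer (zpowers u : Set G)) = 55) (hN : N ≤ normalizer (zpowers a : Set G)) :
    Nat.card H = 253 ∨ Nat.card H = 10200960 := by
  have h3 := card_dvd_of_le h2
  obtain ⟨k, hk⟩ := card_dvd_of_le h1
  rw [cM] at h3
  rw [cN] at hk
  obtain ⟨n1, a1, a2⟩ := syl_cnt H (p := 23) (by norm_num) fun h => absurd (h.trans h3) (by norm_num)
  obtain ⟨n2, b1, b2⟩ := syl_cnt H (p := 11) (by norm_num) fun h => absurd (h.trans h3) (by norm_num)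
  have a3 := a2 _ (h1 ha) oa
  have b3 := b2 _ (h1 hu) ou
  have b4 := (card_dvd_of_le (inf_le_inf_right (normalizer (zpowers u : Set G)) h2)).trans nu.dvd
  rw [le_antisymm ((card_le_of_le (inf_le_inf_right _ h2)).trans na.le) (cN.ge.trans (card_le_of_le
      (le_inf h1 hN)))] at a3
  exact arith hk h3 a1 a3 b1 b3 b4

theorem maxN {H : Subgroup (Equiv.Perm GolayPt)} (h1 : gc.gen [cU, cA] ≤ H) (h2 : H ≤ M23) :
    Nat.card H = 253 ∨ Nat.card H = 10200960 :=
  maxN' h1 h2 (Coding.inH_gen_mem (List.mem_cons_of_mem _ List.mem_cons_self))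
    (Coding.inH_gen_mem List.mem_cons_self) oA oU card_N card_M23 nA nU N_le

/-- PSL(2, 23) = ⟨t ↦ t+1, t ↦ u t (u square), t ↦ −1/t⟩ is maximal of order 6072 in the group of the length-24 code, and its point stabiliser 23:11 (order 253) is maximal in the Mathieu group of degree 23. -/
theorem result : (Subgroup.closure ({Equiv.optionCongr (Equiv.addRight (1 : ZMod 23)), Cfsg.projInv} ∪ {g : Equiv.Perm Cfsg.GolayPt | ∃ u : (ZMod 23)ˣ, IsSquare u ∧ g = Equiv.optionCongr (Units.mulLeft u)}) ≤ Cfsg.M24 ∧ Nat.card ↥(Subgroup.closure ({Equiv.optionCongr (Equiv.addRight (1 : ZMod 23)), Cfsg.projInv} ∪ {g : Equiv.Perm Cfsg.GolayPt | ∃ u : (ZMod 23)ˣ, IsSquare u ∧ g = Equiv.optionCongr (Units.mulLeft u)})) = 6072 ∧ IsCoatom ((Subgroup.closure ({Equiv.optionCongr (Equiv.addRight (1 : ZMod 23)), Cfsg.projInv} ∪ {g : Equiv.Perm Cfsg.GolayPt | ∃ u : (ZMod 23)ˣ, IsSquare u ∧ g = Equiv.optionCongr (Units.mulLeft u)})).subgroupOf Cfsg.M24))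 ∧ (Subgroup.closure ({Equiv.optionCongr (Equiv.addRight (1 : ZMod 23))} ∪ {g : Equiv.Perm Cfsg.GolayPt | ∃ u : (ZMod 23)ˣ, IsSquare u ∧ g = Equiv.optionCongr (Units.mulLeft u)}) ≤ Cfsg.M24 ⊓ MulAction.stabilizer (Equiv.Perm Cfsg.GolayPt) (none : Cfsg.GolayPt) ∧ Nat.card ↥(Subgroup.closure ({Equiv.optionCongr (Equiv.addRight (1 : ZMod 23))} ∪ {g : Equiv.Perm Cfsg.GolayPt | ∃ u : (ZMod 23)ˣ, IsSquare u ∧ g = Equiv.optionCongr (Units.mulLeft u)})) = 253 ∧ IsCoatom (((Subgroup.closure ({Equiv.optionCongr (Equiv.addRight (1 : ZMod 23))} ∪ {g : Equiv.Perm Cfsg.GolayPt | ∃ u : (ZMod 23)ˣ, IsSquare u ∧ g = Equiv.optionCongr (Units.mulLeft u)})).subgroupOf Cfsg.M24).subgroupOf (MulAction.stabilizer Cfsg.M24 (none : Cfsg.GolayPt)))) := by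
  rw [clos_eq _ [cA, cG] (by simp [dec_cA, dec_cG, eq_comm]), clos_eq _ [cA] (by simp [dec_cA, eq_comm])]
  have hL := Coding.gen_le inH_L
  have hN := Coding.gen_le inH_N
  refine ⟨⟨hL, card_L, ConjTo.isCoatom (σ := 1) ⟨one_mem _, hL, fun g => by simp [mem_subgroupOf]⟩
    (fun h => absurd (h ▸ card_L : Nat.card M24 = 6072) (by rw [card_M24]; norm_num)) fun X h1 h2 => ?_⟩,
    hN, card_N, ?_⟩
  · have h3 := card_eq_orbit_mul X (gc.pt 23)
    have h4 := (stab_pt_cert rfl (Coding.inH_gen fun g hg => (inH_L g hg).1) 23 (by decide) (n := 24) (N := 253)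
      card_L (by decide +kernel)).1
    have h5 := Set.ncard_le_ncard (orbit_mono h1.le (gc.pt 23))
    have h6 := Set.ncard_le_card (orbit X (gc.pt 23))
    rw [Nat.card_eq_fintype_card, card_golayPt] at h6
    rw [show (orbit X (gc.pt 23)).ncard = 24 by omega] at h3
    rcases maxN (H := X ⊓ stabilizer _ (gc.pt 23)) (le_inf (le_trans (Coding.gen_le fun g hg =>
      ⟨(inH_N g hg).1, Coding.inH_gen_mem ((by decide : ∀ g ∈ [cU, cA], g ∈ [cU, cA, cG]) g hg)⟩) h1.le) (hN.trans inf_le_right))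
      (inf_le_inf_right _ h2) with h | h <;> rw [h] at h3
    · exact absurd (eq_of_le_of_card_ge h1.le (by rw [h3, card_L])) h1.ne
    · exact (eq_of_le_of_card_ge h2 (by rw [h3, card_M24])).ge
  have c1 : Nat.card (((gc.gen [cU, cA]).subgroupOf M24).subgroupOf (stabilizer M24 (none : GolayPt))) = 253 := by
    rw [Nat.card_congr (subgroupOfEquivOfLe (H := (gc.gen [cU, cA]).subgroupOf M24)
      (K := stabilizer M24 (none : GolayPt)) fun g hg => (hN hg).2).toEquiv,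
      Nat.card_congr (subgroupOfEquivOfLe (hN.trans M23_le)).toEquiv, card_N]
  have c2 : Nat.card (stabilizer M24 (none : GolayPt)) = 10200960 :=
    (card_of_map_subtype _ (map_subtype_stabilizer M24 none)).trans card_M23
  refine ⟨fun h => absurd (h ▸ c1) (by rw [card_top, c2]; norm_num), fun X hX => ?_⟩
  have h1 := maxN (H := (X.map (stabilizer M24 (none : GolayPt)).subtype).map M24.subtype)
    (fun g hg => ⟨⟨g, M23_le (hN hg)⟩, ⟨⟨_, (hN hg).2⟩, hX.le (by exact hg), rfl⟩, rfl⟩)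
    (by rintro _ ⟨_, ⟨k, -, rfl⟩, rfl⟩; exact ⟨k.1.2, k.2⟩)
  rw [card_map_of_injective M24.subtype_injective, card_map_of_injective (subtype_injective _)] at h1
  rcases h1 with h | h
  · exact absurd (eq_of_le_of_card_ge hX.le (by rw [h, c1])) hX.ne
  · exact eq_top_of_card_eq _ (h.trans c2.symm)

end Cfsg.Agent.S1643
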