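import Cfsg.Statements.S1644
import Cfsg.Agent.Lib.JR.J1

set_option autoImplicit false
open Cfsg

namespace Cfsg.Agent.S1644


/-- The first Janko group recognised by an involution centraliser, at the level of isomorphism: a finite simple group with abelian Sylow 2-subgroups of order 8 and an involution whose centraliser is isomorphic to Z/2 × A₅ is isomorphic to the subgroup of GL(7, 11) generated by the two explicit Janko matrices. -/
theorem result {G : Type*} [Group G] [Finite G] [IsSimpleGroup G] (S : Sylow 2 G) (hS : IsMulCommutative (S : Subgroup G)) (h8 : Nat.card S = 8) (t : G) (ht : orderOf t = 2) (e : (Subgroup.centralizer ({t} : Set G)) ≃* Multiplicative (ZMod 2) × alternatingGroup (Fin 5)) : Cfsg.Spor.IsoJ1 G := by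
  obtain ⟨g, hg⟩ := Cfsg.Lib.Invol.exists_conj_two_mem_sylow S ht
  have h1 : Cfsg.IsTwoCentralInvolution t := by
    refine ⟨ht, g⁻¹ • S, Cfsg.Lib.Invol.mem_smul_sylow.2 (by simpa using hg), fun x hx => ?_⟩
    have h2 := Cfsg.Lib.Invol.commute_conj g⁻¹ (Cfsg.Lib.Invol.commute_of_mulComm hS
      (Cfsg.Lib.Invol.mem_smul_sylow.1 hx) hg)
    have h3 : Commute x t := by simpa [mul_assoc] using h2
    exact h3.eq
  obtain ⟨F, j⟩ := Cfsg.Lib.JR.jz_of_equiv ht (Cfsg.Lib.JR.odd_index_of_two_central h1) e
  exact j.isoJ1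

end Cfsg.Agent.S1644
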