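import Cfsg.Statements.S1682
import Cfsg.Agent.Lib.Comp.He.Sub
import Cfsg.Agent.Lib.Comp.S44x.Mat
import Cfsg.Agent.Lib.Comp.J3x.Mat

set_option autoImplicit false
open Cfsg

namespace Cfsg.Agent.S1682

open Cfsg.Lib.Comp

/-- In the presented Held group, the subgroup H generated by the images of a, c, d, e, f, (ab)^2 and (bcde)^7 has a normal subgroup of index 2 isomorphic to the 4-dimensional symplectic group over a field with four elements. -/
theorem result : ∃ (N : Subgroup (((Subgroup.closure ({Cfsg.Spor.He.a, Cfsg.Spor.He.c, Cfsg.Spor.He.d, Cfsg.Spor.He.e, Cfsg.Spor.He.f, (Cfsg.Spor.He.a * Cfsg.Spor.He.b) ^ 2, (Cfsg.Spor.He.b * Cfsg.Spor.He.c * Cfsg.Spor.He.d * Cfsg.Spor.He.e) ^ 7} : Set (FreeGroup Cfsg.Spor.He.Gen))).map (PresentedGroup.mk (Cfsg.Spor.coxRelators Cfsg.Spor.He.edges ∪ {r | r ∈ Cfsg.Spor.He.extra}))))) (K : Type) (_ : Field K) (_ : Fintype K), N.Normal ∧ N.index = 2 ∧ Fintype.card K = 4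 ∧ Nonempty (N ≃* Matrix.symplecticGroup (Fin 2) K) := by
  obtain ⟨f, hf, h1, h2, -⟩ := He.ok.action He.hall
    (T := {Spor.He.a, Spor.He.c, Spor.He.d, Spor.He.e, Spor.He.f, (Spor.He.a * Spor.He.b) ^ 2,
      (Spor.He.b * Spor.He.c * Spor.He.d * Spor.He.e) ^ 7})
    [Spor.He.a, Spor.He.c, Spor.He.d, Spor.He.e, Spor.He.f, (Spor.He.a * Spor.He.b) ^ 2,
      (Spor.He.b * Spor.He.c * Spor.He.d * Spor.He.e) ^ 7]
    (by ext; simp) (by decide +kernel)
    (He.U_idx.of_cons (cons_of_subset (by decide +kernel))) He.nets_ok He.nets_iv He.nets_rel He.U_act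
  obtain ⟨e1⟩ := He.s44_iso
  obtain ⟨e2⟩ := S44x.iso J3x.card_K4
  have : Finite Spor.He := Nat.finite_of_card_ne_zero (by rw [He.main.2]; norm_num)
  obtain ⟨N, hN, ⟨e3⟩⟩ := sub_stab (c := 2) (inj_of_trans He.main.1 h1 (by norm_num)) h1
    (He.s44_le.trans (range_of_gen (He.ok.top He.hall) hf).ge) He.s44_fix
    (by rw [← Nat.card_congr e1.toEquiv, S44x.card]; exact He.main.2) (MulEquiv.subgroupCongr h2.symm)
  exact ⟨N, _, _, _, Subgroup.normal_of_index_eq_two hN, hN, J3x.card_K4, ⟨e3.trans (e1.symm.trans e2)⟩⟩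

end Cfsg.Agent.S1682
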