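import Cfsg.Statements.S1666
import Cfsg.Agent.Lib.Leech.Simple
import Cfsg.Agent.Lib.Golay.SRG
import Cfsg.Agent.Lib.Rank3.Gen

set_option autoImplicit false
open Cfsg

namespace Cfsg.Agent.S1666

open Subgroup MulAction Cfsg.Lib Cfsg.Lib.Golay Cfsg.Lib.Rk3
open scoped Pointwise

theorem srg_trace {V : Type*} [Fintype V] [DecidableEq V] {Γ : SimpleGraph V} [DecidableRel Γ.Adj] {l m : ℕ}
    (h : Γ.IsSRGWith 100 22 l m) (α β γ : ℚ) (h1 : α * α * (l - m) + 2 * α * β = α)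
    (h2 : α * α * (22 - m) + β * β = β) (h3 : α * α * m + 100 * γ * γ + 44 * α * γ + 2 * β * γ = γ) :
    ∃ n : ℕ, 100 * β + 100 * γ = n := by
  set A := Γ.adjMatrix ℚ
  set J : Matrix V V ℚ := Matrix.of fun _ _ => 1 with hJ
  have a1 : A * A = ((22 : ℚ) - m) • (1 : Matrix V V ℚ) + ((l : ℚ) - m) • A + (m : ℚ) • J := by
    have e : Γᶜ.adjMatrix ℚ = J - 1 - A := by
      ext u v
      by_cases e : u = v
      · simp [e, hJ, A]
      · by_cases e' : Γ.Adj u v <;> simp [e, e', hJ, A]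
    rw [← pow_two, h.matrix_eq, e]
    simp only [← Nat.cast_smul_eq_nsmul ℚ]
    module
  have a2 : A * J = (22 : ℚ) • J := by
    ext u v; simp [A, hJ, h.regular u]
  have a3 : J * A = (22 : ℚ) • J := by
    ext u v; simp [A, hJ, h.regular v]
  have a4 : J * J = (100 : ℚ) • J := by
    ext u v; simp [hJ, Matrix.mul_apply, h.card]
  have e : (α • A + β • 1 + γ • J) * (α • A + β • 1 + γ • J) = α • A + β • 1 + γ • J := by
    simp only [add_mul, mul_add, smul_mul_assoc, mul_smul_comm, a1, a2, a3, a4, one_mul, mul_one]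
    match_scalars <;> linarith
  have := ((LinearMap.isProj_range_iff_isIdempotentElem (Matrix.toLin' (α • A + β • 1 + γ • J))).2
    (by rw [IsIdempotentElem, Module.End.mul_eq_comp, ← Matrix.toLin'_mul, e])).trace
  rw [Matrix.trace_toLin'_eq] at this
  refine ⟨_, Eq.trans ?_ this⟩
  simp [A, hJ, Matrix.trace, h.card, Finset.sum_add_distrib]

theorem srg_param {V : Type*} [Fintype V] [DecidableEq V] {Γ : SimpleGraph V} [DecidableRel Γ.Adj] {l m : ℕ}
    (h : Γ.IsSRGWith 100 22 l m) {a b : V} (hab : Γ.Adj a b) : l = 0 ∧ m = 6 := by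
  have h1 := h.param_eq _ (by norm_num)
  have h2 := hab.card_commonNeighbors_lt_degree
  rw [h.of_adj a b hab, h.regular a] at h2
  rcases (by omega : (l = 0 ∧ m = 6) ∨ (l = 7 ∧ m = 4) ∨ (l = 14 ∧ m = 2) ∨ (l = 21 ∧ m = 0)) with
    e | ⟨rfl, rfl⟩ | ⟨rfl, rfl⟩ | ⟨rfl, rfl⟩
  · exact e
  · obtain ⟨n, hn⟩ := srg_trace h (1 / 9) (1 / 3) (-1 / 36) (by norm_num) (by norm_num) (by norm_num)
    have : (275 : ℚ) = 9 * n := by linarith
    have : 275 = 9 * n := by exact_mod_cast this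
    omega
  · have c : ∀ u v, Γ.Adj u v → (cnb Γ u v).card = 14 := fun u v e => by rw [← card_cnb, h.of_adj u v e]
    have s : ∀ v, cnb Γ a v ⊆ Γ.neighborFinset a := fun v z hz => by simpa using (mem_cnb.1 hz).1
    have d : (Γ.neighborFinset a).card = 22 := h.regular a
    obtain ⟨x, hx, hx'⟩ := Finset.exists_mem_notMem_of_card_lt_card (s := insert b (cnb Γ a b))
      (t := Γ.neighborFinset a) ((Finset.card_insert_le _ _).trans_lt (by rw [c a b hab, d]; norm_num))
    rw [SimpleGraph.mem_neighborFinset] at hx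
    rw [Finset.mem_insert, not_or, mem_cnb] at hx'
    have h3 := h.of_not_adj (Ne.symm hx'.1) fun e => hx'.2 ⟨hx, e⟩
    have h4 := Finset.card_le_card (Finset.union_subset (s b) (s x))
    have h5 := Finset.card_union_add_card_inter (cnb Γ a b) (cnb Γ a x)
    have h6 : (cnb Γ a b ∩ cnb Γ a x).card ≤ (cnb Γ b x).card := Finset.card_le_card fun z hz =>
      mem_cnb.2 ⟨(mem_cnb.1 (Finset.mem_inter.1 hz).1).2, (mem_cnb.1 (Finset.mem_inter.1 hz).2).2⟩
    rw [card_cnb] at h3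
    rw [c a b hab, c a x hx] at h5
    omega
  · obtain ⟨n, hn⟩ := srg_trace h (1 / 23) (1 / 23) 0 (by norm_num) (by norm_num) (by norm_num)
    have : (100 : ℚ) = 23 * n := by linarith
    have : 100 = 23 * n := by exact_mod_cast this
    omega

theorem graph {K Ω : Type*} [Group K] [Finite K] [MulAction K Ω] [Fintype Ω] [DecidableEq Ω]
    [IsPretransitive K Ω] (hΩ : Fintype.card Ω = 100) {a b c : Ω} (hb : (orbit (stabilizer K a) b).ncard = 22)
    (hc : (orbit (stabilizer K a) c).ncard = 77) : ∃ (Γ : SimpleGraph Ω) (k : Coding Ω), k.n = 100 ∧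
      Rows k Γ hsRow ∧ ∀ g : K, toPerm g ∈ autG Γ := by
  classical
  have h0 := orbit_cases (A := stabilizer K a) (fun _ h => h) hb hc (by norm_num) (by norm_num) (by norm_num) hΩ
  have hab : b ≠ a := by
    rintro rfl
    rw [orbit_eq_singleton_of_fix le_rfl] at hb; simp at hb
  obtain ⟨t, t1, t2⟩ := exists_swap h0 hab fun e => by
    have e1 := card_eq_orbit_mul (stabilizer K a) b
    have e2 := card_eq_orbit_mul (stabilizer K a) c
    have := Nat.card_pos (α := ↥(stabilizer K a ⊓ stabilizer K c))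
    rw [hb, e] at e1
    rw [hc] at e2
    omega
  let Γ : SimpleGraph Ω :=
    { Adj := fun u v => ∃ g : K, g • a = u ∧ g • b = v
      symm := ⟨by
        rintro _ _ ⟨g, rfl, rfl⟩
        exact ⟨g * t, by rw [mul_smul, t1], by rw [mul_smul, t2]⟩⟩
      loopless := ⟨by
        rintro _ ⟨g, rfl, e⟩
        exact hab (smul_left_cancel g e)⟩ }
  have hi : ∀ (g : K) u v, Γ.Adj (g • u) (g • v) ↔ Γ.Adj u v := fun g u v =>
    ⟨fun ⟨k, e1, e2⟩ => ⟨g⁻¹ * k, by rw [mul_smul, e1, inv_smul_smul], by rw [mul_smul, e2, inv_smul_smul]⟩,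
      fun ⟨k, e1, e2⟩ => ⟨g * k, by rw [mul_smul, e1], by rw [mul_smul, e2]⟩⟩
  have hn : ∀ (g : K) u v, Fintype.card (Γ.commonNeighbors (g • u) (g • v)) = Fintype.card (Γ.commonNeighbors u v) :=
    fun g u v => (Fintype.card_congr ((toPerm g).subtypeEquiv fun z =>
      (and_congr (hi g u z) (hi g v z)).symm)).symm
  have ha : ∀ v, Γ.Adj a v ↔ v ∈ orbit (stabilizer K a) b := fun v =>
    ⟨fun ⟨g, e1, e2⟩ => ⟨⟨g, e1⟩, e2⟩, fun ⟨g, e⟩ => ⟨g, g.2, e⟩⟩
  have h : Γ.IsSRGWith 100 22 (Fintype.card (Γ.commonNeighbors a b)) (Fintype.card (Γ.commonNeighbors a c)) := by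
    refine ⟨hΩ, fun u => ?_, ?_, fun u v huv h => ?_⟩
    · obtain ⟨g, rfl⟩ := exists_smul_eq K a u
      rw [← SimpleGraph.card_neighborSet_eq_degree, ← hb, ← Nat.card_eq_fintype_card]
      exact (Nat.card_congr ((toPerm g).subtypeEquiv
        (p := (· ∈ orbit (stabilizer K a) b)) fun z => (ha z).symm.trans (hi g a z).symm)).symm
    · rintro _ _ ⟨g, rfl, rfl⟩
      exact hn g a b
    · obtain ⟨g, rfl⟩ := exists_smul_eq K a u
      obtain ⟨v, rfl⟩ := exists_eq_smul g v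
      rcases h0 v with rfl | e | ⟨k, rfl⟩
      · exact absurd rfl huv
      · exact absurd ((hi g a v).2 ((ha v).2 e)) h
      · rw [hn, ← hn (k : K) a c, show (k : K) • a = a from k.2]; rfl
  obtain ⟨e1, e2⟩ := srg_param h ⟨1, one_smul _ _, one_smul _ _⟩
  rw [e1, e2] at h
  obtain ⟨k, k1, k2⟩ := srg_hs_rows h
  exact ⟨Γ, k, k1, k2, hi⟩

theorem iso {K Ω : Type*} [Group K] [Fintype Ω] [DecidableEq Ω] {Γ : SimpleGraph Ω} {k : Coding Ω}
    (k1 : k.n = 100) (k2 : Rows k Γ hsRow) (f : K →* Equiv.Perm Ω) (hf : Function.Injective f)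
    (h : ∀ g, f g ∈ autG Γ) (hK : Nat.card K = 44352000) : Nonempty (K ≃* ↥(autG Γ ⊓ alternatingGroup Ω)) := by
  have h1 : f.range ≤ autG Γ := by rintro _ ⟨g, rfl⟩; exact h g
  have h2 : Nat.card f.range = 44352000 := by rw [← Nat.card_congr (MonoidHom.ofInjective hf).toEquiv, hK]
  have h3 : f.range.relIndex (autG Γ) = 2 := by
    have := (f.range.subgroupOf (autG Γ)).card_mul_index
    rw [Nat.card_congr (subgroupOfEquivOfLe h1).toEquiv, h2, card_autG_hs k1 k2] at this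
    unfold relIndex; omega
  haveI := simple_hs k1 k2
  have h4 : autG Γ ⊓ alternatingGroup Ω ≤ f.range := by
    have hn := normal_of_index_eq_two h3
    refine (le_of_isSimpleGroup (N := (autG Γ ⊓ alternatingGroup Ω) ⊓ f.range) inf_le_left (fun g hg n hn' =>
      ⟨Subgroup.mul_mem _ (Subgroup.mul_mem _ hg hn'.1) (Subgroup.inv_mem _ hg), hn.conj_mem ⟨n, hn'.1.1⟩ hn'.2 ⟨g, hg.1⟩⟩) fun e => ?_).trans
      inf_le_right
    have h5 := relIndex_le_of_le_right (H := f.range) (inf_le_left : autG Γ ⊓ alternatingGroup Ω ≤ _) (by omega)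
    rw [← inf_relIndex_right, inf_comm, e, relIndex_bot_left, card_hs k1 k2] at h5
    omega
  exact ⟨(MonoidHom.ofInjective hf).trans (MulEquiv.subgroupCongr (eq_of_le_of_card_ge h4
    (by rw [h2, card_hs k1 k2])).symm)⟩

theorem hs {G X : Type} [Group G] [Finite G] [MulAction G X] {sHS : Subgroup G} [IsSimpleGroup sHS] {T : Set X} {x : X}
    {c : X → ℤ} (R : Leech.RankData sHS T x c {-8, -16} fun d => if d = -8 then 22 else 77) (hT : T.ncard = 100) :
    ∃ (Ω : Type) (_ : Fintype Ω) (Γ : SimpleGraph Ω) (k : Coding Ω) (f : sHS →* Equiv.Perm Ω),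
    k.n = 100 ∧ Rows k Γ hsRow ∧ Function.Injective f ∧ ∀ g, f g ∈ autG Γ := by
  classical
  let S : SubMulAction sHS X := ⟨T, fun g y hy => R.inv g g.2 y hy⟩
  haveI : Fintype S := R.finite.fintype
  let a : S := ⟨_, R.mem⟩
  haveI : IsPretransitive sHS S := .of_orbit (x₀ := a) fun y => by
    obtain ⟨g, hg, e⟩ := R.tr y y.2
    exact ⟨⟨g, hg⟩, Subtype.ext e⟩
  have o : ∀ d ∈ ({-8, -16} : Finset ℤ), ∃ b : S,
      (orbit (stabilizer sHS a) b).ncard = if d = -8 then 22 else 77 := fun d hd => by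
    have h1 := R.card d hd
    obtain ⟨b, b1, b2, b3⟩ := Set.nonempty_of_ncard_ne_zero (h1.trans_ne (by split_ifs <;> norm_num))
    refine ⟨⟨b, b1⟩, Eq.trans ?_ h1⟩
    rw [← Set.ncard_image_of_injective _ Subtype.val_injective]
    congr 1
    ext y
    constructor
    · rintro ⟨_, ⟨g, rfl⟩, rfl⟩
      have e : (g.1 : G) • x = x := congrArg Subtype.val g.2
      exact ⟨R.inv _ g.1.2 b b1, fun h => b2 (smul_left_cancel _ (Eq.trans h e.symm)),
        (R.cinv _ g.1.2 e b b1).trans b3⟩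
    · rintro ⟨y1, y2, y3⟩
      obtain ⟨g, hg, e1, e2⟩ := R.sub b b1 y y1 b2 y2 (b3.trans y3.symm)
      exact ⟨⟨y, y1⟩, ⟨⟨⟨g, hg⟩, Subtype.ext e1⟩, Subtype.ext e2⟩, rfl⟩
  obtain ⟨b, hb⟩ := o (-8) (by simp)
  obtain ⟨c, hc⟩ := o (-16) (by simp)
  obtain ⟨Γ, k, k1, k2, k3⟩ := graph (K := sHS) (by
    rw [← Nat.card_eq_fintype_card]; exact hT) hb hc
  refine ⟨S, inferInstance, Γ, k, toPermHom sHS S, k1, k2, ?_, k3⟩
  rcases (toPermHom sHS S).normal_ker.eq_bot_or_eq_top with e | e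
  · exact (MonoidHom.ker_eq_bot_iff _).1 e
  · rw [orbit_eq_singleton_of_fix fun g _ => Equiv.congr_fun (show g ∈ (toPermHom sHS S).ker from e ▸ mem_top g) b]
      at hb
    simp at hb

/-- Recognition of the Higman–Sims group as a rank 3 permutation group: a transitive permutation group on 100 points in which the stabiliser of a point is isomorphic to the Mathieu group M₂₂ and has two further orbits, of sizes 22 and 77, is isomorphic to the Higman–Sims group. -/
theorem result {Ω : Type*} [Fintype Ω] [DecidableEq Ω] (hΩ : Fintype.card Ω = 100) (G : Subgroup (Equiv.Perm Ω)) [MulAction.IsPretransitive G Ω] (a : Ω)  (e : MulAction.stabilizer G a ≃* Cfsg.Spor.M22) (b c : Ω) (hb : (MulAction.orbit (MulAction.stabilizer G a) b).ncard = 22) (hc : (MulAction.orbit (MulAction.stabilizer G a) c).ncard = 77) : Cfsg.Spor.IsoHS G := by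
  classical
  obtain ⟨Γ, k, k1, k2, k3⟩ := graph hΩ hb hc
  obtain ⟨Ω', _, Γ', k', f, l1, l2, l3, l4⟩ := @hs _ _ _ _ _ _ Leech.simple_sHS _ _ _ Leech.rank_HS
    Leech.orb552.2.2.2.2.2.1
  obtain ⟨φ⟩ := k2.iso l2 (k1.trans l1.symm)
  obtain ⟨e1⟩ := iso l1 l2 f l3 l4 Leech.card_sHS
  obtain ⟨e2⟩ := iso l1 l2 (φ.toEquiv.permCongrHom.toMonoidHom.comp G.subtype)
    (φ.toEquiv.permCongrHom.injective.comp G.subtype_injective) (fun g u v => by
      obtain ⟨u, rfl⟩ := φ.surjective u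
      obtain ⟨v, rfl⟩ := φ.surjective v
      have := k3 g u v
      rw [← φ.map_rel_iff, ← φ.map_rel_iff (a := u)] at this
      show Γ'.Adj (φ (g.1 (φ.symm (φ u)))) (φ (g.1 (φ.symm (φ v)))) ↔ _
      rw [φ.symm_apply_apply, φ.symm_apply_apply]
      exact this) (by
      rw [← (stabilizer G a).index_mul_card, index_stabilizer_of_transitive, Nat.card_eq_fintype_card, hΩ,
        Nat.card_congr e.toEquiv, card_M22])
  exact ⟨e2.trans (e1.symm.trans Leech.hsEquiv)⟩

end Cfsg.Agent.S1666
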