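import Cfsg.Statements.S1677
import Cfsg.Agent.Lib.Small.CoW4
import Cfsg.Agent.Lib.Small.CoG
import Cfsg.Agent.Lib.Small.CoQ
import Cfsg.Agent.Lib.Small.CoM
import Cfsg.Agent.Lib.Small.CoO
import Cfsg.Agent.Lib.Block.ZStar

set_option autoImplicit false
open Cfsg

namespace Cfsg.Agent.S1677

/-- The first Conway group from an involution centraliser: let G be a finite group with no non-trivial normal subgroup of odd order and trivial centre, and let t be an involution whose centraliser C is 2-constrained with O₂(C) extraspecial of order 2 ^ 9 and C / O₂(C) isomorphic to Ω⁺(8, 2), the commutator subgroup of the isometry group of the hyperbolic quadratic form in dimension 8 over the field with 2 elements. Then G is isomorphic to the first Conway group (the Leech lattice automorphism group modulo its centre). -/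
theorem result {G : Type*} [Group G] [Finite G] (hO : Cfsg.oddCore G = ⊥) (hZ : Subgroup.center G = ⊥) (t : G) (ht : orderOf t = 2) (hcon : Cfsg.IsPConstrained 2 (Subgroup.centralizer ({t} : Set G))) (hQ : Cfsg.IsExtraspecial 2 (Cfsg.pCore 2 (Subgroup.centralizer ({t} : Set G)))) (hcard : Nat.card (Cfsg.pCore 2 (Subgroup.centralizer ({t} : Set G))) = 2 ^ 9) (e : (Subgroup.centralizer ({t} : Set G)) ⧸ Cfsg.pCore 2 (Subgroup.centralizer ({t} : Set G)) ≃* Cfsg.Omega (ZMod 2) (Cfsg.quadFormPlus 4 (ZMod 2))) : Cfsg.Spor.IsoCo1 G := by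
  have e' := e.trans (Cfsg.Lib.Forms.omegaIso Cfsg.Lib.Small.Co1Z.D8 Cfsg.Lib.Forms.fPlus_Q)
  have hF := Cfsg.Lib.Small.CoW.fstar_of_con hcon e'
  have hi : ¬ Cfsg.IsIsolatedInvolution t := fun h => by
    have := Cfsg.Lib.Block.z_star_center hO h
    rw [hZ, Subgroup.mem_bot] at this
    simp [this] at ht
  exact (Cfsg.Lib.Small.CoU.glue Cfsg.Lib.Small.CoU.pres Cfsg.Lib.Small.CoU.inv3 Cfsg.Lib.Small.CoU.prod2
    Cfsg.Lib.Small.CoU.cent_w Cfsg.Lib.Small.CoU.onto t ht _ hF hQ hcard e
    (Cfsg.Lib.Small.CoW.nwc' ht hF hQ hcard e' hi)).1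

end Cfsg.Agent.S1677
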