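import Cfsg.Statements.S1679
import Cfsg.Agent.Lib.Comp.Suz.Sub
import Cfsg.Agent.Lib.Comp.G24x.Mat
import Cfsg.Agent.Lib.Comp.J3x.Mat

set_option autoImplicit false
open Cfsg

namespace Cfsg.Agent.S1679

open Cfsg.Lib.Comp

/-- In the presented sporadic Suzuki group (generators a, …, g), the subgroup generated by the images of a, …, f is isomorphic to the adjoint Chevalley group of type G₂ over a field with four elements. -/
theorem result : ∃ (K : Type) (_ : Field K) (_ : Fintype K), Fintype.card K = 4 ∧ Nonempty ((((Subgroup.closure ({Cfsg.Spor.Suz.a, Cfsg.Spor.Suz.b, Cfsg.Spor.Suz.c, Cfsg.Spor.Suz.d, Cfsg.Spor.Suz.e, Cfsg.Spor.Suz.f} : Set (FreeGroup Cfsg.Spor.Suz.Gen))).map (PresentedGroup.mk (Cfsg.Spor.coxRelators Cfsg.Spor.Suz.edges ∪ {r | r ∈ Cfsg.Spor.Suz.extra})))) ≃* Cfsg.Lie.chevG2.group K) := by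
  obtain ⟨f, hf, h1, h2, -⟩ := Suz.ok.action Suz.hall
    (T := {Spor.Suz.a, Spor.Suz.b, Spor.Suz.c, Spor.Suz.d, Spor.Suz.e, Spor.Suz.f})
    [Spor.Suz.a, Spor.Suz.b, Spor.Suz.c, Spor.Suz.d, Spor.Suz.e, Spor.Suz.f] (by ext; simp)
    (W := [1,2,3,4,5,6].map fun x => [x]) (by decide +kernel)
    (Suz.T0_idx.of_cons (cons_of_subset (by decide +kernel))) Suz.nets_ok Suz.nets_iv Suz.nets_rel
    (cnd_tt.2 ⟨(cnd_tt.1 Suz.simpleB).1, by decide +kernel⟩)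
  obtain ⟨e1⟩ := Suz.g24_iso
  obtain ⟨e2⟩ := G24x.iso J3x.card_K4
  have : Finite Spor.Suz := Nat.finite_of_card_ne_zero (by rw [Suz.main.2]; norm_num)
  obtain ⟨N, hN, ⟨e3⟩⟩ := sub_stab (c := 1) (inj_of_trans Suz.main.1 h1 (by norm_num)) h1
    (Suz.g24_le.trans (range_of_gen (Suz.ok.top Suz.hall) hf).ge) Suz.g24_fix
    (by rw [← Nat.card_congr e1.toEquiv, G24x.card]; exact Suz.main.2) (MulEquiv.subgroupCongr h2.symm)
  rw [Subgroup.index_eq_one] at hN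
  subst hN
  exact ⟨_, _, _, J3x.card_K4, ⟨Subgroup.topEquiv.symm.trans (e3.trans (e1.symm.trans e2))⟩⟩

end Cfsg.Agent.S1679
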