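import Cfsg.Statements.S1681
import Cfsg.Agent.Lib.Comp.Suz.Act

set_option autoImplicit false
open Cfsg

namespace Cfsg.Agent.S1681

open Cfsg.Lib.Comp

/-- In the presented sporadic Suzuki group (generators a, …, g), the subgroup generated by the images of a, b, c, d, f, g has index 22880. -/
theorem result : (((Subgroup.closure ({Cfsg.Spor.Suz.a, Cfsg.Spor.Suz.b, Cfsg.Spor.Suz.c, Cfsg.Spor.Suz.d, Cfsg.Spor.Suz.f, Cfsg.Spor.Suz.g} : Set (FreeGroup Cfsg.Spor.Suz.Gen))).map (PresentedGroup.mk (Cfsg.Spor.coxRelators Cfsg.Spor.Suz.edges ∪ {r | r ∈ Cfsg.Spor.Suz.extra})))).index = 22880 := by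
  obtain ⟨f, -, h1, h2, -⟩ := Suz.ok.action Suz.hall
    (T := {Spor.Suz.a, Spor.Suz.b, Spor.Suz.c, Spor.Suz.d, Spor.Suz.f, Spor.Suz.g})
    [Spor.Suz.a, Spor.Suz.b, Spor.Suz.c, Spor.Suz.d, Spor.Suz.f, Spor.Suz.g]
    (by ext; simp) (W := [1,2,3,4,6,7].map fun x => [x]) (by decide +kernel)
    (Suz.U_idx.of_cons (cons_of_subset (by decide +kernel))) Suz.U_n_ok Suz.U_n_iv
    (Suz.U_n_rel.mono (by decide +kernel)) Suz.U_act
  rw [h2, h1.index]

end Cfsg.Agent.S1681
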