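import Cfsg.Statements.S1685
import Cfsg.Agent.Lib.Comp.Fi22.Act

set_option autoImplicit false
open Cfsg

namespace Cfsg.Agent.S1685

open Cfsg.Lib.Comp

/-- In the presented Fischer group Fi₂₂ (generators a, …, i), the subgroup generated by the images of b, c, d, e, f, g, h, i has index 14080. -/
theorem result : (((Subgroup.closure ({Cfsg.Spor.Fi22.b, Cfsg.Spor.Fi22.c, Cfsg.Spor.Fi22.d, Cfsg.Spor.Fi22.e, Cfsg.Spor.Fi22.f, Cfsg.Spor.Fi22.g, Cfsg.Spor.Fi22.h, Cfsg.Spor.Fi22.i} : Set (FreeGroup Cfsg.Spor.Fi22.Gen))).map (PresentedGroup.mk (Cfsg.Spor.coxRelators Cfsg.Spor.Fi22.edges ∪ {r | r ∈ Cfsg.Spor.Fi22.extra})))).index = 14080 := by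
  obtain ⟨f, -, h1, h2, -⟩ := Fi22.ok.action Fi22.hall
    (T := {Spor.Fi22.b, Spor.Fi22.c, Spor.Fi22.d, Spor.Fi22.e, Spor.Fi22.f, Spor.Fi22.g, Spor.Fi22.h, Spor.Fi22.i})
    [Spor.Fi22.b, Spor.Fi22.c, Spor.Fi22.d, Spor.Fi22.e, Spor.Fi22.f, Spor.Fi22.g, Spor.Fi22.h, Spor.Fi22.i]
    (by ext; simp) (W := [2,3,4,5,6,7,8,9].map fun x => [x]) (by decide +kernel)
    (Fi22.T0_idx.of_cons (cons_of_subset (by decide +kernel))) Fi22.T0_n_ok Fi22.T0_n_iv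
    (Fi22.T0_n_rel.mono (by decide +kernel)) Fi22.T0_act
  rw [h2, h1.index]

end Cfsg.Agent.S1685
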