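import Cfsg.Statements.S1688
import Cfsg.Agent.Lib.Comp.Fi23.Two

set_option autoImplicit false
open Cfsg

namespace Cfsg.Agent.S1688

open Cfsg.Lib.Comp

/-- In the presented Fischer group Fi₂₃, the subgroup generated by the images of a, …, i is a non-split double cover of the presented Fischer group Fi₂₂. -/
theorem result : Cfsg.IsNonsplitDoubleCover (((Subgroup.closure ({Cfsg.Spor.Fi23.a, Cfsg.Spor.Fi23.b, Cfsg.Spor.Fi23.c, Cfsg.Spor.Fi23.d, Cfsg.Spor.Fi23.e, Cfsg.Spor.Fi23.f, Cfsg.Spor.Fi23.g, Cfsg.Spor.Fi23.h, Cfsg.Spor.Fi23.i} : Set (FreeGroup Cfsg.Spor.Fi23.Gen))).map (PresentedGroup.mk (Cfsg.Spor.coxRelators Cfsg.Spor.Fi23.edges ∪ {r | r ∈ Cfsg.Spor.Fi23.extra})))) Cfsg.Spor.Fi22 := by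
  have h := Fi23.ok.map_closure Fi23.hall [Spor.Fi23.a, Spor.Fi23.b, Spor.Fi23.c, Spor.Fi23.d, Spor.Fi23.e, Spor.Fi23.f,
    Spor.Fi23.g, Spor.Fi23.h, Spor.Fi23.i]
  rw [show List.map _ _ = Fi23.K.map fun x => [x] by decide +kernel, cl_eq_clw] at h
  rw [show ({Spor.Fi23.a, Spor.Fi23.b, Spor.Fi23.c, Spor.Fi23.d, Spor.Fi23.e, Spor.Fi23.f, Spor.Fi23.g, Spor.Fi23.h,
    Spor.Fi23.i} : Set _) = {s | s ∈ [Spor.Fi23.a, Spor.Fi23.b, Spor.Fi23.c, Spor.Fi23.d, Spor.Fi23.e, Spor.Fi23.f,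
    Spor.Fi23.g, Spor.Fi23.h, Spor.Fi23.i]} by ext; simp, h]
  exact Fi23.K_cover

end Cfsg.Agent.S1688
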