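import Cfsg.Statements.S1690
import Cfsg.Agent.Lib.Comp.Fi24.Main

set_option autoImplicit false
open Cfsg

namespace Cfsg.Agent.S1690

open Cfsg.Lib.Comp

/-- In the presented group Fi₂₄ = Fi₂₄′:2, the subgroup generated by the images of a, b, c, d, e, f, g, h, i, j and l (every generator but k) has index 306936. -/
theorem result : (((Subgroup.closure ({Cfsg.Spor.Fi24.a, Cfsg.Spor.Fi24.b, Cfsg.Spor.Fi24.c, Cfsg.Spor.Fi24.d, Cfsg.Spor.Fi24.e, Cfsg.Spor.Fi24.f, Cfsg.Spor.Fi24.g, Cfsg.Spor.Fi24.h, Cfsg.Spor.Fi24.i, Cfsg.Spor.Fi24.j, Cfsg.Spor.Fi24.l} : Set (FreeGroup Cfsg.Spor.Fi24.Gen))).map (PresentedGroup.mk (Cfsg.Spor.coxRelators Cfsg.Spor.Fi24.edges ∪ {r | r ∈ Cfsg.Spor.Fi24.extra})))).index = 306936 := by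
  obtain ⟨f, -, h1, h2, -⟩ := Fi24.ok.action Fi24.hall
    (T := {Spor.Fi24.a, Spor.Fi24.b, Spor.Fi24.c, Spor.Fi24.d, Spor.Fi24.e, Spor.Fi24.f, Spor.Fi24.g, Spor.Fi24.h,
      Spor.Fi24.i, Spor.Fi24.j, Spor.Fi24.l})
    [Spor.Fi24.a, Spor.Fi24.b, Spor.Fi24.c, Spor.Fi24.d, Spor.Fi24.e, Spor.Fi24.f, Spor.Fi24.g, Spor.Fi24.h,
      Spor.Fi24.i, Spor.Fi24.j, Spor.Fi24.l]
    (by ext; simp) (W := Fi24.L1.map fun x => [x]) (by decide +kernel)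
    Fi24.idx Fi24.nets_ok Fi24.nets_iv Fi24.nets_rel Fi24.U_act
  rw [h2, h1.index]

end Cfsg.Agent.S1690
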