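import Cfsg.Statements.S1691
-- import your own Cfsg.Agent.* helpers here

set_option autoImplicit false
open Cfsg

namespace Cfsg.Agent.S1691
open Cfsg.Spor Subgroup

/-- The commutator subgroup of the presented group Fi₂₄ has index 2 (the presented group is Fi₂₄′:2 with Fi₂₄′ its derived subgroup). -/
theorem result : (commutator Cfsg.Spor.Fi24).index = 2 := by
  let f : Spor.Fi24 →* ℤˣ := PresentedGroup.toGroup (f := fun _ => -1) (by
    rintro r (⟨x, -, y, -, rfl⟩ | hr)
    · simp
    · simp only [Fi24.extra, List.mem_cons, List.not_mem_nil, or_false, Set.mem_setOf_eq] at hr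
      rcases hr with rfl | rfl <;> simp <;> decide)
  have hf : ∀ x, f (PresentedGroup.of x) = -1 := fun x => PresentedGroup.toGroup.of _
  have hs : Function.Surjective f := by
    intro u
    rcases Int.units_eq_one_or u with rfl | rfl
    exacts [⟨1, map_one f⟩, ⟨_, hf .a⟩]
  have rel : ∀ x y : Fi24.Gen, ((Abelianization.of (PresentedGroup.of x : Spor.Fi24)) *
      Abelianization.of (PresentedGroup.of y : Spor.Fi24)) ^ coxLabel Fi24.edges x y = 1 := by
    intro x y
    rw [← map_mul, ← map_pow, ← map_one Abelianization.of]
    congr 1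
    exact PresentedGroup.one_of_mem (Or.inl ⟨x, by cases x <;> decide, y, by cases y <;> decide, rfl⟩)
  have sq : ∀ x : Fi24.Gen, (Abelianization.of (PresentedGroup.of x : Spor.Fi24)) *
      Abelianization.of (PresentedGroup.of x : Spor.Fi24) = 1 := by
    intro x
    have := rel x x
    rwa [show coxLabel Fi24.edges x x = 1 by cases x <;> decide, pow_one] at this
  have ed : ∀ x y : Fi24.Gen, coxLabel Fi24.edges x y = 3 →
      (Abelianization.of (PresentedGroup.of x : Spor.Fi24)) =
      Abelianization.of (PresentedGroup.of y : Spor.Fi24) := by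
    intro x y h
    have := rel x y
    rw [h, mul_pow, pow_succ, pow_succ _ 2, pow_two, pow_two, sq, sq, one_mul, one_mul] at this
    rw [eq_inv_of_mul_eq_one_left this, inv_eq_of_mul_eq_one_right (sq y)]
  have all : ∀ x : Fi24.Gen, (Abelianization.of (PresentedGroup.of x : Spor.Fi24)) =
      Abelianization.of (PresentedGroup.of Fi24.Gen.d : Spor.Fi24) := by
    have c := ed .c .d (by decide)
    have b := (ed .b .c (by decide)).trans c
    have a := (ed .a .b (by decide)).trans b
    have k := (ed .k .a (by decide)).trans a
    have l := (ed .l .k (by decide)).trans k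
    have e := ed .e .d (by decide)
    have f := (ed .f .e (by decide)).trans e
    have g := (ed .g .f (by decide)).trans f
    have j := (ed .j .g (by decide)).trans g
    have h := ed .h .d (by decide)
    have i := (ed .i .h (by decide)).trans h
    intro x; cases x <;> first | assumption | rfl
  have key : ∀ g : Spor.Fi24, (f g = 1 ∧ Abelianization.of g = 1) ∨
      (f g = -1 ∧ Abelianization.of g = Abelianization.of (PresentedGroup.of Fi24.Gen.d : Spor.Fi24)) := by
    intro g
    have hg : g ∈ closure (Set.range (PresentedGroup.of : Fi24.Gen → Spor.Fi24)) := by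
      rw [PresentedGroup.closure_range_of]; trivial
    induction hg using closure_induction with
    | mem x hx => obtain ⟨x, rfl⟩ := hx; exact Or.inr ⟨hf x, all x⟩
    | one => simp
    | mul x y _ _ hx hy =>
      rcases hx with ⟨h1, h2⟩ | ⟨h1, h2⟩ <;> rcases hy with ⟨h3, h4⟩ | ⟨h3, h4⟩ <;>
        simp [h1, h2, h3, h4, sq]
    | inv x _ hx =>
      rcases hx with ⟨h1, h2⟩ | ⟨h1, h2⟩ <;> simp [h1, h2, inv_eq_of_mul_eq_one_right (sq _)]
  have : _root_.commutator Spor.Fi24 = f.ker := by
    refine le_antisymm (Abelianization.commutator_subset_ker f) fun g hg => ?_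
    rcases key g with ⟨-, h⟩ | ⟨h, -⟩
    · rw [← Abelianization.ker_of]; exact h
    · rw [MonoidHom.mem_ker, h] at hg; exact absurd hg (by decide)
  rw [this, index_ker, MonoidHom.range_eq_top.2 hs, card_top, Nat.card_eq_fintype_card]
  rfl

end Cfsg.Agent.S1691
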