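import Cfsg.Statements.S1693
import Cfsg.Agent.Lib.Comp.ON.Sub
import Cfsg.Agent.Lib.Comp.ON.Act
import Cfsg.Agent.Lib.Comp.L37x.Mat

set_option autoImplicit false
open Cfsg

namespace Cfsg.Agent.S1693

open Cfsg.Lib.Comp

/-- In the presented O'Nan group, the subgroup H generated by the images of a, …, f has a normal subgroup of index 2 isomorphic to PSL(3, 7). -/
theorem result : ∃ N : Subgroup (((Subgroup.closure ({Cfsg.Spor.ON.a, Cfsg.Spor.ON.b, Cfsg.Spor.ON.c, Cfsg.Spor.ON.d, Cfsg.Spor.ON.e, Cfsg.Spor.ON.f} : Set (FreeGroup Cfsg.Spor.ON.Gen))).map (PresentedGroup.mk (Cfsg.Spor.coxRelators Cfsg.Spor.ON.edges ∪ {r | r ∈ Cfsg.Spor.ON.extra})))), N.Normal ∧ N.index = 2 ∧ Nonempty (N ≃* Matrix.ProjectiveSpecialLinearGroup (Fin 3) (ZMod 7)) := by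
  obtain ⟨f, hf, h1, h2, -⟩ := ON.ok.action ON.hall
    (T := {Spor.ON.a, Spor.ON.b, Spor.ON.c, Spor.ON.d, Spor.ON.e, Spor.ON.f})
    [Spor.ON.a, Spor.ON.b, Spor.ON.c, Spor.ON.d, Spor.ON.e, Spor.ON.f]
    (by ext; simp) (W := [3,4,5,6,7,8].map fun x => [x]) (by decide +kernel)
    (ON.T0_idx.of_cons (cons_of_subset (by decide +kernel))) ON.nets_ok ON.nets_iv ON.nets_rel ON.U_act
  obtain ⟨e1⟩ := ON.l37_iso
  obtain ⟨e2⟩ := L37x.iso
  have : Finite Spor.ON := Nat.finite_of_card_ne_zero (by rw [ON.main.2]; norm_num)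
  obtain ⟨N, hN, ⟨e3⟩⟩ := sub_stab (c := 2) (inj_of_trans ON.main.1 h1 (by norm_num)) h1
    (ON.l37_le.trans (range_of_gen (ON.ok.top ON.hall) hf).ge) ON.l37_fix
    (by rw [← Nat.card_congr e1.toEquiv, L37x.card]; exact ON.main.2) (MulEquiv.subgroupCongr h2.symm)
  exact ⟨N, Subgroup.normal_of_index_eq_two hN, hN, ⟨e3.trans (e1.symm.trans e2)⟩⟩

end Cfsg.Agent.S1693
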