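import Cfsg.Statements.S1717
import Cfsg.Agent.Lib.Fis.Tv5

set_option autoImplicit false
open Cfsg

namespace Cfsg.Agent.S1717

open Subgroup Cfsg.Lib.Fis Cfsg.Lib.Transfer

/-- Let G be a finite group with an involution z whose centraliser C is isomorphic to the centraliser of a transvection of SL(5, 2). Then a Sylow 2-subgroup of C, viewed in G, is a Sylow 2-subgroup of G (its index in G is odd). -/
theorem result {G : Type*} [Group G] [Finite G] (s : Matrix.SpecialLinearGroup (Fin 5) (ZMod 2)) (hs : (s : Matrix (Fin 5) (Fin 5) (ZMod 2)) = Matrix.transvection 0 1 1) (z : G) (hz : orderOf z = 2) (e : (Subgroup.centralizer ({z} : Set G)) ≃* Subgroup.centralizer ({s} : Set (Matrix.SpecialLinearGroup (Fin 5) (ZMod 2)))) (T : Sylow 2 (Subgroup.centralizer ({z} : Set G))) : ¬ 2 ∣ ((T : Subgroup (Subgroup.centralizer ({z} : Set G))).map (Subgroup.subtype (Subgroup.centralizer ({z} : Set G)))).index := by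
  have hz1 : z ≠ 1 := fun k => by simp [k] at hz
  have zc : z ∈ centralizer ({z} : Set G) := mem_centralizer_singleton_iff.2 rfl
  have key : ∀ c : centralizer ({z} : Set G), (∀ t ∈ T, t * c = c * t) → c ≠ 1 → (e c).1 = s := fun c hc k =>
    (cent_sylow hs (T.mapSurjective (f := e.toMonoidHom) e.surjective) (by
      rintro _ ⟨t, ht, rfl⟩
      exact (map_mul e _ _).symm.trans ((congrArg e (hc t ht)).trans (map_mul e _ _)))).resolve_left fun k' => k (by simpa using k')
  have zT : (⟨z, zc⟩ : centralizer ({z} : Set G)) ∈ T := by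
    have : (zpowers (⟨z, zc⟩ : centralizer ({z} : Set G))).Normal := ⟨fun n hn g => by
      rw [mem_center_iff.1 (zpowers_le.2 (mem_center_iff.2 fun g => Subtype.ext (mem_centralizer_singleton_iff.1 g.2)) hn) g]
      simpa using hn⟩
    exact IsPGroup.le_sylow_of_normal (IsPGroup.of_card (n := 1) (by
      rw [Nat.card_zpowers, ← orderOf_coe]; exact hz)) T (mem_zpowers _)
  have h1 := sylowIn_map_subtype T
  have h2 := Cfsg.Lib.Coprime.sylowIn_of_sylowIn_normalizer (K := ⊤) (h1.mono (le_inf le_top le_normalizer) fun g hg => by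
    obtain ⟨c, hc, e1⟩ := (mem_normalizer_iff.1 hg.2 z).1 ⟨_, zT, rfl⟩
    have k1 := key c (fun t ht => Subtype.ext (by
      obtain ⟨u, hu, e2⟩ := (mem_normalizer_iff''.1 hg.2 t).1 ⟨_, ht, rfl⟩
      change t.1 * (centralizer {z}).subtype c = (centralizer {z}).subtype c * t.1
      have e3 := mem_centralizer_singleton_iff.1 u.2
      rw [show u.1 = _ from e2] at e3
      rw [e1]
      calc _ = g * (g⁻¹ * t * g * z) * g⁻¹ := by group
        _ = _ := by rw [e3]; group)) fun k => hz1 (by simpa [k] using e1.symm)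
    have k2 := key ⟨z, zc⟩ (fun t _ => Subtype.ext (mem_centralizer_singleton_iff.1 t.2)) fun k => hz1 (congrArg Subtype.val k)
    rw [e.injective (Subtype.ext (k1.trans k2.symm))] at e1
    exact mem_centralizer_singleton_iff.2 (mul_inv_eq_iff_eq_mul.1 e1.symm))
  simpa using h2.3

end Cfsg.Agent.S1717
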