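import Cfsg.Statements.S1725
import Cfsg.Agent.Lib.SuzF.C3
import Cfsg.Agent.Lib.SuzT.C3

set_option autoImplicit false
open Cfsg

namespace Cfsg.Agent.S1725

open Cfsg.Lib.SuzT Subgroup

/-- A 3-local step in the uniqueness proof for the sporadic Suzuki group: let G satisfy the large-extraspecial hypothesis with Q of order 2 ^ 7, quotient Ω⁻(6, 2) and z not weakly closed in Q, and let X be a subgroup of order 3 of the centraliser C of z with the commutator subgroup of Q and X of order 8 and non-abelian (a quaternion group). Then for any Sylow 3-subgroup P of the normaliser of X in G, P is a Sylow 3-subgroup of G (its index in G is prime to 3), and P contains an elementary abelian subgroup A of order 3 ^ 5 with C_G(A) = A and N_G(A) / A isomorphic to the Mathieu group M₁₁. -/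
theorem result {G : Type*} [Group G] [Finite G] (z : G) (hz : orderOf z = 2) (Q : Subgroup (Subgroup.centralizer ({z} : Set G))) [Q.Normal] (hF : Cfsg.generalizedFittingSubgroup (Subgroup.centralizer ({z} : Set G)) = Q) (hQ : Cfsg.IsExtraspecial 2 Q) (hcard : Nat.card Q = 2 ^ 7) (e : (Subgroup.centralizer ({z} : Set G)) ⧸ Q ≃* Cfsg.Omega (ZMod 2) (Cfsg.quadFormMinus 2 (ZMod 2) 1 1)) (hnwc : ∃ g : G, (∃ hq : g * z * g⁻¹ ∈ Subgroup.centralizer ({z} : Set G), (⟨g * z * g⁻¹, hq⟩ : Subgroup.centralizer ({z} : Set G)) ∈ Q) ∧ g * z * g⁻¹ ≠ z) (X : Subgroup (Subgroup.centralizer ({z} : Set G))) (hX : Nat.card X = 3) (hQX : Nat.card ↥⁅Q, X⁆ = 8) (hQXna : ¬ IsMulCommutative ↥⁅Q, X⁆) (P : Sylow 3 ↥(Subgroup.normalizer ((X.map (Subgroup.subtype (Subgroup.centralizer ({z} : Set G))) : Subgroup G) : Set G))) : ¬ 3 ∣ (((P : Subgroup ↥(Subgroup.normalizer ((X.map (Subgroup.subtype (Subgroup.centralizer ({z} : Set G))) : Subgroup G) : Set G))).map (Subgroup.subtype (Subgroup.normalizer ((X.map (Subgroup.subtype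 (Subgroup.centralizer ({z} : Set G))) : Subgroup G) : Set G)))).index) ∧ ∃ A : Subgroup G, A ≤ (P : Subgroup ↥(Subgroup.normalizer ((X.map (Subgroup.subtype (Subgroup.centralizer ({z} : Set G))) : Subgroup G) : Set G))).map (Subgroup.subtype (Subgroup.normalizer ((X.map (Subgroup.subtype (Subgroup.centralizer ({z} : Set G))) : Subgroup G) : Set G))) ∧ Cfsg.IsElementaryAbelian 3 A ∧ Nat.card A = 3 ^ 5 ∧ Subgroup.centralizer (A : Set G) = A ∧ ∃ _ : (A.subgroupOf (Subgroup.normalizer (A : Set G))).Normal, Cfsg.Spor.IsoM11 (↥(Subgroup.normalizer (A : Set G)) ⧸ A.subgroupOf (Subgroup.normalizer (A : Set G))) := by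
  obtain ⟨ι, h⟩ := sz_of hz hF hQ hcard e hnwc
  obtain ⟨y, hy⟩ := exists_prime_orderOf_dvd_card' (G := X) 3 hX.symm.dvd
  have y3 : orderOf (y : G) = 3 := (orderOf_coe _).trans ((orderOf_coe _).trans hy)
  have eY : X.map (centralizer ({z} : Set G)).subtype = zpowers (y : G) := (eq_of_le_of_card_ge (zpowers_le.2 (mem_map_of_mem _ y.2))
    (by rw [card_map_of_injective (subtype_injective _), hX, Nat.card_zpowers]; exact y3.ge)).symm
  obtain ⟨ι', γ, m, b, h', L, e1⟩ := h.exY (mem_centralizer_singleton_iff.1 y.1.2) y3 (B := (⁅Q, X⁆).map (Subgroup.subtype _))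
    ((card_map_of_injective (subtype_injective _)).trans hQX) (by
      rintro _ ⟨q, hq, rfl⟩; exact ⟨_, commutator_mem_commutator hq y.2, rfl⟩)
  rw [← e1] at eY y3
  generalize X.map (centralizer ({z} : Set G)).subtype = Y' at *
  subst eY
  obtain ⟨a⟩ := L.U.iso
  obtain ⟨f⟩ := L.iso h'
  have c1 := card_eq_card_quotient_mul_card_subgroup ((zpowers (γ 14)).subgroupOf (centralizer (zpowers (γ 14) : Set G)))
  rw [← Nat.card_congr a.toEquiv, Lib.U43.card_U0, Nat.card_congr (subgroupOfEquivOfLe (zpowers_le.2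
    (Lib.Known2.mem_cent_zpowers.2 rfl))).toEquiv, Nat.card_zpowers, y3] at c1
  have c2 := ((centralizer (zpowers (γ 14) : Set G)).subgroupOf (normalizer (zpowers (γ 14) : Set G))).card_mul_index
  rw [Nat.card_congr (subgroupOfEquivOfLe (centralizer_le_normalizer _)).toEquiv, c1, show index _ = 2 from L.idx h'] at c2
  have c3 := (normalizer (zpowers (γ 14) : Set G)).card_mul_index
  rw [← c2, Nat.card_congr f.toEquiv, Lib.Comp.Suz.main.2] at c3
  have k : ¬ 3 ∣ ((P : Subgroup _).map (normalizer (zpowers (γ 14) : Set G)).subtype).index := by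
    rw [index_map_subtype, Nat.prime_three.dvd_mul, show (normalizer (zpowers (γ 14) : Set G)).index = 22880 by omega]
    exact not_or.2 ⟨P.not_dvd_index, by norm_num⟩
  exact ⟨k, Lib.SuzF.three f (P.isPGroup'.map _) k⟩

end Cfsg.Agent.S1725
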