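import Cfsg.Statements.S1741
import Cfsg.Agent.Lib.M12S.B3

set_option autoImplicit false
open Cfsg

namespace Cfsg.Agent.S1741

open Subgroup Cfsg.Lib Cfsg.Lib.Amalg Cfsg.Lib.M12S

/-- Let G be a finite simple group whose Sylow 2-subgroups are isomorphic to a Sylow 2-subgroup of the Mathieu group of degree 12, and suppose G has two involutions that are not conjugate. Then G is isomorphic to the Mathieu group of degree 12. -/
theorem result {G : Type*} [Group G] [Finite G] [IsSimpleGroup G]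
    (S : Sylow 2 G) (P : Sylow 2 ↥Cfsg.Spor.M12) (hS : Nonempty (↥(S : Subgroup G) ≃* ↥(P : Subgroup ↥Cfsg.Spor.M12)))
    (h2 : ∃ x y : G, orderOf x = 2 ∧ orderOf y = 2 ∧ ¬ IsConj x y) : Cfsg.Spor.IsoM12 G := by
  have : Fact (Nat.Prime 2) := ⟨Nat.prime_two⟩
  have : Finite Cfsg.Spor.M12 := inferInstance
  obtain ⟨φ, su⟩ := X32.m12_model
  obtain ⟨e⟩ := hS
  let φ1 := φ.comp TB.ι
  have i1 : Function.Injective φ1 := su.inj.comp TB.ι_inj
  have s1 : Syl 2 φ1.range ⊤ := by
    rw [MonoidHom.range_comp, TB.ι_range]; exact syl_iff_not_dvd.2 (Transfer.sylowIn_iff.1 (X32.HB.sylT su))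
  obtain ⟨g, -, hg⟩ := s1.exists_conj (syl_top P)
  let e1 : TB ≃* S := ((MonoidHom.ofInjective i1).trans (cjEquiv g _)).trans ((MulEquiv.subgroupCongr hg).trans e.symm)
  let ψ : TB →* G := (S : Subgroup G).subtype.comp e1.toMonoidHom
  have hr : ψ.range = S := by
    rw [MonoidHom.range_comp, MonoidHom.range_eq_top.2 e1.surjective, ← MonoidHom.range_eq_map, range_subtype]
  exact TB.isoM12 (ψ := ψ) (Subtype.val_injective.comp e1.injective) (hr ▸ syl_top S) h2

end Cfsg.Agent.S1741
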