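import Cfsg.Statements.S1743
import Cfsg.Agent.Lib.M12S.WF
import Cfsg.Agent.Lib.M12S.WH

set_option autoImplicit false
open Cfsg

namespace Cfsg.Agent.S1743


open Subgroup Cfsg.Lib Cfsg.Lib.Amalg Cfsg.Lib.M12S

/-- Let G be a finite simple group whose Sylow 2-subgroups are isomorphic to a Sylow 2-subgroup of the Chevalley group of type G₂ over a finite field of odd order, and let S be a Sylow 2-subgroup of G. Then either all involutions of G are conjugate, or S has order 64 and the involutions of G form exactly two conjugacy classes. -/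
theorem result {G : Type*} [Group G] [Finite G] [IsSimpleGroup G]
    {F : Type*} [Field F] [Fintype F] (hF : Odd (Fintype.card F)) (S : Sylow 2 G) (P : Sylow 2 ↥(Cfsg.Lie.chevG2.group F))
    (hS : Nonempty (↥(S : Subgroup G) ≃* ↥(P : Subgroup ↥(Cfsg.Lie.chevG2.group F)))) :
    (∀ x y : G, orderOf x = 2 → orderOf y = 2 → IsConj x y) ∨
      (Nat.card ↥(S : Subgroup G) = 64 ∧ ∃ x y : G, orderOf x = 2 ∧ orderOf y = 2 ∧ ¬ IsConj x y ∧
        ∀ z : G, orderOf z = 2 → IsConj z x ∨ IsConj z y) := by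
  have : Fact (Nat.Prime 2) := ⟨Nat.prime_two⟩
  obtain ⟨n, θ, i1, s1⟩ := WG.exists_model F hF
  obtain ⟨e⟩ := hS
  obtain ⟨g, -, hg⟩ := s1.exists_conj (syl_top P)
  let e1 : WG _ ≃* S := ((MonoidHom.ofInjective i1).trans (cjEquiv g _)).trans ((MulEquiv.subgroupCongr hg).trans e.symm)
  let ψ : WG _ →* G := (S : Subgroup G).subtype.comp e1.toMonoidHom
  have hr : ψ.range = S := by
    rw [MonoidHom.range_comp, MonoidHom.range_eq_top.2 e1.surjective, ← MonoidHom.range_eq_map, range_subtype]
  rw [← hr]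
  refine (WG.hk n).main (ψ := ψ) (WG.pg _) (Subtype.val_injective.comp e1.injective) (hr ▸ syl_top S) ?_
  rcases n with _ | n
  exacts [.inl (Nat.card_zmod _), .inr ⟨_, pow_succ' _ _⟩]

end Cfsg.Agent.S1743
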