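import Cfsg.Statements.S1754
import Cfsg.Agent.Lib.Layer.SigCore

set_option autoImplicit false
open Cfsg

namespace Cfsg.Agent.S1754

open Subgroup Cfsg.Lib.Core Cfsg.Lib.Amalg Cfsg.Lib.BG1 Cfsg.Lib.Layer

/-- Let A be a standard subgroup of the finite group G (A quasisimple, C_G(A) tightly embedded of even order, A commuting elementwise with no other conjugate of itself, and N_G(A) = N_G(C_G(A))), and let t be an involution of G centralizing A. Then the centralizer of t lies in the normalizer of A; in particular A, viewed inside C_G(t), is a component of C_G(t). -/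
theorem result {G : Type*} [Group G] [Finite G]
    (A : Subgroup G) (hA : Cfsg.IsStandardSubgroup A) (t : G) (ht : orderOf t = 2) (htA : t ∈ Subgroup.centralizer (A : Set G)) :
    Subgroup.centralizer ({t} : Set G) ≤ Subgroup.normalizer (A : Set G) ∧
      Cfsg.IsComponent (A.subgroupOf (Subgroup.centralizer ({t} : Set G))) := by
  have h1 : 𝐂[t] ≤ 𝐍(A) := by
    intro g hg
    rw [hA.2.2.2]
    by_contra hn
    have h2 : t ∈ 𝐂(A) ⊓ cj g 𝐂(A) := ⟨htA, by
      have := conj_mem_cj g htA
      rwa [mem_centralizer_singleton_iff.1 hg, mul_inv_cancel_right] at this⟩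
    have h3 := orderOf_dvd_natCard (⟨t, h2⟩ : ↥(𝐂(A) ⊓ cj g 𝐂(A)))
    rw [orderOf_mk, ht] at h3
    exact Nat.not_even_iff_odd.2 (hA.2.1.2 g hn) (even_iff_two_dvd.2 h3)
  have h2 : A ≤ 𝐂[t] := fun a ha => mem_centralizer_singleton_iff.2 (htA a ha)
  exact ⟨h1, (isComponent_subgroupOf_iff h2).2 ⟨isSubnormal_subgroupOf_of_le_normalizer h1, hA.1⟩⟩

end Cfsg.Agent.S1754
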