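import Cfsg.Statements.S3334
import Cfsg.Agent.Lib.McT.Top
import Cfsg.Agent.Lib.Known2.Invol
import Cfsg.Agent.Lib.Block.ZStar

set_option autoImplicit false
open Cfsg

namespace Cfsg.Agent.S3334

open Subgroup Cfsg.Lib

/-- Let G be a finite group with an involution t whose centralizer is a non-split double cover of the alternating group of degree 8. Then either G = C_G(t) O_{2'}(G), or G is isomorphic to the McLaughlin group. -/
theorem result {G : Type*} [Group G] [Finite G]
    (t : G) (ht : orderOf t = 2)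
    (hcov : Cfsg.IsNonsplitDoubleCover (Subgroup.centralizer ({t} : Set G)) (alternatingGroup (Fin 8))) :
    Subgroup.centralizer ({t} : Set G) ⊔ Cfsg.oddCore G = ⊤ ∨ Nonempty (G ≃* Cfsg.Spor.McL) := by
  refine or_iff_not_imp_right.2 fun hn => eq_top_iff.2 fun g _ => ?_
  obtain ⟨u, e, t', f, w, s, y, p, x, h⟩ := McT.cover ht hcov
  have zz : t * t = 1 := by rw [← sq, ← ht, pow_orderOf_eq_one]
  have m : t * (g * t * g⁻¹) ∈ oddCore G := by
    simpa only [inv_eq_of_mul_eq_one_right zz, mul_assoc] using Block.z_star ⟨ht, fun g hg => by_contra fun h2 =>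
      let ⟨_, k, mx⟩ := h.exM hg.symm h2; hn (h.iso k mx)⟩ g
  obtain ⟨n, e⟩ := Known2.conj_of_odd_orderOf zz (by rw [conj_mul, zz]; simp)
    ((Core.odd_card_oddCore G).of_dvd_nat (orderOf_dvd_natCard _ m))
  exact (mul_mem_cancel_left (mem_sup_right (pow_mem m n))).1 (mem_sup_left (mem_centralizer_singleton_iff.2
    (U43.cm_of_cj (U43.cjc2 rfl e))))

end Cfsg.Agent.S3334
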