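import Cfsg.Statements.S1753
import Cfsg.Agent.Lib.Layer.SigCore

set_option autoImplicit false
universe u
open Cfsg

namespace Cfsg.Agent.S1753

open Subgroup Cfsg.Lib.Core Cfsg.Lib.Amalg Cfsg.Lib.BG1 Cfsg.Lib.Layer

/-- Let K be any property of groups. (1) If G is a minimal counterexample relative to K — a finite non-abelian simple group not satisfying K such that every finite non-abelian simple group of smaller order satisfies K — then every proper subgroup of G is a K-group (all its non-abelian simple sections satisfy K), since such sections have smaller order than G. (2) Consequently (induction on the order), if every finite non-abelian simple group all of whose proper subgroups are K-groups satisfies K, then every finite non-abelian simple group satisfies K. -/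
theorem result (K : ∀ (X : Type u) [Group X], Prop) :
    (∀ (G : Type u) [Group G], Cfsg.IsMinCounterexampleWith K G → Cfsg.IsKProperWith K G) ∧
      ((∀ (X : Type u) [Group X] [Finite X], IsSimpleGroup X → ¬ IsMulCommutative X → Cfsg.IsKProperWith K X → K X) →
        ∀ (G : Type u) [Group G] [Finite G], IsSimpleGroup G → ¬ IsMulCommutative G → K G) := by
  have key : ∀ (G : Type u) [Group G], IsMinCounterexampleWith K G → IsKProperWith K G := by
    intro G _ h H hH H' N _ h1 h2
    haveI := h.1
    refine h.2.2.2.2 _ h1 h2 ?_
    calc Nat.card (H' ⧸ N) ≤ Nat.card H' := Nat.card_le_card_of_surjective _ (QuotientGroup.mk'_surjective N)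
      _ ≤ Nat.card H := Nat.card_le_card_of_injective _ H'.subtype_injective
      _ < Nat.card G := by rw [← card_top (G := G)]; exact card_lt_of_lt' hH.lt_top
  refine ⟨key, fun h G _ _ => ?_⟩
  induction hn : Nat.card G using Nat.strong_induction_on generalizing G with
  | _ n ih =>
  intro h1 h2
  by_contra hK
  exact hK (h G h1 h2 (key G ⟨inferInstance, h1, h2, hK, fun X _ _ h3 h4 h5 => @ih _ (hn ▸ h5) X _ inferInstance rfl h3 h4⟩))

end Cfsg.Agent.S1753
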