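import Cfsg.Statements.S1755
import Cfsg.Agent.Lib.Known2.LE4
import Cfsg.Agent.Lib.PGrp.Cyclic

set_option autoImplicit false
open Cfsg

namespace Cfsg.Agent.S1755

open Subgroup Cfsg.Lib Cfsg.Lib.Known2 Cfsg.Lib.Amalg Cfsg.Lib.Layer

theorem aux {G : Type*} [Group G] [Finite G] (z : G) (hz : orderOf z = 2) (C : Subgroup G)
    (hC : ∀ g, g ∈ C ↔ g * z = z * g) (F : Subgroup C) [F.Normal] (hF : centralizer (F : Set C) ≤ F)
    (hQ : IsOfSymplecticType F) (B : Subgroup F) (hBc : B.Characteristic) (hBa : IsMulCommutative B)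
    (g : G) : cj g ((B.map F.subtype).map C.subtype) = (B.map F.subtype).map C.subtype ∨
      cj g ((B.map F.subtype).map C.subtype) ⊓ (B.map F.subtype).map C.subtype = ⊥ := by
  haveI : Fact (Nat.Prime 2) := ⟨Nat.prime_two⟩
  set B' := (B.map F.subtype).map C.subtype with hB'
  refine or_iff_not_imp_right.2 fun hne => ?_
  have hz2 : z * z = 1 := by rw [← pow_two, ← hz, pow_orderOf_eq_one]
  have hzC : z ∈ C := (hC _).2 rfl
  have hz0 : (⟨z, hzC⟩ : C) ∈ F := hF fun x _ => Subtype.ext ((hC _).1 x.2)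
  have hz1 : (⟨⟨z, hzC⟩, hz0⟩ : F) ∈ center F :=
    mem_center_iff.2 fun x => Subtype.ext (Subtype.ext ((hC _).1 x.1.2))
  have hB0 : B ≠ ⊥ := by
    rintro rfl
    apply hne
    rw [hB', Subgroup.map_bot, Subgroup.map_bot, inf_bot_eq]
  obtain ⟨y, hy, hyc, hyo⟩ := PGrp.exists_central_orderOf_eq hQ.1 B hB0
  have hzo : orderOf (⟨⟨z, hzC⟩, hz0⟩ : F) = 2 := by
    rw [← hz, ← orderOf_coe, ← orderOf_coe]
  have h1 := PGrp.mem_zpowers_of_pow_eq_one (hQ.2 (center F) inferInstance inferInstance) hyc hz1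
    (by rw [hzo, ← hyo, pow_orderOf_eq_one])
  rw [mem_zpowers_invol (Subtype.ext (Subtype.ext hz2))] at h1
  have hzB : z ∈ B' := by
    rcases h1 with rfl | rfl
    · simp at hyo
    · exact ⟨_, ⟨_, hy, rfl⟩, rfl⟩
  have hcyc : IsCyclic B' := PGrp.isCyclic_map _ (PGrp.isCyclic_map _ (hQ.2 B hBc hBa))
  have hp : IsPGroup 2 (cj g B' ⊓ B' : Subgroup G) :=
    (((hQ.1.to_subgroup B).map _).map _).to_le inf_le_right
  haveI : Nontrivial (cj g B' ⊓ B' : Subgroup G) := (nontrivial_iff_ne_bot _).2 hne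
  obtain ⟨k, hk0, hk⟩ := hp.nontrivial_iff_card.1 inferInstance
  obtain ⟨t, ht⟩ := exists_prime_orderOf_dvd_card' (G := (cj g B' ⊓ B' : Subgroup G)) 2
    (hk ▸ dvd_pow_self 2 hk0.ne')
  rw [← orderOf_coe] at ht
  have ht1 : (t : G) ≠ 1 := fun h => by simp [h] at ht
  have e1 := PGrp.mem_zpowers_of_pow_eq_one hcyc t.2.2 hzB (by rw [hz, ← ht, pow_orderOf_eq_one])
  have e2 := PGrp.mem_zpowers_of_pow_eq_one (PGrp.isCyclic_map _ hcyc) t.2.1 (conj_mem_cj g hzB)
    (by rw [← MulAut.conj_apply, MulEquiv.orderOf_eq, hz, ← ht, pow_orderOf_eq_one])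
  rw [mem_zpowers_invol hz2] at e1
  rw [mem_zpowers_invol (by rw [conj_mul, hz2]; group)] at e2
  have hg : g ∈ C := (hC _).2 (comm_of_conj_eq
    ((e2.resolve_left ht1).symm.trans (e1.resolve_left ht1)))
  have hn : (B.map F.subtype).Normal := inferInstance
  rw [cj_eq_self_iff]
  apply Core.mem_normalizer_of_conj_mem
  rintro _ ⟨x, hx, rfl⟩
  exact ⟨_, hn.conj_mem x hx ⟨g, hg⟩, rfl⟩

/-- Let G be a finite group and let z be an involution of G such that Q, the generalized Fitting subgroup of the centralizer C of z, is a 2-group of symplectic type (every characteristic abelian subgroup of Q is cyclic). Let B be a characteristic abelian subgroup of Q, viewed as a subgroup of G. Then for every g in G, the conjugate of B by g either equals B or meets B trivially. -/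
theorem result {G : Type*} [Group G] [Finite G] (z : G) (hz : orderOf z = 2) (hQ : Cfsg.IsOfSymplecticType ↥(Cfsg.generalizedFittingSubgroup ↥(Subgroup.centralizer ({z} : Set G))))
    (B : Subgroup ↥(Cfsg.generalizedFittingSubgroup ↥(Subgroup.centralizer ({z} : Set G)))) (hBc : B.Characteristic) (hBa : IsMulCommutative ↥B) (g : G) :
    ((B.map (Cfsg.generalizedFittingSubgroup ↥(Subgroup.centralizer ({z} : Set G))).subtype).map (Subgroup.centralizer ({z} : Set G)).subtype).map (MulAut.conj g).toMonoidHom =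
        (B.map (Cfsg.generalizedFittingSubgroup ↥(Subgroup.centralizer ({z} : Set G))).subtype).map (Subgroup.centralizer ({z} : Set G)).subtype ∨
      ((B.map (Cfsg.generalizedFittingSubgroup ↥(Subgroup.centralizer ({z} : Set G))).subtype).map (Subgroup.centralizer ({z} : Set G)).subtype).map (MulAut.conj g).toMonoidHom ⊓
        (B.map (Cfsg.generalizedFittingSubgroup ↥(Subgroup.centralizer ({z} : Set G))).subtype).map (Subgroup.centralizer ({z} : Set G)).subtype = ⊥ := by
  haveI := fstar_normal (G := centralizer ({z} : Set G))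
  exact aux z hz _ (fun _ => mem_cent_single) _ centralizer_fstar_le hQ B hBc hBa g

end Cfsg.Agent.S1755
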