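import Cfsg.Statements.S1756
import Cfsg.Agent.Lib.PGrp.Extra

set_option autoImplicit false
open Cfsg

namespace Cfsg.Agent.S1756

open Cfsg.Lib.PGrp Cfsg.Lib.Forms Subgroup
open scoped commutatorElement

/-- Let Q be an extraspecial 2-subgroup of the finite group G (special with centre of order 2) and t an involution of G normalizing Q such that the centralizer of t in Q has index at most 2 in Q. Then t lies in the product of Q with the centralizer of Q. -/
theorem result {G : Type*} [Group G] [Finite G] (Q : Subgroup G)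
    (hQ : Cfsg.IsExtraspecial 2 ↥Q) (t : G) (ht : orderOf t = 2) (htN : t ∈ Subgroup.normalizer (Q : Set G))
    (hi : (Subgroup.centralizer ({t} : Set G) ⊓ Q).relIndex Q ≤ 2) :
    t ∈ Q ⊔ Subgroup.centralizer (Q : Set G) := by
  set C := centralizer ({t} : Set G) ⊓ Q
  have ht2 : t * t = 1 := by rw [← sq, ← ht, pow_orderOf_eq_one]
  have hC : ∀ x ∈ C, t * x * t⁻¹ = x := fun x hx => by
    rw [← mem_centralizer_singleton_iff.1 hx.1, mul_inv_cancel_right]
  refine mem_sup_centralizer_of_isExtraspecial hQ fun q hq => ?_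
  have h0 : t * q * t⁻¹ ∈ Q := (mem_normalizer_iff.1 htN q).1 hq
  by_cases hqC : q ∈ C
  · rw [commutatorElement_def, hC q hqC, mul_inv_cancel]
    exact one_mem _
  have h2 : (C.subgroupOf Q).index = 2 := le_antisymm hi (by
    have h1 : (C.subgroupOf Q).index ≠ 1 := fun e => hqC (relIndex_eq_one.1 e hq)
    have h2 : (C.subgroupOf Q).index ≠ 0 := index_ne_zero_of_finite
    omega)
  have h3 : ∀ x ∈ Q, ∀ y ∈ Q, x * y ∈ C ↔ (x ∈ C ↔ y ∈ C) := fun x hx y hy =>
    mul_mem_iff_of_index_two h2 (a := ⟨x, hx⟩) (b := ⟨y, hy⟩)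
  have h4 : t * q * t⁻¹ ∉ C := fun h => hqC ⟨mem_centralizer_singleton_iff.2 (by
    have := hC _ h
    rw [mul_left_inj, mul_right_inj, mul_inv_eq_iff_eq_mul] at this
    exact this.symm), hq⟩
  have h5 : ⁅t, q⁆ ∈ C := (h3 _ h0 _ (inv_mem hq)).2 (by simp [h4, hqC])
  have h6 : t * q * t⁻¹ = ⁅t, q⁆ * q := by simp [commutatorElement_def]
  have h7 : ⁅t, q⁆ = ⁅t, q⁆⁻¹ := by
    refine (hC _ h5).symm.trans ?_
    rw [commutatorElement_def, inv_eq_of_mul_eq_one_right ht2, ← mul_assoc, ← mul_assoc, ← mul_assoc, ht2]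
    simp [mul_assoc, inv_eq_of_mul_eq_one_right ht2]
  have h8 : ∀ x ∈ C, x * ⁅t, q⁆ = ⁅t, q⁆ * x := fun x hx => by
    have h9 : q⁻¹ * x * q ∈ C := (h3 _ (mul_mem (inv_mem hq) hx.2) _ hq).2 (by
      simp [h3 _ (inv_mem hq) _ hx.2, hx, hqC])
    calc x * ⁅t, q⁆ = (t * x * t⁻¹) * ⁅t, q⁆ := by rw [hC x hx]
      _ = t * q * (q⁻¹ * x * q) * t⁻¹ * q⁻¹ := by rw [commutatorElement_def]; group
      _ = t * q * t⁻¹ * (t * (q⁻¹ * x * q) * t⁻¹) * q⁻¹ := by group
      _ = _ := by rw [hC _ h9, commutatorElement_def]; group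
  have h9 : q * ⁅t, q⁆ = ⁅t, q⁆ * q := by
    have := hC _ ((h3 q hq q hq).2 Iff.rfl)
    rw [show t * (q * q) * t⁻¹ = t * q * t⁻¹ * (t * q * t⁻¹) by group, h6, ← mul_assoc, mul_left_inj, mul_assoc,
      ← eq_inv_mul_iff_mul_eq, ← h7] at this
    exact this
  refine ⟨h5.2, fun x hx => ?_⟩
  by_cases hxC : x ∈ C
  · exact h8 x hxC
  · have := h8 _ ((h3 x hx _ (inv_mem hq)).2 (by simp [hxC, hqC]))
    calc x * ⁅t, q⁆ = x * q⁻¹ * (q * ⁅t, q⁆) := by group
      _ = _ := by rw [h9, ← mul_assoc, this]; group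

end Cfsg.Agent.S1756
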