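import Cfsg.Statements.S1775
import Cfsg.Agent.Lib.Layer.Pumpup2

set_option autoImplicit false
open Cfsg

namespace Cfsg.Agent.S1775

open Subgroup Cfsg.Lib.Core Cfsg.Lib.Amalg Cfsg.Lib.BG1 Cfsg.Lib.Layer

/-- Let G be a finite group whose generalized Fitting subgroup is a non-abelian simple group and in which every proper section (every quotient H/N of a proper subgroup H, or of G by a nontrivial normal subgroup) has the B-property. Let x, y be commuting involutions, let D be the intersection of the 2-layer of C_G(x) with C_G(y), and let J be a 2-component of D. Write Q for the quotient of C_G(y) by its largest normal odd-order subgroup. Then (i) the image of J in Q is a component of the centralizer in Q of the image of x; and (ii) for every J-invariant subgroup E of odd order of C_G(x) ∩ C_G(y), the commutator subgroup [J, E] lies in the largest normal odd-order subgroup of C_G(y). -/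
theorem result {G : Type*} [Group G] [Finite G]
    (hF : IsSimpleGroup ↥(Cfsg.generalizedFittingSubgroup G)) (hF' : ¬ IsMulCommutative ↥(Cfsg.generalizedFittingSubgroup G))
    (hsec : ∀ (H : Subgroup G) (N : Subgroup ↥H) [N.Normal], (H ≠ ⊤ ∨ N ≠ ⊥) → Cfsg.HasBProperty (↥H ⧸ N))
    (x y : G) (hx : orderOf x = 2) (hy : orderOf y = 2) (hxy : x * y = y * x)
    (J : Subgroup ↥((Cfsg.pLayer 2 ↥(Subgroup.centralizer ({x} : Set G))).map (Subgroup.centralizer ({x} : Set G)).subtype ⊓ Subgroup.centralizer ({y} : Set G)))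
    (hJ : Cfsg.IsPComponent 2 J) :
    Cfsg.IsComponent
        ((((J.map (Subgroup.subtype _)).subgroupOf (Subgroup.centralizer ({y} : Set G))).map (QuotientGroup.mk' (Cfsg.oddCore ↥(Subgroup.centralizer ({y} : Set G))))).subgroupOf
          (Subgroup.centralizer ({(QuotientGroup.mk' (Cfsg.oddCore ↥(Subgroup.centralizer ({y} : Set G))) ⟨x, Subgroup.mem_centralizer_singleton_iff.mpr hxy⟩ : ↥(Subgroup.centralizer ({y} : Set G)) ⧸ Cfsg.oddCore ↥(Subgroup.centralizer ({y} : Set G)))} : Set _))) ∧
      ∀ E : Subgroup G, E ≤ Subgroup.centralizer ({x} : Set G) ⊓ Subgroup.centralizer ({y} : Set G) → Odd (Nat.card ↥E) →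
        (∀ j ∈ J.map (Subgroup.subtype _), ∀ e ∈ E, j * e * j⁻¹ ∈ E) →
          ⁅J.map (Subgroup.subtype _), E⁆ ≤ (Cfsg.oddCore ↥(Subgroup.centralizer ({y} : Set G))).map (Subgroup.centralizer ({y} : Set G)).subtype := by
  haveI : Fact (Nat.Prime 2) := ⟨Nat.prime_two⟩
  have hxH : x ∈ 𝐂[y] := mem_centralizer_singleton_iff.2 hxy
  have hxp := isPGroup_zpowers_prime hx
  have h1 : IsPComponentOf 2 (J.map (Subgroup.subtype _)) (𝐂[y] ⊓ 𝐂[x]) :=
    IsPComponentOf.trans (isPComponentOf_map_subtype.2 hJ) (le_inf inf_le_right (inf_le_left.trans (map_subtype_le _)))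
      (le_normalizer_inf (inf_le_right.trans (le_normalizer.trans (normalizer_le_normalizer_pLayerOf _)))
        (inf_le_left.trans le_normalizer))
  have h2 := IsPComponentOf.mim_coreQ h1 inf_le_left
  rw [mim_coreQ_inf_cent1 hxp hxH] at h2
  have hH : 𝐂[y] ≠ ⊤ := fun e => by
    have h3 : y ∈ center G := mem_center_iff.2 fun g => mem_centralizer_singleton_iff.1 (e.ge (mem_top g))
    have h4 := center_le_fit.trans fit_le_fstar h3
    rcases hF.eq_bot_or_eq_top_of_normal (center (generalizedFittingSubgroup G)) inferInstance with e1 | e1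
    · have : (⟨y, h4⟩ : generalizedFittingSubgroup G) ∈ center _ :=
        mem_center_iff.2 fun g => Subtype.ext (mem_center_iff.1 h3 g)
      rw [show y = 1 from congrArg Subtype.val (mem_bot.1 (e1.le this)), orderOf_one] at hy
      omega
    · exact hF' ⟨⟨fun a b => mem_center_iff.1 (e1.ge (mem_top b)) a⟩⟩
  have h5 := HasBProperty.isComponentOf (hsec 𝐂[y] (pPrimeCore 2 _) (Or.inl hH)) pPrimeCore_quotient_pPrimeCore
    ((orderOf_coreQ hxp hxH).trans hx) h2
  refine ⟨h5.2, fun E hE ho hn => ?_⟩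
  have h6 : E ≤ 𝐂[y] ⊓ 𝐂[x] := inf_comm 𝐂[x] 𝐂[y] ▸ hE
  rw [oddCore, map_pPrimeCore_subtype Nat.prime_two, ← mker_coreQ, ← mim_cent_iff (h1.1.trans inf_le_left) (h6.trans inf_le_left)]
  refine (IsComponentOf.le_or_le_cent h5 (mim_coreQ_inf_cent1 hxp hxH ▸ mim_mono _ h6)
    (mim_norm _ (le_norm_of_conj_mem hn))).resolve_left fun hle => ?_
  exact not_dvd_card_mim _ (Nat.two_dvd_ne_zero.2 (Nat.odd_iff.1 ho)) ((IsPComponentOf.dvd_card h2).trans (card_dvd_of_le hle))

end Cfsg.Agent.S1775
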