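import Cfsg.Statements.S1780
import Cfsg.Agent.Lib.Layer.Bender

set_option autoImplicit false
open Cfsg

namespace Cfsg.Agent.S1780

open Subgroup Cfsg.Lib.Core Cfsg.Lib.Amalg Cfsg.Lib.BG1 Cfsg.Lib.Layer

/-- Let A be a finite abelian 2-group and t an automorphism of A whose order is a power of 2. If every element of A fixed by t² is fixed by t, then t fixes every element of A. -/
theorem result {A : Type*} [CommGroup A] [Finite A]
    (hA : IsPGroup 2 A) (t : MulAut A) (ht : ∃ k : ℕ, orderOf t = 2 ^ k) (hC : ∀ a : A, t (t a) = a → t a = a) :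
    ∀ a : A, t a = a := by
  obtain ⟨k, hk⟩ := ht
  haveI : Fact (Nat.Prime 2) := ⟨Nat.prime_two⟩
  let δ : A →* A := t.toMonoidHom / MonoidHom.id A
  have hδ : ∀ a, δ a = t a / a := fun a => rfl
  let R : Subgroup A := δ.range ⊓ (powMonoidHom 2).ker
  by_contra hn
  have hR : R ≠ ⊥ := by
    obtain ⟨a, ha⟩ := not_forall.1 hn
    have : δ.range ≠ ⊥ := fun e => ha (div_eq_one.1 (mem_bot.1 (e ▸ (⟨a, rfl⟩ : δ a ∈ δ.range))))
    obtain ⟨⟨z, hz⟩, h2⟩ := exists_prime_orderOf_dvd_card' 2 (dvd_card_of_isPGroup_ne_bot (hA.to_subgroup _) this)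
    rw [← orderOf_coe] at h2
    intro e
    have : z ∈ R := ⟨hz, (show orderOf z = 2 from h2) ▸ pow_orderOf_eq_one z⟩
    rw [e, mem_bot] at this
    simp [this] at h2
  let X : SubMulAction (zpowers t) A := ⟨R, by
    rintro ⟨s, j, rfl⟩ _ ⟨⟨a, rfl⟩, h⟩
    refine ⟨⟨(t ^ j) a, ?_⟩, ?_⟩
    · change t ((t ^ j) a) / (t ^ j) a = (t ^ j) (t a / a)
      rw [map_div, ← MulAut.mul_apply, ← MulAut.mul_apply, (Commute.self_zpow t j).eq]
    · change ((t ^ j) (δ a)) ^ 2 = 1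
      rw [← map_pow, show δ a ^ 2 = 1 from h, map_one]⟩
  obtain ⟨⟨c, ⟨a, rfl⟩, h2⟩, hc, hne⟩ := (Lib.Amalg.isPGroup_zpowers_of_orderOf hk).exists_fixed_point_of_prime_dvd_card_of_fixed_point
    X (dvd_card_of_isPGroup_ne_bot (hA.to_subgroup R) hR) (a := ⟨1, R.one_mem⟩) fun s => Subtype.ext (map_one s.1)
  have h1 : t (δ a) = δ a := congrArg Subtype.val (hc ⟨t, mem_zpowers t⟩)
  have h2 : δ a ^ 2 = 1 := h2
  have h3 : t a = δ a * a := by rw [hδ, div_mul_cancel]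
  refine hne (Subtype.ext (div_eq_one.2 (hC a ?_)).symm)
  rw [h3, map_mul, h1, h3, ← mul_assoc, ← sq, h2, one_mul]

end Cfsg.Agent.S1780
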