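import Cfsg.Statements.S1781
import Cfsg.Agent.Lib.Layer.TI

set_option autoImplicit false
open Cfsg

namespace Cfsg.Agent.S1781

open Subgroup Cfsg.Lib.Core Cfsg.Lib.Amalg Cfsg.Lib.BG1 Cfsg.Lib.Layer

/-- Let A be an abelian 2-subgroup of the finite group G such that every conjugate of A equals A or meets A trivially, and let g ∈ G with g A g⁻¹ ≠ A. Then either the subgroup of those elements of A that normalize g A g⁻¹ is an elementary abelian 2-group, or A and g A g⁻¹ commute elementwise. -/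
theorem result {G : Type*} [Group G] [Finite G] (A : Subgroup G)
    (hA2 : IsPGroup 2 ↥A) (hAa : IsMulCommutative ↥A)
    (hti : ∀ h : G, A.map (MulAut.conj h).toMonoidHom = A ∨ A.map (MulAut.conj h).toMonoidHom ⊓ A = ⊥)
    (g : G) (hg : A.map (MulAut.conj g).toMonoidHom ≠ A) :
    Cfsg.IsElementaryAbelian 2 (A ⊓ Subgroup.normalizer ((A.map (MulAut.conj g).toMonoidHom : Subgroup G) : Set G)) ∨
      ⁅A, A.map (MulAut.conj g).toMonoidHom⁆ = ⊥ := by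
  change IsElementaryAbelian 2 (A ⊓ 𝐍(cj g A)) ∨ ⁅A, cj g A⁆ = ⊥
  have hd : cj g A ⊓ A = ⊥ := (hti g).resolve_left hg
  have hB2 : IsPGroup 2 (cj g A) := hA2.map _
  haveI : IsMulCommutative (cj g A) := map_isMulCommutative ..
  have hc := card_cj g A
  have hti' : ∀ h, cj h (cj g A) = cj g A ∨ cj h (cj g A) ⊓ cj g A = ⊥ := fun h => cj_mul h g A ▸ ti_cj hti _ g
  generalize cj g A = B at *
  refine or_iff_not_imp_left.2 fun h => ?_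
  obtain ⟨u, hu, hu2⟩ : ∃ u ∈ A ⊓ 𝐍(B), u ^ 2 ≠ 1 := by
    by_contra! c
    exact h ⟨⟨⟨fun a b => Subtype.ext (le_centralizer A b.2.1 _ a.2.1)⟩⟩, c⟩
  by_cases hB : B ≤ 𝐍(A)
  · exact ti_comm_of_norm hA2 hB2 hti' hc.ge (inf_comm A B ▸ hd) hB
  exfalso
  have hUV : A ⊓ 𝐍(B) ≤ 𝐂(B ⊓ 𝐍(A)) := comm_eq_bot_iff.1 (eq_bot_iff.2 ((le_inf
    ((commutator_mono le_rfl inf_le_left).trans (comm_le_right inf_le_right))
    ((commutator_mono inf_le_left le_rfl).trans (comm_le_left inf_le_right))).trans hd.le))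
  have hded : ∀ b ∈ B, b ∈ (B ⊓ 𝐍(A)) ⊔ (A ⊓ 𝐍(B)) → b ∈ 𝐍(A) := fun b _ hb =>
    (sup_le inf_le_right (inf_le_left.trans le_normalizer) : _ ≤ 𝐍(A)) hb
  have h1 : (B ⊓ 𝐍(A)) ⊔ (A ⊓ 𝐍(B)) < B ⊔ (A ⊓ 𝐍(B)) := (sup_le_sup_right inf_le_left _).lt_of_ne fun e =>
    hB fun b hb => hded b hb (e.ge (mem_sup_left hb))
  obtain ⟨x, hx, h2⟩ := SetLike.exists_of_lt (lt_inf_normalizer_of_lt
    (hB2.to_sup_of_normal_left' hA2.to_inf_left inf_le_right) h1)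
  obtain ⟨b₀, hb₀, a, ha, rfl⟩ := (mem_sup_of_le_normalizer_left inf_le_right).1 hx.1
  have h3 : b₀ ∈ 𝐍((B ⊓ 𝐍(A)) ⊔ (A ⊓ 𝐍(B))) := by
    simpa using Subgroup.mul_mem _ hx.2 (Subgroup.inv_mem _ (le_normalizer (mem_sup_right ha)))
  obtain ⟨n, hn⟩ := hB2 ⟨b₀, hb₀⟩
  obtain ⟨j, h4, h5⟩ := Lib.PGrp.exists_pow_not_mem_pow_mem (H := 𝐍(A)) (x := b₀) (congrArg Subtype.val hn)
    fun c => h2 (mul_mem (mem_sup_left ⟨hb₀, c⟩) (mem_sup_right ha))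
  have hb : b₀ ^ j ∈ B := pow_mem hb₀ j
  have h6 := pow_mem h3 j
  generalize b₀ ^ j = b at *
  have h7 : u * b⁻¹ * u⁻¹ ∈ B := (mem_normalizer_iff.1 hu.2 _).1 (inv_mem hb)
  have h8 : b * u * b⁻¹ * u⁻¹ ∈ B ⊓ 𝐍(A) := ⟨by simpa [mul_assoc] using mul_mem hb h7, (sup_le inf_le_right
    (inf_le_left.trans le_normalizer) : _ ≤ 𝐍(A)) (mul_mem ((mem_normalizer_iff.1 h6 u).1 (mem_sup_right hu))
      (inv_mem (mem_sup_right hu)))⟩
  have e1 := hUV hu _ h8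
  have e2 := hUV hu _ (⟨pow_mem hb 2, h5⟩ : b ^ 2 ∈ B ⊓ 𝐍(A))
  have e3 := le_centralizer B hb _ h7
  have e4 : b * u ^ 2 * b⁻¹ = u ^ 2 :=
    calc _ = b * u * b⁻¹ * u⁻¹ * (u * (b * u * b⁻¹ * u⁻¹)) * u := by rw [pow_two]; group
      _ = b * (u * b⁻¹ * u⁻¹ * b) * (u * b⁻¹ * u⁻¹) * u ^ 2 := by rw [← e1, pow_two]; group
      _ = b ^ 2 * u * (b ^ 2)⁻¹ * u := by rw [e3, pow_two, pow_two]; group
      _ = _ := by rw [e2, pow_two u]; group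
  rcases hti b with c | c
  · exact h4 (mem_normalizer_of_cj_le c.le)
  · exact hu2 (mem_bot.1 (c.le ⟨e4 ▸ conj_mem_cj b (pow_mem hu.1 2), pow_mem hu.1 2⟩))

end Cfsg.Agent.S1781
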