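import Cfsg.Statements.S1783
import Cfsg.Agent.Lib.Layer.TI

set_option autoImplicit false
open Cfsg

namespace Cfsg.Agent.S1783

open Subgroup Cfsg.Lib.Core Cfsg.Lib.Amalg Cfsg.Lib.BG1 Cfsg.Lib.Layer

/-- Let X be a finite group whose generalized Fitting subgroup equals its largest normal 2-subgroup Q, and let A be an abelian 2-subgroup of X such that every conjugate of A equals A or meets A trivially. Let B be the subgroup generated by the squares of the elements of A. Then B lies in Q, and if B is not an elementary abelian 2-group then the normal closure of B in X is commutative. -/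
theorem result {X : Type*} [Group X] [Finite X]
    (hX : Cfsg.generalizedFittingSubgroup X = Cfsg.pCore 2 X) (A : Subgroup X) (hA2 : IsPGroup 2 ↥A) (hAa : IsMulCommutative ↥A)
    (hti : ∀ h : X, A.map (MulAut.conj h).toMonoidHom = A ∨ A.map (MulAut.conj h).toMonoidHom ⊓ A = ⊥) :
    Subgroup.closure ((fun a : X => a ^ 2) '' (A : Set X)) ≤ Cfsg.pCore 2 X ∧
      (¬ Cfsg.IsElementaryAbelian 2 (Subgroup.closure ((fun a : X => a ^ 2) '' (A : Set X))) →
        IsMulCommutative ↥(Subgroup.normalClosure ((fun a : X => a ^ 2) '' (A : Set X)))) := by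
  have hC := fstar_eq_pCore_iff.1 hX
  haveI := pCore_normal 2 X
  have fam : ∀ B P : Subgroup X, IsMulCommutative B → (∀ h, cj h B = B ∨ cj h B ⊓ B = ⊥) → (∃ x ∈ B, x ^ 2 ≠ 1) →
      IsPGroup 2 P → ∀ g h, cj g B ≤ P → cj h B ≤ P → cj g B ≤ 𝐂(cj h B) := fun B P h1 h2 ⟨x, h3, h4⟩ hP g h a b => by
    by_cases e : cj g B = cj h B
    · rw [e]; exact le_centralizer _
    refine comm_eq_bot_iff.1 (ti_family (Δ := Set.range fun g => cj g B) ?_ ?_ ?_ ?_ hP _ ⟨g, rfl⟩ _ ⟨h, rfl⟩ a b e)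
    · rintro s _ ⟨g, rfl⟩; exact ⟨s * g, cj_mul ..⟩
    · rintro _ ⟨g, rfl⟩; exact ⟨_, conj_mem_cj g h3, by rwa [conj_pow, Ne, conj_eq_one_iff]⟩
    · rintro _ ⟨g, rfl⟩ _ ⟨h, rfl⟩; rw [card_cj, card_cj]
    · rintro _ ⟨g, rfl⟩ _ ⟨h, rfl⟩; exact ti_cj h2 g h
  have h1 : closure ((fun a : X => a ^ 2) '' (A : Set X)) ≤ pCore 2 X := by
    rw [closure_le]
    rintro _ ⟨a, ha, rfl⟩
    by_cases h : a ^ 2 = 1
    · simp [h]
    refine le_pCore_of_comm_le_frattini hC fun q hq => ?_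
    have := fam A (pCore 2 X ⊔ A) hAa hti ⟨a, ha, h⟩ ((isPGroup_pCore 2 X).to_sup_of_normal_left hA2) q 1
      (cj_le_of_le_of_mem_normalizer le_sup_right (le_normalizer (mem_sup_left hq))) ((cj_one A).le.trans le_sup_right)
      (conj_mem_cj q ha) a⁻¹ ((cj_one A).ge (inv_mem ha))
    have e : q * a ^ 2 * q⁻¹ * (a ^ 2)⁻¹ = (q * a * q⁻¹ * a⁻¹) ^ 2 :=
      calc _ = q * a * q⁻¹ * (q * a * q⁻¹ * a⁻¹) * a⁻¹ := by rw [pow_two]; group
        _ = _ := by rw [pow_two]; nth_rw 1 [← this]; group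
    rw [e]
    exact pow_mem_frattiniOf (isPGroup_pCore 2 X) (by
      simpa [mul_assoc] using mul_mem hq ((pCore_normal 2 X).conj_mem _ (inv_mem hq) a))
  have hBA : closure ((fun a : X => a ^ 2) '' (A : Set X)) ≤ A := (closure_le _).2 (by
    rintro _ ⟨a, ha, rfl⟩; exact pow_mem ha 2)
  have hn : 𝐍(A) ≤ 𝐍(closure ((fun a : X => a ^ 2) '' (A : Set X))) := le_normalizer_of_cj_le fun k hk => by
    rw [MonoidHom.map_closure, closure_le]
    rintro _ ⟨_, ⟨a, ha, rfl⟩, rfl⟩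
    exact subset_closure ⟨_, (mem_normalizer_iff.1 hk a).1 ha, (map_pow (MulAut.conj k) a 2).symm⟩
  refine ⟨h1, fun h => ?_⟩
  rw [← normalClosure_closure_eq_normalClosure]
  generalize closure ((fun a : X => a ^ 2) '' (A : Set X)) = B at *
  have hB : IsMulCommutative B := ⟨⟨fun a b => Subtype.ext (le_centralizer A (hBA b.2) _ (hBA a.2))⟩⟩
  have h2 := fun g h' => fam B _ hB (fun g => (hti g).imp (fun e => cj_of_mem_normalizer (hn (mem_normalizer_of_cj_le e.le)))
    fun e => eq_bot_iff.2 ((inf_le_inf (cj_mono g hBA) hBA).trans e.le)) (by by_contra! c; exact h ⟨hB, c⟩)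
    (isPGroup_pCore 2 X) g h' (cj_le_of_le_of_mem_normalizer h1 (by simp [normalizer_eq_top]))
    (cj_le_of_le_of_mem_normalizer h1 (by simp [normalizer_eq_top]))
  refine isMulCommutative_closure fun x hx y hy => ?_
  obtain ⟨a, ha, hx⟩ := Group.mem_conjugatesOfSet_iff.1 hx
  obtain ⟨b, hb, hy⟩ := Group.mem_conjugatesOfSet_iff.1 hy
  obtain ⟨g, rfl⟩ := isConj_iff.1 hx
  obtain ⟨k, rfl⟩ := isConj_iff.1 hy
  exact h2 k g (conj_mem_cj k hb) _ (conj_mem_cj g ha)

end Cfsg.Agent.S1783
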