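import Cfsg.Statements.S1785
import Cfsg.Agent.Lib.Layer.TI

set_option autoImplicit false
open Cfsg

namespace Cfsg.Agent.S1785

open Subgroup Cfsg.Lib.Core Cfsg.Lib.Amalg Cfsg.Lib.BG1 Cfsg.Lib.Layer
variable {X : Type*} [Group X] [Finite X] {A E : Subgroup X}

theorem between {T M N : Subgroup X} (hT : IsElementaryAbelian 2 T) (hN : N ≤ T) (hMN : M ≤ N) {k : ℕ}
    (h1 : Nat.card M ≤ 2 ^ k) (h2 : 2 ^ k ≤ Nat.card N) : ∃ L, M ≤ L ∧ L ≤ N ∧ IsElementaryAbelian 2 L ∧ Nat.card L = 2 ^ k := by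
  haveI := hT.1
  have n : ∀ Y, Y ≤ T → T ≤ 𝐍(Y) := fun Y h => le_norm_of_le_cent ((le_centralizer T).trans (cent_anti h))
  obtain ⟨L, a, b, -, c⟩ := exists_norm_between_card (p := 2) (fun x => ⟨1, Subtype.ext (by simpa using hT.2 _ x.2)⟩) hN
    (n _ hN) hMN (n _ (hMN.trans hN)) h1 h2
  exact ⟨L, a, b, ⟨⟨⟨fun x y => Subtype.ext (le_centralizer T (hN (b y.2)) _ (hN (b x.2)))⟩⟩,
    fun x hx => hT.2 x (hN (b hx))⟩, c⟩

theorem elem_of_le (hE : IsElementaryAbelian 2 E) (h : A ≤ E) : IsElementaryAbelian 2 A :=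
  haveI := hE.1
  ⟨⟨⟨fun x y => Subtype.ext (le_centralizer E (h y.2) _ (h x.2))⟩⟩, fun x hx => hE.2 x (h hx)⟩

theorem bound [E.Normal] (hE : IsElementaryAbelian 2 E) (h32 : 32 ≤ Nat.card E) (i j : ℕ) (hj : j ≤ 3) :
    ∀ A : Subgroup X, IsElementaryAbelian 2 A → Nat.card A = 2 ^ (i + j) → 2 ^ i ≤ Nat.card (A ⊓ E : Subgroup X) →
      2 ^ (if j = 0 then 5 else 4 - j) ≤ Nat.card (E ⊓ 𝐂(A) : Subgroup X) := by
  haveI := hE.1
  induction j with
  | zero =>
    intro A _ h1 h2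
    rwa [inf_eq_left.2 ((le_centralizer E).trans (cent_anti (inf_eq_left.1 (eq_of_le_of_card_ge inf_le_left (h1 ▸ h2)))))]
  | succ j ih =>
    intro A hA h1 h2
    haveI := hA.1
    obtain ⟨M, -, a, -, b⟩ := between hA inf_le_left bot_le (by simp [Nat.one_le_two_pow]) h2
    obtain ⟨L, c, d, e, f⟩ := between hA le_rfl (a.trans inf_le_left) (k := i + j)
      (b ▸ Nat.pow_le_pow_right two_pos (by omega)) (h1 ▸ Nat.pow_le_pow_right two_pos (by omega))
    have h3 := ih (by omega) L e f (b ▸ card_le_of_le (le_inf c (a.trans inf_le_right)))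
    obtain ⟨x, hx, hx'⟩ := SetLike.exists_of_lt (d.lt_of_ne fun c => by
      rw [c, h1] at f; simpa using Nat.pow_right_injective le_rfl f)
    have hn : x ∈ 𝐍(L) := le_norm_of_le_cent ((le_centralizer A).trans (cent_anti d)) hx
    have h4 : L ⊔ zpowers x = A := eq_of_le_of_card_ge (sup_le d (zpowers_le.2 hx)) (by
      rw [Lib.PGrp.card_sup_zpowers_of_mem_normalizer hn hx' (hA.2 x hx ▸ one_mem _), h1, f]; exact (pow_succ' ..).le)
    have h5 := Lib.PGrp.card_le_card_cent_pow (elem_of_le hE (inf_le_left : E ⊓ 𝐂(L) ≤ E)) (x := x)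
      (le_normalizer_inf (le_top.trans (normalizer_eq_top E).ge) (le_normalizer_centralizer (zpowers_le.2 hn))
        (mem_zpowers x)) (hA.2 x hx ▸ one_mem _)
    rw [← h4, Lib.Core.centralizer_sup, ← inf_assoc, centralizer_zpowers]
    obtain ⟨m, hm⟩ := (IsPGroup.iff_card (p := 2) (G := (E ⊓ 𝐂(L) ⊓ 𝐂[x] : Subgroup X))).1
      fun x => ⟨1, Subtype.ext (by simpa using hE.2 _ x.2.1.1)⟩
    have h6 := h3.trans h5
    rw [hm, ← pow_mul, Nat.pow_le_pow_iff_right one_lt_two] at h6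
    rw [hm, Nat.pow_le_pow_iff_right one_lt_two]
    rw [if_neg (by omega)]
    split_ifs at h6 <;> omega

theorem step [E.Normal] (hE : IsElementaryAbelian 2 E) (h32 : 32 ≤ Nat.card E) {i : ℕ} (hi : i < 3)
    (hA : IsElementaryAbelian 2 A) (h1 : Nat.card A = 8) (h2 : 2 ^ i ≤ Nat.card (A ⊓ E : Subgroup X)) :
    ∃ B, IsElementaryAbelian 2 B ∧ Nat.card B = 8 ∧ ⁅A, B⁆ = ⊥ ∧ 2 ^ (i + 1) ≤ Nat.card (B ⊓ E : Subgroup X) := by
  haveI := hA.1
  have h3 := bound hE h32 i (3 - i) (by omega) A hA (by rw [h1, Nat.add_sub_of_le hi.le]; rfl) h2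
  rw [if_neg (by omega), show 4 - (3 - i) = i + 1 by omega] at h3
  have hT := Lib.PGrp.isElementaryAbelian_sup hA (elem_of_le hE (inf_le_left : E ⊓ 𝐂(A) ≤ E)) inf_le_right
  obtain ⟨M, -, a, -, b⟩ := between hT le_sup_right bot_le (by simp [Nat.one_le_two_pow]) h3
  obtain ⟨L, c, d, e, f⟩ := between hT le_rfl (a.trans le_sup_right) (k := 3) (b ▸ Nat.pow_le_pow_right two_pos hi)
    (h1.ge.trans (card_le_of_le le_sup_left))
  exact ⟨L, e, f, comm_eq_bot_iff.2 (Lib.BG1.le_cent_symm (d.trans (sup_le (le_centralizer A) inf_le_right))),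
    b ▸ card_le_of_le (le_inf c (a.trans inf_le_left))⟩


/-- Let X be a finite 2-group having a normal elementary abelian subgroup of order at least 32. Then (a) for any two elementary abelian subgroups A, B of X of order 8 there is a chain A = A₁, A₂, …, Aₙ = B of elementary abelian subgroups of order 8 in which consecutive members commute elementwise; and (b) every elementary abelian subgroup of X of order 4 is contained in an elementary abelian subgroup of order 8. -/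
theorem result {X : Type*} [Group X] [Finite X]
    (hX : IsPGroup 2 X) (E : Subgroup X) [E.Normal] (hE : Cfsg.IsElementaryAbelian 2 E) (hE32 : 32 ≤ Nat.card ↥E) :
    (∀ A B : Subgroup X, Cfsg.IsElementaryAbelian 2 A → Nat.card ↥A = 8 → Cfsg.IsElementaryAbelian 2 B → Nat.card ↥B = 8 →
        Relation.ReflTransGen
          (fun C D : Subgroup X => Cfsg.IsElementaryAbelian 2 C ∧ Nat.card ↥C = 8 ∧ Cfsg.IsElementaryAbelian 2 D ∧ Nat.card ↥D = 8 ∧ ⁅C, D⁆ = ⊥)
          A B) ∧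
      (∀ V : Subgroup X, Cfsg.IsElementaryAbelian 2 V → Nat.card ↥V = 4 →
        ∃ A : Subgroup X, V ≤ A ∧ Cfsg.IsElementaryAbelian 2 A ∧ Nat.card ↥A = 8) := by
  haveI := hE.1
  refine ⟨fun A B a1 a2 b1 b2 => ?_, fun V h1 h2 => ?_⟩
  · obtain ⟨A1, a3, a4, a5, a6⟩ := step hE hE32 (i := 0) (by omega) a1 a2 Nat.card_pos
    obtain ⟨A2, a7, a8, a9, a10⟩ := step hE hE32 (by omega) a3 a4 a6
    obtain ⟨A3, a11, a12, a13, a14⟩ := step hE hE32 (by omega) a7 a8 a10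
    obtain ⟨B1, b3, b4, b5, b6⟩ := step hE hE32 (i := 0) (by omega) b1 b2 Nat.card_pos
    obtain ⟨B2, b7, b8, b9, b10⟩ := step hE hE32 (by omega) b3 b4 b6
    obtain ⟨B3, b11, b12, b13, b14⟩ := step hE hE32 (by omega) b7 b8 b10
    have a15 : A3 ≤ E := inf_eq_left.1 (eq_of_le_of_card_ge inf_le_left (a12 ▸ a14))
    have b15 : B3 ≤ E := inf_eq_left.1 (eq_of_le_of_card_ge inf_le_left (b12 ▸ b14))
    exact .head ⟨a1, a2, a3, a4, a5⟩ (.head ⟨a3, a4, a7, a8, a9⟩ (.head ⟨a7, a8, a11, a12, a13⟩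
      (.head ⟨a11, a12, b11, b12, comm_eq_bot_iff.2 (a15.trans ((le_centralizer E).trans (cent_anti b15)))⟩
      (.head ⟨b11, b12, b7, b8, commutator_eq_bot_symm b13⟩ (.head ⟨b7, b8, b3, b4, commutator_eq_bot_symm b9⟩
      (.single ⟨b3, b4, b1, b2, commutator_eq_bot_symm b5⟩))))))
  · have hT := Lib.PGrp.isElementaryAbelian_sup h1 (elem_of_le hE (inf_le_left : E ⊓ 𝐂(V) ≤ E)) inf_le_right
    refine (between hT le_rfl le_sup_left (k := 3) (by omega) ?_).imp fun _ h => ⟨h.1, h.2.2⟩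
    obtain ⟨m, hm⟩ := (IsPGroup.iff_card (p := 2) (G := (V ⊔ E ⊓ 𝐂(V) : Subgroup X))).1 (hX.to_subgroup _)
    by_contra! c
    have h3 : V = V ⊔ E ⊓ 𝐂(V) := eq_of_le_of_card_ge le_sup_left (by
      rw [hm, Nat.pow_lt_pow_iff_right one_lt_two] at c
      exact hm ▸ h2 ▸ Nat.pow_le_pow_right (n := 2) (j := 2) two_pos (by omega))
    have h4 := bound hE hE32 0 2 (by omega) V h1 h2 Nat.card_pos
    have h5 : E ⊓ 𝐂(V) = V := eq_of_le_of_card_ge (le_sup_right.trans h3.ge) (h2 ▸ h4)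
    have := (bound hE hE32 2 0 (by omega) V h1 h2 (by rw [inf_eq_left.2 (h5.ge.trans inf_le_left), h2]; rfl)).trans_eq
      (congrArg (fun H : Subgroup X => Nat.card H) h5)
    simp [h2] at this

end Cfsg.Agent.S1785
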