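import Cfsg.Statements.S1786
import Cfsg.Agent.Lib.Amalg.BigTI
import Cfsg.Agent.Lib.Layer.FStar
import Cfsg.Agent.Lib.BG1.Sec1

set_option autoImplicit false
open Cfsg

namespace Cfsg.Agent.S1786

open Subgroup Cfsg.Lib.Amalg
open Cfsg.Lib.Core hiding isPGroup_subgroupOf isPGroup_subgroupOf_iff isPGroup_map_subtype_iff isPGroup_zpowers_of_orderOf
open scoped commutatorElement

open Cfsg.Lib.Amalg.BigTI

/-- Let G be a finite group, V an elementary abelian 2-subgroup of G and M the normalizer of V; write Q for the largest normal 2-subgroup of M. Suppose (1) the generalized Fitting subgroup of M equals Q; (2) V is a maximal abelian normal subgroup of M; (3) every conjugate of V equals V or meets V trivially, and for some g ∈ G the conjugate V' = g V g⁻¹ is different from V and contained in Q. Let P be the centralizer of V in Q, W the subgroup generated by V and V', and H the subgroup generated by P and g P g⁻¹. Then: (a) V is contained in g Q g⁻¹; (b) every non-identity element of W lies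 in exactly one conjugate of V contained in W, H normalizes W, and H modulo the centralizer of W in H is isomorphic to the special linear group of dimension 2 over the field with |V| elements; (c) P = Q, and V equals the Frattini subgroup, the centre and the commutator subgroup of Q. -/
theorem result {G : Type*} [Group G] [Finite G] (V : Subgroup G)
    (hV : Cfsg.IsElementaryAbelian 2 V)
    (h1 : (Cfsg.generalizedFittingSubgroup ↥(Subgroup.normalizer (V : Set G))).map (Subgroup.normalizer (V : Set G)).subtype =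
      (Cfsg.pCore 2 ↥(Subgroup.normalizer (V : Set G))).map (Subgroup.normalizer (V : Set G)).subtype)
    (h2 : ∀ A : Subgroup G, V ≤ A → A ≤ Subgroup.normalizer (V : Set G) → IsMulCommutative ↥A →
      (∀ m ∈ Subgroup.normalizer (V : Set G), ∀ a ∈ A, m * a * m⁻¹ ∈ A) → A = V)
    (hti : ∀ x : G, V.map (MulAut.conj x).toMonoidHom = V ∨ V.map (MulAut.conj x).toMonoidHom ⊓ V = ⊥)
    (g : G) (hg : V.map (MulAut.conj g).toMonoidHom ≠ V)
    (hgQ : V.map (MulAut.conj g).toMonoidHom ≤ (Cfsg.pCore 2 ↥(Subgroup.normalizer (V : Set G))).map (Subgroup.normalizer (V : Set G)).subtype) :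
    let Q : Subgroup G := (Cfsg.pCore 2 ↥(Subgroup.normalizer (V : Set G))).map (Subgroup.normalizer (V : Set G)).subtype
    let P : Subgroup G := Q ⊓ Subgroup.centralizer (V : Set G)
    let W : Subgroup G := V ⊔ V.map (MulAut.conj g).toMonoidHom
    let H : Subgroup G := P ⊔ P.map (MulAut.conj g).toMonoidHom
    V ≤ Q.map (MulAut.conj g).toMonoidHom ∧
      (∀ w ∈ W, w ≠ 1 → ∃! U : Subgroup G, (∃ x : G, U = V.map (MulAut.conj x).toMonoidHom) ∧ U ≤ W ∧ w ∈ U) ∧
      H ≤ Subgroup.normalizer (W : Set G) ∧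
      (∀ hN : ((Subgroup.centralizer (W : Set G)).subgroupOf H).Normal, ∃ (F : Type) (_ : Field F) (_ : Fintype F), Fintype.card F = Nat.card ↥V ∧
        Nonempty (↥H ⧸ (Subgroup.centralizer (W : Set G)).subgroupOf H ≃* Matrix.SpecialLinearGroup (Fin 2) F)) ∧
      P = Q ∧ (frattini ↥Q).map Q.subtype = V ∧ (Subgroup.center ↥Q).map Q.subtype = V ∧ (commutator ↥Q).map Q.subtype = V := by
  have hs : St V := ⟨hV, hti, fun A a b c d => h2 A a b (isMulCommutative_iff_le_cent.2 c) fun m hm x hx =>
    conj_mem_of_mem_normalizer (d hm) hx,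
    charP_iff.2 (Cfsg.Lib.Layer.fstar_eq_pCore_iff.1 (map_injective (subtype_injective _) h1))⟩
  have c1 : Cl V V := ⟨hs, 1, (cj_one V).symm⟩
  have c2 : Cl V (cj g V) := c1.conj g
  have h : Pr V V (cj g V) := ⟨c1, c2, fun e => hg e.symm, le_inf hgQ
    (c1.cent_of_norm c2 (fun e => hg e.symm) (le_trans hgQ (op_le _)))⟩
  intro Q P W H
  have eQ : Q = Pv V := h.P_eq.symm
  have eH : H = Pv V ⊔ Pv (cj g V) := by rw [← cj_P]; rfl
  refine ⟨?_, fun w hw w1 => ?_, eH ▸ h.norm_W', fun hN => ?_, h.P_eq, eQ ▸ h.frattini_eq, ?_, ?_⟩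
  · change V ≤ cj g Q
    rw [eQ, cj_P]; exact h.symm.le
  · have : ∃ x : G, w ∈ cj x V := by
      by_cases i : w ∈ V
      · exact ⟨1, by rwa [cj_one]⟩
      · obtain ⟨x, -, e⟩ := h.part hw i
        exact ⟨x * g, by rwa [cj_mul]⟩
    obtain ⟨x, hx⟩ := this
    refine ⟨cj x V, ⟨⟨x, rfl⟩, h.le_W (c1.conj x) hw hx w1, hx⟩, ?_⟩
    rintro U ⟨⟨y, rfl⟩, -, i⟩
    exact (c1.conj y).eq_of_mem (c1.conj x) i hx w1
  · have := h.sl2
    rw [← eH] at this
    obtain ⟨F, _, _, hF, ρ, r1, r2⟩ := this
    obtain ⟨_, e⟩ := TV.equiv_of_ker r1 r2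
    exact ⟨F, _, _, hF, e⟩
  · rw [map_subtype_center, eQ]; exact h.center_eq
  · rw [Cfsg.Lib.BG1.map_commutator_subtype, eQ]; exact h.comm_eq

end Cfsg.Agent.S1786
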