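import Cfsg.Statements.S1847
import Cfsg.Agent.S1169
import Cfsg.Agent.Lib.BS.Bro
import Cfsg.Agent.Lib.Layer.Alp
import Cfsg.Agent.Lib.FT.Cor

set_option autoImplicit false
open Cfsg

namespace Cfsg.Agent.S1847
open Cfsg.Lib.Invol
open Cfsg.Lib.BS

open Subgroup Cfsg.Lib.Core Cfsg.Lib.Amalg Cfsg.Lib.BG1 Cfsg.Lib.Invol Cfsg.Lib.Layer

/-- Let G be a non-abelian finite simple QTKE-group and T a Sylow 2-subgroup of G lying in a unique maximal 2-local subgroup M of G. Suppose N_G(D) ≤ M for every member D of the Alperin–Goldschmidt conjugation family of T in G. Then every normal 2-subgroup of M is strongly closed in T with respect to G, and G is a Bender group: G is isomorphic to L₂(2ⁿ) (n ≥ 2), U₃(2ⁿ) (n ≥ 2) or Sz(2ⁿ) (n ≥ 3 odd). -/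
theorem result {G : Type*} [Group G] [Finite G] [IsSimpleGroup G]
    (hG : ¬ IsMulCommutative G) (hQ : Cfsg.IsQTKE G) (T : Sylow 2 G) (M : Subgroup G)
    (hM : Cfsg.maxTwoLocalsContaining (T : Subgroup G) = {M})
    (h : ∀ D ∈ Cfsg.agConjFamily (T : Subgroup G), Subgroup.normalizer (D : Set G) ≤ M) :
    (∀ U : Subgroup G, U ≤ M → M ≤ Subgroup.normalizer (U : Set G) → IsPGroup 2 ↥U →
        Cfsg.IsStronglyClosed U (T : Subgroup G)) ∧
      Cfsg.IsBenderGroup G := by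
  haveI := fact_two
  have hT := syl_top T
  obtain ⟨⟨⟨P, hP, hP1, hMP⟩, -⟩, hTM⟩ : M ∈ maxTwoLocalsContaining (T : Subgroup G) := hM ▸ rfl
  have fus : ∀ D ≤ (T : Subgroup G), ∀ g, cj g D ≤ T → ∃ m ∈ M, ∀ x ∈ D, g * x * g⁻¹ = m * x * m⁻¹ :=
    ag_ind (R := fun D g => ∃ m ∈ M, ∀ x ∈ D, g * x * g⁻¹ = m * x * m⁻¹) hT (fun D E g ⟨m, hm, e⟩ h1 => ⟨m, hm, fun x hx => e x (h1 hx)⟩)
      (fun D g k ⟨m, hm, e⟩ ⟨l, hl, e'⟩ => ⟨l * m, mul_mem hl hm, fun x hx => by
        have := e' _ (conj_mem_cj g hx)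
        rw [show k * g * x * (k * g)⁻¹ = k * (g * x * g⁻¹) * k⁻¹ by group, this, e x hx]; group⟩)
      (fun D c hc => ⟨1, one_mem _, fun x hx => by rw [← hc x hx]; group⟩) fun D hD _ n hn => by
        by_cases e : D = ⊥
        · exact ⟨1, one_mem _, fun x hx => by rw [mem_bot.mp (e.le hx)]; group⟩
        refine ⟨n, h D ⟨e, hD.le, hD.syl.exists_sylow', le_sup_right.trans hD.rad.ge, ?_, ?_⟩ hn, fun _ _ => rfl⟩
        · exact commutator_eq_bot_iff_le_centralizer.mpr ((map_pPrimeCore_subtype Nat.prime_two _).le.trans (le_sup_left.trans hD.cent_eq.le))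
        · refine (congrArg (· ⊔ D) (map_pPrimeCore_subtype Nat.prime_two _)).trans (Eq.trans ?_ hD.rad.symm)
          conv_rhs => rw [← hD.cent_eq, sup_left_comm, sup_inf_self]
  have sc : ∀ U : Subgroup G, U ≤ M → M ≤ normalizer (U : Set G) → IsPGroup 2 ↥U → IsStronglyClosed U (T : Subgroup G) :=
    fun U h1 h2 h3 => have h4 := (hT.of_le hTM le_top).le_of_normal h3 h1 h2
      ⟨h4, fun x hx g hg => by
        obtain ⟨m, hm, e⟩ := fus _ (zp_le.mpr (h4 hx)) g (by rwa [cj_zpowers, zp_le])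
        exact e x (mem_zpowers x) ▸ conj_mem_of_mem_normalizer (h2 hm) hx⟩
  have hse : ∃ H : Subgroup G, IsStronglyEmbedded H := by
    refine (S1169.result T (P ⊓ centralizer P) (by simpa using inf_center_ne_bot hP le_rfl le_normalizer hP1)
      (Lib.PGrp.isMulCommutative_iff_forall.mpr fun x hx y hy => hy.2 x hx.1) (sc _ (hMP ▸ inf_le_left.trans le_normalizer)
        (hMP ▸ le_normalizer_inf le_rfl (normalizer_le_normalizer_centralizer _)) hP.to_inf_left)).elim (fun hc => ⟨M, ?_⟩) id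
    obtain ⟨z, hz, hz2, -⟩ := Lib.Invol.exists_central hP hP1
    refine stronglyEmbedded_iff.mpr ⟨fun e => ?_, even_card_of_two_mem hz2 (hMP ▸ le_normalizer hz), fun t g ht h1 h2 => ?_⟩
    · rcases (normalizer_eq_top_iff.mp (hMP ▸ e)).eq_bot_or_eq_top with e | rfl
      · exact hP1 e
      · haveI := (hP.of_equiv topEquiv).isNilpotent
        exact hG ⟨⟨IsSimpleGroup.comm_iff_isSolvable.mpr inferInstance⟩⟩
    obtain ⟨m, hm, h3⟩ := (hT.of_le hTM le_top).exists_conj_le (isPGroup_zpowers_two ht) (zp_le.mpr h1)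
    obtain ⟨l, hl, h4⟩ := (hT.of_le hTM le_top).exists_conj_le (isPGroup_zpowers_two ((orderOf_conj g t).trans ht)) (zp_le.mpr h2)
    rw [cj_zpowers] at h3
    obtain ⟨n, hn, e⟩ := fus _ h3 (l * g * m⁻¹) (by rw [cj_zpowers] at h4 ⊢; convert h4 using 2; group)
    have h5 := (orderOf_conj m t).trans ht
    obtain ⟨N, h6, h7⟩ := exists_maximal_ge_of_wellFoundedGT (IsTwoLocal (G := G)) (normalizer (zpowers (m * t * m⁻¹) : Set G))
      ⟨_, isPGroup_zpowers_two h5, by simpa using ne_one_of_two h5, rfl⟩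
    have h8 : centralizer {m * t * m⁻¹} ≤ N := fun x hx => h6 (centralizer_le_normalizer _ (by rwa [zpowers_eq_closure, centralizer_closure]))
    obtain rfl : N = M := hM.le ⟨⟨h7.prop, fun N hN hle => le_antisymm (h7.le_of_ge hN hle) hle⟩,
      fun x hx => h8 (mem_cent1.mpr (Lib.PGrp.comm_of_mem hc hx (h3 (mem_zpowers _))))⟩
    have := h8 (mem_cent1.mpr (show Commute (n⁻¹ * (l * g * m⁻¹)) _ from by
      rw [Commute, SemiconjBy, mul_assoc n⁻¹, mul_inv_eq_iff_eq_mul.mp (e _ (mem_zpowers _))]; group))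
    exact (N.mul_mem_cancel_left hl).mp ((N.mul_mem_cancel_right (inv_mem hm)).mp ((N.mul_mem_cancel_left (inv_mem hn)).mp this))
  obtain ⟨H, hH⟩ := hse
  refine ⟨sc, ?_⟩
  rcases bro.bender hH with ⟨F, _, _, ⟨n, h1, h2⟩, e⟩ | h1 | h1
  · exact Or.inl ⟨F, _, _, charP_two_of_card h2, h2 ▸ Nat.pow_le_pow_right two_pos h1, e⟩
  · exact Or.inr (Or.inr h1)
  · exact Or.inr (Or.inl h1)

end Cfsg.Agent.S1847
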