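import Cfsg.Statements.S1892
import Cfsg.Agent.Lib.Layer.Baer

set_option autoImplicit false
open Cfsg

namespace Cfsg.Agent.S1892

open Subgroup Cfsg.Lib.Core Cfsg.Lib.Amalg Cfsg.Lib.BG1 Cfsg.Lib.Layer

/-- Let S be a finite p-solvable group with no nontrivial normal subgroup of order prime to p, A a p-subgroup of S, and Q a nontrivial A-invariant subgroup of order prime to p with [A, Q] = Q. Then the commutator [O_p(S), A, Q] is nontrivial. -/
theorem result {S : Type*} [Group S] [Finite S] {p : ℕ} [Fact p.Prime]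
    (hS : Cfsg.IsPSolvable p S) (hred : Cfsg.pPrimeCore p S = ⊥)
    (A Q : Subgroup S) (hA : IsPGroup p A) (hQ : ¬ p ∣ Nat.card Q) (hQ1 : Q ≠ ⊥)
    (hinv : ∀ a ∈ A, ∀ x ∈ Q, a * x * a⁻¹ ∈ Q) (hAQ : ⁅A, Q⁆ = Q) :
    ⁅⁅Cfsg.pCore p S, A⁆, Q⁆ ≠ ⊥ := by
  intro h
  haveI := pCore_normal (p := p) (G := S)
  have hp : p.Prime := Fact.out
  have hQ' := ((Nat.Prime.coprime_iff_not_dvd hp).2 hQ).symm
  have hAQ' : A ≤ 𝐍(Q) := le_norm_of_conj_mem hinv
  have hP := isPGroup_pCore p S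
  have hn : Q ≤ 𝐍(pCore p S) := le_normalizer_of_normal'
  refine hQ1 (eq_bot_of_pPrime_le hQ' hP (le_trans (comm_eq_bot_iff'.1 ?_) (centralizer_pCore_le_of_isPSolvable hp hS hred)))
  set W := ⁅pCore p S, Q⁆ with hW
  have hWP : W ≤ pCore p S := comm_le_left hn
  have hWp := hP.to_le hWP
  have hQW : Q ≤ 𝐍(W) := right_le_normalizer_comm _ _
  have hAW : A ≤ 𝐍(W) := le_normalizer_commutator le_normalizer_of_normal' hAQ'
  have hWQ : ⁅W, Q⁆ = W := comm_comm_eq_of_pPrime hQ' hP hn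
  by_contra hne
  refine (der_lt_of_solvable (isSolvable_of_isPGroup hp hWp) hne).not_ge (hWQ.ge.trans ?_)
  have hD : W ≤ 𝐍(⁅W, W⁆) := left_le_normalizer_comm _ _
  refine commutator_le_of_le_centQuo hD (hAQ.ge.trans ((commutator_mono (le_centQuo hD (le_norm_der hAW) ?_) le_rfl).trans
    (comm_le_left (le_norm_centQuo (le_norm_der hQW) hQW))))
  refine le_trans (le_inf (comm_le_left hAW) ((commutator_mono hWP le_rfl).trans (comm_eq_bot_iff.1 h))) ?_
  exact (le_inf le_rfl (inf_le_left.trans hWQ.ge)).trans (inf_cent_inf_comm_le_der hQW (coprime_card_of_pPrime hQ' hWp))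

end Cfsg.Agent.S1892
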