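import Cfsg.Statements.S1893
import Cfsg.Agent.Lib.Glaub.Stab
import Cfsg.Agent.Lib.Layer.FStar
import Cfsg.Agent.Lib.Amalg.Bridge
import Cfsg.Agent.Lib.Coprime.Basic
import Cfsg.Agent.Lib.Core.PiCore

set_option autoImplicit false
open Cfsg

namespace Cfsg.Agent.S1893

open Subgroup Cfsg.Lib Cfsg.Lib.Layer Cfsg.Lib.Glaub
open scoped commutatorElement

theorem quad {S : Type*} [Group S] [Finite S] [Group.IsSolvable S]
    (h5 : ∀ p : ℕ, p.Prime → p < 5 → pCore p S = ⊥) {C : Subgroup S}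
    (hC : ⁅⁅fittingSubgroup S, C⁆, C⁆ = ⊥) : C ≤ fittingSubgroup S := by
  refine Transfer.le_of_forall_prime_pow fun q hq c hc ⟨k, hk⟩ => ?_
  haveI := Fact.mk hq
  haveI := fit_normal (G := S)
  have hcF := centralizer_fit_le_iff.2 (layer_eq_bot_of_isSolvable (G := S))
  set W := fittingSubgroup S ⊓ pPrimeCore q S with hW
  have hWq : (Nat.card W).Coprime q := (Core.coprime_card_pPrimeCore q S).coprime_dvd_left (card_dvd_of_le inf_le_right)
  have hF : fittingSubgroup S ≤ pCore q S ⊔ W := by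
    intro x hx
    obtain ⟨a, ha, b, hb, rfl⟩ := mem_sup_of_normal_right.1 (fit_le_pCore_sup_pPrimeCore hq hx)
    exact mul_mem (mem_sup_left ha) (mem_sup_right (mem_inf.2 ⟨(mul_mem_cancel_left (pCore_le_fit ha)).1 hx, hb⟩))
  have hq' : ∀ V : Subgroup S, V ≤ fittingSubgroup S → ⁅⁅V, zpowers c⁆, zpowers c⁆ = ⊥ := fun V hV =>
    le_bot_iff.1 (hC ▸ commutator_mono (commutator_mono hV (zpowers_le.2 hc)) (zpowers_le.2 hc))
  have hn : (⊤ : Subgroup S) ≤ normalizer ((centralizer (pCore q S : Set S) : Subgroup S) : Set S) :=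
    le_normalizer_of_normal
  let N := opMod q ⊤ (centralizer (pCore q S : Set S)) ⊓ centralizer (W : Set S)
  haveI : (opMod q ⊤ (centralizer (pCore q S : Set S))).Normal := normalizer_eq_top_iff.1 (top_le_iff.1 (le_norm_opMod hn))
  haveI : N.Normal := inferInstance
  have hcN : c ∈ N := by
    refine mem_inf.2 ⟨?_, ?_⟩
    · by_cases h : q < 5
      · refine inf_le_opMod hn (mem_inf.2 ⟨trivial, ?_⟩)
        rw [h5 q hq h]
        intro y hy
        rw [SetLike.mem_coe, mem_bot] at hy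
        simp [hy]
      · refine stab_of_sl2 (by omega) (Core.isPGroup_pCore q S) le_normalizer_of_normal
          (not_involves_sl2_of_isPSolvable (by omega) (Core.isPSolvable_of_isSolvable hq)) c trivial (hq' _ pCore_le_fit)
    · refine Coprime.le_centralizer_of_commutator_commutator_eq_bot le_normalizer_of_normal ?_ (hq' _ inf_le_left)
        (mem_zpowers c)
      rw [Nat.card_zpowers]
      exact (Nat.Coprime.pow_left k hWq.symm).coprime_dvd_left (orderOf_dvd_of_pow_eq_one hk)
  refine fit_le (N := N) ?_ hcN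
  have hP : IsPGroup q (N ⧸ center N) := by
    intro y
    obtain ⟨⟨y, hy⟩, rfl⟩ := QuotientGroup.mk_surjective y
    obtain ⟨m, hm⟩ := Transfer.exists_pow_coprime_orderOf (p := q) y
    refine ⟨m, ?_⟩
    rw [← QuotientGroup.mk_pow, QuotientGroup.eq_one_iff]
    have h1 : y ^ q ^ m ∈ N := pow_mem hy _
    have h2 : y ^ q ^ m ∈ centralizer (pCore q S : Set S) :=
      res_opMod_le (p := q) hn (by rw [← Amalg.resOf_eq_res]; exact Transfer.mem_resOf (mem_inf.1 h1).1 hm)
    have h3 : y ^ q ^ m ∈ fittingSubgroup S := hcF fun z hz => by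
      have : pCore q S ⊔ W ≤ centralizer ({y ^ q ^ m} : Set S) :=
        sup_le (fun w hw => mem_centralizer_singleton_iff.2 (h2 w hw))
          fun w hw => mem_centralizer_singleton_iff.2 ((mem_inf.1 h1).2 w hw)
      exact mem_centralizer_singleton_iff.1 (this (hF hz))
    have h4 : y ^ q ^ m ∈ W := by
      refine Core.le_of_coprime_card_relIndex (L := fittingSubgroup S) (zpowers_le.2 h3) le_normalizer_of_normal ?_ (mem_zpowers _)
      obtain ⟨j, hj⟩ := Transfer.relIndex_eq_pow_of_pow_mem (p := q) (H := fittingSubgroup S) (K := W) le_normalizer_of_normal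
        fun x hx => by
          obtain ⟨a, ha, b, hb, rfl⟩ := mem_sup_of_normal_right.1 (hF hx)
          obtain ⟨i, hi⟩ := Amalg.isPGroup_iff_mem.1 (Core.isPGroup_pCore q S) a ha
          refine ⟨i, (QuotientGroup.eq_one_iff _).1 ?_⟩
          rw [QuotientGroup.mk_pow, QuotientGroup.mk_mul, (QuotientGroup.eq_one_iff b).2 hb, mul_one,
            ← QuotientGroup.mk_pow, hi, QuotientGroup.mk_one]
      rw [hj, Nat.card_zpowers]
      exact hm.pow_right _
    exact mem_center_iff.2 fun ⟨z, hz⟩ => Subtype.ext ((mem_inf.1 hz).2 _ h4).symm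
  exact Group.of_quotient_center_nilpotent hP.isNilpotent

/-- Let S be a finite solvable group, π a set of primes containing neither 2 nor 3, H a Hall π-subgroup of S, and A a self-centralizing normal subgroup of the Fitting subgroup F(H). Then C_S(A) = A × D for a normal subgroup D of C_S(A) whose order has no prime divisor in π. -/
theorem result {S : Type*} [Group S] [Finite S] [Group.IsSolvable S]
    (π : Set ℕ) (h2 : 2 ∉ π) (h3 : 3 ∉ π) (H : Subgroup S) (hH : Cfsg.IsPiHall π H)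
    (A : Subgroup S) (hA : Cfsg.IsSCN ((Cfsg.fittingSubgroup H).map H.subtype) A) :
    ∃ D : Subgroup S, D ≤ Subgroup.centralizer (A : Set S) ∧
      (∀ c ∈ Subgroup.centralizer (A : Set S), ∀ d ∈ D, c * d * c⁻¹ ∈ D) ∧
      A ⊓ D = ⊥ ∧ A ⊔ D = Subgroup.centralizer (A : Set S) ∧
      ∀ q : ℕ, q.Prime → q ∣ Nat.card D → q ∉ π := by
  obtain ⟨hAF, hFN, hFC⟩ := hA
  set M := piCore πᶜ S with hM
  set f := QuotientGroup.mk' M with hf
  have hFH : (fittingSubgroup H).map H.subtype ≤ H := map_subtype_le _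
  have hHM : H ⊓ M = ⊥ := Core.inf_eq_bot_of_isPi_of_isPi_compl hH.1 (Core.isPi_piCore _ _)
  have hker : f.ker = M := QuotientGroup.ker_mk' M
  have hinj : ∀ x ∈ H, f x = 1 → x = 1 := fun x hx e =>
    mem_bot.1 (hHM ▸ mem_inf.2 ⟨hx, hker ▸ e⟩)
  have hO : ∀ p : ℕ, p.Prime → p ∉ π → pCore p (S ⧸ M) = ⊥ := fun p hp hπ => by
    refine le_bot_iff.1 (Core.piCore_quotient_piCore (π := πᶜ) (G := S) ▸ Core.le_piCore ?_)
    exact ((Core.isPGroup_iff_isPiNumber hp).1 (Core.isPGroup_pCore p _)).mono (by simpa using hπ)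
  haveI := fit_normal (G := S ⧸ M)
  have hFπ : Core.IsPiNumber π (Nat.card (fittingSubgroup (S ⧸ M))) := fun p hp hd => by
    by_contra hπ
    have := fit_le_pCore_sup_pPrimeCore (G := S ⧸ M) hp
    rw [hO p hp hπ, bot_sup_eq] at this
    exact (Core.coprime_iff_not_dvd hp).1 (Core.coprime_card_pPrimeCore p _) (hd.trans (card_dvd_of_le this))
  have hFle : fittingSubgroup (S ⧸ M) ≤ H.map f := Core.le_of_normal_of_coprime_index
    (hFπ.coprime_compl ((Core.isPiNumber_compl_iff.2 hH.2).of_dvd (index_map_dvd _ (QuotientGroup.mk'_surjective M))))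
  have hF2 : fittingSubgroup (S ⧸ M) ≤ ((fittingSubgroup H).map H.subtype).map f := by
    have h1 : H ⊓ (fittingSubgroup (S ⧸ M)).comap f ≤ (fittingSubgroup H).map H.subtype := by
      refine le_fitOf inf_le_left (Core.le_normalizer_inf le_normalizer le_normalizer_of_normal) ?_
      haveI := fit_nilpotent (G := S ⧸ M)
      let g : (H ⊓ (fittingSubgroup (S ⧸ M)).comap f : Subgroup S) →* fittingSubgroup (S ⧸ M) :=
        (f.comp (Subgroup.subtype _)).codRestrict _ fun x => (mem_inf.1 x.2).2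
      refine Group.nilpotent_of_mulEquiv (MonoidHom.ofInjective (f := g) ?_).symm
      rw [injective_iff_map_eq_one]
      intro x hx
      exact Subtype.ext (hinj _ (mem_inf.1 x.2).1 (congrArg Subtype.val hx))
    intro y hy
    obtain ⟨x, hx, rfl⟩ := hFle hy
    exact mem_map_of_mem f (h1 (mem_inf.2 ⟨hx, hy⟩))
  have hN : fittingSubgroup (S ⧸ M) ≤ normalizer ((A.map f : Subgroup _) : Set (S ⧸ M)) :=
    hF2.trans ((map_mono hFN).trans (le_normalizer_map f))
  have hCA : fittingSubgroup (S ⧸ M) ⊓ centralizer ((A.map f : Subgroup _) : Set (S ⧸ M)) ≤ A.map f := by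
    intro y hy
    obtain ⟨x, hx, rfl⟩ := hF2 (mem_inf.1 hy).1
    refine mem_map_of_mem f (hFC ▸ mem_inf.2 ⟨hx, fun a ha => ?_⟩)
    have h1 := (mem_inf.1 hy).2 (f a) (mem_map_of_mem f ha)
    have h3 := hinj ⁅a, x⁆ (mul_mem (mul_mem (mul_mem (hFH (hAF ha)) (hFH hx)) (inv_mem (hFH (hAF ha)))) (inv_mem (hFH hx))) (by
      rw [map_commutatorElement, commutatorElement_eq_one_iff_mul_comm, h1])
    exact commutatorElement_eq_one_iff_mul_comm.1 h3
  have hQ : centralizer ((A.map f : Subgroup _) : Set (S ⧸ M)) ≤ fittingSubgroup (S ⧸ M) := by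
    refine quad (fun p hp h => hO p hp ?_) ?_
    · have := hp.two_le
      interval_cases p
      · exact h2
      · exact h3
      · exact absurd hp (by decide)
    · rw [commutator_eq_bot_iff_le_centralizer, le_centralizer_iff]
      refine centralizer_le (le_trans (le_inf (commutator_le_left _ _) ?_) hCA)
      rw [commutator_comm]
      exact Coprime.commutator_le_of_le_normalizer (hN.trans (Core.normalizer_le_normalizer_centralizer _))
  have hAC : A ≤ centralizer (A : Set S) := hFC.ge.trans inf_le_right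
  refine ⟨centralizer (A : Set S) ⊓ M, inf_le_left, fun c hc d hd => mem_inf.2 ⟨mul_mem (mul_mem hc (mem_inf.1 hd).1) (inv_mem hc),
    Normal.conj_mem inferInstance _ (mem_inf.1 hd).2 c⟩, le_bot_iff.1 (hHM ▸ inf_le_inf (hAF.trans hFH) inf_le_right),
    le_antisymm (sup_le hAC inf_le_left) fun c hc => ?_, Core.isPi_of_le (Core.isPi_piCore πᶜ S) inf_le_right⟩
  have h1 : f c ∈ centralizer ((A.map f : Subgroup _) : Set (S ⧸ M)) := by
    rintro _ ⟨a, ha, rfl⟩
    rw [← map_mul, hc a ha, map_mul]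
  obtain ⟨a, ha, e⟩ := hCA (mem_inf.2 ⟨hQ h1, h1⟩)
  have h4 : a⁻¹ * c ∈ M := hker ▸ (by rw [MonoidHom.mem_ker, map_mul, map_inv, e, inv_mul_cancel])
  simpa using mul_mem (mem_sup_left ha) (mem_sup_right (mem_inf.2 ⟨mul_mem (inv_mem (hAC ha)) hc, h4⟩) :
    a⁻¹ * c ∈ A ⊔ centralizer (A : Set S) ⊓ M)

end Cfsg.Agent.S1893
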