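import Cfsg.Statements.S1895
import Cfsg.Agent.Lib.Layer.PCentral

set_option autoImplicit false
open Cfsg

namespace Cfsg.Agent.S1895

open Subgroup Cfsg.Lib.Core Cfsg.Lib.Amalg Cfsg.Lib.BG1 Cfsg.Lib.Layer

/-- Let p be an odd prime and G a finite p-solvable group with no elementary abelian subgroup of order p³. Then every chief factor H/K of G (H, K normal in G with no normal subgroup of G strictly between them) whose order is a power of p has order p or p². -/
theorem result {G : Type*} [Group G] [Finite G] {p : ℕ} [Fact p.Prime] (hp : p ≠ 2)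
    (hG : Cfsg.IsPSolvable p G) (hr : Cfsg.PRankLE p 2 G)
    (H K : Subgroup G) [H.Normal] [K.Normal] (hKH : K < H) (hpow : ∃ n : ℕ, K.relIndex H = p ^ n)
    (hchief : ∀ L : Subgroup G, L.Normal → K ≤ L → L ≤ H → L = K ∨ L = H) :
    K.relIndex H = p ∨ K.relIndex H = p ^ 2 := by
  have hpp : p.Prime := Fact.out
  obtain ⟨n, hn⟩ := hpow
  obtain ⟨P, hP⟩ := exists_syl p H
  have hKP : K ⊔ P = H := hP.sup_eq_of_relIndex_pow hKH.le hn
  have hsub : ∀ T ≤ P, 𝐍 P ≤ 𝐍 T → K ⊔ T = K ∨ K ⊔ T = H := by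
    intro T hT hN
    refine hchief _ (normalizer_eq_top_iff.1 (top_le_iff.1 fun g _ => ?_)) le_sup_left
      (sup_le hKH.le (hT.trans hP.le))
    obtain ⟨h, hh, a, ha, rfl⟩ := hP.frattini_mem (g := g) (le_normalizer_of_normal (mem_top g))
    have h1 : 𝐍 P ≤ 𝐍 (K ⊔ T) := le_normalizer_sup le_normalizer_of_normal hN
    rw [← hKP] at hh
    exact mul_mem (sup_le (le_sup_left.trans le_normalizer) (le_normalizer.trans h1) hh) (h1 ha)
  have hΦ : (frattini P).map P.subtype ≤ K := by
    rcases hsub _ (frattiniOf_le P) (normalizer_le_normalizer_frattiniOf P) with h | h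
    · exact h ▸ le_sup_right
    · have h1 : (K ⊓ P) ⊔ (frattini P).map P.subtype = P := by
        rw [sup_comm, ← sup_inf_assoc_of_le_normalizer le_normalizer_of_normal (frattiniOf_le P), sup_comm, h,
          inf_eq_right.2 hP.le]
      have h2 := eq_of_sup_frattiniOf_eq inf_le_right h1.ge
      rw [inf_eq_right] at h2
      exact absurd (hKP ▸ sup_le le_rfl h2) (not_le_of_gt hKH)
  obtain ⟨T, hTP, hTn, h1, h2⟩ := exists_two_step hp hP.isPGroup (Lib.PGrp.pRankLE_subgroup hr P)
  have h3 : K.relIndex H ≤ p ^ 2 := by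
    rcases hsub T hTP hTn with h | h
    · rw [← hKP, relIndex_sup_left]
      exact (relIndex_le_of_le_left (h ▸ le_sup_right) index_ne_zero_of_finite).trans h1
    · rw [← h, relIndex_sup_left]
      exact h2 K ((frattiniOf_mono hP.isPGroup hTP).trans hΦ)
  rw [hn] at h3 ⊢
  have h4 := (Nat.pow_le_pow_iff_right hpp.one_lt).1 h3
  have h5 : n ≠ 0 := fun h => by
    rw [h, pow_zero, relIndex_eq_one] at hn; exact absurd hn (not_le_of_gt hKH)
  rcases (by omega : n = 1 ∨ n = 2) with rfl | rfl
  · exact Or.inl (pow_one p)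
  · exact Or.inr rfl

end Cfsg.Agent.S1895
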