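import Cfsg.Statements.S1897
import Cfsg.Agent.Lib.Linear.SmallIso
import Cfsg.Agent.Lib.Comp.U33x.Mat
import Cfsg.Agent.Lib.Comp.Subst2
-- import your own Cfsg.Agent.* helpers here

set_option autoImplicit false
open Cfsg

namespace Cfsg.Agent.S1897

open Cfsg.Lib.Comp Cfsg.Lib.Comp.U33x Cfsg.Lib.Linear Subgroup

/-- The projective special unitary group PSU₃(3) (realised over the field with 9 elements) has a subgroup isomorphic to PSL₂(7). -/
theorem result {F : Type*} [Field F] [Fintype F] (hF : Fintype.card F = 9)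
    {K : Type*} [Field K] [Fintype K] (hK : Fintype.card K = 7) :
    ∃ H : Subgroup (Cfsg.PSU 3 F 3), Nonempty (H ≃* Matrix.ProjectiveSpecialLinearGroup (Fin 2) K) := by
  obtain ⟨e⟩ := iso hF
  have k : ∀ {u : List ℕ} {n}, eqB 64 6 0 6 nets u n [] = true → ev (gp nets) u ^ (n + 1) = 1 :=
    eq_of_eqB nets_ok (by norm_num)
  let y := ev (gp nets) [5, 7, 5]
  have hy : y ^ 3 = 1 := k (by decide +kernel)
  obtain ⟨φ, h1, h2⟩ := exists_hom_SL32 (G := cl (gp nets) L) (x := ⟨ev (gp nets) [7], ev_mem fun x hx => mem_cl (by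
    revert x; decide)⟩) (y := ⟨y, ev_mem fun x hx => mem_cl (by revert x; decide)⟩)
    (Subtype.ext ((pow_two _).symm.trans (k (by decide +kernel)))) (Subtype.ext hy)
    (Subtype.ext (by
      have := k (u := [7] ++ [5, 7, 5]) (n := 6) (by decide +kernel)
      rwa [ev_append] at this))
    (Subtype.ext (by
      have := k (u := [7] ++ [5, 7, 5] ++ [7] ++ ([5, 7, 5] ++ [5, 7, 5])) (n := 3) (by decide +kernel)
      rwa [ev_append, ev_append, ev_append, ev_append,
        eq_inv_of_mul_eq_one_left (a := y * y) (b := y) (by rw [← hy, pow_succ, pow_two])] at this))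
  have hi := inj_of_simple (sl_isSimpleGroup_of_card_two (ι := Fin 3) (Nat.card_zmod 2) (by simp)) (f := φ) (g := l32x)
    fun h => ne_of_wap (tbA_pt nets_ok) (u := [7]) (w := []) (p := 0) (by decide +kernel)
      (congrArg Subtype.val (h1.symm.trans h))
  obtain ⟨e1⟩ := nonempty_SL32_equiv_PSL27
  obtain ⟨e2⟩ := nonempty_psl_equiv_of_card_eq (ι := Fin 2)
    ((Nat.card_zmod 7).trans (hK.symm.trans Nat.card_eq_fintype_card.symm))
  exact ⟨_, ⟨(MonoidHom.ofInjective (f := e.toMonoidHom.comp φ) (e.injective.comp hi)).symm.trans (e1.trans e2)⟩⟩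

end Cfsg.Agent.S1897
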