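import Cfsg.Statements.S1898
import Cfsg.Agent.Lib.Layer.Spec
import Cfsg.Agent.Lib.Coprime.ActionForm

set_option autoImplicit false
open Cfsg

namespace Cfsg.Agent.S1898

open Subgroup Cfsg.Lib.Core Cfsg.Lib.Amalg Cfsg.Lib.BG1 Cfsg.Lib.Layer
open scoped commutatorElement

/-- Let X be a finite 2-group whose derived subgroup is elementary abelian and central. Then the subgroup generated by the elements of order dividing 4 has exponent dividing 4, and every automorphism of X fixing each element of order dividing 4 has 2-power order. -/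
theorem result {X : Type*} [Group X] [Finite X] (hX : IsPGroup 2 X)
    (hel : Cfsg.IsElementaryAbelian 2 (commutator X)) (hcen : commutator X ≤ Subgroup.center X) :
    (∀ x ∈ Subgroup.closure {g : X | g ^ 4 = 1}, x ^ 4 = 1) ∧
      ∀ φ : MulAut X, (∀ g : X, g ^ 4 = 1 → φ g = g) → ∃ k : ℕ, φ ^ (2 ^ k) = 1 := by
  classical
  refine ⟨fun x hx => ?_, fun φ hφ => ?_⟩
  · induction hx using Subgroup.closure_induction with
    | mem x hx => exact hx
    | one => exact one_pow _
    | inv x _ hx => rw [inv_pow, hx, inv_one]
    | mul x y _ _ hx hy =>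
      have hc : ⁅y, x⁆ ∈ commutator X := commutator_mem_commutator (mem_top _) (mem_top _)
      set c := ⁅y, x⁆ with hcdef
      have hz : ∀ g : X, g * c = c * g := fun g => mem_center_iff.1 (hcen hc) g
      have h2 : c * c = 1 := by rw [← sq]; exact hel.2 c hc
      have hyx : y * x = c * (x * y) := by rw [hcdef, commutatorElement_def]; group
      have e1 : (x * y) ^ 2 = c * (x ^ 2 * y ^ 2) := by
        calc (x * y) ^ 2 = x * (y * x) * y := by rw [sq]; group
          _ = (x * c) * (x * y) * y := by rw [hyx]; group
          _ = _ := by rw [hz x]; simp only [sq, mul_assoc]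
      have e2 : y ^ 2 * x = x * y ^ 2 := by
        calc y ^ 2 * x = y * (y * x) := by rw [sq, mul_assoc]
          _ = (y * c) * x * y := by rw [hyx]; group
          _ = c * (y * x) * y := by rw [hz y]; group
          _ = (c * c) * (x * (y * y)) := by rw [hyx]; group
          _ = _ := by rw [h2, one_mul, sq]
      have hcm : Commute (y ^ 2) (x ^ 2) := (Commute.pow_right (a := y ^ 2) (b := x) e2 2)
      have e3 : (x * y) ^ 4 = (c * (x ^ 2 * y ^ 2)) ^ 2 := by rw [← e1, ← pow_mul]
      have hcc : Commute c (x ^ 2 * y ^ 2) := (hz _).symm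
      rw [e3, hcc.mul_pow, hcm.symm.mul_pow, ← pow_mul, ← pow_mul, sq c, h2]
      norm_num [hx, hy]
  · obtain ⟨k, m, hm, e⟩ := Nat.exists_eq_two_pow_mul_odd (n := orderOf φ) (orderOf_pos φ).ne'
    refine ⟨k, Lib.Coprime.aut_eq_one_of_omega_two hX ?_ fun x hx => ?_⟩
    · have : orderOf (φ ^ 2 ^ k) = m := by
        rw [orderOf_pow' _ (by positivity), e, Nat.gcd_eq_right (dvd_mul_right _ _),
          Nat.mul_div_cancel_left _ (by positivity)]
      rw [this]; exact Nat.coprime_two_right.2 hm
    · generalize 2 ^ k = n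
      induction n with
      | zero => rfl
      | succ n ih => rw [pow_succ, MulAut.mul_apply, hφ x hx, ih]

end Cfsg.Agent.S1898
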