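import Cfsg.Statements.S1899
import Cfsg.Agent.Lib.Layer.Bender
import Cfsg.Agent.Lib.Invol.Isolated

set_option autoImplicit false
open Cfsg

namespace Cfsg.Agent.S1899

open Subgroup Cfsg.Lib.Core Cfsg.Lib.Amalg Cfsg.Lib.BG1 Cfsg.Lib.Layer

/-- Let a dihedral group of order 2n, n odd and n > 1, act on a finite abelian 2-group A through automorphisms d and t with d^n = 1, t² = 1 and t d t⁻¹ = d⁻¹, and suppose that d fixes only the identity. Then A is the internal direct product of C_A(t) and its image under d. -/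
theorem result {A : Type*} [CommGroup A] [Finite A] (hA : IsPGroup 2 A)
    {n : ℕ} (hn : Odd n) (hn1 : 1 < n) (d t : MulAut A) (hd : d ^ n = 1) (ht : t ^ 2 = 1) (hdt : t * d * t⁻¹ = d⁻¹)
    (hfix : ∀ a : A, d a = a → a = 1) :
    (MulEquiv.toMonoidHom t).eqLocus (MonoidHom.id A) ⊓ ((MulEquiv.toMonoidHom t).eqLocus (MonoidHom.id A)).map d.toMonoidHom = ⊥ ∧
      (MulEquiv.toMonoidHom t).eqLocus (MonoidHom.id A) ⊔ ((MulEquiv.toMonoidHom t).eqLocus (MonoidHom.id A)).map d.toMonoidHom = ⊤ := by
  have ht' : ∀ a, t (t a) = a := fun a => by rw [← MulAut.mul_apply, ← sq, ht, MulAut.one_apply]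
  have fx : ∀ a : A, d (d a) = a → a = 1 := fun a h => by
    obtain ⟨k, rfl⟩ := hn
    have : ∀ j, (d ^ (2 * j)) a = a := fun j => by
      induction j with
      | zero => simp
      | succ j ih => rw [mul_add, pow_add, mul_one, sq, MulAut.mul_apply, MulAut.mul_apply, h, ih]
    refine hfix a ?_
    conv_lhs => rw [← this k]
    rw [← MulAut.mul_apply, ← pow_succ', hd, MulAut.one_apply]
  have td : ∀ a, d (t (d a)) = t a := fun a => by
    rw [← MulAut.mul_apply _ t, show t * d = d⁻¹ * t by rw [← hdt]; group, MulAut.mul_apply, MulAut.apply_inv_self]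
  set C := (MulEquiv.toMonoidHom t).eqLocus (MonoidHom.id A)
  let f : A →* A := t.toMonoidHom / MonoidHom.id A
  have h1 : C ⊓ C.map d.toMonoidHom = ⊥ := eq_bot_iff.2 (by
    rintro _ ⟨h1, a, h2, rfl⟩
    have := td a
    rw [show t (d a) = d a from h1, show t a = a from h2] at this
    rw [fx a this]; simp)
  have h2 : f.range ⊓ f.range.map d.toMonoidHom = ⊥ := eq_bot_iff.2 (by
    have : ∀ a ∈ f.range, t a = a⁻¹ := by
      rintro _ ⟨a, rfl⟩
      simp [f, ht']
    rintro _ ⟨h1, a, h2, rfl⟩
    have e := td a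
    rw [show t (d a) = (d a)⁻¹ from this _ h1, this a h2, map_inv, inv_inj] at e
    rw [fx a e]; simp)
  have e : f.ker = C := by
    ext a; exact div_eq_one
  have c1 := card_sup_of_disjoint le_normalizer_of_normal' h1
  have c2 := card_sup_of_disjoint le_normalizer_of_normal' h2
  rw [card_map_of_injective d.injective] at c1 c2
  have c3 : Nat.card C * Nat.card f.range = Nat.card A := by rw [← e, ← f.ker.card_mul_index, index_ker]
  refine ⟨h1, eq_top_of_le_card _ ?_⟩
  have c4 := c2 ▸ card_le_card_group (f.range ⊔ f.range.map d.toMonoidHom)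
  have c5 : Nat.card f.range ≤ Nat.card C := Nat.le_of_mul_le_mul_right (c3 ▸ c4) Nat.card_pos
  rw [c1, ← c3]
  exact Nat.mul_le_mul_left _ c5

end Cfsg.Agent.S1899
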