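import Cfsg.Statements.S1900
import Cfsg.Agent.Lib.Layer.Bender
import Cfsg.Agent.Lib.BG2.Rank

set_option autoImplicit false
open Cfsg

namespace Cfsg.Agent.S1900

open Subgroup Cfsg.Lib.Core Cfsg.Lib.Amalg Cfsg.Lib.BG1 Cfsg.Lib.Layer

/-- Let S = PQ be a finite group with P a normal Sylow p-subgroup and Q elementary abelian of order q², q a prime different from p. If exactly two subgroups X₁, X₂ of order q in Q have a nontrivial centralizer in P, then P is the internal direct product of C_P(X₁) and C_P(X₂): they commute elementwise, meet trivially and generate P. -/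
theorem result {S : Type*} [Group S] [Finite S] {p q : ℕ} [Fact p.Prime] [Fact q.Prime] (hpq : p ≠ q)
    (P : Sylow p S) [(P : Subgroup S).Normal] (Q : Subgroup S) (hQ : Cfsg.IsElementaryAbelian q Q) (hQc : Nat.card Q = q ^ 2)
    (hS : (P : Subgroup S) ⊔ Q = ⊤)
    (X₁ X₂ : Subgroup S) (h₁ : X₁ ≤ Q) (h₂ : X₂ ≤ Q) (h₁₂ : X₁ ≠ X₂) (hc₁ : Nat.card X₁ = q) (hc₂ : Nat.card X₂ = q)
    (hf₁ : (P : Subgroup S) ⊓ Subgroup.centralizer (X₁ : Set S) ≠ ⊥)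
    (hf₂ : (P : Subgroup S) ⊓ Subgroup.centralizer (X₂ : Set S) ≠ ⊥)
    (honly : ∀ X : Subgroup S, X ≤ Q → Nat.card X = q →
      (P : Subgroup S) ⊓ Subgroup.centralizer (X : Set S) ≠ ⊥ → X = X₁ ∨ X = X₂) :
    ⁅(P : Subgroup S) ⊓ Subgroup.centralizer (X₁ : Set S), (P : Subgroup S) ⊓ Subgroup.centralizer (X₂ : Set S)⁆ = ⊥ ∧
      ((P : Subgroup S) ⊓ Subgroup.centralizer (X₁ : Set S)) ⊓ ((P : Subgroup S) ⊓ Subgroup.centralizer (X₂ : Set S)) = ⊥ ∧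
      ((P : Subgroup S) ⊓ Subgroup.centralizer (X₁ : Set S)) ⊔ ((P : Subgroup S) ⊓ Subgroup.centralizer (X₂ : Set S)) = P := by
  have hp : p.Prime := Fact.out
  have hq : q.Prime := Fact.out
  have hP := P.isPGroup'
  generalize (P : Subgroup S) = P at *
  have hQP : Q ≤ 𝐍(P) := le_normalizer_of_normal'
  have hc : (Nat.card Q).Coprime (Nat.card P) := Lib.BG2.coprime_of_isPGroup_of_ne (elemAb_isPGroup hQ) hP hpq.symm
  have gen : ∀ W Y, W ≤ P → Q ≤ 𝐍(W) → W ⊓ 𝐂(X₁) ≤ Y → W ⊓ 𝐂(X₂) ≤ Y → W ≤ Y := fun W Y a b c d =>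
    coprime_abelian_gen_cent1 b (hc.coprime_dvd_right (card_dvd_of_le a)) hQ.1 (not_isCyclic_of_elem hQ hQc.ge)
      fun x hx hx1 => by
        by_cases e : P ⊓ 𝐂(zpowers x) = ⊥
        · exact ((inf_le_inf a (centralizer_zpowers x).ge).trans e.le).trans bot_le
        rcases honly _ (zpowers_le.2 hx) (by rw [Nat.card_zpowers, orderOf_eq_prime (hQ.2 x hx) hx1]) e with e | e
        · rwa [← centralizer_zpowers, e]
        · rwa [← centralizer_zpowers, e]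
  have h12 : X₁ ⊔ X₂ = Q := by
    refine eq_of_le_of_card_ge (sup_le h₁ h₂) (hQc ▸ Lib.BG2.card_ge_of_lt ((elemAb_isPGroup hQ).to_le (sup_le h₁ h₂)) (n := 1)
      (hc₁.trans (pow_one q).symm) (lt_of_le_of_ne le_sup_left fun e => h₁₂ (eq_of_le_of_card_ge
        (le_sup_right.trans e.ge) (hc₁.trans hc₂.symm).le).symm))
  have h0 : P ⊓ 𝐂(Q) = ⊥ := by
    obtain ⟨a, ha, ha1⟩ := Lib.BG2.exists_ne_one_of_ne_bot (H := X₁) fun e => hq.one_lt.ne (by rw [← hc₁, e, card_bot])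
    obtain ⟨b, hb, hb1⟩ := Lib.BG2.exists_ne_one_of_ne_bot (H := X₂) fun e => hq.one_lt.ne (by rw [← hc₂, e, card_bot])
    have hb' : X₁ ⊓ X₂ = ⊥ := by
      have := card_sup_mul_card_inf (le_norm_of_le_cent (Lib.BG2.le_centralizer_of_comm hQ.1 h₁ h₂))
      rw [h12, hQc, hc₁, hc₂, ← sq] at this
      exact card_eq_one.1 (mul_right_eq_self₀.1 this |>.resolve_right (pow_pos hq.pos 2).ne')
    have hab : a * b ∈ Q := mul_mem (h₁ ha) (h₂ hb)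
    by_contra e
    rcases honly _ (zpowers_le.2 hab) (by
      rw [Nat.card_zpowers, orderOf_eq_prime (hQ.2 _ hab) fun e => ha1 (mem_bot.1 (hb' ▸ mem_inf.2
        ⟨ha, by rw [eq_inv_of_mul_eq_one_left e]; exact inv_mem hb⟩))])
      (ne_bot_of_le_ne_bot e (inf_le_inf_left _ (cent_anti (zpowers_le.2 hab)))) with e' | e'
    · exact hb1 (mem_bot.1 (hb' ▸ mem_inf.2 ⟨(X₁.mul_mem_cancel_left ha).1 (e' ▸ mem_zpowers _), hb⟩))
    · exact ha1 (mem_bot.1 (hb' ▸ mem_inf.2 ⟨ha, (X₂.mul_mem_cancel_right hb).1 (e' ▸ mem_zpowers _)⟩))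
  have hsup : P ⊓ 𝐂(X₁) ⊔ P ⊓ 𝐂(X₂) = P := le_antisymm (sup_le inf_le_left inf_le_left)
    (gen P _ le_rfl hQP le_sup_left le_sup_right)
  have n : ∀ X, X ≤ Q → Q ≤ 𝐍(P ⊓ 𝐂(X)) := fun X h => le_normalizer_inf hQP (le_norm_cent_of_le hQ.1 h)
  have fix : ∀ A X Y, A ≤ P ⊓ 𝐂(X) → Q ≤ 𝐍(A) → X ⊔ Y = Q → ⁅A, Y⁆ = A := fun A X Y a b e => by
    have hY : Y ≤ Q := e ▸ le_sup_right
    have := coprime_cent_prod (hY.trans b) ((hc.coprime_dvd_right (card_dvd_of_le (a.trans inf_le_left))).coprime_dvd_left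
      (card_dvd_of_le hY)) (Or.inr (solvable_of_pgroup hp (hP.to_le (a.trans inf_le_left))))
    rwa [eq_bot_iff.2 (le_trans (le_inf (inf_le_left.trans (a.trans inf_le_left)) (by
      rw [← e, Lib.Core.centralizer_sup]; exact inf_le_inf_right _ (a.trans inf_le_right))) h0.le), sup_bot_eq] at this
  refine ⟨?_, by rw [← inf_inf_distrib_left, ← Lib.Core.centralizer_sup, h12, h0], hsup⟩
  set W := ⁅P ⊓ 𝐂(X₁), P ⊓ 𝐂(X₂)⁆ with hW
  have hWP : W ≤ P := comm_le_of_le inf_le_left inf_le_left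
  have nP : P ≤ 𝐍(W) := hsup.ge.trans (sup_le (left_le_normalizer_comm _ _) (right_le_normalizer_comm _ _))
  have nQ : Q ≤ 𝐍(W) := le_normalizer_commutator (n _ h₁) (n _ h₂)
  have nQ0 : Q ≤ 𝐍(⁅W, P⁆) := le_normalizer_commutator nQ hQP
  have key : ∀ X Y, X ≤ Q → Y ≤ Q → Y ⊔ X = Q → X ⊔ Y = Q → W = ⁅P ⊓ 𝐂(X), P ⊓ 𝐂(Y)⁆ →
      W ≤ (W ⊓ 𝐂(X)) ⊔ (W ⊓ 𝐂(Y)) → ⁅W, X⁆ ≤ ⁅W, P⁆ := fun X Y a b e e' hW' hg => by
    have m1 : P ≤ 𝐍(⁅W, P⁆ ⊔ W ⊓ 𝐂(X)) := le_normalizer_of_between (V := W) le_sup_left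
      (sup_le (comm_le_left nP) inf_le_left)
    have m2 : Q ≤ 𝐍(⁅W, P⁆ ⊔ W ⊓ 𝐂(X)) := le_normalizer_sup nQ0 (le_normalizer_inf nQ (le_norm_cent_of_le hQ.1 a))
    have m3 : W ≤ ⁅W, P⁆ ⊔ W ⊓ 𝐂(X) := by
      have := Lib.PGrp.three_subgroups_of_le_normalizer (H₁ := Y) (H₂ := P ⊓ 𝐂(X)) (H₃ := P ⊓ 𝐂(Y)) (b.trans m2)
        (inf_le_left.trans m1) (inf_le_left.trans m1) (hW' ▸ (commutator_mono hg le_rfl).trans (comm_sup_le
          ((comm_le_left (b.trans (le_normalizer_inf nQ (le_norm_cent_of_le hQ.1 a)))).trans le_sup_right)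
          ((comm_eq_bot_iff.2 inf_le_right).le.trans bot_le) ((inf_le_left.trans hWP).trans m1)
          ((inf_le_left.trans hWP).trans m1))) (by rw [comm_eq_bot_iff.2 inf_le_right, commutator_bot_left]; exact bot_le)
      rwa [commutator_comm Y, fix _ X Y le_rfl (n X a) e', ← hW'] at this
    exact (commutator_mono m3 le_rfl).trans (comm_sup_le (comm_le_left (a.trans nQ0))
      ((comm_eq_bot_iff.2 inf_le_right).le.trans bot_le) le_normalizer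
      (inf_le_left.trans (left_le_normalizer_comm _ _)))
  have hg := gen W _ hWP nQ le_sup_left le_sup_right
  refine eq_bot_of_le_comm hP hWP ((fix W ⊥ Q (le_inf hWP (le_cent_bot _)) nQ (bot_sup_eq _)).ge.trans
    (h12 ▸ comm_sup_le' (key X₁ X₂ h₁ h₂ (sup_comm X₁ X₂ ▸ h12) h12 rfl hg)
      (key X₂ X₁ h₂ h₁ h12 (sup_comm X₁ X₂ ▸ h12) (commutator_comm _ _) (sup_comm (W ⊓ 𝐂(X₁)) _ ▸ hg))
      (h₁.trans nQ0) (h₂.trans nQ0)))

end Cfsg.Agent.S1900
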