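import Cfsg.Statements.S1901
import Cfsg.Agent.Lib.Layer.Bender
import Cfsg.Agent.Lib.Core.PSolvable

set_option autoImplicit false
open Cfsg

namespace Cfsg.Agent.S1901

open Subgroup Cfsg.Lib.Core Cfsg.Lib.Amalg Cfsg.Lib.BG1 Cfsg.Lib.Layer
universe u
theorem aux {p : ℕ} [hp : Fact p.Prime] (n : ℕ) : ∀ {G : Type u} [Group G] [Finite G], Nat.card G = n → IsPSolvable p G →
    ∀ {Q X P : Subgroup G}, ¬ p ∣ Nat.card Q → IsPGroup p X → X ≤ 𝐍(Q) → Syl p P ⊤ → Q ≤ 𝐍(P) → X ≤ 𝐂(Q) := by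
  induction n using Nat.strong_induction_on with | _ n ih => ?_
  intro G _ _ hn hG Q X P hQ hX hXQ hP hQP
  have red : ∀ (N : Subgroup G) [N.Normal], N ≠ ⊥ → ⁅Q, X⁆ ≤ N := fun N _ hN => by
    have := ih _ (hn ▸ card_quotient_lt hN) rfl (isPSolvable_quotient hp.out hG N)
      (fun h => hQ (h.trans (card_map_dvd Q (QuotientGroup.mk' N)))) (hX.map (QuotientGroup.mk' N))
      ((map_mono hXQ).trans (le_normalizer_map _)) (hP.map_top (QuotientGroup.mk'_surjective N))
      ((map_mono hQP).trans (le_normalizer_map _))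
    rwa [← comm_eq_bot_iff', ← map_commutator, map_mk'_eq_bot_iff] at this
  have hc := coprime_of_isPGroup_of_not_dvd hp.out hX hQ
  rcases subsingleton_or_nontrivial G with h | h
  · exact fun x _ y _ => Subsingleton.elim _ _
  rcases pCore_ne_bot_or_of_isPSolvable hp.out hG with h | h
  · exact comm_eq_bot_iff'.1 (eq_bot_iff.2 ((le_inf (red _ h) (comm_le_left hXQ)).trans
      (inf_eq_bot_of_isPGroup_of_not_dvd hp.out (isPGroup_pCore p G) hQ).le))
  have h1 := red _ h
  have h2 : P ≤ 𝐂(⁅Q, X⁆) := comm_eq_bot_iff.1 (eq_bot_iff.2 ((le_inf (comm_le_left ((comm_le_left hXQ).trans hQP))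
    ((commutator_mono le_rfl h1).trans (comm_le_right le_normalizer_of_normal'))).trans
      (inf_eq_bot_of_isPGroup_of_not_dvd hp.out hP.2 ((Nat.Prime.coprime_iff_not_dvd hp.out).1
        (coprime_card_pPrimeCore p G).symm)).le))
  obtain ⟨g, hg, h3⟩ := (hP.of_le (le_norm_of_le_cent h2) le_top).exists_le_conj hX (right_le_normalizer_comm Q X)
  have h4 : X ≤ 𝐂(⁅Q, X⁆) := h3.trans ((cj_mono g h2).trans (by rw [cj_centralizer, cj_of_mem_normalizer hg]))
  rw [← comm_eq_bot_iff', coprime_commutator_idem hXQ hc (Or.inl (solvable_of_pgroup hp.out hX))] at h4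
  exact comm_eq_bot_iff'.1 h4


/-- Let G be a finite p-solvable group and Q a subgroup of order prime to p such that p divides the index of C_G(Q) in N_G(Q). Then Q normalizes no Sylow p-subgroup of G. -/
theorem result {G : Type*} [Group G] [Finite G] {p : ℕ} [Fact p.Prime]
    (hG : Cfsg.IsPSolvable p G) (Q : Subgroup G) (hQ : ¬ p ∣ Nat.card Q)
    (hA : p ∣ (Subgroup.centralizer (Q : Set G)).relIndex (Subgroup.normalizer (Q : Set G)))
    (P : Sylow p G) : ¬ Q ≤ Subgroup.normalizer ((P : Subgroup G) : Set G) := by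
  intro h
  obtain ⟨X, hX⟩ := exists_syl p 𝐍(Q)
  exact hX.not_dvd_relIndex_of_le (aux _ rfl hG hQ hX.2 hX.1 (syl_top P) h) hA

end Cfsg.Agent.S1901
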