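import Cfsg.Statements.S1902
import Cfsg.Agent.Lib.Layer.Baer

set_option autoImplicit false
open Cfsg

namespace Cfsg.Agent.S1902

open Subgroup Cfsg.Lib.Core Cfsg.Lib.Amalg Cfsg.Lib.BG1 Cfsg.Lib.Layer

/-- Let p be an odd prime, G a finite p-solvable group, and B an elementary abelian subgroup of order p² such that B is the subgroup generated by the elements of order p of some Sylow p-subgroup of C_G(b₀), for some nontrivial b₀ ∈ B. Then every B-invariant subgroup of G of order prime to p lies in O_{p'}(G). -/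
theorem result {G : Type*} [Group G] [Finite G] {p : ℕ} [Fact p.Prime] (hp : p ≠ 2)
    (hG : Cfsg.IsPSolvable p G) (B : Subgroup G) (hB : Cfsg.IsElementaryAbelian p B) (hBc : Nat.card B = p ^ 2)
    (b₀ : G) (hb₀ : b₀ ∈ B) (hb₁ : b₀ ≠ 1) (P : Sylow p ↥(Subgroup.centralizer ({b₀} : Set G)))
    (hBP : B = Subgroup.closure {x : G | x ∈ ((P : Subgroup ↥(Subgroup.centralizer ({b₀} : Set G))).map
      (Subgroup.centralizer ({b₀} : Set G)).subtype : Subgroup G) ∧ orderOf x = p})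
    (Q : Subgroup G) (hQ : ¬ p ∣ Nat.card Q) (hinv : ∀ b ∈ B, ∀ x ∈ Q, b * x * b⁻¹ ∈ Q) :
    Q ≤ Cfsg.pPrimeCore p G := by
  refine le_core_of_omega_cent_le hp (pLayer_eq_bot_of_isPSolvable hG) (elemAb_isPGroup hB) hQ (le_norm_of_conj_mem hinv)
    fun x hx h1 => ?_
  have hb : IsPGroup p (zpowers b₀) := isPGroup_zpowers_of_mem (elemAb_isPGroup hB) hb₀
  have h0 := syl_of_sylow P
  generalize (P : Subgroup 𝐂[b₀]).map (𝐂[b₀]).subtype = R at h0 hBP
  have h2 := h0.map (QuotientGroup.mk' (pPrimeCore p G))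
  rw [← cent_zpowers, map_cent_quot_core hb] at h2
  haveI := pCore_normal (p := p) (G := G ⧸ pPrimeCore p G)
  have h3 := h2.le_of_normal (P := pCore p _ ⊓ _) (isPGroup_pCore p _).to_inf_left inf_le_right
    (le_normalizer_inf le_normalizer_of_normal' le_normalizer)
    (mem_inf.2 ⟨(mem_inf.1 hx).1, cent_anti (map_mono (zpowers_le.2 hb₀)) (mem_inf.1 hx).2⟩)
  obtain ⟨y, hy, rfl, h4⟩ := exists_lift_pow_eq_one _ not_dvd_card_ker_core h3 h1
  by_cases h5 : y = 1
  · rw [h5, map_one]; exact one_mem _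
  · exact mem_map_of_mem _ (hBP ▸ subset_closure ⟨hy, orderOf_eq_prime h4 h5⟩)

end Cfsg.Agent.S1902
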