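import Cfsg.Statements.S1903
import Cfsg.Agent.Lib.Amalg.Sing2
import Cfsg.Agent.Lib.U3.Aut
import Cfsg.Agent.Lib.BN.BinU3

set_option autoImplicit false
open Cfsg

namespace Cfsg.Agent.S1903

section

set_option linter.unusedSectionVars false
open Subgroup Cfsg.Lib Cfsg.Lib.Core Cfsg.Lib.BG1 Cfsg.Lib.U3 Cfsg.Lib.Forms Cfsg.Lib.BS
open scoped commutatorElement

variable {G : Type*} [Group G] [Finite G] {F : Type*} [Field F] {σ : F →+* F}

theorem add4 (h2 : (2 : F) = 0) {Z : Subgroup G} {π : G → F} (hZ : ∀ z ∈ Z, z * z = 1)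
    (hi : ∀ x ∈ Z, ∀ y ∈ Z, π x = π y → x = y) (h1 : π 1 = 0) (h4 : ∀ x, π x ^ 4 = π x) {x y : G}
    (hx : x ∈ Z) (hy : y ∈ Z) : π (x * y) = π x + π y := by
  have c3 : ∀ z ∈ Z, z ≠ 1 → π z ^ 3 = 1 := fun z hz z1 =>
    mul_left_cancel₀ (fun e => z1 (hi z hz 1 (one_mem _) (e.trans h1.symm))) (by linear_combination h4 z)
  by_cases x1 : x = 1
  · rw [x1, one_mul, h1, zero_add]
  by_cases y1 : y = 1
  · rw [y1, mul_one, h1, add_zero]
  by_cases e : x = y
  · rw [e, hZ y hy, h1]; linear_combination -π y * h2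
  have a := c3 x hx x1
  have b := c3 y hy y1
  have c := c3 _ (mul_mem hx hy) fun h => e (mul_right_cancel (h.trans (hZ y hy).symm))
  have ab : π x - π y ≠ 0 := sub_ne_zero.2 fun h => e (hi _ hx _ hy h)
  have ac : π x - π (x * y) ≠ 0 := sub_ne_zero.2 fun h => y1 (left_eq_mul.1 (hi _ hx _ (mul_mem hx hy) h))
  have bc : π y - π (x * y) ≠ 0 := sub_ne_zero.2 fun h => x1 (right_eq_mul.1 (hi _ hy _ (mul_mem hx hy) h))
  have e1 : π x ^ 2 + π x * π y + π y ^ 2 = 0 := mul_left_cancel₀ ab (by linear_combination a - b)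
  have e2 : π x ^ 2 + π x * π (x * y) + π (x * y) ^ 2 = 0 := mul_left_cancel₀ ac (by linear_combination a - c)
  have e3 : π x + π y + π (x * y) = 0 := mul_left_cancel₀ bc (by linear_combination e1 - e2)
  linear_combination e3 - (π x + π y) * h2

theorem heis (c : IsConj σ 4) {T Z : Subgroup G} {ρ : G} {u χ : G → F} (h : Sec (zpowers ρ) T Z u χ)
    (hρ : ρ ^ 5 = 1) (hT : Nat.card T = 64) (h4 : Nat.card Z = 4) (hc : ∀ z ∈ Z, ∀ t ∈ T, Commute z t)
    (hZρ : ∀ z ∈ Z, Commute z ρ) (hZ : ∀ z ∈ Z, z * z = 1) (hZT : Z ≤ ⁅T, T⁆) : Nonempty (T ≃* Heis c) := by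
  classical
  have h2 := two_eq_zero c (n := 2) rfl
  have : CharP F 2 := CharTwo.of_one_ne_zero_of_two_eq_zero one_ne_zero h2
  have mρ := mem_zpowers ρ
  obtain ⟨ζ, hζ⟩ : ∃ ζ, ζ = χ ρ := ⟨_, rfl⟩
  have z5 : ζ ^ 5 = 1 := by rw [hζ, ← h.χ_pow mρ, hρ, h.χ_one]
  have z1 : ζ ≠ 1 := fun e => by
    obtain ⟨θ, hθ⟩ := c.exists_not_fixed
    have : AddSubgroup.closure (χ '' zpowers ρ) ≤ (σ : F →+ F).eqLocus (AddMonoidHom.id F) :=
      (AddSubgroup.closure_le _).2 (by
        rintro _ ⟨k, hk, rfl⟩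
        obtain ⟨n, rfl⟩ := (mem_powers_iff_mem_zpowers.2 hk)
        show σ (χ (ρ ^ n)) = χ (ρ ^ n)
        rw [h.χ_pow mρ, ← hζ, e, one_pow, map_one])
    exact hθ (this (h.span ▸ AddSubgroup.mem_top θ))
  have zp : IsPrimitiveRoot ζ 5 := by
    have := Fact.mk Nat.prime_five
    exact (orderOf_eq_prime z5 z1) ▸ IsPrimitiveRoot.orderOf ζ
  have z4 : ζ ^ 4 + ζ ^ 3 + ζ ^ 2 + ζ + 1 = 0 := mul_left_cancel₀ (sub_ne_zero.2 z1) (by linear_combination z5)
  have sq : ∀ t ∈ T, t * t ∈ Z := fun t ht => (h.ker _ (mul_mem ht ht)).1 (by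
    rw [h.add t ht t ht]; linear_combination u t * h2)
  have cn : ∀ k ∈ zpowers ρ, ∀ t ∈ T, k * t * k⁻¹ ∈ T := fun k hk t ht => (mem_normalizer_iff.1 (h.norm hk) t).1 ht
  have inv : ∀ t ∈ T, ∀ s ∈ T, u t ^ 5 = u s ^ 5 → t * t = s * s := fun t ht s hs e => by
    by_cases t0 : u t = 0
    · have s0 : u s = 0 := pow_eq_zero_iff (n := 5) (by norm_num) |>.1 (by rw [← e, t0]; norm_num)
      rw [hZ t ((h.ker t ht).1 t0), hZ s ((h.ker s hs).1 s0)]
    obtain ⟨i, -, hi⟩ := zp.eq_pow_of_pow_eq_one (ξ := u s / u t) (by rw [div_pow, ← e, div_self (pow_ne_zero _ t0)])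
    have mi := pow_mem mρ i
    have m := cn _ mi t ht
    have e1 := (h.eq_iff m hs).1 (by rw [h.conj _ mi t ht, h.χ_pow mρ, ← hζ, hi, div_mul_cancel₀ _ t0])
    obtain ⟨z, hz, rfl⟩ : ∃ z ∈ Z, s = ρ ^ i * t * (ρ ^ i)⁻¹ * z := ⟨_, e1, by group⟩
    rw [(hc z hz _ m).mul_mul_mul_comm, hZ z hz, mul_one, conj_mul,
      ← ((hZρ _ (sq t ht)).pow_right i).eq, mul_inv_cancel_right]
  obtain ⟨x, hx, ux⟩ := h.surj 1
  have m1 := cn ρ mρ x hx
  have m4 := cn ρ⁻¹ (inv_mem mρ) x hx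
  rw [inv_inv] at m4
  obtain ⟨y, hy⟩ : ∃ y, y = ρ * x * ρ⁻¹ * (ρ⁻¹ * x * ρ) := ⟨_, rfl⟩
  have my : y ∈ T := hy ▸ mul_mem m1 m4
  obtain ⟨ω, hω⟩ : ∃ ω, ω = ζ + ζ ^ 4 := ⟨_, rfl⟩
  have uy : u y = ω := by
    rw [hy, h.add _ m1 _ m4, h.conj _ mρ x hx, h.conj' mρ hx, ux, ← hζ, hω, mul_one, mul_one,
      inv_eq_of_mul_eq_one_right (b := ζ ^ 4) (by linear_combination z5)]
  have w2 : ω * ω + ω + 1 = 0 := by
    rw [hω]; linear_combination z4 + (ζ ^ 3 + 2) * z5 + h2
  have xy : Commute x y := by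
    have k := h.comm_mem hx m1
    have e1 := (hc _ k _ m1).eq
    have e2 := (hZρ _ k).eq
    obtain ⟨k, hk⟩ : ∃ k, k = ⁅x, ρ * x * ρ⁻¹⁆ := ⟨_, rfl⟩
    rw [← hk] at e1 e2
    have e3 : x * (ρ * x * ρ⁻¹) = k * (ρ * x * ρ⁻¹) * x := by rw [hk, commutatorElement_def]; group
    have e4 : ρ⁻¹ * x * ρ * x = k * x * (ρ⁻¹ * x * ρ) := by
      rw [show k = ρ⁻¹ * k * ρ by rw [mul_assoc, e2, inv_mul_cancel_left], hk, commutatorElement_def]; group
    rw [hy, Commute, SemiconjBy, ← mul_assoc, e3, e1, mul_assoc _ _ x, mul_assoc _ _ x, e4]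
    simp only [mul_assoc]
  have e5 : ∀ a : F, (a ^ 5) ^ 4 = a ^ 5 := fun a => by
    have := c.σσ a
    rw [c.apply, c.apply] at this
    linear_combination a ^ 4 * this
  have cls : ∀ t ∈ T, (u t ^ 5 = 0 ∧ t * t = 1) ∨ (u t ^ 5 = 1 ∧ t * t = x * x) ∨
      (u t ^ 5 = ω ∧ t * t = x * x * (y * y)) ∨ (u t ^ 5 = ω + 1 ∧ t * t = y * y) := fun t ht => by
    refine (R2.four_cases w2 (e5 (u t))).imp (fun e => ⟨e, ?_⟩) (Or.imp (fun e => ⟨e, ?_⟩) (Or.imp (fun e => ⟨e, ?_⟩) fun e => ⟨e, ?_⟩))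
    · rw [inv t ht 1 (one_mem _) (by rw [e, h.one]; norm_num), mul_one]
    · exact inv t ht x hx (by rw [e, ux, one_pow])
    · rw [inv t ht _ (mul_mem hx my) (by
        rw [e, h.add _ hx _ my, ux, uy]
        linear_combination (-ω ^ 3 - 4 * ω ^ 2 - 5 * ω - 1) * w2 + ω * h2), xy.symm.mul_mul_mul_comm]
    · exact inv t ht y my (by
        rw [e, uy]; linear_combination (-ω ^ 3 + ω ^ 2 - 1) * w2 + (ω + 1) * h2)
  have gen : ∀ w ∈ Z, x * x ∈ zpowers w → y * y ∈ zpowers w → False := fun w hw a b => by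
    have s : ∀ t ∈ T, t * t ∈ zpowers w := fun t ht => by
      rcases cls t ht with ⟨-, e⟩ | ⟨-, e⟩ | ⟨-, e⟩ | ⟨-, e⟩ <;> rw [e]
      exacts [one_mem _, a, mul_mem a b, b]
    have h1 : Z ≤ zpowers w := hZT.trans (commutator_le.2 fun s' hs t ht => by
      rw [show ⁅s', t⁆ = s' * t * (s' * t) * (t⁻¹ * s'⁻¹ * t * (t⁻¹ * s'⁻¹ * t)) * (t⁻¹ * t⁻¹) by
        rw [commutatorElement_def]; group]
      exact mul_mem (mul_mem (s _ (mul_mem hs ht)) (s _ (mul_mem (mul_mem (inv_mem ht) (inv_mem hs)) ht)))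
        (s _ (inv_mem ht)))
    have h3 := card_le_of_le h1
    have h5 := orderOf_le_of_pow_eq_one two_pos ((pow_two w).trans (hZ w hw))
    rw [h4, Nat.card_zpowers] at h3
    omega
  have mA := sq x hx
  have mB := sq y my
  have sA : ∃ t ∈ T, t * t = x * x := ⟨x, hx, rfl⟩
  have sB : ∃ t ∈ T, t * t = y * y := ⟨y, my, rfl⟩
  have sAB : ∃ t ∈ T, t * t = x * x * (y * y) := ⟨_, mul_mem hx my, xy.symm.mul_mul_mul_comm _ _⟩
  generalize x * x = A at *
  generalize y * y = B at *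
  have n1 : A ≠ 1 := fun e => gen B mB (e ▸ one_mem _) (mem_zpowers B)
  have n2 : B ≠ 1 := fun e => gen A mA (mem_zpowers A) (e ▸ one_mem _)
  have n3 : A ≠ B := fun e => gen A mA (mem_zpowers A) (e ▸ mem_zpowers A)
  have n4 : A * B ≠ 1 := fun e => n3 (mul_right_cancel (e.trans (hZ B mB).symm))
  have n5 : A ≠ A * B := fun e => n2 (left_eq_mul.1 e)
  have n6 : B ≠ A * B := fun e => n1 (right_eq_mul.1 e)
  have wd : ∀ t ∈ T, ∀ s ∈ T, t * t = s * s → u t ^ 5 = u s ^ 5 := fun t ht s hs e => by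
    rcases cls t ht with ⟨a, b⟩ | ⟨a, b⟩ | ⟨a, b⟩ | ⟨a, b⟩ <;>
      rcases cls s hs with ⟨a', b'⟩ | ⟨a', b'⟩ | ⟨a', b'⟩ | ⟨a', b'⟩ <;>
      first | exact a.trans a'.symm | exact absurd (b.symm.trans (e.trans b')) ‹_› |
        exact absurd (b.symm.trans (e.trans b')).symm ‹_›
  have all : ∀ z ∈ Z, ∃ t ∈ T, t * t = z := fun z hz => by
    by_cases z1 : z = 1
    · exact ⟨1, one_mem _, by rw [z1, mul_one]⟩
    rcases R2.mem_of_card_four h4 mA mB (mul_mem mA mB) n1 n2 n4 n3 n5 n6 hz z1 with rfl | rfl | rfl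
    exacts [sA, sB, sAB]
  let π : G → F := fun z => if e : ∃ t ∈ T, t * t = z then u e.choose ^ 5 else 0
  have πs : ∀ t ∈ T, π (t * t) = u t ^ 5 := fun t ht => by
    have e : ∃ s ∈ T, s * s = t * t := ⟨t, ht, rfl⟩
    simp only [π, dif_pos e]
    exact wd _ e.choose_spec.1 t ht e.choose_spec.2
  have π4 : ∀ z, π z ^ 4 = π z := fun z => by
    simp only [π]
    split_ifs with e
    · exact e5 _
    · norm_num
  have πi : ∀ x ∈ Z, ∀ y ∈ Z, π x = π y → x = y := fun x hx y hy e => by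
    obtain ⟨t, ht, rfl⟩ := all x hx
    obtain ⟨s, hs, rfl⟩ := all y hy
    exact inv t ht s hs (by rwa [πs t ht, πs s hs] at e)
  have π1 : π 1 = 0 := by rw [← mul_one 1, πs 1 (one_mem _), h.one]; norm_num
  exact Amalg.Sing.iso_u3 c h2 (C := Z.subgroupOf T) (π := fun x => π x) (u := fun x => u x)
    (fun x hx y hy => add4 h2 hZ πi π1 π4 hx hy)
    (fun x hx e => Subtype.ext (πi _ hx 1 (one_mem _) (e.trans π1.symm))) (fun x => by rw [c.apply, π4])
    (fun x y => h.add _ x.2 _ y.2) (fun x => (h.ker _ x.2).symm)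
    (fun x => ⟨sq _ x.2, (πs _ x.2).trans (by rw [c.apply]; ring)⟩) hT

theorem struct (hG : Nat.card G = 320) (hD : Nat.card (commutator G) = 64)
    (hZ : IsKleinFour (center (commutator G))) (c : IsConj σ 4) {ρ : G} (hρ : orderOf ρ = 5) :
    (commutator G).IsComplement' (zpowers ρ) ∧ ¬ commutator G ≤ 𝐂(zpowers ρ) ∧ Nonempty (commutator G ≃* Heis c) := by
  have := Fact.mk Nat.prime_five
  have := Fact.mk Nat.prime_two
  have cQ : Nat.card (zpowers ρ) = 5 := by rw [Nat.card_zpowers, hρ]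
  have hQ : IsPGroup 5 (zpowers ρ) := IsPGroup.of_card (n := 1) cQ
  have hT2 : IsPGroup 2 (commutator G) := IsPGroup.of_card (n := 6) hD
  have cp : (commutator G).IsComplement' (zpowers ρ) :=
    isComplement'_of_coprime (by rw [hD, cQ, hG]) (by rw [hD, cQ]; norm_num)
  have : Group.IsSolvable (commutator G) := solvable_of_pgroup Nat.prime_two hT2
  have : Group.IsSolvable G := Group.isSolvable_of_ker_le_range (commutator G).subtype Abelianization.of
    (by rw [Abelianization.ker_of, range_subtype])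
  have hTT : commutator G = ⁅(⊤ : Subgroup G), ⊤⁆ := commutator_def G
  have tr : ∀ z ∈ commutator G, z ∈ center G → z ^ 5 ∈ ⁅commutator G, commutator G⁆ := fun z hz hc => by
    have e := MonoidHom.transfer_eq_pow (Abelianization.of (G := commutator G)) z fun k g _ => by
      rw [mul_assoc, ← mem_center_iff.1 (pow_mem hc k), inv_mul_cancel_left]
    rw [Abelianization.commutator_subset_ker _ hz, eq_comm, ← MonoidHom.mem_ker, Abelianization.ker_of] at e
    have e2 := mem_map_of_mem (commutator G).subtype e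
    rw [map_subtype_commutator] at e2
    rwa [← cQ, ← cp.symm.index_eq_card]
  set T := commutator G
  set Z := (center T).map T.subtype with hZd
  have h4 : Nat.card Z = 4 := by rw [hZd, card_map_of_injective T.subtype_injective, hZ.card_four]
  have hZT : Z ≤ T := map_subtype_le _
  have hc : ∀ z ∈ Z, ∀ t ∈ T, Commute z t := by
    rintro _ ⟨z, hz, rfl⟩ t ht
    exact congrArg Subtype.val (mem_center_iff.1 hz ⟨t, ht⟩).symm
  have hZ2 : ∀ z ∈ Z, z * z = 1 := by
    rintro _ ⟨z, hz, rfl⟩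
    exact congrArg (fun w : center T => ((w : T) : G)) (IsKleinFour.mul_self (⟨z, hz⟩ : center T))
  have hZQ : Z ≤ 𝐂(zpowers ρ) := by
    have h1 := PGrp.card_modEq_card_inf_centralizer hQ (le_normalizer_of_normal (H := Z))
    have h2 := card_le_of_le (inf_le_left (a := Z) (b := 𝐂(zpowers ρ)))
    refine inf_eq_left.1 (eq_of_le_of_card_ge inf_le_left ?_)
    rw [h4, Nat.ModEq] at *
    omega
  have hZρ : ∀ z ∈ Z, Commute z ρ := fun z hz => (hZQ hz ρ (mem_zpowers ρ)).symm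
  have dec : ∀ g : G, ∃ t ∈ T, ∃ k ∈ zpowers ρ, g = t * k := fun g => by
    obtain ⟨⟨t, k⟩, e, -⟩ := cp.existsUnique g
    exact ⟨t, t.2, k, k.2, e.symm⟩
  have hZT' : Z ≤ ⁅T, T⁆ := fun z hz => by
    have := tr z (hZT hz) (mem_center_iff.2 fun g => by
      obtain ⟨t, ht, k, hk, rfl⟩ := dec g
      exact ((hc z hz t ht).mul_right (hZQ hz k hk).symm).symm)
    rwa [show z ^ 5 = z * z * (z * z) * z by simp only [pow_succ, pow_zero, one_mul, mul_assoc], hZ2 z hz,
      one_mul, one_mul] at this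
  have lt : ⁅T, T⁆ < T := Group.IsSolvable.commutator_lt_of_ne_bot fun e => by rw [e, card_bot] at hD; omega
  have nc : ¬ T ≤ 𝐂(zpowers ρ) := fun h => lt.not_ge (hTT.le.trans (commutator_le.2 fun g _ g' _ => by
    obtain ⟨t, ht, k, hk, rfl⟩ := dec g
    obtain ⟨t', ht', k', hk', rfl⟩ := dec g'
    have cen : ∀ k ∈ zpowers ρ, k ∈ center G := fun k hk => mem_center_iff.2 fun g => by
      obtain ⟨t, ht, l, hl, rfl⟩ := dec g
      obtain ⟨i, rfl⟩ := hk
      obtain ⟨j, rfl⟩ := hl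
      exact (Commute.mul_left (h ht _ ⟨i, rfl⟩).symm ((Commute.refl ρ).zpow_zpow j i))
    have e1 := mem_center_iff.1 (cen k hk)
    have e2 := mem_center_iff.1 (cen k' hk')
    rw [show ⁅t * k, t' * k'⁆ = ⁅t, t'⁆ by
      calc _ = t * (k * (t' * k') * k⁻¹) * (t⁻¹ * k'⁻¹) * t'⁻¹ := by rw [commutatorElement_def]; group
        _ = t * t' * (k' * t⁻¹ * k'⁻¹) * t'⁻¹ := by rw [← e1, mul_inv_cancel_right]; group
        _ = _ := by rw [← e2, mul_inv_cancel_right, commutatorElement_def]]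
    exact commutator_mem_commutator ht ht'))
  have dv : ∀ X ≤ T, Nat.card X % 5 = 4 → Nat.card X = 4 ∨ X = T := fun X hX h => by
    have h1 := card_dvd_of_le hX
    rw [hD] at h1
    obtain ⟨i, hi, e⟩ := (Nat.dvd_prime_pow Nat.prime_two (m := 6)).1 h1
    rw [e] at h
    interval_cases i <;> first | omega | exact Or.inl e | exact Or.inr (eq_of_le_of_card_ge hX (by rw [hD, e]; norm_num))
  have hf : T ⊓ 𝐂(zpowers ρ) = Z := by
    have h1 := PGrp.card_modEq_card_inf_centralizer hQ (le_normalizer_of_normal (H := T))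
    rw [hD] at h1
    rcases dv _ (inf_le_left (b := 𝐂(zpowers ρ))) h1.symm with e | e
    · exact (eq_of_le_of_card_ge (le_inf hZT hZQ) (by rw [e, h4])).symm
    · exact absurd (inf_eq_left.1 e) nc
  have irr : ∀ X, Z ≤ X → X ≤ T → zpowers ρ ≤ 𝐍(X) → X = Z ∨ X = T := fun X h1 h2 h3 => by
    have h5 := PGrp.card_modEq_card_inf_centralizer hQ h3
    rw [show X ⊓ 𝐂(zpowers ρ) = Z from le_antisymm (hf ▸ inf_le_inf_right _ h2) (le_inf h1 hZQ), h4] at h5
    exact (dv X h2 h5).imp_left fun e => (eq_of_le_of_card_ge h1 (by rw [e, h4])).symm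
  have hTZ := (irr _ hZT' lt.le le_normalizer_of_normal).resolve_right lt.ne
  obtain ⟨K, _, _, u, χ, h⟩ := exists_sec (K := zpowers ρ) (hTZ ▸ lt) le_normalizer_of_normal
    le_normalizer_of_normal hTZ.le irr
  have := c.finite
  have := Fintype.ofFinite F
  have hK : Fintype.card K = Fintype.card F := by
    have h1 := h.card
    rw [hD, h4] at h1
    rw [← Nat.card_eq_fintype_card, ← Nat.card_eq_fintype_card, c.card]
    omega
  exact ⟨cp, nc, heis c (h.congr (FiniteField.ringEquivOfCardEq hK)) (hρ ▸ pow_orderOf_eq_one ρ) hD h4 hc hZρ hZ2 hZT'⟩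

theorem cent (c : IsConj σ 4) {ξ : Fˣ} (o3 : orderOf ξ = 5) {z : Heis c} (hz : z.a = 0) (z1 : z ≠ 1) :
    centralizer {nn c z} = (nn c).range ⊔ zpowers (dd c ξ) := by
  refine le_antisymm (fun g hg => ?_) (sup_le ?_ (zpowers_le.2 ?_))
  · have hg' := mem_centralizer_singleton_iff.1 hg
    have gB : g ∈ BN.U3.BB c := by
      have h1 : nn c z • g • (none : Pt c) = g • none := by rw [← mul_smul, ← hg', mul_smul, nn_smul_none]
      rcases h3 : g • (none : Pt c) with _ | y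
      · exact h3
      · rw [h3, nn_smul_some] at h1
        exact absurd (mul_eq_right.1 (Option.some.inj h1)) z1
    obtain ⟨x, d, rfl⟩ := BN.U3.exists_nn_dd c gB
    refine mul_mem_sup ⟨x, rfl⟩ ?_
    have h1 : nn c (x * BN.U3.dconj c d z) = nn c (x * z) := by
      rw [map_mul, ← BN.U3.dd_conj, ← mul_assoc, ← mul_assoc, hg', mem_center_iff.1 (Heis.mem_center.2 hz), map_mul]
      group
    have h3 := congrArg Heis.b (mul_left_cancel (nn_injective c h1))
    have h4 : (d : F) ^ 5 = 1 := mul_right_cancel₀ (fun h => z1 (Heis.eq_one_of_b h)) (by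
      simp only [BN.U3.dconj, c.apply] at h3
      linear_combination h3)
    obtain ⟨i, -, rfl⟩ := (o3 ▸ IsPrimitiveRoot.orderOf ξ).eq_pow_of_mem_rootsOfUnity
      ((mem_rootsOfUnity 5 d).2 (Units.ext h4))
    rw [map_pow]
    exact pow_mem (mem_zpowers _) i
  · rintro _ ⟨x, rfl⟩
    rw [mem_centralizer_singleton_iff, ← map_mul, ← map_mul, mem_center_iff.1 (Heis.mem_center.2 hz)]
  · rw [mem_centralizer_singleton_iff, ← mul_inv_eq_iff_eq_mul, BN.U3.dd_conj]
    have x5 : (ξ : F) ^ 5 = 1 := by rw [← Units.val_pow_eq_pow_val, ← o3, pow_orderOf_eq_one, Units.val_one]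
    exact congrArg _ (Heis.ext (by simp only [BN.U3.dconj, hz, mul_zero]) (by
      simp only [BN.U3.dconj, c.apply]; linear_combination z.b * x5))

theorem fin {A B : Type*} [Group A] [Group B] (ψ : A ≃* B) {φ : G →* A} (hφ : Function.Injective φ) {t : A}
    (h : centralizer {t} = φ.range) : Nonempty (G ≃* centralizer ({ψ t} : Set B)) := by
  refine ⟨(MonoidHom.ofInjective (f := ψ.toMonoidHom.comp φ) (ψ.injective.comp hφ)).trans
    (MulEquiv.subgroupCongr ?_)⟩
  ext g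
  obtain ⟨g, rfl⟩ := ψ.surjective g
  rw [MonoidHom.range_comp, ← h, mem_centralizer_singleton_iff, ← map_mul, ← map_mul, ψ.apply_eq_iff_eq,
    ← mem_centralizer_singleton_iff]
  exact mem_map_iff_mem ψ.injective

open Cfsg.Lib.U3.Heis (dil dilHom dil_a dil_b) in
theorem main (hG : Nat.card G = 320) (hD : Nat.card (commutator G) = 64)
    (hZ : IsKleinFour (center (commutator G))) [Fintype F] (hF : Fintype.card F = 16) :
    ∃ t : Cfsg.PSU 3 F 4, orderOf t = 2 ∧ Nonempty (G ≃* centralizer ({t} : Set (Cfsg.PSU 3 F 4))) := by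
  have := Fact.mk Nat.prime_five
  have := Fact.mk Nat.prime_two
  obtain ⟨σ, c⟩ := isConj_of_card (q := 4) hF
  have h2 := two_eq_zero c (n := 2) rfl
  obtain ⟨ρ, hρ⟩ := exists_prime_orderOf_dvd_card' (G := G) 5 (by rw [hG]; norm_num)
  obtain ⟨cp, nc, ⟨e⟩⟩ := struct hG hD hZ c hρ
  set T := commutator G
  let a : zpowers ρ →* MulAut T := T.normalizerMonoidHom.comp (inclusion (T.normalizer_eq_top ▸ le_top))
  let r : zpowers ρ := ⟨ρ, mem_zpowers ρ⟩
  have or : orderOf r = 5 := by rw [← hρ, ← orderOf_coe]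
  have hr : ∀ k : zpowers ρ, k ∈ zpowers r := by
    rintro ⟨_, i, rfl⟩
    exact ⟨i, rfl⟩
  obtain ⟨ζ, hζ⟩ := exists_prime_orderOf_dvd_card' (G := Fˣ) 5 (by
    rw [Nat.card_units, Nat.card_eq_fintype_card, hF]; norm_num)
  have dinj : Function.Injective (dilHom c) := (injective_iff_map_eq_one _).2 fun d hd => by
    have := Aut.A_dil (h := c) d 1
    rw [show dil c d = 1 from hd, Aut.A_one, mul_one] at this
    exact Units.ext this.symm
  obtain ⟨γ, ξ, ξ5, hξ⟩ : ∃ (γ : MulAut (Heis c)) (ξ : Fˣ), ξ ^ 5 = 1 ∧ γ * MulAut.congr e (a r) * γ⁻¹ = dil c ξ := by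
    have p1 : IsPGroup 5 (zpowers (MulAut.congr e (a r))) := IsPGroup.of_card_dvd_pow (n := 1) (by
      rw [Nat.card_zpowers, pow_one, ← or]
      exact (orderOf_map_dvd (MulAut.congr e).toMonoidHom _).trans (orderOf_map_dvd a r))
    have c2 : Nat.card (zpowers (dilHom c ζ)) = 5 := by rw [Nat.card_zpowers, orderOf_injective _ dinj, hζ]
    have p2 : IsPGroup 5 (zpowers (dilHom c ζ)) := IsPGroup.of_card (n := 1) c2
    obtain ⟨S, hS⟩ := p1.exists_le_sylow
    have ni : ¬ 5 ∣ (zpowers (dilHom c ζ)).index := by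
      have := (zpowers (dilHom c ζ)).card_mul_index
      rw [c2, Aut.card_mulAut h2 (n := 2) rfl] at this
      omega
    obtain ⟨γ, hγ⟩ := MulAction.exists_smul_eq (MulAut (Heis c)) S (p2.toSylow ni)
    have m : γ * MulAut.congr e (a r) * γ⁻¹ ∈ zpowers (dilHom c ζ) := by
      rw [← p2.toSylow_coe ni, ← hγ]
      exact smul_mem_pointwise_smul _ (MulAut.conj γ) _ (hS (mem_zpowers _))
    obtain ⟨i, hi⟩ := m
    exact ⟨γ, ζ ^ i, by rw [← zpow_natCast, ← zpow_mul, mul_comm, zpow_mul, zpow_natCast, ← hζ, pow_orderOf_eq_one,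
      one_zpow], hi.symm.trans (map_zpow _ _ _).symm⟩
  have ξ1 : ξ ≠ 1 := by
    rintro rfl
    rw [show dil c 1 = 1 from map_one (dilHom c), conj_eq_one_iff, map_eq_one_iff _ (MulAut.congr e).injective] at hξ
    refine nc fun t ht => ?_
    have := congrArg Subtype.val (DFunLike.congr_fun hξ ⟨t, ht⟩)
    rintro _ ⟨i, rfl⟩
    exact (Commute.zpow_left (mul_inv_eq_iff_eq_mul.1 this) i)
  have x5 : (ξ : F) ^ 5 = 1 := by rw [← Units.val_pow_eq_pow_val, ξ5, Units.val_one]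
  have o3 : orderOf (ξ ^ 3) = 5 := orderOf_eq_prime (by rw [← pow_mul, mul_comm, pow_mul, ξ5, one_pow]) fun h =>
    ξ1 (by simpa using (pow_gcd_eq_one.2 ⟨h, ξ5⟩))
  have hd : ∀ x, BN.U3.dconj c (ξ ^ 3) x = dil c ξ x := fun x => Heis.ext (by
      have := ξ.ne_zero
      simp only [BN.U3.dconj, dil_a, c.apply, Units.val_pow_eq_pow_val]
      field_simp
      linear_combination (x.a * (ξ ^ 15 + ξ ^ 10 + ξ ^ 5 + 1)) * x5) (by
      simp only [BN.U3.dconj, dil_b, c.apply, Units.val_pow_eq_pow_val]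
      linear_combination (x.b * ξ ^ 5 * (ξ ^ 5 + 1)) * x5)
  have hg' : orderOf (dd c (ξ ^ 3)) ∣ orderOf r := by rw [or, ← o3]; exact orderOf_map_dvd _ _
  let fn : T →* SU3 c := (nn c).comp (e.trans γ).toMonoidHom
  let fg : zpowers ρ →* SU3 c := monoidHomOfForallMemZpowers hr hg'
  have fr : fg r = dd c (ξ ^ 3) := monoidHomOfForallMemZpowers_apply_gen hr hg'
  have cm : ∀ k, fn.comp (a k).toMonoidHom = (MulAut.conj (fg k)).toMonoidHom.comp fn := fun k => by
    obtain ⟨i, rfl⟩ := mem_powers_iff_mem_zpowers.2 (hr k)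
    refine MonoidHom.ext fun t => ?_
    show fn (a (r ^ i) t) = fg (r ^ i) * fn t * (fg (r ^ i))⁻¹
    induction i with
    | zero => simp
    | succ i ih =>
      have : ∀ s, fn (a r s) = fg r * fn s * (fg r)⁻¹ := fun s => by
        rw [fr]
        show nn c (γ (e (a r s))) = _ * nn c (γ (e s)) * _
        rw [BN.U3.dd_conj, hd, ← hξ]
        simp
      rw [pow_succ', map_mul, MulAut.mul_apply, this, ih, map_mul]
      group
  let φ : G →* SU3 c := (SemidirectProduct.lift fn fg cm).comp (SemidirectProduct.mulEquivSubgroup cp).symm.toMonoidHom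
  have rg : φ.range = (nn c).range ⊔ zpowers (dd c (ξ ^ 3)) := by
    have h1 : ∀ t k, φ (SemidirectProduct.mulEquivSubgroup cp ⟨t, k⟩) = fn t * fg k := fun t k => by
      show SemidirectProduct.lift fn fg cm ((SemidirectProduct.mulEquivSubgroup cp).symm _) = _
      rw [MulEquiv.symm_apply_apply]; rfl
    refine le_antisymm ?_ (sup_le ?_ (zpowers_le.2 ⟨_, by rw [h1 1 r, map_one, one_mul, fr]⟩))
    · rintro _ ⟨g, rfl⟩
      obtain ⟨⟨t, k⟩, rfl⟩ := (SemidirectProduct.mulEquivSubgroup cp).surjective g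
      obtain ⟨i, rfl⟩ := hr k
      rw [h1, map_zpow, fr]
      exact mul_mem_sup ⟨_, rfl⟩ ⟨i, rfl⟩
    · rintro _ ⟨x, rfl⟩
      exact ⟨_, by rw [h1 ((e.trans γ).symm x) 1, map_one, mul_one]; simp [fn]⟩
  have od : orderOf (dd c (ξ ^ 3)) = 5 := by
    refine ((Nat.dvd_prime Nat.prime_five).1 (or ▸ hg')).resolve_left fun h => ξ1 ?_
    obtain ⟨x, hx⟩ := Heis.exists_a (h := c) 1
    have := BN.U3.dd_conj c (ξ ^ 3) x
    rw [orderOf_eq_one_iff.1 h, one_mul, inv_one, mul_one, hd] at this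
    have := congrArg Heis.a (nn_injective c this)
    rw [dil_a, hx, mul_one] at this
    exact Units.ext this.symm
  have φi : Function.Injective φ := by
    have h1 := card_dvd_of_le (rg ▸ le_sup_left : (nn c).range ≤ φ.range)
    have h3 := card_dvd_of_le (rg ▸ le_sup_right : zpowers (dd c (ξ ^ 3)) ≤ φ.range)
    rw [← Nat.card_congr (MonoidHom.ofInjective (nn_injective c)).toEquiv, Heis.card] at h1
    rw [Nat.card_zpowers, od] at h3
    have h4 := Nat.le_of_dvd Nat.card_pos (Nat.Coprime.mul_dvd_of_dvd_of_dvd (by norm_num) h1 h3)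
    have h5 := φ.ker.card_mul_index
    rw [index_ker, hG] at h5
    refine (MonoidHom.ker_eq_bot_iff φ).1 (card_eq_one.1 ?_)
    have := Nat.card_pos (α := φ.ker)
    nlinarith
  obtain ⟨z, hz, z1⟩ : ∃ z : Heis c, z.a = 0 ∧ z ≠ 1 := ⟨⟨0, 1, by rw [map_one, map_zero]; linear_combination h2⟩, rfl, fun h =>
    one_ne_zero (congrArg Heis.b h)⟩
  have cz : centralizer {nn c z} = φ.range := (cent c o3 hz z1).trans rg.symm
  obtain ⟨ψ⟩ : Nonempty (SU3 c ≃* Cfsg.PSU 3 F 4) := by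
    obtain ⟨ψ⟩ := nonempty_psu c
    have : center (SU3 c) = ⊥ := card_eq_one.1 (by rw [card_center_SU3]; norm_num)
    exact ⟨(QuotientGroup.quotientBot.symm.trans (QuotientGroup.quotientMulEquivOfEq this.symm)).trans ψ.symm⟩
  refine ⟨ψ (nn c z), ?_, fin ψ φi cz⟩
  rw [MulEquiv.orderOf_eq, orderOf_injective _ (nn_injective c)]
  exact orderOf_eq_prime ((pow_two z).trans ((Heis.mul_self_eq_one h2).2 hz)) z1

end

/-- A finite group of order 320 whose derived subgroup has order 64 and has centre a Klein four-group is isomorphic to the centralizer of an involution in PSU₃(4). -/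
theorem result {G : Type*} [Group G] [Finite G] (hG : Nat.card G = 320) (hD : Nat.card (commutator G) = 64)
    (hZ : IsKleinFour (Subgroup.center (commutator G)))
    {F : Type*} [Field F] [Fintype F] (hF : Fintype.card F = 16) :
    ∃ t : Cfsg.PSU 3 F 4, orderOf t = 2 ∧ Nonempty (G ≃* Subgroup.centralizer ({t} : Set (Cfsg.PSU 3 F 4))) := by
  exact main hG hD hZ hF

end Cfsg.Agent.S1903
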