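import Cfsg.Statements.S1904
import Cfsg.Agent.Lib.Linear.ScnD
import Cfsg.Agent.S0093

set_option autoImplicit false
open Cfsg

namespace Cfsg.Agent.S1904

open Subgroup Cfsg.Lib Cfsg.Lib.Linear.Scn
open scoped commutatorElement

theorem reduce {X : Type*} [Group X] [Finite X] {A : Subgroup (MulAut X)} (hA : Act A) (hna : ¬ IsMulCommutative X)
    (hE : NoE X) : ∃ V : Subgroup X, Sp V ∧ center X ≤ V ∧ V ≤ commutator X ∧ (Nat.card V = 2 ∨ Nat.card V = 4) := by
  classical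
  haveI : Fact (Nat.Prime 2) := ⟨Nat.prime_two⟩
  obtain ⟨C, hch, hΦ, hcm, hcc⟩ := Cfsg.Agent.S0093.result hA.two
  set Z := centralizer (C : Set X) with hZd
  have hZ : ∀ z ∈ Z, ∀ c ∈ C, c * z = z * c := fun z hz c hc => hz c hc
  have hsq : ∀ c ∈ C, c ^ 2 ∈ Z := fun c hc => hΦ (PGrp.pow_mem_map_frattini (hA.two.to_subgroup C) hc)
  have hcZ : ∀ c ∈ C, ∀ g, ⁅c, g⁆ ∈ Z := fun c hc g => (hcm (commutator_mem_commutator hc trivial)).2
  have cinv : ∀ β : MulAut X, ∀ c ∈ C, β c ∈ C := fun β c hc => characteristic_iff_le_comap.1 hch β hc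
  have zinv : ∀ β : MulAut X, ∀ z ∈ Z, β z ∈ Z := fun β z hz c hc => by
    have := congrArg β (hZ z hz _ (cinv β⁻¹ c hc))
    simpa using this
  let V : Subgroup X :=
    { carrier := {z | z ∈ Z ∧ z ^ 2 = 1}
      one_mem' := ⟨Z.one_mem, by simp⟩
      mul_mem' := fun {x y} hx hy => ⟨Z.mul_mem hx.1 hy.1, by
        rw [Commute.mul_pow (hZ y hy.1 x (hcc hx.1)), hx.2, hy.2, mul_one]⟩
      inv_mem' := fun {x} hx => ⟨Z.inv_mem hx.1, by rw [inv_pow, hx.2, inv_one]⟩ }
  have vinv : ∀ β : MulAut X, ∀ v ∈ V, β v ∈ V := fun β v hv => ⟨zinv β v hv.1, by rw [← map_pow, hv.2, map_one]⟩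
  haveI hVn : V.Normal := ⟨fun v hv g => vinv (MulAut.conj g) v hv⟩
  haveI hZn : Z.Normal := ⟨fun v hv g => zinv (MulAut.conj g) v hv⟩
  have hVe : IsElementaryAbelian 2 V :=
    ⟨PGrp.isMulCommutative_iff_forall.2 fun x hx y hy => hZ y hy.1 x (hcc hx.1), fun v hv => hv.2⟩
  have hzZ : center X ≤ Z := fun z hz c _ => mem_center_iff.1 hz c
  haveI : Nontrivial X := by
    by_contra h
    rw [not_nontrivial_iff_subsingleton] at h
    exact hna ⟨⟨fun a b => Subsingleton.elim _ _⟩⟩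
  obtain ⟨z, -, hzc, hzo⟩ := PGrp.exists_central_orderOf_eq hA.two ⊤ top_ne_bot
  have hz2 : z ^ 2 = 1 := by rw [← hzo, pow_orderOf_eq_one]
  have hz1 : z ≠ 1 := by rintro rfl; simp at hzo
  have hzV : z ∈ V := ⟨hzZ hzc, hz2⟩
  have hzc2 := card_zpowers_two hz2 hz1
  have hcard : Nat.card V = 2 ∨ Nat.card V = 4 := by
    obtain ⟨n, hn⟩ := PGrp.exists_card_eq_pow hA.two V
    have h1 : n < 3 := by
      by_contra h1
      obtain ⟨L, hL, hLV, hL8⟩ := PGrp.exists_normal_le_card_eq hA.two V 3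
        (hn ▸ Nat.pow_le_pow_right (by norm_num) (by omega))
      exact hE L hL ⟨PGrp.isMulCommutative_of_le hVe.1 hLV, fun v hv => (hLV hv).2⟩ hL8
    have h2 := card_le_of_le (show zpowers z ≤ V by rwa [zpowers_le])
    interval_cases n <;> omega
  have hVc : ∀ v ∈ V, ∀ g, g * v = v * g := by
    rcases hcard with h2 | h4
    · exact fun v hv => mem_center_iff.1 (PGrp.le_center_of_card_eq hA.two V h2 hv)
    · haveI : (zpowers z).Normal := PGrp.normal_of_le_center (by rwa [zpowers_le])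
      have h1 := PGrp.commutator_le_of_card_eq_mul hA.two (zpowers z) V (by rwa [zpowers_le]) (by rw [hzc2, h4])
      have h2 : ∀ v ∈ V, ∀ g, ⁅v, g⁆ = 1 ∨ ⁅v, g⁆ = z := fun v hv g =>
        mem_zpowers_two hz2 (h1 (commutator_mem_commutator hv trivial))
      have hzg := mem_center_iff.1 hzc
      have hM : centralizer (V : Set X) = ⊤ := by
        refine hA.idx _ (fun a b ha hb => ?_) fun β _ x hx v hv => ?_
        · have key : ∀ g, g ∉ centralizer (V : Set X) → ∀ v ∈ V, v ≠ 1 → v ≠ z → ⁅v, g⁆ = z := by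
            intro g hg v hv hv1 hvz
            rcases h2 v hv g with e | e
            · exfalso
              apply hg
              intro w hw
              have e' := commutatorElement_eq_one_iff_mul_comm.1 e
              rcases four_cases h4 hVe.2 hzV hv hw hz1 hv1 hvz with e1 | e1 | e1 | e1 <;> rw [e1]
              · simp
              · exact (hzg g).symm
              · exact e'
              · rw [mul_assoc, ← hzg g, ← mul_assoc, e', mul_assoc]
            · exact e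
          intro v hv
          by_cases hv1 : v = 1
          · simp [hv1]
          by_cases hvz : v = z
          · rw [hvz]; exact (hzg _).symm
          rw [← commutatorElement_eq_one_iff_mul_comm, comm_mul_r (by rw [key b hb v hv hv1 hvz]; exact hzg a),
            key a ha v hv hv1 hvz, key b hb v hv hv1 hvz, ← sq, hz2]
        · have := congrArg β (hx _ (vinv β⁻¹ v hv))
          simpa using this
      intro v hv g
      exact ((hM ▸ mem_top g : g ∈ centralizer (V : Set X)) v hv).symm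
  have common : (∀ z ∈ Z, ∀ g, g * z = z * g) → (∀ x y : X, ⁅x, y⁆ ∈ V) ∧ ∀ x : X, x ^ 2 ∈ Z := by
    intro hc
    have h1 : ∀ c ∈ C, ∀ x y : X, ⁅c, x * y⁆ = ⁅c, x⁆ * ⁅c, y⁆ := fun c hcC x y => comm_mul_r (hc _ (hcZ c hcC y) x)
    have h2 : ∀ c ∈ C, ∀ x : X, ⁅c, x⁆ * ⁅c, x⁆ = 1 := fun c hcC x => by
      rw [← comm_mul_l (hc _ (hcZ c hcC x) c), ← sq]
      exact commutatorElement_eq_one_iff_mul_comm.2 (hc _ (hsq c hcC) x).symm
    have h3 : ∀ x : X, x ^ 2 ∈ Z := fun x c hcC => by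
      rw [← commutatorElement_eq_one_iff_mul_comm, sq, h1 c hcC, h2 c hcC]
    have h4 : ∀ x y : X, ⁅x, y⁆ ∈ Z := fun x y c hcC => by
      let φ : X →* X := MonoidHom.mk' (fun g => ⁅c, g⁆) (h1 c hcC)
      rw [← commutatorElement_eq_one_iff_mul_comm]
      show φ ⁅x, y⁆ = 1
      rw [map_commutatorElement]
      exact commutatorElement_eq_one_iff_mul_comm.2 (hc _ (hcZ c hcC y) _)
    refine ⟨fun x y => ⟨h4 x y, ?_⟩, h3⟩
    rw [sq, ← comm_mul_l (hc _ (h4 x y) x), ← sq]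
    exact commutatorElement_eq_one_iff_mul_comm.2 (hc _ (h3 x) y).symm
  by_cases hα : ∀ β ∈ A, ∀ v ∈ V, β v = v
  · have hZf : ∀ β ∈ A, ∀ k : ℕ, ∀ z ∈ Z, z ^ 2 ^ k = 1 → β z = z := by
      intro β hβ k
      induction k with
      | zero => intro z _ hz; rw [show z = 1 by simpa using hz, map_one]
      | succ k ih =>
        intro z hz h1
        have h2 := ih (z ^ 2) (Z.pow_mem hz 2) (by rw [← pow_mul, ← pow_succ', h1])
        have h3 : z⁻¹ * β z ∈ Z := Z.mul_mem (Z.inv_mem hz) (zinv β z hz)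
        have h4 : (z⁻¹ * β z) ^ 2 = 1 := by
          rw [Commute.mul_pow (hZ _ (zinv β z hz) _ (hcc (Z.inv_mem hz))), ← map_pow, h2, inv_pow, inv_mul_cancel]
        have h5 := hA.odd_fix hβ (z := z) (by group) (hα β hβ _ ⟨h3, h4⟩) h4
        exact (inv_mul_eq_one.1 h5).symm
    have hZf' : ∀ z ∈ Z, ∀ β ∈ A, β z = z := fun z hz β hβ => by
      obtain ⟨k, hk⟩ := hA.two z
      exact hZf β hβ k z hz hk
    have hZc : ∀ z ∈ Z, ∀ g, g * z = z * g := by
      intro z hz g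
      have : centralizer {z} = ⊤ := hA.gen _ fun β hβ x => by
        rw [mem_centralizer_singleton_iff]
        have h1 := hZf' _ (hZn.conj_mem z hz x) β hβ
        rw [map_mul, map_mul, hZf' z hz β hβ, map_inv] at h1
        calc x⁻¹ * β x * z = x⁻¹ * (β x * z * (β x)⁻¹) * β x := by group
          _ = z * (x⁻¹ * β x) := by rw [h1]; group
      exact mem_centralizer_singleton_iff.1 (this ▸ mem_top g)
    obtain ⟨h1, h2⟩ := common hZc
    have h3 : Z ≤ commutator X := fun z hz => hA.fixed (hZf' z hz)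
    have h4 : commutator X ≤ V := commutator_le.2 fun x _ y _ => h1 x y
    exact ⟨V, ⟨hVc, h1, fun x => h4 (h3 (h2 x)), hVe.2⟩, hzZ.trans (h3.trans h4), fun v hv => h3 hv.1, hcard⟩
  push Not at hα
  obtain ⟨a, ha, v0, hv0, hav⟩ := hα
  have h4 : Nat.card V = 4 := by
    refine hcard.resolve_left fun h2 => hav ?_
    have hv1 : v0 ≠ 1 := by rintro rfl; simp at hav
    have := two_idx (W := ⊥) (V := V) bot_le (by simp [h2]) _ (vinv a v0 hv0) _ hv0 (ne_one_map a hv1) hv1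
    have h5 := hv0.2
    rw [sq] at h5
    exact mul_right_cancel ((mem_bot.1 this).trans h5.symm)
  have T : Tri A V a := ⟨hA, h4, hVe.2, hVc, fun β _ => vinv β, ha, v0, hv0, hav⟩
  suffices h : Sp V ∧ center X ≤ V from ⟨V, h.1, h.2, T.le_commutator hna h.1.comm, hcard⟩
  by_cases hZV : Z ≤ V
  · obtain ⟨h1, h2⟩ := common fun z hz => hVc z (hZV hz)
    exact ⟨⟨hVc, h1, fun x => hZV (h2 x), hVe.2⟩, hzZ.trans hZV⟩
  obtain ⟨z0, hz0, hz0V⟩ := SetLike.not_le_iff_exists.1 hZV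
  have hz02 : z0 ^ 2 ≠ 1 := fun h => hz0V ⟨hz0, h⟩
  have hΩ : ∀ c ∈ C, c ^ 2 = 1 → c ∈ V := by
    intro c hc hc2
    refine hE.mem hVe h4 hc2 (fun u hu => (hVc u hu c).symm) fun g => ⟨hcZ c hc g, ?_⟩
    have h1 : c * (c⁻¹ * ⁅c, g⁆) = (c⁻¹ * ⁅c, g⁆) * c := by
      rw [mul_assoc, ← hZ _ (hcZ c hc g) c hc]; group
    have h2 : ⁅c, g⁆ = c * (c⁻¹ * ⁅c, g⁆) := by group
    have h3 : c⁻¹ * ⁅c, g⁆ = g * c⁻¹ * g⁻¹ := by rw [commutatorElement_def]; group
    rw [h2, Commute.mul_pow h1, hc2, h3, conj_pow, inv_pow, hc2]; simp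
  letI : CommGroup Z := { (inferInstance : Group Z) with mul_comm := fun c d => Subtype.ext (hZ _ d.2 _ (hcc c.2)) }
  let f2 : Z →* Z := powMonoidHom 2
  have hV2 : ∀ v ∈ V, ∃ w ∈ Z, w ^ 2 = v := by
    intro v hv
    obtain ⟨k, hk⟩ := PGrp.exists_pow_orderOf_eq hA.two hz02
    have h1 : (z0 ^ 2) ^ k ∈ V := ⟨Z.pow_mem (Z.pow_mem hz0 _) _, by
      have := pow_orderOf_eq_one ((z0 ^ 2) ^ k)
      rwa [hk] at this⟩
    have := T.le (f2.range.map Z.subtype) (by
      rintro _ ⟨_, ⟨c, rfl⟩, rfl⟩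
      exact ⟨_, ⟨⟨a c, zinv a c c.2⟩, rfl⟩, (map_pow a _ _).symm⟩) h1 (fun h => by simp [h] at hk)
      ((f2.range.map Z.subtype).pow_mem ⟨_, ⟨⟨z0, hz0⟩, rfl⟩, rfl⟩ k) hv
    obtain ⟨_, ⟨c, rfl⟩, rfl⟩ := this
    exact ⟨c, c.2, rfl⟩
  have hcV : ∀ c ∈ C, ∀ d ∈ C, ⁅c, d⁆ ∈ V := fun c hc d hd => ⟨hcZ c hc d, by
    rw [sq, ← comm_mul_l (hZ _ (hcZ c hc d) c hc), ← sq]
    exact commutatorElement_eq_one_iff_mul_comm.2 (hZ _ (hsq c hc) d hd).symm⟩
  have hCZ : Nat.card C ≤ 4 * Nat.card Z := by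
    let σ : C →* Z ⧸ f2.range := MonoidHom.mk' (fun c => QuotientGroup.mk ⟨(c : X) ^ 2, hsq c c.2⟩) (by
      intro c d
      rw [← QuotientGroup.mk_mul, QuotientGroup.eq]
      obtain ⟨w, hw, e⟩ := hV2 _ (V.inv_mem (hcV d d.2 c c.2))
      refine ⟨⟨w, hw⟩, Subtype.ext ?_⟩
      show w ^ 2 = (((c : X) * d) ^ 2)⁻¹ * ((c : X) ^ 2 * (d : X) ^ 2)
      rw [sq_mul (hZ _ (hcZ d d.2 c) c c.2), e, ← hVc _ (hcV d d.2 c c.2)]; group)
    have k1 : σ.ker ≤ Z.subgroupOf C := by
      intro c hc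
      obtain ⟨w, hw⟩ := (QuotientGroup.eq_one_iff _).1 (show (QuotientGroup.mk ⟨(c : X) ^ 2, hsq c c.2⟩ : Z ⧸ f2.range) = 1 from hc)
      have e : (w : X) ^ 2 = (c : X) ^ 2 := congrArg Subtype.val hw
      have h1 := hΩ _ (C.mul_mem c.2 (hcc (Z.inv_mem w.2))) (by
        rw [Commute.mul_pow (hZ _ (Z.inv_mem w.2) c c.2), inv_pow, e, mul_inv_cancel])
      exact (Z.mul_mem_cancel_right (Z.inv_mem w.2)).1 h1.1
    have k2 : f2.ker = V.subgroupOf Z := by
      ext c
      exact ⟨fun hc => ⟨c.2, congrArg Subtype.val hc⟩, fun hc => Subtype.ext hc.2⟩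
    have e1 := f2.ker.card_mul_index
    have e2 := f2.range.card_mul_index
    rw [index_ker, k2, Nat.card_congr (subgroupOfEquivOfLe (show V ≤ Z from fun v hv => hv.1)).toEquiv, h4] at e1
    have e3 : f2.range.index = 4 := by
      rw [← e1, mul_comm 4] at e2
      exact Nat.eq_of_mul_eq_mul_left Nat.card_pos e2
    have e4 := σ.ker.card_mul_index
    rw [index_ker] at e4
    have e5 : Nat.card σ.range ≤ 4 := e3 ▸ card_le_card_group σ.range
    have e6 := card_le_of_le k1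
    rw [Nat.card_congr (subgroupOfEquivOfLe hcc).toEquiv] at e6
    rw [← e4, mul_comm]
    exact Nat.mul_le_mul e5 e6
  have hab : ∀ c ∈ C, ∀ d ∈ C, c * d = d * c := by
    intro c hc d hd
    by_contra hne
    have h1 : ⁅c, d⁆ ≠ 1 := fun h => hne (commutatorElement_eq_one_iff_mul_comm.1 h)
    have h2 := g4 C Z hcc hcZ hZ hsq hCZ hc hd h1 _ (cinv a c hc) _ (cinv a d hd)
    rw [← map_commutatorElement] at h2
    rcases mem_zpowers_two (hcV c hc d hd).2 h2 with e | e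
    · exact ne_one_map a h1 e
    · exact T.ne (hcV c hc d hd) h1 e
  exact hom_case T hE hna (fun β _ => cinv β) hab
    (fun x hx => hcc fun c hc => (commutatorElement_eq_one_iff_mul_comm.1 (hx c hc)).symm) hΩ
    (fun v hv => hcc hv.1) ⟨z0, hcc hz0, hz02⟩

/-- Let X be a finite nonabelian 2-group with no normal abelian subgroup that is self-centralizing and contains an elementary abelian subgroup of order 8. Suppose a group A of automorphisms of X of odd order satisfies [X, A] = X. Then X is the quaternion group of order 8, or X is special of order 64 with exactly three involutions, all central, or X is extraspecial of order 32 with exactly eleven involutions (the central product of a quaternion group and a dihedral group of order 8). -/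
theorem result {X : Type*} [Group X] [Finite X] (hX : IsPGroup 2 X) (hna : ¬ IsMulCommutative X)
    (hscn : ¬ ∃ A : Subgroup X, A.Normal ∧ Subgroup.centralizer (A : Set X) = A ∧
      ∃ E : Subgroup X, E ≤ A ∧ Cfsg.IsElementaryAbelian 2 E ∧ Nat.card E = 8)
    (A : Subgroup (MulAut X)) (hA : Odd (Nat.card A))
    (hXA : Subgroup.closure {g : X | ∃ φ ∈ A, ∃ x : X, g = x⁻¹ * φ x} = ⊤) :
    Nonempty (X ≃* QuaternionGroup 2) ∨
      (Cfsg.IsSpecial 2 X ∧ Nat.card X = 64 ∧ Nat.card {x : X // orderOf x = 2} = 3 ∧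
        ∀ x : X, orderOf x = 2 → x ∈ Subgroup.center X) ∨
      (Cfsg.IsExtraspecial 2 X ∧ Nat.card X = 32 ∧ Nat.card {x : X // orderOf x = 2} = 11) := by
  haveI : Fact (Nat.Prime 2) := ⟨Nat.prime_two⟩
  have hact : Act A := ⟨hX, hA, fun M hM => by
    rw [eq_top_iff, ← hXA, Subgroup.closure_le]
    rintro _ ⟨φ, hφ, x, rfl⟩
    exact hM φ hφ x⟩
  have hE : NoE X := by
    intro E hEn hEe h8
    obtain ⟨B, hB, -, hEB, hc⟩ := PGrp.exists_normal_self_centralizing hX E hEe.1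
    exact hscn ⟨B, hB, hc, E, hEB, hEe, h8⟩
  obtain ⟨V, h1, h2, h3, h4 | h4⟩ := reduce hact hna hE
  · rcases case_two hact hna hE h1 h2 h3 h4 with h | h
    · exact Or.inl h
    · exact Or.inr (Or.inr h)
  · exact Or.inr (Or.inl (case_four hact hna hE h1 h2 h3 h4))

end Cfsg.Agent.S1904
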