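import Cfsg.Statements.S1905
import Cfsg.Agent.Lib.Layer.Spec
import Cfsg.Agent.Lib.Invol.Strong

set_option autoImplicit false
open Cfsg

namespace Cfsg.Agent.S1905

open Subgroup Cfsg.Lib.Core Cfsg.Lib.Amalg Cfsg.Lib.BG1 Cfsg.Lib.Layer
open Cfsg.Lib.Invol

/-- Let M be a subgroup of even order of a finite group S such that M contains the centralizer in S of each of its involutions and the normal core of M in S has odd order. Then all involutions of S are conjugate. If moreover N_S(X) ≤ M for a Sylow 2-subgroup X of M and I is an involution in the centre of X, then all involutions of M are conjugate in M and M = M₀ C_M(I) for some subgroup M₀ of M of odd order. -/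
theorem result {S : Type*} [Group S] [Finite S] (M : Subgroup S) (hM : Even (Nat.card M))
    (hC : ∀ i ∈ M, orderOf i = 2 → Subgroup.centralizer ({i} : Set S) ≤ M) (hcore : Odd (Nat.card M.normalCore)) :
    (∀ x y : S, orderOf x = 2 → orderOf y = 2 → IsConj x y) ∧
      ∀ (X : Sylow 2 M) (I : M), I ∈ (Subgroup.center ↥(X : Subgroup ↥M)).map (X : Subgroup ↥M).subtype → orderOf I = 2 →
        Subgroup.normalizer (((X : Subgroup M).map M.subtype : Subgroup S) : Set S) ≤ M →
        (∀ x y : M, orderOf x = 2 → orderOf y = 2 → IsConj x y) ∧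
          ∃ M₀ : Subgroup M, Odd (Nat.card M₀) ∧
            ∀ m : M, ∃ a ∈ M₀, ∃ c ∈ Subgroup.centralizer ({I} : Set M), m = a * c := by
  classical
  haveI : Fact (Nat.Prime 2) := ⟨Nat.prime_two⟩
  have hout : ∀ k : S, orderOf k = 2 → ∃ k', IsConj k k' ∧ k' ∉ M := by
    intro k hk
    by_contra hc
    push Not at hc
    have hmem : k ∈ M.normalCore := fun b => hc _ (isConj_conj b k)
    have h2 : 2 ∣ Nat.card M.normalCore := by
      rw [← hk]; exact Subgroup.orderOf_dvd_natCard _ hmem
    exact (Nat.not_even_iff_odd.2 hcore) (even_iff_two_dvd.2 h2)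
  have hio : ∀ i ∈ M, orderOf i = 2 → ∀ k : S, orderOf k = 2 → k ∉ M → IsConj i k := by
    intro i hi hi2 k hk2 hk
    by_contra hc
    obtain ⟨z, hz, h1, h2, -⟩ := exists_central_of_not_isConj (mul_self_of_two hi2) (mul_self_of_two hk2) hc
    have hzM : z ∈ M := hC i hi hi2 (mem_centralizer_singleton_iff.2 h1.eq)
    exact hk (hC z hzM hz (mem_centralizer_singleton_iff.2 h2.symm.eq))
  obtain ⟨i0, hi0⟩ := exists_prime_orderOf_dvd_card' (G := M) 2 (even_iff_two_dvd.1 hM)
  have hi0' : orderOf (i0 : S) = 2 := by rw [Subgroup.orderOf_coe]; exact hi0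
  have hall : ∀ x : S, orderOf x = 2 → IsConj (i0 : S) x := by
    intro x hx
    obtain ⟨x', h1, h2⟩ := hout x hx
    exact (hio _ i0.2 hi0' x' (by rw [← orderOf_of_isConj h1]; exact hx) h2).trans h1.symm
  have h1 : ∀ x y : S, orderOf x = 2 → orderOf y = 2 → IsConj x y := fun x y hx hy =>
    (hall x hx).symm.trans (hall y hy)
  refine ⟨h1, fun X I hI hI2 hN => ?_⟩
  set X' : Subgroup S := (X : Subgroup M).map M.subtype with hX'
  have hXM : Syl 2 X' M := syl_of_sylow X
  have hXS : Syl 2 X' ⊤ := hXM.of_normalizer_le le_top (inf_le_right.trans hN)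
  have hI2' : orderOf (I : S) = 2 := by rw [Subgroup.orderOf_coe]; exact hI2
  have hXI : X' ≤ 𝐂[(I : S)] := by
    rintro _ ⟨x, hx, rfl⟩
    obtain ⟨j, hj, rfl⟩ := hI
    have := mem_center_iff.1 hj ⟨x, hx⟩
    exact mem_centralizer_singleton_iff.2 (congrArg (fun y : (X : Subgroup M) => ((y : M) : S)) this)
  have hne : M ≠ ⊤ := by
    obtain ⟨k, -, hk⟩ := hout _ hi0'
    intro h; exact hk (h ▸ mem_top _)
  have hSE : IsStronglyEmbedded M := by
    refine stronglyEmbedded_iff.2 ⟨hne, hM, fun t g ht htM hg => ?_⟩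
    obtain ⟨c, hc⟩ := isConj_iff.1 (h1 _ _ hI2' ht)
    have hT : cj c X' ≤ 𝐂[t] := by
      rw [← hc, ← cj_centralizer_singleton]; exact cj_mono _ hXI
    have hT1 : Syl 2 (cj c X') M := (hXS.conj_top c).of_le (hT.trans (hC t htM ht)) le_top
    have hT2 : Syl 2 (cj g (cj c X')) M := ((hXS.conj_top c).conj_top g).of_le (by
      refine le_trans ?_ (hC _ hg (by rw [orderOf_conj]; exact ht))
      rw [← cj_centralizer_singleton]; exact cj_mono _ hT) le_top
    obtain ⟨m, hm, e1⟩ := hXM.exists_conj hT1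
    obtain ⟨m', hm', e2⟩ := hT2.exists_conj hXM
    rw [← e1, ← cj_mul, ← cj_mul] at e2
    have := hN (cj_eq_self_iff.1 e2)
    have h3 := M.mul_mem (M.mul_mem (M.inv_mem hm') this) (M.inv_mem hm)
    simpa [mul_assoc] using h3
  refine ⟨fun x y hx hy => ?_, ?_⟩
  · obtain ⟨h, hh, e⟩ := se_exists_conj hSE (by rw [Subgroup.orderOf_coe]; exact hx)
      (by rw [Subgroup.orderOf_coe]; exact hy) x.2 y.2
    exact isConj_iff.2 ⟨⟨h, hh⟩, Subtype.ext e⟩
  · obtain ⟨u, hu, hu2⟩ := se_exists_two_not_mem hSE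
    refine ⟨(cj u M).subgroupOf M, ?_, fun m => ?_⟩
    · rw [← Nat.not_even_iff_odd, even_iff_two_dvd]
      intro h
      obtain ⟨d, hd⟩ := exists_prime_orderOf_dvd_card' 2 h
      have := se_odd_of_mem hSE hu (d : M).2 (mem_cj.1 (mem_subgroupOf.1 d.2))
      rw [Subgroup.orderOf_coe, Subgroup.orderOf_coe, hd] at this
      exact absurd this (by decide)
    · obtain ⟨d, hd, hi, e⟩ := se_exists_inverted_conj hSE hu2 hu hI2' I.2
        (t := (m : S) * I * (m : S)⁻¹) (by rw [orderOf_conj]; exact hI2')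
        (M.mul_mem (M.mul_mem m.2 I.2) (M.inv_mem m.2))
      refine ⟨⟨d, hd⟩, ?_, (⟨d, hd⟩ : M)⁻¹ * m, ?_, by group⟩
      · rw [mem_subgroupOf, mem_cj, inv_of_two hu2]
        have : u * d * u = d⁻¹ := by rw [← hi, inv_of_two hu2]
        change u * d * u ∈ M
        rw [this]; exact M.inv_mem hd
      · rw [mem_centralizer_singleton_iff]
        apply Subtype.ext
        change d⁻¹ * (m : S) * I = I * (d⁻¹ * m)
        have : (I : S) = d⁻¹ * ((m : S) * I * (m : S)⁻¹) * d := by rw [← e]; group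
        conv_rhs => rw [this]
        calc d⁻¹ * (m : S) * I = d⁻¹ * ((m : S) * I * (m : S)⁻¹) * m := by group
          _ = _ := by group

end Cfsg.Agent.S1905
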