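import Cfsg.Statements.S1906
import Cfsg.Agent.Lib.Max.R2
import Cfsg.Agent.Lib.Layer.Transf
import Cfsg.Agent.Lib.Chev.SL3
import Cfsg.Agent.Lib.PGrp.OmegaBasic
import Cfsg.Agent.Lib.Invol.Focal

set_option autoImplicit false
open Cfsg

namespace Cfsg.Agent.S1906

open Subgroup Cfsg.Lib Matrix Cfsg.Lib.Chev.SL3
open scoped commutatorElement

theorem diag_comm {F : Type*} [Field F] (h2 : (2 : F) ≠ 0) {a b x y : SpecialLinearGroup (Fin 3) F}
    (ha : a * a = 1) (hb : b * b = 1) (hab : a * b = b * a) (ha1 : a ≠ 1) (hb1 : b ≠ 1) (hne : a ≠ b)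
    (hxa : x * a = a * x) (hxb : x * b = b * x) (hya : y * a = a * y) (hyb : y * b = b * y) : x * y = y * x := by
  obtain ⟨κ, rfl, rfl⟩ := exists_diag h2 ha hb hab ha1 hb1 hne
  obtain ⟨x, rfl⟩ := κ.surjective x
  obtain ⟨y, rfl⟩ := κ.surjective y
  simp only [← map_mul, κ.injective.eq_iff] at hxa hxb hya hyb ⊢
  have key : ∀ g : SpecialLinearGroup (Fin 3) F, g * blk (-1) = blk (-1) * g → g * d2 = d2 * g →
      g 0 1 = 0 ∧ g 0 2 = 0 ∧ g 1 0 = 0 ∧ g 1 2 = 0 ∧ g 2 0 = 0 ∧ g 2 1 = 0 := fun g h1 h3 => by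
    have e1 := fun i j => congrArg (fun m : SpecialLinearGroup (Fin 3) F => m.1 i j) h1
    have e3 := fun i j => congrArg (fun m : SpecialLinearGroup (Fin 3) F => m.1 i j) h3
    have a1 := e1 0 2
    have a2 := e1 1 2
    have a3 := e1 2 0
    have a4 := e1 2 1
    have a5 := e3 0 1
    have a6 := e3 1 0
    simp [blk_val, d2, mul_apply, Fin.sum_univ_succ] at a1 a2 a3 a4 a5 a6
    refine ⟨?_, ?_, ?_, ?_, ?_, ?_⟩ <;> apply mul_left_cancel₀ h2
    · linear_combination -a5
    · linear_combination a1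
    · linear_combination a6
    · linear_combination a2
    · linear_combination -a3
    · linear_combination -a4
  obtain ⟨x1, x2, x3, x4, x5, x6⟩ := key x hxa hxb
  obtain ⟨y1, y2, y3, y4, y5, y6⟩ := key y hya hyb
  ext i j
  fin_cases i <;> fin_cases j <;> simp [mul_apply, Fin.sum_univ_succ, *, mul_comm]

theorem exists_sl {F : Type*} [Field F] (x : GL (Fin 3) F) {k : ℕ} (hx : x ^ 2 ^ k = 1) :
    ∃ (c : F) (s : SpecialLinearGroup (Fin 3) F), c ≠ 0 ∧ s.1 = c • x.1 := by
  have h1 : GeneralLinearGroup.det x ^ 2 ^ k = 1 := by rw [← map_pow, hx, map_one]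
  have hco : (3 : ℕ).Coprime (orderOf (GeneralLinearGroup.det x)⁻¹) := by
    rw [orderOf_inv]
    exact Nat.Coprime.coprime_dvd_right (orderOf_dvd_of_pow_eq_one h1) (Nat.Coprime.pow_right _ (by norm_num))
  obtain ⟨m, hm⟩ := exists_pow_eq_self_of_coprime hco
  refine ⟨((GeneralLinearGroup.det x)⁻¹ ^ m : Fˣ), ⟨((GeneralLinearGroup.det x)⁻¹ ^ m : Fˣ).1 • x.1, ?_⟩, Units.ne_zero _, rfl⟩
  rw [det_smul, Fintype.card_fin, ← Units.val_pow_eq_pow_val, ← pow_mul, mul_comm m, pow_mul, hm]
  exact (GeneralLinearGroup.det x).inv_mul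

/-- Let G be a finite group with no subgroup of index 2 whose Sylow 2-subgroup X embeds in GL₃(F) for a finite field F of odd order. If X contains an elementary abelian subgroup of order 8, then X is abelian. -/
theorem result {G : Type*} [Group G] [Finite G] (hG : ∀ H : Subgroup G, H.index ≠ 2) (X : Sylow 2 G)
    {F : Type*} [Field F] [Fintype F] (hF : Odd (Fintype.card F))
    (f : ↥(X : Subgroup G) →* GL (Fin 3) F) (hf : Function.Injective f)
    (E : Subgroup G) (hE : E ≤ (X : Subgroup G)) (hEa : Cfsg.IsElementaryAbelian 2 E) (hE8 : Nat.card E = 8) :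
    IsMulCommutative (X : Subgroup G) := by
  classical
  have h2 : (2 : F) ≠ 0 := Forms.odd_card_iff.1 (by rwa [Nat.card_eq_fintype_card])
  by_contra hna
  have hE' := PGrp.isElementaryAbelian_map f (PGrp.isElementaryAbelian_subgroupOf hEa (X : Subgroup G))
  have hB := PGrp.isElementaryAbelian_sup_zpowers hE' (x := -1) (fun y _ => by simp) (by simp)
  have hle := PGrp.pRankLE_iff.1 (Forms.R2.gl_le h2 3) _ hB
  have hc : Nat.card ((E.subgroupOf X).map f) = 2 ^ 3 := by
    rw [card_map_of_injective hf, Core.card_subgroupOf_of_le hE, hE8]; rfl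
  obtain ⟨z, -, hz⟩ : (-1 : GL (Fin 3) F) ∈ (E.subgroupOf X).map f :=
    (eq_of_le_of_card_ge le_sup_left (hc ▸ hle)) ▸ mem_sup_right (mem_zpowers _)
  let φ : (X : Subgroup G) →* Fˣ := GeneralLinearGroup.det.comp f
  have hm1 : (-1 : Fˣ) ≠ 1 := fun e => h2 (by
    have := congrArg Units.val e
    simp only [Units.val_neg, Units.val_one] at this
    linear_combination -this)
  have hφz : φ z = -1 := by
    refine Units.ext ?_
    simp [φ, hz, det_neg]
    norm_num
  have hzc : ∀ x : (X : Subgroup G), x * z = z * x := fun x => hf (by simp [hz])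
  have hz1 : z ≠ 1 := fun e => hm1 (by rw [← hφz, e, map_one])
  have hz2 : orderOf (z : G) = 2 := by
    rw [orderOf_coe]
    exact orderOf_eq_prime (hf (by simp [hz])) hz1
  obtain ⟨g, ⟨m, hm⟩, hg⟩ := Layer.transfer_extremal (T := X) (Invol.odd_index_sylow X) φ hm1 (by simp)
    (fun x hx => by
      have : (φ x).1 * (φ x).1 = 1 := by rw [← Units.val_mul, ← map_mul, ← sq, hx, map_one, Units.val_one]
      exact (mul_self_eq_one_iff.1 this).imp (fun e => Units.ext e) fun e => Units.ext e) hz2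
    (Abelianization.commutator_subset_ker _ ((Invol.no_index_two_iff_le_commutator X).1 hG z.2)) X.2
    fun x hx => mem_centralizer_singleton_iff.2 (congrArg Subtype.val (hzc ⟨x, hx⟩))
  have hgN : g ∈ normalizer ((X : Subgroup G) : Set G) := by
    rw [← inv_mem_iff]
    exact mem_normalizer_fintype fun x hx => by rw [inv_inv]; exact hg x hx
  set t : (X : Subgroup G) := ⟨_, m⟩ with ht
  have htc : ∀ x : (X : Subgroup G), x * t = t * x := fun x => by
    have := congrArg Subtype.val (hzc ⟨_, (mem_normalizer_iff.1 hgN x).1 x.2⟩)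
    refine Subtype.ext ?_
    simp only [coe_mul, ht] at this ⊢
    calc (x : G) * (g⁻¹ * z * g) = g⁻¹ * (g * x * g⁻¹ * z) * g := by group
      _ = _ := by rw [this]; group
  have hX' : ⁅(X : Subgroup G), (X : Subgroup G)⁆ ≠ ⊥ := fun e => hna ⟨⟨fun a b => Subtype.ext
    (commutator_eq_bot_iff_le_centralizer.1 e b.2 a a.2)⟩⟩
  have hle' : ⁅(X : Subgroup G), (X : Subgroup G)⁆ ≤ X := commutator_le_self _
  have hker : ∀ u : (X : Subgroup G), (u : G) ∈ ⁅(X : Subgroup G), (X : Subgroup G)⁆ → φ u = 1 := fun u hu => by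
    have : ⁅(X : Subgroup G), (X : Subgroup G)⁆ ≤ φ.ker.map (X : Subgroup G).subtype :=
      commutator_le.2 fun a ha b hb => ⟨⁅(⟨a, ha⟩ : (X : Subgroup G)), ⟨b, hb⟩⁆, by
        rw [SetLike.mem_coe, MonoidHom.mem_ker, map_commutatorElement, commutatorElement_eq_one_iff_mul_comm, mul_comm], rfl⟩
    obtain ⟨v, hv, e⟩ := this hu
    rw [← show v = u from Subtype.ext e]; exact hv
  have hN : normalizer ((X : Subgroup G) : Set G) ≤
      normalizer ((⁅(X : Subgroup G), (X : Subgroup G)⁆ : Subgroup G) : Set G) := Core.le_normalizer_commutator le_rfl le_rfl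
  have h0 := Core.inf_centralizer_ne_bot_of_isPGroup (X.2.to_le hle') X.2 (le_normalizer.trans hN) hX'
  obtain ⟨⟨u', hu⟩, hu2⟩ := exists_prime_orderOf_dvd_card' 2
    (Amalg.dvd_card_of_isPGroup_ne_bot (X.2.to_le (inf_le_left.trans hle')) h0)
  rw [← orderOf_coe] at hu2
  simp only at hu2
  let u : (X : Subgroup G) := ⟨u', hle' hu.1⟩
  have huc : ∀ x : (X : Subgroup G), x * u = u * x := fun x => Subtype.ext (hu.2 x x.2)
  by_cases hut : u = t
  · have h1 : (t : G) ∈ ⁅(X : Subgroup G), (X : Subgroup G)⁆ := hut ▸ hu.1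
    have h3 := (mem_normalizer_iff.1 (hN hgN) _).1 h1
    have h4 : g * (t : G) * g⁻¹ = z := by simp [ht, mul_assoc]
    rw [h4] at h3
    exact hm1 (hφz ▸ hker z h3)
  obtain ⟨s, hs⟩ : ∃ s : ∀ x : (X : Subgroup G), φ x = 1 → SpecialLinearGroup (Fin 3) F, ∀ x hx, (s x hx).1 = (f x).1 :=
    ⟨fun x hx => ⟨(f x).1, congrArg Units.val hx⟩, fun _ _ => rfl⟩
  have hinj : ∀ x y : (X : Subgroup G), (f x).1 = (f y).1 → x = y := fun x y e => hf (Units.ext e)
  have hmul : ∀ x y : (X : Subgroup G), (f x).1 * (f y).1 = (f (x * y)).1 := fun x y => by simp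
  have hu1 : u * u = 1 := Subtype.ext (by simpa [sq, hu2] using pow_orderOf_eq_one u')
  have ht1 : t * t = 1 := Subtype.ext (by
    have : (z : G) * z = 1 := by simpa [sq, hz2] using pow_orderOf_eq_one (z : G)
    simp only [coe_mul, ht, coe_one]
    calc g⁻¹ * z * g * (g⁻¹ * z * g) = g⁻¹ * (z * z) * g := by group
      _ = 1 := by rw [this]; group)
  refine hna ⟨⟨fun x y => ?_⟩⟩
  obtain ⟨k, hk⟩ := X.2 x
  obtain ⟨l, hl⟩ := X.2 y
  obtain ⟨c, x', hc, ex⟩ := exists_sl (f x) (k := k) (by rw [← map_pow, hk, map_one])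
  obtain ⟨d, y', hd, ey⟩ := exists_sl (f y) (k := l) (by rw [← map_pow, hl, map_one])
  have hcm : ∀ (c : F) (x w : (X : Subgroup G)) (x' : SpecialLinearGroup (Fin 3) F) (hw : φ w = 1), x'.1 = c • (f x).1 →
      x * w = w * x → x' * s w hw = s w hw * x' := fun c x w x' hw e h => Subtype.ext (by
    show x'.1 * (s w hw).1 = (s w hw).1 * x'.1
    rw [e, hs, smul_mul_assoc, mul_smul_comm, hmul, hmul, h])
  have := diag_comm h2 (a := s u (hker u hu.1)) (b := s t hm) (x := x') (y := y')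
    (Subtype.ext (show (s u _).1 * (s u _).1 = 1 by rw [hs, hmul, hu1]; simp))
    (Subtype.ext (show (s t _).1 * (s t _).1 = 1 by rw [hs, hmul, ht1]; simp))
    (Subtype.ext (show (s u _).1 * (s t _).1 = (s t _).1 * (s u _).1 by rw [hs, hs, hmul, hmul, htc u]))
    (fun e => by
      have : u = 1 := hinj _ _ (by simpa [hs] using congrArg Subtype.val e)
      have : u' = 1 := congrArg Subtype.val this
      rw [this, orderOf_one] at hu2; omega)
    (fun e => by
      have : t = 1 := hinj _ _ (by simpa [hs] using congrArg Subtype.val e)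
      have : g⁻¹ * z * g = 1 := congrArg Subtype.val this
      exact hz1 (Subtype.ext (by
        calc (z : G) = g * (g⁻¹ * z * g) * g⁻¹ := by group
          _ = 1 := by rw [this]; group)))
    (fun e => hut (hinj _ _ (by simpa only [hs] using congrArg Subtype.val e)))
    (hcm c x u x' _ ex (huc x)) (hcm c x t x' _ ex (htc x)) (hcm d y u y' _ ey (huc y)) (hcm d y t y' _ ey (htc y))
  have e : x'.1 * y'.1 = y'.1 * x'.1 := congrArg Subtype.val this
  simp only [ex, ey, smul_mul_assoc, mul_smul_comm, hmul, smul_smul] at e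
  rw [mul_comm d c] at e
  exact hinj _ _ (smul_right_injective _ (mul_ne_zero hc hd) e)

end Cfsg.Agent.S1906
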