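import Cfsg.Statements.S1907
import Cfsg.Agent.Lib.Layer.Bender
import Cfsg.Agent.Lib.Core.UpperP

set_option autoImplicit false
open Cfsg

namespace Cfsg.Agent.S1907

open Subgroup Cfsg.Lib.Core Cfsg.Lib.Amalg Cfsg.Lib.BG1 Cfsg.Lib.Layer

/-- Let P be a Sylow p-subgroup of a finite group G, H = P ∩ O_{p',p}(G), N = N_G(H) and D = O_{p'}(G). (a) If y is an element of p-power order of N and d ∈ D with d⁻¹ y d ∈ N, then d = d₁ d₂ with d₁ ∈ C_D(y) and d₂ ∈ C_D(H). (b) Two elements of P that are conjugate in G are conjugate in N. -/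
theorem result {G : Type*} [Group G] [Finite G] {p : ℕ} [Fact p.Prime] (P : Sylow p G) :
    (∀ y ∈ Subgroup.normalizer (((P : Subgroup G) ⊓ Cfsg.pPrimePCore p G : Subgroup G) : Set G), (∃ k : ℕ, orderOf y = p ^ k) →
      ∀ d ∈ Cfsg.pPrimeCore p G, d⁻¹ * y * d ∈ Subgroup.normalizer (((P : Subgroup G) ⊓ Cfsg.pPrimePCore p G : Subgroup G) : Set G) →
        ∃ d₁ ∈ Cfsg.pPrimeCore p G ⊓ Subgroup.centralizer ({y} : Set G),
          ∃ d₂ ∈ Cfsg.pPrimeCore p G ⊓ Subgroup.centralizer (((P : Subgroup G) ⊓ Cfsg.pPrimePCore p G : Subgroup G) : Set G), d = d₁ * d₂) ∧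
    ∀ x y : G, x ∈ (P : Subgroup G) → y ∈ (P : Subgroup G) → IsConj x y →
      ∃ n ∈ Subgroup.normalizer (((P : Subgroup G) ⊓ Cfsg.pPrimePCore p G : Subgroup G) : Set G), n * x * n⁻¹ = y := by
  have hp : p.Prime := Fact.out
  haveI := pPrimePCore_normal p G
  have hO : ¬ p ∣ Nat.card (pPrimeCore p G) := (Nat.Prime.coprime_iff_not_dvd hp).1 (coprime_card_pPrimeCore p G).symm
  have hS := (syl_top P).inf_normal_top (pPrimePCore p G)
  have hs := pPrimeCore_sup_sylow_inf P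
  have hN := pPrimeCore_sup_normalizer_sylow_inf P
  have hPn : (P : Subgroup G) ≤ 𝐍((P : Subgroup G) ⊓ pPrimePCore p G) := le_normalizer_inf le_normalizer le_normalizer_of_normal'
  generalize (P : Subgroup G) ⊓ pPrimePCore p G = H at *
  have key : ∀ y ∈ 𝐍(H), (∃ k : ℕ, orderOf y = p ^ k) → ∀ d ∈ pPrimeCore p G, d⁻¹ * y * d ∈ 𝐍(H) →
      ∃ d₁ ∈ pPrimeCore p G ⊓ 𝐂[y], ∃ d₂ ∈ pPrimeCore p G ⊓ 𝐂(H), d = d₁ * d₂ := by
    rintro y hy ⟨k, hk⟩ d hd hyd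
    have hY := Lib.Amalg.isPGroup_zpowers_of_orderOf hk
    have h1 := hS.conj_of_mem_normalizer (g := d) (le_normalizer_of_normal' (mem_top d))
    have h2 : zpowers y ≤ 𝐍(cj d H) := zpowers_le.2 (by rw [← cj_normalizer]; exact mem_cj.2 hyd)
    have s : ∀ K, Syl p K (pPrimePCore p G) → zpowers y ≤ 𝐍(K) → Syl p (K ⊔ zpowers y) (pPrimeCore p G ⊔ (H ⊔ zpowers y)) ∧
        (K ⊔ zpowers y) ⊓ pPrimePCore p G = K := fun K a b => by
      have c := isPGroup_sup_of_le_normalizer' a.2 hY b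
      have e : pPrimeCore p G ⊔ K = pPrimePCore p G := by
        obtain ⟨S, rfl⟩ := a.exists_sylow
        exact pPrimeCore_sup_sylow_pPrimePCore S
      refine ⟨?_, a.eq_of_le _ (le_inf le_sup_left a.1) inf_le_right (c.to_le inf_le_left)⟩
      rw [← sup_assoc, hs, ← e, sup_assoc]
      exact syl_sup_of_not_dvd c le_normalizer_of_normal' hO
    obtain ⟨s1, e1⟩ := s H hS (zpowers_le.2 hy)
    obtain ⟨s2, e2⟩ := s _ h1 h2
    obtain ⟨g, hg, e⟩ := s1.exists_conj s2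
    obtain ⟨a, ha, b, hb, rfl⟩ := (mem_sup_of_le_normalizer' le_normalizer_of_normal').1 hg
    rw [cj_mul, cj_of_mem hb] at e
    have y1 : y ∈ cj d H ⊔ zpowers y := mem_sup_right (mem_zpowers y)
    have h3 : a * y * a⁻¹ * y⁻¹ ∈ (cj d H ⊔ zpowers y) ⊓ pPrimeCore p G := mem_inf.2 ⟨mul_mem (e ▸ conj_mem_cj a
      (mem_sup_right (mem_zpowers y))) (inv_mem y1), by
        simpa [mul_assoc] using mul_mem ha (Normal.conj_mem inferInstance _ (inv_mem ha) y)⟩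
    rw [inf_eq_bot_of_isPGroup_of_not_dvd hp s2.2 hO, mem_bot] at h3
    have h4 : cj a H = cj d H := by rw [← e2, ← e, ← cj_normal a (pPrimePCore p G), ← cj_inf, e1]
    have h5 : a⁻¹ * d ∈ pPrimeCore p G ⊓ 𝐍(H) := mem_inf.2 ⟨mul_mem (inv_mem ha) hd,
      cj_eq_self_iff.1 (by rw [cj_mul, ← h4, cj_inv_cj])⟩
    refine ⟨a, mem_inf.2 ⟨ha, mem_centralizer_singleton_iff.2 (by
      calc a * y = a * y * a⁻¹ * y⁻¹ * (y * a) := by group
        _ = _ := by rw [h3, one_mul])⟩, _, mem_inf.2 ⟨h5.1, le_cent_of_coprime_of_norm inf_le_right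
      (le_normalizer_inf le_normalizer_of_normal' (le_normalizer_of_le le_normalizer))
      (coprime_of_isPGroup_of_not_dvd hp hS.2 (not_dvd_card_of_le inf_le_left hO)).symm h5⟩, by group⟩
  refine ⟨key, fun x y hx hy h => ?_⟩
  obtain ⟨g, rfl⟩ := isConj_iff.1 h
  obtain ⟨n, hn, d, hd, rfl⟩ := (mem_sup_of_le_normalizer le_normalizer_of_normal').1 ((sup_comm _ _).trans hN ▸ mem_top g)
  obtain ⟨a, ha, b, hb, e⟩ := key x (hPn hx) (IsPGroup.iff_orderOf.1 P.isPGroup' ⟨x, hx⟩ |>.imp fun _ e =>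
    (orderOf_mk x hx).symm.trans e) d⁻¹ (inv_mem hd) (by
      simpa [mul_assoc] using mul_mem (mul_mem (inv_mem hn) (hPn hy)) hn)
  refine ⟨n * b⁻¹, mul_mem hn (inv_mem (centralizer_le_normalizer _ hb.2)), ?_⟩
  have h1 := mem_centralizer_singleton_iff.1 ha.2
  rw [← inv_inv d, e]
  calc n * b⁻¹ * x * (n * b⁻¹)⁻¹ = n * b⁻¹ * a⁻¹ * (a * x) * (n * b⁻¹)⁻¹ := by group
    _ = _ := by rw [h1]; group

end Cfsg.Agent.S1907
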