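import Cfsg.Statements.S1910
import Cfsg.Agent.Lib.Layer.Spec

set_option autoImplicit false
open Cfsg

namespace Cfsg.Agent.S1910

open Subgroup Cfsg.Lib.Core Cfsg.Lib.Amalg Cfsg.Lib.BG1 Cfsg.Lib.Layer
theorem aux_inj {G : Type*} [Group G] {A T R : Subgroup G} (hR : R ≤ 𝐍 T) (hA : A ≤ T ⊔ R) (h1 : T ⊓ A = ⊥)
    (h2 : T ⊓ R = ⊥) : ∃ f : A →* R, Function.Injective f := by
  have hA' : A ≤ 𝐍 T := hA.trans (sup_le le_normalizer hR)
  have hk : mker (qmk T) = T := mker_qmk T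
  have hle : mim (qmk T) A ≤ mim (qmk T) R := by
    rw [mim_le_mim_iff hA' hR, hk]; exact hA
  let e1 := mimEquiv (f := qmk T) hA' (by rw [hk]; exact h1)
  let e2 := mimEquiv (f := qmk T) hR (by rw [hk]; exact h2)
  exact ⟨e2.symm.toMonoidHom.comp ((inclusion hle).comp e1.toMonoidHom),
    e2.symm.injective.comp ((inclusion_injective hle).comp e1.injective)⟩

theorem aux {G : Type*} [Group G] [Finite G] {Q : Subgroup G}
    (hQ : ∀ x y : G, cj x Q ≠ cj y Q → ∀ P : Subgroup G, IsPGroup 2 P → P ≤ cj x Q → P ≤ cj y Q → P = ⊥)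
    {a b : G} (hab : cj a Q ≠ cj b Q) {T S : Subgroup G} (hT1 : T ≠ ⊥) (hTb : T ≤ cj b Q) (hTa : T ≤ 𝐍 (cj a Q))
    (hTS : T ≤ S) (hS : Syl 2 S (cj a Q ⊔ T)) :
    T ⊓ cj a Q = ⊥ ∧ S ⊓ 𝐍 T ⊓ cj a Q ≤ 𝐍 (cj b Q) ∧ ⁅T, S ⊓ 𝐍 T ⊓ cj a Q⁆ = ⊥ ∧
      T ⊔ (S ⊓ 𝐍 T ⊓ cj a Q) = S ⊓ 𝐍 T ∧ Nat.card T ≤ Nat.card ↥(S ⊓ 𝐍 T ⊓ cj a Q) ∧
      ((∃ f : T →* ↥(S ⊓ 𝐍 T ⊓ cj a Q), Function.Injective f) ∨ Syl 2 (S ⊓ 𝐍 T ⊓ cj a Q) (cj a Q)) := by
  haveI : Fact (Nat.Prime 2) := ⟨Nat.prime_two⟩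
  have hT : IsPGroup 2 T := hS.isPGroup.to_le hTS
  set A := cj a Q with hA
  set R := S ⊓ 𝐍 T ⊓ A with hR
  have h1 : T ⊓ A = ⊥ := hQ a b hab _ (hT.to_le inf_le_left) inf_le_right (inf_le_left.trans hTb)
  have hNT : ∀ x, cj x T ⊓ T ≠ ⊥ → x ∈ 𝐍 (cj b Q) := by
    intro x hx
    by_contra hc
    refine hx (hQ (x * b) b (fun h => hc (cj_eq_self_iff.1 (by rw [← cj_mul]; exact h))) _
      (hT.to_le inf_le_right) ?_ (inf_le_right.trans hTb))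
    rw [cj_mul]; exact inf_le_left.trans (cj_mono _ hTb)
  have hRT : R ≤ 𝐍 T := inf_le_left.trans inf_le_right
  have h2 : R ≤ 𝐍 (cj b Q) := fun x hx => hNT x (by rw [cj_of_mem_normalizer (hRT hx), inf_idem]; exact hT1)
  have h3 : ⁅T, R⁆ = ⊥ := by
    rw [eq_bot_iff, ← h1]
    exact le_inf (commutator_le_left_of_norm hRT)
      ((commutator_mono le_rfl inf_le_right).trans (commutator_le_right_of_norm hTa))
  have h4 : T ⊔ R = S ⊓ 𝐍 T := by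
    rw [hR, inf_comm (S ⊓ 𝐍 T), ← sup_inf_assoc_of_le_normalizer hTa (le_inf hTS le_normalizer), sup_comm T,
      inf_eq_right.2 (inf_le_left.trans hS.le)]
  have h5 : (∃ f : T →* R, Function.Injective f) ∨ Syl 2 R A := by
    by_cases hc : S ⊓ 𝐍 T = S
    · right
      rw [hR, hc]
      exact hS.inf_normal le_sup_left (sup_le le_normalizer hTa)
    · left
      obtain ⟨x, hx, hx'⟩ := SetLike.exists_of_lt
        (lt_inf_normalizer_of_lt hS.isPGroup (lt_of_le_of_ne inf_le_left hc))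
      have hxT : cj x T ≤ T ⊔ R := by
        rw [h4]; exact cj_le_of_le_of_mem_normalizer (le_inf hTS le_normalizer) hx.2
      have hd : T ⊓ cj x T = ⊥ := by
        by_contra hne
        have hxb := hNT x (by rwa [inf_comm])
        refine hx' ⟨hx.1, mem_normalizer_of_cj_le ?_⟩
        have hb : cj x T ≤ cj b Q := cj_le_of_le_of_mem_normalizer hTb hxb
        intro y hy
        obtain ⟨t, ht, r, hr, rfl⟩ := (mem_sup_of_le_normalizer_left hRT).1 (hxT hy)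
        have hr' : r ∈ cj b Q := by simpa using mul_mem (inv_mem (hTb ht)) (hb hy)
        have := hQ a b hab (R ⊓ cj b Q) (hS.isPGroup.to_le (inf_le_left.trans (inf_le_left.trans inf_le_left)))
          (inf_le_left.trans inf_le_right) inf_le_right
        have hr1 : r = 1 := mem_bot.1 (this ▸ (⟨hr, hr'⟩ : r ∈ R ⊓ cj b Q))
        rw [hr1, mul_one]; exact ht
      obtain ⟨f, hf⟩ := aux_inj hRT hxT hd (by
        rw [eq_bot_iff, ← h1]; exact inf_le_inf_left _ inf_le_right)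
      exact ⟨f.comp (cjEquiv x T).toMonoidHom, hf.comp (cjEquiv x T).injective⟩
  refine ⟨h1, h2, h3, h4, ?_, h5⟩
  rcases h5 with ⟨f, hf⟩ | h5
  · exact Nat.card_le_card_of_injective f hf
  · have : cj (a * b⁻¹) T ≤ A := by
      rw [cj_mul, hA]; exact cj_mono _ (by rw [← le_cj_iff]; exact hTb)
    rw [← card_cj (a * b⁻¹) T]
    exact h5.card_le (isPGroup_cj _ hT) this

/-- Let Q be a tightly embedded subgroup of a finite group G, g an element outside N_G(Q), T a nontrivial Sylow 2-subgroup of Q^g ∩ N_G(Q), and S a Sylow 2-subgroup of QT containing T. Then T ∩ Q = 1, and N_S(T) is the direct product of T and N_S(T) ∩ Q, with N_S(T) ∩ Q isomorphic to T. -/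
theorem result {G : Type*} [Group G] [Finite G] (Q : Subgroup G) (hQ : Cfsg.IsTightlyEmbedded Q)
    (g : G) (hg : g ∉ Subgroup.normalizer (Q : Set G))
    (T : Subgroup G) (hT1 : T ≠ ⊥) (hT : T ≤ Q.map (MulAut.conj g).toMonoidHom ⊓ Subgroup.normalizer (Q : Set G))
    (hTsyl : IsPGroup 2 T ∧ ¬ 2 ∣ T.relIndex (Q.map (MulAut.conj g).toMonoidHom ⊓ Subgroup.normalizer (Q : Set G)))
    (S : Subgroup G) (hTS : T ≤ S) (hS : S ≤ Q ⊔ T) (hSsyl : IsPGroup 2 S ∧ ¬ 2 ∣ S.relIndex (Q ⊔ T)) :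
    T ⊓ Q = ⊥ ∧
      T ⊓ (S ⊓ Subgroup.normalizer (T : Set G) ⊓ Q) = ⊥ ∧
      ⁅T, S ⊓ Subgroup.normalizer (T : Set G) ⊓ Q⁆ = ⊥ ∧
      T ⊔ (S ⊓ Subgroup.normalizer (T : Set G) ⊓ Q) = S ⊓ Subgroup.normalizer (T : Set G) ∧
      Nonempty (↥(S ⊓ Subgroup.normalizer (T : Set G) ⊓ Q) ≃* T) := by
  haveI : Fact (Nat.Prime 2) := ⟨Nat.prime_two⟩
  have hQ' : ∀ x y : G, cj x Q ≠ cj y Q → ∀ P : Subgroup G, IsPGroup 2 P → P ≤ cj x Q → P ≤ cj y Q → P = ⊥ := by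
    intro x y hxy P hP h1 h2
    have hn : x⁻¹ * y ∉ 𝐍 Q := fun h => hxy (by
      have := cj_of_mem_normalizer h
      rw [cj_mul, cj_eq_iff, inv_inv] at this; exact this.symm)
    have ho := hQ.2 _ hn
    have : cj x⁻¹ P ≤ Q ⊓ cj (x⁻¹ * y) Q := le_inf (le_cj_iff.1 h1) (by rw [cj_mul]; exact cj_mono _ h2)
    have h3 := isPGroup_eq_bot_of_not_dvd (isPGroup_cj x⁻¹ hP) this
      (fun h => Nat.not_even_iff_odd.2 ho (even_iff_two_dvd.2 h))
    exact cj_eq_bot_iff.1 h3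
  have hne : cj 1 Q ≠ cj g Q := fun h => hg (cj_eq_self_iff.1 (by rw [← h, cj_one]))
  have hTs : Syl 2 T (cj g Q ⊓ 𝐍 Q) := syl_of_not_dvd hT hTsyl.1 hTsyl.2
  have hSs : Syl 2 S (cj 1 Q ⊔ T) := by rw [cj_one]; exact syl_of_not_dvd hS hSsyl.1 hSsyl.2
  obtain ⟨h1, h2, h3, h4, h5, h6⟩ := aux hQ' hne hT1 (hT.trans inf_le_left)
    (by rw [cj_one]; exact hT.trans inf_le_right) hTS hSs
  rw [cj_one] at h1 h2 h3 h4 h5 h6
  set R := S ⊓ 𝐍 T ⊓ Q with hR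
  have hRp : IsPGroup 2 R := hSsyl.1.to_le (inf_le_left.trans inf_le_left)
  have hR1 : R ≠ ⊥ := fun h => hT1 (by
    rw [h, card_bot] at h5; exact card_le_one_iff_eq_bot _ |>.1 h5)
  have h7 : Nat.card R ≤ Nat.card T := by
    obtain ⟨S', hS', hle⟩ := exists_syl_ge hRp (le_sup_right : R ≤ cj g Q ⊔ R)
    obtain ⟨-, k2, -, -, k5, -⟩ := aux hQ' hne.symm hR1 (by rw [cj_one]; exact inf_le_right) h2 hle hS'
    rw [cj_one] at k2
    exact k5.trans (hTs.card_le (hS'.isPGroup.to_le (inf_le_left.trans inf_le_left)) (le_inf inf_le_right k2))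
  refine ⟨h1, by rw [eq_bot_iff, ← h1]; exact inf_le_inf_left _ inf_le_right, h3, h4, ?_⟩
  rcases h6 with ⟨f, hf⟩ | h6
  · exact ⟨(MulEquiv.ofBijective f ((Nat.bijective_iff_injective_and_card f).2 ⟨hf, le_antisymm h5 h7⟩)).symm⟩
  · have h8 : Syl 2 T (cj g Q) := (h6.conj g).of_card_ge hTsyl.1 (hT.trans inf_le_left) (by rw [card_cj]; exact h7)
    obtain ⟨x, -, hx⟩ := (h6.conj g).exists_conj h8
    exact ⟨(cjEquiv g R).trans ((cjEquiv x _).trans (MulEquiv.subgroupCongr hx))⟩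

end Cfsg.Agent.S1910
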