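import Cfsg.Statements.S1915
import Cfsg.Agent.Lib.Z4F.G

set_option autoImplicit false
open Cfsg Cfsg.Lib Cfsg.Lib.Amalg Cfsg.Lib.Core Subgroup

namespace Cfsg.Agent.S1915

/-- Let A be a semisimple subgroup (A = E(A)) of a finite group and U a Klein four-group normalizing A. If the subgroup of A generated by the normalizers N_A(V) of the nontrivial subgroups V of U has 2-rank exactly 1, then A has 2-rank exactly 1. -/
theorem result {G : Type*} [Group G] [Finite G] (A : Subgroup G) (hA : Cfsg.layer ↥A = ⊤)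
    (U : Subgroup G) (hU : IsKleinFour U) (hUA : U ≤ Subgroup.normalizer (A : Set G))
    (hΓ : Cfsg.PRankLE 2 1 ↥(⨆ V : {V : Subgroup G // V ≤ U ∧ V ≠ ⊥}, A ⊓ Subgroup.normalizer ((V : Subgroup G) : Set G)) ∧
      ¬ Cfsg.PRankLE 2 0 ↥(⨆ V : {V : Subgroup G // V ≤ U ∧ V ≠ ⊥}, A ⊓ Subgroup.normalizer ((V : Subgroup G) : Set G))) :
    Cfsg.PRankLE 2 1 A ∧ ¬ Cfsg.PRankLE 2 0 A := by
  refine Z4F.final15 ?_ hU hUA (iSup_le fun V => inf_le_left) (fun u hu => mem_normalizer_of_cj_le ?_)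
    (fun v hv v1 x hx e => ?_) hΓ.1 hΓ.2
  · rw [← Group.IsPerfect.top_iff, ← hA]
    exact Layer.layer_isPerfect
  · refine map_le_iff_le_comap.2 (iSup_le fun V => map_le_iff_le_comap.1 (le_iSup_of_le V ?_))
    refine cj_le_of_le_of_mem_normalizer le_rfl (le_normalizer_inf hUA ?_ hu)
    haveI := hU.isMulCommutative
    refine le_trans ?_ le_normalizer
    exact fun w hw => centralizer_le_normalizer _ fun v hv => setLike_mul_comm (V.2.1 hv) hw
  · refine (le_iSup (fun V : {V : Subgroup G // V ≤ U ∧ V ≠ ⊥} => A ⊓ normalizer ((V : Subgroup G) : Set G))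
      ⟨zpowers v, zpowers_le.2 hv, zpowers_ne_bot.2 v1⟩) ⟨hx, centralizer_le_normalizer _ fun w hw => ?_⟩
    exact (Z4F.comm_zp' (show Commute x v from (mul_inv_eq_iff_eq_mul.1 e).symm) hw).symm

end Cfsg.Agent.S1915
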