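import Cfsg.Statements.S1916
import Cfsg.Agent.Lib.GW.Cover

set_option autoImplicit false
open Cfsg Cfsg.Lib Cfsg.Lib.GW Cfsg.Lib.Core Cfsg.Lib.Invol Cfsg.Lib.Linear Subgroup Equiv
open Matrix (ProjGenLinGroup)

namespace Cfsg.Agent.S1916

variable {F : Type*} [Field F] [Finite F]

theorem exists_gen (h2 : (2 : F) ≠ 0) (hq : 3 < Nat.card F) {a : PGL2 F} (ha : orderOf a = 2) (h : a ∉ LL F) :
    ∃ c ∈ tor a, c ∈ LL F ∧ Odd (orderOf c) ∧ c * c ≠ 1 ∧ Nat.card F ≤ 2 * orderOf c + 1 := by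
  have := finite_PGL (ι := Fin 2) (F := F)
  obtain ⟨c, h3, h4⟩ := exists_gen_tor h2 ha
  have h5 := h3.le (mem_zpowers c)
  have h6 : Odd (orderOf c) := Nat.not_even_iff_odd.1 fun h6 => by
    obtain ⟨t, h7, h8⟩ := exists_two_zpowers_of_even h6
    rcases eq_of_mem_tor h2 ha (h3.le h7).1 (mul_self_of_two h8) with rfl | rfl
    exacts [ne_one_of_two h8 rfl, h (h3.le h7).2]
  refine ⟨c, h5.1, h5.2, h6, fun e => ?_, by omega⟩
  have := Nat.le_of_dvd two_pos (orderOf_dvd_of_pow_eq_one (sq c ▸ e))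
  obtain ⟨k, hk⟩ := h6
  omega

theorem LL_le (h2 : (2 : F) ≠ 0) (hq : 3 < Nat.card F) {a b : PGL2 F} (h : Kl a b) (ha : a ∉ LL F) (hb : b ∉ LL F)
    {M : Subgroup (PGL2 F)} (h1 : a ∈ M) (h3 : LL F ⊓ centralizer {a} ≤ M) (h4 : LL F ⊓ centralizer {b} ≤ M) : LL F ≤ M := by
  have := finite_PGL (ι := Fin 2) (F := F)
  have hbM : b ∈ M := h.a_ab ▸ mul_mem h1 (h3 ⟨(mul_mem_iff_of_index_two (index_LL h2)).2 (by simp [ha, hb]), mem_cent.2 h.mul.comm⟩)
  obtain ⟨c, c1, c2, c3, c4, c5⟩ := exists_gen h2 hq h.ha ha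
  obtain ⟨d, d1, d2, d3, d4, -⟩ := exists_gen h2 hq h.hb hb
  have hc := h3 ⟨c2, mem_cent.2 (commute_of_mem_tor c1)⟩
  have hd := h4 ⟨d2, mem_cent.2 (commute_of_mem_tor d1)⟩
  have hcd : ¬ Commute d c := fun e => d4 (by
    have h5 := conj_eq_inv_of_not_mem_tor h2 h.hb h.symm.comm (fun e' => by
      rcases eq_of_mem_tor h2 h.hb e' (mul_self_of_two h.ha) with e' | e'
      exacts [ne_one_of_two h.ha e', h.ne e'.symm]) d1
    rw [← (commute_of_mem_tor (mem_tor_of_commute h2 c1 c4 (ne_one_of_two h.ha) e)).eq, mul_inv_cancel_right] at h5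
    exact mul_eq_one_iff_eq_inv.2 h5)
  have ho : orderOf (a * c) = 2 * orderOf c := by
    rw [(commute_of_mem_tor c1).symm.orderOf_mul_eq_mul_orderOf_of_coprime (h.ha.symm ▸ Nat.coprime_two_left.2 c3), h.ha]
  have hc3 : 3 ≤ orderOf c := by
    obtain ⟨k, hk⟩ := c3
    omega
  let f := algebraMap F (AlgebraicClosure F)
  let φ : PGL2 F →* _ := ProjGenLinGroup.map (n := Fin 2) f
  have hφ : Function.Injective φ := pglMap_injective _
  have e := M.equivMapOfInjective _ hφ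
  have : Finite (M.map φ) := Finite.of_equiv _ e.toEquiv
  rcases dickson_pgl2 (M.map φ) with ⟨x, hx⟩ | ⟨x, y, hxy, hx⟩ | ⟨h5, -⟩ | ⟨R, t, hR, h5⟩
  · exact (not_fix_klein (fun e => h2 (f.injective (by rw [map_ofNat, e, map_zero]))) ((orderOf_injective φ hφ a).trans h.ha)
      ((orderOf_injective φ hφ b).trans h.hb) (by rw [← map_mul, orderOf_injective φ hφ, h.hab]) (hx _ ⟨a, h1, rfl⟩)
      (hx _ ⟨b, hbM, rfl⟩)).elim
  · obtain ⟨r, -, -, h5⟩ := cyclic_or_dihedral_of_pair hxy hx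
    have key : ∀ g ∈ M, g * g ≠ 1 → ∃ k : ℤ, φ g = r ^ k := fun g hg h6 => by
      rcases h5 with h5 | ⟨s, -, s1, s2, -, h5⟩
      · obtain ⟨k, hk⟩ := h5.le ⟨g, hg, rfl⟩
        exact ⟨k, hk.symm⟩
      · obtain ⟨k, hk | hk⟩ := (mem_closure_pair_iff (s2 ▸ inv_mem (mem_zpowers r)) (s1 ▸ one_mem _) _).1 (h5.le ⟨g, hg, rfl⟩)
        · exact ⟨k, hk⟩
        · exact (h6 (hφ (by rw [map_mul, hk, mul_zpow_mul_self s2, s1, map_one]))).elim
    obtain ⟨i, hi⟩ := key c hc c4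
    obtain ⟨j, hj⟩ := key d hd d4
    exact (hcd (hφ (by rw [map_mul, map_mul, hi, hj]; exact Commute.zpow_zpow_self r j i))).elim
  · have := h5 _ ⟨_, mul_mem h1 hc, rfl⟩
    rw [orderOf_injective φ hφ] at this
    omega
  have h6 : R ≤ f.fieldRange := by
    refine le_fieldRange_of_conj f (t := t) (le_trans ?_ (map_le_range φ M))
    rcases h5 with h | ⟨-, h⟩ <;> rw [h]
    exact map_mono (pslToPGL_range_le _)
  have h7 := card_eq_card_subfield_pow (R.comap f)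
  rw [Nat.card_congr (comapEquiv f h6).toEquiv] at h7
  have h8 : 2 * orderOf c ≤ Nat.card R + 1 := by
    obtain ⟨_, ⟨g, rfl⟩, h8⟩ : φ (a * c) ∈ (ProjGenLinGroup.map (n := Fin 2) R.subtype).range.map (MulAut.conj t).toMonoidHom := by
      refine (?_ : M.map φ ≤ _) ⟨_, mul_mem h1 hc, rfl⟩
      rcases h5 with h | ⟨-, h⟩ <;> rw [h]
      exact map_mono (pslToPGL_range_le _)
    rw [← ho, ← orderOf_injective φ hφ, ← h8, orderOf_injective _ (MulAut.conj t).injective, orderOf_injective _ (pglMap_injective _)]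
    exact pgl2_orderOf_le g
  have h9 : Nat.card R = Nat.card F := by
    generalize Module.finrank (R.comap f) F = m at h7
    obtain _ | _ | m := m
    · rw [pow_zero] at h7; omega
    · rw [h7, zero_add, pow_one]
    · have := Nat.pow_le_pow_right (n := Nat.card R) (by omega) (show 2 ≤ m + 1 + 1 by omega)
      nlinarith
  have ho := odd_card_of_two_ne_zero h2
  rcases h5 with h5 | ⟨-, h5⟩
  · refine le_top.trans (eq_top_of_card_eq M ?_).ge
    rw [Nat.card_congr e.toEquiv, h5, Invol.card_map_conj, ← Nat.card_congr (MonoidHom.ofInjective (pglMap_injective _)).toEquiv,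
      card_PGL_two, card_PGL_two, h9]
  · refine (eq_range_toPGL_of_index_two ho M (Nat.eq_of_mul_eq_mul_left Nat.card_pos (M.card_mul_index.trans ?_))).ge
    rw [Nat.card_congr e.toEquiv, h5, Invol.card_map_conj, ← Nat.card_congr (MonoidHom.ofInjective (pslToPGL_injective _)).toEquiv,
      mul_comm, card_PSL_two_of_odd (h9 ▸ ho), card_PGL_two, h9]

theorem aux1 (y : Perm (Fin 7)) : (∀ i, y (y i) = i) → ∃ a b c d : Fin 7, [a, b, c, d].Nodup ∧
    (y a = a ∧ y b = b ∧ y c = c ∧ y d = d ∨ y a = b ∧ y b = a ∧ y c = d ∧ y d = c) :=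
  perm_forall (P := fun y => (∀ i, y (y i) = i) → ∃ a b c d : Fin 7, [a, b, c, d].Nodup ∧
    (y a = a ∧ y b = b ∧ y c = c ∧ y d = d ∨ y a = b ∧ y b = a ∧ y c = d ∧ y d = c)) (by decide +kernel) y

theorem aux2 : ∀ a b c d : Fin 7, [a, b, c, d].Nodup →
    swap c d * swap a b = swap a b * swap c d ∧ swap b d * swap a c = swap a c * swap b d ∧ swap a b * swap c d ≠ 1 ∧
    swap a c * swap b d ≠ 1 ∧ swap a c * swap b d ≠ swap a b * swap c d ∧ (a ≠ b ∧ c ≠ d ∧ a ≠ c ∧ b ≠ d) ∧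
    swap a c * swap b d * (swap a b * swap c d) = swap a b * swap c d * (swap a c * swap b d) := by decide +kernel

theorem klein7 (y : Perm (Fin 7)) (h : y * y = 1) : ∃ s t : alternatingGroup (Fin 7), Kl s t ∧ Commute y s ∧ Commute y t := by
  obtain ⟨a, b, c, d, h1, h2⟩ := aux1 y fun i => congrArg (fun g : Perm (Fin 7) => g i) h
  obtain ⟨h3, h4, h5, h6, h7, h8, h9⟩ := aux2 a b c d h1
  have k : ∀ p q r s : Fin 7, y * (swap p q * swap r s) = swap (y p) (y q) * swap (y r) (y s) * y := fun p q r s => by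
    rw [← mul_assoc, mul_swap_eq_swap_mul y, mul_assoc, mul_swap_eq_swap_mul y, mul_assoc]
  have k2 : ∀ {u v : Perm (Fin 7)}, u * u = 1 → v * v = 1 → v * u = u * v → u * v * (u * v) = 1 := fun {u v} e1 e2 e3 => by
    rw [mul_assoc, ← mul_assoc v, e3, mul_assoc, e2, mul_one, e1]
  refine ⟨⟨swap a b * swap c d, by simp [h8]⟩, ⟨swap a c * swap b d, by simp [h8]⟩, ⟨two_of_mul_self (Subtype.ext (k2 (by simp) (by simp) h3))
    fun e => h5 (congrArg Subtype.val e), two_of_mul_self (Subtype.ext (k2 (by simp) (by simp) h4))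
    fun e => h6 (congrArg Subtype.val e), fun e => h7 (congrArg Subtype.val e), Subtype.ext h9⟩, (k ..).trans ?_, (k ..).trans ?_⟩ <;>
  rcases h2 with ⟨e1, e2, e3, e4⟩ | ⟨e1, e2, e3, e4⟩ <;> rw [e1, e2, e3, e4]
  · rw [swap_comm b, swap_comm d]
  · rw [h4]

theorem fix_sup {L : Type*} [Group L] [Finite L] [IsSimpleGroup L] (hn : ¬ IsMulCommutative L) (hD : DC2 L) {α β : MulAut L}
    (h1 : α * α = 1) (h2 : β * β = 1) (hc : Commute β α) (h3 : α * β ≠ 1)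
    (hα : ∀ x y, Kl x y → α x = x → α y ≠ y) (hβ : ∀ x y, Kl x y → β x = x → β y ≠ y) {Y : Subgroup L}
    (h4 : ∀ x, α x = x → x ∈ Y) (h5 : ∀ x, β x = x → x ∈ Y) (h6 : ∀ x ∈ Y, α x ∈ Y) : Y = ⊤ := by
  have hP := Small.commutator_eq_top_of_simple hn
  obtain ⟨s, -, t, -, hst⟩ := hD.nc_of_perfect (L := ⊤) hP top_ne_bot
  rcases known_of_simple L hn hD with ⟨F, _, _, ho, hq, ⟨e⟩⟩ | ⟨⟨e⟩⟩
  swap
  · have hb := conjNormal_alt_bijective (α := Fin 7) (by simp) (by simp)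
    obtain ⟨g, hg⟩ := hb.2 (MulAut.congr e α)
    obtain ⟨u, v, k1, k2, k3⟩ := klein7 g (hb.1 (by rw [map_mul, hg, ← map_mul, h1, map_one, map_one]))
    have k : ∀ w : alternatingGroup (Fin 7), Commute g w → α (e.symm w) = e.symm w := fun w hw => e.injective (by
      rw [e.apply_symm_apply]
      exact (MulEquiv.congr_fun hg w).symm.trans (Subtype.ext (mul_inv_eq_iff_eq_mul.2 hw)))
    exact (hα _ _ ⟨(e.symm.orderOf_eq u).trans k1.ha, (e.symm.orderOf_eq v).trans k1.hb, fun h => k1.ne (e.symm.injective h),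
      k1.comm.map e.symm⟩ (k u k2) (k v k3)).elim
  rw [← Nat.card_eq_fintype_card] at ho hq
  have h0 := two_ne_zero_of_odd ho
  have hZ : center L = ⊥ := (IsSimpleGroup.eq_bot_or_eq_top_of_normal _ inferInstance).resolve_right fun h =>
    hn ⟨⟨fun a b => mem_center_iff.1 (h ▸ mem_top b) a⟩⟩
  let ι : L →* MulAut L := MulAut.conj
  have hι : Function.Injective ι := (injective_iff_map_eq_one _).2 fun x hx => (eq_bot_iff_forall _).1 hZ x
    (mem_center_iff.2 fun y => (mul_inv_eq_iff_eq_mul.1 (MulEquiv.congr_fun hx y)).symm)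
  have hcj : ∀ (σ : MulAut L) x, σ * ι x * σ⁻¹ = ι (σ x) := fun σ x => MulEquiv.ext fun y => by simp [ι]
  have hcm : ∀ {σ : MulAut L} {x}, Commute σ (ι x) ↔ σ x = x := fun {σ x} => by
    rw [← hι.eq_iff, ← hcj, mul_inv_eq_iff_eq_mul, commute_iff_eq]
  have : ι.range.Normal := ⟨by rintro _ ⟨x, rfl⟩ σ; exact ⟨_, (hcj σ x).symm⟩⟩
  obtain ⟨f⟩ := nonempty_fr ι.range (eq_bot_iff.2 fun σ hσ => MulEquiv.ext fun x => hcm.1 (hσ _ ⟨x, rfl⟩).symm)
    ((MonoidHom.ofInjective hι).symm.trans e)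
  have hΦ : ∀ x, f.Φ (ι x) = 1 := fun x => f.ΦE ⟨x, rfl⟩
  have key : ∀ {σ : MulAut L}, σ * σ = 1 → (∀ x y, Kl x y → σ x = x → σ y ≠ y) →
      f.Φ σ = 1 ∧ orderOf (f.κ σ) = 2 ∧ f.κ σ ∉ LL F := fun {σ} k1 k2 => by
    have k3 : orderOf σ = 2 := two_of_mul_self k1 fun e => k2 s t hst (e ▸ rfl) (e ▸ rfl)
    have k4 : f.Φ σ = 1 := by
      by_contra h
      obtain ⟨u, hu, v, hv, h3, h4, h5, h6, h7, h8⟩ := exists_klein_of_semilinear h0 h (by rw [← map_mul, k1, map_one])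
        (g := f.κ σ) (by rw [← f.mul, k1, f.one])
      obtain ⟨_, ⟨a, rfl⟩, rfl⟩ := f.exists_E hu
      obtain ⟨_, ⟨b, rfl⟩, rfl⟩ := f.exists_E hv
      rw [← f.conj σ (hΦ _), hcj, f.eq_iff (hΦ _) (hΦ _), hι.eq_iff] at h7 h8
      rw [f.order (hΦ _), orderOf_injective ι hι] at h3 h4
      exact k2 a b ⟨h3, h4, fun h => h5 (by rw [h]), hι (by
        rw [map_mul, map_mul]; exact (f.comm_iff (hΦ _) (hΦ _)).1 h6)⟩ h7 h8
    refine ⟨k4, (f.order k4).trans k3, fun h => ?_⟩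
    obtain ⟨x, rfl⟩ := (f.memE σ).2 ⟨k4, h⟩
    obtain ⟨g, -, rfl⟩ := hD.oneClass_of_perfect hP s trivial x trivial hst.ha (orderOf_injective ι hι x ▸ k3)
    exact k2 _ _ (hst.conj g) (mul_inv_cancel_right _ _) (mul_inv_eq_iff_eq_mul.2 (hst.conj g).comm.symm)
  obtain ⟨a1, a2, a3⟩ := key h1 hα
  obtain ⟨b1, b2, b3⟩ := key h2 hβ
  let ψ : L →* PGL2 F := MonoidHom.mk' (fun x => f.κ (ι x)) fun x y => by rw [map_mul, f.mul' (hΦ x)]
  have k : ∀ {σ : MulAut L}, f.Φ σ = 1 → (∀ x, σ x = x → x ∈ Y) → LL F ⊓ centralizer {f.κ σ} ≤ Y.map ψ ⊔ zpowers (f.κ α) := by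
    rintro σ k1 k2 g ⟨k3, k4⟩
    obtain ⟨_, ⟨x, rfl⟩, rfl⟩ := f.exists_E k3
    exact mem_sup_left ⟨x, k2 x (hcm.1 ((f.comm_iff (hΦ x) k1).1 (mem_cent.1 k4)).symm), rfl⟩
  have := finite_PGL (ι := Fin 2) (F := F)
  have h7 := LL_le h0 hq ⟨a2, b2, fun e => h3 (by rw [(f.eq_iff b1 a1).1 e, h1]), (f.comm_iff b1 a1).2 hc⟩ a3 b3
    (mem_sup_right (mem_zpowers _)) (k a1 h4) (k b1 h5)
  refine eq_top_iff.2 fun x _ => ?_
  obtain ⟨_, ⟨y, hy, rfl⟩, i, h8⟩ := (PGrp.mem_sup_zpowers_of_mem_normalizer (Transfer.mem_normalizer_of_cj_le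
    (Transfer.cj_le_iff.2 (by
      rintro _ ⟨y, hy, rfl⟩
      exact ⟨α y, h6 y hy, (congrArg f.κ (hcj α y)).symm.trans (f.conj' (hΦ y) a1)⟩)))).1 (h7 (f.κE ⟨x, rfl⟩))
  rcases Exc.mem_zpowers_two a2 (zpow_mem_zpowers _ i) with e | e <;> rw [e] at h8
  · rwa [hι ((f.eq_iff (hΦ x) (hΦ y)).1 (h8.trans (mul_one _)))]
  · exact (a3 ((mul_mem_cancel_left (f.κE ⟨y, rfl⟩)).1 (h8 ▸ f.κE ⟨x, rfl⟩ : ψ y * f.κ α ∈ LL F))).elim

/-- Let L be a non-abelian simple subgroup of a finite group with dihedral Sylow 2-subgroups, and a, b two distinct commuting involutions normalizing L such that C_L(a) and C_L(b) have cyclic Sylow 2-subgroups and L is not contained in the subgroup generated by a, b, C_L(a) and C_L(b). Then ab centralizes L. -/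
theorem result {G : Type*} [Group G] [Finite G] (L : Subgroup G) (hL : IsSimpleGroup L) (hLn : ¬ IsMulCommutative L)
    (hD : ∀ P : Sylow 2 L, ∃ n : ℕ, Nonempty (↥(P : Subgroup L) ≃* DihedralGroup n))
    (a b : G) (ha : orderOf a = 2) (hb : orderOf b = 2) (hab : a ≠ b) (hc : a * b = b * a)
    (haL : a ∈ Subgroup.normalizer (L : Set G)) (hbL : b ∈ Subgroup.normalizer (L : Set G))
    (hCa : ∀ R : Sylow 2 ↥(L ⊓ Subgroup.centralizer ({a} : Set G)), IsCyclic R)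
    (hCb : ∀ R : Sylow 2 ↥(L ⊓ Subgroup.centralizer ({b} : Set G)), IsCyclic R)
    (hgen : ¬ L ≤ Subgroup.closure ({a, b} : Set G) ⊔ (L ⊓ Subgroup.centralizer ({a} : Set G)) ⊔ (L ⊓ Subgroup.centralizer ({b} : Set G))) :
    a * b ∈ Subgroup.centralizer (L : Set G) := by
  obtain ⟨P⟩ : Nonempty (Sylow 2 L) := inferInstance
  obtain ⟨n, ⟨e⟩⟩ := hD P
  let φ := L.normalizerMonoidHom
  have hφ : ∀ (g : normalizer (L : Set G)) (x : L), ((φ g x : L) : G) = g * x * g⁻¹ := fun g x => rfl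
  have fix : ∀ {g : normalizer (L : Set G)} {x : L}, φ g x = x ↔ (x : G) ∈ centralizer {(g : G)} := fun {g x} => by
    rw [Subtype.ext_iff, hφ, mem_cent, coe_inv, mul_inv_eq_iff_eq_mul, eq_comm, commute_iff_eq]
  have key : ∀ g : normalizer (L : Set G), (∀ R : Sylow 2 ↥(L ⊓ centralizer {(g : G)}), IsCyclic R) →
      ∀ x y : L, Kl x y → φ g x = x → φ g y ≠ y := fun g h x y k1 k2 k3 => by
    obtain ⟨R⟩ : Nonempty (Sylow 2 ↥(L ⊓ centralizer {(g : G)})) := inferInstance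
    exact (Nc.sylow (H := L ⊓ centralizer {(g : G)}) ⟨x, ⟨x.2, fix.1 k2⟩, y, ⟨y.2, fix.1 k3⟩, by simpa using k1.ha, by simpa using k1.hb,
      fun e => k1.ne (Subtype.ext e), k1.comm.map L.subtype⟩ (Transfer.sylowIn_map_subtype R)).not_cyclic
      (PGrp.isCyclic_map _ (h R))
  by_contra hne
  have hn : ∀ g : G, Commute a g → a ∈ normalizer ((L ⊓ centralizer {g} : Subgroup G) : Set G) := fun g hg =>
    Transfer.mem_normalizer_of_cj_le (Transfer.cj_le_iff.2 fun x hx => ⟨Transfer.conj_mem_of_mem_normalizer haL hx.1,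
      mem_cent.2 ((hg.mul_left (mem_cent.1 hx.2)).mul_left hg.inv_left)⟩)
  have := fix_sup hLn (dc2_of_dihedral P e) (α := φ ⟨a, haL⟩) (β := φ ⟨b, hbL⟩)
    (by rw [← map_mul, ← map_one φ]; exact congrArg φ (Subtype.ext (mul_self_of_two ha)))
    (by rw [← map_mul, ← map_one φ]; exact congrArg φ (Subtype.ext (mul_self_of_two hb)))
    (Commute.map (Subtype.ext hc.symm) φ) (fun h => hne fun x hx => (mem_cent.1 ((fix (g := ⟨a, haL⟩ * ⟨b, hbL⟩) (x := ⟨x, hx⟩)).1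
      (by rw [φ.map_mul, h]; rfl))).eq) (key _ hCa) (key _ hCb)
    (Y := ((L ⊓ centralizer {a}) ⊔ (L ⊓ centralizer {b})).subgroupOf L) (fun x hx => mem_sup_left ⟨x.2, fix.1 hx⟩)
    (fun x hx => mem_sup_right ⟨x.2, fix.1 hx⟩) fun x hx =>
      Transfer.conj_mem_of_mem_normalizer (normalizer_inf_normalizer_le_normalizer_sup _ _ ⟨hn a (Commute.refl a), hn b hc⟩) hx
  exact hgen ((subgroupOf_eq_top.1 this).trans (sup_le (le_sup_right.trans le_sup_left) le_sup_right))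

end Cfsg.Agent.S1916
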