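import Cfsg.Statements.S1921
import Cfsg.Agent.Lib.Layer.Pumpup2

set_option autoImplicit false
open Cfsg

namespace Cfsg.Agent.S1921

open Subgroup Cfsg.Lib.Core Cfsg.Lib.Amalg Cfsg.Lib.BG1 Cfsg.Lib.Layer

/-- Let a be an involution of a finite group H and L a component of H with a L a⁻¹ ≠ L; put M = ⟨L, aLa⁻¹⟩ and let J be the subgroup generated by the elements x · a x a⁻¹ with x ∈ L (the diagonal). Then every element of M outside J·Z(M) generates M together with J. -/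
theorem result {H : Type*} [Group H] [Finite H] (a : H) (ha : orderOf a = 2) (L : Subgroup H) (hL : Cfsg.IsComponent L)
    (hLa : L.map (MulAut.conj a).toMonoidHom ≠ L) (x : H) (hxM : x ∈ L ⊔ L.map (MulAut.conj a).toMonoidHom)
    (hxJ : x ∉ Subgroup.closure {y : H | ∃ l ∈ L, y = l * (a * l * a⁻¹)} ⊔
      ((L ⊔ L.map (MulAut.conj a).toMonoidHom) ⊓ Subgroup.centralizer ((L ⊔ L.map (MulAut.conj a).toMonoidHom : Subgroup H) : Set H))) :
    Subgroup.closure {y : H | ∃ l ∈ L, y = l * (a * l * a⁻¹)} ⊔ Subgroup.zpowers x = L ⊔ L.map (MulAut.conj a).toMonoidHom := by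
  have ha2 := mul_self_of_orderOf ha
  have hai : a⁻¹ = a := inv_eq_of_mul_eq_one_right ha2
  have hc : cj a L ≤ 𝐂(L) := IsComponent.cj_le_cent hL fun h => hLa (cj_eq_self_iff.2 h)
  set J := Subgroup.closure {y : H | ∃ l ∈ L, y = l * (a * l * a⁻¹)} with hJ
  have hJ1 : ∀ l ∈ L, l * (a * l * a⁻¹) ∈ J := fun l hl => subset_closure ⟨l, hl, rfl⟩
  have hJ2 : J ≤ L ⊔ cj a L := (closure_le _).2 (by
    rintro _ ⟨l, hl, rfl⟩
    exact mul_mem_sup hl (conj_mem_cj a hl))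
  refine le_antisymm (sup_le hJ2 (zpowers_le.2 hxM)) ?_
  obtain ⟨l, hl, _, ⟨m, hm, rfl⟩, e⟩ := (mem_sup_of_le_normalizer' (le_norm_of_le_cent hc)).1 hxM
  have hx : x ∈ J ⊔ zpowers x := (le_sup_right : zpowers x ≤ _) (mem_zpowers x)
  have e1 : x = l * m⁻¹ * (m * (a * m * a⁻¹)) := by rw [← e]; simp [mul_assoc]
  have h1 : l * m⁻¹ ∈ J ⊔ zpowers x := by
    have := mul_mem hx (inv_mem ((le_sup_left : J ≤ J ⊔ zpowers x) (hJ1 m hm)))
    rwa [e1, mul_inv_cancel_right, ← e1] at this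
  have h2 : L ≤ 𝐍((J ⊔ zpowers x) ⊓ L) := by
    refine le_norm_of_conj_mem fun b hb y hy => mem_inf.2 ⟨?_, mul_mem (mul_mem hb (mem_inf.1 hy).2) (inv_mem hb)⟩
    have h3 := (le_sup_left : J ≤ J ⊔ zpowers x) (hJ1 b hb)
    have h4 : y * (a * b * a⁻¹) = a * b * a⁻¹ * y := hc (conj_mem_cj a hb) y (mem_inf.1 hy).2
    have := mul_mem (mul_mem h3 (mem_inf.1 hy).1) (inv_mem h3)
    rwa [mul_assoc b, ← h4, mul_inv_rev, ← mul_assoc, mul_assoc b, mul_inv_cancel_right] at this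
  have h5 : L ≤ J ⊔ zpowers x := by
    rcases IsQuasisimple.eq_or_commutator_eq_bot hL.2 inf_le_right h2 with e2 | e2
    · exact e2.ge.trans inf_le_left
    · exfalso
      have h6 : l * m⁻¹ ∈ L := mul_mem hl (inv_mem hm)
      have h7 : l * m⁻¹ ∈ 𝐂(L ⊔ cj a L) := by
        rw [Lib.Core.centralizer_sup]
        exact mem_inf.2 ⟨comm_eq_bot_iff'.1 e2 (mem_inf.2 ⟨h1, h6⟩), Lib.BG1.le_cent_symm hc h6⟩
      apply hxJ
      rw [sup_comm, e1]
      exact mul_mem_sup (mem_inf.2 ⟨(le_sup_left : L ≤ _) h6, h7⟩) (hJ1 m hm)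
  refine sup_le h5 ?_
  rintro _ ⟨b, hb, rfl⟩
  have := mul_mem (inv_mem (h5 hb)) ((le_sup_left : J ≤ J ⊔ zpowers x) (hJ1 b hb))
  rwa [inv_mul_cancel_left] at this

end Cfsg.Agent.S1921
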