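import Cfsg.Statements.S1922
import Cfsg.Agent.Lib.Layer.Spec
import Cfsg.Agent.Lib.Invol.Basic

set_option autoImplicit false
open Cfsg

namespace Cfsg.Agent.S1922

open Subgroup Cfsg.Lib.Core Cfsg.Lib.Amalg Cfsg.Lib.BG1 Cfsg.Lib.Layer
open Cfsg.Lib.Invol

theorem aux_sylow {G : Type*} [Group G] [Finite G] {z : G} (hz : orderOf z = 2) {H : Subgroup G}
    (h0 : ∀ g : G, z ∈ cj g H ↔ g ∈ H) : ∃ T, Syl 2 T H ∧ Syl 2 T ⊤ := by
  haveI : Fact (Nat.Prime 2) := ⟨Nat.prime_two⟩
  have hzH : z ∈ H := by simpa [cj_one] using (h0 1).2 H.one_mem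
  obtain ⟨T, hT, hzT⟩ := exists_syl_ge (p := 2) (Lib.Core.isPGroup_zpowers_of_orderOf (k := 1) hz) (zpowers_le.2 hzH)
  refine ⟨T, hT, hT.of_normalizer_le le_top fun x hx => (h0 x).1 ?_⟩
  have : z ∈ cj x T := by rw [cj_of_mem_normalizer hx.2]; exact hzT (mem_zpowers z)
  exact cj_mono _ hT.le this

theorem aux_odd {G : Type*} [Group G] [Finite G] {z : G} (hz : orderOf z = 2) {H : Subgroup G}
    (h0 : ∀ g : G, z ∈ cj g H ↔ g ∈ H)
    (h1 : ∀ t : G, IsConj z t → t ≠ z → t * z = z * t → ∀ g : G, z * t ∈ cj g H ↔ g ∈ H)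
    {e : G} (he : IsConj z e) (heH : e ∉ H) : Odd (orderOf (z * e)) := by
  by_contra hc
  rw [Nat.not_odd_iff_even] at hc
  have he2 : orderOf e = 2 := by rw [← orderOf_of_isConj he]; exact hz
  obtain ⟨w2, c1, c2⟩ := exists_central_of_even (mul_self_of_two hz) (mul_self_of_two he2) hc
  set w := (z * e) ^ (orderOf (z * e) / 2) with hw
  have ht : IsConj z (z * w) := by
    obtain ⟨j, hj | hj⟩ := exists_conj_left_mul_zpow (mul_self_of_two hz) (mul_self_of_two he2)
      ((orderOf (z * e) / 2 : ℕ) : ℤ)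
    · rw [zpow_natCast] at hj; rw [hw, ← hj.2]; exact isConj_conj _ _
    · rw [zpow_natCast] at hj; rw [hw, ← hj.2]; exact he.trans (isConj_conj _ _)
  have e1 : z * (z * w) = w := by rw [← mul_assoc, mul_self_of_two hz, one_mul]
  have := h1 (z * w) ht (fun h => ne_one_of_two w2 (by simpa using h)) (by rw [mul_assoc, c1.eq])
  rw [e1] at this
  have hwH : w ∈ H := by simpa [cj_one] using (this 1).2 H.one_mem
  refine heH ((this e).1 (mem_cj.2 ?_))
  rw [mul_assoc, c2.eq, inv_mul_cancel_left]; exact hwH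

/-- Let z be an involution of a finite group G and H a proper subgroup such that z lies in gHg⁻¹ exactly when g ∈ H. Then the following are equivalent: (1) for every conjugate t ≠ z of z commuting with z, the product zt lies in gHg⁻¹ exactly when g ∈ H; (2) z lies in the centre of some Sylow 2-subgroup of G, and for every conjugate t ≠ z of z commuting with z, the centralizer of zt is contained in H. -/
theorem result {G : Type*} [Group G] [Finite G] (z : G) (hz : orderOf z = 2) (H : Subgroup G) (hH : H ≠ ⊤)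
    (h0 : ∀ g : G, z ∈ H.map (MulAut.conj g).toMonoidHom ↔ g ∈ H) :
    (∀ t : G, IsConj z t → t ≠ z → t * z = z * t → ∀ g : G, z * t ∈ H.map (MulAut.conj g).toMonoidHom ↔ g ∈ H) ↔
      ((∃ P : Sylow 2 G, z ∈ (Subgroup.center ↥(P : Subgroup G)).map (P : Subgroup G).subtype) ∧
        ∀ t : G, IsConj z t → t ≠ z → t * z = z * t → Subgroup.centralizer ({z * t} : Set G) ≤ H) := by
  classical
  haveI : Fact (Nat.Prime 2) := ⟨Nat.prime_two⟩
  have hzH : z ∈ H := by simpa [cj_one] using (h0 1).2 H.one_mem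
  have hCz : 𝐂[z] ≤ H := fun c hc => (h0 c).1 (mem_cj.2 (by
    rw [mul_assoc, ← mem_centralizer_singleton_iff.1 hc, inv_mul_cancel_left]; exact hzH))
  refine ⟨fun h1 => ⟨?_, fun t ht hne hc c hcc => ?_⟩, fun ⟨⟨P, hP⟩, h2⟩ t ht hne hc g => ?_⟩
  · obtain ⟨g, hg⟩ : ∃ g, g ∉ H := by
      by_contra h; push Not at h; exact hH (eq_top_iff.2 fun x _ => h x)
    have two : ∀ e, IsConj z e → e * e = 1 := fun e he =>
      mul_self_of_two (by rw [← orderOf_of_isConj he]; exact hz)
    have inv : ∀ e, IsConj z e → e⁻¹ = e := fun e he => inv_eq_of_mul_eq_one_right (two e he)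
    let A := {e : G // IsConj z e ∧ e ∉ H}
    let φ : A → A := fun f => ⟨f.1 * z * f.1⁻¹, isConj_conj _ _, fun h => f.2.2 (by
      have := (h0 f.1⁻¹).1 (mem_cj.2 (by simpa using h))
      simpa using this)⟩
    have hs : Function.Surjective φ := by
      rintro ⟨e, he, heH⟩
      obtain ⟨m, hm⟩ := exists_conj_of_odd (mul_self_of_two hz) (two e he) (aux_odd hz h0 h1 he heH)
      have hf : IsConj z ((z * e) ^ m * z) := by
        have hi := left_inverts (mul_self_of_two hz) (two e he)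
        obtain ⟨j, hj | hj⟩ := exists_conj_left_mul_zpow (mul_self_of_two hz) (two e he) (-(m : ℤ))
        · rw [← zpow_mul_of_inv hi, zpow_natCast] at hj; rw [← hj.2]; exact isConj_conj _ _
        · rw [← zpow_mul_of_inv hi, zpow_natCast] at hj; rw [← hj.2]; exact he.trans (isConj_conj _ _)
      have e1 : (z * e) ^ m * z * z * ((z * e) ^ m * z)⁻¹ = e :=
        Eq.trans (by group) hm
      refine ⟨⟨_, hf, fun h => heH ?_⟩, Subtype.ext e1⟩
      rw [← e1]; exact H.mul_mem (H.mul_mem h hzH) (H.inv_mem h)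
    have hb : Function.Bijective φ := Finite.surjective_iff_bijective.1 hs
    let B := {e : G // IsConj z e ∧ e⁻¹ * g ∈ H}
    let C := {e : G // IsConj z e ∧ e ∈ cj g H}
    have hBH : ∀ f : B, f.1 ∉ H := fun f h => hg (by simpa using H.mul_mem h f.2.2)
    have hCH : ∀ e : C, e.1 ∉ H := by
      rintro ⟨e, he, he'⟩ h
      obtain ⟨y, rfl⟩ := isConj_iff.1 he
      have a1 : y⁻¹ ∈ H := (h0 _).1 (mem_cj.2 (by simpa using h))
      have a2 : y⁻¹ * g ∈ H := (h0 _).1 (mem_cj.2 (by simpa [mul_assoc] using mem_cj.1 he'))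
      exact hg (by simpa using H.mul_mem (H.inv_mem a1) a2)
    have key : ∀ f : G, f * z * f⁻¹ ∈ cj g H ↔ f⁻¹ * g ∈ H := fun f => by
      rw [← h0, mem_cj, mem_cj]; simp [mul_assoc]
    have hBC : Nat.card B = Nat.card C := by
      refine Nat.card_congr (Equiv.ofBijective (fun f : B => (⟨f.1 * z * f.1⁻¹, isConj_conj _ _,
        (key _).2 f.2.2⟩ : C)) ⟨fun f f' h => ?_, fun e => ?_⟩)
      · have : φ ⟨f.1, f.2.1, hBH f⟩ = φ ⟨f'.1, f'.2.1, hBH f'⟩ := Subtype.ext (congrArg (fun x : C => x.1) h)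
        exact Subtype.ext (congrArg (fun x : A => x.1) (hb.1 this))
      · obtain ⟨f, hf⟩ := hs ⟨e.1, e.2.1, hCH e⟩
        have hf' : f.1 * z * f.1⁻¹ = e.1 := congrArg Subtype.val hf
        exact ⟨⟨f.1, f.2.1, (key _).1 (hf' ▸ e.2.2)⟩, Subtype.ext hf'⟩
    have hCne : Nonempty C := ⟨⟨g * z * g⁻¹, isConj_conj _ _, conj_mem_cj g hzH⟩⟩
    obtain ⟨f0⟩ : Nonempty B := by
      have : Nat.card B ≠ 0 := by rw [hBC]; exact Nat.card_pos.ne'
      exact (Nat.card_ne_zero.1 this).1
    have hBodd : ¬ 2 ∣ Nat.card B := by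
      haveI := Fintype.ofFinite B
      let σ : Function.End B := fun f => ⟨f0.1 * f.1 * f0.1⁻¹, f.2.1.trans (isConj_conj _ _), by
        have a1 : f.1⁻¹ * f0.1 ∈ H := by simpa using H.mul_mem f.2.2 (H.inv_mem f0.2.2)
        have a2 := H.mul_mem (H.inv_mem a1) (H.mul_mem (H.inv_mem a1) f.2.2)
        have i0 := inv _ f0.2.1
        have i1 := inv _ f.2.1
        have : (f0.1 * f.1 * f0.1⁻¹)⁻¹ * g = (f.1⁻¹ * f0.1)⁻¹ * ((f.1⁻¹ * f0.1)⁻¹ * (f.1⁻¹ * g)) := by
          calc _ = f0.1 * f.1⁻¹ * f0.1⁻¹ * g := by group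
            _ = f0.1⁻¹ * f.1 * f0.1⁻¹ * g := by rw [i0, i1]
            _ = _ := by group
        rwa [this]⟩
      have hσ : σ ^ 2 ^ 1 = 1 := by
        funext f
        apply Subtype.ext
        change f0.1 * (f0.1 * f.1 * f0.1⁻¹) * f0.1⁻¹ = f.1
        calc _ = (f0.1 * f0.1) * f.1 * (f0.1 * f0.1)⁻¹ := by group
          _ = _ := by rw [two _ f0.2.1]; group
      have hm := Equiv.Perm.card_fixedPoints_modEq hσ
      have hfix : Fintype.card σ.fixedPoints = 1 := by
        refine Fintype.card_eq_one_iff.2 ⟨⟨f0, Subtype.ext (by simp [σ])⟩, fun ⟨f, hf⟩ => Subtype.ext ?_⟩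
        by_contra hne
        have hc : f0.1 * f.1 * f0.1⁻¹ = f.1 := congrArg Subtype.val hf
        have hne' : f.1 ≠ f0.1 := fun h => hne (Subtype.ext h)
        have a1 : f0.1⁻¹ * f.1 ∈ H := by simpa using H.mul_mem f0.2.2 (H.inv_mem f.2.2)
        rw [inv _ f0.2.1] at a1
        have hf := f.2.1
        have hf0H := hBH f0
        obtain ⟨y, hy⟩ := isConj_iff.1 f0.2.1
        generalize f.1 = a at hc hne' a1 hf
        generalize f0.1 = b at hc hne' a1 hf0H hy
        have hf0 : z = y⁻¹ * b * y := by rw [← hy]; group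
        have hc' : a * b = b * a := by
          calc _ = (b * a * b⁻¹) * b := by rw [hc]
            _ = _ := by group
        have := h1 (y⁻¹ * a * y) (hf.trans (by simpa using isConj_conj y⁻¹ a))
          (fun h => hne' (by rw [hf0] at h; simpa using h))
          (by rw [hf0]
              calc _ = y⁻¹ * (a * b) * y := by group
                _ = _ := by rw [hc']; group)
        have b1 : y⁻¹ ∈ H := (this _).1 (mem_cj.2 (by rw [hf0]; simpa [mul_assoc] using a1))
        have b2 : y⁻¹ * b ∈ H := (this _).1 (mem_cj.2 (by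
          have : (y⁻¹ * b)⁻¹ * (z * (y⁻¹ * a * y)) * (y⁻¹ * b) = a * b := by rw [hf0]; group
          rw [this, hc']; exact a1))
        exact hf0H (by simpa using H.mul_mem (H.inv_mem b1) b2)
      rw [hfix] at hm
      rw [Nat.card_eq_fintype_card]
      unfold Nat.ModEq at hm
      omega
    rw [hBC] at hBodd
    obtain ⟨T, hT, hT'⟩ := aux_sylow hz h0
    letI : MulAction (cj g T) C :=
      { smul := fun x e => ⟨x.1 * e.1 * x.1⁻¹, e.2.1.trans (isConj_conj _ _),
          mul_mem (mul_mem (cj_mono _ hT.le x.2) e.2.2) (inv_mem (cj_mono _ hT.le x.2))⟩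
        one_smul := fun e => Subtype.ext (by change (1 : G) * e.1 * 1⁻¹ = e.1; group)
        mul_smul := fun x y e => Subtype.ext (by
          change x.1 * y.1 * e.1 * (x.1 * y.1)⁻¹ = x.1 * (y.1 * e.1 * y.1⁻¹) * x.1⁻¹; group) }
    obtain ⟨e, he⟩ := (hT'.conj_top g).isPGroup.nonempty_fixed_point_of_prime_not_dvd_card C hBodd
    have hec : e.1 ∈ 𝐂 (cj g T) := fun x hx => by
      have : x * e.1 * x⁻¹ = e.1 := congrArg Subtype.val (he ⟨x, hx⟩)
      conv_rhs => rw [← this]
      group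
    obtain ⟨y, hy⟩ := isConj_iff.1 e.2.1
    have hS := (hT'.conj_top g).conj_top y⁻¹
    have hzc : z ∈ 𝐂 (cj y⁻¹ (cj g T)) := by
      rw [← cj_centralizer, mem_cj]; simpa [hy] using hec
    have hzS : z ∈ cj y⁻¹ (cj g T) :=
      hS.mem_of_mem_normalizer (k := 1) (by rw [pow_one, ← hz]; exact pow_orderOf_eq_one z) (mem_top _)
        (centralizer_le_normalizer _ hzc)
    exact ⟨hS.toSylowTop, ⟨z, hzS⟩, mem_center_iff.2 fun x => Subtype.ext (hzc x.1 x.2), rfl⟩
  · have htH : t ∈ H := hCz (mem_centralizer_singleton_iff.2 hc)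
    refine (h1 t ht hne hc c).1 (mem_cj.2 ?_)
    rw [mul_assoc, ← mem_centralizer_singleton_iff.1 hcc, inv_mul_cancel_left]
    exact H.mul_mem hzH htH
  · have htH : t ∈ H := hCz (mem_centralizer_singleton_iff.2 hc)
    refine ⟨fun h => ?_, fun h => by rw [cj_of_mem h]; exact H.mul_mem hzH htH⟩
    have hPz : (P : Subgroup G) ≤ 𝐂[z] := fun x hx => by
      obtain ⟨z', hz', rfl⟩ := hP
      exact mem_centralizer_singleton_iff.2 (congrArg Subtype.val (mem_center_iff.1 hz' ⟨x, hx⟩))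
    have hPH : Syl 2 (P : Subgroup G) H := (syl_top P).of_le (hPz.trans hCz) le_top
    have ht2 : t * t = 1 := mul_self_of_two (by rw [← orderOf_of_isConj ht]; exact hz)
    have hw : IsPGroup 2 (zpowers (z * t)) := isPGroup_zpowers_of_pow_eq_one (k := 1) (by
      rw [pow_one, sq]
      calc z * t * (z * t) = z * (t * z) * t := by group
        _ = (z * z) * (t * t) := by rw [hc]; group
        _ = 1 := by rw [ht2, mul_self_of_two hz, one_mul])
    obtain ⟨x, hx, hle⟩ := (hPH.conj g).exists_le_conj hw (zpowers_le.2 h)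
    rw [← cj_mul] at hle
    have h3 : z * t ∈ 𝐂[x * g * z * (x * g)⁻¹] := by
      rw [← cj_centralizer_singleton]; exact cj_mono _ hPz (hle (mem_zpowers _))
    have h4 := h2 t ht hne hc (mem_centralizer_singleton_iff.2 (mem_centralizer_singleton_iff.1 h3).symm)
    have h5 : (x * g)⁻¹ ∈ H := (h0 _).1 (mem_cj.2 (by simpa [mul_assoc] using h4))
    have h6 := H.mul_mem (mem_cj.1 hx) h5
    have : g⁻¹ * x * g * (x * g)⁻¹ = g⁻¹ := by group
    rw [this] at h6
    exact H.inv_mem_iff.1 h6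

end Cfsg.Agent.S1922
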