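import Cfsg.Statements.S1924
import Cfsg.Agent.Lib.Layer.Transf
import Cfsg.Agent.Lib.Invol.Focal
import Cfsg.Agent.Lib.PGrp.Cyclic
import Cfsg.Agent.Lib.Amalg.CD

set_option autoImplicit false
open Cfsg

namespace Cfsg.Agent.S1924

open Subgroup Cfsg.Lib.Core Cfsg.Lib.Amalg Cfsg.Lib.BG1 Cfsg.Lib.Layer
theorem prod_iff {G : Type*} [Group G] [Finite G] {T D S : Subgroup G} (hT : T ≤ S) (hD : D ≤ S) (h : D ⊓ T = ⊥) :
    (∀ s ∈ S, ∃ t ∈ T, ∃ d ∈ D, t * d = s) ↔ Nat.card T * Nat.card D = Nat.card S := by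
  let f : T × D → S := fun x => ⟨x.1 * x.2, S.mul_mem (hT x.1.2) (hD x.2.2)⟩
  have hf : Function.Injective f := by
    rintro ⟨a, b⟩ ⟨c, d⟩ e
    have e : (a : G) * b = c * d := congrArg Subtype.val e
    have h1 : (b : G) * (d : G)⁻¹ ∈ D ⊓ T := ⟨D.mul_mem b.2 (D.inv_mem d.2), by
      rw [show (b : G) * (d : G)⁻¹ = (a : G)⁻¹ * c by rw [eq_inv_mul_iff_mul_eq, ← mul_assoc, e]; group]
      exact T.mul_mem (T.inv_mem a.2) c.2⟩
    rw [h, mem_bot, mul_inv_eq_one] at h1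
    rw [h1, mul_left_inj] at e
    exact Prod.ext (Subtype.ext e) (Subtype.ext h1)
  rw [← Nat.card_prod]
  refine ⟨fun H => Nat.card_congr (Equiv.ofBijective f ⟨hf, fun ⟨s, hs⟩ => ?_⟩), fun H s hs => ?_⟩
  · obtain ⟨t, ht, d, hd, e⟩ := H s hs
    exact ⟨(⟨t, ht⟩, ⟨d, hd⟩), Subtype.ext e⟩
  · obtain ⟨⟨t, d⟩, e⟩ := ((Nat.bijective_iff_injective_and_card f).2 ⟨hf, H⟩).2 ⟨s, hs⟩
    exact ⟨t, t.2, d, d.2, congrArg Subtype.val e⟩

theorem dih {n : ℕ} (hn : 2 ≤ n) {C : Subgroup (DihedralGroup n)} (hC : IsCyclic C) (hi : C.index = 2)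
    {x : DihedralGroup n} (hx : x ∉ C) : orderOf x = 2 := by
  haveI : NeZero n := ⟨by omega⟩
  obtain ⟨a, rfl⟩ := Lib.PGrp.exists_zpowers_eq_of_isCyclic hC
  have h := (zpowers a).card_mul_index
  rw [hi, Nat.card_zpowers, DihedralGroup.nat_card, mul_comm, Nat.mul_right_inj two_ne_zero] at h
  have hr : ∀ i : ZMod n, DihedralGroup.r i ∈ zpowers (DihedralGroup.r (1 : ZMod n)) := fun i =>
    ⟨i.val, by simp [DihedralGroup.r_one_pow]⟩
  rcases a with j | j
  · rcases x with i | i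
    · refine absurd ?_ hx
      rw [eq_of_le_of_card_ge (zpowers_le.2 (hr j)) (by
        rw [Nat.card_zpowers, Nat.card_zpowers, h, DihedralGroup.orderOf_r_one])]
      exact hr i
    · exact DihedralGroup.orderOf_sr i
  · rw [DihedralGroup.orderOf_sr] at h
    subst h
    haveI := Lib.Invol.fact_two
    exact orderOf_eq_prime ((by decide : ∀ x : DihedralGroup 2, x ^ 2 = 1) x) fun e => hx (e ▸ one_mem _)

theorem no_semi {K : Type*} [Group K] [Finite K] (hK : pResidual 2 K = ⊤) (T : Subgroup K) (c : K) {m : ℕ}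
    (hm : Odd m) (hc : Even (orderOf c)) (hi : T.index = orderOf c * m)
    (h : ∀ (k : ℕ) (g : K), g⁻¹ * c ^ k * g ∈ T → orderOf c ∣ k) : False := by
  classical
  haveI : Fintype (K ⧸ T) := Fintype.ofFinite _
  have h1 : Equiv.Perm.sign (MulAction.toPermHom K (K ⧸ T) c) = -1 :=
    sign_of_semiregular (orderOf_pos c) hc hm (by rw [← Nat.card_eq_fintype_card]; exact hi) fun k x => by
      obtain ⟨g, rfl⟩ := QuotientGroup.mk_surjective x
      rw [← map_pow]
      refine ⟨fun e => h k g (Lib.Amalg.smul_mk_eq_iff.1 e), fun e => ?_⟩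
      rw [orderOf_dvd_iff_pow_eq_one.1 e, map_one]; rfl
  obtain ⟨H, hH, -⟩ := Lib.Invol.exists_index_two_of_sign (Equiv.Perm.sign.comp (MulAction.toPermHom K (K ⧸ T)))
    (x := c) (by rw [MonoidHom.comp_apply, h1]; decide)
  exact Lib.Invol.pResidual_two_eq_top_iff.1 hK H hH

/-- A consequence of Thompson's transfer lemma. Let G be a finite group, L a subgroup with O²(L) = L, T a Sylow 2-subgroup of L and S a Sylow 2-subgroup of G containing T. Suppose D ≤ S is a dihedral subgroup of order at least 4 (the four-group counts) with D ∩ T = 1 and S = TD as a set of products (so |S| = |T|·|D|), and C ≤ D is cyclic of index 2 in D. If no involution of D outside C is G-conjugate to an involution of the subgroup generated by T and C, and the involution of C is not G-conjugate to any involution of T, then G has a normal subgroup K, containing every Sylow 2-subgroup of L as a Sylow 2-subgroup, with G = KD. -/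
theorem result {G : Type*} [Group G] [Finite G] (L T S D C : Subgroup G) (hL : Cfsg.pResidual 2 ↥L = ⊤)
    (hTL : T ≤ L) (hT2 : IsPGroup 2 T) (hTsyl : ¬ 2 ∣ T.relIndex L)
    (hS2 : IsPGroup 2 S) (hSsyl : ¬ 2 ∣ S.index) (hTS : T ≤ S)
    (hDS : D ≤ S) (hDih : ∃ n : ℕ, 2 ≤ n ∧ Nonempty (↥D ≃* DihedralGroup n)) (hDT : D ⊓ T = ⊥) (hTD : T ⊔ D = S) (hTDc : Nat.card T * Nat.card D = Nat.card S)
    (hCD : C ≤ D) (hC : IsCyclic ↥C) (hCi : C.relIndex D = 2)
    (h1 : ∀ x ∈ D, x ∉ C → orderOf x = 2 → ∀ g : G, g * x * g⁻¹ ∈ T ⊔ C → False)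
    (h2 : ∀ c ∈ C, orderOf c = 2 → ∀ g : G, g * c * g⁻¹ ∈ T → False) :
    ∃ K : Subgroup G, K.Normal ∧ K ⊔ D = ⊤ ∧
      ∀ T' : Subgroup G, T' ≤ L → IsPGroup 2 T' → ¬ 2 ∣ T'.relIndex L → T' ≤ K ∧ ¬ 2 ∣ T'.relIndex K := by
  haveI := Lib.Invol.fact_two
  obtain ⟨n, hn, ⟨e⟩⟩ := hDih
  have hinv : ∀ x ∈ D, x ∉ C → orderOf x = 2 := fun x hx hxC => by
    rw [show x = ((⟨x, hx⟩ : D) : G) from rfl, orderOf_coe, ← e.orderOf_eq]
    refine dih hn (C := (C.subgroupOf D).map e.toMonoidHom) (Lib.PGrp.isCyclic_map _ (Lib.PGrp.isCyclic_subgroupOf hC D))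
      ((index_map_equiv _ e).trans hCi) fun ⟨y, hy, e'⟩ => hxC ?_
    have : y = ⟨x, hx⟩ := e.injective e'
    subst this; exact hy
  have hS : Syl 2 S ⊤ := syl_of_not_dvd le_top hS2 (by rwa [relIndex_top_right])
  have hMS : T ⊔ C ≤ S := sup_le hTS (hCD.trans hDS)
  have hM : (T ⊔ C).relIndex S = 2 := by
    have a1 := card_mul_relIndex hMS
    have a2 := card_mul_relIndex hCD
    have a3 := card_mul_card_le_sup T C
    rw [show T ⊓ C = ⊥ from le_bot_iff.1 (hDT ▸ le_inf (inf_le_right.trans hCD) inf_le_left), card_bot] at a3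
    have a4 : (T ⊔ C).relIndex S ≠ 1 := fun h => by
      have : ¬ D ≤ C := fun h => by rw [relIndex_eq_one.2 h] at hCi; omega
      obtain ⟨x, hx, hxC⟩ := SetLike.not_le_iff_exists.1 this
      exact h1 x hx hxC (hinv x hx hxC) 1 (by simpa using relIndex_eq_one.1 h (hDS hx))
    have a5 : (T ⊔ C).relIndex S ≠ 0 := index_ne_zero_of_finite
    have a6 : 0 < Nat.card (T ⊔ C : Subgroup G) := Nat.card_pos
    rw [hCi] at a2
    have : Nat.card (T ⊔ C : Subgroup G) * (T ⊔ C).relIndex S ≤ Nat.card (T ⊔ C : Subgroup G) * 2 := by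
      rw [a1, ← hTDc, ← a2]; nlinarith
    have := Nat.le_of_mul_le_mul_left this a6
    omega
  set K := pResidualOf 2 (⊤ : Subgroup G)
  haveI hKn : K.Normal := res_normal ⊤
  have hLK : L ≤ K := by
    rw [← map_subtype_top L, ← hL]; exact res_mono le_top
  have hTK := hTL.trans hLK
  have hEC : D ⊓ K ≤ C := fun x ⟨hx, hxK⟩ => by_contra fun hxC => by
    obtain ⟨H, hH, hxH⟩ := Lib.Invol.thompson_transfer (Nat.not_even_iff_odd.1 fun h => hSsyl h.two_dvd) hM
      (hinv x hx hxC) (h1 x hx hxC (hinv x hx hxC))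
    haveI := normal_of_index_eq_two hH
    exact hxH (res_le_of_relIndex (n := 1) (normalizer_eq_top H).ge (by rw [relIndex_top_right, hH, pow_one]) hxK)
  have hcard : Nat.card T * Nat.card (D ⊓ K : Subgroup G) = Nat.card (S ⊓ K : Subgroup G) :=
    (prod_iff (le_inf hTS hTK) (inf_le_inf_right _ hDS) (le_bot_iff.1 (hDT ▸ inf_le_inf_right _ inf_le_left))).1
      fun s ⟨hs, hsK⟩ => by
        obtain ⟨t, ht, d, hd, rfl⟩ := (prod_iff hTS hDS hDT).2 hTDc s hs
        exact ⟨t, ht, d, ⟨hd, (K.mul_mem_cancel_left (hTK ht)).1 hsK⟩, rfl⟩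
  have hSK := hS.inf_normal_top K
  have hE : D ⊓ K = ⊥ := by
    by_contra hne
    obtain ⟨c, hc⟩ := Lib.PGrp.exists_zpowers_eq_of_isCyclic (Lib.PGrp.isCyclic_of_le' hC hEC)
    have hcE : c ∈ D ⊓ K := hc ▸ mem_zpowers c
    obtain ⟨j, hj⟩ := IsPGroup.iff_orderOf.1 hS2 ⟨c, hDS hcE.1⟩
    rw [← orderOf_coe] at hj
    have hj : orderOf c = 2 ^ j := hj
    refine no_semi (K := K) (by rw [← res_subgroupOf_self, res_res, subgroupOf_self]) (T.subgroupOf K) ⟨c, hcE.2⟩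
      (m := (S ⊓ K).relIndex K) (Nat.not_even_iff_odd.1 fun h => hSK.not_dvd_relIndex h.two_dvd) ?_ ?_ ?_
    · rw [← orderOf_coe, ← Nat.card_zpowers, hc]
      exact even_iff_two_dvd.2 (dvd_card_of_isPGroup_ne_bot (hS2.to_le (inf_le_left.trans hDS)) hne)
    · rw [← orderOf_coe, ← Nat.card_zpowers, hc]
      change T.relIndex K = _
      rw [← relIndex_mul_relIndex T (S ⊓ K) K (le_inf hTS hTK) inf_le_right]
      congr 1
      exact Nat.eq_of_mul_eq_mul_left (Nat.card_pos (α := T)) ((card_mul_relIndex (le_inf hTS hTK)).trans hcard.symm)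
    · intro k g hg
      rw [← orderOf_coe, orderOf_dvd_iff_pow_eq_one]
      by_contra hk
      have hg : (g : G)⁻¹ * c ^ k * g ∈ T := hg
      have hp : IsPGroup 2 (zpowers (c ^ k)) := hS2.to_le (zpowers_le.2 (S.pow_mem (hDS hcE.1) k))
      obtain ⟨⟨z, hz⟩, hz2⟩ := exists_prime_orderOf_dvd_card' 2 (dvd_card_of_isPGroup_ne_bot hp (by simpa using hk))
      rw [← orderOf_coe] at hz2
      obtain ⟨i, rfl⟩ := hz
      refine h2 _ (C.zpow_mem (C.pow_mem (hEC hcE) k) i) hz2 (g : G)⁻¹ ?_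
      have := T.zpow_mem hg i
      rwa [← inv_inv (g : G), inv_inv (g : G)⁻¹, conj_zpow] at this
  rw [hE, card_bot, mul_one] at hcard
  refine ⟨K, hKn, ?_, fun T' h1 h2 h3 => ⟨h1.trans hLK, ?_⟩⟩
  · rw [← hS.res_sup, ← hTD, ← sup_assoc, sup_of_le_left hTK]
  · refine (hSK.of_card_ge h2 (h1.trans hLK) ?_).not_dvd_relIndex
    rw [← hcard, (syl_of_not_dvd hTL hT2 hTsyl).card_eq (syl_of_not_dvd h1 h2 h3)]

end Cfsg.Agent.S1924
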