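import Cfsg.Statements.S1930
import Cfsg.Agent.Lib.Glaub.FS4
import Cfsg.Agent.Lib.Layer.FStar

set_option autoImplicit false
open Cfsg

open Subgroup Cfsg.Lib
open scoped commutatorElement
open Cfsg.Lib Cfsg.Lib.Amalg
namespace Cfsg.Agent.S1930

/-- Inside a finite group let G be a nontrivial subgroup and R an r-subgroup (r a prime) normalizing G, with the order of G prime to r. Let p > 3 be a prime with F*(G) = O_p(G), and let P be the intersection of all R-invariant Sylow p-subgroups of G. Then P has a nontrivial characteristic subgroup that is normalized by G. -/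
theorem result {X : Type*} [Group X] [Finite X] (G R : Subgroup X) (r : ℕ) [Fact r.Prime] (hR : IsPGroup r ↥R) (hcop : (Nat.card ↥G).Coprime r) (hnorm : R ≤ Subgroup.normalizer (G : Set X)) (hG : G ≠ ⊥) (p : ℕ) [Fact p.Prime] (hp : 3 < p) (hF : Cfsg.generalizedFittingSubgroup ↥G = Cfsg.pCore p ↥G) (P : Subgroup X) (hP : P = ⨅ S : {S : Sylow p ↥G // ∀ a ∈ R, ((S : Subgroup ↥G).map G.subtype).map (MulAut.conj a).toMonoidHom = (S : Subgroup ↥G).map G.subtype}, ((S : Sylow p ↥G) : Subgroup ↥G).map G.subtype) : ∃ C : Subgroup ↥P, C.Characteristic ∧ C ≠ ⊥ ∧ G ≤ Subgroup.normalizer ((C.map P.subtype : Subgroup X) : Set X) := by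
  have pp : p.Prime := Fact.out
  have hc : CharP p G := charP_iff.2 (Layer.fstar_eq_pCore_iff.1 hF)
  have h0 := hc.op_ne_bot hG
  have c1 : (Nat.card R).Coprime (Nat.card G) := (Coprime.coprime_card_of_isPGroup hR hcop).symm
  have c2 : (Nat.card R).Coprime p := c1.coprime_dvd_right (dvd_card_of_isPGroup_le (op_isPGroup G) h0 (op_le G))
  have m : ∀ {x}, x ∈ P ↔ ∀ T, Syl p T G → R ≤ 𝐍 T → x ∈ T := fun {x} => by
    rw [hP, Subgroup.mem_iInf]
    refine ⟨fun h T a b => ?_, fun h S => h _ (syl_of_sylow S.1) fun a ha => cj_eq_self_iff.1 (S.2 a ha)⟩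
    have := h ⟨a.toSylow, fun x hx => by rw [a.map_toSylow]; exact cj_of_mem_normalizer (b hx)⟩
    rwa [a.map_toSylow] at this
  obtain ⟨T, t1, t2⟩ := Coprime.exists_invariant_sylowIn hnorm c1 (FT.solvable_or_of_coprime _ _ c1) p
  have l : P ≤ T := fun x hx => m.1 hx T (syl_of_sylowIn t1) t2
  have hO : pCoreOf p G ≤ P := fun x hx => m.2 fun T a _ => a.op_le hx
  have pP := t1.isPGroup.to_le l
  have := Glaub.FS.flavell (P := P) (by have := pp.eq_two_or_odd; omega) ⟨hnorm, c1, c2, l.trans t1.le, pP,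
    le_normalizer_of_cj_le fun a ha => cj_le_iff'.2 fun x hx => m.2 fun T b c => Coprime.conj_mem c ha (m.1 hx T b c),
    le_normalizer_of_cj_le fun a ha => cj_le_iff'.2 fun x hx => m.2 fun T b c => by
      have := m.1 hx _ (b.conj_of_mem (inv_mem ha.1)) (by
        rw [← cj_normalizer]
        exact (cj_of_mem_centralizer (inv_mem ha.2)).ge.trans (cj_mono _ c))
      rwa [mem_cj, inv_inv] at this⟩ hc hO
  exact ⟨kInfUpper P, Subgroup.characteristic_iff_map_eq.2 fun φ => Glaub.fct_kU.equiv P P pP φ, fun e =>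
    Glaub.fct_kU.amb_ne_bot pP (fun e => h0 (le_bot_iff.1 (e ▸ hO))) (by rw [Fus2.amb, e, Subgroup.map_bot]), this⟩

end Cfsg.Agent.S1930
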