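import Cfsg.Statements.S1931
import Cfsg.Agent.Lib.Glaub.FS5
import Cfsg.Agent.Lib.Amalg.FStarAct

set_option autoImplicit false
open Cfsg

open Subgroup Cfsg.Lib
open scoped commutatorElement
open Cfsg.Lib Cfsg.Lib.Amalg Cfsg.Lib.Glaub.FS Subgroup
namespace Cfsg.Agent.S1931

open scoped commutatorElement

theorem fs_le {X : Type*} [Group X] [Finite X] {p : ℕ} [Fact p.Prime] (L : Subgroup X) :
    fs L ≤ pResidualOf p (fs L) ⊔ pCoreOf p L ∧ pResidualOf p (fs L) ≤ 𝐂 (pCoreOf p L) := by
  have h := Layer.fit_le_pCore_sup_pPrimeCore (G := L) (p := p) Fact.out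
  rw [Amalg.fs, res_map_subtype, op_def, ← Subgroup.map_sup]
  refine ⟨map_mono (sup_le ((le_res_of_perfect Layer.layer_commutator_self Layer.layer_le_fstar).trans le_sup_left)
    ((le_inf h Layer.fit_le_fstar).trans ?_)), (map_mono (res_le_of_le_sup (Core.isPGroup_pCore p L) le_normalizer_of_normal
      (sup_le (Layer.layer_le_centralizer_pCore.trans le_sup_left) (h.trans (sup_le le_sup_right
        ((Core.pPrimeCore_le_centralizer_pCore Fact.out).trans le_sup_left)))))).trans (map_centralizer_le_centralizer_image _ _)⟩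
  rw [sup_inf_of_le_normalizer Layer.pCore_le_fstar le_normalizer_of_normal]
  exact sup_le le_sup_right ((le_res_of_coprime inf_le_right ((Core.coprime_card_pPrimeCore p L).coprime_dvd_left
    (card_dvd_of_le inf_le_left))).trans le_sup_left)

/-- Inside a finite group let G be a subgroup and R a noncyclic abelian r-subgroup (r a prime) normalizing G, with the order of G prime to r, and let p > 3 be a prime. Suppose that for every nonidentity a ∈ R, R centralizes the subgroup O^p(F*(C_G(a))) generated by the p'-elements of the generalized Fitting subgroup of C_G(a). Then R centralizes O^p(F*(G)). -/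
theorem result {X : Type*} [Group X] [Finite X] (G R : Subgroup X) (r : ℕ) [Fact r.Prime] (hR : IsPGroup r ↥R) (hcop : (Nat.card ↥G).Coprime r) (hnorm : R ≤ Subgroup.normalizer (G : Set X)) (hab : IsMulCommutative ↥R) (hnc : ¬ IsCyclic ↥R) (p : ℕ) [Fact p.Prime] (hp : 3 < p) (hloc : ∀ a ∈ R, a ≠ 1 → R ≤ Subgroup.centralizer ((((Cfsg.pResidual p ↥(Cfsg.generalizedFittingSubgroup ↥(G ⊓ Subgroup.centralizer ({a} : Set X)))).map (Cfsg.generalizedFittingSubgroup ↥(G ⊓ Subgroup.centralizer ({a} : Set X))).subtype).map (G ⊓ Subgroup.centralizer ({a} : Set X)).subtype : Subgroup X) : Set X)) : R ≤ Subgroup.centralizer ((((Cfsg.pResidual p ↥(Cfsg.generalizedFittingSubgroup ↥G)).map (Cfsg.generalizedFittingSubgroup ↥G).subtype).map G.subtype : Subgroup X) : Set X) := by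
  have pp : p.Prime := Fact.out
  have c1 : (Nat.card R).Coprime (Nat.card G) := (Coprime.coprime_card_of_isPGroup hR hcop).symm
  have h : HS p G R := fun b hb b1 => by
    have k := hloc b hb b1
    rw [← res_def, ← res_map_subtype] at k
    have n := ni hnorm (nb hb)
    generalize hL : G ⊓ centralizer {b} = L at k n
    have l : L ≤ G := hL ▸ inf_le_left
    have n1 := ni n (nc (le_norm_op_of_le (p := p) n))
    refine ⟨pCoreOf p L, (op_le L).trans l, op_isPGroup L, le_norm_op_of_le n, le_norm_op L, (op_isPGroup L).to_le ?_⟩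
    have n2 : L ≤ 𝐍 (pResidualOf p (fs L)) := le_normalizer.trans ((Layer.normalizer_le_normalizer_fstarOf L).trans (norm_le_norm_res _))
    have a : ⁅L ⊓ 𝐂 (pCoreOf p L), R⁆ ≤ 𝐂 (fs L) := le_centralizer_iff.1 ((fs_le (p := p) L).1.trans (sup_le (le_centralizer_iff.1
      ((commutator_mono inf_le_left k).trans (comm_le_right (nc n2)))) (le_centralizer_iff.1 ((comm_le_left n1).trans inf_le_right))))
    rw [← Coprime.commutator_commutator_eq n1 (Coprime.coprime_card_of_le c1 le_rfl (inf_le_left.trans l))]
    exact (commutator_mono (((le_inf ((comm_le_left n1).trans inf_le_left) a).trans (Layer.inf_centralizer_fstarOf_le L)).trans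
      ((map_mono Layer.fit_le_fstar).trans (fs_le (p := p) L).1)) le_rfl).trans (comm_sup_le ((comm_eq_bot_iff'.2 k).le.trans bot_le)
        (comm_le_left (le_norm_op_of_le n)) ((fs_le L).2.trans (centralizer_le_normalizer _)) le_normalizer)
  rw [← res_def, ← res_map_subtype]
  have l : pResidualOf p (fs G) ≤ G := (res_le _).trans (map_subtype_le _)
  by_cases hd : p ∣ Nat.card G
  · have n : 𝐍 G ≤ 𝐍 (pResidualOf p (fs G)) := (Layer.normalizer_le_normalizer_fstarOf G).trans (norm_le_norm_res _)
    have := (gh (by have := pp.eq_two_or_odd; omega) hnc hnorm c1 (c1.coprime_dvd_right hd) h).to_le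
      (commutator_mono (le_inf l (fs_le G).2) le_rfl)
    have c := Coprime.coprime_card_of_le c1 le_rfl l
    have a := (le_op (comm_le_left (hnorm.trans n)) (left_le_normalizer_comm _ _) this).trans (op_le_op l (le_normalizer.trans n))
    refine le_centralizer_iff.1 ((res_res _).ge.trans ((res_le_of_le_sup this ?_ ((Coprime.commutator_sup_centralizer (hnorm.trans n) c
      (FT.solvable_or_of_coprime _ _ c)).ge.trans (sup_comm _ _).le)).trans inf_le_right))
    exact a.trans ((le_centralizer_iff.1 (inf_le_left.trans (fs_le G).2)).trans (centralizer_le_normalizer _))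
  · refine le_centralizer_iff.1 (l.trans (Coprime.le_of_forall_centralizer_le hnc hnorm c1 fun b hb b1 => ?_))
    obtain ⟨T, t1, t2, -, -, t5⟩ := h b hb b1
    rw [isPGroup_eq_bot_of_not_dvd t2 t1 hd, Amalg.centralizer_bot, inf_top_eq] at t5
    exact comm_eq_bot_iff.1 (isPGroup_eq_bot_of_not_dvd t5 ((comm_le_left (ni hnorm (nb hb))).trans inf_le_left) hd)

end Cfsg.Agent.S1931
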