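import Cfsg.Statements.S1935
import Cfsg.Agent.Lib.Amalg.Lim2
import Cfsg.Agent.Lib.KS9.Offender

set_option autoImplicit false
open Cfsg

namespace Cfsg.Agent.S1935

open Subgroup Cfsg.Lib.Amalg
open Cfsg.Lib.Core hiding isPGroup_subgroupOf isPGroup_subgroupOf_iff isPGroup_map_subtype_iff isPGroup_zpowers_of_orderOf
open scoped commutatorElement

/-- Let p ≥ 5 be a prime and, inside an ambient finite group, let G be a p-subgroup acting faithfully by conjugation on an elementary abelian p-subgroup V that it normalizes (only the identity of G centralizes V). Suppose V is an F-module for G: some nontrivial elementary abelian subgroup E of G satisfies #E · #C_V(E) ≥ #V. Then G contains such an offender A that moreover acts quadratically on V ([V, A, A] = 1) and is normal in its normal closure in G. -/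
theorem result {Ω : Type*} [Group Ω] [Finite Ω] (p : ℕ) [Fact p.Prime] (hp : 5 ≤ p) (V G : Subgroup Ω) (hV : Cfsg.IsElementaryAbelian p V) (hG : IsPGroup p ↥G) (hGV : G ≤ Subgroup.normalizer (V : Set Ω)) (hfaith : G ⊓ Subgroup.centralizer (V : Set Ω) = ⊥) (hF : ∃ E : Subgroup Ω, E ≤ G ∧ E ≠ ⊥ ∧ Cfsg.IsElementaryAbelian p E ∧ Nat.card ↥V ≤ Nat.card ↥E * Nat.card ↥(V ⊓ Subgroup.centralizer (E : Set Ω))) : ∃ A : Subgroup Ω, A ≤ G ∧ A ≠ ⊥ ∧ Cfsg.IsElementaryAbelian p A ∧ Nat.card ↥V ≤ Nat.card ↥A * Nat.card ↥(V ⊓ Subgroup.centralizer (A : Set Ω)) ∧ ⁅⁅V, A⁆, A⁆ = ⊥ ∧ ∀ g ∈ Subgroup.closure {x : Ω | ∃ h ∈ G, ∃ a ∈ A, x = h * a * h⁻¹}, ∀ a ∈ A, g * a * g⁻¹ ∈ A := by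
  obtain ⟨E, hEG, hne, hE, hoff⟩ := hF
  obtain ⟨P, W, _, _, _, _, _, π, ι, h⟩ := Lib.Amalg.TV.exists_br hV.1 hGV
  have inf : ∀ {X : Subgroup Ω}, X ≤ G → X ≤ Subgroup.centralizer (V : Set Ω) → X = ⊥ := fun h1 h2 =>
    eq_bot_iff.2 (hfaith ▸ le_inf h1 h2)
  obtain ⟨A, h1, h2, h3, h4⟩ := Lib.Amalg.Lim.main (W := W) (by omega) (hG.of_surjective π h.surj) (h.hp hV) h.faith
    (Lib.Amalg.elemAb_map (f := π) ((Lib.Amalg.isElemAb_subgroupOf_iff hEG).2 hE))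
    (fun e => hne (inf hEG ((h.mim_eq_bot hEG).1 e))) ((h.ms_eq hfaith hEG).symm ▸ h.card ▸ hoff)
  have hle := Lib.BG1.mpre_le π A
  rw [← h.mim_mpre A] at h1 h2 h3
  have hq := (h.quad_iff hle).1 h3
  refine ⟨_, hle, fun e => h1 (by rw [e, Lib.BG1.mim_bot]),
    Lib.KS9.elemAb_of_quad hV (hle.trans hGV) (inf (inf_le_left.trans hle) inf_le_right) hq,
    h.card ▸ h.ms_eq hfaith hle ▸ h2, hq, fun g hg => ?_⟩
  refine fun a ha => (Subgroup.mem_normalizer_iff.1 ((Subgroup.closure_le (Subgroup.normalizer _)).2 ?_ hg) a).1 ha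
  rintro _ ⟨x, hx, b, hb0, rfl⟩
  refine Subgroup.mem_normalizer_fintype fun c hc0 => ?_
  obtain ⟨hb, hb'⟩ := Lib.BG1.mem_mpre.1 hb0
  obtain ⟨hc, hc'⟩ := Lib.BG1.mem_mpre.1 hc0
  have hm := G.mul_mem (G.mul_mem hx hb) (G.inv_mem hx)
  refine Lib.BG1.mem_mpre.2 ⟨G.mul_mem (G.mul_mem hm hc) (G.inv_mem hm), ?_⟩
  have := h4 (π ⟨x, hx⟩) _ hb' _ hc'
  simp only [← map_inv, ← map_mul] at this
  exact this

end Cfsg.Agent.S1935
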