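import Cfsg.Statements.S1936
import Cfsg.Agent.Lib.Linear.PSL2Sub
import Cfsg.Agent.Lib.Coprime.Glaub3
import Cfsg.Agent.Lib.Coprime.AbSyl

set_option autoImplicit false
open Cfsg

namespace Cfsg.Agent.S1936

open Subgroup Cfsg.Lib Cfsg.Lib.Coprime

def Ab (p : ℕ) (G : Type*) [Group G] : Prop := ∀ H : Subgroup G, (Nat.card H).Coprime p → ∀ x ∈ H, ∀ y ∈ H, x * y = y * x

variable {G K : Type*} [Group G] [Group K] {p : ℕ}

theorem Ab.of_inj (h : Ab p G) (f : K →* G) (hf : Function.Injective f) : Ab p K := fun H hH x hx y hy =>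
  hf (by simpa using h (H.map f) (by rwa [card_map_of_injective hf]) _ (mem_map_of_mem f hx) _ (mem_map_of_mem f hy))

theorem Ab.quot [Finite G] (h : Ab p G) (N : Subgroup G) [N.Normal] : Ab p (G ⧸ N) := fun H hH x hx y hy => by
  let f := ((QuotientGroup.mk' N).subgroupComap H)
  have hf : Function.Surjective f := MonoidHom.subgroupComap_surjective_of_surjective _ _ (QuotientGroup.mk'_surjective N)
  obtain ⟨S, h1, -, h2⟩ := exists_supplement_coprime f.ker
  have h3 : S.map f = ⊤ := by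
    have := congrArg (map f) h1
    rwa [Subgroup.map_sup, (Subgroup.map_eq_bot_iff _).2 le_rfl, bot_sup_eq, map_top_of_surjective f hf] at this
  obtain ⟨a, ha, e1⟩ := h3.ge (mem_top ⟨x, hx⟩)
  obtain ⟨b, hb, e2⟩ := h3.ge (mem_top ⟨y, hy⟩)
  have h4 := (h.of_inj _ (subtype_injective _)) S (h2 p (by
    rw [index_ker, MonoidHom.range_eq_top.2 hf, card_top]; exact hH.symm)).symm a ha b hb
  simpa [e1, e2] using congrArg (fun z => (f z : G ⧸ N)) h4

theorem Ab.comm [Finite K] (h : Ab p K) (hp : p.Prime) (h5 : 5 ≤ p) (hd : Nat.card K ∣ 12) (x y : K) : x * y = y * x :=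
  h ⊤ (by
    rw [card_top]
    refine Nat.Coprime.coprime_dvd_left hd ((Nat.coprime_comm.1 ((Nat.Prime.coprime_iff_not_dvd hp).2 fun hd => ?_)))
    have := Nat.le_of_dvd (by norm_num) hd
    interval_cases p <;> simp_all (config := {decide := true})) x trivial y trivial

theorem not_psl2 (hp : p.Prime) (h5 : 5 ≤ p) (F : Type*) [Field F] [Finite F] : ¬ Ab p (Linear.PSL2 F) := fun h => by
  by_cases h2 : (2 : F) = 0
  · have : CharP F 2 := CharTwo.of_one_ne_zero_of_two_eq_zero one_ne_zero h2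
    obtain ⟨H, ⟨e⟩⟩ := Linear.psl2_exists_subfield (ZMod.castHom (dvd_refl 2) F)
    have h3 := (h.of_inj (H.subtype.comp e.symm.toMonoidHom) (H.subtype_injective.comp e.symm.injective)).comm hp h5
      ((card_quotient_dvd_card _).trans (by rw [Nat.card_eq_fintype_card]; decide +kernel))
    obtain ⟨a, b, c, h4⟩ : ∃ a b c : Matrix.SpecialLinearGroup (Fin 2) (ZMod 2), c * ((a * b)⁻¹ * (b * a)) ≠ (a * b)⁻¹ * (b * a) * c := by
      decide +kernel
    exact h4 (mem_center_iff.1 (QuotientGroup.eq.1 (h3 (QuotientGroup.mk a) (QuotientGroup.mk b))) c)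
  · obtain ⟨H, ⟨e⟩⟩ := Linear.psl2_exists_A4 (Or.inl h2)
    have h3 := (h.of_inj (H.subtype.comp e.symm.toMonoidHom) (H.subtype_injective.comp e.symm.injective)).comm hp h5
      (by rw [nat_card_alternatingGroup]; simp [Nat.factorial])
    revert h3
    decide +kernel

theorem solv (hp : p.Prime) (h5 : 5 ≤ p) (n : ℕ) : ∀ (G : Type*) [Group G] [Finite G], Nat.card G = n → Ab p G → Group.IsSolvable G := by
  induction n using Nat.strong_induction_on with
  | _ n ih =>
  intro G _ _ hn h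
  by_cases hs : IsSimpleGroup G
  · by_cases hG : IsMulCommutative G
    · exact Group.isSolvable_of_comm hG.1.1
    obtain ⟨S⟩ : Nonempty (Sylow 2 G) := inferInstance
    obtain ⟨k, hk⟩ := S.2.exists_card_eq
    have h1 := h S (hk ▸ Nat.Coprime.pow_left _ ((Nat.coprime_primes Nat.prime_two hp).2 (by omega)))
    rcases walter' hG S ⟨⟨fun a b => Subtype.ext (h1 _ a.2 _ b.2)⟩⟩ with ⟨F, _, _, -, -, ⟨e⟩⟩ | ⟨-, K, -, -, -, -, -, F, _, _, -, -, ⟨e⟩⟩
    · exact absurd (h.of_inj e.symm.toMonoidHom e.symm.injective) (not_psl2 hp h5 F)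
    · exact absurd (h.of_inj (K.subtype.comp e.symm.toMonoidHom) (K.subtype_injective.comp e.symm.injective)) (not_psl2 hp h5 F)
  rcases subsingleton_or_nontrivial G with _ | _
  · infer_instance
  obtain ⟨N, hN, h1, h2⟩ : ∃ N : Subgroup G, N.Normal ∧ N ≠ ⊥ ∧ N ≠ ⊤ := by
    by_contra! hc
    exact hs ⟨fun N hN => or_iff_not_imp_left.2 (hc N hN)⟩
  have := ih _ (hn ▸ Core.card_lt_of_ne_top h2) N rfl (h.of_inj _ N.subtype_injective)
  have := ih _ (hn ▸ Core.card_quotient_lt h1) (G ⧸ N) rfl (h.quot N)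
  exact Group.isSolvable_of_ker_le_range N.subtype (QuotientGroup.mk' N) (by simp)

/-- Let p be a prime and G a finite group in which every subgroup of order prime to p is abelian of exponent dividing p − 1. Then G is solvable. -/
theorem result {G : Type*} [Group G] [Finite G] (p : ℕ) [Fact p.Prime] (h : ∀ H : Subgroup G, (Nat.card ↥H).Coprime p → IsMulCommutative ↥H ∧ ∀ x ∈ H, x ^ (p - 1) = 1) : Group.IsSolvable G := by
  have hp : p.Prime := Fact.out
  by_cases h5 : 5 ≤ p
  · exact solv hp h5 _ G rfl fun H hH x hx y hy => congrArg Subtype.val ((h H hH).1.1.1 ⟨x, hx⟩ ⟨y, hy⟩)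
  refine solvable_of_two_primes hp Nat.prime_two fun r hr hd => or_iff_not_imp_left.2 fun h1 => ?_
  have := Fact.mk hr
  obtain ⟨x, hx⟩ := exists_prime_orderOf_dvd_card' r hd
  have h2 := (h (zpowers x) (by rw [Nat.card_zpowers, hx]; exact (Nat.coprime_primes hr hp).2 h1)).2 x (mem_zpowers x)
  have h3 := Nat.le_of_dvd (by have := hp.two_le; omega) (hx ▸ orderOf_dvd_of_pow_eq_one h2)
  have := hr.two_le
  have : p ≠ 4 := by rintro rfl; norm_num at hp
  omega

end Cfsg.Agent.S1936
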