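import Cfsg.Statements.S1939
import Cfsg.Agent.Lib.Block.IsoElt

set_option autoImplicit false
open Cfsg

namespace Cfsg.Agent.S1939

open Cfsg.Lib.Block Cfsg.Lib.Char Cfsg.Lib.Amalg
set_option linter.style.haveILetI false

/-- Let S be a Sylow p-subgroup of the finite group G and a an element of S that is the only G-conjugate of a lying in S. Then every power of a has the same property: for every n, the only G-conjugate of a^n lying in S is a^n. -/
theorem result {G : Type*} [Group G] [Finite G] {p : ℕ} [Fact p.Prime] (S : Sylow p G) (a : G)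
    (haS : a ∈ (S : Subgroup G)) (hwc : ∀ g : G, g * a * g⁻¹ ∈ (S : Subgroup G) → g * a * g⁻¹ = a) (n : ℕ) :
    ∀ g : G, g * a ^ n * g⁻¹ ∈ (S : Subgroup G) → g * a ^ n * g⁻¹ = a ^ n := by
  intro g hg
  obtain ⟨k, hk⟩ := Lib.Invol.pow_eq_one_of_mem S.2 haS
  exact ((isIsolated_of_sylow S haS hwc).of_mem_zpowers hk (Subgroup.npow_mem_zpowers a n)).eq_of_mem
    S.2 (pow_mem haS n) hg (Lib.Invol.isConj_conj g _)

end Cfsg.Agent.S1939
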