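import Cfsg.Statements.S1940
import Cfsg.Agent.Lib.Layer.Bender

set_option autoImplicit false
open Cfsg

namespace Cfsg.Agent.S1940

open Subgroup Cfsg.Lib.Core Cfsg.Lib.Amalg Cfsg.Lib.BG1 Cfsg.Lib.Layer

/-- Let the finite group L act by automorphisms on the finite abelian group M, and let N be an L-invariant subgroup of M such that M/N is a p-group on which L acts trivially (every l • m lies in the coset mN). If every element of M is a product of an element of N and an element fixed by a Sylow p-subgroup T of L, then every element of M is a product of an element of N and an element fixed by all of L. -/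
theorem result {L : Type*} [Group L] [Finite L] {M : Type*} [CommGroup M] [Finite M] [MulDistribMulAction L M]
    {p : ℕ} [Fact p.Prime] (N : Subgroup M) (hN : ∀ (l : L) (m : M), m ∈ N → l • m ∈ N)
    (hquot : IsPGroup p (M ⧸ N)) (htriv : ∀ (l : L) (m : M), (l • m) * m⁻¹ ∈ N) (T : Sylow p L)
    (hT : ∀ m : M, ∃ n ∈ N, ∃ c : M, (∀ t ∈ (T : Subgroup L), t • c = c) ∧ m = n * c) :
    ∀ m : M, ∃ n ∈ N, ∃ c : M, (∀ l : L, l • c = c) ∧ m = n * c := by
  classical
  intro m
  have hp : p.Prime := Fact.out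
  obtain ⟨n, hn, c, hc, rfl⟩ := hT m
  let C : Subgroup M := FixedPoints.subgroup L M
  suffices h : n * c ∈ N ⊔ C by
    obtain ⟨a, ha, b, hb, e⟩ := mem_sup.1 h
    exact ⟨a, ha, b, hb, e.symm⟩
  haveI := Fintype.ofFinite (L ⧸ (T : Subgroup L))
  have h1 : ∀ (l : L) (q : L ⧸ (T : Subgroup L)), (l • q).out • c = l • q.out • c := fun l q => by
    obtain ⟨t, ht⟩ := QuotientGroup.mk_out_eq_mul (T : Subgroup L) (l * q.out)
    rw [← q.out_eq', MulAction.Quotient.smul_mk, smul_eq_mul, ht, q.out_eq', mul_smul, hc t t.2, mul_smul]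
  have h2 : ∏ q : L ⧸ (T : Subgroup L), q.out • c ∈ C := fun l => by
    rw [Finset.smul_prod']
    exact Fintype.prod_equiv (MulAction.toPerm l) _ _ fun q => (h1 l q).symm
  have h3 : (∏ q : L ⧸ (T : Subgroup L), q.out • c) * (c ^ (T : Subgroup L).index)⁻¹ ∈ N := by
    rw [index, Nat.card_eq_fintype_card, ← Finset.card_univ, ← Finset.prod_const, ← Finset.prod_inv_distrib,
      ← Finset.prod_mul_distrib]
    exact prod_mem fun q _ => htriv _ _
  obtain ⟨k, hk⟩ := hquot (c : M ⧸ N)
  refine mul_mem (mem_sup_left hn) (mem_of_coprime_pows (a := (T : Subgroup L).index) (b := p ^ k)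
    (Nat.Coprime.pow_right _ ((Nat.Prime.coprime_iff_not_dvd hp).2 T.not_dvd_index).symm) ?_
    (mem_sup_left ((QuotientGroup.eq_one_iff _).1 hk)))
  simpa using mul_mem (inv_mem (mem_sup_left h3 : _ ∈ N ⊔ C)) (mem_sup_right h2)

end Cfsg.Agent.S1940
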