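import Cfsg.Statements.S1941
import Cfsg.Agent.Lib.Layer.Baer

set_option autoImplicit false
open Cfsg

namespace Cfsg.Agent.S1941

open Subgroup Cfsg.Lib.Core Cfsg.Lib.Amalg Cfsg.Lib.BG1 Cfsg.Lib.Layer

/-- Let G be a finite group with no nontrivial normal subgroup of order prime to p, T a Sylow p-subgroup of G and E(G) the layer of G (the subgroup generated by its components). An automorphism of G of p-power order that fixes T and E(G) elementwise is inner. -/
theorem result {G : Type*} [Group G] [Finite G] {p : ℕ} [Fact p.Prime] (hcore : Cfsg.pPrimeCore p G = ⊥)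
    (T : Sylow p G) (α : MulAut G) (hα : ∃ j : ℕ, orderOf α = p ^ j) (hfixT : ∀ x ∈ (T : Subgroup G), α x = x)
    (hfixE : ∀ x ∈ Cfsg.layer G, α x = x) : ∃ g : G, ∀ x : G, α x = g * x * g⁻¹ := by
  classical
  haveI := fstar_normal (G := G)
  haveI := pCore_normal (p := p) (G := G)
  have h1 : ∀ x ∈ generalizedFittingSubgroup G, α x = x := by
    rw [fstar_eq_of_pPrimeCore_eq_bot hcore]
    exact fun x hx => (sup_le (b := pCore p G) (c := (α.toMonoidHom.eqLocus (MonoidHom.id G))) hfixE fun y hy => hfixT y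
      ((syl_top T).le_of_normal (isPGroup_pCore p G) le_top le_normalizer_of_normal' hy)) hx
  set Z := 𝐂(generalizedFittingSubgroup G) with hZ
  haveI : Z.Normal := inferInstance
  have h2 : ∀ g, α g * g⁻¹ ∈ Z := fun g x hx => by
    have e := h1 _ (Subgroup.Normal.conj_mem' inferInstance x hx g)
    rw [map_mul, map_mul, map_inv, h1 x hx] at e
    calc x * (α g * g⁻¹) = α g * ((α g)⁻¹ * x * α g) * g⁻¹ := by group
      _ = _ := by rw [e]; group
  have hp : IsPGroup p Z := (isPGroup_pCore p G).to_le (fit_eq_pCore hcore ▸ centralizer_fstar_le_fit)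
  letI : CommGroup Z := { (inferInstance : Group Z) with
    mul_comm := fun a b => Subtype.ext (b.2 _ (centralizer_fstar_le a.2)) }
  let f : G → Z := fun g => ⟨α g * g⁻¹, h2 g⟩
  let F : G ⧸ (T : Subgroup G) → Z := fun x => f x.out
  have hF : ∀ g : G, F g = f g := fun g => by
    obtain ⟨t, e⟩ := QuotientGroup.mk_out_eq_mul (T : Subgroup G) g
    apply Subtype.ext
    change α (g : G ⧸ (T : Subgroup G)).out * (g : G ⧸ (T : Subgroup G)).out⁻¹ = α g * g⁻¹
    rw [e, map_mul, hfixT t t.2]; group
  haveI : Fintype (G ⧸ (T : Subgroup G)) := Fintype.ofFinite _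
  have h3 : ∀ g, ∏ x, F x = f g ^ (T : Subgroup G).index * MulAut.conjNormal g (∏ x, F x) := fun g => by
    rw [map_prod, index, Nat.card_eq_fintype_card, ← Finset.card_univ, ← Finset.prod_const, ← Finset.prod_mul_distrib]
    refine (Fintype.prod_equiv (MulAction.toPerm g) _ _ fun x => ?_).symm
    induction x using QuotientGroup.induction_on with | _ y => ?_
    change _ = F ((g * y : G) : G ⧸ (T : Subgroup G))
    rw [hF, hF]
    apply Subtype.ext
    change α g * g⁻¹ * (g * (α y * y⁻¹) * g⁻¹) = α (g * y) * (g * y)⁻¹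
    rw [map_mul]; group
  obtain ⟨n, hn⟩ := hp.exists_card_eq
  have h4 : (Nat.card Z).Coprime (T : Subgroup G).index :=
    hn ▸ ((Nat.Prime.coprime_iff_not_dvd Fact.out).2 T.not_dvd_index).pow_left n
  obtain ⟨z, hz⟩ := (powCoprime h4).surjective (∏ x, F x)
  refine ⟨z, fun g => ?_⟩
  have h5 : f g * MulAut.conjNormal g z = z := (powCoprime h4).injective (by
    rw [hz, h3 g, ← hz, powCoprime_apply, powCoprime_apply, mul_pow, map_pow])
  have h6 : α g * g⁻¹ * (g * z * g⁻¹) = z := congrArg Subtype.val h5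
  have h7 := (h2 g) z (centralizer_fstar_le z.2)
  calc α g = α g * g⁻¹ * (g * z * g⁻¹) * (g * (z : G)⁻¹) := by group
    _ = _ := by rw [h6, mul_assoc]

end Cfsg.Agent.S1941
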