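import Cfsg.Statements.S2799
import Cfsg.Agent.Lib.Glaub.FF

set_option autoImplicit false
open Cfsg

namespace Cfsg.Agent.S2799

open Cfsg.FusionSystem Cfsg.Lib.Fus2 Cfsg.Lib.Amalg Subgroup Cfsg.Lib Cfsg.Lib.Glaub Cfsg.Lib.Transfer

/-- Let S be a Sylow p-subgroup of the finite group G, J(S) the subgroup generated by the abelian subgroups of S of largest order, and x an element of S lying in the centre of N_G(J(S)). Assume that p is odd, or that x is a p-th power of an element of Z(S), or that the symmetric group of degree 4 is not involved in G. Then x is weakly closed in S with respect to G: every G-conjugate of x that lies in S equals x. -/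
theorem result {G : Type*} [Group G] [Finite G] {p : ℕ} [Fact p.Prime] (S : Sylow p G) (x : G) (hxS : x ∈ (S : Subgroup G)) (hxZ : x ∈ (Subgroup.center ↥(Subgroup.normalizer ((Cfsg.thompsonSubgroupAOf (S : Subgroup G)) : Set G))).map (Subgroup.normalizer ((Cfsg.thompsonSubgroupAOf (S : Subgroup G)) : Set G)).subtype) (h : p ≠ 2 ∨ (∃ z ∈ (S : Subgroup G) ⊓ Subgroup.centralizer ((S : Subgroup G) : Set G), z ^ p = x) ∨ ¬ Cfsg.Involves (Equiv.Perm (Fin 4)) G) : ∀ g : G, g * x * g⁻¹ ∈ (S : Subgroup G) → g * x * g⁻¹ = x := by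
  rw [Core.map_subtype_center, thompsonAOf_eq] at hxZ
  intro g hg
  have a := le_cent_symm (zpowers_le.2 hxZ.2)
  have b : cj g (zpowers x) ≤ S := cj_zpowers g x ▸ zpowers_le.2 hg
  have : g ∈ 𝐂 (zpowers x) := by
    by_cases c : ∃ z ∈ (S : Subgroup G) ⊓ 𝐂 (S : Subgroup G), z ^ p = x
    · obtain ⟨z, hz, rfl⟩ := c
      exact mem_of_quad cf_jA (fun _ _ => center_le_jA) (fun _ _ => jA_quad) (syl_top S)
        (zpowers_le.2 (PGrp.pow_mem_powerClosure_one hz)) le_rfl (cent_le_norm _) a b
    exact mem_cent_of_jA (h.imp_right (·.resolve_left c)) (syl_top S) (zpowers_le.2 ⟨hxS, centralizer_le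
      (le_normalizer_thompsonOf _) hxZ.2⟩) a b
  rw [← this x (mem_zpowers x), mul_inv_cancel_right]

end Cfsg.Agent.S2799
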