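import Cfsg.Statements.S1945
import Cfsg.Agent.Lib.Layer.WSplit
import Cfsg.Agent.S2799

set_option autoImplicit false
open Cfsg

namespace Cfsg.Agent.S1945

open Subgroup Cfsg.Lib.Core Cfsg.Lib.Amalg Cfsg.Lib.BG1 Cfsg.Lib.Layer

/-- Let S be a Sylow p-subgroup of the finite group G, and assume that p is odd or that G is solvable. The elements of S each of which is its only G-conjugate in S form a subgroup W of Z(S); W is then a direct factor of Z(S): there is a subgroup K of Z(S) with W ∩ K = 1 and WK = Z(S). (For p = 2 and G not solvable this can fail.) -/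
theorem result {G : Type*} [Group G] [Finite G] {p : ℕ} [Fact p.Prime] (S : Sylow p G) (h : p ≠ 2 ∨ Group.IsSolvable G) :
    ∃ W K : Subgroup G, (∀ x : G, x ∈ W ↔ (x ∈ (S : Subgroup G) ∧ ∀ g : G, g * x * g⁻¹ ∈ (S : Subgroup G) → g * x * g⁻¹ = x)) ∧
      K ≤ ((S : Subgroup G) ⊓ Subgroup.centralizer ((S : Subgroup G) : Set G)) ∧ W ⊓ K = ⊥ ∧ W ⊔ K = ((S : Subgroup G) ⊓ Subgroup.centralizer ((S : Subgroup G) : Set G)) := by
  rcases h with h | h
  · refine wc_split (syl_top S) (Q := thompsonSubgroupOf 0 (S : Subgroup G)) (Lib.Transfer.thompsonOf_le _)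
      (Lib.Transfer.le_normalizer_thompsonOf _) Lib.Glaub.center_le_jA fun x hx => ?_
    refine S2799.result S x (Lib.Transfer.thompsonOf_le _ hx.1) ?_ (.inl h)
    rw [Lib.Core.map_subtype_center, Lib.Glaub.thompsonAOf_eq]
    exact ⟨le_normalizer hx.1, hx.2⟩
  · have hT : Syl p ((S : Subgroup G) ⊓ pPrimePCoreOf p ⊤) (pPrimePCoreOf p ⊤) :=
      (syl_top S).inf_normal le_top (le_norm_pPrimePCoreOf_self p _)
    exact wc_split_of_le (syl_top S) (le_trans (le_inf le_top (inf_le_right.trans
      (centralizer_le inf_le_left))) (solvable_p_constrained inferInstance hT))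

end Cfsg.Agent.S1945
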