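import Cfsg.Statements.S1946
import Cfsg.Agent.Lib.Layer.Small

set_option autoImplicit false
open Cfsg

namespace Cfsg.Agent.S1946

open Subgroup Cfsg.Lib.Core Cfsg.Lib.Amalg Cfsg.Lib.BG1 Cfsg.Lib.Layer

/-- Let P be a Sylow p-subgroup of the finite group G. Then G has a normal p-complement if and only if P controls the fusion of its elements of order dividing p (dividing 4 when p = 2): whenever such an element a of P has a G-conjugate g a g⁻¹ in P, that conjugate is already x a x⁻¹ for some x in P. -/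
theorem result {G : Type*} [Group G] [Finite G] {p : ℕ} [Fact p.Prime] (P : Sylow p G) :
    Cfsg.HasNormalPComplement p G ↔
      ∀ a ∈ (P : Subgroup G), (a ^ p = 1 ∨ (p = 2 ∧ a ^ 4 = 1)) → ∀ g : G, g * a * g⁻¹ ∈ (P : Subgroup G) →
        ∃ x ∈ (P : Subgroup G), g * a * g⁻¹ = x * a * x⁻¹ := by
  rw [Lib.Transfer.hasNormalPComplement_iff_top]
  refine ⟨fun h a ha _ g hg => ?_, fun h => ?_⟩
  · obtain ⟨v, hv, e⟩ := h.exists_conj_eq (Lib.Transfer.sylowIn_top P) (mem_top g)
    exact ⟨v, hv, (e a ha hg).symm⟩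
  rw [(Lib.Transfer.sylowIn_top P).pnil_iff_forall]
  intro Q hQ g _ hg hcop
  haveI : Group.IsNilpotent (P : Subgroup G) := P.isPGroup'.isNilpotent
  obtain ⟨n, hn⟩ := Group.IsNilpotent.nilpotent (P : Subgroup G)
  refine cent_of_series (P.isPGroup'.to_le hQ) hg hcop
    (fun i => (Subgroup.upperCentralSeries (P : Subgroup G) i).map (P : Subgroup G).subtype)
    (by simp) n (fun a haQ _ => ⟨⟨a, hQ haQ⟩, by rw [hn]; exact mem_top _, rfl⟩) fun i a haQ hs ha => ?_
  obtain ⟨x, hx, e⟩ := h a (hQ haQ) hs g (hQ ((mem_normalizer_iff.1 hg a).1 haQ))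
  obtain ⟨a', ha', rfl⟩ := ha
  have := (Subgroup.mem_upperCentralSeries_succ_iff.1 ha') ⟨x, hx⟩
  refine ⟨_, (Subgroup.upperCentralSeries _ i).inv_mem this, ?_⟩
  rw [e]
  simp [commutatorElement_def, mul_assoc]

end Cfsg.Agent.S1946
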