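import Cfsg.Statements.S1947
import Cfsg.Agent.Lib.Layer.Small

set_option autoImplicit false
open Cfsg

namespace Cfsg.Agent.S1947

open Subgroup Cfsg.Lib.Core Cfsg.Lib.Amalg Cfsg.Lib.BG1 Cfsg.Lib.Layer

/-- Let G be a finite group and p a prime. If every element of G of order dividing p (dividing 4 when p = 2) lies in some fixed term Z_n(G) of the upper central series, then G has a normal p-complement. -/
theorem result {G : Type*} [Group G] [Finite G] {p : ℕ} [Fact p.Prime] (n : ℕ)
    (h : ∀ a : G, (a ^ p = 1 ∨ (p = 2 ∧ a ^ 4 = 1)) → a ∈ Subgroup.upperCentralSeries G n) : Cfsg.HasNormalPComplement p G := by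
  obtain ⟨P⟩ : Nonempty (Sylow p G) := inferInstance
  rw [Lib.Transfer.hasNormalPComplement_iff_top, (Lib.Transfer.sylowIn_top P).pnil_iff_forall]
  intro Q hQ g _ hg hcop
  refine cent_of_series (P.isPGroup'.to_le hQ) hg hcop (Subgroup.upperCentralSeries G)
    (Subgroup.upperCentralSeries_zero G) n (fun a _ ha => h a ha) fun i a _ _ ha => ?_
  have := (Subgroup.mem_upperCentralSeries_succ_iff.1 ha) g
  have h2 := (Subgroup.upperCentralSeries G i).inv_mem this
  simpa [commutatorElement_def, mul_assoc] using h2

end Cfsg.Agent.S1947
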