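import Cfsg.Statements.S1948
import Cfsg.Agent.Lib.Layer.Bender
import Cfsg.Agent.Lib.Core.UpperP

set_option autoImplicit false
open Cfsg

namespace Cfsg.Agent.S1948

open Subgroup Cfsg.Lib.Core Cfsg.Lib.Amalg Cfsg.Lib.BG1 Cfsg.Lib.Layer

/-- Let S be a Sylow p-subgroup of the finite group G. Then G = N_G(S)·O_{p'}(G) if and only if G is p-constrained and N_G(S) controls fusion in S, in the sense that whenever a subgroup Q of S has a conjugate g Q g⁻¹ inside S, the element g is a product n c with n normalizing S and c centralizing Q. -/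
theorem result {G : Type*} [Group G] [Finite G] {p : ℕ} [Fact p.Prime] (S : Sylow p G) :
    Subgroup.normalizer ((S : Subgroup G) : Set G) ⊔ Cfsg.pPrimeCore p G = ⊤ ↔
      (Cfsg.IsPConstrained p G ∧
        ∀ Q : Subgroup G, Q ≤ (S : Subgroup G) → ∀ g : G, Q.map (MulAut.conj g).toMonoidHom ≤ (S : Subgroup G) →
          ∃ n ∈ Subgroup.normalizer ((S : Subgroup G) : Set G), ∃ c ∈ Subgroup.centralizer (Q : Set G), g = n * c) := by
  haveI := pPrimePCore_normal p G
  have hp : Fact p.Prime := inferInstance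
  constructor
  · intro h
    have hn : (pPrimeCore p G ⊔ (S : Subgroup G)).Normal := normal_of_top_le_normalizer (h ▸ sup_le
      (le_normalizer_sup le_normalizer_of_normal' le_rfl) (le_normalizer_of_le le_sup_left))
    refine ⟨isPConstrained_of_isPSolvable (isPSolvable_of_pLengthLE hp.out ((pLengthLE_one_iff_normal S).2 hn)),
      fun Q hQ g hg => ?_⟩
    obtain ⟨n, hn, d, hd, rfl⟩ := (mem_sup_of_le_normalizer le_normalizer_of_normal').1 (h ▸ mem_top g)
    refine ⟨n, hn, d, fun x hx => ?_, rfl⟩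
    have h1 : d * x * d⁻¹ ∈ (S : Subgroup G) := by
      have := conj_inv_mem_of_mem_normalizer hn (hg (conj_mem_cj (n * d) hx))
      simpa [mul_assoc] using this
    have h2 : d * x * d⁻¹ * x⁻¹ ∈ (S : Subgroup G) ⊓ pPrimeCore p G := mem_inf.2 ⟨mul_mem h1 (inv_mem (hQ hx)), by
      have := mul_mem hd (Normal.conj_mem inferInstance _ (inv_mem hd) x)
      simpa [mul_assoc] using this⟩
    rw [inf_eq_bot_of_isPGroup_of_not_dvd hp.out S.isPGroup' ((Nat.Prime.coprime_iff_not_dvd hp.out).1
      (coprime_card_pPrimeCore p G).symm), mem_bot] at h2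
    calc x * d = x * d := rfl
      _ = (d * x * d⁻¹ * x⁻¹) * x * d := by rw [h2, one_mul]
      _ = d * x := by group
  · rintro ⟨h1, h2⟩
    refine top_le_iff.1 ((pPrimeCore_sup_normalizer_sylow_inf S).ge.trans (sup_le le_sup_right fun g hg => ?_))
    obtain ⟨n, hn, c, hc, rfl⟩ := h2 _ inf_le_left g ((cj_of_mem_normalizer hg).le.trans inf_le_left)
    exact mul_mem (mem_sup_left hn) ((sup_le le_sup_right ((inf_le_left.trans le_normalizer).trans le_sup_left) :
      _ ≤ 𝐍((S : Subgroup G)) ⊔ pPrimeCore p G) ((pPrimeCore_sup_sylow_inf S).ge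
        (IsPConstrained.centralizer_sylow_inf_le h1 S hc)))

end Cfsg.Agent.S1948
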