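import Cfsg.Statements.S1949
import Cfsg.Agent.Lib.Layer.Small
import Cfsg.Agent.Lib.PGrp.Critical
import Cfsg.Agent.Lib.Coprime.ActionForm

set_option autoImplicit false
open Cfsg

namespace Cfsg.Agent.S1949

open Subgroup Cfsg.Lib.Core Cfsg.Lib.Amalg Cfsg.Lib.BG1 Cfsg.Lib.Layer
open scoped commutatorElement

/-- Let P be a finite p-group and G a group of automorphisms of P containing the inner automorphisms. Then there is a G-invariant subgroup D of P, contained in the subgroup generated by the elements x⁻¹α(x) with x in P and α in O^p(G), of exponent dividing p when p is odd and dividing 4 when p = 2, with [D, P] ≤ Z(D), such that every automorphism in G of order prime to p that fixes D elementwise is the identity; moreover every maximal abelian subgroup A of D is normal in P and every automorphism in G fixing A elementwise has p-power order. -/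
theorem result {P : Type*} [Group P] [Finite P] {p : ℕ} [Fact p.Prime] (hP : IsPGroup p P)
    (G : Subgroup (MulAut P)) (hG : Cfsg.Inn P ≤ G) :
    ∃ D : Subgroup P,
      (∀ α ∈ G, D.map α.toMonoidHom = D) ∧
      D ≤ Subgroup.closure {y : P | ∃ α ∈ Cfsg.pResidual p ↥G, ∃ x : P, y = x⁻¹ * (α : MulAut P) x} ∧
      (∀ d ∈ D, d ^ p = 1 ∨ (p = 2 ∧ d ^ 4 = 1)) ∧
      ⁅D, (⊤ : Subgroup P)⁆ ≤ D ⊓ Subgroup.centralizer (D : Set P) ∧
      (∀ α ∈ G, (orderOf α).Coprime p → (∀ d ∈ D, α d = d) → α = 1) ∧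
      ∀ A : Subgroup P, A ≤ D → IsMulCommutative ↥A →
        (∀ B : Subgroup P, A ≤ B → B ≤ D → IsMulCommutative ↥B → B = A) →
        A.Normal ∧ ∀ α ∈ G, (∀ a ∈ A, α a = a) → ∃ k : ℕ, orderOf α = p ^ k := by
  classical
  have hp : p.Prime := Fact.out
  obtain ⟨C, hCc, hCp, hCz, hCC⟩ := Lib.PGrp.exists_critical hP
  set K := Subgroup.closure {y : P | ∃ α ∈ pResidual p ↥G, ∃ x : P, y = x⁻¹ * (α : MulAut P) x} with hK
  have hKG : ∀ α ∈ G, ∀ x ∈ K, α x ∈ K := by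
    intro α hα x hx
    have : K ≤ K.comap α.toMonoidHom := by
      rw [hK, closure_le]
      rintro _ ⟨β, hβ, y, rfl⟩
      refine subset_closure ⟨⟨α, hα⟩ * β * ⟨α, hα⟩⁻¹, Lib.Transfer.pResidual_normal.conj_mem _ hβ _, α y, ?_⟩
      simp
    exact this hx
  obtain ⟨e, he, he1, he2⟩ : ∃ e : ℕ, p ∣ e.choose 2 ∧ (p ≠ 2 → e = p) ∧ (p = 2 → e = 4) := by
    by_cases h2 : p = 2
    · exact ⟨4, by rw [h2]; decide, fun h => absurd h2 h, fun _ => rfl⟩
    · exact ⟨p, Lib.PGrp.dvd_choose_two_of_odd (hp.odd_of_ne_two h2), fun _ => rfl, fun h => absurd h h2⟩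
  have hcz : ∀ x ∈ C, ∀ y : P, ⁅x, y⁆ ∈ C ⊓ 𝐂 C := fun x hx y => hCz (commutator_mem_commutator hx (mem_top y))
  have hcp : ∀ x ∈ C, ∀ y ∈ C, ⁅x, y⁆ ^ p = 1 := fun x hx y hy => by
    rw [← Lib.PGrp.commutator_pow_left ((hcz x hx y).2 x hx).symm, commutatorElement_eq_one_iff_mul_comm]
    exact (hCp x hx y hy).symm
  let D : Subgroup P :=
    { carrier := {x | x ∈ C ⊓ K ∧ x ^ e = 1}
      one_mem' := ⟨one_mem _, one_pow _⟩
      inv_mem' := fun h => ⟨inv_mem h.1, by rw [inv_pow, h.2, inv_one]⟩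
      mul_mem' := fun {x y} hx hy => ⟨mul_mem hx.1 hy.1, by
        obtain ⟨k, hk⟩ := he
        rw [Lib.PGrp.mul_pow_eq_of_commute ((hcz y hy.1.1 x).2 x hx.1.1).symm ((hcz y hy.1.1 x).2 y hy.1.1).symm,
          hx.2, hy.2, hk, pow_mul, hcp y hy.1.1 x hx.1.1]; simp⟩ }
  have hCKG : ∀ α ∈ G, ∀ x ∈ C ⊓ K, α x ∈ C ⊓ K := fun α hα x hx =>
    ⟨Lib.PGrp.apply_mem_of_characteristic α hx.1, hKG α hα x hx.2⟩
  have hDG : ∀ α ∈ G, ∀ x ∈ D, α x ∈ D := fun α hα x hx =>
    ⟨hCKG α hα x hx.1, by rw [← map_pow, hx.2, map_one]⟩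
  have hDn : D.Normal := ⟨fun x hx g => hDG (MulAut.conj g) (hG ⟨g, rfl⟩) x hx⟩
  have hDC : D ≤ C := fun x hx => hx.1.1
  have hDz : ⁅D, (⊤ : Subgroup P)⁆ ≤ D ⊓ 𝐂 D :=
    le_inf (commutator_le_left _ _) ((commutator_mono hDC le_rfl).trans (hCz.trans
      (inf_le_right.trans (centralizer_le hDC))))
  have hcard : ∀ (α : MulAut P) (X : Subgroup P), (orderOf α).Coprime p → (orderOf α).Coprime (Nat.card X) :=
    fun α X h => (coprime_card_of_isPGroup hp (hP.to_subgroup X) h).symm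
  have hz : ∀ α ∈ G, ∀ b ∈ zpowers α, b ∈ G := fun α hα b hb => zpowers_le.2 hα hb
  have hdet : ∀ α ∈ G, (orderOf α).Coprime p → (∀ d ∈ D, α d = d) → α = 1 := by
    intro α hα hc h
    have hfix : ∀ x ∈ D, ∀ b ∈ zpowers α, MonoidHom.id (MulAut P) b x = x := fun x hx =>
      (Lib.Coprime.mem_actFix_zpowers (φ := MonoidHom.id (MulAut P))).2 (h x hx)
    have h1 : ∀ b ∈ zpowers α, ∀ x ∈ C ⊓ K, MonoidHom.id (MulAut P) b x = x := by
      by_cases h2 : p = 2
      · have h4 := he2 h2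
        subst h2
        exact Lib.Coprime.act_trivial_of_omega_two (hP.to_subgroup _) (fun b hb => hCKG b (hz α hα b hb))
          (by rwa [Nat.card_zpowers]) fun x hx hx4 => hfix x ⟨hx, h4 ▸ hx4⟩
      · have h4 := he1 h2
        exact Lib.Coprime.act_trivial_of_omega_one h2 (hP.to_subgroup _) (fun b hb => hCKG b (hz α hα b hb))
          (by rwa [Nat.card_zpowers]) fun x hx hx4 => hfix x ⟨hx, h4 ▸ hx4⟩
    have h2 := Lib.Coprime.act_trivial_of_sub_and_quotient (φ := MonoidHom.id (MulAut P)) (B := zpowers α)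
      (H := C) (by rw [Nat.card_zpowers]; exact hcard α _ hc) inf_le_left h1 fun x hx b hb =>
        ⟨C.mul_mem (C.inv_mem hx) (Lib.PGrp.apply_mem_of_characteristic b hx),
          subset_closure ⟨⟨b, hz α hα b hb⟩, subset_closure (by
            change (orderOf (⟨b, hz α hα b hb⟩ : G)).Coprime p
            rw [← Subgroup.orderOf_coe]
            exact Nat.Coprime.coprime_dvd_left (orderOf_dvd_of_mem_zpowers hb) hc), x, rfl⟩⟩
    exact Lib.Coprime.aut_eq_one_of_normal_selfCentralizing C hCC (hcard α _ hc) (h2 α (mem_zpowers α))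
  refine ⟨D, fun α hα => le_antisymm ?_ fun x hx => ⟨α⁻¹ x, hDG _ (G.inv_mem hα) x hx, by simp⟩,
    fun x hx => hx.1.2, fun d hd => ?_, hDz, hdet, fun A hAD hA hmax => ?_⟩
  · rintro _ ⟨x, hx, rfl⟩; exact hDG α hα x hx
  · by_cases h2 : p = 2
    · exact Or.inr ⟨h2, he2 h2 ▸ hd.2⟩
    · exact Or.inl (he1 h2 ▸ hd.2)
  have hCA : D ⊓ 𝐂 A ≤ A := by
    intro d hd
    have := hmax (A ⊔ zpowers d) le_sup_left (sup_le hAD (zpowers_le.2 hd.1))
      (Lib.PGrp.isMulCommutative_sup hA inferInstance (zpowers_le.2 hd.2))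
    exact this ▸ mem_sup_right (mem_zpowers d)
  have hAn : A.Normal := ⟨fun x hx g => by
    have h1 : ⁅x, g⁆⁻¹ ∈ A := inv_mem (hCA (inf_le_inf_left _ (centralizer_le hAD)
      (hDz (commutator_mem_commutator (hAD hx) (mem_top g)))))
    have := mul_mem h1 hx
    simpa [commutatorElement_def, mul_assoc] using this⟩
  refine ⟨hAn, fun α hα h => ?_⟩
  obtain ⟨k, hk⟩ := Lib.Transfer.exists_pow_coprime_orderOf (p := p) α
  have hβ : α ^ p ^ k ∈ G := G.pow_mem hα _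
  have hfix : ∀ b ∈ zpowers (α ^ p ^ k), ∀ x ∈ A, MonoidHom.id (MulAut P) b x = x := fun b hb x hx =>
    (Lib.Coprime.mem_actFix_zpowers (φ := MonoidHom.id (MulAut P))).2 (h x hx) b
      (zpowers_le.2 (pow_mem (mem_zpowers α) _) hb)
  have h1 := Lib.Coprime.actComm_le_centralizer (φ := MonoidHom.id (MulAut P)) (H := D) le_normalizer_of_normal hfix
  have h2 := Lib.Coprime.act_trivial_of_sub_and_quotient (φ := MonoidHom.id (MulAut P)) (H := D)
    (by rw [Nat.card_zpowers]; exact hcard _ _ hk) hAD hfix fun x hx b hb =>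
      hCA ⟨D.mul_mem (D.inv_mem hx) (hDG b (hz _ hβ b hb) x hx), h1 (subset_closure ⟨x, hx, b, hb, rfl⟩)⟩
  have h3 := hdet _ hβ hk (h2 _ (mem_zpowers _))
  obtain ⟨j, -, hj⟩ := (Nat.dvd_prime_pow hp).1 (orderOf_dvd_of_pow_eq_one h3)
  exact ⟨j, hj⟩

end Cfsg.Agent.S1949
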