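import Cfsg.Statements.S1950
import Cfsg.Agent.Lib.ZD.G2
import Cfsg.Agent.Lib.Coprime.CycSyl
import Cfsg.Agent.Lib.Block.BSBig

set_option autoImplicit false
open Cfsg

namespace Cfsg.Agent.S1950
open Cfsg.Lib.Invol

open Subgroup Cfsg.Lib Cfsg.Lib.GSz Cfsg.Lib.Transfer Cfsg.Lib.Core Cfsg.Lib.Block Cfsg.Lib.Block2

/-- Let G be a finite group whose Sylow p-subgroups are cyclic. Then G is p-solvable if and only if every two elements of order p of G generate a p-solvable subgroup. -/
theorem result {G : Type*} [Group G] [Finite G] {p : ℕ} [Fact p.Prime] (P : Sylow p G) (hP : IsCyclic ↥(P : Subgroup G)) :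
    Cfsg.IsPSolvable p G ↔ ∀ x y : G, orderOf x = p → orderOf y = p → Cfsg.IsPSolvable p ↥(Subgroup.closure ({x, y} : Set G)) := by
  have hp : p.Prime := Fact.out
  refine ⟨fun h x y _ _ => isPSolvable_subgroup hp h _, fun hc => ?_⟩
  by_cases h2 : p = 2
  · subst h2
    exact Coprime.isPSolvable_of_pnil_top (pnil_two_of_isCyclic (sylowIn_top P) hP)
  let π := QuotientGroup.mk' (pPrimeCore p G)
  have hπ : Function.Surjective π := QuotientGroup.mk'_surjective _
  have hR : SylowIn p ((P : Subgroup G).map π) ⊤ := map_top_of_surjective π hπ ▸ (sylowIn_top P).map π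
  have hR2 := PGrp.isCyclic_map π hP
  refine isPSolvable_of_normal_of_quotient hp _ (isPSolvable_of_coprime hp (coprime_card_pPrimeCore p G)) ?_
  by_cases h0 : (P : Subgroup G).map π = ⊥
  · exact Coprime.isPSolvable_of_pnil_top (hR.pnil_of_normalizer_le_centralizer fun x _ y hy => by rw [h0] at hy; rw [mem_bot.mp hy, mul_one, one_mul])
  have lift : ∀ x, orderOf x = p → ∃ u, π u = x ∧ orderOf u = p := fun x hx => by
    obtain ⟨g, rfl⟩ := hπ x
    obtain ⟨u, hu⟩ := exists_isPPart hp g
    have h1 := (hu.map hp π).unique hp (isPPart_self hp ⟨1, hx.trans (pow_one p).symm⟩)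
    obtain ⟨i, hi⟩ := hu.orderOf_eq
    haveI : Fact p.Prime := ⟨hp⟩
    refine ⟨u, h1, orderOf_eq_prime (mem_bot.mp (inf_eq_bot_of_isPGroup_of_coprime hp (isPGroup_zpowers_of_orderOf hi)
      (coprime_card_pPrimeCore p G) ▸ ⟨npow_mem_zpowers u p, (QuotientGroup.eq_one_iff _).mp ?_⟩)) fun e => ?_⟩
    · exact (map_pow π u p).trans (by rw [h1]; exact orderOf_dvd_iff_pow_eq_one.mp hx.dvd)
    · exact hp.one_lt.ne (by rw [← hx, ← h1, e, map_one, orderOf_one])
  haveI := PGrp.isMulCommutative_of_isCyclic hR2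
  have h := gs_of hR h0 (fun x _ g hg => le_centralizer _ hg) (fun x hx ho => Coprime.pnil_of_isCyclic_of_cent
    (hR.mono (fun y hy => Invol.mem_cent.mpr (le_centralizer _ hx y hy)) le_top) hR2 hx
    (fun e => hp.one_lt.ne (by rw [← ho, e, orderOf_one])) le_rfl) fun x y hx hy => by
      obtain ⟨u, rfl, hu⟩ := lift x hx
      obtain ⟨v, rfl, hv⟩ := lift y hy
      have := isPSolvable_map hp (hc u v hu hv) π
      rwa [MonoidHom.map_closure, Set.image_pair] at this
  haveI := GS.normal h2 _ rfl h pPrimeCore_quotient_pPrimeCore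
  exact Coprime.isPSolvable_of_isCyclic_of_normal hR hR2 _ le_rfl h0

end Cfsg.Agent.S1950
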