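import Cfsg.Statements.S1951
import Cfsg.Agent.Lib.ZD.G2

set_option autoImplicit false
open Cfsg

namespace Cfsg.Agent.S1951

open Subgroup Cfsg.Lib Cfsg.Lib.GSz Cfsg.Lib.Transfer Cfsg.Lib.Core

/-- Let p be a prime and P a nontrivial elementary abelian Sylow p-subgroup of a finite nonabelian simple group G whose nonidentity elements are all conjugate in G. Suppose that two elements of P are conjugate in G only if they are conjugate in N_G(P), that the centralizer of every element of order p of P has a normal p-complement, and that every two elements of order p of G generate a p-solvable subgroup. Then p = 2. -/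
theorem result {G : Type*} [Group G] [Finite G] [IsSimpleGroup G] (hG : ¬ IsMulCommutative G) {p : ℕ} [Fact p.Prime] (P : Sylow p G)
    (hP1 : (P : Subgroup G) ≠ ⊥) (hPe : Cfsg.IsElementaryAbelian p (P : Subgroup G))
    (hconj : ∀ x ∈ (P : Subgroup G), ∀ y ∈ (P : Subgroup G), x ≠ 1 → y ≠ 1 → ∃ g : G, g * x * g⁻¹ = y)
    (ha : ∀ x ∈ (P : Subgroup G), ∀ y ∈ (P : Subgroup G), (∃ g : G, g * x * g⁻¹ = y) →
      ∃ n ∈ Subgroup.normalizer ((P : Subgroup G) : Set G), n * x * n⁻¹ = y)
    (hb : ∀ x ∈ (P : Subgroup G), orderOf x = p → Cfsg.HasNormalPComplement p ↥(Subgroup.centralizer ({x} : Set G)))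
    (hc : ∀ x y : G, orderOf x = p → orderOf y = p → Cfsg.IsPSolvable p ↥(Subgroup.closure ({x, y} : Set G))) :
    p = 2 := by
  by_contra h2
  haveI := hPe.1
  have h := gs_of (sylowIn_top P) hP1 (fun x _ g hg => le_centralizer (P : Subgroup G) hg)
    (fun x hx ho => hasNormalPComplement_iff.mp (hb x hx ho)) hc
  have h1 : ¬ (Nat.card G).Coprime p := fun e => hP1 (eq_bot_of_isPGroup_of_coprime Fact.out P.isPGroup'
    (e.coprime_dvd_left (card_subgroup_dvd_card _)))
  have hn := GS.normal h2 _ rfl h (((inferInstance : (pPrimeCore p G).Normal).eq_bot_or_eq_top).resolve_right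
    fun e => h1 (pPrimeCore_eq_top_iff.mp e))
  have h3 := hn.eq_bot_or_eq_top.resolve_left hP1
  exact hG ⟨⟨fun a b => le_centralizer (P : Subgroup G) (h3 ▸ mem_top b) a (h3 ▸ mem_top a)⟩⟩

end Cfsg.Agent.S1951
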