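import Cfsg.Statements.S1952
import Cfsg.Agent.Lib.Fus2.Yos

set_option autoImplicit false
open Cfsg

namespace Cfsg.Agent.S1952

open Cfsg.Lib.Fus2 Cfsg.Lib.Amalg Subgroup Cfsg.FusionSystem Cfsg.Lib

/-- Let P be a finite p-group with a normal elementary abelian subgroup A of index p, and let x ∈ A and y ∈ P with y outside A. If the product of the p conjugates y^(-i) x y^i (i = 0, …, p−1) is not the identity, then the wreath product Z_p ≀ Z_p, realised as a Sylow p-subgroup of the symmetric group of degree p², is a homomorphic image of P. -/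
theorem result {P : Type*} [Group P] [Finite P] {p : ℕ} [Fact p.Prime] (hP : IsPGroup p P) (A : Subgroup P) [A.Normal]
    (hA : Cfsg.IsElementaryAbelian p A) (hidx : A.index = p) (x y : P) (hx : x ∈ A) (hy : y ∉ A)
    (hprod : ((List.range p).map (fun i => (y ^ i)⁻¹ * x * y ^ i)).prod ≠ 1) :
    ∃ (Q : Sylow p (Equiv.Perm (Fin (p ^ 2)))) (f : P →* ↥(Q : Subgroup (Equiv.Perm (Fin (p ^ 2))))), Function.Surjective f := by
  have cm : ∀ i : ℕ, (y ^ i)⁻¹ * x * y ^ i ∈ A := fun i => (inferInstance : A.Normal).conj_mem' x hx _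
  have hz : ((List.range p).map (fun i => (y ^ i)⁻¹ * x * y ^ i)).prod ∈ A :=
    list_prod_mem (by simpa using fun i _ => cm i)
  have := hA.1
  have h1 : frattini A = ⊥ := Core.frattini_eq_bot_of_elementary Fact.out fun a : A => Subtype.ext (hA.2 a a.2)
  obtain ⟨M, hM, hzM⟩ : ∃ M : Subgroup A, IsCoatom M ∧ ⟨_, hz⟩ ∉ M := by
    by_contra hc
    push Not at hc
    have := Core.mem_frattini_iff.2 hc
    rw [h1, mem_bot] at this
    exact hprod (congrArg Subtype.val this)
  obtain ⟨θ, b1, b2⟩ := exists_hom_zmod (T := M.map A.subtype) (hP.to_subgroup A)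
    (lt_of_le_of_ne (map_subtype_le M) fun e => hzM (by
      obtain ⟨w, hw, e'⟩ : _ ∈ M.map A.subtype := e.symm ▸ hz
      exact (Subtype.ext e' : w = ⟨_, hz⟩) ▸ hw))
  refine exists_wreath hP hidx θ hx (y := y) fun e => hzM ?_
  rw [← ker_eq_of_coatom b1 hM fun y hy => (homFun_coe θ y).symm.trans (b2 y ⟨y, hy, rfl⟩), MonoidHom.mem_ker, ← e,
    ← homFun_of_mem]
  suffices ∀ n, homFun θ ((List.range n).map (fun i => (y ^ i)⁻¹ * x * y ^ i)).prod =
    ∏ i ∈ Finset.range n, homFun θ ((y ^ i)⁻¹ * x * y ^ i) from this p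
  intro n
  induction n with
  | zero => simpa using homFun_one θ
  | succ n ih =>
    rw [List.range_succ, List.map_append, List.prod_append, Finset.prod_range_succ, ← ih, List.map_singleton,
      List.prod_singleton, homFun_mul _ (list_prod_mem (by simpa using fun i _ => cm i)) (cm n)]

end Cfsg.Agent.S1952
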