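import Cfsg.Statements.S1953
import Cfsg.Agent.Lib.Glaub.PSt

set_option autoImplicit false
open Cfsg

namespace Cfsg.Agent.S1953

open Cfsg.FusionSystem Cfsg.Lib.Fus2 Cfsg.Lib.Amalg Subgroup Cfsg.Lib Cfsg.Lib.Glaub Cfsg.Lib.Transfer

open scoped MatrixGroups

variable {G : Type*} [Group G] [Finite G] {p : ℕ} [Fact p.Prime] {S Q X : Subgroup G}

omit [Finite G] [Fact p.Prime] in
theorem sec_of_inv {L : Type*} [Group L] (h : Involves L (𝐍 Q ⧸ (𝐂 Q).subgroupOf (𝐍 Q))) :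
    ∃ (H K : Subgroup G) (_ : (K.subgroupOf H).Normal), 𝐂 Q ≤ K ∧ K ≤ H ∧ H ≤ 𝐍 Q ∧
      Nonempty ((↥H ⧸ K.subgroupOf H) ≃* L) := by
  obtain ⟨K, f, hf⟩ := involves_iff.1 h
  set q := QuotientGroup.mk' ((𝐂 Q).subgroupOf (𝐍 Q))
  let r : BG1.mpre q K →* K := MonoidHom.codRestrict (q.comp (inclusion (BG1.mpre_le q K))) K fun x =>
    (BG1.mem_mpre_iff (BG1.mpre_le q K x.2)).1 x.2
  have hr : Function.Surjective r := fun y => by
    obtain ⟨x, hx⟩ := QuotientGroup.mk'_surjective _ y.1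
    exact ⟨⟨x.1, BG1.mem_mpre.2 ⟨x.2, by change q x ∈ K; rw [hx]; exact y.2⟩⟩, Subtype.ext hx⟩
  have e : (BG1.mker (f.comp r)).subgroupOf (BG1.mpre q K) = (f.comp r).ker := map_subtype_subgroupOf _
  have hn : ((BG1.mker (f.comp r)).subgroupOf (BG1.mpre q K)).Normal := by rw [e]; infer_instance
  refine ⟨_, _, hn, fun x hx => ?_, BG1.mker_le _, BG1.mpre_le _ _,
    ⟨(QuotientGroup.quotientMulEquivOfEq e).trans (QuotientGroup.quotientKerEquivOfSurjective _ (hf.comp hr))⟩⟩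
  have h1 : q ⟨x, cent_le_norm Q hx⟩ = 1 := (QuotientGroup.eq_one_iff _).2 hx
  have h2 : x ∈ BG1.mpre q K := BG1.mem_mpre.2 ⟨_, h1 ▸ one_mem K⟩
  refine BG1.mem_mker.2 ⟨h2, ?_⟩
  have : r ⟨x, h2⟩ = 1 := Subtype.ext h1
  rw [MonoidHom.comp_apply, this, map_one]

omit [Finite G] [Fact p.Prime] in
theorem aut_eq (K Q : Subgroup G) : autInducedBy K Q = BG1.mim (BG1.actHom Q) K := autInducedBy_eq_map K Q

theorem radical_iff (hS : IsPGroup p S) (hQ : Q ≤ S) : (groupFusionSystem S).IsRadical p Q ↔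
    ∀ X : Subgroup G, X ≤ 𝐍 Q → (∀ n ∈ 𝐍 Q, X.map (MulAut.conj n).toMonoidHom = X) → Q ⊔ 𝐂 Q ≤ X →
      (∃ k : ℕ, (Q ⊔ 𝐂 Q).relIndex X = p ^ k) → X = Q ⊔ 𝐂 Q := by
  have hp := hS.to_le hQ
  have e1 : autInducedBy ⊤ Q = BG1.mim (BG1.actHom Q) (𝐍 Q) := by
    rw [← autInducedBy_inf_normalizer, top_inf_eq, aut_eq]
  have e2 : BG1.mker (BG1.actHom Q) ⊔ Q = Q ⊔ 𝐂 Q := by rw [BG1.mker_actHom, sup_comm]
  have hpi := BG1.isPGroup_mim (BG1.actHom Q) hp
  have : Finite (MulAut Q) := inferInstance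
  change Q ≤ S ∧ pCoreOf p _ = _ ↔ _
  rw [autGroup_group hQ, e1, inn_eq_autInducedBy, aut_eq]
  refine ⟨fun ⟨_, h⟩ X h1 h2 h3 ⟨k, h4⟩ => le_antisymm ?_ h3, fun h => ⟨hQ, le_antisymm ?_ ?_⟩⟩
  · rw [← e2, ← BG1.mim_le_mim_iff h1 le_normalizer, ← h]
    refine le_op (BG1.mim_mono _ h1) (BG1.mim_norm _ fun n hn => Amalg.mem_normalizer_of_cj_le (h2 n hn).le) ?_
    rw [← e2, ← BG1.relIndex_mim le_normalizer h1] at h4
    obtain ⟨m, hm⟩ := IsPGroup.iff_card.1 hpi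
    refine IsPGroup.iff_card.2 ⟨k + m, ?_⟩
    rw [pow_add, ← h4, ← hm, ← Subgroup.relIndex_bot_left, ← Subgroup.relIndex_bot_left, mul_comm,
      Subgroup.relIndex_mul_relIndex _ _ _ bot_le (BG1.mim_mono _ (le_sup_left.trans h3))]
  · have a1 : pCoreOf p (BG1.mim (BG1.actHom Q) (𝐍 Q)) ≤ (BG1.actHom Q).range := (op_le _).trans (BG1.mim_le_range _ _)
    have a2 : BG1.mim (BG1.actHom Q) Q ≤ pCoreOf p (BG1.mim (BG1.actHom Q) (𝐍 Q)) :=
      le_op (BG1.mim_mono _ le_normalizer) (BG1.mim_norm _ le_rfl) hpi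
    have a3 : Q ⊔ 𝐂 Q ≤ BG1.mpre (BG1.actHom Q) (pCoreOf p (BG1.mim (BG1.actHom Q) (𝐍 Q))) := by
      rw [← e2, ← BG1.mpre_mim le_normalizer]; exact BG1.mpre_mono _ a2
    have := h _ (BG1.mpre_le _ _) (fun n hn => cj_eq_of_mem_normalizer
      (BG1.le_norm_mpre le_rfl (le_norm_op _) hn)) a3 (by
        rw [← e2, ← BG1.relIndex_mim le_normalizer (BG1.mpre_le _ _), BG1.mim_mpre a1]
        obtain ⟨m, hm⟩ := IsPGroup.iff_card.1 (op_isPGroup (p := p) (BG1.mim (BG1.actHom Q) (𝐍 Q)))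
        have : (BG1.mim (BG1.actHom Q) Q).relIndex (pCoreOf p (BG1.mim (BG1.actHom Q) (𝐍 Q))) ∣ p ^ m :=
          hm ▸ relIndex_dvd_card _ _
        obtain ⟨k, -, hk⟩ := (Nat.dvd_prime_pow Fact.out).1 this
        exact ⟨k, hk⟩)
    rw [← BG1.mim_mpre a1, this, ← e2, BG1.mim_mker_sup le_normalizer]
  · exact le_op (BG1.mim_mono _ le_normalizer) (BG1.mim_norm _ le_rfl) hpi

theorem centric_iff (hS : Syl p S ⊤) (hQ : Q ≤ S) : (groupFusionSystem S).IsCentric Q ↔ Syl p (Q ⊓ 𝐂 Q) (𝐂 Q) := by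
  refine ⟨fun h => ?_, fun h => ?_⟩
  · have := (isFullyCentralized_group_iff hS hQ).1 (fc_of_isCentric h)
    have e : S ⊓ 𝐂 Q = Q ⊓ 𝐂 Q :=
      le_antisymm (le_inf (centralizerIn_le_of_isCentric h) inf_le_right) (inf_le_inf_right _ hQ)
    rwa [e] at this
  · have e : S ⊓ 𝐂 Q = Q ⊓ 𝐂 Q :=
      (h.eq_of_le _ (inf_le_inf_right _ hQ) inf_le_right (hS.isPGroup.to_le inf_le_left))
    exact Fus.centric_of_fc ((isFullyCentralized_group_iff hS hQ).2 (e ▸ h)) (e.le.trans inf_le_left)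

/-- Let p be an odd prime and P a Sylow p-subgroup of the finite group G, and suppose that for no p-subgroup Q of G does N_G(Q)/C_G(Q) have a section isomorphic to SL₂(p). Call a subgroup Q of P centric-radical when Z(Q) is a Sylow p-subgroup of C_G(Q) and the only normal subgroup X of N_G(Q) containing Q·C_G(Q) such that the index of Q·C_G(Q) in X is a power of p is Q·C_G(Q) itself (that is, N_G(Q)/Q·C_G(Q) has no nontrivial normal p-subgroup). Then there is a centric-radical subgroup Q of P contained in every centric-radical subgroup of P; it is normal in P, and N_G(Q) controls strong fusion in P: whenever a subgroup A of P has g A g⁻¹ ≤ P, the element g is a product h c with h in N_G(Q) and c centralizing A. -/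
theorem result {G : Type*} [Group G] [Finite G] {p : ℕ} [Fact p.Prime] (hp : p ≠ 2) (P : Sylow p G)
    (hfree : ∀ Q : Subgroup G, IsPGroup p ↥Q → ¬ ∃ (H K : Subgroup G) (_ : (K.subgroupOf H).Normal),
      Subgroup.centralizer (Q : Set G) ≤ K ∧ K ≤ H ∧ H ≤ Subgroup.normalizer (Q : Set G) ∧
      Nonempty ((↥H ⧸ K.subgroupOf H) ≃* Matrix.SpecialLinearGroup (Fin 2) (ZMod p)))
    (cr : Subgroup G → Prop)
    (hcr : ∀ Q : Subgroup G, cr Q ↔ (Q ≤ (P : Subgroup G) ∧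
      (∃ R : Sylow p ↥(Subgroup.centralizer (Q : Set G)),
        (R : Subgroup ↥(Subgroup.centralizer (Q : Set G))).map (Subgroup.centralizer (Q : Set G)).subtype = Q ⊓ Subgroup.centralizer (Q : Set G)) ∧
      ∀ X : Subgroup G, X ≤ Subgroup.normalizer (Q : Set G) →
        (∀ n ∈ Subgroup.normalizer (Q : Set G), X.map (MulAut.conj n).toMonoidHom = X) →
        Q ⊔ Subgroup.centralizer (Q : Set G) ≤ X → (∃ k : ℕ, (Q ⊔ Subgroup.centralizer (Q : Set G)).relIndex X = p ^ k) →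
        X = Q ⊔ Subgroup.centralizer (Q : Set G))) :
    ∃ Q : Subgroup G, cr Q ∧ (∀ R : Subgroup G, cr R → Q ≤ R) ∧ (∀ x ∈ (P : Subgroup G), Q.map (MulAut.conj x).toMonoidHom = Q) ∧
      ∀ A : Subgroup G, A ≤ (P : Subgroup G) → ∀ g : G, A.map (MulAut.conj g).toMonoidHom ≤ (P : Subgroup G) →
        ∃ h ∈ Subgroup.normalizer (Q : Set G), ∃ c ∈ Subgroup.centralizer (A : Set G), g = h * c := by
  have hS := syl_top P
  have hF : Fus.Sat p (groupFusionSystem (P : Subgroup G)) := ⟨P.isPGroup', isSaturated_group P⟩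
  have hst : IsNormalizerPStable p G := isNormalizerPStable_iff.2 fun V hV a h1 h2 => by_contra fun h3 =>
    hfree V hV (sec_of_inv (involves_sl2_of_not_mem' hp hV le_rfl h1 h2 h3 (QuotientGroup.mk' _)
      ((mker_mk' _ _).le.trans inf_le_right)))
  have hc := isCentric_core (constrained_of_not_cfg hp hF ((cfg_true_group hp hS).2 hst))
  have hn := Fus.normal_core (groupFusionSystem (P : Subgroup G))
  have key : ∀ R, cr R ↔ (groupFusionSystem (P : Subgroup G)).IsCentric R ∧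
      (groupFusionSystem (P : Subgroup G)).IsRadical p R := fun R => by
    rw [hcr, ← syl_iff_exists_sylow]
    exact ⟨fun ⟨a, b, c⟩ => ⟨(centric_iff hS a).2 b, (radical_iff hS.isPGroup a).2 c⟩, fun ⟨b, c⟩ =>
      ⟨b.1, (centric_iff hS b.1).1 b, (radical_iff hS.isPGroup b.1).1 c⟩⟩
  refine ⟨_, (key _).2 ⟨hc, hF.radical_core hc⟩, fun R hR => normal_le_of_cr hS.isPGroup hn ((key R).1 hR).1
    ((key R).1 hR).2, fun x hx => cj_eq_of_mem_normalizer (le_normalizer_of_isNormal hn hx), fun A h1 g h2 => ?_⟩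
  obtain ⟨x, h3, h4⟩ := sf_singleton.1 (sf_of_isNormal hn) A g trivial h1 fun a ha => h2 ⟨a, ha, rfl⟩
  refine ⟨x, h3, x⁻¹ * g, mem_centralizer_iff.2 fun a ha => ?_, by group⟩
  have := h4 a ha
  calc a * (x⁻¹ * g) = x⁻¹ * (x * a * x⁻¹) * g := by group
    _ = x⁻¹ * g * a := by rw [this]; group

end Cfsg.Agent.S1953
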