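import Cfsg.Statements.S1954
import Cfsg.Agent.Lib.Layer.Small
import Cfsg.Agent.Lib.Amalg.Bridge
import Cfsg.Agent.Lib.PGrp.Critical

set_option autoImplicit false
open Cfsg

namespace Cfsg.Agent.S1954

open Subgroup Cfsg.Lib.Core Cfsg.Lib.Amalg Cfsg.Lib.BG1 Cfsg.Lib.Layer
open scoped commutatorElement

/-- Let N be a normal subgroup of the finite group G, P a Sylow p-subgroup of G, and V a subgroup of P ∩ N normal in P ∩ N such that N_N(V) controls strong fusion in P ∩ N with respect to N (whenever a subgroup A of P ∩ N has n A n⁻¹ ≤ P ∩ N for some n in N, then n = h c with h in N_N(V) and c in C_N(A)). Let W be the subgroup generated by the conjugates of V under N_G(P ∩ N). Then N_G(W) controls strong fusion in P with respect to G. -/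
theorem result {G : Type*} [Group G] [Finite G] {p : ℕ} [Fact p.Prime] (N : Subgroup G) [N.Normal] (P : Sylow p G) (V : Subgroup G)
    (hV : V ≤ (P : Subgroup G) ⊓ N) (hVn : ∀ x ∈ (P : Subgroup G) ⊓ N, V.map (MulAut.conj x).toMonoidHom = V)
    (hctrl : ∀ A : Subgroup G, A ≤ (P : Subgroup G) ⊓ N → ∀ n ∈ N, A.map (MulAut.conj n).toMonoidHom ≤ (P : Subgroup G) ⊓ N →
      ∃ h ∈ N ⊓ Subgroup.normalizer (V : Set G), ∃ c ∈ N ⊓ Subgroup.centralizer (A : Set G), n = h * c)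
    (W : Subgroup G) (hW : W = Subgroup.closure (⋃ x ∈ Subgroup.normalizer (((P : Subgroup G) ⊓ N : Subgroup G) : Set G),
      ((V.map (MulAut.conj x).toMonoidHom : Subgroup G) : Set G))) :
    ∀ A : Subgroup G, A ≤ (P : Subgroup G) → ∀ g : G, A.map (MulAut.conj g).toMonoidHom ≤ (P : Subgroup G) →
        ∃ h ∈ Subgroup.normalizer (W : Set G), ∃ c ∈ Subgroup.centralizer (A : Set G), g = h * c := by
  classical
  set T : Subgroup G := (P : Subgroup G) ⊓ N with hT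
  have hTs : Syl p T N := (syl_top P).inf_normal_top N
  have hWle : ∀ U : Subgroup G, W ≤ U ↔ ∀ x ∈ 𝐍 T, cj x V ≤ U := fun U => by
    rw [hW, closure_le]; simp only [Set.iUnion_subset_iff, SetLike.coe_subset_coe]
  have hVW := (hWle W).1 le_rfl
  have hWT : W ≤ T := (hWle T).2 fun x hx => cj_le_of_le_of_mem_normalizer hV hx
  have hTW : 𝐍 T ≤ 𝐍 W := fun y hy => mem_normalizer_of_cj_le (cj_le_iff.2 ((hWle _).2 fun x hx => by
    rw [← cj_le_iff, ← cj_mul]; exact hVW _ (mul_mem hy hx)))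
  have hPT : (P : Subgroup G) ≤ 𝐍 T := le_normalizer_inf le_normalizer le_normalizer_of_normal
  let Ctrl : Subgroup G → Prop := fun U => U ≤ W ∧ T ≤ 𝐍 U ∧ ∀ A ≤ T, ∀ n ∈ N, cj n A ≤ T →
    ∃ h ∈ N ⊓ 𝐍 U, ∃ c ∈ N ⊓ 𝐂 A, n = h * c
  have c1 : ∀ x ∈ 𝐍 T, Ctrl (cj x V) := by
    intro x hx
    refine ⟨hVW x hx, ?_, fun A hA n hn hA' => ?_⟩
    · rw [← cj_normalizer, le_cj_iff, cj_of_mem_normalizer (inv_mem hx)]
      exact fun y hy => cj_eq_self_iff.1 (hVn y hy)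
    · obtain ⟨h, hh, c, hc, e⟩ := hctrl (cj x⁻¹ A) (cj_le_of_le_of_mem_normalizer hA (inv_mem hx))
        (x⁻¹ * n * x) (by simpa using ‹N.Normal›.conj_mem n hn x⁻¹) (by
          rw [← cj_mul, mul_inv_cancel_right, cj_mul]; exact cj_le_of_le_of_mem_normalizer hA' (inv_mem hx))
      refine ⟨x * h * x⁻¹, ⟨‹N.Normal›.conj_mem _ hh.1 x, ?_⟩, x * c * x⁻¹, ⟨‹N.Normal›.conj_mem _ hc.1 x, ?_⟩, ?_⟩
      · rw [← cj_normalizer]; exact conj_mem_cj x hh.2
      · rw [← cj_cj_inv x A, ← cj_centralizer]; exact conj_mem_cj x hc.2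
      · calc n = x * (x⁻¹ * n * x) * x⁻¹ := by group
          _ = _ := by rw [e]; group
  have c2 : ∀ U U', Ctrl U → Ctrl U' → Ctrl (U ⊔ U') := by
    rintro U U' ⟨a1, a2, a3⟩ ⟨b1, b2, b3⟩
    refine ⟨sup_le a1 b1, le_normalizer_sup a2 b2, fun A hA n hn hA' => ?_⟩
    obtain ⟨h, hh, c, hc, rfl⟩ := a3 A hA n hn hA'
    rw [cj_mul, cj_of_mem_centralizer hc.2] at hA'
    obtain ⟨h', hh', c', hc', rfl⟩ := b3 (A ⊔ U) (sup_le hA (a1.trans hWT)) h hh.1 (by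
      rw [cj_sup, cj_of_mem_normalizer hh.2]; exact sup_le hA' (a1.trans hWT))
    have k1 : c' ∈ 𝐂 U := centralizer_le (SetLike.coe_subset_coe.2 (le_sup_right : U ≤ A ⊔ U)) hc'.2
    have k2 : c' ∈ 𝐂 A := centralizer_le (SetLike.coe_subset_coe.2 (le_sup_left : A ≤ A ⊔ U)) hc'.2
    have h1 : h' ∈ 𝐍 U := by
      have := (𝐍 U).mul_mem hh.2 (inv_mem (centralizer_le_normalizer _ k1))
      simpa using this
    refine ⟨h', ⟨hh'.1, cj_eq_self_iff.1 ?_⟩, c' * c,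
      ⟨mul_mem hc'.1 hc.1, (𝐂 A).mul_mem k2 hc.2⟩, mul_assoc _ _ _⟩
    rw [cj_sup, cj_of_mem_normalizer h1, cj_of_mem_normalizer hh'.2]
  have c3 : Ctrl W := by
    obtain ⟨U, hU, hmax⟩ := wellFounded_gt.has_min {U | Ctrl U} ⟨_, c1 1 (one_mem _)⟩
    have : W ≤ U := (hWle U).2 fun x hx => by
      by_contra hc
      exact hmax _ (c2 _ _ hU (c1 x hx)) (left_lt_sup.2 hc)
    exact le_antisymm hU.1 this ▸ hU
  have sc0 : ∀ Y ≤ W, 𝐍 W ≤ 𝐍 Y → ∀ a ∈ Y, ∀ g, g * a * g⁻¹ ∈ (P : Subgroup G) → g * a * g⁻¹ ∈ Y := by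
    intro Y hY hn a ha g hg
    obtain ⟨n, hnN, y, hy, rfl⟩ := hTs.frattini_mem (g := g) (le_normalizer_of_normal (mem_top g))
    have ha' : y * a * y⁻¹ ∈ Y := (mem_normalizer_iff.1 (hn (hTW hy)) a).1 ha
    have e : n * y * a * (n * y)⁻¹ = n * (y * a * y⁻¹) * n⁻¹ := by group
    rw [e] at hg ⊢
    obtain ⟨h, hh, c, hc, rfl⟩ := c3.2.2 (zpowers (y * a * y⁻¹)) (zpowers_le.2 (hWT (hY ha'))) n hnN (by
      rw [cj_zpowers, zpowers_le]; exact ⟨hg, ‹N.Normal›.conj_mem _ (hWT (hY ha')).2 n⟩)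
    have := hc.2 _ (mem_zpowers _)
    rw [show h * c * (y * a * y⁻¹) * (h * c)⁻¹ = h * (c * (y * a * y⁻¹) * c⁻¹) * h⁻¹ by group, ← this,
      mul_inv_cancel_right]
    exact (mem_normalizer_iff.1 (hn hh.2) _).1 ha'
  haveI : Group.IsNilpotent W := (hTs.isPGroup.to_le hWT).isNilpotent
  obtain ⟨c, hc⟩ := Group.IsNilpotent.nilpotent W
  let Y : ℕ → Subgroup G := fun i => if i ≤ c then (Subgroup.upperCentralSeries W i).map W.subtype else ⊤
  have hYc : Y c = W := by simp [Y, hc, ← MonoidHom.range_eq_map]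
  have sc : ∀ i, ∀ a ∈ Y i, ∀ g, g * a * g⁻¹ ∈ (P : Subgroup G) → g * a * g⁻¹ ∈ Y i := by
    intro i
    by_cases hi : i ≤ c
    · simp only [Y, if_pos hi]
      exact sc0 _ (map_subtype_le _) (Lib.PGrp.normalizer_le_normalizer_map_subtype _)
    · simp [Y, if_neg hi]
  have step : ∀ i, ∀ w ∈ W, ∀ a ∈ (P : Subgroup G), a ∈ Y (i + 1) → w * a * w⁻¹ * a⁻¹ ∈ Y i := by
    intro i w hw a haP ha
    rcases lt_trichotomy i c with hi | rfl | hi
    · simp only [Y, if_pos hi.le, if_pos (Nat.succ_le_of_lt hi)] at ha ⊢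
      obtain ⟨a', ha', rfl⟩ := ha
      have := (Subgroup.mem_upperCentralSeries_succ_iff.1 ha') ⟨w, hw⟩
      exact ⟨_, (Subgroup.upperCentralSeries _ i).inv_mem this, by simp [commutatorElement_def, mul_assoc]⟩
    · rw [hYc]
      have := W.mul_mem hw ((mem_normalizer_iff.1 (hTW (hPT haP)) _).1 (W.inv_mem hw))
      simpa [mul_assoc] using this
    · simp [Y, if_neg (not_le.2 hi)]
  have main := (Lib.Transfer.sylowIn_top P).alperin_induction
    (fun D g => ∃ v ∈ 𝐍 W, ∀ x ∈ D, v * x * v⁻¹ = g * x * g⁻¹)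
    (fun D E g ⟨v, hv, h⟩ hE => ⟨v, hv, fun x hx => h x (hE hx)⟩)
    (fun D g h _ _ ⟨v, hv, h1⟩ ⟨v', hv', h2⟩ => ⟨v' * v, mul_mem hv' hv, fun x hx => by
      calc v' * v * x * (v' * v)⁻¹ = v' * (v * x * v⁻¹) * v'⁻¹ := by group
        _ = h * (g * x * g⁻¹) * h⁻¹ := by rw [h1 x hx, h2 _ (conj_mem_cj g hx)]
        _ = _ := by group⟩) ?_
  · intro A hA g hg
    obtain ⟨v, hv, h⟩ := main A hA g (mem_top g) hg
    refine ⟨v, hv, v⁻¹ * g, fun x hx => ?_, by group⟩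
    calc x * (v⁻¹ * g) = v⁻¹ * (v * x * v⁻¹) * g := by group
      _ = _ := by rw [h x hx]; group
  intro D hD hsyl ih n hn
  have hn : n ∈ 𝐍 D := hn.2
  have hcj : ∀ x ∈ 𝐍 D, ∀ a ∈ D, x * a * x⁻¹ ∈ D := fun x hx a ha => (mem_normalizer_iff.1 hx a).1 ha
  by_cases hWD : W ⊓ 𝐍 D ≤ D
  · have hDW : D ≤ 𝐍 W := hD.trans (hPT.trans hTW)
    have := eq_of_inf_normalizer_le (P.isPGroup'.to_le (sup_le hD (hWT.trans inf_le_left)))
      (le_sup_left : D ≤ D ⊔ W) (by rw [sup_inf_assoc_of_le_normalizer hDW le_normalizer]; exact sup_le le_rfl hWD)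
    have hWD' : W ≤ D := this ▸ le_sup_right
    exact ⟨n, mem_normalizer_of_cj_le (cj_le_iff'.2 fun a ha =>
      sc0 W le_rfl le_rfl a ha n (hD (hcj n hn a (hWD' ha)))), fun _ _ => rfl⟩
  let S : Subgroup G :=
    { carrier := {x | x ∈ 𝐍 D ∧ ∀ i, ∀ a ∈ D, a ∈ Y (i + 1) → x * a * x⁻¹ * a⁻¹ ∈ Y i}
      one_mem' := ⟨one_mem _, fun i a _ _ => by simp⟩
      mul_mem' := fun {x y} hx hy => ⟨mul_mem hx.1 hy.1, fun i a ha hi => by
        have h1 := sc i _ (hy.2 i a ha hi) x (hD (hcj x hx.1 _ (D.mul_mem (hcj y hy.1 a ha) (D.inv_mem ha))))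
        have := (Y i).mul_mem h1 (hx.2 i a ha hi)
        convert this using 1; group⟩
      inv_mem' := fun {x} hx => ⟨inv_mem hx.1, fun i a ha hi => by
        have h0 := hcj _ (inv_mem hx.1) a ha
        have := (Y i).inv_mem (hx.2 i _ h0 (sc _ a hi _ (hD h0)))
        convert this using 1; group⟩ }
  have hSD : S ≤ 𝐍 D := fun x hx => hx.1
  have hSn : 𝐍 D ≤ 𝐍 S := fun m hm => mem_normalizer_of_cj_le (cj_le_iff'.2 fun x hx =>
    ⟨mul_mem (mul_mem hm hx.1) (inv_mem hm), fun i a ha hi => by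
      have h0 := hcj _ (inv_mem hm) a ha
      have := sc i _ (hx.2 i _ h0 (sc _ a hi _ (hD h0))) m
        (hD (hcj m hm _ (D.mul_mem (hcj x hx.1 _ h0) (D.inv_mem h0))))
      convert this using 1; group⟩)
  have hs : Syl p ((P : Subgroup G) ⊓ 𝐍 D) (𝐍 D) := by
    have := syl_of_sylowIn hsyl; rwa [top_inf_eq] at this
  have hR := hs.inf_normal hSD hSn
  set R := (P : Subgroup G) ⊓ 𝐍 D ⊓ S with hRdef
  obtain ⟨s, hsS, m, hm, rfl⟩ := hR.frattini_mem (hSn hn)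
  obtain ⟨w, hw, u, hu, rfl⟩ := hR.mem_res_mul hsS
  have hwc : w ∈ 𝐂 D := by
    refine (res_le_iff.2 fun x hx hcop => ?_ : pResidualOf p S ≤ 𝐂 D) hw
    exact cent_of_series (P.isPGroup'.to_le hD) hx.1 hcop Y (by simp [Y]) (c + 1) (fun a _ _ => by simp [Y])
      fun i a ha _ hi => hx.2 i a ha hi
  have hmD : u * m ∈ 𝐍 D := by
    have := mul_mem (inv_mem (centralizer_le_normalizer _ hwc)) hn
    simpa [mul_assoc] using this
  have hmR : u * m ∈ 𝐍 R := mul_mem (le_normalizer hu) hm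
  have hE : D ⊔ R ≤ P := sup_le hD (inf_le_left.trans inf_le_left)
  obtain ⟨v, hv, h⟩ := ih (D ⊔ R) hE (u * m) (mem_top _) (by
      change cj (u * m) (D ⊔ R) ≤ _
      rw [cj_sup, cj_of_mem_normalizer hmD, cj_of_mem_normalizer hmR]; exact hE)
    (card_lt_of_lt (left_lt_sup.2 fun h => hWD fun x hx =>
      h ⟨⟨(hWT hx.1).1, hx.2⟩, hx.2, fun i a ha hi => step i x hx.1 a (hD ha) hi⟩))
  refine ⟨v, hv, fun x hx => ?_⟩
  have := hwc _ (hcj _ hmD x hx)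
  rw [h x (mem_sup_left hx)]
  calc _ = (u * m * x * (u * m)⁻¹ * w) * w⁻¹ := by group
    _ = _ := by rw [this]; group

end Cfsg.Agent.S1954
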