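import Cfsg.Statements.S1956
import Cfsg.Agent.Lib.Layer.Bender
import Cfsg.Agent.Lib.Transfer.Frobenius

set_option autoImplicit false
open Cfsg

namespace Cfsg.Agent.S1956

open Subgroup Cfsg.Lib.Core Cfsg.Lib.Amalg Cfsg.Lib.BG1 Cfsg.Lib.Layer

/-- Let P be a Sylow p-subgroup of the finite group G such that every element of P of order dividing p (dividing 4 when p = 2) is central in P. Then the fusion of these elements is controlled by N_G(P): if such an element a of P has g a g⁻¹ in P, then g = n c with n normalizing P and c commuting with a. -/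
theorem result {G : Type*} [Group G] [Finite G] {p : ℕ} [Fact p.Prime] (P : Sylow p G)
    (hcen : ∀ a ∈ (P : Subgroup G), (a ^ p = 1 ∨ (p = 2 ∧ a ^ 4 = 1)) → ∀ y ∈ (P : Subgroup G), a * y = y * a) :
    ∀ a ∈ (P : Subgroup G), (a ^ p = 1 ∨ (p = 2 ∧ a ^ 4 = 1)) → ∀ g : G, g * a * g⁻¹ ∈ (P : Subgroup G) →
      ∃ n ∈ Subgroup.normalizer ((P : Subgroup G) : Set G), ∃ c : G, c * a = a * c ∧ g = n * c := by
  intro a ha h g hg
  have h2 : (g * a * g⁻¹) ^ p = 1 ∨ (p = 2 ∧ (g * a * g⁻¹) ^ 4 = 1) := by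
    simp only [conj_pow]
    exact h.imp (fun e => by simp [e]) fun e => ⟨e.1, by simp [e.2]⟩
  obtain ⟨n, hn, d, hd, e⟩ := (syl_iff_sylowIn.1 (syl_top P)).burnside_fusion (D := centralizer {a}) (mem_top g)
    (fun y hy => mem_centralizer_singleton_iff.2 (hcen a ha h y hy).symm)
    (by
      change _ ≤ cj g _
      rw [cj_centralizer_singleton]
      exact fun y hy => mem_centralizer_singleton_iff.2 (hcen _ hg h2 y hy).symm)
  exact ⟨n, hn.2, d⁻¹, mem_centralizer_singleton_iff.1 (inv_mem hd.2), by simp [e]⟩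

end Cfsg.Agent.S1956
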