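import Cfsg.Statements.S1957
import Cfsg.Agent.Lib.SigC.Two
import Cfsg.Agent.Lib.Amalg.JComp5
import Cfsg.Agent.Lib.Layer.Misc
import Cfsg.Agent.Lib.Invol.Sylow2
import Cfsg.Agent.Lib.Coprime.Generation

set_option autoImplicit false
open Cfsg

namespace Cfsg.Agent.S1957

open Subgroup Cfsg.Lib Cfsg.Lib.Core Cfsg.Lib.Amalg Cfsg.Lib.BG1 Cfsg.Lib.Layer Cfsg.Lib.SigC

theorem four {G : Type*} [Group G] {U : Subgroup G} (h : IsKleinFour U) {x y w : G} (hx : x ∈ U) (hy : y ∈ U) (hw : w ∈ U)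
    (x1 : x ≠ 1) (y1 : y ≠ 1) (xy : x ≠ y) (w1 : w ≠ 1) (wx : w ≠ x) : w = y ∨ w = x * y :=
  or_iff_not_imp_left.2 fun wy => congrArg Subtype.val (IsKleinFour.eq_mul_of_ne_all (x := (⟨x, hx⟩ : U)) (y := ⟨y, hy⟩)
    (z := ⟨w, hw⟩) (by simpa using x1) (by simpa using y1) (by simpa using xy) (by simpa using w1) (by simpa using wx)
    (by simpa using wy))

theorem star {G : Type*} [Group G] [Finite G] {P U : Subgroup G} (hP : Syl 2 P ⊤) (hUP : U ≤ P) (hUn : P ≤ 𝐍(U))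
    (hU4 : IsKleinFour U) (hUZ : ¬ IsCyclic ↥(P ⊓ 𝐂(P)) → U ≤ 𝐂(P)) {u v t : G} (hu : u ∈ U) (u1 : u ≠ 1) (hv : v ∈ U)
    (ht : t ∈ pCoreOf 2 𝐂[u]) : v * t * v⁻¹ * t⁻¹ ∈ zpowers u := by
  have sq : ∀ x ∈ U, x * x = 1 := fun x hx => congrArg Subtype.val (IsKleinFour.mul_self (⟨x, hx⟩ : U))
  have iv : ∀ x ∈ U, x⁻¹ = x := fun x hx => inv_eq_of_mul_eq_one_right (sq x hx)
  have cU : ∀ x ∈ U, ∀ y ∈ U, x * y = y * x := fun x hx y hy => by
    rw [← iv _ (mul_mem hx hy), mul_inv_rev, iv x hx, iv y hy]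
  have o2 : ∀ x : G, x * x = 1 → x ≠ 1 → orderOf x = 2 := fun x h1 h2 => orderOf_eq_prime (by rw [pow_two, h1]) h2
  obtain ⟨T, hT, hPT⟩ := exists_syl_ge (P := P ⊓ 𝐂[u]) hP.isPGroup.to_inf_left inf_le_right
  have htT := hT.op_le ht
  have tu : t * u = u * t := mem_centralizer_singleton_iff.1 (op_le _ ht)
  have triv : t * v = v * t → v * t * v⁻¹ * t⁻¹ ∈ zpowers u := fun e => by
    rw [← e, mul_inv_cancel_right, mul_inv_cancel]; exact one_mem _
  by_cases hc : P ≤ 𝐂[u]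
  · have htP : t ∈ P := hP.eq_of_le T ((le_inf le_rfl hc).trans hPT) le_top hT.isPGroup ▸ htT
    by_cases v1 : v = 1
    · exact triv (by simp [v1])
    by_cases vu : v = u
    · exact triv (vu ▸ tu)
    rcases four hU4 hu hv ((mem_normalizer_iff.1 (hUn htP) v).1 hv) u1 v1 (Ne.symm vu) (by simpa using v1)
      (fun e => vu (by rw [← mul_left_cancel_iff (a := t), tu, ← e, inv_mul_cancel_right])) with e | e
    · exact triv (mul_inv_eq_iff_eq_mul.1 e)
    · rw [iv v hv, mul_assoc v, mul_assoc v, e, cU u hu v hv, ← mul_assoc, sq v hv, one_mul]; exact mem_zpowers u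
  have hcy : IsCyclic ↥(P ⊓ 𝐂(P)) := by_contra fun h => hc fun s hs => mem_centralizer_singleton_iff.2 (hUZ h hu s hs)
  obtain ⟨z, z1, z2, z3⟩ := exists_central_orderOf hP.isPGroup hUP hUn (fun e => u1 (mem_bot.1 (e ▸ hu)))
  have zu : z ≠ u := fun e => hc (e ▸ z2)
  have zn := Invol.ne_one_of_two z3
  have cj2 : ∀ s ∈ P, s * u * s⁻¹ = u ∨ s * u * s⁻¹ = z * u := fun s hs =>
    four hU4 z1 hu ((mem_normalizer_iff.1 (hUn hs) u).1 hu) zn u1 zu (by simpa using u1) fun e => zu (by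
      rw [← mul_left_cancel_iff (a := s), mem_centralizer_singleton_iff.1 (z2 hs), ← e, inv_mul_cancel_right])
  have mc : ∀ s, s ∈ 𝐂[u] ↔ s * u * s⁻¹ = u := fun s => mem_centralizer_singleton_iff.trans mul_inv_eq_iff_eq_mul.symm
  have i2 : (P ⊓ 𝐂[u]).relIndex P = 2 := by
    obtain ⟨a, ha, h⟩ := SetLike.not_le_iff_exists.1 hc
    have ea := (cj2 a ha).resolve_left fun e => h ((mc a).2 e)
    rw [inf_relIndex_left]
    refine relIndex_eq_two_iff.2 ⟨a, ha, fun b hb => ?_⟩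
    have : b * a * u * (b * a)⁻¹ = z * (b * u * b⁻¹) := by
      rw [show b * a * u * (b * a)⁻¹ = b * (a * u * a⁻¹) * b⁻¹ by group, ea, ← mul_assoc,
        mem_centralizer_singleton_iff.1 (z2 hb)]; group
    rw [mc, mc, this]
    rcases cj2 b hb with e | e <;> rw [e]
    · exact .inr ⟨rfl, by simpa using zn⟩
    · exact .inl ⟨by rw [← mul_assoc, sq z z1, one_mul], by simpa using zn⟩
  have c0 : ∀ s ∈ P ⊓ 𝐂[u], s * v = v * s := fun s hs => by
    have a := mem_centralizer_singleton_iff.1 hs.2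
    have b := mem_centralizer_singleton_iff.1 (z2 hs.1)
    by_cases v1 : v = 1
    · simp [v1]
    by_cases vz : v = z
    · exact vz ▸ b
    rcases four hU4 z1 hu hv zn u1 zu v1 vz with e | e <;> rw [e]
    exacts [a, by rw [← mul_assoc, b, mul_assoc, a, mul_assoc]]
  by_cases t0 : t ∈ P ⊓ 𝐂[u]
  · exact triv (c0 t t0)
  have c1 := Core.card_mul_relIndex (inf_le_left : P ⊓ 𝐂[u] ≤ P)
  have c2 := Core.card_mul_relIndex hPT
  have c3 := hP.card_le hT.isPGroup le_top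
  have c4 : (P ⊓ 𝐂[u]).relIndex T ≠ 1 := fun e => t0 (relIndex_eq_one.1 e htT)
  have c5 : 0 < Nat.card ↥(P ⊓ 𝐂[u]) := Nat.card_pos
  have c6 : (P ⊓ 𝐂[u]).relIndex T ≠ 0 := index_ne_zero_of_finite
  have i3 : (P ⊓ 𝐂[u]).relIndex T = 2 := by
    rw [i2] at c1
    have : (P ⊓ 𝐂[u]).relIndex T ≤ 2 := Nat.le_of_mul_le_mul_left (by omega) c5
    omega
  obtain ⟨g, -, e⟩ := (hP.of_card_ge hT.isPGroup le_top (by rw [i2] at c1; rw [i3] at c2; omega)).exists_conj hP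
  have mm : ∀ a ∈ T, ∀ b ∈ T, (a * b ∈ P ⊓ 𝐂[u] ↔ (a ∈ P ⊓ 𝐂[u] ↔ b ∈ P ⊓ 𝐂[u])) := fun a ha b hb =>
    mul_mem_iff_of_index_two (a := (⟨a, ha⟩ : T)) (b := ⟨b, hb⟩) i3
  have c7 : ∀ s ∈ P ⊓ 𝐂[u], Commute s (t * v * t⁻¹) := fun s hs => by
    have h1 : t⁻¹ * s * t ∈ P ⊓ 𝐂[u] := (mm _ (mul_mem (inv_mem htT) (hPT hs)) _ htT).2
      (by rw [mm _ (inv_mem htT) _ (hPT hs), inv_mem_iff]; simp only [hs, iff_true])
    have := c0 _ h1
    calc s * (t * v * t⁻¹) = t * (t⁻¹ * s * t * v) * t⁻¹ := by group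
      _ = _ := by rw [this]; group
  have vP : v ∈ P ⊓ 𝐂[u] := ⟨hUP hv, mem_centralizer_singleton_iff.2 (cU v hv u hu)⟩
  have c8 := c7 v vP
  have r2 : v * (t * v * t⁻¹) * (v * (t * v * t⁻¹)) = 1 := by
    rw [c8.symm.mul_mul_mul_comm, sq v hv, conj_mul, sq v hv]; simp
  have ct : Commute t (v * (t * v * t⁻¹)) := by
    have := c0 _ ((mm t htT t htT).2 Iff.rfl)
    calc t * (v * (t * v * t⁻¹)) = t * v * t⁻¹ * (t * t * v) * t⁻¹ := by group
      _ = _ := by rw [this, c8.eq]; group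
  have rc : v * (t * v * t⁻¹) ∈ T ⊓ 𝐂(T) := mem_inf.2 ⟨mul_mem (hPT vP) (mul_mem (mul_mem htT (hPT vP)) (inv_mem htT)), fun s hs => by
    by_cases h : s ∈ P ⊓ 𝐂[u]
    · exact (Commute.mul_right (c0 s h) (c7 s h)).eq
    · have h1 := (mm s hs t htT).2 (by simp only [h, t0])
      have := (Commute.mul_right (c0 _ h1) (c7 _ h1)).mul_left ct.inv_left
      rw [mul_inv_cancel_right] at this; exact this.eq⟩
  rw [iv v hv, mul_assoc v, mul_assoc v]
  by_cases r1 : v * (t * v * t⁻¹) = 1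
  · rw [r1]; exact one_mem _
  have hm : ∀ x ∈ T ⊓ 𝐂(T), g * x * g⁻¹ ∈ P ⊓ 𝐂(P) := fun x hx => by
    rw [← e, ← cj_centralizer, ← cj_inf]; exact mem_cj'.2 ⟨x, hx, rfl⟩
  have := Invol.eq_of_isCyclic hcy (hm _ rc) (hm u ⟨hPT ⟨hUP hu, mem_centralizer_singleton_iff.2 rfl⟩,
    fun s hs => mem_centralizer_singleton_iff.1 (hT.le hs)⟩) (by rw [Invol.orderOf_conj, o2 _ r2 r1])
    (by rw [Invol.orderOf_conj, o2 u (sq u hu) u1])
  rw [mul_left_cancel (mul_right_cancel this)]; exact mem_zpowers u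

/-- Let `G` be a finite non-abelian simple group in which every local subgroup is solvable and which is of characteristic 2 type. Let `P` be a Sylow 2-subgroup of `G` and `U` a normal subgroup of `P` that is a four-group, with `U` central in `P` if the centre of `P` is not cyclic. Then `U` centralizes every subgroup of odd order of `G` that it normalizes. -/
theorem result {G : Type*} [Group G] [Finite G]
    [IsSimpleGroup G] (hna : ¬ IsMulCommutative G) (hN : Cfsg.IsNGroup G) (h2 : Cfsg.IsCharacteristicTwoType G)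
    (P : Sylow 2 G) (U : Subgroup G) (hUP : U ≤ (P : Subgroup G)) (hUn : (P : Subgroup G) ≤ Subgroup.normalizer (U : Set G))
    (hU4 : IsKleinFour ↥U)
    (hUZ : ¬ IsCyclic ↥((P : Subgroup G) ⊓ Subgroup.centralizer ((P : Subgroup G) : Set G)) →
      U ≤ Subgroup.centralizer ((P : Subgroup G) : Set G))
    (K : Subgroup G) (hK : Odd (Nat.card K)) (hUK : U ≤ Subgroup.normalizer (K : Set G)) :
    U ≤ Subgroup.centralizer (K : Set G) := by
  haveI : IsMulCommutative U := IsKleinFour.isMulCommutative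
  have hcop : (Nat.card U).Coprime (Nat.card K) := by
    rw [hU4.card_four]; exact Nat.Coprime.pow_left 2 (Nat.coprime_two_left.2 hK)
  refine le_centralizer_iff.1 (Coprime.le_of_forall_centralizer_le IsKleinFour.not_isCyclic hUK hcop fun u hu u1 k hk v hv => ?_)
  have o2 : orderOf u = 2 := orderOf_eq_prime (by
    rw [sq]; exact congrArg Subtype.val (IsKleinFour.mul_self (⟨u, hu⟩ : U))) u1
  have hz := Invol.isPGroup_zpowers_two o2
  have hC : Amalg.CharP 2 𝐂[u] := cent_zpowers u ▸ (charP_norm_iff hz).1 (charP_iff.2 (h2.2 _ hz (by simpa using u1)))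
  have hv' : v ∈ 𝐂[u] := le_cent1_of_comm ‹_› hu hv
  have yK : v * k * v⁻¹ * k⁻¹ ∈ K := mul_mem ((mem_normalizer_iff.1 (hUK hv) k).1 hk.1) (inv_mem hk.1)
  have yC : v * k * v⁻¹ * k⁻¹ ∈ 𝐂[u] := mul_mem (mul_mem (mul_mem hv' hk.2) (inv_mem hv')) (inv_mem hk.2)
  have yo : Odd (orderOf (v * k * v⁻¹ * k⁻¹)) := hK.of_dvd_nat (orderOf_dvd_natCard K yK)
  have st := fun v hv t ht => star (syl_top P) hUP hUn hU4 hUZ hu u1 (v := v) (t := t) hv ht
  have y1 : v * k * v⁻¹ * k⁻¹ ∈ 𝐂(pCoreOf 2 𝐂[u]) := by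
    refine zpowers_le.1 (Coprime.le_centralizer_of_centralizes_sub_and_quotient (N := zpowers u) ?_ ?_ ?_ ?_)
    · rw [Nat.card_zpowers, Nat.card_zpowers, o2]; exact Nat.coprime_two_right.2 yo
    · exact le_pCoreOf (zpowers_le.2 (mem_centralizer_singleton_iff.2 rfl)) (JC.cent_le_norm_zpowers u) hz
    · rw [cent_zpowers]; exact zpowers_le.2 yC
    · have n1 := JC.cent_le_norm_zpowers u
      have n2 := (op_le (p := 2) 𝐂[u]).trans n1
      have h1 : U ≤ centQuo (zpowers u) (pCoreOf 2 𝐂[u]) := le_centQuo n2 ((le_cent1_of_comm ‹_› hu).trans n1)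
        (commutator_le.2 fun t ht w hw => by rw [← commutatorElement_inv]; exact inv_mem (st w hw t ht))
      refine (le_centQuo_iff n2 ((zpowers_le.2 yC).trans n1)).1 (zpowers_le.2 ?_)
      rw [mul_assoc v, mul_assoc v]
      exact mul_mem (h1 hv) ((mem_normalizer_iff.1 (le_norm_centQuo n1 (le_normalizer_pCoreOf _) hk.2) _).1 (h1 (inv_mem hv)))
  have y2 := hC ⟨yC, y1⟩
  exact commutatorElement_eq_one_iff_mul_comm.1 (Invol.eq_one_of_odd_of_mem (op_isPGroup 𝐂[u]) y2 yo)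

end Cfsg.Agent.S1957
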