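import Cfsg.Statements.S1966
import Cfsg.Agent.Lib.Glaub.CF

set_option autoImplicit false
open Cfsg

namespace Cfsg.Agent.S1966

open Cfsg.Lib.Fus2 Cfsg.Lib.Amalg Subgroup Cfsg.FusionSystem Cfsg.Lib Cfsg.Lib.Glaub

/-- Let p be a prime, G a finite group with Sylow p-subgroup S and 𝓕 a conjugation family for S in G. Then the members of 𝓕 containing O_p(G) still form a conjugation family for S in G. -/
theorem result {G : Type*} [Group G] [Finite G] {p : ℕ} [Fact p.Prime] (S : Sylow p G) (𝓕 : Set (Subgroup G)) (h : Cfsg.IsConjugationFamily 𝓕 (S : Subgroup G)) : Cfsg.IsConjugationFamily {T : Subgroup G | T ∈ 𝓕 ∧ Cfsg.pCore p G ≤ T} (S : Subgroup G) := by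
  refine ⟨fun T hT => h.1 T hT.1, fun A g a1 a2 a3 => ?_⟩
  have c : ∀ g : G, ∀ x ∈ pCore p G, g⁻¹ * x * g ∈ pCore p G := fun g x hx =>
    (Core.pCore_characteristic p G |> fun _ => (inferInstance : (pCore p G).Normal)).conj_mem' x hx g
  obtain ⟨n, T, x, b1, b2, b3, b4, b5⟩ := h.2 (A ∪ pCore p G) g (a1.mono Set.subset_union_left)
    (Set.union_subset a2 (Core.pCore_le_sylow S)) (by
      rw [Set.image_union]
      exact Set.union_subset a3 (Set.image_subset_iff.2 fun x hx => Core.pCore_le_sylow S (c g x hx)))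
  refine ⟨n, T, x, b1, fun ⟨i, hi⟩ => ⟨b2 _, fun y hy => ?_⟩, b3, fun h => Set.subset_union_left.trans (b4 h),
    fun i h => (Set.image_mono Set.subset_union_left).trans (b5 i h)⟩
  cases i with
  | zero => exact b4 hi (.inr hy)
  | succ i => exact b5 ⟨i, by omega⟩ hi ⟨_, .inr (c ((List.ofFn x).take (i + 1)).prod⁻¹ y hy), by simp [mul_assoc]⟩

end Cfsg.Agent.S1966
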