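import Cfsg.Statements.S1967
import Cfsg.Agent.Lib.Glaub.CF

set_option autoImplicit false
open Cfsg

namespace Cfsg.Agent.S1967

open Cfsg.Lib.Fus2 Cfsg.Lib.Amalg Subgroup Cfsg.FusionSystem Cfsg.Lib Cfsg.Lib.Glaub

/-- Let p be a prime, G a finite group with Sylow p-subgroup S and W a conjugacy functor for p on G. Then W controls strong fusion in G if and only if, whenever T ≤ S and g ∈ G satisfy gTg⁻¹ ≤ S, one can write g = n c with n ∈ N_G(W(S)) and c ∈ C_G(T). -/
theorem result {G : Type*} [Group G] [Finite G] {p : ℕ} [Fact p.Prime] (S : Sylow p G) (W : Subgroup G → Subgroup G) (hW : Cfsg.IsConjugacyFunctor p W) : Cfsg.ControlsStrongFusionIn p W ⊤ ↔ ∀ (T : Subgroup G) (g : G), T ≤ (S : Subgroup G) → T.map (MulAut.conj g).toMonoidHom ≤ (S : Subgroup G) → ∃ n ∈ Subgroup.normalizer ((W (S : Subgroup G) : Subgroup G) : Set G), ∃ c ∈ Subgroup.centralizer (T : Set G), g = n * c := by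
  rw [csf_iff hW (syl_top S), sf_singleton, top_inf_eq]
  refine ⟨fun h T g a1 a2 => ?_, fun h A g _ a1 a2 => ?_⟩
  · obtain ⟨x, b1, b2⟩ := h T g trivial a1 (cj_le_iff'.1 a2)
    refine ⟨x, b1, x⁻¹ * g, fun a ha => ?_, by simp⟩
    calc _ = x⁻¹ * (x * a * x⁻¹) * g := by group
      _ = _ := by rw [b2 a ha]; group
  · obtain ⟨n, b1, c, b2, rfl⟩ := h (closure A) g ((closure_le _).2 a1) (map_le_iff_le_comap.2 ((closure_le _).2 a2))
    exact ⟨n, b1, fun a ha => by rw [mul_assoc n c, ← b2 a (subset_closure ha)]; group⟩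

end Cfsg.Agent.S1967
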