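import Cfsg.Statements.S1968
import Cfsg.Agent.Lib.Glaub.CF

set_option autoImplicit false
open Cfsg

namespace Cfsg.Agent.S1968

open Cfsg.Lib.Fus2 Cfsg.Lib.Amalg Subgroup Cfsg.FusionSystem Cfsg.Lib Cfsg.Lib.Glaub

/-- Let p be a prime, G a finite group with Sylow p-subgroup S and W a conjugacy functor for p on G with Z(P) ≤ W(P) for every p-subgroup P. Let A be a subgroup of Z(S) normalized by N_G(W(S)) that is not weakly closed in S with respect to G. Then there is a subgroup T of S, well placed in S with respect to W, such that: A ≤ T; N_G(W(N_S(T))) normalizes A; N_S(T) is a Sylow p-subgroup of N_G(T); A ≤ Z(N_S(T)); and A is not weakly closed in N_S(T) with respect to N_G(T), that is, some N_G(T)-conjugate of A other than A lies in N_S(T). -/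
theorem result {G : Type*} [Group G] [Finite G] {p : ℕ} [Fact p.Prime] (S : Sylow p G) (W : Subgroup G → Subgroup G) (hW : Cfsg.IsConjugacyFunctor p W) (hWZ : ∀ P : Subgroup G, IsPGroup p ↥P → P ⊓ Subgroup.centralizer (P : Set G) ≤ W P) (A : Subgroup G) (hAZ : A ≤ (S : Subgroup G) ⊓ Subgroup.centralizer ((S : Subgroup G) : Set G)) (hAN : Subgroup.normalizer ((W (S : Subgroup G) : Subgroup G) : Set G) ≤ Subgroup.normalizer ((A : Subgroup G) : Set G)) (hnwc : ¬ Cfsg.IsWeaklyClosed A (S : Subgroup G)) : ∃ T : Subgroup G, Cfsg.IsWellPlaced p W (S : Subgroup G) T ∧ A ≤ T ∧ Subgroup.normalizer ((W ((S : Subgroup G) ⊓ Subgroup.normalizer ((T : Subgroup G) : Set G)) : Subgroup G) : Set G) ≤ Subgroup.normalizer ((A : Subgroup G) : Set G) ∧ ¬ p ∣ ((S : Subgroup G) ⊓ Subgroup.normalizer ((T : Subgroup G) : Set G)).relIndex (Subgroup.normalizer ((T : Subgroup G) : Set G)) ∧ A ≤ Subgroup.centralizer (((S : Subgroup G) ⊓ Subgroup.normalizer ((T : Subgroup G) : Set G) : Subgroup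 G) : Set G) ∧ ∃ g ∈ Subgroup.normalizer ((T : Subgroup G) : Set G), A.map (MulAut.conj g).toMonoidHom ≤ (S : Subgroup G) ⊓ Subgroup.normalizer ((T : Subgroup G) : Set G) ∧ A.map (MulAut.conj g).toMonoidHom ≠ A := by
  by_contra hc
  have hS := syl_top S
  have key : ∀ T, IsWellPlaced p W (S : Subgroup G) T → A ≤ T → 𝐍 T ≤ 𝐍 A := fun T hT =>
    wp_induction hW hS (C := fun T => A ≤ T → 𝐍 T ≤ 𝐍 A) (fun _ => hAN) (fun T a1 a2 a3 g hg => by
      have b1 : A ≤ 𝐂 ((S : Subgroup G) ⊓ 𝐍 T) := hAZ.trans (inf_le_right.trans (centralizer_le inf_le_left))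
      have b2 := le_inf a1.1 (le_normalizer (H := T))
      by_contra e
      exact hc ⟨T, a1, a3, a2 ((le_inf (a3.trans b2) b1).trans (hWZ _ (S.isPGroup'.to_le inf_le_left))), a1.2 0, b1,
        g, hg, (cj_le_of_le_of_mem_normalizer a3 hg).trans b2, mt cj_eq_self_iff.1 e⟩) hT
  refine hnwc ⟨hAZ.trans inf_le_left, fun g hg => cj_of_mem_normalizer ?_⟩
  have := cFam_wp hW hS (hAZ.trans inf_le_left) hg
  clear hg
  induction this with
  | one => exact one_mem _
  | step _ h1 h2 h3 ih => exact mul_mem (key _ h1 ((cj_of_mem_normalizer ih).ge.trans (cj_le_iff'.2 h3)) h2) ih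

end Cfsg.Agent.S1968
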