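import Cfsg.Statements.S1981
import Cfsg.Agent.Lib.Glaub.KInf

set_option autoImplicit false
open Cfsg

namespace Cfsg.Agent.S1981

open Cfsg.FusionSystem Cfsg.Lib.Fus2 Cfsg.Lib.Amalg Subgroup Cfsg.Lib Cfsg.Lib.Glaub Cfsg.Lib.Transfer

/-- Let P be a finite p-group generated by its abelian normal subgroups. Then both K-infinity subgroups of P equal P. -/
theorem result {P : Type*} [Group P] [Finite P] {p : ℕ} [Fact p.Prime] (hP : IsPGroup p P) (hgen : ⨆ A ∈ {A : Subgroup P | A.Normal ∧ IsMulCommutative ↥A}, A = ⊤) : Cfsg.kInfLower P = ⊤ ∧ Cfsg.kInfUpper P = ⊤ := by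
  rw [kInfLower_eq, kInfUpper_eq, ← amb_kL, ← amb_kU, eq_top_iff, eq_top_iff, ← hgen]
  exact ⟨iSup₂_le fun A h => have := h.1; le_amb_kL h.2 (hgen ▸ le_top) le_normalizer_of_normal,
    iSup₂_le fun A h => have := h.1; le_amb_kU h.2 (hgen ▸ le_top) le_normalizer_of_normal⟩

end Cfsg.Agent.S1981
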