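import Cfsg.Statements.S1985
import Cfsg.Agent.Lib.Glaub.KCon

set_option autoImplicit false
universe u
open Cfsg

namespace Cfsg.Agent.S1985

open Cfsg.FusionSystem Cfsg.Lib.Fus2 Cfsg.Lib.Amalg Subgroup Cfsg.Lib Cfsg.Lib.Glaub Cfsg.Lib.Transfer

/-- Let p be an odd prime and G a finite group. Then the lower K-infinity subgroup controls weak closure of elements in G: the lower K-infinity subgroup of every p-subgroup P of G contains Z(P), and for some (equivalently, every) Sylow p-subgroup S of G, with K the lower K-infinity subgroup of S, every element of S commuting with all of N_G(K) is weakly closed in S with respect to G (every G-conjugate of it lying in S equals it). -/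
theorem result {G : Type u} [Group G] [Finite G] {p : ℕ} [Fact p.Prime] (hp : p ≠ 2) : Cfsg.ControlsWeakClosureOfElementsIn p (Cfsg.inducedFunctor (G := G) Cfsg.kInfLower) ⊤ := by
  obtain ⟨T, hT⟩ := exists_syl p (⊤ : Subgroup G)
  have := (Fact.out : p.Prime).two_le
  refine ⟨fun _ _ => kf_L.center, T, hT.le, hT.isPGroup, hT.not_dvd_relIndex, fun x hx g a1 a2 => centralizes_of_engel
    (Fct.cf kf_L.fct) (fun _ _ => kf_L.center) (fun H T b c => ?_) hT hx.1 hx.2 a1 a2⟩
  obtain ⟨g, a1, a2, a3⟩ := kf_L.quad b c
  refine ⟨g, a1, a2, fun U V _ d => ?_⟩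
  have e : iterCommutator (U.map H.subtype) (zpowers g) 2 ≤ ⊥ := (commutator_mono (commutator_mono d le_rfl) le_rfl).trans a3.le
  exact (iter_le_of_le e (by omega)).trans bot_le

end Cfsg.Agent.S1985
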