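import Cfsg.Statements.S1997
import Cfsg.Agent.Lib.Glaub.Fac

set_option autoImplicit false
universe u
open Cfsg

namespace Cfsg.Agent.S1997

open Cfsg.Lib.Fus2 Cfsg.Lib.Amalg Subgroup Cfsg.FusionSystem Cfsg.Lib Cfsg.Lib.Glaub

variable {G : Type u} [Group G] [Finite G] {p : ℕ} [Fact p.Prime] {S : Subgroup G}
  {w w' : ∀ (Q : Type u) [Group Q], Subgroup Q}

theorem elemAb (hw : Fct p w) (hS : IsPGroup p S) (hZ : omegaOneCenter p S ≤ amb w S) :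
    ⨆ g : 𝐍 (amb w S), cj (g : G) (omegaOneCenter p S) ≤ S ∧
      IsElementaryAbelian p (⨆ g : 𝐍 (amb w S), cj (g : G) (omegaOneCenter p S)) := by
  have a := (iSup_cj_le hZ le_rfl).trans (amb_le w S)
  refine ⟨a, isElemAb_iSup (fun g => cj_omZ (p := p) (g : G) S ▸ (isElemAb_omZ _).2)
    (le_centralizer_iff_isMulCommutative.1 (iSup_cj_le ((omZ_le_cent S).trans (centralizer_le a))
      (Core.le_normalizer_centralizer (le_normalizer_iSup_cj _ _))))⟩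

theorem le_of_fac (hw : Fct p w) (hw' : Fct p w') (hS : Syl p S ⊤) (hZ : omegaOneCenter p S ≤ amb w' S)
    (h : ∀ (K R : Subgroup G) [(R.subgroupOf K).Normal] (T : Subgroup (K ⧸ R.subgroupOf K)), Syl p T ⊤ →
      CharP p (⊤ : Subgroup (K ⧸ R.subgroupOf K)) → Fac (𝐂 (omegaOneCenter p T)) (𝐍 (amb w T)) ⊤) :
    ⨆ g : 𝐍 (amb w' S), cj (g : G) (omegaOneCenter p S) ≤ ⨆ g : 𝐍 (amb w S), cj (g : G) (omegaOneCenter p S) := by
  obtain ⟨a1, a2⟩ := elemAb hw' hS.isPGroup hZ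
  refine iSup_le fun g => ?_
  obtain ⟨a, b1, b, b2, e⟩ := (fac_of_sections hw (op_omega p) h (hS.of_le (hw'.le_normalizer hS.isPGroup) le_top) a1
    (le_normalizer_iSup_cj _ _) (elemAb_le_cent a2) (le_iSup_cj _ _)).symm g g.2
  rw [e, cj_mul, cj_of_mem_centralizer (H := omegaOneCenter p S) b2.2]
  exact le_iSup_of_le ⟨a, b1.2⟩ le_rfl

/-- Let p be a prime, G a finite group with Sylow p-subgroup S, and W₁, W₂ two isomorphism-invariant p-group functors (W assigns to every group Q a subgroup W(Q), nontrivial whenever Q is a nontrivial finite p-group, and every isomorphism from a finite p-group Q onto a group R carries W(Q) onto W(R)). Suppose that G* = C_{G*}(Ω₁Z(S*)) N_{G*}(W₁(S*)) = C_{G*}(Ω₁Z(S*)) N_{G*}(W₂(S*)) = N_{G*}(W₁(S*)) N_{G*}(W₂(S*)) whenever G* = K/R is a section of G with C_{G*}(O_p(G*)) ≤ O_p(G*) and S* is a Sylow p-subgroup of G*, where Ω₁Z denotes the subgroup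 generated by the elements of order dividing p in the centre. Suppose also Ω₁Z(S) ≤ W₁(S) ∩ W₂(S), and let A be the normal closure of Ω₁Z(S) in N_G(W₁(S)). Then A is an elementary abelian subgroup of S, strongly closed in S with respect to G, and A controls strong fusion in G. -/
theorem result {G : Type u} [Group G] [Finite G] {p : ℕ} [Fact p.Prime] (S : Sylow p G) (W₁ W₂ : ∀ (Q : Type u) [Group Q], Subgroup Q) (hW₁ : Cfsg.IsCharPFunctor.{u} p W₁) (hW₂ : Cfsg.IsCharPFunctor.{u} p W₂) (hfac : ∀ (K R : Subgroup G) [hR : (R.subgroupOf K).Normal], Subgroup.centralizer ((Cfsg.pCore p (↥K ⧸ R.subgroupOf K) : Subgroup (↥K ⧸ R.subgroupOf K)) : Set (↥K ⧸ R.subgroupOf K)) ≤ Cfsg.pCore p (↥K ⧸ R.subgroupOf K) → ∀ T : Sylow p (↥K ⧸ R.subgroupOf K), (∀ x : (↥K ⧸ R.subgroupOf K), ∃ a ∈ Subgroup.centralizer ((Cfsg.omegaOne p ((T : Subgroup (↥K ⧸ R.subgroupOf K)) ⊓ Subgroup.centralizer (((T :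 Subgroup (↥K ⧸ R.subgroupOf K)) : Subgroup (↥K ⧸ R.subgroupOf K)) : Set (↥K ⧸ R.subgroupOf K))) : Subgroup (↥K ⧸ R.subgroupOf K)) : Set (↥K ⧸ R.subgroupOf K)), ∃ b ∈ Subgroup.normalizer ((Cfsg.inducedFunctor (G := (↥K ⧸ R.subgroupOf K)) W₁ (T : Subgroup (↥K ⧸ R.subgroupOf K)) : Subgroup (↥K ⧸ R.subgroupOf K)) : Set (↥K ⧸ R.subgroupOf K)), x = a * b) ∧ (∀ x : (↥K ⧸ R.subgroupOf K), ∃ a ∈ Subgroup.centralizer ((Cfsg.omegaOne p ((T : Subgroup (↥K ⧸ R.subgroupOf K)) ⊓ Subgroup.centralizer (((T : Subgroup (↥K ⧸ R.subgroupOf K)) : Subgroup (↥K ⧸ R.subgroupOf K)) : Set (↥K ⧸ R.subgroupOf K))) : Subgroup (↥K ⧸ R.subgroupOf K)) : Set (↥K ⧸ R.subgroupOf K)), ∃ b ∈ Subgroup.normalizer ((Cfsg.inducedFunctor (G := (↥K ⧸ R.subgroupOf K)) W₂ (T : Subgroup (↥K ⧸ R.subgroupOf K)) : Subgroup (↥K ⧸ R.subgroupOf K)) : Set (↥K ⧸ R.subgroupOf K)), x = a * b) ∧ (∀ x : (↥K ⧸ R.subgroupOf K), ∃ a ∈ Subgroup.normalizer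 ((Cfsg.inducedFunctor (G := (↥K ⧸ R.subgroupOf K)) W₁ (T : Subgroup (↥K ⧸ R.subgroupOf K)) : Subgroup (↥K ⧸ R.subgroupOf K)) : Set (↥K ⧸ R.subgroupOf K)), ∃ b ∈ Subgroup.normalizer ((Cfsg.inducedFunctor (G := (↥K ⧸ R.subgroupOf K)) W₂ (T : Subgroup (↥K ⧸ R.subgroupOf K)) : Subgroup (↥K ⧸ R.subgroupOf K)) : Set (↥K ⧸ R.subgroupOf K)), x = a * b)) (hZ : Cfsg.omegaOne p ((S : Subgroup G) ⊓ Subgroup.centralizer (((S : Subgroup G) : Subgroup G) : Set G)) ≤ Cfsg.inducedFunctor (G := G) W₁ (S : Subgroup G) ⊓ Cfsg.inducedFunctor (G := G) W₂ (S : Subgroup G)) (N₁ : Subgroup G) (hN₁ : N₁ = Subgroup.normalizer ((Cfsg.inducedFunctor (G := G) W₁ (S : Subgroup G) : Subgroup G) : Set G)) (A : Subgroup G) (hA : A = (Subgroup.normalClosure (((Cfsg.omegaOne p ((S : Subgroup G) ⊓ Subgroup.centralizer (((S : Subgroup G) : Subgroup G) : Set G))).subgroupOf N₁ : Subgroup ↥N₁) : Set ↥N₁)).map N₁.subtype)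 : A ≤ (S : Subgroup G) ∧ Cfsg.IsElementaryAbelian p A ∧ Cfsg.IsStronglyClosed A (S : Subgroup G) ∧ Cfsg.ControlsStrongFusion p A := by
  have h1 := fct_of hW₁
  have h2 := fct_of hW₂
  have hS := syl_top S
  have z1 := hZ.trans inf_le_left
  have z2 := hZ.trans inf_le_right
  rw [hN₁, map_normalClosure_subgroupOf (z1.trans le_normalizer)] at hA
  obtain ⟨a1, a2⟩ := elemAb h1 S.isPGroup' z1
  have e := le_antisymm (le_of_fac h2 h1 hS z1 fun K R _ T b1 b2 x _ => (hfac K R (charP_top.1 b2) b1.toSylowTop).2.1 x)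
    (le_of_fac h1 h2 hS z2 fun K R _ T b1 b2 x _ => (hfac K R (charP_top.1 b2) b1.toSylowTop).1 x)
  have a3 : SF {𝐍 A} ⊤ (S : Subgroup G) := (sf_of_fac hW₁ hW₂ hS fun K R _ T b1 b2 x _ =>
    (hfac K R (charP_top.1 b2) b1.toSylowTop).2.2 x).mono (by
      rintro _ (rfl | rfl)
      · exact ⟨_, rfl, hA ▸ le_normalizer_iSup_cj _ _⟩
      · exact ⟨_, rfl, (hA.trans e) ▸ le_normalizer_iSup_cj _ _⟩)
  subst hA
  refine ⟨a1, a2, ⟨a1, fun x hx g hg => ?_⟩, (controlsStrongFusion_iff hS a1).2 a3⟩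
  obtain ⟨y, b1, b2⟩ := sf_singleton.1 a3 {x} g trivial (Set.singleton_subset_iff.2 (a1 hx)) (by simpa using hg)
  exact b2 x rfl ▸ (mem_normalizer_iff.1 b1 x).1 hx

end Cfsg.Agent.S1997
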