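import Cfsg.Statements.S1998
import Cfsg.Agent.Lib.Glaub.Min

set_option autoImplicit false
universe u
open Cfsg

namespace Cfsg.Agent.S1998

open Cfsg.Lib.Fus2 Cfsg.Lib.Amalg Subgroup Cfsg.FusionSystem Cfsg.Lib Cfsg.Lib.Glaub

/-- Let p be a prime, G a finite group with Sylow p-subgroup S, and 𝓦 a nonempty set of isomorphism-invariant p-group functors (W assigns to every group Q a subgroup W(Q), nontrivial whenever Q is a nontrivial finite p-group, and every isomorphism from a finite p-group Q onto a group R carries W(Q) onto W(R)). Suppose the induced conjugacy functors control transfer in every section of G other than G itself, but not in G. Let T be the subgroup generated by the S ∩ (N_G(W(S)))', W ∈ 𝓦, and M = N_G(T ∩ O_p(G)). Then: C_G(O_p(G)) ≤ O_p(G); M is a proper subgroup of G containing every proper subgroup of G that contains S (the unique maximal subgroup over S); [O_p(G), M] ≤ O_p(G)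 ∩ M' ≤ O_p(G) ∩ T; and every element u of S outside O_p(G) satisfies [X, u, …, u] ≰ Y with p − 1 entries u, for some chief factor X/Y of G with X ≤ O_p(G). -/
theorem result {G : Type u} [Group G] [Finite G] {p : ℕ} [Fact p.Prime] (S : Sylow p G) (𝓦 : Set (∀ (Q : Type u) [Group Q], Subgroup Q)) (h𝓦 : ∀ W ∈ 𝓦, Cfsg.IsCharPFunctor.{u} p W) (hne : 𝓦.Nonempty) (hsec : ∀ (K R : Subgroup G) [hR : (R.subgroupOf K).Normal], (K = ⊤ → R ≠ ⊥) → Cfsg.FamilyControlsTransferIn p ((fun W => Cfsg.inducedFunctor (G := (↥K ⧸ R.subgroupOf K)) W) '' 𝓦) ⊤) (hG : ¬ Cfsg.FamilyControlsTransferIn p ((fun W => Cfsg.inducedFunctor (G := G) W) '' 𝓦) ⊤) (T M : Subgroup G) (hT : T = (⨆ W ∈ 𝓦, (S : Subgroup G) ⊓ ⁅Subgroup.normalizer ((Cfsg.inducedFunctor (G := G) W (S : Subgroup G) : Subgroup G) : Set G), Subgroup.normalizer ((Cfsg.inducedFunctor (G := G) W (S : Subgroup G) : Subgroup G) : Set G)⁆)) (hM : M = Subgroup.normalizer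 ((T ⊓ Cfsg.pCore p G : Subgroup G) : Set G)) : Subgroup.centralizer ((Cfsg.pCore p G : Subgroup G) : Set G) ≤ Cfsg.pCore p G ∧ (M ≠ ⊤ ∧ ∀ H : Subgroup G, (S : Subgroup G) ≤ H → H ≠ ⊤ → H ≤ M) ∧ (⁅Cfsg.pCore p G, M⁆ ≤ Cfsg.pCore p G ⊓ ⁅M, M⁆ ∧ Cfsg.pCore p G ⊓ ⁅M, M⁆ ≤ Cfsg.pCore p G ⊓ T) ∧ ∀ u : G, u ∈ (S : Subgroup G) → u ∉ Cfsg.pCore p G → ∃ U V : Subgroup G, Cfsg.IsChiefFactor U V ∧ U ≤ Cfsg.pCore p G ∧ ¬ Cfsg.iterCommutator U (Subgroup.zpowers u) (p - 1) ≤ V := by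
  have hS := syl_top S
  have hB : Below (famOf h𝓦) G := below_of_sections fun K R _ a T b => (fctf_iff_subs h𝓦 b).1 (hsec K R a)
  rw [fctf_iff_subs h𝓦 hS] at hG
  have hc := hB.charP hS hG
  have e : T = ⨆ X ∈ subs (famOf h𝓦) (S : Subgroup G), (S : Subgroup G) ⊓ ⁅X, X⁆ := by
    rw [hT]
    exact le_antisymm (iSup₂_le fun W hW => le_iSup₂_of_le _ ((mem_subs_famOf h𝓦).2 ⟨W, hW, rfl⟩) le_rfl)
      (iSup₂_le fun X hX => let ⟨W, hW, e⟩ := (mem_subs_famOf h𝓦).1 hX; le_iSup₂_of_le W hW (e ▸ le_rfl))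
  have a1 : ∀ H, (S : Subgroup G) ≤ H → H ≠ ⊤ → (S : Subgroup G) ⊓ ⁅H, H⁆ ≤ T := fun H b1 b2 => e ▸ hB.sub hS H b1 b2
  have a2 : ⁅(S : Subgroup G), (S : Subgroup G)⁆ ≤ T := e ▸ commutator_le_subs S.isPGroup' hne
  have a3 : M ≠ ⊤ := hM ▸ normalizer_inf_pCore_ne_top hS a2 a1 (fun b => hG (tf_of_normal S.isPGroup' hne b))
    fun b => hG (hB.tf rfl hne hS hc (e ▸ b))
  have a4 : (S : Subgroup G) ≤ M := hM ▸ (le_normalizer_inf_pCore hS le_rfl (inf_le_right.trans a2)).2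
  have := Core.pCore_characteristic p G
  exact ⟨charP_top.1 hc, ⟨a3, fun H b1 b2 => hM ▸ (le_normalizer_inf_pCore hS b1 (a1 H b1 b2)).2⟩,
    ⟨le_inf (commutator_le_left _ _) (commutator_mono (hS.pCore_le.trans a4) le_rfl),
      le_inf inf_le_left ((inf_le_inf_right _ hS.pCore_le).trans (a1 M a4 a3))⟩,
    fun u b1 b2 => hB.exists_chief rfl hne hS hc hG b1 b2⟩

end Cfsg.Agent.S1998
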