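import Cfsg.Statements.S2001
import Cfsg.Agent.Lib.Glaub.CF

set_option autoImplicit false
open Cfsg

namespace Cfsg.Agent.S2001

open Cfsg.Lib.Fus2 Cfsg.Lib.Amalg Subgroup Cfsg.FusionSystem Cfsg.Lib Cfsg.Lib.Glaub

/-- Let p be a prime dividing the order of the finite group G, P a Sylow p-subgroup, W a conjugacy functor for p on G with Z(H) ≤ W(H) for every nontrivial p-subgroup H, and V a central functor: a conjugacy functor with V(H) ≤ Z(H), and V(H) ≤ V(K) whenever Z(H) ≤ Z(K), for nontrivial p-subgroups H, K. Say that W with V controls transfer in a subgroup L when some Sylow p-subgroup Q of L satisfies Q ∩ L' = (Q ∩ (N_L(W(Q)))')·(Q ∩ (C_L(V(Q)))') as a product of two subgroups. If W with V controls transfer in N_G(H) for every subgroup H with Z(P) ≤ H ≤ P, then W with V controls transfer in G. -/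
theorem result {G : Type*} [Group G] [Finite G] {p : ℕ} [Fact p.Prime] (hdiv : p ∣ Nat.card G) (P : Sylow p G) (W V : Subgroup G → Subgroup G) (hW : Cfsg.IsConjugacyFunctor p W) (hV : Cfsg.IsConjugacyFunctor p V) (hWZ : ∀ H : Subgroup G, IsPGroup p ↥H → H ⊓ Subgroup.centralizer ((H : Subgroup G) : Set G) ≤ W H) (hVZ : ∀ H : Subgroup G, IsPGroup p ↥H → V H ≤ H ⊓ Subgroup.centralizer ((H : Subgroup G) : Set G)) (hVmono : ∀ H K : Subgroup G, IsPGroup p ↥H → IsPGroup p ↥K → H ≠ ⊥ → K ≠ ⊥ → H ⊓ Subgroup.centralizer ((H : Subgroup G) : Set G) ≤ K ⊓ Subgroup.centralizer ((K : Subgroup G) : Set G) → V H ≤ V K) (hloc : ∀ H : Subgroup G, (P : Subgroup G) ⊓ Subgroup.centralizer (((P : Subgroup G) : Subgroup G) : Set G) ≤ H → H ≤ (P : Subgroup G) → ∃ Q : Subgroup G, Q ≤ Subgroup.normalizer ((H : Subgroup G) : Set G) ∧ IsPGroup p ↥Q ∧ ¬ p ∣ (Q).relIndex (Subgroup.normalizer ((H : Subgroup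 G) : Set G)) ∧ ∀ x : G, x ∈ Q ⊓ ⁅Subgroup.normalizer ((H : Subgroup G) : Set G), Subgroup.normalizer ((H : Subgroup G) : Set G)⁆ ↔ ∃ a ∈ Q ⊓ ⁅Subgroup.normalizer ((H : Subgroup G) : Set G) ⊓ Subgroup.normalizer ((W Q : Subgroup G) : Set G), Subgroup.normalizer ((H : Subgroup G) : Set G) ⊓ Subgroup.normalizer ((W Q : Subgroup G) : Set G)⁆, ∃ b ∈ Q ⊓ ⁅Subgroup.normalizer ((H : Subgroup G) : Set G) ⊓ Subgroup.centralizer ((V Q : Subgroup G) : Set G), Subgroup.normalizer ((H : Subgroup G) : Set G) ⊓ Subgroup.centralizer ((V Q : Subgroup G) : Set G)⁆, x = a * b) : ∃ Q : Subgroup G, IsPGroup p ↥Q ∧ ¬ p ∣ Q.index ∧ ∀ x : G, x ∈ Q ⊓ commutator G ↔ ∃ a ∈ Q ⊓ ⁅Subgroup.normalizer ((W Q : Subgroup G) : Set G), Subgroup.normalizer ((W Q : Subgroup G) : Set G)⁆, ∃ b ∈ Q ⊓ ⁅Subgroup.centralizer ((V Q : Subgroup G) : Set G), Subgroup.centralizer ((V Q : Subgroup G) : Set G)⁆, x = a * b := by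
  have hS := syl_top P
  have b : ∀ {T H}, Syl p T H → T ≤ H ⊓ 𝐍 (W T) ∧ T ≤ H ⊓ 𝐂 (V T) := fun a =>
    ⟨le_inf a.le (le_normalizer.trans (cf_normalizer_le hW a.isPGroup)),
      le_inf a.le (le_centralizer_iff.1 ((hVZ _ a.isPGroup).trans inf_le_right))⟩
  have c := b hS
  rw [top_inf_eq, top_inf_eq] at c
  refine ⟨P, P.isPGroup', P.not_dvd_index, (tf_pair_iff c.1 le_top le_top).1 (tf_of_gSub hS (by simp [c.1, c.2])
    (le_iSup₂_of_le (𝐍 (W P)) (.inl rfl) (le_inf (commutator_le_self _) (commutator_mono c.1 c.1))) fun D h1 hD =>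
      pair_control hS (hS.ne_bot (by simpa using hdiv)) le_rfl hW hWZ hVmono (hD _ (.inl rfl)) (hD _ (.inr rfl))
        fun Q a1 a2 R a3 a4 a5 a6 => TF.gSub (𝓧 := {𝐍 Q ⊓ 𝐍 (W R), 𝐍 Q ⊓ 𝐂 (V R)}) ?_ a4 ?_ (h1 R a3) ?_)⟩
  · refine (exists_syl_iff a4 (C := fun R => TF {𝐍 Q ⊓ 𝐍 (W R), 𝐍 Q ⊓ 𝐂 (V R)} (𝐍 Q) R) fun U d1 d2 g hg =>
      d2.conj hg ?_).1 ?_
    · rintro _ (rfl | rfl)
      exacts [⟨_, .inl rfl, (cj_inf_normalizer hW d1.isPGroup hg).le⟩, ⟨_, .inr rfl, (cj_inf_centralizer hV d1.isPGroup hg).le⟩]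
    · obtain ⟨U, d1, d2, d3, d4⟩ := hloc Q a2 a1
      exact ⟨U, d1, d2, d3, (tf_pair_iff (b (syl_of_not_dvd d1 d2 d3)).1 inf_le_left inf_le_left).2 d4⟩
  · rintro _ (rfl | rfl)
    exacts [⟨(b a4).1, inf_le_left⟩, ⟨(b a4).2, inf_le_left⟩]
  · rintro _ (rfl | rfl)
    exacts [a5, a6]

end Cfsg.Agent.S2001
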