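import Cfsg.Statements.S2004
import Cfsg.Agent.Lib.Glaub.Stab

set_option autoImplicit false
open Cfsg

namespace Cfsg.Agent.S2004

open Cfsg.Lib.Fus2 Cfsg.Lib.Amalg Subgroup Cfsg.Lib Cfsg.Lib.Glaub

/-- Let p be an odd prime and G a finite group such that SL₂(p) is not involved in N_G(P) for any nonidentity p-subgroup P of G. Then every section of G is p-stable in the normalizer form: in each section, whenever an element of the normalizer of a p-subgroup Q acts quadratically on Q, its image in N(Q)/C(Q) lies in O_p(N(Q)/C(Q)). -/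
theorem result {G : Type*} [Group G] [Finite G] {p : ℕ} [Fact p.Prime] (hp : p ≠ 2) (h : ∀ P : Subgroup G, IsPGroup p ↥P → P ≠ ⊥ → ¬ Cfsg.Involves (Matrix.SpecialLinearGroup (Fin 2) (ZMod p)) ↥(Subgroup.normalizer ((P : Subgroup G) : Set G))) : ∀ (K R : Subgroup G) [hR : (R.subgroupOf K).Normal], Cfsg.IsNormalizerPStable p (↥K ⧸ R.subgroupOf K) := by
  intro K R hR
  refine isNormalizerPStable_iff.2 fun P hP => ?_
  by_cases h0 : P = ⊥
  · exact fun a ha _ => inf_le_opMod (Core.normalizer_le_normalizer_centralizer P) ⟨ha, by rw [h0, Amalg.centralizer_bot]; trivial⟩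
  have hf := MonoidHom.range_eq_top.2 (QuotientGroup.mk'_surjective (R.subgroupOf K))
  generalize QuotientGroup.mk' (R.subgroupOf K) = f at hf
  obtain ⟨T, hT⟩ := exists_syl p (BG1.mpre f P)
  have h1 := BG1.syl_mim f hT (BG1.mpre_le _ _)
  rw [BG1.mim_mpre (hf ▸ le_top)] at h1
  replace h1 := h1.eq_of_isPGroup hP
  refine stab_of_sl2 hp hP le_rfl fun c => h T hT.isPGroup (fun e => h0 (by rw [← h1, e, BG1.mim_bot]))
    (involves_trans (involves_of_le c fun g hg => ?_) (involves_mim f _))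
  obtain ⟨g, rfl⟩ : g ∈ f.range := hf ▸ mem_top g
  obtain ⟨d, hd, n, hn, e⟩ := hT.frattini_mem (BG1.mem_norm_mpre g.2 hg)
  have hdK := BG1.mpre_le _ _ hd
  have hnK : n ∈ K := by simpa [e] using K.mul_mem (K.inv_mem hdK) g.2
  rw [show g = ⟨d, hdK⟩ * ⟨n, hnK⟩ from Subtype.ext e, map_mul]
  exact mul_mem (BG1.mim_mono f le_normalizer (h1 ▸ (BG1.mem_mpre_iff hdK).1 hd)) (BG1.mem_mim_of_mem hnK hn)

end Cfsg.Agent.S2004
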