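import Cfsg.Statements.S2007
import Cfsg.Agent.Lib.Glaub.CF

set_option autoImplicit false
open Cfsg

namespace Cfsg.Agent.S2007

open Cfsg.Lib.Fus2 Cfsg.Lib.Amalg Subgroup Cfsg.FusionSystem Cfsg.Lib Cfsg.Lib.Glaub

/-- Let p be a prime, G a finite group with Sylow p-subgroup S, and T a normal subgroup of S containing C_S(T). If N_G(T)/C_G(T) is a p-group (every element of N_G(T) of order prime to p centralizes T), then N_G(T) has a normal p-complement. -/
theorem result {G : Type*} [Group G] [Finite G] {p : ℕ} [Fact p.Prime] (S : Sylow p G) (T : Subgroup G) (hTS : T ≤ (S : Subgroup G)) (hTn : (S : Subgroup G) ≤ Subgroup.normalizer ((T : Subgroup G) : Set G)) (hC : (S : Subgroup G) ⊓ Subgroup.centralizer ((T : Subgroup G) : Set G) ≤ T) (hN : ∀ g ∈ Subgroup.normalizer ((T : Subgroup G) : Set G), (orderOf g).Coprime p → g ∈ Subgroup.centralizer ((T : Subgroup G) : Set G)) : Cfsg.HasNormalPComplement p ↥(Subgroup.normalizer ((T : Subgroup G) : Set G)) := by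
  rw [Transfer.hasNormalPComplement_iff]
  have h1 := (syl_top S).of_le hTn le_top
  have h2 := h1.inf_normal (centralizer_le_normalizer (T : Set G)) (Core.normalizer_le_normalizer_centralizer T)
  have h3 : Transfer.PNil p (𝐂 T) := (Transfer.sylowIn_iff.2 (syl_iff_not_dvd.1 h2)).pnil_of_normalizer_le_centralizer
    (inf_le_left.trans (centralizer_le hC))
  have h4 := h3.mono (Transfer.resOf_le_iff.2 hN)
  rwa [Transfer.PNil, Transfer.resOf_resOf] at h4

end Cfsg.Agent.S2007
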