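import Cfsg.Statements.S2009
import Cfsg.Agent.Lib.Layer.Bender
import Cfsg.Agent.Lib.Invol.Classes
import Cfsg.Agent.Lib.PGrp.TwoMax
import Cfsg.Agent.Lib.PGrp.Critical

set_option autoImplicit false
open Cfsg

namespace Cfsg.Agent.S2009

open Subgroup Cfsg.Lib.Core Cfsg.Lib.Amalg Cfsg.Lib.BG1 Cfsg.Lib.Layer

/-- Let H be a finite group and z an involution such that every proper normal subgroup of H meets the centralizer of z trivially, and suppose z lies in a Klein four-subgroup E of H all three of whose involutions are conjugate to z in H. Then H is simple. -/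
theorem result {H : Type*} [Group H] [Finite H] (z : H) (hz : orderOf z = 2) (hN : ∀ N : Subgroup H, N.Normal → N ≠ ⊤ → N ⊓ Subgroup.centralizer ({z} : Set H) = ⊥) (E : Subgroup H) (hE : IsKleinFour ↥E) (hzE : z ∈ E) (hc : ∀ e ∈ E, e ≠ 1 → IsConj z e) : IsSimpleGroup H := by
  haveI : Fact (Nat.Prime 2) := ⟨Nat.prime_two⟩
  haveI : Nontrivial H := ⟨⟨z, 1, Lib.Invol.ne_one_of_two hz⟩⟩
  obtain ⟨he, h4⟩ := Lib.PGrp.isKleinFour_iff.1 hE
  refine ⟨fun N hn => or_iff_not_imp_right.2 fun h => eq_bot_iff.2 ?_⟩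
  have h1 := Lib.PGrp.card_modEq_card_inf_centralizer (isPGroup_zpowers_prime hz) (le_normalizer_of_normal' (N := N))
  rw [centralizer_zpowers, hN N hn h, card_bot] at h1
  refine coprime_abelian_gen_cent1 le_normalizer_of_normal' (coprime_of_isPGroup_of_not_dvd Nat.prime_two
    (elemAb_isPGroup he) fun hd => absurd (h1.symm.trans (Nat.modEq_zero_iff_dvd.2 hd)) (by decide)) he.1
    (not_isCyclic_of_elem he h4.ge) fun e heE he1 => ?_
  obtain ⟨g, rfl⟩ := isConj_iff.1 (hc e heE he1)
  rw [← cj_centralizer_singleton, ← cj_normal g N, ← cj_inf, hN N hn h, cj_bot]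

end Cfsg.Agent.S2009
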