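import Cfsg.Statements.S2036
import Cfsg.Agent.Lib.Comp.M22x.Mu
import Cfsg.Agent.Lib.Comp.M22x.Cv41
import Cfsg.Agent.Lib.Comp.M22x.Cv3
import Cfsg.Agent.Lib.Golay.Stab

set_option autoImplicit false
open Cfsg

namespace Cfsg.Agent.S2036

open Cfsg.Lib.Comp

/-- The Schur multiplier of the Mathieu group M₂₂ (the permutations in the automorphism group of the length-24 binary code that fix each of two given points) is cyclic of order 12; here the Schur multiplier is described through stem extensions, as in the definitions: surjective homomorphisms onto the group from a finite group, whose kernel is central in that finite group and contained in that finite group's commutator subgroup. -/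
theorem result : Cfsg.HasCyclicSchurMultiplier ↥Cfsg.Spor.M22 12 := by
  obtain ⟨e⟩ := M22x.perm
  have := M22x.nets_ok.finite M22x.L
  have := Cfsg.Lib.Golay.simple_M22
  exact Cfsg.Lib.Mult.mult_congr_left (MB.mult (m := 12) (r := 2310) (i := 7) M22x.Mu_mb (by rw [M22x.card]; norm_num)
    (M22x.Cv4 e.symm.isSimpleGroup) (M22x.Cv3 e.symm.isSimpleGroup) (by norm_num)) e.symm

end Cfsg.Agent.S2036
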