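import Cfsg.Statements.S2040
import Cfsg.Agent.Lib.J2.Iso
import Cfsg.Agent.Lib.Comp.J2x.Mu
import Cfsg.Agent.Lib.Comp.J2x.Cv2
-- import your own Cfsg.Agent.* helpers here

set_option autoImplicit false
open Cfsg

namespace Cfsg.Agent.S2040

open Cfsg.Lib.J2 Cfsg.Lib.Comp

/-- The Schur multiplier of the Hall–Janko group J₂ (the icosian reflection group modulo its centre) is cyclic of order 2; here the Schur multiplier is described through stem extensions, as in the definitions: surjective homomorphisms onto the group from a finite group, whose kernel is central in that finite group and contained in that finite group's commutator subgroup. -/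
theorem result : Cfsg.HasCyclicSchurMultiplier Cfsg.Spor.J2 2 := by
  obtain ⟨e, -⟩ := equiv
  have := J2x.nets_ok.finite J2x.L
  exact Cfsg.Lib.Mult.mult_congr_left (MB.mult (m := 2) (r := 210) (i := 7) J2x.Mu_mb (by rw [J2x.card]; norm_num)
    (J2x.Cv2 J2x.simple) (cover_one _) (by norm_num)) e.symm

end Cfsg.Agent.S2040
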