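import Cfsg.Statements.S2041
import Cfsg.Agent.Lib.Comp.J3x.Mat
import Cfsg.Agent.Lib.Comp.J3x.Mu

set_option autoImplicit false
open Cfsg

namespace Cfsg.Agent.S2041

open Cfsg.Lib.Comp

/-- For any field with 4 elements and any element ω of it with ω² + ω + 1 = 0: the Schur multiplier of the Janko group J₃ (the group generated by explicit 9 × 9 matrices over that field built from ω, taken modulo its centre) is cyclic of order 3; here the Schur multiplier is described through stem extensions, as in the definitions: surjective homomorphisms onto the group from a finite group, whose kernel is central in that finite group and contained in that finite group's commutator subgroup. -/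
theorem result {F : Type*} [Field F] [Fintype F] (hF : Fintype.card F = 4) (ω : F) (hω : ω ^ 2 + ω + 1 = 0) : Cfsg.HasCyclicSchurMultiplier (Cfsg.Spor.J3 F ω) 3 := by
  obtain ⟨-, -, ⟨e⟩⟩ := J3x.three hF hω
  have := J3x.nets_ok.finite J3x.L
  exact Cfsg.Lib.Mult.mult_congr_left (MB.mult (m := 3) (r := 9690) (i := 7) J3x.Mu_mb (by rw [J3x.card]; norm_num)
    J3x.cover (cover_one _) (by norm_num)) e

end Cfsg.Agent.S2041
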