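import Cfsg.Statements.S2043
import Cfsg.Agent.Lib.Comp.Co1y.Iso
import Cfsg.Agent.Lib.Comp.Co1y.Mua
import Cfsg.Agent.Lib.Comp.Quot
import Cfsg.Agent.Lib.Leech.Simple

set_option autoImplicit false
open Cfsg

namespace Cfsg.Agent.S2043

open Cfsg.Lib.Comp

/-- The Schur multiplier of the Conway group Co₁ (the automorphism group of the rank-24 lattice modulo its centre) is cyclic of order 2; here the Schur multiplier is described through stem extensions, as in the definitions: surjective homomorphisms onto the group from a finite group, whose kernel is central in that finite group and contained in that finite group's commutator subgroup. -/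
theorem result : Cfsg.HasCyclicSchurMultiplier Cfsg.Spor.Co1 2 := by
  obtain ⟨e⟩ := Cfsg.Lib.Comp.Co1y.perm
  have := Cfsg.Lib.Comp.Co1y.nets_ok.finite Cfsg.Lib.Comp.Co1y.L
  have hc : Subgroup.center Cfsg.Co0 ≤ commutator Cfsg.Co0 := by
    rcases Cfsg.Lib.Leech.normal_Co0 (N := commutator Cfsg.Co0) inferInstance with h | h
    · have h1 := Subgroup.Normal.quotient_commutative_iff_commutator_le.2 h
      have h2 := Cfsg.Lib.Leech.simple_Co1
      letI : CommGroup Cfsg.Spor.Co1 := { mul_comm := h1.is_comm.comm }
      have h3 := IsSimpleGroup.prime_card (α := Cfsg.Spor.Co1)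
      rw [Cfsg.Lib.Leech.card_Co1] at h3
      exact absurd (h3.eq_one_or_self_of_dvd 2 (by norm_num)) (by norm_num)
    · rw [h]; exact le_top
  have hk := Cfsg.Lib.Comp.cover_of_quot e.symm hc
  rw [Cfsg.Lib.Leech.card_center] at hk
  exact Cfsg.Lib.Mult.mult_congr_left (Cfsg.Lib.Comp.MB.mult (m := 2) (r := 690690) (i := 21)
    Cfsg.Lib.Comp.Co1y.Mua_mb (by rw [Cfsg.Lib.Comp.Co1y.card]; norm_num) hk hk (by norm_num)) e.symm

end Cfsg.Agent.S2043
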