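import Cfsg.Statements.S2044
import Cfsg.Agent.Lib.Comp.Co2y.Mua
import Cfsg.Agent.Lib.Comp.Co2y.Muc
import Cfsg.Agent.Lib.Comp.Co2z.Mub
import Cfsg.Agent.Lib.Comp.TMult2
import Cfsg.Agent.Lib.Comp.Cover2

set_option autoImplicit false
open Cfsg

namespace Cfsg.Agent.S2044

open Cfsg.Lib.Comp

/-- The Schur multiplier of the Conway group Co₂ (the stabiliser of a minimal vector of the rank-24 lattice) is trivial; here the Schur multiplier is described through stem extensions, as in the definitions: surjective homomorphisms onto the group from a finite group, whose kernel is central in that finite group and contained in that finite group's commutator subgroup. -/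
theorem result : Cfsg.HasCyclicSchurMultiplier ↥Cfsg.Spor.Co2 1 := by
  obtain ⟨e⟩ := Co2y.perm
  have := Co2y.nets_ok.finite Co2y.L
  exact Cfsg.Lib.Mult.mult_congr_left ((MB.mul (MB.mul Co2y.Mua_mb Co2y.Muc_mb (by norm_num) (by norm_num) (by norm_num))
    (Co2z.Mub_mb.congr (MulEquiv.subgroupCongr Co2z.cl_eq)) (by norm_num) (by norm_num) (by norm_num)).mult_one (i := 18)
    (by rw [Co2y.card]; norm_num)) e.symm

end Cfsg.Agent.S2044
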