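import Cfsg.Statements.S2045
import Cfsg.Agent.Lib.Comp.Co3y.Mu

set_option autoImplicit false
open Cfsg

namespace Cfsg.Agent.S2045

open Cfsg.Lib.Comp

/-- The Schur multiplier of the Conway group Co₃ (the stabiliser of a vector of the second shortest length in the rank-24 lattice) is trivial; here the Schur multiplier is described through stem extensions, as in the definitions: surjective homomorphisms onto the group from a finite group, whose kernel is central in that finite group and contained in that finite group's commutator subgroup. -/
theorem result : Cfsg.HasCyclicSchurMultiplier ↥Cfsg.Spor.Co3 1 := by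
  obtain ⟨e⟩ := Co3y.perm
  have := Co3y.nets_ok.finite Co3y.L
  exact Cfsg.Lib.Mult.mult_congr_left (Co3y.Mu_mb.mult_one (i := 10) (by rw [Co3y.card]; norm_num)) e.symm

end Cfsg.Agent.S2045
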