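import Cfsg.Statements.S2047
import Cfsg.Agent.Lib.Comp.McLy.Mu
import Cfsg.Agent.Lib.Comp.McLy.Cv32

set_option autoImplicit false
open Cfsg

namespace Cfsg.Agent.S2047

open Cfsg.Lib.Comp

/-- The Schur multiplier of the McLaughlin group (as a two-vector stabiliser in the automorphism group of the rank-24 lattice) is cyclic of order 3; here the Schur multiplier is described through stem extensions, as in the definitions: surjective homomorphisms onto the group from a finite group, whose kernel is central in that finite group and contained in that finite group's commutator subgroup. -/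
theorem result : Cfsg.HasCyclicSchurMultiplier ↥Cfsg.Spor.McL 3 := by
  obtain ⟨e⟩ := McLy.perm
  have := McLy.nets_ok.finite McLy.L
  have := Cfsg.Lib.Leech.simple_sMcL
  have := Cfsg.Lib.Leech.mclEquiv.symm.isSimpleGroup
  exact Cfsg.Lib.Mult.mult_congr_left (MB.mult (m := 3) (r := 2310) (i := 7) McLy.Mu_mb (by rw [McLy.card]; norm_num)
    (McLy.Cv3 e.symm.isSimpleGroup) (cover_one _) (by norm_num)) e.symm

end Cfsg.Agent.S2047
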