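import Cfsg.Statements.S2048
import Cfsg.Agent.Lib.Comp.Suz.Mua
import Cfsg.Agent.Lib.Comp.Suz.Mub
import Cfsg.Agent.Lib.Comp.Suz.Cv22
import Cfsg.Agent.Lib.Comp.Suz.Cv3
import Cfsg.Agent.Lib.Comp.TMult2

set_option autoImplicit false
open Cfsg

namespace Cfsg.Agent.S2048

open Cfsg.Lib.Comp

/-- The Schur multiplier of the Suzuki sporadic group (the finitely presented group of the definitions) is cyclic of order 6; here the Schur multiplier is described through stem extensions, as in the definitions: surjective homomorphisms onto the group from a finite group, whose kernel is central in that finite group and contained in that finite group's commutator subgroup. -/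
theorem result : Cfsg.HasCyclicSchurMultiplier Cfsg.Spor.Suz 6 := by
  obtain ⟨e, -⟩ := Suz.equiv
  have := Suz.nets_ok.finite Suz.L
  exact Cfsg.Lib.Mult.mult_congr_left (MB.mult (m := 6) (r := 30030) (i := 13)
    (MB.mul Suz.Mua_mb Suz.Mub_mb (by norm_num) (by norm_num) (by norm_num)) (by rw [Suz.card]; norm_num)
    (Suz.Cv2 Suz.simple) (Suz.Cv3 Suz.simple) (by norm_num)) e.symm

end Cfsg.Agent.S2048
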