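import Cfsg.Statements.S2050
import Cfsg.Agent.Lib.Comp.Ly.Mcl
import Cfsg.Agent.S2047
import Cfsg.Agent.S2100
import Cfsg.Agent.S0892

set_option autoImplicit false
open Cfsg

namespace Cfsg.Agent.S2050

open Cfsg.Lib.Comp

/-- The Schur multiplier of the Lyons group (the finitely presented group of the definitions) is trivial; here the Schur multiplier is described through stem extensions, as in the definitions: surjective homomorphisms onto the group from a finite group, whose kernel is central in that finite group and contained in that finite group's commutator subgroup. -/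
theorem result : Cfsg.HasCyclicSchurMultiplier Cfsg.Spor.Ly 1 := by
  have perf : ∀ (Q : Type) [Group Q] [IsSimpleGroup Q], Subgroup.center Q = ⊥ → Group.IsPerfect Q := fun Q _ _ hc =>
    ⟨(IsSimpleGroup.eq_bot_or_eq_top_of_normal _ inferInstance).resolve_left fun h => by
      rw [commutator_eq_bot_iff_center_eq_top, hc] at h
      exact bot_ne_top h⟩
  refine Lib.Mult.mult_one_iff.2 fun Γ _ _ σ hσ => eq_bot_iff.2 fun z hz => ?_
  have := Ly.simpleH
  have := Ly.mcl_simple
  have : IsSimpleGroup (alternatingGroup (Fin 11)) := alternatingGroup.isSimpleGroup (by simp)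
  have : Fact (Nat.Prime 3) := ⟨by norm_num⟩
  have h1 := pow_index_perfect hσ (K := Ly.HH) (perf _ (center_eq_bot (by rw [Ly.cardH]; norm_num)))
    (Lib.Mult.mult_congr_left (S2100.result (F := ZMod 5) (by decide)) Ly.isoG.some.symm) hz
  have h2 := pow_index_perfect hσ (Lib.Mult.perfect_of_stem Ly.piA_stem (perf _ Ly.center_A11))
    (mult_one_of_le Ly.piA_stem (perf _ Ly.center_A11) fun Γ _ _ τ hτ => by
      rw [Ly.piA_ker, Ly.card_ZT]
      exact S0892.result 11 (by norm_num) (by norm_num) (by norm_num) τ.ker hτ.2.1 hτ.2.2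
        (QuotientGroup.quotientKerEquivOfSurjective τ hτ.1)) hz
  have h3 := pow_index_perfect hσ (Lib.Mult.perfect_of_stem Ly.piM_stem (perf _ Ly.mcl_center))
    (Lib.Mult.mult_one_of_cover S2047.result (Lib.Mult.perfect_of_stem Ly.piM_stem (perf _ Ly.mcl_center)) Ly.piM_stem
      ⟨mulEquivOfPrimeCardEq Ly.piM_ker (by simp)⟩) hz
  have ix : ∀ (K : Subgroup Spor.Ly) (n m : ℕ), Nat.card K = n → 0 < n → m * n = 51765179004000000 → K.index = m :=
    fun K n m a b c => Nat.eq_of_mul_eq_mul_right b (by rw [c, ← a, K.index_mul_card, Ly.card])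
  have cy : ∀ p m : ℕ, p.Prime → m * p = 51765179004000000 → z ^ m = 1 := fun p m hp h => by
    have := Fact.mk hp
    obtain ⟨g, hg⟩ := exists_prime_orderOf_dvd_card' (G := Spor.Ly) p (by rw [Ly.card, ← h]; exact dvd_mul_left _ _)
    rw [← ix _ p m ((Nat.card_zpowers g).trans hg) hp.pos h]
    exact pow_index_cyclic hσ g hz
  rw [Ly.index] at h1
  rw [ix _ _ 1296826875 Ly.card_CT (by norm_num) (by norm_num)] at h2
  rw [ix _ _ 19212250 Ly.card_M (by norm_num) (by norm_num)] at h3
  have h4 := pow_gcd_eq_one.2 ⟨pow_gcd_eq_one.2 ⟨pow_gcd_eq_one.2 ⟨h1, h2⟩, h3⟩, pow_gcd_eq_one.2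
    ⟨cy 37 1399058892000000 (by norm_num) (by norm_num), cy 67 772614612000000 (by norm_num) (by norm_num)⟩⟩
  rwa [show Nat.gcd _ _ = 1 by decide +kernel, pow_one] at h4

end Cfsg.Agent.S2050
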