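import Cfsg.Statements.S2052
import Cfsg.Agent.Lib.Comp.ON.Mua
import Cfsg.Agent.Lib.Comp.ON.Mub
import Cfsg.Agent.Lib.Comp.ON.Cv34
import Cfsg.Agent.Lib.Comp.TMult2

set_option autoImplicit false
open Cfsg

namespace Cfsg.Agent.S2052

open Cfsg.Lib.Comp

/-- The Schur multiplier of the O'Nan group (the finitely presented group of the definitions) is cyclic of order 3; here the Schur multiplier is described through stem extensions, as in the definitions: surjective homomorphisms onto the group from a finite group, whose kernel is central in that finite group and contained in that finite group's commutator subgroup. -/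
theorem result : Cfsg.HasCyclicSchurMultiplier Cfsg.Spor.ON 3 := by
  obtain ⟨e, -⟩ := ON.equiv
  have := ON.nets_ok.finite ON.L
  exact Cfsg.Lib.Mult.mult_congr_left (MB.mult (m := 3) (r := 1360590) (i := 9)
    (MB.mul ON.Mua_mb ON.Mub_mb (by norm_num) (by norm_num) (by norm_num)) (by rw [ON.card]; norm_num)
    (ON.Cv3 ON.simple) (cover_one _) (by norm_num)) e.symm

end Cfsg.Agent.S2052
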