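import Cfsg.Statements.S2053
import Cfsg.Agent.Lib.Comp.Fi22.Mua
import Cfsg.Agent.Lib.Comp.Fi22.Mub
import Cfsg.Agent.Lib.Comp.Fi22.Cv33
import Cfsg.Agent.Lib.Comp.Fi23.Two
import Cfsg.Agent.Lib.Comp.TMult2
import Cfsg.Agent.Lib.Comp.Quot

set_option autoImplicit false
open Cfsg

namespace Cfsg.Agent.S2053

open Cfsg.Lib.Comp

/-- The Schur multiplier of the Fischer group Fi₂₂ (the finitely presented group of the definitions) is cyclic of order 6; here the Schur multiplier is described through stem extensions, as in the definitions: surjective homomorphisms onto the group from a finite group, whose kernel is central in that finite group and contained in that finite group's commutator subgroup. -/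
theorem result : Cfsg.HasCyclicSchurMultiplier Cfsg.Spor.Fi22 6 := by
  obtain ⟨e, -⟩ := Fi22.equiv
  have := Fi22.nets_ok.finite Fi22.L
  have h2 : Cover (cl (gp Fi22.nets) Fi22.L) 2 := by
    obtain ⟨h1, ⟨e2⟩, -⟩ := Fi23.K_cover
    have := cover_of_quot (e.symm.trans e2.symm) (by rw [Fi23.K_perfect]; exact le_top)
    rwa [h1] at this
  exact Cfsg.Lib.Mult.mult_congr_left (MB.mult (m := 6) (r := 30030) (i := 17)
    (MB.mul Fi22.Mua_mb Fi22.Mub_mb (by norm_num) (by norm_num) (by norm_num)) (by rw [Fi22.card]; norm_num)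
    h2 (Fi22.Cv3 Fi22.simple) (by norm_num)) e.symm

end Cfsg.Agent.S2053
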