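import Cfsg.Statements.S2055
import Cfsg.Agent.Lib.Comp.F24p.Cov
import Cfsg.Agent.Lib.Comp.F24p.Mu
import Cfsg.Agent.Lib.Comp.Cover2

set_option autoImplicit false
open Cfsg

namespace Cfsg.Agent.S2055

open Cfsg.Lib.Comp

/-- The Schur multiplier of the Fischer group Fi₂₄′ (the commutator subgroup of the presented group Fi₂₄) is cyclic of order 3; here the Schur multiplier is described through stem extensions, as in the definitions: surjective homomorphisms onto the group from a finite group, whose kernel is central in that finite group and contained in that finite group's commutator subgroup. -/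
theorem result : Cfsg.HasCyclicSchurMultiplier Cfsg.Spor.Fi24' 3 := by
  exact MB.mult (m := 3) (r := 340510170) (i := 21) (F24p.Mu_mb.congr (MulEquiv.subgroupCongr F24p.cl_eq))
    (by rw [Fi24.card24']; norm_num) Fi24.cover Fi24.cover (by norm_num)

end Cfsg.Agent.S2055
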