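import Cfsg.Statements.S2087
import Cfsg.Agent.Lib.Linear.MultA
import Cfsg.Agent.Lib.Linear.SmallIso

set_option autoImplicit false
open Cfsg

namespace Cfsg.Agent.S2087

/-- Exceptional Schur multiplier: over the field with 2 elements, PSL₃ has Schur multiplier cyclic of order 2 (here the Schur multiplier is described through stem extensions, as in the definitions). -/
theorem result {F : Type*} [Field F] [Fintype F] (hF : Fintype.card F = 2) : Cfsg.HasCyclicSchurMultiplier (Matrix.ProjectiveSpecialLinearGroup (Fin 3) F) 2 := by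
  obtain ⟨e⟩ := Cfsg.Lib.Linear.psl2_seven_equiv (F := ZMod 7) (K := F) (by simp) (by rw [Nat.card_eq_fintype_card, hF])
  have h7 : Cfsg.HasCyclicSchurMultiplier (Matrix.ProjectiveSpecialLinearGroup (Fin 2) (ZMod 7))
      (Nat.gcd 2 (Nat.card (ZMod 7) - 1)) :=
    Cfsg.Lib.Linear.mult_PSL_of_cclosed (Cfsg.Lib.Linear.cclosed_SL2 (by simp) (by simp))
      (Cfsg.Lib.Linear.sl_fin_isPerfect (by simp)).commutator_eq_top
  have h : Nat.gcd 2 (Nat.card (ZMod 7) - 1) = 2 := by simp
  rw [h] at h7
  exact Cfsg.Lib.Mult.mult_congr_left h7 e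

end Cfsg.Agent.S2087
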