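import Cfsg.Statements.S2088
import Cfsg.Agent.Lib.Comp.L34x.Mu
import Cfsg.Agent.Lib.Comp.L34x.Cov
import Cfsg.Agent.Lib.Comp.L34x.Mat

set_option autoImplicit false
open Cfsg

namespace Cfsg.Agent.S2088

open Cfsg.Lib.Comp Cfsg.Lib.MatB


/-- Exceptional Schur multiplier: over the field with 4 elements, PSL₃ has Schur multiplier isomorphic to the product of cyclic groups of orders 3, 4 and 4 (order 48, not cyclic; here the Schur multiplier is described through stem extensions, as in the definitions). -/
theorem result {F : Type*} [Field F] [Fintype F] (hF : Fintype.card F = 4) : Cfsg.HasSchurMultiplier (Matrix.ProjectiveSpecialLinearGroup (Fin 3) F) (Multiplicative (ZMod 3 × ZMod 4 × ZMod 4)) := by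
  obtain ⟨e⟩ := L34x.iso hF
  have := L34x.nets_ok.finite L34x.L
  exact Cfsg.Lib.Mult.mult_congr_left (MB2.mult3 (l := 3) (m := 4) (r := 210) (i := 6) L34x.Mu_mb (by norm_num)
    (by rw [L34x.card]; norm_num) L34x.cover (s := 1) (t := 3) (by norm_num)) e

end Cfsg.Agent.S2088
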