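import Cfsg.Statements.S2093
import Cfsg.Agent.Lib.Comp.Sp6x.Mu
import Cfsg.Agent.Lib.Comp.Sp6x.Cov
import Cfsg.Agent.Lib.Comp.Sp6x.Mat

set_option autoImplicit false
open Cfsg

namespace Cfsg.Agent.S2093

open Cfsg.Lib.Comp Cfsg.Lib.MatB


/-- Exceptional Schur multiplier: over the field with 2 elements, PSp₆ has Schur multiplier cyclic of order 2 (here the Schur multiplier is described through stem extensions, as in the definitions). -/
theorem result {F : Type*} [Field F] [Fintype F] (hF : Fintype.card F = 2) : Cfsg.HasCyclicSchurMultiplier (Cfsg.PSp 3 F) 2 := by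
  obtain ⟨e⟩ := Sp6x.iso hF
  have := Sp6x.nets_ok.finite Sp6x.L
  exact Cfsg.Lib.Mult.mult_congr_left (MB.multGe (r := 210) (i := 9) Sp6x.Mu_mb (by rw [Sp6x.card]; norm_num) Sp6x.cover) e

end Cfsg.Agent.S2093
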