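import Cfsg.Statements.S2095
import Cfsg.Agent.Lib.Comp.O7x.Mu
import Cfsg.Agent.Lib.Comp.O7x.Cov
import Cfsg.Agent.Lib.Comp.O7x.Mat

set_option autoImplicit false
open Cfsg

namespace Cfsg.Agent.S2095

open Cfsg.Lib.Comp Cfsg.Lib.MatB


/-- Exceptional Schur multiplier: over the field with 3 elements, PΩ₇ (for the form x₀² + Σ xᵢyᵢ) has Schur multiplier cyclic of order 6 (the product of cyclic groups of orders 3 and 2; here the Schur multiplier is described through stem extensions, as in the definitions). -/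
theorem result {F : Type*} [Field F] [Fintype F] (hF : Fintype.card F = 3) : Cfsg.HasCyclicSchurMultiplier (Cfsg.POmega F (Cfsg.quadFormOdd 3 F)) 6 := by
  obtain ⟨e⟩ := O7x.iso hF
  have := O7x.nets_ok.finite O7x.L
  exact Cfsg.Lib.Mult.mult_congr_left (MB.multGe (r := 2730) (i := 9) O7x.Mu_mb (by rw [O7x.card]; norm_num) O7x.cover) e

end Cfsg.Agent.S2095
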