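import Cfsg.Statements.S2096
import Cfsg.Agent.Lib.Linear.MultBD

set_option autoImplicit false
open Cfsg

namespace Cfsg.Agent.S2096

/-- Schur multipliers of the even-dimensional orthogonal groups of plus type and odd rank: for odd l ≥ 5 and a field F with q elements, the Schur multiplier of PΩ⁺_2l(F) (for the form Σ xᵢyᵢ) is cyclic of order gcd(4, q^l − 1); here the Schur multiplier is described through stem extensions, as in the definitions. -/
theorem result {F : Type*} [Field F] [Fintype F] {q : ℕ} (hF : Fintype.card F = q) (l : ℕ) (hl : 5 ≤ l) (hodd : Odd l) : Cfsg.HasCyclicSchurMultiplier (Cfsg.POmega F (Cfsg.quadFormPlus l F)) (Nat.gcd 4 (q ^ l - 1)) := by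
  subst hF
  rw [← Nat.card_eq_fintype_card] at *
  obtain ⟨n, rfl⟩ : ∃ n, l = n + 2 := ⟨l - 2, by omega⟩
  have h1 : 1 < Nat.card F := Finite.one_lt_card
  have : Nat.gcd 4 (Nat.card F ^ (n + 2) - 1) = Nat.gcd 4 (Nat.card F - 1) := by
    generalize Nat.card F = q at h1
    obtain ⟨k, hk⟩ := hodd
    have h2 := Nat.one_le_pow (n + 2) _ (zero_lt_one.trans h1)
    have h3 : q ^ (n + 2) % 4 = q % 4 ∨ q ^ (n + 2) % 2 = 0 ∧ q % 2 = 0 := by
      rw [hk, pow_succ, pow_mul, Nat.mul_mod, Nat.pow_mod, Nat.pow_mod q, Nat.mul_mod _ _ 2]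
      have : q % 4 = 1 ∨ q % 4 = 3 ∨ q % 2 = 0 := by omega
      rcases this with e | e | e <;> simp [e]
    rw [Nat.gcd_rec, Nat.gcd_rec 4]
    rcases h3 with e | e
    · congr 1; omega
    · have a : (q ^ (n + 2) - 1) % 4 = 1 ∨ (q ^ (n + 2) - 1) % 4 = 3 := by omega
      have b : (q - 1) % 4 = 1 ∨ (q - 1) % 4 = 3 := by omega
      rcases a with a | a <;> rcases b with b | b <;> simp [a, b]
  rw [this]
  exact Cfsg.Lib.Linear.mult_POmega_plus (by omega) (by omega)
    (Cfsg.Lib.Linear.WtData.Std.D_ker_odd _ _ _ (by obtain ⟨k, hk⟩ := hodd; exact ⟨k - 1, by omega⟩)).some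

end Cfsg.Agent.S2096
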