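import Cfsg.Statements.S2097
import Cfsg.Agent.Lib.Linear.MultBD

set_option autoImplicit false
open Cfsg

namespace Cfsg.Agent.S2097

/-- Schur multipliers of the even-dimensional orthogonal groups of plus type and even rank: for even l ≥ 4 and a field F with q elements, (l, q) ≠ (4, 2), the Schur multiplier of PΩ⁺_2l(F) (for the form Σ xᵢyᵢ) is the product of two cyclic groups of order gcd(2, q^l − 1) (so trivial for q even and a four-group for q odd; here the Schur multiplier is described through stem extensions, as in the definitions). -/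
theorem result {F : Type*} [Field F] [Fintype F] {q : ℕ} (hF : Fintype.card F = q) (l : ℕ) (hl : 4 ≤ l) (heven : Even l) (hexc : ¬ (l = 4 ∧ q = 2)) : Cfsg.HasSchurMultiplier (Cfsg.POmega F (Cfsg.quadFormPlus l F)) (Multiplicative (ZMod (Nat.gcd 2 (q ^ l - 1)) × ZMod (Nat.gcd 2 (q ^ l - 1)))) := by
  subst hF
  rw [← Nat.card_eq_fintype_card] at *
  obtain ⟨n, rfl⟩ : ∃ n, l = n + 2 := ⟨l - 2, by omega⟩
  have h1 : 1 < Nat.card F := Finite.one_lt_card
  have : Nat.gcd 2 (Nat.card F ^ (n + 2) - 1) = Nat.gcd 2 (Nat.card F - 1) := by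
    generalize Nat.card F = q at h1
    have h2 := Nat.one_le_pow (n + 2) _ (zero_lt_one.trans h1)
    have h3 : q ^ (n + 2) % 2 = q % 2 := by
      rcases Nat.mod_two_eq_zero_or_one q with e | e <;> simp [Nat.pow_mod, e]
    rw [Nat.gcd_rec, Nat.gcd_rec 2]; congr 1; omega
  rw [this]
  obtain ⟨k, hk⟩ := heven
  exact Cfsg.Lib.Linear.mult_POmega_plus (by omega) (by omega)
    (Cfsg.Lib.Linear.WtData.Std.D_ker_even _ _ _ ⟨k - 1, by omega⟩).some

end Cfsg.Agent.S2097
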