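import Cfsg.Statements.S2102
import Cfsg.Agent.Lib.Comp.G24x.Mu
import Cfsg.Agent.Lib.Comp.G24x.Cov
import Cfsg.Agent.Lib.Comp.G24x.Mat

set_option autoImplicit false
open Cfsg

namespace Cfsg.Agent.S2102

open Cfsg.Lib.Comp Cfsg.Lib.MatB


/-- Exceptional Schur multiplier: over the field with 4 elements the Chevalley group of type G₂ has Schur multiplier cyclic of order 2 (here the Schur multiplier is described through stem extensions, as in the definitions). -/
theorem result {F : Type*} [Field F] [Fintype F] (hF : Fintype.card F = 4) : Cfsg.HasCyclicSchurMultiplier ↥(Cfsg.Lie.chevG2.group F) 2 := by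
  obtain ⟨e⟩ := G24x.iso hF
  have := G24x.nets_ok.finite G24x.L
  exact Cfsg.Lib.Mult.mult_congr_left (MB.multGe (r := 2730) (i := 12) G24x.Mu_mb (by rw [G24x.card]; norm_num) G24x.cover) e

end Cfsg.Agent.S2102
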