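import Cfsg.Statements.S2103
import Cfsg.Agent.Lib.Chev.Mult

set_option autoImplicit false
open Cfsg Cfsg.Lie Cfsg.Lib.Chev

namespace Cfsg.Agent.S2103

/-- Schur multipliers of the Chevalley groups of type F₄: over a finite field with more than 2 elements the Schur multiplier of F₄(q) is trivial (here the Schur multiplier is described through stem extensions, as in the definitions); q = 2 is exceptional. -/
theorem result {F : Type*} [Field F] [Fintype F] (hF : 3 ≤ Fintype.card F) : Cfsg.HasCyclicSchurMultiplier ↥(Cfsg.Lie.chevF4.group F) 1 := by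
  obtain ⟨R, η, hc, hm⟩ := good_of_mem (D := chevF4) (by simp)
  have hK : Nat.card F ≠ 2 := by rw [Nat.card_eq_fintype_card]; omega
  exact hc.multiplier_group hm (by simp) (fun _ => exists_ne_zero_one hK) (hc.cclosed_of_lifts hm fun _ _ _ h =>
    lifts_F4 hc (hc.st_of_exact hm (by simp) hc.sc_exact) (hc.sc_sep hm) hc.sc_exact h hK) (card_cartanKer_F4 hc) (Or.inl rfl)

end Cfsg.Agent.S2103
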