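import Cfsg.Statements.S2105
import Cfsg.Agent.Lib.Chev.Mult

set_option autoImplicit false
open Cfsg Cfsg.Lie Cfsg.Lib.Chev

namespace Cfsg.Agent.S2105

/-- Schur multipliers of the (adjoint, simple) Chevalley groups of type E₆: over a field with q elements the Schur multiplier is cyclic of order gcd(3, q − 1) (here the Schur multiplier is described through stem extensions, as in the definitions). -/
theorem result {F : Type*} [Field F] [Fintype F] {q : ℕ} (hF : Fintype.card F = q) : Cfsg.HasCyclicSchurMultiplier ↥(Cfsg.Lie.chevE6.group F) (Nat.gcd 3 (q - 1)) := by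
  obtain ⟨R, η, hc, hm⟩ := good_of_mem (D := chevE6) (by simp)
  refine hc.multiplier_group hm (by simp) (fun h => ?_) (hc.cclosed_of_lifts hm fun _ _ _ h =>
    lifts_E6 hc (hc.st_of_exact hm (by simp) hc.sc_exact) (hc.sc_sep hm) h) (by rw [card_cartanKer_E6 hc, Nat.card_eq_fintype_card, hF]) (gcd_eq_one_or_prime Nat.prime_three _)
  rcases h with h | h <;> exact absurd (congrArg ChevalleyDatum.rank h) (by decide)

end Cfsg.Agent.S2105
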