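import Cfsg.Statements.S2107
import Cfsg.Agent.Lib.Chev.Mult

set_option autoImplicit false
open Cfsg Cfsg.Lie Cfsg.Lib.Chev

namespace Cfsg.Agent.S2107

/-- Schur multipliers of the Chevalley groups of type E₈: over every finite field the Schur multiplier of E₈(q) is trivial (here the Schur multiplier is described through stem extensions, as in the definitions). -/
theorem result {F : Type*} [Field F] [Fintype F] : Cfsg.HasCyclicSchurMultiplier ↥(Cfsg.Lie.chevE8.group F) 1 := by
  obtain ⟨R, η, hc, hm⟩ := good_of_mem (D := chevE8) (by simp)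
  refine hc.multiplier_group hm (by simp) (fun h => ?_) (hc.cclosed_of_lifts hm fun _ _ _ h =>
    lifts_E8 hc (hc.st_of_exact hm (by simp) hc.sc_exact) (hc.sc_sep hm) h) (card_cartanKer_E8 hc) (Or.inl rfl)
  rcases h with h | h <;> exact absurd (congrArg ChevalleyDatum.rank h) (by decide)

end Cfsg.Agent.S2107
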