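import Cfsg.Statements.S2115
import Cfsg.Agent.Lib.Comp.Titsx.Mu
import Cfsg.Agent.Lib.Comp.Titsx.Mat

set_option autoImplicit false
open Cfsg

namespace Cfsg.Agent.S2115

open Cfsg.Lib.Comp Cfsg.Lib.MatB


/-- The Tits group, the commutator subgroup of ²F₄(2), has trivial Schur multiplier (here the Schur multiplier is described through stem extensions, as in the definitions). -/
theorem result : Cfsg.HasCyclicSchurMultiplier Cfsg.Lie.TitsGroup 1 := by
  obtain ⟨e⟩ := Titsx.iso.2
  have := Titsx.nets_ok.finite Titsx.L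
  exact Cfsg.Lib.Mult.mult_congr_left (MB.mult_one (i := 11) Titsx.Mu_mb (by rw [Titsx.card]; norm_num)) e

end Cfsg.Agent.S2115
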