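import Cfsg.Statements.S2136
import Cfsg.Agent.Lib.Comp.Co2y.XCen
import Cfsg.Agent.Lib.Comp.Sp6x.Mat
import Cfsg.Agent.Lib.Fi.Hom
-- import your own Cfsg.Agent.* helpers here

set_option autoImplicit false
open Cfsg

namespace Cfsg.Agent.S2136

open Cfsg.Lib.Comp Cfsg.Lib.Comp.Co2y

/-- The Conway group Co₂ (the stabiliser of a minimal vector of the rank-24 lattice) has an involution whose centraliser C has largest normal 2-subgroup extraspecial of order 2^9 with quotient C / O₂(C) isomorphic to the symplectic group Sp(6, 2) (shape 2^{1+8}Sp(6, 2)). -/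
theorem result : ∃ t : ↥Cfsg.Spor.Co2, orderOf t = 2 ∧ Cfsg.IsExtraspecial 2 (Cfsg.pCore 2 ↥(Subgroup.centralizer ({t} : Set ↥Cfsg.Spor.Co2))) ∧ Nat.card (Cfsg.pCore 2 ↥(Subgroup.centralizer ({t} : Set ↥Cfsg.Spor.Co2))) = 2 ^ 9 ∧ Nonempty (↥(Subgroup.centralizer ({t} : Set ↥Cfsg.Spor.Co2)) ⧸ Cfsg.pCore 2 ↥(Subgroup.centralizer ({t} : Set ↥Cfsg.Spor.Co2)) ≃* Matrix.symplecticGroup (Fin 3) (ZMod 2)) := by
  obtain ⟨e⟩ := perm
  have := nets_ok.finite L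
  have : Finite Cfsg.Spor.Co2 := Finite.of_equiv _ e.symm.toEquiv
  obtain ⟨φ, γ, h1, h2, h3⟩ := c_phi e
  obtain ⟨a1, a2, a3, -, a5, i, ⟨f⟩⟩ := XC.main h1 h2 (c_ex.isBase cn_ok) ctb_ok Sp6x.nets_iv Sp6x.nets_rel Sp6x.ord
    Sp6x.lb c_side Sp6x.simple (by norm_num) c_xs h3
  have := Sp6x.nets_ok.finite Sp6x.L
  have g := (Subgroup.subgroupOfEquivOfLe a2).symm
  have b := Cfsg.Lib.Fi.xs_equiv g (a5 (by norm_num))
  have c := XC.pCore_quot b.1.1 f Sp6x.simple (by rw [Sp6x.card]; norm_num)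
  obtain ⟨k⟩ := Sp6x.iso (ZMod.card 2)
  have d : Function.Bijective (QuotientGroup.mk' (Subgroup.center (Matrix.symplecticGroup (Fin 3) (ZMod 2)))) :=
    (QuotientGroup.mk'_surjective _).bijective_of_nat_card_le (by
      rw [← Nat.card_congr k.toEquiv, Sp6x.card, Cfsg.Lib.Forms.card_symplecticGroup]
      simp [Cfsg.Lib.Forms.spOrder, Finset.prod_range_succ])
  exact ⟨γ 16, a1, c ▸ b, by rw [c, ← Nat.card_congr g.toEquiv, a3]; rfl,
    ⟨(QuotientGroup.quotientMulEquivOfEq c).trans (f.trans (k.trans (MulEquiv.ofBijective _ d).symm))⟩⟩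

end Cfsg.Agent.S2136
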