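import Cfsg.Statements.S2143
import Cfsg.Agent.Lib.MinIdx.O6
import Cfsg.Agent.Lib.Forms.Bridge
import Cfsg.Agent.Lib.Forms.Std

set_option autoImplicit false
open Cfsg

namespace Cfsg.Agent.S2143

open Cfsg.Lib.Forms Cfsg.Lib.Forms.MI Cfsg.Lib.Forms.Form

/-- Minimal index of a proper subgroup of the odd-dimensional orthogonal groups: for m ≥ 3 and a field F with q elements, q odd and q ≥ 5, every proper subgroup of PΩ_(2m+1)(F) (for the form x₀² + Σ xᵢyᵢ) has index at least (q^(2m) − 1)/(q − 1), and that index is attained. -/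
theorem result {F : Type*} [Field F] [Fintype F] {q : ℕ} (hF : Fintype.card F = q) (hodd : Odd q) (h5 : 5 ≤ q) (m : ℕ) (hm : 3 ≤ m) : (∀ H : Subgroup (Cfsg.POmega F (Cfsg.quadFormOdd m F)), H ≠ ⊤ → (q ^ (2 * m) - 1) / (q - 1) ≤ H.index) ∧ (∃ H : Subgroup (Cfsg.POmega F (Cfsg.quadFormOdd m F)), H.index = (q ^ (2 * m) - 1) / (q - 1)) := by
  have h2 := two_ne_zero_of_odd_card hF hodd
  rw [← Nat.card_eq_fintype_card] at hF
  subst hF
  have hD := fOdd_nondeg h2 m
  have hn := finrank_odd (F := F) m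
  obtain ⟨x, hx⟩ : ∃ x, Nat.card F ^ m = x + 1 :=
    ⟨_, (Nat.sub_add_cancel (Nat.one_le_pow _ _ (by omega))).symm⟩
  have h1 : Nat.card F ^ (2 * m) - 1 = x * (x + 2) := by
    rw [two_mul, pow_add, hx]; apply Nat.sub_eq_of_eq_add; ring
  refine min_index_sing' hD (by omega) (pOmegaIso _ fOdd_Q) ?_ (sub_one_dvd _ _) (fun v _ => ?_)
    (by rw [hn]; simp only [Nat.add_sub_cancel]; omega) (by omega)
  · rw [nsv_odd hD hn, h1, hx]; rfl
  · rw [if_neg h2, h1]
    refine le_trans ?_ (Nat.mul_le_mul (le_card_Q_odd hD hn _) (show 4 ≤ _ by omega))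
    rw [hx, Nat.add_sub_cancel]
    nlinarith

end Cfsg.Agent.S2143
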