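import Cfsg.Statements.S2144
import Cfsg.Agent.Lib.MinIdx.O6
import Cfsg.Agent.Lib.Forms.Bridge
import Cfsg.Agent.Lib.Forms.Std

set_option autoImplicit false
open Cfsg

namespace Cfsg.Agent.S2144

open Cfsg.Lib.Forms Cfsg.Lib.Forms.MI Cfsg.Lib.Forms.Form

/-- Minimal index of a proper subgroup of the odd-dimensional orthogonal groups over the field with 3 elements: for m ≥ 3, every proper subgroup of PΩ_(2m+1)(3) (for the form x₀² + Σ xᵢyᵢ) has index at least 3^m(3^m − 1)/2, and that index is attained. -/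
theorem result {F : Type*} [Field F] [Fintype F] (hF : Fintype.card F = 3) (m : ℕ) (hm : 3 ≤ m) : (∀ H : Subgroup (Cfsg.POmega F (Cfsg.quadFormOdd m F)), H ≠ ⊤ → 3 ^ m * (3 ^ m - 1) / 2 ≤ H.index) ∧ (∃ H : Subgroup (Cfsg.POmega F (Cfsg.quadFormOdd m F)), H.index = 3 ^ m * (3 ^ m - 1) / 2) := by
  have h2 := two_ne_zero_of_odd_card hF (by decide)
  rw [← Nat.card_eq_fintype_card] at hF
  have hD := fOdd_nondeg h2 m
  have hn := finrank_odd (F := F) m
  have h1 : 3 ^ m * (3 ^ m - 1) / 2 * 2 = 3 ^ m * (3 ^ m - 1) :=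
    Nat.div_mul_cancel (dvd_mul_of_dvd_right (sub_one_dvd 3 m) _)
  obtain ⟨c, hc, h3⟩ := exists_card_Q_odd hD hn
  obtain ⟨v, rfl⟩ := Quad.exists_Q_eq hD (by omega) c
  refine min_index_ns hD (by omega) (pOmegaIso _ fOdd_Q) ?_ (fun w _ => ?_) ?_ (by omega) hc
    (by rw [if_neg h2, h1, h3, hF])
  · rw [nsv_odd hD hn, hF, h1, mul_comm]
    exact Nat.mul_le_mul_left _ (Nat.le_succ _)
  · rw [if_neg h2, h1, ← hF]
    exact le_card_Q_odd hD hn _
  · obtain ⟨k, rfl⟩ : ∃ k, m = k + 1 := ⟨m - 1, by omega⟩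
    rw [hn, hF, show 2 * (k + 1) + 1 - 3 = k + k by omega]
    refine Nat.div_le_of_le_mul ((Nat.mul_le_mul_left _ (Nat.sub_le _ _)).trans ?_)
    rw [pow_succ, pow_add 3 k k]
    nlinarith [Nat.zero_le (3 ^ k * 3 ^ k)]

end Cfsg.Agent.S2144
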