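import Cfsg.Statements.S2145
import Cfsg.Agent.Lib.MinIdx.O6
import Cfsg.Agent.Lib.Forms.Bridge
import Cfsg.Agent.Lib.Forms.Std

set_option autoImplicit false
open Cfsg

namespace Cfsg.Agent.S2145

open Cfsg.Lib.Forms Cfsg.Lib.Forms.MI Cfsg.Lib.Forms.Form

/-- Minimal index of a proper subgroup of the even-dimensional orthogonal groups of plus type: for m ≥ 4 and a field F with q ≥ 4 elements, every proper subgroup of PΩ⁺_2m(F) (for the form Σ xᵢyᵢ) has index at least (q^m − 1)(q^(m−1) + 1)/(q − 1), and that index is attained (the singular points). -/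
theorem result {F : Type*} [Field F] [Fintype F] {q : ℕ} (hF : Fintype.card F = q) (hq : 4 ≤ q) (m : ℕ) (hm : 4 ≤ m) : (∀ H : Subgroup (Cfsg.POmega F (Cfsg.quadFormPlus m F)), H ≠ ⊤ → (q ^ m - 1) * (q ^ (m - 1) + 1) / (q - 1) ≤ H.index) ∧ (∃ H : Subgroup (Cfsg.POmega F (Cfsg.quadFormPlus m F)), H.index = (q ^ m - 1) * (q ^ (m - 1) + 1) / (q - 1)) := by
  rw [← Nat.card_eq_fintype_card] at hF
  subst hF
  obtain ⟨k, rfl⟩ : ∃ k, m = k + 1 := ⟨m - 1, by omega⟩
  have hD := fPlus_nondeg (F := F) (k + 1)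
  have hn := finrank_plus (F := F) (k + 1)
  have hT := fPlus_hasTS (F := F) (k + 1)
  refine min_index_sing' hD (by omega) (pOmegaIso _ fPlus_Q) (nsv_plus hD hn hT)
    (dvd_mul_of_dvd_left (sub_one_dvd _ _) _) (fun v hv => ?_) ?_ fun _ _ => hq
  · rw [Quad.card_Q_eq_plus hD hn hT hv, Nat.add_sub_cancel]
    have h1 : 2 ≤ Nat.card F ^ k := Nat.one_lt_pow (by omega) (by omega)
    refine le_trans (Nat.mul_le_mul_left _ (show _ ≤ 2 by split_ifs <;> simp))
      (le_trans ?_ (Nat.mul_le_mul_left _ (show 3 ≤ _ by omega)))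
    nlinarith [Nat.zero_le (Nat.card F ^ (k + 1) - 1)]
  · rw [hn, Nat.add_sub_cancel, show 2 * (k + 1) - 1 = k + 1 + k by omega, pow_add _ _ k]
    have h1 : Nat.card F ^ (k + 1) ≤ Nat.card F ^ (2 * (k + 1) - 3) * (Nat.card F - 2) :=
      (Nat.pow_le_pow_right (by omega) (by omega)).trans (Nat.le_mul_of_pos_right _ (by omega))
    refine le_trans (Nat.mul_le_mul_right _ (Nat.sub_le _ _)) ?_
    rw [mul_add, mul_one]; omega

end Cfsg.Agent.S2145
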