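import Cfsg.Statements.S2146
import Cfsg.Agent.Lib.MinIdx.O6
import Cfsg.Agent.Lib.Forms.Bridge
import Cfsg.Agent.Lib.Forms.Std

set_option autoImplicit false
open Cfsg

namespace Cfsg.Agent.S2146

open Cfsg.Lib.Forms Cfsg.Lib.Forms.MI Cfsg.Lib.Forms.Form

/-- Minimal index of a proper subgroup of the even-dimensional orthogonal groups of plus type over the field with 2 elements: for m ≥ 4, every proper subgroup of Ω⁺_2m(2) (for the form Σ xᵢyᵢ) has index at least 2^(m−1)(2^m − 1), and that index is attained. -/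
theorem result {F : Type*} [Field F] [Fintype F] (hF : Fintype.card F = 2) (m : ℕ) (hm : 4 ≤ m) : (∀ H : Subgroup (Cfsg.POmega F (Cfsg.quadFormPlus m F)), H ≠ ⊤ → 2 ^ (m - 1) * (2 ^ m - 1) ≤ H.index) ∧ (∃ H : Subgroup (Cfsg.POmega F (Cfsg.quadFormPlus m F)), H.index = 2 ^ (m - 1) * (2 ^ m - 1)) := by
  classical
  rw [← Nat.card_eq_fintype_card] at hF
  have h2 : (2 : F) = 0 := by
    by_contra h
    have := odd_card_iff.2 h
    rw [hF] at this
    exact absurd this (by decide)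
  obtain ⟨k, rfl⟩ : ∃ k, m = k + 1 := ⟨m - 1, by omega⟩
  have hD := fPlus_nondeg (F := F) (k + 1)
  have hn := finrank_plus (F := F) (k + 1)
  have hT := fPlus_hasTS (F := F) (k + 1)
  obtain ⟨v, hv⟩ := Quad.exists_Q_eq hD (by omega) 1
  have h3 : ∀ w, (fPlus F (k + 1)).Q w ≠ 0 → Nat.card {x // (fPlus F (k + 1)).Q x =
      (fPlus F (k + 1)).Q w} = 2 ^ (k + 1 - 1) * (2 ^ (k + 1) - 1) * if (2 : F) = 0 then 1 else 2 :=
    fun w hw => by rw [Quad.card_Q_eq_plus hD hn hT hw, if_pos h2, hF]; simp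
  refine min_index_ns hD (by omega) (pOmegaIso _ fPlus_Q) ?_ (fun w hw => (h3 w hw).ge) ?_
    (fun h => ?_) (v := v) (by rw [hv]; exact one_ne_zero) (h3 _ (by rw [hv]; exact one_ne_zero)).le
  · rw [nsv_plus hD hn hT, hF, show 2 - 1 = 1 by rfl, mul_one, mul_comm]
    exact Nat.mul_le_mul_left _ (Nat.le_succ _)
  · rw [hn, hF]
    refine le_trans (Nat.mul_le_mul_left _ (Nat.sub_le _ _)) (le_of_eq ?_)
    rw [← pow_add, show 2 + 2 = 2 ^ 2 by rfl, ← pow_add]
    congr 1; omega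
  · obtain rfl : k = 3 := by omega
    rw [hF]; norm_num

end Cfsg.Agent.S2146
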