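import Cfsg.Statements.S2147
import Cfsg.Agent.Lib.MinIdx.O6
import Cfsg.Agent.Lib.Forms.Bridge
import Cfsg.Agent.Lib.Forms.Std

set_option autoImplicit false
open Cfsg

namespace Cfsg.Agent.S2147

open Cfsg.Lib.Forms Cfsg.Lib.Forms.MI Cfsg.Lib.Forms.Form

/-- Minimal index of a proper subgroup of the even-dimensional orthogonal groups of minus type: for m ≥ 4 and a field F with q elements, every proper subgroup of PΩ⁻_2m(F) (for the form Σ_{i<m−1} xᵢyᵢ + z₁² + a z₁z₂ + b z₂² with anisotropic binary part) has index at least (q^m + 1)(q^(m−1) − 1)/(q − 1), and that index is attained. -/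
theorem result {F : Type*} [Field F] [Fintype F] {q : ℕ} (hF : Fintype.card F = q) (m : ℕ) (hm : 4 ≤ m) (a b : F) (hab : ∀ z₁ z₂ : F, z₁ ^ 2 + a * z₁ * z₂ + b * z₂ ^ 2 = 0 → z₁ = 0 ∧ z₂ = 0) : (∀ H : Subgroup (Cfsg.POmega F (Cfsg.quadFormMinus (m - 1) F a b)), H ≠ ⊤ → (q ^ m + 1) * (q ^ (m - 1) - 1) / (q - 1) ≤ H.index) ∧ (∃ H : Subgroup (Cfsg.POmega F (Cfsg.quadFormMinus (m - 1) F a b)), H.index = (q ^ m + 1) * (q ^ (m - 1) - 1) / (q - 1)) := by
  rw [← Nat.card_eq_fintype_card] at hF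
  subst hF
  obtain ⟨k, rfl⟩ : ∃ k, m = k + 1 := ⟨m - 1, by omega⟩
  simp only [Nat.add_sub_cancel]
  have hD := fMinus_nondeg k hab
  have hn := finrank_minus (F := F) k
  have hT := fMinus_not_hasTS k hab
  have hq := two_le_card (F := F)
  refine min_index_sing' hD (by omega) (pOmegaIso _ (fMinus_Q a b)) (nsv_minus hD hn hT)
    (dvd_mul_of_dvd_right (sub_one_dvd _ _) _) (fun v hv => ?_) ?_ fun h h' => ?_
  · rw [Quad.card_Q_eq_minus hD hn hT hv, mul_comm (Nat.card F ^ k)]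
    refine Nat.mul_le_mul (Nat.mul_le_mul_left _ (Nat.sub_le _ _)) ?_
    split_ifs with h2
    · omega
    · obtain ⟨r, hr⟩ := odd_card_iff.2 h2
      omega
  · rw [hn, show 2 * (k + 1) - 1 = k + 1 + k by omega, pow_add _ _ k]
    refine le_trans ?_ (Nat.le_add_right _ _)
    obtain ⟨x, hx⟩ : ∃ x, Nat.card F ^ k = x + 1 :=
      ⟨_, (Nat.sub_add_cancel (Nat.one_le_pow _ _ (by omega))).symm⟩
    rw [pow_succ, hx, Nat.add_sub_cancel]
    nlinarith
  · obtain rfl : k = 3 := by omega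
    exact absurd h' hT

end Cfsg.Agent.S2147
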