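import Cfsg.Statements.S2148
import Cfsg.Agent.Lib.MinIdx.T5

set_option autoImplicit false
open Cfsg

namespace Cfsg.Agent.S2148

/-- Minimal index of a proper subgroup of the three-dimensional unitary groups: for a field F with q² elements, q ≥ 3 and q ≠ 5, every proper subgroup of PSU₃(q) has index at least q³ + 1, and that index is attained. -/
theorem result {F : Type*} [Field F] [Fintype F] (q : ℕ) (hF : Fintype.card F = q ^ 2) (hq : 3 ≤ q) (h5 : q ≠ 5) : (∀ H : Subgroup (Cfsg.PSU 3 F q), H ≠ ⊤ → q ^ 3 + 1 ≤ H.index) ∧ (∃ H : Subgroup (Cfsg.PSU 3 F q), H.index = q ^ 3 + 1) := by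
  open Cfsg.Lib.Forms Cfsg.Lib.Forms.MI Cfsg.Lib.Forms.MI.U3 in
  obtain ⟨σ, h⟩ := isConj_of_card hF
  have hD := stdHerm_nondeg h (Fin 3)
  have h1 : Module.finrank F (Fin 3 → F) = 3 := by simp
  obtain ⟨e, f, hf⟩ := Herm.exists_isHyp hD (by omega)
  refine min_index_su hD h1.ge (psuEquiv h _) (le_relIndex hD h1 hq h5) (W := F ∙ e)
    (by simpa using hf.e_ne_zero) (by rw [finrank_span_singleton hf.e_ne_zero]; omega) ?_
  have h2 := stab_mul_le hf.e_ne_zero hf.Q_e
  rw [nv_zero hD h1, if_pos (by simp)] at h2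
  exact Nat.le_of_mul_le_mul_right h2 (Nat.sub_pos_of_lt (by nlinarith))

end Cfsg.Agent.S2148
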