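import Cfsg.Statements.S2149
import Cfsg.Agent.Lib.Comp.U35x.Mat
import Cfsg.Agent.Lib.Comp.U35x.Idx

set_option autoImplicit false
open Cfsg

namespace Cfsg.Agent.S2149

open Cfsg.Lib.Comp Cfsg.Lib.MatB


/-- Minimal index of a proper subgroup of PSU₃(5), realised over the field with 25 elements: every proper subgroup has index at least 50, and that index is attained. -/
theorem result {F : Type*} [Field F] [Fintype F] (hF : Fintype.card F = 25) : (∀ H : Subgroup (Cfsg.PSU 3 F 5), H ≠ ⊤ → 50 ≤ H.index) ∧ (∃ H : Subgroup (Cfsg.PSU 3 F 5), H.index = 50) := by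
  obtain ⟨e⟩ := U35x.iso hF
  refine ⟨fun H h => ?_, ?_⟩
  · rw [← Subgroup.index_comap_of_surjective H (f := e.toMonoidHom) e.surjective]
    exact U35x.min_index _ fun h' => h (Subgroup.comap_injective (f := e.toMonoidHom) e.surjective h')
  · obtain ⟨H, h⟩ := U35x.exists_fifty
    exact ⟨H.comap e.symm.toMonoidHom, (Subgroup.index_comap_of_surjective H e.symm.surjective).trans h⟩

end Cfsg.Agent.S2149
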