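import Cfsg.Statements.S2150
import Cfsg.Agent.Lib.MinIdx.M5
import Cfsg.Agent.S0303

set_option autoImplicit false
open Cfsg

namespace Cfsg.Agent.S2150

/-- Minimal index of a proper subgroup of the four-dimensional unitary groups: for a field F with q² elements, every proper subgroup of PSU₄(q) has index at least (q + 1)(q³ + 1), and that index is attained. -/
theorem result {F : Type*} [Field F] [Fintype F] (q : ℕ) (hF : Fintype.card F = q ^ 2) (hq : 2 ≤ q) : (∀ H : Subgroup (Cfsg.PSU 4 F q), H ≠ ⊤ → (q + 1) * (q ^ 3 + 1) ≤ H.index) ∧ (∃ H : Subgroup (Cfsg.PSU 4 F q), H.index = (q + 1) * (q ^ 3 + 1)) := by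
  obtain ⟨p, -, n, hp, h1⟩ := FiniteField.card' F
  have := Fact.mk hp
  obtain ⟨k, -, rfl⟩ := (Nat.dvd_prime_pow hp).1 (show q ∣ p ^ (n : ℕ) by
    rw [← h1, hF]; exact dvd_pow_self q two_ne_zero)
  have := Fintype.ofFinite (GaloisField p k)
  have h2 := GaloisField.card p k (fun h => by simp [h] at hq)
  obtain ⟨a, b, hab⟩ := Lib.Forms.exists_aniso_coeffs (GaloisField p k)
  obtain ⟨φ⟩ := S0303.result (Nat.card_eq_fintype_card.symm.trans h2) hF a b hab
  have h3 := Lib.Forms.MI.M6.min_index (Lib.Forms.fMinus_nondeg 2 hab) (Lib.Forms.finrank_minus 2)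
    (Lib.Forms.fMinus_not_hasTS 2 hab) (φ.symm.trans (Lib.Forms.pOmegaIso _ (Lib.Forms.fMinus_Q a b)))
  rwa [h2] at h3

end Cfsg.Agent.S2150
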