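import Cfsg.Statements.S2152
import Cfsg.Agent.Lib.MinIdx.U5

set_option autoImplicit false
open Cfsg

namespace Cfsg.Agent.S2152

open Cfsg.Lib.Forms Cfsg.Lib.Forms.MI Cfsg.Lib.Forms.Form

/-- Minimal index of a proper subgroup of the unitary groups of even dimension n ≥ 6: for a field F with q² elements, q ≥ 3, every proper subgroup of PSU_n(q) has index at least (q^n − 1)(q^(n−1) + 1)/(q² − 1), and that index is attained (the isotropic points). -/
theorem result {F : Type*} [Field F] [Fintype F] (q : ℕ) (hF : Fintype.card F = q ^ 2) (hq : 3 ≤ q) (n : ℕ) (hn : 6 ≤ n) (heven : Even n) : (∀ H : Subgroup (Cfsg.PSU n F q), H ≠ ⊤ → (q ^ n - 1) * (q ^ (n - 1) + 1) / (q ^ 2 - 1) ≤ H.index) ∧ (∃ H : Subgroup (Cfsg.PSU n F q), H.index = (q ^ n - 1) * (q ^ (n - 1) + 1) / (q ^ 2 - 1)) := by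
  obtain ⟨σ, h⟩ := isConj_of_card hF
  have hD := stdHerm_nondeg h (Fin n)
  obtain ⟨m, rfl⟩ : ∃ m, n = 2 * m + 1 + 1 := by obtain ⟨k, rfl⟩ := heven; exact ⟨k - 1, by omega⟩
  have h1 : Module.finrank F (Fin (2 * m + 1 + 1) → F) = 2 * m + 1 + 1 := by simp
  refine min_index_iso hD (by omega) (psuEquiv h _) (by simp [nv_zero hD h1])
    (Dvd.dvd.mul_right (pow_mul q 2 (m + 1) ▸ sub_one_dvd (q ^ 2) (m + 1) :) _)
    fun c hc h0 => ?_
  rw [nv_ne hD hc h0 h1, if_neg (by simp), Nat.add_sub_cancel, mul_comm (q ^ (2 * m + 1)), mul_assoc]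
  refine Nat.mul_le_mul_left _ (le_trans ?_ (Nat.mul_le_mul_left _ (show 2 ≤ q - 1 by omega)))
  have : 1 ≤ q ^ (2 * m + 1) := Nat.one_le_pow _ _ (by omega)
  omega

end Cfsg.Agent.S2152
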