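import Cfsg.Statements.S2153
import Cfsg.Agent.Lib.MinIdx.U5

set_option autoImplicit false
open Cfsg

namespace Cfsg.Agent.S2153

open Cfsg.Lib.Forms Cfsg.Lib.Forms.MI Cfsg.Lib.Forms.Form

/-- Minimal index of a proper subgroup of the unitary groups PSU_n(2) with n divisible by 6, realised over the field with 4 elements: every proper subgroup has index at least 2^(n−1)(2^n − 1)/3, and that index is attained. -/
theorem result {F : Type*} [Field F] [Fintype F] (hF : Fintype.card F = 4) (n : ℕ) (hn : 6 ∣ n) (hpos : 6 ≤ n) : (∀ H : Subgroup (Cfsg.PSU n F 2), H ≠ ⊤ → 2 ^ (n - 1) * (2 ^ n - 1) / 3 ≤ H.index) ∧ (∃ H : Subgroup (Cfsg.PSU n F 2), H.index = 2 ^ (n - 1) * (2 ^ n - 1) / 3) := by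
  obtain ⟨σ, h⟩ := isConj_of_card (q := 2) hF
  have hD := stdHerm_nondeg h (Fin n)
  obtain ⟨m, rfl⟩ : ∃ m, n = 2 * m + 1 + 1 := by obtain ⟨k, rfl⟩ := hn; exact ⟨3 * k - 1, by omega⟩
  have h1 : Module.finrank F (Fin (2 * m + 1 + 1) → F) = 2 * m + 1 + 1 := by simp
  have h2 : ∀ v, (stdHerm h (Fin (2 * m + 1 + 1))).Q v ≠ 0 → nv _ ((stdHerm h _).Q v) = _ :=
    fun v hv => nv_ne hD (herm_σ_Q _ v) hv h1
  rw [if_neg (by simp)] at h2
  obtain ⟨v, hv⟩ := Herm.exists_Q_eq hD (map_one σ)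
  have h3 : (stdHerm h (Fin (2 * m + 1 + 1))).Q v ≠ 0 := by simp [hv]
  have h0 : v ≠ 0 := fun h => h3 (by simp [h])
  refine min_index_su hD (by omega) (psuEquiv h _) (fun H => le_five hD (by omega)
    ((Nat.div_mul_le_self _ 3).trans ?_) fun v hv => h2 v hv ▸ Nat.div_mul_le_self _ _) (W := F ∙ v)
    (by simpa using h0) (by rw [finrank_span_singleton h0]; omega)
    ((Nat.le_div_iff_mul_le (by omega)).2 (h2 v h3 ▸ stab_mul_le' hD (by omega) h3))
  rw [nv_zero hD h1, if_neg (by simp), mul_comm]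
  exact Nat.mul_le_mul_left _ (Nat.le_succ _)

end Cfsg.Agent.S2153
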