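import Cfsg.Statements.S2154
import Cfsg.Agent.Lib.Chev.BT
import Cfsg.Agent.Lib.Chev.All
import Cfsg.Agent.Lib.Chev.AutD

set_option autoImplicit false
open Cfsg Cfsg.Lie Cfsg.Lib.Chev Cfsg.Lib.Twist

namespace Cfsg.Agent.S2154

/-- The Borel–Tits property of the finite Chevalley groups of types G₂, B₂, D₄, F₄, E₆, E₇, E₈ over a finite field of characteristic p: for every non-trivial p-subgroup U of the group G there are an element g of G and a proper set J of fundamental roots such that the normaliser of U in G lies in the conjugate by g of the standard parabolic subgroup P_J and U lies in the conjugate by g of its unipotent radical U_J. -/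
theorem result {F : Type*} [Field F] [Fintype F] (p : ℕ) [Fact p.Prime] [CharP F p] (D : Cfsg.Lie.ChevalleyDatum) (hD : D ∈ [Cfsg.Lie.chevG2, Cfsg.Lie.chevB2, Cfsg.Lie.chevD4, Cfsg.Lie.chevF4, Cfsg.Lie.chevE6, Cfsg.Lie.chevE7, Cfsg.Lie.chevE8]) (U : Subgroup (GL D.Idx F)) (hUG : U ≤ D.group F) (hU : IsPGroup p ↥U) (hne : U ≠ ⊥) : ∃ g ∈ D.group F, ∃ J : Set ℕ, (∃ i, i < D.rank ∧ i ∉ J) ∧ Subgroup.normalizer (U : Set (GL D.Idx F)) ⊓ D.group F ≤ (D.parabolicSubgroup F J).map (MulAut.conj g).toMonoidHom ∧ U ≤ (D.unipotentRadical F J).map (MulAut.conj g).toMonoidHom := by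
  obtain ⟨R, η, hc, hm⟩ := good_of_mem hD
  obtain ⟨P, hP⟩ := (hc.gst hm (F := F)).exists_sylow (hc.gsep hm) p (hc.gopp hm) (hc.ggen hm)
  obtain ⟨Q, hQ⟩ := (hU.comap_subtype (K := D.group F)).exists_le_sylow
  obtain ⟨a, rfl⟩ := MulAction.exists_smul_eq (D.group F) P Q
  rw [Compat.gsys, PreSys.restrict_U] at hP
  have h1 : ∀ v ∈ U, a.1⁻¹ * v * a.1 ∈ (hc.sys hm F).U {r | R.Pos r} := fun v hv => by
    have := hQ (x := ⟨v, hUG hv⟩) hv
    rw [Sylow.coe_subgroup_smul, Subgroup.mem_pointwise_smul_iff_inv_smul_mem, hP] at this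
    exact this
  obtain ⟨v, hv, h2⟩ := (U.bot_or_exists_ne_one).resolve_left hne
  obtain ⟨g, hg, J, hJ, h3, h4⟩ := (hc.st hm).borel_tits (hc.sep hm) (hc.opp hm) (V := (fun v => a.1⁻¹ * v * a.1) '' (U : Set (GL D.Idx F)))
    (by rintro _ ⟨v, hv, rfl⟩; exact h1 v hv) ⟨_, ⟨v, hv, rfl⟩, by simpa [mul_assoc, inv_mul_eq_one] using h2⟩
  have hJ' : {i : Fin D.rank | (i : ℕ) ∈ Fin.val '' J} = J := by ext; simp [Fin.val_inj]
  rw [← hc.group_eq hm] at hg h4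
  refine ⟨a * g⁻¹, mul_mem a.2 (inv_mem hg), Fin.val '' J, ?_, fun n hn => ?_, fun v hv => ?_⟩
  · obtain ⟨i, hi⟩ := (Set.ne_univ_iff_exists_notMem J).1 hJ
    exact ⟨i, i.2, by simpa [Fin.val_inj] using hi⟩
  · rw [hc.parabolic_eq hm, hJ']
    refine ⟨_, h4 (a.1⁻¹ * n * a.1) (mul_mem (mul_mem (inv_mem a.2) hn.2) a.2) ?_, by simp [mul_assoc]⟩
    rintro _ ⟨v, hv, rfl⟩
    exact ⟨_, (Subgroup.mem_normalizer_iff.1 hn.1 v).1 hv, by simp [mul_assoc]⟩
  · rw [hc.unipotentRadical_eq hm, hJ']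
    exact ⟨_, h3 _ ⟨v, hv, rfl⟩, by simp [mul_assoc]⟩

end Cfsg.Agent.S2154
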