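import Cfsg.Statements.S2155
import Cfsg.Agent.Lib.Chev.BT
import Cfsg.Agent.Lib.Chev.All
import Cfsg.Agent.Lib.Chev.AutD
import Cfsg.Agent.Lib.Layer.FStar

set_option autoImplicit false
open Cfsg Cfsg.Lie Cfsg.Lib.Chev Cfsg.Lib.Twist

namespace Cfsg.Agent.S2155

/-- In a Chevalley group of type G₂, B₂, D₄, F₄, E₆, E₇ or E₈ over a finite field of characteristic p (for types G₂ and B₂ the field is assumed to have at least 3 elements, so that the group is simple), the generalized Fitting subgroup of every proper standard parabolic subgroup P_J is a p-group (P_J is p-constrained with trivial largest normal subgroup of order prime to p). -/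
theorem result {F : Type*} [Field F] [Fintype F] (p : ℕ) [Fact p.Prime] [CharP F p] (D : Cfsg.Lie.ChevalleyDatum) (hD : D ∈ [Cfsg.Lie.chevG2, Cfsg.Lie.chevB2, Cfsg.Lie.chevD4, Cfsg.Lie.chevF4, Cfsg.Lie.chevE6, Cfsg.Lie.chevE7, Cfsg.Lie.chevE8]) (hq : (D = Cfsg.Lie.chevG2 ∨ D = Cfsg.Lie.chevB2) → 3 ≤ Fintype.card F) (J : Set ℕ) (hJ : ∃ i, i < D.rank ∧ i ∉ J) : IsPGroup p ↥(Cfsg.generalizedFittingSubgroup ↥(D.parabolicSubgroup F J)) := by
  obtain ⟨R, η, hc, hm⟩ := good_of_mem hD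
  obtain ⟨i, hi, hJ⟩ := hJ
  rw [hc.parabolic_eq hm]
  set J' := {i : Fin D.rank | (i : ℕ) ∈ J}
  have h1 : (hc.sys hm F).U {r | R.Pos r ∧ ¬ R.InSub J' r} ≤ (hc.sys hm F).P J' := le_sup_left.trans ((hc.st hm).radical_sup_levi J').le
  have := Subgroup.normal_subgroupOf_of_le_normalizer ((hc.st hm (F := F)).P_le_normalizer J')
  have h2 : ((hc.sys hm F).U {r | R.Pos r ∧ ¬ R.InSub J' r}).subgroupOf ((hc.sys hm F).P J') ≤ pCore p _ :=
    Cfsg.Lib.Core.le_pCore ((PreSys.isPGroup_U p (hc.sep hm) R.nil_pos).to_le ((hc.sys hm F).U_mono fun _ h => h.1)).comap_subtype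
  refine Cfsg.Lib.Layer.fstar_eq_pCore_iff_isPGroup.1 (Cfsg.Lib.Layer.fstar_eq_pCore_iff.2 fun g hg => h2 ?_)
  refine (hc.st hm).centralizer_radical (hc.sep hm) (hc.opp hm) (hc.conn hD) (fun g => hc.eq_one_of_H hm)
    (fun e => hJ (e.ge (Set.mem_univ ⟨i, hi⟩))) (PreSys.P_le_univ _ _ g.2) fun v hv => ?_
  rw [mul_inv_eq_iff_eq_mul]
  exact (congrArg Subtype.val (hg ⟨v, h1 hv⟩ (h2 hv))).symm

end Cfsg.Agent.S2155
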