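import Cfsg.Statements.S2158
import Cfsg.Agent.Lib.Chev.WC
import Cfsg.Agent.Lib.Chev.All
import Cfsg.Agent.Lib.Chev.AutD

set_option autoImplicit false
open Cfsg Cfsg.Lie Cfsg.Lib.Chev Cfsg.Lib.Twist

namespace Cfsg.Agent.S2158

/-- In a Chevalley group of type G₂, B₂, D₄, F₄, E₆, E₇ or E₈ over any field, an element of the group whose matrix is the diagonal matrix `ĥ(χ)` of a character `χ` of the root lattice already lies in the diagonal subgroup H (the non-trivial inclusion of the statement that the group meets the group of all such diagonal matrices in H). -/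
theorem result {F : Type*} [Field F] (D : Cfsg.Lie.ChevalleyDatum) (hD : D ∈ [Cfsg.Lie.chevG2, Cfsg.Lie.chevB2, Cfsg.Lie.chevD4, Cfsg.Lie.chevF4, Cfsg.Lie.chevE6, Cfsg.Lie.chevE7, Cfsg.Lie.chevE8]) (χ : ℕ → Fˣ) (hχ : D.IsRootCharacter χ) (g : GL D.Idx F) (hg : g ∈ D.group F)
    (hgχ : (g : Matrix D.Idx D.Idx F) = D.charDiag F χ) : g ∈ D.diagonalSubgroup F := by
  obtain ⟨R, η, hc, hm⟩ := good_of_mem hD
  rw [hc.diagonalSubgroup_eq hm]
  refine (hc.st hm).mem_H_of_act (hc.sep hm) (hc.opp hm) (hc.group_eq hm (F := F) ▸ hg)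
    ⟨fun r => χ r, fun r => Units.ne_zero _, fun r => by simp [hc.neg_eq, hχ.1 _ r.2], fun r t => Units.ext ?_⟩
  have : g⁻¹.1 = D.charDiag F fun s => (χ s)⁻¹ := Units.inv_eq_of_mul_eq_one_right (by
    rw [hgχ, ChevalleyDatum.charDiag, ChevalleyDatum.charDiag, Matrix.diagonal_mul_diagonal, ← Matrix.diagonal_one]
    congr 1; ext (i | s) <;> simp)
  rw [Units.val_mul, Units.val_mul, this, hgχ, hc.x_val, hc.x_val, charDiag_conj hc hm hχ]; rfl

end Cfsg.Agent.S2158
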