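import Cfsg.Statements.S2159
import Cfsg.Agent.Lib.Chev.AutG

set_option autoImplicit false
open Cfsg Cfsg.Lie Cfsg.Lib.Chev

namespace Cfsg.Agent.S2159

/-- Structure of the outer automorphism group of the Chevalley group `G` of type G₂, B₂, D₄, F₄, E₆, E₇ or E₈ over a finite field. Let `D̄` be the image in `Out(G)` of the subgroup generated by the diagonal automorphisms and `F̄` the image of the subgroup generated by the field automorphisms. Then `D̄` is a normal abelian subgroup of `Out(G)`, `F̄` is cyclic, `D̄F̄` is a normal subgroup, and the quotient of `Out(G)` by `D̄F̄` is trivial, of order 2, or non-abelian of order 6 (so isomorphic to the symmetric group on three letters): its index is 1 or 2, or it is 6 with the commutator subgroup of `Out(G)` not inside `D̄F̄`. -/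
theorem result {F : Type*} [Field F] [Finite F] (D : Cfsg.Lie.ChevalleyDatum) (hD : D ∈ [Cfsg.Lie.chevG2, Cfsg.Lie.chevB2, Cfsg.Lie.chevD4, Cfsg.Lie.chevF4, Cfsg.Lie.chevE6, Cfsg.Lie.chevE7, Cfsg.Lie.chevE8])
    (Dbar Fbar : Subgroup (Cfsg.Out ↥(D.group F)))
    (hDbar : Dbar = (Subgroup.closure {φ : MulAut ↥(D.group F) | D.IsDiagonalAut φ}).map (QuotientGroup.mk' (Cfsg.Inn ↥(D.group F))))
    (hFbar : Fbar = (Subgroup.closure {φ : MulAut ↥(D.group F) | D.IsFieldAut φ}).map (QuotientGroup.mk' (Cfsg.Inn ↥(D.group F)))) :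
    Dbar.Normal ∧ IsMulCommutative ↥Dbar ∧ IsCyclic ↥Fbar ∧ (Dbar ⊔ Fbar).Normal ∧
      ((Dbar ⊔ Fbar).index = 1 ∨ (Dbar ⊔ Fbar).index = 2 ∨
        ((Dbar ⊔ Fbar).index = 6 ∧ ¬ commutator (Cfsg.Out ↥(D.group F)) ≤ Dbar ⊔ Fbar)) := by
  obtain ⟨R, η, hc, hm⟩ := good_of_mem hD
  obtain ⟨ψ, hψ⟩ := hc.exists_out_hom hm (F := F)
  obtain ⟨φ, hφ, e⟩ := hc.exists_field_hom hm (F := F)
  have hD' : ∀ a, a ∈ Dbar ↔ _ := fun a => hDbar ▸ hc.mem_diag_iff hm
  rw [e, MonoidHom.map_range] at hFbar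
  have hk : Dbar ⊔ Fbar = ψ.ker := by
    refine le_antisymm (sup_le (fun a ha => ?_) ?_) fun a ha => ?_
    · obtain ⟨θ, ⟨c, h⟩, rfl⟩ := (hD' a).1 ha
      exact hψ θ _ _ _ h
    · rw [hFbar]; rintro _ ⟨σ, rfl⟩
      exact hψ (φ σ) 1 1 (fun _ => σ) fun i t => by simp [hφ]
    · obtain ⟨θ, h, rfl⟩ := hc.exists_pin_of_out hm a
      obtain ⟨p, h⟩ := hc.exists_triple hm hD ⟨θ, h⟩
      have h1 : p.1.1 = 1 := (hψ θ _ _ _ h).symm.trans ha
      obtain ⟨d, -, hd⟩ := hc.exists_diagAut hm p.2.1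
      rw [h1, sg_one] at h
      rw [show θ = d * φ p.2.2 from h.ext (hc.gst hm) (hc.ggen hm) fun i t => by simp [hφ, (hd _ _).1, (hd _ _).2]]
      exact Subgroup.mul_mem_sup ((hD' _).2 ⟨d, ⟨_, hd⟩, rfl⟩) (hFbar.ge ⟨p.2.2, rfl⟩)
  have hr : (ψ.range : Set _) = hc.graphs hm F := Set.ext fun π => ⟨by
    rintro ⟨a, rfl⟩
    obtain ⟨θ, h, rfl⟩ := hc.exists_pin_of_out hm a
    obtain ⟨p, h⟩ := hc.exists_triple hm hD ⟨θ, h⟩
    exact hψ θ _ _ _ h ▸ p.1.2, fun ⟨θ, h⟩ => ⟨_, hψ θ _ _ _ h⟩⟩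
  refine ⟨⟨fun a ha g => ?_⟩, ⟨⟨fun a b => Subtype.ext ?_⟩⟩, ?_, hk ▸ inferInstance, ?_⟩
  · obtain ⟨d, ⟨c, hd⟩, rfl⟩ := (hD' a).1 ha
    obtain ⟨θ, ⟨π, c', σ, h⟩, rfl⟩ := hc.exists_pin_of_out hm g
    have := h.symm.trans (hd.trans h)
    refine (hD' _).2 ⟨θ * d * θ⁻¹, ⟨_, by convert this using 1 <;> ext <;> simp⟩, rfl⟩
  · obtain ⟨d, ⟨c, hd⟩, e⟩ := (hD' _).1 a.2
    obtain ⟨d', ⟨c', hd'⟩, e'⟩ := (hD' _).1 b.2
    rw [Subgroup.coe_mul, Subgroup.coe_mul, ← e, ← e', ← QuotientGroup.mk_mul, ← QuotientGroup.mk_mul,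
      show d * d' = d' * d from (hd'.trans hd).ext (hc.gst hm) (hc.ggen hm) (by
        convert hd.trans hd' using 1 <;> ext <;> simp [mul_comm])]
  · have := isCyclic_ringAut (F := F)
    exact hFbar ▸ isCyclic_of_surjective _ (MonoidHom.rangeRestrict_surjective _)
  · rw [hk, Subgroup.index_ker, show Nat.card ψ.range = Nat.card (hc.graphs hm F) from hr ▸ rfl]
    obtain ⟨p, hp⟩ := CharP.exists F
    have := Fact.mk (CharP.char_is_prime F p)
    simp only [List.mem_cons, List.not_mem_nil, or_false] at hD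
    rcases hD with rfl | rfl | rfl | rfl | rfl | rfl | rfl
    · rw [card_graphs_G2 hc hm p]; split_ifs <;> simp
    · rw [card_graphs_B2 hc hm p]; split_ifs <;> simp
    · obtain ⟨⟨a, ha⟩, b, hb⟩ : Lib.Twist.piD4 ∈ ψ.range ∧ Lib.Twist.swapD4 ∈ ψ.range := by
        simpa only [← hr, SetLike.mem_coe] using mem_graphs_D4 (F := F) hc hm
      refine Or.inr (Or.inr ⟨?_, fun h => ?_⟩)
      · rw [show hc.graphs hm F = ([1, Lib.Twist.swapD4, Lib.Twist.swapD4 * Lib.Twist.piD4⁻¹, Lib.Twist.piD4, Lib.Twist.piD4⁻¹,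
          Lib.Twist.swapD4 * Lib.Twist.piD4].toFinset : Finset _) from Set.ext fun π => ⟨fun h => by
            simpa using hc.mem_of_graphs hm syms_D4 h, fun h => ?_⟩, Nat.card_coe_set_eq, Set.ncard_coe_finset]
        · decide
        · rw [← hr]
          simp only [List.coe_toFinset, List.mem_cons, List.not_mem_nil, or_false, Set.mem_ofPred_eq, ← ha, ← hb] at h
          rcases h with rfl | rfl | rfl | rfl | rfl | rfl
          exacts [one_mem _, ⟨b, rfl⟩, ⟨b * a⁻¹, by simp⟩, ⟨a, rfl⟩, ⟨a⁻¹, by simp⟩, ⟨b * a, by simp⟩]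
      · have := h (Subgroup.commutator_mem_commutator (Subgroup.mem_top a) (Subgroup.mem_top b))
        rw [MonoidHom.mem_ker, map_commutatorElement, ha, hb] at this
        exact absurd this (by decide)
    · rw [card_graphs_F4 hc hm p]; split_ifs <;> simp
    · simp [card_graphs_E6 hc hm]
    · simp [card_graphs_E7 hc hm]
    · simp [card_graphs_E8 hc hm]

end Cfsg.Agent.S2159
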