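import Cfsg.Statements.S2160
import Cfsg.Agent.Lib.Twist.AutMat
import Cfsg.Agent.Lib.Chev.All

set_option autoImplicit false
open Cfsg

namespace Cfsg.Agent.S2160

open Cfsg.Lib.Twist Cfsg.Lib.Chev

/-- In a Chevalley group of type G₂, B₂, D₄, F₄, E₆, E₇ or E₈ over a finite field, every field automorphism commutes with every graph automorphism. -/
theorem result {F : Type*} [Field F] [Finite F] (D : Cfsg.Lie.ChevalleyDatum) (hD : D ∈ [Cfsg.Lie.chevG2, Cfsg.Lie.chevB2, Cfsg.Lie.chevD4, Cfsg.Lie.chevF4, Cfsg.Lie.chevE6, Cfsg.Lie.chevE7, Cfsg.Lie.chevE8]) (f g : ↥(D.group F) ≃* ↥(D.group F))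
    (hf : D.IsFieldAut f) (hg : D.IsGraphAut g) (y : ↥(D.group F)) : f (g y) = g (f y) := by
  obtain ⟨R, η, hc, hm⟩ := good_of_mem hD
  obtain ⟨σ, hf⟩ := hf
  obtain ⟨π, -, hg⟩ := hg
  have h1 : ∀ r t, f (xg hc hm F r t) = xg hc hm F r (σ t) := fun r t =>
    eq_xg hc hm ((hf _ r t r.2 (x_coe F r t).symm).trans (x_coe F r _))
  simp only [← hc.simple_eq, ← hc.neg_eq, x_coe] at hg
  have h2 := fun i t => eq_xg hc hm ((hg _ i t).1 (xg_val hc hm _ t))
  have h3 := fun i t => eq_xg hc hm ((hg _ i t).2 (xg_val hc hm _ t))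
  have : MonoidHom.eqLocus (g.trans f).toMonoidHom (f.trans g).toMonoidHom = ⊤ :=
    eq_top_of_simple hc hm (fun i t => show f (g _) = g (f _) by rw [h2, h1, h1, h2, map_pow])
      fun i t => show f (g _) = g (f _) by rw [h3, h1, h1, h3, map_pow]
  exact (this.ge (Subgroup.mem_top y) :)

end Cfsg.Agent.S2160
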