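import Cfsg.Statements.S2161
import Cfsg.Agent.Lib.Twist.Graph

set_option autoImplicit false
open Cfsg

namespace Cfsg.Agent.S2161

open Cfsg.Lib.Twist Cfsg.Lib.Chev

theorem aux {F : Type*} [Field F] {D : Lie.ChevalleyDatum} {t : RTab} (h : RootOK D t) {η : ℕ → ℕ → ℤ} (hm : MatOK D η)
    (h1 : allLt D.nroots (fun r => Nat.beq (lk t.L r) 1) = true)
    (h2 : ∀ i j : Fin D.rank, i ≠ j → aN t.Am i j = -(aN t.Am i j * aN t.Am j i))
    (π : Equiv.Perm (Fin D.rank)) (hπ : D.IsDiagramSymmetry π) (φ : D.group F ≃* D.group F)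
    (hφ : ∀ (g : D.group F) (i : Fin D.rank) (t : F),
      (g.1.1 = D.x F (D.simple i) t → (φ g).1.1 = D.x F (D.simple (π i)) t) ∧
      (g.1.1 = D.x F (D.neg (D.simple i)) t → (φ g).1.1 = D.x F (D.neg (D.simple (π i))) t))
    (r : ℕ) (hr : r < D.nroots) : ∃ ε : F, (ε = 1 ∨ ε = -1) ∧ ∀ (g : D.group F) (t : F),
      g.1.1 = D.x F r t → (φ g).1.1 = D.x F (D.permRoot π r) (ε * t) := by
  have hc := h.compat
  have a1 : ∀ i j, h.R.A (π i) (π j) = h.R.A i j := fun i j => by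
    by_cases hij : i = j
    · rw [hij, h.R.A_self, h.R.A_self]
    · have := hπ i j hij
      simp only [Lie.ChevalleyDatum.bonds, ← hc.simple_eq, hc.cartan_eq, h.R.pair_simple_simple, h.R_A] at this
      rw [h.R_A, h.R_A, h2 _ _ hij, h2 _ _ (π.injective.ne hij), this]
  obtain ⟨T, rfl, hT⟩ := Tw.exists_of_lin a1
  have a2 : ∀ r i, h.R.co r i = h.R.rt r i := fun r i => by
    have := h.R.len_co r i
    rwa [h.R_len, h.R_len, Nat.eq_of_beq_eq_true (allLt_spec h1 r r.2),
      Nat.eq_of_beq_eq_true (allLt_spec h1 _ (h.R.simple i).2), Nat.cast_one, one_mul, one_mul] at this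
  have a3 : D.permRoot T.π r = T.ρ ⟨r, hr⟩ := by
    have e : ∀ s : Fin D.nroots, ((List.finRange D.rank).all fun i =>
        (D.coroot.getD s #[]).getD (T.π i).val 0 == (D.coroot.getD r #[]).getD i.val 0) = true ↔ s = T.ρ ⟨r, hr⟩ := by
      intro s
      have e1 : ∀ i : Fin D.rank, (D.coroot.getD r #[]).getD i 0 = h.R.rt (T.ρ ⟨r, hr⟩) (T.π i) := fun i => by
        rw [hT, ← a2, hc.co_eq]
      simp only [List.all_eq_true, List.mem_finRange, true_imp_iff, beq_iff_eq, ← hc.co_eq, e1, a2]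
      exact ⟨fun e2 => h.R.rt_inj (funext (T.π.surjective.forall.2 e2)), fun e2 _ => by rw [e2]⟩
    rw [Lie.ChevalleyDatum.permRoot]
    cases e1 : (List.range D.nroots).find? _ with
    | none => exact absurd ((e _).2 rfl) (List.find?_eq_none.1 e1 _ (List.mem_range.2 (T.ρ _).2))
    | some s =>
      have e2 := List.find?_some e1
      exact congrArg Fin.val ((e ⟨s, List.mem_range.1 (List.mem_of_find?_eq_some e1)⟩).1 e2)
  simp only [← hc.simple_eq, ← hc.neg_eq, x_coe] at hφ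
  have b1 := fun i t => eq_xg hc hm ((hφ _ i t).1 (xg_val hc hm _ t))
  have b2 := fun i t => eq_xg hc hm ((hφ _ i t).2 (xg_val hc hm _ t))
  have b3 : ∀ i, φ (ng hc hm F i) = ng hc hm F (T.π i) := fun i => by simp only [ng, map_mul, b1, b2]
  have b4 : ∀ r, ∃ ε : F, ε * ε = 1 ∧ ∀ t, φ (xg hc hm F r t) = xg hc hm F (T.ρ r) (ε * t) := by
    intro r
    induction r using h.R.root_induction with
    | h1 i => exact ⟨1, one_mul _, fun t => by rw [b1, T.ρ_simple, one_mul]⟩
    | h2 i r ih =>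
      obtain ⟨ε, h3, h4⟩ := ih
      have e1 := hc.eta_sq' hm F i r
      have e2 := hc.eta_sq' hm F (T.π i) (T.ρ r)
      refine ⟨η (T.π i) (T.ρ r) * ε * η i r, by linear_combination (ε * ε * η i r * η i r) * e2 + (η i r * η i r) * h3 + e1,
        fun t => ?_⟩
      rw [← one_mul t, ← e1, mul_assoc, ← ng_conj, map_mul, map_mul, map_inv, b3, h4, ng_conj, T.ρ_s]
      congr 1; linear_combination (-(η (T.π i) (T.ρ r) * ε * η i r * t : F)) * e1
  obtain ⟨ε, h3, h4⟩ := b4 ⟨r, hr⟩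
  refine ⟨ε, mul_self_eq_one_iff.1 h3, fun g t hg => ?_⟩
  rw [eq_xg hc hm (hg.trans (x_coe F ⟨r, hr⟩ t)), h4, a3, x_coe, xg_val]

/-- For the Chevalley groups of types D₄ and E₆ (one root length) over any field: if `π` is a symmetry of the Dynkin diagram and `φ` is an automorphism sending `x_{p_i}(t)` to `x_{p_{π i}}(t)` and `x_{-p_i}(t)` to `x_{-p_{π i}}(t)` for every fundamental root `p_i`, then for every root `r` there is a sign `ε = ±1` with `φ(x_r(t)) = x_{π·r}(ε t)` for all `t`, where `π·r` is the root whose coefficients are those of `r` permuted by `π`. -/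
theorem result {F : Type*} [Field F] (D : Cfsg.Lie.ChevalleyDatum) (hD : D ∈ [Cfsg.Lie.chevD4, Cfsg.Lie.chevE6])
    (π : Equiv.Perm (Fin D.rank)) (hπ : D.IsDiagramSymmetry π) (φ : ↥(D.group F) ≃* ↥(D.group F))
    (hφ : ∀ (g : ↥(D.group F)) (i : Fin D.rank) (t : F),
      (((g : GL D.Idx F) : Matrix D.Idx D.Idx F) = D.x F (D.simple i) t →
        ((φ g : GL D.Idx F) : Matrix D.Idx D.Idx F) = D.x F (D.simple (π i)) t) ∧
      (((g : GL D.Idx F) : Matrix D.Idx D.Idx F) = D.x F (D.neg (D.simple i)) t →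
        ((φ g : GL D.Idx F) : Matrix D.Idx D.Idx F) = D.x F (D.neg (D.simple (π i))) t))
    (r : ℕ) (hr : r < D.nroots) :
    ∃ ε : F, (ε = 1 ∨ ε = -1) ∧ ∀ (g : ↥(D.group F)) (t : F),
      ((g : GL D.Idx F) : Matrix D.Idx D.Idx F) = D.x F r t →
        ((φ g : GL D.Idx F) : Matrix D.Idx D.Idx F) = D.x F (D.permRoot π r) (ε * t) := by
  simp only [List.mem_cons, List.not_mem_nil, or_false] at hD
  rcases hD with rfl | rfl
  · exact aux rootOK_D4 matOK_D4 (by decide +kernel) (by decide +kernel) π hπ φ hφ r hr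
  · exact aux rootOK_E6 matOK_E6 (by decide +kernel) (by decide +kernel) π hπ φ hφ r hr

end Cfsg.Agent.S2161
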