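import Cfsg.Statements.S2162
import Cfsg.Agent.Lib.Known.SimilarMat

set_option autoImplicit false
open Cfsg

namespace Cfsg.Agent.S2162

open Cfsg.Lib.Known

open Polynomial

/-- Conjugacy of involutions in the special linear group over a finite field of characteristic two, in dimension at least 3: two elements of order 2 of SL_n(F) are conjugate in SL_n(F) exactly when the matrices a − 1 and b − 1 have the same rank (the rank of a − 1 is the dimension of the commutator space [V, a]). -/
theorem result {F : Type*} [Field F] [Fintype F] [CharP F 2] {n : ℕ} (hn : 3 ≤ n) (a b : Matrix.SpecialLinearGroup (Fin n) F) (ha : orderOf a = 2) (hb : orderOf b = 2) :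
    IsConj a b ↔ ((a : Matrix (Fin n) (Fin n) F) - 1).rank = ((b : Matrix (Fin n) (Fin n) F) - 1).rank := by
  have hsq : ∀ c : Matrix.SpecialLinearGroup (Fin n) F, orderOf c = 2 →
      ((c : Matrix (Fin n) (Fin n) F) - 1) ^ 2 = 0 := fun c hc => by
    have h := sub_one_pow_char_pow 2 (c : Matrix (Fin n) (Fin n) F) 1
    rw [pow_one] at h
    rw [h, sub_eq_zero, ← Matrix.SpecialLinearGroup.coe_pow, ← hc, pow_orderOf_eq_one]; rfl
  constructor
  · intro h
    have := rank_aeval_eq_of_ed_eq (ed_eq_of_isConj_SL h) (X - 1)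
    rwa [map_sub, map_sub, aeval_X, aeval_X, map_one, map_one] at this
  · intro h
    refine DetSurj.isConj ?_ (ed_eq_of_sq_eq_zero (hsq a ha) (hsq b hb) h)
    haveI : Nonempty (Fin n) := ⟨⟨0, by omega⟩⟩
    obtain ⟨x, hx⟩ := Multiset.exists_mem_of_ne_zero (ed_ne_zero (a : Matrix (Fin n) (Fin n) F))
    obtain ⟨h1, h2⟩ := (sub_one_pow_eq_zero_iff_ed _ 2).1 (hsq a ha) x hx
    have h3 := (isED_ed _ x hx).2.2
    intro c hc
    obtain ⟨r, rfl⟩ := FiniteField.isSquare_of_char_two (ringChar.eq F 2) c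
    rcases (show x.2 = 1 ∨ x.2 = 2 by omega) with h4 | h4
    · obtain ⟨g, hg1, hg2⟩ := exists_GL_comm_det_pow hx (r * r) hc
      exact ⟨g, hg1, by rw [hg2, h4, h1, natDegree_X_sub_one', pow_one]⟩
    · obtain ⟨g, hg1, hg2⟩ := exists_GL_comm_det_pow hx r (left_ne_zero_of_mul hc)
      exact ⟨g, hg1, by rw [hg2, h4, h1, natDegree_X_sub_one', mul_one, pow_two]⟩

end Cfsg.Agent.S2162
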