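import Cfsg.Statements.S2163
import Cfsg.Agent.Lib.Max.Inv2M

set_option autoImplicit false
open Cfsg

namespace Cfsg.Agent.S2163

open Matrix Cfsg.Lib.Forms

section
variable {F : Type*} [Field F] {n l : ℕ}

theorem rank_mul_eq {A : Matrix (Fin n) (Fin l) F} {B : Matrix (Fin l) (Fin n) F}
    {C : Matrix (Fin l) (Fin n) F} {D : Matrix (Fin n) (Fin l) F} (h1 : C * A = 1) (h2 : B * D = 1) :
    (A * B).rank = l := by
  refine le_antisymm ((rank_mul_le_left _ _).trans (rank_le_width _)) ?_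
  have : C * (A * B) * D = 1 := by rw [← Matrix.mul_assoc, h1, Matrix.one_mul, h2]
  calc l = (C * (A * B) * D).rank := by rw [this, rank_one, Fintype.card_fin]
    _ ≤ _ := (rank_mul_le_left _ _).trans (rank_mul_le_right _ _)

theorem exists_sl (h2 : (2 : F) = 0) (hl : 1 ≤ l) {A : Matrix (Fin n) (Fin l) F}
    {B : Matrix (Fin l) (Fin n) F} (h0 : B * A = 0) (hr : (A * B).rank = l) :
    ∃ a : SpecialLinearGroup (Fin n) F, a.1 = 1 + A * B ∧ orderOf a = 2 ∧ (a.1 - 1).rank = l := by
  refine ⟨⟨1 + A * B, by rw [det_one_add_mul_comm, h0, add_zero, det_one]⟩, rfl,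
    orderOf_eq_two_iff'.2 ⟨Subtype.ext ?_, fun h => ?_⟩, by simpa using hr⟩
  · show (1 + A * B) * (1 + A * B) = 1
    rw [Matrix.add_mul, Matrix.one_mul, Matrix.mul_add, Matrix.mul_one, Matrix.mul_assoc A,
      ← Matrix.mul_assoc B, h0, Matrix.zero_mul, Matrix.mul_zero, add_zero, add_assoc, ← two_smul F,
      h2, zero_smul, add_zero]
  · have : A * B = 0 := by simpa using congrArg Subtype.val h
    rw [this, rank_zero] at hr; omega

variable (F) in
/-- Columns of the identity matrix. -/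
def P (f : Fin l → Fin n) : Matrix (Fin n) (Fin l) F := of fun i k => if i = f k then 1 else 0

theorem PT_mul_P (f g : Fin l → Fin n) (k k' : Fin l) :
    ((P F f)ᵀ * P F g) k k' = if f k = g k' then 1 else 0 := by
  simp [P, mul_apply, eq_comm]

theorem P_mul_PT {f : Fin l → Fin n} (hf : Function.Injective f) (g : Fin l → Fin n) (i j : Fin n)
    (p : Prop) [Decidable p] (h : p ↔ ∃ k, i = f k ∧ j = g k) :
    (P F f * (P F g)ᵀ) i j = if p then 1 else 0 := by
  simp only [P, mul_apply, transpose_apply, of_apply]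
  split_ifs with hp
  · obtain ⟨k, rfl, rfl⟩ := h.1 hp
    rw [Finset.sum_eq_single k] <;> simp +contextual [hf.eq_iff, eq_comm]
  · exact Finset.sum_eq_zero fun k _ => by
      split_ifs with h1 h2 <;> simp
      exact hp (h.2 ⟨k, h1, h2⟩)

/-- The first `l` indices. -/
def fst (h : 2 * l ≤ n) (k : Fin l) : Fin n := ⟨k, by omega⟩
/-- The last `l` indices. -/
def lst (h : 2 * l ≤ n) (k : Fin l) : Fin n := ⟨k + (n - l), by omega⟩

variable (h : 2 * l ≤ n)
theorem fst_inj : Function.Injective (fst h) := fun a b e => by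
  simpa [fst, Fin.ext_iff] using e
theorem lst_inj : Function.Injective (lst h) := fun a b e => by
  simpa [lst, Fin.ext_iff] using e
theorem ff : (P F (fst h))ᵀ * P F (fst h) = 1 := by
  ext; simp [PT_mul_P, (fst_inj h).eq_iff, one_apply]
theorem ll : (P F (lst h))ᵀ * P F (lst h) = 1 := by
  ext; simp [PT_mul_P, (lst_inj h).eq_iff, one_apply]
theorem fl : (P F (fst h))ᵀ * P F (lst h) = 0 := by
  ext a b; rw [PT_mul_P, if_neg (by simp only [fst, lst, Fin.ext_iff]; omega)]; rfl
theorem lf : (P F (lst h))ᵀ * P F (fst h) = 0 := by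
  ext a b; rw [PT_mul_P, if_neg (by simp only [fst, lst, Fin.ext_iff]; omega)]; rfl
theorem lf' (i j : Fin n) : (P F (lst h) * (P F (fst h))ᵀ) i j =
    if j.val < l ∧ i.val = j.val + (n - l) then 1 else 0 :=
  P_mul_PT (lst_inj h) _ _ _ _ ⟨fun e => ⟨⟨j, e.1⟩, Fin.ext e.2, rfl⟩,
    by rintro ⟨k, rfl, rfl⟩; exact ⟨k.2, rfl⟩⟩
end

/-- Over a finite field of characteristic two and for n ≥ 3: for every ℓ with 1 ≤ ℓ and 2ℓ ≤ n, the matrix j_ℓ that is the identity plus the entries 1 in positions (n − ℓ + i, i) for i < ℓ (an identity block of size ℓ in the lower left corner) lies in SL_n(F), has order 2, and j_ℓ − 1 has rank ℓ. Together with the conjugacy criterion by rank, these matrices represent the conjugacy classes of involutions of SL_n(F). -/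
theorem result {F : Type*} [Field F] [Fintype F] [CharP F 2] {n : ℕ} (hn : 3 ≤ n) (ℓ : ℕ) (h1 : 1 ≤ ℓ) (h2 : 2 * ℓ ≤ n) :
    ∃ a : Matrix.SpecialLinearGroup (Fin n) F, (a : Matrix (Fin n) (Fin n) F) = 1 + Matrix.of (fun i j : Fin n => if j.val < ℓ ∧ i.val = j.val + (n - ℓ) then (1 : F) else 0) ∧ orderOf a = 2 ∧ ((a : Matrix (Fin n) (Fin n) F) - 1).rank = ℓ := by
  obtain ⟨a, e, H⟩ := exists_sl two_eq_zero_of_charP h1 (fl h2) (rank_mul_eq (F := F) (ll h2) (ff h2))
  exact ⟨a, e.trans (by congr 1; ext i j; exact lf' h2 i j), H⟩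

end Cfsg.Agent.S2163
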