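import Cfsg.Statements.S2164
import Cfsg.Agent.Lib.Max.Inv2M
import Cfsg.Agent.S2162

set_option autoImplicit false
open Cfsg

namespace Cfsg.Agent.S2164

open Matrix Cfsg.Lib.Forms Form



/-- Conjugacy of involutions in the special unitary group SU_n(q), q even, n ≥ 3, realised over the field F with q² elements as the matrices of determinant 1 preserving the form Σ u_i v_i^q: for two elements of order 2 of SU_n(q) the following are equivalent — they are conjugate in SU_n(q); they are conjugate in SL_n(F); the matrices a − 1 and b − 1 have the same rank. -/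
theorem result {F : Type*} [Field F] [Fintype F] [CharP F 2] {n q : ℕ} (hF : Fintype.card F = q ^ 2) (hn : 3 ≤ n) (a b : ↥(Cfsg.SU n F q)) (ha : orderOf a = 2) (hb : orderOf b = 2) :
    (IsConj a b ↔ IsConj (a : Matrix.SpecialLinearGroup (Fin n) F) (b : Matrix.SpecialLinearGroup (Fin n) F)) ∧
    (IsConj a b ↔ (((a : Matrix.SpecialLinearGroup (Fin n) F) : Matrix (Fin n) (Fin n) F) - 1).rank = (((b : Matrix.SpecialLinearGroup (Fin n) F) : Matrix (Fin n) (Fin n) F) - 1).rank) := by
  obtain ⟨σ, h⟩ := isConj_of_card hF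
  have h2 : (2 : F) = 0 := two_eq_zero_of_charP
  have H := S2162.result hn a.1 b.1 ((Subgroup.orderOf_coe a).trans ha) ((Subgroup.orderOf_coe b).trans hb)
  have H1 : IsConj a b → IsConj a.1 b.1 := (SU n F q).subtype.map_isConj
  suffices IsConj a.1 b.1 → IsConj a b from ⟨⟨H1, this⟩, Iff.trans ⟨H1, this⟩ H⟩
  rw [H, rank_eq_supp (g := (suEquiv h n a).1.1) fun _ => (suEquiv_apply h _ _).symm,
    rank_eq_supp (g := (suEquiv h n b).1.1) fun _ => (suEquiv_apply h _ _).symm,
    ← isConj_equiv (suEquiv h n), isConj_subgroup]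
  exact Herm.exists_conj_det (stdHerm_nondeg h _) h2 (congrArg Subtype.val (equiv_sq (suEquiv h n) ha))
    (fun e => (orderOf_eq_two_iff'.1 ha).2 ((suEquiv h n).map_eq_one_iff.1 (Subtype.ext e)))
    (congrArg Subtype.val (equiv_sq (suEquiv h n) hb))

end Cfsg.Agent.S2164
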