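import Cfsg.Statements.S2165
import Cfsg.Agent.S2163

set_option autoImplicit false
open Cfsg

namespace Cfsg.Agent.S2165

open Matrix Cfsg.Lib.Forms S2163



/-- In SU_n(q), q even, n ≥ 3 (matrices of determinant 1 over the field with q² elements preserving Σ u_i v_i^q): for every ℓ with 1 ≤ ℓ and 2ℓ ≤ n, the permutation matrix of the involution of {0, …, n−1} exchanging i and n − ℓ + i for each i < ℓ lies in SU_n(q), has order 2, and differs from the identity by a matrix of rank ℓ. So every rank between 1 and n/2 occurs for involutions of SU_n(q). -/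
theorem result {F : Type*} [Field F] [Fintype F] [CharP F 2] {n q : ℕ} (hF : Fintype.card F = q ^ 2) (hn : 3 ≤ n) (ℓ : ℕ) (h1 : 1 ≤ ℓ) (h2 : 2 * ℓ ≤ n) :
    ∃ a : ↥(Cfsg.SU n F q), (((a : Matrix.SpecialLinearGroup (Fin n) F) : Matrix (Fin n) (Fin n) F) = Matrix.of (fun i j : Fin n => if (j.val < ℓ ∧ i.val = j.val + (n - ℓ)) ∨ (i.val < ℓ ∧ j.val = i.val + (n - ℓ)) ∨ (i = j ∧ ℓ ≤ i.val ∧ i.val < n - ℓ) then (1 : F) else 0)) ∧ orderOf a = 2 ∧ ((((a : Matrix.SpecialLinearGroup (Fin n) F) : Matrix (Fin n) (Fin n) F)) - 1).rank = ℓ := by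
  obtain ⟨σ, h⟩ := isConj_of_card hF
  have h0 : (2 : F) = 0 := two_eq_zero_of_charP
  have h11 : (1 : F) + 1 = 0 := one_add_one_eq_two.trans h0
  set A := P F (fst h2) + P F (lst h2) with hA
  have hAA : Aᵀ * A = 0 := by
    rw [hA, transpose_add, Matrix.add_mul, Matrix.mul_add, Matrix.mul_add, ff, fl, lf, ll, add_zero,
      zero_add, ← two_smul F, h0, zero_smul]
  have hC : (P F (fst h2))ᵀ * A = 1 := by rw [hA, Matrix.mul_add, ff, fl, add_zero]
  obtain ⟨a, e, H, H'⟩ := exists_sl h0 h1 hAA (rank_mul_eq hC (D := P F (fst h2))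
    (by rw [← transpose_transpose (P F (fst h2)), ← transpose_mul, hC, transpose_one]))
  have e' : a.1 = Matrix.of (fun i j : Fin n => if (j.val < ℓ ∧ i.val = j.val + (n - ℓ)) ∨ (i.val < ℓ ∧ j.val = i.val + (n - ℓ)) ∨ (i = j ∧ ℓ ≤ i.val ∧ i.val < n - ℓ) then (1 : F) else 0) := by
    rw [e, hA, transpose_add, Matrix.add_mul, Matrix.mul_add, Matrix.mul_add]
    ext i j
    have e1 := P_mul_PT (F := F) (fst_inj h2) (fst h2) i j (i.val < ℓ ∧ i.val = j.val)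
      ⟨fun e => ⟨⟨i, e.1⟩, rfl, Fin.ext e.2.symm⟩, by rintro ⟨k, rfl, rfl⟩; exact ⟨k.2, rfl⟩⟩
    have e2 := P_mul_PT (F := F) (fst_inj h2) (lst h2) i j (i.val < ℓ ∧ j.val = i.val + (n - ℓ))
      ⟨fun e => ⟨⟨i, e.1⟩, rfl, Fin.ext e.2⟩, by rintro ⟨k, rfl, rfl⟩; exact ⟨k.2, rfl⟩⟩
    have e3 := P_mul_PT (F := F) (lst_inj h2) (lst h2) i j (n - ℓ ≤ i.val ∧ i.val = j.val)
      ⟨fun e => ⟨⟨i - (n - ℓ), by omega⟩, Fin.ext (by simp only [lst]; omega),
        Fin.ext (by simp only [lst]; omega)⟩, by rintro ⟨k, rfl, rfl⟩; exact ⟨by simp [lst], rfl⟩⟩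
    simp only [Matrix.add_apply, e1, e2, e3, lf', one_apply, of_apply, Fin.ext_iff]
    split_ifs <;> first | omega | simp [h11]
  have hT : a.1ᵀ * a.1 = 1 := by
    have : a.1ᵀ = a.1 := by rw [e, transpose_add, transpose_one, transpose_mul, transpose_transpose]
    rw [this]; exact congrArg Subtype.val (orderOf_eq_two_iff'.1 H).1
  have hσ : a.1.map σ = a.1 := by
    rw [e']; ext i j; simp only [map_apply, of_apply]; split_ifs <;> simp
  refine ⟨⟨a, fun u v => ?_⟩, e', (Subgroup.orderOf_coe _).symm.trans H, H'⟩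
  rw [hermForm_eq h, hermForm_eq h, stdHerm_B, stdHerm_B]
  show (σ ∘ (a.1 *ᵥ v)) ⬝ᵥ (a.1 *ᵥ u) = (σ ∘ v) ⬝ᵥ u
  have : σ ∘ (a.1 *ᵥ v) = a.1 *ᵥ (σ ∘ v) := funext fun i => by
    rw [Function.comp_apply, RingHom.map_mulVec, hσ]
  rw [this, dotProduct_mulVec, ← mulVec_transpose, mulVec_mulVec, hT, one_mulVec]

end Cfsg.Agent.S2165
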