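import Cfsg.Statements.S2166
import Cfsg.Agent.Lib.Max.Inv2M

set_option autoImplicit false
open Cfsg

namespace Cfsg.Agent.S2166

open Matrix Cfsg.Lib.Forms Form



/-- Conjugacy of involutions in the symplectic group Sp_{2m}(F), F a finite field of characteristic two, m ≥ 2 (Sp taken as the matrices A with A J Aᵀ = J, acting on column vectors, with the alternating form f(u, v) = u ⬝ (J v)). For an involution t write V(t) for the set of vectors v with f(v, t v) = 0 (a subspace). Two involutions a, b are conjugate in Sp_{2m}(F) exactly when a − 1 and b − 1 have the same rank and, in case that rank is even, V(a) and V(b) have the same number of elements. -/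
theorem result {F : Type*} [Field F] [Fintype F] [CharP F 2] {m : ℕ} (hm : 2 ≤ m) (a b : ↥(Matrix.symplecticGroup (Fin m) F)) (ha : orderOf a = 2) (hb : orderOf b = 2) :
    IsConj a b ↔ ((((a : ↥(Matrix.symplecticGroup (Fin m) F)) : Matrix (Fin m ⊕ Fin m) (Fin m ⊕ Fin m) F) - 1).rank = (((b : ↥(Matrix.symplecticGroup (Fin m) F)) : Matrix (Fin m ⊕ Fin m) (Fin m ⊕ Fin m) F) - 1).rank ∧
      (Even (((a : ↥(Matrix.symplecticGroup (Fin m) F)) : Matrix (Fin m ⊕ Fin m) (Fin m ⊕ Fin m) F) - 1).rank → Nat.card {v : Fin m ⊕ Fin m → F // Cfsg.sympForm m F v (Matrix.mulVec ((a : ↥(Matrix.symplecticGroup (Fin m) F)) : Matrix (Fin m ⊕ Fin m) (Fin m ⊕ Fin m) F) v) = 0} = Nat.card {v : Fin m ⊕ Fin m → F // Cfsg.sympForm m F v (Matrix.mulVec ((b : ↥(Matrix.symplecticGroup (Fin m) F)) : Matrix (Fin m ⊕ Fin m) (Fin m ⊕ Fin m) F) v) = 0})) := by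
  have h2 : (2 : F) = 0 := two_eq_zero_of_charP
  have hD := fSymp_nondeg (F := F) m
  have ha' := equiv_sq (spEquiv F m) ha
  have hb' := equiv_sq (spEquiv F m) hb
  rw [← isConj_equiv (spEquiv F m), Symp.isConj_iff hD h2 ha' hb', sp_rank, sp_rank]
  simp only [← fSymp_B, ← spEquiv_apply]
  have hq : 1 < Nat.card F := Finite.one_lt_card
  have key : ∀ t : (fSymp F m).isom, t * t = 1 → ((fSymp F m).AltI t ↔
      Nat.card {v // (fSymp F m).B v (t.1 v) = 0} = Nat.card F ^ (2 * m)) := fun t ht => by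
    refine ⟨fun h => by rw [Symp.card_B_eq_zero_of_altI h, Nat.card_fun]; simp [two_mul], fun h => ?_⟩
    by_contra hA
    have := Symp.card_B_eq_zero hD h2 ht hA
    rw [h, finrank_plus] at this
    nlinarith [pow_pos (zero_lt_one.trans hq) (2 * m)]
  refine and_congr_right fun hr => ⟨fun H _ => ?_, fun H => ?_⟩
  · by_cases hA : (fSymp F m).AltI (spEquiv F m a)
    · rw [(key _ ha').1 hA, (key _ hb').1 (H.1 hA)]
    · exact Nat.eq_of_mul_eq_mul_right (zero_lt_one.trans hq) ((Symp.card_B_eq_zero hD h2 ha' hA).trans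
        (Symp.card_B_eq_zero hD h2 hb' (mt H.2 hA)).symm)
  · by_cases he : Even (Module.finrank F (supp (spEquiv F m a).1))
    · rw [key _ ha', key _ hb', H he]
    · exact iff_of_false (fun h => he (Symp.altI_even hD h)) fun h => he (hr ▸ Symp.altI_even hD h)

end Cfsg.Agent.S2166
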