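import Cfsg.Statements.S2174
import Cfsg.Agent.Lib.Chev.InvolD
import Cfsg.Agent.Lib.Twist.RootAll

set_option autoImplicit false
open Cfsg Cfsg.Lie Cfsg.Lib.Chev Cfsg.Lib.Twist

namespace Cfsg.Agent.S2174

set_option synthInstance.maxSize 4000
set_option synthInstance.maxHeartbeats 400000

/-- Conjugacy classes of involutions in the Chevalley group of type F₄ over a finite field F of characteristic two (the matrix group generated by the root elements x_r(t)). In this problem's root numbering for type F₄ (the Chevalley data module; fundamental roots p₁, p₂ short and p₃, p₄ long; roots indexed by their coefficient vectors in increasing order) let r = 47 be the highest root (2,4,3,2), s = 44 the highest short root (2,3,2,1), and α = 39 = (1,2,2,1), β = 45 = (2,4,2,1), an orthogonal short/long pair; consider the four elements x_r(1), x_s(1), x_r(1)x_s(1), x_α(1)x_β(1). Then: each invertible matrix equal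 to one of these four products lies in the group and has order 2; every element of order 2 of the group is conjugate in the group to one of them; and no two of them are conjugate in the group (so, the four matrices being distinct, the group has exactly four conjugacy classes of involutions). -/
theorem result {F : Type*} [Field F] [Fintype F] [CharP F 2] :
    (∀ y : GL Cfsg.Lie.chevF4.Idx F, ((y : GL Cfsg.Lie.chevF4.Idx F) : Matrix Cfsg.Lie.chevF4.Idx Cfsg.Lie.chevF4.Idx F) ∈ [Cfsg.Lie.chevF4.x F 47 1, Cfsg.Lie.chevF4.x F 44 1, Cfsg.Lie.chevF4.x F 47 1 * Cfsg.Lie.chevF4.x F 44 1, Cfsg.Lie.chevF4.x F 39 1 * Cfsg.Lie.chevF4.x F 45 1] → y ∈ Cfsg.Lie.chevF4.group F ∧ orderOf y = 2) ∧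
    (∀ g ∈ Cfsg.Lie.chevF4.group F, orderOf g = 2 → ∃ y ∈ Cfsg.Lie.chevF4.group F, ((y : GL Cfsg.Lie.chevF4.Idx F) : Matrix Cfsg.Lie.chevF4.Idx Cfsg.Lie.chevF4.Idx F) ∈ [Cfsg.Lie.chevF4.x F 47 1, Cfsg.Lie.chevF4.x F 44 1, Cfsg.Lie.chevF4.x F 47 1 * Cfsg.Lie.chevF4.x F 44 1, Cfsg.Lie.chevF4.x F 39 1 * Cfsg.Lie.chevF4.x F 45 1] ∧ ∃ h ∈ Cfsg.Lie.chevF4.group F, h * g * h⁻¹ = y) ∧
    (∀ y₁ ∈ Cfsg.Lie.chevF4.group F, ∀ y₂ ∈ Cfsg.Lie.chevF4.group F, ((y₁ : GL Cfsg.Lie.chevF4.Idx F) : Matrix Cfsg.Lie.chevF4.Idx Cfsg.Lie.chevF4.Idx F) ∈ [Cfsg.Lie.chevF4.x F 47 1, Cfsg.Lie.chevF4.x F 44 1, Cfsg.Lie.chevF4.x F 47 1 * Cfsg.Lie.chevF4.x F 44 1, Cfsg.Lie.chevF4.x F 39 1 * Cfsg.Lie.chevF4.x F 45 1] → ((y₂ : GL Cfsg.Lie.chevF4.Idx F) : Matrix Cfsg.Lie.chevF4.Idx Cfsg.Lie.chevF4.Idx F) ∈ [Cfsg.Lie.chevF4.x F 47 1, Cfsg.Lie.chevF4.x F 44 1, Cfsg.Lie.chevF4.x F 47 1 * Cfsg.Lie.chevF4.x F 44 1, Cfsg.Lie.chevF4.x F 39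 1 * Cfsg.Lie.chevF4.x F 45 1] →
      (∃ h ∈ Cfsg.Lie.chevF4.group F, h * y₁ * h⁻¹ = y₂) → ((y₁ : GL Cfsg.Lie.chevF4.Idx F) : Matrix Cfsg.Lie.chevF4.Idx Cfsg.Lie.chevF4.Idx F) = ((y₂ : GL Cfsg.Lie.chevF4.Idx F) : Matrix Cfsg.Lie.chevF4.Idx Cfsg.Lie.chevF4.Idx F)) := by
  have hc := rootOK_F4.compat
  exact invol_matrix rootOK_F4 matOK_F4 (by simp [mul_assoc]) (invol_classes rootOK_F4 (hc.gexact matOK_F4 (F := F)) (hc.gst matOK_F4) (hc.gsep matOK_F4) (hc.gopp matOK_F4) (hc.ggen matOK_F4)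
    (commute_of_dec rootOK_F4 (hc.gexact matOK_F4) (Or.inr (by decide +kernel))) (reps := [[47], [44], [47, 44], [39, 45]]) (A := fun l => if l = [47, 44] then [44, 47] else if l = [39, 45] then [39, 40, 44, 45, 46, 47] else l)
    (fun l hl => brep_dec rootOK_F4 (hc.gexact matOK_F4) (by rintro rfl; simp at hl) (by
      generalize l.map Fin.val = l' at hl ⊢
      revert l'; decide +kernel))
    (cert := [([44], []), ([47], []), ([29, 44], [10]), ([37, 47], [3, 2]), ([41, 47], [22]), ([32, 44], [0, 1]), ([29, 30, 44], [10, 18, 40, 3, 2, 0, 1]), ([25, 37, 47], [13, 27, 30, 3, 2]), ([28, 41, 47], [22, 27, 46, 3, 0, 1, 2]), ([27, 32, 44], [8, 18, 38, 0, 1]), ([30, 41, 47], [15, 33, 37, 3, 2, 1]), ([24, 32, 44], [10, 23, 46, 0, 1]), ([33, 37, 47], [21, 22, 40, 3, 2]), ([28, 29, 44], [9, 28, 45, 0, 1, 2]), ([27, 28, 41, 47], [15, 26, 42, 22, 27, 46, 3, 0, 1, 2]), ([25, 33, 37, 47], [13, 20, 36, 21, 22, 40,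 3, 2]), ([24, 27, 32, 44], [8, 16, 41, 10, 23, 46, 0, 1]), ([27, 28, 29, 44], [8, 29, 46, 17, 27, 41, 2, 0, 1, 2]), ([25, 29, 30, 44], [9, 24, 47, 10, 18, 40, 3, 2, 0, 1]), ([25, 30, 41, 47], [13, 31, 40, 18, 25, 36, 3, 1, 2, 1])])
    (by decide +kernel) (by decide +kernel) (by decide +kernel))

end Cfsg.Agent.S2174
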