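import Cfsg.Statements.S2176
import Cfsg.Agent.Lib.Chev.InvolD
import Cfsg.Agent.Lib.Twist.RootAll

set_option autoImplicit false
open Cfsg Cfsg.Lie Cfsg.Lib.Chev Cfsg.Lib.Twist

namespace Cfsg.Agent.S2176

set_option synthInstance.maxSize 4000
set_option synthInstance.maxHeartbeats 400000

/-- Conjugacy classes of involutions in the Chevalley group of type E₈ over a finite field F of characteristic two (the matrix group generated by the root elements x_r(t)). In this problem's root numbering for type E₈ (the Chevalley data module; fundamental roots numbered so that p₁–p₃–p₄–p₅–p₆–p₇–p₈ is the long chain of the diagram and p₂ is joined to p₄; roots indexed by their coefficient vectors in increasing order) let r = 239 be the highest root (2,3,4,6,5,4,3,2), α = 232 = (2,2,4,5,4,3,2,1), β = 233 = (2,3,3,5,4,3,2,1), γ =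 228 = (2,2,3,4,3,2,2,1), δ = 222 = (1,2,3,4,3,3,2,1), ε = 218 = (1,2,2,4,4,3,2,1), φ = 226 = (2,2,3,4,3,2,1,0), ψ = 220 = (1,2,3,4,3,2,1,1), θ = 213 = (1,2,2,3,3,3,2,1), ω = 216 = (1,2,2,4,3,2,2,1) (the roots within each of {α, β}, {γ, δ, ε}, {φ, ψ, θ, ω} pairwise orthogonal); consider x_r(1), x_α(1)x_β(1), x_γ(1)x_δ(1)x_ε(1) and x_φ(1)x_ψ(1)x_θ(1)x_ω(1). Then: each invertible matrix equal to one of these four products lies in the group and has order 2; every element of order 2 of the group is conjugate in the group to one of them; and no two of them are conjugate in the group (so, the four matrices being distinct, the group has exactly four conjugacy classes of involutions). -/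
theorem result {F : Type*} [Field F] [Fintype F] [CharP F 2] :
    (∀ y : GL Cfsg.Lie.chevE8.Idx F, ((y : GL Cfsg.Lie.chevE8.Idx F) : Matrix Cfsg.Lie.chevE8.Idx Cfsg.Lie.chevE8.Idx F) ∈ [Cfsg.Lie.chevE8.x F 239 1, Cfsg.Lie.chevE8.x F 232 1 * Cfsg.Lie.chevE8.x F 233 1, Cfsg.Lie.chevE8.x F 228 1 * Cfsg.Lie.chevE8.x F 222 1 * Cfsg.Lie.chevE8.x F 218 1, Cfsg.Lie.chevE8.x F 226 1 * Cfsg.Lie.chevE8.x F 220 1 * Cfsg.Lie.chevE8.x F 213 1 * Cfsg.Lie.chevE8.x F 216 1] → y ∈ Cfsg.Lie.chevE8.group F ∧ orderOf y = 2) ∧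
    (∀ g ∈ Cfsg.Lie.chevE8.group F, orderOf g = 2 → ∃ y ∈ Cfsg.Lie.chevE8.group F, ((y : GL Cfsg.Lie.chevE8.Idx F) : Matrix Cfsg.Lie.chevE8.Idx Cfsg.Lie.chevE8.Idx F) ∈ [Cfsg.Lie.chevE8.x F 239 1, Cfsg.Lie.chevE8.x F 232 1 * Cfsg.Lie.chevE8.x F 233 1, Cfsg.Lie.chevE8.x F 228 1 * Cfsg.Lie.chevE8.x F 222 1 * Cfsg.Lie.chevE8.x F 218 1, Cfsg.Lie.chevE8.x F 226 1 * Cfsg.Lie.chevE8.x F 220 1 * Cfsg.Lie.chevE8.x F 213 1 * Cfsg.Lie.chevE8.x F 216 1] ∧ ∃ h ∈ Cfsg.Lie.chevE8.group F, h * g * h⁻¹ = y) ∧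
    (∀ y₁ ∈ Cfsg.Lie.chevE8.group F, ∀ y₂ ∈ Cfsg.Lie.chevE8.group F, ((y₁ : GL Cfsg.Lie.chevE8.Idx F) : Matrix Cfsg.Lie.chevE8.Idx Cfsg.Lie.chevE8.Idx F) ∈ [Cfsg.Lie.chevE8.x F 239 1, Cfsg.Lie.chevE8.x F 232 1 * Cfsg.Lie.chevE8.x F 233 1, Cfsg.Lie.chevE8.x F 228 1 * Cfsg.Lie.chevE8.x F 222 1 * Cfsg.Lie.chevE8.x F 218 1, Cfsg.Lie.chevE8.x F 226 1 * Cfsg.Lie.chevE8.x F 220 1 * Cfsg.Lie.chevE8.x F 213 1 * Cfsg.Lie.chevE8.x F 216 1] → ((y₂ : GL Cfsg.Lie.chevE8.Idx F) : Matrix Cfsg.Lie.chevE8.Idx Cfsg.Lie.chevE8.Idx F) ∈ [Cfsg.Lie.chevE8.x F 239 1, Cfsg.Lie.chevE8.x F 232 1 * Cfsg.Lie.chevE8.x F 233 1, Cfsg.Lie.chevE8.x F 228 1 * Cfsg.Lie.chevE8.x F 222 1 * Cfsg.Lie.chevE8.x F 218 1, Cfsg.Lie.chevE8.x F 226 1 * Cfsg.Lie.chevE8.x F 220 1 * Cfsg.Lie.chevE8.x F 213 1 * Cfsg.Lie.chevE8.x F 216 1] →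
      (∃ h ∈ Cfsg.Lie.chevE8.group F, h * y₁ * h⁻¹ = y₂) → ((y₁ : GL Cfsg.Lie.chevE8.Idx F) : Matrix Cfsg.Lie.chevE8.Idx Cfsg.Lie.chevE8.Idx F) = ((y₂ : GL Cfsg.Lie.chevE8.Idx F) : Matrix Cfsg.Lie.chevE8.Idx Cfsg.Lie.chevE8.Idx F)) := by
  have hc := rootOK_E8.compat
  exact invol_matrix rootOK_E8 matOK_E8 (by simp [mul_assoc]) (invol_classes rootOK_E8 (hc.gexact matOK_E8 (F := F)) (hc.gst matOK_E8) (hc.gsep matOK_E8) (hc.gopp matOK_E8) (hc.ggen matOK_E8)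
    (commute_of_dec rootOK_E8 (hc.gexact matOK_E8) (Or.inl (by decide +kernel))) (reps := [[239], [232, 233], [228, 222, 218], [226, 220, 213, 216]]) (A := upN chevE8 tabE8)
    (fun l hl => brep_up rootOK_E8 (by
      generalize l.map Fin.val = l' at hl ⊢
      revert l'; decide +kernel))
    (cert := [([239], []), ([226, 239], [7, 6, 5, 4, 3, 2]), ([159, 226, 239], [7, 6, 5, 0, 2, 3, 4, 3, 2, 1, 3, 0, 2, 0]), ([152, 159, 226, 239], [7, 5, 6, 5, 4, 3, 0, 2, 1, 3, 4, 5, 1, 3, 4, 2, 3, 0, 2, 0]), ([121, 159, 226, 239], [125, 168, 20, 245, 7, 5, 4, 3, 2, 1, 3, 4, 5, 6, 5, 0, 2, 3, 4, 3, 2, 1, 3, 0, 2, 0]), ([121, 152, 159, 226, 239], [125, 168, 20, 245, 5, 6, 7, 6, 4, 5, 3, 4, 2, 3, 0, 2, 1, 3, 4, 5, 2, 1, 3, 4, 2, 1, 3, 0, 2, 0]), ([141, 152, 159, 226, 239], [74, 204, 44, 232, 7, 3, 4, 5, 6, 5, 4, 2, 3, 0, 2, 1, 3, 4,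 5, 1, 3, 4, 2, 1, 3, 0, 2, 0]), ([126, 152, 159, 226, 239], [118, 163, 18, 243, 7, 5, 6, 5, 3, 4, 2, 3, 0, 2, 1, 3, 4, 5, 2, 1, 3, 4, 2, 1, 3, 0, 2, 0]), ([135, 152, 159, 226, 239], [84, 182, 66, 222, 7, 3, 4, 5, 6, 5, 4, 3, 0, 2, 1, 3, 4, 5, 2, 1, 3, 4, 2, 1, 3, 0, 2, 0]), ([126, 141, 152, 159, 226, 239], [82, 177, 50, 215, 118, 163, 18, 243, 7, 5, 6, 5, 3, 4, 2, 3, 0, 2, 1, 3, 4, 5, 2, 1, 3, 4, 2, 1, 3, 0, 2, 0]), ([121, 141, 152, 159, 226, 239], [80, 179, 53, 212, 125, 168, 20, 245, 5, 6, 7, 6, 4, 5, 3, 4, 2, 3, 0, 2, 1, 3, 4, 5, 2, 1, 3, 4, 2, 1, 3, 0, 2, 0]), ([121, 126, 152, 159, 226, 239], [123, 135, 94, 164, 125, 168, 20, 245, 5, 6, 7, 6, 4, 5, 3, 4, 2, 3, 0, 2, 1, 3, 4, 5, 2, 1, 3, 4, 2, 1, 3, 0, 2, 0]), ([135, 141, 152, 159, 226, 239], [107, 154, 16, 241, 84, 182, 66, 222, 7, 3, 4, 5, 6, 5, 4, 3, 0, 2, 1,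 3, 4, 5, 2, 1, 3, 4, 2, 1, 3, 0, 2, 0]), ([126, 135, 152, 159, 226, 239], [67, 195, 30, 230, 118, 163, 18, 243, 7, 5, 6, 5, 3, 4, 2, 3, 0, 2, 1, 3, 4, 5, 2, 1, 3, 4, 2, 1, 3, 0, 2, 0]), ([121, 135, 152, 159, 226, 239], [64, 200, 32, 228, 125, 168, 20, 245, 5, 6, 7, 6, 4, 5, 3, 4, 2, 3, 0, 2, 1, 3, 4, 5, 2, 1, 3, 4, 2, 1, 3, 0, 2, 0]), ([121, 126, 135, 152, 159, 226, 239], [71, 186, 62, 196, 64, 200, 32, 228, 125, 168, 20, 245, 5, 6, 7, 6, 4, 5, 3, 4, 2, 3, 0, 2, 1, 3, 4, 5, 2, 1, 3, 4, 2, 1, 3, 0, 2, 0]), ([121, 126, 141, 152, 159, 226, 239], [48, 209, 39, 219, 80, 179, 53, 212, 125, 168, 20, 245, 5, 6, 7, 6, 4, 5, 3, 4, 2, 3, 0, 2, 1, 3, 4, 5, 2, 1, 3, 4, 2, 1, 3, 0, 2, 0]), ([121, 135, 141, 152, 159, 226, 239], [114, 146, 103, 157, 80, 179, 53, 212, 125, 168, 20, 245, 5, 6, 7, 6, 4, 5, 3, 4, 2, 3, 0, 2, 1, 3, 4, 5,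 2, 1, 3, 4, 2, 1, 3, 0, 2, 0]), ([126, 135, 141, 152, 159, 226, 239], [116, 144, 105, 155, 82, 177, 50, 215, 118, 163, 18, 243, 7, 5, 6, 5, 3, 4, 2, 3, 0, 2, 1, 3, 4, 5, 2, 1, 3, 4, 2, 1, 3, 0, 2, 0]), ([121, 126, 135, 141, 152, 159, 226, 239], [71, 186, 62, 196, 114, 146, 103, 157, 80, 179, 53, 212, 125, 168, 20, 245, 5, 6, 7, 6, 4, 5, 3, 4, 2, 3, 0, 2, 1, 3, 4, 5, 2, 1, 3, 4, 2, 1, 3, 0, 2, 0])])
    (by decide +kernel) (by decide +kernel) (by decide +kernel))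

end Cfsg.Agent.S2176
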