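import Cfsg.Statements.S2179
import Cfsg.Agent.Lib.Chev.Collect
import Cfsg.Agent.Lib.Twist.RootAll

set_option autoImplicit false
open Cfsg Cfsg.Lie Cfsg.Lib.Chev Cfsg.Lib.Twist

namespace Cfsg.Agent.S2179

set_option synthInstance.maxSize 4000
set_option synthInstance.maxHeartbeats 400000

/-- Centralizers of the two remaining classes of involutions in the Chevalley group G of type F₄ over a finite field F of characteristic two (this problem's root numbering for type F₄, from the Chevalley data module: p₁, p₂ short, p₃, p₄ long with indices 33, 27, 25, 24 and negatives 14, 20, 22, 23; U generated by the positive root subgroups). For an element of G with matrix x_47(1)x_44(1) (highest root times highest short root): its centralizer in G is generated by U, X_{−p₂} and X_{−p₃}. For an element of G with matrix x_39(1)x_45(1) (roots (1,2,2,1) and (2,4,2,1), an orthogonal short/long pair): its centralizer in G is generated by X_{p₁}, X_{−p₁}, X_{p₄}, X_{−p₄} and the root subgroups of all positive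 roots other than p₂ (27), p₃ (25), p₁ + p₂ (34) and p₃ + p₄ (26). -/
theorem result {F : Type*} [Field F] [Fintype F] [CharP F 2] (w v : GL Cfsg.Lie.chevF4.Idx F) (hw : (w : Matrix Cfsg.Lie.chevF4.Idx Cfsg.Lie.chevF4.Idx F) = Cfsg.Lie.chevF4.x F 47 1 * Cfsg.Lie.chevF4.x F 44 1) (hv : (v : Matrix Cfsg.Lie.chevF4.Idx Cfsg.Lie.chevF4.Idx F) = Cfsg.Lie.chevF4.x F 39 1 * Cfsg.Lie.chevF4.x F 45 1) :
    Cfsg.Lie.chevF4.group F ⊓ Subgroup.centralizer {w} = Cfsg.Lie.chevF4.posUnipotent F ⊔ Cfsg.Lie.chevF4.rootSubgroup F 20 ⊔ Cfsg.Lie.chevF4.rootSubgroup F 22 ∧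
    Cfsg.Lie.chevF4.group F ⊓ Subgroup.centralizer {v} = Cfsg.Lie.chevF4.rootSubgroup F 33 ⊔ Cfsg.Lie.chevF4.rootSubgroup F 14 ⊔ Cfsg.Lie.chevF4.rootSubgroup F 24 ⊔ Cfsg.Lie.chevF4.rootSubgroup F 23 ⊔
      Subgroup.closure {g : GL Cfsg.Lie.chevF4.Idx F | ∃ (r : ℕ) (c : F), Cfsg.Lie.chevF4.IsPosRoot r ∧ r ∉ [27, 25, 34, 26] ∧ (g : Matrix Cfsg.Lie.chevF4.Idx Cfsg.Lie.chevF4.Idx F) = Cfsg.Lie.chevF4.x F r c} := by
  constructor
  · rw [cent_central rootOK_F4 matOK_F4 2 (m₁ := 47) (m₂ := 44) (l := [20, 22]) (ab := fun i => if i = 0 then (0, 1) else (1, 0))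
      (by decide +kernel) (by simp) (by simp) hw, U_list_cons _ _ (by decide +kernel), U_list_cons _ _ (by decide +kernel), U_list_nil]
    simp only [sup_assoc, sup_bot_eq]
  · rw [cent_general rootOK_F4 matOK_F4 2 (m₁ := 39) (m₂ := 45) (lw := [39, 45]) (L := [39, 40, 44, 45, 46, 47]) (l := [27, 34, 25, 26])
      (J := [0, 3]) (Lc := 33 :: 14 :: 24 :: 23 :: (List.range 48).filter fun r => chevF4.IsPosRoot r ∧ r ∉ [27, 25, 34, 26])
      (w' := [(40, varP 0), (44, varP 1), (46, varP 2), (47, varP 3)]) (a := 2) (b := 3) (ab := fun i => if i = 1 then (1, 1) else (2, 1))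
      (by decide +kernel) (by decide +kernel) (by decide +kernel) (by decide +kernel) (by decide +kernel) (by decide +kernel)
      (by simpa using hv)]
    iterate 4 rw [U_list_cons _ _ (by decide +kernel)]
    rw [← rootOK_F4.compat.closure_eq_U matOK_F4 (· ∈ (List.range 48).filter fun r => chevF4.IsPosRoot r ∧ r ∉ [27, 25, 34, 26])
      (by decide +kernel)]
    simp only [sup_assoc, List.mem_filter, List.mem_range, decide_eq_true_eq, and_assoc]
    congr 6
    ext g
    exact exists₂_congr fun r c => and_iff_right_of_imp fun h => h.1.1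

end Cfsg.Agent.S2179
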