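import Cfsg.Statements.S2180
import Cfsg.Agent.Lib.Chev.Collect
import Cfsg.Agent.Lib.Twist.RootAll

set_option autoImplicit false
open Cfsg Cfsg.Lie Cfsg.Lib.Chev Cfsg.Lib.Twist

namespace Cfsg.Agent.S2180

set_option synthInstance.maxSize 4000
set_option synthInstance.maxHeartbeats 400000

/-- Centralizers of involutions in the Chevalley group G of type G₂ over a finite field F of characteristic two with at least four elements (this problem's root numbering for type G₂, from the Chevalley data module: a = p₁ short with index 7, b = p₂ long with index 6, −a = 4, −b = 5, 2a + b = 9, 3a + b = 10, 3a + 2b = 11; U generated by the positive root subgroups). For an element z of G with matrix x_{3a+2b}(1): the centralizer of z in G is generated by U and X_{−a}. For an element t of G with matrix x_{2a+b}(1): the centralizer of t in G is generated by X_{2a+b}, X_{3a+b}, X_{3a+2b}, X_b and X_{−b}. -/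
theorem result {F : Type*} [Field F] [Fintype F] [CharP F 2] (hF : 4 ≤ Fintype.card F) (z t : GL Cfsg.Lie.chevG2.Idx F) (hz : (z : Matrix Cfsg.Lie.chevG2.Idx Cfsg.Lie.chevG2.Idx F) = Cfsg.Lie.chevG2.x F 11 1) (ht : (t : Matrix Cfsg.Lie.chevG2.Idx Cfsg.Lie.chevG2.Idx F) = Cfsg.Lie.chevG2.x F 9 1) :
    Cfsg.Lie.chevG2.group F ⊓ Subgroup.centralizer {z} = Cfsg.Lie.chevG2.posUnipotent F ⊔ Cfsg.Lie.chevG2.rootSubgroup F 4 ∧
    Cfsg.Lie.chevG2.group F ⊓ Subgroup.centralizer {t} = Cfsg.Lie.chevG2.rootSubgroup F 9 ⊔ Cfsg.Lie.chevG2.rootSubgroup F 10 ⊔ Cfsg.Lie.chevG2.rootSubgroup F 11 ⊔ Cfsg.Lie.chevG2.rootSubgroup F 6 ⊔ Cfsg.Lie.chevG2.rootSubgroup F 5 := by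
  constructor
  · rw [cent_central rootOK_G2 matOK_G2 2 (m₁ := 11) (m₂ := 11) (l := [4]) (ab := fun _ => (1, 0)) (by decide +kernel)
      (t₁ := 1) (t₂ := 0) (by simp) (by simp) (by rw [x_zero' rootOK_G2 matOK_G2 _ (by decide +kernel), mul_one]; exact hz),
      U_list_cons _ _ (by decide +kernel), U_list_nil, sup_bot_eq]
  · rw [cent_general rootOK_G2 matOK_G2 2 (m₁ := 9) (m₂ := 9) (lw := [9]) (L := [9, 10, 11]) (l := [7, 8]) (J := [1])
      (Lc := [9, 10, 11, 6, 5]) (w' := [(10, varP 0), (11, varP 1)]) (a := 1) (b := 0) (ab := fun _ => (1, 0)) (by decide +kernel)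
      (by decide +kernel) (by decide +kernel) (by decide +kernel) (by decide +kernel) (by decide +kernel) (by simpa using ht)]
    iterate 5 rw [U_list_cons _ _ (by decide +kernel)]
    simp only [U_list_nil, sup_assoc, sup_bot_eq]

end Cfsg.Agent.S2180
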