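import Cfsg.Statements.S2181
import Cfsg.Agent.Lib.Chev.InvolD
import Cfsg.Agent.Lib.Twist.RootAll

set_option autoImplicit false
open Cfsg Cfsg.Lie Cfsg.Lib.Chev Cfsg.Lib.Twist

namespace Cfsg.Agent.S2181

set_option synthInstance.maxSize 4000
set_option synthInstance.maxHeartbeats 400000

/-- The Chevalley group of type E₇ over a finite field of characteristic two (the matrix group generated by the root elements) has exactly five conjugacy classes of elements of order 2. -/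
theorem result {F : Type*} [Field F] [Fintype F] [CharP F 2] :
    (ConjClasses.mk '' {g : ↥(Cfsg.Lie.chevE7.group F) | orderOf g = 2}).ncard = 5 := by
  have hc := rootOK_E7.compat
  exact ncard_classes (reps := [[125], [118, 121], [92, 107, 111], [114, 116, 119], [92, 107, 111, 112]]) (by decide) (invol_classes rootOK_E7 (hc.gexact matOK_E7 (F := F)) (hc.gst matOK_E7) (hc.gsep matOK_E7) (hc.gopp matOK_E7) (hc.ggen matOK_E7)
    (commute_of_dec rootOK_E7 (hc.gexact matOK_E7) (Or.inl (by decide +kernel))) (reps := [[125], [118, 121], [92, 107, 111], [114, 116, 119], [92, 107, 111, 112]]) (A := upN chevE7 tabE7)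
    (fun l hl => brep_up rootOK_E7 (by
      generalize l.map Fin.val = l' at hl ⊢
      revert l'; decide +kernel))
    (cert := [([125], []), ([92, 125], [0, 2, 3, 4]), ([63, 92, 125], [5, 4, 3, 0, 2, 1, 3, 4, 5, 1, 3, 4]), ([87, 92, 125], [0, 2, 3, 4, 5, 6, 4, 5]), ([78, 87, 92, 125], [0, 2, 3, 4, 5, 6, 2, 3, 4, 5, 3, 4, 1, 3]), ([73, 87, 92, 125], [38, 110, 24, 130, 3, 0, 2, 1, 3, 4, 5, 6, 3, 4, 5, 2]), ([66, 87, 92, 125], [5, 6, 3, 0, 2, 1, 3, 4, 5, 1, 3, 4, 1, 3]), ([63, 87, 92, 125], [5, 4, 3, 0, 2, 1, 3, 4, 5, 1, 3, 4, 1, 3]), ([63, 73, 87, 92, 125], [38, 110, 24, 130, 5, 4, 3, 0, 2, 1, 3, 4, 5, 3, 2, 1, 3, 4]), ([63, 66, 87, 92, 125], [67, 74, 44, 97, 5, 4, 3, 0, 2, 1, 3, 4, 5, 1, 3, 4, 1, 3]), ([63, 78, 87, 92, 125], [34, 108, 17, 126, 5, 4, 3, 0, 2, 1, 3, 4, 5, 1, 3, 4, 1, 3]), ([66, 73, 87, 92, 125], [38, 110, 24, 130, 3, 0, 2, 1, 3, 4, 5, 6, 4, 5, 3, 4,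 1, 3]), ([66, 78, 87, 92, 125], [36, 106, 15, 128, 5, 6, 3, 0, 2, 1, 3, 4, 5, 1, 3, 4, 1, 3]), ([73, 78, 87, 92, 125], [38, 110, 24, 130, 3, 4, 5, 6, 0, 2, 1, 3, 4, 5, 1, 3, 4, 1, 3, 0]), ([66, 73, 78, 87, 92, 125], [62, 81, 53, 90, 36, 106, 15, 128, 5, 6, 3, 0, 2, 1, 3, 4, 5, 1, 3, 4, 1, 3]), ([63, 66, 73, 87, 92, 125], [27, 113, 22, 119, 38, 110, 24, 130, 5, 4, 3, 0, 2, 1, 3, 4, 5, 3, 2, 1, 3, 4]), ([63, 66, 78, 87, 92, 125], [67, 74, 44, 97, 34, 108, 17, 126, 5, 4, 3, 0, 2, 1, 3, 4, 5, 1, 3, 4, 1, 3]), ([63, 73, 78, 87, 92, 125], [60, 83, 51, 92, 34, 108, 17, 126, 5, 4, 3, 0, 2, 1, 3, 4, 5, 1, 3, 4, 1, 3]), ([63, 66, 73, 78, 87, 92, 125], [27, 113, 22, 119, 60, 83, 51, 92, 34, 108, 17, 126, 5, 4, 3, 0, 2, 1, 3, 4, 5, 1, 3, 4, 1, 3])])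
    (by decide +kernel) (by decide +kernel) (by decide +kernel))

end Cfsg.Agent.S2181
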