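import Cfsg.Statements.S2186
import Cfsg.Agent.Lib.Chev.CentD
import Cfsg.Agent.Lib.Twist.RootAll

set_option autoImplicit false
open Cfsg Cfsg.Lie Cfsg.Lib.Chev Cfsg.Lib.Twist

namespace Cfsg.Agent.S2186

set_option synthInstance.maxSize 4000
set_option synthInstance.maxHeartbeats 400000

/-- Let G be the Chevalley group of type G₂ (over a field with at least four elements), D₄, E₆, E₇ or E₈ over a finite field F of characteristic two, and let X be the root subgroup of the highest root (the last root index) — a long root subgroup, of order |F|. For every g in G, the subgroup generated by X and its conjugate g X g⁻¹ is either a 2-group or is conjugate by an element of G to the subgroup generated by X and the root subgroup of the lowest root (index 0, the negative of the highest root), which is a copy of SL₂(F). -/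
theorem result {F : Type*} [Field F] [Fintype F] [CharP F 2] (D : Cfsg.Lie.ChevalleyDatum) (hD : D ∈ [Cfsg.Lie.chevG2, Cfsg.Lie.chevD4, Cfsg.Lie.chevE6, Cfsg.Lie.chevE7, Cfsg.Lie.chevE8]) (hF : D = Cfsg.Lie.chevG2 → 4 ≤ Fintype.card F) (g : GL D.Idx F) (hg : g ∈ D.group F) :
    IsPGroup 2 ↥(D.rootSubgroup F (D.nroots - 1) ⊔ (D.rootSubgroup F (D.nroots - 1)).map (MulAut.conj g).toMonoidHom) ∨
    ∃ h ∈ D.group F, (D.rootSubgroup F (D.nroots - 1) ⊔ (D.rootSubgroup F (D.nroots - 1)).map (MulAut.conj g).toMonoidHom).map (MulAut.conj h).toMonoidHom = D.rootSubgroup F (D.nroots - 1) ⊔ D.rootSubgroup F 0 := by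
  have key : ∀ {t : RTab} (h : RootOK D t) {η} (hm : MatOK D η), (0 < D.nroots ∧ D.neg (D.nroots - 1) = 0 ∧ ∀ k ∈ [D.nroots - 1],
      D.nroots ≤ 2 * k ∧ ∀ s < D.nroots, D.nroots ≤ 2 * s → ∀ c ∈ D.commTerms k s, ((2 : ℕ) : ℤ) ∣ c.2.1 ∨ c.1 ∈ []) →
      IsPGroup 2 ↥(D.rootSubgroup F (D.nroots - 1) ⊔ (D.rootSubgroup F (D.nroots - 1)).map (MulAut.conj g).toMonoidHom) ∨
      ∃ h ∈ D.group F, (D.rootSubgroup F (D.nroots - 1) ⊔ (D.rootSubgroup F (D.nroots - 1)).map (MulAut.conj g).toMonoidHom).map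
        (MulAut.conj h).toMonoidHom = D.rootSubgroup F (D.nroots - 1) ⊔ D.rootSubgroup F 0 := fun h η hm hd => by
    have hc := h.compat
    rw [hc.group_eq hm] at hg ⊢
    rw [← hd.2.1, hc.rootSubgroup_eq hm ⟨D.nroots - 1, by omega⟩, ← hc.neg_eq ⟨D.nroots - 1, by omega⟩, hc.rootSubgroup_eq hm]
    exact (hc.st hm).pair_top (hc.sep hm) 2 (cm_of_dec h (hc.exact hm) 2 (by rintro _ rfl; simp) (by simp) hd.2.2) hg
  simp only [List.mem_cons, List.not_mem_nil, or_false] at hD
  rcases hD with rfl | rfl | rfl | rfl | rfl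
  exacts [key rootOK_G2 matOK_G2 (by decide +kernel), key rootOK_D4 matOK_D4 (by decide +kernel),
    key rootOK_E6 matOK_E6 (by decide +kernel), key rootOK_E7 matOK_E7 (by decide +kernel), key rootOK_E8 matOK_E8 (by decide +kernel)]

end Cfsg.Agent.S2186
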