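import Cfsg.Statements.S2189
import Cfsg.Agent.Lib.Twist.SubX
import Cfsg.Agent.Lib.Chev.All

set_option autoImplicit false
open Cfsg

namespace Cfsg.Agent.S2189

open Cfsg.Lib.Twist Cfsg.Lib.Chev Cfsg.Lie Polynomial

theorem mem_range_iff {K k : Type*} [Field K] [Fintype K] [Field k] (j : K →+* k) (t : k) : t ∈ j.range ↔ t ^ Fintype.card K = t := by
  have h : (X ^ Fintype.card K - X : K[X]).Splits := by
    rw [splits_iff_card_roots, FiniteField.roots_X_pow_card_sub_X, FiniteField.X_pow_card_sub_X_natDegree_eq K Fintype.one_lt_card]; rfl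
  have e := Multiset.mem_map (b := t) (f := j) (s := (X ^ Fintype.card K - X : K[X]).roots)
  rw [← h.roots_map j, FiniteField.roots_X_pow_card_sub_X] at e
  simpa [sub_eq_zero, iff_comm, FiniteField.X_pow_card_sub_X_ne_zero k Fintype.one_lt_card] using e

theorem exists_root {D : ChevalleyDatum} (hD : D ∈ [chevG2, chevB2, chevD4, chevF4, chevE6, chevE7, chevE8]) (k : Type*) [Field k] :
    (∀ s t, ∃ g : D.group k, g.1.1 = D.x k s t) ∧ ∀ t u, D.x k 0 t = D.x k 0 u → t = u := by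
  obtain ⟨R, η, hc, hm⟩ := good_of_mem hD
  refine ⟨fun s t => ?_, fun t u e => ?_⟩
  · by_cases h : s < D.nroots
    exacts [⟨_, hc.gsys_val hm ⟨s, h⟩ t⟩, ⟨1, Eq.symm (b := 1) (dif_neg h)⟩]
  · have h : 0 < D.nroots := (R.simple ⟨0, two_pos.trans_le hc.two_le_rank⟩).pos
    exact (hc.gsep hm).x_inj (r := ⟨0, h⟩) ((hc.eq_x hm).1 ((hc.gsys_val hm _ _).trans e))

/-- Finite subgroups of an adjoint Chevalley group over an algebraically closed field that contain the group over a finite subfield. Let k be an algebraically closed field of prime characteristic p, G the Chevalley group of type G₂, B₂, D₄, F₄, E₆, E₇ or E₈ over k (the matrix group generated by the root elements x_s(t), t ∈ k), and q = p^a with a ≥ 1. Let L be the subgroup generated by the root elements x_s(t) with t^q = t (the Chevalley group over the field of q elements inside G), and let M be a finite subgroup of G containing L. Then for some r ≥ 1, M contains every root element x_s(t)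 with t^(q^r) = t and every element of M is a matrix all of whose entries c satisfy c^(q^r) = c (so M lies between the Chevalley group over the field with q^r elements and the group of points of G fixed by the q^r-th power map). -/
theorem result {k : Type*} [Field k] [IsAlgClosed k] (p : ℕ) [Fact p.Prime] [CharP k p] (D : Cfsg.Lie.ChevalleyDatum) (hD : D ∈ [Cfsg.Lie.chevG2, Cfsg.Lie.chevB2, Cfsg.Lie.chevD4, Cfsg.Lie.chevF4, Cfsg.Lie.chevE6, Cfsg.Lie.chevE7, Cfsg.Lie.chevE8]) (a : ℕ) (ha : 1 ≤ a) (M : Subgroup (GL D.Idx k)) (hMfin : Finite ↥M) (hMG : M ≤ D.group k)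
    (hLM : Subgroup.closure {g : GL D.Idx k | ∃ (s : ℕ) (t : k), t ^ (p ^ a) = t ∧ (g : Matrix D.Idx D.Idx k) = D.x k s t} ≤ M) :
    ∃ r : ℕ, 1 ≤ r ∧ Subgroup.closure {g : GL D.Idx k | ∃ (s : ℕ) (t : k), t ^ ((p ^ a) ^ r) = t ∧ (g : Matrix D.Idx D.Idx k) = D.x k s t} ≤ M ∧
      ∀ g ∈ M, ∀ i j : D.Idx, ((g : Matrix D.Idx D.Idx k) i j) ^ ((p ^ a) ^ r) = (g : Matrix D.Idx D.Idx k) i j := by
  have hp := (Fact.out : p.Prime).one_lt
  have : Finite (M.subgroupOf (D.group k)) := Finite.of_equiv _ (Subgroup.subgroupOfEquivOfLe hMG).symm.toEquiv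
  obtain ⟨E, hE, e1, e2⟩ := finite_over hD (Y := M.subgroupOf (D.group k)) fun g r e => hLM (Subgroup.subset_closure ⟨r, 1, one_pow _, e⟩)
  obtain ⟨x1, x2⟩ := exists_root hD k
  have := Fintype.ofFinite E
  obtain ⟨n, -, hn⟩ := FiniteField.card E p
  have e3 : ∀ t, iterateFrobenius k p n t = t ↔ t ∈ E := fun t => by
    rw [iterateFrobenius_def, ← hn, ← mem_range_iff E.subtype]; simp
  have e4 : ∀ g ∈ M, (g : Matrix D.Idx D.Idx k).map (iterateFrobenius k p n) = g := fun g hg => congrArg (·.1.1) (e2 _ e3 ⟨g, hMG hg⟩ hg)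
  have h1 : 1 < p ^ a := Nat.one_lt_pow (by omega) hp
  have : NeZero ((p ^ a - 1 : ℕ) : k) := ⟨by rw [Nat.cast_sub h1.le]; simp [show a ≠ 0 by omega]⟩
  have : NeZero (p ^ a - 1) := ⟨by omega⟩
  obtain ⟨ζ, hζ⟩ := HasEnoughRootsOfUnity.exists_primitiveRoot k (p ^ a - 1)
  obtain ⟨g, hg⟩ := x1 0 ζ
  have e5 := e4 g (hLM (Subgroup.subset_closure ⟨0, ζ, by rw [← Nat.sub_add_cancel h1.le, pow_succ, hζ.pow_eq_one, one_mul], hg⟩))
  rw [hg, x_map] at e5
  have e6 : p ^ a - 1 ∣ p ^ (n : ℕ) - 1 := hζ.dvd_of_pow_eq_one _ (mul_right_cancel₀ (hζ.ne_zero (NeZero.ne _)) (by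
    rw [← pow_succ, Nat.sub_add_cancel (Nat.one_le_pow _ _ (by omega)), one_mul]; exact x2 _ _ e5))
  rw [← Nat.gcd_eq_left_iff_dvd, Nat.pow_sub_one_gcd_pow_sub_one] at e6
  obtain ⟨r, hr⟩ : a ∣ n := Nat.gcd_eq_left_iff_dvd.1 (Nat.pow_right_injective hp (by
    have := Nat.one_le_pow (a.gcd n) p (by omega); simp only; omega))
  refine ⟨r, Nat.pos_of_mul_pos_left (hr ▸ n.pos), ?_⟩
  rw [← pow_mul, ← hr]
  refine ⟨(Subgroup.closure_le _).2 fun g ⟨s, t, a, b⟩ => ?_, fun g hg i j => congrFun₂ (e4 g hg) i j⟩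
  obtain ⟨g', e⟩ := x1 s t
  exact Units.ext (e.trans b.symm) ▸ e1 g' s t ((e3 t).1 a) e

end Cfsg.Agent.S2189
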