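import Cfsg.Statements.S2190
import Cfsg.Agent.S2189

set_option autoImplicit false
open Cfsg

namespace Cfsg.Agent.S2190

open Cfsg.Lib.Twist Cfsg.Lib.Chev Cfsg.Lie S2189

/-- Subfield subgroups of prime degree are maximal. Let K be a finite field with q^r elements, r a prime, q a power of the characteristic, and G the Chevalley group of type G₂, B₂, D₄, F₄, E₆, E₇ or E₈ over K (the matrix group generated by the root elements). Let M be the subgroup of G consisting of the matrices all of whose entries lie in the subfield with q elements (entries c with c^q = c). Then M is a proper subgroup of G and is maximal: every subgroup of G containing M is M or G. -/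
theorem result {K : Type*} [Field K] [Fintype K] (p : ℕ) [Fact p.Prime] [CharP K p] (D : Cfsg.Lie.ChevalleyDatum) (hD : D ∈ [Cfsg.Lie.chevG2, Cfsg.Lie.chevB2, Cfsg.Lie.chevD4, Cfsg.Lie.chevF4, Cfsg.Lie.chevE6, Cfsg.Lie.chevE7, Cfsg.Lie.chevE8]) (a r : ℕ) (ha : 1 ≤ a) (hr : r.Prime) (hK : Fintype.card K = (p ^ a) ^ r) (M : Subgroup (GL D.Idx K))
    (hM : ∀ g : GL D.Idx K, g ∈ M ↔ g ∈ D.group K ∧ ∀ i j : D.Idx, ((g : Matrix D.Idx D.Idx K) i j) ^ (p ^ a) = (g : Matrix D.Idx D.Idx K) i j) :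
    M ≠ D.group K ∧ ∀ H : Subgroup (GL D.Idx K), M ≤ H → H ≤ D.group K → H = M ∨ H = D.group K := by
  have hp := (Fact.out : p.Prime).one_lt
  obtain ⟨x1, x2⟩ := exists_root hD K
  have h1 : 1 < p ^ a := Nat.one_lt_pow (by omega) hp
  have e0 : ∀ (g : D.group K) s t, g.1.1 = D.x K s t → (g.1 ∈ M ↔ D.x K s (t ^ p ^ a) = D.x K s t) := fun g s t e => by
    rw [hM, and_iff_right g.2, ← iterateFrobenius_def, ← x_map, e, ← Matrix.ext_iff]; rfl
  refine ⟨fun e => ?_, fun H h2 h3 => ?_⟩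
  · obtain ⟨ζ, hζ⟩ := IsCyclic.exists_ofOrder_eq_natCard (α := Kˣ)
    obtain ⟨g, hg⟩ := x1 0 ζ
    have e1 : ζ ^ (p ^ a - 1) = 1 := mul_right_cancel (b := ζ) (by
      rw [← pow_succ, Nat.sub_add_cancel h1.le, one_mul]; exact Units.ext (x2 _ _ ((e0 g 0 ζ hg).1 (e ▸ g.2))))
    have e2 := Nat.le_of_dvd (by omega) (orderOf_dvd_of_pow_eq_one e1)
    have e3 := Nat.pow_lt_pow_right h1 hr.one_lt
    rw [hζ, Nat.card_units, Nat.card_eq_fintype_card, hK] at e2
    rw [pow_one] at e3; omega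
  set j := algebraMap K (AlgebraicClosure K)
  have hj : ∀ g g' : GL D.Idx K, Matrix.GeneralLinearGroup.map j g = Matrix.GeneralLinearGroup.map j g' → g = g' := fun g g' e =>
    Units.ext (Matrix.map_injective j.injective (congrArg (·.1) e))
  obtain ⟨m, -, e1, e2⟩ := S2189.result (k := AlgebraicClosure K) p D hD a ha (H.map (Matrix.GeneralLinearGroup.map j))
    (Finite.of_surjective _ (MonoidHom.subgroupMap_surjective _ H)) (by rintro _ ⟨g, hg, rfl⟩; exact (baseExt D j ⟨g, h3 hg⟩).2)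
    ((Subgroup.closure_le _).2 fun g ⟨s, t, b, e⟩ => by
      obtain ⟨t, rfl⟩ := (mem_range_iff j t).2 (by rw [hK]; clear * - b; induction r with | zero => simp | succ r ih => rw [pow_succ, pow_mul, ih, b])
      obtain ⟨g', e'⟩ := x1 s t
      exact ⟨g', h2 ((e0 g' s t e').2 (by rw [j.injective ((map_pow j _ _).trans b)])), Units.ext (by rw [e, ← x_map, ← e']; rfl)⟩)
  have per : ∀ (c : K) n, c ^ (p ^ a) ^ n = c ↔ Function.IsPeriodicPt (· ^ p ^ a) n c := fun c n => by
    rw [Function.IsPeriodicPt, Function.IsFixedPt, pow_iterate]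
  have pr : ∀ c : K, Function.IsPeriodicPt (· ^ p ^ a) r c := fun c => (per c r).1 (hK ▸ FiniteField.pow_card c)
  by_cases hm : r ∣ m
  · refine Or.inr (h3.antisymm ((Subgroup.closure_le _).2 fun g ⟨s, t, e⟩ => ?_))
    obtain ⟨g', b, e'⟩ := @e1 (Matrix.GeneralLinearGroup.map j g) (Subgroup.subset_closure ⟨s, j t, by
      rw [← map_pow, (per t m).2 ((pr t).trans_dvd hm)], by rw [← x_map, ChevalleyDatum.x, dif_pos s.2, ← e]; rfl⟩)
    exact hj _ _ e' ▸ b
  · refine Or.inl (le_antisymm (fun g hg => (hM g).2 ⟨h3 hg, fun i k => ?_⟩) h2)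
    have := (pr _).gcd ((per (g.1 i k) m).1 (j.injective ((map_pow j _ _).trans (e2 _ ⟨g, hg, rfl⟩ i k))))
    rwa [(Nat.Prime.coprime_iff_not_dvd hr).2 hm] at this

end Cfsg.Agent.S2190
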