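import Cfsg.Statements.S2191
import Cfsg.Agent.Lib.Twist.SubTw

set_option autoImplicit false
open Cfsg

namespace Cfsg.Agent.S2191

open Cfsg.Lib.Twist Cfsg.Lib.Chev Cfsg.Lie

set_option synthInstance.maxSize 4000
set_option synthInstance.maxHeartbeats 400000

theorem ok : ∀ r < chevE6.nroots, okO chevE6 rhoE6 epsE6 r := by decide +kernel

theorem cen : ∀ a < chevE6.nroots, chevE6.nroots ≤ 2 * a → htN chevE6 tabE6 a < 8 → ∀ b, b = [37, 36, 39, 37, 36, 42, 39, 38, 36, 46,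
    39, 37, 36, 42, 38, 36, 39, 36, 37, 56, 42, 39, 37, 46, 46, 37, 39, 39, 38, 37, 0, 36].getD (a - 36) 0 →
    b < chevE6.nroots ∧ chevE6.nroots ≤ 2 * b ∧ okO chevE6 rhoE6 epsE6 b ∧ (hdT chevE6 b a).2 ^ 2 = 1 ∧
    ∀ r ∈ [lk rhoE6 b, lk rhoE6 (lk rhoE6 b)], r = b ∨ (htN chevE6 tabE6 r = htN chevE6 tabE6 b ∧ noSum chevE6 tabE6 (hdT chevE6 b a).1 r) := by
  simp only [forall_eq]
  decide +kernel

/-- In the twisted group ²E₆(q), realised inside the Chevalley group of type E₆ over the field K with q² elements (q a power of the characteristic) as the subgroup generated by the root elements, and products of root elements, that the twisting map fixes, the subgroup of matrices all of whose entries lie in the subfield with q elements (entries c with c^q = c; it contains the subgroup of type F₄ over that subfield) is a proper maximal subgroup. -/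
theorem result {K : Type*} [Field K] [Fintype K] (p : ℕ) [Fact p.Prime] [CharP K p] (q : ℕ) (hq : ∃ a : ℕ, 1 ≤ a ∧ q = p ^ a) (hK : Fintype.card K = q ^ 2) (M : Subgroup (GL Cfsg.Lie.chevE6.Idx K))
    (hM : ∀ g : GL Cfsg.Lie.chevE6.Idx K, g ∈ M ↔ g ∈ Cfsg.Lie.twistedE6 K q ∧ ∀ i j : Cfsg.Lie.chevE6.Idx, ((g : Matrix Cfsg.Lie.chevE6.Idx Cfsg.Lie.chevE6.Idx K) i j) ^ q = (g : Matrix Cfsg.Lie.chevE6.Idx Cfsg.Lie.chevE6.Idx K) i j) :
    M ≠ Cfsg.Lie.twistedE6 K q ∧ ∀ H : Subgroup (GL Cfsg.Lie.chevE6.Idx K), M ≤ H → H ≤ Cfsg.Lie.twistedE6 K q → H = M ∨ H = Cfsg.Lie.twistedE6 K q := by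
  obtain ⟨a, ha, e⟩ := hq
  have hq : IsPrimePow q := e ▸ (Fact.out : p.Prime).isPrimePow.pow (by omega)
  obtain ⟨d⟩ := exists_E6Data hq hK
  obtain ⟨f, hf⟩ := exists_q_hom hq hK
  have hφ : ∀ t, (f : K →+* K) t = t ^ q := hf
  generalize (f : K →+* K) = φ at hφ
  have g := d.gp hφ
  have e1 := d.eq_Fix hK
  refine max_glue (d.gen hK).1 hφ hM ?_ (fun Y hY h1 => ?_) <;> rw [e1] at *
  · obtain ⟨ω, h1⟩ := E6Data.exists_ne hK
    obtain ⟨u, h2, h3⟩ := d.o05.exists_cf (i := n6 0) (fun j => by rw [d.orb_iff]; revert j; decide)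
      fun i hi => d.vec2 hK ω i (List.mem_append_left [_, _] hi)
    refine ⟨u, u.2, fun h4 => h1 ?_⟩
    have := ((d.subD hφ (d.grp hK).fix d.orth le_rfl fun _ h _ => h).fix_of_cf ⟨h2, u.2⟩).1 h4
    rwa [h3, hφ] at this
  have hs := d.subD hφ (d.grp hK).fix d.orth hY h1
  by_cases hU : ∀ u ∈ (sE6 K).U {r | rootOK_E6.R.Pos r}, u ∈ Y → baseExt chevE6 φ u = u
  · exact Or.inr fun _ => g.fix_of_hU hs d.orb_iff ok hU ⟨71, by decide⟩ (fun β => [(0, 1), (0, 3), (71, 2), (0, 0), (0, 0), (0, 0), (0, 3),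
      (0, 0), (0, 1), (0, 0), (0, 0), (70, 0), (0, 0), (0, 0), (0, 0), (0, 0), (0, 0), (0, 0), (0, 3), (0, 0), (0, 1), (0, 0), (0, 0),
      (0, 0), (0, 1), (0, 1), (0, 0), (70, 2), (0, 0), (0, 0), (0, 0), (0, 0), (0, 3)].getD β (0, 0))
      (fun i => [[2, 4, 3, 2, 4, 0, 5, 1, 3, 2, 4, 3, 1], [3, 2, 4, 0, 5, 3, 2, 4, 3, 1], [3, 2, 4, 0, 5, 1, 3, 2, 4, 3, 1],
        [2, 4, 0, 5, 1, 3, 2, 4, 3, 1], [3, 2, 4, 0, 5, 1, 3, 2, 4, 3, 1], [2, 4, 3, 2, 4, 0, 5, 1, 3, 2, 4, 3, 1]].getD i [])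
      (fun i => [59, 0, 43, 0, 40, 45].getD i 0)
      (fun i => [[2, 0, -1, 0, 0, 2], [], [-1, -1, 3, -1, 3, -1], [], [-1, -1, 3, -1, 3, -1], [2, 0, -1, 0, 0, 2]].getD i [])
      (by decide +kernel) (by decide +kernel) (by decide +kernel) (by decide +kernel)
  obtain ⟨c, h2, h3⟩ := g.exists_cf hs d.orb_iff ok (n := 8) (fun a h2 h3 => g.cen_dec' hs h2
    (cen a a.2 ((rootOK_E6.pos_iff_half a).1 h2) (by rwa [← ht_eq]) _ rfl)) [0, 5, 3, 2, 4, 1, 3, 2, 4, 0, 5] (n6 2) (by decide +kernel) hU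
  refine Or.inl (g.eq_Fix hs d.orb_iff ((d.eq_Fix hK).ge.trans (d.gen hK).2) (i := n6 2) (fun t => ?_)
    (fun j => if j = 0 ∨ j = 5 then [0, 5, 2, 4] else []) (by decide +kernel))
  have h4 : ∀ t, φ (φ t) = t := fun t => by simpa only [g.φ_eq] using d.φφ hK ⟨0, by decide⟩ ⟨0, by decide⟩ t
  have h5 := sub_ne_zero.2 h3
  have h6 : φ ((φ t - t) / (φ c - c)) = (φ t - t) / (φ c - c) := by
    rw [map_div₀, map_sub, map_sub, h4, h4, ← neg_div_neg_eq, neg_sub, neg_sub]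
  have h7 : d.T.ρ ⟨39, by decide⟩ = ⟨39, by decide⟩ := Fin.ext (d.ρ_val _)
  have := add_mem (hs.mem_cfSet g.φ_eq (i := n6 2) (c := t - (φ t - t) / (φ c - c) * c) (by rw [map_sub, map_mul, h6]; field_simp; ring))
    (hs.smul_cfSet g.φ_eq h7 (g.ε_fix (ok _ (by decide)) h7)
      (by rw [rootOK_E6.compat.pair_eq, rootOK_E6.compat.simple_eq]; decide +kernel) h6 h2)
  rwa [sub_add_cancel] at this

end Cfsg.Agent.S2191
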