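import Cfsg.Statements.S2192
import Cfsg.Agent.Lib.Twist.SubTw

set_option autoImplicit false
open Cfsg

namespace Cfsg.Agent.S2192

open Cfsg.Lib.Twist Cfsg.Lib.Chev Cfsg.Lie PreSys RootSys

set_option synthInstance.maxSize 4000
set_option synthInstance.maxHeartbeats 400000

theorem ok : ∀ r < chevD4.nroots, okO chevD4 rhoD4 epsD4 r := by decide +kernel

theorem cen : ∀ a < chevD4.nroots, chevD4.nroots ≤ 2 * a → htN chevD4 tabD4 a < 3 → htN chevD4 tabD4 a = 2 ∨ ∀ b, b = (if a = 14 then 12 else 14) →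
    b < chevD4.nroots ∧ chevD4.nroots ≤ 2 * b ∧ okO chevD4 rhoD4 epsD4 b ∧ (hdT chevD4 b a).2 ^ 2 = 1 ∧
    ∀ r ∈ [lk rhoD4 b, lk rhoD4 (lk rhoD4 b)], r = b ∨ (htN chevD4 tabD4 r = htN chevD4 tabD4 b ∧ noSum chevD4 tabD4 (hdT chevD4 b a).1 r) := by
  simp only [forall_eq]
  decide +kernel

section
variable {K G : Type*} [Field K] [Group G] {P : PreSys rootOK_D4.R K G} {T : Tw rootOK_D4.R} {X : TwSys P T} {φ : K →+* K}
  (g : GP X 196866 rhoD4 epsD4 φ) (h3 : ∀ t, φ (φ (φ t)) = t) {F : G →* G} {Y : Subgroup G} (hs : SubD X F φ Y)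

variable (X) in
/-- The product over an orbit. -/
noncomputable def ob (r : ℕ) (t : K) : G := P.xN r t * (X.σ (P.xN r t) * X.σ (X.σ (P.xN r t)))

include g

theorem σ_xN {r : ℕ} (h : r < 24) (t : K) : X.σ (P.xN r t) = P.xN (lk rhoD4 r) (sgn (bt epsD4 r) * φ t) := by
  obtain ⟨r, rfl⟩ : ∃ k : Fin chevD4.nroots, k = r := ⟨⟨r, h⟩, rfl⟩
  rw [xN_coe, g.σ_x', ← g.ρ_val, xN_coe]

theorem ob_eq {r : ℕ} {a b : ℕ} {e : ℤ} (h : r < 24 ∧ a < 24 ∧ lk rhoD4 r = a ∧ lk rhoD4 a = b ∧ sgn (bt epsD4 r) = e ∧ sgn (bt epsD4 a) = 1)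
    (t : K) : ob X r t = P.xN r t * (P.xN a (e * φ t) * P.xN b (e * φ (φ t))) := by
  simp [ob, σ_xN g h.1, σ_xN g h.2.1, h.2.2]

include h3 in
theorem ob_fix {r : ℕ} (h : r ∈ [17, 18, 19]) (t : K) : ob X r t ∈ X.Fix := by
  have k := fun {w w'} => evW_eq (S := P) (fun i => φ^[i] t) Nat.cast_zero rootOK_D4.compat g.exact (w := w) (w' := w')
  simp only [List.mem_cons, List.not_mem_nil, or_false] at h
  rcases h with rfl | rfl | rfl
  · have := k (w := [(20, [(-1, [0, 1])]), (21, [(-1, [0, 0, 1])]), (17, varP 0)]) (w' := [(17, varP 0), (20, [(-1, [0, 1])]),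
      (21, [(-1, [0, 0, 1])])]) (by decide +kernel)
    rw [ob_eq g (a := 20) (b := 21) (e := -1) (by decide +kernel), X.mem_Fix]
    simpa [σ_xN g, evP, evM, varP, h3, show lk rhoD4 17 = 20 ∧ lk rhoD4 20 = 21 ∧ lk rhoD4 21 = 17 ∧ sgn (bt epsD4 17) = -1 ∧
      sgn (bt epsD4 20) = 1 ∧ sgn (bt epsD4 21) = -1 by decide +kernel] using this
  · have := k (w := [(13, varP 1), (12, varP 2), (18, varP 0)]) (w' := [(18, varP 0), (13, varP 1), (12, varP 2)]) (by decide +kernel)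
    rw [ob_eq g (a := 13) (b := 12) (e := 1) (by decide +kernel), X.mem_Fix]
    simpa [σ_xN g, h3, show lk rhoD4 18 = 13 ∧ lk rhoD4 13 = 12 ∧ lk rhoD4 12 = 18 ∧ sgn (bt epsD4 18) = 1 ∧
      sgn (bt epsD4 13) = 1 ∧ sgn (bt epsD4 12) = 1 by decide +kernel] using this
  · have := k (w := [(16, [(-1, [0, 1])]), (15, [(-1, [0, 0, 1])]), (19, varP 0)]) (w' := [(19, varP 0), (16, [(-1, [0, 1])]),
      (15, [(-1, [0, 0, 1])])]) (by decide +kernel)
    rw [ob_eq g (a := 16) (b := 15) (e := -1) (by decide +kernel), X.mem_Fix]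
    simpa [σ_xN g, evP, evM, varP, h3, show lk rhoD4 19 = 16 ∧ lk rhoD4 16 = 15 ∧ lk rhoD4 15 = 19 ∧ sgn (bt epsD4 19) = -1 ∧
      sgn (bt epsD4 16) = 1 ∧ sgn (bt epsD4 15) = -1 by decide +kernel] using this

omit g in
theorem xN_mem {A : Set (Fin chevD4.nroots)} {r : ℕ} (h : ∀ k : Fin chevD4.nroots, (k : ℕ) = r → k ∈ A) (t : K) : P.xN r t ∈ P.U A := by
  simpa using P.evW_mem (fun _ => t) (w := [(r, varP 0)]) (by simpa using h)

include h3 hs

theorem cen2 {d : G} (hd : d ∈ P.U (rootOK_D4.R.lev {r | rootOK_D4.R.Pos r} htL 2)) (h : SubD.Cen X F d) :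
    d ∈ P.U (rootOK_D4.R.lev {r | rootOK_D4.R.Pos r} htL 3) := by
  obtain ⟨v, -, b, hb, rfl⟩ := exists_genW (nil_pos.lev 2) (l := [15, 16, 19, 17, 20, 21, 22, 23]) (by decide) hd 0 0
  obtain rfl : b = 1 := P.U_empty.le (P.U_mono (fun r => by
    simp only [Set.mem_sdiff, Set.mem_ofPred_eq, lev, htL_rt, ht_eq, rootOK_D4.pos_iff_half, Set.mem_empty_iff_false]
    revert r; decide +kernel) hb)
  rw [mul_one] at *
  have p : ∀ r ∈ [12, 13, 17, 18, 20, 21], ∀ t, P.xN r t ∈ P.U {r | rootOK_D4.R.Pos r} := fun r hr t => xN_mem (fun k e => by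
    rw [Set.mem_ofPred_eq, rootOK_D4.pos_iff_half, e]; clear e; revert r; decide) t
  have k := fun {r z w'} (hr : r ∈ [17, 18, 19]) (e : ob X r 1 = P.evW v z) (h0 : P.evW v z ∈ P.U {r | rootOK_D4.R.Pos r})
      (h1 : colW chevD4 0 (genW [15, 16, 19, 17, 20, 21, 22, 23] 0 ++ z ++ invW 0 (genW [15, 16, 19, 17, 20, 21, 22, 23] 0) ++ invW 0 z) = w')
      h2 (h4 : ∀ a ∈ w', ∃ r : Fin chevD4.nroots, chevD4.nroots ≤ 2 * (r : ℕ) ∧ r = a.1) =>
    coef_eq_zero v X.sep nil_pos h2 (by simpa only [Set.mem_ofPred_eq, rootOK_D4.pos_iff_half] using h4)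
      (h1 ▸ (evW_colW v Nat.cast_zero rootOK_D4.compat g.exact _).trans (by
        have : ∀ r t, F (P.xN r t) = P.xN r (φ t) := fun r t => by unfold xN; split_ifs <;> simp [hs.F_x]
        have := h _ ⟨h0, e ▸ ob_fix g h3 hr 1⟩ (by rw [← e]; simp [ob, ← hs.σ_F, this])
        simp only [evW_append, evW_invW _ Nat.cast_zero, this.mul_inv_cancel, mul_inv_cancel]))
  have e1 := k (r := 18) (z := [(18, cstP 1), (13, cstP 1), (12, cstP 1)]) (w' := [(17, [(-1, [0, 1]), (-1, [1])]),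
    (20, [(-1, [0, 0, 1]), (1, [1])]), (21, [(-1, [0, 0, 1]), (1, [0, 1])]),
    (22, [(-1, [0, 0, 0, 0, 0, 1]), (-1, [0, 0, 0, 0, 1]), (1, [0, 0, 0, 1]), (-1, [0, 0, 1]), (1, [0, 1]), (1, [1])]),
    (23, [(1, [0, 1, 1]), (1, [1, 0, 1]), (-1, [1, 1])])]) (by simp) (by simp [ob_eq g (r := 18) (a := 13) (b := 12) (e := 1) (by decide +kernel)])
    (by simpa using mul_mem (p _ (by simp) _) (mul_mem (p _ (by simp) _) (p _ (by simp) _))) (by decide +kernel) (by decide) (by decide +kernel)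
  have e2 := k (r := 17) (z := [(17, cstP 1), (20, cstP (-1)), (21, cstP (-1))]) (w' := [(23, [(-1, [0, 0, 1]), (1, [0, 1]), (1, [1])])])
    (by simp) (by simp [ob_eq g (r := 17) (a := 20) (b := 21) (e := -1) (by decide +kernel)])
    (by simpa using mul_mem (p _ (by simp) _) (mul_mem (p _ (by simp) _) (p _ (by simp) _))) (by decide +kernel) (by decide) (by decide +kernel)
  simp [evP, evM] at e1 e2
  have a2 : v 2 = 0 := by linear_combination e2 - e1.2.1 - e1.2.2.1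
  have a0 : v 0 = 0 := by linear_combination e1.2.1 + a2
  have a1 : v 1 = 0 := by linear_combination e1.2.2.1 + a2
  have p : ∀ r ∈ [17, 20, 21, 22, 23], ∀ t, P.xN r t ∈ P.U (rootOK_D4.R.lev {r | rootOK_D4.R.Pos r} htL 3) := fun r hr t => xN_mem (fun k e => by
    simp only [Set.mem_ofPred_eq, lev, htL_rt, ht_eq, rootOK_D4.pos_iff_half, e]; clear e; revert r; decide +kernel) t
  simpa [genW, a0, a1, a2, xN_zero] using mul_mem (p _ (by simp) _) (mul_mem (p _ (by simp) _) (mul_mem (p _ (by simp) _)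
    (mul_mem (p _ (by simp) _) (p _ (by simp) _))))

omit h3 in
theorem smul_mem {a t : K} (ha : φ a = a) (ht : t ∈ SubD.cfSet P T Y X.sep (n4 0)) : a * t ∈ SubD.cfSet P T Y X.sep (n4 0) :=
  have h7 : T.ρ ⟨14, by decide⟩ = ⟨14, by decide⟩ := Fin.ext (g.ρ_val _)
  hs.smul_cfSet g.φ_eq h7 (g.ε_fix (ok _ (by decide)) h7) (by rw [rootOK_D4.compat.pair_eq, rootOK_D4.compat.simple_eq]; decide +kernel) ha ht

variable (hob : ∀ i j : Fin chevD4.rank, j ∈ T.orb i ↔ (j : ℕ) ∈ if (i : ℕ) = 1 then [1] else [0, 2, 3])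
include hob

theorem ob_mem {l : List ℕ} (hl : okF chevD4 rhoD4 (true, l) = true) (t : K) :
    ob X (wN chevD4 l 18) t ∈ Y ↔ t ∈ SubD.cfSet P T Y X.sep (n4 0) := by
  have p : ∀ r ∈ [18, 13, 12], ∀ t, P.xN r t ∈ P.U {r | rootOK_D4.R.Pos r ∧ rootOK_D4.R.InSub (T.orb (n4 0)) r} := fun r hr t =>
    xN_mem (fun k e => by
      simp only [Set.mem_ofPred_eq, subN_iff rootOK_D4 (hob _), rootOK_D4.pos_iff_half, e]; clear e; revert r; decide +kernel) t
  have e : ∀ t, ob X 18 t ∈ Y ↔ t ∈ SubD.cfSet P T Y X.sep (n4 0) := fun t => by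
    have e1 := ob_eq g (r := 18) (a := 13) (b := 12) (e := 1) (by decide +kernel) t
    have e2 := e1 ▸ mul_mem (p 18 (by simp) _) (mul_mem (p 13 (by simp) _) (p 12 (by simp) _))
    have q : ∀ r ∈ [18, 13, 12], ∀ t, P.xN r t ∈ P.U {r | rootOK_D4.R.Pos r} := fun r hr t => P.U_mono (fun _ h => h.1) (p r hr t)
    have e3 : cf P (n4 0) (ob X 18 t) = t := by
      rw [e1, cf_mul X.sep (q _ (by simp) _) (mul_mem (q _ (by simp) _) (q _ (by simp) _)), cf_mul X.sep (q _ (by simp) _) (q _ (by simp) _)]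
      erw [cf_x X.sep, cf_x_ne X.sep (rootOK_D4.R.pos_simple (n4 2)) (by decide), cf_x_ne X.sep (rootOK_D4.R.pos_simple (n4 3)) (by decide)]
      simp
    exact ⟨fun h => ⟨_, h, e2, e3⟩, fun h => hs.mem_of_cfSet ⟨e2, ob_fix g h3 (by simp) t⟩ (e3.symm ▸ h)⟩
  obtain ⟨w, hw, h1⟩ := exists_W1 g.ρ_val hl (M := Set.univ) fun _ _ => trivial
  obtain ⟨m, h2, -, -, c, h4, h5, h6⟩ := hs.exists_conj hw ⟨18, by decide⟩
  have h7 : ob X (wN chevD4 l 18) t = m * ob X 18 (c⁻¹ * t) * m⁻¹ := by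
    have h8 : P.xN (wN chevD4 l 18) t = m * P.xN 18 (c⁻¹ * t) * m⁻¹ := by
      erw [h6, mul_inv_cancel_left₀ h4, ← xN_coe, h1]
    simp [ob, h8, X.mem_Fix.1 (hs.le h2), mul_assoc]
  rw [h7, mul_mem_cancel_right (inv_mem h2), mul_mem_cancel_left h2, e]
  exact ⟨fun h => by simpa [h4] using smul_mem g hs h5 h, smul_mem g hs (by simp [h5])⟩

theorem sharp_mem {c : K} (hc : c ∈ SubD.cfSet P T Y X.sep (n4 0)) : φ c * φ (φ c) ∈ SubD.cfSet P T Y X.sep (n4 0) := by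
  have h1 : ob X 18 c ∈ Y := (ob_mem g h3 hs hob (l := []) (by decide +kernel) c).2 hc
  have h2 : ob X 19 c ∈ Y := (ob_mem g h3 hs hob (l := [1]) (by decide +kernel) c).2 hc
  have p : ∀ r ∈ [14, 22, 23], ∀ t, φ t = t → P.xN r t ∈ Y := fun r hr t ht => by
    obtain ⟨r, rfl⟩ : ∃ k : Fin chevD4.nroots, k = r := ⟨⟨r, by revert r; decide⟩, rfl⟩
    have : T.ρ r = r := Fin.ext (by rw [g.ρ_val]; revert r; decide +kernel)
    exact xN_coe P r t ▸ hs.x_mem g.φ_eq this (g.ε_fix (ok _ r.2) this) ht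
  refine (ob_mem g h3 hs hob (l := [0, 2, 3, 1]) (by decide +kernel) _).1 (show ob X 17 _ ∈ Y from ?_)
  have := evW_eq (S := P) (fun i => φ^[i] c) Nat.cast_zero rootOK_D4.compat g.exact
    (w := [(17, [(1, [0, 1, 1])]), (20, [(-1, [1, 0, 1])]), (21, [(-1, [1, 1])])])
    (w' := [(19, varP 0), (16, [(-1, [0, 1])]), (15, [(-1, [0, 0, 1])])] ++ [(18, varP 0), (13, varP 1), (12, varP 2)] ++ [(14, cstP 1)] ++
      invW 0 [(18, varP 0), (13, varP 1), (12, varP 2)] ++ [(14, cstP (-1)), (22, [(1, [1, 1, 1])]), (23, [(2, [1, 1, 1])])]) (by decide +kernel)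
  simp only [evW_append, evW_invW _ Nat.cast_zero] at this
  rw [show P.evW _ [(18, _), _, _] = ob X 18 c by simp [ob_eq g (r := 18) (a := 13) (b := 12) (e := 1) (by decide +kernel)],
    show P.evW _ [(19, _), _, _] = ob X 19 c by simp [ob_eq g (r := 19) (a := 16) (b := 15) (e := -1) (by decide +kernel), evP, evM, varP],
    show P.evW _ [(17, _), _, _] = ob X 17 (φ c * φ (φ c)) by
      simp [ob_eq g (r := 17) (a := 20) (b := 21) (e := -1) (by decide +kernel), evP, evM, h3, mul_comm]] at this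
  rw [this]
  refine mul_mem (mul_mem (mul_mem (mul_mem h2 h1) ?_) (inv_mem h1)) ?_
  · simpa using p 14 (by simp) 1 (by simp)
  · simp only [evW_cons, evW_nil, mul_one]
    refine mul_mem (p _ (by simp) _ (by simp)) (mul_mem (p _ (by simp) _ ?_) (p _ (by simp) _ ?_)) <;>
      simp only [evP, evM, List.map, List.sum_cons, List.sum_nil, map_mul, map_add, map_intCast, map_pow, map_one, map_zero,
        Function.iterate_succ_apply', Function.iterate_zero_apply, h3] <;> ring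

theorem all_mem {c : K} (hc : c ∈ SubD.cfSet P T Y X.sep (n4 0)) (h : φ c ≠ c) (t : K) : t ∈ SubD.cfSet P T Y X.sep (n4 0) := by
  have h1 : ∀ a, φ (a + φ a + φ (φ a)) = a + φ a + φ (φ a) := fun a => by simp only [map_add, h3]; ring
  have h2 := sub_ne_zero.2 h.symm
  have h4 : c - φ (φ c) ≠ 0 := sub_ne_zero.2 fun e => h (by rw [e, h3, ← e])
  obtain ⟨a, rfl⟩ : ∃ a, t = a * ((c - φ c) * (c - φ (φ c))) := ⟨t / _, (div_mul_cancel₀ _ (mul_ne_zero h2 h4)).symm⟩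
  convert add_mem (add_mem (hs.mem_cfSet g.φ_eq (h1 (-a * c * (φ c + φ (φ c))))) (smul_mem g hs (h1 (a * c)) hc))
    (smul_mem g hs (h1 a) (sharp_mem g h3 hs hob hc)) using 1
  simp only [map_mul, map_add, map_neg, h3]; ring

end

/-- In the twisted group ³D₄(q), realised inside the Chevalley group of type D₄ over the field K with q³ elements (q a power of the characteristic) as the subgroup generated by the root elements, and products of root elements, that the twisting map fixes, the subgroup of matrices all of whose entries lie in the subfield with q elements (it contains the subgroup of type G₂ over that subfield) is a proper maximal subgroup. -/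
theorem result {K : Type*} [Field K] [Fintype K] (p : ℕ) [Fact p.Prime] [CharP K p] (q : ℕ) (hq : ∃ a : ℕ, 1 ≤ a ∧ q = p ^ a) (hK : Fintype.card K = q ^ 3) (M : Subgroup (GL Cfsg.Lie.chevD4.Idx K))
    (hM : ∀ g : GL Cfsg.Lie.chevD4.Idx K, g ∈ M ↔ g ∈ Cfsg.Lie.twistedD4 K q ∧ ∀ i j : Cfsg.Lie.chevD4.Idx, ((g : Matrix Cfsg.Lie.chevD4.Idx Cfsg.Lie.chevD4.Idx K) i j) ^ q = (g : Matrix Cfsg.Lie.chevD4.Idx Cfsg.Lie.chevD4.Idx K) i j) :
    M ≠ Cfsg.Lie.twistedD4 K q ∧ ∀ H : Subgroup (GL Cfsg.Lie.chevD4.Idx K), M ≤ H → H ≤ Cfsg.Lie.twistedD4 K q → H = M ∨ H = Cfsg.Lie.twistedD4 K q := by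
  obtain ⟨a, ha, e⟩ := hq
  have hq : IsPrimePow q := e ▸ (Fact.out : p.Prime).isPrimePow.pow (by omega)
  obtain ⟨d⟩ := exists_D4Data hq hK
  obtain ⟨f, hf⟩ := exists_q_hom hq hK
  have hφ : ∀ t, (f : K →+* K) t = t ^ q := hf
  generalize (f : K →+* K) = φ at hφ
  have g := d.gp hφ
  have e1 := d.eq_Fix hK
  have hob : ∀ i j : Fin chevD4.rank, j ∈ d.T.orb i ↔ (j : ℕ) ∈ if (i : ℕ) = 1 then [1] else [0, 2, 3] := fun i j => by
    rcases n4_cases i with rfl | a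
    · rw [d.orb1]; revert j; decide
    · rw [d.orb3 a]; revert i j; decide
  have h4 : ∀ t, φ (φ (φ t)) = t := fun t => by simpa only [g.φ_eq] using d.φφ hK ⟨0, by decide⟩ ⟨0, by decide⟩ ⟨0, by decide⟩ t
  refine max_glue (d.gen hK).1 hφ hM ?_ (fun Y hY h1 => ?_) <;> rw [e1] at *
  · obtain ⟨ω, h1⟩ : ∃ ω : K, ω ^ q ≠ ω := by_contra fun h => by
      have := (card_fixed hq.one_lt hK).2
      rw [Nat.card_congr (Equiv.subtypeUnivEquiv fun t => by_contra fun e => h ⟨t, e⟩), Nat.card_eq_fintype_card, hK] at this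
      exact (Nat.pow_lt_pow_right hq.one_lt (show 1 < 3 by decide)).ne' (this.trans (pow_one q).symm)
    obtain ⟨u, h2, h3⟩ := d.o3.exists_cf (i := n4 0) (d.orb3 (by simp)) (d.vec3 hK 0 ω)
    refine ⟨u, u.2, fun h4 => h1 ?_⟩
    have := ((d.subD hφ (d.grp hK).fix d.orth le_rfl fun _ h _ => h).fix_of_cf ⟨h2, u.2⟩).1 h4
    rwa [h3, hφ] at this
  have hs := d.subD hφ (d.grp hK).fix d.orth hY h1
  by_cases hU : ∀ u ∈ (sD4 K).U {r | rootOK_D4.R.Pos r}, u ∈ Y → baseExt chevD4 φ u = u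
  · exact Or.inr fun _ => g.fix_of_hU hs (ob := fun i => if i = 1 then [1] else [0, 2, 3]) hob ok hU ⟨23, by decide⟩
      (fun β => if β = 1 then (23, 0) else (0, 1)) (fun i => if i = 1 then [0, 2, 3, 1] else [1, 0, 2, 3, 1])
      (fun i => [19, 0, 16, 15].getD i 0) (fun _ => [2, -1, 2, 2])
      (by decide +kernel) (by decide +kernel) (by decide +kernel) (by decide +kernel)
  have := g.exists_cf hs (ob := fun i => if i = 1 then [1] else [0, 2, 3]) hob ok (n := 3) (fun a h2 h3 u h5 h6 => ?_)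
    [1, 0, 2, 3] (n4 0) (by decide +kernel) hU
  · obtain ⟨c, h2, h3⟩ := this
    exact Or.inl (g.eq_Fix hs (ob := fun i => if i = 1 then [1] else [0, 2, 3]) hob ((d.eq_Fix hK).ge.trans (d.gen hK).2) (i := n4 0)
      (all_mem g h4 hs hob h2 h3) (fun _ => []) (by decide +kernel))
  rcases cen a a.2 ((rootOK_D4.pos_iff_half a).1 h2) (by rwa [← ht_eq]) with h7 | h7
  · rw [← ht_eq] at h7
    exact co_of_mem (ext_ht h2 rfl) d.X.sep (U_mono _ (fun k hk => And.intro (And.intro hk.1 (by have := hk.2; omega)) fun e => by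
      have := hk.2; rw [show k = a from e, htL_rt] at this; omega) (cen2 g h4 hs (by rwa [← h7]) h6))
  · exact g.cen_dec' hs h2 (h7 _ rfl) u h5 h6

end Cfsg.Agent.S2192
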