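import Cfsg.Statements.S2197
import Cfsg.Agent.Lib.Comp.Titsx.Mat
import Cfsg.Agent.Lib.Comp.Titsx.Two

set_option autoImplicit false
open Cfsg

namespace Cfsg.Agent.S2197

open Cfsg.Lib.Comp Cfsg.Lib.MatB


/-- The Tits group (the commutator subgroup of ²F₄(2)) has no faithful 2-transitive action on a finite set with more than two points. -/
theorem result {Ω : Type*} [Fintype Ω] [MulAction Cfsg.Lie.TitsGroup Ω] [FaithfulSMul Cfsg.Lie.TitsGroup Ω] (hΩ : 3 ≤ Fintype.card Ω) :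
    ¬ MulAction.IsMultiplyPretransitive Cfsg.Lie.TitsGroup Ω 2 := by
  intro h
  obtain ⟨e⟩ := Titsx.iso.2
  let _ := MulAction.compHom Ω e.toMonoidHom
  have : FaithfulSMul (cl (gp Titsx.nets) Titsx.L) Ω := ⟨fun h => e.injective (eq_of_smul_eq_smul (α := Ω) h)⟩
  refine Titsx.no_two (Ω := Ω) (by rwa [Nat.card_eq_fintype_card]) ⟨fun x y => ?_⟩
  obtain ⟨g, hg⟩ := h.exists_smul_eq x y
  refine ⟨e.symm g, Function.Embedding.ext fun i => ?_⟩
  rw [← hg]
  change e (e.symm g) • x i = g • x i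
  rw [e.apply_symm_apply]

end Cfsg.Agent.S2197
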