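import Cfsg.Statements.S2202
import Cfsg.Agent.Lib.Exc.AC2

set_option autoImplicit false
open Cfsg

namespace Cfsg.Agent.S2202

/-- Finite groups in which the centralizer of every involution is abelian. Let G be a finite group of even order in which the centralizer of every element of order 2 is abelian. Then the Sylow 2-subgroups of G are cyclic, or a Sylow 2-subgroup of G is normal, or G is isomorphic to the direct product of SL₂(F) for a finite field F of characteristic two and an abelian group of odd order. -/
theorem result {G : Type*} [Group G] [Finite G] (heven : Even (Nat.card G)) (h : ∀ t : G, orderOf t = 2 → IsMulCommutative ↥(Subgroup.centralizer ({t} : Set G))) :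
    (∀ P : Sylow 2 G, IsCyclic ↥P) ∨ (∀ P : Sylow 2 G, (P : Subgroup G).Normal) ∨
    (∃ (F : Type) (_ : Field F) (_ : Fintype F) (A : Type) (_ : CommGroup A) (_ : Finite A), CharP F 2 ∧ Odd (Nat.card A) ∧ Nonempty (G ≃* Matrix.SpecialLinearGroup (Fin 2) F × A)) := by
  have h1 : Cfsg.Lib.Exc.AC G := fun t ht x y hx hy => congrArg Subtype.val
    ((h t ht).is_comm.comm (⟨x, Cfsg.Lib.Invol.mem_cent.2 hx⟩ : Subgroup.centralizer ({t} : Set G))
      ⟨y, Cfsg.Lib.Invol.mem_cent.2 hy⟩)
  rcases h1.main heven with h2 | h2 | ⟨F, i1, i2, A, i3, i4, h2, -, h3, h4⟩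
  · exact Or.inl h2
  · exact Or.inr (Or.inl h2)
  · exact Or.inr (Or.inr ⟨F, i1, i2, A, i3, i4, h2, h3, h4⟩)

end Cfsg.Agent.S2202
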