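import Cfsg.Statements.S2205
import Cfsg.Agent.Lib.Layer.Atk5

set_option autoImplicit false
open Cfsg

namespace Cfsg.Agent.S2205

open Subgroup MulAction Cfsg.Lib.Layer.Atk

/-- A finite group acting faithfully and 2-transitively on a set with p² + 1 points, p a prime, is doubly primitive — a point stabilizer acts primitively on the remaining p² points — unless p = 2 and the group is the Frobenius group of order 20. -/
theorem result {G Ω : Type*} [Group G] [Finite G] [Fintype Ω] [MulAction G Ω] [FaithfulSMul G Ω] (p : ℕ) (hp : p.Prime) (hΩ : Fintype.card Ω = p ^ 2 + 1) (h2 : MulAction.IsMultiplyPretransitive G Ω 2) (a : Ω) :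
    MulAction.IsPreprimitive ↥(MulAction.stabilizer G a) ↥(SubMulAction.ofStabilizer G a) ∨ (p = 2 ∧ Nat.card G = 20) := by
  haveI := Fact.mk hp
  have h : Hyp G Ω p := ⟨is_two_pretransitive_iff.mp h2, by rw [Nat.card_eq_fintype_card, hΩ]⟩
  have hc := ncard_compl h a
  obtain ⟨b, hb, b', hb', hbb⟩ := (Set.one_lt_ncard (Set.toFinite _)).mp (hc ▸ Nat.one_lt_pow two_ne_zero hp.one_lt)
  haveI : Nontrivial (SubMulAction.ofStabilizer G a) := ⟨⟨⟨b, hb⟩, ⟨b', hb'⟩, fun e => hbb (congrArg Subtype.val e)⟩⟩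
  haveI : IsPretransitive (stabilizer G a) (SubMulAction.ofStabilizer G a) := ⟨fun x y => by
    obtain ⟨g, e1, e2⟩ := h.two (Ne.symm x.2) (Ne.symm y.2)
    exact ⟨⟨g, e1⟩, Subtype.ext e2⟩⟩
  rw [← isCoatom_stabilizer_iff_preprimitive _ (⟨b, hb⟩ : SubMulAction.ofStabilizer G a), or_iff_not_imp_left]
  intro hn
  simp only [IsCoatom, not_and, not_forall] at hn
  obtain ⟨M, hM, hM'⟩ := hn fun e => by
    obtain ⟨g, hg⟩ := exists_smul_eq (stabilizer G a) (⟨b, hb⟩ : SubMulAction.ofStabilizer G a) ⟨b', hb'⟩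
    exact hbb (congrArg Subtype.val ((e.ge (mem_top g)).symm.trans hg))
  have e1 : D2 G a b = (stabilizer (stabilizer G a) (⟨b, hb⟩ : SubMulAction.ofStabilizer G a)).map
      (stabilizer G a).subtype := by
    ext g
    exact ⟨fun hg => ⟨⟨g, hg.1⟩, Subtype.ext hg.2, rfl⟩, fun ⟨k, hk, e⟩ => e ▸ mem_inf.mpr ⟨k.2, congrArg Subtype.val hk⟩⟩
  refine main (M := M.map (stabilizer G a).subtype) h (Ne.symm hb) ?_ ?_
  · rw [e1]; exact (map_lt_map_iff_of_injective (subtype_injective _)).mpr hM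
  · conv_rhs => rw [← range_subtype (stabilizer G a), MonoidHom.range_eq_map]
    exact (map_lt_map_iff_of_injective (subtype_injective _)).mpr (lt_top_iff_ne_top.mpr hM')

end Cfsg.Agent.S2205
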