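import Cfsg.Statements.S2209
import Cfsg.Agent.Lib.Chev.CentD
import Cfsg.Agent.Lib.Twist.RootAll

set_option autoImplicit false
open Cfsg Cfsg.Lie Cfsg.Lib.Chev Cfsg.Lib.Twist

namespace Cfsg.Agent.S2209

set_option synthInstance.maxSize 4000
set_option synthInstance.maxHeartbeats 400000

/-- Centralizer of a long root involution in the Chevalley groups of type E₆, E₇, E₈ over a finite field F of characteristic two. Let G be the group generated by the root elements, U the subgroup generated by the positive root subgroups, r the highest root (the last root index: 71, 125, 239 respectively), and t the element of G with matrix x_r(1). Then the centralizer of t in G is the subgroup generated by U together with the root subgroups X_{−p} for the fundamental roots p orthogonal to r — all fundamental roots except p₂ for E₆, except p₁ for E₇, except p₈ for E₈ (numbering with p₁–p₃–p₄–…–p_l the long chain and p₂ joined to p₄); the indices of these negative fundamental roots are 15, 29, 32, 34, 35 (E₆), 47, 52, 56, 59, 61, 62 (E₇), 77, 98, 104, 109, 113, 116, 118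 (E₈). (This is the unipotent radical of the corresponding maximal parabolic subgroup extended by the root subgroups of its Levi factor, of type A₅, D₆, E₇ respectively.) -/
theorem result {F : Type*} [Field F] [Fintype F] [CharP F 2] (d : Cfsg.Lie.ChevalleyDatum × List ℕ)
    (hd : d ∈ [(Cfsg.Lie.chevE6, [15, 29, 32, 34, 35]), (Cfsg.Lie.chevE7, [47, 52, 56, 59, 61, 62]), (Cfsg.Lie.chevE8, [77, 98, 104, 109, 113, 116, 118])])
    (t : GL d.1.Idx F) (ht : (t : Matrix d.1.Idx d.1.Idx F) = d.1.x F (d.1.nroots - 1) 1) :
    d.1.group F ⊓ Subgroup.centralizer {t} = d.1.posUnipotent F ⊔ Subgroup.closure {g : GL d.1.Idx F | ∃ s ∈ d.2, ∃ c : F, (g : Matrix d.1.Idx d.1.Idx F) = d.1.x F s c} := by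
  simp only [List.mem_cons, List.not_mem_nil, or_false] at hd
  rcases hd with rfl | rfl | rfl
  · refine (cent_central rootOK_E6 matOK_E6 2 (m₁ := 71) (m₂ := 71) (l := [15, 29, 32, 34, 35]) (ab := fun _ => (1, 0)) (by decide +kernel)
      (t₁ := 1) (t₂ := 0) (by simp) (by simp) (by rw [x_zero' rootOK_E6 matOK_E6 _ (by decide +kernel), mul_one]; exact ht)).trans ?_
    rw [← rootOK_E6.compat.closure_eq_U matOK_E6 (· ∈ [15, 29, 32, 34, 35]) (by decide +kernel)]
    simp only [exists_and_left]
  · refine (cent_central rootOK_E7 matOK_E7 2 (m₁ := 125) (m₂ := 125) (l := [47, 52, 56, 59, 61, 62]) (ab := fun _ => (1, 0)) (by decide +kernel)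
      (t₁ := 1) (t₂ := 0) (by simp) (by simp) (by rw [x_zero' rootOK_E7 matOK_E7 _ (by decide +kernel), mul_one]; exact ht)).trans ?_
    rw [← rootOK_E7.compat.closure_eq_U matOK_E7 (· ∈ [47, 52, 56, 59, 61, 62]) (by decide +kernel)]
    simp only [exists_and_left]
  · refine (cent_central rootOK_E8 matOK_E8 2 (m₁ := 239) (m₂ := 239) (l := [77, 98, 104, 109, 113, 116, 118]) (ab := fun _ => (1, 0)) (by decide +kernel)
      (t₁ := 1) (t₂ := 0) (by simp) (by simp) (by rw [x_zero' rootOK_E8 matOK_E8 _ (by decide +kernel), mul_one]; exact ht)).trans ?_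
    rw [← rootOK_E8.compat.closure_eq_U matOK_E8 (· ∈ [77, 98, 104, 109, 113, 116, 118]) (by decide +kernel)]
    simp only [exists_and_left]

end Cfsg.Agent.S2209
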