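import Cfsg.Statements.S2212
import Cfsg.Agent.Lib.Layer.PguB

set_option autoImplicit false
open Cfsg

namespace Cfsg.Agent.S2212

open Cfsg.Lib Cfsg.Lib.Layer.Pgu
set_option linter.style.haveILetI false

/-- Characterization of the three-dimensional projective unitary groups over finite fields of characteristic two by the centralizer of an involution. Let q = 2^n > 2 and let PGU₃(q) be the quotient of the full unitary group of a non-degenerate Hermitian form in three variables over the field with q² elements by its centre. Let G be a finite group of even order in which all involutions are conjugate, the centralizer of an involution is isomorphic to the centralizer of an involution in PGU₃(q), and a Sylow 2-subgroup is not normal. Then G ≅ PGU₃(q). -/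
theorem result {G : Type*} [Group G] [Finite G] {F : Type*} [Field F] [Fintype F] [CharP F 2] (q : ℕ) (hq : 2 < q) (hF : Fintype.card F = q ^ 2)
    (heven : Even (Nat.card G)) (hconj : ∀ s t : G, orderOf s = 2 → orderOf t = 2 → IsConj s t)
    (hC : ∀ (x : G) (y : (↥(Cfsg.GU 3 F q) ⧸ Subgroup.center ↥(Cfsg.GU 3 F q))), orderOf x = 2 → orderOf y = 2 →
      Nonempty (↥(Subgroup.centralizer ({x} : Set G)) ≃* ↥(Subgroup.centralizer ({y} : Set (↥(Cfsg.GU 3 F q) ⧸ Subgroup.center ↥(Cfsg.GU 3 F q))))))
    (hS : ∀ P : Sylow 2 G, ¬ (P : Subgroup G).Normal) :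
    Nonempty (G ≃* (↥(Cfsg.GU 3 F q) ⧸ Subgroup.center ↥(Cfsg.GU 3 F q))) := by
  obtain ⟨σ, h⟩ := Forms.isConj_of_card hF
  obtain ⟨n, hn⟩ : ∃ n, q = 2 ^ n := by
    obtain ⟨m, -, hm⟩ := FiniteField.card F 2
    obtain ⟨k, -, hk⟩ := (Nat.dvd_prime_pow Nat.prime_two).1 (show q ∣ 2 ^ (m : ℕ) from
      hm ▸ hF ▸ dvd_pow_self q two_ne_zero)
    exact ⟨k, hk⟩
  have h3 : 2 ≤ n := by
    by_contra h3
    have : n = 0 ∨ n = 1 := by omega
    rcases this with rfl | rfl <;> omega
  have h2 : (2 : F) = 0 := CharP.cast_eq_zero F 2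
  obtain ⟨e⟩ := nonempty_pgu h
  obtain ⟨f⟩ := main (h := h) hn h3 h2 (fun x hx => by
    obtain ⟨k⟩ := hC x (e.symm (pu h (z1 h2))) hx
      ((orderOf_injective e.symm.toMonoidHom e.symm.injective _).trans (order_z1 h2 (pu_injective h)))
    refine ⟨k.trans ((e.subgroupMap _).trans (MulEquiv.subgroupCongr ?_))⟩
    ext d
    obtain ⟨d, rfl⟩ := e.surjective d
    refine (Subgroup.mem_map_iff_mem (f := e.toMonoidHom) e.injective).trans ?_
    rw [Subgroup.mem_centralizer_singleton_iff, Subgroup.mem_centralizer_singleton_iff, ← e.apply_eq_iff_eq,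
      map_mul, map_mul, e.apply_symm_apply]) heven hconj hS
  exact ⟨f.trans e.symm⟩

end Cfsg.Agent.S2212
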