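import Cfsg.Statements.S2214
import Cfsg.Agent.Lib.Chev.Lang2

set_option autoImplicit false
open Cfsg Cfsg.Lie Cfsg.Lib.Chev

namespace Cfsg.Agent.S2214

/-- Let k be an algebraically closed field of prime characteristic p, G the adjoint Chevalley group of type G₂, B₂, D₄, F₄, E₆, E₇ or E₈ over k (the matrix group generated by the root elements x_s(t), t ∈ k, acting on the Lie algebra), q = p^a with a ≥ 1, and K a subgroup of G containing every root element x_s(t) with t^q = t and consisting of matrices all of whose entries c satisfy c^q = c. Then the centralizer of K in G is trivial, and the normalizer of K in G is exactly the set of elements of G all of whose entries c satisfy c^q = c. -/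
theorem result {k : Type*} [Field k] [IsAlgClosed k] (p : ℕ) [Fact p.Prime] [CharP k p] (D : Cfsg.Lie.ChevalleyDatum) (hD : D ∈ [Cfsg.Lie.chevG2, Cfsg.Lie.chevB2, Cfsg.Lie.chevD4, Cfsg.Lie.chevF4, Cfsg.Lie.chevE6, Cfsg.Lie.chevE7, Cfsg.Lie.chevE8]) (a : ℕ) (ha : 1 ≤ a) (K : Subgroup (GL D.Idx k)) (hKG : K ≤ D.group k)
    (hLK : Subgroup.closure {g : GL D.Idx k | ∃ (s : ℕ) (t : k), t ^ (p ^ a) = t ∧ (g : Matrix D.Idx D.Idx k) = D.x k s t} ≤ K)
    (hKfix : ∀ g ∈ K, ∀ i j : D.Idx, ((g : Matrix D.Idx D.Idx k) i j) ^ (p ^ a) = (g : Matrix D.Idx D.Idx k) i j) :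
    D.group k ⊓ Subgroup.centralizer (K : Set (GL D.Idx k)) = ⊥ ∧
    ∀ g : GL D.Idx k, g ∈ D.group k → (g ∈ Subgroup.normalizer (K : Set (GL D.Idx k)) ↔ ∀ i j : D.Idx, ((g : Matrix D.Idx D.Idx k) i j) ^ (p ^ a) = (g : Matrix D.Idx D.Idx k) i j) := by
  obtain ⟨R, η, hc, hm⟩ := good_of_mem hD
  let X := hc.ftw hm (iterateFrobenius k p a)
  have hX : ∀ g : D.group k, g ∈ X.Fix ↔ ∀ i j, g.1.1 i j ^ p ^ a = g.1.1 i j := fun g =>
    ⟨fun h i j => congrFun₂ (congrArg (·.1.1) (X.mem_Fix.1 h)) i j, fun h => Subtype.ext (Units.ext (Matrix.ext h))⟩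
  have h1 : K.subgroupOf (D.group k) ≤ X.Fix := fun g hg => (hX g).2 (hKfix _ hg)
  have h2 : ∀ r t, X.φ r t = t → (hc.gsys hm k).x r t ∈ K.subgroupOf (D.group k) := fun r t h =>
    hLK (Subgroup.subset_closure ⟨r, t, h, hc.gsys_val hm r t⟩)
  refine ⟨eq_bot_iff.2 fun g hg => ?_, fun g hg => ?_⟩
  · exact congrArg Subtype.val (eq_one_of_comm X (fun _ => rfl) h2 (Cfsg.Lib.Twist.gZ hc hm) (g := ⟨g, hg.1⟩) fun y hy =>
      Subtype.ext (mul_inv_eq_iff_eq_mul.2 (hg.2 _ hy).symm))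
  · rw [← hX ⟨g, hg⟩, ← normalizer_eq_Fix X (fun _ => rfl) h1 h2 (Cfsg.Lib.Twist.gZ hc hm), ← Subgroup.subgroupOf_normalizer_eq hKG]
    rfl

end Cfsg.Agent.S2214
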