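import Cfsg.Statements.S2216
import Cfsg.Agent.Lib.KC.F
import Cfsg.Agent.Lib.KC.E0
import Cfsg.Agent.Lib.KC.E1
import Cfsg.Agent.S3214

set_option autoImplicit false
open Cfsg

namespace Cfsg.Agent.S2216
open Cfsg.Lib Cfsg.Lib.KC Cfsg.Lib.Comp

/-- A non-abelian finite simple group with exactly nine conjugacy classes is isomorphic to PSL(2, 8), PSL(2, 13) or the alternating group of degree 7. -/
theorem result {G : Type*} [Group G] [Finite G] [IsSimpleGroup G] (hG : ¬ IsMulCommutative G)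
    (h : Nat.card (ConjClasses G) = 9) :
    (∃ (F : Type) (_ : Field F) (_ : Fintype F), Fintype.card F = 8 ∧
        Nonempty (G ≃* Matrix.ProjectiveSpecialLinearGroup (Fin 2) F)) ∨
      Nonempty (G ≃* Matrix.ProjectiveSpecialLinearGroup (Fin 2) (ZMod 13)) ∨
      Nonempty (G ≃* ↥(alternatingGroup (Fin 7))) := by
  have key : ∀ (F : Type) [Field F] [Fintype F], Nonempty (G ≃* Matrix.ProjectiveSpecialLinearGroup (Fin 2) F) →
      (∃ (F : Type) (_ : Field F) (_ : Fintype F), Fintype.card F = 8 ∧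
        Nonempty (G ≃* Matrix.ProjectiveSpecialLinearGroup (Fin 2) F)) ∨
      Nonempty (G ≃* Matrix.ProjectiveSpecialLinearGroup (Fin 2) (ZMod 13)) ∨
      Nonempty (G ≃* ↥(alternatingGroup (Fin 7))) := by
    rintro F _ _ ⟨e⟩
    rcases psl2_k e with h1 | h1
    · exact Or.inl ⟨F, _, _, by omega, ⟨e⟩⟩
    · have : Fact (Nat.Prime 13) := ⟨by norm_num⟩
      obtain ⟨f⟩ := Linear.nonempty_psl_equiv_of_card_eq (ι := Fin 2) (F := F) (K := ZMod 13)
        (by rw [Nat.card_zmod, Nat.card_eq_fintype_card]; omega)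
      exact Or.inr (Or.inl ⟨e.trans f⟩)
  rcases modes hG with (⟨F, _, _, e⟩ | e) | ⟨h1, h2, h3⟩ | ⟨h1, h2⟩
  · exact key F e
  · exact Or.inr (Or.inr e)
  · obtain ⟨l, h4, h5⟩ := acc0 hG (M := M90) h rfl h1 h2 h3 rfl (fun _ => rfl) (fun _ => rfl) run90
    simp only [M90, cnd_tt, an_iff, al_iff, cnd_imp, Nat.beq_eq, h4.mem_iff, mem_LL] at h5
    obtain ⟨h6, ⟨_, ⟨x, -, rfl⟩, h7⟩, h8⟩ := h5
    rcases Cfsg.Agent.S3214.result hG fun t ht => pnil_of_pow (n := 6) (h8 _ ⟨t, fun e => by simp [e] at ht, rfl⟩ ht) with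
      ⟨F, _, _, -, e⟩ | e | e | ⟨F, _, _, h9, ⟨e⟩⟩
    · exact key F e
    · obtain ⟨-, m, hm, e⟩ := BS.isSuzuki_of_iso e
      have : 2 ^ 3 ≤ 2 ^ (2 * m + 1) := Nat.pow_le_pow_right two_pos (by omega)
      have h2 := Nat.pow_le_pow_left this 2
      have := Nat.mul_le_mul (Nat.mul_le_mul h2 (Nat.succ_le_succ h2)) (Nat.sub_le_sub_right this 1)
      rw [Nat.succ_eq_add_one (_ ^ 2), Nat.succ_eq_add_one (_ ^ 2), ← e, h6] at this
      norm_num at this
    · exact Or.inr (Or.inr e)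
    · exact absurd h7 (psl3_no8 h9 e x)
  · obtain ⟨l, -, h5⟩ := acc1 hG (M := M91) h rfl h1 h2 rfl (fun c hc => cnd_not.2 fun h => hc (dvB_iff.1 h))
      (fun c hc => cnd_or.2 (hc.imp Nat.beq_eq.ge dvB_iff.2)) run91
    exact absurd h5 Bool.false_ne_true

end Cfsg.Agent.S2216
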