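import Cfsg.Statements.S2217
import Cfsg.Agent.Lib.KC.J
import Cfsg.Agent.Lib.KC.T
import Cfsg.Agent.Lib.Exc.M11c
import Cfsg.Agent.S3214
import Cfsg.Agent.S0998
import Cfsg.Agent.S0983

set_option autoImplicit false
open Cfsg

namespace Cfsg.Agent.S2217
open Cfsg.Lib Cfsg.Lib.KC Cfsg.Lib.Comp

/-- A non-abelian finite simple group with exactly ten conjugacy classes is isomorphic to the Mathieu group M₁₁ or to PSL(3, 4). -/
theorem result {G : Type*} [Group G] [Finite G] [IsSimpleGroup G] (hG : ¬ IsMulCommutative G)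
    (h : Nat.card (ConjClasses G) = 10) :
    Nonempty (G ≃* ↥Cfsg.Spor.M11) ∨
      ∃ (F : Type) (_ : Field F) (_ : Fintype F), Fintype.card F = 4 ∧
        Nonempty (G ≃* Matrix.ProjectiveSpecialLinearGroup (Fin 3) F) := by
  have key : ∀ (F : Type) [Field F] [Fintype F], Nonempty (G ≃* Matrix.ProjectiveSpecialLinearGroup (Fin 2) F) → False := by
    rintro F _ _ ⟨e⟩
    have h1 : Fintype.card F = 15 := by have := psl2_k e; omega
    obtain ⟨p, hp⟩ := CharP.exists F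
    obtain ⟨n, hp', hn⟩ := FiniteField.card F p
    rw [h1] at hn
    have a1 := (Nat.prime_dvd_prime_iff_eq Nat.prime_three hp').1 (Nat.prime_three.dvd_of_dvd_pow (n := n) (by rw [← hn]; norm_num))
    have a2 := (Nat.prime_dvd_prime_iff_eq Nat.prime_five hp').1 (Nat.prime_five.dvd_of_dvd_pow (n := n) (by rw [← hn]; norm_num))
    omega
  have k7 : Nonempty (G ≃* alternatingGroup (Fin 7)) → False := fun ⟨e⟩ => by
    have := k_A7
    rw [← k_congr e] at this
    omega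
  have k98 : ∀ b, Nat.card G = 3 * 5 * 2 ^ b → False := fun b hb =>
    (Cfsg.Agent.S0998.result (Small.not_isCyclic_of_not_comm hG) 3 2 5 b Nat.prime_three Nat.prime_two Nat.prime_five
      (by norm_num) (by norm_num) (by norm_num) hb).elim (fun ⟨F, _, _, _, e⟩ => key F e) fun ⟨F, _, _, _, e⟩ => key F e
  have n1 : ∀ {n : ℕ} {x : G}, orderOf x = n → 1 < n → x ≠ 1 := fun h1 h2 e => by rw [e, orderOf_one] at h1; omega
  rcases modes hG with (⟨F, _, _, e⟩ | e) | ⟨h1, h2, h3⟩ | ⟨h1 | h1, h2⟩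
  · exact (key F e).elim
  · exact (k7 e).elim
  rotate_left
  · obtain ⟨l, -, h5⟩ := accB hG (M := MT2) h rfl h1 h2 rfl (fun c h1 h2 => by
      simp only [MT2, cnd_eq, dvB_iff, h1, h2, if_false]) (fun c hc => dvB_iff.2 hc) runT2
    exact absurd h5 Bool.false_ne_true
  · obtain ⟨l, -, h5⟩ := accC hG (M := MT3) h rfl h1.2 h2 rfl (fun c h => dvB_iff.2 h) rfl runT3
    exact absurd h5 Bool.false_ne_true
  obtain ⟨l, h4, h5⟩ := accA3 hG (M := MT0) h rfl h1 h2 h3 rfl (fun _ => rfl) (fun _ => rfl) (by norm_num) runT0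
  have hl := len_fi h4 (dvB 2)
  have c6 := (cnt_perm _ h4 _).trans (cnt_ord (G := G) (n := 6) (by norm_num))
  have c3 := (cnt_perm _ h4 _).trans (cnt_ord (G := G) (n := 3) (by norm_num))
  simp only [MT0] at h5
  rw [cnd_or, c6, c3, hl] at h5
  rcases h5 with h5 | h5
  · simp only [an_iff, List.mem_cons, List.not_mem_nil, or_false, Nat.beq_eq, exists_eq_right'] at h5
    have := Cfsg.Agent.S0983.result hG
    rcases h5 with h5 | h5 | h5 | h5 | h5 | h5
    · exact (k98 7 h5).elim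
    · exact (k98 11 h5).elim
    · omega
    · omega
    · omega
    · exact Or.inl (Exc.M11.isoM11 h5)
  rw [cnd_eq] at h5
  split_ifs at h5 with b1
  · simp only [cnd_tt, an_iff, al_iff, cnd_imp, Nat.beq_eq, h4.mem_iff, mem_LL, Nat.blt_eq, two, dvB_iff] at h5 b1
    rcases Cfsg.Agent.S3214.result hG fun t ht => by
        obtain ⟨n, -, hn⟩ := (Nat.dvd_prime_pow (m := 32) Nat.prime_two).1 (b1 _ ⟨t, n1 ht one_lt_two, rfl⟩ ht)
        exact pnil_of_pow hn with ⟨F, _, _, -, e⟩ | e | e | e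
    · exact (key F e).elim
    · obtain ⟨-, m, hm, e'⟩ := BS.isSuzuki_of_iso e
      rcases hm.eq_or_lt with rfl | hm
      · obtain ⟨_, ⟨x, -, rfl⟩, a1, a2⟩ := h5.2 e'
        exact absurd a2 (sz_no8 e a1)
      have : 2 ^ 5 ≤ 2 ^ (2 * m + 1) := Nat.pow_le_pow_right two_pos (by omega)
      have h2 := Nat.pow_le_pow_left this 2
      have := Nat.mul_le_mul (Nat.mul_le_mul h2 (Nat.succ_le_succ h2)) (Nat.sub_le_sub_right this 1)
      rw [Nat.succ_eq_add_one (_ ^ 2), Nat.succ_eq_add_one (_ ^ 2), ← e'] at this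
      norm_num at this
      omega
    · exact (k7 e).elim
    · exact Or.inr e
  exfalso
  clear b1
  rw [cnd_eq] at h5
  split_ifs at h5 with b1
  · simp only [cnd_tt, an_iff, Nat.beq_eq, h4.mem_iff, mem_LL] at h5 b1
    obtain ⟨⟨_, ⟨s, -, rfl⟩, a1, a2⟩, ⟨_, ⟨t, -, rfl⟩, a3, a4⟩, a5⟩ := h5
    have := bf2 a1 a3 fun e => by rw [dt_conj e] at a2; omega
    rw [a2, a4, a5, b1] at this
    omega
  clear b1
  rw [cnd_eq] at h5
  split_ifs at h5 with b1
  · simp only [cnd_tt, al_iff, cnd_imp, Nat.beq_eq, h4.mem_iff, mem_LL] at h5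
    have := six_le (G := G) (k := 27) (by norm_num) fun x hx => h5.2.2 _ ⟨x, n1 hx (by norm_num), rfl⟩ hx
    omega
  clear b1
  rw [cnd_eq] at h5
  split_ifs at h5 with b1
  · simp only [cnd_tt, an_iff, al_iff, cnd_imp, Nat.beq_eq, h4.mem_iff, mem_LL, dvB_iff] at h5
    obtain ⟨⟨_, ⟨y, -, rfl⟩, a1, a2⟩, a3⟩ := h5
    have := four_dvd a1 (a3 _ ⟨_, n1 (six a1).1 (by norm_num), rfl⟩ (six a1).1)
    omega
  simp only [cnd_tt, an_iff, al_iff, cnd_imp, Nat.beq_eq, h4.mem_iff, mem_LL] at h5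
  obtain ⟨b2, a1, a2, ⟨_, ⟨s, -, rfl⟩, a3, a4⟩, _, ⟨t, -, rfl⟩, a5, a6⟩ := h5
  obtain ⟨y, y1, rfl⟩ := exists_six a3 (by omega)
  obtain ⟨z, z1, rfl⟩ := exists_six a5 (by omega)
  have := (conj_of_card (x := y) (y := z) (by rw [y1, a1, b2, a2 _ ⟨y, n1 y1 (by norm_num), rfl⟩ y1]) (z1.trans y1.symm)).pow 3
  rw [dt_conj this] at a4
  omega

end Cfsg.Agent.S2217
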