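import Cfsg.Statements.S2221
import Cfsg.Agent.Lib.Core.Nilpotent
import Cfsg.Agent.Lib.PGrp.Basic

set_option autoImplicit false
open Cfsg

namespace Cfsg.Agent.S2221

open Equiv Equiv.Perm Finset Subgroup Cfsg.Lib

theorem exists_cent {G : Type*} [Group G] [Finite G] {K P : Subgroup G} (hK : IsPGroup 2 K)
    (hP : IsPGroup 2 P) (h : ∀ g ∈ P, ∀ k ∈ K, g * k * g⁻¹ ∈ K) (hne : K ≠ ⊥) :
    ∃ z ∈ K, orderOf z = 2 ∧ ∀ g ∈ P, g * z = z * g := by
  have h1 := Core.inf_centralizer_ne_bot_of_isPGroup hK hP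
    (fun g hg => mem_normalizer_fintype (h g hg)) hne
  obtain ⟨z, hz⟩ := exists_prime_orderOf_dvd_card' (G := ↥(K ⊓ centralizer (P : Set G))) 2
    ((hK.to_le inf_le_left).card_eq_or_dvd.resolve_left fun e => h1 (eq_bot_of_card_eq _ e))
  exact ⟨z, z.2.1, (orderOf_coe z).trans hz, mem_centralizer_iff.1 z.2.2⟩

def Dec {G : Type*} [Group G] (Q : Subgroup G) : Prop :=
  ∃ S₁ S₂ : Subgroup G, S₁ ≠ ⊥ ∧ S₂ ≠ ⊥ ∧ IsInternalDirectProduct S₁ S₂ Q

theorem dec_map {G H : Type*} [Group G] [Group H] {f : G →* H} (hf : Function.Injective f) {Q : Subgroup G} :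
    Dec (Q.map f) ↔ Dec Q := by
  have fw : ∀ {S₁ S₂ : Subgroup G}, (S₁.map f ≠ ⊥ ∧ S₂.map f ≠ ⊥ ∧
      IsInternalDirectProduct (S₁.map f) (S₂.map f) (Q.map f)) ↔
      (S₁ ≠ ⊥ ∧ S₂ ≠ ⊥ ∧ IsInternalDirectProduct S₁ S₂ Q) := fun {S₁ S₂} => by
    simp only [IsInternalDirectProduct, ne_eq, map_eq_bot_iff_of_injective _ hf,
      map_le_map_iff_of_injective hf, ← Subgroup.map_inf _ _ _ hf, ← Subgroup.map_sup,
      (map_injective hf).eq_iff, Subgroup.mem_map, forall_exists_index, and_imp,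
      forall_apply_eq_imp_iff₂, ← map_mul, hf.eq_iff]
  refine ⟨fun ⟨S₁, S₂, h⟩ => ⟨S₁.comap f, S₂.comap f, fw.1 ?_⟩, fun ⟨S₁, S₂, h⟩ => ⟨_, _, fw.2 h⟩⟩
  rwa [map_comap_eq_self (h.2.2.1.trans (map_le_range _ _)),
    map_comap_eq_self (h.2.2.2.1.trans (map_le_range _ _))]

theorem dec_four {G : Type*} [Group G] [Finite G] {Q : Subgroup G} (h4 : Nat.card Q = 4)
    (h : ∀ g ∈ Q, g ^ 2 = 1) : Dec Q := by
  have ex : ∀ S : Subgroup G, Nat.card S ≤ 2 → ∃ a ∈ Q, a ∉ S := fun S hS =>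
    SetLike.not_le_iff_exists.1 fun e => by have := card_le_of_le e; omega
  obtain ⟨a, ha, a1⟩ := ex ⊥ (by simp)
  have oa : Nat.card (zpowers a) = 2 := by rw [Nat.card_zpowers, orderOf_eq_prime (h a ha) a1]
  obtain ⟨b, hb, b1⟩ := ex _ oa.le
  have b2 : b ≠ 1 := fun e => b1 (e ▸ one_mem _)
  have ob : Nat.card (zpowers b) = 2 := by rw [Nat.card_zpowers, orderOf_eq_prime (h b hb) b2]
  have cm : ∀ x ∈ Q, ∀ y ∈ Q, x * y = y * x := fun x hx y hy => by
    have i : ∀ z ∈ Q, z⁻¹ = z := fun z hz => inv_eq_of_mul_eq_one_right (pow_two z ▸ h z hz)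
    rw [← i _ (mul_mem hx hy), mul_inv_rev, i x hx, i y hy]
  have la := zpowers_le.2 ha
  have lb := zpowers_le.2 hb
  refine ⟨zpowers a, zpowers b, by simpa using a1, by simpa using b2, la, lb,
    fun x hx y hy => cm x (la hx) y (lb hy), ?_, ?_⟩
  · have := card_dvd_of_le (inf_le_right : zpowers a ⊓ zpowers b ≤ _)
    rw [ob] at this
    refine eq_bot_of_card_eq _ (((Nat.dvd_prime Nat.prime_two).1 this).resolve_right fun e => b1 ?_)
    exact (mem_inf.1 ((eq_of_le_of_card_ge inf_le_right (ob.trans e.symm).le).ge (mem_zpowers b))).1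
  · refine eq_of_le_of_card_ge (sup_le la lb) ?_
    have h1 := card_dvd_of_le (sup_le la lb)
    have h2 : 2 < Nat.card ↥(zpowers a ⊔ zpowers b) := not_le.1 fun e =>
      b1 ((eq_of_le_of_card_ge le_sup_left (e.trans oa.ge)).ge (mem_sup_right (mem_zpowers b)))
    rw [h4] at h1 ⊢
    have := Nat.le_of_dvd (by decide) h1
    by_contra e
    rw [show Nat.card ↥(zpowers a ⊔ zpowers b) = 3 by omega] at h1
    omega

theorem conj_left {G : Type*} [Group G] {S₁ S₂ Q : Subgroup G} (h : IsInternalDirectProduct S₁ S₂ Q) :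
    ∀ g ∈ Q, ∀ k ∈ S₁, g * k * g⁻¹ ∈ S₁ := fun _ hg k hk =>
  (mem_normalizer_iff.1 ((h.2.2.2.2.ge.trans (sup_le le_normalizer ((show S₂ ≤ centralizer S₁ from
    fun b hb => mem_centralizer_iff.2 fun a ha => h.2.2.1 a ha b hb).trans (centralizer_le_normalizer _)))) hg) k).1 hk

theorem idp_symm {G : Type*} [Group G] {S₁ S₂ Q : Subgroup G} (h : IsInternalDirectProduct S₁ S₂ Q) :
    IsInternalDirectProduct S₂ S₁ Q :=
  ⟨h.2.1, h.1, fun a ha b hb => (h.2.2.1 b hb a ha).symm, inf_comm S₁ S₂ ▸ h.2.2.2.1,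
    sup_comm S₁ S₂ ▸ h.2.2.2.2⟩

section
set_option linter.unusedSectionVars false
open Classical
variable {α : Type*} [Fintype α] [DecidableEq α] (T : Sylow 2 (Perm α))

theorem le_of {W : Subgroup (Perm α)} (hW : IsPGroup 2 W) (h : (T : Subgroup (Perm α)) ≤ W) :
    W ≤ T := (T.is_maximal' hW h).le

theorem pgroup_of {W : Subgroup (Perm α)} (h : ∀ g ∈ W, ∃ k, g ^ 2 ^ k = 1) : IsPGroup 2 W :=
  fun g => (h g g.2).imp fun _ e => Subtype.ext e

theorem pow_of_mem {t : Perm α} (h : t ∈ T) : ∃ k, t ^ 2 ^ k = 1 :=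
  (T.isPGroup' ⟨t, h⟩).imp fun _ e => congrArg Subtype.val e

/-- invariant finsets -/
def Inv (U : Finset α) : Prop := ∀ t ∈ T, ∀ x ∈ U, t x ∈ U

/-- `s` is the restriction of `t` to `U` -/
def Res (U : Finset α) (t s : Perm α) : Prop := (∀ x ∈ U, s x = t x) ∧ ∀ x ∉ U, s x = x

noncomputable def orb (x : α) : Finset α := univ.filter fun y => ∃ t ∈ T, t x = y

variable {T}

theorem Inv.iff {U : Finset α} (h : Inv T U) {t : Perm α} (ht : t ∈ T) {x : α} : t x ∈ U ↔ x ∈ U :=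
  ⟨fun e => by simpa using h _ (inv_mem ht) _ e, h t ht x⟩

theorem Inv.compl {U : Finset α} (h : Inv T U) : Inv T Uᶜ := fun _ ht _ hx =>
  mem_compl.2 fun e => mem_compl.1 hx ((h.iff ht).1 e)

theorem mem_orb {x y : α} : y ∈ orb T x ↔ ∃ t ∈ T, t x = y := by simp [orb]

theorem self_mem_orb (x : α) : x ∈ orb T x := mem_orb.2 ⟨1, one_mem _, rfl⟩

theorem inv_orb (x : α) : Inv T (orb T x) := fun t ht _ hy => by
  obtain ⟨s, hs, rfl⟩ := mem_orb.1 hy
  exact mem_orb.2 ⟨t * s, mul_mem ht hs, rfl⟩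

theorem Inv.orb_subset {U : Finset α} (h : Inv T U) {x : α} (hx : x ∈ U) : orb T x ⊆ U := fun _ hy => by
  obtain ⟨s, hs, rfl⟩ := mem_orb.1 hy
  exact h s hs x hx

theorem orb_eq {x y : α} (h : y ∈ orb T x) : orb T y = orb T x := by
  refine Subset.antisymm ((inv_orb x).orb_subset h) ((inv_orb y).orb_subset ?_)
  obtain ⟨s, hs, rfl⟩ := mem_orb.1 h
  exact ((inv_orb _).iff hs).1 (self_mem_orb _)

theorem card_orb (x : α) : ∃ k, (orb T x).card = 2 ^ k := by
  obtain ⟨k, hk⟩ := T.isPGroup'.card_orbit x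
  refine ⟨k, hk ▸ ?_⟩
  rw [← Nat.card_eq_finsetCard]
  exact Nat.card_congr (Equiv.subtypeEquivRight fun y => mem_orb.trans
    ⟨fun ⟨t, h, e⟩ => ⟨⟨t, h⟩, e⟩, fun ⟨t, e⟩ => ⟨t, t.2, e⟩⟩)

theorem Res.unique {U : Finset α} {t s s' : Perm α} (h : Res U t s) (h' : Res U t s') : s = s' := by
  ext x
  by_cases hx : x ∈ U
  · rw [h.1 x hx, h'.1 x hx]
  · rw [h.2 x hx, h'.2 x hx]

theorem Inv.pow_eq {U : Finset α} (hU : Inv T U) {g a : Perm α} (ha : a ∈ T) (h : ∀ x ∈ U, g x = a x)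
    (k : ℕ) : ∀ x ∈ U, (g ^ k) x = (a ^ k) x := by
  induction k with
  | zero => exact fun _ _ => rfl
  | succ k ih => exact fun x hx => by rw [pow_succ', pow_succ', Perm.mul_apply, Perm.mul_apply, ih x hx,
      h _ (hU _ (pow_mem ha k) x hx)]

theorem Inv.exists_res {U : Finset α} (hU : Inv T U) {t : Perm α} (ht : t ∈ T) :
    ∃ s ∈ T, Res U t s := by
  have mul : ∀ {U : Finset α}, Inv T U → ∀ {g h : Perm α}, (∃ a ∈ T, ∀ x ∈ U, g x = a x) →
      (∃ a ∈ T, ∀ x ∈ U, h x = a x) → ∃ a ∈ T, ∀ x ∈ U, (g * h) x = a x :=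
    fun hU _ _ ⟨a, ha, e⟩ ⟨b, hb, f⟩ => ⟨a * b, mul_mem ha hb, fun x hx => by
      rw [Perm.mul_apply, f x hx, e _ (hU b hb x hx), Perm.mul_apply]⟩
  have inv : ∀ {U : Finset α}, Inv T U → ∀ {g : Perm α}, (∃ a ∈ T, ∀ x ∈ U, g x = a x) →
      ∃ a ∈ T, ∀ x ∈ U, g⁻¹ x = a x :=
    fun hU _ ⟨a, ha, e⟩ => ⟨a⁻¹, inv_mem ha, fun x hx => by
      rw [Perm.inv_eq_iff_eq, e _ (hU _ (inv_mem ha) x hx)]; simp⟩
  let W : Subgroup (Perm α) :=
    { carrier := {g | (∃ a ∈ T, ∀ x ∈ U, g x = a x) ∧ ∃ a ∈ T, ∀ x ∈ Uᶜ, g x = a x}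
      mul_mem' := fun h h' => ⟨mul hU h.1 h'.1, mul hU.compl h.2 h'.2⟩
      one_mem' := ⟨⟨1, one_mem _, fun _ _ => rfl⟩, ⟨1, one_mem _, fun _ _ => rfl⟩⟩
      inv_mem' := fun h => ⟨inv hU h.1, inv hU.compl h.2⟩ }
  have hW : W ≤ T := le_of T (pgroup_of fun g ⟨⟨a, ha, e⟩, b, hb, f⟩ => by
    obtain ⟨i, hi⟩ := pow_of_mem T ha
    obtain ⟨j, hj⟩ := pow_of_mem T hb
    refine ⟨i + j, Equiv.ext fun x => ?_⟩
    by_cases hx : x ∈ U
    · rw [hU.pow_eq ha e _ x hx, pow_add, pow_mul, hi, one_pow]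
    · rw [hU.compl.pow_eq hb f _ x (mem_compl.2 hx), add_comm, pow_add, pow_mul, hj, one_pow])
    fun g hg => ⟨⟨g, hg, fun _ _ => rfl⟩, g, hg, fun _ _ => rfl⟩
  have r : Res U t (ofSubtype (t.subtypePerm fun x => hU.iff ht (x := x))) :=
    ⟨fun x hx => ofSubtype_subtypePerm_of_mem _ hx, fun x hx => ofSubtype_subtypePerm_of_not_mem _ hx⟩
  exact ⟨_, hW ⟨⟨t, ht, r.1⟩, 1, one_mem _, fun x hx => r.2 x (mem_compl.1 hx)⟩, r⟩

theorem Res.mul {U : Finset α} (hU : Inv T U) {g h r s : Perm α} (hh : h ∈ T) (a : Res U g r)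
    (b : Res U h s) : Res U (g * h) (r * s) :=
  ⟨fun x hx => by rw [Perm.mul_apply, Perm.mul_apply, b.1 x hx, a.1 _ (hU h hh x hx)],
    fun x hx => by rw [Perm.mul_apply, b.2 x hx, a.2 x hx]⟩

theorem Res.mul_compl {U : Finset α} (hU : Inv T U) {g r s : Perm α} (hg : g ∈ T) (a : Res U g r)
    (b : Res Uᶜ g s) : g = r * s := by
  ext x
  by_cases hx : x ∈ U
  · rw [Perm.mul_apply, b.2 x (by simpa), a.1 x hx]
  · rw [Perm.mul_apply, b.1 x (mem_compl.2 hx), a.2 _ fun e => hx ((hU.iff hg).1 e)]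

theorem Res.commute {U : Finset α} (hU : Inv T U) {c r g : Perm α} (hg : g ∈ T) (a : Res U c r)
    (h : ∀ x ∈ U, c (g x) = g (c x)) : g * r = r * g := by
  ext x
  by_cases hx : x ∈ U
  · rw [Perm.mul_apply, Perm.mul_apply, a.1 x hx, a.1 _ (hU g hg x hx), h x hx]
  · rw [Perm.mul_apply, Perm.mul_apply, a.2 x hx, a.2 _ fun e => hx ((hU.iff hg).1 e)]

theorem inv_ind {Q : Finset α → Prop} (h0 : Q ∅)
    (h : ∀ U, Inv T U → ∀ x ∈ U, Q (U \ orb T x) → Q U) (U : Finset α) (hU : Inv T U) : Q U := by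
  induction U using Finset.strongInduction with
  | H U ih =>
    rcases U.eq_empty_or_nonempty with rfl | ⟨x, hx⟩
    · exact h0
    refine h U hU x hx (ih _ (sdiff_ssubset (hU.orb_subset hx) ⟨x, self_mem_orb x⟩) fun t ht y hy => ?_)
    exact mem_sdiff.2 ⟨hU t ht y (mem_sdiff.1 hy).1, fun e => (mem_sdiff.1 hy).2 (((inv_orb x).iff ht).1 e)⟩

theorem decomp {H : Subgroup (Perm α)} {t : Perm α} (ht : t ∈ T) {U : Finset α} (hU : Inv T U)
    (h : ∀ x ∈ U, ∀ s ∈ T, Res (orb T x) t s → s ∈ H) {s : Perm α} (hs : Res U t s) : s ∈ H := by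
  revert h s
  refine inv_ind (Q := fun U => (∀ x ∈ U, ∀ s ∈ T, Res (orb T x) t s → s ∈ H) → ∀ {s}, Res U t s → s ∈ H)
    (fun _ s hs => ?_) (fun U hU x hx ih h s hs => ?_) U hU
  · rw [show s = 1 from Equiv.ext fun x => hs.2 x (notMem_empty x)]; exact one_mem _
  · have hV : Inv T (U \ orb T x) := fun t ht y hy =>
      mem_sdiff.2 ⟨hU t ht y (mem_sdiff.1 hy).1, fun e => (mem_sdiff.1 hy).2 (((inv_orb x).iff ht).1 e)⟩
    obtain ⟨a, -, ha⟩ := hV.exists_res ht
    obtain ⟨b, hb', hb⟩ := (inv_orb x).exists_res ht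
    have : s = a * b := by
      ext y
      by_cases h1 : y ∈ orb T x
      · rw [Perm.mul_apply, hb.1 y h1, hs.1 y (hU.orb_subset hx h1),
          ha.2 _ fun e => (mem_sdiff.1 e).2 (inv_orb x t ht y h1)]
      rw [Perm.mul_apply, hb.2 y h1]
      by_cases h2 : y ∈ U
      · rw [hs.1 y h2, ha.1 y (mem_sdiff.2 ⟨h2, h1⟩)]
      · rw [hs.2 y h2, ha.2 y fun e => h2 (mem_sdiff.1 e).1]
    rw [this]
    exact mul_mem (ih (fun y hy => h y (mem_sdiff.1 hy).1) ha) (h x hx b hb' hb)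

theorem dvd_card {d : ℕ} {U : Finset α} (hU : Inv T U) (h : ∀ x ∈ U, d ∣ (orb T x).card) : d ∣ U.card := by
  revert h
  refine inv_ind (Q := fun U => (∀ x ∈ U, d ∣ (orb T x).card) → d ∣ U.card) (fun _ => by simp)
    (fun U hU x hx ih h => ?_) U hU
  · rw [← card_sdiff_add_card_eq_card (hU.orb_subset hx)]
    exact dvd_add (ih fun y hy => h y (mem_sdiff.1 hy).1) (h x hx)

theorem fix_of_comm {c : Perm α} {x y : α} {g : Perm α} (h : g * c = c * g) (hx : c x = x) (e : g x = y) :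
    c y = y := by
  rw [← e, ← Perm.mul_apply, ← h, Perm.mul_apply, hx]

theorem exists_swap {x : α} {t : Perm α} (ht : t ∈ T) (hx : t x ≠ x) : ∃ y ≠ x, swap x y ∈ T := by
  let K : Subgroup (Perm α) :=
    { carrier := {g | g ∈ T ∧ ∀ u ∉ orb T x, g u = u}
      mul_mem' := fun h h' => ⟨mul_mem h.1 h'.1, fun u hu => by rw [Perm.mul_apply, h'.2 u hu, h.2 u hu]⟩
      one_mem' := ⟨one_mem _, fun _ _ => rfl⟩
      inv_mem' := fun h => ⟨inv_mem h.1, fun u hu => Perm.inv_eq_iff_eq.2 (h.2 u hu).symm⟩ }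
  have hK : K ≠ ⊥ := fun e => by
    obtain ⟨s, hs, r⟩ := (inv_orb x).exists_res ht
    have : s ∈ K := ⟨hs, r.2⟩
    rw [e, mem_bot] at this
    exact hx (by rw [← r.1 x (self_mem_orb x), this]; rfl)
  have hp : IsPGroup 2 K := T.isPGroup'.to_le fun _ h => h.1
  obtain ⟨z, hz, ho, hc'⟩ := exists_cent hp T.isPGroup' (fun g hg k hk => by
      refine ⟨mul_mem (mul_mem hg hk.1) (inv_mem hg), fun u hu => ?_⟩
      rw [Perm.mul_apply, Perm.mul_apply, hk.2 _ fun e => hu (((inv_orb x).iff (inv_mem hg)).1 e)]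
      simp) hK
  have hz2 : ∀ u, z (z u) = u := fun u => by
    rw [← Perm.mul_apply, ← pow_two, ← ho, pow_orderOf_eq_one]; rfl
  have hzx : z x ≠ x := fun e => by
    have : z = 1 := Equiv.ext fun u => by
      by_cases hu : u ∈ orb T x
      · obtain ⟨g, hg, f⟩ := mem_orb.1 hu
        exact fix_of_comm (hc' g hg) e f
      · exact hz.2 u hu
    simp [this] at ho
  have cm : ∀ {g : Perm α}, g * z = z * g → ∀ u, g (z u) = z (g u) := fun h u => by
    rw [← Perm.mul_apply, h, Perm.mul_apply]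
  let W : Subgroup (Perm α) :=
    { carrier := {g | g * z = z * g ∧ ∃ a ∈ T, ∀ u, g u = a u ∨ g u = z (a u)}
      mul_mem' := fun {g h} ⟨h1, a, ha, e⟩ ⟨h2, b, hb, f⟩ => ⟨by rw [mul_assoc, h2, ← mul_assoc, h1, mul_assoc],
        a * b, mul_mem ha hb, fun u => by
          simp only [Perm.mul_apply]
          rcases f u with f | f <;> rcases e (b u) with e | e <;> simp [f, cm h1, e, hz2]⟩
      one_mem' := ⟨by simp, 1, one_mem _, fun _ => Or.inl rfl⟩
      inv_mem' := fun {g} ⟨h1, a, ha, e⟩ => ⟨(Commute.inv_left h1).eq, a⁻¹, inv_mem ha, fun u => by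
        simp only [Perm.inv_eq_iff_eq]
        rcases e (a⁻¹ u) with e | e
        · exact Or.inl (by simpa using e.symm)
        · exact Or.inr (by rw [cm h1, e, hz2]; simp)⟩ }
  have hW : W ≤ T := le_of T (pgroup_of fun g ⟨h1, a, ha, e⟩ => by
    obtain ⟨i, hi⟩ := pow_of_mem T ha
    have key : ∀ k u, (g ^ k) u = (a ^ k) u ∨ (g ^ k) u = z ((a ^ k) u) := fun k => by
      induction k with
      | zero => exact fun _ => Or.inl rfl
      | succ k ih =>
        intro u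
        simp only [pow_succ', Perm.mul_apply]
        rcases ih u with f | f <;> rcases e ((a ^ k) u) with e | e <;> simp [f, cm h1, e, hz2]
    refine ⟨i + 1, Equiv.ext fun u => ?_⟩
    have c := cm (Commute.pow_left h1 (2 ^ i)).eq
    rw [pow_succ, pow_mul, pow_two, Perm.mul_apply]
    have := key (2 ^ i) u
    rw [hi, Perm.one_apply] at this
    rcases this with f | f
    · rw [f, f]; rfl
    · rw [f, c, f]; exact hz2 u)
    fun g hg => ⟨hc' g hg, g, hg, fun _ => Or.inl rfl⟩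
  refine ⟨z x, hzx, hW ⟨?_, 1, one_mem _, fun u => ?_⟩⟩
  · rw [mul_swap_eq_swap_mul, hz2, swap_comm]
  · rw [swap_apply_def]
    split_ifs with a b
    · exact Or.inr (a ▸ rfl)
    · exact Or.inr (by rw [b]; exact (hz2 x).symm)
    · exact Or.inl rfl

theorem swap_unique {x y y' : α} (hy : y ≠ x) (hy' : y' ≠ x) (h : swap x y ∈ T) (h' : swap x y' ∈ T) :
    y = y' := by
  by_contra e
  obtain ⟨k, hk⟩ := pow_of_mem T (mul_mem h h')
  have := orderOf_dvd_of_pow_eq_one hk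
  rw [(isThreeCycle_swap_mul_swap_same hy.symm hy'.symm e).orderOf] at this
  exact absurd (Nat.prime_three.dvd_of_dvd_pow this) (by decide)

variable (T) in
/-- the partner of a point -/
noncomputable def pr (x : α) : α := if h : ∃ y ≠ x, swap x y ∈ T then h.choose else x

theorem swap_pr (x : α) : swap x (pr T x) ∈ T := by
  unfold pr; split_ifs with h
  · exact h.choose_spec.2
  · rw [swap_self]; exact one_mem _

theorem pr_eq {x y : α} (hy : y ≠ x) (h : swap x y ∈ T) : pr T x = y := by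
  have e : ∃ y ≠ x, swap x y ∈ T := ⟨y, hy, h⟩
  rw [pr, dif_pos e]
  exact swap_unique e.choose_spec.1 hy e.choose_spec.2 h

theorem fix_of_pr {x : α} (h : pr T x = x) {t : Perm α} (ht : t ∈ T) : t x = x := by
  by_contra e
  obtain ⟨y, hy, h'⟩ := exists_swap ht e
  exact hy ((pr_eq hy h').symm.trans h)

theorem pr_mem (x : α) : pr T x ∈ orb T x := mem_orb.2 ⟨_, swap_pr x, swap_apply_left _ _⟩

theorem pr_pr (x : α) : pr T (pr T x) = x := by
  by_cases h : pr T x = x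
  · rw [h, h]
  · exact pr_eq (Ne.symm h) (swap_comm x _ ▸ swap_pr x)

theorem map_pr {t : Perm α} (ht : t ∈ T) (x : α) : t (pr T x) = pr T (t x) := by
  by_cases h : pr T x = x
  · rw [h, fix_of_pr h ht, h]
  · refine (pr_eq (t.injective.ne h) ?_).symm
    rw [swap_apply_apply]
    exact mul_mem (mul_mem ht (swap_pr x)) (inv_mem ht)

theorem mem_of_norm {σ : Perm α} (h2 : σ ^ 2 = 1) (h : ∀ t ∈ T, σ * t * σ⁻¹ ∈ T) : σ ∈ T := by
  refine le_of T (T.isPGroup'.to_sup_of_normal_left' (K := zpowers σ) ?_ (zpowers_le.2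
    (mem_normalizer_fintype h))) le_sup_left (mem_sup_right (mem_zpowers σ))
  refine pgroup_of fun g ⟨k, hk⟩ => ⟨1, ?_⟩
  rw [← hk, pow_one, ← zpow_natCast, ← zpow_mul, mul_comm, zpow_mul, zpow_natCast, h2, one_zpow]

theorem fix_unique {x y : α} (hx : pr T x = x) (hy : pr T y = y) : x = y := by
  by_contra e
  refine e (hx.symm.trans (pr_eq (Ne.symm e) (mem_of_norm (by simp [pow_two]) fun t ht => ?_)))
  rw [← fix_of_pr hx ht, ← fix_of_pr hy ht, ← mul_swap_eq_swap_mul, fix_of_pr hx ht, fix_of_pr hy ht,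
    mul_inv_cancel_right]
  exact ht

variable (T) in
/-- points in orbits of length at least four -/
def Big (x : α) : Prop := 2 < (orb T x).card

theorem Big.four {x : α} (h : Big T x) : 4 ∣ (orb T x).card := by
  obtain ⟨k, hk⟩ := card_orb (T := T) x
  unfold Big at h
  rw [hk] at h ⊢
  rcases k with _ | _ | k
  · omega
  · omega
  · exact ⟨2 ^ k, by ring⟩

theorem Big.of_mem {x y : α} (h : Big T x) (hy : y ∈ orb T x) : Big T y := by
  unfold Big; rwa [orb_eq hy]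

theorem Big.exists {x : α} (h : Big T x) (a b : α) : ∃ v ∈ orb T x, v ≠ a ∧ v ≠ b := by
  obtain ⟨v, hv, e⟩ := exists_mem_notMem_of_card_lt_card (s := {a, b}) (card_le_two.trans_lt h)
  exact ⟨v, hv, by simpa using e⟩

theorem Big.ne {x : α} (h : Big T x) : pr T x ≠ x := fun e => by
  obtain ⟨v, hv, a, -⟩ := h.exists x x
  obtain ⟨t, ht, rfl⟩ := mem_orb.1 hv
  exact a (fix_of_pr e ht)

theorem small {x : α} (h : ¬ Big T x) {t : Perm α} (ht : t ∈ T) : t x = x ∨ t x = pr T x := by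
  by_cases e : pr T x = x
  · exact Or.inl (fix_of_pr e ht)
  have : ({x, pr T x} : Finset α) = orb T x := eq_of_subset_of_card_le
    (insert_subset (self_mem_orb x) (singleton_subset_iff.2 (pr_mem x)))
    (by rw [card_pair (Ne.symm e)]; exact not_lt.1 h)
  simpa [← this] using (mem_orb.2 ⟨t, ht, rfl⟩ : t x ∈ orb T x)

theorem pr_inj {x y : α} (h : pr T x = pr T y) : x = y := by rw [← pr_pr (T := T) x, h, pr_pr]

theorem swap_fix {x v : α} (a : v ≠ x) (b : v ≠ pr T x) :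
    swap x (pr T x) v = v ∧ swap x (pr T x) (pr T v) = pr T v :=
  ⟨swap_apply_of_ne_of_ne a b, swap_apply_of_ne_of_ne (fun e => b (by rw [← e, pr_pr])) fun e => a (pr_inj e)⟩

theorem small_unique {x y : α} (hx : ¬ Big T x) (hy : ¬ Big T y) (hx' : pr T x ≠ x) (hy' : pr T y ≠ y) :
    y = x ∨ y = pr T x := by
  by_contra e
  obtain ⟨a, b⟩ := not_or.1 e
  have c : pr T y ≠ x := fun e => b (by rw [← e, pr_pr])
  have d : pr T y ≠ pr T x := fun e => a (pr_inj e)
  obtain ⟨σ, hσ⟩ : ∃ σ, σ = swap x y * swap (pr T x) (pr T y) := ⟨_, rfl⟩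
  have s1 : σ x = y := by rw [hσ, Perm.mul_apply, swap_apply_of_ne_of_ne hx'.symm c.symm, swap_apply_left]
  have s2 : σ y = x := by rw [hσ, Perm.mul_apply, swap_apply_of_ne_of_ne b hy'.symm, swap_apply_right]
  have s3 : σ (pr T x) = pr T y := by rw [hσ, Perm.mul_apply, swap_apply_left, swap_apply_of_ne_of_ne c hy']
  have s4 : σ (pr T y) = pr T x := by
    rw [hσ, Perm.mul_apply, swap_apply_right, swap_apply_of_ne_of_ne hx' (Ne.symm b)]
  have h0 : ∀ t ∈ T, t x = x → t y = y → σ * t * σ⁻¹ ∈ T := fun t ht e f => by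
    have : t * σ = σ * t := by
      rw [hσ, ← mul_assoc, mul_swap_eq_swap_mul t x y, e, f, mul_assoc, mul_swap_eq_swap_mul t, map_pr ht,
        map_pr ht, e, f, mul_assoc]
    rwa [← this, mul_inv_cancel_right]
  have h1 : ∀ t ∈ T, t x = x → σ * t * σ⁻¹ ∈ T := fun t ht e => by
    rcases small hy ht with f | f
    · exact h0 t ht e f
    have := mul_mem (show σ * swap y (pr T y) * σ⁻¹ ∈ T by rw [← swap_apply_apply, s2, s4]; exact swap_pr x)
      (h0 _ (mul_mem (swap_pr y) ht) (by rw [Perm.mul_apply, e, swap_apply_of_ne_of_ne (Ne.symm a) c.symm])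
        (by rw [Perm.mul_apply, f, swap_apply_right]))
    simpa [mul_assoc] using this
  have hm : σ ∈ T := mem_of_norm (by
      rw [hσ, pow_two, mul_assoc, ← mul_assoc (swap (pr T x) _), mul_swap_eq_swap_mul (swap (pr T x) _),
        swap_apply_of_ne_of_ne hx'.symm c.symm, swap_apply_of_ne_of_ne b hy'.symm]
      simp [mul_assoc]) fun t ht => by
    rcases small hx ht with e | e
    · exact h1 t ht e
    have := mul_mem (show σ * swap x (pr T x) * σ⁻¹ ∈ T by rw [← swap_apply_apply, s1, s3]; exact swap_pr y)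
      (h1 _ (mul_mem (swap_pr x) ht) (by rw [Perm.mul_apply, e, swap_apply_right]))
    simpa [mul_assoc] using this
  exact e (s1 ▸ small hx hm)

theorem inv_big : Inv T (univ.filter (Big T)) := fun t ht _ hx =>
  mem_filter.2 ⟨mem_univ _, (mem_filter.1 hx).2.of_mem (mem_orb.2 ⟨t, ht, rfl⟩)⟩

theorem card_fix : (univ.filter fun x => pr T x = x).card ≤ 1 :=
  card_le_one.2 fun _ a _ b => fix_unique (mem_filter.1 a).2 (mem_filter.1 b).2

theorem count : (univ.filter (Big T)).card = 4 * (Fintype.card α / 4) ∧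
    ((∃ d, ¬ Big T d ∧ pr T d ≠ d) ↔ 2 ≤ Fintype.card α % 4) := by
  have h1 : 4 ∣ (univ.filter (Big T)).card := dvd_card inv_big fun x hx => (mem_filter.1 hx).2.four
  have h2 := card_filter_add_card_filter_not (s := (univ : Finset α)) (Big T)
  rw [card_univ] at h2
  have h3 := card_fix (T := T)
  by_cases h : ∃ d, ¬ Big T d ∧ pr T d ≠ d
  · obtain ⟨d, hd, hd'⟩ := id h
    have a : (univ.filter fun x => ¬ Big T x) ⊆ {d, pr T d} ∪ univ.filter fun x => pr T x = x := fun y hy => by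
      by_cases e : pr T y = y
      · simp [e]
      · rcases small_unique hd (mem_filter.1 hy).2 hd' e with f | f <;> simp [f]
    have b := (card_le_card a).trans (card_union_le _ _)
    have c : ({d, pr T d} : Finset α) ⊆ univ.filter fun x => ¬ Big T x := by
      refine insert_subset (by simpa) (singleton_subset_iff.2 (mem_filter.2 ⟨mem_univ _, fun e => hd ?_⟩))
      exact e.of_mem (by simpa [pr_pr] using pr_mem (T := T) (pr T d))
    have c' := card_le_card c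
    rw [card_pair hd'.symm] at b c'
    exact ⟨by omega, iff_of_true h (by omega)⟩
  · have a : (univ.filter fun x => ¬ Big T x) ⊆ univ.filter fun x => pr T x = x := fun y hy =>
      mem_filter.2 ⟨mem_univ _, by_contra fun e => h ⟨y, (mem_filter.1 hy).2, e⟩⟩
    have := card_le_card a
    exact ⟨by omega, iff_of_false h (by omega)⟩

variable (T) in
/-- the Sylow subgroup of the alternating group -/
abbrev PP : Subgroup (Perm α) := T ⊓ alternatingGroup α

theorem pPP : IsPGroup 2 (PP T) := T.isPGroup'.to_le inf_le_left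

theorem sw2 {x y : α} (hx : pr T x ≠ x) (hy : pr T y ≠ y) : swap x (pr T x) * swap y (pr T y) ∈ PP T :=
  ⟨mul_mem (swap_pr x) (swap_pr y), by
    change sign _ = 1
    rw [map_mul, sign_swap hx.symm, sign_swap hy.symm]; rfl⟩

theorem cent_pr (hn : 6 ≤ Fintype.card α) {c : Perm α} (hc : c ∈ T) (h : ∀ g ∈ PP T, g * c = c * g) (x : α) :
    c x = x ∨ c x = pr T x := by
  by_cases hx : pr T x = x
  · exact Or.inl (fix_of_pr hx hc)
  have ex : ∀ s : Finset α, s.card ≤ 4 → ∃ y ∉ s, pr T y ≠ y := fun s hs => by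
    obtain ⟨y, -, hy⟩ := exists_mem_notMem_of_card_lt_card (s := s ∪ univ.filter fun x => pr T x = x)
      (t := univ) (by have := card_union_le s (univ.filter fun x => pr T x = x)
                      have := card_fix (T := T); rw [card_univ]; omega)
    exact ⟨y, by simpa using hy⟩
  have key : ∀ y, y ∉ ({x, pr T x} : Finset α) → pr T y ≠ y → c x ≠ x → c x ≠ pr T x → c x = y ∨ c x = pr T y := by
    intro y hy hy' a b
    by_contra e
    obtain ⟨e, f⟩ := not_or.1 e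
    simp only [mem_insert, mem_singleton, not_or] at hy
    have := congrArg (· x) (h _ (sw2 hx hy'))
    simp only [Perm.mul_apply] at this
    rw [swap_apply_of_ne_of_ne e f, swap_apply_of_ne_of_ne a b, swap_apply_of_ne_of_ne (Ne.symm hy.1)
      (fun e => hy.2 (by rw [e, pr_pr])), swap_apply_left] at this
    exact hx (c.injective this).symm
  by_contra e
  obtain ⟨a, b⟩ := not_or.1 e
  obtain ⟨y, hy, hy'⟩ := ex {x, pr T x} (card_le_two.trans (by decide))
  obtain ⟨w, hw, hw'⟩ := ex {y, pr T y, x, pr T x} card_le_four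
  simp only [mem_insert, mem_singleton, not_or] at hw
  rcases key y hy hy' a b with e | e <;> rcases key w (by simp [hw]) hw' a b with f | f
  · exact hw.1 (f.symm.trans e)
  · exact hw.2.1 (by rw [← e, f, pr_pr])
  · exact hw.2.1 (f.symm.trans e)
  · exact hw.1 (pr_inj (f.symm.trans e))

variable (T) in
/-- even elements supported on an orbit -/
def EE (x : α) : Subgroup (Perm α) where
  carrier := {g | g ∈ PP T ∧ ∀ u ∉ orb T x, g u = u}
  mul_mem' := fun h h' => ⟨mul_mem h.1 h'.1, fun u hu => by rw [Perm.mul_apply, h'.2 u hu, h.2 u hu]⟩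
  one_mem' := ⟨one_mem _, fun _ _ => rfl⟩
  inv_mem' := fun h => ⟨inv_mem h.1, fun u hu => Perm.inv_eq_iff_eq.2 (h.2 u hu).symm⟩

theorem EE_eq {x y : α} (h : y ∈ orb T x) : EE T y = EE T x := by
  ext g; change _ ∧ _ ↔ _ ∧ _; rw [orb_eq h]

theorem conj_EE {x : α} {g k : Perm α} (hg : g ∈ PP T) (hk : k ∈ EE T x) : g * k * g⁻¹ ∈ EE T x := by
  refine ⟨mul_mem (mul_mem hg hk.1) (inv_mem hg), fun u hu => ?_⟩
  rw [Perm.mul_apply, Perm.mul_apply, hk.2 _ fun e => hu (((inv_orb x).iff (inv_mem hg.1)).1 e)]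
  simp

theorem swap_mul_mem {x v : α} (hx : Big T x) (hv : v ∈ orb T x) {s : Perm α} (hs : s ∈ T)
    (h : ∀ u ∉ orb T x, s u = u) (e : sign s ≠ 1) : swap v (pr T v) * s ∈ EE T x := by
  refine ⟨⟨mul_mem (swap_pr v) hs, ?_⟩, fun u hu => ?_⟩
  · change sign _ = 1
    rw [map_mul, sign_swap (hx.of_mem hv).ne.symm, (Int.units_eq_one_or _).resolve_left e]; rfl
  · rw [Perm.mul_apply, h u hu]
    exact swap_apply_of_ne_of_ne (fun e => hu (e ▸ hv)) fun e => hu (e ▸ orb_eq hv ▸ pr_mem v)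

theorem EE_trans {x y : α} (hx : Big T x) (hy : y ∈ orb T x) : ∃ e ∈ EE T x, e x = y := by
  obtain ⟨t, ht, rfl⟩ := mem_orb.1 hy
  obtain ⟨s, hs, r⟩ := (inv_orb x).exists_res ht
  by_cases e : sign s = 1
  · exact ⟨s, ⟨⟨hs, e⟩, r.2⟩, r.1 x (self_mem_orb x)⟩
  obtain ⟨v, hv, a, b⟩ := hx.exists (t x) (pr T (t x))
  refine ⟨_, swap_mul_mem hx hv hs r.2 e, ?_⟩
  rw [Perm.mul_apply, r.1 x (self_mem_orb x)]
  exact swap_apply_of_ne_of_ne a.symm fun e => b (by rw [e, pr_pr])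

theorem fix_orb {x : α} (hx : Big T x) {c : Perm α} (h : ∀ g ∈ EE T x, g * c = c * g) {u v : α}
    (hu : u ∈ orb T x) (hv : v ∈ orb T x) (e : c u = u) : c v = v := by
  obtain ⟨g, hg, f⟩ := EE_trans (hx.of_mem hu) (orb_eq hu ▸ hv)
  exact fix_of_comm (h g (EE_eq hu ▸ hg)) e f

theorem cent_apply (hn : 6 ≤ Fintype.card α) {x : α} (hx : Big T x) {c : Perm α} (hc : c ∈ EE T x)
    (h1 : c ≠ 1) (h : ∀ g ∈ PP T, g * c = c * g) {u : α} (hu : u ∈ orb T x) : c u = pr T u := by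
  refine (cent_pr hn hc.1.1 h u).resolve_left fun e => h1 (Equiv.ext fun v => ?_)
  by_cases hv : v ∈ orb T x
  · exact fix_orb hx (fun g hg => h g hg.1) hu hv e
  · exact hc.2 v hv

theorem cent_unique (hn : 6 ≤ Fintype.card α) {x : α} (hx : Big T x) {c c' : Perm α} (hc : c ∈ EE T x)
    (h1 : c ≠ 1) (h : ∀ g ∈ PP T, g * c = c * g) (hc' : c' ∈ EE T x)
    (h1' : c' ≠ 1) (h' : ∀ g ∈ PP T, g * c' = c' * g) : c = c' := by
  ext v
  by_cases hv : v ∈ orb T x
  · rw [cent_apply hn hx hc h1 h hv, cent_apply hn hx hc' h1' h' hv]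
  · rw [hc.2 v hv, hc'.2 v hv]

theorem res_even {x : α} (hx : Big T x) {s r : Perm α} (hr : r ∈ T) (h : ∀ g ∈ EE T x, g * s = s * g)
    (a : Res (orb T x) s r) : sign r = 1 := by
  by_contra e
  have h1 : ∀ g ∈ EE T x, g * r = r * g := fun g hg => a.commute (inv_orb x) hg.1.1 fun u _ => by
    rw [← Perm.mul_apply, ← h g hg, Perm.mul_apply]
  have h2 : ∀ u ∈ orb T x, r u ≠ u := fun u hu f => e (by
    rw [show r = 1 from Equiv.ext fun v => ?_, map_one]
    by_cases hv : v ∈ orb T x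
    · exact fix_orb hx h1 hu hv f
    · exact a.2 v hv)
  have h3 : ∀ u ∈ orb T x, r u = pr T u := fun u hu => by
    have := h1 _ (swap_mul_mem hx hu hr a.2 e)
    rw [← mul_assoc, mul_left_inj] at this
    have := congrArg (· u) this
    simp only [Perm.mul_apply, swap_apply_left] at this
    by_contra f
    rw [swap_apply_of_ne_of_ne (h2 u hu) f] at this
    exact (hx.of_mem hu).ne (r.injective this).symm
  have h4 : r ^ 2 = 1 := Equiv.ext fun u => by
    rw [pow_two, Perm.mul_apply]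
    by_cases hu : u ∈ orb T x
    · rw [h3 u hu, map_pr hr, h3 u hu, pr_pr]; rfl
    · rw [a.2 u hu, a.2 u hu]; rfl
  have h5 : Fintype.card (Function.fixedPoints r) = (orb T x)ᶜ.card := by
    rw [← Fintype.card_coe]
    exact Fintype.card_congr (Equiv.subtypeEquivRight fun u =>
      ⟨fun f => mem_compl.2 fun hu => h2 u hu f, fun f => a.2 u (mem_compl.1 f)⟩)
  obtain ⟨k, hk⟩ := hx.four
  apply e
  rw [sign_of_pow_two_eq_one h4, h5, card_compl, Nat.sub_sub_self (card_le_univ _), hk]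
  exact Even.neg_one_pow ⟨k, by omega⟩

section
variable {S₁ S₂ : Subgroup (Perm α)}

theorem cent_of (h : IsInternalDirectProduct S₁ S₂ (PP T)) (h1 : S₁ ≠ ⊥) :
    ∃ c ∈ S₁, c ≠ 1 ∧ ∀ g ∈ PP T, g * c = c * g := by
  obtain ⟨c, a, b, d⟩ := exists_cent (pPP.to_le h.1) pPP (conj_left h) h1
  exact ⟨c, a, fun e => by simp [e] at b, d⟩

theorem cent_EE (h : IsInternalDirectProduct S₁ S₂ (PP T)) {x : α} (h1 : EE T x ⊓ S₁ ≠ ⊥) :
    ∃ c ∈ EE T x ⊓ S₁, c ≠ 1 ∧ ∀ g ∈ PP T, g * c = c * g := by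
  obtain ⟨c, a, b, d⟩ := exists_cent (pPP.to_le (inf_le_right.trans h.1)) pPP
    (fun g hg k hk => ⟨conj_EE hg hk.1, conj_left h g hg k hk.2⟩) h1
  exact ⟨c, a, fun e => by simp [e] at b, d⟩

theorem comm_of_bot (h : IsInternalDirectProduct S₁ S₂ (PP T)) {x : α} (h1 : EE T x ⊓ S₁ = ⊥)
    {s : Perm α} (hs : s ∈ S₁) : ∀ g ∈ EE T x, g * s = s * g := fun g hg => by
  have : g * s * g⁻¹ * s⁻¹ ∈ EE T x ⊓ S₁ :=
    ⟨by simpa [mul_assoc] using mul_mem hg (conj_EE (h.1 hs) (inv_mem hg)),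
      S₁.mul_mem (conj_left h g hg.1 s hs) (S₁.inv_mem hs)⟩
  rwa [h1, mem_bot, mul_inv_eq_one, mul_inv_eq_iff_eq_mul] at this

theorem bot_or (hn : 6 ≤ Fintype.card α) (h : IsInternalDirectProduct S₁ S₂ (PP T)) {x : α} (hx : Big T x) :
    EE T x ⊓ S₁ = ⊥ ∨ EE T x ⊓ S₂ = ⊥ := by
  by_contra e
  obtain ⟨c, a, b, d⟩ := cent_EE h (not_or.1 e).1
  obtain ⟨c', a', b', d'⟩ := cent_EE (idp_symm h) (not_or.1 e).2
  exact b (mem_bot.1 (h.2.2.2.1 ▸ mem_inf.2 ⟨a.2, cent_unique hn hx a.1 b d a'.1 b' d' ▸ a'.2⟩))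

theorem not_both (hn : 6 ≤ Fintype.card α) (h : IsInternalDirectProduct S₁ S₂ (PP T)) {x : α} (hx : Big T x)
    (h1 : EE T x ⊓ S₁ = ⊥) : EE T x ⊓ S₂ ≠ ⊥ := fun h2 => by
  obtain ⟨v, hv, a, b⟩ := hx.exists x (pr T x)
  obtain ⟨e, he, rfl⟩ := EE_trans hx hv
  have : PP T ≤ centralizer {e} := h.2.2.2.2.ge.trans (sup_le
    (fun s hs => mem_centralizer_singleton_iff.2 (comm_of_bot h h1 hs e he).symm)
    fun s hs => mem_centralizer_singleton_iff.2 (comm_of_bot (idp_symm h) h2 hs e he).symm)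
  exact (cent_pr hn he.1.1 (fun g hg => mem_centralizer_singleton_iff.1 (this hg)) x).elim a b

theorem res_one {x : α} (hx : pr T x = x) {r t : Perm α} (hr : r ∈ T) (a : Res (orb T x) t r) : r = 1 := by
  ext u
  by_cases hu : u ∈ orb T x
  · obtain ⟨s, hs, rfl⟩ := mem_orb.1 hu
    rw [fix_of_pr hx hs]; exact fix_of_pr hx hr
  · exact a.2 u hu

theorem not_all (hn : 6 ≤ Fintype.card α) (hD : ∀ x, ¬ Big T x → pr T x = x)
    (h : IsInternalDirectProduct S₁ S₂ (PP T)) (h1 : S₁ ≠ ⊥) : ∃ x, Big T x ∧ EE T x ⊓ S₁ ≠ ⊥ := by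
  by_contra! e
  obtain ⟨c, a, b, d⟩ := cent_of h h1
  have hc := h.1 a
  have : c ∈ S₂ := decomp hc.1 (U := univ) (fun _ _ _ _ => mem_univ _) (fun x _ r hr f => by
    by_cases hx : Big T x
    · by_cases r1 : r = 1
      · exact r1 ▸ one_mem _
      obtain ⟨c', a', b', d'⟩ := cent_EE (idp_symm h) (not_both hn h hx (e x hx))
      rw [cent_unique hn hx ⟨⟨hr, res_even hx hr (fun g hg => d g hg.1) f⟩, f.2⟩ r1 (fun g hg =>
        f.commute (inv_orb x) hg.1 fun u _ => by rw [← Perm.mul_apply, ← d g hg, Perm.mul_apply]) a'.1 b' d']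
      exact a'.2
    · exact res_one (hD x hx) hr f ▸ one_mem _) ⟨fun _ _ => rfl, fun x hx => absurd (mem_univ x) hx⟩
  exact b (mem_bot.1 (h.2.2.2.1 ▸ mem_inf.2 ⟨a, this⟩))

end

theorem caseB (hn : 6 ≤ Fintype.card α) (hD : ∀ x, ¬ Big T x → pr T x = x) : ¬ Dec (PP T) := by
  rintro ⟨S₁, S₂, h1, h2, h⟩
  obtain ⟨x, hx, hx'⟩ := not_all hn hD h h1
  obtain ⟨y, hy, hy'⟩ := not_all hn hD (idp_symm h) h2
  let U : Finset α := univ.filter fun u => EE T u ⊓ S₂ = ⊥
  have hU : Inv T U := fun t ht u hu => mem_filter.2 ⟨mem_univ _, by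
    rw [EE_eq (mem_orb.2 ⟨t, ht, rfl⟩)]; exact (mem_filter.1 hu).2⟩
  let Q : Subgroup (Perm α) :=
    { carrier := {g | g ∈ T ∧ ∀ r, Res U g r → sign r = 1}
      mul_mem' := fun {g h} a b => ⟨mul_mem a.1 b.1, fun r hr => by
        obtain ⟨r1, -, e⟩ := hU.exists_res a.1
        obtain ⟨r2, -, f⟩ := hU.exists_res b.1
        rw [hr.unique (Res.mul hU b.1 e f), map_mul, a.2 _ e, b.2 _ f, one_mul]⟩
      one_mem' := ⟨one_mem _, fun r hr => by rw [hr.unique ⟨fun _ _ => rfl, fun _ _ => rfl⟩, map_one]⟩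
      inv_mem' := fun {g} a => ⟨inv_mem a.1, fun r hr => by
        obtain ⟨r1, -, e⟩ := hU.exists_res a.1
        have := (Res.mul hU a.1 hr e).unique (s' := 1) ⟨fun _ _ => by simp, fun _ _ => rfl⟩
        simpa [a.2 _ e] using congrArg sign this⟩ }
  have ev : ∀ {S S' : Subgroup (Perm α)}, IsInternalDirectProduct S S' (PP T) → ∀ V, Inv T V →
      (∀ u ∈ V, Big T u → EE T u ⊓ S = ⊥) → ∀ s ∈ S, ∀ r, Res V s r → sign r = 1 :=
    fun h V hV e s hs r hr => decomp (H := alternatingGroup α) (h.1 hs).1 hV (fun u hu r hr f => by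
      by_cases b : Big T u
      · exact res_even b hr (comm_of_bot h (e u hu b) hs) f
      · exact res_one (hD u b) hr f ▸ one_mem _) hr
  have hQ : PP T ≤ Q := h.2.2.2.2.ge.trans (sup_le (fun s hs => ⟨(h.1 hs).1, fun r hr => by
      obtain ⟨r', -, e⟩ := hU.compl.exists_res (h.1 hs).1
      have := congrArg sign (hr.mul_compl hU (h.1 hs).1 e)
      rw [map_mul, ev h _ hU.compl (fun u hu b => (bot_or hn h b).resolve_right fun f =>
        mem_compl.1 hu (mem_filter.2 ⟨mem_univ _, f⟩)) s hs r' e, mul_one] at this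
      exact this.symm.trans (h.1 hs).2⟩)
    fun s hs => ⟨(h.2.1 hs).1, ev (idp_symm h) U hU (fun u hu _ => (mem_filter.1 hu).2) s hs⟩)
  have xU : x ∈ U := mem_filter.2 ⟨mem_univ _, (bot_or hn h hx).resolve_left hx'⟩
  have yU : y ∉ U := fun e => hy' (mem_filter.1 e).2
  have := (hQ (sw2 hx.ne hy.ne)).2 (swap x (pr T x)) ⟨fun u hu => by
    rw [Perm.mul_apply, swap_apply_of_ne_of_ne (a := y) (b := pr T y) (fun e => yU (e ▸ hu))
      fun e => mem_compl.1 (hU.compl.orb_subset (mem_compl.2 yU) (pr_mem y)) (e ▸ hu)],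
    fun u hu => swap_apply_of_ne_of_ne (fun e => hu (e ▸ xU)) fun e => hu (e ▸ hU.orb_subset xU (pr_mem x))⟩
  rw [sign_swap hx.ne.symm] at this
  exact absurd this (by decide)

theorem eq_one_of_small {d : α} (hd : ¬ Big T d) (hd' : pr T d ≠ d) {c : Perm α} (hc : c ∈ PP T)
    (h : ∀ u, u ≠ d → u ≠ pr T d → c u = u) : c = 1 := by
  rcases small hd hc.1 with e | e
  · ext u
    by_cases a : u = d
    · rw [a, e]; rfl
    by_cases b : u = pr T d
    · rw [b, map_pr hc.1, e]; rfl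
    exact h u a b
  · have : c = swap d (pr T d) := Equiv.ext fun u => by
      rw [swap_apply_def]
      split_ifs with a b
      · rw [a, e]
      · rw [b, map_pr hc.1, e, pr_pr]
      · exact h u a b
    have h2 : sign c = 1 := hc.2
    rw [this, sign_swap hd'.symm] at h2
    exact absurd h2 (by decide)

theorem caseA2 (hn : 6 ≤ Fintype.card α) {d : α} (hd : ¬ Big T d) (hd' : pr T d ≠ d) {x : α} (hx : Big T x)
    (hB : ∀ y, Big T y → y ∈ orb T x) : ¬ Dec (PP T) := by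
  rintro ⟨S₁, S₂, h1, h2, h⟩
  have key : ∀ c ∈ PP T, (∀ g ∈ PP T, g * c = c * g) → c x = x → c = 1 := fun c hc e f =>
    eq_one_of_small hd hd' hc fun u a b => by
      by_cases hu : Big T u
      · exact fix_orb hx (fun g hg => e g hg.1) (self_mem_orb x) (hB u hu) f
      · exact fix_of_pr (by_contra fun i => (small_unique hd hu hd' i).elim a b) hc.1
  obtain ⟨c, a, b, e⟩ := cent_of h h1
  obtain ⟨c', a', b', e'⟩ := cent_of (idp_symm h) h2
  have p := h.1 a
  have p' := h.2.1 a'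
  have := key (c⁻¹ * c') (mul_mem (inv_mem p) p') (fun g hg =>
    ((Commute.inv_right (e g hg)).mul_right (e' g hg)).eq) (by
      rw [Perm.mul_apply, Perm.inv_eq_iff_eq, (cent_pr hn p.1 e x).resolve_left fun i => b (key c p e i),
        (cent_pr hn p'.1 e' x).resolve_left fun i => b' (key c' p' e' i)])
  rw [inv_mul_eq_one] at this
  exact b (mem_bot.1 (h.2.2.2.1 ▸ mem_inf.2 ⟨a, this ▸ a'⟩))

variable (T) in
def fx (V : Finset α) : Subgroup (Perm α) where
  carrier := {g | g ∈ PP T ∧ ∀ u ∈ V, g u = u}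
  mul_mem' := fun h h' => ⟨mul_mem h.1 h'.1, fun u hu => by rw [Perm.mul_apply, h'.2 u hu, h.2 u hu]⟩
  one_mem' := ⟨one_mem _, fun _ _ => rfl⟩
  inv_mem' := fun h => ⟨inv_mem h.1, fun u hu => Perm.inv_eq_iff_eq.2 (h.2 u hu).symm⟩

theorem caseA1 {d : α} (hd : ¬ Big T d) (hd' : pr T d ≠ d) {x y : α} (hx : Big T x) (hy : Big T y)
    (hxy : y ∉ orb T x) : Dec (PP T) := by
  have nd : ∀ {u}, Big T u → u ≠ d ∧ u ≠ pr T d := fun {u} hu =>
    ⟨fun e => hd (by rwa [e] at hu), fun e => hd (hu.of_mem (by rw [← pr_pr (T := T) d, ← e]; exact pr_mem u))⟩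
  have fd : ∀ u ∈ orb T x, swap d (pr T d) u = u := fun u hu =>
    swap_apply_of_ne_of_ne (nd (hx.of_mem hu)).1 (nd (hx.of_mem hu)).2
  have mV : ∀ {u}, u ∈ (orb T x ∪ orb T d)ᶜ ↔ u ∉ orb T x ∧ u ∉ orb T d := by simp
  have fd' : ∀ u ∉ orb T d, swap d (pr T d) u = u := fun u hu =>
    swap_apply_of_ne_of_ne (fun e => hu (by rw [e]; exact self_mem_orb d)) fun e => hu (by rw [e]; exact pr_mem d)
  have le : ∀ V, fx T V ≤ PP T := fun _ _ h => h.1
  refine ⟨fx T (orb T x ∪ orb T d)ᶜ, fx T (orb T x), fun e => ?_, fun e => ?_, le _, le _,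
    fun a ha b hb => Equiv.ext fun u => ?_, eq_bot_iff.2 fun c hc => ?_,
    le_antisymm (sup_le (le _) (le _)) fun p hp => ?_⟩
  · have : swap x (pr T x) * swap d (pr T d) ∈ fx T (orb T x ∪ orb T d)ᶜ := ⟨sw2 hx.ne hd', fun u hu => by
      rw [Perm.mul_apply, fd' u (mV.1 hu).2, swap_apply_of_ne_of_ne (a := x) (b := pr T x)
        (x := u) (fun e => (mV.1 hu).1 (by rw [e]; exact self_mem_orb x))
        fun e => (mV.1 hu).1 (by rw [e]; exact pr_mem x)]⟩
    rw [e, mem_bot] at this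
    have := congrArg (· x) this
    simp only [Perm.mul_apply, fd x (self_mem_orb x), swap_apply_left] at this
    exact hx.ne this
  · have : swap y (pr T y) * swap d (pr T d) ∈ fx T (orb T x) := ⟨sw2 hy.ne hd', fun u hu => by
      rw [Perm.mul_apply, fd u hu, swap_apply_of_ne_of_ne (a := y) (b := pr T y) (fun e => hxy (e ▸ hu)) fun e =>
        mem_compl.1 ((inv_orb x).compl.orb_subset (mem_compl.2 hxy) (pr_mem y)) (e ▸ hu)]⟩
    rw [e, mem_bot] at this
    have := congrArg (· y) this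
    simp only [Perm.mul_apply, swap_apply_of_ne_of_ne (nd hy).1 (nd hy).2, swap_apply_left] at this
    exact hy.ne this
  · simp only [Perm.mul_apply]
    by_cases h1 : u ∈ orb T x
    · rw [hb.2 u h1, hb.2 _ (inv_orb x a ha.1.1 u h1)]
    by_cases h2 : u ∈ orb T d
    · have : ¬ Big T u := fun e => hd (e.of_mem (orb_eq h2 ▸ self_mem_orb d))
      rcases small this ha.1.1 with e | e <;> rcases small this hb.1.1 with f | f <;>
        simp [e, f, map_pr ha.1.1, map_pr hb.1.1]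
    · rw [ha.2 u (mV.2 ⟨h1, h2⟩), ha.2 _ (mV.2 ⟨fun e => h1 (((inv_orb x).iff hb.1.1).1 e),
        fun e => h2 (((inv_orb d).iff hb.1.1).1 e)⟩)]
  · refine eq_one_of_small hd hd' hc.1.1 fun u a b => ?_
    by_cases h1 : u ∈ orb T x
    · exact hc.2.2 u h1
    · refine hc.1.2 u (mV.2 ⟨h1, fun e => ?_⟩)
      obtain ⟨t, ht, rfl⟩ := mem_orb.1 e
      exact (small hd ht).elim a b
  · obtain ⟨s, hs, r⟩ := (inv_orb x).exists_res hp.1
    obtain ⟨a, ha, e⟩ : ∃ a ∈ fx T (orb T x ∪ orb T d)ᶜ, ∀ u ∈ orb T x, a u = p u := by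
      by_cases e : sign s = 1
      · exact ⟨s, ⟨⟨hs, e⟩, fun u hu => r.2 u (mV.1 hu).1⟩, r.1⟩
      refine ⟨s * swap d (pr T d), ⟨⟨mul_mem hs (swap_pr d), ?_⟩, fun u hu => ?_⟩, fun u hu => ?_⟩
      · change sign _ = 1
        rw [map_mul, sign_swap hd'.symm, (Int.units_eq_one_or _).resolve_left e]; rfl
      · rw [Perm.mul_apply, fd' u (mV.1 hu).2, r.2 u (mV.1 hu).1]
      · rw [Perm.mul_apply, fd u hu, r.1 u hu]
    rw [← mul_inv_cancel_left a p]
    exact mul_mem (mem_sup_left ha) (mem_sup_right ⟨mul_mem (inv_mem ha.1) hp, fun u hu => by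
      rw [Perm.mul_apply, Perm.inv_eq_iff_eq, e u hu]⟩)

theorem one_orb {r : ℕ} (h : (univ.filter (Big T)).card = 2 ^ r) (h4 : 4 ≤ 2 ^ r) :
    ∃ x, Big T x ∧ ∀ y, Big T y → y ∈ orb T x := by
  obtain ⟨c, hc⟩ := (exists_with_cycleType_iff α (m := {2 ^ r})).2
    ⟨by simpa using h ▸ card_le_univ _, by simpa using by omega⟩
  have ho : orderOf c = 2 ^ r := by rw [← lcm_cycleType, hc]; simp
  obtain ⟨Q, hQ⟩ := (IsPGroup.of_card (p := 2) ((Nat.card_zpowers c).trans ho)).exists_le_sylow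
  obtain ⟨g, hg⟩ := MulAction.exists_smul_eq (Perm α) Q T
  have hm : g * c * g⁻¹ ∈ T := by
    rw [← hg]; exact smul_mem_pointwise_smul _ (MulAut.conj g) _ (hQ (mem_zpowers c))
  have hc' : (g * c * g⁻¹).cycleType = {2 ^ r} := by rw [cycleType_conj, hc]
  have hcy := card_cycleType_eq_one.1 (by rw [hc']; rfl)
  have hs : (g * c * g⁻¹).support.card = 2 ^ r := by rw [← sum_cycleType, hc']; simp
  obtain ⟨x, hx⟩ := card_pos.1 (hs ▸ (by positivity : 0 < 2 ^ r))
  have h1 : (g * c * g⁻¹).support ⊆ orb T x := fun y hy => by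
    obtain ⟨i, hi⟩ := hcy.exists_pow_eq (mem_support.1 hx) (mem_support.1 hy)
    exact mem_orb.2 ⟨_, pow_mem hm i, hi⟩
  have h2 := card_le_card h1
  have hb : Big T x := by unfold Big; omega
  have := eq_of_subset_of_card_le (inv_big.orb_subset (mem_filter.2 ⟨mem_univ _, hb⟩)) (by omega)
  exact ⟨x, hb, fun y hy => this ▸ mem_filter.2 ⟨mem_univ _, hy⟩⟩

theorem main6 (hn : 6 ≤ Fintype.card α) : Dec (PP T) ↔
    ((Fintype.card α % 4 = 2 ∨ Fintype.card α % 4 = 3) ∧ ∀ r : ℕ, 4 * (Fintype.card α / 4) ≠ 2 ^ r) := by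
  obtain ⟨h1, h2⟩ := count (T := T)
  refine ⟨fun h => ?_, fun ⟨a, b⟩ => ?_⟩
  · have hD : ∃ d, ¬ Big T d ∧ pr T d ≠ d := by
      by_contra! e
      exact caseB hn e h
    refine ⟨by have := h2.1 hD; omega, fun r hr => ?_⟩
    obtain ⟨d, hd, hd'⟩ := hD
    obtain ⟨x, hx, hB⟩ := one_orb (h1.trans hr) (by omega)
    exact caseA2 hn hd hd' hx hB h
  · obtain ⟨d, hd, hd'⟩ := h2.2 (by omega)
    obtain ⟨x, hx⟩ := card_pos.1 (show 0 < (univ.filter (Big T)).card by omega)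
    by_cases e : ∀ y, Big T y → y ∈ orb T x
    · obtain ⟨k, hk⟩ := card_orb (T := T) x
      refine absurd (h1.symm.trans (Eq.trans ?_ hk)) (b k)
      exact congrArg card (Subset.antisymm (fun y hy => e y (mem_filter.1 hy).2) (inv_big.orb_subset hx))
    · push Not at e
      obtain ⟨y, hy, hy'⟩ := e
      exact caseA1 hd hd' (mem_filter.1 hx).2 hy hy'

end

theorem sq5 : ∀ g : Perm (Fin 5), sign g = 1 → g ^ 4 = 1 → g ^ 2 = 1 := by decide +kernel

theorem sq4 : ∀ g : Perm (Fin 4), sign g = 1 → g ^ 4 = 1 → g ^ 2 = 1 := by decide +kernel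

theorem small_case {n : ℕ} (hn : n = 4 ∨ n = 5) (P : Sylow 2 (alternatingGroup (Fin n))) :
    Dec (P : Subgroup (alternatingGroup (Fin n))) := by
  have h4 : Nat.card (P : Subgroup (alternatingGroup (Fin n))) = 4 := by
    rw [P.card_eq_multiplicity]
    rcases hn with rfl | rfl <;> rw [nat_card_alternatingGroup] <;> simp <;> decide +kernel
  refine dec_four h4 fun g hg => Subtype.ext ?_
  have := pow_card_eq_one' (x := (⟨g, hg⟩ : (P : Subgroup (alternatingGroup (Fin n)))))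
  rw [h4] at this
  have h : (g : Perm (Fin n)) ^ 4 = 1 := congrArg (fun x => x.1.1) this
  rcases hn with rfl | rfl
  · exact sq4 g g.2 h
  · exact sq5 g g.2 h

theorem main (n : ℕ) (hn : 4 ≤ n) (P : Sylow 2 (alternatingGroup (Fin n))) :
    Dec (P : Subgroup (alternatingGroup (Fin n))) ↔
      (n = 4 ∨ n = 5 ∨ ((n % 4 = 2 ∨ n % 4 = 3) ∧ ∀ r : ℕ, 4 * (n / 4) ≠ 2 ^ r)) := by
  by_cases h : n = 4 ∨ n = 5
  · exact iff_of_true (small_case h P) (by tauto)
  obtain ⟨T, hT⟩ := (P.isPGroup'.map (alternatingGroup (Fin n)).subtype).exists_le_sylow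
  have : (P : Subgroup (alternatingGroup (Fin n))).map (alternatingGroup (Fin n)).subtype = PP T := by
    rw [← P.is_maximal' (T.isPGroup'.comap_of_injective _ (subtype_injective _)) (map_le_iff_le_comap.1 hT),
      map_comap_eq, range_subtype, inf_comm]
  rw [← dec_map (subtype_injective _), this, main6 (by simp; omega), Fintype.card_fin]
  tauto

/-- Direct decomposability of the Sylow 2-subgroups of the alternating groups. Let n ≥ 4 and let P be a Sylow 2-subgroup of the alternating group of degree n. Then P is the internal direct product of two nontrivial subgroups if and only if n = 4, n = 5, or n ≡ 2, 3 (mod 4) with 4⌊n/4⌋ not a power of 2. In the remaining cases (n ≡ 0, 1 (mod 4) with n ≥ 8, or n ≡ 2, 3 (mod 4) with 4⌊n/4⌋ a power of 2) P is directly indecomposable. -/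
theorem result (n : ℕ) (hn : 4 ≤ n)
    (P : Sylow 2 (alternatingGroup (Fin n))) :
    (∃ S₁ S₂ : Subgroup (alternatingGroup (Fin n)), S₁ ≠ ⊥ ∧ S₂ ≠ ⊥ ∧
        Cfsg.IsInternalDirectProduct S₁ S₂ (P : Subgroup (alternatingGroup (Fin n)))) ↔
      (n = 4 ∨ n = 5 ∨ ((n % 4 = 2 ∨ n % 4 = 3) ∧ ∀ r : ℕ, 4 * (n / 4) ≠ 2 ^ r)) := by
  exact main n hn P

end Cfsg.Agent.S2221
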