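import Cfsg.Statements.S2222
import Cfsg.Agent.Lib.Linear.SylTwo
import Cfsg.Agent.Lib.Hall.Pron
import Cfsg.Agent.Lib.Core.Frattini

set_option autoImplicit false
open Cfsg

namespace Cfsg.Agent.S2222

open Cfsg.Lib Cfsg.Lib.Hall Cfsg.Lib.Amalg Subgroup

/-- In the alternating group of degree n ≥ 5 every subgroup H of odd index is pronormal: for every element g, the subgroups H and gHg⁻¹ are conjugate by an element of the subgroup they generate. -/
theorem result (n : ℕ) (hn : 5 ≤ n)
    (H : Subgroup (alternatingGroup (Fin n))) (hH : Odd H.index) : Cfsg.IsPronormal H := by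
  obtain ⟨S, hS⟩ := (exists_sylow_le_iff (p := 2)).mpr hH.not_two_dvd_nat
  rcases hn.eq_or_lt with rfl | hn
  swap
  · exact isPronormal_of_normalizer hS (isPronormal_sylow S) fun g hg =>
      ⟨g, mem_sup_left (hS (Linear.normalizer_sylow_alt (by simpa) S hg)), rfl⟩
  have h1 : ∀ H : Subgroup (alternatingGroup (Fin 5)), IsCoatom H → IsPronormal H := fun H h g => by
    by_cases h2 : H.map (MulAut.conj g).toMonoidHom ≤ H
    · exact ⟨1, one_mem _, (eq_of_le_of_card_ge h2 (card_map_of_injective (MulEquiv.injective _)).ge).trans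
        (by ext; simp)⟩
    · exact ⟨g, (h.2 _ (left_lt_sup.mpr h2)).ge (mem_top g), rfl⟩
  have h2 := H.card_mul_index
  rw [nat_card_alternatingGroup, Nat.card_fin] at h2
  have h3 : H.index ∈ Nat.divisors 60 := Nat.mem_divisors.mpr ⟨Dvd.intro_left _ h2, by simp⟩
  have h4 : H.index = 1 ∨ H.index = 3 ∨ H.index = 5 ∨ H.index = 15 := by
    revert hH h3; generalize H.index = k; revert k; simp only [Nat.odd_iff]; intro k h h'; revert h; revert k; decide
  rcases h4 with h | h | h | h
  · exact fun g => ⟨g, mem_sup_left (index_eq_one.mp h ▸ mem_top g), rfl⟩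
  · exact h1 H (Core.isCoatom_of_index_prime (h ▸ Nat.prime_three))
  · exact h1 H (Core.isCoatom_of_index_prime (by rw [h]; exact Nat.prime_five))
  · rw [S.3 (IsPGroup.of_card (n := 2) (by rw [h] at h2; simp [Nat.factorial] at h2; omega)) hS]
    exact isPronormal_sylow S

end Cfsg.Agent.S2222
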