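import Cfsg.Statements.S2225
import Cfsg.Agent.Lib.Conj.Wr4

set_option autoImplicit false
open Cfsg

namespace Cfsg.Agent.S2225

open Cfsg.Lib.Conj Cfsg.Lib.Forms Cfsg.Lib.Forms.Form Module


/-- Let F be a finite field and d = 2^w ≥ 2 a power of 2 such that PSL_d(F) is simple. Then every subgroup H of PSL_d(F) of odd index is pronormal: for every g, H and gHg⁻¹ are conjugate by an element of the subgroup they generate. -/
theorem result {F : Type*} [Field F] [Fintype F]
    (w : ℕ) (hw : 1 ≤ w) (hs : IsSimpleGroup (Matrix.ProjectiveSpecialLinearGroup (Fin (2 ^ w)) F))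
    (H : Subgroup (Matrix.ProjectiveSpecialLinearGroup (Fin (2 ^ w)) F)) (hH : Odd H.index) : Cfsg.IsPronormal H := by
  obtain ⟨L, _, _, hL⟩ := Lib.Linear.exists_small_field F
  obtain ⟨e⟩ := Lib.Linear.nonempty_psl_equiv_of_card_eq (ι := Fin (2 ^ w)) (Nat.card_eq_fintype_card.trans hL)
  have := Finite.of_surjective _ e.surjective
  refine Lib.Hall.yp_iff.1 (Wr2.yp_map e.toMonoidHom e.surjective ?_) H hH.not_two_dvd_nat
  obtain ⟨j, rfl⟩ := Nat.exists_eq_add_of_le' hw
  obtain h | h := (Nat.card L).even_or_odd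
  · have : CharP L 2 := ringChar.of_eq (FiniteField.even_card_iff_char_two.2 (by
      rwa [← Nat.even_iff, ← Nat.card_eq_fintype_card]))
    obtain ⟨P, U, h⟩ := Lib.Stein.hasGood_SL (F := L) 2 (n := 2 ^ (j + 1)) (le_self_pow₀ one_le_two (by simp))
    exact Wr2.yp_map _ (QuotientGroup.mk'_surjective _) (Wr2.yp_of_split h.toSplit h.ab)
  cases j with
  | zero => exact Wr2.yp_PSL2 h
  | succ j => exact Wr2.yp_map _ (QuotientGroup.mk'_surjective _) (Wr2.yp_SL h j)

end Cfsg.Agent.S2225
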