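import Cfsg.Statements.S2226
import Cfsg.Agent.Lib.Conj.Wr3

set_option autoImplicit false
open Cfsg

namespace Cfsg.Agent.S2226

open Cfsg.Lib.Conj Cfsg.Lib.Forms Cfsg.Lib.Forms.Form Module


/-- Let F be a finite field with q² elements and d = 2^w ≥ 4 a power of 2 such that the unitary group PSU_d(q) (realised over F) is simple. Then every subgroup H of PSU_d(q) of odd index is pronormal: for every g, H and gHg⁻¹ are conjugate by an element of the subgroup they generate. -/
theorem result {F : Type*} [Field F] [Fintype F] (q : ℕ)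
    (hF : Fintype.card F = q ^ 2) (w : ℕ) (hw : 2 ≤ w) (hs : IsSimpleGroup (Cfsg.PSU (2 ^ w) F q))
    (H : Subgroup (Cfsg.PSU (2 ^ w) F q)) (hH : Odd H.index) : Cfsg.IsPronormal H := by
  obtain ⟨σ, h⟩ := isConj_of_card hF
  obtain ⟨j, rfl⟩ := Nat.exists_eq_add_of_le' hw
  have := (stdHerm h (Fin (2 ^ (j + 2)))).finite_isom
  have h1 := Wr2.yp_map ((psuEquiv h _).symm.toMonoidHom.comp (QuotientGroup.mk' _))
    ((psuEquiv h _).symm.surjective.comp (QuotientGroup.mk'_surjective _))
    (Wr2.yp_SU h (stdHerm_nondeg h (Fin (2 ^ (j + 2)))) (j := j) (by simp [pow_succ']))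
  have : Finite (Cfsg.PSU (2 ^ (j + 2)) F q) := Finite.of_equiv _ (psuEquiv h _).symm.toEquiv
  exact Lib.Hall.yp_iff.1 h1 H hH.not_two_dvd_nat

end Cfsg.Agent.S2226
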