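import Cfsg.Statements.S2227
import Cfsg.Agent.Lib.Exc.E65
import Cfsg.Agent.Lib.Exc.E65T
import Cfsg.Agent.Lib.Twist.TwE6

set_option autoImplicit false
open Cfsg

namespace Cfsg.Agent.S2227

open Cfsg.Lie Cfsg.Lib Cfsg.Lib.Chev Cfsg.Lib.Twist Cfsg.Lib.E65

/-- The twisted Weyl group element. -/
def pW : ℕ := 0xb3533320f302f0e2e0d0c47373634312321081e06051a030201432c2b2a4028273e253d0a2209201f071d1c1b044645442d4241293f262416131110003b3a19391817381514123c

/-- The cocharacter. -/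
def ee (i : ℕ) : ℤ := [-1, -3, -5, 6, 5, 4].getD i 0

/-- Values of roots. -/
noncomputable def evN (y : ℕ → ℤ) (r : ℕ) : ℤ := Chev.sumLt 6 fun i => wtN chevE6 tabE6 r i * y i

/-- Coroots. -/
def coN (r k : ℕ) : ℤ := (chevE6.coroot.getD r #[]).getD k 0

theorem ev_eq (y : ℕ → ℤ) (r : Fin chevE6.nroots) : rootOK_E6.R.ev r (fun i => y i) = evN y r := by
  simp only [RootSys.ev, RootSys.wr, pair_simple_eq, evN, Chev.sumLt_eq]; rfl

/-- The subsystem. -/
def inJ (r : ℕ) : Prop := ∀ i < 6, i ∉ [2, 3, 4] → Twist.rtN chevE6 tabE6 r i = 0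

instance : DecidablePred inJ := fun _ => Nat.decidableBallLT _ _

theorem c1 : ∀ r < 72, lk pW r = [0, 2, 3, 4, 5, 4, 3, 2, 1, 3, 4, 0, 2, 3, 1].foldr chevE6.reflectRoot (lk rhoE6 r) ∧
    (inJ r → lk pW r = r) ∧ (5 ∣ evN ee r ↔ inJ r) ∧ 3 ∣ evN ee r := by decide +kernel

theorem c2 : ∀ m : Fin chevE6.rank, 5 ∣ 2 * (∑ i : Fin chevE6.rank, coN (lk pW (chevE6.simple i)) m * ee i) - ee m ∧
    (∀ i : Fin chevE6.rank, ∑ k : Fin chevE6.rank, tab [[], [1, -1], [1, -2, 1], [-4, 2, 0, 1, 0, -2], [-3, 2, 0, 0, 1, -2], [-2, 2, 0, 0, 0, -1]] i k *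
      (2 * coN (lk pW (chevE6.simple m)) k - if k = m then 1 else 0) = (if m = i then 1 else 0) - ee i * [-1].getD m 0) ∧
    ∑ k : Fin chevE6.rank, [7, -6, 0, 0, 0, 2].getD k 0 * (2 * coN (lk pW (chevE6.simple m)) k - if k = m then 1 else 0) = 15 * [-1].getD m 0 := by
  decide +kernel

theorem c3 : ∀ b ∈ reps, cntB chevE6.nroots (fun r => decide (evN (dg 5 b) r % 5 = 1)) = cntB chevE6.nroots (fun r => decide (evN (dg 5 b) r % 5 = 2)) →
    (∀ i < 6, 5 ∣ dg 5 b i) ∨ ∀ i < 6, 5 ∣ dg 5 b i - ee i := by decide +kernel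

/-- In the twisted group ²E₆(2) all elements of order 5 are conjugate, and the centralizer of an element of order 5 is isomorphic to the direct product of a cyclic group of order 5 with the alternating group of degree 8. -/
theorem result {K : Type*} [Field K] [Fintype K] (hK : Fintype.card K = 4) :
    (∀ x y : ↥(Cfsg.Lie.twistedE6 K 2), orderOf x = 5 → orderOf y = 5 → IsConj x y) ∧
      ∀ x : ↥(Cfsg.Lie.twistedE6 K 2), orderOf x = 5 →
        Nonempty (↥(Subgroup.centralizer ({x} : Set ↥(Cfsg.Lie.twistedE6 K 2))) ≃* (Multiplicative (ZMod 5) × ↥(alternatingGroup (Fin 8)))) := by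
  have hq : IsPrimePow 2 := Nat.prime_two.isPrimePow
  have hK' : Fintype.card K = 2 ^ 2 := hK
  obtain ⟨d⟩ := exists_E6Data hq hK'
  have : CharP K 2 := charP_of_card_eq_prime_pow hK'
  obtain ⟨Y, h1, h2, h3⟩ := exists_twF_graph (p := 2) rootOK_E6 (by simp) matOK_E6 chkG_E6 (by decide +kernel) d (m := 2) (e := 1) two_pos one_pos
    (Equiv.ext fun i => Fin.ext (by rw [sq, Equiv.Perm.mul_apply, d.π_val, d.π_val]; revert i; decide +kernel))
  obtain ⟨φ, h4, h5, h6⟩ := rootOK_E6.compat.exists_model' matOK_E6 _ Y (by rw [hK', h3]) d.X h1 (fun r t => by rw [d.φ_eq, h2]; rfl)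
    ((d.eq_Fix hK').ge.trans (d.gen hK').2) (Subgroup.inclusion_injective (d.gen hK').1) (by rw [Subgroup.inclusion_range, d.eq_Fix hK'])
  let l : List (Fin chevE6.rank) := [0, 2, 3, 4, 5, 4, 3, 2, 1, 3, 4, 0, 2, 3, 1].map n6
  have hw : ∀ r, ((rootOK_E6.R.wprod l * d.T.ρ) r : ℕ) = lk pW r := fun r => by
    rw [Equiv.Perm.mul_apply, wprod_val rootOK_E6.compat, d.ρ_val, (c1 r r.2).1]; rfl
  have hJ : ∀ r, rootOK_E6.R.InSub (Finset.univ.image ![n6 2, n6 3, n6 4] : Finset _) r ↔ inJ r := fun r => by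
    have : ∀ i : Fin chevE6.rank, i ∈ Finset.univ.image ![n6 2, n6 3, n6 4] ↔ (i : ℕ) ∈ [2, 3, 4] := by decide
    simp only [RootSys.InSub, Finset.mem_coe, this, RootOK.R_rt]
    exact ⟨fun h i hi => h ⟨i, hi⟩, fun h i => h i i.2⟩
  have hco : ∀ m k, rootOK_E6.R.co ((rootOK_E6.R.wprod l * d.T.ρ) (rootOK_E6.R.simple m)) k = coN (lk pW (chevE6.simple m)) k := fun m k => by
    rw [rootOK_E6.compat.co_eq, hw, rootOK_E6.compat.simple_eq]; rfl
  refine main (rootOK_E6.compat.scFam_red matOK_E6 (by simp)) (rootOK_E6.compat.st_sc (by simp) _) (algClosure_pow K 2) Y h2 h4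
    (fun g => ?_) (h6.trans (d.card_ker hK')) l (j := ![n6 2, n6 3, n6 4]) (fun a b => ?_) (e := fun i => ee i)
    ⟨fun r hr => Fin.ext ((hw r).trans ((c1 r r.2).2.1 ((hJ r).1 hr))), fun r => by rw [ev_eq, hJ]; exact (c1 r r.2).2.2.1,
      fun r => by rw [ev_eq]; exact (c1 r r.2).2.2.2, fun k => by simpa only [RootSys.aw, hco] using (c2 k).1,
      _, _, _, fun m => by simpa only [hco] using (c2 m).2⟩
    (L := {y | ∃ b ∈ reps, y = fun i => dg 5 b i.1}) (fun ζ hζ y => ?_) ?_ ⟨n6 0, by decide⟩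
  · refine .trans ?_ (rootOK_E6.compat.ker_proj matOK_E6 (by simp))
    rw [← h5, map_eq_one_iff _ (baseExt_injective _), map_eq_one_iff _ (Subgroup.inclusion_injective _)]
  · rw [RootOK.R_A]
    simp only [← RootSys.pair_simple_simple, Linear.pairA, Linear.Eu.R_simple, Linear.euA_simple]
    revert a b; decide +kernel
  · exact (isConj_of_chkOrb orb (by norm_num) rootOK_E6.R_A _ _ hζ y).elim fun b h => ⟨_, ⟨b, h.1, rfl⟩, h.2⟩
  · rintro _ ⟨b, hb, rfl⟩ τ h
    refine (c3 b hb ?_).imp (fun h i => h i i.2) fun h i => h i i.2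
    rw [← ncard_eq_cntB (T := {r : Fin chevE6.nroots | evN (dg 5 b) r % 5 = 1}) (by simp),
      ← ncard_eq_cntB (T := {r : Fin chevE6.nroots | evN (dg 5 b) r % 5 = 2}) (by simp), ← Set.ncard_image_of_injective _ τ.injective]
    congr 1; ext r
    obtain ⟨r, rfl⟩ := τ.surjective r
    have := h r
    rw [ev_eq, ev_eq] at this
    simp only [τ.injective.mem_set_image, Set.mem_ofPred_eq]; omega

end Cfsg.Agent.S2227
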