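import Cfsg.Statements.S2231
import Cfsg.Agent.Lib.Linear.Tv
import Cfsg.Agent.Lib.Linear.PUnip

set_option autoImplicit false
open Cfsg

namespace Cfsg.Agent.S2231

open Matrix Cfsg.Lib.Linear in
theorem commute_of_involves {p : ℕ} [Fact p.Prime] {G H : Type*} [Group G] [Group H] [Finite G]
    (hG : ∀ P : Subgroup G, IsPGroup p P → ∀ a ∈ P, ∀ b ∈ P, a * b = b * a) (h : Cfsg.Involves H G)
    {Q : Subgroup H} (hQ : IsPGroup p Q) : ∀ a ∈ Q, ∀ b ∈ Q, a * b = b * a := by
  obtain ⟨K, R, hn, ⟨e⟩⟩ := h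
  set f : K →* H := e.toMonoidHom.comp (QuotientGroup.mk' (R.subgroupOf K)) with hf
  have hs : Function.Surjective f := e.surjective.comp (QuotientGroup.mk'_surjective _)
  obtain ⟨T, hT⟩ := hQ.exists_le_sylow
  obtain ⟨S, rfl⟩ := Sylow.mapSurjective_surjective hs p T
  intro a ha b hb
  obtain ⟨a, ha', rfl⟩ := Subgroup.mem_map.mp (hT ha)
  obtain ⟨b, hb', rfl⟩ := Subgroup.mem_map.mp (hT hb)
  rw [← map_mul, ← map_mul]
  congr 1
  exact Subtype.ext (hG _ (S.isPGroup'.map K.subtype) a ⟨a, ha', rfl⟩ b ⟨b, hb', rfl⟩)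

/-- Let p be an odd prime and K a finite field of characteristic p. Then Qd(p) (the natural semidirect product of an elementary abelian group of order p² by SL₂(p)) is not involved in the projective special linear group PSL₂(K). -/
theorem result {p : ℕ} [Fact p.Prime] (hp : p ≠ 2) {K : Type*} [Field K] [Fintype K] [CharP K p] : ¬ Cfsg.Involves ↥(Cfsg.qd p) (Matrix.ProjectiveSpecialLinearGroup (Fin 2) K) := by
  intro h
  have hG : ∀ P : Subgroup (Matrix.ProjectiveSpecialLinearGroup (Fin 2) K), IsPGroup p P →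
      ∀ a ∈ P, ∀ b ∈ P, a * b = b * a := by
    intro P hP a ha b hb
    obtain ⟨x, hx⟩ := Cfsg.Lib.Linear.exists_le_pU (Cfsg.Lib.Linear.centralP'_PSL (K := K) (p := p))
      Cfsg.Lib.Linear.pFix_of_finite hP
    exact (Cfsg.Lib.Linear.centralP'_PSL (K := K) (p := p)).commute (hx ha).1 (hx hb).1
  have hQ : IsPGroup p ((Cfsg.Lib.Linear.slUnitri 3 (ZMod p)).subgroupOf (Cfsg.qd p)) :=
    (Cfsg.Lib.Linear.isPGroup_slUnitri 3).comap_subtype
  have hm : ∀ (i j : Fin 3) (hij : i < j), Matrix.SpecialLinearGroup.transvection hij.ne (1 : ZMod p) ∈ Cfsg.qd p := by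
    intro i j hij
    refine Subgroup.subset_closure ?_
    have := Cfsg.Lib.Linear.mem_slUnitri.mp (Cfsg.Lib.Linear.transvection_mem_slUnitri hij (1 : ZMod p))
    exact ⟨this.1 _ _ (by decide), this.1 _ _ (by decide), this.2 _⟩
  have := commute_of_involves hG h hQ ⟨_, hm 0 1 (by decide)⟩
    (Cfsg.Lib.Linear.transvection_mem_slUnitri (by decide) _) ⟨_, hm 1 2 (by decide)⟩
    (Cfsg.Lib.Linear.transvection_mem_slUnitri (by decide) _)
  have h2 := congrArg (fun g : Cfsg.qd p => (g.1 : Matrix (Fin 3) (Fin 3) (ZMod p)) 0 2) this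
  simp only [Subgroup.coe_mul, Cfsg.Lib.Linear.sl_coe_mul, Cfsg.Lib.Linear.coe_transvection_eq] at h2
  simp [Matrix.mul_apply, Fin.sum_univ_three, Matrix.one_apply, Matrix.vecMulVec_apply] at h2

end Cfsg.Agent.S2231
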