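import Cfsg.Statements.S2232
import Cfsg.Agent.Lib.BN.BinU3
import Cfsg.Agent.Lib.Fus2.Involves
import Cfsg.Agent.Lib.Linear.Tv

set_option autoImplicit false
open Cfsg

namespace Cfsg.Agent.S2232

open Subgroup Cfsg.Lib Cfsg.Lib.Core Cfsg.Lib.Amalg Cfsg.Lib.Fus2 Cfsg.Lib.U3 Cfsg.Lib.Invol

/-- trivial intersection of Sylow subgroups -/
def TI (p : ℕ) (X : Type*) [Group X] : Prop :=
  ∀ P R : Subgroup X, IsPGroup p P → IsPGroup p R → P ⊓ R ≠ ⊥ → IsPGroup p ↥(P ⊔ R)

theorem TI.of_involves {G X : Type*} [Group G] [Group X] [Finite G] {p : ℕ} [Fact p.Prime] (h : TI p G)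
    (hX : Involves X G) : TI p X := by
  obtain ⟨K, f, hf⟩ := involves_iff.1 hX
  intro P R hP hR hne
  have key : ∀ {U : Subgroup X} {T : Subgroup K}, IsPGroup p U → Syl p T (U.comap f) → T.map f = U :=
    fun hU hT => by
      have := hT.map f
      rw [map_comap_eq_self_of_surjective hf] at this
      exact this.eq_of_isPGroup hU
  obtain ⟨T, hT⟩ := exists_syl p ((P ⊓ R).comap f)
  obtain ⟨P', hP', h1⟩ := exists_syl_ge hT.isPGroup (hT.le.trans (comap_mono inf_le_left))
  obtain ⟨R', hR', h2⟩ := exists_syl_ge hT.isPGroup (hT.le.trans (comap_mono inf_le_right))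
  have h3 := h _ _ (hP'.isPGroup.map K.subtype) (hR'.isPGroup.map K.subtype) fun e => hne (by
    rw [← key (hP.to_le inf_le_left) hT, ← le_bot_iff, ← Subgroup.map_bot f]
    refine map_mono ((le_inf h1 h2).trans (le_of_eq ?_))
    rwa [← Subgroup.map_inf _ _ _ K.subtype_injective, map_eq_bot_iff_of_injective _ K.subtype_injective] at e)
  rw [← Subgroup.map_sup, Amalg.isPGroup_map_subtype_iff] at h3
  rw [← key hP hP', ← key hR hR', ← Subgroup.map_sup]
  exact h3.map f

theorem ti_su {F : Type*} [Field F] [Finite F] {σ : F →+* F} {q p k : ℕ} [hp : Fact p.Prime] (h : Forms.IsConj σ q)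
    (hq : q = p ^ k) : TI p (SU3 h) := by
  have h1 : Nat.card (nn h).range = q ^ 3 := by
    rw [← Heis.card h]; exact Nat.card_congr (MonoidHom.ofInjective (nn_injective h)).symm.toEquiv
  have h2 : IsPGroup p (nn h).range := IsPGroup.of_card (n := k * 3) (by rw [h1, hq, pow_mul])
  have h3 : p ∣ q := hq ▸ dvd_pow_self p fun e => by have := h.two_le; simp [e] at hq; omega
  have h4 : ¬ p ∣ (nn h).range.index := fun e => by
    have hc := (card_SU3 h).dvd
    rw [← (nn h).range.card_mul_index, h1] at hc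
    have := e.trans (Nat.dvd_of_mul_dvd_mul_left (pow_pos (by have := h.two_le; omega) 3) hc)
    rcases (Nat.Prime.dvd_mul hp.out).1 this with e | e
    · exact hp.out.not_dvd_one ((Nat.dvd_add_right (dvd_pow h3 three_ne_zero)).1 e)
    · refine hp.out.not_dvd_one ((Nat.dvd_add_right e).1 ?_)
      rw [Nat.sub_add_cancel (Nat.one_le_pow _ _ (by have := h.two_le; omega))]
      exact dvd_pow h3 two_ne_zero
  have h5 : Syl p (nn h).range ⊤ := syl_top (h2.toSylow h4)
  intro P R hP hR hne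
  obtain ⟨g, -, hg⟩ := h5.exists_le_conj hP le_top
  obtain ⟨l, -, hl⟩ := h5.exists_le_conj hR le_top
  obtain ⟨s, hs, hs1⟩ := (bot_or_exists_ne_one _).resolve_left hne
  obtain ⟨x, hx⟩ := mem_cj.1 (hg hs.1)
  obtain ⟨y, hy⟩ := mem_cj.1 (hl hs.2)
  have h6 : g⁻¹ * l ∈ normalizer ((nn h).range : Set (SU3 h)) := by
    have : g⁻¹ * l ∈ BN.U3.BB h := by
      have e : nn h x • (g⁻¹ * l) • (none : Pt h) = (g⁻¹ * l) • none := by
        nth_rw 2 [← nn_smul_none y]
        rw [smul_smul, smul_smul, hx, hy]; congr 1; group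
      cases f : (g⁻¹ * l) • (none : Pt h) with
      | none => exact f
      | some z =>
        rw [f, nn_smul_some, Option.some.injEq, mul_eq_right] at e
        rw [e, map_one, eq_comm, mul_assoc, inv_mul_eq_one, eq_comm, mul_eq_right] at hx
        exact absurd hx hs1
    obtain ⟨x, c, e⟩ := BN.U3.exists_nn_dd h this
    rw [e]
    refine mul_mem (le_normalizer ⟨x, rfl⟩) (mem_normalizer_fintype ?_)
    rintro _ ⟨y, rfl⟩
    exact ⟨_, (BN.U3.dd_conj h c y).symm⟩
  have h7 : cj l (nn h).range = cj g (nn h).range := by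
    rw [← mul_inv_cancel_left g l, cj_mul, cj_of_mem_normalizer h6]
  exact (isPGroup_cj g h2).to_le (sup_le hg (h7 ▸ hl))

theorem main {p : ℕ} [hp' : Fact p.Prime] (hp : p ≠ 2) {K : Type*} [Field K] [Fintype K] (n : ℕ)
    (hK : Fintype.card K = (p ^ n) ^ 2) : ¬ Cfsg.Involves ↥(Cfsg.qd p) (Cfsg.PSU 3 K (p ^ n)) := fun hI => by
  have h := Forms.isConj_frob (F := K) (q := p ^ n) (by rwa [Nat.card_eq_fintype_card])
  obtain ⟨e⟩ := U3.nonempty_psu h
  have T := ((ti_su h rfl).of_involves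
    (involves_of_quotient _ (involves_of_injective e.toMonoidHom e.injective))).of_involves hI
  have hQ : IsPGroup p ((Linear.slUnitri 3 (ZMod p)).subgroupOf (qd p)) := (Linear.isPGroup_slUnitri 3).comap_subtype
  let m : ∀ a b c d e f : ZMod p, a * e - b * d = 1 → qd p := fun a b c d e f h =>
    ⟨⟨!![a, b, c; d, e, f; 0, 0, 1], by simpa [Matrix.det_fin_three] using h⟩, subset_closure ⟨rfl, rfl, rfl⟩⟩
  have u : ∀ b c f, m 1 b c 0 1 f (by simp) ∈ (Linear.slUnitri 3 (ZMod p)).subgroupOf (qd p) := fun b c f =>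
    Linear.mem_slUnitri.2 ⟨fun i j => by fin_cases i <;> fin_cases j <;> simp [m], fun i => by fin_cases i <;> simp [m]⟩
  have ext : ∀ {x y : qd p}, (x.1.1 = y.1.1) → x = y := fun h => Subtype.ext (Subtype.ext h)
  have mu : ∀ x y : qd p, (x * y).1.1 = x.1.1 * y.1.1 := fun _ _ => rfl
  let w := m 0 (-1) 0 1 0 0 (by simp)
  have e1 : w * m 1 0 1 0 1 0 (by simp) * w⁻¹ = m 1 0 0 0 1 1 (by simp) :=
    mul_inv_eq_iff_eq_mul.2 (ext (by simp only [mu]; simp [w, m]))
  have e2 : w * m 1 1 0 0 1 0 (by simp) * w⁻¹ = m 1 0 0 (-1) 1 0 (by simp) :=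
    mul_inv_eq_iff_eq_mul.2 (ext (by simp only [mu]; simp [w, m]))
  obtain ⟨k, hk⟩ := isPGroup_iff_mem.1 (T _ _ hQ (isPGroup_cj w hQ) fun f => by
    have := congrArg (fun x : qd p => x.1.1 1 2) (mem_bot.1 (f.le ⟨u 0 0 1, e1 ▸ conj_mem_cj w (u 0 1 0)⟩))
    simp [m] at this) _ (pow_mem (mul_mem_sup (u 1 0 0) (e2 ▸ conj_mem_cj w (u 1 0 0))) 3)
  have e3 : (m 1 1 0 0 1 0 (by simp) * m 1 0 0 (-1) 1 0 (by simp)) ^ 3 = m (-1) 0 0 0 (-1) 0 (by simp) :=
    ext (by simp only [pow_three, mu]; simp [m])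
  have e4 : m (-1) 0 0 0 (-1) 0 (by simp) ^ 2 = 1 := ext (by simp only [sq, mu]; simp [m, Matrix.one_fin_three])
  rw [e3] at hk
  have := congrArg (fun x : qd p => x.1.1 0 0) (pow_eq_one_iff_of_coprime
    ((Nat.coprime_primes Nat.prime_two hp'.out).2 hp.symm |>.pow_right k) |>.1 ⟨e4, hk⟩)
  have : ((2 : ℕ) : ZMod p) = 0 := by simp [m] at this; push_cast; linear_combination -this
  exact hp ((Nat.prime_dvd_prime_iff_eq hp'.out Nat.prime_two).1 ((ZMod.natCast_eq_zero_iff _ _).1 this))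

/-- Let p be an odd prime, q a power of p and K a finite field with q² elements. Then Qd(p) (the natural semidirect product of an elementary abelian group of order p² by SL₂(p)) is not involved in the projective special unitary group PSU₃(q) realised over K. -/
theorem result {p : ℕ} [Fact p.Prime] (hp : p ≠ 2) {K : Type*} [Field K] [Fintype K] [CharP K p] (n : ℕ) (hn : 1 ≤ n) (hK : Fintype.card K = (p ^ n) ^ 2) : ¬ Cfsg.Involves ↥(Cfsg.qd p) (Cfsg.PSU 3 K (p ^ n)) := by
  exact main hp n hK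

end Cfsg.Agent.S2232
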