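import Cfsg.Statements.S2238
import Cfsg.Agent.Lib.BN.SzPartition

set_option autoImplicit false
open Cfsg

namespace Cfsg.Agent.S2238

open Cfsg.Lib.BN.Sz Cfsg.Lib.BN

/-- The partition of the Suzuki group: with q = 2^(2m+1), m ≥ 1, r = 2^m and the Suzuki group realised as the stabiliser in SL₄ of the Suzuki–Tits ovoid, every non-identity element lies in exactly one subgroup that is either a Sylow 2-subgroup or a cyclic subgroup of order q − 1, q + 2r + 1 or q − 2r + 1. -/
theorem result {F : Type*} [Field F] [Fintype F] {m : ℕ} (hm : 1 ≤ m) (hF : Fintype.card F = 2 ^ (2 * m + 1)) (g : ↥(Cfsg.Sz F m)) (hg : g ≠ 1) :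
    ∃! U : Subgroup ↥(Cfsg.Sz F m), ((∃ P : Sylow 2 ↥(Cfsg.Sz F m), U = (P : Subgroup ↥(Cfsg.Sz F m))) ∨
      (IsCyclic ↥U ∧ Nat.card ↥U ∈ ({2 ^ (2 * m + 1) - 1, 2 ^ (2 * m + 1) + 2 ^ (m + 1) + 1, 2 ^ (2 * m + 1) - 2 ^ (m + 1) + 1} : Set ℕ))) ∧ g ∈ U := by
  have := szField_of_card hm hF
  have h8 := eight_le_q (F := F) m
  have hr := r_lt_q (F := F) m
  have e := q_sq_add_one_eq (F := F) m
  have c1 := coprime_tori (F := F) m
  have c2 := coprime_q_sub_one m
  have o1 := odd_q_sub_one m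
  have o2 := odd_q_sq_add_one m
  rw [e, Nat.coprime_mul_iff_right] at c2
  rw [e, Nat.odd_mul] at o2
  by_cases h4 : g ^ 4 = 1
  · have h2 : IsPGroup 2 (Subgroup.zpowers g) := (isPGroup_centralizer hg h4).to_le
      (Subgroup.zpowers_le_of_mem (Subgroup.mem_centralizer_singleton_iff.2 rfl))
    obtain ⟨P, hP⟩ := h2.exists_le_sylow
    refine ⟨P, ⟨Or.inl ⟨P, rfl⟩, hP (Subgroup.mem_zpowers g)⟩, ?_⟩
    rintro U ⟨⟨P', rfl⟩ | ⟨-, hU⟩, hgU⟩
    · obtain ⟨x, hx⟩ := exists_conj_Q m P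
      obtain ⟨y, hy⟩ := exists_conj_Q m P'
      have h5 := mem_map_conj.1 (hx ▸ hP (Subgroup.mem_zpowers g))
      have h6 := mem_map_conj.1 (hy ▸ hgU)
      have h7 : x⁻¹ * y ∈ B F m := mem_B_of_conj_mem m h5 (conj_ne_one hg x)
        (Q_le_B m (by simpa [mul_assoc] using h6))
      rw [hx, hy]
      rw [← normalizer_Q] at h7
      ext z
      rw [mem_map_conj, mem_map_conj, Subgroup.mem_normalizer_iff''.1 h7 (x⁻¹ * z * x)]
      simp [mul_assoc]
    · exfalso
      have hodd : Odd (Nat.card U) := by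
        rcases hU with h | h | h <;> rw [h]
        exacts [o1, o2.1, o2.2]
      have hc : (2 ^ 2).Coprime (Nat.card U) := Nat.Coprime.pow_left _ (Nat.coprime_two_left.2 hodd)
      exact hg ((pow_eq_one_iff_of_coprime hc).1 ⟨h4, congrArg Subtype.val (pow_card_eq_one' (x := (⟨g, hgU⟩ : U)))⟩)
  · refine ⟨Subgroup.centralizer {g}, ⟨Or.inr ⟨isCyclic_centralizer h4, card_centralizer h4⟩,
      Subgroup.mem_centralizer_singleton_iff.2 rfl⟩, ?_⟩
    rintro U ⟨⟨P', rfl⟩ | ⟨hc, hU⟩, hgU⟩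
    · obtain ⟨y, hy⟩ := exists_conj_Q m P'
      exact absurd (pow_four_of_conj_mem_Q (mem_map_conj.1 (hy ▸ hgU))) h4
    · have hle : U ≤ Subgroup.centralizer {g} := by
        let _ := hc.commGroup
        intro y hy
        exact Subgroup.mem_centralizer_singleton_iff.2 (congrArg Subtype.val (mul_comm (⟨y, hy⟩ : U) ⟨g, hgU⟩))
      refine Subgroup.eq_of_le_of_card_ge hle (le_of_eq ?_)
      have hd := Subgroup.card_dvd_of_le hle
      have hpos : 0 < 2 ^ (m + 1) := by positivity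
      rcases card_centralizer h4 with h | h | h <;> rcases hU with h' | h' | h' <;> rw [h, h'] at hd ⊢ <;>
        first
        | rfl
        | exact absurd (c1.eq_one_of_dvd hd) (by omega)
        | exact absurd (c1.symm.eq_one_of_dvd hd) (by omega)
        | exact absurd (c2.1.eq_one_of_dvd hd) (by omega)
        | exact absurd (c2.1.symm.eq_one_of_dvd hd) (by omega)
        | exact absurd (c2.2.eq_one_of_dvd hd) (by omega)
        | exact absurd (c2.2.symm.eq_one_of_dvd hd) (by omega)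

end Cfsg.Agent.S2238
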