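import Cfsg.Statements.S2239
import Cfsg.Agent.Lib.BN.SzSubgroups

set_option autoImplicit false
open Cfsg

namespace Cfsg.Agent.S2239

open Cfsg.Lib.BN.Sz Cfsg.Lib.BN

theorem mono {a b : ℕ} (h : a < b) : a ^ 2 * (a ^ 2 + 1) * (a - 1) < b ^ 2 * (b ^ 2 + 1) * (b - 1) ∨ b ≤ 1 := by
  by_cases hb : b ≤ 1
  · exact Or.inr hb
  left
  calc a ^ 2 * (a ^ 2 + 1) * (a - 1) ≤ a ^ 2 * (a ^ 2 + 1) * (b - 1) := by gcongr
    _ < _ := by
      have : a ^ 2 < b ^ 2 := by gcongr
      have : 0 < b - 1 := by omega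
      gcongr

/-- Subfield subgroups of the Suzuki group: let q = 2^(2m+1) and s = 2^(2k+1) with m, k ≥ 1 and 2k+1 dividing 2m+1 (so q is a power of s), both groups realised as stabilisers in SL₄ of the Suzuki–Tits ovoid. Then Sz(q) has a subgroup isomorphic to Sz(s), and any two subgroups of Sz(q) isomorphic to Sz(s) are conjugate. -/
theorem result {F : Type*} [Field F] [Fintype F] {m : ℕ} (hm : 1 ≤ m) (hF : Fintype.card F = 2 ^ (2 * m + 1)) {K : Type*} [Field K] [Fintype K] {k : ℕ} (hk : 1 ≤ k) (hK : Fintype.card K = 2 ^ (2 * k + 1)) (hdiv : 2 * k + 1 ∣ 2 * m + 1) :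
    (∃ S : Subgroup ↥(Cfsg.Sz F m), Nonempty (↥S ≃* ↥(Cfsg.Sz K k))) ∧
    ∀ S₁ S₂ : Subgroup ↥(Cfsg.Sz F m), Nonempty (↥S₁ ≃* ↥(Cfsg.Sz K k)) → Nonempty (↥S₂ ≃* ↥(Cfsg.Sz K k)) →
      ∃ g : ↥(Cfsg.Sz F m), S₂ = S₁.map (MulAut.conj g).toMonoidHom := by
  have := szField_of_card hm hF
  have := szField_of_card hk hK
  obtain ⟨φ⟩ := nonempty_ringHom (F := F) (K := K) m k hdiv
  refine ⟨⟨_, ⟨(MonoidHom.ofInjective (szMap_injective m k φ)).symm⟩⟩, ?_⟩
  have key : ∀ S : Subgroup (Cfsg.Sz F m), Nonempty (S ≃* Cfsg.Sz K k) →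
      ∃ x, S = (szMap m k φ).range.map (MulAut.conj x).toMonoidHom := by
    rintro S ⟨e⟩
    have hS : ¬ Group.IsSolvable S := by
      intro h
      have h1 : Group.IsSolvable (Cfsg.Sz K k) := Group.isSolvable_of_surjective (f := e.toMonoidHom) e.surjective
      have := nontrivial_Sz (F := K) k
      exact (Group.IsSolvable.commutator_lt_top_of_nontrivial _).ne (commutator_eq_top (F := K) k)
    have hsol : ∀ N : Subgroup (Cfsg.Sz F m), Group.IsSolvable N → S ≤ N → False := fun N hN h =>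
      hS (Group.isSolvable_of_isSolvable_injective (f := Subgroup.inclusion h) (Subgroup.inclusion_injective h))
    rcases subgroup_cases S with ⟨x, h⟩ | ⟨T, hT, h⟩ | ⟨R, k', hk', x, h⟩
    · have := isSolvable_B (F := F) m
      exact (hsol _ (Group.isSolvable_of_surjective (f := ((MulAut.conj x).subgroupMap _).toMonoidHom)
        ((MulAut.conj x).subgroupMap (B F m)).surjective) h).elim
    · exact (hsol _ hT.isSolvable_normalizer h).elim
    · have h1 := Nat.card_congr e.toEquiv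
      rw [h, card_map_conj, card_range_szMap, card_Sz] at h1
      obtain rfl : k' = k := by
        have h2 := eight_le_q (F := K) k
        have h3 := eight_le_q (F := R) k'
        rcases lt_trichotomy k' k with h | h | h
        · have := mono (Nat.pow_lt_pow_right (a := 2) (by norm_num) (show 2 * k' + 1 < 2 * k + 1 by omega))
          omega
        · exact h
        · have := mono (Nat.pow_lt_pow_right (a := 2) (by norm_num) (show 2 * k + 1 < 2 * k' + 1 by omega))
          omega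
      exact ⟨x, by rw [h, range_szMap_eq m k' R.subtype φ]⟩
  intro S₁ S₂ h₁ h₂
  obtain ⟨x, rfl⟩ := key _ h₁
  obtain ⟨y, rfl⟩ := key _ h₂
  exact ⟨y * x⁻¹, by rw [map_conj_map_conj, inv_mul_cancel_right]⟩

end Cfsg.Agent.S2239
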