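import Cfsg.Statements.S2240
import Cfsg.Agent.Lib.BN.SzSubgroups

set_option autoImplicit false
open Cfsg

namespace Cfsg.Agent.S2240

open Cfsg.Lib.BN.Sz Cfsg.Lib.BN

/-- Elementary abelian TI-subgroups of the Suzuki group: let q = 2^(2m+1) with m ≥ 1, the group realised as the stabiliser in SL₄ of the Suzuki–Tits ovoid, and n ≥ 2. There is an elementary abelian 2-subgroup E of order 2^n that is a TI-subgroup (every conjugate of E meeting E nontrivially is E itself) if and only if n divides 2m + 1. -/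
theorem result {F : Type*} [Field F] [Fintype F] {m : ℕ} (hm : 1 ≤ m) (hF : Fintype.card F = 2 ^ (2 * m + 1)) (n : ℕ) (hn : 2 ≤ n) :
    (∃ E : Subgroup ↥(Cfsg.Sz F m), Cfsg.IsElementaryAbelian 2 E ∧ Nat.card ↥E = 2 ^ n ∧
      ∀ x : ↥(Cfsg.Sz F m), E ⊓ E.map (MulAut.conj x).toMonoidHom ≠ ⊥ → x ∈ Subgroup.normalizer (E : Set ↥(Cfsg.Sz F m))) ↔ n ∣ 2 * m + 1 := by
  have hsz := szField_of_card hm hF
  have := charP (F := F) m
  constructor
  · rintro ⟨E, ⟨hc, h2⟩, hcard, hTI⟩
    have hP : IsPGroup 2 E := IsPGroup.of_card hcard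
    obtain ⟨P, hP⟩ := hP.exists_le_sylow
    obtain ⟨x, hx⟩ := exists_conj_Q m P
    rw [hx] at hP
    let E' := E.map (MulAut.conj x⁻¹).toMonoidHom
    have hE' : ∀ g ∈ E', ∃ b, g = U m 0 b := by
      intro g hg
      obtain ⟨a, b, rfl⟩ := map_conj_le_iff.2 hP hg
      obtain ⟨y, hy, e⟩ := hg
      have h3 : U m a b * U m a b = 1 := by rw [← e, ← map_mul, ← sq, h2 y hy, map_one]
      rw [U_sq, U_eq_one_iff] at h3
      have : a = 0 := by simpa using h3.2
      exact ⟨b, by rw [this]⟩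
    have hcA : Nat.card (ZPar E') = 2 ^ n := by
      rw [← hcard, ← card_map_conj E x⁻¹]
      refine Nat.card_congr (Equiv.ofBijective (fun b => ⟨U m 0 b, b.2⟩) ⟨fun b c h => ?_, ?_⟩)
      · exact Subtype.ext ((U_inj m).1 (congrArg Subtype.val h)).2
      · rintro ⟨g, hg⟩
        obtain ⟨b, rfl⟩ := hE' g hg
        exact ⟨⟨b, hg⟩, rfl⟩
    obtain ⟨⟨b₀, hb⟩, hb0⟩ : ∃ b : ZPar E', b ≠ 0 := by
      have : Nontrivial (ZPar E') := Finite.one_lt_card_iff_nontrivial.1 (by
        rw [hcA]; exact Nat.one_lt_two_pow (by omega))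
      exact exists_ne 0
    have h0 : b₀ ≠ 0 := fun e => hb0 (Subtype.ext e)
    have key : ∀ c : F, c ≠ 0 → c * b₀ ∈ ZPar E' → ∀ b, b ∈ ZPar E' ↔ c * b ∈ ZPar E' := by
      intro c hc hcb b
      obtain ⟨k, rfl⟩ := mul_σ_surjective m c
      have hk : k ≠ 0 := by rintro rfl; simp at hc
      have e : ∀ b, D m (Units.mk0 k hk) * U m 0 b * (D m (Units.mk0 k hk))⁻¹ = U m 0 (k * σ m k * b) := by
        intro b; simp [D_conj_U]
      have h3 := hTI (x * D m (Units.mk0 k hk) * x⁻¹) (by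
        rw [Subgroup.ne_bot_iff_exists_ne_one]
        refine ⟨⟨x * U m 0 (k * σ m k * b₀) * x⁻¹, by simpa using mem_map_conj.1 hcb, mem_map_conj.2 ?_⟩, ?_⟩
        · rw [← e]
          convert mem_map_conj.1 hb using 1
          group
        · intro h
          have := congrArg Subtype.val h
          simp [U_eq_one_iff, h0, hk] at this)
      rw [mem_ZPar, mem_ZPar, mem_map_conj, mem_map_conj, Subgroup.mem_normalizer_iff.1 h3, ← e]
      simp [mul_assoc]
    let R : Subfield F :=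
      { carrier := {c | c * b₀ ∈ ZPar E'}
        mul_mem' := fun {c d} hc hd => by
          by_cases h : c = 0
          · change c * d * b₀ ∈ ZPar E'
            rw [h, zero_mul, zero_mul]; exact zero_mem _
          · change c * d * b₀ ∈ ZPar E'
            rw [mul_assoc]; exact (key c h hc _).1 hd
        one_mem' := by change 1 * b₀ ∈ ZPar E'; rwa [one_mul]
        add_mem' := fun {c d} hc hd => by change (c + d) * b₀ ∈ ZPar E'; rw [add_mul]; exact add_mem hc hd
        zero_mem' := by change 0 * b₀ ∈ ZPar E'; rw [zero_mul]; exact zero_mem _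
        neg_mem' := fun {c} hc => by rwa [CharTwo.neg_eq]
        inv_mem' := fun c hc => by
          by_cases h : c = 0
          · rwa [h, inv_zero, ← h]
          · exact (key c h hc _).2 (by rwa [mul_inv_cancel_left₀ h]) }
    have hR : Nat.card R = 2 ^ n := by
      rw [← hcA]
      exact Nat.card_congr ((Equiv.mulRight₀ b₀ h0).subtypeEquiv fun _ => Iff.rfl)
    obtain ⟨d, hd⟩ := exists_card_eq_pow_of_ringHom R.subtype
    rw [hsz.card_eq, hR, ← pow_mul, Nat.pow_right_inj (by norm_num)] at hd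
    exact ⟨d, hd⟩
  · intro hd
    obtain ⟨φ⟩ := nonempty_ringHom_of_dvd (K := GaloisField 2 n) (F := F) (GaloisField.card 2 n (by omega))
      hsz.card_eq hd
    let ψ : Multiplicative (GaloisField 2 n) →* Cfsg.Sz F m :=
      { toFun := fun b => U m 0 (φ b.toAdd)
        map_one' := by simp [U_zero]
        map_mul' := fun a b => by simp [U_mul] }
    have hψ : Function.Injective ψ := fun a b h => φ.injective ((U_inj m).1 h).2
    refine ⟨ψ.range, ⟨inferInstance, ?_⟩, ?_, fun x hx => ?_⟩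
    · rintro _ ⟨b, rfl⟩
      rw [sq]; exact U_zero_mul_self m _
    · rw [← Nat.card_congr (MonoidHom.ofInjective hψ).toEquiv]
      exact GaloisField.card 2 n (by omega)
    · obtain ⟨⟨_, ⟨b, rfl⟩, hb⟩, hb1⟩ := Subgroup.ne_bot_iff_exists_ne_one.1 hx
      obtain ⟨c, hc⟩ := mem_map_conj.1 hb
      have h1 : ψ b ≠ 1 := fun e => hb1 (Subtype.ext e)
      have hxB : x ∈ B F m := mem_B_of_conj_mem m (U_mem_Q m _ _) h1 (hc ▸ Q_le_B m (U_mem_Q m _ _))
      obtain ⟨s, t, k, rfl⟩ := (mem_B m).1 hxB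
      have h2 : U m 0 (φ b.toAdd) = U m 0 (k * σ m (k : F) * φ c.toAdd) := by
        rw [← conj_U_zero s t]
        change ψ b = _ * ψ c * _
        rw [hc]; group
      have h3 : c.toAdd ≠ 0 := fun e => h1 (by change U m 0 _ = 1; rw [h2, e]; simp [U_zero])
      refine Subgroup.mem_normalizer_fintype ?_
      rintro _ ⟨d, rfl⟩
      refine ⟨Multiplicative.ofAdd (b.toAdd / c.toAdd * d.toAdd), ?_⟩
      change U m 0 _ = _ * U m 0 _ * _
      rw [conj_U_zero, toAdd_ofAdd, map_mul, map_div₀, ((U_inj m).1 h2).2, mul_div_cancel_right₀ _ (by simpa using h3)]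

end Cfsg.Agent.S2240
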