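import Cfsg.Statements.S2241
import Cfsg.Agent.Lib.BN.SzModel

set_option autoImplicit false
open Cfsg

namespace Cfsg.Agent.S2241

open Cfsg.Lib.BN.Sz

/-- Real 2-elements of the Suzuki group: with q = 2^(2m+1), m ≥ 1, and the group realised as the stabiliser in SL₄ of the Suzuki–Tits ovoid, a non-identity element of a Sylow 2-subgroup is conjugate to its inverse if and only if it is an involution; in particular no element of order 4 is conjugate to its inverse. -/
theorem result {F : Type*} [Field F] [Fintype F] {m : ℕ} (hm : 1 ≤ m) (hF : Fintype.card F = 2 ^ (2 * m + 1)) (P : Sylow 2 ↥(Cfsg.Sz F m)) (g : ↥(Cfsg.Sz F m)) (hg : g ∈ (P : Subgroup ↥(Cfsg.Sz F m))) (h1 : g ≠ 1) :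
    IsConj g g⁻¹ ↔ orderOf g = 2 := by
  have := szField_of_card hm hF
  have := charP (F := F) m
  obtain ⟨x, hx⟩ := exists_conj_Q m P
  rw [hx] at hg
  obtain ⟨_, ⟨a, b, rfl⟩, rfl⟩ := hg
  have h2 : U m a b ≠ 1 := fun h => h1 (by simp [h])
  have e1 : orderOf ((MulAut.conj x).toMonoidHom (U m a b)) = orderOf (U m a b) :=
    (MulAut.conj x).orderOf_eq _
  rw [e1]
  constructor
  · intro h
    have h3 : IsConj (U m a b) (U m a b)⁻¹ := by
      obtain ⟨c, hc⟩ := isConj_iff.1 h
      refine isConj_iff.2 ⟨x⁻¹ * c * x, ?_⟩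
      have : c * (x * U m a b * x⁻¹) * c⁻¹ = (x * U m a b * x⁻¹)⁻¹ := hc
      calc _ = x⁻¹ * (c * (x * U m a b * x⁻¹) * c⁻¹) * x := by group
        _ = _ := by rw [this]; group
    obtain ⟨c, hc⟩ := isConj_iff.1 h3
    have hc' : c ∈ B F m := by
      have := mem_B_of_conj_mem m (g := c⁻¹) (U_mem_Q m a b) h2
        (by rw [inv_inv, hc]; exact Subgroup.inv_mem _ (Q_le_B m (U_mem_Q m a b)))
      simpa using this
    obtain ⟨s, t, k, rfl⟩ := (mem_B m).1 hc'
    have e : U m s t * D m k * U m a b * (U m s t * D m k)⁻¹ =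
        U m s t * (D m k * U m a b * (D m k)⁻¹) * (U m s t)⁻¹ := by group
    rw [e, D_conj_U, U_inv, U_inv, U_mul, U_mul, U_inj] at hc
    by_cases ha : a = 0
    · subst ha
      exact orderOf_U_zero m fun hb => h2 ((U_eq_one_iff m).2 ⟨rfl, hb⟩)
    · exfalso
      obtain ⟨hc1, hc2⟩ := hc
      have hk : (k : F) = 1 := by grind
      simp only [hk, map_one, map_add, one_mul] at hc2
      -- σ s * a + σ a * s = σ a * a has no solution (trace argument)
      have h4 : σ m (s / a) + s / a = 1 := by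
        have : σ m a ≠ 0 := by simpa using ha
        rw [map_div₀]; field_simp; grind
      have h5 := congrArg (σ m) h4
      rw [map_add, σ_σ, map_one] at h5
      have h6 : (s / a) ^ 2 = s / a := by grind
      have h7 : s / a = 0 ∨ s / a = 1 := by grind
      rcases h7 with h7 | h7 <;> rw [h7] at h4 <;> simp at h4
  · intro h
    have : U m a b * U m a b = 1 := by rw [← sq, ← h, pow_orderOf_eq_one]
    rw [inv_eq_of_mul_eq_one_left (a := (MulAut.conj x).toMonoidHom (U m a b))
      (by rw [← map_mul, this, map_one])]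

end Cfsg.Agent.S2241
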