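import Cfsg.Statements.S2244
import Cfsg.Agent.Lib.Chev.WC
import Cfsg.Agent.Lib.Chev.AutD
import Cfsg.Agent.Lib.Twist.RootAll

set_option autoImplicit false
open Cfsg Cfsg.Lie Cfsg.Lib.Chev Cfsg.Lib.Twist

namespace Cfsg.Agent.S2244

set_option synthInstance.maxSize 4000
set_option synthInstance.maxHeartbeats 400000

theorem aux {D : ChevalleyDatum} {t : RTab} (h : RootOK D t) {η : ℕ → ℕ → ℤ} (hm : MatOK D η) {F : Type*} [Field F] [Fintype F]
    (h2 : Fintype.card F ≠ 2) (n : ℕ) (h3 : n ≠ 1 → Fintype.card F ≠ 3)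
    (d1 : ∀ k < D.nroots, 2 ≤ htN D t k → ∃ i < D.rank, ∃ j ∈ [1, 2, 3], j ≤ n ∧ ∃ s ∈ D.chainRoot (D.neg (D.simple i)) k j,
      (s < D.nroots ∧ D.nroots ≤ 2 * s) ∧ ∃ e ∈ [1, -1], ∀ a ∈ colW D 0 ((k, mulP 0 (cstP e) (isoP j)) ::
        cmW (isoW (D.simple i) s j (varP 1) (varP 0))), htN D t k < htN D t a.1)
    (d2 : ∀ i < D.rank, ∀ j < D.rank, j ≠ i → ∃ r < D.nroots, prN D r (D.simple j) = 0 ∧
      (prN D r (D.simple i) = 1 ∨ (n ≠ 1 ∧ prN D r (D.simple i) = 2)))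
    (X : Subgroup (GL D.Idx F)) (hXU : X ≤ D.posUnipotent F)
    (hwc : ∀ g ∈ D.group F, X.map (MulAut.conj g).toMonoidHom ≤ D.posUnipotent F → X.map (MulAut.conj g).toMonoidHom = X) :
    ∃ J : Set ℕ, (∀ j ∈ J, j < D.rank) ∧ X = D.unipotentRadical F J := by
  classical
  have hc := h.compat
  obtain ⟨p, _⟩ := CharP.exists F
  have := Fact.mk (CharP.char_is_prime F p)
  have k : ∀ s : Finset F, s.card < Fintype.card F → ∃ a, a ∉ s := fun s hs => by
    by_contra! h; exact absurd (Finset.card_le_card (s := Finset.univ) fun a _ => h a) (not_le.2 hs)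
  have h1 := Fintype.one_lt_card (α := F)
  obtain ⟨a, ha⟩ := k {0, 1} (Finset.card_le_two.trans_lt (by omega))
  simp only [Finset.mem_insert, Finset.mem_singleton, not_or] at ha
  have k3 : n ≠ 1 → ∀ c : F, ∃ b, b ≠ 0 ∧ b ≠ 1 ∧ b ≠ c := fun hn c => by
    simpa using k {0, 1, c} (Finset.card_le_three.trans_lt (by have := h3 hn; omega))
  rw [hc.posUnipotent_eq hm] at hXU hwc
  obtain ⟨J, rfl⟩ := (hc.st hm).weakly_closed (hc.sep hm) (hc.opp hm) p (lev_two_le h (hc.exact hm) (fun hn => by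
    obtain ⟨b, hb⟩ := k3 hn a
    exact ⟨a, b, ha.1, ha.2, hb.1, hb.2.1, hb.2.2.symm⟩) d1) (fun i j hij => by
      obtain ⟨r, hr, e1, e2⟩ := d2 i i.2 j j.2 fun e => hij (Fin.ext e)
      rw [← hc.simple_eq, ← hc.pair_eq ⟨r, hr⟩] at e1 e2
      rcases e2 with e2 | ⟨hn, e2⟩
      · exact ⟨_, a, ha.1, e1, by rw [e2, zpow_one]; exact ha.2⟩
      · obtain ⟨b, hb⟩ := k3 hn (-1)
        exact ⟨_, b, hb.1, e1, by rw [e2, zpow_ofNat, Ne, sq_eq_one_iff, not_or]; exact hb.2⟩) hXU fun g hg hX => by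
    have := hwc g (hc.group_eq hm (F := F) ▸ hg) (by rintro _ ⟨x, hx, rfl⟩; exact hX x hx)
    exact Subgroup.mem_normalizer_iff.2 fun x => ⟨fun hx => this.le ⟨x, hx, rfl⟩, fun hx => by
      obtain ⟨y, hy, e⟩ := this.ge hx
      rwa [← (MulAut.conj g).injective e]⟩
  exact ⟨Fin.val '' J, by rintro _ ⟨i, -, rfl⟩; exact i.2, by rw [hc.unipotentRadical_eq hm]; simp [Fin.val_inj]⟩

/-- Weakly closed unipotent subgroups of Chevalley groups: let G be the Chevalley group of type G₂, B₂, D₄, F₄, E₆, E₇ or E₈ over a finite field F (the matrix group generated by the root elements), with |F| ≠ 2, and |F| ≠ 3 as well for the types G₂, B₂, D₄, F₄. Let U be the subgroup generated by the positive root subgroups. If X ≤ U is weakly closed in U with respect to G (every G-conjugate of X lying in U equals X), then X is the unipotent radical U_J of a standard parabolic subgroup for some set J of fundamental roots. -/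
theorem result {F : Type*} [Field F] [Fintype F] (D : Cfsg.Lie.ChevalleyDatum) (hD : D ∈ [Cfsg.Lie.chevG2, Cfsg.Lie.chevB2, Cfsg.Lie.chevD4, Cfsg.Lie.chevF4, Cfsg.Lie.chevE6, Cfsg.Lie.chevE7, Cfsg.Lie.chevE8])
    (h2 : Fintype.card F ≠ 2) (h3 : D ∈ [Cfsg.Lie.chevG2, Cfsg.Lie.chevB2, Cfsg.Lie.chevD4, Cfsg.Lie.chevF4] → Fintype.card F ≠ 3)
    (X : Subgroup (GL D.Idx F)) (hXU : X ≤ D.posUnipotent F)
    (hwc : ∀ g ∈ D.group F, X.map (MulAut.conj g).toMonoidHom ≤ D.posUnipotent F → X.map (MulAut.conj g).toMonoidHom = X) :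
    ∃ J : Set ℕ, (∀ j ∈ J, j < D.rank) ∧ X = D.unipotentRadical F J := by
  simp only [List.mem_cons, List.not_mem_nil, or_false] at hD
  rcases hD with rfl | rfl | rfl | rfl | rfl | rfl | rfl
  · exact aux rootOK_G2 matOK_G2 h2 3 (fun _ => h3 (by simp)) (by decide +kernel) (by decide +kernel) X hXU hwc
  · exact aux rootOK_B2 matOK_B2 h2 2 (fun _ => h3 (by simp)) (by decide +kernel) (by decide +kernel) X hXU hwc
  · exact aux rootOK_D4 matOK_D4 h2 2 (fun _ => h3 (by simp)) (by decide +kernel) (by decide +kernel) X hXU hwc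
  · exact aux rootOK_F4 matOK_F4 h2 2 (fun _ => h3 (by simp)) (by decide +kernel) (by decide +kernel) X hXU hwc
  · exact aux rootOK_E6 matOK_E6 h2 1 (fun h => (h rfl).elim) (by decide +kernel) (by decide +kernel) X hXU hwc
  · exact aux rootOK_E7 matOK_E7 h2 1 (fun h => (h rfl).elim) (by decide +kernel) (by decide +kernel) X hXU hwc
  · exact aux rootOK_E8 matOK_E8 h2 1 (fun h => (h rfl).elim) (by decide +kernel) (by decide +kernel) X hXU hwc

end Cfsg.Agent.S2244
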