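import Cfsg.Statements.S2245
import Cfsg.Agent.Lib.Linear.SylTwo2
import Cfsg.Agent.Lib.Core.Frattini

set_option autoImplicit false
open Cfsg

namespace Cfsg.Agent.S2245

open Cfsg.Lib Cfsg.Lib.Linear Cfsg.Lib.Amalg Subgroup Equiv

theorem uniq_iff {G : Type*} [Group G] [Finite G] {R : Subgroup G} : (∃! M : Subgroup G, IsCoatom M ∧ R ≤ M) ↔
    ∃ M ≠ ⊤, R ≤ M ∧ ∀ H, R ≤ H → H ≠ ⊤ → H ≤ M := by
  refine ⟨fun ⟨M, ⟨h1, h2⟩, h3⟩ => ⟨M, h1.1, h2, fun H h4 h5 => ?_⟩, fun ⟨M, h1, h2, h3⟩ => ⟨M, ⟨⟨h1, fun H h4 => ?_⟩, h2⟩,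
    fun K h4 => (h4.1.le_iff.mp (h3 K h4.2 h4.1.1)).resolve_left h1 |>.symm⟩⟩
  · obtain ⟨K, h6, h7⟩ := (eq_top_or_exists_le_coatom H).resolve_left h5
    exact h3 K ⟨h6, h4.trans h7⟩ ▸ h7
  · by_contra h5
    exact h4.not_ge (h3 H (h2.trans h4.le) h5)

/-- For n ≥ 5 with n ≠ 6, a Sylow 2-subgroup of the alternating group A_n lies in exactly one maximal subgroup of A_n if and only if n = 2^k + 1 for some k ≥ 2; the same holds for the symmetric group S_n. -/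
theorem result (n : ℕ) (hn : 5 ≤ n) (h6 : n ≠ 6) :
    ((∀ R : Sylow 2 ↥(alternatingGroup (Fin n)), (∃! M : Subgroup ↥(alternatingGroup (Fin n)), IsCoatom M ∧ (R : Subgroup ↥(alternatingGroup (Fin n))) ≤ M) ↔ ∃ k : ℕ, 2 ≤ k ∧ n = 2 ^ k + 1) ∧
    (∀ R : Sylow 2 (Equiv.Perm (Fin n)), (∃! M : Subgroup (Equiv.Perm (Fin n)), IsCoatom M ∧ (R : Subgroup (Equiv.Perm (Fin n))) ≤ M) ↔ ∃ k : ℕ, 2 ≤ k ∧ n = 2 ^ k + 1)) := by
  have hc : Fintype.card (Fin n) = n := Fintype.card_fin n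
  have h0 : ∀ x : Fin n, ∃ g ∈ alternatingGroup (Fin n), g x ≠ x := fun x => by
    obtain ⟨y, hy⟩ := exists_notMem_of_card_lt {x} (by simp; omega)
    rw [Finset.mem_singleton] at hy
    obtain ⟨g, hg, h, -⟩ := exists_alt_two (by omega) (Ne.symm hy) hy
    exact ⟨g, hg, h ▸ hy⟩
  have hk : (¬ ∃ k, 2 ≤ k ∧ n = 2 ^ k + 1) → ∀ k, Fintype.card (Fin n) ≠ 2 ^ k + 1 := fun h k hk =>
    h ⟨k, by rcases k with _ | _ | k <;> simp at hk ⊢ <;> omega, hc ▸ hk⟩
  refine ⟨fun R => ?_, fun R => ?_⟩ <;> rw [uniq_iff]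
  · have h1 := syl_of_sylow R
    obtain ⟨P, hP, h2⟩ := exists_syl_ge h1.isPGroup le_top
    have h3 := h1.eq_of_le (P ⊓ alternatingGroup _) (le_inf h2 h1.le) inf_le_right hP.isPGroup.to_inf_left
    have h4 : ∀ {H}, P ≤ H → (R : Subgroup (alternatingGroup (Fin n))) ≤ H.subgroupOf _ := fun h =>
      map_le_iff_le_comap.mp (h2.trans h)
    constructor
    · rintro ⟨M, a1, -, a2⟩
      by_contra h
      obtain ⟨H, K, b1, b2, b3, b4, b5⟩ := exists_two_overgroups hP (by omega) (hk h)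
      refine a1 (top_le_iff.mp fun g _ => (mem_map_iff_mem (f := Subgroup.subtype _) Subtype.val_injective).mp
        (b5.trans (sup_le ?_ ?_) g.2))
      · exact subgroupOf_map_subtype H _ ▸ map_mono (a2 _ (h4 b1) (mt subgroupOf_eq_top.mp b3))
      · exact subgroupOf_map_subtype K _ ▸ map_mono (a2 _ (h4 b2) (mt subgroupOf_eq_top.mp b4))
    · rintro ⟨k, a1, a2⟩
      obtain ⟨x, b1, -, b2⟩ := exists_fixed_point hP a1 (hc.trans a2)
      obtain ⟨g, b3, b4⟩ := h0 x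
      refine ⟨(MulAction.stabilizer _ x).subgroupOf _, fun h => b4 (subgroupOf_eq_top.mp h b3), h4 b1, fun H b5 b6 g hg => ?_⟩
      by_contra b7
      exact b6 (top_le_iff.mp fun k _ => (mem_map_iff_mem Subtype.val_injective).mp
        (b2 (H.map (Subgroup.subtype _)) (h3 ▸ map_mono b5) (map_subtype_le _) ⟨g, mem_map_of_mem _ hg, b7⟩ k.2))
  · have hP := syl_top R
    constructor
    · rintro ⟨M, a1, a3, a2⟩
      by_contra h
      obtain ⟨H, K, b1, b2, b3, b4, b5⟩ := exists_two_overgroups hP (by omega) (hk h)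
      have b6 := b5.trans (sup_le (inf_le_left.trans (a2 H b1 fun h => b3 (h ▸ le_top)))
        (inf_le_left.trans (a2 K b2 fun h => b4 (h ▸ le_top))))
      have : Nontrivial (Fin n) := Fin.nontrivial_iff_two_le.mpr (by omega)
      have b7 := ((Core.isCoatom_of_index_prime (alternatingGroup.index_eq_two (α := Fin n) ▸ Nat.prime_two)).le_iff.mp
        b6).resolve_left a1
      exact hP.not_dvd_index ((alternatingGroup.index_eq_two (α := Fin n)).symm.dvd.trans (index_dvd_of_le (b7 ▸ a3)))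
    · rintro ⟨k, a1, a2⟩
      obtain ⟨x, b1, b2, -⟩ := exists_fixed_point hP a1 (hc.trans a2)
      obtain ⟨g, -, b4⟩ := h0 x
      refine ⟨MulAction.stabilizer _ x, fun h => b4 (h.ge (mem_top g)), b1, fun H b5 b6 g hg => ?_⟩
      by_contra b7
      exact b6 (b2 H b5 ⟨g, hg, b7⟩)

end Cfsg.Agent.S2245
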