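import Cfsg.Statements.S2251
import Cfsg.Agent.Lib.BN.SzSubgroups

set_option autoImplicit false
open Cfsg

namespace Cfsg.Agent.S2251

open Cfsg.Lib.BN.Sz Cfsg.Lib.BN

/-- The subgroups of the Suzuki group: with q = 2^(2m+1), m ≥ 1, r = 2^m and the group realised as the stabiliser in SL₄ of the Suzuki–Tits ovoid, every proper subgroup is contained in the normalizer of a Sylow 2-subgroup, or in the normalizer of a cyclic subgroup of order q − 1, q + 2r + 1 or q − 2r + 1, or in a subgroup isomorphic to a smaller Suzuki group Sz(s) with s = 2^(2k+1) ≥ 8 and 2k+1 a proper divisor of 2m+1. -/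
theorem result {F : Type*} [Field F] [Fintype F] {m : ℕ} (hm : 1 ≤ m) (hF : Fintype.card F = 2 ^ (2 * m + 1)) (M : Subgroup ↥(Cfsg.Sz F m)) (hM : M ≠ ⊤) :
    (∃ P : Sylow 2 ↥(Cfsg.Sz F m), M ≤ Subgroup.normalizer ((P : Subgroup ↥(Cfsg.Sz F m)) : Set ↥(Cfsg.Sz F m))) ∨
    (∃ U : Subgroup ↥(Cfsg.Sz F m), IsCyclic ↥U ∧ Nat.card ↥U ∈ ({2 ^ (2 * m + 1) - 1, 2 ^ (2 * m + 1) + 2 ^ (m + 1) + 1, 2 ^ (2 * m + 1) - 2 ^ (m + 1) + 1} : Set ℕ) ∧
      M ≤ Subgroup.normalizer (U : Set ↥(Cfsg.Sz F m))) ∨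
    (∃ (K : Type) (_ : Field K) (_ : Fintype K) (k : ℕ), 1 ≤ k ∧ k < m ∧ Fintype.card K = 2 ^ (2 * k + 1) ∧ 2 * k + 1 ∣ 2 * m + 1 ∧
      ∃ S : Subgroup ↥(Cfsg.Sz F m), Nonempty (↥S ≃* ↥(Cfsg.Sz K k)) ∧ M ≤ S) := by
  have := szField_of_card hm hF
  rcases subgroup_cases M with ⟨x, h⟩ | ⟨T, hT, h⟩ | ⟨R, k, hk, x, h⟩
  · refine Or.inl ⟨x • QSylow F m, ?_⟩
    rwa [← normalizer_Q, Subgroup.map_equiv_normalizer_eq] at h
  · exact Or.inr (Or.inl ⟨T, hT.isCyclic, hT.card_eq, h⟩)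
  · have hd := dvd_of_ringHom m k R.subtype
    let _ := Fintype.ofFinite (GaloisField 2 (2 * k + 1))
    have hc : Nat.card (GaloisField 2 (2 * k + 1)) = 2 ^ (2 * k + 1) := GaloisField.card 2 _ (by omega)
    have hK : SzField (GaloisField 2 (2 * k + 1)) k := ⟨inferInstance, hc, hk.one_le⟩
    obtain ⟨φ⟩ := nonempty_ringHom (F := F) (K := GaloisField 2 (2 * k + 1)) m k hd
    refine Or.inr (Or.inr ⟨GaloisField 2 (2 * k + 1), inferInstance, inferInstance, k, hk.one_le, ?_,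
      by rw [← Nat.card_eq_fintype_card, hc], hd, M, ⟨?_⟩, le_rfl⟩)
    · have h1 := Nat.le_of_dvd (by omega) hd
      by_contra h2
      obtain rfl : k = m := by omega
      apply hM
      rw [← Subgroup.card_eq_iff_eq_top, h, card_map_conj, card_range_szMap, card_Sz]
    · rw [h, range_szMap_eq m k R.subtype φ]
      exact ((MonoidHom.ofInjective (szMap_injective m k φ)).trans ((MulAut.conj x).subgroupMap _)).symm

end Cfsg.Agent.S2251
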