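import Cfsg.Statements.S2254
import Cfsg.Agent.Lib.Linear.NilMax

set_option autoImplicit false
open Cfsg

namespace Cfsg.Agent.S2254

open Cfsg.Lib.Linear Cfsg.Lib.Core Finset

/-- Let n ≡ 3 (mod 4). Then every nilpotent subgroup of the symmetric group on n letters has order at most 3 times the order of a Sylow 2-subgroup of the symmetric group on n − 3 letters; the bound is attained by a nilpotent subgroup isomorphic to the direct product of such a Sylow 2-subgroup with a cyclic group of order 3; and any two nilpotent subgroups attaining the bound are conjugate. -/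
theorem result  (n : ℕ) (hn : n % 4 = 3)
    (P : Sylow 2 (Equiv.Perm (Fin (n - 3)))) :
    (∀ N : Subgroup (Equiv.Perm (Fin n)), Group.IsNilpotent N → Nat.card N ≤ 3 * Nat.card P) ∧
    (∃ M : Subgroup (Equiv.Perm (Fin n)), Group.IsNilpotent M ∧ Nat.card M = 3 * Nat.card P ∧
      Nonempty (M ≃* (↥(P : Subgroup (Equiv.Perm (Fin (n - 3)))) × Multiplicative (ZMod 3)))) ∧
    (∀ N₁ N₂ : Subgroup (Equiv.Perm (Fin n)), Group.IsNilpotent N₁ → Group.IsNilpotent N₂ →
      Nat.card N₁ = 3 * Nat.card P → Nat.card N₂ = 3 * Nat.card P →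
      ∃ g : Equiv.Perm (Fin n), N₂ = N₁.map (MulAut.conj g).toMonoidHom) := by
  have h1 : Nat.card P = 2 ^ v2 (n - 3) := by rw [P.card_eq_multiplicity, Nat.card_perm, v2]; simp
  have h2 : nilS #(univ : Finset (Fin n)) = 3 * Nat.card P := by rw [card_fin, nilS, if_pos hn, h1]
  have h3 := fun s : Finset (Fin n) => factorization_psupp s ▸ (nilS_bounds #s).1
  have h4 := fun d j h h' => (nilS_step (d := d) j h h').1
  have h5 : ∀ N, N ≤ psupp (univ : Finset (Fin n)) ⊓ ⊤ := by simp [psupp_univ]
  refine ⟨fun N hN => h2 ▸ card_le_nil h3 h4 hN (h5 N), ?_, fun A B hA hB a b => ?_⟩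
  · obtain ⟨ψ, h, -⟩ := exists_hom_prod_three (show 3 ≤ n by omega)
    have e := MonoidHom.ofInjective (f := ψ.comp ((P : Subgroup _).subtype.prodMap (.id _)))
      (h.comp ((Subgroup.subtype_injective _).prodMap Function.injective_id))
    have := P.isPGroup'.isNilpotent
    exact ⟨_, Group.nilpotent_of_mulEquiv e, by rw [← Nat.card_congr e.toEquiv]; simp [mul_comm], ⟨e.symm⟩⟩
  obtain ⟨g, -, e⟩ := exists_cj_nil h3 h4 (.inl rfl) hA hB (h5 A) (h5 B) (a.trans h2.symm) (b.trans h2.symm)
    (by rw [h2, h1, card_fin, nilS, if_neg (by omega), mul_comm]) (fun d j a b c _ => (nilS_step j a b).2 c)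
    fun t ht => by rw [factorization_psupp, nilS, if_neg (by rw [ht, card_fin]; omega)]
  exact ⟨g, e.symm⟩

end Cfsg.Agent.S2254
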