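import Cfsg.Statements.S2255
import Cfsg.Agent.Lib.Linear.NilMax

set_option autoImplicit false
open Cfsg

namespace Cfsg.Agent.S2255

open Cfsg.Lib.Linear Cfsg.Lib.Core

/-- Let n be a natural number not congruent to 3 modulo 4, with n ∉ {5, 6, 9}. Then every nilpotent subgroup of the alternating group on n letters has order at most the order of a Sylow 2-subgroup of the alternating group (so the nilpotent subgroups of largest order are exactly the Sylow 2-subgroups). -/
theorem result  (n : ℕ) (hn : n % 4 ≠ 3)
    (h5 : n ≠ 5) (h6 : n ≠ 6) (h9 : n ≠ 9)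
    (N : Subgroup (alternatingGroup (Fin n))) (hN : Group.IsNilpotent N)
    (P : Sylow 2 (alternatingGroup (Fin n))) :
    Nat.card N ≤ Nat.card P := by
  have := card_le_nil (G := nilA) two_pow_le_nilA (fun d j h h' => (nilA_step j h h').1)
    (isNilpotent_map N (Subgroup.subtype _)) (s := Finset.univ) (by simpa [psupp_univ] using Subgroup.map_subtype_le N)
  rwa [nilA, ← factorization_psupp_alt, Finset.card_fin, if_neg h5, if_neg h6, if_neg h9, if_neg hn, psupp_univ, top_inf_eq,
    ← P.card_eq_multiplicity, Subgroup.card_subtype] at this

end Cfsg.Agent.S2255
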