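import Cfsg.Statements.S2256
import Cfsg.Agent.Lib.Linear.NilMax

set_option autoImplicit false
open Cfsg

namespace Cfsg.Agent.S2256

open Cfsg.Lib.Linear Cfsg.Lib.Core Finset

/-- Let n ≡ 3 (mod 4) with n ≥ 7. Then every nilpotent subgroup of the alternating group on n letters has order at most 3 times the order of a Sylow 2-subgroup of the alternating group on n − 3 letters; the bound is attained by a nilpotent subgroup isomorphic to the direct product of such a Sylow 2-subgroup with a cyclic group of order 3; and any two nilpotent subgroups of the alternating group attaining the bound are conjugate in it. -/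
theorem result  (n : ℕ) (hn : n % 4 = 3) (h7 : 7 ≤ n)
    (P : Sylow 2 (alternatingGroup (Fin (n - 3)))) :
    (∀ N : Subgroup (alternatingGroup (Fin n)), Group.IsNilpotent N → Nat.card N ≤ 3 * Nat.card P) ∧
    (∃ M : Subgroup (alternatingGroup (Fin n)), Group.IsNilpotent M ∧ Nat.card M = 3 * Nat.card P ∧
      Nonempty (M ≃* (↥(P : Subgroup (alternatingGroup (Fin (n - 3)))) × Multiplicative (ZMod 3)))) ∧
    (∀ N₁ N₂ : Subgroup (alternatingGroup (Fin n)), Group.IsNilpotent N₁ → Group.IsNilpotent N₂ →
      Nat.card N₁ = 3 * Nat.card P → Nat.card N₂ = 3 * Nat.card P →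
      ∃ g : alternatingGroup (Fin n), N₂ = N₁.map (MulAut.conj g).toMonoidHom) := by
  have h1 : Nat.card P = 2 ^ (v2 (n - 3) - 1) := by
    simpa [P.card_eq_multiplicity, psupp_univ] using factorization_psupp_alt (univ : Finset (Fin (n - 3)))
  have h2 : nilA #(univ : Finset (Fin n)) = 3 * Nat.card P := by
    rw [card_fin, nilA, if_pos hn, h1, if_neg (by omega), if_neg (by omega), if_neg (by omega)]
  have h4 := fun d j h h' => (nilA_step (d := d) j h h').1
  have h5 : ∀ N : Subgroup (alternatingGroup (Fin n)), N.map (Subgroup.subtype _) ≤ psupp univ ⊓ alternatingGroup _ := fun N => by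
    simpa [psupp_univ] using Subgroup.map_subtype_le N
  have h6 : nilA (n - 3) = 2 ^ (v2 (n - 3) - 1) := by rw [nilA, if_neg (by omega), if_neg (by omega), if_neg (by omega), if_neg (by omega)]
  refine ⟨fun N hN => (Subgroup.card_subtype _ N).ge.trans (h2 ▸ card_le_nil two_pow_le_nilA h4 (isNilpotent_map N _) (h5 N)), ?_,
    fun A B hA hB a b => ?_⟩
  · obtain ⟨ψ, h, h'⟩ := exists_hom_prod_three (show 3 ≤ n by omega)
    have e := MonoidHom.ofInjective (f := (ψ.comp (((alternatingGroup _).subtype.comp (P : Subgroup (alternatingGroup (Fin (n - 3)))).subtype).prodMap (.id _))).codRestrict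
      (alternatingGroup _) fun x => (h' _).trans x.1.1.2) ((MonoidHom.injective_codRestrict _ _ _).2
      (h.comp (((Subgroup.subtype_injective _).comp (Subgroup.subtype_injective _)).prodMap Function.injective_id)))
    have := P.isPGroup'.isNilpotent
    exact ⟨_, Group.nilpotent_of_mulEquiv e, by rw [← Nat.card_congr e.toEquiv]; simp [mul_comm], ⟨e.symm⟩⟩
  obtain ⟨g, h, e⟩ := exists_cj_nil two_pow_le_nilA h4 (.inr rfl) (isNilpotent_map A _) (isNilpotent_map B _) (h5 A) (h5 B)
    ((Subgroup.card_subtype _ A).trans (a.trans h2.symm)) ((Subgroup.card_subtype _ B).trans (b.trans h2.symm))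
    (by rw [h2, h1, card_fin, h6, mul_comm]) (fun d j a b c e => (nilA_step j a b).2 c (by rwa [e, card_fin]))
    fun t ht => by rw [factorization_psupp_alt, ht, card_fin, h6]
  exact exists_cj_of_map ⟨g, h.2, e⟩

end Cfsg.Agent.S2256
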