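import Cfsg.Statements.S2257
import Cfsg.Agent.Lib.Max.Sol

set_option autoImplicit false
open Cfsg

namespace Cfsg.Agent.S2257

open Cfsg.Lib Cfsg.Lib.Forms.Sol Cfsg.Lib.Linear



/-- Let G = PSL_2(F) with F a field of order q = 2^p, p prime, and for x ∈ G call the solubilizer of x the set of y ∈ G such that x and y generate a solvable subgroup. Then the solubilizer of an involution has 3q(q − 1) elements; that of a non-identity element of order dividing q − 1 has 2q(q − 1) elements; and that of a non-identity element of order dividing q + 1 has 2(q + 1) elements. -/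
theorem result (p : ℕ) (hp : p.Prime) {F : Type*} [Field F] [Fintype F]
    (hF : Fintype.card F = 2 ^ p) (x : Matrix.ProjectiveSpecialLinearGroup (Fin 2) F) :
    (orderOf x = 2 → Nat.card {y : Matrix.ProjectiveSpecialLinearGroup (Fin 2) F // Group.IsSolvable ↥(Subgroup.closure ({x, y} : Set (Matrix.ProjectiveSpecialLinearGroup (Fin 2) F)))} = 3 * 2 ^ p * (2 ^ p - 1)) ∧
    (x ≠ 1 → orderOf x ∣ 2 ^ p - 1 → Nat.card {y : Matrix.ProjectiveSpecialLinearGroup (Fin 2) F // Group.IsSolvable ↥(Subgroup.closure ({x, y} : Set (Matrix.ProjectiveSpecialLinearGroup (Fin 2) F)))} = 2 * 2 ^ p * (2 ^ p - 1)) ∧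
    (x ≠ 1 → orderOf x ∣ 2 ^ p + 1 → Nat.card {y : Matrix.ProjectiveSpecialLinearGroup (Fin 2) F // Group.IsSolvable ↥(Subgroup.closure ({x, y} : Set (Matrix.ProjectiveSpecialLinearGroup (Fin 2) F)))} = 2 * (2 ^ p + 1)) := by
  rw [← Nat.card_eq_fintype_card] at hF
  have h2 : (2 : F) = 0 := by
    have := cast_card (F := F)
    rw [hF] at this
    exact (pow_eq_zero_iff'.1 (by simpa using this)).1
  have h4 : 2 ^ 2 ≤ 2 ^ p := Nat.pow_le_pow_right (by omega) hp.two_le
  have hG : Gd F := ⟨by omega, .inl h2⟩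
  obtain ⟨X, rfl⟩ := QuotientGroup.mk_surjective x
  have h := card_SS X
  rw [gcd_two_of_two_eq_zero h2, one_mul] at h
  have k : ∀ n, (X : PSL2 F) ≠ 1 → orderOf (X : PSL2 F) ∣ n → ¬ 2 ∣ n →
      Matrix.SpecialLinearGroup.toPGL X ^ 2 ≠ 1 := fun n h1 h3 h5 e =>
    h5 (orderOf_eq_prime (pi_pow.1 e) h1 ▸ h3)
  have h5 : 2 ∣ 2 ^ p := dvd_pow_self 2 hp.ne_zero
  rw [h, ← hF] at *
  refine ⟨fun h1 => ?_, fun h1 h3 => ?_, fun h1 h3 => ?_⟩
  · rw [ncard_even hG h2 (fun e => Invol.ne_one_of_two h1 (by simpa using (pi_pow (n := 1)).1 (by simpa using e)))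
      (pi_pow.2 (Invol.sq_of_two h1)), mul_assoc]
  · rw [ncard_split hG (k _ h1 h3 (by omega)) (pi_pow.2 (orderOf_dvd_iff_pow_eq_one.1 h3)), mul_assoc]
  · rw [ncard_nonsplit hG (k _ h1 h3 (by omega)) (pi_pow.2 (orderOf_dvd_iff_pow_eq_one.1 h3))]

end Cfsg.Agent.S2257
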