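import Cfsg.Statements.S2258
import Cfsg.Agent.Lib.Max.Sol

set_option autoImplicit false
open Cfsg

namespace Cfsg.Agent.S2258

open Cfsg.Lib Cfsg.Lib.Forms.Sol Cfsg.Lib.Linear



/-- Let G = PSL_2(F) with F a field of order q = 3^p, p an odd prime, and for x ∈ G call the solubilizer of x the set of y ∈ G such that x and y generate a solvable subgroup. Then the solubilizer of an involution has q(q + 1) elements; that of an element of order 3 has q(q + 5)/2 elements; that of an element of order neither 1 nor 2 dividing q − 1 has q(q − 1) elements; and that of an element of order neither 1 nor 2 dividing q + 1 has q + 1 elements. -/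
theorem result (p : ℕ) (hp : p.Prime) (hodd : Odd p) {F : Type*} [Field F] [Fintype F]
    (hF : Fintype.card F = 3 ^ p) (x : Matrix.ProjectiveSpecialLinearGroup (Fin 2) F) :
    (orderOf x = 2 → Nat.card {y : Matrix.ProjectiveSpecialLinearGroup (Fin 2) F // Group.IsSolvable ↥(Subgroup.closure ({x, y} : Set (Matrix.ProjectiveSpecialLinearGroup (Fin 2) F)))} = 3 ^ p * (3 ^ p + 1)) ∧
    (orderOf x = 3 → 2 * Nat.card {y : Matrix.ProjectiveSpecialLinearGroup (Fin 2) F // Group.IsSolvable ↥(Subgroup.closure ({x, y} : Set (Matrix.ProjectiveSpecialLinearGroup (Fin 2) F)))} = 3 ^ p * (3 ^ p + 5)) ∧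
    (x ≠ 1 → orderOf x ≠ 2 → orderOf x ∣ 3 ^ p - 1 → Nat.card {y : Matrix.ProjectiveSpecialLinearGroup (Fin 2) F // Group.IsSolvable ↥(Subgroup.closure ({x, y} : Set (Matrix.ProjectiveSpecialLinearGroup (Fin 2) F)))} = 3 ^ p * (3 ^ p - 1)) ∧
    (x ≠ 1 → orderOf x ≠ 2 → orderOf x ∣ 3 ^ p + 1 → Nat.card {y : Matrix.ProjectiveSpecialLinearGroup (Fin 2) F // Group.IsSolvable ↥(Subgroup.closure ({x, y} : Set (Matrix.ProjectiveSpecialLinearGroup (Fin 2) F)))} = 3 ^ p + 1) := by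
  have h3 : (3 : F) = 0 := by
    have := FiniteField.cast_card_eq_zero F
    rw [hF] at this
    exact (pow_eq_zero_iff'.1 (by simpa using this)).1
  have h4 : 3 ^ 2 ≤ 3 ^ p := Nat.pow_le_pow_right (by omega) hp.two_le
  have h2 : (2 : F) ≠ 0 := fun h => one_ne_zero (by linear_combination h3 - h : (1 : F) = 0)
  have hn : ¬ IsSquare (-1 : F) := by
    obtain ⟨k, rfl⟩ := hodd
    rw [FiniteField.isSquare_neg_one_iff, hF, pow_succ, pow_mul, Nat.mul_mod, Nat.pow_mod]
    simp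
  rw [← Nat.card_eq_fintype_card] at hF
  have hG : Gd F := ⟨by omega, .inr ⟨h3, hn⟩⟩
  obtain ⟨X, rfl⟩ := QuotientGroup.mk_surjective x
  have h := card_SS X
  rw [gcd_two_of_two_ne_zero h2] at h
  have k : (X : PSL2 F) ≠ 1 → orderOf (X : PSL2 F) ≠ 2 → Matrix.SpecialLinearGroup.toPGL X ^ 2 ≠ 1 :=
    fun h1 h5 e => h5 (orderOf_eq_prime (pi_pow.1 e) h1)
  rw [← hF]
  refine ⟨fun h1 => ?_, fun h1 => ?_, fun h1 h5 h6 => ?_, fun h1 h5 h6 => ?_⟩
  · rw [ncard_inv hG h3 h1 X rfl] at h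
    exact Nat.eq_of_mul_eq_mul_left two_pos h
  · rw [h, ncard_three hG h3 (fun e => by
      rw [show (X : PSL2 F) = 1 by simpa using (pi_pow (n := 1)).1 (by simpa using e)] at h1; simp at h1)
      (pi_pow.2 (h1 ▸ pow_orderOf_eq_one _))]
    obtain ⟨m, hm⟩ := Nat.exists_eq_add_of_le' hG.1
    rw [hm, show m + 4 - 1 = m + 3 from rfl]; ring
  · rw [ncard_split hG (k h1 h5) (pi_pow.2 (orderOf_dvd_iff_pow_eq_one.1 h6))] at h
    exact Nat.eq_of_mul_eq_mul_left two_pos h
  · rw [ncard_nonsplit hG (k h1 h5) (pi_pow.2 (orderOf_dvd_iff_pow_eq_one.1 h6))] at h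
    exact Nat.eq_of_mul_eq_mul_left two_pos h

end Cfsg.Agent.S2258
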