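import Cfsg.Statements.S2259
import Cfsg.Agent.Lib.BN.SzCount

set_option autoImplicit false
open Cfsg

namespace Cfsg.Agent.S2259

open Cfsg.Lib.BN.Sz Cfsg.Lib.BN MulAction

section
variable {F : Type*} [Field F] {m : ℕ} [hF : SzField F m]

/-- the solubilizer -/
def Sol {G : Type*} [Group G] (x : G) : Set G := {y | Group.IsSolvable (Subgroup.closure ({x, y} : Set G))}

theorem solvable_of_le {G : Type*} [Group G] {S N : Subgroup G} (hN : Group.IsSolvable N) (h : S ≤ N) :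
    Group.IsSolvable S :=
  Group.isSolvable_of_isSolvable_injective (f := Subgroup.inclusion h) (Subgroup.inclusion_injective h)

theorem mem_Sol_equiv {G G' : Type*} [Group G] [Group G'] (e : G ≃* G') {x y : G} (h : y ∈ Sol x) :
    e y ∈ Sol (e x) := by
  have : Subgroup.closure ({e x, e y} : Set G') = (Subgroup.closure {x, y}).map e.toMonoidHom := by
    rw [MonoidHom.map_closure, Set.image_pair]; rfl
  change Group.IsSolvable _
  rw [this]
  have : Group.IsSolvable (Subgroup.closure ({x, y} : Set G)) := h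
  exact Group.isSolvable_of_surjective (f := e.toMonoidHom.subgroupMap _) (e.toMonoidHom.subgroupMap_surjective _)

theorem ncard_Sol_equiv {G G' : Type*} [Group G] [Group G'] (e : G ≃* G') (x : G) :
    (Sol (e x)).ncard = (Sol x).ncard :=
  (Nat.card_congr (e.toEquiv.subtypeEquiv fun y => ⟨mem_Sol_equiv e, fun h => by
    simpa using mem_Sol_equiv e.symm h⟩)).symm

theorem mem_Sol (hp : (2 * m + 1).Prime) {x y : Cfsg.Sz F m} : y ∈ Sol x ↔
    (∃ p : suzukiOvoid F m, x • p = p ∧ y • p = p) ∨ ∃ T : Subgroup (Cfsg.Sz F m), IsOddPart m T ∧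
      x ∈ Subgroup.normalizer (T : Set (Cfsg.Sz F m)) ∧ y ∈ Subgroup.normalizer (T : Set (Cfsg.Sz F m)) := by
  have hx : x ∈ Subgroup.closure ({x, y} : Set (Cfsg.Sz F m)) := Subgroup.subset_closure (by simp)
  have hy : y ∈ Subgroup.closure ({x, y} : Set (Cfsg.Sz F m)) := Subgroup.subset_closure (by simp)
  have hB : ∀ g z : Cfsg.Sz F m, z ∈ (B F m).map (MulAut.conj g).toMonoidHom ↔ z • g • inf F m = g • inf F m :=
    fun g z => by rw [mem_map_conj, mem_stabilizer_iff, mul_smul, mul_smul, inv_smul_eq_iff]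
  constructor
  · intro h
    rcases subgroup_cases (Subgroup.closure ({x, y} : Set (Cfsg.Sz F m))) with ⟨g, h1⟩ | ⟨T, hT, h1⟩ |
      ⟨R, k, hk, g, h1⟩
    · exact Or.inl ⟨_, (hB g x).1 (h1 hx), (hB g y).1 (h1 hy)⟩
    · exact Or.inr ⟨T, hT, h1 hx, h1 hy⟩
    · exfalso
      have : Group.IsSolvable (Subgroup.closure ({x, y} : Set (Cfsg.Sz F m))) := h
      rw [h1] at this
      let e : Cfsg.Sz R k ≃* (szMap m k R.subtype).range.map (MulAut.conj g).toMonoidHom :=
        (MonoidHom.ofInjective (szMap_injective m k R.subtype)).trans ((MulAut.conj g).subgroupMap _)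
      have h1 : Group.IsSolvable (Cfsg.Sz R k) :=
        Group.isSolvable_of_surjective (f := e.symm.toMonoidHom) e.symm.surjective
      have := nontrivial_Sz (F := R) k
      exact (Group.IsSolvable.commutator_lt_top_of_nontrivial _).ne (commutator_eq_top (F := R) k)
  · rintro (⟨p, h1, h2⟩ | ⟨T, hT, h1, h2⟩)
    · obtain ⟨g, rfl⟩ := exists_smul_inf m p
      have := isSolvable_B (F := F) m
      refine solvable_of_le (Group.isSolvable_of_surjective (f := ((MulAut.conj g).subgroupMap _).toMonoidHom)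
        ((MulAut.conj g).subgroupMap (B F m)).surjective) ((Subgroup.closure_le _).2 ?_)
      rintro _ (rfl | rfl)
      exacts [(hB _ _).2 h1, (hB _ _).2 h2]
    · refine solvable_of_le hT.isSolvable_normalizer ((Subgroup.closure_le _).2 ?_)
      rintro _ (rfl | rfl)
      exacts [h1, h2]

theorem mem_normalizer_conj {G : Type*} [Group G] {T : Subgroup G} {g x : G} :
    x ∈ Subgroup.normalizer (T.map (MulAut.conj g).toMonoidHom : Set G) ↔
      g⁻¹ * x * g ∈ Subgroup.normalizer (T : Set G) := by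
  rw [← Subgroup.map_equiv_normalizer_eq, mem_map_conj]

/-- the part of the solubilizer coming from conjugates of `T` -/
def part (x : Cfsg.Sz F m) (T : Subgroup (Cfsg.Sz F m)) : Set (Cfsg.Sz F m) :=
  {y | y ∉ B F m ∧ ∃ g, g⁻¹ * x * g ∈ Subgroup.normalizer (T : Set (Cfsg.Sz F m)) ∧
    g⁻¹ * y * g ∈ Subgroup.normalizer (T : Set (Cfsg.Sz F m))}

theorem ncard_part {x : Cfsg.Sz F m} (hx : x ∈ Q F m) (h1 : x ≠ 1) {T : Subgroup (Cfsg.Sz F m)}
    (hT : IsOddPart m T) {c : ℕ}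
    (hc : {y ∈ (Subgroup.normalizer (T : Set (Cfsg.Sz F m)) : Set (Cfsg.Sz F m)) | IsConj x y}.ncard =
      c * Nat.card T) :
    (part x T).ncard = c * Nat.card (Subgroup.centralizer {x}) * (Nat.card T - 1) := by
  obtain ⟨e, he⟩ := Subgroup.card_dvd_of_le (Subgroup.le_normalizer (H := T))
  have h2 := ncard_mul_eq_of_rel (A := part x T)
    (S := {g | g⁻¹ * x * g ∈ (Subgroup.normalizer (T : Set (Cfsg.Sz F m)) : Set (Cfsg.Sz F m))})
    (fun y g => g⁻¹ * y * g ∈ Subgroup.normalizer (T : Set (Cfsg.Sz F m)))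
    (k := Nat.card (Subgroup.normalizer (T : Set (Cfsg.Sz F m)))) (n := (Nat.card T - 1) * e) (by
      rintro y ⟨hy, g, a1, a2⟩
      rw [← ncard_coset _ g]
      congr 1
      ext h
      constructor
      · rintro ⟨b1, b2⟩
        have := (hT.conj g).eq_of_mem_normalizer (hT.conj h) hx h1 (mem_normalizer_conj.2 a1)
          (mem_normalizer_conj.2 b1) (mem_normalizer_conj.2 a2) (mem_normalizer_conj.2 b2) hy
        refine Subgroup.mem_normalizer_fintype fun t ht => ?_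
        have h3 : h * t * h⁻¹ ∈ T.map (MulAut.conj g).toMonoidHom := this ▸ ⟨t, ht, rfl⟩
        simpa [mul_assoc] using mem_map_conj.1 h3
      · intro hh
        have key : ∀ z, g⁻¹ * z * g ∈ Subgroup.normalizer (T : Set (Cfsg.Sz F m)) →
            h⁻¹ * z * h ∈ Subgroup.normalizer (T : Set (Cfsg.Sz F m)) := fun z hz => by
          simpa [mul_assoc] using mul_mem (mul_mem (inv_mem hh) hz) hh
        exact ⟨key _ a1, key _ a2⟩) (by
      intro g hg
      have h3 := (hT.conj g).card_normalizer_inf_B hx h1 (mem_normalizer_conj.2 hg)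
      have h4 : {a ∈ part x T | g⁻¹ * a * g ∈ Subgroup.normalizer (T : Set (Cfsg.Sz F m))} =
          (Subgroup.normalizer (T.map (MulAut.conj g).toMonoidHom : Set (Cfsg.Sz F m)) : Set (Cfsg.Sz F m)) \
            (Subgroup.normalizer (T.map (MulAut.conj g).toMonoidHom : Set (Cfsg.Sz F m)) ⊓ B F m :
              Subgroup (Cfsg.Sz F m)) := by
        ext a
        constructor
        · rintro ⟨⟨a1, -⟩, a2⟩
          exact ⟨mem_normalizer_conj.2 a2, fun h => a1 h.2⟩
        · rintro ⟨a1, a2⟩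
          exact ⟨⟨fun h => a2 ⟨a1, h⟩, g, hg, mem_normalizer_conj.1 a1⟩, mem_normalizer_conj.1 a1⟩
      rw [h4, Set.ncard_sdiff' (fun _ h => h.1) (Set.toFinite _)]
      change Nat.card (Subgroup.normalizer (T.map (MulAut.conj g).toMonoidHom : Set (Cfsg.Sz F m))) -
        Nat.card ↥(Subgroup.normalizer (T.map (MulAut.conj g).toMonoidHom : Set (Cfsg.Sz F m)) ⊓ B F m) = _
      rw [← Subgroup.map_equiv_normalizer_eq] at h3 ⊢
      rw [card_map_conj, card_map_conj, he, mul_comm _ e] at h3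
      rw [Nat.eq_of_mul_eq_mul_right Nat.card_pos h3, card_map_conj, he, Nat.sub_mul, one_mul])
  rw [ncard_conj_mem, hc] at h2
  refine Nat.eq_of_mul_eq_mul_right (Nat.card_pos (α := Subgroup.normalizer (T : Set (Cfsg.Sz F m)))) ?_
  rw [h2, he]; ring

theorem disjoint_part {x : Cfsg.Sz F m} (hx : x ∈ Q F m) (h1 : x ≠ 1) {T T' : Subgroup (Cfsg.Sz F m)}
    (hT : IsOddPart m T) (hT' : IsOddPart m T') (h : Nat.card T ≠ Nat.card T') :
    Disjoint (part x T) (part x T') := by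
  rw [Set.disjoint_left]
  rintro y ⟨hy, g, a1, a2⟩ ⟨-, g', b1, b2⟩
  have := (hT.conj g).eq_of_mem_normalizer (hT'.conj g') hx h1 (mem_normalizer_conj.2 a1)
    (mem_normalizer_conj.2 b1) (mem_normalizer_conj.2 a2) (mem_normalizer_conj.2 b2) hy
  exact h (by rw [← card_map_conj T g, this, card_map_conj])

theorem ncard_Sol_Q (hp : (2 * m + 1).Prime) {x : Cfsg.Sz F m} (hx : x ∈ Q F m) (h1 : x ≠ 1) {c : ℕ}
    (hH : {y ∈ (Subgroup.normalizer (H F m : Set (Cfsg.Sz F m)) : Set (Cfsg.Sz F m)) | IsConj x y}.ncard =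
      c * Nat.card (H F m))
    (hT : ∀ T : Subgroup (Cfsg.Sz F m), IsTorus m T →
      {y ∈ (Subgroup.normalizer (T : Set (Cfsg.Sz F m)) : Set (Cfsg.Sz F m)) | IsConj x y}.ncard = Nat.card T) :
    (Sol x).ncard = (2 ^ (2 * m + 1)) ^ 2 * (2 ^ (2 * m + 1) - 1) +
      Nat.card (Subgroup.centralizer {x}) * (c * (2 ^ (2 * m + 1) - 2) + 2 * 2 ^ (2 * m + 1)) := by
  obtain ⟨T₁, T₂, h₁, h₂, c₁, c₂, -, -, hc⟩ := exists_tori F m
  have e : Sol x = (B F m : Set (Cfsg.Sz F m)) ∪ (part x (H F m) ∪ (part x T₁ ∪ part x T₂)) := by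
    ext y
    rw [mem_Sol hp]
    constructor
    · rintro (⟨p, a1, a2⟩ | ⟨T, hT, a1, a2⟩)
      · exact Or.inl (by rwa [eq_inf_of_mem_Q m hx h1 a1] at a2)
      by_cases hy : y ∈ B F m
      · exact Or.inl hy
      right
      rcases hT.cases with ⟨g, rfl⟩ | hT'
      · exact Or.inl ⟨hy, g, mem_normalizer_conj.1 a1, mem_normalizer_conj.1 a2⟩
      right
      obtain ⟨t, ht, ht1⟩ := hT'.exists_ne_one
      have ht' : t ∈ tiCover ⊤ T := ⟨ht1, 1, trivial, by simpa using ht⟩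
      rcases hc t (hT'.fpf ht ht1) with h | h
      · obtain ⟨g, rfl⟩ := h₁.cover_eq_of_mem hT' h ht'
        exact Or.inl ⟨hy, g, mem_normalizer_conj.1 a1, mem_normalizer_conj.1 a2⟩
      · obtain ⟨g, rfl⟩ := h₂.cover_eq_of_mem hT' h ht'
        exact Or.inr ⟨hy, g, mem_normalizer_conj.1 a1, mem_normalizer_conj.1 a2⟩
    · rintro (h | ⟨-, g, a1, a2⟩ | ⟨-, g, a1, a2⟩ | ⟨-, g, a1, a2⟩)
      · exact Or.inl ⟨_, Q_le_B m hx, h⟩
      · exact Or.inr ⟨_, isOddPart_conj_H g, mem_normalizer_conj.2 a1, mem_normalizer_conj.2 a2⟩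
      · exact Or.inr ⟨_, h₁.isOddPart.conj g, mem_normalizer_conj.2 a1, mem_normalizer_conj.2 a2⟩
      · exact Or.inr ⟨_, h₂.isOddPart.conj g, mem_normalizer_conj.2 a1, mem_normalizer_conj.2 a2⟩
  have hr := r_lt_q (F := F) m
  have hr2 : 2 < 2 ^ (m + 1) := by
    have := hF.one_le
    calc 2 = 2 ^ 1 := rfl
      _ < _ := Nat.pow_lt_pow_right (by norm_num) (by omega)
  rw [e, Set.ncard_union_eq, Set.ncard_union_eq, Set.ncard_union_eq, ncard_part hx h1 isOddPart_H hH,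
    ncard_part hx h1 h₁.isOddPart (c := 1) (by rw [hT _ h₁, one_mul]),
    ncard_part hx h1 h₂.isOddPart (c := 1) (by rw [hT _ h₂, one_mul]), c₁, c₂, card_H]
  · change Nat.card (B F m) + _ = _
    rw [card_B, Nat.add_sub_cancel, Nat.add_sub_cancel, Nat.sub_sub]
    zify [hr.le]
    ring
  · exact disjoint_part hx h1 h₁.isOddPart h₂.isOddPart (by rw [c₁, c₂]; omega)
  · exact Set.disjoint_union_right.2 ⟨disjoint_part hx h1 isOddPart_H h₁.isOddPart (by rw [c₁, card_H]; omega),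
      disjoint_part hx h1 isOddPart_H h₂.isOddPart (by rw [c₂, card_H]; omega)⟩
  · rw [Set.disjoint_left]
    rintro y hy (h | h | h) <;> exact h.1 hy

theorem ncard_Sol_conj (g x : Cfsg.Sz F m) : (Sol (g⁻¹ * x * g)).ncard = (Sol x).ncard := by
  simpa using ncard_Sol_equiv (MulAut.conj g⁻¹) x

theorem ncard_Sol_torus (hp : (2 * m + 1).Prime) {x : Cfsg.Sz F m} (hx : Fpf m x) :
    (Sol x).ncard = 4 * Nat.card (Subgroup.centralizer {x}) := by
  have hT := hx.isTorus
  rw [← hT.card_eq.2]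
  have hx' : x ∈ Subgroup.centralizer {x} := Subgroup.mem_centralizer_singleton_iff.2 rfl
  refine congrArg Set.ncard (Set.ext fun y => ?_)
  rw [mem_Sol hp]
  constructor
  · rintro (⟨p, a1, -⟩ | ⟨T, hT', a1, a2⟩)
    · exact absurd a1 (hx p)
    · rwa [hT'.centralizer_eq (hT'.mem_of_pow_four_ne_one a1 (hT.isOddPart.pow_four_ne_one hx' hx.ne_one))
        hx.ne_one]
  · exact fun h => Or.inr ⟨_, hT.isOddPart, Subgroup.le_normalizer hx', h⟩

theorem ncard_Sol_H (hp : (2 * m + 1).Prime) {x : Cfsg.Sz F m} (hx : x ∈ H F m) (h1 : x ≠ 1) :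
    (Sol x).ncard = 2 * (2 ^ (2 * m + 1)) ^ 2 * (2 ^ (2 * m + 1) - 1) := by
  let B' := stabilizer (Cfsg.Sz F m) (pt m (0 : F) 0)
  have e : Sol x = (B F m : Set (Cfsg.Sz F m)) ∪ ((B' : Set (Cfsg.Sz F m)) \ H F m ∪
      {y | (w F m)⁻¹ * y ∈ H F m}) := by
    ext y
    rw [mem_Sol hp]
    constructor
    · rintro (⟨p, a1, a2⟩ | ⟨T, hT, a1, a2⟩)
      · rcases eq_or_eq_of_mem_H m hx h1 a1 with rfl | rfl
        · exact Or.inl a2
        · by_cases hy : y ∈ H F m
          exacts [Or.inl (H_le_B m hy), Or.inr (Or.inl ⟨a2, hy⟩)]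
      · rw [hT.eq_of_mem isOddPart_H (hT.mem_of_pow_four_ne_one a1 (isOddPart_H.pow_four_ne_one hx h1)) hx h1,
          mem_normalizer_H] at a2
        rcases a2 with h | h
        exacts [Or.inl (H_le_B m h), Or.inr (Or.inr (by rwa [← w_inv] at h))]
    · rintro (h | h | h)
      · exact Or.inl ⟨_, H_le_B m hx, h⟩
      · exact Or.inl ⟨_, (H_eq_inf (F := F) m ▸ hx).2, h.1⟩
      · exact Or.inr ⟨_, isOddPart_H, Subgroup.le_normalizer hx, (mem_normalizer_H m).2 (Or.inr (by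
          rwa [← w_inv]))⟩
  have hB' : Nat.card B' = Nat.card (B F m) := by
    rw [← card_map_conj (B F m) (w F m)]
    congr 2
    ext z
    rw [mem_map_conj, mem_stabilizer_iff, mem_stabilizer_iff, mul_smul, mul_smul, inv_smul_eq_iff, w_smul_inf]
  have hw : ∀ y, (w F m)⁻¹ * y ∈ H F m → y • inf F m = pt m 0 0 ∧ y • pt m 0 0 = inf F m := fun y hy => by
    rw [H_eq_inf, Subgroup.mem_inf, mem_stabilizer_iff, mem_stabilizer_iff, mul_smul, mul_smul, inv_smul_eq_iff,
      inv_smul_eq_iff, w_smul_inf, w_smul_zero] at hy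
    exact hy
  rw [e, Set.ncard_union_eq, Set.ncard_union_eq, ncard_coset, Set.ncard_sdiff' (fun y (hy : y ∈ H F m) => (H_eq_inf (F := F) m ▸ hy).2)
    (Set.toFinite _)]
  · change Nat.card (B F m) + (Nat.card B' - Nat.card (H F m) + _) = _
    rw [hB', Nat.sub_add_cancel (Subgroup.card_le_of_le (H_le_B m)), card_B]; ring
  · rw [Set.disjoint_left]
    exact fun y hy hy' => pt_ne_inf m 0 0 (hy.1.symm.trans (hw y hy').2)
  · rw [Set.disjoint_left]
    rintro y hy (h | h)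
    · exact h.2 (H_eq_inf (F := F) m ▸ ⟨hy, h.1⟩)
    · exact pt_ne_inf m 0 0 ((hw y h).1.symm.trans hy)

theorem fpf_of_dvd {x : Cfsg.Sz F m} (h1 : x ≠ 1) (h : orderOf x ∣ (2 ^ (2 * m + 1)) ^ 2 + 1) : Fpf m x := by
  rcases mem_cover_or m h1 with ⟨-, g, -, hg⟩ | ⟨-, g, -, hg⟩ | h
  · exact absurd (pow_four_of_conj_mem_Q hg) (pow_four_ne_one_of_odd h1 ((odd_q_sq_add_one m).of_dvd_nat h)
      (pow_orderOf_eq_one x))
  · have h2 := Subgroup.orderOf_dvd_natCard _ (mem_map_conj.2 hg)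
    rw [card_map_conj, card_H] at h2
    exact absurd (orderOf_eq_one_iff.1 (Nat.eq_one_of_dvd_coprimes (coprime_q_sub_one m) h2 h)) h1
  · exact h

end

/-- Let G be the Suzuki group Sz(q), q = 2^(2m+1) with 2m + 1 prime and m ≥ 1, realised inside Sp_4(F) for F the field of order q, write r = 2^(m+1) (so r² = 2q), and for x ∈ G call the solubilizer of x the set of y ∈ G such that x and y generate a solvable subgroup. Then the solubilizer of an involution has q²(4q − 3) elements; that of an element of order 4 has q²(q + 3) elements; that of a non-identity element of order dividing q − 1 has 2q²(q − 1) elements; that of a non-identity element of order dividing q + r + 1 has 4(q + r + 1) elements; and that of a non-identity element of order dividing q − r + 1 has 4(q − r + 1) elements. -/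
theorem result {F : Type*} [Field F] [Fintype F] {m : ℕ} (hm : 1 ≤ m)
    (hp : (2 * m + 1).Prime) (hF : Fintype.card F = 2 ^ (2 * m + 1)) (x : ↥(Cfsg.Lie.Sz F (2 ^ (m + 1)))) :
    (orderOf x = 2 → Nat.card {y : ↥(Cfsg.Lie.Sz F (2 ^ (m + 1))) // Group.IsSolvable ↥(Subgroup.closure ({x, y} : Set (↥(Cfsg.Lie.Sz F (2 ^ (m + 1))))))} = (2 ^ (2 * m + 1)) ^ 2 * (4 * 2 ^ (2 * m + 1) - 3)) ∧
    (orderOf x = 4 → Nat.card {y : ↥(Cfsg.Lie.Sz F (2 ^ (m + 1))) // Group.IsSolvable ↥(Subgroup.closure ({x, y} : Set (↥(Cfsg.Lie.Sz F (2 ^ (m + 1))))))} = (2 ^ (2 * m + 1)) ^ 2 * (2 ^ (2 * m + 1) + 3)) ∧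
    (x ≠ 1 → orderOf x ∣ 2 ^ (2 * m + 1) - 1 →
      Nat.card {y : ↥(Cfsg.Lie.Sz F (2 ^ (m + 1))) // Group.IsSolvable ↥(Subgroup.closure ({x, y} : Set (↥(Cfsg.Lie.Sz F (2 ^ (m + 1))))))} = 2 * (2 ^ (2 * m + 1)) ^ 2 * (2 ^ (2 * m + 1) - 1)) ∧
    (x ≠ 1 → orderOf x ∣ 2 ^ (2 * m + 1) + 2 ^ (m + 1) + 1 → Nat.card {y : ↥(Cfsg.Lie.Sz F (2 ^ (m + 1))) // Group.IsSolvable ↥(Subgroup.closure ({x, y} : Set (↥(Cfsg.Lie.Sz F (2 ^ (m + 1))))))} = 4 * (2 ^ (2 * m + 1) + 2 ^ (m + 1) + 1)) ∧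
    (x ≠ 1 → orderOf x ∣ 2 ^ (2 * m + 1) - 2 ^ (m + 1) + 1 → Nat.card {y : ↥(Cfsg.Lie.Sz F (2 ^ (m + 1))) // Group.IsSolvable ↥(Subgroup.closure ({x, y} : Set (↥(Cfsg.Lie.Sz F (2 ^ (m + 1))))))} = 4 * (2 ^ (2 * m + 1) - 2 ^ (m + 1) + 1)) := by
  have hsz := szField_of_card hm hF
  obtain ⟨x, rfl⟩ := (szEquiv m).surjective x
  have e := ncard_Sol_equiv (szEquiv m) x
  change (_ → (Sol _).ncard = _) ∧ (_ → (Sol _).ncard = _) ∧ (_ → _ → (Sol _).ncard = _) ∧
    (_ → _ → (Sol _).ncard = _) ∧ (_ → _ → (Sol _).ncard = _)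
  rw [e, MulEquiv.orderOf_eq, Ne, MulEquiv.map_eq_one_iff]
  have h8 := eight_le_q (F := F) m
  refine ⟨fun h => ?_, fun h => ?_, fun h1 h => ?_, fun h1 h => ?_, fun h1 h => ?_⟩
  · obtain ⟨g, b, hb, e⟩ := exists_conj_U_zero (t := x) (by rintro rfl; simp at h)
      (by rw [← sq, ← h, pow_orderOf_eq_one])
    have hU1 : U m 0 b ≠ 1 := by simpa [U_eq_one_iff] using hb
    have key : ∀ T : Subgroup (Cfsg.Sz F m), IsOddPart m T →
        {y ∈ (Subgroup.normalizer (T : Set (Cfsg.Sz F m)) : Set (Cfsg.Sz F m)) | IsConj (U m 0 b) y}.ncard =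
          Nat.card T := fun T hT => by
      rw [← hT.ncard_involution]
      congr 1
      ext y
      refine and_congr_right fun _ => ⟨fun h => ?_, fun h => isConj_of_involution hU1 (U_zero_mul_self m b) h.1 h.2⟩
      obtain ⟨c, rfl⟩ := isConj_iff.1 h
      exact ⟨by simpa using hU1, by simp [U_zero_mul_self]⟩
    rw [← ncard_Sol_conj g, e, ncard_Sol_Q hp (U_mem_Q m 0 b) hU1 (c := 1) (by rw [key _ isOddPart_H, one_mul])
      fun T hT => key T hT.isOddPart, centralizer_U_zero hb, card_Q, ← mul_add]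
    congr 1; omega
  · have h4 : x ^ 4 = 1 := by rw [← pow_orderOf_eq_one x, h]
    have h2 : x * x ≠ 1 := fun e => by
      have := orderOf_dvd_of_pow_eq_one (sq x ▸ e)
      rw [h] at this; simp at this
    obtain ⟨g, a, b, e⟩ := exists_conj_mem_Q h4
    have h2' : U m a b * U m a b ≠ 1 := by
      rw [← e]
      convert conj_ne_one h2 g using 1
      group
    have ha : a ≠ 0 := by rintro rfl; exact h2' (U_zero_mul_self m b)
    rw [← ncard_Sol_conj g, e, ncard_Sol_Q hp (U_mem_Q m a b) (by simp [U_eq_one_iff, ha]) (c := 0) ?_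
      fun T hT => hT.ncard_isConj (pow_four_of_mem_Q m (U_mem_Q m a b)) h2', card_centralizer_U ha]
    · generalize 2 ^ (2 * m + 1) = q at h8 ⊢
      obtain ⟨p, rfl⟩ : ∃ p, q = p + 1 := ⟨q - 1, by omega⟩
      rw [Nat.add_sub_cancel]; ring
    · rw [zero_mul, Set.ncard_eq_zero, Set.eq_empty_iff_forall_notMem]
      rintro y ⟨hy, hc⟩
      have h5 := Subgroup.orderOf_dvd_natCard _ hy
      obtain ⟨c, rfl⟩ := isConj_iff.1 hc
      rw [show orderOf (c * U m a b * c⁻¹) = _ from (MulAut.conj c).orderOf_eq _, orderOf_U m ha,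
        card_normalizer_H] at h5
      obtain ⟨k, hk⟩ := odd_q_sub_one m
      omega
  · rcases mem_cover_or m h1 with ⟨-, g, -, hg⟩ | ⟨-, g, -, hg⟩ | hx
    · exact absurd (pow_four_of_conj_mem_Q hg) (pow_four_ne_one_of_odd h1 ((odd_q_sub_one m).of_dvd_nat h)
        (pow_orderOf_eq_one x))
    · rw [← ncard_Sol_conj g, ncard_Sol_H hp hg (conj_ne_one h1 g)]
    · exact absurd (orderOf_eq_one_iff.1 (Nat.eq_one_of_dvd_coprimes (coprime_q_sub_one m) h hx.orderOf_dvd)) h1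
  · have hx := fpf_of_dvd h1 (h.trans (q_sq_add_one_eq (F := F) m ▸ Dvd.intro _ rfl))
    rw [ncard_Sol_torus hp hx, hx.isTorus.card_eq.1.resolve_right fun e => h1 (orderOf_eq_one_iff.1
      (Nat.eq_one_of_dvd_coprimes (coprime_tori (F := F) m) h (e ▸ Subgroup.orderOf_dvd_natCard _
        (Subgroup.mem_centralizer_singleton_iff.2 rfl))))]
  · have hx := fpf_of_dvd h1 (h.trans (q_sq_add_one_eq (F := F) m ▸ Dvd.intro_left _ rfl))
    rw [ncard_Sol_torus hp hx, hx.isTorus.card_eq.1.resolve_left fun e => h1 (orderOf_eq_one_iff.1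
      (Nat.eq_one_of_dvd_coprimes (coprime_tori (F := F) m).symm h (e ▸ Subgroup.orderOf_dvd_natCard _
        (Subgroup.mem_centralizer_singleton_iff.2 rfl))))]

end Cfsg.Agent.S2259
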