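import Cfsg.Statements.S2268


set_option autoImplicit false
open Cfsg

namespace Cfsg.Agent.S2268

open Subgroup



/-- Let G be a finite group with an abelian Sylow p-subgroup P and let Q ≤ P. Then N_G(Q) = (N_G(Q) ∩ N_G(P))·C_G(Q), so that N_G(Q)/C_G(Q) is a homomorphic image of the subgroup (N_G(Q) ∩ N_G(P))/C_G(P) of N_G(P)/C_G(P); in particular the order of N_G(Q)/C_G(Q) divides the order of N_G(P)/C_G(P). -/
theorem result {G : Type*} [Group G] [Finite G] {p : ℕ} [Fact p.Prime]
    (P : Sylow p G) (hP : IsMulCommutative (P : Subgroup G)) (Q : Subgroup G) (hQ : Q ≤ (P : Subgroup G)) :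
    Subgroup.normalizer (Q : Set G) =
      (Subgroup.normalizer (Q : Set G) ⊓ Subgroup.normalizer ((P : Subgroup G) : Set G)) ⊔ Subgroup.centralizer (Q : Set G) ∧
    ((Subgroup.centralizer (Q : Set G)).subgroupOf (Subgroup.normalizer (Q : Set G))).index ∣ ((Subgroup.centralizer ((P : Subgroup G) : Set G)).subgroupOf (Subgroup.normalizer ((P : Subgroup G) : Set G))).index := by
  have hPC : (P : Subgroup G) ≤ centralizer (Q : Set G) := fun x hx y hy =>
    congrArg Subtype.val (hP.is_comm.comm ⟨y, hQ hy⟩ ⟨x, hx⟩)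
  have hCN : centralizer (Q : Set G) ≤ normalizer (Q : Set G) := centralizer_le_normalizer _
  have H := Sylow.normalizer_sup_eq_top' (P.subtype (hPC.trans hCN))
    (N := (centralizer (Q : Set G)).subgroupOf (normalizer (Q : Set G)))
    (subgroupOf_mono _ hPC)
  replace H : (normalizer ((P : Subgroup G) : Set G)).subgroupOf (normalizer (Q : Set G)) ⊔ _ = ⊤ :=
    (congrArg (· ⊔ _) (subgroupOf_normalizer_eq (hPC.trans hCN))).trans H
  refine ⟨?_, ?_⟩
  · have := congrArg (map (normalizer (Q : Set G)).subtype) H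
    rwa [Subgroup.map_sup, subgroupOf_map_subtype, subgroupOf_map_subtype, inf_eq_left.2 hCN,
      ← MonoidHom.range_eq_map, range_subtype, inf_comm, eq_comm] at this
  · rw [← relIndex_top_right, ← H, relIndex_sup_right, ← inf_subgroupOf_right (normalizer _),
      relIndex_subgroupOf inf_le_right]
    have h1 : centralizer ((P : Subgroup G) : Set G) ≤ centralizer (Q : Set G) := centralizer_le hQ
    exact (relIndex_dvd_of_le_left _ h1).trans (Dvd.intro _ (relIndex_mul_relIndex _ _ _
      (le_inf (centralizer_le_normalizer _) (h1.trans hCN)) inf_le_left))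

end Cfsg.Agent.S2268
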