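import Cfsg.Statements.S2551
import Cfsg.Agent.Lib.Linear.SmallIso
import Cfsg.Agent.Lib.Linear.SLPair

set_option autoImplicit false
open Cfsg

namespace Cfsg.Agent.S2551

open Cfsg.Lib.Linear Matrix Equiv Subgroup

theorem cyc {x : alternatingGroup (Fin 7)} (h : orderOf x = 2) : x.1.cycleType = {2, 2} := by
  rw [← orderOf_coe] at h
  obtain ⟨n, hn⟩ := Perm.cycleType_prime_order (σ := x.1) (h ▸ Nat.prime_two)
  have a := x.1.sum_cycleType_le
  have b := (Perm.mem_alternatingGroup.1 x.2).symm.trans x.1.sign_of_cycleType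
  rw [hn, h] at a b ⊢
  simp at a
  obtain rfl | rfl | rfl : n = 0 ∨ n = 1 ∨ n = 2 := by omega
  · exact absurd b (by decide)
  · rfl
  · exact absurd b (by decide)

theorem conj {x y : alternatingGroup (Fin 7)} (h : orderOf x = 2) (h' : orderOf y = 2) : IsConj x y :=
  alternatingGroup.isConj_of (Perm.isConj_of_cycleType_eq ((cyc h).trans (cyc h').symm))
    (by rw [← Perm.sum_cycleType, cyc h]; decide)

theorem exists_alt_hom {α β : Type*} [Fintype α] [DecidableEq α] [Fintype β] [DecidableEq β] (ι : α ↪ β) :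
    ∃ f : alternatingGroup α →* alternatingGroup β, Function.Injective f := by
  classical
  exact ⟨((Perm.viaEmbeddingHom ι).comp (Subgroup.subtype _)).codRestrict _ fun x => (@Perm.sign_extendDomain _ _ _ _ _ _ _ _ (_) _).trans x.2,
    fun x y h => Subtype.ext (Perm.viaEmbeddingHom_injective _ (congrArg Subtype.val h))⟩

variable {F : Type*} [Field F] [Fintype F]

theorem ex2 (a b : Fin 4 → F) : ∃ u ≠ 0, a ⬝ᵥ u = 0 ∧ b ⬝ᵥ u = 0 := by
  obtain ⟨u, v, h, e⟩ := Fintype.exists_ne_map_eq_of_card_lt (fun u : Fin 4 → F => (a ⬝ᵥ u, b ⬝ᵥ u)) (by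
    classical rw [Fintype.card_prod, Fintype.card_fun, Fintype.card_fin, ← sq]
    exact Nat.pow_lt_pow_right Fintype.one_lt_card (by norm_num))
  exact ⟨u - v, sub_ne_zero.2 h, by simpa [sub_eq_zero] using e⟩

theorem five (hF : Fintype.card F = 2) {g : GL (Fin 4) F} (h : g ^ 5 = 1) {u : Fin 4 → F} (hu : u ≠ 0) (e : g.1 *ᵥ u = u) :
    g = 1 := by
  classical
  have : Fact (Nat.Prime 5) := ⟨by norm_num⟩
  let K := LinearMap.eqLocus (toLin' g.1) LinearMap.id
  have h1 := Perm.card_fixedPoints_modEq (f := (MulAction.toEndHom g : Function.End (Fin 4 → F))) (p := 5) (n := 1)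
    (by rw [← map_pow, pow_one, h, map_one])
  have h2 : Nat.card K ∣ _ := K.toAddSubgroup.card_addSubgroup_dvd_card
  have h3 : 1 < Nat.card K := Finite.one_lt_card_iff_nontrivial.2 ⟨⟨u, e⟩, 0, fun c => hu (congrArg Subtype.val c)⟩
  have h4 : Nat.card (Fin 4 → F) = 16 := by simp [hF]
  simp only [← Nat.card_eq_fintype_card, h4] at h1
  change 16 ≡ Nat.card K [MOD 5] at h1
  rw [h4] at h2
  have h5 : Nat.card K = 16 := by
    have := Nat.le_of_dvd (by norm_num) h2
    generalize Nat.card K = k at *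
    interval_cases k <;> simp_all [Nat.ModEq]
  have := K.toAddSubgroup.eq_top_of_card_eq (h5.trans h4.symm)
  exact Units.ext (toLin'.injective (LinearMap.ext fun x => 
    (show toLin' g.1 x = x from (show x ∈ K.toAddSubgroup by simp [this])).trans (by simp)))

theorem no_tv (hF : Fintype.card F = 2) {H : Subgroup (GL (Fin 4) F)} (e : H ≃* alternatingGroup (Fin 7)) {t : H}
    (ht : t ^ 2 = 1) {ψ : Fin 4 → F} (h : ∀ x, ψ ⬝ᵥ x = 0 → t.1.1 *ᵥ x = x) : t = 1 := by
  by_contra h1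
  have : Fact (Nat.Prime 2) := ⟨by norm_num⟩
  have k : ∀ y : alternatingGroup (Fin 7), y ^ 2 = 1 → y ≠ 1 → ∃ χ : Fin 4 → F, ∀ x, χ ⬝ᵥ x = 0 → (e.symm y).1.1 *ᵥ x = x :=
    fun y a b => by
    obtain ⟨c, rfl⟩ := isConj_iff.1 (conj ((e.orderOf_eq t).trans (orderOf_eq_prime ht h1)) (orderOf_eq_prime a b))
    refine ⟨ψ ᵥ* (e.symm c⁻¹).1.1, fun x hx => ?_⟩
    rw [← dotProduct_mulVec] at hx
    rw [map_mul, map_mul, e.symm_apply_apply, coe_mul, coe_mul, Units.val_mul, Units.val_mul, ← mulVec_mulVec, ← mulVec_mulVec,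
      h _ hx, mulVec_mulVec, ← Units.val_mul, ← coe_mul, ← map_mul]
    simp
  let a : alternatingGroup (Fin 7) := ⟨swap 1 4 * swap 2 3, by simp⟩
  let b : alternatingGroup (Fin 7) := ⟨swap 0 1 * swap 2 4, by simp⟩
  obtain ⟨χ, hχ⟩ := k a (by decide) (by decide)
  obtain ⟨χ', hχ'⟩ := k b (by decide) (by decide)
  obtain ⟨u, hu, u1, u2⟩ := ex2 χ χ'
  have := five hF (g := (e.symm (a * b)).1) (by rw [← coe_pow, ← map_pow, show (a * b) ^ 5 = 1 by decide]; simp) hu
    (by rw [map_mul, coe_mul, Units.val_mul, ← mulVec_mulVec, hχ' u u2, hχ u u1])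
  exact absurd (e.symm.map_eq_one_iff.1 (Subtype.ext this)) (by decide)

omit [Fintype F] in
/-- Transvections with a given axis. -/
noncomputable def tv (ψ : Fin 4 → F) : Multiplicative (LinearMap.ker (dotProductBilin F F ψ)) →* GL (Fin 4) F :=
  MonoidHom.mk' (fun u => (slTv u.toAdd.1 ψ u.toAdd.2).toGL) fun u v => Units.ext (by
    change 1 + vecMulVec (u.toAdd.1 + v.toAdd.1) ψ = (1 + vecMulVec u.toAdd.1 ψ) * (1 + vecMulVec v.toAdd.1 ψ)
    simp [add_mul, mul_add, vecMulVec_mul_vecMulVec, show ψ ⬝ᵥ v.toAdd.1 = 0 from v.toAdd.2, add_vecMulVec, add_assoc])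

omit [Fintype F] in
theorem tv_mulVec (ψ : Fin 4 → F) (u) (x) : (tv ψ u).1 *ᵥ x = x + (ψ ⬝ᵥ x) • u.toAdd.1 := one_add_vecMulVec_mulVec _ _ _

theorem card_ker (hF : Nat.card F = 2) {ψ : Fin 4 → F} (h0 : ψ ≠ 0) : Nat.card (LinearMap.ker (dotProductBilin F F ψ)) = 8 := by
  have := Module.Dual.finrank_ker_add_one_of_ne_zero (f := dotProductBilin F F ψ) fun c => h0 (by
    ext i; simpa using LinearMap.congr_fun c (Pi.single i 1))
  rw [Module.finrank_fintype_fun_eq_card, Fintype.card_fin] at this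
  rw [Module.natCard_eq_pow_finrank (K := F), hF, Nat.succ_injective this]; rfl

/-- Let F be the field with 2 elements. GL_4(F) (≅ A_8) has a subgroup isomorphic to the alternating group A_7, and every such subgroup acts 2-transitively on the 15 non-zero vectors of F⁴: any ordered pair of distinct non-zero vectors is carried to any other by some element of the subgroup. -/
theorem result {F : Type*} [Field F] [Fintype F] (hF : Fintype.card F = 2) : (∃ H : Subgroup (Matrix.GeneralLinearGroup (Fin 4) F), Nonempty (H ≃* alternatingGroup (Fin 7))) ∧ ∀ H : Subgroup (Matrix.GeneralLinearGroup (Fin 4) F), Nonempty (H ≃* alternatingGroup (Fin 7)) → ∀ v w v' w' : Fin 4 → F, v ≠ 0 → w ≠ 0 → v ≠ w → v' ≠ 0 → w' ≠ 0 → v' ≠ w' → ∃ g ∈ H, (g : Matrix (Fin 4) (Fin 4) F).mulVec v = v' ∧ (g : Matrix (Fin 4) (Fin 4) F).mulVec w = w' := by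
  have hF' : Nat.card F = 2 := by simpa using hF
  obtain ⟨e8⟩ := gl4_two_equiv hF'
  constructor
  · obtain ⟨f, hf⟩ := exists_alt_hom (Fin.castSuccEmb (n := 7))
    exact ⟨_, ⟨(MonoidHom.ofInjective (f := e8.symm.toMonoidHom.comp f) (e8.symm.injective.comp hf)).symm⟩⟩
  rintro H ⟨e⟩ v w v' w' a1 a2 a3 b1 b2 b3
  have ns : ∀ {v w : Fin 4 → F}, w ≠ 0 → v ≠ w → w ∉ F ∙ v := fun h1 h2 h => by
    obtain ⟨c, rfl⟩ := Submodule.mem_span_singleton.1 h
    have := FiniteField.pow_card_sub_one_eq_one c (by rintro rfl; simp at h1)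
    simp_all
  obtain ⟨g, g1, g2⟩ := exists_sl_pair (by simp) a1 (ns a2 a3) b1 (ns b2 b3)
  obtain ⟨ψ, h0, h1, h2⟩ := ex2 v' w'
  have tx : ∀ u x, ψ ⬝ᵥ x = 0 → (tv ψ u).1 *ᵥ x = x := fun u x h => by simp [tv_mulVec, h]
  have hH : H.index = 8 := by
    have := H.card_mul_index
    rw [Nat.card_congr e.toEquiv, Nat.card_congr e8.toEquiv, card_A8, Nat.card_eq_fintype_card,
      card_alternatingGroup] at this
    simp [Nat.factorial] at this; omega
  have h2F : (2 : F) = 0 := by simpa [hF] using FiniteField.cast_card_eq_zero F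
  obtain ⟨z, hz⟩ := exists_dotProduct_eq_one h0
  obtain ⟨u, hu⟩ := (Function.Injective.bijective_of_nat_card_le (f := fun u => (tv ψ u : GL (Fin 4) F ⧸ H)) (fun u v h => by
    have h := QuotientGroup.eq.1 h
    rw [← map_inv, ← map_mul] at h
    have := congrArg Subtype.val (no_tv hF e (t := ⟨_, h⟩) (Subtype.ext (by
      rw [coe_pow, ← map_pow, show (u⁻¹ * v) ^ 2 = 1 from Multiplicative.toAdd.injective (by rw [toAdd_pow, ← Nat.cast_smul_eq_nsmul F]; simp [h2F]), map_one]; rfl)) (tx _))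
    have := (tv_mulVec ψ (u⁻¹ * v) z).symm.trans (by rw [show tv ψ (u⁻¹ * v) = 1 from this, Units.val_one, one_mulVec])
    exact inv_mul_eq_one.1 (Multiplicative.toAdd.injective (Subtype.ext (by simpa [dotProduct_comm ψ, hz] using this))))
    (by rw [← index_eq_card, hH, ← card_ker hF' h0]; rfl)).2 g.toGL
  refine ⟨_, QuotientGroup.eq.1 hu, ?_⟩
  rw [← map_inv, Units.val_mul, ← mulVec_mulVec, ← mulVec_mulVec]
  exact ⟨(congrArg _ g1).trans (tx _ _ ((dotProduct_comm _ _).trans h1)), (congrArg _ g2).trans (tx _ _ ((dotProduct_comm _ _).trans h2))⟩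

end Cfsg.Agent.S2551
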