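import Cfsg.Statements.S2269
import Cfsg.Agent.S2551

set_option autoImplicit false
open Cfsg

namespace Cfsg.Agent.S2269

open Equiv Subgroup

theorem even {G : Type*} [Group G] [Finite G] {p : ℕ} [Fact p.Prime] (P : Sylow p G) [IsMulCommutative P] {x : G} {k : ℕ}
    (hx : orderOf x = p ^ k) (h : IsConj x x⁻¹) (h1 : x ≠ x⁻¹) :
    2 ∣ ((centralizer (P : Set G)).subgroupOf (normalizer (P : Set G))).index := by
  obtain ⟨Q, hQ⟩ := (IsPGroup.of_card ((Nat.card_zpowers x).trans hx)).exists_le_sylow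
  obtain ⟨g, rfl⟩ := MulAction.exists_smul_eq G Q P
  have hy : g * x * g⁻¹ ∈ g • Q := smul_mem_pointwise_smul x (MulAut.conj g) _ (hQ (mem_zpowers x))
  have h2 : IsConj (g * x * g⁻¹)⁻¹ (g * x * g⁻¹) :=
    ((isConj_iff.2 ⟨g⁻¹, by group⟩).trans h.symm).trans (isConj_iff.2 ⟨g, rfl⟩)
  have h3 : g * x * g⁻¹ ≠ (g * x * g⁻¹)⁻¹ := by simpa [mul_assoc] using h1
  generalize g * x * g⁻¹ = y, g • Q = P at *
  obtain ⟨c, hc⟩ := isConj_iff.1 h2.symm
  obtain ⟨t, ht, e⟩ := P.conj_eq_normalizer_conj_of_mem y c⁻¹ hy (by rw [inv_inv, hc]; exact inv_mem hy)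
  rw [inv_inv, hc] at e
  by_contra a
  obtain ⟨m, hm⟩ := Nat.odd_iff.2 (Nat.two_dvd_ne_zero.1 a)
  have := mem_subgroupOf.1 (pow_index_mem (H := (centralizer (P : Set G)).subgroupOf (normalizer (P : Set G))) ⟨t, ht⟩) y hy
  have e2 : Commute (t ^ 2) y := by
    have e' : y = t⁻¹ * y⁻¹ * t := inv_injective (e.trans (by group) |> fun h : y⁻¹ = (t⁻¹ * y⁻¹ * t)⁻¹ => h)
    rw [e] at e'
    rw [Commute, SemiconjBy, sq]; nth_rw 1 [e']; group
  rw [hm, coe_pow, pow_succ, pow_mul, ← mul_assoc, ← (e2.pow_left m).eq, mul_assoc, mul_assoc, mul_right_inj] at this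
  exact h3 (by rw [e, mul_assoc, this]; simp)

theorem five {G : Type*} [Group G] [Finite G] [IsSimpleGroup G] (P : Sylow 2 G) [IsMulCommutative P] (h60 : Nat.card G = 60)
    (h : ∀ x : G, x ^ 4 = 1 → x ^ 2 = 1) :
    ((centralizer (P : Set G)).subgroupOf (normalizer (P : Set G))).index = 3 ∧ IsKleinFour P := by
  have h4 : Nat.card P.1 = 4 := by
    rw [P.card_eq_multiplicity, h60, show 60 = 2 ^ 2 * 15 by rfl, Nat.factorization_mul_apply_of_coprime (by norm_num),
      Nat.factorization_eq_zero_of_not_dvd (n := 15) (by norm_num), Nat.factorization_pow_self Nat.prime_two]; rfl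
  refine ⟨?_, ⟨h4, ?_⟩⟩
  · have a : P.1.index = 15 := by have := P.1.card_mul_index; rw [h4] at this; omega
    have b : ((centralizer (P : Set G)).subgroupOf (normalizer (P : Set G))).index ∣ 15 :=
      a ▸ (relIndex_dvd_of_le_left _ P.1.le_centralizer).trans (relIndex_dvd_index_of_le le_normalizer)
    have c : ((centralizer (P : Set G)).subgroupOf (normalizer (P : Set G))).index ∣ 24 := by
      have := card_dvd_of_injective (MulAut.toPerm P.1) fun _ _ h => MulEquiv.toEquiv_injective h
      rw [Nat.card_perm, h4] at this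
      have e := (card_subgroup_dvd_card P.1.normalizerMonoidHom.range).trans this
      rwa [← index_ker, normalizerMonoidHom_ker] at e
    refine ((Nat.dvd_prime Nat.prime_three).1 (Nat.dvd_gcd b c)).resolve_left fun d => ?_
    have e := (MonoidHom.ker_transferSylow_isComplement' P (subgroupOf_eq_top.1 (index_eq_one.1 d))).card_mul_card
    rcases (MonoidHom.normal_ker (MonoidHom.transferSylow P (subgroupOf_eq_top.1 (index_eq_one.1 d)))).eq_bot_or_eq_top with f | f <;>
      rw [f, h60, h4] at e <;> simp [h60] at e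
  · have : Nontrivial P := Finite.one_lt_card_iff_nontrivial.1 (show 1 < Nat.card P.1 by omega)
    refine (Monoid.exponent_eq_prime_iff Nat.prime_two).2 fun x hx => orderOf_eq_prime (Subtype.ext (h _ ?_)) hx
    exact h4 ▸ congrArg Subtype.val (pow_card_eq_one' (x := x))

/-- Let n ≥ 5 and let P be an abelian Sylow p-subgroup of the alternating group A_n. Then N(P)/C(P) (taken in A_n) has even order, or P is cyclic, except when n = 5 and p = 2, where P is a four-group and N(P)/C(P) has order 3. -/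
theorem result (n : ℕ) (hn : 5 ≤ n) {p : ℕ} [Fact p.Prime]
    (P : Sylow p (alternatingGroup (Fin n))) (hP : IsMulCommutative (P : Subgroup (alternatingGroup (Fin n)))) :
    (¬ (n = 5 ∧ p = 2) → 2 ∣ ((Subgroup.centralizer ((P : Subgroup (alternatingGroup (Fin n))) : Set (alternatingGroup (Fin n)))).subgroupOf (Subgroup.normalizer ((P : Subgroup (alternatingGroup (Fin n))) : Set (alternatingGroup (Fin n))))).index ∨ IsCyclic (P : Subgroup (alternatingGroup (Fin n)))) ∧
    ((n = 5 ∧ p = 2) → ((Subgroup.centralizer ((P : Subgroup (alternatingGroup (Fin n))) : Set (alternatingGroup (Fin n)))).subgroupOf (Subgroup.normalizer ((P : Subgroup (alternatingGroup (Fin n))) : Set (alternatingGroup (Fin n))))).index = 3 ∧ IsKleinFour (P : Subgroup (alternatingGroup (Fin n)))) := by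
  have hp : p.Prime := Fact.out
  refine ⟨fun h => ?_, ?_⟩
  · by_cases h2 : p = 2
    · subst h2
      obtain ⟨f, hf⟩ := S2551.exists_alt_hom (Fin.castLEEmb (show 6 ≤ n by omega))
      let x : alternatingGroup (Fin 6) := ⟨swap 0 1 * swap 1 2 * swap 2 3 * swap 4 5, by simp⟩
      refine .inl (even P (x := f x) (k := 2) ((orderOf_injective f hf x).trans (orderOf_eq_prime_pow (by decide) (by decide)))
        (map_inv f x ▸ f.map_isConj (isConj_iff.2 ⟨⟨swap 1 3 * swap 4 5, by simp⟩, by decide⟩)) fun c => ?_)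
      exact absurd (hf (c.trans (map_inv f x).symm)) (by decide)
    by_cases h3 : p + 2 ≤ n
    · obtain ⟨x, hx⟩ := (Perm.exists_with_cycleType_iff (Fin n) (m := {p})).2 (by simpa using ⟨by omega, hp.two_le⟩)
      have a : x ∈ alternatingGroup (Fin n) := by
        rw [Perm.mem_alternatingGroup, Perm.sign_of_cycleType, hx]
        simpa using ((hp.odd_of_ne_two h2).add_one).neg_one_pow
      have b : orderOf (⟨x, a⟩ : alternatingGroup (Fin n)) = p ^ 1 := by simp [← orderOf_coe, ← Perm.lcm_cycleType, hx]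
      refine .inl (even P b (alternatingGroup.isConj_of (Perm.isConj_of_cycleType_eq (Perm.cycleType_inv x).symm)
        (by simpa [← Perm.sum_cycleType, hx])) fun c => h2 ?_)
      exact (Nat.prime_dvd_prime_iff_eq hp Nat.prime_two).1 (by
        rw [← pow_one p, ← b, orderOf_dvd_iff_pow_eq_one, sq]; exact mul_eq_one_iff_eq_inv.2 c)
    refine .inr (isCyclic_of_card_dvd_prime (p := p) ?_)
    obtain ⟨k, hk⟩ := P.2.exists_card_eq
    have d : p ^ k ∣ (p + 1).factorial := hk ▸ ((card_subgroup_dvd_card _).trans (card_subgroup_dvd_card _)).trans (by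
      rw [Nat.card_perm, Nat.card_eq_fintype_card, Fintype.card_fin]; exact Nat.factorial_dvd_factorial (by omega))
    rw [hk]
    rw [Nat.factorial_succ, ← Nat.mul_factorial_pred hp.ne_zero, mul_left_comm] at d
    refine Nat.Coprime.dvd_of_dvd_mul_right (Nat.Coprime.pow_left _ (Nat.Coprime.mul_right (by simp) ?_)) d
    exact (hp.coprime_iff_not_dvd).2 fun c => by have := hp.dvd_factorial.1 c; have := hp.pos; omega
  rintro ⟨rfl, rfl⟩
  refine five P (by rw [Nat.card_eq_fintype_card, card_alternatingGroup]; rfl) fun x h => Subtype.ext ?_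
  have : ∀ g : Perm (Fin 5), Perm.sign g = 1 → g ^ 4 = 1 → g ^ 2 = 1 := by decide +kernel
  exact this _ x.2 (congrArg Subtype.val h)

end Cfsg.Agent.S2269
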