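import Cfsg.Statements.S2270
import Cfsg.Agent.S2268

set_option autoImplicit false
open Cfsg

namespace Cfsg.Agent.S2270

open Subgroup



/-- Let n ≥ 3, p an odd prime, and P an abelian Sylow p-subgroup of the symmetric group S_n (with p dividing n!, so that P ≠ 1). Then N(P)/C(P) has even order. -/
theorem result (n : ℕ) (hn : 3 ≤ n) {p : ℕ} [Fact p.Prime] (hp : p ≠ 2) (hpn : p ≤ n)
    (P : Sylow p (Equiv.Perm (Fin n))) (hP : IsMulCommutative (P : Subgroup (Equiv.Perm (Fin n)))) :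
    2 ∣ ((Subgroup.centralizer ((P : Subgroup (Equiv.Perm (Fin n))) : Set (Equiv.Perm (Fin n)))).subgroupOf (Subgroup.normalizer ((P : Subgroup (Equiv.Perm (Fin n))) : Set (Equiv.Perm (Fin n))))).index := by
  have h1 : p ∣ Nat.card P := P.dvd_card_of_dvd_card (by
    rw [Nat.card_eq_fintype_card, Fintype.card_perm, Fintype.card_fin]
    exact Nat.dvd_factorial (Fact.out : p.Prime).pos hpn)
  obtain ⟨⟨x, hxP⟩, hx⟩ := exists_prime_orderOf_dvd_card' p h1
  rw [orderOf_mk] at hx
  obtain ⟨g, hg⟩ := isConj_iff.1 (Equiv.Perm.isConj_iff_cycleType_eq.2 (Equiv.Perm.cycleType_inv x).symm)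
  refine Dvd.dvd.trans ?_ (S2268.result P hP (zpowers x) (zpowers_le.2 hxP)).2
  have hN : g ∈ normalizer (zpowers x : Set (Equiv.Perm (Fin n))) := by
    refine mem_normalizer_fintype ?_
    rintro _ ⟨k, rfl⟩
    rw [← conj_zpow, hg]; exact zpow_mem (inv_mem (mem_zpowers x)) k
  have : orderOf (QuotientGroup.mk (s := (centralizer (zpowers x : Set (Equiv.Perm (Fin n)))).subgroupOf _)
      ⟨g, hN⟩) = 2 := by
    refine orderOf_eq_prime ?_ fun h => ?_
    · rw [← QuotientGroup.mk_pow, QuotientGroup.eq_one_iff, mem_subgroupOf]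
      show g ^ 2 ∈ _
      rw [zpowers_eq_closure, centralizer_closure, mem_centralizer_singleton_iff]
      have : g * x⁻¹ * g⁻¹ = x := by rw [← conj_inv, hg, inv_inv]
      calc g ^ 2 * x = g * (g * x * g⁻¹) * g⁻¹ * g ^ 2 := by rw [sq]; group
        _ = _ := by rw [hg, this]
    · rw [QuotientGroup.eq_one_iff, mem_subgroupOf] at h
      have := h x (mem_zpowers x)
      have h2 : x ^ 2 = 1 := by
        rw [sq, ← eq_inv_iff_mul_eq_one, ← hg, ← show x * g = g * x from this, mul_inv_cancel_right]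
      exact hp ((Nat.prime_dvd_prime_iff_eq Fact.out Nat.prime_two).1 (hx ▸ orderOf_dvd_of_pow_eq_one h2))
  exact this ▸ orderOf_dvd_natCard _

end Cfsg.Agent.S2270
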