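import Cfsg.Statements.S2271

set_option autoImplicit false
open Cfsg

namespace Cfsg.Agent.S2271

open Equiv Finset

section
variable {α : Type*} [Fintype α] [DecidableEq α]

def mt (p : Perm α) (i j : α) : ℤ := if p i = j then 1 else 0

def cnt (p q : Perm α) : ℤ := ∑ i, if p i = q i then 1 else 0

def dl (M : α → α → ℤ) (x y z w : α) : ℤ := M x y - M x z - M w y + M w z

def ind (x i : α) : ℤ := if i = x then 1 else 0

theorem cnt_eq (p q : Perm α) : cnt p q = ∑ i, ∑ j, mt q i j * mt p i j := by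
  unfold cnt mt
  refine Finset.sum_congr rfl fun i _ => ?_
  rw [Finset.sum_eq_single (q i)]
  · simp
  · intro j _ hj; rw [if_neg (Ne.symm hj), zero_mul]
  · simp

omit [Fintype α] in
theorem mt_conj (g p : Perm α) (i j : α) : mt (g * p * g⁻¹) i j = mt p (g⁻¹ i) (g⁻¹ j) := by
  unfold mt
  simp only [Perm.mul_apply, Perm.eq_inv_iff_eq]
  congr

theorem cnt_conj (g p q : Perm α) : cnt (g * p * g⁻¹) (g * q * g⁻¹) = cnt p q := by
  unfold cnt
  rw [← Equiv.sum_comp g]
  simp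

omit [Fintype α] in
theorem key (M : α → α → ℤ) {x y z w : α} (h1 : x ≠ y) (h2 : x ≠ z) (h3 : x ≠ w) (h4 : y ≠ z)
    (h5 : y ≠ w) (h6 : z ≠ w) (i j : α) :
    M i j - M (swap y z i) (swap y z j) - M (swap x w i) (swap x w j)
      + M (swap y z (swap x w i)) (swap y z (swap x w j)) =
    dl M x y z w * ((ind x i - ind w i) * (ind y j - ind z j)) +
      dl (fun a b => M b a) x y z w * ((ind y i - ind z i) * (ind x j - ind w j)) := by
  have g1 := h1.symm; have g2 := h2.symm; have g3 := h3.symm; have g4 := h4.symm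
  have g5 := h5.symm; have g6 := h6.symm
  have A : ∀ i : α, i = x ∨ i = y ∨ i = z ∨ i = w ∨ (i ≠ x ∧ i ≠ y ∧ i ≠ z ∧ i ≠ w) := by
    intro i; tauto
  rcases A i with rfl | rfl | rfl | rfl | ⟨a1, a2, a3, a4⟩ <;>
  rcases A j with rfl | rfl | rfl | rfl | ⟨b1, b2, b3, b4⟩ <;>
  simp [dl, ind, swap_apply_def, *] <;> ring

theorem sum_ind (C : α → α → ℤ) (x y z w : α) :
    ∑ i, ∑ j, C i j * ((ind x i - ind w i) * (ind y j - ind z j)) = dl C x y z w := by
  have : ∀ a b : α, ∑ i, ∑ j, C i j * (ind a i * ind b j) = C a b := by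
    intro a b
    simp [ind]
  have e : ∀ i j, C i j * ((ind x i - ind w i) * (ind y j - ind z j)) =
      C i j * (ind x i * ind y j) - C i j * (ind x i * ind z j) - C i j * (ind w i * ind y j)
        + C i j * (ind w i * ind z j) := by intro i j; ring
  simp only [e, Finset.sum_add_distrib, Finset.sum_sub_distrib, this, dl]

theorem second (p c : Perm α) {x y z w : α} (h1 : x ≠ y) (h2 : x ≠ z) (h3 : x ≠ w) (h4 : y ≠ z)
    (h5 : y ≠ w) (h6 : z ≠ w) :
    cnt p c - cnt (swap y z * p * (swap y z)⁻¹) c - cnt (swap x w * p * (swap x w)⁻¹) c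
      + cnt ((swap x w * swap y z) * p * (swap x w * swap y z)⁻¹) c =
    dl (mt p) x y z w * dl (mt c) x y z w +
      dl (fun a b => mt p b a) x y z w * dl (fun a b => mt c b a) x y z w := by
  have e1 := sum_ind (mt c) x y z w
  have e2 := sum_ind (mt c) y x w z
  have e3 : dl (mt c) y x w z = dl (fun a b => mt c b a) x y z w := by unfold dl; ring
  rw [← e3, ← e1, ← e2]
  simp only [cnt_eq, mt_conj]
  simp only [mul_inv_rev, swap_inv, Perm.mul_apply, Finset.mul_sum,
    ← Finset.sum_sub_distrib, ← Finset.sum_add_distrib]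
  refine Finset.sum_congr rfl fun i _ => Finset.sum_congr rfl fun j _ => ?_
  have := key (mt p) h1 h2 h3 h4 h5 h6 i j
  linear_combination mt c i j * this

theorem ex4 {x y z w x' y' z' w' : α} (h1 : x ≠ y) (h2 : x ≠ z) (h3 : x ≠ w) (h4 : y ≠ z)
    (h5 : y ≠ w) (h6 : z ≠ w) (k1 : x' ≠ y') (k2 : x' ≠ z') (k3 : x' ≠ w') (k4 : y' ≠ z')
    (k5 : y' ≠ w') (k6 : z' ≠ w') :
    ∃ g : Perm α, g x = x' ∧ g y = y' ∧ g z = z' ∧ g w = w' := by
  have inj : ∀ {x y z w : α}, x ≠ y → x ≠ z → x ≠ w → y ≠ z → y ≠ w → z ≠ w →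
      Function.Injective ![x, y, z, w] := by
    intro x y z w h1 h2 h3 h4 h5 h6 i j hij
    have g1 := h1.symm; have g2 := h2.symm; have g3 := h3.symm; have g4 := h4.symm
    have g5 := h5.symm; have g6 := h6.symm
    fin_cases i <;> fin_cases j <;> simp_all
  obtain ⟨g, hg⟩ := Equiv.Perm.exists_smul_eq_embedding
    (⟨_, inj h1 h2 h3 h4 h5 h6⟩ : Fin 4 ↪ α) ⟨_, inj k1 k2 k3 k4 k5 k6⟩
  have := fun i => congrArg (fun e : Fin 4 ↪ α => e i) hg
  exact ⟨g, by simpa using this 0, by simpa using this 1, by simpa using this 2,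
    by simpa using this 3⟩

theorem exq (hn : 5 ≤ Fintype.card α) (b : Perm α) (hb : b ≠ 1) :
    ∃ x y z w : α, x ≠ y ∧ x ≠ z ∧ x ≠ w ∧ y ≠ z ∧ y ≠ w ∧ z ≠ w ∧
      dl (mt b) x y z w + dl (fun a c => mt b c a) x y z w ≠ 0 := by
  obtain ⟨x, hx⟩ : ∃ x, b x ≠ x := by
    by_contra h; push Not at h; exact hb (Equiv.ext h)
  have ex : ∀ s : Finset α, s.card ≤ 4 → ∃ z, z ∉ s := by
    intro s hs
    by_contra h; push Not at h
    have : s = univ := Finset.eq_univ_iff_forall.2 h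
    rw [this, Finset.card_univ] at hs; omega
  obtain ⟨z, hz⟩ := ex {x, b x, b⁻¹ x} (Finset.card_le_three.trans (by norm_num))
  obtain ⟨w, hw⟩ := ex {x, b x, b (b x), z} Finset.card_le_four
  simp only [Finset.mem_insert, Finset.mem_singleton, not_or] at hz hw
  obtain ⟨z1, z2, z3⟩ := hz
  obtain ⟨w1, w2, w3, w4⟩ := hw
  refine ⟨x, b x, z, w, hx.symm, Ne.symm z1, Ne.symm w1, Ne.symm z2, Ne.symm w2, Ne.symm w4, ?_⟩
  have a1 : b x ≠ z := Ne.symm z2
  have a2 : b w ≠ b x := fun h => w1 (b.injective h)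
  have a3 : b z ≠ x := fun h => z3 (by rw [← h]; simp)
  have a4 : b (b x) ≠ w := Ne.symm w3
  simp only [dl, mt, if_neg a1, if_neg a2, if_neg a3, if_neg a4, if_true]
  split_ifs <;> norm_num

theorem caseA (hn : 5 ≤ Fintype.card α) (b c : Perm α) (hb : b ≠ 1) (hc : c ≠ 1) (k : ℤ)
    (H : ∀ g : Perm α, cnt (g * b * g⁻¹) c = k) : False := by
  obtain ⟨x, y, z, w, h1, h2, h3, h4, h5, h6, hQ⟩ := exq hn b hb
  obtain ⟨x', y', z', w', k1, k2, k3, k4, k5, k6, hP⟩ := exq hn c hc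
  have gen : ∀ {x y z w : α}, x ≠ y → x ≠ z → x ≠ w → y ≠ z → y ≠ w → z ≠ w →
      dl (mt b) x y z w * dl (mt c) x' y' z' w' +
      dl (fun a d => mt b d a) x y z w * dl (fun a d => mt c d a) x' y' z' w' = 0 := by
    intro x y z w h1 h2 h3 h4 h5 h6
    obtain ⟨g, g1, g2, g3, g4⟩ := ex4 h1 h2 h3 h4 h5 h6 k1 k2 k3 k4 k5 k6
    have := second (g * b * g⁻¹) c k1 k2 k3 k4 k5 k6
    have e : ∀ s : Perm α, cnt (s * (g * b * g⁻¹) * s⁻¹) c = k := by
      intro s; rw [← H (s * g)]; simp only [mul_inv_rev, mul_assoc]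
    rw [e, e, e, H] at this
    have i1 : g⁻¹ x' = x := by rw [← g1]; simp
    have i2 : g⁻¹ y' = y := by rw [← g2]; simp
    have i3 : g⁻¹ z' = z := by rw [← g3]; simp
    have i4 : g⁻¹ w' = w := by rw [← g4]; simp
    simp only [dl, mt_conj, i1, i2, i3, i4] at this ⊢
    linear_combination -this
  have e1 := gen h1 h2 h3 h4 h5 h6
  have e2 := gen h1.symm h5 h4 h3 h2 h6.symm
  apply mul_ne_zero hQ hP
  simp only [dl] at e1 e2 ⊢
  linear_combination e1 + e2

theorem alt3 (hn : 5 ≤ Fintype.card α) {x y z x' y' z' : α} (h1 : x ≠ y) (h2 : x ≠ z) (h4 : y ≠ z)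
    (k1 : x' ≠ y') (k2 : x' ≠ z') (k4 : y' ≠ z') :
    ∃ g ∈ alternatingGroup α, g x = x' ∧ g y = y' ∧ g z = z' := by
  have ex : ∀ s : Finset α, s.card ≤ 4 → ∃ z, z ∉ s := by
    intro s hs
    by_contra h; push Not at h
    have : s = univ := Finset.eq_univ_iff_forall.2 h
    rw [this, Finset.card_univ] at hs; omega
  obtain ⟨w, hw⟩ := ex {x, y, z} (Finset.card_le_three.trans (by norm_num))
  obtain ⟨w', hw'⟩ := ex {x', y', z'} (Finset.card_le_three.trans (by norm_num))
  obtain ⟨v, hv⟩ := ex {x', y', z', w'} Finset.card_le_four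
  simp only [Finset.mem_insert, Finset.mem_singleton, not_or] at hw hw' hv
  obtain ⟨g, g1, g2, g3, -⟩ := ex4 h1 h2 (Ne.symm hw.1) h4 (Ne.symm hw.2.1) (Ne.symm hw.2.2)
    k1 k2 (Ne.symm hw'.1) k4 (Ne.symm hw'.2.1) (Ne.symm hw'.2.2)
  rcases Int.units_eq_one_or (Perm.sign g) with h | h
  · exact ⟨g, h, g1, g2, g3⟩
  · refine ⟨swap w' v * g, ?_, ?_, ?_, ?_⟩
    · rw [Perm.mem_alternatingGroup, map_mul, h, Perm.sign_swap (Ne.symm hv.2.2.2)]; simp
    · rw [Perm.mul_apply, g1, swap_apply_of_ne_of_ne (Ne.symm hw'.1) (Ne.symm hv.1)]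
    · rw [Perm.mul_apply, g2, swap_apply_of_ne_of_ne (Ne.symm hw'.2.1) (Ne.symm hv.2.1)]
    · rw [Perm.mul_apply, g3, swap_apply_of_ne_of_ne (Ne.symm hw'.2.2) (Ne.symm hv.2.2.1)]

noncomputable def NN (b : Perm α) (x y : α) : ℤ :=
  ∑ g : alternatingGroup α, mt ((g : Perm α) * b * (g : Perm α)⁻¹) x y

theorem NN_conj (b : Perm α) (h : Perm α) (hh : h ∈ alternatingGroup α) (x y : α) :
    NN b (h x) (h y) = NN b x y := by
  unfold NN
  rw [← Equiv.sum_comp (Equiv.mulLeft (⟨h, hh⟩ : alternatingGroup α))]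
  refine Finset.sum_congr rfl fun g _ => ?_
  rw [mt_conj, mt_conj]
  simp

theorem NN_sum (b : Perm α) (x : α) : ∑ y, NN b x y = Fintype.card (alternatingGroup α) := by
  unfold NN
  rw [Finset.sum_comm]
  have : ∀ p : Perm α, ∑ y, mt p x y = 1 := by intro p; simp [mt]
  simp only [this]; simp

theorem NN_nonneg (b : Perm α) (x y : α) : 0 ≤ NN b x y :=
  Finset.sum_nonneg fun _ _ => by unfold mt; split_ifs <;> norm_num

theorem caseB (hn : 5 ≤ Fintype.card α) (b c : Perm α) (hb : b ≠ 1) (hc : c ≠ 1) (k : ℤ)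
    (H : ∀ g ∈ alternatingGroup α, cnt (g * b * g⁻¹) c = k)
    (hb2 : ∀ x, b x ≠ x → b (b x) ≠ x) (hc2 : ∀ x, c x ≠ x → c (c x) ≠ x)
    (hc1 : ∀ x y, c x = x → c y = y → x = y) : False := by
  obtain ⟨x, hx⟩ : ∃ x, b x ≠ x := by
    by_contra h; push Not at h; exact hb (Equiv.ext h)
  obtain ⟨y, hy⟩ : ∃ x, c x ≠ x := by
    by_contra h; push Not at h; exact hc (Equiv.ext h)
  have hk : 2 ≤ k := by
    obtain ⟨g, hg, g1, g2, g3⟩ := alt3 hn hx.symm (hb2 x hx).symm
      (fun h => hx (b.injective h).symm) hy.symm (hc2 y hy).symm (fun h => hy (c.injective h).symm)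
    rw [← H g hg]
    unfold cnt
    have i1 : g⁻¹ y = x := by rw [← g1]; simp
    have i2 : g⁻¹ (c y) = b x := by rw [← g2]; simp
    calc (2 : ℤ) = ∑ i ∈ ({y, c y} : Finset α),
          (if (g * b * g⁻¹) i = c i then 1 else 0 : ℤ) := by
          rw [Finset.sum_pair hy.symm]
          simp only [Perm.mul_apply, i1, i2, g2, g3, if_true]; norm_num
      _ ≤ _ := Finset.sum_le_sum_of_subset_of_nonneg (Finset.subset_univ _)
          fun _ _ _ => by split_ifs <;> norm_num
  have tot : ∑ i, NN b i (c i) = Fintype.card (alternatingGroup α) * k := by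
    unfold NN
    rw [Finset.sum_comm]
    have : ∀ g : alternatingGroup α,
        ∑ i, mt ((g : Perm α) * b * (g : Perm α)⁻¹) i (c i) = k := fun g => H g g.2
    simp only [this]; simp
  have off : ∀ u v, u ≠ v → NN b u v = NN b y (c y) := by
    intro u v huv
    have ex : ∀ s : Finset α, s.card ≤ 4 → ∃ z, z ∉ s := by
      intro s hs
      by_contra h; push Not at h
      have : s = univ := Finset.eq_univ_iff_forall.2 h
      rw [this, Finset.card_univ] at hs; omega
    obtain ⟨w, hw⟩ := ex {u, v} (Finset.card_le_two.trans (by norm_num))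
    simp only [Finset.mem_insert, Finset.mem_singleton, not_or] at hw
    obtain ⟨g, hg, g1, g2, -⟩ := alt3 hn huv (Ne.symm hw.1) (Ne.symm hw.2) hy.symm
      (hc2 y hy).symm (fun h => hy (c.injective h).symm)
    rw [← NN_conj b g hg, g1, g2]
  set No := NN b y (c y) with hNo
  set A : ℤ := (Fintype.card (alternatingGroup α) : ℤ) with hA
  have row : ∀ u, NN b u u + (Fintype.card α - 1 : ℤ) * No = A := by
    intro u
    rw [hA, ← NN_sum b u, ← Finset.add_sum_erase _ _ (Finset.mem_univ u)]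
    congr 1
    rw [Finset.sum_congr rfl (fun v hv => off u v (Finset.ne_of_mem_erase hv).symm)]
    rw [Finset.sum_const, Finset.card_erase_of_mem (Finset.mem_univ u), Finset.card_univ,
      nsmul_eq_mul, Nat.cast_sub (by omega)]
    simp
  have hApos : 0 < A := by rw [hA]; exact_mod_cast Fintype.card_pos
  have h0 : 0 ≤ No := NN_nonneg _ _ _
  have hn' : (5 : ℤ) ≤ Fintype.card α := by exact_mod_cast hn
  have r0 := row y
  have d0 := NN_nonneg b y y
  by_cases hf : ∃ u, c u = u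
  · obtain ⟨u, hu⟩ := hf
    have : ∑ i, NN b i (c i) = A := by
      rw [← row u, ← Finset.add_sum_erase _ _ (Finset.mem_univ u), hu]
      congr 1
      rw [Finset.sum_congr rfl (fun v hv => off v (c v)
        (fun h => Finset.ne_of_mem_erase hv (hc1 _ _ h.symm hu)))]
      rw [Finset.sum_const, Finset.card_erase_of_mem (Finset.mem_univ u), Finset.card_univ,
        nsmul_eq_mul, Nat.cast_sub (by omega)]
      simp
    nlinarith
  · push Not at hf
    have : ∑ i, NN b i (c i) = Fintype.card α * No := by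
      rw [Finset.sum_congr rfl (fun v _ => off v (c v) (hf v).symm)]
      simp
    nlinarith

theorem odd_cent (b : Perm α) (h : ¬ ∃ t : Perm α, Perm.sign t = -1 ∧ t * b * t⁻¹ = b) :
    (∀ x, b x ≠ x → b (b x) ≠ x) ∧ ∀ x y, b x = x → b y = y → x = y := by
  constructor
  · intro x hx hxx
    refine h ⟨swap x (b x), Perm.sign_swap hx.symm, ?_⟩
    rw [mul_inv_eq_iff_eq_mul, Equiv.mul_swap_eq_swap_mul, hxx, swap_comm]
  · intro x y hx hy
    by_contra hxy
    refine h ⟨swap x y, Perm.sign_swap hxy, ?_⟩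
    rw [mul_inv_eq_iff_eq_mul, Equiv.mul_swap_eq_swap_mul, hx, hy]

theorem main (hn : 5 ≤ Fintype.card α) (b c : Perm α) (hb : b ≠ 1) (hc : c ≠ 1) (k : ℤ)
    (H : ∀ g ∈ alternatingGroup α, cnt (g * b * g⁻¹) c = k) : False := by
  by_cases h1 : ∃ t : Perm α, Perm.sign t = -1 ∧ t * b * t⁻¹ = b
  · obtain ⟨t, t1, t2⟩ := h1
    refine caseA hn b c hb hc k fun g => ?_
    rcases Int.units_eq_one_or (Perm.sign g) with h | h
    · exact H g h
    · rw [← H (g * t) (by rw [Perm.mem_alternatingGroup, map_mul, h, t1]; simp)]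
      congr 1
      conv_lhs => rw [← t2]
      group
  by_cases h2 : ∃ t : Perm α, Perm.sign t = -1 ∧ t * c * t⁻¹ = c
  · obtain ⟨t, t1, t2⟩ := h2
    refine caseA hn b c hb hc k fun g => ?_
    rcases Int.units_eq_one_or (Perm.sign g) with h | h
    · exact H g h
    · rw [← H (t * g) (by rw [Perm.mem_alternatingGroup, map_mul, h, t1]; simp),
        ← cnt_conj t (g * b * g⁻¹) c, t2]
      simp only [mul_inv_rev, mul_assoc]
  exact caseB hn b c hb hc k H (odd_cent b h1).1 (odd_cent c h2).1 (odd_cent c h2).2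

theorem card_fix (a p : Perm α) : (Nat.card (Function.fixedPoints ⇑(a * p)) : ℤ) = cnt p a⁻¹ := by
  unfold cnt
  rw [Finset.sum_boole, Nat.card_eq_fintype_card, Fintype.card_subtype]
  congr 2
  ext x
  simp only [Finset.mem_filter, Finset.mem_univ, true_and, Function.mem_fixedPoints_iff,
    Perm.eq_inv_iff_eq, Perm.mul_apply]

end

/-- Let n ≥ 5 and let a, b be non-identity permutations in the symmetric group S_n. Then the number of fixed points is not constant on the set of products a′b′ with a′ conjugate to a and b′ conjugate to b under the alternating group: there are even permutations g₁, h₁, g₂, h₂ such that (g₁ a g₁⁻¹)(h₁ b h₁⁻¹) and (g₂ a g₂⁻¹)(h₂ b h₂⁻¹) have different numbers of fixed points. -/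
theorem result (n : ℕ) (hn : 5 ≤ n) (a b : Equiv.Perm (Fin n)) (ha : a ≠ 1) (hb : b ≠ 1) :
    ∃ g₁ h₁ g₂ h₂ : Equiv.Perm (Fin n), g₁ ∈ alternatingGroup (Fin n) ∧ h₁ ∈ alternatingGroup (Fin n) ∧ g₂ ∈ alternatingGroup (Fin n) ∧ h₂ ∈ alternatingGroup (Fin n) ∧
      Nat.card (Function.fixedPoints ⇑(g₁ * a * g₁⁻¹ * (h₁ * b * h₁⁻¹))) ≠
        Nat.card (Function.fixedPoints ⇑(g₂ * a * g₂⁻¹ * (h₂ * b * h₂⁻¹))) := by
  by_contra H
  push Not at H
  refine main (by simpa using hn) b a⁻¹ hb (by simpa using ha) (cnt b a⁻¹) fun g hg => ?_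
  have := H 1 g 1 1 (one_mem _) hg (one_mem _) (one_mem _)
  simp only [one_mul, inv_one, mul_one] at this
  rw [← card_fix, ← card_fix, this]

end Cfsg.Agent.S2271
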