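import Cfsg.Statements.S2272
import Cfsg.Agent.Lib.Linear.SLPair

set_option autoImplicit false
open Cfsg

namespace Cfsg.Agent.S2272

open Cfsg.Lib.Linear Matrix

theorem tr_eq {ι F : Type*} [Fintype ι] [DecidableEq ι] [Field F] (a b : Matrix ι ι F) (i j : ι) (t : F) (h : a j i = 0) :
    (a * ((1 + single i j t) * b * (1 + single i j (-t)))).trace = (a * b).trace + t * ((b * a) j i - (a * b) j i) := by
  have e : a * ((1 + single i j t) * b * (1 + single i j (-t))) =
      a * b + a * b * single i j (-t) + a * (single i j t * b) + a * (single i j t * b * single i j (-t)) := by noncomm_ring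
  rw [e, trace_add, trace_add, trace_add, single_mul_mul_single, trace_mul_comm a (_ * b), Matrix.mul_assoc _ b a,
    trace_single_mul, trace_mul_single, trace_mul_single, h]
  simp; ring

theorem exists_trace {F : Type*} [Field F] {d : ℕ} (hd : 3 ≤ d) {A B : Matrix.SpecialLinearGroup (Fin d) F}
    (hA : ∀ c : F, (A : Matrix (Fin d) (Fin d) F) ≠ c • 1) (hB : ∀ c : F, (B : Matrix (Fin d) (Fin d) F) ≠ c • 1) (τ : F) :
    ∃ g h : Matrix.SpecialLinearGroup (Fin d) F, ((g * A * g⁻¹ * (h * B * h⁻¹) : Matrix.SpecialLinearGroup (Fin d) F) : Matrix (Fin d) (Fin d) F).trace = τ := by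
  obtain ⟨i, j, k, ij, ik, jk⟩ : ∃ i j k : Fin d, i ≠ j ∧ i ≠ k ∧ j ≠ k :=
    ⟨⟨0, by omega⟩, ⟨1, by omega⟩, ⟨2, by omega⟩, by simp⟩
  have ns : ∀ l, i ≠ l → (Pi.single l 1 : Fin d → F) ∉ F ∙ (Pi.single i 1 : Fin d → F) := fun l hl e => by
    obtain ⟨t, e⟩ := Submodule.mem_span_singleton.1 e
    simpa [hl] using congrFun e l
  obtain ⟨g, ha⟩ := exists_conj_mulVec (by simpa) hA (v := Pi.single i 1) (by simp) (ns j ij)
  obtain ⟨h, hb⟩ := exists_conj_mulVec (by simpa) hB (v := Pi.single i 1) (by simp) (ns k ik)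
  set a := g * A * g⁻¹
  set b := h * B * h⁻¹
  have a1 : ∀ l, a.1 l i = (Pi.single j 1 : Fin d → F) l := fun l => by simpa using congrFun ha l
  have b1 : ∀ l, b.1 l i = (Pi.single k 1 : Fin d → F) l := fun l => by simpa using congrFun hb l
  let u := Matrix.SpecialLinearGroup.transvection ij (b.1 k j - a.1 k k - 1)
  set c := u * b * u⁻¹ with hc
  have c1 : (c.1 * a.1) k i - (a.1 * c.1) k i = 1 := by
    rw [hc, Matrix.SpecialLinearGroup.transvection_inv]
    simp [u, Matrix.mul_apply, Matrix.SpecialLinearGroup.transvection_coe, a1, b1, Pi.single_apply, add_mul, mul_add, single,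
      one_apply, ij, ik, jk, ij.symm, ik.symm, jk.symm, Finset.sum_add_distrib, ite_and]
    ring
  let w := Matrix.SpecialLinearGroup.transvection ik (τ - (a.1 * c.1).trace)
  refine ⟨g, w * u * h, ?_⟩
  have : w * u * h * B * (w * u * h)⁻¹ = w * c * w⁻¹ := by simp only [c, b]; group
  rw [this, Matrix.SpecialLinearGroup.transvection_inv]
  simp only [sl_coe_mul (g * A * g⁻¹), sl_coe_mul (w * c), sl_coe_mul w, w, Matrix.SpecialLinearGroup.transvection_coe]
  rw [tr_eq _ _ _ _ _ (by simp [a, a1, jk.symm]), c1]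
  ring

/-- Let F be a finite field and d ≥ 3, and let a, b be non-identity elements of PSL_d(F). Then the product of the conjugacy classes of a and b is not a single conjugacy class: there are conjugates a′ of a and b′ of b such that a′b′ is not conjugate to ab. -/
theorem result {F : Type*} [Field F] [Fintype F] (d : ℕ) (hd : 3 ≤ d)
    (a b : Matrix.ProjectiveSpecialLinearGroup (Fin d) F) (ha : a ≠ 1) (hb : b ≠ 1) :
    ∃ g h : Matrix.ProjectiveSpecialLinearGroup (Fin d) F, ¬ IsConj (a * b) (g * a * g⁻¹ * (h * b * h⁻¹)) := by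
  obtain ⟨A, rfl⟩ := QuotientGroup.mk_surjective a
  obtain ⟨B, rfl⟩ := QuotientGroup.mk_surjective b
  have ns : ∀ A : Matrix.SpecialLinearGroup (Fin d) F, (A : ProjectiveSpecialLinearGroup (Fin d) F) ≠ 1 →
      ∀ c : F, (A : Matrix (Fin d) (Fin d) F) ≠ c • 1 := fun A h c e => h ((QuotientGroup.eq_one_iff _).2
    (Subgroup.mem_center_iff.2 fun g => Subtype.ext (by rw [sl_coe_mul, sl_coe_mul, e]; simp)))
  by_contra! h
  obtain ⟨g₀, h₀, e₀⟩ := exists_trace hd (ns A ha) (ns B hb) 0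
  obtain ⟨g₁, h₁, e₁⟩ := exists_trace hd (ns A ha) (ns B hb) 1
  obtain ⟨x, hx⟩ := isConj_iff.1 ((h g₀ h₀).symm.trans (h g₁ h₁))
  obtain ⟨x, rfl⟩ := QuotientGroup.mk_surjective x
  simp only [← QuotientGroup.mk_inv, ← QuotientGroup.mk_mul] at hx
  obtain ⟨r, -, hr⟩ := Matrix.SpecialLinearGroup.mem_center_iff.1 (QuotientGroup.eq.1 hx)
  generalize g₀ * A * g₀⁻¹ * (h₀ * B * h₀⁻¹) = P at *
  generalize g₁ * A * g₁⁻¹ * (h₁ * B * h₁⁻¹) = Q at *
  have : Q = x * P * x⁻¹ * ((x * P * x⁻¹)⁻¹ * Q) := by group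
  rw [this, sl_coe_mul, ← hr, scalar_apply, ← smul_one_eq_diagonal, Matrix.mul_smul, Matrix.mul_one, trace_smul, sl_coe_mul,
    trace_mul_comm, sl_coe_mul, ← Matrix.mul_assoc, sl_coe_inv_mul, Matrix.one_mul, e₀] at e₁
  simp at e₁

end Cfsg.Agent.S2272
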