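import Cfsg.Statements.S2276
import Cfsg.Agent.Lib.HH.Std
import Cfsg.Agent.Lib.Hall.MinNormal

set_option autoImplicit false
open Cfsg

namespace Cfsg.Agent.S2276

open Equiv Equiv.Perm Finset Cfsg.Lib MulAction
open scoped commutatorElement

/-- the product is not a `p`-element and the pair generates a non-solvable group -/
def Good {G : Type*} [Group G] (p : ℕ) (u w : G) : Prop :=
  (∀ k, (u * w) ^ p ^ k ≠ 1) ∧ ¬ Group.IsSolvable (Subgroup.closure ({u, w} : Set G))

section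
variable {G H : Type*} [Group G] [Group H] {p : ℕ}

theorem Good.of_map (f : G →* H) {u w : G} (h : Good p (f u) (f w)) : Good p u w := by
  refine ⟨fun k e => h.1 k (by rw [← map_mul, ← map_pow, e, map_one]), fun e => h.2 ?_⟩
  rw [← Set.image_pair, ← MonoidHom.map_closure]
  exact Group.isSolvable_of_surjective (f.subgroupMap_surjective _)

theorem Good.conj {u w : G} (h : Good p u w) (g : G) : Good p (g * u * g⁻¹) (g * w * g⁻¹) :=
  Good.of_map (MulAut.conj g).symm.toMonoidHom (by simpa [mul_assoc] using h)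

theorem Good.symm {u w : G} (h : Good p u w) : Good p w u := by
  refine ⟨fun k e => h.1 k ?_, Set.pair_comm u w ▸ h.2⟩
  rw [show u * w = u * (w * u) * u⁻¹ by group, conj_pow, e]; simp

theorem Good.transfer {α β : Type*} (e : β → α) (he : Function.Injective e) {u w : Perm α} {u' w' : Perm β}
    (hu : ∀ i, u (e i) = e (u' i)) (hw : ∀ i, w (e i) = e (w' i)) (h : Good p u' w') : Good p u w := by
  let R : Subgroup (Perm α × Perm β) :=
    { carrier := {x | ∀ i, x.1 (e i) = e (x.2 i)}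
      mul_mem' := fun a b i => by simp [a _, b _]
      one_mem' := fun _ => rfl
      inv_mem' := fun {x} a i => Perm.inv_eq_iff_eq.2 (by rw [a]; simp) }
  have hR : Good p (⟨(u, u'), hu⟩ : R) ⟨(w, w'), hw⟩ := Good.of_map ((MonoidHom.snd _ _).comp R.subtype) h
  have inj : Function.Injective ((MonoidHom.fst _ _).comp R.subtype) :=
    (injective_iff_map_eq_one _).2 fun x hx => Subtype.ext (Prod.ext hx (Equiv.ext fun i =>
      he ((x.2 i).symm.trans (by rw [show x.1.1 = 1 from hx]; rfl))))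
  refine ⟨fun k f => hR.1 k (inj (by rw [map_pow, map_mul, map_one]; exact f)), fun f => hR.2 ?_⟩
  have : Group.IsSolvable ((Subgroup.closure {(⟨(u, u'), hu⟩ : R), ⟨(w, w'), hw⟩}).map
      ((MonoidHom.fst _ _).comp R.subtype)) := by
    rw [MonoidHom.map_closure, Set.image_pair]; exact f
  exact Group.isSolvable_of_isSolvable_injective (f := (Subgroup.equivMapOfInjective _ _ inj).toMonoidHom)
    (MulEquiv.injective _)

def ev (a b : G) (l : List Bool) : G := l.foldr (fun s g => (if s then a else b) * g) 1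

theorem ev_mem (a b : G) (l : List Bool) : ev a b l ∈ Subgroup.closure ({a, b} : Set G) := by
  induction l with
  | nil => exact one_mem _
  | cons s l ih => exact mul_mem (Subgroup.subset_closure (by cases s <;> simp)) ih

theorem good_of {a b : G} {N : ℕ} (hN : N.Coprime p) (h1 : (a * b) ^ N = 1) (h2 : a * b ≠ 1)
    (x y z : List Bool) (h3 : ev a b x ≠ 1) (h4 : ev a b x =
      ⁅ev a b y * ev a b x * (ev a b y)⁻¹, ev a b z * ev a b x * (ev a b z)⁻¹⁆) : Good p a b := by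
  refine ⟨fun k e => h2 (orderOf_eq_one_iff.1 (Nat.eq_one_of_dvd_coprimes (hN.pow_right k)
    (orderOf_dvd_of_pow_eq_one h1) (orderOf_dvd_of_pow_eq_one e))), ?_⟩
  refine not_isSolvable_of_mem_derivedSeries (g := ⟨_, ev_mem a b x⟩) (fun e => h3 (congrArg Subtype.val e))
    fun n => ?_
  induction n with
  | zero => trivial
  | succ n ih =>
    let W : List Bool → Subgroup.closure ({a, b} : Set G) := fun l => ⟨_, ev_mem a b l⟩
    change W x ∈ _ at ih ⊢
    rw [show W x = ⁅W y * W x * (W y)⁻¹, W z * W x * (W z)⁻¹⁆ from Subtype.ext h4, derivedSeries_succ]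
    exact Subgroup.commutator_mem_commutator ((derivedSeries_normal _ _).conj_mem _ ih _)
      ((derivedSeries_normal _ _).conj_mem _ ih _)

end

section
set_option linter.unusedSectionVars false
variable {α β : Type*} [Fintype α] [DecidableEq α] [Fintype β] [DecidableEq β] {p : ℕ}

theorem exists_restrict {w : Perm α} {V : Finset α} (hV : ∀ x ∈ V, w x ∈ V) {f : β → α}
    (hf : Function.Injective f) (h : ∀ x, x ∈ V ↔ ∃ i, f i = x) : ∃ v : Perm β, ∀ i, w (f i) = f (v i) := by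
  choose v hv using fun i => (h _).1 (hV _ ((h _).2 ⟨i, rfl⟩))
  exact ⟨Equiv.ofBijective v (Finite.injective_iff_bijective.1 fun i j e =>
    hf (w.injective (by rw [← hv, ← hv, e]))), fun i => (hv i).symm⟩

theorem pow_restrict {w : Perm α} {f : β → α} {v : Perm β} (h : ∀ i, w (f i) = f (v i)) (k : ℕ) (i : β) :
    (w ^ k) (f i) = f ((v ^ k) i) := by
  induction k with
  | zero => rfl
  | succ k ih => rw [pow_succ', pow_succ', Perm.mul_apply, Perm.mul_apply, ih, h]

theorem exists_enum {V : Finset α} (hc : V.card = Fintype.card β) :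
    ∃ f : β → α, Function.Injective f ∧ ∀ x, x ∈ V ↔ ∃ i, f i = x := by
  let e : β ≃ V := Fintype.equivOfCardEq (by rw [Fintype.card_coe, hc])
  exact ⟨fun i => e i, Subtype.val_injective.comp e.injective,
    fun x => ⟨fun hx => ⟨e.symm ⟨x, hx⟩, by simp⟩, fun ⟨i, hi⟩ => hi ▸ (e i).2⟩⟩

theorem exists_restrict' {w : Perm α} {V : Finset α} (hV : ∀ x ∈ V, w x ∈ V) {f : β → α}
    (hf : Function.Injective f) (h : ∀ x, x ∈ V ↔ ∃ i, f i = x) {x : α} (hx : x ∈ V) (hx' : w x ≠ x) {N : ℕ}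
    (hN : w ^ N = 1) : ∃ v : Perm β, (∀ i, w (f i) = f (v i)) ∧ v ≠ 1 ∧ v ^ N = 1 := by
  obtain ⟨v, hv⟩ := exists_restrict hV hf h
  obtain ⟨i, rfl⟩ := (h x).1 hx
  exact ⟨v, hv, fun e => hx' (by rw [hv, e]; rfl), Equiv.ext fun j => hf (by rw [← pow_restrict hv, hN]; rfl)⟩

theorem exists_even {ι : Type*} {f g : ι → α} (hf : Function.Injective f) (hg : Function.Injective g)
    {a b : α} (hab : a ≠ b) (ha : ∀ i, f i ≠ a) (hb : ∀ i, f i ≠ b) :
    ∃ h : Perm α, sign h = 1 ∧ ∀ i, h (f i) = g i := by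
  have := Finite.of_injective f hf
  obtain ⟨h, hh⟩ := Perm.exists_extending_pair _ _ hf hg
  rcases Int.units_eq_one_or (sign h) with e | e
  · exact ⟨h, e, hh⟩
  · exact ⟨h * swap a b, by rw [map_mul, e, sign_swap hab]; rfl, fun i => by
      rw [Perm.mul_apply, swap_apply_of_ne_of_ne (ha i) (hb i), hh]⟩

theorem exists_even' {k : ℕ} {f g : Fin k → α} (hf : Function.Injective f) (hg : Function.Injective g)
    (hk : k + 2 ≤ Fintype.card α) : ∃ h : Perm α, sign h = 1 ∧ ∀ i, h (f i) = g i := by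
  obtain ⟨a, ha, b, hb, hab⟩ := one_lt_card.1 (show 1 < (univ.image f)ᶜ.card by
    rw [card_compl, card_image_of_injective _ hf, card_univ, Fintype.card_fin]; omega)
  exact exists_even hf hg hab (by simpa using ha) (by simpa using hb)

theorem reduce [Nontrivial β] {e : β → α} (he : Function.Injective e) {u w : Perm α} {u' : Perm β}
    (hu : ∀ i, u (e i) = e (u' i)) {V : Finset α} (hV : ∀ x ∈ V, w x ∈ V) (hc : V.card = Fintype.card β)
    {x : α} (hx : x ∈ V) (hx' : w x ≠ x) {N : ℕ} (hN : w ^ N = 1)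
    (core : ∀ v : Perm β, v ≠ 1 → v ^ N = 1 → ∃ h, sign h = 1 ∧ Good p u' (h * v * h⁻¹)) :
    ∃ g, sign g = 1 ∧ Good p u (g * w * g⁻¹) := by
  obtain ⟨f, g, hf, hfV, hg, hgf⟩ : ∃ (f : β → α) (g : Perm α), Function.Injective f ∧
      (∀ x, x ∈ V ↔ ∃ i, f i = x) ∧ sign g = 1 ∧ ∀ i, g (f i) = e i := by
    obtain ⟨f, hf, hfV⟩ := exists_enum (β := β) hc
    obtain ⟨g, hg⟩ := Perm.exists_extending_pair _ _ hf he
    rcases Int.units_eq_one_or (sign g) with s | s
    · exact ⟨f, g, hf, hfV, s, hg⟩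
    obtain ⟨a, b, hab⟩ := exists_pair_ne β
    refine ⟨f ∘ swap a b, g * swap (f a) (f b), hf.comp (swap a b).injective, fun x => (hfV x).trans
      ⟨fun ⟨i, hi⟩ => ⟨swap a b i, by simpa using hi⟩, fun ⟨i, hi⟩ => ⟨_, hi⟩⟩,
      by rw [map_mul, s, sign_swap (hf.ne hab)]; rfl, fun i => ?_⟩
    rw [Perm.mul_apply, Function.comp, hf.swap_apply, swap_apply_self, hg]
  obtain ⟨v, hv, h1, h2⟩ := exists_restrict' hV hf hfV hx hx' hN
  obtain ⟨h, hs, hG⟩ := core v h1 h2
  have key : ∀ j, (h.viaFintypeEmbedding ⟨e, he⟩ * g) (f j) = e (h j) := fun j => by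
    rw [Perm.mul_apply, hgf]; exact viaFintypeEmbedding_apply_image h ⟨e, he⟩ j
  refine ⟨h.viaFintypeEmbedding ⟨e, he⟩ * g, by rw [map_mul, viaFintypeEmbedding_sign, hs, hg]; rfl,
    hG.transfer e he hu fun i => ?_⟩
  obtain ⟨j, rfl⟩ := h.surjective i
  rw [Perm.mul_apply, Perm.mul_apply, ← key, Perm.inv_def, symm_apply_apply, hv, key]
  simp

/-- the cycle through a point -/
noncomputable def cyc (w : Perm α) (x : α) : Finset α := (range (period w x)).image fun i => (w ^ i) x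

theorem period_pos (w : Perm α) (x : α) : 0 < period w x := period_pos_of_orderOf_pos (orderOf_pos w) x

theorem pow_inj {w : Perm α} {x : α} {i j : ℕ} (hi : i < period w x) (hj : j < period w x)
    (h : (w ^ i) x = (w ^ j) x) : i = j :=
  Function.iterate_injOn_Iio_minimalPeriod (f := fun y => w • y) hi hj (by simp only [smul_iterate_apply]; exact h)

theorem card_cyc (w : Perm α) (x : α) : (cyc w x).card = period w x := by
  rw [cyc, card_image_of_injOn fun i hi j hj h => pow_inj (mem_range.1 hi) (mem_range.1 hj) h, card_range]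

theorem mem_cyc {w : Perm α} {x y : α} : y ∈ cyc w x ↔ ∃ i : ℕ, (w ^ i) x = y := by
  simp only [cyc, mem_image, mem_range]
  exact ⟨fun ⟨i, _, h⟩ => ⟨i, h⟩, fun ⟨i, h⟩ => ⟨i % period w x, Nat.mod_lt _ (period_pos w x),
    (pow_mod_period_smul (m := w) (a := x) i).trans h⟩⟩

theorem inv_cyc (w : Perm α) (x : α) : ∀ y ∈ cyc w x, w y ∈ cyc w x := fun y hy => by
  obtain ⟨i, rfl⟩ := mem_cyc.1 hy
  exact mem_cyc.2 ⟨i + 1, by rw [pow_succ', Perm.mul_apply]⟩

theorem greedy [hp : Fact p.Prime] {w : Perm α} {k : ℕ} (hw : w ^ p ^ k = 1) {N : ℕ} (hN : N ≤ Fintype.card α)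
    (hd : ∀ x : α, period w x ∣ N) (n : ℕ) : ∀ U : Finset α, U.card + n = N → (∀ x ∈ U, w x ∈ U) →
    (∀ x ∉ U, period w x ∣ U.card) → ∃ V, U ⊆ V ∧ V.card = N ∧ ∀ x ∈ V, w x ∈ V := by
  induction n using Nat.strong_induction_on with
  | _ n ih =>
  intro U hc hU h
  rcases Nat.eq_zero_or_pos n with rfl | hn
  · exact ⟨U, Subset.rfl, hc, hU⟩
  obtain ⟨x, hx, hm⟩ := exists_max_image Uᶜ (period w) (card_pos.1 (by rw [card_compl]; omega))
  rw [mem_compl] at hx
  have hdj : Disjoint U (cyc w x) := disjoint_right.2 fun y hy hy' => by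
    obtain ⟨i, rfl⟩ := mem_cyc.1 hy
    have hq : ∀ (j : ℕ) z, z ∈ U → (w ^ j) z ∈ U := fun j z hz => by
      induction j with
      | zero => exact hz
      | succ j ih => rw [pow_succ', Perm.mul_apply]; exact hU _ ih
    have := hq (i * (p ^ k - 1)) _ hy'
    rw [← Perm.mul_apply, ← pow_add, ← Nat.mul_succ, Nat.succ_eq_add_one,
      Nat.sub_add_cancel (Nat.one_le_pow _ _ hp.out.pos), pow_mul', hw, one_pow] at this
    exact hx this
  have h1 : period w x ∣ n := (Nat.dvd_add_right (h x hx)).1 (hc ▸ hd x)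
  have h2 := Nat.le_of_dvd hn h1
  have h3 := period_pos w x
  have h4 : (U ∪ cyc w x).card = U.card + period w x := by rw [card_union_of_disjoint hdj, card_cyc]
  obtain ⟨V, a, b⟩ := ih (n - period w x) (by omega) (U ∪ cyc w x) (by omega)
    (fun y hy => (mem_union.1 hy).elim (fun e => mem_union_left _ (hU y e))
      fun e => mem_union_right _ (inv_cyc w x y e)) fun y hy => by
      have hy' : y ∉ U := fun e => hy (mem_union_left _ e)
      rw [h4]
      refine dvd_add (h y hy') ?_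
      have pw : ∀ z : α, ∃ j, period w z = p ^ j := fun z => ((Nat.dvd_prime_pow hp.out).1
        ((period_dvd_orderOf w z).trans (orderOf_dvd_of_pow_eq_one hw))).imp fun _ e => e.2
      obtain ⟨i, hi⟩ := pw y
      obtain ⟨j, hj⟩ := pw x
      have := hm y (mem_compl.2 hy')
      rw [hi, hj] at this ⊢
      exact pow_dvd_pow p ((Nat.pow_le_pow_iff_right hp.out.one_lt).1 this)
  exact ⟨V, subset_union_left.trans a, b⟩

theorem exists_period [hp : Fact p.Prime] {w : Perm α} {k : ℕ} (hw : orderOf w = p ^ (k + 1)) :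
    ∃ x : α, period w x = p ^ (k + 1) := by
  have : w ^ p ^ k ≠ 1 := fun e => by
    have := (Nat.pow_dvd_pow_iff_le_right hp.out.one_lt).1 (hw ▸ orderOf_dvd_of_pow_eq_one e)
    omega
  obtain ⟨x, hx⟩ := not_forall.1 fun h => this (Equiv.ext h)
  obtain ⟨j, hj, e⟩ := (Nat.dvd_prime_pow hp.out).1 (hw ▸ period_dvd_orderOf w x)
  refine ⟨x, e.trans (congrArg _ (by_contra fun f => hx ?_))⟩
  exact (pow_smul_eq_iff_period_dvd (m := w) (a := x)).2 (by rw [e]; exact pow_dvd_pow p (by omega))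

theorem exists_inv [hp : Fact p.Prime] {w : Perm α} {k : ℕ} (hw : orderOf w = p ^ (k + 1)) {N : ℕ}
    (hN : N ≤ Fintype.card α) (h0 : N ≠ 0) (hd : p ^ (k + 1) ∣ N) :
    ∃ V : Finset α, V.card = N ∧ (∀ x ∈ V, w x ∈ V) ∧ ∃ x ∈ V, w x ≠ x := by
  obtain ⟨x, hx⟩ := exists_period hw
  have h1 : ∀ y : α, period w y ∣ p ^ (k + 1) := fun y => hw ▸ period_dvd_orderOf w y
  have h2 := Nat.le_of_dvd (Nat.pos_of_ne_zero h0) hd
  obtain ⟨V, a, b, c⟩ := greedy (hw ▸ pow_orderOf_eq_one w) hN (fun y => (h1 y).trans hd) (N - p ^ (k + 1))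
    (cyc w x) (by rw [card_cyc, hx]; omega) (inv_cyc w x) fun y _ => by rw [card_cyc, hx]; exact h1 y
  refine ⟨V, b, c, x, a (mem_cyc.2 ⟨0, rfl⟩), fun e => ?_⟩
  rw [period_eq_one_iff.2 e] at hx
  exact (Nat.one_lt_pow k.succ_ne_zero hp.out.one_lt).ne hx

theorem isConj_three {u v : Perm α} (hu : u ^ 3 = 1) (hv : v ^ 3 = 1) (h : u.support.card = v.support.card) :
    IsConj u v := by
  have : Fact (Nat.Prime 3) := ⟨Nat.prime_three⟩
  rw [← sum_cycleType, ← sum_cycleType, cycleType_of_pow_prime_eq_one hu, cycleType_of_pow_prime_eq_one hv] at h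
  simp only [Multiset.sum_replicate, smul_eq_mul] at h
  rw [isConj_iff_cycleType_eq, cycleType_of_pow_prime_eq_one hu, cycleType_of_pow_prime_eq_one hv]
  congr 1; omega

theorem supp_three (h6 : Fintype.card α ≤ 6) {u : Perm α} (h1 : u ≠ 1) (hu : u ^ 3 = 1) :
    u.support.card = 3 ∨ u.support.card = 6 := by
  have : Fact (Nat.Prime 3) := ⟨Nat.prime_three⟩
  have h2 := card_le_univ u.support
  have h3 : u.support.card ≠ 0 := by simpa using h1
  rw [← sum_cycleType, cycleType_of_pow_prime_eq_one hu] at h2 h3 ⊢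
  simp only [Multiset.sum_replicate, smul_eq_mul] at h2 h3 ⊢
  omega

theorem small_core {u v a b c : Perm α} (h : Good p a b) (ha : IsConj a u) (hb : IsConj v b)
    (hc : sign c = -1) (hc' : c * b = b * c) : ∃ h, sign h = 1 ∧ Good p u (h * v * h⁻¹) := by
  obtain ⟨k, rfl⟩ := isConj_iff.1 ha
  obtain ⟨l, rfl⟩ := isConj_iff.1 hb
  rcases Int.units_eq_one_or (sign (k * l)) with e | e
  · exact ⟨k * l, e, by simpa [mul_assoc] using h.conj k⟩
  · refine ⟨k * c * l, by rw [map_mul] at e; rw [map_mul, map_mul, mul_right_comm, e, hc]; rfl, ?_⟩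
    have := h.conj k
    rw [← mul_inv_eq_iff_eq_mul.2 hc'] at this
    simpa [mul_assoc] using this

end

section
variable {p a : ℕ} [hp : Fact p.Prime]

theorem gcd_mem {m : ℕ} {B : AddSubgroup (ZMod m)} {c : ℕ} (h : (c : ZMod m) ∈ B) :
    ((Nat.gcd c m : ℕ) : ZMod m) ∈ B := by
  have := congrArg (Int.cast : ℤ → ZMod m) (Nat.gcd_eq_gcd_ab c m)
  push_cast at this
  rw [this, ZMod.natCast_self, zero_mul, add_zero, mul_comm, ← zsmul_eq_mul]
  exact zsmul_mem h _

theorem pow_mem_of_ne {B : AddSubgroup (ZMod (p ^ (a + 1)))} {d : ZMod (p ^ (a + 1))} (h : d ∈ B)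
    (h0 : d ≠ 0) : ((p ^ a : ℕ) : ZMod (p ^ (a + 1))) ∈ B := by
  have h1 := gcd_mem (B := B) (c := d.val) (by simpa using h)
  obtain ⟨j, hj, e⟩ := (Nat.dvd_prime_pow hp.out).1 (Nat.gcd_dvd_right d.val (p ^ (a + 1)))
  have : j ≠ a + 1 := fun f => h0 (by
    rw [← ZMod.natCast_zmod_val d, ZMod.natCast_eq_zero_iff]
    exact (dvd_of_eq (by rw [e, f])).trans (Nat.gcd_dvd_left d.val (p ^ (a + 1))))
  rw [e] at h1
  rw [show p ^ a = p ^ (a - j) * p ^ j by rw [← pow_add]; congr 1; omega, Nat.cast_mul, ← nsmul_eq_mul]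
  exact nsmul_mem h1 _

theorem addRight_pow {m : ℕ} (k : ℕ) (i : ZMod m) : ((Equiv.addRight (1 : ZMod m)) ^ k) i = i + k := by
  induction k with
  | zero => simp
  | succ k ih => rw [pow_succ', Perm.mul_apply, ih]; simp [add_assoc]

theorem affine {w : Perm (ZMod (p ^ (a + 1)))}
    (hs : Group.IsSolvable (Subgroup.closure {Equiv.addRight (1 : ZMod (p ^ (a + 1))), w}))
    (h : a = 0 ∨ ∃ (i : ZMod (p ^ (a + 1))) (c : ℕ), c.Coprime p ∧ w (i + (p ^ a : ℕ)) = w i + c) :
    ∃ A : Subgroup (Subgroup.closure {Equiv.addRight (1 : ZMod (p ^ (a + 1))), w}), A.Normal ∧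
      IsElementaryAbelian p A ∧ Nat.card A = p ^ (a + 1) ∧ ∀ j, ∃ x ∈ A, x.1 0 = j := by
  set H := Subgroup.closure {Equiv.addRight (1 : ZMod (p ^ (a + 1))), w}
  have : Fact (1 < p ^ (a + 1)) := ⟨Nat.one_lt_pow a.succ_ne_zero hp.out.one_lt⟩
  let u : H := ⟨_, Subgroup.subset_closure (Set.mem_insert _ _)⟩
  let w' : H := ⟨w, Subgroup.subset_closure (by simp)⟩
  have : Nontrivial H := ⟨u, 1, fun e => by simpa [u] using congrArg (fun x : H => x.1 0) e⟩
  obtain ⟨A, q, hA, h0, -, hc, hq, he, hAq⟩ := Hall.exists_minNormal_elementary (G := H)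
  have tr : ∀ d : ZMod (p ^ (a + 1)), ∃ t : H, ∀ i, t.1 i = i + d := fun d =>
    ⟨u ^ d.val, fun i => (addRight_pow _ i).trans (by simp)⟩
  have cj : ∀ (t : H) {i j}, (∃ x ∈ A, x.1 i = j) → ∃ x ∈ A, x.1 (t.1 i) = t.1 j :=
    fun t i j ⟨x, hx, e⟩ => ⟨t * x * t⁻¹, hA.conj_mem x hx t, by simp [e]⟩
  have sh : ∀ d {i j}, (∃ x ∈ A, x.1 i = j) → ∃ x ∈ A, x.1 (i + d) = j + d := fun d i j h => by
    obtain ⟨t, ht⟩ := tr d
    simpa only [ht] using cj t h
  let B : AddSubgroup (ZMod (p ^ (a + 1))) :=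
    { carrier := {d | ∃ x ∈ A, x.1 0 = d}
      add_mem' := fun {d d'} ⟨x, hx, e⟩ h' => by
        obtain ⟨y, hy, f⟩ := sh d h'
        exact ⟨y * x, mul_mem hy hx, by simpa [e, add_comm] using f⟩
      zero_mem' := ⟨1, one_mem _, rfl⟩
      neg_mem' := fun {d} ⟨x, hx, e⟩ => by
        simpa using sh (-d) (i := d) (j := 0) ⟨x⁻¹, inv_mem hx, by simp [← e]⟩ }
  have rel : ∀ {i j}, (∃ x ∈ A, x.1 i = j) → j - i ∈ B := fun {i j} h => by
    have := sh (-i) h
    rwa [add_neg_cancel, ← sub_eq_add_neg] at this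
  have hB : ((p ^ a : ℕ) : ZMod (p ^ (a + 1))) ∈ B := by
    obtain ⟨⟨x, hx⟩, x1⟩ := Subgroup.ne_bot_iff_exists_ne_one.1 h0
    obtain ⟨i, hi⟩ := not_forall.1 fun h => x1 (Subtype.ext (Subtype.ext (Equiv.ext h)))
    exact pow_mem_of_ne (rel ⟨x, hx, rfl⟩) (sub_ne_zero.2 hi)
  have h1 : (1 : ZMod (p ^ (a + 1))) ∈ B := by
    rcases h with rfl | ⟨i, c, hc, e⟩
    · simpa using hB
    · have h2 := sh i hB
      rw [zero_add i, add_comm _ i] at h2
      have := rel (cj w' h2)
      simp only [w', e, add_sub_cancel_left] at this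
      simpa [hc.pow_right (a + 1)] using gcd_mem this
  have ht : ∀ j, ∃ x ∈ A, x.1 0 = j := fun j => by
    have := nsmul_mem h1 j.val
    rwa [nsmul_eq_mul, mul_one, ZMod.natCast_zmod_val] at this
  have hcard : Nat.card A = p ^ (a + 1) := by
    refine (Nat.card_eq_of_bijective (fun x : A => x.1.1 0) ⟨fun x y e => ?_, fun j => ?_⟩).trans
      (Nat.card_zmod _)
    · refine Subtype.ext (Subtype.ext (Equiv.ext fun j => ?_))
      obtain ⟨z, hz, rfl⟩ := ht j
      have c : ∀ x : A, x.1.1 (z.1 0) = z.1 (x.1.1 0) := fun x =>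
        congrArg (fun y : A => y.1.1 0) (hc.is_comm.comm x ⟨z, hz⟩)
      rw [c, c]; exact congrArg _ e
    · obtain ⟨x, hx, e⟩ := ht j
      exact ⟨⟨x, hx⟩, e⟩
  have : Fact q.Prime := ⟨hq⟩
  obtain ⟨k, hk⟩ := IsPGroup.iff_card.1 hAq
  obtain rfl : p = q := (Nat.prime_dvd_prime_iff_eq hp.out hq).1 (hp.out.dvd_of_dvd_pow (n := k)
    (by rw [← hk, hcard]; exact dvd_pow_self p a.succ_ne_zero))
  exact ⟨A, hA, ⟨hc, he⟩, hcard, ht⟩

theorem unip {G : Type*} [Group G] [Finite G] {A : Subgroup G} [A.Normal] [Fact (IsElementaryAbelian p A)]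
    {n : ℕ} (h : Nat.card A = p ^ n) {t : G} {k : ℕ} (ht : t ^ p ^ k = 1) : (HH.nrep p A t - 1) ^ n = 0 := by
  rw [BG1.EV.card_eq_pow (p := p)] at h
  rw [← Nat.pow_right_injective hp.out.two_le h]
  refine HH.pow_finrank_eq_zero (s := p ^ k) ?_
  rw [HH.sub_one_pow_char (K := ZMod p), ← map_pow, ht, map_one, sub_self]

omit hp in
theorem add_pow_eq : Equiv.addRight (1 : ZMod (p ^ (a + 1))) ^ p ^ (a + 1) = 1 :=
  Equiv.ext fun i => by rw [addRight_pow, ZMod.natCast_self, add_zero]; rfl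

theorem cast_ne {m i j : ℕ} (hi : i < m) (hj : j < m) (h : i ≠ j) : (i : ZMod m) ≠ j := fun e =>
  h (Nat.ModEq.eq_of_lt_of_lt ((ZMod.natCast_eq_natCast_iff _ _ _).1 e) hi hj)

theorem odd_fix {α : Type*} {g : Perm α} {N : ℕ} (hN : Odd N) (h : g ^ N = 1) {x : α} (e : g (g x) = x) :
    g x = x := by
  obtain ⟨n, rfl⟩ := hN
  have := congrArg (· x) h
  rwa [pow_succ', pow_mul, Perm.mul_apply,
    pow_apply_eq_self_of_apply_eq_self (show (g ^ 2) x = x from e)] at this

theorem good_big (h3 : 3 ≤ p) (ha : 1 ≤ a) {w : Perm (ZMod (p ^ (a + 1)))} {i j l : ZMod (p ^ (a + 1))}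
    (hij : i ≠ j) (hi : w i + 1 = j) (hj : w j + 1 = i) {c : ℕ} (hc : c.Coprime p)
    (hl : w (l + (p ^ a : ℕ)) = w l + c) : Good p (Equiv.addRight 1) w := by
  refine ⟨fun k e => hij ?_, fun hs => ?_⟩
  · simpa [hj] using odd_fix (hp.out.odd_of_ne_two (by omega)).pow e (x := j) (by simp [hi, hj])
  obtain ⟨A, hA, hE, hc, ht⟩ := affine hs (Or.inr ⟨l, c, hc, hl⟩)
  have := Fact.mk hE
  let u : Subgroup.closure {Equiv.addRight (1 : ZMod (p ^ (a + 1))), w} :=
    ⟨_, Subgroup.subset_closure (Set.mem_insert _ _)⟩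
  obtain ⟨x, hx, e⟩ := ht 1
  have h1 : HH.nrep p A (x⁻¹ * u) = HH.nrep p A u := by
    rw [map_mul, HH.nrep_eq_one_iff.2 (inv_mem (A.le_centralizer (h := hE.1) hx)), one_mul]
  have h2 := HH.mul_pow_eq (p := p) (x⁻¹ * u) (BG1.EV.mk p (⟨x, hx⟩ : A)) (p ^ a)
  have h4 : a + 1 ≤ p ^ a - 1 := by
    have h3' : ∀ n, n + 3 ≤ 3 ^ (n + 1) := fun n => by
      induction n with
      | zero => rfl
      | succ n ih => rw [pow_succ]; omega
    obtain ⟨n, rfl⟩ := Nat.exists_eq_add_of_le' ha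
    have := (h3' n).trans (Nat.pow_le_pow_left h3 _)
    omega
  rw [← HH.sub_one_pow_eq_sum (K := ZMod p), h1, pow_eq_zero_of_le h4 (unip hc (Subtype.ext add_pow_eq)),
    LinearMap.zero_apply, BG1.EV.val_zero, one_mul, BG1.EV.val_mk, mul_inv_cancel_left] at h2
  have h5 : (x⁻¹ * u).1 0 = 0 := by simp [u, ← e]
  have h6 := pow_apply_eq_self_of_apply_eq_self h5 (p ^ a)
  rw [← Subgroup.coe_pow, ← h2, Subgroup.coe_pow, addRight_pow, zero_add] at h6
  exact cast_ne (j := 0) (Nat.pow_lt_pow_right hp.out.one_lt a.lt_succ_self) (by positivity)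
    (pow_pos hp.out.pos a).ne' (by simpa using h6)

theorem dvd_fix {α : Type*} [Fintype α] [DecidableEq α] (h : p ∣ Fintype.card α) {v : Perm α} {k : ℕ}
    (hv : v ^ p ^ k = 1) : p ∣ (univ.filter fun x => v x = x).card := by
  have h1 : p ∣ v.support.card := by
    rw [← sum_cycleType]
    refine Multiset.dvd_sum fun n hn => ?_
    obtain ⟨j, -, e⟩ := (Nat.dvd_prime_pow hp.out).1 ((dvd_of_mem_cycleType hn).trans (orderOf_dvd_of_pow_eq_one hv))
    have := two_le_of_mem_cycleType hn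
    rw [e] at this ⊢
    exact dvd_pow_self p (by rintro rfl; simp at this)
  have h2 : (univ.filter fun x => v x = x) = v.supportᶜ := by ext; simp
  rw [h2, card_compl]
  exact Nat.dvd_sub h h1

theorem good_prime (h5 : 5 ≤ p) {w : Perm (ZMod (p ^ (0 + 1)))} {k : ℕ} (hw : w ^ p ^ k = 1)
    (h1 : w 1 = 0) (h0 : w 0 = 2) : Good p (Equiv.addRight 1) w := by
  have n3 : (2 + 1 : ZMod (p ^ (0 + 1))) ≠ 0 := by
    have := cast_ne (m := p ^ (0 + 1)) (i := 2 + 1) (j := 0) (by simp; omega) (by simp; omega) (by decide)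
    rwa [Nat.cast_add, Nat.cast_ofNat, Nat.cast_one, Nat.cast_zero] at this
  refine ⟨fun k e => n3 ?_, fun hs => n3 ?_⟩
  · have a := Nat.le_of_dvd (card_pos.2 ⟨1, mem_filter.2 ⟨mem_univ _, by simp [h1]⟩⟩) (dvd_fix (by simp) e)
    have := eq_univ_of_card _ (le_antisymm (card_le_univ _) (le_trans (by simp) a))
    have := (mem_filter.1 ((Finset.ext_iff.1 this 0).2 (mem_univ 0))).2
    rwa [Perm.mul_apply, h0, coe_addRight, add_eq_zero_iff_eq_neg, ← add_eq_zero_iff_eq_neg] at this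
  obtain ⟨A, hA, hE, hc, ht⟩ := affine hs (Or.inl rfl)
  have := Fact.mk hE
  have key : ∀ t : Subgroup.closure {Equiv.addRight (1 : ZMod (p ^ (0 + 1))), w}, ∀ k, t ^ p ^ k = 1 →
      t ∈ Subgroup.centralizer (A : Set _) := fun t k e =>
    HH.nrep_eq_one_iff.1 (sub_eq_zero.1 (by simpa using unip hc e))
  obtain ⟨x, hx, e⟩ := ht 1
  obtain ⟨y, hy, f⟩ := ht 2
  have a := congrArg (·.1 0) (key ⟨w, Subgroup.subset_closure (by simp)⟩ k (Subtype.ext hw) x hx)
  have b := congrArg (·.1 0) (key ⟨_, Subgroup.subset_closure (Set.mem_insert _ _)⟩ _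
    (Subtype.ext add_pow_eq) y hy)
  have c := congrArg (·.1 0) (A.le_centralizer (h := hE.1) hx y hy)
  simp only [Subgroup.coe_mul, Perm.mul_apply, e, f, h1, h0, coe_addRight, zero_add] at a b c
  rw [← b, c, a]

theorem core_prime (h5 : 5 ≤ p) (v : Perm (ZMod (p ^ (0 + 1)))) (h1 : v ≠ 1) {k : ℕ} (hv : v ^ p ^ k = 1) :
    ∃ h, sign h = 1 ∧ Good p (Equiv.addRight 1) (h * v * h⁻¹) := by
  obtain ⟨x, hx⟩ := not_forall.1 fun h => h1 (Equiv.ext h)
  replace hx : v x ≠ x := hx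
  have h2 : v (v x) ≠ x := fun e => hx (odd_fix (hp.out.odd_of_ne_two (by omega)).pow hv e)
  have h3 : v (v x) ≠ v x := v.injective.ne hx
  obtain ⟨h, hs, hh⟩ := exists_even' (f := ![x, v x, v (v x)])
    (g := fun i => ((![1, 0, 2] i : ℕ) : ZMod (p ^ (0 + 1))))
    (by simp [Function.Injective, Fin.forall_fin_succ, hx, h2, h3, hx.symm, h2.symm, h3.symm])
    (fun i j e => by_contra fun f => cast_ne (by fin_cases i <;> simp <;> omega) (by fin_cases j <;> simp <;> omega)
      (by fin_cases i <;> fin_cases j <;> simp at f ⊢) e) (by simpa)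
  have a : h x = 1 := by simpa using hh 0
  have b : h (v x) = 0 := by simpa using hh 1
  have c : h (v (v x)) = 2 := by simpa using hh 2
  exact ⟨h, hs, good_prime h5 (k := k) (by rw [conj_pow, hv]; simp) (by rw [← a, ← b]; simp) (by rw [← b, ← c]; simp)⟩

theorem core_big (h3 : 3 ≤ p) (ha : 1 ≤ a) (v : Perm (ZMod (p ^ (a + 1)))) (h1 : v ≠ 1) {k : ℕ}
    (hv : v ^ p ^ k = 1) : ∃ h, sign h = 1 ∧ Good p (Equiv.addRight 1) (h * v * h⁻¹) := by
  obtain ⟨x, hx⟩ := not_forall.1 fun h => h1 (Equiv.ext h)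
  replace hx : v x ≠ x := hx
  obtain ⟨K, hK⟩ : ∃ K, p ^ a = K + 3 := Nat.exists_eq_add_of_le' (h3.trans (Nat.le_self_pow (by omega) p))
  have hm : 3 * (K + 3) ≤ p ^ (a + 1) := by rw [pow_succ', hK]; exact Nat.mul_le_mul_right _ h3
  have hpK : p ∣ K + 3 := hK ▸ dvd_pow_self p (by omega)
  have cp : ∀ {c}, (p ∣ c → p ∣ 2) → c.Coprime p := fun {c} hr =>
    (Nat.coprime_comm.1 (hp.out.coprime_iff_not_dvd.2 fun f => by
      have := Nat.le_of_dvd two_pos (hr f)
      omega))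
  have kk : ∀ (h : Perm _) y, (h * v * h⁻¹) (h y) = h (v y) := by simp
  by_cases hf : ∃ c, v c = c
  · obtain ⟨c, hc⟩ := hf
    obtain ⟨e, he, hec⟩ := exists_mem_ne (h3.trans' (by decide) |>.trans (Nat.le_of_dvd (card_pos.2
      ⟨c, by simp [hc]⟩) (dvd_fix (by simp) hv))) c
    replace he := (mem_filter.1 he).2
    have n : ∀ y, v y = y → x ≠ y ∧ v x ≠ y := fun y hy =>
      ⟨fun f => hx (f ▸ hy), fun f => hx (by rw [f, v.injective (f.trans hy.symm)])⟩
    obtain ⟨h, hs, hh⟩ := exists_even' (f := ![x, v x, c, e])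
      (g := fun i => ((![2, 0, 1, K + 5] i : ℕ) : ZMod (p ^ (a + 1))))
      (by simp [Function.Injective, Fin.forall_fin_succ, hx, hx.symm, n c hc, n e he, (n c hc).1.symm,
        (n c hc).2.symm, (n e he).1.symm, (n e he).2.symm, hec, hec.symm])
      (fun i j e => by_contra fun f => cast_ne (by fin_cases i <;> simp <;> omega)
        (by fin_cases j <;> simp <;> omega) (by fin_cases i <;> fin_cases j <;> simp at f ⊢) e)
      (by simp; omega)
    have a0 : h x = 2 := by simpa using hh 0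
    have a1 : h (v x) = 0 := by simpa using hh 1
    have a2 : h c = 1 := by simpa using hh 2
    have a3 : h e = K + 5 := by simpa using hh 3
    refine ⟨h, hs, good_big h3 ha (i := h x) (j := h c) (l := h x) (h.injective.ne (n c hc).1)
      (by rw [kk, a1, a2, zero_add]) (by rw [kk, hc, a2, a0]; norm_num) (c := K + 5)
      (cp fun f => (Nat.dvd_add_right hpK).1 f) ?_⟩
    rw [kk, a1, show h x + (p ^ a : ℕ) = h e by rw [a0, a3, hK]; push_cast; ring, kk, he, a3]
    simp
  · simp only [not_exists] at hf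
    obtain ⟨c, hc⟩ := card_pos.1 (show 0 < ({x, v x, v⁻¹ x} : Finset _)ᶜ.card by
      have := card_le_three (a := x) (b := v x) (c := v⁻¹ x)
      rw [card_compl, ZMod.card]; omega)
    obtain ⟨e, he⟩ := card_pos.1 (show 0 < ({x, v x, c, v c, v⁻¹ x, v⁻¹ c} : Finset _)ᶜ.card by
      have := card_le_six (a := x) (b := v x) (c := c) (d := v c) (e := v⁻¹ x) (f := v⁻¹ c)
      rw [card_compl, ZMod.card]; omega)
    simp only [mem_compl, mem_insert, mem_singleton, not_or, Perm.eq_inv_iff_eq] at hc he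
    obtain ⟨c1, c2, c3⟩ := hc
    obtain ⟨e1, e2, e3, e4, e5, e6⟩ := he
    obtain ⟨h, hs, hh⟩ := exists_even' (f := ![x, v x, c, v c, e, v e])
      (g := fun i => ((![1, 2, 3, 0, K + 4, 2 * K + 7] i : ℕ) : ZMod (p ^ (a + 1))))
      (by simp [Function.Injective, Fin.forall_fin_succ, hf, Ne.symm (hf _), c1, c2, c3, e1, e2, e3, e4, e5, e6,
        Ne.symm c1, Ne.symm c2, Ne.symm c3, Ne.symm e1, Ne.symm e2, Ne.symm e3, Ne.symm e4, Ne.symm e5, Ne.symm e6])
      (fun i j e => by_contra fun f => cast_ne (by fin_cases i <;> simp <;> omega)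
        (by fin_cases j <;> simp <;> omega) (by fin_cases i <;> fin_cases j <;> simp at f ⊢ <;> omega) e)
      (by simp; omega)
    have a0 : h x = 1 := by simpa using hh 0
    have a1 : h (v x) = 2 := by simpa using hh 1
    have a2 : h c = 3 := by simpa using hh 2
    have a3 : h (v c) = 0 := by simpa using hh 3
    have a4 : h e = K + 4 := by simpa using hh 4
    have a5 : h (v e) = 2 * K + 7 := by simpa using hh 5
    refine ⟨h, hs, good_big h3 ha (i := h x) (j := h c) (l := h x) (h.injective.ne (Ne.symm c1))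
      (by rw [kk, a1, a2]; norm_num) (by rw [kk, a3, a0, zero_add]) (c := 2 * K + 5)
      (cp fun f => ((Nat.dvd_add_right f).1 (show p ∣ 2 * K + 5 + 1 from
        (show 2 * (K + 3) = 2 * K + 5 + 1 by ring) ▸ hpK.mul_left 2)).trans (one_dvd 2)) ?_⟩
    rw [kk, a1, show h x + (p ^ a : ℕ) = h e by rw [a0, a4, hK]; push_cast; ring, kk, a5]
    push_cast; ring

end

theorem core5 (u v : Perm (Fin 5)) (h1 : u ≠ 1) (h2 : u ^ 3 = 1) (h3 : v ≠ 1) (h4 : v ^ 3 = 1) :
    ∃ h, sign h = 1 ∧ Good 3 u (h * v * h⁻¹) := by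
  have a := (supp_three (by decide +kernel) h1 h2).resolve_right fun e => by have := card_le_univ u.support; simp [e] at this
  have b := (supp_three (by decide +kernel) h3 h4).resolve_right fun e => by have := card_le_univ v.support; simp [e] at this
  exact small_core (a := c[0, 1, 2]) (b := c[2, 3, 4]) (c := swap 0 1) (good_of (N := 5) (by decide +kernel) (by decide +kernel)
    (by decide +kernel) [false, true] [true, false] [true] (by decide +kernel) (by decide +kernel))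
    (isConj_three (by decide +kernel) h2 (by rw [a]; decide +kernel)) (isConj_three h4 (by decide +kernel) (by rw [b]; decide +kernel)) (by decide +kernel) (by decide +kernel)

theorem core6 (u v : Perm (Fin 6)) (h1 : u ≠ 1) (h2 : u ^ 3 = 1) (h3 : v ≠ 1) (h4 : v ^ 3 = 1) :
    ∃ h, sign h = 1 ∧ Good 3 u (h * v * h⁻¹) := by
  have g2 : Good 3 (c[0, 1, 2] : Perm (Fin 6)) (c[0, 3, 4] * c[1, 5, 2]) := good_of (N := 5) (by decide +kernel) (by decide +kernel)
    (by decide +kernel) [true] [false, true, false, false] [false, true, false] (by decide +kernel) (by decide +kernel)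
  rcases supp_three (by decide +kernel) h1 h2 with a | a <;> rcases supp_three (by decide +kernel) h3 h4 with b | b
  · exact small_core (a := c[0, 1, 2]) (b := c[2, 3, 4]) (c := swap 0 1) (good_of (N := 5) (by decide +kernel) (by decide +kernel)
      (by decide +kernel) [false, true] [true, false] [true] (by decide +kernel) (by decide +kernel))
      (isConj_three (by decide +kernel) h2 (by rw [a]; decide +kernel)) (isConj_three h4 (by decide +kernel) (by rw [b]; decide +kernel)) (by decide +kernel) (by decide +kernel)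
  · exact small_core (c := swap 0 1 * swap 3 5 * swap 4 2) g2
      (isConj_three (by decide +kernel) h2 (by rw [a]; decide +kernel)) (isConj_three h4 (by decide +kernel) (by rw [b]; decide +kernel)) (by decide +kernel) (by decide +kernel)
  · exact small_core (c := swap 3 4) g2.symm
      (isConj_three (by decide +kernel) h2 (by rw [a]; decide +kernel)) (isConj_three h4 (by decide +kernel) (by rw [b]; decide +kernel)) (by decide +kernel) (by decide +kernel)
  · exact small_core (a := c[0, 1, 2] * c[3, 4, 5]) (b := c[0, 1, 3] * c[2, 5, 4]) (c := swap 0 2 * swap 1 5 * swap 3 4)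
      (good_of (N := 5) (by decide +kernel) (by decide +kernel)
      (by decide +kernel) [false, true] [true, false] [true] (by decide +kernel) (by decide +kernel))
      (isConj_three (by decide +kernel) h2 (by rw [a]; decide +kernel)) (isConj_three h4 (by decide +kernel) (by rw [b]; decide +kernel)) (by decide +kernel) (by decide +kernel)

theorem three {α β : Type*} [Fintype α] [DecidableEq α] [Fintype β] [DecidableEq β] [Nontrivial β]
    {u w : Perm α} (hw : w ^ 3 = 1) (hu : u ^ 3 = 1) {U V : Finset α} (hU : ∀ x ∈ U, u x ∈ U)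
    (hV : ∀ x ∈ V, w x ∈ V) (cU : U.card = Fintype.card β) (cV : V.card = Fintype.card β)
    {x y : α} (hx : x ∈ U) (hx' : u x ≠ x) (hy : y ∈ V) (hy' : w y ≠ y)
    (core : ∀ u v : Perm β, u ≠ 1 → u ^ 3 = 1 → v ≠ 1 → v ^ 3 = 1 →
      ∃ h, sign h = 1 ∧ Good 3 u (h * v * h⁻¹)) : ∃ g, sign g = 1 ∧ Good 3 u (g * w * g⁻¹) := by
  obtain ⟨f, hf, hfU⟩ := exists_enum (β := β) cU
  obtain ⟨u', a, b, c⟩ := exists_restrict' hU hf hfU hx hx' hu
  exact reduce hf a hV cV hy hy' hw fun v => core u' v b c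

theorem perm_le {n p : ℕ} [hp : Fact p.Prime] (hn : 5 ≤ n) (h3 : 3 ≤ p) {u w : Perm (Fin n)} {i j : ℕ}
    (hu : orderOf u = p ^ (i + 1)) (hw : orderOf w = p ^ (j + 1)) (hij : j ≤ i) :
    ∃ g, sign g = 1 ∧ Good p u (g * w * g⁻¹) := by
  have hu1 := hu ▸ pow_orderOf_eq_one u
  have hw1 := hw ▸ pow_orderOf_eq_one w
  by_cases h : p = 3 ∧ i = 0
  · obtain ⟨rfl, rfl⟩ := h
    obtain rfl : j = 0 := by omega
    rcases hn.eq_or_lt with rfl | hn
    · obtain ⟨x, hx⟩ := not_forall.1 fun h => by rw [show u = 1 from Equiv.ext h] at hu; simp at hu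
      obtain ⟨y, hy⟩ := not_forall.1 fun h => by rw [show w = 1 from Equiv.ext h] at hw; simp at hw
      exact three hw1 hu1 (U := univ) (V := univ) (fun _ _ => mem_univ _) (fun _ _ => mem_univ _) rfl rfl
        (mem_univ x) hx (mem_univ y) hy core5
    · obtain ⟨U, a, b, x, c, d⟩ := exists_inv hu (N := 6) (by simpa) (by decide) (by decide)
      obtain ⟨V, a', b', y, c', d'⟩ := exists_inv hw (N := 6) (by simpa) (by decide) (by decide)
      exact three (β := Fin 6) hw1 hu1 b b' a a' c d c' d' core6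
  obtain ⟨x, hx⟩ := exists_period hu
  have : Fact (1 < p ^ (i + 1)) := ⟨Nat.one_lt_pow i.succ_ne_zero hp.out.one_lt⟩
  let e : ZMod (p ^ (i + 1)) → Fin n := fun k => (u ^ k.val) x
  have he : Function.Injective e := fun k l f =>
    ZMod.val_injective _ (pow_inj (by rw [hx]; exact k.val_lt) (by rw [hx]; exact l.val_lt) f)
  have hue : ∀ k, u (e k) = e (Equiv.addRight 1 k) := fun k => by
    have := pow_mod_period_smul (m := u) (a := x) (k.val + 1)
    rw [hx] at this
    simp only [e, coe_addRight, ZMod.val_add, ZMod.val_one]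
    exact ((this.trans (by rw [pow_succ']; rfl))).symm
  obtain ⟨V, a, b, y, c, d⟩ := exists_inv hw (N := p ^ (i + 1))
    (by simpa using Fintype.card_le_of_injective e he) (by positivity) (pow_dvd_pow p (by omega))
  refine reduce he hue b (by simpa using a) c d hw1 fun v h1 h2 => ?_
  rcases Nat.eq_zero_or_pos i with rfl | hi
  · refine core_prime ?_ v h1 h2
    have := hp.out.five_le_of_ne_two_of_ne_three (by omega) (by simpa using h)
    exact this
  · exact core_big h3 hi v h1 h2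

theorem main (n : ℕ) (hn : 5 ≤ n) (p : ℕ) (hp : p.Prime) (hp3 : 3 ≤ p) (u w : alternatingGroup (Fin n))
    (hu : u ≠ 1) (hw : w ≠ 1) (hu' : ∃ k : ℕ, orderOf u = p ^ k) (hw' : ∃ k : ℕ, orderOf w = p ^ k) :
    ∃ g : alternatingGroup (Fin n), (¬ ∃ k : ℕ, orderOf (u * (g * w * g⁻¹)) = p ^ k) ∧
      ¬ Group.IsSolvable ↥(Subgroup.closure ({u, g * w * g⁻¹} : Set (alternatingGroup (Fin n)))) := by
  have := Fact.mk hp
  have ord : ∀ u : alternatingGroup (Fin n), u ≠ 1 → (∃ k : ℕ, orderOf u = p ^ k) →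
      ∃ k, orderOf u.1 = p ^ (k + 1) := fun u hu ⟨k, hk⟩ => by
    rcases k with _ | k
    · exact absurd (orderOf_eq_one_iff.1 hk) hu
    · exact ⟨k, by rw [Subgroup.orderOf_coe, hk]⟩
  obtain ⟨i, hi⟩ := ord u hu hu'
  obtain ⟨j, hj⟩ := ord w hw hw'
  obtain ⟨g, hg, h⟩ : ∃ g, sign g = 1 ∧ Good p u.1 (g * w.1 * g⁻¹) := by
    rcases le_total j i with e | e
    · exact perm_le hn hp3 hi hj e
    · obtain ⟨g, hg, h⟩ := perm_le hn hp3 hj hi e
      exact ⟨g⁻¹, by simpa using hg, by simpa [mul_assoc] using h.symm.conj g⁻¹⟩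
  have := Good.of_map (alternatingGroup (Fin n)).subtype (u := u) (w := ⟨g, hg⟩ * w * ⟨g, hg⟩⁻¹) h
  exact ⟨⟨g, hg⟩, fun ⟨k, e⟩ => this.1 k (e ▸ pow_orderOf_eq_one _), this.2⟩

/-- Let n ≥ 5, p ≥ 3 a prime, and u, w non-identity elements of p-power order in the alternating group A_n. Then there is g ∈ A_n such that u·(g w g⁻¹) does not have p-power order and ⟨u, g w g⁻¹⟩ is not solvable. -/
theorem result (n : ℕ) (hn : 5 ≤ n) (p : ℕ) (hp : p.Prime) (hp3 : 3 ≤ p) (u w : alternatingGroup (Fin n)) (hu : u ≠ 1) (hw : w ≠ 1)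
    (hu' : ∃ k : ℕ, orderOf u = p ^ k) (hw' : ∃ k : ℕ, orderOf w = p ^ k) :
    ∃ g : alternatingGroup (Fin n), (¬ ∃ k : ℕ, orderOf (u * (g * w * g⁻¹)) = p ^ k) ∧
      ¬ Group.IsSolvable ↥(Subgroup.closure ({u, g * w * g⁻¹} : Set (alternatingGroup (Fin n)))) := by
  exact main n hn p hp hp3 u w hu hw hu' hw'

end Cfsg.Agent.S2276
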