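import Cfsg.Statements.S2277
import Cfsg.Agent.Lib.Invol.Sylow2
import Cfsg.Agent.Lib.Hall.Product

set_option autoImplicit false
open Cfsg

namespace Cfsg.Agent.S2277

open Subgroup
open scoped Pointwise

/-- fixed points of an automorphism -/
def fx {K : Type*} [Group K] (a : MulAut K) : Subgroup K where
  carrier := {x | a x = x}
  one_mem' := map_one a
  mul_mem' := fun {x y} hx hy => by
    simp only [Set.mem_ofPred_eq] at hx hy ⊢
    rw [map_mul, hx, hy]
  inv_mem' := fun {x} hx => by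
    simp only [Set.mem_ofPred_eq] at hx ⊢
    rw [map_inv, hx]

theorem mem_fx {K : Type*} [Group K] {a : MulAut K} {x : K} : x ∈ fx a ↔ a x = x := Iff.rfl

theorem card_fx_conj {K : Type*} [Group K] (a y : MulAut K) :
    Nat.card (fx (y * a * y⁻¹)) = Nat.card (fx a) := by
  have : fx (y * a * y⁻¹) = (fx a).map y.toMonoidHom := by
    ext x
    simp only [mem_fx, mem_map, MulAut.mul_apply, MulEquiv.coe_toMonoidHom]
    constructor
    · intro h
      refine ⟨y⁻¹ x, ?_, by simp⟩
      apply y.injective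
      rw [h]; simp
    · rintro ⟨w, hw, rfl⟩
      simp [hw]
  rw [this]
  exact card_map_of_injective y.injective

theorem nil_cases {Q : Type*} [Group Q] [Group.IsNilpotent Q] [Nontrivial Q] (E : Set Q)
    (hE : closure E = ⊤) :
    (∃ e ∈ E, e ≠ 1 ∧ e ∈ center Q) ∨
      ∃ e ∈ E, ∃ y z : Q, z ∈ center Q ∧ z ≠ 1 ∧ y * e * y⁻¹ = e * z := by
  by_cases hc : center Q = ⊤
  · left
    by_contra hcon
    push Not at hcon
    have : closure E ≤ ⊥ := by
      rw [closure_le]
      intro e he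
      by_contra hne
      exact hcon e he (by simpa using hne) (hc ▸ mem_top e)
    rw [hE] at this
    exact top_ne_bot (le_bot_iff.1 this)
  · right
    haveI : Nontrivial (Q ⧸ center Q) := by
      rwa [QuotientGroup.nontrivial_iff]
    have hne : center (Q ⧸ center Q) ≠ ⊥ := Group.IsNilpotent.center_ne_bot _
    obtain ⟨yb, hyb, hy1⟩ := (center (Q ⧸ center Q)).bot_or_exists_ne_one.resolve_left hne
    obtain ⟨y, rfl⟩ := QuotientGroup.mk_surjective yb
    have hy : y ∉ center Q := fun h => hy1 ((QuotientGroup.eq_one_iff y).2 h)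
    have : ∃ e ∈ E, y * e ≠ e * y := by
      by_contra hcon
      push Not at hcon
      apply hy
      rw [mem_center_iff]
      intro g
      have : closure E ≤ centralizer {y} := by
        rw [closure_le]
        intro e he
        simp only [SetLike.mem_coe, mem_centralizer_singleton_iff]
        exact (hcon e he).symm
      rw [hE] at this
      exact mem_centralizer_singleton_iff.1 (this (mem_top g))
    obtain ⟨e, he, hye⟩ := this
    refine ⟨e, he, y, e⁻¹ * (y * e * y⁻¹), ?_, ?_, by group⟩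
    · rw [← QuotientGroup.eq_one_iff]
      have := mem_center_iff.1 hyb (e : Q ⧸ center Q)
      simp only [QuotientGroup.mk_mul, QuotientGroup.mk_inv]
      rw [← this]; group
    · intro h
      apply hye
      calc y * e = e * (e⁻¹ * (y * e * y⁻¹)) * y := by group
        _ = e * y := by rw [h, mul_one]

theorem fix_of_mul {K : Type*} [Group K] [Finite K] {p : ℕ} (hK : (Nat.card K).Coprime p)
    (a : MulAut K) (n : ℕ) (ha : a ^ p ^ n = 1) (x m : K) (hm : a m = m) (hx : a x = x * m) :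
    m = 1 := by
  have h1 : ∀ k : ℕ, (a ^ k) x = x * m ^ k := by
    intro k
    induction k with
    | zero => simp
    | succ k ih =>
      rw [pow_succ', MulAut.mul_apply, ih, map_mul, map_pow, hm, hx, pow_succ', mul_assoc]
  have h2 := h1 (p ^ n)
  rw [ha, MulAut.one_apply, eq_comm, mul_eq_left] at h2
  have h3 : orderOf m ∣ p ^ n := orderOf_dvd_of_pow_eq_one h2
  have h4 : orderOf m ∣ Nat.card K := orderOf_dvd_natCard m
  have := Nat.dvd_gcd h4 h3
  rw [(hK.pow_right n).gcd_eq_one, Nat.dvd_one] at this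
  exact orderOf_eq_one_iff.1 this

theorem core1 {K Q : Type*} [Group K] [Finite K] [Group Q] [Finite Q] {p : ℕ} [Fact p.Prime]
    (hp : p ≠ 2) (hQ : IsPGroup p Q) (hK : (Nat.card K).Coprime p) (φ : Q →* MulAut K)
    (M : Subgroup K) (hM : ∀ x, x ∈ M ↔ ∀ g, φ g x = x) (E : Set Q) (hE : closure E = ⊤)
    (hmin : ∀ z ∈ center Q, z ≠ 1 → fx (φ z) ≤ M)
    (hc : ∀ e ∈ E, Nat.card K * Nat.card M ≤ Nat.card (fx (φ e)) * Nat.card (fx (φ e))) :
    M = ⊤ := by
  have hfin : ∀ e ∈ E, Nat.card (fx (φ e)) ≤ Nat.card M → M = ⊤ := by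
    intro e he hle
    have h1 := (hc e he).trans (Nat.mul_le_mul hle hle)
    have h2 := Nat.le_of_mul_le_mul_right h1 Nat.card_pos
    exact eq_top_of_le_card M h2
  rcases subsingleton_or_nontrivial Q with hs | hs
  · rw [eq_top_iff]
    intro x _
    rw [hM]
    intro g
    rw [Subsingleton.elim g 1, map_one, MulAut.one_apply]
  haveI := hQ.isNilpotent
  rcases nil_cases E hE with ⟨e, he, he1, hez⟩ | ⟨e, he, y, z, hz, hz1, hy⟩
  · exact hfin e he (card_le_of_le (hmin e hez he1))
  have hzc : ∀ g, g * z = z * g := mem_center_iff.1 hz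
  have hy2 : y * (e * z) * y⁻¹ = e * z * z := by
    calc y * (e * z) * y⁻¹ = y * e * (z * y⁻¹) := by group
      _ = y * e * y⁻¹ * z := by rw [← hzc]; group
      _ = _ := by rw [hy]
  have c1 : Nat.card (fx (φ (e * z))) = Nat.card (fx (φ e)) := by
    rw [← hy, map_mul, map_mul, map_inv, card_fx_conj]
  have c2 : Nat.card (fx (φ (e * z * z))) = Nat.card (fx (φ e)) := by
    rw [← hy2, map_mul, map_mul, map_inv, card_fx_conj, c1]
  have hinf : fx (φ e) ⊓ fx (φ (e * z)) ≤ M := by
    intro x hx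
    obtain ⟨h1, h2⟩ := mem_inf.1 hx
    apply hmin z hz hz1
    rw [mem_fx] at h1 h2 ⊢
    rw [hzc, map_mul, MulAut.mul_apply, h1] at h2
    exact h2
  have hprod : ((fx (φ e) : Set K) * (fx (φ (e * z)) : Set K) : Set K) = Set.univ := by
    have h1 := Cfsg.Lib.Hall.card_mul_set_mul_card_inf (fx (φ e)) (fx (φ (e * z)))
    rw [c1] at h1
    have h2 := (hc e he).trans h1.ge
    have h3 := h2.trans (Nat.mul_le_mul_left _ (card_le_of_le hinf))
    have h4 := Nat.le_of_mul_le_mul_right h3 Nat.card_pos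
    apply Set.eq_of_subset_of_ncard_le (Set.subset_univ _)
    rw [Set.ncard_univ, ← Nat.card_coe_set_eq]
    exact h4
  apply hfin e he
  rw [← c2]
  apply card_le_of_le
  intro v hv
  obtain ⟨a, ha, b, hb, rfl⟩ := Set.mem_mul.1 (hprod ▸ Set.mem_univ v)
  simp only [SetLike.mem_coe, mem_fx] at ha hb hv
  have hea : φ (e * z * z) a = φ (z * z) a := by
    rw [mul_assoc, ← hzc, ← mul_assoc, hzc e, mul_assoc, hzc e, ← mul_assoc, map_mul,
      MulAut.mul_apply, ha]
  have heb : φ (e * z * z) b = φ z b := by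
    rw [hzc, map_mul, MulAut.mul_apply, hb]
  rw [map_mul, hea, heb] at hv
  set m := a⁻¹ * φ (z * z) a with hmdef
  have hm2 : m = b * (φ z b)⁻¹ := by
    rw [hmdef, eq_mul_inv_iff_mul_eq, mul_assoc, hv]; group
  have hcomm : ∀ g w : Q, (∀ u, u * w = w * u) → ∀ x, φ g x = x → φ g (φ w x) = φ w x := by
    intro g w hw x hx
    rw [← MulAut.mul_apply, ← map_mul, hw, map_mul, MulAut.mul_apply, hx]
  have hzz : ∀ u, u * (z * z) = z * z * u := mem_center_iff.1 (mul_mem hz hz)
  have hmM : m ∈ M := by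
    apply hinf
    refine mem_inf.2 ⟨?_, ?_⟩
    · exact mul_mem (inv_mem (mem_fx.2 ha)) (mem_fx.2 (hcomm _ _ hzz _ ha))
    · rw [hm2]
      exact mul_mem (mem_fx.2 hb) (inv_mem (mem_fx.2 (hcomm _ _ hzc _ hb)))
  obtain ⟨n, hn⟩ := hQ (z * z)
  have hm1 : m = 1 := fix_of_mul hK (φ (z * z)) n (by rw [← map_pow, hn, map_one]) a m
    ((hM m).1 hmM _) (by rw [hmdef]; group)
  have hzz1 : z * z ≠ 1 := by
    intro h
    obtain ⟨k, hk⟩ := hQ z
    have h1 : orderOf z ∣ 2 := orderOf_dvd_of_pow_eq_one (by rw [pow_two, h])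
    have h2 : orderOf z ∣ p ^ k := orderOf_dvd_of_pow_eq_one hk
    have h3 := Nat.dvd_gcd h1 h2
    have h4 : Nat.Coprime 2 (p ^ k) :=
      ((Nat.coprime_primes Nat.prime_two Fact.out).2 hp.symm).pow_right k
    rw [h4.gcd_eq_one, Nat.dvd_one, orderOf_eq_one_iff] at h3
    exact hz1 h3
  have haM : a ∈ M := by
    apply hmin (z * z) (mul_mem hz hz) hzz1
    rw [mem_fx]
    rw [hmdef, inv_mul_eq_one] at hm1
    exact hm1.symm
  have hbM : b ∈ M := by
    apply hmin z hz hz1
    rw [mem_fx]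
    rw [hm2, mul_inv_eq_one] at hm1
    exact hm1.symm
  exact mul_mem haM hbM

theorem core {K Q : Type*} [Group K] [Finite K] [Group Q] [Finite Q] {p : ℕ} [Fact p.Prime]
    (hp : p ≠ 2) (hQ : IsPGroup p Q) (hK : (Nat.card K).Coprime p) (φ : Q →* MulAut K)
    (C D : Set Q) (hC : closure C = ⊤) (hD : closure D = ⊤)
    (hmin : ∀ z ∈ center Q, z ≠ 1 → ∀ x, φ z x = x → ∀ g, φ g x = x)
    (hf : ∀ c ∈ C, ∀ d ∈ D, ∀ x, ∃ a b, φ d a = a ∧ φ c b = b ∧ x = a * b) :
    ∀ g x, φ g x = x := by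
  set M : Subgroup K := ⨅ g, fx (φ g) with hMdef
  have hM : ∀ x, x ∈ M ↔ ∀ g, φ g x = x := fun x => by
    simp only [hMdef, mem_iInf, mem_fx]
  have hmin' : ∀ z ∈ center Q, z ≠ 1 → fx (φ z) ≤ M := fun z hz h1 x hx =>
    (hM x).2 (hmin z hz h1 x hx)
  have hcd : ∀ c ∈ C, ∀ d ∈ D,
      Nat.card K * Nat.card M ≤ Nat.card (fx (φ d)) * Nat.card (fx (φ c)) := by
    intro c hc d hd
    rw [← Cfsg.Lib.Hall.card_mul_set_mul_card_inf]
    have h1 : ((fx (φ d) : Set K) * (fx (φ c) : Set K) : Set K) = Set.univ := by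
      rw [Set.eq_univ_iff_forall]
      intro x
      obtain ⟨a, b, ha, hb, rfl⟩ := hf c hc d hd x
      exact Set.mul_mem_mul ha hb
    rw [h1, Nat.card_univ]
    exact Nat.mul_le_mul_left _ (card_le_of_le (le_inf (iInf_le _ d) (iInf_le _ c)))
  have key : M = ⊤ := by
    by_cases hc : ∀ e ∈ C, Nat.card K * Nat.card M ≤ Nat.card (fx (φ e)) * Nat.card (fx (φ e))
    · exact core1 hp hQ hK φ M hM C hC hmin' hc
    · push Not at hc
      obtain ⟨c, hc, hlt⟩ := hc
      refine core1 hp hQ hK φ M hM D hD hmin' fun d hd => ?_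
      have h1 := hcd c hc d hd
      by_contra hcon
      push Not at hcon
      rcases le_total (Nat.card (fx (φ d))) (Nat.card (fx (φ c))) with h | h
      · exact absurd (h1.trans (Nat.mul_le_mul_right _ h)) (not_le.2 hlt)
      · exact absurd (h1.trans (Nat.mul_le_mul_left _ h)) (not_le.2 hcon)
  intro g x
  exact (hM x).1 (key ▸ mem_top x) g

/-- Let p ≥ 3 be prime and G a finite group with a Sylow p-subgroup P and a normal p-complement N (N normal, of order prime to p, with NP = G). Suppose P is generated by a subset C and also by a subset D, and that ⟨x c x⁻¹, d⟩ is a p-group for all x ∈ N, c ∈ C, d ∈ D. Then P centralizes N, so that G = N × P. -/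
theorem result {G : Type*} [Group G] [Finite G] (p : ℕ) [Fact p.Prime] (hp3 : 3 ≤ p) (P : Sylow p G)
    (N : Subgroup G) [N.Normal] (hN : (Nat.card N).Coprime p) (hNP : N ⊔ (P : Subgroup G) = ⊤)
    (C D : Set G) (hC : Subgroup.closure C = (P : Subgroup G)) (hD : Subgroup.closure D = (P : Subgroup G))
    (h : ∀ x ∈ N, ∀ c ∈ C, ∀ d ∈ D, IsPGroup p ↥(Subgroup.closure ({x * c * x⁻¹, d} : Set G))) :
    ⁅(P : Subgroup G), N⁆ = ⊥ := by
  have hp2 : p ≠ 2 := by omega
  have hPN : ∀ u ∈ (P : Subgroup G), u ∈ N → u = 1 := by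
    intro u hu hn
    obtain ⟨k, hk⟩ := P.2 ⟨u, hu⟩
    have h1 : orderOf u ∣ p ^ k := orderOf_dvd_of_pow_eq_one (by simpa using congrArg Subtype.val hk)
    have h2 : orderOf u ∣ Nat.card N := N.orderOf_dvd_natCard hn
    have := Nat.dvd_gcd h2 h1
    rw [(hN.pow_right k).gcd_eq_one, Nat.dvd_one] at this
    exact orderOf_eq_one_iff.1 this
  have hCP : ∀ c ∈ C, c ∈ (P : Subgroup G) := fun c hc => hC ▸ subset_closure hc
  have hDP : ∀ c ∈ D, c ∈ (P : Subgroup G) := fun c hc => hD ▸ subset_closure hc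
  have main : ∀ n : ℕ, ∀ K : Subgroup G, Nat.card K = n → K ≤ N →
      (P : Subgroup G) ≤ normalizer (K : Set G) → ∀ g ∈ (P : Subgroup G), ∀ x ∈ K, g * x * g⁻¹ = x := by
    intro n
    induction n using Nat.strong_induction_on with
    | _ n ih =>
    intro K hKn hKN hPK
    set ψ : (P : Subgroup G) →* MulAut K := (normalizerMonoidHom K).comp (inclusion hPK) with hψ
    have hgen : ∀ E : Set G, closure E = (P : Subgroup G) →
        closure (ψ.rangeRestrict '' ((Subtype.val : ↥(P : Subgroup G) → G) ⁻¹' E)) = ⊤ := by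
      intro E hE
      rw [← MonoidHom.map_closure]
      have : closure ((Subtype.val : ↥(P : Subgroup G) → G) ⁻¹' E) = ⊤ := by
        have h1 := closure_closure_coe_preimage (k := E)
        rw [hE] at h1
        exact h1
      rw [this, ← MonoidHom.range_eq_map, MonoidHom.range_eq_top]
      exact ψ.rangeRestrict_surjective
    have key := core (K := K) (Q := ψ.range) hp2 (P.2.of_surjective _ ψ.rangeRestrict_surjective)
      (hN.coprime_dvd_left (card_dvd_of_le hKN)) ψ.range.subtype _ _ (hgen C hC) (hgen D hD) ?_ ?_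
    · intro g hg x hx
      exact congrArg Subtype.val (key (ψ.rangeRestrict ⟨g, hg⟩) ⟨x, hx⟩)
    · intro z hz hz1 (x : K) hx g
      obtain ⟨z, rfl⟩ := ψ.rangeRestrict_surjective z
      obtain ⟨g, rfl⟩ := ψ.rangeRestrict_surjective g
      have hlt : K ⊓ centralizer {(z : G)} < K := by
        refine lt_of_le_of_ne inf_le_left fun he => hz1 ?_
        ext w
        have hw : (w : G) ∈ K ⊓ centralizer {(z : G)} := he.symm ▸ w.2
        have := mem_centralizer_singleton_iff.1 hw.2
        change (z : G) * w * (z : G)⁻¹ = w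
        rw [← this]; group
      have hinv : ∀ u ∈ (P : Subgroup G), ∀ w ∈ K ⊓ centralizer {(z : G)},
          u * w * u⁻¹ ∈ K ⊓ centralizer {(z : G)} := by
        intro u hu w hw
        refine ⟨(mem_normalizer_iff.1 (hPK hu) w).1 hw.1, ?_⟩
        have h1 := mem_center_iff.1 hz (ψ.rangeRestrict ⟨u, hu⟩)
        have h2 := congrArg (fun t : ψ.range => (((t : MulAut K) ⟨w, hw.1⟩ : K) : G)) h1
        change u * ((z : G) * w * (z : G)⁻¹) * u⁻¹ = z * (u * w * u⁻¹) * (z : G)⁻¹ at h2
        have h3 := mem_centralizer_singleton_iff.1 hw.2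
        rw [← h3, mul_inv_cancel_right] at h2
        exact mem_centralizer_singleton_iff.2 (eq_mul_inv_iff_mul_eq.1 h2)
      have hnorm : (P : Subgroup G) ≤ normalizer ((K ⊓ centralizer {(z : G)} : Subgroup G) : Set G) := by
        intro u hu
        rw [mem_normalizer_iff]
        intro w
        refine ⟨hinv u hu w, fun hw => ?_⟩
        have := hinv u⁻¹ (inv_mem hu) _ hw
        simpa [mul_assoc] using this
      have hx' : (x : G) ∈ K ⊓ centralizer {(z : G)} := by
        refine ⟨x.2, ?_⟩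
        have h1 := congrArg Subtype.val hx
        change (z : G) * x * (z : G)⁻¹ = x at h1
        exact mem_centralizer_singleton_iff.2 (eq_mul_inv_iff_mul_eq.1 h1.symm)
      have hcl : Nat.card (K ⊓ centralizer {(z : G)} : Subgroup G) < Nat.card K :=
        lt_of_le_of_ne (card_le_of_le hlt.le) fun he => hlt.ne (eq_of_le_of_card_ge hlt.le he.ge)
      have := ih _ (hKn ▸ hcl) _ rfl (inf_le_left.trans hKN) hnorm g g.2 x hx'
      exact Subtype.ext this
    · rintro _ ⟨c, hc, rfl⟩ _ ⟨d, hd, rfl⟩ (x : K)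
      have hle : closure ({(x : G) * (c : G) * (x : G)⁻¹, (d : G)} : Set G) ≤ K ⊔ (P : Subgroup G) := by
        rw [closure_le]
        rintro w (rfl | rfl)
        · exact mul_mem (mul_mem (mem_sup_left x.2) (mem_sup_right c.2)) (inv_mem (mem_sup_left x.2))
        · exact mem_sup_right d.2
      obtain ⟨t, ht, htP⟩ := Cfsg.Lib.Invol.exists_conj_le_sylow_of_le P le_sup_right
        (h x (hKN x.2) c hc d hd) hle
      have ht' : t⁻¹ ∈ ((K ⊔ (P : Subgroup G) : Subgroup G) : Set G) := inv_mem ht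
      rw [coe_mul_of_right_le_normalizer_left K _ hPK] at ht'
      obtain ⟨k, hk, u, hu, hku⟩ := Set.mem_mul.1 ht'
      have ht2 : t = u⁻¹ * k⁻¹ := by rw [← mul_inv_rev, hku, inv_inv]
      have hconj : ∀ w, t * w * t⁻¹ ∈ (P : Subgroup G) → k⁻¹ * w * k ∈ (P : Subgroup G) := by
        intro w hw
        have := mul_mem (mul_mem hu hw) (inv_mem hu)
        rw [ht2] at this
        simpa [mul_assoc] using this
      have h1 := hconj _ (htP _ (subset_closure (Set.mem_insert _ _)))
      have h2 := hconj _ (htP _ (subset_closure (Set.mem_insert_of_mem _ rfl)))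
      have hkN : k ∈ N := hKN hk
      have hxN : (x : G) ∈ N := hKN x.2
      have e1 : k⁻¹ * (x * c * (x : G)⁻¹) * k * (c : G)⁻¹ = 1 := by
        apply hPN _ (mul_mem h1 (inv_mem c.2))
        have := mul_mem (mul_mem (inv_mem hkN) hxN)
          ((inferInstance : N.Normal).conj_mem _ (mul_mem (inv_mem hxN) hkN) c)
        simpa [mul_assoc] using this
      have e2 : k⁻¹ * d * k * (d : G)⁻¹ = 1 := by
        apply hPN _ (mul_mem h2 (inv_mem d.2))
        have := mul_mem (inv_mem hkN) ((inferInstance : N.Normal).conj_mem _ hkN d)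
        simpa [mul_assoc] using this
      refine ⟨⟨k, hk⟩, (⟨k, hk⟩ : K)⁻¹ * x, Subtype.ext ?_, Subtype.ext ?_, by group⟩
      · change (d : G) * k * (d : G)⁻¹ = k
        calc (d : G) * k * (d : G)⁻¹ = k * (k⁻¹ * d * k * (d : G)⁻¹) := by group
          _ = k := by rw [e2, mul_one]
      · change (c : G) * (k⁻¹ * x) * (c : G)⁻¹ = k⁻¹ * x
        have : (c : G) = k⁻¹ * (x * c * (x : G)⁻¹) * k := (mul_inv_eq_one.1 e1).symm
        calc (c : G) * (k⁻¹ * x) * (c : G)⁻¹
            = (k⁻¹ * (x * c * (x : G)⁻¹) * k) * (k⁻¹ * x) * (c : G)⁻¹ := by rw [← this]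
          _ = k⁻¹ * x := by group
  rw [commutator_eq_bot_iff_le_centralizer]
  intro g hg
  rw [mem_centralizer_iff]
  intro x hx
  have := main _ N rfl le_rfl le_normalizer_of_normal g hg x hx
  rw [← this, inv_mul_cancel_right, this]

end Cfsg.Agent.S2277
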