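import Cfsg.Statements.S2278
import Cfsg.Agent.Lib.Linear.TwoGen2

set_option autoImplicit false
open Cfsg

namespace Cfsg.Agent.S2278

open Cfsg.Lib.Linear Matrix in

/-- Let F be a finite field. Then SL_3(F) is generated by two conjugate regular unipotent elements: there are u with u − 1 nilpotent and (u − 1)² ≠ 0, and g, such that u and g u g⁻¹ generate SL_3(F). -/
theorem result {F : Type*} [Field F] [Fintype F] :
    ∃ u g : Matrix.SpecialLinearGroup (Fin 3) F, IsNilpotent ((u : Matrix (Fin 3) (Fin 3) F) - 1) ∧ ((u : Matrix (Fin 3) (Fin 3) F) - 1) ^ (3 - 1) ≠ 0 ∧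
      Subgroup.closure ({u, g * u * g⁻¹} : Set (Matrix.SpecialLinearGroup (Fin 3) F)) = ⊤ := by
  suffices h : Gen2c 3 F from let ⟨u, g, a, b⟩ := h; ⟨u, g, a.1, a.2, b⟩
  obtain ⟨ζ, a, b, c⟩ := exists_ring_gen (F := F)
  by_cases h2 : (2 : F) = 0
  · obtain ⟨g, hg⟩ := exists_conj_sl (jSL 3 F) (G := !![0, 0, 1; ζ ^ 2, 0, 0; 0, ζ, 0]) a (by simp [det_fin_three]; ring)
    refine ⟨_, g, jSL_reg (by simp), ?_⟩
    set w := g * jSL 3 F * g⁻¹
    have hJ : (jSL 3 F).1 = !![1, 1, 0; 0, 1, 1; 0, 0, 1] := by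
      ext i j; fin_cases i <;> fin_cases j <;> simp [coe_jSL, shM]
    have hW : w.1 = !![1, 0, 0; 0, 1, ζ; ζ, 0, 1] := (isUnit_iff_isUnit_det _).2 (show IsUnit (det !![0, 0, 1; ζ ^ 2, 0, 0; 0, ζ, 0]) by
      simp [det_fin_three, a]) |>.mul_right_cancel (by rw [hg, hJ]; simp [sq])
    set H := Subgroup.closure {jSL 3 F, w}
    have hu : jSL 3 F ∈ H := Subgroup.subset_closure (.inl rfl)
    have hw : w ∈ H := Subgroup.subset_closure (.inr rfl)
    have e1 : ![0, 0, 1] ∈ tvA H ![1, 0, 0] := ⟨by simp, by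
      convert mul_mem hu hu using 1
      refine Subtype.ext ?_
      rw [coe_tvf (by simp), sl_coe_mul, hJ]
      ext i j; fin_cases i <;> fin_cases j <;> simp [one_add_one_eq_two, h2]⟩
    have e2 : ![ζ ^ 2, 0, 0] ∈ tvA H ![0, 1, 0] := ⟨by simp, by
      convert mul_mem hw hw using 1
      refine Subtype.ext ?_
      rw [coe_tvf (by simp), sl_coe_mul, hW]
      ext i j; fin_cases i <;> fin_cases j <;> simp [← two_mul, h2, sq]⟩
    have e3 : ∀ x : F, ![x, 0, 0] ∈ tvA H ![0, 1, 0] → ![0, 0, x] ∈ tvA H ![0, 1, 0] := fun x h => by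
      simpa using tvA_comm h e1 (by simp)
    let R : Subring F :=
      { carrier := {s | ∀ x : F, ![x, 0, 0] ∈ tvA H ![0, 1, 0] → ![x * s, 0, 0] ∈ tvA H ![0, 1, 0]}
        mul_mem' := fun a b c h => mul_assoc c _ _ ▸ b _ (a c h)
        one_mem' := fun c h => by simpa
        add_mem' := fun a b c h => by simpa [mul_add] using add_mem (a c h) (b c h)
        zero_mem' := fun c h => by convert zero_mem (tvA H ![0, 1, 0]) using 1; simp
        neg_mem' := fun a c h => by simpa using neg_mem (a c h) }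
    have e4 : ∀ x : F, ![x, 0, 0] ∈ tvA H ![0, 1, 0] := fun x => by
      have := (c R fun x h => by
        have k : w.1 *ᵥ ![0, 1, 0] = ![0, 1, 0] := by ext i; fin_cases i <;> simp [hW]
        convert sub_mem ((tvA_conj hw).1 (k.symm ▸ e3 x h)) (e3 x h) using 1
        ext i; fin_cases i <;> simp [hW]).ge
          (Subring.mem_top (x / ζ ^ 2)) _ e2
      rwa [mul_div_cancel₀ _ (pow_ne_zero 2 a)] at this
    have e5 : ![0, 1, 0] ∈ fullW H := fun φ h => by
      convert add_mem (e4 (φ 0)) (e3 _ (e4 (φ 2))) using 1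
      ext i; fin_cases i <;> simp_all [dotProduct, Fin.sum_univ_three]
    exact eq_top_of_fullW (eq_top_of_last (fun x => fullW_conj hu) (fullW_conj hw (fullW_conj hu e5)) (by simpa [hW, hJ, Fin.last, vecHead, vecTail]))
  by_cases h3 : Fintype.card F = 3
  · exact gen2c_three_three.map (ZMod.ringEquivOfPrime F Nat.prime_three h3)
  have h8 : (8 : F) ≠ 0 := by convert pow_ne_zero 3 h2 using 1; norm_num
  have d : ζ ^ 2 ≠ 1 := fun d => by
    have e := Nat.le_of_dvd two_pos (b 2 d)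
    have := Fintype.one_lt_card (α := F)
    have f := FiniteField.cast_card_eq_zero F
    rw [show Fintype.card F = 2 by omega] at f
    exact h2 f
  obtain ⟨r, r0, r1, r3, hr⟩ : ∃ r : F, r ≠ 0 ∧ r ^ 2 ≠ 1 ∧ r ^ 2 + 3 ≠ 0 ∧ ∀ R : Subring F, r ∈ R → R = ⊤ := by
    by_cases e : ζ ^ 2 + 3 = 0
    · refine ⟨ζ⁻¹, by simpa, by rwa [inv_pow, ne_eq, inv_eq_one], fun f => h8 ?_, fun R f => c R (by simpa using subring_inv_mem f)⟩
      field_simp at f; linear_combination 3 * e - f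
    · exact ⟨ζ, a, d, e, c⟩
  have k1 : r - 1 ≠ 0 := fun e => r1 (by linear_combination (r + 1) * e)
  have k2 : r + 1 ≠ 0 := fun e => r1 (by linear_combination (r - 1) * e)
  have e : 1 + (6 * r ^ 2 + 2) / (r - 1) ^ 3 = ((r + 1) / (r - 1)) ^ 3 := by field_simp; ring
  refine (gen2_of (n := 0) (a := fun j => if j = 0 then 2 * (r ^ 4 - 3 * r ^ 2 + 6) / (r - 1) ^ 3 else
    if j = 1 then -2 * (r ^ 4 - 4 * r ^ 2 + 3) / (r - 1) ^ 3 else if j = 2 then 2 * (r + 1) ^ 2 / (r - 1) else 0)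
    (fun j h => by split_ifs <;> first | omega | rfl) (by simp [h2, k1, k2]) (m₀ := 2 * (r ^ 4 - 3 * r ^ 2 + 6) / (r - 1) ^ 3)
    (m₁ := 2 * (r ^ 2 + 3) / (r - 1) ^ 3) (m₂ := (6 * r ^ 2 + 2) / (r - 1) ^ 3) (m₃ := 2 * r ^ 2 * (r ^ 2 + 3) / (r - 1) ^ 3)
    (m₄ := r ^ 2 * (6 * r ^ 2 + 2) / (r - 1) ^ 3) (by simp) (by simp; field_simp; ring) (by simp; field_simp; ring)
    (by simp; field_simp; ring) (by simp; field_simp; ring) (by simp [e, k1, k2]) (by simp [h2, r0, r3, k1]) (by field_simp; ring)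
    (by field_simp) (m := 2 ^ 2 * (r ^ 2 + 3)) (by rw [e]; field_simp; ring) (by simp [h2, r3]) fun R i j => hr R ?_).2 _ e
  have l2 := subring_inv_mem (show (2 : F) ∈ R from natCast_mem R 2)
  replace i : r * (r ^ 2 + 3) ∈ R := by
    convert mul_mem i (pow_mem l2 3) using 1; rw [e]; field_simp; ring
  replace j : (r ^ 2 + 3) ^ 3 ∈ R := by
    convert mul_mem j (pow_mem l2 6) using 1; rw [e]; simp; field_simp; ring
  have l : r ^ 3 ∈ R := by convert mul_mem (pow_mem i 3) (subring_inv_mem j) using 1; field_simp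
  by_cases l3 : (3 : F) = 0
  · haveI := (CharP.charP_iff_prime_eq_zero Nat.prime_three).2 l3
    obtain ⟨k, -, o⟩ := FiniteField.card F 3
    rw [← FiniteField.pow_card r, o, ← k.natPred_add_one, pow_succ', pow_mul]
    exact pow_mem l _
  · convert mul_mem (sub_mem i l) (subring_inv_mem (show (3 : F) ∈ R from natCast_mem R 3)) using 1
    field_simp; ring

end Cfsg.Agent.S2278
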