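import Cfsg.Statements.S2279
import Cfsg.Agent.Lib.Linear.TwoGen2

set_option autoImplicit false
open Cfsg

namespace Cfsg.Agent.S2279

open Cfsg.Lib.Linear in

/-- Let F be a finite field with q elements and n ≥ 4. Then SL_n(F) is generated by two regular unipotent elements (elements u with u − 1 nilpotent and (u − 1)^(n−1) ≠ 0); if q is prime, the two can be taken conjugate in SL_n(F). -/
theorem result {F : Type*} [Field F] [Fintype F] (n : ℕ) (hn : 4 ≤ n) :
    (∃ u v : Matrix.SpecialLinearGroup (Fin n) F, (IsNilpotent ((u : Matrix (Fin n) (Fin n) F) - 1) ∧ ((u : Matrix (Fin n) (Fin n) F) - 1) ^ (n - 1) ≠ 0) ∧ (IsNilpotent ((v : Matrix (Fin n) (Fin n) F) - 1) ∧ ((v : Matrix (Fin n) (Fin n) F) - 1) ^ (n - 1) ≠ 0) ∧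
      Subgroup.closure ({u, v} : Set (Matrix.SpecialLinearGroup (Fin n) F)) = ⊤) ∧
    ((Fintype.card F).Prime → ∃ u g : Matrix.SpecialLinearGroup (Fin n) F, (IsNilpotent ((u : Matrix (Fin n) (Fin n) F) - 1) ∧ ((u : Matrix (Fin n) (Fin n) F) - 1) ^ (n - 1) ≠ 0) ∧
      Subgroup.closure ({u, g * u * g⁻¹} : Set (Matrix.SpecialLinearGroup (Fin n) F)) = ⊤) := by
  change Gen2 n F ∧ (_ → Gen2c n F)
  rcases hn.eq_or_lt with rfl | h
  · by_cases h2 : (2 : F) = 0
    · exact ⟨(gen2c_four_even h2).gen2, fun _ => gen2c_four_even h2⟩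
    obtain ⟨ζ, a, b, c⟩ := exists_ring_gen (F := F)
    refine ⟨(gen2_four_odd h2 a (fun d => h2 ?_) c).1, fun hp => (gen2_four_odd h2 h2 (by norm_num) fun R _ =>
      eq_top_iff.2 fun x _ => ?_).2 1 (by norm_num)⟩
    · have e := b 1 (by simpa [sub_eq_zero] using d)
      have := Fintype.one_lt_card (α := F)
      have f := FiniteField.cast_card_eq_zero F
      rwa [show Fintype.card F = 2 by simp at e; omega] at f
    · haveI := Fact.mk hp
      obtain ⟨y, rfl⟩ := (ZMod.ringEquivOfPrime F hp rfl).surjective x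
      rw [← ZMod.natCast_zmod_val y, map_natCast]; exact natCast_mem R _
  · obtain ⟨m, rfl⟩ : ∃ m, n = m + 5 := ⟨n - 5, by omega⟩
    exact ⟨(gen2c_five m).gen2, fun _ => gen2c_five m⟩

end Cfsg.Agent.S2279
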