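import Cfsg.Statements.S2280
import Cfsg.Agent.Lib.Linear.RegUnip

set_option autoImplicit false
open Cfsg

namespace Cfsg.Agent.S2280

open Cfsg.Lib.Linear Matrix in

/-- Let F be a finite field and n ≥ 3. Then SL_n(F) is generated by three conjugate regular unipotent elements: there are u with u − 1 nilpotent and (u − 1)^(n−1) ≠ 0, and g, h, such that u, g u g⁻¹ and h u h⁻¹ generate SL_n(F). -/
theorem result {F : Type*} [Field F] [Fintype F] (n : ℕ) (hn : 3 ≤ n) :
    ∃ u g h : Matrix.SpecialLinearGroup (Fin n) F, (IsNilpotent ((u : Matrix (Fin n) (Fin n) F) - 1) ∧ ((u : Matrix (Fin n) (Fin n) F) - 1) ^ (n - 1) ≠ 0) ∧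
      Subgroup.closure ({u, g * u * g⁻¹, h * u * h⁻¹} : Set (Matrix.SpecialLinearGroup (Fin n) F)) = ⊤ := by
  classical
  obtain ⟨m, rfl⟩ : ∃ m, n = m + 3 := ⟨n - 3, by omega⟩
  obtain ⟨g, d, hd, hw⟩ := exists_lower_conj (n := m + 3) (F := F)
  set w := g * jSL (m + 3) F * g⁻¹
  let x := w⁻¹.1 *ᵥ Pi.single 0 (1 : F)
  have hx : w.1 *ᵥ x = Pi.single 0 1 := by rw [mulVec_mulVec, sl_coe_mul_inv, one_mulVec]
  have hx' : ∀ k (h : k < m + 3), x ⟨k, h⟩ ≠ 0 := fun k => by
    induction k with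
    | zero =>
      intro h e
      have := congrFun hx 0
      rw [hw, add_mulVec, one_mulVec] at this
      simp [show x 0 = 0 from e, mulVec, dotProduct] at this
    | succ k ih =>
      intro h e
      have := congrFun hx ⟨k + 1, h⟩
      rw [hw, add_mulVec, one_mulVec, Pi.add_apply, e, Pi.single_eq_of_ne (by simp [Fin.ext_iff]), zero_add, mulVec, dotProduct,
        Finset.sum_eq_single ⟨k, by omega⟩ (fun i _ hi => by
          rw [of_apply, if_neg fun e => hi (Fin.ext (by simpa using e.symm)), zero_mul]) (by simp)] at this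
      simp [hd, ih] at this
  obtain ⟨ζ, hζ⟩ := IsCyclic.exists_monoid_generator (α := Fˣ)
  have hb : x (Fin.last _) * (d 2 * d 1) ≠ 0 := mul_ne_zero (hx' _ _) (mul_ne_zero (hd _) (hd _))
  let t := ζ / (x (Fin.last _) * (d 2 * d 1))
  let h : Matrix.SpecialLinearGroup (Fin (m + 3)) F := tvf (Pi.single 0 1) (Pi.single 1 t)
  refine ⟨jSL _ F, h, g, jSL_reg (by omega), ?_⟩
  set H := Subgroup.closure {jSL (m + 3) F, h * jSL (m + 3) F * h⁻¹, w}
  have hu : jSL _ F ∈ H := Subgroup.subset_closure (by simp)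
  have hwH : w ∈ H := Subgroup.subset_closure (by simp)
  have v2 : (2 : Fin (m + 3)).val = 2 := rfl
  have n2 : (2 : Fin (m + 3)) ≠ 0 := by simp [Fin.ext_iff, -Fin.coe_ofNat_eq_mod, v2]
  have e1 : (Pi.single 1 t : Fin (m + 3) → F) ⬝ᵥ Pi.single 0 1 = 0 := by simp
  have e2 : (Pi.single 1 t : Fin (m + 3) → F) ᵥ* shM _ F = Pi.single 2 t := by
    ext j; rw [vecMul_shM]; simp only [Pi.single_apply, Fin.ext_iff, v2, Fin.val_one]; split_ifs <;> first | rfl | omega
  have h1 : Pi.single 2 t ∈ tvA H (Pi.single 0 1) := by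
    have := tvf_mul (g := jSL (m + 3) F) (v := Pi.single 0 1) (φ := Pi.single 1 t) (by rw [jSL_mulVec_zero, e1])
    rw [jSL_mulVec_zero, coe_jSL, vecMul_add, vecMul_one, e2, add_comm (Pi.single 1 t : Fin (m + 3) → F), tvf_add (by simp [n2]) e1] at this
    refine ⟨by simp [n2], (H.mul_mem_cancel_left hu).1 ?_⟩
    have h2 : h * jSL (m + 3) F * h⁻¹ ∈ H := Subgroup.subset_closure (by simp)
    rwa [this, ← mul_assoc, mul_inv_cancel_right] at h2
  have h2 := (tvA_conj hwH).1 (hx.symm ▸ h1)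
  have e3 : ∀ j, (Pi.single 2 t ᵥ* w.1) j = t * w.1 2 j := fun j => by simp
  have e4 : (Pi.single 2 t ᵥ* w.1) 0 = 0 := by
    rw [e3, hw]; simp [one_apply, Fin.ext_iff, -Fin.coe_ofNat_eq_mod, v2]
  have e5 : (Pi.single 2 t ᵥ* w.1) 1 = t * (d 2 * d 1) := by
    rw [e3, hw]; simp [one_apply, Fin.ext_iff, -Fin.coe_ofNat_eq_mod, v2]
  have h3 : ∀ c, Pi.single (Fin.last _) c ∈ tvA H (Pi.single 0 1) → ∃ φ ∈ tvA H (Pi.single 0 1), φ 0 = 0 ∧ φ 1 = c * ζ :=
    fun c hc => ⟨_, tvA_comm hc h2 (by simpa using e4), by rw [Pi.smul_apply, e4, smul_zero], by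
      rw [Pi.smul_apply, e5, single_dotProduct]; simp only [t, smul_eq_mul]
      rw [mul_comm (_ / _), mul_assoc, ← mul_assoc (x _), mul_div_cancel₀ _ hb]⟩
  have t0 : t ≠ 0 := div_ne_zero ζ.ne_zero hb
  have h4 : ∀ k : ℕ, Pi.single (Fin.last _) (t * ζ ^ k) ∈ tvA H (Pi.single 0 1) := fun k => by
    induction k with
    | zero => simpa using single_last_mem (tvA_shM hu) h1 (j := 2) fun i hi => Pi.single_eq_of_ne hi.ne _
    | succ k ih =>
      obtain ⟨φ, a, b, c⟩ := h3 _ ih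
      have := single_last_mem (tvA_shM hu) a (j := 1) fun i hi => by rwa [show i = 0 by simpa using hi]
      rwa [c, mul_assoc, ← pow_succ] at this
  have h5 : Pi.single 0 1 ∈ fullW H := fun φ hφ => mem_of_lead (tvA_shM hu) (fun c => by
    by_cases c0 : c = 0
    · exact ⟨0, zero_mem _, rfl, c0.symm⟩
    obtain ⟨k, hk⟩ := hζ (Units.mk0 (c / (t * ζ)) (by simp [c0, t0]))
    obtain ⟨φ, a, b, e⟩ := h3 _ (h4 k)
    refine ⟨φ, a, b, ?_⟩
    rw [e, show (ζ : F) ^ k = c / (t * ζ) by simpa using congrArg Units.val hk]; field_simp) φ (by simpa using hφ)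
  have h6 : ∀ k (h : k < m + 3), Pi.single ⟨k, h⟩ 1 ∈ fullW H := fun k => by
    induction k with
    | zero => exact fun _ => h5
    | succ k ih =>
      intro h
      have := Submodule.smul_mem _ (d ⟨k + 1, h⟩ * d ⟨k, by omega⟩)⁻¹ (sub_mem (fullW_conj hwH (ih (by omega))) (ih (by omega)))
      convert this using 1
      ext i
      rw [hw, add_mulVec, one_mulVec, add_sub_cancel_left]
      by_cases e : i = ⟨k + 1, h⟩
      · subst e; simp [hd]; field_simp [hd]
      · simp [e, show ¬ i.val = k + 1 from fun c => e (Fin.ext c)]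
  refine eq_top_of_fullW (eq_top_iff.2 fun v _ => ?_)
  rw [pi_eq_sum_univ' v]
  exact Submodule.sum_mem _ fun i _ => Submodule.smul_mem _ _ (h6 i.1 i.2)

end Cfsg.Agent.S2280
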