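import Cfsg.Statements.S2281
import Cfsg.Agent.Lib.Linear.RegForm

set_option autoImplicit false
open Cfsg

namespace Cfsg.Agent.S2281

open Cfsg.Lib.Linear Cfsg.Lib.Linear.EG Cfsg.Lib.Forms Cfsg.Lib.Forms.Form Matrix Module

theorem sq_surj {F : Type*} [Field F] [Finite F] (h2 : (2 : F) = 0) (x : F) : ∃ a : F, a ^ 2 = x := by
  obtain ⟨a, b, h⟩ := exists_sq_sub_sq x
  exact ⟨a + b, by linear_combination -h + (a * b + b ^ 2) * h2⟩

theorem model {F : Type*} [Field F] [Fintype F] (k : ℕ) (h22 : ¬ (k = 0 ∧ Fintype.card F = 2)) :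
    ∃ D : Form (altKind F) (Fin (2 * k + 2 + 1 + 1) → F), D.Nondeg ∧ ∃ u g h : D.isom,
      (∀ x, u.1 x = (jSL _ F).1 *ᵥ x) ∧
      Subgroup.closure {u, g * u * g⁻¹, h * u * h⁻¹} = ⊤ := by
  classical
  let G : ℕ → ℕ → F := fun i j => (pz (k + 2) (2 * k + 2 + 1) i j : ℤ)
  have hsk : ∀ i j, pz (k + 2) (2 * k + 2 + 1) j i = -pz (k + 2) (2 * k + 2 + 1) i j := fun i j => by
    rw [pz_swap, show ((2 * k + 2 + 1 : ℕ) : ℤ) + 1 - (k + 2) = k + 2 by push_cast; ring,
      Odd.neg_one_pow ⟨k + 1, by ring⟩, neg_one_mul]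
  have hd : ∀ i, G i i = 0 := fun i => by
    have : pz (k + 2) (2 * k + 2 + 1) i i = 0 := by have := hsk i i; omega
    simp only [G, this, Int.cast_zero]
  have hA : LinearMap.IsAlt (gB (RingHom.id F) (2 * k + 2 + 1 + 1) G) := fun x => by
    rw [gB_apply, ← Finset.sum_product']
    refine Finset.sum_involution (fun p _ => p.swap) (fun p _ => ?_) (fun p _ h h' => h ?_)
      (fun p _ => by simp) (fun p _ => rfl)
    · simp only [G, Prod.fst_swap, Prod.snd_swap, hsk p.1 p.2, RingHom.id_apply]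
      push_cast; ring
    · rw [show p.2 = p.1 from congrArg Prod.fst h', hd]; simp
  obtain ⟨D, hD⟩ : ∃ D : Form (altKind F) (Fin (2 * k + 2 + 1 + 1) → F),
    D.B = gB (RingHom.id F) _ G := ⟨ofAlt _ hA, rfl⟩
  obtain ⟨hN, u, hR, hu⟩ := exists_model (G := G) (l := 2 * k + 2 + 1)
    (fun i j => by simp only [G]; exact_mod_cast congrArg (Int.cast : ℤ → F) (pz_inv _ _ i j))
    (fun i j h => by simp only [G, pz_lt h, Int.cast_zero])
    (fun i j h => by simp [G, pz_eq h]) D hD (fun _ _ _ => by rw [alt_Q, alt_Q]) (by omega)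
  set e := eb (2 * k + 2 + 1 + 1) F with he
  have hB : ∀ {i j}, i ≤ 2 * k + 3 → j ≤ 2 * k + 3 → D.B (e i) (e j) = G i j := fun hi hj => by
    rw [hD]; exact gB_eb (by omega) (by omega) G
  have h01 : D.B (e 0) (e 1) = 0 := by
    rw [hB (by omega) (by omega)]; simp only [G, pz_lt (show 0 + 1 < 2 * k + 2 + 1 by omega), Int.cast_zero]
  have h02 : D.B (e 0) (e 2) = 0 := by
    rw [hB (by omega) (by omega)]; simp only [G, pz_lt (show 0 + 2 < 2 * k + 2 + 1 by omega), Int.cast_zero]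
  have h0l : D.B (e 0) (e (2 * k + 2)) = 0 := by
    rw [hB (by omega) (by omega)]
    simp only [G, pz_lt (show 0 + (2 * k + 2) < 2 * k + 2 + 1 by omega), Int.cast_zero]
  have hl1 : D.B (e (2 * k + 2)) (e 1) = 1 := by
    rw [hB (by omega) (by omega)]
    simp only [G, pz_eq (show 2 * k + 2 + 1 = 2 * k + 2 + 1 from rfl)]
    rw [Even.neg_one_pow ⟨k + 1, by ring⟩, Int.cast_one]
  have h1l : D.B (e 1) (e (2 * k + 2)) = -1 := by rw [Symp.B_symm, hl1]
  have u1 := hR.us 0 (by omega)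
  have u2 := hR.us 1 (by omega)
  obtain ⟨ζ, hζ0, -, hζ⟩ := exists_ring_gen (F := F)
  obtain ⟨g, d, μ, hg, hdμ⟩ : ∃ (g : D.isom) (d μ : F), Is (g * u * g⁻¹ * u⁻¹) (e 0) 0 d ∧
      -d * μ ^ 4 = ζ := by
    by_cases h2 : (2 : F) = 0
    · obtain ⟨c, hc⟩ : ∃ c : F, c - c ^ 2 * D.B (e 2) (e 1) ≠ 0 := by
        by_cases hk : k = 0
        · have h3 : 2 < Fintype.card F :=
            lt_of_le_of_ne Fintype.one_lt_card fun h => h22 ⟨hk, h.symm⟩
          obtain ⟨c, -, hc⟩ := Finset.exists_mem_notMem_of_card_lt_card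
            (s := {0, (D.B (e 2) (e 1))⁻¹}) (t := Finset.univ)
            (lt_of_le_of_lt Finset.card_le_two h3)
          simp only [Finset.mem_insert, Finset.mem_singleton, not_or] at hc
          refine ⟨c, fun h => hc.2 (eq_inv_of_mul_eq_one_left (mul_left_cancel₀ hc.1 ?_))⟩
          linear_combination -h
        · refine ⟨1, ?_⟩
          rw [hB (by omega) (by omega)]
          simp [G, pz_lt (show 2 + 1 < 2 * k + 2 + 1 by omega)]
      obtain ⟨g, hg⟩ := exists_comm_eq' hR.u0 u1 u2 h01 h02 c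
      obtain ⟨a, ha⟩ := sq_surj h2 (-ζ / (c - c ^ 2 * D.B (e 2) (e 1)))
      obtain ⟨b, hb⟩ := sq_surj h2 a
      refine ⟨g, _, b, hg, ?_⟩
      rw [show b ^ 4 = (b ^ 2) ^ 2 by ring, hb, ha, neg_mul]
      exact (congrArg _ (mul_div_cancel₀ _ hc)).trans (neg_neg _)
    · obtain ⟨g, -, hg⟩ := exists_comm_eq hR.u0 u1 hR.Q0 h01 (ζ / 2)
      refine ⟨g, _, 1, hg, ?_⟩
      simp only [altKind_ε, RingHom.id_apply]
      field_simp
      ring
  have hd0 : d ≠ 0 := by rintro rfl; exact hζ0 (by rw [← hdμ]; ring)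
  have hμ0 : μ ≠ 0 := by rintro rfl; exact hζ0 (by rw [← hdμ]; ring)
  have v1 := hR.us (k + 2) (by omega)
  have v2 := hR.us (k + 1) (by omega)
  have b1 : D.B (e (k + 2 + 1)) (e (k + 2)) = 0 := by
    rw [hB (by omega) (by omega)]
    simp only [G]
    rw [pz_of 2 1 (by omega) (by push_cast; ring)]; simp
  have b2 : D.B (e (k + 2 + 1)) (e (k + 1)) = (-1) ^ (k + 2 + 1) := by
    rw [hB (by omega) (by omega)]
    simp only [G]
    rw [pz_of 1 1 (by omega) (by push_cast; ring)]; simp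
  set s : F := (-1) ^ (k + 2 + 1) with hs
  have hs2 : s * s = 1 := by rw [hs, ← mul_pow]; simp
  have hs0 : s ≠ 0 := left_ne_zero_of_mul_eq_one hs2
  have hγ : -(μ ^ 2 * s) ≠ 0 := neg_ne_zero.2 (mul_ne_zero (pow_ne_zero _ hμ0) hs0)
  have he0 : e 0 ≠ 0 := fun h => by simpa [he, eb] using congrFun h 0
  obtain ⟨h, w1, w2, w3⟩ := exists_conj hN u (p := μ • e (k + 2 + 1)) (a := e 1) (b := e 0)
    (c := -(μ ^ 2 * s) • e (2 * k + 2)) (alt_Q _ _)
    (by rw [map_smul u.1, v1]; simp only [D.B_lin, Symp.B_self, b1]; ring)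
    (by rw [map_smul u.1, v1, map_smul u.1, map_add u.1, v1, v2]
        simp only [D.B_lin, Symp.B_self, b1, b2, h1l, RingHom.id_apply]; ring)
    (alt_Q _ _) (alt_Q _ _) (alt_Q _ _) (D.eq_zero_symm h01)
    (by rw [D.B_smul_right, h0l, mul_zero])
    (by rw [D.B_smul_right, h1l]; simpa using hγ) he0
  refine ⟨D, hN, u, g, h, hu, ?_⟩
  set H := Subgroup.closure {u, g * u * g⁻¹, h * u * h⁻¹}
  have m1 : u ∈ H := Subgroup.subset_closure (by simp)
  have m2 : g * u * g⁻¹ ∈ H := Subgroup.subset_closure (by simp)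
  have m3 : h * u * h⁻¹ ∈ H := Subgroup.subset_closure (by simp)
  have hT := hg.of_in (H.mul_mem m2 (H.inv_mem m1))
  have x1 : (h * u * h⁻¹).1 (e 1) = e 0 := by
    rw [← w1, isom_mul_apply, isom_inv_apply, isom_mul_apply, w2]
  have x0 : (h * u * h⁻¹).1 (e 0) = -(μ ^ 2 * s) • e (2 * k + 2) := by
    rw [← w2, isom_mul_apply, isom_inv_apply, isom_mul_apply, w3]
  have hc := hR.core (by omega) m1 m3 hT hd0 hγ x1 x0 h01 (by rw [hl1]; exact one_ne_zero)
    fun R hR' => hζ R (by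
      have := hR' 1 (by omega)
      rw [hl1, altKind_ε, RingHom.id_apply] at this
      convert this using 1
      linear_combination -hdμ + d * μ ^ 4 * hs2)
  refine symp_top hN hT hd0 hc m3 (H.mul_mem m3 m3) (by rw [x0, D.B_smul_right, h0l, mul_zero])
    (fun hm => ?_) ?_
  · rw [x0, Submodule.smul_mem_iff _ hγ] at hm
    obtain ⟨a, ha⟩ := Submodule.mem_span_singleton.1 hm
    rw [← ha, D.B_smul_left, h01] at hl1
    simp at hl1
  · rw [isom_mul_apply]
    nth_rewrite 1 [← x1]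
    rw [B_isom, x0, D.B_smul_right, h1l]
    simpa using hγ

/-- Let F be a finite field and n ≥ 2, excluding the case n = 2 with F of two elements (where the group is not quasisimple). Then the symplectic group Sp_2n(F) is generated by three conjugate regular unipotent elements: there are u ∈ Sp_2n(F) with u − 1 nilpotent and (u − 1)^(2n−1) ≠ 0, and g, h ∈ Sp_2n(F), such that u, g u g⁻¹ and h u h⁻¹ generate Sp_2n(F). -/
theorem result {F : Type*} [Field F] [Fintype F] (n : ℕ) (hn : 2 ≤ n) (h22 : ¬ (n = 2 ∧ Fintype.card F = 2)) :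
    ∃ u g h : Matrix.symplecticGroup (Fin n) F,
      IsNilpotent ((u : Matrix (Fin n ⊕ Fin n) (Fin n ⊕ Fin n) F) - 1) ∧
      ((u : Matrix (Fin n ⊕ Fin n) (Fin n ⊕ Fin n) F) - 1) ^ (2 * n - 1) ≠ 0 ∧
      Subgroup.closure ({u, g * u * g⁻¹, h * u * h⁻¹} : Set (Matrix.symplecticGroup (Fin n) F)) = ⊤ := by
  obtain ⟨k, rfl⟩ : ∃ k, n = k + 2 := ⟨n - 2, by omega⟩
  obtain ⟨D, hN, u, g, h, hu, hH⟩ := model (F := F) k (fun h => h22 ⟨by omega, h.2⟩)
  obtain ⟨φ, hφ⟩ := Symp.iso_fSymp hN (m := k + 2) (by simp; omega)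
  let ψ := (isomCongr φ hφ).trans (spEquiv F (k + 2)).symm
  have h1 := reg_transport (M := (ψ u).1) (J := (jSL _ F).1) φ fun x => by
    rw [← hu]; exact (mulVec_spEquiv_symm _ _).trans (by simp)
  refine ⟨ψ u, ψ g, ψ h, ⟨2 * k + 2 + 1 + 1, (h1 _).2 ?_⟩, fun h2 => ?_, ?_⟩
  · rw [coe_jSL, add_sub_cancel_left]; exact shM_pow_eq_zero
  · rw [h1, show 2 * (k + 2) - 1 = 2 * k + 2 + 1 + 1 - 1 by omega] at h2
    exact (jSL_reg (by omega)).2 h2
  · have := congrArg (Subgroup.map ψ.toMonoidHom) hH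
    rw [MonoidHom.map_closure, Subgroup.map_top_of_surjective _ ψ.surjective] at this
    simpa [Set.image_insert_eq] using this

end Cfsg.Agent.S2281
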