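import Cfsg.Statements.S2282
import Cfsg.Agent.Lib.Linear.SUGen3

set_option autoImplicit false
open Cfsg

namespace Cfsg.Agent.S2282

open Cfsg.Lib.Linear Cfsg.Lib.Linear.EG Cfsg.Lib.Forms

/-- Let F be a field with q² elements, n ≥ 3 odd with (n, q) ≠ (3, 2), and SU_n(q) the special unitary group of the standard Hermitian form Σ u_i v_i^q. Then SU_n(q) is generated by three conjugate regular unipotent elements: there are u ∈ SU_n(q) with u − 1 nilpotent and (u − 1)^(n−1) ≠ 0, and g, h ∈ SU_n(q), such that u, g u g⁻¹ and h u h⁻¹ generate SU_n(q). -/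
theorem result {F : Type*} [Field F] [Fintype F] (q : ℕ) (hF : Fintype.card F = q ^ 2) (n : ℕ) (hn : 3 ≤ n) (hodd : Odd n) (h32 : ¬ (n = 3 ∧ q = 2)) :
    ∃ u g h : ↥(Cfsg.SU n F q), (IsNilpotent (((u : Matrix.SpecialLinearGroup (Fin n) F) : Matrix (Fin n) (Fin n) F) - 1) ∧ (((u : Matrix.SpecialLinearGroup (Fin n) F) : Matrix (Fin n) (Fin n) F) - 1) ^ (n - 1) ≠ 0) ∧
      Subgroup.closure ({u, g * u * g⁻¹, h * u * h⁻¹} : Set ↥(Cfsg.SU n F q)) = ⊤ := by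
  obtain ⟨σ, h⟩ := isConj_of_card hF
  by_cases h3 : n = 3
  · subst h3
    have := h.two_le
    obtain ⟨u, g, h1, h2⟩ := su3_gen h (by omega)
    exact ⟨u, g, g, h1, by simpa using h2⟩
  obtain ⟨k, rfl⟩ : ∃ k, n = 2 * k + 3 + 1 + 1 := by
    obtain ⟨m, rfl⟩ := hodd
    exact ⟨m - 2, by omega⟩
  obtain ⟨D, hN, u, g, g', hu, hH⟩ := su_model h k
  obtain ⟨ψ, φ, hψ⟩ := exists_su_equiv h hN
  have h1 := reg_transport (M := (ψ u).1.1) (J := (jSL _ F).1) φ fun y => by rw [hψ, hu]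
  refine ⟨ψ u, ψ g, ψ g', ⟨⟨2 * k + 3 + 1 + 1, (h1 _).2 ?_⟩, fun h2 => ?_⟩, ?_⟩
  · rw [coe_jSL, add_sub_cancel_left]; exact shM_pow_eq_zero
  · exact (jSL_reg (by omega)).2 ((h1 _).1 h2)
  · have := closure_eq_top_of_le ψ (s := {u, g * u * g⁻¹, g' * u * g'⁻¹})
      (by simpa [Set.image_insert_eq] using hH)
    simpa [Set.image_insert_eq] using this

end Cfsg.Agent.S2282
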