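import Cfsg.Statements.S2284
import Cfsg.Agent.Lib.Pres.AltN
import Cfsg.Agent.Lib.Pres.SLc
import Cfsg.Agent.Lib.Linear.Triangle

set_option autoImplicit false
open Cfsg

namespace Cfsg.Agent.S2284

open Cfsg.Lib.Pres Cfsg.Lib.Linear Subgroup

theorem prs_S4 : Prs (Equiv.Perm (Fin 4)) 2 3 := by
  refine ⟨_, presLE_univ ![s4x, s4y] ?_ [.of 0 * .of 0, .of 1 ^ 3, (.of 0 * .of 1) ^ 4] ?_ fun Q _ x h => ?_⟩
  · have hx : s4x ∈ closure (Set.range ![s4x, s4y]) := subset_closure ⟨0, rfl⟩
    have hy : s4y ∈ closure (Set.range ![s4x, s4y]) := subset_closure ⟨1, rfl⟩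
    have h := mul_mem (mul_mem (mul_mem (mul_mem hx (inv_mem hy)) hx) hy) hx
    rw [eq_top_iff, ← closure_adjSwap 3, closure_le]
    rintro _ ⟨i, rfl⟩
    fin_cases i
    exacts [Set.mem_of_eq_of_mem (by decide) (mul_mem hy h), Set.mem_of_eq_of_mem (by decide) h, hx]
  · simp only [List.forall_mem_cons, map_mul, map_pow, FreeGroup.lift_apply_of]; decide
  simp only [List.forall_mem_cons, map_mul, map_pow, FreeGroup.lift_apply_of] at h
  obtain ⟨φ, h1, h2⟩ := exists_hom_S4 h.1 h.2.1 h.2.2.1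
  exact ⟨φ, fun i => by fin_cases i <;> assumption⟩

theorem prs_small {G : Type} [Group G] (p : ℕ) [Fact p.Prime] (h : Nat.card G ∣ p) : Prs G 2 8 :=
  have := isCyclic_of_card_dvd_prime h
  prs_cyclic.le (by decide) (by decide)

/-- For every n, the symmetric group S_n and the alternating group A_n each have a presentation with 2 generators and at most 8 relations. -/
theorem result (n : ℕ) : (∃ rels : Finset (FreeGroup (Fin 2)), rels.card ≤ 8 ∧ Nonempty (PresentedGroup (↑rels : Set (FreeGroup (Fin 2))) ≃* Equiv.Perm (Fin n))) ∧ (∃ rels : Finset (FreeGroup (Fin 2)), rels.card ≤ 8 ∧ Nonempty (PresentedGroup (↑rels : Set (FreeGroup (Fin 2))) ≃* ↥(alternatingGroup (Fin n)))) := by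
  by_cases hn : 5 ≤ n
  · exact ⟨((prs_alt_sym hn).2.mono (by decide)).out, ((prs_alt_sym hn).1.mono (by decide)).out⟩
  refine ⟨Prs.out ?_, Prs.out ?_⟩ <;> (replace hn := not_le.1 hn; interval_cases n)
  all_goals first
    | exact prs_S3.mono (by decide) | exact prs_S4.mono (by decide) | exact prs_A4.mono (by decide)
    | exact prs_small 2 (by rw [Nat.card_eq_fintype_card]; decide)
    | exact prs_small 3 (by rw [Nat.card_eq_fintype_card]; decide)

end Cfsg.Agent.S2284
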