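import Cfsg.Statements.S2286
import Cfsg.Agent.Lib.Pres.SL2

set_option autoImplicit false
open Cfsg

namespace Cfsg.Agent.S2286

open Cfsg.Lib.Pres

/-- For every finite field F, SL_2(F) and PSL_2(F) have presentations with 3 generators and at most 9 relations; when F has characteristic 2, PSL_2(F) has a presentation with 3 generators and at most 5 relations. -/
theorem result {F : Type*} [Field F] [Fintype F] :
    (∃ rels : Finset (FreeGroup (Fin 3)), rels.card ≤ 9 ∧ Nonempty (PresentedGroup (↑rels : Set (FreeGroup (Fin 3))) ≃* Matrix.SpecialLinearGroup (Fin 2) F)) ∧ (∃ rels : Finset (FreeGroup (Fin 3)), rels.card ≤ 9 ∧ Nonempty (PresentedGroup (↑rels : Set (FreeGroup (Fin 3))) ≃* Matrix.ProjectiveSpecialLinearGroup (Fin 2) F)) ∧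
    (CharP F 2 → ∃ rels : Finset (FreeGroup (Fin 3)), rels.card ≤ 5 ∧ Nonempty (PresentedGroup (↑rels : Set (FreeGroup (Fin 3))) ≃* Matrix.ProjectiveSpecialLinearGroup (Fin 2) F)) := by
  refine ⟨(prs_SL2.mono (by decide)).out, prs_SL2.quot_center.out, fun _ => ?_⟩
  exact (prs_SL2_two.map (QuotientGroup.quotientBot.symm.trans
    (QuotientGroup.quotientMulEquivOfEq center_SL2_two.symm))).out

end Cfsg.Agent.S2286
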