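import Cfsg.Statements.S2291
import Cfsg.Agent.Lib.Pres.SUf

set_option autoImplicit false
open Cfsg Cfsg.Lib.Forms Cfsg.Lib.Pres

namespace Cfsg.Agent.S2291

/-- Let F be a field with q² elements and n ≥ 3 with (n, q) ≠ (3, 2). Then the simple group PSU_n(q) (for the standard Hermitian form) has a presentation with 2 generators and at most 80 relations. -/
theorem result {F : Type*} [Field F] [Fintype F] (q n : ℕ) (hF : Fintype.card F = q ^ 2) (hn : 3 ≤ n) (h32 : ¬ (n = 3 ∧ q = 2)) :
    ∃ rels : Finset (FreeGroup (Fin 2)), rels.card ≤ 80 ∧ Nonempty (PresentedGroup (↑rels : Set (FreeGroup (Fin 2))) ≃* Cfsg.PSU n F q) := by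
  obtain ⟨σ, h⟩ := isConj_of_card hF
  obtain ⟨p, k, hp, -, hk, e⟩ := exists_prime_pow_of_card_eq_sq h.card
  have H := Agent.S2412.result ⟨p, k, hp.prime, hk, e.symm⟩ hF n hn fun a b => h32 ⟨a, b⟩
  rcases hn.eq_or_lt with rfl | hn
  · exact ((prs_two ((prs_SU_three h fun e => h32 ⟨rfl, e⟩).su h (by omega)) H).mono (by omega)).out
  · exact ((prs_two ((prs_SU hF hn).1.su h (by omega)) H).mono (by omega)).out

end Cfsg.Agent.S2291
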