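import Cfsg.Statements.S2411
import Cfsg.Agent.Lib.Pres.TwoBCD

set_option autoImplicit false
open Cfsg Cfsg.Lib.Forms Cfsg.Lib.Pres

namespace Cfsg.Agent.S2411

/-- The projective symplectic group `PSp_{2m}(q)` with `m ≥ 2` (and `q > 2` if `m = 2`) is generated by two of its elements. -/
theorem result {F : Type*} [Field F] [Fintype F] (m : ℕ) (hm : 2 ≤ m) (hF : m = 2 → 2 < Fintype.card F) :
    ∃ a b : Cfsg.PSp m F, Subgroup.closure ({a, b} : Set (Cfsg.PSp m F)) = ⊤ := by
  classical
  obtain ⟨n, rfl⟩ : ∃ n, m = n + 2 := ⟨m - 2, by omega⟩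
  refine (two_C (Lib.Linear.frameC F (n + 2)) (Lib.Linear.stdE (n + 1) True) trivial fun h => (field_cases F).resolve_right fun e => ?_).quot
    (Symp.E_eq_top (fSymp_nondeg _)).symm ((pspEquiv F _).trans (Lib.Linear.quotientCenterCongr Subgroup.topEquiv.symm))
  have : (Finset.univ : Finset F) ⊆ {0, 1} := fun t _ => by simpa using e t
  have := (Finset.card_le_card this).trans Finset.card_le_two
  have := hF (by omega)
  rw [Fintype.card] at this
  omega

end Cfsg.Agent.S2411
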