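import Cfsg.Statements.S2292
import Cfsg.Agent.S2411

set_option autoImplicit false
open Cfsg Cfsg.Lib.Forms Cfsg.Lib.Pres

namespace Cfsg.Agent.S2292

/-- Let F be a finite field with q elements and m ≥ 2 with (m, q) ≠ (2, 2). Then the simple group PSp_2m(F) has a presentation with 2 generators and at most 80 relations. -/
theorem result {F : Type*} [Field F] [Fintype F] (m : ℕ) (hm : 2 ≤ m) (h22 : ¬ (m = 2 ∧ Fintype.card F = 2)) :
    ∃ rels : Finset (FreeGroup (Fin 2)), rels.card ≤ 80 ∧ Nonempty (PresentedGroup (↑rels : Set (FreeGroup (Fin 2))) ≃* Cfsg.PSp m F) := by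
  obtain ⟨a, b, h⟩ := S2411.result (F := F) m hm fun e =>
    lt_of_le_of_ne Fintype.one_lt_card fun e' => h22 ⟨e, e'.symm⟩
  have h1 : ∃ g, Prs (PSp m F) (g + 1) 78 := by
    obtain rfl | h : m = 2 ∨ 3 ≤ m := by omega
    · exact ⟨_, prs_Sp4.sp.2.mono (by decide)⟩
    obtain ⟨n, rfl⟩ : ∃ n, m = n + 1 := ⟨m - 1, by omega⟩
    exact ⟨_, (prs_Sp (by omega) (prs_SL_big h)).sp.2.mono (by decide)⟩
  obtain ⟨g, h1⟩ := h1
  exact (h1.gens (b := ![a, b]) (by simpa [Set.pair_comm] using h)).exists_equiv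

end Cfsg.Agent.S2292
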