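import Cfsg.Statements.S2295
import Cfsg.Agent.Lib.Pres.DC

set_option autoImplicit false
open Cfsg Cfsg.Lib.Forms Cfsg.Lib.Pres

namespace Cfsg.Agent.S2295

/-- Let F be a finite field and n ≥ 4, and let Ω⁺_2n(F) be the commutator subgroup of the orthogonal group of the hyperbolic quadratic form Σ x_i y_i, with PΩ⁺_2n(F) its central quotient. Then Ω⁺_2n(F) has a presentation with 8 generators and at most 31 relations (at most 29 if n = 4 or 5), and PΩ⁺_2n(F) one with 8 generators and at most 32 relations (at most 30 if n = 4 or 5). -/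
theorem result {F : Type*} [Field F] [Fintype F] (n : ℕ) (hn : 4 ≤ n) :
    (∃ rels : Finset (FreeGroup (Fin 8)), rels.card ≤ 31 ∧ Nonempty (PresentedGroup (↑rels : Set (FreeGroup (Fin 8))) ≃* ↥(Cfsg.Omega F (Cfsg.quadFormPlus n F)))) ∧ (∃ rels : Finset (FreeGroup (Fin 8)), rels.card ≤ 32 ∧ Nonempty (PresentedGroup (↑rels : Set (FreeGroup (Fin 8))) ≃* Cfsg.POmega F (Cfsg.quadFormPlus n F))) ∧
    (n ≤ 5 → (∃ rels : Finset (FreeGroup (Fin 8)), rels.card ≤ 29 ∧ Nonempty (PresentedGroup (↑rels : Set (FreeGroup (Fin 8))) ≃* ↥(Cfsg.Omega F (Cfsg.quadFormPlus n F)))) ∧ (∃ rels : Finset (FreeGroup (Fin 8)), rels.card ≤ 30 ∧ Nonempty (PresentedGroup (↑rels : Set (FreeGroup (Fin 8))) ≃* Cfsg.POmega F (Cfsg.quadFormPlus n F)))) := by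
  obtain ⟨m, rfl⟩ : ∃ m, n = m + 2 := ⟨n - 2, by omega⟩
  have key : ∀ r, (m ≤ 3 → 29 ≤ r) → 31 ≤ r ∨ m ≤ 3 → Prs (Omega F (quadFormPlus (m + 2) F)) 8 r ∧
      Prs (POmega F (quadFormPlus (m + 2) F)) 8 (r + 1) := fun r h h' => by
    obtain rfl | rfl | e : m = 2 ∨ m = 3 ∨ 4 ≤ m := by omega
    · exact (prs_Omega le_rfl prs_SL4).imp (·.le (by decide) (by simp; omega)) (·.le (by decide) (by simp; omega))
    · exact (prs_Omega (by decide) prs_SL5).imp (·.le (by decide) (by simp; omega)) (·.le (by decide) (by simp; omega))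
    · exact (prs_Omega (by omega) (prs_SL_big (by omega))).imp (·.le (by decide) (by split_ifs <;> omega))
        (·.le (by decide) (by split_ifs <;> omega))
  have h1 := key 31 (by omega) (.inl le_rfl)
  exact ⟨h1.1.out, h1.2.out, fun h => (key 29 (by omega) (.inr (by omega))).imp Prs.out Prs.out⟩

end Cfsg.Agent.S2295
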