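import Cfsg.Statements.S2298
import Cfsg.Agent.Lib.Known.GL2Irr

set_option autoImplicit false
open Cfsg

namespace Cfsg.Agent.S2298

open Cfsg.Lib.Known


/-- Over a finite field F with q elements, every irreducible complex character of GL₂ has degree 1, q − 1, q or q + 1; and when q ≥ 3 (so that these four numbers are distinct) there are exactly q − 1 irreducible characters of degree 1, exactly q − 1 of degree q, exactly (q − 1)(q − 2)/2 of degree q + 1 and exactly q(q − 1)/2 of degree q − 1. -/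
theorem result {F : Type*} [Field F] [Fintype F] :
    (∀ χ : Matrix.GeneralLinearGroup (Fin 2) F → ℂ, Cfsg.IsIrrCharacter (Matrix.GeneralLinearGroup (Fin 2) F) χ →
      χ 1 = 1 ∨ χ 1 = (Fintype.card F : ℂ) - 1 ∨ χ 1 = (Fintype.card F : ℂ) ∨ χ 1 = (Fintype.card F : ℂ) + 1) ∧
    (3 ≤ Fintype.card F →
      Nat.card {χ : Cfsg.IrrCharacter (Matrix.GeneralLinearGroup (Fin 2) F) // (χ : Matrix.GeneralLinearGroup (Fin 2) F → ℂ) 1 = 1} = Fintype.card F - 1 ∧
      Nat.card {χ : Cfsg.IrrCharacter (Matrix.GeneralLinearGroup (Fin 2) F) // (χ : Matrix.GeneralLinearGroup (Fin 2) F → ℂ) 1 = (Fintype.card F : ℂ)} = Fintype.card F - 1 ∧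
      Nat.card {χ : Cfsg.IrrCharacter (Matrix.GeneralLinearGroup (Fin 2) F) // (χ : Matrix.GeneralLinearGroup (Fin 2) F → ℂ) 1 = (Fintype.card F : ℂ) + 1} = (Fintype.card F - 1) * (Fintype.card F - 2) / 2 ∧
      Nat.card {χ : Cfsg.IrrCharacter (Matrix.GeneralLinearGroup (Fin 2) F) // (χ : Matrix.GeneralLinearGroup (Fin 2) F → ℂ) 1 = (Fintype.card F : ℂ) - 1} = Fintype.card F * (Fintype.card F - 1) / 2) := by
  classical
  rw [← Nat.card_eq_fintype_card]
  refine ⟨fun χ hχ => ?_, fun hq => ?_⟩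
  · rcases GL2_irr_cases hχ with ⟨α, rfl⟩ | ⟨α, rfl⟩ | ⟨α, β, -, rfl⟩ | ⟨θ, -, rfl⟩
    · exact Or.inl (linG_one α)
    · exact Or.inr (Or.inr (Or.inl (StG_one α)))
    · exact Or.inr (Or.inr (Or.inr (RT_one α β)))
    · exact Or.inr (Or.inl (by rw [Pi.neg_apply, RT'_one, neg_neg]))
  have e0 : (Nat.card F : ℂ) ≠ 0 := by exact_mod_cast (show Nat.card F ≠ 0 by omega)
  have e1 : (Nat.card F : ℂ) ≠ 1 := by exact_mod_cast (show Nat.card F ≠ 1 by omega)
  have e2 : (Nat.card F : ℂ) ≠ 2 := by exact_mod_cast (show Nat.card F ≠ 2 by omega)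
  have o1 : (1 : ℂ) ≠ 0 := one_ne_zero
  have o2 : (2 : ℂ) ≠ 0 := two_ne_zero
  refine ⟨?_, ?_, ?_, ?_⟩
  · rw [card_irr_eq_card_image (fun χ => χ 1 = 1) Finset.univ linG,
      Finset.card_image_of_injective _ linG_injective, Finset.card_univ, card_Ch_units]
    refine fun χ => ⟨fun ⟨hχ, h⟩ => ?_, fun ⟨α, _, h⟩ => h ▸ ⟨isIrr_linG α, linG_one α⟩⟩
    rcases GL2_irr_cases hχ with ⟨α, rfl⟩ | ⟨α, rfl⟩ | ⟨α, β, -, rfl⟩ | ⟨θ, -, rfl⟩
    · exact ⟨α, Finset.mem_univ _, rfl⟩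
    · rw [StG_one] at h; exact absurd h e1
    · rw [RT_one] at h; exact absurd (by linear_combination h) e0
    · rw [Pi.neg_apply, RT'_one] at h; exact absurd (by linear_combination h) e2
  · rw [card_irr_eq_card_image (fun χ => χ 1 = Nat.card F) Finset.univ StG,
      Finset.card_image_of_injective _ StG_injective, Finset.card_univ, card_Ch_units]
    refine fun χ => ⟨fun ⟨hχ, h⟩ => ?_, fun ⟨α, _, h⟩ => h ▸ ⟨isIrr_StG α, StG_one α⟩⟩
    rcases GL2_irr_cases hχ with ⟨α, rfl⟩ | ⟨α, rfl⟩ | ⟨α, β, -, rfl⟩ | ⟨θ, -, rfl⟩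
    · rw [linG_one] at h; exact absurd h.symm e1
    · exact ⟨α, Finset.mem_univ _, rfl⟩
    · rw [RT_one] at h; exact absurd (by linear_combination h) o1
    · rw [Pi.neg_apply, RT'_one] at h; exact absurd (by linear_combination -h) o1
  · rw [card_irr_eq_card_image (fun χ => χ 1 = Nat.card F + 1) (Finset.univ : Finset (Ch Fˣ)).offDiag
      (fun x => RT x.1 x.2)]
    · have := two_mul_card_image (Finset.univ : Finset (Ch Fˣ)).offDiag (fun x => RT x.1 x.2)
        Prod.swap (by simp [eq_comm]) (by simp [Prod.ext_iff]; tauto)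
        (by rintro ⟨a, b⟩ _ ⟨c, d⟩ _; simp only [RT_eq_iff, Prod.swap, Prod.mk.injEq]; tauto)
      rw [Finset.offDiag_card, Finset.card_univ, card_Ch_units] at this
      have h3 : (Nat.card F - 1) * (Nat.card F - 2) =
          (Nat.card F - 1) * (Nat.card F - 1) - (Nat.card F - 1) := by
        rw [← Nat.mul_sub_one]; rfl
      omega
    refine fun χ => ⟨fun ⟨hχ, h⟩ => ?_, fun ⟨α, hα, h⟩ => h ▸
      ⟨isIrr_RT (Finset.mem_offDiag.1 hα).2.2, RT_one _ _⟩⟩
    rcases GL2_irr_cases hχ with ⟨α, rfl⟩ | ⟨α, rfl⟩ | ⟨α, β, hαβ, rfl⟩ | ⟨θ, -, rfl⟩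
    · rw [linG_one] at h; exact absurd (by linear_combination -h) e0
    · rw [StG_one] at h; exact absurd (by linear_combination -h) o1
    · exact ⟨(α, β), by simpa using hαβ, rfl⟩
    · rw [Pi.neg_apply, RT'_one] at h; exact absurd (by linear_combination -h) o2
  · rw [card_irr_eq_card_image (fun χ => χ 1 = Nat.card F - 1)
      (Finset.univ.filter fun θ : Ch (K2 F)ˣ => θ ^ Nat.card F ≠ θ) (fun θ => -RT' θ)]
    · have := two_mul_card_image (Finset.univ.filter fun θ : Ch (K2 F)ˣ => θ ^ Nat.card F ≠ θ)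
        (fun θ => -RT' θ) (fun θ => θ ^ Nat.card F)
        (fun θ hθ => by
          simp only [Finset.mem_filter, Finset.mem_univ, true_and, Ch_bar_bar] at hθ ⊢
          exact hθ.symm)
        (fun θ hθ => (Finset.mem_filter.1 hθ).2)
        (fun θ _ θ' _ => by rw [neg_inj, eq_comm, RT'_eq_iff])
      rw [card_filter_bar_ne] at this
      omega
    refine fun χ => ⟨fun ⟨hχ, h⟩ => ?_, fun ⟨α, hα, h⟩ => h ▸
      ⟨isIrr_neg_RT' (Finset.mem_filter.1 hα).2, by rw [Pi.neg_apply, RT'_one, neg_neg]⟩⟩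
    rcases GL2_irr_cases hχ with ⟨α, rfl⟩ | ⟨α, rfl⟩ | ⟨α, β, hαβ, rfl⟩ | ⟨θ, hθ, rfl⟩
    · rw [linG_one] at h; exact absurd (by linear_combination -h) e2
    · rw [StG_one] at h; exact absurd (by linear_combination h) o1
    · rw [RT_one] at h; exact absurd (by linear_combination h) o2
    · exact ⟨θ, Finset.mem_filter.2 ⟨Finset.mem_univ _, hθ⟩, rfl⟩

end Cfsg.Agent.S2298
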