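import Cfsg.Statements.S2299
import Cfsg.Agent.Lib.Known.SL2Irr2

set_option autoImplicit false
open Cfsg

namespace Cfsg.Agent.S2299

open Cfsg.Lib.Known


/-- Over a finite field F with q elements, q odd, every irreducible complex character of SL₂ has degree 1, q, q + 1, q − 1, (q + 1)/2 or (q − 1)/2; and when q ≥ 5 (so that these six numbers are distinct) there are exactly one irreducible character of degree 1, one of degree q, (q − 3)/2 of degree q + 1, (q − 1)/2 of degree q − 1, two of degree (q + 1)/2 and two of degree (q − 1)/2. -/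
theorem result {F : Type*} [Field F] [Fintype F] (hodd : Odd (Fintype.card F)) :
    (∀ χ : Matrix.SpecialLinearGroup (Fin 2) F → ℂ, Cfsg.IsIrrCharacter (Matrix.SpecialLinearGroup (Fin 2) F) χ →
      χ 1 = 1 ∨ χ 1 = (Fintype.card F : ℂ) ∨ χ 1 = (Fintype.card F : ℂ) + 1 ∨ χ 1 = (Fintype.card F : ℂ) - 1 ∨
        χ 1 = (((Fintype.card F + 1) / 2 : ℕ) : ℂ) ∨ χ 1 = (((Fintype.card F - 1) / 2 : ℕ) : ℂ)) ∧
    (5 ≤ Fintype.card F →
      Nat.card {χ : Cfsg.IrrCharacter (Matrix.SpecialLinearGroup (Fin 2) F) // (χ : Matrix.SpecialLinearGroup (Fin 2) F → ℂ) 1 = 1} = 1 ∧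
      Nat.card {χ : Cfsg.IrrCharacter (Matrix.SpecialLinearGroup (Fin 2) F) // (χ : Matrix.SpecialLinearGroup (Fin 2) F → ℂ) 1 = (Fintype.card F : ℂ)} = 1 ∧
      Nat.card {χ : Cfsg.IrrCharacter (Matrix.SpecialLinearGroup (Fin 2) F) // (χ : Matrix.SpecialLinearGroup (Fin 2) F → ℂ) 1 = (Fintype.card F : ℂ) + 1} = (Fintype.card F - 3) / 2 ∧
      Nat.card {χ : Cfsg.IrrCharacter (Matrix.SpecialLinearGroup (Fin 2) F) // (χ : Matrix.SpecialLinearGroup (Fin 2) F → ℂ) 1 = (Fintype.card F : ℂ) - 1} = (Fintype.card F - 1) / 2 ∧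
      Nat.card {χ : Cfsg.IrrCharacter (Matrix.SpecialLinearGroup (Fin 2) F) // (χ : Matrix.SpecialLinearGroup (Fin 2) F → ℂ) 1 = (((Fintype.card F + 1) / 2 : ℕ) : ℂ)} = 2 ∧
      Nat.card {χ : Cfsg.IrrCharacter (Matrix.SpecialLinearGroup (Fin 2) F) // (χ : Matrix.SpecialLinearGroup (Fin 2) F → ℂ) 1 = (((Fintype.card F - 1) / 2 : ℕ) : ℂ)} = 2) := by
  classical
  rw [← Nat.card_eq_fintype_card] at hodd ⊢
  refine ⟨fun χ hχ => ?_, fun hq => ?_⟩
  · rcases SL2_irr_cases hχ with rfl | rfl | ⟨α, h, rfl⟩ | ⟨θ, h, rfl⟩ | ⟨α, χ', h2, h1, h⟩ |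
      ⟨θ, χ', h2, h1, h⟩
    · exact Or.inl rfl
    · exact Or.inr (Or.inl StS_apply_one)
    · exact Or.inr (Or.inr (Or.inl (RS_apply_one α)))
    · exact Or.inr (Or.inr (Or.inr (Or.inl (by rw [Pi.neg_apply, RS'_apply_one, neg_neg]))))
    · exact Or.inr (Or.inr (Or.inr (Or.inr (Or.inl h.RS_degree))))
    · exact Or.inr (Or.inr (Or.inr (Or.inr (Or.inr h.RS'_degree))))
  have h := SL2_irr_degree (F := F) (by omega)
  have h3 := card_irr_RS (fun χ => χ 1 = Nat.card F + 1) fun χ => (h χ).2.2.1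
  have h4 := card_irr_RS' (fun χ => χ 1 = Nat.card F - 1) fun χ => (h χ).2.2.2.1
  rw [Nat.gcd_eq_right (Nat.Odd.sub_odd hodd odd_one).two_dvd] at h3
  rw [Nat.gcd_eq_right hodd.add_one.two_dvd] at h4
  refine ⟨card_irr_eq_one (fun χ => χ 1 = 1) _ fun χ => (h χ).1,
    card_irr_eq_one (fun χ => χ 1 = Nat.card F) _ fun χ => (h χ).2.1, Nat.eq_div_of_mul_eq_right two_ne_zero (h3.trans (by omega)),
    Nat.eq_div_of_mul_eq_right two_ne_zero (h4.trans (by omega)),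
    card_irr_half_RS hodd (fun χ => χ 1 = _) fun χ => ((h χ).2.2.2.2 hodd).1,
    card_irr_half_RS' hodd (fun χ => χ 1 = _) fun χ => ((h χ).2.2.2.2 hodd).2⟩

end Cfsg.Agent.S2299
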