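import Cfsg.Statements.S2300
import Cfsg.Agent.Lib.Known.SL2Irr2

set_option autoImplicit false
open Cfsg

namespace Cfsg.Agent.S2300

open Cfsg.Lib.Known


/-- Over a finite field F with q elements, q even, every irreducible complex character of SL₂ has degree 1, q − 1, q or q + 1; and when q ≥ 4 (so that these four numbers are distinct) there are exactly one irreducible character of degree 1, one of degree q, (q − 2)/2 of degree q + 1 and q/2 of degree q − 1. -/
theorem result {F : Type*} [Field F] [Fintype F] [CharP F 2] :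
    (∀ χ : Matrix.SpecialLinearGroup (Fin 2) F → ℂ, Cfsg.IsIrrCharacter (Matrix.SpecialLinearGroup (Fin 2) F) χ →
      χ 1 = 1 ∨ χ 1 = (Fintype.card F : ℂ) - 1 ∨ χ 1 = (Fintype.card F : ℂ) ∨ χ 1 = (Fintype.card F : ℂ) + 1) ∧
    (4 ≤ Fintype.card F →
      Nat.card {χ : Cfsg.IrrCharacter (Matrix.SpecialLinearGroup (Fin 2) F) // (χ : Matrix.SpecialLinearGroup (Fin 2) F → ℂ) 1 = 1} = 1 ∧
      Nat.card {χ : Cfsg.IrrCharacter (Matrix.SpecialLinearGroup (Fin 2) F) // (χ : Matrix.SpecialLinearGroup (Fin 2) F → ℂ) 1 = (Fintype.card F : ℂ)} = 1 ∧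
      Nat.card {χ : Cfsg.IrrCharacter (Matrix.SpecialLinearGroup (Fin 2) F) // (χ : Matrix.SpecialLinearGroup (Fin 2) F → ℂ) 1 = (Fintype.card F : ℂ) + 1} = (Fintype.card F - 2) / 2 ∧
      Nat.card {χ : Cfsg.IrrCharacter (Matrix.SpecialLinearGroup (Fin 2) F) // (χ : Matrix.SpecialLinearGroup (Fin 2) F → ℂ) 1 = (Fintype.card F : ℂ) - 1} = Fintype.card F / 2) := by
  classical
  rw [← Nat.card_eq_fintype_card]
  have he : Even (Nat.card F) := even_card_of_two_eq_zero (CharP.ofNat_eq_zero F 2)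
  refine ⟨fun χ hχ => ?_, fun hq => ?_⟩
  · rcases SL2_irr_cases hχ with rfl | rfl | ⟨α, h, rfl⟩ | ⟨θ, h, rfl⟩ | ⟨α, χ', h2, h1, h⟩ |
      ⟨θ, χ', h2, h1, h⟩
    · exact Or.inl rfl
    · exact Or.inr (Or.inr (Or.inl StS_apply_one))
    · exact Or.inr (Or.inr (Or.inr (RS_apply_one α)))
    · exact Or.inr (Or.inl (by rw [Pi.neg_apply, RS'_apply_one, neg_neg]))
    · exact absurd (CharP.ofNat_eq_zero F 2) h.two_ne_zero
    · exact absurd (CharP.ofNat_eq_zero F 2) h.two_ne_zero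
  have h := SL2_irr_degree (F := F) hq
  have h3 := card_irr_RS (fun χ => χ 1 = Nat.card F + 1) fun χ => (h χ).2.2.1
  have h4 := card_irr_RS' (fun χ => χ 1 = Nat.card F - 1) fun χ => (h χ).2.2.2.1
  rw [Nat.coprime_two_right.2 (Nat.Even.sub_odd (by omega) he odd_one)] at h3
  rw [Nat.coprime_two_right.2 he.add_one] at h4
  exact ⟨card_irr_eq_one (fun χ => χ 1 = 1) _ fun χ => (h χ).1,
    card_irr_eq_one (fun χ => χ 1 = Nat.card F) _ fun χ => (h χ).2.1, 
    Nat.eq_div_of_mul_eq_right two_ne_zero (h3.trans (by omega)),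
    Nat.eq_div_of_mul_eq_right two_ne_zero (h4.trans (by omega))⟩

end Cfsg.Agent.S2300
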