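import Cfsg.Statements.S2301
import Cfsg.Agent.Lib.Known.Unipotent

set_option autoImplicit false
open Cfsg

namespace Cfsg.Agent.S2301

open Cfsg.Lib.Known


/-- Over a finite field with q elements of odd characteristic p, the elements of order p of SL₂ (the non-identity unipotent elements) fall into exactly two conjugacy classes, each of size (q² − 1)/2; two upper unitriangular matrices with non-zero off-diagonal entries b and b′ are conjugate exactly when bb′ is a square. -/
theorem result {F : Type*} [Field F] [Fintype F] (p : ℕ) [Fact p.Prime] [CharP F p] (hp : p ≠ 2) :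
    Nat.card {C : ConjClasses (Matrix.SpecialLinearGroup (Fin 2) F) // ∃ g : Matrix.SpecialLinearGroup (Fin 2) F, orderOf g = p ∧ ConjClasses.mk g = C} = 2 ∧
    (∀ g : Matrix.SpecialLinearGroup (Fin 2) F, orderOf g = p → Nat.card (ConjClasses.mk g).carrier = (Fintype.card F ^ 2 - 1) / 2) ∧
    ∀ g h : Matrix.SpecialLinearGroup (Fin 2) F, (g : Matrix (Fin 2) (Fin 2) F) 0 0 = 1 → (g : Matrix (Fin 2) (Fin 2) F) 1 1 = 1 → (g : Matrix (Fin 2) (Fin 2) F) 1 0 = 0 → (g : Matrix (Fin 2) (Fin 2) F) 0 1 ≠ 0 →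
      (h : Matrix (Fin 2) (Fin 2) F) 0 0 = 1 → (h : Matrix (Fin 2) (Fin 2) F) 1 1 = 1 → (h : Matrix (Fin 2) (Fin 2) F) 1 0 = 0 → (h : Matrix (Fin 2) (Fin 2) F) 0 1 ≠ 0 →
      (IsConj g h ↔ IsSquare ((g : Matrix (Fin 2) (Fin 2) F) 0 1 * (h : Matrix (Fin 2) (Fin 2) F) 0 1)) := by
  have h2 : (2 : F) ≠ 0 := by
    intro h
    have := (CharP.cast_eq_zero_iff F p 2).1 (by exact_mod_cast h)
    exact hp ((Nat.prime_dvd_prime_iff_eq Fact.out Nat.prime_two).1 this)
  have hc : ringChar F ≠ 2 := by rw [ringChar.eq F p]; exact hp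
  obtain ⟨e, he⟩ := FiniteField.exists_nonsquare hc
  have he0 : e ≠ 0 := fun h => he (h ▸ IsSquare.zero)
  refine ⟨?_, ?_, ?_⟩
  · rw [card_classes_of_reps (X := Bool) _ (fun o => triS 1 (if o then 1 else e))]
    · simp
    · rintro (_ | _)
      · exact orderOf_triS_one p he0
      · exact orderOf_triS_one p one_ne_zero
    · intro g hg
      obtain ⟨b, hb, hgb⟩ := (SL2_orderOf_eq_char_iff p).1 hg
      by_cases hs : IsSquare b
      · exact ⟨true, hgb.trans ((isConj_triS_par_iff (one_pow 2) hb one_ne_zero).2 (by simpa))⟩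
      · refine ⟨false, hgb.trans ((isConj_triS_par_iff (one_pow 2) hb he0).2 ?_)⟩
        classical
        have h1 := (quadraticChar_neg_one_iff_not_isSquare (F := F)).2 hs
        have h3 := (quadraticChar_neg_one_iff_not_isSquare (F := F)).2 he
        refine (quadraticChar_one_iff_isSquare (mul_ne_zero hb he0)).1 ?_
        rw [map_mul, h1, h3]; norm_num
    · rintro (_ | _) (_ | _) h
      · rfl
      · exact absurd (by simpa using (isConj_triS_par_iff (one_pow 2) he0 one_ne_zero).1 h) he
      · exact absurd (by simpa using (isConj_triS_par_iff (one_pow 2) one_ne_zero he0).1 h) he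
      · rfl
  · intro g hg
    obtain ⟨b, hb, hgb⟩ := (SL2_orderOf_eq_char_iff p).1 hg
    have h1 := card_class_mul_card_centralizer g
    rw [card_centralizer_eq_of_isConj hgb, card_centralizer_triS_par (one_pow 2) hb,
      card_sq_eq_one h2, Cfsg.Lib.Linear.card_SL_two, Nat.card_eq_fintype_card (α := F)] at h1
    have hq : 0 < Fintype.card F := Fintype.card_pos
    have h3 : Fintype.card F ^ 2 - 1 = (Fintype.card F - 1) * (Fintype.card F + 1) := by
      rw [mul_comm, ← Nat.sq_sub_sq, one_pow]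
    rw [h3]
    refine (Nat.div_eq_of_eq_mul_left two_pos ?_).symm
    refine Nat.eq_of_mul_eq_mul_right hq ?_
    linarith
  · intro g h g0 g1 g2 g3 h0 h1 h2 h3
    obtain ⟨a, ha, -, hg⟩ := eq_triS_of_upper g2
    obtain ⟨b, hb, -, hh⟩ := eq_triS_of_upper h2
    have ha1 : a = 1 := Units.ext (by rw [ha, g0]; rfl)
    have hb1 : b = 1 := Units.ext (by rw [hb, h0]; rfl)
    subst ha1 hb1
    have := isConj_triS_par_iff (one_pow 2) g3 h3
    rwa [← hg, ← hh] at this

end Cfsg.Agent.S2301
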