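import Cfsg.Statements.S2302
import Cfsg.Agent.Lib.Known.Unipotent

set_option autoImplicit false
open Cfsg

namespace Cfsg.Agent.S2302

open Cfsg.Lib.Known


/-- Over a finite field with q elements of characteristic 2, the involutions of SL₂ (the non-identity unipotent elements) form a single conjugacy class, of size q² − 1. -/
theorem result {F : Type*} [Field F] [Fintype F] [CharP F 2] (g h : Matrix.SpecialLinearGroup (Fin 2) F) (hg : orderOf g = 2) (hh : orderOf h = 2) :
    IsConj g h ∧ Nat.card (ConjClasses.mk g).carrier = Fintype.card F ^ 2 - 1 := by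
  have h2 : (2 : F) = 0 := CharP.ofNat_eq_zero F 2
  obtain ⟨b, hb, hgb⟩ := (SL2_orderOf_eq_char_iff 2).1 hg
  obtain ⟨c, hc, hgc⟩ := (SL2_orderOf_eq_char_iff 2).1 hh
  refine ⟨hgb.trans (((isConj_triS_par_iff (one_pow 2) hb hc).2
    (isSquare_of_two_eq_zero h2 _)).trans hgc.symm), ?_⟩
  have h1 := card_class_mul_card_centralizer g
  rw [card_centralizer_eq_of_isConj hgb, card_centralizer_triS_par (one_pow 2) hb,
    card_sq_eq_one_of_two h2, Cfsg.Lib.Linear.card_SL_two, Nat.card_eq_fintype_card (α := F)] at h1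
  have hq : 0 < Fintype.card F := Fintype.card_pos
  have h3 : Fintype.card F ^ 2 - 1 = (Fintype.card F - 1) * (Fintype.card F + 1) := by
    rw [mul_comm, ← Nat.sq_sub_sq, one_pow]
  rw [h3]
  refine Nat.eq_of_mul_eq_mul_right hq ?_
  linarith

end Cfsg.Agent.S2302
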