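import Cfsg.Statements.S2308
import Cfsg.Agent.Lib.Known.GL2Irr

set_option autoImplicit false
open Cfsg

namespace Cfsg.Agent.S2308

open Cfsg.Lib.Known


/-- Values of the permutation character of GL₂ over a finite field F with q elements on the cosets of its upper triangular subgroup (equivalently, the number of lines of F² that an element maps to themselves): q + 1 at a scalar matrix, 2 at a diagonal matrix with two different diagonal entries, 0 at an element with no eigenvector in F², and 1 at an upper triangular matrix with equal diagonal entries and non-zero upper right entry. -/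
theorem result {F : Type*} [Field F] [Fintype F] (g : Matrix.GeneralLinearGroup (Fin 2) F) :
    ((∃ a : F, (g : Matrix (Fin 2) (Fin 2) F) = a • (1 : Matrix (Fin 2) (Fin 2) F)) → Cfsg.fixedPointCharacter (Cfsg.upperTriangularGL 2 F) g = Fintype.card F + 1) ∧
    ((g : Matrix (Fin 2) (Fin 2) F) 0 1 = 0 → (g : Matrix (Fin 2) (Fin 2) F) 1 0 = 0 → (g : Matrix (Fin 2) (Fin 2) F) 0 0 ≠ (g : Matrix (Fin 2) (Fin 2) F) 1 1 →
      Cfsg.fixedPointCharacter (Cfsg.upperTriangularGL 2 F) g = 2) ∧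
    ((∀ (c : F) (v : Fin 2 → F), v ≠ 0 → (g : Matrix (Fin 2) (Fin 2) F).mulVec v ≠ c • v) → Cfsg.fixedPointCharacter (Cfsg.upperTriangularGL 2 F) g = 0) ∧
    ((g : Matrix (Fin 2) (Fin 2) F) 1 0 = 0 → (g : Matrix (Fin 2) (Fin 2) F) 0 0 = (g : Matrix (Fin 2) (Fin 2) F) 1 1 → (g : Matrix (Fin 2) (Fin 2) F) 0 1 ≠ 0 →
      Cfsg.fixedPointCharacter (Cfsg.upperTriangularGL 2 F) g = 1) := by
  classical
  have h : fixedPointCharacter (upperTriangularGL 2 F) g = RT 1 1 g := by
    rw [fixedPointCharacter, ← Cfsg.Lib.Char.indFun_one_eq_card_fixedBy, RT, psM]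
    congr 1
    funext b
    obtain ⟨a, d, ha, hd, -⟩ := eq_tri_of_upper (mem_upper_two.1 b.2)
    rw [← ha, ← hd, toCh_symm_apply, toCh_symm_apply, Ch.one_apply, Ch.one_apply, mul_one]
  rw [h]
  refine ⟨fun h1 => ?_, fun h1 h2 h3 => ?_, fun h1 => RT_noEig _ _ h1, fun h1 h2 h3 => ?_⟩
  · obtain ⟨a, rfl⟩ := eq_tri_of_isScal (isScal_iff.2 h1)
    rw [RT_scal]; simp [Ch.one_apply]
  · obtain ⟨a, d, ha, hd, hg⟩ := eq_tri_of_upper h2
    rw [hg, h1, RT_split _ _ (fun h => h3 (by rw [← ha, ← hd, h]))]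
    simp only [Ch.one_apply]; norm_num
  · obtain ⟨a, d, ha, hd, hg⟩ := eq_tri_of_upper h1
    obtain rfl : a = d := Units.ext (by rw [ha, hd, h2])
    rw [hg, RT_par _ _ _ h3]; simp [Ch.one_apply]

end Cfsg.Agent.S2308
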