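import Cfsg.Statements.S2309
import Cfsg.Agent.Lib.Known.GL2Irr

set_option autoImplicit false
open Cfsg

namespace Cfsg.Agent.S2309

open Cfsg.Lib.Known


/-- Over a finite field F with q elements: every irreducible complex character of GL₂ of degree q − 1 vanishes at every diagonal matrix with two distinct entries, and every irreducible complex character of degree q + 1 vanishes at every element with no eigenvector in F². -/
theorem result {F : Type*} [Field F] [Fintype F] (χ : Matrix.GeneralLinearGroup (Fin 2) F → ℂ) (hχ : Cfsg.IsIrrCharacter (Matrix.GeneralLinearGroup (Fin 2) F) χ) (g : Matrix.GeneralLinearGroup (Fin 2) F) :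
    (χ 1 = (Fintype.card F : ℂ) - 1 → (g : Matrix (Fin 2) (Fin 2) F) 0 1 = 0 → (g : Matrix (Fin 2) (Fin 2) F) 1 0 = 0 → (g : Matrix (Fin 2) (Fin 2) F) 0 0 ≠ (g : Matrix (Fin 2) (Fin 2) F) 1 1 → χ g = 0) ∧
    (χ 1 = (Fintype.card F : ℂ) + 1 → (∀ (c : F) (v : Fin 2 → F), v ≠ 0 → (g : Matrix (Fin 2) (Fin 2) F).mulVec v ≠ c • v) → χ g = 0) := by
  classical
  rw [← Nat.card_eq_fintype_card]
  have hq : 2 ≤ Nat.card F := Finite.one_lt_card
  refine ⟨fun h h1 h2 h3 => ?_, fun h h1 => ?_⟩
  · obtain ⟨a, d, ha, hd, hg⟩ := eq_tri_of_upper h2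
    have had : a ≠ d := fun h => h3 (by rw [← ha, ← hd, h])
    rw [hg, h1]
    rcases GL2_irr_cases hχ with ⟨α, rfl⟩ | ⟨α, rfl⟩ | ⟨α, β, -, rfl⟩ | ⟨θ, -, rfl⟩
    · rw [linG_one] at h
      have h4 : Nat.card F = 2 := by exact_mod_cast (show (Nat.card F : ℂ) = 2 by linear_combination -h)
      have : Subsingleton Fˣ := Finite.card_le_one_iff_subsingleton.1 (by rw [Nat.card_units, h4])
      exact absurd (Subsingleton.elim a d) had
    · rw [StG_one] at h; exact absurd (show (1 : ℂ) = 0 by linear_combination h) one_ne_zero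
    · rw [RT_one] at h; exact absurd (show (2 : ℂ) = 0 by linear_combination h) two_ne_zero
    · rw [Pi.neg_apply, RT'_split _ had, neg_zero]
  · rcases GL2_irr_cases hχ with ⟨α, rfl⟩ | ⟨α, rfl⟩ | ⟨α, β, -, rfl⟩ | ⟨θ, -, rfl⟩
    · rw [linG_one] at h
      have h4 : Nat.card F = 0 := by exact_mod_cast (show (Nat.card F : ℂ) = 0 by linear_combination -h)
      omega
    · rw [StG_one] at h; exact absurd (show (1 : ℂ) = 0 by linear_combination -h) one_ne_zero
    · exact RT_noEig _ _ h1
    · rw [Pi.neg_apply, RT'_one] at h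
      exact absurd (show (2 : ℂ) = 0 by linear_combination -h) two_ne_zero

end Cfsg.Agent.S2309
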