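import Cfsg.Statements.S2310
import Cfsg.Agent.Lib.Known.GL2Irr

set_option autoImplicit false
open Cfsg

namespace Cfsg.Agent.S2310

open Cfsg.Lib.Known


/-- Over a finite field F with q ≥ 3 elements, let u be the upper unitriangular matrix of GL₂ with off-diagonal entry 1. An irreducible complex character χ of GL₂ takes at u the value 1 if χ has degree 1 or q + 1, the value −1 if χ has degree q − 1, and the value 0 if χ has degree q. -/
theorem result {F : Type*} [Field F] [Fintype F] (hq : 3 ≤ Fintype.card F) (χ : Matrix.GeneralLinearGroup (Fin 2) F → ℂ) (hχ : Cfsg.IsIrrCharacter (Matrix.GeneralLinearGroup (Fin 2) F) χ)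
    (u : Matrix.GeneralLinearGroup (Fin 2) F) (hu : (u : Matrix (Fin 2) (Fin 2) F) = !![1, 1; 0, 1]) :
    (χ 1 = 1 → χ u = 1) ∧ (χ 1 = (Fintype.card F : ℂ) + 1 → χ u = 1) ∧
    (χ 1 = (Fintype.card F : ℂ) - 1 → χ u = -1) ∧ (χ 1 = (Fintype.card F : ℂ) → χ u = 0) := by
  classical
  rw [← Nat.card_eq_fintype_card] at hq ⊢
  obtain rfl : u = tri 1 1 1 := Units.ext hu
  have e0 : (Nat.card F : ℂ) ≠ 0 := by exact_mod_cast (show Nat.card F ≠ 0 by omega)
  have e1 : (Nat.card F : ℂ) ≠ 1 := by exact_mod_cast (show Nat.card F ≠ 1 by omega)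
  have e2 : (Nat.card F : ℂ) ≠ 2 := by exact_mod_cast (show Nat.card F ≠ 2 by omega)
  rcases GL2_irr_cases hχ with ⟨α, rfl⟩ | ⟨α, rfl⟩ | ⟨α, β, -, rfl⟩ | ⟨θ, -, rfl⟩
  · rw [linG_one, linG_tri, Ch.map_one, mul_one]
    exact ⟨fun _ => rfl, fun _ => rfl, fun h => absurd (by linear_combination -h) e2,
      fun h => absurd h.symm e1⟩
  · rw [StG_one, StG_par _ _ one_ne_zero]
    exact ⟨fun h => absurd h e1, fun h => by simp at h, fun h => by linear_combination h,
      fun _ => rfl⟩
  · rw [RT_one, RT_par _ _ _ one_ne_zero, Ch.map_one, Ch.map_one, mul_one]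
    exact ⟨fun _ => rfl, fun _ => rfl, fun h => by linear_combination h, fun h => by simp at h⟩
  · rw [Pi.neg_apply, Pi.neg_apply, RT'_one, RT'_par _ _ one_ne_zero, map_one, Ch.map_one]
    exact ⟨fun h => absurd (by linear_combination h) e2, fun h => by linear_combination h,
      fun _ => rfl, fun h => by linear_combination h⟩

end Cfsg.Agent.S2310
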