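import Cfsg.Statements.S2315
import Cfsg.Agent.Lib.Stein.SL

set_option autoImplicit false
open Cfsg

namespace Cfsg.Agent.S2315
open Cfsg.Lib.Stein Cfsg.Lib.Linear Matrix

/-- Steinberg's count of unipotent elements for the general linear group: over a finite field with q elements of characteristic p, the number of elements of GL_n of p-power order (the unipotent matrices) is q^(n(n−1)). -/
theorem result {F : Type*} [Field F] [Fintype F] (p : ℕ) [Fact p.Prime] [CharP F p] (n : ℕ) :
    Nat.card {g : Matrix.GeneralLinearGroup (Fin n) F // ∃ k : ℕ, orderOf g = p ^ k} = Fintype.card F ^ (n * (n - 1)) := by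
  have e : Nat.card {g : SpecialLinearGroup (Fin n) F // ∃ k : ℕ, orderOf g = p ^ k} =
      Nat.card {g : GL (Fin n) F // ∃ k : ℕ, orderOf g = p ^ k} := by
    refine Nat.card_eq_of_bijective (fun g => ⟨SpecialLinearGroup.toGL g.1, by
      rw [orderOf_injective _ SpecialLinearGroup.toGL_injective]; exact g.2⟩)
      ⟨fun a b e => Subtype.ext (SpecialLinearGroup.toGL_injective (congrArg Subtype.val e)), fun ⟨g, k, hk⟩ => ?_⟩
    have h1 : (g : Matrix (Fin n) (Fin n) F).det = 1 := by
      have : (g : Matrix (Fin n) (Fin n) F).det ^ p ^ k = 1 := by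
        rw [← det_pow, ← Units.val_pow_eq_pow_val, ← hk, pow_orderOf_eq_one, Units.val_one, det_one]
      rwa [← sub_eq_zero, ← one_pow (p ^ k), ← sub_pow_char_pow, pow_eq_zero_iff (pow_pos (Fact.out : p.Prime).pos k).ne',
        sub_eq_zero] at this
    have h2 : SpecialLinearGroup.toGL (⟨g, h1⟩ : SpecialLinearGroup (Fin n) F) = g := Units.ext rfl
    exact ⟨⟨⟨g, h1⟩, k, (orderOf_injective _ SpecialLinearGroup.toGL_injective _).symm.trans (h2.symm ▸ hk)⟩, Subtype.ext h2⟩
  rw [← e]
  by_cases hn : 2 ≤ n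
  · have : NeZero n := ⟨by omega⟩
    rw [(hasGood_SL p hn).hasSplit.card_pe, pow_factorization_SL, ← pow_mul, Nat.card_eq_fintype_card,
      Nat.div_mul_cancel (Nat.even_mul_pred_self n).two_dvd]
  have : Subsingleton (Fin n) := by rw [← Fintype.card_le_one_iff_subsingleton]; simp; omega
  rw [show n * (n - 1) = 0 by rcases n with _ | _ | n <;> simp at hn ⊢, pow_zero, Nat.card_eq_one_iff_exists]
  exact ⟨⟨1, 0, by simp⟩, fun _ => Subsingleton.elim _ _⟩

end Cfsg.Agent.S2315
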