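import Cfsg.Statements.S2316
import Cfsg.Agent.Lib.Stein.Classical
import Cfsg.Agent.Lib.Stein.SL

set_option autoImplicit false
open Cfsg

namespace Cfsg.Agent.S2316
open Cfsg.Lib.Stein Cfsg.Lib.Forms

/-- Steinberg's count of unipotent elements for the symplectic group: over a finite field with q elements of characteristic p, the number of elements of Sp_{2m} of p-power order is q^(2m²). -/
theorem result {F : Type*} [Field F] [Fintype F] (p : ℕ) [Fact p.Prime] [CharP F p] (m : ℕ) :
    Nat.card {g : ↥(Matrix.symplecticGroup (Fin m) F) // ∃ k : ℕ, orderOf g = p ^ k} = Fintype.card F ^ (2 * m ^ 2) := by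
  obtain ⟨R, h, -⟩ := exists_cl_symp (p := p) (fSymp_nondeg (F := F) m) (finrank_plus m)
  have := (fSymp F m).finite_isom
  have := Finite.of_equiv _ (spEquiv F m).symm.toEquiv
  rw [((h.hasSplit.equiv Subgroup.topEquiv).equiv (spEquiv F m).symm).card_pe, pow_factorization_eq p (card_symplecticGroup m)
    (not_dvd_prod p fun i _ => not_dvd_pow_sub_one p (by omega)), ← pow_mul, Nat.card_eq_fintype_card, mul_comm]

end Cfsg.Agent.S2316
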