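import Cfsg.Statements.S2319
import Cfsg.Agent.Lib.Stein.Deform
import Cfsg.Agent.Lib.Stein.Fam
import Cfsg.Agent.S1039

set_option autoImplicit false
open Cfsg

namespace Cfsg.Agent.S2319
open Cfsg.Lib.Chev Cfsg.Lib.Stein Cfsg.Lib.Twist Cfsg.Lib.BN Subgroup

theorem relIndex_eq {G : Type*} [Group G] [Finite G] {P : BNPair G} {U : Subgroup G} {p : ℕ} (h : Split p P U) (s : P.S) :
    (P.B.comap (MulAut.conj (s : G)⁻¹).toMonoidHom).relIndex P.B = qq P U s := by
  refine (Nat.card_eq_of_bijective _ ⟨(quotientSubgroupOfEmbeddingOfLE _ h.le).injective, fun c => ?_⟩).symm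
  obtain ⟨⟨b, hb⟩, rfl⟩ := QuotientGroup.mk_surjective c
  obtain ⟨u, hu, t, ht, ht', rfl⟩ := h.fac' hb
  exact ⟨(⟨u, hu⟩ : U), QuotientGroup.eq.2 (mem_subgroupOf.2 (by simpa using mem_Bm.1 (mem_Bm_of_N ht ht') _ (P.subset s.2)))⟩

/-- In a Chevalley group of type G₂, B₂, D₄, F₄, E₆, E₇ or E₈ over a finite field, the number of distinct irreducible constituents of the permutation character on the cosets of B = UH equals the number of conjugacy classes (equivalently, of irreducible characters) of the Weyl group, the Coxeter group of the type with nodes numbered as the fundamental roots. -/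
theorem result {F : Type*} [Field F] [Fintype F]
    (dw : Cfsg.Lie.ChevalleyDatum × (Σ n : ℕ, CoxeterMatrix (Fin n)))
    (hdw : dw ∈ [(Cfsg.Lie.chevG2, ⟨2, CoxeterMatrix.G₂⟩), (Cfsg.Lie.chevB2, ⟨2, CoxeterMatrix.B 2⟩), (Cfsg.Lie.chevD4, ⟨4, Cfsg.Lie.coxeterD4⟩), (Cfsg.Lie.chevF4, ⟨4, CoxeterMatrix.F₄⟩),
      (Cfsg.Lie.chevE6, ⟨6, CoxeterMatrix.E₆⟩), (Cfsg.Lie.chevE7, ⟨7, CoxeterMatrix.E₇⟩), (Cfsg.Lie.chevE8, ⟨8, CoxeterMatrix.E₈⟩)]) :
    Nat.card {χ : Cfsg.IrrCharacter ↥(dw.1.group F) //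
      ∃ φ : ↥(dw.1.group F) → ℂ, Cfsg.IsCharacter ↥(dw.1.group F) φ ∧
        Cfsg.fixedPointCharacter ((dw.1.borelSubgroup F).subgroupOf (dw.1.group F)) = (χ : ↥(dw.1.group F) → ℂ) + φ} =
      Nat.card (ConjClasses dw.2.2.Group) := by
  obtain ⟨φ, h1, h2, -⟩ := S1039.result (F := F) dw hdw
  have hD : dw.1 ∈ [Lie.chevG2, Lie.chevB2, Lie.chevD4, Lie.chevF4, Lie.chevE6, Lie.chevE7, Lie.chevE8] := List.mem_map_of_mem hdw
  obtain ⟨R, η, hc, hm⟩ := good_of_mem hD
  obtain ⟨p, _⟩ := CharP.exists F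
  have := Fact.mk (CharP.char_is_prime F p)
  have : Nonempty (Fin dw.1.rank) := ⟨⟨0, by have := hc.two_le_rank; omega⟩⟩
  have h3 := triv_grp (hc.gst hm) (hc.gsep hm) (hc.ggen hm) (hc.gopp hm (F := F)) (ι := MonoidHom.id _) Function.surjective_id
  obtain ⟨P, n, h⟩ := h3.exists_lab Function.injective_id (hc.conn hD) p
  have := Fintype.ofFinite P.B
  have hB : P.B = _ := h.B_eq.trans ((comap_id _).trans (hc.gsys_B hm))
  have hN : P.N = _ := h.N_eq.trans ((comap_id _).trans (hc.gsys_N hm))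
  rw [← hB, card_constituents (r := √(Nat.card F)) (by simp [Fintype.card_pos]) (h.surj.forall.2 fun i => by
    rw [relIndex_eq h.pre.toSplit, h.qq_eq Function.injective_id h3, triv_card, Real.sq_sqrt (by simp)])]
  let ψ : P.N →* dw.1.monomialSubgroup F := ((dw.1.group F).subtype.comp P.N.subtype).codRestrict _ fun g => hN.le g.2
  have h4 : Function.Surjective (φ.comp ψ) := h1.comp fun g =>
    have h : g.1 ∈ dw.1.group F := hc.group_eq hm (F := F) ▸ PreSys.N_le_univ _ (hc.monomialSubgroup_eq hm (F := F) ▸ g.2)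
    ⟨⟨⟨g, h⟩, hN.ge g.2⟩, rfl⟩
  have h5 : (P.B ⊓ P.N).subgroupOf P.N = (φ.comp ψ).ker := by
    rw [← MonoidHom.comap_ker, h2, show P.B ⊓ P.N = _ from
      (congrArg₂ _ h.B_eq h.N_eq).trans (((hc.gst hm).B_inf_N (hc.gsep hm)).trans (hc.gsys_H hm))]
    rfl
  have := torus_normal P
  have e : W P ≃* _ := (QuotientGroup.quotientMulEquivOfEq h5).trans (QuotientGroup.quotientKerEquivOfSurjective _ h4)
  have := Finite.of_surjective _ h4
  exact le_antisymm (Nat.card_le_card_of_surjective _ (ConjClasses.map_surjective (f := e.symm.toMonoidHom) e.symm.surjective))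
    (Nat.card_le_card_of_surjective _ (ConjClasses.map_surjective (f := e.toMonoidHom) e.surjective))

end Cfsg.Agent.S2319
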