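import Cfsg.Statements.S2320
import Cfsg.Agent.Lib.Known.GL2Irr

set_option autoImplicit false
open Cfsg

namespace Cfsg.Agent.S2320

open Cfsg.Lib.Known


/-- Over a finite field F with q elements, every irreducible complex character of GL₂ of degree q takes a value of absolute value 1 at every diagonal matrix with two different diagonal entries and at every element with no eigenvector in F². -/
theorem result {F : Type*} [Field F] [Fintype F] (χ : Matrix.GeneralLinearGroup (Fin 2) F → ℂ) (hχ : Cfsg.IsIrrCharacter (Matrix.GeneralLinearGroup (Fin 2) F) χ) (hdeg : χ 1 = (Fintype.card F : ℂ)) (g : Matrix.GeneralLinearGroup (Fin 2) F) :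
    ((g : Matrix (Fin 2) (Fin 2) F) 0 1 = 0 → (g : Matrix (Fin 2) (Fin 2) F) 1 0 = 0 → (g : Matrix (Fin 2) (Fin 2) F) 0 0 ≠ (g : Matrix (Fin 2) (Fin 2) F) 1 1 → ‖χ g‖ = 1) ∧
    ((∀ (c : F) (v : Fin 2 → F), v ≠ 0 → (g : Matrix (Fin 2) (Fin 2) F).mulVec v ≠ c • v) → ‖χ g‖ = 1) := by
  classical
  rw [← Nat.card_eq_fintype_card] at hdeg
  have hq : 2 ≤ Nat.card F := Finite.one_lt_card
  have e1 : (Nat.card F : ℂ) ≠ 1 := by exact_mod_cast (show Nat.card F ≠ 1 by omega)
  rcases GL2_irr_cases hχ with ⟨α, rfl⟩ | ⟨α, rfl⟩ | ⟨α, β, -, rfl⟩ | ⟨θ, -, rfl⟩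
  · rw [linG_one] at hdeg; exact absurd hdeg.symm e1
  · refine ⟨fun h1 h2 h3 => ?_, fun h1 => ?_⟩
    · obtain ⟨a, d, ha, hd, hg⟩ := eq_tri_of_upper h2
      have had : a ≠ d := fun h => h3 (by rw [← ha, ← hd, h])
      rw [hg, h1, StG_split _ had, norm_mul, Ch.norm_apply, Ch.norm_apply, mul_one]
    · rw [StG_noEig _ h1, norm_neg, linG, Ch.norm_apply]
  · rw [RT_one] at hdeg; simp at hdeg
  · rw [Pi.neg_apply, RT'_one] at hdeg
    exact absurd (show (1 : ℂ) = 0 by linear_combination -hdeg) one_ne_zero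

end Cfsg.Agent.S2320
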