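import Cfsg.Statements.S2322
import Cfsg.Agent.Lib.Known.SL2Irr2

set_option autoImplicit false
open Cfsg

namespace Cfsg.Agent.S2322

open Cfsg.Lib.Known


/-- Over a finite field F with q elements, q odd: every irreducible complex character of SL₂ of degree q − 1 or (q − 1)/2 vanishes at every diagonal matrix whose diagonal entry a has a² ≠ 1, and every irreducible complex character of degree q + 1 or (q + 1)/2 vanishes at every element with no eigenvector in F². -/
theorem result {F : Type*} [Field F] [Fintype F] (hodd : Odd (Fintype.card F)) (χ : Matrix.SpecialLinearGroup (Fin 2) F → ℂ) (hχ : Cfsg.IsIrrCharacter (Matrix.SpecialLinearGroup (Fin 2) F) χ) (g : Matrix.SpecialLinearGroup (Fin 2) F) :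
    ((χ 1 = (Fintype.card F : ℂ) - 1 ∨ χ 1 = (((Fintype.card F - 1) / 2 : ℕ) : ℂ)) →
      (g : Matrix (Fin 2) (Fin 2) F) 0 1 = 0 → (g : Matrix (Fin 2) (Fin 2) F) 1 0 = 0 → (g : Matrix (Fin 2) (Fin 2) F) 0 0 ^ 2 ≠ 1 → χ g = 0) ∧
    ((χ 1 = (Fintype.card F : ℂ) + 1 ∨ χ 1 = (((Fintype.card F + 1) / 2 : ℕ) : ℂ)) →
      (∀ (c : F) (v : Fin 2 → F), v ≠ 0 → (g : Matrix (Fin 2) (Fin 2) F).mulVec v ≠ c • v) → χ g = 0) := by
  classical
  rw [← Nat.card_eq_fintype_card] at hodd ⊢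
  have h2' := two_ne_zero_of_odd hodd
  refine ⟨fun h h1 h2 h3 => ?_, fun h h1 => ?_⟩
  · obtain ⟨a, ha, -, -, rfl⟩ := eq_triS_of_diag h1 h2 h3
    have hd := SL2_irr_degree (four_le_card_of_sq_ne_one ha) χ
    rcases h with h | h
    · obtain ⟨θ, -, rfl⟩ := hd.2.2.2.1.1 ⟨hχ, h⟩
      rw [Pi.neg_apply, RS'_split _ ha, neg_zero]
    · obtain ⟨θ, χ', -, -, hp⟩ := (hd.2.2.2.2 hodd).2.1 ⟨hχ, h⟩
      have := hp.two_mul (g := triS a 0)
        (Or.inr (Or.inr (by rw [trace_triS]; exact trace_sq_ne_four_of_sq_ne_one ha)))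
      rw [Pi.neg_apply, RS'_split _ ha, neg_zero] at this
      simpa using this
  · have hq : 2 ≤ Nat.card F := Finite.one_lt_card
    obtain ⟨n, hn, hn'⟩ : ∃ n : ℕ, χ 1 = n ∧ (n = Nat.card F + 1 ∨ n = (Nat.card F + 1) / 2) := by
      rcases h with h | h
      · exact ⟨_, by rw [h]; simp, Or.inl rfl⟩
      · exact ⟨_, h, Or.inr rfl⟩
    obtain ⟨m, hm⟩ := hodd
    rcases SL2_irr_cases' hχ hn with h | h | ⟨-, α, -, rfl⟩ | ⟨h, θ, hθ, rfl⟩ |
      ⟨-, -, α, χ', -, -, hp⟩ | ⟨-, h, -⟩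
    · have := h.1; omega
    · have := h.1; omega
    · exact RS_noEig _ h1
    · have hq3 : Nat.card F = 3 := by omega
      obtain ⟨z, hz, hc⟩ := exists_isConj_singerS h1
      rw [Cfsg.Lib.Char.Cfsg.IsClassFunction.eq_of_isConj
        (Cfsg.Lib.Char.Cfsg.IsIrrCharacter.isClassFunction hχ) hc, Pi.neg_apply, RS'_singerS _ hz]
      have hcard : Nat.card (U1 F) = 2 * 2 := by rw [card_U1, hq3]
      have := isCyclic_U1 (F := F)
      have h4 : (θ ^ 2) ^ 2 = 1 := by
        rw [← pow_mul, ← hcard, ← card_Ch]; exact pow_card_eq_one'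
      have h5 := (Ch.quad_apply h4 hθ hcard z).2 hz
      rw [Ch.pow_apply] at h5
      rw [Ch.map_inv, neg_eq_zero]
      have := θ.ne_zero z
      field_simp
      linear_combination h5
    · have := hp.two_mul (g := g) (Or.inr (NoEig.two_or_trace h1))
      rw [RS_noEig _ h1] at this
      simpa using this
    · omega

end Cfsg.Agent.S2322
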