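import Cfsg.Statements.S2324
import Cfsg.Agent.Lib.Known.SL2Irr2

set_option autoImplicit false
open Cfsg

namespace Cfsg.Agent.S2324

open Cfsg.Lib.Known


/-- Over a finite field F with q elements, q odd and q ≥ 5, let u be the upper unitriangular matrix of SL₂ with off-diagonal entry 1 and let δ = (−1)^((q−1)/2). Every irreducible complex character χ of SL₂ of degree (q + 1)/2 satisfies (2χ(u) − 1)² = δq, and every irreducible complex character χ of degree (q − 1)/2 satisfies (2χ(u) + 1)² = δq; that is, χ(u) = (1 ± √(δq))/2 in the first case and χ(u) = (−1 ± √(δq))/2 in the second. Moreover two different irreducible characters of degree (q + 1)/2 take the two different values (their values at u add up to 1), and likewise for degree (q − 1)/2 (values adding up to −1). -/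
theorem result {F : Type*} [Field F] [Fintype F] (hodd : Odd (Fintype.card F)) (hq : 5 ≤ Fintype.card F)
    (u : Matrix.SpecialLinearGroup (Fin 2) F) (hu : (u : Matrix (Fin 2) (Fin 2) F) = !![1, 1; 0, 1]) :
    (∀ χ : Matrix.SpecialLinearGroup (Fin 2) F → ℂ, Cfsg.IsIrrCharacter (Matrix.SpecialLinearGroup (Fin 2) F) χ → χ 1 = (((Fintype.card F + 1) / 2 : ℕ) : ℂ) → (2 * χ u - 1) ^ 2 = (-1 : ℂ) ^ ((Fintype.card F - 1) / 2) * (Fintype.card F : ℂ)) ∧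
    (∀ χ : Matrix.SpecialLinearGroup (Fin 2) F → ℂ, Cfsg.IsIrrCharacter (Matrix.SpecialLinearGroup (Fin 2) F) χ → χ 1 = (((Fintype.card F - 1) / 2 : ℕ) : ℂ) → (2 * χ u + 1) ^ 2 = (-1 : ℂ) ^ ((Fintype.card F - 1) / 2) * (Fintype.card F : ℂ)) ∧
    (∀ χ₁ χ₂ : Matrix.SpecialLinearGroup (Fin 2) F → ℂ, Cfsg.IsIrrCharacter (Matrix.SpecialLinearGroup (Fin 2) F) χ₁ → Cfsg.IsIrrCharacter (Matrix.SpecialLinearGroup (Fin 2) F) χ₂ → χ₁ ≠ χ₂ →
      χ₁ 1 = (((Fintype.card F + 1) / 2 : ℕ) : ℂ) → χ₂ 1 = (((Fintype.card F + 1) / 2 : ℕ) : ℂ) → χ₁ u + χ₂ u = 1) ∧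
    (∀ χ₁ χ₂ : Matrix.SpecialLinearGroup (Fin 2) F → ℂ, Cfsg.IsIrrCharacter (Matrix.SpecialLinearGroup (Fin 2) F) χ₁ → Cfsg.IsIrrCharacter (Matrix.SpecialLinearGroup (Fin 2) F) χ₂ → χ₁ ≠ χ₂ →
      χ₁ 1 = (((Fintype.card F - 1) / 2 : ℕ) : ℂ) → χ₂ 1 = (((Fintype.card F - 1) / 2 : ℕ) : ℂ) → χ₁ u + χ₂ u = -1) := by
  classical
  rw [← Nat.card_eq_fintype_card] at hq hodd ⊢
  obtain rfl : u = triS 1 1 := Subtype.ext (hu.trans (by simp [coe_triS]))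
  have hd := fun χ => (SL2_irr_degree (F := F) (by omega) χ).2.2.2.2 hodd
  have e1 : Even (Nat.card Fˣ) := by rw [Nat.card_units]; exact Nat.Odd.sub_odd hodd odd_one
  have e2 : Even (Nat.card (U1 F)) := by rw [card_U1]; exact hodd.add_one
  have := isCyclic_U1 (F := F)
  have v1 : ∀ {α : Ch Fˣ} {χ χ'}, HalfPair (RS α) χ χ' → χ (triS 1 1) + χ' (triS 1 1) = 1 :=
    fun h => by rw [h.add_apply, RS_par _ (one_pow 2) one_ne_zero, Ch.map_one]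
  have v2 : ∀ {θ : Ch (U1 F)} {χ χ'}, HalfPair (-RS' θ) χ χ' → χ (triS 1 1) + χ' (triS 1 1) = -1 :=
    fun h => by
      rw [h.add_apply, Pi.neg_apply, RS'_par _ (one_pow 2) one_ne_zero, uOf_one, Ch.map_one]
  refine ⟨fun χ hχ h => ?_, fun χ hχ h => ?_, fun χ₁ χ₂ h1 h2 hne d1 d2 => ?_,
    fun χ₁ χ₂ h1 h2 hne d1 d2 => ?_⟩
  · obtain ⟨α, χ', -, -, hp⟩ := (hd χ).1.1 ⟨hχ, h⟩
    rw [← hp.sub_sq, ← v1 hp]; ring
  · obtain ⟨α, χ', -, -, hp⟩ := (hd χ).2.1 ⟨hχ, h⟩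
    rw [← hp.sub_sq]
    congr 1
    linear_combination v2 hp
  · obtain ⟨α, χ', a2, a1, hp⟩ := (hd χ₁).1.1 ⟨h1, d1⟩
    obtain ⟨β, χ'', b2, b1, hp'⟩ := (hd χ₂).1.1 ⟨h2, d2⟩
    rw [Ch.quad_unique b2 b1 a2 a1 e1] at hp'
    rw [(hp.eq_or_eq hp').resolve_left hne.symm, v1 hp]
  · obtain ⟨α, χ', a2, a1, hp⟩ := (hd χ₁).2.1 ⟨h1, d1⟩
    obtain ⟨β, χ'', b2, b1, hp'⟩ := (hd χ₂).2.1 ⟨h2, d2⟩
    rw [Ch.quad_unique b2 b1 a2 a1 e2] at hp'
    rw [(hp.eq_or_eq hp').resolve_left hne.symm, v2 hp]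

end Cfsg.Agent.S2324
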