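import Cfsg.Statements.S2330
import Cfsg.Agent.Lib.Known.GL2Torus

set_option autoImplicit false
open Cfsg

namespace Cfsg.Agent.S2330

open Cfsg.Lib.Known


/-- Over a finite field with q elements, the general linear group GL₂ has exactly q² − 1 conjugacy classes. -/
theorem result {F : Type*} [Field F] [Fintype F] :
    Nat.card (ConjClasses (Matrix.GeneralLinearGroup (Fin 2) F)) = Fintype.card F ^ 2 - 1 := by
  rw [card_conjClasses_of_reps (X := Fˣ ⊕ (F × Fˣ)) (Sum.elim (fun a => tri a a 0)
    (fun p => Matrix.GeneralLinearGroup.mkOfDetNeZero (comp2 p.1 p.2) (by simp [det_comp2])))]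
  · rw [Nat.card_sum, Nat.card_prod, Nat.card_units, Nat.card_eq_fintype_card]
    obtain ⟨m, hm⟩ : ∃ m, Fintype.card F = m + 1 :=
      ⟨_, (Nat.succ_pred_eq_of_pos Fintype.card_pos).symm⟩
    rw [hm, Nat.add_sub_cancel, eq_comm, Nat.sub_eq_iff_eq_add (Nat.one_le_pow _ _ (by omega))]
    ring
  · intro g
    by_cases hs : IsScal (g : M2 F)
    · obtain ⟨a, rfl⟩ := eq_tri_of_isScal hs
      exact ⟨Sum.inl a, IsConj.refl _⟩
    · exact ⟨Sum.inr ((g : M2 F).trace, Units.mk0 _ g.det_ne_zero),
        isConj_GL2_of_trace_det hs (not_isScal_comp2 _ _) (trace_comp2 _ _).symm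
          (det_comp2 _ _).symm⟩
  · rintro (a | p) (b | p') h
    · have := GL2_eq_of_isConj_of_isScal h (by simp [isScal_tri_iff])
      have h2 := congrArg (fun g : GL (Fin 2) F => (g : M2 F) 0 0) this
      simp only [Sum.elim_inl, coe_tri] at h2
      exact congrArg Sum.inl (Units.ext (by simpa using h2))
    · exact absurd ((GL2_isScal_iff_of_isConj h).1 (by simp [isScal_tri_iff]))
        (not_isScal_comp2 _ _)
    · exact absurd ((GL2_isScal_iff_of_isConj h).2 (by simp [isScal_tri_iff]))
        (not_isScal_comp2 _ _)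
    · have h1 : (comp2 p.1 (p.2 : F)).trace = (comp2 p'.1 (p'.2 : F)).trace :=
        GL2_trace_eq_of_isConj h
      have h2 : (comp2 p.1 (p.2 : F)).det = (comp2 p'.1 (p'.2 : F)).det := GL2_det_eq_of_isConj h
      rw [trace_comp2, trace_comp2] at h1
      rw [det_comp2, det_comp2] at h2
      exact congrArg Sum.inr (Prod.ext h1 (Units.ext h2))

end Cfsg.Agent.S2330
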