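import Cfsg.Statements.S2332
import Cfsg.Agent.Lib.Stein.MinSL4
import Cfsg.Agent.S0157

set_option autoImplicit false
open Cfsg

namespace Cfsg.Agent.S2332
open Cfsg.Lib.Stein.MinSL Finset

theorem exists_pow_ne {F : Type*} [Field F] [Fintype F] {k : ℕ} (h : ¬ Fintype.card F - 1 ∣ k) : ∃ a : F, a ≠ 0 ∧ a ^ k ≠ 1 := by
  classical
  by_contra! c
  refine h ?_
  rw [← Fintype.card_units, ← Nat.card_eq_fintype_card, ← IsCyclic.exponent_eq_card]
  exact Monoid.exponent_dvd_of_forall_pow_eq_one fun a => Units.ext (by simpa using c a a.ne_zero)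

/-- Smallest degree of a non-linear irreducible complex representation of SL_n over a finite field with q elements, for n ≥ 3 and (n, q) not one of (3, 2), (3, 4), (4, 2), (4, 3): every irreducible complex representation of SL_n(F) of degree at least 2 has degree at least (q^n − q)/(q − 1), and there is an irreducible complex representation of exactly that degree. -/
theorem result {F : Type*} [Field F] [Fintype F] [DecidableEq F] (n : ℕ) (hn : 3 ≤ n)
    (hex : (n, Fintype.card F) ≠ (3, 2) ∧ (n, Fintype.card F) ≠ (3, 4) ∧ (n, Fintype.card F) ≠ (4, 2) ∧ (n, Fintype.card F) ≠ (4, 3)) :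
    (∀ (k : ℕ) (ρ : Representation ℂ (Matrix.SpecialLinearGroup (Fin n) F) (Fin k → ℂ)), ρ.IsIrreducible → 2 ≤ k → (Fintype.card F ^ n - Fintype.card F) / (Fintype.card F - 1) ≤ k) ∧
    (∃ ρ : Representation ℂ (Matrix.SpecialLinearGroup (Fin n) F) (Fin ((Fintype.card F ^ n - Fintype.card F) / (Fintype.card F - 1)) → ℂ), ρ.IsIrreducible) := by
  have q1 := Fintype.one_lt_card (α := F)
  have e : (Fintype.card F ^ n - Fintype.card F) / (Fintype.card F - 1) = ∑ i ∈ range n, Fintype.card F ^ i - 1 := by
    have := Nat.pow_le_pow_right (zero_lt_one.trans q1) (show 1 ≤ n by omega)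
    rw [pow_one] at this
    rw [Nat.geomSum_eq q1, show Fintype.card F ^ n - 1 = Fintype.card F ^ n - Fintype.card F + (Fintype.card F - 1) by omega,
      Nat.add_div_right _ (by omega), Nat.add_sub_cancel]
  rw [e]
  refine ⟨fun k ρ hρ hk => ?_, ?_⟩
  · have : Nonempty (Fin k) := ⟨⟨0, by omega⟩⟩
    have := card_le_main (ρ := ρ) (by simpa) (fun h => exists_pow_ne fun d => ?_) (fun h => exists_pow_ne fun d => ?_) fun v hv => ?_
    · simpa using this
    · have := (Nat.dvd_prime Nat.prime_three).1 d
      simp only [Fintype.card_fin, ne_eq, Prod.mk.injEq] at h hex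
      omega
    · have := (Nat.dvd_prime Nat.prime_two).1 d
      simp only [Fintype.card_fin, ne_eq, Prod.mk.injEq] at h hex
      omega
    by_contra h0
    let S : Subrepresentation ρ := ⟨Submodule.span ℂ {v}, fun g u hu => by
      obtain ⟨c, rfl⟩ := Submodule.mem_span_singleton.1 hu
      rw [map_smul, hv]
      exact hu⟩
    rcases hρ.eq_bot_or_eq_top S with h3 | h3
    · exact h0 (Submodule.span_singleton_eq_bot.1 (congrArg Subrepresentation.toSubmodule h3))
    · have h4 := finrank_span_singleton (K := ℂ) h0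
      rw [show Submodule.span ℂ {v} = ⊤ from congrArg Subrepresentation.toSubmodule h3] at h4
      simp at h4
      omega
  have c := Projectivization.card_of_finrank F (Fin n → F) (n := n) (by simp)
  rw [Nat.card_eq_fintype_card (α := F)] at c
  have c2 : 2 ≤ ∑ i ∈ range n, Fintype.card F ^ i := by
    obtain ⟨n, rfl⟩ := Nat.exists_eq_add_of_le' hn
    have := Nat.one_le_pow (n + 2) _ (zero_lt_one.trans q1)
    have := Nat.one_le_pow (n + 1) _ (zero_lt_one.trans q1)
    rw [sum_range_succ, sum_range_succ]
    omega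
  obtain ⟨m, ρ, h1, h2⟩ := (S0157.result (G := Matrix.SpecialLinearGroup (Fin n) F) (Projectivization F (Fin n → F))
    (c ▸ c2)).2 inferInstance
  have := congrFun h2 1
  simp only [Representation.char_one, MulAction.fixedBy_one_eq_univ, Nat.card_univ, c] at this
  have : m = ∑ i ∈ range n, Fintype.card F ^ i - 1 := by
    refine Nat.cast_injective (R := ℂ) ?_
    rw [Nat.cast_sub (by omega), Nat.cast_one, ← this]
    simp
  exact this ▸ ⟨ρ, h1⟩

end Cfsg.Agent.S2332
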