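import Cfsg.Statements.S2333
import Cfsg.Agent.Lib.Conj.LS

set_option autoImplicit false
open Cfsg

namespace Cfsg.Agent.S2333

open Cfsg.Lib.Conj Cfsg.Lib.Forms Cfsg.Lib.Forms.Form Module


/-- For a finite field F of even order q and n ≥ 2 with (n, q) ≠ (2, 2), every irreducible complex representation of the symplectic group Sp_{2n}(F) of degree at least 2 has degree at least (q^n − 1)(q^n − q)/(2(q + 1)). -/
theorem result {F : Type*} [Field F] [Fintype F] [DecidableEq F] (n : ℕ) (hn : 2 ≤ n) (heven : Even (Fintype.card F)) (hex : (n, Fintype.card F) ≠ (2, 2)) :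
    (∀ (k : ℕ) (ρ : Representation ℂ (Matrix.symplecticGroup (Fin n) F) (Fin k → ℂ)), ρ.IsIrreducible → 2 ≤ k → (Fintype.card F ^ n - 1) * (Fintype.card F ^ n - Fintype.card F) / (2 * (Fintype.card F + 1)) ≤ k) := by
  intro k ρ hρ hk
  have hF : (2 : F) = 0 := by
    have := FiniteField.even_card_iff_char_two.2 (Nat.even_iff.1 heven)
    exact_mod_cast this ▸ ringChar.Nat.cast_ringChar (R := F)
  have hn2 : finrank F (Fin n ⊕ Fin n → F) = 2 * n := by simp [two_mul]
  have hq := Fintype.one_lt_card (α := F)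
  rcases (Symp.normal_and_simple (fSymp_nondeg (F := F) n) (by omega) (Symp.commutator_eq_top'
    (fSymp_nondeg n) hn2 (by
      rw [Nat.card_eq_fintype_card]
      obtain ⟨r, hr⟩ := heven
      have : n ≠ 2 ∨ Fintype.card F ≠ 2 := by simpa [← not_and_or] using hex
      omega))).1 (ρ.comp (spEquiv F n).symm.toMonoidHom).ker inferInstance with h | h
  · have h1 := sp_bound_even (fSymp_nondeg n) hn2 hn (by
      exact_mod_cast CharP.ringChar_ne_zero_of_finite F) hF _ h
    rw [Nat.card_eq_fintype_card, finrank_fin_fun] at h1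
    exact Nat.div_le_of_le_mul (mul_comm k _ ▸ h1)
  · have := le_one_of_trivial hρ fun g => by
      simpa using (h ▸ Subgroup.mem_top (spEquiv F n g) :
        spEquiv F n g ∈ (ρ.comp (spEquiv F n).symm.toMonoidHom).ker)
    omega

end Cfsg.Agent.S2333
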