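import Cfsg.Statements.S2336
import Cfsg.Agent.Lib.Char.Prod
import Cfsg.Agent.Lib.Char.Ortho
import Cfsg.Agent.Lib.Linear.SLPair

set_option autoImplicit false
open Cfsg

namespace Cfsg.Agent.S2336

open Cfsg.Lib.Char Cfsg.Lib.Linear Matrix MulAction Finset

theorem irr_of_norm {G J : Type*} [Group G] [Fintype G] [Fintype J] {φ : J → G → ℂ} (h : ∀ i, IsCharacter G (φ i))
    (h0 : ∀ i, φ i ≠ 0) {m : ℕ} (hm : classInner (∑ i, φ i) (∑ i, φ i) = m) (hJ : m ≤ Fintype.card J) :
    (∀ i, IsIrrCharacter G (φ i)) ∧ Function.Injective φ := by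
  classical
  choose a ha using fun i j => (h i).classInner_nat (h j)
  have a1 : ∀ i, 1 ≤ a i i := fun i => Nat.pos_of_ne_zero fun c => h0 i (classInner_self_eq_zero.1 (by simp [ha, c]))
  simp only [classInner_sum_left, classInner_sum_right, ha] at hm
  have e : ∀ j, ∑ i, a i j = 1 := fun j => ((sum_eq_sum_iff_of_le (f := fun _ => 1) fun j _ =>
    (a1 j).trans (single_le_sum (f := (a · j)) (fun _ _ => Nat.zero_le _) (mem_univ j))).1
      (le_antisymm (sum_le_sum fun j _ => (a1 j).trans (single_le_sum (f := (a · j)) (fun _ _ => Nat.zero_le _) (mem_univ j)))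
        (by rw [show ∑ j, ∑ i, a i j = m by exact_mod_cast hm]; simpa)) j (mem_univ j)).symm
  refine ⟨fun i => (h i).isIrrCharacter_of_norm_one (by
    rw [ha, le_antisymm (e i ▸ single_le_sum (f := (a · i)) (fun _ _ => Nat.zero_le _) (mem_univ i)) (a1 i)]; simp),
    fun i j c => by_contra fun d => ?_⟩
  have := add_le_sum (f := (a · j)) (fun _ _ => Nat.zero_le _) (mem_univ i) (mem_univ j) d
  have b : a i j = a j j := Nat.cast_injective (R := ℂ) (by rw [← ha, ← ha, c])
  have := a1 j
  have := e j
  omega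

theorem aux {G A X : Type*} [Group G] [Fintype G] [CommGroup A] [Fintype A] [Fintype X] [MulAction (G × A) X]
    (h1 : ∀ a : A, a ≠ 1 → ∀ x : X, ((1 : G), a) • x ≠ x) (h2 : Fintype.card A < Fintype.card X) (r : Option A → X × X)
    (h3 : ∀ p : X × X, ∃ i, ∃ g : G, (g, (1 : A)) • r i = p) : ∃ χ : IrrCharacter A → G → ℂ,
      (∀ i, IsIrrCharacter G (χ i)) ∧ Function.Injective χ ∧
        ∀ g, (Nat.card (fixedBy X (g, (1 : A))) : ℂ) = 1 + ∑ i, χ i g := by
  classical
  have hP := isCharacter_fixedBy (G := G × A) X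
  set P := fun x : G × A => (Nat.card (fixedBy X x) : ℂ) with hP'
  let θ : IrrCharacter A → G → ℂ := fun l g => classInner (fun a => P (g, a)) l
  have fub : ∀ l χ, classInner (θ l) χ = classInner P fun x => χ x.1 * l.1 x.2 := fun l χ => by
    simp only [θ, classInner_def, Fintype.sum_prod_type, Nat.card_prod, mul_sum, sum_mul, map_mul]
    exact sum_congr rfl fun _ _ => sum_congr rfl fun _ _ => by push_cast; ring
  have hθ : ∀ l, IsCharacter G (θ l) := fun l => Cfsg.Lib.Char.Cfsg.IsClassFunction.isCharacter_of_classInner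
    (fun g x => congrArg (classInner · l.1) (funext fun a => by simpa using hP.isClassFunction.conj_eq (g, a) (x, 1)))
    fun χ hχ => fub l χ ▸ hP.classInner_nat (hχ.isCharacter.prod l.2.isCharacter)
  have d1 : ∀ l : IrrCharacter A, l.1 1 = 1 := fun l => l.2.degree_eq_one_of_comm mul_comm
  have hs : ∀ g, P (g, 1) = ∑ l, θ l g := fun g => by
    simpa [d1] using (isClassFunction_of_comm mul_comm fun a => P (g, a)).apply_eq_sum 1
  have hA : (Fintype.card A : ℂ) ≠ 0 := by simp
  have d : ∀ l, θ l 1 = Fintype.card X / Fintype.card A := fun l => by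
    simp only [θ, classInner_def]
    rw [sum_eq_single 1 (fun a _ ha => by simp [P, h1 a ha]) (by simp)]
    simp [P, d1, Prod.mk_one_one, div_eq_inv_mul]
  let o := principalIrr A
  have h4 : IsCharacter G (θ o - fun _ => 1) := (hθ o).sub_of_classInner_ne_zero isIrrCharacter_one (by
    rw [fub]
    simp only [o, principalIrr, mul_one, classInner_one_right, P]
    refine mul_ne_zero (by simp) ?_
    rw [← Nat.cast_sum, Nat.cast_ne_zero]
    exact (lt_of_lt_of_le (by simp; omega) (single_le_sum (fun _ _ => Nat.zero_le _) (mem_univ 1))).ne')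
  let χ := Function.update θ o (θ o - fun _ => 1)
  have e : ∀ g, P (g, 1) = 1 + ∑ i, χ i g := fun g => by
    rw [hs, ← Finset.sum_apply, ← Finset.sum_apply, sum_update_of_mem (mem_univ _), ← add_sum_erase _ _ (mem_univ o), sdiff_singleton_eq_erase]
    simp
  let _ := MulAction.compHom X (MonoidHom.inl G A)
  have := irr_of_norm (φ := fun i : Option (IrrCharacter A) => i.elim (fun _ => 1) χ)
    (m := Nat.card (orbitRel.Quotient G (X × X))) (by
      rintro (_ | l)
      · exact isCharacter_one
      · by_cases c : l = o <;> simp [χ, c, h4, hθ]) (by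
      rintro (_ | l) h <;> replace h := congrFun h 1
      · simp at h
      · by_cases c : l = o
        · simp [χ, c, d, sub_eq_zero, div_eq_iff hA] at h; omega
        · simp [χ, c, d] at h; omega) (by
      have : (∑ i : Option (IrrCharacter A), i.elim (fun _ => 1) χ) = fun g => P (g, 1) := by
        ext g; simp [e]
      rw [this, classInner_def, inv_mul_eq_iff_eq_mul₀ (by simp), Nat.card_eq_fintype_card, Nat.card_eq_fintype_card, ← Nat.cast_mul,
        mul_comm, ← sum_card_fixedBy_eq_card_orbits_mul_card_group, Nat.cast_sum]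
      refine sum_congr rfl fun g _ => ?_
      simp only [P, map_natCast, ← Nat.cast_mul, ← Nat.card_prod, ← Nat.card_eq_fintype_card]
      exact congrArg _ (Nat.card_congr ((Equiv.Set.prod _ _).symm.trans (Equiv.setCongr (by
        ext x; exact (Prod.ext_iff (x := g • x)).symm))))) (by
      have c : Fintype.card (IrrCharacter A) = Fintype.card A := by simpa [d1] using sum_degree_sq (G := A)
      refine (Nat.card_le_card_of_surjective (fun i => (Quotient.mk'' (r i) : orbitRel.Quotient G (X × X))) fun q => ?_).trans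
        (by simp [c])
      obtain ⟨i, g, h⟩ := h3 q.out
      exact ⟨i, (Quotient.sound' (orbitRel_apply.2 ⟨g, h⟩)).symm.trans q.out_eq'⟩)
  exact ⟨χ, fun i => this.1 (some i), fun i j h => Option.some_injective _ (this.2 h), e⟩

/-- Let F be a finite field with q elements and n ≥ 3. The permutation character of SL_n(F) on the non-zero vectors of F^n (the function sending a matrix to the number of non-zero vectors it fixes) is the sum of the principal character and q − 1 pairwise distinct irreducible complex characters. -/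
theorem result {F : Type*} [Field F] [Fintype F] [DecidableEq F] (n : ℕ) (hn : 3 ≤ n) :
    ∃ χ : Fin (Fintype.card F - 1) → (Matrix.SpecialLinearGroup (Fin n) F → ℂ),
      (∀ i, Cfsg.IsIrrCharacter (Matrix.SpecialLinearGroup (Fin n) F) (χ i)) ∧ Function.Injective χ ∧
      ∀ g : Matrix.SpecialLinearGroup (Fin n) F,
        (Nat.card {v : Fin n → F // v ≠ 0 ∧ (g : Matrix (Fin n) (Fin n) F).mulVec v = v} : ℂ) = 1 + ∑ i, χ i g := by
  classical
  let i : Fin n := ⟨0, by omega⟩
  let j : Fin n := ⟨1, by omega⟩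
  have ij : i ≠ j := by simp [i, j]
  let _ : MulAction (Matrix.SpecialLinearGroup (Fin n) F × Fˣ) {v : Fin n → F // v ≠ 0} :=
    { smul := fun g v => ⟨g.2 • g.1.1 *ᵥ v.1, fun c => v.2 (sl_mulVec_injective g.1 (by simpa [Units.smul_def] using c))⟩
      one_smul := fun v => Subtype.ext (show (1 : Fˣ) • (1 : Matrix _ _ F) *ᵥ v.1 = _ by simp)
      mul_smul := fun g h v => Subtype.ext (show (g.2 * h.2) • (g.1.1 * h.1.1) *ᵥ v.1 = g.2 • g.1.1 *ᵥ (h.2 • h.1.1 *ᵥ v.1) by
        simp [mulVec_smul, mul_smul]) }
  obtain ⟨χ, a, b, c⟩ := aux (G := Matrix.SpecialLinearGroup (Fin n) F) (A := Fˣ) (X := {v : Fin n → F // v ≠ 0})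
    (fun a ha x h => ha (Units.ext (smul_left_injective F x.2 (by
      simpa [Units.smul_def] using (show a • (1 : Matrix _ _ F) *ᵥ x.1 = x.1 from congrArg Subtype.val h))))) (by
      have := Nat.pow_lt_pow_right (Fintype.one_lt_card (α := F)) (show 1 < n by omega)
      rw [pow_one] at this
      have := Fintype.one_lt_card (α := F)
      simp [Fintype.card_units]; omega)
    (fun o => (⟨Pi.single i 1, by simp⟩, o.elim ⟨Pi.single j 1, by simp⟩ fun c => ⟨c • Pi.single i 1, by simp [Units.smul_def]⟩)) fun p => by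
      by_cases h : p.2.1 ∈ F ∙ p.1.1
      · obtain ⟨c, hc⟩ := Submodule.mem_span_singleton.1 h
        obtain ⟨g, -, hg⟩ := exists_sl_fix_map (W := ⊥) (by simp; omega) (v := Pi.single i 1) (by simp) p.1.2
        exact ⟨some (Units.mk0 c (by rintro rfl; exact p.2.2 (by simp [← hc]))), g,
          Prod.ext (Subtype.ext ((one_smul Fˣ _).trans hg)) (Subtype.ext ((one_smul Fˣ _).trans (by simp [mulVec_smul, hg, hc])))⟩
      · obtain ⟨g, a, b⟩ := exists_sl_pair (by simpa) (v := Pi.single i 1) (w := Pi.single j 1) (by simp) (fun e => by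
          obtain ⟨t, e⟩ := Submodule.mem_span_singleton.1 e
          simpa [ij] using congrFun e j) p.1.2 h
        exact ⟨none, g, Prod.ext (Subtype.ext ((one_smul Fˣ _).trans a)) (Subtype.ext ((one_smul Fˣ _).trans b))⟩
  let e := Fintype.equivFinOfCardEq (α := IrrCharacter Fˣ) (n := Fintype.card F - 1) (by
    rw [← Fintype.card_units]
    simpa [fun l : IrrCharacter Fˣ => l.2.degree_eq_one_of_comm mul_comm] using sum_degree_sq (G := Fˣ))
  refine ⟨χ ∘ e.symm, fun i => a _, b.comp e.symm.injective, fun g => ?_⟩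
  simp only [Function.comp, e.symm.sum_comp fun l => χ l g, ← c]
  exact congrArg _ (Nat.card_congr ((Equiv.subtypeSubtypeEquivSubtypeInter _ _).symm.trans (Equiv.subtypeEquivRight fun x =>
    ⟨fun h => Subtype.ext ((one_smul Fˣ _).trans h), fun h => (one_smul Fˣ _).symm.trans (congrArg Subtype.val h)⟩)))

end Cfsg.Agent.S2336
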