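import Cfsg.Statements.S2337
import Cfsg.Agent.Lib.BN.SzSubgroups

set_option autoImplicit false
open Cfsg

namespace Cfsg.Agent.S2337

open Cfsg.Lib.BN.Sz Cfsg.Lib.BN

section
variable {F : Type*} [Field F] (m : ℕ) [hF : SzField F m]

theorem exists_addChar : ∃ ψ : AddChar F ℂ, ψ.IsPrimitive ∧ ∀ x, ψ (σ m x) = ψ x := by
  have := hF.finite
  have := charP (F := F) m
  let _ := ZMod.algebra F 2
  refine ⟨(ZMod.stdAddChar (N := 2)).compAddMonoidHom (Algebra.trace (ZMod 2) F).toAddMonoidHom,
    AddChar.IsPrimitive.of_ne_one fun h => ?_, fun x => ?_⟩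
  · obtain ⟨x, hx⟩ := Algebra.trace_surjective (ZMod 2) F 1
    have h1 : ZMod.stdAddChar (N := 2) (Algebra.trace (ZMod 2) F x) = 1 := DFunLike.congr_fun h x
    rw [hx, ← (ZMod.stdAddChar (N := 2)).map_zero_eq_one, ZMod.injective_stdAddChar.eq_iff] at h1
    exact one_ne_zero h1
  · let e : F ≃ₐ[ZMod 2] F := AlgEquiv.ofBijective ⟨σ m, fun r => by
      change σ m _ = _
      fin_cases r
      · exact (congrArg (σ m) (map_zero _)).trans ((map_zero _).trans (map_zero _).symm)
      · exact (congrArg (σ m) (map_one _)).trans ((map_one _).trans (map_one _).symm)⟩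
      ⟨fun _ _ h => (σ (F := F) m).injective h, fun y => ⟨ρ m y, σ_ρ m y⟩⟩
    exact congrArg (ZMod.stdAddChar (N := 2)) (Algebra.trace_eq_of_algEquiv e x)

theorem heisenberg {W : Type*} [AddCommGroup W] [Module ℂ W] [FiniteDimensional ℂ W] [Nontrivial W]
    {ψ : AddChar F ℂ} (hψ : ψ.IsPrimitive) (hσ : ∀ x, ψ (σ m x) = ψ x) (T : F → F → Module.End ℂ W)
    (hT : ∀ a b c d, T a b * T c d = T (a + c) (b + d + σ m a * c)) (h0 : ∀ b, T 0 b = ψ b • 1) :
    2 ^ m ≤ Module.finrank ℂ W := by
  have := hF.finite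
  have := charP (F := F) m
  have h1 : T 0 0 = 1 := by simp [h0]
  have htr : ∀ a b, a ≠ 0 → a ≠ 1 → LinearMap.trace ℂ W (T a b) = 0 := by
    intro a b ha0 ha1
    have h2 : σ m a + ρ m a ≠ 0 := by
      intro h
      rw [σ_eq_ρ_sq] at h
      have h3 : ρ m a = 0 ∨ ρ m a = 1 := by grind
      rcases h3 with h3 | h3
      · exact ha0 (by simpa using h3)
      · exact ha1 (by rw [← σ_ρ m a, h3, map_one])
    obtain ⟨c, hc⟩ := AddChar.ne_one_iff.1 (hψ h2)
    have h3 : ψ (σ m a * c + σ m c * a) ≠ 1 := by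
      rwa [AddChar.map_add_eq_mul, ← σ_ρ m a, ← map_mul (σ m) c, hσ (c * _), σ_ρ, ← AddChar.map_add_eq_mul,
        mul_comm c, ← add_mul]
    have h4 : T c 0 * (T a b * T c (σ m c * c)) = ψ (σ m a * c + σ m c * a) • T a b := by
      rw [← one_mul (T a b), ← smul_mul_assoc, ← h0, one_mul, hT, hT, hT]
      congr 1 <;> simp <;> grind
    have h5 : T c (σ m c * c) * T c 0 = 1 := by
      rw [hT, ← h1]; congr 1 <;> grind
    have h6 := congrArg (LinearMap.trace ℂ W) h4
    rw [LinearMap.trace_mul_comm, mul_assoc, h5, mul_one, map_smul, smul_eq_mul] at h6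
    by_contra h7
    exact h3 (mul_right_cancel₀ h7 (by rw [← h6, one_mul]))
  let A := AddSubgroup.zmultiples (1 : F)
  have hA : Nat.card (F ⧸ A) = 2 ^ m * 2 ^ m := by
    have h2 := AddSubgroup.card_eq_card_quotient_mul_card_addSubgroup A
    rw [hF.card_eq, Nat.card_zmultiples, CharP.eq F (CharP.addOrderOf_one F) (charP m), pow_succ] at h2
    rw [← pow_add, ← two_mul]; omega
  have hli : LinearIndependent ℂ fun x : F ⧸ A => T x.out 0 := by
    classical
    let _ := Fintype.ofFinite (F ⧸ A)
    rw [Fintype.linearIndependent_iff]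
    intro g hg y
    have h2 := congrArg (fun f => LinearMap.trace ℂ W (T y.out (σ m y.out * y.out) * f)) hg
    simp only [Finset.mul_sum, mul_smul_comm, map_sum, map_smul, mul_zero, map_zero, hT] at h2
    rw [Finset.sum_eq_single y] at h2
    · rw [CharTwo.add_self_eq_zero, add_zero, CharTwo.add_self_eq_zero, h1, LinearMap.trace_one, smul_eq_mul,
        mul_eq_zero] at h2
      exact h2.resolve_right (by exact_mod_cast Module.finrank_pos.ne')
    · intro x _ hx
      have h3 : y.out + x.out ∉ A := fun h => hx (by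
        rw [← x.out_eq, ← y.out_eq]
        exact (QuotientAddGroup.eq.2 (by rwa [CharTwo.neg_eq])).symm)
      rw [htr (y.out + x.out) _ (fun h => h3 (h ▸ zero_mem A)) (fun h => h3 (h ▸ AddSubgroup.mem_zmultiples _)),
        smul_zero]
    · simp
  have h2 := hli.cardinalMk_le_finrank
  rw [Module.finrank_linearMap, ← Nat.cast_card, hA, Nat.cast_le] at h2
  exact Nat.mul_self_le_mul_self_iff.1 h2

theorem aux {V : Type*} [AddCommGroup V] [Module ℂ V] [FiniteDimensional ℂ V]
    (R : Representation ℂ (Cfsg.Sz F m) V) (hR : R (U m 0 1) ≠ 1) :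
    2 ^ m * (2 ^ (2 * m + 1) - 1) ≤ Module.finrank ℂ V := by
  classical
  have := hF.finite
  have := charP (F := F) m
  let _ := Fintype.ofFinite F
  obtain ⟨ψ, hψ, hσ⟩ := exists_addChar (F := F) m
  have hq : (Fintype.card F : ℂ) ≠ 0 := by simp
  have hUU : ∀ b c : F, R (U m 0 b) * R (U m 0 c) = R (U m 0 (b + c)) := fun b c => by
    rw [← map_mul, U_mul]; simp
  let W : F → Submodule ℂ V := fun c =>
    { carrier := {v | ∀ b, R (U m 0 b) v = ψ (c * b) • v}
      add_mem' := fun {u v} hu hv b => by rw [map_add, hu b, hv b, smul_add]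
      zero_mem' := fun b => by simp
      smul_mem' := fun a v hv b => by rw [map_smul, hv b, smul_comm] }
  let e : F → Module.End ℂ V := fun c => (Fintype.card F : ℂ)⁻¹ • ∑ b, ψ (c * b) • R (U m 0 b)
  have he : ∀ c, LinearMap.IsProj (W c) (e c) := fun c => ⟨fun v b => by
    simp only [e, LinearMap.smul_apply, LinearMap.sum_apply, map_smul, map_sum]
    rw [smul_comm, Finset.smul_sum (r := ψ (c * b))]
    congr 1
    refine Fintype.sum_equiv (Equiv.addLeft b) _ _ fun x => ?_
    rw [← Module.End.mul_apply, hUU, smul_smul, ← AddChar.map_add_eq_mul, Equiv.coe_addLeft]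
    congr 2; grind, fun v hv => by
    simp only [e, LinearMap.smul_apply, LinearMap.sum_apply]
    simp only [hv _, smul_smul, ← AddChar.map_add_eq_mul, CharTwo.add_self_eq_zero, AddChar.map_zero_eq_one,
      one_smul, Finset.sum_const, Finset.card_univ]
    rw [← Nat.cast_smul_eq_nsmul ℂ, smul_smul, inv_mul_cancel₀ hq, one_smul]⟩
  have hsum : ∑ c, e c = 1 := by
    simp only [e]
    rw [← Finset.smul_sum, Finset.sum_comm]
    simp only [← Finset.sum_smul, AddChar.sum_mulShift _ hψ]
    rw [Finset.sum_eq_single 0 (fun b _ hb => by simp [hb]) (by simp)]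
    simp [smul_smul, U_zero]
  have hdim : ∑ c, Module.finrank ℂ (W c) = Module.finrank ℂ V := by
    have h1 := congrArg (LinearMap.trace ℂ V) hsum
    rw [map_sum, LinearMap.trace_one] at h1
    simp only [(he _).trace] at h1
    exact_mod_cast h1
  have hconj : ∀ c, c ≠ 0 → Module.finrank ℂ (W c) = Module.finrank ℂ (W 1) := by
    intro c hc
    obtain ⟨k, rfl⟩ := mul_σ_surjective m c
    have hk : k ≠ 0 := by rintro rfl; simp at hc
    have h1 : LinearMap.trace ℂ V (e (k * σ m k)) = LinearMap.trace ℂ V (e 1) := by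
      simp only [e, map_smul, map_sum]
      congr 1
      refine Fintype.sum_equiv (Equiv.mulLeft₀ _ hc) _ _ fun x => ?_
      have h2 := D_conj_U m (Units.mk0 k hk) 0 x
      simp only [Units.val_mk0, mul_zero] at h2
      simp only [Equiv.mulLeft₀_apply, one_mul, ← h2, map_mul]
      rw [LinearMap.trace_mul_cycle, ← map_mul, inv_mul_cancel, map_one, one_mul]
    rw [(he _).trace, (he _).trace] at h1
    exact_mod_cast h1
  have h2 : Module.finrank ℂ V = Module.finrank ℂ (W 0) + (2 ^ (2 * m + 1) - 1) * Module.finrank ℂ (W 1) := by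
    rw [← hdim, ← Finset.add_sum_erase _ _ (Finset.mem_univ 0),
      Finset.sum_congr rfl fun c hc => hconj c (Finset.ne_of_mem_erase hc), Finset.sum_const,
      Finset.card_erase_of_mem (Finset.mem_univ 0), Finset.card_univ, ← Nat.card_eq_fintype_card, hF.card_eq,
      smul_eq_mul]
  have : Nontrivial (W 1) := by
    by_contra h
    rw [not_nontrivial_iff_subsingleton] at h
    rw [Module.finrank_zero_of_subsingleton (M := W 1), mul_zero, add_zero] at h2
    have h3 := Submodule.eq_top_of_finrank_eq h2.symm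
    refine hR (LinearMap.ext fun v => ?_)
    have h4 : v ∈ W 0 := h3 ▸ Submodule.mem_top
    simpa using h4 1
  have hW : ∀ a b, ∀ v ∈ W 1, R (U m a b) v ∈ W 1 := by
    intro a b v hv c
    rw [← map_smul, ← hv c, ← Module.End.mul_apply, ← Module.End.mul_apply, ← map_mul, ← map_mul,
      (U_comm_iff m).2 (by simp)]
  have h3 := heisenberg m hψ hσ (fun a b => (R (U m a b)).restrict (hW a b)) (fun a b c d => by
    ext v; simp [← U_mul]) (fun b => by
    ext v; simpa using v.2 b)
  rw [h2, mul_comm]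
  exact le_add_left (Nat.mul_le_mul_left _ h3)

end

/-- For the Suzuki group Sz(q), q = 2^(2m+1) with m ≥ 1 (realised inside Sp₄ over the field with q elements), every irreducible complex representation of degree at least 2 has degree at least 2^m·(q − 1). -/
theorem result {F : Type*} [Field F] [Fintype F] (m : ℕ) (hm : 1 ≤ m) (hF : Fintype.card F = 2 ^ (2 * m + 1)) :
    (∀ (k : ℕ) (ρ : Representation ℂ (Cfsg.Lie.Sz F (2 ^ (m + 1))) (Fin k → ℂ)), ρ.IsIrreducible → 2 ≤ k → 2 ^ m * (2 ^ (2 * m + 1) - 1) ≤ k) := by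
  have hsz := szField_of_card hm hF
  intro k R hR hk
  have h := aux m (R.comp (szEquiv m).toMonoidHom) fun h => ?_
  · simpa using h
  have h1 : (R.comp (szEquiv m).toMonoidHom).ker = ⊤ := by
    have := isSimpleGroup (F := F) m
    refine (Subgroup.Normal.eq_bot_or_eq_top inferInstance).resolve_left fun h2 => ?_
    have : U m 0 (1 : F) ∈ (R.comp (szEquiv m).toMonoidHom).ker := h
    rw [h2, Subgroup.mem_bot, U_eq_one_iff] at this
    exact one_ne_zero this.2
  have h2 : ∀ g, R g = 1 := fun g => by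
    have : (szEquiv m).symm g ∈ (R.comp (szEquiv m).toMonoidHom).ker := h1 ▸ Subgroup.mem_top _
    simpa using this
  let v : Fin k → ℂ := Pi.single ⟨0, by omega⟩ 1
  have hv : v ≠ 0 := fun h => by simpa [v] using congrFun h ⟨0, by omega⟩
  let S : Subrepresentation R := ⟨Submodule.span ℂ {v}, fun g u hu => by simpa [h2] using hu⟩
  rcases hR.eq_bot_or_eq_top S with h3 | h3
  · exact hv (Submodule.span_singleton_eq_bot.1 (congrArg Subrepresentation.toSubmodule h3))
  · have h4 := finrank_span_singleton (K := ℂ) hv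
    rw [show Submodule.span ℂ {v} = ⊤ from congrArg Subrepresentation.toSubmodule h3] at h4
    simp at h4
    omega

end Cfsg.Agent.S2337
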