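import Cfsg.Statements.S2338
import Cfsg.Agent.Lib.Exc.G2DegC
import Cfsg.Agent.Lib.Twist.RootG2
import Cfsg.Agent.Lib.Chev.TabG2
import Cfsg.Agent.Lib.Chev.Collect
import Cfsg.Agent.Lib.Twist.ReeDeg
import Cfsg.Agent.Lib.Char.Integral
import Cfsg.Agent.S1055
import Cfsg.Agent.S1059

set_option autoImplicit false
open Cfsg

namespace Cfsg.Agent.S2338

open Cfsg.Lib.Chev Cfsg.Lib.Twist Cfsg.Lib.G2Deg Cfsg.Lie

set_option synthInstance.maxSize 1000 in
theorem tab0 : ∀ r < 12, ∀ s < 12, chevG2.commTerms r s = ct r s := by decide +kernel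

theorem tab1' : ∀ r < 12, ∀ s < 12, prN chevG2 r s = pr r s ∧ rf r s < 12 ∧ chevG2.neg r = 11 - r ∧
    ∀ i < 2, Cfsg.Lib.Twist.rtN chevG2 tabG2 (rf r s) i = Cfsg.Lib.Twist.rtN chevG2 tabG2 s i - pr r s * Cfsg.Lib.Twist.rtN chevG2 tabG2 r i := by
  decide +kernel

theorem tab1 : ∀ r < 12, ∀ s < 12, chevG2.commTerms r s = ct r s ∧ prN chevG2 r s = pr r s ∧ rf r s < 12 ∧ chevG2.neg r = 11 - r ∧
    ∀ i < 2, Cfsg.Lib.Twist.rtN chevG2 tabG2 (rf r s) i = Cfsg.Lib.Twist.rtN chevG2 tabG2 s i - pr r s * Cfsg.Lib.Twist.rtN chevG2 tabG2 r i :=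
  fun r hr s hs => ⟨tab0 r hr s hs, tab1' r hr s hs⟩

theorem tab2 (r s : ℕ) (hr : r < 12) (hs : ¬ s < 12) : rf r s = s := by
  unfold rf
  interval_cases r <;> exact List.getD_eq_default _ _ (by simpa using hs)

/-- The root elements. -/
noncomputable def sG (F : Type*) [Field F] : G2S F (chevG2.group F) :=
  let S := rootOK_G2.compat.gsys matOK_G2 F
  have hS : S.St := rootOK_G2.compat.gst matOK_G2
  have hn : ∀ (r : Fin chevG2.nroots) t, nn S.xN r t = S.n r t := fun r t => by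
    rw [nn, ← (tab1 r r.2 r r.2).2.2.2.1, ← rootOK_G2.compat.neg_eq, PreSys.xN_coe, PreSys.xN_coe, PreSys.n]
  have h1 : ∀ s, ¬ s < 12 → ∀ u, S.xN s u = 1 := fun s hs u => dif_neg hs
  { x := S.xN
    x_add := S.xN_add
    x_inj := fun r hr t h => by
      lift r to Fin chevG2.nroots using hr
      exact (rootOK_G2.compat.gsep matOK_G2).x_inj (r := r) (by rw [← PreSys.xN_coe, h, S.x_zero])
    rel := fun r s h t u => by
      simp only [gd, Bool.and_eq_true, Nat.blt_eq, Bool.not_eq_true'] at h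
      obtain ⟨⟨h2, h3⟩, h4⟩ := h
      replace h4 := Nat.ne_of_beq_eq_false h4
      rcases eq_or_ne s r with rfl | h5
      · rw [kk, show ct s s = [] by interval_cases s <;> rfl, ← S.xN_add, ← S.xN_add, add_comm]; simp
      lift r to Fin chevG2.nroots using h2
      lift s to Fin chevG2.nroots using h3
      rw [kk, ← (tab1 r r.2 s s.2).1, PreSys.xN_coe, PreSys.xN_coe, rootOK_G2.compat.gexact matOK_G2 r s (fun e => h5 (congrArg Fin.val e))
        fun e => h4 (by have := (tab1 r r.2 r r.2).2.2.2.1; have : (r : ℕ) < 12 := r.2; rw [e, rootOK_G2.compat.neg_eq]; omega)]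
      exact congrArg _ (prod_map_filterMap_dite (fun r (c : ℤ × ℕ × ℕ) => S.x r (c.1 * (-t) ^ c.2.1 * u ^ c.2.2)) _).symm
    n_x := fun r hr s t ht => by
      by_cases hs : s < 12
      · obtain ⟨-, a1, a2, -, a3⟩ := tab1 r hr s hs
        lift r to Fin chevG2.nroots using hr
        lift s to Fin chevG2.nroots using hs
        obtain ⟨ε, a, -, -, b⟩ := hS r
        have h2 : rf r s = (rootOK_G2.R.refl r s : ℕ) := congrArg Fin.val (rootOK_G2.R.rt_inj (funext fun i => by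
          rw [rootOK_G2.R.rt_refl, rootOK_G2.compat.pair_eq, a1]; exact a3 i i.2) : (⟨_, a2⟩ : Fin chevG2.nroots) = _)
        exact ⟨_, mul_ne_zero (left_ne_zero_of_mul_eq_one (a s)) (zpow_ne_zero _ ht), fun u => by
          rw [h2, hn, PreSys.xN_coe, PreSys.xN_coe, ← b s t u ht, inv_mul_cancel_right]⟩
      · exact ⟨1, one_ne_zero, fun u => by rw [tab2 r s hr hs, h1 s hs, h1 s hs, mul_one, one_mul]⟩
    h_x := fun r hr s t ht u => by
      by_cases hs : s < 12
      · obtain ⟨-, a1, -⟩ := tab1 r hr s hs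
        lift r to Fin chevG2.nroots using hr
        lift s to Fin chevG2.nroots using hs
        rw [hh, hn, hn, ← PreSys.h, PreSys.xN_coe, PreSys.xN_coe, ← a1, ← rootOK_G2.compat.pair_eq, ← hS.h_conj r ht, inv_mul_cancel_right]
      · rw [h1 s hs, h1 s hs, mul_one, one_mul] }

theorem fin3 {y k : ℕ} (hy : 81 ≤ y) (h1 : y ^ 2 + y ≤ k + 2) (h2 : k ∣ y ^ 3 * (y - 1) * (y ^ 3 - 1)) : y ^ 2 + y + 1 ≤ k := by
  have h3 : (k : ℤ) ∣ (y : ℤ) ^ 3 * (y - 1) * (y ^ 3 - 1) := by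
    have := Int.natCast_dvd_natCast.2 h2
    rwa [Nat.cast_mul, Nat.cast_mul, Nat.cast_sub (by omega), Nat.cast_sub (Nat.one_le_pow _ _ (by omega)), Nat.cast_pow] at this
  by_contra! h
  have h4 : (k : ℤ) = (y + 2) * (y - 1) ∨ (k : ℤ) = y ^ 2 + y - 1 ∨ (k : ℤ) = y * (y + 1) := by
    zify at h h1; rcases lt_trichotomy (k : ℤ) (y ^ 2 + y - 1) with h5 | h5 | h5
    exacts [Or.inl (by linarith), Or.inr (Or.inl h5), Or.inr (Or.inr (by linarith))]
  have hy' : (81 : ℤ) ≤ y := by exact_mod_cast hy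
  generalize (y : ℤ) = x at h3 h4 hy'
  rcases h4 with e | e | e <;> rw [e] at h3
  · rw [mul_right_comm, mul_dvd_mul_iff_right (by omega)] at h3
    have := dvd_sub h3 (dvd_mul_right _ (x ^ 5 - 2 * x ^ 4 + 4 * x ^ 3 - 9 * x ^ 2 + 18 * x - 36))
    rw [show _ - _ = (72 : ℤ) by ring] at this
    exact absurd (Int.le_of_dvd (by omega) this) (by omega)
  · have := dvd_sub h3 (dvd_mul_right _ (x ^ 5 - 2 * x ^ 4 + 3 * x ^ 3 - 6 * x ^ 2 + 10 * x - 16))
    rw [show x ^ 3 * (x - 1) * (x ^ 3 - 1) - _ = 26 * x - 16 by ring] at this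
    exact absurd (Int.le_of_dvd (by omega) this) (by nlinarith)
  · have := dvd_sub (dvd_mul_right (x + 1) (x ^ 6 - 2 * x ^ 5 + 2 * x ^ 4 - 3 * x ^ 3 + 4 * x ^ 2 - 4 * x + 4))
      (Dvd.dvd.trans (Dvd.intro_left _ rfl) h3)
    rw [show _ - _ = (4 : ℤ) by ring] at this
    exact absurd (Int.le_of_dvd (by omega) this) (by omega)

/-- Lower bounds for the degrees of non-linear irreducible complex representations of the Chevalley group of type G₂ over a finite field with q elements: the degree is at least q³ + 1 when q ≡ 1 (mod 3) and q > 4, at least q³ − 1 when q ≡ 2 (mod 3) and q > 2, and at least q⁴ + q² + 1 when q ≡ 0 (mod 3) and q > 3. -/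
theorem result {F : Type*} [Field F] [Fintype F] (k : ℕ) (ρ : Representation ℂ (Cfsg.Lie.chevG2.group F) (Fin k → ℂ)) (hρ : ρ.IsIrreducible) (hk : 2 ≤ k) :
    (Fintype.card F % 3 = 1 → 4 < Fintype.card F → Fintype.card F ^ 3 + 1 ≤ k) ∧
    (Fintype.card F % 3 = 2 → 2 < Fintype.card F → Fintype.card F ^ 3 - 1 ≤ k) ∧
    (Fintype.card F % 3 = 0 → 3 < Fintype.card F → Fintype.card F ^ 4 + Fintype.card F ^ 2 + 1 ≤ k) := by
  have hψ := AddChar.FiniteField.primitiveChar_to_Complex_isPrimitive F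
  have hne : 2 < Fintype.card F → ∀ r < 12, ∃ t, ρ ((sG F).x r t) ≠ 1 := fun hq r hr => by
    obtain ⟨a, h1, h2⟩ := G2S.exists_poly (F := F) (n := 1) hq one_pos 1
    have := (S1055.result ⟨a, h1, by simpa using h2⟩).1
    by_contra! h
    rcases (MonoidHom.normal_ker ρ).eq_bot_or_eq_top with e | e
    · exact one_ne_zero ((sG F).x_inj r hr 1 (e.le (h 1)))
    · exact absurd (two_le_of_irr hρ fun g => e.ge (Subgroup.mem_top g)) (by omega)
  obtain ⟨p, hp⟩ := CharP.exists F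
  obtain ⟨n, h1, h2⟩ := FiniteField.card F p
  have h3 : (3 : F) = 0 → Fintype.card F % 3 = 0 := fun h => by
    rw [h2, ← (Nat.prime_dvd_prime_iff_eq h1 Nat.prime_three).1 ((CharP.cast_eq_zero_iff F p 3).1 (by exact_mod_cast h))]
    exact Nat.mod_eq_zero_of_dvd (dvd_pow_self _ n.ne_zero)
  refine ⟨fun a b => ?_, fun a b => ?_, fun a b => ?_⟩
  · have : Fact (Nat.Prime 3) := ⟨Nat.prime_three⟩
    classical
    obtain ⟨ω, hω⟩ := exists_prime_orderOf_dvd_card (G := Fˣ) 3 (by rw [Fintype.card_units]; omega)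
    simpa using (G2S.deg1 hψ (fun h => by have := h3 h; omega) b (hne (by omega) 6 (by omega))).2 ⟨ω, fun e => by
      simp [Units.val_eq_one.1 e] at hω, by rw [← hω, ← Units.val_pow_eq_pow_val, pow_orderOf_eq_one, Units.val_one]⟩
  · simpa using (G2S.deg1 hψ (fun h => by have := h3 h; omega) (by omega) (hne b 6 (by omega))).1
  · obtain rfl : 3 = p := (Nat.prime_dvd_prime_iff_eq Nat.prime_three h1).1
      (Nat.prime_three.dvd_of_dvd_pow (h2 ▸ Nat.dvd_of_mod_eq_zero a))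
    have h4 : 9 ≤ Fintype.card F := by
      rw [h2] at b ⊢
      exact Nat.pow_le_pow_right (n := 3) (i := 2) (by omega) ((Nat.pow_lt_pow_iff_right (a := 3) (n := 1) (by omega)).1 b)
    have h5 := G2S.deg3 hψ (CharP.cast_eq_zero F 3) h4 (hne (by omega) 11 (by omega))
    have h6 := S1059.result (F := F) rfl ▸ Cfsg.Lib.Char.Cfsg.IsIrrCharacter.degree_dvd_card ⟨k, ρ, hρ, rfl⟩ (n := k) (by simp)
    have := fin3 (y := Fintype.card F ^ 2) (k := k) (by nlinarith) (by simpa [← pow_mul] using h5) (by simpa only [← pow_mul] using h6)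
    simpa only [← pow_mul] using this

end Cfsg.Agent.S2338
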