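import Cfsg.Statements.S2339
import Cfsg.Agent.Lib.Exc.MinDeg8
import Cfsg.Agent.Lib.Exc.MinDegN
import Cfsg.Agent.Lib.Chev.TabE8
import Cfsg.Agent.Lib.Chev.LiftD
import Cfsg.Agent.S1054
import Cfsg.Agent.S1065

set_option autoImplicit false
open Cfsg

namespace Cfsg.Agent.S2339

open Cfsg.Lib.Chev Cfsg.Lib.Twist Cfsg.Lib.MinDeg Cfsg.Lie

/-- For the Chevalley group of type E₈ over a finite field with q elements, every irreducible complex representation of degree at least 2 has degree at least q(q¹² + 1)(q¹⁰ + 1)(q⁶ + 1). -/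
theorem result {F : Type*} [Field F] [Fintype F] (k : ℕ) (ρ : Representation ℂ (Cfsg.Lie.chevE8.group F) (Fin k → ℂ)) (hρ : ρ.IsIrreducible) (hk : 2 ≤ k) :
    Fintype.card F * (Fintype.card F ^ 12 + 1) * (Fintype.card F ^ 10 + 1) * (Fintype.card F ^ 6 + 1) ≤ k := by
  obtain ⟨q, hq⟩ : ∃ q, Fintype.card F = q + 1 + 1 := ⟨Fintype.card F - 2, by have := Fintype.one_lt_card (α := F); omega⟩
  have := (S1054.result (F := F) chevE8 (by simp)).1
  rcases deg_triv (h := rootOK_E8) (rootOK_E8.compat.gst matOK_E8) (rootOK_E8.compat.gsep matOK_E8)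
    (rootOK_E8.compat.sl_of_dec (by decide +kernel)) le_rfl hρ hk aE8 eE8 hE8 bE8 hq with ⟨h, -⟩ | h
  · refine finE8 Fintype.isPrimePow_card_of_field (le_of_eq_of_le ?_ (Nat.add_le_add_right h 8))
      (S1065.result (F := F) rfl ▸ Cfsg.Lib.Char.Cfsg.IsIrrCharacter.degree_dvd_card ⟨k, ρ, hρ, rfl⟩ (by simp))
    rw [hq]
    generalize q + 1 = m
    simp only [List.map, List.sum_cons, List.sum_nil]
    ring
  · refine le_trans ?_ h
    rw [hq]
    ring_nf
    omega

end Cfsg.Agent.S2339
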