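import Cfsg.Statements.S2340
import Cfsg.Agent.Lib.Exc.MinDeg6
import Cfsg.Agent.Lib.Exc.MinDegN
import Cfsg.Agent.Lib.Chev.LiftD
import Cfsg.Agent.Lib.Chev.Chain
import Cfsg.Agent.Lib.Linear.Card
import Cfsg.Agent.S1054
import Cfsg.Agent.S1063

set_option autoImplicit false
open Cfsg

namespace Cfsg.Agent.S2340

open Cfsg.Lib.Chev Cfsg.Lib.Twist Cfsg.Lib.MinDeg Cfsg.Lie Cfsg.Lib Subgroup PreSys

theorem dvd_cent {F : Type*} [Field F] [Fintype F] (h : Nat.card F = 2 ∨ Nat.card F = 4) :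
    31 ∣ Nat.card (centralizer {(sE6 F).x (rootOK_E6.rr 71) 1}) := by
  have hR : RE6.SL := compat_E6.sl_of_dec (by decide +kernel)
  have hF := compat_E6.gsep matOK_E6 (F := F)
  obtain ⟨ρ, hρ⟩ := (compat_E6.gst matOK_E6 (F := F)).exists_chain hF (k := 4) (j := ![n6 0, n6 2, n6 3, n6 4]) fun a b => by
    rw [Linear.Eu.R_A]; revert a b; simp only [RE6, rootOK_E6.R_A]; decide +kernel
  have h1 : ∀ b, RE6.pair (RE6.simple (![n6 0, n6 2, n6 3, n6 4] b)) (rootOK_E6.rr 71) = 0 := fun b => by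
    rw [compat_E6.pair_eq, compat_E6.simple_eq]; revert b; decide +kernel
  have h2 : ρ.range ≤ centralizer {(sE6 F).x (rootOK_E6.rr 71) 1} := by
    have a1 : ∀ b t, (Linear.sysA 4 F).x ((Linear.euA 4).R.simple b) t ∈ (centralizer {(sE6 F).x (rootOK_E6.rr 71) 1}).comap ρ :=
      fun b t => mem_centralizer_singleton_iff.2 ((hρ b t).1 ▸ commute_of_sl _ hR (h1 b).ge _ _)
    rintro _ ⟨g, rfl⟩
    refine (Linear.sysA_st.univ_le_of_simple (X := (centralizer _).comap ρ) (fun b => mul_mem (mul_mem (a1 _ _) ?_) (a1 _ _)) a1)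
      (Linear.sysA_gen.ge (mem_top g))
    exact mem_centralizer_singleton_iff.2 ((hρ b _).2 ▸ commute_of_sl _ hR (by rw [RE6.pair_neg_left, h1]; rfl) _ _)
  have h3 := (Linear.sl_normal_le_center_or_eq_top (.inl (by simp)) ρ.ker).resolve_right fun e =>
    one_ne_zero (hF.x_eq_one ((hρ 0 1).1.symm.trans (e.ge (mem_top _))))
  have h4 := card_dvd_of_le h3
  have h5 := Linear.card_SL_aux (ι := Fin 5) (F := F)
  rw [Linear.card_center_SL] at h4
  rw [Linear.card_GL, ← ρ.ker.card_mul_index, index_ker] at h5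
  refine Dvd.dvd.trans ?_ (card_dvd_of_le h2)
  have h6 : ρ.ker = ⊥ := card_eq_one.1 (by rcases h with h | h <;> rw [h] at h4 <;> exact Nat.dvd_one.1 h4)
  rw [h6, card_bot, Fintype.card_fin, Fin.prod_univ_five] at h5
  rcases h with h | h <;> rw [h] at h5 <;> generalize Nat.card ρ.range = m at h5 <;> simp at h5 <;> omega

/-- For the Chevalley group of type E₆ over a finite field with q elements (the group generated by the root elements), every irreducible complex representation of degree at least 2 has degree at least q(q⁶ + q³ + 1)(q⁴ + 1). -/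
theorem result {F : Type*} [Field F] [Fintype F] :
    (∀ (k : ℕ) (ρ : Representation ℂ (Cfsg.Lie.chevE6.group F) (Fin k → ℂ)), ρ.IsIrreducible → 2 ≤ k → Fintype.card F * (Fintype.card F ^ 6 + Fintype.card F ^ 3 + 1) * (Fintype.card F ^ 4 + 1) ≤ k) := by
  intro k ρ hρ hk
  obtain ⟨q, hq⟩ : ∃ q, Fintype.card F = q + 1 + 1 := ⟨Fintype.card F - 2, by have := Fintype.one_lt_card (α := F); omega⟩
  have := (S1054.result (F := F) chevE6 (by simp)).1
  have h0 := S1063.result (F := F) rfl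
  rcases deg_triv (h := rootOK_E6) (compat_E6.gst matOK_E6) (compat_E6.gsep matOK_E6)
    (compat_E6.sl_of_dec (by decide +kernel)) (by decide) hρ hk aE6 eE6 hE6 bE6 hq with ⟨h, h1⟩ | h
  · refine finE6 Fintype.isPrimePow_card_of_field (le_of_eq_of_le ?_ (Nat.add_le_add_right h 6))
      (h0 ▸ (Cfsg.Lib.Char.Cfsg.IsIrrCharacter.degree_dvd_card ⟨k, ρ, hρ, rfl⟩ (by simp)).mul_left _) fun h2 =>
      not_dvd_deg hρ hk (m := (q + 1 + 1) ^ 11) (by norm_num) (h1.trans (by norm_cast)) (dvd_cent (by simpa using h2)) (fun h3 => ?_) ?_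
    · rw [hq]
      generalize q + 1 = m
      simp only [List.map, List.sum_cons, List.sum_nil]
      ring
    · have := h0 ▸ h3.mul_left _
      rcases h2 with h2 | h2 <;> rw [h2] at this <;> norm_num at this
    · rcases h2 with h2 | h2 <;> rw [← hq, h2] <;> norm_num
  · refine le_trans ?_ h
    rw [hq]
    ring_nf
    omega

end Cfsg.Agent.S2340
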