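import Cfsg.Statements.S2341
import Cfsg.Agent.Lib.Exc.MinDegT
import Cfsg.Agent.Lib.Exc.MinDegN
import Cfsg.Agent.Lib.Chev.LiftD

set_option autoImplicit false
open Cfsg

namespace Cfsg.Agent.S2341

open Cfsg.Lib.Chev Cfsg.Lib.Twist Cfsg.Lib.MinDeg Cfsg.Lie Cfsg.Lib Subgroup PreSys

theorem tr_surj {K : Type*} [Field K] [Fintype K] {q : ℕ} (hq : 1 < q) (hK : Fintype.card K = q ^ 2) (φ : K →+* K)
    (h : ∀ t, φ t = t ^ q) (s : K) (hs : φ s = s) : ∃ p, p + φ p = s := by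
  obtain ⟨c, hc⟩ : ∃ c : K, c + φ c ≠ 0 := by
    by_contra! e
    have := Polynomial.eq_zero_of_natDegree_lt_card_of_eval_eq_zero (Polynomial.X + Polynomial.X ^ q)
      Function.injective_id (fun c => by simpa [h] using e c) (lt_of_le_of_lt (b := q) (by
        compute_degree; omega) (by rw [hK]; nlinarith))
    simpa [Polynomial.coeff_X, hq.ne] using congrArg (Polynomial.coeff · 1) this
  have h2 : φ (φ c) = c := by rw [h, h, ← pow_mul, ← sq, ← hK, FiniteField.pow_card]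
  exact ⟨c * s / (c + φ c), by
    rw [map_div₀, map_mul, map_add, h2, hs, add_comm (φ c), ← add_div, ← add_mul, mul_div_cancel_left₀ _ hc]⟩

theorem chk : ∀ r < 72, lk rhoE6 (lk rhoE6 r) = r ∧ bt epsE6 (lk rhoE6 r) = bt epsE6 r ∧
    (lk rhoE6 r = r → bt epsE6 r = false) ∧ nn tabE6 r (lk rhoE6 r) = true := by decide +kernel

/-- The twist. -/
noncomputable def tw {K : Type*} [Field K] [Fintype K] {q : ℕ} (hq : 1 < q) (hK : Fintype.card K = q ^ 2) (d : E6Data K q) :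
    Tw2 rootOK_E6 (sE6 K) rhoE6 where
  st := d.X.st
  sep := d.X.sep
  sl := compat_E6.sl_of_dec (by decide +kernel)
  σ := d.X.σ
  φ := d.X.φ (rootOK_E6.rr 0)
  ρ := d.T.ρ
  ε := d.X.ε
  ρ_val := d.ρ_val
  σ_x r s := by rw [d.X.σ_x, d.φ_eq, d.φ_eq]
  σσ r s := by
    rw [d.X.σ_x, d.X.σ_x, map_mul, d.φφ hK, d.ε_eq, d.ε_eq, d.ρ_val, (chk r r.2).2.1, map_intCast, ← mul_assoc, ← Int.cast_mul, sgn_sq,
      show d.T.ρ (d.T.ρ r) = r from Fin.ext (by rw [d.ρ_val, d.ρ_val]; exact (chk r r.2).1), Int.cast_one, one_mul]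
  ρρ r := Fin.ext (by rw [d.ρ_val, d.ρ_val]; exact (chk r r.2).1)
  ρ_neg := d.T.ρ_neg
  ε_fix r e := by rw [d.ε_eq, (chk r r.2).2.2.1 (by rw [← d.ρ_val, e])]; simp [sgn]
  comm r := nn_spec rootOK_E6 (compat_E6.sl_of_dec (by decide +kernel)) _ (by rw [d.ρ_val]; exact (chk r r.2).2.2.2)
  short _ _ := ⟨by
    rw [Nat.card_eq_fintype_card, hK]
    exact congrArg (· ^ 2) ((card_fixed hq hK).2.symm.trans (Nat.card_congr (Equiv.subtypeEquivRight fun t => by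
      rw [← d.φ_eq (rootOK_E6.rr 0)]; rfl))),
    tr_surj hq hK _ (d.φ_eq _)⟩

/-- For the twisted group ²E₆(q), realised over the field with q² elements (q a prime power), every irreducible complex representation of degree at least 2 has degree at least q(q⁶ − q³ + 1)(q⁴ + 1). -/
theorem result {K : Type*} [Field K] [Fintype K] (q : ℕ) (hq : IsPrimePow q) (hK : Fintype.card K = q ^ 2) :
    (∀ (k : ℕ) (ρ : Representation ℂ (Cfsg.Lie.twistedE6 K q) (Fin k → ℂ)), ρ.IsIrreducible → 2 ≤ k → q * (q ^ 6 - q ^ 3 + 1) * (q ^ 4 + 1) ≤ k) := by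
  intro k ρ hρ hk
  obtain ⟨d⟩ := exists_E6Data hq hK
  have h1 := hq.one_lt
  have := (d.simple hK h1).1
  obtain ⟨q, rfl⟩ : ∃ n, q = n + 1 + 1 := ⟨q - 2, by omega⟩
  have h0 := d.card_G hK h1
  have h2 : (q + 1 + 1) ^ 6 - (q + 1 + 1) ^ 3 = (q + 1 + 1) ^ 3 * ((q + 1) * ((q + 1 + 1) ^ 2 + (q + 1 + 1) + 1)) :=
    Nat.sub_eq_of_eq_add (by ring)
  rcases (tw h1 hK d).deg (d.equiv hK) hρ hk aT eT hT bT (Fin.ext ((d.ρ_val _).trans (by decide +kernel))) (q := q + 1)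
    (Nat.card_eq_fintype_card.symm.trans ((Nat.card_congr (Equiv.subtypeEquivRight fun t => by
      rw [← d.φ_eq (rootOK_E6.rr 0)]; rfl)).trans (card_fixed h1 hK).2)) with ⟨h, -⟩ | h
  · refine finT hq (le_of_eq_of_le ?_ (Nat.add_le_add_right h 2))
      (h0 ▸ (Cfsg.Lib.Char.Cfsg.IsIrrCharacter.degree_dvd_card ⟨k, ρ, hρ, rfl⟩ (by simp)).mul_left _)
    rw [h2]
    simp only [List.map, List.sum_cons, List.sum_nil]
    ring
  · refine le_trans ?_ h
    rw [h2]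
    ring_nf
    omega

end Cfsg.Agent.S2341
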