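import Cfsg.Statements.S2345
import Cfsg.Agent.Lib.Stein.MinO7

set_option autoImplicit false
open Cfsg

namespace Cfsg.Agent.S2345
open Cfsg.Lib.Forms Cfsg.Lib.Stein.MinO Finset

/-- For a finite field F with q > 3 elements and n ≥ 4, every irreducible complex representation of degree at least 2 of Ω⁺_{2n}(F) (the commutator subgroup of the isometry group of the hyperbolic quadratic form x₁y₁ + ⋯ + x_ny_n) has degree at least (q^n − 1)(q^{n−1} + q)/(q² − 1). -/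
theorem result {F : Type*} [Field F] [Fintype F] (n : ℕ) (hn : 4 ≤ n) (h3 : 3 < Fintype.card F) :
    (∀ (k : ℕ) (ρ : Representation ℂ (Cfsg.Omega F (Cfsg.quadFormPlus n F)) (Fin k → ℂ)), ρ.IsIrreducible → 2 ≤ k → (Fintype.card F ^ n - 1) * (Fintype.card F ^ (n - 1) + Fintype.card F) / (Fintype.card F ^ 2 - 1) ≤ k) := by
  classical
  intro k ρ hρ hk
  obtain ⟨m, rfl⟩ : ∃ m, n = m + 1 := ⟨n - 1, by omega⟩
  have : Big (fPlus F (m + 1)) := ⟨fPlus_nondeg _, by rw [finrank_plus]; omega⟩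
  have := Form.finite_isom (D := fPlus F (m + 1))
  have := Fintype.ofFinite (commutator (fPlus F (m + 1)).isom)
  have : Nonempty (Fin k) := ⟨⟨0, by omega⟩⟩
  obtain ⟨t, t0, t1⟩ := exists_sq_ne h3
  have M := main (frPlus (m + 1)) (m := m) (by simp) (by omega) (Or.inl ⟨t, t0, t1⟩)
    (fixed_eq_zero hρ hk (omegaIso (fPlus F (m + 1)) rfl)) rfl (A := 1) (by simp) (Fintype.card_fin k)
  generalize Fintype.card F = q at *
  have h1 : q ^ 3 ≤ q ^ m := Nat.pow_le_pow_right (by omega) (by omega)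
  have h2 : 1 ≤ q ^ m := Nat.one_le_pow _ _ (by omega)
  have h4 : 1 ≤ q ^ (m + 1) := Nat.one_le_pow _ _ (by omega)
  have h5 : 1 ≤ q ^ 2 := Nat.one_le_pow _ _ (by omega)
  refine Nat.div_le_of_le_mul ?_
  rw [Nat.add_sub_cancel]
  rcases M with M | ⟨s, c, e1, e2, -, e3⟩ | ⟨M, -⟩
  · zify [h2, h4, h5] at M h1 h3 ⊢
    rw [pow_succ']
    generalize (q : ℤ) ^ m = h at *
    refine le_of_mul_le_mul_left (a := (q : ℤ)) ?_ (by omega)
    have a1 : (0 : ℤ) ≤ q ^ 2 - 4 := by nlinarith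
    have a2 := mul_le_mul_of_nonneg_left M (show (0 : ℤ) ≤ q ^ 2 - 1 by omega)
    have a3 : (0 : ℤ) ≤ h := le_trans (by positivity) h1
    have a4 : (q : ℤ) ^ 3 + 2 * q ^ 2 ≤ (q ^ 2 - 2) * h := by nlinarith
    nlinarith [mul_le_mul_of_nonneg_left a4 a3]
  · obtain ⟨a1, a2⟩ := arith (by omega) e1
    have e3 := e3 (by omega)
    generalize ∑ i ∈ range (m + 1), q ^ i = P at *
    zify [h4, h5] at e2 e3 h3 ⊢
    rw [pow_succ']
    have a3 : (0 : ℤ) ≤ q ^ 2 - 1 := by nlinarith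
    nlinarith [mul_le_mul_of_nonneg_left e2 a3, mul_le_mul_of_nonneg_left e3 a3]
  · exact absurd (M t t0) t1

end Cfsg.Agent.S2345
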