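import Cfsg.Statements.S2346
import Cfsg.Agent.Lib.Stein.MinO7

set_option autoImplicit false
open Cfsg

namespace Cfsg.Agent.S2346
open Cfsg.Lib.Forms Cfsg.Lib.Stein.MinO Finset

/-- For a finite field F with q elements, n ≥ 4, and a, b ∈ F with z₁² + a z₁z₂ + b z₂² anisotropic, every irreducible complex representation of degree at least 2 of Ω⁻_{2n}(F) (the commutator subgroup of the isometry group of x₁y₁ + ⋯ + x_{n−1}y_{n−1} + z₁² + a z₁z₂ + b z₂²) has degree at least (q^n + 1)(q^{n−1} − q)/(q² − 1). -/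
theorem result {F : Type*} [Field F] [Fintype F] (n : ℕ) (hn : 4 ≤ n) (a b : F) (hab : ∀ z₁ z₂ : F, z₁ ^ 2 + a * z₁ * z₂ + b * z₂ ^ 2 = 0 → z₁ = 0 ∧ z₂ = 0) :
    (∀ (k : ℕ) (ρ : Representation ℂ (Cfsg.Omega F (Cfsg.quadFormMinus (n - 1) F a b)) (Fin k → ℂ)), ρ.IsIrreducible → 2 ≤ k → (Fintype.card F ^ n + 1) * (Fintype.card F ^ (n - 1) - Fintype.card F) / (Fintype.card F ^ 2 - 1) ≤ k) := by
  classical
  intro k ρ hρ hk
  obtain ⟨m, rfl⟩ : ∃ m, n = m + 2 := ⟨n - 2, by omega⟩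
  have : Big (fMinus (m + 1) a b) := ⟨fMinus_nondeg _ hab, by rw [finrank_minus]; omega⟩
  have := Form.finite_isom (D := fMinus (m + 1) a b)
  have := Fintype.ofFinite (commutator (fMinus (m + 1) a b).isom)
  have : Nonempty (Fin k) := ⟨⟨0, by omega⟩⟩
  have M := main (frMinus (m + 1) hab) (m := m) (by simp) (by omega) (Or.inr (by
      rw [finrank_minus]
      by_cases e : m = 2
      · subst e
        exact Or.inr ⟨rfl, fMinus_not_hasTS 3 hab⟩
      · omega))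
    (fixed_eq_zero hρ hk (omegaIso (fMinus (m + 1) a b) rfl)) rfl (A := Fintype.card F ^ 2) (by simp) (Fintype.card_fin k)
  have hc : ∀ x : F, x ≠ 0 → Nat.card {u // (fMinus (m + 1) a b).Q ((frMinus (m + 1) hab).k u) = x} = Fintype.card F + 1 :=
    fun x hx => by
      rw [← Nat.card_eq_fintype_card, ← Quad.card_Q_eq_of_aniso (fBin_aniso_iff.2 hab) (by simp) hx]
      simp [frMinus, fMinus_Q, quadFormMinus, fBin_Q]
  have h3 : 2 ≤ Fintype.card F := Fintype.one_lt_card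
  generalize Fintype.card F = q at *
  have h1 : q ^ 2 ≤ q ^ m := Nat.pow_le_pow_right (by omega) (by omega)
  have h2 : 1 ≤ q ^ m := Nat.one_le_pow _ _ (by omega)
  have h4 : q ≤ q ^ (m + 1) := Nat.le_self_pow (by omega) _
  have h5 : 1 < q ^ 2 := Nat.one_lt_pow (by omega) h3
  refine Nat.div_le_of_le_mul ?_
  rw [show m + 2 - 1 = m + 1 from rfl]
  have a3 : (0 : ℤ) ≤ q ^ 2 - 1 := by zify at h5; omega
  rcases M with M | ⟨s, c, e1, e2, e3, -⟩ | ⟨-, x, hx, n, e0, e1, e2⟩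
  · zify [h2, h4, h5.le] at M h1 h3 h2 ⊢
    rw [pow_succ' _ (m + 1), pow_succ' _ m]
    generalize (q : ℤ) ^ m = h at *
    have a0 : 2 * ((h - 1) * q * h) ≤ k := le_of_mul_le_mul_left (a := (q : ℤ)) (by linarith) (by omega)
    have a1 : (0 : ℤ) ≤ q ^ 2 - 4 := by nlinarith
    have a2 := mul_le_mul_of_nonneg_left a0 a3
    have a4 : 1 ≤ ((q : ℤ) ^ 2 - 2) * h := by nlinarith
    nlinarith [mul_le_mul_of_nonneg_left a4 (show 0 ≤ (h - 1) * q from mul_nonneg (by omega) (by omega))]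
  · obtain ⟨a1, a2⟩ := arith h3 e1
    generalize ∑ i ∈ range (m + 1), q ^ i = P at *
    zify [h4, h5.le] at e2 e3 h3 ⊢
    rw [pow_succ' _ (m + 1), pow_succ' _ m]
    nlinarith [mul_le_mul_of_nonneg_left e2 a3, mul_le_mul_of_nonneg_left e3 a3,
      mul_le_mul_of_nonneg_left a1 (show (0 : ℤ) ≤ q ^ 2 by positivity)]
  rw [hc x hx] at e0
  subst e0
  by_cases e : m = 2
  · subst e
    zify [h4, h5.le] at e1 h3 ⊢
    simp only [Nat.reduceAdd]
    have a0 : ((q : ℤ) ^ 2 - 1) * q * q ^ 2 + q ^ 2 * (q + 1) ≤ k := le_of_mul_le_mul_left (a := (q : ℤ)) (by linarith) (by omega)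
    nlinarith [mul_le_mul_of_nonneg_left a0 a3, mul_le_mul_of_nonneg_left (show (q : ℤ) ≤ q ^ 2 by nlinarith) a3]
  obtain ⟨s, c, e1, e2, e3⟩ := e2 h5 (by omega)
  obtain ⟨a1, -⟩ := arith h3 e1
  zify [h4, h5.le] at e2 e3 h3 h2 ⊢
  rw [pow_succ' _ (m + 1), pow_succ' _ m]
  generalize (q : ℤ) ^ m = h at *
  have a4 : (q : ℤ) * (h - 1) ≤ (q ^ 2 - 1) * h := by nlinarith [mul_nonneg (show (0 : ℤ) ≤ q ^ 2 - 1 - q by nlinarith) (show 0 ≤ h by omega)]
  nlinarith [mul_le_mul_of_nonneg_left e2 a3, mul_le_mul_of_nonneg_left e3 a3,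
    mul_le_mul_of_nonneg_left a1 (show (0 : ℤ) ≤ q ^ 2 by positivity), mul_le_mul_of_nonneg_left a4 (show (0 : ℤ) ≤ q + 1 by omega)]

end Cfsg.Agent.S2346
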