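import Cfsg.Statements.S2347
import Cfsg.Agent.Lib.Conj.Weil

set_option autoImplicit false
open Cfsg

namespace Cfsg.Agent.S2347

open Cfsg.Lib.Conj Cfsg.Lib.Forms Cfsg.Lib.Forms.Form Module


/-- Smallest degree of a non-linear irreducible complex representation of the symplectic group Sp_{2n} over a finite field of odd order q, n ≥ 2: every irreducible complex representation of degree at least 2 has degree at least (q^n − 1)/2, and there is an irreducible complex representation of exactly that degree (a Weil representation). -/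
theorem result {F : Type*} [Field F] [Fintype F] [DecidableEq F] (n : ℕ) (hn : 2 ≤ n) (hodd : Odd (Fintype.card F)) :
    (∀ (k : ℕ) (ρ : Representation ℂ (Matrix.symplecticGroup (Fin n) F) (Fin k → ℂ)), ρ.IsIrreducible → 2 ≤ k → (Fintype.card F ^ n - 1) / 2 ≤ k) ∧
    (∃ ρ : Representation ℂ (Matrix.symplecticGroup (Fin n) F) (Fin ((Fintype.card F ^ n - 1) / 2) → ℂ), ρ.IsIrreducible) := by
  have hF : (2 : F) ≠ 0 := Ring.two_ne_zero fun h => by
    have := FiniteField.even_card_iff_char_two.1 h
    rw [Nat.odd_iff] at hodd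
    omega
  have hn2 : finrank F (Fin n ⊕ Fin n → F) = 2 * n := by simp [two_mul]
  have hq := Fintype.one_lt_card (α := F)
  have hp : (ringChar F : ℂ) ≠ 0 := by exact_mod_cast CharP.ringChar_ne_zero_of_finite F
  refine ⟨fun k ρ hρ hk => ?_, ?_⟩
  · rcases (Symp.normal_and_simple (fSymp_nondeg (F := F) n) (by omega) (Symp.commutator_eq_top
      (fSymp_nondeg n) (.inr (.inl ⟨hF, by omega⟩)))).1
      (ρ.comp (spEquiv F n).symm.toMonoidHom).ker inferInstance with h | h
    · have h1 := sp_bound_odd (fSymp_nondeg n) hn2 hn hp hF _ h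
      rw [Nat.card_eq_fintype_card, finrank_fin_fun] at h1
      exact Nat.div_le_of_le_mul (mul_comm k _ ▸ h1)
    · have := le_one_of_trivial hρ fun g => by
        simpa using (h ▸ Subgroup.mem_top (spEquiv F n g) :
          spEquiv F n g ∈ (ρ.comp (spEquiv F n).symm.toMonoidHom).ker)
      omega
  have hψ : AddChar.FiniteField.primitiveChar_to_Complex F ≠ 1 := fun h =>
    AddChar.FiniteField.primitiveChar_to_Complex_isPrimitive F one_ne_zero (by simpa using h)
  have hH := heis_schr (n := n) _ hF hψ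
  obtain ⟨ω, hω⟩ := hH.exists_weil (fSymp_nondeg n)
  obtain ⟨e, c, he, hc⟩ := weil_tv_ne _ hF hψ hn hω (ε := -1) (by simp)
  have h1 := hH.two_mul_finrank.2
  rw [finrank_schr, Nat.card_eq_fintype_card] at h1
  let E : (par F n).eigenspace (-1) ≃ₗ[ℂ] (Fin ((Fintype.card F ^ n - 1) / 2) → ℂ) :=
    LinearEquiv.ofFinrankEq _ _ (by rw [finrank_fin_fun]; omega)
  let ρ := Representation.subrepresentation ω ((par F n).eigenspace (-1)) fun g w hw =>
    End.mem_eigenspace_iff.2 (by
      have := LinearMap.congr_fun (hH.comm_P (T := ω.toHomUnits g) (hω g)) w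
      rw [End.mul_apply, End.mem_eigenspace_iff.1 hw, map_smul] at this
      exact this.symm)
  have h2 : ∀ {M : Type} [AddCommGroup M] [Module ℂ M] [FiniteDimensional ℂ M]
      (R : Matrix.symplecticGroup (Fin n) F →* End ℂ M),
      R ((spEquiv F n).symm (Symp.tv _ e c)) ≠ 1 →
      finrank ℂ (Fin ((Fintype.card F ^ n - 1) / 2) → ℂ) ≤ finrank ℂ M := fun R hR => by
    have h3 := sp_bound_odd' (fSymp_nondeg n) hn2 hn hp hF
      (R.comp (spEquiv F n).symm.toMonoidHom) he hR
    rw [Nat.card_eq_fintype_card] at h3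
    rw [finrank_fin_fun]
    omega
  refine ⟨(E.conjAlgEquiv ℂ).toMonoidHom.comp (ρ.comp (spEquiv F n).toMonoidHom),
    isIrreducible_of_min _ (t := (spEquiv F n).symm (Symp.tv _ e c))
      (CharP.ringChar_ne_zero_of_finite F) ?_ (fun h => hc 1 fun f hf => ?_) (fun _ => h2)
      fun _ => h2⟩
  · have h3 : ∀ m : ℕ, Symp.tv (fSymp F n) e c ^ m = Symp.tv _ e (m * c) := fun m => by
      induction m with
      | zero => simp [Symp.tv_zero]
      | succ m ih => rw [pow_succ, ih, ← Symp.tv_add, Nat.cast_succ, add_one_mul]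
    rw [← map_pow, h3, ringChar.Nat.cast_ringChar, zero_mul, Symp.tv_zero, map_one]
  · have h3 : ρ (Symp.tv _ e c) = 1 := (E.conjAlgEquiv ℂ).injective (by simpa using h)
    rw [one_smul]
    exact congrArg Subtype.val (LinearMap.congr_fun h3 ⟨f, hf⟩)

end Cfsg.Agent.S2347
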