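import Cfsg.Statements.S2354
import Cfsg.Agent.Lib.BN.SzModel
import Mathlib.GroupTheory.FreeGroup.Reduce

set_option autoImplicit false
open Cfsg

namespace Cfsg.Agent.S2354

open Cfsg.Lib.BN.Sz Polynomial Matrix

/-- exponent attached to a letter -/
def ex (x : ℕ × Bool) : ℕ := 2 * x.1 + cond x.2 1 2

theorem step {F : Type*} [Field F] {N : ℕ} (hN : 2 ≤ N) {e : F[X]} (he : 1 ≤ e.natDegree)
    {v : Fin 4 → F[X]} (h0 : v 0 ≠ 0) (h : ∀ i, (v i).natDegree ≤ (v 0).natDegree) :
    (v 3 + e * v 1 + e ^ N * v 0).natDegree = N * e.natDegree + (v 0).natDegree ∧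
      (v 2 + e * v 0).natDegree ≤ N * e.natDegree + (v 0).natDegree := by
  have he0 : e ≠ 0 := by rintro rfl; simp at he
  have h1 : (e ^ N * v 0).natDegree = N * e.natDegree + (v 0).natDegree := by
    rw [natDegree_mul (pow_ne_zero _ he0) h0, natDegree_pow]
  have h2 : (e * v 1).natDegree ≤ e.natDegree + (v 0).natDegree :=
    natDegree_mul_le.trans (by have := h 1; omega)
  have h3 : (e * v 0).natDegree ≤ e.natDegree + (v 0).natDegree := natDegree_mul_le
  have h4 : 2 * e.natDegree ≤ N * e.natDegree := Nat.mul_le_mul_right _ hN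
  constructor
  · rw [natDegree_add_eq_right_of_natDegree_lt, h1]
    rw [h1]
    have := natDegree_add_le (v 3) (e * v 1)
    have := h 3
    omega
  · have := natDegree_add_le (v 2) (e * v 0)
    have := h 2
    omega

theorem deg_add {F : Type*} [Field F] {i j : ℕ} (hi : 1 ≤ i) (hj : 1 ≤ j) (hij : i ≠ j) :
    ((X : F[X]) ^ i + X ^ j).natDegree = max i j := by
  rcases lt_or_gt_of_ne hij with h | h
  · rw [natDegree_add_eq_right_of_natDegree_lt (by simpa using h), natDegree_X_pow]; omega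
  · rw [natDegree_add_eq_left_of_natDegree_lt (by simpa using h), natDegree_X_pow]; omega

variable {F : Type*} [Field F] (m : ℕ) [hF : SzField F m]

/-- the substitution -/
noncomputable def sb (t : F) (i : ℕ) : Cfsg.Sz F m := U m 0 (t ^ (2 * i + 1)) * w F m * U m 0 (t ^ (2 * i + 2))

theorem letter (t : F) (x : ℕ × Bool) : cond x.2 (sb m t x.1) (sb m t x.1)⁻¹ =
    U m 0 (t ^ ex x) * w F m * U m 0 (t ^ ex (x.1, !x.2)) := by
  obtain ⟨i, _ | _⟩ := x
  · simp [sb, ex, U_inv, w_inv, mul_assoc]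
  · simp [sb, ex]

theorem Uw_mulVec (b : F) (u : Fin 4 → F) : (U m 0 b * w F m).1.1 *ᵥ u =
    ![u 3 + b * u 1 + b ^ 2 ^ (m + 1) * u 0, u 2 + b * u 0, u 1, u 0] := by
  have : (U m 0 b * w F m).1.1 = Umat m 0 b * suzukiForm F := rfl
  rw [this, ← mulVec_mulVec]
  have hu : u = ![u 0, u 1, u 2, u 3] := by ext i; fin_cases i <;> rfl
  rw [hu, wmat_mulVec]
  ext i
  fin_cases i <;> simp [Umat, mulVec, dotProduct, Fin.sum_univ_succ, f_def, σ_def, add_assoc]

theorem main (D : ℕ) (L : List (ℕ × Bool)) : ∀ x : ℕ × Bool, FreeGroup.IsReduced (x :: L) →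
    (∀ y ∈ x :: L, y.1 ≤ D) → ∃ v : Fin 4 → F[X], v 0 ≠ 0 ∧ (∀ i, (v i).natDegree ≤ (v 0).natDegree) ∧
      (v 0).natDegree ≤ 2 ^ (m + 1) * ((2 * D + 2) * L.length) ∧ ∀ t : F,
      (((x :: L).map fun y => cond y.2 (sb m t y.1) (sb m t y.1)⁻¹).prod).1.1 *ᵥ ![1, 0, 0, 0] =
        (U m 0 (t ^ ex x) * w F m).1.1 *ᵥ fun i => (v i).eval t := by
  induction L with
  | nil =>
    intro x _ _
    refine ⟨![1, 0, 0, 0], by simp, fun i => by fin_cases i <;> simp, by simp, fun t => ?_⟩
    rw [List.map_singleton, List.prod_singleton, letter]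
    have : ∀ g h : Cfsg.Sz F m, (g * h).1.1 = g.1.1 * h.1.1 := fun _ _ => rfl
    rw [this, ← mulVec_mulVec, coe_U, Umat_mulVec_inf]
    congr 1
    ext i; fin_cases i <;> simp
  | cons y L ih =>
    intro x hr hD
    rw [FreeGroup.isReduced_cons_cons] at hr
    obtain ⟨v, h0, h1, h2, h3⟩ := ih y hr.2 fun z hz => hD z (List.mem_cons_of_mem _ hz)
    have hne : ex (x.1, !x.2) ≠ ex y := by
      obtain ⟨i, b⟩ := x
      obtain ⟨j, c⟩ := y
      have := hr.1
      cases b <;> cases c <;> simp [ex] at this ⊢ <;> omega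
    have hp : ∀ z, 1 ≤ ex z := fun z => by obtain ⟨i, _ | _⟩ := z <;> simp [ex]
    have hq : ∀ z : ℕ × Bool, z.1 ≤ D → ex z ≤ 2 * D + 2 := fun z hz => by
      obtain ⟨i, _ | _⟩ := z <;> simp [ex] at hz ⊢ <;> omega
    set e : F[X] := X ^ ex (x.1, !x.2) + X ^ ex y with he
    have hd : e.natDegree = max (ex (x.1, !x.2)) (ex y) := deg_add (hp _) (hp _) hne
    have hd1 : 1 ≤ e.natDegree := by have := hp y; omega
    have hd2 : e.natDegree ≤ 2 * D + 2 := by
      have := hq (x.1, !x.2) (hD x (by simp))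
      have := hq y (hD y (by simp))
      omega
    have hN : 2 ≤ 2 ^ (m + 1) := by
      have : 2 ^ 1 ≤ 2 ^ (m + 1) := Nat.pow_le_pow_right (by norm_num) (by omega)
      simpa using this
    obtain ⟨s1, s2⟩ := step hN hd1 h0 h1
    have hpos : 0 < 2 ^ (m + 1) * e.natDegree := Nat.mul_pos (by omega) hd1
    refine ⟨![v 3 + e * v 1 + e ^ 2 ^ (m + 1) * v 0, v 2 + e * v 0, v 1, v 0], ?_, fun i => ?_, ?_, fun t => ?_⟩
    · intro h
      simp only [cons_val_zero] at h
      rw [h] at s1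
      simp only [natDegree_zero] at s1
      omega
    · have := h1 1
      fin_cases i <;> simp only [cons_val_zero, s1] <;> simp <;> omega
    · simp only [cons_val_zero, s1, List.length_cons]
      have := Nat.mul_le_mul_left (2 ^ (m + 1)) hd2
      rw [Nat.mul_succ, mul_add]
      omega
    · have hm : ∀ g h : Cfsg.Sz F m, (g * h).1.1 = g.1.1 * h.1.1 := fun _ _ => rfl
      rw [List.map_cons, List.prod_cons, hm, ← mulVec_mulVec, h3, letter, hm, ← mulVec_mulVec,
        mulVec_mulVec _ (U m 0 _).1.1, ← hm, ← mul_assoc, U_mul]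
      congr 1
      simp only [add_zero, map_zero, mul_zero]
      rw [Uw_mulVec]
      ext i
      fin_cases i <;> simp [he]


/-- A non-trivial law holds in only finitely many Suzuki groups: for every non-trivial element w of the free group on countably many generators there is N such that for q = 2^(2m+1) with m ≥ N some substitution of elements of the Suzuki group over the field with q elements into w is not the identity. -/
theorem result (w : FreeGroup ℕ) (hw : w ≠ 1) :
    ∃ N : ℕ, ∀ (F : Type*) [Field F] [Fintype F] (m : ℕ), 1 ≤ m → N ≤ m →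
      Fintype.card F = 2 ^ (2 * m + 1) →
      ∃ f : ℕ → ↥(Cfsg.Lie.Sz F (2 ^ (m + 1))), FreeGroup.lift f w ≠ 1 := by
  classical
  obtain ⟨x, L, hL⟩ : ∃ x L, w.toWord = x :: L := by
    cases h : w.toWord with
    | nil => exact absurd (FreeGroup.toWord_eq_nil_iff.1 h) hw
    | cons x L => exact ⟨x, L, rfl⟩
  obtain ⟨D, hD⟩ : ∃ D, ∀ y ∈ x :: L, y.1 ≤ D :=
    ⟨((x :: L).map Prod.fst).sum, fun y hy => List.single_le_sum (by simp) _ (List.mem_map_of_mem hy)⟩
  refine ⟨(2 * D + 2) * L.length, fun F _ _ m hm hN hF => ?_⟩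
  have := szField_of_card hm hF
  obtain ⟨v, h0, -, h2, h3⟩ := main (F := F) m D L x (hL ▸ FreeGroup.isReduced_toWord) hD
  obtain ⟨t, ht⟩ : ∃ t : F, (v 0).eval t ≠ 0 := by
    by_contra h
    push Not at h
    refine h0 (eq_zero_of_natDegree_lt_card_of_eval_eq_zero (v 0) Function.injective_id h ?_)
    rw [hF]
    have h4 : (2 * D + 2) * L.length < 2 ^ m := lt_of_le_of_lt hN Nat.lt_two_pow_self
    calc _ ≤ _ := h2
      _ < 2 ^ (m + 1) * 2 ^ m := Nat.mul_lt_mul_of_pos_left h4 (by positivity)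
      _ = _ := by rw [← pow_add]; congr 1; omega
  refine ⟨fun i => szEquiv m (sb m t i), fun h => ht ?_⟩
  have h5 : FreeGroup.lift (sb m t) w = 1 := by
    apply (szEquiv (F := F) m).injective
    rw [map_one, ← h]
    exact FreeGroup.lift_unique (f := fun i => szEquiv m (sb m t i))
      ((szEquiv (F := F) m).toMonoidHom.comp (FreeGroup.lift (sb m t))) (fun i => by simp)
  rw [← FreeGroup.mk_toWord (x := w), hL, FreeGroup.lift_mk] at h5
  have h6 := congrFun (h3 t) 3
  rw [h5, Uw_mulVec] at h6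
  simpa using h6.symm

end Cfsg.Agent.S2354
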