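import Cfsg.Statements.S2355
import Cfsg.Agent.Lib.Linear.Law

set_option autoImplicit false
open Cfsg

namespace Cfsg.Agent.S2355

open Cfsg.Lib Cfsg.Lib.Linear Cfsg.Lib.Forms Module Matrix
attribute [-simp] Nat.card_eq_fintype_card

theorem law_of_equiv {w : FreeGroup ℕ} {G H : Type*} [Group G] [Group H] (e : G ≃* H ⧸ Subgroup.center H)
    (h : ∀ f : ℕ → G, FreeGroup.lift f w = 1) : LawZ w H := lawZ_iff.mpr fun f => by
  have := map_lift e.toMonoidHom (e.symm ∘ f) w
  rw [h, map_one] at this
  rw [this]; congr 2; ext; simp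

theorem card_le {G H ι F : Type*} [Group G] [Group H] (e : G ≃* H ⧸ Subgroup.center H) [Fintype ι] [DecidableEq ι]
    [Field F] [Finite F] {f : H → GL ι F} (hf : Function.Injective f) {B : ℕ} (h : Fintype.card ι ≤ B)
    (hF : Nat.card F ≤ B) : Nat.card G ≤ B ^ (B * B) := by
  have := Finite.of_injective f hf
  rw [Nat.card_congr e.toEquiv]
  exact (Nat.card_le_card_of_surjective _ (QuotientGroup.mk'_surjective _)).trans
    ((Nat.card_le_card_of_injective f hf).trans (card_GL_le h hF))

/-- A non-trivial law is satisfied by only finitely many finite simple groups that are alternating or classical, up to isomorphism: for every non-trivial element w of the free group on countably many generators there is a bound N such that every alternating group of degree ≥ 5 and every simple classical group (linear, symplectic, unitary or orthogonal, in this problem's sense) in which w is a law has order at most N. -/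
theorem result (w : FreeGroup ℕ) (hw : w ≠ 1) :
    ∃ N : ℕ, ∀ (G : Type*) [Group G] [Finite G],
      (Cfsg.IsAlternating G ∨ Cfsg.IsPSL G ∨ Cfsg.IsPSp G ∨ Cfsg.IsPSU G ∨ Cfsg.IsPOmegaOdd G ∨
          Cfsg.IsPOmegaPlus G ∨ Cfsg.IsPOmegaMinus G) →
      (∀ f : ℕ → G, FreeGroup.lift f w = 1) → Nat.card G ≤ N := by
  obtain ⟨B, hB⟩ := exists_lawZ_bound hw
  have key : ∀ (F : Type) [Field F] [Finite F] (H : Type) [Group H] (N : Subgroup H), LawZ w N → commutator H ≤ N →
      ∀ (W : Type) [AddCommGroup W] [Module F W] [FiniteDimensional F W] (φ : (W ≃ₗ[F] W) →* H), Function.Injective φ →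
      finrank F W ≤ B ∧ (2 ≤ finrank F W → Nat.card F ≤ B) := fun F _ _ H _ N h hN W _ _ _ φ hφ =>
    ⟨let ⟨ψ, hψ⟩ := exists_perm_hom_linAut (F := F) W; (hB H N h hN).2 _ (φ.comp ψ) (hφ.comp hψ),
      fun h2 => let ⟨ψ, hψ⟩ := exists_sl_hom_linAut W h2; (hB H N h hN).1 F (φ.comp ψ) (hφ.comp hψ)⟩
  have key2 : ∀ (F : Type) [Field F] [Finite F] (σ : F →+* F) (K : Kind σ) (V : Type) [AddCommGroup V] [Module F V]
      [FiniteDimensional F V] (D : Form K V), D.Nondeg → ∀ m, D.HasTS m → ∀ N : Subgroup D.isom, LawZ w N →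
      commutator _ ≤ N → m ≤ B ∧ (2 ≤ m → Nat.card F ≤ B) := fun F _ _ σ K V _ _ _ D hD m hm N h hN => by
    obtain ⟨W, rfl, φ, hφ⟩ := exists_linAut_hom_isom hD hm
    exact key F _ N h hN W φ hφ
  set C := B * B + 2 * B + 2 with hC
  have key3 : ∀ (G : Type u_1) [Group G] (F : Type) [Field F] [Finite F] (ι : Type) [Fintype ι] [DecidableEq ι]
      (D : Form (quadKind F) (ι → F)), D.Nondeg → ∀ m, 2 ≤ m → D.HasTS m → Fintype.card ι ≤ 2 * m + 2 →
      (G ≃* POmega F D.Q) → (∀ f : ℕ → G, FreeGroup.lift f w = 1) → Nat.card G ≤ C ^ (C * C) := by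
    intro G _ F _ _ ι _ _ D hD m h2 hm hι e h
    obtain ⟨h3, h4⟩ := key2 F _ _ _ D hD m hm _ ((law_of_equiv e h).of_injective (φ := (omegaEquiv D).symm.toMonoidHom)
      (omegaEquiv D).symm.injective) le_rfl
    exact card_le e (Subtype.val_injective.comp Subtype.val_injective) (by omega) (by have := h4 h2; omega)
  refine ⟨B.factorial + C ^ (C * C), fun G _ _ hG h => ?_⟩
  rcases hG with ⟨n, hn, ⟨e⟩⟩ | ⟨F, _, _, n, hn, -, ⟨e⟩⟩ | ⟨F, _, _, n, hn, -, ⟨e⟩⟩ | ⟨F, _, _, n, q, hF, hn, -, ⟨e⟩⟩ |
    ⟨F, _, _, n, hn, hF, ⟨e⟩⟩ | ⟨F, _, _, n, hn, ⟨e⟩⟩ | ⟨F, _, _, n, a, b, hn, hab, ⟨e⟩⟩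
  · have h1 := (hB _ (alternatingGroup (Fin n)) (LawZ.of_injective (fun f => h f ▸ one_mem _) (φ := e.symm.toMonoidHom)
      e.symm.injective) (Abelianization.commutator_subset_ker Equiv.Perm.sign)).2 n (MonoidHom.id _) Function.injective_id
    rw [Nat.card_congr e.toEquiv]
    refine le_add_right ((Nat.card_le_card_of_injective _ Subtype.val_injective).trans ?_)
    rw [Nat.card_perm, Nat.card_fin]; exact Nat.factorial_le h1
  all_goals refine le_add_left ?_
  · obtain ⟨h1, h2⟩ := key F _ (LinearEquiv.det (R := F) (M := Fin n → F)).ker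
      ((law_of_equiv e h).of_injective (φ := MonoidHom.mk' (fun g => ⟨LinearMap.toMatrix' g.1, by
        simpa using congrArg Units.val g.2⟩) fun g h => Subtype.ext (LinearMap.toMatrix'_mul _ _)) fun g h H =>
        Subtype.ext (LinearEquiv.toLinearMap_injective (LinearMap.toMatrix'.injective (congrArg Subtype.val H))))
      (Abelianization.commutator_subset_ker _) (Fin n → F) (MonoidHom.id _) Function.injective_id
    rw [finrank_fin_fun] at h1 h2
    exact card_le e SpecialLinearGroup.toGL_injective (by simp; omega) (by have := h2 hn; omega)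
  · obtain ⟨h1, h2⟩ := key2 F _ _ _ _ (fSymp_nondeg n) n (Symp.hasTS (fSymp_nondeg n) (finrank_plus n).ge) ⊤
      ((law_of_equiv e h).of_injective (φ := (spEquiv F n).symm.toMonoidHom.comp (Subgroup.subtype _))
        ((spEquiv F n).symm.injective.comp Subtype.val_injective)) le_top
    exact card_le e (f := fun g => ((spGLEquiv F n).symm (spEquiv F n g)).1) (Subtype.val_injective.comp
      ((spGLEquiv F n).symm.injective.comp (spEquiv F n).injective)) (by simp; omega) (by have := h2 hn; omega)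
  · obtain ⟨σ, hσ⟩ := isConj_of_card hF
    have h0 := (law_of_equiv e h).of_injective (φ := (suEquiv hσ n).symm.toMonoidHom) (suEquiv hσ n).symm.injective
    obtain ⟨h1, -⟩ := key2 F _ _ _ _ (stdHerm_nondeg hσ (Fin n)) (n / 2)
      (Herm.hasTS (stdHerm_nondeg hσ (Fin n)) (by simp; omega)) _ h0 (Abelianization.commutator_subset_ker _)
    obtain ⟨p, hp, k, hk⟩ := FiniteField.card' F
    have := Fact.mk hk.1
    obtain ⟨j, -, rfl⟩ := (Nat.dvd_prime_pow hk.1).mp (show q ∣ p ^ (k : ℕ) from hk.2 ▸ hF ▸ dvd_pow_self q two_ne_zero)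
    have hj : j ≠ 0 := by rintro rfl; have := Fintype.one_lt_card (α := F); simp [hF] at this
    have := Fintype.ofFinite (GaloisField p j)
    obtain ⟨e1⟩ := S0281.result (K := GaloisField p j) hF (by rw [← Nat.card_eq_fintype_card, GaloisField.card p j hj])
    obtain ⟨e2, he2⟩ := Herm.iso_std ((stdHerm_nondeg hσ (Fin 2)).prod (stdHerm_nondeg hσ (Fin (n - 2)))) (n := n)
      (by simp; omega)
    have h2 := (hB _ _ h0 (Abelianization.commutator_subset_ker _)).1 (GaloisField p j)
      ((Form.isomCongr e2 he2).toMonoidHom.comp ((Form.prodHom _ _).comp ((MonoidHom.inl _ _).comp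
        ((Subgroup.subtype _).comp (e1.symm.trans (suEquiv hσ 2)).toMonoidHom))))
      ((Form.isomCongr e2 he2).injective.comp fun g g' H => (e1.symm.trans (suEquiv hσ 2)).injective
        (Subtype.ext (Form.isom_ext fun x => congrArg Prod.fst (congrArg (fun g => g.1 (x, 0)) H))))
    rw [GaloisField.card p j hj] at h2
    exact card_le e (SpecialLinearGroup.toGL_injective.comp Subtype.val_injective) (by simp; omega)
      (by rw [hσ.card, pow_two]; have := Nat.mul_le_mul h2 h2; omega)
  · have h2 : (2 : F) ≠ 0 := Ring.two_ne_zero fun h => by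
      have := FiniteField.even_card_iff_char_two.mp h
      obtain ⟨k, hk⟩ := hF; omega
    exact key3 G F _ (fOdd F n) (fOdd_nondeg h2 n) n (by omega) (Quad.hasTS_pred (fOdd_nondeg h2 n) (finrank_odd n).ge)
      (by simp; omega) e h
  · exact key3 G F _ (fPlus F n) (fPlus_nondeg n) n (by omega) (fPlus_hasTS n) (by simp; omega) e h
  · exact key3 G F _ (fMinus (n - 1) a b) (fMinus_nondeg _ hab) (n - 1) (by omega)
      (Quad.hasTS_pred (fMinus_nondeg _ hab) (by rw [finrank_minus]; omega)) (by simp; omega) (fMinus_Q a b ▸ e) h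

end Cfsg.Agent.S2355
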