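import Cfsg.Statements.S2360
import Cfsg.Agent.Lib.Elu.Two
import Cfsg.Agent.Lib.Forms.Herm
import Cfsg.Agent.Lib.Forms.Std

set_option autoImplicit false
open Cfsg

namespace Cfsg.Agent.S2360

section
set_option linter.unusedSectionVars false
open Module Cfsg.Lib Cfsg.Lib.Forms Cfsg.Lib.Forms.Form

theorem card_fib {A B : Type*} [Finite A] [Finite B] (f : A → B) (k : ℕ)
    (hk : ∀ b, Nat.card {a // f a = b} = k) : Nat.card A = Nat.card B * k := by
  have := Fintype.ofFinite B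
  rw [← Nat.card_congr (Equiv.sigmaFiberEquiv f), Nat.card_sigma]; simp [hk]

variable {F : Type*} [Field F] {σ : F →+* F} {q : ℕ} {h : Forms.IsConj σ q}
  {V : Type*} [AddCommGroup V] [Module F V] [FiniteDimensional F V] {D : Form h.kind V}

theorem isRk1 {v : V} (hv : D.Q v = 1) : D.IsRk1 v (-2) :=
  (Herm.isRk1_iff_of_Q_eq_one hv).2 (by rw [show (1 : F) + -2 = -1 by ring]; simp)

theorem B_one {v : V} (hv : D.Q v = 1) : D.B v v = 1 := by rw [← herm_Q, hv]

theorem ne_zero_of {v : V} (hv : D.Q v = 1) : v ≠ 0 := by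
  rintro rfl; rw [D.Q_zero] at hv; exact zero_ne_one hv

theorem nd_span {v : V} (hv : D.Q v = 1) : Disjoint (F ∙ v) (D.perp (F ∙ v)) := by
  rw [Submodule.disjoint_def]
  intro x hx hx'
  obtain ⟨c, rfl⟩ := Submodule.mem_span_singleton.1 hx
  rw [mem_perp_span_singleton, D.B_smul_right, B_one hv, mul_one] at hx'
  rw [hx', zero_smul]

theorem nd_pair {v w : V} (hv : D.Q v = 1) (hw : D.Q w = 1) (hB : D.B v w = 0) :
    Disjoint (Submodule.span F {v, w}) (D.perp (Submodule.span F {v, w})) := by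
  rw [Submodule.disjoint_def]
  intro x hx hx'
  obtain ⟨c, d, rfl⟩ := Submodule.mem_span_pair.1 hx
  rw [mem_perp_span_pair] at hx'
  simp only [D.B_add_right, D.B_smul_right, B_one hv, B_one hw, hB, D.eq_zero_symm hB, mul_one, mul_zero,
    add_zero, zero_add] at hx'
  rw [hx'.1, hx'.2, zero_smul, zero_smul, add_zero]

theorem fr_pair {v w : V} (hv : D.Q v = 1) (hw : D.Q w = 1) (hB : D.B v w = 0) :
    finrank F (Submodule.span F {v, w}) = 2 := by
  have hl : LinearIndependent F ![v, w] := by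
    rw [LinearIndependent.pair_iff]
    intro c d hc
    have h1 := congrArg (D.B v) hc
    have h2 := congrArg (D.B w) hc
    simp only [D.B_add_right, D.B_smul_right, B_one hv, B_one hw, hB, D.eq_zero_symm hB, mul_one, mul_zero,
      add_zero, zero_add, D.B_zero_right] at h1 h2
    exact ⟨h1, h2⟩
  have := finrank_span_eq_card hl
  rwa [Matrix.range_cons_cons_empty, Fintype.card_fin] at this

theorem mul_ap (g k : D.det.ker) (x : V) : (g * k).1.1 x = g.1.1 (k.1.1 x) := rfl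

theorem one_ap (x : V) : (1 : D.det.ker).1.1 x = x := rfl

variable (hD : D.Nondeg) (hn : finrank F V = 3)
include hD hn

theorem card_perp_one {v : V} (hv : D.Q v = 1) :
    Nat.card {u // D.Q u = 1 ∧ D.B v u = 0} = q * (q ^ 2 - 1) := by
  have h1 := hD.finrank_perp (F ∙ v)
  rw [finrank_span_singleton (ne_zero_of hv), hn] at h1
  have := Herm.card_Q_eq_of_ne_zero (hD.restrict_perp (nd_span hv)) (map_one σ) one_ne_zero (n := 1) (by omega)
  rw [if_neg (by decide), pow_one] at this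
  rw [← this]
  exact Nat.card_congr ⟨fun u => ⟨⟨u.1, D.mem_perp_span_singleton.2 u.2.2⟩, u.2.1⟩,
    fun u => ⟨u.1.1, u.2, D.mem_perp_span_singleton.1 u.1.2⟩, fun _ => rfl, fun _ => rfl⟩

theorem card_perp_iso {v : V} (hv : D.Q v = 1) :
    Nat.card {u // u ≠ 0 ∧ D.Q u = 0 ∧ D.B v u = 0} = (q ^ 2 - 1) * (q + 1) := by
  have := h.finite
  have : Finite V := Module.finite_of_finite F
  have h1 := hD.finrank_perp (F ∙ v)
  rw [finrank_span_singleton (ne_zero_of hv), hn] at h1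
  have := Herm.card_Q_eq_zero (hD.restrict_perp (nd_span hv)) (n := 1) (by omega)
  rw [if_neg (by decide), pow_one] at this
  have h2 := card_subtype_or_eq_zero (0 : V) (fun u => D.Q u = 0 ∧ D.B v u = 0) ⟨D.Q_zero, D.B_zero_right v⟩
  have h3 : Nat.card {u // D.Q u = 0 ∧ D.B v u = 0} =
      Nat.card {x // (D.restrict (D.perp (F ∙ v))).Q x = 0} :=
    Nat.card_congr ⟨fun u => ⟨⟨u.1, D.mem_perp_span_singleton.2 u.2.2⟩, u.2.1⟩,
    fun u => ⟨u.1.1, u.2, D.mem_perp_span_singleton.1 u.1.2⟩, fun _ => rfl, fun _ => rfl⟩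
  rw [h3, this] at h2
  exact (Nat.add_right_cancel h2).symm

theorem card_perp_two {v w : V} (hv : D.Q v = 1) (hw : D.Q w = 1) (hB : D.B v w = 0) :
    Nat.card {u // D.Q u = 1 ∧ D.B v u = 0 ∧ D.B w u = 0} = q + 1 := by
  have h1 := hD.finrank_perp (Submodule.span F {v, w})
  rw [fr_pair hv hw hB, hn] at h1
  have := Herm.card_Q_eq_of_ne_zero (hD.restrict_perp (nd_pair hv hw hB)) (map_one σ) one_ne_zero (n := 0)
    (by omega)
  rw [if_pos (by decide), pow_zero, one_mul, zero_add, pow_one] at this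
  rw [← this]
  exact Nat.card_congr ⟨fun u => ⟨⟨u.1, D.mem_perp_span_pair.2 u.2.2⟩, u.2.1⟩,
    fun u => ⟨u.1.1, u.2, D.mem_perp_span_pair.1 u.1.2⟩, fun _ => rfl, fun _ => rfl⟩

theorem exists_perp_two {v w : V} (hv : D.Q v = 1) (hw : D.Q w = 1) (hB : D.B v w = 0) :
    ∃ u, D.Q u = 1 ∧ D.B v u = 0 ∧ D.B w u = 0 := by
  have := card_perp_two hD hn hv hw hB
  obtain ⟨u⟩ := (Nat.card_pos_iff.1 (by rw [this]; omega)).1
  exact ⟨u.1, u.2⟩

theorem exists_perp_one {v : V} (hv : D.Q v = 1) : ∃ u, D.Q u = 1 ∧ D.B v u = 0 := by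
  have := card_perp_one hD hn hv
  have h2 := h.two_le
  have h3 : 2 ^ 2 ≤ q ^ 2 := Nat.pow_le_pow_left h2 2
  obtain ⟨u⟩ := (Nat.card_pos_iff.1 (by rw [this]; exact Nat.mul_pos (by omega) (by omega))).1
  exact ⟨u.1, u.2⟩

theorem eq_zero_of_iso {v w u : V} (hv : D.Q v = 1) (hw : D.Q w = 1) (hB : D.B v w = 0)
    (h1 : D.B v u = 0) (h2 : D.B w u = 0) (hu : D.Q u = 0) : u = 0 := by
  have h3 := hD.finrank_perp (Submodule.span F {v, w})
  rw [fr_pair hv hw hB, hn] at h3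
  obtain ⟨z, hz, hz'⟩ := exists_perp_two hD hn hv hw hB
  have h0 : (⟨z, D.mem_perp_span_pair.2 hz'⟩ : D.perp (Submodule.span F {v, w})) ≠ 0 :=
    fun e => ne_zero_of hz (congrArg Subtype.val e)
  have h4 : finrank F (D.perp (Submodule.span F {v, w})) = 1 := by omega
  obtain ⟨c, hc⟩ := (finrank_eq_one_iff_of_nonzero' _ h0).1 h4 ⟨u, D.mem_perp_span_pair.2 ⟨h1, h2⟩⟩
  have hc' : c • z = u := congrArg Subtype.val hc
  rw [← hc', D.Q_smul, hz, mul_one] at hu
  by_cases c0 : c = 0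
  · rw [← hc', c0, zero_smul]
  · exact absurd hu (h.kind.norm_ne_zero c0)

omit hD in
/-- The involution fixing the unit vector `v` and negating its orthogonal complement. -/
noncomputable def tv (v : V) (hv : D.Q v = 1) : D.det.ker :=
  ⟨D.scalar (-1) (by simp) * D.rk1 v (-2) (isRk1 hv), by
    rw [MonoidHom.mem_ker, map_mul]
    ext
    rw [Units.val_mul, det_rk1, det_of_smul (c := -1) (fun _ => rfl), hn, B_one hv]
    norm_num⟩

omit hD in
theorem tv_apply (v : V) (hv : D.Q v = 1) (x : V) : (tv hn v hv).1.1 x = (2 * D.B v x) • v - x := by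
  simp only [tv, isom_mul_apply, scalar_apply, rk1_apply]
  module

omit hD in
theorem tv_sq (v : V) (hv : D.Q v = 1) : tv hn v hv * tv hn v hv = 1 := by
  refine Subtype.ext (isom_ext fun x => ?_)
  rw [mul_ap, tv_apply, tv_apply]
  simp only [D.B_sub_right, D.B_smul_right, B_one hv, one_ap]
  module

omit hD in
theorem tv_smul {v : V} (hv : D.Q v = 1) (c : F) (hw : D.Q (c • v) = 1) : tv hn (c • v) hw = tv hn v hv := by
  refine Subtype.ext (isom_ext fun x => ?_)
  rw [D.Q_smul, hv, mul_one] at hw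
  rw [tv_apply, tv_apply, D.B_smul_left, smul_smul]
  congr 2
  linear_combination 2 * D.B v x * hw

omit hD in
theorem conj_tv (g : D.det.ker) {v : V} (hv : D.Q v = 1) :
    g * tv hn v hv * g⁻¹ = tv hn (g.1.1 v) ((D.Q_isom g.1 v).trans hv) := by
  refine Subtype.ext (isom_ext fun x => ?_)
  rw [mul_ap, mul_ap, tv_apply, tv_apply, map_sub, map_smul,
    Subgroup.coe_inv, isom_apply_inv, D.B_isom_left]

variable (h2 : (2 : F) ≠ 0)
include h2

omit hD in
theorem tv_eq_iff {v w : V} (hv : D.Q v = 1) (hw : D.Q w = 1) :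
    tv hn v hv = tv hn w hw ↔ w = D.B v w • v := by
  constructor
  · intro e
    have := congrArg (fun g : D.det.ker => g.1.1 w) e
    simp only [tv_apply, B_one hw] at this
    refine smul_right_injective V h2 ?_
    simp only
    linear_combination (norm := module) (-1 : F) • this
  · intro e
    have hw' : D.Q (D.B v w • v) = 1 := e ▸ hw
    rw [← tv_smul hn hv _ hw']
    congr 1
    exact e.symm

theorem tv_ne_one {v : V} (hv : D.Q v = 1) : tv hn v hv ≠ 1 := by
  intro e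
  obtain ⟨u, hu, hB⟩ := exists_perp_one hD hn hv
  have := congrArg (fun g : D.det.ker => g.1.1 u) e
  simp only [tv_apply, hB, one_ap] at this
  refine ne_zero_of hu (smul_right_injective V h2 ?_)
  simp only
  linear_combination (norm := module) (-1 : F) • this

theorem exists_tv (t : D.det.ker) (h1 : t ≠ 1) (ht : t * t = 1) : ∃ v hv, t = tv hn v hv := by
  have hsq : ((t.1.1 : End F V)) ^ 2 = 1 := by
    ext x
    have := congrArg (fun g : D.det.ker => g.1.1 x) ht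
    simpa [sq] using this
  obtain ⟨U, U', hc, e⟩ := Elu.exists_pm h2 (D := D) (x := (t.1.1 : End F V)) (D.mem_isom.1 t.1.2) hsq
  have hdet : (-1 : F) ^ finrank F U' = 1 := by
    rw [← Elu.det_pm hc, ← e, ← D.coe_det, MonoidHom.mem_ker.1 t.2, Units.val_one]
  have hadd := Submodule.finrank_add_eq_of_isCompl hc.compl
  have hne : (-1 : F) ≠ 1 := fun e => h2 (by linear_combination -e)
  have hev : Even (finrank F U') := (neg_one_pow_eq_one_iff_even hne).1 hdet
  have ap : ∀ x, t.1.1 x = Elu.pm hc x := fun x => congrArg (fun f : End F V => f x) e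
  have h0 : finrank F U' ≠ 0 := by
    intro h0
    have hb : U' = ⊥ := Submodule.finrank_eq_zero.1 h0
    refine h1 (Subtype.ext (isom_ext fun x => ?_))
    obtain ⟨a, b, rfl⟩ := hc.exists_add x
    have hb0 : (b : V) = 0 := by simpa [hb] using b.2
    rw [ap, hb0, add_zero, Elu.pm_left hc a.2]; rfl
  have hU : finrank F U = 1 := by obtain ⟨k, hk⟩ := hev; omega
  have : Nontrivial U := Module.nontrivial_of_finrank_pos (R := F) (by omega)
  obtain ⟨v, hv⟩ := Herm.exists_Q_eq (hc.nondeg_left hD) (map_one σ)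
  have hv' : D.Q v = 1 := hv
  have hv0 : v ≠ 0 := fun e => ne_zero_of hv' (congrArg Subtype.val e)
  refine ⟨v, hv', Subtype.ext (isom_ext fun x => ?_)⟩
  obtain ⟨a, b, rfl⟩ := hc.exists_add x
  obtain ⟨c, rfl⟩ := (finrank_eq_one_iff_of_nonzero' _ hv0).1 hU a
  rw [ap, tv_apply, map_add, Elu.pm_left hc (c • v).2, Elu.pm_right hc b.2]
  simp only [D.B_add_right, Submodule.coe_smul, D.B_smul_right, B_one hv', hc.B_eq_zero v b]
  module

omit hD in
theorem commute_iff {v w : V} (hv : D.Q v = 1) (hw : D.Q w = 1) :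
    Commute (tv hn v hv) (tv hn w hw) ↔ D.B v w = 0 ∨ tv hn v hv = tv hn w hw := by
  constructor
  · intro e
    have e' : tv hn v hv * tv hn w hw * (tv hn v hv)⁻¹ = tv hn w hw := by rw [e.eq, mul_inv_cancel_right]
    rw [conj_tv, eq_comm, tv_eq_iff hn h2, tv_apply] at e'
    by_cases hB : D.B v w = 0
    · exact Or.inl hB
    · refine Or.inr ?_
      rw [eq_comm, tv_eq_iff hn h2]
      set c := D.B w ((2 * D.B v w) • v - w)
      have e1 : v = ((2 * D.B v w)⁻¹ * (c + 1)) • w := by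
        refine smul_right_injective V (mul_ne_zero h2 hB) ?_
        simp only
        rw [smul_smul, mul_inv_cancel_left₀ (mul_ne_zero h2 hB)]
        linear_combination (norm := module) e'
      generalize (2 * D.B v w)⁻¹ * (c + 1) = d at e1
      rw [e1, D.B_smul_right, B_one hw, mul_one]
  · rintro (hB | e)
    · refine Subtype.ext (isom_ext fun x => ?_)
      simp only [mul_ap, tv_apply, D.B_sub_right, D.B_smul_right, hB, D.eq_zero_symm hB]
      module
    · rw [e]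

variable {G : Type*} [Group G] (e : G ≃* D.det.ker)

omit hD h2 in
/-- The involution of `G` attached to a unit vector. -/
noncomputable def T (v : V) (hv : D.Q v = 1) : G := e.symm (tv hn v hv)

omit hD in
theorem T_eq_iff {v w : V} (hv : D.Q v = 1) (hw : D.Q w = 1) :
    T hn e v hv = T hn e w hw ↔ w = D.B v w • v := by
  rw [T, T, e.symm.apply_eq_iff_eq, tv_eq_iff hn h2]

theorem inv_iff (y : G) : (y ≠ 1 ∧ y * y = 1) ↔ ∃ v hv, y = T hn e v hv := by
  constructor
  · rintro ⟨h1, hy⟩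
    obtain ⟨v, hv, h3⟩ := exists_tv hD hn h2 (e y) (by simpa using h1) (by rw [← map_mul, hy, map_one])
    exact ⟨v, hv, by rw [T, ← h3, e.symm_apply_apply]⟩
  · rintro ⟨v, hv, rfl⟩
    exact ⟨by simpa [T] using tv_ne_one hD hn h2 hv, by rw [T, ← map_mul, tv_sq, map_one]⟩

omit hD in
theorem T_comm {v w : V} (hv : D.Q v = 1) (hw : D.Q w = 1) :
    Commute (T hn e v hv) (T hn e w hw) ↔ D.B v w = 0 ∨ T hn e v hv = T hn e w hw := by
  rw [T, T, e.symm.apply_eq_iff_eq, ← commute_iff hn h2]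
  exact ⟨fun c => c.of_map e.symm.injective, fun c => c.map e.symm⟩

omit hD in
theorem T_ne {v w : V} (hv : D.Q v = 1) (hw : D.Q w = 1) (hB : D.B v w = 0) : T hn e v hv ≠ T hn e w hw := by
  rw [Ne, T_eq_iff hn h2, hB, zero_smul]
  exact ne_zero_of hw

omit h2 in
theorem T_conj {v w : V} (hv : D.Q v = 1) (hw : D.Q w = 1) : ∃ g, g * T hn e v hv * g⁻¹ = T hn e w hw := by
  obtain ⟨g, hg, h1⟩ := Herm.exists_mem_E_map hD hn.ge (ne_zero_of hv) (ne_zero_of hw) (hv.trans hw.symm)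
  rw [Herm.E_eq hD hn.ge] at hg
  refine ⟨e.symm ⟨g, hg⟩, ?_⟩
  rw [T, T, ← map_mul, ← map_inv, ← map_mul, conj_tv]
  congr 2

theorem count (P : G → Prop) (R : V → Prop) (hR : ∀ v hv, P (T hn e v hv) ↔ R v) :
    Nat.card {y : G // y ≠ 1 ∧ y * y = 1 ∧ P y} * (q + 1) = Nat.card {v // D.Q v = 1 ∧ R v} := by
  have := h.finite
  have : Finite V := Module.finite_of_finite F
  have : Finite D.isom := finite_isom
  have : Finite G := Finite.of_equiv _ e.symm.toEquiv
  symm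
  refine card_fib (fun v => ⟨T hn e v.1 v.2.1, ((inv_iff hD hn h2 e _).2 ⟨_, _, rfl⟩).1,
    ((inv_iff hD hn h2 e _).2 ⟨_, _, rfl⟩).2, (hR _ _).2 v.2.2⟩) _ ?_
  rintro ⟨y, h1, hy, hP⟩
  obtain ⟨v, hv, rfl⟩ := (inv_iff hD hn h2 e y).1 ⟨h1, hy⟩
  rw [← h.card_norm_one]
  have hQ : ∀ c : {x : F // x * σ x = 1}, D.Q (c.1 • v) = 1 := fun c => by rw [D.Q_smul, c.2, hv, mul_one]
  have hT : ∀ c : {x : F // x * σ x = 1}, T hn e (c.1 • v) (hQ c) = T hn e v hv := fun c => by
    rw [T, T, tv_smul]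
  symm
  refine Nat.card_eq_of_bijective (fun c => ⟨⟨c.1 • v, hQ c, (hR _ (hQ c)).1 ((hT c).symm ▸ hP)⟩,
    Subtype.ext (hT c)⟩) ⟨fun c d hcd => ?_, ?_⟩
  · exact Subtype.ext (smul_left_injective F (ne_zero_of hv) (congrArg (fun a => a.1.1) hcd))
  · rintro ⟨⟨w, hw, hw'⟩, h3⟩
    have h4 : T hn e v hv = T hn e w hw := (congrArg Subtype.val h3).symm
    rw [T_eq_iff hn h2] at h4
    refine ⟨⟨D.B v w, ?_⟩, Subtype.ext (Subtype.ext h4.symm)⟩
    rw [h4, D.Q_smul, hv, mul_one] at hw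
    rw [h4]
    simpa only [D.B_smul_right, B_one hv, mul_one] using hw

include e

theorem card_inv : Nat.card {x : G // x ≠ 1 ∧ x * x = 1} = q ^ 2 * (q ^ 2 - q + 1) := by
  have h1 := count hD hn h2 e (fun _ => True) (fun _ => True) fun _ _ => Iff.rfl
  have h3 := Herm.card_Q_eq_of_ne_zero hD (map_one σ) one_ne_zero (n := 2) hn
  simp only [and_true] at h1
  rw [h3, if_pos (by decide)] at h1
  refine Nat.eq_of_mul_eq_mul_right (Nat.succ_pos q) (h1.trans ?_)
  obtain ⟨r, hr⟩ := Nat.exists_eq_add_of_le (Nat.le_self_pow two_ne_zero q)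
  rw [hr, Nat.add_sub_cancel_left, show q ^ (2 + 1) = q * q ^ 2 by ring, hr]
  have : q * (q + r) + 1 = (r + 1) * (q + 1) := by nlinarith
  rw [this, Nat.succ_eq_add_one, mul_assoc]

theorem card_cent (t : G) (ht : t ≠ 1) (ht2 : t * t = 1) :
    Nat.card (Subgroup.centralizer ({t} : Set G)) = q * (q + 1) * (q ^ 2 - 1) := by
  have := h.finite
  have : Finite V := Module.finite_of_finite F
  have : Finite D.isom := finite_isom
  have : Finite G := Finite.of_equiv _ e.symm.toEquiv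
  obtain ⟨v, hv, rfl⟩ := (inv_iff hD hn h2 e t).1 ⟨ht, ht2⟩
  have h1 := Herm.card_ker_det hD (by omega)
  rw [hn, ← Nat.card_congr e.toEquiv, guOrder_succ, guOrder_succ, guOrder_succ, if_pos (by decide),
    if_neg (by decide), if_pos (by decide)] at h1
  have h3 : Nat.card (MulAction.orbit (ConjAct G) (T hn e v hv)) = q ^ 2 * (q ^ 2 - q + 1) := by
    rw [← card_inv hD hn h2 e]
    refine Nat.card_congr (Equiv.subtypeEquivRight fun x => ?_)
    rw [ConjAct.mem_orbit_conjAct, isConj_comm, isConj_iff]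
    constructor
    · rintro ⟨g, rfl⟩
      exact ⟨by simpa using ht, by rw [conj_mul, ht2]; simp⟩
    · intro hx
      obtain ⟨w, hw, rfl⟩ := (inv_iff hD hn h2 e x).1 hx
      exact T_conj hD hn e hv hw
  have h4 := Nat.card_congr (MulAction.orbitProdStabilizerEquivGroup (ConjAct G) (T hn e v hv))
  rw [Nat.card_prod, h3, ← Subgroup.nat_card_centralizer_nat_card_stabilizer,
    ← Nat.card_congr (ConjAct.toConjAct (G := G)).toEquiv] at h4
  rw [← h4] at h1
  have h5 := h.two_le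
  obtain ⟨r, hr⟩ := Nat.exists_eq_add_of_le (Nat.le_self_pow two_ne_zero q)
  have h6 : q ^ (2 + 1) + 1 = (q ^ 2 - q + 1) * (q + 1) := by
    rw [hr, Nat.add_sub_cancel_left, show q ^ (2 + 1) = q * q ^ 2 by ring, hr]; nlinarith
  rw [h6] at h1
  refine Nat.eq_of_mul_eq_mul_left (show 0 < (q + 1) * (q ^ 2 * (q ^ 2 - q + 1)) by positivity) ?_
  rw [mul_assoc, h1]
  simp only [guOrder]
  norm_num
  ring

theorem card_two (t : G) (ht : t ≠ 1) (ht2 : t * t = 1) (x : G) (hx : x ≠ 1) (hx2 : x * x = 1) (hne : x ≠ t)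
    (hc : Commute t x) :
    Nat.card {y : G // y ≠ 1 ∧ y * y = 1 ∧ y ≠ t ∧ y ≠ x ∧ Commute t y ∧ Commute x y} = 1 := by
  obtain ⟨v, hv, rfl⟩ := (inv_iff hD hn h2 e t).1 ⟨ht, ht2⟩
  obtain ⟨w, hw, rfl⟩ := (inv_iff hD hn h2 e x).1 ⟨hx, hx2⟩
  have hB := ((T_comm hn h2 e hv hw).1 hc).resolve_right hne.symm
  have h1 := count hD hn h2 e (fun y => y ≠ T hn e v hv ∧ y ≠ T hn e w hw ∧ Commute (T hn e v hv) y ∧
    Commute (T hn e w hw) y) (fun u => D.B v u = 0 ∧ D.B w u = 0) fun u hu => by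
      rw [T_comm hn h2, T_comm hn h2]
      exact ⟨fun ⟨a, b, c, d⟩ => ⟨c.resolve_right a.symm, d.resolve_right b.symm⟩, fun ⟨a, b⟩ =>
        ⟨(T_ne hn h2 e hv hu a).symm, (T_ne hn h2 e hw hu b).symm, Or.inl a, Or.inl b⟩⟩
  rw [card_perp_two hD hn hv hw hB] at h1
  exact Nat.eq_of_mul_eq_mul_right (Nat.succ_pos q) (h1.trans (one_mul _).symm)

end

theorem main {F : Type*} [Field F] [Fintype F] {q : ℕ} (hq : Odd q)
    (hF : Fintype.card F = q ^ 2) (t : ↥(Cfsg.SU 3 F q)) (ht : t ≠ 1) (ht2 : t * t = 1) :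
    (∀ x : ↥(Cfsg.SU 3 F q), x ≠ 1 → x * x = 1 → ∃ g : ↥(Cfsg.SU 3 F q), g * t * g⁻¹ = x) ∧
    Nat.card {x : ↥(Cfsg.SU 3 F q) // x ≠ 1 ∧ x * x = 1} = q ^ 2 * (q ^ 2 - q + 1) ∧
    Nat.card ↥(Subgroup.centralizer ({t} : Set ↥(Cfsg.SU 3 F q))) = q * (q + 1) * (q ^ 2 - 1) ∧
    ∀ x : ↥(Cfsg.SU 3 F q), x ≠ 1 → x * x = 1 → x ≠ t → Commute t x →
      Nat.card {y : ↥(Cfsg.SU 3 F q) // y ≠ 1 ∧ y * y = 1 ∧ y ≠ t ∧ y ≠ x ∧ Commute t y ∧ Commute x y} = 1 := by
  obtain ⟨σ, h⟩ := Lib.Forms.isConj_of_card hF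
  have h2 : (2 : F) ≠ 0 := Lib.Forms.two_ne_zero_of_odd_card hF hq.pow
  have hD := Lib.Forms.stdHerm_nondeg h (Fin 3)
  have hn : Module.finrank F (Fin 3 → F) = 3 := by simp
  have e := Lib.Forms.suEquiv h 3
  refine ⟨fun x hx hx2 => ?_, card_inv hD hn h2 e, card_cent hD hn h2 e t ht ht2, card_two hD hn h2 e t ht ht2⟩
  obtain ⟨v, hv, rfl⟩ := (inv_iff hD hn h2 e t).1 ⟨ht, ht2⟩
  obtain ⟨w, hw, rfl⟩ := (inv_iff hD hn h2 e x).1 ⟨hx, hx2⟩
  exact T_conj hD hn e hv hw

/-- Let q be odd, F the field with q² elements and S = SU_3(F) (determinant-one isometries of the standard Hermitian form). Then all involutions of S are conjugate; there are exactly q²(q²−q+1) of them; the centralizer of an involution has order q(q+1)(q²−1), the order of the full unitary group of degree 2; and for two distinct commuting involutions t and x there is exactly one further involution commuting with both. -/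
theorem result {F : Type*} [Field F] [Fintype F] {q : ℕ} (hq : Odd q)
    (hF : Fintype.card F = q ^ 2) (t : ↥(Cfsg.SU 3 F q)) (ht : t ≠ 1) (ht2 : t * t = 1) :
    (∀ x : ↥(Cfsg.SU 3 F q), x ≠ 1 → x * x = 1 → ∃ g : ↥(Cfsg.SU 3 F q), g * t * g⁻¹ = x) ∧
    Nat.card {x : ↥(Cfsg.SU 3 F q) // x ≠ 1 ∧ x * x = 1} = q ^ 2 * (q ^ 2 - q + 1) ∧
    Nat.card ↥(Subgroup.centralizer ({t} : Set ↥(Cfsg.SU 3 F q))) = q * (q + 1) * (q ^ 2 - 1) ∧
    ∀ x : ↥(Cfsg.SU 3 F q), x ≠ 1 → x * x = 1 → x ≠ t → Commute t x →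
      Nat.card {y : ↥(Cfsg.SU 3 F q) // y ≠ 1 ∧ y * y = 1 ∧ y ≠ t ∧ y ≠ x ∧ Commute t y ∧ Commute x y} = 1 := by
  exact main hq hF t ht ht2

end Cfsg.Agent.S2360
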