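import Cfsg.Statements.S2356
import Cfsg.Agent.S2360

set_option autoImplicit false
open Cfsg

namespace Cfsg.Agent.S2356

section
set_option linter.unusedSectionVars false
open Module Cfsg.Lib Cfsg.Lib.Forms Cfsg.Lib.Forms.Form Cfsg.Agent.S2360

theorem card_split {α : Type*} [Finite α] (p r : α → Prop) :
    Nat.card {x // p x} = Nat.card {x // p x ∧ r x} + Nat.card {x // p x ∧ ¬ r x} := by
  classical
  rw [← Nat.card_congr (Equiv.sumCompl fun x : {x // p x} => r x.1), Nat.card_sum,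
    Nat.card_congr (Equiv.subtypeSubtypeEquivSubtypeInter p r),
    Nat.card_congr (Equiv.subtypeSubtypeEquivSubtypeInter p fun x => ¬ r x)]

variable {F : Type*} [Field F] {σ : F →+* F} {q : ℕ} {h : Forms.IsConj σ q}
  {V : Type*} [AddCommGroup V] [Module F V] [FiniteDimensional F V] {D : Form h.kind V}

theorem B_proj {v : V} (hv : D.Q v = 1) (w : V) : D.B v (w - D.B v w • v) = 0 := by
  rw [D.B_sub_right, D.B_smul_right, B_one hv, mul_one, sub_self]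

theorem Q_dec {v u : V} (hv : D.Q v = 1) (hu : D.B v u = 0) (a : F) : D.Q (a • v + u) = a * σ a + D.Q u := by
  rw [D.Q_add_of_B (by rw [D.B_smul_left, hu, mul_zero]), D.Q_smul, hv, mul_one]

theorem Q_proj {v : V} (hv : D.Q v = 1) (w : V) :
    D.Q w = D.B v w * σ (D.B v w) + D.Q (w - D.B v w • v) := by
  rw [← Q_dec hv (B_proj hv w), add_sub_cancel]

variable (hD : D.Nondeg) (hn : finrank F V = 3)
include hD hn

theorem exists_common {v w : V} (hv : D.Q v = 1) (hu : D.Q (w - D.B v w • v) ≠ 0) :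
    ∃ z, D.Q z = 1 ∧ D.B v z = 0 ∧ D.B w z = 0 := by
  obtain ⟨c, hc⟩ := Herm.exists_smul_Q_eq hu (map_one σ)
  obtain ⟨z, h1, h2, h3⟩ := exists_perp_two hD hn hv hc (by rw [D.B_smul_right, B_proj hv, mul_zero])
  refine ⟨z, h1, h2, ?_⟩
  have c0 : c ≠ 0 := by rintro rfl; exact ne_zero_of hc (zero_smul _ _)
  rw [D.B_smul_left, D.B_sub_left, D.B_smul_left, h2, mul_zero, sub_zero] at h3
  exact (mul_eq_zero.1 h3).resolve_left (by rwa [map_eq_zero])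

theorem card_far {v : V} (hv : D.Q v = 1) :
    Nat.card {w // D.Q w = 1 ∧ (w - D.B v w • v ≠ 0 ∧ D.Q (w - D.B v w • v) = 0)} =
      (q + 1) * ((q ^ 2 - 1) * (q + 1)) := by
  rw [← card_perp_iso hD hn hv, ← h.card_norm_one, ← Nat.card_prod]
  have key : ∀ (a : F) (u : V), D.B v u = 0 → D.B v (a • v + u) = a := fun a u hu => by
    rw [D.B_add_right, D.B_smul_right, B_one hv, hu, mul_one, add_zero]
  refine Nat.card_congr ⟨fun w => (⟨D.B v w.1, ?_⟩, ⟨w.1 - D.B v w.1 • v, w.2.2.1, w.2.2.2, B_proj hv _⟩),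
    fun p => ⟨p.1.1 • v + p.2.1, ?_, ?_, ?_⟩, fun w => Subtype.ext (add_sub_cancel _ _), fun p => ?_⟩
  · have := Q_proj hv w.1
    rwa [w.2.1, w.2.2.2, add_zero, eq_comm] at this
  · rw [Q_dec hv p.2.2.2.2, p.1.2, p.2.2.2.1, add_zero]
  · rw [key _ _ p.2.2.2.2, add_sub_cancel_left]; exact p.2.2.1
  · rw [key _ _ p.2.2.2.2, add_sub_cancel_left]; exact p.2.2.2.1
  · refine Prod.ext (Subtype.ext (key _ _ p.2.2.2.2)) (Subtype.ext ?_)
    simp only
    rw [key _ _ p.2.2.2.2, add_sub_cancel_left]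

theorem exists_mid (hq : q ≠ 2) {v w : V} (hv : D.Q v = 1) (h0 : w - D.B v w • v ≠ 0)
    (hu : D.Q (w - D.B v w • v) = 0) : ∃ y, D.Q y = 1 ∧ D.B v y = 0 ∧ D.B y w * σ (D.B y w) ≠ 1 := by
  obtain ⟨a, ha, a0, a1⟩ := h.exists_fixed_ne hq
  obtain ⟨b, hb⟩ := h.exists_norm_eq ha
  have b0 : b ≠ 0 := by rintro rfl; exact a0 (by rw [← hb, zero_mul])
  have hp := B_proj hv w
  have hw : w = D.B v w • v + (w - D.B v w • v) := (add_sub_cancel _ _).symm
  generalize w - D.B v w • v = u at h0 hu hp hw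
  have hm : u ∈ D.perp (F ∙ v) := D.mem_perp_span_singleton.2 hp
  obtain ⟨f, hf, hf0, hf1⟩ := hD.exists_partner (H := F ∙ v) hu
    (fun hh => h0 (Submodule.disjoint_def.1 (nd_span hv) u hh hm)) hm b b0
  obtain ⟨c, hc⟩ := h.exists_trace_eq (map_one σ)
  have hfu : D.B f u = σ b := by rw [← hf1, herm_symm]
  have sb : σ b ≠ 0 := by rwa [Ne, map_eq_zero]
  have hvy : D.B v (f + (c / σ b) • u) = 0 := by
    rw [D.B_add_right, D.B_smul_right, hp, D.mem_perp_span_singleton.1 hf, mul_zero, add_zero]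
  refine ⟨f + (c / σ b) • u, ?_, hvy, ?_⟩
  · rw [D.Q_add_smul hu, hf0, hfu, div_mul_cancel₀ _ sb, zero_add]; exact hc
  · have : D.B (f + (c / σ b) • u) w = σ b := by
      rw [hw, D.B_add_right, D.B_smul_right, D.eq_zero_symm hvy, D.B_add_left, D.B_smul_left, hfu,
        D.B_self_of_Q hu]
      simp
    rw [this, h.σσ, mul_comm, hb]
    exact a1

variable (h2 : (2 : F) ≠ 0) {G : Type*} [Group G] (e : G ≃* D.det.ker)
include h2 e

theorem far_iff {v w : V} (hv : D.Q v = 1) (hw : D.Q w = 1) :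
    (¬ Commute (T hn e v hv) (T hn e w hw) ∧ ∀ y : G, y ≠ 1 → y * y = 1 →
      ¬ (Commute (T hn e v hv) y ∧ Commute y (T hn e w hw))) ↔
    (w - D.B v w • v ≠ 0 ∧ D.Q (w - D.B v w • v) = 0) := by
  constructor
  · rintro ⟨h1, h3⟩
    refine ⟨fun h0 => h1 ((T_comm hn h2 e hv hw).2 (Or.inr ((T_eq_iff hn h2 e hv hw).2 (sub_eq_zero.1 h0)))), ?_⟩
    by_contra hu
    obtain ⟨z, hz, h4, h5⟩ := exists_common hD hn hv hu
    obtain ⟨h6, h7⟩ := (inv_iff hD hn h2 e _).2 ⟨z, hz, rfl⟩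
    exact h3 _ h6 h7 ⟨(T_comm hn h2 e hv hz).2 (Or.inl h4), ((T_comm hn h2 e hw hz).2 (Or.inl h5)).symm⟩
  · rintro ⟨h0, hu⟩
    have h1 : ¬ Commute (T hn e v hv) (T hn e w hw) := by
      rw [T_comm hn h2, T_eq_iff hn h2]
      rintro (hB | hB)
      · rw [hB, zero_smul, sub_zero, hw] at hu
        exact one_ne_zero hu
      · exact h0 (sub_eq_zero.2 hB)
    refine ⟨h1, fun y hy hy2 ⟨c1, c2⟩ => ?_⟩
    obtain ⟨z, hz, rfl⟩ := (inv_iff hD hn h2 e y).1 ⟨hy, hy2⟩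
    rcases (T_comm hn h2 e hv hz).1 c1 with a | a
    · rcases (T_comm hn h2 e hz hw).1 c2 with b | b
      · exact h0 (eq_zero_of_iso hD hn hv hz a (B_proj hv w)
          (by rw [D.B_sub_right, D.B_smul_right, b, D.eq_zero_symm a, mul_zero, sub_zero]) hu)
      · exact h1 (b ▸ c1)
    · exact h1 (a ▸ c2)

theorem main' (hq : q ≠ 2) (t : G) (ht : t ≠ 1) (ht2 : t * t = 1) :
    Nat.card {x : G // x ≠ 1 ∧ x * x = 1 ∧ x ≠ t ∧ Commute t x} = q * (q - 1) ∧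
    Nat.card {x : G // x ≠ 1 ∧ x * x = 1 ∧ ¬ Commute t x ∧
        ∃ y : G, y ≠ 1 ∧ y * y = 1 ∧ Commute t y ∧ Commute y x} = q * (q - 2) * (q ^ 2 - 1) ∧
    Nat.card {x : G // x ≠ 1 ∧ x * x = 1 ∧ ¬ Commute t x ∧
        ∀ y : G, y ≠ 1 → y * y = 1 → ¬ (Commute t y ∧ Commute y x)} = (q + 1) * (q ^ 2 - 1) ∧
    ∀ x : G, x ≠ 1 → x * x = 1 →
      ∃ y z : G, y ≠ 1 ∧ y * y = 1 ∧ z ≠ 1 ∧ z * z = 1 ∧ Commute t y ∧ Commute y z ∧ Commute z x := by
  have := h.finite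
  have : Finite V := Module.finite_of_finite F
  have : Finite D.isom := finite_isom
  have : Finite G := Finite.of_equiv _ e.symm.toEquiv
  obtain ⟨v, hv, rfl⟩ := (inv_iff hD hn h2 e t).1 ⟨ht, ht2⟩
  obtain ⟨r, rfl⟩ := Nat.exists_eq_add_of_le h.two_le
  have e1 : (2 + r) ^ 2 - 1 = (r + 1) * (r + 3) := Nat.sub_eq_of_eq_add (by ring)
  have d1 : Nat.card {x : G // x ≠ 1 ∧ x * x = 1 ∧ x ≠ T hn e v hv ∧ Commute (T hn e v hv) x} =
      (2 + r) * (2 + r - 1) := by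
    have h1 := count hD hn h2 e (fun y => y ≠ T hn e v hv ∧ Commute (T hn e v hv) y) (fun u => D.B v u = 0)
      fun u hu => by
        rw [T_comm hn h2]
        exact ⟨fun ⟨a, b⟩ => b.resolve_right a.symm, fun a => ⟨(T_ne hn h2 e hv hu a).symm, Or.inl a⟩⟩
    rw [card_perp_one hD hn hv, e1] at h1
    refine Nat.eq_of_mul_eq_mul_right (Nat.succ_pos (2 + r)) (h1.trans ?_)
    rw [show 2 + r - 1 = r + 1 by omega, Nat.succ_eq_add_one]; ring
  have d3 : Nat.card {x : G // x ≠ 1 ∧ x * x = 1 ∧ ¬ Commute (T hn e v hv) x ∧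
      ∀ y : G, y ≠ 1 → y * y = 1 → ¬ (Commute (T hn e v hv) y ∧ Commute y x)} =
      (2 + r + 1) * ((2 + r) ^ 2 - 1) := by
    have h1 := count hD hn h2 e (fun x => ¬ Commute (T hn e v hv) x ∧
      ∀ y : G, y ≠ 1 → y * y = 1 → ¬ (Commute (T hn e v hv) y ∧ Commute y x))
      (fun w => w - D.B v w • v ≠ 0 ∧ D.Q (w - D.B v w • v) = 0) fun u hu => far_iff hD hn h2 e hv hu
    rw [card_far hD hn hv, ← mul_assoc] at h1
    exact Nat.eq_of_mul_eq_mul_right (Nat.succ_pos (2 + r)) h1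
  refine ⟨d1, ?_, d3, fun x hx hx2 => ?_⟩
  · have h1 := card_split (fun x : G => x ≠ 1 ∧ x * x = 1) (Commute (T hn e v hv))
    have h3 := card_subtype_or_eq_zero (T hn e v hv)
      (fun x : G => (x ≠ 1 ∧ x * x = 1) ∧ Commute (T hn e v hv) x) ⟨⟨ht, ht2⟩, Commute.refl _⟩
    have h4 := card_split (fun x : G => (x ≠ 1 ∧ x * x = 1) ∧ ¬ Commute (T hn e v hv) x)
      fun x => ∃ y : G, y ≠ 1 ∧ y * y = 1 ∧ Commute (T hn e v hv) y ∧ Commute y x
    have h5 : Nat.card {x : G // x ≠ T hn e v hv ∧ (x ≠ 1 ∧ x * x = 1) ∧ Commute (T hn e v hv) x} = _ :=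
      (Nat.card_congr (Equiv.subtypeEquivRight fun x => by tauto)).trans d1
    have h6 : Nat.card {x : G // ((x ≠ 1 ∧ x * x = 1) ∧ ¬ Commute (T hn e v hv) x) ∧
        ¬ ∃ y : G, y ≠ 1 ∧ y * y = 1 ∧ Commute (T hn e v hv) y ∧ Commute y x} = _ :=
      (Nat.card_congr (Equiv.subtypeEquivRight fun x => by simp only [and_assoc, not_exists, not_and])).trans d3
    rw [card_inv hD hn h2 e, h3, h4, h5, h6, e1, show 2 + r - 1 = r + 1 by omega,
      show (2 + r) ^ 2 - (2 + r) = (2 + r) * (r + 1) from Nat.sub_eq_of_eq_add (by ring)] at h1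
    simp only [and_assoc] at h1
    rw [e1, Nat.add_sub_cancel_left]
    nlinarith
  · obtain ⟨w, hw, rfl⟩ := (inv_iff hD hn h2 e x).1 ⟨hx, hx2⟩
    by_cases hu : D.Q (w - D.B v w • v) = 0
    · by_cases h0 : w - D.B v w • v = 0
      · exact ⟨_, _, ht, ht2, ht, ht2, Commute.refl _, Commute.refl _,
          (T_comm hn h2 e hv hw).2 (Or.inr ((T_eq_iff hn h2 e hv hw).2 (sub_eq_zero.1 h0)))⟩
      · obtain ⟨y, hy, h3, h4⟩ := exists_mid hD hn hq hv h0 hu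
        obtain ⟨z, hz, h5, h6⟩ := exists_common hD hn (w := w) hy fun h7 => h4 (by
          have := Q_proj hy w
          rwa [hw, h7, add_zero, eq_comm] at this)
        obtain ⟨a1, a2⟩ := (inv_iff hD hn h2 e _).2 ⟨y, hy, rfl⟩
        obtain ⟨b1, b2⟩ := (inv_iff hD hn h2 e _).2 ⟨z, hz, rfl⟩
        exact ⟨_, _, a1, a2, b1, b2, (T_comm hn h2 e hv hy).2 (Or.inl h3), (T_comm hn h2 e hy hz).2 (Or.inl h5),
          ((T_comm hn h2 e hw hz).2 (Or.inl h6)).symm⟩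
    · obtain ⟨z, hz, h5, h6⟩ := exists_common hD hn hv hu
      obtain ⟨b1, b2⟩ := (inv_iff hD hn h2 e _).2 ⟨z, hz, rfl⟩
      exact ⟨_, _, b1, b2, b1, b2, (T_comm hn h2 e hv hz).2 (Or.inl h5), Commute.refl _,
        ((T_comm hn h2 e hw hz).2 (Or.inl h6)).symm⟩

end

theorem main {F : Type*} [Field F] [Fintype F] {q : ℕ} (hq : Odd q)
    (hF : Fintype.card F = q ^ 2) (t : ↥(Cfsg.SU 3 F q)) (ht : t ≠ 1) (ht2 : t * t = 1) :
    Nat.card {x : ↥(Cfsg.SU 3 F q) // x ≠ 1 ∧ x * x = 1 ∧ x ≠ t ∧ Commute t x} = q * (q - 1) ∧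
    Nat.card {x : ↥(Cfsg.SU 3 F q) // x ≠ 1 ∧ x * x = 1 ∧ ¬ Commute t x ∧
        ∃ y : ↥(Cfsg.SU 3 F q), y ≠ 1 ∧ y * y = 1 ∧ Commute t y ∧ Commute y x} = q * (q - 2) * (q ^ 2 - 1) ∧
    Nat.card {x : ↥(Cfsg.SU 3 F q) // x ≠ 1 ∧ x * x = 1 ∧ ¬ Commute t x ∧
        ∀ y : ↥(Cfsg.SU 3 F q), y ≠ 1 → y * y = 1 → ¬ (Commute t y ∧ Commute y x)} = (q + 1) * (q ^ 2 - 1) ∧
    ∀ x : ↥(Cfsg.SU 3 F q), x ≠ 1 → x * x = 1 →
      ∃ y z : ↥(Cfsg.SU 3 F q), y ≠ 1 ∧ y * y = 1 ∧ z ≠ 1 ∧ z * z = 1 ∧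
        Commute t y ∧ Commute y z ∧ Commute z x := by
  obtain ⟨σ, h⟩ := Lib.Forms.isConj_of_card hF
  exact main' (Lib.Forms.stdHerm_nondeg h (Fin 3)) (by simp) (Lib.Forms.two_ne_zero_of_odd_card hF hq.pow)
    (Lib.Forms.suEquiv h 3) (by rintro rfl; exact absurd hq (by decide)) t ht ht2

/-- Let q be odd, F the field with q² elements, S = SU_3(F) (determinant-one isometries of the standard Hermitian form) and t an involution of S. Then: exactly q(q−1) involutions other than t commute with t; exactly q(q−2)(q²−1) involutions do not commute with t but commute with some involution commuting with t; exactly (q+1)(q²−1) involutions x do not commute with t and admit no involution commuting with both t and x; and every involution can be reached from t in at most three steps, each step going to an involution that commutes with the previous one (the commuting involution graph is connected of diameter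 3). -/
theorem result {F : Type*} [Field F] [Fintype F] {q : ℕ} (hq : Odd q)
    (hF : Fintype.card F = q ^ 2) (t : ↥(Cfsg.SU 3 F q)) (ht : t ≠ 1) (ht2 : t * t = 1) :
    Nat.card {x : ↥(Cfsg.SU 3 F q) // x ≠ 1 ∧ x * x = 1 ∧ x ≠ t ∧ Commute t x} = q * (q - 1) ∧
    Nat.card {x : ↥(Cfsg.SU 3 F q) // x ≠ 1 ∧ x * x = 1 ∧ ¬ Commute t x ∧
        ∃ y : ↥(Cfsg.SU 3 F q), y ≠ 1 ∧ y * y = 1 ∧ Commute t y ∧ Commute y x} = q * (q - 2) * (q ^ 2 - 1) ∧
    Nat.card {x : ↥(Cfsg.SU 3 F q) // x ≠ 1 ∧ x * x = 1 ∧ ¬ Commute t x ∧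
        ∀ y : ↥(Cfsg.SU 3 F q), y ≠ 1 → y * y = 1 → ¬ (Commute t y ∧ Commute y x)} = (q + 1) * (q ^ 2 - 1) ∧
    ∀ x : ↥(Cfsg.SU 3 F q), x ≠ 1 → x * x = 1 →
      ∃ y z : ↥(Cfsg.SU 3 F q), y ≠ 1 ∧ y * y = 1 ∧ z ≠ 1 ∧ z * z = 1 ∧
        Commute t y ∧ Commute y z ∧ Commute z x := by
  exact main hq hF t ht ht2

end Cfsg.Agent.S2356
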