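import Cfsg.Statements.S2357
import Cfsg.Agent.Lib.Twist.ReeTori

set_option autoImplicit false
open Cfsg

namespace Cfsg.Agent.S2357

open Cfsg.Lib.Twist Cfsg.Lib.Transfer Subgroup


/-- Let R be the small Ree group over the field with q = 3^(2m+1) ≥ 27 elements and write φ for Euler's totient function. Then R has exactly q²(q²−q+1) involutions, (q²−1)(q³+1) elements of order 3, and q²(q−1)(q³+1) elements of order 6 and as many of order 9; for i > 2 dividing q−1 it has φ(i)q³(q³+1)/2 elements of order i; for i > 1 dividing (q+1)/4 it has φ(i)q³(q−1)(q²−q+1)/6 elements of order i and φ(i)q³(q−1)(q²−q+1)/2 elements of order 2i; and for i > 1 dividing q − 3^(m+1) + 1 (respectively q + 3^(m+1) + 1) it has φ(i)q³(q²−1)(q + 3^(m+1) + 1)/6 (respectively φ(i)q³(q²−1)(q − 3^(m+1) + 1)/6) elements of order i. -/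
theorem result {K : Type*} [Field K] [Fintype K] {m : ℕ} (hm : 1 ≤ m)
    (hK : Fintype.card K = 3 ^ (2 * m + 1)) :
    Nat.card {g : ↥(Cfsg.Lie.twistedG2 K (3 ^ m)) // orderOf g = 2} = (3 ^ (2 * m + 1)) ^ 2 * ((3 ^ (2 * m + 1)) ^ 2 - 3 ^ (2 * m + 1) + 1) ∧
    Nat.card {g : ↥(Cfsg.Lie.twistedG2 K (3 ^ m)) // orderOf g = 3} = ((3 ^ (2 * m + 1)) ^ 2 - 1) * ((3 ^ (2 * m + 1)) ^ 3 + 1) ∧
    Nat.card {g : ↥(Cfsg.Lie.twistedG2 K (3 ^ m)) // orderOf g = 6} = (3 ^ (2 * m + 1)) ^ 2 * (3 ^ (2 * m + 1) - 1) * ((3 ^ (2 * m + 1)) ^ 3 + 1) ∧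
    Nat.card {g : ↥(Cfsg.Lie.twistedG2 K (3 ^ m)) // orderOf g = 9} = (3 ^ (2 * m + 1)) ^ 2 * (3 ^ (2 * m + 1) - 1) * ((3 ^ (2 * m + 1)) ^ 3 + 1) ∧
    (∀ i : ℕ, 2 < i → i ∣ 3 ^ (2 * m + 1) - 1 →
      2 * Nat.card {g : ↥(Cfsg.Lie.twistedG2 K (3 ^ m)) // orderOf g = i} = Nat.totient i * (3 ^ (2 * m + 1)) ^ 3 * ((3 ^ (2 * m + 1)) ^ 3 + 1)) ∧
    (∀ i : ℕ, 1 < i → i ∣ (3 ^ (2 * m + 1) + 1) / 4 →
      6 * Nat.card {g : ↥(Cfsg.Lie.twistedG2 K (3 ^ m)) // orderOf g = i} =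
          Nat.totient i * (3 ^ (2 * m + 1)) ^ 3 * (3 ^ (2 * m + 1) - 1) * ((3 ^ (2 * m + 1)) ^ 2 - 3 ^ (2 * m + 1) + 1) ∧
        2 * Nat.card {g : ↥(Cfsg.Lie.twistedG2 K (3 ^ m)) // orderOf g = 2 * i} =
          Nat.totient i * (3 ^ (2 * m + 1)) ^ 3 * (3 ^ (2 * m + 1) - 1) * ((3 ^ (2 * m + 1)) ^ 2 - 3 ^ (2 * m + 1) + 1)) ∧
    (∀ i : ℕ, 1 < i → i ∣ 3 ^ (2 * m + 1) - 3 ^ (m + 1) + 1 →
      6 * Nat.card {g : ↥(Cfsg.Lie.twistedG2 K (3 ^ m)) // orderOf g = i} =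
        Nat.totient i * (3 ^ (2 * m + 1)) ^ 3 * ((3 ^ (2 * m + 1)) ^ 2 - 1) * (3 ^ (2 * m + 1) + 3 ^ (m + 1) + 1)) ∧
    (∀ i : ℕ, 1 < i → i ∣ 3 ^ (2 * m + 1) + 3 ^ (m + 1) + 1 →
      6 * Nat.card {g : ↥(Cfsg.Lie.twistedG2 K (3 ^ m)) // orderOf g = i} =
        Nat.totient i * (3 ^ (2 * m + 1)) ^ 3 * ((3 ^ (2 * m + 1)) ^ 2 - 1) * (3 ^ (2 * m + 1) - 3 ^ (m + 1) + 1)) := by
  obtain ⟨R, -⟩ := exists_ree hK
  obtain ⟨e, hq, hr⟩ := ree_par hm hK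
  obtain ⟨T₁, T₂, h₁, h₂, c₁, c₂, n₁, n₂⟩ := R.exists_tori hq hr
  have := R.q_mod
  have h3 : Nat.card K ^ 2 - 1 = (Nat.card K - 1) * (Nat.card K + 1) := by
    zify [Nat.one_le_pow 2 _ (show 0 < Nat.card K by omega), show 1 ≤ Nat.card K by omega]; ring
  rw [e]
  refine ⟨R.card_two, R.card_three, R.card_six, R.card_nine, fun i h1 h2 => ?_, fun i h1 h2 => ⟨?_, ?_⟩, fun i h1 h2 => ?_,
    fun i h1 h2 => ?_⟩
  · have h := (R.ht_H₀ hq).card_order (i := i) fun h => (Nat.le_of_dvd two_pos (h.dvd_of_dvd_mul_right (by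
      rwa [R.card_H₀, Nat.mul_div_cancel' (by omega)]))).not_gt h1
    rw [ncard_order_cyclic R.isCyclic_H (R.card_H ▸ h2), R.card_normalizer_H₀ hq, R.card_G] at h
    exact Nat.eq_of_mul_eq_mul_right (show 0 < Nat.card K - 1 by omega) (by linear_combination h)
  · have h := (R.ht_T₀ hq).card_order' h1 (R.card_T₀ ▸ h2)
    rw [R.card_normalizer_T₀ hq, R.card_G, q_cube] at h
    exact Nat.eq_of_mul_eq_mul_right (Nat.add_one_pos (Nat.card K)) (by linear_combination h)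
  · have h := (R.ht_T₀ hq).card_order (i := 2 * i) fun h => h1.ne' ((h.coprime_mul_left).eq_one_of_dvd (R.card_T₀ ▸ h2))
    rw [R.ncard_M_order hq h2, R.card_normalizer_T₀ hq, R.card_G, q_cube] at h
    exact Nat.eq_of_mul_eq_mul_right (show 0 < 3 * (Nat.card K + 1) by omega) (by linear_combination h)
  · have h := h₁.card_order' h1 (c₁ ▸ h2)
    rw [n₁, R.card_G, q_cube, ree_mul hq hr] at h
    exact Nat.eq_of_mul_eq_mul_right (Nat.add_one_pos (Nat.card K - 3 ^ (m + 1))) (by rw [h3]; linear_combination h)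
  · have h := h₂.card_order' h1 (c₂ ▸ h2)
    rw [n₂, R.card_G, q_cube, ree_mul hq hr] at h
    exact Nat.eq_of_mul_eq_mul_right (Nat.add_one_pos (Nat.card K + 3 ^ (m + 1))) (by rw [h3]; linear_combination h)

end Cfsg.Agent.S2357
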