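import Cfsg.Statements.S2359
import Cfsg.Agent.Lib.Twist.ReeTori

set_option autoImplicit false
open Cfsg

namespace Cfsg.Agent.S2359

open Cfsg.Lib.Twist Cfsg.Lib.Transfer Subgroup


/-- Let R be the small Ree group over the field with q = 3^(2m+1) ≥ 27 elements. If H is a cyclic subgroup of R of order (q−1)/2, then the centralizer of H in R is cyclic of order q−1, and every non-trivial subgroup of H has the same centralizer as H. If H is a cyclic subgroup of order (q+1)/4, then the centralizer of H is abelian of order q+1 with no element of order 4 (so it is the direct product of H and a group of order 4 whose non-identity elements all have order 2), and every non-trivial subgroup of H has the same centralizer as H. -/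
theorem result {K : Type*} [Field K] [Fintype K] {m : ℕ} (hm : 1 ≤ m)
    (hK : Fintype.card K = 3 ^ (2 * m + 1)) (H : Subgroup ↥(Cfsg.Lie.twistedG2 K (3 ^ m))) (hH : IsCyclic H) :
    (Nat.card H = (3 ^ (2 * m + 1) - 1) / 2 →
      IsCyclic ↥(Subgroup.centralizer (H : Set ↥(Cfsg.Lie.twistedG2 K (3 ^ m)))) ∧
        Nat.card ↥(Subgroup.centralizer (H : Set ↥(Cfsg.Lie.twistedG2 K (3 ^ m)))) = 3 ^ (2 * m + 1) - 1 ∧
        ∀ A : Subgroup ↥(Cfsg.Lie.twistedG2 K (3 ^ m)), A ≤ H → A ≠ ⊥ →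
          Subgroup.centralizer (A : Set ↥(Cfsg.Lie.twistedG2 K (3 ^ m))) = Subgroup.centralizer (H : Set ↥(Cfsg.Lie.twistedG2 K (3 ^ m)))) ∧
    (Nat.card H = (3 ^ (2 * m + 1) + 1) / 4 →
      IsMulCommutative ↥(Subgroup.centralizer (H : Set ↥(Cfsg.Lie.twistedG2 K (3 ^ m)))) ∧
        Nat.card ↥(Subgroup.centralizer (H : Set ↥(Cfsg.Lie.twistedG2 K (3 ^ m)))) = 3 ^ (2 * m + 1) + 1 ∧
        (∀ x ∈ Subgroup.centralizer (H : Set ↥(Cfsg.Lie.twistedG2 K (3 ^ m))), orderOf x ≠ 4) ∧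
        ∀ A : Subgroup ↥(Cfsg.Lie.twistedG2 K (3 ^ m)), A ≤ H → A ≠ ⊥ →
          Subgroup.centralizer (A : Set ↥(Cfsg.Lie.twistedG2 K (3 ^ m))) = Subgroup.centralizer (H : Set ↥(Cfsg.Lie.twistedG2 K (3 ^ m)))) := by
  obtain ⟨R, -⟩ := exists_ree hK
  obtain ⟨e, hq, hr⟩ := ree_par hm hK
  rw [e]
  refine ⟨fun h => ?_, fun h => ?_⟩
  · obtain ⟨g, rfl⟩ := (R.ht_H₀ hq).exists_cj_eq (R.ht_H₀ hq).cyc hH dvd_rfl (h.trans R.card_H₀.symm)
    have h1 := (R.ht_H₀ hq).cj g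
    rw [h1.cent_sub le_rfl h1.ne]
    exact ⟨Lib.PGrp.isCyclic_map _ R.isCyclic_H, (card_cj ..).trans R.card_H, fun _ => h1.cent_sub⟩
  · obtain ⟨g, rfl⟩ := (R.ht_T₀ hq).exists_cj_eq (R.ht_T₀ hq).cyc hH dvd_rfl (h.trans R.card_T₀.symm)
    have h1 := (R.ht_T₀ hq).cj g
    rw [h1.cent_sub le_rfl h1.ne]
    exact ⟨⟨⟨fun x y => Subtype.ext (h1.comm _ x.2 _ y.2)⟩⟩, (card_cj ..).trans R.card_M, fun x _ h => absurd
      (h ▸ orderOf_dvd_of_pow_eq_one ((pow_two x).trans (R.sq_of_pow (k := 2) (orderOf_dvd_iff_pow_eq_one.1 h.dvd))))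
      (by decide), fun _ => h1.cent_sub⟩

end Cfsg.Agent.S2359
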