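import Cfsg.Statements.S2361
import Cfsg.Agent.Lib.Twist.ReeTori
import Cfsg.Agent.Lib.Core.Fitting

set_option autoImplicit false
open Cfsg

namespace Cfsg.Agent.S2361

open Cfsg.Lib.Twist Cfsg.Lib.Transfer Cfsg.Lib.Core Subgroup


/-- Let R be the small Ree group over the field with q = 3^(2m+1) ≥ 27 elements. Every solvable subgroup of R lies in the normalizer of a Sylow 2-subgroup, of a Sylow 3-subgroup, or of a cyclic subgroup of order (q−1)/2, (q+1)/4, q − 3^(m+1) + 1 or q + 3^(m+1) + 1. -/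
theorem result {K : Type*} [Field K] [Fintype K] {m : ℕ} (hm : 1 ≤ m)
    (hK : Fintype.card K = 3 ^ (2 * m + 1)) (S : Subgroup ↥(Cfsg.Lie.twistedG2 K (3 ^ m)))
    (hS : Group.IsSolvable S) :
    ∃ A : Subgroup ↥(Cfsg.Lie.twistedG2 K (3 ^ m)), S ≤ Subgroup.normalizer (A : Set ↥(Cfsg.Lie.twistedG2 K (3 ^ m))) ∧
      ((∃ P : Sylow 2 ↥(Cfsg.Lie.twistedG2 K (3 ^ m)), A = P) ∨
       (∃ P : Sylow 3 ↥(Cfsg.Lie.twistedG2 K (3 ^ m)), A = P) ∨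
       (IsCyclic A ∧ (Nat.card A = (3 ^ (2 * m + 1) - 1) / 2 ∨ Nat.card A = (3 ^ (2 * m + 1) + 1) / 4 ∨
          Nat.card A = 3 ^ (2 * m + 1) - 3 ^ (m + 1) + 1 ∨ Nat.card A = 3 ^ (2 * m + 1) + 3 ^ (m + 1) + 1))) := by
  obtain ⟨R, -⟩ := exists_ree hK
  obtain ⟨e, hq, hr⟩ := ree_par hm hK
  rw [e]
  by_cases h : ∃ p : ℕ, p.Prime ∧ p ≠ 2 ∧ (pCore p S).map S.subtype ≠ ⊥
  · obtain ⟨p, hp, h2, h⟩ := h
    have h1 := le_normalizer_pCoreOf (p := p) S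
    have h3 := isPGroup_pCoreOf (p := p) S
    generalize (pCore p S).map S.subtype = O at h h1 h3
    have := Fact.mk hp
    rcases eq_or_ne p 3 with rfl | h4
    · obtain ⟨g, -, hg⟩ := R.sylowIn_Q.exists_cj_le h3 le_top
      obtain ⟨P, hP⟩ := (cj_top g⁻¹ ▸ R.sylowIn_Q.cj g⁻¹).exists_sylow_top
      obtain ⟨⟨x, hx⟩, h5⟩ := ne_bot_iff_exists_ne_one.1 h
      refine ⟨_, fun s hs => ?_, Or.inr (Or.inl ⟨P, hP.symm⟩)⟩
      rw [← cj_normalizer, mem_cj, R.normalizer_Q]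
      exact R.mem_B_of_conj (cj_le_iff.1 hg x hx) (fun e => h5 (Subtype.ext (conj_eq_one_iff.1 e)))
        (by simpa [mul_assoc] using R.Q_le_B (cj_le_iff.1 hg _ (Lib.Core.conj_mem_of_mem_normalizer (h1 hs) hx)))
    · obtain ⟨A, C, h5, h6, h7⟩ := R.exists_ht hq hr (R.prime_dvd hq hr hp h2 h4
        ((dvd_card_of_isPGroup_of_ne_bot hp h3 h).trans (card_subgroup_dvd_card _)))
      obtain ⟨g, hg⟩ := h5.exists_le_normalizer h6 h3 h
      exact ⟨_, hg ▸ h1, Or.inr (Or.inr ⟨(h5.cj g).cyc, card_cj g A ▸ h7⟩)⟩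
  push Not at h
  have h1 : IsPGroup 2 (fittingOf S) := (isPGroup_pCoreOf S).to_le (fittingOf_le_of_forall_pCoreOf_le fun p hp => by
    rcases eq_or_ne p 2 with rfl | h2
    exacts [le_rfl, h p hp h2 ▸ bot_le])
  have h2 := le_normalizer_fittingOf S
  have h3 := inf_centralizer_fittingOf_le S
  generalize fittingOf S = F at h1 h2 h3
  obtain ⟨P, hP⟩ := h1.exists_le_sylow
  obtain ⟨i, hi, h4⟩ := (Nat.dvd_prime_pow Nat.prime_two (m := 3)).1 (R.card_sylow_two P ▸ card_dvd_of_le hP)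
  have h5 : S ≤ centralizer F → S ≤ normalizer (P.1 : Set _) := fun h =>
    ((le_inf le_rfl h).trans h3).trans (hP.trans P.1.le_normalizer)
  interval_cases i
  · exact ⟨P, h5 fun s _ x hx => by simp [mem_bot.1 (card_eq_one.1 h4 ▸ hx)], Or.inl ⟨P, rfl⟩⟩
  · refine ⟨P, h5 fun s hs x hx => ?_, Or.inl ⟨P, rfl⟩⟩
    obtain ⟨y, -, hy⟩ := (Nat.card_eq_two_iff' (1 : F)).1 h4
    by_cases h6 : x = 1
    · simp [h6]
    · exact (mul_inv_eq_iff_eq_mul.1 (congrArg Subtype.val ((hy ⟨_, Lib.Core.conj_mem_of_mem_normalizer (h2 hs) hx⟩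
        (by simpa using h6)).trans (hy ⟨x, hx⟩ (by simpa using h6)).symm))).symm
  · obtain ⟨g, hg⟩ := R.exists_cj_V h4
    refine ⟨cj g⁻¹ R.T₀, h2.trans ?_, Or.inr (Or.inr ⟨((R.ht_T₀ hq).cj _).cyc, by simp [card_cj, R.card_T₀]⟩)⟩
    rw [← cj_normalizer, ← cj_le_iff_le_cj_inv, cj_normalizer, hg]
    exact R.normalizer_V_le hq
  · exact ⟨F, h2, Or.inl ⟨P, eq_of_le_of_card_ge hP (h4 ▸ (R.card_sylow_two P).le)⟩⟩

end Cfsg.Agent.S2361
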