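import Cfsg.Statements.S2362
import Cfsg.Agent.Lib.Conj.SpecP

set_option autoImplicit false
open Cfsg

namespace Cfsg.Agent.S2362

open Cfsg.Lib.Conj Cfsg.Lib.Forms Cfsg.Lib.Forms.Form Module

open Cfsg.Lib.Linear Cfsg.Lib.Small
attribute [-simp] Nat.card_eq_fintype_card

/-- Let F be a finite field of odd order and n ≥ 3. The simple orthogonal group PΩ(2n+1, F) (type B_n) and the projective symplectic group PSp(2n, F) (type C_n), which have the same order, do not have the same set of element orders. -/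
theorem result {F : Type*} [Field F] [Fintype F] (hodd : Odd (Fintype.card F)) (n : ℕ) (hn : 3 ≤ n) :
    Set.range (orderOf : Cfsg.POmega F (Cfsg.quadFormOdd n F) → ℕ) ≠ Set.range (orderOf : Cfsg.PSp n F → ℕ) := by
  rw [← Nat.card_eq_fintype_card] at *
  haveI hp := Cfsg.Lib.Known.fact_prime_ringChar F
  set p := ringChar F
  have h2 := odd_card_iff.1 hodd
  have hq : 2 ≤ Nat.card F := two_le_card
  have hp3 : 3 ≤ p := by
    have := hp.out.two_le
    have : p ≠ 2 := mt ringChar_eq_two_iff.1 h2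
    omega
  obtain ⟨k, rfl⟩ : ∃ k, n = k + 1 := ⟨n - 1, by omega⟩
  have h0 : ¬ p ∣ Nat.card F ^ k + 1 := fun h => hp.out.one_lt.ne' (Nat.dvd_one.1
    ((Nat.dvd_add_right (dvd_pow (spec_char_dvd p) (by omega))).1 h))
  obtain ⟨z, hz⟩ := exists_units_orderOf (F := F) p h0
  intro h
  obtain ⟨g, hg⟩ := h.ge (psp_exists_order p (N := (Nat.card F ^ k + 1) * p)
    (L := [(z, k, 1), (1, 0, 2)]) (by omega)
    (oVal_cons.2 ⟨⟨⟨le_rfl, .inl (hz ▸ pow_orderOf_eq_one z)⟩, fun h => by simp at h; omega⟩,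
      by simp [OVal, OV]⟩) (by simp [oDim, od_of_pos (by omega : 1 ≤ k), od_zero]; omega)
    fun m hm => ((hp.out.coprime_iff_not_dvd.2 h0).symm).mul_dvd_of_dvd_of_dvd
      (hz ▸ orderOf_dvd_of_pow_eq_one ((hm.oOne (a := (1, 0, 2)) (by simp) rfl) (z, k, 1)
        (by simp)).1) (char_dvd_of_two_le p (hm.2.2 (1, 0, 2) (by simp)) le_rfl))
  obtain ⟨L, hL, hd, h1, h3, h4⟩ := pOmega_analysis p (Q := quadFormOdd (k + 1) F) (fOdd_nondeg h2 (k + 1)) rfl
    (by rw [finrank_odd]; omega) h2 g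
  rw [finrank_odd] at hd
  rw [hg] at h4
  obtain ⟨r, hr⟩ := zsigmondy (a := Nat.card F) (n := 2 * k) hq (by omega)
    (by rintro ⟨h, -⟩; rw [h] at hodd; exact absurd hodd (by decide)) (by omega)
  have h5 := hr.lt (by omega) (by omega)
  have h6 := hr.not_dvd_base (by omega) (by omega)
  obtain ⟨hr, h7⟩ := (isPPD_iff_orderOf (by omega) (by omega)).1 hr
  haveI := Fact.mk hr
  have hη : Eta (orderOf (Nat.card F : ZMod r)) k := .inr ⟨h7 ▸ even_two_mul k, h7.symm⟩
  have h8 : r ∣ Nat.card F ^ k + 1 := dvd_pow_add_one_iff.2 ((hη.pow_eq (by omega)).resolve_left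
    fun h => Nat.not_odd_iff_even.2 (even_two_mul k) (h7 ▸ h.1)).2
  have hN : (Nat.card F ^ k + 1) * p ≠ 0 := by positivity
  obtain ⟨⟨w, D, e⟩, ha, h9⟩ := OCond.exists_dvd p hr (by omega) hN (h8.mul_right _)
    ((Nat.coprime_primes hr hp.out).2 fun h => h6 (h ▸ spec_char_dvd p)) h4
  obtain ⟨⟨v, D', e'⟩, hb, h10⟩ := OCond.exists_two_le p hN (dvd_mul_left _ _) h4
  have hr2 : ¬ r ∣ 2 := fun h => by have := Nat.le_of_dvd two_pos h; omega
  obtain ⟨u, hu⟩ := (hL _ ha).1.eta_dvd h9 hη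
  have h11 := (hL _ ha).1.pos h9 hr2
  have h12 := le_oDim ha
  have h13 := (hL _ ha).1.1
  simp only at hu h11 h12 h13 h10
  rw [od_of_pos h11, hu, mul_assoc, mul_assoc] at h12
  have h14 : u * e = 1 := by
    have : u * e ≠ 0 := mul_ne_zero (by rintro rfl; omega) (by omega)
    by_contra h
    have := Nat.mul_le_mul_left k (by omega : 2 ≤ u * e)
    omega
  obtain rfl := Nat.eq_one_of_mul_eq_one_right h14
  obtain rfl := Nat.eq_one_of_mul_eq_one_left h14
  obtain rfl : D = k := by omega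
  have hab : (w, D, 1) ≠ (v, D', e') := by simp; omega
  have h15 := add_le_oDim ha hb hab
  simp only [od_of_pos h11] at h15
  obtain rfl : D' = 0 := by
    by_contra h
    have := Nat.mul_le_mul ((by omega : 2 ≤ 2 * D').trans (two_mul_le_od D')) h10
    omega
  obtain rfl : e' = 3 := by
    have := Nat.odd_iff.1 ((hL _ hb).2 rfl)
    simp only [od_zero] at this h15
    omega
  have h16 := hL.perm_pair ha hb hab (by simp [od_of_pos h11, od_zero]; omega)
  obtain rfl : v = 1 := by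
    have h17 := (hL _ hb).1.sq rfl
    rw [oDet_perm h16] at h1
    simpa [oDet, show D ≠ 0 by omega, pow_succ' v 2, show v ^ 2 = 1 from h17] using h1
  have h17 : w ^ (Nat.card F ^ D + 1) = 1 := (hL _ ha).1.2.resolve_right fun h => by
    have := (dvd_pow_sub_one_iff_orderOf_dvd (by omega)).1 (h9.trans (orderOf_dvd_of_pow_eq_one h.2))
    have := Nat.le_of_dvd h11 (h7 ▸ this)
    omega
  have h18 := h3 fun a ha => by
    rcases List.mem_pair.1 (h16.subset ha) with rfl | rfl
    · rintro rfl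
      exact hr2 (h9.trans (orderOf_dvd_of_pow_eq_one (by simp)))
    · exact (kb_neg_one_ne h2).symm
  rw [oSp_perm h16, oSp_cons, oSp_cons, oN_pos h17, one_pow, oSp_nil, mul_one, mul_one,
    mul_one] at h18
  have h19 := (h4 ((Nat.card F ^ D + 1) / 2 * p)).2 (OOne.oCond fun a ha => by
    rcases List.mem_pair.1 (h16.subset ha) with rfl | rfl
    · exact ⟨pw h18 (dvd_mul_right _ _), 0, by simp⟩
    · exact ⟨one_pow _, 1, by simpa using hp3⟩)
  have := one_le_card_pow (F := F) D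
  have := Nat.le_of_dvd (by omega) (Nat.dvd_of_mul_dvd_mul_right hp.out.pos h19)
  omega

end Cfsg.Agent.S2362
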