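import Cfsg.Statements.S2363
import Cfsg.Agent.S0243
import Cfsg.Agent.S0280
import Cfsg.Agent.S0292
import Cfsg.Agent.S0293
import Cfsg.Agent.S0294
import Cfsg.Agent.S0324
import Cfsg.Agent.S1059
import Cfsg.Agent.S1062
import Cfsg.Agent.S1063
import Cfsg.Agent.S1064
import Cfsg.Agent.S1065
import Cfsg.Agent.S1066
import Cfsg.Agent.S1067
import Cfsg.Agent.S1068
import Cfsg.Agent.S1069
import Cfsg.Agent.Lib.BN.SzModel
import Cfsg.Agent.Lib.Forms.Symp
import Cfsg.Agent.Lib.Chev.All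
import Cfsg.Agent.Lib.Twist.RootAll

set_option autoImplicit false
open Cfsg Cfsg.Lie Cfsg.Lib.Chev Cfsg.Lib.Twist

namespace Cfsg.Agent.S2363

open Finset

theorem key {p f q d c n N M a : ℕ} (hp : p.Prime) (hq : q = p ^ f) (hd : Nat.Coprime q d) (hc : Nat.Coprime q c) (hd0 : d ≠ 0)
    (hn : n ≠ 0) (h : d * (c * n) = q ^ N * M) (hM : M < c * q ^ a) : f * N ≤ n.factorization p ∧ n < q ^ (N + a) := by
  have hq0 : 0 < q := hq ▸ pow_pos hp.pos _
  refine ⟨(hp.pow_dvd_iff_le_factorization hn).1 ?_, ?_⟩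
  · rw [pow_mul, ← hq]
    exact (hc.pow_left N).dvd_of_dvd_mul_left ((hd.pow_left N).dvd_of_dvd_mul_left ⟨M, h⟩)
  · have h1 : c * n ≤ q ^ N * M := h ▸ Nat.le_mul_of_pos_left _ (Nat.pos_of_ne_zero hd0)
    have h2 : q ^ N * M < q ^ N * (c * q ^ a) := Nat.mul_lt_mul_of_pos_left hM (pow_pos hq0 _)
    rw [show q ^ N * (c * q ^ a) = c * q ^ (N + a) by ring] at h2
    exact lt_of_mul_lt_mul_left (h1.trans_lt h2) (Nat.zero_le _)

theorem key' {p f q d c n N M a : ℕ} (hp : p.Prime) (hq : q = p ^ f) (hd : Nat.Coprime q d) (hc : Nat.Coprime q c) (hd0 : d ≠ 0)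
    (hn : n ≠ 0) (h : d * (c * n) = q ^ N * M) (hM : M < c * q ^ a) (ha : 3 * a ≤ 5 * N) : n ^ 3 < p ^ (8 * n.factorization p) := by
  obtain ⟨h1, h2⟩ := key hp hq hd hc hd0 hn h hM
  refine (Nat.pow_lt_pow_left h2 (by norm_num)).trans_le ?_
  rw [hq, ← pow_mul, ← pow_mul]
  refine Nat.pow_le_pow_right hp.pos (le_trans ?_ (Nat.mul_le_mul_left 8 h1))
  nlinarith [Nat.mul_le_mul_left f ha]

theorem cop_sub {q : ℕ} (hq : 2 ≤ q) {k : ℕ} (hk : k ≠ 0) : Nat.Coprime q (q ^ k - 1) := by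
  have : 1 ≤ q ^ k := Nat.one_le_pow _ _ (by omega)
  refine Nat.Coprime.symm ?_
  rw [← Nat.coprime_pow_right_iff (Nat.pos_of_ne_zero hk)]
  obtain ⟨r, hr⟩ : ∃ r, q ^ k = r + 1 := ⟨q ^ k - 1, by omega⟩
  rw [hr]; simp

theorem cop_add (q : ℕ) {k : ℕ} (hk : k ≠ 0) : Nat.Coprime q (q ^ k + 1) := by
  refine Nat.Coprime.symm ?_
  rw [← Nat.coprime_pow_right_iff (Nat.pos_of_ne_zero hk)]; simp

theorem cop_gcd {q a b : ℕ} (h : Nat.Coprime q b) : Nat.Coprime q (Nat.gcd a b) := h.coprime_dvd_right (Nat.gcd_dvd_right _ _)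

theorem lt_sub {q : ℕ} (hq : 2 ≤ q) (k : ℕ) : q ^ k - 1 < q ^ k := Nat.sub_lt (pow_pos (by omega) _) one_pos

theorem le_add {q : ℕ} (hq : 2 ≤ q) (k : ℕ) : q ^ k + 1 ≤ q ^ (k + 1) := by
  have : 1 ≤ q ^ k := Nat.one_le_pow _ _ (by omega)
  rw [pow_succ]; nlinarith

theorem sp_le {q : ℕ} (m : ℕ) : ∏ i ∈ range m, (q ^ (2 * (i + 1)) - 1) ≤ q ^ (m * (m + 1)) := by
  induction m with
  | zero => simp
  | succ m ih => rw [prod_range_succ, show (m + 1) * (m + 1 + 1) = m * (m + 1) + 2 * (m + 1) by ring, pow_add]; exact Nat.mul_le_mul ih (Nat.sub_le _ _)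

theorem sp_lt {q : ℕ} (hq : 2 ≤ q) (m : ℕ) : ∏ i ∈ range (m + 1), (q ^ (2 * (i + 1)) - 1) < 1 * q ^ ((m + 1) * (m + 2)) := by
  rw [prod_range_succ, show (m + 1) * (m + 2) = m * (m + 1) + 2 * (m + 1) by ring, pow_add, one_mul]
  exact Nat.mul_lt_mul_of_le_of_lt (sp_le m) (lt_sub hq _) (pow_pos (by omega) _)

theorem sl_eq (q n : ℕ) : ∏ i : Fin n, (q ^ n - q ^ (i : ℕ)) = q ^ (∑ i ∈ range n, i) * ∏ i ∈ range n, (q ^ (i + 1) - 1) := by
  rw [Fin.prod_univ_eq_prod_range (fun i => q ^ n - q ^ i), ← prod_pow_eq_pow_sum, ← prod_range_reflect (fun i => q ^ (i + 1) - 1),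
    ← prod_mul_distrib]
  refine prod_congr rfl fun i hi => ?_
  rw [mem_range] at hi
  rw [Nat.mul_sub, mul_one, ← pow_add, show i + (n - 1 - i + 1) = n by omega]

theorem sl_lt {q : ℕ} (hq : 2 ≤ q) (n : ℕ) :
    ∏ i ∈ range (n + 2), (q ^ (i + 1) - 1) < (q - 1) * q ^ (∑ i ∈ range (n + 2), i + (n + 1)) := by
  induction n with
  | zero =>
    simp only [prod_range_succ, sum_range_succ]; simp only [range_zero, prod_empty, sum_empty]; norm_num
    exact Nat.mul_lt_mul_of_pos_left (lt_sub hq _) (by omega)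
  | succ n ih =>
    rw [show n + 1 + 2 = n + 2 + 1 by rfl, prod_range_succ, sum_range_succ,
      show ∑ i ∈ range (n + 2), i + (n + 2) + (n + 1 + 1) = ∑ i ∈ range (n + 2), i + (n + 1) + (n + 2 + 1) by ring, pow_add q _ (n + 2 + 1), ← mul_assoc]
    exact Nat.mul_lt_mul'' ih (lt_sub hq _)

theorem su_odd {q : ℕ} (hq : 2 ≤ q) (k : ℕ) :
    ∏ i ∈ range (2 * k + 3), (if Even i then q ^ (i + 1) + 1 else q ^ (i + 1) - 1) <
      (q + 1) * q ^ (∑ i ∈ range (2 * k + 3), i + (2 * k + 2)) := by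
  have h : ∀ j, (q ^ j - 1) * (q ^ (j + 1) + 1) < q ^ (j + (j + 1)) := fun j => by
    obtain ⟨r, hr⟩ : ∃ r, q ^ j = r + 1 := ⟨q ^ j - 1, by have : 1 ≤ q ^ j := Nat.one_le_pow _ _ (by omega); omega⟩
    rw [pow_add q j (j + 1), pow_succ q j, hr, Nat.add_sub_cancel]; nlinarith
  induction k with
  | zero =>
    simp only [prod_range_succ, sum_range_succ]; simp only [range_zero, prod_empty, sum_empty]; norm_num
    rw [mul_assoc]; exact Nat.mul_lt_mul_of_pos_left (h 2) (by omega)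
  | succ k ih =>
    rw [show 2 * (k + 1) + 3 = 2 * k + 3 + 1 + 1 by ring, prod_range_succ, prod_range_succ, sum_range_succ, sum_range_succ,
      if_neg (by simp [parity_simps]), if_pos (by simp [parity_simps]), mul_assoc,
      show ∑ i ∈ range (2 * k + 3), i + (2 * k + 3) + (2 * k + 3 + 1) + (2 * (k + 1) + 2) =
        ∑ i ∈ range (2 * k + 3), i + (2 * k + 2) + ((2 * k + 3 + 1) + (2 * k + 3 + 1 + 1)) by ring,
      pow_add q _ (2 * k + 3 + 1 + (2 * k + 3 + 1 + 1)), ← mul_assoc (q + 1)]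
    exact Nat.mul_lt_mul'' ih (h _)

theorem su_lt {q : ℕ} (hq : 2 ≤ q) (n : ℕ) :
    ∏ i ∈ range (n + 3), (if Even i then q ^ (i + 1) + 1 else q ^ (i + 1) - 1) < (q + 1) * q ^ (∑ i ∈ range (n + 3), i + (n + 2)) := by
  obtain ⟨k, rfl | rfl⟩ := Nat.even_or_odd' n
  · exact su_odd hq k
  · rw [show 2 * k + 1 + 3 = 2 * k + 3 + 1 by ring, prod_range_succ, sum_range_succ, if_neg (by simp [parity_simps]),
      show ∑ i ∈ range (2 * k + 3), i + (2 * k + 3) + (2 * k + 1 + 2) = ∑ i ∈ range (2 * k + 3), i + (2 * k + 2) + (2 * k + 3 + 1) by ring,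
      pow_add q _ (2 * k + 3 + 1), ← mul_assoc]
    exact Nat.mul_lt_mul'' (su_odd hq k) (lt_sub hq _)

theorem card_pow (F : Type) [Field F] [Fintype F] {p : ℕ} [CharP F p] : ∃ f, Fintype.card F = p ^ f ∧ 2 ≤ p ^ f := by
  obtain ⟨f, -, h⟩ := FiniteField.card F p
  exact ⟨f, h, h ▸ Fintype.one_lt_card⟩

theorem card_pow' {F : Type} [Field F] [Fintype F] {p k : ℕ} (h : Fintype.card F = p ^ k) : ∃ f, Fintype.card F = p ^ f ∧ 2 ≤ p ^ f :=
  ⟨k, h, h ▸ Fintype.one_lt_card⟩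

theorem root_pow {p q e k : ℕ} (hp : p.Prime) (hk : k ≠ 0) (h : q ^ k = p ^ e) (h2 : 2 ≤ p ^ e) : ∃ f, q = p ^ f ∧ 2 ≤ q := by
  obtain ⟨f, -, hf⟩ := (Nat.dvd_prime_pow hp).1 (h ▸ dvd_pow_self q hk : q ∣ p ^ e)
  refine ⟨f, hf, ?_⟩
  by_contra h1
  have : q = 0 ∨ q = 1 := by omega
  rcases this with rfl | rfl
  · rw [zero_pow hk] at h; omega
  · rw [one_pow] at h; omega

theorem om_lt {q : ℕ} (hq : 2 ≤ q) {m A : ℕ} (hA : A ≤ q ^ (m + 1) + 1) :
    A * ∏ i ∈ range (m + 1 - 1), (q ^ (2 * (i + 1)) - 1) < 1 * q ^ (m + 3 + m * (m + 1)) := by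
  rw [one_mul, pow_add]
  exact Nat.mul_lt_mul_of_lt_of_le ((hA.trans (le_add hq _)).trans_lt (Nat.pow_lt_pow_right hq (by omega))) (sp_le m) (pow_pos (by omega) _)

theorem main {G : Type*} [Group G] [Finite G] (p : ℕ) (hp : p.Prime) (hG : Cfsg.IsLieTypeChar p G) :
    Nat.card G ^ 3 < p ^ (8 * (Nat.card G).factorization p) ∨ (Nat.card G < p ^ (3 * (Nat.card G).factorization p) ∧
      ∃ (F : Type) (_ : Field F) (_ : Fintype F), Fintype.card F = p ^ (Nat.card G).factorization p ∧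
          Nonempty (G ≃* Matrix.ProjectiveSpecialLinearGroup (Fin 2) F)) := by
  have hn : Nat.card G ≠ 0 := Nat.card_pos.ne'
  have c1 : ∀ q, Nat.Coprime q 1 := Nat.coprime_one_right
  rcases hG with ⟨F, _, _, _, n, hn2, -, ⟨e⟩⟩ | ⟨F, _, _, _, m, hm, -, ⟨e⟩⟩ | ⟨F, _, _, _, n, q, hq, hn3, -, ⟨e⟩⟩ |
    ⟨F, _, _, _, m, hm, ho, ⟨e⟩⟩ | ⟨F, _, _, _, m, hm, ⟨e⟩⟩ | ⟨F, _, _, _, m, a, b, hm, hab, ⟨e⟩⟩ |
    ⟨F, _, _, _, ⟨-, ⟨e⟩⟩ | ⟨⟨e⟩⟩ | ⟨⟨e⟩⟩ | ⟨⟨e⟩⟩ | ⟨⟨e⟩⟩⟩ | ⟨F, _, _, _, q, hpp, ⟨hq, ⟨e⟩⟩ | ⟨hq, ⟨e⟩⟩⟩ |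
    ⟨rfl, F, _, _, m, hm, hq, ⟨e⟩⟩ | ⟨rfl, F, _, _, m, hm, hq, ⟨e⟩⟩ | ⟨rfl, F, _, _, m, hm, hq, ⟨e⟩⟩
  all_goals first
    | obtain ⟨f, hf, h2⟩ := card_pow F (p := p)
    | obtain ⟨f, hf, h2⟩ := card_pow' hq
  · have h := S0243.result hf n hn2
    rw [← Nat.card_congr e.toEquiv, sl_eq] at h
    obtain ⟨n, rfl⟩ := Nat.exists_eq_add_of_le' hn2
    have hc : Nat.Coprime (p ^ f) (p ^ f - 1) := by simpa using cop_sub h2 one_ne_zero
    rcases Nat.eq_zero_or_pos n with rfl | hn0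
    · obtain ⟨h3, h4⟩ := key hp rfl (cop_gcd hc) hc (Nat.gcd_ne_zero_left (by omega)) hn h (sl_lt h2 0)
      simp only [sum_range_succ, prod_range_succ, range_zero, sum_empty, prod_empty] at h h3 h4
      norm_num at h h3 h4
      have h5 : (Nat.card G).factorization p = f := by
        refine le_antisymm ?_ h3
        have h6 : p ^ (Nat.card G).factorization p ∣ p ^ f * ((p ^ f - 1) * ((p ^ f) ^ 2 - 1)) :=
          h ▸ ((Nat.ordProj_dvd _ _).mul_left _).mul_left _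
        have hf0 : f ≠ 0 := by rintro rfl; simp at h2
        have h7 : Nat.Coprime p ((p ^ f - 1) * ((p ^ f) ^ 2 - 1)) :=
          (hc.mul_right (cop_sub h2 two_ne_zero)).coprime_dvd_left (dvd_pow_self p hf0)
        exact (Nat.pow_dvd_pow_iff_le_right hp.one_lt).1 ((h7.pow_left _).dvd_of_dvd_mul_right h6)
      exact Or.inr ⟨by rwa [h5, mul_comm, pow_mul], F, _, _, by rw [h5, hf], ⟨e⟩⟩
    · refine Or.inl (key' hp rfl (cop_gcd hc) hc (Nat.gcd_ne_zero_left (by omega)) hn h (sl_lt h2 n) ?_)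
      have := sum_range_id_mul_two (n + 2)
      rw [show n + 2 - 1 = n + 1 by rfl] at this; nlinarith
  · have h := Cfsg.Lib.Forms.gcd_mul_card_PSp (F := F) (m := m) (by omega)
    rw [← Nat.card_congr e.toEquiv, Nat.card_eq_fintype_card, hf, ← one_mul (Nat.card G)] at h
    obtain ⟨m, rfl⟩ := Nat.exists_eq_add_of_le' (show 1 ≤ m by omega)
    exact Or.inl (key' hp rfl (cop_gcd (by simpa using cop_sub h2 one_ne_zero)) (c1 _) (Nat.gcd_ne_zero_left (by omega)) hn h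
      (sp_lt h2 m) (by nlinarith))
  · have h := S0280.result hq n (by omega)
    obtain ⟨g, hg, hq2⟩ := root_pow hp two_ne_zero (hq.symm.trans hf) h2
    rw [← Nat.card_congr e.toEquiv, ← sum_range_id] at h
    obtain ⟨n, rfl⟩ := Nat.exists_eq_add_of_le' hn3
    have hc : Nat.Coprime q (q + 1) := by simp
    refine Or.inl (key' hp hg (cop_gcd hc) hc (Nat.gcd_ne_zero_left (by omega)) hn h (su_lt hq2 n) ?_)
    have := sum_range_id_mul_two (n + 3)
    rw [show n + 3 - 1 = n + 2 by rfl] at this; nlinarith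
  · have h := S0292.result hf (hf ▸ ho) m hm
    rw [← Nat.card_congr e.toEquiv, ← one_mul (Nat.card G)] at h
    obtain ⟨m, rfl⟩ := Nat.exists_eq_add_of_le' (show 1 ≤ m by omega)
    exact Or.inl (key' hp rfl (Nat.Coprime.symm (Nat.coprime_two_left.2 (hf ▸ ho))) (c1 _) two_ne_zero hn h (sp_lt h2 m) (by nlinarith))
  · have h := S0293.result hf m hm
    rw [← Nat.card_congr e.toEquiv, ← one_mul (Nat.card G), mul_assoc] at h
    obtain ⟨m, rfl⟩ := Nat.exists_eq_add_of_le' (show 1 ≤ m by omega)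
    exact Or.inl (key' hp rfl (cop_gcd (cop_sub h2 (by omega))) (c1 _) (Nat.gcd_ne_zero_left (by omega)) hn h (om_lt h2 (by omega))
      (by rw [Nat.add_sub_cancel]; nlinarith))
  · have h := S0294.result hf m hm a b hab
    rw [← Nat.card_congr e.toEquiv, ← one_mul (Nat.card G), mul_assoc] at h
    obtain ⟨m, rfl⟩ := Nat.exists_eq_add_of_le' (show 1 ≤ m by omega)
    exact Or.inl (key' hp rfl (cop_gcd (cop_add _ (by omega))) (c1 _) (Nat.gcd_ne_zero_left (by omega)) hn h (om_lt h2 le_rfl)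
      (by rw [Nat.add_sub_cancel]; nlinarith))
  · have h := S1059.result hf
    rw [← Nat.card_congr e.toEquiv, ← one_mul (Nat.card G), ← one_mul (1 * _), mul_assoc (_ ^ 6)] at h
    refine Or.inl (key' (a := 2 + 6) hp rfl (c1 _) (c1 _) one_ne_zero hn h ?_ (by norm_num))
    simp only [one_mul, pow_add]
    exact Nat.mul_lt_mul'' (lt_sub h2 _) (lt_sub h2 _)
  · have h := S1062.result hf
    rw [← Nat.card_congr e.toEquiv, ← one_mul (Nat.card G), ← one_mul (1 * _)] at h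
    simp only [mul_assoc ((p ^ f) ^ 24)] at h
    refine Or.inl (key' (a := 2 + 6 + 8 + 12) hp rfl (c1 _) (c1 _) one_ne_zero hn h ?_ (by norm_num))
    simp only [one_mul, pow_add]
    iterate 3 refine Nat.mul_lt_mul'' ?_ (lt_sub h2 _)
    exact lt_sub h2 _
  · have h := S1063.result hf
    rw [← Nat.card_congr e.toEquiv, ← one_mul (Nat.card G)] at h
    simp only [mul_assoc ((p ^ f) ^ 36)] at h
    refine Or.inl (key' (a := 2 + 5 + 6 + 8 + 9 + 12) hp rfl (cop_gcd (by simpa using cop_sub h2 one_ne_zero)) (c1 _) (by simp) hn h ?_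
      (by norm_num))
    simp only [one_mul, pow_add]
    iterate 5 refine Nat.mul_lt_mul'' ?_ (lt_sub h2 _)
    exact lt_sub h2 _
  · have h := S1064.result hf
    rw [← Nat.card_congr e.toEquiv, ← one_mul (Nat.card G)] at h
    simp only [mul_assoc ((p ^ f) ^ 63)] at h
    refine Or.inl (key' (a := 2 + 6 + 8 + 10 + 12 + 14 + 18) hp rfl (cop_gcd (by simpa using cop_sub h2 one_ne_zero)) (c1 _) (by simp) hn h ?_
      (by norm_num))
    simp only [one_mul, pow_add]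
    iterate 6 refine Nat.mul_lt_mul'' ?_ (lt_sub h2 _)
    exact lt_sub h2 _
  · have h := S1065.result hf
    rw [← Nat.card_congr e.toEquiv, ← one_mul (Nat.card G), ← one_mul (1 * _)] at h
    simp only [mul_assoc ((p ^ f) ^ 120)] at h
    refine Or.inl (key' (a := 2 + 8 + 12 + 14 + 18 + 20 + 24 + 30) hp rfl (c1 _) (c1 _) one_ne_zero hn h ?_ (by norm_num))
    simp only [one_mul, pow_add]
    iterate 7 refine Nat.mul_lt_mul'' ?_ (lt_sub h2 _)
    exact lt_sub h2 _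
  · have h := S1066.result hpp hq
    obtain ⟨g, hg, hq2⟩ := root_pow hp two_ne_zero (hq.symm.trans hf) h2
    rw [← Nat.card_congr e.toEquiv, ← one_mul (Nat.card G)] at h
    simp only [mul_assoc (q ^ 36)] at h
    refine Or.inl (key' (a := 2 + 7 + 6 + 8 + 11 + 12) hp hg (cop_gcd (by simp)) (c1 _) (by simp) hn h ?_ (by norm_num))
    simp only [one_mul, pow_add]
    iterate 5 refine Nat.mul_lt_mul'' ?_ (by first | exact lt_sub hq2 _ | exact (le_add hq2 _).trans_lt (Nat.pow_lt_pow_right hq2 (by norm_num)))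
    exact lt_sub hq2 _
  · have h := S1067.result hpp hq
    obtain ⟨g, hg, hq2⟩ := root_pow hp three_ne_zero (hq.symm.trans hf) h2
    rw [← Nat.card_congr e.toEquiv, ← one_mul (Nat.card G), ← one_mul (1 * _)] at h
    simp only [mul_assoc (q ^ 12)] at h
    refine Or.inl (key' (a := 2 + 6 + 9) hp hg (c1 _) (c1 _) one_ne_zero hn h ?_ (by norm_num))
    rw [one_mul, pow_add, pow_add]
    refine Nat.mul_lt_mul'' (Nat.mul_lt_mul'' (lt_sub hq2 _) (lt_sub hq2 _)) ?_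
    have h1 : q ^ 4 + 1 < q ^ 8 := (le_add hq2 4).trans_lt (Nat.pow_lt_pow_right hq2 (by norm_num))
    rw [pow_succ q 8]; nlinarith [Nat.mul_le_mul_left (q ^ 8) hq2]
  · have := Cfsg.Lib.BN.Sz.szField_of_card hm hq
    have h := S0324.result hm hq
    rw [Nat.card_congr (Cfsg.Lib.BN.Sz.szEquiv m).toEquiv, ← Nat.card_congr e.toEquiv, ← one_mul (Nat.card G), ← one_mul (1 * _),
      mul_assoc (_ ^ 2)] at h
    refine Or.inl (key' (a := 3) hp rfl (c1 _) (c1 _) one_ne_zero hn h ?_ (by norm_num))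
    rw [← hq, hf]; obtain ⟨r, hr⟩ : ∃ r, 2 ^ f = r + 1 := ⟨2 ^ f - 1, by omega⟩
    rw [hr, Nat.add_sub_cancel]; nlinarith
  · have h := S1068.result hq
    rw [← Nat.card_congr e.toEquiv, ← one_mul (Nat.card G), ← one_mul (1 * _), ← hq, hf] at h
    simp only [mul_assoc ((2 ^ f) ^ 12)] at h
    refine Or.inl (key' (a := 1 + (3 + 1) + 4 + (6 + 1)) hp rfl (c1 _) (c1 _) one_ne_zero hn h ?_ (by norm_num))
    rw [one_mul, pow_add, pow_add, pow_add, pow_one]
    exact Nat.mul_lt_mul_of_lt_of_le (Nat.mul_lt_mul'' (Nat.mul_lt_mul_of_lt_of_le (by omega) (le_add h2 _) (by positivity)) (lt_sub h2 _))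
      (le_add h2 _) (by positivity)
  · have h := S1069.result hq
    rw [← Nat.card_congr e.toEquiv, ← one_mul (Nat.card G), ← one_mul (1 * _), ← hq, hf, mul_assoc (_ ^ 3)] at h
    refine Or.inl (key' (a := 1 + (3 + 1)) hp rfl (c1 _) (c1 _) one_ne_zero hn h ?_ (by norm_num))
    rw [one_mul, pow_add, pow_one]
    exact Nat.mul_lt_mul_of_lt_of_le (by omega) (le_add h2 _) (by positivity)

/-- Let G be a finite simple group of Lie type in characteristic p and let p^k be the exact power of p dividing the order of G. Then the order of G is less than p^(3k); and unless G is isomorphic to PSL(2, F) for the field F with p^k elements, the cube of the order of G is less than p^(8k) (that is, the order is below p^(8k/3)). -/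
theorem result {G : Type*} [Group G] [Finite G] (p : ℕ) (hp : p.Prime) (hG : Cfsg.IsLieTypeChar p G) :
    Nat.card G < p ^ (3 * (Nat.card G).factorization p) ∧
      ((¬ ∃ (F : Type) (_ : Field F) (_ : Fintype F), Fintype.card F = p ^ (Nat.card G).factorization p ∧
          Nonempty (G ≃* Matrix.ProjectiveSpecialLinearGroup (Fin 2) F)) →
        Nat.card G ^ 3 < p ^ (8 * (Nat.card G).factorization p)) := by
  rcases main p hp hG with h | ⟨h, h'⟩
  · refine ⟨lt_of_pow_lt_pow_left₀ 3 (Nat.zero_le _) (h.trans_le ?_), fun _ => h⟩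
    rw [← pow_mul]; exact Nat.pow_le_pow_right hp.pos (by omega)
  · exact ⟨h, fun h'' => absurd h' h''⟩

end Cfsg.Agent.S2363
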