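import Cfsg.Statements.S2364
import Cfsg.Agent.Lib.Linear.Spec

set_option autoImplicit false
open Cfsg

namespace Cfsg.Agent.S2364

open Cfsg.Lib.Linear Cfsg.Lib.Small
attribute [-simp] Nat.card_eq_fintype_card

/-- Let F be a finite field of characteristic p, n ≥ 4, and let a, b be commuting elements of PSL(n, F) with a of order p. Then every prime divisor of the order of b divides the order of SL(n − 2, F). -/
theorem result {F : Type*} [Field F] [Fintype F] (p : ℕ) [Fact p.Prime] [CharP F p] (n : ℕ) (hn : 4 ≤ n)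
    (a b : Matrix.ProjectiveSpecialLinearGroup (Fin n) F) (ha : orderOf a = p) (hab : Commute a b) :
    (orderOf b).primeFactors ⊆ (Nat.card (Matrix.SpecialLinearGroup (Fin (n - 2)) F)).primeFactors := by
  intro r hr0
  obtain ⟨hr, hrb, -⟩ := Nat.mem_primeFactors.mp hr0
  refine Nat.mem_primeFactors.mpr ⟨hr, ?_, Nat.card_pos.ne'⟩
  obtain ⟨m, rfl⟩ : ∃ m, n = m + 4 := ⟨n - 4, by omega⟩
  change r ∣ Nat.card (Matrix.SpecialLinearGroup (Fin (m + 2)) F)
  have hq : 2 ≤ Nat.card F := two_le_card_field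
  have h1 : Nat.card F * (Nat.card F - 1) ∣ Nat.card (Matrix.SpecialLinearGroup (Fin (m + 2)) F) := by
    refine Nat.dvd_of_mul_dvd_mul_left (k := Nat.card F - 1) (by omega) ?_
    rw [card_SL_aux, card_GL', Fintype.card_fin, Finset.prod_range_succ', Finset.prod_range_succ', mul_left_comm]
    refine mul_dvd_mul (dvd_pow_self _ ?_) ?_
    · have : (m + 2) * (m + 2 - 1) = m * m + 3 * m + 2 := by rw [show m + 2 - 1 = m + 1 from rfl]; ring
      omega
    · rw [zero_add, pow_one]
      exact mul_dvd_mul_right (Dvd.dvd.mul_left (by simpa using Nat.sub_dvd_pow_sub_pow (Nat.card F) 1 2) _) _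
  by_cases hrp : r = p
  · exact hrp ▸ (spec_char_dvd p).trans ((dvd_mul_right _ _).trans h1)
  by_cases hrq : r ∣ Nat.card F - 1
  · exact hrq.trans ((dvd_mul_left _ _).trans h1)
  rw [prime_dvd_card_SL_iff hr hrq (prime_not_dvd_natCard p hr hrp)]
  have h2 := orderOf_pow_orderOf_div (orderOf_pos b).ne' hrb
  have h3 := psl_add_two_le (n := Fin (m + 4)) p hr hrp hrq ⟨b ^ (orderOf b / r) * a, by
    rw [(hab.symm.pow_left _).orderOf_mul_eq_mul_orderOf_of_coprime (by
      rw [h2, ha]; exact (Nat.coprime_primes hr Fact.out).mpr hrp), h2, ha]⟩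
  simp at h3 ⊢
  omega

end Cfsg.Agent.S2364
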