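import Cfsg.Statements.S2365
import Cfsg.Agent.Lib.Linear.SpecU

set_option autoImplicit false
open Cfsg

namespace Cfsg.Agent.S2365

open Cfsg.Lib Cfsg.Lib.Linear Cfsg.Lib.Small
attribute [-simp] Nat.card_eq_fintype_card

/-- Let q be a power of the prime p, F the field with q² elements, m ≥ 4, and let a, b be commuting elements of PSU(m, q) with a of order p. Then every prime divisor of the order of b divides the order of SU(m − 2, q). -/
theorem result {F : Type*} [Field F] [Fintype F] (p : ℕ) [Fact p.Prime] [CharP F p] (m q : ℕ) (hm : 4 ≤ m) (hF : Fintype.card F = q ^ 2)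
    (a b : Cfsg.PSU m F q) (ha : orderOf a = p) (hab : Commute a b) :
    (orderOf b).primeFactors ⊆ (Nat.card ↥(Cfsg.SU (m - 2) F q)).primeFactors := by
  intro r hr0
  obtain ⟨σ, hσ⟩ := Forms.isConj_of_card hF
  obtain ⟨hr, hrb, -⟩ := Nat.mem_primeFactors.mp hr0
  refine Nat.mem_primeFactors.mpr ⟨hr, ?_, Nat.card_pos.ne'⟩
  obtain ⟨m, rfl⟩ : ∃ k, m = k + 4 := ⟨m - 4, by omega⟩
  change r ∣ Nat.card (SU (m + 2) F q)
  have hq : 1 ≤ q := Nat.pos_of_ne_zero fun h => by simp [h] at hF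
  have h0 := Forms.Herm.card_ker_det (Forms.stdHerm_nondeg hσ (Fin (m + 2))) (by simp)
  rw [← Nat.card_congr (Forms.suEquiv hσ (m + 2)).toEquiv, guOrder_eq hq, Module.finrank_fin_fun,
    Finset.prod_range_succ', zero_add, geomU_one, one_mul, ← mul_assoc, mul_comm, mul_left_inj' (by omega)] at h0
  rw [h0]
  by_cases hrp : r = p
  · refine hrp ▸ ((char_dvd_q hσ p).trans (dvd_pow_self _ ?_)).mul_right _
    have : (m + 2) * (m + 2 - 1) = m * m + 3 * m + 2 := by rw [show m + 2 - 1 = m + 1 from rfl]; ring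
    omega
  refine Dvd.dvd.mul_left ?_ _
  by_cases hrq : r ∣ q + 1
  · exact (hrq.mul_left _).trans (Finset.dvd_prod_of_mem _ (Finset.mem_range.mpr (Nat.succ_pos m)))
  have h2 := orderOf_pow_orderOf_div (orderOf_pos b).ne' hrb
  obtain ⟨h3, h4⟩ := psu_add_two_le (n := m + 4) hσ p (by omega) hr hrp hrq ⟨b ^ (orderOf b / r) * a, by
    rw [(hab.symm.pow_left _).orderOf_mul_eq_mul_orderOf_of_coprime (by
      rw [h2, ha]; exact (Nat.coprime_primes hr Fact.out).mpr hrp), h2, ha]⟩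
  have h5 : orderOf (-q : ZMod r) ≠ 1 := fun h5 => hrq (by
    simpa using (dvd_neg_pow_sub_one_iff (q := q) (r := r) (k := 1)).mpr (h5 ▸ dvd_rfl))
  obtain ⟨k, hk⟩ : ∃ k, orderOf (-q : ZMod r) = k + 1 + 1 := ⟨orderOf (-q : ZMod r) - 2, by omega⟩
  exact (dvd_neg_pow_sub_one_iff.mpr (hk ▸ dvd_rfl)).trans
    (Finset.dvd_prod_of_mem (fun i => geomU q (i + 1 + 1) * (q + 1)) (Finset.mem_range.mpr (show k < m + 1 by omega)))

end Cfsg.Agent.S2365
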