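import Cfsg.Statements.S2367


set_option autoImplicit false
open Cfsg

namespace Cfsg.Agent.S2367

theorem spor (N a p : ℕ) (hp : p.Prime) (hN : N ≠ 0) (h3 : N.factorization p = 3) (h1 : N ∣ (Nat.factorial 71) ^ 46)
    (h2 : 2 ^ a ∣ N) (h4 : ∀ q ≤ 71, q ^ 3 ∣ N → ¬ q ^ 4 ∣ N → q = 3 ∨ q = 5 ∨ q = 7 ∨ q = 11 ∨ q = 13 → q ^ 3 < 2 ^ a)
    (h5 : ∀ q ≤ 71, 17 ≤ q → ¬ q ^ 3 ∣ N ∨ 2 ∣ q ∨ 3 ∣ q ∨ 5 ∣ q ∨ 7 ∣ q) (hodd : p ≠ 2) :
    p ^ 3 < 2 ^ N.factorization 2 := by
  have ha : p ^ 3 ∣ N := (hp.pow_dvd_iff_le_factorization hN).2 h3.ge
  have hb : ¬ p ^ 4 ∣ N := fun h => by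
    have := (hp.pow_dvd_iff_le_factorization hN).1 h
    omega
  have hc : p ≤ 71 := by
    have : p ∣ (Nat.factorial 71) ^ 46 := ((dvd_pow_self p (by norm_num)).trans ha).trans h1
    exact (hp.dvd_factorial).1 (hp.dvd_of_dvd_pow this)
  have hd : a ≤ N.factorization 2 := (Nat.prime_two.pow_dvd_iff_le_factorization hN).1 h2
  refine lt_of_lt_of_le (h4 p hc ha hb ?_) (Nat.pow_le_pow_right (by norm_num) hd)
  by_cases h17 : 17 ≤ p
  · exfalso
    rcases h5 p hc h17 with h | h | h | h | h
    · exact h ha
    all_goals
      have := (Nat.prime_dvd_prime_iff_eq (by norm_num) hp).1 h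
      omega
  · have := hp.two_le
    have h16 : p ≤ 16 := by omega
    interval_cases p <;> first | omega | (exfalso; revert hp; norm_num)

theorem pw (p : ℕ) (hp : 3 ≤ p) : p ^ 3 < 2 ^ (2 * p - 1) := by
  induction p, hp using Nat.le_induction with
  | base => norm_num
  | succ k hk ih =>
    have : 2 * (k + 1) - 1 = (2 * k - 1) + 2 := by omega
    rw [this, pow_add]
    nlinarith [sq_nonneg k, Nat.mul_le_mul hk hk, Nat.mul_le_mul (Nat.mul_le_mul hk hk) (le_refl k), Nat.mul_le_mul (Nat.mul_le_mul hk (le_refl k)) (le_refl k)]

theorem alt (n M p : ℕ) (hp : p.Prime) (hodd : p ≠ 2) (hM : 2 * M = n.factorial) (h3 : M.factorization p = 3) :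
    p ^ 3 < 2 ^ M.factorization 2 := by
  have hM0 : M ≠ 0 := by
    rintro rfl
    exact n.factorial_ne_zero (by omega)
  have e : ∀ q, (n.factorial).factorization q = (2 : ℕ).factorization q + M.factorization q := fun q => by
    rw [← hM, Nat.factorization_mul (by norm_num) hM0]; rfl
  have e2 := e 2
  have ep := e p
  rw [Nat.prime_two.factorization_self] at e2
  rw [Nat.prime_two.factorization, Finsupp.single_eq_of_ne hodd, h3] at ep
  have low : ∀ q, q.Prime → n / q + n / q ^ 2 ≤ (n.factorial).factorization q := fun q hq => by
    rw [Nat.factorization_factorial hq (b := Nat.log q n + 3) (by omega)]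
    have : ({1, 2} : Finset ℕ) ⊆ Finset.Ico 1 (Nat.log q n + 3) := by
      intro x hx
      simp only [Finset.mem_insert, Finset.mem_singleton] at hx
      simp only [Finset.mem_Ico]
      omega
    have := Finset.sum_le_sum_of_subset (f := fun i => n / q ^ i) this
    simpa using this
  have hp3 := hp.two_le
  have hn : 3 * p ≤ n := by
    by_contra hlt
    push Not at hlt
    have h1 : n < p ^ 2 := by
      have : 3 ≤ p := by omega
      nlinarith
    have h2 : Nat.log p n < 2 := by
      rcases Nat.eq_zero_or_pos n with rfl | hn0
      · simp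
      · exact Nat.log_lt_of_lt_pow (by omega) h1
    rw [Nat.factorization_factorial hp h2] at ep
    simp at ep
    have : n / p < 3 := Nat.div_lt_of_lt_mul (by omega)
    omega
  have h5 : 5 ≤ p := by
    by_contra hlt
    have : p = 3 ∨ p = 4 := by omega
    rcases this with rfl | rfl
    · have := low 3 hp
      omega
    · revert hp; norm_num
  have := low 2 Nat.prime_two
  exact lt_of_lt_of_le (pw p (by omega)) (Nat.pow_le_pow_right (by norm_num) (by omega))

/-- Let G be an alternating group of degree at least 5 or a simple group with the order of one of the 26 sporadic groups, and let p be an odd prime such that p³ is the exact power of p dividing the order of G. Then p³ is less than the 2-part of the order of G. -/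
theorem result {G : Type*} [Group G] [Finite G] (hG : Cfsg.IsAlternating G ∨ Cfsg.IsSporadic G)
    (p : ℕ) (hp : p.Prime) (hodd : p ≠ 2) (h3 : (Nat.card G).factorization p = 3) :
    p ^ 3 < 2 ^ (Nat.card G).factorization 2 := by
  rcases hG with ⟨n, hn, ⟨e⟩⟩ | h
  · have : Nontrivial (Fin n) := Fin.nontrivial_iff_two_le.2 (by omega)
    refine alt n _ p hp hodd ?_ h3
    rw [Nat.card_congr e.toEquiv, two_mul_nat_card_alternatingGroup, Nat.card_perm, Nat.card_eq_fintype_card, Fintype.card_fin]
  · rcases h with h | h | h | h | h | h | h | h | h | h | h | h | h | h | h | h | h | h | h | h | h | h | h | h | h | h <;> rw [h.2] at h3 ⊢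
    · exact spor _ 4 p hp (by norm_num) h3 (by decide +kernel) (by norm_num) (by decide +kernel) (by decide +kernel) hodd
    · exact spor _ 6 p hp (by norm_num) h3 (by decide +kernel) (by norm_num) (by decide +kernel) (by decide +kernel) hodd
    · exact spor _ 7 p hp (by norm_num) h3 (by decide +kernel) (by norm_num) (by decide +kernel) (by decide +kernel) hodd
    · exact spor _ 7 p hp (by norm_num) h3 (by decide +kernel) (by norm_num) (by decide +kernel) (by decide +kernel) hodd
    · exact spor _ 10 p hp (by norm_num) h3 (by decide +kernel) (by norm_num) (by decide +kernel) (by decide +kernel) hodd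
    · exact spor _ 3 p hp (by norm_num) h3 (by decide +kernel) (by norm_num) (by decide +kernel) (by decide +kernel) hodd
    · exact spor _ 7 p hp (by norm_num) h3 (by decide +kernel) (by norm_num) (by decide +kernel) (by decide +kernel) hodd
    · exact spor _ 7 p hp (by norm_num) h3 (by decide +kernel) (by norm_num) (by decide +kernel) (by decide +kernel) hodd
    · exact spor _ 21 p hp (by norm_num) h3 (by decide +kernel) (by norm_num) (by decide +kernel) (by decide +kernel) hodd
    · exact spor _ 21 p hp (by norm_num) h3 (by decide +kernel) (by norm_num) (by decide +kernel) (by decide +kernel) hodd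
    · exact spor _ 18 p hp (by norm_num) h3 (by decide +kernel) (by norm_num) (by decide +kernel) (by decide +kernel) hodd
    · exact spor _ 10 p hp (by norm_num) h3 (by decide +kernel) (by norm_num) (by decide +kernel) (by decide +kernel) hodd
    · exact spor _ 17 p hp (by norm_num) h3 (by decide +kernel) (by norm_num) (by decide +kernel) (by decide +kernel) hodd
    · exact spor _ 18 p hp (by norm_num) h3 (by decide +kernel) (by norm_num) (by decide +kernel) (by decide +kernel) hodd
    · exact spor _ 21 p hp (by norm_num) h3 (by decide +kernel) (by norm_num) (by decide +kernel) (by decide +kernel) hodd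
    · exact spor _ 9 p hp (by norm_num) h3 (by decide +kernel) (by norm_num) (by decide +kernel) (by decide +kernel) hodd
    · exact spor _ 7 p hp (by norm_num) h3 (by decide +kernel) (by norm_num) (by decide +kernel) (by decide +kernel) hodd
    · exact spor _ 10 p hp (by norm_num) h3 (by decide +kernel) (by norm_num) (by decide +kernel) (by decide +kernel) hodd
    · exact spor _ 14 p hp (by norm_num) h3 (by decide +kernel) (by norm_num) (by decide +kernel) (by decide +kernel) hodd
    · exact spor _ 13 p hp (by norm_num) h3 (by decide +kernel) (by norm_num) (by decide +kernel) (by decide +kernel) hodd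
    · exact spor _ 9 p hp (by norm_num) h3 (by decide +kernel) (by norm_num) (by decide +kernel) (by decide +kernel) hodd
    · exact spor _ 14 p hp (by norm_num) h3 (by decide +kernel) (by norm_num) (by decide +kernel) (by decide +kernel) hodd
    · exact spor _ 8 p hp (by norm_num) h3 (by decide +kernel) (by norm_num) (by decide +kernel) (by decide +kernel) hodd
    · exact spor _ 15 p hp (by norm_num) h3 (by decide +kernel) (by norm_num) (by decide +kernel) (by decide +kernel) hodd
    · exact spor _ 41 p hp (by norm_num) h3 (by decide +kernel) (by norm_num) (by decide +kernel) (by decide +kernel) hodd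
    · exact spor _ 46 p hp (by norm_num) h3 (by decide +kernel) (by norm_num) (by decide +kernel) (by decide +kernel) hodd

end Cfsg.Agent.S2367
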