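import Cfsg.Statements.S2368
import Cfsg.Agent.Lib.Known.Unipotent

set_option autoImplicit false
open Cfsg

namespace Cfsg.Agent.S2368

open Cfsg.Lib.Known


/-- Let F be a finite field of characteristic p and m ≥ 1. Every element of GL(m, F) of p-power order has order less than p·m, and GL(m, F) has an element of p-power order at least m; so the largest order of a p-element of GL(m, F) is the least power of p that is at least m. -/
theorem result {F : Type*} [Field F] [Fintype F] (p : ℕ) [Fact p.Prime] [CharP F p] (m : ℕ) (hm : 1 ≤ m) :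
    (∀ g : Matrix.GeneralLinearGroup (Fin m) F, (∃ j : ℕ, orderOf g = p ^ j) → orderOf g < p * m) ∧
      ∃ g : Matrix.GeneralLinearGroup (Fin m) F, (∃ j : ℕ, orderOf g = p ^ j) ∧ m ≤ orderOf g := by
  have hp := (Fact.out : p.Prime)
  constructor
  · intro g hg
    have hu := (GL_isNilpotent_iff_orderOf p g).2 hg
    have h1 : g ^ p ^ Nat.clog p m = 1 := (GL_pow_char_pow_eq_one_iff p g _).2
      (pow_eq_zero_of_isNilpotent hu (by simpa using Nat.le_pow_clog hp.one_lt m))
    have h2 := Nat.le_of_dvd (pow_pos hp.pos _) (orderOf_dvd_of_pow_eq_one h1)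
    refine h2.trans_lt ?_
    rcases hm.eq_or_lt with h | h
    · subst h; simpa using hp.one_lt
    · have h3 := Nat.pow_pred_clog_lt_self hp.one_lt h
      have h4 : 0 < Nat.clog p m := Nat.clog_pos hp.one_lt h
      obtain ⟨k, hk⟩ : ∃ k, Nat.clog p m = k + 1 := ⟨_, (Nat.succ_pred_eq_of_pos h4).symm⟩
      rw [hk] at h3 ⊢
      rw [pow_succ']
      exact Nat.mul_lt_mul_of_pos_left h3 hp.pos
  · have hu : IsNilpotent (((unipGL (isNilpotent_jblock (F := F) m) : GL (Fin m) F) :
        Matrix (Fin m) (Fin m) F) - 1) := by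
      rw [coe_unipGL, add_sub_cancel_left]; exact isNilpotent_jblock m
    obtain ⟨j, hj⟩ := (GL_isNilpotent_iff_orderOf p _).1 hu
    refine ⟨_, ⟨j, hj⟩, ?_⟩
    have h3 := (GL_pow_char_pow_eq_one_iff p _ j).1 (hj ▸ pow_orderOf_eq_one _)
    rw [coe_unipGL, add_sub_cancel_left, jblock_pow_eq_zero_iff] at h3
    omega

end Cfsg.Agent.S2368
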