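import Cfsg.Statements.S2369
import Cfsg.Agent.Lib.Chev.F4Ord2

set_option autoImplicit false
open Cfsg Cfsg.Lie Cfsg.Lib.Chev Cfsg.Lib.Twist

namespace Cfsg.Agent.S2369

/-- Let q = 2^(2m+1) with m ≥ 1 and let a, b be commuting elements of the large Ree group ²F₄(q) with a an involution. Then every prime divisor of the order of b divides q(q⁴ − 1). -/
theorem result {K : Type*} [Field K] [Fintype K] (m : ℕ) (hm : 1 ≤ m) (hK : Fintype.card K = 2 ^ (2 * m + 1))
    (a b : ↥(Cfsg.Lie.twistedF4 K (2 ^ m))) (ha : orderOf a = 2) (hab : Commute a b) :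
    (orderOf b).primeFactors ⊆ (2 ^ (2 * m + 1) * ((2 ^ (2 * m + 1)) ^ 4 - 1)).primeFactors := by
  intro s hs
  obtain ⟨h1, h2, h3⟩ := Nat.mem_primeFactors.1 hs
  have h4 : 1 < (2 ^ (2 * m + 1)) ^ 4 := Nat.one_lt_pow (by norm_num) (Nat.one_lt_two_pow (by omega))
  refine Nat.mem_primeFactors.2 ⟨h1, ?_, mul_ne_zero (by positivity) (by omega)⟩
  rcases h1.eq_two_or_odd' with rfl | h5
  · exact (dvd_pow_self 2 (by omega)).mul_right _
  have h6 : s.Coprime 2 := h5.coprime_two_right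
  have h7 := orderOf_pow_orderOf_div h3 h2
  refine Dvd.dvd.mul_left (Int.natCast_dvd_natCast.1 ?_) _
  rw [Nat.cast_sub h4.le]
  push_cast
  rcases F4.twisted_dvd hK (b ^ (orderOf b / s) * a) h6 (by
    rw [(hab.symm.pow_left _).orderOf_mul_eq_mul_orderOf_of_coprime (by rwa [h7, ha]), h7, ha]) with h | h
  · exact ((Nat.isCoprime_iff_coprime.2 h6).pow_right (n := 4)).dvd_of_dvd_mul_left (dvd_of_eq' h (by push_cast; ring))
  · obtain rfl := (Nat.prime_dvd_prime_iff_eq h1 Nat.prime_three).1 ((h6.pow_right 4).dvd_of_dvd_mul_left h)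
    rw [← pow_mul, mul_comm _ 4, pow_mul]
    simpa using (show ((3 : ℕ) : ℤ) ∣ 2 ^ 4 - 1 by norm_num).trans (sub_dvd_pow_sub_pow (2 ^ 4) 1 (2 * m + 1))

end Cfsg.Agent.S2369
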