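import Cfsg.Statements.S2370
import Cfsg.Agent.Lib.Chev.CentD
import Cfsg.Agent.Lib.Twist.TwF4

set_option autoImplicit false
open Cfsg Cfsg.Lie Cfsg.Lib.Chev Cfsg.Lib.Twist

namespace Cfsg.Agent.S2370

open scoped commutatorElement

variable {I Φ : Type*} [Fintype I] [DecidableEq I] {R : RootSys I Φ} {K : Type*} [Field K] {G : Type*} [Group G] {S : PreSys R K G}
  {T : Set Φ} {f : (I → ℤ) →+ ℤ}

theorem comm_lev (hT : R.Nil T f) {m n : ℤ} {r : Φ} (hr : r ∈ R.lev T f m) (t : K) {g : G} (hg : g ∈ S.U (R.lev T f n)) :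
    ⁅S.x r t, g⁆ ∈ S.U (R.lev T f (m + n)) := by
  induction hg using S.U_induction_left with
  | h1 => simp
  | h2 s hs u g hg ih =>
    rw [show ⁅S.x r t, S.x s u * g⁆ = ⁅S.x r t, S.x s u⁆ * (S.x s u * ⁅S.x r t, g⁆ * (S.x s u)⁻¹) by group]
    exact mul_mem (S.comm_mem_U (hT.ne_neg hs.1 hr.1) (fun k hk => And.intro (hT.closed _ hr.1 _ hs.1 hk) ((add_le_add hr.2 hs.2).trans
      (R.le_of_mem_cone hk (hT.pos _ hr.1).le (hT.pos _ hs.1).le))) _ _) (S.conj_mem_lev hT _ (S.x_mem_U hs.1 u) ih)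

theorem sq_lev [CharP K 2] (hT : R.Nil T f) {m : ℤ} {g : G} (hg : g ∈ S.U (R.lev T f m)) : g ^ 2 ∈ S.U (R.lev T f (m + m)) := by
  induction hg using S.U_induction_left with
  | h1 => simp
  | h2 s hs u g hg ih =>
    have : (S.x s u)⁻¹ = S.x s u := by rw [← S.x_neg, CharTwo.neg_eq]
    rw [show (S.x s u * g) ^ 2 = ⁅S.x s u, g⁆ * g ^ 2 by nth_rw 1 [sq]; nth_rw 2 [← this]; group]
    exact mul_mem (comm_lev hT hs u hg) ih

/-- Let q = 2^(2m+1) with m ≥ 1. Every element of 2-power order of the large Ree group ²F₄(q) has order at most 32. -/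
theorem result {K : Type*} [Field K] [Fintype K] (m : ℕ) (hm : 1 ≤ m) (hK : Fintype.card K = 2 ^ (2 * m + 1))
    (x : ↥(Cfsg.Lie.twistedF4 K (2 ^ m))) (hx : ∃ j : ℕ, orderOf x = 2 ^ j) : orderOf x ≤ 32 := by
  obtain ⟨d⟩ := exists_F4Data hK
  have := d.char
  have hc := rootOK_F4.compat
  obtain ⟨j, hj⟩ := hx
  obtain ⟨a, ha⟩ := (hc.gst matOK_F4).exists_conj_U (hc.gsep _) (hc.gopp _) (hc.ggen _) 2 (hc.gmult _) (g := ⟨x.1, d.gen.1 x.2⟩) (n := j)
    (Subtype.ext (by have := congrArg Subtype.val (hj ▸ pow_orderOf_eq_one x : x ^ 2 ^ j = 1); simpa using this))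
  have h := sq_lev rootOK_F4.R.nil_pos (sq_lev rootOK_F4.R.nil_pos (sq_lev rootOK_F4.R.nil_pos (sq_lev rootOK_F4.R.nil_pos
    (PreSys.U_mono _ (T' := rootOK_F4.R.lev _ RootSys.htL 1) (fun r hr => And.intro hr (rootOK_F4.R.ht_pos hr)) ha))))
  have h16 : ∀ r : Fin chevF4.nroots, htN chevF4 tabF4 r < 16 := by decide +kernel
  rw [show rootOK_F4.R.lev _ _ _ = ∅ from Set.eq_empty_of_forall_notMem fun r hr => by
    have h1 := hr.2
    rw [RootSys.htL_rt, ht_eq rootOK_F4 r] at h1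
    have := h16 r; omega, PreSys.U_empty, Subgroup.mem_bot, ← pow_mul, ← pow_mul, ← pow_mul,
    show a⁻¹ * ⟨x.1, d.gen.1 x.2⟩ * a = MulAut.conj a⁻¹ ⟨x.1, d.gen.1 x.2⟩ by simp, ← map_pow, EmbeddingLike.map_eq_one_iff] at h
  exact (orderOf_le_of_pow_eq_one (n := 16) (by norm_num) (Subtype.ext (by simpa using congrArg Subtype.val h))).trans (by norm_num)

end Cfsg.Agent.S2370
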