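import Cfsg.Statements.S2371
import Cfsg.Agent.Lib.Chev.ToriD
import Cfsg.Agent.Lib.Twist.RootAll

set_option autoImplicit false
open Cfsg Cfsg.Lie Cfsg.Lib.Chev Cfsg.Lib.Twist

namespace Cfsg.Agent.S2371

theorem chk : chkTor chevG2 tabG2 id [0, 1, 0, 1] 0x106040208000b030907050a 0x90a00000000000007090000000000000809000000000000090900000000000007080000000000000a09000000000000060700000000000009080000000000000707000000000000080700000000000009070000000000000706 [[1, 0], [-2, 1], [1, -1]] [[1, 0], [2, 1]] [1, 1, 1] [-1, -2] 3 7 = true := by decide +kernel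

/-- The group G₂(q), q ≥ 3, contains a cyclic subgroup of order q² + q + 1 which is its own centralizer. -/
theorem result {F : Type*} [Field F] [Fintype F] (q : ℕ) (hF : Fintype.card F = q) (hq : 3 ≤ q) :
    ∃ H : Subgroup ↥(Cfsg.Lie.chevG2.group F), IsCyclic ↥H ∧ Nat.card ↥H = q ^ 2 + q + 1 ∧
      Subgroup.centralizer (H : Set ↥(Cfsg.Lie.chevG2.group F)) = H := by
  subst hF
  obtain ⟨H, h1, h2, h3⟩ := exists_selfCent₀ rootOK_G2 matOK_G2 (by simp) chk (K := F) hq (n := Fintype.card F ^ 2 + Fintype.card F + 1) (by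
    rw [show chevG2.rank = 2 from rfl]
    simp [Finset.sum_range_succ]; ring)
  rw [card_cartanKer_G2 rootOK_G2.compat] at h2
  exact ⟨H, h1, (mul_one _).symm.trans h2, h3⟩

end Cfsg.Agent.S2371
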