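import Cfsg.Statements.S2372
import Cfsg.Agent.Lib.Chev.ToriD
import Cfsg.Agent.Lib.Twist.RootAll

set_option autoImplicit false
open Cfsg Cfsg.Lie Cfsg.Lib.Chev Cfsg.Lib.Twist

namespace Cfsg.Agent.S2372

theorem chk : chkTor chevF4 tabF4 id [0, 3, 1, 2, 1, 2] 0x2e1e20282d2f1f1c25270e2c1b1d26171905230b0d29152b041a0622240c2a16180912140321080a13100002070f1101 0x708090800000000080908090000000009070909000000000808080900000000070907090000000008070809000000000908070a0000000008080908000000000709080800000000080709080000000009080809000000000708080800000000080907090000000009070809000000000808070900000000070909070000000008070a070000000009080908000000000708090700000000080908080000000009070908000000000609080700000000070a0708000000000707090700000000090907090000000009060908000000000a070809000000000709070800000000080708080000000009080709000000000708070800000000080906090000000009070709000000000808090700000000070908070000000008070907000000000908080800000000070808070000000008090708000000000907080800000000080807080000000007080906000000000809080700000000090709070000000008080807000000000709070700000000080708070000000009080708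 [[1, 0, 0, 0], [-1, 1, 0, 0], [-1, 0, 1, -1], [-1, 1, 0, -1], [-1, 0, 0, 0]] [[1, 0, 0, 0], [1, 1, 0, 0], [1, 1, 1, -1], [0, 1, 0, -1]] [1, 0, 0, 0, 1] [-1, -1, -1, 0] 2 7 = true := by decide +kernel

/-- The group F₄(q) contains a cyclic subgroup of order q⁴ + 1 which is its own centralizer. -/
theorem result {F : Type*} [Field F] [Fintype F] (q : ℕ) (hF : Fintype.card F = q) :
    ∃ H : Subgroup ↥(Cfsg.Lie.chevF4.group F), IsCyclic ↥H ∧ Nat.card ↥H = q ^ 4 + 1 ∧
      Subgroup.centralizer (H : Set ↥(Cfsg.Lie.chevF4.group F)) = H := by
  subst hF
  obtain ⟨H, h1, h2, h3⟩ := exists_selfCent₀ rootOK_F4 matOK_F4 (by simp) chk (K := F) Fintype.one_lt_card (n := Fintype.card F ^ 4 + 1) (by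
    rw [show chevF4.rank = 4 from rfl]
    simp [Finset.sum_range_succ]; ring)
  rw [card_cartanKer_F4 rootOK_F4.compat] at h2
  exact ⟨H, h1, (mul_one _).symm.trans h2, h3⟩

end Cfsg.Agent.S2372
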