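import Cfsg.Statements.S2373
import Cfsg.Agent.Lib.Chev.ToriD
import Cfsg.Agent.Lib.Twist.RootAll

set_option autoImplicit false
open Cfsg Cfsg.Lie Cfsg.Lib.Chev Cfsg.Lib.Twist

namespace Cfsg.Agent.S2373

theorem chk : chkTor chevE6 tabE6 id [2, 5, 4, 1, 0, 3] 0x4640474241352827373629302f1d310e433b3a45443c2c2b192d3e3d383f232113333225221514342624080f0a091a2e1c1b0b03020d0c0439162a18171e1110201f120605000701 0x7080809080800000908080809090000080708080908000008070809080800000807080909070000070809080808000007080909070800000708090908070000060709090707000006070909080600000607090a07060000080709080808000008070908090700000807090908070000070609090806000006070a090706000009090707090a000009090708080a0000090907080909000008080708080900000808070809080000080807090808000007090808070900000709080808080000070908090708000006080809070700000a080707090a00000a0807070a0900000a08070809090000090707080908000009090807080a00000909080709090000090908080809000008080807080900000808080709080000080808080709000008080808090700000808080907080000080808090807000007070808080700000707080907070000070708090806000007090908070800000608090807070000060809090607000006080909070600000a080807090900000907080709080000090708080808000009070808090700000808090708080000080809080708000008080908080700000707090807070000070709080806000007070909070600000a090607090a0000090a0707080a00000809070708090000080907080709000008090708080800000a090706090a00000a090707080a00000a090707090900000908070708090000090807070908000009080708080800000809080707090000080908070808000008090808070800000708080807070000090808070808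 [[0, 0, 0, 0, 0, 1], [0, 0, 0, 0, 1, -1], [0, 0, 0, 1, -1, 0], [1, -1, -1, 1, 0, 0], [0, 0, -1, 1, 0, -1], [0, -1, 0, 1, -1, 0], [1, 0, -1, 0, 0, 0]] [[-1, 0, 1, 1, -1, -1], [0, 0, 1, 0, 0, -1], [0, 1, 1, 0, -1, 0], [1, 1, 1, 0, 0, 0], [1, 1, 0, 0, 0, 0], [1, 0, 0, 0, 0, 0]] [1, 1, 0, -1, 0, 1, 1] [1, 0, 0, -1, -1, -1] 2 7 = true := by decide +kernel

/-- The group E₆(q) (the simple Chevalley group of type E₆) contains a cyclic subgroup of order (q⁴ − q² + 1)(q² + q + 1)/gcd(3, q − 1) which is its own centralizer. -/
theorem result {F : Type*} [Field F] [Fintype F] (q : ℕ) (hF : Fintype.card F = q) :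
    ∃ H : Subgroup ↥(Cfsg.Lie.chevE6.group F), IsCyclic ↥H ∧ Nat.card ↥H = (q ^ 4 - q ^ 2 + 1) * (q ^ 2 + q + 1) / Nat.gcd 3 (q - 1) ∧
      Subgroup.centralizer (H : Set ↥(Cfsg.Lie.chevE6.group F)) = H := by
  subst hF
  obtain ⟨H, h1, h2, h3⟩ := exists_selfCent₀ rootOK_E6 matOK_E6 (by simp) chk (K := F) Fintype.one_lt_card (n := (Fintype.card F ^ 4 - Fintype.card F ^ 2 + 1) * (Fintype.card F ^ 2 + Fintype.card F + 1)) (by
    rw [show chevE6.rank = 6 from rfl]
    rw [Nat.cast_mul, Nat.cast_add, Nat.cast_sub (Nat.pow_le_pow_right Fintype.card_pos (by norm_num))]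
    simp [Finset.sum_range_succ]; ring)
  rw [card_cartanKer_E6 rootOK_E6.compat] at h2
  exact ⟨H, h1, by rw [← h2, Nat.card_eq_fintype_card (α := F), Nat.mul_div_cancel _ (Nat.gcd_pos_of_pos_left _ (by norm_num))], h3⟩

end Cfsg.Agent.S2373
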