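import Cfsg.Statements.S2376
import Cfsg.Agent.Lib.Chev.ToriD
import Cfsg.Agent.Lib.Twist.TwD4

set_option autoImplicit false
open Cfsg Cfsg.Lie Cfsg.Lib.Chev Cfsg.Lib.Twist

namespace Cfsg.Agent.S2376

theorem chk : chkTor chevD4 tabD4 (lk rhoD4) [1] 0x161711150d10140c12090f1304080e050b03070a02060001 0x80909090000000009090908000000000908080900000000090a08070000000009090708000000000a0907070000000007080a09000000000707090a0000000007090908000000000708080900000000080709090000000008090907000000000807070900000000080907070000000009080807000000000907070800000000090907060000000009080607000000000607090900000000070709080000000007060809000000000708080700000000070707080000000008070707 [[0, 1, 0, -1], [0, -1, 1, 1], [0, 1, -1, 0], [1, -1, 1, 0], [-1, 1, 0, 0]] [[0, 0, 1, 1], [1, 1, 1, 0], [1, 1, 0, 0], [0, 1, 1, 0]] [-1, -1, 0, 1, 1] [0, 1, 1, 0] 2 7 = true := by decide +kernel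

/-- The group ³D₄(q) contains a cyclic subgroup of order (q³ − 1)(q + 1) which is its own centralizer. -/
theorem result {K : Type*} [Field K] [Fintype K] (q : ℕ) (hq : IsPrimePow q) (hK : Fintype.card K = q ^ 3) :
    ∃ H : Subgroup ↥(Cfsg.Lie.twistedD4 K q), IsCyclic ↥H ∧ Nat.card ↥H = (q ^ 3 - 1) * (q + 1) ∧
      Subgroup.centralizer (H : Set ↥(Cfsg.Lie.twistedD4 K q)) = H := by
  obtain ⟨d⟩ := exists_D4Data hq hK
  obtain ⟨p, e, hp, he, rfl⟩ := (isPrimePow_nat_iff q).1 hq
  have := Fact.mk hp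
  have : CharP K p := charP_of_card_eq_prime_pow (hK.trans (pow_mul p e 3).symm)
  obtain ⟨Y, h1, h2, h3⟩ := exists_twF_graph (p := p) rootOK_D4 (by simp) matOK_D4 chkG_D4 (by decide +kernel) d (m := 3) (by norm_num) he
    (Equiv.ext fun i => by rcases n4_cases i with rfl | h; simp [pow_succ, d.p1]; simp at h; rcases h with rfl | rfl | rfl <;>
      simp [pow_succ, d.p0, d.p2, d.p3])
  obtain ⟨φ, h4, h5, h6⟩ := rootOK_D4.compat.exists_model' matOK_D4 _ Y (by rw [hK, h3, pow_mul]) d.X h1 (fun r t => by rw [d.φ_eq, h2])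
    ((d.eq_Fix hK).ge.trans (d.gen hK).2) (Subgroup.inclusion_injective (d.gen hK).1) (by rw [Subgroup.inclusion_range, d.eq_Fix hK])
  have := exists_selfCent_of_chk rootOK_D4 d.ρ_val chk _ (rootOK_D4.compat.st_sc (by simp) _) hq.two_le (fun _ t => congrArg (t ^ p ^ ·) (h2 _))
    (by rw [Nat.cast_pow, CharP.cast_eq_zero]; exact zero_pow he.ne') (rootOK_D4.compat.lang_top matOK_D4 _ Y)
    (n := ((p ^ e) ^ 3 - 1) * (p ^ e + 1)) (by
      rw [show chevD4.rank = 4 from rfl, Nat.cast_mul, Nat.cast_sub (Nat.one_le_pow _ _ hq.pos)]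
      simp [Finset.sum_range_succ]; ring) h4 fun g hg => (rootOK_D4.compat.ker_proj matOK_D4 (by simp)).1 ((h5 g).symm.trans
        ((congrArg (fun a => baseExt _ _ (Subgroup.inclusion _ a)) hg).trans (by rw [map_one, map_one])))
  exact this.imp fun H h => ⟨h.1, ((mul_one _).symm.trans (congrArg _ (h6.trans d.card_ker).symm)).trans h.2.1, h.2.2⟩

end Cfsg.Agent.S2376
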