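import Cfsg.Statements.S2378
import Cfsg.Agent.Lib.Chev.Homo
import Cfsg.Agent.Lib.Twist.RootAll
import Cfsg.Agent.S1059
import Cfsg.Agent.S1060
import Cfsg.Agent.S1061
import Cfsg.Agent.S1062
import Cfsg.Agent.S1063
import Cfsg.Agent.S1064
import Cfsg.Agent.S1065

set_option autoImplicit false
open Cfsg Cfsg.Lie Cfsg.Lib.Chev Cfsg.Lib.Twist

namespace Cfsg.Agent.S2378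

/-- Certificates. -/
def cG2 : List HCert := [
  ⟨1, [], [7, 6], [[1, 0], [0, 1]], [[1, 0], [0, 1]], 1, []⟩,
  ⟨2, [1, 0, 1, 0, 1, 0], [4, 5], [[1, 0], [-1, 0], [0, 1], [0, -1]], [[1, 0], [0, 1]], 2, [1]⟩,
  ⟨3, [0, 1, 0, 1], [8, 0], [[1, 0], [1, 3], [-2, -3]], [[2, -1]], 3, [1]⟩,
  ⟨6, [0, 1], [9, 1], [[1, 0], [2, 3], [1, 3], [-1, 0], [-2, -3], [-1, -3]], [[2, -1]], 6, [3, 2]⟩]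

theorem kG2 : cG2.all (chkHomo chevG2 [2, 6]) = true := by decide +kernel

/-- Certificates. -/
def cB2 : List HCert := [
  ⟨1, [], [5, 4], [[1, 0], [0, 1]], [[1, 0], [0, 1]], 1, []⟩,
  ⟨2, [1, 0, 1, 0], [2, 3], [[1, 0], [-1, 0], [0, 1], [0, -1]], [[1, 0], [0, 1]], 2, [1]⟩,
  ⟨4, [1, 0], [1, 7], [[1, 0], [-1, -2], [-1, 0], [1, 2]], [[2, -1]], 4, [2]⟩]

theorem kB2 : cB2.all (chkHomo chevB2 [2, 4]) = true := by decide +kernel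

/-- Certificates. -/
def cD4 : List HCert := [
  ⟨1, [], [18, 14, 13, 12], [[1, 0, 0, 0], [0, 1, 0, 0], [0, 0, 1, 0], [0, 0, 0, 1]], [[1, 0, 0, 0], [0, 1, 0, 0], [0, 0, 1, 0], [0, 0, 0, 1]], 1, []⟩,
  ⟨2, [3, 1, 2, 0, 1, 3, 0, 1, 2, 0, 1, 0], [5, 9, 10, 11], [[1, 0, 0, 0], [-1, 0, 0, 0], [0, 1, 0, 0], [0, -1, 0, 0], [0, 0, 1, 0], [0, 0, -1, 0], [0, 0, 0, 1], [0, 0, 0, -1]], [[1, 0, 0, 0], [0, 1, 0, 0], [0, 0, 1, 0], [0, 0, 0, 1]], 2, [1]⟩,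
  ⟨3, [1, 3], [19, 12, 16, 8], [[1, 0, 0, 0], [1, 1, 0, 0], [1, 1, 0, 1]], [[0, -1, 0, 0]], 1, [1]⟩,
  ⟨4, [1, 2, 0, 1, 3, 2], [13, 20, 5, 0], [[1, 0, 0, 0], [0, 0, 1, 0], [-1, 0, 0, 0], [0, 0, -1, 0], [0, 1, 0, 0], [1, 1, 0, 1], [0, -1, 0, 0], [-1, -1, 0, -1]], [[2, 0, 0, -2], [0, 2, 0, -2]], 4, [2]⟩,
  ⟨6, [2, 0, 1, 3], [16, 12, 19, 1], [[1, 0, 0, 0], [0, 1, 1, 0], [1, 1, 0, 1], [-1, 0, 0, 0], [0, -1, -1, 0], [-1, -1, 0, -1]], [[2, -1, 0, 0]], 2, [3, 2]⟩]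

theorem kD4 : cD4.all (chkHomo chevD4 [2, 4, 4, 6]) = true := by decide +kernel

/-- Certificates. -/
def cF4 : List HCert := [
  ⟨1, [], [33, 27, 25, 24], [[1, 0, 0, 0], [0, 1, 0, 0], [0, 0, 1, 0], [0, 0, 0, 1]], [[1, 0, 0, 0], [0, 1, 0, 0], [0, 0, 1, 0], [0, 0, 0, 1]], 1, []⟩,
  ⟨2, [3, 2, 1, 2, 0, 1, 2, 3, 2, 1, 2, 0, 1, 2, 3, 2, 1, 2, 0, 1, 2, 0, 1, 0], [14, 20, 22, 23], [[1, 0, 0, 0], [-1, 0, 0, 0], [0, 1, 0, 0], [0, -1, 0, 0], [0, 0, 1, 0], [0, 0, -1, 0], [0, 0, 0, 1], [0, 0, 0, -1]], [[1, 0, 0, 0], [0, 1, 0, 0], [0, 0, 1, 0], [0, 0, 0, 1]], 2, [1]⟩,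
  ⟨3, [2, 3, 2, 1, 2, 0, 1, 2, 3, 1, 2, 0, 1, 2, 0, 1], [28, 7, 31, 41], [[1, 0, 0, 0], [0, 1, 2, 0], [-1, -1, -2, 0], [0, 1, 0, 0], [-1, -3, -4, -2], [1, 2, 4, 2]], [[4, 0, -1, 0], [0, 4, -2, -1]], 6, [1]⟩,
  ⟨4, [0, 1, 2, 3, 1, 2, 0, 1, 2, 3, 2, 1], [39, 19, 30, 2], [[1, 0, 0, 0], [1, 2, 4, 2], [-1, 0, 0, 0], [-1, -2, -4, -2], [0, 1, 0, 0], [0, -1, -2, 0], [0, -1, 0, 0], [0, 1, 2, 0]], [[2, 0, 0, -1], [0, 2, -1, 0]], 4, [2]⟩,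
  ⟨6, [2, 3, 2, 0, 1, 2, 0, 1], [35, 8, 32, 42], [[1, 0, 0, 0], [1, 1, 2, 0], [0, 1, 2, 0], [-1, 0, 0, 0], [-1, -1, -2, 0], [0, -1, -2, 0], [0, 0, 1, 0], [0, 1, 2, 1], [0, 1, 1, 1], [0, 0, -1, 0], [0, -1, -2, -1], [0, -1, -1, -1]], [[2, -1, 0, 1], [0, -4, 2, 1]], 6, [3, 2]⟩,
  ⟨8, [2, 0, 1, 2, 3, 1], [37, 13, 42, 4], [[1, 0, 0, 0], [1, 2, 2, 0], [1, 2, 4, 2], [1, 2, 2, 2], [-1, 0, 0, 0], [-1, -2, -2, 0], [-1, -2, -4, -2], [-1, -2, -2, -2]], [[2, -1, 0, 0]], 4, [4]⟩,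
  ⟨12, [3, 2, 0, 1], [29, 11, 42, 25], [[0, 0, 1, 0], [1, 1, 1, 1], [0, 1, 2, 1], [1, 1, 1, 0], [0, 1, 1, 1], [0, 0, 0, -1], [0, 0, -1, 0], [-1, -1, -1, -1], [0, -1, -2, -1], [-1, -1, -1, 0], [0, -1, -1, -1], [0, 0, 0, 1]], [[1, -3, 2, 0]], 6, [6, 4]⟩]

theorem kF4 : cF4.all (chkHomo chevF4 [2, 6, 8, 12]) = true := by decide +kernel

/-- Certificates. -/
def cE6 : List HCert := [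
  ⟨1, [], [56, 46, 42, 39, 37, 36], [[1, 0, 0, 0, 0, 0], [0, 1, 0, 0, 0, 0], [0, 0, 1, 0, 0, 0], [0, 0, 0, 1, 0, 0], [0, 0, 0, 0, 1, 0], [0, 0, 0, 0, 0, 1]], [[1, 0, 0, 0, 0, 0], [0, 1, 0, 0, 0, 0], [0, 0, 1, 0, 0, 0], [0, 0, 0, 1, 0, 0], [0, 0, 0, 0, 1, 0], [0, 0, 0, 0, 0, 1]], 1, []⟩,
  ⟨2, [4, 3, 2, 1, 3, 4, 3, 2, 1, 3, 2, 1], [67, 25, 29, 32, 34, 55], [[1, 0, 0, 0, 0, 0], [1, 1, 2, 2, 1, 0], [0, 1, 0, 0, 0, 0], [0, -1, 0, 0, 0, 0], [0, 0, 1, 0, 0, 0], [0, 0, -1, 0, 0, 0], [0, 0, 0, 1, 0, 0], [0, 0, 0, -1, 0, 0]], [[0, 0, 0, 0, -2, 0], [0, 1, 0, 0, -1, 0], [0, 0, 1, 0, -2, 0], [0, 0, 0, 1, -2, 0]], 2, [1]⟩,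
  ⟨3, [2, 3, 4, 5, 1, 3, 4, 2, 3, 0, 2, 1, 3, 4, 5, 2, 3, 4, 2, 1, 3, 2, 1, 0], [5, 24, 41, 46, 58, 3], [[1, 0, 0, 0, 0, 0], [-1, -1, -1, -2, -2, -1], [0, 1, 1, 2, 2, 1], [0, 1, 0, 0, 0, 0], [0, -1, 0, -1, 0, 0], [0, 0, 0, 1, 0, 0], [0, 0, 1, 0, 0, 0], [0, 0, 0, 1, 1, 1], [0, 0, -1, -1, -1, -1]], [[2, 0, 0, 0, -1, 1], [0, 2, 0, -1, -1, 2], [0, 0, 2, 0, -1, 0]], 3, [1]⟩,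
  ⟨4, [2, 1, 3, 4, 2, 3], [61, 53, 37, 23, 29, 52], [[1, 0, 0, 0, 0, 0], [1, 1, 1, 1, 0, 0], [1, 1, 2, 2, 1, 0], [1, 0, 1, 1, 1, 0], [0, 1, 0, 0, 0, 0], [0, 1, 1, 2, 1, 0], [0, -1, 0, 0, 0, 0], [0, -1, -1, -2, -1, 0]], [[0, 0, -2, 1, 0, 0], [1, 1, 0, -1, 1, 0]], 2, [2]⟩,
  ⟨5, [4, 5, 3, 2], [59, 48, 27, 42, 41, 33], [[1, 0, 0, 0, 0, 0], [1, 0, 1, 1, 1, 0], [1, 0, 1, 1, 1, 1], [1, 0, 1, 1, 0, 0], [1, 0, 1, 0, 0, 0]], [[0, 0, -1, 0, 0, 0]], 1, [1]⟩,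
  ⟨6, [1, 3, 4, 5, 2, 3, 4, 2, 1, 3, 2, 0], [0, 38, 62, 34, 40, 42], [[1, 0, 0, 0, 0, 0], [-1, -2, -2, -3, -2, -1], [-1, 0, -1, -1, -1, -1], [0, 1, 0, 1, 1, 1], [0, 0, 1, 1, 1, 1], [1, 1, 2, 2, 1, 0], [0, 1, 0, 0, 0, 0], [0, 0, 0, 0, 1, 1], [0, 0, 1, 1, 1, 0], [1, 1, 1, 2, 1, 0], [0, -1, -1, -1, -1, 0], [-1, -1, -1, -2, -2, -1]], [[3, 1, 0, -2, 1, -1], [2, 5, 0, -3, 0, 0]], 6, [3, 2]⟩,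
  ⟨8, [5, 4, 2, 3, 1], [57, 19, 41, 46, 43, 37], [[1, 0, 0, 0, 0, 0], [1, 0, 1, 0, 0, 0], [1, 0, 1, 1, 1, 1], [1, 1, 2, 2, 2, 1], [1, 1, 2, 3, 2, 1], [1, 2, 2, 3, 2, 1], [1, 1, 1, 2, 1, 0], [1, 1, 1, 1, 0, 0]], [[3, 0, -2, 0, 1, 0]], 2, [4]⟩,
  ⟨9, [0, 2, 3, 4, 5, 1, 3, 4], [42, 37, 64, 36, 8, 46], [[1, 0, 0, 0, 0, 0], [0, 0, 1, 0, 0, 0], [1, 1, 1, 2, 1, 0], [0, 0, 1, 1, 1, 1], [0, 1, 0, 1, 0, 0], [0, 0, 0, 0, 1, 1], [-1, 0, -1, -1, -1, -1], [0, -1, -1, -1, 0, 0], [-1, -1, -1, -2, -2, -1]], [[2, 1, 0, -1, -1, 1]], 3, [3]⟩,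
  ⟨12, [5, 4, 3, 2, 1, 0], [11, 22, 56, 52, 39, 37], [[1, 0, 0, 0, 0, 0], [-1, 0, -1, -1, -1, -1], [0, -1, 0, -1, -1, 0], [0, 0, -1, -1, 0, 0], [-1, -1, -1, -1, -1, -1], [0, 0, 0, 0, 0, 1], [0, 0, 0, 0, 1, 0], [0, 0, 0, 1, 0, 0], [0, 1, 1, 1, 1, 1], [1, 0, 1, 1, 1, 0], [0, 1, 0, 1, 0, 0], [0, 0, 1, 0, 0, 0]], [[3, 1, 1, -2, -1, 1]], 6, [6, 4]⟩]

theorem kE6 : cE6.all (chkHomo chevE6 [2, 5, 6, 8, 9, 12]) = true := by decide +kernel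

/-- Certificates. -/
def cE7 : List HCert := [
  ⟨1, [], [93, 78, 73, 69, 66, 64, 63], [[1, 0, 0, 0, 0, 0, 0], [0, 1, 0, 0, 0, 0, 0], [0, 0, 1, 0, 0, 0, 0], [0, 0, 0, 1, 0, 0, 0], [0, 0, 0, 0, 1, 0, 0], [0, 0, 0, 0, 0, 1, 0], [0, 0, 0, 0, 0, 0, 1]], [[1, 0, 0, 0, 0, 0, 0], [0, 1, 0, 0, 0, 0, 0], [0, 0, 1, 0, 0, 0, 0], [0, 0, 0, 1, 0, 0, 0], [0, 0, 0, 0, 1, 0, 0], [0, 0, 0, 0, 0, 1, 0], [0, 0, 0, 0, 0, 0, 1]], 1, []⟩,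
  ⟨2, [6, 5, 4, 3, 2, 1, 3, 4, 5, 6, 0, 2, 3, 4, 5, 1, 3, 4, 2, 3, 0, 2, 1, 3, 4, 5, 6, 0, 2, 3, 4, 5, 1, 3, 4, 2, 3, 0, 2, 1, 3, 4, 5, 1, 3, 4, 2, 3, 0, 2, 1, 3, 4, 2, 3, 0, 2, 1, 3, 0, 2, 1, 0], [32, 47, 52, 56, 59, 61, 62], [[1, 0, 0, 0, 0, 0, 0], [-1, 0, 0, 0, 0, 0, 0], [0, 1, 0, 0, 0, 0, 0], [0, -1, 0, 0, 0, 0, 0], [0, 0, 1, 0, 0, 0, 0], [0, 0, -1, 0, 0, 0, 0], [0, 0, 0, 1, 0, 0, 0], [0, 0, 0, -1, 0, 0, 0], [0, 0, 0, 0, 1, 0, 0], [0, 0, 0, 0, -1, 0, 0], [0, 0, 0, 0, 0, 1, 0], [0, 0, 0, 0, 0, -1, 0], [0, 0, 0, 0, 0, 0, 1], [0, 0, 0, 0, 0, 0, -1]], [[1, 0, 0, 0, 0, 0, 0], [0, 1, 0, 0, 0, 0, 0], [0, 0, 1, 0, 0, 0, 0], [0, 0, 0, 1, 0, 0, 0], [0, 0, 0, 0, 1, 0, 0], [0, 0, 0, 0, 0, 1, 0], [0, 0, 0, 0, 0, 0, 1]], 2, [1]⟩,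
  ⟨3, [2, 3, 4, 5, 1, 3, 4, 2, 3, 0, 2, 1, 3, 4, 5, 4, 3, 2, 1, 3, 4, 3, 2, 0], [21, 70, 81, 94, 25, 49, 124], [[1, 0, 0, 0, 0, 0, 0], [-1, -1, -1, -2, -1, -1, 0], [0, 1, 1, 2, 1, 1, 0], [0, 1, 0, 0, 0, 0, 0], [0, 0, 0, 1, 1, 0, 0], [0, -1, 0, -1, -1, 0, 0], [0, 0, 1, 0, 0, 0, 0], [0, 1, 0, 1, 1, 1, 0], [0, -1, -1, -1, -1, -1, 0]], [[2, 0, 0, -1, 1, 0, 1], [0, 2, 0, 0, -1, -1, -1], [0, 0, 2, -1, 1, -1, 1]], 3, [1]⟩,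
  ⟨4, [4, 3, 2, 1, 3, 1], [96, 52, 78, 45, 87, 67, 63], [[1, 0, 0, 0, 0, 0, 0], [1, 0, 1, 1, 1, 0, 0], [1, 1, 2, 2, 1, 0, 0], [1, 1, 1, 1, 0, 0, 0], [0, 1, 0, 0, 0, 0, 0], [0, 0, -1, 0, 0, 0, 0], [0, -1, 0, 0, 0, 0, 0], [0, 0, 1, 0, 0, 0, 0]], [[0, 0, 0, -1, 0, 0, 0], [-1, 1, 0, -1, 1, -1, 0]], 2, [2]⟩,
  ⟨5, [1, 3, 2, 0], [26, 69, 93, 73, 80, 64, 63], [[1, 0, 0, 0, 0, 0, 0], [-1, -1, -1, -1, 0, 0, 0], [0, 1, 0, 0, 0, 0, 0], [0, 0, 0, 1, 0, 0, 0], [0, 0, 1, 0, 0, 0, 0]], [[4, -1, -1, -1, 5, 0, 0]], 5, [1]⟩,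
  ⟨6, [4, 2, 3, 0, 2, 1, 3, 4, 5, 6, 3, 0, 2, 1, 3, 4, 5, 2, 1, 3, 1], [99, 28, 90, 45, 107, 9, 69], [[1, 0, 0, 0, 0, 0, 0], [1, 1, 1, 1, 0, 0, 0], [0, 1, 1, 1, 0, 0, 0], [-1, 0, 0, 0, 0, 0, 0], [-1, -1, -1, -1, 0, 0, 0], [0, -1, -1, -1, 0, 0, 0], [0, 1, 0, 0, 0, 0, 0], [-1, 0, -1, -1, -1, -1, 0], [-1, -1, -1, -1, -1, -1, 0], [0, -1, 0, 0, 0, 0, 0], [1, 0, 1, 1, 1, 1, 0], [1, 1, 1, 1, 1, 1, 0], [0, 0, 1, 0, 0, 0, 0], [0, 1, 1, 2, 2, 1, 0], [0, 0, 0, 0, 1, 1, 1], [0, 0, -1, 0, 0, 0, 0], [0, -1, -1, -2, -2, -1, 0], [0, 0, 0, 0, -1, -1, -1]], [[2, 0, -1, 0, 3, -4, 0], [0, 2, -2, 0, 1, 0, -3], [0, 0, 0, 0, 3, -3, -3]], 6, [3, 2]⟩,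
  ⟨7, [5, 6, 3, 4, 0, 2], [74, 79, 30, 97, 54, 72, 60], [[0, 1, 0, 0, 0, 0, 0], [0, 1, 0, 1, 0, 0, 0], [1, 1, 1, 2, 1, 1, 0], [1, 1, 2, 3, 2, 2, 1], [1, 1, 2, 3, 3, 2, 1], [1, 1, 2, 2, 2, 1, 1], [0, 1, 1, 1, 1, 0, 0]], [[0, 2, 0, -1, 0, 1, 0]], 1, [1]⟩,
  ⟨8, [6, 3, 4, 0, 2, 1], [74, 46, 30, 103, 55, 72, 62], [[1, 0, 0, 0, 0, 0, 0], [0, 0, 1, 1, 0, 0, 0], [0, 1, 0, 1, 1, 0, 0], [1, 0, 1, 0, 0, 0, 0], [-1, 0, 0, 0, 0, 0, 0], [0, 0, -1, -1, 0, 0, 0], [0, -1, 0, -1, -1, 0, 0], [-1, 0, -1, 0, 0, 0, 0]], [[2, -1, -2, 2, -1, -1, 0]], 4, [4]⟩,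
  ⟨9, [5, 2, 1, 3, 4, 1, 3, 0], [31, 67, 110, 49, 47, 84, 65], [[1, 0, 0, 0, 0, 0, 0], [-1, 0, -1, 0, 0, 0, 0], [0, -1, -1, -2, -1, -1, 0], [-1, -1, -1, -1, -1, 0, 0], [0, 0, 0, -1, -1, -1, 0], [0, 0, 0, 0, 0, 1, 0], [0, 1, 1, 1, 1, 0, 0], [1, 0, 1, 1, 1, 1, 0], [0, 1, 1, 2, 1, 0, 0]], [[2, 1, -2, 1, -1, 0, 4]], 3, [3]⟩,
  ⟨10, [2, 3, 4, 5, 6, 1], [94, 42, 69, 84, 64, 63, 48], [[1, 0, 0, 0, 0, 0, 0], [1, 0, 1, 0, 0, 0, 0], [1, 0, 1, 1, 0, 0, 0], [1, 1, 2, 2, 1, 0, 0], [1, 1, 2, 3, 2, 1, 0], [1, 2, 3, 4, 3, 2, 1], [1, 2, 2, 4, 3, 2, 1], [1, 2, 2, 3, 3, 2, 1], [1, 1, 1, 2, 2, 2, 1], [1, 1, 1, 1, 1, 1, 1]], [[2, -3, -3, 2, 2, -2, 1]], 2, [5, 2]⟩,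
  ⟨12, [5, 0, 2, 3, 4, 1], [73, 26, 69, 101, 28, 96, 65], [[1, 0, 0, 0, 0, 0, 0], [0, 0, 1, 0, 0, 0, 0], [0, 0, 0, 1, 0, 0, 0], [1, 1, 1, 1, 1, 1, 0], [0, 0, 1, 1, 1, 0, 0], [0, 1, 0, 1, 0, 0, 0], [0, 0, 0, 0, 1, 1, 0], [0, 0, 0, 0, 0, -1, 0], [-1, 0, -1, -1, -1, 0, 0], [0, -1, -1, -1, 0, 0, 0], [0, 0, 0, -1, -1, -1, 0], [-1, -1, -1, -1, -1, 0, 0]], [[3, -1, 0, 0, -1, 0, 0]], 6, [6, 4]⟩,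
  ⟨14, [6, 5, 4, 3, 2, 1, 3, 0, 2], [78, 73, 23, 93, 89, 66, 64], [[1, 0, 0, 0, 0, 0, 0], [0, 1, 0, 0, 0, 0, 0], [0, 0, 1, 0, 0, 0, 0], [-1, -1, -1, -1, -1, -1, -1], [0, -1, -1, -1, -1, -1, 0], [0, 0, -1, -1, -1, 0, 0], [0, 0, 0, -1, 0, 0, 0], [-1, 0, 0, 0, 0, 0, 0], [0, -1, 0, 0, 0, 0, 0], [0, 0, -1, 0, 0, 0, 0], [1, 1, 1, 1, 1, 1, 1], [0, 1, 1, 1, 1, 1, 0], [0, 0, 1, 1, 1, 0, 0], [0, 0, 0, 1, 0, 0, 0]], [[0, 1, -1, 1, -1, 1, -2]], 2, [7, 2]⟩,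
  ⟨18, [6, 5, 4, 2, 1, 3, 0], [31, 77, 102, 39, 83, 66, 64], [[1, 0, 0, 0, 0, 0, 0], [-1, 0, -1, 0, 0, 0, 0], [0, -1, 0, -1, -1, -1, -1], [0, 0, -1, -1, -1, -1, 0], [-1, -1, -1, -1, -1, 0, 0], [0, -1, -1, -2, -1, -1, -1], [-1, 0, -1, -1, -1, -1, 0], [0, -1, 0, -1, -1, 0, 0], [0, 0, -1, -1, 0, 0, 0], [-1, 0, 0, 0, 0, 0, 0], [1, 0, 1, 0, 0, 0, 0], [0, 1, 0, 1, 1, 1, 1], [0, 0, 1, 1, 1, 1, 0], [1, 1, 1, 1, 1, 0, 0], [0, 1, 1, 2, 1, 1, 1], [1, 0, 1, 1, 1, 1, 0], [0, 1, 0, 1, 1, 0, 0], [0, 0, 1, 1, 0, 0, 0]], [[2, -1, -2, 2, -1, 0, 0]], 6, [9, 6]⟩]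

theorem kE7 : cE7.all (chkHomo chevE7 [2, 6, 8, 10, 12, 14, 18]) = true := by decide +kernel

/-- Certificates. -/
def cE8 : List HCert := [
  ⟨1, [], [162, 141, 135, 130, 126, 123, 121, 120], [[1, 0, 0, 0, 0, 0, 0, 0], [0, 1, 0, 0, 0, 0, 0, 0], [0, 0, 1, 0, 0, 0, 0, 0], [0, 0, 0, 1, 0, 0, 0, 0], [0, 0, 0, 0, 1, 0, 0, 0], [0, 0, 0, 0, 0, 1, 0, 0], [0, 0, 0, 0, 0, 0, 1, 0], [0, 0, 0, 0, 0, 0, 0, 1]], [[1, 0, 0, 0, 0, 0, 0, 0], [0, 1, 0, 0, 0, 0, 0, 0], [0, 0, 1, 0, 0, 0, 0, 0], [0, 0, 0, 1, 0, 0, 0, 0], [0, 0, 0, 0, 1, 0, 0, 0], [0, 0, 0, 0, 0, 1, 0, 0], [0, 0, 0, 0, 0, 0, 1, 0], [0, 0, 0, 0, 0, 0, 0, 1]], 1, []⟩,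
  ⟨2, [7, 6, 5, 4, 3, 2, 1, 3, 4, 5, 6, 0, 2, 3, 4, 5, 1, 3, 4, 2, 3, 0, 2, 1, 3, 4, 5, 6, 7, 6, 5, 4, 3, 2, 1, 3, 4, 5, 6, 0, 2, 3, 4, 5, 1, 3, 4, 2, 3, 0, 2, 1, 3, 4, 5, 6, 7, 6, 5, 4, 3, 2, 1, 3, 4, 5, 6, 0, 2, 3, 4, 5, 1, 3, 4, 2, 3, 0, 2, 1, 3, 4, 5, 6, 0, 2, 3, 4, 5, 1, 3, 4, 2, 3, 0, 2, 1, 3, 4, 5, 1, 3, 4, 2, 3, 0, 2, 1, 3, 4, 2, 3, 0, 2, 1, 3, 0, 2, 1, 0], [77, 98, 104, 109, 113, 116, 118, 119], [[1, 0, 0, 0, 0, 0, 0, 0], [-1, 0, 0, 0, 0, 0, 0, 0], [0, 1, 0, 0, 0, 0, 0, 0], [0, -1, 0, 0, 0, 0, 0, 0], [0, 0, 1, 0, 0, 0, 0, 0], [0, 0, -1, 0, 0, 0, 0, 0], [0, 0, 0, 1, 0, 0, 0, 0], [0, 0, 0, -1, 0, 0, 0, 0], [0, 0, 0, 0, 1, 0, 0, 0], [0, 0, 0, 0, -1, 0, 0, 0], [0, 0, 0, 0, 0, 1, 0, 0], [0, 0, 0, 0, 0, -1, 0, 0], [0, 0,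 0, 0, 0, 0, 1, 0], [0, 0, 0, 0, 0, 0, -1, 0], [0, 0, 0, 0, 0, 0, 0, 1], [0, 0, 0, 0, 0, 0, 0, -1]], [[1, 0, 0, 0, 0, 0, 0, 0], [0, 1, 0, 0, 0, 0, 0, 0], [0, 0, 1, 0, 0, 0, 0, 0], [0, 0, 0, 1, 0, 0, 0, 0], [0, 0, 0, 0, 1, 0, 0, 0], [0, 0, 0, 0, 0, 1, 0, 0], [0, 0, 0, 0, 0, 0, 1, 0], [0, 0, 0, 0, 0, 0, 0, 1]], 2, [1]⟩,
  ⟨3, [6, 5, 1, 3, 4, 2, 3, 0, 2, 1, 3, 4, 5, 6, 7, 6, 5, 4, 3, 2, 1, 3, 4, 5, 6, 0, 2, 3, 4, 5, 1, 3, 4, 2, 3, 0, 2, 1, 3, 4, 5, 6, 7, 3, 4, 5, 1, 3, 4, 2, 3, 0, 2, 1, 3, 4, 5, 6, 5, 1, 3, 4, 2, 3, 0, 2, 1, 3, 4, 5, 4, 2, 3, 0, 2, 1, 3, 4, 3, 0], [64, 196, 214, 87, 9, 170, 160, 93], [[1, 0, 0, 0, 0, 0, 0, 0], [-1, -1, -1, -2, -1, -1, 0, 0], [0, 1, 1, 2, 1, 1, 0, 0], [0, 1, 0, 0, 0, 0, 0, 0], [1, 1, 2, 3, 2, 1,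 1, 1], [-1, -2, -2, -3, -2, -1, -1, -1], [0, 0, 1, 0, 0, 0, 0, 0], [1, 2, 2, 4, 3, 2, 1, 0], [-1, -2, -3, -4, -3, -2, -1, 0], [0, 0, 0, 1, 0, 0, 0, 0], [0, -1, -1, -2, -1, 0, 0, 0], [0, 1, 1, 1, 1, 0, 0, 0]], [[2, 0, 0, 0, 0, -1, 0, -1], [0, 2, 0, 0, -2, 0, 2, -1], [0, 0, 2, 0, -2, 0, 1, -1], [0, 0, 0, 2, -3, -1, 3, -2]], 3, [1]⟩,
  ⟨4, [6, 7, 5, 6, 2, 3, 4, 5, 1, 3, 4, 2, 3, 0, 2, 1, 3, 4, 5, 6, 7, 2, 3, 0, 2, 1, 3, 4, 5, 6, 3, 4, 5, 1, 3, 4, 2, 3, 0, 2, 1, 3, 4, 5, 1, 3, 4, 2, 3, 0, 2, 1, 3, 4, 2, 1, 3, 2, 1, 0], [47, 50, 173, 137, 43, 164, 225, 92], [[1, 0, 0, 0, 0, 0, 0, 0], [-1, -1, -2, -2, -2, -2, -1, -1], [-1, 0, 0, 0, 0, 0, 0, 0], [1, 1, 2, 2, 2, 2, 1, 1], [0, 1, 0, 0, 0, 0, 0, 0], [-1, -1, -2, -2, -2, -1, -1, 0], [0,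 -1, 0, 0, 0, 0, 0, 0], [1, 1, 2, 2, 2, 1, 1, 0], [0, 0, 1, 0, 0, 0, 0, 0], [1, 1, 1, 1, 1, 1, 1, 1], [0, 0, -1, 0, 0, 0, 0, 0], [-1, -1, -1, -1, -1, -1, -1, -1], [0, 0, 0, 1, 0, 0, 0, 0], [0, 0, 1, 1, 1, 0, 0, 0], [0, 0, 0, -1, 0, 0, 0, 0], [0, 0, -1, -1, -1, 0, 0, 0]], [[1, 0, 0, 0, 0, 0, -1, 0], [0, 1, 0, 0, 0, 0, -1, 0], [0, 0, 1, 0, -1, 0, 0, 0], [0, 0, 0, 1, -1, 0, 0, 0]], 2, [2]⟩,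
  ⟨5, [6, 7, 5, 6, 2, 3, 4, 5, 1, 3, 4, 2, 3, 0, 2, 1, 3, 4, 5, 6, 7, 4, 3, 2, 1, 3, 4, 5, 6, 5, 4, 2, 3, 0, 2, 1, 3, 4, 5, 4, 3, 0, 2, 1, 3, 4, 3, 0], [50, 197, 228, 75, 14, 152, 192, 99], [[1, 0, 0, 0, 0, 0, 0, 0], [-1, -1, -2, -2, -2, -1, -1, 0], [-1, 0, -1, -1, -1, -1, -1, -1], [0, 0, 1, 1, 1, 1, 1, 0], [1, 1, 2, 2, 2, 1, 1, 1], [0, 1, 0, 0, 0, 0, 0, 0], [1, 1, 2, 3, 2, 2, 1, 0], [0, 1, 1, 2, 2, 1, 1, 1], [0, -1, -1, -2, -1, -1, -1, -1], [-1, -2, -2, -3, -3, -2, -1, 0]], [[4, 0, -5, 3, 0, -4, 5, -2], [0, 4, 1, -3, -2, 2, 2, 0]], 5, [1]⟩,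
  ⟨6, [6, 5, 1, 3, 4, 2, 3, 0, 2, 1, 3, 4, 5, 6, 7, 3, 2, 1, 3, 4, 5, 6, 5, 4, 3, 0, 2, 1, 3, 4, 5, 4, 3, 0, 2, 1, 3, 4, 3, 0], [86, 206, 219, 91, 10, 171, 161, 94], [[1, 0, 0, 0, 0, 0, 0, 0], [0, -1, -1, -2, -1, -1, 0, 0], [-1, -1, -1, -2, -1, -1, 0, 0], [-1, 0, 0, 0, 0, 0, 0, 0], [0, 1, 1, 2, 1, 1, 0, 0], [1, 1, 1, 2, 1, 1, 0, 0], [0, 1, 0, 0, 0, 0, 0, 0], [1, 2, 2, 3, 2, 1, 1, 1], [1, 1, 2, 3, 2, 1, 1, 1], [0, -1, 0, 0, 0, 0, 0, 0], [-1, -2, -2, -3, -2, -1, -1, -1], [-1, -1, -2, -3, -2, -1, -1, -1], [0, 0, 1, 0, 0, 0, 0, 0], [1, 2, 3, 4, 3, 2, 1, 0], [1, 2, 2, 4, 3, 2, 1, 0], [0, 0, -1, 0, 0, 0, 0, 0], [-1, -2, -3, -4, -3, -2, -1, 0], [-1, -2, -2, -4, -3, -2, -1, 0], [0, 0, 0, 1, 0, 0, 0, 0], [0, -1, -1, -1, -1, 0, 0, 0],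 [0, -1, -1, -2, -1, 0, 0, 0], [0, 0, 0, -1, 0, 0, 0, 0], [0, 1, 1, 1, 1, 0, 0, 0], [0, 1, 1, 2, 1, 0, 0, 0]], [[2, 0, 0, 0, 0, -1, 0, -1], [0, 2, 0, 0, -2, 0, 2, -1], [0, 0, 2, 0, -2, 0, 1, -1], [0, 0, 0, 2, -3, -1, 3, -2]], 6, [3, 2]⟩,
  ⟨7, [6, 5, 2, 3, 4, 0], [76, 147, 164, 128, 100, 137, 123, 122], [[0, 1, 0, 0, 0, 0, 0, 0], [0, 1, 1, 1, 0, 0, 0, 0], [1, 1, 2, 2, 1, 1, 1, 0], [1, 1, 2, 3, 2, 2, 1, 0], [1, 1, 2, 3, 3, 2, 1, 0], [1, 1, 1, 2, 2, 1, 0, 0], [0, 1, 0, 1, 1, 0, 0, 0]], [[0, 2, 0, -1, 0, 1, 0, 0]], 1, [1]⟩,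
  ⟨8, [5, 4, 3, 2, 1, 3, 4, 5, 6, 7, 3, 4, 5, 6, 4, 5, 2, 3, 0, 2, 1, 3, 4, 2, 1, 3, 0, 2, 1, 0], [57, 84, 100, 161, 94, 214, 108, 90], [[1, 0, 0, 0, 0, 0, 0, 0], [-1, -1, -1, -2, -2, -2, -1, -1], [-1, -1, -2, -3, -2, -1, -1, 0], [0, -1, -1, -1, -1, -1, -1, -1], [-1, 0, 0, 0, 0, 0, 0, 0], [1, 1, 1, 2, 2, 2, 1, 1], [1, 1, 2, 3, 2, 1, 1, 0], [0, 1, 1, 1, 1, 1, 1, 1], [0, 1, 0, 0, 0, 0, 0, 0], [0, -1, -1, -2, -1, -1, -1, -1], [-1, -1, -1, -2, -2, -2, -2, -1], [-1, -1, -2, -2, -1, -1, -1, 0], [0, -1, 0, 0, 0, 0, 0, 0], [0, 1, 1, 2, 1, 1, 1, 1], [1, 1, 1, 2, 2, 2, 2, 1], [1, 1, 2, 2, 1, 1, 1, 0]], [[2, 0, 0, 0, 0, -2, 0, 2], [0, 2, -1, 0, 0, 0, 0, -1]], 4, [4]⟩,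
  ⟨9, [1, 3, 4, 5, 1, 3, 0, 2], [152, 126, 65, 169, 132, 95, 145, 120], [[1, 0, 0, 0, 0, 0, 0, 0], [0, 1, 1, 2, 1, 0, 0, 0], [1, 1, 1, 1, 1, 1, 0, 0], [0, 0, 1, 1, 1, 0, 0, 0], [0, 0, 0, 0, 0, 1, 0, 0], [0, -1, 0, -1, -1, -1, 0, 0], [-1, 0, -1, -1, -1, 0, 0, 0], [0, -1, -1, -2, -1, -1, 0, 0], [-1, 0, -1, 0, 0, 0, 0, 0]], [[2, -1, -2, 2, -1, 0, 0, 0]], 3, [3]⟩,
  ⟨10, [2, 1, 3, 4, 5, 6, 7, 4, 5, 6, 0, 2, 1, 3, 4, 5, 3, 0, 2, 1, 3, 4, 3, 0], [100, 155, 193, 117, 32, 145, 184, 91], [[1, 0, 0, 0, 0, 0, 0, 0], [0, 0, -1, -1, -1, -1, -1, 0], [-1, -1, -2, -2, -2, -1, -1, 0], [-1, -1, -2, -2, -2, -1, -1, -1], [-1, 0, -1, -1, -1, -1, -1, -1], [-1, 0, 0, 0, 0, 0, 0, 0], [0, 0, 1, 1, 1, 1, 1, 0], [1, 1, 2, 2, 2, 1, 1, 0], [1, 1, 2, 2,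 2, 1, 1, 1], [1, 0, 1, 1, 1, 1, 1, 1], [0, 0, 1, 0, 0, 0, 0, 0], [1, 1, 2, 2, 2, 2, 2, 1], [2, 2, 3, 4, 3, 2, 2, 1], [2, 2, 3, 4, 3, 2, 1, 1], [1, 1, 1, 2, 2, 2, 1, 1], [0, 0, -1, 0, 0, 0, 0, 0], [-1, -1, -2, -2, -2, -2, -2, -1], [-2, -2, -3, -4, -3, -2, -2, -1], [-2, -2, -3, -4, -3, -2, -1, -1], [-1, -1, -1, -2, -2, -2, -1, -1]], [[4, 0, 0, -2, 0, 1, 0, -2], [0, 1, 4, -2, -3, 3, -2, 0]], 10, [5, 2]⟩,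
  ⟨12, [3, 4, 5, 6, 7, 4, 5, 6, 3, 2, 1, 3, 4, 2, 1, 3, 0, 2, 1, 0], [100, 94, 64, 181, 112, 160, 114, 108], [[1, 0, 0, 0, 0, 0, 0, 0], [0, 0, -1, -1, -1, -1, -1, 0], [0, -1, -1, -2, -2, -1, -1, 0], [-1, -1, -2, -3, -2, -1, -1, 0], [-1, -1, -1, -2, -2, -1, -1, 0], [-1, -1, -1, -2, -1, 0, 0, 0], [-1, 0, 0, 0, 0, 0, 0, 0], [0, 0, 1, 1, 1, 1, 1, 0], [0, 1, 1, 2, 2, 1, 1, 0], [1, 1, 2, 3, 2, 1, 1, 0], [1, 1, 1, 2, 2, 1, 1, 0], [1, 1, 1, 2, 1, 0, 0, 0], [0, 1, 0, 0, 0, 0, 0, 0], [0, -1, 0, -1, -1, -1, -1, 0], [-1, -1, -2, -3, -2, -1, 0, 0], [-1, -1, -1, -2, -2, -2, -2, -1], [-1, -2, -2, -3, -2, -1, 0, 0], [-1, 0, -1, -1, -1, -1, -1, -1], [0, -1, 0, 0, 0, 0, 0, 0], [0, 1, 0, 1, 1, 1, 1, 0], [1, 1, 2, 3, 2, 1, 0, 0], [1, 1, 1, 2, 2,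 2, 2, 1], [1, 2, 2, 3, 2, 1, 0, 0], [1, 0, 1, 1, 1, 1, 1, 1]], [[2, 0, 0, -1, 0, 1, 0, -2], [0, 2, 2, -2, 0, -1, 1, 0]], 6, [6, 4]⟩,
  ⟨14, [4, 5, 6, 3, 4, 1, 3, 0, 2], [156, 123, 61, 165, 141, 133, 111, 129], [[1, 0, 0, 0, 0, 0, 0, 0], [0, 1, 1, 2, 2, 1, 0, 0], [1, 1, 1, 1, 1, 1, 1, 0], [0, 1, 1, 2, 1, 1, 0, 0], [1, 0, 1, 1, 1, 1, 1, 0], [0, 1, 1, 2, 1, 0, 0, 0], [1, 0, 1, 0, 0, 0, 0, 0], [-1, 0, 0, 0, 0, 0, 0, 0], [0, -1, -1, -2, -2, -1, 0, 0], [-1, -1, -1, -1, -1, -1, -1, 0], [0, -1, -1, -2, -1, -1, 0, 0], [-1, 0, -1, -1, -1, -1, -1, 0], [0, -1, -1, -2, -1, 0, 0, 0], [-1, 0, -1, 0, 0, 0, 0, 0]], [[2, 0, -1, 0, 0, 0, 0, 0]], 2, [7, 2]⟩,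
  ⟨15, [5, 6, 7, 5, 6, 2, 1, 3, 4, 5, 0, 2, 1, 3, 4, 0], [97, 172, 154, 120, 52, 164, 149, 116], [[1, 0, 0, 0, 0, 0, 0, 0], [0, -1, 0, -1, 0, 0, 0, 0], [-1, -1, -1, -1, -1, -1, -1, -1], [-1, -1, -2, -2, -2, -1, -1, 0], [0, -1, -1, -2, -2, -2, -1, 0], [-1, -1, -1, -2, -1, -1, 0, 0], [-1, 0, -1, -1, -1, -1, -1, -1], [0, 0, -1, -1, -1, 0, 0, 0], [1, 0, 1, 0, 0, 0, 0, 0], [0, 0, 1, 1, 1, 1, 1, 0], [0, 1, 1, 2, 1, 1, 0, 0], [1, 1, 1, 2, 1, 1, 1, 1], [1, 1, 2, 2, 2, 1, 1, 1], [0, 1, 1, 2, 2, 1, 1, 0], [0, 1, 0, 1, 1, 1, 0, 0]], [[8, -3, -7, 2, 4, -2, 1, -4]], 15, [5, 3]⟩,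
  ⟨18, [6, 5, 1, 3, 4, 2, 0], [70, 130, 162, 150, 94, 143, 123, 122], [[1, 0, 0, 0, 0, 0, 0, 0], [-1, -1, -1, -1, 0, 0, 0, 0], [0, 0, 0, -1, -1, -1, -1, 0], [0, -1, -1, -1, -1, -1, 0, 0], [-1, -1, -1, -2, -1, 0, 0, 0], [0, 0, -1, -1, -1, -1, -1, 0], [-1, -1, -1, -1, -1, -1, 0, 0], [0, 0, 0, -1, -1, 0, 0, 0], [0, 0, -1, 0, 0, 0, 0, 0], [-1, 0, 0, 0, 0, 0, 0, 0], [1, 1, 1, 1, 0, 0, 0, 0], [0, 0, 0, 1, 1, 1, 1, 0], [0, 1, 1, 1, 1, 1, 0, 0], [1, 1, 1, 2, 1, 0, 0, 0], [0, 0, 1, 1, 1, 1, 1, 0], [1, 1, 1, 1, 1, 1, 0, 0], [0, 0, 0, 1, 1, 0, 0, 0], [0, 0, 1, 0, 0, 0, 0, 0]], [[2, -1, 0, -1, 1, 0, 0, 2]], 6, [9, 6]⟩,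
  ⟨20, [6, 7, 5, 6, 4, 5, 3, 4, 0, 2, 3, 1], [139, 56, 120, 145, 163, 130, 126, 123], [[0, 1, 0, 0, 0, 0, 0, 0], [-1, -1, -1, -2, -2, -2, -2, -1], [-1, -1, -2, -3, -3, -2, -1, 0], [-2, -2, -3, -4, -3, -2, -2, -1], [-1, -2, -3, -4, -4, -3, -2, -1], [-2, -2, -3, -4, -3, -2, -1, -1], [-1, -2, -3, -4, -3, -3, -2, -1], [-1, -2, -2, -4, -3, -2, -1, -1], [-1, -2, -2, -3, -2, -2, -1, 0], [0, -1, -1, -2, -1, 0, 0, 0], [0, -1, 0, 0, 0, 0, 0, 0], [1, 1, 1, 2, 2, 2, 2, 1], [1, 1, 2, 3, 3, 2, 1, 0], [2, 2, 3, 4, 3, 2, 2, 1], [1, 2, 3, 4, 4, 3, 2, 1], [2, 2, 3, 4, 3, 2, 1, 1], [1, 2, 3, 4, 3, 3, 2, 1], [1, 2, 2, 4, 3, 2, 1, 1], [1, 2, 2, 3, 2, 2, 1, 0], [0, 1, 1, 2, 1, 0, 0, 0]], [[0, 4, 0, -3, 2, -1, 0, 0]], 10, [10, 4]⟩,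
  ⟨24, [5, 6, 7, 3, 4, 1, 3, 2, 1, 0], [64, 112, 162, 138, 141, 133, 120, 114], [[1, 0, 0, 0, 0, 0, 0, 0], [-1, -1, -1, -2, -1, -1, 0, 0], [0, 0, -1, -1, -1, -1, -1, 0], [-1, -1, -1, -2, -2, -2, -1, -1], [0, -1, -1, -2, -2, -1, -1, 0], [-1, -2, -2, -3, -2, -2, -1, -1], [-1, -1, -2, -3, -2, -1, -1, 0], [-1, -1, -2, -2, -2, -2, -1, -1], [-1, -1, -1, -2, -2, -1, -1, 0], [0, -1, -1, -1, -1, -1, -1, -1], [-1, -1, -1, -2, -1, 0, 0, 0], [0, 0, -1, 0, 0, 0, 0, 0], [-1, 0, 0, 0, 0, 0, 0, 0], [1, 1, 1, 2, 1, 1, 0, 0], [0, 0, 1, 1, 1, 1, 1, 0], [1, 1, 1, 2, 2, 2, 1, 1], [0, 1, 1, 2, 2, 1, 1, 0], [1, 2, 2, 3, 2, 2, 1, 1], [1, 1, 2, 3, 2, 1, 1, 0], [1, 1, 2, 2, 2, 2, 1, 1], [1, 1, 1, 2, 2, 1, 1, 0], [0, 1, 1, 1, 1, 1, 1, 1], [1, 1, 1, 2,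 1, 0, 0, 0], [0, 0, 1, 0, 0, 0, 0, 0]], [[2, 1, 0, -1, -1, 0, 2, -1]], 6, [12, 8]⟩,
  ⟨30, [6, 7, 5, 2, 1, 3, 4, 0], [76, 136, 169, 128, 89, 148, 125, 117], [[1, 0, 0, 0, 0, 0, 0, 0], [-1, 0, -1, 0, 0, 0, 0, 0], [0, -1, 0, -1, 0, 0, 0, 0], [0, 0, -1, -1, -1, -1, -1, 0], [-1, -1, -1, -1, -1, -1, -1, -1], [0, -1, -1, -2, -1, -1, 0, 0], [-1, -1, -2, -2, -2, -1, -1, 0], [-1, -1, -1, -2, -1, -1, -1, -1], [0, -1, -1, -2, -2, -2, -1, 0], [-1, -1, -2, -2, -2, -1, -1, -1], [-1, -1, -1, -2, -1, -1, 0, 0], [0, -1, -1, -2, -2, -1, -1, 0], [-1, 0, -1, -1, -1, -1, -1, -1], [0, -1, 0, -1, -1, -1, 0, 0], [0, 0, -1, -1, -1, 0, 0, 0], [-1, 0, 0, 0, 0, 0, 0, 0], [1, 0, 1, 0, 0, 0, 0, 0], [0, 1, 0, 1, 0, 0, 0, 0], [0, 0, 1, 1, 1, 1, 1, 0], [1,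 1, 1, 1, 1, 1, 1, 1], [0, 1, 1, 2, 1, 1, 0, 0], [1, 1, 2, 2, 2, 1, 1, 0], [1, 1, 1, 2, 1, 1, 1, 1], [0, 1, 1, 2, 2, 2, 1, 0], [1, 1, 2, 2, 2, 1, 1, 1], [1, 1, 1, 2, 1, 1, 0, 0], [0, 1, 1, 2, 2, 1, 1, 0], [1, 0, 1, 1, 1, 1, 1, 1], [0, 1, 0, 1, 1, 1, 0, 0], [0, 0, 1, 1, 1, 0, 0, 0]], [[8, -3, -7, 2, 4, -2, 1, -4]], 30, [15, 10, 6]⟩]

theorem kE8 : cE8.all (chkHomo chevE8 [2, 8, 12, 14, 18, 20, 24, 30]) = true := by decide +kernel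


/-- Sylow subgroups for primes away from the characteristic and the Weyl group. Let `G` be the Chevalley group of type G₂, B₂, D₄, F₄, E₆, E₇ or E₈ over a field with `q` elements, with the degrees of its Weyl group listed beside the type (their product is the order of the Weyl group), and let `r` be a prime dividing the order of `G`, not dividing `q` and not dividing the order of the Weyl group. Let `d` be the multiplicative order of `q` modulo `r`, `a` the number of degrees divisible by `d`, and `m` the `r`-part of the value at `q` of the `d`-th cyclotomic polynomial. Then every Sylow `r`-subgroup of `G` is homocyclic: a direct product of `a` cyclic groups of order `m` (in particular abelian). -/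
theorem result {F : Type*} [Field F] [Fintype F] {q : ℕ} (hq : Fintype.card F = q)
    (c : Cfsg.Lie.ChevalleyDatum × List ℕ)
    (hc : c ∈ [(Cfsg.Lie.chevG2, [2, 6]), (Cfsg.Lie.chevB2, [2, 4]), (Cfsg.Lie.chevD4, [2, 4, 4, 6]), (Cfsg.Lie.chevF4, [2, 6, 8, 12]),
      (Cfsg.Lie.chevE6, [2, 5, 6, 8, 9, 12]), (Cfsg.Lie.chevE7, [2, 6, 8, 10, 12, 14, 18]), (Cfsg.Lie.chevE8, [2, 8, 12, 14, 18, 20, 24, 30])])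
    (r : ℕ) [Fact r.Prime] (hrq : ¬ r ∣ q) (hrW : ¬ r ∣ c.2.prod) (hrG : r ∣ Nat.card ↥(c.1.group F)) (P : Sylow r ↥(c.1.group F)) :
    Nonempty (↥(P : Subgroup ↥(c.1.group F)) ≃*
      (Fin (c.2.filter (fun e => orderOf (q : ZMod r) ∣ e)).length →
        Multiplicative (ZMod (r ^ padicValNat r ((Polynomial.cyclotomic (orderOf (q : ZMod r)) ℤ).eval (q : ℤ)).natAbs)))) := by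
  subst hq
  simp only [List.mem_cons, List.not_mem_nil, or_false] at hc
  rcases hc with rfl | rfl | rfl | rfl | rfl | rfl | rfl
  · exact homocyclic rootOK_G2 matOK_G2 (by simp) kG2 (by decide) (by simp) (N := 6) (by
      rw [card_cartanKer_G2 rootOK_G2.compat, one_mul, S1059.result rfl]; simp [mul_assoc])
      (by rw [card_cartanKer_G2 rootOK_G2.compat]; exact one_dvd _) r hrq hrW hrG P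
  · exact homocyclic rootOK_B2 matOK_B2 (by simp) kB2 (by decide) (by simp) (N := 4) (by
      rw [card_cartanKer_B2 rootOK_B2.compat, Nat.card_eq_fintype_card, S1060.result rfl]; simp [mul_assoc])
      (by rw [card_cartanKer_B2 rootOK_B2.compat]; exact (Nat.gcd_dvd_left _ _).trans (by decide)) r hrq hrW hrG P
  · exact homocyclic rootOK_D4 matOK_D4 (by simp) kD4 (by decide) (by simp) (N := 12) (by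
      rw [card_cartanKer_D4 rootOK_D4.compat, Nat.card_eq_fintype_card, S1061.result rfl]; simp [mul_assoc])
      (by rw [card_cartanKer_D4 rootOK_D4.compat]; exact (pow_dvd_pow_of_dvd (Nat.gcd_dvd_left _ _) 2).trans (by decide)) r hrq hrW hrG P
  · exact homocyclic rootOK_F4 matOK_F4 (by simp) kF4 (by decide) (by simp) (N := 24) (by
      rw [card_cartanKer_F4 rootOK_F4.compat, one_mul, S1062.result rfl]; simp [mul_assoc])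
      (by rw [card_cartanKer_F4 rootOK_F4.compat]; exact one_dvd _) r hrq hrW hrG P
  · exact homocyclic rootOK_E6 matOK_E6 (by simp) kE6 (by decide) (by simp) (N := 36) (by
      rw [card_cartanKer_E6 rootOK_E6.compat, Nat.card_eq_fintype_card, S1063.result rfl]; simp [mul_assoc])
      (by rw [card_cartanKer_E6 rootOK_E6.compat]; exact (Nat.gcd_dvd_left _ _).trans (by decide)) r hrq hrW hrG P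
  · exact homocyclic rootOK_E7 matOK_E7 (by simp) kE7 (by decide) (by simp) (N := 63) (by
      rw [card_cartanKer_E7 rootOK_E7.compat, Nat.card_eq_fintype_card, S1064.result rfl]; simp [mul_assoc])
      (by rw [card_cartanKer_E7 rootOK_E7.compat]; exact (Nat.gcd_dvd_left _ _).trans (by decide)) r hrq hrW hrG P
  · exact homocyclic rootOK_E8 matOK_E8 (by simp) kE8 (by decide) (by simp) (N := 120) (by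
      rw [card_cartanKer_E8 rootOK_E8.compat, one_mul, S1065.result rfl]; simp [mul_assoc])
      (by rw [card_cartanKer_E8 rootOK_E8.compat]; exact one_dvd _) r hrq hrW hrG P

end Cfsg.Agent.S2378
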