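import Cfsg.Statements.S2383
import Cfsg.Agent.Lib.Chev.SSC

set_option autoImplicit false
open Cfsg Cfsg.Lie Cfsg.Lib.Chev Cfsg.Lib.Twist

namespace Cfsg.Agent.S2383

/-- Steinberg's count of semisimple classes in characteristic 2 for the types B₂, D₄, E₇, where the finite simply connected group has trivial centre and so coincides with the Chevalley group: for the Chevalley group of type B₂, D₄ or E₇ over a field with `q` elements of characteristic 2, the conjugacy classes of elements of odd order number exactly `q^l`, `l` the rank. -/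
theorem result {F : Type*} [Field F] [Fintype F] {q : ℕ} (hq : Fintype.card F = q) [CharP F 2]
    (D : Cfsg.Lie.ChevalleyDatum) (hD : D ∈ [Cfsg.Lie.chevB2, Cfsg.Lie.chevD4, Cfsg.Lie.chevE7]) :
    Nat.card {c : ConjClasses ↥(D.group F) // ∃ g : ↥(D.group F), ConjClasses.mk g = c ∧ Odd (orderOf g)} = q ^ D.rank := by
  obtain ⟨R, η, hc, hm⟩ := good_of_mem (D := D) (by simp at hD ⊢; tauto)
  have h : Nat.gcd 2 (Nat.card F - 1) = 1 := by
    obtain ⟨e, -, he⟩ := FiniteField.card F 2
    rw [Nat.card_eq_fintype_card, he]
    exact ((Nat.coprime_self_sub_right Nat.one_le_two_pow).2 (by simp)).coprime_dvd_left (dvd_pow_self 2 e.2.ne')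
  simp only [← hq, ← Nat.coprime_two_right]
  refine card_ss hc hm (by simp at hD ⊢; tauto) 2 ?_
  simp only [List.mem_cons, List.not_mem_nil, or_false] at hD
  rcases hD with rfl | rfl | rfl
  exacts [(card_cartanKer_B2 hc).trans h, by rw [card_cartanKer_D4 hc, h]; rfl, (card_cartanKer_E7 hc).trans h]

end Cfsg.Agent.S2383
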