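import Cfsg.Statements.S2385
import Cfsg.Agent.Lib.Conj.Ord

set_option autoImplicit false
open Cfsg

namespace Cfsg.Agent.S2385

open Cfsg.Lib.Conj Cfsg.Lib.Forms Cfsg.Lib.Forms.Form Module

open Cfsg.Lib.Known Polynomial

/-- In the symplectic group `Sp_{2n}(q)`, `q` a power of the prime `p`, the number of conjugacy classes of elements of order prime to `p` is `q^n`. -/
theorem result {F : Type*} [Field F] [Fintype F] {q : ℕ} (hq : Fintype.card F = q) (p : ℕ) [Fact p.Prime] [CharP F p] (n : ℕ) :
    Nat.card {c : ConjClasses ↥(Matrix.symplecticGroup (Fin n) F) //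
      ∃ g : ↥(Matrix.symplecticGroup (Fin n) F), ConjClasses.mk g = c ∧ (orderOf g).Coprime p} = q ^ n := by
  have hD := fSymp_nondeg (F := F) n
  rw [card_classes_equiv (spEquiv F n) _ (fun g => (nat _ g).IsSemisimple)
    (fun g => by rw [← MulEquiv.orderOf_eq (spEquiv F n), isom_coprime_iff]; rfl),
    card_classes_of_invariant' _ (fun g => (nat _ g).charpoly) (fun f => f.Monic ∧
      f.natDegree = 2 * n ∧ (f.map (RingHom.id F)).reflect (2 * n) = C 1 * f),
    card_palin (fun _ => rfl) (by simp) (fun _ => rfl)]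
  · rcases n with _ | n
    · simp
    · simp [hq, show (2 * (n + 1) - 1) / 2 = n by omega, pow_succ]
  · exact fun g k hg hk => (alt_isConj_iff hD hg).trans
      ⟨fun h => h.charpoly, sim_of_charpoly hg hk⟩
  · have key : ∀ x : End F (Fin n ⊕ Fin n → F), x.charpoly.coeff 0 = LinearMap.det x := fun x => by
      simp [LinearMap.det_eq_sign_charpoly_coeff, ← two_mul]
    intro f
    constructor
    · rintro ⟨h1, h2, h3⟩
      obtain ⟨x, hx, rfl⟩ := exists_ss_charpoly (V := Fin n ⊕ Fin n → F) h1
        (h2.trans (finrank_plus n).symm)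
      have h4 : x.charpoly.coeff 0 = 1 := by
        simpa [← h2, h1.coeff_natDegree] using (congrArg (coeff · 0) h3).symm
      have h5 := (key x).symm.trans h4
      have hu : IsUnit x := (LinearMap.isUnit_iff_isUnit_det x).2 (h5 ▸ isUnit_one)
      obtain ⟨E, hE, hi⟩ := ((selfDual_iff_pd (fun _ => rfl) hx hu).2 ((pd_eq_self_iff h1
        (by simp [h4])).2 (by simpa [h2, h4] using h3))).exists_alt hx
        (by simp) h5
      obtain ⟨g, hg⟩ := exists_alt_isom hD hE hi rfl
      exact ⟨g, ss_of_sim hg hx, hg.charpoly.symm⟩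
    · rintro ⟨g, hg, rfl⟩
      have h1 : (nat _ g).charpoly.coeff 0 = 1 :=
        (key _).trans ((coe_det _).symm.trans (congrArg Units.val (Symp.det_eq_one hD g)))
      have h2 := (LinearMap.charpoly_natDegree (nat _ g)).trans (finrank_plus n)
      refine ⟨LinearMap.charpoly_monic _, h2, ?_⟩
      simpa [h1, h2] using (pd_eq_self_iff (LinearMap.charpoly_monic _) (by simp [h1])).1
        ((selfDual_iff_pd (σ := RingHom.id F) (fun _ => rfl) hg
          (isUnit_of_isIsometry hD g.2.B_map)).1 (selfDual_of_isIsometry hD g.2))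

end Cfsg.Agent.S2385
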