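import Cfsg.Statements.S2386
import Cfsg.Agent.Lib.Conj.Ord

set_option autoImplicit false
open Cfsg

namespace Cfsg.Agent.S2386

open Cfsg.Lib.Conj Cfsg.Lib.Forms Cfsg.Lib.Forms.Form Module

open Cfsg.Lib.Known Polynomial

/-- In the special unitary group `SU_n(q)` (matrices of determinant one over the field with `q²` elements preserving the standard Hermitian form), `q` a power of the prime `p`, the number of conjugacy classes of elements of order prime to `p` is `q^(n-1)`. -/
theorem result {F : Type*} [Field F] [Fintype F] {q : ℕ} (hF : Fintype.card F = q ^ 2) (p : ℕ) [Fact p.Prime] [CharP F p] (n : ℕ) (hn : 1 ≤ n) :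
    Nat.card {c : ConjClasses ↥(Cfsg.SU n F q) // ∃ g : ↥(Cfsg.SU n F q), ConjClasses.mk g = c ∧ (orderOf g).Coprime p} = q ^ (n - 1) := by
  obtain ⟨σ, h⟩ := isConj_of_card hF
  have hD := stdHerm_nondeg h (Fin n)
  rw [card_classes_equiv (suEquiv h n) _ (fun g => (nat _ g.1).IsSemisimple)
    (fun g => by
      rw [← MulEquiv.orderOf_eq (suEquiv h n), ← Subgroup.orderOf_coe, isom_coprime_iff]; rfl),
    card_classes_of_invariant' _ (fun g => (nat _ g.1).charpoly) (fun f => f.Monic ∧
      f.natDegree = n ∧ (f.map σ).reflect n = C ((-1) ^ n) * f),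
    card_palin h.σσ (by simp [← mul_pow]) (fun _ => by omega), h.card, ← pow_mul]
  · split_ifs with h1
    · simp only [h1.1.neg_one_pow, one_mul, h.card_fixed, ← pow_succ]
      congr 1
      have := Nat.even_iff.1 h1.1
      omega
    · rw [mul_one]
      congr 1
      rw [Nat.even_iff] at h1
      omega
  · exact fun g k hg hk => ⟨fun h => (sim_of_isConj ((nat _).comp (Subgroup.subtype _)) h).charpoly,
      fun h' => su_isConj hD (sim_of_charpoly hg hk h') (herm_exists_comm_det hD hg)⟩
  · have key : ∀ x : End F (Fin n → F), x.charpoly.coeff 0 = (-1) ^ n ↔ LinearMap.det x = 1 :=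
      fun x => by
        rw [LinearMap.det_eq_sign_charpoly_coeff, finrank_fin_fun]
        rcases neg_one_pow_eq_or F n with h | h <;> simp [h, neg_eq_iff_eq_neg]
    intro f
    constructor
    · rintro ⟨h1, h2, h3⟩
      obtain ⟨x, hx, rfl⟩ := exists_ss_charpoly (V := Fin n → F) h1 (by simpa using h2)
      have h4 : x.charpoly.coeff 0 = (-1) ^ n := by
        have := congrArg (coeff · n) h3
        have h5 := h1.coeff_natDegree
        rw [h2] at h5
        simp only [coeff_reflect, revAt_le le_rfl, Nat.sub_self, coeff_map, coeff_C_mul, h5] at this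
        rw [← h.σσ (coeff _ 0), this]
        simp
      have h5 := (key x).1 h4
      have hu : IsUnit x := (LinearMap.isUnit_iff_isUnit_det x).2 (h5 ▸ isUnit_one)
      obtain ⟨g, hg⟩ := ((selfDual_iff_pd h.σσ hx hu).2 ((pd_eq_self_iff h1
        (by simp [h4])).2 (by simpa [h2, h4] using h3))).exists_herm_isom hD rfl
      exact ⟨⟨g, Units.ext (by rw [coe_det, ← hg.det, h5]; rfl)⟩, ss_of_sim hg hx, hg.charpoly.symm⟩
    · rintro ⟨g, hg, rfl⟩
      have h1 : (nat _ g.1).charpoly.coeff 0 = (-1) ^ n := 
        (key _).2 ((coe_det _).symm.trans (congrArg Units.val g.2))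
      have h2 := (LinearMap.charpoly_natDegree (nat _ g.1)).trans (finrank_fin_fun F)
      refine ⟨LinearMap.charpoly_monic _, h2, ?_⟩
      simpa [h1, h2] using (pd_eq_self_iff (LinearMap.charpoly_monic _) (by simp [h1])).1
        ((selfDual_iff_pd h.σσ hg
          (isUnit_of_isIsometry hD g.1.2.B_map)).1 (selfDual_of_isIsometry hD g.1.2))

end Cfsg.Agent.S2386
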