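import Cfsg.Statements.S2387
import Cfsg.Agent.Lib.Known.SimilarMat

set_option autoImplicit false
open scoped MatrixGroups
open Cfsg

namespace Cfsg.Agent.S2387

open Cfsg.Lib.Known

open Polynomial

/-- In `GL_n(q)` with `n ≥ 1`, `q` a power of the prime `p`, the number of conjugacy classes of elements of order prime to `p` (diagonalisable over the algebraic closure; determined by the characteristic polynomial) is `(q - 1) q^(n-1)`. -/
theorem result {F : Type*} [Field F] [Fintype F] {q : ℕ} (hq : Fintype.card F = q) (p : ℕ) [Fact p.Prime] [CharP F p] (n : ℕ) (hn : 1 ≤ n) :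
    Nat.card {c : ConjClasses (GL (Fin n) F) // ∃ g : GL (Fin n) F, ConjClasses.mk g = c ∧ (orderOf g).Coprime p} = (q - 1) * q ^ (n - 1) := by
  obtain ⟨m, rfl⟩ := Nat.exists_eq_add_of_le' hn
  rw [card_classes_of_invariant' _ 
    (fun g : GL (Fin (m + 1)) F => (g : Matrix (Fin (m + 1)) (Fin (m + 1)) F).charpoly)
    (fun f => f.Monic ∧ f.natDegree = m + 1 ∧ f.coeff 0 ≠ 0),
    card_monic_coeff_zero m (fun c => c ≠ 0), Nat.card_eq_fintype_card (α := F), hq]
  · classical
    rw [Nat.card_eq_fintype_card, Fintype.card_subtype_compl, Fintype.card_subtype_eq, hq]; rfl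
  · intro g h hg hh
    rw [GL_coprime_iff_isSS p] at hg hh
    rw [isConj_GL_iff_ed]
    exact ⟨fun hc => by rw [charpoly_eq_edProd, charpoly_eq_edProd, hc], ed_eq_of_isSS hg hh⟩
  · intro f
    constructor
    · rintro ⟨h1, h2, h3⟩
      obtain ⟨A, hA, rfl⟩ := exists_isSS_charpoly (n := Fin (m + 1)) h1 (by simpa using h2)
      have hu : IsUnit A := by
        rw [Matrix.isUnit_iff_isUnit_det, Matrix.det_eq_sign_charpoly_coeff]
        exact Ne.isUnit (mul_ne_zero (by simp) h3)
      exact ⟨hu.unit, (GL_coprime_iff_isSS p _).2 hA, rfl⟩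
    · rintro ⟨g, -, rfl⟩
      refine ⟨Matrix.charpoly_monic _, by simp, fun h => ?_⟩
      have := Matrix.det_eq_sign_charpoly_coeff (g : Matrix (Fin (m + 1)) (Fin (m + 1)) F)
      rw [h, mul_zero] at this
      exact Matrix.GeneralLinearGroup.det_ne_zero g this

end Cfsg.Agent.S2387
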