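import Cfsg.Statements.S2390
import Cfsg.Agent.Lib.Conj.Jord

set_option autoImplicit false
open Cfsg

namespace Cfsg.Agent.S2390

open Cfsg.Lib.Conj Cfsg.Lib.Forms Cfsg.Lib.Forms.Form Module


/-- In the special unitary group `SU_n(q)` (inside `SL_n` over the field with `q²` elements), `q` a power of the prime `p`, two elements of order prime to `p` with the same characteristic polynomial are conjugate in `SU_n(q)`. -/
theorem result {F : Type*} [Field F] [Fintype F] {q : ℕ} (hF : Fintype.card F = q ^ 2) (p : ℕ) [Fact p.Prime] [CharP F p] (n : ℕ)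
    (g h : ↥(Cfsg.SU n F q)) (hg : (orderOf g).Coprime p) (hh : (orderOf h).Coprime p)
    (hc : ((g : Matrix.SpecialLinearGroup (Fin n) F) : Matrix (Fin n) (Fin n) F).charpoly =
      ((h : Matrix.SpecialLinearGroup (Fin n) F) : Matrix (Fin n) (Fin n) F).charpoly) : IsConj g h := by
  obtain ⟨σ, c⟩ := isConj_of_card hF
  have hD := stdHerm_nondeg c (Fin n)
  have h1 := (isom_coprime_iff p (suEquiv c n g).1).1 (by
    rwa [Subgroup.orderOf_coe, MulEquiv.orderOf_eq])
  have h2 := (isom_coprime_iff p (suEquiv c n h).1).1 (by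
    rwa [Subgroup.orderOf_coe, MulEquiv.orderOf_eq])
  rw [← isConj_equiv (suEquiv c n)]
  refine su_isConj hD (sim_of_charpoly h1 h2 ?_) (herm_exists_comm_det hD h1)
  rw [coe_suEquiv, coe_suEquiv, Matrix.charpoly_toLin', Matrix.charpoly_toLin', hc]

end Cfsg.Agent.S2390
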