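import Cfsg.Statements.S2391
import Cfsg.Agent.Lib.CAut.Local

set_option autoImplicit false
open Cfsg

namespace Cfsg.Agent.S2391

open Matrix

/-- The ascending series of fixed points. -/
def ser {F V M : Type*} [Field F] [AddCommGroup V] [Module F V] (ρ : M → Module.End F V) :
    ℕ → Submodule F V
  | 0 => ⊥
  | i + 1 => ⨅ m, (ser ρ i).comap (ρ m - 1)

theorem mem_ser {F V M : Type*} [Field F] [AddCommGroup V] [Module F V] {ρ : M → Module.End F V}
    {i : ℕ} {v : V} : v ∈ ser ρ (i + 1) ↔ ∀ m, ρ m v - v ∈ ser ρ i := by simp [ser]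

/-- The Borel–Tits property of `SL_n(q)` in flag form: for a field `F` of characteristic `p` with finitely many elements and a non-trivial `p`-subgroup `U` of `SL_n(F)`, there is a flag `0 = V₀ < V₁ < ⋯ < V_{k+1} = F^n` with at least one proper non-zero member such that every element of the normaliser of `U` maps each `V_i` onto itself and every element of `U` acts trivially on each quotient `V_{i+1}/V_i` (so the normaliser lies in the parabolic subgroup of the flag and `U` in its unipotent radical). -/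
theorem result {F : Type*} [Field F] [Fintype F] (p : ℕ) [Fact p.Prime] [CharP F p] (n : ℕ)
    (U : Subgroup (Matrix.SpecialLinearGroup (Fin n) F)) (hU : IsPGroup p ↥U) (hne : U ≠ ⊥) :
    ∃ (k : ℕ) (V : Fin (k + 2) → Submodule F (Fin n → F)), 1 ≤ k ∧ StrictMono V ∧ V 0 = ⊥ ∧ V (Fin.last (k + 1)) = ⊤ ∧
      (∀ g ∈ Subgroup.normalizer (U : Set (Matrix.SpecialLinearGroup (Fin n) F)), ∀ i, (V i).map (Matrix.mulVecLin (g : Matrix (Fin n) (Fin n) F)) = V i) ∧
      (∀ u ∈ U, ∀ i : Fin (k + 1), ∀ v ∈ V i.succ, (u : Matrix (Fin n) (Fin n) F).mulVec v - v ∈ V (Fin.castSucc i)) := by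
  let ρ : SpecialLinearGroup (Fin n) F →* Module.End F (Fin n → F) :=
    (toLinAlgEquiv' (R := F) (n := Fin n)).toMonoidHom.comp SpecialLinearGroup.coeMonoidHom
  have hρ : ∀ g v, ρ g v = g.1 *ᵥ v := fun _ _ => rfl
  let S := ser fun u : U => ρ u
  have hN : ∀ g ∈ Subgroup.normalizer (U : Set (SpecialLinearGroup (Fin n) F)), ∀ i, ∀ v ∈ S i,
      ρ g v ∈ S i := fun g hg i => by
    induction i with
    | zero => intro v hv; rw [(Submodule.mem_bot F).1 hv, map_zero]; exact zero_mem _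
    | succ i ih =>
      refine fun v hv => mem_ser.2 fun u => ?_
      have := ih _ (mem_ser.1 hv ⟨_, (Subgroup.mem_normalizer_iff''.1 hg u).1 u.2⟩)
      rwa [map_sub, ← Module.End.mul_apply, ← map_mul, ← mul_assoc, ← mul_assoc, mul_inv_cancel,
        one_mul, map_mul] at this
  have hU' : ∀ u : U, ∀ i, ∀ v ∈ S i, ρ u v ∈ S i := fun u => hN u (Subgroup.le_normalizer u.2)
  have hlt : ∀ i, S i ≠ ⊤ → S i < S (i + 1) := fun i hi => by
    obtain ⟨v, -, h1, h2⟩ := Lib.CAut.exists_fixed_mod p hU (ρ.comp U.subtype) (A := S i) (B := ⊤)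
      (by simpa using hi) (fun m => hU' m i) fun _ _ _ => trivial
    exact SetLike.lt_iff_le_and_exists.2 ⟨fun x hx => mem_ser.2 fun u => sub_mem (hU' u i x hx) hx,
      v, mem_ser.2 h2, h1⟩
  have hex : ∃ i, S i = ⊤ := by
    by_contra! h
    exact (WellFoundedGT.monotone_chain_condition ⟨S, (strictMono_nat_of_lt_succ fun i =>
      hlt i (h i)).monotone⟩).elim fun i hi => (hlt i (h i)).ne (hi _ i.le_succ)
  classical
  have h1 : S 1 ≠ ⊤ := fun h => hne ((Subgroup.eq_bot_iff_forall _).2 fun u hu => Subtype.ext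
    (ext_iff_mulVec.2 fun v => by
      simpa [hρ, ser, sub_eq_zero] using mem_ser.1 (h.ge (x := v) trivial) ⟨u, hu⟩))
  have h0 : S 0 ≠ ⊤ := fun h => h1 (top_le_iff.1 (h.ge.trans bot_le))
  obtain ⟨k, hk⟩ : ∃ k, Nat.find hex = k + 2 := by
    refine ⟨Nat.find hex - 2, ?_⟩
    have := Nat.find_spec hex
    rcases h : Nat.find hex with _ | _ | k <;> simp_all
  refine ⟨k + 1, fun i => S i, by omega, Fin.strictMono_iff_lt_succ.2 fun i =>
    hlt _ (Nat.find_min hex (by rw [hk]; exact i.2)), rfl, (congrArg S hk).symm.trans (Nat.find_spec hex), fun g hg i => ?_,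
    fun u hu i v hv => mem_ser.1 hv ⟨u, hu⟩⟩
  refine le_antisymm (Submodule.map_le_iff_le_comap.2 (hN g hg i)) fun v hv =>
    ⟨_, hN _ (inv_mem hg) i v hv, ?_⟩
  show ρ g _ = v
  rw [← Module.End.mul_apply, ← map_mul, mul_inv_cancel, map_one]; rfl

end Cfsg.Agent.S2391
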