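import Cfsg.Statements.S2392
import Cfsg.Agent.Lib.Conj.Wt
import Cfsg.Agent.Lib.Linear.SLPair

set_option autoImplicit false
open scoped MatrixGroups
open Cfsg

namespace Cfsg.Agent.S2392

open Cfsg.Lib.Linear Cfsg.Lib.Conj Matrix Module

variable {F : Type*} [Field F] {ι : Type} [Fintype ι] [DecidableEq ι]

theorem exists_vec [Finite F] {K : Type*} [Field K] {ψ : AddChar F K} (hψ : ψ ≠ 1) (χ : AddChar (ι → F) K) :
    ∃ w, ∀ φ, χ φ = ψ (φ ⬝ᵥ w) := by
  choose w hw using fun j => exists_mulShift hψ (χ.compAddMonoidHom (AddMonoidHom.single (fun _ : ι => F) j))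
  refine ⟨w, fun φ => ?_⟩
  induction φ using Pi.single_induction with
  | zero => simp
  | add a b ha hb => rw [add_dotProduct, AddChar.map_add_eq_mul, AddChar.map_add_eq_mul, ha, hb]
  | single j s => simpa using hw j s

/-- The transvections with centre `e_i`. -/
def t (i : ι) (φ : ι → F) : Matrix.SpecialLinearGroup ι F := slTv (Pi.single i 1) (φ - Pi.single i (φ i)) (by simp)

theorem t_add (i : ι) (φ χ : ι → F) : t i (φ + χ) = t i φ * t i χ := Subtype.ext (by
  simp only [t, sl_coe_mul, coe_slTv, add_mul, mul_add, Matrix.one_mul, Matrix.mul_one, vecMulVec_mul_vecMulVec]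
  simp [Pi.single_add, add_sub_add_comm, vecMulVec_add, add_assoc, add_comm])

theorem t_conj (i : ι) (φ : ι → F) {g : Matrix.SpecialLinearGroup ι F} (h : g.1 *ᵥ Pi.single i 1 = Pi.single i 1) :
    t i φ * g = g * t i ((φ - Pi.single i (φ i)) ᵥ* g.1) := Subtype.ext (by
  have : ((φ - Pi.single i (φ i)) ᵥ* g.1) i = 0 := by
    rw [← mul_one ((_ ᵥ* g.1) i), ← dotProduct_single, ← dotProduct_mulVec, h]; simp
  simp only [t, sl_coe_mul, coe_slTv, add_mul, mul_add, Matrix.one_mul, Matrix.mul_one, this, mul_vecMulVec, vecMulVec_mul, h]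
  simp)

theorem bound [Fintype F] (hι : 3 ≤ Fintype.card ι) {K M : Type*} [Field K] [IsAlgClosed K] [AddCommGroup M] [Module K M]
    [FiniteDimensional K M] (hK : (ringChar F : K) ≠ 0) (R : Matrix.SpecialLinearGroup ι F →* End K M)
    (hR : R.ker ≤ Subgroup.center _) : Fintype.card F ^ (Fintype.card ι - 1) - 1 ≤ finrank K M := by
  classical
  obtain ⟨i, j, ij⟩ := Fintype.exists_pair_of_one_lt_card (α := ι) (by omega)
  have t0 : ∀ s, t i (Pi.single i s : ι → F) = 1 := fun s => Subtype.ext (by simp [t])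
  let T : Multiplicative (ι → F) →* _ := MonoidHom.mk' (fun φ => t i φ.toAdd) fun _ _ => t_add _ _ _
  obtain ⟨χ, h0, h1⟩ := exists_wt (fun φ => R (t i φ)) (fun φ χ => Commute.map (by
      rw [Commute, SemiconjBy, ← t_add, ← t_add, add_comm]) R) hK (fun φ => by
      rw [← map_pow, show t i φ ^ _ = T _ from (T.map_pow (.ofAdd φ) _).symm, ← ofAdd_nsmul, ← Nat.cast_smul_eq_nsmul F]
      simp) (i := Pi.single j 1) fun c => by
    have : t i (Pi.single j (1 : F)) = Matrix.SpecialLinearGroup.transvection ij 1 :=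
      Subtype.ext (by simp [t, coe_transvection_eq, ij])
    exact one_ne_zero ((Matrix.SpecialLinearGroup.transvection_mem_center_iff ij _).1 (this ▸ hR c))
  obtain ⟨x, hx, x0⟩ := (Submodule.ne_bot_iff _).1 h0
  rw [mem_wt] at hx
  have c1 : ∀ s, χ (Pi.single i s) = 1 := fun s => smul_left_injective K x0 (by simp [← hx, t0])
  let X : AddChar (ι → F) K := ⟨χ, by simpa using c1 0, fun a b => smul_left_injective K x0 (by
    simp only [← hx, t_add, map_mul, End.mul_apply, mul_smul]; rw [hx b, map_smul, hx a, smul_comm])⟩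
  let ψ := X.compAddMonoidHom (AddMonoidHom.single (fun _ : ι => F) j)
  have hψ : ψ ≠ 1 := AddChar.ne_one_iff.2 ⟨1, h1⟩
  obtain ⟨w, hw⟩ := exists_vec hψ X
  have ns : ∀ w : ι → F, w i = 0 → w ≠ 0 → w ∉ F ∙ (Pi.single i 1 : ι → F) := fun w a b c => by
    obtain ⟨s, rfl⟩ := Submodule.mem_span_singleton.1 c
    simp_all
  have w0 : w i = 0 := eq_of_addChar hψ fun s => by simpa using (hw (Pi.single i s)).symm.trans (c1 s)
  have w1 : w ≠ 0 := by rintro rfl; exact h1 ((hw (Pi.single j 1)).trans (by simp))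
  have := card_mul_le_of_wt (fun φ => R (t i φ)) (J := {w : ι → F // w i = 0 ∧ w ≠ 0}) (c := fun w φ => ψ (φ ⬝ᵥ w.1))
    (fun u v h => Subtype.ext (funext fun k => eq_of_addChar hψ fun s => by simpa using congrFun h (Pi.single k s)))
    (d := 1) fun u => by
      obtain ⟨g, a, b⟩ := exists_sl_pair hι (by simp) (ns w w0 w1) (by simp) (ns u u.2.1 u.2.2)
      rw [Nat.one_le_iff_ne_zero, Ne, Submodule.finrank_eq_zero]
      refine (Submodule.ne_bot_iff _).2 ⟨R g x, mem_wt.2 fun φ => ?_, fun c => x0 ?_⟩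
      · rw [← End.mul_apply, ← map_mul, t_conj i φ a, map_mul, End.mul_apply, hx, map_smul, show χ _ = _ from hw _,
          ← dotProduct_mulVec, b]
        simp [u.2.1]
      · simpa [← End.mul_apply, ← map_mul] using congrArg (R g⁻¹) c
  refine le_trans (le_of_eq ?_) (mul_one (Nat.card _) ▸ this)
  let e : {w : ι → F // w i = 0 ∧ w ≠ 0} ≃ {w : {k // k ≠ i} → F // w ≠ 0} :=
    { toFun := fun w => ⟨fun k => w.1 k, fun c => w.2.2 (funext fun k => by
        by_cases h : k = i
        · exact h ▸ w.2.1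
        · exact congrFun c ⟨k, h⟩)⟩
      invFun := fun w => ⟨fun k => if h : k = i then 0 else w.1 ⟨k, h⟩, by simp, fun c => w.2 (funext fun k => by
        simpa [k.2] using congrFun c k)⟩
      left_inv := fun w => Subtype.ext (funext fun k => by by_cases h : k = i <;> simp [h, w.2.1])
      right_inv := fun w => Subtype.ext (funext fun k => by simp [k.2]) }
  rw [Nat.card_congr e]; simp

/-- A lower bound for representations in cross characteristic: for `n ≥ 3` and a field `F` with `q` elements, every homomorphism from `SL_n(F)` to `GL_d(K)`, `K` a field of characteristic different from that of `F`, whose kernel is central has `d ≥ q^(n-1) - 1`. -/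
theorem result {F : Type*} [Field F] [Fintype F] {q : ℕ} (hq : Fintype.card F = q) (n : ℕ) (hn : 3 ≤ n)
    {K : Type*} [Field K] (hK : ringChar K ≠ ringChar F) {d : ℕ}
    (ρ : Matrix.SpecialLinearGroup (Fin n) F →* GL (Fin d) K) (hker : ρ.ker ≤ Subgroup.center (Matrix.SpecialLinearGroup (Fin n) F)) :
    q ^ (n - 1) - 1 ≤ d := by
  let L := AlgebraicClosure K
  let R : Matrix.SpecialLinearGroup (Fin n) F →* End L (Fin d → L) :=
    ((Matrix.toLinAlgEquiv' (R := L) (n := Fin d)).toMonoidHom.comp
      ((algebraMap K L).mapMatrix.toMonoidHom.comp (Units.coeHom _))).comp ρ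
  simpa [hq] using bound (by simpa) (fun h => by
      rw [← map_natCast (algebraMap K L), map_eq_zero, ringChar.spec] at h
      rcases (Nat.dvd_prime (CharP.char_is_prime F _)).1 h with h | h
      · exact CharP.ringChar_ne_one h
      · exact hK h) R fun g hg => hker (by
    have h3 : (algebraMap K L).mapMatrix (ρ g).1 = 1 :=
      (Matrix.toLinAlgEquiv' (R := L) (n := Fin d)).injective (by rw [map_one]; exact hg)
    exact Units.ext (Matrix.map_injective (algebraMap K L).injective (h3.trans (map_one (algebraMap K L).mapMatrix).symm)))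

end Cfsg.Agent.S2392
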