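import Cfsg.Statements.S2393
import Cfsg.Agent.Lib.Conj.LS

set_option autoImplicit false
open scoped MatrixGroups
open Cfsg

namespace Cfsg.Agent.S2393

open Cfsg.Lib.Conj Cfsg.Lib.Forms Cfsg.Lib.Forms.Form Module


/-- A lower bound for representations in cross characteristic: for `n ≥ 2` and a field `F` with `q` elements, `q` odd, every homomorphism from the symplectic group `Sp_{2n}(F)` to `GL_d(K)`, `K` a field of characteristic different from that of `F`, whose kernel is central has `d ≥ q^(n-1)(q-1)/2`. -/
theorem result {F : Type*} [Field F] [Fintype F] {q : ℕ} (hq : Fintype.card F = q) (hodd : Odd q) (n : ℕ) (hn : 2 ≤ n)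
    {K : Type*} [Field K] (hK : ringChar K ≠ ringChar F) {d : ℕ}
    (ρ : ↥(Matrix.symplecticGroup (Fin n) F) →* GL (Fin d) K) (hker : ρ.ker ≤ Subgroup.center ↥(Matrix.symplecticGroup (Fin n) F)) :
    q ^ (n - 1) * (q - 1) / 2 ≤ d := by
  classical
  subst hq
  have hF : (2 : F) ≠ 0 := Ring.two_ne_zero fun h => by
    have := FiniteField.even_card_iff_char_two.1 h
    rw [Nat.odd_iff] at hodd
    omega
  have hn2 : finrank F (Fin n ⊕ Fin n → F) = 2 * n := by simp [two_mul]
  let L := AlgebraicClosure K
  let R : (fSymp F n).isom →* End L (Fin d → L) :=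
    ((Matrix.toLinAlgEquiv' (R := L) (n := Fin d)).toMonoidHom.comp
      ((algebraMap K L).mapMatrix.toMonoidHom.comp (Units.coeHom _))).comp
        (ρ.comp (spEquiv F n).symm.toMonoidHom)
  have h1 := sp_bound_odd (fSymp_nondeg n) hn2 hn (fun h => by
      rw [← map_natCast (algebraMap K L), map_eq_zero, ringChar.spec] at h
      rcases (Nat.dvd_prime (CharP.char_is_prime F _)).1 h with h | h
      · exact CharP.ringChar_ne_one h
      · exact hK h) hF R fun g hg => by
    have h2 : ρ ((spEquiv F n).symm g) = 1 := by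
      have h3 : (algebraMap K L).mapMatrix (ρ ((spEquiv F n).symm g)).1 = 1 :=
        (Matrix.toLinAlgEquiv' (R := L) (n := Fin d)).injective (by rw [map_one]; exact hg)
      refine Units.ext (Matrix.map_injective (algebraMap K L).injective ?_)
      exact h3.trans (map_one (algebraMap K L).mapMatrix).symm
    refine Subgroup.mem_center_iff.2 fun k => (spEquiv F n).symm.injective ?_
    rw [map_mul, map_mul]
    exact Subgroup.mem_center_iff.1 (hker h2) _
  rw [Nat.card_eq_fintype_card, finrank_fin_fun] at h1
  refine Nat.div_le_of_le_mul (le_trans ?_ (mul_comm d _ ▸ h1))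
  obtain ⟨m, rfl⟩ : ∃ m, n = m + 1 := ⟨n - 1, by omega⟩
  rw [Nat.add_sub_cancel, Nat.mul_sub_one, ← pow_succ]
  exact Nat.sub_le_sub_left (Nat.one_le_pow _ _ Fintype.card_pos) _

end Cfsg.Agent.S2393
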