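import Cfsg.Statements.S2394
import Cfsg.Agent.Lib.Forms.Symp
import Cfsg.Agent.Lib.Small.Zsigmondy

set_option autoImplicit false
open scoped MatrixGroups
open Cfsg

namespace Cfsg.Agent.S2394


open Cfsg.Lib.Forms Cfsg.Lib

/-- The smallest degree of a faithful representation of the symplectic group `Sp_{2n}(q)` over its own field `F_q` is `2n`: every injective homomorphism from `Sp_{2n}(F)` to `GL_d(F)`, `F` the field with `q` elements, has `d ≥ 2n`. -/
theorem result {F : Type*} [Field F] [Fintype F] (n : ℕ) {d : ℕ}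
    (ρ : ↥(Matrix.symplecticGroup (Fin n) F) →* GL (Fin d) F) (hρ : Function.Injective ρ) : 2 * n ≤ d := by
  have h := Subgroup.card_dvd_of_injective ρ hρ
  have h1 := Fintype.one_lt_card (α := F)
  rw [card_symplecticGroup, Matrix.card_GL_field, Nat.card_eq_fintype_card] at h
  generalize Fintype.card F = q at h h1
  by_contra! hd
  obtain _ | n := n
  · omega
  by_cases h0 : n = 0
  · subst h0
    have h2 : 1 * 1 < q ^ 2 - 1 := by rw [lt_tsub_iff_right]; nlinarith
    have h3 : q - 1 < q * (q ^ 2 - 1) := by nlinarith [Nat.sub_le q 1]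
    obtain rfl | rfl : d = 0 ∨ d = 1 := by omega
    · simp [spOrder] at h; omega
    · exact h3.not_ge (Nat.le_of_dvd (by omega) (by simpa [spOrder] using h))
  by_cases h6 : q = 2 ∧ 2 * (n + 1) = 6
  · obtain ⟨rfl, h6⟩ := h6
    obtain rfl : n = 2 := by omega
    interval_cases d <;> revert h <;> decide
  obtain ⟨r, hr⟩ := Small.zsigmondy (n := 2 * (n + 1)) h1 (by omega) h6 (by omega)
  obtain ⟨i, -, hi⟩ := (Prime.dvd_finset_prod_iff hr.1.prime _).1 ((hr.2.1.trans
    ((Finset.dvd_prod_of_mem (fun i => q ^ (2 * (i + 1)) - 1) (Finset.self_mem_range_succ n)).mul_left _)).trans h)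
  rw [show q ^ d - q ^ i.1 = q ^ i.1 * (q ^ (d - i) - 1) by rw [Nat.mul_sub_one, ← pow_add, Nat.add_sub_cancel' i.2.le],
    hr.1.dvd_mul] at hi
  exact hi.elim (fun h => hr.not_dvd_base h1.le (by omega) (hr.1.dvd_of_dvd_pow h)) (hr.2.2 _ (by omega) (by omega))

end Cfsg.Agent.S2394
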