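import Cfsg.Statements.S2399
import Cfsg.Agent.Lib.Chev.Mult

set_option autoImplicit false
open scoped MatrixGroups
open Cfsg Cfsg.Lie Cfsg.Lib.Chev

namespace Cfsg.Agent.S2399

/-- Projective representations in the natural characteristic lift: for each of the types G₂, B₂, D₄, F₄, E₆, E₇, E₈ over any field `K` (for types B₂ and G₂ the field must have more than two elements — the cases where the Chevalley group is not simple are set aside), every homomorphism from the Chevalley group to `PGL_n(L) = GL_n(L)/Z`, `L` a field of the same characteristic as `K`, lifts uniquely to a homomorphism from the group Δ presented by (R1), (R2) to `GL_n(L)`, compatibly with the projection Δ → Chevalley group sending x̄_r(t) to x_r(t). -/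
theorem result {K : Type*} [Field K] (D : Cfsg.Lie.ChevalleyDatum) (hD : D ∈ [Cfsg.Lie.chevG2, Cfsg.Lie.chevB2, Cfsg.Lie.chevD4, Cfsg.Lie.chevF4, Cfsg.Lie.chevE6, Cfsg.Lie.chevE7, Cfsg.Lie.chevE8]) (hK : D ∈ [Cfsg.Lie.chevB2, Cfsg.Lie.chevG2] → ∃ x : K, x ≠ 0 ∧ x ≠ 1)
    (θ : D.SteinbergCover K →* ↥(D.group K))
    (hθ : ∀ (r : ℕ) (t : K), r < D.nroots → ((θ (D.scGen K r t) : GL D.Idx K) : Matrix D.Idx D.Idx K) = D.x K r t)
    {L : Type*} [Field L] (hL : ringChar L = ringChar K) {n : ℕ}
    (φ : ↥(D.group K) →* GL (Fin n) L ⧸ Subgroup.center (GL (Fin n) L)) :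
    ∃! ψ : D.SteinbergCover K →* GL (Fin n) L, (QuotientGroup.mk' (Subgroup.center (GL (Fin n) L))).comp ψ = φ.comp θ := by
  obtain ⟨R, η, hc, hm⟩ := good_of_mem hD
  have h2 : D = chevG2 ∨ D = chevB2 → ∃ a : K, a ≠ 0 ∧ a ≠ 1 := fun h => hK (by rcases h with rfl | rfl <;> simp)
  have h := CExt.of_ker_le (QuotientGroup.mk'_surjective (Subgroup.center (GL (Fin n) L))) (QuotientGroup.ker_mk' _).le
  suffices ∃ ψ : D.SteinbergCover K →* GL (Fin n) L, (QuotientGroup.mk' (Subgroup.center (GL (Fin n) L))).comp ψ = φ.comp θ from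
    this.elim fun τ hτ => ⟨τ, hτ, fun τ' hτ' => h.lift_unique
      (hc.perfect hD h2 (hc.st_of_exact hm hD hc.sc_exact) hc.sc_exact hc.sc_gen) (hτ'.trans hτ.symm)⟩
  rcases CharP.char_is_prime_or_zero K (ringChar K) with hp | hp
  · refine hc.exists_lift_char hm hD h2 hp (ringChar.Nat.cast_ringChar) h (fun c hc' e => ?_) _
    rcases Nat.eq_zero_or_pos n with rfl | hn
    · rw [Subsingleton.elim c 1]; simp
    have : Nonempty (Fin n) := ⟨⟨0, hn⟩⟩
    rw [← MonoidHom.mem_ker, QuotientGroup.ker_mk', Matrix.GeneralLinearGroup.center_eq_range_scalar] at e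
    obtain ⟨a, rfl⟩ := e
    have h1 : a ^ n = 1 := by
      simpa using Abelianization.commutator_subset_ker (Matrix.GeneralLinearGroup.det (n := Fin n) (R := L)) hc'
    refine ⟨MonoidHom.isOfFinOrder _ (isOfFinOrder_iff_pow_eq_one.2 ⟨n, hn, h1⟩), fun e => ?_⟩
    have := Fact.mk hp
    have : CharP L (ringChar K) := hL ▸ ringChar.charP L
    have e' : (a : L) ^ ringChar K = 1 := by
      rw [← map_pow] at e
      simpa [Matrix.GeneralLinearGroup.scalar, Matrix.diagonal_pow] using congrArg (fun g : GL (Fin n) L => g.val ⟨0, hn⟩ ⟨0, hn⟩) e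
    rw [show a = 1 from Units.ext (frobenius_inj L (ringChar K) (by simpa [frobenius_def] using e')), map_one]
  · have : CharP K 0 := hp ▸ ringChar.charP K
    have := CharP.charP_to_charZero K
    obtain ⟨s, hs⟩ := Infinite.exists_subset_card_eq K 5
    exact (hc.cclosed_of_large hm hD ⟨s, by omega⟩).exists_lift h _

end Cfsg.Agent.S2399
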