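import Cfsg.Statements.S2400
import Cfsg.Agent.Lib.Chev.Mult

set_option autoImplicit false
open Cfsg Cfsg.Lie Cfsg.Lib.Chev

namespace Cfsg.Agent.S2400

/-- Over a finite field `K`, the group presented by Steinberg's relators (R1)–(R3) (the universal Chevalley group) of type E₆ or E₇, or of type B₂ or D₄ with `K` of more than two elements, has trivial Schur multiplier: every finite stem extension of it is an isomorphism (Schur multiplier described through stem extensions as in the definitions). Types G₂, F₄ and E₈ are not covered here. -/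
theorem result {K : Type*} [Field K] [Fintype K] (e : Cfsg.Lie.ChevalleyDatum × ℕ)
    (he : e ∈ [(Cfsg.Lie.chevE6, 0), (Cfsg.Lie.chevE7, 0), (Cfsg.Lie.chevB2, 2), (Cfsg.Lie.chevD4, 2)]) (hK : Fintype.card K ≠ e.2) :
    Cfsg.HasCyclicSchurMultiplier (e.1.SteinbergGroup K) 1 := by
  rw [← Nat.card_eq_fintype_card] at hK
  simp only [List.mem_cons, List.not_mem_nil, or_false] at he
  rcases he with rfl | rfl | rfl | rfl
  · obtain ⟨R, η, hc, hm⟩ := good_of_mem (D := chevE6) (by simp)
    refine hc.multiplier_st hm (by simp) (fun h => ?_) (hc.cclosed_of_lifts hm fun _ _ _ h =>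
      lifts_E6 hc (hc.st_of_exact hm (by simp) hc.sc_exact) (hc.sc_sep hm) h)
    rcases h with h | h <;> exact absurd (congrArg ChevalleyDatum.rank h) (by decide)
  · obtain ⟨R, η, hc, hm⟩ := good_of_mem (D := chevE7) (by simp)
    refine hc.multiplier_st hm (by simp) (fun h => ?_) (hc.cclosed_of_lifts hm fun _ _ _ h =>
      lifts_E7 hc (hc.st_of_exact hm (by simp) hc.sc_exact) (hc.sc_sep hm) h)
    rcases h with h | h <;> exact absurd (congrArg ChevalleyDatum.rank h) (by decide)
  · obtain ⟨R, η, hc, hm⟩ := good_of_mem (D := chevB2) (by simp)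
    exact hc.multiplier_st hm (by simp) (fun _ => exists_ne_zero_one hK) (hc.cclosed_of_lifts hm fun _ _ _ h =>
      lifts_B2 hc (hc.st_of_exact hm (by simp) hc.sc_exact) (hc.sc_sep hm) hc.sc_exact h hK)
  · obtain ⟨R, η, hc, hm⟩ := good_of_mem (D := chevD4) (by simp)
    exact hc.multiplier_st hm (by simp) (fun _ => exists_ne_zero_one hK) (hc.cclosed_of_lifts hm fun _ _ _ h =>
      lifts_D4 hc (hc.st_of_exact hm (by simp) hc.sc_exact) (hc.sc_sep hm) h hK)

end Cfsg.Agent.S2400
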