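import Cfsg.Statements.S2401
import Cfsg.Agent.Lib.Linear.SteinA

set_option autoImplicit false
open Cfsg

namespace Cfsg.Agent.S2401

open Cfsg.Lib.Linear in
open scoped commutatorElement in
theorem aux {K : Type*} [Field K] [Finite K] {m : ℕ} (hm : 2 ≤ m) (rels : Set (FreeGroup (PhiA m × K)))
    (h1 : ∀ a t u, FreeGroup.of (a, t) * FreeGroup.of (a, u) * (FreeGroup.of (a, t + u))⁻¹ ∈ rels)
    (h2 : ∀ (a b : PhiA m) t u, a.1.1 ≠ b.1.2 → a.1.2 ≠ b.1.1 →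
      FreeGroup.of (a, t) * FreeGroup.of (b, u) * (FreeGroup.of (a, t))⁻¹ * (FreeGroup.of (b, u))⁻¹ ∈ rels)
    (h3 : ∀ (a b : PhiA m) (h : a.1.1 ≠ b.1.2) t u, a.1.2 = b.1.1 →
      FreeGroup.of (a, t) * FreeGroup.of (b, u) * (FreeGroup.of (a, t))⁻¹ * (FreeGroup.of (b, u))⁻¹ *
        (FreeGroup.of (⟨(a.1.1, b.1.2), h⟩, t * u))⁻¹ ∈ rels)
    (h : ∀ r ∈ rels, FreeGroup.lift (fun p : PhiA m × K => (sysA m K).x p.1 p.2) r = 1) :
    ∃ e : PresentedGroup rels ≃* Matrix.SpecialLinearGroup (Fin (m + 1)) K,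
      ∀ a t, (e (PresentedGroup.of (a, t)) : Matrix _ _ K) = Matrix.transvection a.1.1 a.1.2 t := by
  obtain ⟨φ, hφ⟩ := exists_hom_of_relA (G := PresentedGroup rels) hm (fun a t => PresentedGroup.of (a, t))
    (fun a t u => (mul_inv_eq_one.1 (PresentedGroup.one_of_mem (h1 a t u))).symm)
    (fun a b t u e e' => PresentedGroup.one_of_mem (h2 a b t u e e'))
    fun a b e t u e' => mul_inv_eq_one.1 (PresentedGroup.one_of_mem (h3 a b e t u e'))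
  refine ⟨MonoidHom.toMulEquiv (PresentedGroup.toGroup h) φ (PresentedGroup.ext fun ⟨a, t⟩ => ?_)
    (Cfsg.Lib.Chev.PreSys.hom_ext sysA_gen fun a t => ?_), fun a t => ?_⟩
  · simpa [sysA_x] using hφ a t
  · rw [MonoidHom.comp_apply, sysA_x, hφ]; simp [sysA_x]
  · simp [sysA_x]; rfl

/-- The Steinberg presentation of `SL_n` over a finite field for `n ≥ 3`: the group generated by symbols `x_ij(t)` (`i ≠ j`, `t` in the field) subject to `x_ij(t) x_ij(u) = x_ij(t + u)` and, for `i ≠ l`, `x_ij(t) x_kl(u) x_ij(t)⁻¹ x_kl(u)⁻¹ = x_il(tu)` if `j = k` and `= 1` if `j ≠ k`, is isomorphic to `SL_n` by an isomorphism sending `x_ij(t)` to the elementary matrix `1 + t E_ij`. -/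
theorem result {K : Type*} [Field K] [Finite K] (n : ℕ) (hn : 3 ≤ n) :
    ∃ e : PresentedGroup
        ({g : FreeGroup ({ij : Fin n × Fin n // ij.1 ≠ ij.2} × K) | ∃ (a : {ij : Fin n × Fin n // ij.1 ≠ ij.2}) (t u : K),
            g = FreeGroup.of (a, t) * FreeGroup.of (a, u) * (FreeGroup.of (a, t + u))⁻¹} ∪
          {g | ∃ (a b : {ij : Fin n × Fin n // ij.1 ≠ ij.2}) (t u : K), a.1.1 ≠ b.1.2 ∧ a.1.2 ≠ b.1.1 ∧
            g = FreeGroup.of (a, t) * FreeGroup.of (b, u) * (FreeGroup.of (a, t))⁻¹ * (FreeGroup.of (b, u))⁻¹} ∪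
          {g | ∃ (a b : {ij : Fin n × Fin n // ij.1 ≠ ij.2}) (h : a.1.1 ≠ b.1.2) (t u : K), a.1.2 = b.1.1 ∧
            g = FreeGroup.of (a, t) * FreeGroup.of (b, u) * (FreeGroup.of (a, t))⁻¹ * (FreeGroup.of (b, u))⁻¹ *
              (FreeGroup.of (⟨(a.1.1, b.1.2), h⟩, t * u))⁻¹}) ≃* Matrix.SpecialLinearGroup (Fin n) K,
      ∀ (a : {ij : Fin n × Fin n // ij.1 ≠ ij.2}) (t : K), ((e (PresentedGroup.of (a, t)) : Matrix (Fin n) (Fin n) K)) = Matrix.transvection a.1.1 a.1.2 t := by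
  obtain ⟨m, rfl⟩ : ∃ m, n = m + 1 := ⟨n - 1, by omega⟩
  refine aux (by omega) _ (fun a t u => Or.inl (Or.inl ⟨a, t, u, rfl⟩))
    (fun a b t u e e' => Or.inl (Or.inr ⟨a, b, t, u, e, e', rfl⟩)) (fun a b h t u e => Or.inr ⟨a, b, h, t, u, e, rfl⟩) ?_
  rintro _ ((⟨a, t, u, rfl⟩ | ⟨a, b, t, u, e, e', rfl⟩) | ⟨a, b, h, t, u, e, rfl⟩) <;>
    simp only [map_mul, map_inv, FreeGroup.lift_apply_of]
  · rw [Cfsg.Lib.Chev.PreSys.x_add, mul_inv_cancel]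
  · exact Cfsg.Lib.Linear.sysA_rel2 a b t u e e'
  · exact mul_inv_eq_one.2 (Cfsg.Lib.Linear.sysA_rel3 a b h t u e)

end Cfsg.Agent.S2401
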