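import Cfsg.Statements.S2405
import Cfsg.Agent.Lib.Pres.TwoChev

set_option autoImplicit false
open Cfsg Cfsg.Lib.Forms Cfsg.Lib.Pres

namespace Cfsg.Agent.S2405

open Cfsg.Lib.Chev

/-- Each Chevalley group of type G₂, B₂, D₄, F₄, E₆, E₇ or E₈ over a finite field is generated by two of its elements (types B₂ and G₂ over the field with two elements, where the group is not simple, excepted). -/
theorem result {F : Type*} [Field F] [Finite F] (D : Cfsg.Lie.ChevalleyDatum) (hD : D ∈ [Cfsg.Lie.chevG2, Cfsg.Lie.chevB2, Cfsg.Lie.chevD4, Cfsg.Lie.chevF4, Cfsg.Lie.chevE6, Cfsg.Lie.chevE7, Cfsg.Lie.chevE8])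
    (hF : D ∈ [Cfsg.Lie.chevB2, Cfsg.Lie.chevG2] → ∃ x : F, x ≠ 0 ∧ x ≠ 1) :
    ∃ a b : ↥(D.group F), Subgroup.closure ({a, b} : Set ↥(D.group F)) = ⊤ := by
  obtain ⟨R, η, hc, hm⟩ := good_of_mem hD
  have hS := hc.gst hm (F := F)
  have hE := hc.gexact hm (F := F)
  have hM := hc.gmult hm (F := F)
  have hG := hc.ggen hm (F := F)
  suffices h : TwoG (⊤ : Subgroup (D.group F)) from let ⟨a, _, b, _, e⟩ := h; ⟨a, b, top_unique e⟩
  have h3 : (∃ a : F, a ≠ 0 ∧ a ≠ 1) → (∃ a : F, a ≠ 0 ∧ a ^ 2 ≠ 1) ∨ (-1 : F) ≠ 1 ∧ ∀ t : F, t = 0 ∨ t ^ 2 = 1 :=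
    fun ⟨a, a0, a1⟩ => or_iff_not_imp_left.2 fun e => by
      have e' : ∀ t : F, t = 0 ∨ t ^ 2 = 1 := fun t => or_iff_not_imp_left.2 fun h => by_contra fun h' => e ⟨t, h, h'⟩
      exact ⟨fun h => a1 ((sq_eq_one_iff.1 ((e' a).resolve_left a0)).elim id (·.trans h)), e'⟩
  simp only [List.mem_cons, List.not_mem_nil, or_false] at hD hF
  rcases hD with rfl | rfl | rfl | rfl | rfl | rfl | rfl
  · rcases h3 (hF (.inr rfl)) with h | h
    · exact two_A hc hS hE hM hG (hF (.inr rfl)) true (fun _ => h) ⟨6, by decide⟩ ⟨5, by decide⟩ ⟨2, by decide⟩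
        [(10, 5, 12), (3, 2, 12), (11, 10, 12), (7, 3, 12), (6, 11, 12), (9, 7, 12), (8, 9, 12), (4, 8, 12)] (by decide +kernel)
    · exact two_G2 hc hS hE hM hG h.1 h.2 ⟨10, by decide⟩ ⟨0, by decide⟩ ⟨9, by decide⟩
        [(5, 0, 12), (10, 5, 12), (11, 10, 12), (6, 11, 12), (1, 0, 6)]
        [(5, 0, 12), (8, 9, 12), (10, 5, 12), (4, 8, 12), (11, 10, 12), (2, 4, 12), (6, 11, 12), (3, 2, 12), (7, 3, 12)]
        (by decide +kernel)
  · rcases h3 (hF (.inl rfl)) with h | h
    · exact two_A hc hS hE hM hG (hF (.inl rfl)) true (fun _ => h) ⟨4, by decide⟩ ⟨2, by decide⟩ ⟨0, by decide⟩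
        [(1, 2, 8), (3, 0, 8), (5, 1, 8), (7, 3, 8), (4, 7, 8)] (by decide +kernel)
    · exact two_B2 hc hS hE hM hG (fun e => h.1 (by linear_combination -e)) ⟨0, by decide⟩ ⟨2, by decide⟩
        [(1, 2, 8), (5, 1, 8), (6, 5, 8), (4, 2, 6), (3, 1, 5)] (by decide +kernel)
  · rcases Lib.Pres.field_cases F with h | h
    · exact two_A hc hS hE hM hG h false (by simp) ⟨18, by decide⟩ ⟨1, by decide⟩ ⟨11, by decide⟩
        [(18, 1, 24), (20, 11, 24), (14, 18, 24), (16, 20, 24), (22, 14, 24), (12, 16, 24), (5, 22, 24), (9, 5, 24),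
        (10, 1, 20), (13, 16, 9)] (by decide +kernel)
    · exact two_Q hc hS hE hG h ⟨18, by decide⟩ ⟨11, by decide⟩
        [(14, 18, 24), (22, 14, 24), (5, 22, 24), (9, 5, 24), (1, 9, 24), (21, 22, 11), (16, 5, 21), (8, 9, 11),
        (13, 9, 16), (11, 1, 21), (12, 16, 24), (10, 8, 24)] (by decide +kernel)
  · rcases Lib.Pres.field_cases F with h | h
    · exact two_A hc hS hE hM hG h false (by simp) ⟨24, by decide⟩ ⟨28, by decide⟩ ⟨43, by decide⟩
        [(36, 28, 48), (31, 43, 48), (14, 36, 48), (25, 31, 48), (20, 14, 48), (24, 25, 48), (12, 20, 48), (5, 24, 48),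
        (9, 12, 48), (17, 5, 48), (19, 9, 48), (4, 17, 48), (11, 19, 48), (16, 4, 48), (33, 11, 48), (22, 16, 48),
        (27, 33, 48), (23, 22, 48)] (by decide +kernel)
    · exact two_Q hc hS hE hG h ⟨19, by decide⟩ ⟨6, by decide⟩
        [(11, 19, 48), (33, 11, 48), (27, 33, 48), (35, 27, 48), (38, 35, 48), (28, 38, 48), (36, 28, 48),
        (14, 36, 48), (20, 14, 48), (12, 20, 48), (13, 14, 20), (10, 20, 12), (17, 33, 6), (22, 27, 17), (25, 35, 6),
        (23, 22, 48), (24, 25, 48)] (by decide +kernel)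
  · rcases Lib.Pres.field_cases F with h | h
    · exact two_A hc hS hE hM hG h false (by simp) ⟨36, by decide⟩ ⟨11, by decide⟩ ⟨28, by decide⟩
        [(56, 11, 72), (23, 28, 72), (42, 56, 72), (47, 42, 72), (59, 47, 72), (52, 59, 72), (39, 52, 72),
        (37, 39, 72), (36, 37, 72), (8, 36, 72), (35, 11, 59), (29, 28, 39), (32, 28, 42), (24, 23, 37), (34, 23, 47),
        (46, 47, 32), (15, 52, 8), (25, 39, 24)] (by decide +kernel)
    · exact two_Q hc hS hE hG h ⟨8, by decide⟩ ⟨23, by decide⟩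
        [(28, 8, 72), (23, 28, 72), (11, 23, 72), (56, 11, 72), (42, 56, 72), (47, 42, 72), (59, 47, 72), (52, 59, 72),
        (39, 52, 72), (37, 39, 72), (36, 37, 72), (9, 8, 36), (15, 8, 52), (29, 28, 39), (32, 28, 42), (34, 23, 47),
        (35, 11, 59), (46, 47, 32), (25, 59, 9)] (by decide +kernel)
  · rcases Lib.Pres.field_cases F with h | h
    · exact two_A hc hS hE hM hG h false (by simp) ⟨78, by decide⟩ ⟨3, by decide⟩ ⟨94, by decide⟩
        [(8, 3, 126), (83, 94, 126), (34, 8, 126), (103, 83, 126), (54, 34, 126), (112, 103, 126), (57, 54, 126),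
        (121, 112, 126), (100, 57, 126), (116, 121, 126), (110, 100, 126), (90, 116, 126), (120, 110, 126),
        (108, 90, 126), (115, 120, 126), (122, 115, 126), (117, 122, 126), (91, 117, 126), (71, 91, 126),
        (68, 71, 126), (25, 68, 126), (15, 25, 126), (5, 15, 126), (10, 5, 126), (6, 3, 68), (59, 3, 121), (0, 8, 25),
        (61, 8, 116), (78, 8, 121), (19, 83, 6), (38, 34, 68), (62, 34, 90), (11, 103, 0), (69, 103, 25),
        (93, 103, 38), (56, 112, 10), (66, 112, 15), (73, 112, 19), (64, 121, 5), (47, 116, 5), (63, 116, 10),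
        (32, 90, 19), (52, 108, 11)] (by decide +kernel)
    · exact two_Q hc hS hE hG h ⟨55, by decide⟩ ⟨25, by decide⟩
        [(58, 55, 126), (60, 58, 126), (101, 60, 126), (111, 101, 126), (87, 111, 126), (106, 87, 126),
        (114, 106, 126), (89, 114, 126), (70, 89, 126), (67, 70, 126), (65, 67, 126), (24, 65, 126), (14, 24, 126),
        (38, 14, 126), (19, 38, 126), (11, 19, 126), (36, 11, 126), (9, 55, 14), (35, 58, 38), (17, 60, 19),
        (23, 60, 25), (62, 101, 23), (64, 101, 25), (74, 111, 23), (27, 87, 9), (93, 106, 35), (115, 106, 74),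
        (73, 114, 17), (76, 114, 23), (85, 114, 27), (105, 89, 93), (117, 65, 115), (32, 24, 85), (52, 14, 105),
        (97, 38, 115), (39, 11, 97), (69, 11, 117), (43, 36, 74), (63, 64, 126), (82, 76, 126), (56, 39, 126),
        (66, 69, 126), (78, 43, 126), (47, 82, 126), (59, 56, 126), (61, 59, 126)] (by decide +kernel)
  · rcases Lib.Pres.field_cases F with h | h
    · exact two_A hc hS hE hM hG h false (by simp) ⟨135, by decide⟩ ⟨16, by decide⟩ ⟨71, by decide⟩
        [(22, 16, 240), (162, 71, 240), (37, 22, 240), (135, 162, 240), (79, 37, 240), (142, 135, 240), (106, 79, 240),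
        (165, 142, 240), (110, 106, 240), (149, 165, 240), (170, 110, 240), (176, 149, 240), (185, 170, 240),
        (190, 176, 240), (205, 185, 240), (153, 190, 240), (227, 205, 240), (179, 153, 240), (219, 227, 240),
        (192, 179, 240), (233, 219, 240), (154, 192, 240), (232, 233, 240), (180, 154, 240), (225, 232, 240),
        (138, 180, 240), (231, 225, 240), (145, 138, 240), (223, 231, 240), (168, 145, 240), (217, 223, 240),
        (77, 168, 240), (202, 217, 240), (104, 77, 240), (160, 202, 240), (97, 104, 240), (133, 160, 240),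
        (74, 97, 240), (129, 133, 240), (90, 74, 240), (69, 129, 240), (54, 69, 240), (50, 16, 160), (62, 71, 97),
        (75, 71, 129), (91, 162, 69), (103, 162, 75), (64, 135, 54), (96, 135, 91), (109, 135, 103), (73, 142, 64),
        (113, 142, 96), (141, 142, 109), (89, 165, 50), (98, 165, 69), (116, 165, 73), (126, 165, 75), (118, 149, 89),
        (123, 149, 91), (119, 176, 62), (121, 176, 64), (120, 190, 50), (130, 153, 90)] (by decide +kernel)
    · exact two_Q hc hS hE hG h ⟨88, by decide⟩ ⟨70, by decide⟩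
        [(109, 88, 240), (113, 109, 240), (116, 113, 240), (118, 116, 240), (119, 118, 240), (173, 119, 240),
        (136, 173, 240), (143, 136, 240), (166, 143, 240), (150, 166, 240), (177, 150, 240), (137, 177, 240),
        (144, 137, 240), (167, 144, 240), (151, 167, 240), (130, 151, 240), (126, 130, 240), (123, 126, 240),
        (121, 123, 240), (120, 121, 240), (66, 120, 240), (103, 66, 240), (96, 103, 240), (73, 96, 240), (89, 73, 240),
        (62, 89, 240), (102, 62, 240), (95, 102, 240), (72, 95, 240), (162, 88, 173), (135, 109, 136), (69, 113, 70),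
        (68, 116, 69), (67, 118, 68), (71, 119, 72), (141, 173, 71), (98, 166, 68), (77, 150, 67), (104, 130, 103)] (by decide +kernel)

end Cfsg.Agent.S2405
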