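import Cfsg.Statements.S2410
import Cfsg.Agent.Lib.BN.SzCount

set_option autoImplicit false
open Cfsg

namespace Cfsg.Agent.S2410

open Cfsg.Lib.BN.Sz Cfsg.Lib.BN


/-- The Suzuki group over the field with `2^(2m+1)` elements, `m ≥ 1` (realised as the stabiliser in `SL₄` of the Suzuki–Tits ovoid), is generated by two of its elements. -/
theorem result {F : Type*} [Field F] [Fintype F] {m : ℕ} (hm : 1 ≤ m) (hF : Fintype.card F = 2 ^ (2 * m + 1)) :
    ∃ a b : ↥(Cfsg.Sz F m), Subgroup.closure ({a, b} : Set ↥(Cfsg.Sz F m)) = ⊤ := by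
  have := szField_of_card hm hF
  obtain ⟨T₁, T₂, h1, h2, c1, c2, -⟩ := exists_tori F m
  obtain ⟨⟨a, ha⟩, ha'⟩ := h1.isCyclic.exists_generator
  obtain ⟨b, hb, hb1⟩ := h2.exists_ne_one
  have hoa : orderOf a = 2 ^ (2 * m + 1) + 2 ^ (m + 1) + 1 := by
    rw [← c1, ← orderOf_eq_card_of_forall_mem_zpowers ha']
    exact (Subgroup.orderOf_mk _ _).symm
  have ha1 : a ≠ 1 := by
    rintro rfl
    rw [orderOf_one] at hoa
    have : 0 < 2 ^ (m + 1) := by positivity
    omega
  refine ⟨a, b, ?_⟩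
  have hMa : a ∈ Subgroup.closure ({a, b} : Set ↥(Cfsg.Sz F m)) := Subgroup.subset_closure (by simp)
  have hMb : b ∈ Subgroup.closure ({a, b} : Set ↥(Cfsg.Sz F m)) := Subgroup.subset_closure (by simp)
  have ha4 := h1.isOddPart.pow_four_ne_one ha ha1
  rcases subgroup_cases (Subgroup.closure ({a, b} : Set ↥(Cfsg.Sz F m))) with ⟨x, h⟩ | ⟨T, hT, h⟩ | ⟨R, k, hk, x, h⟩
  · exact absurd (h1.fpf ha ha1) (not_fpf_of_conj_mem_B m (mem_map_conj.1 (h hMa)))
  · have e1 := hT.eq_of_mem h1.isOddPart (hT.mem_of_pow_four_ne_one (h hMa) ha4) ha ha1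
    have e2 := hT.eq_of_mem h2.isOddPart
      (hT.mem_of_pow_four_ne_one (h hMb) (h2.isOddPart.pow_four_ne_one hb hb1)) hb hb1
    rw [← e1, e2, c2] at c1
    have : 0 < 2 ^ (m + 1) := by positivity
    omega
  · have hd := Nat.le_of_dvd (by omega) (dvd_of_ringHom m k R.subtype)
    rw [h, mem_map_conj] at hMa
    obtain ⟨a', e⟩ := hMa
    have ho : orderOf a' = orderOf a := by
      rw [← orderOf_injective _ (szMap_injective m k R.subtype), e]
      have := (MulAut.conj x⁻¹).orderOf_eq a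
      simpa using this
    have h4 : a' ^ 4 ≠ 1 := fun h4 => ha4 (by
      rw [← orderOf_dvd_iff_pow_eq_one] at h4 ⊢
      rwa [← ho])
    have hle : orderOf a' ≤ Nat.card (Subgroup.centralizer {a'}) :=
      Nat.le_of_dvd Nat.card_pos (Subgroup.orderOf_dvd_natCard _ (by simp [Subgroup.mem_centralizer_iff]))
    have hkm : k = m := by
      by_contra hne
      have e1 : 2 ^ (2 * k + 1) < 2 ^ (2 * m + 1) := Nat.pow_lt_pow_right (by norm_num) (by omega)
      have e2 : 2 ^ (k + 1) < 2 ^ (m + 1) := Nat.pow_lt_pow_right (by norm_num) (by omega)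
      rw [ho, hoa] at hle
      have e4 := card_centralizer h4
      generalize 2 ^ (2 * k + 1) = A at *
      generalize 2 ^ (2 * m + 1) = A' at *
      generalize 2 ^ (k + 1) = C at *
      generalize 2 ^ (m + 1) = C' at *
      omega
    subst hkm
    rw [← Subgroup.card_eq_iff_eq_top, h, card_map_conj, card_range_szMap, card_Sz]

end Cfsg.Agent.S2410
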