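import Cfsg.Statements.S2414
import Cfsg.Agent.Lib.Pres.TwoBCD

set_option autoImplicit false
open Cfsg Cfsg.Lib.Forms Cfsg.Lib.Pres

namespace Cfsg.Agent.S2414

/-- The simple orthogonal group `PΩ⁺_{2m}(q)` (commutator subgroup of the orthogonal group of `Σ x_i y_i` modulo its centre) with `m ≥ 4` is generated by two of its elements. -/
theorem result {F : Type*} [Field F] [Fintype F] (m : ℕ) (hm : 4 ≤ m) :
    ∃ a b : Cfsg.POmega F (Cfsg.quadFormPlus m F), Subgroup.closure ({a, b} : Set (Cfsg.POmega F (Cfsg.quadFormPlus m F))) = ⊤ := by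
  obtain ⟨n, rfl⟩ : ∃ n, m = n + 2 := ⟨m - 2, by omega⟩
  exact (two_D (Lib.Linear.frameD F (n + 2)) (Lib.Linear.stdE (n + 1) False) id (fun o => (Lib.Linear.wtE _ True).lg_ne trivial o)
    (by omega)).quot ((fPlus_nondeg _).commutator_eq_E (Form.good_of_finrank (by simp; omega)) (by simp; omega))
    (pOmegaIso _ fPlus_Q)

end Cfsg.Agent.S2414
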