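import Cfsg.Statements.S2416
import Cfsg.Agent.Lib.Chev.WC
import Cfsg.Agent.Lib.Chev.AutD
import Cfsg.Agent.Lib.Twist.RootAll

set_option autoImplicit false
open scoped MatrixGroups
open Cfsg Cfsg.Lie Cfsg.Lib.Chev Cfsg.Lib.Twist

namespace Cfsg.Agent.S2416

set_option synthInstance.maxSize 4000
set_option synthInstance.maxHeartbeats 400000

theorem aux {D : ChevalleyDatum} {t : RTab} (h : RootOK D t) {η : ℕ → ℕ → ℤ} (hm : MatOK D η) {K : Type*} [Field K]
    (hR : h.R.Conn) (i : Fin D.rank) (r s k : ℕ) (C : ℤ) (hC : (C : K) ≠ 0)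
    (d : ∀ j < D.rank, lk t.L (D.simple i) = lk t.L (D.simple j) ∨ (r < D.nroots ∧ s < D.nroots ∧ k < D.nroots) ∧
      s ≠ r ∧ s ≠ D.neg r ∧ D.commTerms r s = [(k, C, 1, 1)] ∧
      lk t.L (D.simple i) = lk t.L r ∧ lk t.L (D.simple i) = lk t.L s ∧ lk t.L k = lk t.L (D.simple j)) :
    D.group K ≤ D.monomialSubgroup K ⊔ D.rootSubgroup K (D.simple i) := by
  have hc := h.compat
  simp only [← hc.simple_eq i, ← h.R_len] at d
  rw [hc.group_eq hm, hc.monomialSubgroup_eq hm, ← hc.simple_eq, hc.rootSubgroup_eq hm]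
  have h2 : ∀ b, h.R.len (h.R.simple i) = h.R.len b → ∀ u, (hc.sys hm K).x b u ∈ (hc.sys hm K).N ⊔ (hc.sys hm K).U {h.R.simple i} :=
    fun b e => (hc.st hm).x_mem_of_len hR le_sup_left e fun u => Subgroup.mem_sup_right (PreSys.x_mem_U _ (Set.mem_singleton _) u)
  refine (hc.st hm).univ_le_of_simple (fun j => Subgroup.mem_sup_left (PreSys.n_mem_N _ _ one_ne_zero)) fun j => ?_
  rcases d j j.2 with e | ⟨⟨a, b, c⟩, e1, e2, e3, e4, e5, e6⟩
  · exact h2 _ (by rwa [h.R_len (h.R.simple j), hc.simple_eq])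
  · have h3 := h2 ⟨r, a⟩ e4
    have h4 := h2 ⟨s, b⟩ e5
    exact (hc.st hm).x_mem_of_len hR le_sup_left (a := ⟨k, c⟩) (by rwa [h.R_len (h.R.simple j), hc.simple_eq])
      ((hc.exact hm).mem_of_terms (r := ⟨r, a⟩) (s := ⟨s, b⟩) (fun h => e1 (congrArg Fin.val h)) (hc.ne_neg_of_val e2)
      (fun _ _ => mul_mem (mul_mem (mul_mem (h4 _) (h3 _)) (inv_mem (h4 _))) (inv_mem (h3 _))) (l₁ := []) (l₂ := []) (i := 1)
      (hc.termsF_eq (by simp [e3])) hC (by simp))

/-- A Chevalley group of type G₂, B₂, D₄, F₄, E₆, E₇ or E₈ over a finite field lies in (indeed equals) the subgroup generated by its monomial subgroup `N` and a single fundamental root subgroup `X_p`, where `p` is a short fundamental root if there are two root lengths (any fundamental root otherwise), provided the characteristic is not 2 for types B₂, F₄ and not 3 for type G₂ (and the field has more than two elements for B₂, G₂). -/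
theorem result {K : Type*} [Field K] [Finite K] (D : Cfsg.Lie.ChevalleyDatum) (hD : D ∈ [Cfsg.Lie.chevG2, Cfsg.Lie.chevB2, Cfsg.Lie.chevD4, Cfsg.Lie.chevF4, Cfsg.Lie.chevE6, Cfsg.Lie.chevE7, Cfsg.Lie.chevE8])
    (hK : D ∈ [Cfsg.Lie.chevB2, Cfsg.Lie.chevG2] → ∃ x : K, x ≠ 0 ∧ x ≠ 1)
    (h2 : D ∈ [Cfsg.Lie.chevB2, Cfsg.Lie.chevF4] → ringChar K ≠ 2) (h3 : D = Cfsg.Lie.chevG2 → ringChar K ≠ 3)
    (i : ℕ) (hi : i < D.rank) (hshort : D.isLong (D.simple i) = false) :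
    D.group K ≤ D.monomialSubgroup K ⊔ D.rootSubgroup K (D.simple i) := by
  have k : ∀ p : ℕ, p.Prime → ringChar K ≠ p → ((p : ℤ) : K) ≠ 0 := fun p hp h e =>
    h (CharP.ringChar_of_prime_eq_zero hp (by exact_mod_cast e))
  have hR := fun t (h : RootOK D t) => h.compat.conn hD
  simp only [List.mem_cons, List.not_mem_nil, or_false] at hD
  rcases hD with rfl | rfl | rfl | rfl | rfl | rfl | rfl
  · exact aux rootOK_G2 matOK_G2 (hR _ _) ⟨i, hi⟩ 7 9 10 3 (k 3 Nat.prime_three (h3 rfl)) (by dsimp only; revert i; decide +kernel)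
  · exact aux rootOK_B2 matOK_B2 (hR _ _) ⟨i, hi⟩ 5 6 7 2 (k 2 Nat.prime_two (h2 (by simp))) (by dsimp only; revert i; decide +kernel)
  · exact aux rootOK_D4 matOK_D4 (hR _ _) ⟨i, hi⟩ 0 0 0 1 (by simp) (by dsimp only; revert i; decide +kernel)
  · exact aux rootOK_F4 matOK_F4 (hR _ _) ⟨i, hi⟩ 27 28 30 2 (k 2 Nat.prime_two (h2 (by simp))) (by dsimp only; revert i; decide +kernel)
  · exact aux rootOK_E6 matOK_E6 (hR _ _) ⟨i, hi⟩ 0 0 0 1 (by simp) (by dsimp only; clear hshort; revert i; decide +kernel)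
  · exact aux rootOK_E7 matOK_E7 (hR _ _) ⟨i, hi⟩ 0 0 0 1 (by simp) (by dsimp only; clear hshort; revert i; decide +kernel)
  · exact aux rootOK_E8 matOK_E8 (hR _ _) ⟨i, hi⟩ 0 0 0 1 (by simp) (by dsimp only; clear hshort; revert i; decide +kernel)

end Cfsg.Agent.S2416
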