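import Cfsg.Statements.S2417
import Cfsg.Agent.Lib.Chev.WC
import Cfsg.Agent.Lib.Chev.AutD
import Cfsg.Agent.Lib.Twist.RootAll

set_option autoImplicit false
open scoped MatrixGroups
open Cfsg Cfsg.Lie Cfsg.Lib.Chev Cfsg.Lib.Twist

namespace Cfsg.Agent.S2417

set_option synthInstance.maxSize 4000
set_option synthInstance.maxHeartbeats 400000

theorem aux {D : ChevalleyDatum} {t : RTab} (h : RootOK D t) {η : ℕ → ℕ → ℤ} (hm : MatOK D η) {K : Type*} [Field K]
    (hR : h.R.Conn) (i j : Fin D.rank)
    (d : ∀ k < D.rank, lk t.L (D.simple i) = lk t.L (D.simple k) ∨ lk t.L (D.simple j) = lk t.L (D.simple k)) :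
    D.group K ≤ D.monomialSubgroup K ⊔ D.rootSubgroup K (D.simple i) ⊔ D.rootSubgroup K (D.simple j) := by
  have hc := h.compat
  rw [hc.group_eq hm, hc.monomialSubgroup_eq hm, ← hc.simple_eq, ← hc.simple_eq, hc.rootSubgroup_eq hm, hc.rootSubgroup_eq hm]
  refine (hc.st hm).univ_le_of_simple (fun j => Subgroup.mem_sup_left (Subgroup.mem_sup_left
    (PreSys.n_mem_N _ _ one_ne_zero))) fun k => ?_
  have := d k k.2
  simp only [← hc.simple_eq, ← h.R_len] at this
  rcases this with e | e
  · exact (hc.st hm).x_mem_of_len hR (le_sup_left.trans le_sup_left) e fun u =>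
      Subgroup.mem_sup_left (Subgroup.mem_sup_right (PreSys.x_mem_U _ (Set.mem_singleton _) u))
  · exact (hc.st hm).x_mem_of_len hR (le_sup_left.trans le_sup_left) e fun u =>
      Subgroup.mem_sup_right (PreSys.x_mem_U _ (Set.mem_singleton _) u)

/-- In the characteristics with an exceptional graph symmetry — type B₂ or F₄ in characteristic 2 (field of more than two elements for B₂) and type G₂ in characteristic 3 — the Chevalley group lies in the subgroup generated by its monomial subgroup `N` and the two fundamental root subgroups `X_a`, `X_b` of a short root `a` and a long root `b` joined in the Dynkin diagram. -/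
theorem result {K : Type*} [Field K] [Finite K] (e : Cfsg.Lie.ChevalleyDatum × ℕ)
    (he : e ∈ [(Cfsg.Lie.chevB2, 2), (Cfsg.Lie.chevF4, 2), (Cfsg.Lie.chevG2, 3)]) [CharP K e.2]
    (hK : e.1 = Cfsg.Lie.chevB2 → ∃ x : K, x ≠ 0 ∧ x ≠ 1)
    (i j : ℕ) (hi : i < e.1.rank) (hj : j < e.1.rank) (hshort : e.1.isLong (e.1.simple i) = false)
    (hlong : e.1.isLong (e.1.simple j) = true) (hbond : e.1.bonds i j ≠ 0) :
    e.1.group K ≤ e.1.monomialSubgroup K ⊔ e.1.rootSubgroup K (e.1.simple i) ⊔ e.1.rootSubgroup K (e.1.simple j) := by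
  simp only [List.mem_cons, List.not_mem_nil, or_false] at he
  clear hbond
  rcases he with rfl | rfl | rfl
  · exact aux rootOK_B2 matOK_B2 (rootOK_B2.compat.conn (by simp)) ⟨i, hi⟩ ⟨j, hj⟩ (by
      dsimp only; revert i; revert j; simp only [forall_comm (α := _ = true), forall_comm (β := _ < _)]; decide +kernel)
  · exact aux rootOK_F4 matOK_F4 (rootOK_F4.compat.conn (by simp)) ⟨i, hi⟩ ⟨j, hj⟩ (by
      dsimp only; revert i; revert j; simp only [forall_comm (α := _ = true), forall_comm (β := _ < _)]; decide +kernel)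
  · exact aux rootOK_G2 matOK_G2 (rootOK_G2.compat.conn (by simp)) ⟨i, hi⟩ ⟨j, hj⟩ (by
      dsimp only; revert i; revert j; simp only [forall_comm (α := _ = true), forall_comm (β := _ < _)]; decide +kernel)

end Cfsg.Agent.S2417
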