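import Cfsg.Statements.S2418
import Cfsg.Agent.Lib.Pres.Cox

set_option autoImplicit false
open Cfsg Cfsg.Lib.Pres

namespace Cfsg.Agent.S2418

open Cfsg.Lib.Twist

/-- For the Coxeter groups of types B₂, G₂, D₄, F₄, E₇, E₈ the centre has order 2 (the element acting as −1 on the root system) and is generated by a power of the Coxeter element `s₁ s₂ ⋯ s_l`; the Coxeter group of type E₆ has trivial centre. -/
theorem result (c : (Σ n : ℕ, CoxeterMatrix (Fin n)) × ℕ)
    (hc : c ∈ [(⟨2, CoxeterMatrix.B 2⟩, 2), (⟨2, CoxeterMatrix.G₂⟩, 2), (⟨4, Cfsg.Lie.coxeterD4⟩, 2), (⟨4, CoxeterMatrix.F₄⟩, 2),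
      (⟨6, CoxeterMatrix.E₆⟩, 1), (⟨7, CoxeterMatrix.E₇⟩, 2), (⟨8, CoxeterMatrix.E₈⟩, 2)]) :
    Nat.card (Subgroup.center c.1.2.Group) = c.2 ∧
      Subgroup.center c.1.2.Group ≤ Subgroup.zpowers ((List.finRange c.1.1).map c.1.2.simple).prod := by
  simp only [List.mem_cons, List.not_mem_nil, or_false] at hc
  rcases hc with rfl | rfl | rfl | rfl | rfl | rfl | rfl
  · exact center_two (n := 2) (isCoxOf_B2 compat_B2) (A_B2 compat_B2) (compat_B2.conn (by simp)) _ 2 (by decide +kernel)
      (by decide +kernel) (by decide +kernel)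
  · exact center_two (n := 2) (isCoxOf_G2 compat_G2) (A_G2 compat_G2) (compat_G2.conn (by simp)) _ 3 (by decide +kernel)
      (by decide +kernel) (by decide +kernel)
  · exact center_two (n := 4) (isCoxOf_D4 compat_D4) (A_D4 compat_D4) (compat_D4.conn (by simp)) _ 3 (by decide +kernel)
      (by decide +kernel) (by decide +kernel)
  · exact center_two (n := 4) (isCoxOf_F4 compat_F4) (A_F4 compat_F4) (compat_F4.conn (by simp)) _ 6 (by decide +kernel)
      (by decide +kernel) (by decide +kernel)
  · have := center_one (n := 6) (isCoxOf_E6 compat_E6) (A_E6 compat_E6) (compat_E6.conn (by simp))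
      (List.replicate 6 [0, 3, 5, 1, 2, 4]).flatten (by decide +kernel) 0 (by decide +kernel)
    exact ⟨Subgroup.card_eq_one.2 this, this.le.trans bot_le⟩
  · exact center_two (n := 7) (isCoxOf_E7 compat_E7) (A_E7 compat_E7) (compat_E7.conn (by simp)) _ 9 (by decide +kernel)
      (by decide +kernel) (by decide +kernel)
  · exact center_two (n := 8) (isCoxOf_E8 compat_E8) (A_E8 compat_E8) (compat_E8.conn (by simp)) _ 15 (by decide +kernel)
      (by decide +kernel) (by decide +kernel)

end Cfsg.Agent.S2418
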