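import Cfsg.Statements.S2419
import Cfsg.Agent.Lib.Pres.Cox

set_option autoImplicit false
open Cfsg Cfsg.Lib.Pres

namespace Cfsg.Agent.S2419

open Cfsg.Lib.Twist

/-- The Coxeter groups of types B₂, G₂, E₆, E₇, E₈ are generated by the Coxeter element `s₁ s₂ ⋯ s_l` together with one suitable reflection (a conjugate of a simple reflection); for types D₄ and F₄ the Coxeter element together with two suitable reflections suffices. -/
theorem result (c : (Σ n : ℕ, CoxeterMatrix (Fin n)) × ℕ)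
    (hc : c ∈ [(⟨2, CoxeterMatrix.B 2⟩, 1), (⟨2, CoxeterMatrix.G₂⟩, 1), (⟨4, Cfsg.Lie.coxeterD4⟩, 2), (⟨4, CoxeterMatrix.F₄⟩, 2),
      (⟨6, CoxeterMatrix.E₆⟩, 1), (⟨7, CoxeterMatrix.E₇⟩, 1), (⟨8, CoxeterMatrix.E₈⟩, 1)]) :
    ∃ T : Finset c.1.2.Group, T.card = c.2 ∧ (∀ t ∈ T, ∃ (g : c.1.2.Group) (i : Fin c.1.1), t = g * c.1.2.simple i * g⁻¹) ∧
      Subgroup.closure (({((List.finRange c.1.1).map c.1.2.simple).prod} : Set c.1.2.Group) ∪ ↑T) = ⊤ := by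
  simp only [List.mem_cons, List.not_mem_nil, or_false] at hc
  rcases hc with rfl | rfl | rfl | rfl | rfl | rfl | rfl
  · exact gen_words (n := 2) (isCoxOf_B2 compat_B2) (A_B2 compat_B2) _ [([], 0)] [[2], [2, 0]] (by decide +kernel) (by simp)
  · exact gen_words (n := 2) (isCoxOf_G2 compat_G2) (A_G2 compat_G2) _ [([], 0)] [[2], [2, 0]] (by decide +kernel) (by simp)
  · exact gen_words (n := 4) (isCoxOf_D4 compat_D4) (A_D4 compat_D4) _ [([], 1), ([], 2)]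
      [[1, 2, 0], [2], [3], [0, 3, 2, 3, 1]] (by decide +kernel) (by decide +kernel)
  · exact gen_words (n := 4) (isCoxOf_F4 compat_F4) (A_F4 compat_F4) _ [([], 0), ([], 2)] [[2], [0, 2, 1], [3], [0, 3, 1]]
      (by decide +kernel) (by decide +kernel)
  · exact gen_words (n := 6) (isCoxOf_E6 compat_E6) (A_E6 compat_E6) _ [([], 3)]
      [[1, 1, 1, 1, 1, 2, 0, 0, 0, 0, 0], [2, 1, 1, 1, 2, 0, 0, 0, 2], [1, 1, 1, 1, 2, 0, 0, 0, 0], [2], [0, 2, 1],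
        [0, 0, 2, 1, 1]] (by decide +kernel) (by simp)
  · exact gen_words (n := 7) (isCoxOf_E7 compat_E7) (A_E7 compat_E7) _ [([], 3)]
      [[1, 2, 1, 1, 1, 1, 2, 0, 0, 0, 0, 2, 0], [2, 0, 2, 1, 1, 1, 1, 2, 0, 0, 0, 0, 2, 1, 2],
        [2, 1, 1, 1, 1, 2, 0, 0, 0, 0, 2], [2], [0, 2, 1], [0, 0, 2, 1, 1], [0, 0, 0, 2, 1, 1, 1]]
      (by decide +kernel) (by simp)
  · exact gen_words (n := 8) (isCoxOf_E8 compat_E8) (A_E8 compat_E8) _ [([], 3)]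
      [[1, 2, 0, 0, 0, 0, 0, 0, 2, 1, 1, 1, 1, 1, 1, 2, 0], [2, 0, 2, 0, 0, 0, 0, 0, 0, 2, 1, 1, 1, 1, 1, 1, 2, 1, 2],
        [2, 0, 0, 0, 0, 0, 0, 2, 1, 1, 1, 1, 1, 1, 2], [2], [0, 2, 1], [0, 0, 2, 1, 1], [0, 0, 0, 2, 1, 1, 1],
        [0, 0, 0, 0, 2, 1, 1, 1, 1]] (by decide +kernel) (by simp)

end Cfsg.Agent.S2419
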