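import Cfsg.Statements.S2426
import Cfsg.Agent.Lib.Chev.A1

set_option autoImplicit false
open Cfsg Cfsg.Lie Cfsg.Lib.Chev

namespace Cfsg.Agent.S2426

theorem aux {K : Type*} [Field K] [Finite K] (rels : Set (FreeGroup (Bool × K)))
    (h1 : ∀ b t u, FreeGroup.of (b, t) * FreeGroup.of (b, u) * (FreeGroup.of (b, t + u))⁻¹ ∈ rels)
    (h2 : ∀ t u, t ≠ 0 → (FreeGroup.of (true, t) * FreeGroup.of (false, -t⁻¹) * FreeGroup.of (true, t)) *
      FreeGroup.of (true, u) * (FreeGroup.of (true, t) * FreeGroup.of (false, -t⁻¹) * FreeGroup.of (true, t))⁻¹ *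
        (FreeGroup.of (false, -(t⁻¹ ^ 2 * u)))⁻¹ ∈ rels)
    (h3 : ∀ g ∈ rels, FreeGroup.lift (fun p => (PreSys.sl2 K).x p.1 p.2) g = 1) :
    ∃ e : PresentedGroup rels ≃* Matrix.SpecialLinearGroup (Fin 2) K,
      ∀ b t, e (PresentedGroup.of (b, t)) = (PreSys.sl2 K).x b t := by
  let S : PreSys rA1 K (PresentedGroup rels) := PreSys.rankOne (fun b t => PresentedGroup.of (b, t)) fun b t u => by
    have := PresentedGroup.one_of_mem (h1 b t u)
    rw [map_mul, map_mul, map_inv, mul_inv_eq_one] at this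
    exact this.symm
  have hS : S.St := PreSys.st_A1 fun t u ht => by
    have := PresentedGroup.one_of_mem (h2 t u ht)
    simp only [map_mul, map_inv, mul_inv_eq_one] at this
    exact this
  obtain ⟨φ, hφ⟩ := PreSys.exists_sl2_hom hS hS.mult_of_finite
  have h4 : ∀ b t, PresentedGroup.toGroup h3 (PresentedGroup.of (b, t)) = (PreSys.sl2 K).x b t := fun b t =>
    PresentedGroup.toGroup.of _
  exact ⟨(PresentedGroup.toGroup h3).toMulEquiv φ (PresentedGroup.ext fun p => by simp [h4, hφ]; rfl)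
    (PreSys.hom_ext PreSys.sl2_gen fun b t => by rw [MonoidHom.comp_apply, hφ]; exact h4 b t), h4⟩

/-- The rank-one Steinberg presentation of `SL₂` over a finite field `K`: generators `x(t)`, `y(t)` (`t ∈ K`; the two opposite root subgroups) subject to additivity `x(t)x(u) = x(t+u)`, `y(t)y(u) = y(t+u)` and, with `w(t) = x(t) y(−t⁻¹) x(t)` and `w'(t) = y(t) x(−t⁻¹) y(t)` for `t ≠ 0`, the relations `w(t) x(u) w(t)⁻¹ = y(−t⁻² u)` and `w'(t) y(u) w'(t)⁻¹ = x(−t⁻² u)`, present `SL₂(K)`, with `x(t) ↦ (1 t; 0 1)` and `y(t) ↦ (1 0; t 1)`. -/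
theorem result {K : Type*} [Field K] [Finite K] :
    ∃ e : PresentedGroup
        ({g : FreeGroup (Bool × K) | ∃ (b : Bool) (t u : K), g = FreeGroup.of (b, t) * FreeGroup.of (b, u) * (FreeGroup.of (b, t + u))⁻¹} ∪
          {g | ∃ (b : Bool) (t u : K), t ≠ 0 ∧
            g = (FreeGroup.of (b, t) * FreeGroup.of (!b, -t⁻¹) * FreeGroup.of (b, t)) * FreeGroup.of (b, u) *
                  (FreeGroup.of (b, t) * FreeGroup.of (!b, -t⁻¹) * FreeGroup.of (b, t))⁻¹ * (FreeGroup.of (!b, -(t⁻¹ ^ 2 * u)))⁻¹})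
        ≃* Matrix.SpecialLinearGroup (Fin 2) K,
      (∀ t : K, ((e (PresentedGroup.of (true, t)) : Matrix (Fin 2) (Fin 2) K)) = !![1, t; 0, 1]) ∧
      (∀ t : K, ((e (PresentedGroup.of (false, t)) : Matrix (Fin 2) (Fin 2) K)) = !![1, 0; t, 1]) := by
  refine (aux _ (fun b t u => Or.inl ⟨b, t, u, rfl⟩) (fun t u ht => Or.inr ⟨true, t, u, ht, rfl⟩) ?_).imp
    fun e h => ⟨fun t => by rw [h]; rfl, fun t => by rw [h]; rfl⟩
  rintro _ (⟨b, t, u, rfl⟩ | ⟨b, t, u, ht, rfl⟩)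
  · simp [PreSys.x_add]
  · simp only [map_mul, map_inv, FreeGroup.lift_apply_of, mul_inv_eq_one]
    exact PreSys.sl2_st.n_conj_self b ht u

end Cfsg.Agent.S2426
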