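import Cfsg.Statements.S2427
import Cfsg.Agent.Lib.Linear.PSL2Sub

set_option autoImplicit false
open Cfsg

namespace Cfsg.Agent.S2427

open Subgroup Cfsg.Lib.Linear Cfsg.Lib.Known
open scoped commutatorElement

/-- The quaternion subgroup. -/
def Q : Subgroup (SL2 (ZMod 3)) where
  carrier := {g | g ^ 4 = 1}
  mul_mem' := fun {a b} => (by decide +kernel : ∀ a b : SL2 (ZMod 3), a ^ 4 = 1 → b ^ 4 = 1 → (a * b) ^ 4 = 1) a b
  one_mem' := one_pow 4
  inv_mem' := fun h => (inv_pow _ 4).trans (inv_eq_one.2 h)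

theorem card_Q : Nat.card Q = 8 := by
  rw [← (by decide +kernel : Fintype.card {g : SL2 (ZMod 3) // g ^ 4 = 1} = 8), ← Nat.card_eq_fintype_card]; rfl

set_option synthInstance.maxSize 1024 in
theorem conj_Q : ∀ x y : SL2 (ZMod 3), x ^ 2 ≠ 1 → x ^ 4 = 1 → y ^ 4 = 1 →
    ∃ b, y = b * x * b⁻¹ ∨ y = x ^ 2 ∨ y = 1 := by decide +kernel

theorem comm_eq : _root_.commutator (SL2 (ZMod 3)) = Q := by
  refine le_antisymm (commutator_le.2 fun a _ b _ =>
    (by decide +kernel : ∀ a b : SL2 (ZMod 3), ⁅a, b⁆ ^ 4 = 1) a b) fun g hg => ?_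
  obtain ⟨a, b, rfl⟩ := (by decide +kernel : ∀ g : SL2 (ZMod 3), g ^ 4 = 1 → ∃ a b : SL2 (ZMod 3), g = ⁅a, b⁆) g hg
  exact commutator_mem_commutator trivial trivial

/-- The group SL₂ over the field with 3 elements has order 24 and centre of order 2; its commutator subgroup has order 8, is isomorphic to the quaternion group of order 8 and is complemented by every Sylow 3-subgroup (so the group is a semidirect product of a quaternion group of order 8 by a cyclic group of order 3); and its only normal subgroups besides the trivial subgroup and the whole group are the centre and the commutator subgroup. -/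
theorem result :
    Nat.card (Matrix.SpecialLinearGroup (Fin 2) (ZMod 3)) = 24 ∧
    Nat.card (Subgroup.center (Matrix.SpecialLinearGroup (Fin 2) (ZMod 3))) = 2 ∧
    Nat.card (commutator (Matrix.SpecialLinearGroup (Fin 2) (ZMod 3))) = 8 ∧
    Nonempty (commutator (Matrix.SpecialLinearGroup (Fin 2) (ZMod 3)) ≃* QuaternionGroup 2) ∧
    (∀ P : Sylow 3 (Matrix.SpecialLinearGroup (Fin 2) (ZMod 3)),
      Subgroup.IsComplement' (commutator (Matrix.SpecialLinearGroup (Fin 2) (ZMod 3)))
        (P : Subgroup (Matrix.SpecialLinearGroup (Fin 2) (ZMod 3)))) ∧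
    ∀ N : Subgroup (Matrix.SpecialLinearGroup (Fin 2) (ZMod 3)), N.Normal →
      N = ⊥ ∨ N = ⊤ ∨ N = Subgroup.center (Matrix.SpecialLinearGroup (Fin 2) (ZMod 3)) ∨
        N = commutator (Matrix.SpecialLinearGroup (Fin 2) (ZMod 3)) := by
  have hc : Nat.card (SL2 (ZMod 3)) = 24 := by rw [card_SL_two, Nat.card_zmod]
  rw [comm_eq]
  refine ⟨hc, by rw [card_center_SL, Nat.card_zmod]; rfl, card_Q, ?_, fun P => ?_, fun N hN => ?_⟩
  · obtain ⟨φ, hφ⟩ := exists_hom_quaternion_two (F := ZMod 3) (by decide)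
    have : φ.range = Q := eq_of_le_of_card_ge (by
      rintro _ ⟨x, rfl⟩
      show φ x ^ 4 = 1
      rw [← map_pow, (by decide : ∀ x : QuaternionGroup 2, x ^ 4 = 1) x, map_one])
      (by rw [card_Q, ← Nat.card_congr (MonoidHom.ofInjective hφ).toEquiv]; simp [QuaternionGroup.card])
    exact ⟨(MulEquiv.subgroupCongr this.symm).trans (MonoidHom.ofInjective hφ).symm⟩
  · have := card_sylow_of_eq P (k := 1) (m := 8) hc (by decide)
    exact isComplement'_of_coprime (by rw [card_Q, this, hc]; rfl) (by rw [card_Q, this]; decide)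
  · by_cases h : ∃ g ∈ N, g ^ 2 ≠ 1
    · obtain ⟨g, hg, h⟩ := h
      obtain ⟨a, h1, h2⟩ := (by decide +kernel : ∀ g : SL2 (ZMod 3), g ^ 2 ≠ 1 →
        ∃ a, (a * g * a⁻¹ * g⁻¹) ^ 2 ≠ 1 ∧ (a * g * a⁻¹ * g⁻¹) ^ 4 = 1) g h
      have hx := mul_mem (hN.conj_mem g hg a) (inv_mem hg)
      have hQ : Q ≤ N := fun y hy => by
        obtain ⟨b, rfl | rfl | rfl⟩ := conj_Q _ y h1 h2 hy
        exacts [hN.conj_mem _ hx b, pow_mem hx 2, one_mem _]
      obtain ⟨k, hk⟩ := card_dvd_of_le hQ
      have h3 := card_subgroup_dvd_card N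
      rw [hc, hk, card_Q] at h3
      rcases (Nat.dvd_prime Nat.prime_three).1 (Nat.dvd_of_mul_dvd_mul_left (k := 8) (by decide) h3) with rfl | rfl
      · exact .inr (.inr (.inr (eq_of_le_of_card_ge hQ (by omega)).symm))
      · exact .inr (.inl (eq_top_of_card_eq _ (by rw [hk, card_Q, hc])))
    · push Not at h
      have h1 : ∀ g ∈ N, g = 1 ∨ g = -1 := fun g hg =>
        sl2_mul_self_eq_one (by decide) ((sq g).symm.trans (h g hg))
      by_cases h2 : -1 ∈ N
      · refine .inr (.inr (.inl (Subgroup.ext fun g => ?_)))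
        rw [← QuotientGroup.eq_one_iff (N := center _), psl2_mk_eq_one_iff]
        exact ⟨h1 g, by rintro (rfl | rfl); exacts [one_mem _, h2]⟩
      · exact .inl ((eq_bot_iff_forall _).2 fun g hg => (h1 g hg).resolve_right fun e => h2 (e ▸ hg))

end Cfsg.Agent.S2427
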