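import Cfsg.Statements.S2428
import Cfsg.Agent.Lib.Known.Torus

set_option autoImplicit false
open Cfsg

namespace Cfsg.Agent.S2428

open Cfsg.Lib.Known


/-- Let F be a finite field with q elements, q odd, and let d be a diagonal element of SL₂ over F whose diagonal entry a has a² ≠ 1 (such d exist exactly when q > 3). Then the centraliser of d is precisely the diagonal subgroup T; the normaliser of T has order 2(q − 1) and exactly (q + 5)/2 conjugacy classes; and every element of that normaliser outside T has square equal to −1. -/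
theorem result {F : Type*} [Field F] [Fintype F] (hodd : Odd (Fintype.card F))
    (d : Matrix.SpecialLinearGroup (Fin 2) F) (hd01 : (d : Matrix (Fin 2) (Fin 2) F) 0 1 = 0) (hd10 : (d : Matrix (Fin 2) (Fin 2) F) 1 0 = 0) (hda : (d : Matrix (Fin 2) (Fin 2) F) 0 0 ^ 2 ≠ 1) :
    (∀ g : Matrix.SpecialLinearGroup (Fin 2) F, g ∈ Subgroup.centralizer ({d} : Set (Matrix.SpecialLinearGroup (Fin 2) F)) ↔ ((g : Matrix (Fin 2) (Fin 2) F) 0 1 = 0 ∧ (g : Matrix (Fin 2) (Fin 2) F) 1 0 = 0)) ∧
    Nat.card (Subgroup.normalizer ((Subgroup.centralizer ({d} : Set (Matrix.SpecialLinearGroup (Fin 2) F))) : Set (Matrix.SpecialLinearGroup (Fin 2) F))) = 2 * (Fintype.card F - 1) ∧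
    Nat.card (ConjClasses (Subgroup.normalizer ((Subgroup.centralizer ({d} : Set (Matrix.SpecialLinearGroup (Fin 2) F))) : Set (Matrix.SpecialLinearGroup (Fin 2) F)))) = (Fintype.card F + 5) / 2 ∧
    ∀ g : Matrix.SpecialLinearGroup (Fin 2) F, g ∈ Subgroup.normalizer ((Subgroup.centralizer ({d} : Set (Matrix.SpecialLinearGroup (Fin 2) F))) : Set (Matrix.SpecialLinearGroup (Fin 2) F)) →
      g ∉ Subgroup.centralizer ({d} : Set (Matrix.SpecialLinearGroup (Fin 2) F)) → ((g * g) : Matrix (Fin 2) (Fin 2) F) = -1 := by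
  rw [← Nat.card_eq_fintype_card] at hodd ⊢
  obtain ⟨a, ha, -, -, rfl⟩ := eq_triS_of_diag hd01 hd10 hda
  have h := isTorus_torusS.card_normalizer le_rfl ha ⟨a, rfl⟩
  rw [Nat.card_units, Nat.gcd_eq_right (Nat.Odd.sub_odd hodd odd_one).two_dvd] at h
  rw [centralizer_torusS ha]
  have := four_le_card_of_sq_ne_one ha
  refine ⟨fun g => mem_range_torusS, h.1,
    Nat.eq_div_of_mul_eq_right two_ne_zero (h.2.1.trans (by omega)), fun g h1 h2 => ?_⟩
  exact congrArg Subtype.val (h.2.2.1 g h1 h2)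

end Cfsg.Agent.S2428
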