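import Cfsg.Statements.S2429
import Cfsg.Agent.Lib.Known.Torus

set_option autoImplicit false
open Cfsg

namespace Cfsg.Agent.S2429

open Cfsg.Lib.Known


/-- Let F be a finite field with q elements, q odd. Then SL₂ over F contains a cyclic subgroup T′ of order q + 1 (a non-split torus) with the following properties: T′ is its own centraliser, and indeed the centraliser of each element of T′ other than 1 and −1 is exactly T′; every element of SL₂ having no eigenvector in F² is conjugate to an element of T′; the normaliser of T′ has order 2(q + 1) and exactly (q + 7)/2 conjugacy classes; and every element of that normaliser outside T′ has square −1. -/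
theorem result {F : Type*} [Field F] [Fintype F] (hodd : Odd (Fintype.card F)) :
    ∃ T' : Subgroup (Matrix.SpecialLinearGroup (Fin 2) F), IsCyclic T' ∧ Nat.card T' = Fintype.card F + 1 ∧
      Subgroup.centralizer ((T' : Set (Matrix.SpecialLinearGroup (Fin 2) F))) = T' ∧
      (∀ g : Matrix.SpecialLinearGroup (Fin 2) F, g ∈ T' → (g : Matrix (Fin 2) (Fin 2) F) ≠ 1 → (g : Matrix (Fin 2) (Fin 2) F) ≠ -1 → Subgroup.centralizer ({g} : Set (Matrix.SpecialLinearGroup (Fin 2) F)) = T') ∧
      (∀ g : Matrix.SpecialLinearGroup (Fin 2) F, (∀ (c : F) (v : Fin 2 → F), v ≠ 0 → (g : Matrix (Fin 2) (Fin 2) F).mulVec v ≠ c • v) → ∃ h : Matrix.SpecialLinearGroup (Fin 2) F, h * g * h⁻¹ ∈ T') ∧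
      Nat.card (Subgroup.normalizer (T' : Set (Matrix.SpecialLinearGroup (Fin 2) F))) = 2 * (Fintype.card F + 1) ∧
      Nat.card (ConjClasses (Subgroup.normalizer (T' : Set (Matrix.SpecialLinearGroup (Fin 2) F)))) = (Fintype.card F + 7) / 2 ∧
      ∀ g : Matrix.SpecialLinearGroup (Fin 2) F, g ∈ Subgroup.normalizer (T' : Set (Matrix.SpecialLinearGroup (Fin 2) F)) → g ∉ T' → ((g * g) : Matrix (Fin 2) (Fin 2) F) = -1 := by
  rw [← Nat.card_eq_fintype_card] at hodd ⊢
  have hT := isTorus_singerS (F := F)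
  have hq : 2 ≤ Nat.card F := Finite.one_lt_card
  obtain ⟨a, ha, -⟩ := hT.exists_gen (by rw [card_U1]; omega)
  have h := hT.card_normalizer le_rfl ha ⟨a, rfl⟩
  rw [card_U1, Nat.gcd_eq_right hodd.add_one.two_dvd] at h
  refine ⟨(singerS F).range, hT.isCyclic_range, card_range_singerS,
    hT.centralizer_eq le_rfl ha ⟨a, rfl⟩, ?_, fun g hg => ?_, h.1,
    Nat.eq_div_of_mul_eq_right two_ne_zero (h.2.1.trans (by omega)), fun g h1 h2 => ?_⟩
  · rintro _ ⟨z, rfl⟩ h1 h2
    refine hT.cent z fun hz => ?_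
    rcases SL2_isScal_iff.1 ((hT.scal z).2 hz) with h | h
    · exact h1 (congrArg Subtype.val h)
    · exact h2 (congrArg Subtype.val h)
  · obtain ⟨z, -, hz⟩ := exists_isConj_singerS hg
    obtain ⟨x, hx⟩ := isConj_iff.1 hz
    exact ⟨x, z, hx.symm⟩
  · exact congrArg Subtype.val (h.2.2.1 g h1 h2)

end Cfsg.Agent.S2429
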