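import Cfsg.Statements.S2430
import Cfsg.Agent.Lib.Known.Torus

set_option autoImplicit false
open Cfsg

namespace Cfsg.Agent.S2430

open Cfsg.Lib.Known

theorem aux {F : Type*} [Field F] [Finite F] {A : Type*} [CommGroup A] {τ : A →* SL2 F}
    (hT : IsTorus τ) (ℓ : ℕ) [Fact ℓ.Prime] (hℓ : ℓ ≠ 2) (P : Sylow ℓ (SL2 F))
    (h1 : ℓ ∣ Nat.card A) (h2 : ¬ ℓ ∣ τ.range.index) :
    Nat.card (Subgroup.centralizer ((P : Subgroup (SL2 F)) : Set (SL2 F))) = Nat.card A ∧
    IsCyclic (Subgroup.centralizer ((P : Subgroup (SL2 F)) : Set (SL2 F))) ∧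
    Nat.card (Subgroup.normalizer ((P : Subgroup (SL2 F)) : Set (SL2 F))) = 2 * Nat.card A := by
  obtain ⟨x, hx⟩ := exists_sylow_le_conj P _ h2
  rw [MonoidHom.map_range] at hx
  have hT' := hT.conj x
  have hP : (P : Subgroup (SL2 F)) ≠ ⊥ := P.ne_bot_of_dvd_card
    (h1.trans (hT.card_range ▸ Subgroup.card_subgroup_dvd_card _))
  obtain ⟨⟨g, hg⟩, hg1⟩ := (Subgroup.ne_bot_iff_exists_ne_one).1 hP
  obtain ⟨a, rfl⟩ := hx hg
  have ha : a ^ 2 ≠ 1 := by
    intro ha
    obtain ⟨k, hk⟩ := P.isPGroup' ⟨_, hg⟩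
    have h3 := orderOf_dvd_of_pow_eq_one hk
    have h4 : (⟨_, hg⟩ : P) ^ 2 = 1 := Subtype.ext (by
      rw [Subgroup.coe_pow, ← map_pow, ha, map_one]; rfl)
    have h5 : Nat.Coprime 2 (ℓ ^ k) :=
      ((Nat.coprime_primes Nat.prime_two Fact.out).2 hℓ.symm).pow_right k
    exact hg1 (orderOf_eq_one_iff.1 (Nat.eq_one_of_dvd_coprimes h5 (orderOf_dvd_of_pow_eq_one h4) h3))
  rw [hT'.centralizer_eq hx ha hg]
  exact ⟨hT'.card_range, hT'.isCyclic_range, (hT'.card_normalizer hx ha hg).1⟩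

/-- Let F be a finite field with q elements, q odd, ℓ an odd prime, and P a Sylow ℓ-subgroup of SL₂ over F. If ℓ divides q − 1, the centraliser of P is cyclic of order q − 1 (a split torus) and the normaliser of P has order 2(q − 1); if ℓ divides q + 1, the centraliser of P is cyclic of order q + 1 (a non-split torus) and the normaliser of P has order 2(q + 1). -/
theorem result {F : Type*} [Field F] [Fintype F] (hodd : Odd (Fintype.card F)) (ℓ : ℕ) [Fact ℓ.Prime] (hℓ : ℓ ≠ 2)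
    (P : Sylow ℓ (Matrix.SpecialLinearGroup (Fin 2) F)) :
    (ℓ ∣ Fintype.card F - 1 →
      Nat.card (Subgroup.centralizer ((P : Subgroup (Matrix.SpecialLinearGroup (Fin 2) F)) : Set (Matrix.SpecialLinearGroup (Fin 2) F))) = Fintype.card F - 1 ∧
      IsCyclic (Subgroup.centralizer ((P : Subgroup (Matrix.SpecialLinearGroup (Fin 2) F)) : Set (Matrix.SpecialLinearGroup (Fin 2) F))) ∧
      Nat.card (Subgroup.normalizer ((P : Subgroup (Matrix.SpecialLinearGroup (Fin 2) F)) : Set (Matrix.SpecialLinearGroup (Fin 2) F))) = 2 * (Fintype.card F - 1)) ∧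
    (ℓ ∣ Fintype.card F + 1 →
      Nat.card (Subgroup.centralizer ((P : Subgroup (Matrix.SpecialLinearGroup (Fin 2) F)) : Set (Matrix.SpecialLinearGroup (Fin 2) F))) = Fintype.card F + 1 ∧
      IsCyclic (Subgroup.centralizer ((P : Subgroup (Matrix.SpecialLinearGroup (Fin 2) F)) : Set (Matrix.SpecialLinearGroup (Fin 2) F))) ∧
      Nat.card (Subgroup.normalizer ((P : Subgroup (Matrix.SpecialLinearGroup (Fin 2) F)) : Set (Matrix.SpecialLinearGroup (Fin 2) F))) = 2 * (Fintype.card F + 1)) := by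
  rw [← Nat.card_eq_fintype_card] at hodd ⊢
  have hq : 2 ≤ Nat.card F := Finite.one_lt_card
  have hp : ℓ.Prime := Fact.out
  have k : ∀ a : ℕ, ℓ ∣ a → ¬ ℓ ∣ (a + 1) * (a + 2) ∧ ¬ ℓ ∣ (a - 1) * (a - 2) ∨ a < 2 := by
    intro a ha
    by_cases h : a < 2
    · exact Or.inr h
    refine Or.inl ⟨fun h => ?_, fun h' => ?_⟩
    · rcases hp.dvd_mul.1 h with h | h
      · exact hp.one_lt.ne' (Nat.dvd_one.1 ((Nat.dvd_add_right ha).1 h))
      · exact hℓ ((Nat.prime_dvd_prime_iff_eq hp Nat.prime_two).1 ((Nat.dvd_add_right ha).1 h))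
    · rcases hp.dvd_mul.1 h' with h' | h'
      · have := Nat.dvd_sub ha h'
        rw [show a - (a - 1) = 1 by omega] at this
        exact hp.one_lt.ne' (Nat.dvd_one.1 this)
      · have := Nat.dvd_sub ha h'
        rw [show a - (a - 2) = 2 by omega] at this
        exact hℓ ((Nat.prime_dvd_prime_iff_eq hp Nat.prime_two).1 this)
  obtain ⟨m, hm⟩ := hodd
  refine ⟨fun h => ?_, fun h => ?_⟩
  · rw [← Nat.card_units] at h ⊢
    refine aux isTorus_torusS ℓ hℓ P h fun h' => ?_
    have h1 := (torusS F).range.card_mul_index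
    rw [card_range_torusS, Cfsg.Lib.Linear.card_SL_two, mul_comm (Nat.card F), mul_assoc] at h1
    rw [Nat.eq_of_mul_eq_mul_left (by omega) h1] at h'
    rw [Nat.card_units] at h
    have := ((k _ h).resolve_right (by omega)).1
    rw [show Nat.card F - 1 + 1 = Nat.card F by omega,
      show Nat.card F - 1 + 2 = Nat.card F + 1 by omega] at this
    exact this h'
  · rw [← card_U1] at h ⊢
    refine aux isTorus_singerS ℓ hℓ P h fun h' => ?_
    have h1 := (singerS F).range.card_mul_index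
    rw [card_range_singerS, Cfsg.Lib.Linear.card_SL_two, mul_comm _ (Nat.card F + 1)] at h1
    rw [Nat.eq_of_mul_eq_mul_left (by omega) h1] at h'
    rw [card_U1] at h
    exact ((k _ h).resolve_right (by omega)).2 h'

end Cfsg.Agent.S2430
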