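import Cfsg.Statements.S2431
import Cfsg.Agent.Lib.Linear.PSL2Klein
import Cfsg.Agent.Lib.Linear.PSL2Sub
import Cfsg.Agent.Lib.Fus3.Rank2

set_option autoImplicit false
open Cfsg

namespace Cfsg.Agent.S2431

open Subgroup Cfsg.Lib.Linear Cfsg.Lib.Known

theorem quat_aut {k : ℕ} (hk : 2 ≤ k) : IsPGroup 2 (MulAut (QuaternionGroup (2 ^ k))) := by
  refine Lib.Fus.isPGroup_mulAut_of_two_gen (IsPGroup.of_card (n := k + 2)
    (by rw [Nat.card_eq_fintype_card, QuaternionGroup.card]; ring)) (a := .a 1) (b := .xa 0)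
    (eq_top_iff.2 fun x _ => ?_) fun α => mem_sup_left ?_
  · have h1 : ∀ i, QuaternionGroup.a i ∈ closure {(.a 1 : QuaternionGroup (2 ^ k)), .xa 0} := fun i => by
      rw [← ZMod.natCast_zmod_val i, ← QuaternionGroup.a_one_pow]
      exact pow_mem (subset_closure (by simp)) _
    rcases x with i | i
    · exact h1 i
    · simpa using mul_mem (subset_closure (by simp : QuaternionGroup.xa 0 ∈ _)) (h1 i)
  · have := α.orderOf_eq (.a 1)
    rcases h : α (.a 1) with i | i
    · rw [← ZMod.natCast_zmod_val i, ← QuaternionGroup.a_one_pow]; exact pow_mem (mem_zpowers _) _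
    · rw [h, QuaternionGroup.orderOf_xa, QuaternionGroup.orderOf_a_one] at this
      have := Nat.pow_le_pow_right two_pos hk
      omega

/-- Let F be a finite field with q elements, q odd, and S a Sylow 2-subgroup of SL₂ over F. The centraliser of S is the centre of SL₂ (of order 2); S is its own normaliser when q ≡ ±1 mod 8, and has index 3 in its normaliser when q ≡ ±3 mod 8. -/
theorem result {F : Type*} [Field F] [Fintype F] (hodd : Odd (Fintype.card F)) (S : Sylow 2 (Matrix.SpecialLinearGroup (Fin 2) F)) :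
    Subgroup.centralizer ((S : Subgroup (Matrix.SpecialLinearGroup (Fin 2) F)) : Set (Matrix.SpecialLinearGroup (Fin 2) F)) = Subgroup.center (Matrix.SpecialLinearGroup (Fin 2) F) ∧
    ((Fintype.card F % 8 = 1 ∨ Fintype.card F % 8 = 7) →
      Subgroup.normalizer ((S : Subgroup (Matrix.SpecialLinearGroup (Fin 2) F)) : Set (Matrix.SpecialLinearGroup (Fin 2) F)) = (S : Subgroup (Matrix.SpecialLinearGroup (Fin 2) F))) ∧
    ((Fintype.card F % 8 = 3 ∨ Fintype.card F % 8 = 5) →
      Nat.card (Subgroup.normalizer ((S : Subgroup (Matrix.SpecialLinearGroup (Fin 2) F)) : Set (Matrix.SpecialLinearGroup (Fin 2) F))) = 3 * Nat.card S) := by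
  rw [← Nat.card_eq_fintype_card] at *
  have h2 : (2 : F) ≠ 0 := fun h => by
    haveI := (CharP.charP_iff_prime_eq_zero (R := F) Nat.prime_two).2 h
    obtain ⟨n, -, hn⟩ := FiniteField.card F 2
    rw [Nat.card_eq_fintype_card, hn] at hodd
    exact absurd ((Nat.odd_pow_iff n.ne_zero).1 hodd) (by decide)
  obtain ⟨φ, hφ⟩ := exists_hom_quaternion_two h2
  obtain ⟨P, hP⟩ := (isPGroup_quaternion_two.of_equiv (MonoidHom.ofInjective hφ)).exists_le_sylow
  obtain ⟨g, rfl⟩ := MulAction.exists_smul_eq (SL2 F) S P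
  let ψ := (MulAut.conj g⁻¹).toMonoidHom.comp φ
  have hψ : Function.Injective ψ := (MulAut.conj g⁻¹).injective.comp hφ
  have hS : ∀ x, ψ x ∈ (S : Subgroup (SL2 F)) := fun x => by
    simpa [ψ] using mem_pointwise_smul_iff_inv_smul_mem.1 (hP ⟨x, rfl⟩)
  have hneg : ψ (.a 2) = -1 := (sl2_mul_self_eq_one h2 (by rw [← map_mul, ← map_one ψ]; rfl)).resolve_left
    (by rw [map_eq_one_iff _ hψ]; decide)
  have hZ : ∀ g : SL2 F, g ∈ center (SL2 F) ↔ g = 1 ∨ g = -1 := fun g => by
    rw [← QuotientGroup.eq_one_iff, psl2_mk_eq_one_iff]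
  have hZS : center (SL2 F) ≤ S := fun g hg => by
    rcases (hZ g).1 hg with rfl | rfl; exacts [one_mem _, hneg ▸ hS _]
  have hij : ψ (.a 1) * ψ (.xa 0) = -(ψ (.xa 0) * ψ (.a 1)) := by
    rw [← neg_one_mul, ← hneg, ← map_mul, ← map_mul, ← map_mul]; rfl
  have hC : centralizer ((S : Subgroup (SL2 F)) : Set (SL2 F)) = center (SL2 F) :=
    le_antisymm (fun g hg => (QuotientGroup.eq_one_iff _).1 (isScal_of_commute h2
      (by rw [← map_mul, ← hneg]; rfl) hij (hg _ (hS _)).symm (hg _ (hS _)).symm)) (center_le_centralizer _)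
  obtain ⟨q, hq⟩ := hodd
  have hG := card_SL_two (F := F)
  rw [hq, Nat.add_sub_cancel] at hG
  refine ⟨hC, fun h => ?_, fun h => ?_⟩
  · obtain ⟨k, -, ⟨e⟩⟩ := (sl2_two_subgroup h2 S.isPGroup').resolve_left fun h =>
      not_isCyclic_quaternion_two (isCyclic_of_injective (ψ.codRestrict _ hS) fun _ _ e => hψ (congrArg Subtype.val e))
    have h16 : 2 ^ 4 ∣ Nat.card S := S.pow_dvd_card_of_pow_dvd_card (by
      rw [hG]
      rcases h with h | h
      · obtain ⟨t, rfl⟩ : ∃ t, q = 4 * t := ⟨q / 4, by omega⟩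
        exact ⟨(8 * t + 1) * t * (4 * t + 1), by ring⟩
      · obtain ⟨t, rfl⟩ : ∃ t, q = 4 * t + 3 := ⟨q / 4, by omega⟩
        exact ⟨(8 * t + 7) * (4 * t + 3) * (t + 1), by ring⟩)
    rw [Nat.card_congr e.toEquiv, Nat.card_eq_fintype_card, QuaternionGroup.card,
      show 4 * 2 ^ k = 2 ^ (k + 2) by ring, Nat.pow_dvd_pow_iff_le_right one_lt_two] at h16
    have hA := (quat_aut (k := k) (by omega)).of_equiv (MulAut.congr e).symm
    refine S.3 ?_ le_normalizer
    have := (hA.to_subgroup ⊤).comap_of_ker_isPGroup (S : Subgroup (SL2 F)).normalizerMonoidHom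
      (by rw [normalizerMonoidHom_ker, hC]; exact (S.isPGroup'.to_le hZS).comap_subtype)
    exact this.of_equiv topEquiv
  · obtain ⟨m, hm, hm'⟩ : ∃ m, Nat.card (PSL2 F) = 2 ^ 2 * m ∧ ¬ 2 ∣ m := by
      have := card_PSL_two_of_odd (F := F) ⟨q, hq⟩
      rw [hq, Nat.add_sub_cancel] at this
      rcases h with h | h
      · obtain ⟨t, rfl⟩ : ∃ t, q = 4 * t + 1 := ⟨q / 4, by omega⟩
        exact ⟨(8 * t + 3) * (4 * t + 1) * (2 * t + 1), by linarith, by
          rw [← even_iff_two_dvd, Nat.not_even_iff_odd]; simp [parity_simps]⟩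
      · obtain ⟨t, rfl⟩ : ∃ t, q = 4 * t + 2 := ⟨q / 4, by omega⟩
        exact ⟨(8 * t + 5) * (2 * t + 1) * (4 * t + 3), by linarith, by
          rw [← even_iff_two_dvd, Nat.not_even_iff_odd]; simp [parity_simps]⟩
    have hK := card_klein_PSL2 h2
    have toS : ∀ V : Subgroup (PSL2 F), IsKleinFour V → ∃ P : Sylow 2 (PSL2 F), P = V := fun V hV =>
      Lib.Fus.exists_sylow_eq (k := 2) hV.card_four (by rw [hm]; omega)
    obtain ⟨⟨V, hV⟩⟩ : Nonempty {V : Subgroup (PSL2 F) // IsKleinFour V} :=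
      (Nat.card_pos_iff.1 (by omega)).1
    obtain ⟨P, rfl⟩ := toS V hV
    have hb : Nat.card (Sylow 2 (PSL2 F)) = Nat.card {V : Subgroup (PSL2 F) // IsKleinFour V} :=
      Nat.card_eq_of_bijective (fun R => ⟨R, by
        obtain ⟨g, rfl⟩ := MulAction.exists_smul_eq (PSL2 F) P R
        exact isKleinFour_map_conj hV g⟩) ⟨fun _ _ e => Sylow.ext (congrArg Subtype.val e),
        fun V => (toS V.1 V.2).imp fun _ e => Subtype.ext e⟩
    let R := S.mapSurjective (QuotientGroup.mk'_surjective (center (SL2 F)))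
    have h1 := (normalizer (R : Set (PSL2 F))).card_mul_index
    rw [← R.card_eq_index_normalizer, hb, ← hK] at h1
    have h3 : (R : Subgroup (PSL2 F)).comap (QuotientGroup.mk' _) = S := by
      rw [Sylow.coe_mapSurjective, comap_map_eq, QuotientGroup.ker_mk', sup_eq_left.2 hZS]
    have h4 := card_preimage_psl2_mk h2 (R : Subgroup (PSL2 F))
    have h5 := card_preimage_psl2_mk h2 (normalizer (R : Set (PSL2 F)))
    have h6 := card_sylow_of_eq R hm hm'
    have h7 := Nat.eq_of_mul_eq_mul_right (by omega) h1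
    conv_lhs => rw [← h3, ← comap_normalizer_eq_of_surjective _ (QuotientGroup.mk'_surjective _)]
    refine h5.trans ((congrArg (2 * ·) h7).trans ?_)
    rw [show Nat.card S = 2 * Nat.card R from (congrArg (fun H : Subgroup (SL2 F) => Nat.card H) h3).symm.trans h4]
    exact (congrArg (fun x => 3 * (2 * x)) h6).symm

end Cfsg.Agent.S2431
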