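import Cfsg.Statements.S2434
import Cfsg.Agent.Lib.Known.SL2Irr2

set_option autoImplicit false
open Cfsg

namespace Cfsg.Agent.S2434

open Cfsg.Lib.Known


/-- Let F be a finite field with q elements, q odd, and C a cyclic subgroup of order q + 1 of SL₂ over F (a non-split torus; it contains the centre). For every homomorphism θ from C to the non-zero complex numbers with θ² ≠ 1 there is an irreducible complex character χ of degree q − 1 such that χ(c) = −θ(c) − θ(c)⁻¹ for every non-central c in C, χ(zg) = θ(z)χ(g) for central z in C, χ vanishes at diagonal elements with entry a, a² ≠ 1, and χ takes the value −1 at every upper unitriangular element other than 1. Conversely every irreducible character of degree q − 1 has, for some such θ, the values −θ(c) − θ(c)⁻¹ at the non-central elements c of C (for q ≥ 5 these are exactly the cuspidal characters of degree q − 1). -/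
theorem result {F : Type*} [Field F] [Fintype F] (hodd : Odd (Fintype.card F))
    (C : Subgroup (Matrix.SpecialLinearGroup (Fin 2) F)) (hC : IsCyclic C) (hcard : Nat.card C = Fintype.card F + 1) :
    (∀ θ : C →* ℂˣ, (∃ c : C, θ c ^ 2 ≠ 1) →
      ∃ χ : Matrix.SpecialLinearGroup (Fin 2) F → ℂ, Cfsg.IsIrrCharacter (Matrix.SpecialLinearGroup (Fin 2) F) χ ∧ χ 1 = (Fintype.card F : ℂ) - 1 ∧
        (∀ c : C, (c : Matrix.SpecialLinearGroup (Fin 2) F) ∉ Subgroup.center (Matrix.SpecialLinearGroup (Fin 2) F) → χ c = -((θ c).val + (θ c)⁻¹.val)) ∧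
        (∀ c : C, (c : Matrix.SpecialLinearGroup (Fin 2) F) ∈ Subgroup.center (Matrix.SpecialLinearGroup (Fin 2) F) → ∀ g : Matrix.SpecialLinearGroup (Fin 2) F, χ ((c : Matrix.SpecialLinearGroup (Fin 2) F) * g) = (θ c).val * χ g) ∧
        (∀ g : Matrix.SpecialLinearGroup (Fin 2) F, (g : Matrix (Fin 2) (Fin 2) F) 0 1 = 0 → (g : Matrix (Fin 2) (Fin 2) F) 1 0 = 0 → (g : Matrix (Fin 2) (Fin 2) F) 0 0 ^ 2 ≠ 1 → χ g = 0) ∧
        (∀ g : Matrix.SpecialLinearGroup (Fin 2) F, (g : Matrix (Fin 2) (Fin 2) F) 1 0 = 0 → (g : Matrix (Fin 2) (Fin 2) F) 0 0 = 1 → (g : Matrix (Fin 2) (Fin 2) F) 1 1 = 1 → (g : Matrix (Fin 2) (Fin 2) F) 0 1 ≠ 0 → χ g = -1)) ∧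
    (∀ χ : Matrix.SpecialLinearGroup (Fin 2) F → ℂ, Cfsg.IsIrrCharacter (Matrix.SpecialLinearGroup (Fin 2) F) χ → χ 1 = (Fintype.card F : ℂ) - 1 →
      ∃ θ : C →* ℂˣ, (∃ c : C, θ c ^ 2 ≠ 1) ∧
        ∀ c : C, (c : Matrix.SpecialLinearGroup (Fin 2) F) ∉ Subgroup.center (Matrix.SpecialLinearGroup (Fin 2) F) → χ c = -((θ c).val + (θ c)⁻¹.val)) := by
  classical
  rw [← Nat.card_eq_fintype_card] at hcard hodd ⊢
  obtain ⟨e, x, hx⟩ := exists_equiv_U1 C hC hcard
  have hcj : ∀ z, IsConj (singerS F z) (e z : SL2 F) := fun z => isConj_iff.2 ⟨x, (hx z).symm⟩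
  have hz : ∀ z, (e z : SL2 F) ∈ Subgroup.center _ ↔ z ^ 2 = 1 := fun z => by
    rw [SL2_mem_center_iff, ← SL2_isScal_iff_of_isConj (hcj z), isScal_singerS_iff]
  have hv : ∀ (η : Ch (U1 F)) (z : U1 F), (e z : SL2 F) ∉ Subgroup.center _ →
      (-RS' η) (e z) = -(η z + (η z)⁻¹) := fun η z h => by
    rw [Pi.neg_apply, ← Cfsg.Lib.Char.Cfsg.IsClassFunction.eq_of_isConj
      (Cfsg.Lib.Char.Cfsg.IsGeneralizedCharacter.isClassFunction (isGen_RS' η)) (hcj z),
      RS'_singerS _ (mt (hz z).2 h), Ch.map_inv]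
  have hθ : ∀ η : Ch (U1 F), η ^ 2 ≠ 1 →
      ∃ c : C, (η.hom.comp e.symm.toMonoidHom) c ^ 2 ≠ 1 := fun η h => by
    by_contra hc
    push Not at hc
    refine h (Ch.ext fun z => ?_)
    have := congrArg Units.val (hc (e z))
    simpa [Ch.pow_apply, Ch.one_apply, Ch.hom_apply] using this
  refine ⟨fun θ ⟨c, hc⟩ => ?_, fun χ hχ h => ?_⟩
  · let η : Ch (U1 F) := Ch.of (θ.comp e.toMonoidHom)
    have hη : ∀ z, η z = θ (e z) := fun _ => rfl
    have h2 : η ^ 2 ≠ 1 := fun h => hc (Units.ext (by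
      have := Ch.ext_iff.1 h (e.symm c)
      rwa [Ch.pow_apply, hη, MulEquiv.apply_symm_apply] at this))
    refine ⟨-RS' η, isIrr_neg_RS' h2, by rw [Pi.neg_apply, RS'_apply_one, neg_neg], fun c hc => ?_,
      fun c hc g => ?_, fun g h1 h2 h3 => ?_, fun g h1 h2 h3 h4 => ?_⟩
    · obtain ⟨z, rfl⟩ := e.surjective c
      rw [hv η z hc, hη, Units.val_inv_eq_inv_val]
    · obtain ⟨z, rfl⟩ := e.surjective c
      refine irr_central_mul (isIrr_neg_RS' h2) hc ?_ g
      have h3 := (hz z).1 hc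
      obtain ⟨a, ha⟩ := exists_iotaK_of_bar ((U1_bar_eq_self_iff z).2 h3)
      have ha2 : a ^ 2 = 1 := iotaK_injective (by
        rw [map_pow, ha, map_one, ← Subgroup.coe_pow, h3, Subgroup.coe_one])
      obtain rfl : z = uOf a ha2 := Subtype.ext ha.symm
      rw [Pi.neg_apply, ← Cfsg.Lib.Char.Cfsg.IsClassFunction.eq_of_isConj
        (Cfsg.Lib.Char.Cfsg.IsGeneralizedCharacter.isClassFunction (isGen_RS' η)) (hcj _),
        singerS_uOf, RS'_scal _ ha2, Pi.neg_apply, RS'_apply_one, hη]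
      ring
    · obtain ⟨a, ha, -, -, rfl⟩ := eq_triS_of_diag h1 h2 h3
      rw [Pi.neg_apply, RS'_split _ ha, neg_zero]
    · obtain ⟨a, ha, h5, hg⟩ := eq_triS_of_par h1 (h2.trans h3.symm)
      obtain rfl : a = 1 := Units.ext (h5.trans h2)
      rw [hg, Pi.neg_apply, RS'_par _ ha h4, uOf_one, Ch.map_one]
  · have hq : 2 ≤ Nat.card F := Finite.one_lt_card
    obtain ⟨m, hm⟩ := hodd
    rcases SL2_irr_cases' hχ (n := Nat.card F - 1)
      (by rw [h, Nat.cast_sub Nat.card_pos, Nat.cast_one]) with h | h | h | ⟨-, η, hη, rfl⟩ |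
      ⟨-, h, α, χ', -, -, hp⟩ | ⟨-, h, -⟩
    · have := h.1; omega
    · have := h.1; omega
    · have := h.1; omega
    · refine ⟨η.hom.comp e.symm.toMonoidHom, hθ η hη, fun c hc => ?_⟩
      obtain ⟨z, rfl⟩ := e.surjective c
      rw [hv η z hc]; simp [Ch.hom_apply]
    · have hq3 : Nat.card F = 3 := by omega
      have hcard : Nat.card (U1 F) = 2 * 2 := by rw [card_U1, hq3]
      have := isCyclic_U1 (F := F)
      have h3 := card_Ch_sq_ne_one (A := U1 F)
      rw [hcard] at h3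
      obtain ⟨η, hη⟩ := Finset.card_pos.1 (h3.trans_gt (by decide))
      have hη := (Finset.mem_filter.1 hη).2
      refine ⟨η.hom.comp e.symm.toMonoidHom, hθ η hη, fun c hc => ?_⟩
      obtain ⟨z, rfl⟩ := e.surjective c
      have hz2 := mt (hz z).2 hc
      have h4 : (η ^ 2) ^ 2 = 1 := by
        rw [← pow_mul, ← hcard, ← card_Ch]; exact pow_card_eq_one'
      have h5 := (Ch.quad_apply h4 hη hcard z).2 hz2
      rw [Ch.pow_apply] at h5
      have h6 := (noEig_singerS_iff z).2 hz2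
      have h7 := hp.two_mul (g := singerS F z) (Or.inr (NoEig.two_or_trace h6))
      rw [RS_noEig _ h6, Cfsg.Lib.Char.Cfsg.IsClassFunction.eq_of_isConj
        (Cfsg.Lib.Char.Cfsg.IsIrrCharacter.isClassFunction hχ) (hcj z)] at h7
      have h8 : η z + (η z)⁻¹ = 0 := by
        have := η.ne_zero z
        field_simp
        linear_combination h5
      have h9 : χ (e z) = 0 := by simpa using h7
      rw [h9]; simp [Ch.hom_apply, h8]
    · omega

end Cfsg.Agent.S2434
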