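import Cfsg.Statements.S2435
import Cfsg.Agent.Lib.Known.SL2Irr2

set_option autoImplicit false
open Cfsg

namespace Cfsg.Agent.S2435

open Cfsg.Lib.Known


/-- Let F be a finite field with q elements, q odd and q ≥ 5, and χ an irreducible complex character of SL₂ over F. If χ has degree (q + 1)/2, then at a diagonal element with entry a, a² ≠ 1, χ takes the value 1 when a is a square in F and −1 otherwise. If χ has degree (q − 1)/2, then at an element g with no eigenvector in F² (so g has order dividing q + 1), χ takes the value −1 when g raised to the power (q + 1)/2 is the identity and the value 1 otherwise. -/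
theorem result {F : Type*} [Field F] [Fintype F] (hodd : Odd (Fintype.card F)) (hq : 5 ≤ Fintype.card F)
    (χ : Matrix.SpecialLinearGroup (Fin 2) F → ℂ) (hχ : Cfsg.IsIrrCharacter (Matrix.SpecialLinearGroup (Fin 2) F) χ) (g : Matrix.SpecialLinearGroup (Fin 2) F) :
    (χ 1 = (((Fintype.card F + 1) / 2 : ℕ) : ℂ) → (g : Matrix (Fin 2) (Fin 2) F) 0 1 = 0 → (g : Matrix (Fin 2) (Fin 2) F) 1 0 = 0 → (g : Matrix (Fin 2) (Fin 2) F) 0 0 ^ 2 ≠ 1 →
      (IsSquare ((g : Matrix (Fin 2) (Fin 2) F) 0 0) → χ g = 1) ∧ (¬ IsSquare ((g : Matrix (Fin 2) (Fin 2) F) 0 0) → χ g = -1)) ∧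
    (χ 1 = (((Fintype.card F - 1) / 2 : ℕ) : ℂ) → (∀ (c : F) (v : Fin 2 → F), v ≠ 0 → (g : Matrix (Fin 2) (Fin 2) F).mulVec v ≠ c • v) →
      (((g ^ ((Fintype.card F + 1) / 2)) : Matrix (Fin 2) (Fin 2) F) = 1 → χ g = -1) ∧ (((g ^ ((Fintype.card F + 1) / 2)) : Matrix (Fin 2) (Fin 2) F) ≠ 1 → χ g = 1)) := by
  classical
  rw [← Nat.card_eq_fintype_card] at hq hodd ⊢
  have hd := (SL2_irr_degree (F := F) (by omega) χ).2.2.2.2 hodd
  obtain ⟨m, hm⟩ := hodd
  refine ⟨fun h h1 h2 h3 => ?_, fun h h1 => ?_⟩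
  · obtain ⟨a, ha, h4, -, hg⟩ := eq_triS_of_diag h1 h2 h3
    obtain ⟨α, χ', a2, a1, hp⟩ := hd.1.1 ⟨hχ, h⟩
    have h5 := hp.two_mul (g := triS a 0)
      (Or.inr (Or.inr (by rw [trace_triS]; exact trace_sq_ne_four_of_sq_ne_one ha)))
    rw [RS_split _ ha, ← hg] at h5
    have hc : Nat.card Fˣ = 2 * m := by rw [Nat.card_units]; omega
    have h6 := Ch.quad_apply a2 a1 hc a
    have h7 := Ch.quad_apply a2 a1 hc a⁻¹
    rw [inv_pow, ne_eq, inv_eq_one] at h7
    have h8 : IsSquare (a : F) ↔ a ^ m = 1 := by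
      have hr : ringChar F ≠ 2 := fun h => hp.two_ne_zero (by
        have := ringChar.Nat.cast_ringChar (R := F)
        rw [h] at this; exact_mod_cast this)
      rw [FiniteField.isSquare_iff hr a.ne_zero, ← Nat.card_eq_fintype_card,
        show Nat.card F / 2 = m by omega, ← Units.val_pow_eq_pow_val, Units.val_eq_one]
    rw [← h4, h8]
    exact ⟨fun h => by linear_combination h5 / 2 + h6.1 h / 2 + h7.1 h / 2,
      fun h => by linear_combination h5 / 2 + h6.2 h / 2 + h7.2 h / 2⟩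
  · obtain ⟨θ, χ', a2, a1, hp⟩ := hd.2.1 ⟨hχ, h⟩
    obtain ⟨z, hz, hc⟩ := exists_isConj_singerS h1
    have h5 := hp.two_mul (g := singerS F z)
      (Or.inr (NoEig.two_or_trace ((noEig_singerS_iff z).2 hz)))
    rw [Pi.neg_apply, RS'_singerS _ hz, ← Cfsg.Lib.Char.Cfsg.IsClassFunction.eq_of_isConj
        (Cfsg.Lib.Char.Cfsg.IsIrrCharacter.isClassFunction hχ) hc] at h5
    have hcard : Nat.card (U1 F) = 2 * (m + 1) := by rw [card_U1]; omega
    have := isCyclic_U1 (F := F)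
    have h6 := Ch.quad_apply a2 a1 hcard z
    have h7 := Ch.quad_apply a2 a1 hcard z⁻¹
    rw [inv_pow, ne_eq, inv_eq_one] at h7
    have h8 : ((g : M2 F) ^ (m + 1)) = 1 ↔ z ^ (m + 1) = 1 := by
      rw [← orderOf_dvd_iff_pow_eq_one (x := z), ← orderOf_singerS, ← orderOf_eq_of_isConj hc,
        orderOf_dvd_iff_pow_eq_one, ← Matrix.SpecialLinearGroup.coe_pow]
      exact ⟨fun h => Subtype.ext h, fun h => congrArg Subtype.val h⟩
    rw [show (Nat.card F + 1) / 2 = m + 1 by omega, ne_eq, h8]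
    exact ⟨fun h => by linear_combination h5 / 2 - h6.1 h / 2 - h7.1 h / 2,
      fun h => by linear_combination h5 / 2 - h6.2 h / 2 - h7.2 h / 2⟩

end Cfsg.Agent.S2435
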