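import Cfsg.Statements.S2437
import Cfsg.Agent.Lib.Known.Torus

set_option autoImplicit false
open Cfsg

namespace Cfsg.Agent.S2437

open Cfsg.Lib.Known


/-- Over a finite field F with q elements, q odd, the upper triangular subgroup of SL₂ (a Borel subgroup, of order q(q − 1)) has exactly q + 3 conjugacy classes. -/
theorem result {F : Type*} [Field F] [Fintype F] (hodd : Odd (Fintype.card F)) :
    Nat.card (ConjClasses ((Cfsg.upperTriangularGL 2 F).comap Matrix.SpecialLinearGroup.toGL)) = Fintype.card F + 3 := by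
  rw [← Nat.card_eq_fintype_card] at hodd ⊢
  have h2 := two_ne_zero_of_odd hodd
  obtain ⟨e, he⟩ := exists_nonsquare_of_two h2
  have he0 : e ≠ 0 := fun h => he (h ▸ IsSquare.zero)
  let t : Fˣ → F → (upperTriangularGL 2 F).comap Matrix.SpecialLinearGroup.toGL := fun a b =>
    ⟨triS a b, mem_upperS_two.2 (by simp [coe_triS])⟩
  have ht : ∀ g, ∃ a b, g = t a b := fun g => by
    obtain ⟨a, -, -, h⟩ := eq_triS_of_upper (mem_upperS_two.1 g.2)
    exact ⟨a, _, Subtype.ext h⟩
  have hc : ∀ a b a' b', IsConj (t a b) (t a' b') ↔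
      a' = a ∧ ∃ (c : Fˣ) (d : F), c * b + d * (a : F)⁻¹ = a * d + b' * (c : F)⁻¹ := by
    intro a b a' b'
    constructor
    · intro h
      obtain ⟨x, hx⟩ := exists_mul_eq_of_isConj h
      obtain ⟨c, d, rfl⟩ := ht x
      have h1 : triS c d * triS a b = triS a' b' * triS c d := congrArg Subtype.val hx
      rw [triS_mul, triS_mul, triS_inj, mul_comm c, mul_left_inj] at h1
      obtain ⟨rfl, h1⟩ := h1
      exact ⟨rfl, c, d, h1⟩
    · rintro ⟨rfl, c, d, h⟩
      refine isConj_of_mul_eq (t c d) (Subtype.ext ?_)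
      change triS c d * triS a' b = triS a' b' * triS c d
      rw [triS_mul, triS_mul, h, mul_comm c]
  have hs : ∀ a : Fˣ, a ^ 2 = 1 → ∀ b b', IsConj (t a b) (t a b') ↔ ∃ c : Fˣ, b' = c ^ 2 * b := by
    intro a ha b b'
    rw [hc, ← (units_eq_inv_iff a).2 ha]
    simp only [true_and]
    refine exists_congr fun c => ⟨fun ⟨d, h⟩ => ?_, fun h => ⟨0, ?_⟩⟩
    · have := c.ne_zero
      field_simp at h
      linear_combination -h
    · rw [h]; field_simp; ring
  rw [card_conjClasses_of_reps (X := Fˣ ⊕ ({a : Fˣ // a ^ 2 = 1} × Bool))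
    (Sum.elim (fun a => t a 0) (fun x => t x.1.1 (if x.2 then 1 else e)))]
  · rw [Nat.card_sum, Nat.card_prod, card_sq_eq_one h2, Nat.card_units]
    have : 0 < Nat.card F := Nat.card_pos
    simp only [Nat.card_eq_fintype_card (α := Bool), Fintype.card_bool]
    omega
  · intro g
    obtain ⟨a, b, rfl⟩ := ht g
    by_cases hb : b = 0
    · exact ⟨Sum.inl a, hb ▸ IsConj.refl _⟩
    by_cases ha : a ^ 2 = 1
    · by_cases hsb : IsSquare b
      · obtain ⟨r, rfl⟩ := hsb
        have hr : r ≠ 0 := fun h => hb (by rw [h, mul_zero])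
        exact ⟨Sum.inr (⟨a, ha⟩, true), (hs a ha _ _).2 ⟨(Units.mk0 r hr)⁻¹, by simp; field_simp⟩⟩
      · obtain ⟨r, hr⟩ := isSquare_mul_of_not hsb he
        have hr0 : r ≠ 0 := fun h => mul_ne_zero hb he0 (by rw [hr, h, mul_zero])
        refine ⟨Sum.inr (⟨a, ha⟩, false), (hs a ha _ _).2 ⟨Units.mk0 (r / b) (div_ne_zero hr0 hb), ?_⟩⟩
        simp; field_simp; linear_combination hr
    · have h3 : (a : F) - (a : F)⁻¹ ≠ 0 := fun h => ha ((units_eq_inv_iff a).1 (sub_eq_zero.1 h))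
      refine ⟨Sum.inl a, (hc _ _ _ _).2 ⟨rfl, 1, b / ((a : F) - (a : F)⁻¹), ?_⟩⟩
      have := div_mul_cancel₀ b h3
      simp only [Units.val_one, one_mul, zero_mul, add_zero]
      linear_combination -this
  · rintro (a | ⟨⟨a, ha⟩, i⟩) (a' | ⟨⟨a', ha'⟩, i'⟩) h
    · rw [((hc _ _ _ _).1 h).1]
    · obtain rfl : a' = a := ((hc _ _ _ _).1 h).1
      obtain ⟨c, hc⟩ := (hs _ ha' _ _).1 h
      cases i' <;> simp [he0] at hc
    · obtain rfl : a' = a := ((hc _ _ _ _).1 h).1
      obtain ⟨c, hc⟩ := (hs _ ha _ _).1 h.symm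
      cases i <;> simp [he0] at hc
    · obtain rfl : a' = a := ((hc _ _ _ _).1 h).1
      cases i <;> cases i'
      · rfl
      · obtain ⟨c, hc⟩ := (hs _ ha _ _).1 h.symm
        exact absurd ⟨c, by simpa [pow_two] using hc⟩ he
      · obtain ⟨c, hc⟩ := (hs _ ha _ _).1 h
        exact absurd ⟨c, by simpa [pow_two] using hc⟩ he
      · rfl

end Cfsg.Agent.S2437
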