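import Cfsg.Statements.S2436
import Cfsg.Agent.S2431
import Cfsg.Agent.S2437
import Cfsg.Agent.S2299
import Cfsg.Agent.S2325
import Cfsg.Agent.Lib.Clifford.Real
import Cfsg.Agent.Lib.Clifford.PBlk
import Cfsg.Agent.Lib.Clifford.Column
import Cfsg.Agent.Lib.Linear.SL2Sub
import Cfsg.Agent.Lib.PGrp.TwoMax

set_option autoImplicit false
open Cfsg

namespace Cfsg.Agent.S2436

open Cfsg.Lib Cfsg.Lib.Clifford Cfsg.Lib.Char Cfsg.Lib.Known Finset

section
open Classical
variable {G : Type*} [Group G] [Finite G] {p : ℕ}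

/-- number of irreducible characters of `p'`-degree -/
noncomputable def mk (G : Type*) [Group G] (p : ℕ) : ℕ :=
  Nat.card {χ : IrrCharacter G // ¬ p ∣ charDegree (χ : G → ℂ)}

noncomputable def cnt (G : Type*) [Group G] [Finite G] (d : ℕ) : ℕ :=
  ((Irr (⊤ : Subgroup G)).filter fun χ => charDegree χ = d).card

omit [Finite G] in
theorem mk_congr {H : Type*} [Group H] (e : G ≃* H) : mk G p = mk H p := by
  refine Nat.card_congr ⟨fun χ => ⟨⟨fun x => χ.1.1 (e.symm x), χ.1.2.comp_equiv e.symm⟩, ?_⟩,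
    fun χ => ⟨⟨fun x => χ.1.1 (e x), χ.1.2.comp_equiv e⟩, ?_⟩, fun χ => ?_, fun χ => ?_⟩
  · simpa [charDegree] using χ.2
  · simpa [charDegree] using χ.2
  · ext; simp
  · ext; simp

theorem mk_eq : mk G p = ((Irr (⊤ : Subgroup G)).filter fun χ => ¬ p ∣ charDegree χ).card :=
  card_irr_filter (fun χ => ¬ p ∣ charDegree χ)

theorem mk_add (D : Finset ℕ) (h : ∀ χ, IsIrrCharacter G χ → (p ∣ charDegree χ ↔ charDegree χ ∈ D)) :
    mk G p + ∑ d ∈ D, cnt G d = Nat.card (ConjClasses G) := by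
  rw [mk_eq, ← card_irrCharacter_eq, ← card_Irr_top,
    ← card_filter_add_card_filter_not (s := Irr (⊤ : Subgroup G)) (fun χ => p ∣ charDegree χ), add_comm]
  congr 1
  rw [card_eq_sum_card_fiberwise (f := fun χ : G → ℂ => charDegree χ) (t := D)
    (s := (Irr (⊤ : Subgroup G)).filter fun χ => p ∣ charDegree χ)
    (fun χ hχ => (h χ (mem_Irr_top.1 (mem_filter.1 hχ).1)).1 (mem_filter.1 hχ).2)]
  refine sum_congr rfl fun d hd => ?_
  rw [cnt, filter_filter]
  refine congrArg card (filter_congr fun χ hχ => ⟨fun e => ⟨?_, e⟩, fun e => e.2⟩)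
  exact (h χ (mem_Irr_top.1 hχ)).2 (e ▸ hd)

theorem cnt_eq {d : ℕ} {c : ℂ} (h : c = d) :
    Nat.card {χ : IrrCharacter G // (χ : G → ℂ) 1 = c} = cnt G d := by
  rw [card_irr_filter (fun χ => χ 1 = c), cnt]
  refine congrArg card (filter_congr fun χ hχ => ?_)
  rw [(irrOn_of_mem hχ).one_eq, h, Nat.cast_inj]

variable [Fact p.Prime]

theorem filter_eq_ker {P : Subgroup G} [P.Normal] (hP : IsPGroup p P) (hi : ¬ p ∣ P.index) :
    ((Irr (⊤ : Subgroup G)).filter fun χ => ¬ p ∣ charDegree χ) = IrrKer ⊤ ⁅P, P⁆ ∧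
      ∀ χ ∈ IrrKer ⊤ ⁅P, P⁆, charDegree χ ∣ P.index := by
  have hn := nrm_of_normal ⊤ P
  have key : ∀ χ ∈ IrrKer ⊤ ⁅P, P⁆, charDegree χ ∣ P.index := by
    intro χ hχ
    have h1 := irrOn_of_mem (IrrKer_subset hχ)
    obtain ⟨θ, hθ, hd⟩ := (h1.charOn.mono le_top).exists_constituent (H := P) h1.one_ne_zero
    have h2 := irrOn_of_mem hθ
    have h3 := (triv_iff_of_dot le_top (Subgroup.commutator_le_left _ _) (nrm_of_normal _ _) h1 h2 hd).1
      (mem_IrrKer.1 hχ).2
    have := deg_dvd_relIndex_mul le_top hn h1 h2 hd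
    rwa [(h2.linOn_iff.2 h3).deg, mul_one, Subgroup.relIndex_top_right] at this
  refine ⟨?_, key⟩
  ext χ
  rw [mem_filter, mem_IrrKer]
  refine and_congr_right fun hχ => ⟨fun h => ?_, fun h h' => hi (h'.trans (key χ (mem_IrrKer.2 ⟨hχ, h⟩)))⟩
  have h1 := irrOn_of_mem hχ
  obtain ⟨θ, hθ, hd⟩ := (h1.charOn.mono le_top).exists_constituent (H := P) h1.one_ne_zero
  have h2 := irrOn_of_mem hθ
  refine (triv_iff_of_dot le_top (Subgroup.commutator_le_left _ _) (nrm_of_normal _ _) h1 h2 hd).2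
    (h2.linOn_iff.1 (h2.charOn.linOn_of_deg ?_))
  obtain ⟨n, hn'⟩ := IsPGroup.iff_card.1 hP
  obtain ⟨k, -, hk⟩ := (Nat.dvd_prime_pow Fact.out).1 (hn' ▸ h2.deg_dvd_card)
  have h4 := deg_dvd_of_dot le_top hn h1 h2 hd
  rcases k with _ | k
  · simpa using hk
  · exact absurd ((hk ▸ dvd_pow_self p k.succ_ne_zero).trans h4) h

theorem mk_of_comm {P : Subgroup G} [P.Normal] (hP : IsPGroup p P) (hi : ¬ p ∣ P.index)
    (hc : ∀ a ∈ P, ∀ b ∈ P, a * b = b * a) : mk G p = Nat.card (ConjClasses G) := by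
  have : ⁅P, P⁆ = ⊥ := by
    rw [Subgroup.commutator_eq_bot_iff_le_centralizer]
    exact fun a ha => Subgroup.mem_centralizer_iff.2 fun b hb => hc b hb a ha
  rw [mk_eq, (filter_eq_ker hP hi).1, this, ← card_irrCharacter_eq, ← card_Irr_top]
  exact congrArg card (Finset.ext fun χ => mem_IrrKer.trans (and_iff_left (triv_bot χ)))

theorem mk_of_pgroup (hG : IsPGroup p G) : mk G p = (commutator G).index := by
  rw [mk_eq, (filter_eq_ker (P := ⊤) (hG.to_subgroup _) (by
    rw [Subgroup.index_top]; exact (Fact.out : p.Prime).not_dvd_one)).1,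
    card_IrrKer_of_abelian le_top (nrm_of_normal _ _) le_rfl, Subgroup.relIndex_top_right]
  rfl

theorem mk_24 {P : Subgroup G} [P.Normal] (hP : IsPGroup 2 P) (hi : P.index = 3)
    (hc : ⁅P, P⁆.relIndex P = 4) (hna : ¬ commutator G ≤ ⁅P, P⁆) : mk G 2 = 4 := by
  obtain ⟨h1, h2⟩ := filter_eq_ker hP (by rw [hi]; decide)
  rw [mk_eq, h1]
  have h3 := sum_IrrKer_deg_sq (K := ⊤) (N := ⁅P, P⁆) le_top (nrm_of_normal _ _)
  rw [Subgroup.relIndex_top_right, ← Subgroup.relIndex_mul_index (Subgroup.commutator_le_left P P), hc,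
    hi] at h3
  obtain ⟨x, hx, hx'⟩ := SetLike.not_le_iff_exists.1 hna
  obtain ⟨β, hβ, hne⟩ := exists_IrrKer_ne (K := ⊤) le_top (nrm_of_normal _ _) hx'
  have hd : ∀ χ ∈ IrrKer ⊤ ⁅P, P⁆, charDegree χ = 1 ∨ charDegree χ = 3 := fun χ hχ =>
    (Nat.dvd_prime Nat.prime_three).1 (hi ▸ h2 χ hχ)
  have hβ3 : charDegree β = 3 := (hd β hβ).resolve_left fun e => by
    have i := irrOn_of_mem (IrrKer_subset hβ)
    exact hne (i.linOn_iff.1 (i.charOn.linOn_of_deg e) x hx)
  rw [← add_sum_erase _ _ hβ, hβ3] at h3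
  have h4 : ∀ χ ∈ (IrrKer ⊤ ⁅P, P⁆).erase β, charDegree χ ^ 2 = 1 := by
    intro χ hχ
    rcases hd χ (mem_of_mem_erase hχ) with e | e
    · rw [e]; rfl
    · have := single_le_sum (f := fun χ : G → ℂ => charDegree χ ^ 2) (fun _ _ => Nat.zero_le _) hχ
      simp only [e] at this
      omega
  rw [sum_congr rfl h4, sum_const, smul_eq_mul, mul_one, card_erase_of_mem hβ] at h3
  have := card_pos.2 ⟨β, hβ⟩
  omega


theorem not_dvd_index_norm (P : Sylow p G) :
    ¬ p ∣ ((P : Subgroup G).subgroupOf (Subgroup.normalizer ((P : Subgroup G) : Set G))).index :=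
  fun h => P.not_dvd_index (h.trans (Subgroup.relIndex_dvd_index_of_le Subgroup.le_normalizer))

theorem mk_norm_comm (P : Sylow p G) (hc : ∀ a ∈ (P : Subgroup G), ∀ b ∈ (P : Subgroup G), a * b = b * a) :
    mk (Subgroup.normalizer ((P : Subgroup G) : Set G)) p =
      Nat.card (ConjClasses (Subgroup.normalizer ((P : Subgroup G) : Set G))) :=
  mk_of_comm (P := (P : Subgroup G).subgroupOf _)
    (P.isPGroup'.comap_of_injective _ (Subgroup.subtype_injective _)) (not_dvd_index_norm P)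
    fun _ ha _ hb => Subtype.ext (hc _ ha _ hb)

omit [Finite G] [Fact p.Prime] in
theorem mk_norm_top (P : Subgroup G) (h : Subgroup.normalizer (P : Set G) = ⊤) :
    mk G p = mk (Subgroup.normalizer (P : Set G)) p := by
  rw [h]; exact mk_congr Subgroup.topEquiv.symm


theorem mk_norm_24 (S : Sylow 2 G) (hc : Nat.card (S : Subgroup G) = 8) (hS : mk (S : Subgroup G) 2 = 4)
    (hN : Nat.card (Subgroup.normalizer ((S : Subgroup G) : Set G)) = 24)
    (hC : ∀ x ∈ Subgroup.centralizer ((S : Subgroup G) : Set G), x ^ 2 = 1) :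
    mk (Subgroup.normalizer ((S : Subgroup G) : Set G)) 2 = 4 := by
  set N := Subgroup.normalizer ((S : Subgroup G) : Set G) with hNdef
  set P := (S : Subgroup G).subgroupOf N with hPdef
  let f : P ≃* (S : Subgroup G) := Subgroup.subgroupOfEquivOfLe Subgroup.le_normalizer
  have hP : IsPGroup 2 P := S.isPGroup'.of_equiv f.symm
  have hPc : Nat.card P = 8 := (Nat.card_congr f.toEquiv).trans hc
  have hi : P.index = 3 := by
    have := P.card_mul_index
    rw [hPc, hN] at this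
    omega
  have hr : ⁅P, P⁆.relIndex P = 4 := by
    rw [← Subgroup.map_subtype_commutator, Subgroup.relIndex, Subgroup.subgroupOf,
      Subgroup.comap_map_eq_self_of_injective P.subtype_injective, ← mk_of_pgroup hP, mk_congr f, hS]
  refine mk_24 hP hi hr fun hle => ?_
  have hc2 : Nat.card ↥⁅P, P⁆ = 2 := by
    have := Clifford.card_mul_relIndex (Subgroup.commutator_le_left P P)
    rw [hr, hPc] at this
    omega
  obtain ⟨x, hx⟩ := exists_prime_orderOf_dvd_card' (G := N) 3 (by rw [hN]; decide)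
  have hx3 : x ^ 3 = 1 := hx ▸ pow_orderOf_eq_one x
  have hxC : (x : G) ∈ Subgroup.centralizer ((S : Subgroup G) : Set G) := by
    rw [Subgroup.mem_centralizer_iff]
    intro y hy
    let y' : N := ⟨y, Subgroup.le_normalizer hy⟩
    obtain ⟨c, hcd⟩ : ∃ c, c = x * y' * x⁻¹ * y'⁻¹ := ⟨_, rfl⟩
    have h1 : c ∈ ⁅P, P⁆ := hcd ▸ hle (Subgroup.commutator_mem_commutator (H₁ := ⊤) (H₂ := ⊤) trivial trivial)
    have h4 : c ^ 2 = 1 := by
      have := pow_card_eq_one' (x := (⟨_, h1⟩ : ↥⁅P, P⁆))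
      rw [hc2] at this
      exact congrArg Subtype.val this
    have h5 : x * c * x⁻¹ = c := by
      by_cases e : c = 1
      · simp [e]
      obtain ⟨d, -, hd⟩ := (Nat.card_eq_two_iff' (1 : ↥⁅P, P⁆)).1 hc2
      have a := hd ⟨c, h1⟩ fun h => e (congrArg Subtype.val h)
      have b := hd ⟨x * c * x⁻¹, (inferInstance : ⁅P, P⁆.Normal).conj_mem _ h1 x⟩ fun h => e (by
        have := congrArg Subtype.val h
        simpa using this)
      exact congrArg Subtype.val (b.trans a.symm)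
    have h6 : x * y' * x⁻¹ = c * y' := by rw [hcd]; group
    have h7 : x ^ 3 * y' * (x ^ 3)⁻¹ = c ^ 2 * c * y' := by
      calc x ^ 3 * y' * (x ^ 3)⁻¹ = x * (x * (x * y' * x⁻¹) * x⁻¹) * x⁻¹ := by
            simp only [pow_succ, pow_zero]; group
        _ = x * (x * (c * y') * x⁻¹) * x⁻¹ := by rw [h6]
        _ = x * ((x * c * x⁻¹) * (x * y' * x⁻¹)) * x⁻¹ := by group
        _ = x * (c * (c * y')) * x⁻¹ := by rw [h5, h6]
        _ = (x * c * x⁻¹) * (x * c * x⁻¹) * (x * y' * x⁻¹) := by group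
        _ = _ := by rw [h5, h6]; simp only [pow_succ, pow_zero]; group
    rw [hx3, h4] at h7
    have h8 : c = 1 := by simpa using h7.symm
    rw [h8, one_mul, mul_inv_eq_iff_eq_mul] at h6
    exact (congrArg Subtype.val h6).symm
  have h9 : x ^ 2 = 1 := Subtype.ext (hC _ hxC)
  have := orderOf_dvd_of_pow_eq_one h9
  rw [hx] at this
  omega

theorem index_commutator_quat (k : ℕ) :
    (commutator (QuaternionGroup (2 ^ (k + 1)))).index = 4 := by
  have : NeZero (2 ^ (k + 1)) := ⟨by positivity⟩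
  have ho : orderOf (QuaternionGroup.a 1 : QuaternionGroup (2 ^ (k + 1))) = 2 ^ (k + 2) := by
    rw [QuaternionGroup.orderOf_a_one]; ring
  refine PGrp.Max2.index_commutator (a := QuaternionGroup.a 1) (b := QuaternionGroup.xa 0) (m := k)
    ⟨ho, ?_, ?_, Or.inr (Or.inl ⟨?_, ?_⟩)⟩
  · have := (Subgroup.zpowers (QuaternionGroup.a 1 : QuaternionGroup (2 ^ (k + 1)))).card_mul_index
    rw [Nat.card_zpowers, ho, Nat.card_eq_fintype_card, QuaternionGroup.card] at this
    refine Nat.eq_of_mul_eq_mul_left (n := 2 ^ (k + 2)) (by positivity) ?_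
    rw [this]; ring
  · intro h
    obtain ⟨n, hn⟩ := (mem_powers_iff_mem_zpowers.2 h)
    simp at hn
  · rw [QuaternionGroup.xa_sq, QuaternionGroup.a_one_pow]
  · rw [mul_inv_eq_iff_eq_mul, eq_inv_mul_iff_mul_eq]
    simp

end

section
open Cfsg.Lib.Linear Matrix
variable {F : Type*} [Field F] [Fintype F] {ℓ : ℕ} [Fact ℓ.Prime]

theorem deg_cases (hodd : Odd (Fintype.card F)) {χ : SL2 F → ℂ} (h : IsIrrCharacter _ χ) :
    charDegree χ = 1 ∨ charDegree χ = Fintype.card F ∨ charDegree χ = Fintype.card F + 1 ∨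
      charDegree χ = Fintype.card F - 1 ∨ charDegree χ = (Fintype.card F + 1) / 2 ∨
        charDegree χ = (Fintype.card F - 1) / 2 := by
  have h1 : 1 ≤ Fintype.card F := Fintype.card_pos
  rcases (S2299.result hodd).1 χ h with e | e | e | e | e | e
  · exact Or.inl (charDegree_of_eq (by simpa using e))
  · exact Or.inr (Or.inl (charDegree_of_eq e))
  · exact Or.inr (Or.inr (Or.inl (charDegree_of_eq (by simpa using e))))
  · exact Or.inr (Or.inr (Or.inr (Or.inl (charDegree_of_eq (by rw [e, Nat.cast_sub h1, Nat.cast_one])))))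
  · exact Or.inr (Or.inr (Or.inr (Or.inr (Or.inl (charDegree_of_eq e)))))
  · exact Or.inr (Or.inr (Or.inr (Or.inr (Or.inr (charDegree_of_eq e)))))

theorem cnts (hodd : Odd (Fintype.card F)) (h5 : 5 ≤ Fintype.card F) :
    cnt (SL2 F) (Fintype.card F + 1) = (Fintype.card F - 3) / 2 ∧
    cnt (SL2 F) (Fintype.card F - 1) = (Fintype.card F - 1) / 2 ∧
    cnt (SL2 F) ((Fintype.card F + 1) / 2) = 2 ∧ cnt (SL2 F) ((Fintype.card F - 1) / 2) = 2 := by
  obtain ⟨-, -, h1, h2, h3, h4⟩ := (S2299.result hodd).2 h5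
  exact ⟨(cnt_eq (by simp)).symm.trans h1,
    (cnt_eq (by rw [Nat.cast_sub (by omega), Nat.cast_one])).symm.trans h2,
    (cnt_eq rfl).symm.trans h3, (cnt_eq rfl).symm.trans h4⟩

theorem cnt_q (hodd : Odd (Fintype.card F)) : cnt (SL2 F) (Fintype.card F) = 1 := by
  classical
  rw [← cnt_eq rfl]
  have h2 : 1 < Fintype.card F := Fintype.one_lt_card
  obtain ⟨m, hm⟩ := hodd
  refine card_irr_eq_one (fun χ => χ 1 = (Fintype.card F : ℂ)) (StS F) fun χ => ⟨fun ⟨h, e⟩ => ?_, ?_⟩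
  · have := SL2_irr_cases' h e
    rw [Nat.card_eq_fintype_card] at this
    rcases this with h | h | h | h | h | h
    · exact absurd h.1 (by omega)
    · exact h.2
    · exact absurd h.1 (by omega)
    · exact absurd h.1 (by omega)
    · exact absurd h.2.1 (by omega)
    · exact absurd h.2.1 (by omega)
  · rintro rfl
    exact ⟨isIrr_StS, by rw [StS_apply_one, Nat.card_eq_fintype_card]⟩

theorem torus_case {A : Type*} [CommGroup A] {τ : A →* SL2 F}
    (hT : IsTorus τ) (hℓ : ℓ ≠ 2) (P : Sylow ℓ (SL2 F))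
    (h1 : ℓ ∣ Nat.card A) (h2 : ¬ ℓ ∣ τ.range.index) :
    2 * mk (Subgroup.normalizer ((P : Subgroup (SL2 F)) : Set (SL2 F))) ℓ =
      Nat.card A + 3 * Nat.gcd (Nat.card A) 2 := by
  obtain ⟨x, hx⟩ := exists_sylow_le_conj P _ h2
  rw [MonoidHom.map_range] at hx
  have hT' := hT.conj x
  have hP : (P : Subgroup (SL2 F)) ≠ ⊥ := P.ne_bot_of_dvd_card
    (h1.trans (hT.card_range ▸ Subgroup.card_subgroup_dvd_card _))
  obtain ⟨⟨g, hg⟩, hg1⟩ := (Subgroup.ne_bot_iff_exists_ne_one).1 hP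
  obtain ⟨a, rfl⟩ := hx hg
  have ha : a ^ 2 ≠ 1 := by
    intro ha
    obtain ⟨k, hk⟩ := P.isPGroup' ⟨_, hg⟩
    have h3 := orderOf_dvd_of_pow_eq_one hk
    have h4 : (⟨_, hg⟩ : P) ^ 2 = 1 := Subtype.ext (by
      rw [Subgroup.coe_pow, ← map_pow, ha, map_one]; rfl)
    have h5 : Nat.Coprime 2 (ℓ ^ k) :=
      ((Nat.coprime_primes Nat.prime_two Fact.out).2 hℓ.symm).pow_right k
    exact hg1 (orderOf_eq_one_iff.1 (Nat.eq_one_of_dvd_coprimes h5 (orderOf_dvd_of_pow_eq_one h4) h3))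
  rw [← (hT'.card_normalizer hx ha hg).2.1, mk_norm_comm P]
  intro a ha b hb
  obtain ⟨a, rfl⟩ := hx ha
  obtain ⟨b, rfl⟩ := hx hb
  exact IsTorus.comm a b

omit [Fact ℓ.Prime] in
theorem mk_G (hodd : Odd (Fintype.card F)) (D : Finset ℕ)
    (h : ∀ d, d = 1 ∨ d = Fintype.card F ∨ d = Fintype.card F + 1 ∨ d = Fintype.card F - 1 ∨
      d = (Fintype.card F + 1) / 2 ∨ d = (Fintype.card F - 1) / 2 → (ℓ ∣ d ↔ d ∈ D)) :
    mk (SL2 F) ℓ + ∑ d ∈ D, cnt (SL2 F) d = Fintype.card F + 4 :=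
  (mk_add D fun _ hχ => h _ (deg_cases hodd hχ)).trans (S2325.result hodd)

theorem two_G (hodd : Odd (Fintype.card F)) (h5 : 5 ≤ Fintype.card F) : mk (SL2 F) 2 = 4 := by
  obtain ⟨h1, h2, h3, h4⟩ := cnts hodd h5
  obtain ⟨m, hm⟩ := id hodd
  rcases Nat.even_or_odd' m with ⟨k, hk | hk⟩
  · have := mk_G (ℓ := 2) hodd {Fintype.card F + 1, Fintype.card F - 1, (Fintype.card F - 1) / 2}
      fun d hd => by simp only [mem_insert, mem_singleton]; omega
    rw [sum_insert (by simp only [mem_insert, mem_singleton]; omega),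
      sum_pair (by omega), h1, h2, h4] at this
    omega
  · have := mk_G (ℓ := 2) hodd {Fintype.card F + 1, Fintype.card F - 1, (Fintype.card F + 1) / 2}
      fun d hd => by simp only [mem_insert, mem_singleton]; omega
    rw [sum_insert (by simp only [mem_insert, mem_singleton]; omega),
      sum_pair (by omega), h1, h2, h3] at this
    omega

theorem arith16 {q : ℕ} (h : q % 8 = 3 ∨ q % 8 = 5) : ¬ 16 ∣ q * (q - 1) * (q + 1) := by
  intro h3
  have h4 := Nat.mod_eq_zero_of_dvd h3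
  rw [Nat.mul_mod, Nat.mul_mod q] at h4
  have : q % 16 = 3 ∧ (q - 1) % 16 = 2 ∧ (q + 1) % 16 = 4 ∨
      q % 16 = 5 ∧ (q - 1) % 16 = 4 ∧ (q + 1) % 16 = 6 ∨
      q % 16 = 11 ∧ (q - 1) % 16 = 10 ∧ (q + 1) % 16 = 12 ∨
      q % 16 = 13 ∧ (q - 1) % 16 = 12 ∧ (q + 1) % 16 = 14 := by
    omega
  rcases this with ⟨a, b, c⟩ | ⟨a, b, c⟩ | ⟨a, b, c⟩ | ⟨a, b, c⟩ <;> rw [a, b, c] at h4 <;> omega

theorem two_case (hodd : Odd (Fintype.card F)) (S : Sylow 2 (SL2 F)) :
    mk (SL2 F) 2 = mk (Subgroup.normalizer ((S : Subgroup (SL2 F)) : Set (SL2 F))) 2 := by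
  have hodd' : Odd (Nat.card F) := by rwa [Nat.card_eq_fintype_card]
  have h2 := two_ne_zero_of_odd hodd'
  obtain ⟨hC, hN1, hN2⟩ := S2431.result hodd S
  obtain ⟨k, hk, ⟨e⟩⟩ : ∃ k, 1 ≤ k ∧ Nonempty ((S : Subgroup (SL2 F)) ≃* QuaternionGroup (2 ^ k)) := by
    refine (sl2_two_subgroup h2 S.isPGroup').resolve_left fun hc => ?_
    obtain ⟨φ, hφ⟩ := exists_hom_quaternion_two h2
    obtain ⟨T, hT⟩ := (isPGroup_quaternion_two.of_surjective _ φ.rangeRestrict_surjective).exists_le_sylow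
    have : IsCyclic (T : Subgroup (SL2 F)) := isCyclic_of_surjective _ (S.equiv T).surjective
    have := Subgroup.isCyclic_of_le hT
    exact not_isCyclic_quaternion_two (isCyclic_of_surjective _ (MonoidHom.ofInjective hφ).symm.surjective)
  obtain ⟨k, rfl⟩ := Nat.exists_eq_add_of_le' hk
  have hq : 1 < Fintype.card F := Fintype.one_lt_card
  have hS : mk (S : Subgroup (SL2 F)) 2 = 4 := by
    have : NeZero (2 ^ (k + 1)) := ⟨by positivity⟩
    rw [mk_congr e, mk_of_pgroup (S.isPGroup'.of_equiv e), index_commutator_quat]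
  obtain ⟨m, hm⟩ := id hodd
  by_cases h8 : Fintype.card F % 8 = 1 ∨ Fintype.card F % 8 = 7
  · rw [hN1 h8, hS, two_G hodd (by omega)]
  replace hN2 := hN2 (by omega)
  have hG := card_SL_two (F := F)
  rw [Nat.card_eq_fintype_card (α := F)] at hG
  have hc : Nat.card (S : Subgroup (SL2 F)) = 8 := by
    have : NeZero (2 ^ (k + 1)) := ⟨by positivity⟩
    have h1 := Nat.card_congr e.toEquiv
    rw [Nat.card_eq_fintype_card (α := QuaternionGroup _), QuaternionGroup.card] at h1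
    rcases k with _ | k
    · exact h1
    have h3 : 16 ∣ Nat.card (SL2 F) :=
      (show 16 ∣ 4 * 2 ^ (k + 1 + 1) from ⟨2 ^ k, by ring⟩).trans
        (h1 ▸ (S : Subgroup (SL2 F)).card_subgroup_dvd_card)
    exact absurd (h3.trans (dvd_of_eq hG)) (arith16 (by omega))
  rw [hc] at hN2
  by_cases h3 : Fintype.card F = 3
  · refine mk_norm_top _ (Subgroup.eq_top_of_card_eq _ (hN2.trans (Eq.trans ?_ hG.symm)))
    rw [h3]
  rw [two_G hodd (by omega), mk_norm_24 S hc hS hN2]
  intro x hx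
  rcases SL2_mem_center_iff'.1 (hC ▸ hx) with rfl | rfl <;> simp

theorem char_case (hodd : Odd (Fintype.card F)) [CharP F ℓ] (S : Sylow ℓ (SL2 F)) :
    mk (Subgroup.normalizer ((S : Subgroup (SL2 F)) : Set (SL2 F))) ℓ = Fintype.card F + 3 := by
  obtain ⟨x, hx⟩ := exists_sylow_eq_pU (centralP'_SL (K := F) (p := ℓ)) pFix_of_finite S
  rw [mk_norm_comm S fun a ha b hb => (centralP'_SL (K := F) (p := ℓ)).commute
    ((mem_pU _).1 (hx ▸ ha)).1 ((mem_pU _).1 (hx ▸ hb)).1, ← S2437.result hodd]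
  obtain ⟨g, hg⟩ := exists_sl_smul_inf_eq x
  have : Subgroup.normalizer ((S : Subgroup (SL2 F)) : Set (SL2 F)) =
      ((upperTriangularGL 2 F).comap SpecialLinearGroup.toGL).map (MulAut.conj g).toMonoidHom := by
    ext t
    rw [hx, mem_normalizer_pU _ (pU_SL_ne_bot x), Subgroup.mem_map_equiv, mem_upperS_two,
      ← sl_smul_inf_eq_inf, ← hg, MulAut.conj_symm_apply, map_mul, map_mul, map_inv, mul_smul, mul_smul,
      inv_smul_eq_iff]
  rw [this]
  exact (card_conjClasses_congr (Subgroup.equivMapOfInjective _ _ (MulAut.conj g).injective)).symm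

theorem main (hodd : Odd (Fintype.card F)) (S : Sylow ℓ (SL2 F)) :
    mk (SL2 F) ℓ = mk (Subgroup.normalizer ((S : Subgroup (SL2 F)) : Set (SL2 F))) ℓ := by
  have hp : ℓ.Prime := Fact.out
  by_cases h2 : ℓ = 2
  · subst h2; exact two_case hodd S
  have hq : 1 < Fintype.card F := Fintype.one_lt_card
  have hG := card_SL_two (F := F)
  have hn := Nat.card_eq_fintype_card (α := F)
  rw [hn] at hG
  obtain ⟨m, hm⟩ := id hodd
  have n1 : ¬ ℓ ∣ 1 := hp.not_dvd_one
  have n2 : ¬ ℓ ∣ 2 := fun h => h2 ((Nat.prime_dvd_prime_iff_eq hp Nat.prime_two).1 h)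
  have n3 : 3 ≤ ℓ := by have := hp.two_le; omega
  have hm1 : Fintype.card F - 1 = 2 * m := by omega
  have hm2 : Fintype.card F + 1 = 2 * (m + 1) := by omega
  have hm3 : (Fintype.card F - 1) / 2 = m := by omega
  have hm4 : (Fintype.card F + 1) / 2 = m + 1 := by omega
  have d2 : ∀ a, ℓ ∣ 2 * a ↔ ℓ ∣ a := fun a => hp.dvd_mul.trans (or_iff_right n2)
  have e1 : ℓ ∣ m → ¬ ℓ ∣ m + 1 := fun a b => n1 ((Nat.dvd_add_right a).1 b)
  have e2 : ℓ ∣ m → ¬ ℓ ∣ Fintype.card F := fun a b =>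
    n1 ((Nat.dvd_add_right (a.mul_left 2)).1 (hm ▸ b))
  have e3 : ℓ ∣ m + 1 → ¬ ℓ ∣ Fintype.card F := fun a b =>
    n1 ((Nat.dvd_add_right b).1 (hm2 ▸ a.mul_left 2))
  by_cases c1 : ℓ ∣ Fintype.card F
  · have : CharP F ℓ := by
      obtain ⟨r, hr⟩ := CharP.exists F
      obtain ⟨n, h1, h3⟩ := FiniteField.card F r
      rwa [(Nat.prime_dvd_prime_iff_eq hp h1).1 (hp.dvd_of_dvd_pow (h3 ▸ c1))]
    have h := mk_G (ℓ := ℓ) hodd {Fintype.card F} fun d hd => by
      rw [mem_singleton]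
      refine ⟨fun h => ?_, fun h => h ▸ c1⟩
      rw [hm3, hm4, hm1, hm2] at hd
      rcases hd with rfl | rfl | rfl | rfl | rfl | rfl
      · exact absurd h n1
      · rfl
      · exact absurd c1 (e3 ((d2 _).1 h))
      · exact absurd c1 (e2 ((d2 _).1 h))
      · exact absurd c1 (e3 h)
      · exact absurd c1 (e2 h)
    rw [sum_singleton, cnt_q hodd] at h
    rw [char_case hodd]
    omega
  by_cases c2 : ℓ ∣ m
  · have := Nat.le_of_dvd (by omega) c2
    obtain ⟨-, h3, -, h4⟩ := cnts hodd (by omega)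
    have h := mk_G (ℓ := ℓ) hodd {Fintype.card F - 1, (Fintype.card F - 1) / 2} fun d hd => by
      rw [mem_insert, mem_singleton]
      rw [hm3, hm4, hm1, hm2] at hd
      rw [hm3, hm1]
      refine ⟨fun h => ?_, fun h => by rcases h with rfl | rfl; exacts [c2.mul_left 2, c2]⟩
      rcases hd with rfl | rfl | rfl | rfl | rfl | rfl
      · exact absurd h n1
      · exact absurd h c1
      · exact absurd ((d2 _).1 h) (e1 c2)
      · exact Or.inl rfl
      · exact absurd h (e1 c2)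
      · exact Or.inr rfl
    rw [sum_pair (by omega), h3, h4] at h
    have h5 := torus_case isTorus_torusS h2 S (by rw [Nat.card_units, hn, hm1]; exact c2.mul_left 2)
      fun h' => by
        have h1 := (torusS F).range.card_mul_index
        rw [card_range_torusS, hG, hn, mul_comm (Fintype.card F), mul_assoc] at h1
        rw [Nat.eq_of_mul_eq_mul_left (by omega) h1, hm2] at h'
        exact (hp.dvd_mul.1 h').elim c1 fun h => e1 c2 ((d2 _).1 h)
    rw [Nat.card_units, hn, hm1, Nat.gcd_eq_right (dvd_mul_right 2 m)] at h5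
    omega
  by_cases c3 : ℓ ∣ m + 1
  · have := Nat.le_of_dvd (by omega) c3
    obtain ⟨h3, -, h4, -⟩ := cnts hodd (by omega)
    have h := mk_G (ℓ := ℓ) hodd {Fintype.card F + 1, (Fintype.card F + 1) / 2} fun d hd => by
      rw [mem_insert, mem_singleton]
      rw [hm3, hm4, hm1, hm2] at hd
      rw [hm4, hm2]
      refine ⟨fun h => ?_, fun h => by rcases h with rfl | rfl; exacts [c3.mul_left 2, c3]⟩
      rcases hd with rfl | rfl | rfl | rfl | rfl | rfl
      · exact absurd h n1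
      · exact absurd h c1
      · exact Or.inl rfl
      · exact absurd ((d2 _).1 h) c2
      · exact Or.inr rfl
      · exact absurd h c2
    rw [sum_pair (by omega), h3, h4] at h
    have h5 := torus_case isTorus_singerS h2 S (by rw [card_U1, hn, hm2]; exact c3.mul_left 2)
      fun h' => by
        have h1 := (singerS F).range.card_mul_index
        rw [card_range_singerS, hG, hn, mul_comm] at h1
        rw [Nat.eq_of_mul_eq_mul_right (by omega) h1, hm1] at h'
        exact (hp.dvd_mul.1 h').elim c1 fun h => c2 ((d2 _).1 h)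
    rw [card_U1, hn, hm2, Nat.gcd_eq_right (dvd_mul_right 2 _)] at h5
    omega
  refine mk_norm_top _ ?_
  have : (S : Subgroup (SL2 F)) = ⊥ := by
    refine S.isPGroup'.card_eq_or_dvd.elim (Subgroup.eq_bot_of_card_eq _) fun h => ?_
    have := h.trans (S : Subgroup (SL2 F)).card_subgroup_dvd_card
    rw [hG, hm1, hm2] at this
    rcases hp.dvd_mul.1 this with h | h
    · exact absurd (hp.dvd_mul.1 h) (not_or.2 ⟨c1, fun h => c2 ((d2 _).1 h)⟩)
    · exact absurd ((d2 _).1 h) c3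
  rw [this]
  exact Subgroup.normalizer_eq_top _

end

/-- Let F be a finite field with q elements, q odd, ℓ any prime and S a Sylow ℓ-subgroup of SL₂ over F with normaliser N. Then SL₂ and N have the same number of irreducible complex characters of degree not divisible by ℓ (the McKay equality holds for SL₂ over F at every prime). -/
theorem result {F : Type*} [Field F] [Fintype F] (hodd : Odd (Fintype.card F)) (ℓ : ℕ) [Fact ℓ.Prime] (S : Sylow ℓ (Matrix.SpecialLinearGroup (Fin 2) F)) :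
    Nat.card {χ : Cfsg.IrrCharacter (Matrix.SpecialLinearGroup (Fin 2) F) // ¬ ℓ ∣ Cfsg.charDegree (χ : Matrix.SpecialLinearGroup (Fin 2) F → ℂ)} =
      Nat.card {ψ : Cfsg.IrrCharacter (Subgroup.normalizer ((S : Subgroup (Matrix.SpecialLinearGroup (Fin 2) F)) : Set (Matrix.SpecialLinearGroup (Fin 2) F))) //
        ¬ ℓ ∣ Cfsg.charDegree (ψ : Subgroup.normalizer ((S : Subgroup (Matrix.SpecialLinearGroup (Fin 2) F)) : Set (Matrix.SpecialLinearGroup (Fin 2) F)) → ℂ)} := by
  exact main hodd S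

end Cfsg.Agent.S2436
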