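import Cfsg.Statements.S2438
import Cfsg.Agent.Lib.Known.SL2Irr2

set_option autoImplicit false
open Cfsg

namespace Cfsg.Agent.S2438

open Cfsg.Lib.Known


/-- Let F be a finite field with q elements, q odd, q ≥ 5, U the upper unitriangular subgroup of SL₂ over F, and χ an irreducible complex character. The sum of the values of χ over U equals 2q, q, 0, q, 0 according as the degree of χ is q + 1, q, q − 1, (q + 1)/2, (q − 1)/2; so among these five degrees the sum vanishes exactly for the degrees q − 1 and (q − 1)/2, i.e. the irreducible characters of those two degrees are the ones whose restriction to U does not contain the trivial character (the cuspidal characters), while those of degree q + 1, q and (q + 1)/2 are not cuspidal. -/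
theorem result {F : Type*} [Field F] [Fintype F] [DecidableEq F] (hodd : Odd (Fintype.card F)) (hq : 5 ≤ Fintype.card F)
    (χ : Matrix.SpecialLinearGroup (Fin 2) F → ℂ) (hχ : Cfsg.IsIrrCharacter (Matrix.SpecialLinearGroup (Fin 2) F) χ) :
    (χ 1 = (Fintype.card F : ℂ) + 1 →
      (∑ g : Matrix.SpecialLinearGroup (Fin 2) F, if (g : Matrix (Fin 2) (Fin 2) F) 1 0 = 0 ∧ (g : Matrix (Fin 2) (Fin 2) F) 0 0 = 1 ∧ (g : Matrix (Fin 2) (Fin 2) F) 1 1 = 1 then χ g else 0) = 2 * (Fintype.card F : ℂ)) ∧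
    (χ 1 = (Fintype.card F : ℂ) →
      (∑ g : Matrix.SpecialLinearGroup (Fin 2) F, if (g : Matrix (Fin 2) (Fin 2) F) 1 0 = 0 ∧ (g : Matrix (Fin 2) (Fin 2) F) 0 0 = 1 ∧ (g : Matrix (Fin 2) (Fin 2) F) 1 1 = 1 then χ g else 0) = (Fintype.card F : ℂ)) ∧
    (χ 1 = (Fintype.card F : ℂ) - 1 →
      (∑ g : Matrix.SpecialLinearGroup (Fin 2) F, if (g : Matrix (Fin 2) (Fin 2) F) 1 0 = 0 ∧ (g : Matrix (Fin 2) (Fin 2) F) 0 0 = 1 ∧ (g : Matrix (Fin 2) (Fin 2) F) 1 1 = 1 then χ g else 0) = 0) ∧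
    (χ 1 = (((Fintype.card F + 1) / 2 : ℕ) : ℂ) →
      (∑ g : Matrix.SpecialLinearGroup (Fin 2) F, if (g : Matrix (Fin 2) (Fin 2) F) 1 0 = 0 ∧ (g : Matrix (Fin 2) (Fin 2) F) 0 0 = 1 ∧ (g : Matrix (Fin 2) (Fin 2) F) 1 1 = 1 then χ g else 0) = (Fintype.card F : ℂ)) ∧
    (χ 1 = (((Fintype.card F - 1) / 2 : ℕ) : ℂ) →
      (∑ g : Matrix.SpecialLinearGroup (Fin 2) F, if (g : Matrix (Fin 2) (Fin 2) F) 1 0 = 0 ∧ (g : Matrix (Fin 2) (Fin 2) F) 0 0 = 1 ∧ (g : Matrix (Fin 2) (Fin 2) F) 1 1 = 1 then χ g else 0) = 0) := by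
  rw [← Nat.card_eq_fintype_card] at hq hodd ⊢
  have hd := SL2_irr_degree (F := F) (by omega) χ
  have h0 : (∑ g : SL2 F, if (g : M2 F) 1 0 = 0 ∧ (g : M2 F) 0 0 = 1 ∧ (g : M2 F) 1 1 = 1 then χ g
      else 0) = ∑ b : F, χ (triS 1 b) := by
    symm
    refine Finset.sum_of_injOn (triS 1) (fun a _ b _ h => (triS_inj.1 h).2)
      (fun _ _ => Finset.mem_univ _) (fun g _ hg => if_neg fun h => hg ?_)
      (fun b _ => (if_pos (by simp [coe_triS])).symm)
    obtain ⟨a, -, h1, h2⟩ := eq_triS_of_par h.1 (h.2.1.trans h.2.2.symm)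
    obtain rfl : a = 1 := Units.ext (h1.trans h.2.1)
    exact ⟨_, Finset.mem_coe.2 (Finset.mem_univ _), h2.symm⟩
  have h1 : ∀ (Φ : SL2 F → ℂ) (c : ℂ), (∀ b, b ≠ 0 → Φ (triS 1 b) = c) →
      ∑ b : F, Φ (triS 1 b) = Φ 1 + ((Nat.card F : ℂ) - 1) * c := by
    intro Φ c h
    rw [← Finset.add_sum_erase _ _ (Finset.mem_univ (0 : F)), triS_one,
      Finset.sum_congr rfl fun b hb => h b (Finset.mem_erase.1 hb).1]
    simp [Finset.card_erase_of_mem, Nat.cast_sub Fintype.card_pos]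
  have h2 : ∀ {Φ χ'}, HalfPair Φ χ χ' → 2 * ∑ b : F, χ (triS 1 b) = ∑ b : F, Φ (triS 1 b) := by
    intro Φ χ' hp
    obtain ⟨e, he⟩ := exists_nonsquare_of_two hp.two_ne_zero
    have he0 : e ≠ 0 := fun h => he (h ▸ IsSquare.zero)
    have : ∑ b : F, χ (triS 1 b) = ∑ b : F, χ' (triS 1 b) := by
      rw [← Equiv.sum_comp (Equiv.mulLeft₀ e he0) (fun b => χ' (triS 1 b))]
      exact Finset.sum_congr rfl fun b _ => (hp.swap he (one_pow 2) b).symm
    simp only [← hp.add_apply, Finset.sum_add_distrib, ← this, two_mul]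
  have v1 : ∀ α : Ch Fˣ, ∑ b : F, RS α (triS 1 b) = 2 * Nat.card F := fun α => by
    rw [h1 _ 1 fun b hb => by rw [RS_par _ (one_pow 2) hb, Ch.map_one], RS_apply_one]; ring
  have v2 : ∀ θ : Ch (U1 F), ∑ b : F, (-RS' θ) (triS 1 b) = 0 := fun θ => by
    rw [h1 _ (-1) fun b hb => by rw [Pi.neg_apply, RS'_par _ (one_pow 2) hb, uOf_one, Ch.map_one],
      Pi.neg_apply, RS'_apply_one]; ring
  rw [h0]
  refine ⟨fun h => ?_, fun h => ?_, fun h => ?_, fun h => ?_, fun h => ?_⟩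
  · obtain ⟨α, -, rfl⟩ := hd.2.2.1.1 ⟨hχ, h⟩
    exact v1 α
  · obtain rfl := hd.2.1.1 ⟨hχ, h⟩
    rw [h1 _ 0 fun b hb => StS_par (one_pow 2) hb, StS_apply_one]; ring
  · obtain ⟨θ, -, rfl⟩ := hd.2.2.2.1.1 ⟨hχ, h⟩
    exact v2 θ
  · obtain ⟨α, χ', -, -, hp⟩ := (hd.2.2.2.2 hodd).1.1 ⟨hχ, h⟩
    have := h2 hp
    rw [v1] at this
    linear_combination this / 2
  · obtain ⟨α, χ', -, -, hp⟩ := (hd.2.2.2.2 hodd).2.1 ⟨hχ, h⟩
    have := h2 hp
    rw [v2] at this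
    linear_combination this / 2

end Cfsg.Agent.S2438
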