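import Cfsg.Statements.S2439
import Cfsg.Agent.Lib.Stein.SL

set_option autoImplicit false
open Cfsg

namespace Cfsg.Agent.S2439
open Cfsg.Lib.Stein Cfsg.Lib.Linear Cfsg.Lib.Block Cfsg.Lib.Block2 Cfsg.Lib.Char Matrix

theorem isPBlock_iff {G α : Type*} [Group G] [Finite G] [Finite α] {M : Ideal AlgInt} [M.IsMaximal] {f : IrrCharacter G → α}
    (h1 : ∀ χ ψ : IrrCharacter G, SameBlock M (χ : G → ℂ) ψ → f χ = f ψ) (h2 : Function.Surjective f)
    (h3 : Nat.card {B : Set (IrrCharacter G) // IsPBlock M B} = Nat.card α) {B : Set (IrrCharacter G)} :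
    IsPBlock M B ↔ ∃ a, B = f ⁻¹' {a} := by
  choose g hg using h2
  have h4 : Finite {B : Set (IrrCharacter G) // IsPBlock M B} := Nat.finite_of_card_ne_zero
    (h3 ▸ (Nat.card_pos_iff.2 ⟨⟨f ⟨_, isIrrCharacter_one⟩⟩, inferInstance⟩).ne')
  have h5 := (Nat.bijective_iff_injective_and_card
    (fun a => (⟨blockOf M (g a : G → ℂ), g a, rfl⟩ : {B : Set (IrrCharacter G) // IsPBlock M B}))).2
    ⟨fun a b e => by rw [← hg a, ← hg b]; exact h1 _ _ ((congrArg Subtype.val e).ge (mem_blockOf_self _)), h3.symm⟩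
  have h6 : ∀ a, blockOf M (g a : G → ℂ) = f ⁻¹' {a} := fun a => Set.ext fun χ => ⟨fun h => (h1 _ _ h).symm.trans (hg a),
    fun h => by
      obtain ⟨b, e⟩ := h5.2 ⟨_, χ, rfl⟩
      have h7 := (congrArg Subtype.val e).ge (mem_blockOf_self χ)
      rwa [← show b = a from (hg b).symm.trans ((h1 _ _ h7).trans h)]⟩
  exact ⟨fun h => let ⟨a, e⟩ := h5.2 ⟨B, h⟩; ⟨a, h6 a ▸ (congrArg Subtype.val e).symm⟩, fun ⟨a, e⟩ => ⟨g a, e.trans (h6 a).symm⟩⟩

theorem isDefectGroup_sylow {G : Type*} [Group G] [Finite G] {M : Ideal AlgInt} [M.IsMaximal] {p : ℕ} [Fact p.Prime]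
    (hM : IsPModular p M) {B : Set (IrrCharacter G)} (hB : IsPBlock M B)
    (h : blockDefect p B = (Nat.card G).factorization p) (P : Sylow p G) : IsDefectGroup p M B P := by
  obtain ⟨D, hD⟩ := hB.exists_isDefectGroup p
  obtain ⟨g, e⟩ := MulAction.exists_smul_eq G (Sylow.ofCard D (h ▸ card_defectGroup hM hB hD)) P
  exact e ▸ hD.conj g

/-- Let F be a finite field with q elements of odd characteristic p, and M a maximal ideal of the algebraic integers containing p. Then SL₂ over F has exactly three p-blocks relative to M: the irreducible character of degree q (the Steinberg character) alone; the other irreducible characters taking the same value at −1 as at 1 (the principal block); and the irreducible characters χ with χ(−1) = −χ(1). Every Sylow p-subgroup is a defect group of each of the last two blocks. -/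
theorem result {F : Type*} [Field F] [Fintype F] (p : ℕ) [Fact p.Prime] [CharP F p] (hp : p ≠ 2)
    (M : Ideal Cfsg.AlgInt) (hM : Cfsg.IsPModular p M) :
    (∀ B : Set (Cfsg.IrrCharacter (Matrix.SpecialLinearGroup (Fin 2) F)), Cfsg.IsPBlock M B ↔
      (B = {χ : Cfsg.IrrCharacter (Matrix.SpecialLinearGroup (Fin 2) F) | (χ : Matrix.SpecialLinearGroup (Fin 2) F → ℂ) 1 = (Fintype.card F : ℂ)} ∨
       B = {χ : Cfsg.IrrCharacter (Matrix.SpecialLinearGroup (Fin 2) F) | (χ : Matrix.SpecialLinearGroup (Fin 2) F → ℂ) (-1) = (χ : Matrix.SpecialLinearGroup (Fin 2) F → ℂ) 1 ∧ (χ : Matrix.SpecialLinearGroup (Fin 2) F → ℂ) 1 ≠ (Fintype.card F : ℂ)} ∨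
       B = {χ : Cfsg.IrrCharacter (Matrix.SpecialLinearGroup (Fin 2) F) | (χ : Matrix.SpecialLinearGroup (Fin 2) F → ℂ) (-1) = -(χ : Matrix.SpecialLinearGroup (Fin 2) F → ℂ) 1})) ∧
    Nat.card {B : Set (Cfsg.IrrCharacter (Matrix.SpecialLinearGroup (Fin 2) F)) // Cfsg.IsPBlock M B} = 3 ∧
    ∀ P : Sylow p (Matrix.SpecialLinearGroup (Fin 2) F),
      Cfsg.IsDefectGroup p M {χ : Cfsg.IrrCharacter (Matrix.SpecialLinearGroup (Fin 2) F) | (χ : Matrix.SpecialLinearGroup (Fin 2) F → ℂ) (-1) = (χ : Matrix.SpecialLinearGroup (Fin 2) F → ℂ) 1 ∧ (χ : Matrix.SpecialLinearGroup (Fin 2) F → ℂ) 1 ≠ (Fintype.card F : ℂ)} (P : Subgroup (Matrix.SpecialLinearGroup (Fin 2) F)) ∧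
      Cfsg.IsDefectGroup p M {χ : Cfsg.IrrCharacter (Matrix.SpecialLinearGroup (Fin 2) F) | (χ : Matrix.SpecialLinearGroup (Fin 2) F → ℂ) (-1) = -(χ : Matrix.SpecialLinearGroup (Fin 2) F → ℂ) 1} (P : Subgroup (Matrix.SpecialLinearGroup (Fin 2) F)) := by
  classical
  obtain ⟨P, U, h⟩ := hasGood_SL (F := F) p (n := 2) le_rfl
  have := hM.2.1
  have := Fintype.ofFinite (SpecialLinearGroup (Fin 2) F)
  have h2 : (2 : F) ≠ 0 := fun e => hp ((Nat.prime_dvd_prime_iff_eq Fact.out Nat.prime_two).1 ((CharP.cast_eq_zero_iff F p 2).1 e))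
  have hz : (-1 : SpecialLinearGroup (Fin 2) F) ∈ Subgroup.center _ := Subgroup.mem_center_iff.2 fun g => by simp
  have hq : p ^ (Nat.card (SpecialLinearGroup (Fin 2) F)).factorization p = Fintype.card F := by
    simpa using pow_factorization_SL (F := F) p 2
  have h3 : Nat.card {B : Set (IrrCharacter (SpecialLinearGroup (Fin 2) F)) // IsPBlock M B} = 3 := by
    have : 2 ∣ Nat.card F - 1 := by
      rw [Nat.card_eq_fintype_card]
      have := FiniteField.odd_card_of_char_ne_two (F := F) (by rwa [ringChar.eq F p])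
      omega
    rw [h.card_blocks hM, card_center_SL, Fintype.card_fin, Nat.gcd_eq_left this]
  have h4 : ∀ χ : IrrCharacter (SpecialLinearGroup (Fin 2) F), χ.1 1 = Fintype.card F ↔ χ = StI P := fun χ =>
    ⟨fun e => Subtype.ext (h.eq_St hM χ.2 (by
      rw [charDegree_eq_of_eq e, ← hq, hM.1.factorization_pow, Finsupp.single_eq_same])),
      fun e => e ▸ (h.St_one_eq h.sat).trans (by rw [h.card_U, hq])⟩
  have h5 : ∀ χ : IrrCharacter (SpecialLinearGroup (Fin 2) F), χ.1 (-1) = -χ.1 1 ↔ χ.1 (-1) ≠ χ.1 1 := fun χ => by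
    obtain ⟨l, hl⟩ := χ.2.exists_linear_of_le_center le_rfl
    have h0 := χ.2.apply_one_ne_zero
    have e1 := hl ⟨_, hz⟩ 1
    have e2 := hl ⟨_, hz⟩ (-1)
    simp only [mul_one, mul_neg, neg_neg] at e1 e2
    grind
  have h6 : St P (-1) = St P 1 := by
    have h7 : (-1 : SpecialLinearGroup (Fin 2) F) ∈ Bm P := mem_Bm.2 fun n _ => by simpa using h.center_le hz
    have := St_B (P := P) ⟨_, Bm_le h7⟩
    rw [show St P (-1) = _ from this, show St P 1 = _ from St_B 1]
    refine congrArg Nat.cast (Nat.card_congr (Equiv.setCongr (Set.ext fun c => ?_)))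
    rw [fix_out, fix_out]
    simpa [Subgroup.mem_subgroupOf] using h7
  have h7 : ∀ χ ψ : IrrCharacter (SpecialLinearGroup (Fin 2) F), SameBlock M χ.1 ψ.1 → χ.1 (-1) = χ.1 1 → ψ.1 (-1) = ψ.1 1 :=
    fun χ ψ e h8 => by_contra fun h9 => by
      have := e (-1)
      rw [centralChar, centralChar, h8, (h5 ψ).2 h9, Subgroup.centralizer_eq_top_iff_subset.2 (by simpa using hz),
        Subgroup.index_top, mul_div_assoc, div_self χ.2.apply_one_ne_zero, mul_div_assoc, neg_div,
        div_self ψ.2.apply_one_ne_zero, show ((1 : ℕ) : ℂ) * 1 - (1 : ℕ) * -1 = (2 : ℕ) by norm_num,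
        memLocalIdeal_natCast_iff hM] at this
      exact hp ((Nat.prime_dvd_prime_iff_eq Fact.out Nat.prime_two).1 this)
  have h8 : ∀ χ ψ : IrrCharacter (SpecialLinearGroup (Fin 2) F), SameBlock M χ.1 ψ.1 → χ = StI P → ψ = StI P :=
    fun χ ψ e h9 => (h.isPBlock_St hM).mem_of_sameBlock h9 e
  have h9 := @isPBlock_iff _ (Option Bool) _ _ _ M _ (fun χ => if χ = StI P then none else some (χ.1 (-1) = χ.1 1))
    (fun χ ψ e => by
      simp only [show χ = StI P ↔ ψ = StI P from ⟨h8 _ _ e, h8 _ _ e.symm⟩,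
        show χ.1 (-1) = χ.1 1 ↔ ψ.1 (-1) = ψ.1 1 from ⟨h7 _ _ e, h7 _ _ e.symm⟩]) (by
      rintro (_ | _ | _)
      · exact ⟨StI P, by simp⟩
      · obtain ⟨χ, h1, e⟩ := exists_irr_notMem_charKer (g := (-1 : SpecialLinearGroup (Fin 2) F)) fun e => h2 (by
          have : -1 = (1 : F) := by simpa using congrArg (fun g => g.1 0 0) e
          linear_combination -this)
        rw [h1.mem_charKer] at e
        exact ⟨⟨χ, h1⟩, by simp only [e, if_neg (fun e' : (⟨χ, h1⟩ : IrrCharacter _) = StI P => e (by cases e'; exact h6))]; rfl⟩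
      · refine ⟨⟨_, isIrrCharacter_one⟩, ?_⟩
        simp only [← h4]
        simpa using (show (1 : ℂ) ≠ Fintype.card F from mod_cast (Fintype.one_lt_card (α := F)).ne)) (by simpa using h3)
  have e0 := Set.ext fun χ => (h4 χ).trans (show _ ↔ χ ∈ (fun χ : IrrCharacter _ => if χ = StI P then none else
    some (decide (χ.1 (-1) = χ.1 1))) ⁻¹' {none} by simp)
  have e1 : {χ : IrrCharacter (SpecialLinearGroup (Fin 2) F) | χ.1 (-1) = χ.1 1 ∧ χ.1 1 ≠ Fintype.card F} =
      (fun χ => if χ = StI P then none else some (decide (χ.1 (-1) = χ.1 1))) ⁻¹' {some true} := Set.ext fun χ => by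
    by_cases e : χ = StI P <;> simp [h4, e]
  have e2 : {χ : IrrCharacter (SpecialLinearGroup (Fin 2) F) | χ.1 (-1) = -χ.1 1} =
      (fun χ => if χ = StI P then none else some (decide (χ.1 (-1) = χ.1 1))) ⁻¹' {some false} := Set.ext fun χ => by
    by_cases e : χ = StI P
    · simpa [h5, e, StI] using h6
    · simp [h5, e]
  have h10 : ∀ b (Q : Sylow p (SpecialLinearGroup (Fin 2) F)), IsDefectGroup p M ((fun χ : IrrCharacter _ => if χ = StI P then none else
      some (decide (χ.1 (-1) = χ.1 1))) ⁻¹' {some b}) Q := fun b => isDefectGroup_sylow hM (h9.2 ⟨some b, rfl⟩)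
    ((h.eq_or_full hM (h9.2 ⟨some b, rfl⟩)).resolve_left fun e => by simpa using e.ge (Set.mem_singleton _))
  refine ⟨fun B => h9.trans ?_, h3, fun Q => ⟨e1 ▸ h10 _ Q, e2 ▸ h10 _ Q⟩⟩
  rw [e1, e2, show {χ : IrrCharacter (SpecialLinearGroup (Fin 2) F) | χ.1 1 = Fintype.card F} = _ from e0]
  simp [Option.exists, or_comm]

end Cfsg.Agent.S2439
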