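import Cfsg.Statements.S2442
import Cfsg.Agent.Lib.Stein.Cusp3

set_option autoImplicit false
open scoped MatrixGroups
open Cfsg

namespace Cfsg.Agent.S2442
open Cfsg.Lib.Stein.Green Cfsg.Lib.Char Polynomial Finset

open Classical in
/-- Let F be a finite field with q elements and n ≥ 2. Call a complex character χ of GL_n over F cuspidal when, for every 0 < m < n, the sum of χ over the subgroup of matrices that agree with the identity outside the upper right m × (n − m) block vanishes (the restriction of χ to the unipotent radical of each maximal standard parabolic subgroup contains no principal constituent). Then GL_n has at least φ(qⁿ − 1)/n distinct cuspidal irreducible characters of degree (q − 1)(q² − 1)⋯(q^(n−1) − 1), φ being Euler's function (in particular at least one). -/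
theorem result {F : Type*} [Field F] [Fintype F] [DecidableEq F] (n : ℕ) (hn : 2 ≤ n) :
    Nat.totient (Fintype.card F ^ n - 1) / n ≤
      Nat.card {χ : Cfsg.IrrCharacter (GL (Fin n) F) //
        (χ : GL (Fin n) F → ℂ) 1 = ∏ i ∈ Finset.Ico 1 n, ((Fintype.card F : ℂ) ^ i - 1) ∧
        ∀ m : ℕ, 0 < m → m < n →
          (∑ g : GL (Fin n) F,
            if (∀ i j : Fin n, ¬ (i.val < m ∧ m ≤ j.val) → (g : Matrix (Fin n) (Fin n) F) i j = (1 : Matrix (Fin n) (Fin n) F) i j)
            then (χ : GL (Fin n) F → ℂ) g else 0) = 0} := by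
  obtain ⟨p, hp⟩ := CharP.exists F
  have : Fact p.Prime := ⟨CharP.char_is_prime F p⟩
  set M := n.factorial * (Nat.card (GL (Fin n) F)).totient with hM
  have : NeZero M := ⟨mul_ne_zero n.factorial_ne_zero (Nat.totient_pos.2 Nat.card_pos).ne'⟩
  let K := FiniteField.Extension F p M
  have := Fintype.ofFinite K
  have : CharP K p := charP_of_injective_algebraMap (algebraMap F K).injective p
  have hc : Nat.card K = Nat.card F ^ M := FiniteField.natCard_extension F p M
  have hq := Finite.one_lt_card (α := F)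
  have hK : ∀ f : F[X], f.natDegree ≤ Module.finrank F (Fin n → F) → (f.map (algebraMap F K)).Splits := fun f hf => by
    rw [Module.finrank_fin_fun] at hf
    induction f using UniqueFactorizationMonoid.induction_on_prime with
    | h₁ => simp
    | h₂ f h => obtain ⟨c, -, rfl⟩ := Polynomial.isUnit_iff.1 h; simp
    | h₃ f g h0 hg ih =>
      rw [natDegree_mul hg.ne_zero h0] at hf
      rw [Polynomial.map_mul]
      refine .mul (.of_dvd (IsSplittingField.splits K (X ^ Nat.card F ^ M - X)) (map_ne_zero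
        (FiniteField.X_pow_card_pow_sub_X_ne_zero _ (NeZero.ne M) hq)) (Polynomial.map_dvd _ ?_)) (ih (by omega))
      exact hg.irreducible.natDegree_dvd_iff_dvd_X_pow_card_pow_sub_X.1
        ((Nat.dvd_factorial hg.irreducible.natDegree_pos (by omega)).mul_right _)
  have hG : ∀ g : GL (Fin n) F, ¬ p ∣ orderOf g → orderOf g ∣ Nat.card K - 1 := fun g hg => by
    obtain ⟨k, -, hk⟩ := FiniteField.card F p
    have h1 : (Nat.card F).Coprime (orderOf g) := by
      rw [Nat.card_eq_fintype_card, hk]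
      exact ((Nat.Prime.coprime_iff_not_dvd Fact.out).2 hg).pow_left _
    obtain ⟨c, hc'⟩ := (Nat.totient_dvd_of_dvd (orderOf_dvd_natCard g)).mul_left n.factorial
    rw [hc, hM, hc', pow_mul]
    exact (Nat.modEq_iff_dvd' (Nat.one_le_pow _ _ (by positivity))).1
      (by simpa using ((Nat.ModEq.pow_totient h1).pow c).symm)
  have h1 := Nat.one_lt_pow (show n ≠ 0 by omega) hq
  have hN : Nat.card F ^ n - 1 ∣ Nat.card K - 1 := by
    rw [hc]
    exact Nat.pow_sub_one_dvd_pow_sub_one _ ((Nat.dvd_factorial (by omega) le_rfl).mul_right _)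
  obtain ⟨ζ, hζ⟩ := Cfsg.Lib.Elu.exists_primRoot hN
  have h0 : 0 < Nat.card F ^ n - 1 := Nat.sub_pos_of_lt h1
  choose θ hθ hθ' using fun ω : primitiveRoots (Nat.card F ^ n - 1) ℂ =>
    exists_char hN hζ ((mem_primitiveRoots h0).1 ω.2)
  have h2 : ∀ ω : primitiveRoots (Nat.card F ^ n - 1) ℂ, ω.1 * starRingEnd ℂ ω.1 = 1 := fun ω => by
    rw [Complex.mul_conj, Complex.normSq_eq_norm_sq, ((mem_primitiveRoots h0).1 ω.2).norm'_eq_one h0.ne']; simp
  have h3 : ∀ ω ω', classInner (fun g => (-1) ^ (n - 1) * dl F n (θ ω) g) (fun g => (-1) ^ (n - 1) * dl F n (θ ω') g) =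
      #{i ∈ range n | ω.1 ^ Nat.card F ^ i = ω'} := fun ω ω' => by
    have := inner_dl (θ := θ ω) (θ' := θ ω') (by omega : 0 < n) hζ
    simp only [hθ', ← h2 ω', mul_left_inj' (right_ne_zero_of_mul_eq_one (h2 ω'))] at this
    rw [← this, classInner, classInner]
    congr 2
    funext g
    rw [map_mul, map_pow, map_neg, map_one, mul_mul_mul_comm, ← mul_pow]; simp
  have h4 : ∀ ω, (-1) ^ (n - 1) * dl F n (θ ω) 1 = ∏ i ∈ Ico 1 n, ((Nat.card F : ℂ) ^ i - 1) := fun ω => by
    obtain ⟨m, rfl⟩ := Nat.exists_eq_succ_of_ne_zero (show n ≠ 0 by omega)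
    rw [dl, Units.val_one, Matrix.toLin'_one, ← Module.End.one_eq_id, P_one psi_mul (by
      rw [psi, ← C_1, Polynomial.map_sub, map_X, map_C, roots_X_sub_C]; simp) (Module.finrank_fin_fun F),
      ← Nat.card_Ico 1, ← prod_neg]
    simp
  have h5 : ∀ ω, classInner (fun g => (-1) ^ (n - 1) * dl F n (θ ω) g) (fun g => (-1) ^ (n - 1) * dl F n (θ ω) g) = 1 :=
    fun ω => by
      rw [h3, card_eq_one.2 ⟨0, eq_singleton_iff_unique_mem.2 ⟨by simp; omega, fun i hi => ?_⟩⟩, Nat.cast_one]
      obtain ⟨h6, h7⟩ := mem_filter.1 hi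
      have h8 := Nat.one_le_pow i _ (zero_lt_one.trans hq)
      have h9 := Nat.pow_lt_pow_right hq (mem_range.1 h6)
      rw [← Nat.sub_add_cancel h8, pow_succ, mul_eq_right₀ (left_ne_zero_of_mul_eq_one (h2 ω))] at h7
      have := Nat.eq_zero_of_dvd_of_lt (((mem_primitiveRoots h0).1 ω.2).dvd_of_pow_eq_one _ h7) (by omega)
      exact (Nat.pow_eq_one.1 (show Nat.card F ^ i = 1 by omega)).resolve_left hq.ne'
  have h6 : ∀ ω, IsIrrCharacter _ fun g => (-1) ^ (n - 1) * dl F n (θ ω) g := fun ω => by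
    refine Cfsg.Lib.Char.Cfsg.IsGeneralizedCharacter.isIrrCharacter_of_norm_one ?_ (h5 ω) ?_
    · convert (gen_P (hθ ω) hK ⊤ _ hG ((Matrix.toLinAlgEquiv' (R := F)).toRingEquiv.toMonoidHom.comp
        (Units.coeHom _)) fun _ => inv_top).intCast_smul ((-1) ^ (n - 1)) using 2
      push_cast; rfl
    · rw [h4, prod_congr rfl fun i _ => by rw [← Nat.cast_pow, ← Nat.cast_pred (by positivity)], ← Nat.cast_prod, Complex.natCast_re]
      positivity
  rw [← Nat.card_eq_fintype_card, ← Complex.card_primitiveRoots, ← Fintype.card_coe, ← card_univ]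
  refine Nat.div_le_of_le_mul ?_
  have h7 : ∀ ω m, 0 < m → m < n → (∑ g : GL (Fin n) F, if ∀ i j : Fin n, ¬ (i.val < m ∧ m ≤ j.val) →
      g.1 i j = (1 : Matrix (Fin n) (Fin n) F) i j then (-1) ^ (n - 1) * dl F n (θ ω) g else 0) = 0 := fun ω m h0 hm => by
    have := congrArg ((-1 : ℂ) ^ (n - 1) * ·) (sum_dl (θ := θ ω) (F := F) h0 hm)
    simp only [mul_sum, mul_ite, mul_zero] at this
    convert this
  rw [Nat.card_eq_fintype_card (α := Subtype _), ← card_univ]
  refine card_le_mul_card_image_of_maps_to (f := fun ω => ⟨⟨_, h6 ω⟩, h4 ω, h7 ω⟩) (fun _ _ => mem_univ _) n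
    fun χ _ => ?_
  refine le_of_not_gt fun hlt => ?_
  obtain ⟨ω, hω⟩ := card_pos.1 (n.zero_le.trans_lt hlt)
  refine hlt.not_ge ?_
  rw [← card_image_of_injective _ Subtype.val_injective]
  refine (card_le_card fun a ha => ?_).trans ((card_image_le (f := fun i => ω.1 ^ Nat.card F ^ i)).trans (card_range n).le)
  obtain ⟨ω', hω', rfl⟩ := mem_image.1 ha
  have := h3 ω ω'
  rw [← show _ = fun g => (-1) ^ (n - 1) * dl F n (θ ω') g from
    congrArg (·.1.1) ((mem_filter.1 hω).2.trans (mem_filter.1 hω').2.symm), h5] at this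
  obtain ⟨i, hi⟩ := card_pos.1 (Nat.cast_eq_one.1 this.symm ▸ one_pos)
  exact mem_image.2 ⟨i, mem_filter.1 hi⟩

end Cfsg.Agent.S2442
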