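import Cfsg.Statements.S2450
import Cfsg.Agent.Lib.Known.PSL2

set_option autoImplicit false
open Cfsg

namespace Cfsg.Agent.S2450

open Cfsg.Lib.Known

theorem quad {F : Type*} [Field F] [Fintype F] [DecidableEq F] {A : F} (hA : A ≠ 0) (B C : F) :
    (Finset.univ.filter fun s : F => A * s ^ 2 + B * s + C = 0).card ≤ 2 := by
  by_contra h
  obtain ⟨x, y, z, hx, hy, hz, h1, h2, h3⟩ := Finset.two_lt_card_iff.1 (not_le.1 h)
  simp only [Finset.mem_filter, Finset.mem_univ, true_and] at hx hy hz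
  have e1 : A * (x + y) + B = 0 :=
    mul_left_cancel₀ (sub_ne_zero.2 h1) (by linear_combination hx - hy)
  have e2 : A * (x + z) + B = 0 :=
    mul_left_cancel₀ (sub_ne_zero.2 h2) (by linear_combination hx - hz)
  exact h3 (mul_left_cancel₀ hA (by linear_combination e1 - e2))

theorem exists_conj {F : Type*} [Field F] [Finite F] {g : SL2 F} (hg : ¬ IsScal (g : M2 F)) :
    ∃ h : SL2 F, IsConj g h ∧ (h : M2 F) 1 0 ≠ 0 := by
  obtain ⟨x, y, hxy⟩ := exists_qf_ne_zero hg
  let h : SL2 F := ⟨!![0, -(qf (g : M2 F) x y)⁻¹; qf (g : M2 F) x y, (g : M2 F).trace], by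
    simp [Matrix.det_fin_two, hxy]⟩
  refine ⟨h, isConj_SL2_of_qf (x' := 1) (y' := 0) ?_ hxy ?_, hxy⟩
  · simp [h, Matrix.trace_fin_two]
  · change qf !![0, -(qf (g : M2 F) x y)⁻¹; qf (g : M2 F) x y, (g : M2 F).trace] 1 0 = _
    rw [qf]; simp

/-- The Arad–Herzog conjecture for PSL(2,q): let F be a finite field with q ≥ 4 elements. For any two non-identity elements a, b of PSL(2,F), the set of products of a conjugate of a with a conjugate of b is not a single conjugacy class. -/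
theorem result {F : Type*} [Field F] [Fintype F] (h4 : 4 ≤ Fintype.card F)
    (a b : Matrix.ProjectiveSpecialLinearGroup (Fin 2) F) (ha : a ≠ 1) (hb : b ≠ 1) (c : Matrix.ProjectiveSpecialLinearGroup (Fin 2) F) :
    {g : Matrix.ProjectiveSpecialLinearGroup (Fin 2) F | ∃ u v : Matrix.ProjectiveSpecialLinearGroup (Fin 2) F, g = (u * a * u⁻¹) * (v * b * v⁻¹)} ≠ {g | IsConj c g} := by
  classical
  intro h
  obtain ⟨a, rfl⟩ := pmk_surjective a
  obtain ⟨b, rfl⟩ := pmk_surjective b
  obtain ⟨c, rfl⟩ := pmk_surjective c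
  obtain ⟨a', ha', ha0⟩ := exists_conj (mt pmk_eq_one_iff.2 ha)
  obtain ⟨b', hb', hb0⟩ := exists_conj (mt pmk_eq_one_iff.2 hb)
  obtain ⟨u, hu⟩ := isConj_iff.1 ha'
  obtain ⟨v, hv⟩ := isConj_iff.1 hb'
  obtain ⟨B, C, key⟩ : ∃ B C : F, ∀ s : F,
      (-((a' : M2 F) 1 0 * (b' : M2 F) 1 0) * s ^ 2 + B * s + C) ^ 2 = (c : M2 F).trace ^ 2 := by
    refine ⟨(a' : M2 F) 0 0 * (b' : M2 F) 1 0 + (a' : M2 F) 1 0 * (b' : M2 F) 1 1 -
      (a' : M2 F) 1 0 * (b' : M2 F) 0 0 - (a' : M2 F) 1 1 * (b' : M2 F) 1 0,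
      ((a' : M2 F) * (b' : M2 F)).trace, fun s => ?_⟩
    have h1 : pmk F (a' * (triS 1 s * b' * triS 1 (-s))) ∈ {g | IsConj (pmk F c) g} := by
      rw [← h]
      refine ⟨pmk F u, pmk F (triS 1 s * v), ?_⟩
      have : triS 1 (-s) = (triS 1 s : SL2 F)⁻¹ := by
        rw [eq_inv_iff_mul_eq_one, triS_mul]; simp [triS_one]
      simp only [← map_inv, ← map_mul, ← hu, ← hv, this]
      congr 1; group
    rw [trace_sq_eq_of_isConj_pmk h1]
    congr 1
    change _ = ((a' : M2 F) * ((triS 1 s : M2 F) * (b' : M2 F) * (triS 1 (-s) : M2 F))).trace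
    simp only [Matrix.trace_fin_two, m2_mul, coe_triS]
    simp
    ring
  have hA : -((a' : M2 F) 1 0 * (b' : M2 F) 1 0) ≠ 0 := neg_ne_zero.2 (mul_ne_zero ha0 hb0)
  generalize -((a' : M2 F) 1 0 * (b' : M2 F) 1 0) = A at key hA
  generalize (c : M2 F).trace = t at key
  have h1 := quad hA B (C - t)
  by_cases h2 : (2 : F) = 0
  · rw [Finset.filter_true_of_mem, Finset.card_univ] at h1
    · omega
    · intro s _
      have : (A * s ^ 2 + B * s + (C - t)) ^ 2 = 0 := by
        linear_combination key s + (t ^ 2 - t * (A * s ^ 2 + B * s + C)) * h2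
      exact pow_eq_zero_iff two_ne_zero |>.1 this
  · have h3 := quad hA B (C + t)
    have h5 := odd_card_of_two_ne_zero h2
    rw [Nat.card_eq_fintype_card, Nat.odd_iff] at h5
    have h6 : (Finset.univ : Finset F) ⊆
        (Finset.univ.filter fun s : F => A * s ^ 2 + B * s + (C - t) = 0) ∪
        (Finset.univ.filter fun s : F => A * s ^ 2 + B * s + (C + t) = 0) := by
      intro s _
      simp only [Finset.mem_union, Finset.mem_filter, Finset.mem_univ, true_and, ← mul_eq_zero]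
      linear_combination key s
    have := (Finset.card_le_card h6).trans (Finset.card_union_le _ _)
    rw [Finset.card_univ] at this
    omega

end Cfsg.Agent.S2450
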