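import Cfsg.Statements.S2455
import Cfsg.Agent.Lib.Known.Macbeath

set_option autoImplicit false
open Cfsg

namespace Cfsg.Agent.S2455

open Cfsg.Lib.Known


/-- A strong covering result in the direction of Thompson's conjecture (non-identity elements) for PSL(2,q), q odd: let F be a finite field of odd characteristic p with at least 5 elements and let x ∈ PSL(2,F) have order greater than 2 and not divisible by p (so x is not unipotent). Then every non-identity element of PSL(2,F) is a product of two conjugates of x. -/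
theorem result {F : Type*} [Field F] [Fintype F] (p : ℕ) [Fact p.Prime] [CharP F p] (hp : p ≠ 2) (h5 : 5 ≤ Fintype.card F)
    (x : Matrix.ProjectiveSpecialLinearGroup (Fin 2) F) (hx2 : 2 < orderOf x) (hxp : ¬ p ∣ orderOf x) : ∀ g : Matrix.ProjectiveSpecialLinearGroup (Fin 2) F, g ≠ 1 → ∃ u v : Matrix.ProjectiveSpecialLinearGroup (Fin 2) F, g = (u * x * u⁻¹) * (v * x * v⁻¹) := by
  intro g hg
  have h2 : (2 : F) ≠ 0 := by
    intro h
    have := (CharP.cast_eq_zero_iff F p 2).1 (by exact_mod_cast h)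
    exact hp ((Nat.prime_dvd_prime_iff_eq Fact.out Nat.prime_two).1 this)
  obtain ⟨x, rfl⟩ := pmk_surjective x
  have h4 : (x : M2 F).trace ^ 2 ≠ 4 := fun h => by
    rcases orderOf_pmk_of_trace_sq p h with h | h
    · omega
    · exact hxp (h ▸ dvd_rfl)
  have h0 : (x : M2 F).trace ≠ 0 := fun h => by
    have := Nat.le_of_dvd two_pos (orderOf_pmk_dvd_two h); omega
  obtain ⟨g, rfl, ht⟩ : ∃ h : SL2 F, pmk F h = g ∧ ((h : M2 F).trace ^ 2 ≠ 4 ∨ (h : M2 F).trace = 2) := by
    obtain ⟨h, rfl⟩ := pmk_surjective g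
    by_cases ht : (h : M2 F).trace ^ 2 = 4
    · obtain ⟨a, ha, hta⟩ := exists_sq_of_trace ht
      rcases (units_sq_eq_one_iff a).1 ha with rfl | rfl
      · exact ⟨h, rfl, Or.inr (by simpa using hta)⟩
      · exact ⟨-h, pmk_neg h, Or.inr (by rw [trace_neg_SL2, hta]; simp)⟩
    · exact ⟨h, rfl, Or.inl ht⟩
  obtain ⟨a, b, e⟩ : ∃ a b : F, a ^ 2 - (g : M2 F).trace * a * b + b ^ 2 - (x : M2 F).trace * a +
      (-(x : M2 F).trace) * b + 1 = 0 := by
    rcases ht with ht | ht
    · exact exists_conic_point h2 ht _ _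
    · refine ⟨(2 * (x : M2 F).trace)⁻¹, (2 * (x : M2 F).trace)⁻¹, ?_⟩
      rw [ht]; field_simp; ring
  obtain ⟨y, z, hy, hz, rfl⟩ := exists_mul_of_conic (mt pmk_eq_one_iff.2 hg) e
  rw [map_mul]
  exact exists_eq_conj_mul_conj (isConj_pmk_of_trace h4 (Or.inl hy))
    (isConj_pmk_of_trace h4 (Or.inr hz))

end Cfsg.Agent.S2455
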