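import Cfsg.Statements.S2456
import Cfsg.Agent.Lib.Known.Macbeath

set_option autoImplicit false
open Cfsg

namespace Cfsg.Agent.S2456

open Cfsg.Lib.Known


/-- A strong covering result in the direction of Thompson's conjecture (non-identity elements) for PSL(2,q), q even: let F be a finite field of characteristic 2 with q ≥ 4 elements and let x ∈ PSL(2,F) have order greater than 2 and not dividing q + 1. Then every non-identity element of PSL(2,F) is a product of two conjugates of x. -/
theorem result {F : Type*} [Field F] [Fintype F] [CharP F 2] (h4 : 4 ≤ Fintype.card F)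
    (x : Matrix.ProjectiveSpecialLinearGroup (Fin 2) F) (hx2 : 2 < orderOf x) (hxq : ¬ orderOf x ∣ Fintype.card F + 1) : ∀ g : Matrix.ProjectiveSpecialLinearGroup (Fin 2) F, g ≠ 1 → ∃ u v : Matrix.ProjectiveSpecialLinearGroup (Fin 2) F, g = (u * x * u⁻¹) * (v * x * v⁻¹) := by
  intro g hg
  have h2 : (2 : F) = 0 := CharP.ofNat_eq_zero F 2
  obtain ⟨x, rfl⟩ := pmk_surjective x
  obtain ⟨g, rfl⟩ := pmk_surjective g
  have h4 : (x : M2 F).trace ^ 2 ≠ 4 := fun h => by
    rcases orderOf_pmk_of_trace_sq 2 h with h | h <;> omega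
  have h5 : ¬ NoEig (x : M2 F) := fun h => by
    obtain ⟨z, -, hz⟩ := exists_isConj_singerS h
    have := isTorus_singerS.orderOf_pmk_dvd z
    rw [← orderOf_eq_of_isConj (isConj_pmk hz), card_U1, Nat.card_eq_fintype_card] at this
    exact hxq (this.trans (Nat.div_dvd_of_dvd (Nat.gcd_dvd_left _ _)))
  obtain ⟨a, b, e⟩ : ∃ a b : F, a ^ 2 - (g : M2 F).trace * a * b + b ^ 2 - (x : M2 F).trace * a +
      (x : M2 F).trace * b + 1 = 0 := by
    by_cases ht : (g : M2 F).trace = 0
    · rw [noEig_iff] at h5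
      push Not at h5
      obtain ⟨c, hc⟩ := h5
      rw [x.2] at hc
      exact ⟨c, 0, by rw [ht]; linear_combination hc⟩
    · exact exists_conic_point_two h2 ht _ _
  obtain ⟨y, z, hy, hz, rfl⟩ := exists_mul_of_conic (mt pmk_eq_one_iff.2 hg) e
  rw [map_mul]
  exact exists_eq_conj_mul_conj (isConj_pmk_of_trace h4 (Or.inl hy))
    (isConj_pmk_of_trace h4 (Or.inl hz))

end Cfsg.Agent.S2456
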