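import Cfsg.Statements.S2457
import Cfsg.Agent.Lib.BN.SzChar4

set_option autoImplicit false
open Cfsg

namespace Cfsg.Agent.S2457

open Cfsg.Lib.BN.Sz


/-- A strong covering result in the direction of Thompson's conjecture (non-identity elements) for the Suzuki groups: let q = 2^(2m+1) ≥ 8, F the field with q elements and Sz(q) the Suzuki group over F. For every element x of Sz(q) of order greater than 2, every non-identity element of Sz(q) is a product of two conjugates of x. -/
theorem result {F : Type*} [Field F] [Fintype F] (m : ℕ) (hm : 1 ≤ m) (hF : Fintype.card F = 2 ^ (2 * m + 1))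
    (x : Cfsg.Lie.Sz F (2 ^ (m + 1))) (hx2 : 2 < orderOf x) : ∀ g : Cfsg.Lie.Sz F (2 ^ (m + 1)), g ≠ 1 → ∃ u v : Cfsg.Lie.Sz F (2 ^ (m + 1)), g = (u * x * u⁻¹) * (v * x * v⁻¹) := by
  have := szField_of_card hm hF
  intro g hg
  obtain ⟨x, rfl⟩ := (szEquiv m).surjective x
  obtain ⟨g, rfl⟩ := (szEquiv m).surjective g
  have h := card_conj_pairs_ge (x := x) (g := g) (fun e => by
    rw [MulEquiv.orderOf_eq] at hx2
    exact absurd (orderOf_le_of_pow_eq_one (x := x) two_pos (by rw [pow_two, e])) (by omega)) (by rintro rfl; simp at hg)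
  have h0 : 0 < Nat.card (Cfsg.Sz F m) := Nat.card_pos
  obtain ⟨⟨⟨u, v⟩, e⟩⟩ := (Nat.card_pos_iff.1 (show 0 < _ by omega : 0 < Nat.card
    {p : Cfsg.Sz F m × Cfsg.Sz F m // p.1 * x * p.1⁻¹ * (p.2 * x * p.2⁻¹) = g})).1
  exact ⟨szEquiv m u, szEquiv m v, by simp only [← map_inv, ← map_mul, e]⟩

end Cfsg.Agent.S2457
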