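import Cfsg.Statements.S2459
import Cfsg.Agent.Lib.Linear.Sourour

set_option autoImplicit false
open Cfsg

namespace Cfsg.Agent.S2459

open Matrix Polynomial Lib.Linear Lib.Known

structure M3 where
  (a b c d e f g h i : ℕ)

def M3.mul (x y : M3) : M3 := ⟨x.a*y.a+x.b*y.d+x.c*y.g, x.a*y.b+x.b*y.e+x.c*y.h, x.a*y.c+x.b*y.f+x.c*y.i,
  x.d*y.a+x.e*y.d+x.f*y.g, x.d*y.b+x.e*y.e+x.f*y.h, x.d*y.c+x.e*y.f+x.f*y.i,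
  x.g*y.a+x.h*y.d+x.i*y.g, x.g*y.b+x.h*y.e+x.i*y.h, x.g*y.c+x.h*y.f+x.i*y.i⟩
def M3.det (x : M3) : ℕ := x.a*x.e*x.i + x.b*x.f*x.g + x.c*x.d*x.h + 2 * (x.a*x.f*x.h + x.b*x.d*x.i + x.c*x.e*x.g)
def M3.ok (x : M3) : Bool := (x.a + x.e + x.i) % 3 == 0 && (x.a*x.e + x.a*x.i + x.e*x.i + 2 * (x.b*x.d + x.c*x.g + x.f*x.h)) % 3 == 2
def M3.one (x : M3) : Bool := x.a % 3 == 1 && x.b % 3 == 0 && x.c % 3 == 0 && x.d % 3 == 0 && x.e % 3 == 1 && x.f % 3 == 0 &&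
  x.g % 3 == 0 && x.h % 3 == 0 && x.i % 3 == 1
def L : List (M3 × M3) := [(⟨0,0,1,0,1,1,2,1,2⟩,⟨1,1,2,2,1,0,1,0,0⟩), (⟨0,1,1,1,2,1,0,2,1⟩,⟨0,1,2,2,0,1,2,0,2⟩), (⟨1,1,0,2,2,1,2,1,0⟩,⟨2,0,1,2,0,2,1,1,0⟩), (⟨0,0,2,1,0,2,0,2,0⟩,⟨2,1,0,0,0,2,2,0,0⟩), (⟨2,1,2,1,1,1,2,1,0⟩,⟨2,2,2,2,2,0,2,0,1⟩), (⟨1,0,1,0,0,1,1,2,2⟩,⟨1,2,0,1,1,2,0,1,0⟩), (⟨2,2,1,2,2,0,0,2,2⟩,⟨1,1,1,2,1,2,1,2,0⟩), (⟨0,2,0,1,0,1,2,2,0⟩,⟨1,0,2,2,0,0,2,1,1⟩), (⟨1,2,2,1,0,2,2,0,2⟩,⟨0,2,1,2,1,0,0,1,1⟩), (⟨1,1,0,2,0,1,0,1,2⟩,⟨2,1,1,2,2,2,2,2,1⟩), (⟨2,1,0,0,1,2,2,0,0⟩,⟨0,0,2,1,0,2,1,2,2⟩), (⟨0,2,1,2,1,1,1,1,2⟩,⟨1,0,1,0,2,2,1,2,2⟩), (⟨2,0,2,0,0,1,1,1,1⟩,⟨2,2,0,1,0,1,0,1,0⟩), (⟨2,0,1,2,1,1,2,1,0⟩,⟨2,1,2,2,1,0,0,1,2⟩), (⟨1,0,2,1,1,0,2,2,1⟩,⟨1,1,1,2,0,2,0,1,1⟩), (⟨0,1,1,2,0,2,2,0,0⟩,⟨0,0,2,1,1,2,0,2,1⟩), (⟨0,1,2,1,2,2,0,1,1⟩,⟨0,1,1,2,0,2,1,0,2⟩),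 (⟨2,1,1,1,2,0,0,1,2⟩,⟨1,2,1,1,1,1,1,1,0⟩), (⟨2,2,1,2,0,0,2,1,1⟩,⟨0,2,0,1,0,2,2,2,2⟩), (⟨2,1,2,1,1,0,1,0,0⟩,⟨0,0,1,0,1,2,2,1,1⟩), (⟨1,2,0,1,2,1,1,1,0⟩,⟨2,0,2,1,0,2,2,1,0⟩), (⟨0,2,0,0,2,1,2,0,1⟩,⟨2,1,2,2,0,0,2,1,0⟩), (⟨1,0,1,1,2,0,0,1,0⟩,⟨0,1,1,0,0,1,1,2,2⟩), (⟨0,2,2,2,1,1,1,0,2⟩,⟨2,2,0,0,1,1,2,2,2⟩), (⟨2,0,1,2,2,2,0,2,2⟩,⟨0,2,1,2,1,1,1,2,1⟩), (⟨2,2,0,1,0,1,1,1,1⟩,⟨2,1,2,0,2,1,1,0,1⟩), (⟨2,1,1,0,0,2,1,1,1⟩,⟨1,0,2,2,1,2,0,2,0⟩), (⟨2,2,2,1,0,0,2,0,1⟩,⟨0,1,0,2,1,2,0,1,1⟩), (⟨0,1,0,0,2,2,2,0,1⟩,⟨2,2,2,1,0,0,2,2,0⟩), (⟨2,2,0,1,1,1,0,1,0⟩,⟨2,0,2,0,0,1,1,1,0⟩), (⟨2,2,2,0,2,1,2,0,2⟩,⟨1,2,1,2,0,1,2,1,1⟩), (⟨0,0,2,2,2,2,1,2,1⟩,⟨1,1,2,0,1,1,2,0,0⟩), (⟨0,2,2,1,1,0,2,0,2⟩,⟨2,2,1,1,2,2,1,1,1⟩), (⟨0,2,1,1,2,0,1,2,1⟩,⟨2,0,1,2,2,1,0,2,1⟩), (⟨1,2,0,2,1,2,1,0,1⟩,⟨1,1,1,0,1,1,2,2,0⟩),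 (⟨0,1,1,2,0,0,2,2,0⟩,⟨0,2,0,0,1,2,1,2,1⟩), (⟨0,1,0,2,2,1,0,1,1⟩,⟨1,2,1,1,0,0,2,0,1⟩), (⟨1,2,1,2,0,2,0,1,2⟩,⟨1,0,1,2,2,0,2,2,2⟩), (⟨2,1,2,2,2,1,1,0,2⟩,⟨1,1,0,0,2,2,1,1,2⟩), (⟨0,2,0,0,2,2,1,0,1⟩,⟨2,1,1,2,0,0,1,2,0⟩), (⟨1,1,1,1,0,1,0,2,2⟩,⟨1,0,1,1,2,0,2,1,2⟩), (⟨1,1,2,2,1,1,1,0,1⟩,⟨1,2,2,2,2,0,2,1,2⟩), (⟨1,2,1,2,2,1,1,1,0⟩,⟨2,1,0,1,2,1,0,1,1⟩), (⟨1,1,1,1,0,2,1,2,2⟩,⟨2,0,2,0,1,2,2,2,2⟩), (⟨1,1,0,0,1,2,2,2,1⟩,⟨0,2,2,1,1,1,1,0,1⟩), (⟨2,1,0,0,1,1,1,0,0⟩,⟨0,0,1,1,0,1,2,1,2⟩), (⟨0,2,0,1,1,1,1,1,2⟩,⟨1,2,2,2,0,0,0,2,1⟩), (⟨1,1,1,2,1,0,2,2,1⟩,⟨1,1,2,1,2,2,2,0,2⟩), (⟨2,1,1,0,1,1,2,1,0⟩,⟨2,1,0,2,1,1,1,0,2⟩), (⟨1,0,2,0,0,1,2,2,2⟩,⟨1,1,0,2,1,2,0,1,0⟩), (⟨1,1,1,0,1,2,2,1,1⟩,⟨2,0,1,1,2,1,1,1,1⟩), (⟨0,0,1,1,0,0,1,1,0⟩,⟨0,1,0,0,2,1,1,0,0⟩), (⟨0,1,2,0,0,2,2,0,0⟩,⟨0,0,2,1,2,0,0,2,0⟩),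 (⟨1,0,2,2,1,1,0,1,1⟩,⟨0,2,1,1,1,0,2,2,1⟩), (⟨2,1,1,1,0,2,1,2,1⟩,⟨2,1,2,1,1,0,2,0,2⟩), (⟨0,0,1,2,0,2,0,2,0⟩,⟨2,2,0,0,0,2,1,0,0⟩), (⟨0,1,0,1,0,2,2,0,0⟩,⟨0,0,2,1,0,0,0,2,2⟩), (⟨1,1,2,1,2,0,1,1,0⟩,⟨0,2,2,0,1,2,2,0,1⟩), (⟨0,2,0,2,2,1,1,2,1⟩,⟨0,1,2,2,0,0,2,2,2⟩), (⟨1,0,2,2,1,0,2,1,1⟩,⟨1,2,1,1,0,1,0,2,1⟩), (⟨2,1,1,0,2,2,2,1,2⟩,⟨2,2,0,1,2,2,2,0,1⟩), (⟨0,0,2,1,2,1,1,1,1⟩,⟨1,2,2,0,1,2,2,0,0⟩), (⟨2,1,0,2,1,1,0,1,0⟩,⟨2,0,1,0,0,1,2,1,0⟩), (⟨0,0,1,0,2,1,1,2,1⟩,⟨0,2,1,1,2,0,1,0,0⟩), (⟨0,0,2,2,1,0,0,1,2⟩,⟨2,2,1,2,0,1,2,0,0⟩), (⟨0,1,2,0,1,1,2,2,2⟩,⟨0,2,2,2,2,0,1,2,0⟩), (⟨1,0,1,2,2,0,0,2,0⟩,⟨0,2,1,0,0,2,1,1,2⟩), (⟨2,2,0,0,1,2,1,0,0⟩,⟨0,0,1,2,0,2,2,2,2⟩), (⟨2,2,2,2,0,1,1,0,1⟩,⟨0,1,2,2,0,2,0,2,2⟩), (⟨0,0,1,1,0,2,2,1,0⟩,⟨1,1,0,1,1,1,1,0,0⟩), (⟨1,0,2,2,2,1,2,2,0⟩,⟨1,1,2,2,2,0,0,1,2⟩)]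
def chk (x : M3) : Bool := x.det % 3 != 1 || x.one || L.any (fun D => (D.2.mul x).ok)

set_option synthInstance.maxSize 1024 in
theorem key : ∀ a b c d e f g h i : Fin 3, chk ⟨a,b,c,d,e,f,g,h,i⟩ := by
  decide +kernel

theorem key2 : ∀ D ∈ L, D.1.ok ∧ D.1.det % 3 = 1 ∧ (D.1.mul D.2).one := by
  decide +kernel

variable {F : Type*} [Field F]

def M3.toM (F : Type*) [Field F] (x : M3) : Matrix (Fin 3) (Fin 3) F := !![x.a, x.b, x.c; x.d, x.e, x.f; x.g, x.h, x.i]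

theorem toM_mul (x y : M3) : (x.mul y).toM F = x.toM F * y.toM F := by
  simp [M3.toM, M3.mul, add_assoc]

theorem charpoly_three (A : Matrix (Fin 3) (Fin 3) F) : A.charpoly = X ^ 3 - C (A 0 0 + A 1 1 + A 2 2) * X ^ 2 +
    C (A 0 0 * A 1 1 + A 0 0 * A 2 2 + A 1 1 * A 2 2 - (A 0 1 * A 1 0 + A 0 2 * A 2 0 + A 1 2 * A 2 1)) * X - C A.det := by
  simp [charpoly, det_fin_three]; ring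

variable [CharP F 3]

theorem cast_mod {n k : ℕ} (h : n % 3 = k) : (n : F) = k := by rw [← h, ← CharP.cast_eq_mod F 3]

theorem det_toM (x : M3) : (x.toM F).det = x.det := by
  have : (3 : F) = 0 := CharP.cast_eq_zero F 3
  simp [M3.toM, M3.det, det_fin_three]
  linear_combination -(x.a*x.f*x.h + x.b*x.d*x.i + x.c*x.e*x.g : F) * this

theorem toM_one {x : M3} (h : x.one) : x.toM F = 1 := by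
  simp only [M3.one, Bool.and_eq_true, beq_iff_eq] at h
  obtain ⟨⟨⟨⟨⟨⟨⟨⟨h1, h2⟩, h3⟩, h4⟩, h5⟩, h6⟩, h7⟩, h8⟩, h9⟩ := h
  rw [M3.toM, cast_mod h1, cast_mod h2, cast_mod h3, cast_mod h4, cast_mod h5, cast_mod h6, cast_mod h7, cast_mod h8,
    cast_mod h9, one_fin_three]
  simp

theorem charpoly_ok {x : M3} (h : x.ok) (hd : (x.toM F).det = 1) : (x.toM F).charpoly = X ^ 3 - X - 1 := by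
  have h3 : (3 : F) = 0 := CharP.cast_eq_zero F 3
  simp only [M3.ok, Bool.and_eq_true, beq_iff_eq] at h
  have h1 := cast_mod (F := F) h.1
  have h2 := cast_mod (F := F) h.2
  push_cast at h1 h2
  have h4 : (x.a * x.e + x.a * x.i + x.e * x.i - (x.b * x.d + x.c * x.g + x.f * x.h) : F) = -1 := by
    linear_combination h2 + (1 - (x.b*x.d + x.c*x.g + x.f*x.h : F)) * h3
  rw [charpoly_three, hd]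
  simp only [M3.toM, of_apply, cons_val', cons_val_zero, cons_val_one, cons_val_two, cons_val_fin_one, head_cons, tail_cons,
    head_fin_const, Nat.succ_eq_add_one, Nat.reduceAdd, h1, h4]
  simp [sub_eq_add_neg]

theorem three [Fintype F] (hF : Fintype.card F = 3) (A : Matrix (Fin 3) (Fin 3) F) (hd : A.det = 1) (hA : A ≠ 1) :
    CpFac A (X ^ 3 - X - 1) (X ^ 3 - X - 1) := by
  have h : ∀ t : F, ∃ k : Fin 3, t = (k : ℕ) := fun t => by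
    have : Function.Injective fun k : Fin 3 => ((k : ℕ) : F) := fun k l h =>
      Fin.ext (CharP.natCast_injOn_Iio F 3 k.2 l.2 h)
    obtain ⟨k, hk⟩ := ((Fintype.bijective_iff_injective_and_card _).2 ⟨this, by simp [hF]⟩).2 t
    exact ⟨k, hk.symm⟩
  choose k hk using h
  have hx : A = M3.toM F ⟨k (A 0 0), k (A 0 1), k (A 0 2), k (A 1 0), k (A 1 1), k (A 1 2), k (A 2 0), k (A 2 1), k (A 2 2)⟩ := by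
    simp only [M3.toM, ← hk]; exact eta_fin_three A
  have := key (k (A 0 0)) (k (A 0 1)) (k (A 0 2)) (k (A 1 0)) (k (A 1 1)) (k (A 1 2)) (k (A 2 0)) (k (A 2 1)) (k (A 2 2))
  generalize M3.mk _ _ _ _ _ _ _ _ _ = x at hx this
  subst hx
  simp only [chk, Bool.or_eq_true, bne_iff_ne, List.any_eq_true] at this
  obtain (h | h) | ⟨D, hD, h⟩ := this
  · rw [det_toM] at hd
    exact absurd ((CharP.natCast_eq_natCast F 3).1 (hd.trans Nat.cast_one.symm)) h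
  · exact absurd (toM_one h) hA
  obtain ⟨h1, h2, h3⟩ := key2 D hD
  have h4 : (D.1.toM F).det = 1 := by rw [det_toM, cast_mod h2, Nat.cast_one]
  have h5 : x.toM F = D.1.toM F * (D.2.mul x).toM F := by rw [toM_mul, ← mul_assoc, ← toM_mul, toM_one h3, one_mul]
  exact ⟨_, _, h5, charpoly_ok h1 h4, charpoly_ok h (by simpa [h4, hd] using (congrArg det h5).symm)⟩

/-- A form of Thompson's conjecture for PSL(3,q), q > 2 (covering the non-identity elements), with a semisimple class: for F a finite field of characteristic p with more than 2 elements there is an element x of PSL(3,F) of order prime to p such that every non-identity element of PSL(3,F) is a product of two conjugates of x. -/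
theorem result {F : Type*} [Field F] [Fintype F] (p : ℕ) [Fact p.Prime] [CharP F p] (h3 : 3 ≤ Fintype.card F) :
    ∃ x : Matrix.ProjectiveSpecialLinearGroup (Fin 3) F, ¬ p ∣ orderOf x ∧ ∀ g : Matrix.ProjectiveSpecialLinearGroup (Fin 3) F, g ≠ 1 → ∃ u v : Matrix.ProjectiveSpecialLinearGroup (Fin 3) F, g = (u * x * u⁻¹) * (v * x * v⁻¹) := by
  obtain ⟨f, hf, hf0, hm, hd, h⟩ : ∃ f : F[X], Squarefree f ∧ f.coeff 0 = -1 ∧ f.Monic ∧ f.natDegree = 3 ∧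
      ∀ A : Matrix (Fin 3) (Fin 3) F, A.det = 1 → (∀ c : F, A ≠ c • 1) → CpFac A f f := by
    classical
    rcases h3.eq_or_lt with h3 | h3
    · have : CharP F 3 := charP_of_card_eq_prime h3.symm
      refine ⟨X ^ 3 - X - 1, Separable.squarefree ⟨0, -1, ?_⟩, by simp, by monicity!, by compute_degree!,
        fun A hd hA => three h3.symm A hd (by simpa using hA 1)⟩
      have : (C 2 + 1 : F[X]) = 0 := by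
        rw [← C_1, ← C_add, two_add_one_eq_three, show (3 : F) = 0 from CharP.cast_eq_zero F 3, C_0]
      simp [this]
    obtain ⟨a, ha⟩ : ∃ a : F, a ∉ ({0, 1, -1} : Finset F) :=
      Finset.exists_mem_notMem_of_card_lt_card (Finset.card_le_three.trans_lt h3) |>.imp fun _ h => h.2
    simp only [Finset.mem_insert, Finset.mem_singleton, not_or] at ha
    obtain ⟨h0, h1, h2⟩ := ha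
    have hi : Function.Injective ![a, 1, a⁻¹] := by
      have : a ≠ a⁻¹ := fun h => (mul_self_eq_one_iff.1 (show a * a = 1 by nth_rw 2 [h]; exact mul_inv_cancel₀ h0)).elim h1 h2
      intro i j; fin_cases i <;> fin_cases j <;> simp [h1, this, this.symm, Ne.symm h1]
    refine ⟨∏ i, (X - C (![a, 1, a⁻¹] i)), (separable_prod_X_sub_C_iff.2 hi).squarefree, by simp [Fin.prod_univ_succ, h0],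
      monic_prod_X_sub_C _ _, by simp, fun A hd hA => sourour 2 rfl A _ _ (fun _ => hA) ?_ (by simp [hd])⟩
    simp [hd, Fin.prod_univ_succ]; field_simp
  have hdet : ∀ A : Matrix (Fin 3) (Fin 3) F, A.charpoly = f → A.det = 1 := fun A hA => by
    rw [det_eq_sign_charpoly_coeff, hA, hf0]; norm_num
  obtain ⟨A, hA, hA'⟩ := exists_isSS_charpoly (n := Fin 3) hm (by simpa using hd)
  let x : SpecialLinearGroup (Fin 3) F := ⟨A, hdet A hA'⟩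
  refine ⟨(x : _ ⧸ _), fun hp => ?_, fun g hg => ?_⟩
  · exact (Nat.Prime.coprime_iff_not_dvd Fact.out).1 ((SL_coprime_iff_isSS p x).2 hA).symm
      (hp.trans (orderOf_map_dvd (QuotientGroup.mk' _) x))
  obtain ⟨g, rfl⟩ := QuotientGroup.mk_surjective g
  obtain ⟨B, D, h1, h2, h3⟩ := h g g.2 fun c hc => hg ((QuotientGroup.eq_one_iff g).2 (Subgroup.mem_center_iff.2 fun k =>
    Subtype.ext (by simp [hc])))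
  obtain ⟨u, hu⟩ := isConj_iff.1 (isConj_SL_of_charpoly (g := x) (h := ⟨B, hdet B h2⟩) (hA' ▸ hf) (hA'.trans h2.symm))
  obtain ⟨v, hv⟩ := isConj_iff.1 (isConj_SL_of_charpoly (g := x) (h := ⟨D, hdet D h3⟩) (hA' ▸ hf) (hA'.trans h3.symm))
  refine ⟨u, v, ?_⟩
  rw [← QuotientGroup.mk_inv, ← QuotientGroup.mk_inv]
  simp only [← QuotientGroup.mk_mul, hu, hv]
  exact congrArg _ (Subtype.ext h1)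

end Cfsg.Agent.S2459
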