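import Cfsg.Statements.S2460
import Cfsg.Agent.Lib.Twist.CCE
import Cfsg.Agent.Lib.Chev.Orth
import Cfsg.Agent.Lib.Forms.Wedge
import Cfsg.Agent.S0304
import Cfsg.Agent.S0269

set_option autoImplicit false
open Cfsg

namespace Cfsg.Agent.S2460

/-- A form of Thompson's conjecture for the simple groups PSp(4,q), q ≥ 3 (covering the non-identity elements), with a semisimple class: for F a finite field of characteristic p with at least 3 elements there is an element x of PSp(4,F) of order prime to p such that every non-identity element of PSp(4,F) is a product of two conjugates of x. -/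
theorem result {F : Type*} [Field F] [Fintype F] (p : ℕ) [Fact p.Prime] [CharP F p] (h3 : 3 ≤ Fintype.card F) :
    ∃ x : Cfsg.PSp 2 F, ¬ p ∣ orderOf x ∧ ∀ g : Cfsg.PSp 2 F, g ≠ 1 → ∃ u v : Cfsg.PSp 2 F, g = (u * x * u⁻¹) * (v * x * v⁻¹) := by
  obtain ⟨e₁⟩ := Cfsg.Lib.Chev.equiv_B2 F (Cfsg.Lib.Chev.exists_ne_zero_one (by rw [Nat.card_eq_fintype_card]; omega))
  obtain ⟨e₂⟩ : Nonempty (Cfsg.POmega F (Cfsg.quadFormOdd 2 F) ≃* Cfsg.PSp 2 F) := by
    by_cases h2 : (2 : F) = 0
    · have : CharP F 2 := (CharP.charP_iff_prime_eq_zero Nat.prime_two).2 (by exact_mod_cast h2)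
      obtain ⟨e⟩ := S0304.result (F := F) 2
      have h : Cfsg.Omega F (Cfsg.quadFormOdd 2 F) = ⊤ := by
        rw [eq_top_iff, ← Subgroup.map_le_map_iff_of_injective (f := e.toMonoidHom) e.injective, Cfsg.Omega, map_commutator_eq,
          MonoidHom.range_eq_top.2 e.surjective, ← commutator_def, S0269.result 2 (Or.inr (Or.inl ⟨rfl, h3⟩))]
        exact le_top
      let f := ((MulEquiv.subgroupCongr h).trans Subgroup.topEquiv).trans e
      refine ⟨QuotientGroup.congr _ _ f (Subgroup.ext fun g => ?_)⟩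
      obtain ⟨g, rfl⟩ := f.surjective g
      rw [show f g = (f : _ →* _) g from rfl, Subgroup.mem_map_iff_mem f.injective, Subgroup.mem_center_iff,
        Subgroup.mem_center_iff, f.surjective.forall]
      simp only [MonoidHom.coe_coe, ← map_mul, f.injective.eq_iff]
    · exact Cfsg.Lib.Forms.nonempty_pomega_five h2
  obtain ⟨x, h1, h2⟩ := Cfsg.Lib.Twist.cc_B2 F h3 p
  let e := e₁.trans e₂
  refine ⟨e x, by rwa [e.orderOf_eq], fun g hg => ?_⟩
  obtain ⟨g, rfl⟩ := e.surjective g
  obtain ⟨u, v, h⟩ := h2 g fun h => hg (by rw [h, map_one])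
  exact ⟨e u, e v, by rw [h]; simp only [map_mul, map_inv]⟩

end Cfsg.Agent.S2460
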