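import Cfsg.Statements.S2463
import Cfsg.Agent.Lib.Twist.CCF
import Cfsg.Agent.Lib.Twist.CCI
import Cfsg.Agent.Lib.Comp.Titsx.Mat

set_option autoImplicit false
open Cfsg

namespace Cfsg.Agent.S2463

/-- A form of Thompson's conjecture for the simple groups of type ²F₄ (covering the non-identity elements) with a semisimple class: if M is a large Ree group ²F₄(2^(2m+1)) with m ≥ 1, or the Tits group, then there is an element x of M of odd order such that every non-identity element of M is a product of two conjugates of x. -/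
theorem result {M : Type*} [Group M] [Finite M] (hM : Cfsg.Lie.Iso2F4 M ∨ Cfsg.Lie.IsoTits M) :
    ∃ x : M, Odd (orderOf x) ∧ ∀ g : M, g ≠ 1 → ∃ u v : M, g = (u * x * u⁻¹) * (v * x * v⁻¹) := by
  have key : ∀ {N : Type} [Group N], (N ≃* M) → (∃ x : N, Odd (orderOf x) ∧ ∀ g ≠ 1, ∃ u v,
      g = (u * x * u⁻¹) * (v * x * v⁻¹)) →
      ∃ x : M, Odd (orderOf x) ∧ ∀ g : M, g ≠ 1 → ∃ u v : M, g = (u * x * u⁻¹) * (v * x * v⁻¹) := by
    rintro N _ e ⟨x, h1, h2⟩
    refine ⟨e x, by rwa [e.orderOf_eq], fun g hg => ?_⟩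
    obtain ⟨g, rfl⟩ := e.surjective g
    obtain ⟨u, v, h⟩ := h2 g fun h => hg (by rw [h, map_one])
    exact ⟨e u, e v, by rw [h]; simp only [map_mul, map_inv]⟩
  rcases hM with ⟨K, _, _, m, hm, hK, ⟨e⟩⟩ | ⟨⟨e⟩⟩
  · exact key e.symm (Cfsg.Lib.Twist.cc_F4 hm hK)
  · obtain ⟨f⟩ := Cfsg.Lib.Comp.Titsx.iso.2
    exact key (f.trans e.symm) Cfsg.Lib.Twist.En.cc_Tits

end Cfsg.Agent.S2463
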