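import Cfsg.Statements.S2466
import Mathlib

set_option autoImplicit false
open Cfsg

namespace Cfsg.Agent.S2466

open Equiv.Perm

theorem mem_range_iff {n k : ℕ} : k ∈ Set.range (orderOf : alternatingGroup (Fin n) → ℕ) ↔
    ∃ m : Multiset ℕ, m.sum ≤ n ∧ (∀ a ∈ m, 2 ≤ a) ∧ Even (m.sum + m.card) ∧ m.lcm = k := by
  constructor
  · rintro ⟨g, rfl⟩
    refine ⟨g.1.cycleType, g.1.sum_cycleType_le.trans_eq (Fintype.card_fin n), fun _ => two_le_of_mem_cycleType,
      ?_, by rw [lcm_cycleType, Subgroup.orderOf_coe]⟩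
    have := mem_alternatingGroup.1 g.2
    rwa [sign_of_cycleType, neg_one_pow_eq_one_iff_even (by decide)] at this
  · rintro ⟨m, h1, h2, h3, rfl⟩
    obtain ⟨g, rfl⟩ := (exists_with_cycleType_iff (Fin n)).2 ⟨by simpa using h1, h2⟩
    exact ⟨⟨g, by rw [mem_alternatingGroup, sign_of_cycleType, h3.neg_one_pow]⟩,
      by rw [Subgroup.orderOf_mk, lcm_cycleType]⟩

theorem exists_dvd {p : ℕ} (hp : p.Prime) {m : Multiset ℕ} (h : p ∣ m.lcm) : ∃ a ∈ m, p ∣ a := by
  induction m using Multiset.induction_on with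
  | empty => exact (hp.one_lt.ne' (Nat.dvd_one.1 h)).elim
  | cons a m ih =>
    rw [Multiset.lcm_cons] at h
    rcases hp.dvd_mul.1 (h.trans (lcm_dvd_mul _ _)) with h | h
    · exact ⟨a, by simp, h⟩
    · exact (ih h).imp fun b hb => ⟨by simp [hb.1], hb.2⟩

/-- Adjacency of odd primes in the prime graph of the alternating groups: let r ≠ s be odd primes at most n. The alternating group of degree n has an element of order r·s if and only if r + s ≤ n. -/
theorem result (n r s : ℕ) (hr : r.Prime) (hs : s.Prime) (hr2 : r ≠ 2) (hs2 : s ≠ 2) (hrs : r ≠ s) (hrn : r ≤ n) (hsn : s ≤ n) :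
    (r * s ∈ Set.range (orderOf : alternatingGroup (Fin n) → ℕ)) ↔ r + s ≤ n := by
  rw [mem_range_iff]
  have hc := (Nat.coprime_primes hr hs).2 hrs
  constructor
  · rintro ⟨m, h1, h2, -, h⟩
    obtain ⟨a, ha, ra⟩ := exists_dvd hr (h ▸ dvd_mul_right r s)
    obtain ⟨b, hb, sb⟩ := exists_dvd hs (h ▸ dvd_mul_left s r)
    have := h2 a ha
    have := h2 b hb
    obtain ⟨m, rfl⟩ := Multiset.exists_cons_of_mem ha
    rw [Multiset.sum_cons] at h1
    rcases Multiset.mem_cons.1 hb with rfl | hb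
    · have := Nat.le_of_dvd (by omega) (hc.mul_dvd_of_dvd_of_dvd ra sb)
      have := Nat.add_le_mul hr.two_le hs.two_le
      omega
    · have := Multiset.single_le_sum (fun _ _ => Nat.zero_le _) b hb
      have := Nat.le_of_dvd (by omega) ra
      have := Nat.le_of_dvd (by omega) sb
      omega
  · refine fun h => ⟨{r, s}, by simpa using h, by simp [hr.two_le, hs.two_le], ?_, by
      simpa [lcm_eq_nat_lcm] using hc.lcm_eq_mul⟩
    simpa using ((hr.odd_of_ne_two hr2).add_odd (hs.odd_of_ne_two hs2)).add even_two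

end Cfsg.Agent.S2466
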