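import Cfsg.Statements.S2467
import Cfsg.Agent.S2466

set_option autoImplicit false
open Cfsg

namespace Cfsg.Agent.S2467

open S2466

theorem exists_even {m : Multiset ℕ} (h : ¬ Even (m.sum + m.card)) : ∃ a ∈ m, 2 ∣ a := by
  induction m using Multiset.induction_on with
  | empty => simp at h
  | cons a m ih =>
    by_cases ha : 2 ∣ a
    · exact ⟨a, by simp, ha⟩
    · refine (ih fun h' => h ?_).imp fun b hb => ⟨by simp [hb.1], hb.2⟩
      rw [Multiset.sum_cons, Multiset.card_cons]
      rw [Nat.even_iff] at *; omega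

/-- Adjacency of 2 and an odd prime in the prime graph of the alternating groups: let r be an odd prime at most n, with n ≥ 4. The alternating group of degree n has an element of order 2r if and only if r + 4 ≤ n. -/
theorem result (n r : ℕ) (hn : 4 ≤ n) (hr : r.Prime) (hr2 : r ≠ 2) (hrn : r ≤ n) :
    (2 * r ∈ Set.range (orderOf : alternatingGroup (Fin n) → ℕ)) ↔ r + 4 ≤ n := by
  rw [mem_range_iff]
  have hc := (Nat.coprime_primes Nat.prime_two hr).2 hr2.symm
  have := hr.two_le
  constructor
  · rintro ⟨m, h1, h2, h3, h⟩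
    obtain ⟨a, ha, ra⟩ := exists_dvd hr (h ▸ dvd_mul_left r 2)
    obtain ⟨b, hb, sb⟩ := exists_dvd Nat.prime_two (h ▸ dvd_mul_right 2 r)
    have key : ∀ b m', m = b ::ₘ m' → 2 ∣ b → ∃ c ∈ m', 2 ≤ c := fun b m' e hb => by
      subst e
      refine (exists_even fun h => ?_).imp fun c hc => ⟨hc.1, h2 c (by simp [hc.1])⟩
      rw [Multiset.sum_cons, Multiset.card_cons] at h3
      rw [Nat.even_iff] at *; omega
    have := h2 a ha
    have := h2 b hb
    obtain ⟨m, rfl⟩ := Multiset.exists_cons_of_mem ha
    by_cases h2a : 2 ∣ a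
    · obtain ⟨c, hc1, hc2⟩ := key a m rfl h2a
      have := Nat.le_of_dvd (by omega) (hc.mul_dvd_of_dvd_of_dvd h2a ra)
      have := Multiset.single_le_sum (fun _ _ => Nat.zero_le _) c hc1
      rw [Multiset.sum_cons] at h1; omega
    · obtain ⟨m, rfl⟩ := Multiset.exists_cons_of_mem ((Multiset.mem_cons.1 hb).resolve_left
        fun e => h2a (e ▸ sb))
      have := Nat.le_of_dvd (by omega) ra
      obtain ⟨c, hc1, hc2⟩ := exists_even (m := m) fun h => by
        simp only [Multiset.sum_cons, Multiset.card_cons] at h3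
        rw [Nat.even_iff] at *; omega
      have := h2 c (by simp [hc1])
      have := Multiset.single_le_sum (fun _ _ => Nat.zero_le _) c hc1
      simp only [Multiset.sum_cons] at h1; omega
  · refine fun h => ⟨{2, 2, r}, by simp; omega, by simp [this], ?_, by
      simpa [lcm_eq_nat_lcm, ← Nat.lcm_assoc] using hc.lcm_eq_mul⟩
    obtain ⟨k, rfl⟩ := hr.odd_of_ne_two hr2
    simp [Nat.even_iff]; omega

end Cfsg.Agent.S2467
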