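import Cfsg.Statements.S2468
import Cfsg.Agent.Lib.Linear.Spec

set_option autoImplicit false
open Cfsg

namespace Cfsg.Agent.S2468

open Cfsg.Lib.Linear Cfsg.Lib.Small
attribute [-simp] Nat.card_eq_fintype_card

/-- Adjacency of two odd primes in the prime graph of PSL(n,q): let F be a finite field of characteristic p with q elements, n ≥ 2 with PSL(n,F) simple, and let r ≠ s be odd primes different from p dividing the order of PSL(n,F). Let k and l be the multiplicative orders of q modulo r and modulo s, and suppose 2 ≤ k ≤ l. Then PSL(n,F) has NO element of order r·s if and only if k + l > n and k does not divide l. -/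
theorem result {F : Type*} [Field F] [Fintype F] (p : ℕ) [Fact p.Prime] [CharP F p] (n : ℕ) (hn : 2 ≤ n) (hsmall : n = 2 → 4 ≤ Fintype.card F)
    (r s : ℕ) (hr : r.Prime) (hs : s.Prime) (hr2 : r ≠ 2) (hs2 : s ≠ 2) (hrp : r ≠ p) (hsp : s ≠ p) (hrs : r ≠ s)
    (hrG : r ∣ Nat.card (Matrix.ProjectiveSpecialLinearGroup (Fin n) F)) (hsG : s ∣ Nat.card (Matrix.ProjectiveSpecialLinearGroup (Fin n) F))
    (k l : ℕ) (hk : k = orderOf ((Fintype.card F : ℕ) : ZMod r)) (hl : l = orderOf ((Fintype.card F : ℕ) : ZMod s))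
    (h2k : 2 ≤ k) (hkl : k ≤ l) :
    (r * s ∉ Set.range (orderOf : Matrix.ProjectiveSpecialLinearGroup (Fin n) F → ℕ)) ↔ (n < k + l ∧ ¬ k ∣ l) := by
  rw [← Nat.card_eq_fintype_card] at *
  have : NeZero n := ⟨by omega⟩
  have hq : 1 ≤ Nat.card F := Nat.card_pos
  have hrq : ¬ r ∣ Nat.card F - 1 := fun h => by
    have := (dvd_pow_sub_one_iff_orderOf_dvd (k := 1) hq).mp (by simpa using h)
    rw [← hk, Nat.dvd_one] at this; omega
  have hsq : ¬ s ∣ Nat.card F - 1 := fun h => by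
    have := (dvd_pow_sub_one_iff_orderOf_dvd (k := 1) hq).mp (by simpa using h)
    rw [← hl, Nat.dvd_one] at this; omega
  have hln : l ≤ n := by
    have := (prime_dvd_card_SL_iff (n := Fin n) hs hsq (prime_not_dvd_natCard p hs hsp)).mp
      (hsG.trans (by rw [← gcd_mul_card_PSL]; exact dvd_mul_left _ _))
    simpa [← hl] using this
  have hrk : r ∣ Nat.card F ^ k - 1 := (dvd_pow_sub_one_iff_orderOf_dvd hq).mpr (hk ▸ dvd_rfl)
  have hsl : s ∣ Nat.card F ^ l - 1 := (dvd_pow_sub_one_iff_orderOf_dvd hq).mpr (hl ▸ dvd_rfl)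
  have hp := (Fact.out : p.Prime)
  have hpr : ¬ p ∣ r := fun h => hrp ((Nat.prime_dvd_prime_iff_eq hp hr).mp h).symm
  have hps : ¬ p ∣ s := fun h => hsp ((Nat.prime_dvd_prime_iff_eq hp hs).mp h).symm
  have hc : r.Coprime s := (Nat.coprime_primes hr hs).mpr hrs
  have hcr := (Nat.Prime.coprime_iff_not_dvd hr).mpr hrq
  have hcs := (Nat.Prime.coprime_iff_not_dvd hs).mpr hsq
  constructor
  · intro h
    by_contra hc'
    apply h
    rw [not_and_or, not_lt, not_not] at hc'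
    rcases hc' with h1 | h1
    · obtain ⟨a, ha⟩ := exists_units_orderOf (F := F) p hpr
      obtain ⟨b, hb⟩ := exists_units_orderOf (F := F) p hps
      have ha' : a ^ (Nat.card F ^ k - 1) = 1 := orderOf_dvd_iff_pow_eq_one.mp (ha ▸ hrk)
      have hb' : b ^ (Nat.card F ^ l - 1) = 1 := orderOf_dvd_iff_pow_eq_one.mp (hb ▸ hsl)
      refine psl_exists_order p (L := [(a, k, 1), (b, l, 1)]) ?_ (by simpa [sDim] using h1) ?_ fun m hm => ?_
      · simp [SVal, ha', hb']; omega
      · simp [sDet, pow_geomS_eq_one ha' (ha ▸ hcr), pow_geomS_eq_one hb' (hb ▸ hcs)]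
      · have h2 := orderOf_dvd_of_pow_eq_one (hm.1 (a, k, 1) (by simp))
        have h3 := orderOf_dvd_of_pow_eq_one (hm.1 (b, l, 1) (by simp))
        exact hc.mul_dvd_of_dvd_of_dvd (hcr.dvd_of_dvd_mul_right (ha ▸ h2)) (hcs.dvd_of_dvd_mul_right (hb ▸ h3))
    · obtain ⟨a, ha⟩ := exists_units_orderOf (F := F) p (N := r * s) fun h => (hp.dvd_mul.mp h).elim hpr hps
      have ha' : a ^ (Nat.card F ^ l - 1) = 1 := orderOf_dvd_iff_pow_eq_one.mp (ha ▸ hc.mul_dvd_of_dvd_of_dvd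
        ((dvd_pow_sub_one_iff_orderOf_dvd hq).mpr (hk ▸ h1)) hsl)
      refine psl_exists_order p (L := [(a, l, 1)]) ?_ (by simpa [sDim] using hln) ?_ fun m hm => ?_
      · simp [SVal, ha']; omega
      · simp [sDet, pow_geomS_eq_one ha' (ha ▸ hcr.mul_left hcs)]
      · have h2 := orderOf_dvd_of_pow_eq_one (hm.1 (a, l, 1) (by simp))
        exact (hcr.mul_left hcs).dvd_of_dvd_mul_right (ha ▸ h2)
  · rintro ⟨h1, h2⟩ ⟨g, hg⟩
    obtain ⟨L, hL, hd, -, h⟩ := psl_analysis p g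
    rw [hg] at h
    have h3 := (h _).mp dvd_rfl
    have he : ∀ m, ∀ x ∈ L, ∃ a, x.2.2 ≤ p ^ a ∧ p ^ a ∣ m := fun m x hx =>
      ⟨0, le_one_of_not_dvd p (h3.2.2 x hx) fun h => (hp.dvd_mul.mp h).elim hpr hps, by simp⟩
    obtain ⟨x, hx, h4⟩ := SCond.exists_dvd p hL hr hrq ((Nat.Prime.coprime_iff_not_dvd hr).mp hc) h3
      (fun h' => hr.one_lt.ne' (Nat.dvd_one.mp (Nat.dvd_of_mul_dvd_mul_right hs.pos (by simpa using (h _).mpr h')))) (he _)
    obtain ⟨y, hy, h5⟩ := SCond.exists_dvd p hL hs hsq ((Nat.Prime.coprime_iff_not_dvd hs).mp hc.symm) (mul_comm r s ▸ h3)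
      (fun h' => hs.one_lt.ne' (Nat.dvd_one.mp (Nat.dvd_of_mul_dvd_mul_left hr.pos (by simpa using (h _).mpr h')))) (he _)
    rw [← hk] at h4; rw [← hl] at h5
    rw [Fintype.card_fin] at hd
    obtain ⟨hx1, hx2, -⟩ := hL x hx
    obtain ⟨hy1, hy2, -⟩ := hL y hy
    have h6 := Nat.le_mul_of_pos_right x.2.1 hx2
    have h7 := Nat.le_mul_of_pos_right y.2.1 hy2
    by_cases hxy : x = y
    · subst hxy
      obtain ⟨t, ht⟩ := h5
      have h8 := le_sDim hx
      rcases t with _ | _ | t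
      · omega
      · exact h2 (by simpa [ht] using h4)
      · have : l * (t + 1 + 1) = l * t + 2 * l := by ring
        omega
    · have := add_le_sDim hx hy hxy
      have := Nat.le_of_dvd hx1 h4
      have := Nat.le_of_dvd hy1 h5
      omega

end Cfsg.Agent.S2468
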