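import Cfsg.Statements.S2469
import Cfsg.Agent.Lib.Conj.SpecO

set_option autoImplicit false
open Cfsg

namespace Cfsg.Agent.S2469

open Cfsg.Lib.Conj Cfsg.Lib.Forms Cfsg.Lib.Forms.Form Module

open Cfsg.Lib.Linear
attribute [-simp] Nat.card_eq_fintype_card

/-- Adjacency of two odd primes in the prime graph of PSp(2n,q): let F be a finite field of characteristic p with q elements, n ≥ 2 with PSp(2n,F) simple, and let r ≠ s be odd primes different from p dividing the order of PSp(2n,F). Let k, l be the multiplicative orders of q modulo r and s, put η(m) = m for odd m and η(m) = m/2 for even m, and suppose η(k) ≤ η(l). Then PSp(2n,F) has NO element of order r·s if and only if η(k) + η(l) > n and l/k is not an odd integer. -/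
theorem result {F : Type*} [Field F] [Fintype F] (p : ℕ) [Fact p.Prime] [CharP F p] (n : ℕ) (hn : 2 ≤ n) (hsmall : n = 2 → 3 ≤ Fintype.card F)
    (r s : ℕ) (hr : r.Prime) (hs : s.Prime) (hr2 : r ≠ 2) (hs2 : s ≠ 2) (hrp : r ≠ p) (hsp : s ≠ p) (hrs : r ≠ s)
    (hrG : r ∣ Nat.card (Cfsg.PSp n F)) (hsG : s ∣ Nat.card (Cfsg.PSp n F))
    (k l ηk ηl : ℕ) (hk : k = orderOf ((Fintype.card F : ℕ) : ZMod r)) (hl : l = orderOf ((Fintype.card F : ℕ) : ZMod s))
    (hηk : (Odd k ∧ ηk = k) ∨ (Even k ∧ 2 * ηk = k)) (hηl : (Odd l ∧ ηl = l) ∨ (Even l ∧ 2 * ηl = l)) (hkl : ηk ≤ ηl) :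
    (r * s ∉ Set.range (orderOf : Cfsg.PSp n F → ℕ)) ↔ (n < ηk + ηl ∧ ¬ ∃ t : ℕ, Odd t ∧ l = k * t) := by
  rw [← Nat.card_eq_fintype_card] at *
  have hp := (Fact.out : p.Prime)
  have := Fact.mk hr
  have := Fact.mk hs
  have hc : r.Coprime s := (Nat.coprime_primes hr hs).2 hrs
  have h2 : ∀ {r : ℕ}, r.Prime → r ≠ 2 → ¬ r ∣ 2 := fun hr hr2 h =>
    hr2 ((Nat.prime_dvd_prime_iff_eq hr Nat.prime_two).1 h)
  have hηk' : Eta (orderOf (Nat.card F : ZMod r)) ηk := hk ▸ hηk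
  have hηl' : Eta (orderOf (Nat.card F : ZMod s)) ηl := hl ▸ hηl
  have hk0 := orderOf_card_pos (F := F) p hr hrp
  have hl0 := orderOf_card_pos (F := F) p hs hsp
  have h0 := hηk'.pos hk0
  have key : ∀ g : PSp n F, ∃ L : SList F, OVal Even L ∧ oDim L = 2 * n ∧
      ∀ r : ℕ, r.Prime → r ≠ 2 → r ≠ p → r ∣ orderOf g → ∃ a ∈ L, r ∣ orderOf a.1 := fun g => by
    obtain ⟨L, hL, hd, h1⟩ := psp_analysis p (by omega) g
    exact ⟨L, hL, hd, fun r hr hr2 hrp h => OCond.exists_dvd p hr hr2 (orderOf_pos g).ne' h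
      ((Nat.coprime_primes hr hp).2 hrp) h1⟩
  constructor
  · intro h
    obtain ⟨z, hz, h1⟩ := exists_oV (F := F) p hr hrp hηk'
    obtain ⟨w, hw, h3⟩ := exists_oV (F := F) p hs hsp hηl'
    refine ⟨by_contra fun hc' => h ?_, fun ⟨t, ht, ht'⟩ => h ?_⟩
    · refine psp_exists_order p (L := [(z, ηk, 1), (w, ηl, 1)]) (by omega)
        (oVal_cons.2 ⟨⟨h1 1 le_rfl, fun h => by simp at h; omega⟩,
          oVal_cons.2 ⟨⟨h3 1 le_rfl, fun h => by simp at h; omega⟩, oVal_nil⟩⟩)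
        (by simp [oDim, od_of_pos h0, od_of_pos (h0.trans hkl)]; omega) fun m hm => ?_
      exact hc.mul_dvd_of_dvd_of_dvd (hm.dvd (a := (z, ηk, 1)) (by simp) hz.symm.dvd
        (hr.odd_of_ne_two hr2)) (hm.dvd (a := (w, ηl, 1)) (by simp) hw.symm.dvd
        (hs.odd_of_ne_two hs2))
    · obtain ⟨g, hg⟩ := exists_prime_orderOf_dvd_card' s hsG
      obtain ⟨L, hL, hd, h4⟩ := key g
      obtain ⟨a, ha, h5⟩ := h4 s hs hs2 hsp hg.symm.dvd
      have h6 := (hL a ha).1.eta_le h5 (h2 hs hs2) hηl'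
      have h7 := le_oDim ha
      have := Nat.mul_le_mul (two_mul_le_od a.2.1) (hL a ha).1.1
      have hzw : orderOf (z * w) = r * s := by
        rw [(Commute.all z w).orderOf_mul_eq_mul_orderOf_of_coprime (by rwa [hz, hw]), hz, hw]
      have h8 : ηl = ηk * t := by
        obtain ⟨u, rfl⟩ := ht
        rcases hηk with ⟨h8, h9⟩ | ⟨h8, h9⟩ <;> rcases hηl with ⟨h10, h11⟩ | ⟨h10, h11⟩
        · rw [h11, h9, ht']
        · exact absurd (ht' ▸ h10) (Nat.not_even_iff_odd.2 (h8.mul ⟨u, rfl⟩))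
        · exact absurd (ht' ▸ h10) (Nat.not_odd_iff_even.2 (h8.mul_right _))
        · rw [← h9, ← h11, mul_assoc] at ht'; omega
      refine psp_exists_order p (L := [(z * w, ηl, 1)]) (by omega)
        (oVal_cons.2 ⟨⟨⟨le_rfl, ?_⟩, fun h => by simp at h; omega⟩, oVal_nil⟩)
        (by simp [oDim, od_of_pos (h0.trans hkl)]; omega) fun m hm =>
        hm.dvd (a := (z * w, ηl, 1)) (by simp) hzw.symm.dvd
          ((hr.odd_of_ne_two hr2).mul (hs.odd_of_ne_two hs2))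
      simp only [← orderOf_dvd_iff_pow_eq_one, hzw]
      rcases hηk'.pow_eq hk0 with ⟨h9, h10⟩ | ⟨h9, h10⟩ <;>
        rcases hηl'.pow_eq hl0 with ⟨h11, h12⟩ | ⟨h11, h12⟩
      · exact .inr ⟨by omega, hc.mul_dvd_of_dvd_of_dvd
          ((Lib.Small.dvd_pow_sub_one_iff Nat.card_pos).2 (by rw [h8, pow_mul, h10, one_pow]))
          ((Lib.Small.dvd_pow_sub_one_iff Nat.card_pos).2 h12)⟩
      · exact absurd (ht' ▸ hl ▸ h11) (Nat.not_even_iff_odd.2 ((hk ▸ h9 : Odd k).mul ht))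
      · exact absurd (ht' ▸ hl ▸ h11) (Nat.not_odd_iff_even.2 ((hk ▸ h9 : Even k).mul_right _))
      · exact .inl (hc.mul_dvd_of_dvd_of_dvd
          (dvd_pow_add_one_iff.2 (by rw [h8, pow_mul, h10, ht.neg_one_pow]))
          (dvd_pow_add_one_iff.2 h12))
  · rintro ⟨h, h'⟩ ⟨g, hg⟩
    obtain ⟨L, hL, hd, h4⟩ := key g
    obtain ⟨a, ha, h5⟩ := h4 r hr hr2 hrp (hg ▸ dvd_mul_right _ _)
    obtain ⟨b, hb, h6⟩ := h4 s hs hs2 hsp (hg ▸ dvd_mul_left _ _)
    have h7 := (hL a ha).1.eta_le h5 (h2 hr hr2) hηk'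
    have h8 := (hL b hb).1.eta_le h6 (h2 hs hs2) hηl'
    have := Nat.mul_le_mul (two_mul_le_od a.2.1) (hL a ha).1.1
    have := Nat.mul_le_mul (two_mul_le_od b.2.1) (hL b hb).1.1
    by_cases hab : a = b
    swap
    · have := add_le_oDim ha hb hab
      omega
    subst hab
    have := le_oDim ha
    obtain ⟨u, hu⟩ := (hL a ha).1.eta_dvd h6 hηl'
    have hu1 : u = 1 := by
      by_contra hu1
      rcases u with _ | _ | u
      · omega
      · omega
      · have : ηl * (u + 1 + 1) = ηl * u + 2 * ηl := by ring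
        omega
    rw [hu1, mul_one] at hu
    have hne : ∀ {r : ℕ}, r.Prime → r ≠ 2 → (-1 : ZMod r) ≠ 1 := fun {r} hr hr2 h =>
      h2 hr hr2 ((ZMod.natCast_eq_zero_iff 2 r).1 (by
        rw [Nat.cast_ofNat, ← one_add_one_eq_two]; exact neg_eq_iff_add_eq_zero.1 h))
    rcases (hL a ha).1.zmod with H | H
    · have h9 : ¬ k ∣ ηl := by rw [hk, orderOf_dvd_iff_pow_eq_one, ← hu, H r h5]; exact hne hr hr2
      have h10 : ¬ l ∣ ηl := by rw [hl, orderOf_dvd_iff_pow_eq_one, ← hu, H s h6]; exact hne hs hs2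
      obtain ⟨t, ht⟩ := hk ▸ hηk'.dvd_iff.1 (hu ▸ (hL a ha).1.eta_dvd h5 hηk')
      rcases hηl with ⟨-, h11⟩ | ⟨-, h11⟩
      · exact h10 h11.symm.dvd
      · refine h' ⟨t, Nat.not_even_iff_odd.1 fun ⟨v, hv⟩ => h9 ⟨v, ?_⟩, h11 ▸ ht⟩
        rw [hv, mul_add] at ht; omega
    · obtain ⟨t, ht⟩ : k ∣ ηl := by rw [hk, orderOf_dvd_iff_pow_eq_one, ← hu, H r h5]
      have h10 : l ∣ ηl := by rw [hl, orderOf_dvd_iff_pow_eq_one, ← hu, H s h6]
      rcases hηl with ⟨h11, h12⟩ | ⟨-, h11⟩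
      · exact h' ⟨t, Odd.of_dvd_nat h11 ⟨k, by rw [← h12, ht, mul_comm]⟩, h12 ▸ ht⟩
      · have := Nat.le_of_dvd (by omega) h10
        omega

end Cfsg.Agent.S2469
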