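import Cfsg.Statements.S2470
import Cfsg.Agent.Lib.Linear.Spec

set_option autoImplicit false
open Cfsg

namespace Cfsg.Agent.S2470

open Cfsg.Lib.Linear Cfsg.Lib.Small
attribute [-simp] Nat.card_eq_fintype_card

/-- Adjacency of an odd prime and the characteristic in the prime graph of PSL(n,q): let F be a finite field of characteristic p with q elements, n ≥ 2 with PSL(n,F) simple, and let r ≠ p be an odd prime dividing the order of PSL(n,F), with k the multiplicative order of q modulo r. Then PSL(n,F) has NO element of order r·p if and only if either k > n − 2, or n = 3, r = 3 and 3 divides q − 1 exactly once. -/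
theorem result {F : Type*} [Field F] [Fintype F] (p : ℕ) [Fact p.Prime] [CharP F p] (n : ℕ) (hn : 2 ≤ n) (hsmall : n = 2 → 4 ≤ Fintype.card F)
    (r : ℕ) (hr : r.Prime) (hr2 : r ≠ 2) (hrp : r ≠ p) (hrG : r ∣ Nat.card (Matrix.ProjectiveSpecialLinearGroup (Fin n) F))
    (k : ℕ) (hk : k = orderOf ((Fintype.card F : ℕ) : ZMod r)) :
    (r * p ∉ Set.range (orderOf : Matrix.ProjectiveSpecialLinearGroup (Fin n) F → ℕ)) ↔
      (n - 2 < k ∨ (n = 3 ∧ r = 3 ∧ 3 ∣ Fintype.card F - 1 ∧ ¬ 9 ∣ Fintype.card F - 1)) := by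
  rw [← Nat.card_eq_fintype_card] at *
  have : NeZero n := ⟨by omega⟩
  have hq : 1 ≤ Nat.card F := Nat.card_pos
  have hp := (Fact.out : p.Prime)
  have hpr : ¬ p ∣ r := fun h => hrp ((Nat.prime_dvd_prime_iff_eq hp hr).mp h).symm
  have hc : r.Coprime p := (Nat.coprime_primes hr hp).mpr hrp
  have hrk : r ∣ Nat.card F ^ k - 1 := (dvd_pow_sub_one_iff_orderOf_dvd hq).mpr (hk ▸ dvd_rfl)
  have hk1 : r ∣ Nat.card F - 1 ↔ k = 1 := by
    rw [← Nat.dvd_one, hk, ← dvd_pow_sub_one_iff_orderOf_dvd hq, pow_one]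
  by_cases hrq : r ∣ Nat.card F - 1
  swap
  · have hkn : 0 < k := by
      have := Fact.mk hr
      rw [hk]
      refine orderOf_pos_iff.mpr (isOfFinOrder_iff_pow_eq_one.mpr ⟨r - 1, by have := hr.two_le; omega, ?_⟩)
      exact ZMod.pow_card_sub_one_eq_one (by rw [Ne, ZMod.natCast_eq_zero_iff]; exact prime_not_dvd_natCard p hr hrp)
    have hcr := (Nat.Prime.coprime_iff_not_dvd hr).mpr hrq
    constructor
    · intro h
      by_contra hc'
      obtain ⟨a, ha⟩ := exists_units_orderOf (F := F) p hpr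
      have ha' : a ^ (Nat.card F ^ k - 1) = 1 := orderOf_dvd_iff_pow_eq_one.mp (ha ▸ hrk)
      refine h (psl_exists_order p (L := [(a, k, 1), (1, 1, 2)]) ?_ (by simp [sDim]; omega) ?_ fun m hm => ?_)
      · simp [SVal, ha']; omega
      · simp [sDet, pow_geomS_eq_one ha' (ha ▸ hcr)]
      · have h2 := orderOf_dvd_of_pow_eq_one (hm.1 (a, k, 1) (by simp))
        exact hc.mul_dvd_of_dvd_of_dvd (hcr.dvd_of_dvd_mul_right (ha ▸ h2))
          (char_dvd_of_two_le p (hm.2.2 (1, 1, 2) (by simp)) le_rfl)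
    · rintro (h | ⟨-, rfl, h, -⟩) h'
      · have := psl_add_two_le p hr hrp hrq h'
        simp [← hk] at this
        omega
      · exact hrq h
  have hk' := hk1.mp hrq
  constructor
  · intro h
    by_contra hc'
    apply h
    have hn3 : 3 ≤ n := by omega
    rcases hn3.eq_or_lt with rfl | hn4
    · obtain ⟨N, hN, hN'⟩ : ∃ N, N ∣ Nat.card F - 1 ∧ ∀ m, N ∣ 3 * m → r ∣ m := by
        by_cases h3 : r = 3
        · subst h3
          exact ⟨9, by omega, fun m hm => by omega⟩
        · exact ⟨r, hrq, fun m hm => ((Nat.coprime_primes hr Nat.prime_three).mpr h3).dvd_of_dvd_mul_left hm⟩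
      obtain ⟨a, ha⟩ := exists_units_orderOf (F := F) p (N := N) fun h => not_char_dvd_card_sub_one p (h.trans hN)
      have ha' : a ^ (Nat.card F - 1) = 1 := orderOf_dvd_iff_pow_eq_one.mp (ha ▸ hN)
      refine psl_exists_order p (L := [(a, 1, 2), ((a ^ 2)⁻¹, 1, 1)]) ?_ (by simp [sDim]) (by simp [sDet]) fun m hm => ?_
      · simp [SVal, ha', pow_right_comm a 2]
      · have h2 := hm.2.1 (a, 1, 2) (by simp) ((a ^ 2)⁻¹, 1, 1) (by simp)
        simp only [inv_pow, eq_inv_iff_mul_eq_one, ← pow_mul, ← pow_add] at h2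
        refine hc.mul_dvd_of_dvd_of_dvd (hN' _ ?_) (char_dvd_of_two_le p (hm.2.2 (a, 1, 2) (by simp)) le_rfl)
        rw [← ha, show 3 * m = m + 2 * m by ring]
        exact orderOf_dvd_of_pow_eq_one h2
    · obtain ⟨a, ha⟩ := exists_units_orderOf (F := F) p hpr
      have ha' : a ^ (Nat.card F - 1) = 1 := orderOf_dvd_iff_pow_eq_one.mp (ha ▸ hrq)
      refine psl_exists_order p (L := [(1, 1, 2), (a, 1, 1), (a⁻¹, 1, 1)]) (by simp [SVal, ha'])
        (by simp [sDim]; omega) (by simp [sDet]) fun m hm => ?_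
      have h2 := hm.2.1 (a, 1, 1) (by simp) (1, 1, 2) (by simp)
      exact hc.mul_dvd_of_dvd_of_dvd (ha ▸ orderOf_dvd_of_pow_eq_one (by simpa using h2))
        (char_dvd_of_two_le p (hm.2.2 (1, 1, 2) (by simp)) le_rfl)
  · rintro h ⟨g, hg⟩
    obtain ⟨L, hL, hd, hdet, h1⟩ := psl_analysis p g
    rw [hg] at h1
    have h3 := (h1 _).mp dvd_rfl
    have h4 : ¬ SCond p L p := fun h' =>
      hr.one_lt.ne' (Nat.dvd_one.mp (Nat.dvd_of_mul_dvd_mul_right hp.pos (by simpa using (h1 _).mpr h')))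
    obtain ⟨y, hy, h5⟩ := h3.exists_two_le p fun h' => hp.one_lt.ne' (Nat.dvd_one.mp
      (Nat.dvd_of_mul_dvd_mul_left hr.pos (by simpa using (h1 _).mpr h')))
    have h6 := h3.char_part p hc
    have hy1 := le_sDim hy
    obtain ⟨hy2, -, hy3⟩ := hL y hy
    rw [Fintype.card_fin] at hd
    rcases h with h | ⟨rfl, rfl, -, h9⟩
    · have hy4 : y.2.1 = 1 := by have := Nat.mul_le_mul_left y.2.1 h5; omega
      have hL' : ∀ x ∈ L, x = y := fun x hx => by
        by_contra hxy
        have := add_le_sDim hx hy hxy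
        have := Nat.mul_pos (hL x hx).1 (hL x hx).2.1
        have := Nat.mul_le_mul hy2 h5
        omega
      refine h4 ⟨fun x hx => ?_, fun x hx z hz => by rw [hL' x hx, hL' z hz], h6⟩
      rw [hy4, pow_one] at hy3
      rw [hL' x hx, mul_comm, pow_mul, hy3, one_pow]
    · have key : ∀ a b : (AlgebraicClosure F)ˣ, a ^ (Nat.card F - 1) = 1 → a ^ 2 * b = 1 →
          a ^ (3 * p) = b ^ (3 * p) → a ^ p = b ^ p := by
        intro a b h1 h2 h3
        obtain rfl : b = (a ^ 2)⁻¹ := eq_inv_of_mul_eq_one_right h2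
        have h4 : a ^ 9 = 1 := kb_pow_char_inj p (by
          simp only [inv_pow, eq_inv_iff_mul_eq_one, ← pow_mul, ← pow_add] at h3
          rw [← pow_mul, one_pow, ← h3]; congr 1; ring)
        have h5 := pow_gcd_eq_one.mpr ⟨h4, h1⟩
        have h6 : Nat.gcd 9 (Nat.card F - 1) ∣ 3 := by
          have h7 : Nat.gcd 9 (Nat.card F - 1) ∣ 3 ^ 2 := Nat.gcd_dvd_left _ _
          obtain ⟨i, hi, h8⟩ := (Nat.dvd_prime_pow Nat.prime_three).mp h7
          interval_cases i
          · simp [h8]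
          · simp [h8]
          · exact absurd (by simpa [h8] using Nat.gcd_dvd_right 9 (Nat.card F - 1)) h9
        have h7 : a ^ 3 = 1 := orderOf_dvd_iff_pow_eq_one.mp ((orderOf_dvd_of_pow_eq_one h5).trans h6)
        congr 1
        rw [eq_inv_iff_mul_eq_one, ← pow_succ', h7]
      apply h4
      rcases hL.cases_three hd with ⟨a, rfl⟩ | ⟨a, rfl⟩ | ⟨a, b, rfl | rfl⟩ | ⟨a, b, rfl | rfl⟩ | ⟨a, b, c, rfl⟩
      · simp at hy; simp [hy] at h5
      · refine ⟨?_, by simp, h6⟩
        simp only [SVal, List.mem_singleton, forall_eq, pow_one] at hL ⊢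
        rw [mul_comm, pow_mul, hL.2.2, one_pow]
      · simp at hy; rcases hy with rfl | rfl <;> simp at h5
      · simp at hy; rcases hy with rfl | rfl <;> simp at h5
      · simp only [SVal, List.mem_cons, List.not_mem_nil, or_false, forall_eq_or_imp, forall_eq, pow_one] at hL
        have := key a b hL.1.2.2 (by simpa [sDet] using hdet) (h3.2.1 (a, 1, 2) (by simp) (b, 1, 1) (by simp))
        exact ⟨by simp [mul_comm p, pow_mul, hL.1.2.2, hL.2.2.2], by simp [this], h6⟩
      · simp only [SVal, List.mem_cons, List.not_mem_nil, or_false, forall_eq_or_imp, forall_eq, pow_one] at hL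
        have := key a b hL.2.2.2 (by simpa [sDet, mul_comm] using hdet) (h3.2.1 (a, 1, 2) (by simp) (b, 1, 1) (by simp))
        exact ⟨by simp [mul_comm p, pow_mul, hL.1.2.2, hL.2.2.2], by simp [this], h6⟩
      · simp at hy; rcases hy with rfl | rfl | rfl <;> simp at h5

end Cfsg.Agent.S2470
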