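import Cfsg.Statements.S2471
import Cfsg.Agent.Lib.Known.PSL2

set_option autoImplicit false
open Cfsg

namespace Cfsg.Agent.S2471

open Cfsg.Lib.Known


/-- In PSL(2,q) with q odd, the characteristic p is isolated from 2 in the prime graph: for F a finite field of odd characteristic p with at least 5 elements, PSL(2,F) has no element of order 2p. -/
theorem result {F : Type*} [Field F] [Fintype F] (p : ℕ) [Fact p.Prime] [CharP F p] (hp : p ≠ 2) (h5 : 5 ≤ Fintype.card F) (g : Matrix.ProjectiveSpecialLinearGroup (Fin 2) F) :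
    orderOf g ≠ 2 * p := by
  intro h
  have hpp : p.Prime := Fact.out
  have h1 := char_dvd_natCard (F := F) p
  have h2 : 0 < Nat.card F := Nat.card_pos
  have h3 : Nat.gcd 2 (Nat.card F - 1) ∣ Nat.card F + 1 := gcd_add_one_eq (F := F) ▸ Nat.gcd_dvd_left _ _
  rcases (PSL2_spectrum p _).1 ⟨g, h⟩ with h | h | h
  · have := Nat.le_of_dvd hpp.pos h; have := hpp.pos; omega
  · have h4 := ((Dvd.intro_left 2 rfl).trans h).trans (Nat.div_dvd_of_dvd (Nat.gcd_dvd_right _ _))
    have := Nat.dvd_sub h1 h4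
    rw [show Nat.card F - (Nat.card F - 1) = 1 by omega] at this
    exact hpp.one_lt.ne' (Nat.dvd_one.1 this)
  · have h4 := ((Dvd.intro_left 2 rfl).trans h).trans (Nat.div_dvd_of_dvd h3)
    exact hpp.one_lt.ne' (Nat.dvd_one.1 ((Nat.dvd_add_right h1).1 h4))

end Cfsg.Agent.S2471
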