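import Cfsg.Statements.S2472
import Cfsg.Agent.Lib.Conj.SpecO

set_option autoImplicit false
open Cfsg

namespace Cfsg.Agent.S2472

open Cfsg.Lib.Conj Cfsg.Lib.Forms Cfsg.Lib.Forms.Form Module

open Cfsg.Lib.Linear
attribute [-simp] Nat.card_eq_fintype_card

/-- Adjacency of a prime and the characteristic in the prime graph of PSp(2n,q): let F be a finite field of characteristic p with q elements, n ≥ 2 with PSp(2n,F) simple, and let r ≠ p be an odd prime dividing the order of PSp(2n,F), with k the multiplicative order of q modulo r and η(k) = k for odd k, k/2 for even k. Then PSp(2n,F) has NO element of order r·p if and only if η(k) > n − 1. -/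
theorem result {F : Type*} [Field F] [Fintype F] (p : ℕ) [Fact p.Prime] [CharP F p] (n : ℕ) (hn : 2 ≤ n) (hsmall : n = 2 → 3 ≤ Fintype.card F)
    (r : ℕ) (hr : r.Prime) (hr2 : r ≠ 2) (hrp : r ≠ p) (hrG : r ∣ Nat.card (Cfsg.PSp n F))
    (k ηk : ℕ) (hk : k = orderOf ((Fintype.card F : ℕ) : ZMod r)) (hηk : (Odd k ∧ ηk = k) ∨ (Even k ∧ 2 * ηk = k)) :
    (r * p ∉ Set.range (orderOf : Cfsg.PSp n F → ℕ)) ↔ n - 1 < ηk := by
  rw [← Nat.card_eq_fintype_card] at *
  subst hk
  have hp := (Fact.out : p.Prime)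
  have hc : r.Coprime p := (Nat.coprime_primes hr hp).2 hrp
  have h2 : ¬ r ∣ 2 := fun h => hr2 ((Nat.prime_dvd_prime_iff_eq hr Nat.prime_two).1 h)
  constructor
  · intro h
    by_contra hc'
    obtain ⟨z, hz, h1⟩ := exists_oV (F := F) p hr hrp hηk
    have h0 := Eta.pos hηk (orderOf_card_pos p hr hrp)
    refine h (psp_exists_order p (L := [(z, ηk, 1), (1, 0, 2)]) (by omega)
      (oVal_cons.2 ⟨⟨h1 1 le_rfl, fun h => by simp at h; omega⟩, by simp [OVal, OV]⟩)
      (by simp [oDim, od_of_pos h0, od_zero]; omega) fun m hm => ?_)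
    exact hc.mul_dvd_of_dvd_of_dvd (hm.dvd (a := (z, ηk, 1)) (by simp) hz.symm.dvd
      (hr.odd_of_ne_two hr2)) (char_dvd_of_two_le p (hm.2.2 (1, 0, 2) (by simp)) le_rfl)
  · rintro h ⟨g, hg⟩
    obtain ⟨L, hL, hd, h1⟩ := psp_analysis p (by omega) g
    rw [hg] at h1
    have hN := mul_ne_zero hr.ne_zero hp.ne_zero
    obtain ⟨a, ha, h3⟩ := OCond.exists_dvd p hr hr2 hN (dvd_mul_right _ _) hc h1
    obtain ⟨b, hb, h4⟩ := OCond.exists_two_le p hN (dvd_mul_left _ _) h1
    have h5 := (hL a ha).1.eta_le h3 h2 hηk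
    have h6 := two_mul_le_od a.2.1
    by_cases hab : a = b
    · subst hab
      have := le_oDim ha
      have := Nat.mul_le_mul h6 h4
      omega
    · have := add_le_oDim ha hb hab
      have := Nat.mul_le_mul h6 (hL a ha).1.1
      have := Nat.mul_le_mul (od_pos b.2.1) h4
      omega

end Cfsg.Agent.S2472
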