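import Cfsg.Statements.S2474
import Cfsg.Agent.Lib.Conj.SpecP

set_option autoImplicit false
open Cfsg

namespace Cfsg.Agent.S2474

open Cfsg.Lib.Conj Cfsg.Lib.Forms Cfsg.Lib.Forms.Form Module

open Cfsg.Lib.Linear
attribute [-simp] Nat.card_eq_fintype_card

variable {F : Type*} [Field F] [Finite F] (p : ℕ) [hp : Fact p.Prime] [CharP F p] {n N r s : ℕ}

variable (F n N) in
/-- What both groups know about an element order. -/
def An : Prop := ∃ (L : SList F) (G : ℕ → Prop), OVal G L ∧ oDim L ≤ 2 * n + 1 ∧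
  (∀ m, N ∣ m ↔ OCond p L m) ∧ ∀ a ∈ L, a.2.1 = n → a.1 ≠ -1 → N * 2 ∣ oN a

variable (F n N) in
/-- Both groups have an element of order `N`. -/
def Both : Prop := N ∈ Set.range (orderOf : POmega F (quadFormOdd n F) → ℕ) ∧
  N ∈ Set.range (orderOf : PSp n F → ℕ)

omit [Finite F] in
theorem snd_eq_one {L : SList F} {G : ℕ → Prop} (hn : 3 ≤ n) (hL : OVal G L)
    (hd : oDim L ≤ 2 * n + 1) {z : (Kb F)ˣ} {e : ℕ} (ha : (z, n, e) ∈ L) : e = 1 := by
  have h1 := le_oDim ha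
  have h2 : 1 ≤ e := (hL _ ha).1.1
  by_contra h
  have := Nat.mul_le_mul (two_mul_le_od n) (by omega : 2 ≤ e)
  simp only at h1
  omega

theorem an_psp (h2 : (2 : F) ≠ 0) (hn : 3 ≤ n) (g : PSp n F) : An F p n (orderOf g) := by
  obtain ⟨L, hL, hd, h⟩ := psp_analysis p (by omega) g
  refine ⟨L, _, hL, by omega, h, ?_⟩
  rintro ⟨z, D, e⟩ ha (rfl : D = n) -
  obtain rfl := snd_eq_one hn hL (by omega) ha
  obtain rfl := hL.perm_single ha (by simp [hd, od_of_pos (by omega : 1 ≤ D)])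
  rw [← two_mul_half h2 (oN_cases _), mul_comm 2]
  refine mul_dvd_mul_right ((h _).2 ?_) _
  simpa [OCond, mul_comm _ 2, two_mul_half h2 (oN_cases (z, D, 1)), (hL _ ha).1.pow_oN] using
    ⟨0, by simp⟩

theorem an_omega (h2 : (2 : F) ≠ 0) (hn : 3 ≤ n) (g : POmega F (quadFormOdd n F)) :
    An F p n (orderOf g) := by
  classical
  obtain ⟨L, hL, hd, h1, h3, h⟩ := pOmega_analysis p (Q := quadFormOdd n F) (fOdd_nondeg h2 n) rfl
    (by rw [finrank_odd]; omega) h2 g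
  rw [finrank_odd] at hd
  refine ⟨L, _, hL, hd.le, h, ?_⟩
  rintro ⟨z, D, e⟩ ha (rfl : D = n) hz
  obtain rfl := snd_eq_one hn hL hd.le ha
  have h4 := List.perm_cons_erase ha
  have h5 := oDim_perm h4
  have h6 := hL.subset (List.erase_subset (a := (z, D, 1)))
  simp only [oDim_cons, od_of_pos (by omega : 1 ≤ D)] at h5 hd
  obtain ⟨⟨v, E, e⟩, hb⟩ := List.exists_mem_of_ne_nil (L.erase (z, D, 1)) fun h => by
    rw [h, oDim_nil] at h5; omega
  have h7 := le_oDim hb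
  have h8 := Nat.mul_le_mul (two_mul_le_od E) (h6 _ hb).1.1
  simp only at h7 h8
  obtain rfl : E = 0 := by omega
  obtain rfl : e = 1 := by have : 1 ≤ e := (h6 _ hb).1.1; rw [od_zero] at h7; omega
  rw [h6.perm_single hb (by simp [od_zero]; omega)] at h4
  obtain rfl : v = 1 := by
    simpa [oDet, show D ≠ 0 by omega] using (oDet_perm h4).symm.trans h1
  have h9 := h3 fun a ha => by
    rcases List.mem_pair.1 (h4.subset ha) with rfl | rfl
    exacts [hz, (kb_neg_one_ne h2).symm]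
  rw [oSp_perm h4, oSp_cons, oSp_cons, one_pow, oSp_nil, mul_one, mul_one, mul_one] at h9
  rw [← two_mul_half h2 (oN_cases _), mul_comm 2]
  refine mul_dvd_mul_right ((h _).2 (OOne.oCond fun a ha => ?_)) _
  rcases List.mem_pair.1 (h4.subset ha) with rfl | rfl
  exacts [⟨h9, 0, by simp⟩, ⟨one_pow _, 0, by simp⟩]

theorem both (h2 : (2 : F) ≠ 0) (hn : 3 ≤ n) {L : SList F} (hL : ∀ a ∈ L, OV a ∧ 1 ≤ a.2.1)
    (j : ℕ) (hd : oDim L + 2 * j ≤ 2 * n)
    (H : ∀ m, (∀ a ∈ L, a.1 ^ (m * 2) = 1) → (1 ≤ j → p ∣ m) → N ∣ m) : Both F n N := by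
  have h0 : ∀ G, OVal G L := fun G a ha => ⟨(hL a ha).1, fun h => by have := (hL a ha).2; omega⟩
  constructor
  · obtain ⟨k, hk⟩ := even_oDim fun a ha => (hL a ha).2
    obtain ⟨θ, h1⟩ := (h0 Odd).qRe h2
    refine pOmega_of_sq p (fOdd_nondeg h2 n) rfl (by rw [finrank_odd]; omega)
      (G := Odd) (oVal_append.2 ⟨h0 _, by simp [OVal, OV]⟩) (h1.fill_reg (h0 Odd) _
        (l := 2 * (n - k) + 1) (by omega) (by rw [finrank_odd]; omega) (.inr (by simp)))
      fun m hm => H m (fun a ha => ((hm.oOne (a := (1, 0, 2 * (n - k) + 1)) (by simp) rfl) a (by simp [ha])).1)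
        fun hj => ((Nat.coprime_primes hp.out Nat.prime_two).2 ?_).dvd_of_dvd_mul_right
          (char_dvd_of_two_le p (hm.2.2 (1, 0, 2 * (n - k) + 1) (by simp)) (by simp; omega))
    rintro rfl
    exact h2 (CharP.cast_eq_zero F 2)
  · refine psp_exists_order p (L := L ++ List.replicate j (1, 0, 2)) (by omega)
      (oVal_append.2 ⟨h0 _, fun a ha => by rw [List.eq_of_mem_replicate ha]; simp [OV]⟩)
      (by simpa [oDim, od_zero, mul_comm j] using hd) fun m hm =>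
        H m (fun a ha => hm.1 a (by simp [ha])) fun hj =>
          char_dvd_of_two_le p (hm.2.2 (1, 0, 2) (by simp; omega)) le_rfl

theorem exists_four (h2 : (2 : F) ≠ 0) : ∃ w : (Kb F)ˣ, (∀ m, w ^ (m * 2) = 1 → 2 ∣ m) ∧
    OV (w, 1, 1) := by
  obtain ⟨k, hk⟩ := odd_card_iff.2 h2
  haveI := Cfsg.Lib.Known.fact_prime_ringChar F
  obtain ⟨w, hw⟩ := exists_units_orderOf (F := F) (ringChar F) (N := 2 ^ 2) fun h =>
    h2 (ringChar_eq_two_iff.1 ((Nat.prime_dvd_prime_iff_eq Fact.out Nat.prime_two).1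
      ((Fact.out : (ringChar F).Prime).dvd_of_dvd_pow h)))
  refine ⟨w, fun m hm => by have := hw ▸ orderOf_dvd_of_pow_eq_one hm; omega, le_rfl, ?_⟩
  simp only [← orderOf_dvd_iff_pow_eq_one, hw, pow_one]
  omega

omit [Finite F] hp [CharP F p] in
theorem dvd_of_odd {z : (Kb F)ˣ} {m : ℕ} (hr : r.Prime) (h2 : r ≠ 2) (h : r ∣ orderOf z)
    (hm : z ^ (m * 2) = 1) : r ∣ m :=
  (Nat.coprime_two_right.2 (hr.odd_of_ne_two h2)).dvd_of_dvd_mul_right
    (h.trans (orderOf_dvd_of_pow_eq_one hm))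

omit [Finite F] [CharP F p] in
theorem An.exists_entry (hr : r.Prime) (h2 : r ≠ 2) (hrp : r ≠ p) {L : SList F} {G : ℕ → Prop}
    (hL : OVal G L) (hN : N ≠ 0) (hrN : r ∣ N) (h : ∀ m, N ∣ m ↔ OCond p L m) :
    ∃ a ∈ L, r ∣ orderOf a.1 ∧ OV (a.1, a.2.1, 1) ∧ 1 ≤ a.2.1 ∧ 2 * a.2.1 ≤ od a.2.1 * a.2.2 := by
  obtain ⟨a, ha, h1⟩ := OCond.exists_dvd p hr h2 hN hrN ((Nat.coprime_primes hr hp.out).2 hrp) h
  exact ⟨a, ha, h1, ⟨le_rfl, (hL a ha).1.2⟩, (hL a ha).1.pos h1 fun h =>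
    h2 ((Nat.prime_dvd_prime_iff_eq hr Nat.prime_two).1 h),
    by simpa using Nat.mul_le_mul (two_mul_le_od _) (hL a ha).1.1⟩

theorem case_char (h2 : (2 : F) ≠ 0) (hn : 3 ≤ n) (hr : r.Prime) (hrp : r ≠ p)
    (h : An F p n (r * p)) : Both F n (r * p) := by
  have hc := (Nat.coprime_primes hr hp.out).2 hrp
  by_cases hr2 : r = 2
  · subst hr2
    obtain ⟨w, h1, h3⟩ := exists_four h2
    exact both p h2 hn (L := [(w, 1, 1)]) (by simpa using h3) 1 (by simp [oDim, od]; omega)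
      fun m hm h => hc.mul_dvd_of_dvd_of_dvd (h1 m (hm (w, 1, 1) (by simp))) (h le_rfl)
  obtain ⟨L, G, hL, hd, h, -⟩ := h
  have hN := mul_ne_zero hr.ne_zero hp.out.ne_zero
  obtain ⟨a, ha, h1, h3, h4, h5⟩ := An.exists_entry p hr hr2 hrp hL hN (dvd_mul_right _ _) h
  obtain ⟨b, hb, h6⟩ := OCond.exists_two_le p hN (dvd_mul_left _ _) h
  refine both p h2 hn (L := [(a.1, a.2.1, 1)]) (by simpa using ⟨h3, h4⟩) 1 ?_
    fun m hm h => hc.mul_dvd_of_dvd_of_dvd (dvd_of_odd hr hr2 h1 (hm (a.1, a.2.1, 1) (by simp)))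
      (h le_rfl)
  simp only [oDim_cons, oDim_nil, od_of_pos h4]
  by_cases hab : a = b
  · subst hab
    have := le_oDim ha
    have := Nat.mul_le_mul (two_mul_le_od a.2.1) h6
    omega
  · have := add_le_oDim ha hb hab
    have := Nat.mul_le_mul (od_pos b.2.1) h6
    omega

theorem case_two (h2 : (2 : F) ≠ 0) (hn : 3 ≤ n) (hr : r.Prime) (hr2 : r ≠ 2) (hrp : r ≠ p)
    (h : An F p n (2 * r)) : Both F n (2 * r) := by
  obtain ⟨L, G, hL, hd, h, h'⟩ := h
  obtain ⟨a, ha, h1, h3, h4, h5⟩ := An.exists_entry p hr hr2 hrp hL (by have := hr.pos; omega)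
    (dvd_mul_left _ _) h
  have h6 := le_oDim ha
  by_cases hD : a.2.1 = n
  · have h7 := h' a ha hD fun h => hr2 ((Nat.prime_dvd_prime_iff_eq hr Nat.prime_two).1
      (h1.trans (orderOf_dvd_of_pow_eq_one (by simp [h]))))
    obtain ⟨z, hz⟩ := exists_units_orderOf (F := F) p (N := 2 * r * 2) fun h => by
      replace h := h.trans h7
      rcases oN_cases a with h8 | h8 <;> rw [h8] at h
      · exact hp.out.one_lt.ne' (Nat.dvd_one.1 ((Nat.dvd_add_right
          (dvd_pow (spec_char_dvd p) (by omega))).1 h))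
      · exact not_char_dvd_pow_sub_one p h4 h
    have h8 := pw (hz ▸ pow_orderOf_eq_one z) h7
    exact both p h2 hn (L := [(z, a.2.1, 1)]) (List.forall_mem_singleton.2 ⟨⟨le_rfl,
      (oN_cases a).imp (fun h => by rwa [h] at h8) fun h => ⟨h4, by rwa [h] at h8⟩⟩, h4⟩) 0
      (by simp [oDim, od_of_pos h4]; omega) fun m hm _ => Nat.dvd_of_mul_dvd_mul_right two_pos
        (hz ▸ orderOf_dvd_of_pow_eq_one (hm (z, a.2.1, 1) (by simp)))
  · obtain ⟨w, h7, h8⟩ := exists_four h2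
    exact both p h2 hn (L := [(a.1, a.2.1, 1), (w, 1, 1)]) (by simpa using ⟨⟨h3, h4⟩, h8⟩) 0
      (by simp [oDim, od_of_pos h4, od_of_pos le_rfl]; omega) fun m hm _ =>
        ((Nat.coprime_primes Nat.prime_two hr).2 hr2.symm).mul_dvd_of_dvd_of_dvd
          (h7 m (hm (w, 1, 1) (by simp))) (dvd_of_odd hr hr2 h1 (hm (a.1, a.2.1, 1) (by simp)))

theorem case_odd (h2 : (2 : F) ≠ 0) (hn : 3 ≤ n) (hr : r.Prime) (hr2 : r ≠ 2) (hrp : r ≠ p)
    (hs : s.Prime) (hs2 : s ≠ 2) (hsp : s ≠ p) (hrs : r ≠ s) (h : An F p n (r * s)) :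
    Both F n (r * s) := by
  obtain ⟨L, G, hL, hd, h, -⟩ := h
  have hN := mul_ne_zero hr.ne_zero hs.ne_zero
  have hc := (Nat.coprime_primes hr hs).2 hrs
  obtain ⟨a, ha, h1, h3, h4, h5⟩ := An.exists_entry p hr hr2 hrp hL hN (dvd_mul_right _ _) h
  obtain ⟨b, hb, k1, k3, k4, k5⟩ := An.exists_entry p hs hs2 hsp hL hN (dvd_mul_left _ _) h
  by_cases hab : a = b
  · subst hab
    have := le_oDim ha
    exact both p h2 hn (L := [(a.1, a.2.1, 1)]) (by simpa using ⟨h3, h4⟩) 0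
      (by simp [oDim, od_of_pos h4]; omega) fun m hm _ => hc.mul_dvd_of_dvd_of_dvd
        (dvd_of_odd hr hr2 h1 (hm (a.1, a.2.1, 1) (by simp)))
        (dvd_of_odd hs hs2 k1 (hm (a.1, a.2.1, 1) (by simp)))
  · have := add_le_oDim ha hb hab
    exact both p h2 hn (L := [(a.1, a.2.1, 1), (b.1, b.2.1, 1)])
      (by simpa using ⟨⟨h3, h4⟩, k3, k4⟩) 0
      (by simp [oDim, od_of_pos h4, od_of_pos k4]; omega) fun m hm _ => hc.mul_dvd_of_dvd_of_dvd
        (dvd_of_odd hr hr2 h1 (hm (a.1, a.2.1, 1) (by simp)))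
        (dvd_of_odd hs hs2 k1 (hm (b.1, b.2.1, 1) (by simp)))

/-- For q odd and n ≥ 3 the simple groups PΩ(2n+1,q) and PSp(2n,q) (which have the same order but different sets of element orders) have the same prime graph: for all distinct primes r, s, one of them has an element of order r·s if and only if the other does. -/
theorem result {F : Type*} [Field F] [Fintype F] (hodd : Odd (Fintype.card F)) (n : ℕ) (hn : 3 ≤ n) (r s : ℕ) (hr : r.Prime) (hs : s.Prime) (hrs : r ≠ s) :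
    (r * s ∈ Set.range (orderOf : Cfsg.POmega F (Cfsg.quadFormOdd n F) → ℕ)) ↔ (r * s ∈ Set.range (orderOf : Cfsg.PSp n F → ℕ)) := by
  rw [← Nat.card_eq_fintype_card] at *
  haveI hp := Cfsg.Lib.Known.fact_prime_ringChar F
  have h2 := odd_card_iff.1 hodd
  have key : An F (ringChar F) n (r * s) → Both F n (r * s) := fun h => by
    by_cases h1 : s = ringChar F
    · subst h1; exact case_char _ h2 hn hr hrs h
    by_cases h3 : r = ringChar F
    · subst h3; rw [mul_comm] at h ⊢; exact case_char _ h2 hn hs h1 h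
    by_cases h4 : r = 2
    · subst h4; exact case_two _ h2 hn hs hrs.symm h1 h
    by_cases h5 : s = 2
    · subst h5; rw [mul_comm] at h ⊢; exact case_two _ h2 hn hr h4 h3 h
    exact case_odd _ h2 hn hr h4 h3 hs h5 h1 hrs h
  exact ⟨fun ⟨g, hg⟩ => (key (hg ▸ an_omega _ h2 hn g)).2,
    fun ⟨g, hg⟩ => (key (hg ▸ an_psp _ h2 hn g)).1⟩

end Cfsg.Agent.S2474
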