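import Cfsg.Statements.S2477
import Cfsg.Agent.S2466

set_option autoImplicit false
open Cfsg

namespace Cfsg.Agent.S2477

open S2466

/-- All pairs (order, parity) of cycle types. -/
def T : ℕ → ℕ → List (ℕ × ℕ)
  | 0, _ => [(1, 0)]
  | f + 1, n => (1, 0) :: (List.range (n + 1)).flatMap fun a =>
      if 2 ≤ a then (T f (n - a)).map fun x => (Nat.lcm a x.1, (a + 1 + x.2) % 2) else []

theorem mem_T (m : Multiset ℕ) : ∀ f n, m.card ≤ f → m.sum ≤ n → (∀ a ∈ m, 2 ≤ a) →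
    (m.lcm, (m.sum + m.card) % 2) ∈ T f n := by
  induction m using Multiset.induction_on with
  | empty => intro f; cases f <;> simp [T]
  | cons a m ih =>
    rintro (_ | f) n h1 h2 h3
    · simp at h1
    rw [Multiset.card_cons] at h1
    rw [Multiset.sum_cons] at h2
    refine List.mem_cons_of_mem _ (List.mem_flatMap.2 ⟨a, by simp; omega, ?_⟩)
    rw [if_pos (h3 a (by simp))]
    refine List.mem_map.2 ⟨_, ih f _ (by omega) (by omega) fun b hb => h3 b (by simp [hb]), ?_⟩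
    simp [lcm_eq_nat_lcm]; omega

/-- The set of element orders of the alternating group of degree 10 is {1, 2, 3, 4, 5, 6, 7, 8, 9, 10, 12, 15, 21}. -/
theorem result : Set.range (orderOf : alternatingGroup (Fin 10) → ℕ) = {1, 2, 3, 4, 5, 6, 7, 8, 9, 10, 12, 15, 21} := by
  ext k
  rw [mem_range_iff]
  constructor
  · rintro ⟨m, h1, h2, h3, rfl⟩
    have := Multiset.card_nsmul_le_sum h2
    have h := mem_T m 5 10 (by simp at this; omega) h1 h2
    rw [Nat.even_iff.1 h3] at h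
    simpa using (by decide +kernel : ∀ x ∈ T 5 10, x.2 = 0 →
      x.1 ∈ [1, 2, 3, 4, 5, 6, 7, 8, 9, 10, 12, 15, 21]) _ h rfl
  · rintro (rfl | rfl | rfl | rfl | rfl | rfl | rfl | rfl | rfl | rfl | rfl | rfl | rfl)
    exacts [⟨0, by decide⟩, ⟨{2, 2}, by decide⟩, ⟨{3}, by decide⟩, ⟨{2, 4}, by decide⟩,
      ⟨{5}, by decide⟩, ⟨{2, 2, 3}, by decide⟩, ⟨{7}, by decide⟩, ⟨{2, 8}, by decide⟩,
      ⟨{9}, by decide⟩, ⟨{2, 2, 5}, by decide⟩, ⟨{2, 4, 3}, by decide⟩, ⟨{3, 5}, by decide⟩,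
      ⟨{3, 7}, by decide⟩]

end Cfsg.Agent.S2477
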