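import Cfsg.Statements.S2485
import Cfsg.Agent.Lib.Linear.PGL2Inv

set_option autoImplicit false
open scoped Pointwise
open Cfsg

namespace Cfsg.Agent.S2485

open Cfsg.Lib.Linear Cfsg.Lib.Known Matrix Subgroup
open scoped Pointwise

local notation "pk" => ProjGenLinGroup.mk
local notation "GL2" F => GL (Fin 2) F

variable {F : Type*} [Field F]

/-- The rotation by a right angle. -/
def J (F : Type*) [Field F] : GL2 F := glMat 0 (-1) 1 0 (by simp)

theorem coe_J : (J F : M2 F) = !![0, -1; 1, 0] := rfl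

theorem J_sq : (J F : M2 F) * J F = -1 := by
  rw [coe_J]; ext i j; fin_cases i <;> fin_cases j <;> simp

theorem exists_comm (h2 : (2 : F) ≠ 0) (hs : ∀ a b : F, a ^ 2 + b ^ 2 = 0 → a = 0) (g : PGL2 F) :
    ∃ r ≠ 1, Commute r (pk (J F)) ∧ Commute r (g * pk (J F) * g⁻¹) := by
  obtain ⟨g, rfl⟩ : ∃ h : GL2 F, pk h = g := QuotientGroup.mk_surjective g
  rw [← map_inv, ← map_mul, ← map_mul]
  have e : ((g * J F * g⁻¹ : GL2 F) : M2 F) * (g * J F * g⁻¹ : GL2 F) = -1 := by
    rw [← Units.val_mul, show g * J F * g⁻¹ * (g * J F * g⁻¹) = g * (J F * J F) * g⁻¹ by group, Units.val_mul, Units.val_mul,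
      Units.val_mul, J_sq]
    simp
  generalize g * J F * g⁻¹ = A at e
  have t : ∀ B : GL2 F, (B : M2 F).trace = 0 → pk B ≠ 1 := fun B h c => not_isScal_of_trace h2 h (pk_eq_one.1 c)
  by_cases h : (J F : M2 F) * A = A * J F
  · exact ⟨_, t _ (by simp [coe_J]), .refl _, commute_pk.2 (.inl h)⟩
  set B : M2 F := J F * A - A * J F with hB
  have h1 : B * J F = -(J F * B) := by
    rw [hB, sub_mul, mul_sub, Matrix.mul_assoc A.1, J_sq, ← Matrix.mul_assoc _ _ A.1, J_sq]; simp [Matrix.mul_assoc]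
  have h3 : B * A = -(A * B) := by
    rw [hB, sub_mul, mul_sub, Matrix.mul_assoc (J F).1, e, ← Matrix.mul_assoc A.1 A.1, e]; simp [Matrix.mul_assoc, sub_eq_add_neg]
  have h4 : B.det ≠ 0 := fun c => h (sub_eq_zero.1 (by
    have a : B 1 0 = B 0 1 := by simpa [coe_J, Matrix.mul_apply, vecMul, dotProduct] using (congrFun₂ h1 0 0).symm
    have b : B 0 0 = -B 1 1 := by simpa [coe_J, Matrix.mul_apply, vecMul, dotProduct, neg_eq_iff_eq_neg] using congrFun₂ h1 0 1
    rw [det_fin_two, b, a] at c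
    have x := hs (B 0 1) (B 1 1) (by linear_combination -c)
    have y := hs (B 1 1) (B 0 1) (by linear_combination -c)
    rw [← hB]; clear_value B
    ext i j; fin_cases i <;> fin_cases j <;> simp [a, b, x, y]))
  exact ⟨pk (GeneralLinearGroup.mkOfDetNeZero B h4), t _ (trace_eq_zero_of_anti h2 h1), commute_pk.2 (.inr h1),
    commute_pk.2 (.inr h3)⟩

theorem isPGroup_cent {q k : ℕ} [Fact q.Prime] (hk : q + 1 = 2 ^ k) (hq : q % 4 = 3) :
    IsPGroup 2 (centralizer {pk (J (ZMod q))}) := by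
  rintro ⟨g, hg⟩
  obtain ⟨g, rfl⟩ : ∃ h : GL2 (ZMod q), pk h = g := QuotientGroup.mk_surjective g
  rcases commute_pk.1 (mem_centralizer_singleton_iff.1 hg) with h | h
  · refine ⟨k, Subtype.ext ?_⟩
    have a := congrFun₂ h 0 0
    have b := congrFun₂ h 0 1
    simp [coe_J, Matrix.mul_apply] at a b
    have e : (g : M2 (ZMod q)) = g.1 0 0 • 1 + g.1 1 0 • (J (ZMod q)).1 := by
      ext i j; fin_cases i <;> fin_cases j <;> simp [coe_J, a, b]
    have f : (J (ZMod q)).1 ^ q = -J (ZMod q) := by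
      have : (J (ZMod q)).1 ^ 4 = 1 := by rw [show 4 = 2 * 2 by rfl, pow_mul, sq (J _).1, J_sq]; simp
      rw [← congrArg ((J (ZMod q)).1 ^ ·) (Nat.div_add_mod q 4), pow_add, pow_mul, this, hq, pow_succ, sq, J_sq]; simp
    rw [SubmonoidClass.coe_pow, ← map_pow, OneMemClass.coe_one, pk_eq_one, ← hk, Units.val_pow_eq_pow_val, pow_succ, e,
      add_pow_char_of_commute _ (((Commute.one_left _).smul_left _).smul_right _), smul_pow, smul_pow, f, ZMod.pow_card, ZMod.pow_card]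
    simp [IsScal, coe_J, Matrix.mul_apply, one_apply]
    ring_nf; simp
  · refine ⟨1, Subtype.ext ?_⟩
    have h2 : (2 : ZMod q) ≠ 0 := fun c => by
      have := Nat.le_of_dvd two_pos ((ZMod.natCast_eq_zero_iff 2 q).1 c)
      omega
    rw [pow_one, sq]
    exact pk_mul_self.2 (.inr (trace_eq_zero_of_anti h2 h))

theorem aux {G : Type*} [Group G] [Finite G] {t : G} (h1 : IsPGroup 2 (centralizer {t}))
    (h2 : ∀ g, ∃ r ≠ 1, Commute r t ∧ Commute r (g * t * g⁻¹)) (H : Sylow 2 G) (x : G) :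
    (H : Subgroup G) ⊓ MulAut.conj x • (H : Subgroup G) ≠ ⊥ := by
  obtain ⟨S, hS⟩ := h1.exists_le_sylow
  obtain ⟨y, rfl⟩ := MulAction.exists_smul_eq G S H
  obtain ⟨r, a, b, c⟩ := h2 (y⁻¹ * x * y)
  refine (ne_bot_iff_exists_ne_one).2 ⟨⟨y * r * y⁻¹, ?_, ?_⟩, by simpa [Subtype.ext_iff] using a⟩
  · exact smul_mem_pointwise_smul r (MulAut.conj y) _ (hS (mem_centralizer_singleton_iff.2 b))
  · have : (y⁻¹ * x * y)⁻¹ * r * (y⁻¹ * x * y) ∈ S := hS (mem_centralizer_singleton_iff.2 (by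
      have := (c.conj (y⁻¹ * x * y)⁻¹).eq
      simpa [mul_assoc] using this))
    convert smul_mem_pointwise_smul _ (MulAut.conj x) _ (smul_mem_pointwise_smul _ (MulAut.conj y) _ this) using 1
    simp [mul_assoc]; rfl

/-- Let q = 2^k − 1 ≥ 7 be a prime and let G = PGL(2,q), the general linear group of degree 2 over the field with q elements modulo its centre. Then any two Sylow 2-subgroups of G have a non-trivial intersection: for a Sylow 2-subgroup H and every x ∈ G, H ∩ H^x ≠ 1. -/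
theorem result {q k : ℕ} [Fact q.Prime] (hk : q + 1 = 2 ^ k) (hq : 7 ≤ q)
    (H : Sylow 2 (GL (Fin 2) (ZMod q) ⧸ Subgroup.center (GL (Fin 2) (ZMod q))))
    (x : GL (Fin 2) (ZMod q) ⧸ Subgroup.center (GL (Fin 2) (ZMod q))) :
    (H : Subgroup (GL (Fin 2) (ZMod q) ⧸ Subgroup.center (GL (Fin 2) (ZMod q)))) ⊓ MulAut.conj x • (H : Subgroup _) ≠ ⊥ := by
  have h4 : q % 4 = 3 := by
    obtain ⟨j, rfl⟩ : ∃ j, k = j + 2 := ⟨k - 2, by
      rcases k with _ | _ | k <;> simp at hk ⊢ <;> omega⟩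
    rw [pow_add] at hk; omega
  refine aux (G := GL (Fin 2) (ZMod q) ⧸ Subgroup.center (GL (Fin 2) (ZMod q))) (isPGroup_cent hk h4) (exists_comm (fun c => ?_) fun a b h => ?_) H x
  · have := Nat.le_of_dvd two_pos ((ZMod.natCast_eq_zero_iff 2 q).1 c)
    omega
  · by_contra c
    exact ZMod.mod_four_ne_three_of_sq_eq_neg_sq c (y := b) (by linear_combination h) h4

end Cfsg.Agent.S2485
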