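import Cfsg.Statements.S2486
import Cfsg.Agent.Lib.Linear.Flag
import Cfsg.Agent.Lib.Linear.TvConj

set_option autoImplicit false
open scoped Pointwise
open Cfsg

namespace Cfsg.Agent.S2486

open Cfsg.Lib.Linear Matrix Subgroup Equiv
open scoped Pointwise

theorem opp {n : ℕ} {F : Type*} [Field F] (a : GL (Fin n) F) :
    (∃ t ∈ upperTriangularGL n F, t ≠ 1 ∧ a⁻¹ * t * a ∈ upperTriangularGL n F) ∨
      ∃ u ∈ upperTriangularGL n F, ∃ v ∈ upperTriangularGL n F, a = u * permGL F Fin.revPerm * v := by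
  obtain ⟨σ, v, hv, h⟩ := exists_bruhat a
  have hu : a * v * permGL F σ⁻¹ ∈ upperTriangularGL n F := fun i j h' =>
    (mul_permGL_apply _ _ _ _).trans (h _ _ (by simpa using h'))
  by_cases c : ∃ i j, i < j ∧ σ i < σ j
  · obtain ⟨i, j, h1, h2⟩ := c
    have m : ∀ {i j : Fin n} (h : i < j), (SpecialLinearGroup.transvection h.ne (1 : F)).toGL ∈ upperTriangularGL n F :=
      fun h => (mem_slUnitri.1 (transvection_mem_slUnitri h 1)).1
    have e : (SpecialLinearGroup.transvection h2.ne (1 : F)).toGL * permGL F σ =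
        permGL F σ * (SpecialLinearGroup.transvection h1.ne (1 : F)).toGL := by
      ext k l
      rw [mul_permGL_apply, Units.val_mul]
      change _ = (_ * (1 + single i j 1) : Matrix _ _ F) k l
      rw [Matrix.mul_add, Matrix.mul_one]
      simp [SpecialLinearGroup.transvection_coe, permGL_apply, one_apply, Matrix.mul_apply, single, ite_and, eq_comm]
      split_ifs <;> rfl
    refine .inl ⟨_, mul_mem (mul_mem hu (m h2)) (inv_mem hu), fun c => ?_, ?_⟩
    · have := congrArg (fun g : GL (Fin n) F => g (σ i) (σ j)) (conj_eq_one_iff.1 c)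
      simp [SpecialLinearGroup.transvection_coe, h2.ne] at this
    · convert mul_mem (mul_mem hv (m h1)) (inv_mem hv) using 1
      rw [← eq_mul_inv_iff_mul_eq] at e
      rw [e, map_inv]; group
  · have : StrictMono (σ ∘ Fin.rev) := fun i j h => lt_of_le_of_ne
      (not_lt.1 fun d => c ⟨_, _, Fin.rev_lt_rev.2 h, d⟩) fun d => h.ne (Fin.rev_injective (σ.injective d))
    have e : σ = Fin.revPerm := Equiv.ext fun i => by simpa using congrFun this.eq_id i.rev
    exact .inr ⟨_, hu, v⁻¹, inv_mem hv, by simp [← e]⟩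

theorem aux {G L : Type*} [Group G] [Finite G] [Group L] (φ : L →* G) (hφ : Function.Injective φ) [φ.range.Normal]
    (hi : φ.range.index = 2) {U : Subgroup L} (hU : IsPGroup 2 U) {w : L}
    (h : ∀ a, (∃ t ∈ U, t ≠ 1 ∧ a⁻¹ * t * a ∈ U) ∨ ∃ u ∈ U, ∃ v ∈ U, a = u * w * v) (H : Sylow 2 G) (x : G) :
    (H : Subgroup G) ⊓ MulAut.conj x • (H : Subgroup G) ≠ ⊥ := by
  obtain ⟨S, hS⟩ := (hU.map φ).exists_le_sylow
  have m : ∀ {u}, u ∈ U → φ u ∈ S.1 := fun hu => hS (mem_map_of_mem _ hu)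
  obtain ⟨k, k1, k2⟩ := SetLike.not_le_iff_exists.1 fun c : S.1 ≤ φ.range => S.not_dvd_index (hi.symm.dvd.trans (index_dvd_of_le c))
  have key : ∀ a, ∃ r ∈ S.1, r ≠ 1 ∧ (φ a)⁻¹ * r * φ a ∈ S.1 := fun a => by
    obtain ⟨b, hb⟩ := ‹φ.range.Normal›.conj_mem _ ⟨a, rfl⟩ k
    rcases h a with ⟨t, t1, t2, t3⟩ | ⟨u, u1, v, v1, e⟩
    · exact ⟨_, m t1, by simpa [map_eq_one_iff φ hφ], by simpa using m t3⟩
    rcases h b with ⟨t, t1, t2, t3⟩ | ⟨u', u2, v', v2, e'⟩
    · refine ⟨_, mul_mem (mul_mem (inv_mem k1) (m t1)) k1, by simpa [map_eq_one_iff φ hφ, mul_eq_one_iff_eq_inv, inv_mul_eq_iff_eq_mul], ?_⟩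
      convert mul_mem (mul_mem (inv_mem k1) (m t3)) k1 using 1
      simp only [map_mul, map_inv, hb]; group
    · refine ⟨_, mul_mem (m (mul_mem u1 (inv_mem u2))) k1, fun c => k2 (eq_inv_of_mul_eq_one_right c ▸ inv_mem ⟨_, rfl⟩), ?_⟩
      convert mul_mem (m (mul_mem (inv_mem v1) v2)) k1 using 1
      rw [mul_assoc, mul_assoc, ← inv_mul_cancel_right (k * φ a) k, ← hb, e, e']
      simp only [map_mul, map_inv]; group
  have key2 : ∀ g : G, ∃ r ∈ S.1, r ≠ 1 ∧ g⁻¹ * r * g ∈ S.1 := fun g => by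
    by_cases c : g ∈ φ.range
    · obtain ⟨a, rfl⟩ := c
      exact key a
    · obtain ⟨a, ha⟩ := (mul_mem_iff_of_index_two hi).2 (iff_of_false c k2)
      obtain ⟨r, a1, a2, a3⟩ := key a
      refine ⟨r, a1, a2, ?_⟩
      convert mul_mem (mul_mem k1 a3) (inv_mem k1) using 1
      rw [ha]; group
  obtain ⟨y, rfl⟩ := MulAction.exists_smul_eq G S H
  obtain ⟨r, a, b, c⟩ := key2 (y⁻¹ * x * y)
  refine (ne_bot_iff_exists_ne_one).2 ⟨⟨y * r * y⁻¹, smul_mem_pointwise_smul r (MulAut.conj y) _ a, ?_⟩,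
    by simpa [Subtype.ext_iff] using b⟩
  convert smul_mem_pointwise_smul _ (MulAut.conj x) _ (smul_mem_pointwise_smul _ (MulAut.conj y) _ c) using 1
  simp [mul_assoc]; rfl

/-- Let n ≥ 4 and let G be a finite group with a normal subgroup N of index 2 isomorphic to SL(n,2) and with trivial centralizer in G (so G is the extension of the simple group L_n(2) by its inverse-transpose automorphism, its full automorphism group). Then any two Sylow 2-subgroups of G have a non-trivial intersection: for a Sylow 2-subgroup H and every x ∈ G, H ∩ H^x ≠ 1. -/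
theorem result {G : Type*} [Group G] [Finite G] {n : ℕ} (hn : 4 ≤ n) (N : Subgroup G) [N.Normal]
    (e : N ≃* Matrix.SpecialLinearGroup (Fin n) (ZMod 2)) (hidx : N.index = 2)
    (hC : Subgroup.centralizer (N : Set G) = ⊥)
    (H : Sylow 2 G) (x : G) :
    (H : Subgroup G) ⊓ MulAut.conj x • (H : Subgroup G) ≠ ⊥ := by
  let f := MulEquiv.ofBijective (Matrix.SpecialLinearGroup.toGL (n := Fin n) (R := ZMod 2))
    ⟨Matrix.SpecialLinearGroup.toGL_injective, fun g => exists_toGL_eq_of_det (Subsingleton.elim _ _)⟩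
  have hr : (N.subtype.comp (e.trans f).symm.toMonoidHom).range = N := by
    rw [MonoidHom.range_comp, MonoidHom.range_eq_top.2 (e.trans f).symm.surjective, ← MonoidHom.range_eq_map, range_subtype]
  have : (N.subtype.comp (e.trans f).symm.toMonoidHom).range.Normal := by rwa [hr]
  exact aux (N.subtype.comp (e.trans f).symm.toMonoidHom) (N.subtype_injective.comp (e.trans f).symm.injective) (by rwa [hr])
    (IsPGroup.of_card ((card_gl_upper n).trans (by simp; rfl))) opp H x

end Cfsg.Agent.S2486
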