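import Cfsg.Statements.S2487
import Cfsg.Agent.Lib.Forms.Refl
import Cfsg.Agent.Lib.Forms.Matrix

set_option autoImplicit false
open scoped Pointwise
open Cfsg

namespace Cfsg.Agent.S2487

open Cfsg.Lib.Forms Module in
theorem exists_fix {F V : Type*} [Field F] [AddCommGroup V] [Module F V] [FiniteDimensional F V]
    {D : Form (quadKind F) V} (hD : D.Nondeg) (U : Submodule F V) (h : finrank F U + 2 ≤ finrank F V) :
    ∃ c : D.isom, c ≠ 1 ∧ ∀ u ∈ U, c.1 u = u := by
  have h2 : 1 < finrank F (D.perp U) := by have := hD.finrank_perp U; omega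
  by_cases hq : ∃ v ∈ D.perp U, D.Q v ≠ 0
  · obtain ⟨v, hv, hq⟩ := hq
    obtain ⟨y, hy⟩ := hD.exists_ne_zero (x := v) fun e => hq (by simp [e])
    exact ⟨D.refl v, fun e => hy ((Form.refl_apply_eq_self_iff hq).1 (by rw [e]; rfl)),
      fun u hu => Form.refl_apply_of_perp (D.mem_perp'.1 hv u hu)⟩
  push Not at hq
  obtain ⟨e, he⟩ := finrank_pos_iff_exists_ne_zero.1 (zero_lt_one.trans h2)
  obtain ⟨z, hz⟩ := exists_linearIndependent_pair_of_one_lt_finrank h2 he
  have hez : D.B e z = 0 := by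
    have := D.Q_add e z
    rw [hq _ (add_mem e.2 z.2), hq _ e.2, hq _ z.2] at this
    simpa using this.symm
  obtain ⟨y, hy⟩ := hD.exists_ne_zero (x := e) fun h => he (Subtype.ext h)
  refine ⟨D.eich e z _ (Form.isEich_quad (hq _ e.2) hez), fun h => hy ?_,
    fun u hu => D.eich_apply_of_perp_perp _ (D.mem_perp'.1 e.2 u hu) (D.mem_perp'.1 z.2 u hu)⟩
  have h1 : (D.eich e z _ (Form.isEich_quad (hq _ e.2) hez)).1 y = y := by rw [h]; rfl
  rw [Form.eich_apply, hq _ z.2, zero_smul, add_zero, add_sub_assoc, add_eq_left, sub_eq_add_neg, ← neg_smul] at h1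
  simpa using (LinearIndependent.pair_iff.1 hz _ _ (Subtype.ext h1)).2

theorem fix_of {F : Type*} [Field F] {k : ℕ} {y : Fin (k + 1) ⊕ Fin (k + 1) → F} (h1 : ∀ i, y (.inr i) = 0)
    (h2 : y (.inl 0) = 0) : y = ∑ i : Fin k, y (.inl i.succ) • Pi.single (.inl i.succ) 1 := by
  ext j
  rw [Finset.sum_apply]
  rcases j with j | j
  · refine Fin.cases ?_ (fun j => ?_) j
    · simp [h2, Pi.single_apply, (Fin.succ_ne_zero _).symm]
    · simp [Pi.single_apply]
  · simp [h1]

open Cfsg.Lib.Forms Module in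
theorem pow_eight {F : Type*} [Field F] [Fintype F] (hF : Fintype.card F = 2) {k : ℕ} (T : (fPlus F (k + 1)).isom)
    (hT : ∀ i : Fin k, T.1 (Pi.single (.inl i.succ) 1) = Pi.single (.inl i.succ) 1) : T ^ 2 ^ 3 = 1 := by
  classical
  have h01 : ∀ x : F, x = 0 ∨ x = 1 := fun x => by
    have := FiniteField.pow_card x
    rw [hF, sq] at this
    rcases eq_or_ne x 0 with h | h
    exacts [.inl h, .inr (mul_eq_left₀ h |>.1 this)]
  have h2 : (1 : F) + 1 = 0 := by
    rcases h01 (1 + 1) with h | h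
    exacts [h, by simp at h]
  have hW : ∀ y : Fin (k + 1) ⊕ Fin (k + 1) → F, (∀ i, y (.inr i) = 0) → y (.inl 0) = 0 → T.1 y = y := fun y a b => by
    rw [fix_of a b, map_sum]; simp [hT]
  have hX : ∀ y (i : Fin k), T.1 y (.inr i.succ) = y (.inr i.succ) := fun y i => by
    rw [← fPlus_B_inl i.succ (T.1 y), ← fPlus_B_inl i.succ y, ← hT, Form.B_isom, hT]
  set a := T.1 (Pi.single (.inl 0) 1) with ha
  set b := T.1 (Pi.single (.inr 0) 1) with hb
  have a0 : ∀ i : Fin k, a (.inr i.succ) = 0 := fun i => by simp [ha, hX]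
  have b0 : ∀ i : Fin k, b (.inr i.succ) = 0 := fun i => by simp [hb, hX]
  have qa : a (.inl 0) * a (.inr 0) = 0 := by
    have := Form.Q_isom T (Pi.single (.inl 0) 1)
    simpa [fPlus_Q, quadFormPlus, Fin.sum_univ_succ, ← ha, a0] using this
  have qb : b (.inl 0) * b (.inr 0) = 0 := by
    have := Form.Q_isom T (Pi.single (.inr 0) 1)
    simpa [fPlus_Q, quadFormPlus, Fin.sum_univ_succ, ← hb, b0] using this
  have qab : a (.inl 0) * b (.inr 0) + a (.inr 0) * b (.inl 0) = 1 := by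
    have := Form.B_isom T (Pi.single (.inl 0) 1) (Pi.single (.inr 0) 1)
    rw [fPlus_B_inl] at this
    simpa [fPlus_B, Fin.sum_univ_succ, ← ha, ← hb, a0, b0] using this
  have hφ : ∀ y : Fin (k + 1) ⊕ Fin (k + 1) → F, (∀ i : Fin k, y (.inr i.succ) = 0) →
      T.1 y (.inl 0) = y (.inl 0) * a (.inl 0) + y (.inr 0) * b (.inl 0) ∧
      T.1 y (.inr 0) = y (.inl 0) * a (.inr 0) + y (.inr 0) * b (.inr 0) := fun y hy => by
    have := hW (y - y (.inl 0) • Pi.single (.inl 0) 1 - y (.inr 0) • Pi.single (.inr 0) 1)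
      (fun i => Fin.cases (by simp) (fun i => by simp [hy]) i) (by simp)
    rw [map_sub, map_sub, map_smul, map_smul, ← ha, ← hb] at this
    have e1 := congrFun this (.inl 0)
    have e2 := congrFun this (.inr 0)
    simp at e1 e2
    constructor <;> grind
  let N : Module.End F (Fin (k + 1) ⊕ Fin (k + 1) → F) := T.1.toLinearMap ^ 2 - 1
  have hN : ∀ y, N y = T.1 (T.1 y) - y := fun y => rfl
  have h3 : N ^ 3 = 0 := LinearMap.ext fun y => by
    have n1 : ∀ y (i : Fin k), N y (.inr i.succ) = 0 := fun y i => by simp [hN, hX]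
    have n2 : ∀ y : Fin (k + 1) ⊕ Fin (k + 1) → F, (∀ i : Fin k, y (.inr i.succ) = 0) → N y (.inl 0) = 0 ∧ N y (.inr 0) = 0 :=
      fun y hy => by
        have e1 := hφ y hy
        have e2 := hφ (T.1 y) fun i => by rw [hX, hy]
        simp only [hN, Pi.sub_apply, e2, e1]
        rcases h01 (a (.inl 0)) with p | p <;> rcases h01 (a (.inr 0)) with q | q <;> rcases h01 (b (.inl 0)) with r | r <;>
          rcases h01 (b (.inr 0)) with s | s <;> simp only [p, q, r, s] at qa qb qab ⊢ <;> simp at qa qb qab ⊢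
    have := hW (N (N y)) (fun i => Fin.cases (n2 _ (n1 y)).2 (n1 _) i) (n2 _ (n1 y)).1
    change N (N (N y)) = 0
    rw [hN, this, this, sub_self]
  have : CharP (Module.End F (Fin (k + 1) ⊕ Fin (k + 1) → F)) 2 := by
    have : CharP F 2 := CharTwo.of_one_ne_zero_of_two_eq_zero one_ne_zero (by rw [← h2]; norm_num)
    exact charP_of_injective_algebraMap (algebraMap F _).injective 2
  have h4 := sub_pow_char_pow_of_commute 2 2 (Commute.one_right (T.1.toLinearMap ^ 2))
  rw [show (T.1.toLinearMap ^ 2 - 1) ^ 2 ^ 2 = N ^ 3 * N from pow_succ _ 3, h3, zero_mul, one_pow, eq_comm, sub_eq_zero,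
    ← pow_mul] at h4
  exact Subtype.ext (LinearEquiv.toLinearMap_injective 
    ((map_pow (LinearEquiv.automorphismGroup.toLinearMapMonoidHom) T.1 8).trans h4))

/-- Let m ≥ 4 and let G be the full isometry group of the hyperbolic quadratic form x₁y₁ + ⋯ + x_m y_m on the 2m-dimensional space over the field with 2 elements (the orthogonal group O⁺(2m,2), which contains Ω⁺(2m,2) with index 2). Then any two Sylow 2-subgroups of G have a non-trivial intersection: for a Sylow 2-subgroup H and every x ∈ G, H ∩ H^x ≠ 1. -/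
theorem result {F : Type*} [Field F] [Fintype F] (hF : Fintype.card F = 2) {m : ℕ} (hm : 4 ≤ m)
    (H : Sylow 2 (Cfsg.isometryGroup F (Cfsg.quadFormPlus m F)))
    (x : Cfsg.isometryGroup F (Cfsg.quadFormPlus m F)) :
    (H : Subgroup (Cfsg.isometryGroup F (Cfsg.quadFormPlus m F))) ⊓ MulAut.conj x • (H : Subgroup _) ≠ ⊥ := by
  open Cfsg.Lib.Forms Module in
  classical
  obtain ⟨k, rfl⟩ : ∃ k, m = k + 1 := ⟨m - 1, by omega⟩
  let e : isometryGroup F (quadFormPlus (k + 1) F) ≃* (fPlus F (k + 1)).isom := oEquiv (fPlus F (k + 1))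
  let C : Subgroup (isometryGroup F (quadFormPlus (k + 1) F)) :=
    ⨅ i : Fin k, (MulAction.stabilizer _ (Pi.single (.inl i.succ) 1 : Fin (k + 1) ⊕ Fin (k + 1) → F)).comap e.toMonoidHom
  have hC : ∀ g, g ∈ C ↔ ∀ i : Fin k, (e g).1 (Pi.single (.inl i.succ) 1) = Pi.single (.inl i.succ) 1 := fun g => by
    simp only [C, Subgroup.mem_iInf, Subgroup.mem_comap, MulAction.mem_stabilizer_iff]; rfl
  have hp : IsPGroup 2 C := fun g => ⟨3, Subtype.ext (e.injective (by
    rw [SubgroupClass.coe_pow, map_pow, pow_eight hF _ ((hC _).1 g.2)]; simp))⟩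
  obtain ⟨P, hP⟩ := hp.exists_le_sylow
  obtain ⟨g, rfl⟩ := MulAction.exists_smul_eq (isometryGroup F (quadFormPlus (k + 1) F)) P H
  obtain ⟨c, hc, hfix⟩ := exists_fix (fPlus_nondeg (F := F) (k + 1)) (Submodule.span F (Set.range (Sum.elim
    (fun i : Fin k => (e g).1 (Pi.single (.inl i.succ) 1)) fun i : Fin k => (e (x * g)).1 (Pi.single (.inl i.succ) 1)))) (by
      have := finrank_range_le_card (R := F) (Sum.elim
        (fun i : Fin k => (e g).1 (Pi.single (.inl i.succ) 1)) fun i : Fin k => (e (x * g)).1 (Pi.single (.inl i.succ) 1))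
      simp only [Set.finrank, Fintype.card_sum, Fintype.card_fin] at this
      simp only [finrank_fintype_fun_eq_card, Fintype.card_sum, Fintype.card_fin]; omega)
  obtain ⟨c, rfl⟩ := e.surjective c
  have key : ∀ h, (∀ i : Fin k, (e c).1 ((e h).1 (Pi.single (.inl i.succ) 1)) = (e h).1 (Pi.single (.inl i.succ) 1)) →
      h⁻¹ * c * h ∈ (P : Subgroup _) := fun h hh => hP ((hC _).2 fun i => by
    rw [map_mul, map_mul, map_inv, Form.isom_mul_apply, Form.isom_mul_apply, hh, Form.isom_inv_apply])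
  have k1 := key g fun i => hfix _ (Submodule.subset_span ⟨.inl i, rfl⟩)
  have k2 := key (x * g) fun i => hfix _ (Submodule.subset_span ⟨.inr i, rfl⟩)
  refine fun h => hc ?_
  have : c ∈ (⊥ : Subgroup _) := h ▸ Subgroup.mem_inf.2 ⟨?_, ?_⟩
  · rw [Subgroup.mem_bot.1 this, map_one]
  · rw [Sylow.coe_subgroup_smul, Subgroup.mem_pointwise_smul_iff_inv_smul_mem]
    simpa using k1
  · rw [Sylow.coe_subgroup_smul, Subgroup.mem_pointwise_smul_iff_inv_smul_mem,
      Subgroup.mem_pointwise_smul_iff_inv_smul_mem]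
    simpa [mul_assoc] using k2

end Cfsg.Agent.S2487
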