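import Cfsg.Statements.S2488
import Cfsg.Agent.Lib.Linear.AltSix

set_option autoImplicit false
open scoped Pointwise
open Cfsg

namespace Cfsg.Agent.S2488

open Equiv Subgroup MulAction

/-- A double transposition. -/
def z0 : alternatingGroup (Fin 6) := ⟨swap 0 1 * swap 2 3, Cfsg.Lib.Linear.sign_swap_mul_swap (by decide) (by decide)⟩

theorem card_inv : Nat.card {w : alternatingGroup (Fin 6) | w ^ 2 = 1 ∧ w ≠ 1} = 45 := by
  rw [Nat.card_eq_card_toFinset, Set.toFinset_ofPred]; decide +kernel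

theorem card_inv' (P : Prop) : Nat.card {w : alternatingGroup (Fin 6) | (w ^ 2 = 1 ∧ w ≠ 1) ∧ ((z0 * w) ^ 3 = 1 ↔ P)} < 32 := by
  by_cases h : P <;> simp only [h, iff_true, iff_false] <;> rw [Nat.card_eq_card_toFinset, Set.toFinset_ofPred] <;> decide +kernel

theorem isConj_inv {z w : alternatingGroup (Fin 6)} (hz : z ^ 2 = 1 ∧ z ≠ 1) (hw : w ^ 2 = 1 ∧ w ≠ 1) : IsConj z w := by
  have h1 := Cfsg.Lib.Linear.cycleType_of_sq (by simp) hz.2 hz.1
  have h2 := Cfsg.Lib.Linear.cycleType_of_sq (by simp) hw.2 hw.1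
  exact alternatingGroup.isConj_of (Perm.isConj_iff_cycleType_eq.2 (h1.trans h2.symm)) (by
    rw [← Perm.sum_cycleType, h1]; simp)

/-- Let G be a finite group with a normal subgroup N of index 4 isomorphic to the alternating group of degree 6 and with trivial centralizer in G (so G is the full automorphism group of A₆). Then any two Sylow 2-subgroups of G have a non-trivial intersection: for a Sylow 2-subgroup H and every x ∈ G, H ∩ H^x ≠ 1. -/
theorem result {G : Type*} [Group G] [Finite G] (N : Subgroup G) [N.Normal]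
    (e : N ≃* alternatingGroup (Fin 6)) (hidx : N.index = 4)
    (hC : Subgroup.centralizer (N : Set G) = ⊥)
    (H : Sylow 2 G) (x : G) :
    (H : Subgroup G) ⊓ MulAut.conj x • (H : Subgroup G) ≠ ⊥ := by
  let ψ : G →* MulAut (alternatingGroup (Fin 6)) := (MulAut.congr e).toMonoidHom.comp MulAut.conjNormal
  letI : MulAction G (alternatingGroup (Fin 6)) := MulAction.compHom _ ψ
  have hs : ∀ (g : G) (w : alternatingGroup (Fin 6)), g • w = ψ g w := fun _ _ => rfl
  let X : SubMulAction G (alternatingGroup (Fin 6)) := ⟨{w | w ^ 2 = 1 ∧ w ≠ 1}, fun g w hw =>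
    ⟨by rw [hs, ← map_pow, hw.1, map_one], by rw [hs]; exact (map_ne_one_iff _ (ψ g).injective).2 hw.2⟩⟩
  have hX : Nat.card X = 45 := card_inv
  have hG : Nat.card G = 1440 := by
    rw [← N.card_mul_index, hidx, Nat.card_congr e.toEquiv, nat_card_alternatingGroup]; simp [Nat.factorial]
  have hH : Nat.card H = 32 := by rw [H.card_eq_multiplicity, hG]; decide +kernel
  obtain ⟨z, hz⟩ := H.2.nonempty_fixed_point_of_prime_not_dvd_card X (by rw [hX]; decide)
  have hle : (H : Subgroup G) ≤ stabilizer G z := fun h hh => hz ⟨h, hh⟩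
  have ho : orbit G z = Set.univ := Set.eq_univ_of_forall fun w => by
    obtain ⟨a, ha⟩ := isConj_iff.1 (isConj_inv z.2 w.2)
    refine ⟨e.symm a, Subtype.ext ?_⟩
    change e (MulAut.conjNormal (e.symm a : G) (e.symm z)) = w
    rw [← ha, ← e.apply_symm_apply (_ * _)]
    congr 1; ext; simp
  have he : (H : Subgroup G) = stabilizer G z := eq_of_le_of_card_ge hle (by
    have := (stabilizer G z).card_mul_index
    rw [index_stabilizer, ho, Set.ncard_univ, hX, hG] at this
    omega)
  intro h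
  obtain ⟨a, ha⟩ := isConj_iff.1 (isConj_inv z.2 (w := z0) (by decide +kernel))
  refine (card_inv' ((z.1 * (x • z).1) ^ 3 = 1)).not_ge (hH ▸ Nat.card_le_card_of_injective
    (fun g : H => ⟨a * ((g : G) • x • z).1 * a⁻¹, ⟨?_, ?_⟩, ?_⟩) fun g g' hg => ?_)
  · rw [conj_pow, ((g : G) • x • z).2.1]; simp
  · simpa using ((g : G) • x • z).2.2
  · have : z.1 = ψ g z.1 := (congrArg Subtype.val (hz g)).symm
    rw [← ha, conj_mul, conj_pow, conj_eq_one_iff, SubMulAction.val_smul, hs]
    nth_rw 1 [this]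
    rw [← map_mul, ← map_pow, map_eq_one_iff _ (ψ g).injective]
  · have h1 : (g : G) • x • z = (g' : G) • x • z := Subtype.ext (by simpa using hg)
    have : (g' : G)⁻¹ * g ∈ (⊥ : Subgroup G) := h ▸ mem_inf.2 ⟨mul_mem (inv_mem g'.2) g.2, by
      exact map_mono he.ge ((stabilizer_smul_eq_stabilizer_map_conj x z).le
        (by rw [mem_stabilizer_iff, mul_smul, h1, inv_smul_smul]))⟩
    exact Subtype.ext (inv_mul_eq_one.1 this).symm

end Cfsg.Agent.S2488
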