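import Cfsg.Statements.S2490
import Cfsg.Agent.Lib.Exc.M11e

set_option autoImplicit false
open Cfsg

namespace Cfsg.Agent.S2490

/-- Let G be a finite group of order 7920 = 2⁴·3²·5·11 (the order of the smallest Mathieu group) and suppose its prime graph (vertices the prime divisors of the order, distinct p, q joined when there is an element of order pq) is disconnected: the prime divisors split into two non-empty parts with no element of order pq for p in one part and q in the other. Then G is simple. -/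
theorem result {G : Type*} [Group G] [Finite G] (hord : Nat.card G = 7920)
    (hdisc : (∃ A : Set ℕ, (∃ a ∈ A, a.Prime ∧ a ∣ Nat.card G) ∧ (∃ b ∉ A, b.Prime ∧ b ∣ Nat.card G) ∧
      ∀ a ∈ A, ∀ b ∉ A, a.Prime → b.Prime → a ∣ Nat.card G → b ∣ Nat.card G → ¬ ∃ g : G, orderOf g = a * b)) :
    IsSimpleGroup G := by
  obtain ⟨A, ⟨a, ha, pa, da⟩, ⟨b, hb, pb, db⟩, h⟩ := hdisc
  have h1 : ∀ p q, p.Prime → q.Prime → Cfsg.Lib.Exc.Adj G p q → p ∈ A → q ∈ A := fun p q hp hq ⟨g, hg⟩ e => by
    by_contra e'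
    have := orderOf_dvd_natCard g
    rw [hg] at this
    exact h p e q e' hp hq (Dvd.dvd.trans (Dvd.intro _ rfl) this) (Dvd.dvd.trans (Dvd.intro_left _ rfl) this) ⟨g, hg⟩
  refine Cfsg.Lib.Exc.simple_of_disc hord (· ∈ A) (fun p q hp hq _ e => ⟨h1 p q hp hq e, h1 q p hq hp e.symm⟩) fun e => ?_
  have h2 : ∀ p, p.Prime → p ∣ Nat.card G → (p ∈ A ↔ 11 ∈ A) := fun p hp hd => by
    rcases Cfsg.Lib.Exc.primes7920 p
      (Nat.mem_divisors.2 ⟨hord ▸ hd, by norm_num⟩) hp with rfl | rfl | rfl | rfl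
    exacts [e.1, e.2.1, e.2.2, Iff.rfl]
  exact hb ((h2 b pb db).2 ((h2 a pa da).1 ha))

end Cfsg.Agent.S2490
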