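import Cfsg.Statements.S2493
import Cfsg.Agent.Lib.Linear.AltCover

set_option autoImplicit false
open Cfsg

namespace Cfsg.Agent.S2493

open Equiv Equiv.Perm Finset Cfsg.Lib.Linear

section
set_option linter.unusedSectionVars false
variable {α : Type*} [Fintype α] [DecidableEq α]

theorem inv_inv' {s : Perm α} (h : s ^ 2 = 1) (x : α) : s (s x) = x := congrArg (· x) h

theorem exists_invol (n : ℕ) : ∀ σ : Perm α, σ.support.card = n → ∀ f, ∃ s t : Perm α, s ^ 2 = 1 ∧ t ^ 2 = 1 ∧
    σ = s * t ∧ s f = f ∧ s.support ⊆ σ.support ∧ t.support ⊆ σ.support ∧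
    (t.support.card = s.support.card ∨ t.support.card = s.support.card + 2) := by
  induction n using Nat.strong_induction_on with
  | _ n ih =>
  intro σ hn f
  by_cases h1 : σ = 1
  · exact ⟨1, 1, by simp, by simp, by simp [h1], rfl, by simp, by simp, .inl rfl⟩
  wlog hf : σ f ≠ f generalizing f
  · obtain ⟨x, hx⟩ := not_forall.1 fun h => h1 (Equiv.ext h)
    obtain ⟨s, t, a, b, c, -, d, e⟩ := this x hx
    exact ⟨s, t, a, b, c, notMem_support.1 fun g => hf (mem_support.1 (d g)), d, e⟩
  obtain ⟨y, rfl⟩ := σ.surjective f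
  have hy : σ y ≠ y := fun e => hf (by rw [e, e])
  have hs : (swap y (σ y) * σ).support ⊆ σ.support.erase y := fun x hx => by
    have := mem_support_swap_mul_imp_mem_support_ne hx
    exact mem_erase.2 this.symm
  obtain ⟨s, t, a, b, c, d, e, f, g⟩ := ih _ (hn ▸ card_support_swap_mul hy) _ rfl (σ y)
  have sy : s y = y := notMem_support.1 fun h => by simpa using hs (e h)
  have ty : t y = y := notMem_support.1 fun h => by simpa using hs (f h)
  have dj : Perm.Disjoint (swap y (σ y)) s := fun x => by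
    by_cases h : x = y ∨ x = σ y
    · rcases h with rfl | rfl
      exacts [.inr sy, .inr d]
    · exact .inl (swap_apply_of_ne_of_ne (not_or.1 h).1 (not_or.1 h).2)
  have su : (swap y (σ y) * s).support ⊆ σ.support := by
    rw [dj.support_mul, support_swap hy.symm]
    exact union_subset (by simp [insert_subset_iff, hy, hf]) ((e.trans hs).trans (erase_subset _ _))
  have s2 : (swap y (σ y) * s) ^ 2 = 1 := by rw [dj.commute.mul_pow, a, sq, swap_mul_self, one_mul]
  have hσ : σ = swap y (σ y) * s * t := by rw [mul_assoc, ← c, swap_mul_self_mul]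
  refine ⟨swap y (σ y) * s * t * (swap y (σ y) * s)⁻¹, swap y (σ y) * s, by rw [conj_pow, b]; simp, s2,
    by rw [inv_mul_cancel_right]; exact hσ, ?_, ?_, su, ?_⟩
  · rw [Perm.mul_apply, show (swap y (σ y) * s)⁻¹ (σ y) = y by
      rw [Perm.inv_eq_iff_eq, Perm.mul_apply, sy, swap_apply_left], ← hσ]
  · rw [← hσ]
    exact (support_mul_le _ _).trans (sup_le le_rfl (by rw [support_inv]; exact su))
  · rw [card_support_conj, dj.card_support_mul, card_support_swap hy.symm]; omega

theorem invol_type {s : Perm α} (h : s ^ 2 = 1) : ∃ N, s.support.card = 2 * N ∧ sign s = (-1) ^ N ∧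
    s.cycleType = Multiset.replicate N 2 := by
  have : Fact (Nat.Prime 2) := ⟨Nat.prime_two⟩
  refine ⟨_, ?_, ?_, cycleType_of_pow_prime_eq_one h⟩
  · rw [← sum_cycleType]; nth_rw 1 [cycleType_of_pow_prime_eq_one h]; simp [mul_comm]
  · rw [sign_of_cycleType]; nth_rw 1 [cycleType_of_pow_prime_eq_one h]; simp [pow_add, pow_mul']

theorem isConj_two {u v : Perm α} (hu : u ^ 2 = 1) (hv : v ^ 2 = 1) (h : u.support.card = v.support.card) :
    IsConj u v := by
  obtain ⟨N, a, -, b⟩ := invol_type hu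
  obtain ⟨M, c, -, d⟩ := invol_type hv
  rw [isConj_iff_cycleType_eq, b, d]
  congr 1; omega

theorem conj_even {u v c : Perm α} (h : IsConj u v) (hc : sign c = -1) (hc' : Commute c u) :
    ∃ h, sign h = 1 ∧ h * u * h⁻¹ = v := by
  obtain ⟨k, rfl⟩ := isConj_iff.1 h
  rcases Int.units_eq_one_or (sign k) with e | e
  · exact ⟨k, e, rfl⟩
  · exact ⟨k * c, by rw [map_mul, e, hc]; rfl, by rw [mul_assoc k, hc'.eq]; group⟩

theorem split {s : Perm α} (h : s ^ 2 = 1) {x : α} (hx : s x ≠ x) :
    Perm.Disjoint (swap x (s x)) (swap x (s x) * s) ∧ (swap x (s x) * s) ^ 2 = 1 ∧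
      (swap x (s x) * s).support.card + 2 = s.support.card ∧ (swap x (s x) * s).support ⊆ s.support := by
  have := inv_inv' h
  have dj : Perm.Disjoint (swap x (s x)) (swap x (s x) * s) := fun y => by
    simp only [Perm.mul_apply, swap_apply_def]; grind
  refine ⟨dj, Equiv.ext fun y => ?_, ?_, fun y hy => (mem_support_swap_mul_imp_mem_support_ne hy).1⟩
  · have := s.injective
    simp only [sq, Perm.mul_apply, swap_apply_def, Perm.one_apply]; grind
  · have := dj.card_support_mul
    rw [swap_mul_self_mul, card_support_swap hx.symm] at this; omega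

theorem D_swap {a b c d : α} (h1 : a ≠ b) (h2 : c ≠ d) (h3 : a ≠ c) (h4 : a ≠ d) (h5 : b ≠ c) (h6 : b ≠ d) :
    (swap a b * swap c d) ^ 2 = 1 ∧ (swap a b * swap c d).support.card = 4 := by
  have dj : Perm.Disjoint (swap a b) (swap c d) := fun y => by simp only [swap_apply_def]; grind
  exact ⟨by rw [dj.commute.mul_pow]; simp [sq], by rw [dj.card_support_mul, card_support_swap h1, card_support_swap h2]⟩

/-- the factorisation used to write a permutation as a commutator -/
def Q (σ : Perm α) : Prop := ∃ s t x y : Perm α, s ^ 2 = 1 ∧ t ^ 2 = 1 ∧ s.support.card = t.support.card ∧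
  4 ≤ s.support.card ∧ sign (s * x) = 1 ∧ Perm.Disjoint s x ∧ Perm.Disjoint t y ∧ IsConj x y ∧
  σ = (s * x)⁻¹ * (t * y)

theorem Q_of {s t : Perm α} (hs : s ^ 2 = 1) (ht : t ^ 2 = 1) (h : s.support.card = t.support.card)
    (h4 : 4 ≤ s.support.card) (he : sign s = 1) : Q (s * t) :=
  ⟨s, t, 1, 1, hs, ht, h, h4, by simpa, disjoint_one_right _, disjoint_one_right _, IsConj.refl _, by
    rw [mul_one, mul_one, inv_eq_of_mul_eq_one_right (sq s ▸ hs)]⟩

theorem exists_Q (h5 : 5 ≤ Fintype.card α) {σ : Perm α} (hσ : sign σ = 1) : Q σ := by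
  have ex : ∀ S : Finset α, S.card < 5 → ∃ p, p ∉ S := fun S hS => by
    obtain ⟨p, hp⟩ := card_pos.1 (show 0 < Sᶜ.card by rw [card_compl]; omega)
    exact ⟨p, mem_compl.1 hp⟩
  by_cases h1 : σ = 1
  · obtain ⟨a, -⟩ := ex ∅ (by simp)
    obtain ⟨b, hb⟩ := ex {a} (by simp)
    obtain ⟨c, hc⟩ := ex {a, b} (card_le_two.trans_lt (by decide))
    obtain ⟨d, hd⟩ := ex {a, b, c} (card_le_three.trans_lt (by decide))
    obtain ⟨e, f⟩ := D_swap (a := a) (b := b) (c := c) (d := d) (by grind) (by grind) (by grind) (by grind)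
      (by grind) (by grind)
    rw [h1, ← e, sq]
    exact Q_of e e rfl f.ge (sign_swap_mul_swap (by grind) (by grind))
  obtain ⟨f, hf⟩ := not_forall.1 fun h => h1 (Equiv.ext h)
  obtain ⟨s, t, hs, ht, rfl, sf, -, -, hc⟩ := exists_invol _ σ rfl f
  have tf : t f ≠ f := fun e => hf (by rw [Perm.mul_apply, e, sf]; rfl)
  obtain ⟨N, a1, a2, -⟩ := invol_type hs
  obtain ⟨M, b1, b2, -⟩ := invol_type ht
  replace hc : t.support.card = s.support.card := hc.resolve_right fun e => by
    obtain rfl : M = N + 1 := by omega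
    rw [map_mul, a2, b2, pow_succ, ← mul_assoc, ← sq, ← pow_mul, mul_comm N, pow_mul] at hσ
    simp at hσ
  have h0 := card_pos.2 ⟨f, mem_support.2 tf⟩
  rcases N.even_or_odd with hN | hN
  · exact Q_of hs ht hc.symm (by obtain ⟨k, rfl⟩ := hN; omega) (by rw [a2, hN.neg_one_pow])
  obtain ⟨g, sg, tg⟩ := not_subset.1 fun h : s.support ⊆ t.support =>
    mem_support.1 (eq_of_subset_of_card_le h hc.le ▸ mem_support.2 tf) sf
  rw [mem_support] at sg
  rw [notMem_support] at tg
  have i1 := inv_inv' hs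
  have i2 := inv_inv' ht
  obtain ⟨c1, c2, c3, c4⟩ := split hs sg
  obtain ⟨d1, d2, d3, d4⟩ := split ht tf
  by_cases h : 3 ≤ N
  · have dj : ∀ {s : Perm α} {f g : α}, s ^ 2 = 1 → s f = f → s g ≠ g →
        Perm.Disjoint (swap g (s g) * s) (swap g f * swap g (s g)) := fun {s f g} h e1 e2 y => by
      have := inv_inv' h
      simp only [Perm.mul_apply, swap_apply_def]; grind
    have tc : ∀ {s : Perm α} {f g : α}, s ^ 2 = 1 → s f = f → s g ≠ g →
        (swap g f * swap g (s g)).cycleType = {3} := fun {s f g} h e1 e2 => by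
      have := inv_inv' h
      exact isThreeCycle_swap_mul_swap_same (by grind) (by grind) (by grind)
    refine ⟨_, _, _, _, c2, d2, by omega, by omega, ?_, dj hs sf sg, dj ht tg tf,
      isConj_iff_cycleType_eq.2 ((tc hs sf sg).trans (tc ht tg tf).symm), ?_⟩
    · rw [map_mul, map_mul, a2, hN.neg_one_pow, sign_swap sg.symm, IsThreeCycle.sign (tc hs sf sg)]; rfl
    · rw [(dj hs sf sg).commute.eq, (dj ht tg tf).commute.eq, mul_assoc, mul_assoc, swap_mul_self_mul,
        swap_mul_self_mul, swap_comm g, mul_inv_rev, swap_inv, mul_assoc, swap_mul_self_mul,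
        inv_eq_of_mul_eq_one_right (sq s ▸ hs)]
  have e1 : s = swap g (s g) := by
    have : swap g (s g) * s = 1 := card_support_eq_zero.1 (by obtain ⟨k, rfl⟩ := hN; omega)
    rw [← swap_inv, inv_eq_of_mul_eq_one_right this]
  have e2 : t = swap f (t f) := by
    have : swap f (t f) * t = 1 := card_support_eq_zero.1 (by obtain ⟨k, rfl⟩ := hN; omega)
    rw [← swap_inv, inv_eq_of_mul_eq_one_right this]
  have n1 : f ≠ g := by grind
  have n2 : s g ≠ f := by grind
  have n3 : t f ≠ g := by grind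
  rw [e1, e2]
  generalize s g = u at *
  generalize t f = v at *
  by_cases huv : u = v
  · subst huv
    obtain ⟨p, hp⟩ := ex {f, g, u} (card_le_three.trans_lt (by decide))
    obtain ⟨q, hq⟩ := ex {f, g, u, p} (card_le_four.trans_lt (by decide))
    obtain ⟨e, e'⟩ := D_swap (a := g) (b := u) (c := p) (d := q) (by grind) (by grind) (by grind) (by grind)
      (by grind) (by grind)
    obtain ⟨k, k'⟩ := D_swap (a := p) (b := q) (c := f) (d := u) (by grind) (by grind) (by grind) (by grind)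
      (by grind) (by grind)
    simpa [mul_assoc] using Q_of e k (e'.trans k'.symm) e'.ge (sign_swap_mul_swap (by grind) (by grind))
  · obtain ⟨e, e'⟩ := D_swap (a := g) (b := f) (c := u) (d := v) (by grind) (by grind) (by grind) (by grind)
      (by grind) (by grind)
    obtain ⟨k, k'⟩ := D_swap (a := g) (b := v) (c := u) (d := f) (by grind) (by grind) (by grind) (by grind)
      (by grind) (by grind)
    convert Q_of e k (e'.trans k'.symm) e'.ge (sign_swap_mul_swap (by grind) (by grind)) using 1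
    ext y
    simp only [Perm.mul_apply, swap_apply_def]; grind

variable {Γ : Type*} [Group Γ] {π : Γ →* alternatingGroup α} (hs : Function.Surjective π)
  (hc : π.ker ≤ Subgroup.center Γ) (h2 : Nat.card π.ker = 2)

include hc in
theorem exists_ker {x y : Γ} (h : π x = π y) : ∃ z ∈ π.ker, y = x * z ∧ ∀ g, g * z = z * g :=
  ⟨x⁻¹ * y, by simp [h], by simp, Subgroup.mem_center_iff.1 (hc (by simp [h]))⟩

include h2 in
theorem ker_sq {z : Γ} (h : z ∈ π.ker) : z ^ 2 = 1 :=
  congrArg Subtype.val (h2 ▸ pow_card_eq_one' (x := (⟨z, h⟩ : π.ker)))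

include h2 in
theorem ker_eq {z w : Γ} (h : z ∈ π.ker) (h' : w ∈ π.ker) (z1 : z ≠ 1) (w1 : w ≠ 1) : z = w := by
  obtain ⟨y, -, e⟩ := (Nat.card_eq_two_iff' (1 : π.ker)).1 h2
  exact congrArg Subtype.val ((e ⟨z, h⟩ fun f => z1 (congrArg Subtype.val f)).trans
    (e ⟨w, h'⟩ fun f => w1 (congrArg Subtype.val f)).symm)

include hs hc h2

theorem sqD (h5 : 5 ≤ Fintype.card α) (hp : commutator Γ = ⊤) {x : Γ} (h : (π x).1 ^ 2 = 1)
    (h4 : (π x).1.support.card = 4) : x ^ 2 ≠ 1 := fun e => by
  have all : ∀ y : Γ, (π y).1 ^ 2 = 1 → (π y).1.support.card = 4 → y ^ 2 = 1 := fun y a b => by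
    obtain ⟨p, hp⟩ := card_pos.1 (show 0 < (π x).1.support.card by omega)
    obtain ⟨c1, -⟩ := split h (mem_support.1 hp)
    obtain ⟨k, k1, k2⟩ := conj_even (isConj_two h a (h4.trans b.symm)) (sign_swap (mem_support.1 hp).symm)
      (by simpa [← mul_assoc] using (Commute.refl _).mul_right c1.commute)
    obtain ⟨g, hg⟩ := hs ⟨k, k1⟩
    obtain ⟨z, z1, rfl, z2⟩ := exists_ker hc (x := g * x * g⁻¹) (y := y) (Subtype.ext (by simp [hg, k2]))
    rw [Commute.mul_pow (z2 _), conj_pow, e, ker_sq h2 z1]; simp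
  obtain ⟨a, b, hab⟩ := Fintype.exists_pair_of_one_lt_card (show 1 < Fintype.card α by omega)
  have : ∀ i, ∃ x, π x = altCyc hab i ∧ x ^ 3 = 1 := fun i => by
    obtain ⟨x, hx⟩ := hs (altCyc hab i)
    have h3 := (carm_altCyc hab).cube i trivial
    refine ⟨x ^ 4, by rw [map_pow, hx, pow_succ, h3, one_mul], ?_⟩
    rw [← pow_mul, show 4 * 3 = 3 * 2 * 2 from rfl, pow_mul, pow_mul,
      ker_sq h2 (z := x ^ 3) (by rw [MonoidHom.mem_ker, map_pow, hx, h3]), one_pow]
  choose X hX h3 using this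
  have h6 : commutator Γ ≤ Subgroup.closure (Set.range X) := by
    have h5 : ∀ g, ∃ k ∈ Subgroup.closure (Set.range X), π k = π g := fun g => by
      have : π g ∈ (Subgroup.closure (Set.range X)).map π := by
        rw [MonoidHom.map_closure, ← Set.range_comp, show π ∘ X = altCyc hab from funext hX, closure_altCyc]; trivial
      exact this
    refine Subgroup.commutator_le.2 fun x _ y _ => ?_
    obtain ⟨x', hx, e⟩ := h5 x
    obtain ⟨y', hy, f⟩ := h5 y
    obtain ⟨z, -, rfl, hz⟩ := exists_ker hc e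
    obtain ⟨w, -, rfl, hw⟩ := exists_ker hc f
    convert mul_mem (mul_mem (mul_mem hx hy) (inv_mem hx)) (inv_mem hy) using 1
    rw [commutatorElement_def, mul_assoc x' z, ← hz, mul_inv_rev, mul_inv_rev]
    simp only [mul_assoc, mul_inv_cancel_left]
    rw [← mul_assoc w, ← hw]
    simp [mul_assoc]
  obtain ⟨z, z1, -⟩ := (Nat.card_eq_two_iff' (1 : π.ker)).1 h2
  refine z1 (Subtype.ext (mem_of_carm hab π hX ⊥ h3 (fun i j hij => ?_) (h6 (hp ▸ trivial)) z.2))
  have := Subtype.coe_ne_coe.2 hij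
  have := i.2
  have := j.2
  have e : (π (X i * X j)).1 = swap a i.1 * swap b j.1 := by
    ext x
    simp only [map_mul, hX, altCyc, cyc3, Subgroup.coe_mul, Perm.mul_apply, swap_apply_def]; grind
  obtain ⟨k, k'⟩ := D_swap (a := a) (b := i.1) (c := b) (d := j.1) (by grind) (by grind) (by grind) (by grind)
    (by grind) (by grind)
  exact all _ (e ▸ k) (e ▸ k')

theorem commute_of_disjoint {x y : Γ} (h : Perm.Disjoint (π x).1 (π y).1) : Commute x y := by
  suffices π y ∈ (Subgroup.centralizer {x}).map π by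
    obtain ⟨y', a, b⟩ := this
    obtain ⟨z, -, rfl, hz⟩ := exists_ker hc b
    exact Commute.mul_right (Subgroup.mem_centralizer_singleton_iff.1 a).symm (hz x)
  obtain ⟨f, hf⟩ := (alternatingGroup.mem_range_ofSubtype_iff (π x).1.supportᶜ (π y)).2
    (subset_compl_iff_disjoint_left.2 h.disjoint_support)
  rw [← hf]
  refine Subgroup.mem_comap.1 ((alternatingGroup.closure_isThreeCycles_eq_top.ge.trans
    ((Subgroup.closure_le _).2 fun f hf => ?_)) (Subgroup.mem_top f))
  obtain ⟨v, hv⟩ := hs (alternatingGroup.ofSubtype _ f)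
  refine ⟨v, Subgroup.mem_centralizer_singleton_iff.2 ?_, hv⟩
  have d := (alternatingGroup.mem_range_ofSubtype_iff _ _).1 ⟨f, hv.symm⟩
  obtain ⟨z, z1, e, hz⟩ := exists_ker hc (x := v) (y := x * v * x⁻¹) (by
    rw [map_mul, map_mul, map_inv, eq_mul_inv_iff_mul_eq]
    exact Subtype.ext (disjoint_iff_disjoint_support.2 (subset_compl_iff_disjoint_right.1 d)).commute)
  have h3 : v ^ 3 ∈ π.ker := by
    rw [MonoidHom.mem_ker, map_pow, hv, ← map_pow, show f ^ 3 = 1 from Subtype.ext
      (by rw [Subgroup.coe_pow, ← IsThreeCycle.orderOf hf, pow_orderOf_eq_one]; rfl), map_one]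
  have := congrArg (· ^ 3) e
  simp only [conj_pow, Commute.mul_pow (hz v)] at this
  rw [Subgroup.mem_center_iff.1 (hc h3), mul_inv_cancel_right, left_eq_mul, pow_succ, ker_sq h2 z1, one_mul] at this
  rw [this, mul_one, mul_inv_eq_iff_eq_mul] at e
  exact e.symm

theorem comm (h5 : 5 ≤ Fintype.card α) (hp : commutator Γ = ⊤) (g : Γ) : ∃ a b : Γ, a * b * a⁻¹ * b⁻¹ = g := by
  obtain ⟨s, t, x, y, s2, t2, hst, h4, hsg, dx, dy, hxy, e⟩ := exists_Q h5 (π g).2
  obtain ⟨p, hp'⟩ := card_pos.1 (show 0 < s.support.card by omega)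
  obtain ⟨c1, c2, c3, c4⟩ := split s2 (mem_support.1 hp')
  obtain ⟨q, hq⟩ := card_pos.1 (show 0 < (swap p (s p) * s).support.card by omega)
  have i1 := inv_inv' s2
  have xp : ∀ p, s p ≠ p → x p = p := fun p h => (dx p).resolve_left h
  rw [mem_support] at hp'
  have hq1 := mem_support.1 (c4 hq)
  obtain ⟨hq2, hq3⟩ : q ≠ p ∧ q ≠ s p := by
    have := mem_support.1 hq
    simp only [Perm.mul_apply, swap_apply_def] at this; grind
  obtain ⟨k, k1, k2⟩ := conj_even (dx.isConj_mul (isConj_two s2 t2 hst) hxy dy) (sign_swap hp'.symm)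
    (Commute.mul_right (by simpa [← mul_assoc] using (Commute.refl _).mul_right c1.commute)
      (Perm.Disjoint.commute fun z => by simp only [swap_apply_def]; grind))
  obtain ⟨A, hA⟩ := hs ⟨_, hsg⟩
  obtain ⟨B, hB⟩ := hs ⟨k, k1⟩
  obtain ⟨u, hu⟩ := hs ⟨swap p (s p) * swap q (s q), sign_swap_mul_swap hp'.symm hq1.symm⟩
  obtain ⟨c, hc'⟩ := hs ⟨swap p q * swap (s p) (s q), sign_swap_mul_swap hq2.symm (s.injective.ne hq2.symm)⟩
  obtain ⟨z, z1, e1, hz⟩ := exists_ker hc (x := A⁻¹ * B * A * B⁻¹) (y := g)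
    (Subtype.ext (by simp [hA, hB, e, ← k2, mul_assoc]))
  by_cases z0 : z = 1
  · exact ⟨A⁻¹, B, by rw [e1, z0]; simp⟩
  have sq' : ∀ {x : Γ} {a b c d : α}, (π x).1 = swap a b * swap c d → a ≠ b → c ≠ d → a ≠ c → a ≠ d → b ≠ c →
      b ≠ d → x * x = z := fun {x a b c d} e h1 h2' h3 h4 h5' h6 => by
    obtain ⟨k, k'⟩ := D_swap h1 h2' h3 h4 h5' h6
    exact (sq x).symm.trans (ker_eq h2 (Subtype.ext (by simpa [e] using k)) z1
      (sqD hs hc h2 h5 hp (e ▸ k) (e ▸ k')) z0)
  have e2 := sq' (congrArg Subtype.val hu) (by grind) (by grind) (by grind) (by grind) (by grind) (by grind)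
  have e3 := sq' (congrArg Subtype.val hc') (by grind) (by grind) (by grind) (by grind) (by grind) (by grind)
  have e4 := sq' (x := c * u) (a := p) (b := s q) (c := s p) (d := q) (by
    ext w
    simp only [map_mul, hu, hc', Subgroup.coe_mul, Perm.mul_apply, swap_apply_def]; grind)
    (by grind) (by grind) (by grind) (by grind) (by grind) (by grind)
  have e5 : Commute c (u⁻¹ * A) := commute_of_disjoint hs hc h2 fun w => by
    simp only [map_mul, map_inv, hu, hc', hA, Subgroup.coe_mul, Subgroup.coe_inv, mul_inv_rev, swap_inv,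
      Perm.mul_apply, swap_apply_def]; grind
  have e6 : c * u = u * c * z := by
    have a : c * (u * c) * u = c * c := e3.symm ▸ (by simpa only [mul_assoc] using e4)
    rw [mul_assoc, mul_left_cancel_iff] at a
    rw [← e2, ← mul_assoc, a]
  refine ⟨A⁻¹, B * c, ?_⟩
  have e7 : c * A = A * c * z := by
    rw [← mul_inv_cancel_left u A, ← mul_assoc, e6, mul_assoc, ← hz, ← mul_assoc, mul_assoc u c, e5.eq]
    simp only [mul_assoc]
  rw [e1, inv_inv, mul_assoc A⁻¹, mul_assoc B, e7, mul_assoc, mul_assoc, mul_assoc, ← hz]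
  simp [mul_assoc]

end

theorem main {G : Type*} [Group G] (hperf : commutator G = ⊤) {n : ℕ} (hn : 5 ≤ n)
    (hZ : Nat.card (Subgroup.center G) = 2) (e : G ⧸ Subgroup.center G ≃* alternatingGroup (Fin n))
    (g : G) : ∃ a b : G, a * b * a⁻¹ * b⁻¹ = g := by
  have h : (e.toMonoidHom.comp (QuotientGroup.mk' _)).ker = Subgroup.center G := by ext; simp
  exact comm (e.surjective.comp (QuotientGroup.mk'_surjective _)) h.le (by rw [h]; exact hZ) (by simpa) hperf g

/-- Let n ≥ 5 and let G be a finite perfect group whose centre has order 2 with G/Z(G) isomorphic to the alternating group of degree n (the double cover of the alternating group). Then every element of G is a commutator. -/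
theorem result {G : Type*} [Group G] [Finite G] (hperf : commutator G = ⊤) {n : ℕ} (hn : 5 ≤ n)
    (hZ : Nat.card (Subgroup.center G) = 2) (e : G ⧸ Subgroup.center G ≃* alternatingGroup (Fin n))
    (g : G) :
    ∃ a b : G, a * b * a⁻¹ * b⁻¹ = g := by
  exact main hperf hn hZ e g

end Cfsg.Agent.S2493
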