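import Cfsg.Statements.S2495
import Cfsg.Agent.Lib.Linear.Spec

set_option autoImplicit false
open Cfsg

namespace Cfsg.Agent.S2495

open Cfsg.Lib.Linear Cfsg.Lib.Small
attribute [-simp] Nat.card_eq_fintype_card

theorem gcd_dvd_iff {a h : ℕ} (ha : a ≠ 0) (hh : h ≠ 0) (h2 : 2 ∣ a) :
    Nat.gcd (2 * h) a ∣ h ↔ padicValNat 2 a < padicValNat 2 (2 * h) := by
  rw [← Nat.factorization_prime_le_iff_dvd (Nat.gcd_ne_zero_right ha) hh,
    Nat.factorization_gcd (by omega) ha, Nat.factorization_mul two_ne_zero hh, Nat.prime_two.factorization,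
    ← Nat.factorization_def _ Nat.prime_two, ← Nat.factorization_def _ Nat.prime_two,
    Nat.factorization_mul two_ne_zero hh, Nat.prime_two.factorization]
  simp only [Finsupp.inf_apply, Finsupp.add_apply, Finsupp.single_apply]
  refine ⟨fun h => by have := h 2 Nat.prime_two; simp at this ⊢; omega, fun h p _ => ?_⟩
  split_ifs with hp
  · subst hp; simp at h ⊢; omega
  · simp

/-- Let q be an odd prime power, n ≥ 4 even, and L = PSL(n,q). Then L has an element of order q^(n/2) + 1 if and only if the 2-part of n exceeds the 2-part of q − 1. -/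
theorem result {F : Type*} [Field F] [Fintype F] {q : ℕ} (hF : Fintype.card F = q) (hodd : Odd q)
    {n : ℕ} (hn : 4 ≤ n) (heven : Even n) :
    (∃ g : Matrix.ProjectiveSpecialLinearGroup (Fin n) F, orderOf g = q ^ (n / 2) + 1) ↔
      padicValNat 2 (q - 1) < padicValNat 2 n := by
  rw [← Nat.card_eq_fintype_card] at hF
  subst hF
  have := Cfsg.Lib.Known.fact_prime_ringChar F
  set p := ringChar F
  obtain ⟨h, rfl⟩ : ∃ h, n = 2 * h := heven.two_dvd
  have hq : 2 ≤ Nat.card F := two_le_card_field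
  have hq3 : 3 ≤ Nat.card F := by obtain ⟨k, hk⟩ := hodd; omega
  have hq1 : 1 ≤ Nat.card F := by omega
  rw [Nat.mul_div_cancel_left _ two_pos, ← gcd_dvd_iff (by omega) (by omega) (by obtain ⟨k, hk⟩ := hodd; omega)]
  have hG : geomS (Nat.card F) (2 * h) = (Nat.card F ^ h + 1) * geomS (Nat.card F) h := by
    rw [two_mul, geomS_add]; ring
  have hg := gcd_geomS hq1 (2 * h)
  have hpos := geomS_pos hq1 (show 1 ≤ h by omega)
  have key : Nat.gcd (2 * h) (Nat.card F - 1) ∣ geomS (Nat.card F) h ↔ Nat.gcd (2 * h) (Nat.card F - 1) ∣ h :=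
    ((geomS_modEq hq1 h).of_dvd (Nat.gcd_dvd_right _ _)).dvd_iff dvd_rfl
  rw [← key]
  have hpN : ¬ p ∣ Nat.card F ^ h + 1 := fun h' => (Fact.out : p.Prime).one_lt.ne' (Nat.dvd_one.mp
    ((Nat.dvd_add_right ((spec_char_dvd p).trans (dvd_pow_self _ (by omega)))).mp h'))
  constructor
  · rintro ⟨g, hg'⟩
    obtain ⟨L, hL, hd, hdet, h1⟩ := psl_analysis p g
    rw [Fintype.card_fin] at hd
    obtain ⟨r, hr⟩ := zsigmondy (a := Nat.card F) (n := 2 * h) (by omega) (by omega) (by omega) (by omega)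
    have hr1 := hr.dvd_iff hq1 (by omega)
    obtain ⟨hr2, hr3⟩ := (isPPD_iff_orderOf hq1 (by omega)).mp hr
    have hr4 : r ∣ Nat.card F ^ h + 1 := by
      have h2 := (hr1 (2 * h)).mpr dvd_rfl
      rw [mul_comm, pow_mul, ← one_pow 2, Nat.sq_sub_sq] at h2
      exact (hr2.dvd_mul.mp h2).resolve_right fun h3 => by have := Nat.le_of_dvd (by omega) ((hr1 _).mp h3); omega
    have hrq : ¬ r ∣ Nat.card F - 1 := fun h3 => by
      have := Nat.le_of_dvd one_pos ((hr1 1).mp (by simpa using h3)); omega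
    obtain ⟨m, hm⟩ := hr4
    have h3 := (h1 _).mp dvd_rfl
    have he : ∀ m, ∀ x ∈ L, ∃ a, x.2.2 ≤ p ^ a ∧ p ^ a ∣ m := fun m x hx =>
      ⟨0, le_one_of_not_dvd p (h3.2.2 x hx) (hg' ▸ hpN), by simp⟩
    obtain ⟨x, hx, h4⟩ : ∃ x ∈ L, 2 * h ∣ x.2.1 := by
      by_contra hc
      push Not at hc
      obtain ⟨k, m', hm', hk⟩ := Nat.exists_eq_pow_mul_and_not_dvd (n := orderOf g) (by rw [hg']; omega) r hr2.ne_one
      have h5 : ∀ x ∈ L, (orderOf x.1).Coprime (r ^ k) := fun x hx => Nat.Coprime.pow_right _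
        ((Nat.Prime.coprime_iff_not_dvd hr2).mpr fun h5 => hc x hx
          ((hr1 _).mp (h5.trans (orderOf_dvd_of_pow_eq_one (hL x hx).2.2)))).symm
      have h6 : ∀ x ∈ L, x.1 ^ (m' * (Nat.card F - 1)) = 1 := fun x hx => orderOf_dvd_iff_pow_eq_one.mp
        ((h5 x hx).dvd_of_dvd_mul_left (by rw [← mul_assoc, ← hk]; exact orderOf_dvd_of_pow_eq_one (h3.1 x hx)))
      have h7 : orderOf g ∣ m' := (h1 _).mpr ⟨h6, fun x hx y hy => by
        have h2 : (x.1 ^ m' / y.1 ^ m') ^ r ^ k = 1 := by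
          rw [div_pow, ← pow_mul, ← pow_mul, mul_comm, ← hk, h3.2.1 x hx y hy, div_self']
        have h3 : (x.1 ^ m' / y.1 ^ m') ^ (Nat.card F - 1) = 1 := by
          rw [div_pow, ← pow_mul, ← pow_mul, h6 x hx, h6 y hy, div_self']
        have := pow_gcd_eq_one.mpr ⟨h2, h3⟩
        rwa [((Nat.Prime.coprime_iff_not_dvd hr2).mpr hrq).pow_left, pow_one, div_eq_one] at this, he _⟩
      exact hm' ((Dvd.intro _ (hg'.trans hm).symm).trans h7)
    obtain ⟨hx1, hx2, hx3⟩ := hL x hx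
    have h5 := Nat.le_of_dvd hx1 h4
    have h6 := Nat.le_mul_of_pos_right x.2.1 hx2
    have h7 := le_sDim hx
    obtain ⟨a, D, e⟩ := x
    simp only at *
    obtain rfl : D = 2 * h := by omega
    obtain rfl : e = 1 := by nlinarith
    obtain rfl : L = [(a, 2 * h, 1)] := by
      obtain ⟨s, t, rfl⟩ := List.append_of_mem hx
      have h8 : ∀ {l : SList F}, SVal l → sDim l = 0 → l = [] := fun {l} h8 h9 => List.eq_nil_iff_forall_not_mem.mpr
        fun y hy => by have := le_sDim hy; have := Nat.mul_pos (h8 y hy).1 (h8 y hy).2.1; omega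
      simp only [sDim, List.map_append, List.map_cons, List.sum_append, List.sum_cons] at hd
      rw [h8 (l := s) (fun y hy => hL y (by simp [hy])) (by unfold sDim; omega),
        h8 (l := t) (fun y hy => hL y (by simp [hy])) (by unfold sDim; omega)]
      rfl
    have h8 : a ^ geomS (Nat.card F) (2 * h) = 1 := by simpa [sDet] using hdet
    obtain ⟨u, hu⟩ := Nat.gcd_dvd_left (geomS (Nat.card F) (2 * h)) (Nat.card F - 1)
    obtain ⟨v, hv⟩ := Nat.gcd_dvd_right (geomS (Nat.card F) (2 * h)) (Nat.card F - 1)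
    have h9 := (h1 u).mpr ⟨by
      have : u * (Nat.card F - 1) = geomS (Nat.card F) (2 * h) * v := by
        generalize Nat.gcd (geomS (Nat.card F) (2 * h)) (Nat.card F - 1) = d at hu hv
        rw [hu, hv]; ring
      simp [this, pow_mul, h8], by simp, he _⟩
    rw [hg'] at h9
    obtain ⟨w, rfl⟩ := h9
    rw [hg, hG, mul_left_comm] at hu
    exact ⟨w, Nat.eq_of_mul_eq_mul_left (by omega) hu⟩
  · rintro ⟨w, hw⟩
    obtain ⟨a, ha⟩ := exists_units_orderOf (F := F) p (N := geomS (Nat.card F) (2 * h)) fun h' =>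
      not_char_dvd_pow_sub_one (F := F) p (D := 2 * h) (by omega) (geomS_mul hq1 (2 * h) ▸ h'.mul_right _)
    have ha' : a ^ geomS (Nat.card F) (2 * h) = 1 := ha ▸ pow_orderOf_eq_one a
    refine psl_exists_order p (L := [(a, 2 * h, 1)]) (by simp [SVal, ← geomS_mul hq1, pow_mul, ha']; omega)
      (by simp [sDim]) (by simpa [sDet] using ha') fun m hm => ?_
    have h1 := orderOf_dvd_of_pow_eq_one (hm.1 (a, 2 * h, 1) (by simp))
    have h2 := Nat.dvd_gcd (dvd_mul_left _ m) h1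
    rw [ha, Nat.gcd_mul_left, hg, hG, hw, mul_left_comm, mul_comm m] at h2
    exact (dvd_mul_right _ _).trans (Nat.dvd_of_mul_dvd_mul_left (Nat.gcd_pos_of_pos_left _ (by omega)) h2)

end Cfsg.Agent.S2495
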