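import Cfsg.Statements.S2496
import Cfsg.Agent.Lib.Linear.SpecU
import Cfsg.Agent.S2495

set_option autoImplicit false
open Cfsg

namespace Cfsg.Agent.S2496

open Cfsg.Lib Cfsg.Lib.Linear Cfsg.Lib.Small Cfsg.Agent.S2495
attribute [-simp] Nat.card_eq_fintype_card

theorem exists_prime {q h : ℕ} (hq : 3 ≤ q) (hh : 2 ≤ h) : ∃ r : ℕ, r.Prime ∧ orderOf (-q : ZMod r) = 2 * h := by
  have key : ∀ r : ℕ, (q : ZMod r) ^ (2 * h) = 1 → (∀ k, (-q : ZMod r) ^ k = 1 → 2 * h ∣ k) →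
      orderOf (-q : ZMod r) = 2 * h := fun r h1 h2 =>
    Nat.dvd_antisymm (orderOf_dvd_of_pow_eq_one (by rw [pow_mul, neg_sq, ← pow_mul, h1])) (h2 _ (pow_orderOf_eq_one _))
  have k2 : ∀ (r k : ℕ), (-q : ZMod r) ^ k = 1 → orderOf (q : ZMod r) ∣ 2 * k := fun r k hk =>
    orderOf_dvd_of_pow_eq_one (by rw [pow_mul, ← neg_sq, pow_right_comm, hk, one_pow])
  rcases Nat.even_or_odd h with he | he
  · obtain ⟨r, hr⟩ := zsigmondy (a := q) (n := 2 * h) (by omega) (by omega) (by omega) (by omega)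
    obtain ⟨hr2, hr3⟩ := (isPPD_iff_orderOf (by omega) (by omega)).mp hr
    refine ⟨r, hr2, key r (hr3 ▸ pow_orderOf_eq_one _) fun k hk => ?_⟩
    have h1 := Nat.dvd_of_mul_dvd_mul_left two_pos (hr3 ▸ k2 r k hk)
    rw [(he.trans_dvd h1).neg_pow] at hk
    exact hr3 ▸ orderOf_dvd_of_pow_eq_one hk
  · obtain ⟨r, hr⟩ := zsigmondy (a := q) (n := h) (by omega) (by omega) (by omega) (by obtain ⟨k, hk⟩ := he; omega)
    obtain ⟨hr2, hr3⟩ := (isPPD_iff_orderOf (by omega) (by omega)).mp hr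
    have h0 : ∀ k, h ∣ k → (q : ZMod r) ^ k = 1 := fun k hk => orderOf_dvd_iff_pow_eq_one.mp (hr3 ▸ hk)
    refine ⟨r, hr2, key r (h0 _ (dvd_mul_left _ _)) fun k hk => ?_⟩
    have hc : Nat.Coprime 2 h := (Nat.coprime_two_left).mpr he
    have h1 : h ∣ k := hc.symm.dvd_of_dvd_mul_left (hr3 ▸ k2 r k hk)
    refine hc.mul_dvd_of_dvd_of_dvd (even_iff_two_dvd.mp ?_) h1
    by_contra h2
    rw [(Nat.not_even_iff_odd.mp h2).neg_pow, h0 k h1, neg_eq_iff_add_eq_zero, one_add_one_eq_two] at hk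
    obtain rfl : r = 2 := (Nat.prime_dvd_prime_iff_eq hr2 Nat.prime_two).mp ((ZMod.natCast_eq_zero_iff 2 r).mp hk)
    have := orderOf_dvd_sub_one_of_pos hr2 (a := q) (by omega)
    rw [hr3, Nat.dvd_one] at this
    omega

/-- Let q be an odd prime power, n ≥ 4 even, and U = PSU(n,q) (realised over the field with q² elements). Then U has an element of order q^(n/2) + (−1)^(n/2) — that is, q^(n/2) + 1 when n/2 is even and q^(n/2) − 1 when n/2 is odd — if and only if the 2-part of n exceeds the 2-part of q + 1. -/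
theorem result {F : Type*} [Field F] [Fintype F] {q : ℕ} (hF : Fintype.card F = q ^ 2) (hodd : Odd q)
    {n : ℕ} (hn : 4 ≤ n) (heven : Even n) :
    (∃ g : Cfsg.PSU n F q, orderOf g = if Even (n / 2) then q ^ (n / 2) + 1 else q ^ (n / 2) - 1) ↔
      padicValNat 2 (q + 1) < padicValNat 2 n := by
  obtain ⟨σ, hσ⟩ := Forms.isConj_of_card hF
  have := Cfsg.Lib.Known.fact_prime_ringChar F
  set p := ringChar F
  obtain ⟨h, rfl⟩ : ∃ h, n = 2 * h := heven.two_dvd
  have hq1 : 1 ≤ q := hodd.pos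
  have hq : 2 ≤ q := this.out.two_le.trans (Nat.le_of_dvd hq1 (char_dvd_q hσ p))
  have hq3 : 3 ≤ q := by obtain ⟨k, hk⟩ := hodd; omega
  rw [Nat.mul_div_cancel_left _ two_pos, ← gcd_dvd_iff (by omega) (by omega) (by obtain ⟨k, hk⟩ := hodd; omega)]
  generalize hN : (if Even h then q ^ h + 1 else q ^ h - 1) = N
  have hqh : 1 < q ^ h := Nat.one_lt_pow (by omega) hq
  have hG : geomU q (2 * h) = N * geomU q h := by
    rw [geomU, two_mul, geomZ_add, ← one_add_mul, Int.natAbs_mul, ← hN]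
    congr 1
    split_ifs with he
    · rw [he.neg_pow]; zify; rw [abs_of_nonneg (by positivity), add_comm]
    · rw [(Nat.not_even_iff_odd.mp he).neg_pow]; zify [hqh.le] at hqh ⊢; rw [abs_of_nonpos (by omega)]; ring
  have hg := gcd_geomU q (2 * h)
  have key : Nat.gcd (2 * h) (q + 1) ∣ geomU q h ↔ Nat.gcd (2 * h) (q + 1) ∣ h := by
    have := Nat.gcd_dvd_right (2 * h) (q + 1)
    rw [← and_iff_left (a := _ ∣ geomU q h) this, ← Nat.dvd_gcd_iff, gcd_geomU, Nat.dvd_gcd_iff, and_iff_left this]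
  rw [← key]
  have hp2 := not_char_dvd_geomU hσ p (D := 2 * h) (by omega)
  have hpN : ¬ p ∣ N := fun h' => hp2 ((hG ▸ h'.mul_right _).mul_right _)
  have hN0 : 0 < N := Nat.pos_of_ne_zero fun h => hpN (h ▸ dvd_zero _)
  constructor
  · rintro ⟨g, hg'⟩
    obtain ⟨L, hL, hd, hdet, h1⟩ := psu_analysis hσ p (by omega) g
    obtain ⟨r, hr2, hr3⟩ := exists_prime hq3 (show 2 ≤ h by omega)
    have hr1 : ∀ k, r ∣ geomU q k * (q + 1) ↔ 2 * h ∣ k := fun k => hr3 ▸ dvd_neg_pow_sub_one_iff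
    have hr4 : r ∣ N := by
      have h2 := (hr1 (2 * h)).mpr dvd_rfl
      rw [hG, mul_assoc] at h2
      exact (hr2.dvd_mul.mp h2).resolve_right fun h3 => by have := Nat.le_of_dvd (by omega) ((hr1 _).mp h3); omega
    have hrq : ¬ r ∣ q + 1 := fun h3 => by
      have := Nat.le_of_dvd one_pos ((hr1 1).mp (by simpa using h3)); omega
    have h3 := (h1 _).mp dvd_rfl
    have he : ∀ m, ∀ x ∈ L, ∃ a, x.2.2 ≤ p ^ a ∧ p ^ a ∣ m := fun m x hx =>
      ⟨0, le_one_of_not_dvd p (h3.2.2 x hx) (hg' ▸ hpN), by simp⟩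
    obtain ⟨k, m', hm', hk⟩ := Nat.exists_eq_pow_mul_and_not_dvd (n := orderOf g) (by omega) r hr2.ne_one
    obtain ⟨x, hx, h4⟩ := UCond.exists_dvd p hL hr2 hrq (hk ▸ h3)
      (fun h => hm' ((hg' ▸ hr4).trans ((h1 _).mpr h))) (he _)
    rw [hr3] at h4
    obtain ⟨hx1, hx2, hx3⟩ := hL x hx
    have h5 := Nat.le_of_dvd hx1 h4
    have h6 := Nat.le_mul_of_pos_right x.2.1 hx2
    have h7 := le_sDim hx
    obtain ⟨a, D, e⟩ := x
    simp only at *
    obtain rfl : D = 2 * h := by omega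
    obtain rfl : e = 1 := by nlinarith
    obtain rfl : L = [(a, 2 * h, 1)] := by
      obtain ⟨s, t, rfl⟩ := List.append_of_mem hx
      have h8 : ∀ {l : SList F}, UVal q l → sDim l = 0 → l = [] := fun {l} h8 h9 => List.eq_nil_iff_forall_not_mem.mpr
        fun y hy => by have := le_sDim hy; have := Nat.mul_pos (h8 y hy).1 (h8 y hy).2.1; omega
      simp only [sDim, List.map_append, List.map_cons, List.sum_append, List.sum_cons] at hd
      rw [h8 (l := s) (fun y hy => hL y (by simp [hy])) (by unfold sDim; omega),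
        h8 (l := t) (fun y hy => hL y (by simp [hy])) (by unfold sDim; omega)]
      rfl
    have h8 : a ^ geomU q (2 * h) = 1 := zpow_eq_one_iff_natAbs.mp (by simpa [uDet] using hdet)
    obtain ⟨u, hu⟩ := Nat.gcd_dvd_left (geomU q (2 * h)) (q + 1)
    obtain ⟨v, hv⟩ := Nat.gcd_dvd_right (geomU q (2 * h)) (q + 1)
    have h9 := (h1 u).mpr ⟨by
      have : u * (q + 1) = geomU q (2 * h) * v := by
        generalize Nat.gcd (geomU q (2 * h)) (q + 1) = d at hu hv
        rw [hu, hv]; ring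
      simp [this, pow_mul, h8], by simp, he _⟩
    rw [hg'] at h9
    obtain ⟨w, rfl⟩ := h9
    rw [hg, hG, mul_left_comm] at hu
    exact ⟨w, Nat.eq_of_mul_eq_mul_left (by omega) hu⟩
  · rintro ⟨w, hw⟩
    obtain ⟨a, ha⟩ := exists_units_orderOf (F := F) p (N := geomU q (2 * h)) fun h' => hp2 (h'.mul_right _)
    have ha' : a ^ geomU q (2 * h) = 1 := ha ▸ pow_orderOf_eq_one a
    refine psu_exists_order hσ p (by omega) (L := [(a, 2 * h, 1)]) (by simp [UVal, uval_iff, pow_mul a, ha']; omega)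
      (by simp [sDim]) (by simpa [uDet] using zpow_eq_one_iff_natAbs.mpr ha') fun m hm => ?_
    have h1 := orderOf_dvd_of_pow_eq_one (hm.1 (a, 2 * h, 1) (by simp))
    have h2 := Nat.dvd_gcd (dvd_mul_left _ m) h1
    rw [ha, Nat.gcd_mul_left, hg, hG, hw, mul_left_comm, mul_comm m] at h2
    exact (dvd_mul_right _ _).trans (Nat.dvd_of_mul_dvd_mul_left (Nat.gcd_pos_of_pos_left _ (by omega)) h2)

end Cfsg.Agent.S2496
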