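import Cfsg.Statements.S2497
import Cfsg.Agent.Lib.Exc.CIT7

set_option autoImplicit false
open Cfsg

namespace Cfsg.Agent.S2497

open Cfsg.Lib Cfsg.Lib.Exc

/-- Let G be a finite non-abelian simple group in which every non-identity element has prime-power order. Then G is isomorphic to one of: the alternating group of degree 6, PSL(2,q) for q ∈ {4, 7, 8, 17}, PSL(3,4), or the Suzuki group over the field with 8 or with 32 elements. -/
theorem result {G : Type*} [Group G] [Finite G] [IsSimpleGroup G] (hG : ¬ IsMulCommutative G)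
    (h : ∀ g : G, g ≠ 1 → IsPrimePow (orderOf g)) :
    Nonempty (G ≃* alternatingGroup (Fin 6)) ∨
    (∃ (F : Type) (_ : Field F) (_ : Fintype F), Fintype.card F ∈ ({4, 7, 8, 17} : Finset ℕ) ∧
      Nonempty (G ≃* Matrix.ProjectiveSpecialLinearGroup (Fin 2) F)) ∨
    (∃ (F : Type) (_ : Field F) (_ : Fintype F), Fintype.card F = 4 ∧
      Nonempty (G ≃* Matrix.ProjectiveSpecialLinearGroup (Fin 3) F)) ∨
    (∃ (F : Type) (_ : Field F) (_ : Fintype F),
      (Fintype.card F = 8 ∧ Nonempty (G ≃* ↥(Cfsg.Lie.Sz F 4))) ∨ (Fintype.card F = 32 ∧ Nonempty (G ≃* ↥(Cfsg.Lie.Sz F 8)))) := by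
  rcases ((EP.cit h).simple hG).elist h with ⟨F, _, _, h1, ⟨e⟩⟩ | h1 | ⟨F, _, _, m, hF, h1, ⟨e⟩⟩
  · by_cases h9 : Fintype.card F = 9
    · exact Or.inl ((Linear.psl2_nine_equiv (Nat.card_eq_fintype_card.trans h9)).map e.trans)
    · exact Or.inr (Or.inl ⟨F, _, ‹_›, by simpa [h9] using h1, ⟨e⟩⟩)
  · exact Or.inr (Or.inr (Or.inl h1))
  · refine Or.inr (Or.inr (Or.inr ⟨F, ‹_›, ‹_›, ?_⟩))
    have h2 := Nat.card_eq_fintype_card.symm.trans hF.card_eq
    have h3 := hF.one_le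
    have e' := e.trans (BN.Sz.szEquiv m)
    interval_cases m
    exacts [Or.inl ⟨h2, ⟨e'⟩⟩, Or.inr ⟨h2, ⟨e'⟩⟩]

end Cfsg.Agent.S2497
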