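import Cfsg.Statements.S2500
import Cfsg.Agent.Lib.Conj.CovG

set_option autoImplicit false
open Cfsg

namespace Cfsg.Agent.S2500

open Cfsg.Lib.Conj Cfsg.Lib.Forms Cfsg.Lib.Forms.Form Module

theorem charP_of_card {F : Type} [Field F] [Fintype F] {p k : ℕ} (hp : p.Prime) (h : Fintype.card F = p ^ k) :
    CharP F p := by
  obtain ⟨r, hr, n, h1, h2⟩ := FiniteField.card' F
  rwa [← (Nat.prime_dvd_prime_iff_eq h1 hp).1 (h1.dvd_of_dvd_pow (h.symm.trans h2 ▸ dvd_pow_self r n.ne_zero))]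

/-- The infinite families of simple groups with normal covering number 2. For a finite field F: each of PSL_2(F) (|F| ≥ 4), PSL_3(F), PSL_4(F), PSU_4 over F (|F| = q²), PSU_3 over F when |F| = q² with q a power of 3, PSp_{2m}(F) for |F| even, m ≥ 2 and (m, |F|) ≠ (2, 2), PSp_6(F) for |F| a power of 3, and G_2(F) (automorphisms of the split octonions) for |F| = 2^a ≥ 4 is the union of the conjugates of two proper subgroups: there are proper subgroups H, K such that every element is conjugate into H or into K. -/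
theorem result {F : Type} [Field F] [Fintype F] :
    (4 ≤ Fintype.card F → (∃ H K : Subgroup (Matrix.ProjectiveSpecialLinearGroup (Fin 2) F), H ≠ ⊤ ∧ K ≠ ⊤ ∧ ∀ g : (Matrix.ProjectiveSpecialLinearGroup (Fin 2) F), ∃ x : (Matrix.ProjectiveSpecialLinearGroup (Fin 2) F), x * g * x⁻¹ ∈ H ∨ x * g * x⁻¹ ∈ K)) ∧
    (∃ H K : Subgroup (Matrix.ProjectiveSpecialLinearGroup (Fin 3) F), H ≠ ⊤ ∧ K ≠ ⊤ ∧ ∀ g : (Matrix.ProjectiveSpecialLinearGroup (Fin 3) F), ∃ x : (Matrix.ProjectiveSpecialLinearGroup (Fin 3) F), x * g * x⁻¹ ∈ H ∨ x * g * x⁻¹ ∈ K) ∧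
    (∃ H K : Subgroup (Matrix.ProjectiveSpecialLinearGroup (Fin 4) F), H ≠ ⊤ ∧ K ≠ ⊤ ∧ ∀ g : (Matrix.ProjectiveSpecialLinearGroup (Fin 4) F), ∃ x : (Matrix.ProjectiveSpecialLinearGroup (Fin 4) F), x * g * x⁻¹ ∈ H ∨ x * g * x⁻¹ ∈ K) ∧
    (∀ q : ℕ, Fintype.card F = q ^ 2 → (∃ H K : Subgroup (Cfsg.PSU 4 F q), H ≠ ⊤ ∧ K ≠ ⊤ ∧ ∀ g : (Cfsg.PSU 4 F q), ∃ x : (Cfsg.PSU 4 F q), x * g * x⁻¹ ∈ H ∨ x * g * x⁻¹ ∈ K)) ∧
    (∀ q a : ℕ, Fintype.card F = q ^ 2 → 1 ≤ a → q = 3 ^ a → (∃ H K : Subgroup (Cfsg.PSU 3 F q), H ≠ ⊤ ∧ K ≠ ⊤ ∧ ∀ g : (Cfsg.PSU 3 F q), ∃ x : (Cfsg.PSU 3 F q), x * g * x⁻¹ ∈ H ∨ x * g * x⁻¹ ∈ K)) ∧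
    (∀ m : ℕ, 2 ≤ m → ¬ Odd (Fintype.card F) → ¬ (m = 2 ∧ Fintype.card F = 2) → (∃ H K : Subgroup (Cfsg.PSp m F), H ≠ ⊤ ∧ K ≠ ⊤ ∧ ∀ g : (Cfsg.PSp m F), ∃ x : (Cfsg.PSp m F), x * g * x⁻¹ ∈ H ∨ x * g * x⁻¹ ∈ K)) ∧
    (∀ a : ℕ, 1 ≤ a → Fintype.card F = 3 ^ a → (∃ H K : Subgroup (Cfsg.PSp 3 F), H ≠ ⊤ ∧ K ≠ ⊤ ∧ ∀ g : (Cfsg.PSp 3 F), ∃ x : (Cfsg.PSp 3 F), x * g * x⁻¹ ∈ H ∨ x * g * x⁻¹ ∈ K)) ∧
    (∀ a : ℕ, 2 ≤ a → Fintype.card F = 2 ^ a → (∃ H K : Subgroup (Cfsg.Lie.G2 F), H ≠ ⊤ ∧ K ≠ ⊤ ∧ ∀ g : (Cfsg.Lie.G2 F), ∃ x : (Cfsg.Lie.G2 F), x * g * x⁻¹ ∈ H ∨ x * g * x⁻¹ ∈ K)) := by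
  have hF := Nat.card_eq_fintype_card (α := F)
  have h1 := Fintype.one_lt_card (α := F)
  refine ⟨fun h => cov_psl (n := 0) (d := 2) le_rfl dvd_rfl (by omega) (by omega) fun _ => hF ▸ h,
    cov_psl (n := 1) (d := 3) (by omega) dvd_rfl (by omega) (by omega) (by omega),
    cov_psl (n := 2) (d := 2) le_rfl (by omega) (by omega) le_rfl (by omega), fun q h => ?_, fun q a h ha hq => ?_,
    fun m hm h h' => ?_, fun a _ h => ?_, fun a ha h => ?_⟩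
  · obtain ⟨σ, h⟩ := isConj_of_card h
    exact (cov_su_four (stdHerm_nondeg h _) (by simp)).quot (suEquiv h 4)
      (Herm.commutator_eq_top (stdHerm_nondeg h _) (by simp) (by simp))
  · haveI := charP_of_card Nat.prime_three (h.trans (by rw [hq, ← pow_mul]))
    obtain ⟨σ, h⟩ := isConj_of_card h
    exact (cov_su_three (stdHerm_nondeg h _) (by simp)).quot (suEquiv h 3)
      (Herm.commutator_eq_top (stdHerm_nondeg h _) (by simp) fun h => by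
        have := Nat.pow_le_pow_right (n := 3) (by omega) ha; omega)
  · haveI : CharP F 2 := ringChar.of_eq (FiniteField.even_card_iff_char_two.2 (by rw [Nat.odd_iff] at h; omega))
    exact (cov_sp_even hm).quot (spEquiv F m)
      (Symp.commutator_eq_top' (m := m) (fSymp_nondeg m) (by simp [two_mul]) (by omega))
  · haveI := charP_of_card Nat.prime_three h
    exact (cov_sp_six (fSymp_nondeg 3) (by simp)).quot (spEquiv F 3)
      (Symp.commutator_eq_top' (m := 3) (fSymp_nondeg 3) (by simp) (by omega))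
  · haveI := charP_of_card Nat.prime_two h
    exact cov_g2 two_eq_zero_of_charP (by have := Nat.pow_le_pow_right (n := 2) (by omega) ha; omega)

end Cfsg.Agent.S2500
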