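import Cfsg.Statements.S2503
import Cfsg.Agent.Lib.Known.PSL2

set_option autoImplicit false
open Cfsg

namespace Cfsg.Agent.S2503

open Cfsg.Lib.Known

theorem aux {F : Type*} [Field F] [Fintype F] (h2 : (2 : F) = 0) (g : SL2 F) :
    ∃ (a c : U1 F) (b : F), g = singerS F a * triS 1 b * singerS F c := by
  classical
  have hT := isTorus_singerS (F := F)
  have hq : 2 ≤ Nat.card F := Finite.one_lt_card
  obtain ⟨z, hz, -⟩ := hT.exists_gen (by rw [card_U1]; omega)
  let t := singerS F z
  let s : F → SL2 F := fun b => triS 1 b * t * (triS 1 b)⁻¹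
  let f : F × U1 F → SL2 F := fun x => singerS F x.2 * s x.1 * (singerS F x.2)⁻¹
  have ht : (t : M2 F) 1 0 ≠ 0 := by
    intro h
    have h1 : NoEig (t : M2 F) := (noEig_singerS_iff z).2 hz
    obtain ⟨a, -, -, ha⟩ := eq_triS_of_upper h
    rw [ha] at h1
    exact not_noEig_tri a a⁻¹ _ (by rw [← toGL_triS]; exact h1)
  have h1 : ∀ b, ((t * s b : SL2 F) : M2 F).trace =
      ((t : M2 F) * (t : M2 F)).trace - ((t : M2 F) 1 0 * b) ^ 2 := by
    intro b
    have : (triS 1 b : SL2 F)⁻¹ = triS 1 (-b) := by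
      rw [inv_eq_iff_mul_eq_one, triS_mul]; simp [triS_one]
    simp only [s, this]
    change ((t : M2 F) * ((triS 1 b : M2 F) * (t : M2 F) * (triS 1 (-b) : M2 F))).trace = _
    simp only [Matrix.trace_fin_two, m2_mul, coe_triS]
    simp
    ring
  have h3 : ∀ x y, f x = f y → x.1 = y.1 := by
    have : ∀ x, ((t * f x : SL2 F) : M2 F).trace = ((t * s x.1 : SL2 F) : M2 F).trace := by
      intro x
      refine (SL2_trace_eq_of_isConj (isConj_iff.2 ⟨singerS F x.2, ?_⟩)).symm
      simp only [f, t, ← mul_assoc, IsTorus.comm x.2 z]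
    intro x y h
    have h4 := this x
    rw [h, this, h1, h1] at h4
    have h5 : ((t : M2 F) 1 0 * (x.1 - y.1)) ^ 2 = 0 := by
      linear_combination h4 + ((t : M2 F) 1 0 ^ 2 * (y.1 ^ 2 - x.1 * y.1)) * h2
    exact sub_eq_zero.1 ((mul_eq_zero.1 (pow_eq_zero_iff two_ne_zero |>.1 h5)).resolve_left ht)
  let D := Finset.univ.filter fun x : F × U1 F => s x.1 ∉ (singerS F).range ∨ x.2 = 1
  let B := Finset.univ.filter fun b : F => s b ∈ (singerS F).range
  have hB : B.card ≤ 2 := by
    refine le_trans (Finset.card_le_card_of_injOn (t := {t, t⁻¹}) s (fun b hb => ?_)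
      fun b _ b' _ h => h3 (b, 1) (b', 1) (by simp only [f, h])) Finset.card_le_two
    obtain ⟨w, hw⟩ := (Finset.mem_filter.1 hb).2
    have := (hT.cj z w hz).1 (isConj_iff.2 ⟨triS 1 b, hw.symm⟩)
    rw [← hw]
    rcases this with rfl | rfl <;> simp [t]
  have hD : D.card + B.card * Nat.card F = Nat.card F * (Nat.card F + 1) := by
    have e1 := Finset.card_filter_add_card_filter_not (s := Finset.univ)
      fun x : F × U1 F => s x.1 ∉ (singerS F).range ∨ x.2 = 1
    have e2 : (Finset.univ.filter fun x : F × U1 F => ¬ (s x.1 ∉ (singerS F).range ∨ x.2 = 1)) =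
        B ×ˢ (Finset.univ.erase 1) := by
      ext x; simp only [B, Finset.mem_filter, Finset.mem_univ, true_and, Finset.mem_product,
        Finset.mem_erase, and_true, not_or, not_not]
    rw [e2, Finset.card_product, Finset.card_erase_of_mem (Finset.mem_univ _), Finset.card_univ,
      Finset.card_univ, Fintype.card_prod, ← Nat.card_eq_fintype_card, ← Nat.card_eq_fintype_card,
      card_U1] at e1
    exact e1
  have hS := Cfsg.Lib.Char.card_filter_isConj t
  rw [hT.cent z hz, index_range_singerS] at hS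
  have hsurj := Finset.surj_on_of_inj_on_of_card_le (s := D) (t := Finset.univ.filter (IsConj t))
    (fun x _ => f x) (fun x _ => Finset.mem_filter.2 ⟨Finset.mem_univ _,
      isConj_iff.2 ⟨singerS F x.2 * triS 1 x.1, by simp only [f, s]; group⟩⟩) (by
      rintro ⟨b, a⟩ ⟨b', a'⟩ hx hy h
      obtain rfl : b = b' := h3 _ _ h
      rw [Prod.mk.injEq]
      refine ⟨rfl, ?_⟩
      by_cases hb : s b ∈ (singerS F).range
      · rw [show a = 1 from (Finset.mem_filter.1 hx).2.resolve_left (not_not.2 hb),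
          show a' = 1 from (Finset.mem_filter.1 hy).2.resolve_left (not_not.2 hb)]
      · by_contra hne
        have h4 : (a'⁻¹ * a) ^ 2 ≠ 1 := by
          rw [ne_eq, ← hT.scal, SL2_isScal_iff, SL2_neg_eq_self h2, or_self,
            map_eq_one_iff _ hT.inj, inv_mul_eq_one]
          exact fun h => hne h.symm
        apply hb
        rw [← hT.cent _ h4, Subgroup.mem_centralizer_singleton_iff, map_mul, map_inv]
        simp only [f] at h
        calc _ = (singerS F a')⁻¹ * (singerS F a' * s b * (singerS F a')⁻¹) * singerS F a := by group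
          _ = _ := by rw [← h]; group) (by
      rw [hS]
      obtain ⟨n, hn⟩ : ∃ n, Nat.card F = n + 1 := ⟨Nat.card F - 1, by omega⟩
      rw [hn] at hD ⊢
      simp only [Nat.add_sub_cancel]
      nlinarith)
  obtain ⟨⟨b, a⟩, -, h⟩ := hsurj (g * t * g⁻¹)
    (Finset.mem_filter.2 ⟨Finset.mem_univ _, isConj_iff.2 ⟨g, rfl⟩⟩)
  have : (singerS F a * triS 1 b)⁻¹ * g ∈ (singerS F).range := by
    rw [← hT.cent z hz, Subgroup.mem_centralizer_singleton_iff]
    simp only [f, s] at h
    change _ * t = t * _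
    calc _ = (singerS F a * triS 1 b)⁻¹ * (g * t * g⁻¹) * g := by group
      _ = _ := by rw [h]; group
  obtain ⟨c, hc⟩ := this
  exact ⟨a, c, b, by rw [hc]; group⟩

/-- The unipotent subgroup. -/
def uHom (F : Type*) [Field F] : Multiplicative F →* SL2 F where
  toFun b := triS 1 b.toAdd
  map_one' := triS_one
  map_mul' a b := by rw [triS_mul]; simp [add_comm]

/-- Let F be a finite field with q = 2^t ≥ 4 elements and L = PSL(2,F). Then L has a cyclic subgroup A of order q + 1 and an elementary abelian 2-subgroup B of order q such that L = ABA: every element of L is a product a·b·a' with a, a' ∈ A and b ∈ B. -/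
theorem result {F : Type*} [Field F] [Fintype F]
    (h2 : 2 ∣ Fintype.card F) (h4 : 4 ≤ Fintype.card F) :
    ∃ A B : Subgroup (Matrix.ProjectiveSpecialLinearGroup (Fin 2) F),
      IsCyclic A ∧ Nat.card A = Fintype.card F + 1 ∧ IsMulCommutative B ∧ (∀ b ∈ B, b * b = 1) ∧
        Nat.card B = Fintype.card F ∧
        ∀ g : Matrix.ProjectiveSpecialLinearGroup (Fin 2) F, ∃ a ∈ A, ∃ b ∈ B, ∃ c ∈ A, g = a * b * c := by
  rw [← Nat.card_eq_fintype_card] at h2 h4 ⊢
  have h2' : (2 : F) = 0 := two_eq_zero_of_even (even_iff_two_dvd.2 h2)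
  have hu : Function.Injective ((pmk F).comp (uHom F)) := fun a b h =>
    (triS_inj.1 (pmk_injective h2' h)).2
  refine ⟨((pmk F).comp (singerS F)).range, ((pmk F).comp (uHom F)).range,
    isTorus_singerS.isCyclic_range_pmk, ?_, ?_, ?_, ?_, fun g => ?_⟩
  · rw [isTorus_singerS.card_range_pmk', card_U1, gcd_add_one_eq,
      Cfsg.Lib.Linear.gcd_two_of_two_eq_zero h2', Nat.div_one]
  · refine ⟨⟨?_⟩⟩
    rintro ⟨_, a, rfl⟩ ⟨_, b, rfl⟩
    exact Subtype.ext (by simp only [Subgroup.coe_mul, ← map_mul, mul_comm])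
  · rintro _ ⟨a, rfl⟩
    rw [← map_mul, show a * a = 1 from ?_, map_one]
    change a.toAdd + a.toAdd = 0
    linear_combination a.toAdd * h2'
  · exact (Nat.card_congr (MonoidHom.ofInjective hu).toEquiv).symm
  · obtain ⟨g, rfl⟩ := pmk_surjective g
    obtain ⟨a, c, b, rfl⟩ := aux h2' g
    exact ⟨_, ⟨a, rfl⟩, _, ⟨Multiplicative.ofAdd b, rfl⟩, _, ⟨c, rfl⟩, by rw [map_mul, map_mul]; rfl⟩

end Cfsg.Agent.S2503
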