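import Cfsg.Statements.S2504
import Cfsg.Agent.Lib.Linear.AbelMax

set_option autoImplicit false
open Cfsg

namespace Cfsg.Agent.S2504

open Cfsg.Lib.Linear

/-- The largest order of an abelian subgroup of the alternating group of degree n is 3^k when n = 3k, 4·3^(k−1) when n = 3k + 1, and 16·3^(k−2) when n = 3k + 2, for every k ≥ 2 (so for all degrees n ≥ 6). -/
theorem result (k : ℕ) (hk : 2 ≤ k) :
    IsGreatest {c : ℕ | ∃ A : Subgroup (alternatingGroup (Fin (3 * k))), IsMulCommutative A ∧ Nat.card A = c} (3 ^ k) ∧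
    IsGreatest {c : ℕ | ∃ A : Subgroup (alternatingGroup (Fin (3 * k + 1))), IsMulCommutative A ∧ Nat.card A = c}
      (4 * 3 ^ (k - 1)) ∧
    IsGreatest {c : ℕ | ∃ A : Subgroup (alternatingGroup (Fin (3 * k + 2))), IsMulCommutative A ∧ Nat.card A = c}
      (16 * 3 ^ (k - 2)) := by
  have h : abA (3 * k) = 3 ^ k ∧ abA (3 * k + 1) = 4 * 3 ^ (k - 1) ∧ abA (3 * k + 2) = 16 * 3 ^ (k - 2) := by
    induction k, hk using Nat.le_induction with
    | base => decide
    | succ k hk ih =>
      obtain ⟨k, rfl⟩ := Nat.exists_eq_add_of_le' hk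
      exact ⟨(congrArg (3 * ·) ih.1).trans (by ring), (congrArg (3 * ·) ih.2.1).trans (by simp; ring),
        (congrArg (3 * ·) ih.2.2).trans (by simp [show k + 2 + 1 - 2 = k + 1 from rfl]; ring)⟩
  refine ⟨?_, ?_, ?_⟩
  exacts [by simpa [h.1] using isGreatest_abA (Fin (3 * k)), by simpa [h.2.1] using isGreatest_abA (Fin (3 * k + 1)),
    by simpa [h.2.2] using isGreatest_abA (Fin (3 * k + 2))]

end Cfsg.Agent.S2504
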