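import Cfsg.Statements.S2506
import Cfsg.Agent.Lib.Linear.AbelMax

set_option autoImplicit false
open scoped Pointwise
open Cfsg

namespace Cfsg.Agent.S2506

open Cfsg.Lib.Linear Subgroup

/-- In the alternating group of any degree, any two abelian subgroups of the largest possible order (among abelian subgroups) are conjugate. -/
theorem result (n : ℕ)
    (A B : Subgroup (alternatingGroup (Fin n))) (hA : IsMulCommutative A) (hB : IsMulCommutative B)
    (hAmax : ∀ C : Subgroup (alternatingGroup (Fin n)), IsMulCommutative C → Nat.card C ≤ Nat.card A)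
    (hBmax : ∀ C : Subgroup (alternatingGroup (Fin n)), IsMulCommutative C → Nat.card C ≤ Nat.card B) :
    ∃ g : alternatingGroup (Fin n), B = MulAut.conj g • A := by
  obtain ⟨⟨C, h1, h2⟩, h3⟩ := isGreatest_abA (Fin n)
  exact exists_cj_of_map ((exists_cj_comm Finset.univ _ _ inferInstance inferInstance
    (le_inf (le_top.trans psupp_univ.ge) (map_subtype_le A)) (le_inf (le_top.trans psupp_univ.ge) (map_subtype_le B))
    ((card_subtype _ A).trans (le_antisymm (h3 ⟨A, hA, rfl⟩) (h2 ▸ hAmax C h1)))
    ((card_subtype _ B).trans (le_antisymm (h3 ⟨B, hB, rfl⟩) (h2 ▸ hBmax C h1)))).imp fun g h => ⟨h.1.2, h.2⟩)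

end Cfsg.Agent.S2506
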