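import Cfsg.Statements.S2510
import Cfsg.Agent.Lib.Linear.Spec

set_option autoImplicit false
open Cfsg

namespace Cfsg.Agent.S2510

open Cfsg.Lib.Linear Cfsg.Lib.Small
attribute [-simp] Nat.card_eq_fintype_card

variable {F : Type*} [Field F] [Finite F] (p : ℕ) [hp : Fact p.Prime] [CharP F p] {n r : ℕ}

local notation "PS" => Matrix.ProjectiveSpecialLinearGroup (Fin n) F

theorem sDet_twist (L : SList F) (hL : SVal L) {c : (AlgebraicClosure F)ˣ} (hc : c ^ (Nat.card F - 1) = 1) :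
    SVal (L.map fun x => (x.1 * c, x.2)) ∧ sDim (L.map fun x => (x.1 * c, x.2)) = sDim L ∧
      sDet (L.map fun x => (x.1 * c, x.2)) = sDet L * c ^ sDim L := by
  refine ⟨fun y hy => ?_, by simp [sDim, Function.comp_def], ?_⟩
  · obtain ⟨x, hx, rfl⟩ := List.mem_map.mp hy
    refine ⟨(hL x hx).1, (hL x hx).2.1, ?_⟩
    rw [mul_pow, (hL x hx).2.2, ← geomS_mul Nat.card_pos, mul_comm (geomS _ _), pow_mul, hc, one_pow, one_mul]
  · clear hL
    induction L with
    | nil => simp [sDet, sDim]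
    | cons x L ih =>
      have := pow_geomS_mul (q := Nat.card F) (d := 1) Nat.card_pos (z := c) (by simpa using hc) x.2.1
      simp only [sDet, sDim, List.map_cons, List.prod_cons, List.sum_cons, one_mul, geomS_one, pow_one] at ih this ⊢
      rw [ih, mul_pow, pow_add, pow_mul c, this, ← pow_mul c, mul_mul_mul_comm]

/-- Either the order of `x` can be multiplied by `r`, or `x` is indecomposable. -/
theorem dichotomy (hr : r.Prime) (hrq : r ∣ Nat.card F - 1) (hrn : ¬ r ∣ n) (hn : 1 ≤ n) (x : PS) :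
    (∃ x' : PS, orderOf x ∣ orderOf x' ∧ r ∣ orderOf x') ∨
      ∀ m, geomS (Nat.card F) n ∣ m * (Nat.card F - 1) → (∃ a, n ≤ p ^ a ∧ p ^ a ∣ m) → orderOf x ∣ m := by
  by_cases hx : r ∣ orderOf x
  · exact .inl ⟨x, dvd_rfl, hx⟩
  obtain ⟨L, hL, hd, hdet, h⟩ := psl_analysis p x
  rw [Fintype.card_fin] at hd
  rcases L with _ | ⟨⟨a, D, e⟩, _ | ⟨y, L⟩⟩
  · simp [sDim] at hd; omega
  · refine .inr fun m hm ⟨b, hb, hb'⟩ => (h m).mpr ⟨?_, by simp, ?_⟩
    · simp only [SVal, List.mem_singleton, forall_eq, sDim, sDet, List.map_cons, List.map_nil, List.sum_cons,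
        List.sum_nil, add_zero, List.prod_cons, List.prod_nil, mul_one] at hL hd hdet ⊢
      obtain ⟨t, ht⟩ := hm
      rw [ht, pow_mul, ← hd, pow_geomS_mul Nat.card_pos hL.2.2, ← pow_mul a, hdet, one_pow]
    · have := Nat.le_mul_of_pos_left e (hL (a, D, e) (by simp)).1
      simp only [sDim, List.map_cons, List.map_nil, List.sum_cons, List.sum_nil, add_zero] at hd
      simpa using ⟨b, by simp at this; omega, hb'⟩
  · left
    obtain ⟨c, hc⟩ := exists_units_orderOf (F := F) p (N := r) fun h => not_char_dvd_card_sub_one p (h.trans hrq)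
    have hc' : c ^ (Nat.card F - 1) = 1 := orderOf_dvd_iff_pow_eq_one.mp (hc ▸ hrq)
    have hcr : c ^ r = 1 := hc ▸ pow_orderOf_eq_one c
    obtain ⟨h1, h2, h3⟩ := sDet_twist [(a, D, e)] (fun z hz => hL z (by simp_all)) (c := c ^ sDim (y :: L))
      (by rw [pow_right_comm, hc', one_pow])
    obtain ⟨h4, h5, h6⟩ := sDet_twist (y :: L) (fun z hz => hL z (List.mem_cons_of_mem _ hz)) (c := (c ^ (D * e))⁻¹)
      (by rw [inv_pow, pow_right_comm, hc', one_pow, inv_one])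
    obtain ⟨x', hx'⟩ := psl_synthesis (n := Fin n) p (L := [(a, D, e)].map (fun x => (x.1 * c ^ sDim (y :: L), x.2)) ++
      (y :: L).map fun x => (x.1 * (c ^ (D * e))⁻¹, x.2))
      (fun z hz => (List.mem_append.mp hz).elim (h1 z) (h4 z))
      (by simp only [sDim, List.map_append, List.sum_append] at h2 h5 hd ⊢; rw [h2, h5]; simpa using hd)
      (by
        simp only [sDet, List.map_append, List.prod_append] at h3 h6 hdet ⊢
        rw [h3, h6, mul_mul_mul_comm]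
        simp only [List.map_cons, List.prod_cons, List.map_nil, List.prod_nil, mul_one] at hdet ⊢
        rw [hdet, inv_pow, pow_right_comm]; simp [sDim])
    obtain ⟨k1, k2, k3⟩ := (hx' _).mp dvd_rfl
    have hmem : ∀ z ∈ (a, D, e) :: y :: L, ∃ b : (AlgebraicClosure F)ˣ, b ^ r = 1 ∧
        (z.1 * b, z.2) ∈ [(a, D, e)].map (fun x => (x.1 * c ^ sDim (y :: L), x.2)) ++
          (y :: L).map fun x => (x.1 * (c ^ (D * e))⁻¹, x.2) := by
      intro z hz
      rcases List.mem_cons.mp hz with rfl | hz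
      · exact ⟨_, by rw [pow_right_comm, hcr, one_pow], List.mem_append_left _ (List.mem_map_of_mem (by simp))⟩
      · exact ⟨_, by rw [inv_pow, pow_right_comm, hcr, one_pow, inv_one], List.mem_append_right _ (List.mem_map_of_mem hz)⟩
    have k4 : orderOf x ∣ orderOf x' := by
      refine ((Nat.Prime.coprime_iff_not_dvd hr).mpr hx).symm.dvd_of_dvd_mul_left ((h _).mpr ⟨fun z hz => ?_,
        fun z hz w hw => ?_, fun z hz => ?_⟩)
      · obtain ⟨b, hb, hb'⟩ := hmem z hz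
        have := congrArg (· ^ r) (k1 _ hb')
        simp only [mul_pow, pow_right_comm b, hb, one_pow, mul_one] at this
        rw [mul_assoc, mul_comm, pow_mul, this]
      · obtain ⟨b, hb, hb'⟩ := hmem z hz
        obtain ⟨b2, hb2, hb2'⟩ := hmem w hw
        have := congrArg (· ^ r) (k2 _ hb' _ hb2')
        simp only [mul_pow, pow_right_comm b, pow_right_comm b2, hb, hb2, one_pow, mul_one] at this
        rw [mul_comm, pow_mul, pow_mul, this]
      · obtain ⟨b, -, hb'⟩ := hmem z hz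
        obtain ⟨u, hu, hu'⟩ := k3 _ hb'
        exact ⟨u, hu, hu'.mul_left _⟩
    refine ⟨x', k4, ?_⟩
    have k5 := ((h _).mp k4).2.1 (a, D, e) (by simp) y (by simp)
    have k6 := k2 (a * c ^ sDim (y :: L), D, e) (by simp) (y.1 * (c ^ (D * e))⁻¹, y.2) (by simp)
    simp only at k5 k6
    rw [mul_pow, mul_pow, k5, mul_right_inj, inv_pow, eq_inv_iff_mul_eq_one, ← mul_pow, ← pow_add, ← pow_mul] at k6
    have k7 : sDim (y :: L) + D * e = n := by rw [← hd]; simp [sDim]; ring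
    rw [k7] at k6
    exact ((Nat.Prime.coprime_iff_not_dvd hr).mpr hrn).dvd_of_dvd_mul_left (hc ▸ orderOf_dvd_of_pow_eq_one k6)

include p hp in
theorem exists_singer (hn : 1 ≤ n) : ∃ y : PS, geomS (Nat.card F) n ∣ orderOf y * (Nat.card F - 1) := by
  obtain ⟨a, ha⟩ := exists_units_orderOf (F := F) p (N := geomS (Nat.card F) n) fun h' =>
    not_char_dvd_pow_sub_one (F := F) p hn (geomS_mul (q := Nat.card F) Nat.card_pos n ▸ h'.mul_right _)
  have ha' : a ^ geomS (Nat.card F) n = 1 := ha ▸ pow_orderOf_eq_one a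
  obtain ⟨y, hy⟩ := psl_synthesis (n := Fin n) p (L := [(a, n, 1)])
    (by simp [SVal, ← geomS_mul (q := Nat.card F) Nat.card_pos, pow_mul, ha']; omega) (by simp [sDim])
    (by simpa [sDet] using ha')
  exact ⟨y, ha ▸ orderOf_dvd_of_pow_eq_one (((hy _).mp dvd_rfl).1 (a, n, 1) (by simp))⟩

theorem exists_unip (hn : 1 ≤ n) : ∃ u : PS, ∃ a, n ≤ p ^ a ∧ p ^ a ∣ orderOf u := by
  obtain ⟨u, hu⟩ := psl_synthesis (F := F) (n := Fin n) p (L := [(1, 1, n)]) (by simp [SVal]; omega) (by simp [sDim])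
    (by simp [sDet])
  exact ⟨u, ((hu _).mp dvd_rfl).2.2 (1, 1, n) (by simp)⟩

theorem exists_mixed (hr : r.Prime) (hrq : r ∣ Nat.card F - 1) (hrn : ¬ r ∣ n) (hn : 2 ≤ n) :
    ∃ u : PS, r ∣ orderOf u ∧ ∃ a, n - 1 ≤ p ^ a ∧ p ^ a ∣ orderOf u := by
  obtain ⟨c, hc⟩ := exists_units_orderOf (F := F) p (N := r) fun h => not_char_dvd_card_sub_one p (h.trans hrq)
  have hc' : c ^ (Nat.card F - 1) = 1 := orderOf_dvd_iff_pow_eq_one.mp (hc ▸ hrq)
  obtain ⟨u, hu⟩ := psl_synthesis (F := F) (n := Fin n) p (L := [(c, 1, n - 1), ((c ^ (n - 1))⁻¹, 1, 1)])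
    (by simp [SVal, hc', pow_right_comm c (n - 1)]; omega) (by simp [sDim]; omega) (by simp [sDet])
  obtain ⟨-, h1, h2⟩ := (hu _).mp dvd_rfl
  refine ⟨u, ?_, h2 (c, 1, n - 1) (by simp)⟩
  have h3 := h1 (c, 1, n - 1) (by simp) ((c ^ (n - 1))⁻¹, 1, 1) (by simp)
  simp only at h3
  rw [inv_pow, eq_inv_iff_mul_eq_one, ← mul_pow, ← pow_succ', Nat.sub_add_cancel (by omega), ← pow_mul] at h3
  exact ((Nat.Prime.coprime_iff_not_dvd hr).mpr hrn).dvd_of_dvd_mul_left (hc ▸ orderOf_dvd_of_pow_eq_one h3)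

omit [Finite F] in
theorem ord_vec {m : ℕ} (w : Multiplicative (Fin m → ZMod r)) : orderOf w ∣ r := by
  rw [orderOf_dvd_iff_pow_eq_one]
  ext i
  simp

/-- Let F be a finite field with q = p^a elements, n ≥ 2 (with q ≥ 4 when n = 2), L = PSL(n, F), and let r be a prime dividing q − 1 and not dividing n. Then for every m the direct product L × L × L × (ℤ/r)^m has the same set of element orders as L × L × L; and if n − 1 ≠ p^j for every j ≥ 0 (so never when n = 2, since 1 = p^0), then already L × L × (ℤ/r)^m has the same set of element orders as L × L. -/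
theorem result {F : Type*} [Field F] [Fintype F] (p a n r m : ℕ) (hp : p.Prime) (ha : 1 ≤ a) (hF : Fintype.card F = p ^ a)
    (hn : 2 ≤ n) (hn2 : n = 2 → 4 ≤ Fintype.card F) (hr : r.Prime) (hrq : r ∣ Fintype.card F - 1) (hrn : ¬ r ∣ n) :
    Set.range (orderOf : Matrix.ProjectiveSpecialLinearGroup (Fin n) F × Matrix.ProjectiveSpecialLinearGroup (Fin n) F × Matrix.ProjectiveSpecialLinearGroup (Fin n) F × Multiplicative (Fin m → ZMod r) → ℕ) =
      Set.range (orderOf : Matrix.ProjectiveSpecialLinearGroup (Fin n) F × Matrix.ProjectiveSpecialLinearGroup (Fin n) F × Matrix.ProjectiveSpecialLinearGroup (Fin n) F → ℕ) ∧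
    ((¬ ∃ j : ℕ, n - 1 = p ^ j) →
      Set.range (orderOf : Matrix.ProjectiveSpecialLinearGroup (Fin n) F × Matrix.ProjectiveSpecialLinearGroup (Fin n) F × Multiplicative (Fin m → ZMod r) → ℕ) =
        Set.range (orderOf : Matrix.ProjectiveSpecialLinearGroup (Fin n) F × Matrix.ProjectiveSpecialLinearGroup (Fin n) F → ℕ)) := by
  rw [← Nat.card_eq_fintype_card] at *
  have := Fact.mk hp
  have : CharP F p := by
    have h1 := Cfsg.Lib.Known.fact_prime_ringChar F
    have h2 := spec_char_dvd (F := F) (ringChar F)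
    rw [hF] at h2
    rw [← (Nat.prime_dvd_prime_iff_eq h1.out hp).mp (h1.out.dvd_of_dvd_pow h2)]
    infer_instance
  obtain ⟨y0, hy0⟩ := exists_singer (F := F) p (n := n) (by omega)
  obtain ⟨u0, b, hb, hu0⟩ := exists_unip (F := F) p (n := n) (by omega)
  obtain ⟨s0, hs0, c, hc, hc'⟩ := exists_mixed (F := F) p hr hrq hrn hn
  have D := dichotomy (F := F) p hr hrq hrn (by omega)
  have l1 : ∀ {a b c : ℕ}, a ∣ b → a ∣ Nat.lcm b c := fun h => h.trans (Nat.dvd_lcm_left _ _)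
  have l2 : ∀ {a b c : ℕ}, a ∣ c → a ∣ Nat.lcm b c := fun h => h.trans (Nat.dvd_lcm_right _ _)
  refine ⟨Set.Subset.antisymm ?_ ?_, fun hj => Set.Subset.antisymm ?_ ?_⟩
  · rintro _ ⟨⟨x, y, z, w⟩, rfl⟩
    have hw := ord_vec w
    rcases D x with ⟨x', h1, h2⟩ | hx
    · refine exists_orderOf_of_dvd (g := (x', y, z)) ?_
      simp only [Prod.orderOf_mk, Nat.lcm_dvd_iff]
      exact ⟨l1 h1, l2 (l1 dvd_rfl), l2 (l2 dvd_rfl), l1 (hw.trans h2)⟩
    rcases D y with ⟨y', h1, h2⟩ | hy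
    · refine exists_orderOf_of_dvd (g := (x, y', z)) ?_
      simp only [Prod.orderOf_mk, Nat.lcm_dvd_iff]
      exact ⟨l1 dvd_rfl, l2 (l1 h1), l2 (l2 dvd_rfl), l2 (l1 (hw.trans h2))⟩
    rcases D z with ⟨z', h1, h2⟩ | hz
    · refine exists_orderOf_of_dvd (g := (x, y, z')) ?_
      simp only [Prod.orderOf_mk, Nat.lcm_dvd_iff]
      exact ⟨l1 dvd_rfl, l2 (l1 dvd_rfl), l2 (l2 h1), l2 (l2 (hw.trans h2))⟩
    refine exists_orderOf_of_dvd (g := (y0, u0, s0)) ?_
    have h1 := hy0.trans (mul_dvd_mul_right (l1 (c := (orderOf u0).lcm (orderOf s0)) dvd_rfl) _)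
    have h2 := l2 (b := orderOf y0) (l1 (c := orderOf s0) hu0)
    simp only [Prod.orderOf_mk, Nat.lcm_dvd_iff]
    exact ⟨hx _ h1 ⟨b, hb, h2⟩, hy _ h1 ⟨b, hb, h2⟩, hz _ h1 ⟨b, hb, h2⟩, l2 (l2 (hw.trans hs0))⟩
  · rintro _ ⟨⟨x, y, z⟩, rfl⟩
    exact ⟨(x, y, z, 1), by simp [Prod.orderOf_mk]⟩
  · rintro _ ⟨⟨x, y, w⟩, rfl⟩
    have hw := ord_vec w
    rcases D x with ⟨x', h1, h2⟩ | hx
    · refine exists_orderOf_of_dvd (g := (x', y)) ?_
      simp only [Prod.orderOf_mk, Nat.lcm_dvd_iff]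
      exact ⟨l1 h1, l2 dvd_rfl, l1 (hw.trans h2)⟩
    rcases D y with ⟨y', h1, h2⟩ | hy
    · refine exists_orderOf_of_dvd (g := (x, y')) ?_
      simp only [Prod.orderOf_mk, Nat.lcm_dvd_iff]
      exact ⟨l1 dvd_rfl, l2 h1, l2 (hw.trans h2)⟩
    refine exists_orderOf_of_dvd (g := (y0, s0)) ?_
    have h1 := hy0.trans (mul_dvd_mul_right (l1 (c := orderOf s0) dvd_rfl) _)
    have h2 := l2 (b := orderOf y0) hc'
    have h3 : n ≤ p ^ c := by have : n - 1 ≠ p ^ c := fun h => hj ⟨c, h⟩; omega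
    simp only [Prod.orderOf_mk, Nat.lcm_dvd_iff]
    exact ⟨hx _ h1 ⟨c, h3, h2⟩, hy _ h1 ⟨c, h3, h2⟩, l2 (hw.trans hs0)⟩
  · rintro _ ⟨⟨x, y⟩, rfl⟩
    exact ⟨(x, y, 1), by simp [Prod.orderOf_mk]⟩

end Cfsg.Agent.S2510
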