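import Cfsg.Statements.S2512
import Cfsg.Agent.Lib.Conj.SpecO
import Cfsg.Agent.S2510

set_option autoImplicit false
open Cfsg

namespace Cfsg.Agent.S2512

open Cfsg.Lib.Conj Cfsg.Lib.Forms Cfsg.Lib.Forms.Form Module

open Cfsg.Lib.Linear
attribute [-simp] Nat.card_eq_fintype_card

variable {F : Type*} [Field F] [Finite F] (p : ℕ) [hp : Fact p.Prime] [CharP F p] {n : ℕ}

include p in
theorem singer (hn : 1 ≤ n) {N : ℕ} (hN : N = Nat.card F ^ n + 1 ∨ N = Nat.card F ^ n - 1) :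
    ∃ y : PSp n F, ∀ m, orderOf y ∣ m ↔ N ∣ m * 2 := by
  obtain ⟨z, hz⟩ := exists_units_orderOf (F := F) p (N := N) fun h => by
    rcases hN with rfl | rfl
    · exact hp.out.one_lt.ne' (Nat.dvd_one.1 ((Nat.dvd_add_right
        (dvd_pow (spec_char_dvd p) (by omega))).1 h))
    · exact not_char_dvd_pow_sub_one p hn h
  have h1 := hz ▸ pow_orderOf_eq_one z
  obtain ⟨y, hy⟩ := psp_synthesis p hn (L := [(z, n, 1)]) (oVal_cons.2 ⟨⟨⟨le_rfl,
    hN.imp (fun h => by rwa [← h]) fun h => ⟨hn, by rwa [← h]⟩⟩, fun h => by simp at h; omega⟩, oVal_nil⟩)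
    (by simp [oDim, od_of_pos hn])
  refine ⟨y, fun m => (hy m).trans ?_⟩
  rw [← hz, orderOf_dvd_iff_pow_eq_one]
  simpa [OCond] using fun _ => ⟨0, by simp⟩

omit [Finite F] in
theorem neg_pow_ne (h2 : p ≠ 2) {m : ℕ} (hm : Odd m) (z : (Kb F)ˣ) : (-z) ^ m ≠ z ^ m := by
  rw [hm.neg_pow]
  intro h
  have h1 : (2 : Kb F) * ((z ^ m : (Kb F)ˣ) : Kb F) = 0 := by
    have := congrArg Units.val h
    rw [Units.val_neg] at this
    linear_combination -this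
  rw [Units.mul_left_eq_zero] at h1
  exact h2 ((Nat.prime_dvd_prime_iff_eq hp.out Nat.prime_two).1
    ((CharP.cast_eq_zero_iff (Kb F) p 2).1 (by exact_mod_cast h1)))

theorem dichotomy (h2 : p ≠ 2) (hq : Odd (Nat.card F)) (hn : 1 ≤ n) {N0 : ℕ}
    (h0 : ∀ N, N = Nat.card F ^ n + 1 ∨ N = Nat.card F ^ n - 1 → 4 ∣ N ∨ N = N0) (x : PSp n F) :
    (∃ x' : PSp n F, orderOf x ∣ orderOf x' ∧ 2 ∣ orderOf x') ∨
      ∀ m, N0 ∣ m * 2 → (∃ a, 2 * n ≤ p ^ a ∧ p ^ a ∣ m) → orderOf x ∣ m := by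
  rcases Nat.even_or_odd (orderOf x) with hx | hx
  · exact .inl ⟨x, dvd_rfl, hx.two_dvd⟩
  obtain ⟨L, hL, hd, h⟩ := psp_analysis p hn x
  have key : ∀ L' : SList F, OVal Even L' → oDim L' = 2 * n →
      (∀ m, OCond p L' m → OCond p L (m * 2)) →
      (∀ m, Odd m → OCond p L' m → ¬ orderOf x ∣ m) →
      ∃ x' : PSp n F, orderOf x ∣ orderOf x' ∧ 2 ∣ orderOf x' := fun L' h1 h3 h4 h5 => by
    obtain ⟨x', hx'⟩ := psp_synthesis p hn h1 h3
    have h6 := (Nat.coprime_two_right.2 hx).dvd_of_dvd_mul_right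
      ((h _).2 (h4 _ ((hx' _).1 dvd_rfl)))
    exact ⟨x', h6, even_iff_two_dvd.1 (Nat.not_odd_iff_even.1 fun h7 =>
      h5 _ h7 ((hx' _).1 dvd_rfl) h6)⟩
  rcases L with _ | ⟨⟨z, D, e⟩, _ | ⟨y, L⟩⟩
  · simp [oDim] at hd; omega
  · have hz := (hL _ (List.mem_singleton_self _)).1
    have hx1 := ((h _).1 dvd_rfl).1 _ (List.mem_singleton_self _)
    simp only [oDim_cons, oDim_nil, add_zero] at hd
    rcases D with _ | D
    · refine .inr fun m _ ⟨b, hb, hb'⟩ => (h m).2 ?_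
      have : z ^ 2 = 1 := by simpa using hz.2.resolve_right (by simp)
      simpa [OCond, pow_mul', this] using ⟨b, by simp [od_zero] at hd; omega, hb'⟩
    rw [od_succ] at hd
    rcases hz.1.eq_or_lt with he | he
    · obtain rfl : 1 = e := he
      obtain rfl : D + 1 = n := by omega
      obtain ⟨N, hN, hzN⟩ : ∃ N, (N = Nat.card F ^ (D + 1) + 1 ∨ N = Nat.card F ^ (D + 1) - 1) ∧
        z ^ N = 1 := hz.2.elim (fun h => ⟨_, .inl rfl, h⟩) fun h => ⟨_, .inr rfl, h.2⟩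
      have h3 : ∀ m, N ∣ m * 2 → orderOf x ∣ m := fun m hm => (h m).2 (by
        simpa [OCond, pw hzN hm] using ⟨0, by simp⟩)
      rcases h0 N hN with h4 | rfl
      · obtain ⟨y, hy⟩ := singer p hn hN
        have h5 := (hy _).1 dvd_rfl
        exact .inl ⟨y, h3 _ h5, by have := h4.trans h5; omega⟩
      · exact .inr fun m hm _ => h3 m hm
    · have h3 : (D + 1) * e = n := by rw [mul_assoc] at hd; omega
      have h4 : e ≤ 2 * (n - (D + 1)) ∧ D + 1 ≤ n := by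
        obtain ⟨e, rfl⟩ : ∃ k, e = k + 2 := ⟨e - 2, by simp at he; omega⟩
        have : (D + 1) * (e + 2) = D * e + e + 2 * D + 2 := by ring
        omega
      refine .inl (key [(z, D + 1, 1), (-z ^ orderOf x, 0, 2 * (n - (D + 1)))]
        (oVal_cons.2 ⟨⟨⟨le_rfl, hz.2⟩, by simp⟩, oVal_cons.2 ⟨⟨⟨by simp at he ⊢; omega,
          .inl (by simpa [← pow_mul] using hx1)⟩, by simp⟩, oVal_nil⟩⟩)
        (by simp [oDim, od_succ, od_zero]; omega) (fun m hm => ?_) fun m hm hm' ⟨t, ht⟩ => ?_)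
      · obtain ⟨b, hb, hb'⟩ := hm.2.2 (_, 0, _) (List.mem_cons_of_mem _ (List.mem_singleton_self _))
        simpa [OCond, pw (hm.1 _ List.mem_cons_self) (dvd_mul_right (m * 2) 2)] using
          ⟨b, h4.1.trans hb, hb'.mul_right _⟩
      · have h5 := hm'.2.1 _ List.mem_cons_self _ (List.mem_cons_of_mem _ (List.mem_singleton_self _))
        refine neg_pow_ne p h2 hm (z ^ orderOf x) (h5.symm.trans ?_)
        obtain ⟨u, hu⟩ := hm
        obtain ⟨v, hv⟩ := Odd.of_dvd_nat ⟨u, hu⟩ ⟨orderOf x, ht.trans (mul_comm _ _)⟩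
        simp only at hx1
        conv_lhs => rw [ht, hv]
        rw [hu, pow_mul, pow_succ, pow_succ, pow_mul, pow_mul, ← pow_mul z, hx1, one_pow, one_pow]
  · refine .inl (key ((-z, D, e) :: y :: L)
      (oVal_cons.2 ⟨⟨(hL _ List.mem_cons_self).1.neg, (hL _ List.mem_cons_self).2⟩,
        (oVal_cons.1 hL).2⟩) hd (fun m hm => ?_) fun m hm hm' h3 => ?_)
    · have h3 : ∀ a ∈ (z, D, e) :: y :: L, a.1 ^ (m * 2) = 1 := fun a ha => by
        rcases List.mem_cons.1 ha with rfl | ha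
        · simpa [Even.neg_pow] using hm.1 _ List.mem_cons_self
        · exact hm.1 _ (List.mem_cons_of_mem _ ha)
      refine ⟨fun a ha => pw (h3 a ha) (dvd_mul_right _ _), fun a ha b hb => by
        rw [h3 a ha, h3 b hb], fun a ha => ?_⟩
      obtain ⟨b, hb, hb'⟩ : ∃ j, a.2.2 ≤ p ^ j ∧ p ^ j ∣ m := by
        rcases List.mem_cons.1 ha with rfl | ha
        · exact hm.2.2 (-z, D, e) List.mem_cons_self
        · exact hm.2.2 _ (List.mem_cons_of_mem _ ha)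
      exact ⟨b, hb, hb'.mul_right _⟩
    · exact neg_pow_ne p h2 hm z ((hm'.2.1 _ List.mem_cons_self y (by simp)).trans
        (((h m).1 h3).2.1 _ List.mem_cons_self y (by simp)).symm)

theorem exists_unip (hn : 1 ≤ n) : ∃ u : PSp n F, ∃ a, 2 * n ≤ p ^ a ∧ p ^ a ∣ orderOf u := by
  obtain ⟨u, hu⟩ := psp_synthesis (F := F) p hn (L := [(1, 0, 2 * n)])
    (by simp [OVal, OV]; omega) (by simp [oDim, od_zero])
  exact ⟨u, ((hu _).1 dvd_rfl).2.2 (1, 0, 2 * n) (by simp)⟩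

theorem exists_mixed (h2 : p ≠ 2) (hn : 2 ≤ n) :
    ∃ u : PSp n F, 2 ∣ orderOf u ∧ ∃ a, 2 * n - 2 ≤ p ^ a ∧ p ^ a ∣ orderOf u := by
  obtain ⟨u, hu⟩ := psp_synthesis (F := F) (n := n) p (by omega)
    (L := [(-1, 0, 2), (1, 0, 2 * (n - 1))]) (by simp [OVal, OV]; omega)
    (by simp [oDim, od_zero]; omega)
  obtain ⟨-, h1, h3⟩ := (hu _).1 dvd_rfl
  obtain ⟨b, hb, hb'⟩ := h3 (1, 0, 2 * (n - 1)) (by simp)
  exact ⟨u, even_iff_two_dvd.1 (Nat.not_odd_iff_even.1 fun h => neg_pow_ne p h2 h 1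
    (h1 (-1, 0, 2) (by simp) (1, 0, 2 * (n - 1)) (by simp))), b, by simp at hb; omega, hb'⟩

/-- Let F be a finite field of odd order q = p^a, n ≥ 2 (with q ≥ 3 automatic), and L = PSp(2n, F). Then for every m the direct product L × L × L × (ℤ/2)^m has the same set of element orders as L × L × L; and if 2n − 1 is not a power of p, then already L × L × (ℤ/2)^m has the same set of element orders as L × L. -/
theorem result {F : Type*} [Field F] [Fintype F] (p a n m : ℕ) (hp : p.Prime) (ha : 1 ≤ a) (hF : Fintype.card F = p ^ a) (hodd : Odd (Fintype.card F))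
    (hn : 2 ≤ n) :
    Set.range (orderOf : Cfsg.PSp n F × Cfsg.PSp n F × Cfsg.PSp n F × Multiplicative (Fin m → ZMod 2) → ℕ) = Set.range (orderOf : Cfsg.PSp n F × Cfsg.PSp n F × Cfsg.PSp n F → ℕ) ∧
    ((¬ ∃ j : ℕ, 2 * n - 1 = p ^ j) →
      Set.range (orderOf : Cfsg.PSp n F × Cfsg.PSp n F × Multiplicative (Fin m → ZMod 2) → ℕ) = Set.range (orderOf : Cfsg.PSp n F × Cfsg.PSp n F → ℕ)) := by
  rw [← Nat.card_eq_fintype_card] at *
  have := Fact.mk hp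
  have : CharP F p := by
    have h1 := Cfsg.Lib.Known.fact_prime_ringChar F
    have h2 := spec_char_dvd (F := F) (ringChar F)
    rw [hF] at h2
    rw [← (Nat.prime_dvd_prime_iff_eq h1.out hp).mp (h1.out.dvd_of_dvd_pow h2)]
    infer_instance
  have hpo : Odd p := Odd.of_dvd_nat hodd (spec_char_dvd p)
  have h2 : p ≠ 2 := by rintro rfl; exact absurd hpo (by decide)
  obtain ⟨N0, hN0, h0⟩ : ∃ N0, (N0 = Nat.card F ^ n + 1 ∨ N0 = Nat.card F ^ n - 1) ∧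
      ∀ N, N = Nat.card F ^ n + 1 ∨ N = Nat.card F ^ n - 1 → 4 ∣ N ∨ N = N0 := by
    obtain ⟨k, hk⟩ := hodd.pow (n := n)
    rcases Nat.even_or_odd' k with ⟨j, rfl | rfl⟩
    · exact ⟨_, .inl rfl, fun N hN => by omega⟩
    · exact ⟨_, .inr rfl, fun N hN => by omega⟩
  obtain ⟨y0, hy0⟩ := singer (F := F) p (n := n) (by omega) hN0
  replace hy0 := (hy0 _).1 dvd_rfl
  obtain ⟨u0, b, hb, hu0⟩ := exists_unip (F := F) p (n := n) (by omega)
  obtain ⟨s0, hs0, c, hc, hc'⟩ := exists_mixed (F := F) p h2 hn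
  have D := dichotomy (F := F) p h2 hodd (by omega) h0
  have l1 : ∀ {a b c : ℕ}, a ∣ b → a ∣ Nat.lcm b c := fun h => h.trans (Nat.dvd_lcm_left _ _)
  have l2 : ∀ {a b c : ℕ}, a ∣ c → a ∣ Nat.lcm b c := fun h => h.trans (Nat.dvd_lcm_right _ _)
  refine ⟨Set.Subset.antisymm ?_ ?_, fun hj => Set.Subset.antisymm ?_ ?_⟩
  · rintro _ ⟨⟨x, y, z, w⟩, rfl⟩
    have hw := S2510.ord_vec w
    rcases D x with ⟨x', h1, h2⟩ | hx
    · refine exists_orderOf_of_dvd (g := (x', y, z)) ?_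
      simp only [Prod.orderOf_mk, Nat.lcm_dvd_iff]
      exact ⟨l1 h1, l2 (l1 dvd_rfl), l2 (l2 dvd_rfl), l1 (hw.trans h2)⟩
    rcases D y with ⟨y', h1, h2⟩ | hy
    · refine exists_orderOf_of_dvd (g := (x, y', z)) ?_
      simp only [Prod.orderOf_mk, Nat.lcm_dvd_iff]
      exact ⟨l1 dvd_rfl, l2 (l1 h1), l2 (l2 dvd_rfl), l2 (l1 (hw.trans h2))⟩
    rcases D z with ⟨z', h1, h2⟩ | hz
    · refine exists_orderOf_of_dvd (g := (x, y, z')) ?_
      simp only [Prod.orderOf_mk, Nat.lcm_dvd_iff]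
      exact ⟨l1 dvd_rfl, l2 (l1 dvd_rfl), l2 (l2 h1), l2 (l2 (hw.trans h2))⟩
    refine exists_orderOf_of_dvd (g := (y0, u0, s0)) ?_
    have h1 := hy0.trans (mul_dvd_mul_right (l1 (c := (orderOf u0).lcm (orderOf s0)) dvd_rfl) _)
    have h2 := l2 (b := orderOf y0) (l1 (c := orderOf s0) hu0)
    simp only [Prod.orderOf_mk, Nat.lcm_dvd_iff]
    exact ⟨hx _ h1 ⟨b, hb, h2⟩, hy _ h1 ⟨b, hb, h2⟩, hz _ h1 ⟨b, hb, h2⟩, l2 (l2 (hw.trans hs0))⟩
  · rintro _ ⟨⟨x, y, z⟩, rfl⟩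
    exact ⟨(x, y, z, 1), by simp [Prod.orderOf_mk]⟩
  · rintro _ ⟨⟨x, y, w⟩, rfl⟩
    have hw := S2510.ord_vec w
    rcases D x with ⟨x', h1, h2⟩ | hx
    · refine exists_orderOf_of_dvd (g := (x', y)) ?_
      simp only [Prod.orderOf_mk, Nat.lcm_dvd_iff]
      exact ⟨l1 h1, l2 dvd_rfl, l1 (hw.trans h2)⟩
    rcases D y with ⟨y', h1, h2⟩ | hy
    · refine exists_orderOf_of_dvd (g := (x, y')) ?_
      simp only [Prod.orderOf_mk, Nat.lcm_dvd_iff]
      exact ⟨l1 dvd_rfl, l2 h1, l2 (hw.trans h2)⟩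
    refine exists_orderOf_of_dvd (g := (y0, s0)) ?_
    have h1 := hy0.trans (mul_dvd_mul_right (l1 (c := orderOf s0) dvd_rfl) _)
    have h2 := l2 (b := orderOf y0) hc'
    have h3 : 2 * n ≤ p ^ c := by
      have : 2 * n - 1 ≠ p ^ c := fun h => hj ⟨c, h⟩
      obtain ⟨k, hk⟩ := hpo.pow (n := c)
      omega
    simp only [Prod.orderOf_mk, Nat.lcm_dvd_iff]
    exact ⟨hx _ h1 ⟨c, h3, h2⟩, hy _ h1 ⟨c, h3, h2⟩, l2 (hw.trans hs0)⟩
  · rintro _ ⟨⟨x, y⟩, rfl⟩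
    exact ⟨(x, y, 1), by simp [Prod.orderOf_mk]⟩

end Cfsg.Agent.S2512
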