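import Cfsg.Statements.S2513
import Cfsg.Agent.Lib.Linear.Spec

set_option autoImplicit false
open Cfsg

namespace Cfsg.Agent.S2513

open Cfsg.Lib.Linear Cfsg.Lib.Small
attribute [-simp] Nat.card_eq_fintype_card

theorem range_eq {G : Type*} [Group G] [Finite G] {k : ℕ} (y : Fin k → G) (hy : ∀ x : G, orderOf x ∣ orderOf y) :
    Set.range (orderOf : (Fin k → G) → ℕ) = {N | N ∣ Monoid.exponent G} := by
  ext N
  constructor
  · rintro ⟨z, rfl⟩
    exact orderOf_dvd_of_pow_eq_one (funext fun i => Monoid.pow_exponent_eq_one (z i))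
  · exact fun h => exists_orderOf_of_dvd (g := y)
      (h.trans (Monoid.exponent_dvd_of_forall_pow_eq_one fun x => orderOf_dvd_iff_pow_eq_one.mp (hy x)))

theorem key {F : Type*} [Field F] [Finite F] (hF : Nat.card F = 2) (n k : ℕ) (hn : 2 ≤ n) (hk : (n + 3) / 2 ≤ k) :
    ∃ y : Fin k → Matrix.ProjectiveSpecialLinearGroup (Fin n) F,
      ∀ x : Matrix.ProjectiveSpecialLinearGroup (Fin n) F, orderOf x ∣ orderOf y := by
  have := Cfsg.Lib.Known.fact_prime_ringChar F
  set p := ringChar F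
  obtain ⟨u, hu⟩ := psl_synthesis (F := F) (n := Fin n) p (L := [(1, 1, n)]) (by simp [SVal]; omega) (by simp [sDim])
    (by simp [sDet])
  have hs : ∀ j, ∃ s : Matrix.ProjectiveSpecialLinearGroup (Fin n) F, j < n → orderOf s = 2 ^ (n - j) - 1 := by
    intro j
    by_cases hj : j < n
    swap
    · exact ⟨1, fun h => absurd h hj⟩
    obtain ⟨a, ha⟩ := exists_units_orderOf (F := F) p (not_char_dvd_pow_sub_one (F := F) p (D := n - j) (by omega))
    have ha' := ha ▸ pow_orderOf_eq_one a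
    obtain ⟨s, hs⟩ := psl_exists_order (n := Fin n) p (L := [(a, n - j, 1)]) (N := 2 ^ (n - j) - 1)
      (by simp [SVal, ha']; omega) (by simp [sDim]) (by simpa [sDet] using pow_geomS_eq_one ha' (by simp [hF]))
      fun m hm => by simpa [hF, ha] using orderOf_dvd_of_pow_eq_one (hm.1 (a, n - j, 1) (by simp))
    exact ⟨s, fun _ => hs⟩
  choose s hs using hs
  refine ⟨fun i => if i.val = 0 then u else s (i - 1), fun x => ?_⟩
  set y : Fin k → _ := fun i => if i.val = 0 then u else s (i - 1)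
  have hy : ∀ i, orderOf (y i) ∣ orderOf y := fun i =>
    orderOf_dvd_of_pow_eq_one (congrFun (pow_orderOf_eq_one y) i)
  obtain ⟨L, hL, hd, -, h⟩ := psl_analysis p x
  rw [Fintype.card_fin] at hd
  have h1 : ∀ z ∈ L, z.1 ^ orderOf y = 1 := by
    intro z hz
    obtain ⟨h1, h2, h3⟩ := hL z hz
    have h4 : z.2.1 ≤ n := by have := le_sDim hz; have := Nat.le_mul_of_pos_right z.2.1 h2; omega
    have h5 := Nat.div_add_mod n z.2.1
    have h6 := Nat.mod_lt n h1
    have h7 := Nat.le_mul_of_pos_right z.2.1 (Nat.div_pos h4 h1)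
    have h8 := hy ⟨n - z.2.1 * (n / z.2.1) + 1, by omega⟩
    simp only [y, Nat.add_eq_zero_iff, one_ne_zero, and_false, if_false, Nat.add_sub_cancel] at h8
    rw [hs _ (by omega), Nat.sub_sub_self (by omega)] at h8
    refine orderOf_dvd_iff_pow_eq_one.mp ((orderOf_dvd_of_pow_eq_one h3).trans (dvd_trans ?_ h8))
    rw [hF, pow_mul]
    simpa using Nat.sub_dvd_pow_sub_pow (2 ^ z.2.1) 1 (n / z.2.1)
  refine (h _).mpr ⟨fun z hz => by rw [pow_mul, h1 z hz, one_pow], fun z hz w hw => by rw [h1 z hz, h1 w hw],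
    fun z hz => ?_⟩
  obtain ⟨a, h2, h3⟩ := ((hu _).mp (hy ⟨0, by omega⟩)).2.2 (1, 1, n) (by simp)
  refine ⟨a, le_trans ?_ h2, h3⟩
  have := le_sDim hz; have := Nat.le_mul_of_pos_left z.2.2 (hL z hz).1; simp; omega

/-- Let F be the field with two elements, n ≥ 2, L = PSL(n, F) and k₀ = ⌊(n + 3)/2⌋. Then for every k ≥ k₀ the direct product of k copies of L has the same set of element orders as the direct product of k₀ copies of L. -/
theorem result {F : Type*} [Field F] [Fintype F] (hF : Fintype.card F = 2) (n k : ℕ) (hn : 2 ≤ n) (hk : (n + 3) / 2 ≤ k) :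
    Set.range (orderOf : (Fin k → Matrix.ProjectiveSpecialLinearGroup (Fin n) F) → ℕ) = Set.range (orderOf : (Fin ((n + 3) / 2) → Matrix.ProjectiveSpecialLinearGroup (Fin n) F) → ℕ) := by
  rw [← Nat.card_eq_fintype_card] at hF
  obtain ⟨y, hy⟩ := key hF n k hn hk
  obtain ⟨z, hz⟩ := key hF n _ hn le_rfl
  rw [range_eq y hy, range_eq z hz]

end Cfsg.Agent.S2513
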