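import Cfsg.Statements.S2514
import Mathlib

set_option autoImplicit false
open Cfsg

namespace Cfsg.Agent.S2514



theorem exists_max {G : Type*} [Group G] [Finite G] (g : G) : ∃ x : G, orderOf g ∣ orderOf x ∧
    ∀ m ∈ Set.range (orderOf : G → ℕ), orderOf x ∣ m → m = orderOf x := by
  obtain ⟨x, hx, H⟩ := Set.exists_max_image {x : G | orderOf g ∣ orderOf x} orderOf (Set.toFinite _) ⟨g, dvd_rfl⟩
  refine ⟨x, hx, ?_⟩
  rintro _ ⟨y, rfl⟩ h
  exact le_antisymm (H y (dvd_trans hx h)) (Nat.le_of_dvd (orderOf_pos y) h)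

theorem exists_order {G : Type*} [Group G] [Finite G] (x : G) {n : ℕ} (h : n ∣ orderOf x) :
    ∃ y : G, orderOf y = n := ⟨_, orderOf_pow_orderOf_div (orderOf_pos x).ne' h⟩

/-- For a finite group X write μ(X) for the set of element orders of X that are maximal under divisibility. Let G and H be finite groups and k ≥ 1 such that μ(H) ⊆ μ(G) and μ(G) has fewer than k elements outside μ(H). Then the direct product of k copies of G has the same set of element orders as the direct product of k − 1 copies of G with H. -/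
theorem result {G H : Type*} [Group G] [Finite G] [Group H] [Finite H] (k : ℕ) (hk : 1 ≤ k)
    (hsub : {n : ℕ | n ∈ Set.range (orderOf : H → ℕ) ∧ ∀ m ∈ Set.range (orderOf : H → ℕ), n ∣ m → m = n} ⊆ {n : ℕ | n ∈ Set.range (orderOf : G → ℕ) ∧ ∀ m ∈ Set.range (orderOf : G → ℕ), n ∣ m → m = n})
    (hfew : ({n : ℕ | n ∈ Set.range (orderOf : G → ℕ) ∧ ∀ m ∈ Set.range (orderOf : G → ℕ), n ∣ m → m = n} \ {n : ℕ | n ∈ Set.range (orderOf : H → ℕ) ∧ ∀ m ∈ Set.range (orderOf : H → ℕ), n ∣ m → m = n}).ncard < k) :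
    Set.range (orderOf : (Fin k → G) → ℕ) = Set.range (orderOf : (Fin (k - 1) → G) × H → ℕ) := by
  obtain ⟨k, rfl⟩ := Nat.exists_eq_add_of_le' hk
  have key : ∀ (g : Fin (k + 1) → G) (i : Fin (k + 1)) (h : H), orderOf h = orderOf (g i) →
      orderOf ((fun j => g (i.succAbove j), h) : (Fin k → G) × H) = orderOf g := fun g i h e =>
    orderOf_eq_orderOf_iff.2 fun n => by
      simp only [Prod.ext_iff, funext_iff, Fin.forall_iff_succAbove i, Prod.pow_fst, Prod.pow_snd,
        Pi.pow_apply, Prod.fst_one, Prod.snd_one, Pi.one_apply, orderOf_eq_orderOf_iff.1 e, and_comm]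
  refine Set.Subset.antisymm ?_ ?_
  · rintro _ ⟨g, rfl⟩
    choose x hx hx' using fun i => exists_max (g i)
    by_cases h : ∃ i, ∃ h : H, orderOf h = orderOf (x i)
    · obtain ⟨i, h, e⟩ := h
      obtain ⟨y, hy⟩ := exists_order h (e ▸ hx i)
      exact ⟨_, key g i y hy⟩
    · obtain ⟨i, j, hij, e⟩ : ∃ i j, i ≠ j ∧ orderOf (x i) = orderOf (x j) := by
        by_contra! hc
        refine hfew.not_ge (le_of_eq_of_le ?_ (Set.ncard_le_ncard_of_injOn (s := Set.univ)
          (fun i => orderOf (x i)) (fun i _ => ⟨⟨⟨_, rfl⟩, hx' i⟩, fun h' => h ⟨i, h'.1⟩⟩)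
          (fun i _ j _ e => by_contra fun hne => hc i j hne e)
          ((Set.finite_range _).subset fun _ h => h.1.1)))
        simp
      obtain ⟨y, hy⟩ := exists_order (x j) (Nat.lcm_dvd (e ▸ hx i) (hx j))
      classical
      refine ⟨_, (key (Function.update (Function.update g i 1) j y) i 1 (by simp [hij])).trans
        (orderOf_eq_orderOf_iff.2 fun n => ?_)⟩
      have : y ^ n = 1 ↔ g i ^ n = 1 ∧ g j ^ n = 1 := by
        simp only [← orderOf_dvd_iff_pow_eq_one, hy, Nat.lcm_dvd_iff]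
      simp only [funext_iff, Pi.pow_apply, Pi.one_apply, Function.update_apply]
      constructor
      · intro H l
        have h1 := H j
        have h2 := H l
        rw [if_pos rfl, this] at h1
        split_ifs at h2 with a b
        exacts [a ▸ h1.2, b ▸ h1.1, h2]
      · intro H l
        split_ifs
        exacts [this.2 ⟨H _, H _⟩, one_pow _, H _]
  · rintro _ ⟨⟨g, h⟩, rfl⟩
    obtain ⟨x, hx, hx'⟩ := exists_max h
    obtain ⟨y, hy⟩ := (hsub ⟨⟨x, rfl⟩, hx'⟩).1
    obtain ⟨z, hz⟩ := exists_order y (hy ▸ hx)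
    exact ⟨Fin.cons z g, (key (Fin.cons z g) 0 h hz.symm).symm⟩

end Cfsg.Agent.S2514
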