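import Cfsg.Statements.S2515
import Cfsg.Agent.Lib.Coprime.Spec
import Cfsg.Agent.Lib.Known.SL2Classes

set_option autoImplicit false
open Cfsg

namespace Cfsg.Agent.S2515

open Cfsg.Lib.Known Cfsg.Lib.Coprime Matrix

section
set_option linter.unusedSectionVars false
variable {F : Type} [Field F] [Fact (Nat.Prime 3)] [CharP F 3]

/-- the twisted transpose -/
noncomputable def tw (g : SL2 F) : M2 F := ((g : M2 F).map (frobenius F 3))ᵀ

theorem tw_mul (g h : SL2 F) : tw (g * h) = tw h * tw g := by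
  rw [tw, tw, tw, ← transpose_mul, ← Matrix.map_mul]; rfl

theorem tw_one : tw (1 : SL2 F) = 1 := by
  change ((1 : M2 F).map (frobenius F 3))ᵀ = 1
  rw [Matrix.map_one _ (map_zero _) (map_one _), transpose_one]

theorem tw_neg (g : SL2 F) : tw (-g) = -tw g := by
  ext i j; simp [tw]

theorem tw_trace (g : SL2 F) : (tw g).trace = (g : M2 F).trace ^ 3 := by
  rw [tw, trace_transpose, trace_fin_two, trace_fin_two, map_apply, map_apply, ← map_add, frobenius_def]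

theorem tw_det (g : SL2 F) : (tw g).det = 1 := by
  rw [tw, det_transpose, ← RingHom.mapMatrix_apply, ← RingHom.map_det, g.det_coe, map_one]

variable (F) in
noncomputable def ρ0 : ℤˣ × SL2 F →* Module.End F (M2 F) where
  toFun x := ((x.1 : ℤ) : F) • (LinearMap.mulLeft F (x.2 : M2 F) ∘ₗ LinearMap.mulRight F (tw x.2))
  map_one' := by
    ext1 X; simp [tw_one]
  map_mul' x y := by
    ext1 X; simp [tw_mul, smul_smul, mul_assoc, mul_comm]

variable (F) in
noncomputable abbrev K : Subgroup (Module.End F (M2 F))ˣ := (ρ0 F).toHomUnits.range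

variable (F) in
noncomputable def ρ : ℤˣ × SL2 F →* K F := (ρ0 F).toHomUnits.rangeRestrict

theorem ρ_smul (e : ℤˣ) (g : SL2 F) (X : M2 F) :
    ρ F (e, g) • X = ((e : ℤ) : F) • ((g : M2 F) * (X * tw g)) := rfl

theorem ρ_surj : Function.Surjective (ρ F) := MonoidHom.rangeRestrict_surjective _

theorem three : (3 : F) = 0 := by simpa using CharP.cast_eq_zero F 3

theorem neg_one_ne : (-1 : F) ≠ 1 := fun h =>
  one_ne_zero (show (1 : F) = 0 by linear_combination three (F := F) + h)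

theorem ρ_eq_one {e : ℤˣ} {g : SL2 F} : ρ F (e, g) = 1 ↔ e = 1 ∧ (g = 1 ∨ g = -1) := by
  constructor
  · intro h
    have h1 : ∀ X : M2 F, ((e : ℤ) : F) • ((g : M2 F) * (X * tw g)) = X := fun X => by
      rw [← ρ_smul, h, one_smul]
    have h2 : g = 1 ∨ g = -1 := SL2_mem_center_iff'.1 (Subgroup.mem_center_iff.2 fun y => Subtype.ext (by
      have a := h1 ((y : M2 F) * g)
      have b := h1 1
      rw [one_mul] at b
      rw [mul_assoc, ← mul_smul_comm, ← mul_smul_comm, b, mul_one] at a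
      exact a.symm))
    refine ⟨?_, h2⟩
    have b := congrFun (congrFun (h1 1) 0) 0
    rcases Int.units_eq_one_or e with rfl | rfl
    · rfl
    · rcases h2 with rfl | rfl <;> simp [tw_neg, tw_one, neg_one_ne] at b
  · rintro ⟨rfl, h⟩
    refine Subtype.ext (Units.ext (LinearMap.ext fun X => ?_))
    change ρ F (1, g) • X = X
    rcases h with rfl | rfl <;> simp [ρ_smul, tw_neg, tw_one]

theorem ρ_pow_eq_one {e : ℤˣ} {g : SL2 F} {n : ℕ} :
    ρ F (e, g) ^ n = 1 ↔ e ^ n = 1 ∧ (g ^ n = 1 ∨ g ^ n = -1) := by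
  rw [← map_pow, Prod.pow_mk, ρ_eq_one]

theorem fpf (h4 : ¬ IsSquare (-1 : F)) (e : ℤˣ) {g : SL2 F} (h0 : (g : M2 F).trace ≠ 0)
    (h1 : (g : M2 F).trace ^ 2 ≠ 1) (X : M2 F) (h : ρ F (e, g) • X = X) : X = 0 := by
  rw [ρ_smul] at h
  set t := (g : M2 F).trace
  set c : F := ((e : ℤ) : F)
  have hc : c * c = 1 := by simp only [c]; rw [← Int.cast_mul, Int.units_coe_mul_self, Int.cast_one]
  have a1 := m2_sq (g : M2 F)
  have a2 := m2_sq (tw g)
  rw [g.det_coe, one_smul] at a1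
  rw [tw_det, tw_trace, one_smul] at a2
  have e1 : (g : M2 F) * X = c • (t • ((g : M2 F) * (X * tw g)) - X * tw g) := by
    conv_lhs => rw [← h]
    rw [mul_smul_comm, ← mul_assoc, a1, sub_mul, smul_mul_assoc, one_mul]
  have e2 : X * tw g = c • (t ^ 3 • ((g : M2 F) * (X * tw g)) - g * X) := by
    conv_lhs => rw [← h]
    rw [smul_mul_assoc, mul_assoc, mul_assoc, a2, mul_sub, mul_sub, mul_smul_comm, mul_smul_comm, mul_one]
  have e3 : (g : M2 F) * (X * tw g) = c • X := by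
    conv_rhs => rw [← h]
    rw [smul_smul, hc, one_smul]
  rw [e3] at e1 e2
  have e4 : (t * (1 - c * t ^ 2)) • X = 0 := by
    have : (g : M2 F) * X = c • (t • c • X - c • (t ^ 3 • c • X - g * X)) := by rw [← e2, ← e1]
    have h5 : (c * c * t - c * c * c * t ^ 3) • X + (c * c - 1) • ((g : M2 F) * X) = 0 := by
      linear_combination (norm := module) -this
    rw [hc, sub_self, zero_smul, add_zero] at h5
    rw [← h5]; congr 1; ring
  refine (smul_eq_zero.1 e4).resolve_left (mul_ne_zero h0 fun h5 => ?_)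
  rcases Int.units_eq_one_or e with rfl | rfl
  · exact h1 (by simp only [c] at h5; push_cast at h5; linear_combination -h5)
  · exact h4 ⟨t, by simp only [c] at h5; push_cast at h5; linear_combination -h5⟩

variable (F) in
abbrev H : Type := Aff (M2 F) (K F)

theorem pow3 {a : H F} (h : a.h = 1) : a ^ 3 = 1 := by
  refine Aff.ext ?_ ((map_pow Aff.fst a 3).trans (by rw [show Aff.fst a = 1 from h, one_pow]; rfl))
  rw [Aff.pow_v, h]
  simp only [one_pow, one_smul, Finset.sum_const, Finset.card_range]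
  rw [← Nat.cast_smul_eq_nsmul F, CharP.cast_eq_zero, zero_smul]; rfl

theorem dvd_of_h {a : H F} {n : ℕ} (h : a.h ^ n = 1) : orderOf a ∣ n * 3 := by
  rw [orderOf_dvd_iff_pow_eq_one, pow_mul]
  exact pow3 ((map_pow Aff.fst a n).trans h)

theorem pow2 {a : H F} {g : SL2 F} (hg : g = 1 ∨ g = -1) (h : a.h = ρ F (-1, g)) : a ^ 2 = 1 := by
  refine Aff.ext ?_ ((map_pow Aff.fst a 2).trans ?_)
  · rw [pow_two, Aff.mul_v, h, ρ_smul]
    rcases hg with rfl | rfl <;> simp [tw_neg, tw_one] <;> rfl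
  · rw [show Aff.fst a = _ from h]
    exact ρ_pow_eq_one.2 ⟨by simp, by rcases hg with rfl | rfl <;> simp⟩

variable [Finite F]

theorem finK : Finite (K F) := Finite.of_surjective _ ρ_surj

theorem upper (h4 : Nat.card F % 4 = 3) (a : H F) :
    orderOf a ∣ 6 ∨ orderOf a ∣ 9 ∨ orderOf a ∣ Nat.card F - 1 ∨ orderOf a ∣ (Nat.card F + 1) / 2 := by
  have := finK (F := F)
  obtain ⟨⟨e, g⟩, hx⟩ := ρ_surj a.h
  have a1 := m2_sq (g : M2 F)
  rw [g.det_coe, one_smul] at a1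
  by_cases h0 : (g : M2 F).trace = 0
  · refine Or.inl (dvd_of_h (n := 2) (hx ▸ ρ_pow_eq_one.2 ⟨by simp, Or.inr (Subtype.ext ?_)⟩))
    simp [pow_two, a1, h0]
  by_cases h1 : (g : M2 F).trace ^ 2 = 1
  · have h3 : g ^ 3 = 1 ∨ g ^ 3 = -1 := SL2_isScal_iff.1 (isScal_iff.2 ⟨-(g : M2 F).trace, by
      change (g : M2 F) ^ 3 = _
      rw [pow_three, a1, mul_sub, mul_smul_comm, a1, smul_sub, smul_smul,
        ← pow_two, h1]
      simp⟩)
    rcases Int.units_eq_one_or e with rfl | rfl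
    · exact Or.inr (Or.inl (dvd_of_h (n := 3) (hx ▸ ρ_pow_eq_one.2 ⟨by simp, h3⟩)))
    · refine Or.inl (orderOf_dvd_iff_pow_eq_one.2 ?_)
      rw [show 6 = 3 * 2 from rfl, pow_mul]
      refine pow2 h3 ((map_pow Aff.fst a 3).trans ?_)
      rw [show Aff.fst a = _ from hx.symm, ← map_pow]; rfl
  have := Fintype.ofFinite F
  have hs : ¬ IsSquare (-1 : F) := fun h =>
    FiniteField.isSquare_neg_one_iff.1 h (Nat.card_eq_fintype_card (α := F) ▸ h4)
  rw [Aff.orderOf_of_fpf a (hx ▸ fpf hs e h0 h1), ← hx]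
  have key : ∀ (a : Fˣ) b, a ^ 2 = 1 → ¬ IsConj g (triS a b) := fun a b ha h => h1 (by
    rw [SL2_trace_eq_of_isConj h, trace_triS, ← (units_eq_inv_iff a).2 ha]
    have : (a : F) ^ 2 = 1 := by rw [← Units.val_pow_eq_pow_val, ha, Units.val_one]
    linear_combination 4 * this + three (F := F))
  have ev : ∀ n, Even n → e ^ n = 1 := fun n hn => by
    rcases Int.units_eq_one_or e with rfl | rfl
    · simp
    · exact hn.neg_one_pow
  rcases SL2_types g with ⟨a, ha, rfl⟩ | ⟨a, b, ha, -, h⟩ | ⟨a, -, h⟩ | ⟨z, -, h⟩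
  · exact absurd (IsConj.refl _) (key a 0 ha)
  · exact absurd h (key a b ha)
  · refine Or.inr (Or.inr (Or.inl (orderOf_dvd_iff_pow_eq_one.2 (ρ_pow_eq_one.2
      ⟨ev _ ⟨(Nat.card F - 1) / 2, by omega⟩, Or.inl ?_⟩))))
    have := h.pow (Nat.card F - 1)
    rw [← torusS_apply, ← map_pow, ← Nat.card_units, pow_card_eq_one', map_one, isConj_one_left] at this
    rwa [← Nat.card_units]
  · refine Or.inr (Or.inr (Or.inr (orderOf_dvd_iff_pow_eq_one.2 (ρ_pow_eq_one.2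
      ⟨ev _ ⟨(Nat.card F + 1) / 4, by omega⟩, SL2_isScal_iff.1 ?_⟩))))
    rw [SL2_isScal_iff_of_isConj (h.pow _), ← map_pow, isScal_singerS_iff, ← pow_mul,
      show (Nat.card F + 1) / 2 * 2 = Nat.card (U1 F) by rw [card_U1]; omega, pow_card_eq_one']

theorem mem_of {e : ℤˣ} {g : SL2 F} {N : ℕ} (h1 : e ^ N = 1) (h2 : g ^ N = 1 ∨ g ^ N = -1)
    (h3 : ∀ n, e ^ n = 1 → g ^ (n * 2) = 1 → N ∣ n) : N ∈ Set.range (orderOf : H F → ℕ) := by
  have := finK (F := F)
  refine ⟨⟨0, ρ F (e, g)⟩, ?_⟩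
  rw [Aff.orderOf_of_fixed (smul_zero _), smul_zero, addOrderOf_zero, mul_one]
  refine Nat.dvd_antisymm (orderOf_dvd_iff_pow_eq_one.2 (ρ_pow_eq_one.2 ⟨h1, h2⟩)) ?_
  obtain ⟨a, b⟩ := ρ_pow_eq_one.1 (pow_orderOf_eq_one (ρ F (e, g)))
  refine h3 _ a ?_
  rw [pow_mul]
  rcases b with b | b <;> rw [b] <;> simp

theorem two_dvd {n : ℕ} (h : (-1 : ℤˣ) ^ n = 1) : 2 ∣ n :=
  ((neg_one_pow_eq_one_iff_even (by decide)).1 h).two_dvd

theorem lower (h4 : Nat.card F % 4 = 3) :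
    ({6, 9, Nat.card F - 1, (Nat.card F + 1) / 2} : Set ℕ) ⊆ Set.range (orderOf : H F → ℕ) := by
  have u3 : triS (1 : Fˣ) 1 ^ 3 = 1 := by
    rw [triS_pow_of_sq 1 (by simp), ← triS_one]; simp [three]
  rintro n (rfl | rfl | rfl | rfl)
  · refine mem_of (e := -1) (g := triS 1 1) rfl (Or.inl (by rw [show 6 = 3 * 2 from rfl, pow_mul, u3, one_pow]))
      fun n h1 h2 => ?_
    rw [triS_pow_of_sq 1 (by simp), ← triS_one, triS_inj] at h2
    have h3 := (CharP.cast_eq_zero_iff F 3 _).1 (show ((n * 2 : ℕ) : F) = 0 by simpa using h2.2)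
    have := two_dvd h1
    omega
  · refine ⟨⟨!![0, 0; 0, 1], ρ F (1, triS 1 1)⟩, orderOf_eq_prime_pow (p := 3) (n := 1) (fun h => ?_)
      (orderOf_dvd_iff_pow_eq_one.1 (dvd_of_h (n := 3) (ρ_pow_eq_one.2 ⟨by simp, Or.inl u3⟩)))⟩
    have h1 := congrFun (congrFun (congrArg Aff.v h) 0) 0
    have ht : tw (triS (1 : Fˣ) 1) = !![1, 0; 1, 1] := by
      rw [tw, coe_triS]; ext i j; fin_cases i <;> fin_cases j <;> simp
    rw [Aff.pow_v] at h1
    simp only [pow_one, Finset.sum_range_succ, Finset.range_zero, Finset.sum_empty, pow_zero, one_smul,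
      pow_two, mul_smul, ρ_smul, ht, coe_triS] at h1
    change _ = (0 : F) at h1
    simp at h1
    exact one_ne_zero (show (1 : F) = 0 by linear_combination 2 * three (F := F) - h1)
  · obtain ⟨a, ha⟩ := IsCyclic.exists_ofOrder_eq_natCard (α := Fˣ)
    rw [Nat.card_units] at ha
    refine mem_of (e := -1) (g := torusS F a) (Even.neg_one_pow ⟨(Nat.card F - 1) / 2, by omega⟩)
      (Or.inl (by rw [← map_pow, ← ha, pow_orderOf_eq_one, map_one])) fun n h1 h2 => ?_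
    rw [← orderOf_dvd_iff_pow_eq_one, orderOf_injective _ torusS_injective, ha] at h2
    obtain ⟨m, hm⟩ : ∃ m, Nat.card F - 1 = (2 * m + 1) * 2 := ⟨Nat.card F / 4, by omega⟩
    rw [hm] at h2 ⊢
    exact Nat.Coprime.mul_dvd_of_dvd_of_dvd (by simp) (Nat.dvd_of_mul_dvd_mul_right two_pos h2) (two_dvd h1)
  · have := isCyclic_U1 (F := F)
    obtain ⟨z, hz⟩ := IsCyclic.exists_ofOrder_eq_natCard (α := U1 F)
    have hm : (Nat.card F + 1) / 2 * 2 = orderOf z := by rw [hz, card_U1]; omega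
    refine mem_of (e := 1) (g := singerS F z) (one_pow _) (SL2_isScal_iff.1 ?_) fun n _ h2 => ?_
    · rw [← map_pow, isScal_singerS_iff, ← pow_mul, hm, pow_orderOf_eq_one]
    · rw [← orderOf_dvd_iff_pow_eq_one, orderOf_injective _ singerS_injective, ← hm] at h2
      exact Nat.dvd_of_mul_dvd_mul_right two_pos h2

theorem normal3 : ∃ P : Subgroup (H F), P.Normal ∧ P ≠ ⊥ ∧ IsPGroup 3 ↥P := by
  refine ⟨Aff.fst.ker, inferInstance, fun h => ?_, fun x => ⟨1, Subtype.ext (pow3 x.2)⟩⟩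
  have : (⟨1, 1⟩ : H F) ∈ (Aff.fst (V := M2 F) (H := K F)).ker := rfl
  rw [h, Subgroup.mem_bot] at this
  exact one_ne_zero (congrArg Aff.v this)

end

theorem maxset {S : Set ℕ} {q : ℕ} (h4 : q % 4 = 3) (h3 : q % 3 = 0) (h27 : 27 ≤ q)
    (h1 : ({6, 9, q - 1, (q + 1) / 2} : Set ℕ) ⊆ S)
    (h2 : ∀ n ∈ S, n ∣ 6 ∨ n ∣ 9 ∨ n ∣ q - 1 ∨ n ∣ (q + 1) / 2) :
    {n : ℕ | n ∈ S ∧ ∀ m ∈ S, n ∣ m → m = n} = ({6, 9, q - 1, (q + 1) / 2} : Set ℕ) := by
  ext n
  refine ⟨fun ⟨a, b⟩ => ?_, fun h => ⟨h1 h, fun m hm hnm => ?_⟩⟩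
  · rcases h2 n a with h | h | h | h <;> rw [← b _ (h1 (by simp)) h] <;> simp
  · have key : ∀ d ∈ ({6, 9, q - 1, (q + 1) / 2} : Set ℕ), n ∣ d → n = d := by
      obtain ⟨s, hs, hs'⟩ : ∃ s, (q + 1) / 2 = s + 1 ∧ q - 1 = 2 * s := ⟨(q - 1) / 2, by omega, by omega⟩
      rw [hs, hs'] at h ⊢
      rintro d (rfl | rfl | rfl | rfl) hd <;> rcases h with rfl | rfl | rfl | rfl <;>
        first
          | rfl
          | omega
          | (have := Nat.le_of_dvd (by omega) hd; omega)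
          | (have := Nat.le_of_dvd two_pos ((Nat.dvd_add_right hd).1
              (show s + 1 ∣ 2 * s + 2 from ⟨2, by ring⟩)); omega)
    rcases h2 m hm with e | e | e | e <;>
      exact Nat.dvd_antisymm (key _ (by simp) (hnm.trans e) ▸ e) hnm

theorem main (α : ℕ) (hα : 3 ≤ α) (hodd : Odd α) :
    ∃ (H : Type) (_ : Group H) (_ : Fintype H), (∃ P : Subgroup H, P.Normal ∧ P ≠ ⊥ ∧ IsPGroup 3 ↥P) ∧
      {n : ℕ | n ∈ Set.range (orderOf : H → ℕ) ∧ ∀ m ∈ Set.range (orderOf : H → ℕ), n ∣ m → m = n} = ({6, 9, 3 ^ α - 1, (3 ^ α + 1) / 2} : Set ℕ) := by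
  have : Fact (Nat.Prime 3) := ⟨Nat.prime_three⟩
  have hc : Nat.card (GaloisField 3 α) = 3 ^ α := GaloisField.card 3 α (by omega)
  have := finK (F := GaloisField 3 α)
  have : Finite (H (GaloisField 3 α)) := Aff.finite
  have h4 : 3 ^ α % 4 = 3 := by
    obtain ⟨k, rfl⟩ := hodd
    rw [pow_succ, pow_mul, Nat.mul_mod, Nat.pow_mod]; simp
  refine ⟨H (GaloisField 3 α), inferInstance, Fintype.ofFinite _, normal3,
    maxset h4 (Nat.mod_eq_zero_of_dvd (dvd_pow_self 3 (by omega)))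
      (Nat.pow_le_pow_right (n := 3) (by omega) hα) (hc ▸ lower (hc ▸ h4)) ?_⟩
  rintro _ ⟨a, rfl⟩
  exact hc ▸ upper (hc ▸ h4) a

/-- Let q = 3^α with α ≥ 3 odd. There is a finite group H having a non-trivial normal 3-subgroup and whose element orders maximal under divisibility are exactly 6, 9, q − 1 and (q + 1)/2. -/
theorem result (α : ℕ) (hα : 3 ≤ α) (hodd : Odd α) :
    ∃ (H : Type) (_ : Group H) (_ : Fintype H), (∃ P : Subgroup H, P.Normal ∧ P ≠ ⊥ ∧ IsPGroup 3 ↥P) ∧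
      {n : ℕ | n ∈ Set.range (orderOf : H → ℕ) ∧ ∀ m ∈ Set.range (orderOf : H → ℕ), n ∣ m → m = n} = ({6, 9, 3 ^ α - 1, (3 ^ α + 1) / 2} : Set ℕ) := by
  exact main α hα hodd

end Cfsg.Agent.S2515
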