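import Cfsg.Statements.S2516


set_option autoImplicit false
open Cfsg

namespace Cfsg.Agent.S2516

open Polynomial



/-- Let F be a field of characteristic p > 0, V a non-zero finite-dimensional F-vector space, G a finite group and ρ a representation of G on V; form the semidirect product V ⋊ G. For g ∈ G of order k, the coset Vg contains an element of order pk if and only if the minimal polynomial of ρ(g) does not divide 1 + X + ⋯ + X^(k−1). -/
theorem result {F : Type*} [Field F] (p : ℕ) [Fact p.Prime] [CharP F p] {V : Type*} [AddCommGroup V] [Module F V] [FiniteDimensional F V] [Nontrivial V]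
    {G : Type*} [Group G] [Finite G] (ρ : Representation F G V) (g : G) :
    (∃ x : Multiplicative V ⋊[(MulAutMultiplicative V).symm.toMonoidHom.comp
        ((DistribMulAction.toAddAut ((V →ₗ[F] V)ˣ) V).comp ρ.asGroupHom)] G,
        x.right = g ∧ orderOf x = p * orderOf g) ↔
      ¬ (minpoly F (ρ g) ∣ ∑ i ∈ Finset.range (orderOf g), (Polynomial.X : Polynomial F) ^ i) := by
  have hpow : ∀ (x : Multiplicative V ⋊[(MulAutMultiplicative V).symm.toMonoidHom.comp
      ((DistribMulAction.toAddAut ((V →ₗ[F] V)ˣ) V).comp ρ.asGroupHom)] G) (k : ℕ),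
      (x ^ k).left.toAdd = (∑ i ∈ Finset.range k, ρ x.right ^ i) x.left.toAdd := fun x k => by
    induction k with
    | zero => rw [pow_zero, Finset.range_zero, Finset.sum_empty]; rfl
    | succ k ih =>
      rw [pow_succ, SemidirectProduct.mul_left, toAdd_mul, ih, Finset.sum_range_succ, LinearMap.add_apply,
        ← map_pow]
      congr 1
      rw [← SemidirectProduct.rightHom_eq_right, map_pow]; rfl
  have hn := orderOf_pos g
  rw [minpoly.dvd_iff, map_sum]
  simp only [map_pow, aeval_X]
  constructor
  · rintro ⟨x, rfl, hx⟩ h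
    have : x ^ orderOf x.right = 1 := SemidirectProduct.ext (by
      apply Multiplicative.toAdd.injective; rw [hpow, h]; rfl)
      (by rw [← SemidirectProduct.rightHom_eq_right, map_pow]; exact pow_orderOf_eq_one _)
    have := Nat.le_of_dvd hn (hx ▸ orderOf_dvd_of_pow_eq_one this)
    nlinarith [(Fact.out : p.Prime).two_le]
  · intro h
    obtain ⟨v, hv⟩ := DFunLike.ne_iff.1 h
    refine ⟨⟨.ofAdd v, g⟩, rfl, ?_⟩
    set x : Multiplicative V ⋊[(MulAutMultiplicative V).symm.toMonoidHom.comp
      ((DistribMulAction.toAddAut ((V →ₗ[F] V)ˣ) V).comp ρ.asGroupHom)] G := ⟨.ofAdd v, g⟩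
    have h1 : x ^ orderOf g = .inl (x ^ orderOf g).left := SemidirectProduct.ext rfl
      (by rw [← SemidirectProduct.rightHom_eq_right, map_pow]; exact pow_orderOf_eq_one _)
    have h2 : orderOf (x ^ orderOf g) = p := by
      rw [h1, orderOf_injective _ SemidirectProduct.inl_injective]
      refine orderOf_eq_prime (Multiplicative.toAdd.injective ?_) fun e => hv ?_
      · rw [toAdd_pow, ← Nat.cast_smul_eq_nsmul F, CharP.cast_eq_zero, zero_smul]; rfl
      · exact (hpow x _).symm.trans (congrArg Multiplicative.toAdd e)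
    have h3 : orderOf g ∣ orderOf x := orderOf_map_dvd SemidirectProduct.rightHom x
    rw [orderOf_pow' _ hn.ne', Nat.gcd_eq_right h3] at h2
    rw [← h2, Nat.div_mul_cancel h3]

end Cfsg.Agent.S2516
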