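import Cfsg.Statements.S2517
import Cfsg.Agent.Lib.Conj.SpecQ

set_option autoImplicit false
open Cfsg

namespace Cfsg.Agent.S2517

open Cfsg.Lib.Conj Cfsg.Lib.Forms Cfsg.Lib.Forms.Form Module

open Cfsg.Lib.Linear

variable {F : Type*} [Field F] [Finite F] {V : Type*} [AddCommGroup V] [Module F V]
  [FiniteDimensional F V] {D : Form (quadKind F) V} {L : SList F} {N : ℕ}
  (p : ℕ) [hp : Fact p.Prime] [CharP F p]

theorem core (h2 : (2 : F) ≠ 0) (hD : D.Nondeg) (hn : finrank F V = 8) (hd : disc hD = -1)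
    (hL : OVal Odd L) (h8 : oDim L = 8) (hθ : QRe L 1) (h1 : ∀ a ∈ L, a.1 ≠ 1)
    (H : ∀ m, OOne p L m → N ∣ m) : AffS ((nat D).comp (commutator D.isom).subtype) N := by
  classical
  obtain ⟨u, hu⟩ := odd_card_iff.2 h2
  have hq : 1 ≤ u := by have := two_le_card (F := F); omega
  have e2 : Nat.card F ^ 2 = 4 * (u * u + u) + 1 := by rw [hu]; ring
  have e3 : Nat.card F ^ 3 = 4 * (2 * u ^ 3 + 3 * u ^ 2 + u) + 2 * u + 1 := by rw [hu]; ring
  have hp3 : 3 ≤ p := by
    have := hp.out.two_le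
    have : p ≠ 2 := by rintro rfl; exact h2 (CharP.cast_eq_zero F 2)
    omega
  have sgn : ∀ k, Odd k → disc hD = (-1) ^ k := fun k hk => by rw [hd, hk.neg_one_pow]
  have p22 : (∀ m, Nat.card F ^ 2 + 1 ∣ m → Nat.card F ^ 2 - 1 ∣ m → OOne p L m) →
      AffS ((nat D).comp (commutator D.isom).subtype) N := fun h =>
    affS_pair p h2 hD (tor_add (k := 2) (by omega)) (tor_sub (k := 2) (by omega)) hn
      (sgn _ (by rw [Nat.odd_iff]; omega)) fun m k1 k2 => H m (h m k1 k2)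
  have dim : ∀ a ∈ L, 1 ≤ a.2.2 ∧ a.2.2 ≤ od a.2.1 * a.2.2 ∧ 2 * a.2.1 ≤ od a.2.1 * a.2.2 ∧
      (2 ≤ a.2.2 → 4 * a.2.1 ≤ od a.2.1 * a.2.2) ∧ (1 ≤ a.2.1 → 2 * a.2.2 ≤ od a.2.1 * a.2.2) ∧
      (a.2.1 = 0 → a.2.2 % 2 = 1) ∧ od a.2.1 * a.2.2 ≤ 8 := fun a ha =>
    ⟨(hL a ha).1.1, Nat.le_mul_of_pos_left _ (od_pos _),
      by simpa using Nat.mul_le_mul (two_mul_le_od _) (hL a ha).1.1,
      fun h => by have := Nat.mul_le_mul (two_mul_le_od a.2.1) h; omega,
      fun h => Nat.mul_le_mul_right _ ((by omega : 2 ≤ 2 * a.2.1).trans (two_mul_le_od _)),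
      fun h => Nat.odd_iff.1 ((hL a ha).2 h), h8 ▸ le_oDim ha⟩
  have one : ∀ m, (∀ a ∈ L, a.1 ^ m = 1 ∧ a.2.2 ≤ 1) → OOne p L m := fun m h a ha =>
    ⟨(h a ha).1, 0, by simpa using (h a ha).2⟩
  have tor : ∀ {k M m : ℕ} {a}, a ∈ L → a.2.1 = 0 → Tor F k M → M ∣ m → a.1 ^ m = 1 :=
    fun ha h0 hM hm => pw (hM.pow_of_sq ((hL _ ha).1.sq h0)) hm
  have own : ∀ {m : ℕ} {a}, a ∈ L → oN a ∣ m → a.1 ^ m = 1 := fun ha hm =>
    pw (hL _ ha).1.pow_oN hm
  by_cases c4 : ∃ a ∈ L, a.2.1 = 4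
  · obtain ⟨⟨z, k, e⟩, ha, rfl : k = 4⟩ := c4
    have := dim _ ha
    obtain rfl : e = 1 := by simp only at this; omega
    obtain rfl := hL.perm_single ha (by simp [h8, od])
    by_cases hz : z = -1
    · exact p22 fun m k1 _ => one m (by
        simpa using pw ((tor_add (k := 2) (by omega)).pow_of_sq (by simp [hz])) k1)
    have h3 := (hθ.eq_one_iff h2 hL (by simpa using hz)).1 rfl
    rw [oSp_cons, oSp_nil, mul_one, mul_one] at h3
    rcases oN_cases (z, 4, 1) with h4 | h4 <;> rw [h4] at h3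
    · exact (affS_single p h2 hD (k := 2) (by omega) hn hd).of_dvd
        (H _ (one _ (by simpa using h3)))
    · refine p22 fun m k1 k2 => one m (List.forall_mem_singleton.2 ⟨pw h3 ?_, le_rfl⟩)
      have h5 : (Nat.card F ^ 4 - 1) / 2 = (2 * (u * u + u) + 1) * (Nat.card F ^ 2 - 1) := by
        rw [show 4 = 2 * 2 from rfl, pow_mul, e2, Nat.add_sub_cancel, show (4 * (u * u + u) + 1) ^ 2 =
          2 * ((2 * (u * u + u) + 1) * (4 * (u * u + u))) + 1 by ring, Nat.add_sub_cancel,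
          Nat.mul_div_cancel_left _ two_pos]
      rw [show ((z, 4, 1) : _ × ℕ × ℕ).2.1 = 4 from rfl, h5]
      refine Nat.Coprime.mul_dvd_of_dvd_of_dvd ?_ (Dvd.dvd.trans ⟨2, by omega⟩ k1) k2
      rw [e2, Nat.add_sub_cancel, show 4 * (u * u + u) = 2 * (2 * (u * u + u)) by ring]
      exact Nat.Coprime.mul_right (by simp) (by simp)
  by_cases c3 : ∃ a ∈ L, a.2.1 = 3
  · obtain ⟨a, ha, h3⟩ := c3
    have h4 : ∀ M m, Tor F 1 M → oN a ∣ m → Nat.card F ^ 1 + 1 ∣ m → Nat.card F ^ 1 - 1 ∣ m →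
        OOne p L m := fun M m hM k0 k1 k2 => one m fun b hb => by
      have := dim a ha
      have := dim b hb
      by_cases hab : b = a
      · subst hab; exact ⟨own hb k0, by omega⟩
      have := add_le_oDim hb ha hab
      refine ⟨(Nat.eq_zero_or_pos b.2.1).elim (fun h => tor hb h (tor_add le_rfl) k1) fun h =>
        own hb ?_, by omega⟩
      rcases oN_cases b with h5 | h5 <;> rwa [h5, show b.2.1 = 1 by omega]
    rcases oN_cases a with h5 | h5 <;> rw [h3] at h5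
    · exact affS_pair p h2 hD (tor_add (k := 3) (by omega)) (tor_sub (k := 1) le_rfl) hn
        (sgn _ (by rw [Nat.odd_iff, pow_one]; omega)) fun m k1 k2 => H m (h4 _ m (tor_add le_rfl)
          (h5 ▸ k1) ((pow_add_one_dvd_add (k := 1) (u := 3) (by decide)).trans k1) k2)
    · exact affS_pair p h2 hD (tor_sub (k := 3) (by omega)) (tor_add (k := 1) le_rfl) hn
        (sgn _ (by rw [Nat.odd_iff, pow_one]; omega)) fun m k1 k2 => H m (h4 _ m (tor_add le_rfl)
          (h5 ▸ k1) k2 ((pow_sub_one_dvd (one_dvd 3)).trans k1))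
  have small : ∀ m, Nat.card F ^ 2 - 1 ∣ m → ∀ a ∈ L, a.2.1 ≤ 1 → a.1 ^ m = 1 := fun m h a ha h' =>
    pw ((hL a ha).1.pow_eq_one (l := 2) (by omega)
      ((Nat.le_one_iff_eq_zero_or_eq_one.1 h').imp_right fun h => by rw [h])) h
  push Not at c4 c3
  have rk : ∀ a ∈ L, a.2.1 ≤ 2 := fun a ha => by
    have := dim a ha; have := c4 a ha; have := c3 a ha; omega
  by_cases c1 : ∀ a ∈ L, a.2.2 ≤ 1
  · refine p22 fun m k1 k2 => one m fun a ha => ⟨?_, c1 a ha⟩
    rcases (rk a ha).eq_or_lt with h | h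
    · exact own ha (by rcases oN_cases a with h5 | h5 <;> rwa [h5, h])
    · exact small m k2 a ha (by omega)
  push Not at c1
  obtain ⟨b, hb, hb'⟩ := c1
  have db := dim b hb
  by_cases c2 : ∃ a ∈ L, a.2.1 = 2
  · obtain ⟨a, ha, h3⟩ := c2
    have da := dim a ha
    obtain ⟨M, hM, hM'⟩ : ∃ M, Tor F 1 M ∧ (b.2.1 = 1 → oN b = M) := (em (b.2.1 = 1)).elim
      (fun h => ⟨_, tor_oN h le_rfl, fun _ => rfl⟩) fun h => ⟨_, tor_add le_rfl, fun h' => absurd h' h⟩
    refine affS_big_two p h2 hD (tor_oN h3 (by omega)) hM (d := 3) (by decide) le_rfl (by omega)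
      fun m k1 k2 ⟨j, k3, k4⟩ => H m fun c hc => ?_
    have dc := dim c hc
    by_cases hca : c = a
    · subst hca
      exact ⟨own hc k1, j, le_trans (by rw [h3, od_succ] at dc; omega) k3, k4⟩
    have h4 := List.perm_cons_erase ha
    have h5 := oDim_perm h4
    have h6 := add_le_oDim hc ha hca
    refine ⟨?_, j, le_trans (by omega) k3, k4⟩
    by_cases h7 : c.2.1 = 0
    · exact tor hc h7 hM k2
    by_cases hba : b = a
    · subst hba; omega
    by_cases hcb : c = b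
    · subst hcb; exact own hc (hM' (by omega) ▸ k2)
    have := add_le_oDim ((List.mem_erase_of_ne hca).2 hc) ((List.mem_erase_of_ne hba).2 hb) hcb
    rw [oDim_cons] at h5
    omega
  push Not at c2
  have rk1 : ∀ a ∈ L, a.2.1 ≤ 1 := fun a ha => by have := rk a ha; have := c2 a ha; omega
  by_cases cp : ∀ a ∈ L, a.2.2 ≤ p
  · refine affS_big_two p h2 hD (tor_sub (k := 2) (by omega)) (tor_add le_rfl) (d := 3) (by decide)
      le_rfl (by omega) fun m k1 _ ⟨j, k3, k4⟩ => H m fun c hc =>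
        ⟨small m k1 c hc (rk1 c hc), j, (cp c hc).trans (Nat.le_self_pow ?_ _), k4⟩
    rintro rfl
    simp at k3
  push Not at cp
  obtain ⟨c, hc, hc'⟩ := cp
  have dc := dim c hc
  obtain rfl | rfl : p = 3 ∨ p = 5 := by
    have := hp.out.eq_two_or_odd
    omega
  · refine affS_big_two 3 h2 hD (tor_sub le_rfl) (tor_add le_rfl) (d := 5) (by decide)
      (by omega) (by omega) fun m k1 k2 ⟨j, k3, k4⟩ => H m fun a ha => ⟨?_, j, ?_, k4⟩
    · rcases (rk1 a ha).eq_or_lt with h | h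
      · exact own ha (by rcases oN_cases a with h5 | h5 <;> rwa [h5, h])
      · exact tor ha (by omega) (tor_add le_rfl) k2
    · have := dim a ha
      have : 3 ^ 2 ≤ 3 ^ j := Nat.pow_le_pow_right (by omega) (by
        by_contra h; interval_cases j <;> omega)
      omega
  · have h3 : OVal Odd [((-1 : (Kb F)ˣ), 0, 1)] := by simp [OVal, OV]
    obtain ⟨θ, h4⟩ := h3.qRe h2
    refine affS_big 5 h2 hD (oVal_append.2 ⟨h3, h3⟩) (by simp [oDet]) (h4.flex h2 odd_one 1)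
      (d := 7) (by decide) (by omega) (by simp [oDim, od, hn]) fun m hm ⟨j, k3, k4⟩ =>
        H m fun a ha => ?_
    have da := dim a ha
    have h5 : a.2.1 = 0 := by
      by_cases hac : a = c
      · subst hac; omega
      · have := add_le_oDim ha hc hac; omega
    rw [(eq_one_or_neg_one ((hL a ha).1.sq h5)).resolve_left (h1 a ha)]
    exact ⟨(hm (-1, 0, 1) (by simp)).1, j, by omega, k4⟩

include p in
theorem main (h2 : (2 : F) ≠ 0) (hD : D.Nondeg) (hn : finrank F V = 8) (hd : disc hD = -1) :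
    N ∈ Set.range (orderOf : POmega F (quadFormOdd 4 F) → ℕ) ↔
      AffS ((nat D).comp (commutator D.isom).subtype) N := by
  have h9 : finrank F (Unit ⊕ (Fin 4 ⊕ Fin 4) → F) = 9 := finrank_odd 4
  constructor
  · rintro ⟨g, rfl⟩
    obtain ⟨L, hL, k1, k2, k3, k4⟩ := pOmega_analysis p (Q := quadFormOdd 4 F) (fOdd_nondeg h2 4) rfl
      (by omega) h2 g
    obtain ⟨L1, d, h1, h3, ⟨u, hu⟩, h4, h5, h6, h7, h8⟩ := omega_nf (p := p) h2 hL k2 k3
    have key : ∀ m, OOne p L1 m → (∃ j, d ≤ p ^ j ∧ p ^ j ∣ m) → orderOf g ∣ m :=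
      fun m hm ⟨j, e1, e2⟩ => (k4 m).2 (OOne.oCond fun a ha => (em (a.1 = 1)).elim
        (fun h => ⟨by rw [h, one_pow], j, (h7 a ha h).trans e1, e2⟩) (h8 m hm a ha))
    by_cases hd1 : d = 1
    · exact core p h2 hD hn hd h1 (by omega) h5 h6 fun m hm => key m hm ⟨0, by simp [hd1]⟩
    · exact affS_big p h2 hD h1 h4 h5 (d := d) (by rw [Nat.odd_iff]; omega) (by omega) (by omega) key
  · rintro ⟨g, hg⟩
    obtain ⟨L, hL, k1, k2, k3⟩ := omega_analysis hD h2 g.2
    obtain ⟨L1, d, h1, h3, ⟨u, hu⟩, h4, h5, h6, h7, h8⟩ := omega_nf (p := p) h2 hL k2 k3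
    have h10 := k1.finrank hL
    have h11 : Odd (d + 1) := by rw [Nat.odd_iff]; omega
    have h12 : OVal Odd (L1 ++ [(1, 0, d + 1)]) := oVal_append.2 ⟨h1, by simp [OVal, OV, h11]⟩
    obtain ⟨k, hk⟩ := pOmega_synthesis p (Q := quadFormOdd 4 F) (fOdd_nondeg h2 4) rfl (by omega)
      h12 ((h5.fill_reg h1 (fOdd_nondeg h2 4) (by omega) (by omega) (.inr h11)).exists_mem h2 h12
        (by simp [oDet_append, h4, oDet_cons, oDet_nil]))
    have h13 := ((hk _).1 dvd_rfl).oOne (a := (1, 0, d + 1)) (by simp) rfl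
    obtain ⟨-, j, e1, e2⟩ := h13 (1, 0, d + 1) (by simp)
    refine exists_orderOf_of_dvd (g := k) (AffS.dvd p hL k1 hg ⟨fun a ha => (em (a.1 = 1)).elim
      (fun h => ⟨by rw [h, one_pow], j, (h7 a ha h).trans (Nat.le_of_succ_le e1), e2⟩)
      (h8 _ (h13.mono (by simp)) a ha), fun a ha h => ⟨j, (h7 a ha h).trans_lt e1, e2⟩⟩)

/-- Let F be a finite field of odd order q, let Ω₉ be the simple orthogonal group PΩ(9, F), and let Ω₈⁻ be the commutator subgroup of the isometry group of a minus-type non-singular quadratic form on V = F⁸ (the simple group PΩ⁻(8, F), acting on its natural module V). Then Ω₉ and the semidirect product V ⋊ Ω₈⁻ have exactly the same set of element orders. -/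
theorem result {F : Type*} [Field F] [Fintype F] (hF : Odd (Fintype.card F)) (a b : F)
    (hab : ∀ z₁ z₂ : F, z₁ ^ 2 + a * z₁ * z₂ + b * z₂ ^ 2 = 0 → z₁ = 0 ∧ z₂ = 0) :
    Set.range (orderOf : Cfsg.POmega F (Cfsg.quadFormOdd 4 F) → ℕ) =
      Set.range (orderOf :
        (Multiplicative (((Fin 3 ⊕ Fin 3) ⊕ Fin 2) → F)) ⋊[
          (MulAutMultiplicative (((Fin 3 ⊕ Fin 3) ⊕ Fin 2) → F)).symm.toMonoidHom.comp
           ((DistribMulAction.toAddAut (LinearMap.GeneralLinearGroup F (((Fin 3 ⊕ Fin 3) ⊕ Fin 2) → F))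
              (((Fin 3 ⊕ Fin 3) ⊕ Fin 2) → F)).comp
            (Matrix.GeneralLinearGroup.toLin.toMonoidHom.comp
              ((Cfsg.isometryGroup F (Cfsg.quadFormMinus 3 F a b)).subtype.comp
                (Cfsg.Omega F (Cfsg.quadFormMinus 3 F a b)).subtype)))]
          ↥(Cfsg.Omega F (Cfsg.quadFormMinus 3 F a b)) → ℕ) := by
  rw [← Nat.card_eq_fintype_card] at hF
  haveI hp := Cfsg.Lib.Known.fact_prime_ringChar F
  have h2 := odd_card_iff.1 hF
  have hD := fMinus_nondeg 3 hab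
  ext N
  rw [main (ringChar F) h2 hD (finrank_minus 3) (disc_minus (k := 2) h2 hD (finrank_minus 3)
    (fMinus_not_hasTS 3 hab)), mem_aff_spec (((nat _).comp (commutator _).subtype).comp
      (omegaIso (fMinus 3 a b) (Q := quadFormMinus 3 F a b) rfl).toMonoidHom) fun _ _ => rfl]
  exact (AffS.congr _ (omegaIso (fMinus 3 a b) (Q := quadFormMinus 3 F a b) rfl) fun _ => rfl).symm

end Cfsg.Agent.S2517
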