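import Cfsg.Statements.S2518
import Cfsg.Agent.Lib.Comp.G23x.C7
import Cfsg.Agent.Lib.Comp.G23x.C13
import Cfsg.Agent.Lib.Comp.G23x.Mat
import Cfsg.Agent.Lib.Known.PSL2
import Cfsg.Agent.Lib.Linear.Card
-- import your own Cfsg.Agent.* helpers here

set_option autoImplicit false
open Cfsg

namespace Cfsg.Agent.S2518

open Cfsg.Lib.Comp Cfsg.Lib.Known Cfsg.Lib.Linear

theorem six : ∃ x : cl (gp G23x.nets) G23x.L, orderOf x = 6 := by
  refine ⟨⟨ev (gp G23x.nets) [1,8], ev_mem fun x hx => mem_cl (by revert x; decide)⟩, ?_⟩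
  rw [← Subgroup.orderOf_coe]
  show orderOf (ev (gp G23x.nets) [1,8]) = 6
  have h6 : ev (gp G23x.nets) [1,8] ^ (5 + 1) = ev (gp G23x.nets) [] :=
    eq_of_eqB (k := 9) G23x.nets_ok (by norm_num) (by decide +kernel)
  have h2 : ev (gp G23x.nets) ([1,8] ++ [1,8]) ≠ ev (gp G23x.nets) [] :=
    ne_of_wap (tbA_pt G23x.nets_ok) (p := 316) (by decide +kernel)
  have h3 : ev (gp G23x.nets) ([1,8] ++ ([1,8] ++ [1,8])) ≠ ev (gp G23x.nets) [] :=
    ne_of_wap (tbA_pt G23x.nets_ok) (p := 316) (by decide +kernel)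
  simp only [ev_append, ev_nil] at h2 h3 h6
  refine orderOf_eq_of_pow_and_pow_div_prime (by norm_num) h6 fun p hp hd => ?_
  rcases (Nat.Prime.dvd_mul hp (m := 2) (n := 3)).1 hd with h | h
  · rw [(Nat.prime_dvd_prime_iff_eq hp Nat.prime_two).1 h]
    simpa [pow_succ, mul_assoc] using h3
  · rw [(Nat.prime_dvd_prime_iff_eq hp Nat.prime_three).1 h]
    simpa [pow_succ, mul_assoc] using h2

theorem not_prime {r s p : ℕ} (hr : r.Prime) (hs : s.Prime) (hp : p.Prime) : ¬ r * s ∣ p := fun h =>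
  (hp.eq_one_or_self_of_dvd _ h).elim (fun e => hr.ne_one (Nat.eq_one_of_mul_eq_one_right e))
    fun e => Nat.not_prime_mul hr.ne_one hs.ne_one (e ▸ hp)

theorem pr {r : ℕ} (hr : r.Prime) {a b : ℕ} : r ∣ 2 ^ (a + 1) * 3 ^ (b + 1) * 7 * 13 ↔ r = 2 ∨ r = 3 ∨ r = 7 ∨ r = 13 := by
  rw [hr.dvd_mul, hr.dvd_mul, hr.dvd_mul, hr.prime.dvd_pow_iff_dvd (by omega), hr.prime.dvd_pow_iff_dvd (by omega),
    Nat.prime_dvd_prime_iff_eq hr Nat.prime_two, Nat.prime_dvd_prime_iff_eq hr Nat.prime_three,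
    Nat.prime_dvd_prime_iff_eq hr (by norm_num), Nat.prime_dvd_prime_iff_eq hr (by norm_num)]
  tauto

/-- Let F₃ be the field with 3 elements and F₁₃ the field with 13 elements. The Chevalley group G₂(F₃) and PSL(2, F₁₃) have the same prime graph: the same prime divisors of their orders, and for distinct primes r, s an element of order rs in one iff in the other. -/
theorem result {F : Type*} [Field F] [Fintype F] (hF : Fintype.card F = 3) {E : Type*} [Field E] [Fintype E] (hE : Fintype.card E = 13) :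
    ((∀ r : ℕ, r.Prime → (r ∣ Nat.card ↥(Cfsg.Lie.chevG2.group F) ↔ r ∣ Nat.card (Matrix.ProjectiveSpecialLinearGroup (Fin 2) E))) ∧
      (∀ r s : ℕ, r.Prime → s.Prime → r ≠ s → ((∃ x : ↥(Cfsg.Lie.chevG2.group F), orderOf x = r * s) ↔ (∃ y : (Matrix.ProjectiveSpecialLinearGroup (Fin 2) E), orderOf y = r * s)))) := by
  obtain ⟨e⟩ := G23x.iso hF
  have hG : Nat.card (Cfsg.Lie.chevG2.group F) = 2 ^ (5 + 1) * 3 ^ (5 + 1) * 7 * 13 :=
    (Nat.card_congr e.toEquiv).symm.trans G23x.card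
  have hE' : Nat.card E = 13 := by rw [Nat.card_eq_fintype_card, hE]
  have hP : Nat.card (Matrix.ProjectiveSpecialLinearGroup (Fin 2) E) = 2 ^ (1 + 1) * 3 ^ (0 + 1) * 7 * 13 := by
    have := card_PSL_two (F := E)
    rw [hE'] at this
    norm_num at this ⊢
    omega
  have : Fact (Nat.Prime 13) := ⟨by norm_num⟩
  have : CharP E 13 := charP_of_card_eq_prime hE
  refine ⟨fun r hr => by rw [hG, hP, pr hr, pr hr], fun r s hr hs hrs => ?_⟩
  have h6 : r * s ∣ 6 → r * s = 6 := fun h => by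
    have h1 := Nat.le_of_dvd (by norm_num) h
    have h2 := hr.two_le
    have h3 := hs.two_le
    have h4 : r ≤ 3 := by nlinarith
    have h5 : s ≤ 3 := by nlinarith
    interval_cases r <;> interval_cases s <;> simp_all
  rw [PSL2_spectrum 13, hE']
  norm_num
  simp only [not_prime hr hs (by norm_num : Nat.Prime 13), not_prime hr hs (by norm_num : Nat.Prime 7), false_or, or_false]
  constructor
  · rintro ⟨x, hx, hx'⟩
    replace hx' : orderOf (⟨x, hx⟩ : Cfsg.Lie.chevG2.group F) = r * s := by rwa [← Subgroup.orderOf_coe]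
    have hd := orderOf_dvd_natCard (⟨x, hx⟩ : Cfsg.Lie.chevG2.group F)
    rw [hx', hG] at hd
    have h7 : ¬ 7 ∣ r * s := fun h => not_prime hr hs (by norm_num : Nat.Prime 7)
      (by rw [← hx'] at h ⊢; exact (G23x.ord7 e.symm h).dvd)
    have h13 : ¬ 13 ∣ r * s := fun h => not_prime hr hs (by norm_num : Nat.Prime 13)
      (by rw [← hx'] at h ⊢; exact (G23x.ord13 e.symm h).dvd)
    rcases (pr hr).1 ((dvd_mul_right r s).trans hd) with rfl | rfl | rfl | rfl <;>
      rcases (pr hs).1 ((dvd_mul_left s _).trans hd) with rfl | rfl | rfl | rfl <;> simp_all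
  · intro h
    obtain ⟨x, hx⟩ := six
    refine ⟨e x, (e x).2, ?_⟩
    rw [h6 h, ← hx, Subgroup.orderOf_coe, MulEquiv.orderOf_eq]

end Cfsg.Agent.S2518
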