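import Cfsg.Statements.S2519
import Cfsg.Agent.Lib.Chev.G2Ord

set_option autoImplicit false
open Cfsg Cfsg.Lie Cfsg.Lib.Chev Cfsg.Lib.Twist

namespace Cfsg.Agent.S2519

/-- Let F be a finite field of odd order q = p^a ≥ 5. The element orders of the Chevalley group G₂(F) that are maximal under divisibility are exactly p(q + 1), p(q − 1), q² − 1, q² + q + 1, q² − q + 1, together with p² when p is 3 or 5. -/
theorem result {F : Type*} [Field F] [Fintype F] (p a : ℕ) (hp : p.Prime) (hp2 : p ≠ 2) (ha : 1 ≤ a) (hF : Fintype.card F = p ^ a) (hq5 : 5 ≤ Fintype.card F) :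
    {n : ℕ | n ∈ Set.range (orderOf : ↥(Cfsg.Lie.chevG2.group F) → ℕ) ∧ ∀ m ∈ Set.range (orderOf : ↥(Cfsg.Lie.chevG2.group F) → ℕ), n ∣ m → m = n} =
      ({p * (p ^ a + 1), p * (p ^ a - 1), p ^ (2 * a) - 1, p ^ (2 * a) + p ^ a + 1, p ^ (2 * a) - p ^ a + 1} : Set ℕ) ∪
        (if p = 3 ∨ p = 5 then ({p ^ 2} : Set ℕ) else ∅) := by
  have := Fact.mk hp
  have := charP_of_card_eq_prime_pow hF
  obtain ⟨x, hx⟩ : ∃ x, Fintype.card F = x + 1 := ⟨_, (Nat.succ_pred_eq_of_pos Fintype.card_pos).symm⟩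
  have h1 := G2.exists_orderOf p hx
  simp only [List.forall_mem_cons] at h1
  rw [pow_mul', ← hF, hx, show (x + 1) ^ 2 - 1 = x ^ 2 + 2 * x from Nat.sub_eq_of_eq_add (by ring),
    show (x + 1) ^ 2 - (x + 1) + 1 = x ^ 2 + x + 1 from congrArg (· + 1) (Nat.sub_eq_of_eq_add (by ring)),
    show (x + 1) ^ 2 + (x + 1) + 1 = x ^ 2 + 3 * x + 3 by ring, Nat.add_sub_cancel]
  refine max_eq ?_ ?_ ?_
  · rintro _ ⟨g, rfl⟩
    rcases G2.orderOf_cases p hx g with h | h | h | h | h | ⟨h, -⟩ | ⟨h, h'⟩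
    exacts [⟨_, by simp, h⟩, ⟨_, by simp, h⟩, ⟨_, by simp, h⟩, ⟨_, by simp, h⟩, ⟨_, by simp, h⟩, absurd h hp2, ⟨_, by simp [h], h'⟩]
  · rintro _ ((rfl | rfl | rfl | rfl | rfl) | h)
    exacts [h1.1, h1.2.1, h1.2.2.1, h1.2.2.2.1, h1.2.2.2.2.1, by
      split_ifs at h with h2
      · rcases h2 with rfl | rfl <;> rw [h]
        exacts [G2.exists_small 3 (by norm_num) G2.ord9, G2.exists_small 5 (by norm_num) G2.ord25]
      · exact h.elim]
  · have h4 : 4 ≤ x := by omega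
    have key : ∀ a ∈ ({p * (x + 1 + 1), p * x, x ^ 2 + 2 * x, x ^ 2 + 3 * x + 3, x ^ 2 + x + 1} ∪ if p = 3 ∨ p = 5 then {p ^ 2} else ∅ : Set ℕ),
        ∃ i m, a = p ^ i * m ∧ m.Coprime p ∧ (i = 1 ∧ (m = x + 2 ∨ m = x) ∨ i = 0 ∧ (m = x ^ 2 + 2 * x ∨ m = x ^ 2 + 3 * x + 3 ∨ m = x ^ 2 + x + 1) ∨
          i = 2 ∧ m = 1) := by
      rintro _ ((rfl | rfl | rfl | rfl | rfl) | h)
      · exact ⟨1, x + 2, by ring, coprime_of_card (K := F) p 1 (-1) (by rw [hx]; push_cast; ring), by simp⟩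
      · exact ⟨1, x, by ring, coprime_of_card (K := F) p (-1) 1 (by rw [hx]; push_cast; ring), by simp⟩
      · exact ⟨0, x ^ 2 + 2 * x, by ring, coprime_of_card (K := F) p (-1) (x + 1) (by rw [hx]; push_cast; ring), by simp⟩
      · exact ⟨0, x ^ 2 + 3 * x + 3, by ring, coprime_of_card (K := F) p 1 (-x - 2) (by rw [hx]; push_cast; ring), by simp⟩
      · exact ⟨0, x ^ 2 + x + 1, by ring, coprime_of_card (K := F) p 1 (-x) (by rw [hx]; push_cast; ring), by simp⟩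
      · split_ifs at h
        exacts [⟨2, 1, h.trans (mul_one _).symm, Nat.coprime_one_left _, by simp⟩, h.elim]
    intro a ha b hb hab
    obtain ⟨i, m, rfl, a1, a2⟩ := key a ha
    obtain ⟨j, n, rfl, b1, b2⟩ := key b hb
    have c1 := (a1.pow_right j).dvd_of_dvd_mul_left ((dvd_mul_left _ _).trans hab)
    have c2 := (Nat.pow_dvd_pow_iff_le_right hp.one_lt).1 ((b1.symm.pow_left i).dvd_of_dvd_mul_right ((dvd_mul_right _ _).trans hab))
    have c3 : 0 < n := by rcases b2 with ⟨-, rfl | rfl⟩ | ⟨-, rfl | rfl | rfl⟩ | ⟨-, rfl⟩ <;> positivity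
    have c4 := Nat.le_of_dvd c3 c1
    have c5 : n < 2 * m → n = m := fun h => Nat.eq_of_dvd_of_lt_two_mul c3.ne' c1 h
    have : 4 * x ≤ x ^ 2 := by nlinarith
    rcases a2 with ⟨rfl, rfl | rfl⟩ | ⟨rfl, rfl | rfl | rfl⟩ | ⟨rfl, rfl⟩ <;> rcases b2 with ⟨rfl, rfl | rfl⟩ | ⟨rfl, rfl | rfl | rfl⟩ | ⟨rfl, rfl⟩ <;>
      first | rfl | omega

end Cfsg.Agent.S2519
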