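import Cfsg.Statements.S2520
import Cfsg.Agent.Lib.Chev.G2Ord

set_option autoImplicit false
open Cfsg Cfsg.Lie Cfsg.Lib.Chev Cfsg.Lib.Twist

namespace Cfsg.Agent.S2520

/-- Let F be a finite field with q = 2^a ≥ 4 elements and G₂(F) the Chevalley group of type G₂ over it. Every element order of G₂(F) maximal under divisibility lies in the set {8, 12, 2(q + 1), 2(q − 1), q² − 1, q² + q + 1, q² − q + 1}, and every member of that set is an element order of G₂(F). -/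
theorem result {F : Type*} [Field F] [Fintype F] (a : ℕ) (ha : 2 ≤ a) (hF : Fintype.card F = 2 ^ a) :
    {n : ℕ | n ∈ Set.range (orderOf : ↥(Cfsg.Lie.chevG2.group F) → ℕ) ∧ ∀ m ∈ Set.range (orderOf : ↥(Cfsg.Lie.chevG2.group F) → ℕ), n ∣ m → m = n} ⊆ ({8, 12, 2 * (2 ^ a + 1), 2 * (2 ^ a - 1), 2 ^ (2 * a) - 1, 2 ^ (2 * a) + 2 ^ a + 1, 2 ^ (2 * a) - 2 ^ a + 1} : Set ℕ) ∧
    ({8, 12, 2 * (2 ^ a + 1), 2 * (2 ^ a - 1), 2 ^ (2 * a) - 1, 2 ^ (2 * a) + 2 ^ a + 1, 2 ^ (2 * a) - 2 ^ a + 1} : Set ℕ) ⊆ Set.range (orderOf : ↥(Cfsg.Lie.chevG2.group F) → ℕ) := by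
  have := charP_of_card_eq_prime_pow hF
  obtain ⟨x, hx⟩ : ∃ x, Fintype.card F = x + 1 := ⟨_, (Nat.succ_pred_eq_of_pos Fintype.card_pos).symm⟩
  have h1 := G2.exists_orderOf 2 hx
  simp only [List.forall_mem_cons] at h1
  rw [pow_mul', ← hF, hx, show (x + 1) ^ 2 - 1 = x ^ 2 + 2 * x from Nat.sub_eq_of_eq_add (by ring),
    show (x + 1) ^ 2 - (x + 1) + 1 = x ^ 2 + x + 1 from congrArg (· + 1) (Nat.sub_eq_of_eq_add (by ring)),
    show (x + 1) ^ 2 + (x + 1) + 1 = x ^ 2 + 3 * x + 3 by ring, Nat.add_sub_cancel]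
  refine (and_iff_right_of_imp (max_subset ?_)).2 ?_
  · rintro _ ⟨g, rfl⟩
    rcases G2.orderOf_cases 2 hx g with h | h | h | h | h | ⟨-, h | h⟩ | ⟨h, -⟩
    exacts [⟨_, by simp, h⟩, ⟨_, by simp, h⟩, ⟨_, by simp, h⟩, ⟨_, by simp, h⟩, ⟨_, by simp, h⟩, ⟨_, by simp, h⟩, ⟨_, by simp, h⟩, by omega]
  · rintro _ (rfl | rfl | rfl | rfl | rfl | rfl | rfl)
    exacts [G2.exists_small 2 (by norm_num) G2.ord8, G2.exists_small 2 (by norm_num) G2.ord12, h1.1, h1.2.1, h1.2.2.1, h1.2.2.2.1, h1.2.2.2.2.1]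

end Cfsg.Agent.S2520
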