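import Cfsg.Statements.S2521


set_option autoImplicit false
open Cfsg

namespace Cfsg.Agent.S2521





/-- Let B be a finite group that is the semidirect product of a nilpotent normal subgroup U by an abelian subgroup T (U ∩ T = 1, UT = B), and let t ∈ T have centralizer exactly T. Then every element of the coset tU is conjugate to t in B: for each u ∈ U there is b ∈ B with b t b⁻¹ = t u. -/
theorem result {B : Type*} [Group B] [Finite B] (U T : Subgroup B) [U.Normal] (hU : Group.IsNilpotent ↥U) (hT : IsMulCommutative ↥T)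
    (hcompl : Subgroup.IsComplement' U T) (t : B) (ht : t ∈ T) (hreg : Subgroup.centralizer ({t} : Set B) = T) (u : B) (hu : u ∈ U) :
    ∃ b : B, b * t * b⁻¹ = t * u := by
  let f : U → U := fun x => ⟨t⁻¹ * x * t * (x : B)⁻¹, mul_mem (by
    simpa using (inferInstance : U.Normal).conj_mem _ x.2 t⁻¹) (inv_mem x.2)⟩
  have hf : Function.Injective f := fun x y h => by
    have h1 : t⁻¹ * x * t * (x : B)⁻¹ = t⁻¹ * y * t * (y : B)⁻¹ := congrArg Subtype.val h
    have h2 : (y : B)⁻¹ * x ∈ T := hreg ▸ Subgroup.mem_centralizer_singleton_iff.2 (by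
      calc (y : B)⁻¹ * x * t = (y : B)⁻¹ * t * (t⁻¹ * x * t * (x : B)⁻¹) * x := by group
        _ = _ := by rw [h1]; group)
    exact Subtype.ext (inv_mul_eq_one.1 ((Subgroup.disjoint_def.1 hcompl.disjoint)
      (mul_mem (inv_mem y.2) x.2) h2)).symm
  obtain ⟨x, hx⟩ := Finite.surjective_of_injective hf ⟨u, hu⟩
  exact ⟨x, by rw [← show t⁻¹ * x * t * (x : B)⁻¹ = u from congrArg Subtype.val hx]; group⟩

end Cfsg.Agent.S2521
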