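import Cfsg.Statements.S2522
import Cfsg.Agent.Lib.Linear.Lev

set_option autoImplicit false
open Cfsg

namespace Cfsg.Agent.S2522

open Matrix Cfsg.Lib.Linear Cfsg.Lib.Linear.Lev Cfsg.Lib.Known

/-- Let K be a field with at least four elements (finite or infinite), n ≥ 3, and J ∈ GL(n, K) the regular unipotent matrix (ones on the diagonal and the superdiagonal, zeros elsewhere). Then every non-scalar g ∈ GL(n, K) with det g = 1 is a product of two GL(n, K)-conjugates of J. -/
theorem result {K : Type*} [Field K] (hK : 4 ≤ Cardinal.mk K) (n : ℕ) (hn : 3 ≤ n) (J g : GL (Fin n) K)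
    (hJ : ∀ i j : Fin n, (J : Matrix (Fin n) (Fin n) K) i j = if i = j then 1 else if j.val = i.val + 1 then 1 else 0)
    (hg : ¬ ∃ c : K, (g : Matrix (Fin n) (Fin n) K) = c • (1 : Matrix (Fin n) (Fin n) K))
    (hdet : (g : Matrix (Fin n) (Fin n) K).det = 1) :
    ∃ x y : GL (Fin n) K, g = (x * J * x⁻¹) * (y * J * y⁻¹) := by
  have hJ1 : (J : Matrix (Fin n) (Fin n) K) - 1 = shM n K := by
    ext i j
    rw [Matrix.sub_apply, hJ, one_apply, shM, of_apply]
    by_cases h : i = j
    · simp [h]
    · simp [h]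
  have hJr : Reg (toLin' (J : Matrix (Fin n) (Fin n) K)) := by
    have e : toLin' (J : Matrix (Fin n) (Fin n) K) - 1 = toLinAlgEquiv' (shM n K) := by
      rw [← hJ1, map_sub, map_one]; rfl
    refine ⟨e ▸ IsNilpotent.map ⟨n, shM_pow_eq_zero⟩ _, ?_⟩
    have := LinearMap.finrank_le_finrank_of_injective (f := LinearMap.proj (R := K) (φ := fun _ : Fin n => K)
      ⟨0, by omega⟩ ∘ₗ (LinearMap.ker (toLin' (J : Matrix (Fin n) (Fin n) K) - 1)).subtype)
      ((injective_iff_map_eq_zero _).2 fun y hy => Subtype.ext (funext fun i => by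
        by_cases h : i.val = 0
        · have : i = ⟨0, by omega⟩ := Fin.ext h
          rw [this]; exact hy
        · have h1 := congrFun ((LinearMap.congr_fun e y.1).symm.trans (LinearMap.mem_ker.1 y.2))
            ⟨i.val - 1, by omega⟩
          simp only [toLinAlgEquiv'_apply, mulVec, dotProduct, shM, of_apply] at h1
          rw [Finset.sum_eq_single i (fun j _ hj => by
            rw [if_neg fun e => hj (Fin.ext (by omega)), zero_mul]) (by simp), if_pos (by omega), one_mul] at h1
          exact h1))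
    simpa using this
  obtain ⟨B, C, h, hB, hC⟩ := two_reg (big_of_card hK) (by simpa using hn) hJr
    (S := toLin' (g : Matrix (Fin n) (Fin n) K)) (by rw [LinearMap.det_toLin', hdet])
    fun ⟨c, hc⟩ => hg ⟨c, toLin'.injective (LinearMap.ext fun y => by rw [hc]; simp)⟩
  obtain ⟨B, rfl⟩ := toLin'.surjective B
  obtain ⟨C, rfl⟩ := toLin'.surjective C
  obtain ⟨x, hx⟩ := sim_toLin'_iff.1 (hJr.sim hB rfl)
  obtain ⟨y, hy⟩ := sim_toLin'_iff.1 (hJr.sim hC rfl)
  refine ⟨x, y, Units.ext ?_⟩
  simp only [Units.val_mul]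
  rw [hx, hy, Units.mul_inv_cancel_right, Units.mul_inv_cancel_right]
  exact toLin'.injective (by rw [h, toLin'_mul]; rfl)

end Cfsg.Agent.S2522
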