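import Cfsg.Statements.S2523
import Cfsg.Agent.Lib.Pres.Thom
import Cfsg.Agent.Lib.Pres.ThomC

set_option autoImplicit false
open Cfsg Cfsg.Lib.Forms Cfsg.Lib.Pres

namespace Cfsg.Agent.S2523

/-- Let F be a finite field with at least 9 elements and let G be one of PSL(n, F) (n ≥ 2), PSp(2m, F) (m ≥ 2), PΩ(2m+1, F) (m ≥ 3, here q odd), PΩ⁺(2m, F) (m ≥ 4), or the Chevalley group of type G₂, F₄, E₆, E₇ or E₈ over F. Then G is the square of one of its conjugacy classes (Thompson's conjecture on products of conjugacy classes, not his conjecture on class sizes): there is a conjugacy class C of G with C·C = G, i.e. every element of G is a product of two elements of C. -/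
theorem result {F : Type*} [Field F] [Fintype F] (hF : 9 ≤ Fintype.card F) {G : Type*} [Group G] [Finite G]
    (hG : (∃ n : ℕ, 2 ≤ n ∧ Nonempty (G ≃* Matrix.ProjectiveSpecialLinearGroup (Fin n) F)) ∨
      (∃ m : ℕ, 2 ≤ m ∧ Nonempty (G ≃* Cfsg.PSp m F)) ∨
      (∃ m : ℕ, 3 ≤ m ∧ Odd (Fintype.card F) ∧ Nonempty (G ≃* Cfsg.POmega F (Cfsg.quadFormOdd m F))) ∨
      (∃ m : ℕ, 4 ≤ m ∧ Nonempty (G ≃* Cfsg.POmega F (Cfsg.quadFormPlus m F))) ∨
      Nonempty (G ≃* ↥(Cfsg.Lie.chevG2.group F)) ∨ Nonempty (G ≃* ↥(Cfsg.Lie.chevF4.group F)) ∨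
      Nonempty (G ≃* ↥(Cfsg.Lie.chevE6.group F)) ∨ Nonempty (G ≃* ↥(Cfsg.Lie.chevE7.group F)) ∨ Nonempty (G ≃* ↥(Cfsg.Lie.chevE8.group F))) :
    ∃ c : G, ∀ g : G, ∃ x y : G, g = (x * c * x⁻¹) * (y * c * y⁻¹) := by
  classical
  rcases hG with ⟨n, hn, ⟨e⟩⟩ | ⟨m, hm, ⟨e⟩⟩ | ⟨m, hm, hodd, ⟨e⟩⟩ | ⟨m, hm, ⟨e⟩⟩ | ⟨⟨e⟩⟩ | ⟨⟨e⟩⟩ | ⟨⟨e⟩⟩ | ⟨⟨e⟩⟩ | ⟨⟨e⟩⟩
  · obtain ⟨n, rfl⟩ : ∃ k, n = k + 2 := ⟨n - 2, by omega⟩
    exact (thom_A hF n).quot e
  · obtain ⟨n, rfl⟩ : ∃ n, m = n + 1 := ⟨m - 1, by omega⟩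
    have h := thom_C hF (Lib.Linear.frameC F (n + 1)) (Lib.Linear.stdE n True) (by omega) trivial
    rw [Symp.E_eq_top (fSymp_nondeg _)] at h
    exact h.quot (e.trans ((pspEquiv F _).trans (Lib.Linear.quotientCenterCongr Subgroup.topEquiv.symm)))
  · obtain ⟨n, rfl⟩ : ∃ n, m = n + 1 := ⟨m - 1, by omega⟩
    have h2 : (2 : F) ≠ 0 := Ring.two_ne_zero fun e => by
      have := FiniteField.even_card_of_char_two e
      rw [Nat.odd_iff] at hodd; omega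
    have h := thom_B hF (Lib.Linear.frameB F (n + 1)) (Lib.Linear.stdO n) (by omega) (o := Sum.inl ()) rfl
    rw [← (fOdd_nondeg h2 _).commutator_eq_E (Form.good_of_finrank (by simp; omega)) (by simp; omega)] at h
    exact h.quot (e.trans (pOmegaIso _ fOdd_Q))
  · obtain ⟨n, rfl⟩ : ∃ n, m = n + 2 := ⟨m - 2, by omega⟩
    have h := thom_D hF (Lib.Linear.frameD F (n + 2)) (Lib.Linear.stdE (n + 1) False) (by omega) id
      fun o => (Lib.Linear.wtE _ True).lg_ne trivial o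
    rw [← (fPlus_nondeg _).commutator_eq_E (Form.good_of_finrank (by simp; omega)) (by simp; omega)] at h
    exact h.quot (e.trans (pOmegaIso _ fPlus_Q))
  exacts [thom_G2 hF e, thom_F4 hF e, thom_E6 hF e, thom_E7 hF e, thom_E8 hF e]

end Cfsg.Agent.S2523
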