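import Cfsg.Statements.S2524
import Cfsg.Agent.Lib.Twist.WeilE

set_option autoImplicit false
open Cfsg Cfsg.Lib.Char

namespace Cfsg.Agent.S2524

/-- Let F be a finite field of odd order q and G = Sp(2n, F) with n ≥ 2. Then G has exactly four irreducible complex characters of degree (q^n + 1)/2 or (q^n − 1)/2 (two of each), and every other non-principal irreducible character has degree at least (q^n − 1)(q^n − q)/(2(q + 1)). -/
theorem result {F : Type*} [Field F] [Fintype F] (hodd : Odd (Fintype.card F)) (n : ℕ) (hn : 2 ≤ n) :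
    Nat.card {χ : Cfsg.IrrCharacter ↥(Matrix.symplecticGroup (Fin n) F) // (χ : ↥(Matrix.symplecticGroup (Fin n) F) → ℂ) 1 = (((Fintype.card F) ^ n + 1 : ℕ) : ℂ) / 2} = 2 ∧
    Nat.card {χ : Cfsg.IrrCharacter ↥(Matrix.symplecticGroup (Fin n) F) // (χ : ↥(Matrix.symplecticGroup (Fin n) F) → ℂ) 1 = (((Fintype.card F) ^ n - 1 : ℕ) : ℂ) / 2} = 2 ∧
    ∀ χ : Cfsg.IrrCharacter ↥(Matrix.symplecticGroup (Fin n) F),
      (χ : ↥(Matrix.symplecticGroup (Fin n) F) → ℂ) 1 ≠ 1 →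
      (χ : ↥(Matrix.symplecticGroup (Fin n) F) → ℂ) 1 ≠ (((Fintype.card F) ^ n + 1 : ℕ) : ℂ) / 2 →
      (χ : ↥(Matrix.symplecticGroup (Fin n) F) → ℂ) 1 ≠ (((Fintype.card F) ^ n - 1 : ℕ) : ℂ) / 2 →
      (((Fintype.card F) ^ n - 1 : ℕ) : ℝ) * (((Fintype.card F) ^ n - Fintype.card F : ℕ) : ℝ) / (2 * ((Fintype.card F : ℕ) + 1 : ℝ)) ≤ ‖(χ : ↥(Matrix.symplecticGroup (Fin n) F) → ℂ) 1‖ := by
  classical
  have hF : (2 : F) ≠ 0 := Ring.two_ne_zero fun h => by
    have := FiniteField.even_card_iff_char_two.1 h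
    rw [Nat.odd_iff] at hodd
    omega
  obtain ⟨a, b, χ₁, χ₂, χ₃, χ₄, ha, hb, h12, h34, e1, e2, e3, e4, hs, hb1, H⟩ :=
    Cfsg.Lib.Twist.Weil.weil_main hF hn
  rw [Nat.card_eq_fintype_card] at ha hb hs H
  let E := Cfsg.Lib.Forms.spEquiv F n
  let T : IrrCharacter (Cfsg.Lib.Forms.fSymp F n).isom ≃
      IrrCharacter (Matrix.symplecticGroup (Fin n) F) :=
    { toFun := fun χ => ⟨_, χ.2.comp_equiv E⟩
      invFun := fun χ => ⟨_, χ.2.comp_equiv E.symm⟩
      left_inv := fun χ => Subtype.ext (funext fun g => by simp)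
      right_inv := fun χ => Subtype.ext (funext fun g => by simp) }
  have hT : ∀ χ, (T χ).1 1 = χ.1 1 := fun χ => congrArg χ.1 (map_one E)
  have ha' : (((Fintype.card F) ^ n + 1 : ℕ) : ℂ) / 2 = a := by rw [← ha]; push_cast; ring
  have hb' : (((Fintype.card F) ^ n - 1 : ℕ) : ℂ) / 2 = b := by
    rw [← hb, Nat.add_sub_cancel]; push_cast; ring
  have hab : (a : ℂ) ≠ b := fun h => by norm_cast at h; omega
  have hN : 1 < Fintype.card F ^ n := Nat.one_lt_pow (by omega) Fintype.one_lt_card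
  rw [ha', hb']
  refine ⟨Nat.card_eq_two_iff.2 ⟨⟨T χ₁, (hT _).trans e1⟩, ⟨T χ₂, (hT _).trans e2⟩,
    fun h => h12 (T.injective (congrArg Subtype.val h)), Set.eq_univ_of_forall ?_⟩,
    Nat.card_eq_two_iff.2 ⟨⟨T χ₃, (hT _).trans e3⟩, ⟨T χ₄, (hT _).trans e4⟩,
    fun h => h34 (T.injective (congrArg Subtype.val h)), Set.eq_univ_of_forall ?_⟩, fun χ => ?_⟩
  · rintro ⟨χ, hχ⟩
    obtain ⟨χ, rfl⟩ := T.surjective χ
    have h1 := (hT χ).symm.trans hχ
    rcases H χ a h1 (by omega) (hs a le_rfl) with rfl | rfl | rfl | rfl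
    · exact .inl rfl
    · exact .inr rfl
    · exact absurd (h1.symm.trans e3) hab
    · exact absurd (h1.symm.trans e4) hab
  · rintro ⟨χ, hχ⟩
    obtain ⟨χ, rfl⟩ := T.surjective χ
    have h1 := (hT χ).symm.trans hχ
    rcases H χ b h1 hb1 (hs b (by omega)) with rfl | rfl | rfl | rfl
    · exact absurd (e1.symm.trans h1) hab
    · exact absurd (e2.symm.trans h1) hab
    · exact .inl rfl
    · exact .inr rfl
  · obtain ⟨χ, rfl⟩ := T.surjective χ
    obtain ⟨k, hk⟩ := χ.2.isCharacter.exists_nat_degree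
    rw [hT, hk]
    intro h1 h2 h3
    rw [Complex.norm_natCast, div_le_iff₀ (by positivity)]
    norm_cast
    by_contra! h4
    rcases H χ k hk (fun h => h1 (by simp [h])) h4 with rfl | rfl | rfl | rfl
    · exact h2 (hk.symm.trans e1)
    · exact h2 (hk.symm.trans e2)
    · exact h3 (hk.symm.trans e3)
    · exact h3 (hk.symm.trans e4)

end Cfsg.Agent.S2524
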