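import Cfsg.Statements.S2525
import Cfsg.Agent.Lib.Chev.F4Ord2
import Cfsg.Agent.S1062

set_option autoImplicit false
open Cfsg Cfsg.Lie Cfsg.Lib.Chev Cfsg.Lib.Twist

namespace Cfsg.Agent.S2525

theorem arith {q r : ℕ} (hr : r.Prime) (h2 : r ≠ 2) (hq : q.Coprime r) (h : r ∣ q ^ 24 * (q ^ 2 - 1) * (q ^ 6 - 1) * (q ^ 8 - 1) * (q ^ 12 - 1)) :
    orderOf (q : ZMod r) ∈ [1, 2, 3, 4, 6, 8, 12] ∧ (((r : ℤ) ∣ q ^ 3 - 1 ↔ orderOf (q : ZMod r) ∈ [1, 3]) ∧ ((r : ℤ) ∣ q ^ 3 + 1 ↔ orderOf (q : ZMod r) ∈ [2, 6]) ∧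
      ((r : ℤ) ∣ q ^ 2 + 1 ↔ orderOf (q : ZMod r) = 4)) ∧ ((r : ℤ) ∣ (q ^ 3 - 1) * (q + 1) ↔ orderOf (q : ZMod r) ∈ [1, 2, 3]) ∧
      ((r : ℤ) ∣ (q ^ 3 + 1) * (q - 1) ↔ orderOf (q : ZMod r) ∈ [1, 2, 6]) ∧ ((r : ℤ) ∣ (q ^ 2 - 1) * (q ^ 2 + 1) ↔ orderOf (q : ZMod r) ∈ [1, 2, 4]) ∧
      ((r : ℤ) ∣ q ^ 4 + 1 ↔ orderOf (q : ZMod r) = 8) ∧ ((r : ℤ) ∣ q ^ 4 - q ^ 2 + 1 ↔ orderOf (q : ZMod r) = 12) := by
  have := Fact.mk hr
  have h0 : (q : ZMod r) ≠ 0 := fun h0 => hr.one_lt.ne' (hq.symm.eq_one_of_dvd ((ZMod.natCast_eq_zero_iff _ _).1 h0))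
  have h1 : 0 < q := Nat.pos_of_ne_zero (by rintro rfl; simp at h0)
  rw [← ZMod.natCast_eq_zero_iff] at h
  simp only [Nat.cast_mul, Nat.cast_pow, Nat.cast_sub (Nat.one_le_pow _ _ h1), Nat.cast_one, mul_eq_zero, pow_eq_zero_iff', h0, false_and, false_or] at h
  simp only [← ZMod.intCast_zmod_eq_zero_iff_dvd, Int.cast_mul, Int.cast_add, Int.cast_sub, Int.cast_pow, Int.cast_natCast, Int.cast_one, mul_eq_zero]
  have h3 : (2 : ZMod r) ≠ 0 := fun h => h2 ((Nat.prime_dvd_prime_iff_eq hr Nat.prime_two).1 ((ZMod.natCast_eq_zero_iff 2 r).1 h))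
  have h4 : (3 : ZMod r) = 0 → (q : ZMod r) ^ 2 = 1 := fun h => by
    obtain rfl := (Nat.prime_dvd_prime_iff_eq hr Nat.prime_three).1 ((ZMod.natCast_eq_zero_iff 3 r).1 h)
    exact ZMod.pow_card_sub_one_eq_one h0
  generalize (q : ZMod r) = a at *
  have b1 : ∀ n, a ^ n - 1 = 0 ↔ orderOf a ∣ n := fun n => by rw [sub_eq_zero, orderOf_dvd_iff_pow_eq_one]
  have b2 : ∀ n, a ^ n + 1 = 0 ↔ orderOf a ∣ 2 * n ∧ ¬ orderOf a ∣ n := fun n => by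
    rw [← b1, ← b1, pow_mul', ← one_pow 2, sq_sub_sq, mul_eq_zero, one_pow]
    exact ⟨fun h => ⟨.inl h, fun h' => h3 (by linear_combination h - h')⟩, fun h => h.1.resolve_right h.2⟩
  have b3 : a ^ 4 - a ^ 2 + 1 = 0 ↔ a ^ 6 + 1 = 0 ∧ ¬ a ^ 2 + 1 = 0 :=
    ⟨fun h => ⟨by linear_combination (a ^ 2 + 1) * h, fun h' => h3 (by linear_combination h' - h4 (by linear_combination h - (a ^ 2 - 2) * h'))⟩,
      fun h => (mul_eq_zero.1 (by linear_combination h.1)).resolve_left h.2⟩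
  have b4 := b1 1
  have b5 := b2 1
  rw [pow_one] at b4 b5
  simp only [b3, b4, b5, b1, b2] at h ⊢
  have b6 : orderOf a ≤ 12 := by rcases h with ((h | h) | h) | h <;> exact (Nat.le_of_dvd (by norm_num) h).trans (by norm_num)
  generalize orderOf a = e at h b6
  revert h; interval_cases e <;> decide


/-- Let F be a finite field with q = 2^n elements and G = F₄(F). For an odd prime r let e(r, q) be the multiplicative order of q modulo r. Two distinct primes r, s dividing the order of G are non-adjacent in the prime graph of G (no element of order rs) if and only if, up to swapping r and s, either r = 2 and e(s, q) ∈ {8, 12}, or r, s are both odd with k = e(r, q) < l = e(s, q) and one of: l ∈ {8, 12}; l = 6 and k ∈ {3, 4}; l = 4 and k = 3. -/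
theorem result {F : Type*} [Field F] [Fintype F] (n : ℕ) (hn : 1 ≤ n) (hF : Fintype.card F = 2 ^ n)
    (r s : ℕ) (hr : r.Prime) (hs : s.Prime) (hrs : r ≠ s) (hrG : r ∣ Nat.card ↥(Cfsg.Lie.chevF4.group F)) (hsG : s ∣ Nat.card ↥(Cfsg.Lie.chevF4.group F)) :
    (¬ ∃ x : ↥(Cfsg.Lie.chevF4.group F), orderOf x = r * s) ↔
      ((r = 2 ∧ orderOf ((Fintype.card F : ℕ) : ZMod s) ∈ ({8, 12} : Finset ℕ)) ∨ (s = 2 ∧ orderOf ((Fintype.card F : ℕ) : ZMod r) ∈ ({8, 12} : Finset ℕ)) ∨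
       (r ≠ 2 ∧ s ≠ 2 ∧
         ((orderOf ((Fintype.card F : ℕ) : ZMod r) < orderOf ((Fintype.card F : ℕ) : ZMod s) ∧ (orderOf ((Fintype.card F : ℕ) : ZMod s) ∈ ({8, 12} : Finset ℕ) ∨ (orderOf ((Fintype.card F : ℕ) : ZMod s) = 6 ∧ orderOf ((Fintype.card F : ℕ) : ZMod r) ∈ ({3, 4} : Finset ℕ)) ∨ (orderOf ((Fintype.card F : ℕ) : ZMod s) = 4 ∧ orderOf ((Fintype.card F : ℕ) : ZMod r) = 3))) ∨
          (orderOf ((Fintype.card F : ℕ) : ZMod s) < orderOf ((Fintype.card F : ℕ) : ZMod r) ∧ (orderOf ((Fintype.card F : ℕ) : ZMod r) ∈ ({8, 12} : Finset ℕ) ∨ (orderOf ((Fintype.card F : ℕ) : ZMod r) = 6 ∧ orderOf ((Fintype.card F : ℕ) : ZMod s) ∈ ({3, 4} : Finset ℕ)) ∨ (orderOf ((Fintype.card F : ℕ) : ZMod r) = 4 ∧ orderOf ((Fintype.card F : ℕ) : ZMod s) = 3)))))) := by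
  have := charP_of_card_eq_prime_pow hF
  have hG := Cfsg.Agent.S1062.result (F := F) rfl
  have h1 : ∀ r : ℕ, r.Prime → r ≠ 2 → r.Coprime 2 ∧ (Fintype.card F).Coprime r := fun r hr h =>
    ⟨(Nat.coprime_primes hr Nat.prime_two).2 h, hF ▸ ((Nat.coprime_primes Nat.prime_two hr).2 h.symm).pow_left n⟩
  have h2 : ∀ s : ℕ, s.Prime → s ≠ 2 → s ∣ Nat.card (chevF4.group F) → ((¬ ∃ x : chevF4.group F, orderOf x = s * 2) ↔ orderOf ((Fintype.card F : ℕ) : ZMod s) ∈ ({8, 12} : Finset ℕ)) := by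
    intro s hs h2 h3
    obtain ⟨a0, a1, a2, a3, a4, -⟩ := arith hs h2 (h1 s hs h2).2 (hG ▸ h3)
    refine ⟨fun h => by_contra fun h' => h (F4.exists_of_dvd' 2 (h1 s hs h2).1 rfl ?_), fun h ⟨g, hg⟩ => ?_⟩
    · rw [a1.1, a1.2.1, a1.2.2]
      generalize orderOf ((Fintype.card F : ℕ) : ZMod s) = e at a0 h'
      revert h'; revert e; decide
    · rcases F4.dvd_of_mul 2 g (h1 s hs h2).1 hg rfl with h4 | h4
      · rw [a2, a3, a4] at h4
        generalize orderOf ((Fintype.card F : ℕ) : ZMod s) = e at a0 h h4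
        revert h h4; revert e; decide
      · exact hs.one_lt.ne' (((h1 s hs h2).1.pow_right 3).eq_one_of_dvd h4)
  by_cases h3 : r = 2
  · subst h3; rw [mul_comm, h2 s hs hrs.symm hsG]; simp [hrs.symm]
  by_cases h4 : s = 2
  · subst h4; rw [h2 r hr hrs hrG]; simp [hrs]
  obtain ⟨a0, -, a1, a2, a3, a4, a5⟩ := arith hr h3 (h1 r hr h3).2 (hG ▸ hrG)
  obtain ⟨b0, -, b1, b2, b3, b4, b5⟩ := arith hs h4 (h1 s hs h4).2 (hG ▸ hsG)
  have h5 := Nat.Coprime.mul_left (h1 r hr h3).1 (h1 s hs h4).1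
  have h6 := F4.exists_of_dvd (K := F) 2 hr hs hrs h5 rfl
  simp only [List.forall_mem_cons, a1, a2, a3, a4, a5, b1, b2, b3, b4, b5] at h6
  have h8 : ∀ f : ℤ, (r * s : ℤ) ∣ f ↔ (r : ℤ) ∣ f ∧ (s : ℤ) ∣ f := fun f => ⟨fun h => ⟨(dvd_mul_right _ _).trans h, (dvd_mul_left _ _).trans h⟩,
    fun h => (Nat.isCoprime_iff_coprime.2 ((Nat.coprime_primes hr hs).2 hrs)).mul_dvd h.1 h.2⟩
  have h7 := fun h : ∃ x : chevF4.group F, orderOf x = r * s => F4.dvd_of_coprime 2 h.choose (h.choose_spec.symm ▸ h5) rfl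
  simp only [fun h : ∃ x : chevF4.group F, orderOf x = r * s => h.choose_spec, Nat.cast_mul, h8, a1, a2, a3, a4, a5, b1, b2, b3, b4, b5] at h7
  rw [show _ ↔ _ from ⟨h7, fun h => by rcases h with h | h | h | h | h; exacts [h6.1 h, h6.2.1 h, h6.2.2.1 h, h6.2.2.2.1 h, h6.2.2.2.2.1 h]⟩]
  simp only [h3, h4, false_and, false_or, ne_eq, not_false_eq_true, true_and]
  generalize orderOf ((Fintype.card F : ℕ) : ZMod r) = k at a0
  generalize orderOf ((Fintype.card F : ℕ) : ZMod s) = l at b0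
  revert l; revert k; decide

end Cfsg.Agent.S2525
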