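import Cfsg.Statements.S2531
import Mathlib.LinearAlgebra.Projectivization.Cardinality

set_option autoImplicit false
open Cfsg

namespace Cfsg.Agent.S2531

open Projectivization Finset

theorem card_proj (F V : Type*) [Field F] [AddCommGroup V] [Module F V] [Finite V] [Nontrivial V] :
    (Nat.card (Projectivization F V) : F) = 1 := by
  obtain ⟨v, hv⟩ := exists_ne (0 : V)
  have h : (Nat.card V : F) = 0 :=
    (smul_eq_zero.1 ((Nat.cast_smul_eq_nsmul F _ v).trans card_nsmul_eq_zero')).resolve_right hv
  have h' : (Nat.card F : F) = 0 := by simpa using card_nsmul_eq_zero' (x := (1 : F))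
  have h1 : 1 ≤ Nat.card F := by
    have := Finite.of_injective _ (smul_left_injective F hv)
    exact Nat.card_pos
  have := congrArg (Nat.cast : ℕ → F) (card' F V)
  rw [h] at this
  push_cast [h1, h'] at this
  linear_combination this

theorem card_pts {F V : Type*} [Field F] [AddCommGroup V] [Module F V] [Finite V] {U : Submodule F V} (hU : U ≠ ⊥) :
    (Nat.card {x : Projectivization F V // x.submodule ≤ U} : F) = 1 := by
  have := Submodule.nontrivial_iff_ne_bot.2 hU
  rw [← card_proj F U]
  refine congrArg _ (Nat.card_congr (Equiv.ofBijective (fun x : Projectivization F U =>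
    (⟨Projectivization.map U.subtype U.injective_subtype x, by
      induction x using ind with | h u hu => simp [map_mk]⟩ : {x : Projectivization F V // x.submodule ≤ U})) ⟨?_, ?_⟩)).symm
  · exact fun x y h => Projectivization.map_injective (τ := .id F) U.subtype U.injective_subtype (congrArg Subtype.val h)
  · rintro ⟨x, hx⟩
    induction x using ind with | h u hu =>
    exact ⟨Projectivization.mk F ⟨u, by simpa using hx⟩ (by simpa using hu), rfl⟩

/-- Let `F` be a finite field and `n ≥ 3`. No set of permutations of the points of the projective space of `Fⁿ`, each induced by an invertible semilinear transformation of `Fⁿ` (so a subset of the full projective semilinear group), is sharply 2-transitive on the points: it is impossible that for all pairs of distinct points `(a, b)` and `(c, d)` exactly one member of the set sends `a` to `c` and `b` to `d`. -/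
theorem result {F : Type*} [Field F] [Finite F]
    (n : ℕ) (hn : 3 ≤ n) (S : Set (Equiv.Perm (Projectivization F (Fin n → F))))
    (hS : ∀ s ∈ S, ∃ (σ : F ≃+* F) (f : (Fin n → F) →ₛₗ[(σ : F →+* F)] (Fin n → F)) (hf : Function.Injective f),
      ∀ x, s x = Projectivization.map f hf x) :
    ¬ (∀ a b c d : Projectivization F (Fin n → F), a ≠ b → c ≠ d →
        ∃! s, s ∈ S ∧ s a = c ∧ s b = d) := by
  classical
  intro h
  have := Fintype.ofFinite F
  have := Fintype.ofFinite (Projectivization F (Fin n → F))
  let i : Fin n := ⟨0, by omega⟩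
  let j : Fin n := ⟨1, by omega⟩
  have ij : i ≠ j := by simp [i, j]
  let α := mk F (Pi.single i (1 : F) : Fin n → F) (by simp)
  let T := univ.filter fun s => s ∈ S ∧ s α = α
  have key : ∀ x ≠ α, ∀ C : Finset _, α ∉ C → (T.filter fun s => s x ∈ C).card = C.card := fun x hx C hC => by
    refine card_nbij (fun s => s x) (fun s hs => by simpa using (mem_filter.1 hs).2) (fun s hs t ht e => ?_) fun y hy => ?_
    · simp only [T, coe_filter, mem_filter, mem_univ, true_and, Set.mem_ofPred_eq] at hs ht
      exact (h α x α (t x) hx.symm (by rintro c; exact hC (c ▸ ht.2))).unique ⟨hs.1.1, hs.1.2, e⟩ ⟨ht.1.1, ht.1.2, rfl⟩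
    · obtain ⟨s, a, -⟩ := h α x α y hx.symm (by rintro rfl; exact hC hy)
      exact ⟨s, by simpa [T, a] using hy, a.2.2⟩
  let W : Submodule F (Fin n → F) := LinearMap.ker (LinearMap.proj i)
  let B := univ.filter fun x : Projectivization F (Fin n → F) => x.submodule ≤ W
  have hα : α ∉ B := by simp [B, α, W]
  have hW : W ≠ ⊥ := (Submodule.ne_bot_iff _).2 ⟨Pi.single j 1, by simp [W, ij], by simp⟩
  have hB : (B.card : F) = 1 := by rw [← card_pts hW, Nat.card_eq_fintype_card, Fintype.card_subtype]
  have hT : (T.card : F) = 0 := by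
    obtain ⟨x, hx⟩ := card_ne_zero.1 (show B.card ≠ 0 by rintro e; simp [e] at hB)
    have x1 : x ≠ α := by rintro rfl; exact hα hx
    rw [← filter_true_of_mem (s := T) (p := fun s => s x ∈ univ.erase α) fun s hs => by
      simpa [← (mem_filter.1 hs).2.2 ▸ (rfl : α = α)] using fun e => x1 (s.injective (e.trans (mem_filter.1 hs).2.2.symm)),
      key x x1 _ (by simp), card_erase_of_mem (mem_univ _), card_univ, Nat.cast_sub (Fintype.card_pos_iff.2 ⟨α⟩), ← Nat.card_eq_fintype_card]
    have : Nontrivial (Fin n → F) := ⟨Pi.single j 1, 0, by simp⟩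
    rw [card_proj, Nat.cast_one, sub_self]
  have := sum_card_bipartiteAbove_eq_sum_card_bipartiteBelow (s := B) (t := T) fun x s => s x ∈ B
  simp only [bipartiteAbove, bipartiteBelow] at this
  rw [sum_congr rfl fun x hx => key x (by rintro rfl; exact hα hx) B hα] at this
  replace this := congrArg (Nat.cast : ℕ → F) this
  rw [Nat.cast_sum, Nat.cast_sum, sum_congr rfl (g := fun _ => 1) (s₁ := T) fun s hs => ?_] at this
  · simp [hB, hT] at this
  obtain ⟨σ, f, hf, e⟩ := hS s (mem_filter.1 hs).2.1
  have hU : W ⊓ W.comap f ≠ ⊥ := fun c => by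
    have := Fintype.card_le_of_injective (fun v : Fin n → F => (v i, f v i)) fun v w e => by
      rw [← sub_eq_zero, ← Submodule.mem_bot F, ← c]
      simpa [W, sub_eq_zero] using e
    rw [Fintype.card_prod, Fintype.card_fun, Fintype.card_fin, ← sq, Nat.pow_le_pow_iff_right Fintype.one_lt_card] at this
    omega
  rw [← card_pts hU, Nat.card_eq_fintype_card, Fintype.card_subtype, filter_filter]
  refine congrArg _ (congrArg _ (filter_congr fun x _ => ?_))
  induction x using ind with | h u hu => simp [B, e, map_mk]

end Cfsg.Agent.S2531
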