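import Cfsg.Statements.S2532

set_option autoImplicit false
open Cfsg

namespace Cfsg.Agent.S2532

open Equiv MulAction

/-- There is a function `f` of two natural-number arguments such that, whenever `m ≥ f(n, r)`, every subgroup of order `n` of the alternating group of degree `m` centralizes some subgroup of that alternating group isomorphic to the alternating group of degree `r`. -/
theorem result :
    ∃ f : ℕ → ℕ → ℕ, ∀ (m r : ℕ) (H : Subgroup ↥(alternatingGroup (Fin m))), f (Nat.card H) r ≤ m →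
      ∃ K : Subgroup ↥(alternatingGroup (Fin m)), Nonempty (↥K ≃* ↥(alternatingGroup (Fin r))) ∧
        K ≤ Subgroup.centralizer (H : Set ↥(alternatingGroup (Fin m))) := by
  classical
  refine ⟨fun n r => n * (2 ^ n * r), fun m r H hm => ?_⟩
  have := Fintype.ofFinite (orbitRel.Quotient H (Fin m))
  have := Fintype.ofFinite (Subgroup H)
  have := Fintype.ofFinite H
  have h1 : m ≤ Nat.card H * Fintype.card (orbitRel.Quotient H (Fin m)) := by
    have h := Nat.card_congr (selfEquivSigmaOrbits H (Fin m))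
    rw [Nat.card_sigma, Nat.card_fin] at h
    refine h.trans_le ?_
    rw [mul_comm, ← smul_eq_mul, ← Finset.card_univ]
    exact Finset.sum_le_card_nsmul _ _ _ fun x _ => Nat.card_le_card_of_surjective _ Set.rangeFactorization_surjective
  have h2 : Fintype.card (Subgroup H) ≤ 2 ^ Nat.card H := by
    rw [Nat.card_eq_fintype_card, ← Fintype.card_set]
    exact Fintype.card_le_of_injective _ SetLike.coe_injective
  obtain ⟨S, hS⟩ := Fintype.exists_le_card_fiber_of_mul_le_card (fun x : orbitRel.Quotient H (Fin m) => stabilizer H x.out) (n := r)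
    ((Nat.mul_le_mul_right _ h2).trans (Nat.le_of_mul_le_mul_left (hm.trans h1) Nat.card_pos))
  obtain ⟨x, hx⟩ := Function.Embedding.exists_of_card_le_finset ((Fintype.card_fin r).trans_le hS)
  have h3 : ∀ i, stabilizer H (x i).out = S := fun i => by simpa using hx ⟨i, rfl⟩
  let e : (H ⧸ S) × Fin r ↪ Fin m := ⟨fun p => p.1.out • (x p.2).out, fun ⟨a, i⟩ ⟨b, j⟩ h => by
    have h' : a.out • (x i).out = b.out • (x j).out := h
    obtain rfl : i = j := x.injective (Quotient.out_equiv_out.1 ⟨a.out⁻¹ * b.out, by simp [mul_smul, ← h']⟩)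
    refine Prod.ext (Quotient.out_equiv_out.1 (QuotientGroup.leftRel_apply.2 ?_)) rfl
    refine (h3 i).le ?_
    simp [mul_smul, ← h']⟩
  have h4 : ∀ (g : H) a i, g • e (a, i) = e (g • a, i) := fun g a i => by
    obtain ⟨k, hk⟩ := QuotientGroup.mk_out_eq_mul S (g * a.out)
    have : g • a = ((g * a.out : H) : H ⧸ S) := by
      conv_lhs => rw [← QuotientGroup.out_eq' a]
      rfl
    change g • a.out • (x i).out = (g • a).out • (x i).out
    rw [this, hk, mul_smul, mul_smul, show (k : H) • (x i).out = _ from (h3 i).ge k.2]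
  let ψ : Perm (Fin r) →* Perm ((H ⧸ S) × Fin r) :=
    { toFun σ := prodCongrRight fun _ => σ, map_one' := rfl, map_mul' _ _ := rfl }
  let φ := (Perm.viaEmbeddingHom e).comp (ψ.comp (alternatingGroup (Fin r)).subtype)
  have hφ : ∀ σ, φ σ ∈ alternatingGroup (Fin m) := fun σ => by
    have := Fintype.ofFinite (H ⧸ S)
    rw [Perm.mem_alternatingGroup]
    change Perm.sign (Perm.viaEmbedding (prodCongrRight fun _ => σ.1) e) = 1
    rw [Perm.viaEmbedding, Perm.sign_extendDomain, Perm.sign_prodCongrRight]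
    simp [Perm.mem_alternatingGroup.1 σ.2]
  have hi : Function.Injective (φ.codRestrict _ hφ) := fun σ τ h => by
    have h' : ψ σ.1 = ψ τ.1 := Perm.viaEmbeddingHom_injective e (congrArg Subtype.val h)
    exact Subtype.ext (Equiv.ext fun i => congrArg Prod.snd (DFunLike.congr_fun h' (((1 : H) : H ⧸ S), i)))
  refine ⟨_, ⟨(MonoidHom.ofInjective hi).symm⟩, ?_⟩
  rintro _ ⟨σ, rfl⟩ g hg
  refine Subtype.ext (Equiv.ext fun y => ?_)
  change (⟨g, hg⟩ : H) • (Perm.viaEmbedding (ψ σ.1) e) y = (Perm.viaEmbedding (ψ σ.1) e) ((⟨g, hg⟩ : H) • y)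
  by_cases hy : y ∈ Set.range e
  · obtain ⟨⟨a, i⟩, rfl⟩ := hy
    rw [h4, Perm.viaEmbedding_apply, Perm.viaEmbedding_apply]
    exact h4 _ _ _
  · rw [Perm.viaEmbedding_apply_of_notMem _ _ _ hy, Perm.viaEmbedding_apply_of_notMem]
    rintro ⟨⟨a, i⟩, h⟩
    exact hy ⟨(_, i), by rw [← h4, h, inv_smul_smul]⟩

end Cfsg.Agent.S2532
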