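import Cfsg.Statements.S2533

set_option autoImplicit false
open Cfsg

namespace Cfsg.Agent.S2533

open Matrix

/-- The generalized dihedral group of order `2 p ^ 3`. -/
@[ext] structure Dh (F : Type) where
  /-- translation part -/
  v : Fin 3 → F
  /-- sign -/
  s : ℤˣ

variable {F : Type} [Field F]

instance instGroupDh : Group (Dh F) where
  mul x y := ⟨x.v + x.s • y.v, x.s * y.s⟩
  one := ⟨0, 1⟩
  inv x := ⟨-(x.s⁻¹ • x.v), x.s⁻¹⟩
  mul_assoc x y z := Dh.ext (show (x.v + x.s • y.v) + (x.s * y.s) • z.v = x.v + x.s • (y.v + y.s • z.v) by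
    rw [smul_add, mul_smul, add_assoc]) (mul_assoc _ _ _)
  one_mul x := Dh.ext (show 0 + (1 : ℤˣ) • x.v = x.v by simp) (one_mul _)
  mul_one x := Dh.ext (show x.v + x.s • 0 = x.v by simp) (mul_one _)
  inv_mul_cancel x := Dh.ext (show -(x.s⁻¹ • x.v) + x.s⁻¹ • x.v = 0 by simp) (inv_mul_cancel _)

/-- `Dh` as a product. -/
def dhEquiv : Dh F ≃ (Fin 3 → F) × ℤˣ := ⟨fun x => (x.v, x.s), fun x => ⟨x.1, x.2⟩, fun _ => rfl, fun _ => rfl⟩

/-- The lower left block. -/
def NN (k : ℕ) (v : Fin 3 → F) : Matrix (Fin (k + 2 + 1)) (Fin (k + 2)) F :=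
  v 0 • (1 : Matrix _ _ F).submatrix id Fin.castSucc + v 1 • (1 : Matrix _ _ F).submatrix id Fin.succ +
    v 2 • single (Fin.last _) 0 1

/-- The representation. -/
def MM (k : ℕ) : Dh F →* Matrix (Fin (k + 2) ⊕ Fin (k + 2 + 1)) (Fin (k + 2) ⊕ Fin (k + 2 + 1)) F where
  toFun x := fromBlocks 1 0 (NN k x.v) (x.s • 1)
  map_one' := by
    rw [← fromBlocks_one]; congr 1
    · change NN k 0 = 0; simp [NN]
    · exact one_smul _ _
  map_mul' x y := by
    rw [fromBlocks_multiply]; congr 1
    · simp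
    · simp
    · change NN k (x.v + x.s • y.v) = _
      rcases Int.units_eq_one_or x.s with h | h <;> simp [NN, h, add_smul] <;> abel
    · change (x.s * y.s) • _ = _
      simp [smul_smul, mul_comm]

theorem toeplitz {k : ℕ} {D : Matrix (Fin (k + 1)) (Fin (k + 1)) F}
    (h1 : ∀ i j : Fin k, D i.castSucc j.castSucc = D i.succ j.succ) (h2 : ∀ j : Fin k, D (Fin.last k) j.castSucc = 0)
    (h3 : ∀ j : Fin k, D 0 j.succ = 0) (i j : Fin (k + 1)) : D i j = if i = j then D 0 0 else 0 := by
  have h : ∀ (t i j : ℕ) (hi : i + t < k + 1) (hj : j + t < k + 1),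
      D ⟨i + t, hi⟩ ⟨j + t, hj⟩ = D ⟨i, by omega⟩ ⟨j, by omega⟩ := fun t => by
    induction t with
    | zero => intros; rfl
    | succ t ih => exact fun i j hi hj => (h1 ⟨i + t, by omega⟩ ⟨j + t, by omega⟩).symm.trans (ih i j _ _)
  obtain ⟨i, hi⟩ := i
  obtain ⟨j, hj⟩ := j
  rcases lt_trichotomy i j with e | rfl | e
  · rw [if_neg (by simp; omega), ← h3 ⟨j - i - 1, by omega⟩]
    have := h i 0 (j - i - 1 + 1) (by omega) (by omega)
    simp only [zero_add, show j - i - 1 + 1 + i = j by omega] at this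
    exact this
  · rw [if_pos rfl]
    simpa using h i 0 0 (by omega) (by omega)
  · rw [if_neg (by simp; omega), ← h2 ⟨j + (k - i), by omega⟩, ← h (k - i) i j (by omega) (by omega)]
    congr 1; ext; simp; omega

theorem scalar_of_comm (h2 : (2 : F) ≠ 0) {k : ℕ} {G : Matrix (Fin (k + 2) ⊕ Fin (k + 2 + 1)) (Fin (k + 2) ⊕ Fin (k + 2 + 1)) F}
    (hG : G.det = 1) (h : ∀ x : Dh F, ∃ r : F, G * MM k x = r • (MM k x * G)) : ∃ c : F, G = c • 1 := by
  obtain ⟨r, hr⟩ := h ⟨0, -1⟩
  have hT : MM k (⟨0, -1⟩ : Dh F) = fromBlocks 1 0 0 (-1) := by simp [MM, NN]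
  have hu : IsUnit G.det := hG ▸ isUnit_one
  have h1 : r = 1 := by
    have := congrArg (fun M => trace (G⁻¹ * M)) hr
    simp only [← mul_assoc, nonsing_inv_mul _ hu, one_mul, Matrix.mul_smul, trace_smul] at this
    rw [trace_mul_cycle, mul_nonsing_inv _ hu, one_mul, hT] at this
    simp only [trace, Fintype.sum_sum_type, diag_apply, fromBlocks_apply₁₁, fromBlocks_apply₂₂, Matrix.neg_apply, one_apply_eq,
      Finset.sum_const, Finset.card_univ, Fintype.card_fin, nsmul_eq_mul, smul_eq_mul] at this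
    push_cast at this
    linear_combination this
  rw [← fromBlocks_toBlocks G] at hr hG h ⊢
  generalize G.toBlocks₁₁ = A at *
  generalize G.toBlocks₁₂ = B at *
  generalize G.toBlocks₂₁ = C at *
  generalize G.toBlocks₂₂ = D at *
  rw [h1, one_smul, hT, fromBlocks_multiply, fromBlocks_multiply, fromBlocks_inj] at hr
  obtain rfl : B = 0 := by
    have : (2 : F) • B = 0 := by rw [two_smul]; exact neg_eq_iff_add_eq_zero.1 (by simpa using hr.2.1)
    simpa [h2] using this
  obtain rfl : C = 0 := by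
    have : (2 : F) • C = 0 := by rw [two_smul]; exact eq_neg_iff_add_eq_zero.1 (by simpa using hr.2.2.1)
    simpa [h2] using this
  have hA : A ≠ 0 := by rintro rfl; simp [det_fromBlocks_zero₂₁] at hG
  have key : ∀ v, (D * NN k v : Matrix _ _ F) = NN k v * A := fun v => by
    obtain ⟨r, hr⟩ := h ⟨v, 1⟩
    simp only [MM, MonoidHom.coe_mk, OneHom.coe_mk, fromBlocks_multiply, fromBlocks_smul, fromBlocks_inj] at hr
    have : r = 1 := by
      by_contra e
      have : (1 - r) • A = 0 := by rw [sub_smul, one_smul, sub_eq_zero]; simpa using hr.1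
      exact hA ((smul_eq_zero.1 this).resolve_left (sub_ne_zero.2 (Ne.symm e)))
    have e := hr.2.2.1
    simp only [this, Matrix.zero_mul, Matrix.mul_zero, zero_add, add_zero, one_smul] at e
    exact e
  have k0 : ∀ i j, D i j.castSucc = ∑ l, (1 : Matrix _ _ F) i l.castSucc * A l j := fun i j => by
    have : ∑ l, D i l * NN k ![1, 0, 0] l j = ∑ l, NN k ![1, 0, 0] i l * A l j := congrFun (congrFun (key ![1, 0, 0]) i) j
    simpa [NN, one_apply] using this
  have k1 : ∀ i j, D i j.succ = ∑ l, (1 : Matrix _ _ F) i l.succ * A l j := fun i j => by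
    have : ∑ l, D i l * NN k ![0, 1, 0] l j = ∑ l, NN k ![0, 1, 0] i l * A l j := congrFun (congrFun (key ![0, 1, 0]) i) j
    simpa [NN, one_apply] using this
  have hD := toeplitz (D := D) (fun i j => by simp [k0, k1, one_apply])
    (fun j => by simp [k0, one_apply, (Fin.castSucc_ne_last _).symm]) fun j => by simp [k1, one_apply, (Fin.succ_ne_zero _).symm]
  refine ⟨D 0 0, ?_⟩
  rw [← fromBlocks_one, fromBlocks_smul, fromBlocks_inj]
  refine ⟨?_, by simp, by simp, ?_⟩
  · ext i j
    have := (k0 i.castSucc j).symm.trans (hD _ _)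
    simpa [one_apply] using this
  · ext i j
    rw [hD]; simp [one_apply]

theorem eq_one_of_scalar (h2 : (2 : F) ≠ 0) {k : ℕ} {x : Dh F} {r : F} (h : MM k x = r • 1) : x = 1 := by
  rw [← fromBlocks_one, fromBlocks_smul] at h
  obtain ⟨h1, -, h3, h4⟩ := fromBlocks_inj.1 h
  obtain rfl : 1 = r := by simpa using congrFun (congrFun h1 0) 0
  refine Dh.ext (funext fun i => ?_) ?_
  · have a := congrFun (congrFun h3 0) 0
    have b := congrFun (congrFun h3 1) 0
    have c := congrFun (congrFun h3 (Fin.last _)) 0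
    simp [NN, one_apply, single_apply, Fin.ext_iff] at a b c
    fin_cases i <;> assumption
  · refine (Int.units_eq_one_or x.s).resolve_right fun e => h2 ?_
    have := congrFun (congrFun h4 0) 0
    simp only [e, Units.neg_smul, one_smul, Matrix.neg_apply, one_apply_eq] at this
    linear_combination -this

/-- For every odd prime `p` there is a finite group `H` of order `2p³` which, for infinitely many `n`, embeds in the projective special linear group `PSL(n, p)` as a subgroup with trivial centralizer. -/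
theorem result
    (p : ℕ) [Fact p.Prime] (hp : p ≠ 2) :
    ∃ (H : Type) (_ : Group H) (_ : Finite H), Nat.card H = 2 * p ^ 3 ∧
      ∀ N : ℕ, ∃ n, N ≤ n ∧ ∃ φ : H →* Matrix.ProjectiveSpecialLinearGroup (Fin n) (ZMod p),
        Function.Injective φ ∧ Subgroup.centralizer (φ.range : Set (Matrix.ProjectiveSpecialLinearGroup (Fin n) (ZMod p))) = ⊥ := by
  have h2 : (2 : ZMod p) ≠ 0 := fun h => hp ((Nat.prime_dvd_prime_iff_eq Fact.out Nat.prime_two).1
    ((ZMod.natCast_eq_zero_iff 2 p).1 h))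
  refine ⟨Dh (ZMod p), inferInstance, Finite.of_equiv _ dhEquiv.symm, by
    rw [Nat.card_congr dhEquiv]; simp [mul_comm], fun N => ?_⟩
  let R := Matrix.reindexAlgEquiv (ZMod p) (ZMod p) (finSumFinEquiv (m := 2 * N + 1 + 2) (n := 2 * N + 1 + 2 + 1))
  let ρ : Dh (ZMod p) →* Matrix.SpecialLinearGroup (Fin (2 * N + 1 + 2 + (2 * N + 1 + 2 + 1))) (ZMod p) :=
    { toFun x := ⟨R (MM _ x), by
        rw [det_reindexAlgEquiv]
        rcases Int.units_eq_one_or x.s with h | h <;>
          simp [MM, det_fromBlocks_zero₁₂, h, det_neg, show 2 * N + 1 + 2 + 1 = 2 * (N + 2) by ring]⟩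
      map_one' := Subtype.ext (by simp)
      map_mul' x y := Subtype.ext ((congrArg R (map_mul _ x y)).trans (map_mul R _ _)) }
  have hρ : ∀ x, (ρ x).1 = R (MM _ x) := fun _ => rfl
  refine ⟨_, by omega, (QuotientGroup.mk' _).comp ρ, (injective_iff_map_eq_one _).2 fun x hx => ?_, ?_⟩
  · obtain ⟨r, -, hr⟩ := Matrix.SpecialLinearGroup.mem_center_iff.1 ((QuotientGroup.eq_one_iff (ρ x)).1 hx)
    refine eq_one_of_scalar h2 (k := 2 * N + 1) (r := r) (R.injective ?_)
    rw [← hρ, ← hr, map_smul, map_one, scalar_apply, smul_one_eq_diagonal]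
  · refine eq_bot_iff.2 fun g hg => ?_
    obtain ⟨g, rfl⟩ := QuotientGroup.mk_surjective g
    obtain ⟨c, hc⟩ := scalar_of_comm h2 (k := 2 * N + 1) (G := R.symm g.1) (by
      rw [← det_reindexAlgEquiv (ZMod p) (ZMod p) finSumFinEquiv]; exact (congrArg det (R.apply_symm_apply _)).trans g.2) fun x => by
        have := hg _ ⟨x, rfl⟩
        obtain ⟨r, -, hr⟩ := Matrix.SpecialLinearGroup.mem_center_iff.1 ((QuotientGroup.eq (a := ρ x * g) (b := g * ρ x)).1 this)
        refine ⟨r, R.injective ?_⟩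
        rw [map_smul, map_mul, map_mul, R.apply_symm_apply, ← hρ, ← Matrix.SpecialLinearGroup.coe_mul, ← Matrix.SpecialLinearGroup.coe_mul,
          ← mul_inv_cancel_left (ρ x * g) (g * ρ x), Matrix.SpecialLinearGroup.coe_mul, ← hr, scalar_apply, ← smul_eq_mul_diagonal]
    refine (QuotientGroup.eq_one_iff _).2 (Subgroup.mem_center_iff.2 fun y => Subtype.ext ?_)
    have : g.1 = c • 1 := by rw [← R.apply_symm_apply g.1, hc, map_smul, map_one]
    simp [this]

end Cfsg.Agent.S2533
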