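import Cfsg.Statements.S2534
import Cfsg.Agent.Lib.Linear.HallSym2

set_option autoImplicit false
open Cfsg

namespace Cfsg.Agent.S2534

open Cfsg.Lib.Linear Cfsg.Lib.Hall Equiv Subgroup
open scoped Pointwise

/-- Preserving a bipartition, pointwise. -/
abbrev Pr {n : ℕ} (B : Finset (Fin n)) (g : Perm (Fin n)) : Prop := (∀ x ∈ B, g x ∈ B) ∨ ∀ x ∈ B, g x ∉ B

theorem pr {n : ℕ} {B : Finset (Fin n)} {g : Perm (Fin n)} (h : g • B = B ∨ g • B = Bᶜ) : Pr B g :=
  h.imp (fun h x hx => by have := Finset.smul_mem_smul_finset (a := g) hx; rwa [h] at this)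
    fun h x hx => by have := Finset.smul_mem_smul_finset (a := g) hx; rwa [h, Finset.mem_compl] at this

theorem seven : ∀ B : Finset (Fin 7), B.card = 4 → Pr B (swap 0 1 * swap 1 2) → Pr B (swap 3 4 * swap 4 5) →
    ¬ Pr B (swap 0 1 * (swap 0 3 * swap 1 4 * swap 2 5)) := by decide +kernel

set_option maxRecDepth 100000 in
theorem eight : ∀ B : Finset (Fin 8), B.card = 4 → Pr B (swap 0 1 * swap 1 2) → Pr B (swap 3 4 * swap 4 5) →
    ¬ Pr B (swap 0 1 * swap 6 7) := by decide +kernel

theorem ker_equiv {α β : Type*} (f : α → β) : Equivalence fun x y => f x = f y :=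
  ⟨fun _ => rfl, Eq.symm, Eq.trans⟩

theorem pi_small {n : ℕ} {π : Set ℕ} (f : Fin n → Fin 3) (hf : ∀ x, (Finset.univ.filter fun y => f x = f y).card ≤ 3)
    (h : ∀ r : ℕ, r.Prime → r ≤ n → (r ∈ π ↔ r ≤ 4)) : IsPiSubgroup π (eqvStab fun x y => f x = f y) := fun r a b => by
  refine (h r a (by simpa using le_of_dvd_card a b)).2 (not_lt.1 fun c => ?_)
  refine not_dvd_card_eqvStab (ker_equiv f) f (fun _ _ => id) a (by simp; omega) (fun x => ?_) b
  have : cls (fun x y => f x = f y) x = Finset.univ.filter fun y => f x = f y := by ext; simp [mem_cls]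
  have := hf x
  rw [‹cls _ _ = _›]; omega

/-- For `n ≥ 5` and a set of primes `π`, the alternating group of degree `n` satisfies the full Sylow analogue for `π` (its maximal `π`-subgroups are pairwise conjugate; for a finite group this says Hall `π`-subgroups exist, are all conjugate, and contain every `π`-subgroup up to conjugacy) if and only if either at most one prime of `π` divides its order or every prime dividing its order lies in `π`. -/
theorem result (n : ℕ) (hn : 5 ≤ n) (π : Set ℕ) :
    Cfsg.IsDPiGroup π ↥(alternatingGroup (Fin n)) ↔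
      ((∀ r s : ℕ, r.Prime → s.Prime → r ∈ π → s ∈ π → r ∣ Nat.card ↥(alternatingGroup (Fin n)) → s ∣ Nat.card ↥(alternatingGroup (Fin n)) → r = s) ∨
        ∀ r : ℕ, r.Prime → r ∣ Nat.card ↥(alternatingGroup (Fin n)) → r ∈ π) := by
  constructor
  · intro hD
    by_contra hc
    rw [not_or] at hc
    have hA := card_subgroup_dvd_card (alternatingGroup (Fin n))
    rcases hall_cases π (Fin n) with h | h | h
    · exact hc.1 fun r s x y z w u v => h r s x y z w (u.trans hA) (v.trans hA)
    · exact hc.2 fun r x u => h r x (u.trans hA)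
    have key : ∀ L : Subgroup (Perm (Fin n)), IsPiSubgroup π L → ∃ B : Finset (Fin n), HallType π n B.card ∧
        ∀ g ∈ L, Perm.sign g = 1 → g • B = B ∨ g • B = Bᶜ := fun L hL => by
      obtain ⟨M, hM, le⟩ := exists_hall_of_isDPi hD (K := L.subgroupOf (alternatingGroup (Fin n))) fun r a b =>
        hL r a (b.trans (card_comap_dvd_of_injective _ _ (subtype_injective _)))
      obtain ⟨B, a, b, -⟩ := h (M.map (alternatingGroup (Fin n)).subtype)
        (fun r a b => hM.1 r a (by rwa [card_map_of_injective (subtype_injective _)] at b))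
        (by rw [relIndex, subgroupOf, comap_map_eq_self_of_injective (subtype_injective _)]; exact hM.2)
      exact ⟨B, by simpa using b, fun g x y => mem_biStab.1 (a ⟨⟨g, Perm.mem_alternatingGroup.2 y⟩, le x, rfl⟩)⟩
    obtain ⟨B₀, h0, -⟩ := key ⊥ fun r a b => absurd b (by simpa using a.ne_one)
    rcases h0.2 with ⟨hp, hm⟩ | ⟨rfl | rfl, hm⟩
    · let f : Fin n → Bool := fun x => decide (x.val < 2)
      obtain ⟨B, a, b⟩ := key (eqvStab fun x y => f x = f y) fun r a b => by
        have c : r ≤ n := by simpa using le_of_dvd_card a b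
        refine (h0.1 r a c).2 (not_lt.1 fun d => ?_)
        refine not_dvd_card_eqvStab (ker_equiv f) f (fun _ _ => id) a (by simp; omega) (fun x => ?_) b
        have : ∃ y, f x ≠ f y := by
          by_cases e : x.val < 2
          · exact ⟨⟨2, by omega⟩, by simp [f]; omega⟩
          · exact ⟨⟨0, by omega⟩, by simp [f]; omega⟩
        obtain ⟨y, hy⟩ := this
        have := Finset.card_lt_univ_of_notMem (s := cls (fun x y => f x = f y) x) (x := y) (by simpa [mem_cls])
        simp at this; omega
      have e := a.unique h0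
      have e1 : Bᶜ.card = 1 := by rw [Finset.card_compl]; simp; omega
      obtain ⟨x, hx⟩ := Finset.card_eq_one.1 e1
      have : ∃ y u v, x ≠ y ∧ u ≠ v ∧ x ≠ u ∧ x ≠ v ∧ f x = f y ∧ f u = f v := by
        by_cases e : x.val < 2
        · exact ⟨⟨1 - x.val, by omega⟩, ⟨2, by omega⟩, ⟨3, by omega⟩, by simp [Fin.ext_iff, f, e]; omega⟩
        · exact ⟨⟨if x.val = 2 then 3 else 2, by split_ifs <;> omega⟩, ⟨0, by omega⟩, ⟨1, by omega⟩, by
            simp [Fin.ext_iff, f, e]; split_ifs <;> omega⟩
      obtain ⟨y, u, v, a1, a2, a3, a4, a5, a6⟩ := this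
      rcases b (swap x y * swap u v) (mul_mem (swap_mem_eqvStab (ker_equiv f) a5) (swap_mem_eqvStab (ker_equiv f) a6))
        (by simp [a1, a2]) with b | b
      · have h1 : y ∈ B := by
          by_contra c
          exact a1 (Finset.mem_singleton.1 (hx ▸ Finset.mem_compl.2 c)).symm
        have h2 : x ∉ B := Finset.mem_compl.1 (hx ▸ Finset.mem_singleton_self x)
        rw [← b] at h1
        refine h2 ((Finset.smul_mem_smul_finset_iff (swap x y * swap u v)).1 ?_)
        simpa [swap_apply_of_ne_of_ne a3 a4] using h1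
      · have := congrArg Finset.card b
        rw [Finset.card_smul_finset] at this
        omega
    · obtain ⟨B, a, b⟩ := key _ (pi_small ![0, 0, 0, 1, 1, 1, 2] (by decide) (hm ▸ h0.1))
      refine seven B ((a.unique h0).trans hm) (pr (b _ ?_ (by simp))) (pr (b _ ?_ (by simp))) (pr (b _ ?_ (by simp))) <;>
        (change ∀ x y, _ ↔ _; decide +kernel)
    · obtain ⟨B, a, b⟩ := key _ (pi_small ![0, 0, 0, 1, 1, 1, 2, 2] (by decide) (hm ▸ h0.1))
      refine eight B ((a.unique h0).trans hm) (pr (b _ ?_ (by simp))) (pr (b _ ?_ (by simp))) (pr (b _ ?_ (by simp))) <;>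
        (change ∀ x y, _ ↔ _; decide +kernel)
  · rintro (h | h) H K hH hK
    · have : ∀ H, Maximal (IsPiSubgroup π) H → IsPiHall π H := fun H (hH : Maximal _ (H : Subgroup (alternatingGroup (Fin n)))) => by
        obtain ⟨M, a, b⟩ := OnePrime.exists_le h hH.1
        exact hH.eq_of_le a.1 b ▸ a
      exact OnePrime.conj h (this H hH) (this K hK)
    · exact ⟨1, by rw [hH.eq_of_le (isPiHall_top h).1 le_top, hK.eq_of_le (isPiHall_top h).1 le_top]; simp⟩

end Cfsg.Agent.S2534
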