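import Cfsg.Statements.S2535
import Cfsg.Agent.Lib.Linear.HallSym2

set_option autoImplicit false
open Cfsg

namespace Cfsg.Agent.S2535

open Cfsg.Lib.Linear Cfsg.Lib.Hall

/-- For every `n` and every set of primes `π`, the following are equivalent for the symmetric group `S` of degree `n` and its alternating subgroup `A`: `S` has a Hall `π`-subgroup; `S` has a Hall `π`-subgroup and all of them are conjugate; `A` has a Hall `π`-subgroup; `A` has a Hall `π`-subgroup and all of them are conjugate. -/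
theorem result (n : ℕ) (π : Set ℕ) :
    (Cfsg.IsEPiGroup π (Equiv.Perm (Fin n)) ↔ Cfsg.IsCPiGroup π (Equiv.Perm (Fin n))) ∧
    (Cfsg.IsEPiGroup π (Equiv.Perm (Fin n)) ↔ Cfsg.IsEPiGroup π ↥(alternatingGroup (Fin n))) ∧
    (Cfsg.IsEPiGroup π ↥(alternatingGroup (Fin n)) ↔ Cfsg.IsCPiGroup π ↥(alternatingGroup (Fin n))) := by
  refine ⟨⟨fun h => ⟨h, fun H K hH hK => ?_⟩, fun h => h.1⟩,
    ⟨fun ⟨H, h⟩ => ⟨_, isPiHall_subgroupOf_normal h _⟩, fun ⟨H, h⟩ => (exists_hall_perm h).imp fun _ a => a.1⟩,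
    ⟨fun h => ⟨h, fun H K hH hK => ?_⟩, fun h => h.1⟩⟩
  · rcases hall_perm_conj hH hK with h | ⟨g, -, h⟩
    · exact h.conj hH hK
    · exact ⟨g, h⟩
  · obtain ⟨H₀, a, rfl⟩ := exists_hall_perm hH
    obtain ⟨K₀, b, rfl⟩ := exists_hall_perm hK
    rcases hall_perm_conj a b with h | ⟨g, hg, h⟩
    · exact OnePrime.conj (fun r s x y z w u v => h r s x y z w (u.trans (Subgroup.card_subgroup_dvd_card _))
        (v.trans (Subgroup.card_subgroup_dvd_card _))) hH hK
    · refine ⟨⟨g, hg⟩, ?_⟩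
      subst h
      ext x
      rw [Subgroup.mem_subgroupOf, Subgroup.mem_map_equiv, Subgroup.mem_map_equiv, Subgroup.mem_subgroupOf]
      rfl

end Cfsg.Agent.S2535
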