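import Cfsg.Statements.S2536
import Cfsg.Agent.Lib.Linear.HallSym2

set_option autoImplicit false
open Cfsg

namespace Cfsg.Agent.S2536

open Cfsg.Lib.Linear Cfsg.Lib.Hall

theorem aux {r : ℕ} (h : r.Prime) : r ≤ 4 ↔ (r = 2 ∨ r = 3) := by
  have := h.two_le
  refine ⟨fun a => ?_, by omega⟩
  interval_cases r
  · simp
  · simp
  · exact absurd h (by decide)

/-- Let `π` be a set of primes and `n` a natural number such that at least two primes of `π` divide `n!` but not every prime dividing `n!` lies in `π`. Then the symmetric group of degree `n` has a Hall `π`-subgroup if and only if either `n` is prime and the primes of `π` dividing `n!` are exactly the primes smaller than `n` (a point stabilizer is then such a subgroup), or `n ∈ {7, 8}` and the primes of `π` dividing `n!` are exactly 2 and 3. -/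
theorem result (n : ℕ) (π : Set ℕ)
    (h2 : ∃ r s : ℕ, r.Prime ∧ s.Prime ∧ r ≠ s ∧ r ∈ π ∧ s ∈ π ∧ r ≤ n ∧ s ≤ n)
    (hns : ∃ r : ℕ, r.Prime ∧ r ≤ n ∧ r ∉ π) :
    Cfsg.IsEPiGroup π (Equiv.Perm (Fin n)) ↔
      ((n.Prime ∧ ∀ r : ℕ, r.Prime → r ≤ n → (r ∈ π ↔ r < n)) ∨
       ((n = 7 ∨ n = 8) ∧ ∀ r : ℕ, r.Prime → r ≤ n → (r ∈ π ↔ (r = 2 ∨ r = 3)))) := by
  constructor
  · rintro ⟨H, h⟩
    obtain ⟨B, -, a, b⟩ := hall_structure h.1 (isPiHall_subgroupOf_normal h _).2 (by simpa using h2) (by simpa using hns)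
    simp only [Fintype.card_fin] at a b
    rcases b with ⟨b, c⟩ | ⟨b, c⟩
    · exact .inl ⟨b, fun r x y => (a r x y).trans (by omega)⟩
    · exact .inr ⟨b, fun r x y => (a r x y).trans (by rw [c, aux x])⟩
  · obtain ⟨r, s, r1, s1, rs, r2, s2, r3, s3⟩ := h2
    have := r1.two_le
    have := s1.two_le
    rintro (⟨a, b⟩ | ⟨a, b⟩)
    · obtain ⟨B, -, hB⟩ := Finset.exists_subset_card_eq (s := (Finset.univ : Finset (Fin n))) (n := n - 1) (by simp)
      refine ⟨_, isPiHall_biStab (B := B) ⟨fun r x y => ?_, .inl ⟨by simpa, by simp; omega⟩⟩ (by omega)⟩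
      rw [Fintype.card_fin] at y
      exact (b r x y).trans (by omega)
    · obtain ⟨B, -, hB⟩ := Finset.exists_subset_card_eq (s := (Finset.univ : Finset (Fin n))) (n := 4) (by simp; omega)
      refine ⟨_, isPiHall_biStab (B := B) ⟨fun r x y => ?_, .inr ⟨by simpa, hB⟩⟩ (by omega)⟩
      rw [Fintype.card_fin] at y
      exact (b r x y).trans (by rw [hB, aux x])

end Cfsg.Agent.S2536
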