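import Cfsg.Statements.S2537
import Cfsg.Agent.Lib.Linear.PSL2Small
import Cfsg.Agent.Lib.Linear.PSL2Sub
import Cfsg.Agent.Lib.Linear.PUnip

set_option autoImplicit false
open Cfsg

namespace Cfsg.Agent.S2537

open Cfsg.Lib.Linear

theorem coprime_of {x y : ℕ} (hx : ∀ r : ℕ, r.Prime → r ∣ x → r ∈ ({2, 3} : Set ℕ)) (h2 : ¬ 2 ∣ y) (h3 : ¬ 3 ∣ y) :
    x.Coprime y := Nat.coprime_of_dvd fun r hr h => by
  rcases hx r hr h with rfl | rfl <;> assumption

theorem mem_of_dvd {a b r : ℕ} (hr : r.Prime) (h : r ∣ 2 ^ a * 3 ^ b) : r ∈ ({2, 3} : Set ℕ) := by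
  rcases (Nat.Prime.dvd_mul hr).1 h with h | h
  · exact .inl ((Nat.prime_dvd_prime_iff_eq hr Nat.prime_two).1 (hr.dvd_of_dvd_pow h))
  · exact .inr ((Nat.prime_dvd_prime_iff_eq hr Nat.prime_three).1 (hr.dvd_of_dvd_pow h))

theorem hall_iff {G : Type*} [Group G] {a b m : ℕ} (hG : 2 * Nat.card G = 2 ^ a * 3 ^ b * m) (h2 : ¬ 2 ∣ m) (h3 : ¬ 3 ∣ m)
    (H : Subgroup G) : IsPiHall {2, 3} H ↔ 2 * Nat.card H = 2 ^ a * 3 ^ b := by
  rw [← H.card_mul_index, ← mul_assoc] at hG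
  refine ⟨fun h => Nat.dvd_antisymm ((coprime_of (fun r hr e => ?_) h2 h3).dvd_of_dvd_mul_right (Dvd.intro _ hG))
    ((coprime_of (fun r => mem_of_dvd) (h.2 2 Nat.prime_two (by simp)) (h.2 3 Nat.prime_three (by simp))).dvd_of_dvd_mul_right
      (Dvd.intro _ hG.symm)), fun h => ⟨fun r hr e => mem_of_dvd hr (h ▸ e.mul_left 2), ?_⟩⟩
  · exact ((Nat.Prime.dvd_mul hr).1 e).elim (fun e => .inl ((Nat.prime_dvd_prime_iff_eq hr Nat.prime_two).1 e)) (h.1 r hr)
  · rw [h, Nat.mul_right_inj (by positivity)] at hG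
    rintro r - (rfl | rfl) <;> rwa [hG]

/-- Let `F` be a finite field with `q` elements of characteristic `p ≥ 5`, and `ε = 1` if `q ≡ 1 (mod 4)`, `ε = -1` otherwise. Then `PSL(2, F)` has a Hall `{2, 3}`-subgroup if and only if `3` divides `q − ε`, or the `{2,3}`-part of `q² − 1` is 24, or the `{2,3}`-part of `q² − 1` is 48 (the `{2,3}`-part of `m` being the largest divisor of `m` with no prime factor other than 2 and 3). -/
theorem result {F : Type*} [Field F] [Fintype F] {p : ℕ} [Fact p.Prime] [CharP F p]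
    (hp : 5 ≤ p) (q : ℕ) (hq : Fintype.card F = q) :
    (∃ H : Subgroup (Matrix.ProjectiveSpecialLinearGroup (Fin 2) F), Cfsg.IsPiHall ({2, 3} : Set ℕ) H) ↔
      (3 ∣ q - 1 ∧ q % 4 = 1) ∨ (3 ∣ q + 1 ∧ q % 4 = 3) ∨
        2 ^ (q ^ 2 - 1).factorization 2 * 3 ^ (q ^ 2 - 1).factorization 3 = 24 ∨
        2 ^ (q ^ 2 - 1).factorization 2 * 3 ^ (q ^ 2 - 1).factorization 3 = 48 := by
  rw [← Nat.card_eq_fintype_card] at hq
  have hq2 : ¬ 2 ∣ q ∧ ¬ 3 ∣ q ∧ p ∣ q := by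
    obtain ⟨n, hp', hn⟩ := FiniteField.card F p
    rw [← hq, Nat.card_eq_fintype_card, hn]
    refine ⟨fun h => ?_, fun h => ?_, dvd_pow_self _ n.ne_zero⟩
    · have := (Nat.prime_dvd_prime_iff_eq Nat.prime_two hp').1 (Nat.prime_two.dvd_of_dvd_pow h); omega
    · have := (Nat.prime_dvd_prime_iff_eq Nat.prime_three hp').1 (Nat.prime_three.dvd_of_dvd_pow h); omega
  have hq5 : 5 ≤ q := hp.trans (Nat.le_of_dvd (hq ▸ Nat.card_pos) hq2.2.2)
  have hn : q ^ 2 - 1 = (q + 1) * (q - 1) := Nat.sq_sub_sq q 1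
  have hn0 : q ^ 2 - 1 ≠ 0 := by rw [hn]; exact mul_ne_zero (by omega) (by omega)
  obtain ⟨a, n1, h2, e1⟩ := Nat.exists_eq_pow_mul_and_not_dvd hn0 2 (by norm_num)
  obtain ⟨b, m, h3, rfl⟩ := Nat.exists_eq_pow_mul_and_not_dvd (n := n1) (by rintro rfl; simp at h2) 3 (by norm_num)
  have hm2 : ¬ 2 ∣ m := fun h => h2 (h.mul_left _)
  have hm0 : m ≠ 0 := by rintro rfl; simp at h3
  have ha : (q ^ 2 - 1).factorization 2 = a := by
    rw [e1, Nat.factorization_mul (by positivity) (by positivity), Finsupp.add_apply, Nat.factorization_eq_zero_of_not_dvd h2,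
      Nat.prime_two.factorization_pow]; simp
  have hb : (q ^ 2 - 1).factorization 3 = b := by
    rw [e1, Nat.factorization_mul (by positivity) (by positivity), Nat.factorization_mul (by positivity) hm0, Finsupp.add_apply,
      Finsupp.add_apply, Nat.factorization_eq_zero_of_not_dvd h3, Nat.prime_two.factorization_pow,
      Nat.prime_three.factorization_pow]; simp
  rw [ha, hb]
  rw [← mul_assoc] at e1
  have hodd : Odd (Nat.card F) := hq ▸ Nat.odd_iff.2 (by omega)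
  have hG := card_PSL_two_of_odd hodd
  rw [hq, mul_assoc, mul_comm (q - 1), ← hn, e1, mul_left_comm] at hG
  have hall := hall_iff hG (fun h => (Nat.prime_two.dvd_mul.1 h).elim hq2.1 hm2) fun h => (Nat.prime_three.dvd_mul.1 h).elim hq2.2.1 h3
  simp only [hall]
  have hg : Nat.gcd 2 (Nat.card F - 1) = 2 := Nat.gcd_eq_left (by omega)
  have h24 : 24 ∣ 2 ^ a * 3 ^ b := by
    refine (coprime_of (fun r => mem_of_dvd (a := 3) (b := 1)) hm2 h3).dvd_of_dvd_mul_right (e1 ▸ ?_)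
    have : q ^ 2 % 24 = 1 := by
      have : q % 24 = 1 ∨ q % 24 = 5 ∨ q % 24 = 7 ∨ q % 24 = 11 ∨ q % 24 = 13 ∨ q % 24 = 17 ∨ q % 24 = 19 ∨ q % 24 = 23 := by omega
      rcases this with h | h | h | h | h | h | h | h <;> simp [Nat.pow_mod, h]
    omega
  have hno : ∀ u v, u * v = q ^ 2 - 1 → 2 ∣ v → ¬ 2 ^ a * 3 ^ b ∣ u := fun u v e hv h =>
    hm2 (Nat.dvd_of_mul_dvd_mul_left (by positivity) (e1 ▸ e ▸ Nat.mul_dvd_mul h hv))
  constructor
  · rintro ⟨H, hH⟩
    have hH' := (hall H).2 hH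
    rcases dickson_psl2 p H with ⟨k, hk, ⟨-, h⟩ | ⟨⟨e⟩⟩⟩ | ⟨P, hP⟩ | ⟨-, ⟨⟨e⟩⟩ | ⟨⟨e⟩⟩ | ⟨⟨e⟩⟩⟩ | ⟨h, -⟩ | ⟨R, h⟩
    · rw [hg, hq, ← h] at hk
      rcases hk with hk | hk
      · exact absurd (hH ▸ Nat.mul_dvd_of_dvd_div (by omega) hk) (hno _ _ hn.symm (by omega))
      · exact absurd (hH ▸ Nat.mul_dvd_of_dvd_div (by omega) hk) (hno _ _ ((mul_comm _ _).trans hn.symm) (by omega))
    · rw [Nat.card_congr e.toEquiv, DihedralGroup.nat_card] at hH
      rw [hg, hq] at hk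
      obtain ⟨k, rfl⟩ : 6 ∣ k := by omega
      rcases hk with ⟨c, hk⟩ | ⟨c, hk⟩ <;> rw [mul_assoc] at hk <;> omega
    · have := card_normalizer_sylow_PSL2 P
      rw [hg, hq] at this
      exact absurd ((coprime_of (fun r => mem_of_dvd) hq2.1 hq2.2.1).dvd_of_dvd_mul_left
        (hH ▸ this ▸ Nat.mul_dvd_mul_left 2 (Subgroup.card_dvd_of_le hP))) (hno _ _ ((mul_comm _ _).trans hn.symm) (by omega))
    · rw [Nat.card_congr e.toEquiv, card_A4] at hH; omega
    · rw [Nat.card_congr e.toEquiv, card_S4] at hH; omega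
    · simpa using hH'.1 5 (by norm_num) (by rw [Nat.card_congr e.toEquiv, card_A5]; norm_num)
    · omega
    · have hR : p ∣ Nat.card R := by
        have := Fintype.ofFinite R
        obtain ⟨n, -, hn⟩ := FiniteField.card R p
        rw [Nat.card_eq_fintype_card, hn]; exact dvd_pow_self _ n.ne_zero
      have h1 : p ∣ Nat.card (PSL2 R) := by
        have := card_PSL_two (F := R)
        refine ((Nat.Prime.dvd_mul Fact.out).1 (this ▸ (hR.mul_right _).mul_right _)).resolve_left fun h => ?_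
        have := Nat.le_of_dvd two_pos (h.trans (Nat.gcd_dvd_left _ _)); omega
      have : p ∣ Nat.card H := by
        rcases h with ⟨⟨e⟩⟩ | ⟨-, ⟨e⟩⟩ <;> rw [Nat.card_congr e.toEquiv]
        exacts [h1.trans (Subgroup.card_dvd_of_injective _ Matrix.ProjectiveSpecialLinearGroup.toPGL_injective), h1]
      rcases hH'.1 p Fact.out this with rfl | rfl <;> omega
  · have key : ∀ u v, u * v = q ^ 2 - 1 → 2 ∣ u → v % 4 = 2 → ¬ 3 ∣ v → (∃ s r : PSL2 F, s * s = 1 ∧ s * r * s⁻¹ = r⁻¹ ∧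
        orderOf r = u / 2 ∧ s ∉ Subgroup.zpowers r) → ∃ H : Subgroup (PSL2 F), 2 * Nat.card H = 2 ^ a * 3 ^ b := by
      rintro u v e hu hv h3 ⟨s, r, a1, a2, a3, a4⟩
      obtain ⟨k, hk⟩ : 4 ∣ 2 ^ a * 3 ^ b := (show 4 ∣ 24 by norm_num).trans h24
      obtain ⟨v, rfl⟩ : 2 ∣ v := by omega
      obtain ⟨u, rfl⟩ := hu
      have : k ∣ orderOf r := by
        rw [a3, Nat.mul_div_cancel_left _ two_pos]
        refine (coprime_of (y := v) (fun r hr h => mem_of_dvd hr (hk ▸ h.mul_left 4)) (by omega) (by omega)).dvd_of_dvd_mul_right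
          (Nat.dvd_of_mul_dvd_mul_left (k := 4) (by norm_num) ⟨m, ?_⟩)
        rw [← hk, ← e1, ← e]; ring
      obtain ⟨e⟩ := Cfsg.Lib.Invol.closure_mulEquiv_dihedral (r := r ^ (orderOf r / k)) a1 (by rw [← conj_pow, a2, inv_pow])
        (orderOf_pow_orderOf_div (orderOf_pos r).ne' this) fun h => a4 (Subgroup.zpowers_le_of_mem (pow_mem (Subgroup.mem_zpowers r) _) h)
      exact ⟨_, by rw [Nat.card_congr e.toEquiv, DihedralGroup.nat_card, hk]; ring⟩
    rintro (h | h | h | h)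
    · have := exists_dihedral_of_isTorus (Cfsg.Lib.Known.isTorus_torusS (F := F)) (by rw [Nat.card_units]; omega)
      rw [Nat.card_units, hg, hq] at this
      exact key _ _ ((mul_comm _ _).trans hn.symm) (by omega) (by omega) (by omega) this
    · have := exists_dihedral_of_isTorus (Cfsg.Lib.Known.isTorus_singerS (F := F)) (by rw [Cfsg.Lib.Known.card_U1]; omega)
      rw [Cfsg.Lib.Known.card_U1, hg, hq] at this
      exact key _ _ hn.symm (by omega) (by omega) (by omega) this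
    · obtain ⟨H, ⟨e⟩⟩ := (psl2_exists_A4_iff (F := F)).2 (.inl fun h => by
        have := (CharP.cast_eq_zero_iff F p 2).1 h
        have := Nat.le_of_dvd two_pos this; omega)
      exact ⟨H, by rw [Nat.card_congr e.toEquiv, card_A4, h]⟩
    · obtain ⟨H, ⟨e⟩⟩ := (psl2_exists_S4_iff (F := F)).2 (by
        rw [h] at e1; rw [hq]; omega)
      exact ⟨H, by rw [Nat.card_congr e.toEquiv, card_S4, h]⟩

end Cfsg.Agent.S2537
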