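import Cfsg.Statements.S2540
import Cfsg.Agent.Lib.Linear.OutPSL

set_option autoImplicit false
open Cfsg

namespace Cfsg.Agent.S2540

open Cfsg.Lib.Linear Matrix

/-- Let F be a finite field and n ≥ 1, excluding the case n = 2 with #F ≤ 3. A subgroup of GL_n(F) that is normalized by every element of SL_n(F) either consists of scalar matrices or contains SL_n(F). -/
theorem result {F : Type*} [Field F] [Fintype F] (n : ℕ) (hn : 1 ≤ n) (hex : ¬ (n = 2 ∧ Fintype.card F ≤ 3)) (G : Subgroup (Matrix.GeneralLinearGroup (Fin n) F)) (hG : ∀ s : Matrix.SpecialLinearGroup (Fin n) F, ∀ g ∈ G, (Matrix.SpecialLinearGroup.toGL s) * g * (Matrix.SpecialLinearGroup.toGL s)⁻¹ ∈ G) : (∀ g ∈ G, ∃ c : F, (g : Matrix (Fin n) (Fin n) F) = c • (1 : Matrix (Fin n) (Fin n) F)) ∨ (Matrix.SpecialLinearGroup.toGL : Matrix.SpecialLinearGroup (Fin n) F →* _).range ≤ G := by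
  have h3 : 3 ≤ Fintype.card (Fin n) ∨ (∃ a : F, a ≠ 0 ∧ a ^ 2 ≠ 1) ∨ n = 1 := by
    by_cases h : n = 2
    · exact Or.inr (Or.inl (exists_sq_ne_one_of_four_le_card (by
        rw [Nat.card_eq_fintype_card]; omega)))
    · simp; omega
  rw [← or_assoc] at h3
  rcases h3 with h3 | rfl
  swap
  · exact Or.inl fun g _ => ⟨g 0 0, by ext i j; fin_cases i; fin_cases j; simp⟩
  let N : Subgroup (Matrix.SpecialLinearGroup (Fin n) F) := G.comap SpecialLinearGroup.toGL
  haveI : N.Normal := ⟨fun x hx s => by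
    simpa only [N, Subgroup.mem_comap, map_mul, map_inv] using hG s _ hx⟩
  rcases sl_normal_le_center_or_eq_top h3 N with h | h
  · left
    intro g hg
    have hc : g ∈ (pslConj (Fin n) F).ker := by
      refine MulEquiv.ext fun x => ?_
      obtain ⟨s, rfl⟩ := QuotientGroup.mk_surjective x
      rw [pslConj_mk, MulAut.one_apply, eq_comm, QuotientGroup.eq]
      apply h
      rw [Subgroup.mem_comap, map_mul, toGL_slConj]
      have := G.mul_mem (hG s⁻¹ g hg) (G.inv_mem hg)
      simpa only [map_inv, inv_inv, mul_assoc] using this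
    rw [ker_pslConj, gl_mem_center_iff] at hc
    obtain ⟨u, rfl⟩ := hc
    exact ⟨u, by ext i j; simp [Matrix.diagonal_apply, Matrix.one_apply]⟩
  · right
    rintro _ ⟨s, rfl⟩
    exact (h ▸ Subgroup.mem_top s : s ∈ N)

end Cfsg.Agent.S2540
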