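import Cfsg.Statements.S2541


set_option autoImplicit false
open Cfsg

namespace Cfsg.Agent.S2541

open Matrix



/-- Let F be a field with 9 elements. The symmetric group S_6 is not isomorphic to PGL_2(F) (although both have index-2 subgroups isomorphic to A_6). -/
theorem result {F : Type*} [Field F] [Fintype F] (hF : Fintype.card F = 9) : ¬ Nonempty (Equiv.Perm (Fin 6) ≃* Matrix.ProjGenLinGroup (Fin 2) F) := by
  rintro ⟨e⟩
  classical
  obtain ⟨z, hz⟩ := IsCyclic.exists_ofOrder_eq_natCard (α := Fˣ)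
  rw [Nat.card_units, Nat.card_eq_fintype_card, hF] at hz
  have h : ∀ g : Equiv.Perm (Fin 6), g ^ 60 = 1 := fun g => by
    rw [← orderOf_dvd_iff_pow_eq_one, ← Equiv.Perm.lcm_cycleType, Multiset.lcm_dvd]
    intro a ha
    have h1 := Equiv.Perm.two_le_of_mem_cycleType ha
    have h2 := (Multiset.single_le_sum (fun _ _ => Nat.zero_le _) a ha).trans g.sum_cycleType_le
    rw [Fintype.card_fin] at h2
    interval_cases a <;> decide
  let g : GL (Fin 2) F := GeneralLinearGroup.mkOfDetNeZero (diagonal ![z, 1]) (by simp [Fin.prod_univ_two])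
  have h1 := congrArg e (h (e.symm (ProjGenLinGroup.mk g)))
  rw [map_pow, e.apply_symm_apply, map_one, ← map_pow, ← MonoidHom.mem_ker, ProjGenLinGroup.ker_mk,
    GeneralLinearGroup.mem_center_iff_val_mem_range_scalar] at h1
  obtain ⟨c, hc⟩ := h1
  have h2 : ((g ^ 60 : GL (Fin 2) F) : Matrix _ _ F) = diagonal (![(z : F), 1] ^ 60) := by
    rw [Units.val_pow_eq_pow_val, ← diagonal_pow]; rfl
  have h3 := congrFun₂ (hc.trans h2) 0 0
  have h4 := congrFun₂ (hc.trans h2) 1 1
  simp at h3 h4
  have : z ^ 60 = 1 := Units.ext (by simp [← h3, h4])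
  rw [← orderOf_dvd_iff_pow_eq_one, hz] at this
  norm_num at this

end Cfsg.Agent.S2541
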