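import Cfsg.Statements.S2542
import Cfsg.Agent.Lib.Linear.PSL2Small
import Cfsg.Agent.Lib.Linear.PSL2Sub
import Cfsg.Agent.S0675

set_option autoImplicit false
open Cfsg

namespace Cfsg.Agent.S2542

/-- Let F be a field with 11 elements. PSL_2(F) has a subgroup H of index 11 isomorphic to the alternating group A_5, and the action of PSL_2(F) on the cosets of H is 2-transitive (of degree 11). -/
theorem result {F : Type*} [Field F] [Fintype F] (hF : Fintype.card F = 11) : ∃ H : Subgroup (Matrix.ProjectiveSpecialLinearGroup (Fin 2) F), H.index = 11 ∧ Nonempty (H ≃* alternatingGroup (Fin 5)) ∧ MulAction.IsMultiplyPretransitive (Matrix.ProjectiveSpecialLinearGroup (Fin 2) F) ((Matrix.ProjectiveSpecialLinearGroup (Fin 2) F) ⧸ H) 2 := by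
  open Cfsg.Lib.Linear MulAction in
  classical
  rw [← Nat.card_eq_fintype_card] at hF
  obtain ⟨H, ⟨e⟩⟩ := (psl2_exists_A5_iff (F := F)).2 (by rw [hF]; norm_num)
  have hG := card_PSL_two_of_odd (F := F) (by rw [hF]; decide)
  have hi : H.index = 11 := by
    have := H.card_mul_index
    rw [Nat.card_congr e.toEquiv, card_A5] at this
    rw [hF] at hG
    change 60 * _ = Nat.card (Matrix.ProjectiveSpecialLinearGroup (Fin 2) F) at this
    omega
  refine ⟨H, hi, ⟨e⟩, ?_⟩
  have := isSimpleGroup_PSL2 (F := F) (by omega)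
  have := Fintype.ofFinite (PSL2 F ⧸ H)
  let φ := toPermHom (PSL2 F) (PSL2 F ⧸ H)
  have : IsPretransitive φ.range (PSL2 F ⧸ H) := ⟨fun a b => by
    obtain ⟨g, rfl⟩ := exists_smul_eq (PSL2 F) a b
    exact ⟨⟨φ g, g, rfl⟩, rfl⟩⟩
  have hφ : Function.Injective φ := (φ.ker_eq_bot_iff).1 ((φ.normal_ker.eq_bot_or_eq_top).resolve_right fun h => by
    have h1 := H.normalCore_le
    rw [H.normalCore_eq_ker, h, top_le_iff] at h1
    simp [h1] at hi)
  rcases Cfsg.Agent.S0675.result (by rw [← Nat.card_eq_fintype_card, ← H.index_eq_card, hi]; norm_num) φ.range with h | h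
  · exact absurd (isSolvable_of_equiv (MonoidHom.ofInjective hφ)) (not_isSolvable_PSL2 (F := F) (by omega))
  · rw [is_two_pretransitive_iff] at h ⊢
    intro a b c d h1 h2
    obtain ⟨⟨_, g, rfl⟩, hg⟩ := h h1 h2
    exact ⟨g, hg⟩

end Cfsg.Agent.S2542
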