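import Cfsg.Statements.S2543
import Cfsg.Agent.Lib.Linear.PSL2Small
import Cfsg.Agent.Lib.Linear.PSL2Sub
import Cfsg.Agent.Lib.Linear.PSL2Klein
import Cfsg.Agent.Lib.Linear.AutAlt

set_option autoImplicit false
open scoped Pointwise
open Cfsg

namespace Cfsg.Agent.S2543

open Cfsg.Lib.Linear Subgroup MulAction

local notation "SL2" => Matrix.SpecialLinearGroup (Fin 2)

/-- Pairs satisfying the relations of `A₅`. -/
def PP (G : Type*) [Group G] : Type _ := {p : G × G // (p.1 ^ 2 = 1 ∧ p.1 ≠ 1) ∧ p.2 ^ 3 = 1 ∧ (p.1 * p.2) ^ 5 = 1}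

theorem closure_a5 : closure {a5x, a5y} = ⊤ := by
  obtain ⟨φ, h1, -⟩ := exists_hom_A5 (G := closure {a5x, a5y}) (x := ⟨a5x, subset_closure (by simp)⟩)
    (y := ⟨a5y, subset_closure (by simp)⟩) (Subtype.ext (by decide)) (Subtype.ext (by decide)) (Subtype.ext (by decide))
  refine eq_top_of_le_card _ (Nat.card_le_card_of_injective φ (injective_of_simple φ (v := a5x) fun h => ?_))
  exact absurd (congrArg Subtype.val (h1.symm.trans h)) (by decide)

theorem card_PP (G : Type*) [Group G] :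
    Nat.card (PP G) = Nat.card {φ : alternatingGroup (Fin 5) →* G // Function.Injective φ} := by
  symm
  refine Nat.card_eq_of_bijective (fun φ => ⟨(φ.1 a5x, φ.1 a5y), ⟨?_, (map_ne_one_iff _ φ.2).2 (by decide)⟩, ?_, ?_⟩) ⟨?_, ?_⟩
  · rw [← map_pow, show a5x ^ 2 = 1 by decide, map_one]
  · rw [← map_pow, show a5y ^ 3 = 1 by decide, map_one]
  · rw [← map_mul, ← map_pow, show (a5x * a5y) ^ 5 = 1 by decide, map_one]
  · intro φ ψ h
    have := Prod.mk.inj (congrArg Subtype.val h)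
    exact Subtype.ext (MonoidHom.eq_of_eqOn_dense closure_a5 (by rintro _ (rfl | rfl); exacts [this.1, this.2]))
  · rintro ⟨⟨x, y⟩, ⟨h1, h2⟩, h3, h4⟩
    obtain ⟨φ, a, b⟩ := exists_hom_A5 (sq x ▸ h1) h3 h4
    exact ⟨⟨φ, injective_of_simple φ (a ▸ h2)⟩, Subtype.ext (Prod.ext a b)⟩

theorem card_PP_eq (G : Type*) [Group G] [Finite G] :
    Nat.card (PP G) = Nat.card {H : Subgroup G // Nonempty (H ≃* alternatingGroup (Fin 5))} * 120 := by
  have : Finite (alternatingGroup (Fin 5) →* G) := DFunLike.finite _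
  rw [card_PP]
  refine card_eq_mul_of_fibers (fun φ => ⟨φ.1.range, ⟨(MonoidHom.ofInjective φ.2).symm⟩⟩) ?_
  rintro ⟨H, ⟨e⟩⟩
  rw [show 120 = Nat.card (Equiv.Perm (Fin 5)) by rw [Nat.card_perm]; simp [Nat.factorial],
    Nat.card_eq_of_bijective _ (conjNormal_alt_bijective (by simp) (by simp))]
  symm
  refine Nat.card_eq_of_bijective (fun α => ⟨⟨H.subtype.comp (α.trans e.symm).toMonoidHom,
    H.subtype_injective.comp (α.trans e.symm).injective⟩, Subtype.ext ?_⟩) ⟨fun α β h => MulEquiv.ext fun g => ?_, ?_⟩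
  · simp [MonoidHom.range_comp, ← MonoidHom.range_eq_map]
  · exact e.symm.injective (Subtype.ext (DFunLike.congr_fun (congrArg (fun x => x.1.1) h) g))
  · rintro ⟨⟨φ, hφ⟩, h⟩
    obtain rfl : φ.range = H := congrArg Subtype.val h
    exact ⟨(MonoidHom.ofInjective hφ).trans e, Subtype.ext (Subtype.ext (MonoidHom.ext fun g => by
      simp [MonoidHom.ofInjective_apply]))⟩

instance fact11 : Fact (Nat.Prime 11) := ⟨by norm_num⟩

theorem card_sl (p : ZMod 11 → ZMod 11 → ZMod 11 → ZMod 11 → Prop) [∀ a b c d, Decidable (p a b c d)] :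
    Nat.card {g : SL2 (ZMod 11) // p (g 0 0) (g 0 1) (g 1 0) (g 1 1)} = (Finset.univ.filter
      fun a : (ZMod 11 × ZMod 11) × ZMod 11 × ZMod 11 => a.1.1 * a.2.2 - a.1.2 * a.2.1 = 1 ∧ p a.1.1 a.1.2 a.2.1 a.2.2).card := by
  rw [← Fintype.card_subtype, ← Nat.card_eq_fintype_card]
  refine Nat.card_eq_of_bijective (fun g => ⟨((g.1 0 0, g.1 0 1), g.1 1 0, g.1 1 1), by
    rw [← Matrix.det_fin_two]; exact g.1.2, g.2⟩) ⟨fun g h e => ?_, fun a => ⟨⟨slMat _ _ _ _ a.2.1, a.2.2⟩, rfl⟩⟩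
  simp only [Subtype.mk.injEq, Prod.mk.injEq] at e
  ext i j
  fin_cases i <;> fin_cases j
  exacts [e.1.1, e.1.2, e.2.1, e.2.2]

theorem card_PP_eleven : Nat.card (PP (PSL2 (ZMod 11))) = 55 * 48 := by
  have h2 : (2 : ZMod 11) ≠ 0 := by decide
  have hI : ∀ g : SL2 (ZMod 11), ((g : PSL2 (ZMod 11)) ^ 2 = 1 ∧ (g : PSL2 (ZMod 11)) ≠ 1) ↔ tr2 g = 0 := fun g => by
    rw [psl2_sq_eq_one_iff]
    refine ⟨fun h => h.1.resolve_right h.2, fun h => ⟨.inl h, fun e => ?_⟩⟩
    have := tr2_sq_of_mk_eq_one e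
    rw [h] at this; exact absurd this (by decide)
  have c1 : Nat.card {x : PSL2 (ZMod 11) // x ^ 2 = 1 ∧ x ≠ 1} = 55 := by
    have := card_preimage_psl2_mk h2 {x | x ^ 2 = 1 ∧ x ≠ 1}
    simp only [Set.mem_ofPred_eq] at this
    rw [Nat.card_congr (Equiv.subtypeEquivRight hI)] at this
    simp only [tr2] at this
    rw [(card_sl fun a _ _ d => a + d = 0).trans (b := _) (c := 110)
      (by decide +kernel)] at this
    exact Nat.eq_of_mul_eq_mul_left two_pos this.symm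
  let x : SL2 (ZMod 11) := slMat 0 1 (-1) 0 (by simp)
  have hx := (hI x).2 (by rw [tr2_slMat, add_zero])
  have c2 : Nat.card {y : PSL2 (ZMod 11) // y ^ 3 = 1 ∧ (x * y) ^ 5 = 1} = 48 := by
    have := card_preimage_psl2_mk h2 {y | y ^ 3 = 1 ∧ (x * y) ^ 5 = 1}
    simp only [Set.mem_ofPred_eq] at this
    have e : ∀ y : SL2 (ZMod 11), ((y : PSL2 (ZMod 11)) ^ 3 = 1 ∧ (x * y : PSL2 (ZMod 11)) ^ 5 = 1) ↔
        ((y 0 0 + y 1 1) ^ 2 - 1 = 0 ∧ (y 1 0 - y 0 1) ^ 4 - 3 * (y 1 0 - y 0 1) ^ 2 + 1 = 0) := fun y => by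
      have t : tr2 (x * y) = y 1 0 - y 0 1 := by
        rw [tr2_eq_trace, Matrix.SpecialLinearGroup.coe_mul]
        simp [x, Matrix.trace_fin_two, Matrix.vecMul, dotProduct, sub_eq_add_neg]
      rw [← t]
      refine ⟨fun h => ⟨(psl2_pow_three_eq_one_iff.1 h.1).resolve_right fun e => hx.2 ?_,
        (psl2_pow_five_eq_one_iff.1 h.2).resolve_right fun e => hx.2 ?_⟩, fun h =>
        ⟨psl2_pow_three_eq_one_iff.2 (.inl h.1), psl2_pow_five_eq_one_iff.2 (.inl h.2)⟩⟩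
      · have := h.2
        rwa [e, mul_one, pow_succ, show 4 = 2 * 2 from rfl, pow_mul, hx.1, one_pow, one_mul] at this
      · have := h.1
        rwa [eq_inv_of_mul_eq_one_right (a := (x : PSL2 (ZMod 11))) (b := y) e, inv_pow, pow_succ, hx.1, one_mul, inv_eq_one] at this
    rw [Nat.card_congr (Equiv.subtypeEquivRight e), (card_sl fun a b c d => (a + d) ^ 2 - 1 = 0 ∧
      (c - b) ^ 4 - 3 * (c - b) ^ 2 + 1 = 0).trans (b := _) (c := 96) (by decide +kernel)] at this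
    exact Nat.eq_of_mul_eq_mul_left two_pos this.symm
  have : Finite (PP (PSL2 (ZMod 11))) := Subtype.finite
  rw [← c1]
  refine card_eq_mul_of_fibers (fun p => ⟨p.1.1, p.2.1⟩) fun z => ?_
  obtain ⟨g, hg⟩ := isConj_iff.1 (psl2_isConj_of_orderOf_two h2 (orderOf_eq_prime z.2.1 z.2.2) (orderOf_eq_prime hx.1 hx.2))
  rw [← c2]
  refine Nat.card_eq_of_bijective (fun p => ⟨g * p.1.1.2 * g⁻¹, by rw [conj_pow, p.1.2.2.1]; simp, by
    have e : (x : PSL2 (ZMod 11)) * (g * p.1.1.2 * g⁻¹) = g * (p.1.1.1 * p.1.1.2) * g⁻¹ := by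
      rw [← conj_mul, show p.1.1.1 = z from congrArg Subtype.val p.2, hg]
    rw [e, conj_pow, p.1.2.2.2]; simp⟩) ⟨fun p q h => Subtype.ext (Subtype.ext (Prod.ext
      (congrArg Subtype.val (p.2.trans q.2.symm)) (by simpa using h))), fun y => ⟨⟨⟨(z, g⁻¹ * y * g), z.2, ?_, ?_⟩, rfl⟩, ?_⟩⟩
  · simpa [y.2.1] using conj_pow (a := g⁻¹) (b := y.1) (i := 3)
  · rw [show z.1 * (g⁻¹ * y * g) = g⁻¹ * (g * z * g⁻¹ * y) * g⁻¹⁻¹ by group, conj_pow, hg, y.2.2]; simp
  · exact Subtype.ext (by simp [mul_assoc])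

/-- Let F be a field with 11 elements. PSL_2(F) has exactly 22 subgroups isomorphic to the alternating group A_5, and they form two conjugacy classes: there are two such subgroups that are not conjugate, and every such subgroup is conjugate to one of these two. -/
theorem result {F : Type*} [Field F] [Fintype F] (hF : Fintype.card F = 11) : Nat.card {H : Subgroup (Matrix.ProjectiveSpecialLinearGroup (Fin 2) F) // Nonempty (H ≃* alternatingGroup (Fin 5))} = 22 ∧ ∃ H K : Subgroup (Matrix.ProjectiveSpecialLinearGroup (Fin 2) F), Nonempty (H ≃* alternatingGroup (Fin 5)) ∧ Nonempty (K ≃* alternatingGroup (Fin 5)) ∧ (∀ g : Matrix.ProjectiveSpecialLinearGroup (Fin 2) F, MulAut.conj g • H ≠ K) ∧ ∀ L : Subgroup (Matrix.ProjectiveSpecialLinearGroup (Fin 2) F), Nonempty (L ≃* alternatingGroup (Fin 5)) → ∃ g : Matrix.ProjectiveSpecialLinearGroup (Fin 2) F, MulAut.conj g • L = H ∨ MulAut.conj g • L = K := by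
  rw [← Nat.card_eq_fintype_card] at hF
  obtain ⟨e⟩ := nonempty_psl_equiv_of_card_eq (ι := Fin 2) (F := F) (K := ZMod 11) (by rw [hF]; simp)
  have hc : Nat.card {H : Subgroup (PSL2 F) // Nonempty (H ≃* alternatingGroup (Fin 5))} = 22 := by
    have := card_PP_eq (PSL2 F)
    rw [card_PP, Nat.card_congr ((e.monoidHomCongrRightEquiv (M := alternatingGroup (Fin 5))).subtypeEquiv
      (p := fun φ : _ →* _ => Function.Injective φ) (q := fun φ : _ →* _ => Function.Injective φ) fun φ =>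
      (e.injective.of_comp_iff φ).symm), ← card_PP, card_PP_eleven] at this
    omega
  refine ⟨hc, ?_⟩
  have hG := card_PSL_two_of_odd (F := F) (by rw [hF]; decide)
  rw [hF] at hG
  have := isSimpleGroup_PSL2 (F := F) (by omega)
  let S : Set (Subgroup (PSL2 F)) := {H | Nonempty (H ≃* alternatingGroup (Fin 5))}
  have hS : S.ncard = 22 := hc
  let O : Subgroup (PSL2 F) → Set (Subgroup (PSL2 F)) := fun V => {W | ∃ g, W = V.map (MulAut.conj g).toMonoidHom}
  have h1 : ∀ V ∈ S, O V ⊆ S := by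
    rintro V ⟨f⟩ _ ⟨g, rfl⟩
    exact ⟨(V.equivMapOfInjective _ (MulAut.conj g).injective).symm.trans f⟩
  have h2 : ∀ V ∈ S, (O V).ncard = 11 := by
    rintro V ⟨f⟩
    have hV : Nat.card V = 60 := (Nat.card_congr f.toEquiv).trans card_A5
    have h3 := ncard_conj_mul_card_normalizer V
    have h4 := card_dvd_of_le (V.le_normalizer)
    rw [hV] at h4
    obtain ⟨k, hk⟩ := h4
    have : (O V).ncard * k = 11 := by rw [hk] at h3; nlinarith
    refine ((Nat.dvd_prime (by norm_num)).1 (Dvd.intro _ this)).resolve_left fun h => ?_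
    have hN : normalizer (V : Set (PSL2 F)) = ⊤ := eq_top_of_card_eq _ (by rw [← h3]; simp only [O] at h; rw [h, one_mul])
    rcases (normalizer_eq_top_iff.1 hN).eq_bot_or_eq_top with rfl | rfl
    · simp at hV
    · rw [card_top] at hV
      change Nat.card (Matrix.ProjectiveSpecialLinearGroup (Fin 2) F) = _ at hV
      omega
  have h3 : ∀ (V W : Subgroup (PSL2 F)) g, W = V.map (MulAut.conj g).toMonoidHom → MulAut.conj g⁻¹ • W = V := by
    rintro V _ g rfl
    exact (congrArg (· • _) (map_inv _ g)).trans (inv_smul_smul (MulAut.conj g) V)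
  obtain ⟨H, hH⟩ := Set.nonempty_of_ncard_ne_zero (s := S) (by omega)
  obtain ⟨K, hK, hK'⟩ := Set.exists_mem_notMem_of_ncard_lt_ncard (s := O H) (t := S) (by rw [h2 H hH]; omega)
  refine ⟨H, K, hH, hK, fun g h => hK' ⟨g, h.symm⟩, fun L hL => ?_⟩
  have hd : Disjoint (O H) (O K) := Set.disjoint_left.2 fun W ⟨a, ha⟩ ⟨b, hb⟩ => hK' ⟨b⁻¹ * a, by
    rw [← h3 K W b hb, ha, map_mul]; exact (mul_smul _ _ H).symm⟩
  have : O H ∪ O K = S := Set.eq_of_subset_of_ncard_le (Set.union_subset (h1 H hH) (h1 K hK))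
    (by rw [Set.ncard_union_eq hd, h2 H hH, h2 K hK, hS])
  rcases this.ge hL with ⟨g, h⟩ | ⟨g, h⟩
  exacts [⟨g⁻¹, .inl (h3 _ _ g h)⟩, ⟨g⁻¹, .inr (h3 _ _ g h)⟩]

end Cfsg.Agent.S2543
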