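import Cfsg.Statements.S2548
import Cfsg.Agent.Lib.Stein.Classical
import Cfsg.Agent.Lib.Stein.SL
import Cfsg.Agent.Lib.Forms.Exc
import Cfsg.Agent.Lib.Linear.PSL2Sub

set_option autoImplicit false
open Cfsg

namespace Cfsg.Agent.S2548
open Cfsg.Lib.Stein Cfsg.Lib.Forms Cfsg.Lib.Linear Cfsg.Lib.Char Subgroup Matrix

open scoped commutatorElement

theorem aux {G T : Type*} [Group G] [Group T] (s : T ≃* Equiv.Perm (Fin 3)) (hG : Nat.card G = 72) {ρ : T × T →* G}
    (h1 : Function.Injective ρ) {τ : G} (h2 : ∀ a b, τ * ρ (a, b) * τ⁻¹ = ρ (b, a)) :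
    Nat.card (commutator G) ∣ 18 ∧ ∃ f : commutator G ⧸ center (commutator G) →* T, Function.Surjective f := by
  have : Finite G := Nat.finite_of_card_ne_zero (by omega)
  have h3 : Nat.card (T × T) = 36 := by simp [Nat.card_congr s.toEquiv, Fintype.card_perm, Nat.factorial]
  have h4 : ρ.range.index = 2 := by
    have := ρ.range.card_mul_index
    rw [← Nat.card_congr (MonoidHom.ofInjective h1).toEquiv, h3] at this; omega
  have h5 : τ ∉ ρ.range := fun ⟨c, e⟩ => by
    simpa [← e, ← map_inv, ← map_mul, h1.eq_iff, Prod.ext_iff] using h2 1 (s.symm (Equiv.swap 0 1))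
  let φ : T × T →* ℤˣ := (Equiv.Perm.sign.comp s.toMonoidHom).coprod (Equiv.Perm.sign.comp s.toMonoidHom)
  have h6 : φ.ker.index = 2 := by
    rw [index_ker, MonoidHom.range_eq_top.2 fun u => (Equiv.Perm.sign_surjective (Fin 3) u).elim fun a e => ⟨(s.symm a, 1), by simp [φ, e]⟩]
    simp
  have h7 : Nat.card (φ.ker.map ρ) = 18 := by have := h6 ▸ φ.ker.card_mul_index; rw [card_map_of_injective h1]; omega
  have h8 : ∀ g ∈ ρ.range, ∀ x ∈ φ.ker.map ρ, g * x * g⁻¹ ∈ φ.ker.map ρ := by
    rintro _ ⟨g, rfl⟩ _ ⟨x, hx, rfl⟩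
    exact ⟨_, φ.normal_ker.conj_mem x hx g, by simp⟩
  have : (φ.ker.map ρ).Normal := ⟨fun x hx g => by_cases (h8 g · x hx) fun e => by
    obtain ⟨⟨a, b⟩, hx, rfl⟩ := hx
    simpa [← h2 a b, mul_assoc] using h8 _ ((mul_mem_iff_of_index_two h4).2 (iff_of_false e (mt (inv_mem_iff (x := τ)).1 h5))) _
      ⟨(b, a), by simpa [φ, mul_comm] using hx, rfl⟩⟩
  have h9 : commutator G ≤ φ.ker.map ρ := Normal.quotient_commutative_iff_commutator_le.1
    (IsPGroup.isMulCommutative_of_card_eq_prime_sq (p := 2) (by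
      have := h7 ▸ (φ.ker.map ρ).card_mul_index; rw [← index_eq_card]; omega))
  let f : commutator G →* T := (MonoidHom.fst ..).comp ((MonoidHom.ofInjective h1).symm.toMonoidHom.comp
    (inclusion (h9.trans (map_le_range ..))))
  have h10 : Function.Surjective f := fun a => ⟨⟨ρ (a, a⁻¹), by
    simpa [commutatorElement_def, mul_assoc (ρ _), ← map_inv, h2, ← map_mul] using!
      commutator_mem_commutator (mem_top (ρ (a, 1))) (mem_top τ)⟩,
    congrArg Prod.fst ((MonoidHom.ofInjective h1).symm_apply_apply (a, a⁻¹))⟩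
  refine ⟨h7 ▸ card_dvd_of_le h9, QuotientGroup.lift _ f fun z hz => s.injective ((map_one s).symm ▸
    (by decide : ∀ a : Equiv.Perm (Fin 3), (∀ b, b * a = a * b) → a = 1) _ (s.surjective.forall.2 (h10.forall.2 fun b => ?_))),
    QuotientGroup.lift_surjective_of_surjective _ _ h10 _⟩
  rw [← map_mul, ← map_mul, ← map_mul, ← map_mul, mem_center_iff.1 hz]

/-- Let F be a finite field of characteristic p and consider the group PΩ⁺_{2m}(F) of the hyperbolic quadratic form Σ x_i y_i with m ≥ 1, where Ω denotes the commutator subgroup of the full isometry group. This group has an irreducible complex character χ whose degree equals the order of a Sylow p-subgroup (equal to q^(m(m−1)) when #F = q, except in the degenerate case m = 2, q = 2, where this commutator subgroup has order 18 and its Sylow 2-subgroups have order 2) and whose restriction to any Sylow p-subgroup P is the regular character of P: χ vanishes on the non-identity elements of P. (This is the Steinberg character.)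 -/
theorem result {F : Type*} [Field F] [Fintype F] (p : ℕ) [Fact p.Prime] [CharP F p] (m : ℕ) (hm : 1 ≤ m) : ∃ χ : Cfsg.POmega F (Cfsg.quadFormPlus m F) → ℂ, Cfsg.IsIrrCharacter (Cfsg.POmega F (Cfsg.quadFormPlus m F)) χ ∧ ∀ P : Sylow p (Cfsg.POmega F (Cfsg.quadFormPlus m F)), χ 1 = Nat.card P ∧ ∀ x : Cfsg.POmega F (Cfsg.quadFormPlus m F), x ∈ P → x ≠ 1 → χ x = 0 := by
  have hD := fPlus_nondeg (F := F) m
  have := (fPlus F m).finite_isom
  have := Finite.of_equiv _ (pOmegaEquiv (fPlus F m)).symm.toEquiv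
  by_cases h : Nat.card F ≠ 2 ∨ Module.finrank F (Fin m ⊕ Fin m → F) ≠ 4
  · obtain ⟨R, h, -⟩ := exists_cl_quad (p := p) hD (Form.good_of_card h) (fPlus_hasTS m)
      (fun h => by have := h.two_mul_le hD; rw [finrank_plus] at this; omega) 0 (by rw [finrank_plus]; omega)
    exact (h.hasSplit.quot.equiv (pOmegaEquiv (fPlus F m)).symm).steinberg
  rw [finrank_plus] at h
  obtain ⟨hF, rfl⟩ : Nat.card F = 2 ∧ m = 2 := by omega
  have : CharP F 2 := charP_of_card_eq_prime_pow (f := 1) (Nat.card_eq_fintype_card (α := F) ▸ hF)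
  obtain rfl := CharP.eq F ‹CharP F p› this
  obtain ⟨ρ, h1, h2⟩ := exists_hom_plus_four F
  obtain ⟨s⟩ := sl2_two_equiv hF
  have hZ : ∀ g ∈ center (SpecialLinearGroup (Fin 2) F), g = 1 := fun g hg => s.injective ((map_one s).symm ▸
    (by decide : ∀ a : Equiv.Perm (Fin 3), (∀ b, b * a = a * b) → a = 1) _ (s.surjective.forall.2 fun b => by
      rw [← map_mul, ← map_mul, mem_center_iff.1 hg]))
  let τ := (fPlus F 2).refl (Pi.single (.inl 0) 1 + Pi.single (.inr 0) 1)
  have h3 : ∀ x, matFour _ (τ.1 x) = (matFour _ x).adjugate := fun x => by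
    ext i j
    fin_cases i <;> fin_cases j <;>
      simp [τ, matFour, Form.refl_apply, fPlus_B, fPlus_Q, quadFormPlus, CharTwo.neg_eq, CharTwo.add_self_eq_zero]
  obtain ⟨h4, f, h5⟩ := aux s (ρ := ρ) (τ := τ) (by rw [Quad.card_isom_plus hD (finrank_plus 2) (fPlus_hasTS 2), hF]; simp)
    ((injective_iff_map_eq_one ρ).2 fun g hg => have := (h2 g).1 ⟨1, fun x => by simp [hg]⟩
      Prod.ext (hZ _ this.1) (hZ _ this.2)) fun a b => mul_inv_eq_iff_eq_mul.2 (Form.isom_ext fun x => matFour_bijective.1 (by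
        simp [h1, h3, adjugate_mul_distrib, Matrix.mul_assoc, adjugate_adjugate]))
  obtain ⟨ψ, h6, h7⟩ := (hasGood_SL (F := F) 2 le_rfl).hasSplit.steinberg
  have h8 : Nat.card (SpecialLinearGroup (Fin 2) F) = 2 ^ 1 * 3 := by simp [Nat.card_congr s.toEquiv, Fintype.card_perm, Nat.factorial]
  have h9 := (h7 default).1.trans (congrArg _ (card_sylow_of_eq _ h8 (by decide)))
  replace h5 := h5.comp (pOmegaEquiv (fPlus F 2)).surjective
  have h10 := h6.comp (f.comp (pOmegaEquiv (fPlus F 2)).toMonoidHom) h5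
  obtain ⟨k, h11⟩ := h8 ▸ card_dvd_of_surjective (f.comp (pOmegaEquiv (fPlus F 2)).toMonoidHom) h5
  have h12 : ¬ 2 ∣ 3 * k := fun h => by
    have := h11 ▸ Nat.card_congr (pOmegaEquiv (fPlus F 2)).toEquiv ▸ (card_quotient_dvd_card _).trans h4
    exact absurd (((mul_dvd_mul_left 2 h).trans (mul_assoc 2 3 k).symm.dvd).trans this) (by decide)
  replace h9 := (congrArg ψ (map_one (f.comp (pOmegaEquiv (fPlus F 2)).toMonoidHom))).trans h9
  refine ⟨_, h10, fun Q => ⟨h9.trans (congrArg _ (card_sylow_of_eq Q (h11.trans (mul_assoc ..)) h12).symm), fun x hx e =>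
    Lib.Clifford.apply_eq_zero_of_defZero Nat.prime_two h10 ?_ ((PE.of_mem Q.2 hx).dvd e)⟩⟩
  rw [Lib.Clifford.DefZero, charDegree_eq_of_eq h9, h11, mul_assoc, Nat.factorization_mul (by simp) (by rintro e; simp [e] at h12)]
  simp [Nat.factorization_eq_zero_of_not_dvd h12]

end Cfsg.Agent.S2548
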