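import Cfsg.Statements.S2550
import Cfsg.Agent.Lib.Linear.SmallIso

set_option autoImplicit false
open Cfsg

namespace Cfsg.Agent.S2550

open Cfsg.Lib.Linear

/-- Let F be a field with 2 elements and K a field with 4 elements. PSL_4(F) and PSL_3(K) have the same order (20160) but are not isomorphic. -/
theorem result {F K : Type*} [Field F] [Fintype F] [Field K] [Fintype K] (hF : Fintype.card F = 2) (hK : Fintype.card K = 4) : Nat.card (Matrix.ProjectiveSpecialLinearGroup (Fin 4) F) = Nat.card (Matrix.ProjectiveSpecialLinearGroup (Fin 3) K) ∧ ¬ Nonempty (Matrix.ProjectiveSpecialLinearGroup (Fin 4) F ≃* Matrix.ProjectiveSpecialLinearGroup (Fin 3) K) := by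
  have hF' := Nat.card_eq_fintype_card.trans hF
  have hK' := Nat.card_eq_fintype_card.trans hK
  obtain ⟨e⟩ := psl4_two_equiv hF'
  constructor
  · have h1 := card_SL_fin (F := K) 2
    have h2 := gcd_mul_card_PSL (ι := Fin 3) (F := K)
    rw [hK'] at h1 h2
    rw [show (∏ i : Fin (2 + 1), (4 ^ (2 + 1) - 4 ^ (i : ℕ))) = 181440 by decide] at h1
    rw [show Nat.gcd (Fintype.card (Fin 3)) (4 - 1) = 3 by decide] at h2
    rw [Nat.card_congr e.toEquiv, card_A8]
    change _ * Nat.card (Matrix.SpecialLinearGroup (Fin 3) K) = _ at h1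
    omega
  · rintro ⟨f⟩
    let g : alternatingGroup (Fin 8) := ⟨Equiv.swap 0 1 * Equiv.swap 1 2 *
      (Equiv.swap 3 4 * Equiv.swap 4 5 * Equiv.swap 5 6 * Equiv.swap 6 7),
      Equiv.Perm.mem_alternatingGroup.2 (by decide +kernel)⟩
    have := psl_three_four_pow hK' (f (e.symm g))
    simp only [← map_pow, EmbeddingLike.map_eq_one_iff] at this
    revert this
    decide +kernel

end Cfsg.Agent.S2550
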