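import Cfsg.Statements.S2552
import Cfsg.Agent.Lib.Linear.Stab

set_option autoImplicit false
open Cfsg

namespace Cfsg.Agent.S2552

open Matrix Cfsg.Lib.Linear



/-- Let F be a finite field and n ≥ 1. For every k, the special linear group SL_n(F) acts transitively on the set of k-dimensional subspaces of F^n: any two subspaces of the same dimension are carried onto each other by some matrix of determinant 1. -/
theorem result {F : Type*} [Field F] [Fintype F] (n : ℕ) (hn : 1 ≤ n) (U₁ U₂ : Submodule F (Fin n → F)) (h : Module.finrank F U₁ = Module.finrank F U₂) : ∃ g : Matrix.SpecialLinearGroup (Fin n) F, U₁.map ((Matrix.SpecialLinearGroup.toLin' g : (Fin n → F) ≃ₗ[F] (Fin n → F)) : (Fin n → F) →ₗ[F] (Fin n → F)) = U₂ := by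
  obtain ⟨W₁, h₁⟩ := U₁.exists_isCompl
  obtain ⟨W₂, h₂⟩ := U₂.exists_isCompl
  have h' : Module.finrank F W₁ = Module.finrank F W₂ := by
    have := Submodule.finrank_add_eq_of_isCompl h₁
    have := Submodule.finrank_add_eq_of_isCompl h₂
    omega
  let e := (U₁.prodEquivOfIsCompl W₁ h₁).symm ≪≫ₗ ((LinearEquiv.ofFinrankEq _ _ h).prodCongr
    (LinearEquiv.ofFinrankEq _ _ h')) ≪≫ₗ U₂.prodEquivOfIsCompl W₂ h₂
  have he : ∀ x ∈ U₁, e x ∈ U₂ := fun x hx => by
    simp [e, Submodule.prodEquivOfIsCompl_symm_apply_left _ _ h₁ ⟨x, hx⟩]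
  obtain ⟨u, u0, hu⟩ : ∃ u : Fin n → F, u ≠ 0 ∧ (u ∈ U₂ ∨ U₂ = ⊥) := by
    by_cases h0 : U₂ = ⊥
    · have : Nonempty (Fin n) := ⟨⟨0, hn⟩⟩
      exact (exists_ne (0 : Fin n → F)).imp fun u hu => ⟨hu, .inr h0⟩
    · exact (Submodule.exists_mem_ne_zero_of_ne_bot h0).imp fun u hu => ⟨hu.2, .inl hu.1⟩
  set A := LinearMap.toMatrix' e.toLinearMap
  have hA : A.det ≠ 0 := by simpa [A] using (LinearEquiv.isUnit_det' e).ne_zero
  obtain ⟨ψ, -, hψ⟩ := exists_dotProduct_of_notMem (W := ⊥) u0 (A.det⁻¹ - 1)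
  refine ⟨⟨(1 + vecMulVec u ψ) * A, by rw [det_mul, det_one_add_vecMulVec, hψ]; field_simp; ring⟩,
    Submodule.eq_of_le_of_finrank_eq ?_ (by rw [LinearEquiv.finrank_map_eq, h])⟩
  rintro _ ⟨x, hx, rfl⟩
  have : ∀ y ∈ U₂, y + (ψ ⬝ᵥ y) • u ∈ U₂ := fun y hy => by
    rcases hu with hu | rfl
    · exact add_mem hy (U₂.smul_mem _ hu)
    · simp [(Submodule.mem_bot F).1 hy]
  have := this _ (he x hx)
  rw [← one_add_vecMulVec_mulVec] at this
  show ((1 + vecMulVec u ψ) * A) *ᵥ x ∈ U₂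
  simpa [← mulVec_mulVec, A] using this

end Cfsg.Agent.S2552
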