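import Cfsg.Statements.S2555
import Cfsg.Agent.Lib.SF.AutL2
import Cfsg.Agent.Lib.JTW.Main

set_option autoImplicit false
open Cfsg

namespace Cfsg.Agent.S2555

/-- Let G be a non-abelian finite simple group all of whose Sylow subgroups are abelian, r a prime dividing |G|, and α an automorphism of G whose order is a power of r. If α fixes some Sylow r-subgroup of G elementwise, then α is an inner automorphism. -/
theorem result {G : Type*} [Group G] [Finite G]
    [IsSimpleGroup G] (hna : ¬ IsMulCommutative G)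
    (hA : ∀ (p : ℕ), p.Prime → ∀ (P : Sylow p G), IsMulCommutative ↥P)
    (r : ℕ) [Fact r.Prime] (hr : r ∣ Nat.card G) (α : G ≃* G) (k : ℕ) (hα : orderOf α = r ^ k)
    (R : Sylow r G) (hR : ∀ x ∈ (R : Subgroup G), α x = x) :
    ∃ g : G, ∀ x : G, α x = g * x * g⁻¹ := by
  refine Lib.SF.s2555 hna hA ?_ r hr α k hα R hR
  obtain ⟨S⟩ : Nonempty (Sylow 2 G) := inferInstance
  rcases Lib.Wal.walter hna (Lib.Amalg.syl_top S) (hA 2 Nat.prime_two S) with
    ⟨F, _, _, -, -, e⟩ | ⟨F, _, _, -, e⟩ | ⟨t, E, K, j⟩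
  · exact Or.inr ⟨F, inferInstance, inferInstance, e⟩
  · exact Or.inr ⟨F, inferInstance, inferInstance, e⟩
  obtain ⟨-, h | ⟨F, _, _, m, hm, hF, -, ⟨-, -, χ, h1, h2⟩, -, P, H, b, h3⟩⟩ := Lib.JTW.jtw j
  · exact Or.inl h
  · refine absurd (hA 3 Nat.prime_three b.syl.toSylowTop) (b.not_comm ?_ h3 h1 h2)
    rw [hF, pow_succ]
    exact Nat.le_mul_of_pos_left 3 (by positivity)

end Cfsg.Agent.S2555
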