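import Cfsg.Statements.S2556
import Cfsg.Agent.Lib.U3.Aut
import Cfsg.Agent.Lib.BN.SzModel
import Cfsg.Agent.Lib.PGrp.OmegaBasic

set_option autoImplicit false
open Cfsg

namespace Cfsg.Agent.S2556

section
set_option linter.unusedSectionVars false
open Cfsg.Lib Cfsg.Lib.BN.Sz Finset

variable {F : Type*} [Field F]

section ded
variable [Fintype (F ≃+* F)]

theorem ded1 {c : (F ≃+* F) → F} (h : ∀ x, ∑ φ, c φ * φ x = 0) (φ : F ≃+* F) : c φ = 0 := by
  have := (linearIndependent_monoidHom F F).comp (fun φ : F ≃+* F => (φ : F →* F))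
    fun φ ψ e => RingEquiv.ext fun x => DFunLike.congr_fun e x
  exact Fintype.linearIndependent_iff.1 this c (funext fun x => by simpa using h x) φ

theorem ded2 {c : (F ≃+* F) → (F ≃+* F) → F} (h : ∀ x y, ∑ φ, ∑ ψ, c φ ψ * φ x * ψ y = 0) (φ ψ : F ≃+* F) :
    c φ ψ = 0 := by
  refine ded1 (c := c φ) (fun y => ded1 (c := fun φ => ∑ ψ, c φ ψ * ψ y) (fun x => ?_) φ) ψ
  rw [← h x y]
  refine sum_congr rfl fun φ _ => ?_
  rw [sum_mul]
  exact sum_congr rfl fun ψ _ => by ring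

theorem alt (h2 : (2 : F) = 0) (hs : ∀ y : F, ∃ x, x * x = y) {c : (F ≃+* F) → (F ≃+* F) → F}
    (h : ∀ x, ∑ φ, ∑ ψ, c φ ψ * φ x * ψ x = 0) : (∀ φ ψ, c φ ψ = c ψ φ) ∧ ∀ φ, c φ φ = 0 := by
  classical
  have h1 : ∀ φ ψ, c φ ψ = c ψ φ := fun φ ψ => by
    have := ded2 (c := fun φ ψ => c φ ψ + c ψ φ) (fun x y => by
      have e := h (x + y)
      simp only [map_add, mul_add, add_mul, sum_add_distrib, h, zero_add, add_zero] at e ⊢
      rw [← e, add_comm, sum_comm]
      congr 1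
      exact sum_congr rfl fun φ _ => sum_congr rfl fun ψ _ => by ring) φ ψ
    linear_combination this - c ψ φ * h2
  refine ⟨h1, ded1 fun y => ?_⟩
  obtain ⟨x, rfl⟩ := hs y
  have e : ∑ p : (F ≃+* F) × (F ≃+* F), (if p.1 = p.2 then 0 else c p.1 p.2 * p.1 x * p.2 x) = 0 :=
    sum_involution (fun p _ => p.swap) (fun p _ => by
      by_cases hp : p.1 = p.2
      · simp [hp]
      · simp only [Prod.fst_swap, Prod.snd_swap, if_neg hp, if_neg (Ne.symm hp), h1 p.2 p.1]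
        linear_combination c p.1 p.2 * p.1 x * p.2 x * h2)
      (fun p _ hp e => hp (by rw [if_pos (show p.1 = p.2 from congrArg Prod.snd e)])) (fun _ _ => mem_univ _) fun _ _ => rfl
  rw [Fintype.sum_prod_type] at e
  rw [← h x, ← add_zero (∑ φ, c φ φ * φ (x * x)), ← e, ← sum_add_distrib]
  refine sum_congr rfl fun φ _ => ?_
  rw [← sum_erase_add _ _ (mem_univ φ), ← sum_erase_add _ _ (mem_univ φ), if_pos rfl, add_zero, add_comm, map_mul,
    mul_assoc]
  congr 1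
  exact sum_congr rfl fun ψ hψ => if_neg (ne_of_mem_erase hψ).symm

end ded

variable {m : ℕ} [hF : SzField F m]

variable (F m) in
include hF in
theorem two : (2 : F) = 0 := by
  have := charP (F := F) m
  exact CharTwo.two_eq_zero

variable (F m) in
include hF in
theorem card_add : Nat.card (F →+ F) = 2 ^ ((2 * m + 1) ^ 2) := by
  have := hF.finite
  have h : ∀ x : F, 2 • x = 0 := fun x => by rw [two_nsmul, ← two_mul, two F m, zero_mul]
  rw [sq, U3.Aut.card_hom h h hF.card_eq hF.card_eq]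

variable (F m) in
include hF in
theorem card_aut : Nat.card (F ≃+* F) = 2 * m + 1 := by
  have := hF.finite
  have := charP (F := F) m
  exact U3.Aut.card_aut (p := 2) hF.card_eq

variable (m) in
include hF in
theorem expand [Fintype (F ≃+* F)] (A : F →+ F) : ∃ a : (F ≃+* F) → F, ∀ x, A x = ∑ φ, a φ * φ x := by
  have := hF.finite
  let Ψ : ((F ≃+* F) → F) → (F →+ F) := fun a => AddMonoidHom.mk' (fun x => ∑ φ, a φ * φ x) fun x y => by
    simp only [map_add, mul_add, sum_add_distrib]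
  have hi : Function.Injective Ψ := fun a b e => funext fun φ => sub_eq_zero.1 (ded1 (c := fun φ => a φ - b φ)
    (fun x => by
      simp only [sub_mul, sum_sub_distrib]
      exact sub_eq_zero.2 (DFunLike.congr_fun e x)) φ)
  have : Finite (F →+ F) := DFunLike.finite _
  obtain ⟨a, ha⟩ := ((Nat.bijective_iff_injective_and_card Ψ).2 ⟨hi, by
    rw [Nat.card_fun, card_aut F m, card_add F m, hF.card_eq, ← pow_mul, sq]⟩).2 A
  exact ⟨a, fun x => by rw [← ha]; rfl⟩

theorem aut_σ (φ : F ≃+* F) (a : F) : φ (σ m a) = σ m (φ a) := by rw [σ_def, σ_def, map_pow]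

theorem mono (A B : F →+ F) (h : ∀ x, B (σ m x * x) = σ m (A x) * A x) (h1 : A 1 ≠ 0) :
    ∃ (c : F) (φ : F ≃+* F), ∀ x, A x = c * φ x := by
  classical
  have := hF.finite
  have : Finite (F ≃+* F) := DFunLike.finite _
  have := Fintype.ofFinite (F ≃+* F)
  have h2 := two F m
  obtain ⟨a, ha⟩ := expand m A
  obtain ⟨b, hb⟩ := expand m B
  let θ : F ≃+* F := ⟨⟨σ m, ρ m, ρ_σ m, σ_ρ m⟩, map_mul _, map_add _⟩
  have hθ : ∀ x, θ x = σ m x := fun _ => rfl
  have cm : ∀ φ : F ≃+* F, φ * θ = θ * φ := fun φ => RingEquiv.ext fun x => aut_σ φ x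
  have t1 : θ ≠ 1 := fun e => let ⟨x, hx⟩ := exists_σ_ne (F := F) m; hx (DFunLike.congr_fun e x)
  clear_value θ
  obtain ⟨e1, e2⟩ := alt h2 (fun y => ⟨ρ m (ρ m y), by rw [← sq, ρ_ρ_sq]⟩)
    (c := fun φ χ => a φ * θ (a (θ⁻¹ * χ)) + if χ = φ * θ then b φ else 0) fun x => by
      have e3 : ∑ χ, θ (a (θ⁻¹ * χ)) * χ x = σ m (A x) := by
        rw [← Equiv.sum_comp (Equiv.mulLeft θ), ha, ← hθ, map_sum]
        exact sum_congr rfl fun ψ _ => by simp [map_mul]
      have e4 : ∑ φ, ∑ χ, (if χ = φ * θ then b φ else 0) * φ x * χ x = B (σ m x * x) := by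
        rw [hb]
        refine sum_congr rfl fun φ _ => ?_
        simp only [ite_mul, zero_mul, sum_ite_eq', mem_univ, if_true, map_mul, RingAut.mul_apply, hθ]
        ring
      simp only [add_mul, sum_add_distrib]
      rw [e4, h, ← e3, ha, mul_comm, sum_mul_sum]
      have : ∀ φ χ : F ≃+* F, a φ * θ (a (θ⁻¹ * χ)) * φ x * χ x = a φ * φ x * (θ (a (θ⁻¹ * χ)) * χ x) :=
        fun _ _ => by ring
      simp only [this]
      rw [← two_mul, h2, zero_mul]
  have D : ∀ ψ, a ψ ≠ 0 → a (θ * ψ) = 0 := fun ψ hψ => by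
    have := e2 (θ * ψ)
    rw [if_neg (by simpa using t1), inv_mul_cancel_left, add_zero] at this
    exact (mul_eq_zero.1 this).resolve_right (by simpa using hψ)
  have K : ∀ φ ψ, a φ ≠ 0 → a ψ ≠ 0 → φ ≠ ψ → φ = θ * ψ * θ := fun φ ψ hφ hψ hne => by
    by_contra hc
    have := e1 φ (θ * ψ)
    rw [if_neg (by rw [cm]; simpa using hne.symm), if_neg hc, D ψ hψ, inv_mul_cancel_left] at this
    simp [hφ, hψ] at this
  obtain ⟨φ, hφ⟩ : ∃ φ, a φ ≠ 0 := by
    by_contra hc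
    push Not at hc
    exact h1 (by simp [ha, hc])
  refine ⟨a φ, φ, fun x => ?_⟩
  rw [ha, sum_eq_single φ (fun ψ _ hne => ?_) (by simp)]
  by_cases hψ : a ψ = 0
  · rw [hψ, zero_mul]
  exfalso
  have k1 := K φ ψ hφ hψ hne.symm
  have k2 := K ψ φ hψ hφ hne
  have k3 : ∀ y : F, y ^ 4 = y := fun y => by
    obtain ⟨y, rfl⟩ := φ.surjective y
    have := DFunLike.congr_fun k1 y
    rw [k2] at this
    simp only [RingAut.mul_apply, hθ, σ_σ, map_pow] at this
    rw [← pow_mul] at this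
    exact this.symm
  obtain ⟨k, k0, k1⟩ := exists_ne_zero_ne_one (F := F) m
  have k4 : ∀ j, k ^ 4 ^ j = k := fun j => by
    induction j with
    | zero => simp
    | succ j ih => rw [pow_succ, pow_mul, ih, k3]
  have k5 := pow_card m k
  rw [pow_succ, pow_mul 2, pow_mul, show 2 ^ 2 = 4 from rfl, k4, sq] at k5
  exact k1 (mul_left_cancel₀ k0 (k5.trans (mul_one k).symm))

variable (F m) in
/-- A model of the Sylow `2`-subgroup of the Suzuki group. -/
@[ext] structure SQ [SzField F m] where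
  a : F
  b : F

instance instGroupSQ : Group (SQ F m) where
  mul x y := ⟨x.a + y.a, x.b + y.b + σ m x.a * y.a⟩
  one := ⟨0, 0⟩
  inv x := ⟨x.a, x.b + σ m x.a * x.a⟩
  mul_assoc x y z := SQ.ext (add_assoc _ _ _) (by
    change x.b + y.b + σ m x.a * y.a + z.b + σ m (x.a + y.a) * z.a =
      x.b + (y.b + z.b + σ m y.a * z.a) + σ m x.a * (y.a + z.a)
    rw [map_add]; ring)
  one_mul x := SQ.ext (zero_add _) (by change 0 + x.b + σ m 0 * x.a = _; simp)
  mul_one x := SQ.ext (add_zero _) (by change x.b + 0 + σ m x.a * 0 = _; simp)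
  inv_mul_cancel x := SQ.ext (by change x.a + x.a = 0; linear_combination x.a * two F m) (by
    change x.b + σ m x.a * x.a + x.b + σ m x.a * x.a = 0
    linear_combination (x.b + σ m x.a * x.a) * two F m)

theorem mul_a (x y : SQ F m) : (x * y).a = x.a + y.a := rfl
theorem mul_b (x y : SQ F m) : (x * y).b = x.b + y.b + σ m x.a * y.a := rfl

theorem sq_eq (x : SQ F m) : x * x = ⟨0, σ m x.a * x.a⟩ :=
  SQ.ext (by rw [mul_a]; linear_combination x.a * two F m) (by rw [mul_b]; linear_combination x.b * two F m)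

theorem sq_eq_one {x : SQ F m} : x * x = 1 ↔ x.a = 0 := by
  rw [sq_eq]
  exact ⟨fun e => by simpa using congrArg SQ.b e |>.trans (show (1 : SQ F m).b = 0 from rfl),
    fun e => by rw [e, mul_zero]; rfl⟩

theorem a_eq_zero (α : MulAut (SQ F m)) (b : F) : (α ⟨0, b⟩).a = 0 :=
  sq_eq_one.1 (by rw [← map_mul, sq_eq_one.2 rfl, map_one])

theorem dec (x : SQ F m) : x = ⟨0, x.b⟩ * ⟨x.a, 0⟩ := SQ.ext (zero_add _).symm (by simp [mul_b])

/-- The map induced on the centre. -/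
def B (α : MulAut (SQ F m)) : F →+ F := AddMonoidHom.mk' (fun b => (α ⟨0, b⟩).b) fun b c => by
  rw [show (⟨0, b + c⟩ : SQ F m) = ⟨0, b⟩ * ⟨0, c⟩ from SQ.ext (zero_add _).symm (by simp [mul_b]), map_mul, mul_b,
    a_eq_zero, a_eq_zero, mul_zero, add_zero]

theorem A_a' (α : MulAut (SQ F m)) (x : SQ F m) : (α ⟨x.a, 0⟩).a = (α x).a := by
  conv_rhs => rw [dec x, map_mul, mul_a, a_eq_zero, zero_add]

/-- The map induced on the quotient by the centre. -/
def A (α : MulAut (SQ F m)) : F →+ F := AddMonoidHom.mk' (fun a => (α ⟨a, 0⟩).a) fun a c => by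
  rw [← mul_a, ← map_mul, ← A_a' α (_ * _)]; rfl

theorem A_a (α : MulAut (SQ F m)) (x : SQ F m) : A α x.a = (α x).a := A_a' α x

theorem A_mul (α β : MulAut (SQ F m)) (a : F) : A (α * β) a = A α (A β a) := (A_a α (β ⟨a, 0⟩)).symm

theorem A_one (a : F) : A (1 : MulAut (SQ F m)) a = a := rfl

theorem B_A (α : MulAut (SQ F m)) (a : F) : B α (σ m a * a) = σ m (A α a) * A α a := by
  change (α ⟨0, σ m (⟨a, 0⟩ : SQ F m).a * (⟨a, 0⟩ : SQ F m).a⟩).b = _
  rw [← sq_eq, map_mul, sq_eq]; rfl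

theorem struct (α : MulAut (SQ F m)) : ∃ (c : Fˣ) (φ : F ≃+* F), ∀ a, A α a = c * φ a := by
  have h1 : A α 1 ≠ 0 := fun e => by
    have := A_mul α⁻¹ α 1
    rw [inv_mul_cancel, A_one, e, map_zero] at this
    exact one_ne_zero this
  obtain ⟨c, φ, e⟩ := mono (A α) (B α) (B_A α) h1
  exact ⟨Units.mk0 c (fun c0 => h1 (by rw [e, c0, zero_mul])), φ, e⟩

theorem A_pow {α : MulAut (SQ F m)} {c : F} (hc : ∀ a, A α a = c * a) (k : ℕ) (a : F) :
    A (α ^ k) a = c ^ k * a := by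
  induction k with
  | zero => rw [pow_zero, A_one, pow_zero, one_mul]
  | succ k ih => rw [pow_succ', A_mul, hc, ih, pow_succ', mul_assoc]

variable (m) in
/-- Diagonal automorphisms. -/
def dil : Fˣ →* MulAut (SQ F m) := MonoidHom.mk' (fun c =>
  { toFun := fun x => ⟨c * x.a, σ m (c : F) * c * x.b⟩
    invFun := fun x => ⟨(c⁻¹ : Fˣ) * x.a, σ m ((c⁻¹ : Fˣ) : F) * (c⁻¹ : Fˣ) * x.b⟩
    left_inv := fun x => SQ.ext (by simp) (by
      have := (map_ne_zero (σ m)).2 c.ne_zero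
      simp; field_simp)
    right_inv := fun x => SQ.ext (by simp) (by
      have := (map_ne_zero (σ m)).2 c.ne_zero
      simp; field_simp)
    map_mul' := fun x y => SQ.ext (by simp [mul_a, mul_add]) (by simp [mul_b]; ring) })
  fun c d => MulEquiv.ext fun x => SQ.ext (by simp [mul_assoc]) (by simp; ring)

theorem A_dil (c : Fˣ) (a : F) : A (dil m c) a = c * a := rfl

variable (m) in
/-- Field automorphisms. -/
def gal (φ : F ≃+* F) : MulAut (SQ F m) where
  toFun x := ⟨φ x.a, φ x.b⟩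
  invFun x := ⟨φ.symm x.a, φ.symm x.b⟩
  left_inv x := SQ.ext (by simp) (by simp)
  right_inv x := SQ.ext (by simp) (by simp)
  map_mul' x y := SQ.ext (by simp [mul_a]) (by simp [mul_b, aut_σ])

theorem A_gal (φ : F ≃+* F) (a : F) : A (gal m φ) a = φ a := rfl

variable (F m) in
/-- The action on the quotient by the centre. -/
def Φ : MulAut (SQ F m) →* Equiv.Perm F :=
  MonoidHom.toHomPerm (G := MulAut (SQ F m)) ⟨⟨fun α a => A α a, funext A_one⟩, fun α β => funext (A_mul α β)⟩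

theorem Φ_apply (α : MulAut (SQ F m)) (a : F) : Φ F m α a = A α a := rfl

theorem mem_ker {α : MulAut (SQ F m)} : α ∈ (Φ F m).ker ↔ ∀ a, A α a = a := Equiv.ext_iff

theorem card_range : Nat.card (Φ F m).range = Nat.card Fˣ * Nat.card (F ≃+* F) := by
  rw [← Nat.card_prod]
  symm
  refine Nat.card_eq_of_bijective (fun p => ⟨Φ F m (dil m p.1 * gal m p.2), _, rfl⟩) ⟨?_, ?_⟩
  · rintro ⟨c, φ⟩ ⟨d, ψ⟩ e
    have e1 : ∀ a, c * φ a = d * ψ a := fun a => by
      simpa only [Φ_apply, A_mul, A_dil, A_gal] using congrArg (fun g : (Φ F m).range => g.1 a) e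
    have e2 : c = d := Units.ext (by simpa using e1 1)
    subst e2
    exact Prod.ext rfl (RingEquiv.ext fun a => mul_left_cancel₀ c.ne_zero (e1 a))
  · rintro ⟨_, α, rfl⟩
    obtain ⟨c, φ, e⟩ := struct α
    exact ⟨(c, φ), Subtype.ext (Equiv.ext fun a => by simp only [Φ_apply, A_mul, A_dil, A_gal, e])⟩

variable (m) in
/-- Central automorphisms. -/
def cen (f : F →+ F) : MulAut (SQ F m) where
  toFun x := ⟨x.a, x.b + f x.a⟩
  invFun x := ⟨x.a, x.b + f x.a⟩
  left_inv x := SQ.ext rfl (by simp only; linear_combination f x.a * two F m)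
  right_inv x := SQ.ext rfl (by simp only; linear_combination f x.a * two F m)
  map_mul' x y := SQ.ext rfl (by simp [mul_a, mul_b]; ring)

theorem cen_a (f : F →+ F) (x : SQ F m) : (cen m f x).a = x.a := rfl

theorem cen_b (f : F →+ F) (x : SQ F m) : (cen m f x).b = x.b + f x.a := rfl

theorem exists_cen {α : MulAut (SQ F m)} (hα : α ∈ (Φ F m).ker) : ∃ f, α = cen m f := by
  rw [mem_ker] at hα
  have ea : ∀ x, (α x).a = x.a := fun x => by rw [← A_a, hα]
  have eb : ∀ b, (α ⟨0, b⟩).b = b := fun b => by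
    obtain ⟨a, rfl⟩ := mul_σ_surjective m b
    have := B_A α a
    rwa [hα, mul_comm] at this
  have ec : ∀ x, (α x).b = x.b + (α ⟨x.a, 0⟩).b := fun x => by
    conv_lhs => rw [dec x, map_mul, mul_b, eb, a_eq_zero, map_zero, zero_mul, add_zero]
  refine ⟨AddMonoidHom.mk' (fun a => (α ⟨a, 0⟩).b) fun a b => ?_, ?_⟩
  · have := ec (⟨a, 0⟩ * ⟨b, 0⟩)
    simp only [map_mul, mul_a, mul_b, ea] at this
    linear_combination -this
  · ext1 x
    exact SQ.ext (ea x) (ec x)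

theorem card_ker : Nat.card (Φ F m).ker = 2 ^ ((2 * m + 1) ^ 2) := by
  rw [← card_add F m]
  symm
  refine Nat.card_eq_of_bijective (fun f => ⟨cen m f, mem_ker.2 fun _ => rfl⟩) ⟨fun f g e => ?_, ?_⟩
  · ext a
    exact add_left_cancel (congrArg (fun g : (Φ F m).ker => (g.1 ⟨a, 0⟩).b) e)
  · rintro ⟨α, hα⟩
    obtain ⟨f, rfl⟩ := exists_cen hα
    exact ⟨f, rfl⟩

theorem elem_ker : IsElementaryAbelian 2 (Φ F m).ker := by
  refine ⟨⟨⟨fun α β => Subtype.ext ?_⟩⟩, fun α hα => ?_⟩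
  · obtain ⟨f, hf⟩ := exists_cen α.2
    obtain ⟨g, hg⟩ := exists_cen β.2
    rw [Subgroup.coe_mul, Subgroup.coe_mul, hf, hg]
    ext1 x
    exact SQ.ext rfl (by simp only [MulAut.mul_apply, cen_a, cen_b]; ring)
  · obtain ⟨f, rfl⟩ := exists_cen hα
    rw [sq]
    ext1 x
    exact (cen m f).left_inv x

theorem pCore_eq : pCore 2 (MulAut (SQ F m)) = (Φ F m).ker := by
  refine le_antisymm (fun α hα => ?_)
    (Core.le_pCore (Core.isPGroup_iff_forall_mem.2 fun α hα => ⟨1, elem_ker.2 α hα⟩))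
  have key : ∀ β ∈ pCore 2 (MulAut (SQ F m)), ∀ c : F, (∀ a, A β a = c * a) → c = 1 := fun β hβ c hc => by
    obtain ⟨k, hk⟩ := Core.isPGroup_iff_forall_mem.1 (Core.isPGroup_pCore 2 _) β hβ
    have := A_pow hc (2 ^ k) 1
    rw [hk, A_one, mul_one] at this
    exact U3.Aut.eq_one_of_pow (two F m) this.symm
  obtain ⟨c, φ, e⟩ := struct α
  have h1 : ∀ d : Fˣ, φ d * (d⁻¹ : Fˣ) = 1 := fun d => by
    refine key (α * (dil m d * α⁻¹ * (dil m d)⁻¹)) (Subgroup.mul_mem _ hα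
      (Subgroup.Normal.conj_mem inferInstance _ (Subgroup.inv_mem _ hα) _)) _ fun a => ?_
    have e1 : A α (A α⁻¹ ((d⁻¹ : Fˣ) * a)) = (d⁻¹ : Fˣ) * a := by rw [← A_mul, mul_inv_cancel, A_one]
    rw [← map_inv, A_mul, A_mul, A_mul, A_dil, A_dil, e, map_mul, mul_left_comm, ← e, e1, mul_assoc]
  have h3 : ∀ a, φ a = a := fun a => by
    by_cases a0 : a = 0
    · rw [a0, map_zero]
    · simpa [mul_inv_eq_one₀ a0] using h1 (Units.mk0 a a0)
  simp only [h3] at e
  rw [mem_ker]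
  intro a
  rw [e, key α hα c e, one_mul]

theorem card_mulAut :
    Nat.card (MulAut (SQ F m)) = 2 ^ ((2 * m + 1) ^ 2) * ((2 * m + 1) * (2 ^ (2 * m + 1) - 1)) := by
  have := hF.finite
  rw [← (Φ F m).ker.card_mul_index, Subgroup.index_ker, card_ker, card_range, Nat.card_units, hF.card_eq,
    card_aut F m]
  ring

theorem nonempty_equiv (P : Sylow 2 (Lie.Sz F (2 ^ (m + 1)))) : Nonempty (SQ F m ≃* P) := by
  have : Finite (Lie.Sz F (2 ^ (m + 1))) := Finite.of_equiv _ (szEquiv m).toEquiv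
  let ι : SQ F m →* Q F m := MonoidHom.mk' (fun x => ⟨U m x.a x.b, U_mem_Q m _ _⟩)
    fun x y => Subtype.ext (U_mul m _ _ _ _).symm
  have hι : Function.Bijective ι := ⟨fun x y e => SQ.ext ((U_inj m).1 (congrArg Subtype.val e)).1
    ((U_inj m).1 (congrArg Subtype.val e)).2, by rintro ⟨_, a, b, rfl⟩; exact ⟨⟨a, b⟩, rfl⟩⟩
  exact ⟨((MulEquiv.ofBijective ι hι).trans ((szEquiv m).subgroupMap (Q F m))).trans
    (Sylow.equiv ((QSylow F m).mapSurjective (f := (szEquiv m).toMonoidHom) (szEquiv m).surjective) P)⟩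

end

theorem main {S : Type*} [Group S] (m : ℕ) (hm : 1 ≤ m)
    {F : Type*} [Field F] [Fintype F] (hF : Fintype.card F = 2 ^ (2 * m + 1))
    (P : Sylow 2 ↥(Cfsg.Lie.Sz F (2 ^ (m + 1)))) (hS : Nonempty (S ≃* ↥(P : Subgroup ↥(Cfsg.Lie.Sz F (2 ^ (m + 1)))))) :
    Cfsg.IsElementaryAbelian 2 (Cfsg.pCore 2 (MulAut S)) ∧ Nat.card ↥(Cfsg.pCore 2 (MulAut S)) = 2 ^ ((2 * m + 1) ^ 2) ∧
      Nat.card (MulAut S) = 2 ^ ((2 * m + 1) ^ 2) * ((2 * m + 1) * (2 ^ (2 * m + 1) - 1)) := by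
  have := Lib.BN.Sz.szField_of_card hm hF
  obtain ⟨e⟩ := hS
  obtain ⟨f⟩ := nonempty_equiv P
  let g := MulAut.congr (f.trans e.symm)
  rw [← Lib.Core.map_pCore_equiv g, pCore_eq, ← Nat.card_congr g.toEquiv]
  exact ⟨Lib.PGrp.isElementaryAbelian_map _ elem_ker,
    (Subgroup.card_map_of_injective g.injective).trans card_ker, card_mulAut⟩

/-- Let S be a Sylow 2-subgroup of the Suzuki group Sz(q), q = 2ⁿ with n = 2m + 1 ≥ 3 (realised as 4 × 4 matrices over the field with q elements). Then the largest normal 2-subgroup of the automorphism group of S is elementary abelian of order 2^(n²), and the automorphism group of S has order 2^(n²) · n · (q − 1). -/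
theorem result {S : Type*} [Group S] [Finite S] (m : ℕ) (hm : 1 ≤ m)
    {F : Type*} [Field F] [Fintype F] (hF : Fintype.card F = 2 ^ (2 * m + 1))
    (P : Sylow 2 ↥(Cfsg.Lie.Sz F (2 ^ (m + 1)))) (hS : Nonempty (S ≃* ↥(P : Subgroup ↥(Cfsg.Lie.Sz F (2 ^ (m + 1)))))) :
    Cfsg.IsElementaryAbelian 2 (Cfsg.pCore 2 (MulAut S)) ∧ Nat.card ↥(Cfsg.pCore 2 (MulAut S)) = 2 ^ ((2 * m + 1) ^ 2) ∧
      Nat.card (MulAut S) = 2 ^ ((2 * m + 1) ^ 2) * ((2 * m + 1) * (2 ^ (2 * m + 1) - 1)) := by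
  exact main m hm hF P hS

end Cfsg.Agent.S2556
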