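import Cfsg.Statements.S2561
import Cfsg.Agent.Lib.Forms.Perm

set_option autoImplicit false
open Cfsg

namespace Cfsg.Agent.S2561

open Cfsg.Lib.Forms Module



/-- Fix the non-singular alternating form on the 2m-dimensional space over the field of two elements obtained by polarizing the plus-type form Σ xᵢyᵢ (m ≥ 1). The functions q on the space with q(u + v) = q(u) + q(v) + f(u, v) (the quadratic forms polarizing to f) number 2^(2m); each is equivalent under an invertible linear map either to the plus-type form or to the minus-type form Σ xᵢyᵢ + (z₁² + z₁z₂ + z₂²); and those of plus type number 2^(2m−1) + 2^(m−1), those of minus type 2^(2m−1) − 2^(m−1). -/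
theorem result (m : ℕ) (hm : 1 ≤ m) :
    Nat.card {q : (Fin m ⊕ Fin m → ZMod 2) → ZMod 2 // (∀ u v : (Fin m ⊕ Fin m → ZMod 2), q (u + v) = q u + q v + (Cfsg.quadFormPlus m (ZMod 2) (u + v) - Cfsg.quadFormPlus m (ZMod 2) u - Cfsg.quadFormPlus m (ZMod 2) v))} = 2 ^ (2 * m) ∧
    (∀ q : (Fin m ⊕ Fin m → ZMod 2) → ZMod 2, (∀ u v : (Fin m ⊕ Fin m → ZMod 2), q (u + v) = q u + q v + (Cfsg.quadFormPlus m (ZMod 2) (u + v) - Cfsg.quadFormPlus m (ZMod 2) u - Cfsg.quadFormPlus m (ZMod 2) v)) →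
      (∃ g : (Fin m ⊕ Fin m → ZMod 2) ≃ₗ[ZMod 2] (Fin m ⊕ Fin m → ZMod 2), ∀ v, q v = Cfsg.quadFormPlus m (ZMod 2) (g v)) ∨
      (∃ g : (Fin m ⊕ Fin m → ZMod 2) ≃ₗ[ZMod 2] ((Fin (m - 1) ⊕ Fin (m - 1)) ⊕ Fin 2 → ZMod 2), ∀ v, q v = Cfsg.quadFormMinus (m - 1) (ZMod 2) 1 1 (g v))) ∧
    Nat.card {q : (Fin m ⊕ Fin m → ZMod 2) → ZMod 2 // (∀ u v : (Fin m ⊕ Fin m → ZMod 2), q (u + v) = q u + q v + (Cfsg.quadFormPlus m (ZMod 2) (u + v) - Cfsg.quadFormPlus m (ZMod 2) u - Cfsg.quadFormPlus m (ZMod 2) v)) ∧ ∃ g : (Fin m ⊕ Fin m → ZMod 2) ≃ₗ[ZMod 2] (Fin m ⊕ Fin m → ZMod 2), ∀ v, q v = Cfsg.quadFormPlus m (ZMod 2) (g v)} = 2 ^ (2 * m - 1) + 2 ^ (m - 1) ∧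
    Nat.card {q : (Fin m ⊕ Fin m → ZMod 2) → ZMod 2 // (∀ u v : (Fin m ⊕ Fin m → ZMod 2), q (u + v) = q u + q v + (Cfsg.quadFormPlus m (ZMod 2) (u + v) - Cfsg.quadFormPlus m (ZMod 2) u - Cfsg.quadFormPlus m (ZMod 2) v)) ∧ ∃ g : (Fin m ⊕ Fin m → ZMod 2) ≃ₗ[ZMod 2] ((Fin (m - 1) ⊕ Fin (m - 1)) ⊕ Fin 2 → ZMod 2), ∀ v, q v = Cfsg.quadFormMinus (m - 1) (ZMod 2) 1 1 (g v)} = 2 ^ (2 * m - 1) - 2 ^ (m - 1) := by
  have hab : ∀ z₁ z₂ : ZMod 2, z₁ ^ 2 + 1 * z₁ * z₂ + 1 * z₂ ^ 2 = 0 → z₁ = 0 ∧ z₂ = 0 := by decide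
  obtain ⟨m, rfl⟩ := Nat.exists_eq_add_of_le' hm
  simp only [← fPlus_Q, ← quad_B_eq, ← fMinus_Q, Nat.add_sub_cancel]
  have hD := fPlus_nondeg (F := ZMod 2) (m + 1)
  set D := fPlus (ZMod 2) (m + 1)
  have hn := finrank_plus (F := ZMod 2) (m + 1)
  have hT : D.HasTS (m + 1) := fPlus_hasTS _
  let e := Equiv.ofBijective _ hD.binary_bijective
  have h1 : ∀ q (hq : ∀ u v, q (u + v) = q u + q v + D.B u v), ¬ (D.ofPolar q hq).HasTS (m + 1) ↔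
      ∃ g : (Fin (m + 1) ⊕ Fin (m + 1) → ZMod 2) ≃ₗ[ZMod 2] _, ∀ v, q v = (fMinus m 1 1).Q (g v) :=
    fun q hq => ⟨fun H => (Quad.iso_fMinus (D := D.ofPolar q hq) hD hn H hab).imp fun g h v => (h.2 v).symm,
      fun ⟨g, h⟩ H => fMinus_not_hasTS m hab ((quad_isIsometry (D := D.ofPolar q hq) (map_add g)
        fun v => (h v).symm).hasTS_iff.1 H)⟩
  have h2 : ∀ q (hq : ∀ u v, q (u + v) = q u + q v + D.B u v), (D.ofPolar q hq).HasTS (m + 1) ↔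
      ∃ g : (Fin (m + 1) ⊕ Fin (m + 1) → ZMod 2) ≃ₗ[ZMod 2] _, ∀ v, q v = D.Q (g v) :=
    fun q hq => ⟨fun H => (Quad.iso_fPlus (D := D.ofPolar q hq) hD hn H).imp fun g h v => (h.2 v).symm,
      fun ⟨g, h⟩ => (quad_isIsometry (D := D.ofPolar q hq) (map_add g) fun v => (h v).symm).hasTS_iff.2 hT⟩
  have h3 : ∀ w, (D.ofPolar _ (e w).2).HasTS (m + 1) ↔ D.Q w = 0 := fun w =>
    (h2 _ _).trans (hD.binary_translate hn w)
  have h4 : 1 ≤ 2 ^ m := Nat.one_le_two_pow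
  refine ⟨?_, fun q hq => (em _).imp (h2 q hq).1 (h1 q hq).1, ?_, ?_⟩
  · rw [← Nat.card_congr e]; simp [two_mul]
  · rw [← Nat.card_congr (Equiv.subtypeSubtypeEquivSubtypeInter _ _), ← Nat.card_congr
      (e.subtypeEquiv (p := fun w => D.Q w = 0) fun w => (h3 w).symm.trans (h2 _ _)),
      Quad.card_Q_eq_zero_plus hD hn hT, Nat.card_zmod, show 2 * (m + 1) - 1 = m + m + 1 by omega]
    zify [show 1 ≤ 2 ^ (m + 1) from Nat.one_le_two_pow]; ring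
  · rw [← Nat.card_congr (Equiv.subtypeSubtypeEquivSubtypeInter _ _), ← Nat.card_congr
      (e.subtypeEquiv (p := fun w => D.Q w = 1) fun w => (((by decide : ∀ a : ZMod 2, a = 1 ↔ ¬ a = 0) _).trans
        (h3 w).not.symm).trans (h1 _ _)),
      Quad.card_Q_eq_plus hD hn hT one_ne_zero, Nat.card_zmod, show 2 * (m + 1) - 1 = m + (m + 1) by omega,
      Nat.mul_sub_one, ← pow_add]

end Cfsg.Agent.S2561
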