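import Cfsg.Statements.S2566
import Cfsg.Agent.Lib.Forms.Perm
import Cfsg.Agent.Lib.Linear.PSL2Small

set_option autoImplicit false
open Cfsg

namespace Cfsg.Agent.S2566

open Cfsg.Lib.Forms Module Matrix



/-- The full orthogonal group of the plus-type form x₁y₁ + x₂y₂ in dimension 4 over the field of two elements has order 72 and is isomorphic to the wreath product of the symmetric group of degree 3 by a group of order 2: it has a normal subgroup isomorphic to the direct product of two symmetric groups of degree 3, of index 2, whose two direct factors are interchanged by conjugation by some element. -/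
theorem result :
    Nat.card ↥(Cfsg.isometryGroup (ZMod 2) (Cfsg.quadFormPlus 2 (ZMod 2))) = 72 ∧
    ∃ (A B : Subgroup ↥(Cfsg.isometryGroup (ZMod 2) (Cfsg.quadFormPlus 2 (ZMod 2)))),
      Nonempty (↥A ≃* Equiv.Perm (Fin 3)) ∧ Nonempty (↥B ≃* Equiv.Perm (Fin 3)) ∧ A ⊓ B = ⊥ ∧ (∀ a ∈ A, ∀ b ∈ B, a * b = b * a) ∧
      (A ⊔ B).index = 2 ∧ ∃ g : ↥(Cfsg.isometryGroup (ZMod 2) (Cfsg.quadFormPlus 2 (ZMod 2))), A.map (MulAut.conj g).toMonoidHom = B := by
  obtain ⟨ρ, h1, h2⟩ := exists_hom_plus_four (ZMod 2)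
  obtain ⟨s⟩ := Cfsg.Lib.Linear.sl2_two_equiv (Nat.card_zmod 2)
  let e := (oIso (fPlus (ZMod 2) 2) fPlus_Q).symm
  have hZ : ∀ g ∈ Subgroup.center (SpecialLinearGroup (Fin 2) (ZMod 2)), g = 1 := fun g hg =>
    s.injective ((map_one s).symm ▸ (by decide : ∀ a : Equiv.Perm (Fin 3), (∀ b, b * a = a * b) → a = 1) _
      fun b => by
        obtain ⟨b, rfl⟩ := s.surjective b
        rw [← map_mul, ← map_mul, Subgroup.mem_center_iff.1 hg])
  have hφ : Function.Injective (e.toMonoidHom.comp ρ) := e.injective.comp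
    ((injective_iff_map_eq_one ρ).2 fun g hg =>
      have := (h2 g).1 ⟨1, fun x => by simp [hg, Form.isom_one_apply]⟩
      Prod.ext (hZ _ this.1) (hZ _ this.2))
  set φ := e.toMonoidHom.comp ρ
  have hc : Nat.card (isometryGroup (ZMod 2) (quadFormPlus 2 (ZMod 2))) = 72 := by
    rw [← Nat.card_congr e.toEquiv, Quad.card_isom_plus (fPlus_nondeg 2) (finrank_plus 2) (fPlus_hasTS 2)]
    simp
  refine ⟨hc, (φ.comp (MonoidHom.inl _ _)).range, (φ.comp (MonoidHom.inr _ _)).range,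
    ⟨(MonoidHom.ofInjective (f := φ.comp (MonoidHom.inl _ _)) (hφ.comp (Prod.mk_left_injective 1))).symm.trans s⟩,
    ⟨(MonoidHom.ofInjective (f := φ.comp (MonoidHom.inr _ _)) (hφ.comp (Prod.mk_right_injective 1))).symm.trans s⟩,
    eq_bot_iff.2 ?_, ?_, ?_, ?_⟩
  · rintro _ ⟨⟨a, rfl⟩, b, h⟩
    have : 1 = a := congrArg Prod.fst (hφ h)
    rw [← this, map_one]; exact one_mem _
  · rintro _ ⟨a, rfl⟩ _ ⟨b, rfl⟩
    simp [← map_mul]
  · have h3 : (φ.comp (MonoidHom.inl _ _)).range ⊔ (φ.comp (MonoidHom.inr _ _)).range = φ.range := by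
      refine le_antisymm (sup_le ?_ ?_) ?_
      · rintro _ ⟨a, rfl⟩; exact ⟨_, rfl⟩
      · rintro _ ⟨a, rfl⟩; exact ⟨_, rfl⟩
      · rintro _ ⟨⟨a, b⟩, rfl⟩
        rw [show ((a, b) : _ × _) = (a, 1) * (1, b) by simp, map_mul]
        exact Subgroup.mul_mem_sup ⟨a, rfl⟩ ⟨b, rfl⟩
    have h4 := φ.range.card_mul_index
    rw [← Nat.card_congr (MonoidHom.ofInjective hφ).toEquiv, Nat.card_prod, Nat.card_congr s.toEquiv,
      Nat.card_perm, hc] at h4
    simp [Nat.factorial] at h4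
    rw [h3]; omega
  · let τ := (fPlus (ZMod 2) 2).refl (Pi.single (.inl 0) 1 + Pi.single (.inr 0) 1)
    have h3 : ∀ x, matFour _ (τ.1 x) = (matFour _ x).adjugate := fun x => by
      ext i j
      fin_cases i <;> fin_cases j <;>
        simp [τ, matFour, Form.refl_apply, fPlus_B, fPlus_Q, quadFormPlus, CharTwo.neg_eq, CharTwo.add_self_eq_zero,
          add_assoc, add_left_comm]
    have h4 : ∀ a, τ * ρ (a, 1) * τ⁻¹ = ρ (1, a) := fun a => by
      rw [mul_inv_eq_iff_eq_mul]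
      refine Form.isom_ext fun x => matFour_bijective.1 ?_
      simp [Form.isom_mul_apply, h1, h3, adjugate_mul_distrib]
    refine ⟨e τ, ?_⟩
    rw [MonoidHom.map_range]
    congr 1
    ext1 a
    simp [φ, ← h4]

end Cfsg.Agent.S2566
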