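import Cfsg.Statements.S2567
import Cfsg.Agent.Lib.Linear.Card

set_option autoImplicit false
open Cfsg

namespace Cfsg.Agent.S2567


theorem core {G : Type*} [Group G] {N r : ℕ} (hN : ∀ z ∈ Subgroup.center G, z ^ N = 1) (hr : r.Prime)
    (h : r.Coprime N) (x : G ⧸ Subgroup.center G) (hx : orderOf x = r) :
    ∃! g : G, (QuotientGroup.mk g : G ⧸ Subgroup.center G) = x ∧ orderOf g = r := by
  haveI := Fact.mk hr
  obtain ⟨g, rfl⟩ := QuotientGroup.mk_surjective x
  have h1 : g ^ r ∈ Subgroup.center G := by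
    rw [← QuotientGroup.eq_one_iff, QuotientGroup.mk_pow, ← hx, pow_orderOf_eq_one]
  obtain ⟨k, hk⟩ := exists_pow_eq_self_of_coprime (x := g ^ r)
    (h.coprime_dvd_right (orderOf_dvd_of_pow_eq_one (hN _ h1)))
  have h2 : (QuotientGroup.mk (g * ((g ^ r) ^ k)⁻¹) : G ⧸ Subgroup.center G) = g := by
    rw [QuotientGroup.mk_mul, (QuotientGroup.eq_one_iff _).2 (inv_mem (pow_mem h1 k)), mul_one]
  have h3 : orderOf (g * ((g ^ r) ^ k)⁻¹) = r := orderOf_eq_prime (by
    rw [(((Commute.refl g).pow_right r).pow_right k).inv_right.mul_pow, inv_pow, ← pow_mul, mul_comm k,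
      pow_mul, hk, mul_inv_cancel]) fun h => by
    rw [← h2, h, QuotientGroup.mk_one, orderOf_one] at hx
    exact hr.one_lt.ne hx
  refine ⟨_, ⟨h2, h3⟩, fun y ⟨h4, h5⟩ => ?_⟩
  generalize g * ((g ^ r) ^ k)⁻¹ = w at h2 h3
  have h6 := QuotientGroup.eq.1 (h4.trans h2.symm)
  have h7 : (y⁻¹ * w) ^ r = 1 := by
    have := congrArg (· ^ r) (mul_inv_cancel_left y w)
    rwa [Commute.mul_pow (Subgroup.mem_center_iff.1 h6 y), ← h5, pow_orderOf_eq_one, one_mul, h5,
      show w ^ r = 1 from h3 ▸ pow_orderOf_eq_one w] at this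
  rw [← inv_mul_eq_one, ← orderOf_eq_one_iff]
  exact Nat.eq_one_of_dvd_coprimes h (orderOf_dvd_of_pow_eq_one h7) (orderOf_dvd_of_pow_eq_one (hN _ h6))

/-- Lifting elements of prime order from PGL to GL: let F be a finite field with q elements, r a prime not dividing q − 1, and x an element of order r in GL_n(F) modulo its centre (the scalar matrices). Then x has exactly one preimage in GL_n(F) of order r. -/
theorem result {F : Type*} [Field F] [Fintype F] {q n r : ℕ} (hF : Fintype.card F = q) (hr : r.Prime) (hdiv : ¬ r ∣ q - 1) (x : GL (Fin n) F ⧸ Subgroup.center (GL (Fin n) F)) (hx : orderOf x = r) : ∃! g : GL (Fin n) F, (QuotientGroup.mk g : GL (Fin n) F ⧸ Subgroup.center (GL (Fin n) F)) = x ∧ orderOf g = r := by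
  refine core (N := q - 1) (fun z hz => ?_) hr ((Nat.Prime.coprime_iff_not_dvd hr).2 hdiv) x hx
  rw [Matrix.GeneralLinearGroup.center_eq_range_scalar] at hz
  obtain ⟨c, rfl⟩ := hz
  rw [← map_pow, ← hF, ← Nat.card_eq_fintype_card, ← Cfsg.Lib.Linear.card_units_eq, pow_card_eq_one', map_one]

end Cfsg.Agent.S2567
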