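import Cfsg.Statements.S2568
import Cfsg.Agent.Lib.Conj.Ord

set_option autoImplicit false
open Cfsg

namespace Cfsg.Agent.S2568

open Cfsg.Lib.Conj Cfsg.Lib.Forms Cfsg.Lib.Forms.Form Module

open Cfsg.Lib.Known

/-- Number of conjugacy classes of elements of a given prime order r, coprime to the characteristic, in GL_n(q): if i is the multiplicative order of q modulo r and t = (r − 1)/i, the classes correspond to the non-zero t-tuples of natural numbers (a_1, …, a_t) with i(a_1 + ⋯ + a_t) ≤ n (a_j is the multiplicity of the j-th Frobenius orbit of nontrivial r-th roots of unity among the eigenvalues), so there are exactly C(⌊n/i⌋ + t, t) − 1 of them. -/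
theorem result {F : Type*} [Field F] [Fintype F] {p q : ℕ} [Fact p.Prime] [CharP F p] (hF : Fintype.card F = q) (n r i t : ℕ) (hr : r.Prime) (hrp : r ≠ p) (hi : i = orderOf (q : ZMod r)) (ht : t * i = r - 1) : Nat.card {C : ConjClasses (GL (Fin n) F) // ∃ g : GL (Fin n) F, ConjClasses.mk g = C ∧ orderOf g = r} = Nat.choose (n / i + t) t - 1 := by
  have hF' : (r : F) ≠ 0 := cast_ne_zero_of_ne hr hrp
  obtain rfl : i = io r F := by rw [hi, io, Nat.card_eq_fintype_card, hF]
  let ρ : GL (Fin n) F →* End F (Fin n → F) :=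
    (Matrix.toLinAlgEquiv'.toMonoidHom).comp (Units.coeHom _)
  rw [card_order_classes hr hF' ρ (Matrix.toLinAlgEquiv'.injective.comp Units.val_injective)
    (fun g k _ h => isConj_GL_iff.2 (sim_iff_isConj.1 h)) (fun M => M.card ≤ n / io r F),
    card_msets_le, card_Phi_eq hr hF' ht]
  intro M hM
  rw [Nat.le_div_iff_mul_le (io_pos hr hF'), mul_comm]
  refine ⟨fun h => ?_, fun ⟨g, h1, h2⟩ => by simpa [h2] using io_mul_le hr hF' h1⟩
  obtain ⟨x, h1, h2⟩ := exists_pow_fac (V := Fin n → F) hr hF' hM (by simpa using h)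
  obtain ⟨A, rfl⟩ := Matrix.toLin'.surjective x
  obtain ⟨g, rfl⟩ := Matrix.isUnit_toLin'_iff.1 (isUnit_of_pow hr h1)
  exact ⟨g, h1, h2⟩

end Cfsg.Agent.S2568
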