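import Cfsg.Statements.S2570
import Cfsg.Agent.Lib.Known.SimilarMat

set_option autoImplicit false
open Cfsg

namespace Cfsg.Agent.S2570

open Cfsg.Lib.Known


/-- Number of conjugacy classes of elements of order p in GL_n over a finite field of characteristic p: they correspond to the Jordan types, that is, to the partitions of n with all parts at most p other than the partition into ones, so there are (number of partitions of n with parts ≤ p) − 1 of them. -/
theorem result {F : Type*} [Field F] [Fintype F] {p : ℕ} [Fact p.Prime] [CharP F p] (n : ℕ) : Nat.card {C : ConjClasses (GL (Fin n) F) // ∃ g : GL (Fin n) F, ConjClasses.mk g = C ∧ orderOf g = p} = (Finset.univ.filter (fun μ : Nat.Partition n => ∀ a ∈ μ.parts, a ≤ p)).card - 1 := by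
  classical
  have hp : p.Prime := Fact.out
  rw [card_unipotent_classes_GL (F := F) (Fintype.card_fin n) (fun g => orderOf g = p)
    (fun t => (∀ a ∈ t, a ≤ p) ∧ ¬ ∀ a ∈ t, a ≤ 1)]
  · rw [Nat.card_eq_fintype_card, Fintype.card_subtype]
    have h1 : (Finset.univ.filter fun μ : Nat.Partition n =>
        (∀ a ∈ μ.parts, a ≤ p) ∧ ¬ ∀ a ∈ μ.parts, a ≤ 1) =
        (Finset.univ.filter fun μ : Nat.Partition n => ∀ a ∈ μ.parts, a ≤ p).erase
          ⟨Multiset.replicate n 1, fun h => by rw [Multiset.eq_of_mem_replicate h]; exact one_pos,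
            by simp⟩ := by
      ext μ
      simp only [Finset.mem_filter, Finset.mem_univ, true_and, Finset.mem_erase]
      rw [and_comm]
      refine and_congr_left fun _ => not_congr ⟨fun h => ?_, fun h a ha => ?_⟩
      · have h2 : μ.parts = Multiset.replicate (Multiset.card μ.parts) 1 :=
          Multiset.eq_replicate_card.2 fun a ha => le_antisymm (h a ha) (μ.parts_pos ha)
        have h3 := μ.parts_sum
        rw [h2, Multiset.sum_replicate, smul_eq_mul, mul_one] at h3
        ext1
        rw [h2, h3]
      · rw [h] at ha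
        exact (Multiset.eq_of_mem_replicate ha).le
    rw [h1, Finset.card_erase_of_mem]
    simp only [Finset.mem_filter, Finset.mem_univ, true_and]
    intro a ha
    rw [Multiset.eq_of_mem_replicate ha]; exact hp.one_le
  · intro g
    have h := sub_one_pow_char_pow p (g : Matrix (Fin n) (Fin n) F) 1
    rw [pow_one] at h
    constructor
    · intro hg
      have h1 : ((g : Matrix (Fin n) (Fin n) F) - 1) ^ p = 0 := by
        rw [h, sub_eq_zero, ← Units.val_pow_eq_pow_val, ← hg, pow_orderOf_eq_one]; rfl
      refine ⟨⟨p, h1⟩, (sub_one_pow_eq_zero_iff_jt ⟨p, h1⟩ p).1 h1, fun h2 => ?_⟩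
      rw [← sub_one_pow_eq_zero_iff_jt ⟨p, h1⟩, pow_one, sub_eq_zero] at h2
      have : g = 1 := Units.ext h2
      rw [this, orderOf_one] at hg
      exact hp.one_lt.ne hg
    · rintro ⟨h1, h2, h3⟩
      rw [← sub_one_pow_eq_zero_iff_jt h1] at h2 h3
      rw [h, sub_eq_zero] at h2
      rw [pow_one, sub_eq_zero] at h3
      exact orderOf_eq_prime (Units.ext h2) fun h4 => h3 (by rw [h4]; rfl)

end Cfsg.Agent.S2570
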