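import Cfsg.Statements.S2572
import Cfsg.Agent.Lib.Conj.Cent

set_option autoImplicit false
open Cfsg

namespace Cfsg.Agent.S2572

open Cfsg.Lib.Conj Cfsg.Lib.Forms Cfsg.Lib.Forms.Form Module


/-- Centraliser of a transvection in GL_n(q), n ≥ 2: if t − 1 has rank one and square zero, the centraliser of t in GL_n(q) has order q^(2n−3) (q − 1) |GL_(n−2)(q)| (a group of order q^(2n−3) extended by GL_1(q) × GL_(n−2)(q)). -/
theorem result {F : Type*} [Field F] [Fintype F] {q n : ℕ} (hF : Fintype.card F = q) (hn : 2 ≤ n) (t : GL (Fin n) F) (ht : Cfsg.IsTransvection (t : Matrix (Fin n) (Fin n) F)) : Nat.card ↥(Subgroup.centralizer ({t} : Set (GL (Fin n) F))) = q ^ (2 * n - 3) * (q - 1) * ∏ i : Fin (n - 2), (q ^ (n - 2) - q ^ (i : ℕ)) := by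
  let u := Matrix.GeneralLinearGroup.toLin t
  have h0 : u.1 - 1 = Matrix.toLin' (t.1 - 1) := by rw [map_sub, Matrix.toLin'_one]; rfl
  have h1 : (u.1 - 1) ^ 2 = 0 := by rw [h0, sq, End.mul_eq_comp, ← Matrix.toLin'_mul, ht.2, map_zero]
  have h2 : finrank F (LinearMap.range (u.1 - 1)) = 1 := h0 ▸ ht.1
  have h3 := (u.1 - 1).finrank_range_add_finrank_ker
  have h4 : aa (u.1 - 1) 1 = 1 := by
    rw [aa, pow_one, inf_eq_right.2 (LinearMap.range_le_ker_iff.2 ((sq _).symm.trans h1)), h2]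
  have h5 : aa (u.1 - 1) 2 = 0 := by simp [aa, h1]
  obtain ⟨n, rfl⟩ := Nat.exists_eq_add_of_le' hn
  rw [h2, ← aa_zero, finrank_fin_fun] at h3
  rw [card_centralizer_equiv Matrix.GeneralLinearGroup.toLin, card_cent_GL 2 u h1, Nat.card_eq_fintype_card, hF]
  simp [cf, Finset.prod_range_succ, h4, h5, show aa (u.1 - 1) 0 = n + 1 by omega,
    show glOrd q 1 = q - 1 by simp [glOrd],
    show 2 * (n + 2) - 3 = 1 + 2 * n by omega]
  change _ = _ * glOrd q n
  ring

end Cfsg.Agent.S2572
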