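import Cfsg.Statements.S2574
import Cfsg.Agent.Lib.Conj.Jord

set_option autoImplicit false
open Cfsg

namespace Cfsg.Agent.S2574

open Cfsg.Lib.Conj Cfsg.Lib.Forms Cfsg.Lib.Forms.Form Module


/-- A regular unipotent element of the symplectic group has totally isotropic small invariant subspaces: over a finite field, if u ∈ Sp_2m(F) satisfies (u − 1)^(2m) = 0 and rank(u − 1) = 2m − 1, and W is a u-invariant subspace with 2 dim W ≤ 2m, then the alternating form vanishes identically on W. -/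
theorem result {F : Type*} [Field F] [Finite F] {m : ℕ} (u : Matrix.symplecticGroup (Fin m) F) (hnil : ((u : Matrix (Fin m ⊕ Fin m) (Fin m ⊕ Fin m) F) - 1) ^ (2 * m) = 0) (hreg : ((u : Matrix (Fin m ⊕ Fin m) (Fin m ⊕ Fin m) F) - 1).rank = 2 * m - 1) (W : Submodule F (Fin m ⊕ Fin m → F)) (hW : ∀ v ∈ W, (u : Matrix (Fin m ⊕ Fin m) (Fin m ⊕ Fin m) F).mulVec v ∈ W) (hdim : 2 * Module.finrank F W ≤ 2 * m) : ∀ v ∈ W, ∀ w ∈ W, Cfsg.sympForm m F v w = 0 := by
  rcases Nat.eq_zero_or_pos m with rfl | hm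
  · intro v _ w _
    simp [sympForm, dotProduct]
  haveI : Nonempty (Fin m ⊕ Fin m) := ⟨.inl ⟨0, hm⟩⟩
  have h : Reg (Matrix.toLin' u.1 - 1) := reg_toLin'_iff.2 (by
    rw [Fintype.card_sum, Fintype.card_fin, ← two_mul]; exact ⟨hnil, hreg⟩)
  have hD := fSymp_nondeg (F := F) m
  have hx : ∀ a b, (fSymp F m).B (Matrix.toLin' u.1 a) (Matrix.toLin' u.1 b) = (fSymp F m).B a b :=
    mem_symplecticGroup_iff.1 u.2
  have h1 := perp_inv (isUnit_of_isIsometry hD hx) hx (U := W) hW
  have h2 := hD.finrank_perp W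
  rw [finrank_plus] at h2
  have H := h.le_of_finrank_le (W := W) (W' := (fSymp F m).perp W) (fun v hv => W.sub_mem (hW v hv) hv)
    (fun v hv => Submodule.sub_mem _ (h1 v hv) hv) (by omega)
  exact fun v hv w hw => (fSymp_B v w).symm.trans (H hw v hv)

end Cfsg.Agent.S2574
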