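import Cfsg.Statements.S2575
import Cfsg.Agent.Lib.Linear.Card

set_option autoImplicit false
open Cfsg

namespace Cfsg.Agent.S2575


theorem exists_pow_iff {G : Type*} [CommGroup G] [Finite G] [IsCyclic G] (n : ℕ) (a : G) :
    (∃ c, c ^ n * a = 1) ↔ orderOf a ∣ Nat.card G / (Nat.card G).gcd n := by
  have h1 := Nat.gcd_dvd_left (Nat.card G) n
  have h : (powMonoidHom n : G →* G).range = (powMonoidHom (Nat.card G / (Nat.card G).gcd n)).ker := by
    refine Subgroup.eq_of_le_of_card_ge (fun a ha => ?_) ?_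
    · rw [MonoidHom.mem_ker, powMonoidHom_apply, ← IsCyclic.card_powMonoidHom_range]
      exact orderOf_dvd_iff_pow_eq_one.1 (Subgroup.orderOf_dvd_natCard _ ha)
    · rw [IsCyclic.card_powMonoidHom_range, IsCyclic.card_powMonoidHom_ker,
        Nat.gcd_eq_right (Nat.div_dvd_of_dvd h1)]
  rw [orderOf_dvd_iff_pow_eq_one, ← powMonoidHom_apply, ← MonoidHom.mem_ker, ← h]
  exact ⟨fun ⟨c, h⟩ => ⟨c⁻¹, by rw [powMonoidHom_apply, inv_pow, inv_eq_iff_mul_eq_one, h]⟩,
    fun ⟨c, h⟩ => ⟨c⁻¹, by simp [← h]⟩⟩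

theorem exists_pow_iff' {F : Type*} [Field F] [Finite F] (n : ℕ) {a : F} (ha : a ≠ 0) :
    (∃ c : F, c ≠ 0 ∧ c ^ n * a = 1) ↔ orderOf a ∣ (Nat.card F - 1) / (Nat.card F - 1).gcd n := by
  lift a to Fˣ using ha.isUnit
  rw [orderOf_units, ← Cfsg.Lib.Linear.card_units_eq, ← exists_pow_iff]
  exact ⟨fun ⟨c, h, h'⟩ => ⟨Units.mk0 c h, Units.ext (by simpa using h')⟩,
    fun ⟨c, h⟩ => ⟨c, c.ne_zero, by simpa using congrArg Units.val h⟩⟩

theorem pow_dvd_div_gcd {N n : ℕ} (hN : N ≠ 0) (hn : n ≠ 0) (k : ℕ) : 2 ^ k ∣ N / N.gcd n ↔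
    k + min (padicValNat 2 N) (padicValNat 2 n) ≤ padicValNat 2 N := by
  have h := Nat.gcd_dvd_left N n
  have h1 := Nat.factorization_gcd hN hn
  have h2 : padicValNat 2 (N.gcd n) = min (padicValNat 2 N) (padicValNat 2 n) := by
    simp only [← Nat.factorization_def _ Nat.prime_two, h1, Finsupp.inf_apply]
  rw [padicValNat_dvd_iff_le (Nat.div_pos (Nat.le_of_dvd (Nat.pos_of_ne_zero hN) h)
    (Nat.gcd_pos_of_pos_left _ (Nat.pos_of_ne_zero hN))).ne', padicValNat.div_of_dvd h, h2]
  omega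

theorem orderOf_neg_one' {F : Type*} [Field F] [Fintype F] (hq : Odd (Fintype.card F)) :
    orderOf (-1 : F) = 2 :=
  orderOf_eq_prime (by simp) (Ring.neg_one_ne_one_of_char_ne_two fun h => by
    have := FiniteField.even_card_of_char_two h
    have := Nat.odd_iff.1 hq
    omega)

theorem val_pos {q : ℕ} (hq : Odd q) (h : 2 ≤ q) : 1 ≤ padicValNat 2 (q - 1) :=
  one_le_padicValNat_of_dvd (by omega) (by have := Nat.odd_iff.1 hq; omega)

/-- Which diagonal involutions of PGL_n(q) lie in PSL_n(q), q odd: for the diagonal matrix t with i entries −1 and n − i entries 1, some non-zero scalar multiple of t has determinant one if and only if i is even or the 2-part of q − 1 exceeds the 2-part of n (that is, −1 is an n-th power in the field exactly in the latter case). -/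
theorem result {F : Type*} [Field F] [Fintype F] {q : ℕ} (hF : Fintype.card F = q) (hq : Odd q) {n : ℕ} (hn : 1 ≤ n) (i : ℕ) (hi : i ≤ n) : (∃ c : F, c ≠ 0 ∧ (c • Matrix.diagonal (fun j : Fin n => if (j : ℕ) < i then (-1 : F) else 1)).det = 1) ↔ (Even i ∨ padicValNat 2 n < padicValNat 2 (q - 1)) := by
  subst hF
  have h2 : 2 ≤ Fintype.card F := Fintype.one_lt_card
  have h1 : ∏ j : Fin n, (if (j : ℕ) < i then (-1 : F) else 1) = (-1) ^ i := by
    rw [Finset.prod_ite, Finset.prod_const, Finset.prod_const_one, mul_one, Fin.card_filter_val_lt,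
      min_eq_right hi]
  simp only [Matrix.det_smul, Matrix.det_diagonal, h1, Fintype.card_fin]
  rw [exists_pow_iff' n (by simp), Nat.card_eq_fintype_card]
  rcases i.even_or_odd with h | h
  · simp [h.neg_one_pow, h]
  · have := pow_dvd_div_gcd (N := Fintype.card F - 1) (n := n) (by omega) (by omega) 1
    have h3 := val_pos hq h2
    rw [h.neg_one_pow, orderOf_neg_one' hq, ← pow_one 2, this]
    simp only [Nat.not_even_iff_odd.2 h, false_or, pow_one]
    omega

end Cfsg.Agent.S2575
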