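import Cfsg.Statements.S2576
import Cfsg.Agent.S2575

set_option autoImplicit false
open Cfsg

namespace Cfsg.Agent.S2576



/-- Which involutions of PGL_2m(q) coming from a scalar of the quadratic extension field lie in PSL_2m(q), q odd: let μ generate the Sylow 2-subgroup of the multiplicative group of the field with q elements (μ has order the 2-part of q − 1) and let t be the block-diagonal matrix with m diagonal blocks [[0, 1], [μ, 0]] (so t² is the scalar μ and t is an involution modulo scalars). Then some non-zero scalar multiple of t has determinant one if and only if q ≡ 3 (mod 4) or the 2-part of q − 1 is less than the 2-part of 2m. -/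
theorem result {F : Type*} [Field F] [Fintype F] {q : ℕ} (hF : Fintype.card F = q) (hq : Odd q) {m : ℕ} (hm : 1 ≤ m) (μ : F) (hμ : orderOf μ = 2 ^ padicValNat 2 (q - 1)) : (∃ c : F, c ≠ 0 ∧ (c • Matrix.blockDiagonal (fun _ : Fin m => !![(0 : F), 1; μ, 0])).det = 1) ↔ (q % 4 = 3 ∨ padicValNat 2 (q - 1) < padicValNat 2 (2 * m)) := by
  subst hF
  have h2 : 2 ≤ Fintype.card F := Fintype.one_lt_card
  have h3 := S2575.val_pos hq h2
  have h4 := S2575.orderOf_neg_one' hq
  have h0 : μ ≠ 0 := by
    rintro rfl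
    rw [orderOf_zero] at hμ
    exact absurd hμ.symm (by positivity)
  simp only [Matrix.det_smul, Matrix.det_blockDiagonal, Matrix.det_fin_two_of, Finset.prod_const,
    Fintype.card_prod, Fintype.card_fin, Finset.card_univ, zero_mul, one_mul, zero_sub]
  rw [S2575.exists_pow_iff' _ (by simp [h0]), Nat.card_eq_fintype_card]
  have h5 : 2 ^ 2 ∣ Fintype.card F - 1 ↔ 2 ≤ padicValNat 2 (Fintype.card F - 1) :=
    padicValNat_dvd_iff_le (by omega)
  have h6 : padicValNat 2 (2 * m) = padicValNat 2 m + 1 := by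
    rw [padicValNat.mul (by omega) (by omega), add_comm]; simp
  have h7 := Nat.odd_iff.1 hq
  obtain ⟨k, hk⟩ := Nat.exists_eq_add_of_le' h3
  have h8 : μ ^ 2 ^ k = -1 := by
    refine (sq_eq_one_iff.1 ?_).resolve_left fun h => ?_
    · rw [← pow_mul, ← pow_succ, ← hk, ← hμ, pow_orderOf_eq_one]
    · have := orderOf_dvd_of_pow_eq_one h
      rw [hμ, hk, Nat.pow_dvd_pow_iff_le_right one_lt_two] at this
      omega
  rcases k with - | k
  · obtain rfl : μ = -1 := by simpa using h8
    simp only [neg_neg, one_pow, orderOf_one, one_dvd, true_iff]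
    omega
  have h9 : orderOf (-μ) = 2 ^ (k + 2) := by
    rw [← neg_one_mul, ← h8, ← pow_succ, Nat.Coprime.orderOf_pow, hμ, hk]
    rw [hμ]
    exact Nat.Coprime.pow_left _ (Nat.coprime_two_left.2 ((Nat.even_pow.2 (by simp)).add_one))
  have h10 := S2575.pow_dvd_div_gcd (N := Fintype.card F - 1) (n := 2 * m) (by omega) (by omega)
  obtain ⟨j, hj, h11⟩ := (Nat.dvd_prime_pow Nat.prime_two).1 (Nat.gcd_dvd_left (2 ^ (k + 2)) m)
  have h12 : ∀ t, t ≤ j ↔ t ≤ k + 2 ∧ t ≤ padicValNat 2 m := fun t => by
    rw [← Nat.pow_dvd_pow_iff_le_right one_lt_two, ← h11, Nat.dvd_gcd_iff,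
      Nat.pow_dvd_pow_iff_le_right one_lt_two, padicValNat_dvd_iff_le (by omega)]
  rw [orderOf_pow' _ (by omega), h9, h11, Nat.pow_div hj two_pos, h10]
  have := (h12 j).1 le_rfl
  have := (h12 (min (k + 2) (padicValNat 2 m))).2 (by omega)
  omega

end Cfsg.Agent.S2576
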