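import Cfsg.Statements.S2578
import Cfsg.Agent.Lib.Conj.Jord
import Cfsg.Agent.Lib.Linear.Card

set_option autoImplicit false
open Cfsg

namespace Cfsg.Agent.S2578

open Cfsg.Lib.Conj Cfsg.Lib.Forms Cfsg.Lib.Forms.Form Module

open Cfsg.Lib.Known

/-- Regular unipotent classes of SL_n(q): for n ≥ 2 over the field with q elements, the matrices u of determinant one with (u − 1)^n = 0 and rank(u − 1) = n − 1 form a single GL_n(q)-class which splits into exactly gcd(n, q − 1) conjugacy classes of SL_n(q). -/
theorem result {F : Type*} [Field F] [Fintype F] {q : ℕ} (hF : Fintype.card F = q) {n : ℕ} (hn : 2 ≤ n) : Nat.card {C : ConjClasses (Matrix.SpecialLinearGroup (Fin n) F) // ∃ u : Matrix.SpecialLinearGroup (Fin n) F, ConjClasses.mk u = C ∧ ((u : Matrix (Fin n) (Fin n) F) - 1) ^ n = 0 ∧ ((u : Matrix (Fin n) (Fin n) F) - 1).rank = n - 1} = Nat.gcd n (q - 1) := by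
  haveI : Nonempty (Fin n) := ⟨⟨0, by omega⟩⟩
  have h0 := reg_toLin'_iff.1 (reg_jordanBlock (F := F) n)
  let u : Matrix.SpecialLinearGroup (Fin n) F :=
    ⟨jordanBlock n F, det_eq_one_of_isNilpotent_sub_one ⟨_, h0.1⟩⟩
  have hu : Reg (Matrix.toLin' u.1 - 1) := reg_jordanBlock n
  rw [card_classes_split Matrix.SpecialLinearGroup.toGL Matrix.SpecialLinearGroup.toGL_injective
    Matrix.GeneralLinearGroup.det Cfsg.Lib.Linear.range_toGL
    Matrix.GeneralLinearGroup.det_surjective u]
  · have : (Subgroup.centralizer {Matrix.SpecialLinearGroup.toGL u}).map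
        Matrix.GeneralLinearGroup.det = (powMonoidHom n : Fˣ →* Fˣ).range := by
      ext c
      constructor
      · rintro ⟨g, hg, rfl⟩
        have h1 : Commute (Matrix.toLin' (g : Matrix (Fin n) (Fin n) F)) (Matrix.toLin' u.1) :=
          commute_toLin'_iff.2 (congrArg Units.val (Subgroup.mem_centralizer_singleton_iff.1 hg))
        obtain ⟨a, ha⟩ := hu.exists_nil (commute_sub_one_iff.2 h1)
        have h2 := det_of_sub_nilpotent ha
        rw [LinearMap.det_toLin', finrank_fin_fun] at h2
        have h3 : a ≠ 0 := by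
          rintro rfl
          exact Matrix.GeneralLinearGroup.det_ne_zero g (by rw [h2, zero_pow (by omega)])
        exact ⟨Units.mk0 a h3, Units.ext (by simpa using h2.symm)⟩
      · rintro ⟨a, rfl⟩
        refine ⟨Matrix.GeneralLinearGroup.scalar _ a, Subgroup.mem_centralizer_singleton_iff.2
          (Units.ext (Matrix.scalar_commute _ (fun _ => Commute.all _ _) _).eq), Units.ext ?_⟩
        simp
    rw [this, IsCyclic.index_powMonoidHom_range, Nat.card_units, Nat.card_eq_fintype_card, hF,
      Nat.gcd_comm]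
  · intro k
    rw [isConj_GL_iff, ← sim_iff_isConj]
    refine Iff.trans ?_ ⟨fun h => sim_add_one (hu.sim h rfl), fun h => hu.of_sim (sim_sub_one h)⟩
    rw [reg_toLin'_iff, Fintype.card_fin]; rfl

end Cfsg.Agent.S2578
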