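import Cfsg.Statements.S2579
import Cfsg.Agent.Lib.Known.SimilarMat

set_option autoImplicit false
open Cfsg

namespace Cfsg.Agent.S2579

open Cfsg.Lib.Known


/-- In SL_n(F) with n ≥ 3, over a finite field F, any two transvections (matrices t with t − 1 of rank one and square zero) are conjugate by an element of SL_n(F). -/
theorem result {F : Type*} [Field F] [Finite F] {n : ℕ} (hn : 3 ≤ n) (s t : Matrix.SpecialLinearGroup (Fin n) F) (hs : Cfsg.IsTransvection (s : Matrix (Fin n) (Fin n) F)) (ht : Cfsg.IsTransvection (t : Matrix (Fin n) (Fin n) F)) : IsConj s t := by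
  have hs2 : ((s : Matrix (Fin n) (Fin n) F) - 1) ^ 2 = 0 := by rw [pow_two]; exact hs.2
  have ht2 : ((t : Matrix (Fin n) (Fin n) F) - 1) ^ 2 = 0 := by rw [pow_two]; exact ht.2
  refine DetSurj.isConj ?_ (ed_eq_of_sq_eq_zero hs2 ht2 (hs.1.trans ht.1.symm))
  have h1 := card_jt_add_rank ⟨2, hs2⟩
  have h2 := sum_jt ⟨2, hs2⟩
  rw [hs.1, Fintype.card_fin] at h1
  rw [Fintype.card_fin] at h2
  exact detSurj_of_one (mem_ed_of_mem_jt ⟨2, hs2⟩
    (one_mem_of_sum_lt (fun _ => one_le_of_mem_jt) (by omega)))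

end Cfsg.Agent.S2579
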