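import Cfsg.Statements.S2581
import Cfsg.Agent.Lib.Conj.Cent

set_option autoImplicit false
open Cfsg

namespace Cfsg.Agent.S2581

open Cfsg.Lib.Conj Cfsg.Lib.Forms Cfsg.Lib.Forms.Form Module


/-- Order of the centraliser in GL of a unipotent matrix of given Jordan type over the field with q elements: if the type has a_i blocks of size i (all block sizes at least 1), the invertible matrices commuting with it number q^γ · Π_i |GL_(a_i)(q)| with γ = 2 Σ_(i<j) i a_i a_j + Σ_i (i − 1) a_i² (a group of order q^γ extended by Π GL_(a_i)(q)). -/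
theorem result {F : Type*} [Field F] [Fintype F] {q : ℕ} (hF : Fintype.card F = q) {t : ℕ} (d : Fin t → ℕ) (hd : ∀ k, 1 ≤ d k) : Nat.card {g : GL ((k : Fin t) × Fin (d k)) F // (g : Matrix ((k : Fin t) × Fin (d k)) ((k : Fin t) × Fin (d k)) F) * Cfsg.jordanTypeMatrix d F = Cfsg.jordanTypeMatrix d F * (g : Matrix ((k : Fin t) × Fin (d k)) ((k : Fin t) × Fin (d k)) F)} = q ^ (2 * (∑ i ∈ Finset.range (Finset.univ.sup d + 1), ∑ j ∈ Finset.range (Finset.univ.sup d + 1), if i < j then i * (Finset.univ.filter (fun k : Fin t => d k = i)).card * (Finset.univ.filter (fun k : Fin t => d k = j)).card else 0) + ∑ i ∈ Finset.range (Finset.univ.sup d + 1), (i - 1) * (Finset.univ.filter (fun k : Fin t => d k = i)).card ^ 2) * ∏ i ∈ Finset.range (Finset.univ.sup d + 1), ∏ j : Fin ((Finset.univ.filter (fun k : Fin t => d k = i)).card), (q ^ (Finset.univ.filter (fun k : Fin t => d k = i)).card - q ^ (j : ℕ)) := by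
  have h := hasED_jordan (F := F) d hd
  let u : (End F _)ˣ := (h.isUnit_iff.2 fun a ha => by
    rw [(Lib.Known.mem_unipOf.1 ha).1]; exact Lib.Known.X_sub_one_ne_X).unit
  have h1 := card_cent_GL _ u (pow_sup_eq_zero h)
  rw [show aa (u.1 - 1) = _ from funext (aa_jordan h), cf_jordan _ _ (by simp [glOrd]) hd,
    Nat.card_eq_fintype_card (α := F), hF] at h1
  refine Eq.trans (Nat.card_congr (Matrix.GeneralLinearGroup.toLin.toEquiv.subtypeEquiv fun g => ?_)) h1
  rw [Subgroup.mem_centralizer_singleton_iff, ← Units.val_inj, ← commute_toLin'_iff]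
  rfl

end Cfsg.Agent.S2581
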