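import Cfsg.Statements.S2582
import Cfsg.Agent.Lib.Conj.Jord

set_option autoImplicit false
open Cfsg

namespace Cfsg.Agent.S2582

open Cfsg.Lib.Conj Cfsg.Lib.Forms Cfsg.Lib.Forms.Form Module

open Cfsg.Lib.Known

/-- Which unipotent Jordan types occur in the finite symplectic group: over a finite field, a unipotent matrix with Jordan block sizes d_1, …, d_t (sum 2m, all at least 1) is similar to an element of Sp_2m(F) if and only if every odd block size occurs an even number of times. -/
theorem result {F : Type*} [Field F] [Fintype F] {m t : ℕ} (d : Fin t → ℕ) (hd : ∀ k, 1 ≤ d k) (hsum : ∑ k, d k = 2 * m) : (∃ e : ((k : Fin t) × Fin (d k)) ≃ (Fin m ⊕ Fin m), ∃ A : Matrix.symplecticGroup (Fin m) F, IsConj (Matrix.reindex e e (Cfsg.jordanTypeMatrix d F)) (A : Matrix (Fin m ⊕ Fin m) (Fin m ⊕ Fin m) F)) ↔ ∀ j : ℕ, Odd j → Even (Finset.univ.filter (fun k : Fin t => d k = j)).card := by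
  simp only [← count_univ_map]
  constructor
  · rintro ⟨e, A, h⟩ j hj
    have hx : ∀ a b, (fSymp F m).B (Matrix.toLin' A.1 a) (Matrix.toLin' A.1 b) =
        (fSymp F m).B a b := mem_symplecticGroup_iff.1 A.2
    exact even_count_alt (fSymp_nondeg m) (Symp.B_self _) hx
      (real_iff_jordan hd e h) hj
  · intro H
    obtain ⟨D, hD, hx⟩ := (realT_of_good (K := altKind F) Even (fun j => realT_alt) _
      (by simpa using hd) fun j _ hj => H j (Nat.not_even_iff_odd.1 hj)).real (hasED_jordan d hd)
    have hc : Fintype.card ((k : Fin t) × Fin (d k)) = Fintype.card (Fin m ⊕ Fin m) := by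
      simp [hsum, two_mul]
    obtain ⟨g, hg⟩ := exists_alt_isom (fSymp_nondeg m) hD hx (by simpa using hc)
    obtain ⟨A, rfl⟩ := (spEquiv F m).surjective g
    exact ⟨Fintype.equivOfCardEq hc, A, sim_iff_isConj.1 ((sim_reindex _ _).trans (coe_spEquiv A ▸ hg))⟩

end Cfsg.Agent.S2582
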