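import Cfsg.Statements.S2584
import Cfsg.Agent.Lib.Conj.Jord

set_option autoImplicit false
open Cfsg

namespace Cfsg.Agent.S2584

open Cfsg.Lib.Conj Cfsg.Lib.Forms Cfsg.Lib.Forms.Form Module

open Cfsg.Lib.Known

/-- Which unipotent Jordan types occur in a finite orthogonal group in characteristic two: over a finite field of characteristic 2 and in even dimension 2m, a unipotent matrix with Jordan block sizes d_1, …, d_t (sum 2m, all at least 1) is similar to an isometry of some quadratic form on F^(2m) with non-degenerate polar form if and only if every odd block size occurs an even number of times (the same condition as for the symplectic group, which contains these orthogonal groups). -/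
theorem result {F : Type*} [Field F] [Fintype F] [CharP F 2] {m t : ℕ} (d : Fin t → ℕ) (hd : ∀ k, 1 ≤ d k) (hsum : ∑ k, d k = 2 * m) : (∃ Q : QuadraticForm F (Fin (2 * m) → F), (QuadraticMap.polarBilin Q).Nondegenerate ∧ ∃ e : ((k : Fin t) × Fin (d k)) ≃ Fin (2 * m), ∃ A : ↥(Cfsg.isometryGroup F ⇑Q), IsConj (Matrix.reindex e e (Cfsg.jordanTypeMatrix d F)) ((A : Matrix.GeneralLinearGroup (Fin (2 * m)) F) : Matrix (Fin (2 * m)) (Fin (2 * m)) F)) ↔ ∀ j : ℕ, Odd j → Even (Finset.univ.filter (fun k : Fin t => d k = j)).card := by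
  have h2 : (2 : F) = 0 := two_eq_zero_of_charP
  simp only [← count_univ_map]
  constructor
  · rintro ⟨Q, hQ, e, A, h⟩ j hj
    have := (oIso (ofQuad Q) (ofQuad_Q_eq Q) A).2.B_map
    exact even_count_alt (ofQuad_nondeg hQ) (fun u => by rw [quad_B_self, h2, zero_mul])
      (fun u v => by simpa only [oIso_apply, Matrix.toLin'_apply] using this u v) (real_iff_jordan hd e h) hj
  · intro H
    have hc : Fintype.card ((k : Fin t) × Fin (d k)) = Fintype.card (Fin (2 * m)) := by simp [hsum]
    let e := Fintype.equivOfCardEq hc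
    obtain ⟨D, hD, hx⟩ := (realT_of_good (K := quadKind F) Even (fun j => realT_quad_even h2) _
      (by simpa using hd) fun j h0 hj => H j (Nat.not_even_iff_odd.1 hj)).real
      ((hasED_jordan d hd).of_sim (sim_reindex e _))
    obtain ⟨A, hA⟩ := (oIso D (Q := toQuad D) rfl).surjective (D.mkIsom hD _ hx)
    refine ⟨toQuad D, nondegenerate_toQuad hD, e, A, sim_iff_isConj.1 ?_⟩
    rw [← coe_oIso D (Q := toQuad D) rfl, hA]
    exact Sim.refl _

end Cfsg.Agent.S2584
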