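import Cfsg.Statements.S2586
import Cfsg.Agent.Lib.Conj.SS

set_option autoImplicit false
open Cfsg

namespace Cfsg.Agent.S2586

open Cfsg.Lib.Conj Cfsg.Lib.Forms Cfsg.Lib.Forms.Form Module


/-- Over a finite field, every element of the symplectic group Sp_2m(F) is conjugate by an invertible matrix to its inverse. -/
theorem result {F : Type*} [Field F] [Finite F] {m : ℕ} (A : Matrix.symplecticGroup (Fin m) F) : IsConj (A : Matrix (Fin m ⊕ Fin m) (Fin m ⊕ Fin m) F) ((A⁻¹ : Matrix.symplecticGroup (Fin m) F) : Matrix (Fin m ⊕ Fin m) (Fin m ⊕ Fin m) F) := by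
  have h := selfDual_of_isIsometry (x := ((spEquiv F m A).1 : End F _)) (fSymp_nondeg m) (spEquiv F m A).2
  rw [coe_spEquiv] at h
  have hA : IsUnit A.1 := (Group.isUnit A).map (Matrix.symplecticGroup (Fin m) F).subtype
  have h1 := (selfDual_toLin'_iff (fun a => ⟨a, rfl⟩) hA).1 h
  have h2 : ((A⁻¹ : Matrix.symplecticGroup (Fin m) F) : Matrix (Fin m ⊕ Fin m) (Fin m ⊕ Fin m) F) = A.1⁻¹ :=
    (Matrix.inv_eq_left_inv (by rw [← Submonoid.coe_mul, inv_mul_cancel]; rfl)).symm
  rw [h2]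
  refine h1.trans ?_
  rw [show A.1.map (RingHom.id F) = A.1 from rfl, ← Matrix.transpose_nonsing_inv,
    Cfsg.Lib.Known.isConj_matrix_iff_ed, Cfsg.Lib.Known.ed_transpose]

end Cfsg.Agent.S2586
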