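import Cfsg.Statements.S2588
import Cfsg.Agent.Lib.Conj.SS

set_option autoImplicit false
open Cfsg

namespace Cfsg.Agent.S2588

open Cfsg.Lib.Conj Cfsg.Lib.Forms Cfsg.Lib.Forms.Form Module


/-- An invertible matrix A over the field with q² elements is conjugate in GL_n(q²) to an element of the general unitary group GU_n(q) (isometries of the Hermitian form Σ u_i v_i^q) if and only if A is similar to the inverse transpose of its entrywise q-th power (A ~ A^(−qT), the image of A under the map sending a matrix to the inverse transpose of its entrywise q-th power — inverse transpose composed with the field automorphism — whose fixed points form GU_n(q)). -/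
theorem result {K : Type*} [Field K] [Fintype K] {q n : ℕ} (hK : Fintype.card K = q ^ 2) (A : GL (Fin n) K) : (∃ B : ↥(Cfsg.GU n K q), IsConj A (B : GL (Fin n) K)) ↔ IsConj (A : Matrix (Fin n) (Fin n) K) (((A : Matrix (Fin n) (Fin n) K).map (fun x : K => x ^ q)).transpose)⁻¹ := by
  obtain ⟨σ, h⟩ := isConj_of_card hK
  have hσ : (fun x : K => x ^ q) = σ := funext fun x => (h.apply x).symm
  rw [hσ, ← selfDual_toLin'_iff h.kind.σ_bijective.2 A.isUnit]
  constructor
  · rintro ⟨B, hB⟩
    rw [isConj_GL_iff, ← sim_iff_isConj, ← coe_guEquiv h] at hB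
    exact SelfDual.of_sim hB (selfDual_of_isIsometry (stdHerm_nondeg h _) (guEquiv h n B).2)
  · intro H
    obtain ⟨g, hg⟩ := H.exists_herm_isom (stdHerm_nondeg h (Fin n)) rfl
    obtain ⟨B, rfl⟩ := (guEquiv h n).surjective g
    exact ⟨B, by rwa [isConj_GL_iff, ← sim_iff_isConj, ← coe_guEquiv h]⟩

end Cfsg.Agent.S2588
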