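import Cfsg.Statements.S2591
import Cfsg.Agent.Lib.Conj.Jord
import Cfsg.Agent.Lib.Forms.Std

set_option autoImplicit false
open Cfsg

namespace Cfsg.Agent.S2591

open Cfsg.Lib.Conj Cfsg.Lib.Forms Cfsg.Lib.Forms.Form Module

open Cfsg.Lib.Known

/-- Over a finite field of odd order and for m ≥ 1, the regular unipotent elements of Sp_2m(F) (u − 1 nilpotent of rank 2m − 1, a single Jordan block) form exactly two conjugacy classes of Sp_2m(F) (one class under the similarity group, which splits in two). -/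
theorem result {F : Type*} [Field F] [Fintype F] {q : ℕ} (hF : Fintype.card F = q) (hq : Odd q) {m : ℕ} (hm : 1 ≤ m) : Nat.card {C : ConjClasses ↥(Matrix.symplecticGroup (Fin m) F) // ∃ u : Matrix.symplecticGroup (Fin m) F, ConjClasses.mk u = C ∧ ((u : Matrix (Fin m ⊕ Fin m) (Fin m ⊕ Fin m) F) - 1) ^ (2 * m) = 0 ∧ ((u : Matrix (Fin m ⊕ Fin m) (Fin m ⊕ Fin m) F) - 1).rank = 2 * m - 1} = 2 := by
  haveI : Nonempty (Fin m ⊕ Fin m) := ⟨.inl ⟨0, hm⟩⟩
  have hD := fSymp_nondeg (F := F) m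
  have h2 := two_ne_zero_of_odd_card hF hq
  rw [card_classes_equiv (spEquiv F m) _ (fun g => Reg ((g.1 : End F (Fin m ⊕ Fin m → F)) - 1))
    (fun g => by rw [coe_spEquiv, reg_toLin'_iff, Fintype.card_sum, Fintype.card_fin, ← two_mul]),
    card_classes_of_invariant' _ (fun g => Sq (fSymp F m) (g.1 : End F (Fin m ⊕ Fin m → F)))
    (fun _ => True)]
  · simp
  · intro g k hg hk
    rw [isConj_iff_isoC, eq_iff_iff]
    exact ⟨fun h => ⟨h.sq, h.symm.sq⟩,
      isoC_alt_reg h2 hD hD g.2 k.2 hg (sim_add_one (hg.sim hk rfl))⟩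
  · obtain ⟨x, hx⟩ := exists_end_hasED (F := F) (V := Fin m ⊕ Fin m → F)
      (isED_unipOf.2 (show ∀ e ∈ ({2 * m} : Multiset ℕ), 1 ≤ e by simp; omega))
      (by rw [edDeg_unipOf, finrank_plus]; simp)
    obtain ⟨D, hD', hi⟩ := (realT_alt (by omega) (even_two_mul m)).real hx
    have hr := reg_of_hasED hx
    obtain ⟨v, hv⟩ := hr.exists_not_mem
    have h0 := hr.B_top_ne_zero hD' hi.B_map hv
    have key : ∀ c : F, c ≠ 0 → ∃ g : (fSymp F m).isom, Reg ((g.1 : End F (Fin m ⊕ Fin m → F)) - 1) ∧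
        (Sq (fSymp F m) (g.1 : End F (Fin m ⊕ Fin m → F)) ↔
          IsSquare (c * D.B v (((x - 1) ^ (finrank F (Fin m ⊕ Fin m → F) - 1)) v))) := by
      intro c hc
      let E : Form (altKind F) (Fin m ⊕ Fin m → F) := ofAlt (c • D.B) fun u => by simp [Symp.B_self]
      have hEB : ∀ u w, E.B u w = c * D.B u w := fun _ _ => rfl
      have hE : E.Nondeg := fun u hu => hD' u fun w => by simpa [hEB, hc] using hu w
      have hi' : IsIsometry E E x := alt_isIsometry fun u w => by simp [hEB, hi.B_map]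
      obtain ⟨g, hg⟩ := exists_isom_isoC hD (Symp.iso hE hD rfl) hi'
      exact ⟨g, hr.of_sim (sim_sub_one hg.sim),
        Iff.trans ⟨hg.symm.sq, hg.sq⟩ (hr.sq_iff hE hi'.B_map hv)⟩
    intro P
    simp only [true_iff]
    by_cases hP : P
    · obtain ⟨g, h3, h4⟩ := key _ h0
      exact ⟨g, h3, propext ⟨fun _ => hP, fun _ => h4.2 ⟨_, rfl⟩⟩⟩
    · obtain ⟨a, ha⟩ := exists_not_isSquare h2
      obtain ⟨g, h3, h4⟩ := key (a * _⁻¹) (mul_ne_zero (by rintro rfl; simp at ha) (inv_ne_zero h0))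
      rw [inv_mul_cancel_right₀ h0] at h4
      exact ⟨g, h3, propext ⟨fun h => absurd (h4.1 h) ha, fun h => absurd h hP⟩⟩

end Cfsg.Agent.S2591
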