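import Cfsg.Statements.S2592
import Cfsg.Agent.Lib.Conj.Jord
import Cfsg.Agent.Lib.Forms.Std

set_option autoImplicit false
open Cfsg

namespace Cfsg.Agent.S2592

open Cfsg.Lib.Conj Cfsg.Lib.Forms Cfsg.Lib.Forms.Form Module


/-- Over a finite field with q elements, q odd, the centraliser in Sp_2m(F) (m ≥ 1) of a regular unipotent element (u − 1 nilpotent of rank 2m − 1) has order 2 q^m. -/
theorem result {F : Type*} [Field F] [Fintype F] {q : ℕ} (hF : Fintype.card F = q) (hq : Odd q) {m : ℕ} (hm : 1 ≤ m) (u : Matrix.symplecticGroup (Fin m) F) (hnil : ((u : Matrix (Fin m ⊕ Fin m) (Fin m ⊕ Fin m) F) - 1) ^ (2 * m) = 0) (hreg : ((u : Matrix (Fin m ⊕ Fin m) (Fin m ⊕ Fin m) F) - 1).rank = 2 * m - 1) : Nat.card ↥(Subgroup.centralizer ({u} : Set ↥(Matrix.symplecticGroup (Fin m) F))) = 2 * q ^ m := by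
  haveI : Nonempty (Fin m ⊕ Fin m) := ⟨.inl ⟨0, hm⟩⟩
  have h : Reg (Matrix.toLin' u.1 - 1) := reg_toLin'_iff.2 (by
    rw [Fintype.card_sum, Fintype.card_fin, ← two_mul]; exact ⟨hnil, hreg⟩)
  have hD := fSymp_nondeg (F := F) m
  have hx : ∀ a b, (fSymp F m).B (Matrix.toLin' u.1 a) (Matrix.toLin' u.1 b) = (fSymp F m).B a b :=
    mem_symplecticGroup_iff.1 u.2
  have := card_reg_unitary (two_ne_zero_of_odd_card hF hq) hD hx h
    (finrank_plus m)
  simp only [commute_sub_one_iff] at this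
  rw [card_centralizer_equiv (spEquiv F m), card_centralizer_isom hD fun _ => alt_isIsometry,
    coe_spEquiv, this, Nat.card_eq_fintype_card, hF]

end Cfsg.Agent.S2592
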