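import Cfsg.Statements.S2680
import Cfsg.Agent.Lib.Max.Inv2M

set_option autoImplicit false
open Cfsg

namespace Cfsg.Agent.S2680

open Matrix Cfsg.Lib.Forms Form

theorem tri (s : ℕ) : ∃ t, s * (s - 1) = 2 * t ∧ s ^ 2 = 2 * t + s := by
  obtain ⟨t, ht⟩ := Nat.even_mul_pred_self s
  refine ⟨t, by omega, ?_⟩
  cases s with
  | zero => simp at ht; omega
  | succ s => simp only [Nat.add_sub_cancel] at ht; nlinarith

theorem exp_eq (s r : ℕ) :
    2 * (s + r) * s - (3 * s ^ 2 - s) / 2 = s + 2 * r * s + s * (s - 1) / 2 := by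
  obtain ⟨t, h1, h2⟩ := tri s
  have : 2 * (s + r) * s = 2 * s ^ 2 + 2 * r * s := by ring
  omega

/-- Centraliser order of an involution t of Sp_2m(q), q even, with s = rank(t − 1) odd (type b_s): |C(t)| = q^(2ms − (3s² − s)/2) · |Sp_(s−1)(q)| · |Sp_(2m−2s)(q)|, where |Sp_2k(q)| = q^(k²) Π_(i=1)^k (q^(2i) − 1). -/
theorem result {F : Type*} [Field F] [Fintype F] [CharP F 2] {q : ℕ} (hF : Fintype.card F = q) {m s : ℕ} (t : Matrix.symplecticGroup (Fin m) F) (ht : t ^ 2 = 1) (hs : ((t : Matrix (Fin m ⊕ Fin m) (Fin m ⊕ Fin m) F) - 1).rank = s) (hodd : Odd s) : Nat.card ↥(Subgroup.centralizer ({t} : Set ↥(Matrix.symplecticGroup (Fin m) F))) = q ^ (2 * m * s - (3 * s ^ 2 - s) / 2) * ((q : ℕ) ^ (((s - 1) / 2) ^ 2) * ∏ i : Fin ((s - 1) / 2), (q ^ (2 * ((i : ℕ) + 1)) - 1)) * ((q : ℕ) ^ ((m - s) ^ 2) * ∏ i : Fin (m - s), (q ^ (2 * ((i : ℕ) + 1)) - 1)) := by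
  have h2 : (2 : F) = 0 := two_eq_zero_of_charP
  obtain ⟨r, rfl, H⟩ := sp_card_cent h2 t ht hs
  obtain ⟨j, hj⟩ := hodd
  rw [H, Symp.card_wallGrp_odd (fSymp_nondeg _) h2 (equiv_sq' _ ht) ((sp_rank t).symm.trans (hs.trans hj)),
    spOrder_eq, spOrder_eq, exp_eq, Nat.card_eq_fintype_card, hF, Nat.add_sub_cancel_left,
    show (s - 1) / 2 = j by omega]
  ring

end Cfsg.Agent.S2680
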