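import Cfsg.Statements.S2595
import Cfsg.Agent.Lib.Max.Inv2M

set_option autoImplicit false
open Cfsg

namespace Cfsg.Agent.S2595

open Cfsg.Lib.Forms



/-- Number of conjugacy classes of involutions in the full orthogonal group O⁺_2m(F) of the hyperbolic quadratic form Σ x_i y_i over a finite field of characteristic two (m ≥ 1): one class for each odd s ≤ m and two for each even s with 2 ≤ s ≤ m, where s = rank(t − 1); in all m + ⌊m/2⌋. -/
theorem result {F : Type*} [Field F] [Fintype F] [CharP F 2] {m : ℕ} (hm : 1 ≤ m) : Nat.card {C : ConjClasses ↥(Cfsg.isometryGroup F (Cfsg.quadFormPlus m F)) // ∃ g : ↥(Cfsg.isometryGroup F (Cfsg.quadFormPlus m F)), ConjClasses.mk g = C ∧ orderOf g = 2} = m + m / 2 := by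
  rw [card_invol_classes_congr (oIso _ fPlus_Q)]
  refine Quad.card_classes two_eq_zero_of_charP (fPlus_nondeg m) (finrank_plus m) fun j =>
    ⟨fun h => ?_, fun h => (fPlus_hasTS m).mono (by omega)⟩
  have := h.two_mul_le (fPlus_nondeg m)
  rw [finrank_plus] at this; omega

end Cfsg.Agent.S2595
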