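import Cfsg.Statements.S2599
import Cfsg.Agent.Lib.Conj.Jord

set_option autoImplicit false
open Cfsg

namespace Cfsg.Agent.S2599

open Cfsg.Lib.Conj Cfsg.Lib.Forms Cfsg.Lib.Forms.Form Module


/-- An irreducible invariant subspace of a semisimple isometry is non-degenerate or totally singular: let Q be a quadratic form on F^n (F finite of characteristic p) with non-degenerate polar form f, x an isometry of Q of order prime to p, and U a non-zero x-invariant subspace containing no x-invariant subspace other than 0 and U. Then U meets its f-orthogonal trivially, or Q vanishes on U, or p = 2, U is a line spanned by a non-singular vector and x fixes U pointwise. -/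
theorem result {F : Type*} [Field F] [Fintype F] {p : ℕ} [Fact p.Prime] [CharP F p] {n : ℕ} (Q : QuadraticForm F (Fin n → F)) (hQ : (QuadraticMap.polarBilin Q).Nondegenerate) (x : ↥(Cfsg.isometryGroup F ⇑Q)) (hx : (orderOf x).Coprime p) (U : Submodule F (Fin n → F)) (hU0 : U ≠ ⊥) (hUx : ∀ u ∈ U, ((x : Matrix.GeneralLinearGroup (Fin n) F) : Matrix (Fin n) (Fin n) F).mulVec u ∈ U) (hirr : ∀ W : Submodule F (Fin n → F), W ≤ U → (∀ w ∈ W, ((x : Matrix.GeneralLinearGroup (Fin n) F) : Matrix (Fin n) (Fin n) F).mulVec w ∈ W) → W = ⊥ ∨ W = U) : U ⊓ LinearMap.BilinForm.orthogonal (QuadraticMap.polarBilin Q) U = ⊥ ∨ (∀ u ∈ U, Q u = 0) ∨ (p = 2 ∧ Module.finrank F U = 1 ∧ (∃ u ∈ U, Q u ≠ 0) ∧ ∀ u ∈ U, ((x : Matrix.GeneralLinearGroup (Fin n) F) : Matrix (Fin n) (Fin n) F).mulVec u = u) := by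
  let D := ofQuad Q
  have hD : D.Nondeg := ofQuad_nondeg hQ
  have hi := (oIso D (ofQuad_Q_eq Q) x).2
  have hB : ∀ u v, D.B (Matrix.toLin' x.1.1 u) (Matrix.toLin' x.1.1 v) = D.B u v := fun u v => by
    simpa only [oIso_apply, Matrix.toLin'_apply] using hi.B_map u v
  have hQx : ∀ u, Q (x.1.1.mulVec u) = Q u := mem_isometryGroup.1 x.2
  have h1 := perp_inv (isUnit_of_isIsometry hD hB) hB (U := U) hUx
  rw [← ofQuad_perp]
  rcases hirr (U ⊓ D.perp U) inf_le_left (fun w hw => ⟨hUx w hw.1, h1 w hw.2⟩) with h | h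
  · exact Or.inl h
  right
  have hp : ∀ u ∈ U, ∀ v ∈ U, D.B u v = 0 := fun u hu v hv => (h.ge hv).2 u hu
  let W : Submodule F (Fin n → F) :=
    { carrier := {u | u ∈ U ∧ Q u = 0}
      add_mem' := fun {a b} ha hb => ⟨U.add_mem ha.1 hb.1, by
        have := D.Q_add_of_B (hp a ha.1 b hb.1)
        simpa [D, ha.2, hb.2] using this⟩
      zero_mem' := ⟨U.zero_mem, by simp⟩
      smul_mem' := fun c a ha => ⟨U.smul_mem c ha.1, by simp [QuadraticMap.map_smul, ha.2]⟩ }
  rcases hirr W (fun u hu => hu.1) (fun w hw => ⟨hUx w hw.1, (hQx w).trans hw.2⟩) with h' | h'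
  swap
  · exact Or.inl fun u hu => (h'.ge hu).2
  right
  have hinj : ∀ u ∈ U, Q u = 0 → u = 0 := fun u hu h0 => h'.le ⟨hu, h0⟩
  obtain ⟨u₀, hu₀, h0⟩ := Submodule.exists_mem_ne_zero_of_ne_bot hU0
  have hQ0 : Q u₀ ≠ 0 := fun h => h0 (hinj _ hu₀ h)
  have h2 : (2 : F) = 0 := by
    have := hp u₀ hu₀ u₀ hu₀
    rw [quad_B_self] at this
    exact (mul_eq_zero.1 this).resolve_right hQ0
  have hsub : ∀ u ∈ U, ∀ v ∈ U, Q u = Q v → u = v := fun u hu v hv huv =>
    sub_eq_zero.1 (hinj _ (U.sub_mem hu hv) (by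
      have := quad_Q_sub D u v
      rw [hp u hu v hv] at this
      change D.Q _ = 0
      rw [this]
      change Q u + Q v - 0 = 0
      linear_combination huv + Q v * h2))
  refine ⟨?_, ?_, ⟨u₀, hu₀, hQ0⟩, fun u hu => hsub _ (hUx u hu) _ hu (hQx u)⟩
  · exact (Nat.prime_dvd_prime_iff_eq Fact.out Nat.prime_two).1
      ((CharP.cast_eq_zero_iff F p 2).1 (by simpa using h2))
  · rw [finrank_eq_one_iff_of_nonzero' (⟨u₀, hu₀⟩ : U) (fun h => h0 (congrArg Subtype.val h))]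
    rintro ⟨w, hw⟩
    obtain ⟨c, hc⟩ := isSquare_of_two_eq_zero h2 (Q w / Q u₀)
    refine ⟨c, Subtype.ext (hsub _ (U.smul_mem c hu₀) _ hw ?_)⟩
    rw [QuadraticMap.map_smul, ← hc, smul_eq_mul, div_mul_cancel₀ _ hQ0]

end Cfsg.Agent.S2599
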