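import Cfsg.Statements.S2604
import Cfsg.Agent.Lib.CAut.OutT

set_option autoImplicit false
open Cfsg

namespace Cfsg.Agent.S2604

open Cfsg.Lib.CAut Cfsg.Lib.Forms Cfsg.Lib.Forms.Form Module


/-- Outer automorphism group of the simple orthogonal group Ω_(2m+1)(q), m ≥ 3, q = p^f odd: it is the direct product of a group of order 2 (diagonal automorphisms, from SO) and a cyclic group of order f (field automorphisms). -/
theorem result {F : Type*} [Field F] [Fintype F] {p f m : ℕ} [Fact p.Prime] (hf : 1 ≤ f) (hF : Fintype.card F = p ^ f) (hp : p ≠ 2) (hm : 3 ≤ m) : Nonempty (Cfsg.Out (Cfsg.POmega F (Cfsg.quadFormOdd m F)) ≃* Multiplicative (ZMod 2 × ZMod f)) := by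
  rw [← Nat.card_eq_fintype_card] at hF
  have h2 : (2 : F) ≠ 0 := odd_card_iff.1 (hF ▸ ((Fact.out : p.Prime).odd_of_ne_two hp).pow)
  have hn : 5 ≤ finrank F (Unit ⊕ (Fin m ⊕ Fin m) → F) := by rw [finrank_odd]; omega
  haveI := charP_of_card hF
  haveI : NeZero f := ⟨by omega⟩
  exact (isOut_gout _ _ (oAct_surjective fOdd_Q (fOdd_nondeg h2 m) hn fun k _ hk => by
    rw [finrank_odd] at hk; omega)).equiv_odd (fOdd_nondeg h2 m) hn hF (finrank_odd m)
    (φ := ⟨_, _, isSim_pi_odd m _⟩) rfl (isSim_pi_odd m _) (Subtype.ext (pi_frob_pow hF _))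

end Cfsg.Agent.S2604
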