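import Cfsg.Statements.S2605
import Cfsg.Agent.Lib.CAut.OutT

set_option autoImplicit false
open Cfsg

namespace Cfsg.Agent.S2605

open Cfsg.Lib.CAut Cfsg.Lib.Forms Cfsg.Lib.Forms.Form Module


/-- Outer automorphism group of PΩ⁻_2m(q), m ≥ 4, q = 2^f: cyclic of order 2f, generated by a semilinear map inducing the Frobenius automorphism of the field (its f-th power is a graph automorphism, an orthogonal transvection). -/
theorem result {F : Type*} [Field F] [Fintype F] {f m : ℕ} (hf : 1 ≤ f) (hF : Fintype.card F = 2 ^ f) (hm : 4 ≤ m) (a b : F) (hab : ∀ z₁ z₂ : F, z₁ ^ 2 + a * z₁ * z₂ + b * z₂ ^ 2 = 0 → z₁ = 0 ∧ z₂ = 0) : IsCyclic (Cfsg.Out (Cfsg.POmega F (Cfsg.quadFormMinus (m - 1) F a b))) ∧ Nat.card (Cfsg.Out (Cfsg.POmega F (Cfsg.quadFormMinus (m - 1) F a b))) = 2 * f := by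
  rw [← Nat.card_eq_fintype_card] at hF
  obtain ⟨m, rfl⟩ := Nat.exists_eq_add_of_le' (show 1 ≤ m by omega)
  have hn : 5 ≤ finrank F ((Fin m ⊕ Fin m) ⊕ Fin 2 → F) := by rw [finrank_minus]; omega
  haveI := charP_of_card hF
  have h := isOut_gout _ _ (oAct_surjective (fMinus_Q a b) (fMinus_nondeg m hab) hn fun k _ hk => by
    rw [finrank_minus] at hk
    rw [show k = m + 1 by omega]; exact fMinus_not_hasTS m hab)
  obtain ⟨φ, h1, v, h2, h3⟩ := exists_frob_minus_two (fMinus_nondeg m hab) hF hf (finrank_minus m)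
    (fMinus_not_hasTS m hab)
  exact ⟨h.isCyclic_two (fMinus_nondeg m hab) hn (finrank_minus m) two_eq_zero_of_charP h1 h2 h3,
    h.card_two (fMinus_nondeg m hab) hn hF (finrank_minus m) two_eq_zero_of_charP⟩

end Cfsg.Agent.S2605
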