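import Cfsg.Statements.S2606
import Cfsg.Agent.Lib.CAut.OutT

set_option autoImplicit false
open Cfsg

namespace Cfsg.Agent.S2606

open Cfsg.Lib.CAut Cfsg.Lib.Forms Cfsg.Lib.Forms.Form Module


/-- Outer automorphism group of PΩ⁻_2m(q), m ≥ 4, q = p^f odd: it is dihedral of order 8 times cyclic of order f when q ≡ 3 (mod 4) and m is odd, and otherwise the direct product of a group of order 2 with a cyclic group of order 2f. -/
theorem result {F : Type*} [Field F] [Fintype F] {p f m : ℕ} [Fact p.Prime] (hf : 1 ≤ f) (hF : Fintype.card F = p ^ f) (hp : p ≠ 2) (hm : 4 ≤ m) (a b : F) (hab : ∀ z₁ z₂ : F, z₁ ^ 2 + a * z₁ * z₂ + b * z₂ ^ 2 = 0 → z₁ = 0 ∧ z₂ = 0) : if p ^ f % 4 = 3 ∧ Odd m then Nonempty (Cfsg.Out (Cfsg.POmega F (Cfsg.quadFormMinus (m - 1) F a b)) ≃* DihedralGroup 4 × Multiplicative (ZMod f)) else Nonempty (Cfsg.Out (Cfsg.POmega F (Cfsg.quadFormMinus (m - 1) F a b)) ≃* Multiplicative (ZMod 2 × ZMod (2 * f))) := by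
  rw [← Nat.card_eq_fintype_card] at hF
  obtain ⟨m, rfl⟩ := Nat.exists_eq_add_of_le' (show 1 ≤ m by omega)
  have h2 : (2 : F) ≠ 0 := odd_card_iff.1 (hF ▸ ((Fact.out : p.Prime).odd_of_ne_two hp).pow)
  have hn : 5 ≤ finrank F ((Fin m ⊕ Fin m) ⊕ Fin 2 → F) := by rw [finrank_minus]; omega
  haveI := charP_of_card hF
  haveI : NeZero f := ⟨by omega⟩
  have h := isOut_gout _ _ (oAct_surjective (fMinus_Q a b) (fMinus_nondeg m hab) hn fun k _ hk => by
    rw [finrank_minus] at hk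
    rw [show k = m + 1 by omega]; exact fMinus_not_hasTS m hab)
  have hd := disc_minus h2 m hab
  rw [hF] at hd
  split_ifs with h3
  · exact h.equiv_disc _ hn hF (finrank_minus m) h2
      (hd.trans (if_pos ⟨Nat.not_odd_iff_even.1 (Nat.odd_add_one.1 h3.2), h3.1⟩))
  · exact h.equiv_disc_neg _ hn hF (finrank_minus m) h2
      (hd.trans (if_neg fun h4 => h3 ⟨h4.2, h4.1.add_one⟩))

end Cfsg.Agent.S2606
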