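import Cfsg.Statements.S2607
import Cfsg.Agent.Lib.CAut.Tri

set_option autoImplicit false
open Cfsg

namespace Cfsg.Agent.S2607

open Cfsg.Lib.CAut Cfsg.Lib.Forms Cfsg.Lib.Forms.Form Module


/-- Outer automorphism group of PΩ⁺_2m(q), q = 2^f: for m ≥ 5 it is the direct product of a group of order 2 (graph automorphism, an orthogonal transvection) and a cyclic group of order f (field automorphisms); for m = 4 triality enlarges it to S_3 × C_f. -/
theorem result {F : Type*} [Field F] [Fintype F] {f m : ℕ} (hf : 1 ≤ f) (hF : Fintype.card F = 2 ^ f) (hm : 4 ≤ m) : if m = 4 then Nonempty (Cfsg.Out (Cfsg.POmega F (Cfsg.quadFormPlus m F)) ≃* Equiv.Perm (Fin 3) × Multiplicative (ZMod f)) else Nonempty (Cfsg.Out (Cfsg.POmega F (Cfsg.quadFormPlus m F)) ≃* Multiplicative (ZMod 2 × ZMod f)) := by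
  rw [← Nat.card_eq_fintype_card] at hF
  haveI := charP_of_card hF
  haveI : NeZero f := ⟨by omega⟩
  split_ifs with h
  · subst h
    obtain ⟨t, ht⟩ := exists_isTri (jO _ fPlus_Q (commutator_eq_E' (fPlus_nondeg (F := F) 4) five_le_eight))
    exact ht.equiv_two hF two_eq_zero_of_charP
  · exact (isOut_gout _ _ (pAct_surjective (by omega))).equiv_two_split (fPlus_nondeg m)
      (five_le_plus (by omega)) hF (finrank_plus m) two_eq_zero_of_charP
      (φ := ⟨_, _, isSim_pi_plus m _⟩) rfl (Subtype.ext (pi_frob_pow hF _))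

end Cfsg.Agent.S2607
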