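import Cfsg.Statements.S2608
import Cfsg.Agent.Lib.CAut.Tri

set_option autoImplicit false
open Cfsg

namespace Cfsg.Agent.S2608

open Cfsg.Lib.CAut Cfsg.Lib.Forms Cfsg.Lib.Forms.Form Module


/-- Outer automorphism group of PΩ⁺_2m(q), q = p^f odd: for m = 4 it is S_4 × C_f (triality); for m ≥ 5 it is C_2 × C_2 × C_f when q ≡ 3 (mod 4) and m is odd, and D_8 × C_f otherwise. -/
theorem result {F : Type*} [Field F] [Fintype F] {p f m : ℕ} [Fact p.Prime] (hf : 1 ≤ f) (hF : Fintype.card F = p ^ f) (hp : p ≠ 2) (hm : 4 ≤ m) : if m = 4 then Nonempty (Cfsg.Out (Cfsg.POmega F (Cfsg.quadFormPlus m F)) ≃* Equiv.Perm (Fin 4) × Multiplicative (ZMod f)) else if p ^ f % 4 = 3 ∧ Odd m then Nonempty (Cfsg.Out (Cfsg.POmega F (Cfsg.quadFormPlus m F)) ≃* Multiplicative (ZMod 2 × ZMod 2 × ZMod f)) else Nonempty (Cfsg.Out (Cfsg.POmega F (Cfsg.quadFormPlus m F)) ≃* DihedralGroup 4 × Multiplicative (ZMod f)) := by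
  rw [← Nat.card_eq_fintype_card] at hF
  haveI := charP_of_card hF
  haveI : NeZero f := ⟨by omega⟩
  have h2 := (two_ne_zero_iff hF).2 hp
  by_cases h : m = 4
  · subst h
    obtain ⟨t, ht⟩ := exists_isTri (jO _ fPlus_Q (commutator_eq_E' (fPlus_nondeg (F := F) 4) five_le_eight))
    exact ht.equiv_odd hF h2
  have H := isOut_gout _ _ (pAct_surjective (F := F) (show 5 ≤ m by omega))
  have hd := disc_plus h2 m
  rw [hF] at hd
  rw [if_neg h]
  split_ifs with h3
  · obtain ⟨e⟩ := H.equiv_disc_neg _ (five_le_plus (by omega)) hF (finrank_plus m) h2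
      (hd.trans (if_pos h3.symm))
    obtain ⟨e'⟩ := nonempty_zmod_two_mul (n := f) (Nat.not_even_iff_odd.1 fun ⟨k, hk⟩ => by
      have := h3.1
      rw [hk, ← two_mul, pow_mul', Nat.pow_mod] at this
      have h4 : p ^ k % 4 < 4 := Nat.mod_lt _ (by norm_num)
      generalize p ^ k % 4 = x at *
      interval_cases x <;> simp at this)
    exact ⟨e.trans e'⟩
  · exact H.equiv_disc _ (five_le_plus (by omega)) hF (finrank_plus m) h2
      (hd.trans (if_neg fun h4 => h3 h4.symm))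

end Cfsg.Agent.S2608
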