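import Cfsg.Statements.S2611
import Cfsg.Agent.Lib.Forms.Std

set_option autoImplicit false
open Cfsg

namespace Cfsg.Agent.S2611

open Cfsg.Lib.Forms Module Matrix



/-- For the hyperbolic quadratic form Σ x_i y_i on F^(2m) (F finite, m ≥ 1, excluding m = 2 over the field of two elements) and an invertible m × m matrix A, the block-diagonal isometry diag(A, (A⁻¹)ᵀ), which stabilises the two maximal totally singular subspaces x = 0 and y = 0, lies in Ω⁺_2m(F) (the commutator subgroup of the orthogonal group) if and only if det A is a square in F. -/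
theorem result {F : Type*} [Field F] [Fintype F] {m : ℕ} (hm : 1 ≤ m) (h : Fintype.card F ≠ 2 ∨ m ≠ 2) (A : GL (Fin m) F) : (∃ g : ↥(Cfsg.isometryGroup F (Cfsg.quadFormPlus m F)), g ∈ Cfsg.Omega F (Cfsg.quadFormPlus m F) ∧ ((g : Matrix.GeneralLinearGroup (Fin m ⊕ Fin m) F) : Matrix (Fin m ⊕ Fin m) (Fin m ⊕ Fin m) F) = Matrix.fromBlocks (A : Matrix (Fin m) (Fin m) F) 0 0 ((A : Matrix (Fin m) (Fin m) F)⁻¹).transpose) ↔ IsSquare (A : Matrix (Fin m) (Fin m) F).det := by
  have hD := fPlus_nondeg (F := F) m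
  have hG : (fPlus F m).Good := good_of_fintype_card (by rw [finrank_plus]; omega)
  have hA : IsUnit (A : Matrix (Fin m) (Fin m) F).det := (isUnit_iff_isUnit_det _).1 A.isUnit
  let M := fromBlocks (A : Matrix (Fin m) (Fin m) F) 0 0 ((A : Matrix (Fin m) (Fin m) F)⁻¹)ᵀ
  let k := (fPlus F m).mkIsom hD (mulVecLin M) (quad_isIsometry (map_add _) fun x => by
    have : (A.1 *ᵥ x ∘ .inl) ⬝ᵥ ((A.1⁻¹)ᵀ *ᵥ x ∘ .inr) = x ∘ .inl ⬝ᵥ x ∘ .inr := by
      rw [dotProduct_mulVec, vecMul_transpose, mulVec_mulVec, nonsing_inv_mul _ hA, one_mulVec]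
    simpa [fPlus_Q, quadFormPlus, M, fromBlocks_mulVec, dotProduct] using this)
  have hk : k ∈ (fPlus F m).leviGL (uInl F m) (uInr F m) := by
    rw [Form.leviGL_of_sup_eq_top hD (uInl_sup_uInr m)]
    refine ⟨Form.mem_stab_of_mapsTo _ fun x hx => mem_uInl.2 fun i => ?_,
      Form.mem_stab_of_mapsTo _ fun x hx => mem_uInr.2 fun i => ?_⟩
    · simp [k, M, fromBlocks_mulVec, show x ∘ Sum.inr = 0 from funext (mem_uInl.1 hx)]
    · simp [k, M, fromBlocks_mulVec, show x ∘ Sum.inl = 0 from funext (mem_uInr.1 hx)]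
  obtain ⟨h1, h2⟩ := (fPlus_isDual m).dickson_spinor_levi hD hG ⟨k, hk⟩
  rw [exists_mem_Omega_iff _ fPlus_Q k fun _ => rfl, hD.mem_commutator_iff hG, h1, h2, chi_eq_one_iff,
    ← LinearMap.det_conj _ (uInlEquiv F m).symm, ← LinearMap.det_toLin']
  simp only [true_and]
  congr! 2
  refine LinearMap.ext fun x => funext fun i => ?_
  refine (congrFun (Form.leviEquiv_apply hD (fPlus_isDual m) ⟨k, hk⟩ (uInlEquiv F m x)) (.inl i)).trans ?_
  simp [uInlEquiv, k, M, fromBlocks_mulVec]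
  rfl

end Cfsg.Agent.S2611
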