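import Cfsg.Statements.S2612
import Cfsg.Agent.Lib.Forms.Std

set_option autoImplicit false
open Cfsg

namespace Cfsg.Agent.S2612

open Cfsg.Lib.Forms Module Matrix



/-- For the hyperbolic quadratic form Σ x_i y_i on F^(2m) (F finite, m ≥ 1, excluding m = 2 over the field of two elements), Ω⁺_2m(F) (the commutator subgroup of the orthogonal group) contains an element interchanging the two complementary maximal totally singular subspaces {y = 0} and {x = 0} if and only if m is even (dimension divisible by 4). -/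
theorem result {F : Type*} [Field F] [Fintype F] {m : ℕ} (hm : 1 ≤ m) (h : Fintype.card F ≠ 2 ∨ m ≠ 2) : (∃ g : ↥(Cfsg.isometryGroup F (Cfsg.quadFormPlus m F)), g ∈ Cfsg.Omega F (Cfsg.quadFormPlus m F) ∧ (∀ v : Fin m ⊕ Fin m → F, (∀ i, v (Sum.inr i) = 0) → ∀ i, (((g : Matrix.GeneralLinearGroup (Fin m ⊕ Fin m) F) : Matrix (Fin m ⊕ Fin m) (Fin m ⊕ Fin m) F).mulVec v) (Sum.inl i) = 0) ∧ (∀ v : Fin m ⊕ Fin m → F, (∀ i, v (Sum.inl i) = 0) → ∀ i, (((g : Matrix.GeneralLinearGroup (Fin m ⊕ Fin m) F) : Matrix (Fin m ⊕ Fin m) (Fin m ⊕ Fin m) F).mulVec v) (Sum.inr i) = 0)) ↔ Even m := by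
  have hD := fPlus_nondeg (F := F) m
  have hG : (fPlus F m).Good := good_of_fintype_card (by rw [finrank_plus]; omega)
  have hd := fPlus_isDual (F := F) m
  have key : ∀ g : (fPlus F m).isom, (∀ x ∈ uInl F m, g.1 x ∈ uInr F m) → Form.dickson hD g = (-1) ^ m := by
    intro g hg
    rw [hd.left.dickson_eq hD hG (by rw [finrank_uInl, finrank_plus]), finrank_uInl,
      (hd.disjoint.mono_right (Submodule.map_le_iff_le_comap.2 hg)).eq_bot, finrank_bot, add_zero]
  constructor
  · rintro ⟨g, h1, h2, -⟩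
    have := key (oIso _ fPlus_Q g) fun x hx => mem_uInr.2 (h2 x (mem_uInl.1 hx))
    rw [((hD.mem_commutator_iff hG).1 ((mem_Omega_iff _ fPlus_Q).1 h1)).1] at this
    exact (neg_one_pow_eq_one_iff_even (by decide)).1 this.symm
  · intro he
    let s := (fPlus F m).mkIsom hD (LinearMap.funLeft F F Sum.swap) (quad_isIsometry (map_add _) fun x => by
      simp [fPlus_Q, quadFormPlus, mul_comm])
    obtain ⟨c, hc, h1⟩ := Form.exists_chi_eq hD s
    obtain ⟨k, hk, h2, h3⟩ := hd.exists_mem_levi_spinor hD hG (by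
      intro h; have := finrank_uInl (F := F) m; rw [h, finrank_bot] at this; omega) hc
    have h4 := key s fun x hx => mem_uInr.2 fun i => mem_uInl.1 hx i
    refine ⟨(oIso _ fPlus_Q).symm (s * k), (mem_Omega_iff _ fPlus_Q).2 ?_, fun v hv i => ?_, fun v hv i => ?_⟩
    · simp [hD.mem_commutator_iff hG, h2, h3, h4, ← h1, he.neg_one_pow]
    · rw [mulVec_oIso_symm]
      exact mem_uInl.1 ((hk.1 v).1 (mem_uInl.2 hv)) i
    · rw [mulVec_oIso_symm]
      exact mem_uInr.1 ((hk.2.1 v).1 (mem_uInr.2 hv)) i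

end Cfsg.Agent.S2612
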