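import Cfsg.Statements.S2614
import Cfsg.Agent.Lib.Forms.Std

set_option autoImplicit false
open Cfsg

namespace Cfsg.Agent.S2614

open Cfsg.Lib.Forms Module Matrix



/-- For the form x_0² + Σ x_j y_j on F^(2m+1), F finite with q elements, q odd, and 1 ≤ i ≤ m: the involution of determinant one negating the first i hyperbolic pairs (and fixing x_0 and the other pairs) lies in Ω_(2m+1)(q) (commutator subgroup of the orthogonal group) if and only if q^i ≡ 1 (mod 4); its (−1)-eigenspace is a hyperbolic 2i-space. -/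
theorem result {F : Type*} [Field F] [Fintype F] {q : ℕ} (hF : Fintype.card F = q) (hq : Odd q) {m : ℕ} (i : ℕ) (hi : 1 ≤ i) (him : i ≤ m) : (∃ g : ↥(Cfsg.isometryGroup F (Cfsg.quadFormOdd m F)), g ∈ Cfsg.Omega F (Cfsg.quadFormOdd m F) ∧ ((g : Matrix.GeneralLinearGroup (Unit ⊕ (Fin m ⊕ Fin m)) F) : Matrix (Unit ⊕ (Fin m ⊕ Fin m)) (Unit ⊕ (Fin m ⊕ Fin m)) F) = Matrix.diagonal (fun k : Unit ⊕ (Fin m ⊕ Fin m) => if (Sum.elim (fun _ : Unit => i) (Sum.elim (fun j : Fin m => (j : ℕ)) (fun j : Fin m => (j : ℕ))) k) < i then (-1 : F) else 1)) ↔ q ^ i % 4 = 1 := by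
  have h2 := two_ne_zero_of_odd_card hF hq
  have hB : ∀ x y, (fOdd F m).B x y = 2 * (x (.inl ()) * y (.inl ())) +
      (fPlus F m).B (x ∘ .inr) (y ∘ .inr) := fun x y => by
    rw [← (isIsometry_oddCoord m).B_map]; simp; rfl
  have hs : ∀ i, (Pi.single (.inr i) 1 : Unit ⊕ (Fin m ⊕ Fin m) → F) ∘ .inr = Pi.single i 1 := fun i => by
    ext j; simp [Pi.single_apply]
  rw [diag_mem_Omega_iff (fOdd_nondeg h2 m) fOdd_Q h2
    (fun j => .inr (.inl (Fin.castLE him j))) (fun j => .inr (.inr (Fin.castLE him j)))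
    (fun _ _ h => by simpa using h) (by simp) (by simp [hB, hs, fPlus_B_inl]) (by simp [hB, hs, fPlus_B_inr]),
    Nat.card_eq_fintype_card, hF]
  rintro (k | k | k)
  · simp
  all_goals simpa using ⟨fun h => ⟨⟨k, h⟩, rfl⟩, by rintro ⟨j, rfl⟩; simp⟩

end Cfsg.Agent.S2614
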