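import Cfsg.Statements.S2616
import Cfsg.Agent.Lib.Forms.Std

set_option autoImplicit false
open Cfsg

namespace Cfsg.Agent.S2616

open Cfsg.Lib.Forms Module Matrix



/-- Standard bases of a non-degenerate quadratic space of even dimension 2m over a finite field: either there is a hyperbolic basis e_i, f_i (Q(e_i) = Q(f_i) = 0, B(e_i, f_j) = δ_ij, the e's pairwise orthogonal and the f's pairwise orthogonal, B the polar form), or there is an elliptic basis: hyperbolic pairs e_i, f_i for i < m − 1 together with x, y orthogonal to them with Q(x) = 1, B(x, y) = 1, Q(y) = ζ where t² + t + ζ has no root in the field. -/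
theorem result {F V : Type*} [Field F] [Finite F] [AddCommGroup V] [Module F V] [FiniteDimensional F V] {m : ℕ} (hm : 1 ≤ m) (hV : Module.finrank F V = 2 * m) (Q : QuadraticForm F V) (hQ : (QuadraticMap.polarBilin Q).Nondegenerate) : (∃ b : Module.Basis (Fin m ⊕ Fin m) F V, (∀ i, Q (b (Sum.inl i)) = 0 ∧ Q (b (Sum.inr i)) = 0) ∧ (∀ i j, QuadraticMap.polar ⇑Q (b (Sum.inl i)) (b (Sum.inr j)) = if i = j then 1 else 0) ∧ (∀ i j, QuadraticMap.polar ⇑Q (b (Sum.inl i)) (b (Sum.inl j)) = 0 ∧ QuadraticMap.polar ⇑Q (b (Sum.inr i)) (b (Sum.inr j)) = 0)) ∨ (∃ (b : Module.Basis ((Fin (m - 1) ⊕ Fin (m - 1)) ⊕ Fin 2) F V) (ζ : F), (∀ t : F, t ^ 2 + t + ζ ≠ 0) ∧ (∀ i, Q (b (Sum.inl (Sum.inl i))) = 0 ∧ Q (b (Sum.inl (Sum.inr i))) = 0) ∧ (∀ i j, QuadraticMap.polar ⇑Q (b (Sum.inl (Sum.inl i))) (b (Sum.inl (Sum.inr j))) = if i = j then 1 else 0) ∧ (∀ i j, QuadraticMap.polar ⇑Q (b (Sum.inl (Sum.inl i)))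 (b (Sum.inl (Sum.inl j))) = 0 ∧ QuadraticMap.polar ⇑Q (b (Sum.inl (Sum.inr i))) (b (Sum.inl (Sum.inr j))) = 0) ∧ (∀ i (k : Fin 2), QuadraticMap.polar ⇑Q (b (Sum.inl (Sum.inl i))) (b (Sum.inr k)) = 0 ∧ QuadraticMap.polar ⇑Q (b (Sum.inl (Sum.inr i))) (b (Sum.inr k)) = 0) ∧ Q (b (Sum.inr 0)) = 1 ∧ QuadraticMap.polar ⇑Q (b (Sum.inr 0)) (b (Sum.inr 1)) = 1 ∧ Q (b (Sum.inr 1)) = ζ) := by
  have hD := ofQuad_nondeg hQ
  by_cases h : (ofQuad Q).HasTS m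
  · obtain ⟨e, he⟩ := (Quad.iso_fPlus hD hV h).symm
    have h1 : ∀ x, Q (e x) = _ := he.Q_map
    have h2 : ∀ x y, QuadraticMap.polar Q (e x) (e y) = _ := he.B_map
    refine Or.inl ⟨(Pi.basisFun F _).map e, fun i => ?_, fun i j => ?_, fun i j => ?_⟩
    · simp [h1, fPlus_Q, quadFormPlus]
    · simp [h2, fPlus_B_inl, Pi.single_apply]
    · simp [h2, fPlus_B_inl, fPlus_B_inr]
  · obtain ⟨ζ, hζ⟩ := exists_irred_one F
    obtain ⟨n, rfl⟩ := Nat.exists_eq_add_of_le' hm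
    obtain ⟨e, he⟩ := (Quad.iso_fMinus hD hV h (aniso_of_irred hζ)).symm
    have h1 : ∀ x, Q (e x) = _ := he.Q_map
    have h2 : ∀ x y, QuadraticMap.polar Q (e x) (e y) = (fPlus F n).B (x ∘ .inl) (y ∘ .inl) +
      (fBin 1 ζ).B (x ∘ .inr) (y ∘ .inr) := he.B_map
    have hs : ∀ i, (Pi.single (.inl i) 1 : (Fin n ⊕ Fin n) ⊕ Fin 2 → F) ∘ .inl = Pi.single i 1 := fun i => by
      ext j; simp [Pi.single_apply]
    have hs' : ∀ i, (Pi.single (.inr i) 1 : (Fin n ⊕ Fin n) ⊕ Fin 2 → F) ∘ .inl = 0 := fun i => by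
      ext j; simp
    let b : Basis ((Fin n ⊕ Fin n) ⊕ Fin 2) F V := (Pi.basisFun F _).map e
    refine Or.inr ⟨b, ζ, hζ, fun (i : Fin n) => ?_, fun (i j : Fin n) => ?_, fun (i j : Fin n) => ?_,
      fun (i : Fin n) j => ?_, ?_⟩
    · simp [b, h1, fMinus_Q, quadFormMinus]
    · simp [b, h2, hs, fPlus_B_inl, fBin_B, Pi.single_apply]
    · simp [b, h2, hs, fPlus_B_inl, fPlus_B_inr, fBin_B]
    · simp [b, h2, hs, hs', fBin_B]
    · simp [b, h1, h2, hs', fBin_B, fMinus_Q, quadFormMinus]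

end Cfsg.Agent.S2616
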