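import Cfsg.Statements.S2618
import Cfsg.Agent.Lib.Forms.Std

set_option autoImplicit false
open Cfsg

namespace Cfsg.Agent.S2618

open Cfsg.Lib.Forms Module Matrix



/-- Standard (parabolic) basis of a non-degenerate quadratic space of odd dimension 2m + 1 over a finite field (the non-degeneracy of the polar form forces the characteristic to be odd): there is a basis e_i, f_i (i < m), x with Q(e_i) = Q(f_i) = 0, B(e_i, f_j) = δ_ij (B the polar form), the e's pairwise orthogonal and the f's pairwise orthogonal, x orthogonal to all of them and Q(x) ≠ 0. -/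
theorem result {F V : Type*} [Field F] [Finite F] [AddCommGroup V] [Module F V] [FiniteDimensional F V] {m : ℕ} (hV : Module.finrank F V = 2 * m + 1) (Q : QuadraticForm F V) (hQ : (QuadraticMap.polarBilin Q).Nondegenerate) : ∃ b : Module.Basis (Unit ⊕ (Fin m ⊕ Fin m)) F V, Q (b (Sum.inl ())) ≠ 0 ∧ (∀ i, QuadraticMap.polar ⇑Q (b (Sum.inl ())) (b (Sum.inr (Sum.inl i))) = 0 ∧ QuadraticMap.polar ⇑Q (b (Sum.inl ())) (b (Sum.inr (Sum.inr i))) = 0) ∧ (∀ i, Q (b (Sum.inr (Sum.inl i))) = 0 ∧ Q (b (Sum.inr (Sum.inr i))) = 0) ∧ (∀ i j, QuadraticMap.polar ⇑Q (b (Sum.inr (Sum.inl i))) (b (Sum.inr (Sum.inr j))) = if i = j then 1 else 0) ∧ (∀ i j, QuadraticMap.polar ⇑Q (b (Sum.inr (Sum.inl i))) (b (Sum.inr (Sum.inl j))) = 0 ∧ QuadraticMap.polar ⇑Q (b (Sum.inr (Sum.inr i))) (b (Sum.inr (Sum.inr j))) = 0) := by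
  have hD := ofQuad_nondeg hQ
  have h2 := Quad.two_ne_zero_of_odd hD hV
  have hP := fPlus_nondeg (F := F) m
  obtain ⟨a, ha, h⟩ := exists_chi_eq_unit h2 (Form.disc hD * Form.disc hP)
  obtain ⟨e, he⟩ := Form.iso_of_disc ((fOne_nondeg h2 ha).prod hP) hD h2
    (by rw [finrank_prod, finrank_plus, hV, finrank_self, add_comm])
    (by rw [Form.disc_prod (fOne_nondeg h2 ha) hP, Form.disc_fOne ha, h, mul_assoc, Int.units_mul_self, mul_one])
  have h1 : ∀ x, Q (e x) = _ := he.Q_map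
  have h3 : ∀ x y, QuadraticMap.polar Q (e x) (e y) = _ := he.B_map
  have h4 : oddCoord F m (Pi.single (.inl ()) 1) = (1, 0) := by
    ext i
    · rfl
    · simp [oddCoord]
  have h5 : ∀ i, oddCoord F m (Pi.single (.inr i) 1) = (0, Pi.single i 1) := fun i => by
    ext j
    · simp [oddCoord]
    · simp [oddCoord, Pi.single_apply]
  refine ⟨(Pi.basisFun F _).map ((oddCoord F m).trans e), ?_, fun i => ?_, fun i => ?_, fun i j => ?_,
    fun i j => ?_⟩
  · simp [h1, h4, ha]
  · simp [h3, h4, h5]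
  · simp [h1, h5, fPlus_Q, quadFormPlus]
  · simp [h3, h5, fPlus_B_inl, Pi.single_apply]
  · simp [h3, h5, fPlus_B_inl, fPlus_B_inr]

end Cfsg.Agent.S2618
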