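import Cfsg.Statements.S2619
import Cfsg.Agent.Lib.Forms.Std

set_option autoImplicit false
open Cfsg

namespace Cfsg.Agent.S2619

open Cfsg.Lib.Forms Module Matrix



/-- Over a finite field of characteristic two, given an alternating bilinear form B on a finite-dimensional space, a basis (v_i) and scalars (λ_i), there is exactly one quadratic form whose polar form is B and whose value at each v_i is λ_i. -/
theorem result {F V ι : Type*} [Field F] [Finite F] [CharP F 2] [AddCommGroup V] [Module F V] [Fintype ι] (b : Module.Basis ι F V) (B : LinearMap.BilinForm F V) (hB : B.IsAlt) (c : ι → F) : ∃! Q : QuadraticForm F V, QuadraticMap.polarBilin Q = B ∧ ∀ i, Q (b i) = c i := by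
  classical
  have h2 : (2 : F) = 0 := two_eq_zero_of_charP
  let r := Fintype.equivFin ι
  let M : Matrix ι ι F := .of fun i j => if r i < r j then B (b i) (b j) else if i = j then c i else 0
  have hM : ∀ i j, Matrix.toBilin b M (b i) (b j) = M i j := fun i j => by
    rw [← LinearMap.BilinForm.toMatrix_apply b, LinearMap.BilinForm.toMatrix_toBilin]
  refine existsUnique_of_exists_of_unique ⟨(Matrix.toBilin b M).toQuadraticMap, ?_, fun i => ?_⟩
    fun Q Q' h h' => QuadraticMap.ext fun x => ?_
  · rw [LinearMap.BilinMap.polarBilin_toQuadraticMap]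
    refine b.ext fun i => b.ext fun j => ?_
    simp only [LinearMap.add_apply, LinearMap.flip_apply, hM, M, of_apply]
    rcases lt_trichotomy (r i) (r j) with h | h | h
    · simp [h, h.le, (r.injective.ne_iff.1 h.ne).symm]
    · obtain rfl := r.injective h
      simp [← two_mul, h2, hB.self_eq_zero]
    · simp [h, h.le, (r.injective.ne_iff.1 h.ne).symm, ← hB.neg_eq (b i), CharTwo.neg_eq]
  · simp [hM, M]
  · refine ((Form.isIsometry_of_span (D := ofQuad Q') (D' := ofQuad Q) (f := LinearMap.id) b.span_eq
      (fun x _ y _ => ?_) ?_).Q_map x)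
    · exact LinearMap.congr_fun₂ (h.1.trans h'.1.symm) x y
    · rintro _ ⟨i, rfl⟩; exact (h.2 i).trans (h'.2 i).symm

end Cfsg.Agent.S2619
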