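import Cfsg.Statements.S2622
import Cfsg.Agent.Lib.Forms.Std

set_option autoImplicit false
open Cfsg

namespace Cfsg.Agent.S2622

open Cfsg.Lib.Forms Module Matrix



/-- Over a finite field of characteristic two, a non-degenerate symmetric bilinear form that is not alternating (some vector v has B(v, v) ≠ 0) admits an orthonormal basis. -/
theorem result {F V : Type*} [Field F] [Finite F] [CharP F 2] [AddCommGroup V] [Module F V] [FiniteDimensional F V] {n : ℕ} (hV : Module.finrank F V = n) (B : LinearMap.BilinForm F V) (hS : B.IsSymm) (hB : B.Nondegenerate) (hna : ∃ v : V, B v v ≠ 0) : ∃ b : Module.Basis (Fin n) F V, ∀ i j, B (b i) (b j) = if i = j then 1 else 0 := by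
  have h2 : (2 : F) = 0 := two_eq_zero_of_charP
  have hs : ∀ x y, B x y = B y x := hS.eq
  have norm : ∀ x, B x x ≠ 0 → ∃ t : F, B (t • x) (t • x) = 1 := fun x hx => by
    obtain ⟨t, ht⟩ := isSquare_of_two_eq_zero h2 (B x x)⁻¹
    exact ⟨t, by simp [← mul_assoc, ← ht, hx]⟩
  have indep : ∀ k (v : Fin k → V), (∀ i j, B (v i) (v j) = if i = j then 1 else 0) →
      LinearIndependent F v := fun k v hv => Fintype.linearIndependent_iff.2 fun c hc i => by
    simpa [hv] using congrArg (B (v i)) hc
  have key : ∀ k, k + 1 ≤ n → ∃ v : Fin (k + 1) → V, ∀ i j, B (v i) (v j) = if i = j then 1 else 0 := by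
    intro k
    induction k with
    | zero =>
      obtain ⟨x, hx⟩ := hna
      obtain ⟨t, ht⟩ := norm x hx
      exact fun _ => ⟨fun _ => t • x, fun i j => by rw [ht, if_pos (Fin.ext (by omega))]⟩
    | succ k ih =>
      intro hk
      obtain ⟨v, hv⟩ := ih (by omega)
      have cons : ∀ x, (∀ i, B (v i) x = 0) → B x x ≠ 0 →
          ∃ v : Fin (k + 1 + 1) → V, ∀ i j, B (v i) (v j) = if i = j then 1 else 0 := fun x h1 h3 => by
        obtain ⟨t, ht⟩ := norm x h3
        refine ⟨Fin.cons (t • x) v, fun i j => ?_⟩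
        cases i using Fin.cases <;> cases j using Fin.cases
        · simpa only [Fin.cons_zero, if_true] using ht
        all_goals simp [hv, h1, hs x, (Fin.succ_ne_zero _).symm]
      have proj : ∀ x i, B (v i) (x - ∑ j, B (v j) x • v j) = 0 := fun x i => by simp [hv]
      obtain ⟨x, hx⟩ : ∃ x, x ∉ Submodule.span F (Set.range v) := by
        by_contra! h
        have := finrank_span_eq_card (indep _ v hv)
        rw [Submodule.eq_top_iff'.2 h, finrank_top, Fintype.card_fin] at this
        omega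
      obtain ⟨e, he, he0⟩ : ∃ e, (∀ i, B (v i) e = 0) ∧ e ≠ 0 := ⟨_, proj x, fun h => hx (by
        rw [sub_eq_zero.1 h]
        exact sum_mem fun i _ => Submodule.smul_mem _ _ (Submodule.subset_span ⟨i, rfl⟩))⟩
      obtain ⟨f, hf, hef⟩ : ∃ f, (∀ i, B (v i) f = 0) ∧ B e f = 1 := by
        obtain ⟨y, hy⟩ : ∃ y, B e y ≠ 0 := by
          by_contra! h; exact he0 (hB.1 e h)
        refine ⟨(B e y)⁻¹ • (y - ∑ j, B (v j) y • v j), fun i => by rw [map_smul, proj, smul_zero], ?_⟩
        simp [hs e (v _), he, hy]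
      by_cases h1 : B e e = 0
      swap; · exact cons e he h1
      by_cases h3 : B f f = 0
      swap; · exact cons f hf h3
      refine ⟨Fin.cons (v 0 + e) (Fin.cons (v 0 + f) fun i => v i.succ), fun i j => ?_⟩
      have h4 : (1 : F) + 1 = 0 := one_add_one_eq_two.trans h2
      have hfe : B f e = 1 := (hs f e).trans hef
      have he' : ∀ i, B e (v i) = 0 := fun i => (hs _ _).trans (he i)
      have hf' : ∀ i, B f (v i) = 0 := fun i => (hs _ _).trans (hf i)
      refine Fin.cases ?_ (Fin.cases ?_ fun i => ?_) i <;> refine Fin.cases ?_ (Fin.cases ?_ fun j => ?_) j <;>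
        simp only [Fin.cons_zero, Fin.cons_succ, Fin.succ_inj] <;>
        simp [hv, he, hf, he', hf', hef, hfe, h1, h3, h4, (Fin.succ_ne_zero _).symm]
  obtain ⟨x, hx⟩ := hna
  have : Nontrivial V := ⟨x, 0, by rintro rfl; simp at hx⟩
  obtain ⟨k, rfl⟩ := Nat.exists_eq_add_of_le' (show 1 ≤ n from hV ▸ finrank_pos)
  obtain ⟨v, hv⟩ := key k le_rfl
  exact ⟨basisOfLinearIndependentOfCardEqFinrank (indep _ v hv) (by simp [hV]), by simpa using hv⟩

end Cfsg.Agent.S2622
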