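import Cfsg.Statements.S2623
import Cfsg.Agent.Lib.Forms.Std

set_option autoImplicit false
open Cfsg

namespace Cfsg.Agent.S2623

open Cfsg.Lib.Forms Module Matrix



/-- Over a finite field of odd order, two quadratic forms on F^n with non-degenerate polar forms are isometric (related by an invertible linear change of variables) if and only if their discriminants (determinants of the Gram matrices of their polar forms) lie in the same square class. -/
theorem result {F : Type*} [Field F] [Fintype F] (h2 : (2 : F) ≠ 0) {n : ℕ} (Q₁ Q₂ : QuadraticForm F (Fin n → F)) (h₁ : (QuadraticMap.polarBilin Q₁).Nondegenerate) (h₂ : (QuadraticMap.polarBilin Q₂).Nondegenerate) : (∃ g : (Fin n → F) ≃ₗ[F] (Fin n → F), ∀ v, Q₂ (g v) = Q₁ v) ↔ IsSquare ((Matrix.of (fun i j : Fin n => QuadraticMap.polar ⇑Q₁ (Pi.single i 1) (Pi.single j 1))).det * (Matrix.of (fun i j : Fin n => QuadraticMap.polar ⇑Q₂ (Pi.single i 1) (Pi.single j 1))).det) := by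
  have hD₁ := ofQuad_nondeg h₁
  have hD₂ := ofQuad_nondeg h₂
  have h := chi_eq_iff_isSquare_mul ((Form.nondeg_iff_det_gram_ne_zero (Pi.basisFun F _)).1 hD₁)
    ((Form.nondeg_iff_det_gram_ne_zero (Pi.basisFun F _)).1 hD₂)
  rw [Form.chi_det_gram hD₁ h2, Form.chi_det_gram hD₂ h2, mul_right_inj] at h
  simp only [Form.gram, Pi.basisFun_apply, ofQuad_B] at h
  rw [← h]
  exact ⟨fun ⟨g, hg⟩ => Form.Iso.disc_eq ⟨g, quad_isIsometry (map_add _) hg⟩ _ _,
    fun H => (Form.iso_of_disc hD₁ hD₂ h2 rfl H).imp fun g hg => hg.Q_map⟩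

end Cfsg.Agent.S2623
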