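import Cfsg.Statements.S2625
import Cfsg.Agent.Lib.Forms.Std

set_option autoImplicit false
open Cfsg

namespace Cfsg.Agent.S2625

open Cfsg.Lib.Forms Module Matrix



/-- For a quadratic form Q on F^n with non-degenerate polar form, F finite and n odd (so |F| is odd), the multiplier of any similarity is a square: if g is an invertible linear map with Q(g v) = c·Q(v) for all v then c is a square. -/
theorem result {F : Type*} [Field F] [Fintype F] {n : ℕ} (hn : Odd n) (Q : QuadraticForm F (Fin n → F)) (hQ : (QuadraticMap.polarBilin Q).Nondegenerate) (g : (Fin n → F) ≃ₗ[F] (Fin n → F)) (c : F) (hg : ∀ v, Q (g v) = c * Q v) : IsSquare c := by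
  have hD := ofQuad_nondeg hQ
  obtain ⟨k, hk⟩ := id hn
  have h2 := Quad.two_ne_zero_of_odd hD (m := k) (by simpa)
  rcases eq_or_ne c 0 with rfl | hc
  · simp
  have := Form.Iso.disc_eq ⟨g, quad_isIsometry (map_add _) hg⟩ (hD.qsmul hc) hD
  rw [Form.disc_qsmul hD h2 hc, mul_eq_right, finrank_fin_fun, Int.units_pow_eq_pow_mod_two,
    Nat.odd_iff.1 hn, pow_one] at this
  exact chi_eq_one_iff.1 this

end Cfsg.Agent.S2625
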