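import Cfsg.Statements.S2634
import Cfsg.Agent.Lib.Forms.Std

set_option autoImplicit false
open Cfsg

namespace Cfsg.Agent.S2634

open Cfsg.Lib.Forms Module Matrix



/-- Over a finite field of characteristic two, Ω (the commutator subgroup of the orthogonal group of a quadratic form Q on F^n with non-degenerate polar form; excluding dimension 4 over the field of two elements) acts transitively on the non-singular 1-spaces: for u, v with Q(u) ≠ 0 and Q(v) ≠ 0 some element of Ω carries the line through u to the line through v. -/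
theorem result {F : Type*} [Field F] [Fintype F] [CharP F 2] {n : ℕ} (h : Fintype.card F ≠ 2 ∨ n ≠ 4) (Q : QuadraticForm F (Fin n → F)) (hQ : (QuadraticMap.polarBilin Q).Nondegenerate) (u v : Fin n → F) (hu : Q u ≠ 0) (hv : Q v ≠ 0) : ∃ g : ↥(Cfsg.isometryGroup F ⇑Q), g ∈ Cfsg.Omega F ⇑Q ∧ (F ∙ ((g : Matrix.GeneralLinearGroup (Fin n) F) : Matrix (Fin n) (Fin n) F).mulVec u) = F ∙ v := by
  have hD := ofQuad_nondeg hQ
  have h2 : (2 : F) = 0 := two_eq_zero_of_charP
  obtain ⟨t, ht, h1⟩ := exists_eq_mul_sq_of_isSquare_mul hv hu (isSquare_of_two_eq_zero h2 _)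
  obtain ⟨g, hg⟩ := hD.exists_map_of_Q_eq (a := u) (b := t • v) (by rintro rfl; simp at hu)
    (smul_ne_zero ht (by rintro rfl; simp at hv)) (by rw [quad_Q_smul]; exact h1)
  obtain ⟨k, hk, h3⟩ := exists_mem_Omega_map _ (ofQuad_Q_eq Q) (hD.exists_mem_commutator_map
    (good_of_fintype_card (by simpa)) (U := F ∙ u) g (by
      simp only [Form.spinor_of_two_eq_zero hD h2, and_true]
      rcases Int.units_eq_one_or (Form.dickson hD g) with h | h
      · exact ⟨1, one_mem _, by simp [h]⟩
      · refine ⟨(ofQuad Q).refl u, Form.mem_stab_of_mapsTo _ fun x hx => ?_, by rw [h, Form.dickson_refl hD hu]⟩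
        rw [Form.refl_apply]
        exact sub_mem hx (Submodule.smul_mem _ _ (Submodule.mem_span_singleton_self _))))
  refine ⟨k, hk, ?_⟩
  simpa [Submodule.map_span, hg, Submodule.span_singleton_smul_eq ht.isUnit] using h3

end Cfsg.Agent.S2634
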