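import Cfsg.Statements.S2635
import Cfsg.Agent.Lib.Forms.Std

set_option autoImplicit false
open Cfsg

namespace Cfsg.Agent.S2635

open Cfsg.Lib.Forms Module Matrix



/-- Over a finite field of characteristic two, for a quadratic form Q on F^n with non-degenerate polar form, n ≥ 2, other than dimension 4 over the field of two elements, Ω (the commutator subgroup of the orthogonal group) is exactly the subgroup generated by the products of two reflections (orthogonal transvections) x ↦ x − Q(v)⁻¹ f(x, v) v, Q(v) ≠ 0: the products of an even number of reflections. -/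
theorem result {F : Type*} [Field F] [Fintype F] [CharP F 2] {n : ℕ} (hn : 2 ≤ n) (h : Fintype.card F ≠ 2 ∨ n ≠ 4) (Q : QuadraticForm F (Fin n → F)) (hQ : (QuadraticMap.polarBilin Q).Nondegenerate) : Cfsg.Omega F ⇑Q = Subgroup.closure {g : ↥(Cfsg.isometryGroup F ⇑Q) | ∃ u v : Fin n → F, Q u ≠ 0 ∧ Q v ≠ 0 ∧ ((g : Matrix.GeneralLinearGroup (Fin n) F) : Matrix (Fin n) (Fin n) F) = Cfsg.reflectionMatrix ⇑Q u * Cfsg.reflectionMatrix ⇑Q v} := by
  have hD := ofQuad_nondeg hQ
  have e := ofQuad_Q_eq Q
  have hG : (ofQuad Q).Good := good_of_fintype_card (by simpa)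
  rw [closure_eq_comap_equiv (oIso _ e) (t := {g | ∃ u v, (ofQuad Q).Q u ≠ 0 ∧ (ofQuad Q).Q v ≠ 0 ∧
    g = (ofQuad Q).refl u * (ofQuad Q).refl v}), ← hD.ker_dickson_eq_closure hG,
    ← hD.commutator_eq_ker_of_two_eq_zero hG two_eq_zero_of_charP]
  · exact Subgroup.ext fun g => mem_Omega_iff _ e
  · refine fun g => exists₂_congr fun u v => and_congr_right fun _ => and_congr_right fun _ =>
      oIso_eq_iff _ e _ _ fun x => ?_
    rw [← mulVec_mulVec, reflectionMatrix_mulVec' _ e, reflectionMatrix_mulVec' _ e]; rfl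

end Cfsg.Agent.S2635
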