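import Cfsg.Statements.S2636
import Cfsg.Agent.Lib.Conj.SS
import Cfsg.Agent.Lib.CAut.DescC
import Cfsg.Agent.Lib.Linear.Stab

set_option autoImplicit false
open Cfsg

namespace Cfsg.Agent.S2636

open Cfsg.Lib.CAut Cfsg.Lib.Forms Cfsg.Lib.Forms.Form Module

open Matrix Cfsg.Lib.Linear Function

theorem card_range_mul {A A₀ G G₀ : Type*} [Group A] [Group A₀] [Group G] [Group G₀] [Finite G]
    {z : A →* G} {ι : G₀ →* G} (hc : ∀ a g, Commute (z a) (ι g)) (hz : Injective z) (hι : Injective ι)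
    {j : A₀ →* A} (hj : Injective j) (h : ∀ a, z a ∈ ι.range ↔ a ∈ j.range) {P : G → Prop}
    (hP : ∀ g, P g ↔ ∃ a g₀, g = z a * ι g₀) :
    Nat.card {g // P g} * Nat.card A₀ = Nat.card A * Nat.card G₀ := by
  choose z₀ hz₀ using fun a => (h (j a)).2 ⟨a, rfl⟩
  rw [← Nat.card_prod A, ← (z.noncommCoprod ι hc).ker.index_mul_card, Subgroup.index_ker]
  congr 1
  · exact Nat.card_congr (Equiv.subtypeEquivRight fun g => (hP g).trans
      ⟨fun ⟨a, g₀, h⟩ => ⟨(a, g₀), h.symm⟩, fun ⟨x, h⟩ => ⟨x.1, x.2, h.symm⟩⟩)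
  · refine Nat.card_congr (Equiv.ofBijective (fun a => ⟨(j a, (z₀ a)⁻¹), by simp [hz₀]⟩)
      ⟨fun a b h => hj (congrArg (·.1.1) h), fun ⟨⟨a, g⟩, hx⟩ => ?_⟩)
    have h1 : z a = ι g⁻¹ := by simpa [mul_eq_one_iff_eq_inv] using hx
    obtain ⟨b, rfl⟩ := (h a).1 ⟨_, h1.symm⟩
    exact ⟨b, Subtype.ext (Prod.ext rfl (inv_eq_iff_eq_inv.2 (hι ((hz₀ b).trans h1))))⟩

variable {F₀ F : Type*} [Field F₀] [Field F] {f : F₀ →+* F} {s : F ≃+* F} {n : ℕ}

theorem desc (hf : Fix f s) (hn : 1 ≤ n) (g : GL (Fin n) F) :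
    (∃ c : F, c ≠ 0 ∧ (g : Matrix (Fin n) (Fin n) F).map s = c • (g : Matrix (Fin n) (Fin n) F)) ↔
      ∃ u g₀, g = GeneralLinearGroup.scalar (Fin n) u * GeneralLinearGroup.map f g₀ := by
  refine ⟨fun ⟨c, h0, h⟩ => ?_, ?_⟩
  · obtain ⟨j, hj⟩ := exists_row_ne_zero (GeneralLinearGroup.det_ne_zero g) ⟨0, hn⟩
    have h1 : ∀ i j, s (g i j) = c * g i j := fun i j => congrFun (congrFun h i) j
    choose A hA using fun k l => (hf ((g ⟨0, hn⟩ j)⁻¹ * g k l)).1 (by
      rw [map_mul, map_inv₀, h1, h1]; field_simp)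
    have h2 : (of A).map f = (g ⟨0, hn⟩ j)⁻¹ • (g : Matrix (Fin n) (Fin n) F) := by ext; exact hA _ _
    refine ⟨Units.mk0 _ hj, GeneralLinearGroup.mkOfDetNeZero (of A) fun h => ?_, Units.ext ?_⟩
    · have := congrArg f h
      rw [RingHom.map_det, RingHom.mapMatrix_apply, h2, det_smul, map_zero] at this
      exact mul_ne_zero (pow_ne_zero _ (inv_ne_zero hj)) (GeneralLinearGroup.det_ne_zero g) this
    · change _ = Matrix.scalar _ _ * (of A).map f
      rw [h2, Matrix.scalar_apply, ← smul_eq_diagonal_mul, smul_smul, Units.val_mk0, mul_inv_cancel₀ hj, one_smul]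
  · rintro ⟨u, g₀, rfl⟩
    refine ⟨s u * u⁻¹, by simp, ?_⟩
    ext i j
    simp [hf.map, mul_assoc]

theorem map_injective : Injective (GeneralLinearGroup.map (n := Fin n) f) := fun _ _ h =>
  Units.ext (Matrix.ext fun i j => f.injective (congrArg (fun g : GL (Fin n) F => g.1 i j) h))

theorem scalar_eq_map (hn : 1 ≤ n) {u : Fˣ} {g : GL (Fin n) F₀}
    (h : GeneralLinearGroup.map f g = GeneralLinearGroup.scalar (Fin n) u) :
    ∃ c, Units.map (f : F₀ →* F) c = u := by
  have : f (g ⟨0, hn⟩ ⟨0, hn⟩) = u := by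
    simpa using congrArg (fun g : GL (Fin n) F => g.1 ⟨0, hn⟩ ⟨0, hn⟩) h
  exact ⟨Units.mk0 _ fun h => u.ne_zero (this.symm.trans ((map_eq_zero f).2 h)), Units.ext this⟩

theorem map_scalar (c : F₀ˣ) : GeneralLinearGroup.map f (GeneralLinearGroup.scalar (Fin n) c) =
    GeneralLinearGroup.scalar (Fin n) (Units.map (f : F₀ →* F) c) := by
  ext i j
  simp [diagonal_apply, apply_ite f]

theorem commute_scalar (u : Fˣ) (g : GL (Fin n) F) : Commute (GeneralLinearGroup.scalar (Fin n) u) g :=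
  (Subgroup.mem_center_iff.1 (GeneralLinearGroup.center_eq_range_scalar (n := Fin n) (R := F) ▸
    ⟨u, rfl⟩) g).symm

/-- Centraliser of a field automorphism in PGL_n: let F be the field with q = q₀^r elements, σ a field automorphism of F of prime order r (so its fixed field has q₀ elements) and n ≥ 1. The invertible matrices g whose entrywise image under σ is a scalar multiple of g — those whose coset modulo scalars is fixed by σ — number (q − 1)/(q₀ − 1) · |GL_n(q₀)|; equivalently the centraliser in PGL_n(q) of the induced automorphism has the order of PGL_n(q₀). -/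
theorem result {F : Type*} [Field F] [Fintype F] {q₀ r n : ℕ} (hr : r.Prime) (hn : 1 ≤ n) (hF : Fintype.card F = q₀ ^ r) (σ : F ≃+* F) (hσ : orderOf σ = r) : Nat.card {g : GL (Fin n) F // ∃ c : F, c ≠ 0 ∧ (g : Matrix (Fin n) (Fin n) F).map σ = c • (g : Matrix (Fin n) (Fin n) F)} = (q₀ ^ r - 1) / (q₀ - 1) * ∏ i : Fin n, (q₀ ^ n - q₀ ^ (i : ℕ)) := by
  haveI : Nonempty (Fin n) := ⟨⟨0, hn⟩⟩
  have hf := fix_subfield σ
  have h1 := hf.card_eq
  rw [Nat.card_eq_fintype_card, hF, hσ] at h1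
  have h2 := Nat.pow_left_injective hr.ne_zero h1
  have h3 := card_range_mul (fun a g => commute_scalar a _) scalar_injective map_injective
    (Units.map_injective (RingHom.injective _)) (fun a => ⟨fun ⟨g, h⟩ => scalar_eq_map hn h,
      fun ⟨c, h⟩ => ⟨_, h ▸ map_scalar c⟩⟩) (desc hf hn)
  have h4 := two_le_card_field (F := FixedPoints.subfield (Subgroup.zpowers σ) F)
  rw [card_units_eq, card_units_eq, card_GL, ← h2, Nat.card_eq_fintype_card (α := F), hF,
    Fintype.card_fin, ← sub_one_mul_div, mul_assoc, mul_comm] at h3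
  exact Nat.eq_of_mul_eq_mul_left (by omega) h3

end Cfsg.Agent.S2636
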