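import Cfsg.Statements.S2637
import Cfsg.Agent.Lib.Conj.Ord
import Cfsg.Agent.Lib.Conj.Jord
import Cfsg.Agent.Lib.Forms.Ext
import Cfsg.Agent.Lib.Known.FExt
import Cfsg.Agent.Lib.Linear.Spec

set_option autoImplicit false
open Cfsg

namespace Cfsg.Agent.S2637

open Cfsg.Lib.Conj Cfsg.Lib.Forms Cfsg.Lib.Forms.Form Module

open Cfsg.Lib.Known

theorem cast_guOrder {q : ℕ} (hq : 1 ≤ q) (n : ℕ) : (guOrder q n : ℤ) =
    (q : ℤ) ^ (n * (n - 1) / 2) * ∏ i : Fin n, ((q : ℤ) ^ ((i : ℕ) + 1) - (-1) ^ ((i : ℕ) + 1)) := by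
  rw [guOrder, Fin.prod_univ_eq_prod_range (fun i => (q : ℤ) ^ (i + 1) - (-1) ^ (i + 1))]
  push_cast
  refine congrArg _ (Finset.prod_congr rfl fun i _ => ?_)
  split_ifs with h
  · simp [h.add_one.neg_one_pow]
  · simp [(Nat.not_even_iff_odd.1 h).add_one.neg_one_pow, Nat.cast_sub (Nat.one_le_pow _ _ hq)]

theorem core {F K V : Type*} [Field F] [Finite F] [Field K] [Algebra F K] [AddCommGroup V] [Module F V]
    [FiniteDimensional F V] {σ : K →+* K} (h : Lib.Forms.IsConj σ (Nat.card F)) (hK : finrank F K = 2)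
    (hq : Nat.card F % 3 = 2) {D : Form (altKind F) V} (hD : D.Nondeg) {m : ℕ} (hm : finrank F V = 2 * m)
    (x : D.isom) (hx : (x.1 : End F V) ^ 3 = 1) (hu : IsUnit ((x.1 : End F V) - 1)) :
    Nat.card (Subgroup.centralizer ({x} : Set D.isom)) = guOrder (Nat.card F) m := by
  haveI := h.finite
  have h3 : ((3 : ℕ) : F) ≠ 0 := fun h3 => by
    haveI := fact_prime_ringChar F
    have h4 := Cfsg.Lib.Linear.spec_char_dvd (F := F) (ringChar F)
    rw [(Nat.prime_dvd_prime_iff_eq Fact.out Nat.prime_three).1 ((ringChar.spec F 3).1 h3)] at h4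
    omega
  have hio : io 3 F = 2 := by
    rw [io, ← ZMod.natCast_mod, hq]
    exact orderOf_eq_prime (by decide) (by decide)
  obtain ⟨g, hg⟩ := Finset.card_eq_one.1 (card_Phi_eq (F := F) Nat.prime_three h3 (t := 1) (by rw [hio]))
  obtain ⟨θ, h0, hθ⟩ := h.exists_trace_zero
  obtain ⟨D', h1, h2⟩ := Herm.exists_resAlt (stdHerm h (Fin m)) rfl h0 hθ
  have hD' := h2 (stdHerm_nondeg h _)
  obtain ⟨ω, hω⟩ : ∃ ω : Kˣ, orderOf ω = 3 := by
    haveI : Fact (Nat.Prime 3) := ⟨Nat.prime_three⟩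
    refine exists_prime_orderOf_dvd_card' 3 ?_
    rw [Cfsg.Lib.Linear.card_units_eq, h.card_sub_one]
    exact Dvd.dvd.mul_right (by omega) _
  have hω3 : (ω : K) ^ 3 = 1 := by rw [← Units.val_pow_eq_pow_val, ← hω, pow_orderOf_eq_one]; rfl
  have hω1 : (ω : K) ≠ 1 := fun h => by
    rw [show ω = 1 from Units.ext h, orderOf_one] at hω; omega
  have hσ : σ ω = ω ^ 2 := by
    rw [h.apply, ← Nat.div_add_mod (Nat.card F) 3, hq, pow_add, pow_mul, hω3, one_pow, one_mul]
  have hω2 : (ω : K) - σ ω ≠ 0 := by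
    rw [hσ, show (ω : K) - ω ^ 2 = ω * (1 - ω) by ring]
    exact mul_ne_zero ω.ne_zero (sub_ne_zero.2 hω1.symm)
  let φ := (stdHerm h (Fin m)).resHom D' fun g => alt_isIsometry fun x y =>
      (algebraMap F K).injective (by simp [h1])
  obtain ⟨y, hy⟩ : ∃ y : D'.isom, ∀ v, y.1 v = (ω : K) • v :=
    ⟨φ ((stdHerm h (Fin m)).scalar ω (by rw [hσ, ← pow_succ', hω3])), fun _ => rfl⟩
  have hy3 : (y.1 : End F (Fin m → K)) ^ 3 = 1 := LinearMap.ext fun v => by
    change y.1 (y.1 (y.1 v)) = v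
    rw [hy, hy, hy, smul_smul, smul_smul, ← pow_three', hω3, one_smul]
  have hn : finrank F (Fin m → K) = 2 * m := by
    rw [← finrank_mul_finrank F K, hK]; simp
  have key : ∀ {M : Multiset (Polynomial F)}, (∀ b ∈ M, b ∈ Phi 3 F) → io 3 F * M.card = 2 * m →
      M = Multiset.replicate m g :=
    fun h1 h2 => Multiset.eq_replicate.2 ⟨by rw [hio] at h2; omega, fun b hb => by simpa [hg] using h1 b hb⟩
  have hu' : IsUnit ((y.1 : End F (Fin m → K)) - 1) := isUnit_sub_one_of fun v hv =>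
    (smul_eq_zero.1 (show ((ω : K) - 1) • v = 0 by
      rw [sub_smul, one_smul, sub_eq_zero, ← hy]; exact hv)).resolve_left (sub_ne_zero.2 hω1)
  obtain ⟨e, he, he'⟩ := isoC_alt hD hD' (ss_of_pow' h3 hx) x.2 y.2
    (sim_of_fac (ss_of_pow' h3 hx) (ss_of_pow' h3 hy3) (hm.trans hn.symm)
      ((key (fac_mem_Phi Nat.prime_three h3 hx) (((isUnit_sub_one_iff Nat.prime_three h3 hx).1 hu).trans
        hm)).trans (key (fac_mem_Phi Nat.prime_three h3 hy3)
          (((isUnit_sub_one_iff Nat.prime_three h3 hy3).1 hu').trans hn)).symm))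
  have h5 : isomCongr e he x = y := isom_ext fun v =>
    (he' _).trans (congrArg y.1 (e.apply_symm_apply v))
  have h6 : Subgroup.centralizer {y} = φ.range := by
    ext k
    rw [Subgroup.mem_centralizer_singleton_iff]
    refine ⟨fun hk => ?_, fun ⟨k, hk⟩ => hk ▸ isom_ext fun v => ?_⟩
    swap
    · rw [isom_mul_apply, isom_mul_apply, hy, hy]
      exact map_smul k.1 (ω : K) v
    have h7 : ∀ (a : K) v, k.1 (a • v) = a • k.1 v := fun a v => by
      obtain ⟨β, hβ⟩ := (h.fixed_iff_mem_range rfl (x := (a - σ a) / (ω - σ ω))).1 (by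
        rw [map_div₀, map_sub, map_sub, h.σσ, h.σσ, ← neg_div_neg_eq, neg_sub, neg_sub])
      obtain ⟨α, hα⟩ := (h.fixed_iff_mem_range rfl (x := a - algebraMap F K β * ω)).1 (by
        rw [map_sub, map_mul, h.map_algebraMap rfl, hβ]; field_simp; ring)
      have h8 : k.1 ((ω : K) • v) = (ω : K) • k.1 v := by
        rw [← hy, ← hy]; exact congrArg (·.1 v) hk
      rw [eq_add_of_sub_eq hα.symm]
      simp [add_smul, mul_smul, h8]
    refine ⟨⟨{ k.1.toAddEquiv with map_smul' := h7 }, herm_isIsometry fun u v => ?_⟩, rfl⟩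
    obtain ⟨c, hc⟩ := h.exists_not_fixed
    have h8 := fun a : K => mul_left_cancel₀ h0 ((h1 (k.1 u) (k.1 (a • v))).symm.trans
      ((congrArg _ (B_isom k u (a • v))).trans (h1 u (a • v))))
    simp only [h7, B_smul_right, map_mul] at h8
    have h9 := h8 1
    simp only [map_one, one_mul] at h9
    change (stdHerm h (Fin m)).B (k.1 u) (k.1 v) = _
    exact mul_left_cancel₀ (sub_ne_zero.2 (Ne.symm hc)) (by linear_combination h8 c - σ c * h9)
  rw [card_centralizer_equiv (isomCongr e he), h5, h6,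
    ← Nat.card_congr (MonoidHom.ofInjective (resHom_injective _ _ _)).toEquiv,
    Herm.card_isom (stdHerm_nondeg h _)]
  simp

/-- Centraliser of a fixed-point-free element of order three in Sp_2m(q) when q ≡ 2 (mod 3): if x ∈ Sp_2m(F) (|F| = q, m ≥ 1) satisfies x³ = 1 and x − 1 is invertible, then its centraliser in Sp_2m(F) has the order of the unitary group GU_m(q), namely q^(m(m−1)/2) Π_(i=1)^m (q^i − (−1)^i) (x lies in the centre of a subgroup GU_m(q) of Sp_2m(q)). -/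
theorem result {F : Type*} [Field F] [Fintype F] {q : ℕ} (hF : Fintype.card F = q) (hq : q % 3 = 2) {m : ℕ} (hm : 1 ≤ m) (x : Matrix.symplecticGroup (Fin m) F) (hx3 : x ^ 3 = 1) (hfpf : IsUnit ((x : Matrix (Fin m ⊕ Fin m) (Fin m ⊕ Fin m) F) - 1)) : (Nat.card ↥(Subgroup.centralizer ({x} : Set ↥(Matrix.symplecticGroup (Fin m) F))) : ℤ) = (q : ℤ) ^ (m * (m - 1) / 2) * ∏ i : Fin m, ((q : ℤ) ^ ((i : ℕ) + 1) - (-1) ^ ((i : ℕ) + 1)) := by
  obtain rfl : Nat.card F = q := Nat.card_eq_fintype_card.trans hF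
  rw [card_centralizer_equiv (spEquiv F m), core (isConj_frob (card_FExt F 2)) (finrank_FExt F 2) hq
    (fSymp_nondeg m) (finrank_plus m) _ (isom_pow_eq_one.1 (by rw [← map_pow, hx3, map_one]))
    (by have := hfpf.map Matrix.toLinAlgEquiv'; rwa [map_sub, map_one] at this), cast_guOrder Nat.card_pos]

end Cfsg.Agent.S2637
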