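import Cfsg.Statements.S2638
import Cfsg.Agent.Lib.Conj.Ord
import Cfsg.Agent.Lib.Conj.Jord

set_option autoImplicit false
open Cfsg

namespace Cfsg.Agent.S2638

open Cfsg.Lib.Conj Cfsg.Lib.Forms Cfsg.Lib.Forms.Form Module

open Cfsg.Lib.Known

theorem irr_of_io {F V : Type*} [Field F] [Finite F] [AddCommGroup V] [Module F V] [FiniteDimensional F V]
    {x : End F V} {r : ℕ} (hr : r.Prime) (hF : (r : F) ≠ 0) (h : x ^ r = 1) (h1 : x ≠ 1)
    (hn : io r F = finrank F V) : Irr x := by
  have h2 := io_mul_le hr hF h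
  have h3 : (fac x).card ≠ 0 := by
    rwa [Ne, Multiset.card_eq_zero, fac_eq_zero_iff (ss_of_pow' hF h)]
  have h4 : IsUnit (x - 1) := (isUnit_sub_one_iff hr hF h).2
    (h2.antisymm (hn ▸ Nat.le_mul_of_pos_right _ (Nat.pos_of_ne_zero h3)))
  intro U hU
  refine or_iff_not_imp_left.2 fun h5 => Submodule.eq_top_of_finrank_eq ((Submodule.finrank_le U).antisymm ?_)
  have h6 := restrict_pow_eq_one hU h
  refine hn ▸ le_trans (Nat.le_mul_of_pos_right _ (Nat.pos_of_ne_zero ?_)) (io_mul_le hr hF h6)
  rw [Ne, Multiset.card_eq_zero, fac_eq_zero_iff (ss_of_pow' hF h6)]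
  refine fun h7 => h5 ((Submodule.eq_bot_iff U).2 fun v hv => inj_of_isUnit h4 ?_)
  simpa [sub_eq_zero] using congrArg (fun f => (f ⟨v, hv⟩ : V)) h7

theorem isUnit_of_irr {F V : Type*} [Field F] [AddCommGroup V] [Module F V] [FiniteDimensional F V]
    {x a : End F V} (h : Irr x) (ha : Commute a x) (h0 : a ≠ 0) : IsUnit a :=
  isUnit_of_inj fun v hv => by
    rcases h (LinearMap.ker a) (fun w hw => by
      rw [LinearMap.mem_ker, ← End.mul_apply, ha.eq, End.mul_apply, hw, map_zero]) with h | h
    · exact (Submodule.eq_bot_iff _).1 h v hv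
    · exact absurd (LinearMap.ker_eq_top.1 h) h0

/-- If an element x of GL_n(q), n ≥ 1, has prime order r and the multiplicative order of q modulo r is n (r is a primitive prime divisor of q^n − 1, so x acts irreducibly), then the centraliser of x in GL_n(q) is cyclic of order q^n − 1 (the multiplicative group of the field with q^n elements, a Singer cycle). -/
theorem result {F : Type*} [Field F] [Fintype F] {p q : ℕ} [Fact p.Prime] [CharP F p] (hF : Fintype.card F = q) {n r : ℕ} (hn : 1 ≤ n) (hr : r.Prime) (hrp : r ≠ p) (hi : orderOf (q : ZMod r) = n) (x : GL (Fin n) F) (hx : orderOf x = r) : IsCyclic ↥(Subgroup.centralizer ({x} : Set (GL (Fin n) F))) ∧ Nat.card ↥(Subgroup.centralizer ({x} : Set (GL (Fin n) F))) = q ^ n - 1 := by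
  have hF' : (r : F) ≠ 0 := cast_ne_zero_of_ne hr hrp
  haveI : Nonempty (Fin n) := ⟨⟨0, hn⟩⟩
  let ρ : GL (Fin n) F →* End F (Fin n → F) :=
    (Matrix.toLinAlgEquiv'.toMonoidHom).comp (Units.coeHom _)
  have hρ : Function.Injective ρ := Matrix.toLinAlgEquiv'.injective.comp Units.val_injective
  have h : Irr (ρ x) := irr_of_io hr hF' (by rw [← map_pow, ← hx, pow_orderOf_eq_one, map_one])
    (fun h => hr.one_lt.ne' (by rw [← hx, hρ (h.trans ρ.map_one.symm), orderOf_one]))
    (by simp [io, hF, hi])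
  constructor
  · letI : CommRing (Subring.centralizer {ρ x}) :=
      { (inferInstance : Ring (Subring.centralizer {ρ x})) with
        mul_comm := fun a b => Subtype.ext (h.commute (a.2 _ rfl).symm (b.2 _ rfl).symm) }
    haveI : NoZeroDivisors (Subring.centralizer {ρ x}) := ⟨fun {a b} hab => or_iff_not_imp_left.2 fun ha =>
      Subtype.ext ((isUnit_of_irr h (a.2 _ rfl).symm fun h => ha (Subtype.ext h)).mul_right_eq_zero.1
        (congrArg Subtype.val hab))⟩
    haveI := NoZeroDivisors.to_isDomain (Subring.centralizer {ρ x})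
    exact isCyclic_of_injective_ringHom (R := Subring.centralizer {ρ x})
      ((ρ.comp (Subgroup.subtype _)).codRestrict (Subring.centralizer {ρ x}).toSubmonoid fun g y hy => by
        obtain rfl := Set.mem_singleton_iff.1 hy
        exact (map_mul ρ _ _).symm.trans ((congrArg ρ (g.2 x rfl)).trans (map_mul ρ _ _)))
      fun a b h => Subtype.ext (hρ (congrArg Subtype.val h))
  · obtain ⟨v, hv⟩ := exists_ne (0 : Fin n → F)
    have hc := h.cyc hv
    rw [card_centralizer_GL, Nat.card_congr (Equiv.ofBijective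
      (fun a => (⟨a.1 v, fun h => hv (inj_of_isUnit a.2.1 h)⟩ : {w : Fin n → F // w ≠ 0}))
      ⟨fun a b h => Subtype.ext (hc.ext a.2.2 b.2.2 (congrArg Subtype.val h)), fun w => ?_⟩)]
    · classical
      simp [Nat.card_eq_fintype_card, hF, Fintype.card_subtype_compl]
    · obtain ⟨φ, hφ⟩ := hc w
      have := (commute_aeval (Commute.refl (ρ x)) φ).symm
      exact ⟨⟨_, isUnit_of_irr h this fun h => w.2 (by rw [← hφ, h]; rfl), this⟩, Subtype.ext hφ⟩

end Cfsg.Agent.S2638
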