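import Cfsg.Statements.S2639
import Cfsg.Agent.Lib.Forms.Ext

set_option autoImplicit false
open Cfsg

namespace Cfsg.Agent.S2639

open Cfsg.Lib.Forms Module Matrix



/-- The unitary group embeds in the symplectic group of twice the dimension over the subfield: for a field K with q² elements and a field F with q elements (isomorphic to the subfield of K of order q), there is an injective homomorphism GU_m(q) → Sp_2m(F). -/
theorem result {K F : Type*} [Field K] [Fintype K] [Field F] [Fintype F] {q : ℕ} (hK : Fintype.card K = q ^ 2) (hF : Fintype.card F = q) (m : ℕ) : ∃ φ : ↥(Cfsg.GU m K q) →* ↥(Matrix.symplecticGroup (Fin m) F), Function.Injective φ := by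
  obtain ⟨_, σ, h, hF', h2⟩ := exists_isConj_algebra hK hF
  obtain ⟨θ, h0, hθ⟩ := h.exists_trace_zero
  obtain ⟨D', h1, h3⟩ := Herm.exists_resAlt (stdHerm h (Fin m)) hF' h0 hθ
  obtain ⟨e⟩ := Symp.nonempty_isom_equiv (h3 (stdHerm_nondeg h _)) (m := m)
    (by rw [← finrank_mul_finrank F K, h2]; simp)
  exact exists_injective_of_equiv (guEquiv h m) e (Form.resHom_injective _ D' fun g => alt_isIsometry fun x y =>
      (algebraMap F K).injective (by simp [h1]))

end Cfsg.Agent.S2639
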