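import Cfsg.Statements.S2640
import Cfsg.Agent.Lib.Forms.Ext

set_option autoImplicit false
open Cfsg

namespace Cfsg.Agent.S2640

open Cfsg.Lib.Forms Module Matrix



/-- For m even, the unitary group GU_m(q) (over the field with q² elements) embeds in the orthogonal group O⁺_2m(q) of the hyperbolic form Σ x_i y_i over the field with q elements (there is an injective homomorphism). -/
theorem result {K F : Type*} [Field K] [Fintype K] [Field F] [Fintype F] {q : ℕ} (hK : Fintype.card K = q ^ 2) (hF : Fintype.card F = q) (m : ℕ) (hm : Even m) : ∃ φ : ↥(Cfsg.GU m K q) →* ↥(Cfsg.isometryGroup F (Cfsg.quadFormPlus m F)), Function.Injective φ := by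
  obtain ⟨_, σ, h, hF', h2⟩ := exists_isConj_algebra hK hF
  obtain ⟨D', h1, -, h3⟩ := Herm.exists_resQuad (stdHerm h (Fin m)) hF'
  have hD := stdHerm_nondeg h (Fin m)
  have h4 := Herm.hasTS_res_iff _ hF' h2 hD (h3 hD) h1
  rw [finrank_fin_fun] at h4
  obtain ⟨e⟩ := (Quad.iso_fPlus (h3 hD) (by rw [← finrank_mul_finrank F K, h2]; simp) (h4.2 hm)).nonempty_isom
  replace e := e.trans (oIso _ fPlus_Q).symm
  exact exists_injective_of_equiv (guEquiv h m) e (Form.resHom_injective _ D' fun g => quad_isIsometry (map_add _) fun x =>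
      (algebraMap F K).injective (by simp [h1]))

end Cfsg.Agent.S2640
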