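import Cfsg.Statements.S2641
import Cfsg.Agent.Lib.Forms.Ext

set_option autoImplicit false
open Cfsg

namespace Cfsg.Agent.S2641

open Cfsg.Lib.Forms Module Matrix



/-- For m odd, the unitary group GU_m(q) (over the field with q² elements) embeds in the orthogonal group O⁻_2m(q) of an elliptic form (Σ_(i<m−1) x_i y_i plus an anisotropic binary form) over the field with q elements (there is an injective homomorphism). -/
theorem result {K F : Type*} [Field K] [Fintype K] [Field F] [Fintype F] {q : ℕ} (hK : Fintype.card K = q ^ 2) (hF : Fintype.card F = q) (m : ℕ) (hm : Odd m) (a b : F) (hab : ∀ z₁ z₂ : F, z₁ ^ 2 + a * z₁ * z₂ + b * z₂ ^ 2 = 0 → z₁ = 0 ∧ z₂ = 0) : ∃ φ : ↥(Cfsg.GU m K q) →* ↥(Cfsg.isometryGroup F (Cfsg.quadFormMinus (m - 1) F a b)), Function.Injective φ := by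
  obtain ⟨_, σ, h, hF', h2⟩ := exists_isConj_algebra hK hF
  obtain ⟨D', h1, -, h3⟩ := Herm.exists_resQuad (stdHerm h (Fin m)) hF'
  have hD := stdHerm_nondeg h (Fin m)
  have h4 := Herm.hasTS_res_iff _ hF' h2 hD (h3 hD) h1
  have h5 : m - 1 + 1 = m := Nat.sub_add_cancel hm.pos
  rw [finrank_fin_fun] at h4
  obtain ⟨e⟩ := (Quad.iso_fMinus (h3 hD) (m := m - 1) (by rw [← finrank_mul_finrank F K, h2, h5]; simp)
    (by rw [h5, h4]; exact Nat.not_even_iff_odd.2 hm) hab).nonempty_isom
  replace e := e.trans (oIso _ (fMinus_Q a b)).symm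
  exact exists_injective_of_equiv (guEquiv h m) e (Form.resHom_injective _ D' fun g => quad_isIsometry (map_add _) fun x =>
      (algebraMap F K).injective (by simp [h1]))

end Cfsg.Agent.S2641
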