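import Cfsg.Statements.S2642
import Cfsg.Agent.Lib.Conj.Jord

set_option autoImplicit false
open Cfsg

namespace Cfsg.Agent.S2642

open Cfsg.Lib.Conj Cfsg.Lib.Forms Cfsg.Lib.Forms.Form Module

open Cfsg.Lib.Known

/-- Number of conjugacy classes of elements of order p in the general unitary group GU_n(q), q a power of p: every unipotent Jordan type occurs and the classes correspond to the partitions of n with all parts at most p other than the all-ones partition, exactly as in GL_n; so there are (number of partitions of n with parts ≤ p) − 1 classes. -/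
theorem result {K : Type*} [Field K] [Fintype K] {p q n : ℕ} [Fact p.Prime] [CharP K p] (hK : Fintype.card K = q ^ 2) : Nat.card {C : ConjClasses ↥(Cfsg.GU n K q) // ∃ g : ↥(Cfsg.GU n K q), ConjClasses.mk g = C ∧ orderOf g = p} = (Finset.univ.filter (fun μ : Nat.Partition n => ∀ a ∈ μ.parts, a ≤ p)).card - 1 := by
  classical
  obtain ⟨σ, h⟩ := isConj_of_card hK
  have hD := stdHerm_nondeg h (Fin n)
  have key : ∀ g : GL (Fin n) K, orderOf g = p ↔ IsNilpotent ((g : Matrix (Fin n) (Fin n) K) - 1) ∧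
      (∀ a ∈ jt (g : Matrix (Fin n) (Fin n) K), a ≤ p) ∧ ¬ ∀ a ∈ jt (g : Matrix (Fin n) (Fin n) K), a ≤ 1 := by
    intro g
    have h1 := GL_pow_char_pow_eq_one_iff p g 1
    rw [pow_one] at h1
    rw [orderOf_eq_prime_iff, h1]
    constructor
    · rintro ⟨h2, h3⟩
      have h4 : IsNilpotent ((g : Matrix (Fin n) (Fin n) K) - 1) := ⟨_, h2⟩
      refine ⟨h4, (sub_one_pow_eq_zero_iff_jt h4 p).1 h2, fun h5 => h3 (Units.ext ?_)⟩
      simpa [sub_eq_zero] using (sub_one_pow_eq_zero_iff_jt h4 1).2 h5
    · rintro ⟨h4, h2, h3⟩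
      refine ⟨(sub_one_pow_eq_zero_iff_jt h4 p).2 h2, fun h5 => h3 ?_⟩
      exact (sub_one_pow_eq_zero_iff_jt h4 1).1 (by simp [h5])
  have e1 := card_unipotent_classes_GL (Fintype.card_fin n) (fun g : GL (Fin n) K => orderOf g = p)
    (fun t => (∀ a ∈ t, a ≤ p) ∧ ¬ ∀ a ∈ t, a ≤ 1) key
  rw [card_classes_of_invariant' (fun g : GU n K q => orderOf g = p)
    (fun g => ConjClasses.mk (g : GL (Fin n) K)) (fun C => ∃ g, ConjClasses.mk g = C ∧ orderOf g = p),
    e1]
  · let μ₀ : Nat.Partition n := ⟨Multiset.replicate n 1, fun h => by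
      rw [Multiset.eq_of_mem_replicate h]; exact one_pos, by simp⟩
    rw [← Finset.card_erase_of_mem (a := μ₀) (by
      simp only [Finset.mem_filter, Finset.mem_univ, true_and]
      intro a ha
      rw [Multiset.eq_of_mem_replicate ha]; exact (Fact.out : p.Prime).one_le)]
    refine Nat.subtype_card _ fun μ => ?_
    simp only [Finset.mem_erase, Finset.mem_filter, Finset.mem_univ, true_and]
    rw [and_comm]
    refine and_congr_right' (not_congr ⟨?_, fun h => ?_⟩)
    · rintro rfl a ha
      exact (Multiset.eq_of_mem_replicate ha).le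
    · have h1 : μ.parts = Multiset.replicate (Multiset.card μ.parts) 1 :=
        Multiset.eq_replicate_card.2 fun a ha => le_antisymm (h a ha) (μ.parts_pos ha)
      have h2 := μ.parts_sum
      rw [h1] at h2
      refine Nat.Partition.ext (h1.trans ?_)
      simp only [Multiset.sum_replicate, smul_eq_mul, mul_one] at h2
      rw [h2]
  · intro A B _ _
    rw [ConjClasses.mk_eq_mk_iff_isConj, ← isConj_equiv (guEquiv h n), herm_isConj_iff hD,
      coe_guEquiv, coe_guEquiv, sim_iff_isConj, isConj_GL_iff]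
  · intro C
    constructor
    · rintro ⟨g, rfl, hg⟩
      have h1 : IsNilpotent (Matrix.toLin' (g : Matrix (Fin n) (Fin n) K) - 1) :=
        nil_toLin'_iff.2 ((key g).1 hg).1
      obtain ⟨k, hk⟩ := (selfDual_of_unip h.kind.σ_bijective.2 h1).exists_herm_isom hD rfl
      obtain ⟨B, rfl⟩ := (guEquiv h n).surjective k
      rw [coe_guEquiv, sim_iff_isConj, ← isConj_GL_iff] at hk
      exact ⟨B, by rw [← Subgroup.orderOf_coe, ← orderOf_eq_of_isConj hk, hg],
        ConjClasses.mk_eq_mk_iff_isConj.2 hk.symm⟩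
    · rintro ⟨g, hg, rfl⟩
      exact ⟨g, rfl, by rwa [Subgroup.orderOf_coe]⟩

end Cfsg.Agent.S2642
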