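import Cfsg.Statements.S2643
import Cfsg.Agent.Lib.Conj.Jord

set_option autoImplicit false
open Cfsg

namespace Cfsg.Agent.S2643

open Cfsg.Lib.Conj Cfsg.Lib.Forms Cfsg.Lib.Forms.Form Module

open Cfsg.Lib.Known

/-- Regular unipotent classes of SU_n(q), n ≥ 2: the elements u of the special unitary group (isometries of Σ u_i v_i^q of determinant one over the field with q² elements) with (u − 1)^n = 0 and rank(u − 1) = n − 1 form exactly gcd(n, q + 1) conjugacy classes of SU_n(q). -/
theorem result {K : Type*} [Field K] [Fintype K] {q n : ℕ} (hK : Fintype.card K = q ^ 2) (hn : 2 ≤ n) : Nat.card {C : ConjClasses ↥(Cfsg.SU n K q) // ∃ u : ↥(Cfsg.SU n K q), ConjClasses.mk u = C ∧ (((u : GL (Fin n) K) : Matrix (Fin n) (Fin n) K) - 1) ^ n = 0 ∧ (((u : GL (Fin n) K) : Matrix (Fin n) (Fin n) K) - 1).rank = n - 1} = Nat.gcd n (q + 1) := by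
  haveI : Nonempty (Fin n) := ⟨⟨0, by omega⟩⟩
  obtain ⟨σ, h⟩ := isConj_of_card hK
  have hD := stdHerm_nondeg h (Fin n)
  have h0 := reg_jordanBlock (F := K) n
  obtain ⟨g, hg⟩ := (selfDual_of_unip h.kind.σ_bijective.2 h0.nil).exists_herm_isom hD rfl
  have hr := h0.of_sim (sim_sub_one hg)
  have hg1 : g ∈ (stdHerm h (Fin n)).det.ker := Units.ext (by
    rw [coe_det, det_of_sub_nilpotent (c := 1) (by simpa using hr.nil)]; simp)
  rw [card_classes_equiv (suEquiv h n) _ (fun g => Reg ((g.1.1 : End K (Fin n → K)) - 1))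
    (fun g => by rw [coe_suEquiv, reg_toLin'_iff, Fintype.card_fin]; rfl),
    card_classes_split (stdHerm h (Fin n)).det.ker.subtype Subtype.val_injective
    (stdHerm h (Fin n)).det.rangeRestrict (by rw [Subgroup.range_subtype, MonoidHom.ker_rangeRestrict])
    (MonoidHom.rangeRestrict_surjective _) ⟨g, hg1⟩]
  · have : (Subgroup.centralizer {g}).map (stdHerm h (Fin n)).det.rangeRestrict =
        (powMonoidHom n : (stdHerm h (Fin n)).det.range →* _).range := by
      ext c
      constructor
      · rintro ⟨k, hk, rfl⟩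
        have h1 : Commute (k.1 : End K (Fin n → K)) g.1 :=
          congrArg (nat _) (Subgroup.mem_centralizer_singleton_iff.1 hk)
        obtain ⟨a, ha, h3, -⟩ := hr.const_adj hD g.2.B_map (commute_sub_one_iff.2 h1)
        have h2 := det_of_sub_nilpotent ha
        have h4 := h3 1 (by rw [map_one]; exact (adj_mul_self_eq_one_iff hD).2 k.2.B_map)
        rw [finrank_fin_fun] at h2
        exact ⟨⟨Units.mk0 a (right_ne_zero_of_mul_eq_one h4),
          (Herm.mem_range_det hD (by simp; omega)).2 (by rw [mul_comm]; exact h4)⟩,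
          Subtype.ext (Units.ext (by simpa [coe_det] using h2.symm))⟩
      · rintro ⟨a, rfl⟩
        refine ⟨Form.scalar _ a.1 ((Herm.mem_range_det hD (by simp; omega)).1 a.2),
          Subgroup.mem_centralizer_singleton_iff.2 (isom_ext fun v => by simp [isom_mul_apply]),
          Subtype.ext (Units.ext ?_)⟩
        have := det_of_smul (D := stdHerm h (Fin n)) (c := a.1)
          (g := Form.scalar _ a.1 ((Herm.mem_range_det hD (by simp; omega)).1 a.2)) fun _ => rfl
        simpa using this
    rw [Subgroup.coe_subtype, this, IsCyclic.index_powMonoidHom_range,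
      Herm.card_range_det hD (by simp; omega), Nat.gcd_comm]
  · intro k
    rw [herm_isConj_iff hD]
    exact ⟨fun h => sim_add_one (hr.sim h rfl), fun h => hr.of_sim (sim_sub_one h)⟩

end Cfsg.Agent.S2643
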