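import Cfsg.Statements.S2644
import Cfsg.Agent.Lib.Conj.Jord

set_option autoImplicit false
open Cfsg

namespace Cfsg.Agent.S2644

open Cfsg.Lib.Conj Cfsg.Lib.Forms Cfsg.Lib.Forms.Form Module

open Cfsg.Lib.Known

/-- In the special unitary group SU_n(q) with n ≥ 3 (isometries of Σ u_i v_i^q of determinant one over the field with q² elements), any two transvections (elements t with t − 1 of rank one and square zero) are conjugate. -/
theorem result {K : Type*} [Field K] [Fintype K] {q n : ℕ} (hK : Fintype.card K = q ^ 2) (hn : 3 ≤ n) (s t : ↥(Cfsg.SU n K q)) (hs : Cfsg.IsTransvection (((s : GL (Fin n) K) : Matrix (Fin n) (Fin n) K))) (ht : Cfsg.IsTransvection (((t : GL (Fin n) K) : Matrix (Fin n) (Fin n) K))) : IsConj s t := by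
  obtain ⟨σ, h⟩ := isConj_of_card hK
  have hD := stdHerm_nondeg h (Fin n)
  rw [← isConj_equiv (suEquiv h n)]
  refine su_isConj hD ?_ fun c => ?_
  · rw [coe_suEquiv, coe_suEquiv, sim_iff_isConj, isConj_matrix_iff_ed]
    exact ed_eq_of_sq_eq_zero ((pow_two _).trans hs.2) ((pow_two _).trans ht.2)
      (hs.1.trans ht.1.symm)
  · have e : ((suEquiv h n s).1.1 : End K (Fin n → K)) - 1 = Matrix.toLin' (s.1.1 - 1) := by
      rw [coe_suEquiv]; simp [End.one_eq_id]
    obtain ⟨p, a, ha, hp, ha0, hg⟩ := hD.exists_eq_rk1_of_finrank (g := (suEquiv h n s).1)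
      (by rw [e]; exact hs.1)
    have h1 : (stdHerm h (Fin n)).Q p = 0 := by
      have := congrArg Units.val (suEquiv h n s).2
      rw [hg, det_rk1] at this
      rw [herm_Q]
      simpa [ha0] using this
    obtain ⟨f, hf⟩ := hD.exists_isHyp h1 hp
    have h2 := hf.finrank_hp
    rw [finrank_fin_fun] at h2
    haveI : Nontrivial ((stdHerm h (Fin n)).hp p f) :=
      finrank_pos_iff.1 (by omega : 0 < finrank K ((stdHerm h (Fin n)).hp p f))
    obtain ⟨w, hw⟩ := Herm.exists_Q_eq (hf.nondeg_hp hD) (c := 1) (map_one σ)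
    obtain ⟨b, hb, h3⟩ := Herm.exists_rk1_det_eq (D := stdHerm h (Fin n)) (a := w) hw
      (hD.det_mul_σ_det c)
    refine ⟨_, ?_, Units.ext h3⟩
    rw [hg, ← mul_inv_eq_iff_eq_mul, conj_rk1]
    congr 1
    exact rk1_apply_of_perp _ _ _ (Form.eq_zero_symm _ ((Form.mem_hp _).1 w.2).1)

end Cfsg.Agent.S2644
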