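import Cfsg.Statements.S2645
import Cfsg.Agent.Lib.Conj.Ord

set_option autoImplicit false
open Cfsg

namespace Cfsg.Agent.S2645

open Cfsg.Lib.Conj Cfsg.Lib.Forms Cfsg.Lib.Forms.Form Module


/-- Number of conjugacy classes of elements of odd prime order r, r different from the characteristic, in the symplectic group Sp_2m(q): let i be the multiplicative order of q modulo r and t = (r − 1)/i. If i is odd the eigenvalue orbits pair off (Λ ≠ Λ⁻¹) and the classes correspond to the non-zero (t/2)-tuples (a_j) with 2i Σ a_j ≤ 2m, giving C(⌊m/i⌋ + t/2, t/2) − 1 classes; if i is even (Λ = Λ⁻¹) they correspond to the non-zero t-tuples with i Σ a_j ≤ 2m, giving C(⌊2m/i⌋ + t, t) − 1 classes. -/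
theorem result {F : Type*} [Field F] [Fintype F] {p q : ℕ} [Fact p.Prime] [CharP F p] (hF : Fintype.card F = q) (m r i t : ℕ) (hr : r.Prime) (hr2 : r ≠ 2) (hrp : r ≠ p) (hi : i = orderOf (q : ZMod r)) (ht : t * i = r - 1) : Nat.card {C : ConjClasses ↥(Matrix.symplecticGroup (Fin m) F) // ∃ g : Matrix.symplecticGroup (Fin m) F, ConjClasses.mk g = C ∧ orderOf g = r} = if Odd i then Nat.choose (m / i + t / 2) (t / 2) - 1 else Nat.choose (2 * m / i + t) t - 1 := by
  have hF' : (r : F) ≠ 0 := cast_ne_zero_of_ne hr hrp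
  obtain rfl : i = io r F := by rw [hi, io, Nat.card_eq_fintype_card, hF]
  have h0 := io_pos hr hF'
  obtain ⟨h1, h2⟩ := card_isom_order_classes (fSymp_nondeg (F := F) m) hr hr2 hF'
    (fun k => io r F * k ≤ 2 * m) fun M hM => by
      rw [← finrank_plus (F := F)]; exact alt_real_iff (fSymp_nondeg m) hr hr2 hF' hM
  rw [card_order_classes_equiv (spEquiv F m), ← card_Phi_eq hr hF' ht]
  split_ifs with h
  · obtain ⟨Ψ, h3, h4⟩ := h2 fun g hg h' => Nat.not_even_iff_odd.2 h ((pd_id_iff hr hr2 hF' hg).1 h')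
    rw [h4, ← h3, ← card_msets_le]
    simp only [Nat.le_div_iff_mul_le h0, mul_left_comm (io r F), mul_comm (io r F),
      Nat.mul_le_mul_left_iff two_pos]
  · rw [h1 fun g hg => (pd_id_iff hr hr2 hF' hg).2 (Nat.not_odd_iff_even.1 h), ← card_msets_le]
    simp only [Nat.le_div_iff_mul_le h0, mul_comm (io r F)]

end Cfsg.Agent.S2645
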