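import Cfsg.Statements.S2652
import Cfsg.Agent.Lib.Known2.BJ

set_option autoImplicit false
open Cfsg

namespace Cfsg.Agent.S2652
open Cfsg.Lib.Known2 Cfsg.Lib.Fi Cfsg.Lib.Comp

/-- Let T be a Sylow 2-subgroup of the Fischer group Fi₂₃ (the finitely presented group `Spor.Fi23`; T has order 2¹⁸). Then every elementary abelian subgroup of Fi₂₃ contained in T and normal in T has order at most 2¹¹, and there is exactly one such subgroup of order 2¹¹. -/
theorem result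
    (T : Sylow 2 Cfsg.Spor.Fi23) :
    (∀ A : Subgroup Cfsg.Spor.Fi23, A ≤ T → (A.subgroupOf T).Normal → Cfsg.IsElementaryAbelian 2 A →
        Nat.card A ≤ 2 ^ 11) ∧
    ∃! A : Subgroup Cfsg.Spor.Fi23, A ≤ T ∧ (A.subgroupOf T).Normal ∧ Cfsg.IsElementaryAbelian 2 A ∧
        Nat.card A = 2 ^ 11 := by
  have : Finite Spor.Fi23 := Nat.finite_of_card_ne_zero (by rw [Fi23.main.2]; norm_num)
  obtain ⟨h1, h2, h3⟩ := fi23_t23
  obtain ⟨S, e⟩ := s23 h1.grp h1.prim (h3.type h2)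
  obtain ⟨g, u⟩ := (s23_jb S (e ▸ h1.tt)).all T
  refine ⟨fun A a _ b => ?_, _, ⟨u.1, ?_, u.2.1, u.2.2.1⟩, fun A a => u.2.2.2 A a.1 a.2.2.1 a.2.2.2.ge⟩
  · by_contra n
    exact n (by rw [u.2.2.2 A a b (by omega), u.2.2.1])
  · rw [← u.thompson]
    exact Subgroup.normal_subgroupOf_of_le_normalizer (Lib.Transfer.le_normalizer_thompsonOf _)

end Cfsg.Agent.S2652
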