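import Cfsg.Statements.S2657
import Cfsg.Agent.Lib.Exc.AltSec3

set_option autoImplicit false
open scoped MatrixGroups
open Cfsg

namespace Cfsg.Agent.S2657

open Cfsg.Lie Cfsg.Lib.Chev Cfsg.Lib.Twist Cfsg.Lib.AltSec

/-- Alternating sections of the groups of type F₄. Let `F` be a finite field of characteristic `p` and let `G` be the Chevalley group of type F₄ over `F`. If some subgroup of `G` has a quotient isomorphic to the alternating group of degree `r`, then `r` is at most 10, or 11 in characteristic 11. (Only an upper bound is asserted.) -/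
theorem result {F : Type*} [Field F] [Fintype F] (p : ℕ) [Fact p.Prime] [CharP F p]
    (r : ℕ) (H : Subgroup ↥(Cfsg.Lie.chevF4.group F)) (K : Subgroup ↥H) [K.Normal]
    (h : Nonempty (↥H ⧸ K ≃* ↥(alternatingGroup (Fin r)))) :
    r ≤ 10 + (if p = 11 then 1 else 0) := by
  by_contra hr
  obtain ⟨i⟩ := h
  split_ifs at hr with hp
  · subst hp
    obtain ⟨X, π, hπ⟩ := exists_alt (m := 12) (by omega) i
    exact not_alt12 11 (by decide) π hπ
  · have : Fact (Nat.Prime 11) := ⟨by norm_num⟩
    have hW := card_W_F4 compat_F4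
    have h5 : (c[1, 3, 9, 5, 4] * c[2, 6, 7, 10, 8] : Equiv.Perm (Fin 11)) ^ 5 = 1 := by decide +kernel
    refine not_ae_alt' (m := 11) (by omega) (c := c[0, 1, 2, 3, 4, 5, 6, 7, 8, 9, 10]) (g := c[1, 3, 9, 5, 4] * c[2, 6, 7, 10, 8])
      (k := 3) (by decide +kernel) (by decide +kernel) (by decide +kernel) (by decide +kernel) ?_
      ((ae_group compat_F4 matOK_F4 p (e := 1152) (Ne.symm hp) (by rw [hW]; decide)
        fun w hw => orderOf_dvd_iff_pow_eq_one.1 (hW ▸ Subgroup.orderOf_dvd_natCard _ hw)).section i)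
    rw [pow_eq_pow_mod _ h5]
    decide +kernel

end Cfsg.Agent.S2657
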