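import Cfsg.Statements.S2658
import Cfsg.Agent.Lib.Exc.AltSec2

set_option autoImplicit false
open scoped MatrixGroups
open Cfsg

namespace Cfsg.Agent.S2658

open Cfsg.Lie Cfsg.Lib.Chev Cfsg.Lib.Twist Cfsg.Lib.AltSec

/-- Alternating sections of the groups of type G₂. Let `F` be a finite field of characteristic `p` and let `G` be the Chevalley group of type G₂ over `F`. If some subgroup of `G` has a quotient isomorphic to the alternating group of degree `r`, then `r` is at most 6, or 7 in characteristic 5. (Only an upper bound is asserted.) -/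
theorem result {F : Type*} [Field F] [Fintype F] (p : ℕ) [Fact p.Prime] [CharP F p]
    (r : ℕ) (H : Subgroup ↥(Cfsg.Lie.chevG2.group F)) (K : Subgroup ↥H) [K.Normal]
    (h : Nonempty (↥H ⧸ K ≃* ↥(alternatingGroup (Fin r)))) :
    r ≤ 6 + (if p = 5 then 1 else 0) := by
  by_contra hr
  obtain ⟨i⟩ := h
  split_ifs at hr with hp
  · subst hp
    obtain ⟨X, π, hπ⟩ := exists_alt8 (by omega) i
    let l : List (Fin chevG2.rank) := ([0, 1, 0, 1] : List (Fin 2))
    refine not_alt8 compat_G2 matOK_G2 (MonoidHom.id _) (fun _ _ h => h) (fun β => decide (β ≠ 0))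
      (fun _ _ _ _ _ _ _ _ _ _ _ _ h => decide_eq_true h) ?_ (k := 2) (card_W_G2 compat_G2) (RG2.wprod_mem_W l) ?_ ?_ (j := 1)
      (by decide) (by decide) ?_ π hπ
    · simp only [RG2, rootOK_G2.R_A]; decide +kernel
    · rw [wprod_pow]; exact wprod_eq_one compat_G2 (by decide +kernel)
    · simp only [act_wprod, RG2, rootOK_G2.R_A]; decide +kernel
    · simp only [par, RG2, rootOK_G2.R_rt]; decide +kernel
  · have : Fact (Nat.Prime 5) := ⟨by norm_num⟩
    refine not_ae_five (by omega) ((ae_group compat_G2 matOK_G2 p (Ne.symm hp) (by rw [card_W_G2 compat_G2]; decide)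
      fun w hw => ?_).section i)
    obtain ⟨x, hx⟩ := (coxEquiv (isCoxOf_G2 compat_G2)).surjective ⟨w, hw⟩
    have := congrArg (coxEquiv (isCoxOf_G2 compat_G2)) (cox_G2_pow x)
    rw [map_pow, hx, map_one] at this
    exact congrArg Subtype.val this

end Cfsg.Agent.S2658
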