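import Cfsg.Statements.S2660
import Cfsg.Agent.Lib.Exc.AltSec2
import Cfsg.Agent.S1087
import Cfsg.Agent.S1107
import Cfsg.Agent.S1067
import Cfsg.Agent.S1106

set_option autoImplicit false
open scoped MatrixGroups
open Cfsg

namespace Cfsg.Agent.S2660

open Cfsg.Lie Cfsg.Lib.Chev Cfsg.Lib.Twist Cfsg.Lib.AltSec

theorem exists_ext {K L : Type*} [Field K] [Fintype K] [Field L] (j : K →+* L) {q : ℕ} (hK : Fintype.card K = q ^ 3) :
    ∃ f : twistedD4 K q →* twistedD4 L (q ^ 4), Function.Injective f := by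
  have h1 : ∀ t : K, j t ^ q ^ 4 = j (t ^ q) := fun t => by
    rw [← map_pow, pow_succ q 3, pow_mul, ← hK, FiniteField.pow_card]
  refine ⟨((Matrix.GeneralLinearGroup.map j).comp (twistedD4 K q).subtype).codRestrict _ fun g => ?_, fun a b h =>
    Subtype.ext (Units.ext (Matrix.map_injective j.injective (congrArg (·.1.1) h)))⟩
  refine ((Subgroup.closure_le ((twistedD4 L (q ^ 4)).comap (Matrix.GeneralLinearGroup.map j))).2 ?_ : twistedD4 K q ≤ _) g.2
  rintro g ⟨w, hw, h⟩
  refine Subgroup.subset_closure ⟨_, ?_, (congrArg (·.map j) h).trans (wordMat_map j w)⟩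
  rcases hw with ⟨t, ht, r, hr, rfl⟩ | ⟨t, r, hr, rfl⟩
  · exact Or.inl ⟨j t, by rw [h1, ht], r, hr, rfl⟩
  · exact Or.inr ⟨j t, r, hr, by rw [pow_two (q ^ 4), pow_mul, h1, h1, ← pow_mul, ← pow_two]; rfl⟩

/-- Alternating sections of the triality-twisted groups ³D₄. Let `q = p^a` be a prime power and `K` a field with `q³` elements, and let `G` be the twisted group ³D₄(q) realised over `K`. If some subgroup of `G` has a quotient isomorphic to the alternating group of degree `r`, then `r` is at most 6, or 7 in characteristic 5. (Only an upper bound is asserted.) -/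
theorem result {K : Type*} [Field K] [Fintype K] (p a : ℕ) [Fact p.Prime] [CharP K p]
    (ha : 1 ≤ a) (hK : Fintype.card K = (p ^ a) ^ 3) (r : ℕ) (H : Subgroup ↥(Cfsg.Lie.twistedD4 K (p ^ a))) (N : Subgroup ↥H) [N.Normal]
    (h : Nonempty (↥H ⧸ N ≃* ↥(alternatingGroup (Fin r)))) :
    r ≤ 6 + (if p = 5 then 1 else 0) := by
  by_contra hr
  obtain ⟨i⟩ := h
  have hq : IsPrimePow (p ^ a) := (Nat.Prime.isPrimePow Fact.out).pow (by omega)
  split_ifs at hr with hp
  · subst hp
    obtain ⟨X, π, hπ⟩ := exists_alt8 (by omega) i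
    obtain ⟨d⟩ := exists_D4Data hq hK
    let l : List (Fin chevD4.rank) := ([0, 1] : List (Fin 4))
    let c : (Fin chevD4.rank → ZMod 2) → ZMod 2 × ZMod 2 := fun β => (β (n4 0) + β (n4 2), β (n4 2) + β (n4 3))
    refine not_alt8 compat_D4 matOK_D4 (Subgroup.inclusion (d.gen hK).1) (Subgroup.inclusion_injective _)
      (fun β => decide (c β = 0 ∧ β ≠ 0)) ?_ ?_ (k := 6) (card_W_D4 compat_D4) (RD4.wprod_mem_W l) ?_ ?_ (j := 2)
      (by decide) (by decide) ?_ π hπ
    · intro z L _ _ j b h β e h1 h2 h3 h4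
      refine decide_eq_true ⟨?_, h4⟩
      let _ := j.toAlgebra
      obtain ⟨d'⟩ : Nonempty (D4Data L (5 ^ a)) := exists_gdata _ _ piD4_val chkG_D4 hq (n := 3 * Module.finrank K L)
        (by rw [Module.card_eq_pow_finrank (K := K), hK, pow_mul (5 ^ a)])
      have : CharP L 5 := charP_of_injective_ringHom j.injective 5
      have h5 : (2 : L) ≠ 0 := fun h => absurd ((CharP.cast_eq_zero_iff L 5 2).1 h) (by decide)
      have h6 : d'.X.σ.comp (baseExt chevD4 j) = (baseExt chevD4 j).comp d.X.σ :=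
        PreSys.hom_ext (compat_D4.ggen matOK_D4) fun r t => by
          rw [MonoidHom.comp_apply, MonoidHom.comp_apply, compat_D4.baseExt_x matOK_D4]
          refine (d'.X.σ_x r _).trans (Eq.trans ?_ (congrArg _ (d.X.σ_x r t)).symm)
          refine Eq.trans ?_ (compat_D4.baseExt_x matOK_D4 j _ _).symm
          rw [show d'.T.ρ r = d.T.ρ r from Fin.ext (by rw [d.ρ_val, d'.ρ_val]), d.ε_eq, d'.ε_eq, d.φ_eq, d'.φ_eq, map_mul,
            map_intCast, map_pow]
          rfl
      have h7 : d.X.σ (Subgroup.inclusion (d.gen hK).1 z) = Subgroup.inclusion (d.gen hK).1 z :=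
        d.X.mem_Fix.1 ((d.eq_Fix hK).le z.2)
      replace h7 := (DFunLike.congr_fun h6 _).trans (congrArg (baseExt chevD4 j) h7)
      rw [MonoidHom.comp_apply] at h7
      have h8 := d'.X.σ_mem_H h1
      obtain ⟨β', h9⟩ := exists_par d'.X.st d'.X.sep h8 (by rw [← map_pow, h2, map_one])
      obtain ⟨m, -, w, hw, a1, a2⟩ := exists_fus d'.X.st d'.X.opp d'.X.mult d'.X.gen ((d'.X.σ b)⁻¹ * b)
      have e1 : (d'.X.σ b)⁻¹ * b * h * ((d'.X.σ b)⁻¹ * b)⁻¹ = d'.X.σ h := by
        rw [← e, map_mul, map_mul, h7, map_inv]; group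
      have e2 : act RD4 w β' = β := funext fun i =>
        (sg_inj h5 (conj_char d'.X.sep a1 h3 h9 (e1.symm.trans (a2 h h1 (e1 ▸ h8))) _)).trans (par_simple β i)
      have e3 : ∀ i, β' (d'.T.π i) = β i := fun i => by
        have e4 := congrArg d'.X.σ (h3 (rootOK_D4.R.simple i) 1)
        rw [map_mul, map_mul, map_inv] at e4
        replace e4 := (congrArg (fun x => _ * x * _) (d'.X.σ_x _ _)).symm.trans (e4.trans (d'.X.σ_x _ _))
        replace e4 := d'.X.sep.x_inj ((h9 _ _).symm.trans e4)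
        rw [map_one, mul_one, mul_one, mul_comm, mul_right_inj' (d'.X.ε_ne _), d'.φ_eq, d'.T.ρ_simple, par_simple, RD4, par_simple] at e4
        refine sg_inj h5 (e4.trans ?_)
        rw [Lib.AltSec.sg]
        split_ifs
        · exact one_pow _
        · exact (Odd.pow (by decide)).neg_one_pow
      have e4 : c β = c β' := e2 ▸ act_inv c (by simp only [rootOK_D4.R_A]; decide +kernel) hw β'
      have e5 := e3 (n4 0)
      have e6 := e3 (n4 2)
      have e7 := e3 (n4 3)
      rw [d'.p0] at e5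
      rw [d'.p2] at e6
      rw [d'.p3] at e7
      simp only [c, e5, e6, e7] at e4 ⊢
      revert e4
      generalize β (n4 0) = x, β (n4 2) = y, β (n4 3) = z
      revert x y z
      decide
    · simp only [RD4, rootOK_D4.R_A]; decide +kernel
    · rw [wprod_pow]; exact wprod_eq_one compat_D4 (by decide +kernel)
    · simp only [act_wprod, RD4, rootOK_D4.R_A]; decide +kernel
    · simp only [par, RD4, rootOK_D4.R_rt]; decide +kernel
  · have : Fact (Nat.Prime 5) := ⟨by norm_num⟩
    let L := FiniteField.Extension K p 4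
    have := Fintype.ofFinite L
    have hL : Fintype.card L = ((p ^ a) ^ 4) ^ 3 := by
      rw [← Nat.card_eq_fintype_card, FiniteField.natCard_extension, Nat.card_eq_fintype_card, hK, pow_right_comm]
    obtain ⟨f, hf⟩ := exists_ext (algebraMap K L) hK
    have hq' := hq.pow (k := 4) (by decide)
    obtain ⟨P, hB, hN⟩ := Cfsg.Agent.S1087.result hq' hL
    obtain ⟨φ, -, hφ⟩ := Cfsg.Agent.S1107.result hq' hL
    have h1 := Cfsg.Agent.S1067.result hq' hL
    have h2 := Cfsg.Agent.S1106.result hq' hL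
    have h3 : (p ^ a) ^ 4 % 5 = 1 := Nat.ModEq.pow_totient (Nat.Coprime.pow_left a ((Nat.coprime_primes Fact.out Fact.out).2 hp))
    have h4 := hq'.one_lt.le
    generalize (p ^ a) ^ 4 = q at *
    refine not_ae_five (by omega) (((ae_mat compat_D4 matOK_D4 P hB hN φ hφ cox_G2_pow
      (m := q ^ 12 * (q + 1) * (q ^ 3 + 1) * (q ^ 8 + q ^ 4 + 1)) ?_ ?_).of_inj f hf).section i)
    · rw [h1, h2]
      zify [h4, Nat.one_le_pow 2 _ h4, Nat.one_le_pow 6 _ h4]; ring
    · rw [Nat.dvd_iff_mod_eq_zero]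
      simp [Nat.mul_mod, Nat.add_mod, Nat.pow_mod, h3]

end Cfsg.Agent.S2660
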