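import Cfsg.Statements.S2661
import Cfsg.Agent.Lib.Exc.AltSec
import Cfsg.Agent.S1089
import Cfsg.Agent.S1111
import Cfsg.Agent.S1068
import Cfsg.Agent.S1110

set_option autoImplicit false
open scoped MatrixGroups
open Cfsg

namespace Cfsg.Agent.S2661

open Cfsg.Lie Cfsg.Lib.Chev Cfsg.Lib.Twist Cfsg.Lib.AltSec

/-- Alternating sections of the large Ree groups ²F₄. Let `m ≥ 1`, let `K` be a field with `2^(2m+1)` elements and let `G` be the large Ree group ²F₄(2^(2m+1)) realised over `K`. If some subgroup of `G` has a quotient isomorphic to the alternating group of degree `r`, then `r ≤ 6`. (Only an upper bound is asserted.) -/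
theorem result {K : Type*} [Field K] [Fintype K] {m : ℕ} (hm : 1 ≤ m)
    (hK : Fintype.card K = 2 ^ (2 * m + 1)) (r : ℕ) (H : Subgroup ↥(Cfsg.Lie.twistedF4 K (2 ^ m))) (N : Subgroup ↥H) [N.Normal]
    (h : Nonempty (↥H ⧸ N ≃* ↥(alternatingGroup (Fin r)))) :
    r ≤ 6 := by
  by_contra hr
  obtain ⟨i⟩ := h
  obtain ⟨P, hB, hN⟩ := Cfsg.Agent.S1089.result hK
  obtain ⟨φ, -, hφ⟩ := Cfsg.Agent.S1111.result hK
  have : Fact (Nat.Prime 7) := ⟨by norm_num⟩
  have h1 := Cfsg.Agent.S1068.result hK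
  have h2 := Cfsg.Agent.S1110.result hK
  have h3 : 2 ^ (2 * m + 1) % 7 = 1 ∨ 2 ^ (2 * m + 1) % 7 = 2 ∨ 2 ^ (2 * m + 1) % 7 = 4 := by
    generalize 2 * m + 1 = n
    induction n with
    | zero => simp
    | succ n ih => rw [pow_succ]; omega
  have h4 : 1 ≤ 2 ^ (2 * m + 1) := Nat.one_le_two_pow
  generalize 2 ^ (2 * m + 1) = q at h1 h2 h3 h4
  refine not_ae_seven (by omega) 3 ((ae_mat compat_F4 matOK_F4 P hB hN φ hφ (by decide)
    (m := q ^ 12 * (q ^ 3 + 1) * (q + 1) * (q ^ 2 + 1) * (q ^ 6 + 1)) ?_ ?_).section i)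
  · rw [h1, h2]
    have h5 : 1 ≤ q ^ 4 := Nat.one_le_pow _ _ h4
    zify [h4, h5]; ring
  · rw [Nat.dvd_iff_mod_eq_zero]
    rcases h3 with h | h | h <;> simp [Nat.mul_mod, Nat.add_mod, Nat.pow_mod, h]

end Cfsg.Agent.S2661
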