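import Cfsg.Statements.S2665

set_option autoImplicit false
open scoped MatrixGroups
open Cfsg

namespace Cfsg.Agent.S2665

open Polynomial

section
variable {K : Type*} [Field K] [IsAlgClosed K] {σ : K →+* K} {q : ℕ} (hq : 2 ≤ q) (hσ : ∀ x, σ x = x ^ q)
include hq hσ

theorem exists_fixed {V : Type*} [AddCommGroup V] [Module K V] [Module.Finite K V] [Nontrivial V]
    (T : V →ₛₗ[σ] V) (hT : Function.Injective T) : ∃ w, w ≠ 0 ∧ T w = w := by
  classical
  obtain ⟨v, hv⟩ := exists_ne (0 : V)
  have hex : ∃ d, ¬ LinearIndependent K fun i : Fin d => T^[i] v := ⟨Module.finrank K V + 1, fun h => by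
    simpa using h.fintype_card_le_finrank⟩
  obtain ⟨d, hd⟩ : ∃ d, Nat.find hex = d + 2 := by
    have h0 : Nat.find hex ≠ 0 := fun h => (h ▸ Nat.find_spec hex) linearIndependent_empty_type
    have h1 : Nat.find hex ≠ 1 := fun h => (h ▸ Nat.find_spec hex) (linearIndependent_unique_iff.mpr hv)
    exact ⟨Nat.find hex - 2, by omega⟩
  have h1 : LinearIndependent K fun i : Fin (d + 1) => T^[i] v := not_not.mp (Nat.find_min hex (by omega))
  have h2 := hd ▸ Nat.find_spec hex
  rw [linearIndependent_finSucc', not_and, not_not] at h2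
  obtain ⟨a, ha⟩ := (Submodule.mem_span_range_iff_exists_fun K).mp (h2 h1)
  obtain ⟨b, ha⟩ : ∃ b : ℕ → K, ∑ i ∈ Finset.range (d + 1), b i • T^[i] v = T^[d + 1] v :=
    ⟨fun i => if h : i < d + 1 then a ⟨i, h⟩ else 0, by
      rw [Finset.sum_range]; simpa [Fin.init, Nat.lt_succ_iff, Fin.is_le] using ha⟩
  replace h1 : ∀ c : ℕ → K, ∑ i ∈ Finset.range (d + 1), c i • T^[i] v = 0 → c d = 0 := fun c hc =>
    Fintype.linearIndependent_iff.mp h1 (fun i => c i) (by rwa [Finset.sum_range] at hc) (Fin.last d)
  have hT' : ∀ (c : ℕ → K) m, T (∑ i ∈ Finset.range m, c i • T^[i] v) = ∑ i ∈ Finset.range m, c i ^ q • T^[i + 1] v :=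
    fun c m => by simp only [map_sum, LinearMap.map_smulₛₗ, hσ, Function.iterate_succ_apply']
  have hb : b 0 ≠ 0 := by
    intro hb
    choose c hc using fun x : K => IsAlgClosed.exists_pow_nat_eq x (show 0 < q by omega)
    have h3 := h1 (fun i => if i = d then -1 else c (b (i + 1))) (by
      rw [Finset.sum_range_succ, if_pos rfl, neg_one_smul, ← sub_eq_add_neg, sub_eq_zero]
      apply hT
      rw [hT', ← Function.iterate_succ_apply' T, ← ha, Finset.sum_range_succ', hb, zero_smul, add_zero]
      exact Finset.sum_congr rfl fun i hi => by rw [if_neg (Finset.mem_range.mp hi).ne, hc])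
    simp at h3
  let P : ℕ → K[X] := fun i => Nat.rec (C (b 0) * X ^ q) (fun i P => P ^ q + C (b (i + 1)) * X ^ q) i
  have hP : ∀ i, q ≤ (P i).natDegree ∧ X ^ 2 ∣ P i := by
    intro i
    induction i with
    | zero => exact ⟨(natDegree_C_mul_X_pow _ _ hb).ge, (pow_dvd_pow _ hq).mul_left _⟩
    | succ i ih =>
      refine ⟨?_, (ih.2.trans (dvd_pow_self _ (by omega))).add ((pow_dvd_pow _ hq).mul_left _)⟩
      have h3 : q < (P i ^ q).natDegree := by rw [natDegree_pow]; nlinarith [ih.1]
      exact h3.le.trans (natDegree_add_eq_left_of_natDegree_lt ((natDegree_C_mul_X_pow_le _ _).trans_lt h3)).ge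
  obtain ⟨h3, R, hR⟩ := hP d
  obtain ⟨y, hy⟩ := IsAlgClosed.exists_root (X * R - 1) fun h => by
    have h4 := eq_C_of_degree_eq_zero h
    generalize coeff (X * R - 1) 0 = c at h4
    rw [sub_eq_iff_eq_add] at h4
    have h5 := congrArg (eval 0) h4
    simp only [eval_mul, eval_X, zero_mul, eval_add, eval_C, eval_one] at h5
    rw [← C_1, ← C_add, ← h5, C_0] at h4
    rw [hR, pow_two, mul_assoc, h4] at h3
    simp at h3; omega
  simp only [IsRoot.def, eval_sub, eval_mul, eval_X, eval_one, sub_eq_zero] at hy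
  have h4 : (P d).eval y = y := by rw [hR]; simp [pow_two, mul_assoc, hy]
  refine ⟨∑ i ∈ Finset.range (d + 1), (P i).eval y • T^[i] v, fun h => ?_, ?_⟩
  · rw [← h4, h1 _ h] at hy; simp at hy
  · rw [hT', Finset.sum_range_succ, h4, ← ha, Finset.smul_sum, Finset.sum_range_succ', Finset.sum_range_succ',
      ← add_assoc, ← Finset.sum_add_distrib]
    congr 1
    · exact Finset.sum_congr rfl fun i _ => by
        simp only [P, eval_add, eval_pow, eval_mul, eval_C, eval_X, add_smul, smul_smul, mul_comm (y ^ q)]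
    · simp only [P, Nat.rec_zero, eval_pow, eval_mul, eval_C, eval_X, smul_smul, mul_comm (y ^ q)]

universe u in
theorem span_fixed (n : ℕ) : ∀ (V : Type u) [AddCommGroup V] [Module K V] [Module.Finite K V], Module.finrank K V = n →
    ∀ T : V →ₛₗ[σ] V, Function.Injective T → Submodule.span K {w | T w = w} = ⊤ := by
  induction n with
  | zero => intro V _ _ _ hV T _; have := Module.finrank_zero_iff.mp hV; exact Subsingleton.elim _ _
  | succ n ih =>
    intro V _ _ _ hV T hT
    have := Module.nontrivial_of_finrank_eq_succ hV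
    obtain ⟨w, hw, hTw⟩ := exists_fixed hq hσ T hT
    have h1 : ∀ x, T x ∈ Submodule.span K {w} ↔ x ∈ Submodule.span K {w} := fun x => by
      simp only [Submodule.mem_span_singleton]
      refine ⟨fun ⟨c, hc⟩ => ?_, fun ⟨c, hc⟩ => ⟨σ c, by rw [← hc, LinearMap.map_smulₛₗ, hTw]⟩⟩
      obtain ⟨e, rfl⟩ := IsAlgClosed.exists_pow_nat_eq c (show 0 < q by omega)
      exact ⟨e, hT (by rw [← hc, LinearMap.map_smulₛₗ, hTw, hσ])⟩
    have h2 := ih (V ⧸ Submodule.span K {w}) (by
      have := Submodule.finrank_quotient_add_finrank (Submodule.span K {w})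
      rw [finrank_span_singleton hw] at this; omega)
      (Submodule.mapQ _ _ T fun x hx => (h1 x).mpr hx) (by
        rw [injective_iff_map_eq_zero]
        intro x hx
        obtain ⟨x, rfl⟩ := Submodule.Quotient.mk_surjective _ x
        rwa [Submodule.mapQ_apply, Submodule.Quotient.mk_eq_zero, h1, ← Submodule.Quotient.mk_eq_zero] at hx)
    have h3 : Submodule.span K {w} ≤ Submodule.span K {w | T w = w} := Submodule.span_mono (by simpa)
    rw [← Submodule.comap_map_mkQ _ _ |>.trans (sup_eq_right.mpr h3), eq_top_iff, ← Submodule.map_le_iff_le_comap]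
    refine le_top.trans (h2.ge.trans (Submodule.span_le.mpr fun x hx => ?_))
    obtain ⟨x, rfl⟩ := Submodule.Quotient.mk_surjective _ x
    rw [Set.mem_ofPred_eq, Submodule.mapQ_apply, Submodule.Quotient.eq, Submodule.mem_span_singleton] at hx
    obtain ⟨c, hc⟩ := hx
    obtain ⟨y, hy⟩ := IsAlgClosed.exists_root (X ^ q - X + C c : K[X]) (by
      have := FiniteField.X_pow_card_sub_X_natDegree_eq K hq
      exact fun h => by
        have h4 := natDegree_eq_zero_iff_degree_le_zero.mpr h.le
        rw [natDegree_add_C] at h4; omega)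
    simp only [IsRoot.def, eval_add, eval_sub, eval_pow, eval_X, eval_C] at hy
    refine ⟨x + y • w, Submodule.subset_span ?_, ?_⟩
    · rw [Set.mem_ofPred_eq, map_add, LinearMap.map_smulₛₗ, hTw, hσ, ← sub_add_cancel (T x) x, ← hc,
        show y ^ q = y - c by linear_combination hy, sub_smul]; abel
    · rw [Submodule.mkQ_apply, Submodule.Quotient.eq]
      simpa using Submodule.smul_mem _ _ (Submodule.mem_span_singleton_self w)

end

/-- The Lang–Steinberg Theorem for the general linear group. Let `K` be an algebraically closed field of prime characteristic `p`, let `q = p^f` with `f ≥ 1`, and let `σ` be the endomorphism of GL_n(K) raising every matrix entry to the `q`-th power. Then every element `g` of GL_n(K) can be written `g = x · σ(x)⁻¹` for some `x` in GL_n(K): the map `x ↦ x σ(x)⁻¹` is surjective. -/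
theorem result {K : Type*} [Field K] [IsAlgClosed K] (p : ℕ) [Fact p.Prime] [CharP K p]
    (f : ℕ) (hf : 1 ≤ f) (n : ℕ) (g : GL (Fin n) K) :
    ∃ x : GL (Fin n) K, g = x * (Matrix.GeneralLinearGroup.map (iterateFrobenius K p f) x)⁻¹ := by
  have hq : 2 ≤ p ^ f := Nat.one_lt_pow (by omega) (Fact.out : p.Prime).one_lt
  set σ := iterateFrobenius K p f
  let T : (Fin n → K) →ₛₗ[σ] (Fin n → K) :=
    { toFun := fun v => (g : Matrix _ _ K).mulVec (σ ∘ v)
      map_add' := fun v w => by rw [← Matrix.mulVec_add]; congr 1; ext; simp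
      map_smul' := fun c v => by rw [← Matrix.mulVec_smul]; congr 1; ext; simp }
  have hT : Function.Injective T := fun v w h => funext fun i => σ.injective
    (congrFun (Matrix.mulVec_injective_iff_isUnit.mpr g.isUnit h) i)
  obtain ⟨s, hs, h1, h2⟩ := exists_linearIndependent K {w | T w = w}
  rw [span_fixed hq (iterateFrobenius_def p f) _ _ rfl T hT] at h1
  let b : Module.Basis (Fin n) K (Fin n → K) := (Module.Basis.mk h2 (by simpa using h1.ge)).reindex
    ((Module.Basis.mk h2 (by simpa using h1.ge)).indexEquiv (Pi.basisFun K _))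
  have hb : ∀ i, T (b i) = b i := fun i => hs (by simp [b])
  have hu : IsUnit (Matrix.of fun i j => b j i) := Matrix.linearIndependent_cols_iff_isUnit.mp b.linearIndependent
  refine ⟨hu.unit, eq_mul_inv_of_mul_eq (Units.ext ?_)⟩
  ext i j
  exact congrFun (hb j) i

end Cfsg.Agent.S2665
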