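import Cfsg.Statements.S2669
import Cfsg.Agent.Lib.Known2.Shin
import Cfsg.Agent.Lib.Invol.Count

set_option autoImplicit false
open Cfsg

namespace Cfsg.Agent.S2669
open Cfsg.Lib.Known2.Shin Cfsg.Lib.Invol

/-- Shintani descent preserves numbers of fixed points on coset spaces (abstract form). Let `σ` be an automorphism of a group `X` and `e ≥ 1`; write `G` for the fixed points of `σᵉ` and `H` for the fixed points of `σ`, and assume `G` is finite. Let `Y` be a `σ`-stable subgroup of `X` on which the maps `a ↦ a σ(a)⁻¹` and `a ↦ a σᵉ(a)⁻¹` are surjective (as for a closed connected `σ`-stable subgroup of an algebraic group). Let `g ∈ G`, let `a ∈ X` satisfy `g = a σ(a)⁻¹` and put `x = σᵉ(a)⁻¹ a` (the Shintani image, an element of `H`). The element `g σ` of the semidirect product acts on the cosets of `Y ∩ G` in `G` by `k (Y ∩ G) ↦ g σ(k) (Y ∩ G)`, fixing that coset exactly when `k⁻¹ g σ(k) ∈ Y`; and `x` fixes the coset `h (Y ∩ H)` of `H` exactly when `h⁻¹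 x h ∈ Y`. Then the two numbers of fixed cosets agree; in cross-multiplied form, `#{k ∈ G : k⁻¹ g σ(k) ∈ Y} · |Y ∩ H| = #{h ∈ H : h⁻¹ x h ∈ Y} · |Y ∩ G|`. -/
theorem result {X : Type*} [Group X] (σ : MulAut X) (e : ℕ) (he : 1 ≤ e)
    [Finite ↥((MulEquiv.toMonoidHom (σ ^ e)).eqLocus (MonoidHom.id X))]
    (Y : Subgroup X) (hY : ∀ y : X, y ∈ Y ↔ σ y ∈ Y)
    (hYL : ∀ y ∈ Y, ∃ a ∈ Y, y = a * (σ a)⁻¹) (hYLe : ∀ y ∈ Y, ∃ a ∈ Y, y = a * ((σ ^ e) a)⁻¹)
    (g : X) (hg : g ∈ (MulEquiv.toMonoidHom (σ ^ e)).eqLocus (MonoidHom.id X)) (a : X) (ha : g = a * (σ a)⁻¹) :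
    Nat.card {k : ↥((MulEquiv.toMonoidHom (σ ^ e)).eqLocus (MonoidHom.id X)) // (k : X)⁻¹ * g * σ k ∈ Y} *
        Nat.card ↥(Y ⊓ (MulEquiv.toMonoidHom σ).eqLocus (MonoidHom.id X)) =
      Nat.card {h : ↥((MulEquiv.toMonoidHom σ).eqLocus (MonoidHom.id X)) // (h : X)⁻¹ * (((σ ^ e) a)⁻¹ * a) * h ∈ Y} *
        Nat.card ↥(Y ⊓ (MulEquiv.toMonoidHom (σ ^ e)).eqLocus (MonoidHom.id X)) := by
  subst ha
  rw [mem_fix] at hg
  have hx := (fix_iff σ e a).1 hg
  set G := (MulEquiv.toMonoidHom (σ ^ e)).eqLocus (MonoidHom.id X) with hG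
  set H := (MulEquiv.toMonoidHom σ).eqLocus (MonoidHom.id X) with hH
  have hHG : H ≤ G := fun x hx => pow_fix hx e
  have : Finite H := Finite.of_injective _ (Subgroup.inclusion_injective hHG)
  have hYe : ∀ y ∈ Y, (σ ^ e) y ∈ Y := by
    intro y hy
    generalize e = n
    induction n with
    | zero => exact hy
    | succ n ih => rw [pow_succ', MulAut.mul_apply]; exact (hY _).1 ih
  have A1 := card_rel_eq_mul_left (p := fun k : G => (k : X)⁻¹ * (a * (σ a)⁻¹) * σ k ∈ Y)
    (r := fun (k : G) (h : H) => (k : X)⁻¹ * a * h ∈ Y) (k := Nat.card ↥(Y ⊓ H)) (by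
      intro k hk
      obtain ⟨b, hb, e1⟩ := hYL _ hk
      have h0 : σ (a⁻¹ * k * b) = a⁻¹ * k * b := by
        simp only [map_mul, map_inv]
        calc _ = a⁻¹ * k * ((k : X)⁻¹ * (a * (σ a)⁻¹) * σ k) * σ b := by group
          _ = _ := by rw [e1]; group
      exact Nat.card_congr
        { toFun := fun h => ⟨(a⁻¹ * k * b)⁻¹ * h.1, by
            have := Y.mul_mem (Y.inv_mem hb) h.2
            simpa [mul_assoc] using this, H.mul_mem (H.inv_mem h0) h.1.2⟩
          invFun := fun y => ⟨⟨a⁻¹ * k * b * y, H.mul_mem h0 y.2.2⟩, by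
            have := Y.mul_mem hb y.2.1
            simpa [mul_assoc] using this⟩
          left_inv := fun h => by ext; simp [mul_assoc]
          right_inv := fun y => by ext; simp [mul_assoc] })
  have A2 := card_rel_eq_mul_left (p := fun h : H => (h : X)⁻¹ * (((σ ^ e) a)⁻¹ * a) * h ∈ Y)
    (r := fun (h : H) (k : G) => (k : X)⁻¹ * a * h ∈ Y) (k := Nat.card ↥(Y ⊓ G)) (by
      intro h hh
      obtain ⟨c, hc, e1⟩ := hYLe _ (Y.inv_mem hh)
      have h0 : (σ ^ e) (a * h * c) = a * h * c := by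
        simp only [map_mul, pow_fix h.2 e]
        calc _ = a * h * ((h : X)⁻¹ * (((σ ^ e) a)⁻¹ * a) * h)⁻¹ * (σ ^ e) c := by group
          _ = _ := by rw [e1]; group
      exact Nat.card_congr
        { toFun := fun k => ⟨(k.1 : X)⁻¹ * (a * h * c), by
            have := Y.mul_mem k.2 hc
            simpa [mul_assoc] using this, G.mul_mem (G.inv_mem k.1.2) h0⟩
          invFun := fun y => ⟨⟨a * h * c * (y : X)⁻¹, G.mul_mem h0 (G.inv_mem y.2.2)⟩, by
            have := Y.mul_mem y.2.1 (Y.inv_mem hc)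
            simpa [mul_assoc] using this⟩
          left_inv := fun h => by ext; simp [mul_assoc]
          right_inv := fun y => by ext; simp [mul_assoc] })
  rw [← A1, ← A2, card_swap]
  refine card_congr_iff fun ⟨h, k⟩ => ?_
  simp only [Prod.swap]
  refine and_congr_left fun hy => iff_of_true ?_ ?_
  · have := Y.mul_mem hy (Y.inv_mem ((hY _).1 hy))
    simp only [map_mul, map_inv, show σ h = h from h.2] at this
    convert this using 1; group
  · have := Y.mul_mem (Y.inv_mem (hYe _ hy)) hy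
    simp only [map_mul, map_inv, pow_fix h.2 e, show (σ ^ e) k = k from k.2] at this
    convert this using 1; group

end Cfsg.Agent.S2669
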