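import Cfsg.Statements.S2671
import Cfsg.Agent.Lib.Conj.Ord

set_option autoImplicit false
open Cfsg

namespace Cfsg.Agent.S2671

open Cfsg.Lib.Conj Cfsg.Lib.Forms Cfsg.Lib.Forms.Form Module


/-- Number of conjugacy classes of elements of odd prime order r in the general unitary group GU_n(q), for r not dividing q(q + 1): let i be the multiplicative order of q modulo r, b = i if i is odd and b = i/2 if i is even, and s = (r − 1)/b. If i ≢ 2 (mod 4) the eigenvalue orbits pair off into dual pairs of totally isotropic blocks and there are C(⌊n/(2b)⌋ + s/2, s/2) − 1 classes; if i ≡ 2 (mod 4) each orbit gives a non-degenerate block of dimension i/2 and there are C(⌊2n/i⌋ + s, s) − 1 classes. -/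
theorem result {K : Type*} [Field K] [Fintype K] {p q n r i b s : ℕ} [Fact p.Prime] [CharP K p] (hK : Fintype.card K = q ^ 2) (hr : r.Prime) (hr2 : r ≠ 2) (hrp : r ≠ p) (hi : i = orderOf (q : ZMod r)) (hi2 : i ≠ 2) (hb : b = if Odd i then i else i / 2) (hs : s * b = r - 1) : Nat.card {C : ConjClasses ↥(Cfsg.GU n K q) // ∃ g : ↥(Cfsg.GU n K q), ConjClasses.mk g = C ∧ orderOf g = r} = if i % 4 = 2 then Nat.choose (2 * n / i + s) s - 1 else Nat.choose (n / (2 * b) + s / 2) (s / 2) - 1 := by
  have hF' : (r : K) ≠ 0 := cast_ne_zero_of_ne hr hrp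
  obtain ⟨σ, h⟩ := isConj_of_card hK
  obtain rfl : b = io r K := by rw [hb, hi, io, h.card, Nat.cast_pow, orderOf_sq]
  have h0 := io_pos hr hF'
  obtain ⟨h1, h2⟩ := card_isom_order_classes (stdHerm_nondeg h (Fin n)) hr hr2 hF'
    (fun k => io r K * k ≤ n) fun M hM => by
      simpa using herm_real_iff (stdHerm_nondeg h (Fin n)) hr hF' hM
  rw [card_order_classes_equiv (guEquiv h n), ← card_Phi_eq hr hF' hs]
  split_ifs with h3
  · rw [h1 fun g hg => (pd_herm_iff h hr hr2 hF' hg).2 (hi ▸ h3), ← card_msets_le]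
    rw [if_neg (by rw [Nat.odd_iff]; omega)] at hb
    rw [show i = 2 * io r K by omega, Nat.mul_div_mul_left _ _ two_pos]
    simp only [Nat.le_div_iff_mul_le h0, mul_comm (io r K)]
  · obtain ⟨Ψ, h4, h5⟩ := h2 fun g hg h' => h3 (hi ▸ (pd_herm_iff h hr hr2 hF' hg).1 h')
    rw [h5, ← h4, ← card_msets_le]
    simp only [Nat.le_div_iff_mul_le (Nat.mul_pos two_pos h0), mul_left_comm (io r K),
      mul_comm (io r K), mul_left_comm _ 2]

end Cfsg.Agent.S2671
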