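import Cfsg.Statements.S2674
import Cfsg.Agent.Lib.Conj.Ord

set_option autoImplicit false
open Cfsg

namespace Cfsg.Agent.S2674

open Cfsg.Lib.Conj Cfsg.Lib.Forms Cfsg.Lib.Forms.Form Module


/-- Number of conjugacy classes of elements of odd prime order r ≠ p in the orthogonal group O⁺_2m(q) of Σ x_j y_j (m ≥ 1): with i the multiplicative order of q mod r and t = (r − 1)/i — if i is odd, C(⌊m/i⌋ + t/2, t/2) − 1; if i is even, C(⌊2m/i⌋ + t, t) − 1 minus, when i divides 2m with odd quotient, the C(2m/i + t − 1, t − 1) tuples using the whole space (an odd number of elliptic i-blocks fills an elliptic, not a hyperbolic, space). -/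
theorem result {F : Type*} [Field F] [Fintype F] {p q : ℕ} [Fact p.Prime] [CharP F p] (hF : Fintype.card F = q) (m r i t : ℕ) (hm : 1 ≤ m) (hr : r.Prime) (hr2 : r ≠ 2) (hrp : r ≠ p) (hi : i = orderOf (q : ZMod r)) (ht : t * i = r - 1) : Nat.card {C : ConjClasses ↥(Cfsg.isometryGroup F (Cfsg.quadFormPlus m F)) // ∃ g : ↥(Cfsg.isometryGroup F (Cfsg.quadFormPlus m F)), ConjClasses.mk g = C ∧ orderOf g = r} = if Odd i then Nat.choose (m / i + t / 2) (t / 2) - 1 else Nat.choose (2 * m / i + t) t - 1 - (if i ∣ 2 * m ∧ Odd (2 * m / i) then Nat.choose (2 * m / i + t - 1) (t - 1) else 0) := by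
  have hF' : (r : F) ≠ 0 := cast_ne_zero_of_ne hr hrp
  obtain rfl : i = io r F := by rw [hi, io, Nat.card_eq_fintype_card, hF]
  have h0 := io_pos hr hF'
  have hD := fPlus_nondeg (F := F) m
  obtain ⟨h1, h2⟩ := card_isom_order_classes hD hr hr2 hF'
    (fun k => io r F * k ≤ 2 * m ∧ (io r F * k = 2 * m → Odd (io r F) ∨ Even k)) fun M hM => by
      simpa [fPlus_hasTS] using quad_even_real_iff hD (finrank_plus m) hr hr2 hF' hM
  rw [card_order_classes_equiv (oIso (fPlus F m) (Q := quadFormPlus m F) rfl), ← card_Phi_eq hr hF' ht]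
  by_cases h : Odd (io r F)
  · obtain ⟨Ψ, h3, h4⟩ := h2 fun g hg h' => Nat.not_even_iff_odd.2 h ((pd_id_iff hr hr2 hF' hg).1 h')
    rw [if_pos h, h4, ← h3, ← card_msets_le]
    simp only [Nat.le_div_iff_mul_le h0, mul_left_comm (io r F), mul_comm (io r F),
      Nat.mul_le_mul_left_iff two_pos, h, true_or, implies_true, and_true]
  · rw [if_neg h, h1 fun g hg => (pd_id_iff hr hr2 hF' hg).2 (Nat.not_odd_iff_even.1 h),
      ← card_msets_lt _ (card_Phi_ne_zero hr hF') _ _ fun h => h.2.pos.ne']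
    refine Nat.card_congr (Equiv.subtypeEquivRight fun M => ?_)
    rw [Nat.le_div_iff_mul_le h0, mul_comm _ (io r F), or_iff_right h]
    refine and_congr_right fun _ => and_congr_right fun _ => and_congr_right fun _ => ?_
    constructor
    · rintro h3 ⟨⟨h4, h5⟩, h6⟩
      exact Nat.not_even_iff_odd.2 (h6 ▸ h5) (h3 (by rw [h6, Nat.mul_div_cancel' h4]))
    · intro h3 h4
      rw [← h4, Nat.mul_div_cancel_left _ h0] at h3
      simpa using h3

end Cfsg.Agent.S2674
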