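import Cfsg.Statements.S2675
import Cfsg.Agent.Lib.Conj.Ord

set_option autoImplicit false
open Cfsg

namespace Cfsg.Agent.S2675

open Cfsg.Lib.Conj Cfsg.Lib.Forms Cfsg.Lib.Forms.Form Module


/-- Number of conjugacy classes of elements of odd prime order r ≠ p in the orthogonal group O⁻_2m(q) of an elliptic form Σ_(j<m−1) x_j y_j + z₁² + a z₁z₂ + c z₂² (binary part anisotropic, m ≥ 1): with i the multiplicative order of q mod r and t = (r − 1)/i — if i is odd, C(⌊m/i⌋ + t/2, t/2) − 1 minus, when i divides m, the C(m/i + t/2 − 1, t/2 − 1) tuples filling the whole space (dual pairs of totally singular blocks fill a hyperbolic space); if i is even, C(⌊2m/i⌋ + t, t) − 1 minus, when i divides 2m with even quotient, the C(2m/i + t − 1, t − 1) tuples filling the whole space with an even number of elliptic blocks. -/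
theorem result {F : Type*} [Field F] [Fintype F] {p q : ℕ} [Fact p.Prime] [CharP F p] (hF : Fintype.card F = q) (m r i t : ℕ) (hm : 1 ≤ m) (a c : F) (hac : ∀ z₁ z₂ : F, z₁ ^ 2 + a * z₁ * z₂ + c * z₂ ^ 2 = 0 → z₁ = 0 ∧ z₂ = 0) (hr : r.Prime) (hr2 : r ≠ 2) (hrp : r ≠ p) (hi : i = orderOf (q : ZMod r)) (ht : t * i = r - 1) : Nat.card {C : ConjClasses ↥(Cfsg.isometryGroup F (Cfsg.quadFormMinus (m - 1) F a c)) // ∃ g : ↥(Cfsg.isometryGroup F (Cfsg.quadFormMinus (m - 1) F a c)), ConjClasses.mk g = C ∧ orderOf g = r} = if Odd i then Nat.choose (m / i + t / 2) (t / 2) - 1 - (if i ∣ m then Nat.choose (m / i + t / 2 - 1) (t / 2 - 1) else 0) else Nat.choose (2 * m / i + t) t - 1 - (if i ∣ 2 * m ∧ Even (2 * m / i) then Nat.choose (2 * m / i + t - 1) (t - 1) else 0) := by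
  have hF' : (r : F) ≠ 0 := cast_ne_zero_of_ne hr hrp
  obtain rfl : i = io r F := by rw [hi, io, Nat.card_eq_fintype_card, hF]
  have h0 := io_pos hr hF'
  obtain ⟨m, rfl⟩ := Nat.exists_eq_add_of_le' hm
  have hD := fMinus_nondeg m hac
  obtain ⟨h1, h2⟩ := card_isom_order_classes hD hr hr2 hF'
    (fun k => io r F * k ≤ 2 * (m + 1) ∧ (io r F * k = 2 * (m + 1) → ¬ (Odd (io r F) ∨ Even k)))
    fun M hM => by
      simpa only [fMinus_not_hasTS m hac, false_iff] using
        quad_even_real_iff hD (finrank_minus m) hr hr2 hF' hM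
  rw [Nat.add_sub_cancel, card_order_classes_equiv (oIso (fMinus m a c) (Q := quadFormMinus m F a c) rfl),
    ← card_Phi_eq hr hF' ht]
  by_cases h : Odd (io r F)
  · have h' : ∀ g ∈ Phi r F, pd (RingHom.id F) g ≠ g := fun g hg h' =>
      Nat.not_even_iff_odd.2 h ((pd_id_iff hr hr2 hF' hg).1 h')
    obtain ⟨Ψ, h3, h4⟩ := h2 h'
    obtain ⟨Ψ', h5⟩ := exists_half_id hr hr2 hF' h
    rw [if_pos h, h4, ← h3, ← card_msets_lt _ (by
      have := card_Phi_ne_zero hr hF'; have := h5.card; omega) _ _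
      fun h => (Nat.div_pos (Nat.le_of_dvd (by omega) h) h0).ne']
    refine Nat.card_congr (Equiv.subtypeEquivRight fun M => ?_)
    rw [Nat.le_div_iff_mul_le h0, mul_left_comm (io r F), mul_comm _ (io r F),
      Nat.mul_le_mul_left_iff two_pos, Nat.mul_right_inj two_ne_zero]
    refine and_congr_right fun _ => and_congr_right fun _ => and_congr_right fun _ => ?_
    constructor
    · rintro h3 ⟨h4, h6⟩
      exact h3 (by rw [h6, Nat.mul_div_cancel' h4]) (Or.inl h)
    · intro h3 h4
      rw [← h4, Nat.mul_div_cancel_left _ h0] at h3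
      simp at h3
  · rw [if_neg h, h1 fun g hg => (pd_id_iff hr hr2 hF' hg).2 (Nat.not_odd_iff_even.1 h),
      ← card_msets_lt _ (card_Phi_ne_zero hr hF') _ _
      fun h => (Nat.div_pos (Nat.le_of_dvd (by omega) h.1) h0).ne']
    refine Nat.card_congr (Equiv.subtypeEquivRight fun M => ?_)
    rw [Nat.le_div_iff_mul_le h0, mul_comm _ (io r F), or_iff_right h]
    refine and_congr_right fun _ => and_congr_right fun _ => and_congr_right fun _ => ?_
    constructor
    · rintro h3 ⟨⟨h4, h5⟩, h6⟩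
      exact h3 (by rw [h6, Nat.mul_div_cancel' h4]) (h6 ▸ h5)
    · intro h3 h4
      rw [← h4, Nat.mul_div_cancel_left _ h0] at h3
      simpa using h3

end Cfsg.Agent.S2675
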