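import Cfsg.Statements.S2676
import Cfsg.Agent.Lib.Conj.Wall

set_option autoImplicit false
open Classical
open Cfsg

namespace Cfsg.Agent.S2676

open Cfsg.Lib.Conj Cfsg.Lib.Forms Cfsg.Lib.Forms.Form Module

open Cfsg.Lib.Known Polynomial

theorem le_iff {F V : Type*} [Field F] [AddCommGroup V] [Module F V] {x : End F V} {t : Multiset ℕ}
    (h : HasED x (unipOf F t)) (p : ℕ) : (x - 1) ^ p = 0 ↔ ∀ a ∈ t, a ≤ p := by
  rw [← aeval_X_sub_one (F := F), ← map_pow, h.aeval_eq_zero_iff]
  simp [unipOf, pow_dvd_pow_iff irreducible_X_sub_one.ne_zero irreducible_X_sub_one.not_isUnit]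

theorem gd_iff {F : Type*} [Field F] (h2 : (2 : F) ≠ 0) (e : ℕ) : Gd (altKind F) e ↔ Even (e + 1) := by
  have : (-1 : F) ≠ 1 := fun h => h2 (by linear_combination -h)
  rw [Gd, altKind_ε, ← pow_succ', neg_one_pow_eq_one_iff_even this]

/-- Number of conjugacy classes of elements of order p in Sp_2m(q), q a power of the odd prime p: the classes correspond to the signed partitions of 2m — partitions with all parts at most p in which every odd part has even multiplicity, each even part size that occurs carrying a sign — other than the all-ones partition; so the count is the sum over such partitions of 2^(number of distinct even parts), minus one. -/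
theorem result {F : Type*} [Field F] [Fintype F] {p : ℕ} [Fact p.Prime] [CharP F p] (hp : p ≠ 2) (m : ℕ) : Nat.card {C : ConjClasses ↥(Matrix.symplecticGroup (Fin m) F) // ∃ g : Matrix.symplecticGroup (Fin m) F, ConjClasses.mk g = C ∧ orderOf g = p} = (∑ μ ∈ Finset.univ.filter (fun μ : Nat.Partition (2 * m) => (∀ a ∈ μ.parts, a ≤ p) ∧ ∀ j : ℕ, Odd j → Even (μ.parts.count j)), 2 ^ ((μ.parts.toFinset.filter (fun j : ℕ => Even j)).card)) - 1 := by
  have hD := fSymp_nondeg (F := F) m
  have h2 : (2 : F) ≠ 0 := Ring.two_ne_zero (by rwa [ringChar.eq F p])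
  have hu : ∀ {g : (fSymp F m).isom}, (nat _ g - 1) ^ p = 0 →
      HasED (nat _ g) (unipOf F ((edOf (nat _ g)).map Prod.snd)) := fun h => by
    obtain ⟨t, ht⟩ := exists_hasED_unip ⟨_, h⟩
    rwa [ht.edOf_eq, map_snd_unipOf]
  have hs : ∀ {g : (fSymp F m).isom}, (nat _ g - 1) ^ p = 0 → ∀ e, sgn (fSymp F m) (nat _ g) e ≠ 1 →
      e + 1 ∈ (edOf (nat _ g)).map Prod.snd := fun {g} h e he => Multiset.count_ne_zero.1
    (cnt_unip (hu h) e ▸ fun h => he (sgn_of_cnt h2 hD g.2.B_map h))
  have key := card_classes_of_invariant' (fun g : (fSymp F m).isom => (nat _ g - 1) ^ p = 0)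
    (fun g => ((edOf (nat _ g)).map Prod.snd, ((edOf (nat _ g)).map Prod.snd).toFinset.filter
      fun j => sgn (fSymp F m) (nat _ g) (j - 1) ≠ 1))
    (· ∈ (fun y : (Σ _ : Nat.Partition (2 * m), Finset ℕ) => (y.1.parts, y.2)) '' ↑((Finset.univ.filter
      (fun μ : Nat.Partition (2 * m) => (∀ a ∈ μ.parts, a ≤ p) ∧
        ∀ j : ℕ, Odd j → Even (μ.parts.count j))).sigma
      fun μ => (μ.parts.toFinset.filter (fun j : ℕ => Even j)).powerset)) ?_ ?_
  · rw [← card_classes_equiv (spEquiv F m) (fun g => g ^ p = 1), Nat.card_image_of_injective,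
      Nat.card_coe_set_eq, Set.ncard_coe_finset, Finset.card_sigma] at key
    · simp only [Finset.card_powerset] at key
      rw [← key]
      have : {C : ConjClasses (Matrix.symplecticGroup (Fin m) F) | ∃ g, ConjClasses.mk g = C ∧ g ^ p = 1} =
          insert (ConjClasses.mk 1) {C | ∃ g, ConjClasses.mk g = C ∧ orderOf g = p} := by
        ext C
        constructor
        · rintro ⟨g, rfl, hg⟩
          by_cases h : g = 1
          exacts [.inl (h ▸ rfl), .inr ⟨g, rfl, orderOf_eq_prime hg h⟩]
        · rintro (rfl | ⟨g, rfl, rfl⟩)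
          exacts [⟨1, rfl, one_pow _⟩, ⟨g, rfl, pow_orderOf_eq_one g⟩]
      refine eq_tsub_of_add_eq ((Set.ncard_insert_of_notMem ?_).symm.trans (congrArg _ this.symm))
      rintro ⟨g, h, hg⟩
      rw [ConjClasses.mk_eq_mk_iff_isConj, isConj_one_left] at h
      exact (Fact.out : p.Prime).one_lt.ne (by simpa [h] using hg)
    · rintro ⟨a, b⟩ ⟨c, d⟩ h
      obtain ⟨h, rfl⟩ := Prod.mk.inj h
      exact congrArg (Sigma.mk · b) (Nat.Partition.ext h)
    · intro g
      by_cases hm : Nontrivial (End F (Fin m ⊕ Fin m → F))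
      swap
      · rw [not_nontrivial_iff_subsingleton] at hm
        have := ((nat_injective _).comp (spEquiv F m).injective).subsingleton
        exact iff_of_true (Subsingleton.elim _ _) (Subsingleton.elim _ _)
      have := charP_of_injective_algebraMap (algebraMap F (End F (Fin m ⊕ Fin m → F))).injective p
      rw [sub_pow_char_of_commute _ (Commute.one_right _), one_pow, sub_eq_zero, ← map_pow,
        ← map_pow, map_eq_one_iff _ (nat_injective _), map_eq_one_iff _ (spEquiv F m).injective]
  · intro g k hg hk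
    rw [isConj_iff_isoC]
    refine ⟨fun h => ?_, fun h => ?_⟩
    · simp only [nat_apply, sim_iff_edOf.1 h.sim, h.sgn_eq h2]
      rfl
    obtain ⟨h3, h4⟩ := Prod.mk.inj h
    refine isoC_wall h2 hD hD g.2 k.2 ((hu hg).sim (h3 ▸ hu hk)) (fun e => ?_) fun e => ?_
    · have := Finset.ext_iff.1 h4 (e + 1)
      simp only [Finset.mem_filter, Multiset.mem_toFinset, add_tsub_cancel_right,
        and_iff_right_of_imp (hs hg e), and_iff_right_of_imp (hs hk e), not_iff_not] at this
      change sgn _ (nat _ g) e = sgn _ (nat _ k) e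
      generalize sgn _ (nat _ g) e = a, sgn _ (nat _ k) e = b at this ⊢
      revert a b; decide
    · rw [sgn_of_zero fun u v => by rw [lvB_apply, neg_inj_of_nil h2 hg _ _ v.2, map_zero],
        sgn_of_zero fun u v => by rw [lvB_apply, neg_inj_of_nil h2 hk _ _ v.2, map_zero]]
  · intro y
    constructor
    · rintro ⟨⟨μ, B⟩, h, rfl⟩
      simp only [Finset.coe_sigma, Set.mem_sigma_iff, Finset.mem_coe, Finset.mem_filter,
        Finset.mem_univ, true_and, Finset.mem_powerset] at h
      obtain ⟨n, x, h3, E, h4, h5⟩ := realT_of_good (K := altKind F) Even (fun j => realT_alt) μ.parts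
        (fun _ h => μ.parts_pos h) fun j _ hj => h.1.2 j (Nat.not_even_iff_odd.1 hj)
      obtain ⟨E', k1, k2, k3⟩ := exists_sgn h2 h4 h5 (δ := fun e => if e + 1 ∈ B then -1 else 1)
        fun e he => by
          have := Finset.mem_filter.1 (h.2 (by simpa using he : e + 1 ∈ B))
          exact ⟨(gd_iff h2 e).2 this.2, by
            rw [cnt_unip h3]; exact Multiset.count_ne_zero.2 (Multiset.mem_toFinset.1 this.1)⟩
      obtain ⟨g, hg⟩ := exists_isom_isoC hD (Symp.iso k1 hD (by
        rw [h3.finrank, edDeg_unipOf, μ.parts_sum, finrank_plus])) k2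
      have h6 := h3.of_sim hg.sim.symm
      refine ⟨g, (le_iff h6 p).2 h.1.1, ?_⟩
      simp only [nat_apply, h6.edOf_eq, map_snd_unipOf, ← hg.sgn_eq h2, k3, Prod.mk.injEq, true_and]
      ext j
      have := fun hj : j ∈ B => (Finset.mem_filter.1 (h.2 hj)).1
      rcases j with _ | j
      · exact iff_of_false (fun h => (μ.parts_pos (Multiset.mem_toFinset.1 (Finset.mem_filter.1 h).1)).false)
          fun h => (μ.parts_pos (Multiset.mem_toFinset.1 (this h))).false
      · simpa using fun h => Multiset.mem_toFinset.1 (this h)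
    · rintro ⟨g, hg, rfl⟩
      have h3 := isED_unipOf.1 (hu hg).1
      refine ⟨⟨⟨_, fun h => h3 _ h, by rw [← edDeg_unipOf (F := F), ← (hu hg).finrank, finrank_plus]⟩, _⟩,
        Finset.mem_sigma.2 ⟨Finset.mem_filter.2 ⟨Finset.mem_univ _, (le_iff (hu hg) p).1 hg, fun j hj =>
          even_count_alt hD (Symp.B_self _) g.2.B_map (hu hg) hj⟩, Finset.mem_powerset.2 fun j hj => ?_⟩, rfl⟩
      replace hj := Finset.mem_filter.1 hj
      refine Finset.mem_filter.2 ⟨hj.1, ?_⟩
      rw [← Nat.sub_add_cancel (h3 j (Multiset.mem_toFinset.1 hj.1)), ← gd_iff h2]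
      exact by_contra fun h => hj.2 (sgn_bad hD g.2.B_map h)

end Cfsg.Agent.S2676
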