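import Cfsg.Statements.S2677
import Cfsg.Agent.S2636
import Cfsg.Agent.S2637
import Cfsg.Agent.Lib.CAut.DescC

set_option autoImplicit false
open Cfsg

namespace Cfsg.Agent.S2677

open Cfsg.Lib.CAut Cfsg.Lib.Forms Cfsg.Lib.Forms.Form Module

open Matrix Cfsg.Lib.Linear Function Cfsg.Lib.Conj

theorem mem_GU_mat {F : Type*} [Field F] {σ : F →+* F} {q n : ℕ} (h : Lib.Forms.IsConj σ q)
    {g : GL (Fin n) F} : g ∈ GU n F q ↔ (g.1.map σ)ᵀ * g.1 = 1 := by
  have h1 : ∀ u v, (stdHerm h (Fin n)).B u v = sesq σ 1 u v := fun u v => by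
    simp [stdHerm_B, sesq_apply, dotProduct]
  rw [mem_GU_iff h]
  refine ⟨fun H => Matrix.ext fun i j => ?_, fun H => herm_isIsometry fun u v => ?_⟩
  · have := H.1 (Pi.single i 1) (Pi.single j 1)
    rwa [h1, h1, glEquiv_apply, glEquiv_apply, sesq_mulVec, sesq_single, sesq_single, mul_one] at this
  · rw [h1, h1, glEquiv_apply, glEquiv_apply, sesq_mulVec, mul_one, H]

theorem adj_mul {F : Type*} [Field F] (σ : F →+* F) {n : ℕ} (u : Fˣ) (g : GL (Fin n) F) :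
    ((GeneralLinearGroup.scalar (Fin n) u * g).1.map σ)ᵀ * (GeneralLinearGroup.scalar (Fin n) u * g).1 =
      (u * σ u) • ((g.1.map σ)ᵀ * g.1) := by
  have : (GeneralLinearGroup.scalar (Fin n) u * g).1 = (u : F) • g.1 := by ext; simp
  rw [this, Matrix.map_smul' _ _ _ (map_mul σ), transpose_smul, smul_mul_smul, mul_comm]

theorem adj_map {F₀ F : Type*} [Field F₀] [Field F] {f : F₀ →+* F} {σ₀ : F₀ →+* F₀} {σ : F →+* F}
    (h : ∀ x, σ (f x) = f (σ₀ x)) {n : ℕ} (g : GL (Fin n) F₀) :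
    ((GeneralLinearGroup.map f g).1.map σ)ᵀ * (GeneralLinearGroup.map f g).1 =
      ((g.1.map σ₀)ᵀ * g.1).map f := by
  rw [Matrix.map_mul]
  congr 1
  ext i j
  exact h _

/-- Centraliser of a field automorphism of odd prime order in PGU_n(q): let q = q₀^r with r an odd prime, K the field with q² elements and σ a field automorphism of K of order r (fixed field of order q₀²). The elements g of GU_n(q) whose entrywise image under σ is a scalar multiple of g — those whose coset modulo the q + 1 unitary scalars is fixed by σ — number (q + 1)/(q₀ + 1) · |GU_n(q₀)|; equivalently the centraliser in PGU_n(q) of the induced automorphism has the order of PGU_n(q₀). -/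
theorem result {K : Type*} [Field K] [Fintype K] {q₀ q r n : ℕ} (hr : r.Prime) (hr2 : r ≠ 2) (hn : 1 ≤ n) (hq : q = q₀ ^ r) (hK : Fintype.card K = q ^ 2) (σ : K ≃+* K) (hσ : orderOf σ = r) : (Nat.card {g : ↥(Cfsg.GU n K q) // ∃ c : K, c ≠ 0 ∧ ((g : GL (Fin n) K) : Matrix (Fin n) (Fin n) K).map σ = c • ((g : GL (Fin n) K) : Matrix (Fin n) (Fin n) K)} : ℤ) = ((q + 1) / (q₀ + 1) : ℕ) * ((q₀ : ℤ) ^ (n * (n - 1) / 2) * ∏ i : Fin n, ((q₀ : ℤ) ^ ((i : ℕ) + 1) - (-1) ^ ((i : ℕ) + 1))) := by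
  haveI : Nonempty (Fin n) := ⟨⟨0, hn⟩⟩
  obtain ⟨K₀, _, _, f, hf⟩ : ∃ (K₀ : Type _) (_ : Field K₀) (_ : Fintype K₀) (f : K₀ →+* K), Fix f σ :=
    ⟨_, _, Fintype.ofFinite _, _, fix_subfield σ⟩
  have h1 := hf.card_eq
  rw [Nat.card_eq_fintype_card, hK, hq, hσ, ← pow_mul, mul_comm, pow_mul] at h1
  obtain ⟨τ₀, h₀⟩ : ∃ τ : K₀ →+* K₀, Lib.Forms.IsConj τ q₀ :=
    ⟨_, isConj_frob (Nat.pow_left_injective hr.ne_zero h1).symm⟩
  obtain ⟨τ, h⟩ : ∃ τ : K →+* K, Lib.Forms.IsConj τ q := ⟨_, isConj_frob (Nat.card_eq_fintype_card.trans hK)⟩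
  have ho := hr.odd_of_ne_two hr2
  have hτ : ∀ x, τ (f x) = f (τ₀ x) := fun x => by
    obtain ⟨k, hk⟩ := ho
    rw [h.apply, ← map_pow, hq, hk, pow_succ', pow_mul, pow_mul, ← h₀.apply, ← h₀.card,
      Nat.card_eq_fintype_card, FiniteField.pow_card_pow]
  have hr1 : ∀ {u : Kˣ}, u ∈ rootsOfUnity (q + 1) K ↔ (u : K) * τ u = 1 := by
    intro u; rw [mem_rootsOfUnity', h.norm_eq]
  have hr0 : ∀ {u}, u ∈ rootsOfUnity (q₀ + 1) _ ↔ u.1 * τ₀ u.1 = 1 := by
    intro u; rw [mem_rootsOfUnity', h₀.norm_eq]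
  have h3 := S2636.card_range_mul (z := (GeneralLinearGroup.scalar (Fin n)).comp
      (rootsOfUnity (q + 1) K).subtype) (ι := (GeneralLinearGroup.map f).comp (GU n _ q₀).subtype)
    (fun a g => S2636.commute_scalar a.1 _) (scalar_injective.comp Subtype.val_injective)
    (S2636.map_injective.comp Subtype.val_injective)
    (j := ((Units.map f.toMonoidHom).comp (rootsOfUnity (q₀ + 1) _).subtype).codRestrict _ fun c =>
      hr1.2 (show f c.1 * τ (f c.1) = 1 by rw [hτ, ← map_mul, hr0.1 c.2, map_one]))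
    (fun a b h => Subtype.ext (Units.map_injective f.injective (congrArg Subtype.val h)))
    (fun a => ⟨fun ⟨g, h⟩ => ?_, fun ⟨c, h⟩ => ⟨⟨GeneralLinearGroup.scalar (Fin n) c.1, ?_⟩,
      (S2636.map_scalar c.1).trans (congrArg _ (congrArg Subtype.val h))⟩⟩)
    (P := fun g => g ∈ GU n K q ∧ ∃ c : K, c ≠ 0 ∧ g.1.map σ = c • g.1) fun g => ?_
  rotate_right
  · rw [card_rootsOfUnity_eq_gcd, card_rootsOfUnity_eq_gcd, h.card_sub_one, h₀.card_sub_one,
      Nat.gcd_mul_right_right, Nat.gcd_mul_right_right, Nat.card_congr (guEquiv h₀ n).toEquiv,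
      Herm.card_isom (stdHerm_nondeg h₀ _), finrank_fin_fun,
      ← Nat.mul_div_cancel' (show q₀ + 1 ∣ q + 1 by simpa [hq] using ho.nat_add_dvd_pow_add_pow q₀ 1), mul_assoc,
      mul_comm] at h3
    rw [← S2637.cast_guOrder (by have := h₀.two_le; omega), ← Nat.cast_mul,
      ← Nat.eq_of_mul_eq_mul_left q₀.succ_pos h3]
    exact congrArg _ (Nat.card_congr (Equiv.subtypeSubtypeEquivSubtypeInter (· ∈ GU n K q)
      fun g => ∃ c : K, c ≠ 0 ∧ g.1.map σ = c • g.1))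
  · rw [mem_GU_mat h₀, ← mul_one (GeneralLinearGroup.scalar _ _), adj_mul, hr0.1 c.2]
    simp
  · obtain ⟨c, hc⟩ := S2636.scalar_eq_map hn h
    refine ⟨⟨c, hr0.2 (f.injective ?_)⟩, Subtype.ext hc⟩
    rw [map_mul, ← hτ, map_one]
    exact hr1.1 (hc ▸ a.2 : Units.map (f : _ →* K) c ∈ _)
  rw [S2636.desc hf hn, mem_GU_mat h]
  refine ⟨fun ⟨h4, u, g₀, h5⟩ => ?_, fun ⟨a, g₀, h4⟩ => ⟨?_, _, _, h4⟩⟩
  · rw [h5, adj_mul, adj_map hτ] at h4
    have h6 : u * τ u * f (((g₀.1.map τ₀)ᵀ * g₀.1) ⟨0, hn⟩ ⟨0, hn⟩) = 1 := by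
      have := congrFun (congrFun h4 ⟨0, hn⟩) ⟨0, hn⟩
      rwa [Matrix.smul_apply, Matrix.map_apply, Matrix.one_apply_eq, smul_eq_mul] at this
    generalize ((g₀.1.map τ₀)ᵀ * g₀.1) ⟨0, hn⟩ ⟨0, hn⟩ = μ at h6
    obtain ⟨v, hv⟩ := h₀.exists_norm_eq (a := μ) (f.injective (by
      rw [← hτ, eq_inv_of_mul_eq_one_right h6, map_inv₀, map_mul, h.σσ, mul_comm]))
    have h7 : v ≠ 0 := by rintro rfl; simp [← hv] at h6
    refine ⟨⟨u * Units.map (f : _ →* K) (Units.mk0 v h7), hr1.2 ?_⟩,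
      ⟨GeneralLinearGroup.scalar _ (Units.mk0 v h7)⁻¹ * g₀, (mem_GU_mat h₀).2 ?_⟩, ?_⟩
    · simp only [Units.val_mul, Units.coe_map, MonoidHom.coe_coe, Units.val_mk0, map_mul, hτ]
      rw [← h6, ← hv, map_mul]; ring
    · refine map_injective f.injective ?_
      beta_reduce
      rw [adj_mul, Matrix.map_smul' _ _ _ (map_mul f), Matrix.map_one _ (map_zero f) (map_one f), ← h4,
        eq_inv_of_mul_eq_one_left h6, ← hv]
      simp [mul_comm]
    · simp [h5, S2636.map_scalar, mul_assoc]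
  · rw [h4]
    change ((GeneralLinearGroup.scalar (Fin n) a.1 * GeneralLinearGroup.map f g₀.1).1.map τ)ᵀ *
      (GeneralLinearGroup.scalar (Fin n) a.1 * GeneralLinearGroup.map f g₀.1).1 = 1
    rw [adj_mul, adj_map hτ, hr1.1 a.2, (mem_GU_mat h₀).1 g₀.2, one_smul,
      Matrix.map_one _ (map_zero f) (map_one f)]

end Cfsg.Agent.S2677
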