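import Cfsg.Statements.S2678
import Cfsg.Agent.Lib.Forms.Ext

set_option autoImplicit false
open Cfsg

namespace Cfsg.Agent.S2678

open Cfsg.Lib.Forms Module Matrix



/-- Field-extension embedding of symplectic groups: for a field K with q² elements and a field F with q elements there is an injective homomorphism Sp_2a(K) → Sp_4a(F). -/
theorem result {K F : Type*} [Field K] [Fintype K] [Field F] [Fintype F] {q : ℕ} (hK : Fintype.card K = q ^ 2) (hF : Fintype.card F = q) (a : ℕ) : ∃ φ : ↥(Matrix.symplecticGroup (Fin a) K) →* ↥(Matrix.symplecticGroup (Fin (2 * a)) F), Function.Injective φ := by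
  obtain ⟨_, σ, h, hF', h2⟩ := exists_isConj_algebra hK hF
  obtain ⟨ρ, hρ⟩ := exists_retraction F K
  let D' := (fSymp K a).resAlt (F := F) (fun _ => rfl) ρ fun x => by simp [Symp.B_self]
  have hD' : D'.Nondeg := fun x hx =>
    (fSymp_nondeg a).eq_zero_of_res (τ := ρ) ⟨algebraMap F K 1, by rw [hρ]; simp⟩ hx
  obtain ⟨e⟩ := Symp.nonempty_isom_equiv hD' (m := 2 * a)
    (by rw [← finrank_mul_finrank F K, h2, finrank_plus])
  exact exists_injective_of_equiv (spEquiv K a) e (Form.resHom_injective _ D' fun g => alt_isIsometry fun x y =>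
      by simp [D'])

end Cfsg.Agent.S2678
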