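import Cfsg.Statements.S2679
import Cfsg.Agent.Lib.Forms.Ext

set_option autoImplicit false
open Cfsg

namespace Cfsg.Agent.S2679

open Cfsg.Lib.Forms Module Matrix



/-- An elliptic orthogonal group embeds in the hyperbolic orthogonal group of the same dimension over the quadratic extension: for a field F with q elements and a field K with q² elements there is an injective homomorphism from O⁻_2m(F) (isometries of Σ_(j<m−1) x_j y_j + z₁² + a z₁z₂ + c z₂², binary part anisotropic) to O⁺_2m(K) (isometries of Σ_(j<m) x_j y_j over K). -/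
theorem result {F K : Type*} [Field F] [Fintype F] [Field K] [Fintype K] {q : ℕ} (hF : Fintype.card F = q) (hK : Fintype.card K = q ^ 2) {m : ℕ} (hm : 1 ≤ m) (a c : F) (hac : ∀ z₁ z₂ : F, z₁ ^ 2 + a * z₁ * z₂ + c * z₂ ^ 2 = 0 → z₁ = 0 ∧ z₂ = 0) : ∃ φ : ↥(Cfsg.isometryGroup F (Cfsg.quadFormMinus (m - 1) F a c)) →* ↥(Cfsg.isometryGroup K (Cfsg.quadFormPlus m K)), Function.Injective φ := by
  obtain ⟨_, σ, h, hF', h2⟩ := exists_isConj_algebra hK hF
  obtain ⟨n, rfl⟩ := Nat.exists_eq_add_of_le' hm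
  let f := algebraMap F K
  have hQ : ∀ x, (fMinus n (f a) (f c)).Q (f ∘ x) = f ((fMinus n a c).Q x) := fun x => by
    simp [fMinus_Q, quadFormMinus]
  have hB : ∀ x y, (fMinus n (f a) (f c)).B (f ∘ x) (f ∘ y) = f ((fMinus n a c).B x y) := fun x y => by
    rw [quad_B_eq, quad_B_eq, show f ∘ x + f ∘ y = f ∘ (x + y) by ext; simp, hQ, hQ, hQ, map_sub, map_sub]
  obtain ⟨φ, h1, -⟩ := exists_mapHom f (D := fMinus n a c) (D' := fMinus n (f a) (f c))
    (fun x y x' y' H => by rw [hB, hB, H]) fun x x' H _ => by rw [hQ, hQ, H]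
  obtain ⟨z, hz⟩ := exists_root_of_aniso h2 hac
  obtain ⟨e⟩ := (Quad.iso_fPlus (nondeg_map f (fMinus_nondeg n hac) hB) (finrank_minus n)
    ((fMinus_iso _ _ _).hasTS_iff.2 ((fPlus_hasTS n).prod (Form.hasTS_one_iff.2
      ⟨![z, 1], by simp, by simpa [fBin_Q] using hz⟩)))).nonempty_isom
  replace e := e.trans (oIso _ fPlus_Q).symm
  exact ⟨e.toMonoidHom.comp (φ.comp (oIso _ (fMinus_Q a c)).toMonoidHom),
    e.injective.comp (h1.comp (oIso _ (fMinus_Q a c)).injective)⟩

end Cfsg.Agent.S2679
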