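import Cfsg.Statements.S2682
import Cfsg.Agent.S2680

set_option autoImplicit false
open Cfsg

namespace Cfsg.Agent.S2682

open Matrix Cfsg.Lib.Forms Form S2680



/-- Centraliser order of an involution t of Sp_2m(q), q even, with s = rank(t − 1) even and f(v, tv) ≠ 0 for some v, f the symplectic form (type c_s): |C(t)| = q^(2ms − (3s² − 3s)/2 − 1) · |Sp_(s−2)(q)| · |Sp_(2m−2s)(q)|. -/
theorem result {F : Type*} [Field F] [Fintype F] [CharP F 2] {q : ℕ} (hF : Fintype.card F = q) {m s : ℕ} (t : Matrix.symplecticGroup (Fin m) F) (ht : t ^ 2 = 1) (hs : ((t : Matrix (Fin m ⊕ Fin m) (Fin m ⊕ Fin m) F) - 1).rank = s) (heven : Even s) (hna : ∃ v : Fin m ⊕ Fin m → F, Cfsg.sympForm m F v ((t : Matrix (Fin m ⊕ Fin m) (Fin m ⊕ Fin m) F).mulVec v) ≠ 0) : Nat.card ↥(Subgroup.centralizer ({t} : Set ↥(Matrix.symplecticGroup (Fin m) F))) = q ^ (2 * m * s - (3 * s ^ 2 - 3 * s) / 2 - 1) * ((q : ℕ) ^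 (((s - 2) / 2) ^ 2) * ∏ i : Fin ((s - 2) / 2), (q ^ (2 * ((i : ℕ) + 1)) - 1)) * ((q : ℕ) ^ ((m - s) ^ 2) * ∏ i : Fin (m - s), (q ^ (2 * ((i : ℕ) + 1)) - 1)) := by
  have h2 : (2 : F) = 0 := two_eq_zero_of_charP
  obtain ⟨r, rfl, H⟩ := sp_card_cent h2 t ht hs
  have hA : ¬ (fSymp F _).AltI (spEquiv F _ t) := fun h =>
    hna.elim fun v hv => hv ((fSymp_B _ _).symm.trans (h v))
  rw [sp_rank] at hs
  have h1 : 1 ≤ s := hs ▸ finrank_supp_pos.2 fun e => hA fun v => by rw [e]; exact Symp.B_self (D := fSymp F _) _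
  obtain ⟨j, hj⟩ : ∃ j, s = 2 * (j + 1) := ⟨s / 2 - 1, by obtain ⟨k, hk⟩ := heven; omega⟩
  have he : 2 * (s + r) * s - (3 * s ^ 2 - 3 * s) / 2 - 1 =
      2 * j + 1 + (s + 2 * r * s + s * (s - 1) / 2) := by
    obtain ⟨t, h1, h2⟩ := tri s
    have : 2 * (s + r) * s = 2 * s ^ 2 + 2 * r * s := by ring
    omega
  rw [H, Symp.card_wallGrp_even (fSymp_nondeg _) h2 (equiv_sq' _ ht) hA (hs.trans hj),
    spOrder_eq, spOrder_eq, he, Nat.card_eq_fintype_card, hF, Nat.add_sub_cancel_left,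
    show (s - 2) / 2 = j by omega]
  ring

end Cfsg.Agent.S2682
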