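import Cfsg.Statements.S2683
import Cfsg.Agent.S2680

set_option autoImplicit false
open Cfsg

namespace Cfsg.Agent.S2683

open Matrix Cfsg.Lib.Forms Form S2680



/-- For the hyperbolic form Σ x_j y_j on F^(2m) over a finite field with q elements, q even (excluding m = 2 over the field of two elements), and an involution x of the orthogonal group with s = rank(x − 1) odd (type b_s; such x lie outside Ω): the elements of Ω (the commutator subgroup of the orthogonal group) commuting with x number q^(2m(s−1) − (3s² − 3s)/2) · |Sp_(s−1)(q)| · |Sp_(2m−2s)(q)|, where |Sp_2k(q)| = q^(k²) Π_(i=1)^k (q^(2i) − 1). -/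
theorem result {F : Type*} [Field F] [Fintype F] [CharP F 2] {q : ℕ} (hF : Fintype.card F = q) {m s : ℕ} (h : Fintype.card F ≠ 2 ∨ m ≠ 2) (x : ↥(Cfsg.isometryGroup F (Cfsg.quadFormPlus m F))) (hx : x ^ 2 = 1) (hs : (((x : Matrix.GeneralLinearGroup (Fin m ⊕ Fin m) F) : Matrix (Fin m ⊕ Fin m) (Fin m ⊕ Fin m) F) - 1).rank = s) (hodd : Odd s) : Nat.card {g : ↥(Cfsg.Omega F (Cfsg.quadFormPlus m F)) // (g : ↥(Cfsg.isometryGroup F (Cfsg.quadFormPlus m F))) * x = x * (g : ↥(Cfsg.isometryGroup F (Cfsg.quadFormPlus m F)))} = q ^ (2 * m * (s - 1) - (3 * s ^ 2 - 3 * s) / 2) * ((q : ℕ) ^ (((s - 1) / 2) ^ 2) * ∏ i : Fin ((s - 1) / 2), (q ^ (2 * ((i : ℕ) + 1)) - 1)) * ((q : ℕ) ^ ((m - s) ^ 2) * ∏ i : Fin (m - s), (q ^ (2 * ((i : ℕ) + 1)) - 1)) := by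
  have h2 : (2 : F) = 0 := two_eq_zero_of_charP
  have hD := fPlus_nondeg (F := F) m
  obtain ⟨j, rfl⟩ := hodd
  have hs' := (o_rank fPlus_Q x).symm.trans hs
  obtain ⟨r, hr, H⟩ := plus_card_cent h2
    (good_of_fintype_card (h.imp id fun h => by rw [finrank_plus]; omega)) x hx hs
    fun hA => by have := Quad.altI_even h2 hD hA; rw [hs'] at this; simp at this
  have he : 2 * m * (2 * j + 1 - 1) - (3 * (2 * j + 1) ^ 2 - 3 * (2 * j + 1)) / 2 =
      2 * j * (2 * r + 1) + 2 * j * (2 * j - 1) / 2 := by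
    obtain ⟨t, h1, h2⟩ := tri (2 * j)
    have : 2 * m * (2 * j + 1 - 1) = 2 * (2 * j) ^ 2 + 4 * j + 4 * (r * j) := by
      rw [hr, Nat.add_sub_cancel]; ring
    have : (2 * j + 1) ^ 2 = (2 * j) ^ 2 + 4 * j + 1 := by ring
    have : 2 * j * (2 * r + 1) = 4 * (r * j) + 2 * j := by ring
    omega
  have := Symp.card_wallGrp_odd (D := Quad.pol (fPlus F m) h2) hD h2 (Quad.toPol_sq h2 (equiv_sq' (oIso _ fPlus_Q) hx)) hs'
  rw [H, spOrder_eq, spOrder_eq, he, show m - (2 * j + 1) = r by omega,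
    show (2 * j + 1 - 1) / 2 = j by omega]
  refine (congrArg (· * _) this).trans ?_
  rw [Nat.card_eq_fintype_card, hF]
  ring

end Cfsg.Agent.S2683
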