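import Cfsg.Statements.S2684
import Cfsg.Agent.S2680

set_option autoImplicit false
open Cfsg

namespace Cfsg.Agent.S2684

open Matrix Cfsg.Lib.Forms Form S2680



/-- For the hyperbolic form Q = Σ x_j y_j on F^(2m) over a finite field with q elements, q even (excluding m = 2 over the field of two elements), and an involution x ≠ 1 of the orthogonal group with s = rank(x − 1) even and Q vanishing on the image of x − 1 (equivalently f(v, xv) = 0 for all v, where f(u, w) = Q(u + w) − Q(u) − Q(w) is the bilinear form of Q; type a_s, which lies in Ω): its centraliser in Ω (the commutator subgroup of the orthogonal group) has order q^(2ms − (3s² + s)/2) · |Sp_s(q)| · |Ω⁺_(2m−2s)(q)|, where |Ω⁺_2k(q)| = q^(k(k−1)) (q^k − 1) Π_(i=1)^(k−1) (q^(2i) − 1) for k ≥ 1 and the last factor is 1 when s = m. -/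
theorem result {F : Type*} [Field F] [Fintype F] [CharP F 2] {q : ℕ} (hF : Fintype.card F = q) {m s : ℕ} (h : Fintype.card F ≠ 2 ∨ m ≠ 2) (x : ↥(Cfsg.isometryGroup F (Cfsg.quadFormPlus m F))) (hx : x ^ 2 = 1) (hx1 : x ≠ 1) (hs : (((x : Matrix.GeneralLinearGroup (Fin m ⊕ Fin m) F) : Matrix (Fin m ⊕ Fin m) (Fin m ⊕ Fin m) F) - 1).rank = s) (heven : Even s) (halt : ∀ v : Fin m ⊕ Fin m → F, Cfsg.quadFormPlus m F ((((x : Matrix.GeneralLinearGroup (Fin m ⊕ Fin m) F) : Matrix (Fin m ⊕ Fin m) (Fin m ⊕ Fin m) F) - 1).mulVec v) = 0) : Nat.card {g : ↥(Cfsg.Omega F (Cfsg.quadFormPlus m F)) // (g : ↥(Cfsg.isometryGroup F (Cfsg.quadFormPlus m F))) * x = x * (g : ↥(Cfsg.isometryGroup F (Cfsg.quadFormPlus m F)))} = q ^ (2 * m * s - (3 * s ^ 2 + s) / 2) * ((q : ℕ) ^ ((s / 2) ^ 2) * ∏ i : Fin (s / 2), (q ^ (2 * ((i : ℕ) + 1)) - 1)) * (if s = m then 1 else q ^ ((m - s) * (m - s - 1)) * (q ^ (m - s) - 1) * ∏ i : Fin (m - s - 1), (q ^ (2 * ((i : ℕ) + 1)) - 1)) :=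 by
  have h2 : (2 : F) = 0 := two_eq_zero_of_charP
  have hD := fPlus_nondeg (F := F) m
  have hG : (fPlus F m).Good := good_of_fintype_card (h.imp id fun h => by rw [finrank_plus]; omega)
  have hA := (o_altI_iff fPlus_Q h2 x).1 halt
  have h1 := equiv_sq' (oIso _ fPlus_Q) hx
  obtain ⟨j, hj⟩ := heven.two_dvd
  rw [o_rank fPlus_Q] at hs
  have hw : Nat.card (wallGrp (fPlus F m).B (oIso _ fPlus_Q x).1) = spOrder q j := by
    rw [← hF, ← Nat.card_eq_fintype_card]
    exact Symp.altI_card (D := Quad.pol (fPlus F m) h2) hD (a := Quad.toPol h2 (oIso _ fPlus_Q x)) (fun v => hA v) (hs.trans hj)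
  have hT := (Quad.altI_iff h2).1 hA
  obtain ⟨t, t1, t2⟩ := tri s
  rw [o_card_cent hD fPlus_Q h2 hG, spOrder_eq, show s / 2 = j by omega]
  split_ifs with e
  · subst e
    rw [Quad.card_cent_ker_max h2 hD hG (by rw [hs, finrank_plus]) hA, hw,
      Quad.card_fix_TS_max hD hT hs (finrank_plus _), Nat.card_eq_fintype_card, hF,
      show 2 * s * s - (3 * s ^ 2 + s) / 2 = s * (s - 1) / 2 by
        have : 2 * s * s = 2 * s ^ 2 := by ring
        omega]
    ring
  · have h3 := hD.two_mul_supp_le h2 h1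
    rw [hs, finrank_plus] at h3
    obtain ⟨r, rfl⟩ : ∃ r, m = s + (r + 1) := ⟨m - s - 1, by omega⟩
    have : Nontrivial (Fin (s + (r + 1)) ⊕ Fin (s + (r + 1)) → F) :=
      Module.nontrivial_of_finrank_pos (R := F) (by rw [finrank_plus]; omega)
    refine Nat.eq_of_mul_eq_mul_left two_pos ?_
    rw [Quad.card_cent_ker h2 hD h1 (fun h => e (by have := h.1; rw [hs, finrank_plus] at this; omega)),
      hw, Quad.card_fix_TS hD hT hs (finrank_plus _) (fPlus_hasTS _), Nat.card_eq_fintype_card, hF,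
      Nat.add_sub_cancel_left, Nat.add_sub_cancel,
      Fin.prod_univ_eq_prod_range (fun i => q ^ (2 * (i + 1)) - 1),
      show 2 * (s + (r + 1)) * s - (3 * s ^ 2 + s) / 2 = s * (2 * (r + 1)) + s * (s - 1) / 2 by
        have : 2 * (s + (r + 1)) * s = 2 * s ^ 2 + s * (2 * (r + 1)) := by ring
        omega]
    ring

end Cfsg.Agent.S2684
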