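import Cfsg.Statements.S2685
import Cfsg.Agent.S2680

set_option autoImplicit false
open Cfsg

namespace Cfsg.Agent.S2685

open Matrix Cfsg.Lib.Forms Form S2680



/-- For the hyperbolic form Q = Σ x_j y_j on F^(2m) over a finite field with q elements, q even (excluding m = 2 over the field of two elements), and an involution x of the orthogonal group with s = rank(x − 1) even and Q not vanishing on the image of x − 1 (f(v, xv) ≠ 0 for some v, where f(u, w) = Q(u + w) − Q(u) − Q(w) is the bilinear form of Q; type c_s, which lies in Ω): its centraliser in Ω (the commutator subgroup of the orthogonal group) has order q^(2m(s−1) − (3s² − 5s)/2 − 1) · |Sp_(s−2)(q)| · |Sp_(2m−2s)(q)|. -/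
theorem result {F : Type*} [Field F] [Fintype F] [CharP F 2] {q : ℕ} (hF : Fintype.card F = q) {m s : ℕ} (h : Fintype.card F ≠ 2 ∨ m ≠ 2) (x : ↥(Cfsg.isometryGroup F (Cfsg.quadFormPlus m F))) (hx : x ^ 2 = 1) (hs : (((x : Matrix.GeneralLinearGroup (Fin m ⊕ Fin m) F) : Matrix (Fin m ⊕ Fin m) (Fin m ⊕ Fin m) F) - 1).rank = s) (heven : Even s) (hna : ∃ v : Fin m ⊕ Fin m → F, Cfsg.quadFormPlus m F ((((x : Matrix.GeneralLinearGroup (Fin m ⊕ Fin m) F) : Matrix (Fin m ⊕ Fin m) (Fin m ⊕ Fin m) F) - 1).mulVec v) ≠ 0) : Nat.card {g : ↥(Cfsg.Omega F (Cfsg.quadFormPlus m F)) // (g : ↥(Cfsg.isometryGroup F (Cfsg.quadFormPlus m F))) * x = x * (g : ↥(Cfsg.isometryGroup F (Cfsg.quadFormPlus m F)))} = q ^ (2 * m * (s - 1) - (3 * s ^ 2 - 5 * s) / 2 - 1) * ((q : ℕ) ^ (((s - 2) / 2) ^ 2) * ∏ i : Fin ((s - 2) / 2), (q ^ (2 * ((i : ℕ) + 1)) - 1)) * ((q : ℕ) ^ ((m - s) ^ 2) * ∏ i : Fin (m - s), (q ^ (2 * ((i : ℕ) + 1)) - 1))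 := by
  have h2 : (2 : F) = 0 := two_eq_zero_of_charP
  have hD := fPlus_nondeg (F := F) m
  have hA : ¬ (fPlus F m).AltI (oIso _ fPlus_Q x) := fun h =>
    hna.elim fun v hv => hv ((o_altI_iff fPlus_Q h2 x).2 h v)
  have hs' := (o_rank fPlus_Q x).symm.trans hs
  have h1 : 1 ≤ s := hs' ▸ finrank_supp_pos.2 fun e => hA fun v => by
    rw [e]; exact Quad.B_self_two h2 _
  obtain ⟨j, rfl⟩ : ∃ j, s = 2 * j + 1 + 1 := ⟨s / 2 - 1, by obtain ⟨k, hk⟩ := heven; omega⟩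
  obtain ⟨r, hr, H⟩ := plus_card_cent h2
    (good_of_fintype_card (h.imp id fun h => by rw [finrank_plus]; omega)) x hx hs hA
  have he : 2 * m * (2 * j + 1 + 1 - 1) - (3 * (2 * j + 1 + 1) ^ 2 - 5 * (2 * j + 1 + 1)) / 2 - 1 =
      2 * j + 1 + ((2 * j + 1) * (2 * r + 1) + (2 * j + 1) * (2 * j + 1 - 1) / 2) := by
    obtain ⟨t, h1, h2⟩ := tri (2 * j + 1)
    have : 2 * m * (2 * j + 1 + 1 - 1) = 2 * (2 * j + 1) ^ 2 + 4 * j + 2 + 4 * (r * j) + 2 * r := by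
      rw [hr, Nat.add_sub_cancel]; ring
    have : (2 * j + 1 + 1) ^ 2 = (2 * j + 1) ^ 2 + 4 * j + 3 := by ring
    have : (2 * j + 1) * (2 * r + 1) = 4 * (r * j) + 2 * j + 2 * r + 1 := by ring
    omega
  have := Symp.card_wallGrp_even (D := Quad.pol (fPlus F m) h2) hD h2
    (Quad.toPol_sq h2 (equiv_sq' (oIso _ fPlus_Q) hx)) hA (j := j) hs'
  rw [H, spOrder_eq, spOrder_eq, he, show m - (2 * j + 1 + 1) = r by omega,
    show (2 * j + 1 + 1 - 2) / 2 = j by omega]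
  refine (congrArg (· * _) this).trans ?_
  rw [Nat.card_eq_fintype_card, hF]
  ring

end Cfsg.Agent.S2685
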