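import Cfsg.Statements.S2686
import Cfsg.Agent.Lib.Conj.BalG

set_option autoImplicit false
open Cfsg

namespace Cfsg.Agent.S2686

open Cfsg.Lib.Conj Cfsg.Lib.Forms Cfsg.Lib.Forms.Form Module

open Cfsg.Lib.CAut Cfsg.Lib.CAut.Sem Cfsg.Lib.Linear

/-- A criterion for the failure of local balance in almost simple groups with linear socle. Let F be a finite field of characteristic r and K = PSL_n(F) (n ≥ 2) simple. Let A be a group of automorphisms of K containing all inner automorphisms (an almost simple group with socle K), and β ∈ A an automorphism of prime order p ≠ r that is not inner-diagonal (not induced by conjugation by an invertible matrix). Then the largest normal subgroup of C_A(β) of order prime to p is nontrivial if and only if β is the composite of an inner-diagonal automorphism with the automorphism induced by a field automorphism applied entrywise (β is of field type) and p does not divide the number of fixed points of β on K. -/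
theorem result
    (F : Type*) [Field F] [Fintype F] (r : ℕ) [Fact r.Prime] [CharP F r] (n : ℕ) (hn : 2 ≤ n)
    (hK : IsSimpleGroup (Matrix.ProjectiveSpecialLinearGroup (Fin n) F))
    (𝒢 : Subgroup (MulAut (Matrix.ProjectiveSpecialLinearGroup (Fin n) F))) (hinn : ∀ k : Matrix.ProjectiveSpecialLinearGroup (Fin n) F, MulAut.conj k ∈ 𝒢)
    (p : ℕ) [Fact p.Prime] (hpr : p ≠ r) (β : MulAut (Matrix.ProjectiveSpecialLinearGroup (Fin n) F)) (hβ : β ∈ 𝒢) (hord : orderOf β = p)
    (hnot : ¬ Cfsg.IsInnerDiagonalAutPSL β) :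
    Cfsg.pPrimeCore p ↥(𝒢 ⊓ Subgroup.centralizer {β}) ≠ ⊥ ↔
      ((∃ γ φ : MulAut (Matrix.ProjectiveSpecialLinearGroup (Fin n) F), Cfsg.IsInnerDiagonalAutPSL γ ∧ Cfsg.IsFieldAutPSL φ ∧ β = φ.trans γ) ∧
        Nat.Coprime p (Nat.card ↥(MonoidHom.eqLocus β.toMonoidHom (MonoidHom.id (Matrix.ProjectiveSpecialLinearGroup (Fin n) F))))) := by
  haveI := Fin.nontrivial_iff_two_le.2 hn
  rw [isInnerDiagonalAutPSL_iff] at hnot
  obtain ⟨g, s, rfl | ⟨h3, rfl⟩⟩ := psl_aut_factor β
  · have hs : s ≠ 1 := by rintro rfl; exact hnot ⟨g, by simp⟩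
    have hA := isAct_slAct (F := F) hn
    have h1 : orderOf s = p := hA.orderOf_s (a := ⟨sm g s, trivial⟩) hs Fact.out (by rwa [slAct_sm])
    refine bal_iff center_psl hinn hord (fun _ => ⟨_, _, isInnerDiagonalAutPSL_iff.2 ⟨g, rfl⟩,
      isFieldAutPSL_iff.2 ⟨s, rfl⟩, rfl⟩) ?_
    obtain ⟨α, -, h2⟩ := (sl_coset hn (x := pslField _ F s) ⟨1, s, hs, isStdFieldAutPSL_iff.2 (by simp)⟩
      Fact.out (by rw [← slAct_pi]; exact orderOf_act_pi hA hs h1 _)
      (inndiagPSL_eq n F ▸ ⟨g, rfl⟩ : pslConj _ F g ∈ _)).1 hord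
    refine bal_of_conj (α := α⁻¹) ?_
    rw [h2, show α⁻¹ * (α * pslField _ F s * α⁻¹) * α⁻¹⁻¹ = pslField _ F s by group]
    exact bal_field_psl hn (fix_subfield s) h1 hpr
  obtain ⟨Φ, h4, h5⟩ := exists_autFieldGraph (F := F) h3
  have h6 : (s, Multiplicative.ofAdd (1 : ZMod 2)) ^ p = 1 := by
    have := congrArg Φ (hord ▸ pow_orderOf_eq_one (pslConj _ F g * pslField _ F s * pslInvT _ F))
    rwa [map_pow, mul_assoc, map_mul, show Φ (pslConj _ F g) = 1 from h5.ge ⟨g, rfl⟩, one_mul,
      ← pslFieldGraph_ofAdd, h4, Φ.map_one] at this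
  obtain rfl : p = 2 := ((Nat.prime_dvd_prime_iff_eq Nat.prime_two Fact.out).1
    ((ZMod.natCast_eq_zero_iff p 2).1 (by simpa using congrArg (·.2.toAdd) h6))).symm
  refine bal_iff center_psl hinn hord (fun h => (h (two_dvd_card_psl hn)).elim) ?_
  by_cases hs : s = 1
  · rw [hs, map_one, mul_one] at hord ⊢
    exact fun _ => bal_graph_psl h3 hpr hord
  obtain ⟨q, hq⟩ := exists_isConj (σ := (s : F →+* F))
    (fun H => hs (RingEquiv.ext (RingHom.congr_fun H))) (RingEquiv.congr_fun (congrArg Prod.fst h6))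
  rw [mul_assoc] at hord ⊢
  obtain ⟨α, -, h2⟩ := gf_coset hq (g := g) (by omega) (hord ▸ pow_orderOf_eq_one _)
  refine bal_of_conj (α := α⁻¹) ?_
  rw [h2, show ∀ x, α⁻¹ * (α * x * α⁻¹) * α⁻¹⁻¹ = x from fun x => by group]
  exact fun _ => bal_gf_psl h3 hpr hq

end Cfsg.Agent.S2686
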