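import Cfsg.Statements.S2687
import Cfsg.Agent.Lib.Conj.BalG
import Cfsg.Agent.Lib.Forms.Small

set_option autoImplicit false
open Cfsg

namespace Cfsg.Agent.S2687

open Cfsg.Lib.Conj Cfsg.Lib.Forms Cfsg.Lib.Forms.Form Module

open Cfsg.Lib.CAut Cfsg.Lib.CAut.Sem

/-- A criterion for the failure of local balance in almost simple groups with unitary socle. Let F be a finite field of characteristic r with q² elements and K = PSU_n(q) (n ≥ 3, the central quotient of the determinant-one isometries of the standard Hermitian form) simple. Let A be a group of automorphisms of K containing all inner automorphisms, and β ∈ A an automorphism of prime order p ≠ r that is not inner-diagonal (not induced by conjugation by a matrix of the general unitary group). Then the largest normal subgroup of C_A(β) of order prime to p is nontrivial if and only if β is the composite of an inner-diagonal automorphism with the automorphism induced by a field automorphism of F applied entrywise and p does not divide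 the number of fixed points of β on K. -/
theorem result
    (F : Type*) [Field F] [Fintype F] (r : ℕ) [Fact r.Prime] [CharP F r] (q : ℕ) (hF : Fintype.card F = q ^ 2)
    (n : ℕ) (hn : 3 ≤ n) (hK : IsSimpleGroup (Cfsg.PSU n F q))
    (𝒢 : Subgroup (MulAut (Cfsg.PSU n F q))) (hinn : ∀ k : Cfsg.PSU n F q, MulAut.conj k ∈ 𝒢)
    (p : ℕ) [Fact p.Prime] (hpr : p ≠ r) (β : MulAut (Cfsg.PSU n F q)) (hβ : β ∈ 𝒢) (hord : orderOf β = p)
    (hnot : ¬ Cfsg.IsInnerDiagonalAutPSU β) :
    Cfsg.pPrimeCore p ↥(𝒢 ⊓ Subgroup.centralizer {β}) ≠ ⊥ ↔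
      ((∃ γ φ : MulAut (Cfsg.PSU n F q), Cfsg.IsInnerDiagonalAutPSU γ ∧ (∃ σ : F ≃+* F, Cfsg.IsFieldAutPSUOf σ φ) ∧ β = φ.trans γ) ∧
        Nat.Coprime p (Nat.card ↥(MonoidHom.eqLocus β.toMonoidHom (MonoidHom.id (Cfsg.PSU n F q))))) := by
  obtain ⟨s, h⟩ := exists_isConj_equiv hF
  have h32 : ¬ (n = 3 ∧ q = 2) := by
    rintro ⟨rfl, rfl⟩
    obtain ⟨h1, N, hN, h2, -⟩ := psu32_structure (stdHerm_nondeg h (Fin 3)) (by simp)
    haveI := (psuEquiv h 3).symm.isSimpleGroup
    rcases hN.eq_bot_or_eq_top with rfl | rfl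
    · simp at h2
    · rw [Subgroup.card_top, h1] at h2
      omega
  have h0 := suAct_surjective h hn h32
  obtain ⟨a, rfl⟩ := h0 β
  have h1 : a.1.s ≠ 1 := fun H => hnot ((isInnerDiagonalAutPSU_iff h hn h32).2 ⟨a, H, rfl⟩)
  refine bal_iff (center_quotient_eq_bot (jSU h hn) (stdSU h hn h32)) hinn hord (fun _ => ?_) ?_
  · refine ⟨suAct h hn h32 (a * (⟨pi _ a.1.s, _, isSim_pi_herm h _⟩ : Gam _)⁻¹), _,
      (isInnerDiagonalAutPSU_iff h hn h32).2 ⟨_, ?_, rfl⟩,
      ⟨_, (isFieldAutPSUOf_iff h hn h32 (s := a.1.s)).2 rfl⟩, ?_⟩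
    · exact (map_mul (gfld _) _ _).trans (by rw [map_inv]; exact mul_inv_cancel _)
    · exact (congrArg _ (inv_mul_cancel_right _ _).symm).trans (map_mul (suAct h hn h32) _ _)
  by_cases h2 : p = 2
  · subst h2
    exact fun _ => bal_graph_herm (isInn_gact _ _) h0 h1 hord hpr
  · exact bal_field_herm (isInn_gact _ _) h1 hord hpr h2 h0

end Cfsg.Agent.S2687
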