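import Cfsg.Statements.S2703
import Cfsg.Agent.Lib.Conj.Gra

set_option autoImplicit false
open Cfsg

namespace Cfsg.Agent.S2703

open Cfsg.Lib.Conj Cfsg.Lib.Forms Cfsg.Lib.Forms.Form Module

open Cfsg.Lib.CAut

/-- Let T = PSL_n(F) over the field with q elements, q odd, n = 2m ≥ 4 even, and ι the inverse-transpose automorphism. Its centralizer in G = Inndiag(T) (the image of PGL_n(F)) is isomorphic to the projective conformal orthogonal group of the plus-type form Σ xᵢ yᵢ in dimension n when n(q − 1)/4 is even, and to that of a minus-type form (Σ xᵢ yᵢ + z₁² + a z₁ z₂ + b z₂² with anisotropic binary part) when n(q − 1)/4 is odd. -/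
theorem result {F : Type*} [Field F] [Fintype F] (hodd : Odd (Fintype.card F)) {n m : ℕ} (hm : 2 ≤ m) (hnm : n = 2 * m) (ι : MulAut (Matrix.ProjectiveSpecialLinearGroup (Fin n) F)) (hι : Cfsg.IsInverseTransposeAutPSL ι) :
    (Even (n * (Fintype.card F - 1) / 4) → Nonempty (↥(Cfsg.inndiagPSL n F ⊓ Subgroup.centralizer {ι}) ≃* Cfsg.PGO F (Cfsg.quadFormPlus m F))) ∧ (¬ Even (n * (Fintype.card F - 1) / 4) → ∃ a b : F, (∀ z₁ z₂ : F, z₁ ^ 2 + a * z₁ * z₂ + b * z₂ ^ 2 = 0 → z₁ = 0 ∧ z₂ = 0) ∧ Nonempty (↥(Cfsg.inndiagPSL n F ⊓ Subgroup.centralizer {ι}) ≃* Cfsg.PGO F (Cfsg.quadFormMinus (m - 1) F a b))) := by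
  have h2 := two_ne_zero_of_odd_card rfl hodd
  haveI : Nonempty (Fin n) := ⟨⟨0, by omega⟩⟩
  have hD := fSq_nondeg h2 (Fin n)
  have h1 : Sim (fSq F (Fin n)).B (Matrix.toBilin' (1 : GL (Fin n) F)⁻¹.1) :=
    Sim.symm ⟨1, 2, h2, fun x y => by simp [fSq_B, Matrix.toBilin'_apply', dotProduct]⟩
  have h3 := ((gra_psl (by omega)).cent ((rf_of_form hD).of_sim h1)
    ⟨1, (Lib.Linear.isInverseTransposeAutPSL_iff.1 hι).trans (by simp), rfl⟩).of_sim h1.symm
  have h4 := (Module.finrank_fin_fun F).trans hnm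
  have h5 : (fSq F (Fin n)).HasTS m ↔ Even (n * (Fintype.card F - 1) / 4) := by
    rw [hasTS_iff_disc hD h2 h4, disc_fSq h2, eq_comm, chi_neg_one_pow_eq_one_iff h2, hnm, mul_assoc,
      show 4 = 2 * 2 from rfl, Nat.mul_div_mul_left _ _ two_pos, Nat.card_eq_fintype_card]
  obtain ⟨a, b, hab⟩ := exists_aniso_coeffs F
  exact ⟨fun h => h3.plus hD h2 h4 (by omega) (h5.2 h),
    fun h => ⟨a, b, hab, h3.minus hD h2 h4 (by omega) (mt h5.1 h) hab⟩⟩

end Cfsg.Agent.S2703
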