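import Cfsg.Statements.S2710
import Cfsg.Agent.Lib.Conj.Gra

set_option autoImplicit false
open Cfsg

namespace Cfsg.Agent.S2710

open Cfsg.Lib.Conj Cfsg.Lib.Forms Cfsg.Lib.Forms.Form Module

open Cfsg.Lib.CAut

/-- Let T = PSU_n(q) with n ≥ 4 divisible by 4 (n = 2m) and q odd, realised over the field F with q² elements, G = Inndiag(T) the image of PGU_n(q), and φ the standard field automorphism of T attached to the q-th power map of F (it induces inverse-transpose on the unitary matrices and is a graph automorphism). Its centralizer in G is isomorphic to the projective conformal orthogonal group of the plus-type form Σ xᵢ yᵢ in dimension n over a field F₀ with q elements. (Dimensions n ≡ 2 (mod 4) are not covered.) -/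
theorem result {F : Type*} [Field F] [Fintype F] {q : ℕ} (hodd : Odd q) (hF : Fintype.card F = q ^ 2) {n m : ℕ} (hm : 2 ≤ m) (hnm : n = 2 * m) (h4 : 4 ∣ n) (F₀ : Type*) [Field F₀] [Fintype F₀] (hF₀ : Fintype.card F₀ = q) (σ : F ≃+* F) (hσ : ∀ a : F, σ a = a ^ q) (φ : MulAut (Cfsg.PSU n F q)) (hφ : Cfsg.IsFieldAutPSUOf σ φ) :
    Nonempty (↥(Cfsg.inndiagPSU n F q ⊓ Subgroup.centralizer {φ}) ≃* Cfsg.PGO F₀ (Cfsg.quadFormPlus m F₀)) := by
  have h : Lib.Forms.IsConj (σ : F →+* F) q := ⟨inferInstance, Nat.card_eq_fintype_card.trans hF, hσ⟩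
  obtain ⟨j, hj⟩ := exists_fix (F₀ := F₀) (s := σ) (by simp [orderOf_isConj h, hF, hF₀])
  have h2 := two_ne_zero_of_odd_card hF₀ hodd
  have hD := fSq_nondeg h2 (Fin n)
  have h4 := (Module.finrank_fin_fun F₀).trans hnm
  have h8 : ∀ c, σ (j c) = j c := hj.map
  refine ((gra_psu (h := h) hj (n := n) (by omega) (by omega)).cent (rf_of_form hD) ⟨_, _, j 2,
    ⟨ext_pi j _, rfl, hj.pi_comp, by simpa, fun x y => by simp [fSq_B, stdHerm_B, h8]⟩,
    (isFieldAutPSUOf_iff h _ _).1 hφ⟩).plus hD h2 h4 (by omega) ?_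
  obtain ⟨k, rfl⟩ : ∃ k, m = 2 * k := ⟨m / 2, by omega⟩
  rw [hasTS_iff_disc hD h2 h4, disc_fSq h2, pow_mul, Int.units_sq, one_pow]

end Cfsg.Agent.S2710
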