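import Cfsg.Statements.S2718
import Cfsg.Agent.Lib.Conj.SplO

set_option autoImplicit false
open Cfsg

namespace Cfsg.Agent.S2718

open Cfsg.Lib.Conj Cfsg.Lib.Forms Cfsg.Lib.Forms.Form Module

open Cfsg.Lib.CAut

/-- Let T = PΩ⁺_{2m}(F) with m ≥ 4 and |F| = q odd, G = Inndiag(T), and γ an involutory graph automorphism of T induced by a similarity (one interchanging the two classes of maximal totally singular subspaces). Then the G-class of γ is either a single T-class or the union of exactly two T-classes, and it is the union of two unless m is odd and q ≡ 3 (mod 4). -/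
theorem result {F : Type*} [Field F] [Fintype F] (hodd : Odd (Fintype.card F)) {m : ℕ} (hm : 4 ≤ m) (γ : MulAut (Cfsg.POmega F (Cfsg.quadFormPlus m F))) (hγ : Cfsg.IsSimilarityGraphAutPOmegaPlus m γ) (hγ2 : orderOf γ = 2) :
    (Cfsg.splitClassCount (Cfsg.inndiagPOmegaPlus m F) (Cfsg.Inn (Cfsg.POmega F (Cfsg.quadFormPlus m F))) γ = 1 ∨ Cfsg.splitClassCount (Cfsg.inndiagPOmegaPlus m F) (Cfsg.Inn (Cfsg.POmega F (Cfsg.quadFormPlus m F))) γ = 2) ∧ (¬ (Odd m ∧ Fintype.card F % 4 = 3) → Cfsg.splitClassCount (Cfsg.inndiagPOmegaPlus m F) (Cfsg.Inn (Cfsg.POmega F (Cfsg.quadFormPlus m F))) γ = 2) := by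
  have h2 := two_ne_zero_of_odd_card rfl hodd
  have hd := disc_plus h2 m
  rw [Nat.card_eq_fintype_card] at hd
  have hn := five_le_plus (F := F) (m := m) (by omega)
  obtain ⟨τ, hτ⟩ := exists_isTau (fPlus_nondeg m) hn (finrank_plus m)
  obtain ⟨g, hg, h3, h4⟩ := hγ
  have h5 := (lin_mem_Gam_quad (D := fPlus F m) fPlus_Q).2 hg
  rw [hτ.preserves_iff fPlus_Q hn (finrank_plus m) (fPlus_hasTS m) h5] at h3
  obtain rfl := (ind_oAct fPlus_Q (fPlus_nondeg m) hn (g := g) (s := .refl F) h5).1 h4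
  rw [inndiagPlus_eq hn hτ]
  exact (split_graph hn (isInn_gact _ _) h2 (finrank_plus m) hτ h3 (orderOf_dvd_iff_pow_eq_one.1 hγ2.dvd)).imp_right
    fun h h' => h (.inl (hd.trans (if_neg h')))

end Cfsg.Agent.S2718
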