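import Cfsg.Statements.S2719
import Cfsg.Agent.Lib.Conj.SplO

set_option autoImplicit false
open Cfsg

namespace Cfsg.Agent.S2719

open Cfsg.Lib.Conj Cfsg.Lib.Forms Cfsg.Lib.Forms.Form Module

open Cfsg.Lib.CAut

/-- Let T = PΩ⁻_{2m+2}(F) with m ≥ 3 and |F| = q odd (form with anisotropic binary part z₁² + a z₁ z₂ + b z₂²), G = Inndiag(T), and γ an involutory graph automorphism of T (an automorphism in the image of the semisimilarity group, not inner-diagonal, of order 2). Then the G-class of γ is either a single T-class or the union of exactly two T-classes, and it is the union of two unless m is even and q ≡ 1 (mod 4). -/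
theorem result {F : Type*} [Field F] [Fintype F] (hodd : Odd (Fintype.card F)) {m : ℕ} (hm : 3 ≤ m) (a b : F) (hab : (∀ z₁ z₂ : F, z₁ ^ 2 + a * z₁ * z₂ + b * z₂ ^ 2 = 0 → z₁ = 0 ∧ z₂ = 0)) (γ : MulAut (Cfsg.POmega F (Cfsg.quadFormMinus m F a b))) (hγ : Cfsg.IsGraphAutClassPOmegaMinus m a b γ) (hγ2 : orderOf γ = 2) :
    (Cfsg.splitClassCount (Cfsg.inndiagPOmegaMinus m F a b) (Cfsg.Inn (Cfsg.POmega F (Cfsg.quadFormMinus m F a b))) γ = 1 ∨ Cfsg.splitClassCount (Cfsg.inndiagPOmegaMinus m F a b) (Cfsg.Inn (Cfsg.POmega F (Cfsg.quadFormMinus m F a b))) γ = 2) ∧ (¬ (Even m ∧ Fintype.card F % 4 = 1) → Cfsg.splitClassCount (Cfsg.inndiagPOmegaMinus m F a b) (Cfsg.Inn (Cfsg.POmega F (Cfsg.quadFormMinus m F a b))) γ = 2) := by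
  have h2 := two_ne_zero_of_odd_card rfl hodd
  have hd := disc_minus h2 m hab
  rw [Nat.card_eq_fintype_card] at hd
  have hn := five_le_minus (F := F) (m := m) (by omega)
  have hD := fMinus_nondeg m hab
  obtain ⟨τ, hτ⟩ := exists_isTau hD hn (finrank_minus m)
  obtain ⟨h3, h4, -⟩ := hγ
  rw [gammaPOmega_eq (fMinus_Q a b) hD hn] at h3
  obtain ⟨c, rfl⟩ := h3
  rw [inndiagMinus_eq hab hn hτ] at h4 ⊢
  have h5 : c.1.s = 1 := by_contra fun h =>
    fMinus_not_hasTS m hab (hasTS_of_field (hD := hD) hn (isAct_gact _ _) h2 (finrank_minus m) h hγ2)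
  refine (split_graph hn (isInn_gact _ _) h2 (finrank_minus m) hτ (a := ⟨c, h5⟩) (fun h => h4 ⟨⟨_, h⟩, rfl⟩)
    (orderOf_dvd_iff_pow_eq_one.1 hγ2.dvd)).imp_right fun h h' => h ?_
  rw [Nat.odd_iff] at hodd
  by_cases h6 : Even m
  · exact .inl (hd.trans (if_pos ⟨h6, by rw [not_and] at h'; have := h' h6; omega⟩))
  · exact .inr (Nat.even_add_one.2 h6)

end Cfsg.Agent.S2719
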