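import Cfsg.Statements.S2730
import Cfsg.Agent.Lib.Conj.Bal
import Cfsg.Agent.Lib.CAut.Exc

set_option autoImplicit false
open Cfsg

namespace Cfsg.Agent.S2730

open Cfsg.Lib.Conj Cfsg.Lib.Forms Cfsg.Lib.Forms.Form Module

open Cfsg.Lib.CAut Cfsg.Lib.CAut.Sem

/-- A criterion for the failure of local balance in almost simple groups whose socle is a projective symplectic group PSp_{2m}(F) (m ≥ 2, (2m, |F|) ≠ (4, 2)). Let F be a finite field of characteristic r and K the (simple) group in question; let A be a group of automorphisms of K containing all inner automorphisms, and x ∈ A an automorphism of prime order p ≠ r that is not inner-diagonal (not induced by a conformal symplectic matrix). Then the largest normal subgroup of C_A(x) of order prime to p is nontrivial if and only if x is a field automorphism of K (conjugate under Aut(K) to a non-identity standard field automorphism) and p does not divide the number of fixed points of x on K. -/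
theorem result {F : Type*} [Field F] [Fintype F] {r : ℕ} [Fact r.Prime] [CharP F r] {m : ℕ} (hm : 2 ≤ m) (hs : m = 2 → 3 ≤ Fintype.card F) (hK : IsSimpleGroup (Cfsg.PSp m F)) (A : Subgroup (MulAut (Cfsg.PSp m F))) (hinn : ∀ k : Cfsg.PSp m F, MulAut.conj k ∈ A) {p : ℕ} [Fact p.Prime] (hpr : p ≠ r) (x : MulAut (Cfsg.PSp m F)) (hxA : x ∈ A) (hord : orderOf x = p) (hnot : ¬ Cfsg.IsInnerDiagonalAutPSp x) :
    Cfsg.pPrimeCore p ↥(A ⊓ Subgroup.centralizer {x}) ≠ ⊥ ↔ (Cfsg.IsFieldAutClassPSp x ∧ Nat.Coprime p (Nat.card ↥(MonoidHom.eqLocus x.toMonoidHom (MonoidHom.id (Cfsg.PSp m F))))) := by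
  obtain ⟨a, rfl⟩ : x ∈ (spAct F hm).range := by
    by_cases h : m = 2 → (2 : F) ≠ 0
    · exact spAct_surjective hm h x
    push Not at h
    obtain ⟨rfl, h⟩ := h
    haveI : CharP F 2 := CharTwo.of_one_ne_zero_of_two_eq_zero one_ne_zero h
    obtain ⟨δ, -, -, h1⟩ := exists_graph_sp4 h
    exact mem_of_index_two h1 (hord ▸ (Fact.out : p.Prime).odd_of_ne_two
      (CharP.eq F ‹CharP F r› ‹CharP F 2› ▸ hpr))
  have h1 : a.1.s ≠ 1 := fun h => hnot ((isInnerDiagonalAutPSp_iff hm).2 ⟨a, h, rfl⟩)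
  have hA := isAct_gact (jSp F m) (stdSp hm)
  haveI := (stdSp (F := F) hm).nontrivial
  refine bal_iff (center_quotient_eq_bot (jSp F m) (stdSp hm)) hinn hord (fun _ => ?_)
    (bal_field_alt _ _ h1 hord hpr)
  obtain ⟨α, h2⟩ := exists_conj_eq_of_coset (a := a) (b := ⟨pi _ a.1.s, _, isSim_pi_symp m _⟩) rfl hord
    (hA.coset_of_sim (a := ⟨pi _ a.1.s, _, isSim_pi_symp m _⟩) (kext_alt _) (fSymp_nondeg m) (fix_subfield _) h1 Fact.out
      (orderOf_act_pi hA h1 (hA.orderOf_s h1 Fact.out hord) _)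
      fun _ _ h1 h2 => exists_sim_of_iso (Symp.iso h1 h2 rfl))
  exact ⟨α, _, h1, (isStdFieldAutPSp_iff hm).2 h2⟩

end Cfsg.Agent.S2730
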