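import Cfsg.Statements.S2731
import Cfsg.Agent.Lib.Conj.Bal

set_option autoImplicit false
open Cfsg

namespace Cfsg.Agent.S2731

open Cfsg.Lib.Conj Cfsg.Lib.Forms Cfsg.Lib.Forms.Form Module

open Cfsg.Lib.CAut Cfsg.Lib.CAut.Sem

/-- A criterion for the failure of local balance in almost simple groups whose socle is an odd-dimensional orthogonal group Ω_{2m+1}(F) (m ≥ 3, |F| odd; the form x₀² + Σ xᵢ yᵢ). Let F be a finite field of characteristic r and K the (simple) group in question; let A be a group of automorphisms of K containing all inner automorphisms, and x ∈ A an automorphism of prime order p ≠ r that is not inner-diagonal (not induced by a similarity of the form). Then the largest normal subgroup of C_A(x) of order prime to p is nontrivial if and only if x is a field automorphism of K (conjugate under Aut(K) to a non-identity standard field automorphism) and p does not divide the number of fixed points of x on K. -/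
theorem result {F : Type*} [Field F] [Fintype F] {r : ℕ} [Fact r.Prime] [CharP F r] (hodd : Odd (Fintype.card F)) {m : ℕ} (hm : 3 ≤ m) (hK : IsSimpleGroup (Cfsg.POmega F (Cfsg.quadFormOdd m F))) (A : Subgroup (MulAut (Cfsg.POmega F (Cfsg.quadFormOdd m F)))) (hinn : ∀ k : Cfsg.POmega F (Cfsg.quadFormOdd m F), MulAut.conj k ∈ A) {p : ℕ} [Fact p.Prime] (hpr : p ≠ r) (x : MulAut (Cfsg.POmega F (Cfsg.quadFormOdd m F))) (hxA : x ∈ A) (hord : orderOf x = p) (hnot : ¬ Cfsg.IsInnerDiagonalAutPOmegaOdd m x) :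
    Cfsg.pPrimeCore p ↥(A ⊓ Subgroup.centralizer {x}) ≠ ⊥ ↔ (Cfsg.IsFieldAutClassPOmega (Cfsg.quadFormOdd m F) x ∧ Nat.Coprime p (Nat.card ↥(MonoidHom.eqLocus x.toMonoidHom (MonoidHom.id (Cfsg.POmega F (Cfsg.quadFormOdd m F)))))) := by
  have h2 := two_ne_zero_of_odd_card rfl hodd
  have hn := five_le_odd (F := F) (m := m) (by omega)
  have hD := fOdd_nondeg h2 m
  have h0 := oAct_surjective fOdd_Q hD hn fun k _ hk => by rw [finrank_odd] at hk; omega
  obtain ⟨a, rfl⟩ := h0 x
  have h1 : a.1.s ≠ 1 := fun h => hnot ((isSimilarityInduced_iff _ hD hn).2 ⟨a, h, rfl⟩)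
  have hA : IsAct (oAct fOdd_Q hD hn) := isAct_gact _ _
  refine bal_iff (center_quotient_eq_bot (jO _ fOdd_Q (commutator_eq_E' hD hn)) (std_quad hD hn)) hinn hord (fun _ => ?_)
    (bal_field_quad (isInn_gact _ _) hn h1 hord hpr h0)
  have h3 := orderOf_act_pi hA h1 (hA.orderOf_s h1 Fact.out hord) ⟨_, isSim_pi_odd m _⟩
  obtain ⟨α, h2⟩ := exists_conj_eq_of_coset (a := a) (b := ⟨pi _ a.1.s, _, isSim_pi_odd m _⟩) rfl hord
    fun δ hδ => (coset_odd hD hn (finrank_odd m) hA (a := ⟨pi _ a.1.s, _, isSim_pi_odd m _⟩) h1 Fact.out h3 hδ).1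
  exact ⟨α, _, _, h1, (isFieldAutPOmegaOf_iff _ hD hn _).2 rfl, h2⟩

end Cfsg.Agent.S2731
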