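import Cfsg.Statements.S2733
import Cfsg.Agent.Lib.Conj.BalO

set_option autoImplicit false
open Cfsg

namespace Cfsg.Agent.S2733

open Cfsg.Lib.Conj Cfsg.Lib.Forms Cfsg.Lib.Forms.Form Module

open Cfsg.Lib.CAut Cfsg.Lib.CAut.Sem

/-- A criterion for the failure of local balance in almost simple groups whose socle is a minus-type orthogonal group PΩ⁻_{2m+2}(F) (m ≥ 3; the form Σ xᵢ yᵢ + z₁² + a z₁ z₂ + b z₂² with anisotropic binary part). Let F be a finite field of characteristic r and K the (simple) group in question; let A be a group of automorphisms of K containing all inner automorphisms, and x ∈ A an automorphism of prime order p ≠ r that is not inner-diagonal (not induced by a class-preserving similarity, classes read over a quadratic extension). Then the largest normal subgroup of C_A(x) of order prime to p is nontrivial if and only if x is a field automorphism of K (conjugate under Aut(K) to a non-identity standard field automorphism) and p does not divide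 the number of fixed points of x on K. -/
theorem result {F : Type*} [Field F] [Fintype F] {r : ℕ} [Fact r.Prime] [CharP F r] {m : ℕ} (hm : 3 ≤ m) (a b : F) (hab : (∀ z₁ z₂ : F, z₁ ^ 2 + a * z₁ * z₂ + b * z₂ ^ 2 = 0 → z₁ = 0 ∧ z₂ = 0)) (hK : IsSimpleGroup (Cfsg.POmega F (Cfsg.quadFormMinus m F a b))) (A : Subgroup (MulAut (Cfsg.POmega F (Cfsg.quadFormMinus m F a b)))) (hinn : ∀ k : Cfsg.POmega F (Cfsg.quadFormMinus m F a b), MulAut.conj k ∈ A) {p : ℕ} [Fact p.Prime] (hpr : p ≠ r) (x : MulAut (Cfsg.POmega F (Cfsg.quadFormMinus m F a b))) (hxA : x ∈ A) (hord : orderOf x = p) (hnot : ¬ Cfsg.IsInnerDiagonalAutPOmegaMinus m a b x) :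
    Cfsg.pPrimeCore p ↥(A ⊓ Subgroup.centralizer {x}) ≠ ⊥ ↔ (Cfsg.IsFieldAutClassPOmegaMinus m x ∧ Nat.Coprime p (Nat.card ↥(MonoidHom.eqLocus x.toMonoidHom (MonoidHom.id (Cfsg.POmega F (Cfsg.quadFormMinus m F a b)))))) := by
  have hm' : 2 ≤ m := by omega
  have hn := five_le_minus (F := F) hm'
  have hD := fMinus_nondeg m hab
  obtain ⟨τ, hτ⟩ := exists_isTau hD hn (finrank_minus m)
  obtain ⟨c, rfl⟩ := mAct_surjective hab hm' x
  obtain ⟨h1, h2⟩ := bal_even (isInn_gact _ _) (mAct_surjective hab hm') hn (finrank_minus m) hτ hord hpr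
    (mt (isInnerDiagonalMinus_iff hab hn hτ).2 hnot)
  refine bal_iff (center_quotient_eq_bot (jO _ (fMinus_Q a b) (commutator_eq_E' hD hn)) (std_quad hD hn))
    hinn hord (fun h => ?_) h2
  have h3 : p ≠ 2 := by
    rintro rfl
    exact h (two_dvd_card (jO _ (fMinus_Q a b) (commutator_eq_E' hD hn)) (std_quad hD hn))
  have h4 := (isAct_gact _ _).orderOf_s (mt h1 h3) Fact.out hord
  have hf := fix_subfield c.1.s
  obtain ⟨a₀, b₀, h5⟩ := exists_aniso_coeffs (FixedPoints.subfield (Subgroup.zpowers c.1.s) F)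
  have h6 := aniso_of_odd hf (h4 ▸ (Fact.out : p.Prime).odd_of_ne_two h3) h5
  have hD' := fMinus_nondeg m h6
  obtain ⟨e, he⟩ := Quad.iso_fMinus hD (finrank_minus m) (fMinus_not_hasTS m hab) h6
  obtain ⟨ψ, hψ⟩ := exists_gact_congr (jO _ (fMinus_Q a b) (commutator_eq_E' hD hn))
    (jO _ (fMinus_Q _ _) (commutator_eq_E' hD' hn)) (std_quad hD hn) (std_quad hD' hn) he
  obtain ⟨c', h7, h8⟩ := hψ c
  obtain ⟨τ', hτ'⟩ := exists_isTau hD' hn (finrank_minus m)
  obtain ⟨T, hT⟩ := exists_isGT hD' (finrank_minus m)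
  have hA : IsAct (mAct h6 hm') := isAct_gact _ _
  have h9 := isSim_pi_minus m (hf.map a₀) (hf.map b₀)
  obtain ⟨α, -, h10⟩ := conj_even hn (finrank_minus m) hτ' hT hA (a := c') (a' := ⟨_, _, h9⟩)
    (h7.trans_ne (mt h1 h3)) h7.symm Fact.out ((congrArg _ h8.symm).trans (((MulAut.congr ψ).orderOf_eq _).trans hord))
    (orderOf_act_pi hA (mt h1 h3) h4 _) fun h => (fMinus_not_hasTS m h6 h).elim
  refine ⟨_, _, ψ.trans α, c.1.s, h6, mt h1 h3, hf.map a₀, hf.map b₀,
    (isFieldAutPOmegaOf_iff _ hD' hn ⟨_, h9⟩).2 (Eq.trans ?_ h10.symm)⟩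
  exact (congrArg (α * · * α⁻¹) h8 :)

end Cfsg.Agent.S2733
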