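import Cfsg.Statements.S2734
import Cfsg.Agent.Lib.Chev.Fold2

set_option autoImplicit false
open Cfsg Cfsg.Lie Cfsg.Lib.Chev Cfsg.Lib.Twist

namespace Cfsg.Agent.S2734

/-- In the Chevalley group of type D₄ over a finite field F (the matrix group generated by the root elements), a graph automorphism attached to a symmetry π of the Dynkin diagram (sending each fundamental root element x_p(t) to x_{π(p)}(t) and each x_{−p}(t) to x_{−π(p)}(t)) that has order 3 — a standard triality graph automorphism, π being a 3-cycle of the three outer nodes — has fixed-point subgroup isomorphic to the Chevalley group of type G₂ over F. -/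
theorem result {F : Type*} [Field F] [Fintype F] (τ : MulAut ↥(Cfsg.Lie.chevD4.group F)) (hτ : Cfsg.Lie.chevD4.IsGraphAut τ) (hτ3 : orderOf τ = 3) :
    Nonempty (↥(MonoidHom.eqLocus τ.toMonoidHom (MonoidHom.id ↥(Cfsg.Lie.chevD4.group F))) ≃* ↥(Cfsg.Lie.chevG2.group F)) := by
  obtain ⟨π, h⟩ := (rootOK_D4.compat.isGraphAut_iff matOK_D4).1 hτ
  obtain ⟨d⟩ := exists_gdata_one rootOK_D4 matOK_D4 piD4_val chkG_D4 F
  have h1 : ∀ π, sg chevD4 π (RingEquiv.refl F) = fun _ => RingEquiv.refl F := fun π => funext fun i => by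
    simp [sg, show ∀ i : Fin chevD4.rank, chevD4.isLong (chevD4.simple i) = false by decide +kernel]
  have h2 : π * π = 1 ∨ π = piD4 ∨ π⁻¹ = piD4 := by
    have := rootOK_D4.compat.mem_of_graphs matOK_D4 syms_D4 ⟨_, h⟩
    clear h
    revert π; decide +kernel
  have h3 : piD4 = d.T.π := Equiv.ext fun i => Fin.ext ((piD4_val i).trans (d.π_val i).symm)
  refine (fix_D4 d).map (MulEquiv.subgroupCongr (Subgroup.ext fun g => Iff.trans ?_ d.X.mem_Fix.symm)).trans
  rcases h2 with h2 | h2 | h2
  · rw [h1] at h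
    have h4 : τ ^ 2 = 1 := PreSys.Pin.ext d.X.st d.X.gen (fun i t => by simpa [h2, pow_two] using h.trans h i t) PreSys.Pin.refl
    exact absurd (hτ3 ▸ orderOf_dvd_of_pow_eq_one h4) (by decide)
  · exact Eq.congr_left (d.eq_of_pin (by decide +kernel) h (h2.trans h3) g)
  · rw [h1] at h
    rw [← d.eq_of_pin (by decide +kernel) (θ := τ.symm) (π' := 1) (fun i t => by simpa [h1] using h.symm i t) (h2.trans h3) g, τ.symm_apply_eq, eq_comm]
    rfl

end Cfsg.Agent.S2734
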