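import Cfsg.Statements.S2738
import Cfsg.Agent.Lib.Linear.Simple

set_option autoImplicit false
open Cfsg

namespace Cfsg.Agent.S2738

open Cfsg.Lib.Linear

/-- The special linear group SL(3, 4) has centre of order 3 and does not split over it: no subgroup is a complement to the centre (so SL(3, 4) is a non-split central extension of PSL(3, 4) by a group of order 3). -/
theorem result (F : Type*) [Field F] [Fintype F] (hF : Fintype.card F = 4) : Nat.card ↥(Subgroup.center (Matrix.SpecialLinearGroup (Fin 3) F)) = 3 ∧ ¬ ∃ K : Subgroup (Matrix.SpecialLinearGroup (Fin 3) F), Subgroup.IsComplement' (Subgroup.center (Matrix.SpecialLinearGroup (Fin 3) F)) K := by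
  have hF' := Nat.card_eq_fintype_card.trans hF
  have hZ : Nat.card ↥(Subgroup.center (Matrix.SpecialLinearGroup (Fin 3) F)) = 3 := by
    rw [card_center_SL, hF']; rfl
  refine ⟨hZ, ?_⟩
  rintro ⟨K, hK⟩
  have hn : K.Normal := ⟨fun k hk g => by
    obtain ⟨⟨z, y⟩, rfl⟩ := hK.2 g
    obtain ⟨z, hz⟩ := z
    obtain ⟨y, hy⟩ := y
    have := Subgroup.mem_center_iff.1 hz (y * k * y⁻¹)
    simp only
    rw [show z * y * k * (z * y)⁻¹ = z * (y * k * y⁻¹) * z⁻¹ by group, ← this, mul_inv_cancel_right]
    exact K.mul_mem (K.mul_mem hy hk) (K.inv_mem hy)⟩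
  rcases sl_normal_le_center_or_eq_top (Or.inl (by simp)) K with h | h
  · have := hK.sup_eq_top
    rw [sup_eq_left.2 h] at this
    exact sl_center_ne_top this
  · have := hK.disjoint
    rw [h, disjoint_top] at this
    rw [this] at hZ
    simp at hZ

end Cfsg.Agent.S2738
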