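import Cfsg.Statements.S2739
import Cfsg.Agent.Lib.Linear.Sourour
import Cfsg.Agent.Lib.Linear.TvConj

set_option autoImplicit false
open scoped Pointwise
open Cfsg

namespace Cfsg.Agent.S2739

open Cfsg.Lib.Linear Matrix Polynomial Subgroup

theorem charpoly_eq {F : Type*} [Field F] [Fintype F] (hF : Fintype.card F = 4) {g : Matrix.SpecialLinearGroup (Fin 3) F}
    (h : orderOf (g : Matrix.ProjectiveSpecialLinearGroup (Fin 3) F) = 3) : g.1.charpoly = X ^ 3 - C 1 := by
  have ns : ∀ c : F, g.1 ≠ c • 1 := fun c e => by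
    rw [(QuotientGroup.eq_one_iff g).2 (mem_center_iff.2 fun x => Subtype.ext (by rw [sl_coe_mul, sl_coe_mul, e]; simp))] at h
    simp at h
  have h3 := pow_orderOf_eq_one (g : Matrix.ProjectiveSpecialLinearGroup (Fin 3) F)
  rw [h, ← QuotientGroup.mk_pow, QuotientGroup.eq_one_iff] at h3
  obtain ⟨c, c3, hc⟩ := Matrix.SpecialLinearGroup.mem_center_iff.1 h3
  rw [sl_coe_pow, scalar_apply, ← smul_one_eq_diagonal] at hc
  have e := g.1.charpoly_monic.as_sum
  have d := g.1.det_eq_sign_charpoly_coeff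
  rw [g.2, Fintype.card_fin] at d
  simp only [charpoly_natDegree_eq_dim, Fintype.card_fin, Finset.sum_range_succ, Finset.sum_range_zero] at e
  rw [show g.1.charpoly.coeff 0 = -1 by linear_combination d] at e
  have ch := g.1.aeval_self_charpoly
  generalize g.1.charpoly.coeff 1 = s, g.1.charpoly.coeff 2 = t at e
  rw [e] at ch ⊢
  simp only [map_add, map_mul, map_pow, aeval_X, aeval_C, ← hc, ← Algebra.smul_def, map_zero, pow_zero, pow_one, map_one] at ch
  have k : (s ^ 2 - t * (c - 1)) • g.1 + (s * (c - 1) - t ^ 2 * c) • (1 : Matrix (Fin 3) (Fin 3) F) = 0 := by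
    have := congrArg (· * g.1) ch
    simp only [add_mul, smul_mul_assoc, ← sq, ← pow_succ, ← hc, Matrix.zero_mul, Matrix.one_mul, Nat.reduceAdd] at this
    linear_combination (norm := module) s • ch - t • this
  have k1 : s ^ 2 - t * (c - 1) = 0 := by
    by_contra a
    exact ns (-((s * (c - 1) - t ^ 2 * c) / (s ^ 2 - t * (c - 1))))
      (by linear_combination (norm := (match_scalars <;> field_simp <;> ring)) (s ^ 2 - t * (c - 1))⁻¹ • k)
  have k2 : s * (c - 1) - t ^ 2 * c = 0 := by simpa [k1] using k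
  have t0 : t = 0 := by
    by_contra a
    have c0 : c ≠ 0 := by rintro rfl; simp at c3
    have p : ∀ x : F, x ≠ 0 → x ^ 3 = 1 := fun x hx => by simpa [hF] using FiniteField.pow_card_sub_one_eq_one x hx
    have q : s ^ 3 = c := by linear_combination s * k1 + t * k2 + c * p t a
    have s0 : s ≠ 0 := by rintro rfl; exact c0 (by simpa using q.symm)
    exact s0 (pow_eq_zero_iff two_ne_zero |>.1 (by linear_combination k1 + t * p s s0 - t * q))
  subst t0
  obtain rfl : s = 0 := by simpa using k1
  simp [sub_eq_add_neg]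

theorem exists_gen {G : Type*} [Group G] {X : Subgroup G} (h : Nat.card X = 3) : ∃ x, orderOf x = 3 ∧ zpowers x = X := by
  have : Fact (Nat.Prime 3) := ⟨by norm_num⟩
  obtain ⟨x, hx⟩ := (isCyclic_iff_exists_zpowers_eq_top.1 (isCyclic_of_prime_card h))
  have : zpowers x.1 = X := by
    have := congrArg (map X.subtype) hx
    rwa [MonoidHom.map_zpowers, ← MonoidHom.range_eq_map, range_subtype] at this
  exact ⟨x, by rw [← Nat.card_zpowers, this, h], this⟩

/-- In the projective special linear group PSL(3, 4) all subgroups of order 3 are conjugate. -/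
theorem result (F : Type*) [Field F] [Fintype F] (hF : Fintype.card F = 4) (X Y : Subgroup (Matrix.ProjectiveSpecialLinearGroup (Fin 3) F)) (hX : Nat.card ↥X = 3) (hY : Nat.card ↥Y = 3) : ∃ g : Matrix.ProjectiveSpecialLinearGroup (Fin 3) F, MulAut.conj g • X = Y := by
  have := charP_two_of_card (F := F) (k := 2) (by simpa using hF)
  obtain ⟨x, a, rfl⟩ := exists_gen hX
  obtain ⟨y, b, rfl⟩ := exists_gen hY
  obtain ⟨x, rfl⟩ := QuotientGroup.mk_surjective x
  obtain ⟨y, rfl⟩ := QuotientGroup.mk_surjective y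
  obtain ⟨g, rfl⟩ := isConj_iff.1 (isConj_SL_of_charpoly (g := x) (h := y)
    (charpoly_eq hF a ▸ (separable_X_pow_sub_C' 2 3 1 (by norm_num) one_ne_zero).squarefree)
    ((charpoly_eq hF a).trans (charpoly_eq hF b).symm))
  exact ⟨g, MonoidHom.map_zpowers _ _⟩

end Cfsg.Agent.S2739
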