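import Cfsg.Statements.S2756
import Cfsg.Agent.Lib.SF.Real

set_option autoImplicit false
open Cfsg

namespace Cfsg.Agent.S2756

/-- For a finite group G the following are equivalent: (a) G has a normal Sylow 2-subgroup; (b) for every odd prime q dividing the order of G and every Sylow q-subgroup T, the normalizer of Z(J(T)) has a normal Sylow 2-subgroup; (c) for every odd prime q and every Sylow q-subgroup T, no nonidentity element of T is inverted by an element of the normalizer of Z(J(T)). Here J(T) is the Thompson subgroup generated by the abelian subgroups of T of largest order. Stated as the two equivalences (a) ⇔ (b) and (a) ⇔ (c). -/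
theorem result {G : Type*} [Group G] [Finite G] : ((∀ P : Sylow 2 G, (P : Subgroup G).Normal) ↔ ∀ (q : ℕ) [Fact q.Prime], q ≠ 2 → q ∣ Nat.card G → ∀ T : Sylow q G, ∀ P : Sylow 2 ↥(Subgroup.normalizer (Cfsg.centerThompsonAOf (T : Subgroup G) : Set G)), (P : Subgroup ↥(Subgroup.normalizer (Cfsg.centerThompsonAOf (T : Subgroup G) : Set G))).Normal) ∧ ((∀ P : Sylow 2 G, (P : Subgroup G).Normal) ↔ ∀ (q : ℕ) [Fact q.Prime], q ≠ 2 → ∀ T : Sylow q G, ∀ x ∈ (T : Subgroup G), x ≠ 1 → ∀ g ∈ Subgroup.normalizer (Cfsg.centerThompsonAOf (T : Subgroup G) : Set G), g * x * g⁻¹ ≠ x⁻¹) := by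
  have hle : ∀ (q : ℕ) (T : Sylow q G), (T : Subgroup G) ≤
      Subgroup.normalizer (Cfsg.centerThompsonAOf (T : Subgroup G) : Set G) := fun q T => by
    rw [Lib.Glaub.centerThompsonAOf_eq]; exact Subgroup.le_normalizer.trans Lib.Glaub.norm_le_norm_zj
  have ca : (∀ (q : ℕ) [Fact q.Prime], q ≠ 2 → ∀ T : Sylow q G, ∀ x ∈ (T : Subgroup G), x ≠ 1 →
      ∀ g ∈ Subgroup.normalizer (Cfsg.centerThompsonAOf (T : Subgroup G) : Set G), g * x * g⁻¹ ≠ x⁻¹) →
      ∀ P : Sylow 2 G, (P : Subgroup G).Normal := fun h => Lib.SF.sylow_two_normal fun q hq h2 x g hx e => by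
    haveI := Fact.mk hq
    obtain ⟨T⟩ := (inferInstance : Nonempty (Sylow q G))
    exact Lib.SF.not_inv_of_zj h2 T (h q h2 T) hx e
  have ab : (∀ P : Sylow 2 G, (P : Subgroup G).Normal) → ∀ (H : Subgroup G) (P : Sylow 2 H),
      (P : Subgroup H).Normal := fun h H P => by
    haveI := Fact.mk Nat.prime_two
    obtain ⟨Q, hQ⟩ := P.exists_comap_subtype_eq
    rw [← hQ]; exact (h Q).comap _
  have bc : ∀ (q : ℕ) [Fact q.Prime], q ≠ 2 → ∀ T : Sylow q G, (q ∣ Nat.card G →
      ∀ P : Sylow 2 ↥(Subgroup.normalizer (Cfsg.centerThompsonAOf (T : Subgroup G) : Set G)),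
        (P : Subgroup ↥(Subgroup.normalizer (Cfsg.centerThompsonAOf (T : Subgroup G) : Set G))).Normal) →
      ∀ x ∈ (T : Subgroup G), x ≠ 1 →
      ∀ g ∈ Subgroup.normalizer (Cfsg.centerThompsonAOf (T : Subgroup G) : Set G), g * x * g⁻¹ ≠ x⁻¹ := by
    intro q hq h2 T h x hx hx1 g hg e
    have hp := Lib.Hall.isPGroup_zpowers_of_mem T.isPGroup' hx
    obtain ⟨P⟩ := (inferInstance : Nonempty (Sylow 2 ↥(Subgroup.normalizer
      (Cfsg.centerThompsonAOf (T : Subgroup G) : Set G))))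
    exact hx1 (Lib.SF.eq_one_of_inv_of_normal P (h ((Lib.Core.dvd_card_of_isPGroup_of_ne_bot hq.out hp (by
      rwa [Ne, Subgroup.zpowers_eq_bot])).trans (Subgroup.card_subgroup_dvd_card _)) P) hq.out h2 (hle q T hx) hg hp e)
  exact ⟨⟨fun h q _ _ _ T => ab h _, fun h => ca fun q _ h2 T => bc q h2 T fun hd => h q h2 hd T⟩,
    fun h q _ h2 T => bc q h2 T fun _ => ab h _, ca⟩

end Cfsg.Agent.S2756
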