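import Cfsg.Statements.S2758
import Cfsg.Agent.Lib.KS9.S4

set_option autoImplicit false
open Cfsg

namespace Cfsg.Agent.S2758

open Subgroup Cfsg.Lib.KS9 Cfsg.Lib.Amalg

/-- For an odd prime p and a finite group G the following are equivalent: the dihedral group of order 2p is involved in G; some element of 2-power order normalizes but does not centralize some p-subgroup of G; some element of 2-power order inverts some nonidentity element of p-power order. -/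
theorem result {G : Type*} [Group G] [Finite G] {p : ℕ} [Fact p.Prime] (hp : p ≠ 2) : (Cfsg.Involves (DihedralGroup p) G ↔ ∃ (x : G) (P : Subgroup G), (∃ k : ℕ, orderOf x = 2 ^ k) ∧ IsPGroup p ↥P ∧ x ∈ Subgroup.normalizer (P : Set G) ∧ x ∉ Subgroup.centralizer (P : Set G)) ∧ (Cfsg.Involves (DihedralGroup p) G ↔ ∃ x y : G, (∃ k : ℕ, orderOf x = 2 ^ k) ∧ (∃ k : ℕ, orderOf y = p ^ k) ∧ y ≠ 1 ∧ x * y * x⁻¹ = y⁻¹) := by
  have : Fact (Nat.Prime 2) := ⟨Nat.prime_two⟩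
  refine ⟨⟨fun h => ?_, fun ⟨x, P, h1, h2, h3, h4⟩ => ?_⟩, fun h => ?_, fun ⟨x, y, h1, h2, h3, h4⟩ => ?_⟩
  · obtain ⟨x, k, P, h1, h2, h3, h4⟩ := exists_not_cent_of_involves hp h
    exact ⟨x, P, pow_eq_one_iff_orderOf.1 ⟨k, h1⟩, h2, h3, h4⟩
  · obtain ⟨k, h1⟩ := pow_eq_one_iff_orderOf.2 h1
    obtain ⟨j, y, hy, h5, h6⟩ := exists_inv_of_not_cent h1 h3 h4
    obtain ⟨n, hn⟩ := isPGroup_iff_mem.1 h2 y hy
    exact involves_dihedral_of_inv hp (k := k) (by rw [← pow_mul, mul_comm, pow_mul, h1, one_pow])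
      hn h5 h6
  · obtain ⟨x, y, k, n, h1, h2, h3, h4⟩ := exists_inv_of_involves hp h
    exact ⟨x, y, pow_eq_one_iff_orderOf.1 ⟨k, h1⟩, pow_eq_one_iff_orderOf.1 ⟨n, h2⟩, h3, h4⟩
  · obtain ⟨k, h1⟩ := pow_eq_one_iff_orderOf.2 h1
    obtain ⟨n, h2⟩ := pow_eq_one_iff_orderOf.2 h2
    exact involves_dihedral_of_inv hp h1 h2 h3 h4

end Cfsg.Agent.S2758
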