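import Cfsg.Statements.S2762
import Cfsg.Agent.Lib.Push.NatM

set_option autoImplicit false
open Cfsg

namespace Cfsg.Agent.S2762

open Cfsg.Lib Cfsg.Lib.Amalg Cfsg.Lib.Amalg.TV Cfsg.Lib.Push Subgroup
open scoped MatrixGroups

variable {F : Type*} [Field F]

/-- elements of `Qd` -/
def el (A : SL(2, F)) (v : Fin 2 → F) : qdOver F := ⟨aff A v, mem_qdOver.2 ⟨_, _, rfl⟩⟩

theorem ex_el (M : qdOver F) : ∃ A v, el A v = M :=
  let ⟨A, v, h⟩ := mem_qdOver.1 M.2; ⟨A, v, Subtype.ext h⟩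

theorem el_mul (A B : SL(2, F)) (v w : Fin 2 → F) : el A v * el B w = el (A * B) (A • w + v) :=
  Subtype.ext (aff_mul _ _ _ _)

theorem el_inv (A : SL(2, F)) (v : Fin 2 → F) : (el A v)⁻¹ = el A⁻¹ (-(A⁻¹ • v)) := Subtype.ext (aff_inv _ _)

theorem el_inj {A B : SL(2, F)} {v w : Fin 2 → F} (h : el A v = el B w) : A = B ∧ v = w :=
  aff_inj (congrArg Subtype.val h)

theorem el_one : el (1 : SL(2, F)) 0 = 1 := Subtype.ext aff_one

noncomputable def lin0 (M : qdOver F) : SL(2, F) := (ex_el M).choose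

theorem lin0_el (A : SL(2, F)) (v : Fin 2 → F) : lin0 (el A v) = A := (el_inj (ex_el (el A v)).choose_spec.choose_spec).1

noncomputable def lin : qdOver F →* SL(2, F) := MonoidHom.mk' lin0 fun M N => by
  obtain ⟨A, v, rfl⟩ := ex_el M
  obtain ⟨B, w, rfl⟩ := ex_el N
  rw [el_mul, lin0_el, lin0_el, lin0_el]

theorem lin_el (A : SL(2, F)) (v : Fin 2 → F) : lin (el A v) = A := lin0_el A v

def blk : SL(2, F) →* qdOver F := MonoidHom.mk' (fun A => el A 0) fun A B => by rw [el_mul]; simp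

def trl : Multiplicative (Fin 2 → F) →* qdOver F :=
  MonoidHom.mk' (fun v => el 1 v.toAdd) fun A B => by rw [el_mul]; simp [add_comm]

theorem ker_lin : (lin (F := F)).ker = trl.range := by
  ext M
  obtain ⟨A, v, rfl⟩ := ex_el M
  rw [MonoidHom.mem_ker, lin_el]
  exact ⟨fun e => ⟨.ofAdd v, e ▸ rfl⟩, fun ⟨w, e⟩ => (el_inj e).1.symm⟩

theorem pCore_eq [Fintype F] {p : ℕ} [Fact p.Prime] [CharP F p] : pCore p (qdOver F) = lin.ker := by
  obtain ⟨n, -, hn⟩ := FiniteField.card F p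
  rw [← Nat.card_eq_fintype_card] at hn
  refine le_antisymm (fun M hM => ?_) (Core.le_pCore ?_)
  · have hs : Function.Surjective (lin (F := F)) := fun A => ⟨_, lin_el A 0⟩
    have hN := Subgroup.Normal.map inferInstance lin hs (H := pCore p (qdOver F))
    obtain ⟨S, hS⟩ := ((Core.isPGroup_pCore p (qdOver F)).map lin).exists_le_sylow
    obtain ⟨g, hg⟩ := exists_conj_up hn S
    obtain ⟨c, hc⟩ := (hg _).1 (hS (mem_map_of_mem lin hM))
    obtain ⟨d, hd⟩ := (hg _).1 (hS (hN.conj_mem _ (mem_map_of_mem lin hM) (g⁻¹ * wy * g)))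
    rw [show g * (g⁻¹ * wy * g * lin M * (g⁻¹ * wy * g)⁻¹) * g⁻¹ = wy * (g * lin M * g⁻¹) * wy⁻¹ by group, hc,
      conj_up_of_zero' _ rfl] at hd
    have := congrArg (fun A : SL(2, F) => (A • (![1, 0] : Fin 2 → F)) 1) hd
    simp only [up_smul, lo_smul] at this
    have h1 : (wy : SL(2, F)) 1 0 = 1 := rfl
    simp [h1] at this
    rw [this, up_zero] at hc
    exact conj_eq_one_iff.1 hc
  · rw [ker_lin]
    rintro ⟨_, v, rfl⟩
    refine ⟨1, Subtype.ext ?_⟩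
    rw [pow_one, SubmonoidClass.coe_pow, ← map_pow, ← ofAdd_toAdd v, ← ofAdd_nsmul, ← Nat.cast_smul_eq_nsmul F,
      CharP.cast_eq_zero, zero_smul, ofAdd_zero, map_one]; rfl

/-- Structure of Qd over a finite field F of characteristic p (the affine subgroup of SL₃(F)): its largest normal p-subgroup is the group of translations (matrices with upper-left block the identity), the block-diagonal matrices form a complement isomorphic to SL₂(F), and the translation subgroup is a natural SL₂(F)-module for that complement. -/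
theorem result {F : Type*} [Field F] [Fintype F] {p : ℕ} [Fact p.Prime] [CharP F p] : (∀ M : ↥(Cfsg.qdOver F), M ∈ Cfsg.pCore p ↥(Cfsg.qdOver F) ↔ ((M : Matrix.SpecialLinearGroup (Fin 3) F) : Matrix (Fin 3) (Fin 3) F) 0 0 = 1 ∧ ((M : Matrix.SpecialLinearGroup (Fin 3) F) : Matrix (Fin 3) (Fin 3) F) 0 1 = 0 ∧ ((M : Matrix.SpecialLinearGroup (Fin 3) F) : Matrix (Fin 3) (Fin 3) F) 1 0 = 0 ∧ ((M : Matrix.SpecialLinearGroup (Fin 3) F) : Matrix (Fin 3) (Fin 3) F) 1 1 = 1) ∧ ∃ K : Subgroup ↥(Cfsg.qdOver F), (∀ M : ↥(Cfsg.qdOver F), M ∈ K ↔ ((M : Matrix.SpecialLinearGroup (Fin 3) F) : Matrix (Fin 3) (Fin 3) F) 0 2 = 0 ∧ ((M : Matrix.SpecialLinearGroup (Fin 3) F) : Matrix (Fin 3) (Fin 3) F) 1 2 = 0) ∧ K ⊓ Cfsg.pCore p ↥(Cfsg.qdOver F) = ⊥ ∧ K ⊔ Cfsg.pCore p ↥(Cfsg.qdOver F) = ⊤ ∧ Nonempty (↥K ≃* Matrix.SpecialLinearGroup (Fin 2) F) ∧ Cfsg.IsNaturalSL2Module F (Cfsg.pCore p ↥(Cfsg.qdOver F)) K := by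
  have hb : Function.Injective (blk (F := F)) := fun _ _ e => (el_inj e).1
  have ht : Function.Injective (trl (F := F)) := fun _ _ e => (el_inj e).2
  rw [pCore_eq]
  refine ⟨fun M => ?_, blk.range, fun M => ?_, eq_bot_iff.2 ?_, eq_top_iff.2 fun M _ => ?_,
    ⟨(MonoidHom.ofInjective hb).symm⟩, le_normalizer_of_normal, lin.comp (Subgroup.subtype _),
    (MulEquiv.toAdditiveRight ((MonoidHom.ofInjective ht).trans (MulEquiv.subgroupCongr ker_lin.symm))).symm, fun A => ⟨⟨_, A, rfl⟩, lin_el A 0⟩, ?_, ?_⟩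
  · obtain ⟨A, v, rfl⟩ := ex_el M
    rw [MonoidHom.mem_ker, lin_el]
    refine ⟨fun e => e ▸ ⟨rfl, rfl, rfl, rfl⟩, fun ⟨a, b, c, d⟩ => ?_⟩
    ext i j; fin_cases i <;> fin_cases j; exacts [a, b, c, d]
  · obtain ⟨A, v, rfl⟩ := ex_el M
    exact ⟨fun ⟨B, e⟩ => (el_inj e).2 ▸ ⟨rfl, rfl⟩, fun ⟨a, b⟩ => ⟨A, congrArg (el A) (vec2_ext a.symm b.symm)⟩⟩
  · rintro _ ⟨⟨A, rfl⟩, h⟩
    obtain rfl : A = 1 := (lin_el A 0).symm.trans h
    exact map_one _
  · obtain ⟨A, v, rfl⟩ := ex_el M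
    rw [show el A v = el 1 v * el A 0 by rw [el_mul]; simp]
    exact mul_mem (mem_sup_right (lin_el 1 v)) (mem_sup_left ⟨A, rfl⟩)
  · ext ⟨_, A, rfl⟩
    rw [MonoidHom.mem_ker, mem_subgroupOf]
    refine (congrArg (· = 1) (lin_el A 0)).to_iff.trans ⟨fun e => by rw [e]; simp, fun h => ?_⟩
    refine Linear.sl_ext_smul fun v => ?_
    have := h (el 1 v) (lin_el 1 v)
    change el 1 v * el A 0 = el A 0 * el 1 v at this
    rw [el_mul, el_mul] at this
    simpa using (el_inj this).2.symm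
  · rintro ⟨_, A, rfl⟩ v
    obtain ⟨v, rfl⟩ := ((MonoidHom.ofInjective ht).trans (MulEquiv.subgroupCongr ker_lin.symm)).surjective v
    refine ⟨((MonoidHom.ofInjective ht).trans (MulEquiv.subgroupCongr ker_lin.symm)) (.ofAdd (A • v.toAdd)), ?_, ?_⟩
    · change el 1 (A • v.toAdd) = el A 0 * el 1 v.toAdd * (el A 0)⁻¹
      rw [el_inv, el_mul, el_mul]; simp
    · have e : ∀ w, (MulEquiv.toAdditiveRight ((MonoidHom.ofInjective ht).trans
          (MulEquiv.subgroupCongr ker_lin.symm))).symm (.ofMul (((MonoidHom.ofInjective ht).trans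
          (MulEquiv.subgroupCongr ker_lin.symm)) w)) = w.toAdd := fun w => (AddEquiv.symm_apply_eq _).2 rfl
      rw [e, e]
      exact congrArg (fun B : SL(2, F) => B • v.toAdd) (lin_el A 0).symm

end Cfsg.Agent.S2762
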