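import Cfsg.Statements.S2763
import Cfsg.Agent.Lib.Glaub.QdF

set_option autoImplicit false
open Cfsg

namespace Cfsg.Agent.S2763

open Cfsg.Lib Cfsg.Lib.Amalg Cfsg.Lib.Glaub Subgroup

/-- In the group Qd(p) (p prime; the natural semidirect product of an elementary abelian group of order p² by SL₂(p)), the normalizer of every nontrivial characteristic subgroup of a Sylow p-subgroup S equals the normalizer of S, which is a proper subgroup; in particular no such characteristic subgroup is normal. -/
theorem result {p : ℕ} [Fact p.Prime] (S : Sylow p ↥(Cfsg.qd p)) (T : Subgroup ↥(S : Subgroup ↥(Cfsg.qd p))) (hT : T ≠ ⊥) (hTc : T.Characteristic) : Subgroup.normalizer ((T.map (S : Subgroup ↥(Cfsg.qd p)).subtype : Subgroup ↥(Cfsg.qd p)) : Set ↥(Cfsg.qd p)) = Subgroup.normalizer ((S : Subgroup ↥(Cfsg.qd p)) : Set ↥(Cfsg.qd p)) ∧ Subgroup.normalizer ((S : Subgroup ↥(Cfsg.qd p)) : Set ↥(Cfsg.qd p)) ≠ ⊤ := by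
  have h := qdL_of_equiv (MulEquiv.refl (qd p))
  have h1 := h.not_normal (syl_top S) (map_subtype_le T) (fun e => hT ((map_eq_bot_iff_of_injective _
    (subtype_injective _)).1 e)) (by rwa [← comap_subtype, comap_map_eq_self_of_injective (subtype_injective _)])
  rw [← normalizer_eq_top_iff] at h1
  have h2 := normalizer_le_normalizer_map_of_characteristic T
  have h3 := (h.le_norm (syl_top S) (le_normalizer.trans h2) h1).antisymm h2
  exact ⟨h3, fun e => h1 (h3.trans e)⟩

end Cfsg.Agent.S2763
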