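import Cfsg.Statements.S2766
import Cfsg.Agent.Lib.Push.Qd

set_option autoImplicit false
open Cfsg

namespace Cfsg.Agent.S2766

open Subgroup Cfsg.Lib.Amalg Cfsg.Lib.Push Cfsg.Lib
open scoped commutatorElement

/-- Let p ≥ 5 be prime and G a maximal p-local subgroup of a finite group H (G is the normalizer of a nontrivial p-subgroup and lies in no other such normalizer). Suppose C_G(O_p(G)) ≤ O_p(G), G/K ≅ PSL₂(p^n) for some normal K and n ≥ 1, a Sylow p-subgroup S of G lies in exactly one maximal subgroup of G, and N_H(S) is not contained in G. Then G = G₀ × E for subgroups G₀ ≅ Qd(p^n) (the natural semidirect product of the plane over the field with p^n elements by SL₂) and E an elementary abelian p-group. -/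
theorem result {H : Type*} [Group H] [Finite H] {p : ℕ} [Fact p.Prime] (hp : 5 ≤ p) (G : Subgroup H) (hloc : ∃ R : Subgroup H, IsPGroup p ↥R ∧ R ≠ ⊥ ∧ G = Subgroup.normalizer (R : Set H)) (hmax : ∀ R : Subgroup H, IsPGroup p ↥R → R ≠ ⊥ → G ≤ Subgroup.normalizer (R : Set H) → Subgroup.normalizer (R : Set H) = G) (S : Sylow p ↥G) (hE₁ : Subgroup.centralizer (Cfsg.pCore p ↥G : Set ↥G) ≤ Cfsg.pCore p ↥G) (hE₂ : ∃! M : Subgroup ↥G, IsCoatom M ∧ (S : Subgroup ↥G) ≤ M) (K : Subgroup ↥G) [K.Normal] (F : Type) [Field F] [Fintype F] (n : ℕ) (hn : 1 ≤ n) (hF : Fintype.card F = p ^ n) (hE₃ : Nonempty (↥G ⧸ K ≃* Matrix.ProjectiveSpecialLinearGroup (Fin 2) F)) (hN : ¬ Subgroup.normalizer (((S : Subgroup ↥G).map G.subtype : Subgroup H) : Set H) ≤ G) : ∃ G₀ E : Subgroup H, Cfsg.IsInternalDirectProduct G₀ E G ∧ Cfsg.IsElementaryAbelian p E ∧ Nonempty (↥G₀ ≃* ↥(Cfsg.qdOver F)) := by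
  haveI := charP_of_card hF
  obtain ⟨g, hg, hg'⟩ := SetLike.not_le_iff_exists.1 hN
  let j := G.subtype.comp (S : Subgroup G).subtype
  have hj : Function.Injective j := G.subtype_injective.comp (S : Subgroup G).subtype_injective
  let e := (S : Subgroup G).equivMapOfInjective G.subtype G.subtype_injective
  let φ : (S : Subgroup G) ≃* (S : Subgroup G) :=
    e.trans ((((S : Subgroup G).map G.subtype).normalizerMonoidHom ⟨g, hg⟩).trans e.symm)
  have hφ : ∀ s, j (φ s) = g * j s * g⁻¹ := fun s =>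
    congrArg Subtype.val (e.apply_symm_apply (((S : Subgroup G).map G.subtype).normalizerMonoidHom ⟨g, hg⟩ (e s)))
  have hc : ∀ X : Subgroup (S : Subgroup G), cj g (X.map j) = (X.map φ.toMonoidHom).map j := fun X => by
    rw [map_map, map_map]; congr 1; ext s; exact (hφ s).symm
  have hp' : ∀ X : Subgroup (S : Subgroup G), IsPGroup p (X.map j) := fun X => (S.isPGroup'.to_subgroup X).map j
  have hn' : ∀ X : Subgroup (S : Subgroup G), (X.map (S : Subgroup G).subtype).Normal → G ≤ 𝐍 (X.map j) :=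
    fun X h => by
      rw [← map_map]
      conv_lhs => rw [← map_subtype_top G]
      exact (map_mono le_normalizer_of_normal).trans (le_normalizer_map _)
  have key : ∀ X : Subgroup (S : Subgroup G), X ≠ ⊥ → (X.map (S : Subgroup G).subtype).Normal → 𝐍 (X.map j) = G :=
    fun X h0 h => hmax _ (hp' X) (by rwa [Ne, map_eq_bot_iff_of_injective _ hj]) (hn' X h)
  obtain ⟨M, h, hq⟩ := exists_e0 (syl_top S) hE₁ hE₂ K hF hE₃
  obtain ⟨A, x, U, B, W, L, D, h⟩ := h.exists_pu fun X h0 h1 h2 => hg' (by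
    rw [← key X h0 h2, ← cj_eq_self_iff, hc, characteristic_iff_map_eq.1 h1 φ])
  obtain ⟨h1, h2, h3, ⟨f⟩⟩ := h.split hp (h.T_comm hp φ fun X h1 h2 => by
    by_contra h0
    rw [← map_map] at h2
    have h3 := key _ (by rwa [Ne, map_eq_bot_iff_of_injective _ φ.injective]) h2
    rw [← hc, ← cj_normalizer, key X h0 h1, cj_eq_self_iff] at h3
    apply hg'
    rw [← hmax (pCoreOf p G) (op_isPGroup G) (fun e => h0 ?_) (le_norm_op G)]
    · exact norm_le_norm_op G h3
    · rw [← map_eq_bot_iff_of_injective _ hj, eq_bot_iff, ← e]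
      exact le_op (by rw [← map_map]; exact map_subtype_le _) (hn' X h1) (hp' X)) hq
  refine ⟨(commutator G).map G.subtype, (center G).map G.subtype, ⟨map_subtype_le _, map_subtype_le _, ?_, ?_, ?_⟩,
    ⟨(comm_map_iff G.subtype_injective).2 inferInstance, ?_⟩,
    ⟨((commutator G).equivMapOfInjective _ G.subtype_injective).symm.trans f⟩⟩
  · rintro _ ⟨a, -, rfl⟩ _ ⟨b, hb, rfl⟩
    rw [← map_mul, ← map_mul, mem_center_iff.1 hb a]
  · rw [← map_inf _ _ _ G.subtype_injective, h1, Subgroup.map_bot]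
  · rw [← Subgroup.map_sup, h2, map_subtype_top]
  · rintro _ ⟨a, ha, rfl⟩
    rw [← map_pow, h3 a ha, map_one]

end Cfsg.Agent.S2766
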