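import Cfsg.Statements.S2772
import Cfsg.Agent.Lib.Push.TriEnd
import Cfsg.Agent.Lib.KS9.Offender
import Cfsg.Agent.Lib.PGrp.Critical

set_option autoImplicit false
open Cfsg

namespace Cfsg.Agent.S2772

open Subgroup Cfsg.Lib.Amalg Cfsg.Lib.Push
open Cfsg.Lib.Transfer (maxEl thompsonOf_eq_of_le thompsonOf_le_iff normalizer_le_normalizer_thompsonOf
  elAb_comm thompsonOf_ne_bot_of_isPGroup thompsonOf_le)

theorem idx_two_q {G : Type*} [Group G] [Finite G] {T P : Subgroup G} (hT : Syl 2 T P) {q : ℕ}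
    (hq : Odd q) (h : (pCoreOf 2 P).relIndex P = 2 * q) :
    (pCoreOf 2 P).relIndex T = 2 ∧ T.relIndex P = q := by
  haveI : Fact (Nat.Prime 2) := ⟨Nat.prime_two⟩
  have e := Subgroup.relIndex_mul_relIndex (pCoreOf 2 P) T P hT.op_le hT.le
  rw [h] at e
  have hodd := hT.not_dvd_relIndex
  obtain ⟨k, hk⟩ : ∃ k, (pCoreOf 2 P).relIndex T = 2 ^ k := by
    obtain ⟨n, hn⟩ := IsPGroup.iff_card.1 hT.isPGroup
    have : (pCoreOf 2 P).relIndex T ∣ 2 ^ n := hn ▸ Subgroup.relIndex_dvd_card _ _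
    obtain ⟨k, -, hk⟩ := (Nat.dvd_prime_pow Nat.prime_two).1 this
    exact ⟨k, hk⟩
  rw [hk] at e ⊢
  obtain ⟨j, rfl⟩ := hq
  generalize T.relIndex P = b at *
  rcases k with _ | _ | k
  · omega
  · omega
  · rw [pow_succ, pow_succ, mul_assoc, mul_assoc] at e
    generalize 2 ^ k = c at e
    have : 2 * (2 * (c * b)) = 2 * (2 * j + 1) := by rw [← e]; ring
    omega

theorem eq_three {G : Type*} [Group G] [Finite G] {T P : Subgroup G} (hT : Syl 2 T P) {q : ℕ}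
    (hq : q.Prime) (hq2 : q ≠ 2) (h : (pCoreOf 2 P).relIndex P = 2 * q) (hc : CharP 2 P)
    (hZ : ¬ P ≤ 𝐂 (omegaOneCenter 2 T)) (hJ : ¬ P ≤ 𝐍 (thompsonSubgroupOf 2 T)) : q = 3 := by
  haveI : Fact (Nat.Prime 2) := ⟨Nat.prime_two⟩
  haveI : Fact (Nat.Prime q) := ⟨hq⟩
  have hodd := hq.odd_of_ne_two hq2
  obtain ⟨i2, iq⟩ := idx_two_q hT hodd h
  set Q := pCoreOf 2 P with hQ
  set V := sylowCenterClosure 2 P with hV
  have hVQ : V ≤ omegaOneCenter 2 Q := hc.scc_le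
  have hC : P ⊓ 𝐂 V ≤ Q := by
    have h1 : P ⊓ 𝐂 V ≤ T := by
      intro x hx
      by_contra hx'
      exact hZ (le_of_relIndex_prime hq iq hT.le (le_cent_omZ _) hx.1 hx'
        (Subgroup.centralizer_le hT.omZ_le_scc hx.2))
    refine le_op inf_le_left (fun g hg => ?_) (hT.isPGroup.to_le h1)
    rw [← cj_eq_self_iff, cj_inf, cj_centralizer, cj_of_mem hg,
      cj_of_mem_normalizer (le_norm_scc P hg)]
  obtain ⟨A, hA, hAQ⟩ : ∃ A ∈ maxEl 2 T, ¬ A ≤ Q := by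
    by_contra hcon
    push Not at hcon
    refine hJ ?_
    rw [← thompsonOf_eq_of_le (thompsonOf_le_iff.2 hcon) hT.op_le]
    exact (le_norm_op P).trans (normalizer_le_normalizer_thompsonOf _)
  have h1 := Cfsg.Lib.KS9.maxEl_ms_le hc.isElemAb_scc
    ((hVQ.trans (omZ_le _)).trans hT.op_le) hA (B := Q ⊓ A) inf_le_right
  have h2 : V ⊓ 𝐂 (Q ⊓ A) = V := inf_eq_left.2
    ((hVQ.trans (omZ_le_cent _)).trans (Subgroup.centralizer_le inf_le_left))
  have h3 : Nat.card A ≤ Nat.card (Q ⊓ A : Subgroup G) * 2 := by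
    rw [← Cfsg.Lib.Core.card_inf_mul_relIndex Q A]
    refine Nat.mul_le_mul_left _ ?_
    rw [← i2]
    exact Subgroup.relIndex_le_of_le_right hA.1 (by rw [i2]; norm_num)
  have h4 : Nat.card V ≤ 2 * Nat.card (V ⊓ A : Subgroup G) := by
    rw [Cfsg.Lib.KS9.ms, ← hV, h2] at h1
    have : 0 < Nat.card (Q ⊓ A : Subgroup G) := Nat.card_pos
    have := h1.trans (Nat.mul_le_mul_right _ h3)
    rw [mul_assoc] at this
    exact Nat.le_of_mul_le_mul_left this ‹_›
  obtain ⟨a, ha, haQ⟩ := SetLike.not_le_iff_exists.1 hAQ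
  have haT := hA.1 ha
  obtain ⟨g, hg, hgT⟩ : ∃ g ∈ P, g ∉ T := SetLike.not_le_iff_exists.1 fun hle => by
    rw [Subgroup.relIndex_eq_one.2 hle] at iq
    exact hq.one_lt.ne iq
  have ha'Q : g * a * g⁻¹ ∉ Q := by
    rw [hQ, ← cj_of_mem_normalizer (le_norm_op P hg), conj_mem_cj_iff]; exact haQ
  have ha'T : g * a * g⁻¹ ∉ T := by
    intro h'
    have hle : T ≤ cj g T := le_of_relIndex_prime Nat.prime_two i2 hT.op_le
      (hT.conj_of_mem hg).op_le h' ha'Q (conj_mem_cj g haT)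
    have hn : g ∈ 𝐍 T := cj_eq_self_iff.1
      (hT.eq_of_le _ hle (hT.conj_of_mem hg).le (hT.conj_of_mem hg).isPGroup)
    exact haQ (le_op hT.le (le_of_relIndex_prime hq iq hT.le le_normalizer hg hgT hn)
      hT.isPGroup haT)
  have ha'P : g * a * g⁻¹ ∈ P := mul_mem (mul_mem hg (hT.le haT)) (inv_mem hg)
  set K := P ⊓ 𝐂 ((V ⊓ A) ⊓ cj g (V ⊓ A)) with hK
  have haK : a ∈ K := ⟨hT.le haT, mem_centralizer_comm.2 fun v hv =>
    elAb_comm hA.2.1 hv.1.2 ha⟩
  have ha'K : g * a * g⁻¹ ∈ K := ⟨ha'P, mem_centralizer_comm.2 fun v hv => by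
    obtain ⟨y, hy, rfl⟩ := mem_cj'.1 hv.2
    have := elAb_comm hA.2.1 hy.2 ha
    calc g * y * g⁻¹ * (g * a * g⁻¹) = g * (y * a) * g⁻¹ := by group
      _ = g * a * g⁻¹ * (g * y * g⁻¹) := by rw [this]; group⟩
  have hQK : Q ≤ K := le_inf (op_le P) (le_cent_symm
    (((inf_le_left.trans inf_le_left).trans hVQ).trans (omZ_le_cent _)))
  have hPK : P ≤ K := le_of_relIndex_prime hq iq hT.le
    (le_of_relIndex_prime Nat.prime_two i2 hT.op_le hQK haT haQ haK) ha'P ha'T ha'K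
  obtain ⟨y, hy⟩ := exists_prime_orderOf_dvd_card' (G := P) q
    ((Dvd.intro_left 2 h.symm).trans (Subgroup.relIndex_dvd_card _ _))
  rw [← Subgroup.orderOf_coe] at hy
  have hyq : (y : G) ^ q = 1 := hy ▸ pow_orderOf_eq_one _
  have hy1 : (y : G) ≠ 1 := fun e => by rw [e, orderOf_one] at hy; exact hq.one_lt.ne hy
  have hmod := Cfsg.Lib.PGrp.card_modEq_card_inf_centralizer (A := zpowers (y : G)) (H := V)
    (isPGroup_zpowers_of_pow (k := 1) (by rw [pow_one, hyq]))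
    ((zpowers_le.2 y.2).trans (le_norm_scc P))
  set N := V ⊓ 𝐂 (zpowers (y : G)) with hN
  have hle : (V ⊓ A) ⊓ cj g (V ⊓ A) ≤ N := le_inf (inf_le_left.trans inf_le_left)
    (le_cent_symm (zpowers_le.2 (hPK y.2).2))
  have r1 : (V ⊓ A).relIndex V ≤ 2 := by
    have := Cfsg.Lib.Core.card_mul_relIndex (inf_le_left : V ⊓ A ≤ V)
    have : 0 < Nat.card (V ⊓ A : Subgroup G) := Nat.card_pos
    nlinarith
  have r2 : (cj g (V ⊓ A)).relIndex V ≤ 2 := by
    rwa [← relIndex_cj g, cj_of_mem_normalizer (le_norm_scc P hg)] at r1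
  have r3 : N.relIndex V ≤ 4 :=
    (Subgroup.relIndex_le_of_le_left hle Subgroup.FiniteIndex.index_ne_zero).trans
      ((Subgroup.relIndex_inf_le).trans (Nat.mul_le_mul r1 r2))
  have r4 : N.relIndex V ≠ 1 := fun e => hy1 (eq_one_of_odd (op_isPGroup P) hodd hyq
    (hC ⟨y.2, le_cent_symm ((Subgroup.relIndex_eq_one.1 e).trans inf_le_right) (mem_zpowers _)⟩))
  have r5 : N.relIndex V ≠ 0 := Subgroup.FiniteIndex.index_ne_zero
  have r6 := Cfsg.Lib.Core.card_mul_relIndex (inf_le_left : N ≤ V)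
  have hcop : q.Coprime (Nat.card N) := by
    obtain ⟨n, hn⟩ := IsPGroup.iff_card.1 ((elemAb_isPGroup hc.isElemAb_scc).to_le
      (inf_le_left : N ≤ V))
    rw [hn]
    exact Nat.Coprime.pow_right n ((Nat.coprime_primes hq Nat.prime_two).2 hq2)
  rw [← r6] at hmod
  have : N.relIndex V ≡ 1 [MOD q] :=
    Nat.ModEq.cancel_left_of_coprime hcop (by rwa [mul_one])
  have hd := (Nat.modEq_iff_dvd' (by omega)).1 this.symm
  have := Nat.le_of_dvd (by omega) hd
  have := hq.two_le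
  omega

/-- Sims' Theorem in local form: let H be a finite non-abelian simple group and G a maximal subgroup of H with C_G(O₂(G)) ≤ O₂(G), such that N_H(S) is not contained in G for a Sylow 2-subgroup S of G and G/O₂(G) is dihedral of order 2q for a prime q. Then G is isomorphic to the symmetric group of degree 4 or to its direct product with a group of order 2. -/
theorem result {H : Type*} [Group H] [Finite H] [IsSimpleGroup H] (hna : ¬ IsMulCommutative H) (G : Subgroup H) (hG : IsCoatom G) (hchar : Subgroup.centralizer (Cfsg.pCore 2 ↥G : Set ↥G) ≤ Cfsg.pCore 2 ↥G) (S : Sylow 2 ↥G) (hN : ¬ Subgroup.normalizer (((S : Subgroup ↥G).map G.subtype : Subgroup H) : Set H) ≤ G) (q : ℕ) (hq : q.Prime) (hD : Nonempty (↥G ⧸ Cfsg.pCore 2 ↥G ≃* DihedralGroup q)) : Nonempty (↥G ≃* Equiv.Perm (Fin 4)) ∨ Nonempty (↥G ≃* Equiv.Perm (Fin 4) × Multiplicative (ZMod 2)) := by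
  haveI : Fact (Nat.Prime 2) := ⟨Nat.prime_two⟩
  have hT := syl_of_sylow S
  generalize (S : Subgroup G).map G.subtype = T at hT hN
  obtain ⟨e⟩ := hD
  have hidx : (pCoreOf 2 G).relIndex G = 2 * q :=
    (relIndex_op_of_equiv e).trans DihedralGroup.nat_card
  have hc : CharP 2 G := charP_iff.2 hchar
  obtain ⟨g, hgT, hgG⟩ := SetLike.not_le_iff_exists.1 hN
  have hsimple : ∀ N : Subgroup H, N.Normal → N ≤ G → N = ⊥ := fun N hn hle =>
    (hn.eq_bot_or_eq_top).resolve_right fun e => hG.1 (top_le_iff.1 (e ▸ hle))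
  have key : ∀ X : Subgroup H, X ≤ G → g ∈ 𝐍 X → G ≤ 𝐍 X → X = ⊥ := fun X h1 h2 h3 =>
    hsimple X (normal_of_top_le_normalizer (hG.2 _ (lt_of_le_of_ne h3 fun e => hgG (e ▸ h2))).ge) h1
  have hq2 : q ≠ 2 := by
    rintro rfl
    have : IsPGroup 2 G := by
      obtain ⟨n, hn⟩ := IsPGroup.iff_card.1 (op_isPGroup (p := 2) G)
      refine IsPGroup.of_card (n := n + 2) ?_
      rw [← Cfsg.Lib.Core.card_mul_relIndex (op_le (p := 2) G), hn, hidx]; ring
    rw [op_eq_self this, Subgroup.relIndex_self] at hidx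
    omega
  have hTne : T ≠ ⊥ := hT.ne_bot ((Dvd.intro _ hidx.symm).trans (Subgroup.relIndex_dvd_card _ _))
  have hZ : ¬ G ≤ 𝐂 (omegaOneCenter 2 T) := fun h =>
    omZ_ne_bot hT.isPGroup hTne (key _ ((omZ_le _).trans hT.le) (norm_le_norm_omZ _ hgT)
      (h.trans (cent_le_norm _)))
  have hJ : ¬ G ≤ 𝐍 (thompsonSubgroupOf 2 T) := fun h =>
    thompsonOf_ne_bot_of_isPGroup hT.isPGroup hTne (key _ ((thompsonOf_le _).trans hT.le)
      (normalizer_le_normalizer_thompsonOf _ hgT) h)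
  obtain rfl := eq_three hT hq hq2 hidx hc hZ hJ
  have hT' : Syl 2 T (cj g G) := by
    have := hT.conj g
    rwa [cj_of_mem_normalizer hgT] at this
  have hne : ¬ cj g G ≤ G := fun h => by
    exact hTne (le_bot_iff.1 (hT.le.trans (key G le_rfl (mem_normalizer_of_cj_le h) le_normalizer).le))
  have hinf : G ⊓ cj g G = T := by
    refine le_antisymm (fun x hx => ?_) (le_inf hT.le hT'.le)
    by_contra hx'
    have hidx' : (pCoreOf 2 (cj g G)).relIndex (cj g G) = 6 := by rw [← cj_op, relIndex_cj, hidx]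
    exact hne (le_of_relIndex_prime Nat.prime_three (idx_two_three hT' hidx').2 hT'.le hT.le hx.2 hx'
      hx.1)
  have hgen : G ⊔ cj g G = ⊤ := hG.2 _ (lt_of_le_of_ne le_sup_left fun e => hne (le_sup_right.trans e.ge))
  have a1 : Syl 2 (G ⊓ cj g G) G := by rw [hinf]; exact hT
  have a2 : Syl 2 (G ⊓ cj g G) (cj g G) := by rw [hinf]; exact hT'
  have a3 : (pCoreOf 2 (cj g G)).relIndex (cj g G) = 6 := by rw [← cj_op, relIndex_cj, hidx]
  have a4 : ¬ G ≤ 𝐂 (omegaOneCenter 2 (G ⊓ cj g G)) := by rw [hinf]; exact hZ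
  have a5 : ¬ cj g G ≤ 𝐂 (omegaOneCenter 2 (G ⊓ cj g G)) := by
    rw [hinf, ← cj_of_mem_normalizer (norm_le_norm_omZ _ hgT), ← cj_centralizer, cj_le_cj_iff]
    exact hZ
  obtain ⟨-, -, -, h | h⟩ := tri_amalgam hgen a1 a2 hidx a3
    (fun N h1 h2 => hsimple N h1 (h2.trans inf_le_left)) hc (hc.conj g) a4 a5
  · exact .inl h.2.2.1
  · obtain ⟨e⟩ := h.2.2.1
    exact .inr ⟨e.trans MulEquiv.prodComm⟩

end Cfsg.Agent.S2772
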