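import Cfsg.Statements.S2773
import Cfsg.Agent.Lib.Glaub.PushM

set_option autoImplicit false
universe u
open Cfsg

namespace Cfsg.Agent.S2773

open Subgroup Cfsg.Lib Cfsg.Lib.Amalg Cfsg.Lib.Fus2 Cfsg.Lib.Glaub

/-- For every nontrivial finite 3-group S there is a nontrivial characteristic subgroup K of S such that, in every finite group G containing S as a Sylow 3-subgroup, S ∩ G' is the product of S ∩ (C_G(Z(S)))' and S ∩ (N_G(K))' (derived subgroups; product taken elementwise). -/
theorem result {S : Type u} [Group S] [Finite S] [Nontrivial S] (hS : IsPGroup 3 S) : ∃ K : Subgroup S, K ≠ ⊥ ∧ K.Characteristic ∧ ∀ (G : Type u) [Group G] [Finite G] (τ : S →* G), Function.Injective τ → (∃ P : Sylow 3 G, (P : Subgroup G) = τ.range) → ∀ g : G, g ∈ τ.range ⊓ commutator G ↔ ∃ a ∈ τ.range ⊓ ⁅Subgroup.centralizer ((τ.range ⊓ Subgroup.centralizer (τ.range : Set G) : Subgroup G) : Set G), Subgroup.centralizer ((τ.range ⊓ Subgroup.centralizer (τ.range : Set G) : Subgroup G)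 : Set G)⁆, ∃ b ∈ τ.range ⊓ ⁅Subgroup.normalizer ((K.map τ : Subgroup G) : Set G), Subgroup.normalizer ((K.map τ : Subgroup G) : Set G)⁆, g = a * b := by
  have : Fact (Nat.Prime 3) := ⟨Nat.prime_three⟩
  refine ⟨kP 3 S, (fct_kP (p := 3)).ne S hS ‹_›, characteristic_iff_map_eq.2 ((fct_kP (p := 3)).equiv S S hS), ?_⟩
  rintro G _ _ τ hτ ⟨P, hP⟩ g
  have a : Syl 3 τ.range ⊤ := hP ▸ syl_top P
  have e : (kP 3 S).map τ = amb (kP 3) τ.range := by
    rw [amb_kP a.isPGroup, kP_map hS ⟨hτ, (MonoidHom.range_eq_map τ).symm⟩]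
  have b := (fct_kP (p := 3)).le_normalizer a.isPGroup
  rw [focal_kP (by decide) a, e, mem_sup_of_le_normalizer (inf_le_left.trans (Core.le_normalizer_inf le_normalizer
    (b.trans (left_le_normalizer_comm _ _))))]
  simp only [eq_comm (a := g)]

end Cfsg.Agent.S2773
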