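import Cfsg.Statements.S2774
import Cfsg.Agent.Lib.Glaub.PushM

set_option autoImplicit false
open Cfsg

namespace Cfsg.Agent.S2774

open Subgroup Cfsg.Lib Cfsg.Lib.Amalg Cfsg.Lib.Fus2 Cfsg.Lib.Glaub

/-- Let p be an odd prime and S a nontrivial Sylow p-subgroup of a finite group G. Then S ∩ G' is generated by the subgroups S ∩ (N_G(K))' as K ranges over the nontrivial characteristic subgroups of S (derived subgroups of the normalizers). -/
theorem result {G : Type*} [Group G] [Finite G] {p : ℕ} [Fact p.Prime] (hp : p ≠ 2) (S : Sylow p G) (hS : (S : Subgroup G) ≠ ⊥) : (S : Subgroup G) ⊓ commutator G = ⨆ K : {K : Subgroup ↥(S : Subgroup G) // K ≠ ⊥ ∧ K.Characteristic}, (S : Subgroup G) ⊓ ⁅Subgroup.normalizer ((((K : Subgroup ↥(S : Subgroup G))).map (S : Subgroup G).subtype : Subgroup G) : Set G), Subgroup.normalizer ((((K : Subgroup ↥(S : Subgroup G))).map (S : Subgroup G).subtype : Subgroup G) : Set G)⁆ := by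
  refine le_antisymm ((tf_kP hp (syl_top S)).trans (iSup₂_le fun X hX => ?_))
    (iSup_le fun K => inf_le_inf_left _ (commutator_mono le_top le_top))
  obtain ⟨W, a1, a2, a3, a4⟩ := (nt_id fct_kP).exists_char S.isPGroup' hS X hX
  refine le_iSup_of_le ⟨W.subgroupOf S, fun e => a2 (by rw [← map_subgroupOf_of_le a1, e, Subgroup.map_bot]), a3⟩ ?_
  rw [map_subgroupOf_of_le a1]
  exact inf_le_inf_left _ (commutator_mono a4 a4)

end Cfsg.Agent.S2774
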