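import Cfsg.Statements.S2779
import Cfsg.Agent.Lib.Push.NatM

set_option autoImplicit false
open Cfsg

namespace Cfsg.Agent.S2779

open Cfsg.Lib Cfsg.Lib.Amalg Cfsg.Lib.Amalg.TV Cfsg.Lib.Push Subgroup

/-- Let L act on the elementary abelian p-group V (inside a finite group, by conjugation, faithfully) as SL₂(F) on its natural module, F a field with p^n elements, and let S be a Sylow p-subgroup of L. Then [V, S, S] = 1; |V| = p^(2n) and |C_V(S)| = p^n; and for every nonidentity s ∈ S and every v ∈ V outside C_V(S): C_V(s) = C_V(S) = [V, S] = [V, s] = the subgroup generated by the commutators [v, t], t ∈ S. -/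
theorem result {G : Type*} [Group G] [Finite G] {p : ℕ} [Fact p.Prime] {F : Type*} [Field F] [Fintype F] (n : ℕ) (hF : Fintype.card F = p ^ n) (V L : Subgroup G) (hnat : Cfsg.IsNaturalSL2Module F V L) (hf : L ⊓ Subgroup.centralizer (V : Set G) = ⊥) (S : Sylow p ↥L) (T : Subgroup G) (hT : T = ((S : Subgroup ↥L).map L.subtype)) : ⁅⁅V, T⁆, T⁆ = ⊥ ∧ Nat.card V = p ^ (2 * n) ∧ Nat.card ↥(V ⊓ Subgroup.centralizer ((T : Subgroup G) : Set G)) = p ^ n ∧ ∀ s ∈ T, s ≠ 1 → (V ⊓ Subgroup.centralizer ({s} : Set G)) = (V ⊓ Subgroup.centralizer ((T : Subgroup G) : Set G)) ∧ ⁅V, T⁆ = (V ⊓ Subgroup.centralizer ((T : Subgroup G) : Set G)) ∧ ⁅V, Subgroup.zpowers s⁆ = (V ⊓ Subgroup.centralizer ((T : Subgroup G) : Set G)) ∧ ∀ v ∈ V, v ∉ Subgroup.centralizer (T : Set G) → Subgroup.closure {x : G | ∃ t ∈ T, x = v * t * v⁻¹ * t⁻¹} = (V ⊓ Subgroup.centralizer ((T : Subgroup G) : Set G)) := by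
  rw [← Nat.card_eq_fintype_card] at hF
  obtain ⟨ρ, ψ, h⟩ := exists_na hF hnat hf S
  rw [← hT] at h
  refine ⟨comm_eq_bot_iff.2 (h.comm_le.trans inf_le_right), by rw [h.card_V, hF, ← pow_mul, mul_comm],
    h.card_C.trans hF, fun s hs h1 => ?_⟩
  obtain ⟨c, hc⟩ := (h.memT ⟨s, h.TL hs⟩).1 hs
  have c0 := h.up_ne hc h1
  have h2 : V ⊓ 𝐂 T ≤ ⁅V, zpowers s⁆ := fun x hx => by
    obtain ⟨v, hv, e⟩ := h.surj ![0, -(ψ x 0 / c)]
    obtain ⟨h3, h4⟩ := h.psi_comm hc hv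
    rw [← h.inj _ h3 _ hx.1 (h4.trans (vec2_ext (by simp [e]; field_simp) (h.mem_C.1 hx).2.symm))]
    exact commutator_mem_commutator hv (mem_zpowers s)
  have h3 : ⁅V, zpowers s⁆ ≤ ⁅V, T⁆ := commutator_mono le_rfl (zpowers_le.2 hs)
  refine ⟨?_, h.comm_le.antisymm (h2.trans h3), (h3.trans h.comm_le).antisymm h2, fun v hv h4 => ?_⟩
  · ext x
    rw [h.mem_C, mem_inf, mem_centralizer_singleton_iff, eq_comm]
    exact and_congr_right fun hx => (h.comm_up hc hx).trans (by simp [c0])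
  · refine le_antisymm ((closure_le _).2 ?_) fun x hx => subset_closure ?_
    · rintro _ ⟨t, ht, rfl⟩; exact h.comm_le (commutator_mem_commutator hv ht)
    · have h5 : ψ v 1 ≠ 0 := fun e => h4 (h.mem_C.2 ⟨hv, e⟩).2
      obtain ⟨t, ht, e⟩ := h.ex_up (-(ψ x 0 / ψ v 1))
      obtain ⟨h6, h7⟩ := h.psi_comm e hv
      exact ⟨t, ht, (h.inj _ h6 _ hx.1 (h7.trans (vec2_ext (by simp; field_simp) (h.mem_C.1 hx).2.symm))).symm⟩

end Cfsg.Agent.S2779
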