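import Cfsg.Statements.S2780
import Cfsg.Agent.Lib.Push.NatM

set_option autoImplicit false
open Cfsg

namespace Cfsg.Agent.S2780

open Cfsg.Lib Cfsg.Lib.Amalg Cfsg.Lib.Amalg.TV Cfsg.Lib.Push Subgroup

/-- Let L act on the elementary abelian p-group V (inside a finite group, faithfully) as SL₂(F) on its natural module, F a field with p^n elements, S a Sylow p-subgroup of L. Then: for every g ∈ L not normalizing S, V is the internal direct product of C_V(S) and C_V(gSg⁻¹); every nonidentity element of L of order prime to p acts on V without nonidentity fixed points; and C_V(S) and V/C_V(S) are irreducible for N_L(S): the only N_L(S)-invariant subgroups of C_V(S) are 1 and C_V(S), and the only N_L(S)-invariant subgroups between C_V(S) and V are those two. -/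
theorem result {G : Type*} [Group G] [Finite G] {p : ℕ} [Fact p.Prime] {F : Type*} [Field F] [Fintype F] (n : ℕ) (hF : Fintype.card F = p ^ n) (V L : Subgroup G) (hnat : Cfsg.IsNaturalSL2Module F V L) (hf : L ⊓ Subgroup.centralizer (V : Set G) = ⊥) (S : Sylow p ↥L) (T : Subgroup G) (hT : T = ((S : Subgroup ↥L).map L.subtype)) : (∀ g ∈ L, g ∉ Subgroup.normalizer (T : Set G) → Cfsg.IsInternalDirectProduct (V ⊓ Subgroup.centralizer ((T : Subgroup G) : Set G)) (V ⊓ Subgroup.centralizer ((T.map (MulAut.conj g).toMonoidHom : Subgroup G) : Set G)) V) ∧ (∀ x ∈ L, x ≠ 1 → (orderOf x).Coprime p → (V ⊓ Subgroup.centralizer ({x} : Set G)) = ⊥) ∧ (∀ U : Subgroup G, U ≤ (V ⊓ Subgroup.centralizer ((T : Subgroup G) : Set G)) → L ⊓ Subgroup.normalizer (T : Set G) ≤ Subgroup.normalizer (U : Set G) → U = ⊥ ∨ U = (V ⊓ Subgroup.centralizer ((T : Subgroup G) : Set G))) ∧ (∀ U : Subgroup G, (V ⊓ Subgroup.centralizer ((T : Subgroup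 G) : Set G)) ≤ U → U ≤ V → L ⊓ Subgroup.normalizer (T : Set G) ≤ Subgroup.normalizer (U : Set G) → U = (V ⊓ Subgroup.centralizer ((T : Subgroup G) : Set G)) ∨ U = V) := by
  haveI : CharP F p := charP_of_card_eq_prime_pow hF
  rw [← Nat.card_eq_fintype_card] at hF
  obtain ⟨ρ, ψ, h⟩ := exists_na hF hnat hf S
  rw [← hT] at h
  refine ⟨fun g hg h1 => ?_, fun x hx h1 h2 => eq_bot_iff.2 fun v hv => ?_, fun U h1 h2 => ?_, fun U h1 h2 h3 => ?_⟩
  · have h2 : ρ ⟨g, hg⟩ 1 0 ≠ 0 := fun e => h1 (h.mem_norm e)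
    have h3 : ∀ x, x ∈ V ⊓ 𝐂 (cj g T) ↔ x ∈ V ∧ ρ ⟨g, hg⟩ 1 0 * ψ x 0 = ρ ⟨g, hg⟩ 0 0 * ψ x 1 := fun x => by
      refine and_congr_right fun hx => ?_
      have h4 := h.mem_C (x := (⟨g, hg⟩⁻¹ : L) * x * ((⟨g, hg⟩⁻¹ : L) : G)⁻¹)
      rw [h.eqv _ _ hx, map_inv, sl_inv_smul, mem_inf, and_iff_right (h.cj_mem _ hx),
        and_iff_right (h.cj_mem _ hx)] at h4
      rw [← cj_centralizer]
      refine mem_cj.trans ?_
      refine Iff.trans (by simp) (h4.trans ?_)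
      simp only [Matrix.cons_val_one, Matrix.cons_val_zero]
      exact ⟨fun e => by linear_combination -e, fun e => by linear_combination -e⟩
    refine ⟨inf_le_left, inf_le_left, fun a ha b hb => h.comm ha.1 hb.1, eq_bot_iff.2 fun x hx => ?_,
      le_antisymm (sup_le inf_le_left inf_le_left) fun x hx => ?_⟩
    · have h4 := (h.mem_C.1 hx.1).2
      have h5 := ((h3 x).1 hx.2).2
      rw [h4, mul_zero, mul_eq_zero, or_iff_right h2] at h5
      exact h.inj _ hx.1.1 _ V.one_mem (h.one ▸ vec2_ext h5 h4)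
    · obtain ⟨y, hy, e⟩ := h.surj ![ρ ⟨g, hg⟩ 0 0 * ψ x 1 / ρ ⟨g, hg⟩ 1 0, ψ x 1]
      rw [← inv_mul_cancel_right x y]
      refine mul_mem (mem_sup_left (h.mem_C.2 ⟨V.mul_mem hx (V.inv_mem hy), ?_⟩))
        (mem_sup_right ((h3 y).2 ⟨hy, by simp [e]; field_simp⟩))
      simp [h.mul _ hx _ (V.inv_mem hy), h.inv hy, e]
  · by_contra h3
    obtain ⟨A, hA⟩ := sl_trans (v := ψ v) fun e => h3 (h.inj _ hv.1 _ V.one_mem (e.trans h.one.symm))
    have h4 := (h.comm_iff ⟨x, hx⟩ hv.1).1 (mem_centralizer_singleton_iff.1 hv.2).symm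
    have h5 : (A⁻¹ * ρ ⟨x, hx⟩ * A) • (![1, 0] : Fin 2 → F) = ![1, 0] := by
      rw [mul_smul, mul_smul, hA, h4, ← hA, inv_smul_smul]
    have h6 : A⁻¹ * ρ ⟨x, hx⟩ * A = up ((A⁻¹ * ρ ⟨x, hx⟩ * A) 0 1) := by
      generalize A⁻¹ * ρ ⟨x, hx⟩ * A = M at h5
      have h7 := sl_det M
      rw [sl_smul] at h5
      have h8 := congrFun h5 0
      have h9 := congrFun h5 1
      simp at h8 h9
      refine Linear.sl_ext_smul fun w => ?_
      rw [h8, h9, one_mul, mul_zero, sub_zero] at h7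
      rw [sl_smul, up_smul, h7, h8, h9]
      simp
    have h7 : (⟨x, hx⟩ : L) ^ p = 1 := h.bij.1 (by
      have : ρ ⟨x, hx⟩ = A * (A⁻¹ * ρ ⟨x, hx⟩ * A) * A⁻¹ := by group
      rw [map_pow, this, conj_pow, h6, up_pow, CharP.cast_eq_zero, zero_mul, up_zero, map_one]; simp)
    exact h1 (orderOf_eq_one_iff.1 (Nat.eq_one_of_dvd_coprimes h2 dvd_rfl
      (orderOf_dvd_of_pow_eq_one (congrArg Subtype.val h7))))
  · refine or_iff_not_imp_left.2 fun h0 => h1.antisymm fun x hx => ?_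
    obtain ⟨⟨u, hu⟩, hu1⟩ := ne_bot_iff_exists_ne_one.1 h0
    obtain ⟨h3, h4⟩ := h.mem_C.1 (h1 hu)
    have h5 : ψ u 0 ≠ 0 := fun e => hu1 (Subtype.ext (h.inj _ h3 _ V.one_mem (h.one ▸ vec2_ext e h4)))
    by_cases h6 : ψ x 0 = 0
    · rw [h.inj _ hx.1 _ V.one_mem (h.one ▸ vec2_ext h6 (h.mem_C.1 hx).2)]; exact U.one_mem
    · obtain ⟨g, hg, e⟩ := h.ex_dg (div_ne_zero h6 h5)
      rw [← h.inj _ (h.cj_mem g h3) _ hx.1 (by
        rw [h.eqv _ _ h3, e, dg_smul]; exact vec2_ext (by simp [h5]) (by simp [h4, (h.mem_C.1 hx).2]))]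
      exact (mem_normalizer_iff.1 (h2 hg) u).1 hu
  · refine or_iff_not_imp_left.2 fun h0 => h2.antisymm fun x hx => ?_
    obtain ⟨u, hu, hu1⟩ := SetLike.not_le_iff_exists.1 fun e => h0 (le_antisymm e h1)
    have h5 : ψ u 1 ≠ 0 := fun e => hu1 (h.mem_C.2 ⟨h2 hu, e⟩)
    by_cases h6 : ψ x 1 = 0
    · exact h1 (h.mem_C.2 ⟨hx, h6⟩)
    · obtain ⟨g, hg, e⟩ := h.ex_dg (div_ne_zero h5 h6)
      have h7 := h.cj_mem g (h2 hu)
      rw [← inv_mul_cancel_right x (g * u * (g : G)⁻¹)]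
      refine U.mul_mem (h1 (h.mem_C.2 ⟨V.mul_mem hx (V.inv_mem h7), ?_⟩)) ((mem_normalizer_iff.1 (h3 hg) u).1 hu)
      rw [h.mul _ hx _ (V.inv_mem h7), h.inv h7, h.eqv _ _ (h2 hu), e, dg_smul]
      simp [h5]

end Cfsg.Agent.S2780
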