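import Cfsg.Statements.S2787
import Cfsg.Agent.Lib.Glaub.Stab
import Cfsg.Agent.Lib.Twist.ReeSyl
import Cfsg.Agent.Lib.Twist.ReeModel
import Cfsg.Agent.Lib.Known.PSL2

set_option autoImplicit false
open Cfsg

namespace Cfsg.Agent.S2787

open Cfsg.Lib Cfsg.Lib.Glaub Cfsg.Lib.Amalg Cfsg.Lib.Fus2 Cfsg.Lib.Linear Cfsg.Lib.Known Subgroup
open scoped MatrixGroups

theorem not_psl {F : Type*} [Field F] [Finite F] (h2 : (2 : F) ≠ 0) {p : ℕ} [Fact p.Prime] (hp : p ≠ 2) :
    ¬ Involves SL(2, ZMod p) (PSL2 F) := fun c => by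
  obtain ⟨φ, hφ⟩ := exists_hom_quaternion_two (F := ZMod p) (Ring.two_ne_zero (by rwa [ZMod.ringChar_zmod_n]))
  obtain ⟨T⟩ : Nonempty (Sylow 2 (SL2 F)) := inferInstance
  haveI : Finite (PSL2 F) := Quotient.finite _
  obtain ⟨K, f, hf⟩ := involves_iff.1 (involves_syl isPGroup_quaternion_two
    (involves_trans (involves_of_injective φ hφ) c) (syl_top (T.mapSurjective (pmk_surjective (F := F)))))
  have key : ∀ x y : T, pmk F (x * x) ≠ 1 → pmk F (y * y) ≠ 1 → x * y = y * x := fun x y hx hy => by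
    rcases sl2_two_subgroup h2 T.2 with h | ⟨k, -, ⟨e⟩⟩
    · exact (PGrp.isMulCommutative_of_isCyclic h).1.1 x y
    · have h3 : ∀ x : T, pmk F (x * x) ≠ 1 → ∃ i, e x = .a i := fun x hx => by
        rcases hi : e x with i | i
        · exact ⟨i, rfl⟩
        · refine absurd (pmk_eq_one_iff'.2 (sl2_mul_self_eq_one h2 ?_)) hx
          have : x ^ 4 = 1 := e.injective (by rw [map_pow, hi, QuaternionGroup.xa_pow_four, map_one])
          have := congrArg Subtype.val this
          simpa [pow_succ, mul_assoc] using this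
      obtain ⟨i, hi⟩ := h3 x hx
      obtain ⟨j, hj⟩ := h3 y hy
      exact e.injective (by rw [map_mul, map_mul, hi, hj]; simp [add_comm])
  obtain ⟨⟨⟨_, x, hx, rfl⟩, hx'⟩, hx1⟩ := hf (.a 1)
  obtain ⟨⟨⟨_, y, hy, rfl⟩, hy'⟩, hy1⟩ := hf (.xa 0)
  have h4 : ∀ (x : SL2 F) h h', pmk F (x * x) = 1 → f ⟨⟨pmk F x, h⟩, h'⟩ * f ⟨⟨pmk F x, h⟩, h'⟩ = 1 :=
    fun x h h' e => by rw [← map_mul, ← map_one f]; congr 1; ext; exact (map_mul (pmk F) x x).symm.trans e
  have h5 := key ⟨x, hx⟩ ⟨y, hy⟩ (fun e => absurd (hx1 ▸ h4 x _ hx' e) (by decide))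
    (fun e => absurd (hy1 ▸ h4 y _ hy' e) (by decide))
  have := congrArg f (show (⟨⟨pmk F x, _⟩, hx'⟩ * ⟨⟨pmk F y, _⟩, hy'⟩ : K) = ⟨⟨pmk F y, _⟩, hy'⟩ * ⟨⟨pmk F x, _⟩, hx'⟩ by
    ext; exact (map_mul (pmk F) x y).symm.trans ((congrArg (fun t : T => pmk F t) h5).trans (map_mul (pmk F) y x)))
  rw [map_mul, map_mul, hx1, hy1] at this
  exact absurd this (by decide)

/-- Let p be a prime and let H act by conjugation on the elementary abelian p-subgroup V of a finite group, irreducibly (no H-invariant subgroups of V other than 1 and V) and nontrivially, and suppose H/C_H(V) is isomorphic to PSL₂(F) for a field F with p^n elements, p^n odd, or p = 3 and H/C_H(V) is isomorphic to a Ree group ²G₂(3^(2m+1)), m ≥ 1. Then no subgroup A of H acting nontrivially on V acts quadratically: [V, A, A] = 1 forces [V, A] = 1. -/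
theorem result {G : Type*} [Group G] [Finite G] {p : ℕ} [Fact p.Prime] (V H : Subgroup G) (hV : Cfsg.IsElementaryAbelian p V) (hHV : H ≤ Subgroup.normalizer (V : Set G)) (hirr : ∀ U : Subgroup G, U ≤ V → H ≤ Subgroup.normalizer (U : Set G) → U = ⊥ ∨ U = V) (hnt : ¬ H ≤ Subgroup.centralizer (V : Set G)) [hn : ((Subgroup.centralizer (V : Set G)).subgroupOf H).Normal] (hq : (∃ (F : Type) (_ : Field F) (_ : Fintype F) (n : ℕ), Fintype.card F = p ^ n ∧ Odd (Fintype.card F) ∧ Nonempty (↥H ⧸ (Subgroup.centralizer (V : Set G)).subgroupOf H ≃* Matrix.ProjectiveSpecialLinearGroup (Fin 2) F)) ∨ (p = 3 ∧ Cfsg.Lie.IsoRee (↥H ⧸ (Subgroup.centralizer (V : Set G)).subgroupOf H))) (A : Subgroup G) (hA : A ≤ H) (hquad : ⁅⁅V, A⁆, A⁆ = ⊥) : ⁅V, A⁆ = ⊥ := by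
  have hP := elemAb_isPGroup hV
  obtain ⟨hp, hs⟩ : p ≠ 2 ∧ ¬ Involves SL(2, ZMod p) (H ⧸ (centralizer (V : Set G)).subgroupOf H) := by
    rcases hq with ⟨F, _, _, n, h1, h2, ⟨e⟩⟩ | ⟨rfl, K, _, _, m, h1, h2, ⟨e⟩⟩
    · have hp : p ≠ 2 := by
        rintro rfl
        have := Fintype.one_lt_card (α := F)
        rw [h1] at h2 this
        rcases n with _ | n
        · simp at this
        · exact absurd h2 (by simp [pow_succ])
      refine ⟨hp, fun c => not_psl (F := F) (fun h => ?_) hp ((involves_congr_right e).1 c)⟩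
      have := (CharP.cast_eq_zero_iff F (ringChar F) 2).1 (by exact_mod_cast h)
      have h3 := FiniteField.even_card_iff_char_two.1 ((Nat.dvd_prime Nat.prime_two).1 this |>.resolve_left
        (CharP.char_ne_one F _))
      exact absurd (Nat.odd_iff.1 h2) (by omega)
    · refine ⟨by norm_num, fun c => ?_⟩
      obtain ⟨R, -⟩ := Twist.exists_ree h2
      haveI := Finite.of_equiv _ e.toEquiv
      obtain ⟨T⟩ : Nonempty (Sylow 2 (Lie.twistedG2 K (3 ^ m))) := inferInstance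
      exact not_involves_sl2_of_syl_two (by norm_num) (syl_top T)
        ⟨⟨fun a b => Subtype.ext ((R.sylow_two T).1.ge b.2 a a.2)⟩⟩ ((involves_congr_right e).1 c)
  have h1 : A ≤ opMod p H (𝐂 V) := Stab.le (fun a ha hq => by_contra fun c => hs
    (involves_sl2_of_not_mem' hp hP hHV ha hq c (QuotientGroup.mk' _) ((mker_mk' H _).le.trans inf_le_right))) hA hquad
  obtain ⟨T, hT⟩ := exists_syl p H
  have hn' := Core.le_normalizer_centralizer hHV
  have h0 : V ≠ ⊥ := by rintro rfl; exact hnt fun a _ b hb => by rw [mem_bot.1 hb]; simp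
  have h2 := Core.inf_centralizer_ne_bot_of_isPGroup hP (hT.isPGroup.to_inf_left (K := opMod p H (𝐂 V)))
    (inf_le_left.trans (hT.le.trans hHV)) h0
  have h3 := (hirr (V ⊓ 𝐂 (opMod p H (𝐂 V))) inf_le_left (Core.le_normalizer_inf hHV
    (Core.le_normalizer_centralizer (le_norm_opMod hn')))).resolve_left fun e => h2 (eq_bot_iff.2 (e ▸ fun v hv =>
      ⟨hv.1, le_cent_symm ((opMod_le_sup hn' hT).trans (sup_le (inf_le_right.trans (centralizer_le inf_le_left))
        (le_cent_symm inf_le_right))) hv⟩))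
  exact comm_eq_bot_iff'.2 (h1.trans (le_cent_symm (h3.ge.trans inf_le_right)))

end Cfsg.Agent.S2787
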