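import Cfsg.Statements.S2788
import Cfsg.Agent.Lib.Push.MBF

set_option autoImplicit false
open Cfsg

namespace Cfsg.Agent.S2788

open Cfsg.Lib.Push.MB Cfsg.Lib.Core Cfsg.Lib Cfsg.Lib.Known

/-- Let H act faithfully by conjugation on the elementary abelian p-subgroup V of a finite group with H ≅ SL₂(F), F a field with p^n elements, S a Sylow p-subgroup of H, and A ≤ S a subgroup of order at least 3 acting quadratically on V ([V, A, A] = 1). Then |V/C_V(a)| ≥ p^n for every nonidentity a ∈ A. -/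
theorem result {G : Type*} [Group G] [Finite G] {p : ℕ} [Fact p.Prime] (V H : Subgroup G) (hV : Cfsg.IsElementaryAbelian p V) (hHV : H ≤ Subgroup.normalizer (V : Set G)) (hf : H ⊓ Subgroup.centralizer (V : Set G) = ⊥) {F : Type*} [Field F] [Fintype F] (n : ℕ) (hF : Fintype.card F = p ^ n) (hiso : Nonempty (↥H ≃* Matrix.SpecialLinearGroup (Fin 2) F)) (S : Sylow p ↥H) (T : Subgroup G) (hT : T = ((S : Subgroup ↥H).map H.subtype)) (A : Subgroup G) (hA : A ≤ T) (hA3 : 3 ≤ Nat.card A) (hquad : ⁅⁅V, A⁆, A⁆ = ⊥) : ∀ a ∈ A, a ≠ 1 → p ^ n ≤ ((V ⊓ Subgroup.centralizer ({a} : Set G))).relIndex V := by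
  obtain ⟨e⟩ := hiso
  have hp : p.Prime := Fact.out
  have hF' : Nat.card F = p ^ n := by rw [Nat.card_eq_fintype_card, hF]
  haveI : CharP F p := charP_of_card_eq_prime_pow hF
  intro a ha h1
  by_cases hn : 2 ≤ n
  · refine (pack (a := n) (m := n * 2) hV hHV hf (Z := T) ?_).1 a (hA ha) h1
    rintro _ hs h1
    rw [hT] at hs
    obtain ⟨s, hs, rfl⟩ := hs
    obtain ⟨j, hj⟩ := S.2 ⟨s, hs⟩
    have hj' : s ^ p ^ j = 1 := congrArg Subtype.val hj
    refine ⟨s, 1, by simp, Bd.lift ((pmk F).comp e.toMonoidHom)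
      (pmk_surjective.comp e.surjective) (bd_L2 (j := j) hF' hn (fun h => h1 ?_) (by rw [← map_pow, hj', map_one]))⟩
    have h2 : e s = 1 := (pmk_eq_one_iff'.1 h).elim id fun (h3 : e s = -1) => by
      by_cases h4 : p = 2
      · subst h4; rw [h3, SL2_neg_eq_self (CharP.cast_eq_zero F 2)]
      · have h5 : e s ^ p ^ j = 1 := by rw [← map_pow, hj', map_one]
        rw [h3, ((hp.odd_of_ne_two h4).pow).neg_one_pow] at h5
        rw [h3, h5]
    rw [e.map_eq_one_iff.1 h2, map_one]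
  · obtain ⟨k, hk⟩ := (Amalg.elemAb_isPGroup hV).index ((V ⊓ Subgroup.centralizer {a}).subgroupOf V)
    refine le_trans (Nat.pow_le_pow_right hp.pos (show n ≤ k from ?_)) hk.ge
    rcases k with _ | k
    · rw [pow_zero, Subgroup.index_eq_one, Subgroup.subgroupOf_eq_top] at hk
      have : a ∈ H ⊓ Subgroup.centralizer (V : Set G) := ⟨Subgroup.map_subtype_le _ (hT ▸ hA ha),
        fun v hv => Subgroup.mem_centralizer_singleton_iff.1 (hk hv).2⟩
      exact absurd (Subgroup.mem_bot.1 (hf ▸ this)) h1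
    · omega

end Cfsg.Agent.S2788
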