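import Cfsg.Statements.S2792
import Cfsg.Agent.Lib.Transfer.HallWielandt

set_option autoImplicit false
open Cfsg

namespace Cfsg.Agent.S2792
open Cfsg.Lib.Transfer Subgroup

/-- Let S be a Sylow p-subgroup of the finite group G and W a subgroup of S weakly closed in S with respect to G. If S ∩ G' ≠ S ∩ (N_G(W))', then there are x ∈ S, z ∈ W and a maximal subgroup W₀ of W such that the iterated commutator [x, z; p−1] (with [x, z] = x⁻¹z⁻¹xz and [x, z; i+1] = [[x, z; i], z]) lies in W₀ but not in the Frattini subgroup of W₀; in particular [x, z; p−1] ≠ 1. -/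
theorem result {G : Type*} [Group G] [Finite G] {p : ℕ} [Fact p.Prime] (S : Sylow p G) (W : Subgroup G) (hW : Cfsg.IsWeaklyClosed W (S : Subgroup G)) (h : (S : Subgroup G) ⊓ commutator G ≠ (S : Subgroup G) ⊓ ⁅Subgroup.normalizer (W : Set G), Subgroup.normalizer (W : Set G)⁆) : ∃ x ∈ (S : Subgroup G), ∃ z ∈ W, ∃ W₀ : Subgroup ↥W, IsCoatom W₀ ∧ (fun y : G => y⁻¹ * z⁻¹ * y * z)^[p - 1] x ∈ W₀.map W.subtype ∧ (fun y : G => y⁻¹ * z⁻¹ * y * z)^[p - 1] x ∉ ((frattini ↥W₀).map W₀.subtype).map W.subtype := by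
    have hp : p.Prime := Fact.out
    have hSH : (S : Subgroup G) ≤ normalizer (W : Set G) := le_normalizer.trans (Lib.Invol.weak_normalizer hW)
    obtain ⟨M, hM, z, hz, hzM, hzn, hzp, hWM, x, hx, φ, hφ, h2⟩ := hw_core' S hW fun e =>
      h (inf_commutator_eq_of_inf_le S hSH e)
    have hWp : IsPGroup p W := S.2.to_le hW.1
    have h1 : (engel z)^[p - 1] x ∈ M ⊓ W := ⟨engel_mem hzn hx _, by
      obtain ⟨k, hk⟩ : ∃ k, p - 1 = k + 1 := ⟨p - 2, by have := hp.two_le; omega⟩
      rw [hk, Function.iterate_succ_apply]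
      exact engel_mem (le_normalizer hz) (mul_mem (Lib.Core.conj_inv_mem_of_mem_normalizer (hSH (hM hx))
        (inv_mem hz)) hz) k⟩
    have h3 : M ⊓ W ⊔ zpowers z = W := by
      rw [sup_comm, ← Lib.Core.sup_inf_assoc_of_le_normalizer (zpowers_le.2 hzn) (zpowers_le.2 hz), sup_comm]
      exact inf_eq_right.2 hWM
    have h4 := Lib.PGrp.card_sup_zpowers_of_mem_normalizer (M := M ⊓ W) (p := p)
      (Lib.Core.le_normalizer_inf (zpowers_le.2 hzn) ((zpowers_le.2 hz).trans le_normalizer) (mem_zpowers z))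
      (fun e => hzM e.1) ⟨hzp, pow_mem hz p⟩
    rw [h3, ← Lib.Core.card_inf_mul_relIndex M W, mul_comm] at h4
    have e : (M.subgroupOf W).map W.subtype = M ⊓ W := subgroupOf_map_subtype M W
    refine ⟨x, hM hx, z, hz, M.subgroupOf W, (Lib.PGrp.isCoatom_iff_index_eq hWp).2
      (Nat.eq_of_mul_eq_mul_right Nat.card_pos h4), e ▸ h1, fun h5 => h2 ?_⟩
    rw [Lib.Core.map_frattiniOf_of_injective W.subtype_injective, e] at h5
    let f : ↥(M ⊓ W) →* Multiplicative (ZMod p) := MonoidHom.mk' (fun a => φ a) fun a b => hφ _ a.2.1 _ b.2.1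
    obtain ⟨y, hy, e1⟩ := h5
    have := Lib.PGrp.frattini_le (hWp.to_le inf_le_right) f.ker (Abelianization.commutator_subset_ker f)
      (fun a => by simpa [MonoidHom.mem_ker] using pow_card_eq_one' (x := f a)) hy
    exact e1 ▸ this

end Cfsg.Agent.S2792
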