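import Cfsg.Statements.S2794
import Cfsg.Agent.Lib.Glaub.KCon

set_option autoImplicit false
open Cfsg

namespace Cfsg.Agent.S2794

open Cfsg.FusionSystem Cfsg.Lib.Fus2 Cfsg.Lib.Amalg Subgroup Cfsg.Lib Cfsg.Lib.Glaub Cfsg.Lib.Transfer

/-- For an odd prime p and a finite group G, the group Qd(p) is not involved in G if and only if in every section K/R of G, for every Sylow p-subgroup S* of K/R, the centre of J(S*) (J generated by the abelian subgroups of largest order) controls strong fusion in K/R. -/
theorem result {G : Type*} [Group G] [Finite G] {p : ℕ} [Fact p.Prime] (hp : p ≠ 2) : ¬ Cfsg.Involves ↥(Cfsg.qd p) G ↔ ∀ (K R : Subgroup G) [hR : (R.subgroupOf K).Normal], ∀ T : Sylow p (K ⧸ R.subgroupOf K), Cfsg.ControlsStrongFusion p (Cfsg.centerThompsonAOf (T : Subgroup (K ⧸ R.subgroupOf K))) := by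
  refine ⟨fun h K R _ T => (controlsStrongFusion_iff (syl_top T) (centerThompsonAOf_eq (P := T.1) ▸ zj_le)).2
    (centerThompsonAOf_eq (P := T.1) ▸ zj_sf hp (.inl rfl) (syl_top T) scl_self (normPStable_of_qd hp fun c => h
      (involves_trans c (involves_section K R)))), fun h => not_involves_qd_of_sections fun K R _ c => ?_⟩
  obtain ⟨T⟩ : Nonempty (Sylow p (K ⧸ R.subgroupOf K)) := inferInstance
  have := h K R T
  rw [centerThompsonAOf_eq, ← amb_zjF] at this
  exact c.not_sf_fct (syl_top T) (fct_zjF (.inl rfl)) ((controlsStrongFusion_iff (syl_top T) (amb_le _ _)).1 this)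

end Cfsg.Agent.S2794
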