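import Cfsg.Statements.S2800
import Cfsg.Agent.Lib.Glaub.FF

set_option autoImplicit false
open Cfsg

namespace Cfsg.Agent.S2800

open Cfsg.FusionSystem Cfsg.Lib.Fus2 Cfsg.Lib.Amalg Subgroup Cfsg.Lib Cfsg.Lib.Glaub Cfsg.Lib.Transfer

/-- Let S be a Sylow p-subgroup of the finite group G and J(S) the subgroup generated by the abelian subgroups of S of largest order. Suppose p is odd, or the symmetric group of degree 4 is not involved in G. If both C_G(Z(S)) and N_G(J(S)) have normal p-complements, then G has a normal p-complement. -/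
theorem result {G : Type*} [Group G] [Finite G] {p : ℕ} [Fact p.Prime] (S : Sylow p G) (h : p ≠ 2 ∨ ¬ Cfsg.Involves (Equiv.Perm (Fin 4)) G) (hC : Cfsg.HasNormalPComplement p ↥(Subgroup.centralizer (((S : Subgroup G) ⊓ Subgroup.centralizer ((S : Subgroup G) : Set G) : Subgroup G) : Set G))) (hN : Cfsg.HasNormalPComplement p ↥(Subgroup.normalizer ((Cfsg.thompsonSubgroupAOf (S : Subgroup G)) : Set G))) : Cfsg.HasNormalPComplement p G := by
  refine hasNormalPComplement_iff_top.2 (npc_of_min (nt_id fct_jF) (fun H _ _ T a => loc_jF G H T h a) G S (syl_top S)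
    (involves_refl G) ?_)
  rw [subs_two, ← jA_eq]
  rintro _ (rfl | rfl)
  exacts [hasNormalPComplement_iff.1 hN, hasNormalPComplement_iff.1 hC]

end Cfsg.Agent.S2800
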