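import Cfsg.Statements.S2803
import Cfsg.Agent.Lib.Amalg.PRed

set_option autoImplicit false
open Cfsg

namespace Cfsg.Agent.S2803

open Subgroup Cfsg.Lib.Amalg
open Cfsg.Lib.Core hiding isPGroup_subgroupOf isPGroup_subgroupOf_iff isPGroup_map_subtype_iff isPGroup_zpowers_of_orderOf
open scoped commutatorElement

/-- Let L be a finite group and p a prime with C_L(O_p(L)) ≤ O_p(L), T a Sylow p-subgroup, and Y the largest p-reduced normal subgroup of L. Put T_L = C_T(Y) and L_T = N_L(T_L). Then L = L_T · C_L(Y) (elementwise), T_L = O_p(L_T), and Y = Ω₁(Z(T_L)). -/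
theorem result {L : Type*} [Group L] [Finite L] {p : ℕ} [Fact p.Prime] (hchar : Subgroup.centralizer (Cfsg.pCore p L : Set L) ≤ Cfsg.pCore p L) (T : Sylow p L) (Y : Subgroup L) (hY : (Cfsg.IsPReducedNormal p Y ∧ ∀ V : Subgroup L, Cfsg.IsPReducedNormal p V → V ≤ Y)) (TL : Subgroup L) (hTL : TL = (T : Subgroup L) ⊓ Subgroup.centralizer (Y : Set L)) : (∀ g : L, ∃ a ∈ Subgroup.normalizer (TL : Set L), ∃ c ∈ Subgroup.centralizer (Y : Set L), g = a * c) ∧ (Cfsg.pCore p ↥(Subgroup.normalizer (TL : Set L))).map (Subgroup.normalizer (TL : Set L)).subtype = TL ∧ Y = Cfsg.omegaOne p (TL ⊓ Subgroup.centralizer (TL : Set L)) := by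
  have e : Y = largestPReducedOf p ⊤ := eq_Y (pRed_top_iff.2 hY.1) fun W h => hY.2 W (pRed_top_iff.1 h)
  have h := pRed_top_iff.2 hY.1
  subst hTL
  refine ⟨fun g => ?_, ?_, ?_⟩
  · have h1 := (syl_top T).frattini_cent h.norm
    rw [top_inf_eq, top_inf_eq, sup_comm] at h1
    exact (mem_sup_of_le_normalizer (le_top.trans (le_normalizer_centralizer h.norm))).1
      (h1.ge (mem_top g)) |>.imp fun a ⟨h1, b, h2, h3⟩ => ⟨h1, b, h2, h3.symm⟩
  · have := h.op_frattini (syl_top T)
    rwa [top_inf_eq] at this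
  · have := (charP_top.2 hchar).Y_eq (syl_top T)
    rwa [← e] at this

end Cfsg.Agent.S2803
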