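import Cfsg.Statements.S2807
import Cfsg.Agent.Lib.Fus2.Yos

set_option autoImplicit false
open Cfsg

namespace Cfsg.Agent.S2807

open Cfsg.Lib.Fus2 Cfsg.Lib.Amalg Subgroup Cfsg.FusionSystem Cfsg.Lib

/-- Let S be a Sylow p-subgroup of the finite group G. If S ∩ G' ≠ S ∩ (N_G(S))' (derived subgroups), then the wreath product Z_p ≀ Z_p — realised as a Sylow p-subgroup of the symmetric group of degree p² — is a homomorphic image of S. -/
theorem result {G : Type*} [Group G] [Finite G] {p : ℕ} [Fact p.Prime] (S : Sylow p G) (h : (S : Subgroup G) ⊓ commutator G ≠ (S : Subgroup G) ⊓ ⁅Subgroup.normalizer ((S : Subgroup G) : Set G), Subgroup.normalizer ((S : Subgroup G) : Set G)⁆) : ∃ (P : Sylow p (Equiv.Perm (Fin (p ^ 2)))) (f : ↥(S : Subgroup G) →* ↥(P : Subgroup (Equiv.Perm (Fin (p ^ 2))))), Function.Surjective f := by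
  have h1 : Syl p (S : Subgroup G) (normalizer ((S : Subgroup G) : Set G)) := (syl_top S).of_le le_normalizer le_top
  refine yoshida (F := groupFusionSystem (S : Subgroup G)) (H := fusionSystemOfSubgroup _ _ h1.le)
    ⟨S.2, isSaturated_group S⟩ ⟨S.2, isSaturated_subgroup h1⟩ ?_ (fun f hf => ?_) ?_
  · rw [group_eq_subgroup_top]; exact isSubsystemOf_subgroup le_rfl le_top
  · obtain ⟨a1, a2, a, a3⟩ := mor_group_iff.1 hf
    exact mor_subgroup_iff.2 ⟨a1, a2, a, Core.mem_normalizer_of_conj_mem fun x hx => a3 x hx ▸ a2 x hx, a3⟩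
  · rw [focal_subgroup h1, focal_group (syl_top S)]
    exact h.symm

end Cfsg.Agent.S2807
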