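import Cfsg.Statements.S2809
import Cfsg.Agent.Lib.Amalg.CharP
import Cfsg.Agent.Lib.Eqns.PLocal

set_option autoImplicit false
open Cfsg

namespace Cfsg.Agent.S2809

open Subgroup Cfsg.Lib.Amalg
open Cfsg.Lib.Core hiding isPGroup_subgroupOf isPGroup_subgroupOf_iff isPGroup_map_subtype_iff isPGroup_zpowers_of_orderOf
open scoped commutatorElement

/-- Let H be a finite group, p a prime, R a p-subgroup of H with C_H(R) ≤ R, and L a subgroup of N_H(R) acting nilpotently on R (some iterated commutator [R, L, …, L] is trivial). Then L is a p-group. -/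
theorem result {H : Type*} [Group H] [Finite H] {p : ℕ} [Fact p.Prime] (R : Subgroup H) (hR : IsPGroup p ↥R) (hC : Subgroup.centralizer (R : Set H) ≤ R) (L : Subgroup H) (hL : L ≤ Subgroup.normalizer (R : Set H)) (hnil : ∃ n : ℕ, Cfsg.iterCommutator R L n = ⊥) : IsPGroup p ↥L := by
  obtain ⟨n, hn⟩ := hnil
  refine isPGroup_of_forall_pPrime fun A h1 h2 => eq_bot_of_pPrime_le h2 hR (le_trans ?_ hC)
  have key : ∀ m, ⁅R, A⁆ ≤ iterCommutator R L (m + 1) := by
    intro m
    induction m with
    | zero => exact commutator_mono le_rfl h1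
    | succ m ih =>
      rw [← comm_comm_eq_of_pPrime h2 hR (h1.trans hL)]
      exact commutator_mono ih h1
  rw [← comm_eq_bot_iff', eq_bot_iff]
  refine (key n).trans ?_
  show ⁅iterCommutator R L n, L⁆ ≤ ⊥
  rw [hn, commutator_bot_left]

end Cfsg.Agent.S2809
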