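import Cfsg.Statements.S2810
import Cfsg.Agent.Lib.Amalg.CharP

set_option autoImplicit false
open Cfsg

namespace Cfsg.Agent.S2810

open Subgroup Cfsg.Lib.Amalg
open Cfsg.Lib.Core hiding isPGroup_subgroupOf isPGroup_subgroupOf_iff isPGroup_map_subtype_iff isPGroup_zpowers_of_orderOf
open scoped commutatorElement

theorem aux {H : Type*} [Group H] [Finite H] {p : ℕ} [Fact p.Prime] (L : Subgroup H) (n : ℕ)
    (A : Fin (n + 1) → Subgroup H) (hp : ∀ i, IsPGroup p (A i)) (h0 : A 0 = ⊥)
    (hnorm : ∀ i, (A i).Normal) (hcent : ∀ i : Fin n, ⁅A i.succ, L⁆ ≤ A i.castSucc)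
    (B : Subgroup H) (hB : B ≤ L) (hc : (Nat.card B).Coprime p) (i : Fin (n + 1)) : B ≤ 𝐂 (A i) := by
  induction i using Fin.induction with
  | zero => rw [h0, centralizer_bot]; exact le_top
  | succ i ih =>
    haveI := hnorm i.succ
    exact le_cent_of_comm_le_cent hc (hp _) le_normalizer_of_normal
      (((commutator_mono le_rfl hB).trans (hcent i)).trans (le_cent_symm ih))

/-- Let H be a finite group of characteristic p and L a subgroup of H centralizing every factor of some H-invariant chain 1 = A₀ ≤ A₁ ≤ … ≤ Aₙ = O_p(H) of normal subgroups (that is, [A_{i+1}, L] ≤ Aᵢ for each i). Then L ≤ O_p(H). -/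
theorem result {H : Type*} [Group H] [Finite H] {p : ℕ} [Fact p.Prime] (hchar : Subgroup.centralizer (Cfsg.pCore p H : Set H) ≤ Cfsg.pCore p H) (L : Subgroup H) (n : ℕ) (A : Fin (n + 1) → Subgroup H) (h0 : A 0 = ⊥) (hn : A (Fin.last n) = Cfsg.pCore p H) (hmono : Monotone A) (hnorm : ∀ i, (A i).Normal) (hcent : ∀ i : Fin n, ⁅A i.succ, L⁆ ≤ A i.castSucc) : L ≤ Cfsg.pCore p H := by
  have hp : ∀ i, IsPGroup p (A i) := fun i =>
    (isPGroup_pCore p H).to_le (hn ▸ hmono (Fin.le_last i))
  set N : Subgroup H := ⨆ g : H, cj g L with hN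
  haveI hNn : N.Normal := by rw [hN, ← normalClosure_eq_iSup_cj]; infer_instance
  have hc : ∀ i : Fin n, ⁅A i.succ, N⁆ ≤ A i.castSucc := by
    intro i
    haveI := hnorm i.succ
    haveI := hnorm i.castSucc
    rw [commutator_comm]
    refine comm_iSup_le (fun g => ?_) fun g => le_normalizer_of_normal
    rw [← cj_normal g (A i.succ), ← cj_normal g (A i.castSucc), ← cj_commutator, commutator_comm]
    exact cj_mono g (hcent i)
  have hNp : IsPGroup p N := isPGroup_of_forall_pPrime fun B h1 h2 =>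
    eq_bot_of_pPrime_le h2 (isPGroup_pCore p H)
      ((hn ▸ aux N n A hp h0 hnorm hc B h1 h2 (Fin.last n) :).trans hchar)
  refine le_trans ?_ (le_pCore hNp)
  exact (cj_one L).ge.trans (le_iSup (fun g : H => cj g L) 1)

end Cfsg.Agent.S2810
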