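import Cfsg.Statements.S2815
import Cfsg.Agent.Lib.Amalg.FStarAct
import Cfsg.Agent.Lib.Layer.CompAction

set_option autoImplicit false
open Cfsg

namespace Cfsg.Agent.S2815

open Subgroup Cfsg.Lib.Amalg
open Cfsg.Lib.Core hiding isPGroup_subgroupOf isPGroup_subgroupOf_iff isPGroup_map_subtype_iff isPGroup_zpowers_of_orderOf
open scoped commutatorElement

/-- Let H be a finite group and p a prime dividing its order with O_p(H) = 1, and suppose K = O^p(H) (generated by the elements of order prime to p) is quasisimple. Then K = F*(H); for every nontrivial p-subgroup Y of H, K = [K, Y] and K lies in the subgroup generated by the K-conjugates of Y; every normal subgroup of H not containing K has order prime to p; and H is p-irreducible. -/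
theorem result {H : Type*} [Group H] [Finite H] {p : ℕ} [Fact p.Prime] (hp : p ∣ Nat.card H) (hO : Cfsg.pCore p H = ⊥) (hq : Cfsg.IsQuasisimple ↥(Cfsg.pResidual p H)) : Cfsg.pResidual p H = Cfsg.generalizedFittingSubgroup H ∧ (∀ Y : Subgroup H, IsPGroup p ↥Y → Y ≠ ⊥ → ⁅Cfsg.pResidual p H, Y⁆ = Cfsg.pResidual p H ∧ Cfsg.pResidual p H ≤ ⨆ k : ↥(Cfsg.pResidual p H), Y.map (MulAut.conj (k : H)).toMonoidHom) ∧ (∀ C : Subgroup H, C.Normal → ¬ Cfsg.pResidual p H ≤ C → (Nat.card ↥C).Coprime p) ∧ Cfsg.IsPIrreducible p H := by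
  haveI := pResidual_normal' p H
  have h1 : pResidual p H = generalizedFittingSubgroup H := by
    refine le_antisymm ((Lib.Layer.IsComponent.le_layer ⟨subnormalIn_top_iff.1
      (.of_normal le_top), hq⟩).trans Lib.Layer.layer_le_fstar) ?_
    rw [← res_top]
    exact sup_le (le_res_of_perfect Lib.Layer.layer_commutator_self le_top)
      (le_res_of_coprime le_top (coprime_of_le (coprime_card_pPrimeCore p H)
      (fitting_le_pPrimeCore_of_pCore_eq_bot Fact.out hO)))
  have h2 : ∀ Y : Subgroup H, IsPGroup p Y → Y ≠ ⊥ → ⁅pResidual p H, Y⁆ = pResidual p H :=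
    fun Y hY hne => (Lib.Layer.IsQuasisimple.commutator_eq_or_eq_bot hq le_normalizer_of_normal).resolve_right
      fun h => hne (eq_bot_of_le_cent_fstar hO hY (h1 ▸ comm_eq_bot_iff'.1 h))
  have h3 : ∀ C : Subgroup H, C.Normal → ¬ pResidual p H ≤ C → (Nat.card C).Coprime p := by
    intro C _ hC
    rw [Nat.coprime_comm, (Fact.out : p.Prime).coprime_iff_not_dvd]
    intro hd
    obtain ⟨Y, a1, a2, a3⟩ := exists_isPGroup_ne_bot_of_dvd hd
    exact hC ((h2 Y a2 a3).ge.trans ((commutator_mono le_rfl a1).trans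
      (comm_le_right le_normalizer_of_normal)))
  refine ⟨h1, fun Y hY hne => ⟨h2 Y hY hne, (h2 Y hY hne).ge.trans ?_⟩, h3, fun h => ?_,
    fun N hN h => ?_⟩
  · exact (commutator_mono le_rfl (le_iSup_cj Y _)).trans (comm_le_right (le_normalizer_iSup_cj _ _))
  · obtain ⟨P⟩ : Nonempty (Sylow p H) := inferInstance
    haveI := h P
    exact (syl_top P).ne_bot (by rwa [card_top]) (eq_bot_of_pCore_eq_bot hO P.2)
  · by_contra hC
    refine h fun P => ?_
    rw [eq_bot_of_isPGroup_of_coprime Fact.out P.2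
      ((h3 N hN hC).coprime_dvd_left (card_subgroup_dvd_card _))]
    infer_instance

end Cfsg.Agent.S2815
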