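import Cfsg.Statements.S2816
import Cfsg.Agent.Lib.Amalg.FStarAct

set_option autoImplicit false
open Cfsg

namespace Cfsg.Agent.S2816

open Subgroup Cfsg.Lib.Amalg
open Cfsg.Lib.Core hiding isPGroup_subgroupOf isPGroup_subgroupOf_iff isPGroup_map_subtype_iff isPGroup_zpowers_of_orderOf
open scoped commutatorElement

/-- Let H be a finite group and p a prime with O_p(H) = 1, and Y a p-subgroup of H. Then for every subnormal subgroup K of H containing Y, [F*(H), Y] = [F*(K), Y] = [F*(K), Y, Y]; and if Y₀ ≤ Y with [F*(H), Y, Y₀] = 1 then Y₀ = 1 (in particular [F*(H), Y] = 1 forces Y = 1). -/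
theorem result {H : Type*} [Group H] [Finite H] {p : ℕ} [Fact p.Prime] (hO : Cfsg.pCore p H = ⊥) (Y : Subgroup H) (hY : IsPGroup p ↥Y) : (∀ K : Subgroup H, K.IsSubnormal → Y ≤ K → ⁅Cfsg.generalizedFittingSubgroup H, Y⁆ = ⁅(Cfsg.generalizedFittingSubgroup ↥K).map K.subtype, Y⁆ ∧ ⁅(Cfsg.generalizedFittingSubgroup ↥K).map K.subtype, Y⁆ = ⁅⁅(Cfsg.generalizedFittingSubgroup ↥K).map K.subtype, Y⁆, Y⁆) ∧ (∀ Y₀ : Subgroup H, Y₀ ≤ Y → ⁅⁅Cfsg.generalizedFittingSubgroup H, Y⁆, Y₀⁆ = ⊥ → Y₀ = ⊥) := by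
  haveI := Lib.Layer.fstar_normal (G := H)
  have h := fSt_fstar hO
  have h1 := h.comm_comm hY le_normalizer_of_normal
  refine ⟨fun K hK hYK => ?_, fun Y₀ h0 h2 => eq_bot_of_le_cent_fstar hO (hY.to_le h0) ?_⟩
  · have h2 : ⁅generalizedFittingSubgroup H, Y⁆ ≤ fs K := by
      rw [fs, ← Lib.Layer.fstar_inf_eq_of_isSubnormal hK]
      exact le_inf (comm_le_left le_normalizer_of_normal)
        (le_of_le_comm_of_subnormalIn (subnormalIn_top_iff.2 hK) le_top hYK h1.ge)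
    have h3 : ⁅generalizedFittingSubgroup H, Y⁆ = ⁅fs K, Y⁆ := le_antisymm
      (h1.ge.trans (commutator_mono h2 le_rfl))
      (commutator_mono (Lib.Layer.fstarOf_le_of_isSubnormal hK) le_rfl)
    exact ⟨h3, by rw [← h3, h1]⟩
  · refine le_cent_symm ((h.comm_sup_cent hY le_normalizer_of_normal).ge.trans (sup_le
      (comm_eq_bot_iff.1 h2) (inf_le_right.trans (centralizer_anti h0))))

end Cfsg.Agent.S2816
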