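import Cfsg.Statements.S2817
import Cfsg.Agent.Lib.Amalg.FStarAct

set_option autoImplicit false
open Cfsg

namespace Cfsg.Agent.S2817

open Subgroup Cfsg.Lib.Amalg
open Cfsg.Lib.Core hiding isPGroup_subgroupOf isPGroup_subgroupOf_iff isPGroup_map_subtype_iff isPGroup_zpowers_of_orderOf
open scoped commutatorElement

/-- Let H be a finite group and p a prime with O_p(H) = 1, Q a p-subgroup of H, L = [F*(H), Q], and F the largest normal subgroup of F*(H) centralized by Q (a normal subgroup of F*(H) centralized by Q and containing every such). Then F = C_{F*(H)}(LQ); L = [L, Q]; L ∩ F ≤ Φ(L); every p-subgroup B of N_H(Q) with [L, B] ≤ F satisfies [L, B] = 1; and C_H(FL) has order prime to p. -/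
theorem result {H : Type*} [Group H] [Finite H] {p : ℕ} [Fact p.Prime] (hO : Cfsg.pCore p H = ⊥) (Q : Subgroup H) (hQ : IsPGroup p ↥Q) (L : Subgroup H) (hL : L = ⁅Cfsg.generalizedFittingSubgroup H, Q⁆) (F : Subgroup H) (hF : F ≤ Cfsg.generalizedFittingSubgroup H ∧ Cfsg.generalizedFittingSubgroup H ≤ Subgroup.normalizer (F : Set H) ∧ Q ≤ Subgroup.centralizer (F : Set H) ∧ ∀ N : Subgroup H, N ≤ Cfsg.generalizedFittingSubgroup H → Cfsg.generalizedFittingSubgroup H ≤ Subgroup.normalizer (N : Set H) → Q ≤ Subgroup.centralizer (N : Set H) → N ≤ F) : F = Cfsg.generalizedFittingSubgroup H ⊓ Subgroup.centralizer ((L ⊔ Q : Subgroup H) : Set H) ∧ ⁅L, Q⁆ = L ∧ L ⊓ F ≤ (frattini ↥L).map L.subtype ∧ (∀ B : Subgroup H, IsPGroup p ↥B → B ≤ Subgroup.normalizer (Q : Set H) → ⁅L, B⁆ ≤ F → ⁅L, B⁆ = ⊥) ∧ (Nat.card ↥(Subgroup.centralizer ((F ⊔ L : Subgroup H) : Set H))).Coprime p := by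
  haveI := Lib.Layer.fstar_normal (G := H)
  have h := fSt_fstar hO
  set S := generalizedFittingSubgroup H with hS
  obtain ⟨f1, f2, f3, f4⟩ := hF
  have hQS : ∀ A : Subgroup H, A ≤ normalizer (S : Set H) := fun A => le_normalizer_of_normal
  have l1 : L ≤ S := hL ▸ comm_le_left (hQS Q)
  have l2 : S ≤ normalizer (L : Set H) := hL ▸ left_le_normalizer_comm _ _
  have l3 : Q ≤ normalizer (L : Set H) := hL ▸ right_le_normalizer_comm _ _
  have hLs := h.of_normal l1 l2
  have a0 : L ≤ centralizer (F : Set H) := hL ▸ comm_le_cent_of_normal f2 f3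
  have a1 : F = S ⊓ centralizer ((L ⊔ Q : Subgroup H) : Set H) := by
    refine le_antisymm (le_inf f1 (le_cent_symm (sup_le a0 f3))) (f4 _ inf_le_left
      (le_normalizer_inf le_normalizer (le_normalizer_centralizer (le_normalizer_of_comm_le ?_)))
      (le_cent_symm (inf_le_right.trans (centralizer_anti le_sup_right))))
    exact comm_sup_le ((comm_le_left l2).trans le_sup_left)
      ((commutator_comm _ _).le.trans (hL ▸ le_sup_left)) (le_normalizer_of_le le_sup_left)
      (le_normalizer_of_le le_sup_right)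
  have a2 : ⁅L, Q⁆ = L := hL ▸ h.comm_comm hQ (hQS Q)
  have a3 : L ⊓ F ≤ phi L := le_trans (le_inf (inf_le_inf_left _ (le_cent_symm a0))
    (inf_le_right.trans (le_cent_symm f3))) (hLs.inf_cent_comm_le_phi hQ l3 a2)
  refine ⟨a1, a2, a3, fun B hB b1 b2 => ?_, ?_⟩
  · have b3 : B ≤ normalizer (L : Set H) := hL ▸ le_normalizer_commutator (hQS B) b1
    rw [comm_eq_bot_iff, ← eq_of_sup_frattiniOf_eq (inf_le_left : L ⊓ centralizer (B : Set H) ≤ L)
      ((hLs.comm_sup_cent hB b3).ge.trans (sup_le (((le_inf (comm_le_left b3) b2).trans a3).trans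
      le_sup_right) le_sup_left))]
    exact inf_le_right
  · set C := centralizer ((F ⊔ L : Subgroup H) : Set H) with hC
    have c1 : Q ≤ normalizer (C : Set H) := le_normalizer_centralizer (le_normalizer_sup
      (f3.trans (cent_le_norm _)) l3)
    obtain ⟨T, t1, t2⟩ := exists_syl_ge (H := C ⊔ Q) hQ le_sup_right
    have t3 := t1.inf_normal le_sup_left (sup_le le_normalizer c1)
    rw [Nat.coprime_comm, (Fact.out : p.Prime).coprime_iff_not_dvd, ← t3.eq_bot_iff]
    set Y := T ⊓ C with hY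
    have y1 : Q ≤ normalizer (Y : Set H) := le_normalizer_inf (le_normalizer_of_le t2) c1
    have y2 : Y ≤ centralizer (F : Set H) := inf_le_right.trans (centralizer_anti le_sup_left)
    have y3 : Y ≤ centralizer (L : Set H) := inf_le_right.trans (centralizer_anti le_sup_right)
    have m1 := h.comm (hQS Y)
    have m2 : Q ≤ normalizer ((⁅S, Y⁆ : Subgroup H) : Set H) := le_normalizer_commutator (hQS Q) y1
    refine eq_bot_of_le_cent_fstar hO t3.isPGroup (comm_eq_bot_iff'.1 ?_)
    rw [← h.comm_comm t3.isPGroup (hQS Y), comm_eq_bot_iff, ← m1.comm_sup_cent hQ m2]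
    refine sup_le (le_trans ?_ (le_cent_symm y3)) (le_trans ?_ (le_cent_symm y2))
    · exact hL ▸ commutator_mono (comm_le_left (hQS Y)) le_rfl
    · rw [a1, centralizer_sup]
      exact le_inf (inf_le_left.trans (comm_le_left (hQS Y)))
        (inf_le_inf_right _ (comm_le_cent_of_normal l2 y3))

end Cfsg.Agent.S2817
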