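import Cfsg.Statements.S2818
import Cfsg.Agent.Lib.Amalg.FStarAct

set_option autoImplicit false
open Cfsg

namespace Cfsg.Agent.S2818

open Subgroup Cfsg.Lib.Amalg
open Cfsg.Lib.Core hiding isPGroup_subgroupOf isPGroup_subgroupOf_iff isPGroup_map_subtype_iff isPGroup_zpowers_of_orderOf
open scoped commutatorElement

/-- Let P be a finite p-subgroup of a group G and H a subgroup of N_G(P) with [P, H] ≤ Ω₁(Z(P)) (the elements of order dividing p in the centre of P). Then H centralizes the Frattini subgroup of P. -/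
theorem result {G : Type*} [Group G] [Finite G] {p : ℕ} [Fact p.Prime] (P : Subgroup G) (hP : IsPGroup p ↥P) (H : Subgroup G) (hH : H ≤ Subgroup.normalizer (P : Set G)) (h : ⁅P, H⁆ ≤ Cfsg.omegaOne p (P ⊓ Subgroup.centralizer (P : Set G))) : ⁅(frattini ↥P).map P.subtype, H⁆ = ⊥ := by
  rw [comm_eq_bot_iff]
  have h' : ⁅P, H⁆ ≤ omegaOneCenter p P := h
  have h1 : ⁅⁅P, H⁆, P⁆ = ⊥ := comm_eq_bot_iff.2 (h'.trans (omZ_le_cent P))
  refine (frattiniOf_le_iff hP).2 ⟨comm_eq_bot_iff.1 (three_bot h1 (by rwa [commutator_comm H])),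
    fun x hx y hy => ?_⟩
  have h2 : ⁅y, x⁆ ∈ omegaOneCenter p P := h' (commutator_comm P H ▸ commutator_mem_commutator hy hx)
  obtain ⟨-, a2, a3⟩ := mem_omZ_iff.1 h2
  have h3 := (show Commute ⁅y, x⁆ x from (a2 x hx).symm).mul_pow p
  rw [a3, one_mul, commutatorElement_def, inv_mul_cancel_right, conj_pow, mul_inv_eq_iff_eq_mul] at h3
  exact h3

end Cfsg.Agent.S2818
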