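import Cfsg.Statements.S2819
import Cfsg.Agent.Lib.Amalg.FStarAct

set_option autoImplicit false
open Cfsg

namespace Cfsg.Agent.S2819

open Subgroup Cfsg.Lib.Amalg
open Cfsg.Lib.Core hiding isPGroup_subgroupOf isPGroup_subgroupOf_iff isPGroup_map_subtype_iff isPGroup_zpowers_of_orderOf
open scoped commutatorElement

/-- Let P be a finite p-subgroup of a group G, H a subgroup of N_G(P), and Y a subgroup of H centralizing the derived subgroup P' such that [P, Y] is elementary abelian. Then O^p(⟨Y^H⟩), the subgroup of the normal closure of Y in H generated by its elements of order prime to p, centralizes the Frattini subgroup of P. -/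
theorem result {G : Type*} [Group G] [Finite G] {p : ℕ} [Fact p.Prime] (P : Subgroup G) (hP : IsPGroup p ↥P) (H : Subgroup G) (hH : H ≤ Subgroup.normalizer (P : Set G)) (Y : Subgroup G) (hYH : Y ≤ H) (hYc : Y ≤ Subgroup.centralizer ((⁅P, P⁆ : Subgroup G) : Set G)) (hel : Cfsg.IsElementaryAbelian p ⁅P, Y⁆) (NY : Subgroup G) (hNY : NY = (Subgroup.normalClosure ((Y.subgroupOf H : Subgroup ↥H) : Set ↥H)).map H.subtype) : (Cfsg.pResidual p ↥NY).map NY.subtype ≤ Subgroup.centralizer (((frattini ↥P).map P.subtype : Subgroup G) : Set G) := by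
  rw [map_normalClosure_subgroupOf hYH] at hNY
  have hn : H ≤ normalizer ((⁅P, P⁆ : Subgroup G) : Set G) := le_normalizer_commutator hH hH
  have hn' : H ≤ normalizer (phi P : Set G) := hH.trans (normalizer_le_normalizer_frattiniOf P)
  have h1 : NY ≤ H := hNY ▸ iSup_cj_le hYH le_normalizer
  have h2 : NY ≤ centralizer ((⁅P, P⁆ : Subgroup G) : Set G) :=
    hNY ▸ iSup_cj_le hYc (le_normalizer_centralizer hn)
  have h3 : ⁅phi P, NY⁆ ≤ ⁅P, P⁆ := by
    rw [commutator_comm, hNY]
    refine comm_iSup_le (fun g => ?_) fun g => (cj_le_of_le_of_mem hYH g.2).trans hn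
    rw [← cj_of_mem_normalizer (hn' g.2), ← cj_commutator, commutator_comm]
    exact cj_le_of_le_of_mem_normalizer (comm_phi_le hP (hYH.trans hH)
      (commutator_comm P Y ▸ hel.2)) (hn g.2)
  exact res_le_cent_of_comm_le_cent (hP.to_le (frattiniOf_le P)) (h1.trans hn')
    ((commutator_mono le_rfl (res_le _)).trans (h3.trans (le_cent_symm ((res_le _).trans h2))))

end Cfsg.Agent.S2819
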