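import Cfsg.Statements.S2820
import Cfsg.Agent.Lib.Amalg.PRed

set_option autoImplicit false
open Cfsg

namespace Cfsg.Agent.S2820

open Subgroup Cfsg.Lib.Amalg
open Cfsg.Lib.Core hiding isPGroup_subgroupOf isPGroup_subgroupOf_iff isPGroup_map_subtype_iff isPGroup_zpowers_of_orderOf
open scoped commutatorElement

/-- Let A and B be subnormal subgroups of the finite group H with A a p-group and B = O^p(B) (B generated by its elements of order prime to p). Then A normalizes B and B = O^p(AB), the subgroup of ⟨A, B⟩ generated by its elements of order prime to p. -/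
theorem result {H : Type*} [Group H] [Finite H] {p : ℕ} [Fact p.Prime] (A B : Subgroup H) (hA : A.IsSubnormal) (hB : B.IsSubnormal) (hAp : IsPGroup p ↥A) (hBres : (Cfsg.pResidual p ↥B).map B.subtype = B) : A ≤ Subgroup.normalizer (B : Set H) ∧ (Cfsg.pResidual p ↥(A ⊔ B)).map (A ⊔ B).subtype = B := by
  have hB' : pResidualOf p B = B := hBres
  have h1 : A ≤ normalizer (B : Set H) := by
    have := op_le_norm_res (p := p) (subnormalIn_top_iff.2 hB)
    rw [hB', op_top'] at this
    exact (le_pCore_of_isSubnormal hA hAp).trans this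
  refine ⟨h1, ?_⟩
  show pResidualOf p (A ⊔ B) = B
  rw [sup_comm, res_sup_eq_of_isPGroup hAp h1, hB']

end Cfsg.Agent.S2820
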