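import Cfsg.Statements.S2823
import Cfsg.Agent.Lib.Amalg.PRed

set_option autoImplicit false
open Cfsg

namespace Cfsg.Agent.S2823

open Subgroup Cfsg.Lib.Amalg
open Cfsg.Lib.Core hiding isPGroup_subgroupOf isPGroup_subgroupOf_iff isPGroup_map_subtype_iff isPGroup_zpowers_of_orderOf
open scoped commutatorElement

/-- Let H be a finite group, p a prime, T a Sylow p-subgroup and L a subgroup of characteristic p containing T; let Z_L be the subgroup generated by the Ω₁(Z(S)) over the Sylow p-subgroups S of L and O^p(L) the subgroup generated by the elements of L of order prime to p. Then Z_L = Ω₁(Z(L))·[Z_L, O^p(L)] and [Z_L, L] = [Z_L, O^p(L)]. -/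
theorem result {H : Type*} [Group H] [Finite H] {p : ℕ} [Fact p.Prime] (T : Sylow p H) (L : Subgroup H) (hTL : (T : Subgroup H) ≤ L) (hL : Subgroup.centralizer (Cfsg.pCore p ↥L : Set ↥L) ≤ Cfsg.pCore p ↥L) : Cfsg.sylowCenterClosure p L = (Cfsg.omegaOne p (L ⊓ Subgroup.centralizer ((L : Subgroup H) : Set H))) ⊔ ⁅Cfsg.sylowCenterClosure p L, (Cfsg.pResidual p ↥L).map L.subtype⁆ ∧ ⁅Cfsg.sylowCenterClosure p L, L⁆ = ⁅Cfsg.sylowCenterClosure p L, (Cfsg.pResidual p ↥L).map L.subtype⁆ := by
  have hc := chp_iff.2 hL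
  have hT := (syl_top T).of_le hTL le_top
  have hV := hc.isElemAb_scc
  have h1 : sylowCenterClosure p L = omegaOneCenter p L ⊔ ⁅sylowCenterClosure p L, pResidualOf p L⁆ := by
    refine le_antisymm (scc_le_iff.2 fun S hS => (le_inf hS.omZ_le_scc (omZ_le_cent S)).trans
      ((hS.inf_cent_le hV.1 (elemAb_isPGroup hV) (le_norm_scc L)).trans (sup_le_sup ?_ inf_le_left)))
      (sup_le ?_ (comm_le_left ((res_le L).trans (le_norm_scc L))))
    · exact le_omZ (inf_le_left.trans (scc_le L)) inf_le_right fun a ha => hV.2 a ha.1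
    · exact (omZ_le_omZ hT.le (hT.le_of_normal (isPGroup_omZ L) (omZ_le L)
        (le_norm_omZ le_normalizer))).trans hT.omZ_le_scc
  refine ⟨h1, le_antisymm ?_ (commutator_mono le_rfl (res_le L))⟩
  have hn : L ≤ normalizer ((⁅sylowCenterClosure p L, pResidualOf p L⁆ : Subgroup H) : Set H) :=
    le_normalizer_commutator (le_norm_scc L) (le_norm_res L)
  conv_lhs => rw [h1]
  exact comm_sup_le ((comm_eq_bot_iff.2 (omZ_le_cent L)).le.trans bot_le) (comm_le_left hn)
    ((omZ_le L).trans hn) le_normalizer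

end Cfsg.Agent.S2823
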