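import Cfsg.Statements.S2824
import Cfsg.Agent.Lib.Amalg.PRed

set_option autoImplicit false
open Cfsg

namespace Cfsg.Agent.S2824

open Subgroup Cfsg.Lib.Amalg
open Cfsg.Lib.Core hiding isPGroup_subgroupOf isPGroup_subgroupOf_iff isPGroup_map_subtype_iff isPGroup_zpowers_of_orderOf
open scoped commutatorElement

/-- Let H be a finite group, p a prime, T a Sylow p-subgroup, L and M subgroups of characteristic p containing T, Y_L the largest p-reduced normal subgroup of L and T₀ = C_T(Y_L). If M·C_H(Y_L) = L·C_H(Y_L), then L* := N_M(T₀) has Y_{L*} = Y_L and L·C_H(Y_L) = L*·C_H(Y_L). -/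
theorem result {H : Type*} [Group H] [Finite H] {p : ℕ} [Fact p.Prime] (T : Sylow p H) (L M : Subgroup H) (hTL : (T : Subgroup H) ≤ L) (hTM : (T : Subgroup H) ≤ M) (hL : Subgroup.centralizer (Cfsg.pCore p ↥L : Set ↥L) ≤ Cfsg.pCore p ↥L) (hM : Subgroup.centralizer (Cfsg.pCore p ↥M : Set ↥M) ≤ Cfsg.pCore p ↥M) (T₀ : Subgroup H) (hT₀ : T₀ = (T : Subgroup H) ⊓ Subgroup.centralizer (((Cfsg.largestPReducedOf p L) : Subgroup H) : Set H)) (hfac : M ⊔ Subgroup.centralizer (((Cfsg.largestPReducedOf p L) : Subgroup H) : Set H) = L ⊔ Subgroup.centralizer (((Cfsg.largestPReducedOf p L) : Subgroup H) : Set H)) (Ls : Subgroup H) (hLs : Ls = M ⊓ Subgroup.normalizer ((T₀ : Subgroup H) : Set H)) : (Cfsg.largestPReducedOf p Ls) = (Cfsg.largestPReducedOf p L) ∧ L ⊔ Subgroup.centralizer (((Cfsg.largestPReducedOf p L) : Subgroup H) : Set H) = Ls ⊔ Subgroup.centralizer (((Cfsg.largestPReducedOf p L) : Subgroup H) : Set H) := by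
  have hc := chp_iff.2 hL
  have hT := (syl_top T).of_le hTL le_top
  have hT' := (syl_top T).of_le hTM le_top
  have hY := pRed_Y (p := p) L
  have hYM := hY.transfer (hY.le_op.trans (hT.op_le.trans hTM)) (le_sup_left.trans hfac.le)
    (le_sup_left.trans hfac.ge)
  subst hT₀ hLs
  refine ⟨le_antisymm ?_ (hYM.frattini hT').le_Y, ?_⟩
  · have := (pRed_Y (p := p) (M ⊓ normalizer (((T : Subgroup H) ⊓
      centralizer (largestPReducedOf p L : Set H) : Subgroup H) : Set H))).le_omZ
    rwa [hYM.op_frattini hT', ← hc.Y_eq hT] at this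
  · rw [← hfac]
    exact le_antisymm (sup_le ((hT'.frattini_cent hYM.norm).ge.trans (sup_le
      (inf_le_right.trans le_sup_right) le_sup_left)) le_sup_right) (sup_le_sup_right inf_le_left _)

end Cfsg.Agent.S2824
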