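import Cfsg.Statements.S2825
import Cfsg.Agent.Lib.Amalg.PRed

set_option autoImplicit false
open Cfsg

namespace Cfsg.Agent.S2825

open Subgroup Cfsg.Lib.Amalg
open Cfsg.Lib.Core hiding isPGroup_subgroupOf isPGroup_subgroupOf_iff isPGroup_map_subtype_iff isPGroup_zpowers_of_orderOf
open scoped commutatorElement

/-- Let L be a subnormal subgroup of the finite group H, p a prime, Y_H and Y_L the largest p-reduced normal subgroups. Then Y_H ∩ L = Y_H ∩ Y_L and this subgroup is a p-reduced normal subgroup of L; C_L(Y_L) = C_L(Y_H) = C_L(Y_H ∩ L); and if O^p(H) ≤ L, then [Y_L, L] = 1 if and only if [Y_H, H] = 1. -/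
theorem result {H : Type*} [Group H] [Finite H] {p : ℕ} [Fact p.Prime] (L : Subgroup H) (hL : L.IsSubnormal) : Cfsg.largestPReduced p H ⊓ L = Cfsg.largestPReduced p H ⊓ (Cfsg.largestPReducedOf p L) ∧ Cfsg.IsPReducedNormal p ((Cfsg.largestPReduced p H ⊓ L).subgroupOf L) ∧ L ⊓ Subgroup.centralizer ((Cfsg.largestPReducedOf p L : Subgroup H) : Set H) = L ⊓ Subgroup.centralizer (Cfsg.largestPReduced p H : Set H) ∧ L ⊓ Subgroup.centralizer (Cfsg.largestPReduced p H : Set H) = L ⊓ Subgroup.centralizer ((Cfsg.largestPReduced p H ⊓ L : Subgroup H) : Set H) ∧ (Cfsg.pResidual p H ≤ L → (⁅(Cfsg.largestPReducedOf p L), L⁆ = ⊥ ↔ ⁅Cfsg.largestPReduced p H, (⊤ : Subgroup H)⁆ = ⊥)) := by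
  have hs := subnormalIn_top_iff.2 hL
  obtain ⟨a1, a2⟩ := (pRed_largest (p := p)).inf_subnormal hs
  have a3 := cent_Y_of_subnormal (p := p) hs
  rw [Y_top] at a3
  refine ⟨le_antisymm (le_inf inf_le_left a1.le_Y) (inf_le_inf_left _ (pRed_Y L).le),
    (pRed_iff_subgroupOf inf_le_right).2 a1, a3, a2.symm, fun h => ?_⟩
  rw [comm_eq_bot_iff', comm_eq_bot_iff']
  refine ⟨fun h1 => pRed_largest.red ⊤ le_rfl le_normalizer ?_, fun h1 => ?_⟩
  · rw [res_top]
    exact h.trans ((le_inf le_rfl h1).trans (a3.le.trans inf_le_right))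
  · exact (le_inf le_rfl (le_top.trans h1)).trans (a3.ge.trans inf_le_right)

end Cfsg.Agent.S2825
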