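import Cfsg.Statements.S2826
import Cfsg.Agent.Lib.Amalg.PRed

set_option autoImplicit false
open Cfsg

namespace Cfsg.Agent.S2826

open Subgroup Cfsg.Lib.Amalg
open Cfsg.Lib.Core hiding isPGroup_subgroupOf isPGroup_subgroupOf_iff isPGroup_map_subtype_iff isPGroup_zpowers_of_orderOf
open scoped commutatorElement

/-- Let H be a finite group of characteristic p, T a Sylow p-subgroup, and V a normal elementary abelian p-subgroup of H containing Ω₁(Z(T)). Then C_H(Ω₁(Z(T))) = C_H([V, O^p(H)] ∩ Ω₁(Z(T))), O^p(H) being generated by the elements of order prime to p. -/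
theorem result {H : Type*} [Group H] [Finite H] {p : ℕ} [Fact p.Prime] (hH : Subgroup.centralizer (Cfsg.pCore p H : Set H) ≤ Cfsg.pCore p H) (T : Sylow p H) (V : Subgroup H) [V.Normal] (hV : Cfsg.IsElementaryAbelian p V) (hZV : (Cfsg.omegaOne p ((T : Subgroup H) ⊓ Subgroup.centralizer (((T : Subgroup H) : Subgroup H) : Set H))) ≤ V) : Subgroup.centralizer ((Cfsg.omegaOne p ((T : Subgroup H) ⊓ Subgroup.centralizer (((T : Subgroup H) : Subgroup H) : Set H))) : Set H) = Subgroup.centralizer (((⁅V, Cfsg.pResidual p H⁆ ⊓ (Cfsg.omegaOne p ((T : Subgroup H) ⊓ Subgroup.centralizer (((T : Subgroup H) : Subgroup H) : Set H)))) : Subgroup H) : Set H) := by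
  refine le_antisymm (centralizer_anti inf_le_right) (le_cent_symm ?_)
  have h := (syl_top T).inf_cent_le hV.1 (elemAb_isPGroup hV) le_normalizer_of_normal
  refine (le_inf hZV (omZ_le_cent (p := p) (T : Subgroup H))).trans (h.trans (sup_le
    (inf_le_right.trans (centralizer_anti le_top)) (le_trans ?_ (le_centralizer_centralizer _))))
  rw [res_top]
  have h1 : ⁅V, pResidual p H⁆ ≤ V := comm_le_left le_normalizer_of_normal
  exact le_inf inf_le_left (le_omZ (inf_le_left.trans (h1.trans ((syl_top T).le_of_normal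
    (elemAb_isPGroup hV) le_top le_normalizer_of_normal))) inf_le_right fun a ha => hV.2 a (h1 ha.1))

end Cfsg.Agent.S2826
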