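import Cfsg.Statements.S2829
import Cfsg.Agent.Lib.Amalg.PMin

set_option autoImplicit false
open Cfsg

namespace Cfsg.Agent.S2829

open Subgroup Cfsg.Lib.Amalg
open Cfsg.Lib.Core hiding isPGroup_subgroupOf isPGroup_subgroupOf_iff isPGroup_map_subtype_iff isPGroup_zpowers_of_orderOf
open scoped commutatorElement

/-- Every strongly p-irreducible finite group is p-irreducible. -/
theorem result {H : Type*} [Group H] [Finite H] {p : ℕ} [Fact p.Prime] (hH : Cfsg.IsStronglyPIrreducible p H) : Cfsg.IsPIrreducible p H := by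
  exact pIrr_top.1 (spIrr_top.2 hH).pIrr

end Cfsg.Agent.S2829
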