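import Cfsg.Statements.S2830
import Cfsg.Agent.Lib.Amalg.PMin

set_option autoImplicit false
open Cfsg

namespace Cfsg.Agent.S2830

open Subgroup Cfsg.Lib.Amalg
open Cfsg.Lib.Core hiding isPGroup_subgroupOf isPGroup_subgroupOf_iff isPGroup_map_subtype_iff isPGroup_zpowers_of_orderOf
open scoped commutatorElement

/-- Let H act by conjugation on the elementary abelian p-subgroup V of a finite group G (H ≤ N(V)), with H p-irreducible and O^p(H) not centralizing V. Then C_H(V) is p-closed and C_T(V) ≤ O_p(H) for every p-subgroup T of H. If in addition O_p(H) centralizes V, then C_T(V) = T ∩ O_p(H) for every p-subgroup T of H, and V is p-reduced for H: O_p(H/C_H(V)) = 1. -/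
theorem result {G : Type*} [Group G] [Finite G] {p : ℕ} [Fact p.Prime] (V H : Subgroup G) (hV : Cfsg.IsElementaryAbelian p V) (hHV : H ≤ Subgroup.normalizer (V : Set G)) (hH : Cfsg.IsPIrreducible p ↥H) (hnc : ¬ (Cfsg.pResidual p ↥H).map H.subtype ≤ Subgroup.centralizer (V : Set G)) [hn : ((Subgroup.centralizer (V : Set G)).subgroupOf H).Normal] : Cfsg.IsPClosed p ↥(H ⊓ Subgroup.centralizer (V : Set G)) ∧ (∀ T : Subgroup G, T ≤ H → IsPGroup p ↥T → T ⊓ Subgroup.centralizer (V : Set G) ≤ Cfsg.pCoreOf p H) ∧ (Cfsg.pCoreOf p H ≤ Subgroup.centralizer (V : Set G) → (∀ T : Subgroup G, T ≤ H → IsPGroup p ↥T → T ⊓ Subgroup.centralizer (V : Set G) = T ⊓ Cfsg.pCoreOf p H) ∧ Cfsg.pCore p (↥H ⧸ (Subgroup.centralizer (V : Set G)).subgroupOf H) = ⊥) := by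
  have h := pIrr_iff.2 hH
  have hC := le_normalizer_centralizer hHV
  have h1 := h.pCl_inf hC hnc
  have h2 : ∀ T : Subgroup G, T ≤ H → IsPGroup p T → T ⊓ centralizer (V : Set G) ≤ pCoreOf p H :=
    fun T a b => h1.le_op inf_le_left (le_normalizer_inf le_normalizer hC) (inf_le_inf_right _ a)
      (b.to_le inf_le_left)
  refine ⟨pCl_iff.1 h1, h2, fun hO => ⟨fun T a b => le_antisymm (le_inf inf_le_left (h2 T a b))
    (inf_le_inf_left _ hO), pCore_eq_bot_iff.2 fun N hN hNp => ?_⟩⟩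
  rw [← map_comap_mk' _ N, map_mk'_eq_bot_iff]
  refine map_le_iff_le_comap.1 (h.le_of_res_le hnc hO (map_subtype_le _) (le_normalizer_map_of_normal _) ?_)
  rw [res_map_subtype, map_le_iff_le_comap]
  refine (map_mk'_eq_bot_iff ((centralizer (V : Set G)).subgroupOf H) _).1 ?_
  rw [map_res, map_comap_mk', res_eq_bot hNp]

end Cfsg.Agent.S2830
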