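import Cfsg.Statements.S2832
import Cfsg.Agent.Lib.Amalg.PMin

set_option autoImplicit false
open Cfsg

namespace Cfsg.Agent.S2832

open Subgroup Cfsg.Lib.Amalg
open Cfsg.Lib.Core hiding isPGroup_subgroupOf isPGroup_subgroupOf_iff isPGroup_map_subtype_iff isPGroup_zpowers_of_orderOf
open scoped commutatorElement

/-- Let H be a finite group with Sylow p-subgroup T such that H is T-minimal (generated by the conjugates of T, with T in exactly one maximal subgroup), and let N be a normal subgroup of H. Then either H/N is a p-group or H/N is minimal over the image of T in the same sense. -/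
theorem result {H : Type*} [Group H] [Finite H] {p : ℕ} [Fact p.Prime] (T : Sylow p H) (hmin : Cfsg.IsMinimalOver (T : Subgroup H)) (N : Subgroup H) [N.Normal] : IsPGroup p (H ⧸ N) ∨ Cfsg.IsMinimalOver ((T : Subgroup H).map (QuotientGroup.mk' N)) := by
  rw [or_iff_not_imp_left]
  intro h
  have h1 := (pMin_top_of_minOver (syl_top T) hmin).map (QuotientGroup.mk' N)
  rw [map_top_of_surjective _ (QuotientGroup.mk'_surjective N), isPGroup_top_iff] at h1
  exact (h1 h).minOver ((syl_top T).map_top (QuotientGroup.mk'_surjective N))

end Cfsg.Agent.S2832
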