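import Cfsg.Statements.S2833
import Cfsg.Agent.Lib.Amalg.Ops

set_option autoImplicit false
open Cfsg

namespace Cfsg.Agent.S2833

open Subgroup Cfsg.Lib.Amalg
open Cfsg.Lib.Core hiding isPGroup_subgroupOf isPGroup_subgroupOf_iff isPGroup_map_subtype_iff isPGroup_zpowers_of_orderOf
open scoped commutatorElement

/-- Let V be a subgroup of a finite group G normalized by the subgroup L, let X ≤ L and g ∈ L with [V, X, X] = 1 and L generated by X and gXg⁻¹. Put W = [V, L]. Then W = [V, X]·[V, gXg⁻¹], C_W(X) = [V, X], and C_W(L) = [V, X] ∩ [V, gXg⁻¹]. -/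
theorem result {G : Type*} [Group G] [Finite G] (V L : Subgroup G) (hLV : L ≤ Subgroup.normalizer (V : Set G)) (X : Subgroup G) (hX : X ≤ L) (g : G) (hg : g ∈ L) (hq : ⁅⁅V, X⁆, X⁆ = ⊥) (hgen : X ⊔ X.map (MulAut.conj g).toMonoidHom = L) (W : Subgroup G) (hW : W = ⁅V, L⁆) : ⁅V, X⁆ ⊔ ⁅V, X.map (MulAut.conj g).toMonoidHom⁆ = W ∧ W ⊓ Subgroup.centralizer (X : Set G) = ⁅V, X⁆ ∧ W ⊓ Subgroup.centralizer (L : Set G) = ⁅V, X⁆ ⊓ ⁅V, X.map (MulAut.conj g).toMonoidHom⁆ := by
  set A := ⁅V, X⁆ with hA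
  set B := ⁅V, cj g X⁆ with hB
  have hXg : cj g X ≤ L := cj_le_of_le_of_mem hX hg
  have hAB : cj g A = B := by rw [hA, cj_commutator, cj_of_mem_normalizer (hLV hg)]
  have hAV : A ≤ V := comm_le_left (hX.trans hLV)
  have hBV : B ≤ V := comm_le_left (hXg.trans hLV)
  have hAX : A ≤ 𝐂 X := comm_eq_bot_iff.1 hq
  have hBX : B ≤ 𝐂 (cj g X) := by rw [← hAB, ← cj_centralizer]; exact cj_mono g hAX
  have h1 : A ⊔ B = W := by
    rw [hW]
    refine le_antisymm (sup_le (commutator_mono le_rfl hX) (commutator_mono le_rfl hXg)) ?_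
    rw [← hgen]
    exact comm_sup_le' le_sup_left le_sup_right
      (le_normalizer_of_between le_sup_left (sup_le hAV hBV))
      (le_normalizer_of_between le_sup_right (sup_le hAV hBV))
  have h2 : W ⊓ 𝐂 X = A := by
    rw [← h1, sup_inf_of_le_normalizer hAX (hAV.trans (left_le_normalizer_comm _ _))]
    refine le_antisymm (sup_le le_rfl ?_) le_sup_left
    have h3 : B ⊓ 𝐂 X ≤ 𝐂 L := by
      rw [← hgen, centralizer_sup]; exact le_inf inf_le_right (inf_le_left.trans hBX)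
    intro x hx
    have h4 : x ∈ B := hx.1
    rw [← hAB, mem_cj] at h4
    have h5 := h3 hx g hg
    rwa [mul_assoc, ← h5, inv_mul_cancel_left] at h4
  have h3 : W ⊓ 𝐂 (cj g X) = B := by
    have : cj g (W ⊓ 𝐂 X) = cj g A := by rw [h2]
    rwa [cj_inf, cj_centralizer, hAB, cj_of_mem_normalizer (hW ▸ right_le_normalizer_comm V L hg)]
      at this
  refine ⟨h1, h2, ?_⟩
  rw [← h2, ← h3, ← hgen, centralizer_sup, inf_inf_distrib_left]

end Cfsg.Agent.S2833
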