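import Cfsg.Statements.S2835
import Cfsg.Agent.Lib.Amalg.PMin

set_option autoImplicit false
open Cfsg

namespace Cfsg.Agent.S2835

open Subgroup Cfsg.Lib.Amalg
open Cfsg.Lib.Core hiding isPGroup_subgroupOf isPGroup_subgroupOf_iff isPGroup_map_subtype_iff isPGroup_zpowers_of_orderOf
open scoped commutatorElement

/-- Let L be a finite group, L₀ a maximal subgroup, T a Sylow p-subgroup of L₀ and Y ≤ T, and suppose L is Y-minimal (generated by the conjugates of Y, with Y in exactly one maximal subgroup, necessarily L₀). Then N_L(T) ≤ L₀, O_p(L) ≤ L₀ and T is a Sylow p-subgroup of L; N_L(L₀) = L₀; L = ⟨Y, gYg⁻¹⟩ for each g ∈ L outside L₀; and if Y is abelian then Y ∩ gYg⁻¹ = C_Y(L) for each such g. -/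
theorem result {L : Type*} [Group L] [Finite L] {p : ℕ} [Fact p.Prime] (L₀ : Subgroup L) (hL₀ : IsCoatom L₀) (T : Sylow p ↥L₀) (Y : Subgroup L) (hYT : Y ≤ (T : Subgroup ↥L₀).map L₀.subtype) (hmin : Cfsg.IsMinimalOver Y) : Subgroup.normalizer (((T : Subgroup ↥L₀).map L₀.subtype : Subgroup L) : Set L) ≤ L₀ ∧ Cfsg.pCore p L ≤ L₀ ∧ (∃ P : Sylow p L, (P : Subgroup L) = (T : Subgroup ↥L₀).map L₀.subtype) ∧ Subgroup.normalizer (L₀ : Set L) = L₀ ∧ (∀ g : L, g ∉ L₀ → Y ⊔ Y.map (MulAut.conj g).toMonoidHom = ⊤) ∧ (IsMulCommutative ↥Y → ∀ g : L, g ∉ L₀ → Y ⊓ Y.map (MulAut.conj g).toMonoidHom = Y ⊓ Subgroup.center L) := by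
  have hT := syl_of_sylow T
  have h := uMax_of_minOver hmin hL₀ (hYT.trans hT.le)
  have hn := (minOver_iff.1 hmin).1
  obtain ⟨a1, a2⟩ := h.syl hn hT hYT
  have a3 := h.not_le_norm hn
  refine ⟨by simpa using a1, a2.pCore_le.trans hT.le, syl_top_iff.1 a2,
    le_antisymm (by simpa using h.inf_norm_le a3) le_normalizer,
    fun g hg => h.sup_cj a3 (mem_top g) hg, fun hY g hg => le_antisymm (le_inf inf_le_left ?_)
      (le_inf inf_le_left ?_)⟩
  · rw [← centralizer_top_eq_center, ← h.sup_cj a3 (mem_top g) hg, centralizer_sup]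
    exact inf_le_inf (isMulCommutative_iff_le_cent.1 hY)
      (isMulCommutative_iff_le_cent.1 (isMulCommutative_cj g hY))
  · rw [← cj_of_mem_normalizer (H := Y ⊓ center L) (g := g)]
    · exact cj_mono g inf_le_left
    · exact cent_le_norm _ fun x hx => (mem_center_iff.1 hx.2 g).symm

end Cfsg.Agent.S2835
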