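import Cfsg.Statements.S2836
import Cfsg.Agent.Lib.Amalg.PMin

set_option autoImplicit false
open Cfsg

namespace Cfsg.Agent.S2836

open Subgroup Cfsg.Lib.Amalg
open Cfsg.Lib.Core hiding isPGroup_subgroupOf isPGroup_subgroupOf_iff isPGroup_map_subtype_iff isPGroup_zpowers_of_orderOf
open scoped commutatorElement

/-- Let L be a finite group, L₀ a maximal subgroup, T a Sylow p-subgroup of L₀, Y ≤ T, and suppose L is Y-minimal. Let D be the intersection of the conjugates of L₀ (the core of L₀). Then D contains O_p(L) and D/O_p(L) is the Frattini subgroup of L/O_p(L), so D is p-closed; and every normal subgroup N of L contained in L₀ is p-closed with N/O_p(N) a nilpotent group of order prime to p. -/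
theorem result {L : Type*} [Group L] [Finite L] {p : ℕ} [Fact p.Prime] (L₀ : Subgroup L) (hL₀ : IsCoatom L₀) (T : Sylow p ↥L₀) (Y : Subgroup L) (hYT : Y ≤ (T : Subgroup ↥L₀).map L₀.subtype) (hmin : Cfsg.IsMinimalOver Y) : (Cfsg.pCore p L ≤ L₀.normalCore ∧ (L₀.normalCore).map (QuotientGroup.mk' (Cfsg.pCore p L)) = frattini (L ⧸ Cfsg.pCore p L) ∧ Cfsg.IsPClosed p ↥(L₀.normalCore)) ∧ ∀ (N : Subgroup L) [N.Normal], N ≤ L₀ → Cfsg.IsPClosed p ↥N ∧ Group.IsNilpotent (↥N ⧸ Cfsg.pCore p ↥N) ∧ (Nat.card (↥N ⧸ Cfsg.pCore p ↥N)).Coprime p := by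
  have hT := syl_of_sylow T
  have h := uMax_of_minOver hmin hL₀ (hYT.trans hT.le)
  have hn := (minOver_iff.1 hmin).1
  have hY := hT.isPGroup.to_le hYT
  have h0 := h.op_le hn hY
  rw [op_top'] at h0
  have h1 := h.map_core hn hY
  refine ⟨⟨normal_le_normalCore.2 h0, h1,
    pCl_iff.1 (h.pCl hY L₀.normalCore_le le_normalizer_of_normal)⟩, fun N _ hN => ?_⟩
  have h2 := h.pCl hY hN le_normalizer_of_normal
  refine ⟨pCl_iff.1 h2, ?_, ?_⟩
  · let f := (QuotientGroup.mk' (pCore p L)).comp N.subtype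
    have e1 : f.ker = pCore p N := by
      rw [← MonoidHom.comap_ker, QuotientGroup.ker_mk']; exact pCore_subgroupOf_eq N
    have e2 : f.range ≤ frattini (L ⧸ pCore p L) := by
      rw [MonoidHom.range_comp, range_subtype, ← h1]; exact map_mono (normal_le_normalCore.2 hN)
    haveI : Group.IsNilpotent (frattini (L ⧸ pCore p L)) := frattini_nilpotent
    haveI := isNilpotent_of_le e2
    exact nilpotent_of_mulEquiv
      ((QuotientGroup.quotientKerEquivRange f).symm.trans (QuotientGroup.quotientMulEquivOfEq e1))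
  · have := (pCl_iff_syl.1 h2).not_dvd_relIndex
    rw [Nat.coprime_comm, (Fact.out : p.Prime).coprime_iff_not_dvd]
    rwa [relIndex, op_subgroupOf_self] at this

end Cfsg.Agent.S2836
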