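import Cfsg.Statements.S2837
import Cfsg.Agent.Lib.Amalg.PMin

set_option autoImplicit false
open Cfsg

namespace Cfsg.Agent.S2837

open Subgroup Cfsg.Lib.Amalg
open Cfsg.Lib.Core hiding isPGroup_subgroupOf isPGroup_subgroupOf_iff isPGroup_map_subtype_iff isPGroup_zpowers_of_orderOf
open scoped commutatorElement

/-- Let L be a finite group of characteristic p, L₀ a maximal subgroup, Y an elementary abelian p-subgroup of L₀ with L Y-minimal and O_p(L) ≤ N_L(Y). Put A = the normal closure of O_p(L) ∩ Y in L. Then for every g ∈ L outside L₀: Φ(A) = A' = [A ∩ Y, A] = [A ∩ Y, A ∩ gYg⁻¹] ≤ C_Y(L), and Y ∩ gYg⁻¹ = (A ∩ Y) ∩ (A ∩ gYg⁻¹) = C_Y(L) = C_A(L). -/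
theorem result {L : Type*} [Group L] [Finite L] {p : ℕ} [Fact p.Prime] (hchar : Subgroup.centralizer (Cfsg.pCore p L : Set L) ≤ Cfsg.pCore p L) (L₀ : Subgroup L) (hL₀ : IsCoatom L₀) (Y : Subgroup L) (hYL₀ : Y ≤ L₀) (hYel : Cfsg.IsElementaryAbelian p Y) (hmin : Cfsg.IsMinimalOver Y) (hOY : Cfsg.pCore p L ≤ Subgroup.normalizer (Y : Set L)) (A : Subgroup L) (hA : A = Subgroup.normalClosure (((Cfsg.pCore p L ⊓ Y : Subgroup L)) : Set L)) (g : L) (hg : g ∉ L₀) : (frattini ↥A).map A.subtype = ⁅A, A⁆ ∧ ⁅A, A⁆ = ⁅A ⊓ Y, A⁆ ∧ ⁅A ⊓ Y, A⁆ = ⁅A ⊓ Y, A ⊓ Y.map (MulAut.conj g).toMonoidHom⁆ ∧ ⁅A ⊓ Y, A⁆ ≤ Y ⊓ Subgroup.center L ∧ Y ⊓ Y.map (MulAut.conj g).toMonoidHom = Y ⊓ Subgroup.center L ∧ (A ⊓ Y) ⊓ (A ⊓ Y.map (MulAut.conj g).toMonoidHom) = Y ⊓ Subgroup.center L ∧ A ⊓ Subgroup.center L = Y ⊓ Subgroup.center L := by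
  have h := uMax_of_minOver hmin hL₀ hYL₀
  have hn := (minOver_iff.1 hmin).1
  have hgen := h.sup_cj (h.not_le_norm hn) (mem_top g) hg
  have hc := elemAb_le_cent hYel
  have hc' : cj g Y ≤ centralizer (cj g Y : Set L) := elemAb_le_cent (elemAb_map hYel _)
  show phi A = _ ∧ _ ∧ _ = ⁅A ⊓ Y, A ⊓ cj g Y⁆ ∧ _ ∧ Y ⊓ cj g Y = _ ∧ (A ⊓ Y) ⊓ (A ⊓ cj g Y) = _ ∧ _
  set O := pCore p L with hO
  have hOY' : O ≤ normalizer (cj g Y : Set L) := by
    rw [← cj_normalizer, ← cj_normal g O]; exact cj_mono g hOY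
  have z1 : Y ⊓ cj g Y = Y ⊓ center L := by
    refine le_antisymm (le_inf inf_le_left ?_) (le_inf inf_le_left ?_)
    · rw [← centralizer_top_eq_center, ← hgen, centralizer_sup]; exact inf_le_inf hc hc'
    · rw [← cj_of_mem_normalizer (H := Y ⊓ center L) (g := g)]
      · exact cj_mono g inf_le_left
      · exact cent_le_norm _ fun x hx => (mem_center_iff.1 hx.2 g).symm
  have z2 : center L ≤ O := (center_le_centralizer _).trans hchar
  have c1 : ⁅O, Y⁆ ≤ O ⊓ Y := comm_le_inf le_normalizer_of_normal hOY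
  have c2 : ⁅O, cj g Y⁆ ≤ O ⊓ cj g Y := comm_le_inf le_normalizer_of_normal hOY'
  have a1 : A = (O ⊓ Y) ⊔ (O ⊓ cj g Y) := by
    rw [hA, ← ncl_top]
    refine le_antisymm (iSup_cj_le le_sup_left ?_) (sup_le (le_iSup_cj _ _) ?_)
    · rw [← hgen]
      have : (O ⊓ Y) ⊔ (O ⊓ cj g Y) ≤ O := sup_le inf_le_left inf_le_left
      exact sup_le (le_normalizer_of_between (c1.trans le_sup_left) this)
        (le_normalizer_of_between (c2.trans le_sup_right) this)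
    · conv_lhs => rw [← cj_normal g O, ← cj_inf]
      exact cj_le_ncl (mem_top g)
  have a0 : A ≤ O := a1 ▸ sup_le inf_le_left inf_le_left
  have a2 : A ⊓ Y = O ⊓ Y := le_antisymm (inf_le_inf_right _ a0) (le_inf (a1 ▸ le_sup_left) inf_le_right)
  have a3 : A ⊓ cj g Y = O ⊓ cj g Y :=
    le_antisymm (inf_le_inf_right _ a0) (le_inf (a1 ▸ le_sup_right) inf_le_right)
  rw [a2, a3]
  set B := O ⊓ Y
  set B' := O ⊓ cj g Y
  have b1 : ⁅B, B⁆ = ⊥ := comm_eq_bot_iff.2 (inf_le_right.trans (hc.trans (centralizer_anti inf_le_right)))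
  have b2 : ⁅B', B'⁆ = ⊥ := comm_eq_bot_iff.2 (inf_le_right.trans (hc'.trans (centralizer_anti inf_le_right)))
  have n1 := left_le_normalizer_comm B B'
  have n2 := right_le_normalizer_comm B B'
  have b3 : ⁅B, A⁆ = ⁅B, B'⁆ := le_antisymm (a1 ▸ comm_sup_le' (b1.le.trans bot_le) le_rfl n1 n2)
    (commutator_mono le_rfl (a1 ▸ le_sup_right))
  have b4 : ⁅B', A⁆ ≤ ⁅B, B'⁆ := a1 ▸ comm_sup_le' (commutator_comm _ _).le (b2.le.trans bot_le) n1 n2
  have b5 : ⁅A, A⁆ = ⁅B, A⁆ := le_antisymm (by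
      conv_lhs => enter [1]; rw [a1]
      rw [b3]; exact comm_sup_le b3.le b4 n1 n2)
    (commutator_mono (a1 ▸ le_sup_left) le_rfl)
  have nB : O ≤ normalizer (B : Set L) := le_normalizer_inf le_normalizer hOY
  have nB' : O ≤ normalizer (B' : Set L) := le_normalizer_inf le_normalizer hOY'
  have b6 : ⁅B, B'⁆ ≤ Y ⊓ center L := z1 ▸ (comm_le_inf (inf_le_left.trans nB)
    (inf_le_left.trans nB')).trans (inf_le_inf inf_le_right inf_le_right)
  have b7 : B ⊓ B' = Y ⊓ center L := le_antisymm (z1 ▸ inf_le_inf inf_le_right inf_le_right)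
    (le_inf (le_inf (inf_le_right.trans z2) inf_le_left)
      (le_inf (inf_le_right.trans z2) (z1.ge.trans inf_le_right)))
  have hAp : IsPGroup p A := (isPGroup_pCore p L).to_le a0
  have mem : ∀ x ∈ A, ∃ b ∈ B, ∃ c ∈ B', b * c = x := fun x hx =>
    (mem_sup_of_le_normalizer (inf_le_left.trans nB')).1 (a1 ▸ hx)
  refine ⟨le_antisymm ((frattiniOf_le_iff hAp).2 ⟨le_rfl, fun x hx => ?_⟩)
    (commutator_le_frattiniOf hAp), b5, b3, b3 ▸ b6, z1, b7, le_antisymm (fun x hx => ⟨?_, hx.2⟩)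
    (le_inf (b7.ge.trans (inf_le_left.trans (a1 ▸ le_sup_left))) inf_le_right)⟩
  · obtain ⟨b, hb, c, hc, rfl⟩ := mem x hx
    have := mul_pow_mem_comm (a2.ge hb).1 (a3.ge hc).1 p
    rwa [hYel.2 b hb.2, (elemAb_map hYel _).2 c hc.2, mul_one, inv_one, mul_one] at this
  · obtain ⟨b, hb, c, hc1, rfl⟩ := mem x hx.1
    refine Y.mul_mem hb.2 ?_
    have e1 : c ∈ center L := by
      rw [← centralizer_top_eq_center, ← hgen, centralizer_sup]
      refine ⟨?_, hc' hc1.2⟩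
      have := (centralizer (Y : Set L)).mul_mem ((centralizer (Y : Set L)).inv_mem (hc hb.2))
        (center_le_centralizer _ hx.2)
      rwa [inv_mul_cancel_left] at this
    have e2 : g⁻¹ * c * g ∈ Y := mem_cj.1 hc1.2
    rwa [mul_assoc, ← mem_center_iff.1 e1 g, inv_mul_cancel_left] at e2

end Cfsg.Agent.S2837
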