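import Cfsg.Statements.S2838
import Cfsg.Agent.Lib.Amalg.WClosed

set_option autoImplicit false
open Cfsg

namespace Cfsg.Agent.S2838

open Subgroup Cfsg.Lib.Amalg
open Cfsg.Lib.Core hiding isPGroup_subgroupOf isPGroup_subgroupOf_iff isPGroup_map_subtype_iff isPGroup_zpowers_of_orderOf
open scoped commutatorElement

/-- For a nontrivial p-subgroup Q of a finite group H the following are equivalent: Q is a weakly closed subgroup (it is the only H-conjugate of itself inside some Sylow p-subgroup containing it); Q = P for every conjugate P of Q with [Q, P] ≤ Q ∩ P; Q is normal in N_H(R) for every p-subgroup R of H containing Q. -/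
theorem result {H : Type*} [Group H] [Finite H] {p : ℕ} [Fact p.Prime] (Q : Subgroup H) (hQp : IsPGroup p ↥Q) (hQ1 : Q ≠ ⊥) : (Cfsg.IsWeaklyClosedSubgroup p Q ↔ ∀ g : H, ⁅Q, ((Q : Subgroup H).map (MulAut.conj (g : H)).toMonoidHom)⁆ ≤ Q ⊓ ((Q : Subgroup H).map (MulAut.conj (g : H)).toMonoidHom) → ((Q : Subgroup H).map (MulAut.conj (g : H)).toMonoidHom) = Q) ∧ (Cfsg.IsWeaklyClosedSubgroup p Q ↔ ∀ R : Subgroup H, IsPGroup p ↥R → Q ≤ R → Subgroup.normalizer ((R : Subgroup H) : Set H) ≤ Subgroup.normalizer ((Q : Subgroup H) : Set H)) := by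
  rw [← wc_top_iff]
  refine ⟨⟨fun h g hg => cj_eq_self_iff.2 (h.mem_of_le_norm (mem_top g)
    (le_normalizer_of_comm_le (hg.trans inf_le_left))), fun h => wc_of_comm hQp le_top fun g _ a b =>
      cj_eq_self_iff.1 (h g (comm_le_inf a b))⟩, fun h R a b => ?_, fun h =>
      wc_of_norm_le hQp le_top fun T a b => inf_le_right.trans (h T a.isPGroup b)⟩
  simpa using h.norm_le a b

end Cfsg.Agent.S2838
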