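import Cfsg.Statements.S2839
import Cfsg.Agent.Lib.Amalg.WClosed

set_option autoImplicit false
open Cfsg

namespace Cfsg.Agent.S2839

open Subgroup Cfsg.Lib.Amalg
open Cfsg.Lib.Core hiding isPGroup_subgroupOf isPGroup_subgroupOf_iff isPGroup_map_subtype_iff isPGroup_zpowers_of_orderOf
open scoped commutatorElement

/-- Let Q be a nontrivial p-subgroup of the finite group H that is a weakly closed subgroup, K a subgroup containing Q and N a normal subgroup of H. Then Q is a weakly closed subgroup of K; every H-conjugate of Q contained in K is a K-conjugate of Q; N_K(Q) contains a Sylow p-subgroup of K; N = N_N(Q)·O^p(N); and QN/N is a weakly closed subgroup of H/N. -/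
theorem result {H : Type*} [Group H] [Finite H] {p : ℕ} [Fact p.Prime] (Q : Subgroup H) (hQp : IsPGroup p ↥Q) (hQ1 : Q ≠ ⊥) (hwc : Cfsg.IsWeaklyClosedSubgroup p Q) (K : Subgroup H) (hQK : Q ≤ K) (N' : Subgroup H) [N'.Normal] : Cfsg.IsWeaklyClosedSubgroup p (Q.subgroupOf K) ∧ (∀ g : H, ((Q : Subgroup H).map (MulAut.conj (g : H)).toMonoidHom) ≤ K → ∃ k ∈ K, ((Q : Subgroup H).map (MulAut.conj (g : H)).toMonoidHom) = ((Q : Subgroup H).map (MulAut.conj (k : H)).toMonoidHom)) ∧ Cfsg.IsParabolic p ((Subgroup.normalizer ((Q : Subgroup H) : Set H)).subgroupOf K) ∧ (N' ⊓ Subgroup.normalizer ((Q : Subgroup H) : Set H)) ⊔ (Cfsg.pResidual p ↥N').map N'.subtype = N' ∧ Cfsg.IsWeaklyClosedSubgroup p (Q.map (QuotientGroup.mk' N')) := by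
  have h := wc_top_iff.2 hwc
  refine ⟨(wc_subgroupOf_iff hQK).2 (h.mono hQK le_top),
    fun g hg => h.exists_cj_eq hQK le_top (mem_top g) hg, ?_, ?_, ?_⟩
  · obtain ⟨T, hT, hQT⟩ := exists_syl_ge hQp hQK
    exact ⟨hT.toSylow, comap_mono (h.le_norm hT.isPGroup hQT le_top)⟩
  · obtain ⟨T, hT, hQT⟩ := exists_syl_ge hQp le_top
    refine le_antisymm (sup_le inf_le_left (res_le N')) ((hT.inf_normal_top N').res_sup.ge.trans
      (sup_le le_sup_right (le_sup_of_le_left (le_inf inf_le_right
        (inf_le_left.trans (h.le_norm hT.isPGroup hQT le_top))))))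
  · have := h.map (QuotientGroup.mk' N')
    rwa [map_top_of_surjective _ (QuotientGroup.mk'_surjective _), wc_top_iff] at this

end Cfsg.Agent.S2839
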