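import Cfsg.Statements.S2840
import Cfsg.Agent.Lib.Amalg.WClosed

set_option autoImplicit false
open Cfsg

namespace Cfsg.Agent.S2840

open Subgroup Cfsg.Lib.Amalg
open Cfsg.Lib.Core hiding isPGroup_subgroupOf isPGroup_subgroupOf_iff isPGroup_map_subtype_iff isPGroup_zpowers_of_orderOf
open scoped commutatorElement

/-- Let Q be a nontrivial p-subgroup of the finite group H that is a weakly closed subgroup and K a subgroup containing Q; let K° be the weak closure of Q in K (generated by the H-conjugates of Q inside K). Then K° is generated by the K-conjugates of Q, and K° is the subnormal closure of Q in K. -/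
theorem result {H : Type*} [Group H] [Finite H] {p : ℕ} [Fact p.Prime] (Q : Subgroup H) (hQp : IsPGroup p ↥Q) (hQ1 : Q ≠ ⊥) (hwc : Cfsg.IsWeaklyClosedSubgroup p Q) (K : Subgroup H) (hQK : Q ≤ K) (Kc : Subgroup H) (hKc : Kc = Cfsg.weakClosure Q K) : Kc = ⨆ k : ↥K, ((Q : Subgroup H).map (MulAut.conj ((k : H) : H)).toMonoidHom) ∧ Kc = (Cfsg.subnormalClosure (Q.subgroupOf K)).map K.subtype := by
  have h := wc_top_iff.2 hwc
  subst hKc
  refine ⟨h.wc_eq_ncl hQK, ?_⟩
  rw [h.wc_eq_ncl hQK]
  refine le_antisymm ((h.mono hQK le_top).ncl_le_of_subnormalIn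
    (subnormalIn_map_subtype_iff.2 (snc_spec _).2) ?_) ?_
  · exact (map_subgroupOf_of_le hQK).ge.trans (map_mono (snc_spec _).1)
  · rw [ncl, ← map_normalClosure_subgroupOf hQK]
    exact map_mono (snc_le le_normalClosure (subnormalIn_top_iff.1 (.of_normal le_top)))

end Cfsg.Agent.S2840
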