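import Cfsg.Statements.S2841
import Cfsg.Agent.Lib.Amalg.WClosed

set_option autoImplicit false
open Cfsg

namespace Cfsg.Agent.S2841

open Subgroup Cfsg.Lib.Amalg
open Cfsg.Lib.Core hiding isPGroup_subgroupOf isPGroup_subgroupOf_iff isPGroup_map_subtype_iff isPGroup_zpowers_of_orderOf
open scoped commutatorElement

/-- Let Q be a nontrivial p-subgroup of the finite group H that is a weakly closed subgroup and N a normal subgroup of H. Then N = N_N(Q)·[N, Q] and [N, Q] = (Q ∩ [N, Q])·[N, Q, Q]. -/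
theorem result {H : Type*} [Group H] [Finite H] {p : ℕ} [Fact p.Prime] (Q : Subgroup H) (hQp : IsPGroup p ↥Q) (hQ1 : Q ≠ ⊥) (hwc : Cfsg.IsWeaklyClosedSubgroup p Q) (N' : Subgroup H) [N'.Normal] : (∀ n : H, n ∈ N' → ∃ a ∈ N' ⊓ Subgroup.normalizer ((Q : Subgroup H) : Set H), ∃ b ∈ ⁅N', Q⁆, n = a * b) ∧ (∀ c : H, c ∈ ⁅N', Q⁆ → ∃ a ∈ Q ⊓ ⁅N', Q⁆, ∃ b ∈ ⁅⁅N', Q⁆, Q⁆, c = a * b) := by
  have h := wc_top_iff.2 hwc
  have hn : Q ≤ normalizer (N' : Set H) := le_normalizer_of_normal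
  refine ⟨fun n hn' => ?_, fun c hc => ?_⟩
  · obtain ⟨c, hc, a, ha, e⟩ := h.exists_mul le_top hn (inv_mem hn')
    exact ⟨a⁻¹, inv_mem ha, c⁻¹, inv_mem hc, by rw [← mul_inv_rev, ← e, inv_inv]⟩
  · have h1 := (comm_le_ncl Q N').trans ((h.ncl_comm le_top hn).trans (ncl_eq_comm_sup _ _)).le
    rw [sup_comm] at h1
    obtain ⟨a, ha, b, hb, e⟩ := (mem_sup_of_le_normalizer (right_le_normalizer_comm _ _)).1 (h1 hc)
    refine ⟨a, ⟨ha, ?_⟩, b, hb, e.symm⟩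
    exact (mul_mem_cancel_right (comm_le_left (right_le_normalizer_comm _ _) hb)).1 (e ▸ hc)

end Cfsg.Agent.S2841
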