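import Cfsg.Statements.S2845
import Cfsg.Agent.Lib.Amalg.WClosed

set_option autoImplicit false
open Cfsg

namespace Cfsg.Agent.S2845

open Subgroup Cfsg.Lib.Amalg
open Cfsg.Lib.Core hiding isPGroup_subgroupOf isPGroup_subgroupOf_iff isPGroup_map_subtype_iff isPGroup_zpowers_of_orderOf
open scoped commutatorElement

/-- Let Q be a nontrivial large p-subgroup of the finite group H. Then for every subgroup L ≥ Q with O_p(L) ≠ 1, C_H(O_p(L)) is a p-group and L has characteristic p, and either the weak closure L° of Q in L equals Q or C_H(L°) = 1; for every subgroup R of H containing a Sylow p-subgroup of H with O_p(R) ≠ 1, C_H(O_p(R)) ≤ O_p(R); and H has parabolic characteristic p. -/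
theorem result {H : Type*} [Group H] [Finite H] {p : ℕ} [Fact p.Prime] (Q : Subgroup H) (hQp : IsPGroup p ↥Q) (hQ1 : Q ≠ ⊥) (hL : Cfsg.IsLarge Q) : (∀ L : Subgroup H, Q ≤ L → Cfsg.pCore p ↥L ≠ ⊥ → IsPGroup p ↥(Subgroup.centralizer (((Cfsg.pCoreOf p L) : Subgroup H) : Set H)) ∧ Subgroup.centralizer (Cfsg.pCore p ↥L : Set ↥L) ≤ Cfsg.pCore p ↥L ∧ (Cfsg.weakClosure Q L = Q ∨ Subgroup.centralizer (((Cfsg.weakClosure Q L) : Subgroup H) : Set H) = ⊥)) ∧ (∀ R : Subgroup H, Cfsg.IsParabolic p R → Cfsg.pCore p ↥R ≠ ⊥ → Subgroup.centralizer (((Cfsg.pCoreOf p R) : Subgroup H) : Set H) ≤ (Cfsg.pCoreOf p R)) ∧ Cfsg.IsOfParabolicCharacteristic p H := by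
  have h := large_wc hL hQp hQ1
  refine ⟨fun L a b => ?_, fun R ⟨T, hT⟩ b => ?_, parChar_top_iff.1 (large_parChar hL hQp hQ1)⟩
  · obtain ⟨c, d⟩ := large_cent_op hL hQp hQ1 a (mt op_eq_bot_iff.1 b)
    refine ⟨c, chp_iff.1 d, or_iff_not_imp_right.2 fun e => le_antisymm ?_ (le_wc a)⟩
    rw [h.wc_eq_ncl a]
    exact iSup_cj_le le_rfl ((le_normalizer_centralizer (le_norm_wc Q L)).trans
      (hL.2 _ (centralizer_anti (le_wc a)) e))
  · obtain ⟨g, -, hg⟩ := (syl_top T).exists_conj_le hQp le_top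
    obtain ⟨c, d⟩ := large_cent_op (large_cj hL g) (isPGroup_cj g hQp) (by rwa [Ne, cj_eq_bot_iff])
      (hg.trans hT) (mt op_eq_bot_iff.1 b)
    exact d.le (((syl_top T).le_of_le_normalizer c le_top
      (hT.trans (le_normalizer_centralizer (le_norm_op R)))).trans hT) le_rfl

end Cfsg.Agent.S2845
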