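import Cfsg.Statements.S2846
import Cfsg.Agent.Lib.Amalg.FrakM

set_option autoImplicit false
open Cfsg

namespace Cfsg.Agent.S2846

open Subgroup Cfsg.Lib.Amalg
open Cfsg.Lib.Core hiding isPGroup_subgroupOf isPGroup_subgroupOf_iff isPGroup_map_subtype_iff isPGroup_zpowers_of_orderOf
open scoped commutatorElement

/-- Let Q be a nontrivial large p-subgroup of the finite group H, S a Sylow p-subgroup containing Q, and L a subgroup containing S with O_p(L) ≠ 1 and C_H(O_p(L)) ≤ O_p(L). Then there are a subgroup M containing S having the basic property (M ∈ 𝔐_H, writing Y_X for the largest p-reduced normal subgroup of X and 𝓛_H for the set of subgroups X with O_p(X) ≠ 1 and C_H(O_p(X)) ≤ O_p(X): M ∈ 𝓛_H, M·C_H(Y_M) is the only maximal member of 𝓛_H containing M and its largest p-reduced normal subgroup is again Y_M, C_M(Y_M) is p-closed, and the image of C_M(Y_M) in M/O_p(M) lies in the Frattini subgroup of M/O_p(M)) and a subgroup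 L* with S ≤ L* ≤ M, O_p(L*) ≠ 1, C_H(O_p(L*)) ≤ O_p(L*), such that L·C_H(Y_L) = L*·C_H(Y_L), the weak closures of Q in L and in L* agree and lie in that of M, and Y_L = Y_{L*} ≤ Y_M. If moreover Q is not normal in L, then Q is normal in neither L* nor M. -/
theorem result {H : Type*} [Group H] [Finite H] {p : ℕ} [Fact p.Prime] (Q : Subgroup H) (hQp : IsPGroup p ↥Q) (hQ1 : Q ≠ ⊥) (hLg : Cfsg.IsLarge Q) (S : Sylow p H) (hQS : Q ≤ (S : Subgroup H)) (L : Subgroup H) (hSL : (S : Subgroup H) ≤ L) (hL : L ∈ Cfsg.charPSubgroups p H) : ∃ M Ls : Subgroup H, (S : Subgroup H) ≤ M ∧ Cfsg.IsInFrakM p M ∧ (S : Subgroup H) ≤ Ls ∧ Ls ≤ M ∧ Ls ∈ Cfsg.charPSubgroups p H ∧ L ⊔ Subgroup.centralizer (((Cfsg.largestPReducedOf p L) : Subgroup H) : Set H) = Ls ⊔ Subgroup.centralizer (((Cfsg.largestPReducedOf p L) : Subgroup H) : Set H) ∧ Cfsg.weakClosure Q L = Cfsg.weakClosure Q Ls ∧ Cfsg.weakClosure Q Ls ≤ Cfsg.weakClosure Q M ∧ (Cfsg.largestPReducedOf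 p L) = (Cfsg.largestPReducedOf p Ls) ∧ (Cfsg.largestPReducedOf p Ls) ≤ (Cfsg.largestPReducedOf p M) ∧ (¬ L ≤ Subgroup.normalizer ((Q : Subgroup H) : Set H) → ¬ Ls ≤ Subgroup.normalizer ((Q : Subgroup H) : Set H) ∧ ¬ M ≤ Subgroup.normalizer ((Q : Subgroup H) : Set H)) := by
  obtain ⟨M, Ls, a1, a2, a3, a4, a5, a6, a7, a8⟩ :=
    exists_frakM (large_parChar hLg hQp hQ1) (syl_top S) hSL hL
  have h := large_wc hLg hQp hQ1
  have hY := pRed_Y (p := p) L
  have hY1 := (charP_of_mem hL).Y_ne_bot (mem_charP_iff.1 hL).1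
  have e : weakClosure Q L = weakClosure Q Ls := by
    rw [h.wc_eq_ncl (hQS.trans hSL), h.wc_eq_ncl (hQS.trans a3),
      ← (large_ncl hLg hQp (hQS.trans hSL) hY.isPGroup hY1 hY.norm).1,
      ← (large_ncl hLg hQp (hQS.trans a3) hY.isPGroup hY1 (a6 ▸ (pRed_Y Ls).norm)).1, ← a8]
  have k : ¬ L ≤ normalizer (Q : Set H) → ¬ Ls ≤ normalizer (Q : Set H) := fun c d => c (by
    have : weakClosure Q Ls = Q := by
      rw [h.wc_eq_ncl (hQS.trans a3)]
      exact le_antisymm (iSup_cj_le le_rfl d) (le_iSup_cj _ _)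
    rw [← this, ← e]; exact le_norm_wc Q L)
  exact ⟨M, Ls, a1, a2, a3, a4, a5, a8, e, wc_mono a4, a6, a6 ▸ a7,
    fun c => ⟨k c, fun d => k c (a4.trans d)⟩⟩

end Cfsg.Agent.S2846
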