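import Cfsg.Statements.S2850
import Cfsg.Agent.Lib.Amalg.FrakM

set_option autoImplicit false
open Cfsg

namespace Cfsg.Agent.S2850

open Subgroup Cfsg.Lib.Amalg
open Cfsg.Lib.Core hiding isPGroup_subgroupOf isPGroup_subgroupOf_iff isPGroup_map_subtype_iff isPGroup_zpowers_of_orderOf
open scoped commutatorElement

/-- Standing hypotheses: G a finite group, S a Sylow p-subgroup, Q a nontrivial large p-subgroup of G contained in S (C_G(Q) ≤ Q and N_G(U) ≤ N_G(Q) for all nontrivial U ≤ C_G(Q)), and M a subgroup containing S with the basic property (M ∈ 𝔐_G(S)); Y_M denotes the largest p-reduced normal subgroup of M and M† = M·C_G(Y_M). Suppose Y_M is asymmetric in G. Then N_G(L) ≤ N_G(O_p(M)) ≤ M† for every p-subgroup L containing O_p(M); O_p(M) is a weakly closed subgroup of G; for every subgroup L containing O_p(M), L ∩ M† contains a Sylow p-subgroup of L; and two elements of Y_M conjugate in G are conjugate in M. -/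
theorem result {G : Type*} [Group G] [Finite G] {p : ℕ} [Fact p.Prime] (S : Sylow p G) (Q : Subgroup G) (hQp : IsPGroup p ↥Q) (hQ1 : Q ≠ ⊥) (hQS : Q ≤ (S : Subgroup G)) (hQ : Cfsg.IsLarge Q) (M : Subgroup G) (hSM : (S : Subgroup G) ≤ M) (hM : Cfsg.IsInFrakM p M) (hasym : ¬ Cfsg.IsSymmetricIn (Cfsg.largestPReducedOf p M)) : (∀ L : Subgroup G, IsPGroup p ↥L → (Cfsg.pCoreOf p M) ≤ L → Subgroup.normalizer ((L : Subgroup G) : Set G) ≤ Subgroup.normalizer (((Cfsg.pCoreOf p M) : Subgroup G) : Set G) ∧ Subgroup.normalizer (((Cfsg.pCoreOf p M) : Subgroup G) : Set G) ≤ (M ⊔ Subgroup.centralizer (((Cfsg.largestPReducedOf p M) : Subgroup G) : Set G))) ∧ Cfsg.IsWeaklyClosedSubgroup p (Cfsg.pCoreOf p M) ∧ (∀ L : Subgroup G, (Cfsg.pCoreOf p M) ≤ L → Cfsg.IsParabolic p ((L ⊓ (M ⊔ Subgroup.centralizer (((Cfsg.largestPReducedOf p M) : Subgroup G) : Set G))).subgroupOf L)) ∧ (∀ x ∈ (Cfsg.largestPReducedOf p M), ∀ g : G, g * x * g⁻¹ ∈ (Cfsg.largestPReducedOf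 p M) → ∃ m ∈ M, m * x * m⁻¹ = g * x * g⁻¹) := by
  have h := fm_of_large S hQp hQ1 hQ hSM hM
  have hw := h.wc hasym
  have h1 := h.norm_op_le.trans h.norm_Y.le
  refine ⟨fun L a b => ⟨by simpa using hw.norm_le a b, h1⟩, wc_top_iff.1 hw, fun L a => ?_,
    fun x hx g hg => ?_⟩
  · obtain ⟨T, t1, -, t3⟩ := h.exists_syl hasym a
    exact ⟨t1.toSylow, comap_mono (le_inf t1.le (t3.trans h1))⟩
  · have c1 := (pRed_Y (p := p) M).op_le_cent
    obtain ⟨k, hk, n, hn, e⟩ := hw.exists_mem (c1.trans (cent_le_cent_singleton hx)) le_top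
      (mem_top g⁻¹) (by
        rw [cj_le_iff, inv_inv, cj_centralizer_singleton]
        exact c1.trans (cent_le_cent_singleton hg))
    obtain ⟨m, hm, c, hc, e'⟩ := (mem_sup_of_le_normalizer (le_normalizer_centralizer
      (pRed_Y (p := p) M).norm)).1 (inv_mem (h1 hn.2))
    refine ⟨m, hm, ?_⟩
    have e1 : g = m * c * k⁻¹ := by rw [e', ← mul_inv_rev, ← e, inv_inv]
    have e2 : k⁻¹ * x * k = x := by
      rw [mul_assoc, ← mem_centralizer_singleton_iff.1 hk, inv_mul_cancel_left]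
    have e3 : c * x * c⁻¹ = x := by rw [← hc x hx, mul_inv_cancel_right]
    calc m * x * m⁻¹ = m * (c * (k⁻¹ * x * k) * c⁻¹) * m⁻¹ := by rw [e2, e3]
      _ = _ := by rw [e1]; group

end Cfsg.Agent.S2850
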