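import Cfsg.Statements.S2851
import Cfsg.Agent.Lib.Amalg.FrakM

set_option autoImplicit false
open Cfsg

namespace Cfsg.Agent.S2851

open Subgroup Cfsg.Lib.Amalg
open Cfsg.Lib.Core hiding isPGroup_subgroupOf isPGroup_subgroupOf_iff isPGroup_map_subtype_iff isPGroup_zpowers_of_orderOf
open scoped commutatorElement

theorem aux {D : Type*} [Group D] [Finite D] {p : ℕ} [Fact p.Prime] (C : Subgroup D) [C.Normal]
    (hred : ∀ K : Subgroup D, K.Normal → pResidualOf p K ≤ C → K ≤ C) {K : Subgroup D}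
    (hn : (generalizedFittingSubgroup (D ⧸ C)).comap (QuotientGroup.mk' C) ≤ normalizer (K : Set D))
    (c : pResidualOf p K ≤ C) : K ≤ C := by
  have hO : pCore p (D ⧸ C) = ⊥ := pCore_eq_bot_iff.2 fun N hN hNp => by
    rw [← map_comap_mk' _ N, map_mk'_eq_bot_iff]
    refine hred _ inferInstance ((map_mk'_eq_bot_iff C _).1 ?_)
    rw [map_res, map_comap_mk', res_eq_bot hNp]
  have k1 : IsPGroup p (K.map (QuotientGroup.mk' C)) := by
    rw [← res_eq_bot_iff, ← map_res]; exact (map_mk'_eq_bot_iff C _).2 c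
  have k2 : generalizedFittingSubgroup (D ⧸ C) ≤ normalizer (K.map (QuotientGroup.mk' C) : Set (D ⧸ C)) := by
    rw [← map_comap_mk' C (generalizedFittingSubgroup _)]
    exact map_le_normalizer_map _ hn
  haveI := Lib.Layer.fstar_normal (G := D ⧸ C)
  have k3 := comm_le_inf (le_normalizer_of_normal (H := generalizedFittingSubgroup (D ⧸ C))) k2
  exact (map_mk'_eq_bot_iff C _).1 (eq_bot_of_le_cent_fstar hO k1
    (comm_eq_bot_iff'.1 (eq_bot_iff.2 (k3.trans ((le_op inf_le_left (le_normalizer_inf le_normalizer k2)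
      (k1.to_le inf_le_right)).trans ((op_le_pCore _).trans hO.le))))))

/-- Standing hypotheses: G a finite group, S a Sylow p-subgroup, Q a nontrivial large p-subgroup of G contained in S, M a subgroup containing S with the basic property (M ∈ 𝔐_G(S)); Y_M the largest p-reduced normal subgroup of M and M† = M·C_G(Y_M). Let F be the preimage in M† of the generalized Fitting subgroup of M†/C_{M†}(Y_M). If Y_M is asymmetric in G and H is a subgroup of characteristic p containing F, then Y_M ≤ Y_H. -/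
theorem result {G : Type*} [Group G] [Finite G] {p : ℕ} [Fact p.Prime] (S : Sylow p G) (Q : Subgroup G) (hQp : IsPGroup p ↥Q) (hQ1 : Q ≠ ⊥) (hQS : Q ≤ (S : Subgroup G)) (hQ : Cfsg.IsLarge Q) (M : Subgroup G) (hSM : (S : Subgroup G) ≤ M) (hM : Cfsg.IsInFrakM p M) (hasym : ¬ Cfsg.IsSymmetricIn (Cfsg.largestPReducedOf p M)) [hn : ((Subgroup.centralizer (((Cfsg.largestPReducedOf p M) : Subgroup G) : Set G)).subgroupOf (M ⊔ Subgroup.centralizer (((Cfsg.largestPReducedOf p M) : Subgroup G) : Set G))).Normal] (F : Subgroup G) (hF : F = ((Cfsg.generalizedFittingSubgroup (↥(M ⊔ Subgroup.centralizer (((Cfsg.largestPReducedOf p M) : Subgroup G) : Set G)) ⧸ (Subgroup.centralizer (((Cfsg.largestPReducedOf p M) : Subgroup G) : Set G)).subgroupOf (M ⊔ Subgroup.centralizer (((Cfsg.largestPReducedOf p M) : Subgroup G) : Set G)))).comap (QuotientGroup.mk' ((Subgroup.centralizer (((Cfsg.largestPReducedOf p M) : Subgroup G) : Set G)).subgroupOf (M ⊔ Subgroup.centralizer (((Cfsg.largestPReducedOf p M)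 : Subgroup G) : Set G))))).map ((M ⊔ Subgroup.centralizer (((Cfsg.largestPReducedOf p M) : Subgroup G) : Set G))).subtype) (H : Subgroup G) (hFH : F ≤ H) (hH : Subgroup.centralizer (Cfsg.pCore p ↥H : Set ↥H) ≤ Cfsg.pCore p ↥H) : (Cfsg.largestPReducedOf p M) ≤ Cfsg.largestPReducedOf p H := by
  have h := fm_of_large S hQp hQ1 hQ hSM hM
  have hY := pRed_dag (p := p) M
  have hFD : F ≤ dag p M := hF ▸ map_subtype_le _
  have hCF : centralizer ((largestPReducedOf p M : Subgroup G) : Set G) ≤ F :=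
    (map_subgroupOf_of_le (le_sup_right : _ ≤ dag p M)).ge.trans (hF ▸ map_mono (le_comap_mk' _ _))
  have hOH := (pRed_Y (p := p) M).op_le_cent.trans (hCF.trans hFH)
  refine h.Y_le_Y_of_pRed hasym (chp_iff.2 hH) hOH ⟨le_inf (h.Y_le_op.trans hOH) hY.le,
    inf_le_right.trans hY.norm, hY.elemAb, fun K a b c => ?_⟩
  obtain ⟨K, rfl⟩ : ∃ B : Subgroup (dag p M), B.map (dag p M).subtype = K :=
    ⟨_, map_subgroupOf_of_le (a.trans inf_le_right)⟩
  rw [res_map_subtype, map_le_iff_le_comap] at c
  refine map_le_iff_le_comap.2 (aux (p := p) ((centralizer ((largestPReducedOf p M : Subgroup G) : Set G)).subgroupOf (dag p M)) (fun N _ d => map_le_iff_le_comap.1 (hY.red _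
    (map_subtype_le _) (le_normalizer_map_of_normal _) ?_)) ?_ c)
  · rwa [res_map_subtype, map_le_iff_le_comap]
  · rw [← map_le_map_iff_of_injective (dag p M).subtype_injective, map_subtype_normalizer]
    exact hF ▸ le_inf hFD ((le_inf hFH hFD).trans b)

end Cfsg.Agent.S2851
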