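import Cfsg.Statements.S2855
import Cfsg.Agent.Lib.Amalg.PMin

set_option autoImplicit false
open Cfsg

namespace Cfsg.Agent.S2855

open Subgroup Cfsg.Lib.Amalg
open Cfsg.Lib.Core hiding isPGroup_subgroupOf isPGroup_subgroupOf_iff isPGroup_map_subtype_iff isPGroup_zpowers_of_orderOf
open scoped commutatorElement

theorem aux {H : Type*} [Group H] [Finite H] {p : ℕ} [Fact p.Prime] (𝒦 : Set (Subgroup H))
    (hne : 𝒦.Nonempty) (hO : pCore p H = ⊥)
    (htr : ∀ E ∈ 𝒦, ∀ K ∈ 𝒦, ∃ h : H, K = cj h E) (hinv : ∀ h : H, ∀ E ∈ 𝒦, cj h E ∈ 𝒦)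
    (hres : pResidual p H ≤ sSup 𝒦) (hnorm : ∀ E ∈ 𝒦, sSup 𝒦 ≤ normalizer (E : Set H)) :
    ((∀ E ∈ 𝒦, PMin p E) → PMin p (⊤ : Subgroup H)) ∧ ((∀ E ∈ 𝒦, SPIrr p E) →
      PIrr p (⊤ : Subgroup H) ∧ ∀ E ∈ 𝒦, ∀ K ∈ 𝒦, pResidualOf p E = pResidualOf p K ∨ ⁅E, K⁆ = ⊥) := by
  set R := sSup 𝒦 with hR
  haveI : R.Normal := normal_of_cj_le fun g => cj_le_iff.2 (sSup_le fun E hE =>
    cj_le_iff.1 (le_sSup (hinv g E hE)))
  have hsn : ∀ E ∈ 𝒦, SubnormalIn ⊤ E := fun E hE =>
    (SubnormalIn.of_le_normalizer (le_sSup hE) (hnorm E hE)).trans (.of_normal le_top)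
  have hop : ∀ E ∈ 𝒦, pCoreOf p E = ⊥ := fun E hE =>
    eq_bot_iff.2 ((hsn E hE).pCoreOf_le.trans (op_top'.trans hO).le)
  refine ⟨fun h => ?_, fun h => ?_⟩
  · obtain ⟨T, hT⟩ := exists_syl p (⊤ : Subgroup H)
    have hRT : R ⊔ T = ⊤ := top_le_iff.1 (hT.res_sup.ge.trans (sup_le_sup_right (res_top.le.trans hres) _))
    have hs : ∀ E ∈ 𝒦, Syl p (T ⊓ E) E := fun E hE => hT.inf_subnormalIn (hsn E hE)
    have hm : ∀ E : 𝒦, ∃ M, UMax (T ⊓ E) E M := fun E => ((h E E.2).exists_uMax (hs E E.2)).2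
    choose m hm using hm
    let M : Subgroup H :=
      { carrier := {g | ∀ E : 𝒦, cj g (m E) = m ⟨_, hinv g E E.2⟩}
        one_mem' := fun E => by simp only [cj_one]
        mul_mem' := fun {a b} ha hb E => by rw [cj_mul, hb, ha]; simp only [cj_mul]
        inv_mem' := fun {a} ha E => by rw [cj_eq_iff, inv_inv, ha]; simp only [cj_cj_inv] }
    have key : ∀ X, T ≤ X → X < ⊤ → X ≤ M := fun X a b x hx E => by
      have h1 : ∀ E : 𝒦, UMax (X ⊓ E) E (m E) := fun E => (hm E).mono (inf_le_inf_right _ a)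
        (inf_comm X _ ▸ (hm E).le_of_not_le (inf_le_left.trans a) fun c => b.not_ge
          (hRT.ge.trans (sup_le (sSup_le fun K hK => by
            obtain ⟨g, rfl⟩ := htr E E.2 K hK
            obtain ⟨t, ht, r, hr, rfl⟩ := (mem_sup_of_le_normalizer le_normalizer_of_normal).1
              ((sup_comm T R).ge (hRT.ge (mem_top g)))
            rw [cj_mul, cj_of_mem_normalizer (hnorm E E.2 hr)]
            exact cj_le_of_le_of_mem c (a ht)) a)))
      have h2 := (h1 E).conj x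
      rw [cj_inf, cj_of_mem hx] at h2
      exact h2.unique (h1 ⟨_, hinv x E E.2⟩)
    obtain ⟨E, hE⟩ := hne
    have hM : M < ⊤ := lt_top_iff_ne_top.2 fun c => (hm ⟨E, hE⟩).not_le_norm
      ((h E hE).ncl_eq (hs E hE)) fun e he => by
        rw [← cj_eq_self_iff, (c.ge (mem_top e) : e ∈ M)]
        congr 2
        exact cj_of_mem he
    have hn : ncl T ⊤ = ⊤ := top_le_iff.1 (hRT.ge.trans (sup_le (sSup_le fun K hK =>
      ((h K hK).ncl_eq (hs K hK)).ge.trans (ncl_mono inf_le_left le_top)) (le_iSup_cj _ _)))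
    exact pMin_of_ncl hT hn ⟨key T le_rfl (lt_top_iff_ne_top.2 fun c => (h E hE).not_isPGroup
      (hT.isPGroup.to_le (le_top.trans c.ge))), hM, key⟩
  · have hZ : ∀ E ∈ 𝒦, ∀ X, ⁅X, E⁆ ≤ E → ⁅⁅X, E⁆, E⁆ = ⊥ → ⁅X, E⁆ = ⊥ := fun E hE X a b => by
      haveI := isMulCommutative_inf_cent E
      exact comm_eq_bot_iff'.2 (le_cent_of_pec (h E hE).pIrr.pec_eq (coprime_of_nilpotent_normal
        (hop E hE) inf_le_left (le_normalizer_inf le_normalizer (le_normalizer_centralizer le_normalizer))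
        (isNilpotent_of_isMulCommutative _)) (le_inf a (comm_eq_bot_iff.1 b)) (comm_eq_bot_iff.1 b))
    have hN : ∀ E ∈ 𝒦, ∀ X, X ≤ R → R ≤ normalizer (X : Set H) → ⁅X, E⁆ ≠ ⊥ →
        pResidualOf p E ≤ X := fun E hE X a b c => by
      have h1 : ⁅X, E⁆ ≤ E := comm_le_right (a.trans (hnorm E hE))
      refine ((h E hE).res_le _ h1 (right_le_normalizer_comm _ _) fun d => c (hZ E hE X h1
        (eq_bot_iff.2 (d.trans (hop E hE).le)))).trans (comm_le_left ((le_sSup hE).trans b))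
    refine ⟨⟨fun c => ?_, fun N _ b c => ?_⟩, fun E hE K hK => or_iff_not_imp_right.2 fun c => ?_⟩
    · obtain ⟨E, hE⟩ := hne
      exact (h E hE).not_pCl (c.of_le le_top)
    · haveI := normal_of_top_le_normalizer b
      by_cases d : ∃ E ∈ 𝒦, pResidualOf p E ≤ N
      · obtain ⟨E, hE, d⟩ := d
        rw [res_top, ← map_mk'_eq_bot_iff, map_pResidual_of_surjective (QuotientGroup.mk'_surjective N),
          ← res_top, res_eq_bot_iff]
        refine isPGroup_of_res_le (isPGroup_pCore p (H ⧸ N)) ?_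
        rw [res_top, ← map_pResidual_of_surjective (QuotientGroup.mk'_surjective N)]
        refine (map_mono hres).trans (map_le_iff_le_comap.2 (sSup_le fun K hK =>
          map_le_iff_le_comap.1 (le_pCore_of_isSubnormal ?_ ?_)))
        · have := (hsn K hK).map (QuotientGroup.mk' N)
          rwa [map_top_of_surjective _ (QuotientGroup.mk'_surjective N), subnormalIn_top_iff] at this
        · obtain ⟨g, rfl⟩ := htr E hE K hK
          rw [← res_eq_bot_iff, ← map_res, map_mk'_eq_bot_iff, ← cj_res, ← cj_normal g N]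
          exact cj_mono g d
      · have d1 : ∀ E ∈ 𝒦, ⁅N ⊓ R, E⁆ = ⊥ := fun E hE => by
          by_contra e
          exact d ⟨E, hE, (hN E hE _ inf_le_right le_normalizer_of_normal e).trans inf_le_left⟩
        have d2 : N ⊓ R ≤ centralizer (R : Set H) :=
          le_cent_symm (sSup_le fun E hE => comm_eq_bot_iff'.1 (d1 E hE))
        haveI := isMulCommutative_of_le_cent inf_le_right d2
        have d3 : (Nat.card (N ⊓ R : Subgroup H)).Coprime p := coprime_of_nilpotent_normal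
          (op_top'.trans hO) le_top le_normalizer_of_normal (isNilpotent_of_isMulCommutative _)
        have d4 : ⁅N, R⁆ ≤ N ⊓ R := comm_le_inf le_normalizer_of_normal le_normalizer_of_normal
        have d5 : pElementClosure p R = R := le_antisymm (pec_le _) (sSup_le fun E hE =>
          (h E hE).pIrr.pec_eq.ge.trans (pec_mono (le_sSup hE)))
        have d6 := le_cent_of_pec d5 d3 d4 (d4.trans d2)
        obtain ⟨T, hT⟩ := exists_syl p (⊤ : Subgroup H)
        refine (c (pCl_of_syl (hT.inf_normal_top N) (le_top.trans (hT.res_sup.ge.trans (sup_le ?_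
          (le_normalizer_inf le_normalizer le_normalizer_of_normal)))))).elim
        exact (res_top.le.trans hres).trans (d6.trans ((centralizer_anti inf_le_right).trans
          (cent_le_norm _)))
    · have h1 := hN K hK E (le_sSup hE) (hnorm E hE) c
      have h2 := hN E hE K (le_sSup hK) (hnorm K hK) (by rwa [commutator_comm])
      exact le_antisymm ((res_res E).ge.trans (res_mono h2)) ((res_res K).ge.trans (res_mono h1))

/-- Let H be a finite group, p a prime, and 𝒦 a nonempty set of subgroups of H permuted transitively by conjugation, with R the subgroup generated by the members of 𝒦. Suppose O^p(H) ≤ R, each E ∈ 𝒦 has E·O_p(H) normal in R·O_p(H), and each E ∈ 𝒦 is p-minimal (generated by the conjugates of a Sylow p-subgroup T_E of E, with T_E in exactly one maximal subgroup of E). Then H is p-minimal in the same sense. If instead each E ∈ 𝒦 is strongly p-irreducible, then H is p-irreducible and, for E, K ∈ 𝒦, either O^p(E·O_p(H))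 = O^p(K·O_p(H)) or [E, K] ≤ O_p(H). -/
theorem result {H : Type*} [Group H] [Finite H] {p : ℕ} [Fact p.Prime] (𝒦 : Set (Subgroup H)) (hne : 𝒦.Nonempty) (hinv : ∀ h : H, ∀ E ∈ 𝒦, E.map (MulAut.conj h).toMonoidHom ∈ 𝒦) (htr : ∀ E ∈ 𝒦, ∀ K ∈ 𝒦, ∃ h : H, K = E.map (MulAut.conj h).toMonoidHom) (hres : Cfsg.pResidual p H ≤ sSup 𝒦) (hnorm : ∀ E ∈ 𝒦, sSup 𝒦 ⊔ Cfsg.pCore p H ≤ Subgroup.normalizer ((E ⊔ Cfsg.pCore p H : Subgroup H) : Set H)) : ((∀ E ∈ 𝒦, ∀ T : Sylow p ↥E, Cfsg.IsMinimalOver (T : Subgroup ↥E)) → ∀ T : Sylow p H, Cfsg.IsMinimalOver (T : Subgroup H)) ∧ ((∀ E ∈ 𝒦, Cfsg.IsStronglyPIrreducible p ↥E) → Cfsg.IsPIrreducible p H ∧ ∀ E ∈ 𝒦, ∀ K ∈ 𝒦, (Cfsg.pResidual p ↥(E ⊔ Cfsg.pCore p H)).map (E ⊔ Cfsg.pCore p H).subtype = (Cfsg.pResidual p ↥(K ⊔ Cfsg.pCore p H)).map (K ⊔ Cfsg.pCore p H).subtype ∨ ⁅E, K⁆ ≤ Cfsg.pCore p H) := by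
  let f := QuotientGroup.mk' (pCore p H)
  have hs : Function.Surjective f := QuotientGroup.mk'_surjective _
  have hk : ∀ E : Subgroup H, IsPGroup p (E ⊓ f.ker : Subgroup H) := fun E => by
    rw [QuotientGroup.ker_mk']; exact (isPGroup_pCore p H).to_le inf_le_right
  have e1 : sSup (Subgroup.map f '' 𝒦) = (sSup 𝒦).map f := by
    rw [sSup_image, sSup_eq_iSup, Subgroup.map_iSup]; simp only [Subgroup.map_iSup]
  have e2 : ∀ E : Subgroup H, (E ⊔ pCore p H).map f = E.map f := fun E => by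
    rw [Subgroup.map_sup, (map_mk'_eq_bot_iff _ _).2 le_rfl, sup_bot_eq]
  obtain ⟨a1, a2⟩ := aux (p := p) (Subgroup.map f '' 𝒦) (hne.image _) pCore_quotient_pCore
    (by
      rintro _ ⟨E, hE, rfl⟩ _ ⟨K, hK, rfl⟩
      obtain ⟨h, rfl⟩ := htr E hE K hK
      exact ⟨f h, map_cj f h E⟩)
    (by
      rintro g _ ⟨E, hE, rfl⟩
      obtain ⟨g, rfl⟩ := hs g
      exact ⟨_, hinv g E hE, map_cj f g E⟩)
    (by rw [e1, ← map_pResidual_of_surjective hs]; exact map_mono hres)
    (by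
      rintro _ ⟨E, hE, rfl⟩
      rw [e1, ← e2 E]
      exact map_le_normalizer_map f (le_sup_left.trans (hnorm E hE)))
  rw [← map_top_of_surjective f hs] at a1 a2
  refine ⟨fun h T => ((pMin_map_iff f (hk _)).1 (a1 ?_)).minOver (syl_top T), fun h => ?_⟩
  · rintro _ ⟨E, hE, rfl⟩
    obtain ⟨T⟩ : Nonempty (Sylow p E) := inferInstance
    exact (pMin_map_iff f (hk _)).2 (pMin_iff.2 (pMin_top.1 (pMin_top_of_minOver (syl_top T) (h E hE T))))
  · obtain ⟨b1, b2⟩ := a2 (by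
      rintro _ ⟨E, hE, rfl⟩
      exact (spIrr_map_iff f (hk _)).2 (spIrr_iff.2 (h E hE)))
    refine ⟨pIrr_top.1 ((pIrr_map_iff f (hk _)).1 b1), fun E hE K hK =>
      (b2 _ ⟨E, hE, rfl⟩ _ ⟨K, hK, rfl⟩).imp (fun e => ?_) fun e => ?_⟩
    · have key : ∀ E K : Subgroup H, pResidualOf p (E.map f) = pResidualOf p (K.map f) →
          pResidualOf p (E ⊔ pCore p H) ≤ pResidualOf p (K ⊔ pCore p H) := fun E K e => by
        rw [← e2 E, ← e2 K, ← map_res, ← map_res] at e
        have := (map_mk'_le_map_mk'_iff _ _ _).1 e.le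
        rw [sup_comm (pCore p H)] at this
        rw [← res_res]
        exact res_le_of_le_sup (isPGroup_pCore p H) (le_sup_right.trans (le_norm_res _)) this
      exact le_antisymm (key E K e) (key K E e.symm)
    · rwa [← map_commutator, map_mk'_eq_bot_iff] at e

end Cfsg.Agent.S2855
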