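import Cfsg.Statements.S2856
import Cfsg.Agent.Lib.Amalg.AmalgP

set_option autoImplicit false
open Cfsg

namespace Cfsg.Agent.S2856

open Subgroup Cfsg.Lib.Amalg
open Cfsg.Lib.Core hiding isPGroup_subgroupOf isPGroup_subgroupOf_iff isPGroup_map_subtype_iff isPGroup_zpowers_of_orderOf
open scoped commutatorElement

/-- Let (M₁, M₂) be an amalgam pair in X satisfying the rank-two standing hypothesis (characteristic p, the normalizers in M₁ and in M₂ of a Sylow p-subgroup of M₁ ∩ M₂ equal and contained in M₁ ∩ M₂, and strongly p-embedded residues), λ a vertex of the coset graph, L_λ the subgroup of its stabilizer generated by the p-elements, Q_λ = O_p of the stabilizer, O^p(L_λ) the subgroup of L_λ generated by its elements of order prime to p, and V_λ^{(k)} the subgroup generated by the Z_μ over the vertices μ at distance at most k from λ (Z_μ being generated by the Ω₁(Z(S)), S a Sylow p-subgroup of the stabilizer of μ). If n ≥ 1 and V_λ^{(n)}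 ≤ Q_λ, then O^p(L_λ) does not centralize V_λ^{(n)}/[V_λ^{(n)}, Q_λ], that is, [V_λ^{(n)}, O^p(L_λ)] is not contained in [V_λ^{(n)}, Q_λ]. -/
theorem result {X : Type*} [Group X] {p : ℕ} [Fact p.Prime] (M₁ M₂ : Subgroup X) (h : Cfsg.IsSpeAmalgamPair p M₁ M₂) (lam : Cfsg.CosetVertex M₁ M₂) (n : ℕ) (hn : 1 ≤ n) (V : Subgroup X) (hV : V = Cfsg.vertexVIter p M₁ M₂ n lam) (hVQ : V ≤ Cfsg.vertexQ p lam) : ¬ ⁅V, ((Cfsg.pResidual p ↥(Cfsg.pElementClosure p (MulAction.stabilizer X lam))).map (Cfsg.pElementClosure p (MulAction.stabilizer X lam)).subtype)⁆ ≤ ⁅V, Cfsg.vertexQ p lam⁆ := by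
  intro hc
  obtain ⟨m, rfl⟩ : ∃ m, n = m + 1 := ⟨n - 1, by omega⟩
  obtain ⟨μ, hμ⟩ := cg_exists_adj lam
  have hgen := h.1.1.1
  haveI := cp_finite h.1 lam
  haveI : Finite (vertexQ p lam) := finite_op _
  set W := vertexVIter p M₁ M₂ m μ with hW
  set Q := vertexQ p lam with hQ
  have h1 : W ≤ V := hV ▸ vIter_le_of_adj hgen hμ
  have hQV : Q ≤ 𝐍 V := hV ▸ (op_le _).trans (stab_le_norm_vIter hgen _ lam)
  have hQW : Q ≤ 𝐍 W := (cp_Q_le_adj h.1 hμ).trans (stab_le_norm_vIter hgen _ μ)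
  have hR : pResidualOf p (pElementClosure p (MulAction.stabilizer X lam)) ≤ 𝐍 (W ⊔ ⁅V, Q⁆) :=
    le_normalizer_of_between (hc.trans le_sup_right) (sup_le h1 (comm_le_left hQV))
  have h2 : V ≤ (vertexZ p lam ⊔ W) ⊔ ⁅V, Q⁆ := by
    conv_lhs => rw [hV]
    refine vIter_le_iff.2 fun ν hν => ?_
    by_cases h0 : (cosetGraph M₁ M₂).dist lam ν = 0
    · rw [(cg_connected hgen).dist_eq_zero_iff] at h0
      subst h0; exact le_sup_left.trans le_sup_left
    obtain ⟨c, hc1, hc2⟩ := cg_exists_adj_dist hgen h0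
    obtain ⟨a, ha, rfl⟩ := spe_res_pec_transitive h hμ hc1
    refine (le_vIter (n := m) (δ := a • μ) (by omega)).trans ?_
    rw [← cj_vIter hgen, sup_assoc]
    exact (cj_le_of_le_of_mem_normalizer le_sup_left (hR ha)).trans le_sup_right
  have hZQ := cp_Z_le_Q h.1 lam
  have h3 : V ≤ vertexZ p lam ⊔ W :=
    le_of_le_sup_comm (op_isPGroup _) (sup_le hZQ (h1.trans hVQ)) hVQ
      (le_normalizer_sup ((op_le _).trans (le_norm_scc _)) hQW) h2
  have h4 : ⁅V, Q⁆ ≤ W := (commutator_mono h3 le_rfl).trans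
    (comm_sup_le ((comm_eq_bot_iff.2 (cp_Z_le_cent h.1 lam)).le.trans bot_le) (comm_le_left hQW)
      (hZQ.trans hQW) le_normalizer)
  have h5 : W = ⊥ :=
    spe_eq_bot h hμ ((h1.trans hVQ).trans (le_inf (op_le _) (cp_Q_le_adj h.1 hμ)))
      (le_normalizer_of_between (hc.trans h4) h1)
      ((res_le _).trans ((pec_le _).trans (stab_le_norm_vIter hgen _ μ)))
  exact cp_Z_ne_bot h.1 μ (eq_bot_iff.2 (h5 ▸ le_vIter (by simp)))

end Cfsg.Agent.S2856
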