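import Cfsg.Statements.S2857
import Cfsg.Agent.Lib.Amalg.AmalgP

set_option autoImplicit false
open Cfsg

namespace Cfsg.Agent.S2857

open Subgroup Cfsg.Lib.Amalg
open Cfsg.Lib.Core hiding isPGroup_subgroupOf isPGroup_subgroupOf_iff isPGroup_map_subtype_iff isPGroup_zpowers_of_orderOf
open scoped commutatorElement

/-- Let (M₁, M₂) be an amalgam pair in X satisfying the rank-two standing hypothesis (characteristic p, the normalizers in M₁ and in M₂ of a Sylow p-subgroup of M₁ ∩ M₂ equal and contained in M₁ ∩ M₂, and strongly p-embedded residues), λ a vertex of the coset graph, L_λ the subgroup of its stabilizer generated by the p-elements, Q_λ = O_p of the stabilizer, O^p(L_λ) the subgroup of L_λ generated by its elements of order prime to p, and V_λ^{(k)} the subgroup generated by the Z_μ over the vertices μ at distance at most k from λ (Z_μ being generated by the Ω₁(Z(S)), S a Sylow p-subgroup of the stabilizer of μ). If n ≥ 2 and V_λ^{(n)}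 ≤ Q_λ, then O^p(L_λ) does not centralize V_λ^{(n)}/V_λ^{(n-2)}, that is, [V_λ^{(n)}, O^p(L_λ)] is not contained in V_λ^{(n-2)}. -/
theorem result {X : Type*} [Group X] {p : ℕ} [Fact p.Prime] (M₁ M₂ : Subgroup X) (h : Cfsg.IsSpeAmalgamPair p M₁ M₂) (lam : Cfsg.CosetVertex M₁ M₂) (n : ℕ) (hn : 2 ≤ n) (hVQ : Cfsg.vertexVIter p M₁ M₂ n lam ≤ Cfsg.vertexQ p lam) : ¬ ⁅Cfsg.vertexVIter p M₁ M₂ n lam, ((Cfsg.pResidual p ↥(Cfsg.pElementClosure p (MulAction.stabilizer X lam))).map (Cfsg.pElementClosure p (MulAction.stabilizer X lam)).subtype)⁆ ≤ Cfsg.vertexVIter p M₁ M₂ (n - 2) lam := by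
  intro hc
  obtain ⟨m, rfl⟩ : ∃ m, n = m + 2 := ⟨n - 2, by omega⟩
  obtain ⟨μ, hμ⟩ := cg_exists_adj lam
  have hgen := h.1.1.1
  have h1 : vertexVIter p M₁ M₂ (m + 1) μ ≤ vertexVIter p M₁ M₂ (m + 2) lam := vIter_le_of_adj hgen hμ
  have h2 : vertexVIter p M₁ M₂ m lam ≤ vertexVIter p M₁ M₂ (m + 1) μ := vIter_le_of_adj hgen hμ.symm
  have h3 : vertexVIter p M₁ M₂ (m + 1) μ = ⊥ :=
    spe_eq_bot h hμ ((h1.trans hVQ).trans (le_inf (op_le _) (cp_Q_le_adj h.1 hμ)))
      (le_normalizer_of_between (hc.trans h2) h1)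
      ((res_le _).trans ((pec_le _).trans (stab_le_norm_vIter hgen _ μ)))
  exact cp_Z_ne_bot h.1 μ (eq_bot_iff.2 (h3 ▸ le_vIter (by simp)))

end Cfsg.Agent.S2857
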