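import Cfsg.Statements.S2859
import Cfsg.Agent.Lib.Amalg.WClosed

set_option autoImplicit false
open Cfsg

namespace Cfsg.Agent.S2859

open Subgroup Cfsg.Lib.Amalg
open Cfsg.Lib.Core hiding isPGroup_subgroupOf isPGroup_subgroupOf_iff isPGroup_map_subtype_iff isPGroup_zpowers_of_orderOf
open scoped commutatorElement

theorem aux {G : Type*} [Group G] [Finite G] {p : ℕ} [Fact p.Prime] {Q Hc H₁ H₂ K₁ : Subgroup G}
    (h : WC p Q ⊤) (hHc : Hc = weakClosure Q ⊤)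
    (hn₁ : H₁ ≤ Hc ∧ Hc ≤ normalizer (H₁ : Set G)) (hn₂ : H₂ ≤ Hc ∧ Hc ≤ normalizer (H₂ : Set G))
    (hprod : H₁ ⊔ H₂ = Hc) (hcomm : ⁅H₁, H₂⁆ ≤ normalizer (Q : Set G))
    (hK₁ : K₁ = pResidualOf p (weakClosure Q (H₁ ⊔ Q))) :
    (⁅K₁, Q⁆ = K₁ ∧ ⁅K₁, H₁⁆ = K₁ ∧ K₁ ≤ ⁅H₁, H₁⁆ ∧ Hc ≤ normalizer (K₁ : Set G)) ∧
      ⁅K₁, H₂⁆ ≤ pCoreOf p Hc ∧ H₁ ≤ K₁ ⊔ (Hc ⊓ normalizer (Q : Set G)) := by
  have hQ : Q ≤ Hc := hHc ▸ le_wc le_top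
  rw [h.wc_eq_ncl le_sup_right] at hK₁
  have h' := h.mono (le_sup_right : Q ≤ H₁ ⊔ Q) le_top
  have k1 : ⁅K₁, Q⁆ = K₁ := hK₁ ▸ h'.comm_res
  have k0 : pResidualOf p K₁ = K₁ := by rw [hK₁, res_res]
  have k2 : K₁ ≤ H₁ := hK₁ ▸ res_le_of_le_sup h.isPGroup (hQ.trans hn₁.2) (ncl_le le_sup_right)
  have k3 : H₁ ≤ normalizer (K₁ : Set G) :=
    hK₁ ▸ le_sup_left.trans ((le_normalizer_iSup_cj _ _).trans (norm_le_norm_res _))
  set D := ⁅H₁, H₂⁆ with hD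
  have d1 : Hc ≤ normalizer (D : Set G) := le_normalizer_commutator hn₁.2 hn₂.2
  have d2 := le_norm_op_of_le (p := p) d1
  have d3 : D ≤ H₁ := comm_le_left (hn₂.1.trans hn₁.2)
  have d4 : ⁅D, Hc⁆ ≤ pCoreOf p D := by
    have e : Hc = ncl Q Hc := by
      rw [← h.wc_eq_ncl hQ, hHc, wc_wc]
    conv_lhs => rw [e]
    exact comm_ncl_le ((comm_le_inf (hQ.trans d1) hcomm).trans (le_op inf_le_left
      (le_normalizer_inf le_normalizer hcomm) (h.isPGroup.to_le inf_le_right))) d1 d2 (hQ.trans d2)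
  have d5 : ∀ A : Subgroup G, H₁ ≤ normalizer (A : Set G) → K₁ ≤ A ⊔ pCoreOf p D → K₁ ≤ A := fun A a b =>
    k0.ge.trans (res_le_of_le_sup (op_isPGroup D) ((op_le D).trans (d3.trans a)) b)
  have n1 : Hc ≤ normalizer ((⁅H₁, H₁⁆ : Subgroup G) : Set G) := le_normalizer_commutator hn₁.2 hn₁.2
  have k4 : K₁ ≤ ⁅H₁, H₁⁆ := by
    have a1 : K₁ ≤ ⁅H₁, H₁⁆ ⊔ D := k1.ge.trans ((commutator_mono k2 (hQ.trans hprod.ge)).trans
      (comm_sup_le' le_sup_left le_sup_right (hn₁.1.trans (le_normalizer_sup n1 d1))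
        (hn₂.1.trans (le_normalizer_sup n1 d1))))
    have n2 := le_normalizer_sup n1 d2
    exact d5 _ (hn₁.1.trans n1) (k1.ge.trans ((commutator_mono a1 hQ).trans (comm_sup_le
      ((comm_le_left n1).trans le_sup_left) (d4.trans le_sup_right)
      ((comm_le_of_le hn₁.1 hn₁.1).trans n2) ((d3.trans hn₁.1).trans n2))))
  have k5 : ⁅K₁, H₂⁆ ≤ pCoreOf p D := (commutator_mono k4 le_rfl).trans
    (Lib.PGrp.three_subgroups_of_le_normalizer (hn₁.1.trans d2) (hn₁.1.trans d2) (hn₂.1.trans d2)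
      ((commutator_mono le_rfl hn₁.1).trans d4)
      ((commutator_mono (commutator_comm _ _).le hn₁.1).trans d4))
  have k6 : H₂ ≤ normalizer (K₁ : Set G) := by
    have a1 : H₂ ≤ normalizer ((K₁ ⊔ pCoreOf p D : Subgroup G) : Set G) :=
      le_normalizer_of_comm_le (comm_sup_le (k5.trans le_sup_right)
        ((comm_le_left (hn₂.1.trans d2)).trans le_sup_right) (le_normalizer_of_le le_sup_left)
        (le_normalizer_of_le le_sup_right))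
    have := a1.trans (norm_le_norm_res (p := p) _)
    rwa [res_sup_eq_of_isPGroup (op_isPGroup D) ((op_le D).trans (d3.trans k3)), k0] at this
  have n3 : H₁ ≤ normalizer ((⁅K₁, H₁⁆ : Subgroup G) : Set G) := right_le_normalizer_comm _ _
  refine ⟨⟨k1, le_antisymm (comm_le_left k3) (d5 _ n3 (k1.ge.trans
    ((commutator_mono le_rfl (hQ.trans hprod.ge)).trans (comm_sup_le' le_sup_left
      (k5.trans le_sup_right) (le_normalizer_sup n3 (hn₁.1.trans d2)) (le_normalizer_sup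
        (le_normalizer_commutator k6 (hn₂.1.trans hn₁.2)) (hn₂.1.trans d2)))))), k4,
    hprod ▸ sup_le k3 k6⟩, k5.trans (op_le_op (d3.trans hn₁.1) d1), ?_⟩
  exact le_sup_left.trans (h'.le_res_sup.trans (hK₁ ▸ sup_le_sup_left
    (inf_le_inf_right _ (sup_le hn₁.1 hQ)) _))

/-- Let Q be a nontrivial p-subgroup of the finite group H that is a weakly closed subgroup, H° the weak closure of Q in H (generated by the conjugates of Q) and H_∘ = O^p(H°). Suppose H₁, H₂ are normal subgroups of H° with H° = H₁H₂ and [H₁, H₂] ≤ N_H(Q), and put Kᵢ = O^p of the weak closure of Q in HᵢQ. Then for i = 1, 2: Kᵢ = [Kᵢ, Q] = [Kᵢ, Hᵢ] ≤ Hᵢ′ and Kᵢ is normal in H°; H_∘ = K₁K₂; and [K₁, K₂] ≤ O_p(H°). -/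
theorem result {G : Type*} [Group G] [Finite G] {p : ℕ} [Fact p.Prime] (Q : Subgroup G) (hQp : IsPGroup p ↥Q) (hQ1 : Q ≠ ⊥) (hwc : Cfsg.IsWeaklyClosedSubgroup p Q) (Hc : Subgroup G) (hHc : Hc = Cfsg.weakClosure Q ⊤) (H₁ H₂ : Subgroup G) (hn₁ : H₁ ≤ Hc ∧ Hc ≤ Subgroup.normalizer ((H₁ : Subgroup G) : Set G)) (hn₂ : H₂ ≤ Hc ∧ Hc ≤ Subgroup.normalizer ((H₂ : Subgroup G) : Set G)) (hprod : H₁ ⊔ H₂ = Hc) (hcomm : ⁅H₁, H₂⁆ ≤ Subgroup.normalizer ((Q : Subgroup G) : Set G)) (K₁ K₂ : Subgroup G) (hK₁ : K₁ = ((Cfsg.pResidual p ↥(Cfsg.weakClosure Q (H₁ ⊔ Q))).map ((Cfsg.weakClosure Q (H₁ ⊔ Q))).subtype)) (hK₂ : K₂ = ((Cfsg.pResidual p ↥(Cfsg.weakClosure Q (H₂ ⊔ Q))).map ((Cfsg.weakClosure Q (H₂ ⊔ Q))).subtype)) : (⁅K₁, Q⁆ = K₁ ∧ ⁅K₁, H₁⁆ = K₁ ∧ K₁ ≤ ⁅H₁, H₁⁆ ∧ Hc ≤ Subgroup.normalizer ((K₁ : Subgroup G) : Set G)) ∧ (⁅K₂, Q⁆ = K₂ ∧ ⁅K₂, H₂⁆ = K₂ ∧ K₂ ≤ ⁅H₂,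 H₂⁆ ∧ Hc ≤ Subgroup.normalizer ((K₂ : Subgroup G) : Set G)) ∧ K₁ ⊔ K₂ = ((Cfsg.pResidual p ↥Hc).map (Hc).subtype) ∧ ⁅K₁, K₂⁆ ≤ (Cfsg.pCoreOf p Hc) := by
  have h := wc_top_iff.2 hwc
  obtain ⟨a1, a2, a3⟩ := aux h hHc hn₁ hn₂ hprod hcomm hK₁
  obtain ⟨b1, -, b3⟩ := aux h hHc hn₂ hn₁ ((sup_comm _ _).trans hprod) (commutator_comm H₁ H₂ ▸ hcomm) hK₂
  have hQ : Q ≤ Hc := hHc ▸ le_wc le_top
  refine ⟨a1, b1, le_antisymm (sup_le ?_ ?_) ?_,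
    (commutator_mono le_rfl (b1.2.2.1.trans (comm_le_of_le le_rfl le_rfl))).trans a2⟩
  · rw [hK₁]; exact res_mono ((wc_le _ _).trans (sup_le hn₁.1 hQ))
  · rw [hK₂]; exact res_mono ((wc_le _ _).trans (sup_le hn₂.1 hQ))
  · have n := le_normalizer_sup a1.2.2.2 b1.2.2.2
    refine res_le_of_le_sup hQp (hQ.trans n) ?_
    have e : Hc = ncl Q Hc := by
      rw [← h.wc_eq_ncl hQ, hHc, wc_wc]
    refine e.le.trans (iSup_cj_le le_sup_right (hprod.ge.trans ((sup_le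
      (a3.trans (sup_le_sup_right le_sup_left _)) (b3.trans (sup_le_sup_right le_sup_right _))).trans
      (sup_le (le_normalizer_of_le le_sup_left) (le_normalizer_sup (inf_le_left.trans n) inf_le_right)))))

end Cfsg.Agent.S2859
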