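import Cfsg.Statements.S2861
import Cfsg.Agent.Lib.Amalg.FrakL2

set_option autoImplicit false
open Cfsg

namespace Cfsg.Agent.S2861

open Subgroup Cfsg.Lib.Amalg
open Cfsg.Lib.Core hiding isPGroup_subgroupOf isPGroup_subgroupOf_iff isPGroup_map_subtype_iff isPGroup_zpowers_of_orderOf
open scoped commutatorElement

/-- Standing hypotheses: G a finite group, S a Sylow p-subgroup, Q a nontrivial large p-subgroup of G contained in S, M a subgroup containing S with the basic property (M ∈ 𝔐_G(S)); Y_M the largest p-reduced normal subgroup of M and M† = M·C_G(Y_M). Let L ∈ 𝔏_G(Y_M) (L ∈ 𝔏_G(Y_M): Y_M ≤ L; O_p(L) is the normal closure in L of Y_M ∩ O_p(L) and normalizes Y_M; L is Y_M-minimal of characteristic p with N_L(Y_M) its unique maximal subgroup over Y_M; and L/O_p(L) ≅ SL₂(q) with q = |Y_M : Y_M ∩ O_p(L)|, or p = 2 and L/O_p(L) is a Suzuki group Sz(q) or dihedral of order 2r, r an odd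 prime) and A = O_p(L). Then Y_M·A/A is the unique nontrivial elementary abelian normal p-subgroup of N_L(Y_M)/A. -/
theorem result {G : Type*} [Group G] [Finite G] {p : ℕ} [Fact p.Prime] (S : Sylow p G) (Q : Subgroup G) (hQp : IsPGroup p ↥Q) (hQ1 : Q ≠ ⊥) (hQS : Q ≤ (S : Subgroup G)) (hQ : Cfsg.IsLarge Q) (M : Subgroup G) (hSM : (S : Subgroup G) ≤ M) (hM : Cfsg.IsInFrakM p M) (L : Subgroup G) (hL : Cfsg.IsInFrakL p M L) (NL : Subgroup G) (hNL : NL = L ⊓ Subgroup.normalizer (((Cfsg.largestPReducedOf p M) : Subgroup G) : Set G)) [hn : (((Cfsg.pCoreOf p L)).subgroupOf NL).Normal] : let Ybar : Subgroup (↥NL ⧸ ((Cfsg.pCoreOf p L)).subgroupOf NL) := (((Cfsg.largestPReducedOf p M)).subgroupOf NL).map (QuotientGroup.mk' (((Cfsg.pCoreOf p L)).subgroupOf NL)); Ybar ≠ ⊥ ∧ Ybar.Normal ∧ Cfsg.IsElementaryAbelian p Ybar ∧ ∀ (V : Subgroup (↥NL ⧸ ((Cfsg.pCoreOf p L)).subgroupOf NL)), V.Normal → Cfsg.IsElementaryAbelian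 p V → V ≠ ⊥ → V = Ybar := by
  intro Ybar
  obtain ⟨K, _, _, π, st, h1, -, h4⟩ := FrakL.frakL hL
  have hYL : largestPReducedOf p M ≤ L := hL.1
  set Y := largestPReducedOf p M with hY
  have ea : IsElementaryAbelian p Y := (pRed_Y M).elemAb
  have hN : NL ≤ L := hNL ▸ inf_le_left
  have hN' : NL ≤ normalizer (Y : Set G) := hNL ▸ inf_le_right
  have hYN : Y ≤ NL := hNL ▸ le_inf hYL le_normalizer
  set σ := π.comp (inclusion hN) with hσ
  have ker : ∀ x : NL, σ x = 1 ↔ (x : NL ⧸ (pCoreOf p L).subgroupOf NL) = 1 := fun x => by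
    rw [QuotientGroup.eq_one_iff, hσ, MonoidHom.comp_apply, ← MonoidHom.mem_ker, st.ker,
      ← op_subgroupOf_self L]
    rfl
  have eq : ∀ x y : NL, σ x = σ y ↔ (x : NL ⧸ (pCoreOf p L).subgroupOf NL) = y := fun x y => by
    rw [← inv_mul_eq_one, ← map_inv, ← map_mul, ker, QuotientGroup.mk_mul, QuotientGroup.mk_inv,
      inv_mul_eq_one]
  have nrm : ∀ k, k ∈ normalizer ((Y.subgroupOf L).map π : Set K) ↔ ∃ x, σ x = k := fun k => by
    obtain ⟨k, rfl⟩ := st.surj k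
    rw [st.mem_norm, normalizer_subgroupOf hYL]
    refine ⟨fun e => ⟨⟨k, hNL ▸ ⟨k.2, e⟩⟩, rfl⟩, fun ⟨x, e⟩ => ?_⟩
    rw [← normalizer_subgroupOf hYL, ← st.mem_norm, ← e, hσ, MonoidHom.comp_apply, st.mem_norm,
      normalizer_subgroupOf hYL]
    exact hN' x.2
  have hm : ∀ x : NL, (x : NL ⧸ (pCoreOf p L).subgroupOf NL) ∈ Ybar ↔ σ x ∈ (Y.subgroupOf L).map π :=
    fun x => ⟨fun ⟨y, hy, e⟩ => ⟨inclusion hN y, hy, (eq _ _).2 e⟩,
      fun ⟨y, hy, e⟩ => ⟨⟨y, hYN hy⟩, hy, (eq _ _).1 e⟩⟩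
  refine ⟨fun e => st.qd.ne (eq_bot_iff.2 ?_), ?_, elemAb_map ?_ _, fun V hV hVe hne => ?_⟩
  · rintro _ ⟨y, hy, rfl⟩
    exact (ker ⟨y, hYN hy⟩).2 (e.le ⟨⟨y, hYN hy⟩, hy, rfl⟩)
  · exact ((normal_subgroupOf_iff_le_normalizer hYN).2 hN').map _ (QuotientGroup.mk'_surjective _)
  · exact ⟨⟨⟨fun a b => Subtype.ext (Subtype.ext (elemAb_le_cent ea b.2 _ a.2))⟩⟩,
      fun a ha => Subtype.ext (ea.2 _ ha)⟩
  · have := h4 ((V.comap (QuotientGroup.mk' _)).map σ) ?_ ?_ ?_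
    · ext v
      obtain ⟨v, rfl⟩ := QuotientGroup.mk_surjective v
      rw [hm, ← this]
      exact ⟨fun e => ⟨v, e, rfl⟩, fun ⟨w, hw, e⟩ => (eq _ _).1 e ▸ hw⟩
    · rintro _ ⟨v, hv, rfl⟩
      refine h1 _ ((nrm _).2 ⟨v, rfl⟩) ?_
      rw [← map_pow, ker, QuotientGroup.mk_pow]
      exact hVe.2 _ hv
    · refine fun e => hne (eq_bot_iff.2 fun v hv => ?_)
      obtain ⟨v, rfl⟩ := QuotientGroup.mk_surjective v
      exact (ker v).1 (e.le ⟨v, hv, rfl⟩)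
    · intro k hk
      obtain ⟨x, rfl⟩ := (nrm k).1 hk
      refine mem_normalizer_of_cj_le (cj_le_iff'.2 ?_)
      rintro _ ⟨v, hv, rfl⟩
      exact ⟨x * v * x⁻¹, (hV.comap _).conj_mem v hv x, by simp⟩

end Cfsg.Agent.S2861
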