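import Cfsg.Statements.S2862
import Cfsg.Agent.Lib.Amalg.FrakM

set_option autoImplicit false
open Cfsg

namespace Cfsg.Agent.S2862

open Subgroup Cfsg.Lib.Amalg
open Cfsg.Lib.Core hiding isPGroup_subgroupOf isPGroup_subgroupOf_iff isPGroup_map_subtype_iff isPGroup_zpowers_of_orderOf
open scoped commutatorElement

theorem res_eq_bot_of_cent {G : Type*} [Group G] [Finite G] {p : ℕ} [Fact p.Prime] {H K : Subgroup G}
    (hH : Lib.Amalg.CharP p H) (hK : K ≤ H)
    (h : pResidualOf p K ≤ centralizer ((⁅pCoreOf p H, pResidualOf p H⁆ : Subgroup G) : Set G)) :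
    IsPGroup p K :=
  isPGroup_of_res_le (op_isPGroup H) (hH.le ((res_le K).trans hK) (res_le_cent_of_comm_le_cent
    (op_isPGroup H) (hK.trans (le_norm_op H)) ((commutator_mono le_rfl (res_mono hK)).trans
      (le_cent_symm h))))

/-- Standing hypotheses: G a finite group, S a Sylow p-subgroup, Q a nontrivial large p-subgroup of G contained in S, M a subgroup containing S with the basic property (M ∈ 𝔐_G(S)); Y_M the largest p-reduced normal subgroup of M and M† = M·C_G(Y_M). Suppose Y_M is char-p-tall and asymmetric in G, H ∈ ℌ_G(O_p(M)), and L is minimal among the subgroups of H containing Y_M with Y_M ≰ O_p(L). Then H = ⟨L, O_p(M)⟩ = ⟨hY_Mh⁻¹, O_p(M)⟩ for every h ∈ L outside N_L(Y_M); L is Y_M-minimal and of characteristic p, with N_L(Y_M) the unique maximal subgroup of L containing Y_M; [V, O^p(L)] ≠ 1 for every noncentral chief factor V/W of H inside O_p(H) (that is, O^p(L) does not act trivially on V/W); and the normal closure of O_p(L) ∩ Y_M in L lies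 in O_p(H). -/
theorem result {G : Type*} [Group G] [Finite G] {p : ℕ} [Fact p.Prime] (S : Sylow p G) (Q : Subgroup G) (hQp : IsPGroup p ↥Q) (hQ1 : Q ≠ ⊥) (hQS : Q ≤ (S : Subgroup G)) (hQ : Cfsg.IsLarge Q) (M : Subgroup G) (hSM : (S : Subgroup G) ≤ M) (hM : Cfsg.IsInFrakM p M) (htall : Cfsg.IsCharPTall p (Cfsg.largestPReducedOf p M)) (hasym : ¬ Cfsg.IsSymmetricIn (Cfsg.largestPReducedOf p M)) (H : Subgroup G) (hH : Cfsg.IsInFrakH p M H) (L : Subgroup G) (hLH : L ≤ H) (hYL : (Cfsg.largestPReducedOf p M) ≤ L) (hYO : ¬ (Cfsg.largestPReducedOf p M) ≤ (Cfsg.pCoreOf p L)) (hmin : ∀ L' : Subgroup G, L' ≤ L → (Cfsg.largestPReducedOf p M) ≤ L' → ¬ (Cfsg.largestPReducedOf p M) ≤ (Cfsg.pCoreOf p L') → L' = L) : (L ⊔ (Cfsg.pCoreOf p M) = H ∧ ∀ h ∈ L, h ∉ Subgroup.normalizer (((Cfsg.largestPReducedOf p M) : Subgroup G) : Set G) → (((Cfsg.largestPReducedOf p M) : Subgroup G).map (MulAut.conj (h : G)).toMonoidHom) ⊔ (Cfsg.pCoreOf p M) = H) ∧ (Cfsg.IsMinimalOver (((Cfsg.largestPReducedOf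 p M)).subgroupOf L) ∧ Subgroup.centralizer (Cfsg.pCore p ↥L : Set ↥L) ≤ Cfsg.pCore p ↥L ∧ L ⊓ Subgroup.normalizer (((Cfsg.largestPReducedOf p M) : Subgroup G) : Set G) < L ∧ ∀ X : Subgroup G, (Cfsg.largestPReducedOf p M) ≤ X → X < L → X ≤ L ⊓ Subgroup.normalizer (((Cfsg.largestPReducedOf p M) : Subgroup G) : Set G)) ∧ (∀ V W' : Subgroup G, V ≤ (Cfsg.pCoreOf p H) → H ≤ Subgroup.normalizer ((V : Subgroup G) : Set G) → H ≤ Subgroup.normalizer ((W' : Subgroup G) : Set G) → W' < V → (∀ Z' : Subgroup G, H ≤ Subgroup.normalizer ((Z' : Subgroup G) : Set G) → W' ≤ Z' → Z' ≤ V → Z' = W' ∨ Z' = V) → ¬ ⁅V, H⁆ ≤ W' → ¬ ⁅V, ((Cfsg.pResidual p ↥L).map (L).subtype)⁆ ≤ W') ∧ (Subgroup.normalClosure (((((Cfsg.pCoreOf p L) ⊓ (Cfsg.largestPReducedOf p M)).subgroupOf L : Subgroup ↥L)) : Set ↥L)).map L.subtype ≤ (Cfsg.pCoreOf p H) := by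
  have h := fm_of_large S hQp hQ1 hQ hSM hM
  have hw := h.wc hasym
  have hY := pRed_Y (p := p) M
  have hC := frakH_charP hH
  set Y := largestPReducedOf p M with hYd
  set O := pCoreOf p M with hOd
  set E := pCoreOf p H with hEd
  have hOH : O ≤ H := hH.2.1
  have hYO' : Y ≤ O := hY.le_op
  have hOY : O ≤ centralizer (Y : Set G) := hY.op_le_cent
  have nOY : normalizer (O : Set G) ≤ normalizer (Y : Set G) := h.norm_op_le
  have nE : H ≤ normalizer (E : Set G) := le_norm_op H
  have hEY : E ≤ normalizer (Y : Set G) := (hw.op_le_norm hOH le_top).trans nOY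
  have hEY' : ∀ x ∈ H, E ≤ normalizer (cj x Y : Set G) := fun x hx => by
    rw [← cj_normalizer, ← cj_of_mem_normalizer (nE hx)]; exact cj_mono x hEY
  have hP : ∀ P, Y ≤ P → P < L → Y ≤ pCoreOf p P := fun P a b => by
    by_contra c; exact b.ne (hmin P b.le a c)
  have hcj : ∀ x ∈ L, cj x Y ≤ L := fun x hx => cj_le_of_le_of_mem hYL hx
  have pg : ∀ (x : G) (P : Subgroup G), cj x Y ≤ P → Y ≤ pCoreOf p P →
      IsPGroup p (Y ⊔ cj x Y : Subgroup G) := fun x P a b =>
    (isPGroup_sup_of_le_normalizer' (op_isPGroup P) (isPGroup_cj x hY.isPGroup)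
      (a.trans (le_norm_op P))).to_le (sup_le_sup_right b _)
  have g1 : ∀ x ∈ L, ¬ IsPGroup p (Y ⊔ cj x Y : Subgroup G) → Y ⊔ cj x Y = L ∧ cj x Y ⊔ O = H :=
    fun x hx c => ⟨by
      by_contra e
      exact c (pg x _ le_sup_right (hP _ le_sup_left
        (lt_of_le_of_ne (sup_le hYL (hcj x hx)) e))), by
      by_contra e
      exact c (pg x _ le_sup_left (hH.2.2.2 _ le_sup_right
        (lt_of_le_of_ne (sup_le ((hcj x hx).trans hLH) hOH) e)))⟩
  have g2 : ∀ x ∈ L, ¬ IsPGroup p (Y ⊔ cj x Y : Subgroup G) → Y ⊔ cj x O = H := fun x hx c => by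
    have := (g1 x⁻¹ (inv_mem hx) fun d => c (by
      rwa [← isPGroup_cj_iff (g := x), cj_sup, cj_cj_inv, sup_comm] at d)).2
    rw [← cj_of_mem (hLH hx), ← this, cj_sup, cj_cj_inv]
  obtain ⟨x, hx, hxp⟩ : ∃ x ∈ L, ¬ IsPGroup p (Y ⊔ cj x Y : Subgroup G) := by
    by_contra c
    push Not at c
    exact hYO (baer_suzuki_of_le Fact.out hYL c)
  obtain ⟨x1, x2⟩ := g1 x hx hxp
  have x3 := g2 x hx hxp
  set R := pResidualOf p H with hR
  set E₀ := ⁅E, R⁆ with hE₀
  have e1 : E₀ ≤ E := comm_le_left ((res_le H).trans nE)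
  have e2 : H ≤ normalizer (E₀ : Set G) := le_normalizer_commutator nE (le_norm_res H)
  have e3 : ⁅E₀, R⁆ = E₀ := comm_res_comm_res (op_isPGroup H) nE
  have e4 : IsPGroup p E₀ := (op_isPGroup H).to_le e1
  -- `E₀ = (E₀ ∩ Y^a) C_{E₀}(Y^b)` whenever `H = ⟨Y^a, O^b⟩`
  have dec : ∀ a ∈ H, ∀ b ∈ H, cj a Y ⊔ cj b O = H →
      E₀ ≤ (E₀ ⊓ cj a Y) ⊔ (E₀ ⊓ centralizer (cj b Y : Set G)) := fun a ha b hb e => by
    have l : (E₀ ⊓ cj a Y) ⊔ (E₀ ⊓ centralizer (cj b Y : Set G)) ≤ E₀ := sup_le inf_le_left inf_le_left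
    have ob : cj b O ≤ H := cj_le_of_le_of_mem hOH hb
    have yb := (cj_mono b hYO').trans ob
    have ya : cj a Y ≤ H := cj_le_of_le_of_mem (hYO'.trans hOH) ha
    have oc : cj b O ≤ centralizer (cj b Y : Set G) := by rw [← cj_centralizer]; exact cj_mono b hOY
    have c1 : ⁅E₀, cj a Y⁆ ≤ E₀ ⊓ cj a Y := comm_le_inf (ya.trans e2) (e1.trans (hEY' a ha))
    have c2 : ⁅E₀, cj b O⁆ ≤ E₀ ⊓ centralizer (cj b Y : Set G) := le_inf (comm_le_left (ob.trans e2))
      (comm_le_cent_of_normal (e1.trans (hEY' b hb)) oc)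
    refine e3.ge.trans ((commutator_mono le_rfl ((res_le H).trans e.ge)).trans (comm_sup_le'
      (c1.trans le_sup_left) (c2.trans le_sup_right) (le_normalizer_of_between (c1.trans le_sup_left) l)
      (le_normalizer_of_between (c2.trans le_sup_right) l)))
  have d1 := dec 1 (one_mem _) x (hLH hx) (by rwa [cj_one])
  have d2 := dec x (hLH hx) 1 (one_mem _) (by rwa [cj_one])
  rw [cj_one] at d1 d2
  set X := E₀ ⊓ Y with hX
  set F := E₀ ⊓ centralizer (Y : Set G) with hF
  have hXF : X ≤ F := inf_le_inf_left _ (elemAb_le_cent hY.elemAb)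
  have nX : E ≤ normalizer (X : Set G) := le_normalizer_inf ((op_le H).trans e2) hEY
  have z1 : cj x Y ⊓ centralizer (Y : Set G) ≤ Y ⊓ centralizer (H : Set G) := by
    have : cj x Y ⊓ centralizer (Y : Set G) ≤ centralizer (H : Set G) := by
      rw [← x3, centralizer_sup]
      refine le_inf inf_le_right (inf_le_left.trans (le_cent_symm ?_))
      rw [← cj_centralizer]; exact cj_mono x hOY
    refine le_inf (fun y hy => ?_) this
    have e := mem_cj.1 hy.1
    rwa [mul_assoc, ← this hy x (hLH hx), inv_mul_cancel_left] at e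
  have f1 : F ≤ X ⊔ (E₀ ⊓ centralizer (L : Set G)) := by
    refine (le_inf (inf_le_left.trans d1) le_rfl).trans ?_
    rw [sup_inf_of_le_normalizer' hXF ((inf_le_left.trans e1).trans nX), ← x1, centralizer_sup]
    exact sup_le_sup_left (le_inf (inf_le_left.trans inf_le_left)
      (le_inf (inf_le_right.trans inf_le_right) (inf_le_left.trans inf_le_right))) _
  have key : ∀ k ∈ L, Y ≤ centralizer (cj k Y : Set G) → k ∈ normalizer (Y : Set G) := by
    intro k hk hc
    have a0 : X ⊔ (E₀ ⊓ cj x Y) ≤ E₀ := sup_le inf_le_left inf_le_left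
    have a1 : L ≤ normalizer ((X ⊔ (E₀ ⊓ cj x Y) : Subgroup G) : Set G) := by
      rw [← x1]
      exact sup_le (le_normalizer_of_between ((comm_le_inf ((hYL.trans hLH).trans e2)
        (e1.trans hEY)).trans le_sup_left) a0) (le_normalizer_of_between ((comm_le_inf
          (((hcj x hx).trans hLH).trans e2) (e1.trans (hEY' x (hLH hx)))).trans le_sup_right) a0)
    have a2 : k ∈ normalizer (X : Set G) := mem_normalizer_of_cj_le (by
      refine (le_inf (cj_le_of_le_of_mem_normalizer le_sup_left (a1 hk))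
        ((cj_mono k inf_le_right).trans (le_cent_symm hc))).trans ?_
      rw [sup_inf_of_le_normalizer' (hXF.trans inf_le_right) ((inf_le_left.trans e1).trans nX)]
      exact sup_le le_rfl (le_inf (inf_le_left.trans inf_le_left)
        ((inf_le_inf_right _ inf_le_right).trans (z1.trans inf_le_left))))
    have a3 : ⁅F, zpowers k⁆ ≤ X := (commutator_mono f1 le_rfl).trans (comm_sup_le
      (comm_le_left (zpowers_le.2 a2)) ((comm_eq_bot_iff.2 (inf_le_right.trans
        (centralizer_anti (zpowers_le.2 hk)))).le.trans bot_le) le_normalizer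
      ((inf_le_left.trans e1).trans nX))
    have a4 : zpowers k ≤ normalizer (F : Set G) := le_normalizer_of_comm_le (a3.trans hXF)
    have oF : O ≤ normalizer (F : Set G) :=
      le_normalizer_inf (hOH.trans e2) (le_normalizer_of_le hOY)
    have oX : O ≤ centralizer (X : Set G) := hOY.trans (centralizer_anti inf_le_right)
    have oE : ⁅E₀, O⁆ ≤ F := le_inf (comm_le_left (hOH.trans e2))
      (comm_le_cent_of_normal (e1.trans hEY) hOY)
    have kk := mem_zpowers k
    set J := O ⊔ zpowers k with hJ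
    have jH : J ≤ H := sup_le hOH (zpowers_le.2 (hLH hk))
    have jF : J ≤ normalizer (F : Set G) := sup_le oF a4
    have jX : J ≤ normalizer (X : Set G) := sup_le (oX.trans (cent_le_norm _)) (zpowers_le.2 a2)
    have b1 : ⁅F, ncl (zpowers k) J⁆ ≤ X := comm_ncl_le a3 jF jX (zpowers_le.2 a2)
    have b2 : ⁅E₀, ncl O J⁆ ≤ F := comm_ncl_le oE (jH.trans e2) jF oF
    have b3 : ncl O J ≤ centralizer (X : Set G) := iSup_cj_le oX (le_normalizer_centralizer jX)
    have b4 : pResidualOf p (ncl O J) ≤ ncl (zpowers k) J := res_le_of_le_sup (op_isPGroup M)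
      (le_sup_left.trans (le_normalizer_iSup_cj _ _)) ((ncl_le le_sup_left).trans
        (sup_le le_sup_right (le_sup_of_le_left (le_iSup_cj _ _))))
    have b0 : ncl O J ≤ J := ncl_le le_sup_left
    have b5 : pResidualOf p (ncl O J) ≤ centralizer (F : Set G) := res_le_cent_of_comm_le_cent
      (e4.to_le inf_le_left) (b0.trans jF) ((commutator_mono le_rfl b4).trans
        (b1.trans (le_cent_symm ((res_le _).trans b3))))
    have b6 := res_eq_bot_of_cent hC (b0.trans jH) (res_le_cent_of_comm_le_cent e4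
      (b0.trans (jH.trans e2)) ((commutator_mono le_rfl (res_le _)).trans (b2.trans (le_cent_symm b5))))
    exact nOY (hw.mem b6 (le_iSup_cj _ _) (mem_top k) (cj_le_ncl (mem_sup_right kk)))
  have wY : WC p Y L := wc_of_comm hY.isPGroup hYL fun k hk a b => key k hk (asym_comm' hasym b a)
  have u1 : L ⊓ normalizer (Y : Set G) < L := inf_lt_left.2 fun c => hYO (le_op hYL c hY.isPGroup)
  have u2 : ∀ X, Y ≤ X → X < L → X ≤ L ⊓ normalizer (Y : Set G) := fun X a b =>
    le_inf b.le (wY.le_norm_of_le_op (hP X a b) b.le)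
  have sn : ∀ K, Y ≤ K → SubnormalIn L K → K = L := fun K a b => by
    by_contra c
    exact hYO ((hP K a (lt_of_le_of_ne b.le c)).trans b.pCoreOf_le)
  have lo : L ⊔ O = H := le_antisymm (sup_le hLH hOH) (x2.ge.trans (sup_le_sup_right (hcj x hx) _))
  refine ⟨⟨lo, fun k hk c => (g1 k hk fun d => c (wY.wc k hk d)).2⟩,
    ⟨(minOver_subgroupOf_iff hYL).2 ⟨sn _ (le_iSup_cj _ _) (.of_le_normalizer (ncl_le hYL)
      (le_normalizer_iSup_cj _ _)), _, le_inf hYL le_normalizer, u1, u2⟩,
      chp_iff.1 (hC.of_op_le_normalizer hLH (x1 ▸ le_normalizer_sup hEY (hEY' x (hLH hx)))), u1, u2⟩,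
    fun V W a b c d e f g => f ?_, ?_⟩
  · have hL : pResidualOf p L ⊔ Y = L :=
      sn _ le_sup_right (subnormalIn_of_res_le le_sup_left (sup_le (res_le L) hYL))
    have btw : ∀ A B : Subgroup G, O ≤ normalizer (A : Set G) → A ≤ H → ⁅V, B⁆ ≤ W → B ⊔ A ⊔ O = H →
        ⁅V, A⁆ ⊔ W = W ∨ ⁅V, A⁆ ⊔ W = V := fun A B a1 a2 a3 a4 => by
      have l : ⁅V, A⁆ ⊔ W ≤ V := sup_le (comm_le_left (a2.trans b)) d.le
      exact e _ (a4.ge.trans (sup_le (sup_le (le_normalizer_of_between (a3.trans le_sup_right) l)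
        (le_normalizer_of_between le_sup_left l)) (le_normalizer_sup (le_normalizer_commutator
          (hOH.trans b) a1) (hOH.trans c)))) le_sup_right l
    have fin : ⁅V, O⁆ ≤ W → ⁅V, H⁆ ≤ W := fun i =>
      frakH_ncl hH ▸ comm_ncl_le i b c (hOH.trans c)
    rcases btw Y _ (hOY.trans (cent_le_norm _)) (hYL.trans hLH) g ((congrArg (· ⊔ O) hL).trans lo) with i | i
    · have i1 : ⁅V, R⁆ ≤ W := (commutator_mono le_rfl ((frakH_comm hH).ge.trans
        ((commutator_mono (res_le H) le_rfl).trans (comm_le_ncl _ _)))).trans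
        (comm_ncl_le (le_sup_left.trans i.le) b c ((hYL.trans hLH).trans c))
      rcases btw O _ le_normalizer hOH i1 (by rw [sup_assoc, sup_idem]; exact frakH_res_sup hH) with j | j
      · exact fin (le_sup_left.trans j.le)
      · have hQ' : E ⊔ O ≤ H := sup_le (op_le H) hOH
        refine (d.not_ge (le_of_le_sup_comm (isPGroup_sup_of_le_normalizer' (op_isPGroup H)
          (op_isPGroup M) (hOH.trans nE)) (d.le.trans (a.trans le_sup_left)) (a.trans le_sup_left)
          (hQ'.trans c) (j.ge.trans (sup_le (le_sup_of_le_right (commutator_mono le_rfl le_sup_right))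
            le_sup_left)))).elim
    · refine fin ((commutator_mono i.ge le_rfl).trans (comm_sup_le ?_ (comm_le_left (hOH.trans c))
        (((comm_le_left ((hYL.trans hLH).trans b)).trans (a.trans (op_le H))).trans c) le_normalizer))
      exact (comm_eq_bot_iff'.2 (hOY.trans (centralizer_anti (comm_le_right (a.trans hEY))))).le.trans
        bot_le
  · rw [map_normalClosure_subgroupOf (inf_le_left.trans (op_le L))]
    refine iSup_cj_le ?_ (hLH.trans nE)
    set Y₀ := pCoreOf p L ⊓ Y with hY₀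
    have y0 : Y₀ ≤ H := inf_le_right.trans (hYL.trans hLH)
    have y1 : pCoreOf p L ≤ normalizer (cj x Y : Set G) := by
      rw [← cj_normalizer, ← cj_of_mem_normalizer (le_norm_op L hx)]
      exact cj_mono x (wY.op_le_norm hYL le_rfl)
    have nZ : H ≤ normalizer ((centralizer (H : Set G) : Subgroup G) : Set G) :=
      le_normalizer_centralizer le_normalizer
    have y2 : ⁅E₀, Y₀⁆ ≤ centralizer (H : Set G) := (commutator_mono d2 le_rfl).trans (comm_sup_le
      (le_trans (le_inf ((commutator_mono inf_le_right inf_le_left).trans (comm_le_left y1))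
        (((commutator_mono (inf_le_left.trans e1) inf_le_right).trans (comm_le_right hEY)).trans
          (elemAb_le_cent hY.elemAb))) (z1.trans inf_le_right))
      ((comm_eq_bot_iff.2 (inf_le_right.trans (centralizer_anti inf_le_right))).le.trans bot_le)
      ((inf_le_left.trans (e1.trans (op_le H))).trans nZ)
      ((inf_le_left.trans (e1.trans (op_le H))).trans nZ))
    have y3 := res_eq_bot_of_cent hC (ncl_le y0) (res_le_cent_of_comm_le e4 ((ncl_le y0).trans e2)
      (comm_ncl_le y2 e2 nZ (y0.trans nZ)) ((ncl_le y0).trans (le_centralizer_centralizer H)))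
    exact (le_iSup_cj _ _).trans (le_op (ncl_le y0) (le_normalizer_iSup_cj _ _) y3)

end Cfsg.Agent.S2862
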