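import Cfsg.Statements.S2863
import Cfsg.Agent.Lib.Amalg.FrakL2

set_option autoImplicit false
open Cfsg

namespace Cfsg.Agent.S2863

open Subgroup Cfsg.Lib.Amalg
open Cfsg.Lib.Core hiding isPGroup_subgroupOf isPGroup_subgroupOf_iff isPGroup_map_subtype_iff isPGroup_zpowers_of_orderOf
open scoped commutatorElement

/-- Standing hypotheses: G a finite group, S a Sylow p-subgroup, Q a nontrivial large p-subgroup of G contained in S, M a subgroup containing S with the basic property (M ∈ 𝔐_G(S)); Y_M the largest p-reduced normal subgroup of M and M† = M·C_G(Y_M). Let L ∈ 𝔏_G(Y_M) (L ∈ 𝔏_G(Y_M): Y_M ≤ L; O_p(L) is the normal closure in L of Y_M ∩ O_p(L) and normalizes Y_M; L is Y_M-minimal of characteristic p with N_L(Y_M) its unique maximal subgroup over Y_M; and L/O_p(L) ≅ SL₂(q) with q = |Y_M : Y_M ∩ O_p(L)|, or p = 2 and L/O_p(L) is a Suzuki group Sz(q) or dihedral of order 2r, r an odd prime), A = O_p(L), and C = C_{Y_M}(L).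 Then every element h of L whose order is not a power of p acts without nontrivial fixed points on A/C: for a ∈ A, hah⁻¹a⁻¹ ∈ C implies a ∈ C. -/
theorem result {G : Type*} [Group G] [Finite G] {p : ℕ} [Fact p.Prime] (S : Sylow p G) (Q : Subgroup G) (hQp : IsPGroup p ↥Q) (hQ1 : Q ≠ ⊥) (hQS : Q ≤ (S : Subgroup G)) (hQ : Cfsg.IsLarge Q) (M : Subgroup G) (hSM : (S : Subgroup G) ≤ M) (hM : Cfsg.IsInFrakM p M) (L : Subgroup G) (hL : Cfsg.IsInFrakL p M L) (h : G) (hh : h ∈ L) (hnp : ¬ ∃ k : ℕ, orderOf h = p ^ k) : ∀ a ∈ (Cfsg.pCoreOf p L), h * a * h⁻¹ * a⁻¹ ∈ (Cfsg.largestPReducedOf p M) ⊓ Subgroup.centralizer ((L : Subgroup G) : Set G) → a ∈ (Cfsg.largestPReducedOf p M) ⊓ Subgroup.centralizer ((L : Subgroup G) : Set G) := by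
  intro a ha e
  obtain ⟨K, _, _, π, st, h1, h3, -⟩ := FrakL.frakL hL
  obtain ⟨a, ha', rfl⟩ := ha
  have hc : ∀ x : L, (x : G) ∈ largestPReducedOf p M ⊓ centralizer (L : Set G) ↔
      x ∈ (largestPReducedOf p M).subgroupOf L ⊓ center L := fun x =>
    and_congr Iff.rfl ⟨fun e => mem_center_iff.2 fun g => Subtype.ext (e g g.2),
      fun e g hg => congrArg Subtype.val (mem_center_iff.1 e ⟨g, hg⟩)⟩
  refine (hc a).2 (st.main (x := ⟨h, hh⟩) h1 h3 (fun k e => hnp ?_) (st.ker ▸ ha') ((hc _).1 e))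
  rw [← map_pow, ← MonoidHom.mem_ker, st.ker] at e
  obtain ⟨j, hj⟩ := isPGroup_iff_mem.1 (isPGroup_pCore p L) _ e
  rw [← pow_mul, ← pow_add] at hj
  obtain ⟨i, -, hi⟩ := (Nat.dvd_prime_pow Fact.out).1
    (orderOf_dvd_of_pow_eq_one (show h ^ p ^ (k + j) = 1 from congrArg Subtype.val hj))
  exact ⟨i, hi⟩

end Cfsg.Agent.S2863
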