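import Cfsg.Statements.S2864
import Cfsg.Agent.Lib.Amalg.FrakM

set_option autoImplicit false
open Cfsg

namespace Cfsg.Agent.S2864

open Subgroup Cfsg.Lib.Amalg
open Cfsg.Lib.Core hiding isPGroup_subgroupOf isPGroup_subgroupOf_iff isPGroup_map_subtype_iff isPGroup_zpowers_of_orderOf
open scoped commutatorElement

/-- Standing hypotheses: G a finite group, S a Sylow p-subgroup, Q a nontrivial large p-subgroup of G contained in S, M a subgroup containing S with the basic property (M ∈ 𝔐_G(S)); Y_M the largest p-reduced normal subgroup of M and M† = M·C_G(Y_M). Let I be a nontrivial normal p-subgroup of M and Y ≤ O_p(M†); let L be a subgroup of G containing Y and A a normal p-subgroup of L with I ≤ A ≤ M. If [Y, A] ≤ [I, A], then Y ≤ O_p(L). -/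
theorem result {G : Type*} [Group G] [Finite G] {p : ℕ} [Fact p.Prime] (S : Sylow p G) (Q : Subgroup G) (hQp : IsPGroup p ↥Q) (hQ1 : Q ≠ ⊥) (hQS : Q ≤ (S : Subgroup G)) (hQ : Cfsg.IsLarge Q) (M : Subgroup G) (hSM : (S : Subgroup G) ≤ M) (hM : Cfsg.IsInFrakM p M) (I : Subgroup G) (hI1 : I ≠ ⊥) (hIp : IsPGroup p ↥I) (hIM : I ≤ M ∧ M ≤ Subgroup.normalizer ((I : Subgroup G) : Set G)) (Y : Subgroup G) (hY : Y ≤ (Cfsg.pCoreOf p (M ⊔ Subgroup.centralizer (((Cfsg.largestPReducedOf p M) : Subgroup G) : Set G)))) (L : Subgroup G) (hYL : Y ≤ L) (A : Subgroup G) (hAp : IsPGroup p ↥A) (hAL : A ≤ L ∧ L ≤ Subgroup.normalizer ((A : Subgroup G) : Set G)) (hIA : I ≤ A) (hAM : A ≤ M) (hc : ⁅Y, A⁆ ≤ ⁅I, A⁆) : Y ≤ (Cfsg.pCoreOf p L) := by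
  have h := fm_of_large S hQp hQ1 hQ hSM hM
  have hYp := (op_isPGroup _).to_le hY
  have n1 : L ≤ normalizer ((⁅A, A⁆ : Subgroup G) : Set G) := le_normalizer_commutator hAL.2 hAL.2
  have h1 : ⁅A, ncl Y L⁆ ≤ ⁅A, A⁆ := comm_ncl_le ((commutator_comm _ _).le.trans (hc.trans
    (commutator_mono hIA le_rfl))) hAL.2 n1 (hYL.trans n1)
  have h2 : pResidualOf p (ncl Y L) ≤ centralizer (A : Set G) := res_le_of_forall_pPrime fun B a b =>
    Lib.Coprime.le_centralizer_of_commutator_le_frattini (a.trans ((ncl_le hYL).trans hAL.2))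
      (by
        rw [← card_map_subtype]
        exact coprime_card_of_pPrime b (hAp.to_le (frattiniOf_le A)))
      ((commutator_mono le_rfl a).trans (h1.trans (commutator_le_frattiniOf hAp)))
  have h3 := h2.trans ((centralizer_anti hIA).trans ((cent_le_norm I).trans
    (h.norm_le_dag hIp hI1 hIM.2)))
  have h4 := subnormalIn_of_res_le (le_sup_left : _ ≤ pResidualOf p (ncl Y L) ⊔ Y)
    (sup_le (res_le _) (le_iSup_cj _ _))
  exact (le_inf hY le_sup_right).trans ((op_inf_le (sup_le h3 (hY.trans (op_le _)))).trans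
    (h4.pCoreOf_le.trans (op_le_op (ncl_le hYL) (le_normalizer_iSup_cj _ _))))

end Cfsg.Agent.S2864
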