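import Cfsg.Statements.S2872
import Cfsg.Agent.Lib.Amalg.Extremal
import Cfsg.Agent.Lib.Core.Frattini

set_option autoImplicit false
open Cfsg

namespace Cfsg.Agent.S2872

open Subgroup Cfsg.Lib.Amalg
open Cfsg.Lib.Core hiding isPGroup_subgroupOf isPGroup_subgroupOf_iff isPGroup_map_subtype_iff isPGroup_zpowers_of_orderOf
open scoped commutatorElement

/-- Let S be a Sylow 2-subgroup of the finite group G. Then G has a proper normal subgroup of 2-power index (O²(G) ≠ G), or Ω₁(Z(S)) is contained in the Frattini subgroup of S, or N_G(S) acts nontrivially on Ω₁(Z(S)) by conjugation. -/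
theorem result {G : Type*} [Group G] [Finite G] (S : Sylow 2 G) : Cfsg.pResidual 2 G ≠ ⊤ ∨ Cfsg.omegaOne 2 ((S : Subgroup G) ⊓ Subgroup.centralizer ((S : Subgroup G) : Set G)) ≤ (frattini ↥(S : Subgroup G)).map (S : Subgroup G).subtype ∨ ∃ g ∈ Subgroup.normalizer ((S : Subgroup G) : Set G), ∃ z ∈ Cfsg.omegaOne 2 ((S : Subgroup G) ⊓ Subgroup.centralizer ((S : Subgroup G) : Set G)), g * z * g⁻¹ ≠ z := by
  by_contra hc
  simp only [not_or, not_not, not_exists, not_and] at hc
  obtain ⟨h1, h2, h3⟩ := hc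
  refine h2 fun z hz => ?_
  have hz' := (mem_om_iff (isMulCommutative_inf_cent _)).1 hz
  by_contra hn
  obtain ⟨M, hM, hzM⟩ : ∃ M : Subgroup S, IsCoatom M ∧ (⟨z, hz'.1.1⟩ : S) ∉ M := by
    by_contra c
    exact hn ⟨⟨z, hz'.1.1⟩, mem_frattini_iff.2 fun M hM => by_contra fun t => c ⟨M, hM, t⟩, rfl⟩
  obtain ⟨g, hg, hS⟩ := thompson_transfer_extremal (Lib.Invol.pResidual_two_eq_top_iff.1 h1)
    (Lib.Invol.odd_index_sylow S) (M := M.map (S : Subgroup G).subtype)
    (by rw [relIndex, map_subtype_subgroupOf]; exact index_eq_of_isCoatom_of_isPGroup S.isPGroup' hM)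
    (orderOf_eq_prime hz'.2 fun e => hzM (by simp only [e]; exact M.one_mem)) S.isPGroup'
    fun x hx => mem_centralizer_singleton_iff.2 (hz'.1.2 x hx)
  have := h3 g⁻¹ (mem_normalizer_of_cj_le (cj_le_iff'.2 (by simpa using hS))) z hz
  rw [inv_inv] at this
  rw [this] at hg
  obtain ⟨y, hy, rfl⟩ := hg
  exact hzM hy

end Cfsg.Agent.S2872
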