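import Cfsg.Statements.S2873
import Cfsg.Agent.Lib.Amalg.Sidki
import Cfsg.Agent.Lib.Clifford.Frobenius

set_option autoImplicit false
open Cfsg

namespace Cfsg.Agent.S2873

open Subgroup Cfsg.Lib.Amalg
open Cfsg.Lib.Core hiding isPGroup_subgroupOf isPGroup_subgroupOf_iff isPGroup_map_subtype_iff isPGroup_zpowers_of_orderOf
open scoped commutatorElement

/-- Let G be a finite group and r an odd prime such that G ⧸ O₂(G) is dihedral of order 2r, and let R be a Sylow r-subgroup of G with C_{O₂(G)}(R) = 1. Then N_G(R) is dihedral of order 2r; for any involution a of N_G(R), every involution of G outside O₂(G) is conjugate to a; and |C_{O₂(G)}(a)|² = |O₂(G)|. -/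
theorem result {G : Type*} [Group G] [Finite G] {r : ℕ} [Fact r.Prime] (hr : r ≠ 2) [hN : (Cfsg.pCore 2 G).Normal] (hquot : Nonempty (G ⧸ Cfsg.pCore 2 G ≃* DihedralGroup r)) (R : Sylow r G) (hC : Cfsg.pCore 2 G ⊓ Subgroup.centralizer ((R : Subgroup G) : Set G) = ⊥) : Nonempty (↥(Subgroup.normalizer ((R : Subgroup G) : Set G)) ≃* DihedralGroup r) ∧ ∀ a : G, a ∈ Subgroup.normalizer ((R : Subgroup G) : Set G) → orderOf a = 2 → (∀ b : G, orderOf b = 2 → b ∉ Cfsg.pCore 2 G → ∃ g : G, g * a * g⁻¹ = b) ∧ Nat.card ↥(Cfsg.pCore 2 G ⊓ Subgroup.centralizer ({a} : Set G)) ^ 2 = Nat.card ↥(Cfsg.pCore 2 G) := by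
  obtain ⟨e⟩ := hquot
  have pr : r.Prime := Fact.out
  haveI : NeZero r := ⟨pr.ne_zero⟩
  have odd : Odd r := pr.odd_of_ne_two hr
  have hQ := isPGroup_pCore 2 G
  have hQ' : ∀ b : G, b ∉ pCore 2 G → b ∉ pCoreOf 2 (⊤ : Subgroup G) := fun b => by
    rw [Lib.Amalg.op_top]; exact id
  let f : G →* DihedralGroup r := e.toMonoidHom.comp (QuotientGroup.mk' _)
  have sur : Function.Surjective f := e.surjective.comp (QuotientGroup.mk'_surjective _)
  have ker : ∀ x, f x = 1 ↔ x ∈ pCore 2 G := fun x => by simp [f]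
  have hS := syl_top R
  clear_value f
  clear e
  generalize (R : Subgroup G) = R at *
  generalize pCore 2 G = Q at *
  have c2 : (Nat.card R).Coprime 2 := coprime_card_of_isPGroup pr hS.isPGroup
    ((Nat.coprime_primes Nat.prime_two pr).2 hr.symm)
  have QR : Q ⊓ R = ⊥ := inf_eq_bot_of_isPGroup_of_coprime Nat.prime_two hQ c2
  have NQ : ∀ x ∈ normalizer (R : Set G), f x = 1 → x = 1 := fun x hx h => mem_bot.1 (hC ▸ mem_inf.2
    ⟨(ker x).1 h, comm_eq_bot_iff.1 (eq_bot_iff.2 ((comm_le_inf (H := Q ⊓ normalizer (R : Set G))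
      (le_normalizer_inf le_normalizer_of_normal' (le_normalizer.trans le_normalizer)) inf_le_right).trans
      ((inf_le_inf_right R inf_le_left).trans QR.le))) ⟨(ker x).1 h, hx⟩⟩)
  have hS' := hS.map_top sur
  have cR' : Nat.card (R.map f) = r := by
    rw [hS'.card_eq_pow, card_top, DihedralGroup.nat_card, Nat.factorization_mul two_ne_zero pr.ne_zero,
      Finsupp.add_apply, pr.factorization_self, Nat.prime_two.factorization, Finsupp.single_eq_of_ne hr]
    simp
  have i2 : (R.map f).index = 2 := Nat.eq_of_mul_eq_mul_right pr.pos <| by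
    rw [← DihedralGroup.nat_card, ← index_mul_card (R.map f), cR']
  haveI := normal_of_index_eq_two i2
  have cR : Nat.card R = r := cR' ▸ Nat.card_congr (Equiv.ofBijective (f.subgroupMap R)
    ⟨(injective_iff_map_eq_one _).2 fun x hx => Subtype.ext (NQ x (le_normalizer x.2)
      (congrArg Subtype.val hx)), f.subgroupMap_surjective R⟩)
  have Rp : ∀ x ∈ R, x ^ r = 1 := fun z hz => by
    rw [← cR]; exact congrArg Subtype.val (pow_card_eq_one' (x := (⟨z, hz⟩ : R)))
  have gen : ∀ z ∈ R, z ≠ 1 → zpowers z = R := fun z hz n => eq_of_le_of_card_le' (zpowers_le.2 hz) (by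
    rw [cR, Nat.card_zpowers, orderOf_eq_prime (Rp z hz) n])
  have inR : ∀ x ∈ normalizer (R : Set G), f x ∈ R.map f → x ∈ R := by
    rintro x hx ⟨y, hy, e⟩
    rwa [← inv_mul_eq_one.1 (NQ _ (mul_mem (inv_mem (le_normalizer hy)) hx)
      (by rw [map_mul, map_inv, e, inv_mul_cancel]))]
  have out : ∀ a : G, orderOf a = 2 → a ∉ R := fun a h2 ha => by
    have := coprime_orderOf_of_mem c2 ha
    rw [h2] at this
    exact absurd this (by decide)
  have cj2 : ∀ a ∈ normalizer (R : Set G), orderOf a = 2 → ∀ b ∈ normalizer (R : Set G), orderOf b = 2 →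
      IsConj a b := fun a ha h2 b hb h2' =>
    Lib.Invol.isConj_of_odd (by rw [← sq, ← h2, pow_orderOf_eq_one]) (by rw [← sq, ← h2', pow_orderOf_eq_one])
      (Nat.coprime_two_right.1 (coprime_orderOf_of_mem c2 (inR _ (mul_mem ha hb) (by
        rw [map_mul, mul_mem_iff_of_index_two i2]
        exact iff_of_false (fun c => out a h2 (inR a ha c)) fun c => out b h2' (inR b hb c)))))
  refine ⟨⟨MulEquiv.ofBijective (f.comp (normalizer (R : Set G)).subtype) ⟨(injective_iff_map_eq_one _).2 fun x hx =>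
    Subtype.ext (NQ x x.2 hx), fun y => ?_⟩⟩, fun a ha h2 => ⟨fun b h2' hb => ?_, ?_⟩⟩
  · obtain ⟨y, rfl⟩ := sur y
    obtain ⟨n, ⟨m, hm, e⟩, a, ha, rfl⟩ := (hS.of_le (le_comap_map f R) le_top).frattini_mem (g := y)
      (le_normalizer_of_normal' (mem_top y))
    exact ⟨⟨m * a, mul_mem (le_normalizer hm) ha⟩, by simp [e]⟩
  · obtain ⟨x, -, x1, ox, ix⟩ := exists_inverted_of_not_mem_op
      (by rw [← sq, ← h2', pow_orderOf_eq_one]) (mem_top b) (hQ' b hb)
    have xr : x ^ r = 1 := by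
      obtain ⟨k, hk⟩ := isPGroup_iff_mem.1 hQ _ ((ker (x ^ (2 * r))).1 (by
        rw [map_pow, ← DihedralGroup.nat_card, pow_card_eq_one']))
      refine mem_bot.1 (mem_of_pow_mem_coprime (n := 2 ^ (k + 1)) ((Nat.coprime_two_right.2
        (Lib.Invol.odd_orderOf_pow ox r)).pow_right _) (mem_bot.2 ?_))
      rw [← hk, ← pow_mul, ← pow_mul]; congr 1; ring
    obtain ⟨g, -, hg⟩ := hS.exists_conj_le (isPGroup_zpowers_of_pow (k := 1) (by rwa [pow_one])) le_top
    rw [cj_zpowers, zpowers_le] at hg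
    have := cj2 a ha h2 (g * b * g⁻¹) (cj_eq_self_iff.1 (by
      rw [← gen _ hg (by simpa using x1), cj_zpowers, show g * b * g⁻¹ * (g * x * g⁻¹) * (g * b * g⁻¹)⁻¹ =
        (g * (b * x * b⁻¹)⁻¹ * g⁻¹)⁻¹ by group, ix, inv_inv, zpowers_inv]))
      (by rwa [show g * b * g⁻¹ = MulAut.conj g b from rfl, MulEquiv.orderOf_eq])
    exact isConj_iff.1 (this.trans (isConj_iff.2 ⟨g, rfl⟩).symm)
  obtain ⟨⟨x, hx⟩, x1⟩ := ne_bot_iff_exists_ne_one.1 (hS.ne_bot (by
    rw [card_top]; exact (cR ▸ card_subgroup_dvd_card R)))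
  replace x1 : x ≠ 1 := fun e => x1 (Subtype.ext e)
  have aa : a * a = 1 := by rw [← sq, ← h2, pow_orderOf_eq_one]
  have hb : a * x ∈ normalizer (R : Set G) := mul_mem ha (le_normalizer hx)
  have bb : (a * x) * (a * x) = 1 := NQ _ (mul_mem hb hb) <| by
    have : f (a * x) ∉ R.map f := fun c => out a h2 ((R.mul_mem_cancel_right hx).1 (inR _ hb c))
    rw [map_mul f (a * x)]
    generalize f (a * x) = y at this
    rcases y with i | i
    · exact absurd (hS'.mem_of_mem_normalizer (k := 1) (by simp) trivial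
        (le_normalizer_of_normal' (mem_top _))) this
    · simp
  have b2 : orderOf (a * x) = 2 := orderOf_eq_prime (by rwa [sq]) fun e =>
    out a h2 ((R.mul_mem_cancel_right hx).1 (e ▸ R.one_mem))
  have ab : a * (a * x) = x := by rw [← mul_assoc, aa, one_mul]
  generalize a * x = b at hb bb b2 ab
  have fpf : ∀ n ∈ Q, n * x = x * n → n = 1 := fun n hn h => mem_bot.1 (hC ▸ mem_inf.2 ⟨hn, by
    rw [← gen x hx x1, zpowers_eq_closure, centralizer_closure]
    exact mem_centralizer_singleton_iff.2 h⟩)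
  have ec : Nat.card (Q ⊓ centralizer {b} : Subgroup G) = Nat.card (Q ⊓ centralizer {a} : Subgroup G) := by
    obtain ⟨g, rfl⟩ := isConj_iff.1 (cj2 a ha h2 b hb b2)
    rw [← card_cj g (Q ⊓ centralizer {a}), cj_inf, cj_normal, cj_centralizer_singleton]
  have m : ∀ a : G, Nat.card (Q ⊓ centralizer {a} : Subgroup G) * (centralizer {a}).relIndex Q =
      Nat.card Q := fun a => by
    rw [inf_comm, card_inf_mul_relIndex]
  have l1 : Nat.card (Q ⊓ centralizer {a} : Subgroup G) * Nat.card (Q ⊓ centralizer {b} : Subgroup G) ≤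
      Nat.card Q := by
    rw [← Nat.card_prod]
    refine Nat.card_le_card_of_injective (fun s => (⟨s.1.1 * s.2.1, Q.mul_mem s.1.2.1 s.2.2.1⟩ : Q)) ?_
    rintro ⟨⟨s, hs⟩, t, ht⟩ ⟨⟨s', hs'⟩, t', ht'⟩ e
    replace e : s * t = s' * t' := congrArg Subtype.val e
    have e' : s'⁻¹ * s = t' * t⁻¹ := by rw [inv_mul_eq_iff_eq_mul, ← mul_assoc, ← e]; group
    have c1 : Commute (s'⁻¹ * s) a := mem_centralizer_singleton_iff.1 (mul_mem (inv_mem hs'.2) hs.2)
    have c2 : Commute (s'⁻¹ * s) b := e' ▸ mem_centralizer_singleton_iff.1 (mul_mem ht'.2 (inv_mem ht.2))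
    have := fpf _ (Q.mul_mem (Q.inv_mem hs'.1) hs.1) (ab ▸ c1.mul_right c2)
    obtain rfl := inv_mul_eq_one.1 this
    obtain rfl := mul_left_cancel e
    rfl
  have l2 : (centralizer {a}).relIndex Q * (centralizer {b}).relIndex Q ≤ Nat.card Q := by
    have k : ∀ (s : Q) (a : G), (s * a * (s : G)⁻¹) * a⁻¹ ∈ Q := fun s a => by
      rw [mul_assoc, mul_assoc, ← mul_assoc a]
      exact Q.mul_mem s.2 (hN.conj_mem _ (Q.inv_mem s.2) a)
    have k2 : ∀ s t : Q, (s * a * (s : G)⁻¹) * (t * b * (t : G)⁻¹) * x⁻¹ ∈ Q := fun s t => by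
      rw [← ab, show (s * a * (s : G)⁻¹) * (t * b * (t : G)⁻¹) * (a * b)⁻¹ =
        (s * a * (s : G)⁻¹ * a⁻¹) * (a * (t * b * (t : G)⁻¹ * b⁻¹) * a⁻¹) by group]
      exact Q.mul_mem (k s a) (hN.conj_mem _ (k t b) a)
    have k3 : ∀ (a : G) (s t : Q ⧸ (centralizer {a}).subgroupOf Q),
        (s.out * a * (s.out : G)⁻¹ : G) = t.out * a * (t.out : G)⁻¹ → s = t := fun a s t e => by
      rw [← s.out_eq', ← t.out_eq', QuotientGroup.eq, mem_subgroupOf, mem_centralizer_singleton_iff,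
        coe_mul, coe_inv, show ((s.out : G)⁻¹ * t.out) * a = (s.out : G)⁻¹ * (t.out * a * (t.out : G)⁻¹) * t.out by
          group, ← e]
      group
    rw [relIndex, relIndex, index, index, ← Nat.card_prod]
    refine Nat.card_le_card_of_injective (fun s => (⟨_, k2 s.1.out s.2.out⟩ : Q)) ?_
    rintro ⟨s, t⟩ ⟨s', t'⟩ e
    replace e := mul_right_cancel (Subtype.mk.inj e)
    dsimp only at e
    obtain ⟨q, hq, eq⟩ := Lib.Clifford.exists_conj_of_centralizer_eq_bot (K := ⊤)
      (fun g _ n hn => hN.conj_mem n hn g) (mem_top x) fpf (k2 s.out t.out)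
    rw [inv_mul_cancel_right] at eq
    have sq : ∀ (s a : G), a * a = 1 → (s * a * (s : G)⁻¹) * (s * a * (s : G)⁻¹) = 1 := fun s a h => by
      rw [show (s * a * (s : G)⁻¹) * (s * a * (s : G)⁻¹) = s * (a * a) * s⁻¹ by group, h]; group
    have i1 := Lib.Invol.left_inverts (sq s.out a aa) (sq t.out b bb)
    have i2 := Lib.Invol.left_inverts (sq s'.out a aa) (sq t'.out b bb)
    have hu := Q.mul_mem (Q.inv_mem (k s.out a)) (k s'.out a)
    have e1 : (s.out * a * (s.out : G)⁻¹ : G) = s'.out * a * (s'.out : G)⁻¹ := by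
      rw [← e] at i2
      rw [← eq] at i1 i2
      generalize (s.out * a * (s.out : G)⁻¹ : G) = u at *
      generalize (s'.out * a * (s'.out : G)⁻¹ : G) = v at *
      have hu' : q⁻¹ * (u⁻¹ * v) * q ∈ Q := Q.mul_mem (Q.mul_mem (Q.inv_mem hq) (by
        simpa [mul_assoc] using hN.conj_mem _ hu a⁻¹)) hq
      have := fpf _ hu' (by
        rw [show q⁻¹ * (u⁻¹ * v) * q * x = q⁻¹ * u⁻¹ * (v * (q * x * q⁻¹) * v⁻¹) * v * q by group, i2, ← i1]
        group)
      rw [mul_assoc, inv_mul_eq_one, eq_comm, mul_eq_right, inv_mul_eq_one] at this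
      exact this
    rw [e1, mul_right_inj] at e
    rw [k3 a _ _ e1, k3 b _ _ e]
  have m1 := m a
  have m2 := m b
  rw [ec] at l1 m2
  have pos : 0 < Nat.card (Q ⊓ centralizer {a} : Subgroup G) := Nat.card_pos
  rw [Nat.eq_of_mul_eq_mul_left pos (m2.trans m1.symm)] at l2
  have : 0 < (centralizer {a}).relIndex Q := Nat.pos_of_mul_pos_left (m1 ▸ Nat.card_pos)
  rw [← m1] at l1 l2 ⊢
  rw [sq, ← le_antisymm (Nat.le_of_mul_le_mul_left l1 pos) (Nat.le_of_mul_le_mul_right l2 this)]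

end Cfsg.Agent.S2873
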