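import Cfsg.Statements.S2874
import Cfsg.Agent.Lib.Core.Basic

set_option autoImplicit false
open Cfsg

namespace Cfsg.Agent.S2874

open Matrix Subgroup

section

variable {R : Type*} [CommRing R] (hn : IsNilpotent (2 : R)) (hp : ∀ x : R, ∃ y, x = 2 * y ∨ x = 1 + 2 * y)
include hn hp

omit hp in
theorem unit (y : R) : IsUnit (1 + 2 * y) := ((Commute.all _ _).isNilpotent_mul_right hn).isUnit_one_add

theorem cube {x : R} (h : x ^ 3 = 1) : x = 1 := by
  obtain ⟨y, rfl | rfl⟩ := hp x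
  · exact (unit hn (-(4 * y ^ 3))).mul_left_cancel (by linear_combination (1 - 2 * y) * h)
  · exact (unit hn (1 + 3 * y + 2 * y ^ 2)).mul_left_cancel (by linear_combination h)

theorem three {M : Matrix (Fin 2) (Fin 2) R} (h : M * M * M = 1) (h1 : M ≠ 1) :
    M 0 0 + M 1 1 = -1 ∧ M 0 0 * M 1 1 - M 0 1 * M 1 0 = 1 ∧ IsUnit (M 1 0) := by
  have k := fun i j => congrFun (congrFun h i) j
  have k1 := k 0 0; have k2 := k 0 1; have k3 := k 1 0; have k4 := k 1 1
  simp only [mul_apply, Fin.sum_univ_two, one_apply, if_true, Fin.reduceEq, if_false] at k1 k2 k3 k4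
  rw [eta_fin_two M] at h1
  generalize M 0 0 = p, M 0 1 = q, M 1 0 = r, M 1 1 = s at *
  have hd := cube hn hp (x := p * s - q * r) (by
    linear_combination (r * q * p + s * r * q + r * q * s + s * s * s) * k1 + k4 -
      (r * p * p + s * r * p + r * q * r + s * s * r) * k2)
  have hr : IsUnit r := by
    obtain ⟨y, rfl | rfl⟩ := hp r
    · obtain ⟨u, hu | hu⟩ := hp (p + s)
      · have h2 := unit hn (2 * u ^ 2 - 1)
        have e : 1 + 2 * (2 * u ^ 2 - 1) = (p + s) ^ 2 - 1 := by rw [hu]; ring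
        rw [e] at h2
        have e1 : q = 0 := h2.mul_left_cancel (by linear_combination k2 + q * hd)
        have e2 : 2 * y = 0 := h2.mul_left_cancel (by linear_combination k3 + 2 * y * hd)
        rw [e1] at k1 k4
        rw [cube hn hp (x := p) (by linear_combination k1), cube hn hp (x := s) (by linear_combination k4), e1, e2] at h1
        exact absurd (by ext i j; fin_cases i <;> fin_cases j <;> rfl) h1
      · refine isUnit_of_mul_isUnit_left (y := 0) ?_
        obtain ⟨v, rfl | rfl⟩ := hp p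
        · convert unit hn (q * y - v * s) using 1
          linear_combination hd
        · convert unit hn (q * y - (u - v) * (1 + 2 * v)) using 1
          linear_combination hd - (1 + 2 * v) * hu
    · exact unit hn y
  have e : (p + s) ^ 2 = 1 := by
    refine hr.mul_left_cancel ?_
    linear_combination k3 + r * hd
  refine ⟨neg_eq_iff_eq_neg.1 (cube hn hp ?_), hd, hr⟩
  linear_combination k1 - (2 * p + s) * e + (p + p + s) * hd
/-- The standard element of order three. -/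
def r0 (R : Type*) [CommRing R] : Matrix (Fin 2) (Fin 2) R := !![0, -1; 1, -1]

/-- The standard involutions. -/
def iv (x y : R) : Matrix (Fin 2) (Fin 2) R := !![1 + x, y; y + x, 1 + x]

omit hn hp in
theorem iv_conj {x y : R} (hx : 2 * x = 0) (hy : 2 * y = 0) : r0 R * iv x y = iv y (y + x) * r0 R := by
  ext i j; fin_cases i <;> fin_cases j <;> simp [r0, iv, mul_apply, Fin.sum_univ_two]
  all_goals first | linear_combination hx | linear_combination -hx | linear_combination hy | linear_combination -hy |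
    linear_combination hx + hy | linear_combination -hx - hy | linear_combination hx - hy | linear_combination hy - hx |
    linear_combination -2 * hy | linear_combination 2 * hy

theorem exists_iv {A : Matrix (Fin 2) (Fin 2) R} (h1 : A * A = 1) (h2 : A * r0 R * (A * r0 R) * (A * r0 R) = 1)
    (h3 : A * r0 R ≠ 1) (h4 : A * (r0 R * r0 R) * (A * (r0 R * r0 R)) * (A * (r0 R * r0 R)) = 1)
    (h5 : A * (r0 R * r0 R) ≠ 1) : ∃ x y, 2 * x = 0 ∧ 2 * y = 0 ∧ A = iv x y := by
  obtain ⟨k1, k2, -⟩ := three hn hp h2 h3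
  obtain ⟨k3, -⟩ := three hn hp h4 h5
  have k4 := congrFun (congrFun h1 0) 0
  have k5 := congrFun (congrFun h1 0) 1
  simp [r0, mul_apply, Fin.sum_univ_two] at k1 k2 k3 k4 k5
  rw [eta_fin_two A]
  generalize A 0 0 = p, A 0 1 = q, A 1 0 = r, A 1 1 = s at *
  have e : p + s = 2 := by linear_combination -k1 - k3
  refine ⟨p - 1, q, by linear_combination k4 + k2 - p * e, by linear_combination k5 - q * e, ?_⟩
  ext i j; fin_cases i <;> fin_cases j <;> simp [iv]
  · linear_combination -k1 - e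
  · linear_combination e - (k4 + k2 - p * e)

theorem std {h : R} (h0 : 2 * h = 0) (hh : ∀ x : R, 2 * x = 0 → x = 0 ∨ x = h) (H : Subgroup (GL (Fin 2) R))
    (e : alternatingGroup (Fin 4) ≃* H) : ∃ g : GL (Fin 2) R, H.map (MulAut.conj g).toMonoidHom =
      closure {u : GL (Fin 2) R | u.val = r0 R ∨ ∃ x y, 2 * x = 0 ∧ 2 * y = 0 ∧ u.val = iv x y} := by
  let r : alternatingGroup (Fin 4) := ⟨c[0, 1, 2], Equiv.Perm.mem_alternatingGroup.2 (by decide)⟩
  let b : alternatingGroup (Fin 4) := ⟨Equiv.swap 0 1 * Equiv.swap 2 3, Equiv.Perm.mem_alternatingGroup.2 (by decide)⟩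
  have rel : r * r * r = 1 ∧ r ≠ 1 ∧ b * b = 1 ∧ b ≠ 1 ∧ b * r * (b * r) * (b * r) = 1 ∧ b * r ≠ 1 ∧
    b * (r * r) * (b * (r * r)) * (b * (r * r)) = 1 ∧ b * (r * r) ≠ 1 := by decide +kernel
  have gen : ∀ x : alternatingGroup (Fin 4), ∃ i j c : Fin 3, x = r ^ i.1 * b ^ c.1 * r ^ j.1 := by decide +kernel
  let f := (Units.coeHom _).comp (H.subtype.comp e.toMonoidHom)
  have hf : Function.Injective f := Units.val_injective.comp (Subtype.val_injective.comp e.injective)
  obtain ⟨k1, k2, k3⟩ := three hn hp (M := f r) (by rw [← map_mul, ← map_mul, rel.1, map_one])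
    fun k => rel.2.1 (hf (k.trans (map_one f).symm))
  let g := (GeneralLinearGroup.mk'' !![1, f r 0 0; 0, f r 1 0] (by simpa [det_fin_two] using k3))⁻¹
  let ψ := (MulAut.conj g).toMonoidHom.comp (H.subtype.comp e.toMonoidHom)
  let f' := (Units.coeHom _).comp ψ
  have hf' : Function.Injective f' :=
    Units.val_injective.comp ((MulAut.conj g).injective.comp (Subtype.val_injective.comp e.injective))
  have e1 : f' r = r0 R := by
    change g.val * f r * g⁻¹.val = _
    rw [mul_assoc, ← Units.eq_inv_mul_iff_mul_eq, inv_inv]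
    change f r * !![1, f r 0 0; 0, f r 1 0] = !![1, f r 0 0; 0, f r 1 0] * r0 R
    ext i j; fin_cases i <;> fin_cases j <;> simp [r0, mul_apply, Fin.sum_univ_two]
    · linear_combination f r 0 0 * k1 - k2
    · linear_combination f r 1 0 * k1
  have n1 : ∀ x, x ≠ 1 → f' x ≠ 1 := fun x k k' => k (hf' (k'.trans (map_one f').symm))
  obtain ⟨x, y, hx, hy, e2⟩ := exists_iv hn hp (A := f' b) (by rw [← map_mul, rel.2.2.1, map_one])
    (by simp only [← e1, ← map_mul, rel.2.2.2.2.1, map_one]) (by rw [← e1, ← map_mul]; exact n1 _ rel.2.2.2.2.2.1)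
    (by simp only [← e1, ← map_mul, rel.2.2.2.2.2.2.1, map_one])
    (by rw [← e1, ← map_mul, ← map_mul]; exact n1 _ rel.2.2.2.2.2.2.2)
  have m1 : ∀ x, ψ x ∈ H.map (MulAut.conj g).toMonoidHom := fun x => ⟨e x, (e x).2, rfl⟩
  refine ⟨g, le_antisymm ?_ ((closure_le _).2 ?_)⟩
  · rintro _ ⟨u, hu, rfl⟩
    obtain ⟨u, rfl⟩ : ∃ v, (e v).1 = u := ⟨e.symm ⟨u, hu⟩, by simp⟩
    obtain ⟨i, j, c, rfl⟩ := gen u
    change ψ _ ∈ _
    rw [map_mul, map_mul, map_pow, map_pow, map_pow]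
    refine mul_mem (mul_mem (pow_mem (Subgroup.subset_closure ?_) _)
      (pow_mem (Subgroup.subset_closure ?_) _)) (pow_mem (Subgroup.subset_closure ?_) _)
    exacts [Or.inl e1, Or.inr ⟨x, y, hx, hy, e2⟩, Or.inl e1]
  have step : ∀ {x y : R}, 2 * x = 0 → 2 * y = 0 → (∃ u, f' u = iv x y) → ∃ u, f' u = iv y (y + x) := fun hx hy ⟨u, k⟩ =>
    ⟨r * u * r⁻¹, by rw [map_mul, map_mul, e1, k, iv_conj hx hy, ← e1, mul_assoc, ← map_mul]; simp⟩
  have hz : 2 * (0 : R) = 0 := mul_zero _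
  have h2 : h + h = 0 := by rw [← two_mul, h0]
  have s1 := step h0 hz
  have s2 := step hz h0
  have s3 := step h0 h0
  simp only [zero_add, add_zero, h2] at s1 s2 s3
  have k0 : iv (0 : R) 0 = 1 := by ext i j; fin_cases i <;> fin_cases j <;> simp [iv]
  have k4 : ∃ u, f' u = iv h 0 := by
    rcases hh x hx with rfl | rfl <;> rcases hh y hy with rfl | rfl
    exacts [absurd (e2.trans k0) (n1 _ rel.2.2.2.1), s3 (s2 ⟨_, e2⟩), ⟨_, e2⟩, s3 ⟨_, e2⟩]
  have m2 : ∀ {u : GL (Fin 2) R}, (∃ v, f' v = u.val) → u ∈ H.map (MulAut.conj g).toMonoidHom := fun ⟨v, k⟩ =>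
    (Units.val_injective k : ψ v = _) ▸ m1 v
  rintro u (k | ⟨x, y, hx, hy, k⟩) <;> refine m2 ?_ <;> rw [k]
  · exact ⟨r, e1⟩
  · rcases hh x hx with rfl | rfl <;> rcases hh y hy with rfl | rfl
    exacts [⟨1, by rw [k0, map_one]⟩, s1 k4, k4, s2 (s1 k4)]

end

/-- For k ≥ 2, any two subgroups of GL₂(ℤ/2ᵏℤ) (the automorphism group of the homocyclic group ℤ/2ᵏ × ℤ/2ᵏ) that are isomorphic to the alternating group of degree 4 are conjugate. -/
theorem result (k : ℕ) (hk : 2 ≤ k) (H₁ H₂ : Subgroup (GL (Fin 2) (ZMod (2 ^ k)))) (h₁ : Nonempty (↥H₁ ≃* ↥(alternatingGroup (Fin 4)))) (h₂ : Nonempty (↥H₂ ≃* ↥(alternatingGroup (Fin 4)))) : ∃ g : GL (Fin 2) (ZMod (2 ^ k)), H₂ = H₁.map (MulAut.conj g).toMonoidHom := by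
  obtain ⟨k, rfl⟩ : ∃ j, k = j + 1 := ⟨k - 1, by omega⟩
  have h0 : ((2 : ZMod (2 ^ (k + 1))) ^ (k + 1)) = 0 := by exact_mod_cast ZMod.natCast_self (2 ^ (k + 1))
  have hp : ∀ x : ZMod (2 ^ (k + 1)), ∃ y, x = 2 * y ∨ x = 1 + 2 * y := fun x => by
    obtain ⟨n, rfl⟩ := ZMod.natCast_zmod_surjective x
    obtain ⟨m, rfl | rfl⟩ := Nat.even_or_odd' n
    · exact ⟨m, Or.inl (by simp)⟩
    · exact ⟨m, Or.inr (by simp [add_comm])⟩
  have hh : ∀ x : ZMod (2 ^ (k + 1)), 2 * x = 0 → x = 0 ∨ x = 2 ^ k := fun x hx => by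
    obtain ⟨n, rfl⟩ := ZMod.natCast_zmod_surjective x
    obtain ⟨m, rfl⟩ : 2 ^ k ∣ n := Nat.dvd_of_mul_dvd_mul_left two_pos (by
      rw [← pow_succ', ← ZMod.natCast_eq_zero_iff]; exact_mod_cast hx)
    obtain ⟨l, rfl | rfl⟩ := Nat.even_or_odd' m
    · exact Or.inl (by push_cast; linear_combination l * h0)
    · exact Or.inr (by push_cast; linear_combination l * h0)
  obtain ⟨g₁, e₁⟩ := std ⟨_, h0⟩ hp (by linear_combination h0) hh H₁ h₁.some.symm
  obtain ⟨g₂, e₂⟩ := std ⟨_, h0⟩ hp (by linear_combination h0) hh H₂ h₂.some.symm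
  refine ⟨g₂⁻¹ * g₁, map_injective (f := (MulAut.conj g₂).toMonoidHom) (MulAut.conj g₂).injective ?_⟩
  rw [e₂, ← e₁, Subgroup.map_map]
  congr 1
  ext x : 1
  simp [mul_assoc]

end Cfsg.Agent.S2874
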