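import Cfsg.Statements.S2879
import Cfsg.Agent.Lib.ABG.QGrp
import Cfsg.Agent.Lib.GW.CycSyl

set_option autoImplicit false
open Cfsg Cfsg.Lib Cfsg.Lib.ABG Cfsg.Lib.Invol Cfsg.Lib.Transfer Subgroup

namespace Cfsg.Agent.S2879

/-- Let G be a finite solvable group with O(G) = 1 whose Sylow 2-subgroup T is dihedral of order at least 8 or semidihedral, with G ≠ T and Z(T) normal in G. Then G has a normal subgroup isomorphic to SL₂(3). -/
theorem result {G : Type*} [Group G] [Finite G] (hsol : IsSolvable G) (hO : Cfsg.oddCore G = ⊥) (T : Sylow 2 G) (hT : (∃ n : ℕ, 4 ≤ n ∧ Nonempty (↥(T : Subgroup G) ≃* DihedralGroup n)) ∨ Cfsg.IsQuasiDihedral ↥(T : Subgroup G)) (hne : (T : Subgroup G) ≠ ⊤) (hZ : ((T : Subgroup G) ⊓ Subgroup.centralizer ((T : Subgroup G) : Set G)).Normal) : ∃ U : Subgroup G, U.Normal ∧ Nonempty (↥U ≃* Matrix.SpecialLinearGroup (Fin 2) (ZMod 3)) := by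
  have := fact_two
  have := Fact.mk Nat.prime_three
  have hs := sylowIn_top T
  have : Group.IsSolvable G := hsol
  have hn : ¬ PNil 2 (⊤ : Subgroup G) := fun e => hne (hs.eq_of_le (GW.isPGroup_of_pnil hO e) le_top le_rfl).symm
  have key : ∀ {N} (E : MC N (T : Subgroup G)), E.c ∈ center G := fun E => mem_center_iff.2 fun g => by
    have h1 := hZ.conj_mem E.c ⟨E.r_mem _, mem_centS.2 fun y hy => (E.commute_c hy).symm⟩ g
    exact mul_inv_eq_iff_eq_mul.1 ((E.mem_center_iff'.1 ⟨h1.1, mem_centS.1 h1.2⟩).resolve_left fun e =>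
      E.c_ne_one (conj_eq_one_iff.1 e))
  rcases hT with ⟨n, h1, ⟨e⟩⟩ | h
  · obtain ⟨k, -, E, hε⟩ := exists_mc_dih T.isPGroup' e (by rw [Nat.card_congr e.toEquiv, DihedralGroup.nat_card]; omega)
    exact (hn (E.pnil hs fun a => ⟨fun ⟨n, _, _, e⟩ => E.r_ne_s _ _ ((mul_inv_eq_iff_eq_mul.2
      (mem_center_iff.1 (key E) n)).symm.trans e), E.not_FQ hε a⟩)).elim
  obtain ⟨_, -, -, E, -⟩ := exists_mc_qd h
  obtain ⟨Y, h1⟩ := exists_qg hs (Or.inl h) E.two_c (key E) hn
  obtain ⟨F, _, _, h2, ⟨e⟩⟩ := (h1.sl2 hO).1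
  refine ⟨_, inferInstance, ⟨e.trans (Linear.nonempty_sl_equiv_of_card_eq (by_contra fun h3 => ?_)).some⟩⟩
  have := Linear.isSimpleGroup_PSL2 (F := F) (by
    have := Finite.one_lt_card (α := F); rw [← Nat.card_eq_fintype_card, Nat.odd_iff] at h2; rw [Nat.card_zmod] at h3; omega)
  have := Group.isSolvable_of_surjective (f := (QuotientGroup.mk' (center _)).comp e.toMonoidHom)
    ((QuotientGroup.mk'_surjective _).comp e.surjective)
  obtain ⟨a, -, b, -, k⟩ := GW.nc_psl2 (GW.two_ne_zero_of_odd (F := F) (by simpa using h2))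
  exact k.not_cyclic (P := ⊤) trivial trivial (have := IsSimpleGroup.comm_iff_isSolvable.2 this
    letI : CommGroup (Linear.PSL2 F) := { mul_comm := this }; inferInstance)

end Cfsg.Agent.S2879
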