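import Cfsg.Statements.S2880
import Cfsg.Agent.Lib.PGrp.Extra

set_option autoImplicit false
open Cfsg

namespace Cfsg.Agent.S2880

open Cfsg.Lib.PGrp Cfsg.Lib.Forms Subgroup
open scoped commutatorElement

/-- Let E be an extraspecial 2-group of order 2^(2m+1) of plus type, that is, containing an elementary abelian subgroup of order 2^(m+1) (equivalently, a central product of m dihedral groups of order 8). Then E has exactly 2^(2m) − 2^m elements of order 4. -/
theorem result {E : Type*} [Group E] [Finite E] (m : ℕ) (hm : 1 ≤ m) (hE : Cfsg.IsExtraspecial 2 E) (hcard : Nat.card E = 2 ^ (2 * m + 1)) (hplus : ∃ A : Subgroup E, Cfsg.IsElementaryAbelian 2 A ∧ Nat.card A = 2 ^ (m + 1)) : Nat.card {x : E // orderOf x = 4} = 2 ^ (2 * m) - 2 ^ m := by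
  obtain ⟨V, _, _, _, M, k, hN, hk⟩ := Cfsg.Lib.PGrp.IsExtraspecial.exists_cExt hE
  rw [M.card_eq_pow, Nat.pow_right_inj one_lt_two, Nat.succ_inj, hk] at hcard
  obtain rfl : m = k + 1 := by omega
  have h1 := Quad.card_Q_eq_plus (M.quad_nondeg.2 hN) hk (M.hasTS_iff.2 (not_pRankLE_iff.2 hplus)) one_ne_zero
  have h2 : ∀ a : ZMod 2, a = 1 ↔ a ≠ 0 := by decide
  rw [Nat.card_congr (Equiv.subtypeEquivRight (q := fun x => M.quad.Q (M.pr x) = 1) fun x => ?_),
    M.card_subtype (M.quad.Q · = 1), h1, Nat.card_zmod]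
  · zify [Nat.one_le_two_pow, Nat.pow_le_pow_right two_pos (by omega : k + 1 ≤ 2 * (k + 1))]
    ring
  · refine Iff.trans ⟨fun h e => ?_, fun h => orderOf_eq_prime_pow (p := 2) (n := 1) h ?_⟩
      ((h2 _).trans M.P_eq_zero.not).symm
    · exact absurd (h ▸ orderOf_dvd_of_pow_eq_one e) (by decide)
    · rw [show (2 : ℕ) ^ (1 + 1) = 2 * 2 from rfl, pow_mul, ← M.i_P x, M.i_pow]

end Cfsg.Agent.S2880
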