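import Cfsg.Statements.S2881
import Cfsg.Agent.S2880

set_option autoImplicit false
open Cfsg

namespace Cfsg.Agent.S2881

open Cfsg.Lib.PGrp Cfsg.Lib.Forms Subgroup
open scoped commutatorElement

/-- Let E be an extraspecial 2-group of order 2^(2m+1) of plus type (containing an elementary abelian subgroup of order 2^(m+1)), and let ω be an automorphism of E of order 5 whose fixed points are exactly the centre of E. Then m is divisible by 4. -/
theorem result {E : Type*} [Group E] [Finite E] (m : ℕ) (hm : 1 ≤ m) (hE : Cfsg.IsExtraspecial 2 E) (hcard : Nat.card E = 2 ^ (2 * m + 1)) (hplus : ∃ A : Subgroup E, Cfsg.IsElementaryAbelian 2 A ∧ Nat.card A = 2 ^ (m + 1)) (ω : E ≃* E) (hω : orderOf ω = 5) (hfix : ∀ x : E, ω x = x ↔ x ∈ Subgroup.center E) : 4 ∣ m := by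
  classical
  haveI : Fact (Nat.Prime 5) := ⟨by decide⟩
  haveI := Fintype.ofFinite E
  let f : Function.End {x : E // orderOf x = 4} := fun x => ⟨ω x, (ω.orderOf_eq x.1).trans x.2⟩
  have h1 : ∀ n x, ((f ^ n) x).1 = (ω ^ n) x := fun n => by
    induction n with
    | zero => exact fun _ => rfl
    | succ n ih => exact fun x => by rw [pow_succ, pow_succ]; exact ih (f x)
  have h2 := Equiv.Perm.card_fixedPoints_modEq (f := f) (p := 5) (n := 1) (funext fun x => Subtype.ext (by
    rw [h1, pow_one, ← hω, pow_orderOf_eq_one]; rfl))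
  haveI : IsEmpty f.fixedPoints := ⟨fun x => by
    have := orderOf_dvd_natCard _ ((hfix _).1 (congrArg Subtype.val x.2))
    rw [x.1.2, hE.2] at this
    exact absurd this (by decide)⟩
  rw [Fintype.card_eq_zero (α := f.fixedPoints), ← Nat.card_eq_fintype_card, S2880.result m hm hE hcard hplus, two_mul, pow_add,
    ← Nat.mul_sub_one, Nat.modEq_zero_iff_dvd] at h2
  have h3 := (Nat.modEq_iff_dvd' Nat.one_le_two_pow).2 ((Nat.Coprime.pow_right m (by decide)).dvd_of_dvd_mul_left h2)
  rw [← Nat.div_add_mod m 4, pow_add, pow_mul] at h3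
  have h4 := h3.trans (((show 2 ^ 4 ≡ 1 [MOD 5] by decide).pow _).mul_right _)
  have h5 := Nat.mod_lt m four_pos
  rw [one_pow, one_mul] at h4
  refine Nat.dvd_of_mod_eq_zero ?_
  generalize m % 4 = r at h4 h5
  interval_cases r <;> first | rfl | exact absurd h4 (by decide)

end Cfsg.Agent.S2881
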