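import Cfsg.Statements.S2882
import Cfsg.Agent.Lib.Golay.Fix

set_option autoImplicit false
open Cfsg

namespace Cfsg.Agent.S2882

open Cfsg.Lib.Golay
open scoped Pointwise
set_option maxRecDepth 100000
set_option linter.unusedSimpArgs false
set_option maxHeartbeats 400000

/-- In the Mathieu group of degree 24 (realised as the automorphism group of the extended binary Golay code) every Sylow 2-subgroup is self-normalizing. -/
theorem result (S : Sylow 2 ↥Cfsg.M24) : Subgroup.normalizer ((S : Subgroup ↥Cfsg.M24) : Set ↥Cfsg.M24) = (S : Subgroup ↥Cfsg.M24) := by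

  obtain ⟨σ, c⟩ := sylow_conjTo (Coding.gen_le inH_gS2) (k := 10) (m := 239085) card_S2 card_M24 (by norm_num) S
  have hO := Coding.gen_le (inH_inf_om inH_gS2 0x82402f (by decide +kernel))
  have hT := Coding.gen_le (inH_inf_fam inH_gS2 3 _ T0_spec.1 (by decide +kernel))
  have hS := Coding.gen_le (inH_inf_sx le_rfl inH_gS2 0xda1 (by decide +kernel))
  have nO := normalizer_le_stab (H := M24) (K := gc.gen gS2) (fun g hg x hx => (smul_mem_octads_iff hg).mpr hx) O0_mem
    (fun k hk => (hO hk).2) (eq_of_ncard_eq_one (by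
      rw [ncard_oct (fun m => allL gS2 fun g => Nat.beq (imgT g m) m) fun m hm =>
        cwCode.gen_fix_iff imgT (fun g hg => (inH_gS2 g hg).impl_cw le_rfl) (isOct_iff.mp hm).1]
      decide +kernel) O0_mem fun k hk => (hO hk).2)
  have nT := normalizer_le_stab (H := M24) (K := gc.gen gS2) (fun g hg x hx => smul_mem_trios hg hx) T0_spec.2
    (fun k hk => (hT hk).2) (eq_of_ncard_eq_one (ncard_tr _ (fun s hs =>
      (famCode 3).gen_fix_iff (famAct 3) (fun g hg => (inH_gS2 g hg).1.impl_fam 3) hs) (by decide +kernel))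
      T0_spec.2 fun k hk => (hT hk).2)
  have nS := normalizer_le_stab (H := M24) (K := gc.gen gS2) (fun g hg x hx => smul_mem_sextets hg hx) S0_V.2
    (fun k hk => (hS hk).2) (eq_of_ncard_eq_one (ncard_sx _ (fun s hs =>
      sextCode.gen_fix_iff sxAct (fun g hg => (inH_gS2 g hg).impl_sx le_rfl) hs) (by decide +kernel))
      S0_V.2 fun k hk => (hS hk).2)
  have c1 : Nat.card ↥(HO ⊓ MulAction.stabilizer (Equiv.Perm GolayPt) (tr 0x82402f6920d0149f00)) = 21504 :=
    card_stab_of_ncard_orbit (Coding.ncard_orbitH (famCode 3) (famAct 3) gen_gHO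
      (fun g hg => (inH_gHO g hg).1.impl_fam 3) T0_spec.1 (n := 15) (M := 13) (d := 4) (a := 1) (by decide +kernel)) card_HO
  have g1 : ∀ g ∈ [0x30b0a130f150114071109160d041006080c00120e170205, 0x20c0a07080d170910011213041615060b14050f0e001103],
      gc.InH (HO ⊓ MulAction.stabilizer (Equiv.Perm GolayPt) (tr 0x82402f6920d0149f00)) g :=
    inH_inf_fam (inH_inf_om (inH_of_allL (by decide +kernel)) _ (by decide +kernel)) 3 _ T0_spec.1 (by decide +kernel)
  have c2 : Nat.card ↥(HO ⊓ MulAction.stabilizer (Equiv.Perm GolayPt) (tr 0x82402f6920d0149f00) ⊓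
      MulAction.stabilizer (Equiv.Perm GolayPt) (sx 0xda1)) = 3072 :=
    card_stab_of_ncard_orbit (Coding.ncard_orbitH sextCode sxAct (Coding.gen_eq_of_chain
      [(4, 16, [[0, 0, 0, 0], [0, 1, 0, 0]]), (0, 8, [[0], [1, 1, 0, 1, 0, 1]]), (8, 8, [[0, 0, 1, 0, 0], [0, 1, 0, 1, 1]]), (1, 7, [[0]]), (2, 3, [])]
      g1 (by decide +kernel) c1.le) (fun g hg => (g1 g hg).impl_sx (inf_le_left.trans inf_le_left)) S0_V
      (n := 7) (M := 13) (d := 4) (a := 1) (by decide +kernel)) c1
  have hle : M24 ⊓ Subgroup.normalizer (gc.gen gS2 : Set (Equiv.Perm GolayPt)) ≤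
      HO ⊓ MulAction.stabilizer (Equiv.Perm GolayPt) (tr 0x82402f6920d0149f00) ⊓
      MulAction.stabilizer (Equiv.Perm GolayPt) (sx 0xda1) := fun g hg => ⟨⟨nO hg, (nT hg).2⟩, (nS hg).2⟩
  have hb : gc.InH (HO ⊓ MulAction.stabilizer (Equiv.Perm GolayPt) (tr 0x82402f6920d0149f00) ⊓
      MulAction.stabilizer (Equiv.Perm GolayPt) (sx 0xda1)) 0x11408150b040e0f071109161013060d120c050a03000217 :=
    inH_inf_sx (gs := [_]) (inf_le_left.trans inf_le_left) (inH_inf_fam (inH_inf_om (inH_of_allL (by decide +kernel)) _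
      (by decide +kernel)) 3 _ T0_spec.1 (by decide +kernel)) _ (by decide +kernel) _ List.mem_cons_self
  have hne := hle.lt_of_ne fun e => by
    obtain ⟨mem, t, L, h1, -, h2⟩ := Coding.enum_gen (fun g hg => (inH_gS2 g hg).1) (M := 1021) (d := 10) (a := 17)
      (k := fun mem _ => bnot (mem (conjN 24 0x11408150b040e0f071109161013060d120c050a03000217
        0x1710130c15140e040b0516090a08120f0706030d11010200))) (by decide +kernel)
    have hy := Coding.inH_gen (fun g hg => (inH_gS2 g hg).1) 0x1710130c15140e040b0516090a08120f0706030d11010200 (by decide)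
    refine bnot_iff.mp h1 ((h2 _ (hb.1.conj hy.1).1).mpr ?_)
    rw [(hb.1.conj hy.1).2]
    exact (Subgroup.mem_normalizer_iff.mp (e ▸ hb.2 :).2 _).mp hy.2
  have d1 := Subgroup.card_dvd_of_le hle
  have d2 := Subgroup.card_dvd_of_le (le_inf (Coding.gen_le inH_gS2) Subgroup.le_normalizer)
  have d3 := fun h => hne.ne (Subgroup.eq_of_le_of_card_ge hle h)
  refine (Subgroup.eq_of_le_of_card_ge Subgroup.le_normalizer ?_).symm
  rw [c.normalizer.card_eq, c.card_eq]
  rw [card_S2] at d2 ⊢
  rw [c2] at d1 d3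
  obtain ⟨a, ha⟩ := d2
  rw [ha] at d1 d3 ⊢
  have := Nat.le_of_dvd (by norm_num) d1
  have : a ≠ 2 := by rintro rfl; norm_num at d1
  have : a ≠ 3 := by rintro rfl; exact d3 le_rfl
  omega

end Cfsg.Agent.S2882
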