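import Cfsg.Statements.S2898
import Cfsg.Agent.Lib.Amalg.Parabolic

set_option autoImplicit false
open Cfsg

namespace Cfsg.Agent.S2898

open Subgroup Cfsg.Lib.Amalg
open Cfsg.Lib.Core hiding isPGroup_subgroupOf isPGroup_subgroupOf_iff isPGroup_map_subtype_iff isPGroup_zpowers_of_orderOf
open scoped commutatorElement

theorem inverts {G : Type*} [Group G] [Finite G] {O : Subgroup G} {z : G} (hz : z * z = 1)
    (hn : z ∈ 𝐍 O) (h : O ⊓ centralizer {z} = ⊥) {x : G} (hx : x ∈ O) : z * x * z⁻¹ = x⁻¹ := by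
  let f : O → O := fun y => ⟨(y : G)⁻¹ * (z * y * z⁻¹),
    mul_mem (inv_mem y.2) (conj_mem_of_mem_normalizer hn y.2)⟩
  have hf : Function.Injective f := by
    intro a b e
    have e' : (a : G)⁻¹ * (z * a * z⁻¹) = (b : G)⁻¹ * (z * b * z⁻¹) := congrArg Subtype.val e
    have : (b : G) * (a : G)⁻¹ ∈ O ⊓ centralizer {z} := by
      refine ⟨O.mul_mem b.2 (O.inv_mem a.2), mem_centralizer_singleton_iff.2 ?_⟩
      calc (b : G) * (a : G)⁻¹ * z = b * ((a : G)⁻¹ * (z * a * z⁻¹)) * z * (a : G)⁻¹ := by group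
        _ = z * (b * (a : G)⁻¹) := by rw [e']; group
    rw [h, mem_bot, mul_inv_eq_one] at this
    exact Subtype.ext this.symm
  obtain ⟨y, hy⟩ := Finite.surjective_of_injective hf ⟨x, hx⟩
  have e : (y : G)⁻¹ * (z * y * z⁻¹) = x := congrArg Subtype.val hy
  have hz' : z⁻¹ = z := inv_eq_of_mul_eq_one_right hz
  rw [← e, hz']
  calc z * ((y : G)⁻¹ * (z * y * z)) * z = z * (y : G)⁻¹ * z * y * (z * z) := by group
    _ = _ := by rw [hz]; simp [mul_assoc, hz']

/-- Let G be a finite group of even order with parabolic characteristic 2. If the centre of G ⧸ O(G) is trivial, then O(G) = 1. -/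
theorem result {G : Type*} [Group G] [Finite G] (h2 : 2 ∣ Nat.card G) (hG : Cfsg.IsOfParabolicCharacteristic 2 G) [hN : (Cfsg.oddCore G).Normal] (hZ : Subgroup.center (G ⧸ Cfsg.oddCore G) = ⊥) : Cfsg.oddCore G = ⊥ := by
  obtain ⟨S, hS⟩ := exists_syl 2 (⊤ : Subgroup G)
  set O := oddCore G with hO
  have hOc : (Nat.card O).Coprime 2 := coprime_card_pPrimeCore 2 G
  have key : ∀ z ∈ omegaOneCenter 2 S, z ≠ 1 → O ⊓ centralizer {z} = ⊥ := by
    intro z hz h1
    have := (parChar_top_iff.2 hG).cent hS (omZ_le _ hz) (omZ_le_cent _ hz) h1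
    rw [top_inf_eq] at this
    refine this.eq_bot (coprime_of_le hOc inf_le_left) inf_le_right ?_
    rw [← comm_eq_bot_iff]
    refine eq_bot_of_pPrime_le (coprime_of_le hOc ((comm_le_left ?_).trans inf_le_left))
      (op_isPGroup _) (comm_le_right (inf_le_right.trans (le_norm_op _)))
    exact (op_le _).trans (le_normalizer_inf le_normalizer_of_normal le_normalizer)
  haveI hC : (𝐂 O).Normal := normal_of_top_le_normalizer (le_normalizer_centralizer le_normalizer_of_normal)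
  by_cases h : 2 ∣ Nat.card (𝐂 O)
  · obtain ⟨z, ⟨hz, hz'⟩, h1⟩ := ne_bot_iff_exists.1 (inf_omZ_ne_bot hS.isPGroup inf_le_left
      (le_normalizer_inf le_normalizer le_normalizer_of_normal) ((hS.inf_normal_top (𝐂 O)).ne_bot h))
    rw [← key z hz' h1, eq_comm, inf_eq_left]
    exact le_cent_singleton hz.2
  · exfalso
    have hCO : 𝐂 O ≤ O := le_pPrimeCore ((Nat.prime_two.coprime_iff_not_dvd.2 h).symm)
    obtain ⟨z, hz, h1⟩ := ne_bot_iff_exists.1 (omZ_ne_bot hS.isPGroup (hS.ne_bot (by simpa using h2)))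
    have hz2 : z * z = 1 := by simpa [pow_two] using (mem_omZ_iff.1 hz).2.2
    have hi : ∀ x ∈ O, z * x * z⁻¹ = x⁻¹ := fun x hx =>
      inverts hz2 (le_normalizer_of_normal (K := ⊤) trivial) (key z hz h1) hx
    have hc : (QuotientGroup.mk z : G ⧸ O) ∈ center (G ⧸ O) := by
      rw [mem_center_iff]
      intro g
      obtain ⟨g, rfl⟩ := QuotientGroup.mk_surjective g
      rw [← QuotientGroup.mk_mul, ← QuotientGroup.mk_mul, QuotientGroup.eq]
      refine hCO fun x hx => ?_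
      have e1 := hi (g⁻¹ * (z * (g * x * g⁻¹) * z⁻¹) * g) (by
        have := hN.conj_mem _ (hN.conj_mem _ (hN.conj_mem x hx g) z) g⁻¹
        simpa using this)
      have e2 := hi _ (hN.conj_mem x hx g)
      rw [e2] at e1
      have e3 : x = z * (g⁻¹ * (g * x * g⁻¹)⁻¹ * g) * z⁻¹ := by rw [e1]; group
      have e4 : (g * z)⁻¹ * (z * g) * x * ((g * z)⁻¹ * (z * g))⁻¹ =
          z⁻¹ * (g⁻¹ * (z * (g * x * g⁻¹) * z⁻¹) * g) * z := by group
      rw [e2] at e4
      have e5 : z⁻¹ * (g⁻¹ * (g * x * g⁻¹)⁻¹ * g) * z = x := by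
        have hz' : z⁻¹ = z := inv_eq_of_mul_eq_one_right hz2
        conv_rhs => rw [e3]
        rw [hz']
      rw [e5, mul_inv_eq_iff_eq_mul] at e4
      exact e4.symm
    rw [hZ, mem_bot, QuotientGroup.eq_one_iff] at hc
    have := eq_bot_of_pPrime_le (coprime_of_le hOc (zpowers_le_of_mem hc)) hS.isPGroup
      (zpowers_le_of_mem (omZ_le _ hz))
    exact h1 (zpowers_eq_bot.1 this)

end Cfsg.Agent.S2898
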