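import Cfsg.Statements.S2905
import Cfsg.Agent.Lib.Amalg.PMin

set_option autoImplicit false
open Cfsg

namespace Cfsg.Agent.S2905

open Subgroup Cfsg.Lib.Amalg
open Cfsg.Lib.Core hiding isPGroup_subgroupOf isPGroup_subgroupOf_iff isPGroup_map_subtype_iff isPGroup_zpowers_of_orderOf
open scoped commutatorElement

/-- Let P be a finite p-minimal group (a Sylow p-subgroup S is not normal and lies in a unique maximal subgroup M of P) and let F be the normal core of M. Then: every subnormal subgroup N of P contained in M satisfies N ∩ S ≤ O_p(P); if O^p(P) has a normal Sylow p-subgroup then the order of P has at most two prime divisors; every normal subgroup N of P either contains O^p(P) or is contained in F; and O^p(P)F ⧸ F is a minimal normal subgroup of P ⧸ F. -/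
theorem result {P : Type*} [Group P] [Finite P] {p : ℕ} [Fact p.Prime] (hP : Cfsg.IsPMinimal p P) (S : Sylow p P) (M : Subgroup P) (hM : IsCoatom M) (hSM : (S : Subgroup P) ≤ M) [hF : M.normalCore.Normal] : (∀ N : Subgroup P, N.IsSubnormal → N ≤ M → N ⊓ (S : Subgroup P) ≤ Cfsg.pCore p P) ∧ ((∀ T : Sylow p ↥(Cfsg.pResidual p P), (T : Subgroup ↥(Cfsg.pResidual p P)).Normal) → (Nat.card P).primeFactors.card ≤ 2) ∧ (∀ N : Subgroup P, N.Normal → Cfsg.pResidual p P ≤ N ∨ N ≤ M.normalCore) ∧ (∀ N : Subgroup P, N.Normal → M.normalCore ≤ N → N ≤ Cfsg.pResidual p P ⊔ M.normalCore → N = M.normalCore ∨ N = Cfsg.pResidual p P ⊔ M.normalCore) ∧ M.normalCore < Cfsg.pResidual p P ⊔ M.normalCore := by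
  have hp' := pMin_top.2 hP
  have hS := syl_top S
  have h := uMax_of_existsUnique (hP S).2 hM hSM
  have h3 : ∀ N : Subgroup P, N.Normal → pResidual p P ≤ N ∨ N ≤ M.normalCore := fun N _ =>
    (h.res_le_or hS le_top le_normalizer_of_normal).imp (fun e => res_top (p := p) (G := P) ▸ e)
      normal_le_normalCore.2
  refine ⟨fun N a b => ?_, fun hc => ?_, h3, fun N a b c => ((h3 N a).imp
    (fun d => le_antisymm c (sup_le d b)) fun d => le_antisymm d b).symm,
    lt_of_le_not_ge le_sup_right fun c => h.not_res_le hS ?_⟩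
  · rw [← op_top', inf_comm]
    exact (inf_le_inf_left _ (le_normalCore_of_isSubnormal hM a b)).trans
      (h.inf_le_op hS le_rfl M.normalCore_le le_normalizer_of_normal)
  · have hs := QuotientGroup.mk'_surjective (pCore p P)
    have h1 := h.map (QuotientGroup.mk' (pCore p P))
      (by rw [QuotientGroup.ker_mk']; exact inf_le_right.trans (hS.pCore_le.trans hSM))
    have h2 := hS.map (QuotientGroup.mk' (pCore p P))
    haveI := pResidual_normal' p (P ⧸ pCore p P)
    obtain ⟨q, q1, -, q2⟩ := h1.exists_prime h2 (by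
      rw [← map_res, res_top]
      refine ((pCl_iff.2 hc).map _).coprime (eq_bot_iff.2 ?_)
      rw [map_pResidual_of_surjective hs]
      exact (op_le_pCore _).trans pCore_quotient_pCore.le)
    haveI := Fact.mk q1
    obtain ⟨a, ha⟩ := IsPGroup.iff_card.1 q2
    obtain ⟨b, hb⟩ := relIndex_res (p := p) ((⊤ : Subgroup P).map (QuotientGroup.mk' (pCore p P)))
    obtain ⟨c, hc⟩ := IsPGroup.iff_card.1 (isPGroup_pCore p P)
    have e := card_mul_relIndex (res_le (p := p) ((⊤ : Subgroup P).map (QuotientGroup.mk' (pCore p P))))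
    rw [ha, hb, map_top_of_surjective _ hs, card_top] at e
    rw [card_eq_card_quotient_mul_card_subgroup (pCore p P), ← e, hc]
    refine (Finset.card_le_card (t := {q, p}) fun r hr => ?_).trans Finset.card_le_two
    have hr' := Nat.prime_of_mem_primeFactors hr
    have := Nat.dvd_of_mem_primeFactors hr
    rw [mul_assoc, ← pow_add, hr'.dvd_mul] at this
    rw [Finset.mem_insert, Finset.mem_singleton]
    exact this.imp (fun d => (Nat.prime_dvd_prime_iff_eq hr' q1).1 (hr'.dvd_of_dvd_pow d))
      fun d => (Nat.prime_dvd_prime_iff_eq hr' Fact.out).1 (hr'.dvd_of_dvd_pow d)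
  · rw [res_top]; exact le_sup_left.trans (c.trans M.normalCore_le)

end Cfsg.Agent.S2905
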