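import Cfsg.Statements.S2906
import Cfsg.Agent.Lib.Amalg.PMin

set_option autoImplicit false
open Cfsg

namespace Cfsg.Agent.S2906

open Subgroup Cfsg.Lib.Amalg
open Cfsg.Lib.Core hiding isPGroup_subgroupOf isPGroup_subgroupOf_iff isPGroup_map_subtype_iff isPGroup_zpowers_of_orderOf
open scoped commutatorElement

/-- Let P be a finite p-minimal group with O_p(P) = 1, S a Sylow p-subgroup of P and K a component of P. Then O^p(P) = F*(P) = E(P) is generated by the S-conjugates of K, and the subgroup K·N_S(K) is again p-minimal. -/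
theorem result {P : Type*} [Group P] [Finite P] {p : ℕ} [Fact p.Prime] (hP : Cfsg.IsPMinimal p P) (hOp : Cfsg.pCore p P = ⊥) (S : Sylow p P) (K : Subgroup P) (hK : Cfsg.IsComponent K) : Cfsg.pResidual p P = Cfsg.generalizedFittingSubgroup P ∧ Cfsg.generalizedFittingSubgroup P = Cfsg.layer P ∧ Cfsg.layer P = ⨆ s : ↥(S : Subgroup P), K.map (MulAut.conj (s : P)).toMonoidHom ∧ Cfsg.IsPMinimal p ↥(K ⊔ ((S : Subgroup P) ⊓ Subgroup.normalizer (K : Set P))) := by
  have hp' := pMin_top.2 hP
  have hS := syl_top S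
  obtain ⟨h0, M, h⟩ := hp'.exists_uMax hS
  haveI := Lib.Layer.layer_normal (G := P)
  have hKp := Lib.Layer.IsComponent.commutator_self hK
  have hKE := Lib.Layer.IsComponent.le_layer hK
  have hKn := Lib.Layer.IsComponent.layer_le_normalizer hK
  have hnot : ∀ N : Subgroup P, N.Normal → K ≤ N → pResidual p P ≤ N := fun N _ hN => by
    refine res_top (p := p) (G := P) ▸ (h.res_le_or hS le_top le_normalizer_of_normal).resolve_right
      fun c => ?_
    have c1 := (h.pCl S.2 c le_normalizer_of_normal).coprime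
      (eq_bot_iff.2 ((op_le_pCore N).trans hOp.le))
    haveI : Group.IsNilpotent (frattini P) := frattini_nilpotent
    exact Lib.Layer.IsComponent.ne_bot hK (eq_bot_of_le_commutator
      (hN.trans (h.le_frattini S.2 c c1)) (hN.trans (h.le_frattini S.2 c c1)) hKp.ge)
  have e1 : layer P ≤ pResidual p P := by
    rw [← res_top]; exact le_res_of_perfect Lib.Layer.layer_commutator_self le_top
  have e2 : pResidual p P = layer P := le_antisymm (hnot _ inferInstance hKE) e1
  have e3 : generalizedFittingSubgroup P = layer P := le_antisymm (sup_le le_rfl (by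
    rw [← e2, ← res_top]
    exact le_res_of_coprime le_top (coprime_of_le (coprime_card_pPrimeCore p P)
      (fitting_le_pPrimeCore_of_pCore_eq_bot Fact.out hOp)))) Lib.Layer.layer_le_fstar
  have e4 : layer P ⊔ S = ⊤ := by rw [← e2, ← res_top]; exact hS.res_sup
  have e5 : layer P = ncl K S := by
    refine le_antisymm (e2 ▸ hnot _ (normal_of_top_le_normalizer ?_) (le_iSup_cj _ _))
      (iSup_cj_le hKE le_normalizer_of_normal)
    rw [← e4]
    exact sup_le (le_normalizer_iSup fun s => Lib.Layer.IsComponent.layer_le_normalizer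
      (Lib.Layer.IsComponent.conj hK s)) (le_normalizer_iSup_cj _ _)
  refine ⟨e2.trans e3.symm, e3, e5, pMin_iff.1 ?_⟩
  set R := (S : Subgroup P) ⊓ normalizer (K : Set P) with hR
  have r1 := hS.inf_subnormal_top hK.1
  have r2 : (S : Subgroup P) ⊓ K ≤ R := inf_le_inf_left _ le_normalizer
  have r3 : Syl p R (K ⊔ R) := by
    obtain ⟨T, t1, t2⟩ := exists_syl_ge (H := K ⊔ R) (S.2.to_le inf_le_left) le_sup_right
    have t3 := r1.eq_of_le (T ⊓ K) (le_inf (r2.trans t2) inf_le_right) inf_le_right
      (t1.isPGroup.to_le inf_le_left)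
    have t4 : T = R := by
      rw [← inf_eq_right.2 t1.le, sup_comm, sup_inf_of_le_normalizer t2 inf_le_right, inf_comm K T, t3,
        sup_eq_left.2 r2]
    exact t4 ▸ t1
  have hKM : ¬ K ≤ M := fun c => h.not_le (e4.ge.trans (sup_le (e5.le.trans
    (iSup_cj_le c (le_normalizer_of_le h.le))) h.le))
  have hOK : pCoreOf p K = ⊥ := eq_bot_iff.2 ((pCoreOf_le_pCore_of_isSubnormal hK.1).trans hOp.le)
  refine ⟨R, (K ⊔ R) ⊓ M, r3, fun c => ?_, le_inf le_sup_right (inf_le_left.trans h.le),
    inf_lt_left.2 fun c => hKM (le_sup_left.trans c), fun X a b => le_inf b.le ?_⟩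
  · have c1 : (S : Subgroup P) ⊓ K = ⊥ := by
      rw [← inf_eq_left.2 r2, inf_assoc, eq_bot_iff, ← hOK]
      exact inf_le_right.trans (le_op inf_le_left (le_normalizer_inf le_normalizer (le_sup_left.trans c))
        (S.2.to_le (inf_le_right.trans inf_le_left)))
    have c2 : (Nat.card K).Coprime p := by
      rwa [r1.eq_bot_iff, ← (Fact.out : p.Prime).coprime_iff_not_dvd, Nat.coprime_comm] at c1
    have c3 : K ≤ pPrimeCore p P := le_pPrimeCore_of_isSubnormal hK.1 c2
    obtain ⟨q, q1, -, q2⟩ := h.exists_prime hS (coprime_of_le (coprime_card_pPrimeCore p P)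
      (res_top (p := p) (G := P) ▸ hnot _ inferInstance c3))
    haveI := Fact.mk q1
    rw [res_top, e2] at q2
    exact Lib.Layer.IsComponent.ne_bot hK (eq_bot_of_le_comm q2 hKE
      (hKp.ge.trans (commutator_mono le_rfl hKE)))
  · have x1 : X = R ⊔ (K ⊓ X) := by
      rw [← sup_inf_of_le_normalizer a inf_le_right, sup_comm, inf_eq_right.2 b.le]
    refine x1.le.trans (sup_le (inf_le_left.trans h.le) ((le_iSup_cj (K ⊓ X) S).trans (le_sup_left.trans
      (h.max (ncl (K ⊓ X) S ⊔ S) le_sup_right (lt_top_iff_ne_top.2 fun c => ?_)))))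
    have x2 : K ≤ ncl (K ⊓ X) S := hKE.trans (e1.trans (res_top (p := p) (G := P) ▸
      res_le_of_le_sup S.2 (le_normalizer_iSup_cj _ _) c.ge))
    have x3 : ncl (K ⊓ X) S ≤ (K ⊓ X) ⊔ centralizer (K : Set P) := iSup_le fun s => by
      rcases Classical.em (cj (s : P) K = K) with hs | hs
      · have : R ≤ normalizer ((K ⊓ X : Subgroup P) : Set P) :=
          le_normalizer_inf inf_le_right (le_normalizer_of_le a)
        rw [cj_of_mem_normalizer (this ⟨s.2, cj_eq_self_iff.1 hs⟩)]
        exact le_sup_left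
      · exact ((cj_mono _ inf_le_left).trans (comm_eq_bot_iff.1
          (Lib.Layer.IsComponent.commutator_eq_bot_of_ne (Lib.Layer.IsComponent.conj hK s) hK hs))).trans
          le_sup_right
    have x4 : K ≤ (K ⊓ X) ⊔ (centralizer (K : Set P) ⊓ K) := by
      rw [← sup_inf_of_le_normalizer inf_le_left (le_normalizer_centralizer
        (le_normalizer_of_le inf_le_left))]
      exact le_inf (x2.trans x3) le_rfl
    have x5 : ∀ A, A ≤ K → ⁅centralizer (K : Set P) ⊓ K, A⁆ = ⊥ := fun A hA =>
      comm_eq_bot_iff.2 (inf_le_left.trans (centralizer_anti hA))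
    have x6 := hKp.ge.trans ((Lib.Layer.commutator_sup_central_le (x5 _ inf_le_left)
      (x5 _ inf_le_right) x4).trans (comm_le_of_le inf_le_right inf_le_right))
    exact b.not_ge (sup_le x6 a)

end Cfsg.Agent.S2906
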