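import Cfsg.Statements.S2907
import Cfsg.Agent.Lib.Amalg.Ops

set_option autoImplicit false
open Cfsg

namespace Cfsg.Agent.S2907

open Subgroup Cfsg.Lib.Amalg
open Cfsg.Lib.Core hiding isPGroup_subgroupOf isPGroup_subgroupOf_iff isPGroup_map_subtype_iff isPGroup_zpowers_of_orderOf
open scoped commutatorElement

/-- Let X be a finite semi-extraspecial p-group and x an element of X outside the centre. Then the index of C_X(x) in X equals the order of Z(X), and the commutators [x, y], y ∈ X, form exactly the centre Z(X). -/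
theorem result {X : Type*} [Group X] [Finite X] {p : ℕ} [Fact p.Prime] (hX : Cfsg.IsSemiExtraspecial p X) (x : X) (hx : x ∉ Subgroup.center X) : (Subgroup.centralizer ({x} : Set X)).index = Nat.card ↥(Subgroup.center X) ∧ {z : X | ∃ y : X, z = x * y * x⁻¹ * y⁻¹} = (Subgroup.center X : Set X) := by
  have hz : ∀ a b : X, ⁅a, b⁆ ∈ center X := fun a b =>
    hX.1.2.2 ▸ commutator_mem_commutator (mem_top a) (mem_top b)
  let φ : X →* X := MonoidHom.mk' (fun y => ⁅x, y⁆) fun a b => by
    rw [show ⁅x, a * b⁆ = ⁅x, a⁆ * (a * ⁅x, b⁆) * a⁻¹ by simp only [commutatorElement_def]; group,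
      mem_center_iff.1 (hz x b) a]; group
  have hle : φ.range ≤ center X := by rintro _ ⟨y, rfl⟩; exact hz x y
  have e : φ.range = center X := by
    by_contra c
    obtain ⟨Y, hY, h⟩ := (eq_top_or_exists_le_coatom (φ.range.subgroupOf (center X))).resolve_left
      fun t => c (le_antisymm hle (subgroupOf_eq_top.1 t))
    obtain ⟨_, h2⟩ := hX.2 (Y.map (center X).subtype) (map_subtype_le Y) (by rwa [map_subtype_subgroupOf])
    let f := QuotientGroup.mk' (Y.map (center X).subtype)
    have h3 : (center X).map f ≤ center _ := by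
      rintro _ ⟨z, hz, rfl⟩
      refine mem_center_iff.2 fun g => ?_
      obtain ⟨g, rfl⟩ := QuotientGroup.mk'_surjective _ g
      rw [← map_mul, mem_center_iff.1 hz g, map_mul]
    have h4 : (center X).map f = center _ := eq_of_le_of_card_le' h3 <| by
      have d := card_dvd_of_le h3
      rw [h2.2] at d ⊢
      rcases (Nat.dvd_prime Fact.out).1 d with d | d
      · exact absurd (map_subtype_subgroupOf Y ▸ subgroupOf_eq_top.2
          ((map_mk'_eq_bot_iff _ _).1 (card_eq_one.1 d))) hY.1
      · exact d.ge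
    have h5 : f x ∈ center _ := mem_center_iff.2 fun g => by
      obtain ⟨g, rfl⟩ := QuotientGroup.mk'_surjective _ g
      refine (commutatorElement_eq_one_iff_mul_comm.1 ?_).symm
      rw [← map_commutatorElement]
      exact (QuotientGroup.eq_one_iff _).2 ⟨⟨_, hz x g⟩, h ⟨g, rfl⟩, rfl⟩
    obtain ⟨z, hz', e⟩ := h4.ge h5
    exact hx ((mul_mem_cancel_left (inv_mem hz')).1 (map_subtype_le Y (QuotientGroup.eq.1 e)))
  refine ⟨?_, ?_⟩
  · rw [← e, ← index_ker]
    congr 1
    ext y
    rw [mem_centralizer_singleton_iff, MonoidHom.mem_ker, eq_comm]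
    exact commutatorElement_eq_one_iff_mul_comm.symm
  · rw [← e]
    ext z
    exact exists_congr fun y => eq_comm

end Cfsg.Agent.S2907
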