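import Cfsg.Statements.S2908
import Cfsg.Agent.Lib.Amalg.CharP

set_option autoImplicit false
open Cfsg

namespace Cfsg.Agent.S2908

open Subgroup Cfsg.Lib.Amalg
open Cfsg.Lib.Core hiding isPGroup_subgroupOf isPGroup_subgroupOf_iff isPGroup_map_subtype_iff isPGroup_zpowers_of_orderOf
open scoped commutatorElement

/-- Let P be a p-subgroup of a finite group, normalized by a p-subgroup A and by a subgroup B of order prime to p that commutes elementwise with A. If [P, B] ≤ [P, A], then B centralizes P. -/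
theorem result {G : Type*} [Group G] [Finite G] {p : ℕ} [Fact p.Prime] (P A B : Subgroup G) (hP : IsPGroup p ↥P) (hA : IsPGroup p ↥A) (hB : ¬ p ∣ Nat.card ↥B) (hnA : A ≤ Subgroup.normalizer (P : Set G)) (hnB : B ≤ Subgroup.normalizer (P : Set G)) (hAB : ⁅A, B⁆ = ⊥) (hcomm : ⁅P, B⁆ ≤ ⁅P, A⁆) : ⁅P, B⁆ = ⊥ := by
  have hB' : (Nat.card B).Coprime p := ((Nat.Prime.coprime_iff_not_dvd Fact.out).2 hB).symm
  set R := ⁅P, B⁆ with hR
  set C := P ⊓ 𝐂 B with hC
  set L := A ⊔ P with hL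
  have hLp : IsPGroup p L := isPGroup_sup_of_le_normalizer hA hP hnA
  have hAB' : A ≤ 𝐂 B := comm_eq_bot_iff.1 hAB
  have hRP : R ≤ P := comm_le_left hnB
  have hLR : L ≤ 𝐍 R := sup_le (le_normalizer_commutator hnA (hAB'.trans (cent_le_norm B)))
    (left_le_normalizer_comm _ _)
  have hBL : B ≤ 𝐍 L := le_normalizer_sup ((le_cent_symm hAB').trans (cent_le_norm A)) hnB
  set N := ⁅R, L⁆ with hN
  have hLN : L ≤ 𝐍 N := right_le_normalizer_comm _ _
  have hBN : B ≤ 𝐍 N := le_normalizer_commutator (right_le_normalizer_comm _ _) hBL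
  have hCL : C ≤ L := inf_le_left.trans le_sup_right
  have hRL : R ≤ L := hRP.trans le_sup_right
  have h1 : R ⊔ C = P := comm_sup_cent_of_pPrime hB' hP hnB
  have h2 : R ≤ 𝐍 (N ⊔ C) := le_normalizer_of_comm_le (le_trans (comm_sup_le
    (comm_le_left (hRL.trans hLN)) (by rw [commutator_comm]; exact commutator_mono le_rfl hCL)
    le_normalizer (hCL.trans hLN)) le_sup_left)
  have h3 : ⁅P, A⁆ ≤ N ⊔ C := by
    rw [← h1]
    refine comm_sup_le ((commutator_mono le_rfl le_sup_left).trans le_sup_left)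
      ((comm_le_left (le_normalizer_inf hnA (hAB'.trans le_normalizer))).trans le_sup_right) h2
      (le_normalizer_of_le le_sup_right)
  have h4 : ⁅N ⊔ C, B⁆ ≤ N := comm_sup_le (comm_le_left hBN)
    ((comm_eq_bot_iff.2 inf_le_right).le.trans bot_le) le_normalizer (hCL.trans hLN)
  refine eq_bot_of_le_comm hLp hRL ?_
  calc R = ⁅R, B⁆ := (comm_comm_eq_of_pPrime hB' hP hnB).symm
    _ ≤ ⁅N ⊔ C, B⁆ := commutator_mono (hcomm.trans h3) le_rfl
    _ ≤ N := h4

end Cfsg.Agent.S2908
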