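import Cfsg.Statements.S2909
import Cfsg.Agent.Lib.Amalg.CharP
import Cfsg.Agent.Lib.Coprime.Generation
import Cfsg.Agent.Lib.Coprime.PGroup
import Cfsg.Agent.Lib.PGrp.Comm

set_option autoImplicit false
open Cfsg

namespace Cfsg.Agent.S2909

open Subgroup Cfsg.Lib.Amalg
open Cfsg.Lib.Core hiding isPGroup_subgroupOf isPGroup_subgroupOf_iff isPGroup_map_subtype_iff isPGroup_zpowers_of_orderOf
open scoped commutatorElement

/-- Let p be a prime, E a normal p-subgroup of the finite group G, and U a non-cyclic elementary abelian p-subgroup of G such that either C_E(U) = C_E(u) for every nontrivial u ∈ U, or [E, U] = [E, ⟨u⟩] for every nontrivial u ∈ U. If R is a subgroup of order prime to p normalized by U, then [R, U] centralizes E. -/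
theorem result {G : Type*} [Group G] [Finite G] {p : ℕ} [Fact p.Prime] (E : Subgroup G) [E.Normal] (hE : IsPGroup p ↥E) (U : Subgroup G) (hU : Cfsg.IsElementaryAbelian p U) (hnc : ¬ IsCyclic ↥U) (hcond : (∀ u ∈ U, u ≠ 1 → E ⊓ Subgroup.centralizer (U : Set G) = E ⊓ Subgroup.centralizer ({u} : Set G)) ∨ (∀ u ∈ U, u ≠ 1 → ⁅E, U⁆ = ⁅E, Subgroup.zpowers u⁆)) (R : Subgroup G) (hR : ¬ p ∣ Nat.card ↥R) (hRU : U ≤ Subgroup.normalizer (R : Set G)) : ⁅R, U⁆ ≤ Subgroup.centralizer (E : Set G) := by
  haveI := hU.1
  have cU := elemAb_le_cent hU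
  have hR' : (Nat.card R).Coprime p := ((Fact.out : p.Prime).coprime_iff_not_dvd.2 hR).symm
  have nE : ∀ A : Subgroup G, A ≤ normalizer (E : Set G) := fun A => le_normalizer_of_normal'
  refine Lib.Coprime.commutator_le_of_forall_centralizer hnc hRU
    (coprime_card_of_isPGroup Fact.out (elemAb_isPGroup hU) hR') fun u hu n => ?_
  have e : centralizer ({u} : Set G) = centralizer (zpowers u : Set G) := by
    rw [zpowers_eq_closure, centralizer_closure]
  have uU := zpowers_le.2 hu
  have hu' := (elemAb_isPGroup hU).to_le uU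
  have Uu : U ≤ centralizer (zpowers u : Set G) := cU.trans (centralizer_le uU)
  have hX : ⁅R ⊓ centralizer {u}, U⁆ ≤ R ⊓ centralizer {u} := comm_le_left
    (le_normalizer_inf hRU (e ▸ Uu.trans le_normalizer))
  have cX := coprime_of_le hR' (hX.trans inf_le_left)
  have Xu := (hX.trans inf_le_right).trans e.le
  have Yu : R ⊓ centralizer {u} ≤ normalizer (zpowers u : Set G) :=
    (inf_le_right.trans e.le).trans (cent_le_norm _)
  rcases hcond with h | h
  · refine Lib.Amalg.thompson_PxQ cX hu' hE Xu (nE _) (nE _) (le_cent_symm ?_)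
    exact Lib.Coprime.commutator_le_centralizer_of_centralizes (le_normalizer_inf (nE _)
      (Yu.trans (normalizer_le_normalizer_centralizer _))) (e ▸ h u hu n ▸ le_cent_symm inf_le_right)
  · have h1 : ⁅E, ⁅R ⊓ centralizer {u}, U⁆⁆ ≤ ⁅E, zpowers u⁆ := by
      have nY : R ⊓ centralizer {u} ≤ normalizer ((⁅E, U⁆ : Subgroup G) : Set G) :=
        (h u hu n).symm ▸ le_normalizer_commutator (nE _) Yu
      rw [commutator_comm, ← h u hu n]
      exact Lib.PGrp.three_subgroups_of_le_normalizer nY (right_le_normalizer_comm _ _)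
        (left_le_normalizer_comm _ _) (commutator_comm E U ▸ comm_le_left (commutator_comm E U ▸ nY))
        (commutator_mono (comm_le_left (nE _)) le_rfl)
    generalize ⁅R ⊓ centralizer {u}, U⁆ = X at *
    have cop := (coprime_card_of_isPGroup Fact.out hE cX).symm
    have DE : ⁅E, X⁆ ≤ E := comm_le_left (nE _)
    have uX : zpowers u ≤ normalizer (X : Set G) := (le_cent_symm Xu).trans (cent_le_norm _)
    have nD : E ⊔ zpowers u ≤ normalizer ((⁅E, X⁆ : Subgroup G) : Set G) :=
      sup_le (left_le_normalizer_comm _ _) (le_normalizer_commutator (nE _) uX)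
    have nN := right_le_normalizer_comm ⁅E, X⁆ (E ⊔ zpowers u)
    have XN : X ≤ normalizer ((⁅⁅E, X⁆, E ⊔ zpowers u⁆ : Subgroup G) : Set G) :=
      le_normalizer_commutator (right_le_normalizer_comm _ _)
        (le_normalizer_sup (nE _) (Xu.trans (cent_le_norm _)))
    have CN := (inf_le_left : E ⊓ centralizer (X : Set G) ≤ E).trans (le_sup_left.trans nN)
    have h2 : ⁅E, zpowers u⁆ ≤ ⁅⁅E, X⁆, E ⊔ zpowers u⁆ ⊔ E ⊓ centralizer (X : Set G) := by
      have s := Lib.Coprime.commutator_sup_centralizer (nE X) cop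
        (.inr (Lib.Coprime.isSolvable_of_isPGroup hE))
      refine (commutator_mono s.ge le_rfl).trans (comm_sup_le
        ((commutator_mono le_rfl le_sup_right).trans le_sup_left)
        ((comm_le_left (le_normalizer_inf (nE _) (uX.trans (normalizer_le_normalizer_centralizer _)))).trans
          le_sup_right) (le_normalizer_of_comm_le' (((commutator_mono le_rfl (sup_le ((comm_le_left nD).trans DE) inf_le_left)).trans
          (commutator_mono le_rfl le_sup_left)).trans le_sup_left)) (le_sup_right.trans le_normalizer))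
    refine comm_eq_bot_iff'.1 (eq_bot_of_le_comm (isPGroup_sup_of_le_normalizer' hE hu' (nE _))
      (DE.trans le_sup_left) ((Lib.Coprime.commutator_commutator_eq (nE X) cop).ge.trans
      ((commutator_mono (h1.trans h2) le_rfl).trans (comm_sup_le (comm_le_left XN)
        ((comm_eq_bot_iff.2 inf_le_right).le.trans bot_le) le_normalizer CN))))

end Cfsg.Agent.S2909
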