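import Cfsg.Statements.S2910
import Cfsg.Agent.Lib.Amalg.Bridge
import Cfsg.Agent.Lib.Amalg.FStarAct
import Cfsg.Agent.Lib.Coprime.PGroup
import Cfsg.Agent.Lib.Layer.Quasisimple

set_option autoImplicit false
open Cfsg

namespace Cfsg.Agent.S2910

open Subgroup Cfsg.Lib.Amalg
open Cfsg.Lib.Core hiding isPGroup_subgroupOf isPGroup_subgroupOf_iff isPGroup_map_subtype_iff isPGroup_zpowers_of_orderOf
open scoped commutatorElement

/-- Let p be an odd prime dividing the order of the finite group G and P a Sylow p-subgroup of G. If Ω₁(P) (generated by the elements of order dividing p) is contained in the centre of G, then G has a normal p-complement. In particular, if G is quasisimple then Ω₁(P) is not central in G. -/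
theorem result {G : Type*} [Group G] [Finite G] {p : ℕ} [Fact p.Prime] (hp : p ≠ 2) (hdiv : p ∣ Nat.card G) (P : Sylow p G) (hZ : Cfsg.omegaOne p (P : Subgroup G) ≤ Subgroup.center G) : Cfsg.HasNormalPComplement p G ∧ ¬ Cfsg.IsQuasisimple G := by
  have h : Lib.Transfer.PNil p (⊤ : Subgroup G) := (syl_top P).sylowIn.pnil_iff_forall.2
    fun Q hQ g _ hn o => Lib.Coprime.le_centralizer_of_omega_one hp (P.isPGroup'.to_le hQ)
      (zpowers_le.2 hn) (by rwa [Nat.card_zpowers]) (fun x hx e =>
        center_le_centralizer _ (hZ (mem_om (hQ hx) e))) (mem_zpowers g)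
  refine ⟨Lib.Transfer.hasNormalPComplement_iff_top.2 h, fun q => h ?_⟩
  rw [resOf_eq_res, top_le_iff.1 (le_res_of_perfect (Lib.Layer.IsQuasisimple.commutator_eq_top q) le_rfl),
    card_top]
  exact hdiv

end Cfsg.Agent.S2910
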