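import Cfsg.Statements.S2911
import Cfsg.Agent.S2872
import Cfsg.Agent.Lib.Invol.Classes

set_option autoImplicit false
open Cfsg

namespace Cfsg.Agent.S2911

open Subgroup Cfsg.Lib.Amalg
open Cfsg.Lib.Core hiding isPGroup_subgroupOf isPGroup_subgroupOf_iff isPGroup_map_subtype_iff isPGroup_zpowers_of_orderOf
open scoped commutatorElement

/-- A finite group whose Sylow 2-subgroups are isomorphic to the direct product of a group of order 2 and a dihedral group of order 8 has a subgroup of index two. -/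
theorem result {G : Type*} [Group G] [Finite G] (S : Sylow 2 G) (hS : Nonempty (↥(S : Subgroup G) ≃* Multiplicative (ZMod 2) × DihedralGroup 4)) : ∃ H : Subgroup G, H.index = 2 := by
  obtain ⟨e⟩ := hS
  by_contra hn
  let ι : Multiplicative (ZMod 2) × DihedralGroup 4 →* G := (S : Subgroup G).subtype.comp e.symm.toMonoidHom
  have inj : Function.Injective ι := Subtype.val_injective.comp e.symm.injective
  have sur : ∀ x ∈ (S : Subgroup G), ∃ y, ι y = x := fun x hx => ⟨e ⟨x, hx⟩, by simp [ι]⟩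
  have mem : ∀ y, ι y ∈ (S : Subgroup G) := fun y => (e.symm y).2
  rcases S2872.result S with h | h | ⟨g, hg, z, hz, h⟩
  · exact h (Lib.Invol.pResidual_two_eq_top_iff.2 fun H c => hn ⟨H, c⟩)
  · have : ι (.ofAdd 1, 1) ∈ (MonoidHom.fst _ _).ker.map ι := (frattiniOf_le_iff S.isPGroup').2
      ⟨commutator_le.2 fun a ha b hb => by
        obtain ⟨a, rfl⟩ := sur a ha
        obtain ⟨b, rfl⟩ := sur b hb
        exact ⟨⁅a, b⁆, (by decide : ∀ x y : Multiplicative (ZMod 2), x * y * x⁻¹ * y⁻¹ = 1) a.1 b.1,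
          map_commutatorElement _ _ _⟩, fun a ha => by
        obtain ⟨a, rfl⟩ := sur a ha
        exact ⟨a ^ 2, (by decide : ∀ x : Multiplicative (ZMod 2), x ^ 2 = 1) a.1, map_pow _ _ _⟩⟩
      (h (mem_om ⟨mem _, fun a ha => by
        obtain ⟨a, rfl⟩ := sur a ha
        rw [← map_mul, ← map_mul]; congr 1; ext1 <;> simp [mul_comm]⟩ (by rw [← map_pow, ← map_one ι]; rfl)))
    obtain ⟨y, hy, e⟩ := this
    rw [inj e] at hy
    exact absurd (MonoidHom.mem_ker.1 hy) (by decide)
  · have hz' := (om_le _ hz)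
    have c : ∀ n ∈ normalizer ((S : Subgroup G) : Set G), ∀ x ∈ (S : Subgroup G) ⊓ centralizer (S : Set G),
        n * x * n⁻¹ ∈ (S : Subgroup G) ⊓ centralizer (S : Set G) := fun n hn x hx =>
      (mem_normalizer_iff.1 (le_normalizer_inf le_rfl (normalizer_le_normalizer_centralizer _) hn) x).1 hx
    have cen : ∀ x ∈ (S : Subgroup G) ⊓ centralizer (S : Set G), x = 1 ∨ x = ι (1, .r 2) ∨
        x = ι (.ofAdd 1, 1) ∨ x = ι (.ofAdd 1, .r 2) := fun x hx => by
      obtain ⟨y, rfl⟩ := sur x hx.1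
      have : ∀ y : Multiplicative (ZMod 2) × DihedralGroup 4, (∀ a, a * y = y * a) →
        y = 1 ∨ y = (1, .r 2) ∨ y = (.ofAdd 1, 1) ∨ y = (.ofAdd 1, .r 2) := by decide
      rcases this y fun a => inj (by rw [map_mul, map_mul]; exact hx.2 _ (mem a)) with h | h | h | h <;>
        simp [h]
    have fix : g * ι (1, .r 2) * g⁻¹ = ι (1, .r 2) := by
      obtain ⟨y, hy⟩ := sur _ ((mem_normalizer_iff.1 hg _).1 (mem (1, .r 1)))
      have e1 : g * ι (1, .r 2) * g⁻¹ = ι (y * y) := by
        rw [map_mul, hy, show ((1, .r 2) : Multiplicative (ZMod 2) × DihedralGroup 4) = (1, .r 1) * (1, .r 1)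
          from by decide, map_mul]; group
      have : ∀ y : Multiplicative (ZMod 2) × DihedralGroup 4, y * y = 1 ∨ y * y = (1, .r 2) := by decide
      rcases this y with h | h
      · rw [h, map_one, conj_eq_one_iff, ← map_one ι] at e1
        exact absurd (inj e1) (by decide)
      · rw [e1, h]
    obtain ⟨m, hm, hgm⟩ := Lib.Invol.exists_odd_pow_mem S hg
    have swap : g * (g * z * g⁻¹) * g⁻¹ = z := by
      have k : ∀ a b : G, g * a * g⁻¹ = g * b * g⁻¹ → a = b := fun a b e => by simpa using e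
      have k1 : g * 1 * g⁻¹ = 1 := by group
      have h2 : g * (g * z * g⁻¹) * g⁻¹ ≠ g * z * g⁻¹ := fun t => h (k _ _ t)
      rcases cen z hz' with a | a | a | a <;> rcases cen _ (c g hg z hz') with b | b | b | b <;>
        rcases cen _ (c g hg _ (c g hg z hz')) with d | d | d | d <;>
        first
          | exact d.trans a.symm
          | exact absurd (b.trans a.symm) h
          | exact absurd (d.trans b.symm) h2
          | exact absurd (a ▸ k1 : g * z * g⁻¹ = z) h
          | exact absurd (a ▸ fix : g * z * g⁻¹ = z) h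
          | exact absurd (b ▸ k1 : g * (g * z * g⁻¹) * g⁻¹ = g * z * g⁻¹) h2
          | exact absurd (b ▸ fix : g * (g * z * g⁻¹) * g⁻¹ = g * z * g⁻¹) h2
          | exact absurd ((k _ _ (d.trans k1.symm)) ▸ k1 : g * (g * z * g⁻¹) * g⁻¹ = g * z * g⁻¹) h2
          | exact absurd ((k _ _ (d.trans fix.symm)) ▸ fix : g * (g * z * g⁻¹) * g⁻¹ = g * z * g⁻¹) h2
    have := Lib.Invol.conj_odd_pow_of_swap rfl swap hm
    rw [hz'.2 _ hgm, mul_inv_cancel_right] at this
    exact h this.symm

end Cfsg.Agent.S2911
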