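import Cfsg.Statements.S2912
import Cfsg.Agent.Lib.PGrp.Extra
import Cfsg.Agent.Lib.Coprime.Wielandt
import Cfsg.Agent.Lib.Coprime.Generation

set_option autoImplicit false
open Cfsg

namespace Cfsg.Agent.S2912

open Cfsg.Lib.PGrp Cfsg.Lib.Forms Cfsg.Lib.Coprime Subgroup Module
open scoped commutatorElement

universe u

theorem pow_le {G : Type*} [Group G] [Finite G] {B : Subgroup G} [IsMulCommutative B] {c n : ℕ} (t : ℕ → G)
    (h1 : ∀ j, t j ∈ normalizer (B : Set G)) (h2 : ∀ j, (Nat.card (zpowers (t j))).Coprime (Nat.card B))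
    (h3 : ∀ j, Nat.card ↥(B ⊓ centralizer ({t j} : Set G)) = c) (h4 : ∀ i j, Commute (t i) (t j))
    (h5 : ∀ i j, i < j → j < n → B ⊓ centralizer ({t i} : Set G) ⊓ centralizer ({t j} : Set G) = ⊥) :
    c ^ n ≤ Nat.card B := by
  have key : ∀ k ≤ n, ∃ W ≤ B, Nat.card W = c ^ k ∧ ∀ j, k ≤ j → j < n → W ≤ ⁅B, zpowers (t j)⁆ := by
    intro k
    induction k with
    | zero => exact fun _ => ⟨⊥, bot_le, by simp, fun _ _ _ => bot_le⟩
    | succ k ih =>
      intro hk
      obtain ⟨W, hW, hc, h⟩ := ih (by omega)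
      refine ⟨W ⊔ B ⊓ centralizer {t k}, sup_le hW inf_le_left, ?_, fun j hj hjn => sup_le (h j (by omega) hjn) ?_⟩
      · rw [card_sup_of_disjoint' (inf_le_left.trans (le_normalizer_of_le_of_comm hW)), hc, h3, pow_succ]
        rw [eq_bot_iff, ← centralizer_inf_commutator_eq_bot (zpowers_le.2 (h1 k)) (h2 k), centralizer_zpowers, inf_comm]
        exact inf_le_inf_left _ (h k le_rfl hk)
      · have h6 : zpowers (t j) ≤ normalizer ((B ⊓ centralizer {t k} : Subgroup G) : Set G) :=
          zpowers_le.2 (inf_normalizer_le_normalizer_inf ⟨h1 j, le_normalizer (mem_centralizer_singleton_iff.2 (h4 j k))⟩)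
        haveI := isMulCommutative_of_le ‹_› (inf_le_left : B ⊓ centralizer {t k} ≤ B)
        rw [← centralizer_sup_commutator_eq h6 ((h2 j).coprime_dvd_right (card_dvd_of_le inf_le_left)),
          centralizer_zpowers, h5 k j hj hjn, bot_sup_eq]
        exact commutator_mono inf_le_left le_rfl
  obtain ⟨W, hW, hc, -⟩ := key n le_rfl
  exact hc ▸ card_le_of_le hW

theorem aux {G : Type*} [Group G] [Finite G] {p r : ℕ} [hp : Fact p.Prime] [hr : Fact r.Prime] (hpr : p ≠ r) (n : ℕ)
    (hmin : ∀ k : ℕ, 1 ≤ k → p ∣ r ^ k - 1 → n ≤ k) (m : ℕ) : ∀ (E V : Type u) [Group E] [Finite E] [AddCommGroup V]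
    [Module (ZMod p) V] (M : CExt p E V) (φ : E →* G) (B : Subgroup G), Function.Injective φ → M.alt.Nondeg →
    finrank (ZMod p) V = 2 * m → IsElementaryAbelian r B → (∀ e, φ e ∈ normalizer (B : Set G)) → B ≠ ⊥ →
    B ⊓ centralizer ({φ (M.i 1)} : Set G) = ⊥ → r ^ (n * p ^ m) ≤ Nat.card B := by
  have hcop : ∀ (g : G) (B : Subgroup G), g ^ p = 1 → IsElementaryAbelian r B →
      (Nat.card (zpowers g)).Coprime (Nat.card B) := fun g B hg hB => by
    obtain ⟨k, hk⟩ := exists_card_eq_pow_of_isElementaryAbelian hB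
    rw [hk, Nat.card_zpowers]
    exact (((Nat.coprime_primes hp.out hr.out).2 hpr).coprime_dvd_left (orderOf_dvd_of_pow_eq_one hg)).pow_right _
  induction m with
  | zero =>
    intro E V _ _ _ _ M φ B hφ hN hm hB hn h0 hz
    obtain ⟨k, hk⟩ := exists_card_eq_pow_of_isElementaryAbelian hB
    have := dvd_pow_sub_one_of_card_eq hp.out hpr (A := zpowers (φ (M.i 1))) (isPGroup_of_isElementaryAbelian
      (isElementaryAbelian_zpowers (by rw [← map_pow, M.i_pow, map_one]))) (isPGroup_of_isElementaryAbelian hB)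
      (zpowers_le.2 (hn _)) (k := k) (by rw [centralizer_zpowers, hz, card_bot, mul_one, hk])
    rw [hk, pow_zero, mul_one]
    exact Nat.pow_le_pow_right hr.out.pos (hmin k (Nat.pos_of_ne_zero fun e => h0 (by
      rwa [e, pow_zero, card_eq_one] at hk)) this)
  | succ m ih =>
    intro E V _ _ _ _ M φ B hφ hN hm hB hn h0 hz
    haveI := M.finite
    haveI := hB.1
    haveI : Nontrivial V := nontrivial_of_finrank_pos (R := ZMod p) (by omega)
    have hz' : ∀ a, a ≠ 0 → B ⊓ centralizer ({φ (M.i a)} : Set G) = ⊥ := fun a ha => by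
      rw [eq_bot_iff, ← hz, ← mul_inv_cancel₀ ha, ← ZMod.natCast_zmod_val a⁻¹, mul_comm, ← nsmul_eq_mul, M.i_nsmul,
        map_pow]
      exact inf_le_inf_left _ fun g hg => mem_centralizer_singleton_iff.2
        (Commute.pow_right (mem_centralizer_singleton_iff.1 hg) _)
    by_cases hv : ∃ v, v ≠ 0 ∧ M.P v = 0
    · obtain ⟨v, hv0, hv⟩ := hv
      have hL : IsElementaryAbelian p (M.pre (ZMod p ∙ v)) := ⟨isMulCommutative_iff_forall.2 fun x hx y hy => by
        obtain ⟨a, ha⟩ := Submodule.mem_span_singleton.1 hx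
        obtain ⟨b, hb⟩ := Submodule.mem_span_singleton.1 hy
        exact M.B_eq_zero.1 (by simp [← ha, ← hb, M.B_isAlt v]), fun x hx => by
        obtain ⟨a, ha⟩ := Submodule.mem_span_singleton.1 hx
        exact M.P_eq_zero.1 (by rw [← ha, M.P_smul, hv, mul_zero])⟩
      have hL' := isElementaryAbelian_map φ hL
      have hLc : Nat.card ((M.pre (ZMod p ∙ v)).map φ) = p ^ 2 := by
        rw [card_map_of_injective hφ, M.card_pre, finrank_span_singleton hv0]
      haveI := hL'.1
      obtain ⟨k, hk⟩ := exists_card_eq_pow_of_isElementaryAbelian hB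
      obtain ⟨_, ⟨x, hx, rfl⟩, hx1, hxB⟩ := exists_centralizer_ne_bot (not_isCyclic_of_isElementaryAbelian hL' (by
        rw [hLc]; nlinarith [hp.out.one_lt])) (K := B) (by rintro _ ⟨x, -, rfl⟩; exact hn x)
        (by rw [hLc, hk]; exact Nat.Coprime.pow _ _ ((Nat.coprime_primes hp.out hr.out).2 hpr)) h0
      have hx0 : M.pr x ≠ 0 := fun e => by
        obtain ⟨a, rfl⟩ := M.pr_eq_zero.1 e
        exact hxB (hz' a fun e => hx1 (by simp [e]))
      obtain ⟨f, hf⟩ := Symp.exists_isHyp' hN hx0
      have h1 := ih _ _ (M.restrict (M.alt.hp (M.pr x) f)) (φ.comp (Subgroup.subtype _)) (B ⊓ centralizer {φ x})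
        (hφ.comp Subtype.val_injective) (M.restrict_nondeg (hf.nondeg_hp hN)) (by have := hf.finrank_hp; omega)
        (isElementaryAbelian_of_le hB inf_le_left) (fun e => inf_normalizer_le_normalizer_inf ⟨hn _, le_normalizer
          (mem_centralizer_singleton_iff.2 (Commute.map (M.B_eq_zero.1 (M.alt.mem_hp.1 e.2).1).symm φ))⟩) hxB
        (eq_bot_iff.2 ((inf_le_inf_right _ inf_le_left).trans hz.le))
      rw [pow_succ, ← mul_assoc, pow_mul]
      refine (Nat.pow_le_pow_left h1 p).trans (pow_le (fun j => φ (M.i j * x)) (fun j => hn _) (fun j => hcop _ _ (by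
        rw [← map_pow, (M.i_comm _ _).mul_pow, M.i_pow, hL.2 x hx, one_mul, map_one]) hB) (fun j => ?_)
        (fun i j => ((M.i_comm _ _).mul_left ((M.i_comm _ _).symm.mul_right rfl)).map φ) fun i j hij hj => ?_)
      · obtain ⟨y, hy⟩ := M.pr_surjective (-(j : ZMod p) • f)
        have h2 : M.i j * x = y * x * y⁻¹ := by
          rw [mul_inv_eq_iff_eq_mul.1 (commutatorElement_def y x).symm, ← M.i_B, hy, ← M.B_isAlt.neg_eq]
          simp [show M.B (M.pr x) f = 1 from hf.B_ef]
        rw [← centralizer_zpowers, ← centralizer_zpowers (φ x), ← card_inf_centralizer_conj (A := zpowers (φ x)) (hn y),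
          Lib.Core.conj_smul_eq_map, MonoidHom.map_zpowers, h2, map_mul, map_mul, map_inv]
        rfl
      · rw [eq_bot_iff, ← hz' (j - i) (sub_ne_zero.2 fun e => hij.ne' (by
          simpa [Nat.mod_eq_of_lt hj, Nat.mod_eq_of_lt (hij.trans hj)] using (ZMod.natCast_eq_natCast_iff' _ _ _).1 e))]
        refine fun g hg => ⟨hg.1.1, ?_⟩
        have h2 := mul_mem (mem_centralizer_singleton_iff.2 (mem_centralizer_singleton_iff.1 hg.2).symm)
          (inv_mem (mem_centralizer_singleton_iff.2 (mem_centralizer_singleton_iff.1 hg.1.2).symm))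
        rw [← map_inv, ← map_mul, mul_inv_rev, mul_assoc, mul_inv_cancel_left, ← M.i_neg, ← M.i_add,
          ← sub_eq_add_neg] at h2
        exact mem_centralizer_singleton_iff.2 (mem_centralizer_singleton_iff.1 h2).symm
    · rcases hp.out.eq_two_or_odd' with rfl | ho
      · obtain rfl : m = 0 := by_contra fun h => hv (Quad.exists_singular M.quad (by omega))
        obtain ⟨k, hk⟩ := exists_card_eq_pow_of_isElementaryAbelian hB
        have := hmin 1 le_rfl (by simpa using (hr.out.even_sub_one hpr.symm).two_dvd)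
        rw [hk]
        refine Nat.pow_le_pow_right hr.out.pos (by_contra fun h => h0 ?_)
        obtain ⟨x, y, e⟩ := M.exists_commutator_eq_i hN 1
        have h1 := commutator_normalizer_le_centralizer (isCyclic_of_card_le (isPGroup_of_isElementaryAbelian hB)
          (hk ▸ (Nat.pow_le_pow_right hr.out.pos (by omega : k ≤ 1)).trans (pow_one r).le))
          (commutator_mem_commutator (hn x) (hn y))
        rw [← map_commutatorElement, e] at h1
        exact eq_bot_iff.2 fun b hb => hz.le ⟨hb, mem_centralizer_singleton_iff.2 (h1 b hb)⟩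
      · exfalso
        push Not at hv
        obtain ⟨k, hk⟩ := dvd_choose_two_of_odd ho
        have := Nat.card_le_card_of_injective _ ((injective_iff_map_eq_zero (AddMonoidHom.mk' M.P fun v w => by
          simp [M.P_add, hk])).2 fun v h => by_contra fun h' => hv v h' h)
        rw [natCard_eq_pow_finrank (K := ZMod p), Nat.card_zmod, hm] at this
        exact absurd this (not_le.2 (lt_self_pow₀ hp.out.one_lt (by omega)))

/-- Let p and r be distinct primes, let E be an extraspecial subgroup of order p^(2w+1) of a finite group, and let A be an elementary abelian r-subgroup normalized by E on which E acts faithfully (C_E(A) = 1). If n ≥ 1 is least with p dividing rⁿ − 1 (the smallest dimension of a faithful representation of a group of order p over the field with r elements), then the order of A is at least r^(n·p^w). -/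
theorem result {G : Type*} [Group G] [Finite G] {p r : ℕ} [Fact p.Prime] [hr : Fact r.Prime] (hpr : p ≠ r) (E A : Subgroup G) (w : ℕ) (hE : Cfsg.IsExtraspecial p ↥E) (hEcard : Nat.card ↥E = p ^ (2 * w + 1)) (hA : Cfsg.IsElementaryAbelian r A) (hnorm : E ≤ Subgroup.normalizer (A : Set G)) (hfaith : E ⊓ Subgroup.centralizer (A : Set G) = ⊥) (n : ℕ) (hn : 1 ≤ n) (hdiv : p ∣ r ^ n - 1) (hmin : ∀ k : ℕ, 1 ≤ k → p ∣ r ^ k - 1 → n ≤ k) : r ^ (n * p ^ w) ≤ Nat.card ↥A := by
  obtain ⟨V, _, _, _, M, m, hN, hm⟩ := Cfsg.Lib.PGrp.IsExtraspecial.exists_cExt hE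
  rw [M.card_eq_pow, Nat.pow_right_inj (Fact.out : p.Prime).one_lt, Nat.succ_inj] at hEcard
  haveI := hA.1
  obtain ⟨k, hk⟩ := exists_card_eq_pow_of_isElementaryAbelian hA
  have h1 := zpowers_le.2 (hnorm (M.i 1).2)
  have h2 : (Nat.card (zpowers (M.i 1 : G))).Coprime (Nat.card A) := by
    rw [hk, Nat.card_zpowers, orderOf_coe, M.orderOf_i_one]
    exact ((Nat.coprime_primes Fact.out hr.out).2 hpr).pow_right _
  have h3 := commutator_le_of_le_normalizer h1
  refine (aux hpr n hmin w _ _ M E.subtype ⁅A, zpowers (M.i 1 : G)⁆ Subtype.val_injective hN hEcard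
    (isElementaryAbelian_of_le hA h3) (fun e => ?_) (fun e => ?_) ?_).trans (card_le_of_le h3)
  · exact Lib.Core.le_normalizer_commutator hnorm ((le_centralizer_iff.1 (zpowers_le.2 fun x hx => congrArg Subtype.val
      (M.i_comm 1 ⟨x, hx⟩).symm)).trans (centralizer_le_normalizer _)) e.2
  · rw [commutator_comm, commutator_eq_bot_iff_le_centralizer] at e
    exact one_ne_zero (M.i_eq_one.1 (Subtype.ext (hfaith.le ⟨(M.i 1).2, e (mem_zpowers _)⟩)))
  · rw [eq_bot_iff, ← centralizer_inf_commutator_eq_bot h1 h2, centralizer_zpowers]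
    exact fun x hx => ⟨⟨h3 hx.1, hx.2⟩, hx.1⟩

end Cfsg.Agent.S2912
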