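import Cfsg.Statements.S2917
import Cfsg.Agent.Lib.G23.Init
import Cfsg.Agent.Lib.Comp.G23x.Mat
import Cfsg.Agent.Lib.Linear.SmallIso

set_option autoImplicit false
open Cfsg Cfsg.Lib.G23 Subgroup

namespace Cfsg.Agent.S2917

/-- Let G be a finite group with subgroups H and M such that: H has normal subgroups H₁, H₂ both isomorphic to SL₂(3) with H₁ ∩ H₂ = Z(H₁) = Z(H₂), the product H₁H₂ has index 2 in H, and H = C_G(H₁ ∩ H₂); and M ⧸ O₂(M) ≅ SL₃(2) with O₂(M) elementary abelian of order 8 containing Z(H₁). Then G is isomorphic to the Chevalley group G₂(3). -/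
theorem result {G : Type*} [Group G] [Finite G] (H H₁ H₂ M : Subgroup G) (h1 : H₁ ≤ H) (h2 : H₂ ≤ H) (hn1 : (H₁.subgroupOf H).Normal) (hn2 : (H₂.subgroupOf H).Normal) (hiso1 : Nonempty (↥H₁ ≃* Matrix.SpecialLinearGroup (Fin 2) (ZMod 3))) (hiso2 : Nonempty (↥H₂ ≃* Matrix.SpecialLinearGroup (Fin 2) (ZMod 3))) (hidx : (H₁ ⊔ H₂).relIndex H = 2) (hint1 : H₁ ⊓ H₂ = H₁ ⊓ Subgroup.centralizer (H₁ : Set G)) (hint2 : H₁ ⊓ H₂ = H₂ ⊓ Subgroup.centralizer (H₂ : Set G)) (hHC : H = Subgroup.centralizer ((H₁ ⊓ H₂ : Subgroup G) : Set G)) [hOM : (Cfsg.pCore 2 ↥M).Normal] (hM : Nonempty ((↥M ⧸ Cfsg.pCore 2 ↥M) ≃* Matrix.SpecialLinearGroup (Fin 3) (ZMod 2))) (hOel : Cfsg.IsElementaryAbelian 2 (Cfsg.pCore 2 ↥M)) (hOcard : Nat.card ↥(Cfsg.pCore 2 ↥M) = 8) (hZin : H₁ ⊓ H₂ ≤ (Cfsg.pCore 2 ↥M).map M.subtype) : ∃ (F : Type) (_ : Field F) (_ : Fintype F), Fintype.card F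 = 3 ∧ Nonempty (G ≃* ↥(Cfsg.Lie.chevG2.group F)) := by
  obtain ⟨e1⟩ := hiso1
  obtain ⟨e2⟩ := hiso2
  obtain ⟨eM⟩ := hM
  have cz : ∀ (K : Subgroup G) (e : K ≃* SL3) (m : SL3),
      (e.symm m : G) ∈ K ⊓ centralizer (K : Set G) ↔ m = 1 ∨ m = -1 := fun K e m => by
    refine ⟨fun h => ?_, fun h => ⟨(e.symm m).2, fun x hx => ?_⟩⟩
    · have k : ∀ n, m * n * m⁻¹ = n := fun n => by
        rw [mul_inv_eq_iff_eq_mul]
        exact e.symm.injective (Subtype.ext (by simpa using (h.2 _ (e.symm n).2).symm))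
      exact (by decide +kernel : ∀ a : SL3, a * sX * a⁻¹ = sX → a * sA * a⁻¹ = sA → a = 1 ∨ a = -1) m (k _) (k _)
    · have : e.symm (e ⟨x, hx⟩ * m) = e.symm (m * e ⟨x, hx⟩) := by rcases h with rfl | rfl <;> simp
      simpa using congrArg Subtype.val this
  let i1 : SL3 →* G := H₁.subtype.comp e1.symm.toMonoidHom
  let i2 : SL3 →* G := H₂.subtype.comp e2.symm.toMonoidHom
  have m1 : ∀ m, i1 m ∈ H₁ := fun m => (e1.symm m).2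
  have m2 : ∀ m, i2 m ∈ H₂ := fun m => (e2.symm m).2
  have s1 : ∀ x ∈ H₁, ∃ m, x = i1 m := fun x hx => ⟨e1 ⟨x, hx⟩, by simp [i1]⟩
  have s2 : ∀ x ∈ H₂, ∃ m, x = i2 m := fun x hx => ⟨e2 ⟨x, hx⟩, by simp [i2]⟩
  have j1 : Function.Injective i1 := H₁.subtype_injective.comp e1.symm.injective
  have j2 : Function.Injective i2 := H₂.subtype_injective.comp e2.symm.injective
  have c1 : ∀ m, i1 m ∈ H₁ ⊓ H₂ ↔ m = 1 ∨ m = -1 := fun m => hint1 ▸ cz H₁ e1 m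
  have c2 : ∀ m, i2 m ∈ H₁ ⊓ H₂ ↔ m = 1 ∨ m = -1 := fun m => hint2 ▸ cz H₂ e2 m
  have zI := (c1 (-1)).2 (.inr rfl)
  have z1 : i1 (-1) ≠ 1 := fun e => absurd (j1 (e.trans (map_one i1).symm)) (by decide +kernel)
  have hz : i1 (-1) = i2 (-1) := by
    obtain ⟨n, hn⟩ := s2 _ zI.2
    rcases (c2 n).1 (hn ▸ zI) with rfl | rfl
    exacts [absurd (hn.trans (map_one _)) z1, hn]
  have hH : ∀ g, g ∈ H ↔ g * i1 (-1) = i1 (-1) * g := fun g => by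
    rw [hHC]
    refine ⟨fun h => (h _ zI).symm, fun h x hx => ?_⟩
    obtain ⟨m, rfl⟩ := s1 x hx.1
    rcases (c1 m).1 hx with rfl | rfl
    exacts [by simp, h.symm]
  have n1 : ∀ g ∈ H, ∀ x ∈ H₁, g * x * g⁻¹ ∈ H₁ := fun g hg x hx => hn1.conj_mem ⟨x, h1 hx⟩ hx ⟨g, hg⟩
  have n2 : ∀ g ∈ H, ∀ x ∈ H₂, g * x * g⁻¹ ∈ H₂ := fun g hg x hx => hn2.conj_mem ⟨x, h2 hx⟩ hx ⟨g, hg⟩
  have hK : ∀ g ∈ H₁ ⊔ H₂, ∃ m n, g = i1 m * i2 n := fun g hg => by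
    have := coe_mul_of_left_le_normalizer_right H₁ H₂ (h1.trans ((normal_subgroupOf_iff_le_normalizer h2).1 hn2))
    obtain ⟨a, ha, b, hb, rfl⟩ := this.le hg
    obtain ⟨m, rfl⟩ := s1 a ha
    obtain ⟨n, rfl⟩ := s2 b hb
    exact ⟨m, n, rfl⟩
  have k2 : ∀ a ∈ H, ∀ b ∈ H, a * b ∈ H₁ ⊔ H₂ ↔ (a ∈ H₁ ⊔ H₂ ↔ b ∈ H₁ ⊔ H₂) := fun a ha b hb =>
    mul_mem_iff_of_index_two (H := (H₁ ⊔ H₂).subgroupOf H) hidx (a := ⟨a, ha⟩) (b := ⟨b, hb⟩)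
  obtain ⟨w, wH, wK⟩ := SetLike.not_le_iff_exists.1 (mt relIndex_eq_one.2 (hidx ▸ by decide : (H₁ ⊔ H₂).relIndex H ≠ 1))
  have T : Two i1 i2 w := ⟨j1, j2, hz, fun m n e => (c1 m).1 ⟨m1 m, e ▸ m2 n⟩,
    fun g hg m => s1 _ (n1 g ((hH g).2 hg) _ (m1 m)), fun g hg m => s2 _ (n2 g ((hH g).2 hg) _ (m2 m)), (hH w).1 wH,
    hK _ ((k2 w wH w wH).2 Iff.rfl), fun g hg => by
      by_cases k : g ∈ H₁ ⊔ H₂
      · obtain ⟨m, n, e⟩ := hK g k; exact ⟨m, n, .inl e⟩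
      · obtain ⟨m, n, e⟩ := hK _ ((k2 g ((hH g).2 hg) w⁻¹ (inv_mem wH)).2 (by simp [k, wK]))
        exact ⟨m, n, .inr (mul_inv_eq_iff_eq_mul.1 e)⟩⟩
  have p24 : ∀ g ∈ H, g ^ 24 = 1 := fun g hg => by
    obtain ⟨m, n, e⟩ := hK _ ((k2 g hg g hg).2 Iff.rfl)
    have f : ∀ m : SL3, m ^ 12 = 1 := by decide +kernel
    rw [show 24 = 2 * 12 from rfl, pow_mul, sq, e, Commute.mul_pow (T.comm m n), ← map_pow, ← map_pow, f, f]; simp
  have := Cfsg.Lib.Linear.card_SL_three_two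
  obtain ⟨y, hy⟩ := exists_prime_orderOf_dvd_card' (G := M) 7 (hp := ⟨by decide⟩) (by
    rw [card_eq_card_quotient_mul_card_subgroup (pCore 2 M), Nat.card_congr eM.toEquiv, this, hOcard]; decide)
  obtain ⟨z, zO, hz'⟩ := hZin zI
  change (z : G) = _ at hz'
  have cO : ∀ i : ℕ, y ^ i * z * (y ^ i)⁻¹ ∈ pCore 2 M := fun i => hOM.conj_mem z zO _
  have OH : ∀ v ∈ pCore 2 M, (v : G) ∈ H := fun v hv => (hH _).2 (by
    rw [← hz']; exact congrArg (fun x : pCore 2 M => ((x : M) : G)) (hOel.1.is_comm.comm ⟨v, hv⟩ ⟨z, zO⟩))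
  have ci : ∀ i < 7, ∀ j < 7, y ^ i * z * (y ^ i)⁻¹ = y ^ j * z * (y ^ j)⁻¹ → i = j := fun (i : ℕ) hi (j : ℕ) hj e => by
    have k : ((y ^ ((i : ℤ) - j) : M) : G) ∈ H := (hH _).2 (by
      rw [← hz', ← coe_mul, ← coe_mul]; congr 1
      calc _ = (y ^ j)⁻¹ * (y ^ i * z * (y ^ i)⁻¹) * y ^ i := by group
        _ = _ := by rw [e]; group)
    have k' : y ^ (((i : ℤ) - j) * 24) = 1 := by rw [zpow_mul]; exact Subtype.ext (by exact_mod_cast p24 _ k)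
    rw [← orderOf_dvd_iff_zpow_eq_one, hy] at k'
    omega
  let f : Option (Fin 7) → pCore 2 M := fun o => o.elim 1 fun i => ⟨_, cO i⟩
  have z1' : z ≠ 1 := fun e => z1 (by rw [← hz', e]; rfl)
  have hf : Function.Bijective f := Function.Injective.bijective_of_nat_card_le (by
    rintro (_ | i) (_ | j) e
    · rfl
    · exact absurd (conj_eq_one_iff.1 (congrArg Subtype.val e).symm) z1'
    · exact absurd (conj_eq_one_iff.1 (congrArg Subtype.val e)) z1'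
    · exact congrArg some (Fin.ext (ci _ i.2 _ j.2 (congrArg Subtype.val e)))) (by simp [hOcard])
  obtain ⟨g, gK, gz⟩ : ∃ g : M, ((g * z * g⁻¹ : M) : G) ∈ H₁ ⊔ H₂ ∧ g * z * g⁻¹ ≠ z := by
    by_contra! hc
    have a : ∀ i < 7, i ≠ 0 → ((y ^ i * z * (y ^ i)⁻¹ : M) : G) ∉ H₁ ⊔ H₂ := fun i hi h0 k =>
      h0 (ci i hi 0 (by decide) (by simpa using hc _ k))
    have b : ∀ i < 7, i ≠ 0 → i ≠ 1 → y ^ 1 * z * (y ^ 1)⁻¹ * (y ^ i * z * (y ^ i)⁻¹) = z := fun i hi h0 h1 => by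
      have k := (k2 _ (OH _ (cO 1)) _ (OH _ (cO i))).2 (by simp only [a 1 (by decide) (by decide), a i hi h0])
      obtain ⟨_ | j, e⟩ := hf.2 (⟨_, cO 1⟩ * ⟨_, cO i⟩)
      · have e' : y ^ 1 * z * (y ^ 1)⁻¹ * (y ^ i * z * (y ^ i)⁻¹) = 1 := (congrArg Subtype.val e).symm
        rw [← hOel.2 _ (cO i), sq] at e'
        exact absurd (ci 1 (by decide) i hi (mul_right_cancel e')).symm h1
      · have e' : y ^ (j : ℕ) * z * (y ^ (j : ℕ))⁻¹ = y ^ 1 * z * (y ^ 1)⁻¹ * (y ^ i * z * (y ^ i)⁻¹) := congrArg Subtype.val e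
        rw [← e']; exact hc _ (e' ▸ k)
    exact absurd (ci 2 (by decide) 3 (by decide) (mul_left_cancel ((b 2 (by decide) (by decide) (by decide)).trans
      (b 3 (by decide) (by decide) (by decide)).symm))) (by decide)
  obtain ⟨m, n, e⟩ := hK _ gK
  obtain ⟨a⟩ := T.init (g := g) (m := m) (n := n) (by rw [← hz']; exact e) fun k => gz (Subtype.ext (by rw [← hz'] at k; exact k))
  obtain ⟨b⟩ := Cfsg.Lib.Comp.G23x.iso (F := ZMod 3) (ZMod.card 3)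
  exact ⟨ZMod 3, inferInstance, inferInstance, ZMod.card 3, ⟨a.trans b⟩⟩

end Cfsg.Agent.S2917
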