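import Cfsg.Statements.S2931
import Cfsg.Agent.Lib.Golay.Pair
import Cfsg.Agent.Lib.Psp43.Model
import Cfsg.Agent.Lib.Forms.Quad
import Cfsg.Agent.Lib.Forms.Matrix

set_option autoImplicit false
open Cfsg

namespace Cfsg.Agent.S2931

open Subgroup Cfsg.Lib Cfsg.Lib.Golay Cfsg.Lib.Psp43 Cfsg.Lib.Forms Matrix

noncomputable abbrev c8 : Coding (Fin 8) := finCoding 8 (by norm_num)

def x1 : List ℕ := [nat_lit 0x706040503020001, nat_lit 0x706050401000302, nat_lit 0x302010007060504]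
def y1 : List ℕ := [nat_lit 0x1410180908071a05000319040e0d0c020a17161506130f110b0112,
  nat_lit 0x709040501151412131100060a080c0b0e190d1a0f171803021610, nat_lit 0x11191808090b03050f1a10120e060c150a1617020d130014070104]
def x2 : List ℕ := [nat_lit 0x706050403020001, nat_lit 0x706050401000302, nat_lit 0x302010007060504]
def y2 : List ℕ := [
  nat_lit 0x29370c12031d26383e201b05140a312f302e150b1a043f212739021c0d1328361f013a24352b100e08162d33223c07190618233d2c320917110f342a3b251e00,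
  nat_lit 0x3f151a30371d12383b111e343319163c2309062c2b010e24270d02282f050a201f353a10173d32181b313e141339361c0329260c0b212e04072d22080f252a00,
  nat_lit 0x11173a3c3b3d10161e18353334321f19282e03050204292f27210c0a0d0b262031371a1c1b1d30363e38151314123f39080e23252224090f07012c2a2d2b0600]

abbrev I : Type := (Fin 2 ⊕ Fin 2) ⊕ Fin 2

def k : I → ℕ := Sum.elim (Sum.elim (·.val) (2 + ·.val)) (4 + ·.val)

def cV : Coding (I → ZMod 2) where
  n := 64
  idx v := ∑ i, 2 ^ k i * (v i).val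
  pt n i := ((n / 2 ^ k i : ℕ) : ZMod 2)
  n_le := by norm_num
  idx_lt := by decide +kernel
  pt_idx := by decide +kernel
  idx_pt := by decide +kernel

def mt (y : ℕ) : Matrix I I (ZMod 2) := Matrix.of fun i j => cV.pt (app y (2 ^ k j)) i

theorem mt_ok : ∀ y ∈ y2, mt y * mt y = 1 ∧ y < 2 ^ (8 * cV.n) ∧ ∀ v, app y (cV.idx v) = cV.idx (mt y *ᵥ v) ∧
    quadFormMinus 2 (ZMod 2) 1 1 (mt y *ᵥ v) = quadFormMinus 2 (ZMod 2) 1 1 v := by
  unfold quadFormMinus; decide +kernel

theorem v8 : ∀ y ∈ x1 ++ x2, c8.Valid y := fun g hg =>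
  Coding.valid_of_isPerm ((by decide +kernel : ∀ g ∈ x1 ++ x2, isPerm 8 g = true) g hg)

/-- The Sylow 2-subgroups of the alternating group of degree 8 and of PSp₄(3) are isomorphic, and so are the Sylow 2-subgroups of the symmetric group of degree 8 and of the full isometry group of a non-degenerate quadratic form of minus type in dimension 6 over the field with 2 elements. -/
theorem result (F : Type) [Field F] [Fintype F] (hF : Fintype.card F = 3) (K : Type) [Field K] [Fintype K] (hK : Fintype.card K = 2) (a b : K) (hab : ∀ z₁ z₂ : K, z₁ ^ 2 + a * z₁ * z₂ + b * z₂ ^ 2 = 0 → z₁ = 0 ∧ z₂ = 0) (P : Sylow 2 ↥(alternatingGroup (Fin 8))) (Q : Sylow 2 (Cfsg.PSp 2 F)) (P' : Sylow 2 (Equiv.Perm (Fin 8))) (Q' : Sylow 2 ↥(Cfsg.isometryGroup K (Cfsg.quadFormMinus 2 K a b))) : Nonempty (↥(P : Subgroup ↥(alternatingGroup (Fin 8))) ≃* ↥(Q : Subgroup (Cfsg.PSp 2 F))) ∧ Nonempty (↥(P' : Subgroup (Equiv.Perm (Fin 8))) ≃* ↥(Q' : Subgroup ↥(Cfsg.isometryGroup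 K (Cfsg.quadFormMinus 2 K a b)))) := by
  classical
  have v1 : ∀ y ∈ x1, c8.Valid y := fun y h => v8 y (List.mem_append_left _ h)
  have v2 : ∀ y ∈ x2, c8.Valid y := fun y h => v8 y (List.mem_append_right _ h)
  constructor
  · have h1 : ∀ y ∈ y1, c27.InH P0 y := by
      rw [(by decide +kernel : y1 = mapL (wordN 27 gs) [[4, 5, 2, 4, 3, 5, 2, 4], [4, 5, 3, 2, 4, 1, 2, 3, 5, 2, 4],
        [4, 5, 3, 1, 2, 4, 1, 2, 3, 5, 4, 1]])]
      exact Coding.inH_words gsH _
    have h2 : Nat.card (c8.gen x1) = 64 := Coding.card_gen v1 (M := 1021) (d := 10) (a := 10) (by decide +kernel)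
    have h3 : Nat.card (c27.gen y1) = 64 := Coding.card_gen (fun y h => (h1 y h).1) (M := 1021) (d := 10) (a := 10) (by decide +kernel)
    obtain ⟨f⟩ := Coding.iso_of_codes (by decide) (l := x1.zip y1) (xs := x1) (ys := y1) rfl rfl v1 (fun y h => (h1 y h).1) h2 h3
      (M := 1021) (e := 10) (a := 10) (by decide +kernel)
    obtain ⟨e⟩ := isoP0 hF
    obtain ⟨g1⟩ := sylow_iso e.symm (Coding.gen_le h1) (p := 2) (k := 6) (m := 405) h3 card_P0 (by norm_num) Q
    obtain ⟨g2⟩ := sylow_iso (MulEquiv.refl (alternatingGroup (Fin 8))) (Coding.gen_le (c := c8) (gs := x1) fun y hy => ⟨v1 y hy, by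
      have : ∀ y ∈ x1, ∃ σ ∈ [Equiv.swap (0 : Fin 8) 1 * Equiv.swap 4 5, Equiv.swap 0 2 * Equiv.swap 1 3,
        Equiv.swap 0 4 * Equiv.swap 1 5 * (Equiv.swap 2 6 * Equiv.swap 3 7)], Equiv.Perm.sign σ = 1 ∧ y < 2 ^ (8 * c8.n) ∧
          ∀ a, app y (c8.idx a) = c8.idx (σ a) := by decide +kernel
      obtain ⟨σ, -, h4, h5, h6⟩ := this y hy
      exact (Coding.dec_eq_of (c := c8) h5 h6).2 ▸ h4⟩) (p := 2) (k := 6) (m := 315) h2 (by
        rw [nat_card_alternatingGroup]; simp; rfl) (by norm_num) P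
    exact ⟨g2.trans (f.trans g1.symm)⟩
  have h01 : ∀ x : K, x = 0 ∨ x = 1 := fun x => by
    have := FiniteField.pow_card x
    rw [hK, pow_two] at this
    exact or_iff_not_imp_left.2 fun h => mul_left_cancel₀ h (this.trans (mul_one x).symm)
  haveI : CharP K 2 := charP_of_card_eq_prime hK
  obtain rfl : b = 1 := (h01 b).resolve_left fun e => one_ne_zero (hab 0 1 (by simp [e])).2
  obtain rfl : a = 1 := (h01 a).resolve_left fun e => one_ne_zero (hab 1 1 (by simp [e, CharTwo.add_self_eq_zero])).2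
  let φ := ZMod.castHom (dvd_refl 2) K
  let ρ := MulAction.toPermHom (GL I (ZMod 2)) (I → ZMod 2)
  let T : Subgroup (GL I (ZMod 2)) := closure {g | ∃ y ∈ y2, g.1 = mt y}
  have h1 : ∀ y ∈ y2, ∀ g : GL I (ZMod 2), g.1 = mt y → cV.Valid y ∧ cV.dec y = ρ g := fun y hy g e =>
    Coding.dec_eq_of (c := cV) (mt_ok y hy).2.1 fun v => ((mt_ok y hy).2.2 v).1.trans (by rw [← e]; rfl)
  have h0 : ∀ y ∈ y2, ∃ g : GL I (ZMod 2), g.1 = mt y := fun y hy => ⟨⟨_, _, (mt_ok y hy).1, (mt_ok y hy).1⟩, rfl⟩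
  have v3 : ∀ y ∈ y2, cV.Valid y := fun y hy => (h1 y hy _ (h0 y hy).choose_spec).1
  have e1 : cV.gen y2 = T.map ρ := by
    rw [MonoidHom.map_closure, Coding.gen]; congr 1; ext σ
    exact ⟨fun ⟨y, hy, e⟩ => let ⟨g, hg⟩ := h0 y hy; ⟨g, ⟨y, hy, hg⟩, (h1 y hy g hg).2.symm.trans e⟩,
      fun ⟨g, ⟨y, hy, hg⟩, e⟩ => ⟨y, hy, (h1 y hy g hg).2.trans e⟩⟩
  have h2 : Nat.card (c8.gen x2) = 128 := Coding.card_gen v2 (M := 1021) (d := 10) (a := 10) (by decide +kernel)
  have h3 : Nat.card (cV.gen y2) = 128 := Coding.card_gen v3 (M := 1021) (d := 10) (a := 10) (by decide +kernel)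
  obtain ⟨f⟩ := Coding.iso_of_codes (by decide) (l := x2.zip y2) (xs := x2) (ys := y2) rfl rfl v2 v3 h2 h3
    (M := 1021) (e := 10) (a := 10) (by decide +kernel)
  have i1 : Function.Injective ρ := fun g h e => Units.ext (Matrix.mulVec_injective (funext fun v => congrArg (· v) e))
  have i2 : Function.Injective (GeneralLinearGroup.map (n := I) φ) := fun g h e =>
    Units.ext (Matrix.map_injective φ.injective (congrArg Units.val e))
  rw [e1] at f h3
  rw [card_map_of_injective i1] at h3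
  obtain ⟨g1⟩ := sylow_iso (MulEquiv.refl (isometryGroup K (quadFormMinus 2 K 1 1))) (S := T.map (GeneralLinearGroup.map φ)) (by
    rw [MonoidHom.map_closure, closure_le]
    rintro _ ⟨g, ⟨y, hy, hg⟩, rfl⟩
    refine mem_isometryGroup.2 fun v => ?_
    obtain ⟨w, rfl⟩ : ∃ w : I → ZMod 2, v = φ ∘ w := ⟨fun i => if v i = 0 then 0 else 1, funext fun i => by
      rcases h01 (v i) with e | e <;> simp [e]⟩
    have h4 : ∀ w : I → ZMod 2, quadFormMinus 2 K 1 1 (φ ∘ w) = φ (quadFormMinus 2 (ZMod 2) 1 1 w) := fun w => by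
      simp only [quadFormMinus, map_add, map_mul, map_pow, map_sum, map_one, Function.comp]
    rw [h4, ← ((mt_ok y hy).2.2 w).2, ← h4, ← hg]
    exact congrArg _ (funext fun i => (RingHom.map_mulVec φ g.1 w i).symm)) (p := 2) (k := 7) (m := 405)
    ((card_map_of_injective i2).trans h3) (by
      have := Quad.card_isom_minus (fMinus_nondeg 2 hab) (m := 2) (by simp) (fMinus_not_hasTS 2 hab)
      rw [← Nat.card_congr (oEquiv (fMinus 2 (1 : K) 1)).toEquiv, Nat.card_eq_fintype_card (α := K), hK] at this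
      exact this) (by norm_num) Q'
  obtain ⟨g2⟩ := sylow_iso (topEquiv (G := Equiv.Perm (Fin 8))).symm le_top (p := 2) (k := 7) (m := 315) h2 (by
    rw [card_top, Nat.card_perm]; simp; rfl) (by norm_num) P'
  exact ⟨g2.trans (f.trans ((T.equivMapOfInjective ρ i1).symm.trans ((T.equivMapOfInjective _ i2).trans g1.symm)))⟩

end Cfsg.Agent.S2931
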