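import Cfsg.Statements.S2918
import Cfsg.Agent.Lib.A8S.A6
import Cfsg.Agent.Lib.Psp43.Model
import Cfsg.Agent.Lib.Coprime.AbSyl
import Cfsg.Agent.S2931

set_option autoImplicit false
open Cfsg

namespace Cfsg.Agent.S2918

open Subgroup Cfsg.Lib Cfsg.Lib.Amalg Cfsg.Lib.M12S Cfsg.Lib.Psp43 Cfsg.Lib.FO

theorem cent {Γ : Type*} [Group Γ] (ψ : P0 ≃* Γ) {U : Subgroup Γ} (hU : Syl 2 U ⊤) {t₀ : Γ} (h1 : t₀ ≠ 1) (h2 : t₀ ∈ U)
    (h3 : ∀ u ∈ U, u * t₀ = t₀ * u) : Nat.card (centralizer ({t₀} : Set Γ)) = 576 := by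
  have := Finite.of_equiv _ ψ.toEquiv
  let ι : H0 →* Γ := ψ.toMonoidHom.comp (inclusion (Golay.Coding.gen_le hsP))
  have hι : Function.Injective ι := ψ.injective.comp (inclusion_injective _)
  have hc : Nat.card (centralizer ({ι t0} : Set Γ)) = 576 := cent0 ψ
  have h := (cf_of (chk_sound hι csH chk1)).cg (cst0 ι ▸ hc)
  rw [cst0] at h
  obtain ⟨g, -, hg⟩ := hU.exists_conj h.sylS
  have k := @h.zS
  have e1 : g * t₀ * g⁻¹ = ι t0 := k (hg ▸ conj_mem_cj g h2) (by simpa using h1) (by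
    rw [← hg]
    rintro _ ⟨u, hu, rfl⟩
    show _ * (g * u * g⁻¹) = g * u * g⁻¹ * _
    rw [conj_mul, conj_mul, h3 u hu])
  rw [← hc, ← e1, ← Amalg.cj_centralizer_singleton, card_cj]

theorem hab : ∀ z₁ z₂ : ZMod 2, z₁ ^ 2 + 1 * z₁ * z₂ + 1 * z₂ ^ 2 = 0 → z₁ = 0 ∧ z₂ = 0 := by decide

theorem model : ∃ (ψ : TA →* PSp 2 (ZMod 3)) (Y : Type) (_ : Group Y) (χ : TA →* Y) (x : Y), TA.Sy ψ ∧ TA.Mo χ x ∧
    Nonempty (centralizer ({ψ (TA.el 16)} : Set (PSp 2 (ZMod 3))) ≃* Y) := by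
  have : Fact (Nat.Prime 2) := ⟨Nat.prime_two⟩
  have : Fact (Nat.Prime 3) := ⟨Nat.prime_three⟩
  obtain ⟨φ⟩ := isoP0 (F := ZMod 3) rfl
  have := Finite.of_equiv _ φ.toEquiv
  have hs : IsSimpleGroup (PSp 2 (ZMod 3)) := by
    obtain ⟨e, -⟩ := e0
    have := Comp.P43x.simple
    exact (e.trans φ).symm.isSimpleGroup
  have hc : Nat.card (PSp 2 (ZMod 3)) = 25920 := (Nat.card_congr φ.toEquiv).symm.trans card_P0
  obtain ⟨Q⟩ : Nonempty (Sylow 2 (PSp 2 (ZMod 3))) := inferInstance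
  obtain ⟨P'⟩ : Nonempty (Sylow 2 (Equiv.Perm (Fin 8))) := inferInstance
  obtain ⟨Q'⟩ : Nonempty (Sylow 2 (isometryGroup (ZMod 2) (quadFormMinus 2 (ZMod 2) 1 1))) := inferInstance
  obtain ⟨ψ, hi, hr⟩ := TA.exists_hom Q fun P =>
    (S2931.result (ZMod 3) rfl (ZMod 2) rfl 1 1 hab P Q P' Q').1.map MulEquiv.symm
  have s : TA.Sy ψ := ⟨hi, hr ▸ syl_top Q⟩
  have s1 : TA.Hy ψ := ⟨s, fun K hK => by
      rcases (normal_of_index_eq_two hK).eq_bot_or_eq_top with rfl | rfl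
      · rw [index_bot, hc] at hK; omega
      · simp at hK,
    (hs.eq_bot_or_eq_top_of_normal _ inferInstance).resolve_right fun e => by
      have := Core.coprime_card_pPrimeCore 2 (PSp 2 (ZMod 3))
      rw [e, card_top, hc] at this
      exact absurd this (by norm_num),
    (hs.eq_bot_or_eq_top_of_normal _ inferInstance).resolve_right fun e => by
      obtain ⟨n, hn⟩ := IsPGroup.iff_card.1 (Core.isPGroup_pCore (p := 2) (G := PSp 2 (ZMod 3)))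
      rw [e, card_top, hc] at hn
      exact absurd (Nat.Prime.dvd_of_dvd_pow Nat.prime_three (hn ▸ (by norm_num : 3 ∣ 25920))) (by norm_num),
    Coprime.solvable_of_two_primes Nat.prime_two Nat.prime_three fun r hr h => by
      rw [cent φ s.syl (s.ne (k := TA.el 16) TA.md.z1) ⟨_, rfl⟩ (by rintro _ ⟨k, rfl⟩; rw [← map_mul, TA.zc, map_mul]),
        show 576 = 2 ^ 6 * 3 ^ 2 by norm_num, hr.dvd_mul] at h
      exact h.imp (fun h => (Nat.prime_dvd_prime_iff_eq hr Nat.prime_two).1 (hr.dvd_of_dvd_pow h))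
        fun h => (Nat.prime_dvd_prime_iff_eq hr Nat.prime_three).1 (hr.dvd_of_dvd_pow h)⟩
  rcases s1.main with ⟨⟨e⟩⟩ | ⟨⟨e⟩⟩ | ⟨ψ, Y, _, χ, x, a, b⟩
  · have := Nat.card_congr e.toEquiv
    rw [hc, nat_card_alternatingGroup] at this
    simp [Nat.factorial] at this
  · have := Nat.card_congr e.toEquiv
    rw [hc, nat_card_alternatingGroup] at this
    simp [Nat.factorial] at this
  · exact ⟨ψ, Y, _, χ, x, a.toSy, b⟩

/-- Let G be a finite group with O²(G) = G and O₂(G) = O(G) = 1 whose Sylow 2-subgroups are isomorphic to those of the alternating group of degree 8, and suppose that the centralizer in G of every involution in the centre of a Sylow 2-subgroup is solvable. Then G is isomorphic to A₈, A₉ or PSp₄(3). -/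
theorem result {G : Type*} [Group G] [Finite G] (hO2 : Cfsg.pResidual 2 G = ⊤) (hcore2 : Cfsg.pCore 2 G = ⊥) (hodd : Cfsg.oddCore G = ⊥) (S : Sylow 2 G) (hS : ∀ P : Sylow 2 ↥(alternatingGroup (Fin 8)), Nonempty (↥(S : Subgroup G) ≃* ↥(P : Subgroup ↥(alternatingGroup (Fin 8))))) (hsol : ∀ z : G, z ∈ (S : Subgroup G) → (∀ s ∈ (S : Subgroup G), s * z = z * s) → orderOf z = 2 → IsSolvable ↥(Subgroup.centralizer ({z} : Set G))) : Nonempty (G ≃* ↥(alternatingGroup (Fin 8))) ∨ Nonempty (G ≃* ↥(alternatingGroup (Fin 9))) ∨ (∃ (F : Type) (_ : Field F) (_ : Fintype F), Fintype.card F = 3 ∧ Nonempty (G ≃* Cfsg.PSp 2 F)) := by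
  have : Fact (Nat.Prime 2) := ⟨Nat.prime_two⟩
  have : Fact (Nat.Prime 3) := ⟨Nat.prime_three⟩
  obtain ⟨ψ, hi, hr⟩ := TA.exists_hom S hS
  have s : TA.Sy ψ := ⟨hi, hr ▸ syl_top S⟩
  have hG : ∀ K : Subgroup G, K.index ≠ 2 := fun K hK => by
    have := normal_of_index_eq_two hK
    have h1 := Transfer.pResidual_le_ker (p := 2) (IsPGroup.of_card (n := 1) hK) (QuotientGroup.mk' K)
    rw [hO2, QuotientGroup.ker_mk', top_le_iff] at h1
    simp [h1] at hK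
  have s1 : TA.Hy ψ := ⟨s, hG, hodd, hcore2, hsol _ (hr ▸ ⟨_, rfl⟩) (by
    rw [← hr]; rintro _ ⟨k, rfl⟩; rw [← map_mul, TA.zc, map_mul]) (s.two ⟨TA.md.zz, TA.md.z1⟩)⟩
  rcases s1.main with h | h | ⟨ψ, Y, _, χ, x, a, b, ⟨e⟩⟩
  · exact .inl h
  · exact .inr (.inl h)
  obtain ⟨ψ', Y', _, χ', x', a', b', ⟨e'⟩⟩ := model
  obtain ⟨f⟩ := b.iso b'
  obtain ⟨φ⟩ := isoP0 (F := ZMod 3) rfl
  have := Finite.of_equiv _ φ.toEquiv
  exact .inr (.inr ⟨ZMod 3, inferInstance, inferInstance, rfl, janko' hG φ a'.syl (a'.ne (k := TA.el 16) TA.md.z1) ⟨_, rfl⟩ (by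
    rintro _ ⟨k, rfl⟩; rw [← map_mul, TA.zc, map_mul]) (a.two ⟨TA.md.zz, TA.md.z1⟩) (e.trans (f.trans e'.symm))⟩)

end Cfsg.Agent.S2918
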