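import Cfsg.Statements.S2922
import Cfsg.Agent.Lib.Amalg.CharP
import Cfsg.Agent.Lib.Layer.FStar

set_option autoImplicit false
open Cfsg

namespace Cfsg.Agent.S2922

open Subgroup Cfsg.Lib.Amalg
open Cfsg.Lib.Core hiding isPGroup_subgroupOf isPGroup_subgroupOf_iff isPGroup_map_subtype_iff isPGroup_zpowers_of_orderOf
open scoped commutatorElement

/-- Let p be a prime, X a finite group, B a p-subgroup of X and C a normal subgroup of B. If N_X(C) has characteristic p (its generalized Fitting subgroup is O_p(N_X(C))), then N_X(B) and C_X(B) have characteristic p. -/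
theorem result {X : Type*} [Group X] [Finite X] {p : ℕ} [Fact p.Prime] (B C : Subgroup X) (hB : IsPGroup p ↥B) (hCB : C ≤ B) (hCn : (C.subgroupOf B).Normal) (hC : Cfsg.generalizedFittingSubgroup ↥(Subgroup.normalizer (C : Set X)) = Cfsg.pCore p ↥(Subgroup.normalizer (C : Set X))) : Cfsg.generalizedFittingSubgroup ↥(Subgroup.normalizer (B : Set X)) = Cfsg.pCore p ↥(Subgroup.normalizer (B : Set X)) ∧ Cfsg.generalizedFittingSubgroup ↥(Subgroup.centralizer (B : Set X)) = Cfsg.pCore p ↥(Subgroup.centralizer (B : Set X)) := by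
  have h1 : Lib.Amalg.CharP p (𝐍 C) := Lib.Amalg.charP_iff.2 (Lib.Layer.fstar_eq_pCore_iff.1 hC)
  have hBC : B ≤ 𝐍 C := le_normalizer_of_normal_subgroupOf hCB
  have h2 : Lib.Amalg.CharP p (𝐂 B) := by
    have := h1.inf_cent hB hBC
    rwa [inf_eq_right.2 ((centralizer_anti hCB).trans (cent_le_norm C))] at this
  refine ⟨Lib.Layer.fstar_eq_pCore_iff.2 (Lib.Amalg.charP_iff.1 ?_),
    Lib.Layer.fstar_eq_pCore_iff.2 (Lib.Amalg.charP_iff.1 h2)⟩
  refine charP_of_forall fun A a1 a2 a3 => h2.eq_bot a2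
    (a3.trans (centralizer_anti (le_op_normalizer hB))) (a3.trans (centralizer_anti ?_))
  exact op_le_op (cent_le_norm B) (normalizer_le_normalizer_centralizer B)

end Cfsg.Agent.S2922
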