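import Cfsg.Statements.S2923
import Cfsg.Agent.Lib.Amalg.CharP

set_option autoImplicit false
open Cfsg

namespace Cfsg.Agent.S2923

open Subgroup Cfsg.Lib.Amalg
open Cfsg.Lib.Core hiding isPGroup_subgroupOf isPGroup_subgroupOf_iff isPGroup_map_subtype_iff isPGroup_zpowers_of_orderOf
open scoped commutatorElement

/-- Let p be a prime and X a finite group of characteristic p, that is C_X(O_p(X)) ≤ O_p(X). Then every subnormal subgroup of X has characteristic p. -/
theorem result {X : Type*} [Group X] [Finite X] {p : ℕ} [Fact p.Prime] (hX : Subgroup.centralizer (Cfsg.pCore p X : Set X) ≤ Cfsg.pCore p X) (Y : Subgroup X) (hY : Y.IsSubnormal) : Subgroup.centralizer (Cfsg.pCore p ↥Y : Set ↥Y) ≤ Cfsg.pCore p ↥Y := by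
  rw [← Lib.Amalg.charP_iff]
  induction hY with
  | top => exact charP_top.2 hX
  | step H K hle _ hn ih => exact ih.of_normal hle (le_normalizer_of_normal_subgroupOf hle)

end Cfsg.Agent.S2923
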