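import Cfsg.Statements.S2924
import Cfsg.Agent.Lib.Layer.SigCore

set_option autoImplicit false
open Cfsg

namespace Cfsg.Agent.S2924

open Subgroup Cfsg.Lib.Core Cfsg.Lib.Amalg Cfsg.Lib.BG1 Cfsg.Lib.Layer

/-- Let X be a finite group and Y an elementary abelian 2-subgroup of X of order at least 8 such that C_X(x) has no components (E(C_X(x)) = 1) for every nontrivial x ∈ Y, and F*(C_X(z)) = O₂(C_X(z)) for some nontrivial z ∈ Y. Then the subgroup generated by the cores O(C_X(y)), y ∈ Y nontrivial, has odd order and is normalized by N_X(Y). -/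
theorem result {X : Type*} [Group X] [Finite X] (Y : Subgroup X) (hY : Cfsg.IsElementaryAbelian 2 Y) (h8 : 8 ≤ Nat.card ↥Y) (hE : ∀ x ∈ Y, x ≠ 1 → Cfsg.layer ↥(Subgroup.centralizer ({x} : Set X)) = ⊥) (hz : ∃ z ∈ Y, z ≠ 1 ∧ Cfsg.generalizedFittingSubgroup ↥(Subgroup.centralizer ({z} : Set X)) = Cfsg.pCore 2 ↥(Subgroup.centralizer ({z} : Set X))) : Odd (Nat.card ↥(⨆ y : {y : X // y ∈ Y ∧ y ≠ 1}, (Cfsg.oddCore ↥(Subgroup.centralizer ({(y : X)} : Set X))).map (Subgroup.centralizer ({(y : X)} : Set X)).subtype)) ∧ Subgroup.normalizer (Y : Set X) ≤ Subgroup.normalizer ((⨆ y : {y : X // y ∈ Y ∧ y ≠ 1}, (Cfsg.oddCore ↥(Subgroup.centralizer ({(y : X)} : Set X))).map (Subgroup.centralizer ({(y : X)} : Set X)).subtype : Subgroup X) : Set X) := by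
  obtain ⟨z, hzY, hz1, hz⟩ := hz
  have hzc : CharP 2 𝐂[z] := charP_iff.2 (fstar_eq_pCore_iff.1 hz)
  have hz2 : z * z = 1 := by rw [← sq]; exact hY.2 z hzY
  have hP := elemAb_isPGroup hY
  have hyc : ∀ y ∈ Y, CharP 2 (𝐂[z] ⊓ 𝐂[y]) := fun y hy => by
    rw [← cent_zpowers y]
    exact hzc.inf_cent (isPGroup_zpowers_of_mem hP hy) (by rw [zpowers_le]; exact le_cent1_of_comm hY.1 hzY hy)
  have h0 : ∀ y ∈ Y, centralizerPPrimeCore 2 y ⊓ 𝐂[z] = ⊥ := fun y hy =>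
    eq_bot_iff.2 ((cpc_inf_cent_le_core z y).trans (CharP.core_eq_bot (hyc y hy)).le)
  have hn : ∀ y ∈ Y, z ∈ 𝐍(centralizerPPrimeCore 2 y) := fun y hy =>
    cent_le_norm_cpc y (le_cent1_of_comm hY.1 hy hzY)
  have hθ : IsSignalizerFunctor 2 Y (centralizerPPrimeCore 2) := cpc_sf hY fun y hy h1 =>
    pLayerOf_eq_bot_of_inverts (le_cent1_of_comm hY.1 hy hzY) hz2
      (cpc_eq (p := 2) y ▸ inverts_of_inf_cent hz2 (hn y hy) (h0 y hy)) (hE y hy h1)
      (inf_comm 𝐂[z] _ ▸ CharP.pLayerOf_eq_bot (hyc y hy))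
  refine ⟨?_, norm_le_norm_cpc_closure (p := 2)⟩
  have := not_dvd_closure_of_abelian hθ hY h8 fun y hy _ => le_cent_self_of_inf_cent hz2 (hn y hy) (h0 y hy)
  exact Nat.odd_iff.2 (Nat.two_dvd_ne_zero.1 this)

end Cfsg.Agent.S2924
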