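import Cfsg.Statements.S2925
import Cfsg.Agent.Lib.Layer.CompAction
import Cfsg.Agent.Lib.Amalg.Parabolic

set_option autoImplicit false
open Cfsg

namespace Cfsg.Agent.S2925

open Subgroup Cfsg.Lib Cfsg.Lib.Core Cfsg.Lib.Amalg Cfsg.Lib.Layer

/-- Let K be a component of the finite group X and T a Sylow 2-subgroup of X. If some abelian normal subgroup Y of T does not normalize K, then K ⧸ Z(K) has abelian Sylow 2-subgroups. -/
theorem result {X : Type*} [Group X] [Finite X] (K : Subgroup X) (hK : Cfsg.IsComponent K) (T : Sylow 2 X) (Y : Subgroup X) (hYT : Y ≤ (T : Subgroup X)) (hYn : (Y.subgroupOf (T : Subgroup X)).Normal) (hYab : IsMulCommutative ↥Y) (hnot : ¬ Y ≤ Subgroup.normalizer (K : Set X)) (P : Sylow 2 (↥K ⧸ Subgroup.center ↥K)) : IsMulCommutative ↥(P : Subgroup (↥K ⧸ Subgroup.center ↥K)) := by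
  haveI : Fact (Nat.Prime 2) := ⟨Nat.prime_two⟩
  obtain ⟨y, hy, hyn⟩ := SetLike.not_le_iff_exists.1 hnot
  have hc : ⁅K, cj y K⁆ = ⊥ := Layer.IsComponent.commutator_eq_bot_of_ne hK (Layer.IsComponent.cj hK y)
    fun e => hyn (cj_eq_self_iff.1 e.symm)
  have cm : ∀ a ∈ K, ∀ b ∈ K, Commute a (y * b * y⁻¹) := fun a ha b hb =>
    commutatorElement_eq_one_iff_commute.1 (mem_bot.1 (hc ▸ commutator_mem_commutator ha (mem_cj'.2 ⟨b, hb, rfl⟩)))
  have hY : ∀ a ∈ (T : Subgroup X), a * (y * a⁻¹ * y⁻¹) ∈ Y := fun a ha => by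
    have := mul_mem (mem_subgroupOf.1 (hYn.conj_mem ⟨y, hYT hy⟩ hy ⟨a, ha⟩)) (inv_mem hy)
    simpa [mul_assoc] using this
  have key : ∀ a b : K, (a : X) ∈ (T : Subgroup X) → (b : X) ∈ (T : Subgroup X) → (b * a)⁻¹ * (a * b) ∈ center K := by
    intro a b ha hb
    have h1 := le_centralizer_iff_isMulCommutative.2 hYab (hY _ ha) _ (hY _ hb)
    have e : ∀ a b : K, (a : X) * (y * (a : X)⁻¹ * y⁻¹) * (b * (y * (b : X)⁻¹ * y⁻¹)) =
        (a * b : K) * (y * ((b * a : K) : X)⁻¹ * y⁻¹) := fun a b => by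
      rw [mul_assoc (a : X), ← mul_assoc (y * (a : X)⁻¹ * y⁻¹), ← (cm b b.2 _ (inv_mem a.2)).eq]
      simp [mul_assoc]
    rw [e, e] at h1
    have h2 : (((b * a)⁻¹ * (a * b) : K) : X) = y * (((a * b)⁻¹ * (b * a) : K) : X) * y⁻¹ := by
      have : ((a * b : K) : X) = (b * a : K) * (y * ((a * b : K) : X)⁻¹ * y⁻¹) * (y * ((b * a : K) : X)⁻¹ * y⁻¹)⁻¹ := by
        rw [h1]; group
      rw [coe_mul, this]; simp only [coe_mul, coe_inv]; group
    exact mem_center_iff.2 fun g => Subtype.ext (by rw [coe_mul K g, coe_mul K _ g, h2]; exact (cm g g.2 _ (SetLike.coe_mem _)).eq)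
  have hS := (((syl_top T).inf_subnormal_top hK.1).subgroupOf_top).map_top (QuotientGroup.mk'_surjective (center K))
  obtain ⟨g, -, e⟩ := hS.exists_conj (syl_top P)
  rw [← e]
  refine le_centralizer_iff_isMulCommutative.1 ?_
  rintro _ ⟨_, ⟨a, ha, rfl⟩, rfl⟩ _ ⟨_, ⟨b, hb, rfl⟩, rfl⟩
  have : QuotientGroup.mk' (center K) b * QuotientGroup.mk' (center K) a =
      QuotientGroup.mk' (center K) a * QuotientGroup.mk' (center K) b := QuotientGroup.eq.2 (key a b ha.1 hb.1)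
  simp only [MulEquiv.coe_toMonoidHom, ← map_mul] at this ⊢
  rw [this]

end Cfsg.Agent.S2925
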