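import Cfsg.Statements.S2929
import Cfsg.Agent.Lib.Layer.SymO

set_option autoImplicit false
open Cfsg

namespace Cfsg.Agent.S2929

open Subgroup Cfsg.Lib.Core Cfsg.Lib.Amalg Cfsg.Lib.BG1 Cfsg.Lib.Layer

/-- Let n ≥ 5 and let H be a subgroup of the symmetric group of degree n whose generalized Fitting subgroup F*(H) is quasisimple. If H contains a Sylow 3-subgroup of the symmetric group, then F*(H) is isomorphic to an alternating group of degree m for some m ∈ {n − 2, n − 1, n}. -/
theorem result (n : ℕ) (hn : 5 ≤ n) (H : Subgroup (Equiv.Perm (Fin n))) (hF : Cfsg.IsQuasisimple ↥(Cfsg.generalizedFittingSubgroup ↥H)) (hS : ∃ P : Sylow 3 (Equiv.Perm (Fin n)), (P : Subgroup (Equiv.Perm (Fin n))) ≤ H) : ∃ m : ℕ, (m = n - 2 ∨ m = n - 1 ∨ m = n) ∧ Nonempty (↥(Cfsg.generalizedFittingSubgroup ↥H) ≃* ↥(alternatingGroup (Fin m))) := by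
  obtain ⟨P, hP⟩ := hS
  have hL : IsQuasisimple ((generalizedFittingSubgroup H).map H.subtype) :=
    (isQuasisimple_map_iff_of_injective H.subtype_injective).mpr hF
  obtain ⟨m, h1, h2, ⟨e⟩⟩ := SymO.three_main hL (syl_top P) hP (le_normalizer.trans (normalizer_le_normalizer_fstarOf H))
    ((inf_centralizer_fstarOf_le H).trans (map_mono fit_le_fstar))
  rw [Fintype.card_fin] at h1 h2
  exact ⟨m, by omega, ⟨(equivMapOfInjective _ _ H.subtype_injective).trans e⟩⟩

end Cfsg.Agent.S2929
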