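import Cfsg.Statements.S3025
import Cfsg.Agent.Lib.Layer.Misc
import Cfsg.Agent.S0016
import Mathlib.RingTheory.ZMod.UnitsCyclic

set_option autoImplicit false
open Cfsg

namespace Cfsg.Agent.S3025

open Subgroup Cfsg.Lib.Core Cfsg.Lib.Amalg Cfsg.Lib.BG1 Cfsg.Lib.Layer
theorem ker_conjNormal {F : Type*} [Group F] (N : Subgroup F) [N.Normal] :
    (MulAut.conjNormal (H := N)).ker = centralizer (N : Set F) := by
  ext g
  rw [MonoidHom.mem_ker, mem_centralizer_iff]
  constructor
  · intro h n hn
    have := congrArg (fun φ : MulAut N => ((φ ⟨n, hn⟩ : N) : F)) h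
    simp only [MulAut.conjNormal_apply, MulAut.one_apply] at this
    calc n * g = (g * n * g⁻¹) * g := by rw [this]
      _ = g * n := by group
  · intro h
    ext n
    simp only [MulAut.conjNormal_apply, MulAut.one_apply]
    rw [← h n n.2]; group


/-- Let F be a finite group and H a nontrivial subgroup of F that is contained in every nontrivial subgroup of F which H normalizes. Then F has a nontrivial normal subgroup N contained in every nontrivial normal subgroup of F (a unique minimal normal subgroup), N is simple, and one of the following holds: C_F(N) = 1; or H = N has prime order p, C_F(N) is cyclic of order a power of p, and F/C_F(N) is cyclic of order dividing p − 1; or H = N has order 2, N is central in F, and F is a generalized quaternion group. -/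
theorem result {F : Type*} [Group F] [Finite F] (H : Subgroup F) (hH : H ≠ ⊥)
    (hmin : ∀ R : Subgroup F, R ≠ ⊥ → H ≤ Subgroup.normalizer (R : Set F) → H ≤ R) :
    ∃ N : Subgroup F, N.Normal ∧ N ≠ ⊥ ∧ (∀ M : Subgroup F, M.Normal → M ≠ ⊥ → N ≤ M) ∧ IsSimpleGroup ↥N ∧
      (Subgroup.centralizer (N : Set F) = ⊥ ∨
       (H = N ∧ (Nat.card N).Prime ∧ IsCyclic ↥(Subgroup.centralizer (N : Set F)) ∧
          (∃ k : ℕ, 1 ≤ k ∧ Nat.card ↥(Subgroup.centralizer (N : Set F)) = Nat.card N ^ k) ∧
          (∃ g : F, Subgroup.centralizer (N : Set F) ⊔ Subgroup.zpowers g = ⊤) ∧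
          (Subgroup.centralizer (N : Set F)).index ∣ Nat.card N - 1) ∨
       (H = N ∧ Nat.card N = 2 ∧ Subgroup.centralizer (N : Set F) = ⊤ ∧
          ∃ k : ℕ, 1 ≤ k ∧ Nonempty (F ≃* QuaternionGroup (2 ^ k)))) := by
  classical
  set N : Subgroup F := normalClosure (H : Set F) with hNdef
  have hHN : H ≤ N := le_normalClosure
  have hN0 : N ≠ ⊥ := fun h => hH (le_bot_iff.mp (h ▸ hHN))
  have hNmin : ∀ M : Subgroup F, M.Normal → M ≠ ⊥ → N ≤ M := fun M hM h0 =>
    normalClosure_le_normal (hmin M h0 (by rw [normalizer_eq_top]; exact le_top))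
  have hsimple : IsSimpleGroup N := by
    haveI : Nontrivial N := (nontrivial_iff_ne_bot _).mpr hN0
    refine ⟨fun M hM => ?_⟩
    by_cases h0 : M = ⊥
    · exact Or.inl h0
    right
    set M' : Subgroup F := M.map N.subtype with hM'
    have hM'0 : M' ≠ ⊥ := fun h => h0 ((map_eq_bot_iff_of_injective _ N.subtype_injective).mp h)
    have hNM' : ∀ n ∈ N, ∀ m ∈ M', n * m * n⁻¹ ∈ M' := by
      rintro n hn _ ⟨m, hm, rfl⟩
      exact ⟨⟨n, hn⟩ * m * ⟨n, hn⟩⁻¹, hM.conj_mem m hm _, rfl⟩
    have key : ∀ g : F, ∀ h ∈ H, g * h * g⁻¹ ∈ M' := by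
      intro g h hh
      have h1 : H ≤ M'.map (MulAut.conj g⁻¹).toMonoidHom := by
        refine hmin _ (fun h => hM'0 ((map_eq_bot_iff_of_injective _ (MulAut.conj g⁻¹).injective).mp h)) ?_
        intro x hx
        refine mem_normalizer_fintype ?_
        rintro _ ⟨m, hm, rfl⟩
        refine ⟨(g * x * g⁻¹) * m * (g * x * g⁻¹)⁻¹, hNM' _ (normalClosure_normal.conj_mem _ (hHN hx) g) m hm, ?_⟩
        simp only [MulEquiv.toMonoidHom_eq_coe, MonoidHom.coe_coe, MulAut.conj_apply]
        group
      obtain ⟨m, hm, hmh⟩ := h1 hh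
      simp only [MulEquiv.toMonoidHom_eq_coe, MonoidHom.coe_coe, MulAut.conj_apply] at hmh
      rw [← hmh]
      simpa [mul_assoc] using hm
    have hNle : N ≤ M' := by
      rw [hNdef, normalClosure, closure_le]
      intro x hx
      obtain ⟨h, hh, hc⟩ := Group.mem_conjugatesOfSet_iff.mp hx
      obtain ⟨g, rfl⟩ := isConj_iff.mp hc
      exact key g h hh
    rw [eq_top_iff]
    intro x _
    obtain ⟨m, hm, hmx⟩ := hNle x.2
    rwa [← Subtype.ext hmx]
  refine ⟨N, inferInstance, hN0, hNmin, hsimple, ?_⟩
  by_cases hC : centralizer (N : Set F) = ⊥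
  · exact Or.inl hC
  right
  have hNC : N ≤ centralizer (N : Set F) := hNmin _ inferInstance hC
  haveI hNa : IsMulCommutative N := le_centralizer_iff_isMulCommutative.mp hNC
  have hp : (Nat.card N).Prime := by
    exact open scoped IsMulCommutative in IsSimpleGroup.prime_card
  set p := Nat.card N with hpdef
  haveI : Fact p.Prime := ⟨hp⟩
  have hHeq : H = N := by
    rcases (Nat.dvd_prime hp).mp (card_dvd_of_le hHN) with h | h
    · exact absurd (card_eq_one.mp h) hH
    · exact eq_of_le_of_card_ge hHN h.ge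
  have hin : ∀ R : Subgroup F, R ≠ ⊥ → R ≤ centralizer (N : Set F) → N ≤ R := by
    intro R h0 hR
    rw [← hHeq]
    refine hmin R h0 ?_
    rw [hHeq]
    exact (Lib.Amalg.le_cent_symm hR).trans (centralizer_le_normalizer _)
  have hPC : IsPGroup p (centralizer (N : Set F)) := by
    rw [IsPGroup.iff_card]
    refine ⟨(Nat.card (centralizer (N : Set F))).primeFactorsList.length, ?_⟩
    have h0 : Nat.card (centralizer (N : Set F)) ≠ 0 := Nat.card_pos.ne'
    conv_lhs => rw [← Nat.prod_primeFactorsList h0]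
    refine List.prod_eq_pow_card _ _ fun q hq => ?_
    have hq' := Nat.prime_of_mem_primeFactorsList hq
    haveI : Fact q.Prime := ⟨hq'⟩
    obtain ⟨c, hc⟩ := exists_prime_orderOf_dvd_card' q (Nat.dvd_of_mem_primeFactorsList hq)
    rw [← orderOf_coe] at hc
    have h1 : N ≤ zpowers (c : F) := hin _ (by
      rw [Ne, zpowers_eq_bot]; intro h; rw [h, orderOf_one] at hc; exact hq'.one_lt.ne hc)
      (zpowers_le.mpr c.2)
    have h2 := card_dvd_of_le h1
    rw [Nat.card_zpowers, hc] at h2
    exact ((Nat.prime_dvd_prime_iff_eq hp hq').mp h2).symm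
  have huniq : ∀ R : Subgroup (centralizer (N : Set F)), Nat.card R = p → R.map (centralizer (N : Set F)).subtype = N := by
    intro R hR
    have hc : Nat.card (R.map (centralizer (N : Set F)).subtype) = p := by
      rw [card_map_of_injective (subtype_injective _), hR]
    refine (eq_of_le_of_card_ge (hin _ (fun h => ?_) (map_subtype_le _)) hc.le).symm
    rw [h, card_bot] at hc; exact hp.one_lt.ne hc
  have hcq := Cfsg.Agent.S0016.result p hPC fun R K hR hK =>
    map_injective (subtype_injective _) ((huniq R hR).trans (huniq K hK).symm)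
  haveI : IsCyclic N := isCyclic_of_prime_card hpdef.symm
  have hAut : Nat.card (MulAut N) = p - 1 := by
    rw [IsCyclic.card_mulAut, ← hpdef, Nat.totient_prime hp]
  have hidx : (centralizer (N : Set F)).index ∣ p - 1 := by
    rw [← ker_conjNormal, index_ker, ← hAut]
    exact card_subgroup_dvd_card _
  by_cases hcyc : IsCyclic (centralizer (N : Set F))
  · left
    refine ⟨hHeq, hp, hcyc, ?_, ?_, hidx⟩
    · obtain ⟨k, hk⟩ := IsPGroup.iff_card.mp hPC
      refine ⟨k, ?_, hk⟩
      rcases Nat.eq_zero_or_pos k with rfl | h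
      · exact absurd (card_eq_one.mp (by simpa using hk)) hC
      · exact h
    · haveI : IsCyclic (ZMod (Nat.card N))ˣ := ZMod.isCyclic_units_prime hp
      haveI : IsCyclic (MulAut N) := isCyclic_of_surjective _ (IsCyclic.mulAutMulEquiv N).symm.surjective
      refine (Lib.PGrp.isCyclic_quotient_iff _).mp ?_
      have e := QuotientGroup.quotientKerEquivRange (MulAut.conjNormal (H := N))
      have e2 := QuotientGroup.quotientMulEquivOfEq (ker_conjNormal N)
      exact isCyclic_of_surjective _ (e.symm.trans e2).surjective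
  · right
    obtain ⟨h2, n, ⟨e⟩⟩ := hcq.resolve_left hcyc
    have htop : centralizer (N : Set F) = ⊤ := by
      rw [h2] at hidx
      exact index_eq_one.mp (Nat.dvd_one.mp hidx)
    refine ⟨hHeq, h2, htop, n, ?_, ⟨((MulEquiv.subgroupCongr htop).trans topEquiv).symm.trans e⟩⟩
    rcases Nat.eq_zero_or_pos n with rfl | h
    · exfalso
      apply hcyc
      haveI : IsCyclic (QuaternionGroup (2 ^ 0)) := QuaternionGroup.quaternionGroup_one_isCyclic
      exact isCyclic_of_surjective _ e.symm.surjective
    · exact h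

end Cfsg.Agent.S3025
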