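import Cfsg.Statements.S4231
import Cfsg.Agent.Lib.Linear.OutPSL
import Cfsg.Agent.Lib.Linear.PSL2Small
import Cfsg.Agent.Lib.Linear.AutAlt
import Cfsg.Agent.Lib.PGrp.Basic
import Mathlib.FieldTheory.Finite.GaloisField

set_option autoImplicit false
open Cfsg

namespace Cfsg.Agent.S4231

open Subgroup Cfsg.Lib Equiv

theorem comm_of_card_lt {α : Type*} [Fintype α] {q : ℕ} [hq : Fact q.Prime] {Q : Type*} [Group Q]
    [Finite Q] (hQ : IsPGroup q Q) (f : Q →* Perm α) (hf : Function.Injective f)
    (h : Fintype.card α < q ^ 2) : IsMulCommutative Q := by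
  letI := MulAction.compHom α f
  refine ⟨⟨fun x y => hf (Equiv.ext fun a => ?_)⟩⟩
  have key : commutator Q ≤ MulAction.stabilizer Q ((y * x) • a) := by
    generalize (y * x) • a = b
    obtain ⟨k, hk⟩ := hQ.index (MulAction.stabilizer Q b)
    have h1 : q ^ k < q ^ 2 := by
      rw [← hk, MulAction.index_stabilizer]
      refine lt_of_le_of_lt ?_ h
      rw [← Nat.card_eq_fintype_card, ← Set.ncard_univ]
      exact Set.ncard_le_ncard (Set.subset_univ _)
    rw [Nat.pow_lt_pow_iff_right hq.out.one_lt] at h1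
    interval_cases k
    · rw [index_eq_one.1 hk]; exact le_top
    · rw [pow_one] at hk
      haveI := PGrp.normal_of_index_eq hQ hk
      exact (PGrp.commutator_le_and_pow_mem_of_index_eq _ hk).1
  have := key (commutator_mem_commutator (mem_top x) (mem_top y))
  rw [MulAction.mem_stabilizer_iff, ← mul_smul, commutatorElement_def] at this
  rw [show x * y * x⁻¹ * y⁻¹ * (y * x) = x * y by group] at this
  exact this

theorem card_aut_six : Nat.card (MulAut (alternatingGroup (Fin 6))) ∣ 1440 := by
  haveI : Fact (Nat.Prime 3) := ⟨Nat.prime_three⟩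
  have hF : Nat.card (GaloisField 3 2) = 9 := GaloisField.card 3 2 two_ne_zero
  obtain ⟨e⟩ := Linear.psl2_nine_equiv hF
  rw [← Nat.card_congr (MulAut.congr e).toEquiv, Linear.card_mulAut_PSL_two, Linear.card_PGL_two, hF]
  have : Nat.card (GaloisField 3 2 ≃+* GaloisField 3 2) = 2 := by
    refine Eq.trans ?_ ((IsGalois.card_aut_eq_finrank (ZMod 3) (GaloisField 3 2)).trans
      (GaloisField.finrank 3 two_ne_zero))
    exact Nat.card_congr ⟨fun σ => AlgEquiv.ofRingEquiv (f := σ) fun x =>
      DFunLike.congr_fun (Subsingleton.elim (σ.toRingHom.comp (algebraMap (ZMod 3) _))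
        (algebraMap (ZMod 3) (GaloisField 3 2))) x,
      fun σ => σ.toRingEquiv, fun _ => rfl, fun _ => rfl⟩
  rw [this]

theorem main (n : ℕ) (hn : 5 ≤ n) (G : Subgroup (MulAut (alternatingGroup (Fin n))))
    (hG : (MulAut.conj : alternatingGroup (Fin n) →* MulAut (alternatingGroup (Fin n))).range ≤ G)
    (p q : ℕ) [hp : Fact p.Prime] [hq : Fact q.Prime] (hpq : p < q) (h : ∀ g : G, orderOf g ≠ p * q)
    (Q : Sylow q G) : IsMulCommutative (Q : Subgroup G) := by
  have h2 := hp.out.two_le
  have hqo : Odd q := hq.out.odd_of_ne_two (by omega)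
  have h4 : 4 ≤ Fintype.card (Fin n) := by rw [Fintype.card_fin]; omega
  by_cases hlt : n < q ^ 2
  · by_cases h6 : n = 6
    · subst h6
      obtain ⟨k, hk⟩ := Q.isPGroup'.exists_card_eq
      have h1 : q ^ k ∣ 2 ^ 5 * (3 ^ 2 * 5) := hk ▸ ((card_subgroup_dvd_card _).trans
        (card_subgroup_dvd_card G)).trans card_aut_six
      have h3 : k ≤ 2 := by
        by_contra hc
        have h5 := (Nat.Coprime.pow 3 5 (Nat.coprime_two_right.2 hqo)).dvd_of_dvd_mul_left
          ((pow_dvd_pow q (by omega : 3 ≤ k)).trans h1)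
        have h7 := Nat.le_of_dvd (by norm_num) h5
        have h8 : q < 4 := lt_of_pow_lt_pow_left₀ 3 (by norm_num) (by omega)
        obtain rfl : q = 3 := by omega
        norm_num at h5
      interval_cases k
      · haveI := (Nat.card_eq_one_iff_unique.1 hk).1
        exact ⟨⟨fun _ _ => Subsingleton.elim _ _⟩⟩
      · haveI := isCyclic_of_prime_card (p := q) (hk.trans (pow_one q))
        infer_instance
      · exact IsPGroup.isMulCommutative_of_card_eq_prime_sq hk
    · let e := MulEquiv.ofBijective _ (Linear.conjNormal_alt_bijective (α := Fin n) h4 (by simpa using h6))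
      exact comm_of_card_lt Q.isPGroup' (e.symm.toMonoidHom.comp (G.subtype.comp (Q : Subgroup G).subtype))
        (e.symm.injective.comp (G.subtype_injective.comp (Q : Subgroup G).subtype_injective))
        (by simpa using hlt)
  exfalso
  have hc : p.Coprime q := (Nat.coprime_primes hp.out hq.out).2 hpq.ne
  obtain ⟨g, hg, ho⟩ : ∃ g ∈ alternatingGroup (Fin n), orderOf g = p * q := by
    by_cases hp2 : p = 2
    · subst hp2
      obtain ⟨g, hg⟩ := (Perm.exists_with_cycleType_iff (Fin n) (m := {2, 2, q})).2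
        ⟨by simp; nlinarith, by simp; omega⟩
      refine ⟨g, ?_, ?_⟩
      · rw [Perm.mem_alternatingGroup, Perm.sign_of_cycleType, hg]
        simp only [Multiset.insert_eq_cons, Multiset.sum_cons, Multiset.sum_singleton,
          Multiset.card_cons, Multiset.card_singleton]
        obtain ⟨j, hj⟩ := hqo
        exact Even.neg_one_pow ⟨j + 4, by omega⟩
      · rw [← Perm.lcm_cycleType, hg]
        simp [← lcm_assoc, lcm_eq_nat_lcm, hc.lcm_eq_mul]
    · have hpo : Odd p := hp.out.odd_of_ne_two hp2
      obtain ⟨g, hg⟩ := (Perm.exists_with_cycleType_iff (Fin n) (m := {p, q})).2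
        ⟨by simp; nlinarith, by simp; omega⟩
      refine ⟨g, ?_, ?_⟩
      · rw [Perm.mem_alternatingGroup, Perm.sign_of_cycleType, hg]
        simp only [Multiset.insert_eq_cons, Multiset.sum_cons, Multiset.sum_singleton,
          Multiset.card_cons, Multiset.card_singleton]
        obtain ⟨j, hj⟩ := hqo
        obtain ⟨i, hi⟩ := hpo
        exact Even.neg_one_pow ⟨i + j + 2, by omega⟩
      · rw [← Perm.lcm_cycleType, hg]
        simp [lcm_eq_nat_lcm, hc.lcm_eq_mul]
  refine h ⟨MulAut.conj ⟨g, hg⟩, hG ⟨_, rfl⟩⟩ ?_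
  rw [← ho, ← orderOf_coe, ← orderOf_injective _ (Linear.conjNormal_alt_injective (α := Fin n) h4) g]
  rfl


/-- Let n ≥ 5 and let G be a group of automorphisms of the alternating group of degree n containing all inner automorphisms. If p ≠ q are primes and G has no element of order pq, then every Sylow p-subgroup of G is abelian or every Sylow q-subgroup of G is abelian. -/
theorem result (n : ℕ) (hn : 5 ≤ n) (G : Subgroup (MulAut (alternatingGroup (Fin n))))
    (hG : (MulAut.conj : alternatingGroup (Fin n) →* MulAut (alternatingGroup (Fin n))).range ≤ G)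
    (p q : ℕ) [Fact p.Prime] [Fact q.Prime] (hpq : p ≠ q) (h : ∀ g : G, orderOf g ≠ p * q) :
    (∀ P : Sylow p G, IsMulCommutative (P : Subgroup G)) ∨ (∀ Q : Sylow q G, IsMulCommutative (Q : Subgroup G)) := by
  rcases lt_or_gt_of_ne hpq with h1 | h1
  · exact Or.inr (main n hn G hG p q h1 h)
  · exact Or.inl (main n hn G hG q p h1 (by rwa [mul_comm]))

end Cfsg.Agent.S4231
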