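import Cfsg.Statements.S2930
import Cfsg.Agent.Lib.Layer.SymO3
import Cfsg.Agent.S4231
import Cfsg.Agent.S3025

set_option autoImplicit false
open Cfsg

namespace Cfsg.Agent.S2930

open Subgroup Cfsg.Lib.Core Cfsg.Lib.Amalg Cfsg.Lib.BG1 Cfsg.Lib.Layer

/-- Let X be a finite 3-minimal group (a Sylow 3-subgroup is not normal and lies in a unique maximal subgroup) whose generalized Fitting subgroup is isomorphic to an alternating group of degree n ≥ 5. Then X = F*(X), and n = 6, n = 9, or n = 3ᵃ + 1 for some a ≥ 2. -/
theorem result {X : Type*} [Group X] [Finite X] (hX : Cfsg.IsPMinimal 3 X) (n : ℕ) (hn : 5 ≤ n) (hF : Nonempty (↥(Cfsg.generalizedFittingSubgroup X) ≃* ↥(alternatingGroup (Fin n)))) : Cfsg.generalizedFittingSubgroup X = ⊤ ∧ (n = 6 ∨ n = 9 ∨ ∃ a : ℕ, 2 ≤ a ∧ n = 3 ^ a + 1) := by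
  haveI : Fact (Nat.Prime 3) := ⟨Nat.prime_three⟩
  obtain ⟨e⟩ := hF
  set L := generalizedFittingSubgroup X with hL
  haveI : L.Normal := fstar_normal
  have hP := pMin_top.mpr hX
  obtain ⟨T, hT⟩ := exists_syl 3 (⊤ : Subgroup X)
  have hC : centralizer (L : Set X) = ⊥ := by
    have h1 : center L = ⊥ := by
      rw [eq_bot_iff]
      intro x hx
      have : e x ∈ center (alternatingGroup (Fin n)) := mem_center_iff.mpr fun y => by
        obtain ⟨y, rfl⟩ := e.surjective y
        rw [← map_mul, ← map_mul, mem_center_iff.mp hx]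
      rw [alternatingGroup.center_eq_bot (by simp; omega)] at this
      exact e.map_eq_one_iff.mp this
    rw [← inf_eq_right.mpr centralizer_fstar_le, ← Lib.Core.map_subtype_center, h1, Subgroup.map_bot]
  have hinj : Function.Injective (MulAut.conjNormal (H := L)) :=
    (MonoidHom.ker_eq_bot_iff _).mp ((Cfsg.Agent.S3025.ker_conjNormal L).trans hC)
  have h1 : Nat.card X ∣ 4 * Nat.card L := by
    refine (card_dvd_of_injective _ hinj).trans ?_
    rw [Nat.card_congr (MulAut.congr e).toEquiv, Nat.card_congr e.toEquiv]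
    haveI : Nontrivial (Fin n) := Fin.nontrivial_iff_two_le.mpr (by omega)
    by_cases h6 : n = 6
    · subst h6
      rw [nat_card_alternatingGroup]
      simpa [Nat.factorial] using Cfsg.Agent.S4231.card_aut_six
    · rw [← Nat.card_eq_of_bijective _ (Lib.Linear.conjNormal_alt_bijective (α := Fin n) (by simp; omega) (by simpa using h6)),
        ← two_mul_nat_card_alternatingGroup]
      exact Nat.mul_dvd_mul_right (by norm_num) _
  have h2 : L.index ∣ 4 := by
    rw [← L.index_mul_card] at h1
    exact Nat.dvd_of_mul_dvd_mul_right Nat.card_pos h1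
  have hTL : T ≤ L := by
    have := (hT.inf_normal_top L).of_le_of_not_dvd le_top (by
      rw [relIndex_top_right]
      intro h
      exact absurd (h.trans h2) (by norm_num))
    exact inf_eq_left.mp (this.eq_of_le T inf_le_left le_top hT.isPGroup).symm
  have htop : L = ⊤ := by
    rw [eq_top_iff, ← hP.ncl_eq hT, ncl_top]
    exact normalClosure_le_normal hTL
  refine ⟨htop, ?_⟩
  let f : X →* Equiv.Perm (Fin n) := (alternatingGroup (Fin n)).subtype.comp
    (((MulEquiv.subgroupCongr htop).trans topEquiv).symm.trans e).toMonoidHom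
  have hf : Function.Injective f := (subtype_injective _).comp (MulEquiv.injective _)
  have hr : (⊤ : Subgroup X).map f = alternatingGroup (Fin n) := by
    rw [← Subgroup.map_map, map_top_of_surjective _ (MulEquiv.surjective _), ← MonoidHom.range_eq_map, range_subtype]
  obtain ⟨-, M, hM⟩ := hP.exists_uMax hT
  have := hM.map f (inf_ker_le_of_injective hf _ _)
  rw [hr] at this
  simpa using SymO.three_min this (hT.isPGroup.map f) (by simpa using hn)

end Cfsg.Agent.S2930
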