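import Cfsg.Statements.S2933
import Cfsg.Agent.Lib.Amalg.Sing2

set_option autoImplicit false
open Cfsg

namespace Cfsg.Agent.S2933

open Subgroup Cfsg.Lib.Amalg
open Cfsg.Lib.Core hiding isPGroup_subgroupOf isPGroup_subgroupOf_iff isPGroup_map_subtype_iff isPGroup_zpowers_of_orderOf
open scoped commutatorElement

/-- Let T be a 2-subgroup of a finite group G, V ≤ Z(T) a four-group, and t, ρ ∈ N_G(V) ∩ N_G(T) elements of order 2 and 3 with t commuting with ρ and with V. If [V, ρ] = V and C_T(t) = V, then T is elementary abelian of order 16, or homocyclic of rank 2 (ℤ/2ⁿ × ℤ/2ⁿ for some n ≥ 1), or isomorphic to a Sylow 2-subgroup of PSL₃(4) or of PSU₃(4). -/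
theorem result {G : Type*} [Group G] [Finite G] (T V : Subgroup G) (hT : IsPGroup 2 ↥T) (hVT : V ≤ T ⊓ Subgroup.centralizer (T : Set G)) (hV : Nat.card ↥V = 4 ∧ ∀ v ∈ V, v ^ 2 = 1) (t ρ : G) (ht : orderOf t = 2) (hρ : orderOf ρ = 3) (htn : t ∈ Subgroup.normalizer (V : Set G) ⊓ Subgroup.normalizer (T : Set G)) (hρn : ρ ∈ Subgroup.normalizer (V : Set G) ⊓ Subgroup.normalizer (T : Set G)) (htρ : t * ρ = ρ * t) (htV : t ∈ Subgroup.centralizer (V : Set G)) (hVρ : ⁅V, Subgroup.zpowers ρ⁆ = V) (hCt : T ⊓ Subgroup.centralizer ({t} : Set G) = V) : (Nat.card ↥T = 16 ∧ ∀ x ∈ T, x ^ 2 = 1) ∨ (∃ n : ℕ, 1 ≤ n ∧ Nonempty (↥T ≃* Multiplicative (ZMod (2 ^ n)) × Multiplicative (ZMod (2 ^ n)))) ∨ (∃ (F : Type) (_ : Field F) (_ : Fintype F), Fintype.card F = 4 ∧ ∀ P : Sylow 2 (Matrix.ProjectiveSpecialLinearGroup (Fin 3) F), Nonempty (↥T ≃* ↥(P : Subgroup (Matrix.ProjectiveSpecialLinearGroup (Fin 3) F)))) ∨ (∃ (F : Type) (_ : Field F) (_ : Fintype F),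 Fintype.card F = 16 ∧ ∀ P : Sylow 2 (Cfsg.PSU 3 F 4), Nonempty (↥T ≃* ↥(P : Subgroup (Cfsg.PSU 3 F 4)))) := by
  let α : MulAut T := T.normalizerMonoidHom ⟨t, htn.2⟩
  let β : MulAut T := T.normalizerMonoidHom ⟨ρ, hρn.2⟩
  have hα : ∀ x : T, (α x : G) = t * x * t⁻¹ := fun _ => rfl
  have hβ : ∀ x : T, (β x : G) = ρ * x * ρ⁻¹ := fun _ => rfl
  have t2 : t * t = 1 := by rw [← sq, ← ht, pow_orderOf_eq_one]
  have β3 : β ^ 3 = 1 := by
    rw [← map_pow, show (⟨ρ, hρn.2⟩ : Subgroup.normalizer (T : Set G)) ^ 3 = 1 from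
      Subtype.ext (by simpa [hρ] using pow_orderOf_eq_one ρ), map_one]
  let C := V.subgroupOf T
  have hVT' : V ≤ T := fun x hx => (hVT hx).1
  have C4 : Nat.card C = 4 := by rw [Nat.card_congr (Subgroup.subgroupOfEquivOfLe hVT').toEquiv, hV.1]
  have Cc : ∀ z ∈ C, ∀ x : T, Commute z x := fun z hz x => Subtype.ext ((hVT hz).2 x x.2).symm
  have C2 : ∀ z ∈ C, z * z = 1 := fun z hz => Subtype.ext ((sq (z : G)).symm.trans (hV.2 _ hz))
  have βC : ∀ z ∈ C, β z ∈ C := fun z hz => (Subgroup.mem_normalizer_iff.1 hρn.1 _).1 hz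
  have β3' : ∀ x, β (β (β x)) = x := fun x => by
    have := congrArg (fun f : MulAut T => f x) β3
    simpa [pow_succ] using this
  have fx : ∀ x ∈ C, β x = x → x = 1 := by
    intro x hx e
    by_contra x1
    have all : ∀ v ∈ C, β v = v := by
      intro v hv
      by_cases v1 : v = 1
      · rw [v1, map_one]
      by_cases vx : v = x
      · rw [vx, e]
      have xv : x * v ≠ 1 := fun h => vx (by rw [← mul_left_cancel_iff (a := x), h, C2 x hx])
      rcases Cfsg.Lib.R2.mem_of_card_four C4 hx hv (C.mul_mem hx hv) x1 v1 xv (Ne.symm vx) (by simpa using v1)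
        (by simpa using x1) (βC v hv) (by simpa using v1) with h | h | h
      · exact absurd (β.injective (h.trans e.symm)) vx
      · exact h
      · have := β3' v
        rwa [h, map_mul, e, h, ← mul_assoc, C2 x hx, one_mul] at this
    have : ⁅V, Subgroup.zpowers ρ⁆ = ⊥ := by
      rw [Subgroup.commutator_eq_bot_iff_le_centralizer, ← Subgroup.le_centralizer_iff, Subgroup.zpowers_le]
      intro v hv
      have := congrArg Subtype.val (all ⟨v, hVT' hv⟩ hv)
      rw [hβ, mul_inv_eq_iff_eq_mul] at this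
      exact this.symm
    rw [hVρ] at this
    have h4 := hV.1
    rw [this, Subgroup.card_bot] at h4
    omega
  rcases Cfsg.Lib.Amalg.Sing.classify hT (n := 2) le_rfl (α := α) (ρ := β)
    (fun x => Subtype.ext (by
      rw [hα, hα]
      calc _ = (t * t) * x * (t * t)⁻¹ := by group
        _ = _ := by rw [t2]; group)) β3
    (fun x => Subtype.ext (by
      rw [hα, hβ, hβ, hα]
      calc _ = (t * ρ) * x * (t * ρ)⁻¹ := by group
        _ = _ := by rw [htρ]; group)) (C := C)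
    (fun x => by
      rw [Subgroup.mem_subgroupOf, ← hCt, Subgroup.mem_inf, Subgroup.mem_centralizer_singleton_iff, Subtype.ext_iff, hα,
        mul_inv_eq_iff_eq_mul, eq_comm]
      simp) ⟨⟨⟨fun a b => Subtype.ext (Cc _ a.2 _)⟩⟩, fun a ha => (sq a).trans (C2 a ha)⟩ C4
    (fun x y hx hy x1 y1 => by
      have n1 : β x ≠ x := fun e => x1 (fx x hx e)
      rcases Cfsg.Lib.R2.mem_of_card_four C4 hx (βC x hx) (βC _ (βC x hx)) x1 (by simpa using x1) (by simpa using x1)
        n1.symm (fun e => n1 (by have := β3' x; rwa [← e] at this)) (fun e => n1 (β.injective e).symm) hy y1 with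
        h | h | h
      · exact ⟨0, h.symm⟩
      · exact ⟨1, by simp [h]⟩
      · exact ⟨2, by simp [h, pow_succ]⟩) with h | h | ⟨K, _, _, hK, h⟩ | ⟨K, _, _, hK, h⟩
  · haveI : Fact (Nat.Prime 2) := ⟨Nat.prime_two⟩
    letI : Fintype (GaloisField 2 4) := Fintype.ofFinite _
    have hK : Fintype.card (GaloisField 2 4) = 4 ^ 2 := by
      rw [← Nat.card_eq_fintype_card, GaloisField.card 2 4 (by norm_num)]; norm_num
    obtain ⟨σ, c⟩ := Cfsg.Lib.Forms.isConj_of_card hK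
    rcases (Cfsg.Lib.R2.hc_or_heis_aut c hT (V := C) (fun {x} => ⟨C2 x, h.2 x⟩) Cc C4 (α := β) (n := 1) β3
      (fun x e => by
        by_contra x1
        obtain ⟨k, hk⟩ := hT.exists_orderOf_eq_pow x
        rcases k with _ | k
        · exact x1 (orderOf_eq_one_iff.1 hk)
        have h1 := Cfsg.Lib.R2.orderOf_half hk
        have h2 := fx (x ^ 2 ^ k) (h.2 _ (by rw [← sq, ← pow_mul, ← pow_succ, ← hk, pow_orderOf_eq_one])) (by rw [map_pow, e])
        rw [h2, orderOf_one] at h1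
        omega)).2 with ⟨n, hn⟩ | ⟨⟨f⟩⟩
    · obtain ⟨e⟩ := hn.equiv
      exact Or.inr (Or.inl ⟨n + 1, by omega, ⟨(Subgroup.topEquiv.symm.trans e).trans (MulEquiv.prodMultiplicative _ _)⟩⟩)
    · refine Or.inr (Or.inr (Or.inr ⟨_, inferInstance, inferInstance, hK, fun P => ?_⟩))
      obtain ⟨e⟩ := Cfsg.Lib.U3.sylow_psu c (k := 2) rfl P
      exact ⟨f.trans e.symm⟩
  · exact Or.inl ⟨h.2, fun x hx => (sq x).trans (congrArg Subtype.val (h.1 ⟨x, hx⟩))⟩
  · exact Or.inr (Or.inr (Or.inr ⟨K, inferInstance, inferInstance, hK, h⟩))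
  · exact Or.inr (Or.inr (Or.inl ⟨K, inferInstance, inferInstance, hK, h⟩))

end Cfsg.Agent.S2933
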