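import Cfsg.Statements.S2934
import Cfsg.Agent.Lib.Hall.FC6
import Cfsg.Agent.Lib.Coprime.Generation
import Cfsg.Agent.Lib.Coprime.Action
import Cfsg.Agent.Lib.PGrp.Cyclic
import Cfsg.Agent.Lib.PGrp.CExt
import Cfsg.Agent.Lib.PGrp.MaxClass
import Cfsg.Agent.Lib.PGrp.Critical
import Cfsg.Agent.Lib.Known2.LE
import Cfsg.Agent.Lib.KS9.Plane

set_option autoImplicit false
open Cfsg

namespace Cfsg.Agent.S2934

open Subgroup Cfsg.Lib Cfsg.Lib.Amalg Cfsg.Lib.Known2
open scoped commutatorElement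

theorem main {G : Type*} [Group G] [Finite G] {W E : Subgroup G} (hW : IsPGroup 2 W) {p : ℕ} [hp : Fact p.Prime] (hp2 : p ≠ 2)
    (hE : IsPGroup p E) [IsMulCommutative E] (hnc : ¬ IsCyclic E) (hn : E ≤ 𝐍 W) (hf : ∀ e ∈ E, e ∈ 𝐂 W → e = 1)
    (hu : ∀ e ∈ E, e ≠ 1 → ∀ s ∈ W ⊓ centralizer {e}, ∀ t ∈ W ⊓ centralizer {e}, orderOf s = 2 → orderOf t = 2 → s = t) :
    Nat.card E = 9 ∧ 8 < Nat.card W ∧ Nat.card W ≤ 512 ∧ ∃ z, ES W z ∧ W ⊓ 𝐂 E = zpowers z := by
  haveI := Invol.fact_two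
  have hEc : ∀ e ∈ E, E ≤ centralizer {e} := fun e he g hg => mem_cent_single.2 (setLike_mul_comm hg he)
  have gen : ∀ {K L : Subgroup G}, K ≤ W → E ≤ 𝐍 K → (∀ e ∈ E, e ≠ 1 → K ⊓ centralizer {e} ≤ L) → K ≤ L := fun hK h1 h2 =>
    Coprime.le_of_forall_centralizer_le hnc h1 (IsPGroup.coprime_card_of_ne p 2 hp2 _ _ hE (hW.to_le hK)) h2
  have inv : ∀ {K : Subgroup G}, E ≤ 𝐍 K → ∀ e ∈ E, E ≤ 𝐍 (K ⊓ centralizer {e} : Subgroup G) := fun h e he =>
    Core.le_normalizer_inf h ((hEc e he).trans le_normalizer)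
  have two : ∀ e ∈ E, e ≠ 1 → ∀ T ≤ W ⊓ centralizer {e}, E ≤ 𝐍 T → T ≤ 𝐂 E ∨
      (Nat.card T = 8 ∧ p = 3 ∧ ¬ T ≤ 𝐂 T) := fun e he h1 T hT h2 => by
    refine or_iff_not_imp_left.2 fun h3 => ?_
    obtain ⟨g, hg, h4⟩ := SetLike.not_le_iff_exists.1 (mt le_centralizer_iff.1 h3)
    obtain ⟨k, hk⟩ := (IsPGroup.iff_orderOf.1 hE) ⟨g, hg⟩
    rw [← orderOf_coe] at hk
    obtain ⟨⟨f⟩, h5⟩ := (Hall.two_subgroup_cent (hW.to_le (hT.trans inf_le_left)) (fun s hs t ht => hu e he h1 s (hT hs) t (hT ht))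
      (h2 hg) (hk ▸ (hp.out.odd_of_ne_two hp2).pow)).resolve_left h4
    refine ⟨by rw [Nat.card_congr f.toEquiv, Nat.card_eq_fintype_card, QuaternionGroup.card],
      ((Nat.prime_dvd_prime_iff_eq Nat.prime_three hp.out).1 (Nat.prime_three.dvd_of_dvd_pow (hk ▸ h5))).symm, fun h6 => ?_⟩
    have := congrArg f (Subtype.ext (h6 (f.symm (.a 1)).2 _ (f.symm (.xa 0)).2) : f.symm (.xa 0) * f.symm (.a 1) = _ * _)
    simp only [map_mul, MulEquiv.apply_symm_apply] at this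
    exact absurd this (by decide)
  have hWE : ¬ W ≤ 𝐂 E := fun h => hnc (by
    rw [show E = ⊥ from eq_bot_iff.2 fun e he => mem_bot.2 (hf e he (le_centralizer_iff.1 h he))]; infer_instance)
  have hC : ∀ e ∈ E, W ⊓ 𝐂 E ≤ W ⊓ centralizer {e} := fun e he => inf_le_inf_left _ (centralizer_le (by simpa using he))
  obtain ⟨a, ha, a1, a2⟩ : ∃ e ∈ E, e ≠ 1 ∧ ¬ W ⊓ centralizer {e} ≤ 𝐂 E := by
    by_contra! h
    exact hWE (gen le_rfl hn h)
  obtain ⟨a3, rfl, -⟩ := (two a ha a1 _ le_rfl (inv hn a ha)).resolve_left a2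
  have h1 : Nat.card ↥(W ⊓ 𝐂 E) = 2 := by
    have h1 := PGrp.card_modEq_card_inf_centralizer hE (inv hn a ha)
    rw [inf_right_comm, inf_eq_left.2 ((hC a ha).trans inf_le_right), a3] at h1
    have h2 := KS9.mul_card_le_of_lt hW.to_inf_left (lt_of_le_of_ne (hC a ha) fun e => a2 (e.ge.trans inf_le_right))
    have h3 := a3 ▸ card_dvd_of_le (hC a ha)
    rw [a3, Nat.ModEq] at *
    generalize Nat.card ↥(W ⊓ 𝐂 E) = n at *
    have : n ≤ 4 := by omega
    interval_cases n <;> omega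
  obtain ⟨z, z1, z2, hz⟩ := exists_invol_of_card_two h1
  have ab : ∀ A ≤ W, E ≤ 𝐍 A → A ≤ 𝐂 A → A ≤ zpowers z := fun A hA h2 h3 => hz ▸ le_inf hA (gen hA h2 fun e he h4 =>
    (two e he h4 _ (inf_le_inf_right _ hA) (inv h2 e he)).resolve_right fun h => h.2.2
      (inf_le_left.trans (h3.trans (Core.centralizer_anti inf_le_left))))
  have nC : ∀ {A : Subgroup G}, E ≤ 𝐍 A → E ≤ 𝐍 (𝐂 A) := fun h => h.trans (Core.normalizer_le_normalizer_centralizer _)
  have zW : z ∈ W ⊓ 𝐂 E := hz.ge (mem_zpowers z)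
  have hZ : ∀ x ∈ W, x * z = z * x := by
    obtain ⟨⟨x, hx⟩, h2⟩ := ne_bot_iff_exists_ne_one.1 (Core.inf_centralizer_ne_bot_of_isPGroup hW hW le_normalizer
      fun e => hWE (e ▸ bot_le))
    rcases (mem_zpowers_invol z2).1 (ab _ inf_le_left (Core.le_normalizer_inf hn (nC hn))
      (inf_le_right.trans (Core.centralizer_anti inf_le_left)) hx) with rfl | rfl
    exacts [absurd rfl h2, hx.2]
  let Y : Subgroup G :=
    { carrier := {x | x ∈ W ∧ ∀ y ∈ W, x * y * x⁻¹ = y ∨ x * y * x⁻¹ = y * z}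
      one_mem' := ⟨one_mem W, by simp⟩
      mul_mem' := fun {x y} hx hy => ⟨mul_mem hx.1 hy.1, fun w hw => by
        rw [show x * y * w * (x * y)⁻¹ = x * (y * w * y⁻¹) * x⁻¹ by group]
        rcases hy.2 w hw with e | e <;> rw [e]
        · exact hx.2 w hw
        · rw [← conj_mul, conj_eq_of_comm (hZ x hx.1)]
          rcases hx.2 w hw with e | e <;> simp [e, mul_assoc, z2]⟩
      inv_mem' := fun {x} hx => ⟨inv_mem hx.1, fun w hw => by
        refine (hx.2 w hw).imp (fun e => by nth_rewrite 1 [← e]; group) fun e => ?_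
        have : x * (w * z) * x⁻¹ = w := by rw [← conj_mul, e, conj_eq_of_comm (hZ x hx.1), mul_assoc, z2, mul_one]
        nth_rewrite 1 [← this]; group⟩ }
  have hYW : Y ≤ W := fun x hx => hx.1
  have hY : ∀ g ∈ 𝐍 W, g * z = z * g → g ∈ 𝐍 Y := fun g hg h2 => mem_normalizer_fintype fun x hx =>
    ⟨Core.conj_mem_of_mem_normalizer hg hx.1, fun y hy => by
      rw [show g * x * g⁻¹ * y * (g * x * g⁻¹)⁻¹ = g * (x * (g⁻¹ * y * g) * x⁻¹) * g⁻¹ by group]
      rcases hx.2 _ (Core.conj_inv_mem_of_mem_normalizer hg hy) with e | e <;> rw [e]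
      exacts [Or.inl (by group), Or.inr (by rw [← conj_mul, conj_eq_of_comm h2]; group)]⟩
  have hEY : E ≤ 𝐍 Y := fun g hg => hY g (hn hg) (zW.2 g hg)
  have hWY : W ≤ 𝐍 Y := fun g hg => hY g (le_normalizer hg) (hZ g hg)
  have hD : W ⊓ 𝐂 Y ≤ zpowers z := by
    have h2 : zpowers z ≤ W ⊓ 𝐂 Y := zpowers_le.2 ⟨zW.1, fun y hy => hZ y hy.1⟩
    refine (h2.eq_or_lt.resolve_right fun h3 => ?_).ge
    obtain ⟨L, h4, h5, -, h6, h7⟩ := PGrp.exists_card_eq_mul_of_normalizes hW h3 inf_le_left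
      (fun g hg => cent_le_norm _ (mem_cent_zpowers.2 (hZ g hg)))
      (Core.le_normalizer_inf le_normalizer (hWY.trans (Core.normalizer_le_normalizer_centralizer _)))
    have := card_le_of_le ((le_inf (fun x hx => ⟨(h5 hx).1, fun y hy => ((mem_zpowers_invol z2).1
      (h7 (commutator_mem_commutator hx hy))).imp (fun e => by rwa [commutatorElement_def, mul_inv_eq_one] at e) fun e => by
        rw [hZ y hy, ← e]; simp [commutatorElement_def]⟩) (h5.trans inf_le_right)).trans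
      (ab (Y ⊓ 𝐂 Y) (inf_le_left.trans hYW) (Core.le_normalizer_inf hEY (nC hEY)) (inf_le_right.trans (Core.centralizer_anti inf_le_left))))
    have := Nat.card_pos (α := zpowers z)
    omega
  have h2 : ES Y z := by
    refine ⟨⟨zW.1, fun y hy => Or.inl (conj_eq_of_comm (hZ y hy).symm)⟩, z1, z2, fun x hx => hZ x hx.1,
      fun x hx h => (mem_zpowers_invol z2).1 (hD ⟨hx.1, fun y hy => (h y hy).symm⟩), fun x hx y hy => (hx.2 y hy.1).imp
        comm_of_conj_eq fun e => by rw [mul_assoc, hZ x hx.1, ← mul_assoc, ← e]; group,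
      fun x hx => (mem_zpowers_invol z2).1 (hD ⟨mul_mem hx.1 hx.1, fun y hy => (comm_of_conj_eq ?_).symm⟩), ?_⟩
    · rw [show x * x * y * (x * x)⁻¹ = x * (x * y * x⁻¹) * x⁻¹ by group]
      rcases hx.2 y hy.1 with e | e <;> rw [e]
      exacts [e, by rw [← conj_mul, e, conj_eq_of_comm (hZ x hx.1), mul_assoc, z2, mul_one]]
    · by_contra! h
      have := ab Y hYW hEY fun x hx y hy => h y hy x hx
      exact hWE (fun w hw => (hz.ge (hD ⟨hw, fun y hy => by
        rcases (mem_zpowers_invol z2).1 (this hy) with rfl | rfl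
        exacts [by simp, (hZ w hw).symm]⟩)).2)
  have hYW' : Y = W := le_antisymm hYW fun w hw => by
    obtain ⟨q, hq, h3⟩ := h2.exists_inner (hZ w hw) fun x hx => by
      rcases hx.2 w hw with e | e
      · exact Or.inl (conj_eq_of_comm (comm_of_conj_eq e).symm)
      · right
        calc w * x * w⁻¹ = (w * z) * x * (w * z)⁻¹ := by rw [mul_assoc w z, ← hZ x hx.1]; group
          _ = x * (w * (w * z)⁻¹) := by nth_rewrite 1 [← e]; group
          _ = _ := by rw [mul_inv_rev, h2.inv_z, ← mul_assoc w, hZ w hw, mul_inv_cancel_right]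
    exact (mul_mem_cancel_left (inv_mem hq)).1 (zpowers_le.2 h2.mem (hD ⟨W.mul_mem (W.inv_mem (hYW hq)) hw, fun y hy => (comm_of_conj_eq (by
      rw [show q⁻¹ * w * y * (q⁻¹ * w)⁻¹ = q⁻¹ * (w * y * w⁻¹) * q by group, h3 y hy]; group)).symm⟩))
  rw [hYW'] at h2
  have h8 : ∀ e ∈ E, e ≠ 1 → Nat.card ↥(W ⊓ centralizer {e}) ≤ 8 := fun e he h3 =>
    (two e he h3 _ le_rfl (inv hn e he)).elim (fun h => (card_le_of_le (le_inf inf_le_left h)).trans (by omega)) fun h => h.1.le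
  obtain ⟨b, hb, b1, b2⟩ : ∃ e ∈ E, e ≠ 1 ∧ ¬ W ⊓ centralizer {e} ≤ W ⊓ centralizer {a} := by
    by_contra! h
    exact a1 (hf a ha fun y hy => mem_cent_single.1 (gen le_rfl hn h hy).2)
  obtain ⟨x, hx, x1⟩ := SetLike.not_le_iff_exists.1 a2
  obtain ⟨y, hy, y1⟩ := SetLike.not_le_iff_exists.1 b2
  have h3 : ∀ e ∈ E, e ≠ 1 → ∀ x ∈ W ⊓ centralizer {e}, (centralizer {x}).relIndex E ≤ 3 := fun e he h3 x hx => by
    have h4 := PGrp.relIndex_centralizer_le_card (W := E) (Z := W ⊓ centralizer {e}) (a := x) fun g hg =>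
      mul_mem (Core.conj_mem_of_mem_normalizer (inv hn e he hg) hx) (inv_mem hx)
    obtain ⟨k, hk⟩ := hE.index ((centralizer {x}).subgroupOf E)
    have h5 := h8 e he h3
    rw [relIndex, hk] at h4 ⊢
    exact Nat.pow_le_pow_right (i := k) (j := 1) (by norm_num) (by
      by_contra h; have := Nat.pow_le_pow_right (n := 3) (i := 2) (j := k) (by norm_num) (by omega); omega)
  have h4 : Nat.card E = 9 := by
    have h4 := (relIndex_inf_le (H := centralizer {x}) (K := centralizer {y}) (L := E)).trans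
      (Nat.mul_le_mul (h3 a ha a1 x hx) (h3 b hb b1 y hy))
    rw [← inf_relIndex_right, show centralizer {x} ⊓ centralizer {y} ⊓ E = ⊥ from ?_, relIndex_bot_left] at h4
    · obtain ⟨k, hk⟩ := hE.exists_card_eq
      obtain rfl | rfl | rfl | h : k = 0 ∨ k = 1 ∨ k = 2 ∨ 3 ≤ k := by omega
      exacts [absurd (isCyclic_of_card_dvd_prime (p := 3) (by simp [hk])) hnc, absurd (isCyclic_of_prime_card hk) hnc, hk,
        by have := Nat.pow_le_pow_right (n := 3) (by norm_num) h; omega]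
    refine eq_bot_iff.2 fun e he => mem_bot.2 (by_contra fun h5 => y1 ?_)
    have h6 := ((two e he.2 h5 (W ⊓ centralizer {a} ⊓ centralizer {e}) (inf_le_inf_right _ inf_le_left)
      (inv (inv hn a ha) e he.2)).resolve_left fun h => x1 (h ⟨hx, mem_cent_single.2 (mem_cent_single.1 he.1.1).symm⟩)).1
    exact ((eq_of_le_of_card_ge (inf_le_inf_right _ inf_le_left) (h6 ▸ h8 e he.2 h5)).ge
      ⟨hy.1, mem_cent_single.2 (mem_cent_single.1 he.1.2).symm⟩).1
  refine ⟨h4, a3 ▸ Transfer.card_lt_of_lt (lt_of_le_of_ne inf_le_left fun e => y1 (e.ge hy.1)), ?_, z, h2, hz⟩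
  have h5 : ∀ e ∈ E, e ^ 3 = 1 := fun e he => by
    obtain ⟨k, hk, h5⟩ := (Nat.dvd_prime_pow Nat.prime_three (m := 2)).1 (h4 ▸ orderOf_dvd_natCard (⟨e, he⟩ : E) : _ ∣ 9)
    rw [← orderOf_dvd_iff_pow_eq_one, ← show orderOf ((⟨e, he⟩ : E) : G) = orderOf e from rfl, orderOf_coe]
    obtain rfl | rfl | rfl : k = 0 ∨ k = 1 ∨ k = 2 := by omega
    exacts [h5 ▸ one_dvd 3, h5 ▸ dvd_rfl, absurd (isCyclic_of_orderOf_eq_card _ (h5.trans h4.symm)) hnc]
  have h6 : ∀ e ∈ E, e ^ 4 = e := fun e he => by rw [pow_succ, h5 e he, one_mul]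
  have h7 : ∀ e ∈ E, ∀ g ∈ zpowers e, g = 1 ∨ g = e ∨ g = e ^ 2 := fun e he g hg => by
    obtain ⟨k, rfl⟩ := mem_powers_iff_mem_zpowers.2 hg
    have : k % 3 = 0 ∨ k % 3 = 1 ∨ k % 3 = 2 := by omega
    simp only [pow_eq_pow_mod k (h5 e he)]
    rcases this with h | h | h <;> simp [h]
  have sq : ∀ e : G, W ⊓ centralizer {e} ≤ W ⊓ centralizer {e ^ 2} := fun e => inf_le_inf_left _ fun x hx =>
    mem_cent_single.2 (Commute.pow_right (mem_cent_single.1 hx) 2)
  have h9 : b ∉ zpowers a := fun h => by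
    rcases h7 a ha b h with rfl | rfl | rfl
    exacts [b1 rfl, b2 le_rfl, b2 ((sq _).trans (by rw [← pow_mul, h6 a ha]))]
  have c : Commute a b := setLike_mul_comm ha hb
  have h10 : E = zpowers a ⊔ zpowers b := (eq_of_le_of_card_ge (sup_le (zpowers_le.2 ha) (zpowers_le.2 hb)) (by
    have := KS9.mul_card_le_of_lt (hE.to_le (sup_le (zpowers_le.2 ha) (zpowers_le.2 hb))) (lt_of_le_of_ne le_sup_left
      fun e => h9 (e.ge (mem_sup_right (mem_zpowers b))))
    rw [Nat.card_zpowers, orderOf_eq_prime (h5 a ha) a1] at this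
    omega)).symm
  have h11 : ∀ e ∈ E, z ∈ W ⊓ centralizer {e} := fun e he => hC e he zW
  have step : ∀ A ≤ W, z ∈ A → ∀ e ∈ E, e ≠ 1 → Nat.card ↥(A ⊔ W ⊓ centralizer {e}) ≤ 4 * Nat.card A := fun A hA h e he h' => by
    have h12 := Core.card_sup_mul_card_inf (H := A) (K := W ⊓ centralizer {e}) fun g hg => mem_normalizer_fintype fun x hx => by
      rcases h2.conj_eq (hA hg) hx.1 with e | e <;> rw [e]
      exacts [hx, mul_mem hx (h11 _ he)]
    have h13 := card_le_of_le (zpowers_le.2 (Subgroup.mem_inf.2 ⟨h, h11 e he⟩))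
    rw [card_zpowers_invol z2 z1] at h13
    have := h8 e he h'
    nlinarith
  have h12 := step _ inf_le_left (h11 a ha) b hb b1
  have h13 := step _ (sup_le inf_le_left inf_le_left) (mem_sup_left (T := W ⊓ centralizer {b}) (h11 a ha)) _ (mul_mem ha hb)
    fun e => h9 (eq_inv_of_mul_eq_one_right e ▸ inv_mem (mem_zpowers a))
  have h14 := step _ (sup_le (sup_le inf_le_left inf_le_left) inf_le_left) (mem_sup_right (S := W ⊓ centralizer {a} ⊔
    W ⊓ centralizer {b}) (h11 _ (mul_mem ha hb))) _ (mul_mem ha (pow_mem hb 2)) fun e => h9 (by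
      rw [← h6 b hb, show 4 = 2 * 2 from rfl, pow_mul, eq_inv_of_mul_eq_one_right e]; exact pow_mem (inv_mem (mem_zpowers a)) 2)
  refine (card_le_of_le (gen le_rfl hn fun e he e1 => ?_)).trans (h14.trans (by omega))
  obtain ⟨u, hu, v, hv, rfl⟩ := (mem_sup_of_le_normalizer (zpowers_le.2 (cent_le_norm _ (mem_cent_zpowers.2 c)))).1 (h10.le he)
  have k1 : W ⊓ centralizer {a ^ 2} ≤ W ⊓ centralizer {a} := (sq _).trans (by rw [← pow_mul, h6 a ha])
  have k2 : W ⊓ centralizer {b ^ 2} ≤ W ⊓ centralizer {b} := (sq _).trans (by rw [← pow_mul, h6 b hb])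
  have k3 : W ⊓ centralizer {a ^ 2 * b} ≤ W ⊓ centralizer {a * b ^ 2} :=
    (sq _).trans (by rw [(c.pow_left 2).mul_pow, ← pow_mul, h6 a ha])
  have k4 : W ⊓ centralizer {a ^ 2 * b ^ 2} ≤ W ⊓ centralizer {a * b} :=
    (sq _).trans (by rw [(c.pow_pow 2 2).mul_pow, ← pow_mul, ← pow_mul, h6 a ha, h6 b hb])
  rcases h7 a ha u hu with rfl | rfl | rfl <;> rcases h7 b hb v hv with rfl | rfl | rfl <;> try simp only [one_mul, mul_one] at e1 ⊢
  exacts [absurd rfl e1, le_sup_of_le_left (le_sup_of_le_left le_sup_right), k2.trans (le_sup_of_le_left (le_sup_of_le_left le_sup_right)),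
    le_sup_of_le_left (le_sup_of_le_left le_sup_left), le_sup_of_le_left le_sup_right, le_sup_right,
    k1.trans (le_sup_of_le_left (le_sup_of_le_left le_sup_left)), k3.trans le_sup_right, k4.trans (le_sup_of_le_left le_sup_right)]

/-- Let p be an odd prime, W a finite 2-group and E a non-cyclic abelian p-subgroup of Aut(W) such that, for every nontrivial e ∈ E, the fixed points of e in W contain at most one involution. Then E has order 9, W is extraspecial of order 2⁵, 2⁷ or 2⁹, and the common fixed points of E in W form exactly the centre Z(W). -/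
theorem result {W : Type*} [Group W] [Finite W] (hW : IsPGroup 2 W) {p : ℕ} [Fact p.Prime] (hp : p ≠ 2) (E : Subgroup (MulAut W)) (hE : IsPGroup p ↥E) (hab : IsMulCommutative ↥E) (hnc : ¬ IsCyclic ↥E) (hfix : ∀ e ∈ E, e ≠ 1 → ∀ x y : W, orderOf x = 2 → orderOf y = 2 → e x = x → e y = y → x = y) : Nat.card ↥E = 9 ∧ Cfsg.IsExtraspecial 2 W ∧ (Nat.card W = 2 ^ 5 ∨ Nat.card W = 2 ^ 7 ∨ Nat.card W = 2 ^ 9) ∧ {x : W | ∀ e ∈ E, e x = x} = (Subgroup.center W : Set W) := by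
  obtain ⟨G, _, _, i, j, h, -⟩ := Coprime.exists_ambient (MonoidHom.id (MulAut W))
  haveI := Invol.fact_two
  obtain ⟨h1, h2, h3, z, h4, h5⟩ := main (W := (⊤ : Subgroup W).map i) (E := E.map j) ((hW.to_subgroup _).map _) hp (hE.map j)
    (fun hc => hnc (isCyclic_of_injective (E.equivMapOfInjective j h.inj_j).toMonoidHom (E.equivMapOfInjective j h.inj_j).injective)) (h.le_normalizer_top E) (by
      rintro _ ⟨e, -, rfl⟩ he
      rw [show e = 1 from MulEquiv.ext fun x => (h.mul_comm_iff e x).1 (he _ (mem_map_of_mem i (mem_top x))).symm, map_one]) (by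
      rintro _ ⟨e, he, rfl⟩ e1 _ ⟨⟨s, -, rfl⟩, hs⟩ _ ⟨⟨t, -, rfl⟩, ht⟩ h1 h2
      rw [orderOf_injective i h.inj_i] at h1 h2
      exact congrArg i (hfix e he (fun e2 => e1 (e2 ▸ map_one j)) s t h1 h2 (h.mem_centralizer_singleton_iff.1 hs)
        (h.mem_centralizer_singleton_iff.1 ht)))
  rw [h.card_map_i, card_top] at h2 h3
  obtain ⟨V, _, _, _, M, m, hN, hm⟩ := PGrp.IsExtraspecial.exists_cExt h4.isExtraspecial
  let e := (topEquiv.symm.trans ((⊤ : Subgroup W).equivMapOfInjective i h.inj_i)).symm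
  haveI := Module.nontrivial_of_finrank_pos (R := ZMod 2) (M := V) (by omega)
  refine ⟨(h.card_map_j E).symm.trans h1, (M.congr e).isExtraspecial (M.congr_nondeg e hN), ?_, Set.ext fun x => ?_⟩
  · rw [(M.congr e).card_eq_pow, hm] at h2 h3 ⊢
    have := (Nat.pow_lt_pow_iff_right (a := 2) (n := 3) one_lt_two).1 h2
    have := (Nat.pow_le_pow_iff_right (a := 2) (m := 9) one_lt_two).1 h3
    obtain rfl | rfl | rfl : m = 1 ∨ m = 2 ∨ m = 3 := by omega
    all_goals simp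
  · have hx := mem_map_of_mem i (mem_top x)
    refine ⟨fun h6 => mem_center_iff.2 fun y => h.inj_i ?_, fun h6 => h.mem_centralizer_iff.1 (h5.ge (h4.mem_zp.2
      (h4.of_cen _ hx ?_))).2⟩
    · rcases h4.mem_zp.1 (h5.le ⟨hx, h.mem_centralizer_iff.2 h6⟩) with e | e <;> rw [map_mul, map_mul, e]
      exacts [by simp, h4.cen _ (mem_map_of_mem i (mem_top y))]
    · rintro _ ⟨y, -, rfl⟩
      rw [← map_mul, ← map_mul, mem_center_iff.1 h6]

end Cfsg.Agent.S2934
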