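import Cfsg.Statements.S2937
import Cfsg.Agent.Lib.Stein.Exc
import Cfsg.Agent.Lib.Layer.FStar

set_option autoImplicit false
open Cfsg

namespace Cfsg.Agent.S2937
open Cfsg.Lib Cfsg.Lib.Stein

/-- Let X be a finite p-minimal group whose generalized Fitting subgroup K = F*(X) is a simple group of Lie type in characteristic p, and let U be a Sylow p-subgroup of K. Then N_X(U) is a maximal subgroup of X, and either K has Lie rank one (K ≅ PSL₂(pᵉ), PSU₃(pᵉ), a Suzuki group for p = 2, or a Ree group or PSL₂(8) for p = 3), or p = 2, K ≠ X and K is isomorphic to PSL₃(2ᵉ) or to PSp₄(2ᵉ) (e ≥ 2) or to the alternating group of degree 6. -/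
theorem result {X : Type*} [Group X] [Finite X] {p : ℕ} [Fact p.Prime] (hX : Cfsg.IsPMinimal p X) (hK : Cfsg.IsChevSimple p ↥(Cfsg.generalizedFittingSubgroup X)) (U : Sylow p ↥(Cfsg.generalizedFittingSubgroup X)) : IsCoatom (Subgroup.normalizer (((U : Subgroup ↥(Cfsg.generalizedFittingSubgroup X)).map (Cfsg.generalizedFittingSubgroup X).subtype : Subgroup X) : Set X)) ∧ (Cfsg.IsLieRankOneChar p ↥(Cfsg.generalizedFittingSubgroup X) ∨ (p = 2 ∧ Cfsg.generalizedFittingSubgroup X ≠ ⊤ ∧ ((∃ (F : Type) (_ : Field F) (_ : Fintype F) (_ : CharP F 2), Nonempty (↥(Cfsg.generalizedFittingSubgroup X) ≃* Matrix.ProjectiveSpecialLinearGroup (Fin 3) F)) ∨ (∃ (F : Type) (_ : Field F) (_ : Fintype F) (_ : CharP F 2), 4 ≤ Fintype.card F ∧ Nonempty (↥(Cfsg.generalizedFittingSubgroup X) ≃* Cfsg.PSp 2 F)) ∨ Nonempty (↥(Cfsg.generalizedFittingSubgroup X) ≃* ↥(alternatingGroup (Fin 6)))))) := by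
  generalize hF : generalizedFittingSubgroup X = K at *
  have : K.Normal := hF ▸ Layer.fstar_normal
  obtain h | ⟨rfl, h⟩ | ⟨rfl, F, _, _, hF, ⟨e⟩⟩ := hK
  · have := (model_of_lie h).1
    obtain ⟨P, h1⟩ := exists_dat_sylow h U
    obtain ⟨s, hs⟩ := h1.ne
    obtain ⟨L, A, h2, h3, h4⟩ := exists_PM hX U (h1.toSplit.ne_bot h1.ne) fun e => BN.not_mem_B P hs (h1.le (e ▸ trivial))
    obtain ⟨h5, h6⟩ := h1.trans_of_PM h2
    refine ⟨h3 h5, (h1.rk.resolve_left (by have := h1.card_le_of_PM h2; omega)).imp_right fun ⟨h7, h8⟩ => ?_⟩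
    have := Finite.one_lt_card_iff_nontrivial.1 h7
    have h9 := h1.eq_two_of_PM h2
    refine ⟨h9, fun e => not_subsingleton _ (h1.subsingleton_of_PM h2 (h4 e)), ((h8 h9).resolve_left fun h => ?_).imp_right .inl⟩
    obtain ⟨s, t, h⟩ := nt_iff.1 h
    obtain ⟨α, hα, e⟩ := h6 s t
    exact h α (h2.stab α hα) e
  · obtain ⟨Γ, _, _, P, V, K', ι, a, b, c, d, e, h⟩ := exists_ext h U
    have := a.simple
    have := ((MonoidHom.ofInjective c).trans (.subgroupCongr d)).isSimpleGroup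
    obtain ⟨s, hs⟩ := a.ne
    obtain ⟨L, A, h2, h3, h4⟩ := exists_PM hX U (fun h => a.rad_ne_bot c d ⟨s, hs⟩ (eq_bot_iff.2 (h ▸ e ▸ Subgroup.comap_mono inf_le_left)))
      fun h => a.not_le c d ⟨s, hs⟩ (e.trans h ▸ le_top)
    rw [← e] at h2 h4
    obtain ⟨h5, h6⟩ := a.of_PM c d b h2
    refine ⟨h3 ((e ▸ h5).trans Subgroup.le_normalizer), .inr ⟨rfl, fun h7 => ?_, .inr (.inr (h.resolve_right fun h => a.not_PM' b h c d h2))⟩⟩
    obtain ⟨α, hα, t, h8, h9⟩ := h6 ⟨s, hs⟩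
    have h10 := h4 h7 _ (Subgroup.comap_mono (a.le.trans (B_le_par {⟨s, hs⟩}))) α hα
    exact a.ne_top c d t (a.eq_top_of c d h8 (fun g hg => by simpa using (h9 (α.symm g)).2 (h10.symm g |>.2 hg)) le_rfl)
  · obtain ⟨_, a, b, c⟩ := le_normalizer_L8 hF e U
    obtain ⟨L, A, h2, h3, -⟩ := exists_PM hX U (fun h => by simp [h] at a) fun h => by simp [h, b] at a
    exact ⟨h3 ((c L (Subgroup.le_normalizer.trans h2.le)).resolve_left h2.ne), .inl (.inr (.inr (.inr ⟨rfl, .inr ⟨F, _, _, hF, ⟨e⟩⟩⟩)))⟩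

end Cfsg.Agent.S2937
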