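import Cfsg.Statements.S2939
import Cfsg.Agent.Lib.Amalg.SylowControl

set_option autoImplicit false
open Cfsg

namespace Cfsg.Agent.S2939

open Subgroup Cfsg.Lib.Amalg
open Cfsg.Lib.Core hiding isPGroup_subgroupOf isPGroup_subgroupOf_iff isPGroup_map_subtype_iff isPGroup_zpowers_of_orderOf
open scoped commutatorElement

theorem conjRight_subset {G : Type*} [Group G] {g : G} {A : Set G} {K : Subgroup G} :
    conjRight g A ⊆ K ↔ A ⊆ cj g K := by
  simp only [conjRight, Set.image_subset_iff]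
  exact forall₂_congr fun x _ => mem_cj.symm

/-- Let p be a prime dividing the order of the finite group G and 𝓕 a family of subgroups of G closed under conjugation, with conjugates taken as X^g = g⁻¹Xg. Then 𝓕 controls Sylow p-intersections in G (any two distinct Sylow p-subgroups S and T with S ∩ T ≠ 1 are joined by a chain S = S₀, S₁, …, Sₙ = T of Sylow p-subgroups where, for each i, some member Xᵢ of 𝓕 meets both S_{i-1} and Sᵢ in Sylow p-subgroups of Xᵢ, satisfies S ∩ T ≤ Sᵢ ∩ Xᵢ, and contains an element xᵢ with Sᵢ^{xᵢ} = S_{i-1}) if and only if 𝓕 strongly controls p-fusion in G (whenever A is a subset of a Sylow p-subgroup S, A contains an element other than 1, and A^g ⊆ S, the element g factorises as g = y₁⋯yₙy with y ∈ N_G(S) and each yᵢ in a member Yᵢ of 𝓕 that meets S in a Sylow p-subgroup of Yᵢ, with A^{y₁⋯yᵢ} ⊆ S ∩ Yᵢ for each i). -/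
theorem result {G : Type*} [Group G] [Finite G] {p : ℕ} [Fact p.Prime] (hdiv : p ∣ Nat.card G) (𝓕 : Set (Subgroup G)) (h𝓕 : Cfsg.IsNormalSet 𝓕) : Cfsg.ControlsSylowIntersections p 𝓕 ↔ Cfsg.FamilyStronglyControlsFusion p 𝓕 := by
  rw [← ctrl_top_iff]
  constructor
  · intro h S A g hA ⟨a, ha, ha1⟩ hg
    replace hg := (conjRight_subset (K := (S : Subgroup G))).1 hg
    have h1 := h S (cj g S) (syl_top S) ((syl_top S).conj_top g)
      (ne_bot_iff_exists.2 ⟨a, ⟨hA ha, hg ha⟩, ha1⟩)
    let r : G → G → Prop := fun z z' => ∃ Y ∈ sylowMembers p 𝓕 (S : Subgroup G), z⁻¹ * z' ∈ Y ∧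
      conjRight z' A ⊆ (S : Set G) ∩ (Y : Set G)
    have h2 : ∀ B, Relation.ReflTransGen (Step p 𝓕 ((S : Subgroup G) ⊓ cj g S)) S B →
        ∃ z, cj z (S : Subgroup G) = B ∧ Relation.ReflTransGen r 1 z := by
      intro B hB
      induction hB with
      | refl => exact ⟨1, cj_one _, .refl⟩
      | tail _ hs ih =>
        obtain ⟨z, rfl, ih⟩ := ih
        obtain ⟨b1, X, b2, b3, b4, x, hx, rfl⟩ := hs
        refine ⟨x * z, cj_mul _ _ _, ih.tail ⟨cj z⁻¹ X, mem_sylowMembers.2
          ⟨normalSet_cj h𝓕 b2 _, by have := b4.conj z⁻¹; rwa [cj_inf, cj_inv_cj] at this⟩,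
          by simpa [mul_assoc] using conj_mem_cj z⁻¹ hx, Set.subset_inter ?_ ?_⟩⟩
        · exact (conjRight_subset (K := (S : Subgroup G))).2 fun y hy => cj_mul x z (S : Subgroup G) ▸ b1 ⟨hA hy, hg hy⟩
        · refine conjRight_subset.2 fun y hy => ?_
          rw [← cj_mul, mul_inv_cancel_right, cj_of_mem hx]
          exact b3 ⟨hA hy, hg hy⟩
    obtain ⟨z, e, h3⟩ := h2 _ h1
    obtain ⟨n, c, a1, a2, a3⟩ := reflTransGen_iff_fin.1 h3
    choose Y b1 b2 b3 using a3
    have h4 : ∀ i, Fin.partialProd (fun i : Fin n => (c i.castSucc)⁻¹ * c i.succ) i = c i := by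
      intro i
      induction i using Fin.induction with
      | zero => rw [Fin.partialProd_zero, a1]
      | succ i ih => rw [Fin.partialProd_succ, ih, mul_inv_cancel_left]
    refine ⟨n, Y, fun i => (c i.castSucc)⁻¹ * c i.succ, z⁻¹ * g, ?_, fun i => ⟨b1 i, b2 i⟩, ?_,
      fun i => ?_⟩
    · rw [← cj_eq_self_iff, cj_mul, ← e, cj_inv_cj]
    · have := h4 (Fin.last n)
      rw [Fin.partialProd, List.take_of_length_le (by simp), a2] at this
      rw [this, mul_inv_cancel_left]
    · have := h4 i.succ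
      rw [Fin.partialProd, Fin.val_succ] at this
      rw [this]; exact b3 i
  · intro h S T hS hT hne
    obtain ⟨g, -, rfl⟩ := hS.exists_conj hT
    obtain ⟨S, rfl⟩ := syl_top_iff.1 hS
    obtain ⟨n, Y, y, y₀, a1, a2, a3, a4⟩ := h S ((S : Subgroup G) ⊓ cj g S : Subgroup G) g
      (fun x hx => hx.1) (ne_bot_iff_exists.1 hne) ((conjRight_subset (K := (S : Subgroup G))).2 fun x hx => hx.2)
    refine reflTransGen_iff_fin.2 ⟨n, fun i => cj (Fin.partialProd y i) (S : Subgroup G),
      by simp only [Fin.partialProd_zero, cj_one], ?_, fun i => ?_⟩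
    · simp only [Fin.partialProd]
      rw [List.take_of_length_le (by simp), a3, cj_mul, cj_of_mem_normalizer a1]
    · have b1 := a4 i
      rw [← Fin.val_succ, ← Fin.partialProd, Set.subset_inter_iff] at b1
      have b2 := (conjRight_subset (K := (S : Subgroup G))).1 b1.1
      have b3 := conjRight_subset.1 b1.2
      rw [Fin.partialProd_succ, cj_mul, cj_of_mem (a2 i).2] at b3
      obtain ⟨c1, c2⟩ := mem_sylowMembers.1 (a2 i).1
      refine ⟨b2, _, normalSet_cj h𝓕 c1 _, b3, by rw [← cj_inf]; exact c2.conj _, _,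
        conj_mem_cj _ (a2 i).2, ?_⟩
      simp only [Fin.partialProd_succ]
      rw [← cj_mul, inv_mul_cancel_right]

end Cfsg.Agent.S2939
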