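import Cfsg.Statements.S2946
import Cfsg.Agent.Lib.Amalg.JComp

set_option autoImplicit false
open Cfsg

namespace Cfsg.Agent.S2946

open Subgroup Cfsg.Lib.Amalg
open Cfsg.Lib.Core hiding isPGroup_subgroupOf isPGroup_subgroupOf_iff isPGroup_map_subtype_iff isPGroup_zpowers_of_orderOf
open scoped commutatorElement

theorem om_eq {G : Type*} [Group G] (X : Subgroup G) : omegaCenterOf X = omegaOneCenter 2 X := by
  unfold omegaCenterOf omegaOneCenter; rfl

/-- Let G be a finite group of characteristic 2 type in which every 2-local subgroup is solvable and the centralizer of Ω₁(Z(S)) lies in N_G(S) for every Sylow 2-subgroup S, and let T be a nontrivial 2-subgroup (below, J is the Thompson subgroup generated by the elementary abelian 2-subgroups of largest order), K a J(T)-component and Z₀ = Ω₁(Z(J(T))). Then Z₀ meets W_K = [Ω₁(Z(O₂(K))), K] in a subgroup of order 2, and Z₀ is the product of Z₀ ∩ Z(⟨K, J(T)⟩) and Z₀ ∩ W_K. -/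
theorem result {G : Type*} [Group G] [Finite G] (hL : Cfsg.IsCharacteristicTwoType G) (hN : ∀ N : Subgroup G, Cfsg.IsTwoLocal N → Group.IsSolvable ↥N)
    (hZ : ∀ S : Sylow 2 G, Subgroup.centralizer (Cfsg.omegaCenterOf (S : Subgroup G) : Set G) ≤ Subgroup.normalizer ((S : Subgroup G) : Set G)) (T : Subgroup G) (hT : IsPGroup 2 ↥T) (hT1 : T ≠ ⊥) (K : Subgroup G) (hK : Cfsg.IsJComponent T K)
    (Z₀ : Subgroup G) (hZ₀ : Z₀ = Cfsg.omegaCenterOf (Cfsg.thompsonSubgroupOf 2 T)) :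
    Nat.card ↥(Z₀ ⊓ Cfsg.wOf K) = 2 ∧
      (Z₀ ⊓ ((K ⊔ Cfsg.thompsonSubgroupOf 2 T) ⊓ Subgroup.centralizer ((K ⊔ Cfsg.thompsonSubgroupOf 2 T) : Set G))) ⊔ (Z₀ ⊓ Cfsg.wOf K) = Z₀ := by
  rw [om_eq] at hZ₀
  have h := JC.cmp_iff.1 hK
  have hJ : IsPGroup 2 (thompsonSubgroupOf 2 T) := hT.to_le (Lib.Transfer.thompsonOf_le T)
  generalize thompsonSubgroupOf 2 T = J at *
  have h1 := h.card_om_inf_W hJ
  have h2 := h.om_le hJ
  have h3 := omZ_le (p := 2) J
  rw [← hZ₀] at h1 h2 h3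
  refine ⟨h1, le_antisymm (sup_le inf_le_left inf_le_left) (h2.trans ?_)⟩
  refine sup_le_sup_right (le_inf inf_le_left (le_inf ?_ (inf_le_right.trans (centralizer_le ?_)))) _
  · exact inf_le_left.trans (h3.trans le_sup_right)
  · exact sup_le (le_sup_left : K ≤ K ⊔ J) (le_sup_right : J ≤ K ⊔ J)

end Cfsg.Agent.S2946
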