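import Cfsg.Statements.S2955
import Cfsg.Agent.Lib.Amalg.SylowControl

set_option autoImplicit false
open Cfsg

namespace Cfsg.Agent.S2955

open Subgroup Cfsg.Lib.Amalg
open Cfsg.Lib.Core hiding isPGroup_subgroupOf isPGroup_subgroupOf_iff isPGroup_map_subtype_iff isPGroup_zpowers_of_orderOf
open scoped commutatorElement

/-- Let p be a prime dividing the order of the finite group G and 𝓕 a conjugation-closed family of subgroups that controls Sylow p-intersections in G. Suppose the Sylow p-subgroups of G are chain-connected: any two of them are joined by a chain of Sylow p-subgroups, consecutive ones distinct with nontrivial intersection, all containing the intersection of the two ends (equivalently, the graph on the Sylow p-subgroups whose edges are the distinct pairs meeting nontrivially is connected). Then for every Sylow p-subgroup S, G is generated by N_G(S) together with the members of 𝓕 that meet S in a Sylow p-subgroup of themselves. -/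
theorem result {G : Type*} [Group G] [Finite G] (p : ℕ) [Fact p.Prime] (hdiv : p ∣ Nat.card G)
    (𝓕 : Set (Subgroup G)) (h𝓕 : Cfsg.IsNormalSet 𝓕) (hc : Cfsg.ControlsSylowIntersections p 𝓕)
    (hconn : Cfsg.IsSylowChainConnected p G) (S : Sylow p G) :
    (⨆ X ∈ Cfsg.sylowMembers p 𝓕 (S : Subgroup G), X) ⊔ Subgroup.normalizer ((S : Subgroup G) : Set G) = ⊤ := by
  set K := (⨆ X ∈ sylowMembers p 𝓕 (S : Subgroup G), X) ⊔ 𝐍 (S : Subgroup G) with hK
  have k1 : ∀ {D A B : Subgroup G}, Relation.ReflTransGen (Step p 𝓕 D) A B →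
      (∃ k ∈ K, cj k (S : Subgroup G) = A) → ∃ k ∈ K, cj k (S : Subgroup G) = B := by
    intro D A B h hA
    induction h with
    | refl => exact hA
    | tail _ hs ih =>
      obtain ⟨k, hk, rfl⟩ := ih
      obtain ⟨-, X, b, -, d, x, hx, rfl⟩ := hs
      have h1 : cj k⁻¹ X ∈ sylowMembers p 𝓕 (S : Subgroup G) := mem_sylowMembers.2
        ⟨normalSet_cj h𝓕 b _, by have := d.conj k⁻¹; rwa [cj_inf, cj_inv_cj] at this⟩
      have h2 : k⁻¹ * x * k⁻¹⁻¹ ∈ K :=
        mem_sup_left (le_iSup₂ (f := fun X (_ : X ∈ sylowMembers p 𝓕 (S : Subgroup G)) => X) _ h1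
          (conj_mem_cj k⁻¹ hx))
      refine ⟨k * (k⁻¹ * x * k⁻¹⁻¹), mul_mem hk h2, ?_⟩
      rw [← cj_mul]; congr 3; group
  rw [eq_top_iff]
  intro g _
  obtain ⟨n, c, a1, a2, -, a3⟩ := hconn S (g • S)
  have k2 : ∀ i, ∃ k ∈ K, cj k (S : Subgroup G) = c i := by
    intro i
    induction i using Fin.induction with
    | zero => exact ⟨1, one_mem _, by rw [cj_one, a1]⟩
    | succ i ih => exact k1 (ctrl_top_iff.2 hc _ _ (syl_top _) (syl_top _) (a3 i).2) ih
  obtain ⟨k, hk, e⟩ := k2 (Fin.last n)
  rw [a2, coe_smul_sylow, eq_comm, cj_eq_iff, ← cj_mul, eq_comm, cj_eq_self_iff] at e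
  exact inv_mem_iff.1 ((mul_mem_cancel_right hk).1 (mem_sup_right e))

end Cfsg.Agent.S2955
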