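import Cfsg.Statements.S2956
import Cfsg.Agent.Lib.Amalg.SylowControl

set_option autoImplicit false
open Cfsg

namespace Cfsg.Agent.S2956

open Subgroup Cfsg.Lib.Amalg
open Cfsg.Lib.Core hiding isPGroup_subgroupOf isPGroup_subgroupOf_iff isPGroup_map_subtype_iff isPGroup_zpowers_of_orderOf
open scoped commutatorElement

/-- Let p be a prime dividing the order of the finite group G, and f an assignment to every p-subgroup P of a set f(P) of subgroups of P, each normalized by N_G(P), compatible with conjugation, such that for P ≠ 1 the members of f(P) are nontrivial. Let 𝓕 be the family of the normalizers N_G(F) of the members F of f(S) over the Sylow p-subgroups S of G, and 𝓕' the family of the maximal p-local subgroups M of G that are singular for f (the corresponding family of normalizers inside M does not control Sylow p-intersections in M). Then 𝓕 ∪ 𝓕' controls Sylow p-intersections in G. -/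
theorem result {G : Type*} [Group G] [Finite G] (p : ℕ) [Fact p.Prime] (hdiv : p ∣ Nat.card G)
    (f : Subgroup G → Set (Subgroup G)) (hf : Cfsg.IsNormalizerFunctor p f)
    (hf1 : ∀ P : Subgroup G, IsPGroup p ↥P → P ≠ ⊥ → ∀ F ∈ f P, F ≠ ⊥)
    (𝓕 𝓕' : Set (Subgroup G)) (h𝓕 : 𝓕 = Cfsg.functorFamily p f ⊤)
    (h𝓕' : 𝓕' = {M | Cfsg.IsMaximalPLocal p M ∧ ¬ Cfsg.IsFunctorRegular p f M}) :
    Cfsg.ControlsSylowIntersections p (𝓕 ∪ 𝓕') := by
  subst h𝓕 h𝓕'
  set 𝓖 := functorFamily p f ⊤ ∪ {M | IsMaximalPLocal p M ∧ ¬ IsFunctorRegular p f M} with h𝓖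
  rw [← ctrl_top_iff]
  suffices key : ∀ (n : ℕ) (S T : Subgroup G), Syl p S ⊤ → Syl p T ⊤ → S ⊓ T ≠ ⊥ →
      (S ⊓ T).index = n → Relation.ReflTransGen (Step p 𝓖 (S ⊓ T)) S T from
    fun S T a b c => key _ S T a b c rfl
  intro n
  induction n using Nat.strong_induction_on with
  | _ n ih =>
  intro S T hS hT hne hn
  by_cases hST : S = T
  · rw [hST]
  have hDS : S ⊓ T < S := lt_of_le_of_ne inf_le_left fun e =>
    hST (hS.eq_of_le T (inf_eq_left.1 e) le_top hT.isPGroup).symm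
  have hDT : S ⊓ T < T := lt_of_le_of_ne inf_le_right fun e =>
    hST (hT.eq_of_le S (inf_eq_right.1 e) le_top hS.isPGroup)
  have hD : IsPGroup p (S ⊓ T : Subgroup G) := hS.isPGroup.to_le inf_le_left
  generalize S ⊓ T = D at hne hn hDS hDT hD
  have ih' : ∀ A B Q, Syl p A ⊤ → Syl p B ⊤ → D < Q → Q ≤ A → Q ≤ B →
      Relation.ReflTransGen (Step p 𝓖 D) A B := by
    intro A B Q hA hB h1 h2 h3
    have h4 : D < A ⊓ B := h1.trans_le (le_inf h2 h3)
    exact Relation.ReflTransGen.mono (fun A B h => Step.mono h le_rfl h4.le) _ _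
      (ih _ (hn ▸ index_strictAnti h4) A B hA hB (ne_bot_of_gt h4) rfl)
  have inner : ∀ (m : ℕ) (L P : Subgroup G), IsPLocal p L → Syl p P L → P.index = m →
      ∀ Q₁ Q₂ A B, D < Q₁ → D < Q₂ → Q₁ ≤ L → Q₂ ≤ L → Syl p A ⊤ → Syl p B ⊤ → Q₁ ≤ A → Q₂ ≤ B →
      Relation.ReflTransGen (Step p 𝓖 D) A B := by
    intro m
    induction m using Nat.strong_induction_on with
    | _ m ihm =>
    intro L P hL hP hm Q₁ Q₂ A B q1 q2 q3 q4 hA hB q5 q6
    obtain ⟨M, hLM, hM, hmax⟩ := exists_maximal_ge (IsPLocal p) hL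
    obtain ⟨P₁, a1, a2⟩ := exists_syl_ge (hA.isPGroup.to_le q5) (q3.trans hLM)
    obtain ⟨P₂, b1, b2⟩ := exists_syl_ge (hB.isPGroup.to_le q6) (q4.trans hLM)
    obtain ⟨A₁, a3, a4⟩ := exists_syl_ge a1.isPGroup le_top
    refine (ih' A A₁ Q₁ hA a3 q1 q5 (a2.trans a4)).trans ?_
    by_cases hr : IsFunctorRegular p f M
    swap
    · obtain ⟨x, hx, rfl⟩ := a1.exists_conj b1
      refine .head ⟨q2.le.trans (b2.trans (cj_mono x a4)), M, Or.inr ⟨⟨hM, hmax⟩, hr⟩,
        q1.le.trans (q3.trans hLM), ?_, x, hx, rfl⟩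
        (ih' _ B Q₂ (a3.conj_top x) hB q2 (b2.trans (cj_mono x a4)) q6)
      rwa [a1.eq_of_le _ (le_inf a4 a1.le) inf_le_right (a3.isPGroup.to_le inf_le_left)]
    rw [functorRegular_iff] at hr
    have hD12 : D ≤ P₁ ⊓ P₂ := le_inf (q1.le.trans a2) (q2.le.trans b2)
    have hne' : P₁ ⊓ P₂ ≠ ⊥ := fun e => hne (eq_bot_iff.2 (e ▸ hD12))
    by_cases hs : Syl p P₁ ⊤
    · rw [hs.eq_of_le A₁ a4 le_top a3.isPGroup]
      exact (Relation.ReflTransGen.mono (fun A B h => Step.mono h Set.subset_union_left hD12) _ _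
        (hr.lift_top hf hs a1.le a1 b1 hne')).trans
        (ih' _ B Q₂ (hs.of_contains a1.le le_top b1) hB q2 b2 q6)
    have h1 := hr P₁ P₂ a1 b1 hne'
    have hlt : ∀ C, Syl p C M → D ≤ C → D < C := fun C c1 c2 => lt_of_le_of_ne c2 fun e =>
      (card_lt_of_lt (q1.trans_le a2)).ne (by rw [e, c1.card_eq a1])
    have h2 : ∀ C, Relation.ReflTransGen (Step p (functorFamily p f M) (P₁ ⊓ P₂)) P₁ C →
        Syl p C M ∧ D ≤ C ∧ ∀ B, Syl p B ⊤ → C ≤ B → Relation.ReflTransGen (Step p 𝓖 D) A₁ B := by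
      intro C hC
      induction hC with
      | refl => exact ⟨a1, q1.le.trans a2, fun B c1 c2 => ih' _ _ P₁ a3 c1 (q1.trans_le a2) a4 c2⟩
      | @tail C C' _ hs' ihC =>
        obtain ⟨c1, c2, R, c3, F, c4, c5, x, c6, rfl⟩ := hs'.functor hf ihC.1
        refine ⟨c1, hD12.trans c2, fun B d1 d2 => ?_⟩
        obtain ⟨C₁, e1, e2⟩ := exists_syl_ge ihC.1.isPGroup le_top
        refine (ihC.2.2 C₁ e1 e2).trans ?_
        have hR : R ≠ ⊥ := fun e => hne' (eq_bot_iff.2 (inf_le_left.trans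
          (a1.eq_bot_iff.2 (c3.eq_bot_iff.1 e)).le))
        obtain ⟨f1, f2⟩ := (hf R c3.isPGroup).1 F c4
        have hRs : ¬ Syl p R ⊤ := fun h => hs (h.of_contains c3.le le_top a1)
        obtain ⟨U, u1, u2⟩ := exists_syl_ge c3.isPGroup (le_normalizer.trans f2)
        have hRU : R < U := lt_of_le_of_ne u2 fun e => hRs (syl_of_syl_normalizer
          ((e ▸ u1).of_le (le_inf le_top le_normalizer) (inf_le_right.trans f2)))
        refine ihm _ ?_ (𝐍 F) U ⟨F, c3.isPGroup.to_le f1, hf1 R c3.isPGroup hR F c4, rfl⟩ u1 rfl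
          C (cj x C) C₁ B (hlt _ ihC.1 ihC.2.1) (hlt _ c1 (hD12.trans c2)) c5
          (cj_le_of_le_of_mem c5 c6) e1 d1 e2 d2
        obtain ⟨g, -, hg⟩ := c3.exists_conj_le hP.isPGroup (hP.le.trans hLM)
        rw [← hm, ← index_cj g P]
        exact index_strictAnti (hg.trans_lt hRU)
    obtain ⟨B₁, b3, b4⟩ := exists_syl_ge b1.isPGroup le_top
    exact ((h2 _ h1).2.2 B₁ b3 b4).trans (ih' _ B Q₂ b3 hB q2 (b2.trans b4) q6)
  obtain ⟨P, hP⟩ := exists_syl p (𝐍 D)
  exact inner _ (𝐍 D) P ⟨D, hD, hne, rfl⟩ hP rfl _ _ S T (lt_inf_normalizer_of_lt hS.isPGroup hDS)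
    (lt_inf_normalizer_of_lt hT.isPGroup hDT) inf_le_right inf_le_right hS hT inf_le_left inf_le_left

end Cfsg.Agent.S2956
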