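import Cfsg.Statements.S2957
import Cfsg.Agent.Lib.Amalg.SylowControl

set_option autoImplicit false
open Cfsg

namespace Cfsg.Agent.S2957

open Subgroup Cfsg.Lib.Amalg
open Cfsg.Lib.Core hiding isPGroup_subgroupOf isPGroup_subgroupOf_iff isPGroup_map_subtype_iff isPGroup_zpowers_of_orderOf
open scoped commutatorElement

/-- Let p be a prime dividing the order of the finite group G, f an equivariant assignment of a set of subgroups f(P) of P to every p-subgroup P, each normalized by N_G(P), and S a Sylow p-subgroup. If G = G₁G₂ for subgroups G₁, G₂ both containing S and both regular for f (in each Gᵢ, the family of normalizers in Gᵢ of the members of f(P), P a Sylow p-subgroup of Gᵢ, controls Sylow p-intersections), then G itself is regular for f. -/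
theorem result {G : Type*} [Group G] [Finite G] (p : ℕ) [Fact p.Prime] (hdiv : p ∣ Nat.card G)
    (f : Subgroup G → Set (Subgroup G)) (hf : Cfsg.IsNormalizerFunctor p f) (S : Sylow p G)
    (G₁ G₂ : Subgroup G) (h₁ : (S : Subgroup G) ≤ G₁) (h₂ : (S : Subgroup G) ≤ G₂)
    (hprod : ∀ g : G, ∃ g₁ ∈ G₁, ∃ g₂ ∈ G₂, g = g₁ * g₂)
    (hr₁ : Cfsg.IsFunctorRegular p f G₁) (hr₂ : Cfsg.IsFunctorRegular p f G₂) :
    Cfsg.IsFunctorRegular p f ⊤ := by
  rw [functorRegular_iff] at hr₁ hr₂ ⊢
  have hS := syl_top S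
  have hN := normalSet_functorFamily hf
  have key : ∀ g : G, (S : Subgroup G) ⊓ cj g S ≠ ⊥ →
      Relation.ReflTransGen (Step p (functorFamily p f ⊤) ((S : Subgroup G) ⊓ cj g S)) S (cj g S) := by
    intro g hne
    obtain ⟨U, u1, u2, u3⟩ := exists_syl_between hS h₁ h₂ hprod g
    have a1 := hr₁.lift_top hf hS h₁ (hS.of_le h₁ le_top) (u1.of_le (u3.trans inf_le_left) le_top)
      fun e => hne (eq_bot_iff.2 (e ▸ le_inf inf_le_left u2))
    have hD : (S : Subgroup G) ⊓ cj g S ≤ cj g (cj g⁻¹ U ⊓ S) := by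
      rw [cj_inf, cj_cj_inv]; exact le_inf u2 inf_le_right
    have a2 := hr₂.lift_top hf hS h₂ ((u1.conj_top g⁻¹).of_le (le_cj_iff.1 (u3.trans inf_le_right))
      le_top) (hS.of_le h₂ le_top) fun e => hne (eq_bot_iff.2 (by rwa [e, cj_bot] at hD))
    have a3 := a2.lift (fun A => cj g A) fun A B h => (h.conj hN g).mono le_rfl hD
    simp only [Function.onFun, cj_cj_inv] at a3
    exact (Relation.ReflTransGen.mono (fun A B h => Step.mono h le_rfl (le_inf inf_le_left u2))
      _ _ a1).trans a3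
  intro A B hA hB hne
  obtain ⟨a, -, rfl⟩ := hS.exists_conj hA
  obtain ⟨b, -, rfl⟩ := hS.exists_conj hB
  have e : cj b (S : Subgroup G) = cj a (cj (a⁻¹ * b) (S : Subgroup G)) := by
    rw [← cj_mul, mul_inv_cancel_left]
  rw [e, ← cj_inf] at hne ⊢
  exact (key _ fun e => hne (by rw [e, cj_bot])).lift (fun A => cj a A) fun A B h => h.conj hN a

end Cfsg.Agent.S2957
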