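import Cfsg.Statements.S2958
import Cfsg.Agent.Lib.Amalg.Ops

set_option autoImplicit false
open Cfsg

namespace Cfsg.Agent.S2958

open Subgroup Cfsg.Lib.Amalg
open Cfsg.Lib.Core hiding isPGroup_subgroupOf isPGroup_subgroupOf_iff isPGroup_map_subtype_iff isPGroup_zpowers_of_orderOf
open scoped commutatorElement

/-- Let X, A, B be subgroups of a group G such that G is generated by the conjugates of X and every conjugate of X is contained in A or in B. Then A = G or B = G. -/
theorem result {G : Type*} [Group G] (X A B : Subgroup G) (hgen : (⨆ g : G, X.map (MulAut.conj g).toMonoidHom) = ⊤) (hcover : ∀ g : G, X.map (MulAut.conj g).toMonoidHom ≤ A ∨ X.map (MulAut.conj g).toMonoidHom ≤ B) : A = ⊤ ∨ B = ⊤ := by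
  by_contra hne
  push Not at hne
  obtain ⟨hA, hB⟩ := hne
  -- conjugates not in `A` lie in `B`; let `D` be generated by those
  set D : Subgroup G := ⨆ g : {g : G // ¬ cj g X ≤ A}, cj (g : G) X with hD
  have hDB : D ≤ B := iSup_le fun g => (hcover g).resolve_left g.2
  have hAD : A ≤ 𝐍 D := by
    refine le_normalizer_of_cj_le fun a ha => ?_
    rw [hD, cj_iSup]
    refine iSup_le fun g => ?_
    rw [← cj_mul]
    refine le_iSup (fun g : {g : G // ¬ cj g X ≤ A} => cj (g : G) X) ⟨a * g, fun h => g.2 ?_⟩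
    rw [cj_mul, cj_le_iff, cj_of_mem (A.inv_mem ha)] at h
    exact h
  have hAD' : A ⊔ D = ⊤ := by
    rw [eq_top_iff, ← hgen]
    refine iSup_le fun g => ?_
    by_cases h : cj g X ≤ A
    · exact h.trans le_sup_left
    · exact (le_iSup (fun g : {g : G // ¬ cj g X ≤ A} => cj (g : G) X) ⟨g, h⟩).trans le_sup_right
  haveI : D.Normal := normal_of_top_le_normalizer (hAD' ▸ sup_le hAD le_normalizer)
  by_cases h : ∀ g : G, cj g X ≤ A
  · exact hA (eq_top_iff.2 (hgen ▸ iSup_le h))
  push Not at h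
  obtain ⟨g, hg⟩ := h
  have h1 : cj g X ≤ D := le_iSup (fun g : {g : G // ¬ cj g X ≤ A} => cj (g : G) X) ⟨g, hg⟩
  refine hB (eq_top_iff.2 (hgen ▸ iSup_le fun k => le_trans ?_ hDB))
  have := cj_mono (k * g⁻¹) h1
  rwa [← cj_mul, inv_mul_cancel_right, cj_normal _ D] at this

end Cfsg.Agent.S2958
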