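import Cfsg.Statements.S2960
import Cfsg.Agent.Lib.Amalg.CharP

set_option autoImplicit false
open Cfsg

namespace Cfsg.Agent.S2960

open Subgroup Cfsg.Lib.Amalg
open Cfsg.Lib.Core hiding isPGroup_subgroupOf isPGroup_subgroupOf_iff isPGroup_map_subtype_iff isPGroup_zpowers_of_orderOf
open scoped commutatorElement

theorem aux {G : Type*} [Group G] [Finite G] {p : ℕ} [Fact p.Prime] (hG : 𝐂 (pCore p G) ≤ pCore p G)
    {T Q : Subgroup G} (hT : Syl p T ⊤) (hQT : Q ≤ T) (hQn : T ≤ 𝐍 Q) (hC : T ⊓ 𝐂 Q ≤ Q) :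
    𝐂 Q ≤ Q := by
  have hQ : IsPGroup p Q := hT.isPGroup.to_le hQT
  have h1 : Lib.Amalg.CharP p (𝐂 Q) := by simpa using (charP_top.2 hG).inf_cent hQ le_top
  have h2 : Syl p (T ⊓ 𝐂 Q) (𝐂 Q) :=
    (hT.of_le hQn le_top).inf_normal (cent_le_norm Q) (normalizer_le_normalizer_centralizer Q)
  exact (h1.le le_rfl (centralizer_anti (h2.op_le.trans hC))).trans (h2.op_le.trans hC)

/-- Let G be a finite group of characteristic p (C_G(O_p(G)) ≤ O_p(G)), p prime, T a Sylow p-subgroup of G and Q a normal subgroup of T with C_T(Q) ≤ Q. Then C_G(Q) ≤ Q. -/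
theorem result {G : Type*} [Group G] [Finite G] {p : ℕ} [Fact p.Prime] (hG : Subgroup.centralizer (Cfsg.pCore p G : Set G) ≤ Cfsg.pCore p G) (T : Sylow p G) (Q : Subgroup G) (hQT : Q ≤ (T : Subgroup G)) (hQn : (T : Subgroup G) ≤ Subgroup.normalizer (Q : Set G)) (hC : (T : Subgroup G) ⊓ Subgroup.centralizer (Q : Set G) ≤ Q) : Subgroup.centralizer (Q : Set G) ≤ Q := by
  exact aux hG (syl_top T) hQT hQn hC

end Cfsg.Agent.S2960
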