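import Cfsg.Statements.S2961
import Cfsg.Agent.Lib.Amalg.CharP
import Cfsg.Agent.S2960

set_option autoImplicit false
open Cfsg

namespace Cfsg.Agent.S2961

open Subgroup Cfsg.Lib.Amalg
open Cfsg.Lib.Core hiding isPGroup_subgroupOf isPGroup_subgroupOf_iff isPGroup_map_subtype_iff isPGroup_zpowers_of_orderOf
open scoped commutatorElement

/-- Let G be a finite group of characteristic p (C_G(O_p(G)) ≤ O_p(G)), p prime, T a Sylow p-subgroup of G and Q a normal subgroup of T with C_T(Q) ≤ Q. Then every subgroup L of G containing Q has characteristic p: C_L(O_p(L)) ≤ O_p(L). -/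
theorem result {G : Type*} [Group G] [Finite G] {p : ℕ} [Fact p.Prime] (hG : Subgroup.centralizer (Cfsg.pCore p G : Set G) ≤ Cfsg.pCore p G) (T : Sylow p G) (Q : Subgroup G) (hQT : Q ≤ (T : Subgroup G)) (hQn : (T : Subgroup G) ≤ Subgroup.normalizer (Q : Set G)) (hC : (T : Subgroup G) ⊓ Subgroup.centralizer (Q : Set G) ≤ Q) (L : Subgroup G) (hQL : Q ≤ L) : Subgroup.centralizer (Cfsg.pCore p ↥L : Set ↥L) ≤ Cfsg.pCore p ↥L := by
  have hCQ := S2960.result hG T Q hQT hQn hC
  have hT := syl_top T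
  have hQ : IsPGroup p Q := hT.isPGroup.to_le hQT
  have hM := isPGroup_pCore p G
  haveI := pCore_characteristic p G
  set M := pCore p G with hMd
  refine Lib.Amalg.charP_iff.1 (charP_of_forall fun A h1 h2 h3 => ?_)
  set Q' : Subgroup G := ⨆ g : L, cj (g : G) Q with hQ'
  have hML : M ⊓ L ≤ pCoreOf p L := pCore_inf_le_pCoreOf L
  have hQ'L : Q' ≤ L := iSup_cj_le hQL le_normalizer
  have hnML : L ≤ 𝐍 (M ⊓ L) := le_normalizer_inf le_normalizer_of_normal le_normalizer
  have h4 : ⁅Q', M⁆ ≤ M ⊓ L := by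
    refine comm_iSup_le (fun g => ?_) fun g => (cj_le_of_le_of_mem hQL g.2).trans hnML
    conv_lhs => rw [← cj_normal (g : G) M, ← cj_commutator]
    refine cj_le_of_le_of_mem_normalizer ?_ (hnML g.2)
    exact le_inf (comm_le_right le_normalizer_of_normal)
      ((comm_le_left (hT.pCore_le.trans hQn)).trans hQL)
  set D := L ⊓ 𝐂 (pCoreOf p L) with hD
  have hDn : L ≤ 𝐍 D := le_normalizer_inf le_normalizer (le_normalizer_centralizer (le_norm_op L))
  have h5 : IsPGroup p (Q' ⊓ D : Subgroup G) := isPGroup_of_forall_pPrime fun B b1 b2 => by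
    refine eq_bot_of_pPrime_le b2 hM (le_trans ?_ hG)
    refine le_cent_of_comm_le_cent b2 hM le_normalizer_of_normal ?_
    rw [commutator_comm]
    refine ((commutator_mono (b1.trans inf_le_left) le_rfl).trans (h4.trans hML)).trans ?_
    exact le_cent_symm (b1.trans (inf_le_right.trans inf_le_right))
  have h6 : Q' ⊓ D ≤ pCoreOf p L :=
    le_op (inf_le_left.trans hQ'L) (le_normalizer_inf (le_normalizer_iSup_cj Q L) hDn) h5
  have h7 : ⁅Q ⊔ pCoreOf p L, A⁆ ≤ pCoreOf p L := by
    refine comm_sup_le (le_trans ?_ h6) (comm_le_left (h1.trans (le_norm_op L)))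
      (hQL.trans (le_norm_op L)) le_normalizer
    refine (commutator_mono (le_iSup_cj Q L) (le_inf h1 h3)).trans ?_
    exact comm_le_inf (inf_le_left.trans (le_normalizer_iSup_cj Q L)) (hQ'L.trans hDn)
  have h8 : A ≤ 𝐂 (Q ⊔ pCoreOf p L) :=
    le_cent_of_comm_le_cent h2
      (isPGroup_sup_of_le_normalizer hQ (op_isPGroup L) (hQL.trans (le_norm_op L)))
      (le_normalizer_of_comm_le (h7.trans le_sup_right)) (h7.trans (le_cent_symm h3))
  exact eq_bot_of_pPrime_le h2 hQ ((h8.trans (centralizer_anti le_sup_left)).trans hCQ)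

end Cfsg.Agent.S2961
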