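import Cfsg.Statements.S2962
import Cfsg.Agent.Lib.Hall.TIHall
import Cfsg.Agent.Lib.Block.IsoElt

set_option autoImplicit false
open Cfsg

namespace Cfsg.Agent.S2962

open scoped Pointwise commutatorElement
open Cfsg.Lib Cfsg.Lib.Hall

open Cfsg.Lib.Core Cfsg.Lib.Coprime Subgroup
open scoped Pointwise commutatorElement

theorem cent {G : Type*} [Group G] [Finite G] {N Q : Subgroup G} (hQ : IsPGroup 2 Q) {t : G}
    (htQ : t ∈ ⁅Q, Q⁆) (hC : N ⊓ centralizer (Q : Set G) = N ⊓ centralizer ({t} : Set G))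
    (T : Subgroup G) (hT : IsPGroup 2 T) (hTN : T ≤ N) (hn : Q ≤ normalizer (T : Set G)) :
    T ≤ centralizer (Q : Set G) := by
  induction T using WellFoundedLT.induction with
  | ind T ih =>
  by_cases h0 : T = ⊥
  · exact h0 ▸ bot_le
  have h1 := commutator_lt_of_isPGroup hT hQ hn h0
  have h2 := ih _ h1 (hT.to_le h1.le) (h1.le.trans hTN) (normalizer_commutator_ge_right T Q)
  rw [← commutator_eq_bot_iff_le_centralizer] at h2
  have h3 : ⁅⁅Q, Q⁆, T⁆ = ⊥ :=
    commutator_commutator_eq_bot_of_rotate (by rwa [Subgroup.commutator_comm Q T]) h2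
  rw [commutator_eq_bot_iff_le_centralizer] at h3
  refine le_trans (le_inf hTN fun x hx => ?_) (hC.ge.trans inf_le_right)
  exact mem_centralizer_singleton_iff.mpr (h3 htQ x hx)

/-- Let G be a finite group with G = QN, where N is a normal subgroup of G and Q is a non-abelian 2-subgroup with Q ∩ N = 1. Suppose that some nontrivial element t of Z(Q) ∩ [Q, Q] satisfies C_N(Q) = C_N(t). Then [N, Q] is solvable of odd order. -/
theorem result {G : Type*} [Group G] [Finite G] (N Q : Subgroup G) [N.Normal] (hG : Q ⊔ N = ⊤) (hQ : IsPGroup 2 ↥Q) (hQna : ¬ IsMulCommutative ↥Q) (hdisj : Q ⊓ N = ⊥) (t : G) (ht1 : t ≠ 1) (htZ : t ∈ Q ⊓ Subgroup.centralizer (Q : Set G)) (htQ : t ∈ ⁅Q, Q⁆) (hC : N ⊓ Subgroup.centralizer (Q : Set G) = N ⊓ Subgroup.centralizer ({t} : Set G)) : Group.IsSolvable ↥⁅N, Q⁆ ∧ Odd (Nat.card ↥⁅N, Q⁆) := by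
  have hiso : IsIsolated t := by
    obtain ⟨S, hS⟩ := hQ.exists_le_sylow
    refine Block.isIsolated_of_sylow S (hS htZ.1) fun g hg => ?_
    obtain ⟨n, hn, q, hq, rfl⟩ := factor_of_sup_eq_top' (N := N) (H := Q) (by rw [sup_comm, hG]) g
    have e0 : n * q * t * (n * q)⁻¹ = n * t * n⁻¹ := by
      rw [mul_assoc n, htZ.2 q hq]; group
    rw [e0] at hg ⊢
    have hN : ∀ x : G, n * x * n⁻¹ * x⁻¹ ∈ N := fun x => by
      have := N.mul_mem hn (Normal.conj_mem inferInstance _ (N.inv_mem hn) x)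
      simpa [mul_assoc] using this
    have hT := cent hQ htQ hC (S ⊓ N) (S.isPGroup'.to_le inf_le_left) inf_le_right
      (le_normalizer_inf (hS.trans le_normalizer) le_normalizer_of_normal)
    have h1 : n * t * n⁻¹ ∈ centralizer (Q : Set G) := by
      have := mul_mem (hT ⟨(S : Subgroup G).mul_mem hg ((S : Subgroup G).inv_mem (hS htZ.1)), hN t⟩) htZ.2
      simpa using this
    set Q' := MulAut.conj n • Q with hQ'
    have hmem : ∀ a ∈ Q, n * a * n⁻¹ ∈ Q' := fun a ha => by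
      rw [hQ', mem_conj_smul]; simpa [mul_assoc] using ha
    have hd : ∀ a ∈ Q, (n * a * n⁻¹)⁻¹ * a ∈ N ⊓ centralizer (Q' : Set G) := by
      intro a ha
      have h2 : (n * a * n⁻¹)⁻¹ * a ∈ N := by simpa [mul_assoc] using hN a⁻¹
      refine ⟨h2, fun b hb => ?_⟩
      have h3 : n⁻¹ * ((n * a * n⁻¹)⁻¹ * a) * n ∈ N ⊓ centralizer ({t} : Set G) := by
        refine ⟨N.mul_mem (N.mul_mem (N.inv_mem hn) h2) hn, mem_centralizer_singleton_iff.mpr ?_⟩
        have e1 := h1 a ha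
        have e2 := htZ.2 a⁻¹ (Q.inv_mem ha)
        calc n⁻¹ * ((n * a * n⁻¹)⁻¹ * a) * n * t = a⁻¹ * n⁻¹ * (a * (n * t * n⁻¹)) * n := by group
          _ = a⁻¹ * t * (n⁻¹ * a * n) := by rw [e1]; group
          _ = _ := by rw [e2]; group
      rw [← hC] at h3
      have h4 := h3.2 _ (mem_conj_smul.mp hb)
      calc b * ((n * a * n⁻¹)⁻¹ * a) = n * (n⁻¹ * b * n * (n⁻¹ * ((n * a * n⁻¹)⁻¹ * a) * n)) * n⁻¹ := by
            group
        _ = _ := by rw [h4]; group
    have hQn : Q ≤ normalizer (Q' : Set G) := fun a ha => by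
      have := mul_mem (le_normalizer (hmem a ha)) (centralizer_le_normalizer _ (hd a ha).2)
      rwa [mul_inv_cancel_left] at this
    have hQ'2 : IsPGroup 2 Q' := by rw [hQ', Hall.conj_smul_eq_map]; exact hQ.map _
    have hR : IsPGroup 2 (Q ⊔ Q' : Subgroup G) := hQ.to_sup_of_normal_right' hQ'2 hQn
    have hD := cent hQ htQ hC ((Q ⊔ Q') ⊓ N) (hR.to_le inf_le_left) inf_le_right
      (le_normalizer_inf (le_sup_left.trans le_normalizer) le_normalizer_of_normal)
    have h5 : ⁅Q, Q⁆ ≤ Q' := by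
      rw [commutator_le]
      intro a ha b hb
      have ea : Commute b ((n * a * n⁻¹)⁻¹ * a) := hD ⟨(Q ⊔ Q').mul_mem ((Q ⊔ Q').inv_mem (mem_sup_right (hmem a ha)))
        (mem_sup_left ha), (hd a ha).1⟩ b hb
      have eb : Commute (n * a * n⁻¹) ((n * b * n⁻¹)⁻¹ * b) := (hd b hb).2 _ (hmem a ha)
      have e1 : ⁅a, b⁆ = ⁅n * a * n⁻¹, b⁆ := by
        generalize n * a * n⁻¹ = a' at ea
        have : a = a' * (a'⁻¹ * a) := by group
        generalize a'⁻¹ * a = d at ea this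
        rw [this, commutatorElement_def, commutatorElement_def, mul_assoc a', ← ea.eq]
        group
      have e2 : ⁅n * a * n⁻¹, b⁆ = ⁅n * a * n⁻¹, n * b * n⁻¹⁆ := by
        generalize n * a * n⁻¹ = a' at eb
        generalize n * b * n⁻¹ = b' at eb
        have : b = b' * (b'⁻¹ * b) := by group
        generalize b'⁻¹ * b = d at eb this
        rw [this, commutatorElement_def, commutatorElement_def]
        calc a' * (b' * d) * a'⁻¹ * (b' * d)⁻¹ = a' * b' * a'⁻¹ * (a' * d) * a'⁻¹ * (b' * d)⁻¹ := by group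
          _ = _ := by rw [eb.eq]; group
      rw [e1, e2]
      exact commutator_le_self Q' (commutator_mem_commutator (hmem a ha) (hmem b hb))
    have h6 : n * t * n⁻¹ * t⁻¹ ∈ Q' ⊓ N := ⟨Q'.mul_mem (hmem t htZ.1) (Q'.inv_mem (h5 htQ)), hN t⟩
    have h7 : Q' ⊓ N = ⊥ := by
      have e1 : MulAut.conj n • N = N := conj_smul_eq_self_iff.mpr (le_normalizer hn)
      rw [hQ', ← e1, ← smul_inf, hdisj, smul_bot]
    rwa [h7, mem_bot, mul_inv_eq_one] at h6
  obtain ⟨k, hk⟩ := hQ ⟨t, htZ.1⟩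
  have hz := Block.z_star_elt (congrArg Subtype.val hk) hiso
  set O := pPrimeCore 2 G ⊓ N with hO
  have hOc : (Nat.card O).Coprime 2 :=
    (coprime_card_pPrimeCore 2 G).coprime_dvd_left (card_dvd_of_le inf_le_left)
  have h1 := sup_centralizer_eq_of_commutator_le (A := zpowers t) (K := N) (N := O)
    le_normalizer_of_normal (coprime_card_of_isPGroup (hQ.to_le (zpowers_le.mpr htZ.1)) hOc).symm
    (Or.inl (isSolvable_zpowers t)) inf_le_right (by
      refine le_inf ?_ (commutator_le_left _ _)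
      rw [← QuotientGroup.ker_mk' (pPrimeCore 2 G), ← Subgroup.map_eq_bot_iff, map_commutator,
        commutator_eq_bot_iff_le_centralizer, MonoidHom.map_zpowers, Core.centralizer_zpowers]
      intro x _
      exact mem_centralizer_singleton_iff.mpr (mem_center_iff.mp (Block.inZStar_iff.mp hz) x))
  rw [Core.centralizer_zpowers, ← hC] at h1
  have h2 : ⁅N, Q⁆ ≤ O := by
    rw [← QuotientGroup.ker_mk' O, ← Subgroup.map_eq_bot_iff, map_commutator,
      commutator_eq_bot_iff_le_centralizer]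
    refine (map_mono h1.ge).trans ?_
    rw [Subgroup.map_sup, (Subgroup.map_eq_bot_iff O).mpr (QuotientGroup.ker_mk' O).ge, bot_sup_eq]
    rintro _ ⟨x, hx, rfl⟩ _ ⟨y, hy, rfl⟩
    rw [← map_mul, ← map_mul, hx.2 y hy]
  have h3 : ¬ 2 ∣ Nat.card (⁅N, Q⁆ : Subgroup G) :=
    (Nat.Prime.coprime_iff_not_dvd Nat.prime_two).mp (hOc.coprime_dvd_left (card_dvd_of_le h2)).symm
  exact ⟨FT.solvable_of_not_two_dvd _ h3, Nat.odd_iff.mpr (Nat.two_dvd_ne_zero.mp h3)⟩

end Cfsg.Agent.S2962
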