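import Cfsg.Statements.S2963
import Cfsg.Agent.Lib.Amalg.BkSt3

set_option autoImplicit false
open Cfsg

namespace Cfsg.Agent.S2963

open Subgroup Cfsg.Lib.Amalg
open Cfsg.Lib.Core hiding isPGroup_subgroupOf isPGroup_subgroupOf_iff isPGroup_map_subtype_iff isPGroup_zpowers_of_orderOf
open scoped commutatorElement

/-- Let n be odd. If the symmetric group of degree n is a minimal parabolic group for the prime 2, that is, a Sylow 2-subgroup is not normal and lies in exactly one maximal subgroup, then n = 2^m + 1 for some natural number m. -/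
theorem result (n : ℕ) (hn : Odd n) (h : Cfsg.IsPMinimal 2 (Equiv.Perm (Fin n))) : ∃ m : ℕ, n = 2 ^ m + 1 := by
  obtain ⟨m, rfl⟩ := hn
  haveI : Fact (Nat.Prime 2) := ⟨Nat.prime_two⟩
  obtain ⟨P, hP⟩ := exists_syl 2 (⊤ : Subgroup (Equiv.Perm (Fin (2 * m + 1))))
  obtain ⟨h1, M, hu⟩ := (pMin_top.2 h).exists_uMax hP
  have hm : 0 < m := Nat.pos_of_ne_zero fun e => h1 fun g _ => by
    subst e
    have : Subsingleton (Equiv.Perm (Fin (2 * 0 + 1))) := inferInstanceAs (Subsingleton (Equiv.Perm (Fin 1)))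
    rw [Subsingleton.elim g 1]; exact one_mem _
  haveI : Nontrivial (Fin (2 * m + 1)) := Fin.nontrivial_iff_two_le.2 (by omega)
  obtain ⟨j, hj⟩ := Bk.exists_fixed (Bk.odd_fin m) hP.isPGroup
  have c := MulAction.IsPreprimitive.isCoatom_stabilizer_of_isPreprimitive (Equiv.Perm (Fin (2 * m + 1))) j
  have e := (c.le_iff.1 (hu.max _ hj c.1.lt_top)).resolve_left hu.lt.ne
  refine Bk.perm_deg hm hP hj fun v hv h2 σ _ h3 => e.le (hu.max (MulAction.stabilizer _ v |>.comap (Bk.pA _))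
    (fun g hg => Bk.ew_ext fun i => h2 _ (inv_mem hg) i) (lt_top_iff_ne_top.2 fun c => hv ?_)
    (Bk.ew_ext fun i => by rw [Bk.pA_apply, ← h3, Equiv.Perm.eq_inv_iff_eq.1 rfl]))
  obtain ⟨i, hi⟩ := Bk.exists_zero (Bk.odd_fin m) v
  refine Bk.ew_ext fun k => ?_
  have := congrArg (fun w : Bk.EW _ => w.1 k) (c.ge (mem_top (Equiv.swap i k)) : Bk.pA _ _ • v = v)
  simp only [Bk.pA_apply, Equiv.swap_inv, Equiv.swap_apply_right] at this
  exact this.symm.trans hi

end Cfsg.Agent.S2963
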