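import Cfsg.Statements.S2968
import Cfsg.Agent.Lib.Block.IsoElt

set_option autoImplicit false
open Cfsg

namespace Cfsg.Agent.S2968

open Cfsg.Lib.Block Cfsg.Lib.Char Cfsg.Lib.Amalg
set_option linter.style.haveILetI false

/-- Let G be a finite group, p a prime, P a Sylow p-subgroup of G and x ∈ P an element of p-power order which is isolated in G (the only conjugate of x commuting with x is x itself). Then x lies in the centre of P, and the subgroup generated by x is both strongly closed and weakly closed in P with respect to G. -/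
theorem result {G : Type*} [Group G] [Finite G] {p : ℕ} [Fact p.Prime] (P : Sylow p G) (x : G) (hxP : x ∈ (P : Subgroup G)) (hx : ∃ k : ℕ, orderOf x = p ^ k) (hiso : Cfsg.IsIsolated x) : x ∈ (P : Subgroup G) ⊓ Subgroup.centralizer ((P : Subgroup G) : Set G) ∧ Cfsg.IsStronglyClosed (Subgroup.zpowers x) (P : Subgroup G) ∧ Cfsg.IsWeaklyClosed (Subgroup.zpowers x) (P : Subgroup G) := by
  obtain ⟨k, hk⟩ := hx
  replace hk : x ^ p ^ k = 1 := hk ▸ pow_orderOf_eq_one x
  have h1 : ∀ y ∈ Subgroup.zpowers x, ∀ g : G, g * y * g⁻¹ ∈ (P : Subgroup G) → g * y * g⁻¹ = y :=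
    fun y hy g hg => (hiso.of_mem_zpowers hk hy).eq_of_mem P.2 (Subgroup.zpowers_le_of_mem hxP hy) hg
      (Lib.Invol.isConj_conj g y)
  refine ⟨⟨hxP, fun y hy => (hiso.commute_of_mem P.2 hxP hy).eq⟩,
    ⟨Subgroup.zpowers_le_of_mem hxP, fun y hy g hg => by rwa [h1 y hy g hg]⟩,
    Subgroup.zpowers_le_of_mem hxP, fun g hg => ?_⟩
  rw [MonoidHom.map_zpowers] at hg ⊢
  exact congrArg _ (h1 x (Subgroup.mem_zpowers x) g (hg (Subgroup.mem_zpowers _)))

end Cfsg.Agent.S2968
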