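import Cfsg.Statements.S2971
import Cfsg.Agent.Lib.Block.IsoElt
import Cfsg.Agent.Lib.PGrp.Alperin

set_option autoImplicit false
open Cfsg

namespace Cfsg.Agent.S2971

open Cfsg.Lib.Block Cfsg.Lib.Char Cfsg.Lib.Amalg
set_option linter.style.haveILetI false

/-- Let G be a finite group and p an odd prime such that G has p-rank at most 1 (no elementary abelian subgroup of order p²). If x ∈ G is an isolated element of order p, then x is central modulo the largest normal subgroup of G of order prime to p. -/
theorem result {G : Type*} [Group G] [Finite G] {p : ℕ} [Fact p.Prime] (hp : p ≠ 2) (hrk : Cfsg.PRankLE p 1 G) (x : G) (hx : orderOf x = p) (hiso : Cfsg.IsIsolated x) : Cfsg.InZStar p x := by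
  have hk : x ^ p ^ 1 = 1 := by rw [pow_one, ← hx, pow_orderOf_eq_one]
  obtain ⟨P, hP⟩ := (Lib.Invol.isPGroup_zpowers hk).exists_le_sylow
  have hc : IsCyclic (P : Subgroup G) := (Lib.PGrp.isCyclic_iff_pRankLE_one hp P.2).2
    fun A hA h => by
      have := hrk (A.map (P : Subgroup G).subtype) inferInstance (by
        rintro _ ⟨a, ha, rfl⟩
        rw [← map_pow, h a ha, map_one])
      rwa [Subgroup.card_map_of_injective (Subgroup.subtype_injective _)] at this
  have h1 := hiso.pnil_of_isCyclic (Lib.Transfer.sylowIn_top P) (hP (Subgroup.mem_zpowers x))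
    (fun e => by rw [e, orderOf_one] at hx; exact (Fact.out : p.Prime).one_lt.ne hx) hc
  intro g
  haveI := Lib.Transfer.resOf_normal (p := p) (⊤ : Subgroup G)
  refine Lib.Core.le_pPrimeCore h1.coprime ?_
  obtain ⟨w, hw, u, hu, rfl⟩ := (Lib.Transfer.sylowIn_top P).exists_resOf_mul (Subgroup.mem_top g)
  have h2 := hiso.commute_of_mem P.2 (hP (Subgroup.mem_zpowers x)) hu
  rw [show w * u * x * (w * u)⁻¹ * x⁻¹ = w * ((u * x * u⁻¹) * w⁻¹ * x⁻¹) by group, h2.eq,
    mul_inv_cancel_right]
  exact mul_mem hw (Subgroup.Normal.conj_mem inferInstance _ (inv_mem hw) x)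

end Cfsg.Agent.S2971
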