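import Cfsg.Statements.S2976
import Cfsg.Agent.Lib.Coprime.SzFix
import Cfsg.Agent.Lib.Layer.LBalance
import Cfsg.Agent.Lib.BN.SzMult

set_option autoImplicit false
open Cfsg

namespace Cfsg.Agent.S2976

open Subgroup Cfsg.Lib Cfsg.Lib.Coprime Cfsg.Lib.BN Cfsg.Lib.BN.Sz
open scoped commutatorElement

theorem solv_comm {G : Type*} [Group G] (h : IsMulCommutative G) : Group.IsSolvable G :=
  Group.isSolvable_of_comm h.is_comm.comm

theorem solvable_of_proj {G : Type*} [Group G] [Finite G] {K D : Subgroup G} [Group.IsSolvable D]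
    (h : ∀ l ∈ K, ∃ c ∈ centralizer (K : Set G), l * c ∈ D) : Group.IsSolvable K := by
  have h1 : (MulAut.conj : K →* MulAut K).range ≤ (D.subgroupOf (normalizer (K : Set G))).map (BG1.actHom K) := by
    rintro _ ⟨l, rfl⟩
    obtain ⟨c, hc, hd⟩ := h l l.2
    refine ⟨⟨_, mul_mem (le_normalizer l.2) (centralizer_le_normalizer _ hc)⟩, hd, ?_⟩
    ext x
    rw [BG1.actHom_apply]
    simp [mul_assoc, ← mul_assoc c, ← mem_centralizer_iff.1 hc x x.2]
  have := Core.isSolvable_subgroupOf D (normalizer (K : Set G))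
  have := BG1.solvable_of_le h1 (Core.isSolvable_map _ _)
  have := solv_comm (G := center K) inferInstance
  refine solvable_of_ker_le_range (center K).subtype (MulAut.conj : K →* MulAut K).rangeRestrict fun x hx => ?_
  rw [MonoidHom.ker_rangeRestrict, MonoidHom.mem_ker] at hx
  exact ⟨⟨x, mem_center_iff.2 fun g => (mul_inv_eq_iff_eq_mul.1 (DFunLike.congr_fun hx g)).symm⟩, rfl⟩

theorem eq_one_field {K : Type*} [Group K] [Finite K] {F : Type*} [Field F] {m : ℕ} [SzField F m]
    (e : K ⧸ center K ≃* Cfsg.Sz F m) {α : MulAut K} (hα : α ^ 3 = 1)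
    (hs : Group.IsSolvable (α.toMonoidHom.eqLocus (MonoidHom.id K))) : m = 1 := by
  by_contra hm
  obtain ⟨L, hL, h⟩ := exists_fixed_nonsolv (α := MulAut.congr e (Layer.autCenterQuot K α))
    (by rw [← map_pow, ← map_pow, hα, map_one, map_one]) (Or.inr hm)
  set π : K →* Cfsg.Sz F m := e.toMonoidHom.comp (QuotientGroup.mk' _)
  have hπ : Function.Surjective π := e.surjective.comp (QuotientGroup.mk'_surjective _)
  have h1 : ∀ x ∈ L.comap π, ∃ z ∈ center K, α x = x * z := fun x hx => by
    have h2 : e (α x) = e x := by simpa [π, Layer.autCenterQuot_mk] using h _ hx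
    exact ⟨_, QuotientGroup.eq.1 (e.injective h2).symm, by simp⟩
  have h2 : ⁅L.comap π, L.comap π⁆ ≤ α.toMonoidHom.eqLocus (MonoidHom.id K) := commutator_le.2 fun x hx y hy => by
    obtain ⟨z, hz, e1⟩ := h1 x hx
    obtain ⟨w, hw, e2⟩ := h1 y hy
    have h1 := mem_center_iff.1 hz
    have h2 := mem_center_iff.1 hw
    change α ⁅x, y⁆ = ⁅x, y⁆
    rw [map_commutatorElement, e1, e2]
    simp only [commutatorElement_def, mul_inv_rev, mul_assoc]
    rw [← mul_assoc z, ← h1, mul_assoc, ← mul_assoc z, ← h1, mul_assoc, mul_inv_cancel_left,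
      ← mul_assoc w, ← h2, mul_assoc, mul_inv_cancel_left]
  have h3 := Core.isSolvable_map (h := BG1.solvable_of_le h2 hs) _ π
  rw [map_commutator, map_comap_eq_self_of_surjective hπ, ← map_subtype_commutator,
    Core.isSolvable_map_subtype_iff] at h3
  exact hL (solvable_of_ker_le_range (commutator L).subtype (Abelianization.of) (by simp))


/-- Let G be a finite group, K a component of G whose order is not divisible by 3, and y ∈ G an element of order 3 whose centralizer C_G(y) is solvable. Then K ⧸ Z(K) is isomorphic to the Suzuki group over the field with 8 elements and y normalizes K. If moreover O₂(G) = 1, then K is simple. -/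
theorem result {G : Type*} [Group G] [Finite G] (K : Subgroup G) (hK : Cfsg.IsComponent K) (h3 : ¬ 3 ∣ Nat.card ↥K) (y : G) (hy : orderOf y = 3) (hsol : Group.IsSolvable ↥(Subgroup.centralizer ({y} : Set G))) : (∃ (F : Type) (_ : Field F) (_ : Fintype F), Fintype.card F = 8 ∧ Nonempty (↥K ⧸ Subgroup.center ↥K ≃* ↥(Cfsg.Lie.Sz F 4))) ∧ y ∈ Subgroup.normalizer (K : Set G) ∧ (Cfsg.pCore 2 G = ⊥ → IsSimpleGroup ↥K) := by
  have hns : ¬ Group.IsSolvable K := fun _ => by
    have : Nontrivial K := (nontrivial_iff_ne_bot K).2 (Layer.IsComponent.ne_bot hK)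
    exact (Group.IsSolvable.commutator_lt_top_of_nontrivial K).ne hK.2.1.commutator_eq_top
  have hn : y ∈ normalizer (K : Set G) := by
    by_contra hn
    refine hns (solvable_of_proj (D := centralizer {y}) fun l hl => ?_)
    obtain ⟨c, hc, h⟩ := Layer.IsComponent.exists_mul_mem_centralizer (A := zpowers y) hK hl fun a ha ha' => by
      by_contra h
      have h1 : a ≠ 1 := fun e => h (by simp [e])
      exact hn ((zpowers_le.2 ha') (BS.mem_zpowers_of_prime_card' (hy ▸ Nat.prime_three) ha h1))
    exact ⟨c, Layer.IsComponent.sSup_other_le_centralizer hK hc, centralizer_le (by simp) h⟩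
  have := hK.2.2
  obtain ⟨F, _, m, hF, ⟨e⟩⟩ := exists_sz_of_simple (G := K ⧸ center K)
    (fun hc => hns (by
      have := solv_comm hc
      have := solv_comm (G := center K) inferInstance
      exact solvable_of_ker_le_range (center K).subtype (QuotientGroup.mk' (center K)) (by simp)))
    fun e => h3 (e.trans (card_quotient_dvd_card _))
  obtain rfl : m = 1 := eq_one_field e (α := BG1.actHom K ⟨y, hn⟩)
    (by rw [← map_pow, show (⟨y, hn⟩ : normalizer (K : Set G)) ^ 3 = 1 from
      Subtype.ext (hy ▸ pow_orderOf_eq_one y), map_one]) (by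
      rw [← Core.isSolvable_map_subtype_iff]
      refine BG1.solvable_of_le ?_ hsol
      rintro _ ⟨x, hx, rfl⟩
      exact mem_centralizer_singleton_iff.2 (mul_inv_eq_iff_eq_mul.1 (congrArg Subtype.val hx)).symm)
  have := hF.finite
  refine ⟨⟨F, inferInstance, Fintype.ofFinite F, by rw [← @Nat.card_eq_fintype_card _ (_), hF.card_eq]; rfl,
    ⟨e.trans (szEquiv 1)⟩⟩, hn, fun hO => ?_⟩
  have hk : (e.toMonoidHom.comp (QuotientGroup.mk' (center K))).ker = center K := by
    ext x; simp [MonoidHom.mem_ker]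
  obtain ⟨ψ, hψ⟩ := surj_ker_eight (π := e.toMonoidHom.comp (QuotientGroup.mk' (center K)))
    ⟨e.surjective.comp (QuotientGroup.mk'_surjective _), hk.le, by rw [hK.2.1.commutator_eq_top]; exact le_top⟩
  have h1 : IsPGroup 2 (center K) := hk ▸ IsPGroup.of_surjective (IsPGroup.of_card (n := 2) (by simp)) ψ hψ
  have h2 : center K = ⊥ := by
    have h2 := Core.le_pCore h1
    have h3 := Core.pCoreOf_le_pCore_of_isSubnormal (p := 2) hK.1
    rw [hO, le_bot_iff, map_eq_bot_iff_of_injective _ K.subtype_injective] at h3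
    exact le_bot_iff.1 (h2.trans h3.le)
  exact ((QuotientGroup.quotientMulEquivOfEq h2).trans QuotientGroup.quotientBot).symm.isSimpleGroup

end Cfsg.Agent.S2976
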