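import Cfsg.Statements.S2981
import Cfsg.Agent.Lib.Amalg.TVThom

set_option autoImplicit false
open Cfsg

namespace Cfsg.Agent.S2981

open Subgroup Cfsg.Lib.Amalg
open Cfsg.Lib.Core hiding isPGroup_subgroupOf isPGroup_subgroupOf_iff isPGroup_map_subtype_iff isPGroup_zpowers_of_orderOf
open scoped commutatorElement

open Cfsg.Lib.Amalg.TV Cfsg.Lib.BG1 Cfsg.Lib

/-- The local C**(G,T)-Theorem for minimal parabolic groups. Let G be a finite p-minimal group (a Sylow p-subgroup T is not normal and lies in exactly one maximal subgroup) of characteristic p (C_G(O_p(G)) ≤ O_p(G)), and suppose G ≠ C**(G,T), the subgroup generated by C_G(Ω₁(Z(T))) and N_G(J(T)) (J(T) generated by the elementary abelian p-subgroups of T of largest order). Put V = Ω₁(Z(O_p(G))) and C = C_G(V). Then there are subgroups E₁, …, E_r of G containing C such that: J(G)TC = G and the E_i C/C form an internal direct product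 equal to J(G)C/C; any two of the E_i are conjugate by an element of T; V = C_V(⟨E_i⟩)·∏[V, E_i] with [V, E_i, E_j] = 1 for i ≠ j; for some n ≥ 1, each E_i/C is isomorphic to SL₂(pⁿ), or p = 2 and to the symmetric group of degree 2ⁿ + 1; and E_i acts on [V, E_i]/C_{[V,E_i]}(E_i) as the natural two-dimensional SL₂(pⁿ)-module, respectively as the symmetric group of degree 2ⁿ+1 on its even-weight permutation module. -/
theorem result {G : Type*} [Group G] [Finite G] {p : ℕ} [Fact p.Prime] (hmin : Cfsg.IsPMinimal p G) (hG : Subgroup.centralizer (Cfsg.pCore p G : Set G) ≤ Cfsg.pCore p G) (T : Sylow p G) (hne : Cfsg.cStarStarOf p (T : Subgroup G) ≠ ⊤) : ∃ (r : ℕ) (E : Fin r → Subgroup G), (∀ i, Subgroup.centralizer (Cfsg.omegaOneCenter p (Cfsg.pCore p G) : Set G) ≤ E i) ∧ Cfsg.thompsonSubgroup p G ⊔ (T : Subgroup G) ⊔ Subgroup.centralizer (Cfsg.omegaOneCenter p (Cfsg.pCore p G) : Set G) =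 ⊤ ∧ (⨆ i, E i) = Cfsg.thompsonSubgroup p G ⊔ Subgroup.centralizer (Cfsg.omegaOneCenter p (Cfsg.pCore p G) : Set G) ∧ (∀ i j, i ≠ j → ⁅E i, E j⁆ ≤ Subgroup.centralizer (Cfsg.omegaOneCenter p (Cfsg.pCore p G) : Set G)) ∧ (∀ i, E i ⊓ (⨆ j ∈ {j | j ≠ i}, E j) ≤ Subgroup.centralizer (Cfsg.omegaOneCenter p (Cfsg.pCore p G) : Set G)) ∧ (∀ i j, ∃ t ∈ (T : Subgroup G), (E i).map (MulAut.conj t).toMonoidHom = E j) ∧ (Cfsg.omegaOneCenter p (Cfsg.pCore p G) ⊓ Subgroup.centralizer ((⨆ i, E i : Subgroup G) : Set G)) ⊔ (⨆ i, ⁅Cfsg.omegaOneCenter p (Cfsg.pCore p G), E i⁆) = Cfsg.omegaOneCenter p (Cfsg.pCore p G) ∧ (∀ i j, i ≠ j → ⁅⁅Cfsg.omegaOneCenter p (Cfsg.pCore p G), E i⁆, E j⁆ = ⊥) ∧ ∀ i, ∃ n : ℕ, 1 ≤ n ∧ ((∃ (F : Type) (_ : Field F) (_ : Fintype F), Fintype.card F = p ^ n ∧ (∃ _ : ((Subgroup.centralizer (Cfsg.omegaOneCenter p (Cfsg.pCore p G) : Set G)).subgroupOf (E i)).Normal, Nonempty (↥(E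 i) ⧸ (Subgroup.centralizer (Cfsg.omegaOneCenter p (Cfsg.pCore p G) : Set G)).subgroupOf (E i) ≃* Matrix.SpecialLinearGroup (Fin 2) F)) ∧ Cfsg.ActsAsSL2OnSection F ⊤ (E i) ⁅Cfsg.omegaOneCenter p (Cfsg.pCore p G), E i⁆ (⁅Cfsg.omegaOneCenter p (Cfsg.pCore p G), E i⁆ ⊓ Subgroup.centralizer ((E i : Subgroup G) : Set G))) ∨ (p = 2 ∧ (∃ _ : ((Subgroup.centralizer (Cfsg.omegaOneCenter p (Cfsg.pCore p G) : Set G)).subgroupOf (E i)).Normal, Nonempty (↥(E i) ⧸ (Subgroup.centralizer (Cfsg.omegaOneCenter p (Cfsg.pCore p G) : Set G)).subgroupOf (E i) ≃* Equiv.Perm (Fin (2 ^ n + 1)))) ∧ Cfsg.ActsAsOddPermModuleOnSection (2 ^ n + 1) ⊤ (E i) ⁅Cfsg.omegaOneCenter p (Cfsg.pCore p G), E i⁆ (⁅Cfsg.omegaOneCenter p (Cfsg.pCore p G), E i⁆ ⊓ Subgroup.centralizer ((E i : Subgroup G) : Set G)))) := by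
  have hT := syl_top T
  obtain ⟨-, M, hM⟩ := (pMin_top.2 hmin).exists_uMax hT
  have hC : cStarStarOf p (T : Subgroup G) ≤ M := (hM.eq_or_le
    ((Transfer.le_normalizer_thompsonOf _).trans le_sup_right) le_top).resolve_left hne
  have th : TH p ⊤ (T : Subgroup G) M := ⟨charP_top.2 hG, hT, hM,
    inf_le_right.trans (le_sup_left.trans hC), fun c => hM.not_le (c.trans (le_sup_right.trans hC))⟩
  obtain ⟨P', W, _, _, _, _, _, π, ι, h⟩ := exists_br (isElemAb_omZ (p := p) (pCoreOf p ⊤)).1 th.norm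
  obtain ⟨B, -, hB⟩ := th.exists_minOff h
  have hh := th.ph h
  obtain ⟨𝓔, hs⟩ := hh.exists_cs hB
  have ht := hh.tc hB.one_lt
  obtain ⟨r, E, k1, k2, k3, k4, k5, k6, k7, k8, k9, k10⟩ := h.struct ht hs rfl
  have hJ := th.mim_thompson h hB
  rw [← hJ, mpre_mim le_top, h.mker_eq, top_inf_eq, Transfer.thompsonOf_top, sup_comm] at k6
  have hg := congrArg (mpre π) hs.gen
  rw [hs.eq, ← hJ, ← mim_sup le_top le_top, mpre_mim le_top, h.mker_eq, top_inf_eq,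
    Transfer.thompsonOf_top, sup_comm, mpre_top] at hg
  simp only [top_inf_eq] at k3 k4 k5
  have ty := fun i => h.type ht hs (k2 i) (k10 i)
  rw [Amalg.op_top] at k3 k4 k5 k6 k8 k9 hg ty
  refine ⟨r, E, k3, hg, k6, k4, k5, k7, k8, k9, fun i => ?_⟩
  obtain ⟨n, hn, ⟨F, _, _, e1, ⟨ρ, e2, e3⟩, e4⟩ | ⟨e1, ⟨ρ, e2, e3⟩, e4⟩⟩ := ty i
  · exact ⟨n, hn, Or.inl ⟨F, _, _, e1, equiv_of_ker e2 e3, e4⟩⟩
  · exact ⟨n, hn, Or.inr ⟨e1, equiv_of_ker e2 e3, e4⟩⟩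

end Cfsg.Agent.S2981
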