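import Cfsg.Statements.S2989
import Cfsg.Agent.Lib.Push.DE

set_option autoImplicit false
open Cfsg

namespace Cfsg.Agent.S2989

open Subgroup Cfsg.Lib.Amalg Cfsg.Lib.Push

/-- Let G be a finite group and S a Sylow p-subgroup of G in the basic pushing-up situation (G ≠ 1, C_G(O_p(G)) ≤ O_p(G), S lies in a unique maximal subgroup of G, and some quotient of G is isomorphic to PSL₂ over a field of order a power of p), and suppose that S centralizes Z(J(S)), where J(S) is generated by the abelian subgroups of S of largest order (that is, J̃(S) = C_S(Z(J(S))) = S). Call a subgroup R of S centrally large if |R|·|Z(R)| is as large as possible among subgroups of S, and let S_Φ be the subgroup generated by the Frattini subgroups Φ(Q) of those minimal centrally large subgroups Q of S whose Ω₁(Z(Q)) has the largest order among minimal centrally large subgroups. Then Z(S) or S_Φ is normal in G; and if S_Φ = 1, the minimal centrally large subgroups of S are exactly the abelian subgroups of S of largest order, and at least one of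 them is elementary abelian. -/
theorem result {G : Type*} [Group G] [Finite G] {p : ℕ} [Fact p.Prime] (S : Subgroup G) (hE : Cfsg.IsPushingUpSituation p S) (hJ : S ≤ Subgroup.centralizer (Cfsg.centerThompsonAOf S : Set G)) : ((S ⊓ Subgroup.centralizer (S : Set G)).Normal ∨ ((Cfsg.frattiniOfMinimalCLJoin p ↥S).map S.subtype).Normal) ∧ (Cfsg.frattiniOfMinimalCLJoin p ↥S = ⊥ → (∀ Q : Subgroup ↥S, Cfsg.IsMinimalCentrallyLarge Q ↔ Q ∈ Cfsg.maxAbelianSubgroups ↥S) ∧ ∃ A ∈ Cfsg.maxAbelianSubgroups ↥S, Cfsg.IsElementaryAbelian p A) := by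
  obtain ⟨M, h⟩ := e0_of_situation hE
  refine ⟨?_, fun h0 => ?_⟩
  · rw [famJoin_eq]
    by_cases hnc : 𝐂 S ≤ center G
    · exact Or.inl (normal_of_le_center (inf_le_right.trans hnc))
    · exact Or.inr ((h.e1_of hnc hJ).thmD (cd_self_of hJ))
  · obtain ⟨X, hX⟩ := exists_cl (G := S)
    obtain ⟨Y, -, hY⟩ := (rcl_subtype.2 hX).exists_rmcl
    obtain ⟨Q, hQ⟩ := exists_fam (p := p) hY
    have h1 : (frattini Q).map Q.subtype ≤ ⊥ := by
      have := famJoin_eq (p := p) S
      rw [h0, Subgroup.map_bot] at this
      rw [this]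
      exact le_iSup (fun Q : {Q // Fam p S Q} => (frattini Q.1).map Q.1.subtype) ⟨Q, hQ⟩
    rw [Cfsg.Lib.Core.frattiniOf_le_iff (h.syl.isPGroup.to_le hQ.1.le)] at h1
    have h2 : IsMulCommutative (Q.subgroupOf S) := by
      rw [← comm_map_iff S.subtype_injective, map_subgroupOf_of_le hQ.1.le, comm_iff]
      exact commutator_eq_bot_iff_le_centralizer.1 (le_bot_iff.1 h1.1)
    refine ⟨fun R => by rw [mcl_iff]; exact hQ.1.mcl.maxAb_iff h2, Q.subgroupOf S,
      (hQ.1.mcl.maxAb_iff h2).1 hQ.1.mcl, h2, fun a ha => Subtype.ext ?_⟩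
    exact mem_bot.1 (h1.2 a ha)

end Cfsg.Agent.S2989
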