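import Cfsg.Statements.S2998
import Cfsg.Agent.Lib.Amalg.Bridge
import Cfsg.Agent.Lib.Amalg.PIrr

set_option autoImplicit false
open Cfsg

namespace Cfsg.Agent.S2998

open Subgroup Cfsg.Lib.Amalg
open Cfsg.Lib.Core hiding isPGroup_subgroupOf isPGroup_subgroupOf_iff isPGroup_map_subtype_iff isPGroup_zpowers_of_orderOf
open scoped commutatorElement

/-- Let G be a finite group, p a prime, P a Sylow p-subgroup of G and x ∈ P an element such that N_G(R) ≤ C_G(x) for every nontrivial subgroup R of P. Then P ≤ C_G(x); every G-conjugate of x lying in P equals x (so g ∈ C_G(x) whenever g x g⁻¹ ∈ P); and for every normal subgroup N of G, the image of x in G ⧸ N has the same property with respect to the image of P: the normalizer of every nontrivial subgroup of the image of P centralizes the image of x. -/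
theorem result {G : Type*} [Group G] [Finite G] {p : ℕ} [Fact p.Prime] (P : Sylow p G) (x : G) (hxP : x ∈ (P : Subgroup G)) (hlc : ∀ R : Subgroup G, R ≤ (P : Subgroup G) → R ≠ ⊥ → Subgroup.normalizer (R : Set G) ≤ Subgroup.centralizer ({x} : Set G)) : (P : Subgroup G) ≤ Subgroup.centralizer ({x} : Set G) ∧ (∀ g : G, g * x * g⁻¹ ∈ (P : Subgroup G) → g * x * g⁻¹ = x) ∧ ∀ (N : Subgroup G) [N.Normal], ∀ R : Subgroup (G ⧸ N), R ≤ (P : Subgroup G).map (QuotientGroup.mk' N) → R ≠ ⊥ → Subgroup.normalizer (R : Set (G ⧸ N)) ≤ Subgroup.centralizer ({(QuotientGroup.mk x : G ⧸ N)} : Set (G ⧸ N)) := by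
  have hP : (P : Subgroup G) ≤ centralizer {x} := by
    by_cases h : (P : Subgroup G) = ⊥
    · rw [h]; exact bot_le
    · exact le_normalizer.trans (hlc _ le_rfl h)
  refine ⟨hP, fun g hg => ?_, fun N _ R hR h1 => ?_⟩
  · by_cases h : x = 1
    · simp [h]
    have n : zpowers (g * x * g⁻¹) ≠ ⊥ := by simpa using h
    have e : cj g (centralizer {x}) = centralizer {x} := eq_of_le_of_card_le' (by
      rw [cj_centralizer_singleton]
      refine le_trans (fun y hy => cj_eq_self_iff.1 ?_) (hlc _ (zpowers_le.2 hg) n)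
      rw [cj_zpowers, mem_centralizer_singleton_iff.1 hy, mul_inv_cancel_right]) (card_cj _ _).ge
    have s := (syl_top P).of_le hP le_top
    obtain ⟨c, hc, h2⟩ := (e ▸ s.conj g).exists_conj s
    have := mem_centralizer_singleton_iff.1 (hlc _ le_rfl (fun t => h (mem_bot.1 (t ▸ hxP)))
      (cj_eq_self_iff.1 ((cj_mul c g _).trans h2)))
    rw [show g * x * g⁻¹ = c⁻¹ * (c * g * x) * g⁻¹ by group, this, mul_assoc c⁻¹,
      show x * (c * g) * g⁻¹ = x * c by group, ← mem_centralizer_singleton_iff.1 hc, inv_mul_cancel_left]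
  · intro y hy
    obtain ⟨y, rfl⟩ := QuotientGroup.mk'_surjective N y
    obtain ⟨n, -, hn, a, ha, rfl⟩ := (syl_top P).exists_lift_normalizer _ hR (mem_top y) hy
    have k : ∀ z ∈ centralizer ({x} : Set G), QuotientGroup.mk' N z ∈ centralizer {(x : G ⧸ N)} :=
      fun z hz => mem_centralizer_singleton_iff.2 (congrArg (QuotientGroup.mk' N)
        (mem_centralizer_singleton_iff.1 hz))
    obtain ⟨t, ht, e⟩ := hR hn
    rw [map_mul, ← e]
    refine mul_mem (k _ (hP ht)) (k _ (hlc _ inf_le_left (fun c => h1 ?_) ha.2))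
    rw [← map_inf_comap _ hR, c, Subgroup.map_bot]

end Cfsg.Agent.S2998
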