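import Cfsg.Statements.S2999
import Cfsg.Agent.Lib.Amalg.TVBridge

set_option autoImplicit false
open Cfsg

namespace Cfsg.Agent.S2999

open Subgroup Cfsg.Lib.Amalg
open Cfsg.Lib.Core hiding isPGroup_subgroupOf isPGroup_subgroupOf_iff isPGroup_map_subtype_iff isPGroup_zpowers_of_orderOf
open scoped commutatorElement

open Cfsg.Lib.Amalg.TV Cfsg.Lib.BG1

/-- Let p be a prime and let P and V be subgroups of a finite group with V elementary abelian, P normalizing V and acting faithfully on it (P ∩ C(V) = 1). Suppose P is p-minimal (a Sylow p-subgroup T of P is not normal and lies in a unique maximal subgroup M of P) and A ≤ T is an elementary abelian subgroup such that: |V/C_V(A)| ≤ |A| while |A₀|·|C_V(A₀)| < |A|·|C_V(A)| for every nontrivial proper subgroup A₀ of A; [C_V(T), P] ≠ 1; and P = ⟨A, xAx⁻¹⟩ for every x ∈ P outside M. Then, with q = |A|, there is a field F with q elements such that P ≅ SL₂(F), C_V(A) = [V, A]·C_V(P), and P acts on V/C_V(P)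 as SL₂(F) on its natural two-dimensional module. -/
theorem result {G : Type*} [Group G] [Finite G] {p : ℕ} [Fact p.Prime] (V P : Subgroup G) (hV : Cfsg.IsElementaryAbelian p V) (hPV : P ≤ Subgroup.normalizer (V : Set G)) (hfaith : P ⊓ Subgroup.centralizer (V : Set G) = ⊥) (hmin : Cfsg.IsPMinimal p ↥P) (T : Sylow p ↥P) (M : Subgroup ↥P) (hM : IsCoatom M) (hTM : (T : Subgroup ↥P) ≤ M) (A : Subgroup G) (hAT : A ≤ ((T : Subgroup ↥P).map P.subtype)) (hAel : Cfsg.IsElementaryAbelian p A) (hi : Nat.card ↥V ≤ Nat.card ↥A * Nat.card ↥(V ⊓ Subgroup.centralizer ((A : Subgroup G) : Set G)) ∧ ∀ A₀ : Subgroup G, A₀ ≤ A → A₀ ≠ ⊥ → A₀ ≠ A → Nat.card ↥A₀ * Nat.card ↥(V ⊓ Subgroup.centralizer ((A₀ : Subgroup G) : Set G)) < Nat.card ↥A * Nat.card ↥(V ⊓ Subgroup.centralizer ((A : Subgroup G) : Set G))) (hii : ⁅(V ⊓ Subgroup.centralizer ((((T : Subgroup ↥P).map P.subtype) : Subgroup G) : Set G)), P⁆ ≠ ⊥) (hiii : ∀ x : ↥P, x ∉ M → A ⊔ A.map (MulAut.conj (x : G)).toMonoidHom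 = P) : ∃ (F : Type) (_ : Field F) (_ : Fintype F), Fintype.card F = Nat.card ↥A ∧ Nonempty (↥P ≃* Matrix.SpecialLinearGroup (Fin 2) F) ∧ (V ⊓ Subgroup.centralizer ((A : Subgroup G) : Set G)) = ⁅V, A⁆ ⊔ (V ⊓ Subgroup.centralizer ((P : Subgroup G) : Set G)) ∧ Cfsg.ActsAsSL2OnSection F ⊤ P V (V ⊓ Subgroup.centralizer ((P : Subgroup G) : Set G)) := by
  obtain ⟨P', W, _, _, _, _, _, π, ι, h⟩ := exists_br hV.1 hPV
  have hAP : A ≤ P := hAT.trans (map_subtype_le _)
  obtain ⟨x, -, hx⟩ := SetLike.exists_of_lt hM.lt_top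
  have hT := syl_top T
  have hne : A ≠ ⊥ := by
    rintro rfl
    have := hiii x hx
    rw [Subgroup.map_bot, sup_idem] at this
    subst this
    exact (hmin T).1 (normal_of_cj fun g => Subsingleton.elim _ _)
  have hA := h.minOff hfaith hAP hAel hne hi.1 hi.2
  have hinj := h.pi_inj hfaith
  have hs : SLT W (mim π A) ⊤ := by
    refine slt_of_gen (h.hp hV) h.faith hA (hT.map_top h.surj) (M := M.map π) (fun c => (hmin T).1 ?_)
      (lt_top_iff_ne_top.2 fun c => hM.1 ?_) (map_mono hTM)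
      (Br.mim_map (π := π) _ ▸ mim_mono π hAT) (fun c => hii ?_) fun y hy => ?_
    · rw [← comap_map_eq_self_of_injective hinj (T : Subgroup P)]
      exact (normal_of_top_le_normalizer c).comap π
    · rw [← comap_map_eq_self_of_injective hinj M, c, comap_top]
    · rw [← Br.mim_map, ← h.mim_top, h.le_fx_iff le_rfl, h.am_fx (map_subtype_le _)] at c
      exact comm_eq_bot_iff.2 c
    · obtain ⟨y, rfl⟩ := h.surj y
      have := congrArg (mim π) (hiii y fun c => hy (mem_map_of_mem π c))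
      rwa [mim_sup hAP (cj_le_of_le_of_mem hAP y.2), mim_cj y.2, h.mim_top] at this
  rw [← h.mim_top] at hs
  have hfx := hs.fx_eq
  obtain ⟨F, _, _, ρ, ψ, hn, hi'⟩ := hs
  refine ⟨F, _, _, hn.card.trans (h.card_mim' hfaith hAP), h.nonempty_equiv hfaith le_rfl ⟨hi', hn.rs⟩,
    ?_, ?_⟩
  · rw [← h.am_fx hAP, hfx, am_sup, h.am_cm_top hAP, h.am_fx le_rfl]
  · have := h.actsAsSL2 le_rfl hn.toN2 (inv_top _) (top_sup_eq _)
    rwa [h.am_top] at this

end Cfsg.Agent.S2999
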