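import Cfsg.Statements.S3001
import Cfsg.Agent.Lib.Amalg.TVAmb
import Cfsg.Agent.Lib.Amalg.TVCent

set_option autoImplicit false
open Cfsg

namespace Cfsg.Agent.S3001

open Subgroup Cfsg.Lib.Amalg
open Cfsg.Lib.Core hiding isPGroup_subgroupOf isPGroup_subgroupOf_iff isPGroup_map_subtype_iff isPGroup_zpowers_of_orderOf
open scoped commutatorElement

open Cfsg.Lib.Amalg.TV Cfsg.Lib.BG1

/-- Let p be a prime and let P and V be subgroups of a finite group with V elementary abelian, P normalizing V and acting faithfully on it (P ∩ C(V) = 1). Suppose P is p-minimal (a Sylow p-subgroup is not normal and lies in a unique maximal subgroup), O_p(P) = 1, and P has a best offender on V (a subgroup A not centralizing V, with A/C_A(V) elementary abelian and |B|·|C_V(B)| ≤ |A|·|C_V(A)| for every B ≤ A). Then [C_V(T), P] ≠ 1 for every Sylow p-subgroup T of P. -/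
theorem result {G : Type*} [Group G] [Finite G] {p : ℕ} [Fact p.Prime] (V P : Subgroup G) (hV : Cfsg.IsElementaryAbelian p V) (hPV : P ≤ Subgroup.normalizer (V : Set G)) (hfaith : P ⊓ Subgroup.centralizer (V : Set G) = ⊥) (hmin : Cfsg.IsPMinimal p ↥P) (hOp : Cfsg.pCore p ↥P = ⊥) (hoff : ∃ A : Subgroup G, A ≤ P ∧ ¬ A ≤ Subgroup.centralizer (V : Set G) ∧ Cfsg.IsBestOffenderOn p V A) (T : Sylow p ↥P) : ⁅(V ⊓ Subgroup.centralizer ((((T : Subgroup ↥P).map P.subtype) : Subgroup G) : Set G)), P⁆ ≠ ⊥ := by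
  obtain ⟨P', W, _, _, _, _, _, π, ι, h⟩ := exists_br hV.1 hPV
  obtain ⟨A, hA, hA1, hA2⟩ := hoff
  obtain ⟨h1, h2⟩ := h.off_of_best hA hA2
  have hT := syl_top T
  obtain ⟨hn, M, hM⟩ := (pMin_top.2 hmin).exists_uMax hT
  have hinj := h.pi_inj hfaith
  have hM' := hM.map π (inf_ker_le_of_injective hinj _ _)
  rw [map_top_of_surjective π h.surj] at hM'
  intro c
  refine not_fx_le (h.hp hV) h.faith (hT.map_top h.surj) (fun c => (hmin T).1 ?_) hM'
    (h.op_eq_bot hfaith hOp) h1 (fun c => hA1 ((h.mim_eq_bot hA).1 c)) h2 ?_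
  · rw [← comap_map_eq_self_of_injective hinj (T : Subgroup P)]
    exact (normal_of_top_le_normalizer c).comap π
  · rw [← Br.mim_map, ← h.mim_top, h.le_fx_iff le_rfl, h.am_fx (map_subtype_le _)]
    exact comm_eq_bot_iff.1 c

end Cfsg.Agent.S3001
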