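import Cfsg.Statements.S3003
import Cfsg.Agent.Lib.Amalg.WClosed
import Cfsg.Agent.Lib.Coprime.Generation

set_option autoImplicit false
open Cfsg

namespace Cfsg.Agent.S3003

open Subgroup Cfsg.Lib.Amalg
open Cfsg.Lib.Core hiding isPGroup_subgroupOf isPGroup_subgroupOf_iff isPGroup_map_subtype_iff isPGroup_zpowers_of_orderOf
open scoped commutatorElement

/-- Let G be a finite group, p a prime and Q a large p-subgroup of G: C_G(Q) ≤ Q and N_G(U) ≤ N_G(Q) for every nontrivial subgroup U of C_G(Q). Let Q ≤ G₁ ≤ G, let R be a subgroup of order prime to p normalized by G₁, and let U ≤ G₁ be a p-subgroup. If U contains a nontrivial element which is G₁-conjugate to an element of Z(Q), then C_R(U) = 1. In particular, if U is elementary abelian of order at least p² and every maximal subgroup of U contains a nontrivial element G₁-conjugate into Z(Q), then R = 1. -/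
theorem result {G : Type*} [Group G] [Finite G] {p : ℕ} [Fact p.Prime] (Q : Subgroup G) (hQp : IsPGroup p ↥Q) (hlarge : Cfsg.IsLarge Q) (G₁ : Subgroup G) (hQG : Q ≤ G₁) (R : Subgroup G) (hR : (Nat.card ↥R).Coprime p) (hGR : G₁ ≤ Subgroup.normalizer (R : Set G)) (U : Subgroup G) (hUG : U ≤ G₁) (hUp : IsPGroup p ↥U) : ((∃ x ∈ U, x ≠ 1 ∧ ∃ g ∈ G₁, g * x * g⁻¹ ∈ Q ⊓ Subgroup.centralizer (Q : Set G)) → R ⊓ Subgroup.centralizer (U : Set G) = ⊥) ∧ (Cfsg.IsElementaryAbelian p U → p ^ 2 ≤ Nat.card ↥U → (∀ U₀ : Subgroup G, U₀ ≤ U → IsCoatom (U₀.subgroupOf U) → ∃ x ∈ U₀, x ≠ 1 ∧ ∃ g ∈ G₁, g * x * g⁻¹ ∈ Q ⊓ Subgroup.centralizer (Q : Set G)) → R = ⊥) := by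
  have key : ∀ U : Subgroup G, (∃ x ∈ U, x ≠ 1 ∧ ∃ g ∈ G₁, g * x * g⁻¹ ∈ Q ⊓ centralizer (Q : Set G)) →
      R ⊓ centralizer (U : Set G) = ⊥ := by
    rintro U ⟨x, hx, h1, g, hg, h2⟩
    have h3 : R ⊓ centralizer {g * x * g⁻¹} ≤ normalizer (Q : Set G) := by
      rw [← centralizer_zpowers]
      exact inf_le_right.trans ((cent_le_norm _).trans (hlarge.2 _ (zpowers_le.2 h2.2)
        (by simpa using h1)))
    have h4 : R ⊓ centralizer {g * x * g⁻¹} = ⊥ := by
      refine eq_bot_of_pPrime_le (coprime_of_le hR inf_le_left) hQp (le_trans ?_ hlarge.1)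
      rw [← comm_eq_bot_iff, eq_bot_iff, ← inf_eq_bot_of_isPGroup_of_coprime Fact.out hQp hR]
      exact le_inf (comm_le_right h3) ((commutator_mono inf_le_left le_rfl).trans
        (comm_le_left (hQG.trans hGR)))
    rw [← cj_centralizer_singleton, ← cj_of_mem_normalizer (hGR hg), ← cj_inf, cj_eq_bot_iff] at h4
    exact eq_bot_iff.2 ((inf_le_inf_left _ (cent_le_cent_singleton hx)).trans h4.le)
  refine ⟨key U, fun h1 h2 h3 => eq_bot_iff.2 ?_⟩
  haveI := h1.1
  refine Lib.Coprime.le_of_forall_hyperplane h1.2 (fun e => ?_) (hUG.trans hGR)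
    (coprime_card_of_pPrime hR hUp).symm fun B a b => (key B (h3 B a ?_)).le
  · rw [e, card_bot] at h2
    exact absurd h2 (not_le.2 (Nat.one_lt_pow two_ne_zero (Fact.out : p.Prime).one_lt))
  · exact isCoatom_of_index_prime (by rw [← relIndex, b]; exact Fact.out)

end Cfsg.Agent.S3003
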