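import Cfsg.Statements.S3008
import Cfsg.Agent.Lib.Amalg.CD

set_option autoImplicit false
open Cfsg

namespace Cfsg.Agent.S3008

open Subgroup Cfsg.Lib.Amalg
open Cfsg.Lib.Core hiding isPGroup_subgroupOf isPGroup_subgroupOf_iff isPGroup_map_subtype_iff isPGroup_zpowers_of_orderOf
open scoped commutatorElement

theorem relIndex_le_of_map {G : Type*} [Group G] [Finite G] {W X Y : Subgroup G} (φ : G → G)
    (hφ : ∀ x ∈ X, φ x ∈ Y) (h : ∀ x ∈ X, ∀ y ∈ X, (φ x)⁻¹ * φ y ∈ W → x⁻¹ * y ∈ W) :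
    W.relIndex X ≤ W.relIndex Y := by
  refine Nat.card_le_card_of_injective
    (fun q : X ⧸ W.subgroupOf X => ((⟨φ q.out, hφ _ q.out.2⟩ : Y) : Y ⧸ W.subgroupOf Y)) ?_
  intro a b e
  rw [← QuotientGroup.out_eq' a, ← QuotientGroup.out_eq' b, QuotientGroup.eq]
  exact h _ a.out.2 _ b.out.2 (QuotientGroup.eq (s := W.subgroupOf Y).1 e)

open Pointwise

theorem replace {G : Type*} [Group G] [Finite G] {p : ℕ} [Fact p.Prime] (hG : IsPGroup p G)
    {n : ℕ} (hn : (⊤ : Subgroup G).lowerCentralSeries n = ⊥) {Q A : Subgroup G} (hQ : MCL Q)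
    (hA : IsMulCommutative A)
    (hQA : ((𝐂 Q ⊔ A : Subgroup G) : Set G) = (𝐂 Q : Set G) * (A : Set G)) (hne : ¬ A ≤ 𝐍 (𝐂 Q)) :
    ∃ Q', MCL Q' ∧ ∑ i ∈ Finset.range (n + 1),
      Nat.card (𝐂 Q ⊓ (⊤ : Subgroup G).lowerCentralSeries i : Subgroup G) <
      ∑ i ∈ Finset.range (n + 1),
      Nat.card (𝐂 Q' ⊓ (⊤ : Subgroup G).lowerCentralSeries i : Subgroup G) := by
  set Z := 𝐂 Q with hZ
  set γ := (⊤ : Subgroup G).lowerCentralSeries with hγ
  have hZc := hQ.1.comm_cent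
  have cZ : ∀ x ∈ Z, ∀ y ∈ Z, Commute x y := fun x hx y hy => comm_of_mem_of_isMulCommutative hZc hx hy
  have h1 : (Z ⊔ A) ⊓ 𝐍 Z < Z ⊔ A := lt_of_le_of_ne inf_le_left fun e =>
    hne (le_sup_right.trans (inf_eq_left.1 e))
  obtain ⟨x, hx, hx'⟩ := SetLike.exists_of_lt (lt_inf_normalizer_of_lt (hG.to_subgroup _) h1)
  obtain ⟨z, hz, a, ha, rfl⟩ := mem_mul_of_coe_eq hQA hx.1
  have hZN : Z ≤ (Z ⊔ A) ⊓ 𝐍 Z := le_inf le_sup_left le_normalizer
  have ha1 : a ∉ 𝐍 Z := fun h => hx' ⟨hx.1, mul_mem (le_normalizer hz) h⟩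
  set R := cj a Q with hR
  have hRm : MCL R := hQ.conj a
  have hZ' : 𝐂 R = cj a Z := (cj_centralizer a Q).symm
  set W := Z ⊓ 𝐂 R with hW
  have hM := ito hA hZc (coe_sup_symm hQA)
  have hE : 𝐂 (Q ⊓ R) = Z ⊔ 𝐂 R := hQ.1.1.cent_inf hRm.1.1
  have hWc : W ≤ 𝐂 (Z ⊔ 𝐂 R) := by
    rw [centralizer_sup]
    exact inf_le_inf (isMulCommutative_iff_le_cent.1 hZc)
      (isMulCommutative_iff_le_cent.1 hRm.1.comm_cent)
  set B := (⁅A, Z⁆ ⊓ (Z ⊔ 𝐂 R)) ⊔ W with hB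
  have hBc : IsMulCommutative B :=
    comm_sup (isMulCommutative_of_le' hM inf_le_left) (isMulCommutative_of_le' hZc inf_le_left)
      (inf_le_right.trans (le_cent_symm hWc))
  have hBD : B ≤ 𝐂 (Q ⊓ R) := hE ▸ sup_le inf_le_right (inf_le_left.trans le_sup_left)
  have hK : ∀ u ∈ Z, a * u * a⁻¹ ∈ Z → u ∈ W := by
    intro u hu hu'
    refine ⟨hu, MCL.cent_inf hQ.1 hRm ⟨?_, hu⟩⟩
    rw [← hRm.1.1.cent_cent, hZ']
    intro w hw
    obtain ⟨y, hy, rfl⟩ := mem_cj'.1 hw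
    have c1 : Commute ⁅a, u⁆ ⁅a, y⁆ := comm_of_mem_of_isMulCommutative hM
      (commutator_mem_commutator ha hu) (commutator_mem_commutator ha hy)
    have c2 : Commute ⁅a, u⁆ y := cZ _ (mul_mem hu' (inv_mem hu)) _ hy
    have c3 : Commute ⁅a, u⁆ (a * y * a⁻¹) := by
      have := c1.mul_right c2
      rwa [commutatorElement_def a y, inv_mul_cancel_right] at this
    have c4 : Commute (a * u * a⁻¹) (a * y * a⁻¹) := (cZ _ hu _ hy).conj a
    have := c3.inv_left.mul_left c4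
    rw [commutatorElement_def, mul_inv_rev, inv_inv, inv_mul_cancel_right] at this
    exact this.symm
  have hr : ∀ i, W.relIndex (Z ⊓ γ i) ≤ W.relIndex (B ⊓ γ (i + 1)) := by
    intro i
    refine relIndex_le_of_map (fun y => ⁅a, y⁆) (fun y hy => ⟨mem_sup_left
      ⟨commutator_mem_commutator ha hy.1, (Z ⊔ 𝐂 R).mul_mem (mem_sup_right (hZ' ▸ conj_mem_cj a hy.1))
        ((Z ⊔ 𝐂 R).inv_mem (mem_sup_left hy.1))⟩, ?_⟩) fun x hx y hy h => hK _ (Z.mul_mem (Z.inv_mem hx.1) hy.1) ?_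
    · have : ⁅a, y⁆ ∈ ⁅γ i, (⊤ : Subgroup G)⁆ := by
        rw [commutator_comm]; exact commutator_mem_commutator (mem_top a) hy.2
      exact this
    · have e : a * (x⁻¹ * y) * a⁻¹ = x⁻¹ * (⁅a, x⁆⁻¹ * ⁅a, y⁆) * y := by
        simp only [commutatorElement_def]; group
      rw [e]; exact Z.mul_mem (Z.mul_mem (Z.inv_mem hx.1) h.1) hy.1
  have hs : ∀ i, W.relIndex (B ⊓ γ (i + 1)) ≤ W.relIndex (B ⊓ γ i) := fun i =>
    relIndex_le_of_le_right (inf_le_inf_left _ (Subgroup.lowerCentralSeries_antitone ⊤ (Nat.le_succ i)))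
      (index_ne_zero_of_finite)
  have c1 : ∀ i, Nat.card (W ⊓ γ i : Subgroup G) * W.relIndex (Z ⊓ γ i) =
      Nat.card (Z ⊓ γ i : Subgroup G) := fun i => by
    rw [← card_inf_mul_relIndex W (Z ⊓ γ i), ← inf_assoc, inf_eq_left.2 (inf_le_left : W ≤ Z)]
  have c2 : ∀ i, Nat.card (W ⊓ γ i : Subgroup G) * W.relIndex (B ⊓ γ i) =
      Nat.card (B ⊓ γ i : Subgroup G) := fun i => by
    rw [← card_inf_mul_relIndex W (B ⊓ γ i), ← inf_assoc, inf_eq_left.2 (le_sup_right : W ≤ B)]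
  have hle : ∀ i, Nat.card (Z ⊓ γ i : Subgroup G) ≤ Nat.card (B ⊓ γ i : Subgroup G) := fun i => by
    rw [← c1, ← c2]; exact Nat.mul_le_mul_left _ ((hr i).trans (hs i))
  have hlt : ∃ i ∈ Finset.range (n + 1),
      Nat.card (Z ⊓ γ i : Subgroup G) < Nat.card (B ⊓ γ i : Subgroup G) := by
    by_contra hc
    push Not at hc
    have h2 : ∀ i ≤ n, W.relIndex Z ≤ W.relIndex (Z ⊓ γ i) := by
      intro i hi
      induction i with
      | zero => simp [hγ]
      | succ i ih =>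
        refine (ih (by omega)).trans ((hr i).trans ?_)
        have := hc (i + 1) (Finset.mem_range.2 (by omega))
        rw [← c1, ← c2] at this
        exact Nat.le_of_mul_le_mul_left this (card_pos' _)
    have h3 := h2 n le_rfl
    rw [hn, inf_bot_eq, relIndex_bot_right] at h3
    have h4 : W.relIndex Z = 1 := le_antisymm h3 (Nat.pos_of_ne_zero index_ne_zero_of_finite)
    rw [relIndex_eq_one] at h4
    refine ha1 (cj_eq_self_iff.1 (eq_of_le_of_card_ge ?_ (card_cj a Z).le).symm)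
    exact hZ' ▸ h4.trans inf_le_right
  have hZB : Nat.card Z ≤ Nat.card B := by simpa [hγ] using hle 0
  have hBC : B ≤ 𝐂 ((Q ⊓ R) ⊔ B) := by
    rw [centralizer_sup]; exact le_inf hBD (isMulCommutative_iff_le_cent.1 hBc)
  have h5 : Q ⊓ R ⊓ B ≤ W := by
    refine le_inf ?_ ?_
    · rw [hZ, ← hQ.inf_sup hRm.1, centralizer_sup, hQ.inf_sup hRm.1, hQ.1.1.cent_cent]
      exact le_inf (inf_le_right.trans hBD) (inf_le_left.trans inf_le_left)
    · rw [← hRm.inf_sup hQ.1, centralizer_sup, hRm.inf_sup hQ.1, hRm.1.1.cent_cent, inf_comm R]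
      exact le_inf (inf_le_right.trans hBD) (inf_le_left.trans inf_le_right)
  have h6 : Nat.card Q ≤ Nat.card ((Q ⊓ R) ⊔ B : Subgroup G) := by
    refine Nat.le_of_mul_le_mul_right ?_ (card_pos' W)
    calc _ = _ := hQ.card_mul hRm
      _ ≤ Nat.card (Q ⊓ R : Subgroup G) * Nat.card B := Nat.mul_le_mul_left _ hZB
      _ ≤ _ := card_mul_card_le_sup _ _
      _ ≤ _ := Nat.mul_le_mul_left _ (card_le_of_le h5)
  obtain ⟨e1, e2⟩ := eq_and_eq_of_mul_le (card_pos' _) (card_pos' _) h6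
    (hZB.trans (card_le_of_le hBC)) (hQ.1.1 _)
  have e3 : B = 𝐂 ((Q ⊓ R) ⊔ B) := eq_of_le_of_card_ge hBC (e2.ge.trans hZB)
  refine ⟨(Q ⊓ R) ⊔ B, hQ.of_card_le ⟨hQ.1.1.of_le (by rw [← e1, ← e2]), e3 ▸ le_sup_right⟩ e1.ge, ?_⟩
  rw [← e3]
  exact Finset.sum_lt_sum (fun i _ => hle i) hlt

/-- Let P be a finite p-group, with J(P) generated by its abelian subgroups of largest order and J̃(P) = C_P(Z(J(P))); call R ≤ P centrally large if |R|·|Z(R)| is as large as possible, and let P_MCL be generated by the minimal centrally large subgroups. Then: for every centrally large Q, Q·J(P) ⊇ J̃(P); some minimal centrally large subgroup of P is normalized by both J(P) and P_MCL; if P = J(P) and d(P)² = |P|·|Z(P)|, where d(P) is the largest order of an abelian subgroup, then every minimal centrally large subgroup of P is abelian; and if every minimal centrally large subgroup is abelian then J̃(P) = J(P). -/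
theorem result {p : ℕ} [Fact p.Prime] (P : Type*) [Group P] [Finite P] (hP : IsPGroup p P) : (∀ Q : Subgroup P, Cfsg.IsCentrallyLarge Q → Subgroup.centralizer ((Cfsg.thompsonSubgroupA P ⊓ Subgroup.centralizer (Cfsg.thompsonSubgroupA P : Set P) : Subgroup P) : Set P) ≤ Q ⊔ Cfsg.thompsonSubgroupA P) ∧ (∃ Q : Subgroup P, Cfsg.IsMinimalCentrallyLarge Q ∧ Cfsg.thompsonSubgroupA P ≤ Subgroup.normalizer (Q : Set P) ∧ Cfsg.minimalCentrallyLargeJoin P ≤ Subgroup.normalizer (Q : Set P)) ∧ (Cfsg.thompsonSubgroupA P = ⊤ → (∀ A ∈ Cfsg.maxAbelianSubgroups P, Nat.card ↥A ^ 2 = Nat.card P * Nat.card ↥(Subgroup.center P)) → ∀ Q : Subgroup P, Cfsg.IsMinimalCentrallyLarge Q → IsMulCommutative ↥Q) ∧ ((∀ Q : Subgroup P, Cfsg.IsMinimalCentrallyLarge Q → IsMulCommutative ↥Q) → Subgroup.centralizer ((Cfsg.thompsonSubgroupA P ⊓ Subgroup.centralizer (Cfsg.thompsonSubgroupA P : Set P) : Subgroup P) : Set P) = Cfsg.thompsonSubgroupA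 P) := by
  simp only [cl_iff, mcl_iff]
  obtain ⟨R, hR⟩ := exists_cl (G := P)
  obtain ⟨M, -, hM⟩ := hR.exists_mcl
  refine ⟨fun Q h => h.cent_ZJ_le, ?_, fun h1 h2 Q hQ => ?_, fun h => ?_⟩
  · obtain ⟨n, hn⟩ := Subgroup.nilpotent_iff_lowerCentralSeries.1 hP.isNilpotent
    obtain ⟨Q, hQ, hmax⟩ := Set.exists_max_image {Q : Subgroup P | MCL Q}
      (fun Q => ∑ i ∈ Finset.range (n + 1),
        Nat.card (𝐂 Q ⊓ (⊤ : Subgroup P).lowerCentralSeries i : Subgroup P)) (Set.toFinite _) ⟨M, hM⟩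
    have key : ∀ A : Subgroup P, IsMulCommutative A →
        ((𝐂 Q ⊔ A : Subgroup P) : Set P) = (𝐂 Q : Set P) * (A : Set P) → A ≤ 𝐍 Q := by
      intro A h1 h2
      have : A ≤ 𝐍 (𝐂 Q) := by
        by_contra hne
        obtain ⟨Q', a1, a2⟩ := replace hP hn hQ h1 h2 hne
        exact not_le.2 a2 (hmax Q' a1)
      have := le_normalizer_centralizer this
      rwa [hQ.1.1.cent_cent] at this
    refine ⟨Q, hQ, sSup_le fun A hA => key A hA.1 (hQ.1.inf_cent_maxAb hA).2, sSup_le fun A hA => ?_⟩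
    have hA := mcl_iff.1 hA
    rw [← hA.inf_sup hQ.1]
    exact sup_le (le_normalizer_of_le inf_le_right)
      (key _ hA.1.comm_cent (hQ.1.1.cent.coe_sup hA.1.1.cent))
  · obtain ⟨A, hA⟩ := exists_maxAb (G := P)
    have h3 := hR.sup_J
    rw [h1, sup_top_eq] at h3
    have h4 : CL A := ⟨h3.1.of_le (by
      rw [centralizer_top, card_top, ← h2 A hA, maxAb_cent hA, pow_two]), (maxAb_cent hA).le⟩
    obtain ⟨B, b1, b2⟩ := h4.exists_mcl
    exact ((b2.maxAb_iff (isMulCommutative_of_le' hA.1 b1)).1 hQ).1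
  · refine le_antisymm (hM.1.cent_ZJ_le.trans (sup_le ?_ le_rfl)) (le_cent_symm inf_le_right)
    exact maxAb_le_J ((hM.maxAb_iff (h M hM)).1 hM)

end Cfsg.Agent.S3008
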