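import Cfsg.Statements.S3009
import Cfsg.Agent.Lib.Push.NatR

set_option autoImplicit false
open Cfsg

namespace Cfsg.Agent.S3009

open Cfsg.Lib Cfsg.Lib.Amalg Cfsg.Lib.Amalg.TV Cfsg.Lib.Push Subgroup
open scoped MatrixGroups commutatorElement

/-- Let p be a prime and let G and V be subgroups of a finite group with V elementary abelian and normalized by G, and G isomorphic to SL₂(F) for a finite field F with pⁿ elements. Suppose G acts irreducibly and nontrivially on V by conjugation (no G-invariant subgroups of V other than 1 and V, and [V, G] ≠ 1), and let S be a Sylow p-subgroup of G and V₀ = C_V(S). If [V, S, S] = 1 or |V| ≤ |V₀|², then G acts on V as SL₂(F) on its natural two-dimensional module; in particular |V| = |F|². -/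
theorem result {X : Type*} [Group X] [Finite X] {p : ℕ} [Fact p.Prime] (G V : Subgroup X) (hV : Cfsg.IsElementaryAbelian p V) (hGV : G ≤ Subgroup.normalizer (V : Set X)) (F : Type) [Field F] [Fintype F] (n : ℕ) (hF : Fintype.card F = p ^ n) (hG : Nonempty (↥G ≃* Matrix.SpecialLinearGroup (Fin 2) F)) (hirr : ∀ U : Subgroup X, U ≤ V → G ≤ Subgroup.normalizer (U : Set X) → U = ⊥ ∨ U = V) (hnt : ⁅V, G⁆ ≠ ⊥) (S : Sylow p ↥G) (hyp : ⁅⁅V, (S : Subgroup ↥G).map G.subtype⁆, (S : Subgroup ↥G).map G.subtype⁆ = ⊥ ∨ Nat.card ↥V ≤ Nat.card ↥(V ⊓ Subgroup.centralizer (((S : Subgroup ↥G).map G.subtype : Subgroup X) : Set X)) ^ 2) : Cfsg.ActsAsSL2OnSection F ⊤ G V ⊥ := by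
  haveI : _root_.CharP F p := charP_of_card_eq_prime_pow hF
  rw [← Nat.card_eq_fintype_card] at hF
  obtain ⟨e₀⟩ := hG
  obtain ⟨g, hg⟩ := exists_conj_up hF (S.mapSurjective (f := e₀.toMonoidHom) e₀.surjective)
  let e := e₀.trans (MulAut.conj g)
  have hS : ∀ s : G, s ∈ (S : Subgroup G) ↔ e s ∈ (upH F).range := fun s =>
    (mem_map_iff_mem (f := e₀.toMonoidHom) e₀.injective).symm.trans ((hg _).trans
      ⟨fun ⟨c, h⟩ => ⟨.ofAdd c, h.symm⟩, fun ⟨c, h⟩ => ⟨c.toAdd, h.symm⟩⟩)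
  letI : DistribMulAction SL(2, F) (Md V hV.1) := DistribMulAction.compHom _
    (((BG1.actHom V).comp (inclusion hGV)).comp e.symm.toMonoidHom)
  haveI : Finite (Md V hV.1) := inferInstanceAs (Finite V)
  let ι := Md.val V hV.1
  have hι : Function.Injective ι := fun a b e => Subtype.ext e
  have hm : ∀ w, ι w ∈ V := fun w => Subtype.prop _
  have hs : ∀ x ∈ V, ∃ w, ι (.ofAdd w) = x := fun x hx => ⟨(⟨x, hx⟩ : V), rfl⟩
  have hc : ∀ (g : G) (w : Md V hV.1), ι (.ofAdd (e g • w)) = g * ι (.ofAdd w) * (g : G)⁻¹ := fun g w => by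
    change (e.symm (e g) : X) * _ * (e.symm (e g) : X)⁻¹ = _
    rw [e.symm_apply_apply]; rfl
  have hf : ∀ (g : G) (w : Md V hV.1), e g • w = w ↔ g * ι (.ofAdd w) = ι (.ofAdd w) * g := fun g w => by
    rw [← mul_inv_eq_iff_eq_mul, ← coe_inv, ← hc, hι.eq_iff, EmbeddingLike.apply_eq_iff_eq]
  have h0 : ∀ w : Md V hV.1, w ∈ F0 F (Md V hV.1) ↔ ι (.ofAdd w) ∈ 𝐂 ((S : Subgroup G).map G.subtype) := fun w =>
    ⟨fun h _ ⟨s, hs, e⟩ => e ▸ (hf s w).1 (h _ ((hS s).1 hs)), fun h a ha => by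
      obtain ⟨s, rfl⟩ := e.surjective a
      exact (hf s w).2 (h _ ⟨s, (hS s).2 ha, rfl⟩)⟩
  have hp : ∀ w : Md V hV.1, p • w = 0 := fun w => by
    have := hV.2 _ (hm (.ofAdd w))
    rwa [← map_pow, map_eq_one_iff _ hι] at this
  have h1 : ∀ U : AddSubgroup (Md V hV.1), Inv (⊤ : Subgroup SL(2, F)) U → U = ⊥ ∨ U = ⊤ := fun U hU => by
    refine (hirr (am ι U) (am_le_iff'.2 fun w _ => hm _) fun g hg => mem_normalizer_of_cj_le (cj_le_iff'.2 ?_)).imp
      (fun h => eq_bot_iff.2 fun w hw => ?_) fun h => eq_top_iff.2 fun w _ => ?_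
    · rintro _ ⟨w, hw, rfl⟩
      exact ⟨_, hU (e ⟨g, hg⟩) trivial _ hw, hc ⟨g, hg⟩ _⟩
    · exact (map_eq_one_iff _ hι).1 (mem_bot.1 (h ▸ mem_am_of_mem hw))
    · obtain ⟨u, hu, e⟩ := mem_am.1 (h.symm ▸ hm (.ofAdd w) : ι (.ofAdd w) ∈ am ι U)
      exact (show u = w from hι e) ▸ hu
  have h2 : fx (Md V hV.1) (⊤ : Subgroup SL(2, F)) ≠ ⊤ := fun h => hnt (comm_eq_bot_iff.2 fun x hx g hg => by
    obtain ⟨w, rfl⟩ := hs x hx
    exact (hf ⟨g, hg⟩ w).1 ((h ▸ AddSubgroup.mem_top w : w ∈ fx _ ⊤) _ trivial))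
  obtain ⟨θ, hθ⟩ := exists_nat h1 h2 hp (hyp.elim (fun h a ha w => (h0 _).2 (by
    obtain ⟨s, rfl⟩ := e.surjective a
    rw [dl_apply, ofAdd_sub, map_div, hc, div_eq_mul_inv]
    refine comm_eq_bot_iff.1 h ?_
    rw [commutator_comm]
    exact commutator_mem_commutator ⟨s, (hS s).2 ha, rfl⟩ (hm _))) fun h => quad_of_card h1 h2 hp
      (h.trans (Nat.pow_le_pow_left (Nat.card_le_card_of_surjective (fun w : F0 F (Md V hV.1) =>
        (⟨_, hm _, (h0 w).1 w.2⟩ : ↥(V ⊓ 𝐂 ((S : Subgroup G).map G.subtype)))) fun x => by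
          obtain ⟨w, hw⟩ := hs x x.2.1
          exact ⟨⟨w, (h0 w).2 (hw ▸ x.2.2)⟩, Subtype.ext hw⟩) 2)))
  refine ⟨hGV, bot_le, e.toMonoidHom, MonoidHom.mk' (fun v => .ofAdd (θ.symm v)) fun a b => θ.symm.map_add a b,
    MonoidHom.range_eq_top.2 e.surjective, fun m => ⟨θ m.toAdd, θ.symm_apply_apply _⟩, fun u => ?_, fun a u => ?_⟩
  · exact θ.symm.map_eq_zero_iff.trans (Subtype.ext_iff.trans mem_bot.symm)
  · refine ⟨e a • (show Md V hV.1 from u), hc a u, θ.symm_apply_eq.2 ?_⟩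
    exact ((hθ (e a) (θ.symm u)).trans (congrArg (e a • ·) (θ.apply_symm_apply u))).symm

end Cfsg.Agent.S3009
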