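import Cfsg.Statements.S3011
import Cfsg.Agent.Lib.Amalg.Sidki

set_option autoImplicit false
open Cfsg

namespace Cfsg.Agent.S3011

open Subgroup Cfsg.Lib.Amalg
open Cfsg.Lib.Core hiding isPGroup_subgroupOf isPGroup_subgroupOf_iff isPGroup_map_subtype_iff isPGroup_zpowers_of_orderOf
open scoped commutatorElement

theorem key {G : Type*} [Group G] {a b c x y : G} (ab : a * b = b * a) (hc : c = a * b)
    (hb : b * b = 1)
    (h : ∀ z, Odd (orderOf z) → b * z * b⁻¹ = z⁻¹ → a * z = z * a ∨ c * z = z * c)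
    (h' : ∀ z, Odd (orderOf z) → c * z * c⁻¹ = z⁻¹ → a * z = z * a ∨ b * z = z * b)
    (ox : Odd (orderOf x)) (oy : Odd (orderOf y)) (xa : a * x = x * a) (xb : b * x * b⁻¹ = x⁻¹)
    (yb : b * y = y * b) (ya : a * y * a⁻¹ = y⁻¹) : x = 1 ∨ y = 1 := by
  have one : ∀ z : G, Odd (orderOf z) → z = z⁻¹ → z = 1 := fun z o e =>
    Lib.Invol.eq_one_of_odd_of_inv o e.symm
  have xc : c * x * c⁻¹ = x⁻¹ := by
    rw [hc, show a * b * x * (a * b)⁻¹ = a * (b * x * b⁻¹) * a⁻¹ by group, xb,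
      (Commute.inv_right xa).eq]; group
  have yc : c * y * c⁻¹ = y⁻¹ := by
    rw [hc, show a * b * y * (a * b)⁻¹ = a * (b * y) * b⁻¹ * a⁻¹ by group, yb, ← ya]; group
  rcases h (y * x * y⁻¹) (by rwa [show y * x * y⁻¹ = MulAut.conj y x from rfl, MulEquiv.orderOf_eq])
    (by rw [show b * (y * x * y⁻¹) * b⁻¹ = (b * y) * x * (b * y)⁻¹ by group, yb,
      show y * b * x * (y * b)⁻¹ = y * (b * x * b⁻¹) * y⁻¹ by group, xb]; group) with e | e
  · have e1 : x * y ^ 2 ^ 1 = y ^ 2 ^ 1 * x := by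
      have : a * (y * x * y⁻¹) * a⁻¹ = y⁻¹ * x * y := by
        rw [show a * (y * x * y⁻¹) * a⁻¹ = (a * y * a⁻¹) * (a * x) * a⁻¹ * (a * y * a⁻¹)⁻¹ by group,
          ya, xa]; group
      rw [e, mul_inv_cancel_right] at this
      rw [pow_one, sq, show x * (y * y) = y * (y⁻¹ * x * y) * y by group, ← this]; group
    have e2 := commute_of_two_pow oy e1
    rcases h' (x * y) (odd_mul_of_commute ox oy e2) (by
      rw [show c * (x * y) * c⁻¹ = (c * x * c⁻¹) * (c * y * c⁻¹) by group, xc, yc, e2]; group)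
      with f | f
    · refine .inr (one y oy ?_)
      rw [← ya, ← mul_assoc, xa, mul_assoc, mul_assoc, mul_right_inj] at *
      rw [← mul_assoc, f, mul_inv_cancel_right]
    · refine .inl (one x ox ?_)
      rw [mul_assoc, ← yb, ← mul_assoc, ← mul_assoc, mul_left_inj] at f
      rw [← xb, f, mul_inv_cancel_right]
  · have e1 : y ^ 2 * x * (y ^ 2)⁻¹ = x⁻¹ := by
      have : c * (y * x * y⁻¹) * c⁻¹ = y⁻¹ * x⁻¹ * y := by
        rw [show c * (y * x * y⁻¹) * c⁻¹ = (c * y * c⁻¹) * (c * x * c⁻¹) * (c * y * c⁻¹)⁻¹ by group,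
          yc, xc]; group
      rw [e, mul_inv_cancel_right] at this
      rw [sq, show y * y * x * (y * y)⁻¹ = y * (y * x * y⁻¹) * y⁻¹ by group, this]; group
    have e2 : x * y ^ 2 ^ 2 = y ^ 2 ^ 2 * x := by
      rw [show y ^ 2 ^ 2 * x = y ^ 2 * (y ^ 2 * x * (y ^ 2)⁻¹) * y ^ 2 by group, e1,
        show y ^ 2 * x⁻¹ * y ^ 2 = (y ^ 2 * x * (y ^ 2)⁻¹)⁻¹ * y ^ 2 ^ 2 by group, e1, inv_inv]
    have e3 : Commute x y := commute_of_two_pow oy e2
    refine .inl (one x ox ?_)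
    rw [← e1, ← (e3.pow_right 2).eq, mul_inv_cancel_right]

/-- Let G be a finite group and V a nontrivial elementary abelian 2-subgroup of G of order at most 4 such that, whenever an element of V inverts an element h of G of odd order, some nontrivial element of V commutes with h. Then V meets O₂(G) nontrivially. (The case of order at most 4 has a short argument from the Baer–Suzuki theorem.) -/
theorem result {G : Type*} [Group G] [Finite G] (V : Subgroup G) (hV : Cfsg.IsElementaryAbelian 2 V) (hV1 : V ≠ ⊥) (hS : Cfsg.IsSidkiPair V) (h4 : Nat.card V ≤ 4) : V ⊓ Cfsg.pCore 2 G ≠ ⊥ := by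
  intro hc
  have sq1 : ∀ v ∈ V, v * v = 1 := fun v hv => by rw [← sq]; exact hV.2 v hv
  have cm : ∀ v ∈ V, ∀ w ∈ V, v * w = w * v := fun v hv w hw => elemAb_le_cent hV hw v hv
  have ex : ∀ v ∈ V, v ≠ 1 → ∃ x, x ≠ 1 ∧ Odd (orderOf x) ∧ v * x * v⁻¹ = x⁻¹ ∧
      ∃ w ∈ V, w ≠ 1 ∧ w ≠ v ∧ w * x = x * w := fun v hv n => by
    obtain ⟨x, -, h1, h2, h3⟩ := exists_inverted_of_not_mem_op (sq1 v hv) (mem_top v)
      fun c => n (mem_bot.1 (hc ▸ mem_inf.2 ⟨hv, Lib.Amalg.op_top (G := G) ▸ c⟩))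
    obtain ⟨w, hw, k1, k2⟩ := hS x v hv h2 h3
    refine ⟨x, h1, h2, h3, w, hw, k1, fun e => h1 (Lib.Invol.eq_one_of_odd_of_inv h2 ?_), k2⟩
    rw [← h3, ← e, k2, mul_inv_cancel_right]
  have four : ∀ a ∈ V, ∀ b ∈ V, a ≠ 1 → b ≠ 1 → a ≠ b → ∀ w ∈ V, w ≠ 1 →
      w = a ∨ w = b ∨ w = a * b := fun a ha b hb na nb ab w hw nw => by
    by_contra c
    simp only [not_or] at c
    classical
    have n1 : a * b ≠ 1 := fun e => ab (mul_left_cancel (e.trans (sq1 a ha).symm)).symm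
    have : ({1, a, b, a * b, w} : Finset G).card ≤ Nat.card V := by
      rw [← Nat.card_eq_finsetCard]
      exact Nat.card_le_card_of_injective (Set.inclusion (t := (V : Set G)) (by
        simp [Set.insert_subset_iff, V.one_mem, ha, hb, hw, V.mul_mem ha hb])) (Set.inclusion_injective _)
    rw [Finset.card_insert_of_notMem (by simp [na.symm, nb.symm, n1.symm, nw.symm]),
      Finset.card_insert_of_notMem (by simp [ab, nb, Ne.symm c.1]),
      Finset.card_insert_of_notMem (by simp [na, Ne.symm c.2.1]),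
      Finset.card_insert_of_notMem (by simp [Ne.symm c.2.2]), Finset.card_singleton] at this
    omega
  have fin : ∀ a ∈ V, ∀ b ∈ V, a ≠ 1 → b ≠ 1 → a ≠ b → ∀ x y : G, Odd (orderOf x) → Odd (orderOf y) →
      a * x = x * a → b * x * b⁻¹ = x⁻¹ → b * y = y * b → a * y * a⁻¹ = y⁻¹ → x = 1 ∨ y = 1 :=
    fun a ha b hb na nb ab x y ox oy h1 h2 h3 h4 => by
      refine key (cm a ha b hb) rfl (sq1 b hb) (fun z o e => ?_) (fun z o e => ?_) ox oy h1 h2 h3 h4
      · obtain ⟨w, hw, k1, k2⟩ := hS z b hb o e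
        rcases four a ha b hb na nb ab w hw k1 with rfl | rfl | rfl
        exacts [.inl k2, .inl (by
          rw [k2, mul_inv_cancel_right] at e
          rw [Lib.Invol.eq_one_of_odd_of_inv o e.symm, mul_one, one_mul]), .inr k2]
      · obtain ⟨w, hw, k1, k2⟩ := hS z _ (V.mul_mem ha hb) o e
        rcases four a ha b hb na nb ab w hw k1 with rfl | rfl | rfl
        exacts [.inl k2, .inr k2, .inl (by
          rw [k2, mul_inv_cancel_right] at e
          rw [Lib.Invol.eq_one_of_odd_of_inv o e.symm, mul_one, one_mul])]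
  obtain ⟨⟨v, hv⟩, n⟩ := ne_bot_iff_exists_ne_one.1 hV1
  have nv : v ≠ 1 := fun e => n (Subtype.ext e)
  obtain ⟨x, x1, ox, xv, a, ha, na, av, xa⟩ := ex v hv nv
  obtain ⟨y, y1, oy, ya, b, hb, nb, ba, yb⟩ := ex a ha na
  refine (fin a ha b hb na nb ba.symm x y ox oy xa ?_ yb ya).elim x1 y1
  rcases four a ha v hv na nv av b hb nb with rfl | rfl | rfl
  exacts [absurd rfl ba, xv, by
    rw [show a * v * x * (a * v)⁻¹ = a * (v * x * v⁻¹) * a⁻¹ by group, xv, (Commute.inv_right xa).eq,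
      mul_inv_cancel_right]]

end Cfsg.Agent.S3011
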