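import Cfsg.Statements.S3014
import Cfsg.Agent.Lib.Amalg.Ops
import Cfsg.Agent.Lib.Clifford.Frobenius

set_option autoImplicit false
open Cfsg

namespace Cfsg.Agent.S3014

open Subgroup Cfsg.Lib.Amalg
open Cfsg.Lib.Core hiding isPGroup_subgroupOf isPGroup_subgroupOf_iff isPGroup_map_subtype_iff isPGroup_zpowers_of_orderOf
open scoped commutatorElement

/-- Let G be a finite group and H ≤ M ≤ G subgroups such that for every g ∈ G the subgroup generated by H and g H g⁻¹ meets M exactly in H. If H is a maximal subgroup of M and M is a maximal subgroup of G, then the normal closure of H in G meets M exactly in H. -/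
theorem result {G : Type*} [Group G] [Finite G] (H M : Subgroup G) (hHM : H ≤ M) (hcl : ∀ g : G, (H ⊔ H.map (MulAut.conj g).toMonoidHom) ⊓ M = H) (hmaxH : IsCoatom (H.subgroupOf M)) (hmaxM : IsCoatom M) : Subgroup.normalClosure (H : Set G) ⊓ M = H := by
  have mx : ∀ K : Subgroup G, H ≤ K → ∀ a ∈ M, a ∉ H → a ∈ K → M ≤ K := fun K h a ha hn hK =>
    subgroupOf_eq_top.1 (hmaxH.2 _ (lt_of_le_of_ne (comap_mono h) fun e =>
      hn (e.ge (show (⟨a, ha⟩ : M) ∈ K.subgroupOf M from hK))))
  have nH : M ≤ normalizer (H : Set G) := fun m hm => mem_normalizer_of_cj_le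
    (le_trans (le_inf le_sup_right (cj_le_of_le_of_mem hHM hm)) (hcl m).le)
  have fin : ∀ (N : Subgroup G) [N.Normal], N ⊓ M = H → normalClosure (H : Set G) ⊓ M = H := fun N _ e =>
    le_antisymm ((inf_le_inf_right M (normalClosure_le_normal (e.ge.trans inf_le_left))).trans e.le)
      (le_inf le_normalClosure hHM)
  by_cases h : ∀ g ∈ (⊤ : Subgroup G), g ∉ M → ∀ a ∈ M, g * a * g⁻¹ ∈ M → a ∈ H
  · obtain ⟨N, -, h2, h3, -⟩ := Lib.Clifford.frobenius_wielandt hHM
      (fun g hg n => (mem_normalizer_iff.1 (nH hg) n).1) le_top h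
    haveI : N.Normal := ⟨fun n hn g => h2 g trivial n hn⟩
    exact fin N h3
  simp only [not_forall] at h
  obtain ⟨g, -, hg, a, ha, hga, hn⟩ := h
  have t : M ≤ normalizer ((H ⊔ cj g⁻¹ H : Subgroup G) : Set G) := mx _ (le_sup_left.trans le_normalizer)
    a ha hn (cj_eq_self_iff.1 (by
      rw [cj_sup, cj_of_mem_normalizer (nH ha), ← cj_mul, show a * g⁻¹ = g⁻¹ * (g * a * g⁻¹) by group,
        cj_mul, cj_of_mem_normalizer (nH hga)]))
  rcases t.eq_or_lt with e | e
  · have : g ∈ normalizer (H : Set G) := (inv_mem_iff (H := normalizer (H : Set G))).1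
      (mem_normalizer_of_cj_le (le_trans (le_inf le_sup_right (le_sup_right.trans
        (le_normalizer.trans e.ge))) (hcl g⁻¹).le))
    haveI := normal_of_top_le_normalizer (hmaxM.2 _ (lt_of_le_of_ne nH fun c => hg (c.ge this))).ge
    exact fin H (inf_eq_left.2 hHM)
  · haveI := normal_of_top_le_normalizer (hmaxM.2 _ e).ge
    exact fin _ (hcl g⁻¹)

end Cfsg.Agent.S3014
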