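import Cfsg.Statements.S3015
import Cfsg.Agent.S3014

set_option autoImplicit false
open Cfsg

namespace Cfsg.Agent.S3015

open Subgroup Cfsg.Lib.Amalg
open Cfsg.Lib.Core hiding isPGroup_subgroupOf isPGroup_subgroupOf_iff isPGroup_map_subtype_iff isPGroup_zpowers_of_orderOf
open scoped commutatorElement

/-- Let G be a finite non-abelian simple group, M a maximal subgroup of G and H a normal subgroup of M of prime index in M. Then G is generated by H together with one of its conjugates. -/
theorem result {G : Type*} [Group G] [Finite G] [IsSimpleGroup G] (hG : ¬ IsMulCommutative G) (M H : Subgroup G) (hmaxM : IsCoatom M) (hHM : H ≤ M) (hHn : (H.subgroupOf M).Normal) (hidx : (H.relIndex M).Prime) : ∃ g : G, H ⊔ H.map (MulAut.conj g).toMonoidHom = ⊤ := by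
  by_contra hn
  haveI := Fact.mk hidx
  have nH := (normal_subgroupOf_iff_le_normalizer hHM).1 hHn
  have mx : ∀ H' K : Subgroup G, H'.relIndex M = H.relIndex M → H' < K → K ≤ M → K = M :=
    fun H' K h h1 h2 => by
      have e := relIndex_mul_relIndex H' K M h1.le h2
      rw [h] at e
      rcases (Nat.dvd_prime hidx).1 (Dvd.intro _ e) with d | d
      · exact absurd (relIndex_eq_one.1 d) h1.not_ge
      · rw [d] at e
        exact le_antisymm h2 (relIndex_eq_one.1 (Nat.eq_of_mul_eq_mul_left hidx.pos (e.trans (mul_one _).symm)))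
  have ne : ¬ M ≤ H := fun c => hidx.one_lt.ne' (relIndex_eq_one.2 c)
  have sim : ∀ K : Subgroup G, K ≤ M → K ≠ ⊥ → M ≤ normalizer (K : Set G) → normalizer (K : Set G) = M :=
    fun K h1 h2 h3 => (h3.eq_or_lt.resolve_right fun c =>
      ((normal_of_top_le_normalizer (hmaxM.2 _ c).ge).eq_bot_or_eq_top).elim h2
        fun t => hmaxM.1 (top_le_iff.1 (t.ge.trans h1))).symm
  have nM := sim M le_rfl (fun c => ne (c.le.trans bot_le)) le_normalizer
  by_cases h0 : H = ⊥
  · obtain ⟨N, -, h2, h3, h4, -⟩ := Lib.Clifford.frobenius_complement (H := M) (K := ⊤) le_top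
      fun g _ hg a ha hga => by_contra fun n => hg (nM.le (cj_eq_self_iff.1 (by
        have k : ∀ a ∈ M, a ≠ 1 → zpowers a = M := fun a ha n =>
          mx H _ rfl (h0 ▸ bot_lt_iff_ne_bot.2 (zpowers_ne_bot.2 n)) (zpowers_le.2 ha)
        rw [← k a ha n, cj_zpowers, k a ha n, k _ hga (by simpa using n)])))
    rcases (⟨fun n hn g => h2 g trivial n hn⟩ : N.Normal).eq_bot_or_eq_top with rfl | rfl
    · exact hmaxM.1 (by simpa using h4)
    · exact ne (by simpa [h0] using h3)
  have key : ∀ g, cj g H ≤ M → cj g H = H := fun g hg => by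
    refine cj_of_mem_normalizer (nH ?_)
    have r : pResidualOf (H.relIndex M) M ≤ pResidualOf (H.relIndex M) H :=
      (res_eq_of_between (res_le_of_relIndex nH (pow_one _).symm) hHM).ge
    by_cases hR : pResidualOf (H.relIndex M) M = ⊥
    · have i : (cj g H).relIndex M = H.relIndex M := by
        have e1 := card_inf_mul_relIndex (cj g H) M
        have e2 := card_inf_mul_relIndex H M
        rw [inf_eq_left.2 hg, card_cj] at e1
        rw [inf_eq_left.2 hHM] at e2
        exact Nat.eq_of_mul_eq_mul_left Nat.card_pos (e1.trans e2.symm)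
      have := mx _ _ i (lt_inf_normalizer_of_lt (res_eq_bot_iff.1 hR) (lt_of_le_of_ne hg fun c =>
        hidx.one_lt.ne' (i ▸ relIndex_eq_one.2 c.ge))) inf_le_left
      rw [inf_eq_left, ← cj_normalizer, sim H hHM h0 nH] at this
      exact nM.le (cj_eq_self_iff.1 (eq_of_le_of_card_le' this (card_cj g M).le).symm)
    · refine (sim _ (Lib.Amalg.res_le M) hR (le_norm_res M)).le (mem_normalizer_of_cj_le
        ((cj_mono g r).trans ?_))
      rw [cj_res]
      exact res_mono hg
  have := S3014.result H M hHM (fun g => ?_) ⟨fun c => ne (subgroupOf_eq_top.1 c), fun K hK => ?_⟩ hmaxM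
  · rcases (normalClosure_normal (s := (H : Set G))).eq_bot_or_eq_top with e | e
    · exact h0 (eq_bot_iff.2 (le_normalClosure.trans e.le))
    · exact ne (by rw [← this, e, top_inf_eq])
  · by_contra c
    have e := mx H _ rfl (lt_of_le_of_ne (le_inf le_sup_left hHM) (Ne.symm c)) inf_le_right
    rcases (inf_eq_right.1 e).eq_or_lt with t | t
    · exact ne (t.le.trans (sup_le le_rfl (key g (le_sup_right.trans t.ge)).le))
    · exact hn ⟨g, hmaxM.2 _ t⟩
  · rw [← map_subtype_subgroupOf K, mx H (K.map M.subtype) rfl (by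
      rwa [← map_subgroupOf_of_le hHM, map_subtype_lt_map_subtype]) (map_subtype_le K), subgroupOf_self]

end Cfsg.Agent.S3015
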