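import Cfsg.Statements.S3017
import Cfsg.Agent.Lib.Amalg.ExtCl2
import Cfsg.Agent.S3020

set_option autoImplicit false
open Cfsg

namespace Cfsg.Agent.S3017

open Subgroup Cfsg.Lib.Amalg
open Cfsg.Lib.Core hiding isPGroup_subgroupOf isPGroup_subgroupOf_iff isPGroup_map_subtype_iff isPGroup_zpowers_of_orderOf
open scoped commutatorElement

/-- Let G be a finite group and H an abelian 2-subgroup of G that is extremely closed (for every g, the subgroup generated by H and g H g⁻¹ meets N_G(H) exactly in H). Then G = N_G(H) O(G), where O(G) is the largest normal subgroup of odd order. For H of order 2 this is Glauberman's Z*-statement. -/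
theorem result {G : Type*} [Group G] [Finite G] (H : Subgroup G) (hH2 : IsPGroup 2 H) (hHab : IsMulCommutative H) (hcl : Cfsg.IsExtremelyClosed H) : Subgroup.normalizer (H : Set G) ⊔ Cfsg.oddCore G = ⊤ := by
  refine ExtCl.NP.sup_eq_top ⟨hH2, isMulCommutative_iff_le_cent.1 hHab, fun g => ?_⟩
  exact ⟨_, ExtCl.odd_oc _, le_sup_left.trans (le_normalizer_pPrimeCoreOf _),
    le_sup_right.trans (Cfsg.Agent.S3020.result H hH2 hHab hcl g _ rfl).1.ge⟩

end Cfsg.Agent.S3017
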