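import Cfsg.Statements.S3027
import Cfsg.Agent.Lib.Amalg.PIrr

set_option autoImplicit false
open Cfsg

namespace Cfsg.Agent.S3027

open Subgroup Cfsg.Lib.Amalg
open Cfsg.Lib.Core hiding isPGroup_subgroupOf isPGroup_subgroupOf_iff isPGroup_map_subtype_iff isPGroup_zpowers_of_orderOf
open scoped commutatorElement

/-- Let G be a finite group and D a normal subgroup of G such that G/D is perfect (that is, G = G′D). Then among the subnormal subgroups B of G with BD = G there is a least one, and it is normal in G. -/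
theorem result {G : Type*} [Group G] [Finite G] (D : Subgroup G) [D.Normal] (hperf : ⁅(⊤ : Subgroup G), (⊤ : Subgroup G)⁆ ⊔ D = ⊤) :
    ∃ B : Subgroup G, B.Normal ∧ B ⊔ D = ⊤ ∧ ∀ B' : Subgroup G, B'.IsSubnormal → B' ⊔ D = ⊤ → B ≤ B' := by
  have hc : ∀ X Y : Subgroup G, X ⊔ D = ⊤ → Y ⊔ D = ⊤ → ⁅X, Y⁆ ⊔ D = ⊤ := fun X Y a b => by
    have k : ∀ X : Subgroup G, X ⊔ D = ⊤ ↔ X.map (QuotientGroup.mk' D) = (⊤ : Subgroup G).map (QuotientGroup.mk' D) :=
      fun X => by
        rw [← top_le_iff, sup_comm, ← map_mk'_le_map_mk'_iff]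
        exact ⟨fun h => le_antisymm (map_mono le_top) h, fun h => h.ge⟩
    rw [k] at a b hperf ⊢
    rw [map_commutator, a, b, ← map_commutator, hperf]
  have hi : ∀ X Y : Subgroup G, X ≤ normalizer (Y : Set G) → Y ≤ normalizer (X : Set G) →
      X ⊔ D = ⊤ → Y ⊔ D = ⊤ → (X ⊓ Y) ⊔ D = ⊤ := fun X Y a b c d =>
    top_le_iff.1 ((hc X Y c d).ge.trans (sup_le_sup_right (comm_le_inf b a) _))
  obtain ⟨B, -, ⟨b1, b2⟩, b3⟩ := exists_minimal_le (fun B : Subgroup G => B.Normal ∧ B ⊔ D = ⊤) (H := ⊤)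
    ⟨inferInstance, top_sup_eq _⟩
  refine ⟨B, b1, b2, fun K hK => ?_⟩
  rw [← subnormalIn_top_iff] at hK
  induction hK with
  | refl => exact fun _ => le_top
  | step K M hle hn _ ih =>
    intro e
    have m1 := ih (top_le_iff.1 (e.ge.trans (sup_le_sup_right hle _)))
    obtain ⟨X, x1, ⟨x2, x3, x4⟩, x5⟩ := exists_minimal_le
      (fun X : Subgroup G => X ≤ B ∧ B ≤ normalizer (X : Set G) ∧ X ⊔ D = ⊤) (H := K ⊓ B)
      ⟨inf_le_right, le_normalizer_inf (m1.trans hn) le_normalizer,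
        hi _ _ le_normalizer_of_normal (m1.trans hn) e b2⟩
    have x6 : X.Normal := normal_of_cj_le fun g => by
      have y2 : cj g⁻¹ X ≤ B := cj_le_of_le_of_mem_normalizer x2 (le_normalizer_of_normal (mem_top _))
      have y3 : B ≤ normalizer (cj g⁻¹ X : Set G) := by
        rw [← cj_normalizer, ← cj_normal g⁻¹ B]; exact cj_mono _ x3
      exact cj_le_iff.2 (inf_eq_left.1 (x5 _ ⟨inf_le_left.trans x2, le_normalizer_inf x3 y3,
        hi _ _ (x2.trans y3) (y2.trans x3) x4 (by rw [← cj_normal g⁻¹ D, ← cj_sup, x4, cj_top])⟩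
        inf_le_left))
    exact (b3 X ⟨x6, x4⟩ x2).ge.trans (x1.trans inf_le_left)

end Cfsg.Agent.S3027
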