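import Cfsg.Statements.S3035
import Cfsg.Agent.Lib.Exc.D8
import Cfsg.Agent.Lib.Core.PCore

set_option autoImplicit false
open Cfsg

namespace Cfsg.Agent.S3035

open Cfsg.Lib Cfsg.Lib.Exc Cfsg.Lib.Transfer Cfsg.Lib.Invol Subgroup

/-- Let G be a finite group with an involution z whose centralizer is dihedral of order 8. Then G = C_G(z) O(G) with O(G) the largest normal subgroup of odd order, or G is isomorphic to the symmetric group of degree 4, the symmetric group of degree 5, the group SL₃(2), or the alternating group of degree 6. -/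
theorem result {G : Type*} [Group G] [Finite G] (z : G) (hz : orderOf z = 2)
    (hC : Nonempty (↥(Subgroup.centralizer ({z} : Set G)) ≃* DihedralGroup 4)) :
    Subgroup.centralizer ({z} : Set G) ⊔ Cfsg.oddCore G = ⊤ ∨ Nonempty (G ≃* Equiv.Perm (Fin 4)) ∨ Nonempty (G ≃* Equiv.Perm (Fin 5)) ∨
      Nonempty (G ≃* Matrix.SpecialLinearGroup (Fin 3) (ZMod 2)) ∨ Nonempty (G ≃* ↥(alternatingGroup (Fin 6))) := by
  have := fact_two
  obtain ⟨e⟩ := hC
  by_cases h1 : PNil 2 (⊤ : Subgroup G)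
  · obtain ⟨r, x, -, -, -, hS⟩ := exists_ds_d8 e hz
    have := resOf_normal (p := 2) (⊤ : Subgroup G)
    exact Or.inl (eq_top_iff.2 (hS.resOf_sup.ge.trans (sup_le
      ((Core.le_oddCore (Nat.coprime_two_right.1 h1.coprime)).trans le_sup_right) le_sup_left)))
  by_cases h2 : resOf 2 (⊤ : Subgroup G) = ⊤
  · obtain ⟨F, _, _, h3 | h3, ⟨f⟩⟩ := psl_of_d8 (pResidual_two_eq_top_iff.1 (resOf_top.symm.trans h2)) hz e
    · obtain ⟨g⟩ := Linear.psl2_nine_equiv (F := F) (Nat.card_eq_fintype_card.trans h3)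
      exact Or.inr (Or.inr (Or.inr (Or.inr ⟨f.trans g⟩)))
    · obtain ⟨g⟩ := sl3_two_equiv (F := F) (K := ZMod 2) (Nat.card_eq_fintype_card.trans h3) (Nat.card_zmod 2)
      exact Or.inr (Or.inr (Or.inr (Or.inl ⟨f.trans g⟩)))
  exact Or.inr ((d8_index_two hz e h1 h2).imp_right Or.inl)

end Cfsg.Agent.S3035
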