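import Cfsg.Statements.S3049
import Cfsg.Agent.Lib.Amalg.FStarAct
import Cfsg.Agent.Lib.Amalg.Bridge
import Cfsg.Agent.Lib.Coprime.PGroup
import Cfsg.Agent.Lib.Transfer.Frobenius
import Cfsg.Agent.Lib.PGrp.OmegaBasic
import Cfsg.Agent.Lib.Core.Subnormal

set_option autoImplicit false
open Cfsg

namespace Cfsg.Agent.S3049

open Subgroup Cfsg.Lib Cfsg.Lib.Amalg Cfsg.Lib.Layer
open scoped commutatorElement

theorem cent_syl {G : Type*} [Group G] [Finite G] {p : ℕ} [Fact p.Prime] {x : G} (hiso : Cfsg.IsIsolated x)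
    {P : Subgroup G} (hP : IsPGroup p P) (hx : x ∈ P) : P ≤ centralizer ({x} : Set G) := by
  have := eq_of_inf_normalizer_le (P := P ⊓ centralizer ({x} : Set G)) hP inf_le_left (by
    intro g hg
    obtain ⟨hgP, hgN⟩ := mem_inf.1 hg
    refine mem_inf.2 ⟨hgP, ?_⟩
    have h1 : x ∈ P ⊓ centralizer ({x} : Set G) := mem_inf.2 ⟨hx, mem_centralizer_singleton_iff.2 rfl⟩
    have h2 := (mem_normalizer_iff.1 hgN x).1 h1
    have h3 := mem_centralizer_singleton_iff.1 (mem_inf.1 h2).2
    have h4 := hiso g h3.symm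
    rw [mem_centralizer_singleton_iff]
    calc g * x = g * x * g⁻¹ * g := by group
      _ = x * g := by rw [h4])
  rw [← this]; exact inf_le_right

theorem fix {G : Type*} [Group G] [Finite G] {p : ℕ} [hp : Fact p.Prime] (hrank : Cfsg.PRankLE p 2 G) {x c y g : G}
    (hx : orderOf x = p) (hiso : Cfsg.IsIsolated x) (hc : orderOf c = p) (hcx : Commute c x) (hxc : x ∉ zpowers c)
    (hy : y ^ p = 1) (hyc : Commute y c) (hyx : Commute y x) (hgc : Commute g c)
    (hgx : Commute (g * y * g⁻¹) x) : g * y * g⁻¹ = y := by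
  have hcp : c ^ p = 1 := hc ▸ pow_orderOf_eq_one c
  have hxp : x ^ p = 1 := hx ▸ pow_orderOf_eq_one x
  have hxC : x ∈ centralizer (zpowers c : Set G) := by
    rintro _ ⟨k, rfl⟩; exact (hcx.zpow_left k).eq
  have hA := PGrp.isElementaryAbelian_sup_zpowers (PGrp.isElementaryAbelian_zpowers hcp) hxC hxp
  have hd : zpowers c ⊓ zpowers x = ⊥ := by
    have hx' : (Nat.card (zpowers x)).Prime := by rw [Nat.card_zpowers, hx]; exact hp.out
    haveI := Fact.mk hx'
    rcases ((zpowers c ⊓ zpowers x).subgroupOf (zpowers x)).eq_bot_or_eq_top_of_prime_card with h | h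
    · rw [subgroupOf_eq_bot] at h
      exact disjoint_iff.1 h ▸ (by rw [inf_assoc, inf_idem])
    · rw [subgroupOf_eq_top] at h
      exact absurd (h (mem_zpowers x)).1 hxc
  have hcard : Nat.card (zpowers c ⊔ zpowers x : Subgroup G) = p ^ 2 := by
    rw [sup_comm, Core.card_sup_of_disjoint (zpowers_le.2 (centralizer_le_normalizer _ hxC)) (inf_comm (zpowers x) _ ▸ hd),
      Nat.card_zpowers, Nat.card_zpowers, hx, hc, sq]
  have hyC : y ∈ centralizer ((zpowers c ⊔ zpowers x : Subgroup G) : Set G) := by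
    have : zpowers c ⊔ zpowers x ≤ centralizer ({y} : Set G) :=
      sup_le (zpowers_le.2 (mem_centralizer_singleton_iff.2 hyc.symm.eq))
        (zpowers_le.2 (mem_centralizer_singleton_iff.2 hyx.symm.eq))
    intro z hz
    exact mem_centralizer_singleton_iff.1 (this hz)
  have hB := PGrp.isElementaryAbelian_sup_zpowers hA hyC hy
  have hle := PGrp.pRankLE_iff.1 hrank _ hB
  have heq : zpowers c ⊔ zpowers x = zpowers c ⊔ zpowers x ⊔ zpowers y :=
    eq_of_le_of_card_ge le_sup_left (hcard ▸ hle)
  have hyA : y ∈ zpowers c ⊔ zpowers x := heq ▸ mem_sup_right (mem_zpowers y)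
  obtain ⟨_, ⟨a, rfl⟩, _, ⟨b, rfl⟩, rfl⟩ : ∃ u ∈ zpowers c, ∃ v ∈ zpowers x, u * v = y := by
    exact (Core.mem_sup_of_le_normalizer_left (zpowers_le.2 (centralizer_le_normalizer _ hxC))).1 hyA
  simp only at *
  have e : g * (c ^ a * x ^ b) * g⁻¹ = c ^ a * (g * x * g⁻¹) ^ b := by
    rw [conj_zpow, ← mul_assoc, (hgc.zpow_right a).eq]; group
  rw [e] at hgx ⊢
  have h1 : Commute ((g * x * g⁻¹) ^ b) x := by
    have := ((hcx.zpow_left a).inv_left).mul_left hgx
    simpa using this
  by_cases hb : (p : ℤ) ∣ b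
  · have h2 : x ^ b = 1 := orderOf_dvd_iff_zpow_eq_one.1 (hx ▸ hb)
    rw [conj_zpow, h2]; simp
  · have ho : orderOf (g * x * g⁻¹) = p := by
      rw [← hx]; exact (MulAut.conj g).orderOf_eq x
    have hm : g * x * g⁻¹ ∈ zpowers ((g * x * g⁻¹) ^ b) := by
      rw [mem_zpowers_zpow_iff, ho]
      exact Int.isCoprime_iff_gcd_eq_one.1 (((Nat.prime_iff_prime_int.1 hp.out).irreducible.coprime_iff_not_dvd.2 hb).symm)
    obtain ⟨k, hk⟩ := hm
    have h3 : Commute (g * x * g⁻¹) x := hk ▸ h1.zpow_left k
    rw [hiso g h3.symm]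

/-- Let G be a finite group and p an odd prime with O_{p'}(G) = 1. Suppose that G has p-rank at most 2 (no elementary abelian subgroup of order p³) and that some element x of order p is isolated in G (no G-conjugate of x other than x commutes with x) and not central. Then the generalized Fitting subgroup F*(G) is a non-abelian simple group. Since O_{p'}(G) = 1, such an x is not central modulo O_{p'}(G): the hypotheses describe a counterexample to the Z*_p statement in p-rank at most 2. -/
theorem result {G : Type*} [Group G] [Finite G] {p : ℕ} [Fact p.Prime] (hp : p ≠ 2) (hcore : Cfsg.pPrimeCore p G = ⊥)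
    (hrank : Cfsg.PRankLE p 2 G) (x : G) (hx : orderOf x = p) (hiso : Cfsg.IsIsolated x) (hnc : x ∉ Subgroup.center G) :
    IsSimpleGroup ↥(Cfsg.generalizedFittingSubgroup G) ∧ ¬ IsMulCommutative ↥(Cfsg.generalizedFittingSubgroup G) := by
  have hp' : p.Prime := Fact.out
  have hxp : x ^ p ^ 1 = 1 := by rw [pow_one, ← hx, pow_orderOf_eq_one]
  obtain ⟨P, hP, hxP⟩ := exists_syl_ge (isPGroup_zpowers_of_pow hxp) (le_top (a := zpowers x))
  replace hxP : x ∈ P := hxP (mem_zpowers x)
  have hPx := cent_syl hiso hP.2 hxP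
  have hsub : ∀ H : Subgroup G, H.IsSubnormal → H ≠ ⊥ → p ∣ Nat.card H := fun H hH h0 => by
    by_contra h
    exact h0 (le_bot_iff.1 (hcore ▸ Core.le_pPrimeCore_of_isSubnormal hH ((Nat.Prime.coprime_iff_not_dvd hp').2 h).symm))
  have hF : fittingSubgroup G ≤ P := by
    rw [fit_eq_pCore hcore]
    exact hP.le_of_normal (Core.isPGroup_pCore p G) le_top (le_normalizer_of_normal)
  obtain ⟨K, hK, hxK⟩ : ∃ K : Subgroup G, IsComponent K ∧ x ∉ centralizer (K : Set G) := by
    by_contra! h
    have h1 : layer G ≤ centralizer ({x} : Set G) :=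
      layer_le fun L hL y hy => mem_centralizer_singleton_iff.2 (h L hL y hy)
    have h2 : x ∈ fittingSubgroup G := centralizer_fstar_le_fit fun y hy =>
      mem_centralizer_singleton_iff.1 ((sup_le h1 (hF.trans hPx) : generalizedFittingSubgroup G ≤ _) hy)
    refine hnc (mem_center_iff.2 fun g => ?_)
    have h3 := hiso g (mem_centralizer_singleton_iff.1 (hPx (hF (fit_normal.conj_mem x h2 g)))).symm
    calc g * x = g * x * g⁻¹ * g := by group
      _ = x * g := by rw [h3]
  haveI := fstar_normal (G := G)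
  have hFK : fittingSubgroup G ≤ centralizer (K : Set G) := by
    rw [le_centralizer_iff]; exact (IsComponent.le_layer hK).trans layer_le_centralizer_fit
  have hN : generalizedFittingSubgroup G ≤ normalizer (K : Set G) :=
    sup_le (IsComponent.layer_le_normalizer hK) (hFK.trans (centralizer_le_normalizer _))
  have hKF : K ≤ generalizedFittingSubgroup G := (IsComponent.le_layer hK).trans layer_le_fstar
  have hS := hP.inf_normal_top (generalizedFittingSubgroup G)
  have hC : generalizedFittingSubgroup G ⊓ centralizer (K : Set G) = ⊥ := by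
    by_contra h0
    have hn : generalizedFittingSubgroup G ≤
        normalizer ((generalizedFittingSubgroup G ⊓ centralizer (K : Set G) : Subgroup G) : Set G) :=
      Core.le_normalizer_inf le_normalizer (hN.trans (Core.normalizer_le_normalizer_centralizer _))
    have hsn : (generalizedFittingSubgroup G ⊓ centralizer (K : Set G)).IsSubnormal :=
      IsSubnormal.step _ _ inf_le_left (Normal.isSubnormal inferInstance) ((normal_subgroupOf_iff_le_normalizer inf_le_left).2 hn)
    have hR := hS.inf_normal inf_le_left hn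
    have hd := dvd_card_of_isPGroup_ne_bot hR.2 (hR.ne_bot (hsub _ hsn h0))
    obtain ⟨⟨c, hcm⟩, hc⟩ := exists_prime_orderOf_dvd_card' p hd
    rw [← orderOf_coe] at hc
    simp only at hc
    have hcP : c ∈ P := hcm.1.1
    have hcK : c ∈ centralizer (K : Set G) := hcm.2.2
    have hT := hS.inf_normal hKF hN
    have hnil : Transfer.PNil p K := hT.sylowIn.pnil_iff_forall.2 fun Q hQ g hg hgN hco => by
      have := Coprime.le_centralizer_of_omega_one hp (A := zpowers g) (hT.2.to_le hQ) (zpowers_le.2 hgN)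
        (by rwa [Nat.card_zpowers]) fun y hy hyp => by
          have e := fix hrank hx hiso hc (mem_centralizer_singleton_iff.1 (hPx hcP))
            (fun h => hxK (zpowers_le.2 hcK h)) hyp (hcK y (hQ hy).2) (mem_centralizer_singleton_iff.1 (hPx (hQ hy).1.1))
            (hcK g hg) (mem_centralizer_singleton_iff.1 (hPx (hQ ((mem_normalizer_iff.1 hgN y).1 hy)).1.1))
          have e' : Commute g y := by
            calc g * y = g * y * g⁻¹ * g := by group
              _ = y * g := by rw [e]
          rintro _ ⟨k, rfl⟩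
          exact (e'.zpow_left k).eq
      exact this (mem_zpowers g)
    refine hnil ((hsub K hK.1 (IsComponent.ne_bot hK)).trans (card_dvd_of_le ?_))
    rw [resOf_eq_res]
    exact le_res_of_perfect (IsComponent.commutator_self hK) le_rfl
  have hE : generalizedFittingSubgroup G = K := by
    refine le_antisymm (sup_le (layer_le fun L hL => ?_) ?_) hKF
    · by_contra hne
      have h1 := IsComponent.commutator_eq_bot_of_ne hL hK (fun e => hne e.le)
      rw [commutator_eq_bot_iff_le_centralizer] at h1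
      exact (IsComponent.ne_bot hL) (le_bot_iff.1 (hC ▸ le_inf ((IsComponent.le_layer hL).trans layer_le_fstar) h1))
    · exact (hC ▸ le_inf fit_le_fstar hFK : fittingSubgroup G ≤ ⊥).trans bot_le
  rw [hE]
  refine ⟨IsQuasisimple.isSimpleGroup hK.2 ?_, fun hc => ?_⟩
  · rw [eq_bot_iff]
    rintro ⟨z, hz⟩ h
    have : z ∈ generalizedFittingSubgroup G ⊓ centralizer (K : Set G) :=
      mem_inf.2 ⟨hKF hz, fun y hy => congrArg Subtype.val (mem_center_iff.1 h ⟨y, hy⟩)⟩
    rw [hC, mem_bot] at this
    exact mem_bot.2 (Subtype.ext this)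
  · refine (IsComponent.ne_bot hK) (le_bot_iff.1 (hC ▸ le_inf hKF fun y hy z hz => ?_))
    exact congrArg Subtype.val (hc.is_comm.comm (⟨z, hz⟩ : K) ⟨y, hy⟩)

end Cfsg.Agent.S3049
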