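import Cfsg.Statements.S3038
import Cfsg.Agent.S3049
import Cfsg.Agent.Lib.JTW.Iso2
import Cfsg.Agent.Lib.Fus3.Pearl
import Cfsg.Agent.Lib.PGrp.Alperin

set_option autoImplicit false
open Cfsg

namespace Cfsg.Agent.S3038


open Subgroup Cfsg.Lib

theorem iso_conj {G : Type*} [Group G] {x : G} (h : IsIsolated x) (g : G) : IsIsolated (g * x * g⁻¹) := fun k hk => by
  have := h (g⁻¹ * k * g) (by
    have := hk.map (MulAut.conj g⁻¹).toMonoidHom
    simpa [mul_assoc] using this)
  calc k * (g * x * g⁻¹) * k⁻¹ = g * (g⁻¹ * k * g * x * (g⁻¹ * k * g)⁻¹) * g⁻¹ := by group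
    _ = _ := by rw [this]

theorem rank_le {G : Type*} [Group G] [Finite G] {p k : ℕ} (h : PRankLE p k G) {H : Type*} [Group H] (f : H →* G)
    (hf : Function.Injective f) : PRankLE p k H := fun A h1 h2 => by
  rw [← card_map_of_injective (f := f) hf]
  refine h _ inferInstance ?_
  rintro _ ⟨a, ha, rfl⟩
  rw [← map_pow, h2 a ha, map_one]

theorem cyc {G : Type*} [Group G] [Finite G] {p : ℕ} [hp : Fact p.Prime] (hp2 : p ≠ 2) (hrank : PRankLE p 2 G) {x : G}
    (hx : orderOf x = p) (hiso : IsIsolated x) {R : Subgroup G} (hR : IsPGroup p R) (h : ∀ g : G, g * x * g⁻¹ ∉ R) :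
    IsCyclic R := by
  obtain ⟨Q, hQ⟩ := hR.exists_le_sylow
  obtain ⟨T, hT⟩ := (IsPGroup.of_card (p := p) (n := 1) (by rw [Nat.card_zpowers, hx, pow_one] :
    Nat.card (zpowers x) = p ^ 1)).exists_le_sylow
  obtain ⟨g, rfl⟩ := MulAction.exists_smul_eq G T Q
  have hy : g * x * g⁻¹ ∈ ((g • T : Sylow p G) : Subgroup G) := ⟨x, hT (mem_zpowers x), rfl⟩
  have hc := S3049.cent_syl (iso_conj hiso g) (g • T).2 hy
  have ho : orderOf (g * x * g⁻¹) = p := hx ▸ (MulAut.conj g).orderOf_eq x
  have hn := h g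
  generalize g * x * g⁻¹ = y at *
  refine (PGrp.isCyclic_iff_pRankLE_one hp2 hR).2 fun A h1 h2 => ?_
  have hA : IsElementaryAbelian p (A.map R.subtype) := ⟨inferInstance, by
    rintro _ ⟨a, ha, rfl⟩
    rw [← map_pow, h2 a ha, map_one]⟩
  have hyC : y ∈ centralizer (A.map R.subtype : Set G) := fun a ha =>
    mem_centralizer_singleton_iff.1 (hc (hQ (map_subtype_le A ha)))
  have := PGrp.pRankLE_iff.1 hrank _ (PGrp.isElementaryAbelian_sup_zpowers hA hyC (ho ▸ pow_orderOf_eq_one y))
  have hd : zpowers y ⊓ A.map R.subtype = ⊥ := by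
    have := Fact.mk (show (Nat.card (zpowers y)).Prime by rw [Nat.card_zpowers, ho]; exact hp.out)
    rcases ((A.map R.subtype).subgroupOf (zpowers y)).eq_bot_or_eq_top_of_prime_card with e | e
    · exact (subgroupOf_eq_bot.1 e).symm.eq_bot
    · exact absurd (map_subtype_le A (subgroupOf_eq_top.1 e (mem_zpowers y))) hn
  rw [sup_comm, Core.card_sup_of_disjoint (zpowers_le.2 (centralizer_le_normalizer _ hyC)) hd, Nat.card_zpowers, ho,
    Core.card_map_subtype, sq] at this
  rw [pow_one]
  exact Nat.le_of_mul_le_mul_left this hp.out.pos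

/-- Let G be a finite group and p an odd prime with O_{p'}(G) = 1. Suppose that G has p-rank at most 2 and that some element x of order p is isolated in G and not central. Then F*(G) is a non-abelian simple group, and for every Sylow p-subgroup P of F*(G), either no conjugate of x lies in P and P is cyclic, or some conjugate of x lies in P and either P is extraspecial of order p³ and exponent p, or p = 3 and P has order 3^{2k+1} for some k ≥ 2 and is of maximal class (nilpotency class 2k). Since O_{p'}(G) = 1, such an x is not central modulo O_{p'}(G): the hypotheses describe a counterexample to the Z*_p statement in p-rank at most 2, and the conclusion records the structure it would have. -/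
theorem result {G : Type*} [Group G] [Finite G] {p : ℕ} [Fact p.Prime] (hp : p ≠ 2) (hcore : Cfsg.pPrimeCore p G = ⊥)
    (hrank : Cfsg.PRankLE p 2 G) (x : G) (hx : orderOf x = p) (hiso : Cfsg.IsIsolated x) (hnc : x ∉ Subgroup.center G) :
    IsSimpleGroup ↥(Cfsg.generalizedFittingSubgroup G) ∧ ¬ IsMulCommutative ↥(Cfsg.generalizedFittingSubgroup G) ∧
    ∀ P : Sylow p ↥(Cfsg.generalizedFittingSubgroup G),
      ((∀ g : G, g * x * g⁻¹ ∉ ((P : Subgroup ↥(Cfsg.generalizedFittingSubgroup G)).map (Cfsg.generalizedFittingSubgroup G).subtype)) ∧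
          IsCyclic ↥(P : Subgroup ↥(Cfsg.generalizedFittingSubgroup G))) ∨
      ((∃ g : G, g * x * g⁻¹ ∈ ((P : Subgroup ↥(Cfsg.generalizedFittingSubgroup G)).map (Cfsg.generalizedFittingSubgroup G).subtype)) ∧
        ((Cfsg.IsExtraspecial p ↥(P : Subgroup ↥(Cfsg.generalizedFittingSubgroup G)) ∧
            Nat.card (P : Subgroup ↥(Cfsg.generalizedFittingSubgroup G)) = p ^ 3 ∧
            ∀ y ∈ (P : Subgroup ↥(Cfsg.generalizedFittingSubgroup G)), y ^ p = 1) ∨
         (p = 3 ∧ ∃ k : ℕ, 2 ≤ k ∧ Nat.card (P : Subgroup ↥(Cfsg.generalizedFittingSubgroup G)) = 3 ^ (2 * k + 1) ∧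
            ∃ _ : Group.IsNilpotent ↥(P : Subgroup ↥(Cfsg.generalizedFittingSubgroup G)),
              Group.nilpotencyClass ↥(P : Subgroup ↥(Cfsg.generalizedFittingSubgroup G)) = 2 * k))) := by
  obtain ⟨h1, h2⟩ := S3049.result hp hcore hrank x hx hiso hnc
  refine ⟨h1, h2, fun P => ?_⟩
  generalize generalizedFittingSubgroup G = K at *
  have hP : IsPGroup p ((P : Subgroup K).map K.subtype) := P.2.map _
  by_cases h : ∀ g : G, g * x * g⁻¹ ∉ (P : Subgroup K).map K.subtype
  · have := cyc hp hrank hx hiso hP h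
    exact Or.inl ⟨h, isCyclic_of_surjective _ ((P : Subgroup K).equivMapOfInjective _ K.subtype_injective).symm.surjective⟩
  push Not at h
  refine Or.inr ⟨h, ?_⟩
  obtain ⟨g, z, hz, e⟩ := h
  have hi := iso_conj hiso g
  have ho : orderOf (g * x * g⁻¹) = p := hx ▸ (MulAut.conj g).orderOf_eq x
  rw [← e] at hi ho
  have hc := S3049.cent_syl hi hP ⟨z, hz, rfl⟩
  have hK : pResidual p K = ⊤ := by
    refine (h1.eq_bot_or_eq_top_of_normal _ Transfer.pResidual_normal).resolve_left fun e => h2 ?_
    have hKp : IsPGroup p K := fun y => by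
      obtain ⟨k, hk⟩ := Transfer.exists_pow_mem_resOf (p := p) (mem_top y)
      exact ⟨k, by rwa [Transfer.resOf_top, e, mem_bot] at hk⟩
    have := hKp.isNilpotent
    exact (commutator_eq_bot_iff _).1 ((h1.eq_bot_or_eq_top_of_normal _ inferInstance).resolve_right
      (Group.IsSolvable.commutator_lt_top_of_nontrivial K).ne)
  have := JTW.Iso.concl hp P (rank_le hrank (K.subtype.comp (P : Subgroup K).subtype)
    (K.subtype_injective.comp (P : Subgroup K).subtype_injective)) hK hz
    (fun e => by rw [e, map_one, orderOf_one] at ho; exact (Fact.out : p.Prime).one_lt.ne ho) fun n hn => by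
      have := hi n (mem_centralizer_singleton_iff.1 (hc ⟨_, (mem_normalizer_iff.1 hn z).1 hz, rfl⟩)).symm
      refine mem_centralizer_singleton_iff.2 (Subtype.ext ?_)
      exact mul_inv_eq_iff_eq_mul.1 this
  rcases this with ⟨a, b, c⟩ | ⟨a, k, b, c, d⟩
  · exact Or.inl ⟨Fus.isExtraspecial_of_cube b a, b, fun y hy => congrArg Subtype.val (c ⟨y, hy⟩)⟩
  · exact Or.inr ⟨a, k, b, c, P.2.isNilpotent, d⟩

end Cfsg.Agent.S3038
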