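import Cfsg.Statements.S3040
import Cfsg.Agent.Lib.Coprime.SzFix
import Cfsg.Agent.Lib.Hall.FpfC
import Cfsg.Agent.Lib.FG.ONS
import Cfsg.Agent.Lib.Coprime.CharAction

set_option autoImplicit false
open Cfsg

namespace Cfsg.Agent.S3040

open Subgroup Cfsg.Lib Cfsg.Lib.Coprime Cfsg.Lib.BG1

theorem exists_fixed_inv {K : Type*} [Group K] [Finite K] [Nontrivial K] (hF : fittingSubgroup K = ⊥)
    (h3 : ¬ 3 ∣ Nat.card K) {σ : MulAut K} (hσ : σ ^ 3 = 1) : ∃ z : K, orderOf z = 2 ∧ σ z = z := by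
  have := Fact.mk Nat.prime_three
  obtain ⟨L, hL⟩ := Layer.exists_component_of_layer_ne_bot (G := K) (Layer.fstar_eq_layer hF ▸ Layer.fstar_ne_bot)
  have := FG.comp_simple hF hL
  have hc : ¬ IsMulCommutative L := fun h => Layer.IsComponent.ne_bot hL (by
    rw [← Layer.IsComponent.commutator_self hL, commutator_eq_bot_iff_le_centralizer]
    exact le_centralizer_iff_isMulCommutative.2 h)
  obtain ⟨F, _, m, _, ⟨e⟩⟩ := exists_sz_of_simple hc fun h => h3 (h.trans (card_subgroup_dvd_card L))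
  have h1 : ∀ x, σ (σ (σ x)) = x := fun x => DFunLike.congr_fun hσ x
  by_cases h : L.map σ.toMonoidHom = L
  · set α : MulAut L := (σ.subgroupMap L).trans (MulEquiv.subgroupCongr h)
    have h2 : α ^ 3 = 1 := MulEquiv.ext fun x => Subtype.ext (h1 x)
    obtain ⟨t, ht, h4⟩ := exists_fixed_four (BN.Sz.not_three_dvd_card m)
      (isPGroup_zpowers_of_pow (a := MulAut.congr e α) (p := 3) (by rw [← map_pow, h2, map_one]))
    have h5 : α (e.symm t) = e.symm t := e.injective (by simpa using h4 _ (mem_zpowers _))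
    refine ⟨(e.symm t : K) ^ 2, ?_, by rw [map_pow]; exact congrArg (· ^ 2) (congrArg Subtype.val h5)⟩
    rw [orderOf_pow, orderOf_coe, MulEquiv.orderOf_eq, ht]; rfl
  · obtain ⟨t, ht, -⟩ := exists_fixed_four (BN.Sz.not_three_dvd_card m) (IsPGroup.of_bot (G := MulAut (Cfsg.Sz F m)))
    have h2 : orderOf ((e.symm t : K) ^ 2) = 2 := by rw [orderOf_pow, orderOf_coe, MulEquiv.orderOf_eq, ht]; rfl
    have h4 : (e.symm t : K) ^ 2 ∈ L := pow_mem (e.symm t).2 2
    generalize (e.symm t : K) ^ 2 = u at h2 h4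
    have h5 : ∀ x ∈ L, ∀ y ∈ L, Commute x (σ y) := fun x hx y hy =>
      FG.comp_le_cent hL (Layer.IsComponent.map_equiv hL σ) h (mem_map_of_mem _ hy) x hx
    have h6 : ∀ x ∈ L, ∀ y ∈ L, Commute x (σ (σ y)) := fun x hx y hy => by
      simpa [h1] using ((h5 y hy x hx).map σ).map σ |>.symm
    have h7 : u ^ 2 = 1 := h2 ▸ pow_orderOf_eq_one u
    have := Fact.mk Nat.prime_two
    refine ⟨u * (σ u * σ (σ u)), orderOf_eq_prime ?_ fun h8 => ?_, ?_⟩
    · rw [((h5 u h4 u h4).mul_right (h6 u h4 u h4)).mul_pow, ((h5 u h4 u h4).map σ).mul_pow, ← map_pow, ← map_pow,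
        ← map_pow, h7]
      simp
    · have h9 := FG.comp_eq_one hF hL h4 (by
        rw [eq_inv_of_mul_eq_one_left h8]
        exact inv_mem fun x hx => (h5 x hx u h4).mul_right (h6 x hx u h4))
      simp [h9] at h2
    · rw [map_mul, map_mul, h1, ((h5 u h4 u h4).mul_right (h6 u h4 u h4)).eq, mul_assoc]

theorem amb {Γ : Type*} [Group Γ] [Finite Γ] {K A : Subgroup Γ} (hs : Group.IsSolvable K) (hn : A ≤ 𝐍(K))
    (hA : Nat.card A = 3) (h3 : ¬ 3 ∣ Nat.card K) (hO : ∀ r : ℕ, r.Prime → r ≠ 2 → 𝐎[r](K) = ⊥)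
    (hodd : Odd (Nat.card ↥(K ⊓ 𝐂(A)))) : ⁅K, A⁆ ≤ fittingOf K := by
  have hc : (Nat.card A).Coprime (Nat.card K) := hA ▸ (Nat.Prime.coprime_iff_not_dvd Nat.prime_three).2 h3
  refine Hall.fc_red hs hn hc le_rfl fun t r ht hr hrt T hT hTt hAT => ?_
  by_cases h2 : r = 2
  swap
  · rw [hO r hr h2]
    exact fun x _ y hy => by rw [mem_bot.1 hy, one_mul, mul_one]
  subst h2
  have := Fact.mk ht
  have hc' := hc.coprime_dvd_right (card_dvd_of_le hT)
  have h4 : Odd (Nat.card ↥(T ⊔ A)) := by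
    rw [card_sup_of_disjoint' hAT (inf_eq_bot_of_coprime_card hc'), hA]
    obtain ⟨n, h⟩ := IsPGroup.iff_card.1 hTt
    exact h ▸ ((ht.odd_of_ne_two hrt.symm).pow).mul (by decide)
  have h5 := pgroup_pCoreOf Nat.prime_two K
  refine odd_prime_sdprod_cent hAT (solvable_of_le hT hs) h4 hc' (hA ▸ Nat.prime_three)
    (solvable_of_le (piCoreOf_le' _ _) hs) (sup_le (hT.trans (le_norm_piCoreOf_self _ _)) (le_norm_piCoreOf _ hn))
    (coprime_card_of_isPGroup h5 (Nat.coprime_two_right.2 h4)) ?_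
  exact le_bot_iff.1 (le_trans (le_inf inf_le_left (inf_le_inf_right _ (piCoreOf_le' _ _)))
    (inf_eq_bot_of_isPGroup_of_not_dvd Nat.prime_two h5 hodd.not_two_dvd_nat).le)

theorem act_le {K A : Type*} [Group K] [Finite K] [Group A] [Finite A] (φ : A →* MulAut K) (hs : Group.IsSolvable K)
    (hA : Nat.card A = 3) (h3 : ¬ 3 ∣ Nat.card K) (hO : pPrimeCore 2 K = ⊥) (hodd : Odd (Nat.card (actFix φ ⊤))) :
    actComm φ ⊤ ⊤ ≤ pCore 2 K := by
  obtain ⟨Γ, _, _, i, j, h, -⟩ := exists_ambient φ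
  have h1 := amb (Group.isSolvable_of_surjective (i.subgroupMap_surjective ⊤)) (h.le_normalizer_top ⊤)
    (by rw [h.card_map_j, card_top, hA]) (by rwa [h.card_map_i, card_top]) (fun r hr h2 => by
      rw [← map_pCore_subtype hr, ← Core.map_pCoreOf_of_injective h.inj_i, Core.pCoreOf_top,
        map_eq_bot_iff_of_injective _ h.inj_i, eq_bot_iff, ← hO]
      exact Core.pCore_le_pPrimeCore_of_ne Nat.prime_two hr h2) (by rwa [← h.map_actFix, h.card_map_i])
  rw [← h.map_actComm, ← Core.map_fittingOf_of_injective h.inj_i, h.map_le_map, Core.fittingOf_top] at h1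
  exact h1.trans ((Core.fitting_le_pCore_sup_pPrimeCore Nat.prime_two).trans (by rw [hO, sup_bot_eq]))

set_option synthInstance.maxSize 1024 in
theorem s3 : ∀ s : Equiv.Perm (Fin 3), s ^ 3 = 1 → s ≠ 1 → ∃ t, t * t = 1 ∧ s * t = t * (s * s) ∧
    ∀ r, r = 1 ∨ r = s ∨ r = s * s ∨ r = t ∨ r = t * s ∨ r = t * (s * s) := by
  decide

theorem zp_top {G : Type*} [Group G] (σ : G) : zpowers (⟨σ, mem_zpowers σ⟩ : zpowers σ) = ⊤ :=
  (eq_top_iff' _).2 fun ⟨_, k, rfl⟩ => ⟨k, rfl⟩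

theorem main {G : Type*} [Group G] [Finite G] (h3 : ¬ 3 ∣ Nat.card G) {σ : MulAut G} (hσ : orderOf σ = 3)
    (hodd : Odd (Nat.card (actFix (zpowers σ).subtype ⊤))) :
    Group.IsSolvable G ∧ pPrimePCore 2 G ⊔ actFix (zpowers σ).subtype ⊤ = ⊤ := by
  have hA : Nat.card (zpowers σ) = 3 := by rw [Nat.card_zpowers, hσ]
  have hc : ∀ N : Subgroup G, (Nat.card (⊤ : Subgroup (zpowers σ))).Coprime (Nat.card N) := fun N => by
    rw [card_top, hA]
    exact (Nat.Prime.coprime_iff_not_dvd Nat.prime_three).2 fun e => h3 (e.trans (card_subgroup_dvd_card N))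
  have hsA : Group.IsSolvable (⊤ : Subgroup (zpowers σ)) := by have := isSolvable_zpowers σ; infer_instance
  have hq : ∀ (N : Subgroup G) [N.Normal] (hN : ∀ a, ∀ x ∈ N, (zpowers σ).subtype a x ∈ N),
      Odd (Nat.card (actFix (quotAut _ N hN) ⊤)) := fun N _ hN => by
    rw [← map_actFix_quotAut _ N hN ⊤ (hc N) (Or.inl hsA)]
    exact hodd.of_dvd_nat (card_map_dvd _ _)
  have hch : ∀ (N : Subgroup G) [N.Characteristic], ∀ a, ∀ x ∈ N, (zpowers σ).subtype a x ∈ N := fun N hN a x hx =>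
    characteristic_iff_le_comap.1 hN _ hx
  have hs : Group.IsSolvable G := by
    have := Core.solvableRadical_characteristic G
    have := Core.isSolvable_solvableRadical G
    rcases subsingleton_or_nontrivial (G ⧸ solvableRadical G) with h | h
    · exact solvable_of_ker_le_range (solvableRadical G).subtype (QuotientGroup.mk' (solvableRadical G)) (by simp)
    obtain ⟨z, hz, h1⟩ := exists_fixed_inv (Core.solvableRadical_eq_bot_iff_fitting_eq_bot.1
      (Core.solvableRadical_quotient_eq_bot_of_eq _ rfl)) (fun e => h3 (e.trans (card_quotient_dvd_card _)))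
      (σ := quotAut _ _ (hch (solvableRadical G)) ⟨σ, mem_zpowers σ⟩) (by
        rw [← map_pow, show (⟨σ, mem_zpowers σ⟩ : zpowers σ) ^ 3 = 1 from Subtype.ext (hσ ▸ pow_orderOf_eq_one σ),
          map_one])
    refine absurd (hz ▸ orderOf_dvd_natCard _ ?_) (hq _ (hch (solvableRadical G))).not_two_dvd_nat
    rw [← zp_top, mem_actFix_zpowers]
    exact h1
  refine ⟨hs, ?_⟩
  have := Core.pPrimeCore_characteristic 2 G
  have h1 := act_le (quotAut _ _ (hch (pPrimeCore 2 G))) inferInstance hA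
    (fun e => h3 (e.trans (card_quotient_dvd_card _))) Core.pPrimeCore_quotient_pPrimeCore (hq _ _)
  have h2 := actComm_sup_actFix (φ := quotAut _ _ (hch (pPrimeCore 2 G))) (B := ⊤) (H := ⊤) (fun _ _ _ _ => trivial)
    ((hc ⊤).coprime_dvd_right (by rw [card_top, card_top]; exact card_quotient_dvd_card _)) (Or.inl hsA)
  rw [top_inf_eq, ← map_actFix_quotAut _ _ _ ⊤ (hc _) (Or.inl hsA)] at h2
  have h4 := congrArg (comap (QuotientGroup.mk' (pPrimeCore 2 G))) (eq_top_iff.2 (h2.ge.trans (sup_le_sup_right h1 _)))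
  rw [← comap_sup_eq _ _ _ (QuotientGroup.mk'_surjective _), comap_map_eq, QuotientGroup.ker_mk', sup_comm (actFix _ _),
    ← sup_assoc, sup_eq_left.2 (QuotientGroup.le_comap_mk' _ _)] at h4
  exact h4


/-- Let G be a finite group of even order coprime to 3, and let Σ be a group of automorphisms of G isomorphic to the symmetric group of degree 3 that is fixed-point-free (only the identity of G is fixed by every element of Σ). Then G is solvable, O_{2′,2}(G) (the preimage in G of O₂(G/O(G))) has odd index in G, and G = O_{2′,2}(G) C_G(σ) for every element σ of Σ of order 3; that is, O₂(G/O(G)) is a Sylow 2-subgroup of G/O(G) and G/O(G) = O₂(G/O(G)) C_{G/O(G)}(σ). -/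
theorem result {G : Type*} [Group G] [Finite G] (heven : 2 ∣ Nat.card G) (h3 : ¬ 3 ∣ Nat.card G)
    (Sig : Subgroup (MulAut G)) (hS3 : Nonempty (↥Sig ≃* Equiv.Perm (Fin 3))) (hfpf : ∀ g : G, (∀ σ ∈ Sig, σ g = g) → g = 1) :
    Group.IsSolvable G ∧ ¬ 2 ∣ (Cfsg.pPrimePCore 2 G).index ∧ ∀ σ ∈ Sig, orderOf σ = 3 →
      Cfsg.pPrimePCore 2 G ⊔ Subgroup.closure {g : G | σ g = g} = ⊤ := by
  obtain ⟨e⟩ := hS3
  have h1 : ∀ σ ∈ Sig, orderOf σ = 3 → Odd (Nat.card (actFix (zpowers σ).subtype ⊤)) := fun σ hσ h => by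
    obtain ⟨t, h1, h2, h4⟩ := s3 (e ⟨σ, hσ⟩) (by
      rw [← map_pow, show (⟨σ, hσ⟩ : Sig) ^ 3 = 1 from Subtype.ext (h ▸ pow_orderOf_eq_one σ), map_one])
      (fun h1 => by
        rw [show σ = 1 from congrArg Subtype.val (e.map_eq_one_iff.1 h1 : (⟨σ, hσ⟩ : Sig) = 1)] at h; simp at h)
    obtain ⟨τ, rfl⟩ := e.surjective t
    have hm : ∀ x, x ∈ actFix (zpowers σ).subtype ⊤ ↔ σ x = x := fun x => by
      rw [← zp_top, mem_actFix_zpowers]; rfl
    simp only [← map_mul, ← map_one e, e.apply_eq_iff_eq] at h1 h2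
    have h5 : ∀ x, σ (τ.1 x) = τ.1 (σ (σ x)) := fun x => DFunLike.congr_fun (congrArg Subtype.val h2) x
    refine MonoidHom.FixedPointFree.odd_card_of_involutive (φ := (τ.1.toMonoidHom.comp (actFix (zpowers σ).subtype ⊤).subtype).codRestrict
      (actFix (zpowers σ).subtype ⊤) fun x => (hm _).2 ?_) (fun x hx => Subtype.ext (hfpf x fun ρ hρ => ?_))
      fun x => Subtype.ext (DFunLike.congr_fun (congrArg Subtype.val h1) x.1)
    · have := (hm _).1 x.2
      change σ (τ.1 x) = τ.1 x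
      rw [h5, this, this]
    · have h6 := (hm _).1 x.2
      have h7 : τ.1 x = x := congrArg Subtype.val hx
      have h8 := h4 (e ⟨ρ, hρ⟩)
      simp only [← map_mul, ← map_one e, e.apply_eq_iff_eq, Subtype.ext_iff] at h8
      rcases h8 with rfl | rfl | rfl | rfl | rfl | rfl <;> simp [h6, h7]
  obtain ⟨σ, hσ⟩ : ∃ σ : Sig, orderOf σ = 3 := by
    have := Fact.mk Nat.prime_three
    exact exists_prime_orderOf_dvd_card' 3 (by rw [Nat.card_congr e.toEquiv]; simp [Fintype.card_perm]; decide)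
  rw [← orderOf_coe] at hσ
  obtain ⟨h2, h4⟩ := main h3 hσ (h1 _ σ.2 hσ)
  refine ⟨h2, fun h5 => (h1 _ σ.2 hσ).not_two_dvd_nat ?_, fun ρ hρ h => ?_⟩
  · have := Core.pPrimePCore_normal 2 G
    rw [← relIndex_top_right, ← h4, relIndex_sup_left] at h5
    exact h5.trans (relIndex_dvd_card _ _)
  · refine eq_top_iff.2 ((main h3 h (h1 _ hρ h)).2.ge.trans (sup_le_sup_left (fun x hx => Subgroup.subset_closure ?_) _))
    exact hx ⟨ρ, mem_zpowers ρ⟩ trivial

end Cfsg.Agent.S3040
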