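import Cfsg.Statements.S3048
import Cfsg.Agent.Lib.Amalg.Sidki
import Cfsg.Agent.Lib.Amalg.FStarAct
import Cfsg.Agent.Lib.Layer.FStar

set_option autoImplicit false
universe u
open Cfsg

namespace Cfsg.Agent.S3048

open Subgroup Cfsg.Lib.Amalg
open Cfsg.Lib.Core hiding isPGroup_subgroupOf isPGroup_subgroupOf_iff isPGroup_map_subtype_iff isPGroup_zpowers_of_orderOf
open scoped commutatorElement

theorem mem_of_inverts {G : Type*} [Group G] {N : Subgroup G} [hN : N.Normal] {v x : G} (hv : v ∈ N)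
    (o : Odd (orderOf x)) (e : v * x * v⁻¹ = x⁻¹) : x ∈ N := by
  refine mem_of_pow_mem_coprime (n := 2) (Nat.coprime_two_right.2 o) ?_
  rw [show x ^ 2 = x * (v * x * v⁻¹)⁻¹ by rw [e, inv_inv, sq],
    show x * (v * x * v⁻¹)⁻¹ = x * v * x⁻¹ * v⁻¹ by group]
  exact N.mul_mem (hN.conj_mem v hv x) (N.inv_mem hv)

theorem comm_inverted {G : Type*} [Group G] {v : G} (hv : v * v = 1) (h : G) :
    v * ⁅h, v⁆ * v⁻¹ = ⁅h, v⁆⁻¹ := by
  rw [commutatorElement_inv, commutatorElement_def, commutatorElement_def,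
    show v * (h * v * h⁻¹ * v⁻¹) * v⁻¹ = v * h * v⁻¹ * (v * v) * h⁻¹ * (v * v)⁻¹ by group, hv]
  group

/-- Minimal counterexample reduction for the Sidki pair problem. Let G be a finite group and V a nontrivial elementary abelian 2-subgroup satisfying the Sidki pair condition with V ∩ O₂(G) = 1. Suppose that for every finite group H of smaller order, every nontrivial elementary abelian 2-subgroup W of H satisfying the Sidki pair condition meets O₂(H) nontrivially, and that the same holds in G for every such subgroup W of order smaller than that of V. Then the generalized Fitting subgroup F*(G) is a non-abelian simple group and G = V F*(G). -/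
theorem result {G : Type u} [Group G] [Finite G] (V : Subgroup G) (hV : Cfsg.IsElementaryAbelian 2 V) (hV1 : V ≠ ⊥) (hS : Cfsg.IsSidkiPair V) (hVO : V ⊓ Cfsg.pCore 2 G = ⊥) (hminG : ∀ (H : Type u) [Group H] [Finite H] (W : Subgroup H), Nat.card H < Nat.card G → Cfsg.IsElementaryAbelian 2 W → W ≠ ⊥ → Cfsg.IsSidkiPair W → W ⊓ Cfsg.pCore 2 H ≠ ⊥) (hminV : ∀ W : Subgroup G, Nat.card W < Nat.card V → Cfsg.IsElementaryAbelian 2 W → W ≠ ⊥ → Cfsg.IsSidkiPair W → W ⊓ Cfsg.pCore 2 G ≠ ⊥) : IsSimpleGroup ↥(Cfsg.generalizedFittingSubgroup G) ∧ ¬ IsMulCommutative ↥(Cfsg.generalizedFittingSubgroup G) ∧ V ⊔ Cfsg.generalizedFittingSubgroup G = ⊤ := by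
  have s := sidki_top.2 hS
  have sq1 : ∀ v ∈ V, v * v = 1 := fun v hv => by rw [← sq]; exact hV.2 v hv
  have cV := elemAb_le_cent hV
  have one : ∀ {v x : G}, Odd (orderOf x) → v * x * v⁻¹ = x⁻¹ → v * x = x * v → x = 1 :=
    fun o e c => Lib.Invol.eq_one_of_odd_of_inv o (by rw [← e, c, mul_inv_cancel_right])
  have hsub : ∀ L W : Subgroup G, L ≠ ⊤ → W ≤ L → W ≤ V → W ≠ ⊥ → Sidki W L →
      ∃ z ∈ W, z ≠ 1 ∧ z ∈ pCoreOf 2 L := fun L W h1 h2 h3 h4 h5 => by
    obtain ⟨⟨z, hz⟩, n⟩ := ne_bot_iff_exists_ne_one.1 (hminG L (W.subgroupOf L)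
      (by simpa using card_lt_of_lt' (lt_top_iff_ne_top.2 h1))
      ((isElemAb_subgroupOf_iff h2).2 (elemAb_of_le hV h3))
      (fun c => h4 (by rw [← map_subgroupOf_of_le h2, c, Subgroup.map_bot])) (h5.subgroupOf h2))
    exact ⟨z, hz.1, fun c => n (Subtype.ext (Subtype.ext c)), mem_op_iff.2 hz.2⟩
  have hquo : ∀ (K : Subgroup G) [K.Normal], K ≠ ⊥ → V ⊓ K = ⊥ →
      ∃ z ∈ V, z ≠ 1 ∧ (z : G ⧸ K) ∈ pCore 2 (G ⧸ K) := fun K _ h1 h2 => by
    have t := s.map le_top sq1 (QuotientGroup.mk' K) (by rwa [QuotientGroup.ker_mk'])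
    rw [map_top_of_surjective _ (QuotientGroup.mk'_surjective K)] at t
    obtain ⟨⟨_, ⟨z, hz, rfl⟩, hz'⟩, n⟩ := ne_bot_iff_exists_ne_one.1 (hminG (G ⧸ K) _
      (card_quotient_lt h1) (elemAb_map hV _) (fun c => hV1 (by
        rw [map_mk'_eq_bot_iff] at c
        rw [← h2, inf_eq_left.2 c])) (sidki_top.1 t))
    exact ⟨z, hz, fun c => n (Subtype.ext (by simp [c])), hz'⟩
  have O : pCore 2 G = ⊥ := by
    by_contra c
    haveI := pCore_normal 2 G
    obtain ⟨z, hz, n, h⟩ := hquo _ c hVO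
    rw [pCore_quotient_pCore, mem_bot, QuotientGroup.eq_one_iff] at h
    exact n (mem_bot.1 (hVO ▸ mem_inf.2 ⟨hz, h⟩))
  have opc : ∀ (A : Subgroup G) [A.Normal] (L : Subgroup G), A ≤ L → pCoreOf 2 L ≤ centralizer (A : Set G) :=
    fun A _ L h => comm_eq_bot_iff.1 (eq_bot_iff.2 ((comm_le_inf (h.trans (le_norm_op L))
      le_normalizer_of_normal').trans ((op_inf_le h).trans ((op_le_pCore A).trans O.le))))
  have step1 : ∀ (A : Subgroup G) [A.Normal], A ≠ ⊥ → V ⊓ centralizer (A : Set G) = ⊥ := fun A _ hA => by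
    by_contra c
    by_cases hW : V ≤ centralizer (A : Set G)
    · by_cases hB : centralizer (A : Set G) = ⊤
      · have h0 : V ⊓ A = ⊥ := eq_bot_iff.2 (O.le.trans' (Lib.Amalg.op_top (G := G) ▸ le_op le_top
          ((le_cent_symm (inf_le_right.trans (le_cent_symm hB.ge))).trans (cent_le_norm _))
          ((elemAb_isPGroup hV).to_le inf_le_left)))
        obtain ⟨z, hz, n, h⟩ := hquo A hA h0
        refine n (mem_bot.1 (O ▸ Lib.Amalg.op_top (G := G) ▸ mem_op_two_of_not_inverts (sq1 z hz) (mem_top z)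
          fun x _ o e => one o e ?_))
        haveI := pCore_normal 2 (G ⧸ A)
        have o' : Odd (orderOf (x : G ⧸ A)) := o.of_dvd_nat (orderOf_map_dvd (QuotientGroup.mk' A) x)
        obtain ⟨k, hk⟩ := isPGroup_iff_mem.1 (isPGroup_pCore 2 (G ⧸ A)) _
          (mem_of_inverts h o' (congrArg (QuotientGroup.mk' A) e))
        have : (x : G ⧸ A) ∈ (⊥ : Subgroup (G ⧸ A)) :=
          mem_of_pow_mem_coprime ((Nat.coprime_two_right.2 o').pow_right k) hk
        exact ((hB.ge (mem_top z)) x ((QuotientGroup.eq_one_iff x).1 this)).symm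
      · obtain ⟨z, -, n, h⟩ := hsub _ V hB hW le_rfl hV1 (s.mono le_top)
        exact n (mem_bot.1 (O ▸ op_le_pCore _ h))
    · have := hminV _ (card_lt_of_lt' (inf_lt_left.2 hW)) (elemAb_of_le hV inf_le_left) c
      rw [O, inf_bot_eq] at this
      refine this (fun h w hw o e => ?_) rfl
      have hh : h ∈ centralizer (A : Set G) := mem_of_inverts hw.2 o e
      by_cases h1 : h = 1
      · obtain ⟨⟨z, hz⟩, n⟩ := ne_bot_iff_exists_ne_one.1 c
        exact ⟨z, hz, fun c => n (Subtype.ext c), by rw [h1, mul_one, one_mul]⟩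
      obtain ⟨z, hz, n, hz'⟩ := hsub (centralizer {w} ⊓ centralizer {h}) _
        (fun t => h1 (one o e (mem_centralizer_singleton_iff.1 (t.ge (mem_top w)).2))) inf_le_left
        inf_le_right (s.cent_ne_bot cV hw.1 trivial o e)
        ((s.cent cV hw.1 trivial o e).mono (le_inf le_top le_rfl))
      exact ⟨z, ⟨hz.2, opc A _ (fun a ha => mem_inf.2 ⟨mem_centralizer_singleton_iff.2 (hw.2 a ha),
        mem_centralizer_singleton_iff.2 (hh a ha)⟩) hz'⟩, n, mem_centralizer_singleton_iff.1 hz.1.2⟩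
  have step2 : ∀ (A : Subgroup G) [A.Normal], A ≠ ⊥ → V ⊔ A = ⊤ := fun A _ hA => by
    by_contra c
    obtain ⟨z, hz, n, h⟩ := hsub _ V c le_sup_left le_rfl hV1 (s.mono le_top)
    exact n (mem_bot.1 (step1 A hA ▸ mem_inf.2 ⟨hz, opc A _ le_sup_right h⟩))
  obtain ⟨⟨v0, hv0⟩, n0⟩ := ne_bot_iff_exists_ne_one.1 hV1
  replace n0 : v0 ≠ 1 := fun e => n0 (Subtype.ext e)
  have F : fittingSubgroup G = ⊥ := by
    by_contra c
    haveI := Lib.Layer.fit_normal (G := G)
    haveI := Lib.Layer.fit_nilpotent (G := G)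
    have hA := inf_centralizer_ne_bot_of_nilpotent (le_refl (fittingSubgroup G)) le_rfl le_normalizer c
    have ab := isMulCommutative_iff_le_cent.1 (isMulCommutative_inf_cent (fittingSubgroup G))
    have nA : (fittingSubgroup G ⊓ centralizer (fittingSubgroup G : Set G)).Normal := inferInstance
    generalize fittingSubgroup G ⊓ centralizer (fittingSubgroup G : Set G) = A at hA ab nA
    have : v0 ∉ centralizer (A : Set G) := fun c => n0 (mem_bot.1 (step1 A hA ▸ mem_inf.2 ⟨hv0, c⟩))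
    refine this fun a ha => ?_
    have m : ⁅a, v0⁆ ∈ A := by
      rw [commutatorElement_def, show a * v0 * a⁻¹ * v0⁻¹ = a * (v0 * a⁻¹ * v0⁻¹) by group]
      exact A.mul_mem ha (nA.conj_mem _ (A.inv_mem ha) _)
    obtain ⟨k, hk⟩ := exists_odd_two_pow ⁅a, v0⁆
    obtain ⟨w, hw, n, cw⟩ := s _ trivial v0 hv0 hk (inverts_pow (comm_inverted (sq1 v0 hv0) a) _)
    haveI : (A ⊓ centralizer {w}).Normal := normal_of_top_le_normalizer <| (step2 A hA).ge.trans <|
      sup_le (le_normalizer_inf le_normalizer_of_normal' (fun u hu => cj_eq_self_iff.1 (by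
        rw [cj_centralizer_singleton, cV hw u hu, mul_inv_cancel_right])))
        ((le_cent_symm (inf_le_left.trans ab)).trans (cent_le_norm _))
    have e : A ⊓ centralizer {w} = ⊥ := by
      by_contra c
      exact n (mem_bot.1 (step1 _ c ▸ mem_inf.2 ⟨hw, fun y hy => mem_centralizer_singleton_iff.1 hy.2⟩))
    have e1 : ⁅a, v0⁆ ^ 2 ^ k = 1 :=
      mem_bot.1 (e ▸ mem_inf.2 ⟨A.pow_mem m _, mem_centralizer_singleton_iff.2 cw.symm⟩)
    exact commutatorElement_eq_one_iff_mul_comm.1 (mem_bot.1 (O ▸ op_le_pCore A (le_op (zpowers_le.2 m)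
      ((le_cent_symm ((zpowers_le.2 m).trans ab)).trans (cent_le_norm _)) (isPGroup_zpowers_of_pow e1)
      (mem_zpowers _))))
  haveI : Nontrivial G := ⟨⟨v0, 1, n0⟩⟩
  have hE : layer G ≠ ⊥ := Lib.Layer.fstar_eq_layer F ▸ Lib.Layer.fstar_ne_bot
  haveI := Lib.Layer.layer_normal (G := G)
  obtain ⟨L, hL⟩ := Lib.Layer.exists_component_of_layer_ne_bot hE
  have nL := Lib.Layer.IsComponent.layer_le_normalizer hL
  have nil : ∀ X ≤ L, L ≤ normalizer (X : Set G) → Group.IsNilpotent X → X = ⊥ := fun X h1 h2 h3 =>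
    eq_bot_iff.2 (F.le.trans' (Lib.Layer.le_fit_of_isSubnormal (by
      rw [← map_subgroupOf_of_le h1]
      exact (Lib.Layer.isSubnormal_map_subtype_iff hL.1 _).2
        (Lib.Layer.isSubnormal_subgroupOf_of_le_normalizer h2)) h3))
  have zL : ∀ y ∈ L, y ∈ centralizer (L : Set G) → y = 1 := fun y h1 h2 => by
    have := isMulCommutative_inf_cent L
    exact mem_bot.1 (nil _ inf_le_left (le_normalizer_inf le_normalizer
      (le_normalizer.trans (normalizer_le_normalizer_centralizer L))) (isNilpotent_of_isMulCommutative _) ▸ mem_inf.2 ⟨h1, h2⟩)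
  have cc : ∀ a b : G, cj a L ≠ cj b L → cj a L ≤ centralizer (cj b L : Set G) := fun a b h =>
    comm_eq_bot_iff.1 (Lib.Layer.IsComponent.commutator_eq_bot_of_ne (Lib.Layer.IsComponent.conj hL a)
      (Lib.Layer.IsComponent.conj hL b) h)
  have VL : V ≤ normalizer (L : Set G) := fun v hv => by
    by_contra hn
    have n1 : cj v L ≠ cj 1 L := fun e => hn (cj_eq_self_iff.1 (e.trans (cj_one L)))
    by_cases hN : V ⊓ normalizer (L : Set G) = ⊥
    · refine Lib.Layer.IsComponent.ne_bot hL (eq_bot_iff.2 ((le_res_of_perfect (p := 2)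
        (Lib.Layer.IsComponent.commutator_self hL) le_rfl).trans (res_le_iff.2 fun y hy o => mem_bot.2 ?_)))
      have o' := Nat.coprime_two_right.1 o
      have e : ⁅y, v⁆ = y * (v * y⁻¹ * v⁻¹) := by rw [commutatorElement_def]; group
      have m : v * y⁻¹ * v⁻¹ ∈ cj v L := conj_mem_cj v (L.inv_mem hy)
      have m' : v * y⁻¹ * v⁻¹ ∈ centralizer (L : Set G) := cj_one L ▸ cc v 1 n1 m
      have fin : ⁅y, v⁆ ∈ centralizer (L : Set G) → y = 1 := fun t => zL y hy (by
        have := mul_mem t (inv_mem m')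
        rwa [e, mul_inv_cancel_right] at this)
      have ox : Odd (orderOf ⁅y, v⁆) := e ▸ odd_mul_of_commute o' (by
        rwa [show v * y⁻¹ * v⁻¹ = MulAut.conj v y⁻¹ from rfl, MulEquiv.orderOf_eq, orderOf_inv]) (m' y hy)
      obtain ⟨u, hu, n, cu⟩ := s _ trivial v hv ox (comm_inverted (sq1 v hv) y)
      by_cases h1 : cj u L = cj 1 L
      · exact absurd (mem_bot.1 (hN ▸ mem_inf.2 ⟨hu, cj_eq_self_iff.1 (h1.trans (cj_one L))⟩)) n
      by_cases h2 : cj u L = cj v L
      · have : v⁻¹ * u = 1 := mem_bot.1 (hN ▸ mem_inf.2 ⟨V.mul_mem (V.inv_mem hv) hu,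
          cj_eq_self_iff.1 (by rw [cj_mul, h2, cj_inv_cj])⟩)
        rw [← inv_mul_eq_one.1 this] at cu
        exact fin (one ox (comm_inverted (sq1 v hv) y) cu ▸ one_mem _)
      · have t : ⁅y, v⁆ ∈ centralizer (cj u L : Set G) :=
          e ▸ mul_mem (cc 1 u (Ne.symm h1) ((cj_one L).ge hy)) (cc v u (Ne.symm h2) m)
        rw [← cj_centralizer, mem_cj, mul_assoc, ← cu, inv_mul_cancel_left] at t
        exact fin t
    · have nn : V ⊓ normalizer (L : Set G) ≤ normalizer (L : Set G) := inf_le_right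
      obtain ⟨z, hz, n, h⟩ := hsub (L ⊔ V ⊓ normalizer (L : Set G)) _
        (fun t => hn (sup_le le_normalizer nn (t.ge (mem_top v)))) le_sup_right inf_le_left hN
        fun y hy w hw o e => by
          have yL : y ∈ L := res_sup_of_isPGroup ((elemAb_isPGroup hV).to_le inf_le_left) nn
            (mem_res hy (Nat.coprime_two_right.2 o))
          by_cases y1 : y = 1
          · obtain ⟨⟨z, hz⟩, n⟩ := ne_bot_iff_exists_ne_one.1 hN
            exact ⟨z, hz, fun c => n (Subtype.ext c), by rw [y1, mul_one, one_mul]⟩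
          obtain ⟨u, hu, n, cu⟩ := s y trivial w hw.1 o e
          refine ⟨u, ⟨hu, cj_eq_self_iff.1 (by_contra fun t => y1 (zL y yL ?_))⟩, n, cu⟩
          exact cj_one L ▸ cc u 1 (by rwa [cj_one]) (by rwa [mem_cj, mul_assoc, ← cu, inv_mul_cancel_left])
      have zc : z ∈ centralizer (L : Set G) := comm_eq_bot_iff.1 (eq_bot_iff.2
        ((comm_le_inf (le_sup_left.trans (le_norm_op _)) ((op_le _).trans (sup_le le_normalizer nn))).trans
        ((op_inf_le le_sup_left).trans (nil _ (op_le L) (le_norm_op L) (op_isPGroup L).isNilpotent).le))) h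
      haveI : (⨆ g : G, cj g L).Normal := normalClosure_eq_iSup_cj L ▸ normalClosure_normal
      refine n (mem_bot.1 (step1 (⨆ g : G, cj g L) (fun t => Lib.Layer.IsComponent.ne_bot hL
        (eq_bot_iff.2 (((cj_one L).ge.trans (le_iSup (fun g => cj g L) 1)).trans t.le))) ▸
        mem_inf.2 ⟨hz.1, ?_⟩))
      rw [centralizer_iSup, mem_iInf]
      intro g
      obtain ⟨a, ha, b, hb, rfl⟩ := (mem_sup_of_le_normalizer le_normalizer_of_normal').1
        ((step2 _ hE).ge (mem_top g))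
      rwa [cj_mul, cj_of_mem_normalizer (nL hb), ← cj_centralizer, mem_cj, mul_assoc, cV ha z hz.1,
        inv_mul_cancel_left]
  haveI : L.Normal := normal_of_top_le_normalizer ((step2 _ hE).ge.trans (sup_le VL nL))
  have t := step2 L (Lib.Layer.IsComponent.ne_bot hL)
  have e : generalizedFittingSubgroup G = L := (Lib.Layer.fstar_eq_layer F).trans <|
    le_antisymm (Lib.Layer.layer_le fun K hK => (le_res_of_perfect (p := 2)
      (Lib.Layer.IsComponent.commutator_self hK) le_top).trans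
      (res_le_of_le_sup (elemAb_isPGroup hV) VL (by rw [sup_comm, t]))) (Lib.Layer.IsComponent.le_layer hL)
  rw [e]
  exact ⟨Lib.Layer.IsQuasisimple.isSimpleGroup hL.2 (eq_bot_iff.2 fun y hy => Subtype.ext
    (zL y y.2 ((Lib.Layer.mem_center_subgroup_iff y).1 hy))),
    Lib.Layer.IsQuasisimple.not_isMulCommutative hL.2, t⟩

end Cfsg.Agent.S3048
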