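import Cfsg.Statements.S3053
import Cfsg.Agent.Lib.Amalg.Sidki
import Cfsg.Agent.Lib.PGrp.Comm
import Cfsg.Agent.Lib.Core.Frattini
import Cfsg.Agent.Lib.Layer.Quasisimple

set_option autoImplicit false
open Cfsg

namespace Cfsg.Agent.S3053

open Subgroup Cfsg.Lib.Amalg
open Cfsg.Lib.Core hiding isPGroup_subgroupOf isPGroup_subgroupOf_iff isPGroup_map_subtype_iff isPGroup_zpowers_of_orderOf
open scoped commutatorElement

/-- Let p be an odd prime and G a finite group with a Sylow p-subgroup P that is extraspecial of order p³ and exponent p². Then the centre of P is strongly closed in P with respect to G: a G-conjugate of an element of Z(P) that lies in P already lies in Z(P). In particular a nontrivial central element of P is conjugate in G to no noncentral element of P. -/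
theorem result {G : Type*} [Group G] [Finite G]
    {p : ℕ} [Fact p.Prime] (hp : p ≠ 2) (P : Sylow p G) (hE : Cfsg.IsExtraspecial p ↥P)
    (hcard : Nat.card P = p ^ 3) (hexp : Monoid.exponent ↥P = p ^ 2) :
    Cfsg.IsStronglyClosed ((Subgroup.center ↥P).map (P : Subgroup G).subtype) (P : Subgroup G) := by
  have pp : p.Prime := Fact.out
  change IsExtraspecial p (P : Subgroup G) at hE
  change Monoid.exponent (P : Subgroup G) = _ at hexp
  change IsStronglyClosed ((center (P : Subgroup G)).map _) _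
  have hZc : Nat.card ((center (P : Subgroup G)).map (P : Subgroup G).subtype) = p := by
    rw [card_map_of_injective Subtype.val_injective, hE.2]
  have hZ := Lib.Layer.map_subtype_center (P : Subgroup G)
  have hΦ := (frattiniOf_le_iff P.isPGroup').1 (map_mono hE.1.2.1.le)
  obtain ⟨a, ha, ha1⟩ : ∃ a ∈ (P : Subgroup G), a ^ p ≠ 1 := by
    by_contra c
    have : Monoid.exponent (P : Subgroup G) ∣ p := Monoid.exponent_dvd_of_forall_pow_eq_one fun a =>
      Subtype.ext (by_contra fun t => c ⟨a, a.2, t⟩)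
    rw [hexp, sq] at this
    nlinarith [Nat.le_of_dvd pp.pos this, pp.one_lt]
  have hS := syl_top P
  generalize (center (P : Subgroup G)).map (P : Subgroup G).subtype = Z at *
  generalize (P : Subgroup G) = P at *
  have ZP : Z ≤ P := hZ.le.trans inf_le_left
  have ZC : ∀ z ∈ Z, ∀ s ∈ P, s * z = z * s := fun z hz => (hZ.le hz).2
  have cm : ∀ s ∈ P, ∀ t ∈ P, ⁅s, t⁆ ∈ Z := fun s hs t ht => hΦ.1 (commutator_mem_commutator hs ht)
  have Zp : ∀ z ∈ Z, z ^ p = 1 := fun z hz => by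
    rw [← hZc]; exact congrArg Subtype.val (pow_card_eq_one' (x := (⟨z, hz⟩ : Z)))
  have gen : ∀ z ∈ Z, z ≠ 1 → zpowers z = Z := fun z hz n => eq_of_le_of_card_le' (zpowers_le.2 hz) (by
    rw [hZc, Nat.card_zpowers, orderOf_eq_prime (Zp z hz) n])
  have hom : ∀ s ∈ P, ∀ t ∈ P, (s * t) ^ p = s ^ p * t ^ p := fun s hs t ht =>
    Lib.PGrp.mul_pow_eq_of_odd (ZC _ (cm t ht s hs) s hs).symm (ZC _ (cm t ht s hs) t ht).symm
      (pp.odd_of_ne_two hp) (Zp _ (cm t ht s hs))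
  have tr : ∀ w ∈ P, w ∉ Z → ∀ z ∈ Z, ∃ u ∈ P, u * w * u⁻¹ = z * w := fun w hw hn z hz => by
    obtain ⟨s, hs, h⟩ : ∃ s ∈ P, ⁅s, w⁆ ≠ 1 := by
      by_contra c
      exact hn (hZ.ge ⟨hw, fun s hs => commutatorElement_eq_one_iff_mul_comm.1
        (by_contra fun t => c ⟨s, hs, t⟩)⟩)
    obtain ⟨k, rfl⟩ := (gen _ (cm s hs w hw) h).ge hz
    refine ⟨s ^ k, P.zpow_mem hs k, ?_⟩
    beta_reduce
    rw [← Lib.PGrp.commutator_zpow_left (ZC _ (cm s hs w hw) s hs).symm, commutatorElement_def]; group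
  refine ⟨ZP, fun x hx g hy => by_contra fun hn => ?_⟩
  have x1 : x ≠ 1 := fun e => hn (by simp [e])
  generalize hyd : g * x * g⁻¹ = y at *
  have yp : y ^ p = 1 := by rw [← hyd, conj_pow, Zp x hx]; group
  have xy : x * y = y * x := (ZC x hx y hy).symm
  have nZ : zpowers y ≤ normalizer (Z : Set G) :=
    (zpowers_le.2 hy).trans ((le_cent_symm (hZ.le.trans inf_le_right)).trans (cent_le_norm _))
  have mE : ∀ e ∈ Z ⊔ zpowers y, ∃ i j : ℤ, x ^ i * y ^ j = e := fun e he => by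
    obtain ⟨_, h1, _, ⟨j, rfl⟩, rfl⟩ := (mem_sup_of_le_normalizer' nZ).1 he
    obtain ⟨i, rfl⟩ := (gen x hx x1).ge h1
    exact ⟨i, j, rfl⟩
  have big : ∀ D < P, Z ⊔ zpowers y ≤ D → D ≤ Z ⊔ zpowers y := fun D h1 h2 => by
    refine (eq_of_le_of_card_le' h2 ?_).ge
    obtain ⟨i, hi⟩ := (hS.isPGroup.to_le h1.le).exists_card_eq
    obtain ⟨j, hj⟩ := (hS.isPGroup.to_le (h2.trans h1.le)).exists_card_eq
    have l1 := card_lt_of_lt' h1
    have l2 := card_lt_of_lt' (left_lt_sup.2 fun t => hn (t (mem_zpowers y)) : Z < Z ⊔ zpowers y)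
    rw [hi, hcard, Nat.pow_lt_pow_iff_right pp.one_lt] at l1
    rw [hj, hZc, ← pow_one p, ← pow_mul, one_mul, Nat.pow_lt_pow_iff_right pp.one_lt] at l2
    rw [hi, hj]
    exact Nat.pow_le_pow_right pp.pos (by omega)
  have EP : Z ⊔ zpowers y ≤ P := sup_le ZP (zpowers_le.2 hy)
  have Ey : Z ⊔ zpowers y ≤ centralizer {y} := sup_le (fun z hz =>
    mem_centralizer_singleton_iff.2 (ZC z hz y hy).symm) (zpowers_le.2 (mem_centralizer_singleton_iff.2 rfl))
  have hD : P ⊓ centralizer {y} ≤ Z ⊔ zpowers y := big _ (inf_lt_left.2 fun t => hn (hZ.ge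
    ⟨hy, fun s hs => mem_centralizer_singleton_iff.1 (t hs)⟩)) (le_inf EP Ey)
  have Ep : ∀ e ∈ Z ⊔ zpowers y, e ^ p = 1 := fun e he => by
    obtain ⟨i, j, rfl⟩ := mE e he
    rw [hom _ (P.zpow_mem (ZP hx) i) _ (P.zpow_mem hy j), Zp _ (Z.zpow_mem hx i), ← zpow_natCast,
      zpow_comm, zpow_natCast, yp, one_zpow, one_mul]
  have hO : omegaOne p P ≤ Z ⊔ zpowers y := big _ (lt_of_le_of_ne (om_le P) fun t => ha1 <| by
    refine (closure_induction (p := fun s _ => s ∈ P ∧ s ^ p = 1) (fun s hs => hs) ⟨P.one_mem, one_pow p⟩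
      (fun s t _ _ hs ht => ⟨P.mul_mem hs.1 ht.1, by rw [hom s hs.1 t ht.1, hs.2, ht.2, one_mul]⟩)
      (fun s _ hs => ⟨P.inv_mem hs.1, by rw [inv_pow, hs.2, inv_one]⟩) (t.ge ha)).2) (le_om EP Ep)
  obtain ⟨c, hc, hc'⟩ := ((hS.conj_top g).of_le (K := centralizer {y}) (by
    rw [← hyd, ← cj_centralizer_singleton]
    exact cj_mono g fun s hs => mem_centralizer_singleton_iff.2 (ZC x hx s hs)) le_top).exists_le_conj
    (hS.isPGroup.to_le EP) Ey
  rw [← cj_mul] at hc'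
  have hh : c * g * x * (c * g)⁻¹ = y := by
    rw [show c * g * x * (c * g)⁻¹ = c * (g * x * g⁻¹) * c⁻¹ by group, hyd,
      mem_centralizer_singleton_iff.1 hc, mul_inv_cancel_right]
  generalize c * g = h at hh hc'
  obtain ⟨u, hu, uy⟩ := tr y hy hn x hx
  have ux : u * x * u⁻¹ = x := by rw [ZC x hx u hu, mul_inv_cancel_right]
  obtain ⟨v, hv, vx⟩ := tr (h⁻¹ * x * h) (mem_cj.1 (hc' (mem_sup_left hx))) (fun t => hn <| by
    have := mem_cj.2 t
    rw [← gen x hx x1, cj_zpowers, hh] at this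
    have e := eq_of_le_of_card_le' (zpowers_le.2 this) (by
      rw [← hh, ← cj_zpowers, card_cj])
    exact (gen x hx x1).le (e.ge (mem_zpowers y))) x⁻¹ (Z.inv_mem hx)
  replace vx : (h * v * h⁻¹) * x * (h * v * h⁻¹)⁻¹ = y⁻¹ * x := by
    rw [show (h * v * h⁻¹) * x * (h * v * h⁻¹)⁻¹ = h * (v * (h⁻¹ * x * h) * v⁻¹) * h⁻¹ by group, vx, ← hh]
    group
  have vy : (h * v * h⁻¹) * y * (h * v * h⁻¹)⁻¹ = y := by
    rw [← hh, show (h * v * h⁻¹) * (h * x * h⁻¹) * (h * v * h⁻¹)⁻¹ = h * (v * x) * v⁻¹ * h⁻¹ by group,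
      ZC x hx v hv]; group
  generalize h * v * h⁻¹ = v at vx vy
  have wx : (u * v * u) * x * (u * v * u)⁻¹ = y⁻¹ := by
    rw [show (u * v * u) * x * (u * v * u)⁻¹ = u * (v * (u * x * u⁻¹) * v⁻¹) * u⁻¹ by group, ux, vx,
      show u * (y⁻¹ * x) * u⁻¹ = (u * y * u⁻¹)⁻¹ * (u * x * u⁻¹) by group, ux, uy]; group
  have wy : (u * v * u) * y * (u * v * u)⁻¹ = x := by
    rw [show (u * v * u) * y * (u * v * u)⁻¹ = u * (v * (u * y * u⁻¹) * v⁻¹) * u⁻¹ by group, uy,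
      show v * (x * y) * v⁻¹ = (v * x * v⁻¹) * (v * y * v⁻¹) by group, vx, vy, mul_assoc y⁻¹, xy,
      inv_mul_cancel_left, ux]
  generalize u * v * u = w at wx wy
  have tE : ∀ e ∈ Z ⊔ zpowers y, (w * w) * e * (w * w)⁻¹ = e⁻¹ := fun e he => by
    obtain ⟨i, j, rfl⟩ := mE e he
    rw [show (w * w) * (x ^ i * y ^ j) * (w * w)⁻¹ =
      (w * (w * x * w⁻¹) * w⁻¹) ^ i * (w * (w * y * w⁻¹) * w⁻¹) ^ j by simp only [conj_zpow]; group,
      wx, wy, wx, show w * y⁻¹ * w⁻¹ = (w * y * w⁻¹)⁻¹ by group, wy, (Commute.zpow_zpow xy i j).eq,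
      mul_inv_rev, inv_zpow, inv_zpow]
  generalize w * w = t at tE
  have nE : P ≤ normalizer ((Z ⊔ zpowers y : Subgroup G) : Set G) :=
    le_normalizer_of_between (hΦ.1.trans le_sup_left) EP
  have xE : x ∈ Z ⊔ zpowers y := mem_sup_left hx
  have yE : y ∈ Z ⊔ zpowers y := mem_sup_right (mem_zpowers y)
  have ZE : Z ≤ Z ⊔ zpowers y := le_sup_left
  generalize Z ⊔ zpowers y = E at *
  have tn : t ∈ normalizer (E : Set G) :=
    mem_normalizer_of_cj_le (cj_le_iff'.2 fun e he => (tE e he).symm ▸ E.inv_mem he)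
  have nC := nE.trans (normalizer_le_normalizer_centralizer E)
  obtain ⟨k, hk, n, hn', rfl⟩ := (hS.of_le (le_sup_right : P ≤ centralizer (E : Set G) ⊔ P)
    le_top).frattini_mem (g := t) (mem_normalizer_of_cj_le (by
      rw [cj_sup, cj_of_mem_normalizer (normalizer_le_normalizer_centralizer E tn)]
      refine sup_le le_sup_left (cj_le_iff'.2 fun s hs => ?_)
      rw [show t * s * t⁻¹ = (s * t * s⁻¹ * t⁻¹)⁻¹ * s by group]
      refine mul_mem_sup (inv_mem fun e he => ?_) hs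
      have m := (mem_normalizer_iff.1 (inv_mem (nE hs)) _).1 (E.inv_mem he)
      have e1 := tE _ (E.inv_mem he)
      have e2 := tE _ m
      rw [inv_inv] at e1
      calc e * (s * t * s⁻¹ * t⁻¹) = s * (s⁻¹ * e⁻¹ * s⁻¹⁻¹)⁻¹ * t * s⁻¹ * t⁻¹ := by group
        _ = s * t * s⁻¹ * t⁻¹ * (t * e⁻¹ * t⁻¹) := by rw [← e2]; group
        _ = _ := by rw [e1]))
  obtain ⟨c, hc, s, hs, rfl⟩ := (mem_sup_of_le_normalizer' nC).1 hk
  have hm : s * n ∈ normalizer (P : Set G) := mul_mem (le_normalizer hs) hn'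
  have mE' : ∀ e ∈ E, (s * n) * e * (s * n)⁻¹ = e⁻¹ := fun e he => by
    rw [show (s * n) * e * (s * n)⁻¹ = c⁻¹ * (c * s * n * e * (c * s * n)⁻¹) * c by group, tE e he,
      mul_assoc, hc _ (E.inv_mem he), inv_mul_cancel_left]
  generalize s * n = m at hm mE'
  have ha' := (mem_normalizer_iff.1 hm a).1 ha
  have e1 : (m * a * m⁻¹) ^ p = (a ^ p)⁻¹ := by rw [conj_pow, mE' _ (ZE (hΦ.2 a ha))]
  have e2 : (m * a * m⁻¹) * y * (m * a * m⁻¹)⁻¹ = a * y * a⁻¹ := by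
    have := mE' _ ((mem_normalizer_iff.1 (nE ha) _).1 (E.inv_mem yE))
    rw [show m * (a * y⁻¹ * a⁻¹) * m⁻¹ = (m * a * m⁻¹) * (m * y⁻¹ * m⁻¹) * (m * a * m⁻¹)⁻¹ by group,
      mE' _ (E.inv_mem yE), inv_inv] at this
    rw [this]; group
  have e3 := Ep _ (hD ⟨P.mul_mem (P.inv_mem ha) ha', mem_centralizer_singleton_iff.2 (by
    rw [show a⁻¹ * (m * a * m⁻¹) * y = a⁻¹ * ((m * a * m⁻¹) * y * (m * a * m⁻¹)⁻¹) * (m * a * m⁻¹) by group,
      e2]; group)⟩)
  rw [hom _ (P.inv_mem ha) _ ha', e1, inv_pow, ← mul_inv_rev, inv_eq_one, ← sq] at e3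
  exact ha1 (mem_bot.1 (mem_of_coprime_pows ((Nat.coprime_primes Nat.prime_two pp).2 hp.symm)
    (mem_bot.2 e3) (mem_bot.2 (Zp _ (hΦ.2 a ha)))))

end Cfsg.Agent.S3053
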