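import Cfsg.Statements.S3054
import Cfsg.Agent.Lib.PGrp.RV2

set_option autoImplicit false
open Cfsg

namespace Cfsg.Agent.S3054

open Subgroup Cfsg.Lib Cfsg.Lib.PGrp

/-- Let p be an odd prime and G a finite group with a Sylow p-subgroup P that is extraspecial of order p³ and exponent p. Suppose P contains three distinct subgroups A of order p² (each is elementary abelian of rank 2) such that every automorphism of A of order p is induced by conjugation by an element of G; equivalently the automorphism group induced on A by its normalizer contains the special linear group of A. Then p ≤ 13. -/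
theorem result {G : Type*} [Group G] [Finite G]
    {p : ℕ} [Fact p.Prime] (hp : p ≠ 2) (P : Sylow p G) (hE : Cfsg.IsExtraspecial p ↥P)
    (hcard : Nat.card P = p ^ 3) (hexp : Monoid.exponent ↥P = p)
    (A : Fin 3 → Subgroup G) (hA : Function.Injective A) (hAP : ∀ i, A i ≤ (P : Subgroup G))
    (hAcard : ∀ i, Nat.card ↥(A i) = p ^ 2)
    (hSL : ∀ i, ∀ φ : MulAut ↥(A i), orderOf φ = p → ∃ g : G, ∀ a : ↥(A i), (φ a : G) = g * (a : G) * g⁻¹) :
    p ≤ 13 := by
  by_contra! hn
  have he : ∀ x : P, x ^ p = 1 := fun x => by simpa only [hexp] using Monoid.pow_exponent_eq_one x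
  obtain ⟨M, hN⟩ := exists_plane (E := (P : Subgroup G)) hE hcard
  obtain ⟨H, _, h1, h2⟩ := exists_pgl P he M hN
  have h3 := fun i => M.plane hN (B := (A i).subgroupOf P) ((Nat.card_congr (subgroupOfEquivOfLe (hAP i)).toEquiv).trans (hAcard i))
  choose hz a ha h4 h5 using h3
  have h6 : ∀ i, ∃ g ∈ H, g • Projectivization.mk (ZMod p) (M.pr (a i)) (h4 i) = _ ∧ p - 1 ∣ 3 * orderOf g := fun i => h2 _ _ (by
    have h6 : a i ≠ 1 := fun e => h4 i (e ▸ M.pr_one)
    obtain ⟨φ, h7, h8, b, h9, h10, h11⟩ := exists_transv (hAcard i) (fun x => Subtype.ext (congrArg Subtype.val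
      (he ⟨x, hAP i x.2⟩) :)) (a := ⟨_, ha i⟩) (z := ⟨_, hz i⟩) (fun e => h6 (Subtype.ext (congrArg Subtype.val e :))) (by
        rintro ⟨k, hk⟩
        exact h4 i (M.pr_eq_zero'.2 (M.range_eq ▸ mem_zpowers_swap (he _) (mt M.i_eq_one.1 one_ne_zero)
          ⟨k, Subtype.ext (congrArg Subtype.val hk :)⟩)))
    obtain ⟨g, hg⟩ := hSL i φ h7
    obtain ⟨k, rfl⟩ := h9
    exact ⟨g, (hg ⟨_, ha i⟩).symm.trans (congrArg Subtype.val h8), _, ⟨k, rfl⟩, fun e => h10 (Subtype.ext e),
      (hg ⟨_, hz i⟩).symm.trans (congrArg Subtype.val h11)⟩)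
  have h7 : ∀ g ∈ H, p - 1 ∣ 3 * orderOf g → p - 1 ≤ 3 * orderOf g := fun g hg =>
    Nat.le_of_dvd (Nat.mul_pos three_pos (orderOf_coe (⟨g, hg⟩ : H) ▸ orderOf_pos _))
  have h8 := (three_points H h1 _ (fun i j e => hA (by
    rw [← map_subgroupOf_eq_of_le (hAP i), ← map_subgroupOf_eq_of_le (hAP j), ← h5, ← h5]
    exact congrArg (fun x => (M.pre (Projectivization.submodule x)).map _) e)) fun i =>
      let ⟨g, h8, h9, h10⟩ := h6 i; ⟨g, h8, h9, by have := h7 g h8 h10; omega⟩).1
  obtain ⟨g, h9, -, h10⟩ := h6 0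
  have := h7 g h9 h10
  have := h8 g h9
  have h11 : p.Prime := Fact.out
  obtain rfl | rfl | rfl : p = 14 ∨ p = 15 ∨ p = 16 := by omega
  all_goals norm_num at h11

end Cfsg.Agent.S3054
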