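import Cfsg.Statements.S3055
import Cfsg.Agent.Lib.PGrp.RV2

set_option autoImplicit false
open Cfsg

namespace Cfsg.Agent.S3055

open Subgroup Cfsg.Lib Cfsg.Lib.PGrp Cfsg.Lib.Amalg Cfsg.Lib.Linear
open scoped commutatorElement

theorem arith {p n : ℕ} (hp : p.Prime) (h1 : 11 ≤ p) (h2 : p - 1 ∣ 3 * n) (h3 : 0 < n) (h4 : n ≤ 5) : p = 13 ∧ n = 4 := by
  have := Nat.le_of_dvd (by omega) h2
  obtain rfl | rfl | rfl | rfl | rfl | rfl : p = 11 ∨ p = 12 ∨ p = 13 ∨ p = 14 ∨ p = 15 ∨ p = 16 := by omega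
  all_goals first | omega | norm_num at hp

/-- Let p be an odd prime and G a finite group with a Sylow p-subgroup P that is extraspecial of order p³ and exponent p. If all nonidentity elements of P are conjugate in G, then p ≤ 7. -/
theorem result {G : Type*} [Group G] [Finite G]
    {p : ℕ} [Fact p.Prime] (hp : p ≠ 2) (P : Sylow p G) (hE : Cfsg.IsExtraspecial p ↥P)
    (hcard : Nat.card P = p ^ 3) (hexp : Monoid.exponent ↥P = p)
    (hconj : ∀ x y : ↥P, x ≠ 1 → y ≠ 1 → ∃ g : G, g * (x : G) * g⁻¹ = (y : G)) :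
    p ≤ 7 := by
  by_contra! hn
  have he : ∀ x : P, x ^ p = 1 := fun x => by simpa only [hexp] using Monoid.pow_exponent_eq_one x
  obtain ⟨M, hN⟩ := exists_plane (E := (P : Subgroup G)) hE hcard
  obtain ⟨H, _, h1, h2⟩ := exists_pgl P he M hN
  have hz : M.i 1 ≠ 1 := mt M.i_eq_one.1 one_ne_zero
  have hPz : (P : Subgroup G) ≤ centralizer {(M.i 1 : G)} := fun u hu =>
    mem_centralizer_singleton_iff.2 (congrArg Subtype.val (M.i_comm 1 ⟨u, hu⟩).symm.eq)
  have h6 : ∀ x : PL (ZMod p), ∃ g ∈ H, g • x = x ∧ p - 1 ∣ 3 * orderOf g ∧ 0 < orderOf g := fun x => by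
    induction x using Projectivization.ind with | _ v ha =>
    obtain ⟨a, rfl⟩ := M.pr_surjective v
    suffices h : _ from let ⟨g, h3, h4, h5⟩ := h2 a ha h; ⟨g, h3, h4, h5, orderOf_coe (⟨g, h3⟩ : H) ▸ orderOf_pos _⟩
    obtain ⟨g, hg⟩ := hconj a (M.i 1) (fun e => ha (e ▸ M.pr_one)) hz
    obtain ⟨c, hc, h3⟩ := ((syl_top P).of_le hPz le_top).exists_conj_le (isPGroup_cj g (P.isPGroup'.to_inf_left
      (K := centralizer {(a : G)}))) (by rw [← hg, ← cj_centralizer_singleton]; exact cj_mono g inf_le_right)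
    have h4 : c * g * a * (c * g)⁻¹ = M.i 1 := by
      rw [show c * g * a * (c * g)⁻¹ = c * (g * a * g⁻¹) * c⁻¹ by group, hg, mem_centralizer_singleton_iff.1 hc,
        mul_inv_cancel_right]
    rw [← cj_mul] at h3
    generalize c * g = k at h3 h4
    have h5 := h3 (conj_mem_cj k (x := M.i 1) ⟨(M.i 1).2, mem_centralizer_singleton_iff.2 (congrArg Subtype.val (M.i_comm 1 a).eq)⟩)
    have h6 : ∀ s, k⁻¹ * M.i s * k ∈ zpowers (a : G) := fun s => by
      rw [← mem_cj, cj_zpowers, h4, M.i_eq_pow s]; exact pow_mem (mem_zpowers (M.i 1 : G)) _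
    obtain ⟨u, hu⟩ := hN.exists_ne_zero (x := M.pr ⟨_, h5⟩) fun e => by
      obtain ⟨s, hs⟩ := M.pr_eq_zero.1 e
      obtain ⟨j, hj⟩ := h6 s
      exact ha (M.pr_eq_zero'.2 (M.range_eq ▸ mem_zpowers_swap (he _) hz ⟨j, Subtype.ext (hj.trans (by rw [hs]; group))⟩))
    obtain ⟨u, rfl⟩ := M.pr_surjective u
    have h7 := congrArg Subtype.val ((M.i_comm (M.B (M.pr u) (M.pr ⟨_, h5⟩)) ⟨_, h5⟩).symm.eq.trans (congrArg (· * _) (M.i_B _ _)))
    refine ⟨k⁻¹ * u * k, ?_, _, h6 (M.B (M.pr u) (M.pr ⟨_, h5⟩)), fun e => hu ?_, ?_⟩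
    · calc _ = k⁻¹ * (u * (k * a * k⁻¹)) * (u : G)⁻¹ * k := by group
        _ = k⁻¹ * (k * a * k⁻¹) * k := by rw [h4, mem_centralizer_singleton_iff.1 (hPz u.2)]; group
        _ = _ := by group
    · exact (M.B_isAlt.neg_eq _ _).symm.trans (neg_eq_zero.2 (M.i_eq_one.1 (Subtype.ext (by simpa [mul_eq_one_iff_eq_inv] using e))))
    · simp only [coe_mul, commutatorElement_def, coe_inv, inv_mul_cancel_right] at h7
      calc _ = k⁻¹ * (u * (k * M.i 1 * k⁻¹) * (u : G)⁻¹) * k := by group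
        _ = _ := by rw [← h7]; group
  have h11 : p.Prime := Fact.out
  have h12 : 11 ≤ p := by
    by_contra h
    obtain rfl | rfl | rfl : p = 8 ∨ p = 9 ∨ p = 10 := by omega
    all_goals norm_num at h11
  obtain ⟨h8, h9⟩ := three_points H h1 ![PL.inf, PL.pt 0, PL.pt 1] (by
    intro i j e
    fin_cases i <;> fin_cases j <;> simp_all [pt_ne_inf, inf_ne_pt, pt_inj]) fun i =>
      let ⟨g, h8, h9, h10, h11⟩ := h6 _; ⟨g, h8, h9, by have := Nat.le_of_dvd (by omega) h10; omega⟩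
  have h10 : p = 13 := let ⟨g, h3, _, h4, h5⟩ := h6 PL.inf; (arith h11 h12 h4 h5 (h8 g h3)).1
  haveI : Fact (Nat.Prime 3) := ⟨Nat.prime_three⟩
  obtain ⟨t, ht⟩ := exists_prime_orderOf_dvd_card' 3 h9
  obtain ⟨x, hx⟩ := (IsPGroup.of_card (p := 3) (n := 1) (G := zpowers t) (by
    rw [Nat.card_zpowers, ht, pow_one])).nonempty_fixed_point_of_prime_not_dvd_card (PL (ZMod p)) (by
      rw [card_PL, Nat.card_zmod, h10]; norm_num)
  obtain ⟨g, h3, h4, h5, h7⟩ := h6 x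
  have h14 := (arith h11 h12 h5 h7 (h8 g h3)).2
  have h15 := h8 _ (mul_mem t.2 h3)
  rw [Commute.orderOf_mul_eq_mul_orderOf_of_coprime (commute_of_le_stabilizer (E := H ⊓ MulAction.stabilizer _ x) inf_le_right
    (tame_of (fun e => h1 (e.trans (card_dvd_of_le inf_le_left))) x) ⟨t.2, hx ⟨t, mem_zpowers t⟩⟩ ⟨h3, h4⟩) (by
      rw [orderOf_coe, ht, h14]; norm_num), orderOf_coe, ht, h14] at h15
  omega

end Cfsg.Agent.S3055
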