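import Cfsg.Statements.S3057
import Cfsg.Agent.Lib.Amalg.StrongEmb
import Cfsg.Agent.Lib.Hall.Camina
import Cfsg.Agent.Lib.Block.GenQuat
import Cfsg.Agent.Lib.PGrp.Cyclic
import Cfsg.Agent.Lib.Core.PSolvable

set_option autoImplicit false
open Cfsg

namespace Cfsg.Agent.S3057

open Subgroup Cfsg.Lib Cfsg.Lib.Core Cfsg.Lib.Amalg

/-- Let p be a prime and G a finite p-solvable group of order divisible by p, with Sylow p-subgroup P. Then the Sylow p-subgroups of G fail to be chain-connected through nontrivial intersections (equivalently, G has a strongly p-embedded subgroup) if and only if O_p(G) = 1 and P is cyclic or, for p = 2, generalized quaternion. -/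
theorem result {G : Type*} [Group G] [Finite G]
    (p : ℕ) [Fact p.Prime] (hdiv : p ∣ Nat.card G) (hsol : Cfsg.IsPSolvable p G) (P : Sylow p G) :
    ¬ Cfsg.IsSylowChainConnected p G ↔
      Cfsg.pCore p G = ⊥ ∧ (IsCyclic ↥P ∨ (p = 2 ∧ ∃ n : ℕ, Nonempty (↥P ≃* QuaternionGroup (2 ^ n)))) := by
  have hp : p.Prime := Fact.out
  rw [not_connected_iff]
  refine ⟨fun ⟨M, hM⟩ => ⟨op_top.symm.trans hM.op_eq_bot, Hall.cyclic_or_quaternion_of_abelian P.isPGroup' fun A hA => ?_⟩,
    fun ⟨h1, h2⟩ => ?_⟩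
  · by_contra hc
    obtain ⟨T, hT, hTM, -⟩ := hM.exists_syl
    obtain ⟨g, -, e⟩ := (syl_top P).exists_conj hT
    let f : P →* G := (MulAut.conj g).toMonoidHom.comp (P : Subgroup G).subtype
    have hf : Function.Injective f := (MulAut.conj g).injective.comp (subtype_injective _)
    have hO : pPrimeCore p G ≤ M := hM.le_of_not_isCyclic (A := A.map f) ((P.isPGroup'.to_subgroup A).map f) inferInstance
      (fun h => hc (isCyclic_of_surjective _ (A.equivMapOfInjective f hf).symm.surjective))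
      (by rintro _ ⟨x, -, rfl⟩; exact hTM (e ▸ mem_cj'.2 ⟨x, x.2, rfl⟩)) le_top (coprime_card_pPrimeCore p G)
      le_normalizer_of_normal
    have h3 := hM.map_mk (pPrimeCore p G) (coprime_card_pPrimeCore p G) (by rw [sup_eq_left.2 hO]; exact fun e => hM.not_le e.ge)
    have h4 := centralizer_pCore_le_of_isPSolvable hp (isPSolvable_quotient hp hsol _) pPrimeCore_quotient_pPrimeCore
    rw [op_top.symm.trans h3.op_eq_bot] at h4
    exact h3.not_le fun x _ => by rw [mem_bot.1 (h4 (x := x) (mem_centralizer_iff.2 fun y hy => by rw [mem_bot.1 hy]; simp))]; exact one_mem _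
  · have hP := (syl_top P).ne_bot (by simpa using hdiv)
    have ex : ∀ A : Subgroup G, A ≤ P → A ≠ ⊥ → ∃ x ∈ A, orderOf x = p := fun A h1 h2 => by
      obtain ⟨x, hx⟩ := exists_prime_orderOf_dvd_card' p
        (((P.isPGroup'.to_le h1).card_eq_or_dvd).resolve_left fun e => h2 (card_eq_one.1 e))
      exact ⟨x, x.2, by simpa using hx⟩
    have u : ∀ x ∈ (P : Subgroup G), ∀ y ∈ (P : Subgroup G), orderOf x = p → orderOf y = p → zpowers x = zpowers y :=
      fun x hx y hy h3 h4 => by
        rcases h2 with h2 | ⟨rfl, n, ⟨e⟩⟩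
        · exact PGrp.eq_of_card_eq_of_isCyclic h2 (zpowers_le.2 hx) (zpowers_le.2 hy) (by rw [Nat.card_zpowers, Nat.card_zpowers, h3, h4])
        · obtain ⟨a, b, h⟩ := Block.exists_quatData e
          rw [(h.eq_z (by positivity) hx h3).trans (h.eq_z (by positivity) hy h4).symm]
    obtain ⟨z, hz, ho⟩ := ex P le_rfl hP
    refine ⟨𝐍 (zpowers z), spe_of_syl le_top (fun e => ?_) (syl_top P) hP fun A a1 a2 g hg => ?_⟩
    · haveI := normalizer_eq_top_iff.1 e
      have := le_pCore (isPGroup_zpowers_of_pow (p := p) (x := z) (k := 1) (by rw [pow_one, ← ho, pow_orderOf_eq_one])) (mem_zpowers z)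
      rw [h1, mem_bot] at this
      exact hp.one_lt.ne (by rw [← ho, this, orderOf_one])
    · obtain ⟨x, hx, h3⟩ := ex A a1 a2
      rw [u z hz x (a1 hx) ho h3, ← cj_eq_self_iff, cj_zpowers]
      exact u _ (a1 ((mem_normalizer_iff.1 hg.2 x).1 hx)) x (a1 hx) (by rw [← h3]; exact (MulAut.conj g).orderOf_eq x) h3

end Cfsg.Agent.S3057
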