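import Cfsg.Statements.S3058
import Cfsg.Agent.Lib.Amalg.StrongEmb
import Cfsg.Agent.Lib.PGrp.Cyclic

set_option autoImplicit false
open Cfsg

namespace Cfsg.Agent.S3058

open Subgroup Cfsg.Lib.Amalg
open Cfsg.Lib.Core hiding isPGroup_subgroupOf isPGroup_subgroupOf_iff isPGroup_map_subtype_iff isPGroup_zpowers_of_orderOf
open scoped commutatorElement

/-- Let p be a prime and G a finite group whose Sylow p-subgroups are not chain-connected through nontrivial intersections (so G has a strongly p-embedded subgroup). If N and M are normal subgroups of G whose orders are both divisible by p, then the order of N ∩ M is divisible by p. Consequently, among the normal subgroups of G whose order is divisible by p there is a smallest one (the intersection of all of them). -/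
theorem result {G : Type*} [Group G] [Finite G]
    (p : ℕ) [Fact p.Prime] (hG : ¬ Cfsg.IsSylowChainConnected p G)
    (N M : Subgroup G) [N.Normal] [M.Normal] (hN : p ∣ Nat.card N) (hM : p ∣ Nat.card M) :
    p ∣ Nat.card ↥(N ⊓ M) := by
  obtain ⟨H, h⟩ := not_connected_iff.1 hG
  obtain ⟨T, h1, h2, -⟩ := h.exists_syl
  by_contra hd
  have hD : (Nat.card (N ⊓ M : Subgroup G)).Coprime p :=
    ((Nat.Prime.coprime_iff_not_dvd Fact.out).2 hd).symm
  have a1 := h1.inf_normal_top N
  have b1 := h1.inf_normal_top M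
  obtain ⟨x, ⟨hx, hx'⟩, x1⟩ := ne_bot_iff_exists.1 (inf_omZ_ne_bot h1.isPGroup inf_le_left
    (le_normalizer_inf le_normalizer le_normalizer_of_normal) (a1.ne_bot hN))
  obtain ⟨y, ⟨hy, hy'⟩, y1⟩ := ne_bot_iff_exists.1 (inf_omZ_ne_bot h1.isPGroup inf_le_left
    (le_normalizer_inf le_normalizer le_normalizer_of_normal) (b1.ne_bot hM))
  have hnc : ¬ IsCyclic (omegaOneCenter p T) := by
    intro hc
    have := Lib.PGrp.mem_zpowers_of_pow_eq_one hc hy' hx'
      (by rw [orderOf_eq_prime ((isElemAb_omZ T).2 x hx') x1]; exact (isElemAb_omZ T).2 y hy')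
    have h3 : zpowers y = ⊥ := eq_bot_of_pPrime_le
      (coprime_of_le hD (zpowers_le_of_mem ⟨zpowers_le_of_mem hx.2 this, hy.2⟩)) h1.isPGroup
      (zpowers_le_of_mem hy.1)
    exact y1 (zpowers_eq_bot.1 h3)
  have hDH : N ⊓ M ≤ H := h.le_of_not_isCyclic (isPGroup_omZ T) (isElemAb_omZ T).1 hnc
    ((omZ_le T).trans h2) le_top hD le_normalizer_of_normal
  refine h.not_dvd_of_normal (N := M) (fun g hg => ?_) le_normalizer_of_normal hM
  have hn : M ≤ 𝐍 ((T ⊓ N) ⊔ (N ⊓ M)) := le_normalizer_of_comm_le (comm_sup_le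
    (((commutator_mono inf_le_right le_rfl).trans (commutator_le_inf N M)).trans le_sup_right)
    ((comm_le_left le_normalizer_of_normal).trans le_sup_right) (le_normalizer_of_le le_sup_left)
    (le_normalizer_of_le le_sup_right))
  obtain ⟨n, hn', a, ha, rfl⟩ := (a1.of_le le_sup_left (sup_le inf_le_right inf_le_left)).frattini_mem
    (hn hg)
  exact mul_mem (sup_le (inf_le_left.trans h2) hDH hn')
    (h.norm _ (inf_le_left.trans h2) a1.isPGroup (a1.ne_bot hN) ⟨trivial, ha⟩)

end Cfsg.Agent.S3058
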