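import Cfsg.Statements.S3062
import Cfsg.Agent.Lib.SF.DStar

set_option autoImplicit false
open Cfsg

namespace Cfsg.Agent.S3062

open Cfsg.Lib Cfsg.Lib.Amalg in

/-- Let S be a finite p-group, J(S) the subgroup generated by the abelian subgroups of S of largest order and Z(J(S)) its centre. Then Z(S) ≤ D*(S) ≤ Z(J(S)), and every maximal normal abelian subgroup of S contains D*(S). -/
theorem result {S : Type*} [Group S] [Finite S] {p : ℕ} [Fact p.Prime]
    (hS : IsPGroup p S) :
    Subgroup.center S ≤ Cfsg.dStar S ∧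
    Cfsg.dStar S ≤ Cfsg.thompsonSubgroupA S ⊓ Subgroup.centralizer (Cfsg.thompsonSubgroupA S : Set S) ∧
    ∀ A : Subgroup S, A.Normal → IsMulCommutative A →
      (∀ B : Subgroup S, B.Normal → IsMulCommutative B → A ≤ B → B = A) → Cfsg.dStar S ≤ A := by
  have hD := SF.df_top.2 (SF.dStar_mem hS)
  have hn : (⊤ : Subgroup S) ≤ Subgroup.normalizer (dStar S : Set S) := fun g _ => mem_normalizer_of_cj_le
    (le_sSup (SF.df_top.1 (cj_normal g (⊤ : Subgroup S) ▸ hD.conj g)))
  have key : ∀ A ∈ maxAbelianSubgroups S, A ≤ Subgroup.centralizer (dStar S : Set S) := fun A hA =>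
    hD.maxAb_le hS hA (le_top.trans hn)
  refine ⟨le_sSup ⟨inferInstance, fun x _ a ha => (Subgroup.mem_center_iff.1 ha x).symm⟩, le_inf ?_
    (le_cent_symm (sSup_le key)), fun A _ h1 h2 => ?_⟩
  · obtain ⟨A, hA⟩ := exists_maxAb (G := S)
    exact (le_cent_symm (key A hA)).trans ((maxAb_cent hA).le.trans (maxAb_le_J hA))
  · have := hS.isNilpotent
    exact SF.dStar_le_of_max hS h1 (Core.centralizer_eq_of_maximal_abelian_normal A h2).le

end Cfsg.Agent.S3062
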