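import Cfsg.Statements.S3064
import Cfsg.Agent.Lib.Amalg.Bridge
import Cfsg.Agent.Lib.Block.IsoElt
import Cfsg.Agent.Lib.Clifford.Frobenius

set_option autoImplicit false
open Cfsg

namespace Cfsg.Agent.S3064

open Subgroup Cfsg.Lib.Amalg
open Cfsg.Lib.Core hiding isPGroup_subgroupOf isPGroup_subgroupOf_iff isPGroup_map_subtype_iff isPGroup_zpowers_of_orderOf
open scoped commutatorElement

/-- Let S be a Sylow p-subgroup of the finite group G and x an element of S such that (i) x is the only G-conjugate of x lying in S, and (ii) x centralizes every subgroup of order prime to p that it normalizes. Then x lies in the centre of G. -/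
theorem result {G : Type*} [Group G] [Finite G] {p : ℕ} [Fact p.Prime]
    (S : Sylow p G) (x : G) (hx : x ∈ S)
    (hU : ∀ g : G, g⁻¹ * x * g ∈ S → g⁻¹ * x * g = x)
    (hb : ∀ H : Subgroup G, (Nat.card H).Coprime p → (∀ h ∈ H, x * h * x⁻¹ ∈ H) → ∀ h ∈ H, x * h = h * x) :
    x ∈ Subgroup.center G := by
  have iso : IsIsolated x := Lib.Block.isIsolated_of_sylow S hx fun g h => by
    simpa using hU g⁻¹ (by simpa using h)
  obtain ⟨k, hk⟩ := isPGroup_iff_mem.1 S.isPGroup' x hx
  have key : ∀ L : Subgroup G, x ∈ L → L ≤ centralizer {x} := fun L => by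
    induction L using WellFoundedLT.induction with
    | ind L ih =>
    intro hL
    obtain ⟨N, h1, h2, h3, h4, -⟩ := Lib.Clifford.frobenius_wielandt (K := L) (H := L ⊓ centralizer {x})
      (M := L ⊓ centralizer (L : Set G))
      (inf_le_inf_left L (centralizer_le (Set.singleton_subset_iff.2 hL)))
      (fun g hg n hn => by rwa [hn.2 g hg.1, mul_inv_cancel_right]) inf_le_left
      fun g hg hn a ha hga => by
        refine ⟨ha.1, le_cent_symm (H := L) (K := zpowers a) ?_ (mem_zpowers a)⟩
        by_contra c
        have m : ∀ y : G, y * a = a * y → y ∈ centralizer (zpowers a : Set G) := fun y e =>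
          le_cent_symm (zpowers_le.2 (le_cent_symm (K := zpowers y) (zpowers_le.2 (by
            rw [coe_zpowers, ← coe_zpowers, zpowers_eq_closure, centralizer_closure,
              mem_centralizer_singleton_iff]; exact e.symm)) (mem_zpowers y)) |> fun t =>
            le_cent_symm t) (mem_zpowers y)
        have e1 := mem_centralizer_singleton_iff.1 ha.2
        have e2 := mem_centralizer_singleton_iff.1 hga.2
        have := mem_centralizer_singleton_iff.1 (ih _ (inf_lt_left.2 c) ⟨hL, m x e1.symm⟩
          (x := g⁻¹ * x * g⁻¹⁻¹) ⟨L.mul_mem (L.mul_mem (L.inv_mem hg) hL) (L.inv_mem (L.inv_mem hg)),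
            m _ (by rw [inv_inv, show g⁻¹ * x * g * a = g⁻¹ * (x * (g * a * g⁻¹)) * g by group, ← e2]; group)⟩)
        refine hn ⟨hg, mem_centralizer_singleton_iff.2 ?_⟩
        have := iso g⁻¹ this.symm
        rw [inv_inv] at this
        rw [← this, show g * (g⁻¹ * x * g) = x * g by group, this]
    have n : L ≤ normalizer (N : Set G) := le_normalizer_of_cj_le fun g hg => cj_le_iff'.2 (h2 g hg)
    obtain ⟨T, hT, xT⟩ := exists_syl_ge (isPGroup_zpowers_of_pow hk) (zpowers_le.2 hL)
    have TC : T ≤ centralizer {x} := fun y hy => mem_centralizer_singleton_iff.2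
      (iso.commute_of_mem hT.isPGroup (xT (mem_zpowers x)) hy)
    have hTN := hT.inf_normal h1 n
    have c := hTN.coprime_res (inf_le_left.trans (le_cent_symm (((le_inf inf_le_right
      (inf_le_left.trans (le_inf hT.le TC))).trans h3.le).trans (inf_le_right.trans (centralizer_le h1)))))
    refine h4.ge.trans (sup_le inf_le_right (hTN.res_sup.ge.trans (sup_le (fun y hy => ?_)
      (inf_le_left.trans TC))))
    exact mem_centralizer_singleton_iff.2 (hb _ c (fun h hh =>
      (mem_normalizer_iff.1 (norm_le_norm_res N (n hL)) h).1 hh) y hy).symm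
  exact mem_center_iff.2 fun g => mem_centralizer_singleton_iff.1 (key ⊤ trivial (mem_top g))

end Cfsg.Agent.S3064
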