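import Cfsg.Statements.S3067
import Cfsg.Agent.Lib.Hall.CoAut
import Cfsg.Agent.Lib.Coprime.Action

set_option autoImplicit false
open Cfsg

namespace Cfsg.Agent.S3067

open scoped Pointwise commutatorElement
open Cfsg.Lib Cfsg.Lib.Hall

/-- Let G be a finite non-abelian simple group, τ an involution of G, and α a nontrivial automorphism of G whose order is coprime to the order of G. Then α moves some element of the centralizer of τ: α does not fix C_G(τ) elementwise. -/
theorem result {G : Type*} [Group G] [Finite G] [IsSimpleGroup G]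
    (hG : ¬ IsMulCommutative G) (τ : G) (hτ : orderOf τ = 2) (α : MulAut G) (hα : α ≠ 1)
    (hcop : (orderOf α).Coprime (Nat.card G)) :
    ∃ c ∈ Subgroup.centralizer ({τ} : Set G), α c ≠ c := by
  by_contra! h
  obtain ⟨Γ, _, _, i, j, hA, -, hN⟩ := Coprime.exists_ambient (Subgroup.zpowers α).subtype
  set a := j ⟨α, Subgroup.mem_zpowers α⟩ with ha
  have hcard : Nat.card i.range = Nat.card G := (Nat.card_congr (MonoidHom.ofInjective hA.inj_i).toEquiv).symm
  have hc : CA i.range a := ⟨Subgroup.le_normalizer_of_normal (K := ⊤) (Subgroup.mem_top a), by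
    rw [hcard, ha, orderOf_injective j hA.inj_j, ← Subgroup.orderOf_coe]; exact hcop⟩
  have hτ' : JI i.range a (i τ) := ⟨⟨τ, rfl⟩, by rw [orderOf_injective i hA.inj_i, hτ], by
    rintro _ ⟨g, rfl⟩ e
    have h1 := h g (Subgroup.mem_centralizer_singleton_iff.2 (hA.inj_i (by simpa using e.eq)))
    have h2 := hA.conj ⟨α, Subgroup.mem_zpowers α⟩ g
    simp only [Subgroup.subtype_apply, h1] at h2
    exact (mul_inv_eq_iff_eq_mul.1 h2).symm⟩
  have ho := coprime_aut_odd hc hτ'
  have hle : ⁅i.range, Subgroup.zpowers a⁆ ≤ i.range := BG1.commutator_le_left_of_norm hc.le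
  have hn : (⁅i.range, Subgroup.zpowers a⁆.comap i).Normal := ⟨fun x hx g => by
    simpa using ca_conj_mem (BG1.le_norm_commutator_left i.range (Subgroup.zpowers a) ⟨g, rfl⟩) hx⟩
  rcases hn.eq_bot_or_eq_top with e | e
  · refine hα (MulEquiv.ext fun g => ?_)
    have h2 := hA.conj ⟨α, Subgroup.mem_zpowers α⟩ g⁻¹
    have : g * α g⁻¹ ∈ ⁅i.range, Subgroup.zpowers a⁆.comap i := by
      have := Subgroup.commutator_mem_commutator (H₁ := i.range) (H₂ := Subgroup.zpowers a) ⟨g, rfl⟩ (Subgroup.mem_zpowers a)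
      rw [commutatorElement_def, mul_assoc, mul_assoc, ← mul_assoc a, ← map_inv i, h2, ← map_mul] at this
      exact this
    rw [e, Subgroup.mem_bot, map_inv, mul_inv_eq_one] at this
    exact this.symm
  · have := Subgroup.orderOf_dvd_natCard _ (show i τ ∈ ⁅i.range, Subgroup.zpowers a⁆ from e.ge (Subgroup.mem_top τ))
    rw [orderOf_injective i hA.inj_i, hτ] at this
    have := Nat.odd_iff.1 ho
    omega

end Cfsg.Agent.S3067
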