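import Cfsg.Statements.S3069
import Cfsg.Agent.Lib.Glaub.KCon

set_option autoImplicit false
open Cfsg

namespace Cfsg.Agent.S3069

open Cfsg.FusionSystem Cfsg.Lib.Fus2 Cfsg.Lib.Amalg Subgroup Cfsg.Lib Cfsg.Lib.Glaub Cfsg.Lib.Transfer

/-- Let p ≥ 7 be a prime and S a nontrivial Sylow p-subgroup of the finite group G. If N_G(S)/C_G(S) is a p-group (every element of N_G(S) of order prime to p centralizes S), then O^p(G) < G, i.e. G has a nontrivial p-factor group. -/
theorem result {G : Type*} [Group G] [Finite G] {p : ℕ} [Fact p.Prime]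
    (hp : 7 ≤ p) (S : Sylow p G) (hS : (S : Subgroup G) ≠ ⊥)
    (hN : ∀ g ∈ Subgroup.normalizer ((S : Subgroup G) : Set G), (orderOf g).Coprime p →
      g ∈ Subgroup.centralizer ((S : Subgroup G) : Set G)) :
    Cfsg.pResidual p G ≠ ⊤ := by
  obtain ⟨N, h1, h2⟩ := exists_index_of_res_le (by omega) (syl_top S) hS (resOf_le_iff.2 hN)
  intro e
  have := pResidual_le_ker (A := G ⧸ N) (IsPGroup.of_card (n := 1) (h2.trans (pow_one p).symm)) (QuotientGroup.mk' N)
  rw [e, QuotientGroup.ker_mk', top_le_iff] at this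
  rw [this, index_top] at h2
  omega

end Cfsg.Agent.S3069
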