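import Cfsg.Statements.S3071
import Cfsg.Agent.Lib.Glaub.PSt

set_option autoImplicit false
open Cfsg

namespace Cfsg.Agent.S3071

open Cfsg.FusionSystem Cfsg.Lib.Fus2 Cfsg.Lib.Amalg Subgroup Cfsg.Lib Cfsg.Lib.Glaub

/-- Let p be an odd prime and S a Sylow p-subgroup of the finite group G such that, for every subgroup P with Z(S) ≤ P ≤ S, the normalizer N_G(P) has no section isomorphic to SL₂(p). Let J(S) be the subgroup generated by the abelian subgroups of S of largest order. Then two elements of S are conjugate in G if and only if they are conjugate in N_G(Z(J(S))). -/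
theorem result {G : Type*} [Group G] [Finite G] {p : ℕ} [Fact p.Prime]
    (hp : p ≠ 2) (S : Sylow p G)
    (hfree : ∀ P : Subgroup G, (S : Subgroup G) ⊓ Subgroup.centralizer ((S : Subgroup G) : Set G) ≤ P → P ≤ S →
      ¬ ∃ (H K : Subgroup G) (hK : (K.subgroupOf H).Normal), H ≤ Subgroup.normalizer (P : Set G) ∧
        Nonempty ((H ⧸ K.subgroupOf H) ≃* Matrix.SpecialLinearGroup (Fin 2) (ZMod p))) :
    ∀ x ∈ S, ∀ y ∈ S, (∃ g : G, g * x * g⁻¹ = y) ↔
      ∃ n ∈ Subgroup.normalizer (Cfsg.centerThompsonAOf (S : Subgroup G) : Set G), n * x * n⁻¹ = y := by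
  have hw := Fct.cf (G := G) (fct_zjF (p := p) (.inl rfl))
  have h : SF {𝐍 (centerThompsonOf 0 S.1)} ⊤ S.1 := sf_of_gSub (fun s hs => .inl ⟨_, rfl, norm_le_norm_zj (le_normalizer hs)⟩)
    fun D hD => gfamily (𝓦 := {amb (zjF 0)}) (syl_top S) le_rfl (by rintro _ rfl; exact hw) True
      (by rintro - _ rfl P -; exact amb_zjF (P := P) ▸ center_le_zj_zero)
      (by rintro _ rfl; exact amb_zjF (P := S.1) ▸ hD _ rfl) fun Q h1 _ h2 h3 h4 =>
        ((zj_sf hp (.inl rfl) h3.subgroupOf_top scl_self (normPStable_of_qd hp fun c =>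
          let ⟨K, L, h, h5, e⟩ := section_of_involves (involves_trans involves_sl2_qd c)
          hfree Q (h2 trivial) h1 ⟨K, L, h, h5, e⟩)).map (𝓨 := {𝐍 Q ⊓ 𝐍 (amb (zjF 0) (S.1 ⊓ 𝐍 Q))}) (𝐍 Q).subtype
            (𝐍 Q).subtype_injective (by
              rintro _ rfl
              refine ⟨_, rfl, le_inf (map_subtype_le _) ((le_normalizer_map _).trans_eq ?_)⟩
              rw [map_zj (subtype_injective _), amb_zjF, subgroupOf_map_subtype, inf_assoc, inf_idem]) |> fun a => by
          rw [Amalg.map_subtype_top, subgroupOf_map_subtype, inf_assoc, inf_idem] at a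
          exact a.gSub inf_le_left (by rintro _ rfl; exact h4 _ rfl))
  intro x hx y hy
  rw [centerThompsonAOf_eq]
  refine ⟨fun ⟨g, e⟩ => ?_, fun ⟨g, _, e⟩ => ⟨g, e⟩⟩
  obtain ⟨n, h1, h2⟩ := sf_singleton.1 h {x} g trivial (by simpa using hx) (by rintro _ rfl; exact e ▸ hy)
  exact ⟨n, h1, (h2 x rfl).trans e⟩

end Cfsg.Agent.S3071
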