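import Cfsg.Statements.S3072
import Cfsg.Agent.Lib.Layer.Alp

set_option autoImplicit false
open Cfsg

namespace Cfsg.Agent.S3072

open Subgroup Cfsg.Lib.Core Cfsg.Lib.Amalg Cfsg.Lib.BG1 Cfsg.Lib.Layer

/-- A strong form of the Alperin–Goldschmidt fusion Theorem. Let P be a Sylow p-subgroup of the finite group G, A a subset of P containing a nonidentity element, and g an element with g⁻¹Ag ⊆ P. Then g = c·x₁⋯xₙ·y with c ∈ C_G(A), y ∈ N_G(P) and, for each i, an element xᵢ and a subgroup Hᵢ ≤ P such that: N_P(Hᵢ) is a Sylow p-subgroup of N_G(Hᵢ); C_P(Hᵢ) ≤ Hᵢ; O_{p',p}(N_G(Hᵢ)) = Hᵢ·C_G(Hᵢ); the Sylow p-subgroups of N_G(Hᵢ)/Hᵢ are not chain-connected through nontrivial intersections (the quotient has a strongly p-embedded subgroup); xᵢ lies in O^p(Xᵢ), where Xᵢ/Hᵢ is the smallest normal subgroup of N_G(Hᵢ)/Hᵢ of order divisible by p; and (x₁⋯xᵢ₋₁)⁻¹A(x₁⋯xᵢ₋₁) ⊆ Hᵢ. -/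
theorem result {G : Type*} [Group G] [Finite G] {p : ℕ} [Fact p.Prime]
    (P : Sylow p G) (A : Set G) (hA : A ⊆ (P : Set G)) (hA1 : ∃ a ∈ A, a ≠ 1)
    (g : G) (hAg : (fun a => g⁻¹ * a * g) '' A ⊆ (P : Set G)) :
    ∃ (n : ℕ) (H X : Fin n → Subgroup G) (x : Fin n → G) (c y : G),
      c ∈ Subgroup.centralizer A ∧ y ∈ Subgroup.normalizer ((P : Subgroup G) : Set G) ∧
      g = c * (List.ofFn x).prod * y ∧
      ∀ i : Fin n,
        H i ≤ (P : Subgroup G) ∧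
        ¬ p ∣ ((P : Subgroup G) ⊓ Subgroup.normalizer (H i : Set G)).relIndex (Subgroup.normalizer (H i : Set G)) ∧
        (P : Subgroup G) ⊓ Subgroup.centralizer (H i : Set G) ≤ H i ∧
        (Cfsg.pPrimePCore p ↥(Subgroup.normalizer (H i : Set G))).map (Subgroup.normalizer (H i : Set G)).subtype =
          H i ⊔ Subgroup.centralizer (H i : Set G) ∧
        ¬ Cfsg.IsSylowChainConnected p
            (↥(Subgroup.normalizer (H i : Set G)) ⧸ (H i).subgroupOf (Subgroup.normalizer (H i : Set G))) ∧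
        (H i ≤ X i ∧ X i ≤ Subgroup.normalizer (H i : Set G) ∧
          ((X i).subgroupOf (Subgroup.normalizer (H i : Set G))).Normal ∧ p ∣ (H i).relIndex (X i) ∧
          ∀ Y : Subgroup G, H i ≤ Y → Y ≤ Subgroup.normalizer (H i : Set G) →
            (Y.subgroupOf (Subgroup.normalizer (H i : Set G))).Normal → p ∣ (H i).relIndex Y → X i ≤ Y) ∧
        x i ∈ (Cfsg.pResidual p ↥(X i)).map (X i).subtype ∧
        (fun a => (((List.ofFn x).take i.val).prod)⁻¹ * a * ((List.ofFn x).take i.val).prod) '' A ⊆ (H i : Set G) := by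
  let Good : Subgroup G × Subgroup G → G → Prop := fun i x => Essl p P i.1 i.2 ∧ x ∈ pResidualOf p i.2
  obtain ⟨c, hc, l, y, hy, h1, h2⟩ := ess_ind (R := fun D g => ∃ c ∈ 𝐂(D), ∃ l, ∃ y ∈ 𝐍((P : Subgroup G)),
      AChain Good Prod.fst D l ∧ g⁻¹ = c * (l.map Prod.snd).prod * y) (syl_top P)
    (fun D E g ⟨c, hc, l, y, hy, h1, h2⟩ h => ⟨c, cent_anti h hc, l, y, hy, h1.mono E h, h2⟩)
    (fun D g h ⟨c, hc, l, y, hy, h1, h2⟩ ⟨c', hc', l', y', hy', h1', h2'⟩ => by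
      obtain ⟨l'', h3, h4⟩ := h1'.conj y (fun i => (cj y i.1, cj y i.2)) fun i x hx =>
        ⟨⟨cj_of_mem_normalizer hy ▸ hx.1.conj y, cj_res (p := p) y i.2 ▸ conj_mem_cj y hx.2⟩, rfl⟩
      refine ⟨g⁻¹ * c' * g * c, mul_mem (by rwa [← cj_centralizer, mem_cj] at hc') hc, l ++ l'', y * y', mul_mem hy hy',
        h1.append ?_, ?_⟩
      · rwa [← cj_mul, show y * g = (l.map Prod.snd).prod⁻¹ * c⁻¹ by rw [← inv_inv g, h2]; group, cj_mul,
          cj_of_mem_centralizer (inv_mem hc)] at h3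
      · rw [List.map_append, List.prod_append, h4, mul_inv_rev, h2', ← inv_inv g, h2]; group)
    (fun D c hc => ⟨c⁻¹, inv_mem hc, [], 1, one_mem _, .nil _, by simp⟩)
    (fun n hn => ⟨1, one_mem _, [], n⁻¹, inv_mem hn, .nil _, by simp⟩)
    (fun D X h n hn => ⟨1, one_mem _, [((D, X), n⁻¹)], 1, one_mem _,
      .cons _ _ _ _ ⟨h, inv_mem hn⟩ le_rfl (.nil _), by simp⟩)
    (closure A) ((closure_le _).2 hA) g⁻¹ (cj_closure_le hAg)
  obtain ⟨I, x, e, h⟩ := h1.ofFn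
  refine ⟨_, fun i => (I i).1, fun i => (I i).2, x, c, y, by rwa [centralizer_closure] at hc, hy,
    by rw [e, ← h2, inv_inv], fun i => ?_⟩
  obtain ⟨⟨h3, h4⟩, h5⟩ := h i
  obtain ⟨M, a, b, d⟩ := h3.iso
  exact ⟨h3.lt.le, h3.ecr.syl.not_dvd_relIndex, h3.ecr.cent, h3.ecr.rad,
    not_connected_iff.2 ⟨_, spe_quo h3.lt P.isPGroup' h3.ecr.syl a b d⟩,
    ⟨h3.le, h3.le', (normal_subgroupOf_iff_le_normalizer h3.le').2 h3.norm, h3.dvd, fun Y a b c d =>
      h3.least Y a b ((normal_subgroupOf_iff_le_normalizer b).1 c) d⟩, h4, h5⟩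

end Cfsg.Agent.S3072
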