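import Cfsg.Statements.S3074
import Cfsg.Agent.Lib.Glaub.QdF
import Cfsg.Agent.Lib.Fus3.Pearl
import Cfsg.Agent.Lib.Known.Unipotent

set_option autoImplicit false
open Cfsg

namespace Cfsg.Agent.S3074

open Cfsg.Lib Cfsg.Lib.Amalg Cfsg.Lib.Glaub Subgroup in

/-- Let p be an odd prime. A Sylow p-subgroup of Qd(p), the split extension of an elementary abelian group of order p² by SL₂(p) acting naturally, is extraspecial of order p³ and exponent p. -/
theorem result (p : ℕ) [Fact p.Prime] (hp : p ≠ 2) (P : Sylow p ↥(Cfsg.qd p)) :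
    Cfsg.IsExtraspecial p ↥P ∧ Nat.card P = p ^ 3 ∧ Monoid.exponent ↥P = p := by
  have hp' : p.Prime := Fact.out
  have h2 := hp'.two_le
  have hL := qdL_of_equiv (MulEquiv.refl (qd p))
  have hc := charP_top.1 hL.charP
  obtain ⟨σ, ι, h1, h3, -⟩ := hL
  have h4 : Nat.card ι.range = p ^ 2 := by
    rw [← Nat.card_congr (MonoidHom.ofInjective h1.inj).toEquiv]; simp [Nat.card_pi]
  have hS := syl_top P
  have h5 : Nat.card P = p ^ 3 := by
    have e := σ.ker.card_mul_index
    rw [index_ker, MonoidHom.range_eq_top.2 h1.surj, card_top, KS9.card_sl2, h3, h4] at e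
    rw [P.card_eq_multiplicity, ← e, show p ^ 2 * (p * (p - 1) * (p + 1)) = p ^ 3 * ((p - 1) * (p + 1)) by ring,
      Nat.factorization_mul (by positivity) (Nat.mul_ne_zero (by omega) (by omega)), hp'.factorization_pow,
      Finsupp.add_apply, Finsupp.single_eq_same, Nat.factorization_eq_zero_of_not_dvd]
    rw [hp'.dvd_mul, Nat.dvd_add_self_left, Nat.dvd_one]
    exact fun d => d.elim (fun d => by have := Nat.le_of_dvd (by omega) d; omega) (by omega)
  have h6 : ¬ IsMulCommutative P := fun h => by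
    have := card_le_of_le ((KS9.le_cent_of_comm h hS.pCore_le le_rfl).trans hc)
    rw [pCore_eq_of_ker h1.surj h3, h4, h5] at this
    exact absurd this (not_le.2 (Nat.pow_lt_pow_right h2 (by norm_num)))
  refine ⟨Fus.isExtraspecial_of_cube h5 h6, h5, ?_⟩
  have : Nontrivial P := by
    by_contra h
    have := not_nontrivial_iff_subsingleton.1 h
    exact h6 ⟨⟨fun a b => Subsingleton.elim _ _⟩⟩
  refine ((Nat.dvd_prime hp').1 (Monoid.exponent_dvd_of_forall_pow_eq_one fun x => ?_)).resolve_left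
    Monoid.one_lt_exponent.ne'
  obtain ⟨k, hk⟩ := P.isPGroup' x
  have h7 : IsNilpotent ((x.1.1 : Matrix (Fin 3) (Fin 3) (ZMod p)) - 1) :=
    ⟨p ^ k, by
      rw [sub_pow_char_pow_of_commute _ _ (Commute.one_right _), one_pow, sub_eq_zero]
      exact congrArg (fun y : P => (y.1.1 : Matrix (Fin 3) (Fin 3) (ZMod p))) hk⟩
  have h8 := Known.pow_eq_zero_of_isNilpotent h7 (k := p) (by have := hp'.eq_two_or_odd'; simp; omega)
  rw [sub_pow_char_of_commute _ (Commute.one_right _), one_pow, sub_eq_zero] at h8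
  exact Subtype.ext (Subtype.ext (Subtype.ext h8))

end Cfsg.Agent.S3074
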