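import Cfsg.Statements.S3075
import Cfsg.Agent.Lib.BG1.Sec1
import Cfsg.Agent.Lib.KS9.Plane
import Cfsg.Agent.Lib.KS9.Offender

set_option autoImplicit false
open Cfsg

namespace Cfsg.Agent.S3075

open Cfsg.Lib Cfsg.Lib.Core Cfsg.Lib.Amalg Cfsg.Lib.BG1 Subgroup in

/-- Let p be an odd prime and N a finite group with a normal elementary abelian subgroup A of order p² that is its own centralizer in N, such that N/A is isomorphic to SL₂(p) (over any field F with p elements). Then N splits over A: some subgroup U of N satisfies A ∩ U = 1 and AU = N. -/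
theorem result {N : Type*} [Group N] [Finite N] {p : ℕ} [Fact p.Prime] (hp : p ≠ 2)
    (A : Subgroup N) [A.Normal] (hAcomm : IsMulCommutative A) (hAcard : Nat.card A = p ^ 2) (hAexp : Monoid.exponent ↥A = p)
    (hAself : Subgroup.centralizer (A : Set N) = A)
    {F : Type*} [Field F] [Fintype F] (hF : Fintype.card F = p) (e : N ⧸ A ≃* Matrix.SpecialLinearGroup (Fin 2) F) :
    ∃ U : Subgroup N, A ⊓ U = ⊥ ∧ A ⊔ U = ⊤ := by
  have hp' : p.Prime := Fact.out
  have : Fact (Nat.Prime 2) := ⟨Nat.prime_two⟩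
  let σ := e.toMonoidHom.comp (QuotientGroup.mk' A)
  have hs : Function.Surjective σ := e.surjective.comp (QuotientGroup.mk'_surjective A)
  have hk : σ.ker = A := by rw [MonoidHom.ker_comp_of_injective _ _ e.injective, QuotientGroup.ker_mk']
  have hz : IsPGroup 2 (zpowers (-1 : Matrix.SpecialLinearGroup (Fin 2) F)) :=
    isPGroup_zpowers_of_pow (k := 1) (by simp)
  have hn : (zpowers (-1 : Matrix.SpecialLinearGroup (Fin 2) F)).Normal :=
    ⟨by rintro _ ⟨k, rfl⟩ g; simp [← conj_zpow]⟩
  obtain ⟨T, hT⟩ := exists_syl 2 ((zpowers (-1 : Matrix.SpecialLinearGroup (Fin 2) F)).comap σ)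
  have a1 := hT.map σ
  rw [map_comap_eq_self_of_surjective hs] at a1
  replace a1 := a1.eq_of_isPGroup hz
  have hA : IsPGroup p A := IsPGroup.of_card hAcard
  have hc : (Nat.card T).Coprime (Nat.card A) := IsPGroup.coprime_card_of_ne 2 p hp.symm T A hT.isPGroup hA
  have h1 : A ⊔ normalizer T = ⊤ := eq_top_iff.2 fun g _ => by
    obtain ⟨d, hd, n, hn, rfl⟩ := hT.frattini_mem (g := g) (le_normalizer_of_normal' (mem_top g))
    rw [← a1, comap_map_eq, hk, sup_comm] at hd
    exact mul_mem (sup_le_sup_left le_normalizer A hd) (mem_sup_right hn)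
  refine ⟨normalizer T, ?_, h1⟩
  have h2 := coprime_cent_prod (le_normalizer_of_normal' (A := T) (N := A)) hc (Or.inr (by have := hA.isNilpotent; infer_instance))
  have h3 := coprime_abelian_cent_TI (le_normalizer_of_normal' (A := T) (N := A)) hc hAcomm
  have h4 : ⁅A, T⁆ ≤ A := comm_le_left le_normalizer_of_normal'
  have h5 : ⁅A, T⁆ ≠ ⊥ := fun h => by
    have i : (-1 : Matrix.SpecialLinearGroup (Fin 2) F) ∈ (⊥ : Subgroup _) := by
      rw [← (Subgroup.map_eq_bot_iff T).2 (hk ▸ hAself ▸ comm_eq_bot_iff'.1 h), a1]; exact mem_zpowers _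
    have j : (-1 : F) = 1 := by simpa using congrArg (fun M : Matrix.SpecialLinearGroup (Fin 2) F => M 0 0) (mem_bot.1 i)
    have := FiniteField.even_card_iff_char_two.1 (by
      by_contra l; exact Ring.neg_one_ne_one_of_char_ne_two l j)
    rw [hF] at this
    exact hp ((Nat.Prime.even_iff hp').1 (Nat.even_iff.2 this))
  have h6 : ∀ X : Subgroup N, X ≤ A → X ≠ A → normalizer (T : Set N) ≤ normalizer X → ⁅(⊤ : Subgroup N), ⊤⁆ ≤
      centralizer (X : Set N) := fun X i j l => by
    obtain ⟨k, h7, h8⟩ := (Nat.dvd_prime_pow hp').1 (hAcard ▸ card_dvd_of_le i)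
    have : IsCyclic X := by
      interval_cases k
      · exact @isCyclic_of_subsingleton _ _ (Nat.card_eq_one_iff_unique.1 h8).1
      · exact isCyclic_of_prime_card (h8.trans (pow_one p))
      · exact absurd (eq_of_le_of_card_ge i (by rw [hAcard, h8])) j
    exact KS9.comm_le_cent_of_isCyclic (h1.ge.trans (sup_le (KS9.le_norm_of_comm hAcomm i) l))
  by_contra h7
  have h8 : A ⊓ normalizer T ≤ A ⊓ centralizer T := le_inf inf_le_left (comm_eq_bot_iff.1 (le_bot_iff.1
    ((comm_le_inf (le_normalizer_of_normal' (N := A) |> fun i : T ≤ _ => ?_) inf_le_right).trans ?_)))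
  · have h9 : ⁅(⊤ : Subgroup N), ⊤⁆ ≤ σ.ker := by
      rw [hk, ← hAself, ← h2, Core.centralizer_sup]
      refine le_inf (h6 _ h4 (fun i => h7 (le_bot_iff.1 (h8.trans ?_))) (le_normalizer_commutator
        le_normalizer_of_normal' le_rfl)) (h6 _ inf_le_left (fun i => h5 (comm_eq_bot_iff.2 (inf_eq_left.1 i)))
        (le_normalizer_inf le_normalizer_of_normal' (le_normalizer_centralizer le_rfl)))
      rw [← h3, i]
    obtain ⟨x, hx⟩ := hs ⟨!![1, 1; 0, 1], by simp⟩
    obtain ⟨y, hy⟩ := hs ⟨!![1, 0; 1, 1], by simp⟩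
    have := MonoidHom.mem_ker.1 (h9 (commutator_mem_commutator (mem_top x) (mem_top y)))
    rw [map_commutatorElement, commutatorElement_eq_one_iff_mul_comm, hx, hy] at this
    have j : (!![1, 1; 0, 1] * !![1, 0; 1, 1] : Matrix (Fin 2) (Fin 2) F) = !![1, 0; 1, 1] * !![1, 1; 0, 1] :=
      congrArg Subtype.val this
    simpa using congrFun (congrFun j 0) 0
  · exact le_normalizer_inf i (le_normalizer_of_le le_normalizer)
  · exact (inf_le_inf_right T inf_le_left).trans (by rw [inf_comm, (disjoint_of_coprime_natCard hc).eq_bot])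

end Cfsg.Agent.S3075
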