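import Cfsg.Statements.S3076
import Cfsg.Agent.Lib.Amalg.Bridge
import Cfsg.Agent.Lib.Core.UpperP

set_option autoImplicit false
open Cfsg

namespace Cfsg.Agent.S3076

open Subgroup Cfsg.Lib.Amalg
open Cfsg.Lib.Core hiding isPGroup_subgroupOf isPGroup_subgroupOf_iff isPGroup_map_subtype_iff isPGroup_zpowers_of_orderOf
open scoped commutatorElement

/-- Let P be a Sylow p-subgroup of the finite group G and H ≤ P a subgroup with N_P(H) a Sylow p-subgroup of N_G(H). Let N be the preimage in N_G(H) of O_p(N_G(H)/C_G(H)). Then H is a Sylow p-subgroup of N if and only if C_P(H) ≤ H and O_{p',p}(N_G(H)) = H·C_G(H). -/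
theorem result {G : Type*} [Group G] [Finite G] {p : ℕ} [Fact p.Prime]
    (P : Sylow p G) (H : Subgroup G) (hHP : H ≤ (P : Subgroup G))
    (hSyl : ¬ p ∣ ((P : Subgroup G) ⊓ Subgroup.normalizer (H : Set G)).relIndex (Subgroup.normalizer (H : Set G)))
    [hC : ((Subgroup.centralizer (H : Set G)).subgroupOf (Subgroup.normalizer (H : Set G))).Normal] :
    (H ≤ ((Cfsg.pCore p (↥(Subgroup.normalizer (H : Set G)) ⧸
              (Subgroup.centralizer (H : Set G)).subgroupOf (Subgroup.normalizer (H : Set G)))).comap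
            (QuotientGroup.mk' _)).map (Subgroup.normalizer (H : Set G)).subtype ∧
      ¬ p ∣ H.relIndex (((Cfsg.pCore p (↥(Subgroup.normalizer (H : Set G)) ⧸
              (Subgroup.centralizer (H : Set G)).subgroupOf (Subgroup.normalizer (H : Set G)))).comap
            (QuotientGroup.mk' _)).map (Subgroup.normalizer (H : Set G)).subtype)) ↔
    ((P : Subgroup G) ⊓ Subgroup.centralizer (H : Set G) ≤ H ∧
      (Cfsg.pPrimePCore p ↥(Subgroup.normalizer (H : Set G))).map (Subgroup.normalizer (H : Set G)).subtype =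
        H ⊔ Subgroup.centralizer (H : Set G)) := by
  have sP : Syl p ((P : Subgroup G) ⊓ normalizer (H : Set G)) (normalizer (H : Set G)) :=
    syl_of_not_dvd inf_le_right (P.isPGroup'.to_le inf_le_left) hSyl
  have hH := P.isPGroup'.to_le hHP
  have CN := cent_le_norm H
  have nC := normalizer_le_normalizer_centralizer H
  have HN : H ≤ normalizer (H : Set G) := le_normalizer
  have HC : H ≤ normalizer ((centralizer (H : Set G) : Subgroup G) : Set G) := HN.trans nC
  have OC : (pPrimeCore p (normalizer (H : Set G))).map (normalizer (H : Set G)).subtype ≤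
      centralizer (H : Set G) := comm_eq_bot_iff'.1 (eq_bot_iff.2 ((comm_le_inf (pPrimeCoreOf_le _)
    (HN.trans (le_normalizer_pPrimeCoreOf _))).trans (inf_eq_bot_of_isPGroup_of_coprime Fact.out hH
      (coprime_card_pPrimeCoreOf _)).le))
  generalize hNd : normalizer (H : Set G) = N at *
  have nH : N ≤ normalizer (H : Set G) := hNd.ge
  generalize hCd : centralizer (H : Set G) = C at *
  have nHC : N ≤ normalizer ((H ⊔ C : Subgroup G) : Set G) := le_normalizer_sup nH nC
  have pw : ∀ x ∈ H ⊔ C, ∃ k, x ^ p ^ k ∈ C := fun x hx => by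
    obtain ⟨k, hk⟩ := exists_pow_mem_res (p := p) hx
    exact ⟨k, res_le_of_le_sup hH HC (sup_comm H C).le hk⟩
  have K1 : ∀ x ∈ ((pCore p (N ⧸ C.subgroupOf N)).comap (QuotientGroup.mk' _)).map N.subtype,
      ∃ k, x ^ p ^ k ∈ C := by
    rintro _ ⟨x, hx, rfl⟩
    obtain ⟨k, hk⟩ := isPGroup_iff_mem.1 (isPGroup_pCore p _) _ hx
    exact ⟨k, (QuotientGroup.eq_one_iff (x ^ p ^ k)).1 hk⟩
  have K2 : ∀ X ≤ N, N ≤ normalizer (X : Set G) → (∀ x ∈ X, ∃ k, x ^ p ^ k ∈ C) →
      X ≤ ((pCore p (N ⧸ C.subgroupOf N)).comap (QuotientGroup.mk' _)).map N.subtype :=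
    fun X h1 h2 h3 => by
      haveI := (normal_subgroupOf_iff_le_normalizer h1).2 h2
      haveI := Normal.map this _ (QuotientGroup.mk'_surjective (C.subgroupOf N))
      rw [← map_subgroupOf_of_le h1]
      refine map_mono (map_le_iff_le_comap.1 (le_pCore (isPGroup_iff_mem.2 ?_)))
      rintro _ ⟨x, hx, rfl⟩
      obtain ⟨k, hk⟩ := h3 x hx
      exact ⟨k, (QuotientGroup.eq_one_iff (x ^ p ^ k)).2 hk⟩
  haveI := pCore_normal p (N ⧸ C.subgroupOf N)
  have K3 := le_normalizer_map_of_normal ((pCore p (N ⧸ C.subgroupOf N)).comap (QuotientGroup.mk' _))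
  have K4 := map_subtype_le ((pCore p (N ⧸ C.subgroupOf N)).comap (QuotientGroup.mk' _))
  generalize ((pCore p (N ⧸ C.subgroupOf N)).comap (QuotientGroup.mk' _)).map N.subtype = K at *
  have U1 : ∀ x ∈ (pPrimePCore p N).map N.subtype, ∃ k, x ^ p ^ k ∈ (pPrimeCore p N).map N.subtype := by
    rintro _ ⟨x, hx, rfl⟩
    obtain ⟨k, hk⟩ := exists_pow_mem_pPrimeCore_of_mem_pPrimePCore hx
    exact ⟨k, _, hk, rfl⟩
  have U2 : ∀ X ≤ N, N ≤ normalizer (X : Set G) →
      (∀ x ∈ X, ∃ k, x ^ p ^ k ∈ (pPrimeCore p N).map N.subtype) → X ≤ (pPrimePCore p N).map N.subtype :=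
    fun X h1 h2 h3 => by
      haveI := (normal_subgroupOf_iff_le_normalizer h1).2 h2
      rw [← map_subgroupOf_of_le h1]
      refine map_mono (le_pPrimePCore_of_pow_mem fun x hx => ?_)
      obtain ⟨k, y, hy, e⟩ := h3 x hx
      exact ⟨k, (Subtype.ext e : y = x ^ p ^ k) ▸ hy⟩
  haveI := pPrimePCore_normal p N
  have U3 := le_normalizer_map_of_normal (pPrimePCore p N)
  have HK := K2 _ (sup_le HN CN) nHC pw
  constructor
  · rintro ⟨h1, h2⟩
    have s := syl_of_not_dvd h1 hH h2
    have e : K ≤ H ⊔ C := s.res_sup.ge.trans (sup_le (le_sup_of_le_right (res_le_of_pow_mem K1)) le_sup_left)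
    have sC := s.inf_normal (le_sup_right.trans HK) (K4.trans nC)
    refine ⟨s.le_of_le_normalizer' (P.isPGroup'.to_le inf_le_left) (inf_le_right.trans
      (le_sup_right.trans HK)) (inf_le_right.trans (CN.trans nH)), le_antisymm
      ((K2 _ (map_subtype_le _) U3 fun x hx => (U1 x hx).imp fun k hk => OC hk).trans e)
      (U2 _ (sup_le HN CN) nHC fun x hx => ?_)⟩
    obtain ⟨k, hk⟩ := pw x hx
    obtain ⟨l, hl⟩ := exists_pow_mem_res (p := p) hk
    refine ⟨k + l, le_pPrimeCoreOf ((Lib.Amalg.res_le C).trans CN) (nC.trans (norm_le_norm_res C))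
      (sC.coprime_res (inf_le_left.trans (hCd.ge.trans (centralizer_le (inf_le_left : H ⊓ C ≤ H))))) ?_⟩
    rwa [pow_add, pow_mul]
  · rintro ⟨h1, h2⟩
    have e : K ≤ H ⊔ C := h2 ▸ U2 _ K4 K3 fun x hx => by
      obtain ⟨k, hk⟩ := K1 x hx
      obtain ⟨l, hl⟩ := U1 _ (h2.ge (le_sup_right (a := H) hk))
      exact ⟨k + l, by rwa [pow_add, pow_mul]⟩
    have s := sP.inf_normal (sup_le HN CN) nHC
    rw [inf_comm, sup_inf_of_le_normalizer (le_inf hHP HN) HC, sup_eq_left.2 (le_trans (le_inf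
      (inf_le_right.trans inf_le_left) inf_le_left) h1)] at s
    exact ⟨le_sup_left.trans HK, (s.of_le (le_sup_left.trans HK) e).not_dvd_relIndex⟩

end Cfsg.Agent.S3076
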