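import Cfsg.Statements.S3082
import Cfsg.Agent.Lib.Glaub.NPC

set_option autoImplicit false
open Cfsg

namespace Cfsg.Agent.S3082

open Cfsg.FusionSystem Cfsg.Lib.Fus2 Cfsg.Lib.Amalg Subgroup Cfsg.Lib Cfsg.Lib.Glaub Cfsg.Lib.Transfer

/-- The Glauberman–Thompson normal p-complement criterion for strongly closed subgroups, p odd. Let G be a finite group, P a Sylow p-subgroup and D a subgroup of P strongly closed in P with respect to G. If N_G(Z(J(D))) has a normal p-complement (J(D) generated by the abelian subgroups of D of largest order), or N_G(Ω₁(Z(J_e(D)))) has one (J_e(D) generated by the elementary abelian subgroups of largest order), then G has a normal p-complement. -/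
theorem result {G : Type*} [Group G] [Finite G] {p : ℕ} [Fact p.Prime] (hp : p ≠ 2) (P : Sylow p G) (D : Subgroup G) (hD : Cfsg.IsStronglyClosed D (P : Subgroup G)) (h : Cfsg.HasNormalPComplement p ↥(Subgroup.normalizer ((Cfsg.centerThompsonAOf D) : Set G)) ∨ Cfsg.HasNormalPComplement p ↥(Subgroup.normalizer ((Cfsg.omegaOne p (Cfsg.centerThompsonOf p D)) : Set G))) : Cfsg.HasNormalPComplement p G := by
  have hP := syl_top P
  have hs : Fus.Sat p (groupFusionSystem (P : Subgroup G)) := ⟨hP.isPGroup, isSaturated_group P⟩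
  have hD' : (groupFusionSystem (P : Subgroup G)).StronglyClosed D := stronglyClosed_iff.2 ⟨hD.1, fun Q f hf x a b => by
    obtain ⟨-, c, g, e⟩ := mor_group_iff.1 hf
    exact e x a ▸ hD.2 x b g (e x a ▸ c x a)⟩
  have key : ∀ Q, (P : Subgroup G) ≤ 𝐍 Q → HasNormalPComplement p (𝐍 Q) → (∀ E : FusionSystem (P : Subgroup G),
      Fus.Sat p E → ¬ Cfg True p E → E.StronglyClosed D → E.IsNormal Q) → HasNormalPComplement p G := fun Q a1 a2 a3 =>
    hasNormalPComplement_iff_top.2 (pnil_of_gSub (pAut_of_normal hp hs (pAut_inner hP.isPGroup)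
      (fun E b1 b2 b3 => a3 E b1 (fun c => b3 c.weak) (stronglyClosed_iff.2 ⟨hD.1, fun P f hf =>
        (stronglyClosed_iff.1 hD').2 P f (hf.of_sub b2)⟩)) fun A f hf => let ⟨g, b1, b2⟩ := hf.exists_group
        (gSub_of_pnil (hP.of_le a1 le_top) le_rfl (hasNormalPComplement_iff.1 a2) A hf.mor.le g b1 fun x hx =>
          b2 x hx ▸ hf.mor.mem hx).congr fun x hx => (b2 x hx).symm) hP (gSub_top_iff.2 (sub_refl _)))
  have hn := le_normalizer_of_stronglyClosed hD'
  rw [centerThompsonAOf_eq] at h
  refine h.elim (fun h => key _ (hn.trans norm_le_norm_zj) h fun E => isNormal_zj_sc hp (.inl rfl)) fun h =>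
    key _ (le_norm_om (hn.trans norm_le_norm_zj)) h fun E a1 a2 a3 => ?_
  have := Fus.normal_of_characteristic (isNormal_zj_sc hp (.inr rfl) a1 a2 a3) (omegaOne p ⊤) (hK :=
    characteristic_iff_map_eq.2 fun e => by rw [map_om_of_injective e.injective, map_top_of_surjective _ e.surjective])
  rwa [← om_map_subtype, Amalg.map_subtype_top] at this

end Cfsg.Agent.S3082
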