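import Cfsg.Statements.S3084
import Cfsg.Agent.Lib.PGrp.Cliff

set_option autoImplicit false
open Cfsg

namespace Cfsg.Agent.S3084

open Subgroup Cfsg.Lib Cfsg.Lib.PGrp.Cliff Cfsg.Lib.Known2 Matrix

/-- Let K be a group acting faithfully and linearly on a finite-dimensional vector space U of dimension 2n ≥ 2 over the field with two elements, preserving a quadratic form q whose polar bilinear form is non-degenerate and which vanishes on some n-dimensional subspace (a non-singular form of plus type). Then there is a finite group R with a normal extraspecial 2-subgroup Q of order 2^(2n+1), an isomorphism of R/Q with K, and a surjective homomorphism χ from Q onto (the additive group of) U with kernel the centre of Q, such that χ carries conjugation by any r in R to the action of the image of r in K, and an element a of Q squares to the identity exactly when q vanishes at χ(a). -/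
theorem result {K : Type*} [Group K] {U : Type*} [AddCommGroup U] [Module (ZMod 2) U] [Module.Finite (ZMod 2) U] (n : ℕ) (hn1 : 1 ≤ n) (hn : Module.finrank (ZMod 2) U = 2 * n) (ρ : Representation (ZMod 2) K U) (hρ : Function.Injective ρ) (q : QuadraticForm (ZMod 2) U) (hq : ∀ (k : K) (u : U), q (ρ k u) = q u) (hnd : (QuadraticMap.polarBilin q).Nondegenerate) (hplus : ∃ W : Submodule (ZMod 2) U, Module.finrank (ZMod 2) ↥W = n ∧ ∀ w ∈ W, q w = 0) : ∃ (R : Type) (_ : Group R) (_ : Finite R) (Q : Subgroup R) (hN : Q.Normal) (e : R ⧸ Q ≃* K) (χ : ↥Q →* Multiplicative U), Cfsg.IsExtraspecial 2 ↥Q ∧ Nat.card ↥Q = 2 ^ (2 * n + 1) ∧ Function.Surjective χ ∧ χ.ker = Subgroup.center ↥Q ∧ (∀ (r : R) (a : ↥Q), χ ⟨r * a * r⁻¹, hN.conj_mem (a : R) a.2 r⟩ = Multiplicative.ofAdd (ρ (e (r : R ⧸ Q)) (Multiplicative.toAdd (χ a)))) ∧ ∀ a : ↥Q, a * a = 1 ↔ q (Multiplicative.toAdd (χ a)) = 0 := by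
  classical
  haveI : Finite U := Module.finite_of_finite (ZMod 2)
  letI := Fintype.ofFinite U
  haveI : Finite K := Finite.of_injective _ (DFunLike.coe_injective.comp hρ)
  obtain ⟨β, rfl⟩ : ∃ β : LinearMap.BilinForm (ZMod 2) U, LinearMap.BilinMap.toQuadraticMap β = q :=
    ⟨_, q.toQuadraticMap_toBilin (Module.finBasis _ _)⟩
  have hp := LinearMap.BilinMap.polar_toQuadraticMap (B := β)
  have hβ : ∀ u, (∀ v, β u v + β v u = 0) → u = 0 := fun u h => hnd.1 u fun v => (hp u v).trans (h v)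
  let R₀ : Subgroup (K × unitaryGroup U ℝ) :=
    { carrier := {x | (∀ v, x.2.1 * R β v = R β v * x.2.1) ∧ ∀ v, ∃ a, x.2.1 * L β v = sg a • (L β (ρ x.1 v) * x.2.1)}
      one_mem' := ⟨by simp, fun v => ⟨0, by simp⟩⟩
      mul_mem' := by
        rintro x y ⟨h1, h2⟩ ⟨h3, h4⟩
        refine ⟨fun v => Commute.mul_left (h1 v) (h3 v), fun v => ?_⟩
        obtain ⟨a, ha⟩ := h4 v
        obtain ⟨b, hb⟩ := h2 (ρ y.1 v)
        refine ⟨a + b, ?_⟩
        rw [Prod.snd_mul, Submonoid.coe_mul, mul_assoc, ha, mul_smul_comm, ← mul_assoc, hb, smul_mul, smul_smul, sg_add, mul_assoc]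
        simp
      inv_mem' := by
        rintro ⟨k, T⟩ ⟨h1, h2⟩
        have h3 : ∀ A B : Matrix U U ℝ, T.1 * A = B * T.1 → A * (T⁻¹).1 = (T⁻¹).1 * B := fun A B h => by
          calc _ = ((T⁻¹ * T).1 * A) * (T⁻¹).1 := by simp
            _ = (T⁻¹).1 * B * (T * T⁻¹).1 := by simp only [Submonoid.coe_mul, mul_assoc, ← mul_assoc T.1, h]
            _ = _ := by simp
        refine ⟨fun v => (h3 _ _ (h1 v)).symm, fun v => (h2 (ρ k⁻¹ v)).imp fun a ha => ?_⟩
        rw [ρ.self_inv_apply, ← smul_mul] at ha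
        rw [Prod.fst_inv, Prod.snd_inv, h3 _ _ ha, mul_smul_comm, smul_smul, sg_sq, one_smul] }
  have hu : ∀ {T : Matrix U U ℝ}, T ∈ unitaryGroup U ℝ ↔ Tᵀ * T = 1 := mem_orthogonalGroup_iff' U ℝ
  have hL : ∀ w a, sg a • L β w ∈ unitaryGroup U ℝ := fun w a => hu.2 (by
    rw [transpose_smul, smul_mul, mul_smul_comm, smul_smul, sg_sq, one_smul, L_tr_mul])
  have hL' : ∀ w a, (1, ⟨_, hL w a⟩) ∈ R₀ := fun w a => ⟨fun v => by simp [L_R], fun v => ⟨β w v + β v w, by
    simp only [map_one, Module.End.one_apply, smul_mul, mul_smul_comm, L_comm β w v]; rw [smul_comm]⟩⟩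
  have hker : ∀ x : R₀, x.1.1 = 1 → ∃ w a, x.1.2.1 = sg a • L β w := fun x h =>
    eq_L hβ (hu.1 x.1.2.2) x.2.1 fun v => by simpa [h] using x.2.2 v
  haveI : Finite R₀ := ((MonoidHom.fst _ _).comp R₀.subtype).finite_iff_finite_ker_range.2 ⟨Finite.of_surjective
    (fun p : U × ZMod 2 => ⟨⟨_, hL' p.1 p.2⟩, rfl⟩) fun x => let ⟨w, a, h⟩ := hker x.1 x.2
      ⟨(w, a), Subtype.ext (Subtype.ext (Prod.ext x.2.symm (Subtype.ext h.symm)))⟩, inferInstance⟩
  let e := Shrink.mulEquiv.{0} (α := R₀)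
  let π := ((MonoidHom.fst _ _).comp R₀.subtype).comp e.toMonoidHom
  let T := (((unitaryGroup U ℝ).subtype.comp (MonoidHom.snd _ _)).comp R₀.subtype).comp e.toMonoidHom
  have hT : ∀ x y : π.ker, T x = T y → x = y := fun x y h =>
    Subtype.ext (e.injective (Subtype.ext (Prod.ext (x.2.trans y.2.symm) (Subtype.ext h))))
  have hπ : Function.Surjective π := fun k => by
    obtain ⟨S, h1, h2, h3⟩ := exists_lift hβ (k := ρ k) (fun u v => by simp only [← hp, QuadraticMap.polar, ← map_add, hq]) (hq k)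
    exact ⟨e.symm ⟨(k, ⟨S, hu.2 h1⟩), h2, h3⟩, by simp [π]⟩
  have hex : ∀ w a, ∃ x : π.ker, T x = sg a • L β w := fun w a => ⟨⟨e.symm ⟨_, hL' w a⟩, by simp [π]⟩, by simp [T]⟩
  choose w a hw using fun x : π.ker => hker (e x) x.2
  replace hw : ∀ x : π.ker, T x = sg (a x) • L β (w x) := hw
  have hw' : ∀ (x : π.ker) u c, T x = c • L β u → w x = u := fun x u c h => L_inj β (c := sg (a x) * c) (by
    rw [← smul_smul, ← h, hw, smul_smul, sg_sq, one_smul])
  let χ : π.ker →* Multiplicative U := MonoidHom.mk' (fun x => Multiplicative.ofAdd (w x)) fun x y => hw' _ _ _ (by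
    rw [coe_mul, map_mul, hw, hw, smul_mul, mul_smul_comm, L_L, smul_smul, smul_smul]; rfl)
  obtain ⟨z, hz⟩ := hex 0 1
  rw [L_zero] at hz
  have h1 : ∀ x : π.ker, ∀ c, T x = sg c • 1 → (x = 1 ∧ c = 0) ∨ (x = z ∧ c = 1) := fun x c h => by
    obtain rfl | rfl : c = 0 ∨ c = 1 := by fin_cases c; exacts [Or.inl rfl, Or.inr rfl]
    exacts [Or.inl ⟨hT _ _ (by simpa using h), rfl⟩, Or.inr ⟨hT _ _ (h.trans hz.symm), rfl⟩]
  have h2 : z ≠ 1 := fun e => by simpa [e, sg, eq_neg_iff_add_eq_zero] using congrFun (congrFun hz 0) 0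
  have h3 : ∀ x : π.ker, T (x * x : π.ker) = sg (β (w x) (w x)) • 1 := fun x => by
    rw [coe_mul, map_mul, hw, smul_mul, mul_smul_comm, smul_smul, sg_sq, one_smul, L_sq]
  have h4 : ∀ x y : π.ker, T ((y * x)⁻¹ * (x * y) : π.ker) = sg (β (w x) (w y) + β (w y) (w x)) • 1 := fun x y => by
    have : T (x * y : π.ker) = sg (β (w x) (w y) + β (w y) (w x)) • T (y * x : π.ker) := by
      simp only [coe_mul, map_mul, hw, smul_mul, mul_smul_comm, L_comm β (w x) (w y), smul_smul]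
      ring_nf
    rw [coe_mul, map_mul, this, mul_smul_comm, ← map_mul]; simp
  have h5 : ∀ x y : π.ker, β (w x) (w y) + β (w y) (w x) = 0 ↔ x * y = y * x := fun x y => by
    rw [eq_comm (a := x * y), ← inv_mul_eq_one (a := y * x)]
    rcases h1 _ _ (h4 x y) with ⟨e1, e2⟩ | ⟨e1, e2⟩ <;> rw [e1, e2] <;> simp [h2]
  have h6 : ∀ u, ∃ x, w x = u := fun u => (hex u 0).imp fun x => hw' x u _
  have h7 : ∀ x, w x = 0 ↔ x ∈ center π.ker := fun x => by
    rw [mem_center_iff]
    refine ⟨fun h y => (h5 y x).1 (by simp [h]), fun h => hβ _ fun v => ?_⟩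
    obtain ⟨y, rfl⟩ := h6 v
    exact (h5 x y).2 (h y).symm
  have h8 : w z = 0 := hw' _ _ _ (by rw [hz, L_zero])
  have hE : ES π.ker z := by
    refine ⟨z.2, fun e => h2 (Subtype.ext e), congrArg Subtype.val (hT (z * z) 1 (by rw [h3, h8]; simp)),
      fun x hx => congrArg Subtype.val (mem_center_iff.1 ((h7 z).1 h8) ⟨x, hx⟩), fun x hx h => ?_, fun x hx y hy => ?_,
      fun x hx => ?_, ?_⟩
    · exact (h1 ⟨x, hx⟩ _ (by rw [hw, (h7 _).2 (mem_center_iff.2 fun y => Subtype.ext (h y y.2).symm), L_zero])).imp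
        (fun e => congrArg Subtype.val e.1) fun e => congrArg Subtype.val e.1
    · exact (h1 _ _ (h4 ⟨x, hx⟩ ⟨y, hy⟩)).imp (fun e => congrArg Subtype.val (inv_mul_eq_one.1 e.1).symm)
        fun e => congrArg Subtype.val (inv_mul_eq_iff_eq_mul.1 e.1)
    · exact (h1 _ _ (h3 ⟨x, hx⟩)).imp (fun e => congrArg Subtype.val e.1) fun e => congrArg Subtype.val e.1
    · haveI := Module.nontrivial_of_finrank_pos (R := ZMod 2) (M := U) (by omega)
      obtain ⟨u, hu⟩ := exists_ne (0 : U)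
      obtain ⟨x, rfl⟩ := h6 u
      obtain ⟨y, hy⟩ := not_forall.1 (mt mem_center_iff.2 (mt (h7 x).2 hu))
      exact ⟨y, y.2, x, x.2, fun e => hy (Subtype.ext e)⟩
  have h9 : χ.ker = center π.ker := Subgroup.ext h7
  refine ⟨_, inferInstance, Finite.of_equiv _ e.symm.toEquiv, π.ker, inferInstance, QuotientGroup.quotientKerEquivOfSurjective π hπ, χ,
    hE.isExtraspecial, ?_, h6, h9, fun r x => ?_, fun x => ?_⟩
  · rw [← χ.ker.card_mul_index, index_ker, (MonoidHom.range_eq_top (f := χ)).2 h6, card_top, h9, hE.isExtraspecial.2, pow_succ', ← hn]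
    exact congrArg _ ((Module.natCard_eq_pow_finrank (K := ZMod 2) (V := U)).trans (by simp))
  · obtain ⟨c, hc⟩ := (e r).2.2 (w x)
    refine hw' _ (ρ (π r) (w x)) (sg (a x) * sg c) ?_
    rw [map_mul, map_mul, hw, mul_smul_comm, show T r * _ = _ from hc, smul_smul, smul_mul, mul_assoc]
    exact congrArg _ (by rw [show (e r).1.2.1 = T r from rfl, ← map_mul, mul_inv_cancel, map_one, mul_one]; rfl)
  · show _ ↔ β (w x) (w x) = 0
    rcases h1 _ _ (h3 x) with ⟨e1, e2⟩ | ⟨e1, e2⟩ <;> simp [e1, e2, h2]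

end Cfsg.Agent.S3084
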