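import Cfsg.Statements.S3085
import Cfsg.Agent.Lib.Layer.Misc

set_option autoImplicit false
open Cfsg

namespace Cfsg.Agent.S3085

open Subgroup Cfsg.Lib.Core Cfsg.Lib.Amalg Cfsg.Lib.BG1 Cfsg.Lib.Layer
open scoped commutatorElement
section
variable {Q : Type*} [Group Q] [Finite Q] {z : Q} (hz : ∀ x, x * z = z * x) (hz2 : z * z = 1) (hz1 : z ≠ 1)
  (hc : ∀ x y, x * y ≠ y * x → x * y = z * (y * x))
include hz hz2 hz1 hc

omit [Finite Q] hz1 in
theorem nn {x y v : Q} (hx : x * v ≠ v * x) (hy : y * v ≠ v * y) : x * y * v = v * (x * y) := by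
  rw [mul_assoc, hc y v hy, ← mul_assoc, hz, mul_assoc, ← mul_assoc x, hc x v hx, mul_assoc z, ← mul_assoc z, hz2, one_mul,
    mul_assoc]

omit [Finite Q] hz hz2 hz1 hc in
theorem cn {x y v : Q} (hx : x * v = v * x) (hy : y * v ≠ v * y) : x * y * v ≠ v * (x * y) ∧ y * x * v ≠ v * (y * x) := by
  refine ⟨fun h => hy (mul_left_cancel (a := x) ?_), fun h => hy (mul_right_cancel (b := x) ?_)⟩
  · rw [← mul_assoc, h, ← mul_assoc, ← mul_assoc, hx]
  · rw [mul_assoc, ← hx, ← mul_assoc, h, mul_assoc]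

theorem exists_aut {v : Q} (hv : v * v = z) : ∃ α : MulAut Q, (∀ x, x * v = v * x → α x = x) ∧
    ∀ x, x * v ≠ v * x → α x = x * v := by
  classical
  let f : Q →* Q := MonoidHom.mk' (fun x => if x * v = v * x then x else x * v) fun x y => by
    by_cases hx : x * v = v * x <;> by_cases hy : y * v = v * y
    · rw [if_pos hx, if_pos hy, if_pos (by rw [mul_assoc, hy, ← mul_assoc, hx, mul_assoc])]
    · rw [if_pos hx, if_neg hy, if_neg (cn hx hy).1, mul_assoc]
    · rw [if_neg hx, if_pos hy, if_neg (cn hy hx).2, mul_assoc, hy, mul_assoc]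
    · rw [if_neg hx, if_neg hy, if_pos (nn hz hz2 hc hx hy), mul_assoc, hc y v hy, ← hz, mul_assoc v, ← mul_assoc v,
        hv, ← mul_assoc z, ← hz y, mul_assoc y, hz2, mul_one]
  have hf : Function.Injective f := (injective_iff_map_eq_one f).2 fun x hx => by
    by_cases h : x * v = v * x
    · exact (if_pos h).symm.trans hx
    · have : x * v = 1 := (if_neg h).symm.trans hx
      exact absurd (this.trans (mul_eq_one_comm.1 this).symm) h
  exact ⟨MulEquiv.ofBijective f (Finite.injective_iff_bijective.1 hf), fun x h => if_pos h, fun x h => if_neg h⟩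

end


/-- Let Q be an extraspecial 2-group of order 2^(2n+1) with n ≥ 3 that is of plus type (it contains an elementary abelian subgroup of order 2^(n+1)). Then the group of inner automorphisms of Q has no complement in the full automorphism group of Q: the extension of the inner automorphism group (elementary abelian of order 2^(2n)) by the outer automorphism group (the orthogonal group of plus type) does not split. -/
theorem result {Q : Type*} [Group Q] [Finite Q] (n : ℕ) (hn : 3 ≤ n) (hQ : Cfsg.IsExtraspecial 2 Q) (hcard : Nat.card Q = 2 ^ (2 * n + 1)) (hplus : ∃ E : Subgroup Q, Cfsg.IsElementaryAbelian 2 E ∧ Nat.card ↥E = 2 ^ (n + 1)) (L : Subgroup (MulAut Q)) : ¬ (Cfsg.Inn Q).IsComplement' L := by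
  intro hL
  obtain ⟨⟨hp, h1, h2⟩, h3⟩ := hQ
  obtain ⟨⟨z, hzc⟩, hz0, hz'⟩ := (Nat.card_eq_two_iff' (1 : center Q)).1 h3
  have hZ : ∀ c ∈ center Q, c ≠ 1 → c = z := fun c hc h => congrArg Subtype.val (hz' ⟨c, hc⟩ fun e => h (congrArg Subtype.val e))
  have hz1 : z ≠ 1 := fun e => hz0 (Subtype.ext e)
  clear hz0 hz'
  have hz : ∀ x, x * z = z * x := mem_center_iff.1 hzc
  have hz2 : z * z = 1 := by
    by_contra h; exact hz1 (mul_left_cancel ((hZ _ (mul_mem hzc hzc) h).trans (mul_one _).symm))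
  have hc : ∀ x y : Q, x * y ≠ y * x → x * y = z * (y * x) := fun x y h => by
    rw [← hZ ⁅x, y⁆ (h2 ▸ commutator_mem_commutator (mem_top x) (mem_top y)) fun e => h (commutatorElement_eq_one_iff_mul_comm.1 e),
      commutatorElement_def]; group
  have hs : ∀ x : Q, x * x ≠ 1 → x * x = z := fun x h => hZ _ (h1 ▸ sq x ▸ pow_mem_frattini_of_isPGroup hp x) h
  have hnc : ∀ v : Q, v * v = z → v ∉ center Q := fun v hv h => by
    by_cases e : v = 1
    · exact hz1 (by rw [← hv, e, one_mul])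
    · exact hz1 (by rw [← hv, hZ v h e, hz2])
  have hinj : ∀ a ∈ L, ∀ b ∈ L, QuotientGroup.mk' (Inn Q) a = QuotientGroup.mk' (Inn Q) b → a = b := fun a ha b hb e =>
    inv_mul_eq_one.1 (disjoint_def.1 hL.disjoint (QuotientGroup.eq.1 e) (mul_mem (inv_mem ha) hb))
  have hw : ∀ w x : Q, ∃ c, (c = 1 ∨ c = z) ∧ w * x * w⁻¹ = c * x := fun w x => by
    by_cases h : w * x = x * w
    · exact ⟨1, .inl rfl, by rw [h]; group⟩
    · exact ⟨z, .inr rfl, by rw [hc w x h]; group⟩
  have key : ∀ v : Q, v * v = z → ∃ α : MulAut Q, ∃ w, α * MulAut.conj w ∈ L ∧ (∀ x, x * v = v * x → α x = x) ∧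
      (∀ x, x * v ≠ v * x → α x = x * v) ∧ w * v ≠ v * w := fun v hv => by
    obtain ⟨α, a1, a2⟩ := exists_aut hz hz2 hz1 hc hv
    obtain ⟨⟨⟨l, hl⟩, _, w, rfl⟩, e⟩ := hL.symm.2 α
    have hm : α * MulAut.conj w⁻¹ ∈ L := by rw [← e, map_inv]; simpa using hl
    refine ⟨α, w⁻¹, hm, a1, a2, fun h => ?_⟩
    have h4 : α * α = MulAut.conj v := by
      ext x
      by_cases hx : x * v = v * x
      · simp [a1 x hx, ← hx]
      · rw [MulAut.mul_apply, a2 x hx, map_mul, a2 x hx, a1 v rfl, MulAut.conj_apply, hc v x (Ne.symm hx), mul_assoc, hv, hz]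
        group
    have h5 := hinj _ (mul_mem hm hm) 1 L.one_mem (by
      have : ∀ g : Q, QuotientGroup.mk' (Inn Q) (MulAut.conj g) = 1 := fun g => (QuotientGroup.eq_one_iff _).2 ⟨g, rfl⟩
      rw [map_mul, map_mul, this, mul_one, ← map_mul, h4, this, map_one])
    obtain ⟨x, hx⟩ : ∃ x, x * v ≠ v * x := by
      by_contra hn; push Not at hn; exact hnc v hv (mem_center_iff.2 hn)
    obtain ⟨c, h6, h7⟩ := hw w⁻¹ x
    have h8 : α c = c := a1 c (by rcases h6 with rfl | rfl; exacts [by simp, (hz v).symm])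
    have h9 : w⁻¹ * (c * (x * v)) * w⁻¹⁻¹ = x * v := by
      have : w⁻¹ * (c * (x * v)) * w⁻¹⁻¹ = w⁻¹ * c * w⁻¹⁻¹ * (w⁻¹ * x * w⁻¹⁻¹) * (w⁻¹ * v * w⁻¹⁻¹) := by group
      rw [this, h7, h, mul_inv_cancel_right]
      rcases h6 with rfl | rfl
      · simp
      · rw [hz, mul_inv_cancel_right, ← mul_assoc, hz2, one_mul]
    have := DFunLike.congr_fun h5 x
    simp only [MulAut.mul_apply, MulAut.conj_apply, MulAut.one_apply] at this
    rw [h7, map_mul α c, h8, a2 x hx, h9, map_mul, a2 x hx, a1 v rfl, mul_assoc, hv, mul_eq_left] at this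
    exact hz1 this
  obtain ⟨u, hu⟩ : ∃ u : Q, u * u = z := by
    by_contra hn
    push Not at hn
    have a : ∀ x : Q, x⁻¹ = x := fun x => inv_eq_of_mul_eq_one_left (by_contra fun h => hn x (hs x h))
    have : z ∈ (⊥ : Subgroup Q) := by
      have b : commutator Q ≤ ⊥ := commutator_le.2 fun x _ y _ => by
        rw [mem_bot, commutatorElement_eq_one_iff_mul_comm, ← a (x * y), mul_inv_rev, a, a]
      exact b (h2.ge hzc)
    exact hz1 this
  obtain ⟨α, w, a0, a1, a2, a3⟩ := key u hu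
  have main : ∀ s : Q, s * s = 1 → s * u = u * s → s ∉ center Q → w * (u * s) = u * s * w := fun s b1 b2 b3 => by
    have hv : u * s * (u * s) = z := by rw [mul_assoc, ← mul_assoc s, b2, mul_assoc, b1, mul_one, hu]
    obtain ⟨β, t, c0, c1, c2, -⟩ := key _ hv
    have huv : u * (u * s) = u * s * u := by rw [mul_assoc, b2]
    have h4 : α * β = β * α := by
      ext x
      simp only [MulAut.mul_apply]
      by_cases h : x * u = u * x <;> by_cases h' : x * (u * s) = u * s * x
      · rw [a1 x h, c1 x h', a1 x h]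
      · rw [a1 x h, c2 x h', map_mul, a1 x h, a1 _ huv.symm]
      · rw [a2 x h, c1 x h', map_mul, a2 x h, c1 x h', c1 _ huv]
      · rw [a2 x h, c2 x h', map_mul α x, map_mul β x, a2 x h, c2 x h', c1 _ huv, a1 _ huv.symm, mul_assoc, huv, mul_assoc x]
    have h5 := hinj _ (mul_mem a0 c0) _ (mul_mem c0 a0) (by
      have : ∀ g : Q, QuotientGroup.mk' (Inn Q) (MulAut.conj g) = 1 := fun g => (QuotientGroup.eq_one_iff _).2 ⟨g, rfl⟩
      simp only [map_mul, this, mul_one]
      rw [← map_mul, h4, map_mul])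
    obtain ⟨x, hx, hx'⟩ : ∃ x, x * u = u * x ∧ x * (u * s) ≠ u * s * x := by
      by_contra hn
      push Not at hn
      refine hnc _ hv (mem_center_iff.2 fun x => by_contra fun hx => b3 (mem_center_iff.2 fun y => ?_))
      have k : ∀ y, y * u = u * y → y * s = s * y := fun y h => mul_left_cancel (a := u) (by
        rw [← mul_assoc, ← h, mul_assoc, hn y h, mul_assoc])
      have hxu : x * u ≠ u * x := fun h => hx (hn x h)
      have hxs : x * s = s * x := by_contra fun h => hx (by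
        rw [← mul_assoc, hc x u hxu, mul_assoc, mul_assoc, hc x s h, ← mul_assoc u, hz, ← mul_assoc, ← mul_assoc, ← mul_assoc, hz2,
          one_mul])
      by_cases h : y * u = u * y
      · exact k y h
      · exact mul_left_cancel (a := x) (by rw [← mul_assoc, k _ (nn hz hz2 hc hxu h), ← mul_assoc, ← mul_assoc, hxs])
    obtain ⟨c, h6, h7⟩ := hw w x
    obtain ⟨d, h8, h9⟩ := hw t x
    have zc : ∀ c : Q, c = 1 ∨ c = z → ∀ y, c * y = y * c := by
      rintro c (rfl | rfl) y
      exacts [by simp, (hz y).symm]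
    have := DFunLike.congr_fun h5 x
    simp only [MulAut.mul_apply, MulAut.conj_apply] at this
    have e1 : ∀ g a b : Q, g * (a * b) * g⁻¹ = g * a * g⁻¹ * (g * b * g⁻¹) := fun g a b => by group
    have e2 : ∀ g c : Q, c = 1 ∨ c = z → g * c * g⁻¹ = c := fun g c h => by rw [← zc c h, mul_inv_cancel_right]
    rw [h7, h9, map_mul β d, map_mul α c, c1 d (zc d h8 _), c2 x hx', a1 c (zc c h6 _), a1 x hx, e1, e1 w x, e1 t, e2 _ _ h8,
      e2 _ _ h6, h7, h9, map_mul α d, map_mul α (c * x), map_mul α c, map_mul β c, map_mul β d, c1 d (zc d h8 _), c1 c (zc c h6 _), c2 x hx',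
      a1 c (zc c h6 _), a1 d (zc d h8 _), a1 x hx, ← mul_assoc, ← mul_assoc, ← mul_assoc c, ← mul_assoc (c * d), zc c h6 d,
      mul_right_inj] at this
    exact mul_inv_eq_iff_eq_mul.1 (α.injective (this.trans (a1 _ huv.symm).symm))
  obtain ⟨E, hE, hE'⟩ := hplus
  have h8 : 8 ≤ Nat.card ↥(E ⊓ 𝐂[u]) := by
    have a : (𝐂[u]).index = 2 := by
      obtain ⟨x, hx⟩ : ∃ x, x * u ≠ u * x := by
        by_contra hn; push Not at hn; exact hnc u hu (mem_center_iff.2 hn)
      refine index_eq_two_iff.2 ⟨x, fun y => ?_⟩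
      simp only [mem_centralizer_singleton_iff]
      by_cases h : y * u = u * y
      · exact .inr ⟨h, (cn h hx).1⟩
      · exact .inl ⟨nn hz hz2 hc h hx, h⟩
    have b := card_mul_relIndex (inf_le_left : E ⊓ 𝐂[u] ≤ E)
    haveI := normal_of_index_eq_two a
    have c := Nat.le_of_dvd two_pos (a ▸ relIndex_dvd_index_of_normal (𝐂[u]) E)
    rw [inf_relIndex_left, hE'] at b
    have : 2 ^ 4 ≤ 2 ^ (n + 1) := Nat.pow_le_pow_right two_pos (by omega)
    nlinarith
  have ex : ∀ S : Finset Q, S.card < 8 → ∃ s ∈ E ⊓ 𝐂[u], s ∉ S := fun S hS => by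
    by_contra hn
    push Not at hn
    have := Nat.card_le_card_of_injective _ (Set.inclusion_injective (show ((E ⊓ 𝐂[u] : Subgroup Q) : Set Q) ⊆ (S : Set Q) from hn))
    simp only [SetLike.coe_sort_coe, Finset.coe_sort_coe, Nat.card_eq_fintype_card, Fintype.card_coe] at this
    omega
  classical
  obtain ⟨s, hs1, hs2⟩ := ex {1, z} (Finset.card_le_two.trans_lt (by norm_num))
  obtain ⟨t, ht1, ht2⟩ := ex {1, z, s, s * z} (Finset.card_le_four.trans_lt (by norm_num))
  simp only [Finset.mem_insert, Finset.mem_singleton, not_or] at hs2 ht2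
  have sq : ∀ s ∈ E, s * s = 1 := fun s h => sq s ▸ hE.2 s h
  have m1 := main s (sq s hs1.1) (mem_centralizer_singleton_iff.1 hs1.2) fun h => hs2.2 (hZ s h hs2.1)
  have m2 := main t (sq t ht1.1) (mem_centralizer_singleton_iff.1 ht1.2) fun h => ht2.2.1 (hZ t h ht2.1)
  have m3 := main (s * t) (sq _ (mul_mem hs1.1 ht1.1)) (mem_centralizer_singleton_iff.1 (mul_mem hs1 ht1).2) fun h =>
    ht2.2.2.2 (by
      rw [← hZ _ h fun e => ht2.2.2.1 (mul_left_cancel (e.trans (sq s hs1.1).symm)), ← mul_assoc, sq s hs1.1, one_mul])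
  have hcu : ∀ g : Q, w * g = g * w → g ∈ 𝐂[w] := fun g h => mem_centralizer_singleton_iff.2 h.symm
  have := mul_mem (hcu _ m1) (mul_mem (inv_mem (hcu _ m3)) (hcu _ m2))
  have e : u * s * ((u * (s * t))⁻¹ * (u * t)) = u := by
    have : (s * t)⁻¹ = s * t := inv_eq_of_mul_eq_one_left (sq _ (mul_mem hs1.1 ht1.1))
    rw [mul_inv_rev, this, mul_assoc (s * t), inv_mul_cancel_left, mul_assoc s, sq t ht1.1, mul_one, mul_assoc, sq s hs1.1, mul_one]
  exact a3 (mem_centralizer_singleton_iff.1 (e ▸ this)).symm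

end Cfsg.Agent.S3085
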