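import Cfsg.Statements.S3086
import Cfsg.Agent.Lib.Push.PGV
import Cfsg.Agent.Lib.Push.RepAmb

set_option autoImplicit false
open Cfsg

namespace Cfsg.Agent.S3086

open Subgroup Cfsg.Lib Cfsg.Lib.Amalg Cfsg.Lib.Push

/-- The P(G,V)-theorem. Let p be a prime, G a finite group acting faithfully and linearly on a finite vector space V over the field with p elements, and A a nontrivial elementary abelian p-subgroup of G such that |A|·|C_V(A)| ≥ |B|·|C_V(B)| for every subgroup B of A. Then A normalizes every component (subnormal quasisimple subgroup) of G. -/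
theorem result {G V : Type*} [Group G] [Finite G] [AddCommGroup V] [Finite V] (p : ℕ) [Fact p.Prime] [Module (ZMod p) V]
    (ρ : Representation (ZMod p) G V) (hρ : Function.Injective ρ)
    (A : Subgroup G) (hA : A ≠ ⊥) (hAel : Cfsg.IsElementaryAbelian p A)
    (hP : ∀ B : Subgroup G, B ≤ A →
      Nat.card ↥B * Nat.card {v : V // ∀ b ∈ B, ρ b v = v} ≤ Nat.card ↥A * Nat.card {v : V // ∀ a ∈ A, ρ a v = v}) :
    ∀ K : Subgroup G, Cfsg.IsComponent K → A ≤ Subgroup.normalizer (K : Set G) := by
  intro K hK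
  obtain ⟨Γ, _, _, i, j, h, -, -⟩ := Coprime.exists_ambient (repAut ρ)
  have h1 : A.map j ≤ 𝐍 (K.map j) := PGV.le_norm (rep_elemAb i) (elemAb_map hAel j) (h.le_normalizer_top K)
    (h.le_normalizer_top A) ⟨fun B hB => by
      rw [← map_comap_eq_self (hB.trans (map_le_range j A)), rep_card_fix h, rep_card_fix h, h.card_map_j,
        h.card_map_j]
      exact hP _ ((comap_mono hB).trans (comap_map_eq_self_of_injective h.inj_j A).le), by
      rw [comm_eq_bot_iff.2 (elemAb_le_cent (elemAb_map hAel j))]; exact bot_le, fun a ha => by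
      rw [(elemAb_map hAel j).2 a ha]; exact one_mem _⟩
    ((Layer.isQuasisimple_map_iff_of_injective h.inj_j).2 hK.2)
    (fun e => Layer.IsComponent.ne_bot hK (eq_bot_iff.2 fun x hx => rep_faithful h hρ (e (mem_map_of_mem j hx)))) ?_
  · intro a ha
    refine mem_normalizer_of_cj_le (cj_le_iff'.2 fun x hx => (mem_map_iff_mem h.inj_j).1 ?_)
    rw [map_mul, map_mul, map_inv]
    exact Core.conj_mem_of_mem_normalizer (h1 (mem_map_of_mem j ha)) (mem_map_of_mem j hx)
  · rintro _ ⟨a, -, rfl⟩ hn _ ⟨_, ⟨x, hx, rfl⟩, rfl⟩ _ ⟨y, hy, rfl⟩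
    have := Layer.mul_comm_of_commutator_eq_bot (Layer.IsComponent.commutator_eq_bot_of_ne hK
      (Layer.IsComponent.conj hK a) fun e => hn (le_normalizer_map j (mem_map_of_mem j (cj_eq_self_iff.1 e.symm))))
      hy (conj_mem_cj a hx)
    simpa using congrArg j this

end Cfsg.Agent.S3086
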