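import Cfsg.Statements.S3087
import Cfsg.Agent.Lib.Amalg.CD

set_option autoImplicit false
open Cfsg

namespace Cfsg.Agent.S3087

open Subgroup Cfsg.Lib.Amalg
open Cfsg.Lib.Core hiding isPGroup_subgroupOf isPGroup_subgroupOf_iff isPGroup_map_subtype_iff isPGroup_zpowers_of_orderOf
open scoped commutatorElement

/-- Let p be a prime, G a finite group acting linearly on a finite vector space V over the field with p elements, W a G-invariant subspace, and A a subgroup of G with |A|·|C_V(A)| ≥ |B|·|C_V(B)| for every subgroup B of A. Then |A|·|C_W(A)| ≥ |B|·|C_W(B)| for every subgroup B of A that contains C_A(W); that is, the image of A in the group induced on W satisfies the same maximality condition. -/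
theorem result {G V : Type*} [Group G] [Finite G] [AddCommGroup V] [Finite V] (p : ℕ) [Fact p.Prime] [Module (ZMod p) V]
    (ρ : Representation (ZMod p) G V) (W : Submodule (ZMod p) V) (hW : ∀ g : G, ∀ w ∈ W, ρ g w ∈ W)
    (A : Subgroup G)
    (hP : ∀ B : Subgroup G, B ≤ A →
      Nat.card ↥B * Nat.card {v : V // ∀ b ∈ B, ρ b v = v} ≤ Nat.card ↥A * Nat.card {v : V // ∀ a ∈ A, ρ a v = v})
    (B : Subgroup G) (hBA : B ≤ A) (hCB : ∀ a ∈ A, (∀ w ∈ W, ρ a w = w) → a ∈ B) :
    Nat.card ↥B * Nat.card {w : W // ∀ b ∈ B, ρ b w = w} ≤ Nat.card ↥A * Nat.card {w : W // ∀ a ∈ A, ρ a w = w} := by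
  let F : Subgroup G → AddSubgroup V := fun D =>
    { carrier := {v | ∀ b ∈ D, ρ b v = v}
      zero_mem' := fun b _ => map_zero _
      add_mem' := fun {x y} hx hy b hb => by rw [map_add, hx b hb, hy b hb]
      neg_mem' := fun {x} hx b hb => by rw [map_neg, hx b hb] }
  have e : ∀ D : Subgroup G, Nat.card {w : W // ∀ b ∈ D, ρ b w = w} =
      Nat.card (F D ⊓ W.toAddSubgroup : AddSubgroup V) := fun D =>
    Nat.card_congr ⟨fun w => ⟨w.1.1, w.2, w.1.2⟩, fun w => ⟨⟨w.1, w.2.2⟩, w.2.1⟩, fun _ => rfl, fun _ => rfl⟩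
  have h1 : Nat.card B * Nat.card (F B) ≤ Nat.card A * Nat.card (F A) := hP B hBA
  have hAB : F A ≤ F B := fun v hv b hb => hv b (hBA hb)
  have h2 := Lib.Hall.card_mul_card_le (G := Multiplicative V)
    (H := (F B ⊓ W.toAddSubgroup).toSubgroup) (K := (F A).toSubgroup) (L := (F B).toSubgroup)
    (fun x hx => hx.1) hAB
  have e2 : (F B ⊓ W.toAddSubgroup).toSubgroup ⊓ (F A).toSubgroup = (F A ⊓ W.toAddSubgroup).toSubgroup := by
    ext x
    exact ⟨fun h => ⟨h.2, h.1.2⟩, fun h => ⟨⟨hAB h.1, h.2⟩, h.1⟩⟩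
  rw [e2] at h2
  have h3 : Nat.card (F B ⊓ W.toAddSubgroup : AddSubgroup V) * Nat.card (F A) ≤
      Nat.card (F B) * Nat.card (F A ⊓ W.toAddSubgroup : AddSubgroup V) := h2
  rw [e, e]
  have p1 : 0 < Nat.card (F A) := Nat.card_pos
  refine Nat.le_of_mul_le_mul_right ?_ p1
  calc _ = Nat.card B * (Nat.card (F B ⊓ W.toAddSubgroup : AddSubgroup V) * Nat.card (F A)) := by ring
    _ ≤ Nat.card B * (Nat.card (F B) * Nat.card (F A ⊓ W.toAddSubgroup : AddSubgroup V)) :=
      Nat.mul_le_mul_left _ h3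
    _ = (Nat.card B * Nat.card (F B)) * Nat.card (F A ⊓ W.toAddSubgroup : AddSubgroup V) := by ring
    _ ≤ _ := Nat.mul_le_mul_right _ h1
    _ = _ := by ring

end Cfsg.Agent.S3087
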