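import Cfsg.Statements.S3104
import Cfsg.Agent.Lib.GH4.C

set_option autoImplicit false
open Cfsg

namespace Cfsg.Agent.S3104

open Cfsg.Lib Cfsg.Lib.GH4 Cfsg.Lib.Linear Equiv

/-- Let X be a finite nonsolvable 2-constrained group with no nontrivial normal subgroup of odd order such that O₂(X) has sectional 2-rank at most 4, and write Q for X/O₂(X). Then Q is isomorphic to the projective special linear group of dimension 3 over the field with 2 elements, to an alternating group of degree n with 5 ≤ n ≤ 8, to a symmetric group of degree n with 5 ≤ n ≤ 7, or else O₃(Q) has order 3 and Q/O₃(Q) is isomorphic to the alternating or the symmetric group of degree 5 (so Q is the direct product of a group of order 3 with the alternating group of degree 5, or an extension of that direct product by a group of order 2). If moreover X itself has sectional 2-rank at most 4, then Q is not isomorphic to the symmetric group of degree 6 or 7 nor to the alternating group of degree 8. -/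
theorem result {X : Type*} [Group X] [Finite X] (hns : ¬ Group.IsSolvable X) (hc : Cfsg.IsPConstrained 2 X) (hO : Cfsg.oddCore X = ⊥)
    (h4 : Cfsg.SectionalPRankLE 2 4 ↥(Cfsg.pCore 2 X)) :
    ((∃ (F : Type) (_ : Field F) (_ : Fintype F), Fintype.card F = 2 ∧
          Nonempty (X ⧸ Cfsg.pCore 2 X ≃* Matrix.ProjectiveSpecialLinearGroup (Fin 3) F)) ∨
        (∃ n : ℕ, 5 ≤ n ∧ n ≤ 8 ∧ Nonempty (X ⧸ Cfsg.pCore 2 X ≃* ↥(alternatingGroup (Fin n)))) ∨
        (∃ n : ℕ, 5 ≤ n ∧ n ≤ 7 ∧ Nonempty (X ⧸ Cfsg.pCore 2 X ≃* Equiv.Perm (Fin n))) ∨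
        (Nat.card ↥(Cfsg.pCore 3 (X ⧸ Cfsg.pCore 2 X)) = 3 ∧
          (Nonempty ((X ⧸ Cfsg.pCore 2 X) ⧸ Cfsg.pCore 3 (X ⧸ Cfsg.pCore 2 X) ≃* ↥(alternatingGroup (Fin 5))) ∨
            Nonempty ((X ⧸ Cfsg.pCore 2 X) ⧸ Cfsg.pCore 3 (X ⧸ Cfsg.pCore 2 X) ≃* Equiv.Perm (Fin 5))))) ∧
      (Cfsg.SectionalPRankLE 2 4 X →
        ¬ (Nonempty (X ⧸ Cfsg.pCore 2 X ≃* Equiv.Perm (Fin 6)) ∨ Nonempty (X ⧸ Cfsg.pCore 2 X ≃* Equiv.Perm (Fin 7)) ∨
            Nonempty (X ⧸ Cfsg.pCore 2 X ≃* ↥(alternatingGroup (Fin 8))))) := by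
  obtain ⟨f, hf⟩ := S3103.result hc hO h4
  have := (Core.isPGroup_pCore 2 X).isNilpotent (hp := Invol.fact_two)
  have hn : ¬ Group.IsSolvable (X ⧸ pCore 2 X) := fun _ => hns (Core.isSolvable_of_normal_of_quotient (pCore 2 X))
  refine ⟨?_, fun h4' h => ?_⟩
  · by_cases hR : A8S.RT (X ⧸ pCore 2 X)
    · obtain ⟨e⟩ := gl4_two_equiv (F := ZMod 2) (by simp)
      let ε := MonoidHom.ofInjective (f := e.symm.toMonoidHom.comp f) (e.symm.injective.comp hf)
      have : Nontrivial (X ⧸ pCore 2 X) := by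
        by_contra c
        rw [not_nontrivial_iff_subsingleton] at c
        exact hn inferInstance
      have := ε.symm.toEquiv.nontrivial
      rcases A8S.main _ (fun N hN hs => by
        have := hR (N.comap ε.toMonoidHom) inferInstance (Group.isSolvable_of_isSolvable_injective
          (f := ε.toMonoidHom.subgroupComap N) fun a b e => Subtype.ext (ε.injective (congrArg Subtype.val e)))
        rw [← Subgroup.map_comap_eq_self_of_surjective (f := ε.toMonoidHom) ε.surjective N, this, Subgroup.map_bot]) with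
        ⟨n, a, b, ⟨c⟩⟩ | ⟨⟨c⟩⟩ | ⟨⟨c⟩⟩ | ⟨⟨c⟩⟩
      · exact .inr (.inl ⟨n, a, b, ⟨ε.trans c⟩⟩)
      · exact .inr (.inr (.inl ⟨5, by norm_num, by norm_num, ⟨ε.trans c⟩⟩))
      · exact .inr (.inr (.inl ⟨6, by norm_num, by norm_num, ⟨ε.trans c⟩⟩))
      · obtain ⟨d⟩ := nonempty_sl_equiv_psl (ι := Fin 3) (F := ZMod 2) (by simp)
        exact .inl ⟨ZMod 2, inferInstance, inferInstance, by simp, ⟨((ε.trans c).trans (MulEquiv.ofBijective _
          (toGL_bijective_of_card_two (ι := Fin 3) (F := ZMod 2) (by simp))).symm).trans d⟩⟩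
    · exact .inr (.inr (.inr (three ((alternatingGroup _).subtype.comp f) (Subtype.val_injective.comp hf) (fun h => (f h).2) hn
        Core.pCore_quotient_pCore hR)))
  obtain ⟨Φ, _, -, a, b, c⟩ := setup hc hO
  have key : ∀ ψ : Perm (Fin 6) →* X ⧸ pCore 2 X, ¬ Function.Injective ψ := fun ψ hψ =>
    core _ (sr_surj (sr_of_sec h4') _ (QuotientGroup.mk'_surjective Φ)) b c
      ((QuotientGroup.quotientQuotientEquivQuotient Φ _ a).symm.toMonoidHom.comp ψ)
      ((QuotientGroup.quotientQuotientEquivQuotient Φ _ a).symm.injective.comp hψ)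
  rcases h with ⟨⟨e⟩⟩ | ⟨⟨e⟩⟩ | ⟨⟨e⟩⟩
  · exact key e.symm.toMonoidHom e.symm.injective
  · have : IsSimpleGroup (alternatingGroup (Fin 8)) := alternatingGroup.isSimpleGroup (by simp)
    have h1 := f.range.card_mul_index
    rw [← Nat.card_congr (MonoidHom.ofInjective hf).toEquiv, Nat.card_congr e.toEquiv, card_A8, Nat.card_perm, Nat.card_fin,
      show Nat.factorial 7 = 5040 by decide] at h1
    have := A8S.index_ge f.range (fun h => by rw [h, Subgroup.index_top] at h1; omega) (m := 7) (by rw [card_A8]; decide)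
    omega
  · obtain ⟨σ, s1, s2, -⟩ := Known2.TC.exists_hom_perm6 (G := alternatingGroup (Fin 8)) (a := ⟨swap 0 1 * swap 6 7, Perm.mem_alternatingGroup.2 (by decide)⟩)
      (b := ⟨swap 1 2 * swap 6 7, Perm.mem_alternatingGroup.2 (by decide)⟩) (c := ⟨swap 2 3 * swap 6 7, Perm.mem_alternatingGroup.2 (by decide)⟩) (d := ⟨swap 3 4 * swap 6 7, Perm.mem_alternatingGroup.2 (by decide)⟩)
      (e := ⟨swap 4 5 * swap 6 7, Perm.mem_alternatingGroup.2 (by decide)⟩) (by decide) (by decide) (by decide) (by decide) (by decide) (by decide) (by decide)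
      (by decide) (by decide) (by decide) (by decide) (by decide) (by decide) (by decide) (by decide)
    exact key (e.symm.toMonoidHom.comp σ) (e.symm.injective.comp (inj6 σ (by rw [s1, s2]; decide)))

end Cfsg.Agent.S3104
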