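import Cfsg.Statements.S3105
import Cfsg.Agent.Lib.SR4.C
import Cfsg.Agent.Lib.Core.UpperP
import Cfsg.Agent.Lib.Linear.Simple
import Cfsg.Agent.Lib.Linear.Card
import Cfsg.Agent.Lib.Fus.SmallE

set_option autoImplicit false
open Cfsg

namespace Cfsg.Agent.S3105

section
set_option linter.unusedSectionVars false
open Subgroup Cfsg.Lib Cfsg.Lib.Core Cfsg.Lib.Amalg Cfsg.Lib.BG1 Cfsg.Lib.BS Cfsg.Lib.SR4
open scoped commutatorElement

universe u

structure TT {G : Type*} [Group G] (Q : Subgroup G) (f : G) (E : Subgroup G) (a : G) : Prop where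
  fn : f ∈ 𝐍(E)
  el : IsElementaryAbelian 2 E
  c8 : Nat.card E = 8
  fp : E ⊓ 𝐂[f] = ⊥
  af : a * f = f * a
  aE : a ∈ 𝐂(E)
  sup : E ⊔ zpowers a = Q

variable {G : Type u} [Group G] [Finite G] {Q : Subgroup G} [hQn : Q.Normal] {f : G} {E : Subgroup G} {a : G}

theorem TT.le (T : TT Q f E a) : E ≤ Q := T.sup ▸ le_sup_left
theorem TT.mem (T : TT Q f E a) : a ∈ Q := T.sup ▸ mem_sup_right (mem_zpowers a)
theorem TT.comm (T : TT Q f E a) : IsMulCommutative Q := T.sup ▸ PGrp.isMulCommutative_sup_zpowers T.el.1 T.aE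

theorem TT.ex (T : TT Q f E a) {m : G} (hm : m ∈ Q) : ∃ e ∈ E, ∃ k : ℤ, m = e * a ^ k ∧ m * m = (a * a) ^ k := by
  obtain ⟨e, he, k, rfl⟩ := (PGrp.mem_sup_zpowers_of_mem_normalizer (centralizer_le_normalizer _ T.aE)).1 (T.sup ▸ hm)
  refine ⟨e, he, k, rfl, ?_⟩
  rw [← sq, Commute.mul_pow (zpow_mem T.aE k e he), T.el.2 e he, one_mul, sq, (Commute.refl a).mul_zpow]

theorem TT.nc (T : TT Q f E a) {N : Subgroup G} (hN : N ≤ 𝐂[f]) : ∃ x ∈ E, x⁻¹ * (f * x * f⁻¹) ∉ N := by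
  obtain ⟨⟨x, hx⟩, x1⟩ := ne_bot_iff_exists_ne_one.1 (fun e : E = ⊥ => by have := T.c8; rw [e, card_bot] at this; omega)
  refine ⟨x, hx, fun e => x1 (Subtype.ext (T.fp.le (mem_inf.2 ⟨hx, mem_centralizer_singleton_iff.2 ?_⟩)))⟩
  exact eq_mul_inv_iff_mul_eq.1 (inv_mul_eq_one.1 (T.fp.le (mem_inf.2
    ⟨mul_mem (inv_mem hx) ((mem_normalizer_iff.1 T.fn x).1 hx), hN e⟩)))

theorem norm_pre {K N : Subgroup G} [hK : K.Normal] {u g : G} {r : G → A0} (t : Tr Q K N u g r) :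
    u ∈ 𝐍(t.pre P1) ∧ g ∈ 𝐍(t.pre P1) :=
  ⟨mem_normalizer_fintype fun m hm => t.mem_pre.2 ⟨hK.conj_mem _ (t.mem_pre.1 hm).1 u, by
    rw [t.ru _ (t.mem_pre.1 hm).1]; exact (t.mem_pre.1 hm).2⟩,
   mem_normalizer_fintype fun m hm => t.mem_pre.2 ⟨hK.conj_mem _ (t.mem_pre.1 hm).1 g, by
    rw [t.rg _ (t.mem_pre.1 hm).1]
    exact (by decide : ∀ a : A0, a 1 = 0 ∧ a 2 = 0 → G0 a 1 = 0 ∧ G0 a 2 = 0) _ (t.mem_pre.1 hm).2⟩⟩

theorem card_half {D B : Subgroup G} (h : D ≤ B) {x : G} (h1 : x ∈ B) (h2 : x ∉ D) : 2 * Nat.card D ≤ Nat.card B := by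
  rw [← Core.card_mul_relIndex h, mul_comm]
  refine Nat.mul_le_mul_left _ ?_
  have a1 : D.relIndex B ≠ 1 := fun e => h2 (relIndex_eq_one.1 e h1)
  have a2 : D.relIndex B ≠ 0 := FiniteIndex.index_ne_zero
  omega

theorem claimB (h : H7 Q f) (T : TT Q f E a) (a8 : a ^ 8 = 1) : a ^ 4 = 1 := by
  by_contra a4
  have cm := PGrp.isMulCommutative_iff_forall.1 T.comm
  have hS : sqg Q = zpowers (a * a) := le_antisymm (sqg_le_iff.2 fun m hm => by
    obtain ⟨e, -, k, -, h⟩ := T.ex hm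
    exact h ▸ zpow_mem (mem_zpowers _) k) (zpowers_le.2 (sq_mem_sqg T.mem))
  have o4 : orderOf (a * a) = 4 := orderOf_eq_prime_pow (p := 2) (n := 1) (by rwa [← sq, ← pow_mul])
    (by rwa [← sq, ← pow_mul])
  have c4 : Nat.card (sqg Q) = 4 := by rw [hS, Nat.card_zpowers, o4]
  have Sf : sqg Q ≤ 𝐂[f] := hS ▸ zpowers_le.2 (mul_mem (mem_centralizer_singleton_iff.2 T.af)
    (mem_centralizer_singleton_iff.2 T.af))
  have Sc : ∀ s ∈ sqg Q, ∀ y, s * y = y * s := fun s hs y => (h.top (C := 𝐂(sqg Q))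
    (fun q hq s hs => cm s (sqg_le Q hs) q hq) (fun s hs => mem_centralizer_singleton_iff.1 (Sf hs)) h.fQ).ge (mem_top y) s hs
  have S4 : ∀ s ∈ sqg Q, s ^ 4 = 1 := fun s hs => congrArg Subtype.val (c4 ▸ pow_card_eq_one' : (⟨s, hs⟩ : sqg Q) ^ 4 = 1)
  have := PGrp.omegaOne_normal 4 Q
  have hW := PGrp.omegaOne_normal 2 Q
  have m4 := PGrp.pow_eq_one_of_mem_omegaOne_of_comm (n := 4) T.comm
  have m2 := PGrp.pow_eq_one_of_mem_omegaOne_of_comm (n := 2) T.comm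
  have KQ := PGrp.omegaOne_le 4 Q
  have hK : omegaOne 4 Q = E ⊔ sqg Q := le_antisymm (PGrp.omegaOne_le_iff.2 fun m hm h4 => by
    obtain ⟨e, he, k, rfl, h⟩ := T.ex hm
    rw [show 4 = 2 * 2 from rfl, pow_mul, sq (e * a ^ k), h, ← zpow_natCast, ← zpow_mul, ← orderOf_dvd_iff_zpow_eq_one,
      o4] at h4
    obtain ⟨j, rfl⟩ : 2 ∣ k := by omega
    exact mul_mem (mem_sup_left he) (mem_sup_right (by rw [zpow_mul, zpow_two]; exact zpow_mem (sq_mem_sqg T.mem) j)))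
    (sup_le (PGrp.le_omegaOne_of_pow T.le fun x hx => by rw [show 4 = 2 * 2 from rfl, pow_mul, T.el.2 x hx, one_pow])
      (PGrp.le_omegaOne_of_pow (sqg_le Q) S4))
  have c32 : Nat.card (omegaOne 4 Q) = 8 * Nat.card (sqg Q) := by
    rw [hK, Core.card_sup_of_disjoint le_normalizer_of_normal (eq_bot_iff.2 ((inf_le_inf_left _ Sf).trans T.fp.le)), T.c8]
  have SK : sqg Q ≤ omegaOne 4 Q := hK ▸ le_sup_right
  obtain ⟨u, g, r, t⟩ := h.exists_tr (omegaOne 4 Q) (sqg Q) SK c32 (fun x hx => sq_mem_sqg (KQ hx))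
    (fun q hq x hx => by rw [cm q hq x (KQ hx)]; simp) (by
      obtain ⟨x, hx, hn⟩ := T.nc Sf
      exact ⟨x, hK ▸ mem_sup_left hx, hn⟩)
  have x8 : (u * u) ^ 8 = 1 := by rw [show 8 = 2 * 4 from rfl, pow_mul, sq]; exact S4 _ (sq_mem_sqg t.u2)
  have x4 : (u * u) ^ 4 = 1 := by
    have b1 := cent_six (u := (u : G ⧸ omegaOne 2 Q)) (g := g) (congrArg (QuotientGroup.mk' (omegaOne 2 Q)) t.prod)
      (mk_comm.2 (PGrp.mem_omegaOne_of_pow (mul_mem (inv_mem t.u2) (hQn.conj_mem _ t.u2 g)) (by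
        rw [Commute.mul_pow (cm _ (inv_mem t.u2) _ (hQn.conj_mem _ t.u2 g)), conj_pow, sq (u * u),
          ← Sc _ (sq_mem_sqg t.u2) g, sq]
        group)))
    have b2 := m2 _ ((QuotientGroup.eq_one_iff ((u * u) ^ 6)).1 b1)
    rwa [← pow_mul, show 6 * 2 = 8 + 4 from rfl, pow_add, x8, one_mul] at b2
  have xK := PGrp.mem_omegaOne_of_pow t.u2 x4
  have x2 : (u * u) ^ 2 = 1 := by
    have b1 := (t.eq_iff xK (this.conj_mem _ xK g)).1 (by
      rw [t.rg _ xK]; exact (by decide : ∀ a : A0, a 1 = 0 ∧ a 2 = 0 → a = G0 a) _ (t.sq xK))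
    have b2 := cent_six t.prod (comm_of_odd (q := 3) (by decide) (t.g3 ▸ pow_orderOf_eq_one g) (S4 _ b1) (Sc _ b1 g))
    rwa [show 6 = 4 + 2 from rfl, pow_add, x4, one_mul] at b2
  have nD : ∀ y ∈ 𝐍(t.pre P1), y ∈ 𝐍(t.pre P1 ⊓ omegaOne 2 Q) := fun y hy => mem_normalizer_fintype
    fun m hm => mem_inf.2 ⟨(mem_normalizer_iff.1 hy m).1 hm.1, hW.conj_mem m hm.2 y⟩
  have b3 := h.sec.four (D := t.pre P1 ⊓ omegaOne 2 Q) (B := omegaOne 4 Q) ⟨fun m hm => (t.mem_pre.1 hm.1).1,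
    fun m hm => centralizer_le_normalizer _ fun y hy => cm y (PGrp.omegaOne_le 2 Q hy.2) m (KQ hm),
    fun m hm => mem_inf.2 ⟨t.mem_pre.2 ⟨mul_mem hm hm, by
      rw [(t.ker _ (mul_mem hm hm)).2 (sq_mem_sqg (KQ hm))]; exact zero_mem _⟩,
      PGrp.mem_omegaOne_of_pow (KQ (mul_mem hm hm)) (by rw [← sq, ← pow_mul]; exact m4 m hm)⟩⟩ KQ
    (nD u (norm_pre t).1) (nD g (norm_pre t).2) (le_normalizer_of_normal (mem_top g)) t.uQ (t.prod ▸ one_mem _)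
    fun m hm => by
      have c1 := this.conj_mem m hm u
      rw [show m * u * (m * u) = m * (u * m * u⁻¹) * (u * u) by group]
      refine mem_inf.2 ⟨t.mem_pre.2 ⟨mul_mem (mul_mem hm c1) xK, ?_⟩,
        PGrp.mem_omegaOne_of_pow (KQ (mul_mem (mul_mem hm c1) xK)) ?_⟩
      · rw [t.add _ (mul_mem hm c1) _ xK, t.add _ hm _ c1, t.ru _ hm]
        exact add_mem ((by decide : ∀ a : A0, (a + U0 a) 1 = 0 ∧ (a + U0 a) 2 = 0) _) (t.sq xK)
      · rw [Commute.mul_pow (cm _ (KQ (mul_mem hm c1)) _ t.u2), x2, mul_one, Commute.mul_pow (cm _ (KQ hm) _ (KQ c1)),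
          conj_pow, sq, ← Sc _ (sq_mem_sqg (KQ hm)) u, mul_inv_cancel_right, ← sq, ← sq, ← pow_mul, m4 m hm]
  have b4 := card_half (inf_le_left : t.pre P1 ⊓ omegaOne 2 Q ≤ _) (x := a * a) (t.mem_pre.2 ⟨SK (sq_mem_sqg T.mem), by
    rw [(t.ker _ (SK (sq_mem_sqg T.mem))).2 (sq_mem_sqg T.mem)]; exact zero_mem _⟩) fun e => a4 (by
      have := m2 _ e.2
      rwa [← sq, ← pow_mul] at this)
  rw [t.card_pre SK, card_P1, c4] at b4
  omega

theorem exists_r {K N : Subgroup G} [N.Normal] (h1 : N ≤ K) (h8 : Nat.card K = 8 * Nat.card N) (h2 : ∀ x ∈ K, x * x ∈ N) :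
    ∃ r : G → A0, (∀ x ∈ K, ∀ y ∈ K, r (x * y) = r x + r y) ∧ (∀ x ∈ K, x ∈ N → r x = 0) ∧ ∀ a, ∃ x ∈ K, r x = a := by
  classical
  obtain ⟨e⟩ := e8 (V := K.map (QuotientGroup.mk' N)) (by
    rintro ⟨_, x, hx, rfl⟩
    exact Subtype.ext ((map_pow _ x 2).symm.trans ((QuotientGroup.eq_one_iff _).2 (sq x ▸ h2 x hx)))) (card_mk h1 h8)
  let r : G → A0 := fun x => if hx : x ∈ K then (e ⟨x, mem_map_of_mem (QuotientGroup.mk' N) hx⟩).toAdd else 0
  have r1 : ∀ x (hx : x ∈ K), r x = (e ⟨x, mem_map_of_mem (QuotientGroup.mk' N) hx⟩).toAdd := fun x hx => dif_pos hx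
  refine ⟨r, fun x hx z hz => ?_, fun x hx hn => (r1 x hx).trans (congrArg Multiplicative.toAdd
    (e.map_eq_one_iff.2 (Subtype.ext ((QuotientGroup.eq_one_iff x).2 hn)))), fun a => ?_⟩
  · rw [r1 x hx, r1 z hz, r1 _ (mul_mem hx hz), ← toAdd_mul, ← map_mul]
    rfl
  · obtain ⟨⟨_, x, hx, rfl⟩, h⟩ := e.surjective (.ofAdd a)
    exact ⟨x, hx, (r1 x hx).trans (congrArg Multiplicative.toAdd h)⟩

theorem elem_of_sq {A : Subgroup G} (h : ∀ x ∈ A, x * x = 1) : IsElementaryAbelian 2 A :=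
  ⟨⟨⟨Commute.of_orderOf_dvd_two fun a => orderOf_dvd_of_pow_eq_one (Subtype.ext ((sq _).trans (h a a.2)))⟩⟩,
    fun x hx => (sq x).trans (h x hx)⟩

theorem comap_le {W : Subgroup G} [W.Normal] (hW : W ≤ Q) {E : Subgroup (G ⧸ W)} (h : E ≤ Q.map (QuotientGroup.mk' W)) :
    E.comap (QuotientGroup.mk' W) ≤ Q :=
  (comap_mono h).trans (comap_map_eq_self (by rwa [QuotientGroup.ker_mk'])).le

theorem TT.lift {W : Subgroup G} [W.Normal] (hW : W ≤ Q) {E : Subgroup (G ⧸ W)} {a : G}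
    (T : TT (Q.map (QuotientGroup.mk' W)) f E a) :
    E.comap (QuotientGroup.mk' W) ⊔ zpowers a = Q ∧ ∃ x ∈ E.comap (QuotientGroup.mk' W), x⁻¹ * (f * x * f⁻¹) ∉ W := by
  have := Normal.map hQn _ (QuotientGroup.mk'_surjective W)
  refine ⟨?_, ?_⟩
  · rw [← comap_map_eq_self (f := QuotientGroup.mk' W) (H := Q) (by rwa [QuotientGroup.ker_mk']), ← T.sup,
      ← comap_map_eq_self (f := QuotientGroup.mk' W) (H := _ ⊔ _) ((ker_le_comap _ E).trans le_sup_left), Subgroup.map_sup,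
      map_comap_eq_self_of_surjective (QuotientGroup.mk'_surjective W), MonoidHom.map_zpowers]
    rfl
  · obtain ⟨x, hx, hn⟩ := T.nc (N := ⊥) bot_le
    obtain ⟨x, rfl⟩ := QuotientGroup.mk_surjective x
    exact ⟨x, hx, fun e => hn ((QuotientGroup.eq_one_iff _).2 e)⟩

theorem case1 (h : H7 Q f) {z : G} (zQ : z ∈ Q) (ho : orderOf z = 2) (zc : ∀ y, y * z = z * y) [(zpowers z).Normal]
    {E : Subgroup (G ⧸ zpowers z)} {a : G ⧸ zpowers z} (T : TT (Q.map (QuotientGroup.mk' _)) f E a) (a4 : a ^ 4 = 1) :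
    ∃ E a, TT Q f E a ∧ a ^ 4 = 1 := by
  have := Normal.map hQn _ (QuotientGroup.mk'_surjective (zpowers z))
  obtain ⟨a, aQ, rfl⟩ := T.mem
  obtain ⟨l1, l2⟩ := T.lift (zpowers_le.2 zQ)
  obtain ⟨K, hK⟩ : ∃ K, K = E.comap (QuotientGroup.mk' (zpowers z)) := ⟨_, rfl⟩
  have cz : Nat.card (zpowers z) = 2 := by rw [Nat.card_zpowers, ho]
  have zz : z * z = 1 := by rw [← sq, ← ho, pow_orderOf_eq_one]
  have z1 : z ≠ 1 := fun e => by rw [e, orderOf_one] at ho; omega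
  have Zc : ∀ n ∈ zpowers z, ∀ y, n * y = y * n := fun n hn y =>
    (cent_zpowers.ge (mem_centralizer_singleton_iff.2 (zc y)) n hn)
  have Z2 : ∀ n ∈ zpowers z, n = 1 ∨ n = z := fun n hn => by
    simpa using mem_sup_two (B := ⊥) (le_normalizer_of_normal (mem_top z)) zz (by rwa [bot_sup_eq])
  have k1 : Nat.card K = 8 * Nat.card (zpowers z) := by rw [hK, Core.card_comap_mk', T.c8]
  have k2 : K ≤ Q := hK ▸ comap_le (zpowers_le.2 zQ) T.le
  have k3 : zpowers z ≤ K := hK ▸ QuotientGroup.le_comap_mk' _ _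
  have k4 : f ∈ 𝐍(K) := hK ▸ le_normalizer_comap _ T.fn
  have k5 : ∀ x ∈ K, x * x ∈ zpowers z := fun x hx =>
    (QuotientGroup.eq_one_iff _).1 ((sq (x : G ⧸ zpowers z)).symm.trans (T.el.2 _ (hK.le hx)))
  have k6 : ∀ x ∈ K, x⁻¹ * (a * x * a⁻¹) ∈ zpowers z := fun x hx => mk_comm.1 (T.aE _ (hK.le hx))
  rw [← hK] at l1 l2
  have el : ∀ x ∈ K, x * x = 1 := by
    by_contra! hn
    obtain ⟨m, hm, m1⟩ := hn
    have b1 : ∀ x ∈ K, x ∉ zpowers z → x * x = z := fun x hx x1 => (Z2 _ (k5 x hx)).resolve_left fun e => m1 (by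
      obtain ⟨c, -, n, hn, rfl⟩ := trans7' (h.p2.to_le k2) k3 k1 h.f7 k4 l2 hx hm x1 fun e => m1 (by
        rcases Z2 m e with rfl | rfl
        exacts [mul_one 1, zz])
      calc _ = c * x * c⁻¹ * (n * (c * x * c⁻¹)) * n := by group
        _ = c * (x * x) * c⁻¹ * (n * n) := by rw [Zc n hn]; group
        _ = 1 := by rcases Z2 n hn with rfl | rfl <;> simp [e, zz])
    obtain ⟨r, r1, r2, r3⟩ := exists_r k3 k1 k5
    have b2 : ∀ x ∈ K, ∀ y ∈ K, r x ≠ 0 → r y ≠ 0 → r x + r y ≠ 0 → y * x = x * y * z := fun x hx y hy c1 c2 c3 => by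
      have d1 := b1 x hx (mt (r2 x hx) c1)
      have d2 := b1 y hy (mt (r2 y hy) c2)
      have d3 := b1 _ (mul_mem hx hy) (mt (r2 _ (mul_mem hx hy)) (by rwa [r1 x hx y hy]))
      calc y * x = x * ((x * x)⁻¹ * (x * y * (x * y))) * y * (y * y)⁻¹ := by group
        _ = _ := by rw [d1, d2, d3, inv_eq_of_mul_eq_one_right zz, zz, mul_one]
    obtain ⟨x, hx, ex⟩ := r3 ![1, 0, 0]
    obtain ⟨y, hy, ey⟩ := r3 ![0, 1, 0]
    obtain ⟨w, hw, ew⟩ := r3 ![0, 0, 1]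
    have c1 := b2 x hx y hy (by rw [ex]; decide) (by rw [ey]; decide) (by rw [ex, ey]; decide)
    have c2 := b2 x hx w hw (by rw [ex]; decide) (by rw [ew]; decide) (by rw [ex, ew]; decide)
    have c3 := b2 x hx _ (mul_mem hy hw) (by rw [ex]; decide) (by rw [r1 y hy w hw, ey, ew]; decide)
      (by rw [r1 y hy w hw, ex, ey, ew]; decide)
    rw [mul_assoc y w, c2, ← mul_assoc, ← mul_assoc, c1, mul_left_inj, mul_assoc _ z, ← zc w, ← mul_assoc, mul_assoc x,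
      mul_eq_left] at c3
    exact z1 c3
  have k7 := ((seven (h.p2.to_le k2) (by omega) h.f7 k4 fun e => by
    obtain ⟨x, hx, hn⟩ := l2
    exact hn (by rw [← e x hx]; simp)).resolve_left (by omega)).2
  obtain ⟨E', c, e1, e2, e3, -, e5, e6, e7⟩ := split16 (elem_of_sq el) (by omega) h.f7 k4 k7
  have k8 : zpowers z = K ⊓ 𝐂[f] := eq_of_le_of_card_ge (le_inf k3 fun n hn => mem_centralizer_singleton_iff.2 (Zc n hn f))
    (by rw [k7, cz])
  rw [← e5, ← k8] at e6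
  have E'K : E' ≤ K := e6 ▸ le_sup_left
  have af : a * f = f * a := comm_of_odd (q := 7) (by decide) (h.f7 ▸ pow_orderOf_eq_one f) (by
    rcases Z2 _ (mk_comm.1 T.af) with e | e <;> rw [e]
    exacts [one_pow 4, by rw [show 4 = 2 * 2 from rfl, pow_mul, sq z, zz, one_pow]]) (Zc _ (mk_comm.1 T.af) f)
  have aE : a ∈ 𝐂(E') := fun x hx => eq_mul_inv_iff_mul_eq.1 (inv_mul_eq_one.1 (e3.le (mem_inf.2 ⟨mul_mem (inv_mem hx)
    ((mem_normalizer_iff.1 (e7 a (hK ▸ le_normalizer_comap _ (centralizer_le_normalizer _ T.aE)) af) x).1 hx),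
    (k8.le (k6 x (E'K hx))).2⟩)))
  have eE := elem_of_sq fun x hx => el x (E'K hx)
  by_cases hz : z ∈ zpowers a
  · have T' : TT Q f E' a := ⟨e1, eE, e2, e3, af, aE, by rw [← l1, ← e6, sup_assoc, sup_eq_right.2 (zpowers_le.2 hz)]⟩
    refine ⟨E', a, T', claimB h T' ?_⟩
    rw [show 8 = 4 * 2 from rfl, pow_mul, sq]
    exact el _ (k3 ((QuotientGroup.eq_one_iff _).1 a4))
  · by_cases ha : zpowers a = ⊥
    · exact ⟨E', z, ⟨e1, eE, e2, e3, (zc f).symm, fun y _ => zc y, by rw [← l1, ha, sup_bot_eq, e6]⟩,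
        by rw [show 4 = 2 * 2 from rfl, pow_mul, sq z, zz, one_pow]⟩
    · obtain ⟨c, hc, oc⟩ := exists_mem_orderOf_eq_prime Nat.prime_two (dvd_card_of_isPGroup_ne_bot
        (h.p2.to_le (zpowers_le.2 aQ)) ha)
      have c1 : c ∈ 𝐂(K) := e6 ▸ le_centralizer_iff.1 (sup_le (le_centralizer_iff.1 (zpowers_le.2
        (zpowers_le.2 aE hc))) fun n hn y _ => (Zc n hn y).symm) (mem_zpowers c)
      have c2 : c ^ 2 = 1 := oc ▸ pow_orderOf_eq_one c
      have c3 := h.sec.card_le fun x hx => (sq x).symm.trans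
        ((PGrp.isElementaryAbelian_sup_zpowers (elem_of_sq el) c1 c2).2 x hx)
      rw [PGrp.card_sup_zpowers_of_mem_normalizer (p := 2) (centralizer_le_normalizer _ c1) (fun e => ?_) (c2 ▸ one_mem _)] at c3
      · omega
      · rcases Z2 c (k8.ge (mem_inf.2 ⟨e, zpowers_le.2 (mem_centralizer_singleton_iff.2 af) hc⟩)) with rfl | rfl
        · rw [orderOf_one] at oc; omega
        · exact hz hc

theorem zp2 {z n : G} (zz : z * z = 1) (hn : n ∈ zpowers z) : n = 1 ∨ n = z := by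
  simpa using mem_sup_two (B := ⊥) (le_normalizer_of_normal (mem_top z)) zz (by rwa [bot_sup_eq])

structure C2 {G : Type*} [Group G] (Q : Subgroup G) (f : G) (W F : Subgroup G) (c : G) : Prop where
  h : H7 Q f
  We : IsElementaryAbelian 2 W
  W8 : Nat.card W = 8
  WQ : Q ≤ 𝐂(W)
  Wf : W ⊓ 𝐂[f] = ⊥
  WF : W ≤ F
  FQ : F ≤ Q
  F8 : Nat.card F = 8 * Nat.card W
  fn : f ∈ 𝐍(F)
  nc : ∃ x ∈ F, x⁻¹ * (f * x * f⁻¹) ∉ W
  Ff : ∀ x ∈ F, x⁻¹ * (f * x * f⁻¹) ∈ W → x ∈ W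
  sq : ∀ x ∈ F, x * x ∈ W
  cQ : c ∈ Q
  cf : c * f = f * c
  cc : c * c = 1
  qq : ∀ q ∈ Q, ∀ m ∈ Q, m⁻¹ * (q * m * q⁻¹) ∈ W
  qf : ∀ q ∈ Q, q⁻¹ * (f * q * f⁻¹) ∈ F
  q4 : ∀ q ∈ Q, q * q ∈ W ⊔ zpowers c
  kk : ∀ q ∈ Q, q * q ∈ W → q ∈ F ⊔ zpowers c
  cq : c ∈ 𝐂(F) → Q ≤ 𝐂[c]
  nz : ∀ z ∈ Q, z ∈ center G → z * z = 1 → z = 1

namespace C2

variable {W F : Subgroup G} [hW : W.Normal] {c : G} (H : C2 Q f W F c)
include H

theorem ww {n : G} (hn : n ∈ W) : n * n = 1 := (pow_two n).symm.trans (H.We.2 n hn)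

theorem c1 (h : c ∈ F) : c = 1 := H.Wf.le (mem_inf.2 ⟨H.Ff c h (by rw [← H.cf]; simp),
  mem_centralizer_singleton_iff.2 H.cf⟩)

theorem cn : c ∈ 𝐍(F) := mem_normalizer_fintype fun m hm => by
  simpa using mul_mem hm (H.WF (H.qq c H.cQ m (H.FQ hm)))

theorem exK {m : G} (hm : m ∈ F ⊔ zpowers c) : m ∈ F ∨ ∃ y ∈ F, m = y * c := mem_sup_two H.cn (H.cc ▸ one_mem F) hm

theorem exN {m : G} (hm : m ∈ W ⊔ zpowers c) : m ∈ W ∨ ∃ y ∈ W, m = y * c :=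
  mem_sup_two (le_normalizer_of_normal (mem_top c)) (H.cc ▸ one_mem W) hm

theorem KQ : F ⊔ zpowers c ≤ Q := sup_le H.FQ (zpowers_le.2 H.cQ)

theorem sqc (y : G) : y * c * (y * c) = y * y * (y⁻¹ * (c * y * c⁻¹)) := by
  rw [inv_eq_of_mul_eq_one_right H.cc]; group

theorem sqK {m : G} (hm : m ∈ F ⊔ zpowers c) : m * m ∈ W := by
  rcases H.exK hm with e | ⟨y, hy, rfl⟩
  · exact H.sq m e
  · exact H.sqc y ▸ mul_mem (H.sq y hy) (H.qq c H.cQ y (H.FQ hy))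

theorem Kn : (F ⊔ zpowers c).Normal := ⟨fun m hm k => H.kk _ (hQn.conj_mem m (H.KQ hm) k) (by
  simpa [mul_assoc] using hW.conj_mem _ (H.sqK hm) k)⟩

theorem tr {x y : G} (hx : x ∈ F) (hy : y ∈ F) (x1 : x ∉ W) (y1 : y ∉ W) : ∃ k ∈ zpowers f, ∃ n ∈ W, y = k * x * k⁻¹ * n :=
  trans7' (H.h.p2.to_le H.FQ) H.WF H.F8 H.h.f7 H.fn H.nc hx hy x1 y1

omit H in
theorem sqn {y n : G} (h1 : n * y = y * n) (h2 : n * n = 1) : y * n * (y * n) = y * y := by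
  rw [mul_assoc, ← mul_assoc n, h1, mul_assoc, h2, mul_one]

theorem s0 {m : G} (hm : m ∈ F) (h1 : m * m = 1) : m ∈ W := by_contra fun m1 => by
  have := H.h.sec.card_le (H := F) fun y hy => by
    by_cases y1 : y ∈ W
    · exact H.ww y1
    · obtain ⟨k, -, n, hn, rfl⟩ := H.tr hm hy m1 y1
      rw [sqn (H.WQ (hQn.conj_mem m (H.FQ hm) k) n hn) (H.ww hn), conj_mul, h1]
      simp
  rw [H.F8, H.W8] at this
  omega

theorem half {u : G} (hu : u ∉ Q) : Nat.card ↥(W ⊓ 𝐂[u]) ≤ 4 := by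
  have a1 : 𝐂(W) = Q := (H.h.simp _ inferInstance H.WQ).resolve_right fun e => by
    have := H.W8
    have a0 : W ⊓ 𝐂[f] = W := inf_eq_left.2 fun w hw => mem_centralizer_singleton_iff.2 (e.ge (mem_top f) w hw)
    rw [← a0, H.Wf, card_bot] at this
    omega
  obtain ⟨w, hw, e⟩ : ∃ w ∈ W, w * u ≠ u * w := by
    by_contra! e
    exact hu (a1.le e)
  have := card_half (inf_le_left : W ⊓ 𝐂[u] ≤ W) hw fun h => e (mem_centralizer_singleton_iff.1 h.2)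
  rw [H.W8] at this
  omega

theorem ab {K N : Subgroup G} [hK : K.Normal] [N.Normal] {u g : G} {r : G → A0} (t : Tr Q K N u g r) (h1 : N ≤ K) (h2 : K ≤ Q)
    (h3 : N ≤ 𝐂(K)) (h4 : ∀ n ∈ N, n * n = 1) (h5 : Nat.card K = 8 * Nat.card N) (h6 : ∀ m ∈ K, m * m ∈ W)
    (h7 : ∀ m ∈ K, m * m = 1 → m ∈ N) (h8 : ∃ x ∈ K, x⁻¹ * (f * x * f⁻¹) ∉ N) : IsMulCommutative K := by
  have tr : ∀ x ∈ K, ∀ y ∈ K, x ∉ N → y ∉ N → ∃ k ∈ zpowers f, ∃ n ∈ N, y = k * x * k⁻¹ * n := fun x hx y hy =>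
    trans7' (H.h.p2.to_le h2) h1 h5 H.h.f7 (le_normalizer_of_normal (mem_top f)) h8 hx hy
  have a1 : ∀ m ∈ K, r m 2 = 0 → m * m ∈ W ⊓ 𝐂[u] := fun m hm e => mem_inf.2 ⟨h6 m hm, mem_centralizer_singleton_iff.2 (by
    have b1 := (t.eq_iff hm (hK.conj_mem m hm u)).1 (by
      rw [t.ru m hm]; exact (by decide : ∀ a : A0, a 2 = 0 → a = U0 a) _ e)
    have b2 := sqn (h3 b1 m hm).symm (h4 _ b1)
    rw [mul_inv_cancel_left, conj_mul, mul_inv_eq_iff_eq_mul] at b2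
    exact b2.symm)⟩
  have a2 : ∀ m ∈ K, r m ≠ 0 → m * m ≠ 1 := fun m hm e e' => e ((t.ker m hm).2 (h7 m hm e'))
  have a3 : ∀ m ∈ K, ∀ m' ∈ K, r m ≠ 0 → r m' ≠ 0 → m * m = m' * m' → r m = r m' := fun m hm m' hm' e e' q => by
    obtain ⟨k, hk, n, hn, rfl⟩ := tr m hm m' hm' (mt (t.ker m hm).2 e) (mt (t.ker m' hm').2 e')
    rw [sqn (h3 hn _ (hK.conj_mem m hm k)).symm (h4 n hn), conj_mul, eq_mul_inv_iff_mul_eq] at q
    obtain rfl := zp_inf H.h.f7 (fun e2 => a2 m hm e (H.Wf.le (mem_inf.2 ⟨h6 m hm, mem_centralizer_singleton_iff.2 e2⟩)))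
      hk q.symm
    exact (t.eq_iff hm hm').2 (by simpa using hn)
  obtain ⟨p, hp, rp⟩ := t.surj e1
  obtain ⟨s, hs, rs⟩ := t.surj ![0, 1, 0]
  have rps : r (p * s) = ![1, 1, 0] := by rw [t.add p hp s hs, rp, rs]; decide
  have b1 := a1 p hp (by rw [rp]; rfl)
  have b2 := a1 s hs (by rw [rs]; rfl)
  have b3 := a1 _ (mul_mem hp hs) (by rw [rps]; rfl)
  have c1 := a2 p hp (by rw [rp]; decide)
  have c2 := a2 s hs (by rw [rs]; decide)
  have c3 := a2 _ (mul_mem hp hs) (by rw [rps]; decide)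
  have d1 := mt (a3 s hs p hp (by rw [rs]; decide) (by rw [rp]; decide)) (by rw [rp, rs]; decide)
  have d2 := mt (a3 _ (mul_mem hp hs) p hp (by rw [rps]; decide) (by rw [rp]; decide)) (by rw [rp, rps]; decide)
  have d3 := mt (a3 _ (mul_mem hp hs) s hs (by rw [rps]; decide) (by rw [rs]; decide)) (by rw [rs, rps]; decide)
  have n1 : s * s ∈ 𝐍(zpowers (p * p)) := centralizer_le_normalizer _ (cent_zpowers.ge (mem_centralizer_singleton_iff.2
    (H.WQ (h2 (mul_mem hp hp)) _ b2.1)))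
  have n2 : zpowers (p * p) ⊔ zpowers (s * s) = W ⊓ 𝐂[u] := eq_of_le_of_card_ge (sup_le (zpowers_le.2 b1) (zpowers_le.2 b2)) (by
    rw [PGrp.card_sup_zpowers_of_mem_normalizer (p := 2) n1 (fun e => (zp2 (H.ww b1.1) e).elim c2 d1)
      (by rw [pow_two, H.ww b2.1]; exact one_mem _), Nat.card_zpowers, orderOf_eq_prime (p := 2) (H.We.2 _ b1.1) c1]
    exact H.half t.uQ)
  have n3 : s * p = p * s := by
    rcases mem_sup_two n1 (by rw [H.ww b2.1]; exact one_mem _) (n2.ge b3) with e | ⟨x, hx, e⟩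
    · exact absurd (zp2 (H.ww b1.1) e) (not_or.2 ⟨c3, d2⟩)
    · rcases zp2 (H.ww b1.1) hx with rfl | rfl
      · exact absurd (e.trans (one_mul _)) d3
      · exact mul_right_cancel (mul_left_cancel (a := p) (by simpa only [mul_assoc] using e))
  have n4 : K ≤ 𝐂[p] := t.gen (fun n hn => mem_centralizer_singleton_iff.2 (h3 hn p hp).symm)
    (mem_inf.2 ⟨mem_centralizer_singleton_iff.2 rfl, hp⟩) (mem_inf.2 ⟨mem_centralizer_singleton_iff.2 n3, hs⟩)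
    (mem_inf.2 ⟨mem_centralizer_singleton_iff.2 (by
      have e1 := (t.eq_iff hp (hK.conj_mem p hp g)).1 (by rw [t.rg p hp, rp]; decide)
      have e2 := h3 e1 _ (hK.conj_mem s hs g)
      refine mul_right_cancel (b := p⁻¹ * (g * p * g⁻¹)) ?_
      rw [mul_assoc p, e2, mul_assoc _ p, mul_inv_cancel_left, ← mul_assoc p, mul_inv_cancel_left, conj_mul, conj_mul, n3]),
      hK.conj_mem s hs g⟩) rp rs (by rw [t.rg s hs, rs]; decide)
  refine PGrp.isMulCommutative_iff_forall.2 fun m hm y hy => ?_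
  by_cases m1 : m ∈ N
  · exact (h3 m1 y hy).symm
  · obtain ⟨k, -, n, hn, rfl⟩ := tr p hp m hm (mt (t.ker p hp).2 (by rw [rp]; decide)) m1
    have := mem_centralizer_singleton_iff.1 (n4 (hK.conj_mem y hy k⁻¹))
    calc _ = k * (p * (k⁻¹ * y * k⁻¹⁻¹)) * k⁻¹ * n := by rw [mul_assoc _ n, ← h3 hn y hy]; group
      _ = _ := by rw [← this]; group

theorem cards (c1 : c ≠ 1) : Nat.card ↥(W ⊔ zpowers c) = 16 ∧ Nat.card ↥(F ⊔ zpowers c) = 8 * Nat.card ↥(W ⊔ zpowers c) ∧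
    ∃ x ∈ F ⊔ zpowers c, x⁻¹ * (f * x * f⁻¹) ∉ W ⊔ zpowers c := by
  have n16 : Nat.card ↥(W ⊔ zpowers c) = 16 := by
    rw [PGrp.card_sup_zpowers (p := 2) (fun e => c1 (H.c1 (H.WF e))) (by rw [pow_two, H.cc]; exact one_mem W), H.W8]
  refine ⟨n16, ?_, ?_⟩
  · rw [PGrp.card_sup_zpowers_of_mem_normalizer (p := 2) H.cn (mt H.c1 c1) (by rw [pow_two, H.cc]; exact one_mem F), H.F8,
      H.W8, n16]
  · obtain ⟨x, hx, hn⟩ := H.nc
    refine ⟨x, mem_sup_left hx, fun e => ?_⟩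
    obtain ⟨y, hy, e⟩ := (H.exN e).resolve_left hn
    exact c1 (H.c1 ((mul_mem_cancel_left (H.WF hy)).1 (e ▸ H.qf x (H.FQ hx))))

theorem alpha (c1 : c ≠ 1) (cF : c ∈ 𝐂(F)) : False := by
  have hK := H.Kn
  obtain ⟨n16, k8, nc⟩ := H.cards c1
  have Ne := PGrp.isElementaryAbelian_sup_zpowers H.We (H.WQ H.cQ) ((pow_two c).trans H.cc)
  have nn : ∀ n ∈ W ⊔ zpowers c, n * n = 1 := fun n hn => (pow_two n).symm.trans (Ne.2 n hn)
  have QN : Q ≤ 𝐂(W ⊔ zpowers c) := le_centralizer_iff.1 (sup_le (le_centralizer_iff.1 H.WQ)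
    (le_centralizer_iff.1 (cent_zpowers (x := c) ▸ H.cq cF)))
  have NK : W ⊔ zpowers c ≤ F ⊔ zpowers c := sup_le_sup_right H.WF _
  have om : ∀ m ∈ F ⊔ zpowers c, m * m = 1 → m ∈ W ⊔ zpowers c := fun m hm e => by
    rcases H.exK hm with h | ⟨y, hy, rfl⟩
    · exact mem_sup_left (H.s0 h e)
    · rw [sqn (cF y hy).symm H.cc] at e
      exact mul_mem_sup (H.s0 hy e) (mem_zpowers c)
  have hN : (W ⊔ zpowers c).Normal := ⟨fun m hm k => om _ (hK.conj_mem m (NK hm) k) (by rw [conj_mul, nn m hm]; simp)⟩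
  have nf := (H.h.orb Ne QN (le_normalizer_of_normal (mem_top f)) H.W8 H.Wf c1 H.cf rfl
    fun e => c1 (H.nz c H.cQ e H.cc)).2
  obtain ⟨u, g, r, t⟩ := H.h.exists_tr _ _ NK k8 (fun x hx => mem_sup_left (H.sqK hx))
    (fun q hq x hx => mem_sup_left (H.qq q hq x (H.KQ hx))) nc
  have cm := PGrp.isMulCommutative_iff_forall.1 (H.ab t NK H.KQ (le_centralizer_iff.1 (H.KQ.trans QN)) nn k8
    (fun m hm => H.sqK hm) om nc)
  have xK : u * u ∈ F ⊔ zpowers c := H.kk _ t.u2 (by_contra fun e => nf _ (H.q4 _ t.u2) e u t.uQ t.u2 (by group))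
  obtain ⟨b, hb, rb⟩ : ∃ b ∈ F ⊔ zpowers c, r b + U0 (r b) + r (u * u) = 0 := by
    obtain ⟨b, hb, rb⟩ := t.surj ![0, 0, r (u * u) 0]
    exact ⟨b, hb, by rw [rb]; exact (by decide : ∀ a : A0, a 1 = 0 ∧ a 2 = 0 →
      ![0, 0, a 0] + U0 ![0, 0, a 0] + a = 0) _ (t.sq xK)⟩
  have u1 : b * u ∉ Q := fun e => t.uQ ((mul_mem_cancel_left (H.KQ hb)).1 e)
  have e1 : ∀ m ∈ F ⊔ zpowers c, m * u * (m * u) ∈ F ⊔ zpowers c ∧ r (m * u * (m * u)) = r m + U0 (r m) + r (u * u) :=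
    fun m hm => by
      have := hK.conj_mem m hm u
      rw [show m * u * (m * u) = m * (u * m * u⁻¹) * (u * u) by group, t.add _ (mul_mem hm this) _ xK, t.add _ hm _ this,
        t.ru m hm]
      exact ⟨mul_mem (mul_mem hm this) xK, rfl⟩
  have e2 : ∀ y ∈ W ⊔ zpowers c, b * u * y = y * (b * u) → y ∈ W ⊓ 𝐂[b * u] := fun y hy e =>
    mem_inf.2 ⟨by_contra fun e' => nf y hy e' _ u1 (H.KQ (e1 b hb).1) e, mem_centralizer_singleton_iff.2 e.symm⟩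
  have e3 : ∀ m ∈ t.pre P2, m * (b * u) * (m * (b * u)) ∈ W ⊓ 𝐂[b * u] := fun m hm => by
    obtain ⟨m1, m2⟩ := t.mem_pre.1 hm
    obtain ⟨f1, f2⟩ := e1 _ (mul_mem m1 hb)
    rw [mul_assoc m b u] at f1 f2
    refine e2 _ ((t.ker _ f1).1 ?_) (mul_left_cancel (a := m) ?_)
    · rw [f2, t.add m m1 b hb, ← rb]
      exact (by decide : ∀ a a' : A0, a 2 = 0 → ∀ x, a + a' + U0 (a + a') + x = a' + U0 a' + x) _ _ m2 _
    · rw [← mul_assoc m _ (b * u), cm m m1 _ f1]; group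
  obtain ⟨f1, f2, -⟩ := El.step (D := W ⊓ 𝐂[b * u]) (B := t.pre P2) ⟨fun m hm => t.mem_pre.2 ⟨NK (mem_sup_left hm.1), by
      rw [(t.ker m (NK (mem_sup_left hm.1))).2 (mem_sup_left hm.1)]; exact zero_mem _⟩,
    fun m hm => centralizer_le_normalizer _ fun y hy => H.WQ (H.KQ (t.mem_pre.1 hm).1) y hy.1, fun m hm => by
      obtain ⟨m1, m2⟩ := t.mem_pre.1 hm
      have g1 := hK.conj_mem m m1 u
      have g2 := (t.eq_iff m1 g1).1 (by rw [t.ru m m1]; exact (by decide : ∀ a : A0, a 2 = 0 → a = U0 a) _ m2)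
      have g3 := sqn (cm _ (NK g2) m m1) (nn _ g2)
      rw [mul_inv_cancel_left, conj_mul, mul_inv_eq_iff_eq_mul] at g3
      refine mem_inf.2 ⟨H.sqK m1, mem_centralizer_singleton_iff.2 ?_⟩
      rw [mul_assoc b, g3, ← mul_assoc, ← mul_assoc b, cm b hb _ (mul_mem m1 m1)]⟩
    (centralizer_le_normalizer _ fun y hy => mem_centralizer_singleton_iff.1 hy.2)
    (fun e => u1 (H.KQ (t.mem_pre.1 e).1)) e3
  have f3 := H.h.sec.el f1
  have f4 := H.half u1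
  rw [f2, t.card_pre NK, card_P2, n16] at f3
  omega

theorem fc {k : G} (hk : k ∈ zpowers f) : k * c = c * k := cent_zpowers.ge (mem_centralizer_singleton_iff.2 H.cf) k hk

theorem free (c1 : c ≠ 1) : ∀ m ∈ F, m⁻¹ * (c * m * c⁻¹) = 1 → m ∈ W := fun m hm e => by_contra fun m1 =>
  H.alpha c1 fun y hy => by
    by_cases y1 : y ∈ W
    · exact H.WQ H.cQ y y1
    · obtain ⟨k, hk, n, hn, rfl⟩ := H.tr hm hy m1 y1
      calc _ = k * (m * (k⁻¹ * c)) * n := by rw [mul_assoc _ n, H.WQ H.cQ n hn]; group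
        _ = k * (m * c) * k⁻¹ * n := by rw [H.fc (inv_mem hk)]; group
        _ = k * c * m * k⁻¹ * n := by rw [eq_mul_inv_iff_mul_eq.1 (inv_mul_eq_one.1 e)]; group
        _ = _ := by rw [H.fc hk]; group

theorem normalF : F.Normal := by
  have hK := H.Kn
  by_cases c1 : c = 1
  · rwa [c1, zpowers_one_eq_bot, sup_bot_eq] at hK
  have hs := QuotientGroup.mk'_surjective W
  by_cases hc : (c : G ⧸ W) ∈ center (G ⧸ W)
  swap
  · have := Normal.map hQn _ hs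
    have := Normal.map hK _ hs
    have b1 := ((H.h.quot W (H.WF.trans H.FQ) fun e => by
      obtain ⟨x, hx, hn⟩ := H.nc
      exact hn (e x (H.FQ hx))).orb (N := (F ⊔ zpowers c).map (QuotientGroup.mk' W)) (E := F.map (QuotientGroup.mk' W))
      (elem_of_sq (by rintro _ ⟨x, hx, rfl⟩; exact (QuotientGroup.eq_one_iff (x * x)).2 (H.sqK hx)))
      (by rintro _ ⟨q, hq, rfl⟩ _ ⟨x, hx, rfl⟩; exact mk_comm.2 (H.qq q hq x (H.KQ hx)))
      (le_normalizer_map _ (mem_map_of_mem _ H.fn)) (card_mk H.WF H.F8) (eq_bot_iff.2 (by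
        rintro _ ⟨⟨x, hx, rfl⟩, e⟩
        exact (QuotientGroup.eq_one_iff x).2 (H.Ff x hx (mk_comm.1 (mem_centralizer_singleton_iff.1 e)))))
      (fun e => c1 (H.c1 (H.WF ((QuotientGroup.eq_one_iff c).1 e)))) (congrArg (QuotientGroup.mk' W) H.cf)
      (by rw [Subgroup.map_sup, MonoidHom.map_zpowers]; rfl) hc).1
    rw [← comap_map_eq_self (f := QuotientGroup.mk' W) (H := F) (by rw [QuotientGroup.ker_mk']; exact H.WF)]
    infer_instance
  have : Fact (Nat.Prime 3) := ⟨Nat.prime_three⟩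
  have cz : ∀ k, c⁻¹ * (k * c * k⁻¹) ∈ W := fun k => mk_comm.1 (mem_center_iff.1 hc k).symm
  have hN : (W ⊔ zpowers c).Normal := ⟨fun m hm k => by
    rcases H.exN hm with e | ⟨y, hy, rfl⟩
    · exact mem_sup_left (hW.conj_mem m e k)
    · convert mul_mem (mul_mem_sup (hW.conj_mem y hy k) (mem_zpowers c)) (mem_sup_left (cz k)) using 1
      group⟩
  obtain ⟨n16, k8, nc⟩ := H.cards c1
  obtain ⟨u, g, r, t⟩ := H.h.exists_tr _ _ (sup_le_sup_right H.WF _) k8 (fun x hx => mem_sup_left (H.sqK hx))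
    (fun q hq x hx => mem_sup_left (H.qq q hq x (H.KQ hx))) nc
  obtain ⟨p, hp, rp⟩ : ∃ p ∈ F, r p = e1 := by
    obtain ⟨p, hp, rp⟩ := t.surj e1
    rcases H.exK hp with e | ⟨y, hy, rfl⟩
    · exact ⟨p, e, rp⟩
    · exact ⟨y, hy, ((t.eq_iff (mem_sup_left hy) hp).2 (by simpa using mem_sup_right (mem_zpowers c))).trans rp⟩
  have pK : p ∈ F ⊔ zpowers c := mem_sup_left hp
  have pW : p ∉ W := fun e => absurd (rp.symm.trans ((t.ker p pK).2 (mem_sup_left e))) (by decide)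
  have a1 : p⁻¹ * (g * g * p * (g * g)⁻¹) ∈ W := by
    have b1 := (t.eq_iff pK (hK.conj_mem p pK g)).1 (by rw [t.rg p pK, rp]; decide)
    rw [show p⁻¹ * (g * g * p * (g * g)⁻¹) = p⁻¹ * (g * p * g⁻¹) * (g * (p⁻¹ * (g * p * g⁻¹)) * g⁻¹) by group]
    rcases H.exN b1 with e | ⟨y, hy, e⟩
    · exact mul_mem e (hW.conj_mem _ e g)
    · rw [e]
      convert mul_mem (mul_mem (mul_mem hy (hW.conj_mem _ (hW.conj_mem y hy g) c)) (H.cc ▸ one_mem W : c * c ∈ W)) (cz g)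
        using 1
      group
  have a2 : orderOf (g * g) = 3 := by rw [← pow_two, Nat.Coprime.orderOf_pow (by rw [t.g3]; norm_num), t.g3]
  generalize g * g = k at a1 a2
  have a3 := card_modEq a2 (W := W) (le_normalizer_of_normal (mem_top k))
  have a4 := H.half (not_mem_of_odd H.h.p2 Nat.prime_three (by norm_num) a2)
  have a5 : p * p ≠ 1 := fun e => pW (H.s0 hp e)
  have a6 : zpowers (p * p) = W ⊓ 𝐂[k] := eq_of_le_of_card_ge (zpowers_le.2 (mem_inf.2 ⟨H.sq p hp,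
    mem_centralizer_singleton_iff.2 (by
      have := sqn (H.WQ (H.FQ hp) _ a1) (H.ww a1)
      rw [mul_inv_cancel_left, conj_mul, mul_inv_eq_iff_eq_mul] at this
      exact this.symm)⟩)) (by
    rw [Nat.card_zpowers, orderOf_eq_prime (p := 2) (H.We.2 _ (H.sq p hp)) a5]
    rw [H.W8, Nat.ModEq] at a3
    omega)
  have a7 := H.qq c H.cQ p (H.FQ hp)
  have a8 : p⁻¹ * (c * p * c⁻¹) ∈ 𝐂[k] := mem_centralizer_singleton_iff.2 (Eq.symm (mul_inv_eq_iff_eq_mul.1 (by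
    have b2 := cz k
    obtain ⟨w, hw⟩ : ∃ w, w = p⁻¹ * (k * p * k⁻¹) := ⟨_, rfl⟩
    obtain ⟨w', hw'⟩ : ∃ w, w = c⁻¹ * (k * c * k⁻¹) := ⟨_, rfl⟩
    rw [← hw] at a1
    rw [← hw'] at b2
    calc _ = w⁻¹ * p⁻¹ * c * (w' * (p * w)) * w'⁻¹ * c⁻¹ := by rw [hw, hw']; group
      _ = w⁻¹ * (p⁻¹ * c * p * (w * c⁻¹)) := by rw [H.WQ (mul_mem (H.FQ hp) (H.FQ (H.WF a1))) _ b2]; group
      _ = w⁻¹ * (p⁻¹ * (c * p * c⁻¹) * w) := by rw [H.WQ (inv_mem H.cQ) _ a1]; group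
      _ = _ := by rw [← H.WQ (H.FQ (H.WF a7)) _ a1]; group)))
  have a9 : p * c * (p * c) = 1 := by
    rw [H.sqc, (zp2 (H.ww (H.sq p hp)) (a6.ge (mem_inf.2 ⟨a7, a8⟩))).resolve_left fun e => pW (H.free c1 p hp e),
      H.ww (H.sq p hp)]
  have b1 : ∀ y ∈ F, y * c * (y * c) = 1 := fun y hy => by
    by_cases y1 : y ∈ W
    · rw [sqn (H.WQ H.cQ y y1).symm H.cc, H.ww y1]
    · obtain ⟨k, hk, n, hn, rfl⟩ := H.tr hp hy pW y1
      rw [show k * p * k⁻¹ * n * c = k * (p * c) * k⁻¹ * n by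
        rw [mul_assoc _ n, H.WQ H.cQ n hn, ← mul_assoc, mul_assoc _ k⁻¹, H.fc (inv_mem hk)]; group,
        sqn (H.WQ (hQn.conj_mem _ (mul_mem (H.FQ hp) H.cQ) k) n hn) (H.ww hn), conj_mul, a9]
      simp
  refine ⟨fun m hm k => (H.exK (hK.conj_mem m (mem_sup_left hm) k)).elim id fun ⟨y, hy, e⟩ =>
    H.WF (hW.conj_mem m (H.s0 hm ?_) k)⟩
  have := b1 y hy
  rwa [← e, conj_mul, conj_eq_one_iff] at this

theorem gamma : False := by
  have hF := H.normalF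
  obtain ⟨u, g, r, t⟩ := H.h.exists_tr F W H.WF H.F8 H.sq (fun q hq x hx => H.qq q hq x (H.FQ hx)) H.nc
  have hc := H.ab t H.WF H.FQ (le_centralizer_iff.1 (H.FQ.trans H.WQ)) (fun n hn => H.ww hn) H.F8 H.sq
    (fun m hm => H.s0 hm) H.nc
  have cm := PGrp.isMulCommutative_iff_forall.1 hc
  obtain ⟨p, hp, rp⟩ := t.surj e1
  have pW : p ∉ W := fun e => absurd (rp.symm.trans ((t.ker p hp).2 e)) (by decide)
  have db : ∀ m ∈ F, ∀ m' ∈ F, r m = r m' → m' * m' = m * m := fun m hm m' hm' e => by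
    have b1 := (t.eq_iff hm hm').1 e
    simpa using sqn (H.WQ (H.FQ hm) _ b1) (H.ww b1)
  have dP : ∀ m ∈ F, r m ∈ P1 → m * m = 1 ∨ m * m = p * p := fun m hm e =>
    ((by decide : ∀ a : A0, a 1 = 0 ∧ a 2 = 0 → a = 0 ∨ a = e1) _ e).imp (fun e => H.ww ((t.ker m hm).1 e))
      fun e => db p hp m hm (rp.trans e.symm)
  have sW : ∀ w ∈ W, ∃ m ∈ F, w = m * m := fun w hw => by
    by_cases w1 : w = 1
    · exact ⟨1, one_mem F, by rw [w1, mul_one]⟩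
    · obtain ⟨k, -, rfl⟩ := trans7 H.W8 H.h.f7 (le_normalizer_of_normal (mem_top f)) H.Wf (H.sq p hp) hw
        (fun e => pW (H.s0 hp e)) w1
      exact ⟨_, hF.conj_mem p hp k, conj_mul.symm⟩
  have xK : u * u ∈ F ⊔ zpowers c := H.kk _ t.u2 (by
    have := Normal.map hQn _ (QuotientGroup.mk'_surjective F)
    have b1 := H.h.top (C := (𝐂(Q.map (QuotientGroup.mk' F))).comap (QuotientGroup.mk' F))
      (by rintro q hq _ ⟨x, hx, rfl⟩; exact mk_comm.2 (H.WF (H.qq q hq x hx)))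
      (by rintro _ ⟨x, hx, rfl⟩; exact mk_comm.2 (H.qf x hx)) H.h.fQ
    have b2 : (u * u) ^ 6 ∈ F := (QuotientGroup.eq_one_iff _).1 (cent_six (u := (u : G ⧸ F)) (g := g)
      (congrArg (QuotientGroup.mk' F) t.prod) (b1.ge (mem_top g) _ (mem_map_of_mem _ t.u2)))
    have b3 := (PGrp.isElementaryAbelian_sup_zpowers H.We (H.WQ H.cQ) ((pow_two c).trans H.cc)).2 _ (H.q4 _ t.u2)
    rw [show 6 = 2 * 2 + 2 from rfl, pow_add, pow_mul, pow_two (u * u), b3, one_mul] at b2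
    rcases H.exN (H.q4 _ t.u2) with e | ⟨y, hy, e⟩
    · exact e
    · rwa [e, H.c1 ((mul_mem_cancel_left (H.WF hy)).1 (e ▸ b2)), mul_one])
  have xF : u * u ∈ F := by_contra fun hn => by
    obtain ⟨y, hy, e⟩ := (H.exK xK).resolve_left hn
    have c1 : c ≠ 1 := fun e' => hn (by rwa [e, e', mul_one])
    have b1 : ∀ m ∈ F, r m 2 = 0 → r m ≠ 0 → m⁻¹ * (c * m * c⁻¹) = p * p := fun m hm e1 e2 => by
      obtain ⟨n, hn, e3⟩ := sW _ ((t.eq_iff hm (hF.conj_mem m hm u)).1 (by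
        rw [t.ru m hm]; exact (by decide : ∀ a : A0, a 2 = 0 → a = U0 a) _ e1))
      have d1 := hF.conj_mem n hn u
      have d2 : m⁻¹ * (c * m * c⁻¹) = n * (u * n * u⁻¹) * (n * (u * n * u⁻¹)) := by
        calc _ = m⁻¹ * (y * (c * m * c⁻¹) * y⁻¹) := by rw [cm y hy _ (hF.conj_mem m hm c), mul_inv_cancel_right]
          _ = m⁻¹ * (u * m * u⁻¹) * (u * (m⁻¹ * (u * m * u⁻¹)) * u⁻¹) := by
            rw [show y * (c * m * c⁻¹) * y⁻¹ = y * c * m * (y * c)⁻¹ by group, ← e]; group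
          _ = n * (n * (u * n * u⁻¹)) * (u * n * u⁻¹) := by rw [e3]; group
          _ = n * (u * n * u⁻¹ * n) * (u * n * u⁻¹) := by rw [cm n hn _ d1]
          _ = _ := by group
      rw [d2]
      refine (dP _ (mul_mem hn d1) ?_).resolve_left fun e4 => e2 ((t.ker m hm).2 (H.free c1 m hm (d2.trans e4)))
      rw [t.add n hn _ d1, t.ru n hn]
      exact (by decide : ∀ a : A0, (a + U0 a) 1 = 0 ∧ (a + U0 a) 2 = 0) _
    obtain ⟨s, hs, rs⟩ := t.surj ![0, 1, 0]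
    have b2 := (t.ker _ (mul_mem hp hs)).2 (H.free c1 _ (mul_mem hp hs) (by
      calc _ = s⁻¹ * (p⁻¹ * (c * p * c⁻¹) * s) * (s⁻¹ * (c * s * c⁻¹)) := by group
        _ = 1 := by
          rw [b1 p hp (by rw [rp]; rfl) (by rw [rp]; decide), b1 s hs (by rw [rs]; rfl) (by rw [rs]; decide),
            cm _ (mul_mem hp hp) s hs, inv_mul_cancel_left, H.ww (H.sq p hp)]))
    rw [t.add p hp s hs, rp, rs] at b2
    exact absurd b2 (by decide)
  let _ : CommGroup F := { (inferInstance : Group F) with mul_comm := fun a b => Subtype.ext (cm a a.2 b b.2) }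
  let cnj : G → Additive F →+ Additive F := fun a => MonoidHom.toAdditive (MulAut.conjNormal a).toMonoidHom
  have ext : ∀ {m m' : Additive F}, (m.toMul : G) = m'.toMul → m = m' := fun e => Subtype.ext e
  have vF : g * u * g⁻¹ * (g * u * g⁻¹) ∈ F := t.vv ▸ hF.conj_mem _ xF g
  obtain ⟨s, hs⟩ := gam (cnj u) (cnj (g * u * g⁻¹)) (cnj (g * (g * u * g⁻¹) * g⁻¹)) (cnj g)
    (AddMonoidHom.mk' (fun m => r m.toMul) fun a b => t.add _ a.toMul.2 _ b.toMul.2)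
    (fun m => (t.ker _ m.toMul.2).trans ⟨fun e => ext (H.ww e), fun e => H.s0 m.toMul.2 (congrArg Subtype.val e)⟩)
    (fun m e => by
      obtain ⟨n, hn, e⟩ := sW _ ((t.ker _ m.toMul.2).1 e)
      exact ⟨.ofMul ⟨n, hn⟩, ext e⟩)
    (fun a => by
      obtain ⟨n, hn, e⟩ := t.surj a
      exact ⟨.ofMul ⟨n, hn⟩, e⟩)
    (fun m => t.ru _ m.toMul.2) (fun m => t.rg _ m.toMul.2)
    (fun m => ext (show u * (u * m.toMul * u⁻¹) * u⁻¹ = m.toMul by
      rw [show u * (u * m.toMul * u⁻¹) * u⁻¹ = u * u * m.toMul * (u * u)⁻¹ by group, cm _ xF _ m.toMul.2,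
        mul_inv_cancel_right]))
    (fun m => ext (show g * (u * m.toMul * u⁻¹) * g⁻¹ = g * u * g⁻¹ * (g * m.toMul * g⁻¹) * (g * u * g⁻¹)⁻¹ by group))
    (fun m => ext (show g * (g * u * g⁻¹ * m.toMul * (g * u * g⁻¹)⁻¹) * g⁻¹ =
      g * (g * u * g⁻¹) * g⁻¹ * (g * m.toMul * g⁻¹) * (g * (g * u * g⁻¹) * g⁻¹)⁻¹ by group))
    (fun m => ext (show g * (g * (g * m.toMul * g⁻¹) * g⁻¹) * g⁻¹ = m.toMul by
      rw [show g * (g * (g * m.toMul * g⁻¹) * g⁻¹) * g⁻¹ = g * g * g * m.toMul * (g * g * g)⁻¹ by group, t.ggg]; simp))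
    (fun m => ext (show u * (g * u * g⁻¹ * (g * (g * u * g⁻¹) * g⁻¹ * m.toMul * (g * (g * u * g⁻¹) * g⁻¹)⁻¹) *
        (g * u * g⁻¹)⁻¹) * u⁻¹ = m.toMul by
      calc _ = u * (g * u * g⁻¹) * (g * (g * u * g⁻¹) * g⁻¹) * m.toMul *
          (u * (g * u * g⁻¹) * (g * (g * u * g⁻¹) * g⁻¹))⁻¹ := by group
        _ = _ := by rw [t.prod]; simp))
    (p := .ofMul ⟨p, hp⟩) (x := .ofMul ⟨u * u, xF⟩) rp (ext (show u * (u * u) * u⁻¹ = u * u by group)) (t.sq xF)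
    (ext (show u * (g * (g * (u * u) * g⁻¹) * g⁻¹)⁻¹ * u⁻¹ * (g * (g * (u * u) * g⁻¹) * g⁻¹)⁻¹ =
      g * u * g⁻¹ * (u * (g * u * g⁻¹ * (u * u) * (g * u * g⁻¹)⁻¹ * (g * (u * u) * g⁻¹)) * u⁻¹) * (g * u * g⁻¹)⁻¹ *
        (g * u * g⁻¹ * (u * u) * (g * u * g⁻¹)⁻¹) * (g * (u * u) * g⁻¹) by
      have b1 := cm _ xF _ (inv_mem (hF.conj_mem _ (hF.conj_mem _ xF g) g))
      rw [← t.zz] at b1 ⊢
      rw [← t.vv]
      generalize g * u * g⁻¹ = v at b1 ⊢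
      calc _ = u⁻¹ * (u * u * (u * v * (u * v))) * u⁻¹ * (u * v * (u * v)) := by group
        _ = _ := by rw [b1]; group))
  obtain ⟨s, sF⟩ := s
  have pc : ∀ k, r (k * p * k⁻¹) = e1 → k ∈ 𝐍(zpowers (p * p)) := fun k e => centralizer_le_normalizer _
    (cent_zpowers.ge (mem_centralizer_singleton_iff.2 (mul_inv_eq_iff_eq_mul.1
      (conj_mul.symm.trans (db p hp _ (hF.conj_mem p hp k) (rp.trans e.symm))))))
  have pB : ∀ m ∈ F, m ∈ 𝐍(zpowers (p * p)) := fun m hm => centralizer_le_normalizer _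
    (cent_zpowers.ge (mem_centralizer_singleton_iff.2 (cm m hm _ (mul_mem hp hp))))
  have or : ∀ {y : G}, y = 1 ∨ y = p * p → y ∈ zpowers (p * p) := by
    rintro _ (rfl | rfl)
    exacts [one_mem _, mem_zpowers _]
  have b3 := H.h.sec.four (D := zpowers (p * p)) (B := t.pre P1) (u := s * u) ⟨zpowers_le.2 (t.mem_pre.2 ⟨mul_mem hp hp, by
      rw [(t.ker _ (mul_mem hp hp)).2 (H.sq p hp)]; exact zero_mem _⟩), fun m hm => pB m (t.mem_pre.1 hm).1,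
      fun m hm => or (dP m (t.mem_pre.1 hm).1 (t.mem_pre.1 hm).2)⟩ (fun m hm => H.FQ (t.mem_pre.1 hm).1)
    (mul_mem (pB s sF) (pc u (by rw [t.ru p hp, rp]; decide))) (pc g (by rw [t.rg p hp, rp]; decide)) (norm_pre t).2
    (fun e => t.uQ ((mul_mem_cancel_left (H.FQ sF)).1 e)) (by
      have d1 := hF.conj_mem s sF g
      have d2 := hF.conj_mem _ d1 g
      have d3 := hF.conj_mem _ d2 (g * u * g⁻¹)
      have d4 := mul_mem sF (hF.conj_mem _ d1 u)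
      rw [show s * u * (g * (s * u) * g⁻¹) * (g * (g * (s * u) * g⁻¹) * g⁻¹) = s * (u * (g * s * g⁻¹) * u⁻¹) *
        (u * (g * u * g⁻¹ * (g * (g * s * g⁻¹) * g⁻¹) * (g * u * g⁻¹)⁻¹) * u⁻¹) *
          (u * (g * u * g⁻¹) * (g * (g * u * g⁻¹) * g⁻¹)) by group, t.prod, mul_one]
      refine t.mem_pre.2 ⟨mul_mem d4 (hF.conj_mem _ d3 u), ?_⟩
      rw [t.add _ d4 _ (hF.conj_mem _ d3 u), t.add _ sF _ (hF.conj_mem _ d1 u), t.ru _ d1, t.ru _ d3, t.rv _ d2, t.rg _ d1,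
        t.rg _ sF]
      exact (by decide : ∀ a : A0, (a + U0 (G0 a) + U0 (V0 (G0 (G0 a)))) 1 = 0 ∧ (a + U0 (G0 a) + U0 (V0 (G0 (G0 a)))) 2 = 0) _)
    fun m hm => by
      obtain ⟨m1, m2⟩ := t.mem_pre.1 hm
      rw [show m * (s * u) * (m * (s * u)) = m * s * (u * (m * s) * u⁻¹) * (u * u) by group,
        cm _ (mul_mem m1 sF) _ (hF.conj_mem _ (mul_mem m1 sF) u)]
      exact or ((hs (.ofMul ⟨m, m1⟩) m2).imp (congrArg Subtype.val) (congrArg Subtype.val))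
  have b4 := Nat.le_of_dvd two_pos (orderOf_dvd_of_pow_eq_one (H.We.2 _ (H.sq p hp)))
  rw [t.card_pre H.WF, card_P1, H.W8, Nat.card_zpowers] at b3
  omega

end C2

theorem case2 (h : H7 Q f) {W : Subgroup G} [W.Normal] (WQ : W ≤ Q) (We : IsElementaryAbelian 2 W) (W8 : Nat.card W = 8)
    (QW : Q ≤ 𝐂(W)) (Wf : W ⊓ 𝐂[f] = ⊥) {E : Subgroup (G ⧸ W)} {a : G ⧸ W} (T : TT (Q.map (QuotientGroup.mk' W)) f E a)
    (a4 : a ^ 4 = 1) (nz : ∀ z ∈ Q, z ∈ center G → z * z = 1 → z = 1) : False := by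
  have := Normal.map hQn _ (QuotientGroup.mk'_surjective W)
  obtain ⟨a, ⟨aQ, af⟩, rfl⟩ := (Coprime.map_inf_centralizer (QuotientGroup.mk' W) (A := zpowers f) (K := Q)
    le_normalizer_of_normal (by
      rw [QuotientGroup.ker_mk', inf_eq_right.2 WQ, W8, Nat.card_zpowers, h.f7]; norm_num) (Or.inl inferInstance)).ge
    (mem_inf.2 ⟨T.mem, by
      rw [MonoidHom.map_zpowers, cent_zpowers]; exact mem_centralizer_singleton_iff.2 T.af⟩)
  replace af : zpowers a ≤ 𝐂[f] := zpowers_le.2 (cent_zpowers.le af)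
  obtain ⟨l1, l2⟩ := T.lift WQ
  obtain ⟨F, hF⟩ : ∃ K, K = E.comap (QuotientGroup.mk' W) := ⟨_, rfl⟩
  have k1 : ∀ y ∈ zpowers a, y ∈ W → y = 1 := fun y h1 h2 => Wf.le (mem_inf.2 ⟨h2, af h1⟩)
  have k2 : a ^ 4 = 1 := k1 _ (pow_mem (mem_zpowers a) 4) ((QuotientGroup.eq_one_iff _).1 a4)
  obtain ⟨c, c1, c2, c3, c4⟩ : ∃ c ∈ zpowers a, c * c = 1 ∧ a * a ∈ zpowers c ∧ ∀ k : ℤ, (a * a) ^ k = 1 → a ^ k ∈ zpowers c := by
    by_cases e : a * a = 1
    · exact ⟨a, mem_zpowers a, e, e ▸ one_mem _, fun k _ => zpow_mem (mem_zpowers a) k⟩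
    · refine ⟨a * a, mul_mem (mem_zpowers a) (mem_zpowers a), by rwa [← sq, ← sq, ← pow_mul], mem_zpowers _, fun k hk => ?_⟩
      rw [← orderOf_dvd_iff_zpow_eq_one, orderOf_eq_prime (p := 2) (by rwa [← sq, ← pow_mul]) e] at hk
      obtain ⟨j, rfl⟩ := hk
      rw [zpow_mul, Nat.cast_ofNat, zpow_two]
      exact zpow_mem (mem_zpowers _) j
  have k3 : ∀ q ∈ Q, ∃ y ∈ F, ∃ k : ℤ, q = y * a ^ k ∧ ((a * a) ^ k)⁻¹ * (q * q) ∈ W := fun q hq => by
    obtain ⟨e, he, k, e1, e2⟩ := T.ex (mem_map_of_mem _ hq)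
    refine ⟨q * (a ^ k)⁻¹, hF.ge ?_, k, by group, QuotientGroup.eq.1 e2.symm⟩
    rw [mem_comap, map_mul, map_inv, map_zpow, e1, mul_inv_cancel_right]
    exact he
  have k4 : a ∈ 𝐍(F) := hF ▸ le_normalizer_comap _ (centralizer_le_normalizer _ T.aE)
  have k5 : f ∈ 𝐍(F) := hF ▸ le_normalizer_comap _ T.fn
  rw [← hF] at l1 l2
  refine C2.gamma (Q := Q) (f := f) (W := W) (F := F) (c := c) ⟨h, We, W8, QW, Wf, hF ▸ QuotientGroup.le_comap_mk' _ _,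
    hF ▸ comap_le WQ T.le, by rw [hF, Core.card_comap_mk', T.c8], k5, l2, fun x hx e => (QuotientGroup.eq_one_iff x).1
      (T.fp.le (mem_inf.2 ⟨hF.le hx, mem_centralizer_singleton_iff.2 (mk_comm.2 e)⟩)),
    fun x hx => (QuotientGroup.eq_one_iff _).1 ((sq (x : G ⧸ W)).symm.trans (T.el.2 _ (hF.le hx))), zpowers_le.2 aQ c1,
    mem_centralizer_singleton_iff.1 (af c1), c2, fun q hq m hm => mk_comm.1 (PGrp.isMulCommutative_iff_forall.1 T.comm _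
      (mem_map_of_mem _ hm) _ (mem_map_of_mem _ hq)), fun q hq => ?_, fun q hq => ?_, fun q hq e => ?_, fun e => ?_, nz⟩
  · obtain ⟨y, hy, k, rfl, -⟩ := k3 q hq
    have := mem_centralizer_singleton_iff.1 (af (zpow_mem (mem_zpowers a) k))
    rw [show (y * a ^ k)⁻¹ * (f * (y * a ^ k) * f⁻¹) = (a ^ k)⁻¹ * (y⁻¹ * (f * y * f⁻¹)) * (f * a ^ k) * f⁻¹ by group, ← this]
    simpa [mul_assoc] using (mem_normalizer_iff.1 (inv_mem (zpow_mem k4 k)) _).1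
      (mul_mem (inv_mem hy) ((mem_normalizer_iff.1 k5 y).1 hy))
  · obtain ⟨y, hy, k, -, e⟩ := k3 q hq
    simpa using mul_mem (mem_sup_right (zpow_mem c3 k) : _ ∈ W ⊔ zpowers c) (mem_sup_left e)
  · obtain ⟨y, hy, k, rfl, e'⟩ := k3 q hq
    exact mul_mem_sup hy (c4 k (k1 _ (zpow_mem (mul_mem (mem_zpowers a) (mem_zpowers a)) k)
      (inv_mem_iff.1 ((mul_mem_cancel_right e).1 e'))))
  · rw [← l1]
    refine sup_le (fun y hy => mem_centralizer_singleton_iff.2 (e y hy)) (zpowers_le.2 (mem_centralizer_singleton_iff.2 ?_))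
    obtain ⟨k, rfl⟩ := c1
    exact (Commute.self_zpow a k).eq

theorem exists_tt (n : ℕ) : ∀ {G : Type u} [Group G] [Finite G] {Q : Subgroup G} [Q.Normal] {f : G},
    Nat.card G = n → H7 Q f → ∃ E a, TT Q f E a ∧ a ^ 4 = 1 := by
  induction n using Nat.strong_induction_on with
  | _ n ih =>
  intro G _ _ Q hQn f hn h
  by_cases hz : ∃ z ∈ Q, z ∈ center G ∧ z * z = 1 ∧ z ≠ 1
  · obtain ⟨z, zQ, zc, zz, z1⟩ := hz
    have := PGrp.normal_of_le_center (zpowers_le.2 zc)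
    have := Normal.map hQn _ (QuotientGroup.mk'_surjective (zpowers z))
    obtain ⟨E, a, T, a4⟩ := ih _ (hn ▸ Core.card_quotient_lt (mt zpowers_eq_bot.1 z1)) rfl (h.quot (zpowers z)
      (zpowers_le.2 zQ) fun e => h.nc fun y hy => comm_of_odd (q := 7) (by decide) (h.f7 ▸ pow_orderOf_eq_one f) (by
        rcases zp2 zz (e y hy) with e | e <;> rw [e]
        exacts [one_pow 4, by rw [show 4 = 2 * 2 from rfl, pow_mul, sq z, zz, one_pow]])
        (mem_center_iff.1 (zpowers_le.2 zc (e y hy)) f).symm)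
    exact case1 h zQ (orderOf_eq_prime ((sq z).trans zz) z1) (mem_center_iff.1 zc) T a4
  push Not at hz
  by_cases h0 : sqg Q = ⊥
  · have el := elem_of_sq fun x (hx : x ∈ Q) => h0.le (sq_mem_sqg hx)
    have fn : f ∈ 𝐍(Q) := le_normalizer_of_normal (mem_top f)
    rcases seven h.p2 (h.sec.card_le fun x hx => h0.le (sq_mem_sqg hx)) h.f7 fn h.nc with ⟨e1, e2⟩ | ⟨e1, e2⟩
    · exact ⟨Q, 1, ⟨fn, el, e1, e2, by simp, one_mem _, by simp⟩, one_pow 4⟩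
    · obtain ⟨E, c, b1, b2, b3, -, b5, b6, -⟩ := split16 el e1 h.f7 fn e2
      have b7 := b5.ge (mem_zpowers c)
      have b8 : E ≤ Q := b6 ▸ le_sup_left
      exact ⟨E, c, ⟨b1, elem_of_sq fun x hx => h0.le (sq_mem_sqg (b8 hx)), b2, b3, mem_centralizer_singleton_iff.1 b7.2,
        fun y hy => PGrp.isMulCommutative_iff_forall.1 el.1 y (b8 hy) c b7.1, b6⟩,
        by rw [show 4 = 2 * 2 from rfl, pow_mul, el.2 c b7.1, one_pow]⟩
  exfalso
  obtain ⟨W, hW, w0, w1, w2, w3, w5, w4⟩ := exists_min h.p2 (sqg_le Q) h0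
  have WQ := w1.trans (sqg_le Q)
  have := Normal.map hQn _ (QuotientGroup.mk'_surjective W)
  have fn : f ∈ 𝐍(W) := le_normalizer_of_normal (mem_top f)
  have hf : f ∉ 𝐂(W) := fun e => by
    have b1 := h.top w3 e h.fQ
    obtain ⟨⟨x, hx⟩, x1⟩ := ne_bot_iff_exists_ne_one.1 w0
    exact x1 (Subtype.ext (hz x (WQ hx) (mem_center_iff.2 fun y => (b1.ge (mem_top y) x hx).symm)
      ((sq x).symm.trans (w2.2 x hx))))
  rcases seven (h.p2.to_le WQ) (h.sec.card_le fun x hx => (sq x).symm.trans (w2.2 x hx)) h.f7 fn hf with ⟨e1, e2⟩ | ⟨e1, e2⟩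
  · obtain ⟨E, a, T, a4⟩ := ih _ (hn ▸ Core.card_quotient_lt w0) rfl (h.quot W WQ fun e => h.nc (cent_of_comm_le h.p2
      (le_normalizer_of_normal (mem_top f)) (by rw [h.f7]; decide) fun y hy => w1 (e y hy)))
    exact case2 h WQ w2 e1 w3 e2 T a4 hz
  · obtain ⟨E, c, b1, b2, b3, b4, b5, b6, -⟩ := split16 w2 e1 h.f7 fn e2
    have b7 := b5.ge (mem_zpowers c)
    rcases w5 E (h.orb w2 w3 b1 b2 b3 b4 (mem_centralizer_singleton_iff.1 b7.2) b6 fun e => b4 (hz c (WQ b7.1) e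
      ((sq c).symm.trans (w2.2 c b7.1)))).1 (b6 ▸ le_sup_left) with e | e
    · rw [e, card_bot] at b2; omega
    · rw [e] at b2; omega

theorem main {X : Type u} [Group X] [Finite X] (hc : IsPConstrained 2 X) (hO : oddCore X = ⊥) (h4 : SectionalPRankLE 2 4 X)
    {F : Type*} [Field F] [Fintype F] (hF : Fintype.card F = 2)
    (hQ : Nonempty (X ⧸ pCore 2 X ≃* Matrix.ProjectiveSpecialLinearGroup (Fin 3) F)) :
    (IsElementaryAbelian 2 (pCore 2 X) ∧ (Nat.card (pCore 2 X) = 8 ∨ Nat.card (pCore 2 X) = 16)) ∨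
      Nonempty (pCore 2 X ≃* Multiplicative (ZMod 4) × (Fin 3 → Multiplicative (ZMod 2))) := by
  obtain ⟨e⟩ := hQ
  have a1 := (Core.isPConstrained_iff_of_pPrimeCore_eq_bot hO).1 hc
  have a2 : (pCore 2 X).index = 168 := by
    have h1 := Linear.gcd_mul_card_PSL (ι := Fin 3) (F := F)
    have h2 := Linear.card_SL_fin (F := F) 2
    rw [Nat.card_eq_fintype_card (α := F), hF] at h1 h2
    simp only [Fin.prod_univ_succ, Fintype.card_fin] at h1 h2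
    norm_num at h1 h2
    exact (Nat.card_congr e.toEquiv).trans (h1.trans h2)
  have := Linear.psl_fin_isSimpleGroup (F := F) (n := 3) (by norm_num) (by norm_num)
  have := e.isSimpleGroup
  have : Fact (Nat.Prime 7) := ⟨Nat.prime_seven⟩
  obtain ⟨f, hf⟩ := exists_prime_orderOf_dvd_card' (G := X) 7 (((by norm_num : 7 ∣ 168).trans a2.symm.dvd).trans
    (index_dvd_card _))
  obtain ⟨E, a, T, a4⟩ := exists_tt _ rfl (⟨isPGroup_pCore 2 X, fun C hC h => by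
    rw [← comap_map_eq_self (f := QuotientGroup.mk' (pCore 2 X)) (H := C) (by rwa [QuotientGroup.ker_mk'])]
    rcases (hC.map _ (QuotientGroup.mk'_surjective (pCore 2 X))).eq_bot_or_eq_top with e | e <;> rw [e]
    exacts [Or.inl (QuotientGroup.ker_mk' (pCore 2 X)), Or.inr (comap_top _)], a2, hf,
    fun e => not_mem_of_odd (isPGroup_pCore 2 X) Nat.prime_seven (by norm_num) hf (a1 e), sec_of h4⟩ : H7 (pCore 2 X) f)
  have b1 : zpowers a ⊓ E = ⊥ := eq_bot_iff.2 fun x hx => T.fp.le (mem_inf.2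
    ⟨hx.2, zpowers_le.2 (mem_centralizer_singleton_iff.2 T.af) hx.1⟩)
  by_cases aa : a ^ 2 = 1
  · refine Or.inl ⟨T.sup ▸ PGrp.isElementaryAbelian_sup_zpowers T.el T.aE aa, ?_⟩
    rw [← T.sup, sup_comm, Core.card_sup_of_disjoint (zpowers_le.2 (centralizer_le_normalizer _ T.aE)) b1, T.c8,
      Nat.card_zpowers]
    rcases (Nat.dvd_prime Nat.prime_two).1 (orderOf_dvd_of_pow_eq_one aa) with e | e <;> simp [e]
  · obtain ⟨e1⟩ := Fus.nonempty_equiv_prod (A := (zpowers a).subgroupOf (pCore 2 X)) (B := E.subgroupOf (pCore 2 X))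
      (fun x _ y _ => T.comm.is_comm.comm x y) (eq_bot_iff.2 fun x hx => Subtype.ext (b1.le (mem_inf.2 hx)))
      (by rw [← subgroupOf_sup (zpowers_le.2 T.mem) T.le, sup_comm, T.sup, subgroupOf_self])
    obtain ⟨e2⟩ := e8 (V := E) (fun x => Subtype.ext (T.el.2 x x.2)) T.c8
    exact Or.inr ⟨e1.trans (MulEquiv.prodCongr ((subgroupOfEquivOfLe (zpowers_le.2 T.mem)).trans
      (mulEquivOfCyclicCardEq (by
        rw [Nat.card_zpowers, orderOf_eq_prime_pow (p := 2) (n := 1) aa a4]; simp)))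
      ((subgroupOfEquivOfLe T.le).trans (e2.trans (MulEquiv.piMultiplicative _))))⟩

end

/-- Let X be a finite nonsolvable 2-constrained group with no nontrivial normal subgroup of odd order and of sectional 2-rank at most 4, and suppose X/O₂(X) is isomorphic to the projective special linear group of dimension 3 over the field with 2 elements. Then O₂(X) is elementary abelian of order 8 or 16, or is isomorphic to the direct product of a cyclic group of order 4 and an elementary abelian group of order 8. -/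
theorem result {X : Type*} [Group X] [Finite X] (hns : ¬ Group.IsSolvable X) (hc : Cfsg.IsPConstrained 2 X) (hO : Cfsg.oddCore X = ⊥)
    (h4 : Cfsg.SectionalPRankLE 2 4 X) {F : Type*} [Field F] [Fintype F] (hF : Fintype.card F = 2)
    (hQ : Nonempty (X ⧸ Cfsg.pCore 2 X ≃* Matrix.ProjectiveSpecialLinearGroup (Fin 3) F)) :
    (Cfsg.IsElementaryAbelian 2 (Cfsg.pCore 2 X) ∧ (Nat.card ↥(Cfsg.pCore 2 X) = 8 ∨ Nat.card ↥(Cfsg.pCore 2 X) = 16)) ∨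
      Nonempty (↥(Cfsg.pCore 2 X) ≃* Multiplicative (ZMod 4) × (Fin 3 → Multiplicative (ZMod 2))) := by
  exact main hc hO h4 hF hQ

end Cfsg.Agent.S3105
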