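import Cfsg.Statements.S3106
import Cfsg.Agent.Lib.SR4.A
import Cfsg.Agent.Lib.Known2.ES
import Cfsg.Agent.Lib.Fus.SmallE
import Cfsg.Agent.Lib.Invol.Basic
import Cfsg.Agent.Lib.PGrp.OmegaBasic
import Cfsg.Agent.Lib.Core.UpperP

set_option autoImplicit false
open Cfsg

namespace Cfsg.Agent.S3106

section
set_option linter.unusedSectionVars false
open Subgroup Cfsg.Lib Cfsg.Lib.Core Cfsg.Lib.Amalg Cfsg.Lib.BG1 Cfsg.Lib.BS Cfsg.Lib.SR4
open scoped commutatorElement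

universe u

structure H5 {G : Type*} [Group G] (Q : Subgroup G) (f t g : G) : Prop where
  p2 : IsPGroup 2 Q
  simp : ∀ C : Subgroup G, C.Normal → Q ≤ C → C = Q ∨ C = ⊤
  f5 : orderOf f = 5
  g3 : orderOf g = 3
  t2 : t * t ∈ Q
  s2 : t * f * (t * f) ∈ Q
  nc : f ∉ 𝐂(Q)
  sec : Sec G

variable {G : Type u} [Group G] [Finite G] {Q : Subgroup G} [hQn : Q.Normal] {f t g : G}

theorem H5.fQ (h : H5 Q f t g) : f ∉ Q := not_mem_of_odd h.p2 Nat.prime_five (by norm_num) h.f5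
theorem H5.gQ (h : H5 Q f t g) : g ∉ Q := not_mem_of_odd h.p2 Nat.prime_three (by norm_num) h.g3

theorem H5.tQ (h : H5 Q f t g) : t ∉ Q := fun e => by
  have a1 : f * f ∈ Q := by
    have := mul_mem (inv_mem (mul_mem e (hQn.conj_mem t e f))) h.s2
    convert this using 1
    group
  refine h.fQ ?_
  have a2 : f = (f * f) ^ 3 := by
    rw [← sq, ← pow_mul, show 2 * 3 = 5 + 1 from rfl, pow_succ, ← h.f5, pow_orderOf_eq_one, one_mul]
  exact a2 ▸ pow_mem a1 3

theorem H5.top (h : H5 Q f t g) {C : Subgroup G} [C.Normal] (h1 : Q ≤ C) {x : G} (hx : x ∈ C) (hx' : x ∉ Q) : C = ⊤ :=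
  (h.simp C inferInstance h1).resolve_left fun e => hx' (e ▸ hx)

theorem H5.quot (h : H5 Q f t g) (W : Subgroup G) [W.Normal] (hW : W ≤ sqg Q) :
    H5 (Q.map (QuotientGroup.mk' W)) (f : G ⧸ W) t g := by
  have hWQ : W ≤ Q := hW.trans (sqg_le Q)
  have hs := QuotientGroup.mk'_surjective W
  refine ⟨h.p2.map _, fun C hC h1 => ?_, orderOf_mk (h.p2.to_le hWQ) Nat.prime_five (by norm_num) h.f5,
    orderOf_mk (h.p2.to_le hWQ) Nat.prime_three (by norm_num) h.g3, mem_map_of_mem (QuotientGroup.mk' W) h.t2,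
    mem_map_of_mem (QuotientGroup.mk' W) h.s2, fun e => h.nc (cent_of_comm_le h.p2 (le_normalizer_of_normal (mem_top f))
      (by rw [h.f5]; decide) fun y hy => hW ((QuotientGroup.eq_one_iff _).1 ?_)), h.sec.quot W⟩
  · rw [← map_comap_eq_self_of_surjective hs C]
    rcases h.simp (C.comap (QuotientGroup.mk' W)) inferInstance (map_le_iff_le_comap.1 h1) with e | e
    · exact Or.inl (by rw [e])
    · exact Or.inr (by rw [e, map_top_of_surjective _ hs])
  · have := e _ (mem_map_of_mem (QuotientGroup.mk' W) hy)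
    simp only [QuotientGroup.mk'_apply] at this
    simp only [QuotientGroup.mk_mul, QuotientGroup.mk_inv, ← this]
    group

theorem card_map {W U : Subgroup G} [W.Normal] (h : W ≤ U) :
    Nat.card (U.map (QuotientGroup.mk' W)) * Nat.card W = Nat.card U := by
  have := Core.card_map_mk'_mul W U
  rwa [inf_eq_left.2 h] at this

theorem elem_top : IsElementaryAbelian 2 (Q.map (QuotientGroup.mk' (sqg Q))) := by
  have a1 : ∀ x ∈ Q.map (QuotientGroup.mk' (sqg Q)), x ^ 2 = 1 := by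
    rintro _ ⟨x, hx, rfl⟩
    rw [← map_pow, sq]
    exact (QuotientGroup.eq_one_iff _).2 (sq_mem_sqg hx)
  exact ⟨⟨⟨Commute.of_orderOf_dvd_two fun a => orderOf_dvd_of_pow_eq_one (Subtype.ext (a1 a a.2))⟩⟩, a1⟩

theorem H5.five_top (h : H5 Q f t g) : Nat.card (Q.map (QuotientGroup.mk' (sqg Q))) = 16 ∧
    Q.map (QuotientGroup.mk' (sqg Q)) ⊓ 𝐂[(f : G ⧸ sqg Q)] = ⊥ :=
  have h' := h.quot (sqg Q) le_rfl
  have := Normal.map hQn _ (QuotientGroup.mk'_surjective (sqg Q))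
  five h'.p2 (h'.sec.card_le fun x hx => by simpa [sq] using elem_top.2 x hx) h'.f5
    (le_normalizer_of_normal (mem_top _)) h'.nc

theorem H5.card_eq (h : H5 Q f t g) : Nat.card Q = 16 * Nat.card (sqg Q) := by
  rw [← card_map (sqg_le Q), h.five_top.1]

theorem H5.cent_le (h : H5 Q f t g) : Q ⊓ 𝐂[f] ≤ sqg Q := fun x hx => (QuotientGroup.eq_one_iff x).1 (h.five_top.2.le
  (mem_inf.2 ⟨mem_map_of_mem _ hx.1, mem_centralizer_singleton_iff.2
    (congrArg (QuotientGroup.mk' (sqg Q)) (mem_centralizer_singleton_iff.1 hx.2))⟩))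

theorem H5.cop (h : H5 Q f t g) : (Nat.card (zpowers f)).Coprime (Nat.card Q) := by
  obtain ⟨k, hk⟩ := h.p2.exists_card_eq
  rw [Nat.card_zpowers, h.f5, hk]
  exact Nat.Coprime.pow_right k (by norm_num)

theorem H5.comm_eq (h : H5 Q f t g) : ⁅Q, zpowers f⁆ = Q :=
  eq_of_sup_sqg h.p2 (commutator_le_left _ _) ((coprime_cent_prod le_normalizer_of_normal h.cop
    (Or.inl inferInstance)).ge.trans (sup_le_sup_left (cent_zpowers (x := f) ▸ h.cent_le) _))

theorem H5.cent_top (h : H5 Q f t g) {W : Subgroup G} [W.Normal] (hW : W ≤ Q) (h16 : Nat.card W < 16) : 𝐂(W) = ⊤ := by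
  have a1 : f ∈ 𝐂(W) := by_contra fun e =>
    h16.ne (five (h.p2.to_le hW) h16.le h.f5 (le_normalizer_of_normal (mem_top _)) e).1
  exact h.top (h.comm_eq.ge.trans ((commutator_mono le_rfl (zpowers_le.2 a1)).trans (commutator_le_right _ _))) a1 h.fQ

theorem H5.g_nc (h : H5 Q f t g) : g ∉ 𝐂(Q) := fun e => by
  have a1 : Q ⊔ 𝐂(Q) = ⊤ := h.top le_sup_left (mem_sup_right e) h.gQ
  have a2 : zpowers f ≤ 𝐂(Q) := le_of_coprime_card_relIndex le_top le_normalizer_of_normal (h.cop.coprime_dvd_right (by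
    rw [← a1, relIndex_sup_right]; exact relIndex_dvd_card _ _))
  exact h.nc (a2 (mem_zpowers f))

theorem card_sq_sub {z : G} (hz : orderOf z = 2) {U : Subgroup G} (h1 : z ∈ U) (h2 : U ≤ zpowers z) :
    Nat.card {x : G // x ∈ U ∧ x ^ 2 = 1} = 2 := by
  refine (Nat.card_congr (Equiv.subtypeEquivRight fun x => ⟨fun h => h2 h.1, fun hx => ⟨zpowers_le.2 h1 hx, ?_⟩⟩)).trans
    ((Nat.card_zpowers z).trans hz)
  obtain ⟨k, rfl⟩ := hx
  exact (by rw [← zpow_natCast, ← zpow_mul, mul_comm, zpow_mul, zpow_natCast, ← hz, pow_orderOf_eq_one, one_zpow] : (z ^ k) ^ 2 = 1)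

theorem H5.xs (h : H5 Q f t g) (h2 : Nat.card (sqg Q) = 2) :
    IsExtraspecial 2 Q ∧ Nat.card {x : G // x ∈ Q ∧ x ^ 2 = 1} = 12 ∧ PRankLE 2 2 Q := by
  have : Fact (Nat.Prime 5) := ⟨Nat.prime_five⟩
  have h32 : Nat.card Q = 32 := by rw [h.card_eq, h2]
  obtain ⟨z, hz, ho⟩ := exists_mem_orderOf_eq_prime Nat.prime_two h2.symm.dvd
  have a1 : zpowers z = sqg Q := eq_of_le_of_card_ge (zpowers_le.2 hz) (by rw [Nat.card_zpowers, ho, h2])
  have a2 := h.cent_top (sqg_le Q) (by omega)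
  have a3 : ∀ x, x * z = z * x := fun x => ((a2.ge (mem_top x)) z hz).symm
  have a4 : ¬ IsMulCommutative Q := fun hc => by
    have := coprime_abelian_cent_TI le_normalizer_of_normal h.cop hc
    rw [h.comm_eq] at this
    have b1 : z = 1 := this.le (mem_inf.2 ⟨sqg_le Q hz, fun y _ => a3 y⟩)
    rw [b1, orderOf_one] at ho
    omega
  have a5 : Q ⊓ 𝐂(Q) = zpowers z := by
    have b1 : zpowers z ≤ Q ⊓ 𝐂(Q) := zpowers_le.2 (mem_inf.2 ⟨sqg_le Q hz, fun y _ => a3 y⟩)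
    have b2 : (Q ⊓ 𝐂(Q)) ⊓ 𝐂[f] = zpowers z := le_antisymm ((inf_le_inf_right _ inf_le_left).trans (h.cent_le.trans a1.ge))
      (le_inf b1 (zpowers_le.2 (mem_centralizer_singleton_iff.2 (a3 f).symm)))
    have b3 := card_modEq h.f5 (W := Q ⊓ 𝐂(Q)) (le_normalizer_of_normal (mem_top f))
    rw [b2, Nat.card_zpowers, ho] at b3
    obtain ⟨k, k1, k2⟩ := (Nat.dvd_prime_pow Nat.prime_two (m := 5)).1 (h32 ▸ card_dvd_of_le (inf_le_left : Q ⊓ 𝐂(Q) ≤ Q))
    have b4 : k ≠ 5 := fun e => a4 (isMulCommutative_iff_le_cent.2 (inf_eq_left.1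
      (eq_of_le_of_card_ge inf_le_left (by rw [k2, e, h32]; norm_num))))
    rw [k2] at b3
    obtain rfl : k = 1 := by interval_cases k <;> first | rfl | exact absurd rfl b4 | exact absurd b3 (by decide)
    exact (eq_of_le_of_card_ge b1 (by rw [k2, Nat.card_zpowers, ho]; norm_num)).symm
  have hE : IsExtraspecial 2 Q := PGrp.isExtraspecial_of_le_zpowers ho (sqg_le Q hz) a5
    (fun x hx y hy => a1 ▸ comm_mem_sqg hx hy) (fun x hx => a1 ▸ sq x ▸ sq_mem_sqg hx) fun e => by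
      rw [e, Nat.card_zpowers, ho] at h32; omega
  have a6 := cnt h.f5 (Q := Q) (le_normalizer_of_normal (mem_top f))
  rw [card_sq_sub ho (mem_inf.2 ⟨sqg_le Q hz, mem_centralizer_singleton_iff.2 (a3 f).symm⟩) (h.cent_le.trans a1.ge)] at a6
  have a7 : Nat.card {x : G // x ∈ Q ∧ x ^ 2 = 1} = Nat.card {x : Q // x ^ 2 = 1} := Nat.card_congr
    { toFun := fun x => ⟨⟨x.1, x.2.1⟩, Subtype.ext x.2.2⟩
      invFun := fun x => ⟨x.1.1, x.1.2, congrArg Subtype.val x.2⟩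
      left_inv := fun _ => rfl
      right_inv := fun _ => rfl }
  obtain ⟨V, _, _, _, M, m, hN, hm⟩ := PGrp.IsExtraspecial.exists_cExt hE
  have h0 := h32
  rw [M.card_eq_pow, hm, show 32 = 2 ^ 5 from rfl, Nat.pow_right_inj one_lt_two] at h0
  obtain rfl : m = 1 := by omega
  have a8 : ¬ M.quad.HasTS (1 + 1) := fun e => by
    rw [a7, M.card_sq_eq_one_plus hN hm e] at a6
    exact absurd a6 (by decide)
  exact ⟨hE, a7.trans (M.card_sq_eq_one_minus hN hm a8), not_not.1 (mt M.hasTS_iff.2 a8)⟩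

theorem H5.xs_g (h : H5 Q f t g) (h2 : Nat.card (sqg Q) = 2) : ¬ IsMulCommutative (Q ⊓ 𝐂[g] : Subgroup G) := fun hc => by
  have : Fact (Nat.Prime 3) := ⟨Nat.prime_three⟩
  have a1 := cnt h.g3 (Q := Q) (le_normalizer_of_normal (mem_top g))
  obtain ⟨k, hk⟩ := (h.p2.to_le ((PGrp.omegaOne_le 2 _).trans (inf_le_left : Q ⊓ 𝐂[g] ≤ Q))).exists_card_eq
  rw [(h.xs h2).2.1, Nat.card_congr (Equiv.subtypeEquivRight (q := (· ∈ omegaOne 2 (Q ⊓ 𝐂[g]))) fun x =>
    ⟨fun hx => PGrp.mem_omegaOne_of_pow hx.1 hx.2, fun hx => ⟨PGrp.omegaOne_le 2 _ hx,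
      PGrp.pow_eq_one_of_mem_omegaOne_of_comm hc x hx⟩⟩), hk] at a1
  have := Nat.prime_three.dvd_of_dvd_pow ((Nat.modEq_zero_iff_dvd.1 (a1.symm.trans (by decide))))
  omega

theorem H5.not_four (h : H5 Q f t g) (h4 : Nat.card (sqg Q) = 4) : False := by
  have : Fact (Nat.Prime 3) := ⟨Nat.prime_three⟩
  have a1 := h.cent_top (sqg_le Q) (by omega)
  have a2 : ∀ z ∈ sqg Q, ∀ x, z * x = x * z := fun z hz x => (a1.ge (mem_top x)) z hz
  have key : ∀ w ∈ sqg Q, orderOf w = 2 → ∃ a ∈ Q ⊓ 𝐂[g], ∃ b ∈ Q ⊓ 𝐂[g], ⁅a, b⁆ ∉ zpowers w := fun w hw ho => by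
    have : (zpowers w).Normal := PGrp.normal_of_le_center (zpowers_le.2 (mem_center_iff.2 fun y => (a2 w hw y).symm))
    have := Normal.map hQn _ (QuotientGroup.mk'_surjective (zpowers w))
    have b1 := (h.quot _ (zpowers_le.2 hw)).xs_g (by
      have := card_map (zpowers_le.2 hw)
      rw [sqg_map, Nat.card_zpowers, ho, h4] at this
      omega)
    have lift : ∀ x ∈ Q.map (QuotientGroup.mk' (zpowers w)) ⊓ 𝐂[(g : G ⧸ zpowers w)],
        ∃ a ∈ Q ⊓ 𝐂[g], (a : G ⧸ zpowers w) = x := by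
      rintro _ ⟨⟨a, ha, rfl⟩, h1⟩
      refine ⟨a, mem_inf.2 ⟨ha, mem_centralizer_singleton_iff.2 ?_⟩, rfl⟩
      have c1 : g * a * g⁻¹ * a⁻¹ ∈ zpowers w := (QuotientGroup.eq_one_iff _).1 (by
        have := mem_centralizer_singleton_iff.1 h1
        simp only [QuotientGroup.mk'_apply] at this
        simp only [QuotientGroup.mk_mul, QuotientGroup.mk_inv, ← this]
        group)
      have c2 := Coprime.EqC.conj_pow_eq (a := g) (x := a) (m := g * a * g⁻¹ * a⁻¹) (by group)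
        (a2 _ (zpowers_le.2 hw c1) g).symm 3
      rw [← h.g3, pow_orderOf_eq_one, h.g3] at c2
      have c3 : (g * a * g⁻¹ * a⁻¹) ^ 3 = 1 := by simpa using c2.symm
      have c4 := Nat.eq_one_of_dvd_coprimes (show Nat.Coprime 2 3 by norm_num)
        (ho ▸ orderOf_dvd_of_mem_zpowers c1) (orderOf_dvd_of_pow_eq_one c3)
      rw [orderOf_eq_one_iff, mul_inv_eq_one, mul_inv_eq_iff_eq_mul] at c4
      exact c4.symm
    by_contra! hc
    refine b1 (PGrp.isMulCommutative_iff_forall.2 fun x hx y hy => ?_)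
    obtain ⟨a, ha, rfl⟩ := lift x hx
    obtain ⟨b, hb, rfl⟩ := lift y hy
    exact commutatorElement_eq_one_iff_mul_comm.1 ((map_commutatorElement (QuotientGroup.mk' (zpowers w)) a b).symm.trans
      ((QuotientGroup.eq_one_iff _).2 (hc a ha b hb)))
  obtain ⟨w, hw, ho⟩ := exists_mem_orderOf_eq_prime Nat.prime_two (show 2 ∣ Nat.card (sqg Q) by rw [h4]; norm_num)
  obtain ⟨a, ha, b, hb, hab⟩ := key w hw ho
  have b1 : ⁅a, b⁆ ≠ 1 := fun e => hab (e ▸ one_mem _)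
  have b2 : orderOf ⁅a, b⁆ = 2 := orderOf_eq_prime (by
    have c1 := a2 _ (comm_mem_sqg ha.1 hb.1) a
    have c2 := a2 _ (sq_mem_sqg ha.1) b
    calc ⁅a, b⁆ ^ 2 = (⁅a, b⁆ * a) * b * a⁻¹ * b⁻¹ := by rw [sq]; simp only [commutatorElement_def, mul_assoc]
      _ = (a * a * b) * a⁻¹ * a⁻¹ * b⁻¹ := by rw [c1, commutatorElement_def]; group
      _ = 1 := by rw [c2]; group) b1
  have b3 : Nat.card ↥(Q ⊓ 𝐂[g]) ≤ 16 := by
    obtain ⟨k, j, k1, k2, k3⟩ := pow_cases h.p2 h.g_nc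
    have c1 := card_modEq h.g3 (W := Q) (le_normalizer_of_normal (mem_top g))
    rw [h.card_eq, h4] at k2 c1
    obtain rfl : k = 6 := Nat.pow_right_injective le_rfl (k2.symm.trans (by norm_num))
    rw [k3] at c1 ⊢
    interval_cases j <;> first | omega | exact absurd c1 (by decide)
  have b4 : a ∉ sqg Q := fun e => b1 (commutatorElement_eq_one_iff_mul_comm.2 (a2 a e b))
  have b5 : a ∈ 𝐂(sqg Q) := a1.ge (mem_top a)
  have b6 : IsMulCommutative (sqg Q ⊔ zpowers a : Subgroup G) := PGrp.isMulCommutative_sup_zpowers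
    (PGrp.isMulCommutative_iff_forall.2 fun x hx y _ => a2 x hx y) b5
  have b7 : b ∉ sqg Q ⊔ zpowers a := fun e => b1 (commutatorElement_eq_one_iff_mul_comm.2
    (PGrp.isMulCommutative_iff_forall.1 b6 _ (mem_sup_right (mem_zpowers a)) _ e))
  have b8 : b ∈ 𝐍(sqg Q ⊔ zpowers a) := norm_of_sqg_le le_sup_left (sup_le (sqg_le Q) (zpowers_le.2 ha.1)) hb.1
  have b9 : (sqg Q ⊔ zpowers a) ⊔ zpowers b = Q ⊓ 𝐂[g] := eq_of_le_of_card_ge (sup_le (sup_le (le_inf (sqg_le Q)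
    fun x hx => mem_centralizer_singleton_iff.2 (a2 x hx g)) (zpowers_le.2 ha)) (zpowers_le.2 hb)) (by
      rw [PGrp.card_sup_zpowers_of_mem_normalizer (p := 2) b8 b7 (sq b ▸ mem_sup_left (sq_mem_sqg hb.1)),
        PGrp.card_sup_zpowers_of_mem_normalizer (p := 2) (centralizer_le_normalizer _ b5) b4 (sq a ▸ sq_mem_sqg ha.1), h4]
      exact b3)
  obtain ⟨c, hc, d, hd, hcd⟩ := key _ (comm_mem_sqg ha.1 hb.1) b2
  have : (zpowers ⁅a, b⁆).Normal := PGrp.normal_of_le_center (zpowers_le.2 (mem_center_iff.2 fun y =>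
    (a2 _ (comm_mem_sqg ha.1 hb.1) y).symm))
  have c1 : IsMulCommutative ((Q ⊓ 𝐂[g]).map (QuotientGroup.mk' (zpowers ⁅a, b⁆))) := by
    have := b6
    rw [← b9, Subgroup.map_sup, MonoidHom.map_zpowers]
    refine PGrp.isMulCommutative_sup_zpowers inferInstance (zpowers_le.1 (le_centralizer_iff.1 ?_))
    rw [cent_zpowers, map_le_iff_le_comap]
    refine sup_le (fun x hx => mem_centralizer_singleton_iff.2 (congrArg (QuotientGroup.mk' _) (a2 x hx b)))
      (zpowers_le.2 (mem_centralizer_singleton_iff.2 (commutatorElement_eq_one_iff_mul_comm.1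
        ((map_commutatorElement (QuotientGroup.mk' (zpowers ⁅a, b⁆)) a b).symm.trans
          ((QuotientGroup.eq_one_iff _).2 (mem_zpowers _))))))
  refine hcd ((QuotientGroup.eq_one_iff _).1 ((map_commutatorElement (QuotientGroup.mk' (zpowers ⁅a, b⁆)) c d).trans
    (commutatorElement_eq_one_iff_mul_comm.2 (PGrp.isMulCommutative_iff_forall.1 c1 _ (mem_map_of_mem _ hc) _
      (mem_map_of_mem _ hd)))))

theorem H5.free_top (h : H5 Q f t g) : Nat.card ↥(Q.map (QuotientGroup.mk' (sqg Q)) ⊓ 𝐂[(t : G ⧸ sqg Q)]) = 4 ∧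
    ∀ w ∈ Q.map (QuotientGroup.mk' (sqg Q)) ⊓ 𝐂[(t : G ⧸ sqg Q)], ∃ u ∈ Q.map (QuotientGroup.mk' (sqg Q)),
      u⁻¹ * (t * u * (t : G ⧸ sqg Q)⁻¹) = w :=
  have h' := h.quot (sqg Q) le_rfl
  have := Normal.map hQn _ (QuotientGroup.mk'_surjective (sqg Q))
  have c := isMulCommutative_iff_le_cent.1 (elem_top (Q := Q)).1
  free_inv elem_top h.five_top.1 (le_normalizer_of_normal (mem_top _)) (le_normalizer_of_normal (mem_top _))
    (c h'.t2) (c h'.s2) h.five_top.2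

theorem H5.adj (h : H5 Q f t g) : ∃ t', H5 Q f t' g ∧ t' * t' ∈ sqg Q := by
  obtain ⟨_, ⟨u, hu, rfl⟩, h1⟩ := h.free_top.2 _ (mem_inf.2 ⟨(h.quot (sqg Q) le_rfl).t2,
    mem_centralizer_singleton_iff.2 (mul_assoc _ _ _)⟩)
  have a1 : t * u * t⁻¹ ∈ Q := hQn.conj_mem u hu t
  refine ⟨t * u, ⟨h.p2, h.simp, h.f5, h.g3, ?_, ?_, h.nc, h.sec⟩, ?_⟩
  · convert mul_mem (mul_mem a1 h.t2) hu using 1
    group
  · convert mul_mem (mul_mem a1 (hQn.conj_mem _ a1 (t * f))) h.s2 using 1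
    group
  · have a2 : (u⁻¹ * (t * u * t⁻¹))⁻¹ * (t * t) ∈ sqg Q := QuotientGroup.eq.1 h1
    have a3 := (sqg_normal Q).conj_mem _ a2 (t * u * t⁻¹ * u⁻¹ * (t * u * t⁻¹))
    convert mul_mem a3 (mul_mem (comm_mem_sqg a1 (inv_mem hu)) ((sqg_normal Q).conj_mem _ (sq_mem_sqg a1) u⁻¹)) using 1
    rw [commutatorElement_def]
    group

theorem H5.not_16 (h : H5 Q f t g) (e : IsElementaryAbelian 2 (sqg Q)) (h16 : Nat.card (sqg Q) = 16)
    (hc : Q ≤ 𝐂(sqg Q)) (hf : sqg Q ⊓ 𝐂[f] = ⊥) : False := by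
  obtain ⟨t, h, ht⟩ := h.adj
  obtain ⟨B, hB⟩ : ∃ B, B = (Q.map (QuotientGroup.mk' (sqg Q)) ⊓ 𝐂[(t : G ⧸ sqg Q)]).comap (QuotientGroup.mk' (sqg Q)) :=
    ⟨_, rfl⟩
  have a1 : B ≤ Q := hB.le.trans ((comap_mono inf_le_left).trans (comap_map_eq_self (by
    rw [QuotientGroup.ker_mk']; exact sqg_le Q)).le)
  have a2 : ∀ y ∈ B, y⁻¹ * (t * y * t⁻¹) ∈ sqg Q := fun y hy => QuotientGroup.eq.1 (by
    have := mem_centralizer_singleton_iff.1 (hB.le hy).2
    simp only [QuotientGroup.mk'_apply] at this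
    simp only [QuotientGroup.mk_mul, QuotientGroup.mk_inv, ← this]
    group)
  have a3 : sqg Q ≤ B := (QuotientGroup.le_comap_mk' _ _).trans hB.ge
  have a4 : t ∈ 𝐍(B) := hB ▸ le_normalizer_comap _ (centralizer_le_normalizer _ fun y hy =>
    mem_centralizer_singleton_iff.1 hy.2)
  have a5 : Nat.card ↥(B ⊔ zpowers t) = 128 := by
    rw [PGrp.card_sup_zpowers_of_mem_normalizer (p := 2) a4 (fun e => h.tQ (a1 e)) (sq t ▸ a3 ht), hB,
      Core.card_comap_mk', h.free_top.1, h16]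
  have a6 := (free_inv e h16 (le_normalizer_of_normal (mem_top _)) (le_normalizer_of_normal (mem_top _))
    (hc h.t2) (hc h.s2) hf).1
  have a7 : sqg Q ⊓ 𝐂[t] ≤ B ⊔ zpowers t := inf_le_left.trans (a3.trans le_sup_left)
  have a8 := h.sec (B ⊔ zpowers t) (sqg Q ⊓ 𝐂[t]) a7 (sup_le (fun x hx => centralizer_le_normalizer _ fun y hy =>
    hc (a1 hx) y hy.1) (zpowers_le.2 (centralizer_le_normalizer _ fun y hy => mem_centralizer_singleton_iff.1 hy.2)))
    fun y hy => by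
      obtain ⟨a, ha, k, rfl⟩ := (PGrp.mem_sup_zpowers_of_mem_normalizer a4).1 hy
      obtain ⟨m, rfl | rfl⟩ := Int.even_or_odd' k
      · have b1 : a * t ^ (2 * m) ∈ B := mul_mem ha (by rw [zpow_mul, zpow_two]; exact zpow_mem (a3 ht) m)
        generalize a * t ^ (2 * m) = y at b1
        refine mem_inf.2 ⟨sq_mem_sqg (a1 b1), mem_centralizer_singleton_iff.2 ?_⟩
        have b2 := hc (a1 b1) _ (a2 y b1)
        have b3 := e.2 _ (a2 y b1)
        calc y * y * t = y * y * (y⁻¹ * (t * y * t⁻¹)) ^ 2 * t := by rw [b3, mul_one]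
          _ = y * (y * (y⁻¹ * (t * y * t⁻¹))) * (y⁻¹ * (t * y * t⁻¹)) * t := by rw [sq]; group
          _ = t * (y * y) := by rw [← b2]; group
      · have b1 : a * t ^ (2 * m) ∈ B := mul_mem ha (by rw [zpow_mul, zpow_two]; exact zpow_mem (a3 ht) m)
        rw [zpow_add_one, ← mul_assoc a]
        generalize a * t ^ (2 * m) = y at b1
        have b2 : y * t * (y * t) ∈ sqg Q := by
          convert mul_mem (mul_mem (sq_mem_sqg (a1 b1)) (a2 y b1)) ht using 1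
          group
        refine mem_inf.2 ⟨b2, mem_centralizer_singleton_iff.2 (mul_left_cancel (a := y) ?_)⟩
        rw [← mul_assoc, ← hc (a1 b1) _ b2]
        group
  have a9 := Core.card_mul_relIndex a7
  rw [a5, a6] at a9
  omega

theorem sqg_cases (n : ℕ) : ∀ {G : Type u} [Group G] [Finite G] {Q : Subgroup G} [Q.Normal] {f t g : G},
    Nat.card G = n → H5 Q f t g → sqg Q = ⊥ ∨ Nat.card (sqg Q) = 2 := by
  induction n using Nat.strong_induction_on with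
  | _ n ih =>
  intro G _ _ Q hQn f t g hn h
  have : Fact (Nat.Prime 5) := ⟨Nat.prime_five⟩
  refine or_iff_not_imp_left.2 fun h0 => ?_
  obtain ⟨W, hW, w0, w1, w2, w3, -, w4⟩ := exists_min h.p2 (sqg_le Q) h0
  have := Normal.map hQn _ (QuotientGroup.mk'_surjective W)
  have a1 := card_map w1
  have a2 : Nat.card (sqg Q) = Nat.card W ∨ Nat.card (sqg Q) = 2 * Nat.card W := by
    rcases ih _ (hn ▸ Core.card_quotient_lt w0) rfl (h.quot W w1) with e | e
    · rw [sqg_map, e, card_bot, one_mul] at a1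
      exact Or.inl a1.symm
    · rw [sqg_map, e] at a1
      exact Or.inr a1.symm
  by_cases hf : f ∈ 𝐂(W)
  · rw [w4 (h.top w3 hf h.fQ)] at a2
    exact a2.resolve_right h.not_four
  · obtain ⟨b1, b2⟩ := five (h.p2.to_le (w1.trans (sqg_le Q))) (h.sec.card_le fun x hx => sq x ▸ w2.2 x hx) h.f5
      (le_normalizer_of_normal (mem_top _)) hf
    exfalso
    rcases a2 with e | e
    · obtain rfl := eq_of_le_of_card_ge w1 e.le
      exact h.not_16 w2 b1 w3 b2
    · have c1 := card_modEq h.f5 (W := sqg Q) (le_normalizer_of_normal (mem_top _))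
      obtain ⟨c, hc, ho⟩ := exists_mem_orderOf_eq_prime Nat.prime_two (dvd_card_of_isPGroup_ne_bot
        (h.p2.to_le (inf_le_left.trans (sqg_le Q) : sqg Q ⊓ 𝐂[f] ≤ Q)) fun e' => by
          rw [e', card_bot, e, b1] at c1
          exact absurd c1 (by decide))
      have c2 : c ∈ 𝐂(W) := w3 (sqg_le Q hc.1)
      have c3 : c ^ 2 = 1 := ho ▸ pow_orderOf_eq_one c
      have c4 := h.sec.card_le (H := W ⊔ zpowers c) fun x hx => by
        obtain ⟨a, ha, k, rfl⟩ := (PGrp.mem_sup_zpowers_of_mem_normalizer (centralizer_le_normalizer _ c2)).1 hx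
        rw [← sq, Commute.mul_pow (zpow_mem c2 k a ha), w2.2 a ha, ← zpow_natCast, ← zpow_mul, mul_comm k, zpow_mul,
          zpow_natCast, c3, one_zpow, one_mul]
      rw [PGrp.card_sup_zpowers_of_mem_normalizer (p := 2) (centralizer_le_normalizer _ c2) (fun e' => by
        rw [(b2.le (mem_inf.2 ⟨e', hc.2⟩) : c = 1), orderOf_one] at ho; omega) (c3 ▸ one_mem _), b1] at c4
      omega

theorem es_pull {E : Type*} [Group E] (ι : E →* G) (hι : Function.Injective ι) (hr : ι.range = Q) {z : E}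
    (h : Known2.ES Q (ι z)) : Known2.ES ⊤ z := by
  have m : ∀ x, ι x ∈ Q := fun x => hr.le ⟨x, rfl⟩
  refine ⟨mem_top _, fun e => h.ne (by rw [e, map_one]), hι (by simpa using h.sq),
    fun x _ => hι (by simpa using h.cen _ (m x)), fun x _ hx => ?_, fun x _ y _ => ?_, fun x _ => ?_, ?_⟩
  · refine (h.of_cen _ (m x) fun y hy => ?_).imp (fun e => hι (by simpa using e)) fun e => hι e
    obtain ⟨y, rfl⟩ := hr.ge hy
    simpa using congrArg ι (hx y (mem_top y))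
  · exact (h.comm _ (m x) _ (m y)).imp (fun e => hι (by simpa using e)) fun e => hι (by simpa using e)
  · exact (h.sq_mem _ (m x)).imp (fun e => hι (by simpa using e)) fun e => hι (by simpa using e)
  · obtain ⟨x, hx, y, hy, e⟩ := h.nonab
    obtain ⟨x, rfl⟩ := hr.ge hx
    obtain ⟨y, rfl⟩ := hr.ge hy
    exact ⟨x, mem_top _, y, mem_top _, fun e' => e (by simpa using congrArg ι e')⟩

theorem cprod {E : Type*} [Group E] [Finite E] {z u : E} (h : Known2.ES ⊤ z) (h32 : Nat.card E = 32)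
    (hr : PRankLE 2 2 E) (u0 : u * u = 1) (u1 : u ≠ 1) (u2 : u ≠ z) : ∃ A B : Subgroup E,
      Nonempty (A ≃* QuaternionGroup 2) ∧ Nonempty (B ≃* DihedralGroup 4) ∧ (∀ a ∈ A, ∀ b ∈ B, a * b = b * a) ∧
        A ⊔ B = ⊤ ∧ A ⊓ B = center E := by
  have m : ∀ {x : E}, x ∈ (⊤ : Subgroup E) := mem_top _
  obtain ⟨r, r1, r2⟩ : ∃ r, r * r = z ∧ u * r ≠ r * u := by
    obtain ⟨v, -, hv⟩ := h.exists_anti m u1 u2
    rcases h.sq_mem v m with e | e
    · refine ⟨u * v, ?_, fun e' => hv (mul_left_cancel (e'.trans (mul_assoc _ _ _)))⟩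
      calc u * v * (u * v) = u * v * (v * u * z) := by rw [← h.anti m m hv]
        _ = u * (v * v) * u * z := by group
        _ = z := by rw [e, mul_one, u0, one_mul]
    · exact ⟨v, e, hv⟩
  have r3 : orderOf r = 4 := orderOf_eq_prime_pow (p := 2) (n := 1) (by rw [pow_one, sq, r1]; exact h.ne)
    (by rw [show 2 ^ (1 + 1) = 2 * 2 from rfl, pow_mul, sq r, r1, sq, h.sq])
  have r4 : u * r * u⁻¹ = r⁻¹ := by
    rw [h.conj_anti m m r2, eq_inv_iff_mul_eq_one, mul_assoc, ← h.cen r m, ← mul_assoc, r1, h.sq]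
  obtain ⟨eB⟩ := Invol.closure_mulEquiv_dihedral u0 r4 r3 fun ⟨k, e⟩ => r2 (e ▸ (Commute.zpow_self r k).eq)
  obtain ⟨B, hB⟩ : ∃ B, B = closure ({u, r} : Set E) := ⟨_, rfl⟩
  rw [← hB] at eB
  have uB : u ∈ B := hB ▸ subset_closure (by simp)
  have rB : r ∈ B := hB ▸ subset_closure (by simp)
  have mA : ∀ x, u * x = x * u → r * x = x * r → x ∈ 𝐂(B) := fun x h1 h2 => by
    rw [hB, centralizer_closure]
    rintro _ (rfl | rfl) <;> assumption
  have a1 : 𝐂(B) ⊔ B = ⊤ := eq_top_iff.2 fun x _ => by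
    have b1 : ∀ y ∈ B, x * y ∈ 𝐂(B) → x ∈ 𝐂(B) ⊔ B := fun y hy e => by
      simpa using mul_mem (mem_sup_left e : x * y ∈ 𝐂(B) ⊔ B) (mem_sup_right (inv_mem hy))
    have b2 : u * (u * r) ≠ u * r * u := fun e => r2 (mul_left_cancel (e.trans (mul_assoc _ _ _)))
    have b3 : r * (u * r) ≠ u * r * r := fun e => r2 (mul_right_cancel ((mul_assoc _ _ _).trans e)).symm
    by_cases c1 : u * x = x * u <;> by_cases c2 : r * x = x * r
    · exact mem_sup_left (mA x c1 c2)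
    · exact b1 u uB (mA _ ((h.mul_comm_iff m m m).2 (iff_of_true c1 rfl))
        ((h.mul_comm_iff m m m).2 (iff_of_false c2 r2.symm)))
    · exact b1 r rB (mA _ ((h.mul_comm_iff m m m).2 (iff_of_false c1 r2))
        ((h.mul_comm_iff m m m).2 (iff_of_true c2 rfl)))
    · exact b1 _ (mul_mem uB rB) (mA _ ((h.mul_comm_iff m m m).2 (iff_of_false c1 b2))
        ((h.mul_comm_iff m m m).2 (iff_of_false c2 b3)))
  have a2 : center E = zpowers z := by
    ext x
    rw [h.mem_zp, mem_center_iff]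
    exact ⟨fun e => h.of_cen x m fun y _ => (e y).symm, by rintro (rfl | rfl) y; exacts [by simp, h.cen y m]⟩
  have a3 : ∀ x ∈ 𝐂(B), x ∈ 𝐂(𝐂(B)) → x ∈ center E := fun x h1 h2 => mem_center_iff.2 fun y =>
    mem_centralizer_singleton_iff.1 ((a1.ge.trans (sup_le (fun y hy => mem_centralizer_singleton_iff.2 (h2 y hy))
      fun y hy => mem_centralizer_singleton_iff.2 (h1 y hy) : 𝐂(B) ⊔ B ≤ 𝐂[x])) m)
  have a4 : 𝐂(B) ⊓ B = center E := le_antisymm (fun x hx => a3 x hx.1 fun y hy => (hy x hx.2).symm)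
    (le_inf (center_le_centralizer _) (a2 ▸ zpowers_le.2 (r1 ▸ mul_mem rB rB)))
  have a5 := Core.card_sup_mul_card_inf (H := 𝐂(B)) (K := B) (centralizer_le_normalizer _)
  rw [a1, a4, a2, card_top, h32, Nat.card_zpowers, h.orderOf_eq, Nat.card_congr eB.toEquiv, DihedralGroup.nat_card] at a5
  have a6 : Nat.card (𝐂(B) : Subgroup E) = 2 ^ 3 := by omega
  refine ⟨𝐂(B), B, ?_, ⟨eB⟩, fun a ha b hb => (ha b hb).symm, a1, a4⟩
  refine (Fus.max2_of_eight a6 fun hc => ?_).resolve_right fun ⟨a, b, b1, b2, b3⟩ => ?_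
  · have := card_le_of_le (fun x hx => a3 x hx (isMulCommutative_iff_le_cent.1 hc hx) : 𝐂(B) ≤ center E)
    rw [a6, a2, Nat.card_zpowers, h.orderOf_eq] at this
    omega
  · have c1 : z ^ 2 = 1 := by rw [sq, h.sq]
    have c2 : u ^ 2 = 1 := by rw [sq, u0]
    have c3 : (b : E) ^ 2 = 1 := congrArg Subtype.val b2
    have c4 : u ∈ 𝐂(zpowers z) := cent_zpowers.ge (mem_centralizer_singleton_iff.2 (h.cen u m))
    have c5 : zpowers z ⊔ zpowers u ≤ B := sup_le (zpowers_le.2 (r1 ▸ mul_mem rB rB)) (zpowers_le.2 uB)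
    have c6 : (b : E) ∈ 𝐂(zpowers z ⊔ zpowers u) := centralizer_le c5 b.2
    have c7 := PGrp.isElementaryAbelian_sup_zpowers (PGrp.isElementaryAbelian_sup_zpowers
      (PGrp.isElementaryAbelian_zpowers c1) c4 c2) c6 c3
    have c8 := hr _ c7.1 c7.2
    rw [PGrp.card_sup_zpowers_of_mem_normalizer (p := 2) (centralizer_le_normalizer _ c6) (fun e => ?_) (c3 ▸ one_mem _),
      PGrp.card_sup_zpowers_of_mem_normalizer (p := 2) (centralizer_le_normalizer _ c4)
        (fun e => (h.mem_zp.1 e).elim u1 u2) (c2 ▸ one_mem _), Nat.card_zpowers, h.orderOf_eq] at c8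
    · omega
    · have d1 : b * a = a * b := Subtype.ext (mem_center_iff.1 (a4.le (mem_inf.2 ⟨b.2, c5 e⟩)) a).symm
      rw [d1, mul_inv_cancel_right, eq_inv_iff_mul_eq_one, ← sq] at b3
      have := Nat.le_of_dvd two_pos (orderOf_dvd_of_pow_eq_one b3)
      rw [b1.ord] at this
      omega

theorem a5_elts : ∃ c τ ρ : alternatingGroup (Fin 5), c ^ 5 = 1 ∧ c ≠ 1 ∧ ρ ^ 3 = 1 ∧ ρ ≠ 1 ∧ τ * τ = 1 ∧
    τ * c * (τ * c) = 1 :=
  ⟨⟨finRotate 5, Equiv.Perm.mem_alternatingGroup.2 (by decide)⟩,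
    ⟨Equiv.swap 1 4 * Equiv.swap 2 3, Equiv.Perm.mem_alternatingGroup.2 (by decide)⟩,
    ⟨Equiv.swap 0 1 * Equiv.swap 1 2, Equiv.Perm.mem_alternatingGroup.2 (by decide)⟩, by decide⟩

theorem exists_h5 (φ : G →* alternatingGroup (Fin 5)) (hφ : Function.Surjective φ) (hk : IsPGroup 2 φ.ker)
    (hc : 𝐂(φ.ker) ≤ φ.ker) (hs : Sec G) : ∃ f t g, H5 φ.ker f t g := by
  have : Fact (Nat.Prime 5) := ⟨Nat.prime_five⟩
  have : Fact (Nat.Prime 3) := ⟨Nat.prime_three⟩
  obtain ⟨c, τ, ρ, h1, h2, h3, h4, h5, h6⟩ := a5_elts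
  obtain ⟨f, rfl, hf⟩ := exists_lift φ hφ hk Nat.prime_five (by norm_num) (orderOf_eq_prime h1 h2)
  obtain ⟨g, rfl, hg⟩ := exists_lift φ hφ hk Nat.prime_three (by norm_num) (orderOf_eq_prime h3 h4)
  obtain ⟨t, rfl⟩ := hφ τ
  refine ⟨f, t, g, hk, fun C hC h => ?_, hf, hg, by simpa using h5, by simpa using h6, fun e => h2 (hc e), hs⟩
  rcases (hC.map φ hφ).eq_bot_or_eq_top with e | e
  · exact Or.inl (le_antisymm ((map_eq_bot_iff C).1 e) h)
  · exact Or.inr (by rw [← comap_map_eq_self h, e, comap_top])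

theorem main {X : Type u} [Group X] [Finite X] (hc : IsPConstrained 2 X) (hO : oddCore X = ⊥) (h4 : SectionalPRankLE 2 4 X)
    (hQ : ∃ A : Subgroup (X ⧸ pCore 2 X), Nonempty (A ≃* alternatingGroup (Fin 5))) :
    (IsElementaryAbelian 2 (pCore 2 X) ∧ Nat.card (pCore 2 X) = 16) ∨
      (Nat.card (pCore 2 X) = 32 ∧ ∃ A B : Subgroup (pCore 2 X),
        Nonempty (A ≃* QuaternionGroup 2) ∧ Nonempty (B ≃* DihedralGroup 4) ∧ (∀ a ∈ A, ∀ b ∈ B, a * b = b * a) ∧
          A ⊔ B = ⊤ ∧ A ⊓ B = center (pCore 2 X)) := by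
  obtain ⟨A, ⟨e⟩⟩ := hQ
  have a1 := (Core.isPConstrained_iff_of_pPrimeCore_eq_bot hO).1 hc
  have a2 : pCore 2 X ≤ A.comap (QuotientGroup.mk' (pCore 2 X)) := QuotientGroup.le_comap_mk' _ _
  let φ := (e : A →* alternatingGroup (Fin 5)).comp ((QuotientGroup.mk' (pCore 2 X)).subgroupComap A)
  have a3 : φ.ker = (pCore 2 X).subgroupOf (A.comap (QuotientGroup.mk' (pCore 2 X))) := by
    ext x
    rw [MonoidHom.mem_ker, mem_subgroupOf, ← QuotientGroup.eq_one_iff]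
    exact e.map_eq_one_iff.trans Subtype.ext_iff
  obtain ⟨f, t, g, h⟩ := exists_h5 φ (e.surjective.comp (MonoidHom.subgroupComap_surjective_of_surjective _ _
    (QuotientGroup.mk'_surjective _))) (a3 ▸ (isPGroup_pCore 2 X).comap_subtype) (by
      rw [a3]
      exact fun x hx => a1 fun y hy => congrArg Subtype.val (hx ⟨y, a2 hy⟩ hy)) ((sec_of h4).sub _)
  have a4 : (inclusion a2).range = φ.ker := by rw [a3, inclusion_range]
  have a5 := (MonoidHom.ofInjective (inclusion_injective a2)).trans (MulEquiv.subgroupCongr a4)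
  have a6 := h.card_eq
  rw [← Nat.card_congr a5.toEquiv] at a6
  rcases sqg_cases _ rfl h with h0 | h2
  · have b1 : ∀ x ∈ pCore 2 X, x ^ 2 = 1 := fun x hx =>
      (sq x).trans (congrArg Subtype.val (h0.le (sq_mem_sqg (a4.le ⟨⟨x, hx⟩, rfl⟩))))
    exact Or.inl ⟨⟨⟨⟨Commute.of_orderOf_dvd_two fun a => orderOf_dvd_of_pow_eq_one (Subtype.ext (b1 a a.2))⟩⟩, b1⟩,
      by rw [a6, h0, card_bot]⟩
  · obtain ⟨b1, b2, b3⟩ := h.xs h2
    rw [h2] at a6
    obtain ⟨z, -, hz⟩ := Known2.exists_ES b1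
    obtain ⟨u, u0, u1, u2⟩ : ∃ u ∈ φ.ker, u ^ 2 = 1 ∧ u ∉ zpowers z := by
      by_contra! hn
      rw [Nat.card_congr (Equiv.subtypeEquivRight (q := fun x => x ∈ zpowers z ∧ x ^ 2 = 1) fun x =>
        ⟨fun hx => ⟨hn x hx.1 hx.2, hx.2⟩, fun hx => ⟨zpowers_le.2 hz.mem hx.1, hx.2⟩⟩),
        card_sq_sub hz.orderOf_eq (mem_zpowers z) le_rfl] at b2
      omega
    obtain ⟨z, rfl⟩ := a4.ge hz.mem
    obtain ⟨u, rfl⟩ := a4.ge u0
    exact Or.inr ⟨a6, cprod (es_pull _ (inclusion_injective a2) a4 hz) a6 (PGrp.pRankLE_of_injective (f := a5.toMonoidHom) a5.injective b3)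
      (u := u) (inclusion_injective a2 (by simpa [sq] using u1)) (fun e => u2 (by rw [e, map_one]; exact one_mem _))
      fun e => u2 (e ▸ mem_zpowers _)⟩

end

/-- Let X be a finite nonsolvable 2-constrained group with no nontrivial normal subgroup of odd order and of sectional 2-rank at most 4, and suppose X/O₂(X) contains a subgroup isomorphic to the alternating group of degree 5. Then O₂(X) is elementary abelian of order 16, or O₂(X) is a central product of a quaternion group of order 8 and a dihedral group of order 8 (it has order 32 and is generated by two elementwise-commuting subgroups, one quaternion of order 8 and one dihedral of order 8, meeting in the centre). -/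
theorem result {X : Type*} [Group X] [Finite X] (hns : ¬ Group.IsSolvable X) (hc : Cfsg.IsPConstrained 2 X) (hO : Cfsg.oddCore X = ⊥)
    (h4 : Cfsg.SectionalPRankLE 2 4 X)
    (hQ : ∃ A : Subgroup (X ⧸ Cfsg.pCore 2 X), Nonempty (↥A ≃* ↥(alternatingGroup (Fin 5)))) :
    (Cfsg.IsElementaryAbelian 2 (Cfsg.pCore 2 X) ∧ Nat.card ↥(Cfsg.pCore 2 X) = 16) ∨
      (Nat.card ↥(Cfsg.pCore 2 X) = 32 ∧ ∃ A B : Subgroup ↥(Cfsg.pCore 2 X),
        Nonempty (↥A ≃* QuaternionGroup 2) ∧ Nonempty (↥B ≃* DihedralGroup 4) ∧ (∀ a ∈ A, ∀ b ∈ B, a * b = b * a) ∧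
          A ⊔ B = ⊤ ∧ A ⊓ B = Subgroup.center ↥(Cfsg.pCore 2 X)) := by
  exact main hc hO h4 hQ

end Cfsg.Agent.S3106
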