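import Cfsg.Statements.S3110
import Cfsg.Agent.Lib.SigC.Two

set_option autoImplicit false
open Cfsg

namespace Cfsg.Agent.S3110

open Subgroup Cfsg.Lib.Core Cfsg.Lib.Amalg Cfsg.Lib.BG1 Cfsg.Lib.Layer Cfsg.Lib.SigC

/-- Let G be a finite group in which every 2-local subgroup is 2-constrained and some Sylow 2-subgroup has a self-centralizing abelian normal subgroup of 2-rank at least 3, and let S be any Sylow 2-subgroup of G. Then there is a subgroup W of G of odd order such that, for every subgroup B of S of 2-rank at least 2, W is generated by the largest normal odd-order subgroups O(C_G(b)) of the centralizers of the non-identity elements b of B, and W is normalized by the normalizer of every such B. -/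
theorem result {G : Type*} [Group G] [Finite G]
    (h2c : ∀ T : Subgroup G, IsPGroup 2 T → T ≠ ⊥ → Cfsg.IsPConstrained 2 ↥(Subgroup.normalizer (T : Set G)))
    (S : Sylow 2 G) (A : Subgroup ↥(S : Subgroup G)) (hAn : A.Normal) (hAab : IsMulCommutative ↥A)
    (hAC : Subgroup.centralizer (A : Set ↥(S : Subgroup G)) = A) (hA3 : ¬ Cfsg.PRankLE 2 2 ↥A) (S' : Sylow 2 G) :
    ∃ W : Subgroup G, Odd (Nat.card ↥W) ∧
      ∀ B : Subgroup G, B ≤ (S' : Subgroup G) → ¬ Cfsg.PRankLE 2 1 ↥B →
        W = (⨆ b : {b : G // b ∈ B ∧ b ≠ 1}, Cfsg.centralizerPPrimeCore 2 (b : G)) ∧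
        Subgroup.normalizer (B : Set G) ≤ Subgroup.normalizer (W : Set G) := by
  let e := Sylow.equiv S S'
  obtain ⟨E, hE, h3⟩ := not_pRankLE_iff.1 hA3
  obtain ⟨hc, hr⟩ := fourConnected_of_scn (A := A.map e.toMonoidHom) S'.isPGroup' (hAn.map _ e.surjective) inferInstance
    (not_pRankLE_iff.2 ⟨E.map e.toMonoidHom, map_mono hE, elemAb_map h3.1 _, by
      rw [card_map_of_injective e.injective]; exact h3.2⟩)
  have hL : ∀ t : G, orderOf t = 2 → pLayerOf 2 (centralizer {t}) = ⊥ := fun t ht =>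
    pLayerOf_cent_of_constrained h2c (ea_zpowers ht).pg (by rintro rfl; simp at ht)
  obtain ⟨A₀, hA₀, h₀⟩ := exists_ea_le_syl (syl_top S') hr
  obtain ⟨hw, hS⟩ := (sft2.gf_cpc hL).wc (syl_top S') hc h₀ hA₀
  refine ⟨_, Nat.not_even_iff_odd.1 (fun h => hw.not_dvd (even_iff_two_dvd.1 h)), fun B hB h2 => ?_⟩
  obtain ⟨F, hF, hF2⟩ := not_pRankLE_iff.1 h2
  refine ⟨le_antisymm ((hw.eq F ((hF.trans hB).trans hS) hF2).ge.trans (clos_mono hF)) (iSup_le fun b => ?_),
    hw.norm_le (hB.trans hS) hF hF2⟩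
  have hb : IsPGroup 2 (zpowers (b : G)) := isPGroup_zpowers_of_mem (S'.isPGroup'.to_le hB) b.2.1
  obtain ⟨t, ht, ht2⟩ := exists_mem_orderOf_eq_prime Nat.prime_two
    (dvd_card_of_isPGroup_ne_bot hb (by simpa using b.2.2))
  have hct : centralizer {(b : G)} ≤ centralizer {t} := by
    rw [← cent_zpowers]; exact cent_le_cent1 ht
  refine le_trans (le_trans (le_inf le_rfl ((cpc_le_cent _).trans hct))
    (cpc_inf_cent_le (hct (mem_centralizer_singleton_iff.2 rfl)) hb (hL t ht2))) (hw.le ht2 ?_)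
  exact hS (hB (zpowers_le.2 b.2.1 ht))

end Cfsg.Agent.S3110
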