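import Cfsg.Statements.S3117
import Cfsg.Agent.Lib.Amalg.Inv3

set_option autoImplicit false
open Cfsg

namespace Cfsg.Agent.S3117

open Subgroup Cfsg.Lib.Amalg
open Cfsg.Lib.Core hiding isPGroup_subgroupOf isPGroup_subgroupOf_iff isPGroup_map_subtype_iff isPGroup_zpowers_of_orderOf
open scoped commutatorElement

/-- If X is a finite 2-group containing exactly three involutions, then the automorphism group of X is solvable. -/
theorem result {X : Type*} [Group X] [Finite X] (h2 : IsPGroup 2 X) (h3 : Nat.card {x : X // orderOf x = 2} = 3) : Group.IsSolvable (MulAut X) := by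
  haveI : Fact (Nat.Prime 2) := ⟨Nat.prime_two⟩
  refine Inv3.solvable_aut h2 (le_trans (Set.ncard_le_ncard (t := insert 1 {x : X | orderOf x = 2})
    fun x hx => ?_) ((Set.ncard_insert_le _ _).trans (Nat.succ_le_succ h3.le)))
  by_cases h : x = 1
  · exact Or.inl h
  · exact Or.inr (orderOf_eq_prime (by rw [pow_two]; exact hx) h)

end Cfsg.Agent.S3117
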