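import Cfsg.Statements.S3153
import Cfsg.Agent.Lib.ZD.Std

set_option autoImplicit false
open Cfsg

namespace Cfsg.Agent.S3153

open Subgroup Cfsg.Lib.Core Cfsg.Lib.Amalg Cfsg.Lib.BG1 Cfsg.Lib.Invol Cfsg.Lib.BS Cfsg.Lib.Layer Cfsg.Lib.ZD
open scoped commutatorElement

/-- Let X be a finite group and P a standard subgroup of X whose centralizer has 2-rank at most 1 and whose centre has odd order. Let S be a Sylow 2-subgroup of N_X(P) and t an involution of S centralizing P. Suppose some element g of X normalizes S, does not lie in S, has its square in S, and conjugates t into P·C_X(P). Then P commutes elementwise with the largest normal odd-order subgroup O(X) of X; consequently every t-invariant 2-component of X containing P is quasisimple. -/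
theorem result {X : Type*} [Group X] [Finite X] (P : Subgroup X) (hP : Cfsg.IsStandardSubgroup P)
    (hr : Cfsg.PRankLE 2 1 ↥(Subgroup.centralizer (P : Set X))) (hZ : Odd (Nat.card ↥(Subgroup.center ↥P)))
    (S : Sylow 2 ↥(Subgroup.normalizer (P : Set X))) (t : X) (ht : orderOf t = 2) (htS : t ∈ (S : Subgroup ↥(Subgroup.normalizer (P : Set X))).map (Subgroup.normalizer (P : Set X)).subtype)
    (htP : t ∈ Subgroup.centralizer (P : Set X))
    (g : X) (hgN : ∀ s ∈ (S : Subgroup ↥(Subgroup.normalizer (P : Set X))).map (Subgroup.normalizer (P : Set X)).subtype, g * s * g⁻¹ ∈ (S : Subgroup ↥(Subgroup.normalizer (P : Set X))).map (Subgroup.normalizer (P : Set X)).subtype)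
    (hgS : g ∉ (S : Subgroup ↥(Subgroup.normalizer (P : Set X))).map (Subgroup.normalizer (P : Set X)).subtype) (hg2 : g ^ 2 ∈ (S : Subgroup ↥(Subgroup.normalizer (P : Set X))).map (Subgroup.normalizer (P : Set X)).subtype)
    (hgt : g * t * g⁻¹ ∈ P ⊔ Subgroup.centralizer (P : Set X)) :
    ⁅P, Cfsg.oddCore X⁆ = ⊥ ∧
      ∀ L : Subgroup X, Cfsg.IsPComponent 2 L → P ≤ L → (∀ l ∈ L, t * l * t⁻¹ ∈ L) → Cfsg.IsQuasisimple ↥L := by
  have hS := syl_of_sylow S
  set T := (S : Subgroup 𝐍(P)).map (𝐍(P)).subtype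
  have uq : ∀ x ∈ 𝐂(P), ∀ y ∈ 𝐂(P), orderOf x = 2 → orderOf y = 2 → Commute x y → x = y := fun x hx y hy h1 h2 hc => by
    by_contra hne
    have hV := isKleinFour_closure h1 h2 hne hc
    have hle : closure ({x, y} : Set X) ≤ 𝐂(P) := (closure_le _).mpr (by rintro _ (rfl | rfl) <;> assumption)
    have := hr ((closure ({x, y} : Set X)).subgroupOf 𝐂(P)) ⟨⟨fun a b => Subtype.ext (Subtype.ext
      (klein_commute hV a.2 b.2))⟩⟩ fun a ha => Subtype.ext (by simpa [pow_two] using klein_mul_self hV ha)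
    rw [Nat.card_congr (subgroupOfEquivOfLe hle).toEquiv, hV.card_four] at this
    omega
  have hu := hgN t htS
  have hu2 : orderOf (g * t * g⁻¹) = 2 := (orderOf_conj g t).trans ht
  have hne : t ≠ g * t * g⁻¹ := fun e => by
    obtain ⟨k, hk⟩ := isPGroup_iff_mem.mp hS.isPGroup _ hg2
    exact hgS (hS.mem_of_mem_normalizer (k := k + 1) (by rwa [pow_succ', pow_mul])
      (std_cent_le hP ht htP (mem_cent1.mpr (eq_mul_inv_iff_mul_eq.mp e).symm))
      (mem_normalizer_of_cj_le (cj_le_iff'.mpr hgN)))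
  have htc : ∀ s ∈ T, Commute s t := by
    obtain ⟨z, hz, h2, h3⟩ := Cfsg.Lib.Invol.exists_central (p := 2) (P := T ⊓ 𝐂(P)) (hS.isPGroup.to_le inf_le_left)
      fun e => ne_one_of_two ht (mem_bot.mp (e ▸ (⟨htS, htP⟩ : t ∈ T ⊓ 𝐂(P))))
    intro s hs
    have h4 : s * t * s⁻¹ ∈ T ⊓ 𝐂(P) := ⟨T.mul_mem (T.mul_mem hs htS) (T.inv_mem hs),
      (mem_normalizer_iff.mp (hP.2.2.2 ▸ hS.le hs) t).mp htP⟩
    exact mul_inv_eq_iff_eq_mul.mp ((uq _ hz.2 _ h4.2 h2 ((orderOf_conj s t).trans ht) (h3 _ h4)).symm.trans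
      (uq _ hz.2 _ htP h2 ht (h3 _ ⟨htS, htP⟩)))
  obtain ⟨c, hc, a, ha, e⟩ := (mem_sup_of_le_normalizer' (H := 𝐂(P)) (K := P) (le_normalizer_centralizer le_normalizer)).mp
    (sup_comm P _ ▸ hgt)
  have hac : Commute c a := (hc a ha).symm
  have hZ' : ∀ x ∈ P ⊓ 𝐂(P), x ^ Nat.card (center P) = 1 := fun x hx => by
    have := pow_card_eq_one' (x := (⟨⟨x, hx.1⟩, (mem_center_subgroup_iff _).mpr hx.2⟩ : center P))
    exact congrArg (fun y : center P => y.1.1) this
  set m := Nat.card (center P)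
  have h1 : c * c * (a * a) = 1 := by rw [← hac.symm.mul_mul_mul_comm, e, mul_self_of_two hu2]
  have h2 : a ^ m * a ^ m = 1 := by
    rw [← (Commute.refl a).mul_pow]
    exact hZ' _ ⟨mul_mem ha ha, (eq_inv_of_mul_eq_one_right h1) ▸ (𝐂(P)).inv_mem (mul_mem hc hc)⟩
  have h3 : c ^ m * c ^ m = 1 := by
    rw [← (Commute.refl c).mul_pow]
    exact hZ' _ ⟨(eq_inv_of_mul_eq_one_left h1) ▸ P.inv_mem (mul_mem ha ha), mul_mem hc hc⟩
  have h4 : g * t * g⁻¹ = c ^ m * a ^ m := by
    obtain ⟨k, hk⟩ := hZ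
    rw [← hac.mul_pow, e, hk, pow_succ, pow_mul, sq_of_two hu2, one_pow, one_mul]
  have h5 : a ^ m ∉ 𝐂(P) := fun h => hne (uq _ htP _ (h4 ▸ mul_mem (pow_mem hc m) h) ht hu2 (htc _ hu).symm)
  have h6 : orderOf (a ^ m) = 2 := two_of_mul_self h2 fun h => h5 (h ▸ one_mem _)
  have h7 : Commute t (c ^ m) := by
    have : Commute t (a ^ m) := (htP _ (pow_mem ha m)).symm
    simpa using (h4 ▸ (htc _ hu).symm : Commute t (c ^ m * a ^ m)).mul_right this.inv_right
  have h8 : ⁅P, oddCore X⁆ = ⊥ := std_cent_odd (g := g) (Nat.coprime_two_right.mp (coprime_card_pPrimeCore 2 X)) hP ht htP h6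
    (pow_mem ha m) h5 (by
      by_cases h : c ^ m = 1
      · exact Or.inl (by rw [h4, h, one_mul])
      · exact Or.inr (by rw [h4, ← uq _ htP _ (pow_mem hc m) ht (two_of_mul_self h3 h) h7]))
  refine ⟨h8, fun L hL hPL _ => ?_⟩
  rcases IsPComponent.le_or_commutator_le hL (H := 𝐂(oddCore X)) (Normal.isSubnormal inferInstance) with h | h
  · exact (IsPComponent.isComponent_of_commutator_eq_bot hL
      (commutator_eq_bot_of_forall fun x hx y hy => (h hx y hy).symm)).2
  · have : P ≤ oddCore X := (IsQuasisimple.commutator_self hP.1).ge.trans ((commutator_mono hPL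
      (show P ≤ 𝐂(oddCore X) from fun x hx y hy => (mul_comm_of_commutator_eq_bot h8 hx hy).symm)).trans h)
    exact absurd (h6.symm.dvd.trans (orderOf_dvd_natCard _ (this (pow_mem ha m))))
      (odd_iff_not_dvd.mp (Nat.coprime_two_right.mp (coprime_card_pPrimeCore 2 X)))

end Cfsg.Agent.S3153
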