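import Cfsg.Statements.S3154
import Cfsg.Agent.S0820
import Cfsg.Agent.Lib.Fus.UT3
import Cfsg.Agent.Lib.Chev.SL3
import Cfsg.Agent.Lib.Known.PSL2
import Cfsg.Agent.Lib.Transfer.Apps
import Cfsg.Agent.Lib.Linear.Simple

set_option autoImplicit false
open Cfsg

namespace Cfsg.Agent.S3154

section

set_option linter.unusedSectionVars false
open Subgroup Matrix Cfsg.Lib Cfsg.Lib.Core Cfsg.Lib.Fus Cfsg.Lib.Chev.SL3
open scoped commutatorElement

local notation "SL" => Matrix.SpecialLinearGroup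
local notation "PSL" => Matrix.ProjectiveSpecialLinearGroup

/-- Self-centralizing, with a complement isomorphic to `Y` in the normalizer. -/
def Good {G : Type*} [Group G] (Y : Type*) [Group Y] (A : Subgroup G) : Prop :=
  centralizer (A : Set G) ≤ A ∧ ∃ L : Subgroup G, L ⊓ A = ⊥ ∧ A ⊔ L = normalizer (A : Set G) ∧ Nonempty (L ≃* Y)

theorem Good.map {G Y : Type*} [Group G] [Group Y] {A : Subgroup G} (h : Good Y A) (α : G ≃* G) :
    Good Y (A.map α.toMonoidHom) := by
  obtain ⟨h1, L, h2, h3, ⟨e⟩⟩ := h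
  refine ⟨fun g hg => ?_, L.map α.toMonoidHom, ?_, ?_, ⟨(equivMapOfInjective L _ α.injective).symm.trans e⟩⟩
  · obtain ⟨g, rfl⟩ := α.surjective g
    exact ⟨g, h1 fun a ha => α.injective (by simpa using hg _ ⟨a, ha, rfl⟩), rfl⟩
  · rw [← Subgroup.map_inf _ _ _ α.injective, h2, Subgroup.map_bot]
  · rw [← Subgroup.map_sup, h3, map_equiv_normalizer_eq]

variable {F : Type*} [Field F] [Fintype F] (hF : Fintype.card F = 4)

/-- The transvections with centre the first basis vector. -/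
def fA (F : Type*) [Field F] : Multiplicative (F × F) →* SL (Fin 3) F :=
  MonoidHom.mk' (fun v => ut3 v.toAdd.1 0 v.toAdd.2) fun v w => by simp [ut3_mul]

/-- The projection to `PSL₃`. -/
abbrev k (F : Type*) [Field F] : SL (Fin 3) F →* PSL (Fin 3) F := QuotientGroup.mk' _

theorem ut3_val (a b c : F) : (ut3 a b c).1 = !![1, a, c; 0, 1, b; 0, 0, 1] := rfl

theorem mem_A {x : PSL (Fin 3) F} : x ∈ ((k F).comp (fA F)).range ↔ ∃ a c, x = k F (ut3 a 0 c) :=
  ⟨fun ⟨_, e⟩ => ⟨_, _, e.symm⟩, fun ⟨a, c, e⟩ => ⟨Multiplicative.ofAdd (a, c), e.symm⟩⟩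

theorem keq' {g h : SL (Fin 3) F} (e : k F g = k F h) : ∃ r : F, r ^ 3 = 1 ∧ ∀ i j, h i j = r * g i j := by
  obtain ⟨z, hz, rfl⟩ := (QuotientGroup.mk'_eq_mk' _).1 e
  obtain ⟨r, h1, h2⟩ := Matrix.SpecialLinearGroup.mem_center_iff.1 hz
  refine ⟨r, by simpa using h1, fun i j => ?_⟩
  show (g.1 * z.1) i j = _
  rw [← h2, scalar_apply, mul_diagonal, mul_comm]

theorem keq {g h : SL (Fin 3) F} (e : k F g = k F h) (h1 : g 0 0 = 1) (h2 : h 0 0 = 1) : g = h := by
  obtain ⟨r, -, hr⟩ := keq' e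
  have := hr 0 0
  rw [h1, h2, mul_one] at this
  ext i j
  rw [hr, ← this, one_mul]

theorem ut_blk (M : SL (Fin 2) F) (a c : F) :
    ut3 a 0 c * blk' M = blk' M * ut3 (a * M 0 0 + c * M 1 0) 0 (a * M 0 1 + c * M 1 1) := by
  ext i j; fin_cases i <;> fin_cases j <;> simp [blk'_val, ut3_val, Matrix.mul_apply, Fin.sum_univ_succ]

theorem b00 (M : SL (Fin 2) F) (a c : F) : (blk' M * ut3 a 0 c) 0 0 = 1 := by
  simp [blk'_val, ut3_val, Matrix.mul_apply, Fin.sum_univ_succ]

theorem blk_ut {M : SL (Fin 2) F} {a c : F} (h : blk' M = ut3 a 0 c) : M = 1 := by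
  have := congrArg Subtype.val h
  rw [blk'_val] at this
  ext i j
  have := congrFun (congrFun this i.succ) j.succ
  fin_cases i <;> fin_cases j <;> simpa [ut3_val] using this

include hF

theorem two : (2 : F) = 0 := by
  have := Nat.cast_card_eq_zero F
  rw [hF] at this
  exact mul_self_eq_zero.1 (by rw [← this]; norm_num)

theorem dec {g : SL (Fin 3) F} (hg : k F g ∈ normalizer (((k F).comp (fA F)).range : Set (PSL (Fin 3) F))) :
    ∃ M a c, k F g = k F (blk' M * ut3 a 0 c) := by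
  have h2 := two hF
  obtain ⟨a, c, e⟩ := mem_A.1 ((mem_normalizer_iff.1 hg _).1 (mem_A.2 ⟨1, 0, rfl⟩))
  rw [mul_inv_eq_iff_eq_mul, ← map_mul, ← map_mul] at e
  obtain ⟨r, r3, hr⟩ := keq' e
  have e10 := hr 1 0
  have e11 := hr 1 1
  have e12 := hr 1 2
  have e20 := hr 2 0
  have e21 := hr 2 1
  have e22 := hr 2 2
  have hd := g.det_coe
  rw [det_fin_three] at hd
  simp [ut3_val, Matrix.mul_apply, Fin.sum_univ_succ] at e10 e11 e12 e20 e21 e22
  have r1 : r = 1 := by
    by_contra h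
    have h' : 1 - r ≠ 0 := sub_ne_zero.2 (Ne.symm h)
    have a1 : g.1 1 0 = 0 := mul_left_cancel₀ h' (by linear_combination e10)
    have a2 : g.1 1 2 = 0 := mul_left_cancel₀ h' (by linear_combination e12)
    have a3 : g.1 1 1 = 0 := mul_left_cancel₀ h' (by linear_combination e11 + r * a1)
    rw [a1, a2, a3] at hd
    simp at hd
  subst r1
  have a1 : g.1 1 0 = 0 := by linear_combination -e11
  have a2 : g.1 2 0 = 0 := by linear_combination -e21
  rw [a1, a2] at hd
  have l3 : g.1 0 0 ^ 3 = 1 := by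
    have := FiniteField.pow_card_sub_one_eq_one (g.1 0 0) fun e => by rw [e] at hd; simp at hd
    rwa [hF] at this
  obtain ⟨l, hl⟩ : ∃ l, l = g.1 0 0 := ⟨_, rfl⟩
  rw [← hl] at l3 hd
  refine ⟨mk !![l ^ 2 * g.1 1 1, l ^ 2 * g.1 1 2; l ^ 2 * g.1 2 1, l ^ 2 * g.1 2 2] (by
    rw [det_fin_two_of]; linear_combination l ^ 3 * hd + l3), l ^ 2 * g.1 0 1, l ^ 2 * g.1 0 2, ?_⟩
  refine (QuotientGroup.mk'_eq_mk' _).2 ⟨mk (scalar (Fin 3) (l ^ 2)) (by
    simp; linear_combination (l ^ 3 + 1) * l3), Matrix.SpecialLinearGroup.mem_center_iff.2 ⟨l ^ 2, by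
    simp; linear_combination (l ^ 3 + 1) * l3, rfl⟩, ?_⟩
  ext i j
  show (g.1 * scalar (Fin 3) (l ^ 2)) i j = _
  rw [scalar_apply, mul_diagonal]
  fin_cases i <;> fin_cases j <;> simp [blk'_val, ut3_val, Matrix.mul_apply, Fin.sum_univ_succ, a1, a2, ← hl, mul_comm]
  linear_combination l3

theorem goodA : Good (SL (Fin 2) F) ((k F).comp (fA F)).range := by
  have inj : Function.Injective ((k F).comp blk') := (injective_iff_map_eq_one _).2 fun M hM =>
    blk_ut (a := 0) (c := 0) ((keq (hM.trans (map_one _).symm) (by simp [blk'_val]) (by simp)).trans ut3_zero.symm)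
  refine ⟨fun g hg => ?_, ((k F).comp blk').range, (eq_bot_iff_forall _).2 ?_, le_antisymm (sup_le le_normalizer ?_)
    fun g hg => ?_, ⟨(MonoidHom.ofInjective inj).symm⟩⟩
  · obtain ⟨g, rfl⟩ := QuotientGroup.mk'_surjective _ g
    obtain ⟨M, a, c, e⟩ := dec hF (centralizer_le_normalizer _ hg)
    have : ∀ a' c', a' * M 0 0 + c' * M 1 0 = a' ∧ a' * M 0 1 + c' * M 1 1 = c' := fun a' c' => by
      have h := hg _ (mem_A.2 ⟨a', c', rfl⟩)
      rw [e, ← map_mul, ← map_mul, ← mul_assoc, ut_blk, mul_assoc, mul_assoc, ut3_mul, ut3_mul, add_zero] at h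
      have := ut3_inj.1 (mul_left_cancel (keq h (b00 _ _ _) (b00 _ _ _)))
      exact ⟨by linear_combination this.1, by linear_combination this.2.2⟩
    have hM : M = 1 := by
      have h1 := this 1 0
      have h2 := this 0 1
      ext i j; fin_cases i <;> fin_cases j <;> simp at h1 h2 ⊢ <;> tauto
    rw [e, hM, map_one, one_mul]
    exact mem_A.2 ⟨a, c, rfl⟩
  · rintro _ ⟨⟨M, rfl⟩, h⟩
    obtain ⟨a, c, e⟩ := mem_A.1 h
    rw [blk_ut (keq e (by simp [blk'_val]) (by simp [ut3_val])), map_one]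
  · rintro _ ⟨M, rfl⟩
    refine inv_mem_iff.1 (mem_normalizer_fintype fun x hx => ?_)
    obtain ⟨a, c, rfl⟩ := mem_A.1 hx
    exact mem_A.2 ⟨_, _, by
      rw [inv_inv, mul_assoc, MonoidHom.comp_apply, ← map_mul, ut_blk, map_mul, inv_mul_cancel_left]⟩
  · obtain ⟨g, rfl⟩ := QuotientGroup.mk'_surjective _ g
    obtain ⟨M, a, c, e⟩ := dec hF hg
    rw [e, map_mul, sup_comm]
    exact mul_mem_sup ⟨M, rfl⟩ (mem_A.2 ⟨a, c, rfl⟩)

theorem good {A : Subgroup (PSL (Fin 3) F)} (hA : IsElementaryAbelian 2 A) (h16 : Nat.card A = 16) :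
    Good (SL (Fin 2) F) A := by
  have := Fact.mk Nat.prime_two
  have h2 := two hF
  have : CharP F 2 := CharTwo.of_one_ne_zero_of_two_eq_zero one_ne_zero h2
  suffices h : ∃ α : MulAut (PSL (Fin 3) F), ∀ x ∈ A, α x ∈ ((k F).comp (fA F)).range by
    obtain ⟨α, hα⟩ := h
    have e : A.map α.toMonoidHom = ((k F).comp (fA F)).range := eq_of_le_of_card_ge (map_le_iff_le_comap.2 hα) (by
      rw [card_map_of_injective α.injective, h16]
      refine (Nat.le_of_dvd Nat.card_pos (card_range_dvd _)).trans ?_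
      simp [hF])
    have := (e ▸ goodA hF).map α.symm
    rwa [Subgroup.map_map, show α.symm.toMonoidHom.comp α.toMonoidHom = MonoidHom.id _ from MonoidHom.ext α.symm_apply_apply,
      Subgroup.map_id] at this
  let S := ((Linear.isPGroup_slUnitri (p := 2) (F := F) 3).toSylow (Linear.not_dvd_index_slUnitri 3)).mapSurjective
    (QuotientGroup.mk'_surjective (center (SL (Fin 3) F)))
  obtain ⟨P, hP⟩ := (IsPGroup.of_card (p := 2) (n := 4) h16).exists_le_sylow
  obtain ⟨g, hg⟩ := MulAction.exists_smul_eq (PSL (Fin 3) F) P S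
  have h1 : ∀ x ∈ A, ∃ a b c, MulAut.conj g x = k F (ut3 a b c) := fun x hx => by
    obtain ⟨u, hu, e⟩ : MulAut.conj g x ∈ (S : Subgroup (PSL (Fin 3) F)) :=
      hg ▸ smul_mem_pointwise_smul _ (MulAut.conj g) _ (hP hx)
    obtain ⟨a, b, c, rfl⟩ := mem_slUnitri_three.1 hu
    exact ⟨a, b, c, e.symm⟩
  by_cases h : ∀ x ∈ A, ∃ a c, MulAut.conj g x = k F (ut3 a 0 c)
  · exact ⟨_, fun x hx => mem_A.2 (h x hx)⟩
  push Not at h
  obtain ⟨y, hy, h⟩ := h
  obtain ⟨a, b, c, e⟩ := h1 y hy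
  have b0 : b ≠ 0 := fun e' => h a c (e' ▸ e)
  have a0 : a = 0 := by
    have := congrArg (MulAut.conj g) (hA.2 y hy)
    rw [map_pow, e, pow_two, ← map_mul, ut3_mul, map_one, ← map_one (k F), ← ut3_zero] at this
    have := (ut3_inj.1 (keq this (by simp [ut3_val]) (by simp [ut3_val]))).2.2
    exact (mul_eq_zero.1 (show a * b = 0 by linear_combination this - c * h2)).resolve_right b0
  refine ⟨Linear.centerQuotAut _ (MulAut.conj cyc * Linear.slInvT (Fin 3) F) * MulAut.conj g, fun x hx => ?_⟩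
  obtain ⟨a', b', c', e'⟩ := h1 x hx
  have a1 : a' = 0 := by
    have := congrArg (MulAut.conj g) (PGrp.comm_of_mem hA.1 hx hy)
    rw [map_mul, map_mul, e, e', ← map_mul, ← map_mul] at this
    have := ut3_comm_iff.1 (keq this (by simp [ut3_mul, ut3_val]) (by simp [ut3_mul, ut3_val]))
    rw [a0, zero_mul] at this
    exact (mul_eq_zero.1 this).resolve_right b0
  rw [MulAut.mul_apply, e', a1]
  refine mem_A.2 ⟨-c', -b', congrArg (k F) (mul_inv_eq_of_eq_mul ?_)⟩
  ext i j
  show ((cyc : SL (Fin 3) F).1 * ((ut3 0 b' c')⁻¹ : SL (Fin 3) F).1ᵀ) i j = _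
  rw [ut3_inv]
  fin_cases i <;> fin_cases j <;> simp [cyc, ut3_val, Matrix.mul_apply, Fin.sum_univ_succ]

theorem sq_sl2 (n : ℕ) : ∀ g : SL (Fin 2) F, g ^ 2 ^ n = 1 → g * g = 1 := by
  have h2 := two hF
  have tr : ∀ g : SL (Fin 2) F, g * g = 1 ↔ g 0 0 + g 1 1 = 0 := fun g => by
    have hd := det2 g
    refine ⟨fun h => ?_, fun h => ?_⟩
    · have e := fun i j => congrFun (congrFun (congrArg Subtype.val h) i) j
      have e0 := e 0 0
      have e1 := e 1 1
      simp [Matrix.mul_apply, Fin.sum_univ_succ] at e0 e1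
      exact mul_self_eq_zero.1 (by linear_combination e0 + e1 + (g 0 0 * g 1 1 - g 0 1 * g 1 0 + 1) * h2)
    · ext i j
      fin_cases i <;> fin_cases j <;> simp [Matrix.mul_apply, Fin.sum_univ_succ]
      · linear_combination g 0 0 * h - hd - h2
      · linear_combination g 0 1 * h
      · linear_combination g 1 0 * h
      · linear_combination g 1 1 * h - hd - h2
  induction n with
  | zero => intro g h; rw [pow_zero, pow_one] at h; rw [h, mul_one]
  | succ n ih =>
    intro g h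
    have e := (tr _).1 (ih (g * g) (by rw [← pow_two, ← pow_mul, ← pow_succ', h]))
    simp [Matrix.mul_apply, Fin.sum_univ_succ] at e
    exact (tr g).2 (mul_self_eq_zero.1 (by linear_combination e + (g 0 0 * g 1 1 - g 0 1 * g 1 0) * h2))

variable {X : Type*} [Group X] [Finite X] (hZ : IsElementaryAbelian 2 (center X)) {π : X →* PSL (Fin 3) F}
  (hs : Function.Surjective π) (hk : π.ker = center X)
include hZ hs hk

theorem lift {x : X} (hx : π x * π x = 1) : x * x = 1 := by
  have := Fact.mk Nat.prime_two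
  have h2 := two hF
  have z2 : ∀ z ∈ center X, z * z = 1 := fun z hz => (pow_two z).symm.trans (hZ.2 z hz)
  have cc : ∀ {z}, z ∈ center X → ∀ g, Commute z g := fun hz g => (mem_center_iff.1 hz g).symm
  have sq : ∀ x, π x * π x = 1 → x * x ∈ center X := fun x h => hk ▸ (map_mul π x x).trans h
  have key : ∀ x y, π x * π x = 1 → π x ≠ 1 → π y * π y = 1 → π y ≠ 1 → y * y = x * x := fun x y a b c d => by
    obtain ⟨g, hg⟩ := isConj_iff.1 (S0820.result hF _ _ (orderOf_eq_prime ((pow_two _).trans a) b)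
      (orderOf_eq_prime ((pow_two _).trans c) d))
    obtain ⟨g, rfl⟩ := hs g
    have m : (g * x * g⁻¹)⁻¹ * y ∈ center X := hk ▸ by simp [← hg, mul_assoc]
    obtain ⟨z, hz, rfl⟩ : ∃ z ∈ center X, y = g * x * g⁻¹ * z := ⟨_, m, by group⟩
    rw [(cc hz _).mul_mul_mul_comm, z2 z hz, mul_one, conj_mul, ← (cc (sq x a) g).eq, mul_inv_cancel_right]
  by_cases x1 : π x = 1
  · exact z2 x (hk ▸ x1)
  obtain ⟨w, w0, w1⟩ : ∃ w : F, w ≠ 0 ∧ w ≠ 1 := by
    classical
    by_contra! h
    have : Fintype.card F ≤ ({0, 1} : Finset F).card := Finset.card_le_card fun w _ => by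
      by_cases e : w = 0 <;> simp [e, h w]
    have := this.trans Finset.card_le_two
    omega
  have u2 : ∀ a c : F, k F (ut3 a 0 c) * k F (ut3 a 0 c) = 1 := fun a c => by
    rw [← map_mul, ut3_mul, show a + a = 0 by linear_combination a * h2,
      show c + c + a * 0 = 0 by linear_combination c * h2, add_zero, ut3_zero, map_one]
  have u1 : ∀ a c : F, k F (ut3 a 0 c) = 1 → a = 0 ∧ c = 0 := fun a c h => by
    rw [← map_one (k F), ← ut3_zero] at h
    have := ut3_inj.1 (keq h (by simp [ut3_val]) (by simp [ut3_val]))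
    exact ⟨this.1, this.2.2⟩
  have s : ∀ y a c, π y = k F (ut3 a 0 c) → (a = 0 → c ≠ 0) → y * y = x * x := fun y a c e h =>
    key x y hx x1 (e ▸ u2 a c) fun e' => h (u1 a c (e ▸ e')).1 (u1 a c (e ▸ e')).2
  obtain ⟨a, ha⟩ := hs (k F (ut3 1 0 0))
  have t : ∀ y c, π y = k F (ut3 0 0 c) → c ≠ 0 → ⁅y, a⁆ = x * x := fun y c e h => by
    have m : ⁅y, a⁆ ∈ center X := hk ▸ by
      rw [MonoidHom.mem_ker, map_commutatorElement, commutatorElement_eq_one_iff_mul_comm, e, ha, ← map_mul, ← map_mul,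
        ut3_comm_iff.2 (by simp)]
    have e1 := s (a * y) 1 c (by rw [map_mul, ha, e, ← map_mul, ut3_mul]; simp) (by simp)
    have e2 : a * y * (a * y) = a * a * (y * y) * ⁅y, a⁆ :=
      calc _ = a * (⁅y, a⁆ * (a * y * y)) := by rw [commutatorElement_def]; group
        _ = _ := by rw [(cc m _).eq]; simp only [mul_assoc]
    rwa [e2, s a 1 0 ha (by simp), s y 0 c e fun _ => h, z2 _ (sq x hx), one_mul] at e1
  obtain ⟨y, hy⟩ := hs (k F (ut3 0 0 1))
  obtain ⟨z, hz⟩ := hs (k F (ut3 0 0 w))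
  have e1 := t y 1 hy one_ne_zero
  have e2 := t z w hz w0
  have e3 := t (y * z) (1 + w) (by rw [map_mul, hy, hz, ← map_mul, ut3_mul]; simp) fun e =>
    w1 (by linear_combination e - h2)
  rw [PGrp.commutator_mul_left (e2 ▸ cc (sq x hx) _) (e2 ▸ cc (sq x hx) _), e1, e2, z2 _ (sq x hx)] at e3
  exact e3.symm

theorem one {H : Subgroup X} (hZH : center X ≤ H) (hA : IsElementaryAbelian 2 (H.map π))
    (h16 : Nat.card (H.map π) = 16) : IsElementaryAbelian 2 H ∧ centralizer (H : Set X) ≤ H ∧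
      ∃ C : Subgroup X, C ≤ normalizer (H : Set X) ∧ C ⊓ H = ⊥ ∧ H ⊔ C = normalizer (H : Set X) ∧
        Nonempty (C ≃* PSL (Fin 2) F) := by
  have := Fact.mk Nat.prime_two
  obtain ⟨h1, L, h2, h3, ⟨e⟩⟩ := good hF hA h16
  have hH : (H.map π).comap π = H := comap_map_eq_self (hk ▸ hZH)
  have sq : ∀ x ∈ H, x * x = 1 := fun x hx => lift hF hZ hs hk ((pow_two _).symm.trans (hA.2 _ (mem_map_of_mem π hx)))
  have pf : ⁅L, L⁆ = L := by
    have : commutator L = ⊤ := by
      obtain ⟨w, hw⟩ := exists_prime_orderOf_dvd_card' (G := Fˣ) 3 (hp := ⟨Nat.prime_three⟩) (by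
        rw [Nat.card_units, Nat.card_eq_fintype_card, hF])
      have h := Linear.sl_commutator_eq_top (ι := Fin 2) (F := F) (Or.inr ⟨w, w.ne_zero, fun h => by
        have := orderOf_dvd_of_pow_eq_one (x := w) (Units.ext h)
        rw [hw] at this; omega⟩)
      rw [commutator_def, ← map_top_of_surjective e.symm.toMonoidHom e.symm.surjective, ← map_commutator, ← commutator_def, h]
    rw [← map_subtype_commutator, this, ← MonoidHom.range_eq_map, range_subtype]
  set M := L.comap π with hM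
  have mM : M.map π = L := map_comap_eq_self_of_surjective hs L
  have mC : ⁅M, M⁆.map π = L := by rw [map_commutator, mM, pf]
  have cZ : ∀ z ∈ ⁅M, M⁆, π z = 1 → z = 1 := fun z hz z1 => by
    rw [← map_subtype_commutator] at hz
    obtain ⟨z, hz, rfl⟩ := hz
    have zc : (z : X) ∈ center X := hk ▸ z1
    have zc' : z ∈ center M := mem_center_iff.2 fun g => Subtype.ext (mem_center_iff.1 zc g)
    obtain ⟨P, hP⟩ := (IsPGroup.of_card_dvd_pow (p := 2) (n := 1) (G := zpowers z) (by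
      rw [Nat.card_zpowers]; exact orderOf_dvd_of_pow_eq_one (Subtype.ext (hZ.2 _ zc)))).exists_le_sylow
    have sP : ∀ x ∈ (P : Subgroup M), x * x = 1 := fun x hx => Subtype.ext (lift hF hZ hs hk (by
      obtain ⟨n, hn⟩ := P.isPGroup' ⟨x, hx⟩
      have e1 : (⟨π x, x.2⟩ : L) ^ 2 ^ n = 1 := Subtype.ext (by
        rw [coe_pow, ← map_pow]
        exact (congrArg (fun t : P => π ((t : M) : X)) hn).trans (map_one π))
      have e2 := sq_sl2 hF n (e ⟨π x, x.2⟩) (by rw [← map_pow, e1, map_one])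
      rw [← map_mul, map_eq_one_iff _ e.injective] at e2
      exact congrArg Subtype.val e2))
    have ab : ⁅(P : Subgroup M), (P : Subgroup M)⁆ = ⊥ := (eq_bot_iff_forall _).2 fun x hx => mem_bot.1
      (commutator_le.2 (fun a ha b hb => mem_bot.2 (by
        rw [commutatorElement_def, inv_eq_of_mul_eq_one_right (sP a ha), inv_eq_of_mul_eq_one_right (sP b hb),
          mul_assoc (a * b), sP _ (mul_mem ha hb)])) hx)
    have := Transfer.inf_commutator_inf_center_le (P : Subgroup M) (by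
      rw [ab, relIndex_bot_left]; exact P.card_coprime_index.symm) ⟨⟨zpowers_le.1 hP, hz⟩, zc'⟩
    rw [ab, mem_bot] at this
    rw [this, map_one]
  have hN : H ⊔ ⁅M, M⁆ = normalizer (H : Set X) := by
    rw [← comap_map_eq_self (f := π) (H := H ⊔ ⁅M, M⁆) ((hk ▸ hZH).trans le_sup_left), Subgroup.map_sup, mC, h3,
      comap_normalizer_eq_of_surjective _ hs, hH]
  refine ⟨⟨PGrp.isMulCommutative_iff_forall.2 fun a ha b hb => ?_, fun a ha => (pow_two a).trans (sq a ha)⟩,
    fun g hg => ?_, ⁅M, M⁆, hN ▸ le_sup_right, (eq_bot_iff_forall _).2 fun z hz => cZ z hz.1 ?_, hN, ⟨?_⟩⟩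
  · rw [← inv_eq_of_mul_eq_one_right (sq _ (mul_mem ha hb)), _root_.mul_inv_rev, inv_eq_of_mul_eq_one_right (sq a ha),
      inv_eq_of_mul_eq_one_right (sq b hb)]
  · rw [← hH]
    refine h1 ?_
    rintro _ ⟨a, ha, rfl⟩
    rw [← map_mul, ← map_mul, hg a ha]
  · exact mem_bot.1 (h2 ▸ ⟨mC ▸ mem_map_of_mem π hz.1, mem_map_of_mem π hz.2⟩)
  · refine ((MulEquiv.ofBijective (π.subgroupMap ⁅M, M⁆) ⟨(injective_iff_map_eq_one _).2 fun z hz => Subtype.ext
      (cZ z z.2 (congrArg Subtype.val hz)), π.subgroupMap_surjective _⟩).trans (MulEquiv.subgroupCongr mC)).trans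
      (e.trans (Known.pmkEquiv (two hF)))

omit hs hk in
theorem main (hXL : Nonempty ((X ⧸ center X) ≃* PSL (Fin 3) F)) {H K : Subgroup X} (hZH : center X ≤ H)
    (hZK : center X ≤ K)
    (hH : IsElementaryAbelian 2 (H.map (QuotientGroup.mk' (center X))) ∧
      Nat.card (H.map (QuotientGroup.mk' (center X))) = 16)
    (hK : IsElementaryAbelian 2 (K.map (QuotientGroup.mk' (center X))) ∧
      Nat.card (K.map (QuotientGroup.mk' (center X))) = 16) :
    IsElementaryAbelian 2 H ∧ IsElementaryAbelian 2 K ∧ H ⊓ K = (center ↥(H ⊔ K)).map (H ⊔ K).subtype ∧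
      (∃ C : Subgroup X, C ≤ normalizer (H : Set X) ∧ C ⊓ H = ⊥ ∧ H ⊔ C = normalizer (H : Set X) ∧
        Nonempty (C ≃* PSL (Fin 2) F)) ∧
      (∃ C : Subgroup X, C ≤ normalizer (K : Set X) ∧ C ⊓ K = ⊥ ∧ K ⊔ C = normalizer (K : Set X) ∧
        Nonempty (C ≃* PSL (Fin 2) F)) := by
  obtain ⟨e⟩ := hXL
  have hs : Function.Surjective (e.toMonoidHom.comp (QuotientGroup.mk' (center X))) :=
    e.surjective.comp (QuotientGroup.mk'_surjective _)
  have hk : (e.toMonoidHom.comp (QuotientGroup.mk' (center X))).ker = center X := by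
    ext x; simp
  have tr : ∀ {H : Subgroup X}, center X ≤ H → IsElementaryAbelian 2 (H.map (QuotientGroup.mk' (center X))) ∧
      Nat.card (H.map (QuotientGroup.mk' (center X))) = 16 → _ := fun {H} h1 h2 =>
    one hF hZ hs hk h1 (by
      rw [← Subgroup.map_map]
      have := h2.1.1
      exact ⟨inferInstance, by rintro _ ⟨a, ha, rfl⟩; rw [← map_pow, h2.1.2 a ha, map_one]⟩)
      (by rw [← Subgroup.map_map, card_map_of_injective e.injective, h2.2])
  obtain ⟨a1, a2, a3⟩ := tr hZH hH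
  obtain ⟨b1, b2, b3⟩ := tr hZK hK
  refine ⟨a1, b1, le_antisymm (fun x hx => ?_) ?_, a3, b3⟩
  · have : H ⊔ K ≤ centralizer ({x} : Set X) := sup_le
      (fun g hg => mem_centralizer_singleton_iff.2 (PGrp.comm_of_mem a1.1 hg hx.1))
      fun g hg => mem_centralizer_singleton_iff.2 (PGrp.comm_of_mem b1.1 hg hx.2)
    exact ⟨⟨x, mem_sup_left hx.1⟩, mem_center_iff.2 fun g => Subtype.ext (mem_centralizer_singleton_iff.1 (this g.2)), rfl⟩
  · rintro _ ⟨x, hx, rfl⟩
    exact ⟨a2 fun g hg => congrArg Subtype.val (mem_center_iff.1 hx ⟨g, mem_sup_left hg⟩),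
      b2 fun g hg => congrArg Subtype.val (mem_center_iff.1 hx ⟨g, mem_sup_right hg⟩)⟩

end

/-- Let X be a finite quasisimple group whose centre is an elementary abelian 2-group and whose central quotient is isomorphic to the projective special linear group of dimension 3 over the field with 4 elements. Let T be a Sylow 2-subgroup of X and H ≠ K subgroups of T containing the centre Z(X) whose images in X/Z(X) are elementary abelian of order 16 (the two such subgroups of a Sylow 2-subgroup of the quotient). Then H and K are elementary abelian, H ∩ K is the centre of the subgroup they generate, and each of N_X(H), N_X(K) is a split extension of H, respectively K, by the projective special linear group of dimension 2 over the field with 4 elements (there is a complement isomorphic to that group). -/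
theorem result {X : Type*} [Group X] [Finite X] (hq : Cfsg.IsQuasisimple X) (hZ : Cfsg.IsElementaryAbelian 2 (Subgroup.center X))
    {F : Type*} [Field F] [Fintype F] (hF : Fintype.card F = 4) (hXL : Nonempty ((X ⧸ Subgroup.center X) ≃* Matrix.ProjectiveSpecialLinearGroup (Fin 3) F))
    (T : Sylow 2 X) (H K : Subgroup X) (hHK : H ≠ K) (hHT : H ≤ T) (hKT : K ≤ T) (hZH : Subgroup.center X ≤ H) (hZK : Subgroup.center X ≤ K)
    (hH : Cfsg.IsElementaryAbelian 2 (H.map (QuotientGroup.mk' (Subgroup.center X))) ∧ Nat.card ↥(H.map (QuotientGroup.mk' (Subgroup.center X))) = 16)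
    (hK : Cfsg.IsElementaryAbelian 2 (K.map (QuotientGroup.mk' (Subgroup.center X))) ∧ Nat.card ↥(K.map (QuotientGroup.mk' (Subgroup.center X))) = 16) :
    Cfsg.IsElementaryAbelian 2 H ∧ Cfsg.IsElementaryAbelian 2 K ∧
      H ⊓ K = (Subgroup.center ↥(H ⊔ K)).map (H ⊔ K).subtype ∧
      (∃ C : Subgroup X, C ≤ Subgroup.normalizer (H : Set X) ∧ C ⊓ H = ⊥ ∧ H ⊔ C = Subgroup.normalizer (H : Set X) ∧
        Nonempty (↥C ≃* Matrix.ProjectiveSpecialLinearGroup (Fin 2) F)) ∧
      (∃ C : Subgroup X, C ≤ Subgroup.normalizer (K : Set X) ∧ C ⊓ K = ⊥ ∧ K ⊔ C = Subgroup.normalizer (K : Set X) ∧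
        Nonempty (↥C ≃* Matrix.ProjectiveSpecialLinearGroup (Fin 2) F)) := by
  exact main hF hZ hXL hZH hZK hH hK

end Cfsg.Agent.S3154
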