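import Cfsg.Statements.S3155
import Mathlib.LinearAlgebra.Determinant
import Mathlib.Algebra.Module.ZMod
import Mathlib.LinearAlgebra.Dimension.Constructions

set_option autoImplicit false
open Cfsg

namespace Cfsg.Agent.S3155


/-- Let B be the direct product of three cyclic groups of order 4. Then the automorphism of B inverting every element is not the square of any automorphism of B. -/
theorem result {B : Type*} [CommGroup B] [Finite B] (hB : Nonempty (B ≃* Multiplicative (ZMod 4 × ZMod 4 × ZMod 4)))
    (τ : B ≃* B) : τ.trans τ ≠ MulEquiv.inv B := by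
  obtain ⟨e⟩ := hB
  intro h
  let σ : Multiplicative (ZMod 4 × ZMod 4 × ZMod 4) ≃* Multiplicative (ZMod 4 × ZMod 4 × ZMod 4) :=
    (e.symm.trans τ).trans e
  let f : (ZMod 4 × ZMod 4 × ZMod 4) →ₗ[ZMod 4] (ZMod 4 × ZMod 4 × ZMod 4) :=
    (AddMonoidHom.toMultiplicative.symm σ.toMonoidHom).toZModLinearMap 4
  have hf : f * f = (-1 : ZMod 4) • LinearMap.id := by
    refine LinearMap.ext fun v => ?_
    have := congrArg (fun φ : B ≃* B => φ (e.symm (Multiplicative.ofAdd v))) h
    simp only [MulEquiv.trans_apply, MulEquiv.inv_apply] at this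
    simp [f, σ, this]
  have hd := congrArg LinearMap.det hf
  have : Nontrivial (ZMod 4) := ⟨⟨0, 1, by decide⟩⟩
  rw [map_mul, LinearMap.det_smul, LinearMap.det_id] at hd
  have hr : Module.finrank (ZMod 4) (ZMod 4 × ZMod 4 × ZMod 4) = 3 := by simp
  rw [hr] at hd
  generalize LinearMap.det f = d at hd
  revert d; decide

end Cfsg.Agent.S3155
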