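import Cfsg.Statements.S3156
import Cfsg.Agent.Lib.U3.Aut

set_option autoImplicit false
open Cfsg

namespace Cfsg.Agent.S3156

open Cfsg.Lib.U3 Cfsg.Lib.U3.Aut in
theorem key {F : Type*} [Field F] {σ : F →+* F} (h : Lib.Forms.IsConj σ 4) (ρ τ : MulAut (Heis h))
    (h3 : ρ * ρ * ρ = 1) (ht : τ * τ = 1) (hc : τ * ρ * τ * ρ = 1) : ρ = 1 := by
  have h2 := two_eq_zero h (n := 2) rfl
  have := h.finite
  have : CharP F 2 := CharTwo.of_one_ne_zero_of_two_eq_zero one_ne_zero h2
  obtain ⟨c, φ, e, -⟩ := struct h2 ρ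
  obtain ⟨d, ψ, e', -⟩ := struct h2 τ
  have a1 : ∀ a, c * φ c * φ (φ c) * φ (φ (φ a)) = a := fun a => by
    have := A_one (h := h) a
    rw [← h3, A_mul, A_mul, e, e, e] at this
    simpa only [map_mul, mul_assoc] using this
  have a2 : c * φ c * φ (φ c) = 1 := by simpa using a1 1
  have a3 : φ ^ 3 = 1 := RingEquiv.ext fun a => by
    have := a1 a
    rwa [a2, one_mul] at this
  have a4 : φ ^ 4 = 1 := by rw [← card_aut (F := F) (p := 2) (f := 4) h.card]; exact pow_card_eq_one'
  have a5 : φ = 1 := by rw [pow_succ, a3, one_mul] at a4; exact a4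
  subst a5
  simp only [RingAut.one_eq_refl, RingEquiv.refl_apply] at e a2
  have b1 : ∀ a, d * ψ d * ψ (ψ a) = a := fun a => by
    have := A_one (h := h) a
    rw [← ht, A_mul, e', e'] at this
    simpa only [map_mul, mul_assoc] using this
  have b2 : d * ψ d = 1 := by simpa using b1 1
  have b3 : ψ c = c := by
    rcases aut_sq h (φ := ψ) (fun a => by have := b1 a; rwa [b2, one_mul] at this) with e1 | e1
    · exact e1 c
    · rw [e1, h.apply]; linear_combination c * a2
  have b4 : (c : F) ^ 2 ^ 1 = 1 := by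
    have := A_one (h := h) 1
    rw [← hc, A_mul, A_mul, A_mul, e, e', e, e'] at this
    have b5 : ψ (ψ c) = c := by rw [b3, b3]
    simp only [map_mul, mul_one, b3] at this
    linear_combination this - c * c * b2
  have b6 := sq_eq_one h2 (α := ρ) fun a => by rw [e, eq_one_of_pow h2 b4, one_mul]
  rwa [b6, one_mul] at h3

theorem main {T : Type*} [Group T] (hT : (∃ (F : Type) (_ : Field F) (_ : Fintype F), Fintype.card F = 16 ∧ ∃ S : Sylow 2 (Cfsg.PSU 3 F 4), Nonempty (T ≃* ↥(S : Subgroup (Cfsg.PSU 3 F 4))))) (H : Subgroup (MulAut T)) : ¬ Nonempty (↥H ≃* Equiv.Perm (Fin 3)) := by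
  obtain ⟨F, _, _, hF, S, ⟨e⟩⟩ := hT
  obtain ⟨σ, h⟩ := Lib.Forms.isConj_of_card (q := 4) hF
  obtain ⟨f⟩ := Lib.U3.sylow_psu h (p := 2) (k := 2) rfl S
  rintro ⟨g⟩
  let π : Equiv.Perm (Fin 3) →* MulAut (Lib.U3.Heis h) :=
    (MulAut.congr (e.trans f)).toMonoidHom.comp (H.subtype.comp g.symm.toMonoidHom)
  have hπ : Function.Injective π :=
    (MulAut.congr (e.trans f)).injective.comp (H.subtype_injective.comp g.symm.injective)
  have := key h (π (Equiv.swap 0 1 * Equiv.swap 1 2)) (π (Equiv.swap 0 1))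
    (by rw [← map_mul, ← map_mul, ← map_one π]; congr 1; decide)
    (by rw [← map_mul, ← map_one π]; congr 1; decide)
    (by rw [← map_mul, ← map_mul, ← map_mul, ← map_one π]; congr 1; decide)
  exact absurd (hπ (this.trans (map_one π).symm)) (by decide)

/-- If a finite group T is isomorphic to a Sylow 2-subgroup of the projective special unitary group of dimension 3 with parameter 4 (realised over the field with 16 elements), then no subgroup of the automorphism group of T is isomorphic to the symmetric group of degree 3. -/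
theorem result {T : Type*} [Group T] [Finite T] (hT : (∃ (F : Type) (_ : Field F) (_ : Fintype F), Fintype.card F = 16 ∧ ∃ S : Sylow 2 (Cfsg.PSU 3 F 4), Nonempty (T ≃* ↥(S : Subgroup (Cfsg.PSU 3 F 4))))) (H : Subgroup (MulAut T)) : ¬ Nonempty (↥H ≃* Equiv.Perm (Fin 3)) := by
  exact main hT H

end Cfsg.Agent.S3156
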