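import Cfsg.Statements.S3157
import Cfsg.Agent.S3156
import Cfsg.Agent.Lib.Amalg.Sing2
import Cfsg.Agent.Lib.Fus.SmallE
import Cfsg.Agent.Lib.Coprime.Neumann

set_option autoImplicit false
open Cfsg

namespace Cfsg.Agent.S3157

section

set_option linter.unusedSectionVars false
open Subgroup Cfsg.Lib Cfsg.Lib.Core
open scoped commutatorElement

variable {T : Type*} [Group T] [Finite T] {ρ : MulAut T} (h3 : ∀ t, ρ (ρ (ρ t)) = t) (hf : ∀ y, ρ y = y → y = 1)
include h3 hf

theorem nrm (t : T) : t * ρ t * ρ (ρ t) = 1 := by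
  have := MonoidHom.FixedPointFree.prod_pow_eq_one (φ := ρ) (fun y h => hf y h) (n := 3) (funext h3) t
  simpa [List.range_succ, mul_assoc] using this

theorem cm (t : T) : Commute t (ρ t) := by
  have h1 := nrm h3 hf t
  have h2 := nrm h3 hf t⁻¹
  rw [map_inv, map_inv, ← mul_inv_rev, ← mul_inv_rev, inv_eq_one] at h2
  exact (eq_inv_of_mul_eq_one_left h1).trans (eq_inv_of_mul_eq_one_right h2).symm

theorem engel (t g : T) : Commute t (g * t * g⁻¹) := by
  have k : ∀ t g, Commute t (g * ρ t * g⁻¹) := fun t g => by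
    obtain ⟨c, rfl⟩ := MonoidHom.FixedPointFree.commutatorMap_surjective (φ := ρ) (fun y h => hf y h) g
    have := (cm h3 hf (c⁻¹ * t * c)).map (MulAut.conj c)
    simpa [MonoidHom.commutatorMap_apply, div_eq_mul_inv, mul_assoc] using this
  have h1 : Commute t (g * ρ (ρ t) * g⁻¹) := by
    have := ((k (ρ (ρ t)) g⁻¹).map (MulAut.conj g)).symm
    simpa [h3, mul_assoc] using this
  have h2 := ((k t g).mul_right h1).inv_right
  rwa [conj_mul, eq_inv_of_mul_eq_one_right ((mul_assoc _ _ _).symm.trans (nrm h3 hf t)), conj_inv, inv_inv] at h2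

theorem mod3 {H : Subgroup T} (h : ∀ t ∈ H, ρ t ∈ H) : Nat.card H % 3 = 1 := by
  classical
  have := Fact.mk Nat.prime_three
  have := Fintype.ofFinite H
  let f : Function.End H := fun t => ⟨ρ t, h t t.2⟩
  have h1 := Equiv.Perm.card_fixedPoints_modEq (f := f) (p := 3) (n := 1) (funext fun t => Subtype.ext (h3 t))
  rw [(Fintype.card_eq_one_iff (α := f.fixedPoints)).2 ⟨⟨1, Subtype.ext (map_one ρ)⟩, fun t => Subtype.ext
    (Subtype.ext (hf _ (congrArg Subtype.val t.2)))⟩] at h1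
  rwa [Nat.card_eq_fintype_card]

theorem chain (hT : Nat.card T = 64) {A B : Subgroup T} (hA : ∀ t ∈ A, ρ t ∈ A) (hB : ∀ t ∈ B, ρ t ∈ B)
    (h1 : A ≠ ⊥) (h2 : A < B) (h4 : B ≠ ⊤) : Nat.card A = 4 := by
  have a := mod3 h3 hf hA
  have b := mod3 h3 hf hB
  have l1 := Amalg.card_lt_of_lt' h2
  have l2 := Amalg.card_lt_of_lt' h4.lt_top
  have l3 := card_eq_one.not.2 h1
  rw [card_top, hT] at l2
  obtain ⟨i, hi, e1⟩ := (Nat.dvd_prime_pow Nat.prime_two (m := 6)).1 (A.card_subgroup_dvd_card.trans hT.dvd)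
  obtain ⟨j, hj, e2⟩ := (Nat.dvd_prime_pow Nat.prime_two (m := 6)).1 (B.card_subgroup_dvd_card.trans hT.dvd)
  rw [e1] at a l1 l3 ⊢
  rw [e2] at b l1 l2
  interval_cases i <;> interval_cases j <;> omega

theorem cent (hT : Nat.card T = 64) (a b : T) : ⁅a, b⁆ ∈ center T := mem_center_iff.2 fun g => by
  have h1 := Coprime.levi_cube (engel h3 hf) g a b
  have h2 : ⁅g, ⁅a, b⁆⁆ ^ 64 = 1 := hT ▸ pow_card_eq_one'
  exact commutatorElement_eq_one_iff_mul_comm.1 (by simpa using pow_gcd_eq_one.2 ⟨h1, h2⟩)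

theorem zinv {t : T} (h : t ∈ center T) : ρ t ∈ center T := characteristic_iff_le_comap.1 inferInstance ρ h

theorem kinv (a : T) : ∀ t ∈ centralizer {a} ⊓ centralizer {ρ a}, ρ t ∈ centralizer {a} ⊓ centralizer {ρ a} := by
  simp only [mem_inf, mem_centralizer_singleton_iff]
  rintro t ⟨h1, h2⟩
  have e1 := (Commute.map h1 ρ)
  have e2 := (e1.mul_right (Commute.map h2 ρ)).inv_right
  rw [eq_inv_of_mul_eq_one_right ((mul_assoc _ _ _).symm.trans (nrm h3 hf a)), inv_inv] at e2
  exact ⟨e2, e1⟩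

theorem coord (hT : Nat.card T = 64) (hna : ¬ IsMulCommutative T) : Nat.card (center T) = 4 ∧
    ∃ (F : Type) (_ : Field F) (_ : Fintype F) (_ : CharP F 2) (π : T → F) (η : F), Nat.card F = 4 ∧
      η * η + η + 1 = 0 ∧ (∀ x ∈ center T, ∀ y ∈ center T, π (x * y) = π x + π y) ∧
      (∀ x ∈ center T, π x = 0 → x = 1) ∧ ∀ x ∈ center T, π (ρ x) = η * π x := by
  classical
  have := Fact.mk Nat.prime_two
  have hp : IsPGroup 2 T := IsPGroup.of_card (n := 6) hT
  have : Nontrivial T := Finite.one_lt_card_iff_nontrivial.1 (by omega)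
  have := hp.center_nontrivial
  obtain ⟨a, ha⟩ : ∃ a, a ∉ center T := by
    by_contra! h
    exact hna ⟨⟨fun x y => mem_center_iff.1 (h y) x⟩⟩
  have h4 : Nat.card (center T) = 4 := chain h3 hf hT (fun t => zinv h3 hf) (kinv h3 hf a)
    ((nontrivial_iff_ne_bot _).1 this) (lt_of_le_of_ne (le_inf (center_le_centralizer _) (center_le_centralizer _))
      fun e => ha (e ▸ ⟨mem_centralizer_singleton_iff.2 rfl, mem_centralizer_singleton_iff.2 (cm h3 hf a)⟩))
    fun e => ha (mem_center_iff.2 fun g => mem_centralizer_singleton_iff.1 (e.ge (mem_top g)).1)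
  let r : zpowers ρ := ⟨ρ, mem_zpowers ρ⟩
  obtain ⟨F, _, _, π, χ, hb, h1, h2, -⟩ := BS.singer_act ((MulAut.characteristic (center T)).comp (zpowers ρ).subtype)
    fun W hW => by
      have e := mod3 h3 hf (H := W.map (center T).subtype) (by
        rintro _ ⟨w, hw, rfl⟩; exact ⟨_, hW r w hw, rfl⟩)
      rw [card_map_of_injective (subtype_injective _)] at e
      obtain ⟨i, hi, e1⟩ := (Nat.dvd_prime_pow Nat.prime_two (m := 2)).1 (W.card_subgroup_dvd_card.trans h4.dvd)
      rw [e1] at e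
      interval_cases i
      · exact Or.inl (card_eq_one.1 e1)
      · omega
      · exact Or.inr (eq_top_of_card_eq _ (e1.trans h4.symm))
  have hF : Nat.card F = 4 := by rw [← h4, Nat.card_eq_of_bijective π hb]
  have p1 : π 1 = 0 := by simpa using h1 1 1
  have c2 : (2 : F) = 0 := by
    have := Nat.cast_card_eq_zero F
    rw [← Nat.card_eq_fintype_card, hF] at this
    exact mul_self_eq_zero.1 (by rw [← this]; norm_num)
  refine ⟨h4, F, inferInstance, inferInstance, CharTwo.of_one_ne_zero_of_two_eq_zero one_ne_zero c2,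
    fun t => if h : t ∈ center T then π ⟨t, h⟩ else 0, χ r, hF, ?_, fun x hx y hy => ?_, fun x hx e => ?_,
    fun x hx => ?_⟩
  · obtain ⟨z, hz⟩ := hb.2 1
    have e : z * (MulAut.characteristic (center T)).comp (zpowers ρ).subtype r z *
      (MulAut.characteristic (center T)).comp (zpowers ρ).subtype r
        ((MulAut.characteristic (center T)).comp (zpowers ρ).subtype r z) = 1 := Subtype.ext (nrm h3 hf z)
    have := congrArg π e
    rw [h1, h1, h2, h2, h2, hz, p1] at this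
    linear_combination this
  · simp only [dif_pos hx, dif_pos hy, dif_pos (mul_mem hx hy)]
    exact h1 ⟨x, hx⟩ ⟨y, hy⟩
  · simp only [dif_pos hx] at e
    exact congrArg Subtype.val (hb.1 (e.trans p1.symm))
  · simp only [dif_pos hx, dif_pos (zinv h3 hf hx)]
    exact h2 r ⟨x, hx⟩

theorem main (hT : Nat.card T = 64) (hna : ¬ IsMulCommutative T) {x : MulAut T} (hx : ∀ t, x (x t) = t)
    (hxr : ∀ t, x (ρ t) = ρ (ρ (x t))) (C : Subgroup T) (hC : ∀ y : T, y ∈ C ↔ x y = y) :
    (∃ (F : Type) (_ : Field F) (_ : Fintype F), Fintype.card F = 4 ∧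
        ∃ S : Sylow 2 (Matrix.ProjectiveSpecialLinearGroup (Fin 3) F),
          Nonempty (T ≃* (S : Subgroup (Matrix.ProjectiveSpecialLinearGroup (Fin 3) F)))) ∧
      (Nonempty (C ≃* DihedralGroup 4) ∨ Nonempty (C ≃* QuaternionGroup 2)) := by
  have := Fact.mk Nat.prime_two
  obtain ⟨h4, F, _, _, _, π, η, hF, hη, pa, pi, pr⟩ := coord h3 hf hT hna
  have h2 : (2 : F) = 0 := CharTwo.two_eq_zero
  have cz := cent h3 hf hT
  have cc : ∀ {z}, z ∈ center T → ∀ g, Commute z g := fun hz g => (mem_center_iff.1 hz g).symm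
  have p1 : π 1 = 0 := by simpa using pa 1 (one_mem _) 1 (one_mem _)
  have z2 : ∀ z ∈ center T, z * z = 1 := fun z hz => pi _ (mul_mem hz hz) (by
    rw [pa z hz z hz]; linear_combination π z * h2)
  have sq : ∀ t, t * t ∈ center T := fun t => mem_center_iff.2 fun g => (commutatorElement_eq_one_iff_mul_comm.1 (by
    rw [PGrp.commutator_mul_left (cc (cz _ _) _) (cc (cz _ _) _), z2 _ (cz _ _)])).symm
  obtain ⟨B, hB⟩ : ∃ B : T → T → F, ∀ x y, B x y = π ⁅x, y⁆ := ⟨_, fun _ _ => rfl⟩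
  obtain ⟨q, hq⟩ : ∃ q : T → F, ∀ x, q x = π (x * x) := ⟨_, fun _ => rfl⟩
  have Bl : ∀ x y z, B (x * y) z = B x z + B y z := fun x y z => by
    rw [hB, hB, hB, PGrp.commutator_mul_left (cc (cz _ _) _) (cc (cz _ _) _), pa _ (cz _ _) _ (cz _ _)]
  have Bs : ∀ x y, B x y = B y x := fun x y => by
    rw [hB, hB, ← commutatorElement_inv, inv_eq_of_mul_eq_one_right (z2 _ (cz y x))]
  have B0 : ∀ {x y}, B x y = 0 ↔ Commute x y := fun {x y} => by
    rw [hB, ← commutatorElement_eq_one_iff_commute]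
    exact ⟨pi _ (cz x y), fun e => e ▸ p1⟩
  have Bα : ∀ x y, B (ρ x) (ρ y) = η * B x y := fun x y => by rw [hB, hB, ← pr _ (cz x y), map_commutatorElement]
  have qm : ∀ x y, q (x * y) = q x + q y + B x y := fun x y => by
    rw [hq, hq, hq, Bs, hB, ← pa _ (sq x) _ (sq y), ← pa _ (mul_mem (sq x) (sq y)) _ (cz y x)]
    congr 1
    calc _ = x * (⁅y, x⁆ * (x * y)) * y := by rw [commutatorElement_def]; group
      _ = _ := by rw [(cc (cz y x) _).eq, ← mul_assoc, mul_assoc _ _ y, (cc (cz y x) _).eq]; group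
  have qα : ∀ x, q (ρ x) = η * q x := fun x => by rw [hq, hq, ← pr _ (sq x), map_mul]
  have B2 : ∀ x y, B (ρ x) y = B x (ρ y) := fun x y => by
    have h1 := B0.2 (cm h3 hf (x * y)).symm
    rw [map_mul, Bl, Bs, Bl, Bs (ρ y), Bl, B0.2 (cm h3 hf x), B0.2 (cm h3 hf y), Bs y] at h1
    linear_combination h1 - B x (ρ y) * h2
  have B3 : ∀ x y, B (ρ x) y = (η + 1) * B x y := fun x y => by
    have h1 : B (x * ρ x * ρ (ρ x)) y = 0 := by rw [nrm h3 hf]; exact B0.2 (Commute.one_left y)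
    rw [Bl, Bl, B2 (ρ x), Bα] at h1
    linear_combination h1 - (B x y + η * B x y) * h2
  refine ⟨?_, ?_⟩
  · obtain ⟨y₀, hy⟩ : ∃ y, q y ≠ 0 := by
      by_contra! h
      exact hna ⟨⟨fun a b => B0.1 (by have := qm a b; rwa [h, h, h, zero_add, zero_add, eq_comm] at this)⟩⟩
    obtain ⟨x₀, hb⟩ : ∃ x, B x y₀ ≠ 0 := by
      by_contra! h
      exact hy (by rw [hq, z2 _ (mem_center_iff.2 fun g => B0.1 (h g)), p1])
    have sc : ∀ w (c : F), ∃ u, (∀ y, B u y = c * B w y) ∧ q u = c ^ 2 * q w := fun w c => by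
      have hc : c ^ 4 = c := by rw [← hF, Nat.card_eq_fintype_card]; exact FiniteField.pow_card c
      rcases R2.four_cases hη hc with rfl | rfl | rfl | rfl
      · exact ⟨1, fun y => by rw [B0.2 (Commute.one_left y), zero_mul], by rw [hq, mul_one, p1]; ring⟩
      · exact ⟨w, fun y => (one_mul _).symm, by ring⟩
      · exact ⟨ρ (ρ w), fun y => by rw [B3, B3]; linear_combination B w y * hη, by rw [qα, qα]; ring⟩
      · exact ⟨ρ w, B3 w, by rw [qα]; linear_combination -q w * hη⟩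
    have ker : ∀ t, t ∈ center T ↔ B t y₀ = 0 ∧ B t x₀ = 0 := fun t => by
      refine ⟨fun h => ⟨B0.2 (cc h _), B0.2 (cc h _)⟩, fun h => ?_⟩
      have iv : ∀ a, ∀ t ∈ centralizer {a}, ρ t ∈ centralizer {a} := fun a t ht =>
        mem_centralizer_singleton_iff.2 (B0.1 (by
          rw [B3, B0.2 (mem_centralizer_singleton_iff.1 ht), mul_zero]))
      have le : center T ≤ centralizer {y₀} ⊓ centralizer {x₀} :=
        le_inf (center_le_centralizer _) (center_le_centralizer _)
      have e := chain h3 hf hT (A := centralizer {y₀} ⊓ centralizer {x₀}) (fun t ht => ⟨iv _ t ht.1, iv _ t ht.2⟩)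
        (iv y₀) (fun e => by rw [e, le_bot_iff] at le; rw [le, card_bot] at h4; omega)
        (lt_of_le_of_ne inf_le_left fun e => hb ((Bs _ _).trans (B0.2 (mem_centralizer_singleton_iff.1
          (e.ge (mem_centralizer_singleton_iff.2 rfl)).2))))
        fun e => hb (B0.2 (mem_centralizer_singleton_iff.1 (e.ge (mem_top x₀))))
      rw [eq_of_le_of_card_ge le (by rw [e, h4])]
      exact ⟨mem_centralizer_singleton_iff.2 (B0.1 h.1), mem_centralizer_singleton_iff.2 (B0.1 h.2)⟩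
    have form : ∀ t, q t = (B t y₀ / B x₀ y₀) ^ 2 * q x₀ + (B t x₀ / B x₀ y₀) ^ 2 * q y₀ +
        B t y₀ * (B t x₀ / B x₀ y₀) := fun t => by
      obtain ⟨u, u1, u2⟩ := sc x₀ (B t y₀ / B x₀ y₀)
      obtain ⟨v, v1, v2⟩ := sc y₀ (B t x₀ / B x₀ y₀)
      have m : t * (u * v) ∈ center T := (ker _).2 ⟨by
        rw [Bl, Bl, u1, v1, B0.2 (Commute.refl y₀), div_mul_cancel₀ _ hb]; linear_combination B t y₀ * h2, by
        rw [Bl, Bl, u1, v1, B0.2 (Commute.refl x₀), Bs y₀, div_mul_cancel₀ _ hb]; linear_combination B t x₀ * h2⟩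
      have m' := mul_mem m (inv_mem (sq (u * v)))
      have e : t = t * (u * v) * (u * v * (u * v))⁻¹ * (u * v) := by group
      have e2 := qm (t * (u * v) * (u * v * (u * v))⁻¹) (u * v)
      rw [← e, B0.2 (cc m' _), hq (_ * _⁻¹), z2 _ m', p1, qm, u2, v2, u1, Bs x₀ v, v1, Bs y₀ x₀] at e2
      rw [e2]
      field_simp
      ring
    obtain ⟨K, _, _, hK, h⟩ | h := Amalg.Sing.iso_form (n := 2) hF (C := center T) (π := fun t => π t / q y₀)
      (s := fun t => B t y₀ / q y₀) (t := fun t => B t x₀ / B x₀ y₀) (a := q x₀ * q y₀ / B x₀ y₀ ^ 2)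
      (fun a ha b hb => by rw [pa a ha b hb, add_div]) (fun a ha e => pi a ha ((div_eq_zero_iff.1 e).resolve_right hy))
      (fun a b => by rw [Bl, add_div]) (fun a b => by rw [Bl, add_div]) (fun a => by simp [ker, hy, hb])
      (fun a => ⟨sq a, by rw [← hq, form a]; field_simp; ring⟩) (by rw [hT, hF]; norm_num)
    · obtain ⟨σ, c⟩ := Forms.isConj_of_card (q := 4) hK
      obtain ⟨S⟩ : Nonempty (Sylow 2 (Cfsg.PSU 3 K 4)) := inferInstance
      obtain ⟨e⟩ := h S
      obtain ⟨f⟩ := U3.sylow_psu c (p := 2) (k := 2) rfl S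
      let g := MulAut.congr (e.trans f)
      have := S3156.key c (g ρ) (g x) (by
        rw [← map_mul, ← map_mul, ← map_one g]; exact congrArg g (MulEquiv.ext h3)) (by
        rw [← map_mul, ← map_one g]; exact congrArg g (MulEquiv.ext hx)) (by
        rw [← map_mul, ← map_mul, ← map_mul, ← map_one g]
        exact congrArg g (MulEquiv.ext fun t => by simp only [MulAut.mul_apply, hxr, hx, h3, MulAut.one_apply]))
      rw [map_eq_one_iff _ g.injective] at this
      exact absurd (by rw [hf y₀ (by rw [this]; rfl), hq, mul_one, p1]) hy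
    · obtain ⟨S⟩ : Nonempty (Sylow 2 (Matrix.ProjectiveSpecialLinearGroup (Fin 3) F)) := inferInstance
      exact ⟨F, inferInstance, inferInstance, by rw [← Nat.card_eq_fintype_card, hF], S, h S⟩
  · have lift : ∀ v, v⁻¹ * x v ∈ center T → ∃ c ∈ C, ∀ u, B c u = B v u := fun v hv => by
      obtain ⟨z, hz⟩ : ∃ z, z = v⁻¹ * x v := ⟨_, rfl⟩
      rw [← hz] at hv
      have e1 : x z = z := by
        rw [← inv_eq_of_mul_eq_one_right (z2 z hv)]
        conv_lhs => rw [inv_eq_of_mul_eq_one_right (z2 z hv), hz]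
        rw [hz, map_mul, map_inv, hx, mul_inv_rev, inv_inv]
      have m := zinv h3 hf hv
      refine ⟨v * ρ z, (hC _).2 ?_, fun u => by rw [Bl, B0.2 (cc m u), add_zero]⟩
      have e2 := nrm h3 hf z
      rw [(cc hv _).eq, mul_assoc, ← z2 _ m, mul_right_inj] at e2
      rw [map_mul, hxr, e1, eq_inv_mul_iff_mul_eq.1 hz |>.symm, mul_assoc, e2]
    have key : ∀ u, (∀ c ∈ C, B c u = 0) → ∀ v, B v u = 0 := fun u h v => by
      have k : ∀ w, B w u + B (x w) u = 0 := fun w => by
        obtain ⟨c, hc, e⟩ := lift (w * x w) (by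
          rw [map_mul, hx, show (w * x w)⁻¹ * (x w * w) = ⁅(x w)⁻¹, w⁻¹⁆ by rw [commutatorElement_def]; group]
          exact cz _ _)
        rw [← Bl, ← e, h c hc]
      have e1 := k v
      have e2 := k (ρ v)
      rw [hxr, B3, B3, B3] at e2
      linear_combination e2 - η * e1 - B (x v) u * hη + (B (x v) u * 0 - η * 0) * h2
    have nc : ¬ IsMulCommutative C := fun h => hna ⟨⟨fun a b => B0.1 (key b (fun c hc => (Bs c b).trans
      (key c (fun d hd => B0.2 (PGrp.comm_of_mem h hd hc)) b)) a)⟩⟩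
    have le : Nat.card C * Nat.card C ≤ 64 := by
      rw [← Nat.card_prod, ← hT]
      refine Nat.card_le_card_of_injective (fun p : C × C => ρ p.1 * p.2) fun p p' e => ?_
      have e1 : ρ ((p'.1 : T)⁻¹ * p.1) = p'.2 * (p.2 : T)⁻¹ := by
        rw [map_mul, map_inv, inv_mul_eq_iff_eq_mul, ← mul_assoc, eq_mul_inv_iff_mul_eq]; exact e
      have e2 := (hC _).1 (e1 ▸ mul_mem p'.2.2 (inv_mem p.2.2))
      rw [hxr, (hC _).1 (mul_mem (inv_mem p'.1.2) p.1.2)] at e2
      have e3 := hf _ (ρ.injective e2)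
      rw [e3, map_one, eq_comm, mul_inv_eq_one] at e1
      exact Prod.ext (Subtype.ext (inv_mul_eq_one.1 e3).symm) (Subtype.ext e1.symm)
    have c8 : Nat.card C = 2 ^ 3 := by
      have l := mt (PGrp.isMulCommutative_of_card_le_sq ((IsPGroup.of_card (p := 2) (n := 6) hT).to_subgroup C)) nc
      obtain ⟨i, hi, e1⟩ := (Nat.dvd_prime_pow Nat.prime_two (m := 6)).1 (C.card_subgroup_dvd_card.trans hT.dvd)
      rw [e1] at l le ⊢
      interval_cases i <;> omega
    exact (Fus.max2_of_eight c8 nc).symm.imp_left fun ⟨a, b, h, h1, h2⟩ => h.dihedral h1 h2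

end

/-- Let T be a non-abelian group of order 64 admitting automorphisms ρ of order 3 and x of order 2 with x ρ x⁻¹ = ρ⁻¹ (so they generate a symmetric group of degree 3), where ρ fixes only the identity. Then T is isomorphic to a Sylow 2-subgroup of the projective special linear group of dimension 3 over the field with 4 elements, and the subgroup of fixed points of x is dihedral of order 8 or quaternion of order 8. -/
theorem result {T : Type*} [Group T] [Finite T] (hT : Nat.card T = 64) (hna : ¬ IsMulCommutative T) (ρ x : MulAut T) (hρ : orderOf ρ = 3) (hx : orderOf x = 2)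
    (hxr : x * ρ * x⁻¹ = ρ⁻¹) (hfp : ∀ y : T, ρ y = y → y = 1) (C : Subgroup T) (hC : ∀ y : T, y ∈ C ↔ x y = y) :
    (∃ (F : Type) (_ : Field F) (_ : Fintype F), Fintype.card F = 4 ∧
        ∃ S : Sylow 2 (Matrix.ProjectiveSpecialLinearGroup (Fin 3) F), Nonempty (T ≃* ↥(S : Subgroup (Matrix.ProjectiveSpecialLinearGroup (Fin 3) F)))) ∧
      (Nonempty (↥C ≃* DihedralGroup 4) ∨ Nonempty (↥C ≃* QuaternionGroup 2)) := by
  have h3 : ρ ^ 3 = 1 := hρ ▸ pow_orderOf_eq_one ρ
  have h2 : x ^ 2 = 1 := hx ▸ pow_orderOf_eq_one x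
  have h4 : x * ρ = ρ * ρ * x := by
    rw [← mul_inv_eq_iff_eq_mul, hxr, inv_eq_iff_mul_eq_one, ← h3, pow_three]
  exact main (fun t => by simpa [pow_three] using DFunLike.congr_fun h3 t) hfp hT hna
    (fun t => by simpa [pow_two] using DFunLike.congr_fun h2 t) (fun t => DFunLike.congr_fun h4 t) C hC

end Cfsg.Agent.S3157
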