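import Cfsg.Statements.S3162
import Cfsg.Agent.Lib.U3.Aut
import Cfsg.Agent.Lib.PGrp.OmegaBasic

set_option autoImplicit false
open Cfsg

namespace Cfsg.Agent.S3162

theorem main {S : Type*} [Group S] (n : ℕ) {F : Type*} [Field F] [Fintype F] (hF : Fintype.card F = 4 ^ n)
    (P : Sylow 2 ↥(Cfsg.SU 3 F (2 ^ n))) (hS : Nonempty (S ≃* ↥(P : Subgroup ↥(Cfsg.SU 3 F (2 ^ n))))) :
    Cfsg.IsElementaryAbelian 2 (Cfsg.pCore 2 (MulAut S)) ∧ Nat.card ↥(Cfsg.pCore 2 (MulAut S)) = 2 ^ (2 * n ^ 2) ∧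
      Nat.card (MulAut S) = 2 ^ (2 * n ^ 2) * (2 * n * ((2 ^ n) ^ 2 - 1)) := by
  obtain ⟨σ, h⟩ := Lib.Forms.isConj_of_card (q := 2 ^ n) (hF.trans (by rw [← pow_mul, mul_comm, pow_mul]; rfl))
  have h2 := Lib.U3.two_eq_zero h rfl
  obtain ⟨e⟩ := hS
  obtain ⟨f⟩ := Lib.U3.sylow_su h rfl P
  let g := (MulAut.congr (e.trans f)).symm
  rw [← Lib.Core.map_pCore_equiv g, Lib.U3.Aut.pCore_eq h2, ← Nat.card_congr g.toEquiv]
  exact ⟨Lib.PGrp.isElementaryAbelian_map _ (Lib.U3.Aut.elem_ker h2),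
    (Subgroup.card_map_of_injective g.injective).trans (Lib.U3.Aut.card_ker h2 rfl), Lib.U3.Aut.card_mulAut h2 rfl⟩

/-- Let S be a Sylow 2-subgroup of the special unitary group of dimension 3 with parameter q = 2^n (n ≥ 2; realised over the field with q² elements). Then the largest normal 2-subgroup of the automorphism group of S is elementary abelian of order 2^(2n²), and the automorphism group has order 2^(2n²) · 2n(q² − 1). -/
theorem result {S : Type*} [Group S] [Finite S] (n : ℕ) (hn : 2 ≤ n) {F : Type*} [Field F] [Fintype F] (hF : Fintype.card F = 4 ^ n)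
    (P : Sylow 2 ↥(Cfsg.SU 3 F (2 ^ n))) (hS : Nonempty (S ≃* ↥(P : Subgroup ↥(Cfsg.SU 3 F (2 ^ n))))) :
    Cfsg.IsElementaryAbelian 2 (Cfsg.pCore 2 (MulAut S)) ∧ Nat.card ↥(Cfsg.pCore 2 (MulAut S)) = 2 ^ (2 * n ^ 2) ∧
      Nat.card (MulAut S) = 2 ^ (2 * n ^ 2) * (2 * n * ((2 ^ n) ^ 2 - 1)) := by
  exact main n hF P hS

end Cfsg.Agent.S3162
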