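import Cfsg.Statements.S3171
import Cfsg.Agent.Lib.Block.ScnB
import Cfsg.Agent.Lib.PGrp.Basic

set_option autoImplicit false
open Cfsg

namespace Cfsg.Agent.S3171

open Subgroup Cfsg.Lib Cfsg.Lib.Block.Scn

noncomputable def g1 : Q5 := Q5.e1
noncomputable def g2 : Q5 := Q5.dd true false false
noncomputable def g3 : Q5 := Q5.dd false true false
noncomputable def g4 : Q5 := Q5.e2

noncomputable def L (a b c d : Bool) : List Q5 :=
  [g1 * (g2 * (g1 * g2)), g2 * (g3 * (g2 * g3)), g3 * (g4 * (g3 * g4)), cond a g1 1, cond b g2 1, cond c g3 1,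
    cond d g4 1, cond (a || b) 1 (g1 * g2), cond (a || c) 1 (g1 * g3), cond (a || d) 1 (g1 * g4),
    cond (b || c) 1 (g2 * g3), cond (b || d) 1 (g2 * g4), cond (c || d) 1 (g3 * g4)]

theorem chk : ∀ a b c d, (Finset.univ.filter fun x : Q5 => (L a b c d).all fun l => l * x = x * l).card ≤ 8 := by
  decide +kernel

theorem c1 {G : Type*} [Group G] (M : Subgroup G) (a : G) [Decidable (a ∈ M)] : cond (a ∈ M) a 1 ∈ M := by
  by_cases h : a ∈ M <;> simp [h]

theorem c2 {G : Type*} [Group G] {M : Subgroup G} (hM : M.index = 2) (a b : G) [Decidable (a ∈ M)]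
    [Decidable (b ∈ M)] : cond (decide (a ∈ M) || decide (b ∈ M)) 1 (a * b) ∈ M ∧ a * (b * (a * b)) ∈ M := by
  by_cases h : a ∈ M <;> by_cases h' : b ∈ M <;> simp [h, h', mul_mem_iff_of_index_two hM]

theorem c3 {G : Type*} [Group G] [Fintype G] [DecidableEq G] (M : Subgroup G) (L : List G) (h1 : ∀ l ∈ L, l ∈ M) :
    Nat.card (center M) ≤ (Finset.univ.filter fun x : G => L.all fun l => l * x = x * l).card := by
  rw [← Nat.card_eq_finsetCard]
  exact Nat.card_le_card_of_injective (fun z => ⟨z.1.1, Finset.mem_filter.2 ⟨Finset.mem_univ _,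
    List.all_eq_true.2 fun l hl => decide_eq_true
    (congrArg Subtype.val (mem_center_iff.1 z.2 ⟨l, h1 l hl⟩))⟩⟩) fun _ _ h =>
      Subtype.ext (Subtype.ext (Subtype.ext_iff.1 h :))

theorem cen (M : Subgroup Q5) (hM : M.index = 2) : Nat.card (center M) ≤ 8 := by
  classical
  have h1 : ∀ l ∈ L (g1 ∈ M) (g2 ∈ M) (g3 ∈ M) (g4 ∈ M), l ∈ M := by
    simp only [L, List.forall_mem_cons, c1, c2 hM, true_and]
    exact fun _ h => absurd h List.not_mem_nil
  exact (c3 M _ h1).trans (chk _ _ _ _)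

theorem key {S : Type*} [Group S] (e : S ≃* Q5) :
    (∀ M : Subgroup S, IsCoatom M → Nat.card (center M) ≤ 8) ∧
      (∃ A : Subgroup S, IsElementaryAbelian 2 A ∧ Nat.card A = 64) ∧
      ∀ A B : Subgroup S, IsMulCommutative A → Nat.card A = 64 → IsMulCommutative B → Nat.card B = 64 → A = B := by
  haveI : Finite S := Finite.of_equiv _ e.symm.toEquiv
  have hc : ∀ A : Subgroup S, Nat.card (A.map e.toMonoidHom) = Nat.card A := fun A =>
    card_map_of_injective e.injective
  refine ⟨fun M hM => ?_, ⟨Q5.A0.comap e.toMonoidHom, ⟨⟨⟨fun x y => Subtype.ext (e.injective ?_)⟩⟩,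
    fun x hx => e.injective ?_⟩, ?_⟩, fun A B a1 a2 b1 b2 => map_injective (f := e.toMonoidHom) e.injective ?_⟩
  · rw [PGrp.isCoatom_iff_index_eq (p := 2) (IsPGroup.of_card (n := 9) ((Nat.card_congr e.toEquiv).trans Q5.card)),
      ← index_map_of_bijective (f := e.toMonoidHom) e.bijective] at hM
    rw [Nat.card_congr (centerCongr (e.subgroupMap M)).toEquiv]
    exact cen _ hM
  · rw [coe_mul, coe_mul, map_mul, map_mul]; exact (Q5.com x.2 y.2).eq
  · rw [pow_two, map_mul, map_one]; exact Q5.sq _ hx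
  · rw [← hc, map_comap_eq_self_of_surjective e.surjective, Q5.cardA]
  · rw [Q5.uniq (B := A.map _) inferInstance (by rw [hc, a2]), Q5.uniq (B := B.map _) inferInstance (by rw [hc, b2])]

/-- Let P be a Sylow 2-subgroup of the Mathieu group of degree 24 and S the quotient of P by its centre. Then the centre of every maximal subgroup of S has order at most 8; S has an elementary abelian subgroup of order 64; and S has only one abelian subgroup of order 64. -/
theorem result (P : Sylow 2 ↥Cfsg.M24) :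
    (∀ M : Subgroup (↥(P : Subgroup ↥Cfsg.M24) ⧸ Subgroup.center ↥(P : Subgroup ↥Cfsg.M24)), IsCoatom M →
        Nat.card ↥(Subgroup.center ↥M) ≤ 8) ∧
      (∃ A : Subgroup (↥(P : Subgroup ↥Cfsg.M24) ⧸ Subgroup.center ↥(P : Subgroup ↥Cfsg.M24)),
        Cfsg.IsElementaryAbelian 2 A ∧ Nat.card ↥A = 64) ∧
      ∀ A B : Subgroup (↥(P : Subgroup ↥Cfsg.M24) ⧸ Subgroup.center ↥(P : Subgroup ↥Cfsg.M24)),
        IsMulCommutative ↥A → Nat.card ↥A = 64 → IsMulCommutative ↥B → Nat.card ↥B = 64 → A = B := by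
  obtain ⟨f, h1, h2, -⟩ := m24_sylow P
  exact key ((QuotientGroup.quotientMulEquivOfEq h2.symm).trans (QuotientGroup.quotientKerEquivOfSurjective f h1))

end Cfsg.Agent.S3171
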