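import Cfsg.Statements.S3174
import Cfsg.Agent.Lib.Fus.SmallE
import Cfsg.Agent.Lib.Amalg.RankOne

set_option autoImplicit false
open Cfsg

namespace Cfsg.Agent.S3174

section

set_option linter.unusedSectionVars false
open Subgroup Cfsg.Lib Cfsg.Lib.Core Cfsg.Lib.PGrp
open scoped commutatorElement

theorem mul_two {G : Type*} [Group G] {A B : Subgroup G} (h : A.relIndex B = 2) {a b : G} (ha : a ∈ B) (hb : b ∈ B) :
    a * b ∈ A ↔ (a ∈ A ↔ b ∈ A) :=
  mul_mem_iff_of_index_two (H := A.subgroupOf B) h (a := ⟨a, ha⟩) (b := ⟨b, hb⟩)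

theorem z2 (a : ZMod 2) : a + a = 0 := by revert a; decide

theorem z01 (a : ZMod 2) : a = 0 ∨ a = 1 := by revert a; decide

open Classical in
/-- The indicator of the complement of a subgroup. -/
noncomputable def ind {G : Type*} [Group G] (A : Subgroup G) (a : G) : ZMod 2 := if a ∈ A then 0 else 1

theorem ind_zero {G : Type*} [Group G] {A : Subgroup G} {a : G} : ind A a = 0 ↔ a ∈ A := by
  unfold ind; split_ifs with h <;> simp [h]

theorem ind_mul {G : Type*} [Group G] {A B : Subgroup G} (h : A.relIndex B = 2) {a b : G} (ha : a ∈ B) (hb : b ∈ B) :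
    ind A (a * b) = ind A a + ind A b := by
  unfold ind
  rw [mul_two h ha hb]
  by_cases h1 : a ∈ A <;> by_cases h2 : b ∈ A <;> simp [h1, h2]
  rfl

section
variable {H : Type*} [Group H] [Finite H] {Y : Subgroup H} (hY : Y ≤ center H) (h2 : Nat.card Y = 2)
  (hs : ∀ h, h * h ∈ Y)
include hY h2 hs

theorem ext1 {A C : Subgroup H} (hA : Y ≤ A) (hAC : A ≤ C) (h8 : 8 * Nat.card A ≤ Nat.card C) :
    ∃ u ∈ C, u ∉ A ∧ u * u = 1 := by
  have := Fact.mk Nat.prime_two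
  by_contra! h
  have cm : ∀ a b : H, ⁅a, b⁆ ∈ Y := fun a b => by
    rw [show ⁅a, b⁆ = a * b * (a * b) * (b⁻¹ * a⁻¹ * b * (b⁻¹ * a⁻¹ * b)) * (b⁻¹ * b⁻¹) by
      rw [commutatorElement_def]; group]
    exact mul_mem (mul_mem (hs _) (hs _)) (hs _)
  have cc : ∀ {z}, z ∈ Y → ∀ g, Commute z g := fun hz g => (mem_center_iff.1 (hY hz) g).symm
  have r : (⊥ : Subgroup H).relIndex Y = 2 := by rw [relIndex_bot_left, h2]
  have step : ∀ B, A ≤ B → B ≤ C → Nat.card B < Nat.card C → ∃ u ∈ C, u ∉ B ∧ B ⊔ zpowers u ≤ C ∧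
      Nat.card ↥(B ⊔ zpowers u) = 2 * Nat.card B := fun B h1 h3 h4 => by
    obtain ⟨u, hu, hu'⟩ := SetLike.not_le_iff_exists.1 fun e : C ≤ B => (card_le_of_le e).not_gt h4
    have : B.Normal := normal_of_commutator_mem fun x _ g => h1 (hA (cm x g))
    exact ⟨u, hu, hu', sup_le h3 (zpowers_le.2 hu), card_sup_zpowers hu' (h1 (hA ((pow_two u).symm ▸ hs u)))⟩
  have := Nat.card_pos (α := A)
  obtain ⟨a, a1, a2, a3, a4⟩ := step A le_rfl hAC (by omega)
  obtain ⟨b, b1, b2, b3, b4⟩ := step _ le_sup_left a3 (by omega)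
  obtain ⟨c, c1, c2, -, -⟩ := step _ (le_sup_of_le_left le_sup_left) b3 (by omega)
  have ma : a ∈ A ⊔ zpowers a := mem_sup_right (mem_zpowers a)
  have mb : b ∈ A ⊔ zpowers a ⊔ zpowers b := mem_sup_right (mem_zpowers b)
  have q : ∀ u ∈ C, u ∉ A → ind ⊥ (u * u) = 1 := fun u hu hu' => if_neg (mem_bot.not.2 (h u hu hu'))
  have f : ∀ u ∈ C, u ∉ A → a * u ∉ A → ind ⊥ ⁅u, a⁆ = 1 := fun u hu h1 h3 => by
    have e : a * u * (a * u) = a * a * (u * u) * ⁅u, a⁆ :=
      calc _ = a * (⁅u, a⁆ * (a * u * u)) := by rw [commutatorElement_def]; group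
        _ = _ := by rw [(cc (cm u a) _).eq]; simp only [mul_assoc]
    have e1 := q _ (mul_mem a1 hu) h3
    rw [e, ind_mul r (mul_mem (hs _) (hs _)) (cm _ _), ind_mul r (hs _) (hs _), q a a1 a2, q u hu h1] at e1
    rwa [z2, zero_add] at e1
  have e1 := f b b1 (fun e => b2 (mem_sup_left e)) fun e => b2 ((mul_mem_cancel_left ma).1 (mem_sup_left e))
  have e2 := f c c1 (fun e => c2 (mem_sup_left (mem_sup_left e))) fun e =>
    c2 ((mul_mem_cancel_left (mem_sup_left ma)).1 (mem_sup_left (mem_sup_left e)))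
  have e3 := f _ (mul_mem b1 c1) (fun e => c2 ((mul_mem_cancel_left mb).1 (mem_sup_left (mem_sup_left e)))) fun e =>
    c2 ((mul_mem_cancel_left (mul_mem (mem_sup_left ma) mb)).1 (mul_assoc a b c ▸ mem_sup_left (mem_sup_left e)))
  rw [commutator_mul_left (cc (cm _ _) _) (cc (cm _ _) _), ind_mul r (cm _ _) (cm _ _), e1, e2, z2] at e3
  exact zero_ne_one e3

theorem elem (h9 : Nat.card H = 2 ^ 9) (h5 : 2 ^ 5 ≤ Nat.card (center H)) :
    ∃ A : Subgroup H, 2 ^ 6 ≤ Nat.card A ∧ ∀ a ∈ A, a * a = 1 := by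
  have := Fact.mk Nat.prime_two
  have hp : IsPGroup 2 H := IsPGroup.of_card h9
  have r : (⊥ : Subgroup H).relIndex Y = 2 := by rw [relIndex_bot_left, h2]
  have y2 : ∀ y ∈ Y, y * y = 1 := fun y hy => mem_bot.1 ((mul_two r hy hy).2 Iff.rfl)
  let s : center H →* Y := MonoidHom.mk' (fun z => ⟨z * z, hs z⟩) fun a b => Subtype.ext
    (Commute.mul_mul_mul_comm (mem_center_iff.1 a.2 b) _ _)
  have c0 : 2 ^ 4 ≤ Nat.card (s.ker.map (center H).subtype) := by
    have h1 := s.ker.card_mul_index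
    have h3 := Nat.le_of_dvd (by omega) (h2 ▸ s.range.card_subgroup_dvd_card)
    rw [index_ker] at h1
    rw [card_map_of_injective (subtype_injective _)]
    nlinarith
  have add : ∀ A : Subgroup H, (∀ a ∈ A, a * a = 1) → ∀ u, u ∉ A → u * u = 1 → A ≤ centralizer {u} →
      Nat.card ↥(A ⊔ zpowers u) = 2 * Nat.card A ∧ ∀ a ∈ A ⊔ zpowers u, a * a = 1 := fun A h1 u h3 h4 h6 => by
    have h7 : zpowers u ≤ centralizer (A : Set H) := zpowers_le.2 fun a ha => mem_centralizer_singleton_iff.1 (h6 ha)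
    refine ⟨card_sup_zpowers_of_mem_normalizer (centralizer_le_normalizer _ (h7 (mem_zpowers u))) h3
      (by rw [pow_two, h4]; exact one_mem _), fun a ha => (pow_two a).symm.trans (pow_eq_one_of_mem_sup h7
        (fun a ha => (pow_two a).trans (h1 a ha)) ?_ a ha)⟩
    rintro _ ⟨i, rfl⟩
    show (u ^ i) ^ 2 = 1
    rw [← zpow_natCast, ← zpow_mul, mul_comm, zpow_mul, zpow_natCast, pow_two, h4, one_zpow]
  set A := s.ker.map (center H).subtype
  have a1 : ∀ a ∈ A, a * a = 1 := by rintro _ ⟨a, ha, rfl⟩; exact congrArg Subtype.val ha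
  have a2 : Y ≤ A := fun y hy => ⟨⟨y, hY hy⟩, Subtype.ext (y2 y hy), rfl⟩
  by_cases c1 : 2 ^ 6 ≤ Nat.card A
  · exact ⟨A, c1, a1⟩
  obtain ⟨u, -, u1, u2⟩ := ext1 hY h2 hs a2 le_top (by rw [card_top]; omega)
  obtain ⟨b1, b2⟩ := add A a1 u u1 u2 ((map_subtype_le _).trans (center_le_centralizer _))
  by_cases c2 : 2 ^ 6 ≤ Nat.card ↥(A ⊔ zpowers u)
  · exact ⟨_, c2, b2⟩
  obtain ⟨i, hi⟩ := exists_card_eq_pow hp A
  have c3 : Nat.card A = 16 := by
    have : i < 5 := (Nat.pow_lt_pow_iff_right one_lt_two).1 (by omega)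
    have : 4 ≤ i := (Nat.pow_le_pow_iff_right one_lt_two).1 (hi ▸ c0)
    rw [hi, show i = 4 by omega]; rfl
  have c4 : (centralizer {u}).index ≤ 2 := by
    refine h2 ▸ Nat.card_le_card_of_injective (β := Y) (fun q => ⟨⁅q.out, u⁆, ?_⟩) fun q q' e => ?_
    · rw [show ⁅q.out, u⁆ = q.out * u * (q.out * u) * (u⁻¹ * q.out⁻¹ * u * (u⁻¹ * q.out⁻¹ * u)) * (u⁻¹ * u⁻¹) by
        rw [commutatorElement_def]; group]
      exact mul_mem (mul_mem (hs _) (hs _)) (hs _)
    · rw [← q.out_eq, ← q'.out_eq]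
      refine QuotientGroup.eq.2 (mem_centralizer_singleton_iff.2 ?_)
      have := mul_right_cancel (congrArg Subtype.val e)
      calc _ = q.out⁻¹ * (q'.out * u * q'.out⁻¹) * q'.out := by group
        _ = _ := by rw [← this]; group
  have c5 := (centralizer {u}).card_mul_index
  obtain ⟨v, v0, v1, v2⟩ := ext1 hY h2 hs (a2.trans le_sup_left) (C := centralizer {u}) (sup_le
    ((map_subtype_le _).trans (center_le_centralizer _)) (zpowers_le.2 (mem_centralizer_singleton_iff.2 rfl)))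
    (by rw [b1, c3]; nlinarith)
  obtain ⟨d1, d2⟩ := add _ b2 v v1 v2 (sup_le ((map_subtype_le _).trans (center_le_centralizer _))
    (zpowers_le.2 (mem_centralizer_singleton_iff.2 (mem_centralizer_singleton_iff.1 v0).symm)))
  exact ⟨_, by omega, d2⟩

end

theorem quot {V : Type*} [Group V] [Finite V] {N Y R : Subgroup V} [N.Normal] (hY : ∀ y ∈ Y, ∀ g, ⁅y, g⁆ ∈ N)
    (h2 : N.relIndex Y = 2) (hs : ∀ v, v ^ 2 ∈ Y) (cN : Nat.card N = 4) (cV : Nat.card V = 2 ^ 11)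
    (hR : ∀ y ∈ R, ∀ g, ⁅y, g⁆ ∈ N) (cR : 2 ^ 7 ≤ Nat.card R) :
    ∃ A : Subgroup V, 2 ^ 8 ≤ Nat.card A ∧ ∀ a ∈ A, a ^ 2 ∈ N := by
  have c : ∀ X : Subgroup V, (∀ y ∈ X, ∀ g, ⁅y, g⁆ ∈ N) → X.map (QuotientGroup.mk' N) ≤ center _ := by
    rintro X h _ ⟨z, hz, rfl⟩
    exact (mk_mem_center_iff N z).2 (h z hz)
  have h3 := PGrp.card_inf_mul_relIndex N R
  have h4 := card_le_of_le (inf_le_left (a := N) (b := R))
  have h5 := N.card_mul_index
  have h6 := card_le_of_le (c R hR)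
  rw [card_map_mk'] at h6
  rw [cN] at h4 h5
  obtain ⟨A, c1, c2⟩ := elem (c Y hY) (by rw [card_map_mk', h2]) (fun h => by
      obtain ⟨w, rfl⟩ := QuotientGroup.mk'_surjective N h
      exact ⟨w ^ 2, hs w, by rw [map_pow, pow_two]⟩) (show N.index = _ by omega) (by nlinarith)
  exact ⟨A.comap (QuotientGroup.mk' N), by rw [PGrp.card_comap_mk', cN]; omega, fun a h =>
    (QuotientGroup.eq_one_iff (a ^ 2)).1 ((pow_two _).trans (c2 _ h))⟩

variable {T : Type*} [Group T] [Finite T] (hT : IsPGroup 2 T) (ha : 2 ^ 14 ≤ Nat.card T)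
  (hb : Nat.card (Subgroup.upperCentralSeries T 4) = 16)
include hT ha hb

local notation "Z" => Subgroup.upperCentralSeries T

theorem zc {i : ℕ} (hi : i ≤ 4) : Nat.card (Z i) = 2 ^ i := by
  have := Fact.mk Nat.prime_two
  have lt : ∀ i, i ≤ 3 → 2 * Nat.card (Z i) ≤ Nat.card (Z (i + 1)) := fun i hi => by
    obtain ⟨x, -, h1, h2, h3⟩ := exists_mem_central_mod hT (Z i) ⊤ fun e => by
      have := card_le_of_le (e.trans (Subgroup.upperCentralSeries_mono T (show i ≤ 4 by omega)))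
      rw [card_top] at this
      omega
    rw [← card_sup_zpowers h1 h2]
    exact card_le_of_le (sup_le (Subgroup.upperCentralSeries_mono T i.le_succ) (zpowers_le.2 h3))
  have h0 : Nat.card (Z 0) = 1 := card_bot
  have h1 := lt 0 (by omega)
  have h2 := lt 1 (by omega)
  have h3 := lt 2 (by omega)
  have h4 := lt 3 (by omega)
  simp only [zero_add, Nat.reduceAdd] at h1 h2 h3 h4
  interval_cases i <;> omega

theorem zr {i : ℕ} (hi : i ≤ 3) : (Z i).relIndex (Z (i + 1)) = 2 := by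
  have := card_mul_relIndex_of_le (Subgroup.upperCentralSeries_mono T i.le_succ)
  rw [zc hT ha hb (i := i) (by omega), zc hT ha hb (by omega), pow_succ] at this
  exact Nat.eq_of_mul_eq_mul_left (by positivity) this

theorem zx {i : ℕ} (hi : i ≤ 3) : ∃ a ∈ Z (i + 1), a ∉ Z i := SetLike.not_le_iff_exists.1 fun e => by
  have := zr hT ha hb hi
  rw [relIndex_eq_one.2 e] at this
  omega

theorem zle {i : ℕ} (hi : i ≤ 3) {N : Subgroup T} (h : Z i ≤ N) {a : T} (h1 : a ∈ Z (i + 1)) (h2 : a ∉ Z i)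
    (h3 : a ∈ N) : Z (i + 1) ≤ N := fun b hb' => by
  by_cases e : b ∈ Z i
  · exact h e
  · exact (mul_mem_cancel_left h3).1 (h ((mul_two (zr hT ha hb hi) h1 hb').2 (iff_of_false h2 e)))

theorem step {i : ℕ} (hi : i ≤ 3) {N : Subgroup T} [N.Normal] (h : Z i ≤ N) (h1 : ¬ N ≤ Z i) : Z (i + 1) ≤ N := by
  have := Fact.mk Nat.prime_two
  obtain ⟨x, h2, h3, -, h4⟩ := exists_mem_central_mod hT (Z i) N h1
  exact zle hT ha hb hi h h4 h3 h2

theorem eqz {k : ℕ} (hk : k ≤ 3) {N : Subgroup T} [N.Normal] (h : Nat.card N = 2 ^ k) : N = Z k := by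
  have : ∀ i ≤ k, Z i ≤ N := fun i hi => by
    induction i with
    | zero => exact bot_le
    | succ i ih =>
      refine step hT ha hb (by omega) (ih (by omega)) fun e => ?_
      have := card_le_of_le e
      rw [h, zc hT ha hb (by omega), Nat.pow_le_pow_iff_right one_lt_two] at this
      omega
  exact (eq_of_le_of_card_le (this k le_rfl) (by rw [h, zc hT ha hb (by omega)])).symm

theorem bound {k : ℕ} (hk : k ≤ 3) {A N : Subgroup T} [hA : A.Normal] (h1 : Z k ≤ A) (h2 : ∀ a ∈ A, a ^ 2 ∈ Z k)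
    (h3 : ⁅A, A⁆ ≤ Z k) (h4 : ∀ n ∈ N, ∀ a ∈ A, ⁅n, a⁆ ∈ Z k) : Nat.card A ≤ 2 ^ k * 2 ^ N.index ∧
      ∃ φ : T → ZMod 2, (∀ a ∈ A, ∀ b ∈ A, φ (a * b) = φ a + φ b) ∧ (∀ a ∈ Z k, φ a = 0) ∧
      (∀ a ∈ A, (∀ g, φ (g⁻¹ * a * g) = 0) → a ∈ Z k) ∧
      (Nat.card A = 2 ^ k * 2 ^ N.index → ∀ f : T ⧸ N → ZMod 2, ∃ a ∈ A, ∀ g : T, φ (g⁻¹ * a * g) = f g) := by
  have := Fact.mk Nat.prime_two
  have cj : ∀ g, ∀ a ∈ A, g⁻¹ * a * g ∈ A := fun g a h => hA.conj_mem' a h g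
  obtain ⟨φ, p1, p2, p3⟩ : ∃ φ : T → ZMod 2, (∀ a ∈ A, ∀ b ∈ A, φ (a * b) = φ a + φ b) ∧ (∀ a ∈ Z k, φ a = 0) ∧
      ∀ a ∈ A, (∀ g, φ (g⁻¹ * a * g) = 0) → a ∈ Z k := by
    by_cases e : A ≤ Z k
    · exact ⟨0, by simp, by simp, fun a h _ => e h⟩
    obtain ⟨s, s1, s2⟩ := zx hT ha hb hk
    obtain ⟨M, m1, m2, m3⟩ := exists_index_eq_not_mem (p := 2) ((Z k).subgroupOf A) (map_le_iff_le_comap.1
      (map_subtype_commutator A ▸ h3)) (fun a => h2 a a.2) (x := ⟨s, step hT ha hb hk h1 e s1⟩) s2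
    have m4 : Z k ≤ M.map A.subtype := fun z hz => ⟨⟨z, h1 hz⟩, m1 hz, rfl⟩
    refine ⟨ind (M.map A.subtype), fun a h b h' => ind_mul (by
      rw [relIndex, subgroupOf, comap_map_eq_self_of_injective (subtype_injective _), m3]) h h',
      fun a h => ind_zero.2 (m4 h), fun a h h' => ?_⟩
    by_contra h5
    have := normalCore_le _ (step hT ha hb hk (normal_le_normalCore.2 m4) (fun e => h5 (e fun g => by
      simpa using ind_zero.1 (h' g⁻¹))) s1)
    obtain ⟨_, h6, rfl⟩ := this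
    exact m2 h6
  have out : ∀ a ∈ A, ∀ g : T, φ (g⁻¹ * a * g) = φ ((g : T ⧸ N).out⁻¹ * a * (g : T ⧸ N).out) := fun a h g => by
    obtain ⟨n, hn⟩ := QuotientGroup.mk_out_eq_mul N g
    rw [hn, show (g * n)⁻¹ * a * (g * n) = ⁅(n : T)⁻¹, g⁻¹ * a * g⁆ * (g⁻¹ * a * g) by
      rw [commutatorElement_def]; group, p1 _ (h1 (h4 _ (inv_mem n.2) _ (cj g a h))) _ (cj g a h),
      p2 _ (h4 _ (inv_mem n.2) _ (cj g a h)), zero_add]
  let Ψ : A →* Multiplicative (T ⧸ N → ZMod 2) := MonoidHom.mk'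
    (fun a => Multiplicative.ofAdd fun q => φ (q.out⁻¹ * a * q.out)) fun a b => funext fun q => by
      show φ _ = φ _ + φ _
      rw [← p1 _ (cj _ _ a.2) _ (cj _ _ b.2)]
      congr 1; simp only [coe_mul]; group
  have hk' : Nat.card Ψ.ker = 2 ^ k := by
    rw [← zc hT ha hb (i := k) (by omega), ← Nat.card_congr (subgroupOfEquivOfLe h1).toEquiv]
    congr 3
    ext a
    exact ⟨fun h => p3 a a.2 fun g => (out a a.2 g).trans (congrFun h g), fun h => funext fun q =>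
      p2 _ ((inferInstance : (Z k).Normal).conj_mem' _ h _)⟩
  have c1 := Ψ.ker.card_mul_index
  have c2 : Nat.card (Multiplicative (T ⧸ N → ZMod 2)) = 2 ^ N.index := by
    rw [Nat.card_congr Multiplicative.toAdd, Nat.card_fun, Nat.card_zmod, index]
  rw [index_ker, hk'] at c1
  refine ⟨c1 ▸ Nat.mul_le_mul_left _ (c2 ▸ card_le_card_group _), φ, p1, p2, p3, fun e f => ?_⟩
  obtain ⟨a, h⟩ : Multiplicative.ofAdd f ∈ Ψ.range := eq_top_of_card_eq Ψ.range
    ((Nat.eq_of_mul_eq_mul_left (by positivity) (c1.trans e)).trans c2.symm) ▸ mem_top _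
  exact ⟨a, a.2, fun g => (out a a.2 g).trans (congrFun h g)⟩

local notation "W" => centralizer (Subgroup.upperCentralSeries T 3 : Set T)

theorem memW {a b : T} (a1 : a ∈ Z 2) (a2 : a ∉ Z 1) (b1 : b ∈ Z 3) (b2 : b ∉ Z 2) {g : T} :
    g ∈ W ↔ g * a * g⁻¹ = a ∧ g * b * g⁻¹ = b := by
  refine ⟨fun h => ⟨mul_inv_eq_of_eq_mul (h a (Subgroup.upperCentralSeries_mono T (by omega) a1)).symm,
    mul_inv_eq_of_eq_mul (h b b1).symm⟩, fun h z hz => mem_centralizer_singleton_iff.1 (zle hT ha hb (i := 2) (by omega)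
      (zle hT ha hb (i := 1) (by omega) ?_ a1 a2 ?_) b1 b2 ?_ hz)⟩
  · rw [Subgroup.upperCentralSeries_one]; exact center_le_centralizer _
  · exact mem_centralizer_singleton_iff.2 (eq_mul_of_mul_inv_eq h.1).symm
  · exact mem_centralizer_singleton_iff.2 (eq_mul_of_mul_inv_eq h.2).symm

theorem idx {a b : T} (a1 : a ∈ Z 2) (a2 : a ∉ Z 1) (b1 : b ∈ Z 3) (b2 : b ∉ Z 2) : (W).index ≤ 8 ∧
    ((W).index = 8 → ∀ u ∈ Z 1, ∀ v ∈ Z 2, ∃ g, g * a * g⁻¹ = u * a ∧ g * b * g⁻¹ = v * b) := by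
  let κ : T ⧸ W → Z 1 × Z 2 := fun q => (⟨⁅q.out, a⁆, commutatorElement_inv a q.out ▸ inv_mem (a1 _)⟩,
    ⟨⁅q.out, b⁆, commutatorElement_inv b q.out ▸ inv_mem (b1 _)⟩)
  have hκ : Function.Injective κ := fun q q' e => by
    rw [← q.out_eq, ← q'.out_eq]
    have e1 := mul_right_cancel (congrArg (fun p : Z 1 × Z 2 => (p.1 : T)) e)
    have e2 := mul_right_cancel (congrArg (fun p : Z 1 × Z 2 => (p.2 : T)) e)
    refine QuotientGroup.eq.2 ((memW hT ha hb a1 a2 b1 b2).2 ⟨?_, ?_⟩)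
    · calc _ = q.out⁻¹ * (q'.out * a * q'.out⁻¹) * q.out := by group
        _ = _ := by rw [← e1]; group
    · calc _ = q.out⁻¹ * (q'.out * b * q'.out⁻¹) * q.out := by group
        _ = _ := by rw [← e2]; group
  have c : Nat.card (Z 1 × Z 2) = 8 := by rw [Nat.card_prod, zc hT ha hb (by omega), zc hT ha hb (by omega)]; rfl
  refine ⟨c ▸ Nat.card_le_card_of_injective κ hκ, fun e u hu v hv => ?_⟩
  obtain ⟨q, hq⟩ := ((Nat.bijective_iff_injective_and_card κ).2 ⟨hκ, e.trans c.symm⟩).2 (⟨u, hu⟩, ⟨v, hv⟩)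
  exact ⟨q.out, eq_mul_of_mul_inv_eq (congrArg (fun p : Z 1 × Z 2 => (p.1 : T)) hq),
    eq_mul_of_mul_inv_eq (congrArg (fun p : Z 1 × Z 2 => (p.2 : T)) hq)⟩

variable (hc : Nat.card (frattini (centralizer (Subgroup.upperCentralSeries T 3 : Set T))) ≤ 8)
include hc

theorem nums : (W).index = 8 ∧ Nat.card W = 2 ^ 11 ∧ (frattini W).map (W).subtype = Z 3 := by
  have := Fact.mk Nat.prime_two
  have := normal_frattiniOf (W)
  obtain ⟨a, a1, a2⟩ := zx hT ha hb (i := 1) (by omega)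
  obtain ⟨b, b1, b2⟩ := zx hT ha hb (i := 2) (by omega)
  have h1 := (idx hT ha hb a1 a2 b1 b2).1
  obtain ⟨k, hk⟩ := exists_card_eq_pow hT ((frattini W).map (W).subtype)
  have k3 : k ≤ 3 := (Nat.pow_le_pow_iff_right one_lt_two).1 (by
    rw [← hk, card_map_of_injective (subtype_injective _)]; exact hc)
  have e := eqz hT ha hb k3 hk
  have pW := hT.to_subgroup W
  have h2 := (bound hT ha hb k3 (A := W) (N := W) (e ▸ map_subtype_le _) (fun a h => e ▸ pow_mem_map_frattini pW h)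
    (e ▸ commutator_le_map_frattini pW) fun n hn a h =>
      e ▸ commutator_le_map_frattini pW (commutator_mem_commutator hn h)).1
  have h3 := (W).card_mul_index
  generalize (W).index = n at *
  have : n = 8 ∧ k = 3 := by interval_cases n <;> interval_cases k <;> omega
  obtain ⟨rfl, rfl⟩ := this
  exact ⟨rfl, by omega, e⟩

theorem zW : Z 3 ≤ W := (nums hT ha hb hc).2.2.ge.trans (map_subtype_le _)

theorem sqW {a : T} (h : a ∈ W) : a ^ 2 ∈ Z 3 :=
  have := Fact.mk Nat.prime_two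
  (nums hT ha hb hc).2.2 ▸ pow_mem_map_frattini (hT.to_subgroup W) h

theorem cmW {a b : T} (h : a ∈ W) (h' : b ∈ W) : ⁅a, b⁆ ∈ Z 3 :=
  have := Fact.mk Nat.prime_two
  (nums hT ha hb hc).2.2 ▸ commutator_le_map_frattini (hT.to_subgroup W) (commutator_mem_commutator h h')

variable (hd : ∀ U : Subgroup (centralizer (Subgroup.upperCentralSeries T 3 : Set T)), U.index ≤ 16 →
  frattini (centralizer (Subgroup.upperCentralSeries T 3 : Set T)) ≤ U)
include hd

theorem key {A N : Subgroup T} (h1 : A ≤ W) (h2 : ∀ a ∈ A, a ^ 2 ∈ N) (h3 : ⁅A, A⁆ ≤ N) (h4 : 2 ^ 8 ≤ Nat.card A) :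
    Z 3 ≤ N := by
  have := Fact.mk Nat.prime_two
  obtain ⟨-, n2, n3⟩ := nums hT ha hb hc
  have hd' : ∀ B ≤ W, 2 ^ 7 ≤ Nat.card B → Z 3 ≤ B := fun B h5 h6 => n3 ▸ map_le_iff_le_comap.2 (hd _ (by
    have := card_mul_relIndex_of_le h5
    show B.relIndex W ≤ 16
    nlinarith))
  intro s hs
  by_contra h
  obtain ⟨M, -, m2, m3⟩ := exists_index_eq_not_mem (p := 2) (N.subgroupOf A) (map_le_iff_le_comap.1
    (map_subtype_commutator A ▸ h3)) (fun a => h2 a a.2) (x := ⟨s, hd' A h1 (by omega) hs⟩) h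
  obtain ⟨_, h6, rfl⟩ := hd' (M.map A.subtype) ((map_subtype_le _).trans h1) (by
    have := M.card_mul_index
    rw [card_map_of_injective (subtype_injective _)]
    rw [m3] at this
    omega) hs
  exact m2 h6

theorem big {R : Subgroup T} (h1 : R ≤ W) (h2 : ∀ r ∈ R, ∀ w ∈ W, ⁅r, w⁆ ∈ Z 2) : Nat.card R < 2 ^ 7 := by
  by_contra! h
  obtain ⟨-, n2, n3⟩ := nums hT ha hb hc
  have l23 : Z 2 ≤ Z 3 := Subgroup.upperCentralSeries_mono T (by omega)
  have lW := zW hT ha hb hc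
  obtain ⟨A, c1, c2⟩ := quot (N := (Z 2).subgroupOf W) (Y := (Z 3).subgroupOf W) (R := R.subgroupOf W)
    (fun z hz g => hz g.1) (by rw [relIndex_subgroupOf lW, zr hT ha hb (by omega)]) (fun w => sqW hT ha hb hc w.2)
    (by rw [Nat.card_congr (subgroupOfEquivOfLe (l23.trans lW)).toEquiv, zc hT ha hb (by omega)]; rfl) n2
    (fun z hz g => h2 z hz g g.2) (by rwa [Nat.card_congr (subgroupOfEquivOfLe h1).toEquiv])
  have sq : ∀ a ∈ A.map (W).subtype, a ^ 2 ∈ Z 2 := by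
    rintro _ ⟨a, h, rfl⟩
    exact c2 a h
  obtain ⟨b, b1, b2⟩ := zx hT ha hb (i := 2) (by omega)
  refine b2 (key hT ha hb hc hd (map_subtype_le _) sq (commutator_le.2 fun s hs t ht => ?_) (by
    rwa [card_map_of_injective (subtype_injective _)]) b1)
  rw [show ⁅s, t⁆ = (s * t) ^ 2 * (t⁻¹ * s⁻¹ * t) ^ 2 * t⁻¹ ^ 2 by
    simp only [commutatorElement_def, pow_two]; group]
  exact mul_mem (mul_mem (sq _ (mul_mem hs ht)) (sq _ (mul_mem (mul_mem (inv_mem ht) (inv_mem hs)) ht)))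
    (sq _ (inv_mem ht))

theorem der : ⁅W, W⁆ = Z 3 ∧ ∀ z ∈ Z 3, z * z = 1 := by
  have := Fact.mk Nat.prime_two
  have l : ⁅W, W⁆ ≤ Z 3 := commutator_le.2 fun a h b h' => cmW hT ha hb hc h h'
  obtain ⟨k, hk⟩ := exists_card_eq_pow hT ⁅W, W⁆
  have k3 : k ≤ 3 := (Nat.pow_le_pow_iff_right one_lt_two).1 (by
    rw [← hk, ← zc hT ha hb (by omega)]; exact card_le_of_le l)
  have e := eqz hT ha hb k3 hk
  have e3 : ⁅W, W⁆ = Z 3 := by
    by_contra h
    have := big hT ha hb hc hd le_rfl fun r hr w hw => Subgroup.upperCentralSeries_mono T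
      (show k ≤ 2 by by_contra h'; exact h (e.trans (by rw [show k = 3 by omega]))) (e ▸ commutator_mem_commutator hr hw)
    rw [(nums hT ha hb hc).2.1] at this
    omega
  have cc : ∀ z ∈ Z 3, ∀ w ∈ W, Commute z w := fun z hz w hw => hw z hz
  refine ⟨e3, fun z hz => ?_⟩
  rw [← e3, Subgroup.commutator_def] at hz
  refine closure_induction (p := fun z _ => z * z = 1) ?_ (mul_one 1) (fun a b h1 h2 h3 h4 => ?_)
    (fun a _ h => by rw [← mul_inv_rev, h, inv_one]) hz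
  · rintro _ ⟨a, h1, b, h2, rfl⟩
    rw [← commutator_mul_left (cc _ (cmW hT ha hb hc h1 h2) _ h1) (cc _ (cmW hT ha hb hc h1 h2) _ h2),
      commutatorElement_eq_one_iff_mul_comm, ← pow_two, cc _ (sqW hT ha hb hc h1) _ h2]
  · rw [(cc b (l h2) a (zW hT ha hb hc (l h1))).mul_mul_mul_comm, h3, h4, mul_one]

theorem cen {s : T} (hs : s ∈ W) (hs' : ∀ w ∈ W, s * w = w * s) : s ∈ Z 3 := by
  classical
  have := Fact.mk Nat.prime_two
  obtain ⟨n1, n2, n3⟩ := nums hT ha hb hc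
  obtain ⟨d1, d2⟩ := der hT ha hb hc hd
  have lW := zW hT ha hb hc
  have l12 : Z 1 ≤ Z 2 := Subgroup.upperCentralSeries_mono T (by omega)
  have l23 : Z 2 ≤ Z 3 := Subgroup.upperCentralSeries_mono T (by omega)
  have cw := @cmW T _ _ hT ha hb hc
  have cj : ∀ g, ∀ a ∈ W, g⁻¹ * a * g ∈ W := fun g a h => (inferInstance : (W).Normal).conj_mem' a h g
  have cc : ∀ {z}, z ∈ Z 3 → ∀ {w}, w ∈ W → Commute z w := fun hz _ hw => hw _ hz
  by_contra hn
  obtain ⟨s, s1, s2⟩ := zx hT ha hb (i := 3) le_rfl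
  obtain ⟨sW, sc⟩ : s ∈ W ⊓ centralizer (W : Set T) := step hT ha hb le_rfl
    (N := W ⊓ centralizer (W : Set T)) (le_inf lW fun z hz w hw => (cc hz hw).symm) (fun e => hn (e ⟨hs, fun w hw => (hs' w hw).symm⟩)) s1
  obtain ⟨z, z1, z0⟩ := zx hT ha hb (i := 0) (by omega)
  obtain ⟨a, a1, a2⟩ := zx hT ha hb (i := 1) (by omega)
  obtain ⟨b, b1, b2⟩ := zx hT ha hb (i := 2) (by omega)
  have zc' : ∀ g, g * z = z * g := mem_center_iff.1 (Subgroup.upperCentralSeries_one T ▸ z1)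
  have mW := @memW T _ _ hT ha hb a b a1 a2 b1 b2
  have ix := (idx hT ha hb a1 a2 b1 b2).2 n1
  obtain ⟨c, c1, c2⟩ := ix 1 (one_mem _) z (l12 z1)
  obtain ⟨y, y1, y2⟩ := ix 1 (one_mem _) a a1
  rw [one_mul] at c1 y1
  have cM : ∀ m, m * a * m⁻¹ = a → ∀ u ∈ Z 2, m * u * m⁻¹ = u := fun m h u hu => mul_inv_eq_of_eq_mul
    (mem_centralizer_singleton_iff.1 (zle hT ha hb (i := 1) (by omega) (N := centralizer {m})
      (Subgroup.upperCentralSeries_one T ▸ center_le_centralizer _) a1 a2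
      (mem_centralizer_singleton_iff.2 (eq_mul_of_mul_inv_eq h).symm) hu)).symm
  have c3 : ∀ u ∈ Z 3, u ∉ Z 2 → c * u * c⁻¹ = z * u := fun u hu hu' => by
    have := cM c c1 _ ((mul_two (zr hT ha hb (i := 2) (by omega)) (inv_mem b1) hu).2 (iff_of_false
      (inv_mem_iff.not.2 b2) hu'))
    calc _ = c * b * c⁻¹ * (c * (b⁻¹ * u) * c⁻¹) := by group
      _ = _ := by rw [this, c2]; group
  have same : ∀ g h : T, g * a * g⁻¹ = h * a * h⁻¹ → g * b * g⁻¹ = h * b * h⁻¹ → h⁻¹ * g ∈ W := fun g h e1 e2 =>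
    mW.2 ⟨by calc _ = h⁻¹ * (g * a * g⁻¹) * h := by group
                _ = _ := by rw [e1]; group,
      by calc _ = h⁻¹ * (g * b * g⁻¹) * h := by group
           _ = _ := by rw [e2]; group⟩
  have cen : ∀ g, c⁻¹ * (g * c * g⁻¹) ∈ W := fun g => same _ _
    (calc _ = g * (c * (g⁻¹ * a * g) * c⁻¹) * g⁻¹ := by group
      _ = _ := by rw [cM c c1 _ ((inferInstance : (Z 2).Normal).conj_mem' a a1 g), c1]; group)
    (calc _ = g * (c * (g⁻¹ * b * g) * c⁻¹) * g⁻¹ := by group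
      _ = _ := by
        rw [c3 _ ((inferInstance : (Z 3).Normal).conj_mem' b b1 g) fun e => b2 (by
          simpa [mul_assoc] using (inferInstance : (Z 2).Normal).conj_mem _ e g), c2, ← mul_assoc, zc']; group)
  obtain ⟨f, hf⟩ : ∃ f : T → T → ZMod 2, ∀ u v, f u v = ind (Z 2) ⁅u, v⁆ := ⟨_, fun _ _ => rfl⟩
  have fl : ∀ {u v t}, u ∈ W → v ∈ W → t ∈ W → f (u * v) t = f u t + f v t := fun h1 h2 h3 => by
    rw [hf, hf, hf, commutator_mul_left (cc (cw h2 h3) h1) (cc (cw h2 h3) h3),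
      ind_mul (zr hT ha hb (i := 2) (by omega)) (cw h1 h3) (cw h2 h3)]
  have fs : ∀ u v, f u v = f v u := fun u v => by
    rw [hf, hf, ← commutatorElement_inv, ind, ind, inv_mem_iff]
  have f0 : ∀ {u v}, Commute u v → f u v = 0 := fun h => by
    rw [hf, ind_zero, commutatorElement_eq_one_iff_commute.2 h]; exact one_mem _
  have fc : ∀ g u v, f (g * u * g⁻¹) (g * v * g⁻¹) = f u v := fun g u v => by
    rw [hf, hf, ← conjugate_commutatorElement, ind, ind]
    exact if_congr ⟨fun h => by simpa [mul_assoc] using (inferInstance : (Z 2).Normal).conj_mem' _ h g,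
      fun h => (inferInstance : (Z 2).Normal).conj_mem _ h g⟩ rfl rfl
  have ck : ∀ g, ∀ {a}, a ∈ W → g * a * g⁻¹ ∈ W := fun g a h => (inferInstance : (W).Normal).conj_mem a h g
  obtain ⟨-, φ, p1, p2, p3, p4⟩ := bound hT ha hb (k := 3) le_rfl (A := W) (N := W) lW
    (fun a h => sqW hT ha hb hc h) d1.le fun n h a h' => cw h h'
  replace p4 := p4 (by rw [n1, n2]; rfl)
  obtain ⟨w, hw, w1⟩ := p4 (Pi.single 1 1)
  have form : ∀ ψ : T → ZMod 2, (∀ u ∈ W, ∀ v ∈ W, ψ (u * v) = ψ u + ψ v) → (∀ u ∈ Z 3, ψ u = 0) → ∀ F : T ⧸ W → ZMod 2,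
      ∀ v ∈ W, (∀ g, φ (g⁻¹ * v * g) = F g) → ψ v = ∑ᶠ q, F q * ψ (q.out * w * q.out⁻¹) := fun ψ q1 q2 F => by
    have := Fintype.ofFinite (T ⧸ W)
    simp only [finsum_eq_sum_of_fintype]
    have eq : ∀ u ∈ W, ∀ v ∈ W, (∀ g, φ (g⁻¹ * u * g) = φ (g⁻¹ * v * g)) → ψ u = ψ v := fun u hu v hv h => by
      have := q2 _ (p3 _ (mul_mem hu hv) fun g => by
        rw [show g⁻¹ * (u * v) * g = g⁻¹ * u * g * (g⁻¹ * v * g) by group, p1 _ (cj _ _ hu) _ (cj _ _ hv), h, z2])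
      rw [q1 u hu v hv] at this
      rw [← add_zero (ψ u), ← z2 (ψ v), ← add_assoc, this, zero_add]
    refine Pi.single_induction (fun F : T ⧸ W → ZMod 2 => ∀ v ∈ W, (∀ g, φ (g⁻¹ * v * g) = F g) →
      ψ v = ∑ q, F q * ψ (q.out * w * q.out⁻¹)) F (fun v hv h => ?_) (fun F G h1 h2 v hv h => ?_) fun q m v hv h => ?_
    · simpa using q2 v (p3 v hv h)
    · obtain ⟨u, hu, u1⟩ := p4 F
      obtain ⟨t, ht, t1⟩ := p4 G
      rw [eq v hv _ (mul_mem hu ht) fun g => by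
        rw [show g⁻¹ * (u * t) * g = g⁻¹ * u * g * (g⁻¹ * t * g) by group, p1 _ (cj _ _ hu) _ (cj _ _ ht), h, u1, t1]
        rfl, q1 u hu t ht, h1 u hu u1, h2 t ht t1, ← Finset.sum_add_distrib]
      simp [add_mul]
    · rcases z01 m with rfl | rfl
      · simpa using q2 v (p3 v hv (by simpa using h))
      · rw [eq v hv _ (ck q.out hw) fun g => by
          rw [show g⁻¹ * (q.out * w * q.out⁻¹) * g = (q.out⁻¹ * g)⁻¹ * w * (q.out⁻¹ * g) by group, h, w1]
          simp [Pi.single_apply, inv_mul_eq_one, @eq_comm _ q]]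
        simp [Pi.single_apply]
  have gen : ∀ ψ : T → ZMod 2, (∀ u ∈ W, ∀ v ∈ W, ψ (u * v) = ψ u + ψ v) → (∀ u ∈ Z 3, ψ u = 0) →
      (∀ g, ψ (g * w * g⁻¹) = 0) → ∀ v ∈ W, ψ v = 0 := fun ψ q1 q2 q3 v hv => by
    rw [form ψ q1 q2 (fun q => φ (q.out⁻¹ * v * q.out)) v hv fun g => by
      obtain ⟨n, hn⟩ := QuotientGroup.mk_out_eq_mul W g
      rw [hn, show (g * n)⁻¹ * v * (g * n) = ⁅(n : T)⁻¹, g⁻¹ * v * g⁆ * (g⁻¹ * v * g) by
        rw [commutatorElement_def]; group, p1 _ (lW (cw (inv_mem n.2) (cj g v hv))) _ (cj g v hv),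
        p2 _ (cw (inv_mem n.2) (cj g v hv)), zero_add]]
    simp [q3]
  obtain ⟨β, hβ⟩ : ∃ β : T → ZMod 2, ∀ t, β t = f (t * w * t⁻¹) w := ⟨_, fun _ => rfl⟩
  have βW : ∀ t, ∀ n ∈ W, β (t * n) = β t := fun t n h => by
    have m := (inferInstance : (Z 3).Normal).conj_mem _ (cw h hw) t
    rw [hβ, hβ, show t * n * w * (t * n)⁻¹ = t * ⁅n, w⁆ * t⁻¹ * (t * w * t⁻¹) by rw [commutatorElement_def]; group,
      fl (lW m) (ck t hw) hw, f0 (cc m hw), zero_add]
  have βi : ∀ t, β t⁻¹ = β t := fun t => by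
    rw [hβ, hβ, ← fc t, fs]; congr 1; group
  have βM : ∀ m, m * a * m⁻¹ = a → β m = 0 := fun m h => by
    by_cases e : m ∈ W
    · rw [← one_mul m, βW 1 m e, hβ, one_mul, inv_one, mul_one, f0 (Commute.refl w)]
    rw [hβ, hf, ind_zero]
    by_contra e2
    have k1 := cw (ck m hw) hw
    have k2 : m * m ∈ W := mW.2 ⟨by
      calc _ = m * (m * a * m⁻¹) * m⁻¹ := by group
        _ = _ := by rw [h, h], by
      have u := commutatorElement_inv b m ▸ inv_mem (b1 m)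
      calc _ = m * ⁅m, b⁆ * m⁻¹ * ⁅m, b⁆ * b := by rw [commutatorElement_def]; group
        _ = _ := by rw [cM m h _ u, d2 _ (l23 u), one_mul]⟩
    refine e ((memW hT ha hb a1 a2 k1 e2).2 ⟨h, ?_⟩)
    rw [conjugate_commutatorElement, show m * (m * w * m⁻¹) * m⁻¹ = ⁅m * m, w⁆ * w by
      rw [commutatorElement_def]; group, commutator_mul_left (cc (cw hw (ck m hw)) (lW (cw k2 hw)))
      (cc (cw hw (ck m hw)) (ck m hw)), commutatorElement_eq_one_iff_commute.2 (cc (cw k2 hw) (ck m hw)), one_mul,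
      ← commutatorElement_inv, inv_eq_of_mul_eq_one_right (d2 _ k1)]
  have sum : ∑ᶠ q : T ⧸ W, β q.out = 0 := by
    have e : ∀ g, φ (g⁻¹ * s * g) = φ s := fun g => by
      have u := commutatorElement_inv s g⁻¹ ▸ inv_mem (s1 g⁻¹)
      rw [show g⁻¹ * s * g = ⁅g⁻¹, s⁆ * s by rw [commutatorElement_def]; group, p1 _ (lW u) _ sW, p2 _ u, zero_add]
    have e1 : φ s = 1 := (z01 _).resolve_left fun h =>
      s2 (p3 s sW fun g => (e g).trans h)
    have := form (f · w) (fun u hu v hv => fl hu hv hw) (fun u hu => f0 (cc hu hw)) 1 s sW fun g => (e g).trans e1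
    rw [f0 (sc w hw).symm] at this
    simpa [hβ] using this.symm
  have z1c : ∀ u ∈ Z 1, u = 1 ∨ u = z := fun u hu => (em (u = 1)).imp_right fun e => by
    have := (mul_two (zr hT ha hb (i := 0) (by omega)) hu z1).2 (iff_of_false e z0)
    exact mul_right_cancel ((mem_bot.1 this).trans (d2 z (l23 (l12 z1))).symm)
  have r1 := zr hT ha hb (i := 1) (by omega)
  have out : ∀ t, t * a * t⁻¹ ≠ a → ∀ u ∈ Z 2, u ∉ Z 1 → t * u * t⁻¹ = z * u := fun t h u hu hu' => by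
    have e := (z1c ⁅t, a⁆ (commutatorElement_inv a t ▸ inv_mem (a1 t))).resolve_left fun e => h (mul_inv_eq_one.1 e)
    have e2 := mem_center_iff.1 (Subgroup.upperCentralSeries_one T ▸ (mul_two r1 (inv_mem a1) hu).2
      (iff_of_false (inv_mem_iff.not.2 a2) hu')) t
    calc _ = ⁅t, a⁆ * a * (t * (a⁻¹ * u)) * t⁻¹ := by rw [commutatorElement_def]; group
      _ = _ := by rw [e, e2]; group
  have zz := d2 z (l23 (l12 z1))
  have ord4 : ∀ t, t * a * t⁻¹ ≠ a → ⁅t, b⁆ ∉ Z 1 → β (t * c) = β t := fun t h h' => by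
    have u := commutatorElement_inv b t ▸ inv_mem (b1 t)
    have e : t * (t * c) ∈ W := mW.2 ⟨by
      calc _ = t * (t * (c * a * c⁻¹) * t⁻¹) * t⁻¹ := by group
        _ = z * (t * a * t⁻¹) := by
          rw [c1]; conv_lhs => rw [out t h a a1 a2, ← mul_assoc, zc']
          group
        _ = _ := by rw [out t h a a1 a2, ← mul_assoc, zz, one_mul], by
      calc _ = t * (t * (c * b * c⁻¹) * t⁻¹) * t⁻¹ := by group
        _ = z * (t * ⁅t, b⁆ * t⁻¹) * ⁅t, b⁆ * b := by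
          rw [c2, ← mul_assoc t z, zc' t, ← mul_assoc t, ← mul_assoc t, ← mul_assoc t, zc' t, commutatorElement_def]
          group
        _ = _ := by rw [out t h _ u h', ← mul_assoc, zz, one_mul, d2 _ (l23 u), one_mul]⟩
    rw [← βi t, ← βW t⁻¹ _ e, inv_mul_cancel_left]
  have bc : ∀ t, β (t * c) = β t := fun t => by
    have cM' : ∀ m, m * a * m⁻¹ = a → ∀ n, n * a * n⁻¹ = a → m * n * a * (m * n)⁻¹ = a := fun m h n h' =>
      calc _ = m * (n * a * n⁻¹) * m⁻¹ := by group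
        _ = _ := by rw [h', h]
    by_cases h : t * a * t⁻¹ = a
    · rw [βM t h, βM _ (cM' t h c c1)]
    by_cases h' : ⁅t, b⁆ ∈ Z 1
    swap
    · exact ord4 t h h'
    have e1 := ord4 (t * y) (fun e => h (by
      calc _ = t * (y * a * y⁻¹) * t⁻¹ := by rw [y1]
        _ = t * y * a * (t * y)⁻¹ := by group
        _ = _ := e)) fun e => a2 (by
      rw [show ⁅t * y, b⁆ = t * (y * b * y⁻¹) * t⁻¹ * b⁻¹ by rw [commutatorElement_def]; group, y2,
        show t * (a * b) * t⁻¹ * b⁻¹ = t * a * t⁻¹ * ⁅t, b⁆ by rw [commutatorElement_def]; group,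
        out t h a a1 a2] at e
      exact (mul_mem_cancel_left z1).1 ((mul_mem_cancel_right h').1 e))
    let e : Fin 2 × Fin 2 × Fin 2 → T ⧸ W := fun p => (t ^ p.1.1 * y ^ p.2.1.1 * c ^ p.2.2.1 : T)
    have he : Function.Bijective e := (Nat.bijective_iff_surjective_and_card e).2 ⟨fun q => by
      obtain ⟨g, rfl⟩ := QuotientGroup.mk_surjective q
      have k : ∀ m, m * a * m⁻¹ = a → ∃ j k : Fin 2, (y ^ j.1 * c ^ k.1)⁻¹ * m ∈ W := fun m hm => by
        have u := commutatorElement_inv b m ▸ inv_mem (b1 m)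
        have v : m * b * m⁻¹ = ⁅m, b⁆ * b := by rw [commutatorElement_def, inv_mul_cancel_right]
        by_cases h1 : ⁅m, b⁆ ∈ Z 1
        · rcases z1c _ h1 with h2 | h2
          · exact ⟨0, 0, same _ _ (by simpa using hm) (by simp [v, h2])⟩
          · exact ⟨0, 1, same _ _ (by simp [hm, c1]) (by simp [v, h2, c2])⟩
        · rcases z1c _ ((mul_two r1 u a1).2 (iff_of_false h1 a2)) with h2 | h2
          · exact ⟨1, 0, same _ _ (by simp [hm, y1]) (by
              simp [v, y2, eq_inv_of_mul_eq_one_left h2, inv_eq_of_mul_eq_one_right (d2 a (l23 a1))])⟩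
          · refine ⟨1, 1, same _ _ (by simpa using hm.trans (cM' y y1 c c1).symm) ?_⟩
            rw [v, eq_mul_inv_of_mul_eq h2, inv_eq_of_mul_eq_one_right (d2 a (l23 a1)), mul_assoc, ← y2, ← mul_assoc,
              ← mul_assoc, ← zc', mul_assoc y, ← c2]
            simp [mul_assoc]
      by_cases h1 : g * a * g⁻¹ = a
      · obtain ⟨j, k, h2⟩ := k g h1
        exact ⟨(0, j, k), QuotientGroup.eq.2 (by simpa using h2)⟩
      · obtain ⟨j, k, h2⟩ := k (t⁻¹ * g) (by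
          calc _ = t⁻¹ * (g * a * g⁻¹) * t := by group
            _ = _ := by rw [out g h1 a a1 a2, ← out t h a a1 a2]; group)
        exact ⟨(1, j, k), QuotientGroup.eq.2 (by simpa [mul_assoc] using h2)⟩, by simp; exact n1.symm⟩
    have := Fintype.ofFinite (T ⧸ W)
    have e2 : ∀ g : T, β (g : T ⧸ W).out = β g := fun g => by
      obtain ⟨n, hn⟩ := QuotientGroup.mk_out_eq_mul W g
      rw [hn, βW g n n.2]
    rw [finsum_eq_sum_of_fintype, ← he.sum_comp] at sum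
    simp only [e, e2, Fintype.sum_prod_type, Fin.sum_univ_two, Fin.val_zero, Fin.val_one, pow_zero, pow_one, one_mul,
      mul_one] at sum
    rw [βM 1 (by simp), βM c c1, βM y y1, βM _ (cM' y y1 c c1), e1, z2, z2, zero_add, add_zero] at sum
    rw [← add_zero (β t), ← z2 (β (t * c)), ← add_assoc, sum, zero_add]
  have fr : ∀ {u v t}, u ∈ W → v ∈ W → t ∈ W → f t (u * v) = f t u + f t v := fun {u v t} h1 h2 h3 => by
    rw [fs, fl h1 h2 h3, fs, fs v]
  have E : ∀ u ∈ W, ∀ v ∈ W, f (c * v * c⁻¹) u + f v u = 0 := fun u hu => gen _ (fun v hv t ht => by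
      rw [← conj_mul, fl (ck c hv) (ck c ht) hu, fl hv ht hu]; ring) (fun v hv => by
      rw [f0 (cc hv hu), f0 (cc ((inferInstance : (Z 3).Normal).conj_mem _ hv c) hu), add_zero]) fun g =>
    gen (fun u => f (c * (g * w * g⁻¹) * c⁻¹) u + f (g * w * g⁻¹) u) (fun v hv t ht => by
      rw [fr hv ht (ck c (ck g hw)), fr hv ht (ck g hw)]; ring) (fun v hv => by
      rw [f0 (cc hv (ck g hw)).symm, f0 (cc hv (ck c (ck g hw))).symm, add_zero]) (fun h => by
      rw [← fc h⁻¹, ← fc h⁻¹ (g * w * g⁻¹), show h⁻¹ * (h * w * h⁻¹) * h⁻¹⁻¹ = w by group,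
        show h⁻¹ * (g * w * g⁻¹) * h⁻¹⁻¹ = h⁻¹ * g * w * (h⁻¹ * g)⁻¹ by group, ← hβ,
        show h⁻¹ * (c * (g * w * g⁻¹) * c⁻¹) * h⁻¹⁻¹ = h⁻¹ * g * c * (c⁻¹ * (g⁻¹ * c * g⁻¹⁻¹)) * w *
          (h⁻¹ * g * c * (c⁻¹ * (g⁻¹ * c * g⁻¹⁻¹)))⁻¹ by group, ← hβ, βW _ _ (cen g⁻¹), bc, z2]) u hu
  have fi : ∀ {v u}, v ∈ W → u ∈ W → f v⁻¹ u = f v u := fun {v u} hv hu => by
    have := fl (inv_mem hv) hv hu
    rw [inv_mul_cancel, f0 (Commute.one_left u)] at this
    rw [← add_zero (f v⁻¹ u), ← z2 (f v u), ← add_assoc, ← this, zero_add]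
  let R : Subgroup T :=
    { carrier := {r | r ∈ W ∧ ∀ u ∈ W, f r u = 0}
      one_mem' := ⟨one_mem _, fun u _ => f0 (Commute.one_left u)⟩
      mul_mem' := fun h h' => ⟨mul_mem h.1 h'.1, fun u hu => by rw [fl h.1 h'.1 hu, h.2 u hu, h'.2 u hu, add_zero]⟩
      inv_mem' := fun h => ⟨inv_mem h.1, fun u hu => by rw [fi h.1 hu, h.2 u hu]⟩ }
  have mR : ∀ v ∈ W, ⁅c, v⁆ ∈ R := fun v hv => ⟨mul_mem (ck c hv) (inv_mem hv), fun u hu => by
    rw [commutatorElement_def, fl (ck c hv) (inv_mem hv) hu, fi hv hu, E u hu v hv]⟩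
  have l1 := big hT ha hb hc hd (R := R) (fun r h => h.1) fun r h u hu => ind_zero.1 (hf r u ▸ h.2 u hu)
  let χ : W →* T ⧸ Z 3 := MonoidHom.mk' (fun v => (⁅c, (v : T)⁆ : T)) fun u v => by
    rw [← QuotientGroup.mk_mul, QuotientGroup.eq]
    rw [show ⁅c, ((u * v : W) : T)⁆⁻¹ * (⁅c, (u : T)⁆ * ⁅c, (v : T)⁆) = ⁅(u : T), ⁅c, (v : T)⁆⁻¹⁆ by
      simp only [commutatorElement_def, coe_mul]; group]
    exact cw u.2 (inv_mem (mR v v.2).1)
  have mA : ∀ {v}, v ∈ χ.ker.map (W).subtype ↔ v ∈ W ∧ ⁅c, v⁆ ∈ Z 3 := ⟨by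
    rintro ⟨v, h, rfl⟩; exact ⟨v.2, (QuotientGroup.eq_one_iff _).1 h⟩,
    fun h => ⟨⟨_, h.1⟩, (QuotientGroup.eq_one_iff _).2 h.2, rfl⟩⟩
  have : (χ.ker.map (W).subtype).Normal := ⟨fun v hv g => mA.2 ⟨ck g (mA.1 hv).1, by
    rw [show ⁅c, g * v * g⁻¹⁆ = g * (c * ⁅c⁻¹ * (g⁻¹ * c * g⁻¹⁻¹), v⁆ * c⁻¹ * ⁅c, v⁆) * g⁻¹ by
      simp only [commutatorElement_def]; group]
    exact (inferInstance : (Z 3).Normal).conj_mem _ (mul_mem ((inferInstance : (Z 3).Normal).conj_mem _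
      (cw (cen g⁻¹) (mA.1 hv).1) c) (mA.1 hv).2) g⟩⟩
  have cW : c ∉ W := fun e => z0 (mem_bot.2 (mul_eq_right.1 (c2.symm.trans (mW.1 e).2)))
  have c4 : (W ⊔ zpowers c).index = 4 := by
    have h1 := card_sup_zpowers (p := 2) cW (mW.2 ⟨by
      calc _ = c * (c * a * c⁻¹) * c⁻¹ := by rw [pow_two]; group
        _ = _ := by rw [c1, c1], by
      calc _ = c * (c * b * c⁻¹) * c⁻¹ := by rw [pow_two]; group
        _ = _ := by rw [c2, ← mul_assoc, zc', mul_assoc, mul_assoc, ← mul_assoc c, c2, ← mul_assoc, zz, one_mul]⟩)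
    have h2 := (W).card_mul_index
    have h3 := (W ⊔ zpowers c).card_mul_index
    rw [n1, n2] at h2
    rw [h1, n2] at h3
    omega
  have l2 := (bound hT ha hb (k := 3) le_rfl (A := χ.ker.map (W).subtype) (N := W ⊔ zpowers c)
    (fun v hv => mA.2 ⟨lW hv, commutator_le_right ⊤ _ (commutator_mem_commutator (mem_top c) hv)⟩)
    (fun v hv => sqW hT ha hb hc (mA.1 hv).1) ((commutator_mono (map_subtype_le _) (map_subtype_le _)).trans d1.le)
    fun n hn v hv => by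
      have : W ⊔ zpowers c ≤ (centralizer {(v : T ⧸ Z 3)}).comap (QuotientGroup.mk' (Z 3)) := sup_le
        (fun n hn => mem_centralizer_singleton_iff.2 (commutatorElement_eq_one_iff_mul_comm.1
          ((QuotientGroup.eq_one_iff ⁅n, v⁆).2 (cw hn (mA.1 hv).1))))
        (zpowers_le.2 (mem_centralizer_singleton_iff.2 (commutatorElement_eq_one_iff_mul_comm.1
          ((QuotientGroup.eq_one_iff ⁅c, v⁆).2 (mA.1 hv).2))))
      exact (QuotientGroup.eq_one_iff ⁅n, v⁆).1 (commutatorElement_eq_one_iff_mul_comm.2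
        (mem_centralizer_singleton_iff.1 (this hn)))).1
  have l3 := χ.ker.card_mul_index
  have l4 := card_le_of_le (show χ.range ≤ R.map (QuotientGroup.mk' (Z 3)) by
    rintro _ ⟨v, rfl⟩; exact ⟨_, mR v v.2, rfl⟩)
  have l5 := card_mul_relIndex_of_le (show Z 3 ≤ R from fun r h => ⟨lW h, fun u hu => f0 (cc h hu)⟩)
  rw [card_map_of_injective (subtype_injective _), c4] at l2
  rw [index_ker, n2] at l3
  rw [card_map_mk'] at l4
  rw [zc hT ha hb (by omega)] at l5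
  nlinarith

theorem main : Nat.card T = 2 ^ 14 ∧ (commutator W).map (W).subtype = Z 3 ∧ (frattini W).map (W).subtype = Z 3 ∧
    Nat.card (center W) = 8 ∧ Nat.card (Z 3) = 8 ∧ (∀ z ∈ Z 3, z ^ 2 = 1) ∧
    (∃ (_ : (W).Normal), Nonempty (T ⧸ W ≃* DihedralGroup 4)) ∧ Nat.card (W ⧸ commutator W) = 2 ^ 8 ∧
    ∀ x : W ⧸ commutator W, x ^ 2 = 1 := by
  obtain ⟨n1, n2, n3⟩ := nums hT ha hb hc
  obtain ⟨d1, d2⟩ := der hT ha hb hc hd
  have c3 := zc hT ha hb (i := 3) (by omega)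
  have lW := zW hT ha hb hc
  rw [← map_subtype_commutator] at d1
  refine ⟨by rw [← (W).card_mul_index, n1, n2]; rfl, d1, n3, ?_, c3, fun z hz => (pow_two z).trans (d2 z hz),
    ⟨inferInstance, ?_⟩, ?_, fun x => ?_⟩
  · rw [← card_map_of_injective (W).subtype_injective, show (center W).map (W).subtype = Z 3 from le_antisymm (by
      rintro _ ⟨s, hs, rfl⟩
      exact cen hT ha hb hc hd s.2 fun w hw => congrArg Subtype.val (mem_center_iff.1 hs ⟨w, hw⟩).symm)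
      fun z hz => ⟨⟨z, lW hz⟩, mem_center_iff.2 fun w => Subtype.ext (w.2 z hz).symm, rfl⟩, c3]; rfl
  · obtain ⟨z, z1, z0⟩ := zx hT ha hb (i := 0) (by omega)
    obtain ⟨a, a1, a2⟩ := zx hT ha hb (i := 1) (by omega)
    obtain ⟨b, b1, b2⟩ := zx hT ha hb (i := 2) (by omega)
    have l12 : Z 1 ≤ Z 2 := Subgroup.upperCentralSeries_mono T (by omega)
    have l23 : Z 2 ≤ Z 3 := Subgroup.upperCentralSeries_mono T (by omega)
    have zc' : ∀ g, g * z = z * g := mem_center_iff.1 (Subgroup.upperCentralSeries_one T ▸ z1)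
    have mW := @memW T _ _ hT ha hb a b a1 a2 b1 b2
    have ix := (idx hT ha hb a1 a2 b1 b2).2 n1
    obtain ⟨x, x1, x2⟩ := ix z z1 1 (one_mem _)
    obtain ⟨y, y1, y2⟩ := ix 1 (one_mem _) a a1
    rw [one_mul] at x2 y1
    have a0 : a ≠ 1 := fun e => a2 (e ▸ one_mem _)
    have z0' : z ≠ 1 := fun e => z0 (e ▸ one_mem _)
    refine ((Fus.max2_of_eight (E := T ⧸ W) n1 fun h => z0' ?_).resolve_left fun ⟨e⟩ => ?_).elim
      fun _ ⟨_, h, h1, h2⟩ => h.dihedral h1 h2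
    · have e := (mW.1 (QuotientGroup.eq.1 (h.1.1 (x : T ⧸ W) y : ((x * y : T) : T ⧸ W) = (y * x : T)))).2
      have e1 : x * y * b * (x * y)⁻¹ = z * a * b :=
        calc _ = x * (y * b * y⁻¹) * x⁻¹ := by group
          _ = x * a * x⁻¹ * (x * b * x⁻¹) := by rw [y2]; group
          _ = _ := by rw [x1, x2]
      have e2 : y * x * b * (y * x)⁻¹ = a * b :=
        calc _ = y * (x * b * x⁻¹) * y⁻¹ := by group
          _ = _ := by rw [x2, y2]
      have e3 : y * x * b * (y * x)⁻¹ = x * y * b * (x * y)⁻¹ := by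
        conv_rhs => rw [← e]
        group
      exact mul_eq_right.1 (mul_right_cancel (e1.symm.trans (e3.symm.trans e2)))
    · have k : ∀ g : T, g * g ∈ W → g ∉ W → e g = QuaternionGroup.a 2 := fun g h1 h2 =>
        (Amalg.quaternion_sq_eq_one two_ne_zero (by
          rw [← map_pow, pow_two, ← QuotientGroup.mk_mul, (QuotientGroup.eq_one_iff _).2 h1, map_one])).resolve_left
          fun h => h2 ((QuotientGroup.eq_one_iff _).1 ((map_eq_one_iff _ e.injective).1 h))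
      have e1 := k x (mW.2 ⟨by
        calc _ = x * (x * a * x⁻¹) * x⁻¹ := by group
          _ = z * (x * a * x⁻¹) := by conv_lhs => rw [x1, ← mul_assoc, zc']
                                      group
          _ = _ := by rw [x1, ← mul_assoc, d2 z (l23 (l12 z1)), one_mul], by
        calc _ = x * (x * b * x⁻¹) * x⁻¹ := by group
          _ = _ := by rw [x2, x2]⟩) fun h => z0' (mul_eq_right.1 (x1.symm.trans (mW.1 h).1))
      have e2 := k y (mW.2 ⟨by
        calc _ = y * (y * a * y⁻¹) * y⁻¹ := by group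
          _ = _ := by rw [y1, y1], by
        calc _ = y * (y * b * y⁻¹) * y⁻¹ := by group
          _ = y * a * y⁻¹ * (y * b * y⁻¹) := by conv_lhs => rw [y2]
                                                group
          _ = _ := by rw [y1, y2, ← mul_assoc, d2 a (l23 a1), one_mul]⟩)
        fun h => a0 (mul_eq_right.1 (y2.symm.trans (mW.1 h).2))
      have e3 := (mW.1 (QuotientGroup.eq.1 (e.injective (e1.trans e2.symm)))).1
      refine z0' (mul_eq_right.1 (x1.symm.trans ?_))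
      calc _ = x * (x⁻¹ * y * a * (x⁻¹ * y)⁻¹) * x⁻¹ := by rw [e3]
        _ = _ := by rw [← y1]; conv_lhs => rw [y1]
                    group
  · have h1 := (commutator W).card_mul_index
    rw [← card_map_of_injective (W).subtype_injective, d1, c3, n2] at h1
    show (commutator W).index = _
    omega
  · obtain ⟨w, rfl⟩ := QuotientGroup.mk_surjective x
    obtain ⟨v, h, e⟩ := d1.ge (sqW hT ha hb hc w.2)
    exact (QuotientGroup.eq_one_iff (w ^ 2)).2 ((Subtype.ext e : v = w ^ 2) ▸ h)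

end

/-- Let T be a finite 2-group of order at least 2^14 in which the fourth term of the upper central series has order 16. Let W be the centralizer in T of the third term Z₃(T), and suppose the Frattini subgroup of W has order at most 8 and lies in every subgroup of W of index at most 16. Then T has order exactly 2^14; the derived subgroup of W and the Frattini subgroup of W both equal Z₃(T), which is elementary abelian of order 8; the centre of W has order 8; W is normal in T with quotient dihedral of order 8; and W modulo its derived subgroup is elementary abelian of order 2^8. -/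
theorem result {T : Type*} [Group T] [Finite T]
    (hT : IsPGroup 2 T) (ha : 2 ^ 14 ≤ Nat.card T) (hb : Nat.card ↥(Subgroup.upperCentralSeries T 4) = 16)
    (W : Subgroup T) (hW : W = Subgroup.centralizer ((Subgroup.upperCentralSeries T 3 : Subgroup T) : Set T))
    (hc : Nat.card ↥(frattini ↥W) ≤ 8) (hd : ∀ U : Subgroup ↥W, U.index ≤ 16 → frattini ↥W ≤ U) :
    Nat.card T = 2 ^ 14 ∧
      (commutator ↥W).map W.subtype = Subgroup.upperCentralSeries T 3 ∧
      (frattini ↥W).map W.subtype = Subgroup.upperCentralSeries T 3 ∧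
      Nat.card ↥(Subgroup.center ↥W) = 8 ∧
      Nat.card ↥(Subgroup.upperCentralSeries T 3) = 8 ∧ (∀ z ∈ Subgroup.upperCentralSeries T 3, z ^ 2 = 1) ∧
      (∃ (_ : W.Normal), Nonempty (T ⧸ W ≃* DihedralGroup 4)) ∧
      Nat.card (↥W ⧸ commutator ↥W) = 2 ^ 8 ∧ (∀ x : ↥W ⧸ commutator ↥W, x ^ 2 = 1) := by
  subst hW
  exact main hT ha hb hc hd

end Cfsg.Agent.S3174
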