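import Cfsg.Statements.S3175
import Cfsg.Agent.S3174

set_option autoImplicit false
open Cfsg

namespace Cfsg.Agent.S3175

section

set_option linter.unusedSectionVars false
open Subgroup Cfsg.Lib Cfsg.Lib.Core Cfsg.Lib.PGrp Cfsg.Agent.S3174
open scoped commutatorElement

variable {T : Type*} [Group T] [Finite T] (hT : IsPGroup 2 T)
include hT

theorem fix {α : MulAut T} {n : ℕ} (hn : Odd n) (h : α ^ n = 1) {t : T} (ht : α (t⁻¹ * α t) = t⁻¹ * α t) : α t = t := by
  have e : ∀ k : ℕ, (α ^ k) t = t * (t⁻¹ * α t) ^ k := fun k => by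
    induction k with
    | zero => simp
    | succ k ih => rw [pow_succ', MulAut.mul_apply, ih, map_mul, map_pow, ht, pow_succ', ← mul_assoc, mul_inv_cancel_left]
  have h1 := e n
  rw [h, MulAut.one_apply, left_eq_mul] at h1
  obtain ⟨k, hk⟩ := hT (t⁻¹ * α t)
  have := pow_gcd_eq_one.2 ⟨h1, hk⟩
  rw [(Nat.coprime_two_right.2 hn).pow_right k, pow_one, inv_mul_eq_one] at this
  exact this.symm

variable (ha : 2 ^ 14 ≤ Nat.card T) (hb : Nat.card (Subgroup.upperCentralSeries T 4) = 16)
  (hc : Nat.card (frattini (centralizer (Subgroup.upperCentralSeries T 3 : Set T))) ≤ 8)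
include ha hb hc

local notation "Z" => Subgroup.upperCentralSeries T
local notation "W" => centralizer (Subgroup.upperCentralSeries T 3 : Set T)

theorem aut {α : MulAut T} {n : ℕ} (hn : Odd n) (h : α ^ n = 1) (t : T) : α t = t := by
  have ch : ∀ (H : Subgroup T) [H.Characteristic] (t : T), α t ∈ H ↔ t ∈ H := fun H _ t =>
    SetLike.ext_iff.1 (characteristic_iff_comap_eq.1 inferInstance α) t
  have s : ∀ i ≤ 3, ∀ t ∈ Z (i + 1), t⁻¹ * α t ∈ Z i := fun i hi t ht =>
    (mul_two (zr hT ha hb hi) (inv_mem ht) ((ch _ t).2 ht)).2 (inv_mem_iff.trans (ch _ t).symm)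
  have f : ∀ i ≤ 3, ∀ t ∈ Z i, α t = t := fun i hi => by
    induction i with
    | zero => intro t ht; rw [mem_bot.1 ht, map_one]
    | succ i ih => exact fun t ht => fix hT hn h (ih (by omega) _ (s i (by omega) t ht))
  have tW : ∀ t, t⁻¹ * α t ∈ W := fun t z hz => by
    have := f 3 le_rfl _ ((inferInstance : (Z 3).Normal).conj_mem z hz t)
    rw [map_mul, map_mul, map_inv, f 3 le_rfl z hz] at this
    calc _ = t⁻¹ * (t * z * t⁻¹) * α t := by group
      _ = _ := by rw [← this]; group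
  suffices H : ∀ v ∈ W, v⁻¹ * α v ∈ Z 3 from fix hT hn h (fix hT hn h (f 3 le_rfl _ (H _ (tW t))))
  intro v hv
  have cq : ∀ a ∈ W, ∀ b ∈ W, Commute (a : T ⧸ Z 3) b := fun a h1 b h2 =>
    commutatorElement_eq_one_iff_commute.1 ((QuotientGroup.eq_one_iff ⁅a, b⁆).2 (cmW hT ha hb hc h1 h2))
  let χ : W →* T ⧸ Z 3 := MonoidHom.mk' (fun v => ((v : T)⁻¹ * α v : T)) fun u v => by
    have := (cq _ (inv_mem v.2) _ (tW u)).eq
    simp only [coe_mul, map_mul, mul_inv_rev, QuotientGroup.mk_mul, mul_assoc] at this ⊢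
    rw [← mul_assoc (((α u : T) : T ⧸ Z 3)), ← mul_assoc _ (_ * _), ← this]
    simp only [mul_assoc]
  have : (χ.range.comap (QuotientGroup.mk' (Z 3))).Normal := ⟨by
    rintro u ⟨v, hv⟩ g
    refine ⟨⟨g * v * g⁻¹, (inferInstance : (W).Normal).conj_mem _ v.2 g⟩, ?_⟩
    have e : ((((v : T)⁻¹ * α v : T)) : T ⧸ Z 3) = u := hv
    have := (cq _ (tW g) _ ((ch W v).2 v.2)).eq
    show (((g * v * g⁻¹)⁻¹ * α (g * v * g⁻¹) : T) : T ⧸ Z 3) = (g * u * g⁻¹ : T)
    rw [show (g * v * g⁻¹)⁻¹ * α (g * v * g⁻¹) = g * (v : T)⁻¹ * (g⁻¹ * α g * α v) * (g⁻¹ * α g)⁻¹ * g⁻¹ by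
      simp only [map_mul, map_inv]; group]
    simp only [QuotientGroup.mk_mul, QuotientGroup.mk_inv, ← e] at this ⊢
    rw [this]
    group⟩
  by_contra hn'
  obtain ⟨z, z1, z2⟩ := zx hT ha hb (i := 3) le_rfl
  obtain ⟨u, hu⟩ := step hT ha hb le_rfl (N := χ.range.comap (QuotientGroup.mk' (Z 3)))
    (fun z hz => mem_comap.2 (by rw [QuotientGroup.mk'_apply, (QuotientGroup.eq_one_iff z).2 hz]; exact one_mem _))
    (fun e => hn' (e ⟨⟨v, hv⟩, rfl⟩)) z1
  have e : ((u : T)⁻¹ * α u)⁻¹ * z ∈ Z 3 := QuotientGroup.eq.1 hu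
  have e4 : (u : T)⁻¹ * α u ∈ Z 4 := inv_mem_iff.1 ((mul_mem_cancel_right z1).1
    (Subgroup.upperCentralSeries_mono T (by omega) e))
  have e5 : (u : T)⁻¹ * (α ^ 2) u ∈ Z 3 := by
    have := mul_mem (sqW hT ha hb hc (tW u)) (s 3 le_rfl _ e4)
    simpa [pow_two, mul_assoc] using this
  have e6 := fix hT hn (α := α ^ 2) (by rw [← pow_mul, mul_comm, pow_mul, h, one_pow]) (t := u) (by
    rw [pow_two α, MulAut.mul_apply, ← pow_two, f 3 le_rfl _ e5, f 3 le_rfl _ e5])
  obtain ⟨k, rfl⟩ := hn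
  have e7 : (α ^ 2) ^ (k + 1) = α := by rw [← pow_mul, show 2 * (k + 1) = 2 * k + 1 + 1 by ring, pow_succ, h, one_mul]
  have e8 : α u = u := by
    rw [← e7]
    exact pow_mem (show α ^ 2 ∈ MulAction.stabilizer (MulAut T) (u : T) from e6) (k + 1)
  rw [e8, inv_mul_cancel, inv_one, one_mul] at e
  exact z2 e

theorem weak (hd : ∀ U : Subgroup W, U.index ≤ 16 → frattini W ≤ U) {U : Subgroup T} (e : W ≃* U) : U = W := by
  have := Fact.mk Nat.prime_two
  obtain ⟨n1, n2, n3⟩ := nums hT ha hb hc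
  have cU : Nat.card U = 2 ^ 11 := by rw [← Nat.card_congr e.toEquiv, n2]
  have pU := hT.to_subgroup U
  have h1 := key hT ha hb hc hd (A := W ⊓ U) (N := (frattini U).map U.subtype) inf_le_left
    (fun a h => pow_mem_map_frattini pU h.2)
    ((commutator_mono inf_le_right inf_le_right).trans (commutator_le_map_frattini pU)) (by
      have h1 := PGrp.card_inf_mul_relIndex W U
      have h2 := Nat.le_of_dvd (by omega) (relIndex_dvd_index_of_normal W U)
      rw [n1] at h2
      nlinarith)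
  refine PGrp.eq_of_le_of_card_le (fun u hu z hz => ?_) (by rw [n2, cU])
  obtain ⟨_, h2, rfl⟩ := h1 hz
  rw [← map_frattini_equiv e] at h2
  obtain ⟨y, h3, rfl⟩ := h2
  obtain ⟨v, hv⟩ := e.surjective ⟨u, hu⟩
  have : y * v = v * y := Subtype.ext (v.2 _ (n3.le ⟨y, h3, rfl⟩))
  simpa [hv] using congrArg (fun t => (e t : T)) this

end

theorem main {G : Type*} [Group G] [Finite G] (T : Sylow 2 G) (ha : 2 ^ 14 ≤ Nat.card (T : Subgroup G))
    (hb : Nat.card (Subgroup.upperCentralSeries (T : Subgroup G) 4) = 16) (W : Subgroup (T : Subgroup G))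
    (hW : W = Subgroup.centralizer (Subgroup.upperCentralSeries (T : Subgroup G) 3 : Set (T : Subgroup G)))
    (hc : Nat.card (frattini W) ≤ 8) (hd : ∀ U : Subgroup W, U.index ≤ 16 → frattini W ≤ U) :
    HasNormalPComplement 2 (Subgroup.normalizer ((T : Subgroup G) : Set G)) ∧
      IsWeaklyClosed (W.map (T : Subgroup G).subtype) (T : Subgroup G) := by
  subst hW
  have := Fact.mk Nat.prime_two
  refine ⟨?_, Subgroup.map_subtype_le _, fun g hg => ?_⟩
  · let P := T.subtype Subgroup.le_normalizer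
    have : (P : Subgroup (Subgroup.normalizer ((T : Subgroup G) : Set G))).Normal := Subgroup.normal_in_normalizer
    obtain ⟨H, hH⟩ := Subgroup.exists_right_complement'_of_coprime P.card_coprime_index
    refine ⟨P, H, Subgroup.normalizer_eq_top_iff.1 (eq_top_iff.2 (hH.sup_eq_top.ge.trans (sup_le
      (fun t ht => Subgroup.centralizer_le_normalizer _ fun h hh => Subtype.ext ?_) Subgroup.le_normalizer))), hH.symm⟩
    have := aut T.isPGroup' ha hb hc (α := (T : Subgroup G).normalizerMonoidHom h) (n := Nat.card H)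
      (by rw [← hH.symm.index_eq_card]; exact Nat.odd_iff.2 (Nat.two_dvd_ne_zero.1 P.not_dvd_index))
      (by rw [← map_pow, show h ^ Nat.card H = 1 from congrArg Subtype.val (pow_card_eq_one' (x := (⟨h, hh⟩ : H))),
        map_one]) ⟨t, ht⟩
    exact eq_mul_of_mul_inv_eq (congrArg Subtype.val this)
  · exact (Subgroup.map_subgroupOf_eq_of_le hg).symm.trans (congrArg _ (weak T.isPGroup' ha hb hc hd
      (((Subgroup.equivMapOfInjective _ _ (T : Subgroup G).subtype_injective).trans (Subgroup.equivMapOfInjective _ _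
        (MulAut.conj g).injective)).trans (Subgroup.subgroupOfEquivOfLe hg).symm)))

/-- Let G be a finite group whose Sylow 2-subgroup T has order at least 2^14 and whose upper central series has fourth term of order 16; let W be the centralizer in T of the third term, and suppose the Frattini subgroup of W has order at most 8 and lies in every subgroup of W of index at most 16. Then the normalizer of T in G has a normal 2-complement, and W is weakly closed in T with respect to G. -/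
theorem result {G : Type*} [Group G] [Finite G]
    (T : Sylow 2 G) (ha : 2 ^ 14 ≤ Nat.card ↥(T : Subgroup G))
    (hb : Nat.card ↥(Subgroup.upperCentralSeries ↥(T : Subgroup G) 4) = 16)
    (W : Subgroup ↥(T : Subgroup G))
    (hW : W = Subgroup.centralizer ((Subgroup.upperCentralSeries ↥(T : Subgroup G) 3 : Subgroup ↥(T : Subgroup G)) : Set ↥(T : Subgroup G)))
    (hc : Nat.card ↥(frattini ↥W) ≤ 8)
    (hd : ∀ U : Subgroup ↥W, U.index ≤ 16 → frattini ↥W ≤ U) :
    Cfsg.HasNormalPComplement 2 ↥(Subgroup.normalizer ((T : Subgroup G) : Set G)) ∧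
      Cfsg.IsWeaklyClosed (W.map (T : Subgroup G).subtype) (T : Subgroup G) := by
  exact main T ha hb W hW hc hd

end Cfsg.Agent.S3175
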