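import Cfsg.Statements.S3178
import Cfsg.Agent.Lib.Fus3.MetaAut
import Cfsg.Agent.Lib.Fus.Simple
import Cfsg.Agent.Lib.Transfer.Frobenius

set_option autoImplicit false
open Cfsg Cfsg.Lib Cfsg.Lib.Transfer Subgroup

namespace Cfsg.Agent.S3178

/-- Groups with a modular Sylow 2-subgroup have a normal 2-complement. Let S, of order 2^(n+1) with n ≥ 3, be a Sylow 2-subgroup of a finite group G, and suppose S contains an element a of order 2^n and an involution b with b a b⁻¹ = a^(2^(n-1) + 1); so S is the non-abelian 2-group with a cyclic subgroup of index 2 that is neither dihedral, semidihedral nor generalized quaternion. Then G has a normal 2-complement. -/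
theorem result {G : Type*} [Group G] [Finite G]
    (S : Sylow 2 G) (n : ℕ) (hn : 3 ≤ n) (hS : Nat.card ↥(S : Subgroup G) = 2 ^ (n + 1))
    (a b : G) (ha : a ∈ (S : Subgroup G)) (hb : b ∈ (S : Subgroup G))
    (hao : orderOf a = 2 ^ n) (hbo : orderOf b = 2) (hrel : b * a * b⁻¹ = a ^ (2 ^ (n - 1) + 1)) :
    Cfsg.HasNormalPComplement 2 G := by
  have := Fact.mk Nat.prime_two
  obtain ⟨m, rfl⟩ : ∃ m, n = m + 3 := ⟨n - 3, by omega⟩
  have h1 : orderOf (⟨a, ha⟩ : (S : Subgroup G)) = 2 ^ (m + 3) := (orderOf_coe _).symm.trans hao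
  have h2 : (zpowers (⟨a, ha⟩ : (S : Subgroup G))).index = 2 := Nat.eq_of_mul_eq_mul_left (Nat.two_pow_pos (m + 3))
    (by rw [← h1, ← Nat.card_zpowers, card_mul_index, hS, Nat.card_zpowers, h1, pow_succ])
  have h3 : ¬ Commute b a := fun e => by
    rw [e.eq, mul_inv_cancel_right, pow_succ, right_eq_mul] at hrel
    exact absurd (Nat.le_of_dvd (by positivity) (hao ▸ orderOf_dvd_of_pow_eq_one hrel)) (by simp [Nat.pow_le_pow_iff_right])
  have h4 := PGrp.sup_zpowers_eq_top_of_index_two h2 (b := ⟨b, hb⟩) fun ⟨k, e⟩ =>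
    h3 ((show a ^ k = b from congrArg Subtype.val e) ▸ Commute.zpow_self a k)
  have h5 : (⟨a, ha⟩ : (S : Subgroup G)) ^ 2 ∈ center (S : Subgroup G) := by
    refine mem_center_iff.2 fun g => mem_centralizer_singleton_iff.1 ((h4.ge.trans (sup_le (zpowers_le.2
      (mem_centralizer_singleton_iff.2 (Commute.self_pow _ 2))) (zpowers_le.2 (mem_centralizer_singleton_iff.2
        (Subtype.ext (mul_inv_eq_iff_eq_mul.1 ?_)))))) (mem_top g))
    show b * a ^ 2 * b⁻¹ = a ^ 2
    rw [← conj_pow, hrel, ← pow_mul, add_mul, pow_add, show 2 ^ (m + 3 - 1) * 2 = orderOf a by rw [hao]; rfl, pow_orderOf_eq_one,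
      one_mul]
  refine hasNormalPComplement_iff_top.2 ((sylowIn_top S).pnil_of_no_fusion fun x hx g _ hg => ?_)
  refine ((Fus.sat_group S).inner_of_metacyclic (normal_of_index_eq_two h2) h4 (fun c k h => ?_) (fun k _ _ ⟨e⟩ => h3 ?_)
    (P := zpowers x) (σ := MulAut.conj g) ⟨(MulAut.conj g).toMonoidHom.domRestrict _, ⟨zpowers_le.2 hx, fun y =>
      cj_zpowers_le.2 hg (conj_mem_cj.2 y.2), g, fun _ => rfl⟩, fun _ => rfl⟩).imp fun _ h => ⟨h.1, (h.2 x (mem_zpowers x)).symm⟩
  · have h6 := orderOf_dvd_of_mem_zpowers (h.center_eq.le h5)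
    rw [h.orderOf_z, orderOf_pow_of_dvd two_ne_zero (h1 ▸ dvd_pow_self 2 (by omega)), h1, pow_succ, Nat.mul_div_cancel _ two_pos] at h6
    exact absurd (Nat.le_of_dvd two_pos h6) (by have := Nat.one_le_two_pow (n := m); rw [pow_add]; omega)
  · exact congrArg Subtype.val (e.injective (by rw [map_mul, map_mul, mul_comm]) : (⟨b, hb⟩ * ⟨a, ha⟩ : (S : Subgroup G)) = ⟨a, ha⟩ * ⟨b, hb⟩)

end Cfsg.Agent.S3178
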