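import Cfsg.Statements.S3179
import Cfsg.Agent.Lib.BN.SzModel
import Cfsg.Agent.Lib.U3.Basic
import Cfsg.Agent.Lib.Known.PSL2
import Mathlib.RingTheory.Polynomial.Cyclotomic.Factorization

set_option autoImplicit false
open Cfsg

namespace Cfsg.Agent.S3179

open Cfsg.Lib Polynomial

theorem pow_three (x : GL (Fin 5) (ZMod 2)) (h : x ^ 9 = 1) : x ^ 3 = 1 := by
  have h1 : minpoly (ZMod 2) x.1 ∣ (X ^ 3 - 1) * cyclotomic 9 (ZMod 2) := by
    have := cyclotomic_prime_pow_mul_X_pow_sub_one (ZMod 2) 3 1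
    norm_num at this
    rw [mul_comm, this]
    exact minpoly.dvd _ _ (by simpa using congrArg (fun y : GL (Fin 5) (ZMod 2) => y.1 - 1) h)
  have h2 : IsCoprime (minpoly (ZMod 2) x.1) (cyclotomic 9 (ZMod 2)) := by
    refine isCoprime_of_irreducible_dvd (fun e => cyclotomic_ne_zero _ _ e.2) fun P hP h3 h4 => ?_
    have h5 := natDegree_of_dvd_cyclotomic_of_irreducible (p := 2) (f := 1) (by simp) (by norm_num) h4 hP
    have h6 := (natDegree_le_of_dvd h3 (minpoly.ne_zero_of_finite _ _)).trans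
      ((natDegree_le_of_dvd (Matrix.minpoly_dvd_charpoly x.1) (Matrix.charpoly_monic _).ne_zero).trans_eq
        (Matrix.charpoly_natDegree_eq_dim _))
    rw [h5, (orderOf_eq_iff (n := 6) (by norm_num)).2 ⟨by decide, by decide⟩] at h6
    simp at h6
  obtain ⟨q, hq⟩ := h2.dvd_of_dvd_mul_right h1
  have := congrArg (aeval x.1) hq
  simp only [map_sub, map_pow, aeval_X, map_one, map_mul, minpoly.aeval, zero_mul, sub_eq_zero] at this
  exact Units.ext (by simpa using this)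

theorem card_GL : Nat.card (GL (Fin 5) (ZMod 2)) = 2 ^ 10 * 9765 := by
  rw [Matrix.card_GL_field]; simp [Fin.prod_univ_five]

theorem dvd_of_odd {a n : ℕ} (ha : Odd a) (h : a ∣ n) (h' : n ∣ 2 ^ 10 * 9765) : a ∣ 9765 :=
  (Nat.Coprime.pow_right 10 (Nat.coprime_two_right.2 ha)).dvd_of_dvd_mul_left (h.trans h')

theorem lt_of_le {n k : ℕ} (h : 2 ^ n < 2 ^ k) : n < k := (Nat.pow_lt_pow_iff_right one_lt_two).1 h

/-- Let X be a section of the general linear group GL(5, 2), that is, a quotient of a subgroup of it. If X is isomorphic to PSL(2, 2^n) for some n ≥ 2, to a Suzuki group over the field with 2^(2m+1) elements for some m ≥ 1, or to PSU(3, 2^n) for some n ≥ 2, then X is isomorphic to PSL(2, 4). -/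
theorem result {H : Subgroup (GL (Fin 5) (ZMod 2))}
    {K : Subgroup ↥H} [K.Normal]
    (hX : (∃ (n : ℕ) (F : Type) (_ : Field F) (_ : Fintype F), 2 ≤ n ∧ Fintype.card F = 2 ^ n ∧
        Nonempty (↥H ⧸ K ≃* Matrix.ProjectiveSpecialLinearGroup (Fin 2) F)) ∨
      (∃ (m : ℕ) (F : Type) (_ : Field F) (_ : Fintype F), 1 ≤ m ∧ Fintype.card F = 2 ^ (2 * m + 1) ∧
        Nonempty (↥H ⧸ K ≃* ↥(Cfsg.Lie.Sz F (2 ^ (m + 1))))) ∨
      (∃ (n : ℕ) (F : Type) (_ : Field F) (_ : Fintype F), 2 ≤ n ∧ Fintype.card F = 4 ^ n ∧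
        Nonempty (↥H ⧸ K ≃* Cfsg.PSU 3 F (2 ^ n)))) :
    ∃ (F : Type) (_ : Field F) (_ : Fintype F), Fintype.card F = 4 ∧
      Nonempty (↥H ⧸ K ≃* Matrix.ProjectiveSpecialLinearGroup (Fin 2) F) := by
  have hd : Nat.card (H ⧸ K) ∣ 2 ^ 10 * 9765 :=
    (Subgroup.card_quotient_dvd_card K).trans (card_GL ▸ Subgroup.card_subgroup_dvd_card H)
  rcases hX with ⟨n, F, _, _, hn, hF, ⟨e⟩⟩ | ⟨m, F, _, _, hm, hF, ⟨e⟩⟩ | ⟨n, F, _, _, hn, hF, ⟨e⟩⟩
  · have he : Even (2 ^ n) := Nat.even_pow.2 ⟨even_two, by omega⟩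
    rw [Nat.card_congr e.toEquiv, Linear.card_PSL_two_of_even (by rwa [Nat.card_eq_fintype_card, hF]),
      Nat.card_eq_fintype_card, hF, mul_assoc] at hd
    have h1 := dvd_of_odd ((Nat.Even.sub_odd Nat.one_le_two_pow he odd_one).mul he.add_one) (dvd_mul_left _ _) hd
    have h2 := lt_of_le ((Nat.lt_of_succ_le (Nat.le_of_dvd (by norm_num)
      ((dvd_mul_left _ _).trans h1))).trans (show 9765 < 2 ^ 14 by norm_num))
    obtain rfl | rfl : n = 2 ∨ n = 3 := by interval_cases n <;> simp_all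
    · exact ⟨F, _, _, hF, ⟨e⟩⟩
    exfalso
    haveI : CharP F 2 := charP_of_card_eq_prime_pow hF
    obtain ⟨x, hx⟩ := (Known.PSL2_spectrum (F := F) 2 9).2 (Or.inr (Or.inr (by
      rw [Nat.card_eq_fintype_card, hF]; norm_num)))
    obtain ⟨y, hy⟩ := QuotientGroup.mk_surjective (e.symm x)
    have h3 : 9 ∣ orderOf (y : GL (Fin 5) (ZMod 2)) := by
      rw [← hx, ← e.symm.orderOf_eq, ← hy, Subgroup.orderOf_coe]
      exact orderOf_map_dvd (QuotientGroup.mk' K) y
    have h4 := orderOf_pow_orderOf_div (orderOf_pos _).ne' h3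
    have := orderOf_dvd_of_pow_eq_one (pow_three _ (h4 ▸ pow_orderOf_eq_one _))
    rw [h4] at this
    exact absurd this (by norm_num)
  · haveI := BN.Sz.szField_of_card hm hF
    rw [Nat.card_congr (e.trans (BN.Sz.szEquiv m).symm).toEquiv, BN.Sz.card_Sz] at hd
    have h1 := dvd_of_odd (BN.Sz.odd_q_sq_add_one m) ((dvd_mul_left _ _).mul_right _) hd
    rw [← pow_mul] at h1
    have h2 := lt_of_le ((Nat.lt_of_succ_le (Nat.le_of_dvd (by norm_num) h1)).trans
      (show 9765 < 2 ^ 14 by norm_num))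
    have : m < 3 := by omega
    interval_cases m <;> simp at h1
  · obtain ⟨σ, c⟩ := Forms.isConj_of_card (F := F) (q := 2 ^ n) (by rw [hF, ← pow_mul, mul_comm, pow_mul]; rfl)
    obtain ⟨f⟩ := U3.nonempty_psu c
    rw [Nat.card_congr (e.trans f).toEquiv] at hd
    have h0 := U3.card_PSU3 c
    have h3 : (2 ^ n) ^ 3 + 1 ∣ 3 * 9765 := by
      have h5 := mul_dvd_mul (Nat.gcd_dvd_left 3 (2 ^ n + 1)) hd
      rw [h0] at h5
      have h4 := ((dvd_mul_right _ _).mul_left _).trans h5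
      rw [mul_left_comm] at h4
      exact (Nat.Coprime.pow_right 10 (Nat.coprime_two_right.2 (Even.add_one (Nat.even_pow.2
        ⟨Nat.even_pow.2 ⟨even_two, by omega⟩, three_ne_zero⟩)))).dvd_of_dvd_mul_left h4
    rw [← pow_mul] at h3
    have h2 := lt_of_le ((Nat.lt_of_succ_le (Nat.le_of_dvd (by norm_num) h3)).trans
      (show 3 * 9765 < 2 ^ 15 by norm_num))
    have : n < 5 := by omega
    interval_cases n <;> simp at h3

end Cfsg.Agent.S3179
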