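import Cfsg.Statements.S3183
import Cfsg.Agent.Lib.Invol.Closed

set_option autoImplicit false
open Cfsg

namespace Cfsg.Agent.S3183
open Cfsg.Lib.Invol

open Subgroup Cfsg.Lib.Transfer

theorem card_center_eq {G : Type*} [Group G] [Finite G] (S U : Sylow 2 G) :
    Nat.card ((center (S : Subgroup G)).map (S : Subgroup G).subtype) =
      Nat.card ((center (U : Subgroup G)).map (U : Subgroup G).subtype) := by
  have := fact_two
  rw [card_map_of_injective (subtype_injective _), card_map_of_injective (subtype_injective _)]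
  exact Nat.card_congr (Subgroup.centerCongr (S.equiv U)).toEquiv

/-- Let G be a finite group in which the intersection of any two distinct Sylow 2-subgroups is contained in the centre of some Sylow 2-subgroup, and let S be a Sylow 2-subgroup. Then for every x in S the centralizer of x in S is a Sylow 2-subgroup of the centralizer of x in G (no 2-subgroup centralizing x is larger), and for every other Sylow 2-subgroup T the intersection S ∩ T lies in both the centre of S and the centre of T. -/
theorem result {G : Type*} [Group G] [Finite G]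
    (hCI : ∀ S T : Sylow 2 G, S ≠ T → ∃ U : Sylow 2 G,
      (S : Subgroup G) ⊓ (T : Subgroup G) ≤ (Subgroup.center ↥(U : Subgroup G)).map (U : Subgroup G).subtype)
    (S : Sylow 2 G) :
    (∀ x ∈ (S : Subgroup G), ∀ P : Subgroup G, IsPGroup 2 ↥P → P ≤ Subgroup.centralizer ({x} : Set G) →
        Nat.card ↥P ≤ Nat.card ↥((S : Subgroup G) ⊓ Subgroup.centralizer ({x} : Set G))) ∧
    (∀ T : Sylow 2 G, T ≠ S →
        (S : Subgroup G) ⊓ (T : Subgroup G) ≤
          (Subgroup.center ↥(S : Subgroup G)).map (S : Subgroup G).subtype ⊓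
            (Subgroup.center ↥(T : Subgroup G)).map (T : Subgroup G).subtype) := by
  have := fact_two
  have key : ∀ S : Sylow 2 G, ∀ x ∈ (S : Subgroup G), SylowIn 2 ((S : Subgroup G) ⊓ centralizer ({x} : Set G))
      (centralizer ({x} : Set G)) := by
    intro S x hx
    refine sylowIn_of_maximal inf_le_right (S.2.to_le inf_le_left) fun Q hQ h1 h2 => ?_
    obtain ⟨T, hT⟩ := hQ.exists_le_sylow
    by_cases hST : S = T
    · subst hST; exact le_inf hT h2
    obtain ⟨U, hU⟩ := hCI S T hST
    have h3 : (center (S : Subgroup G)).map (S : Subgroup G).subtype ≤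
        (S : Subgroup G) ⊓ centralizer ({x} : Set G) := fun y hy =>
      ⟨(mem_center_map.mp hy).1, mem_cent.mpr ((mem_center_map.mp hy).2 x hx)⟩
    have h4 : (S : Subgroup G) ⊓ centralizer ({x} : Set G) ≤
        (center (U : Subgroup G)).map (U : Subgroup G).subtype :=
      (le_inf inf_le_left (h1.trans hT)).trans hU
    have h5 := eq_of_le_of_card_ge (h3.trans h4) (card_center_eq S U).ge
    have h6 : x ∈ (center (S : Subgroup G)).map (S : Subgroup G).subtype := by
      rw [h5]; exact h4 ⟨hx, mem_cent.mpr (Commute.refl x)⟩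
    have h7 : (S : Subgroup G) ≤ Q := fun y hy =>
      h1 ⟨hy, mem_cent.mpr ((mem_center_map.mp h6).2 y hy).symm⟩
    exact le_inf (S.3 hQ h7).le h2
  have key2 : ∀ S T : Sylow 2 G, S ≠ T → ∀ x ∈ (S : Subgroup G), x ∈ (T : Subgroup G) →
      x ∈ (center (S : Subgroup G)).map (S : Subgroup G).subtype := by
    intro S T hST x hx hx'
    obtain ⟨U, hU⟩ := hCI S T hST
    have h1 := mem_center_map.mp (hU ⟨hx, hx'⟩)
    have h2 := (key S x hx).card_le U.2 (fun y hy => mem_cent.mpr (h1.2 y hy).symm)
    have h3 := eq_of_le_of_card_ge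
      (inf_le_left : (S : Subgroup G) ⊓ centralizer ({x} : Set G) ≤ S)
      ((Nat.card_congr (S.equiv U).toEquiv).le.trans h2)
    refine mem_center_map.mpr ⟨hx, fun y hy => ?_⟩
    rw [← h3] at hy
    exact (mem_cent.mp hy.2).symm
  exact ⟨fun x hx P hP h => (key S x hx).card_le hP h, fun T hT x hx =>
    ⟨key2 S T hT.symm x hx.1 hx.2, key2 T S hT x hx.2 hx.1⟩⟩

end Cfsg.Agent.S3183
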