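import Cfsg.Statements.S3181
import Cfsg.Agent.Lib.JTW.Cen3
import Cfsg.Agent.S3183
import Cfsg.Agent.Lib.Core.UpperP

set_option autoImplicit false
open Cfsg

namespace Cfsg.Agent.S3181

open Subgroup Cfsg.Lib Cfsg.Lib.Core Cfsg.Lib.BG1 Cfsg.Lib.Layer Cfsg.Lib.Gold Cfsg.Lib.JTW.Cen
open Cfsg.Lib.Amalg hiding le_cent_symm op_top

/-- Structure of finite groups with central Sylow 2-intersections. Let G be a finite group in which the intersection of any two distinct Sylow 2-subgroups is contained in the centre of some Sylow 2-subgroup. Then one of the following holds: G is solvable of 2-length at most one; the Sylow 2-subgroups of G are abelian; G has normal subgroups N < M with N of odd order and M of odd index such that M/N is a central product of an abelian 2-group and a group isomorphic to SL(2, 5); or G has a normal subgroup M of odd index which is either the direct product of an abelian 2-group with a group isomorphic to a Suzuki group Sz(2^(2m+1)) for some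 m ≥ 1, or to PSU(3, q) or SU(3, q) for some q = 2^n ≥ 4, or a central product of an abelian 2-group with a perfect group L with nontrivial centre whose central quotient is isomorphic to the Suzuki group Sz(8). -/
theorem result {G : Type*} [Group G] [Finite G]
    (hCI : ∀ S T : Sylow 2 G, S ≠ T → ∃ U : Sylow 2 G,
      (S : Subgroup G) ⊓ (T : Subgroup G) ≤ (Subgroup.center ↥(U : Subgroup G)).map (U : Subgroup G).subtype) :
    (Group.IsSolvable G ∧ Cfsg.PLengthLE 2 1 G) ∨
    (∀ S : Sylow 2 G, IsMulCommutative ↥(S : Subgroup G)) ∨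
    (∃ (N M : Subgroup G) (_ : N.Normal) (_ : M.Normal) (_ : (N.subgroupOf M).Normal), N < M ∧ Odd (Nat.card ↥N) ∧ Odd M.index ∧
      ∃ A L : Subgroup (↥M ⧸ N.subgroupOf M), IsMulCommutative ↥A ∧ IsPGroup 2 ↥A ∧
        Nonempty (↥L ≃* Matrix.SpecialLinearGroup (Fin 2) (ZMod 5)) ∧ (∀ a ∈ A, ∀ l ∈ L, a * l = l * a) ∧ A ⊔ L = ⊤) ∨
    (∃ (M : Subgroup G), M.Normal ∧ Odd M.index ∧ ∃ A L : Subgroup G, IsMulCommutative ↥A ∧ IsPGroup 2 ↥A ∧
      ((Cfsg.IsInternalDirectProduct A L M ∧
          ((∃ (m : ℕ) (F : Type) (_ : Field F) (_ : Fintype F), 1 ≤ m ∧ Fintype.card F = 2 ^ (2 * m + 1) ∧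
              Nonempty (↥L ≃* ↥(Cfsg.Lie.Sz F (2 ^ (m + 1))))) ∨
            (∃ (n : ℕ) (F : Type) (_ : Field F) (_ : Fintype F), 2 ≤ n ∧ Fintype.card F = 4 ^ n ∧
              (Nonempty (↥L ≃* Cfsg.PSU 3 F (2 ^ n)) ∨ Nonempty (↥L ≃* ↥(Cfsg.SU 3 F (2 ^ n))))))) ∨
        (A ≤ M ∧ L ≤ M ∧ (∀ a ∈ A, ∀ l ∈ L, a * l = l * a) ∧ A ⊔ L = M ∧ Group.IsPerfect ↥L ∧
          Subgroup.center ↥L ≠ ⊥ ∧
          ∃ (F : Type) (_ : Field F) (_ : Fintype F), Fintype.card F = 8 ∧
            Nonempty (↥L ⧸ Subgroup.center ↥L ≃* ↥(Cfsg.Lie.Sz F 4))))) := by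
  have hI : CI G := fun S T hS hT hne x hx => ((Core.map_subtype_center S).le
    ((S3183.result hCI hS.toSylowTop).2 hT.toSylowTop (fun e => hne (congrArg Sylow.toSubgroup e).symm) hx).1).2
  by_cases hc : ∀ S : Sylow 2 G, IsMulCommutative ↥(S : Subgroup G)
  · exact .inr (.inl hc)
  obtain ⟨P, hP⟩ := not_forall.1 hc
  let M := pElementClosure 2 (⊤ : Subgroup G)
  have hM : M.Normal := pec_normal ⊤
  have hPM : (P : Subgroup G) ≤ M := (syl_top P).le_pec
  have oM : Odd M.index := Nat.odd_iff.2 (Nat.two_dvd_ne_zero.1 fun e => P.not_dvd_index (e.trans (index_dvd_of_le hPM)))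
  have hS : Syl 2 ((P : Subgroup G).subgroupOf M) ⊤ := (syl_top P).pec.subgroupOf_top
  have hg : pElementClosure 2 (⊤ : Subgroup M) = ⊤ := by
    rw [← subgroupOf_self, pec_subgroupOf le_rfl, pec_pec, subgroupOf_self]
  let N := (pPrimeCore 2 M).map M.subtype
  have hN : N.Normal := normal_of_top_le_normalizer (le_normalizer_of_normal.trans (normalizer_le_normalizer_pPrimeCoreOf M))
  have eN : N.subgroupOf M = pPrimeCore 2 M := map_subtype_subgroupOf _
  have oN : ¬ 2 ∣ Nat.card (N.subgroupOf M) := eN ▸ not_dvd_card_pPrimeCore Nat.prime_two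
  let φ := QuotientGroup.mk' (N.subgroupOf M)
  have hφ : Function.Surjective φ := QuotientGroup.mk'_surjective _
  have kφ : φ.ker = N.subgroupOf M := QuotientGroup.ker_mk' _
  have hS' := hS.map_top hφ
  have hg' : pElementClosure 2 (⊤ : Subgroup (M ⧸ N.subgroupOf M)) = ⊤ := by
    rw [eq_top_iff, ← map_top_of_surjective φ hφ, ← hg, map_le_iff_le_comap]
    exact pec_le_of_syl fun Q hQ => map_le_iff_le_comap.1 (le_pec (hQ.isPGroup.map φ) (by rw [hg, map_top_of_surjective φ hφ]; exact le_top))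
  by_cases hn : (((P : Subgroup G).subgroupOf M).map φ).Normal
  · have h1 : ⊤ ≤ (P : Subgroup G).subgroupOf M ⊔ N.subgroupOf M := by
      rw [← kφ, ← comap_map_eq, ← map_le_iff_le_comap, map_top_of_surjective φ hφ, ← hg']
      exact hS'.pec_le le_rfl le_normalizer_of_normal
    have h2 : pPrimeCore 2 G ⊔ P = pPrimeCore 2 G ⊔ M := le_antisymm (sup_le_sup_left hPM _) (sup_le le_sup_left (by
      refine (map_subtype_top M).ge.trans ((map_mono h1).trans ?_)
      rw [Subgroup.map_sup, map_subgroupOf_of_le hPM, eN, sup_comm]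
      exact sup_le_sup_right (map_subtype_pPrimeCore_le M) _))
    have h3 : (pPrimeCore 2 G ⊔ P).Normal := h2 ▸ inferInstance
    have := FT.solvable_of_not_two_dvd _ (not_dvd_card_pPrimeCore (G := G) Nat.prime_two)
    have := solvable_of_pgroup Nat.prime_two P.2
    have := isSolvable_sup_of_normal (P : Subgroup G) (pPrimeCore 2 G)
    have := FT.odd_order_solvable (G ⧸ (pPrimeCore 2 G ⊔ P)) (Nat.odd_iff.2 (Nat.two_dvd_ne_zero.1 fun e =>
      P.not_dvd_index (e.trans (index_dvd_of_le le_sup_right))))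
    exact .inl ⟨isSolvable_of_normal_of_quotient (pPrimeCore 2 G ⊔ P), (pLengthLE_one_iff_normal P).2 h3⟩
  have hc' : ¬ ((P : Subgroup G).subgroupOf M).map φ ≤ 𝐂(((P : Subgroup G).subgroupOf M).map φ) := fun h => hP (by
    rw [← comm_eq_bot_iff, ← map_commutator, Subgroup.map_eq_bot_iff, kφ] at h
    have h1 := isPGroup_eq_bot_of_not_dvd (hS.isPGroup.to_le (comm_le_of_le le_rfl le_rfl)) h oN
    exact PGrp.isMulCommutative_iff_forall.2 fun x hx y hy =>
      congrArg Subtype.val (comm_eq_bot_iff.1 h1 (show (⟨y, hPM hy⟩ : M) ∈ _ from hy) ⟨x, hPM hx⟩ hx))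
  have kψ := QuotientGroup.ker_mk' (center (M ⧸ N.subgroupOf M))
  have hψ := QuotientGroup.mk'_surjective (center (M ⧸ N.subgroupOf M))
  generalize QuotientGroup.mk' (center (M ⧸ N.subgroupOf M)) = ψ at kψ hψ
  obtain ⟨h1, h2, h3, h4, h5⟩ := ((hI.sub M).quot hφ).bender (pPrimeCore_quotient_eq_bot_of_eq _ eN) hg' hS' hn hc' hψ kψ
  by_cases h6 : IsL2e ((M ⧸ N.subgroupOf M) ⧸ center _)
  · obtain ⟨s1, s2, s3, -⟩ := split h3 hg' hψ kψ.le
    refine .inr (.inr (.inl ⟨N, M, hN, hM, inferInstance, lt_of_le_of_ne (map_subtype_le _) fun e => hc' ?_, ?_, oM, _, _,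
      comm_of_le inferInstance (s1.trans kψ.le), isPGroup_pCore _ _, sl25 h6 s3 fun e => hc' ?_,
      fun a ha l _ => (mem_center_iff.1 (kψ.le (s1 ha)) l).symm, s2⟩))
    · rw [(Subgroup.map_eq_bot_iff _).2 (le_top.trans (kφ.trans (subgroupOf_eq_top.2 e.ge)).ge)]; exact bot_le
    · exact Nat.card_congr (subgroupOfEquivOfLe (map_subtype_le _ : N ≤ M)).toEquiv ▸ Nat.odd_iff.2 (Nat.two_dvd_ne_zero.1 oN)
    · have h7 := comm_eq_bot_iff.2 (le_centralizer_iff_isMulCommutative.2 (AbS.l2e_syl h6 (hS'.map_top hψ)).2.1)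
      rw [← map_commutator, Subgroup.map_eq_bot_iff] at h7
      exact comm_eq_bot_iff.1 (eq_bot_iff.2 fun x hx => congrArg Subtype.val
        (e.le (show (⟨x, commutator_mono le_top le_top hx⟩ : commutator _) ∈ _ from h7 hx)))
  have h7 : NG ((P : Subgroup G).subgroupOf M) := NG.of_map (NG.of_map (h5.resolve_left h6))
  · have k1 : φ.ker ≤ center M := kφ.le.trans ((BG1.le_cent_symm (hg.ge.trans (hS.pec_le (BG1.le_cent_symm
      ((hI.sub M).le_cent hS h7 oN le_normalizer_of_normal)) le_normalizer_of_normal))).trans centralizer_top.le)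
    have k2 : (ψ.comp φ).ker ≤ center M := by
      rw [← MonoidHom.comap_ker, kψ]; exact comap_center_le hg (by rwa [kφ]) k1
    obtain ⟨s1, s2, s3, s4, s5⟩ := split h3 hg (π := ψ.comp φ) (hψ.comp hφ) k2
    have f := (commutator M).equivMapOfInjective _ M.subtype_injective
    have a1 : ∀ a ∈ (pCore 2 M).map M.subtype, ∀ l ∈ (commutator M).map M.subtype, a * l = l * a := by
      rintro _ ⟨a, ha, rfl⟩ _ ⟨l, -, rfl⟩
      exact congrArg Subtype.val (mem_center_iff.1 (k2 (s1 ha)) l).symm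
    have a2 : (pCore 2 M).map M.subtype ⊔ (commutator M).map M.subtype = M := by
      rw [← Subgroup.map_sup, s2, map_subtype_top]
    have a3 : (∀ x ∈ ((ψ.comp φ).comp (commutator M).subtype).ker, x ^ 3 = 1) →
        IsInternalDirectProduct ((pCore 2 M).map M.subtype) ((commutator M).map M.subtype) M := fun h =>
      ⟨map_subtype_le _, map_subtype_le _, a1, by
        rw [← map_inf _ _ _ M.subtype_injective, Subgroup.map_eq_bot_iff_of_injective _ M.subtype_injective, eq_bot_iff]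
        intro x hx
        obtain ⟨k, hk⟩ := isPGroup_iff_mem.1 (isPGroup_pCore 2 M) x hx.1
        exact orderOf_eq_one_iff.1 (Nat.eq_one_of_dvd_coprimes ((by norm_num : Nat.Coprime 2 3).pow_left k)
          (orderOf_dvd_of_pow_eq_one hk) (orderOf_dvd_of_pow_eq_one (congrArg Subtype.val (h ⟨x, hx.2⟩ (s1 hx.1))))), a2⟩
    refine .inr (.inr (.inr ⟨M, hM, oM, (pCore 2 M).map M.subtype, (commutator M).map M.subtype,
      comm_map (comm_of_le inferInstance (s1.trans k2)) _, (isPGroup_pCore _ _).map _, ?_⟩))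
    rcases h4 with h4 | ⟨F, _, _, m, hm, hF, ⟨e⟩⟩ | ⟨F, _, _, n, hn, hF, ⟨e⟩⟩
    · exact absurd h4 h6
    · have s6 := Mult.equiv_comp_stem s3 e
      have e1 : (e.toMonoidHom.comp ((ψ.comp φ).comp (commutator M).subtype)).ker = center (commutator M) :=
        (MonoidHom.ker_comp_of_injective _ _ e.injective).trans s5
      by_cases h8 : center (commutator M) = ⊥
      · obtain ⟨e2⟩ := equiv_of_ker s6 (e1.trans h8)
        exact .inl ⟨a3 fun x hx => by rw [mem_bot.1 ((s5.trans h8).le hx), one_pow],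
          .inl ⟨m, F, _, _, hm, hF, ⟨f.symm.trans e2⟩⟩⟩
      obtain rfl : m = 1 := by_contra fun h => h8 (e1.symm.trans
        (Mult.ker_eq_bot_of_mult_one (S2111.result (by omega) hF) s6))
      refine .inr ⟨map_subtype_le _, map_subtype_le _, a1, a2, Group.IsPerfect.ofSurjective (f := f.toMonoidHom) f.surjective,
        fun h => h8 (card_eq_one.1 ((Nat.card_congr (centerCongr f).toEquiv).trans (card_eq_one.2 h))), F, _, _, hF,
        ⟨((Linear.quotientCenterCongr f.symm).trans (QuotientGroup.quotientMulEquivOfEq e1.symm)).trans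
          (QuotientGroup.quotientKerEquivOfSurjective _ s6.1)⟩⟩
    · obtain ⟨b1, b2⟩ := su_cover hn hF e s3
      exact .inl ⟨a3 b2, .inr ⟨n, F, _, _, hn, by rw [hF, ← pow_mul, mul_comm, pow_mul]; rfl,
        b1.imp (fun ⟨e⟩ => ⟨f.symm.trans e⟩) fun ⟨e⟩ => ⟨f.symm.trans e⟩⟩⟩

end Cfsg.Agent.S3181
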