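import Cfsg.Statements.S3182
import Cfsg.Agent.S1169
import Cfsg.Agent.Lib.BS.Bro
import Cfsg.Agent.Lib.Wal.Main
import Cfsg.Agent.Lib.Linear.PSL2Small

set_option autoImplicit false
open Cfsg

namespace Cfsg.Agent.S3182
open Cfsg.Lib.Invol
open Cfsg.Lib.BS

open Subgroup Cfsg.Lib.Core Cfsg.Lib.Amalg Cfsg.Lib.BG1 Cfsg.Lib.Invol

/-- Simple groups with central Sylow 2-intersections. Let G be a non-abelian finite simple group in which the intersection of any two distinct Sylow 2-subgroups is contained in the centre of some Sylow 2-subgroup. Then G is isomorphic to PSL(2, q) for some prime power q ≡ 0, 3 or 5 mod 8; or G has abelian Sylow 2-subgroups and an involution t whose centralizer is a maximal subgroup of G and is the direct product of the subgroup generated by t with a subgroup E having a normal subgroup isomorphic to PSL(2, q), q odd and greater than 3, with trivial centralizer in E; or G is isomorphic to a Suzuki group Sz(2^(2m+1))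 with m ≥ 1, or to PSU(3, 2^n) with n ≥ 2. -/
theorem result {G : Type*} [Group G] [Finite G] [IsSimpleGroup G]
    (hG : ¬ IsMulCommutative G)
    (hCI : ∀ S T : Sylow 2 G, S ≠ T → ∃ U : Sylow 2 G,
      (S : Subgroup G) ⊓ (T : Subgroup G) ≤ (Subgroup.center ↥(U : Subgroup G)).map (U : Subgroup G).subtype) :
    (∃ (F : Type) (_ : Field F) (_ : Fintype F),
        (Fintype.card F % 8 = 0 ∨ Fintype.card F % 8 = 3 ∨ Fintype.card F % 8 = 5) ∧
        Nonempty (G ≃* Matrix.ProjectiveSpecialLinearGroup (Fin 2) F)) ∨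
    ((∀ S : Sylow 2 G, IsMulCommutative ↥(S : Subgroup G)) ∧
      ∃ t : G, orderOf t = 2 ∧ IsCoatom (Subgroup.centralizer ({t} : Set G)) ∧
        ∃ E : Subgroup G, Cfsg.IsInternalDirectProduct (Subgroup.zpowers t) E (Subgroup.centralizer ({t} : Set G)) ∧
          ∃ (F : Type) (_ : Field F) (_ : Fintype F), Odd (Fintype.card F) ∧ 3 < Fintype.card F ∧
            ∃ N : Subgroup ↥E, N.Normal ∧ Nonempty (↥N ≃* Matrix.ProjectiveSpecialLinearGroup (Fin 2) F) ∧
              Subgroup.centralizer (N : Set ↥E) = ⊥) ∨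
    (∃ (m : ℕ) (F : Type) (_ : Field F) (_ : Fintype F), 1 ≤ m ∧ Fintype.card F = 2 ^ (2 * m + 1) ∧
        Nonempty (G ≃* ↥(Cfsg.Lie.Sz F (2 ^ (m + 1))))) ∨
    (∃ (n : ℕ) (F : Type) (_ : Field F) (_ : Fintype F), 2 ≤ n ∧ Fintype.card F = 4 ^ n ∧
        Nonempty (G ≃* Cfsg.PSU 3 F (2 ^ n))) := by
  haveI := fact_two
  haveI := Fact.mk Nat.prime_five
  have l2 : Lib.Gold.IsL2e G → ∃ (F : Type) (_ : Field F) (_ : Fintype F),
      (Fintype.card F % 8 = 0 ∨ Fintype.card F % 8 = 3 ∨ Fintype.card F % 8 = 5) ∧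
      Nonempty (G ≃* Matrix.ProjectiveSpecialLinearGroup (Fin 2) F) := fun ⟨F, _, _, ⟨n, h1, h2⟩, ⟨e⟩⟩ => by
    rcases h1.eq_or_lt with rfl | h1
    · obtain ⟨e1⟩ := Lib.Linear.psl2_four_equiv (F := F) (by rw [Nat.card_eq_fintype_card, h2]; rfl)
      obtain ⟨e2⟩ := Lib.Linear.psl2_five_equiv (F := ZMod 5) (Nat.card_zmod 5)
      exact ⟨ZMod 5, inferInstance, inferInstance, Or.inr (Or.inr (by rw [ZMod.card])), ⟨(e.trans e1).trans e2.symm⟩⟩
    · obtain ⟨k, rfl⟩ := Nat.exists_eq_add_of_le h1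
      exact ⟨F, _, _, Or.inl (by rw [h2, pow_add]; omega), ⟨e⟩⟩
  obtain ⟨S⟩ : Nonempty (Sylow 2 G) := inferInstance
  have hS := syl_top S
  have h0 : (S : Subgroup G) ≠ ⊥ := hS.ne_bot (card_top (G := G) ▸ (Lib.FT.even_card_of_simple G fun h => hG ⟨⟨h⟩⟩).two_dvd)
  have hsc : IsStronglyClosed ((S : Subgroup G) ⊓ centralizer (S : Subgroup G)) (S : Subgroup G) := ⟨inf_le_left, fun x hx g hy => ⟨hy, by
    obtain ⟨U, hU, h1⟩ := exists_syl_ge (H := centralizer {g * x * g⁻¹}) (S.isPGroup'.to_inf_left (K := centralizer {g * x * g⁻¹})) inf_le_right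
    have h2 : Syl 2 U ⊤ := (hS.conj_top g).of_contains (fun s hs => mem_cent1.mpr (by
      simpa [mul_assoc] using commute_conj g (show Commute _ x from hx.2 _ (mem_cj.mp hs)))) le_top hU
    by_cases e : S = h2.toSylowTop
    · exact fun s hs => (mem_cent1.mp (hU.le (show s ∈ (h2.toSylowTop : Subgroup G) from e ▸ hs))).eq
    obtain ⟨V, hV⟩ := hCI _ _ e
    rw [map_subtype_center, h2.coe_toSylowTop] at hV
    have h3 : (V : Subgroup G) ≤ centralizer ((S : Subgroup G) ⊓ U : Subgroup G) := le_centralizer_iff.mp (hV.trans inf_le_right)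
    obtain ⟨k, hk, h4⟩ := ((syl_top V).of_le (h3.trans (centralizer_le_normalizer _)) le_top).exists_le_conj
      (S.isPGroup'.to_inf_left (K := normalizer ((S : Subgroup G) ⊓ U : Subgroup G))) inf_le_right
    replace h4 := h4.trans ((cj_mono k h3).trans (cj_eq_self_iff.mpr (normalizer_le_normalizer_centralizer _ hk)).le)
    have h5 := eq_of_inf_normalizer_le S.isPGroup' (inf_le_left (b := U)) fun s hs => ⟨hs.1, h1 ⟨hs.1, mem_cent1.mpr
      (Commute.symm (h4 hs _ ⟨hy, h1 ⟨hy, mem_cent1.mpr (Commute.refl _)⟩⟩))⟩⟩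
    exact absurd (Sylow.ext (hS.eq_of_le U (inf_eq_left.mp h5) le_top h2.isPGroup).symm) e⟩⟩
  rcases S1169.result S ((S : Subgroup G) ⊓ centralizer (S : Subgroup G)) (by simpa using inf_center_ne_bot S.isPGroup' le_rfl le_normalizer h0)
    (Lib.PGrp.isMulCommutative_iff_forall.mpr fun x hx y hy => (mem_inf.mp hy).2 x (mem_inf.mp hx).1) hsc with hc | ⟨H, hH⟩
  · rcases Lib.Wal.walter hG hS hc with ⟨F, _, _, h1, -, e⟩ | h1 | ⟨t, E, K, h⟩
    · exact Or.inl ⟨F, _, _, Or.inr h1, e⟩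
    · exact Or.inl (l2 h1)
    obtain ⟨F, _, _, h1, h2, ⟨e⟩⟩ := h.l2
    have hK : K ≤ E := h.sup.ge.trans' le_sup_left
    refine Or.inr (Or.inl ⟨fun T => ?_, t, h.two, h.coatom, E, h.prod, F, _, _, Nat.odd_iff.mpr (by omega), by omega, K.subgroupOf E,
      (normal_subgroupOf_iff_le_normalizer hK).mpr (h.prod.2.1.trans h.norm), ⟨(subgroupOfEquivOfLe hK).trans e⟩,
      eq_bot_iff.mpr fun x hx => Subtype.ext (mem_bot.mp (h.cent.le ⟨x.2, fun y hy => congrArg Subtype.val (hx ⟨y, hK hy⟩ hy)⟩))⟩)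
    exact ⟨⟨fun x y => (S.equiv T).symm.injective (by rw [map_mul, map_mul, hc.1.1])⟩⟩
  · rcases bro.bender hH with h1 | ⟨F, _, _, m, h1⟩ | ⟨F, _, _, n, h1, h2, e⟩
    · exact Or.inl (l2 h1)
    · exact Or.inr (Or.inr (Or.inl ⟨m, F, _, _, h1⟩))
    · exact Or.inr (Or.inr (Or.inr ⟨n, F, _, _, h1, by rw [h2, ← pow_mul, mul_comm, pow_mul]; rfl, e⟩))

end Cfsg.Agent.S3182
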