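import Cfsg.Statements.S3184
import Cfsg.Agent.Lib.Block.IsoElt

set_option autoImplicit false
open Cfsg

namespace Cfsg.Agent.S3184

open Cfsg.Lib.Block Cfsg.Lib.Char Cfsg.Lib.Amalg
set_option linter.style.haveILetI false

/-- Let G be a finite group in which the intersection of any two distinct Sylow 2-subgroups is contained in the centre of some Sylow 2-subgroup, and let S be a Sylow 2-subgroup. If C is a nontrivial cyclic characteristic subgroup of S, then the involution of C is central modulo the largest normal subgroup of odd order of G: each of its conjugates has the same image in G/O(G). -/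
theorem result {G : Type*} [Group G] [Finite G]
    (hCI : ∀ S T : Sylow 2 G, S ≠ T → ∃ U : Sylow 2 G,
      (S : Subgroup G) ⊓ (T : Subgroup G) ≤ (Subgroup.center ↥(U : Subgroup G)).map (U : Subgroup G).subtype)
    (S : Sylow 2 G) (C : Subgroup ↥(S : Subgroup G)) (hC : C ≠ ⊥) (hCc : IsCyclic ↥C) (hCh : C.Characteristic)
    (c : ↥(S : Subgroup G)) (hc : c ∈ C) (hc2 : orderOf c = 2) :
    ∀ g : G, (QuotientGroup.mk (s := Cfsg.oddCore G) (g * (c : G) * g⁻¹)) =
      QuotientGroup.mk (s := Cfsg.oddCore G) (c : G) := by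
  haveI : Fact (Nat.Prime 2) := ⟨Nat.prime_two⟩
  have hc' : orderOf (c : G) = 2 := by rwa [Subgroup.orderOf_coe]
  have hN : ∀ n ∈ Subgroup.normalizer ((S : Subgroup G) : Set G), n * c * n⁻¹ = c := fun n hn => by
    have h1 : (S : Subgroup G).normalizerMonoidHom ⟨n, hn⟩ c ∈ C :=
      (Subgroup.characteristic_iff_map_le.1 hCh _) ⟨c, hc, rfl⟩
    exact congrArg Subtype.val (Lib.Invol.eq_of_isCyclic hCc h1 hc
      ((MulEquiv.orderOf_eq _ c).trans hc2) hc2)
  have hS : (c : G) ∈ Subgroup.centralizer ((S : Subgroup G) : Set G) := fun s hs =>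
    mul_inv_eq_iff_eq_mul.1 (hN s (Subgroup.le_normalizer hs))
  have h1 : ∀ g : G, g * c * g⁻¹ ∈ Subgroup.centralizer ((S : Subgroup G) : Set G) →
      g * c * g⁻¹ = c := fun g hg => by
    obtain ⟨n, hn, e⟩ := (Lib.Transfer.sylowIn_top S).exists_normalizer_conj_eq
      (Subgroup.mem_top g) hS hg
    rw [← e, hN n hn.2]
  have hiso : IsIsolatedInvolution (c : G) := Lib.Invol.isolated_of_sylow S hc' fun g hg => by
    obtain ⟨T, h2, hT⟩ := Lib.Transfer.exists_sylowIn_ge (p := 2)
      (Q := (S : Subgroup G) ⊓ Subgroup.centralizer {g * c * g⁻¹}) (S.2.to_le inf_le_left)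
      inf_le_right
    have h3 : Lib.Transfer.SylowIn 2 (Lib.Transfer.cj g S) (Subgroup.centralizer {g * c * g⁻¹}) :=
      ((Lib.Transfer.sylowIn_top S).cj_of_mem (Subgroup.mem_top g)).mono (fun y hy => by
        have := Lib.Invol.commute_conj g (show Commute _ _ from hS _ (Lib.Transfer.mem_cj.1 hy))
        exact Lib.Invol.mem_cent.2 (by simpa [mul_assoc] using this)) le_top
    obtain ⟨T', rfl⟩ := Lib.Transfer.SylowIn.exists_sylow_top
      ((Lib.Transfer.sylowIn_top S).of_card_le le_top hT.isPGroup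
        (by rw [hT.card_eq h3, Lib.Transfer.card_cj]))
    by_cases hST : S = T'
    · subst hST
      exact h1 g fun s hs => (Lib.Invol.mem_cent.1 (hT.le hs)).eq
    obtain ⟨U, hU⟩ := hCI S T' hST
    obtain ⟨h, rfl⟩ := MulAction.exists_smul_eq G S U
    have h4 : ∀ y ∈ (S : Subgroup G) ⊓ Subgroup.centralizer {g * c * g⁻¹},
        h⁻¹ * y * h⁻¹⁻¹ ∈ Subgroup.centralizer ((S : Subgroup G) : Set G) := fun y hy s hs => by
      obtain ⟨y, h5, rfl⟩ := hU ⟨hy.1, h2 hy⟩
      have := congrArg Subtype.val (Subgroup.mem_center_iff.1 h5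
        ⟨h * s * h⁻¹, Lib.Invol.mem_smul_sylow.2 (by simpa [mul_assoc] using hs)⟩)
      have := congrArg (fun t => h⁻¹ * t * h) this
      simpa [mul_assoc] using this
    have h5 := h1 _ (h4 c ⟨c.2, Lib.Invol.mem_cent.2 (show Commute _ _ from (hS _ hg).symm)⟩)
    have h6 := h1 (h⁻¹ * g) (by
      convert h4 _ ⟨hg, Lib.Invol.mem_cent.2 (Commute.refl _)⟩ using 1; group)
    have h7 : h⁻¹ * (g * c * g⁻¹) * h⁻¹⁻¹ = h⁻¹ * c * h⁻¹⁻¹ :=
      (show _ = h⁻¹ * g * c * (h⁻¹ * g)⁻¹ by group).trans (h6.trans h5.symm)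
    simpa using h7
  intro g
  rw [eq_comm, QuotientGroup.eq, Lib.Invol.inv_of_two hc']
  have := z_star hiso g
  rwa [Lib.Invol.inv_of_two hc', mul_assoc, mul_assoc, ← mul_assoc g] at this

end Cfsg.Agent.S3184
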