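import Cfsg.Statements.S3190
import Cfsg.Agent.Lib.Invol.Closed
import Cfsg.Agent.Lib.Invol.Classes
import Cfsg.Agent.Lib.Coprime.Basic
import Cfsg.Agent.Lib.PGrp.Basic

set_option autoImplicit false
open Cfsg

namespace Cfsg.Agent.S3190
open Cfsg.Lib.Invol

open Subgroup Cfsg.Lib.Transfer
open scoped commutatorElement

/-- Let p be an odd prime and, inside a finite group, let P be a p-subgroup normalized by a Klein four-group T. Let R be a subgroup of P, normal in P and normalized by T, such that P is the product of R with the centralizer of T in P. If T centralizes the centre of P, then T centralizes the centre of R. -/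
theorem result {X : Type*} [Group X] [Finite X]
    {p : ℕ} (hp : p.Prime) (hodd : Odd p) (P T R : Subgroup X) (hP : IsPGroup p ↥P) (hT : IsKleinFour ↥T)
    (hTP : T ≤ Subgroup.normalizer (P : Set X)) (hRP : R ≤ P) (hRn : (R.subgroupOf P).Normal)
    (hTR : T ≤ Subgroup.normalizer (R : Set X)) (hfac : R ⊔ (P ⊓ Subgroup.centralizer (T : Set X)) = P)
    (hZ : T ≤ Subgroup.centralizer (((Subgroup.center ↥P).map P.subtype : Subgroup X) : Set X)) :
    T ≤ Subgroup.centralizer (((Subgroup.center ↥R).map R.subtype : Subgroup X) : Set X) := by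
  have := Fact.mk hp
  set Z := (center R).map R.subtype with hZdef
  have hZab : IsMulCommutative Z := mulComm_of_forall fun x hx y hy =>
    ((mem_center_map.mp hx).2 y (mem_center_map.mp hy).1).eq
  have hN : normalizer (R : Set X) ≤ normalizer (Z : Set X) := fun g hg =>
    mem_normalizer_of_cj_le (cj_le_iff.mpr fun z hz => mem_center_map.mpr
      ⟨conj_mem_of_mem_normalizer hg (mem_center_map.mp hz).1, fun y hy => by
        have := commute_conj g ((mem_center_map.mp hz).2 _
          (conj_mem_of_mem_normalizer (inv_mem hg) hy))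
        simpa [mul_assoc] using this⟩)
  have hZP : Z ≤ P := (map_subtype_le _).trans hRP
  have hcop : (Nat.card T).Coprime (Nat.card Z) := by
    obtain ⟨k, hk⟩ := (hP.to_le hZP).exists_card_eq
    rw [hT.card_four, hk]
    exact Nat.Coprime.pow_right _ (Nat.Coprime.pow_left 2 (Nat.coprime_two_left.mpr hodd))
  have h1 := Cfsg.Lib.Coprime.centralizer_inf_commutator_eq_bot (hTR.trans hN) hcop
  have hW : ⁅Z, T⁆ ≤ Z := Cfsg.Lib.Coprime.commutator_le_of_le_normalizer (hTR.trans hN)
  have hPR : P ≤ normalizer (R : Set X) := (normal_subgroupOf_iff_le_normalizer hRP).mp hRn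
  have hPW : P ≤ normalizer ((⁅Z, T⁆ : Subgroup X) : Set X) := by
    rw [← hfac]
    refine sup_le (fun r hr => centralizer_le_normalizer _ (mem_centS.mpr fun w hw =>
      ((mem_center_map.mp (hW hw)).2 r hr).symm)) fun c hc => ?_
    rw [← cj_eq_iff, cj_commutator, cj_eq_of_mem_normalizer (hN (hPR hc.1)),
      cj_eq_of_mem_normalizer (centralizer_le_normalizer _ hc.2)]
  have hbot : ⁅Z, T⁆ = ⊥ := by
    by_contra hne
    have hn : ((⁅Z, T⁆ : Subgroup X).subgroupOf P).Normal :=
      (normal_subgroupOf_iff_le_normalizer (hW.trans hZP)).mpr hPW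
    obtain ⟨z, hz, hzc, ho⟩ := Cfsg.Lib.PGrp.exists_central_orderOf_eq hP
      ((⁅Z, T⁆ : Subgroup X).subgroupOf P) (by
      rw [Ne, subgroupOf_eq_bot, disjoint_iff, inf_eq_left.mpr (hW.trans hZP)]; exact hne)
    have h2 : (z : X) ∈ (Z ⊓ centralizer (T : Set X)) ⊓ ⁅Z, T⁆ :=
      ⟨⟨hW hz, mem_centS.mpr fun t ht => (mem_centS.mp (hZ ht) z (mem_map_of_mem _ hzc)).symm⟩, hz⟩
    rw [h1, mem_bot] at h2
    have : z = 1 := Subtype.ext h2
    rw [this, orderOf_one] at ho
    exact hp.one_lt.ne ho
  rw [commutator_comm, commutator_eq_bot_iff_le_centralizer] at hbot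
  exact hbot

end Cfsg.Agent.S3190
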