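import Cfsg.Statements.S3192
import Cfsg.Agent.Lib.Exc.Rank2

set_option autoImplicit false
open Cfsg

namespace Cfsg.Agent.S3192

/-- Simple groups of conjugate type rank three. For a finite group G consider the set of indices of the centralizers of the non-central elements of G. Then G is a non-abelian simple group for which this set has exactly three members if and only if G is isomorphic to PSL(2, 2^m) for some m ≥ 2. -/
theorem result (G : Type*) [Group G] [Finite G] :
    (IsSimpleGroup G ∧ ¬ IsMulCommutative G ∧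
        Set.ncard {m : ℕ | ∃ x : G, x ∉ Subgroup.center G ∧ m = (Subgroup.centralizer ({x} : Set G)).index} = 3) ↔
      ∃ (m : ℕ) (F : Type) (_ : Field F) (_ : Fintype F), 2 ≤ m ∧ Fintype.card F = 2 ^ m ∧
        Nonempty (G ≃* Matrix.ProjectiveSpecialLinearGroup (Fin 2) F) := by
  open Cfsg.Lib Cfsg.Lib.Exc Cfsg.Lib.Exc.Rank in
  constructor
  · rintro ⟨h1, h2, h3⟩
    obtain ⟨a, b, c, -, -, -, e⟩ := Set.ncard_eq_three.1 h3
    have h4 : AC G := ac_of_three h2 (a := a) (b := b) (c := c) fun x hx =>
      (Set.ext_iff.1 e _).1 ⟨x, (mem_center_iff_of_simple h2).2 hx, rfl⟩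
    obtain ⟨F, i1, i2, m, h5⟩ := h4.simple h2 (Small.even_card_of_simple h2)
    exact ⟨m, F, i1, i2, h5⟩
  · rintro ⟨m, F, _, _, h1, h2, ⟨e⟩⟩
    have h4 : 4 ≤ Nat.card F := by
      rw [Nat.card_eq_fintype_card, h2]; exact Nat.pow_le_pow_right two_pos h1
    have h5 : (2 : F) = 0 := by
      have := FiniteField.cast_card_eq_zero F
      rw [h2] at this
      exact (pow_eq_zero_iff (show m ≠ 0 by omega)).1 (by exact_mod_cast this)
    have := Linear.isSimpleGroup_PSL2 h4
    refine ⟨e.isSimpleGroup, fun h => Linear.not_isSolvable_PSL2 h4 (Group.isSolvable_of_comm fun x y => ?_),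
      (congrArg Set.ncard (CS_equiv e)).trans (ncard_CS_psl_even h5 h4)⟩
    obtain ⟨x, rfl⟩ := e.surjective x
    obtain ⟨y, rfl⟩ := e.surjective y
    rw [← map_mul, h.is_comm.comm, map_mul]

end Cfsg.Agent.S3192
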