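import Cfsg.Statements.S3195
import Cfsg.Agent.Lib.Invol.Closed
import Cfsg.Agent.Lib.Invol.Classes
import Cfsg.Agent.S0200
import Cfsg.Agent.Lib.Core.PCore

set_option autoImplicit false
open Cfsg

namespace Cfsg.Agent.S3195
open Cfsg.Lib.Invol

open Subgroup

variable {G : Type*} [Group G]

theorem inv_of_mul {a b r : G} (ha : a * r * a⁻¹ = r⁻¹) (hb : Commute b r) :
    (a * b) * r * (a * b)⁻¹ = r⁻¹ := by
  rw [← ha]
  calc (a * b) * r * (a * b)⁻¹ = a * (b * r) * b⁻¹ * a⁻¹ := by group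
    _ = a * r * a⁻¹ := by rw [hb.eq]; group

theorem not_both {a r : G} (hr : Odd (orderOf r)) (h1 : r ≠ 1) (ha : a * r * a⁻¹ = r⁻¹)
    (hc : Commute a r) : False :=
  h1 (eq_one_of_odd_of_inv hr (by rw [← ha, hc.eq, mul_inv_cancel_right]))

theorem step [Finite G] {a b r s : G} (hab : Commute a b)
    (h : ∀ g : G, ∃ v, (v = a ∨ v = b ∨ v = a * b) ∧ Commute v (g * a * g⁻¹))
    (h' : ∀ g : G, ∃ v, (v = a ∨ v = b ∨ v = a * b) ∧ Commute v (g * (a * b) * g⁻¹))
    (hr : Odd (orderOf r)) (hr1 : r ≠ 1) (hs : Odd (orderOf s)) (hs1 : s ≠ 1)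
    (har : a * r * a⁻¹ = r⁻¹) (hbr : Commute b r) (hbs : b * s * b⁻¹ = s⁻¹) (has : Commute a s) :
    False := by
  have hcr : (a * b) * r * (a * b)⁻¹ = r⁻¹ := inv_of_mul har hbr
  have hcs : (a * b) * s * (a * b)⁻¹ = s⁻¹ := by rw [hab.eq]; exact inv_of_mul hbs has
  have key : ∀ u t v g : G, Odd (orderOf t) → u * t * u⁻¹ = t⁻¹ → Commute g u → Commute v u →
      Commute v ((g * t) * u * (g * t)⁻¹) → Commute v (g * t * g⁻¹) := by
    intro u t v g ht hu hg hv hc
    have e : (g * t) * u * (g * t)⁻¹ = (g * t * g⁻¹) * (g * t * g⁻¹) * u := by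
      have h1 : u * t⁻¹ = t * u := by
        have : u * t⁻¹ * u⁻¹ = t := by
          have := congrArg (·⁻¹) hu
          simpa [mul_assoc] using this
        exact mul_inv_eq_iff_eq_mul.mp this
      calc (g * t) * u * (g * t)⁻¹ = g * t * (u * t⁻¹) * g⁻¹ := by group
        _ = g * t * t * g⁻¹ * (g * u * g⁻¹) := by rw [h1]; group
        _ = _ := by rw [hg.eq]; group
    rw [e] at hc
    have h2 := hc.mul_right hv.inv_right
    rw [mul_inv_cancel_right] at h2
    exact (commute_of_sq_of_odd (by rwa [orderOf_conj]) h2.symm).symm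
  have hrs : Commute s r := by
    obtain ⟨v, hv, hc⟩ := h (s * r)
    have hva : Commute v a := by
      rcases hv with rfl | rfl | rfl
      exacts [Commute.refl _, hab.symm, (Commute.refl a).mul_left hab.symm]
    have h1 := key a r v s hr har has.symm hva hc
    rcases hv with rfl | rfl | rfl
    · exfalso
      refine not_both hr hr1 har ?_
      have := commute_conj s⁻¹ h1
      rw [inv_inv, mul_assoc s⁻¹ v, has.eq] at this
      simpa [mul_assoc] using this
    · refine commute_of_sq_of_odd hs ?_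
      have e : s⁻¹ * r * s = s * r * s⁻¹ := by
        calc s⁻¹ * r * s = (v * s * v⁻¹) * r * (v * s * v⁻¹)⁻¹ := by rw [hbs]; group
          _ = v * (s * (v⁻¹ * r * v) * s⁻¹) * v⁻¹ := by group
          _ = v * (s * r * s⁻¹) * v⁻¹ := by rw [mul_assoc v⁻¹, ← hbr.eq, inv_mul_cancel_left]
          _ = _ := by rw [h1.eq]; group
      calc s * s * r = s * (s * r * s⁻¹) * s := by group
        _ = r * (s * s) := by rw [← e]; group
    · exfalso
      have e : s⁻¹ * r⁻¹ * s = s * r * s⁻¹ := by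
        calc s⁻¹ * r⁻¹ * s = ((a * b) * s * (a * b)⁻¹) * ((a * b) * r * (a * b)⁻¹) *
              ((a * b) * s * (a * b)⁻¹)⁻¹ := by rw [hcs, hcr]; group
          _ = (a * b) * (s * r * s⁻¹) * (a * b)⁻¹ := by group
          _ = _ := by rw [h1.eq]; group
      have e2 : (s * s) * r * (s * s)⁻¹ = r⁻¹ := by
        calc (s * s) * r * (s * s)⁻¹ = s * (s * r * s⁻¹) * s⁻¹ := by group
          _ = r⁻¹ := by rw [← e]; group
      have e3 : Commute ((s * s) * (s * s)) r := by
        have e4 : (s * s) * r⁻¹ * (s * s)⁻¹ = r := by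
          have := congrArg (·⁻¹) e2
          simpa [mul_assoc] using this
        calc (s * s) * (s * s) * r = (s * s) * ((s * s) * r * (s * s)⁻¹) * (s * s) := by group
          _ = ((s * s) * r⁻¹ * (s * s)⁻¹) * ((s * s) * (s * s)) := by
            rw [e2]; simp only [mul_inv_rev, mul_assoc, inv_mul_cancel_left]
          _ = _ := by rw [e4]
      have hs2 : Odd (orderOf (s * s)) := by rw [← sq]; exact odd_orderOf_pow hs 2
      exact not_both hr hr1 e2 (commute_of_sq_of_odd hs2 e3)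
  have ht : Odd (orderOf (s * r)) := Odd.of_dvd_nat (hs.mul hr) (hrs.orderOf_mul_dvd_mul_orderOf)
  have hct : (a * b) * (s * r) * (a * b)⁻¹ = (s * r)⁻¹ := by
    calc (a * b) * (s * r) * (a * b)⁻¹ = ((a * b) * s * (a * b)⁻¹) * ((a * b) * r * (a * b)⁻¹) := by
          group
      _ = (s * r)⁻¹ := by rw [hcs, hcr, hrs.eq, mul_inv_rev]
  obtain ⟨v, hv, hc⟩ := h' (1 * (s * r))
  have hva : Commute v (a * b) := by
    rcases hv with rfl | rfl | rfl
    exacts [(Commute.refl _).mul_right hab, hab.symm.mul_right (Commute.refl _), Commute.refl _]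
  have h1 := key (a * b) (s * r) v 1 ht hct (Commute.one_left _) hva hc
  rw [one_mul, inv_one, mul_one] at h1
  rcases hv with rfl | rfl | rfl
  · exact not_both hr hr1 har (by simpa using has.inv_right.mul_right h1)
  · exact not_both hs hs1 hbs (by simpa using h1.mul_right hbr.inv_right)
  · refine not_both ht (fun e => ?_) hct h1
    exact not_both hr hr1 har (by rw [eq_inv_of_mul_eq_one_right e]; exact has.inv_right)

/-- Let A be a Klein four-subgroup of a finite group G. If every G-conjugate of every involution of A commutes with some involution of A (its centralizer meets A nontrivially), then A meets the largest normal 2-subgroup O₂(G) nontrivially. -/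
theorem result {G : Type*} [Group G] [Finite G]
    (A : Subgroup G) (hA : IsKleinFour ↥A)
    (h : ∀ a ∈ A, a ≠ 1 → ∀ g : G, A ⊓ Subgroup.centralizer ({g * a * g⁻¹} : Set G) ≠ ⊥) :
    A ⊓ Cfsg.pCore 2 G ≠ ⊥ := by
  intro hbot
  have hinv : ∀ u ∈ A, u ≠ 1 → ∃ r : G, r ≠ 1 ∧ Odd (orderOf r) ∧ u * r * u⁻¹ = r⁻¹ ∧
      ∃ v ∈ A, v ≠ 1 ∧ v ≠ u ∧ Commute v r := by
    intro u hu h1
    obtain ⟨r, hr1, hr, hur⟩ := Cfsg.Agent.S0200.result u (klein_two hA hu h1) fun N hN hp hm => by
      have : u ∈ A ⊓ Cfsg.pCore 2 G := ⟨hu, Cfsg.Lib.Core.le_pCore hp hm⟩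
      rw [hbot, mem_bot] at this
      exact h1 this
    obtain ⟨⟨v, hv⟩, hv1⟩ := (ne_bot_iff_exists_ne_one).mp (h u hu h1 r)
    have hv1' : v ≠ 1 := fun e => hv1 (Subtype.ext e)
    have hc : Commute v r := by
      have h2 := mem_cent.mp hv.2
      have e : r * u * r⁻¹ = r * r * u := by
        have : u * r⁻¹ * u⁻¹ = r := by
          have := congrArg (·⁻¹) hur
          simpa [mul_assoc] using this
        calc r * u * r⁻¹ = r * (u * r⁻¹ * u⁻¹) * u := by group
          _ = _ := by rw [this]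
      rw [e] at h2
      have h3 := h2.mul_right (klein_commute hA hv.1 hu).inv_right
      rw [mul_inv_cancel_right] at h3
      exact (commute_of_sq_of_odd hr h3.symm).symm
    exact ⟨r, hr1, hr, hur, v, hv.1, hv1', fun e => not_both hr hr1 hur (e ▸ hc), hc⟩
  have hh : ∀ a ∈ A, ∀ b ∈ A, a ≠ 1 → b ≠ 1 → a ≠ b → ∀ u ∈ A, u ≠ 1 → ∀ g : G,
      ∃ v, (v = a ∨ v = b ∨ v = a * b) ∧ Commute v (g * u * g⁻¹) := by
    intro a ha b hb ha1 hb1 hab u hu hu1 g
    obtain ⟨⟨v, hv⟩, hv1⟩ := (ne_bot_iff_exists_ne_one).mp (h u hu hu1 g)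
    exact ⟨v, (klein_eq_mul hA ha hb hv.1 ha1 hb1 hab).resolve_left fun e => hv1 (Subtype.ext e),
      mem_cent.mp hv.2⟩
  have hmul : ∀ a ∈ A, ∀ b ∈ A, a ≠ b → a * b ≠ 1 := fun a ha b hb hab e =>
    hab (by rw [← mul_one a, ← klein_mul_self hA hb, ← mul_assoc, e, one_mul])
  obtain ⟨a, ha, ha1, -⟩ := klein_exists_ne hA 1
  obtain ⟨r, hr1, hr, har, b, hb, hb1, hba, hbr⟩ := hinv a ha ha1
  obtain ⟨s, hs1, hs, hbs, v, hv, hv1, hvb, hvs⟩ := hinv b hb hb1
  have hvr : v * r * v⁻¹ = r⁻¹ := by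
    rcases klein_eq_mul hA ha hb hv ha1 hb1 hba.symm with e | e | e | e
    · exact absurd e hv1
    · rw [e]; exact har
    · exact absurd e hvb
    · rw [e]; exact inv_of_mul har hbr
  exact step (klein_commute hA hv hb) (hh v hv b hb hv1 hb1 hvb v hv hv1)
    (hh v hv b hb hv1 hb1 hvb _ (mul_mem hv hb) (hmul v hv b hb hvb)) hr hr1 hs hs1 hvr hbr hbs hvs

end Cfsg.Agent.S3195
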