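import Cfsg.Statements.S3196
import Cfsg.Agent.Lib.Amalg.Syl
import Cfsg.Agent.Lib.Core.Subnormal

set_option autoImplicit false
open Cfsg

namespace Cfsg.Agent.S3196

open Subgroup Cfsg.Lib Cfsg.Lib.Core Cfsg.Lib.Amalg

/-- Let p be a prime and K a set of subgroups of order p of a finite group G, closed under conjugation, such that at least two distinct members of K commute elementwise, and whenever two distinct members X, Y of K commute: every subgroup of order p of the group XY they generate belongs to K, and every member W of K has centralizer meeting XY nontrivially. Then some member V of K commutes elementwise with every member of K and lies in O_p(G); in particular G is not simple. -/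
theorem result {G : Type*} [Group G] [Finite G]
    {p : ℕ} (hp : p.Prime) (K : Set (Subgroup G)) (hK : ∀ X ∈ K, Nat.card ↥X = p)
    (hKc : ∀ X ∈ K, ∀ g : G, X.map (MulAut.conj g).toMonoidHom ∈ K)
    (hex : ∃ X ∈ K, ∃ Y ∈ K, X ≠ Y ∧ ∀ x ∈ X, ∀ y ∈ Y, x * y = y * x)
    (ha : ∀ X ∈ K, ∀ Y ∈ K, X ≠ Y → (∀ x ∈ X, ∀ y ∈ Y, x * y = y * x) →
      ∀ Z : Subgroup G, Z ≤ X ⊔ Y → Nat.card ↥Z = p → Z ∈ K)
    (hb : ∀ X ∈ K, ∀ Y ∈ K, X ≠ Y → (∀ x ∈ X, ∀ y ∈ Y, x * y = y * x) →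
      ∀ W ∈ K, (X ⊔ Y) ⊓ Subgroup.centralizer (W : Set G) ≠ ⊥) :
    (∃ V ∈ K, (∀ W ∈ K, ∀ v ∈ V, ∀ w ∈ W, v * w = w * v) ∧ V ≤ Cfsg.pCore p G) ∧ ¬ IsSimpleGroup G := by
  haveI := Fact.mk hp
  have pr : ∀ X ∈ K, ∀ A ≤ X, A ≠ ⊥ → A = X := fun X hX A h1 h2 =>
    eq_of_le_of_card_ge h1 (by
      rw [hK X hX, ((Nat.dvd_prime hp).1 (hK X hX ▸ card_dvd_of_le h1)).resolve_left fun h => h2 (card_eq_one.1 h)])
  have pg : ∀ X ∈ K, IsPGroup p X := fun X hX => .of_card (n := 1) (by rw [hK X hX, pow_one])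
  have nb : ∀ X ∈ K, X ≠ ⊥ := fun X hX h => hp.one_lt.ne' (by rw [← hK X hX, h, card_bot])
  have cm : ∀ {X Y : Subgroup G}, X ≤ 𝐂 Y ↔ ∀ x ∈ X, ∀ y ∈ Y, x * y = y * x :=
    ⟨fun h x hx y hy => (h hx y hy).symm, fun h x hx y hy => (h x hx y hy).symm⟩
  have rf : ∀ X ∈ K, X ≤ 𝐂 X := fun X hX => by
    haveI := isCyclic_of_prime_card (hK X hX)
    exact le_centralizer X
  have cd : ∀ X ∈ K, ∀ Y ∈ K, X ≠ Y → X ≤ 𝐂 Y → Nat.card (X ⊔ Y : Subgroup G) = p * p := fun X hX Y hY h1 h2 => by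
    rw [card_sup_of_disjoint (h2.trans (centralizer_le_normalizer _)), hK X hX, hK Y hY]
    by_contra h
    exact h1 ((pr X hX _ inf_le_left h).symm.trans (pr Y hY _ inf_le_right h))
  have ab : ∀ X ∈ K, ∀ Y ∈ K, X ≤ 𝐂 Y → X ⊔ Y ≤ 𝐂 (X ⊔ Y : Subgroup G) := fun X hX Y hY h =>
    sup_le (le_centralizer_iff.1 (sup_le (rf X hX) (le_centralizer_iff.1 h))) (le_centralizer_iff.1 (sup_le h (rf Y hY)))
  have two : ∀ X ∈ K, ∀ Y ∈ K, X ≠ Y → X ≤ 𝐂 Y → ∀ A ∈ K, ∀ B ∈ K, A ≠ B → A ≤ X ⊔ Y → B ≤ X ⊔ Y → A ⊔ B = X ⊔ Y :=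
    fun X hX Y hY h1 h2 A hA B hB h3 h4 h5 => eq_of_le_of_card_ge (sup_le h4 h5) (by
      rw [cd X hX Y hY h1 h2, cd A hA B hB h3 (h4.trans ((ab X hX Y hY h2).trans (centralizer_le h5)))])
  have pt : ∀ X ∈ K, ∀ Y ∈ K, X ≠ Y → X ≤ 𝐂 Y → ∀ A ≤ X ⊔ Y, A ≠ ⊥ → ∃ Z ∈ K, Z ≤ A := fun X hX Y hY h1 h2 A h3 h4 => by
    have hd : p ∣ Nat.card A := (((pg X hX).to_sup_of_normal_right' (pg Y hY) (h2.trans (centralizer_le_normalizer _))).to_le h3).card_eq_or_dvd.resolve_left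
      fun h => h4 (card_eq_one.1 h)
    obtain ⟨z, hz⟩ := exists_prime_orderOf_dvd_card' p hd
    exact ⟨zpowers (z : G), ha X hX Y hY h1 (cm.1 h2) _ ((zpowers_le.2 z.2).trans h3) (by simpa using hz), zpowers_le.2 z.2⟩
  have one : ∀ X ∈ K, ∀ Y ∈ K, X ≠ Y → X ≤ 𝐂 Y → ∀ W ∈ K, ∃ Z ∈ K, Z ≤ X ⊔ Y ∧ Z ≤ 𝐂 W := fun X hX Y hY h1 h2 W hW => by
    obtain ⟨Z, hZ, h⟩ := pt X hX Y hY h1 h2 _ inf_le_left (hb X hX Y hY h1 (cm.1 h2) W hW)
    exact ⟨Z, hZ, h.trans inf_le_left, h.trans inf_le_right⟩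
  obtain ⟨X₀, hX₀, Y₀, hY₀, n₀, c₀⟩ := hex
  have key : ∃ V ∈ K, ∀ W ∈ K, W ≤ 𝐂 V := by
    by_contra! nd
    obtain ⟨W, hW, mx⟩ := Set.Finite.exists_maximalFor (fun W : Subgroup G => {T ∈ K | T ≤ 𝐂 W}) K (Set.toFinite K) ⟨X₀, hX₀⟩
    have st : ∀ B ∈ K, (∀ T ∈ K, T ≤ 𝐂 W → T ≤ 𝐂 B) → W = B := fun B hB h => by
      by_contra hne
      obtain ⟨X, hX, h1⟩ := nd B hB
      obtain ⟨C, hC, h2, h3⟩ := one W hW B hB hne (h W hW (rf W hW)) X hX
      exact h1 (h X hX (mx hC (fun T hT => ⟨hT.1, le_centralizer_iff.1 (h2.trans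
        (sup_le (le_centralizer_iff.1 hT.2) (le_centralizer_iff.1 (h T hT.1 hT.2))))⟩) ⟨hX, le_centralizer_iff.1 h3⟩).2)
    obtain ⟨X, hX, nX⟩ := nd W hW
    obtain ⟨Q, hQ, q1, q2⟩ : ∃ Q ∈ K, X ≠ Q ∧ X ≤ 𝐂 Q := by
      obtain ⟨P, hP, h1, h2⟩ := one X₀ hX₀ Y₀ hY₀ n₀ (cm.2 c₀) X hX
      by_cases h : X = P
      · have h3 := h1.trans (ab X₀ hX₀ Y₀ hY₀ (cm.2 c₀))
        by_cases h' : X = X₀
        · exact ⟨Y₀, hY₀, h' ▸ n₀, h ▸ h3.trans (centralizer_le (le_sup_right : Y₀ ≤ X₀ ⊔ Y₀))⟩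
        · exact ⟨X₀, hX₀, h', h ▸ h3.trans (centralizer_le (le_sup_left : X₀ ≤ X₀ ⊔ Y₀))⟩
      · exact ⟨P, hP, h, le_centralizer_iff.1 h2⟩
    obtain ⟨Z, hZ, z1, z2⟩ := one X hX Q hQ q1 q2 W hW
    have hl := ab X hX Q hQ q2
    have xz : X ≠ Z := fun h => nX (h ▸ z2)
    obtain ⟨⟨x, hx⟩, x1⟩ := ne_bot_iff_exists_ne_one.1 (nb X hX)
    obtain ⟨⟨z, hz⟩, z0⟩ := ne_bot_iff_exists_ne_one.1 (nb Z hZ)
    have ex : zpowers x = X := pr X hX _ (zpowers_le.2 hx) (by simpa using x1)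
    have ez : zpowers z = Z := pr Z hZ _ (zpowers_le.2 hz) (by simpa using z0)
    have hy : x * z⁻¹ ∈ X ⊔ Q := mul_mem (mem_sup_left hx) (inv_mem (z1 hz))
    have yx : x * z⁻¹ ∉ X := fun h => xz (pr X hX Z (ez ▸ zpowers_le.2 (by simpa using mul_mem (inv_mem h) hx)) (nb Z hZ)).symm
    obtain ⟨Y, hY, y1⟩ := pt X hX Q hQ q1 q2 _ (zpowers_le.2 hy) fun h => yx (by rw [zpowers_eq_bot.1 h]; exact one_mem _)
    have hyp : orderOf (x * z⁻¹) ∣ p := orderOf_dvd_of_pow_eq_one (by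
      have c : Commute x z⁻¹ := hl (inv_mem (z1 hz)) x (mem_sup_left hx)
      rw [c.mul_pow, inv_pow, ← hK X hX, ← ex, Nat.card_zpowers, pow_orderOf_eq_one, ← Nat.card_zpowers, ex, hK X hX, ← hK Z hZ, ← ez,
        Nat.card_zpowers, pow_orderOf_eq_one, inv_one, one_mul])
    have ey : Y = zpowers (x * z⁻¹) := eq_of_le_of_card_ge y1 (by rw [Nat.card_zpowers, hK Y hY]; exact Nat.le_of_dvd hp.pos hyp)
    have xy : X ≠ Y := fun h => yx (h ▸ ey ▸ mem_zpowers _)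
    have fx : ∀ g A, cj g W = cj x W → g ∈ 𝐂 A → A ≤ 𝐂 W → A ≤ 𝐂 (cj x W) := fun g A h1 h2 h3 => by
      rw [← h1, ← cj_centralizer, ← cj_of_mem_centralizer h2]
      exact cj_mono g h3
    have f1 : ∀ A, A ≤ 𝐂 X → A ≤ 𝐂 W → A ≤ 𝐂 (cj x W) := fun A h => fx x A rfl (le_centralizer_iff.1 h hx)
    have f2 : ∀ A, A ≤ 𝐂 Y → A ≤ 𝐂 W → A ≤ 𝐂 (cj x W) := fun A h => fx (x * z⁻¹) A
      (by rw [cj_mul, cj_of_mem_centralizer (inv_mem (z2 hz))]) (le_centralizer_iff.1 h (ey ▸ mem_zpowers _))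
    have wz : W ≠ Z := fun h => nX (h ▸ le_sup_left.trans (hl.trans (centralizer_le z1)))
    have wu : W ≤ 𝐂 (cj x W) := by
      by_contra h0
      refine wz (st Z hZ fun T hT h => ?_)
      by_cases e : W = T
      · exact e ▸ le_centralizer_iff.1 z2
      have h' := le_centralizer_iff.1 h
      have hw := (ab W hW T hT h').trans (centralizer_le (le_sup_left : W ≤ W ⊔ T))
      obtain ⟨A, hA, a1, a2⟩ := one W hW T hT e h' X hX
      obtain ⟨B, hB, b1, b2⟩ := one W hW T hT e h' Y hY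
      by_cases e' : A = B
      · have : A ≤ 𝐂 Z := le_centralizer_iff.1 (z1.trans ((two X hX Q hQ q1 q2 X hX Y hY xy le_sup_left
          (y1.trans (zpowers_le.2 hy))).ge.trans (sup_le (le_centralizer_iff.1 a2) (le_centralizer_iff.1 (e' ▸ b2)))))
        exact le_sup_right.trans ((two W hW T hT e h' W hW A hA (fun h => nX (le_centralizer_iff.1 (h ▸ a2))) le_sup_left a1).ge.trans
          (sup_le (le_centralizer_iff.1 z2) this))
      · exact absurd (le_sup_left.trans ((two W hW T hT e h' A hA B hB e' a1 b1).ge.trans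
          (sup_le (f1 A a2 (a1.trans hw)) (f2 B b2 (b1.trans hw))))) h0
    have e := st (cj x W) (hKc W hW x) fun T hT h => by
      by_cases e : W = T
      · exact e ▸ wu
      have h' := le_centralizer_iff.1 h
      obtain ⟨A, hA, a1, a2⟩ := one W hW T hT e h' X hX
      exact le_sup_right.trans ((two W hW T hT e h' W hW A hA (fun h => nX (le_centralizer_iff.1 (h ▸ a2))) le_sup_left a1).ge.trans
        (sup_le wu (f1 A a2 (a1.trans ((ab W hW T hT h').trans (centralizer_le (le_sup_left : W ≤ W ⊔ T)))))))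
    exact nX (le_centralizer_iff.1 ((pr W hW _ inf_le_left (inf_centralizer_ne_bot_of_isPGroup (pg W hW) (pg X hX)
      (ex ▸ zpowers_le.2 (cj_eq_self_iff.1 e.symm)) (nb W hW))).ge.trans inf_le_right))
  obtain ⟨V, hV, h⟩ := key
  have hO : V ≤ pCore p G := le_pCore_of_isSubnormal ((SubnormalIn.of_le_normalizer (L := normalClosure (V : Set G)) le_normalClosure
    (by rw [normalClosure_eq_iSup_cj]; exact iSup_le fun g => (h _ (hKc V hV g)).trans (centralizer_le_normalizer _))).isSubnormal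
      (Normal.isSubnormal inferInstance)) (pg V hV)
  refine ⟨⟨V, hV, fun W hW => cm.1 (le_centralizer_iff.1 (h W hW)), hO⟩, fun hs => ?_⟩
  have hG : IsPGroup p G := fun g => by
    have e := (IsSimpleGroup.eq_bot_or_eq_top_of_normal (pCore p G) inferInstance).resolve_left fun e => nb V hV (eq_bot_iff.2 (e ▸ hO))
    obtain ⟨k, hk⟩ := isPGroup_pCore p G ⟨g, e ▸ mem_top g⟩
    exact ⟨k, congrArg Subtype.val hk⟩
  haveI := hG.isNilpotent
  have : ∀ X ∈ K, X = ⊤ := fun X hX => ((isSubnormal_of_nilpotent X).eq_bot_or_top_of_isSimpleGroup hs).resolve_left (nb X hX)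
  exact n₀ ((this _ hX₀).trans (this _ hY₀).symm)

end Cfsg.Agent.S3196
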