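import Cfsg.Statements.S3200
import Cfsg.Agent.Lib.Hall.HallThm
import Cfsg.Agent.Lib.Char.Integral

set_option autoImplicit false
open Cfsg

namespace Cfsg.Agent.S3200

open Subgroup Cfsg.Lib Cfsg.Lib.Hall
open scoped Pointwise

universe u

theorem solv (n : ℕ) : ∀ (G : Type u) [Group G] [Finite G], Nat.card G = n → ∀ C : Subgroup G, IsMulCommutative C →
    IsPiHall {2}ᶜ C → Group.IsSolvable G := by
  induction n using Nat.strong_induction_on with
  | _ n ih =>
  intro G _ _ hn C hC hH
  by_cases h : ∃ N : Subgroup G, N.Normal ∧ N ≠ ⊥ ∧ N ≠ ⊤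
  · obtain ⟨N, hN, h1, h2⟩ := h
    have := ih _ (hn ▸ Finite.card_subtype_lt (not_forall.1 (mt (eq_top_iff' N).2 h2)).choose_spec) N rfl (C.subgroupOf N)
      inferInstance (isPiHall_subgroupOf_normal hH N)
    have := ih _ (hn ▸ (by
      have := N.index_mul_card
      have h3 := (one_lt_card_iff_ne_bot N).2 h1
      have h4 : 0 < N.index := Nat.pos_of_ne_zero index_ne_zero_of_finite
      change N.index < _
      nlinarith)) (G ⧸ N) rfl _ inferInstance (isPiHall_map_mk' hH N)
    exact Group.isSolvable_of_ker_le_range N.subtype (QuotientGroup.mk' N) (by simp)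
  push Not at h
  obtain ⟨k, hk⟩ : ∃ k, C.index = 2 ^ k := (Core.isPiNumber_singleton_iff Nat.prime_two index_ne_zero_of_finite).1
    (by simpa using (isPiHall_iff.1 hH).2)
  by_cases h0 : C = ⊥
  · have : Group.IsNilpotent G := (IsPGroup.of_card (p := 2) (by rw [← hk, h0, index_bot])).isNilpotent
    infer_instance
  obtain ⟨⟨c, hc⟩, h1⟩ := ne_bot_iff_exists_ne_one.1 h0
  have h2 : c ≠ 1 := fun e => h1 (Subtype.ext e)
  have : Nontrivial G := ⟨c, 1, h2⟩
  have : IsSimpleGroup G := ⟨fun N hN => (em (N = ⊥)).imp_right (h N hN)⟩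
  have h3 : C ≤ centralizer {c} := fun x hx => mem_centralizer_singleton_iff.2
    (congrArg Subtype.val (hC.is_comm.comm (⟨x, hx⟩ : C) ⟨c, hc⟩))
  obtain ⟨j, -, hj⟩ := (Nat.dvd_prime_pow Nat.prime_two).1 (hk ▸ index_dvd_of_le h3)
  exact Group.isSolvable_of_comm (Char.comm_of_isSimpleGroup_of_prime_pow_class Nat.prime_two h2 hj)

theorem compl {G : Type*} [Group G] [Finite G] {D : Subgroup G} (hD : IsPiHall {2}ᶜ D) (P : Sylow 2 G) :
    IsComplement' (P : Subgroup G) D := by
  obtain ⟨k, hk⟩ : ∃ k, D.index = 2 ^ k := (Core.isPiNumber_singleton_iff Nat.prime_two index_ne_zero_of_finite).1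
    (by simpa using (isPiHall_iff.1 hD).2)
  have h1 : ¬ 2 ∣ Nat.card D := fun h => hD.1 2 Nat.prime_two h rfl
  have h2 : Nat.card P = D.index := by
    rw [P.card_eq_multiplicity, ← D.index_mul_card, hk, Nat.factorization_mul (by simp) Nat.card_pos.ne',
      Finsupp.add_apply, Nat.factorization_eq_zero_of_not_dvd h1, Nat.prime_two.factorization_pow]
    simp
  exact isComplement'_of_coprime (h2 ▸ D.index_mul_card)
    (h2 ▸ hk ▸ ((Nat.prime_two.coprime_iff_not_dvd.2 h1).pow_left k))


/-- Let H be a finite group in which a Sylow 2-subgroup has an abelian complement (an abelian subgroup meeting it trivially whose product with it is all of H). Then H is solvable, and every subgroup and every quotient group of H again has a Sylow 2-subgroup with an abelian complement. -/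
theorem result {H : Type*} [Group H] [Finite H]
    (S : Sylow 2 H) (C : Subgroup H) (hC : IsMulCommutative ↥C) (hSC : Subgroup.IsComplement' (S : Subgroup H) C) :
    Group.IsSolvable H ∧
    (∀ L : Subgroup H, ∃ (P : Sylow 2 ↥L) (D : Subgroup ↥L), IsMulCommutative ↥D ∧ Subgroup.IsComplement' (P : Subgroup ↥L) D) ∧
    (∀ (N : Subgroup H) [N.Normal], ∃ (P : Sylow 2 (H ⧸ N)) (D : Subgroup (H ⧸ N)),
      IsMulCommutative ↥D ∧ Subgroup.IsComplement' (P : Subgroup (H ⧸ N)) D) := by
  have hH : IsPiHall {2}ᶜ C := by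
    refine ⟨fun p hp h e => ?_, fun p hp h e => h ?_⟩
    · obtain rfl : p = 2 := e
      exact S.not_dvd_index (hSC.symm.index_eq_card ▸ h)
    · rw [hSC.index_eq_card, S.card_eq_multiplicity] at e
      exact (Nat.prime_dvd_prime_iff_eq hp Nat.prime_two).1 (hp.dvd_of_dvd_pow e)
  have hs := solv _ H rfl C hC hH
  refine ⟨hs, fun L => ?_, fun N _ => ⟨default, _, inferInstance, compl (isPiHall_map_mk' hH N) _⟩⟩
  obtain ⟨D, hD⟩ := exists_isPiHall (G := L) {2}ᶜ
  obtain ⟨g, hg⟩ := le_conj_of_isPiHall (U := D.map L.subtype) hH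
    (by rw [card_map_of_injective L.subtype_injective]; exact (isPiHall_iff.1 hD).1)
  refine ⟨default, D, ⟨⟨fun x y => Subtype.ext (Subtype.ext ?_)⟩⟩, compl hD _⟩
  obtain ⟨a, ha, e1⟩ := hg (mem_map_of_mem _ x.2)
  obtain ⟨b, hb, e2⟩ := hg (mem_map_of_mem _ y.2)
  have h1 : a * b = b * a := congrArg Subtype.val (hC.is_comm.comm (⟨a, ha⟩ : C) ⟨b, hb⟩)
  change L.subtype x * L.subtype y = L.subtype y * L.subtype x
  rw [← e1, ← e2]
  exact (Commute.map h1 (MulAut.conj g)).eq

end Cfsg.Agent.S3200
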