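import Cfsg.Statements.S3201
import Cfsg.Agent.Lib.Block.GenQuat

set_option autoImplicit false
open Cfsg

namespace Cfsg.Agent.S3201

open Subgroup Cfsg.Lib.Block
set_option linter.style.haveILetI false

theorem quatData_closure {G : Type*} [Group G] {a x : G} {m : ℕ} (ord : orderOf a = 2 * m)
    (sq : x * x = a ^ m) (inv : x * a * x⁻¹ = a⁻¹) (nm : x ∉ zpowers a) :
    QuatData (closure {x, a}) a x m := by
  have hc : ∀ k : ℤ, a ^ k * x = x * a ^ (-k) := fun k => by
    have : x * a ^ (-k) * x⁻¹ = a ^ k := by rw [← conj_zpow, inv]; simp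
    have hx : x⁻¹ * a ^ k * x = a ^ (-k) := by rw [← this]; group
    rw [← hx]; group
  refine ⟨fun g => ⟨fun hg => ?_, ?_⟩, ord, sq, inv, nm⟩
  · induction hg using closure_induction with
    | mem y hy =>
      rcases hy with rfl | rfl
      · exact ⟨0, Or.inr (by simp)⟩
      · exact ⟨1, Or.inl (by simp)⟩
    | one => exact ⟨0, Or.inl (by simp)⟩
    | mul y z _ _ hy hz =>
      obtain ⟨k, rfl | rfl⟩ := hy <;> obtain ⟨j, rfl | rfl⟩ := hz
      · exact ⟨k + j, Or.inl (zpow_add _ _ _).symm⟩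
      · exact ⟨-k + j, Or.inr (by rw [← mul_assoc, hc, zpow_add, mul_assoc])⟩
      · exact ⟨k + j, Or.inr (by rw [zpow_add, mul_assoc])⟩
      · refine ⟨m + -k + j, Or.inl ?_⟩
        rw [← mul_assoc, mul_assoc x, hc, ← mul_assoc, sq, zpow_add, zpow_add, zpow_natCast]
    | inv y _ hy =>
      obtain ⟨k, rfl | rfl⟩ := hy
      · exact ⟨-k, Or.inl (zpow_neg _ _).symm⟩
      · refine ⟨k - m, Or.inr ?_⟩
        rw [inv_eq_iff_mul_eq_one, ← mul_assoc, mul_assoc x, hc, ← mul_assoc, sq, ← zpow_natCast,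
          ← zpow_add, ← zpow_add, show (m : ℤ) + -k + (k - m) = 0 by ring, zpow_zero]
  · rintro ⟨k, rfl | rfl⟩
    · exact zpow_mem (subset_closure (by simp)) k
    · exact mul_mem (subset_closure (by simp)) (zpow_mem (subset_closure (by simp)) k)

/-- Let S be a finite 2-group whose centre Z(S) has n ≥ 2 distinct maximal subgroups C₁, …, Cₙ with trivial intersection such that each quotient S/Cᵢ is a non-abelian group with exactly one involution (a generalized quaternion group). Then S is the internal direct product of an elementary abelian subgroup and a non-abelian subgroup with exactly one involution. -/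
theorem result {S : Type*} [Group S] [Finite S]
    (hS : IsPGroup 2 S) (n : ℕ) (hn : 2 ≤ n) (C : Fin n → Subgroup ↥(Subgroup.center S))
    (hCmax : ∀ i, IsCoatom (C i)) (hCinj : Function.Injective C) (hCint : ⨅ i, C i = ⊥)
    (hCq : ∀ i, ∃ (_ : ((C i).map (Subgroup.center S).subtype).Normal),
      ¬ IsMulCommutative (S ⧸ (C i).map (Subgroup.center S).subtype) ∧
      ∃! x : S ⧸ (C i).map (Subgroup.center S).subtype, orderOf x = 2) :
    ∃ E Q : Subgroup S, Cfsg.IsInternalDirectProduct E Q ⊤ ∧ Cfsg.IsElementaryAbelian 2 E ∧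
      ¬ IsMulCommutative ↥Q ∧ ∃! x : ↥Q, orderOf x = 2 := by
  haveI : Fact (Nat.Prime 2) := ⟨Nat.prime_two⟩
  let N : Fin n → Subgroup S := fun i => (C i).map (center S).subtype
  have hNZ : ∀ i, N i ≤ center S := fun i => map_subtype_le _
  have hmem : ∀ i (z : center S), (z : S) ∈ N i ↔ z ∈ C i := fun i z =>
    mem_map_iff_mem (center S).subtype_injective
  have hidx : ∀ i, (C i).index = 2 := fun i =>
    (Cfsg.Lib.PGrp.isCoatom_iff_index_eq (hS.to_subgroup _)).1 (hCmax i)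
  have hone : ∀ z ∈ center S, (∀ i, z ∈ N i) → z = 1 := fun z hz h => by
    have : (⟨z, hz⟩ : center S) ∈ ⨅ i, C i := mem_iInf.2 fun i => (hmem i ⟨z, hz⟩).1 (h i)
    rw [hCint, mem_bot] at this
    exact congrArg Subtype.val this
  have hsq : ∀ z ∈ center S, z * z = 1 := fun z hz => hone _ (mul_mem hz hz) fun i =>
    (hmem i (⟨z, hz⟩ * ⟨z, hz⟩)).2 (mul_self_mem_of_index_two (hidx i) _)
  have heq : ∀ u ∈ center S, ∀ v ∈ center S, (∀ i, u ∉ N i) → (∀ i, v ∉ N i) → u = v := by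
    intro u hu v hv h1 h2
    have := hone (u * v) (mul_mem hu hv) fun i => (hmem i (⟨u, hu⟩ * ⟨v, hv⟩)).2
      ((mul_mem_iff_of_index_two (hidx i)).2
        (iff_of_false (fun h => h1 i ((hmem i _).2 h)) (fun h => h2 i ((hmem i _).2 h))))
    rw [eq_inv_of_mul_eq_one_left this, eq_comm, ← mul_eq_one_iff_eq_inv]
    exact hsq v hv
  have hinv : ∀ i (g : S), g * g ∈ N i → g ∈ center S := by
    intro i g hg
    obtain ⟨hN, -, z, -, hu⟩ := hCq i
    obtain ⟨w, hw⟩ : ∃ w : center S, w ∉ C i := by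
      by_contra hc
      push Not at hc
      exact (hCmax i).1 (eq_top_iff.2 fun w _ => hc w)
    let π := QuotientGroup.mk' (N i)
    have hk : ∀ g, π g = 1 ↔ g ∈ N i := fun g => QuotientGroup.eq_one_iff g
    by_cases h1 : π g = 1
    · exact hNZ i ((hk g).1 h1)
    have e1 : orderOf (π g) = 2 := orderOf_eq_prime (by rw [pow_two, ← map_mul, hk]; exact hg) h1
    have e2 : orderOf (π w) = 2 := orderOf_eq_prime
      (by rw [pow_two, ← map_mul, hsq _ w.2, map_one]) fun h => hw ((hmem i w).1 ((hk _).1 h))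
    have e3 : π w = π g := (hu _ e2).trans (hu _ e1).symm
    have := hNZ i (QuotientGroup.eq.1 e3)
    simpa using mul_mem w.2 this
  let i0 : Fin n := ⟨0, by omega⟩
  obtain ⟨hN, hna, z, hz, hu⟩ := hCq i0
  rcases isCyclic_or_quatData (hS.to_quotient (N i0))
    (fun s t hs ht => (hu s hs).trans (hu t ht).symm) with h | ⟨a', x', k, h⟩
  · exact absurd IsCyclic.isMulCommutative hna
  let π := QuotientGroup.mk' (N i0)
  obtain ⟨a, rfl⟩ := QuotientGroup.mk'_surjective (N i0) a'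
  obtain ⟨x, rfl⟩ := QuotientGroup.mk'_surjective (N i0) x'
  change QuatData ⊤ (π a) (π x) _ at h
  have hk : ∀ g, π g = 1 ↔ g ∈ N i0 := fun g => QuotientGroup.eq_one_iff g
  have hm0 : 2 ^ (k + 1) ≠ 0 := by positivity
  have hz2 := h.orderOf_z hm0
  have key : ∀ g : S, π g * π g = π a ^ 2 ^ (k + 1) → g * g ∈ center S ∧ ∀ i, g * g ∉ N i := by
    intro g hg
    refine ⟨hinv i0 _ ((hk _).1 ?_), fun i hi => ?_⟩
    · have := pow_orderOf_eq_one (π a ^ 2 ^ (k + 1))
      rw [hz2] at this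
      rwa [map_mul, map_mul, hg, ← pow_two]
    · rw [← map_mul, hsq g (hinv i g hi), map_one] at hg
      rw [← hg, orderOf_one] at hz2
      omega
  obtain ⟨a1, a2⟩ := key x h.sq
  obtain ⟨b1, b2⟩ := key (x * a) (by simpa using h.refl_mul_self 1)
  obtain ⟨c1, c2⟩ := key (a ^ 2 ^ k) (by rw [map_pow, ← pow_add, pow_succ, mul_two])
  have e1 := heq _ a1 _ b1 a2 b2
  have e2 := heq _ a1 _ c1 a2 c2
  rw [← pow_add, ← mul_two, ← pow_succ] at e2
  have hQ : QuatData (closure {x, a}) a x (2 ^ (k + 1)) := by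
    refine quatData_closure (Nat.dvd_antisymm (orderOf_dvd_of_pow_eq_one ?_) ?_) e2 ?_ ?_
    · rw [two_mul, pow_add, ← e2, hsq _ a1]
    · rw [← h.ord]; exact orderOf_map_dvd π a
    · rw [mul_assoc x a, mul_right_inj] at e1
      rw [mul_inv_eq_iff_eq_mul, eq_inv_mul_iff_mul_eq, ← e1]
    · rintro ⟨j, hj⟩
      exact h.not_mem ⟨j, by simp only at hj ⊢; rw [← hj, map_zpow]⟩
  refine ⟨N i0, closure {x, a}, ⟨le_top, le_top, fun u hu v _ => (mem_center_iff.1 (hNZ _ hu) v).symm,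
    eq_bot_iff.2 fun g ⟨h1, h2⟩ => ?_, eq_top_iff.2 fun g _ => ?_⟩,
    ⟨⟨⟨fun u v => Subtype.ext (mem_center_iff.1 (hNZ _ v.2) u)⟩⟩,
      fun u hu => by rw [pow_two]; exact hsq u (hNZ _ hu)⟩, fun hc => ?_,
    ⟨a ^ 2 ^ (k + 1), pow_mem hQ.a_mem _⟩, ?_, fun y hy => Subtype.ext (hQ.eq_z hm0 y.2 ?_)⟩
  · have h3 := (hk g).2 h1
    obtain ⟨j, rfl | rfl⟩ := (hQ.mem g).1 h2
    · rw [map_zpow, h.zpow_eq_one_iff] at h3
      exact mem_bot.2 (hQ.zpow_eq_one_iff.2 h3)
    · rw [map_mul, map_zpow] at h3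
      exact absurd (h3 ▸ one_mem _) (h.refl_not_mem j)
  · obtain ⟨j, hj | hj⟩ := (h.mem (π g)).1 (mem_top _)
    · rw [← map_zpow, eq_comm] at hj
      have := QuotientGroup.eq.1 hj
      rw [show g = a ^ j * ((a ^ j)⁻¹ * g) by group]
      exact mul_mem (mem_sup_right (hQ.zpow_mem j)) (mem_sup_left this)
    · rw [← map_zpow, ← map_mul, eq_comm] at hj
      have := QuotientGroup.eq.1 hj
      rw [show g = x * a ^ j * ((x * a ^ j)⁻¹ * g) by group]
      exact mul_mem (mem_sup_right (mul_mem hQ.x_mem (hQ.zpow_mem j))) (mem_sup_left this)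
  · have h1 : x * a = a * x :=
      congrArg Subtype.val (hc.1.1 (⟨x, hQ.x_mem⟩ : closure {x, a}) ⟨a, hQ.a_mem⟩)
    have h2 := hQ.inv
    rw [h1, mul_inv_cancel_right, eq_inv_iff_mul_eq_one, ← pow_two] at h2
    have := Nat.le_of_dvd two_pos (hQ.ord ▸ orderOf_dvd_of_pow_eq_one h2)
    have : 0 < 2 ^ k := by positivity
    omega
  · simp only
    rw [← orderOf_coe]
    exact hQ.orderOf_z hm0
  · rw [orderOf_coe]; exact hy

end Cfsg.Agent.S3201
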