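import Cfsg.Statements.S3202
import Cfsg.Agent.Lib.Block.GenQuat

set_option autoImplicit false
open Cfsg

namespace Cfsg.Agent.S3202

open Subgroup Cfsg.Lib.Block
open scoped commutatorElement
set_option linter.style.haveILetI false

/-- Let S be a finite 2-group of 2-rank exactly 2 and D a maximal subgroup of the centre of S such that S/D is a non-abelian group with exactly one involution (a generalized quaternion group). Then S has a nontrivial cyclic characteristic subgroup. -/
theorem result {S : Type*} [Group S]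
    [Finite S] (hS : IsPGroup 2 S) (hr2 : Cfsg.PRankLE 2 2 S) (hr1 : ¬ Cfsg.PRankLE 2 1 S)
    (D : Subgroup ↥(Subgroup.center S)) (hD : IsCoatom D)
    (hq : ∃ (_ : (D.map (Subgroup.center S).subtype).Normal),
      ¬ IsMulCommutative (S ⧸ D.map (Subgroup.center S).subtype) ∧
      ∃! x : S ⧸ D.map (Subgroup.center S).subtype, orderOf x = 2) :
    ∃ C : Subgroup S, C ≠ ⊥ ∧ IsCyclic ↥C ∧ C.Characteristic := by
  obtain ⟨hN, hna, z, hz, hu⟩ := hq
  set D' := D.map (Subgroup.center S).subtype with hD'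
  have hDc : ∀ d ∈ D', ∀ g : S, Commute d g := by
    rintro _ ⟨d, -, rfl⟩ g
    exact (mem_center_iff.1 d.2 g).symm
  rcases isCyclic_or_quatData (hS.to_quotient D') (fun s t hs ht => (hu s hs).trans (hu t ht).symm)
    with h | ⟨a', x', n, h⟩
  · exact absurd IsCyclic.isMulCommutative hna
  obtain ⟨a, rfl⟩ := QuotientGroup.mk'_surjective D' a'
  obtain ⟨x, rfl⟩ := QuotientGroup.mk'_surjective D' x'
  have hgen : ∀ g : S, ∃ k : ℤ, ∃ d ∈ D', g = a ^ k * d ∨ g = x * a ^ k * d := fun g => by
    obtain ⟨k, hk | hk⟩ := (h.mem (QuotientGroup.mk' D' g)).1 (mem_top _)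
    · rw [← map_zpow, eq_comm, QuotientGroup.mk'_apply, QuotientGroup.mk'_apply,
        QuotientGroup.eq] at hk
      exact ⟨k, _, hk, Or.inl (by group)⟩
    · rw [← map_zpow, ← map_mul, eq_comm, QuotientGroup.mk'_apply, QuotientGroup.mk'_apply,
        QuotientGroup.eq] at hk
      exact ⟨k, _, hk, Or.inr (by group)⟩
  have hi := h.inv
  rw [← map_inv, ← map_mul, ← map_mul, ← map_inv, eq_comm, QuotientGroup.mk'_apply,
    QuotientGroup.mk'_apply, QuotientGroup.eq, inv_inv] at hi
  set d := a * (x * a * x⁻¹) with hd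
  have hxa : x * a * x⁻¹ = a⁻¹ * d := by rw [hd]; group
  set c := a⁻¹ * a⁻¹ * d with hc
  have hda := hDc d hi
  have hca : Commute c a := ((Commute.refl a).inv_left.mul_left (Commute.refl a).inv_left).mul_left (hda a)
  have hxc : x * c * x⁻¹ = c⁻¹ := by
    have e1 : x * c * x⁻¹ = (x * a * x⁻¹)⁻¹ * (x * a * x⁻¹)⁻¹ * (x * d * x⁻¹) := by rw [hc]; group
    rw [e1, hxa, ← (hda x).eq, mul_inv_cancel_right, hc]
    clear_value d
    calc (a⁻¹ * d)⁻¹ * (a⁻¹ * d)⁻¹ * d = d⁻¹ * a * d⁻¹ * (a * d) := by group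
      _ = d⁻¹ * a * d⁻¹ * (d * a) := by rw [(hda a).eq]
      _ = _ := by simp [mul_assoc]
  have hNn : (zpowers c).Normal := by
    refine ⟨fun y hy g => ?_⟩
    obtain ⟨j, rfl⟩ := hy
    obtain ⟨k, e, he, rfl | rfl⟩ := hgen g
    · have : Commute (a ^ k * e) (c ^ j) :=
        ((hca.symm.zpow_left k).mul_left (hDc e he c)).zpow_right j
      simp only
      rw [this.eq, mul_inv_cancel_right]
      exact zpow_mem (mem_zpowers c) j
    · have : Commute (a ^ k * e) (c ^ j) :=
        ((hca.symm.zpow_left k).mul_left (hDc e he c)).zpow_right j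
      simp only
      rw [show x * a ^ k * e * c ^ j * (x * a ^ k * e)⁻¹ = x * (a ^ k * e * c ^ j * (a ^ k * e)⁻¹) * x⁻¹ by group,
        this.eq, mul_inv_cancel_right, ← conj_zpow, hxc]
      exact zpow_mem (inv_mem (mem_zpowers c)) j
  have hle : commutator S ≤ zpowers c := by
    let π := QuotientGroup.mk' (zpowers c)
    have h1 : Commute (π x) (π a) := by
      rw [← commutatorElement_eq_one_iff_commute, ← map_commutatorElement, ← MonoidHom.mem_ker,
        QuotientGroup.ker_mk', commutatorElement_def, hxa, mul_assoc, (hda a⁻¹).eq, ← mul_assoc]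
      exact mem_zpowers c
    have h2 : ∀ e ∈ D', ∀ g, Commute (π e) (π g) := fun e he g => (hDc e he g).map π
    have h3 : ∀ g, Commute (π g) (π a) ∧ Commute (π g) (π x) := fun g => by
      obtain ⟨k, e, he, rfl | rfl⟩ := hgen g
      · simp only [map_mul, map_zpow]
        exact ⟨((Commute.refl _).zpow_left k).mul_left (h2 e he a),
          (h1.symm.zpow_left k).mul_left (h2 e he x)⟩
      · simp only [map_mul, map_zpow]
        exact ⟨(h1.mul_left ((Commute.refl _).zpow_left k)).mul_left (h2 e he a),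
          ((Commute.refl _).mul_left (h1.symm.zpow_left k)).mul_left (h2 e he x)⟩
    rw [_root_.commutator_def, commutator_le]
    intro g _ g' _
    rw [← QuotientGroup.ker_mk' (zpowers c), MonoidHom.mem_ker, map_commutatorElement,
      commutatorElement_eq_one_iff_commute]
    obtain ⟨k, e, he, rfl | rfl⟩ := hgen g'
    · simp only [map_mul, map_zpow]
      exact ((h3 g).1.zpow_right k).mul_right (h2 e he g).symm
    · simp only [map_mul, map_zpow]
      exact ((h3 g).2.mul_right ((h3 g).1.zpow_right k)).mul_right (h2 e he g).symm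
  refine ⟨commutator S, fun hb => hna ⟨⟨fun u v => ?_⟩⟩, Subgroup.isCyclic_of_le hle, inferInstance⟩
  obtain ⟨u, rfl⟩ := QuotientGroup.mk'_surjective D' u
  obtain ⟨v, rfl⟩ := QuotientGroup.mk'_surjective D' v
  have : ⁅u, v⁆ ∈ commutator S := commutator_mem_commutator (mem_top _) (mem_top _)
  rw [hb, mem_bot, commutatorElement_eq_one_iff_commute] at this
  exact (this.map _).eq

end Cfsg.Agent.S3202
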