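import Cfsg.Statements.S3208
import Cfsg.Agent.Lib.Invol.Closed

set_option autoImplicit false
open Cfsg

namespace Cfsg.Agent.S3208
open Cfsg.Lib.Invol

open Subgroup Cfsg.Lib.Transfer

/-- Let j be an involution of a finite group G, H a subgroup of G, and T a Sylow 2-subgroup of H ∩ C_G(j) containing j such that ⟨j⟩ is a characteristic subgroup of T. Then T is a Sylow 2-subgroup of H. -/
theorem result {G : Type*} [Group G] [Finite G]
    (j : G) (hj : orderOf j = 2) (H T : Subgroup G) (hT : T ≤ H ⊓ Subgroup.centralizer ({j} : Set G)) (h2 : IsPGroup 2 ↥T)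
    (hSyl : ¬ 2 ∣ T.relIndex (H ⊓ Subgroup.centralizer ({j} : Set G))) (hjT : j ∈ T)
    (hchar : ((Subgroup.zpowers j).subgroupOf T).Characteristic) :
    ¬ 2 ∣ T.relIndex H := by
  have := fact_two
  have hS : SylowIn 2 T (H ⊓ centralizer ({j} : Set G)) := sylowIn_iff.mpr ⟨hT, h2, hSyl⟩
  have key : SylowIn 2 T H := by
    refine sylowIn_of_maximal (hT.trans inf_le_left) h2 fun Q hQ hTQ hQH => ?_
    by_contra hne
    obtain ⟨x, hxQ, hxT, hxN⟩ := exists_mem_normalizer_not_mem hQ hTQ
      (fun e => hne (e ▸ le_rfl))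
    have h1 : x * j * x⁻¹ ∈ zpowers j := by
      have := hchar.fixed (T.normalizerMonoidHom ⟨x⁻¹, inv_mem hxN⟩)
      have h3 : (⟨j, hjT⟩ : T) ∈ (zpowers j).subgroupOf T := mem_subgroupOf.mpr (mem_zpowers j)
      have h4 := (Subgroup.characteristic_iff_le_comap.mp hchar)
        (T.normalizerMonoidHom ⟨x, hxN⟩) h3
      exact h4
    have h3 : x * j * x⁻¹ = j :=
      eq_of_mem_zpowers h1 (mem_zpowers j) (by rw [orderOf_conj, hj]) hj
    have h4 : T ⊔ zpowers x ≤ T := (hS.eq_of_le (hQ.to_le (sup_le hTQ (by rwa [zpowers_le])))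
      le_sup_left (sup_le hT (by
        rw [zpowers_le]
        exact ⟨hQH hxQ, mem_cent.mpr (by
          change x * j = j * x
          rw [← mul_inv_eq_iff_eq_mul]; exact h3)⟩))).le
    exact hxT (h4 (mem_sup_right (mem_zpowers x)))
  exact (sylowIn_iff.mp key).2.2

end Cfsg.Agent.S3208
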