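import Cfsg.Statements.S3209
import Cfsg.Agent.Lib.Linear.PSL2Klein
import Cfsg.Agent.Lib.Linear.DicksonFin
import Cfsg.Agent.Lib.Forms.Std

set_option autoImplicit false
open Cfsg

namespace Cfsg.Agent.S3209

open Cfsg.Lib Subgroup

theorem aux {G : Type*} [Group G] {F : Type*} [Field F] [Fintype F] (hF : Odd (Fintype.card F))
    {L : Subgroup G} (e : L ≃* Matrix.SpecialLinearGroup (Fin 2) F) {j : G} (hj : orderOf j = 2)
    (h : j ∈ L) : (∀ a ∈ L, a * a = 1 → a = 1 ∨ a = j) ∧ (∃ a ∈ L, a * a = j) ∧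
      ∀ a ∈ L, ∀ b ∈ L, a * a = j → b * b = j → ∃ g ∈ L, g * a * g⁻¹ = b := by
  have h2 := Forms.two_ne_zero_of_odd_card rfl hF
  have h0 : j * j = 1 := by rw [← sq, ← hj, pow_orderOf_eq_one]
  have k : ∀ a : L, a.1 * a.1 = 1 → e a = 1 ∨ e a = -1 := fun a ha =>
    Linear.sl2_mul_self_eq_one h2 (by rw [← map_mul, show a * a = 1 from Subtype.ext ha, map_one])
  have h1 : e ⟨j, h⟩ = -1 := (k ⟨j, h⟩ h0).resolve_left fun h3 => by
    rw [show j = 1 from congrArg Subtype.val (e.map_eq_one_iff.1 h3)] at hj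
    simp at hj
  refine ⟨fun a ha h3 => (k ⟨a, ha⟩ h3).imp (fun h4 => congrArg Subtype.val (e.map_eq_one_iff.1 h4))
    fun h4 => congrArg Subtype.val (e.injective (h4.trans h1.symm)), ?_, fun a ha b hb h3 h4 => ?_⟩
  · obtain ⟨w, hw⟩ : ∃ w : Matrix.SpecialLinearGroup (Fin 2) F, w * w = -1 :=
      ⟨⟨!![0, -1; 1, 0], by simp [Matrix.det_fin_two]⟩, by
        refine Subtype.ext (?_ : (!![0, -1; 1, 0] * !![0, -1; 1, 0] : Matrix _ _ F) = -1)
        ext a b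
        fin_cases a <;> fin_cases b <;> simp⟩
    refine ⟨_, (e.symm w).2, congrArg Subtype.val (e.injective (?_ : e (_ * _) = e ⟨j, h⟩))⟩
    rw [map_mul, e.apply_symm_apply, h1, hw]
  · obtain ⟨g, hg⟩ := isConj_iff.1 (Linear.isConj_of_mul_self_eq_neg_one h2 (i := e ⟨a, ha⟩) (j := e ⟨b, hb⟩)
      (by rw [← map_mul, ← h1]; exact congrArg e (Subtype.ext h3))
      (by rw [← map_mul, ← h1]; exact congrArg e (Subtype.ext h4)))
    refine ⟨_, (e.symm g).2, congrArg Subtype.val (e.injective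
      (?_ : e (e.symm g * ⟨a, ha⟩ * (e.symm g)⁻¹) = e ⟨b, hb⟩))⟩
    simpa using hg

/-- Let L₁ ≅ SL₂(q₁) and L₂ ≅ SL₂(q₂), q₁ and q₂ odd, be elementwise-commuting subgroups of a finite group meeting in ⟨j⟩ for an involution j. Then L₁L₂ has exactly two conjugacy classes of involutions: the central involution j, and one further class (there is an involution x ≠ j in L₁L₂, and every involution of L₁L₂ other than j is conjugate to x by an element of L₁L₂). -/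
theorem result {G : Type*} [Group G] [Finite G]
    {F₁ : Type*} [Field F₁] [Fintype F₁] {F₂ : Type*} [Field F₂] [Fintype F₂]
    (hF₁ : Odd (Fintype.card F₁)) (hF₂ : Odd (Fintype.card F₂)) (L₁ L₂ : Subgroup G)
    (e₁ : ↥L₁ ≃* Matrix.SpecialLinearGroup (Fin 2) F₁) (e₂ : ↥L₂ ≃* Matrix.SpecialLinearGroup (Fin 2) F₂)
    (hc : ∀ x ∈ L₁, ∀ y ∈ L₂, x * y = y * x) (j : G) (hj : orderOf j = 2) (hm : L₁ ⊓ L₂ = Subgroup.zpowers j) :
    ∃ x ∈ L₁ ⊔ L₂, orderOf x = 2 ∧ x ≠ j ∧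
      ∀ y ∈ L₁ ⊔ L₂, orderOf y = 2 → y = j ∨ ∃ g ∈ L₁ ⊔ L₂, g * x * g⁻¹ = y := by
  have hj0 : j ∈ L₁ ⊓ L₂ := hm ▸ mem_zpowers j
  obtain ⟨p1, ⟨a, ha, ha'⟩, p3⟩ := aux hF₁ e₁ hj hj0.1
  obtain ⟨q1, ⟨b, hb, hb'⟩, q3⟩ := aux hF₂ e₂ hj hj0.2
  have h0 : j * j = 1 := by rw [← sq, ← hj, pow_orderOf_eq_one]
  have h1 : j ≠ 1 := by rintro rfl; simp at hj
  have k : ∀ x ∈ L₁ ⊓ L₂, x * x = 1 := fun x hx => by
    rw [hm] at hx
    have := pow_card_eq_one' (x := (⟨x, hx⟩ : zpowers j))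
    rw [Nat.card_zpowers, hj, sq] at this
    exact congrArg Subtype.val this
  have sq' : ∀ x ∈ L₁, ∀ y ∈ L₂, x * y * (x * y) = x * x * (y * y) := fun x hx y hy => by
    rw [mul_assoc, ← mul_assoc y, ← hc x hx y hy]; simp only [mul_assoc]
  have k2 : ∀ c ∈ L₂, a * b ≠ c := fun c h e => h1 (ha'.symm.trans
    (k a ⟨ha, (eq_mul_inv_of_mul_eq e) ▸ L₂.mul_mem h (L₂.inv_mem hb)⟩))
  refine ⟨a * b, mul_mem_sup ha hb, orderOf_eq_prime (by rw [sq, sq' a ha b hb, ha', hb', h0])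
    (k2 1 (one_mem _)), k2 j hj0.2, fun y hy h => ?_⟩
  have hn : L₂ ≤ normalizer (L₁ : Set G) :=
    le_trans (b := centralizer L₁) (fun y hy x hx => hc x hx y hy) (centralizer_le_normalizer _)
  rw [← SetLike.mem_coe, coe_mul_of_right_le_normalizer_left _ _ hn] at hy
  obtain ⟨c, hc', d, hd, rfl⟩ := hy
  have h3 : c * c * (d * d) = 1 := by rw [← sq' c hc' d hd, ← sq, ← h, pow_orderOf_eq_one]
  have h4 : c * c ∈ L₁ ⊓ L₂ := ⟨mul_mem hc' hc', eq_inv_of_mul_eq_one_left h3 ▸ L₂.inv_mem (L₂.mul_mem hd hd)⟩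
  rcases p1 _ h4.1 (k _ h4) with h5 | h5
  · rw [h5, one_mul] at h3
    left
    rcases p1 c hc' h5 with rfl | rfl <;> rcases q1 d hd h3 with rfl | rfl
    · simp at h
    · simp
    · simp
    · simp [h0] at h
  · right
    rw [h5, ← h0, mul_right_inj] at h3
    obtain ⟨g, hg, e⟩ := p3 a ha c hc' ha' h5
    obtain ⟨g', hg', e'⟩ := q3 b hb d hd hb' h3
    refine ⟨g * g', mul_mem_sup hg hg', ?_⟩
    change _ = c * d
    rw [← e, ← e', mul_assoc (g * a), hc _ (inv_mem hg) _ (mul_mem (mul_mem hg' hb) (inv_mem hg')),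
      mul_assoc g g', ← mul_assoc g', ← hc a ha g' hg']
    group

end Cfsg.Agent.S3209
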