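import Cfsg.Statements.S3210
import Cfsg.Agent.Lib.FG.SL2Pair
import Cfsg.Agent.Lib.Linear.Card

set_option autoImplicit false
open Cfsg

open Subgroup Cfsg.Lib
open scoped commutatorElement
open Cfsg.Lib.Amalg Cfsg.Lib.FG
namespace Cfsg.Agent.S3210

/-- Let G be a finite group with subgroups L₁ ≅ SL₂(q₁) and L₂ ≅ SL₂(q₂), q₁ and q₂ odd prime powers, which commute elementwise and meet in ⟨j⟩ for an involution j, and suppose L₁L₂ has index 2 in C_G(j). Then every element n of C_G(j) outside L₁L₂ either normalizes both L₁ and L₂, or conjugates L₁ onto L₂; in the second case q₁ = q₂ and there is an element n′ of C_G(j) outside L₁L₂ conjugating L₁ onto L₂ with n′² ∈ ⟨j⟩. -/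
theorem result {G : Type*} [Group G] [Finite G]
    {F₁ : Type*} [Field F₁] [Fintype F₁] {F₂ : Type*} [Field F₂] [Fintype F₂]
    (hF₁ : Odd (Fintype.card F₁)) (hF₂ : Odd (Fintype.card F₂)) (L₁ L₂ : Subgroup G)
    (e₁ : ↥L₁ ≃* Matrix.SpecialLinearGroup (Fin 2) F₁) (e₂ : ↥L₂ ≃* Matrix.SpecialLinearGroup (Fin 2) F₂)
    (hc : ∀ x ∈ L₁, ∀ y ∈ L₂, x * y = y * x) (j : G) (hj : orderOf j = 2) (hm : L₁ ⊓ L₂ = Subgroup.zpowers j)
    (hle : L₁ ⊔ L₂ ≤ Subgroup.centralizer ({j} : Set G)) (hi : (L₁ ⊔ L₂).relIndex (Subgroup.centralizer ({j} : Set G)) = 2) (n : G) (hn : n ∈ Subgroup.centralizer ({j} : Set G)) (hn' : n ∉ L₁ ⊔ L₂) :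
    (L₁.map (MulAut.conj n).toMonoidHom = L₁ ∧ L₂.map (MulAut.conj n).toMonoidHom = L₂) ∨
      (L₁.map (MulAut.conj n).toMonoidHom = L₂ ∧ Fintype.card F₁ = Fintype.card F₂ ∧
        ∃ n' ∈ Subgroup.centralizer ({j} : Set G), n' ∉ L₁ ⊔ L₂ ∧ L₁.map (MulAut.conj n').toMonoidHom = L₂ ∧ n' ^ 2 ∈ Subgroup.zpowers j) := by
  have hj12 : j ∈ L₁ ⊓ L₂ := hm ▸ mem_zpowers j
  obtain ⟨M₁, q1⟩ := qp_of_equiv (by rwa [Nat.card_eq_fintype_card]) e₁ hj12.1 hj
  obtain ⟨M₂, q2⟩ := qp_of_equiv (by rwa [Nat.card_eq_fintype_card]) e₂ hj12.2 hj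
  have hc' : ∀ x ∈ L₂, ∀ y ∈ L₁, x * y = y * x := fun x hx y hy => (hc y hy x hx).symm
  have hnj : n * j * n⁻¹ = j := by
    rw [← mem_centralizer_iff.1 hn j rfl]; group
  set C := centralizer ({j} : Set G) with hC
  have hYn : C ≤ 𝐍 (L₁ ⊔ L₂) :=
    (normal_subgroupOf_iff_le_normalizer hle).1 (normal_of_index_eq_two hi)
  have hY : cj n L₁ ⊔ cj n L₂ = L₁ ⊔ L₂ := by rw [← cj_sup, cj_of_mem_normalizer (hYn hn)]
  have hck : ∀ x ∈ cj n L₁, ∀ y ∈ cj n L₂, x * y = y * x := by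
    rintro _ ⟨x, hx, rfl⟩ _ ⟨y, hy, rfl⟩
    rw [← map_mul, ← map_mul, hc x hx y hy]
  have a1 := q1.le_or_le (q1.conj hnj) (q2.conj hnj) hck (hY ▸ le_sup_left)
    (hY ▸ sup_le_norm_of_comm hc)
  have a2 := q2.le_or_le (q1.conj hnj) (q2.conj hnj) hck (hY ▸ le_sup_right)
    (hY ▸ sup_comm L₂ L₁ ▸ sup_le_norm_of_comm hc')
  have n12 : ¬ L₁ ≤ L₂ := fun h => q1.not_le (by rw [← hm]; exact le_inf le_rfl h)
  have n21 : ¬ L₂ ≤ L₁ := fun h => q2.not_le (by rw [← hm]; exact le_inf h le_rfl)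
  rcases a1 with a1 | a1 <;> rcases a2 with a2 | a2
  · rw [← eq_of_le_of_card_le' a1 (card_cj n L₁).le] at a2; exact absurd a2 n21
  · exact Or.inl ⟨(eq_of_le_of_card_le' a1 (card_cj n L₁).le).symm,
      (eq_of_le_of_card_le' a2 (card_cj n L₂).le).symm⟩
  · right
    have c1 := card_le_of_le a1
    have c2 := card_le_of_le a2
    rw [card_cj] at c1 c2
    have s1 : cj n L₁ = L₂ := (eq_of_le_of_card_le' a2 (by rw [card_cj]; exact c1)).symm
    have s2 : cj n L₂ = L₁ := (eq_of_le_of_card_le' a1 (by rw [card_cj]; exact c2)).symm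
    refine ⟨s1, ?_, ?_⟩
    · have e : Nat.card L₁ = Nat.card L₂ := le_antisymm c1 c2
      rw [Nat.card_congr e₁.toEquiv, Nat.card_congr e₂.toEquiv, Linear.card_SL_two, Linear.card_SL_two,
        Nat.card_eq_fintype_card, Nat.card_eq_fintype_card] at e
      have p1 : 1 < Fintype.card F₁ := Fintype.one_lt_card
      have p2 : 1 < Fintype.card F₂ := Fintype.one_lt_card
      generalize Fintype.card F₁ = a at *
      generalize Fintype.card F₂ = b at *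
      have mono : ∀ a b : ℕ, 1 < a → a < b → a * ((a - 1) * (a + 1)) < b * ((b - 1) * (b + 1)) := by
        intro a b h1 h2
        exact Nat.mul_lt_mul'' h2 (Nat.mul_lt_mul'' (by omega) (by omega))
      rcases lt_trichotomy a b with h | h | h
      · exact absurd e (by simpa [mul_assoc] using (mono a b p1 h).ne)
      · exact h
      · exact absurd e (by simpa [mul_assoc] using (mono b a p2 h).ne')
    · have hn2 : n * n ∈ L₁ ⊔ L₂ :=
        mul_self_mem_of_index_two (H := (L₁ ⊔ L₂).subgroupOf C) hi ⟨n, hn⟩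
      obtain ⟨a, ha, b, hb, e⟩ := (mem_sup_of_comm hc).1 hn2
      have ha' : n * a * n⁻¹ ∈ L₂ := s1 ▸ conj_mem_cj n ha
      have hb' : n * b * n⁻¹ ∈ L₁ := s2 ▸ conj_mem_cj n hb
      have e1 : (n * a * n⁻¹) * (n * b * n⁻¹) = a * b := by
        calc _ = n * (a * b) * n⁻¹ := by group
          _ = _ := by rw [e]; group
      have e2 : (n * a * n⁻¹)⁻¹ * b = (n * b * n⁻¹) * a⁻¹ := by
        rw [inv_mul_eq_iff_eq_mul, ← mul_assoc, e1, hc a ha b hb]; group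
      refine ⟨a⁻¹ * n, C.mul_mem (C.inv_mem (hle (mem_sup_left ha))) hn, fun h => hn' ?_, ?_, ?_⟩
      · exact ((L₁ ⊔ L₂).mul_mem_cancel_left (inv_mem (mem_sup_left ha))).1 h
      · rw [cj_mul, s1]
        exact cj_of_mem_normalizer (sup_le_norm_of_comm hc' (mem_sup_right (L₁.inv_mem ha)))
      · rw [← hm]
        have e3 : (a⁻¹ * n) ^ 2 = (n * a * n⁻¹)⁻¹ * b := by
          calc _ = a⁻¹ * ((n * a * n⁻¹)⁻¹ * (n * n)) := by rw [pow_two]; group
            _ = a⁻¹ * ((n * a * n⁻¹)⁻¹ * a) * b := by rw [← e]; group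
            _ = _ := by rw [← hc a ha _ (L₂.inv_mem ha')]; group
        rw [e3]
        exact ⟨e2 ▸ L₁.mul_mem hb' (L₁.inv_mem ha), L₂.mul_mem (L₂.inv_mem ha') hb⟩
  · rw [← eq_of_le_of_card_le' a2 (card_cj n L₂).le] at a1; exact absurd a1 n12

end Cfsg.Agent.S3210
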