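import Cfsg.Statements.S3211
import Cfsg.Agent.Lib.FG.SL2Pair
import Cfsg.Agent.Lib.Block.IsoElt

set_option autoImplicit false
open Cfsg

open Subgroup Cfsg.Lib
open scoped commutatorElement
open Cfsg.Lib.Amalg Cfsg.Lib.FG
namespace Cfsg.Agent.S3211

/-- Let G be a finite group with subgroups L₁ ≅ SL₂(q₁) and L₂ ≅ SL₂(q₂), q₁ and q₂ odd prime powers, which commute elementwise and meet in ⟨j⟩ for an involution j, and suppose L₁L₂ has index 2 in C_G(j). If some n ∈ C_G(j) with n² = j interchanges L₁ and L₂ under conjugation (so that C_G(j) = L₁L₂⟨n⟩), then G = C_G(j)O(G). -/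
theorem result {G : Type*} [Group G] [Finite G]
    {F₁ : Type*} [Field F₁] [Fintype F₁] {F₂ : Type*} [Field F₂] [Fintype F₂]
    (hF₁ : Odd (Fintype.card F₁)) (hF₂ : Odd (Fintype.card F₂)) (L₁ L₂ : Subgroup G)
    (e₁ : ↥L₁ ≃* Matrix.SpecialLinearGroup (Fin 2) F₁) (e₂ : ↥L₂ ≃* Matrix.SpecialLinearGroup (Fin 2) F₂)
    (hc : ∀ x ∈ L₁, ∀ y ∈ L₂, x * y = y * x) (j : G) (hj : orderOf j = 2) (hm : L₁ ⊓ L₂ = Subgroup.zpowers j)
    (hle : L₁ ⊔ L₂ ≤ Subgroup.centralizer ({j} : Set G)) (hi : (L₁ ⊔ L₂).relIndex (Subgroup.centralizer ({j} : Set G)) = 2) (n : G) (hn : n ∈ Subgroup.centralizer ({j} : Set G))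
    (hn2 : n ^ 2 = j) (hswap : L₁.map (MulAut.conj n).toMonoidHom = L₂) :
    Subgroup.centralizer ({j} : Set G) ⊔ Cfsg.oddCore G = ⊤ := by
  haveI : Fact (Nat.Prime 2) := ⟨Nat.prime_two⟩
  have hj12 : j ∈ L₁ ⊓ L₂ := hm ▸ mem_zpowers j
  obtain ⟨M, q1⟩ := qp_of_equiv (by rwa [Nat.card_eq_fintype_card]) e₁ hj12.1 hj
  have hnj : n * j * n⁻¹ = j := by rw [← hn2, pow_two]; group
  have q2 : QP L₂ j M := hswap ▸ q1.conj hnj
  have hc' : ∀ x ∈ L₂, ∀ y ∈ L₁, x * y = y * x := fun x hx y hy => (hc y hy x hx).symm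
  have hjj : j * j = 1 := q1.z2
  have hswap' : cj n L₂ = L₁ := by
    rw [← hswap, ← cj_mul, ← pow_two, hn2, cj_of_mem hj12.1]
  have hI : ∀ x, x ∈ L₁ → x ∈ L₂ → x = 1 ∨ x = j := fun x h1 h2 => q1.of_mem_zp (hm ▸ ⟨h1, h2⟩)
  set C := centralizer ({j} : Set G) with hC
  have hmC : ∀ {x : G}, x ∈ C ↔ j * x = x * j := by
    intro x; rw [hC, mem_centralizer_iff]; simp
  have hnY : n ∉ L₁ ⊔ L₂ := by
    intro h
    have e : L₁ = L₂ := by rw [← hswap]; exact (cj_of_mem_normalizer (sup_le_norm_of_comm hc h)).symm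
    exact q1.not_le (by rw [← hm, ← e, inf_idem])
  have hout : ∀ u ∈ C, u ∉ L₁ ⊔ L₂ → u * n⁻¹ ∈ L₁ ⊔ L₂ := by
    intro u hu h
    have := (mul_mem_iff_of_index_two (H := (L₁ ⊔ L₂).subgroupOf C) hi (a := ⟨u, hu⟩)
      (b := ⟨n, hn⟩⁻¹)).2 (by
        rw [inv_mem_iff]
        exact ⟨fun h' => absurd h' h, fun h' => absurd h' hnY⟩)
    exact this
  -- involutions of `C` lie in `L₁ L₂`
  have h1 : ∀ u ∈ C, u * u = 1 → u ∈ L₁ ⊔ L₂ := by
    intro u hu hu2
    by_contra h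
    obtain ⟨a, ha, b, hb, e⟩ := (mem_sup_of_comm hc).1 (hout u hu h)
    have hu' : u = a * b * n := by rw [e]; group
    have ha' : n * a * n⁻¹ ∈ L₂ := hswap ▸ conj_mem_cj n ha
    have hb' : n * b * n⁻¹ ∈ L₁ := hswap' ▸ conj_mem_cj n hb
    have e2 : (a * (n * b * n⁻¹)) * (b * (n * a * n⁻¹)) * j = 1 := by
      rw [← hu2, hu', ← hn2]
      have e3 := hc _ hb' b hb
      have e4 := hc _ hb' _ ha'
      calc _ = a * ((n * b * n⁻¹) * b) * (n * a * n⁻¹) * n ^ 2 := by group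
        _ = a * b * ((n * b * n⁻¹) * (n * a * n⁻¹)) * n ^ 2 := by rw [e3]; group
        _ = _ := by rw [e4, pow_two]; group
    have hA : a * (n * b * n⁻¹) ∈ L₂ := by
      have : a * (n * b * n⁻¹) = ((b * (n * a * n⁻¹)) * j)⁻¹ := by
        rw [eq_inv_iff_mul_eq_one, ← mul_assoc, e2]
      rw [this]
      exact L₂.inv_mem (L₂.mul_mem (L₂.mul_mem hb ha') hj12.2)
    have hB : n * (b * (n * a * n⁻¹)) * n⁻¹ = a⁻¹ * (a * (n * b * n⁻¹)) * a := by
      calc _ = (n * b * n⁻¹) * (n ^ 2 * a * (n ^ 2)⁻¹) := by rw [pow_two]; group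
        _ = _ := by rw [hn2, ← q1.cen a ha]; group
    rcases hI _ (L₁.mul_mem ha hb') hA with e3 | e3
    · rw [e3] at hB e2
      have : b * (n * a * n⁻¹) = 1 := by
        calc _ = n⁻¹ * (n * (b * (n * a * n⁻¹)) * n⁻¹) * n := by group
          _ = 1 := by rw [hB]; group
      rw [this] at e2
      exact q1.z1 (by simpa using e2)
    · rw [e3] at hB e2
      have : b * (n * a * n⁻¹) = j := by
        calc _ = n⁻¹ * (n * (b * (n * a * n⁻¹)) * n⁻¹) * n := by group
          _ = n⁻¹ * j * n := by rw [hB, mul_assoc a⁻¹, ← q1.cen a ha]; group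
          _ = j := by conv_lhs => rw [← hnj]
                      group
      rw [this, hjj, one_mul] at e2
      exact q1.z1 e2
  -- `2 ^ M`-th powers of `2`-elements of `L₁ L₂`
  have h2 : ∀ y ∈ L₁ ⊔ L₂, y ^ 2 ^ (M + 1) = 1 → y ^ 2 ^ M = 1 ∨ y ^ 2 ^ M = j := by
    intro y hy e
    obtain ⟨a, ha, b, hb, rfl⟩ := (mem_sup_of_comm hc).1 hy
    have hab : Commute a b := hc a ha b hb
    rw [hab.mul_pow] at e ⊢
    have hs : ∀ x : G, x = 1 ∨ x = j → x * x = 1 := by rintro x (rfl | rfl) <;> simp [hjj]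
    have e1 : a ^ 2 ^ (M + 1 + 1) = 1 := by
      rw [pow_succ 2 (M + 1), pow_mul, pow_two]
      refine hs _ (hI _ (L₁.pow_mem ha _) ?_)
      rw [eq_inv_of_mul_eq_one_left e]; exact L₂.inv_mem (L₂.pow_mem hb _)
    have e2 : b ^ 2 ^ (M + 1 + 1) = 1 := by
      rw [pow_succ 2 (M + 1), pow_mul, pow_two]
      refine hs _ (hI _ ?_ (L₂.pow_mem hb _))
      rw [eq_inv_of_mul_eq_one_right e]; exact L₁.inv_mem (L₁.pow_mem ha _)
    have e3 := q1.inv _ (L₁.pow_mem ha (2 ^ M)) (by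
      rw [← pow_two, ← pow_mul, ← pow_succ]; exact q1.pw a ha _ e1)
    have e4 := q2.inv _ (L₂.pow_mem hb (2 ^ M)) (by
      rw [← pow_two, ← pow_mul, ← pow_succ]; exact q2.pw b hb _ e2)
    rcases e3 with e3 | e3 <;> rcases e4 with e4 | e4 <;> simp [e3, e4, hjj]
  have hiso : IsIsolated j := by
    intro g hg
    by_contra hne
    set u := g * j * g⁻¹ with hu
    have hu2 : u * u = 1 := by
      calc _ = g * (j * j) * g⁻¹ := by rw [hu]; group
        _ = 1 := by rw [hjj]; group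
    have hu1 : u ≠ 1 := fun h => q1.z1 (by
      calc j = g⁻¹ * u * g := by rw [hu]; group
        _ = 1 := by rw [h]; group)
    have huC : u ∈ C := hmC.2 hg.eq
    obtain ⟨x, hx, y, hy, e⟩ := (mem_sup_of_comm hc).1 (h1 u huC hu2)
    have hxy : x * x * (y * y) = 1 := by
      rw [← hu2, ← e]
      calc _ = x * (x * y) * y := by group
        _ = x * (y * x) * y := by rw [hc x hx y hy]
        _ = _ := by group
    have hx2 : x * x = j := by
      refine (hI _ (L₁.mul_mem hx hx) ?_).resolve_left fun h => ?_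
      · rw [eq_inv_of_mul_eq_one_left hxy]; exact L₂.inv_mem (L₂.mul_mem hy hy)
      · rw [h, one_mul] at hxy
        rcases q1.inv x hx h with e1 | e1 <;> rcases q2.inv y hy hxy with e2 | e2 <;>
          rw [e1, e2] at e
        · exact hu1 (by rw [← e, one_mul])
        · exact hne (by rw [← e, one_mul])
        · exact hne (by rw [← e, mul_one])
        · exact hu1 (by rw [← e, hjj])
    have hy2 : y * y = j := by
      rw [hx2] at hxy
      rw [eq_inv_of_mul_eq_one_right hxy, inv_eq_of_mul_eq_one_right hjj]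
    obtain ⟨a, ha, b₁, hb₁, ha1, hax, hb1, hbx, hba⟩ := q1.ex x hx hx2
    obtain ⟨-, -, b₂, hb₂, -, -, hb2, hby, -⟩ := q2.ex y hy hy2
    set b := b₁ * b₂ with hb
    have hbb : b * b = 1 := by
      calc _ = b₁ * (b₂ * b₁) * b₂ := by rw [hb]; group
        _ = (b₁ * b₁) * (b₂ * b₂) := by rw [← hc b₁ hb₁ b₂ hb₂]; group
        _ = 1 := by rw [hb1, hb2, hjj]
    have hcL1 : ∀ w ∈ L₁, b * w * b⁻¹ = b₁ * w * b₁⁻¹ := by
      intro w hw
      calc _ = b₁ * (b₂ * w) * b₂⁻¹ * b₁⁻¹ := by rw [hb]; group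
        _ = _ := by rw [← hc w hw b₂ hb₂]; group
    have hcL2 : ∀ w ∈ L₂, b * w * b⁻¹ = b₂ * w * b₂⁻¹ := by
      intro w hw
      calc _ = b₂ * (b₁ * w) * b₁⁻¹ * b₂⁻¹ := by rw [hb, hc b₁ hb₁ b₂ hb₂]; group
        _ = _ := by rw [hc b₁ hb₁ w hw]; group
    have hbu : b * u * b⁻¹ = u := by
      calc _ = (b * x * b⁻¹) * (b * y * b⁻¹) := by rw [← e]; group
        _ = (y * x)⁻¹ := by rw [hcL1 x hx, hcL2 y hy, hbx, hby]; group
        _ = u := by rw [← hc x hx y hy, e, inv_eq_of_mul_eq_one_right hu2]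
    have hba' : b * a * b⁻¹ = a⁻¹ := by rw [hcL1 a ha, hba]
    have hau : a * u = u * a := by
      rw [← e, ← mul_assoc, hax, mul_assoc, hc a ha y hy, mul_assoc]
    set Cu := centralizer ({u} : Set G) with hCu
    have hmCu : ∀ {x : G}, x ∈ Cu ↔ u * x = x * u := by
      intro x; rw [hCu, mem_centralizer_iff]; simp
    have ha2 : a ^ 2 ^ (M + 1) = 1 := by rw [pow_succ, pow_mul, ha1, pow_two, hjj]
    have hD : IsPGroup 2 (zpowers b ⊔ zpowers a : Subgroup G) := by
      refine isPGroup_sup_of_le_normalizer (isPGroup_zpowers_of_pow (k := 1) (by rw [pow_one, pow_two, hbb]))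
        (isPGroup_zpowers_of_pow ha2) ?_
      rw [zpowers_le]
      refine cj_eq_self_iff.1 ?_
      rw [cj_zpowers, hba', zpowers_inv]
    have hDle : zpowers b ⊔ zpowers a ≤ Cu ⊓ C := by
      refine sup_le (zpowers_le.2 ⟨hmCu.2 ?_, hle ?_⟩) (zpowers_le.2 ⟨hmCu.2 hau.symm, hle (mem_sup_left ha)⟩)
      · exact (mul_inv_eq_iff_eq_mul.1 hbu).symm
      · exact mul_mem_sup hb₁ hb₂
    obtain ⟨T, hT, hDT⟩ := exists_syl_ge hD hDle
    have haT : a ∈ T := hDT (mem_sup_right (mem_zpowers a))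
    have hbT : b ∈ T := hDT (mem_sup_left (mem_zpowers b))
    have hNT : 𝐍 T ≤ C := by
      intro c hc0
      have hcT : ∀ w ∈ T, w * w = 1 → c * w * c⁻¹ ∈ L₁ ⊔ L₂ := by
        intro w hw hw2
        refine h1 _ (hT.le ((mem_normalizer_iff.1 hc0 w).1 hw)).2 ?_
        calc _ = c * (w * w) * c⁻¹ := by group
          _ = 1 := by rw [hw2]; group
      have e1 : c * a * c⁻¹ = (c * b * c⁻¹) * (c * (b * a) * c⁻¹) := by
        calc _ = c * ((b * b) * a) * c⁻¹ := by rw [hbb]; group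
          _ = _ := by group
      have e2 : (b * a) * (b * a) = 1 := by
        calc _ = (b * a * b⁻¹) * (b * b) * a := by group
          _ = 1 := by rw [hba', hbb]; group
      have e3 : c * a * c⁻¹ ∈ L₁ ⊔ L₂ := by
        rw [e1]; exact mul_mem (hcT b hbT hbb) (hcT _ (T.mul_mem hbT haT) e2)
      rcases h2 _ e3 (by rw [conj_pow, ha2]; group) with e4 | e4 <;> rw [conj_pow, ha1] at e4
      · exact absurd (by
          calc j = c⁻¹ * (c * j * c⁻¹) * c := by group
            _ = 1 := by rw [e4]; group) q1.z1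
      · exact hmC.2 (mul_inv_eq_iff_eq_mul.1 e4).symm
    have hTu : Syl 2 T Cu := hT.of_normalizer_le inf_le_left (inf_le_inf_left _ hNT)
    have hCuC : Cu = cj g C := by rw [hC, cj_centralizer_singleton]
    obtain ⟨T', hT'⟩ := exists_syl 2 C
    have hTC : Syl 2 T C := by
      refine hT'.of_card_ge hT.isPGroup (hT.le.trans inf_le_right) ?_
      rw [hTu.card_eq (hCuC ▸ hT'.conj g), card_cj]
    -- a quaternion pair of `L₁` conjugated into `T`
    obtain ⟨i, hi1, k, hk1, hi2, hk2, hik⟩ := q1.q8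
    have hQ : IsPGroup 2 (zpowers k ⊔ zpowers i : Subgroup G) := by
      have h4 : ∀ w : G, w * w = j → w ^ 2 ^ 2 = 1 := fun w hw => by
        rw [show 2 ^ 2 = 2 * 2 from rfl, pow_mul, pow_two w, hw, pow_two, hjj]
      refine isPGroup_sup_of_le_normalizer (isPGroup_zpowers_of_pow (h4 k hk2))
        (isPGroup_zpowers_of_pow (h4 i hi2)) ?_
      rw [zpowers_le]
      refine cj_eq_self_iff.1 ?_
      have : k * i * k⁻¹ = i⁻¹ := by
        have e1 : k * i = j * (i * k) := by rw [hik, ← mul_assoc, hjj, one_mul]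
        rw [e1, eq_inv_iff_mul_eq_one, ← hjj]
        conv_rhs => rw [← hi2]
        rw [← hi2]; group
      rw [cj_zpowers, this, zpowers_inv]
    obtain ⟨c, hcC, hcT⟩ := hTC.exists_conj_le hQ
      (sup_le (zpowers_le.2 (hle (mem_sup_left hk1))) (zpowers_le.2 (hle (mem_sup_left hi1))))
    have hcj : c * j * c⁻¹ = j := by rw [← hmC.1 hcC]; group
    have hi3 : c * i * c⁻¹ ∈ T := hcT (conj_mem_cj c (mem_sup_right (mem_zpowers i)))
    have hk3 : c * k * c⁻¹ ∈ T := hcT (conj_mem_cj c (mem_sup_left (mem_zpowers k)))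
    have hsq : ∀ w : G, w * w = j → (c * w * c⁻¹) * (c * w * c⁻¹) = j := fun w hw => by
      calc _ = c * (w * w) * c⁻¹ := by group
        _ = j := by rw [hw, hcj]
    have fin : ∀ {L L' : Subgroup G} {x y : G}, QP L j M → (∀ x ∈ L, ∀ y ∈ L', x * y = y * x) →
        x ∈ L → y ∈ L' → x * y = u → x * x = j → cj c L₁ = L → False := by
      intro L L' x y q hc hx hy e hx2 hL
      have aux : ∀ w ∈ L, w ∈ T → w * w = j → w = x⁻¹ ∨ w = x⁻¹ * j := by
        intro w hw hwT hw2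
        have e1 := hmCu.1 (hT.le hwT).1
        rw [← e, mul_assoc, ← hc w hw y hy, ← mul_assoc, ← mul_assoc, mul_left_inj] at e1
        rcases q.inv _ (L.mul_mem hx hw) (by
          calc _ = x * (w * x) * w := by group
            _ = (x * x) * (w * w) := by rw [← e1]; group
            _ = 1 := by rw [hx2, hw2, hjj]) with e2 | e2
        · left; exact eq_inv_of_mul_eq_one_right e2
        · right; rw [← e2]; group
      have hxj : Commute x⁻¹ j := (show Commute x j from q.cen x hx).inv_left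
      have hcomm : Commute (c * i * c⁻¹) (c * k * c⁻¹) := by
        rcases aux _ (hL ▸ conj_mem_cj c hi1) hi3 (hsq i hi2) with e1 | e1 <;>
          rcases aux _ (hL ▸ conj_mem_cj c hk1) hk3 (hsq k hk2) with e2 | e2 <;> rw [e1, e2]
        · exact (Commute.refl _).mul_right hxj
        · exact (Commute.refl _).mul_left hxj.symm
      have : i * k = k * i := by
        calc _ = c⁻¹ * ((c * i * c⁻¹) * (c * k * c⁻¹)) * c := by group
          _ = _ := by rw [hcomm.eq]; group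
      rw [this] at hik
      exact q1.z1 (by simpa using hik)
    by_cases hcY : c ∈ L₁ ⊔ L₂
    · exact fin q1 hc hx hy e hx2 (cj_of_mem_normalizer (sup_le_norm_of_comm hc hcY))
    · refine fin q2 hc' hy hx (by rw [← hc x hx y hy, e]) hy2 ?_
      have := cj_of_mem_normalizer (sup_le_norm_of_comm hc' (sup_comm L₁ L₂ ▸ hout c hcC hcY))
      rw [show c = c * n⁻¹ * n by group, cj_mul, hswap, this]
  have hZ := Block.z_star_elt (k := 1) (by rw [pow_one, pow_two, hjj]) hiso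
  rw [eq_top_iff]
  intro g _
  obtain ⟨o, ho, c, hc, rfl⟩ := hZ.exists_mul (k := 1) (by rw [pow_one, pow_two, hjj]) g
  exact mul_mem (mem_sup_right ho) (mem_sup_left hc)

end Cfsg.Agent.S3211
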