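import Cfsg.Statements.S3213
import Mathlib


set_option autoImplicit false
open Cfsg

namespace Cfsg.Agent.S3213

open Matrix Module LinearMap

theorem key : ∀ A : Matrix (Fin 2) (Fin 2) (ZMod 5), A * A * A = 1 → A ≠ 1 → ∃ t : ZMod 5,
    ((A * (!![1, t; 0, 1] * A * !![1, -t; 0, 1])) ^ 2) ^ 5 = 1 ∧ (A * (!![1, t; 0, 1] * A * !![1, -t; 0, 1])) ^ 2 ≠ 1 := by
  decide +kernel

theorem kc {F V : Type*} [Field F] [AddCommGroup V] [Module F V] [FiniteDimensional F V] (f g : V →ₗ[F] V) :
    finrank F (ker (f ∘ₗ g)) ≤ finrank F (ker f) + finrank F (ker g) := by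
  let h : ker (f ∘ₗ g) →ₗ[F] ker f := g.restrict fun x hx => hx
  have h0 := h.finrank_range_add_finrank_ker
  have h1 := (range h).finrank_le
  have h2 : finrank F (ker h) ≤ finrank F (ker g) := finrank_le_finrank_of_injective
    (f := ((ker (f ∘ₗ g)).subtype ∘ₗ (ker h).subtype).codRestrict (ker g) fun x => congrArg Subtype.val x.2)
    fun x y e => Subtype.ext (Subtype.ext (congrArg (fun z : ker g => z.1) e))
  omega

/-- Let F be the field with 3 elements and K the field with 5 elements. For every injective homomorphism φ from SL₂(K) into the symplectic group Sp₄(F) (4 × 4 matrices g with g J gᵀ = J for the standard alternating matrix J) and every element x of order 3 of SL₂(K), the vectors of F⁴ fixed by φ(x) form a 2-dimensional subspace that is totally isotropic for the alternating form defined by J. -/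
theorem result {F : Type*} [Field F] [Fintype F] (hF : Fintype.card F = 3)
    {K : Type*} [Field K] [Fintype K] (hK : Fintype.card K = 5)
    (φ : Matrix.SpecialLinearGroup (Fin 2) K →* ↥(Matrix.symplecticGroup (Fin 2) F)) (hφ : Function.Injective φ)
    (x : Matrix.SpecialLinearGroup (Fin 2) K) (hx : orderOf x = 3) :
    Module.finrank F ↥(LinearMap.ker (Matrix.toLin' ((φ x : Matrix (Fin 2 ⊕ Fin 2) (Fin 2 ⊕ Fin 2) F)) - LinearMap.id)) = 2 ∧
      ∀ v w : Fin 2 ⊕ Fin 2 → F, (φ x : Matrix (Fin 2 ⊕ Fin 2) (Fin 2 ⊕ Fin 2) F).mulVec v = v →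
        (φ x : Matrix (Fin 2 ⊕ Fin 2) (Fin 2 ⊕ Fin 2) F).mulVec w = w →
          dotProduct v ((Matrix.J (Fin 2) F).mulVec w) = 0 := by
  classical
  haveI : Fact (Nat.Prime 5) := ⟨by norm_num⟩
  haveI : Fact (Nat.Prime 3) := ⟨by norm_num⟩
  haveI : CharP F 3 := charP_of_card_eq_prime hF
  let ρ : SpecialLinearGroup (Fin 2) K →* Module.End F (Fin 2 ⊕ Fin 2 → F) :=
    (toLinAlgEquiv' : Matrix (Fin 2 ⊕ Fin 2) (Fin 2 ⊕ Fin 2) F ≃ₐ[F] _).toMonoidHom.comp ((symplecticGroup (Fin 2) F).subtype.comp φ)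
  have hρ : Function.Injective ρ := toLinAlgEquiv'.injective.comp (Subtype.val_injective.comp hφ)
  have hV : finrank F (Fin 2 ⊕ Fin 2 → F) = 4 := by simp
  have hm : ∀ g v, v ∈ ker (ρ g - 1) ↔ ρ g v = v := fun g v => by simp [sub_eq_zero]
  have h4 : ∀ g, finrank F (ker (ρ g - 1)) = 4 → g = 1 := fun g h => hρ (by
    rw [map_one, ← sub_eq_zero, ← ker_eq_top]; exact Submodule.eq_top_of_finrank_eq (h.trans hV.symm))
  have x1 : x ≠ 1 := fun h => by rw [h, orderOf_one] at hx; omega
  have x3 : x ^ 3 = 1 := hx ▸ pow_orderOf_eq_one x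
  have n3 : (ρ x - 1) ∘ₗ (ρ x - 1) ∘ₗ (ρ x - 1) = 0 := by
    haveI : CharP (Module.End F (Fin 2 ⊕ Fin 2 → F)) 3 := charP_of_injective_algebraMap (algebraMap F _).injective 3
    have : (ρ x - 1) ^ 3 = 0 := by rw [sub_pow_char_of_commute _ (Commute.one_right _), ← map_pow, x3, map_one, one_pow, sub_self]
    rw [pow_succ', pow_two] at this
    exact this
  have hd : finrank F (ker (ρ x - 1)) = 2 := by
    have h1 := kc (ρ x - 1) ((ρ x - 1) ∘ₗ (ρ x - 1))
    have h2 := kc (ρ x - 1) (ρ x - 1)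
    have h3 := (ker (ρ x - 1)).finrank_le
    have h5 := mt (h4 x) x1
    rw [n3, ker_zero, finrank_top, hV] at h1
    by_contra h
    let e : K ≃+* ZMod 5 := FiniteField.ringEquivOfCardEq (by simp [hK])
    obtain ⟨t, t1, t2⟩ := key (e.mapMatrix x.1) (by
      rw [← map_mul, ← map_mul, ← map_one e.mapMatrix]; congr 1
      rw [pow_succ, pow_two] at x3
      exact congrArg Subtype.val x3)
      fun h => x1 (Subtype.ext (e.mapMatrix.injective (h.trans (map_one _).symm)))
    obtain ⟨t, rfl⟩ := e.surjective t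
    let g : SpecialLinearGroup (Fin 2) K := ⟨!![1, t; 0, 1], by simp [det_fin_two]⟩
    let g' : SpecialLinearGroup (Fin 2) K := ⟨!![1, -t; 0, 1], by simp [det_fin_two]⟩
    have hg : g' * g = 1 := Subtype.ext (by
      change !![1, -t; 0, 1] * !![1, t; 0, 1] = (1 : Matrix (Fin 2) (Fin 2) K)
      rw [one_fin_two]; simp)
    have he : e.mapMatrix ((x * (g * x * g')) ^ 2).1 =
        (e.mapMatrix x.1 * (!![1, e t; 0, 1] * e.mapMatrix x.1 * !![1, -e t; 0, 1])) ^ 2 := by
      have a : e.mapMatrix g.1 = !![1, e t; 0, 1] := by ext i j; fin_cases i <;> fin_cases j <;> simp [g]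
      have b : e.mapMatrix g'.1 = !![1, -e t; 0, 1] := by ext i j; fin_cases i <;> fin_cases j <;> simp [g']
      rw [← a, ← b, ← map_mul, ← map_mul, ← map_mul, ← map_pow]; rfl
    rw [← he] at t1 t2
    have w5 : ((x * (g * x * g')) ^ 2) ^ 5 = 1 := Subtype.ext (e.mapMatrix.injective (by
      exact (map_pow e.mapMatrix ((x * (g * x * g')) ^ 2).1 5).trans (t1.trans (map_one _).symm)))
    have w1 : (x * (g * x * g')) ^ 2 ≠ 1 := fun h => t2 (by rw [h]; exact map_one _)
    have k1 : finrank F (ker (ρ x - 1)) ≤ finrank F (ker (ρ (g * x * g') - 1)) := finrank_le_finrank_of_injective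
      (f := (ρ g).restrict fun v hv => (hm _ _).2 (by
        rw [← Module.End.mul_apply, ← map_mul, mul_assoc, hg, mul_one, map_mul, Module.End.mul_apply, (hm _ _).1 hv]))
      fun v w h => Subtype.ext (by
        have := congrArg (fun u => ρ g' u.1) h
        simpa [← Module.End.mul_apply, ← map_mul, hg] using this)
    have k2 := Submodule.finrank_sup_add_finrank_inf_eq (ker (ρ x - 1)) (ker (ρ (g * x * g') - 1))
    have k3 := (ker (ρ x - 1) ⊔ ker (ρ (g * x * g') - 1)).finrank_le
    have k4 : finrank F (ker (ρ x - 1) ⊓ ker (ρ (g * x * g') - 1) : Submodule F _) ≤ finrank F (ker (ρ ((x * (g * x * g')) ^ 2) - 1)) :=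
      Submodule.finrank_mono fun v hv => (hm _ _).2 (by
        rw [pow_two, map_mul, map_mul]; simp only [Module.End.mul_apply, (hm _ _).1 hv.1, (hm _ _).1 hv.2])
    generalize (x * (g * x * g')) ^ 2 = w at *
    have k5 := (ker (ρ w - 1)).finrank_le
    have k6 := mt (h4 w) w1
    have k7 := Equiv.Perm.card_fixedPoints_modEq (p := 5) (n := 1) (f := (ρ w : _ → _)) (by
      funext v; change (ρ w) (ρ w (ρ w (ρ w (ρ w v)))) = v
      simp only [← Module.End.mul_apply, ← map_mul]
      rw [show w * (w * (w * (w * w))) = w ^ 5 by simp only [pow_succ', pow_zero, mul_one], w5, map_one]; rfl)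
    rw [show Fintype.card (Function.fixedPoints (ρ w : _ → _)) = Fintype.card (ker (ρ w - 1)) from
      Fintype.card_congr (Equiv.subtypeEquivRight fun v => (hm w v).symm), Module.card_eq_pow_finrank (K := F),
      Module.card_eq_pow_finrank (K := F) (V := ker (ρ w - 1)), hV, hF] at k7
    obtain h | h : finrank F (ker (ρ w - 1)) = 2 ∨ finrank F (ker (ρ w - 1)) = 3 := by omega
    all_goals rw [h] at k7; revert k7; decide
  refine ⟨hd, fun v w hv hw => ?_⟩
  let B := Matrix.toBilin' (J (Fin 2) F)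
  have sk : ∀ v w, B v w = -B w v := fun v w => by
    rw [toBilin'_apply', toBilin'_apply', dotProduct_mulVec, ← mulVec_transpose, J_transpose, neg_mulVec, neg_dotProduct,
      dotProduct_comm]
  have al : ∀ v, B v v = 0 := fun v => by
    have h3 : (3 : F) = 0 := CharP.cast_eq_zero F 3
    linear_combination B v v * h3 - (sk v v)
  have iv : ∀ v w, B (ρ x v) (ρ x w) = B v w := fun v w => by
    rw [toBilin'_apply', toBilin'_apply']
    conv_rhs => rw [← (SymplecticGroup.mem_iff').1 (φ x).2, ← mulVec_mulVec, ← mulVec_mulVec,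
      dotProduct_mulVec v, ← mulVec_transpose, transpose_transpose]
    rfl
  obtain ⟨u, u0, u1⟩ : ∃ u, (ρ x - 1) u ≠ 0 ∧ (ρ x - 1) ((ρ x - 1) u) = 0 := by
    by_cases h : ∀ u, (ρ x - 1) ((ρ x - 1) u) = 0
    · by_contra! h1
      exact x1 (hρ (by rw [map_one, ← sub_eq_zero]; refine LinearMap.ext fun u => ?_; by_contra h2; exact h1 u h2 (h u)))
    · push Not at h
      obtain ⟨u, hu⟩ := h
      exact ⟨_, hu, congrArg (· u) n3⟩
  have pu : ∀ w, ρ x w = w → B ((ρ x - 1) u) w = 0 := fun w hw => by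
    have := iv u w
    rw [hw] at this
    simp [this]
  have ld : ¬ LinearIndependent F ![(⟨_, u1⟩ : ker (ρ x - 1)), ⟨v, (hm _ _).2 hv⟩, ⟨w, (hm _ _).2 hw⟩] := fun h => by
    have := h.fintype_card_le_finrank
    rw [hd] at this; simp at this
  rw [Fintype.linearIndependent_iff] at ld
  push Not at ld
  obtain ⟨c, c0, i, hi⟩ := ld
  have c1 : c 0 • (ρ x - 1) u + c 1 • v + c 2 • w = 0 := by simpa [Fin.sum_univ_three] using congrArg Subtype.val c0
  by_contra hb
  replace hb : B v w ≠ 0 := by rwa [toBilin'_apply']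
  have d1 : c 1 = 0 := by
    have := congrArg (B · w) c1
    simpa [pu w hw, al, hb, -LinearMap.sub_apply] using this
  have d2 : c 2 = 0 := by
    have := congrArg (B · v) c1
    simpa [pu v hv, al, sk w v, hb, -LinearMap.sub_apply] using this
  rw [d1, d2, zero_smul, zero_smul, add_zero, add_zero, smul_eq_zero] at c1
  fin_cases i
  exacts [hi (c1.resolve_right u0), hi d1, hi d2]

end Cfsg.Agent.S3213
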