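import Cfsg.Statements.S3215
import Cfsg.Agent.Lib.BG1.Sec3a
import Cfsg.Agent.Lib.BG1.Amb

set_option autoImplicit false
open Cfsg

namespace Cfsg.Agent.S3215

open Subgroup Cfsg.Lib.Core Cfsg.Lib.BG1 Cfsg.Lib
open Cfsg.Lib.Amalg
set_option linter.style.haveILetI false

theorem key {H : Type*} [Group H] [Finite H] (hC : 𝐂(pCore 2 H) ≤ pCore 2 H)
    (hI : ∀ t : H, orderOf t = 2 → HasNormalPComplement 2 𝐂[t]) {a : H} (ha : a ≠ 1)
    (ho : Odd (orderOf a)) {Y : Subgroup H} (hY : IsPGroup 2 Y) (hle : pCore 2 H ≤ Y) (hn : a ∈ 𝐍(Y)) :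
    Y ⊓ 𝐂[a] = ⊥ := by
  haveI : Fact (Nat.Prime 2) := ⟨Nat.prime_two⟩
  by_contra hB
  have h1 := Amalg.inf_center_ne_bot (N := Y ⊓ 𝐂[a]) (T := Y ⊓ 𝐍(Y ⊓ 𝐂[a])) (hY.to_le inf_le_left)
    (le_inf inf_le_left le_normalizer) inf_le_right hB
  obtain ⟨t, ⟨⟨t1, t2⟩, t3⟩, ht⟩ := exists_mem_orderOf_eq_prime Nat.prime_two
    (dvd_card_of_isPGroup_ne_bot (hY.to_le (inf_le_left.trans inf_le_left)) h1)
  have hat : a ∈ 𝐂[t] := mem_centralizer_singleton_iff.2 (mem_centralizer_singleton_iff.1 t2).symm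
  have h2 := (Transfer.hasNormalPComplement_iff.1 (hI t ht)).mem_centralizer (Q := Y ⊓ 𝐂[t])
    (hY.to_le inf_le_left) inf_le_right (Transfer.mem_resOf hat (Nat.coprime_two_right.2 ho))
    (le_normalizer_inf (A := zpowers a) (zpowers_le.2 hn) ((zpowers_le.2 hat).trans le_normalizer)
      (mem_zpowers a))
  have h3 : Y ⊓ 𝐂[a] = Y := eq_of_inf_normalizer_le hY inf_le_left fun y hy => ⟨hy.1,
    mem_centralizer_singleton_iff.2 (h2 y ⟨hy.1, mem_centralizer_singleton_iff.2 (t3 y hy)⟩)⟩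
  have h4 : a ∈ pCore 2 H := hC fun y hy => mem_centralizer_singleton_iff.1 ((h3.ge (hle hy)).2)
  obtain ⟨k, hk⟩ := isPGroup_iff_mem.1 (isPGroup_pCore 2 H) a h4
  exact ha (orderOf_eq_one_iff.1 (((Nat.coprime_two_right.2 ho).pow_right k).eq_one_of_dvd
    (orderOf_dvd_of_pow_eq_one hk)))

/-- Let H be a finite solvable group with no nontrivial normal subgroup of odd order in which the centralizer of every involution has a normal 2-complement. Let X be a Hall 2'-subgroup of H (odd order, index a power of 2) and Y = O₂(H). Then no non-identity element of X commutes with a non-identity element of Y (so for X ≠ 1 the group XY is a Frobenius group with kernel Y), every Sylow subgroup of X is cyclic, XY is normal in H, and H/XY is a cyclic 2-group. -/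
theorem result {H : Type*} [Group H] [Finite H] (hsol : Group.IsSolvable H)
    (hO : Cfsg.oddCore H = ⊥)
    (hI : ∀ t : H, orderOf t = 2 → Cfsg.HasNormalPComplement 2 ↥(Subgroup.centralizer ({t} : Set H)))
    (X : Subgroup H) (hXodd : Odd (Nat.card X)) (hXidx : ∃ k : ℕ, X.index = 2 ^ k) :
    (∀ x ∈ X, x ≠ 1 → ∀ y ∈ Cfsg.pCore 2 H, y ≠ 1 → x * y ≠ y * x) ∧
      (∀ (p : ℕ) [Fact p.Prime] (P : Sylow p ↥X), IsCyclic ↥(P : Subgroup ↥X)) ∧
      (X ⊔ Cfsg.pCore 2 H).Normal ∧
      ∀ hN : (X ⊔ Cfsg.pCore 2 H).Normal, IsCyclic (H ⧸ (X ⊔ Cfsg.pCore 2 H)) ∧ IsPGroup 2 (H ⧸ (X ⊔ Cfsg.pCore 2 H)) := by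
  haveI : Fact (Nat.Prime 2) := ⟨Nat.prime_two⟩
  have hC := centralizer_pCore_le_of_solvable Nat.prime_two hO
  set Y := pCore 2 H with hY
  have hYp : IsPGroup 2 Y := isPGroup_pCore 2 H
  have hreg : Regular Y X := fun x hx h1 => key hC hI h1 (hXodd.of_dvd_nat (orderOf_dvd_natCard X hx))
    hYp le_rfl (le_normalizer_of_normal (mem_top x))
  have hZ : ∀ (p : ℕ) [Fact p.Prime] (P : Sylow p X), IsCyclic (P : Subgroup X) := by
    intro p _ P
    by_cases h0 : Y = ⊥
    · haveI : Subsingleton H := by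
        rw [h0, coe_bot, Subgroup.centralizer_eq_top_iff_subset.2 (by simp), top_le_iff] at hC
        exact subsingleton_iff.1 (subsingleton_of_bot_eq_top hC)
      infer_instance
    · exact (hreg.isZGroup hXodd h0 le_normalizer_of_normal).isZGroup p Fact.out P
  have hmain : ∃ (A : Type _) (_ : Group A) (_ : IsCyclic A) (φ : H →* A), φ.ker ≤ X ⊔ Y := by
    let π := QuotientGroup.mk' Y
    rcases subsingleton_or_nontrivial (H ⧸ Y) with h0 | h0
    · exact ⟨H ⧸ Y, inferInstance, inferInstance, π, by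
        rw [QuotientGroup.ker_mk']; exact le_sup_right⟩
    obtain ⟨k, hk⟩ := hXidx
    have hH : IsPiHall {2}ᶜ (X.map π) := Hall.isPiHall_map_mk' (Hall.isPiHall_iff.2
      ⟨(isPi_compl_iff_not_dvd Nat.prime_two).2 hXodd.not_two_dvd_nat, by
        rw [compl_compl, hk]; exact fun q hq h => (Nat.prime_dvd_prime_iff_eq hq Nat.prime_two).1
          (hq.dvd_of_dvd_pow h)⟩) Y
    have hodd : ∀ (N : Subgroup (H ⧸ Y)) [N.Normal], ¬ 2 ∣ Nat.card N → N ≤ X.map π := fun N _ h =>
      Hall.le_of_isPiHall_of_normal hH ((isPi_compl_iff_not_dvd Nat.prime_two).2 h)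
    obtain ⟨R, r, hRn, hR0, -, hRc, hr, hRe, hRp⟩ := Hall.exists_minNormal_elementary (G := H ⧸ Y)
    haveI := Fact.mk hr
    have hr2 : r ≠ 2 := by
      rintro rfl
      exact hR0 (eq_bot_of_pCore_eq_bot pCore_quotient_pCore hRp)
    have hR2 : ¬ 2 ∣ Nat.card R := by
      obtain ⟨m, hm⟩ := hRp.exists_card_eq
      rw [hm]
      exact fun h => hr2 ((Nat.prime_dvd_prime_iff_eq Nat.prime_two hr).1
        (Nat.prime_two.dvd_of_dvd_pow h)).symm
    have hRX := hodd R hR2
    have hi : Function.Injective (π.comp X.subtype) := by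
      rw [← MonoidHom.ker_eq_bot_iff, ← MonoidHom.comap_ker, QuotientGroup.ker_mk', comap_subtype,
        subgroupOf_eq_bot, disjoint_iff, hreg.inf_eq_bot]
    have hcyc : IsCyclic R := by
      obtain ⟨P, hP⟩ := (hRp.comap_of_injective _ hi).exists_le_sylow
      haveI := hZ r P
      haveI := Subgroup.isCyclic_of_le hP
      have e : (R.comap (π.comp X.subtype)).map (π.comp X.subtype) = R :=
        map_comap_eq_self (by rwa [MonoidHom.range_comp, range_subtype])
      rw [← e]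
      exact isCyclic_of_surjective _ (MonoidHom.subgroupMap_surjective _ _)
    have hcard : Nat.card R = r := by
      obtain ⟨g, hg⟩ := hcyc.exists_generator
      rw [← orderOf_eq_card_of_forall_mem_zpowers hg]
      refine orderOf_eq_prime (Subtype.ext (hRe _ g.2)) fun h => hR0 (eq_bot_iff.2 fun x hx => ?_)
      have := hg ⟨x, hx⟩
      rw [h, zpowers_one_eq_bot, mem_bot] at this
      exact congrArg Subtype.val this
    have hA : IsCyclic (MulAut R) := by
      haveI : Fact (Nat.card R).Prime := ⟨hcard ▸ hr⟩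
      exact isCyclic_of_surjective _ (IsCyclic.mulAutMulEquiv R).symm.surjective
    refine ⟨MulAut R, inferInstance, hA, (MulAut.conjNormal (H := R)).comp π, ?_⟩
    have hC2 : ¬ 2 ∣ Nat.card 𝐂(R) := fun h => by
      obtain ⟨t, ht, h2⟩ := exists_mem_orderOf_eq_prime Nat.prime_two h
      obtain ⟨b, hb, hb1⟩ := (ne_bot_iff_exists_ne_one.1 hR0).imp fun b h => And.intro b.2 h
      obtain ⟨a, ha, e⟩ := hRX hb
      have ha1 : a ≠ 1 := fun h => hb1 (Subtype.ext (by rw [← e, h, map_one]; rfl))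
      have hao := hXodd.of_dvd_nat (orderOf_dvd_natCard X ha)
      have hct : π a * t = t * π a := e ▸ ht _ hb
      have hn : a ∈ 𝐍((zpowers t).comap π) := mem_normalizer_of_conj_mem fun y hy => by
        obtain ⟨j, hj⟩ := hy
        rw [mem_comap, map_mul, map_mul, map_inv, ← hj]
        simp only
        rw [((show Commute (π a) t from hct).zpow_right j).eq, mul_inv_cancel_right]
        exact zpow_mem (mem_zpowers t) j
      have hY1 := isPGroup_comap_mk' Y hYp (Amalg.isPGroup_zpowers_of_orderOf (k := 1) (h2.trans (pow_one 2).symm))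
      have h3 := key hC hI ha1 hao hY1 (le_comap_mk' _ _) hn
      have h4 := Coprime.map_mk'_inf_centralizer Y (zpowers_le.2 hn)
        (by
          rw [Nat.card_zpowers]
          exact (coprime_card_of_isPGroup Nat.prime_two hY1 (Nat.coprime_two_right.2 hao)).symm)
        (Or.inl (Coprime.isSolvable_zpowers a))
      rw [centralizer_zpowers, h3, Subgroup.map_bot, map_comap_mk', MonoidHom.map_zpowers,
        centralizer_zpowers] at h4
      have h5 : t ∈ (⊥ : Subgroup (H ⧸ Y)) := h4 ▸ ⟨mem_zpowers t, mem_centralizer_singleton_iff.2 hct.symm⟩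
      rw [mem_bot.1 h5, orderOf_one] at h2
      omega
    intro g hg
    rw [sup_comm, ← comap_map_mk']
    refine hodd _ hC2 fun y hy => ?_
    have := congrArg (fun σ : MulAut R => (σ ⟨y, hy⟩ : H ⧸ Y)) hg
    simp only [MonoidHom.comp_apply, MulAut.conjNormal_apply, MulAut.one_apply] at this
    exact (mul_inv_eq_iff_eq_mul.1 this).symm
  obtain ⟨A, _, _, φ, hφ⟩ := hmain
  refine ⟨fun x hx h1 y hy h2 h => h2 (mem_bot.1 (hreg x hx h1 ▸
    ⟨hy, mem_centralizer_singleton_iff.2 h.symm⟩)), hZ, ⟨fun y hy g => ?_⟩, fun hN => ⟨?_, ?_⟩⟩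
  · rw [show g * y * g⁻¹ = g * y * g⁻¹ * y⁻¹ * y by group]
    refine mul_mem (hφ ?_) hy
    haveI : IsMulCommutative A := IsCyclic.isMulCommutative
    rw [MonoidHom.mem_ker, map_mul, map_mul, map_mul, mul_comm' (φ g), map_inv, map_inv]
    group
  · haveI : IsCyclic (H ⧸ φ.ker) :=
      isCyclic_of_injective _ (QuotientGroup.kerLift_injective φ)
    refine isCyclic_of_surjective (QuotientGroup.map φ.ker (X ⊔ Y) (MonoidHom.id H) hφ) fun z => ?_
    obtain ⟨z, rfl⟩ := QuotientGroup.mk_surjective z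
    exact ⟨z, rfl⟩
  · obtain ⟨k, hk⟩ := hXidx
    have h1 : (X ⊔ Y).index ∣ 2 ^ k := hk ▸ index_dvd_of_le le_sup_left
    obtain ⟨j, -, hj⟩ := (Nat.dvd_prime_pow Nat.prime_two).1 h1
    exact IsPGroup.of_card hj

end Cfsg.Agent.S3215
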