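import Cfsg.Statements.S3216
import Cfsg.Agent.Lib.JTW.Std5

set_option autoImplicit false
open Cfsg

namespace Cfsg.Agent.S3216


open Cfsg.Lib Subgroup in

/-- Let G be a finite non-abelian simple group and t an involution of G; write C = C_G(t) and C̄ = C/O(C). If the subgroup of C̄ generated by its 2-elements (the smallest normal subgroup of C̄ of odd index) is isomorphic to Z₂ × PSL₂(q) for some prime power q > 3, then the Sylow 2-subgroups of G are elementary abelian of order 8. -/
theorem result {G : Type*} [Group G] [Finite G] [IsSimpleGroup G]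
    (hG : ¬ IsMulCommutative G) (t : G) (ht : orderOf t = 2) {F : Type*} [Field F] [Fintype F] (hF : 3 < Fintype.card F)
    (hL : Nonempty (↥(Subgroup.closure {x : (↥(Subgroup.centralizer ({t} : Set G)) ⧸ Cfsg.oddCore ↥(Subgroup.centralizer ({t} : Set G))) | ∃ k : ℕ, orderOf x = 2 ^ k}) ≃*
      (Multiplicative (ZMod 2) × Matrix.ProjectiveSpecialLinearGroup (Fin 2) F))) (S : Sylow 2 G) :
    Nat.card ↥(S : Subgroup G) = 8 ∧ ∀ x ∈ (S : Subgroup G), x ^ 2 = 1 := by
  obtain ⟨e⟩ := hL
  simp only [sq]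
  refine JTW.std_quot hG ht (QuotientGroup.mk' _) (fun x h =>
    (Core.odd_card_oddCore _).of_dvd_nat (orderOf_dvd_natCard _ ((QuotientGroup.eq_one_iff x).1 h))) (n := ⟨fun _ hx c => ?_⟩)
    (fun x ⟨k, h⟩ => ?_) (fun x _ => QuotientGroup.mk'_surjective _ x) (Nat.card_eq_fintype_card (α := F) ▸ hF) e (Amalg.syl_top S)
  · exact closure_induction (fun x ⟨k, h⟩ => Subgroup.subset_closure ⟨k, (Invol.orderOf_conj c x).trans h⟩)
      (by simp) (fun x y _ _ h h' => conj_mul (b := c) ▸ mul_mem h h') (fun x _ h => conj_inv (b := c) ▸ inv_mem h) hx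
  · obtain ⟨j, -, e⟩ := (Nat.dvd_prime_pow Nat.prime_two).1 (orderOf_dvd_of_pow_eq_one h)
    exact Subgroup.subset_closure ⟨j, e⟩

end Cfsg.Agent.S3216
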