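import Cfsg.Statements.S3222
import Cfsg.Agent.S3035
import Cfsg.Agent.Lib.Linear.AutAlt
import Cfsg.Agent.Lib.Linear.SmallIso
import Cfsg.Agent.Lib.Linear.SmallRec
import Cfsg.Agent.Lib.Linear.PSL2Sub
import Cfsg.Agent.Lib.Amalg.Syl
import Cfsg.Agent.Lib.Amalg.Ops
import Cfsg.Agent.Lib.Coprime.Generation
import Cfsg.Agent.Lib.Core.Fitting
import Cfsg.Agent.Lib.Invol.Transfer2

set_option autoImplicit false
open Cfsg

open Subgroup Cfsg.Lib
open scoped commutatorElement
open Cfsg.Lib.Amalg Equiv
namespace Cfsg.Agent.S3222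

section
open Equiv.Perm Cfsg.Lib.Linear
variable {α : Type*} [Fintype α] [DecidableEq α]

theorem conj_of_three (h4 : 4 ≤ Fintype.card α) (φ : MulAut (alternatingGroup α))
    (hφ : ∀ x : alternatingGroup α, x.1.IsThreeCycle → (φ x).1.IsThreeCycle) :
    ∃ g : Perm α, (MulAut.conjNormal g : MulAut (alternatingGroup α)) = φ := by
  obtain ⟨a, b, hab⟩ := Fintype.exists_pair_of_one_lt_card (α := α) (by omega)
  have hc := card_ne_ne hab
  obtain ⟨i, j, hij⟩ := Fintype.exists_pair_of_one_lt_card (α := {i // i ≠ a ∧ i ≠ b}) (by omega)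
  set x : {i // i ≠ a ∧ i ≠ b} → Perm α := fun i => (φ (altCyc hab i)).1 with hxdef
  have hx : ∀ i, (x i).IsThreeCycle := fun i =>
    hφ _ (isThreeCycle_cyc3 hab i.2.1.symm i.2.2.symm)
  have hinj : Function.Injective x := fun i j h => by
    have h1 : cyc3 a b i.1 = cyc3 a b j.1 := congrArg Subtype.val (φ.injective (Subtype.ext h))
    have h2 := congrArg (fun g : Perm α => g b) h1
    simp only [cyc3_apply hab i.2.1.symm i.2.2.symm, cyc3_apply hab j.2.1.symm j.2.2.symm,
      if_neg hab.symm, if_true] at h2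
    exact Subtype.ext h2
  have hedge : ∀ i j, i ≠ j → ∃ p, x i p ≠ p ∧ x i p = x j p := fun i j hij => by
    refine exists_common_edge (hx i) (hx j) (fun h => ?_) ?_
    · have h1 : altCyc hab i * altCyc hab j = 1 := φ.injective (by
        rw [map_mul, map_one]; exact Subtype.ext h)
      have h2 := congrArg (fun g : alternatingGroup α => g.1 a) h1
      simp only [altCyc, Perm.coe_mul, Subgroup.coe_mul, Function.comp_apply, OneMemClass.coe_one, Perm.coe_one, id,
        cyc3_apply hab i.2.1.symm i.2.2.symm, cyc3_apply hab j.2.1.symm j.2.2.symm,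
        if_neg hab.symm, if_true] at h2
      exact i.2.1 h2
    · have h1 := congrArg (fun g => (φ g).1) ((carm_altCyc hab).2 i trivial j trivial hij)
      simpa using h1
  obtain ⟨a', ha', ha''⟩ := hedge i j hij
  obtain ⟨b', c, hab', hac, hbc, hi⟩ := exists_cyc3 (hx i) ha'
  obtain ⟨b'', d, hab'', had, hbd, hj⟩ := exists_cyc3 (hx j) (ha'' ▸ ha')
  have : b'' = b' := by
    rw [hi, hj, cyc3_apply hab' hac hbc, cyc3_apply hab'' had hbd] at ha''
    simpa using ha''.symm
  subst this
  have hcd : c ≠ d := by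
    rintro rfl
    exact hij (hinj (hi.trans hj.symm))
  have hall : ∀ k, x k a' = b'' := fun k => by
    by_cases hk : k = i
    · rw [hk, hi, cyc3_apply hab' hac hbc, if_pos rfl]
    by_cases hk' : k = j
    · rw [hk', hj, cyc3_apply hab'' had hbd, if_pos rfl]
    obtain ⟨p, hp, hp'⟩ := hedge i k (Ne.symm hk)
    obtain ⟨q, hq, hq'⟩ := hedge j k (Ne.symm hk')
    exact edge_of_common_edges hab' hac hbc had hbd hcd (hx k) (hi ▸ hp) (hi ▸ hp') (hj ▸ hq) (hj ▸ hq')
  have hall' : ∀ k, ∃ e, a' ≠ e ∧ b'' ≠ e ∧ x k = cyc3 a' b'' e := fun k => by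
    obtain ⟨u, e, h1, h2, h3, h4⟩ := exists_cyc3 (hx k) (a := a') (by rw [hall]; exact hab'.symm)
    have : u = b'' := by
      have := hall k
      rwa [h4, cyc3_apply h1 h2 h3, if_pos rfl] at this
    subst this
    exact ⟨e, h2, h3, h4⟩
  choose e he1 he2 he3 using hall'
  let π : α → α := fun p => if h : p = a then a' else if h' : p = b then b'' else e ⟨p, h, h'⟩
  have hπ : Function.Injective π := by
    intro p q hpq
    simp only [π] at hpq
    split_ifs at hpq with h1 h2 h3 h4 h5 h6 h7 h8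
    · rw [h1, h2]
    · exact absurd hpq hab'
    · exact absurd hpq (he1 _)
    · exact absurd hpq.symm hab'
    · rw [h4, h6]
    · exact absurd hpq (he2 _)
    · exact absurd hpq.symm (he1 _)
    · exact absurd hpq.symm (he2 _)
    · exact congrArg Subtype.val (hinj (a₁ := ⟨p, h1, h4⟩) (a₂ := ⟨q, h7, h8⟩) (by rw [he3, he3, hpq]))
  let g : Perm α := Equiv.ofBijective π (Finite.injective_iff_bijective.1 hπ)
  refine ⟨g, MulEquiv.toMonoidHom_injective (MonoidHom.eq_of_eqOn_dense (closure_altCyc hab) ?_)⟩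
  rintro _ ⟨k, rfl⟩
  apply Subtype.ext
  change g * cyc3 a b k.1 * g⁻¹ = x k
  rw [conj_cyc3, he3]
  simp [g, π, hab.symm, k.2.1, k.2.2]

theorem conj33 {x y : alternatingGroup (Fin 6)} (hx : orderOf x = 3) (hy : orderOf y = 3)
    (hx' : ¬ x.1.IsThreeCycle) (hy' : ¬ y.1.IsThreeCycle) : IsConj x y := by
  haveI : Fact (Nat.Prime 3) := ⟨Nat.prime_three⟩
  let x0 : alternatingGroup (Fin 6) :=
    ⟨swap 0 1 * swap 1 2 * (swap 3 4 * swap 4 5), Perm.mem_alternatingGroup.2 (by decide)⟩
  have ct : ∀ w : alternatingGroup (Fin 6), orderOf w = 3 → ¬ w.1.IsThreeCycle → w.1.cycleType = {3, 3} := by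
    intro w hw hw'
    have h1 : w.1 ^ 3 = 1 := by rw [← Subgroup.coe_pow, ← hw, pow_orderOf_eq_one, Subgroup.coe_one]
    have h5 := Perm.cycleType_of_pow_prime_eq_one h1
    have h6 := w.1.sum_cycleType
    have h7 : w.1.support.card ≤ 6 := (Finset.card_le_univ _).trans (by simp)
    rw [h5, Multiset.sum_replicate, smul_eq_mul] at h6
    have h8 : w.1.cycleType.card ≠ 0 := fun h => by
      rw [Perm.card_cycleType_eq_zero] at h
      have : w = 1 := Subtype.ext h
      rw [this, orderOf_one] at hw; omega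
    have h9 : w.1.cycleType.card ≠ 1 := fun h => hw' (by
      rw [Perm.IsThreeCycle, h5, h]; rfl)
    rw [h5, show w.1.cycleType.card = 2 by omega]; rfl
  have key : ∀ w : alternatingGroup (Fin 6), orderOf w = 3 → ¬ w.1.IsThreeCycle → IsConj x0 w := by
    intro w hw hw'
    have h0 : x0.1.cycleType = {3, 3} := by decide +kernel
    obtain ⟨g, hg⟩ := isConj_iff.1 (Perm.isConj_of_cycleType_eq (h0.trans (ct w hw hw').symm))
    rcases Int.units_eq_one_or (Perm.sign g) with h | h
    · exact isConj_iff.2 ⟨⟨g, h⟩, Subtype.ext hg⟩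
    · let c : Perm (Fin 6) := swap 0 3 * swap 1 4 * swap 2 5
      have hc : c * x0.1 * c⁻¹ = x0.1 := by decide
      have hs : Perm.sign c = -1 := by decide
      refine isConj_iff.2 ⟨⟨g * c, by rw [Perm.mem_alternatingGroup, map_mul, h, hs]; rfl⟩, Subtype.ext ?_⟩
      show g * c * x0.1 * (g * c)⁻¹ = w.1
      rw [← hg]
      conv_rhs => rw [← hc]
      group
  exact (key x hx hx').symm.trans (key y hy hy')

theorem three_of_fix (φ : MulAut (alternatingGroup (Fin 6))) {x : alternatingGroup (Fin 6)}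
    (hx : orderOf x = 3) (h : φ x = x) (y : alternatingGroup (Fin 6)) (hy : y.1.IsThreeCycle) :
    (φ y).1.IsThreeCycle := by
  have tr : ∀ a b : alternatingGroup (Fin 6), IsConj a b → a.1.IsThreeCycle → b.1.IsThreeCycle := by
    intro a b hab ha
    have := Perm.isConj_iff_cycleType_eq.1 ((alternatingGroup (Fin 6)).subtype.map_isConj hab)
    exact this.symm.trans ha
  by_cases hx' : x.1.IsThreeCycle
  · refine tr x _ ?_ hx'
    have := (φ : alternatingGroup (Fin 6) →* alternatingGroup (Fin 6)).map_isConj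
      (alternatingGroup.isThreeCycle_isConj (by simp) hx' hy)
    rwa [show (φ : alternatingGroup (Fin 6) →* alternatingGroup (Fin 6)) x = x from h] at this
  · by_contra hy'
    have hy3 : orderOf y = 3 := by rw [← Subgroup.orderOf_coe, hy.orderOf]
    have h1 := conj33 (by rw [MulEquiv.orderOf_eq, hy3]) hx hy' hx'
    have h2 := (φ.symm : alternatingGroup (Fin 6) →* alternatingGroup (Fin 6)).map_isConj h1
    have e1 : (φ.symm : alternatingGroup (Fin 6) →* alternatingGroup (Fin 6)) (φ y) = y := φ.symm_apply_apply y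
    have e2 : (φ.symm : alternatingGroup (Fin 6) →* alternatingGroup (Fin 6)) x = x := by
      conv_lhs => rw [← h]
      exact φ.symm_apply_apply x
    rw [e1, e2] at h2
    exact hx' (tr _ _ h2 hy)
end

abbrev KK := Multiplicative (ZMod 2) × Perm (Fin 4)
def s0 : KK := (Multiplicative.ofAdd 1, 1)
def zp : Perm (Fin 4) := swap 0 1 * swap 2 3
def z0 : KK := (1, zp)
def a0 : KK := (1, swap 0 1)
def x0 : KK := (1, swap 0 1 * swap 1 2)

theorem k_cen : ∀ k : KK, (∀ c : KK, c * k = k * c) → k = 1 ∨ k = s0 := by decide +kernel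
theorem k_comm : ∀ a b : KK, z0 * a = a * z0 → z0 * b = b * z0 → a * b * a⁻¹ * b⁻¹ = 1 ∨ a * b * a⁻¹ * b⁻¹ = z0 := by
  decide +kernel
theorem k_inv : ∀ d : Perm (Fin 4), d * d = 1 → d = 1 ∨ (∃ c : KK, c * z0 * c⁻¹ = (1, d)) ∨
    ∃ c : KK, c * a0 * c⁻¹ = (1, d) := by decide +kernel
theorem k_core : ∀ k : KK, (∀ c : KK, z0 * (c * k * c⁻¹) = (c * k * c⁻¹) * z0) → k = 1 ∨ k = s0 ∨
    (∃ c : KK, c * z0 * c⁻¹ = k) ∨ ∃ c : KK, c * (s0 * z0) * c⁻¹ = k := by decide +kernel
theorem k_zen : ∀ a : KK, z0 * a = a * z0 → s0 * z0 * a = a * (s0 * z0) := by decide +kernel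
theorem k_s0 : ∀ a : KK, s0 * a = a * s0 := by decide +kernel
theorem k_card : Nat.card (centralizer ({z0} : Set KK)) = 16 := by
  have : Nat.card (centralizer ({z0} : Set KK)) = Nat.card {a : KK // z0 * a = a * z0} :=
    Nat.card_congr (Equiv.subtypeEquivRight fun a => by simp [mem_centralizer_iff])
  rw [this, Nat.card_eq_fintype_card]; decide +kernel
theorem k_fst : ∀ b : KK, Xor ((b * s0).1 = 1) (b.1 = 1) := by decide +kernel
theorem k_snd : ∀ a : KK, a.2 = 1 → a = 1 ∨ a = s0 := by decide +kernel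
set_option synthInstance.maxSize 4000 in
set_option synthInstance.maxHeartbeats 400000 in
theorem k_v4 : ∀ a : KK, a ∈ zpowers z0 ⊔ zpowers (x0 * z0 * x0⁻¹) → a = 1 ∨ ∃ c : KK, c * z0 * c⁻¹ = a := by
  let W : Subgroup KK := { carrier := {a | a = 1 ∨ ∃ c : KK, c * z0 * c⁻¹ = a}
                           one_mem' := Or.inl rfl
                           mul_mem' := fun {a b} => by
                             simp only [Set.mem_setOf_eq]; revert a b; decide +kernel
                           inv_mem' := fun {a} => by simp only [Set.mem_setOf_eq]; revert a; decide +kernel }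
  intro a ha
  exact (sup_le (zpowers_le.2 (Or.inr ⟨1, by simp⟩)) (zpowers_le.2 (Or.inr ⟨x0, rfl⟩)) : _ ≤ W) ha

theorem d8 : Nonempty (centralizer ({zp} : Set (Perm (Fin 4))) ≃* DihedralGroup 4) := by
  haveI : Fact (Nat.Prime 2) := ⟨Nat.prime_two⟩
  let r : Perm (Fin 4) := swap 0 2 * swap 2 1 * swap 1 3
  let x : Perm (Fin 4) := swap 0 1
  have hr : orderOf r = 4 := orderOf_eq_prime_pow (p := 2) (n := 1) (by decide) (by decide)
  have h5 : ∀ σ : Perm (Fin 4), zp * σ = σ * zp ↔
      ∃ k : Fin 4, r ^ (k : ℕ) = σ ∨ r ^ (k : ℕ) = x * σ := by decide +kernel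
  have h6 : ∀ σ : Perm (Fin 4), σ ∈ zpowers r ↔ ∃ k : Fin 4, r ^ (k : ℕ) = σ := by
    intro σ
    rw [mem_zpowers_iff_mem_range_orderOf, hr]
    simp only [Finset.mem_image, Finset.mem_range]
    exact ⟨fun ⟨k, hk, e⟩ => ⟨⟨k, hk⟩, e⟩, fun ⟨k, e⟩ => ⟨k, k.2, e⟩⟩
  have hD : Exc.DS (centralizer {zp}) r x := ⟨by decide, by decide, by rw [h6]; decide, fun y => by
    rw [h6, h6, ← exists_or, ← h5]; simp [mem_centralizer_iff]⟩
  obtain ⟨e⟩ := hD.equiv
  rw [hr] at e
  exact ⟨e⟩

/-- Let G be a finite group of even order such that (1) some involution t lying in the centre of a Sylow 2-subgroup of G has C_G(t) ≅ Z₂ × S₄, and (2) every Sylow 2-subgroup S of G satisfies C_G(S′) = S, where S′ is the derived subgroup of S. Then G = C_G(t) if G is solvable, and G ≅ S₆ otherwise. -/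
theorem result {G : Type*} [Group G] [Finite G] (hev : Even (Nat.card G))
    (t : G) (ht : orderOf t = 2) (T : Sylow 2 G) (htT : t ∈ (T : Subgroup G)) (htc : ∀ s ∈ (T : Subgroup G), s * t = t * s)
    (e : ↥(Subgroup.centralizer ({t} : Set G)) ≃* (Multiplicative (ZMod 2) × Equiv.Perm (Fin 4)))
    (h2 : ∀ S : Sylow 2 G, Subgroup.centralizer ((⁅(S : Subgroup G), (S : Subgroup G)⁆ : Subgroup G) : Set G) = (S : Subgroup G)) :
    (Group.IsSolvable G → Subgroup.centralizer ({t} : Set G) = ⊤) ∧
      (¬ Group.IsSolvable G → Nonempty (G ≃* Equiv.Perm (Fin 6))) := by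
  set C := centralizer ({t} : Set G) with hC
  have mc : ∀ {a x : G}, x ∈ centralizer ({a} : Set G) ↔ a * x = x * a := by
    intro a x; simp [mem_centralizer_iff]
  have mk : ∀ {a x : KK}, x ∈ centralizer ({a} : Set KK) ↔ a * x = x * a := by
    intro a x; simp [mem_centralizer_iff]
  let ι : KK →* G := C.subtype.comp e.symm.toMonoidHom
  have hι : Function.Injective ι := C.subtype_injective.comp e.symm.injective
  have hιC : ∀ k, ι k ∈ C := fun k => (e.symm k).2
  have hCι : ∀ g (hg : g ∈ C), ι (e ⟨g, hg⟩) = g := fun g hg => congrArg Subtype.val (e.symm_apply_apply _)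
  have ht1 : t ≠ 1 := by rintro rfl; rw [orderOf_one] at ht; omega
  have htt : t * t = 1 := by rw [← pow_two, ← ht, pow_orderOf_eq_one]
  have hcC : Nat.card C = 48 := by
    rw [Nat.card_congr e.toEquiv, Nat.card_eq_fintype_card]; rfl
  have hts : ι s0 = t := by
    have htC : t ∈ C := mc.2 rfl
    rcases k_cen (e ⟨t, htC⟩) (fun c => hι (by
      rw [map_mul, map_mul, hCι]; exact (mc.1 (hιC c)).symm)) with h | h
    · rw [← hCι t htC, h, map_one] at ht1; exact absurd rfl ht1
    · rw [← h, hCι]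
  set z := ι z0 with hz
  have hz1 : z ≠ 1 := fun h => absurd (hι (h.trans (map_one ι).symm)) (by decide)
  have hzz : z * z = 1 := by rw [hz, ← map_mul, show z0 * z0 = 1 by decide, map_one]
  have hz2 : orderOf z = 2 := orderOf_eq_prime (by rw [pow_two, hzz]) hz1
  set S := (centralizer ({z0} : Set KK)).map ι with hS
  have hcS : Nat.card S = 16 := by rw [hS, card_map_of_injective hι, k_card]
  have hSC : S ≤ C := by rintro _ ⟨k, -, rfl⟩; exact hιC k
  have hS2 : IsPGroup 2 S := IsPGroup.of_card (n := 4) hcS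
  have hSyl : Syl 2 S ⊤ := by
    refine (syl_top T).of_card_ge hS2 le_top ?_
    obtain ⟨n, hn⟩ := IsPGroup.iff_card.1 T.isPGroup'
    have h1 : Nat.card (T : Subgroup G) ∣ 48 := hcC ▸ card_dvd_of_le fun s hs => mc.2 (htc s hs).symm
    rw [hcS, hn] at *
    by_contra h
    have h3 : 5 ≤ n := by
      by_contra h4
      exact h (Nat.pow_le_pow_right (by norm_num) (show n ≤ 4 by omega))
    exact absurd ((pow_dvd_pow 2 h3).trans h1) (by norm_num)
  have hSS : ⁅S, S⁆ = zpowers z := by
    apply le_antisymm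
    · rw [commutator_le]
      rintro _ ⟨a, ha, rfl⟩ _ ⟨b, hb, rfl⟩
      rw [← map_commutatorElement, commutatorElement_def]
      rcases k_comm a b (mk.1 ha) (mk.1 hb) with h | h <;> rw [h]
      · rw [map_one]; exact one_mem _
      · exact mem_zpowers _
    · rw [zpowers_le, hz, show z0 = ⁅a0, x0 * z0 * x0⁻¹⁆ by rw [commutatorElement_def]; decide,
        map_commutatorElement]
      exact commutator_mem_commutator (mem_map_of_mem _ (mk.2 (by decide))) (mem_map_of_mem _ (mk.2 (by decide)))
  have hCz : centralizer ({z} : Set G) = S := by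
    have := h2 hSyl.toSylowTop
    rw [hSyl.coe_toSylowTop, hSS] at this
    rw [← this]
    ext x
    rw [mc, mem_centralizer_iff]
    exact ⟨fun h => by rintro _ ⟨k, rfl⟩; exact ((show Commute z x from h).zpow_left k).eq,
      fun h => h z (mem_zpowers z)⟩
  have htS : t ∈ S := hts ▸ mem_map_of_mem ι (mk.2 (by decide))
  have hzS : z ∈ S := hCz ▸ mc.2 rfl
  have htZ : t ∈ 𝐂 S := mem_centralizer_iff.2 fun s hs => (mc.1 (hSC hs)).symm
  have hzZ : z ∈ 𝐂 S := mem_centralizer_iff.2 fun s hs => (mc.1 (hCz ▸ hs : s ∈ centralizer {z})).symm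
  have hNS : 𝐍 S ≤ S := by
    classical
    intro g hg
    have h1 : cj g (zpowers z) = zpowers z := by rw [← hSS, cj_commutator, cj_of_mem_normalizer hg]
    have h3 : g * z * g⁻¹ ∈ zpowers z := h1 ▸ conj_mem_cj g (mem_zpowers z)
    rw [mem_zpowers_iff_mem_range_orderOf, hz2] at h3
    simp only [Finset.mem_image, Finset.mem_range] at h3
    obtain ⟨k, hk, h3⟩ := h3
    rw [← hCz, mc]
    interval_cases k
    · exfalso; apply hz1
      calc z = g⁻¹ * (g * z * g⁻¹) * g := by group
        _ = 1 := by rw [← h3]; group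
    · rw [pow_one] at h3; exact eq_mul_inv_iff_mul_eq.1 h3
  have hnc : ∀ a ∈ 𝐂 S, ∀ b ∈ 𝐂 S, IsConj a b → a = b := by
    intro a ha b hb hab
    obtain ⟨g, rfl⟩ := isConj_iff.1 hab
    obtain ⟨n, hn, e⟩ := hSyl.toSylowTop.conj_eq_normalizer_conj_of_mem_centralizer a g⁻¹
      ha (by rw [inv_inv]; exact hb)
    rw [inv_inv] at e
    have hn' : n ∈ S := hNS hn
    rw [e, mul_assoc, ← mem_centralizer_iff.1 ha n hn']; group
  have ci : ∀ {a b : KK}, (∃ c : KK, c * a * c⁻¹ = b) → IsConj (ι a) (ι b) := fun h =>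
    ι.map_isConj (isConj_iff.2 h)
  have ntz : ¬ IsConj t z := fun h => absurd (hι (hts.trans (hnc _ htZ _ hzZ h))) (by decide)
  have ntz' : ¬ IsConj (t * z) z := fun h => ht1 (by simpa using hnc _ (mul_mem htZ hzZ) _ hzZ h)
  have ntz'' : ¬ IsConj (t * z) t := fun h => hz1 (by simpa using hnc _ (mul_mem htZ hzZ) _ htZ h)
  -- `O(G) = 1`
  have hO : ∀ N : Subgroup G, N.Normal → Odd (Nat.card N) → N = ⊥ := by
    intro N hN ho
    by_contra hne
    set V := (zpowers z0 ⊔ zpowers (x0 * z0 * x0⁻¹)).map ι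
    have hVS : V ≤ S := map_mono (sup_le (zpowers_le.2 (mk.2 rfl)) (zpowers_le.2 (mk.2 (by decide))))
    have hV : ∀ a ∈ V, a = 1 ∨ IsConj z a := by
      rintro _ ⟨a, ha, rfl⟩
      exact (k_v4 a ha).imp (fun h => by rw [h, map_one]) ci
    have hV2 : ∀ a ∈ V, a * a = 1 := by
      intro a ha
      rcases hV a ha with h | h
      · rw [h, one_mul]
      · obtain ⟨g, rfl⟩ := isConj_iff.1 h
        calc _ = g * (z * z) * g⁻¹ := by group
          _ = 1 := by rw [hzz]; group
    haveI : IsMulCommutative V := ⟨⟨fun a b => Subtype.ext (by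
      have e1 := hV2 _ (V.mul_mem a.2 b.2)
      show (a : G) * b = b * a
      rw [← inv_eq_of_mul_eq_one_right e1, mul_inv_rev, inv_eq_of_mul_eq_one_right (hV2 _ a.2),
        inv_eq_of_mul_eq_one_right (hV2 _ b.2)])⟩⟩
    have hnc : ¬ IsCyclic V := by
      intro hc
      have m1 : z ∈ V := mem_map_of_mem ι (mem_sup_left (mem_zpowers _))
      have m2 : ι (x0 * z0 * x0⁻¹) ∈ V := mem_map_of_mem ι (mem_sup_right (mem_zpowers _))
      obtain ⟨⟨g, hg⟩, hgen⟩ := hc.exists_generator
      have h1 : ∀ a ∈ V, a = 1 ∨ a = g := by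
        intro a ha
        obtain ⟨k, hk⟩ := hgen ⟨a, ha⟩
        have hk' : g ^ k = a := congrArg Subtype.val hk
        have hg2 : g ^ (2 : ℤ) = 1 := by rw [zpow_two, hV2 g hg]
        rcases Int.even_or_odd' k with ⟨j, rfl | rfl⟩
        · left; rw [← hk', zpow_mul, hg2, one_zpow]
        · right; rw [← hk', zpow_add, zpow_mul, hg2, one_zpow, one_mul, zpow_one]
      have e1 := (h1 _ m1).resolve_left hz1
      have e2 := (h1 _ m2).resolve_left fun h => absurd (hι (h.trans (map_one ι).symm)) (by decide)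
      exact absurd (hι (e1.trans e2.symm)) (by decide)
    obtain ⟨a, ha, ha1, hne'⟩ := Coprime.exists_centralizer_ne_bot (K := N) hnc le_normalizer_of_normal
      (by
        obtain ⟨n, hn⟩ := IsPGroup.iff_card.1 (hS2.to_le hVS)
        rw [hn]; exact (Nat.coprime_two_left.2 ho).pow_left n) hne
    obtain ⟨g, rfl⟩ := isConj_iff.1 ((hV a ha).resolve_left ha1)
    rw [← cj_centralizer_singleton, hCz] at hne'
    exact hne' (isPGroup_eq_bot_of_not_dvd ((isPGroup_cj g hS2).to_inf_right) inf_le_left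
      (Nat.two_dvd_ne_zero.2 (Nat.odd_iff.1 ho)))
  -- a subgroup of index two avoiding `t`
  obtain ⟨H, hH, htH⟩ : ∃ H : Subgroup G, H.index = 2 ∧ t ∉ H := by
    set D := S ⊓ (MonoidHom.fst _ _ : KK →* _).ker.map ι with hD
    have hodd : Odd S.index := Nat.not_even_iff_odd.1 fun h => hSyl.not_dvd_index h.two_dvd
    have hDi : D.relIndex S = 2 := by
      rw [hD, inf_relIndex_left, hS, relIndex_map_map_of_injective _ _ hι, relIndex_eq_two_iff]
      exact ⟨s0, mk.2 (by decide), fun b _ => k_fst b⟩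
    have hDc : ∀ d ∈ D, d * d = 1 → d = 1 ∨ IsConj z d ∨ IsConj (ι a0) d := by
      rintro _ ⟨-, ⟨k1, k2⟩, hk, rfl⟩ hd
      have e1 : k1 = 1 := hk
      subst e1
      have e2 : k2 * k2 = 1 := congrArg Prod.snd (hι (by rw [map_mul, hd, map_one]) : (1, k2) * (1, k2) = (1 : KK))
      rcases k_inv k2 e2 with h | h | h
      · left; rw [h]; exact map_one ι
      · exact Or.inr (Or.inl (ci h))
      · exact Or.inr (Or.inr (ci h))
    have hcj : ∀ u g : G, u ≠ 1 → u * u = 1 → g * u * g⁻¹ ∈ D → IsConj z u ∨ IsConj (ι a0) u := by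
      intro u g hu1 hu hg
      have c1 : IsConj (g * u * g⁻¹) u := (isConj_iff.2 ⟨g, rfl⟩).symm
      rcases hDc _ hg (by
        calc _ = g * (u * u) * g⁻¹ := by group
          _ = 1 := by rw [hu]; group) with h | h | h
      · rw [h] at c1; exact absurd (isConj_one_right.1 c1) hu1
      · exact Or.inl (h.trans c1)
      · exact Or.inr (h.trans c1)
    by_cases h1 : ∀ g : G, g * t * g⁻¹ ∉ D
    · exact Invol.thompson_transfer hodd hDi ht h1
    have htz : t * z * (t * z) = 1 := by
      calc _ = t * (z * t) * z := by group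
        _ = (t * t) * (z * z) := by rw [← mem_centralizer_iff.1 hzZ t htS]; group
        _ = 1 := by rw [htt, hzz, one_mul]
    have htz1 : t * z ≠ 1 := fun h => ntz (by rw [eq_inv_of_mul_eq_one_left h, inv_eq_of_mul_eq_one_right hzz])
    by_cases h3 : ∀ g : G, g * (t * z) * g⁻¹ ∉ D
    · obtain ⟨H, hH, h⟩ := Invol.thompson_transfer hodd hDi (orderOf_eq_prime (by rw [pow_two, htz]) htz1) h3
      refine ⟨H, hH, fun h' => h (H.mul_mem h' ?_)⟩
      rw [hz, show z0 = (1, swap 0 2 * swap 2 1 * swap 1 3) * (1, swap 0 2 * swap 2 1 * swap 1 3) by decide, map_mul]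
      exact mul_self_mem_of_index_two hH _
    exfalso
    push Not at h1 h3
    obtain ⟨g, hg⟩ := h1
    obtain ⟨g', hg'⟩ := h3
    rcases hcj _ _ ht1 htt hg with h | h
    · exact ntz h.symm
    rcases hcj _ _ htz1 htz hg' with h' | h'
    · exact ntz' h'.symm
    · exact ntz'' (h'.symm.trans h)
  haveI hHn : H.Normal := normal_of_index_eq_two hH
  refine ⟨fun hsol => ?_, fun hns => ?_⟩
  · have hQ := Core.centralizer_pCore_le_of_solvable (G := G) Nat.prime_two
      (hO _ inferInstance (Nat.coprime_two_right.1 (Core.coprime_card_pPrimeCore 2 _)))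
    have hQS : pCore 2 G ≤ S := hSyl.pCore_le
    have htQ : t ∈ pCore 2 G := hQ (centralizer_le (SetLike.coe_subset_coe.2 hQS) htZ)
    rw [eq_top_iff]
    intro g _
    have h1 : g * t * g⁻¹ ∈ pCore 2 G := Normal.conj_mem inferInstance _ htQ g
    have c1 : IsConj t (g * t * g⁻¹) := isConj_iff.2 ⟨g, rfl⟩
    obtain ⟨k, -, hk⟩ := hQS h1
    rcases k_core k (fun c => by
      obtain ⟨k', hk', e⟩ := hQS (Normal.conj_mem inferInstance _ h1 (ι c))
      rw [← hk, ← map_inv, ← map_mul, ← map_mul] at e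
      rw [← hι e]; exact mk.1 hk') with h | h | h | h
    · rw [← hk, h, map_one] at c1; exact absurd (isConj_one_left.1 c1) ht1
    · rw [h, hts] at hk
      exact mc.2 (eq_mul_inv_iff_mul_eq.1 hk)
    · exact absurd (c1.trans (hk ▸ (ci h).symm)) ntz
    · have := ci h
      rw [map_mul, hts, hk] at this
      exact absurd (this.trans c1.symm) ntz''
  have hzH : z ∈ H := by
    rw [hz, show z0 = (1, swap 0 2 * swap 2 1 * swap 1 3) * (1, swap 0 2 * swap 2 1 * swap 1 3) by decide, map_mul]
    exact mul_self_mem_of_index_two hH _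
  have hcG : Nat.card G = 2 * Nat.card H := by rw [← H.card_mul_index, hH, mul_comm]
  have hHns : ¬ Group.IsSolvable H := by
    intro h
    apply hns
    haveI : IsMulCommutative (G ⧸ H) := by
      haveI : IsCyclic (G ⧸ H) := isCyclic_of_prime_card (p := 2) hH
      infer_instance
    haveI : Group.IsSolvable (G ⧸ H) := isSolvable_of_comm fun a b => mul_comm' a b
    exact solvable_of_ker_le_range H.subtype (QuotientGroup.mk' H) (by simp)
  have hCsol : Group.IsSolvable C := by
    haveI := Linear.isSolvable_S4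
    exact Linear.isSolvable_of_equiv e
  -- a normal subgroup meeting `H` trivially is trivial
  have hN : ∀ N : Subgroup G, N.Normal → N ⊓ H = ⊥ → N = ⊥ := by
    intro N hN h
    rw [eq_bot_iff]
    intro w hw
    have hw' : ∀ g : G, g * w = w * g := by
      intro g
      have : g * w * g⁻¹ * w⁻¹ ∈ N ⊓ H := by
        refine ⟨N.mul_mem (hN.conj_mem _ hw g) (N.inv_mem hw), ?_⟩
        refine (mul_mem_iff_of_index_two hH).2 ?_
        rw [inv_mem_iff]
        exact ⟨fun h => by simpa [mul_assoc] using hHn.conj_mem _ h g⁻¹, fun h => hHn.conj_mem _ h g⟩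
      rw [h, mem_bot, mul_inv_eq_one, mul_inv_eq_iff_eq_mul] at this
      exact this
    have hwC : w ∈ C := mc.2 (hw' t)
    rcases k_cen (e ⟨w, hwC⟩) (fun c => hι (by rw [map_mul, map_mul, hCι, hw'])) with h | h
    · rw [← hCι w hwC, h, map_one]; exact one_mem _
    · exfalso
      have : w = t := by rw [← hCι w hwC, h, hts]
      have h1 : C = ⊤ := eq_top_iff.2 fun g _ => mc.2 (by rw [← this, hw'])
      rw [h1] at hCsol
      exact hns (Linear.isSolvable_of_equiv (topEquiv (G := G)).symm)
  have hd8 : Nonempty (centralizer ({⟨z, hzH⟩} : Set H) ≃* DihedralGroup 4) := by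
    set Y := centralizer ({⟨z, hzH⟩} : Set H)
    have hY : ∀ y : H, y ∈ Y ↔ (y : G) ∈ S := by
      intro y
      rw [← hCz, mc, mem_centralizer_iff]
      exact ⟨fun h => congrArg Subtype.val (h _ rfl), fun h => by rintro _ rfl; exact Subtype.ext h⟩
    let f0 : Y →* C := (H.subtype.comp Y.subtype).codRestrict C fun y => hSC ((hY _).1 y.2)
    let f1 : Y →* Perm (Fin 4) := (MonoidHom.snd _ _).comp (e.toMonoidHom.comp f0)
    have hf1 : ∀ y, f1 y ∈ centralizer ({zp} : Set (Perm (Fin 4))) := by
      intro y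
      obtain ⟨k, hk, e1⟩ := (hY _).1 y.2
      have : e (f0 y) = k := hι ((hCι _ _).trans e1.symm)
      have e2 : f1 y = k.2 := congrArg Prod.snd this
      rw [e2, mem_centralizer_iff]
      rintro _ rfl
      exact congrArg Prod.snd (mk.1 hk)
    let f := f1.codRestrict _ hf1
    have hinj : Function.Injective f := by
      rw [injective_iff_map_eq_one]
      intro y hy
      rcases k_snd (e (f0 y)) (congrArg Subtype.val hy) with h | h
      · have := congrArg ι h
        rw [hCι, map_one] at this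
        exact Subtype.ext (Subtype.ext this)
      · have := congrArg ι h
        rw [hCι, hts] at this
        exact absurd (this ▸ y.1.2) htH
    obtain ⟨e8⟩ := d8
    refine ⟨(MulEquiv.ofBijective f ((Nat.bijective_iff_injective_and_card f).2 ⟨hinj, ?_⟩)).trans e8⟩
    rw [Nat.card_congr e8.toEquiv, DihedralGroup.nat_card]
    have e1 : Y = S.subgroupOf H := Subgroup.ext hY
    have e2 : H.relIndex S = 2 := by
      have h1 := relIndex_dvd_index_of_normal H S
      rw [hH] at h1
      refine ((Nat.dvd_prime Nat.prime_two).1 h1).resolve_left fun h => htH (relIndex_eq_one.1 h htS)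
    have e3 := (H.subgroupOf S).card_mul_index
    rw [show (H.subgroupOf S).index = 2 from e2, hcS, ← inf_subgroupOf_right,
      Nat.card_congr (subgroupOfEquivOfLe inf_le_right).toEquiv] at e3
    rw [e1, ← inf_subgroupOf_right, Nat.card_congr (subgroupOfEquivOfLe inf_le_right).toEquiv, inf_comm]
    omega
  have hcore : ∀ {X : Type} [Group X] (_ : H ≃* X), (∀ N : Subgroup X, N.Normal → N ≠ ⊥ → ¬ Group.IsSolvable N) →
      C.normalCore = ⊥ := by
    intro X _ f hX
    refine hN _ inferInstance ?_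
    by_contra hne
    refine hX ((C.normalCore.subgroupOf H).map f.toMonoidHom) (Normal.map inferInstance _ f.surjective) ?_ ?_
    · rw [Ne, Subgroup.map_eq_bot_iff_of_injective _ f.injective, subgroupOf_eq_bot, disjoint_iff]
      exact hne
    · haveI : Group.IsSolvable (C.normalCore.subgroupOf H) :=
        solvable_of_solvable_injective (f := (H.subtype.comp (Subgroup.subtype _)).codRestrict C
          fun y => normalCore_le C y.2) (fun a b h => by
            have := congrArg Subtype.val h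
            exact Subtype.ext (Subtype.ext this))
      exact solvable_of_surjective (f.toMonoidHom.subgroupMap_surjective _)
  have hfaith : C.normalCore = ⊥ → ∀ n, C.index = n → ∃ f : G →* Perm (Fin n), Function.Injective f := by
    intro h n hn
    refine Linear.exists_injective_perm_of_faithful (X := G ⧸ C) hn fun g hg => ?_
    rw [← mem_bot, ← h, normalCore_eq_ker]
    exact Equiv.ext hg
  have hsimp : ∀ {X : Type} [Group X] [IsSimpleGroup X] (_ : H ≃* X) (N : Subgroup X), N.Normal → N ≠ ⊥ →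
      ¬ Group.IsSolvable N := by
    intro X _ _ f N hN h hs
    rw [hN.eq_bot_or_eq_top.resolve_left h] at hs
    exact hHns (Linear.isSolvable_of_equiv (f.trans topEquiv.symm))
  have hidx := C.card_mul_index
  rw [hcC, hcG] at hidx
  rcases S3035.result (⟨z, hzH⟩ : H) (by rw [← Subgroup.orderOf_coe, hz2]) hd8 with h | ⟨⟨f⟩⟩ | ⟨⟨f⟩⟩ | ⟨⟨f⟩⟩ | ⟨⟨f⟩⟩
  · exfalso
    haveI : (oddCore H).Characteristic := Core.pPrimeCore_characteristic 2 _
    have h1 : (oddCore H).map H.subtype = ⊥ := hO _ (ConjAct.normal_of_characteristic_of_normal) (by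
      rw [card_map_of_injective H.subtype_injective]
      exact Nat.coprime_two_right.1 (Core.coprime_card_pPrimeCore 2 _))
    rw [Subgroup.map_eq_bot_iff_of_injective _ H.subtype_injective] at h1
    rw [h1, sup_bot_eq] at h
    obtain ⟨e8⟩ := hd8
    rw [h] at e8
    haveI := Linear.isSolvable_dihedral 4
    exact hHns (Linear.isSolvable_of_equiv (topEquiv.symm.trans e8))
  · haveI := Linear.isSolvable_S4
    exact absurd (Linear.isSolvable_of_equiv f) hHns
  · exfalso
    have hc : Nat.card H = 120 := by rw [Nat.card_congr f.toEquiv, Nat.card_eq_fintype_card]; rfl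
    obtain ⟨φ, hφ⟩ := hfaith (hcore f fun N hN h hs => by
      have h1 := Perm.alternatingGroup_le_of_normal (α := Fin 5) (by simp) ((nontrivial_iff_ne_bot N).2 h)
      exact Linear.not_isSolvable_A5 (solvable_of_solvable_injective (inclusion_injective h1))) 5 (by omega)
    have := Nat.card_le_card_of_injective φ hφ
    rw [hcG, hc, Nat.card_eq_fintype_card, Fintype.card_perm] at this
    exact absurd this (by decide)
  · exfalso
    have hc : Nat.card H = 168 := by rw [Nat.card_congr f.toEquiv, Linear.card_SL_three_two]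
    haveI := Linear.sl_isSimpleGroup_of_card_two (ι := Fin 3) (F := ZMod 2) (by simp) (by simp)
    obtain ⟨φ, hφ⟩ := hfaith (hcore f (hsimp f)) 7 (by omega)
    haveI : Fact (Nat.Prime 7) := ⟨by norm_num⟩
    obtain ⟨y, hy⟩ := exists_prime_orderOf_dvd_card' (G := G) 7 (by rw [hcG, hc]; norm_num)
    have hy' : orderOf (φ y) = Fintype.card (Fin 7) := by rw [orderOf_injective φ hφ, hy]; rfl
    have hcyc := Perm.isCycle_of_prime_order'' (by norm_num) hy'
    have hsup : (φ y).support = Finset.univ := Finset.eq_univ_of_card _ (by rw [← hcyc.orderOf, hy'])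
    have hP : Syl 2 (S.map φ) ⊤ := by
      refine syl_of_not_dvd le_top (hS2.map φ) ?_
      have := (S.map φ).card_mul_index
      rw [card_map_of_injective hφ, hcS, Nat.card_eq_fintype_card, Fintype.card_perm] at this
      rw [relIndex_top_right]
      have h1 : (Fintype.card (Fin 7)).factorial = 5040 := by decide
      omega
    obtain ⟨g, -, hg⟩ := hP.exists_conj_le (P := zpowers (swap (0 : Fin 7) 1))
      (isPGroup_zpowers_of_pow (k := 1) (by decide)) le_top
    obtain ⟨s, -, hs⟩ := hg (conj_mem_cj g (mem_zpowers _))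
    have hsw : (φ s).IsSwap := by
      rw [hs, ← swap_apply_apply]
      exact ⟨_, _, g.injective.ne (by decide), rfl⟩
    have h1 : φ.range = ⊤ := by
      rw [eq_top_iff, ← Perm.closure_prime_cycle_swap (by norm_num) hcyc hsup hsw, closure_le]
      rintro _ (rfl | rfl) <;> exact ⟨_, rfl⟩
    have := Nat.card_congr (MonoidHom.ofInjective hφ).toEquiv
    rw [h1, card_top, hcG, hc, Nat.card_eq_fintype_card, Fintype.card_perm] at this
    exact absurd this (by decide)
  · have hc : Nat.card H = 360 := by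
      rw [Nat.card_congr f.toEquiv, Nat.card_eq_fintype_card]
      have := two_mul_card_alternatingGroup (α := Fin 6)
      rw [Fintype.card_perm] at this
      have h1 : (Fintype.card (Fin 6)).factorial = 720 := by decide
      omega
    haveI : IsSimpleGroup (alternatingGroup (Fin 6)) := alternatingGroup.isSimpleGroup (by simp)
    let ψ : G →* MulAut (alternatingGroup (Fin 6)) := (MulAut.congr f).toMonoidHom.comp MulAut.conjNormal
    have hψa : ∀ g y, ψ g y = f (MulAut.conjNormal g (f.symm y)) := fun g y => rfl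
    have hψ : Function.Injective ψ := by
      rw [← MonoidHom.ker_eq_bot_iff]
      refine hN _ inferInstance ?_
      have hZ : center (alternatingGroup (Fin 6)) = ⊥ := alternatingGroup.center_eq_bot (by simp)
      rw [eq_bot_iff]
      rintro w ⟨hw, hwH⟩
      have : f ⟨w, hwH⟩ ∈ center (alternatingGroup (Fin 6)) := mem_center_iff.2 fun y => by
        have e1 : ψ w y = y := by rw [show ψ w = 1 from hw]; rfl
        rw [hψa] at e1
        have e2 : MulAut.conjNormal w (f.symm y) = ⟨w, hwH⟩ * f.symm y * (⟨w, hwH⟩ : H)⁻¹ := rfl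
        rw [e2, map_mul, map_mul, map_inv, MulEquiv.apply_symm_apply, mul_inv_eq_iff_eq_mul] at e1
        exact e1.symm
      rw [hZ, mem_bot, map_eq_one_iff _ f.injective] at this
      exact mem_bot.2 (congrArg Subtype.val this)
    have hx3 : orderOf (ι x0) = 3 := by
      rw [orderOf_injective ι hι]; exact orderOf_eq_prime (by decide) (by decide)
    have hxH : ι x0 ∈ H := Invol.mem_of_odd_of_index_two hH (by rw [hx3]; decide)
    have hin : ∀ g ∈ H, ψ g ∈ (MulAut.conjNormal : Perm (Fin 6) →* MulAut (alternatingGroup (Fin 6))).range := by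
      intro g hg
      refine ⟨f ⟨g, hg⟩, MulEquiv.ext fun y => ?_⟩
      have e2 : MulAut.conjNormal g (f.symm y) = ⟨g, hg⟩ * f.symm y * (⟨g, hg⟩ : H)⁻¹ := rfl
      rw [hψa, e2, map_mul, map_mul, map_inv, MulEquiv.apply_symm_apply]
      rfl
    have htr : ψ t ∈ (MulAut.conjNormal : Perm (Fin 6) →* MulAut (alternatingGroup (Fin 6))).range := by
      refine conj_of_three (by simp) _ (three_of_fix _ (x := f ⟨_, hxH⟩) ?_ ?_)
      · rw [MulEquiv.orderOf_eq, ← Subgroup.orderOf_coe, hx3]
      · rw [hψa, MulEquiv.symm_apply_apply]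
        congr 1
        apply Subtype.ext
        show t * ι x0 * t⁻¹ = ι x0
        rw [mc.1 (hιC x0)]; group
    have hall : ∀ g, ψ g ∈ (MulAut.conjNormal : Perm (Fin 6) →* MulAut (alternatingGroup (Fin 6))).range := by
      intro g
      by_cases hg : g ∈ H
      · exact hin g hg
      · have : g * t⁻¹ ∈ H := (mul_mem_iff_of_index_two hH).2 (by rw [inv_mem_iff]; tauto)
        have e1 : g = g * t⁻¹ * t := by group
        rw [e1, map_mul]
        exact mul_mem (hin _ this) htr
    have hi := Linear.conjNormal_alt_injective (α := Fin 6) (by simp)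
    refine Linear.nonempty_equiv_perm_of_injective
      ((MonoidHom.ofInjective hi).symm.toMonoidHom.comp (ψ.codRestrict _ hall)) ?_ (by rw [hcG, hc]; rfl)
    exact (MonoidHom.ofInjective hi).symm.injective.comp
      (fun a b h => hψ (congrArg Subtype.val h))

end Cfsg.Agent.S3222
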