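import Cfsg.Statements.S3231
import Cfsg.Agent.Lib.Known2.Q6

set_option autoImplicit false
open Cfsg

namespace Cfsg.Agent.S3231
open Cfsg.Lib Cfsg.Lib.Par Subgroup

/-- Let G be a finite group with an involution z, H = C_G(z), such that J = O₂(H) is extraspecial of order 2⁹ with C_H(J) ≤ J and H/J ≅ Aut(PSp₄(3)). Then either G has a subgroup G₀ of index 2 with G₀ ≅ U₆(2) and C_G(G₀) = 1 (so that G embeds in Aut(G₀)), or G = H·O(G). -/
theorem result {G : Type*} [Group G] [Finite G] (z : G) (hz : orderOf z = 2)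
    {F : Type*} [Field F] [Fintype F] (hF : Fintype.card F = 3) {K : Type*} [Field K] [Fintype K] (hK : Fintype.card K = 4)
    (hJ : Cfsg.IsExtraspecial 2 ↥(Cfsg.pCore 2 ↥(Subgroup.centralizer ({z} : Set G)))) (hJc : Nat.card ↥(Cfsg.pCore 2 ↥(Subgroup.centralizer ({z} : Set G))) = 2 ^ 9)
    (hCJ : Subgroup.centralizer ((Cfsg.pCore 2 ↥(Subgroup.centralizer ({z} : Set G))) : Set ↥(Subgroup.centralizer ({z} : Set G))) ≤ Cfsg.pCore 2 ↥(Subgroup.centralizer ({z} : Set G))) [hJn : (Cfsg.pCore 2 ↥(Subgroup.centralizer ({z} : Set G))).Normal]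
    (e : (↥(Subgroup.centralizer ({z} : Set G)) ⧸ Cfsg.pCore 2 ↥(Subgroup.centralizer ({z} : Set G))) ≃* MulAut (Cfsg.PSp 2 F)) :
    (∃ G₀ : Subgroup G, G₀.index = 2 ∧ Nonempty (↥G₀ ≃* Cfsg.PSU 6 K 2) ∧ Subgroup.centralizer (G₀ : Set G) = ⊥) ∨
      Subgroup.centralizer ({z} : Set G) ⊔ Cfsg.oddCore G = ⊤ := by
  obtain ⟨h1, h2, h3⟩ := ls_of hz hJ hCJ
  obtain ⟨f⟩ := Psp43.isoP0 hF
  refine or_iff_not_imp_right.2 fun n => ?_
  obtain ⟨g, g1, g2⟩ : ∃ g, Commute z (g * z * g⁻¹) ∧ g * z * g⁻¹ ≠ z := by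
    by_contra m
    push Not at m
    exact n (sup_of_iso hz m)
  obtain ⟨H, ⟨x, y, C⟩ | ⟨ν, α, C⟩⟩ := dicho2 h1 (h2.trans hJc) ((e.trans (MulAut.congr f.symm)).toMonoidHom.comp (QuotientGroup.mk' _))
    ((e.trans (MulAut.congr f.symm)).surjective.comp (QuotientGroup.mk'_surjective _)) fun g => by
      rw [← h3, ← QuotientGroup.eq_one_iff]
      exact map_eq_one_iff _ (e.trans (MulAut.congr f.symm)).injective
  · exact absurd (C.iso g1) g2
  obtain ⟨w, w1, χ, c1, c2⟩ := C.chi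
  exact C.toAH.fin w1 χ c1 c2 g1 g2 hK

end Cfsg.Agent.S3231
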