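import Cfsg.Statements.S3232
import Cfsg.Agent.Lib.Known2.RJ

set_option autoImplicit false
open Cfsg

namespace Cfsg.Agent.S3232
open Cfsg.Lib Cfsg.Lib.Par Cfsg.Lib.Known2 Subgroup

/-- Let G be a finite group with an involution z, H = C_G(z), such that J = O₂(H) is an (internal) direct product of a group of order 2 and an extraspecial group of order 2⁹, with derived subgroup J′ = ⟨z⟩, C_H(J) ≤ J and H/J ≅ Aut(PSp₄(3)). Then G = H·O(G); or some involution z₁ ∈ Z(J) outside ⟨z⟩ generates a normal subgroup of G and G has a subgroup G₀ of index 2 containing z₁ with G₀/⟨z₁⟩ ≅ U₆(2); or G is isomorphic to the Fischer group Fi₂₂. -/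
theorem result {G : Type*} [Group G] [Finite G] (z : G) (hz : orderOf z = 2)
    {F : Type*} [Field F] [Fintype F] (hF : Fintype.card F = 3) {K : Type*} [Field K] [Fintype K] (hK : Fintype.card K = 4)
    (A E : Subgroup ↥(Subgroup.centralizer ({z} : Set G))) (hAE : Cfsg.IsInternalDirectProduct A E (Cfsg.pCore 2 ↥(Subgroup.centralizer ({z} : Set G)))) (hA : Nat.card ↥A = 2)
    (hE : Cfsg.IsExtraspecial 2 ↥E) (hEc : Nat.card ↥E = 2 ^ 9)
    (zc : ↥(Subgroup.centralizer ({z} : Set G))) (hzc : (zc : G) = z) (hJ' : ⁅(Cfsg.pCore 2 ↥(Subgroup.centralizer ({z} : Set G))), (Cfsg.pCore 2 ↥(Subgroup.centralizer ({z} : Set G)))⁆ = Subgroup.zpowers zc)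
    (hCJ : Subgroup.centralizer ((Cfsg.pCore 2 ↥(Subgroup.centralizer ({z} : Set G))) : Set ↥(Subgroup.centralizer ({z} : Set G))) ≤ Cfsg.pCore 2 ↥(Subgroup.centralizer ({z} : Set G))) [hJn : (Cfsg.pCore 2 ↥(Subgroup.centralizer ({z} : Set G))).Normal]
    (e : (↥(Subgroup.centralizer ({z} : Set G)) ⧸ Cfsg.pCore 2 ↥(Subgroup.centralizer ({z} : Set G))) ≃* MulAut (Cfsg.PSp 2 F)) :
    Subgroup.centralizer ({z} : Set G) ⊔ Cfsg.oddCore G = ⊤ ∨
      (∃ z₁ : G, orderOf z₁ = 2 ∧ z₁ ∉ Subgroup.zpowers z ∧ (∃ h₁ : z₁ ∈ Subgroup.centralizer ({z} : Set G), (⟨z₁, h₁⟩ : ↥(Subgroup.centralizer ({z} : Set G))) ∈ Cfsg.pCore 2 ↥(Subgroup.centralizer ({z} : Set G)) ∧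
          ∀ j ∈ Cfsg.pCore 2 ↥(Subgroup.centralizer ({z} : Set G)), j * ⟨z₁, h₁⟩ = ⟨z₁, h₁⟩ * j) ∧ (Subgroup.zpowers z₁).Normal ∧
        ∃ (G₀ : Subgroup G) (hz₁ : z₁ ∈ G₀), G₀.index = 2 ∧
          ∃ hn : ((Subgroup.zpowers z₁).subgroupOf G₀).Normal,
            Nonempty ((↥G₀ ⧸ (Subgroup.zpowers z₁).subgroupOf G₀) ≃* Cfsg.PSU 6 K 2)) ∨
      Cfsg.Spor.IsoFi22 G := by
  obtain ⟨f⟩ := Psp43.isoP0 hF
  obtain ⟨l1, l2, l3, l4, l5⟩ := hAE
  have inj := (centralizer ({z} : Set G)).subtype_injective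
  have mJ : ∀ g : centralizer ({z} : Set G), g ∈ pCore 2 (centralizer ({z} : Set G)) ↔ (g : G) ∈ pCoreOf 2 (centralizer {z}) :=
    fun g => (mem_map_iff_mem inj).symm
  have zz : z * z = 1 := by rw [← sq, ← hz, pow_orderOf_eq_one]
  obtain ⟨a, a1, a2, a3⟩ := exists_invol_of_card_two hA
  have aA : a ∈ A := a3 ▸ mem_zpowers a
  have e1 := E.equivMapOfInjective _ inj
  obtain ⟨z', -, es⟩ := exists_ES (Fi.xs_equiv e1 hE)
  obtain rfl : z' = z := by
    obtain ⟨_, ⟨x, x1, rfl⟩, _, ⟨y, y1, rfl⟩, n⟩ := es.nonab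
    have := hJ' ▸ commutator_mem_commutator (l2 x1) (l2 y1)
    rw [mem_zpowers_invol (Subtype.ext (by simpa [hzc] using zz)), Subtype.ext_iff, Subtype.ext_iff, hzc, commutatorElement_def] at this
    have e := es.conj_anti ⟨x, x1, rfl⟩ ⟨y, y1, rfl⟩ n
    have c := es.cen _ ⟨y, y1, rfl⟩
    simp only [coe_mul, coe_inv, Subgroup.coe_subtype] at e this c
    rw [e, c, mul_inv_cancel_right] at this
    exact this.resolve_left es.ne
  have dec : ∀ j ∈ pCore 2 (centralizer ({z'} : Set G)), j ∈ E ∨ j * a ∈ E := fun j b => by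
    let S : Subgroup (centralizer ({z'} : Set G)) :=
      { carrier := {j | j ∈ E ∨ j * a ∈ E}
        one_mem' := Or.inl (one_mem _)
        mul_mem' := by
          rintro x y (b | b) (c | c)
          exacts [Or.inl (mul_mem b c), Or.inr (mul_assoc x y a ▸ mul_mem b c), Or.inr (by
            rw [mul_assoc, ← l3 a aA y c, ← mul_assoc]; exact mul_mem b c), Or.inl (by
            have := mul_mem b c
            rwa [mul_assoc, l3 a aA _ c, mul_assoc y, a2, mul_one] at this)]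
        inv_mem' := by
          rintro x (b | b)
          · exact Or.inl (inv_mem b)
          have c : Commute a x := by simpa using Commute.mul_right (l3 a aA _ b) (Commute.refl a).inv_right
          have := inv_mem b
          rw [mul_inv_rev, inv_eq_of_mul_eq_one_right a2, c.inv_right.eq] at this
          exact Or.inr this }
    exact (l5 ▸ sup_le (fun x c => by
      rcases (mem_zpowers_invol a2).1 (a3 ▸ c) with rfl | rfl
      exacts [Or.inl (one_mem _), Or.inr (a2 ▸ one_mem _)]) fun x => Or.inl : _ ≤ S) b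
  have ca : ∀ j ∈ pCore 2 (centralizer ({z'} : Set G)), Commute a j := fun j b => (dec j b).elim (l3 a aA j) fun c => by
    simpa using Commute.mul_right (l3 a aA _ c) (Commute.refl a).inv_right
  have cJ : ∀ j ∈ pCoreOf 2 (centralizer {z'}), Commute z' j := by
    rintro _ ⟨j, -, rfl⟩; exact (mem_centralizer_singleton_iff.1 j.2).symm
  have p : PI (pCoreOf 2 (centralizer {z'})) z' := ⟨(e.trans (MulAut.congr f.symm)).toMonoidHom.comp (QuotientGroup.mk' _),
    (e.trans (MulAut.congr f.symm)).surjective.comp (QuotientGroup.mk'_surjective _), fun g => by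
      rw [← mJ, ← QuotientGroup.eq_one_iff]
      exact map_eq_one_iff _ (e.trans (MulAut.congr f.symm)).injective⟩
  obtain ⟨π, h1, h2⟩ := id p
  obtain ⟨H, ⟨x, y, C⟩ | ⟨Y, ν, α, C, w, w1, w2, w3⟩⟩ := dicho3 (a := (a : G)) (J := pCoreOf 2 (centralizer {z'})) es ((Nat.card_congr e1.toEquiv).symm.trans hEc) (map_mono l2)
    ((mJ a).1 (l1 aA)) (fun b => a1 (mem_bot.1 (l4 ▸ ⟨aA, (mem_map_iff_mem inj).1 b⟩ : a ∈ (⊥ : Subgroup _)))) (congrArg Subtype.val a2)
    (by rintro _ ⟨j, b, rfl⟩; exact congrArg Subtype.val (ca j b))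
    (by rintro _ ⟨j, b, rfl⟩; exact (dec j b).imp (fun c => ⟨j, c, rfl⟩) fun c => ⟨_, c, rfl⟩)
    (fun g b => ⟨⟨g, mem_centralizer_singleton_iff.2 (b z' (map_mono l2 es.mem))⟩,
      hCJ fun x c => Subtype.ext (b x ⟨x, c, rfl⟩).symm, rfl⟩)
    (by rintro g _ b ⟨j, c, rfl⟩; exact ⟨_, hJn.conj_mem j c ⟨g, mem_centralizer_singleton_iff.2 b.symm⟩, rfl⟩) cJ π h1 h2
  · exact Or.inl (sup_of_iso hz fun g => C.isoG)
  refine (C.main p w1 w2 w3 hK).imp (sup_of_iso hz) (Or.imp_left fun ⟨u, u1, u2, u3, u4, u5, u6⟩ => ⟨u, orderOf_eq_two_of u1 u2,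
    fun b => ((mem_zpowers_invol zz).1 b).elim u2 u3, ⟨mem_centralizer_singleton_iff.2 (cJ u u4).symm, (mJ _).2 u4,
      fun j b => Subtype.ext (u5 j ((mJ j).1 b)).symm⟩, u6⟩)

end Cfsg.Agent.S3232
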