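import Cfsg.Statements.S3233
import Cfsg.Agent.Lib.Known2.TE6

set_option autoImplicit false
open Cfsg

namespace Cfsg.Agent.S3233
open Subgroup Cfsg.Lib.Par Cfsg.Lib.Known2 Cfsg.Lib.Core Cfsg.Lib Cfsg.Lib.Fi

/-- Let G be a finite group with an involution z, H = C_G(z), such that (i) J = O₂(H) is an (internal) direct product of a four-group and an extraspecial group of order 2⁹, with C_H(J) ≤ J, and (ii) H contains an element c of order 3 such that J⟨c⟩ is normal in H with H/J⟨c⟩ ≅ Aut(PSp₄(3)) and C_H(c)/⟨c, z⟩ ≅ PSp₄(3). Then G = H·O(G), or G is isomorphic to the Fischer group Fi₂₃, or G has a normal four-group V with G/V ≅ Aut(U₆(2)). -/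
theorem result {G : Type*} [Group G] [Finite G] (z : G) (hz : orderOf z = 2)
    {F : Type*} [Field F] [Fintype F] (hF : Fintype.card F = 3) {K : Type*} [Field K] [Fintype K] (hK : Fintype.card K = 4)
    (V E : Subgroup ↥(Subgroup.centralizer ({z} : Set G))) (hVE : Cfsg.IsInternalDirectProduct V E (Cfsg.pCore 2 ↥(Subgroup.centralizer ({z} : Set G)))) (hV : Nat.card ↥V = 4) (hV2 : ∀ v ∈ V, v ^ 2 = 1)
    (hE : Cfsg.IsExtraspecial 2 ↥E) (hEc : Nat.card ↥E = 2 ^ 9)
    (hCJ : Subgroup.centralizer ((Cfsg.pCore 2 ↥(Subgroup.centralizer ({z} : Set G))) : Set ↥(Subgroup.centralizer ({z} : Set G))) ≤ Cfsg.pCore 2 ↥(Subgroup.centralizer ({z} : Set G)))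
    (zc c : ↥(Subgroup.centralizer ({z} : Set G))) (hzc : (zc : G) = z) (hc : orderOf c = 3)
    [hJc : (Cfsg.pCore 2 ↥(Subgroup.centralizer ({z} : Set G)) ⊔ Subgroup.zpowers c).Normal] (e : (↥(Subgroup.centralizer ({z} : Set G)) ⧸ (Cfsg.pCore 2 ↥(Subgroup.centralizer ({z} : Set G)) ⊔ Subgroup.zpowers c)) ≃* MulAut (Cfsg.PSp 2 F))
    [hcz : ((Subgroup.zpowers c ⊔ Subgroup.zpowers zc).subgroupOf (Subgroup.centralizer ({c} : Set ↥(Subgroup.centralizer ({z} : Set G))))).Normal]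
    (e' : (↥(Subgroup.centralizer ({c} : Set ↥(Subgroup.centralizer ({z} : Set G)))) ⧸ (Subgroup.zpowers c ⊔ Subgroup.zpowers zc).subgroupOf (Subgroup.centralizer ({c} : Set ↥(Subgroup.centralizer ({z} : Set G))))) ≃* Cfsg.PSp 2 F) :
    Subgroup.centralizer ({z} : Set G) ⊔ Cfsg.oddCore G = ⊤ ∨ Cfsg.Spor.IsoFi23 G ∨
      (∃ (W : Subgroup G) (hW : W.Normal), Nat.card ↥W = 4 ∧ (∀ w ∈ W, w ^ 2 = 1) ∧
        Nonempty ((G ⧸ W) ≃* MulAut (Cfsg.PSU 6 K 2))) := by
  obtain ⟨f⟩ := Psp43.isoP0 hF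
  obtain ⟨l1, l2, l3, l4, l5⟩ := hVE
  have inj := (centralizer ({z} : Set G)).subtype_injective
  have mJ : ∀ g : centralizer ({z} : Set G), g ∈ pCore 2 (centralizer ({z} : Set G)) ↔ (g : G) ∈ pCoreOf 2 (centralizer {z}) :=
    fun g => (mem_map_iff_mem inj).symm
  have zz : z * z = 1 := by rw [← sq, ← hz, pow_orderOf_eq_one]
  have e1 := E.equivMapOfInjective _ inj
  obtain ⟨y, -, es⟩ := exists_ES (Fi.xs_equiv e1 hE)
  have hJn : (pCore 2 (centralizer ({z} : Set G))).Normal := inferInstance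
  have pJ : IsPGroup 2 (pCore 2 (centralizer ({z} : Set G))) := isPGroup_pCore _ _
  have c3 : c * c * c = 1 := by simpa [pow_succ, hc] using pow_orderOf_eq_one c
  have cz0 : ∀ g : centralizer ({z} : Set G), Commute zc g := fun g => Subtype.ext (by
    simpa [hzc] using (mem_centralizer_singleton_iff.1 g.2).symm)
  have zp : ∀ {g}, g ∈ zpowers c → g = 1 ∨ g * c = 1 ∨ g * (c * c) = 1 := fun {g} d => by
    classical
    rw [mem_zpowers_iff_mem_range_orderOf, hc] at d
    simp only [Finset.mem_image, Finset.mem_range] at d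
    obtain ⟨i, i1, rfl⟩ := d
    interval_cases i <;> simp [pow_succ, ← mul_assoc, c3]
  have ker : ∀ g, g ∈ pCore 2 (centralizer ({z} : Set G)) ⊔ zpowers c ↔ g ∈ pCore 2 (centralizer ({z} : Set G)) ∨
      g * c ∈ pCore 2 (centralizer ({z} : Set G)) ∨ g * (c * c) ∈ pCore 2 (centralizer ({z} : Set G)) := fun g => by
    have k := mem_sup_right (S := pCore 2 (centralizer ({z} : Set G))) (mem_zpowers c)
    refine ⟨fun d => ?_, fun d => d.elim mem_sup_left fun d => d.elim (fun d => (mul_mem_cancel_right k).1 (mem_sup_left d))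
      fun d => (mul_mem_cancel_right (mul_mem k k)).1 (mem_sup_left d)⟩
    obtain ⟨j, j1, u, u1, rfl⟩ := mem_sup_of_normal_left.1 d
    simp only [mul_assoc j]
    exact (zp u1).imp (fun e => by simpa [e]) (Or.imp (fun e => by simpa [e]) fun e => by simpa [e])
  have zJ : zc ∈ pCore 2 (centralizer ({z} : Set G)) := hCJ fun x _ => (cz0 x).symm
  have : Fact (Nat.Prime 3) := ⟨Nat.prime_three⟩
  have : Fact (Nat.Prime 2) := ⟨Nat.prime_two⟩
  have := simple0
  let φ := (e'.trans f.symm).toMonoidHom.comp (QuotientGroup.mk' _)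
  have sφ : Function.Surjective φ := (e'.trans f.symm).surjective.comp (QuotientGroup.mk'_surjective _)
  have kφ : ∀ g, φ g = 1 ↔ (g : centralizer ({z} : Set G)) ∈ zpowers c ⊔ zpowers zc := fun g =>
    (map_eq_one_iff _ (e'.trans f.symm).injective).trans (QuotientGroup.eq_one_iff g)
  have nz : (zpowers zc).Normal := ⟨fun n ⟨i, b⟩ g => ⟨i, by rw [← b, cz ((cz0 g).zpow_left i)]⟩⟩
  let π := (e.trans (MulAut.congr f.symm)).toMonoidHom.comp (QuotientGroup.mk' _)
  have kπ : ∀ g, π g = 1 ↔ g ∈ pCore 2 (centralizer ({z} : Set G)) ⊔ zpowers c := fun g =>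
    (map_eq_one_iff _ (e.trans (MulAut.congr f.symm)).injective).trans (QuotientGroup.eq_one_iff g)
  obtain ⟨a, b, h⟩ := exTJ (J := pCoreOf 2 (centralizer {z})) (V := V.map (centralizer ({z} : Set G)).subtype) (z := z) (c := (c : G)) es
    ((Nat.card_congr e1.toEquiv).symm.trans hEc) (map_mono l2) (map_mono l1) ((Nat.card_congr (V.equivMapOfInjective _ inj).toEquiv).symm.trans hV)
    (by rintro _ ⟨v, d, rfl⟩; exact congrArg Subtype.val ((sq v).symm.trans (hV2 v d)))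
    (by rintro _ ⟨v, d, rfl⟩ m; exact Subtype.ext_iff.1 (mem_bot.1 (l4.le (mem_inf.2 ⟨d, (mem_map_iff_mem inj).1 m⟩))))
    (by rintro _ ⟨v, d, rfl⟩ _ ⟨x, m, rfl⟩; exact congrArg Subtype.val (l3 v d x m))
    (by
      rintro _ ⟨j, d, rfl⟩
      let S : Subgroup (centralizer ({z} : Set G)) :=
        { carrier := {j | ∃ x ∈ E, ∃ v ∈ V, j = x * v}
          one_mem' := ⟨1, one_mem _, 1, one_mem _, by simp⟩
          mul_mem' := by
            rintro _ _ ⟨x, x1, v, v1, rfl⟩ ⟨y, y1, u, u1, rfl⟩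
            exact ⟨_, mul_mem x1 y1, _, mul_mem v1 u1, Commute.mul_mul_mul_comm (l3 v v1 y y1) _ _⟩
          inv_mem' := by
            rintro _ ⟨x, x1, v, v1, rfl⟩
            exact ⟨_, inv_mem x1, _, inv_mem v1, by rw [mul_inv_rev, l3 _ (inv_mem v1) _ (inv_mem x1)]⟩ }
      obtain ⟨x, x1, v, v1, rfl⟩ := (l5 ▸ sup_le (fun v d => ⟨1, one_mem _, v, d, by simp⟩) fun x d => ⟨x, d, 1, one_mem _, by simp⟩ : _ ≤ S) d
      exact ⟨_, ⟨x, x1, rfl⟩, _, ⟨v, v1, rfl⟩, rfl⟩)
    (congrArg Subtype.val c3) (mem_centralizer_singleton_iff.1 c.2).symm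
    (fun g b => ⟨⟨g, mem_centralizer_singleton_iff.2 (b z ⟨zc, zJ, hzc⟩)⟩, hCJ fun x c => Subtype.ext (b x ⟨x, c, rfl⟩).symm, rfl⟩)
    (by rintro g _ b ⟨j, c, rfl⟩; exact ⟨_, hJn.conj_mem j c ⟨g, mem_centralizer_singleton_iff.2 b.symm⟩, rfl⟩)
    (by rintro _ ⟨j, -, rfl⟩; exact (mem_centralizer_singleton_iff.1 j.2).symm)
    (by
      rintro _ ⟨j, d, rfl⟩ m
      have m : j ∈ centralizer {c} := mem_centralizer_singleton_iff.2 (Subtype.ext m.symm)
      have : φ ⟨j, m⟩ = 1 := by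
        rcases ((hJn.subgroupOf (centralizer {c})).map φ sφ).eq_bot_or_eq_top with t | t
        · exact mem_bot.1 (t ▸ mem_map_of_mem φ d)
        obtain ⟨n, t'⟩ := IsPGroup.iff_card.1 ((Amalg.isPGroup_subgroupOf pJ (centralizer {c})).map φ)
        rw [t, card_top, Psp43.card_P0] at t'
        exact absurd ((Nat.Prime.dvd_of_dvd_pow Nat.prime_three (t' ▸ by norm_num : 3 ∣ 2 ^ n))) (by norm_num)
      obtain ⟨u, u1, v, v1, rfl⟩ := mem_sup_of_normal_right.1 ((kφ _).1 this)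
      have u2 := (mul_mem_cancel_right (zpowers_le.2 zJ v1)).1 d
      have : u = 1 := disjoint_def.1 (IsPGroup.disjoint_of_ne 3 2 (by norm_num) _ _ (IsPGroup.of_card (n := 1) (by
        rw [Nat.card_zpowers, hc, pow_one])) pJ) u1 u2
      rw [this, one_mul]
      exact ((mem_zpowers_invol (Subtype.ext (by simpa [hzc] using zz))).1 v1).imp Subtype.ext_iff.1 fun e => (Subtype.ext_iff.1 e).trans hzc)
    π ((e.trans (MulAut.congr f.symm)).surjective.comp (QuotientGroup.mk'_surjective _))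
    (fun g => by rw [kπ, ker, mJ, mJ, mJ]; rfl)
    (fun s => by
      have t := φ.liftOfRightInverse_comp_apply _ (Function.rightInverse_surjInv sφ) ⟨π.comp (centralizer {c}).subtype, fun g d =>
        (kπ g).2 (sup_le le_sup_right ((zpowers_le.2 zJ).trans le_sup_left) ((kφ g).1 d))⟩
      have := Nat.card_le_card_of_surjective _ fun ρ => let ⟨g, g1, g2⟩ := s ρ;
        ⟨_, (t ⟨g, mem_centralizer_singleton_iff.2 (Subtype.ext g1.symm)⟩).trans g2⟩
      rw [← (MulAut.conj : Psp43.P0 →* _).range.index_mul_card, idx0, ← Nat.card_congr (MonoidHom.ofInjective conj_inj0).toEquiv,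
        Psp43.card_P0] at this
      omega)
  exact (h.main hK).imp_left (sup_of_iso hz)

end Cfsg.Agent.S3233
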