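import Cfsg.Statements.S3244
import Cfsg.Agent.Lib.SigC.Two
import Cfsg.Agent.Lib.Amalg.JComp5
import Cfsg.Agent.Lib.Layer.Misc
import Cfsg.Agent.Lib.Block.ZStar
import Cfsg.Agent.Lib.Gold.AbSolv
import Cfsg.Agent.Lib.Invol.Sylow2

set_option autoImplicit false
open Cfsg

namespace Cfsg.Agent.S3244

open Subgroup Cfsg.Lib Cfsg.Lib.Core Cfsg.Lib.Amalg Cfsg.Lib.BG1 Cfsg.Lib.Layer Cfsg.Lib.SigC

/-- `t` is the only central involution of each Sylow 2-subgroup of `C(t)` -/
def ZI {G : Type*} [Group G] (t : G) : Prop :=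
  orderOf t = 2 ∧ ∀ T, Syl 2 T 𝐂[t] → ∀ u ∈ T ⊓ 𝐂(T), orderOf u = 2 → u = t

theorem ZI.conj {G : Type*} [Group G] [Finite G] {t : G} (h : ZI t) (g : G) : ZI (g * t * g⁻¹) := by
  refine ⟨by rw [Invol.orderOf_conj, h.1], fun T hT u hu ho => ?_⟩
  have h1 := hT.conj g⁻¹
  rw [cj_centralizer_singleton] at h1
  have e : g⁻¹ * (g * t * g⁻¹) * g⁻¹⁻¹ = t := by group
  rw [e] at h1
  have := h.2 _ h1 (g⁻¹ * u * g⁻¹⁻¹)
    (by rw [← cj_centralizer, ← cj_inf]; exact mem_cj'.2 ⟨u, hu, rfl⟩) (by rw [Invol.orderOf_conj, ho])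
  rw [← this]; group

theorem ZI.eq_of_syl {G : Type*} [Group G] [Finite G] {t u : G} (h : ZI t) (hu : orderOf u = 2) {R : Subgroup G}
    (hR : Syl 2 R 𝐂[t]) (h2 : R ≤ 𝐂[u]) : u = t := by
  have uc : u ∈ 𝐂(R) := fun x hx => mem_centralizer_singleton_iff.1 (h2 hx)
  have tR : t ∈ R := by
    refine hR.mem_of_mem_normalizer (k := 1) (by rw [← h.1, pow_one, pow_orderOf_eq_one]) ?_ ?_
    · exact mem_centralizer_singleton_iff.2 rfl
    · exact centralizer_le_normalizer _ fun x hx => mem_centralizer_singleton_iff.1 (hR.le hx)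
  have uR : u ∈ R := by
    refine hR.mem_of_mem_normalizer (k := 1) (by rw [← hu, pow_one, pow_orderOf_eq_one]) ?_ (centralizer_le_normalizer _ uc)
    exact mem_centralizer_singleton_iff.2 (uc t tR).symm
  exact h.2 R hR u ⟨uR, uc⟩ hu

theorem ZI.eq {G : Type*} [Group G] [Finite G]
    (H : ∀ R : Subgroup G, IsPGroup 2 R → R ≠ ⊥ → ∃ t, ZI t ∧ 𝐍(R) ≤ 𝐂[t]) (R : Subgroup G) :
    IsPGroup 2 R → R ≠ ⊥ → ∀ t u : G, ZI t → ZI u → R ≤ 𝐂[t] → R ≤ 𝐂[u] → t = u := by
  induction R using WellFoundedGT.induction with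
  | ind R ih =>
  intro hR h1 t u ht hu h2 h3
  obtain ⟨v, hv, hn⟩ := H R hR h1
  have key : ∀ w, ZI w → R ≤ 𝐂[w] → Syl 2 R 𝐂[w] ∨ w = v := fun w hw h => by
    obtain ⟨T, hT, hRT⟩ := exists_syl_ge hR h
    rcases hRT.eq_or_lt with e | e
    · exact .inl (e ▸ hT)
    · have l := lt_inf_normalizer_of_lt hT.isPGroup e
      exact .inr (ih _ l hT.isPGroup.to_inf_left (fun e' => h1 (eq_bot_iff.2 (e' ▸ l.le))) w v hw hv
        (inf_le_left.trans hT.le) (inf_le_right.trans hn))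
  rcases key t ht h2 with a | a
  · exact (ht.eq_of_syl hu.1 a h3).symm
  rcases key u hu h3 with b | b
  · exact hu.eq_of_syl ht.1 b h2
  rw [a, b]

/-- Say that a finite group G is of characteristic 2 type in the early sense when a Sylow 2-subgroup S of G has a self-centralizing normal subgroup of rank at least 3, S normalizes no nontrivial subgroup of odd order, and every 2-local subgroup of G is 2-constrained. If G is a non-abelian simple group of characteristic 2 type in this sense, then for some maximal 2-local subgroup M of G the centre of O₂(M) is not cyclic. -/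
theorem result {G : Type*} [Group G] [Finite G] [IsSimpleGroup G]
    (hG : ¬ IsMulCommutative G) (S : Sylow 2 G) (A : Subgroup G) (hA : Cfsg.IsSCN (S : Subgroup G) A) (hA3 : ¬ Cfsg.PRankLE 2 2 ↥A)
    (hinv : ∀ X : Subgroup G, Odd (Nat.card ↥X) → (S : Subgroup G) ≤ Subgroup.normalizer (X : Set G) → X = ⊥)
    (hcon : ∀ T : Subgroup G, IsPGroup 2 ↥T → T ≠ ⊥ → Cfsg.IsPConstrained 2 ↥(Subgroup.normalizer (T : Set G))) :
    ∃ M : Subgroup G, Cfsg.IsMaximalTwoLocal M ∧ ¬ IsCyclic ↥(Subgroup.center ↥(Cfsg.pCore 2 ↥M)) := by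
  have hL : ∀ t : G, orderOf t = 2 → pLayerOf 2 𝐂[t] = ⊥ := fun t ht =>
    pLayerOf_cent_of_constrained hcon (Invol.isPGroup_zpowers_two ht) (Invol.ne_one_of_two ht)
  have hgf := sft2.gf_cpc hL
  have hAc : IsMulCommutative A := le_centralizer_iff_isMulCommutative.1 (hA.2.2.ge.trans inf_le_right)
  have hfc := fourConnected_of_scn (A := A.subgroupOf S) S.isPGroup' (normal_subgroupOf_of_le_normalizer hA.2.1)
    (le_centralizer_iff_isMulCommutative.1 fun x hx y hy => Subtype.ext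
      (le_centralizer_iff_isMulCommutative.2 hAc (mem_subgroupOf.1 hx) _ (mem_subgroupOf.1 hy)))
    (fun h => hA3 fun B b1 b2 => by
      let e := (subgroupOfEquivOfLe hA.1).symm
      rw [← card_map_of_injective (K := B) (f := e.toMonoidHom) e.injective]
      refine h _ (map_isMulCommutative _ _) ?_
      rintro _ ⟨y, hy, rfl⟩
      rw [← map_pow, b2 y hy, map_one])
  obtain ⟨B, hBS, hB⟩ := exists_ea_le_syl (syl_top S) hfc.2
  obtain ⟨hw, hn⟩ := hgf.wc (syl_top S) hfc.1 hB hBS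
  have hW := hinv _ (Nat.odd_iff.2 (Nat.two_dvd_ne_zero.1 hw.not_dvd)) hn
  have hC : ∀ t : G, orderOf t = 2 → Amalg.CharP 2 𝐂[t] := fun t ht =>
    charP_of_core_layer (by rw [← cpc_eq]; exact hw.eq_bot hW ht) (hL t ht)
  by_contra hne
  push Not at hne
  have H : ∀ R : Subgroup G, IsPGroup 2 R → R ≠ ⊥ → ∃ t, ZI t ∧ 𝐍(R) ≤ 𝐂[t] := fun R hR h1 => by
    obtain ⟨M, hM, hRM⟩ := JC.exists_maxLocal (JC.twoLocal_norm hR h1)
    have hcyc : IsCyclic (pCoreOf 2 M ⊓ 𝐂(pCoreOf 2 M) : Subgroup G) := by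
      have := hne M hM
      rw [← Core.map_subtype_center]
      exact isCyclic_of_surjective _ ((centerCongr (equivMapOfInjective (pCore 2 M) _ M.subtype_injective)).trans
        (equivMapOfInjective _ _ (subtype_injective _))).surjective
    have hQ : pCoreOf 2 M ≠ ⊥ := by
      obtain ⟨P, a1, a2, rfl⟩ := hM.1
      exact fun e => a2 (eq_bot_iff.2 (e ▸ le_pCoreOf le_normalizer le_rfl a1))
    obtain ⟨t, t1, t2⟩ := exists_central_prime (op_isPGroup M) hQ
    have hMt : M ≤ 𝐂[t] := fun g hg => by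
      have : g * t * g⁻¹ = t := Invol.eq_of_isCyclic hcyc
        ((mem_normalizer_iff.1 (le_normalizer_inf (le_normalizer_pCoreOf M)
          ((le_normalizer_pCoreOf M).trans (normalizer_le_normalizer_centralizer _)) hg) t).1 t1) t1 (by rw [Invol.orderOf_conj, t2]) t2
      exact mem_centralizer_singleton_iff.2 (by rw [← mul_inv_eq_iff_eq_mul, this])
    have e : 𝐂[t] = M := le_antisymm ((JC.cent_le_norm_zpowers t).trans (JC.maxLocal_eq hM
      (Invol.isPGroup_zpowers_two t2) (by simpa using Invol.ne_one_of_two t2)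
      (hMt.trans (JC.cent_le_norm_zpowers t))).le) hMt
    refine ⟨t, ⟨t2, fun T hT u hu ho => Invol.eq_of_isCyclic hcyc ?_ t1 ho t2⟩, hRM.trans hMt⟩
    have c := hC t t2
    rw [e] at c hT
    have : u ∈ 𝐂(pCoreOf 2 M) := centralizer_le hT.op_le hu.2
    exact ⟨c ⟨hT.le hu.1, this⟩, this⟩
  have hS : (S : Subgroup G) ≠ ⊥ := fun e => ne_bot_of_card_ge hB.2 (eq_bot_iff.2 (e ▸ hBS))
  obtain ⟨t, ht, -⟩ := H S S.isPGroup' hS
  have := Block.z_star_center (Gold.core_of_simple hG) (u := t) ⟨ht.1, fun g hg =>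
    (ZI.eq H _ (Invol.isPGroup_zpowers_two ht.1) (by simpa using Invol.ne_one_of_two ht.1) _ _ (ht.conj g) ht
      (zpowers_le.2 (mem_centralizer_singleton_iff.2 hg.eq)) (zpowers_le.2 (mem_centralizer_singleton_iff.2 rfl)))⟩
  rw [Gold.center_of_simple hG] at this
  exact Invol.ne_one_of_two ht.1 this

end Cfsg.Agent.S3244
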