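import Cfsg.Statements.S3246
import Cfsg.Agent.Lib.Layer.Misc
import Cfsg.Agent.Lib.Layer.Signalizer

set_option autoImplicit false
open Cfsg

namespace Cfsg.Agent.S3246

open Subgroup Cfsg.Lib.Core Cfsg.Lib.Amalg Cfsg.Lib.BG1 Cfsg.Lib.Layer

/-- Let G be a finite group whose Sylow 2-subgroup S has a self-centralizing normal subgroup of rank at least 3. Suppose that either every maximal 2-local subgroup of G is 2-constrained with no nontrivial normal subgroup of odd order, or the centralizer of every involution of G is 2-constrained with no nontrivial normal subgroup of odd order. Then S normalizes no nontrivial subgroup of G of odd order and every 2-local subgroup of G is 2-constrained. -/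
theorem result {G : Type*} [Group G] [Finite G]
    (S : Sylow 2 G) (A : Subgroup G) (hA : Cfsg.IsSCN (S : Subgroup G) A) (hA3 : ¬ Cfsg.PRankLE 2 2 ↥A)
    (h : (∀ M : Subgroup G, Cfsg.IsMaximalTwoLocal M → Cfsg.IsPConstrained 2 ↥M ∧ Cfsg.oddCore ↥M = ⊥) ∨
      (∀ t : G, orderOf t = 2 → Cfsg.IsPConstrained 2 ↥(Subgroup.centralizer ({t} : Set G)) ∧
        Cfsg.oddCore ↥(Subgroup.centralizer ({t} : Set G)) = ⊥)) :
    (∀ X : Subgroup G, Odd (Nat.card ↥X) → (S : Subgroup G) ≤ Subgroup.normalizer (X : Set G) → X = ⊥) ∧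
      (∀ T : Subgroup G, IsPGroup 2 ↥T → T ≠ ⊥ → Cfsg.IsPConstrained 2 ↥(Subgroup.normalizer (T : Set G))) := by
  haveI : Fact (Nat.Prime 2) := ⟨Nat.prime_two⟩
  have key : ∀ T : Subgroup G, IsPGroup 2 T → T ≠ ⊥ → Lib.Amalg.CharP 2 𝐂(T) := fun T hT hT1 => by
    have aux : ∀ M, T ≤ M → 𝐂(T) ≤ M → IsPConstrained 2 M ∧ oddCore M = ⊥ → Lib.Amalg.CharP 2 𝐂(T) :=
      fun M h1 h2 h3 => inf_of_le_right h2 ▸ (charP_iff_constrained.2 h3).inf_cent hT h1
    rcases h with h | h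
    · obtain ⟨M, hle, hM⟩ := Finite.exists_le_maximal (p := IsTwoLocal) (⟨T, hT, hT1, rfl⟩ : IsTwoLocal 𝐍(T))
      exact aux M (le_normalizer.trans hle) ((centralizer_le_normalizer _).trans hle)
        (h M ⟨hM.1, fun M' a b => (hM.eq_of_le a b).symm⟩)
    · obtain ⟨x, hx, h1, h2⟩ := exists_central_orderOf hT le_rfl le_normalizer hT1
      exact aux _ h1 (centralizer_le (Set.singleton_subset_iff.2 hx)) (h x h2)
  refine ⟨fun X hX hn => ?_, fun T hT hT1 => (charP_iff_constrained.1 ((charP_norm_iff hT).2 (key T hT hT1))).1⟩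
  have hX2 : ¬ 2 ∣ Nat.card X := fun c => Nat.not_even_iff_odd.2 hX (even_iff_two_dvd.2 c)
  have hAc : IsMulCommutative A := le_centralizer_iff_isMulCommutative.1 (hA.2.2.ge.trans inf_le_right)
  obtain ⟨E, hE, he, hc⟩ := (not_pRankLE_iff Nat.prime_two).1 hA3
  have hΩ := isElementaryAbelian_omegaOne (p := 2) hAc
  obtain ⟨U, hU, hUn, hUc⟩ := exists_norm_le_card (k := 2) S.isPGroup' ((Lib.PGrp.omegaOne_le 2 A).trans hA.1)
    (le_norm_omegaOne 2 hA.2.1) (le_trans (by rw [hc]; norm_num) (card_le_of_le (Lib.PGrp.le_omegaOne_of_pow hE he.2)))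
  have hUe : IsElementaryAbelian 2 U := ⟨le_centralizer_iff_isMulCommutative.1
    (hU.trans ((le_centralizer_iff_isMulCommutative.2 hΩ.1).trans (centralizer_le hU))), fun a ha => hΩ.2 a (hU ha)⟩
  have hUS : U ≤ S := hU.trans ((Lib.PGrp.omegaOne_le 2 A).trans hA.1)
  refine le_bot_iff.1 (coprime_abelian_gen_cent1 (hUS.trans hn) (coprime_of_isPGroup_of_not_dvd Nat.prime_two
    (S.isPGroup'.to_le hUS) hX2) hUe.1 (not_isCyclic_of_elem hUe hUc.ge) fun a ha h1 => ?_)
  have hC := key (zpowers a) (S.isPGroup'.to_le (zpowers_le.2 (hUS ha))) (by simpa using h1)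
  rw [cent_zpowers] at hC
  have h0 : (S : Subgroup G) ⊓ 𝐂(U) ≤ 𝐂[a] := inf_le_right.trans (cent_le_cent1 ha)
  obtain ⟨T, hT, hT0⟩ := exists_syl_ge (S.isPGroup'.to_inf_left (K := 𝐂(U))) h0
  have hi : (𝐂(U)).relIndex S ≤ 2 := by
    obtain ⟨k, hk⟩ := IsPGroup.iff_card.1 S.isPGroup'
    obtain ⟨j, -, hj⟩ := (Nat.dvd_prime_pow Nat.prime_two).1 (hk ▸ relIndex_dvd_card (𝐂(U)) (S : Subgroup G))
    have := not_sq_dvd_relIndex_cent_abelem Nat.prime_two hUn hUe hUc.le
    rw [hj, Nat.pow_dvd_pow_iff_le_right one_lt_two] at this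
    rw [hj]
    exact (Nat.pow_le_pow_right two_pos (by omega : j ≤ 1))
  have hi2 : ((S : Subgroup G) ⊓ 𝐂(U)).relIndex T ≤ 2 := by
    have a1 := card_mul_relIndex hT0
    have a2 := card_inf_mul_relIndex (𝐂(U)) (S : Subgroup G)
    have a3 := (syl_top S).card_le hT.isPGroup le_top
    rw [inf_comm] at a2
    refine Nat.le_of_mul_le_mul_left (c := Nat.card ((S : Subgroup G) ⊓ 𝐂(U) : Subgroup G)) ?_ Nat.card_pos
    rw [a1]; exact a3.trans (a2 ▸ Nat.mul_le_mul_left _ hi)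
  have hQ := pgroup_pCoreOf Nat.prime_two 𝐂[a]
  have hY2 := not_dvd_card_of_le (inf_le_left : X ⊓ 𝐂[a] ≤ X) hX2
  have hYQ : X ⊓ 𝐂[a] ≤ 𝐍(𝐎[2](𝐂[a])) := inf_le_right.trans (le_norm_piCoreOf_self _ _)
  have hc1 : X ⊓ 𝐂[a] ≤ 𝐂(𝐎[2](𝐂[a]) ⊓ ((S : Subgroup G) ⊓ 𝐂(U))) := by
    rw [← commutator_eq_bot_iff_le_centralizer, eq_bot_iff, ← inf_eq_bot_of_isPGroup_of_not_dvd Nat.prime_two hQ hX2]
    exact le_inf ((commutator_mono le_rfl inf_le_left).trans (commutator_le_right_of_norm hYQ))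
      ((commutator_mono inf_le_left (inf_le_right.trans inf_le_left)).trans (commutator_le_left_of_norm hn))
  have hc2 := stable_factor_cent hYQ (coprime_of_isPGroup_of_not_dvd Nat.prime_two hQ hY2).symm
    (.inr (solvable_of_pgroup Nat.prime_two hQ)) inf_le_left (commutator_le_of_relIndex_le_two inf_le_left (by
      rw [inf_relIndex_left]
      exact (relIndex_le_of_le_right (pCoreOf_le_syl hT) relIndex_ne_zero').trans hi2) hYQ (le_norm_of_le_cent hc1)) hc1
  refine (hC.eq_bot (Nat.Coprime.symm ((Nat.Prime.coprime_iff_not_dvd Nat.prime_two).2 hY2)) inf_le_right ?_).le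
  rwa [← map_pCore_subtype Nat.prime_two] at hc2

end Cfsg.Agent.S3246
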