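import Cfsg.Statements.S3247
import Cfsg.Agent.Lib.Layer.Misc

set_option autoImplicit false
open Cfsg

namespace Cfsg.Agent.S3247

open Subgroup Cfsg.Lib.Core Cfsg.Lib.Amalg Cfsg.Lib.BG1 Cfsg.Lib.Layer

/-- Let G be a finite group and p a prime; here a p-local subgroup means the normalizer of a nontrivial p-subgroup, other than G itself. If every p-local subgroup of G that is maximal among p-local subgroups is p-constrained, or if the centralizer of every element of order p of G is p-constrained, then every p-local subgroup of G is p-constrained. -/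
theorem result {G : Type*} [Group G] [Finite G] (p : ℕ) [hp : Fact p.Prime]
    (h : (∀ M : Subgroup G, (∃ T : Subgroup G, IsPGroup p ↥T ∧ T ≠ ⊥ ∧ M = Subgroup.normalizer (T : Set G)) → M ≠ ⊤ →
        (∀ M' : Subgroup G, (∃ T' : Subgroup G, IsPGroup p ↥T' ∧ T' ≠ ⊥ ∧ M' = Subgroup.normalizer (T' : Set G)) → M' ≠ ⊤ → M ≤ M' → M = M') →
        Cfsg.IsPConstrained p ↥M) ∨
      (∀ x : G, orderOf x = p → Cfsg.IsPConstrained p ↥(Subgroup.centralizer ({x} : Set G))))
    (T : Subgroup G) (hT : IsPGroup p ↥T) (hT1 : T ≠ ⊥) (hTG : Subgroup.normalizer (T : Set G) ≠ ⊤) :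
    Cfsg.IsPConstrained p ↥(Subgroup.normalizer (T : Set G)) := by
  have key : ∀ M, T ≤ M → 𝐂(T) ≤ M → IsPConstrained p M → IsPConstrained p 𝐍(T) := fun M h1 h2 h3 => by
    have := pLayerOf_inf_cent_eq_bot (isPConstrained_iff'.1 h3) h1 hT
    rw [inf_of_le_right h2] at this
    exact isPConstrained_iff'.2 ((pLayerOf_normalizer_eq hT).trans this)
  rcases h with h | h
  · obtain ⟨M, hle, hM⟩ := Finite.exists_le_maximal (p := fun M : Subgroup G =>
      (∃ T : Subgroup G, IsPGroup p ↥T ∧ T ≠ ⊥ ∧ M = 𝐍(T)) ∧ M ≠ ⊤) ⟨⟨T, hT, hT1, rfl⟩, hTG⟩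
    exact key M (le_normalizer.trans hle) ((centralizer_le_normalizer _).trans hle)
      (h M hM.1.1 hM.1.2 fun M' a b c => hM.eq_of_le ⟨a, b⟩ c)
  · obtain ⟨x, hx, h1, h2⟩ := exists_central_orderOf hT le_rfl le_normalizer hT1
    exact key _ h1 (centralizer_le (Set.singleton_subset_iff.2 hx)) (h x h2)

end Cfsg.Agent.S3247
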