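import Cfsg.Statements.S3258
import Cfsg.Agent.Lib.SF.DPi
import Cfsg.Agent.Lib.SF.Cor
import Cfsg.Agent.S1169

set_option autoImplicit false
open Cfsg

namespace Cfsg.Agent.S3258

open Subgroup Cfsg.Lib Cfsg.Lib.Core Cfsg.Lib.Amalg Cfsg.Lib.Hall Cfsg.Lib.DPi Cfsg.Lib.Fus2 Cfsg.Lib.Linear

universe u

variable {π : Set ℕ}

/-- `π`-homogeneous, and every `π`-subgroup is 2-closed -/
structure Cl (π : Set ℕ) (G : Type*) [Group G] : Prop where
  two : 2 ∈ π
  hom : Hom π G
  cl : ∀ H T : Subgroup G, IsPiNumber π (Nat.card H) → Syl 2 T H → H ≤ 𝐍 T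

namespace Cl
variable {G : Type*} [Group G] [Finite G] (h : Cl π G)
include h

theorem sub (K : Subgroup G) : Cl π K := ⟨h.two, h.hom.sub K, fun H T h1 h2 x hx =>
  mem_normalizer_of_conj_mem fun y hy => by
    obtain ⟨z, hz, e⟩ := (mem_normalizer_iff.1 (h.cl _ _ (isPi_map h1 K.subtype) (h2.map K.subtype) ⟨x, hx, rfl⟩) y).1
      ⟨y, hy, rfl⟩
    exact (Subtype.ext e : z = x * y * x⁻¹) ▸ hz⟩

theorem map {G' : Type*} [Group G'] {f : G →* G'} (hf : Function.Surjective f) : Cl π G' :=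
  ⟨h.two, h.hom.map hf, fun H T h1 h2 => by
    have : Finite G' := Finite.of_surjective f hf
    obtain ⟨V, h3, rfl⟩ := exists_lift hf h1
    obtain ⟨U, hU⟩ := exists_syl 2 V
    have h4 := (map_mono (h.cl V U h3 hU)).trans (le_normalizer_map f)
    obtain ⟨g, g1, rfl⟩ := (hU.map f).exists_conj h2
    rwa [cj_of_mem_normalizer (h4 g1)]⟩

theorem inv {X : Type*} [Group X] (e : Involves X G) : Cl π X :=
  let ⟨K, _, hf⟩ := involves_iff.1 e
  (h.sub K).map hf

theorem solvable (h1 : IsPiNumber π (Nat.card G)) : Group.IsSolvable G := by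
  obtain ⟨S⟩ : Nonempty (Sylow 2 G) := inferInstance
  have : (S : Subgroup G).Normal := normalizer_eq_top_iff.1 (eq_top_iff.2 (h.cl ⊤ S (by rwa [card_top]) (syl_top S)))
  have := S.isPGroup'.isNilpotent
  have := FT.odd_order_solvable (G ⧸ (S : Subgroup G)) (Nat.odd_iff.2 (Nat.two_dvd_ne_zero.1 S.not_dvd_index))
  exact isSolvable_of_normal_of_quotient (S : Subgroup G)

theorem cent {s k : G} {P : Subgroup G} (hs : s * s = 1) (hk : (orderOf k).Prime) (h2 : orderOf k ≠ 2)
    (hi : s * k * s⁻¹ = k⁻¹) (hP : IsPiNumber π (Nat.card P)) (hn : k ∈ 𝐍 P) : k ∈ 𝐂 P := by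
  have h0 : ∀ ρ : Set ℕ, orderOf k ∈ ρ → IsPiNumber ρ (orderOf k) := fun ρ e p hp hd =>
    ((Nat.prime_dvd_prime_iff_eq hp hk).1 hd).symm ▸ e
  refine h.hom P k hP (h0 _ fun e => ?_) hn
  have h3 : IsPGroup 2 (zpowers s) := isPGroup_zpowers_of_pow (k := 1) (by rwa [pow_one, sq])
  obtain ⟨T, hT, h4⟩ := exists_syl_ge h3 (le_sup_right : _ ≤ zpowers k ⊔ zpowers s)
  have h5 := h.cl _ T (isPi_sup' (by rw [Nat.card_zpowers]; exact h0 _ e) (isPi_of_isPGroup Nat.prime_two h.two h3)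
    (zpowers_le.2 (mem_normalizer_of_cj_le (by rw [cj_zpowers, hi, zpowers_inv])))) hT (mem_sup_left (mem_zpowers k))
  have h6 : k * k ∈ T := by
    have := mul_mem ((mem_normalizer_iff.1 h5 s).1 (h4 (mem_zpowers s))) (inv_mem (h4 (mem_zpowers s)))
    rwa [mul_assoc, mul_assoc, ← mul_assoc s, ← conj_inv, hi, inv_inv] at this
  obtain ⟨n, h7⟩ := isPGroup_iff_mem.1 hT.isPGroup _ h6
  rw [← sq, ← pow_mul, ← pow_succ'] at h7
  exact h2 ((Nat.prime_dvd_prime_iff_eq hk Nat.prime_two).1 (hk.dvd_of_dvd_pow (orderOf_dvd_of_pow_eq_one h7)))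

theorem three (e : Involves (alternatingGroup (Fin 4)) G) : 3 ∈ π := by_contra fun h3 => by
  let P : Subgroup (alternatingGroup (Fin 4)) :=
    { carrier := {g | g * g = 1}
      one_mem' := mul_one _
      mul_mem' := fun {a b} => by revert a b; decide
      inv_mem' := fun {a} => by revert a; decide }
  let x : alternatingGroup (Fin 4) := ⟨Equiv.swap 0 1 * Equiv.swap 1 2, Equiv.Perm.mem_alternatingGroup.2 (by decide)⟩
  have := (h.inv e).hom P x (isPi_of_isPGroup Nat.prime_two h.two (isPGroup_iff_mem.2 fun g hg => ⟨1, by rwa [pow_one, sq]⟩))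
    (fun p hp hd => by
      rw [show orderOf x = 3 from orderOf_eq_prime (by decide) (by decide)] at hd
      exact (Nat.prime_dvd_prime_iff_eq hp Nat.prime_three).1 hd ▸ h3)
    (mem_normalizer_of_conj_mem fun g hg => show _ = 1 by rw [conj_mul, show g * g = 1 from hg, mul_one, mul_inv_cancel])
  exact absurd (mem_centralizer_iff.1 this ⟨Equiv.swap 0 1 * Equiv.swap 2 3, Equiv.Perm.mem_alternatingGroup.2 (by decide)⟩ (show _ = 1 by decide)) (by decide)

theorem not_S3 (h3 : 3 ∈ π) : ¬ Involves (Equiv.Perm (Fin 3)) G := fun e => by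
  have := (h.inv e).cent (s := Equiv.swap 0 1) (k := finRotate 3) (P := ⊤) (by decide)
    (by rw [show orderOf (finRotate 3) = 3 from orderOf_eq_prime (by decide) (by decide)]; exact Nat.prime_three)
    (by rw [show orderOf (finRotate 3) = 3 from orderOf_eq_prime (by decide) (by decide)]; decide) (by decide)
    (fun p hp hd => by
      rw [card_top, Nat.card_perm, Nat.card_fin, show Nat.factorial 3 = 2 * 3 from rfl] at hd
      rcases (Nat.Prime.dvd_mul hp).1 hd with e | e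
      · exact (Nat.prime_dvd_prime_iff_eq hp Nat.prime_two).1 e ▸ h.two
      · exact (Nat.prime_dvd_prime_iff_eq hp Nat.prime_three).1 e ▸ h3) (le_normalizer (mem_top _))
  exact absurd (mem_centralizer_iff.1 this (Equiv.swap 0 1) (mem_top _)) (by decide)

theorem not_S4 : ¬ Involves (Equiv.Perm (Fin 4)) G := fun e =>
  h.not_S3 (h.three (involves_trans (involves_subgroup _) e)) (SF.involves_S3_of_S4 e)

theorem not_pi [IsSimpleGroup G] (hc : ¬ IsMulCommutative G) : ¬ IsPiNumber π (Nat.card G) := fun e =>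
  not_isSolvable_of_simple hc (h.solvable e)

end Cl

theorem Cl.kSec {G : Type u} [Group G] [Finite G] (h : Cl π G) : SF.KSec G := fun K R _ h1 X _ _ hc hX => by
  have h2 := h.inv (Glaub.involves_section K R)
  have := finite_of_involves hX
  refine ((h2.inv hX).not_pi hc (IsPiNumber.of_dvd (fun p hp hd => by_contra fun e => ?_) (card_dvd_of_involves hX))).elim
  have := Fact.mk hp
  obtain ⟨x, hx⟩ := exists_prime_orderOf_dvd_card' p hd
  have h3 := charP_top.1 h1 (h2.hom _ x (isPi_of_isPGroup Nat.prime_two h.two (isPGroup_pCore 2 _))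
    (fun q hq h3 => (Nat.prime_dvd_prime_iff_eq hq hp).1 (hx ▸ h3) ▸ e) ((normalizer_eq_top _).ge (mem_top x)))
  obtain ⟨n, h4⟩ := isPGroup_iff_mem.1 (isPGroup_pCore 2 _) x h3
  exact e ((Nat.prime_dvd_prime_iff_eq hp Nat.prime_two).1 (hp.dvd_of_dvd_pow (hx ▸ orderOf_dvd_of_pow_eq_one h4)) ▸ h.two)

theorem psl_aux {F : Type*} [Field F] [Fintype F] (h : Cl π (PSL2 F)) {p r : ℕ} (hp : p.Prime) [_root_.CharP F p] (h1 : p ∈ π)
    (hr : r.Prime) (h2 : r ≠ 2) (hd : r ∣ Fintype.card F - 1) : False := by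
  classical
  have := Fact.mk hr
  obtain ⟨a, ha⟩ := exists_prime_orderOf_dvd_card (G := Fˣ) r (by rwa [Fintype.card_units])
  have a1 : (a : F) * a ≠ 1 := fun e => h2 ((Nat.prime_dvd_prime_iff_eq hr Nat.prime_two).1
    (ha ▸ orderOf_dvd_of_pow_eq_one (by rw [sq]; exact Units.ext e)))
  let u : Multiplicative F →* Known.SL2 F :=
    { toFun := fun b => slMat 1 b.toAdd 0 1 (by simp)
      map_one' := one_eq_slMat.symm
      map_mul' := fun b c => by rw [slMat_mul, slMat_inj]; simp [add_comm] }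
  let d : Fˣ →* Known.SL2 F :=
    { toFun := fun b => slMat b 0 0 b⁻¹ (by simp)
      map_one' := by rw [one_eq_slMat, slMat_inj]; simp
      map_mul' := fun b c => by rw [slMat_mul, slMat_inj]; simp [mul_comm] }
  let m := QuotientGroup.mk' (center (Known.SL2 F))
  have e : ∀ b : F, d a * u (.ofAdd b) * (d a)⁻¹ = u (.ofAdd (a * a * b)) := fun b => by
    rw [mul_inv_eq_iff_eq_mul]
    simp only [d, u, MonoidHom.coe_mk, OneHom.coe_mk, slMat_mul, slMat_inj]
    simp [mul_right_comm]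
  have o : orderOf (m (d a)) = r := orderOf_eq_prime (by rw [← map_pow, ← map_pow, ← ha, pow_orderOf_eq_one, map_one, map_one])
    fun e => a1 (by
      rcases psl2_mk_eq_one_iff.1 e with e | e
      · rw [show (a : F) = 1 by simpa [d] using congrArg (· 0 0) e, mul_one]
      · rw [show (a : F) = -1 by simpa [d] using congrArg (· 0 0) e, neg_one_mul, neg_neg])
  have := h.cent (s := m (slMat 0 1 (-1) 0 (by simp))) (k := m (d a)) (P := (m.comp u).range)
    (by rw [← map_mul]; exact psl2_mk_eq_one_iff.2 (Or.inr (sl2_mul_self_eq_neg_one_iff.2 (by simp [slMat]))))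
    (o ▸ hr) (o ▸ h2) (by
      rw [← map_inv, ← map_mul, ← map_mul, ← map_inv]
      congr 1
      simp only [d, MonoidHom.coe_mk, OneHom.coe_mk, slMat_inv, slMat_mul, slMat_inj]
      simp)
    (isPi_of_isPGroup hp h1 (isPGroup_iff_mem.2 fun _ ⟨b, hb⟩ => ⟨1, by
      rw [pow_one, ← hb, ← map_pow, show b ^ p = 1 from by
        rw [← ofAdd_toAdd b, ← ofAdd_nsmul, nsmul_eq_mul, CharP.cast_eq_zero, zero_mul, ofAdd_zero], map_one]⟩))
    (mem_normalizer_of_conj_mem fun _ ⟨b, hb⟩ => ⟨.ofAdd (a * a * b.toAdd), by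
      rw [← hb, MonoidHom.comp_apply, MonoidHom.comp_apply, ← e, map_mul, map_mul, map_inv]; rfl⟩)
  have := mem_centralizer_iff.1 this _ ⟨.ofAdd 1, rfl⟩
  rw [eq_comm, ← mul_inv_eq_iff_eq_mul, MonoidHom.comp_apply, ← map_inv, ← map_mul, ← map_mul, e] at this
  rcases psl2_mk_eq_mk_iff.1 this with e | e
  · exact a1 (by simpa [u, eq_comm] using congrArg (· 0 1) e)
  · have h3 : (1 : F) = -1 := by simpa [u] using congrArg (· 0 0) e
    have h4 : (1 : F) = -(a * a) := by simpa [u] using congrArg (· 0 1) e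
    exact a1 (by linear_combination h4 - h3)

theorem psl {F : Type*} [Field F] [Fintype F] (h : Cl π (PSL2 F)) (h4 : 4 ≤ Fintype.card F)
    (h1 : Fintype.card F % 8 = 3 ∨ Fintype.card F % 8 = 5 ∨ ∃ n, Fintype.card F = 2 ^ n) : False := by
  by_cases h2 : (2 : F) = 0
  · have : _root_.CharP F 2 := (CharP.charP_iff_prime_eq_zero Nat.prime_two).2 (by exact_mod_cast h2)
    obtain ⟨n, -, hn⟩ := FiniteField.card F 2
    obtain ⟨r, hr, hd⟩ := Nat.exists_prime_and_dvd (show Fintype.card F - 1 ≠ 1 by omega)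
    refine psl_aux h Nat.prime_two h.two hr (fun e => ?_) hd
    have : 2 ∣ Fintype.card F := hn ▸ dvd_pow_self 2 n.ne_zero
    subst e
    omega
  have h3 : 3 ∈ π := let ⟨H, ⟨e⟩⟩ := psl2_exists_A4 (Or.inl h2)
    h.three (involves_of_subgroup ((involves_congr_right e).2 (involves_refl _)))
  have h5 : (3 : F) = 0 := by_contra fun e => h.not_S3 h3 (SF.psl2_S3 e)
  have : _root_.CharP F 3 := (CharP.charP_iff_prime_eq_zero Nat.prime_three).2 (by exact_mod_cast h5)
  obtain ⟨n, hn⟩ := SF.card_of_three h5 (h1.imp_right fun e => e.resolve_right fun ⟨n, e⟩ => h2 (Coprime.two_eq_zero_of_card e))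
  have h7 : 3 ^ (2 * n + 1) % 4 = 3 := by rw [pow_succ, pow_mul, Nat.mul_mod, Nat.pow_mod]; simp
  rw [← hn] at h7
  clear hn
  obtain ⟨r, hr, hd⟩ := Nat.exists_prime_and_dvd (show (Fintype.card F - 1) / 2 ≠ 1 by omega)
  exact psl_aux h Nat.prime_three h3 hr (fun e => by subst e; omega) (hd.trans (Nat.div_dvd_of_dvd (by omega)))

theorem sep {G : Type u} [Group G] [Finite G] (h : Cl π G) : IsPiSeparable π G := by
  refine Coprime.of_simple_sections (P := fun X _ => ∀ [Finite X], IsPiSeparable π X)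
    (fun X _ _ _ => piSep_of_isSolvable _) (fun X _ _ N _ h1 h2 _ => piSep_of_normal_of_quotient N h1 h2) fun X _ _ _ hX _ => ?_
  have k := h.inv hX
  by_cases hc : IsMulCommutative X
  · have := Group.isSolvable_of_comm hc.is_comm.comm
    exact piSep_of_isSolvable _
  exfalso
  obtain ⟨S⟩ : Nonempty (Sylow 2 X) := inferInstance
  have hS := syl_top S
  have h1 := SF.closure_le_omZ_JH k.not_S4 k.kSec hS
  have h3 := h1.trans ((Amalg.omZ_le _).trans (SF.JH_le _))
  rcases Agent.S1169.result S _ (fun e => Amalg.omZ_ne_bot hS.isPGroup (SF.syl_ne_bot hc hS) (le_bot_iff.1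
    (e ▸ le_iSup_of_le 1 (cj_one _).ge))) (elemAb_of_le (isElemAb_omZ _) h1).1
    (SF.stronglyClosed_of_sf (SF.sf_closure k.not_S4 k.kSec hS) h3) with e | ⟨H, hH⟩
  · rcases Coprime.walter' hc S e with ⟨F, _, _, h4, h5, ⟨e⟩⟩ | ⟨t, K, -, -, -, -, -, F, _, _, h4, h5, ⟨e⟩⟩
    · exact psl (k.map (f := e.toMonoidHom) e.surjective) h4 h5
    · exact psl ((k.sub K).map (f := e.toMonoidHom) e.surjective) (by omega) (h4.imp_right Or.inl)
  obtain ⟨Q, t, r, hf, h2⟩ := BS.bro.simple hH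
  obtain ⟨x, x1, x2, x3⟩ := r.exists_K_prime h2
  obtain ⟨T, hT⟩ := r.sylow_eq hf h2
  obtain ⟨y, y1, y2⟩ := r.exists_two
  have := k.cent r.tt x3 (fun e => absurd (e ▸ r.odd_D x1) (by decide)) x2
    (isPi_of_isPGroup Nat.prime_two h.two (hT ▸ T.isPGroup')) (r.D_norm x1)
  exact Invol.ne_one_of_two y2 (r.K_fpf x1.1 x2 (fun e => x3.ne_one (by rw [e, orderOf_one])) y1
    (mem_centralizer_iff.1 this y y1).symm)

/-- Let π be a set of primes containing 2 and G a finite group all of whose π-subgroups (subgroups whose order is divisible only by primes in π) have a normal Sylow 2-subgroup. Then the π'-elements of G (elements whose order is divisible by no prime in π) form a subgroup if and only if N_G(H)/C_G(H) is a π-group for every nontrivial π-subgroup H of G. -/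
theorem result {G : Type*} [Group G] [Finite G] (π : Set ℕ) (h2 : 2 ∈ π)
    (hcl : ∀ H : Subgroup G, (∀ p : ℕ, p.Prime → p ∣ Nat.card ↥H → p ∈ π) → ∀ P : Sylow 2 ↥H, (P : Subgroup ↥H).Normal) :
    (∃ K : Subgroup G, ∀ x : G, x ∈ K ↔ ∀ p : ℕ, p.Prime → p ∣ orderOf x → p ∉ π) ↔
      (∀ H : Subgroup G, H ≠ ⊥ → (∀ p : ℕ, p.Prime → p ∣ Nat.card ↥H → p ∈ π) →
        ∀ p : ℕ, p.Prime → p ∣ (Subgroup.centralizer (H : Set G)).relIndex (Subgroup.normalizer (H : Set G)) → p ∈ π) := by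
  refine ⟨fun ⟨K, hK⟩ H _ hH p hp hd => ?_, fun h => (hom_of h).closed (sep ⟨h2, hom_of h, fun H T h1 h3 => ?_⟩)⟩
  · obtain ⟨hn, h1, h3⟩ := Agent.S4050.closed_aux (π := πᶜ) hK
    have h4 : K ⊓ normalizer (H : Set G) ≤ centralizer (H : Set G) := by
      rw [← commutator_eq_bot_iff_le_centralizer, eq_bot_iff, ← inf_eq_bot_of_isPi_of_isPi_compl hH h1]
      refine le_inf ?_ ((commutator_mono inf_le_left le_top).trans (commutator_le_left _ _))
      rw [commutator_comm]
      exact Coprime.commutator_le_of_le_normalizer inf_le_right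
    refine not_not.1 (h3 p hp (hd.trans ((relIndex_dvd_of_le_left _ h4).trans ?_)))
    rw [inf_relIndex_right]
    exact relIndex_dvd_index_of_normal _ _
  · exact (normal_subgroupOf_iff_le_normalizer h3.le).1 (hcl H h1 h3.toSylow)

end Cfsg.Agent.S3258
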