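import Cfsg.Statements.S3260
import Cfsg.Agent.Lib.Glaub.QC2
import Cfsg.Agent.Lib.Core.UpperP

set_option autoImplicit false
open Cfsg

namespace Cfsg.Agent.S3260

open Subgroup Cfsg.Lib Cfsg.Lib.Amalg Cfsg.Lib.Fus2 Cfsg.Lib.Glaub

/-- Let p ≥ 5 be a prime, G a finite p-constrained group with Sylow p-subgroup S, and A a group of automorphisms of G of order coprime to |G| whose fixed-point subgroup has no section isomorphic to PSL₂(p). Then G = O_{p'}(G) · N_G(Z(J(S))), where J(S) is the subgroup generated by the abelian subgroups of S of largest order. -/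
theorem result {G : Type*} [Group G] [Finite G] (p : ℕ) [hp : Fact p.Prime] (hp5 : 5 ≤ p)
    (hG : Cfsg.IsPConstrained p G) (S : Sylow p G) (A : Subgroup (MulAut G)) (hA : (Nat.card ↥A).Coprime (Nat.card G))
    (C : Subgroup G) (hC : ∀ g : G, g ∈ C ↔ ∀ a ∈ A, a g = g)
    {F : Type*} [Field F] [Fintype F] (hF : Fintype.card F = p)
    (hfix : ¬ Cfsg.Involves (Matrix.ProjectiveSpecialLinearGroup (Fin 2) F) ↥C) :
    Cfsg.pPrimeCore p G ⊔ Subgroup.normalizer (Cfsg.centerThompsonAOf (S : Subgroup G) : Set G) = ⊤ := by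
  by_cases hd : p ∣ Nat.card G
  swap
  · rw [Core.pPrimeCore_eq_top_iff.2 ((Nat.Prime.coprime_iff_not_dvd hp.out).2 hd).symm, top_sup_eq]
  have := Coprime.finite_semidirect A.subtype
  have amb := Coprime.isAmbient_semidirect A.subtype
  set i := (SemidirectProduct.inl : G →* G ⋊[A.subtype] A)
  set j := (SemidirectProduct.inr : A →* G ⋊[A.subtype] A)
  have hs : (⊤ : Subgroup G).map i ⊔ (⊤ : Subgroup A).map j = ⊤ := by
    simpa only [← MonoidHom.range_eq_map] using (Coprime.isComplement'_semidirect A.subtype).sup_eq_top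
  have nrm : ∀ K : Subgroup G, K.Characteristic → (K.map i).Normal := fun K hK => normal_of_top_le_normalizer (hs.ge.trans (sup_le
    ((map_mono le_normalizer_of_normal).trans (le_normalizer_map _)) (amb.le_normalizer_iff.2 fun b _ x hx =>
      (characteristic_iff_le_comap.1 hK b.1 hx))))
  have n1 := nrm _ (Core.pPrimeCore_characteristic p G)
  have n2 := nrm ⊤ inferInstance
  let f := QuotientGroup.mk' ((pPrimeCore p G).map i)
  have hf := QuotientGroup.mk'_surjective ((pPrimeCore p G).map i)
  let g : G ⧸ pPrimeCore p G →* _ := QuotientGroup.map _ _ i (le_comap_map _ _)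
  have hg : Function.Injective g := (injective_iff_map_eq_one _).2 fun x hx => by
    obtain ⟨x, rfl⟩ := QuotientGroup.mk_surjective x
    exact (QuotientGroup.eq_one_iff _).2 (amb.mem_map.1 ((QuotientGroup.eq_one_iff (i x)).1 hx))
  have e : ∀ K : Subgroup G, (K.map i).map f = (K.map (QuotientGroup.mk' _)).map g := fun K => by
    rw [Subgroup.map_map, Subgroup.map_map]; rfl
  have hc := amb.coprime_top (B := ⊤) (by rwa [card_top])
  have hk := Coprime.coprime_card_of_le hc le_rfl (inf_le_left : _ ⊓ f.ker ≤ _)
  have n3 := n2.map f hf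
  have hcp : Amalg.CharP p (((⊤ : Subgroup G).map i).map f) := by
    rw [e, map_top_of_surjective _ (QuotientGroup.mk'_surjective _), Amalg.CharP, ← map_op_of_injective hg, Amalg.op_top]
    rintro _ ⟨⟨x, -, rfl⟩, hx⟩
    exact mem_map_of_mem g (Core.isPConstrained_iff.1 hG fun y hy => hg (by simpa using hx _ (mem_map_of_mem g hy)))
  have := zj_coprime (H := ((⊤ : Subgroup G).map i).map f) (A := ((⊤ : Subgroup A).map j).map f) (S := ((S : Subgroup G).map i).map f) hp5
    (ZMod.ringEquivOfPrime F hp.out hF) (by rw [← Subgroup.map_sup, hs, map_top_of_surjective _ hf])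
    ((hc.coprime_dvd_left (card_map_dvd _ _)).coprime_dvd_right (card_map_dvd _ _))
    ((hc.coprime_dvd_left (card_map_dvd _ _)).coprime_dvd_right (by rwa [amb.card_map_i, card_top])) hcp
    (((syl_top S).map i).map f) fun h => hfix (by
    rw [← Coprime.map_inf_centralizer f le_normalizer_of_normal hk (FT.solvable_or_of_coprime _ _ hk), ← amb.map_actFix,
      show Coprime.actFix A.subtype ⊤ = C from Subgroup.ext fun x => by simp [Coprime.mem_actFix, hC]] at h
    exact involves_trans h (involves_trans (involves_map _ _) (involves_map _ _)))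
  · rw [e, ← map_zj hg, ← map_zj_pq S.isPGroup'] at this
    have h2 : ⊤ ≤ 𝐍 ((centerThompsonOf 0 (S : Subgroup G)).map (QuotientGroup.mk' (pPrimeCore p G))) := fun x _ => by
      have := (comap_normalizer_eq_of_le_range (map_le_range g _)).le (this (mem_top (g x)))
      rwa [comap_map_eq_self_of_injective hg] at this
    rw [← map_norm_pq (S.isPGroup'.to_le zj_le)] at h2
    rw [centerThompsonAOf_eq, eq_top_iff, ← QuotientGroup.comap_map_mk']
    exact fun x _ => h2 trivial

end Cfsg.Agent.S3260
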