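import Cfsg.Statements.S3265
import Cfsg.Agent.S2276
import Cfsg.Agent.S2493

set_option autoImplicit false
open Cfsg

namespace Cfsg.Agent.S3265

open Equiv Equiv.Perm Finset MulAction S2493

section
set_option linter.unusedSectionVars false
variable {α : Type*} [Fintype α] [DecidableEq α]

/-- the shape of the orbits of two involutions -/
def K (w z : Perm α) (S : Finset α) : Prop := ∀ T : Finset α, T.Nonempty → T ⊆ S → (∀ a ∈ T, w a ∈ T) →
  (∀ a ∈ T, z a ∈ T) → ((∃ p ∈ T, w p = p) ∧ ∃ q ∈ T, z q = q) ∨ (T = S ∧ w.support = S)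

theorem contract {x : Perm α} (hx : x ^ 2 = 1) {u v : α} (h1 : u ≠ v) (h2 : x u ≠ v) (h3 : x u ≠ u ∨ x v ≠ v) :
    ∃ x' : Perm α, x' ^ 2 = 1 ∧ x' u = u ∧ x' v = v ∧ x'.support.card + 2 = x.support.card ∧
      ∀ a, a ≠ u → a ≠ v → (a ≠ x u ∧ a ≠ x v ∧ x' a = x a) ∨ (a = x u ∧ x v ≠ v ∧ x' a = x v) ∨
        (a = x v ∧ x u ≠ u ∧ x' a = x u) ∨ (a = x v ∧ x u = u ∧ x' a = a) ∨ (a = x u ∧ x v = v ∧ x' a = a) := by
  have i := inv_inv' hx
  wlog h : x v ≠ v generalizing u v
  · obtain ⟨x', a, b, c, d, e⟩ := this h1.symm (by grind) h3.symm (by grind)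
    exact ⟨x', a, c, b, d, fun a f g => by have := e a g f; grind⟩
  have e : (swap u (x v) * x * (swap u (x v))⁻¹) u = v := by
    simp only [swap_inv, Perm.mul_apply, swap_apply_def]; grind
  obtain ⟨-, b, c, -⟩ := split (s := swap u (x v) * x * (swap u (x v))⁻¹) (x := u) (by rw [conj_pow, hx]; simp)
    (by rw [e]; exact h1.symm)
  rw [e] at b c
  refine ⟨_, b, ?_, ?_, c.trans card_support_conj, fun a _ _ => ?_⟩ <;>
    simp only [swap_inv, Perm.mul_apply, swap_apply_def] <;> grind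

theorem step {x : Perm α} (hx : x ^ 2 = 1) {S : Finset α} (hS : x.support ⊆ S) {u v : α} (hu : u ∈ S) (hv : v ∈ S)
    (h1 : u ≠ v) (h2 : x u ≠ v) (h3 : x u ≠ u ∨ x v ≠ v) :
    ∃ x' : Perm α, x' ^ 2 = 1 ∧ x'.support ⊆ S \ {u, v} ∧ x'.support.card + 2 = x.support.card ∧
      ∀ z : Perm α, z.support ⊆ S \ {u, v} → K x' z (S \ {u, v}) → K x (swap u v * z) S := by
  obtain ⟨x', a, b, c, d, e⟩ := contract hx h1 h2 h3
  have i := inv_inv' hx
  have hS' : ∀ a, x a ≠ a → a ∈ S := fun a h => hS (mem_support.2 h)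
  refine ⟨x', a, fun y hy => ?_, d, fun z hz k T T1 T2 T3 T4 => ?_⟩
  · rw [mem_support] at hy
    have yu : y ≠ u := by grind
    have yv : y ≠ v := by grind
    refine mem_sdiff.2 ⟨hS' y ?_, by simp [yu, yv]⟩
    rcases e y yu yv with h | h | h | h | h <;> grind
  have zu : z u = u := notMem_support.1 fun h => by simpa using hz h
  have zv : z v = v := notMem_support.1 fun h => by simpa using hz h
  have zi := z.injective
  have uv : u ∈ T ↔ v ∈ T := ⟨fun h => by simpa [zu] using T4 u h, fun h => by simpa [zv] using T4 v h⟩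
  have T3' : ∀ a, x a ∈ T → a ∈ T := fun a h => i a ▸ T3 _ h
  have zz : ∀ a, a ≠ u → a ≠ v → (swap u v * z) a = z a := fun a f g =>
    swap_apply_of_ne_of_ne (by grind) (by grind)
  rcases k (T \ {u, v}) (by
      obtain ⟨t, ht⟩ := T1
      by_cases h : u ∈ T
      · rcases h3 with h3 | h3
        · exact ⟨x u, by simp only [mem_sdiff, mem_insert, mem_singleton]; grind⟩
        · exact ⟨x v, by simp only [mem_sdiff, mem_insert, mem_singleton]; grind⟩
      · exact ⟨t, by simp only [mem_sdiff, mem_insert, mem_singleton]; grind⟩)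
    (sdiff_subset_sdiff T2 Subset.rfl) (fun a ha => by
      have := e a
      simp only [mem_sdiff, mem_insert, mem_singleton] at ha ⊢; grind) (fun a ha => by
      have := T4 a
      have := zz a
      simp only [mem_sdiff, mem_insert, mem_singleton] at ha ⊢; grind) with ⟨⟨p, p1, p2⟩, q, q1, q2⟩ | ⟨f, g⟩
  · simp only [mem_sdiff, mem_insert, mem_singleton, not_or] at p1 q1
    refine .inl ⟨?_, q, q1.1, (zz q q1.2.1 q1.2.2).trans q2⟩
    have := e p p1.2.1 p1.2.2
    by_cases h : x p = p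
    · exact ⟨p, p1.1, h⟩
    by_cases h' : x u = u
    · exact ⟨u, by grind, h'⟩
    · exact ⟨v, by grind, by grind⟩
  · have uv' : ({u, v} : Finset α) ⊆ S := by simp [insert_subset_iff, hu, hv]
    have cd := card_sdiff_add_card_eq_card uv'
    rw [card_pair h1, ← g, d] at cd
    have f' : ∀ a ∈ S, a ≠ u → a ≠ v → a ∈ T := fun a f1 f2 f3 =>
      (mem_sdiff.1 (f.ge (by simp [f1, f2, f3]))).1
    have : u ∈ T := by grind
    exact .inr ⟨Subset.antisymm T2 fun a ha => by grind, eq_of_subset_of_card_le hS cd.ge⟩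

theorem ext_z {z : Perm α} (hz : z ^ 2 = 1) {S : Finset α} {u v : α} (hu : u ∈ S) (hv : v ∈ S) (h1 : u ≠ v)
    (h : z.support ⊆ S \ {u, v}) : (swap u v * z) ^ 2 = 1 ∧ (swap u v * z).support ⊆ S ∧
      (swap u v * z).support.card = z.support.card + 2 ∧ Commute (swap u v) z := by
  have dj : Perm.Disjoint (swap u v) z := disjoint_iff_disjoint_support.2 (by
    rw [support_swap h1]; exact (subset_sdiff.1 h).2.symm)
  refine ⟨by rw [dj.commute.mul_pow, hz, sq, swap_mul_self, one_mul], ?_, ?_, dj.commute⟩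
  · rw [dj.support_mul, support_swap h1]
    exact union_subset (by simp [insert_subset_iff, hu, hv]) (subset_sdiff.1 h).1
  · rw [dj.card_support_mul, card_support_swap h1, add_comm]

theorem exists_K (n : ℕ) : ∀ (S : Finset α) (x y : Perm α), x ^ 2 = 1 → y ^ 2 = 1 → x.support ⊆ S →
    y.support ⊆ S → x.support.card = n → y.support.card = n →
    ∃ z : Perm α, z ^ 2 = 1 ∧ z.support ⊆ S ∧ z.support.card = n ∧ K x z S ∧ K y z S := by
  induction n using Nat.strong_induction_on with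
  | _ n ih =>
  intro S x y hx hy xS yS xn yn
  rcases Nat.eq_zero_or_pos n with rfl | hn
  · rw [card_support_eq_zero.1 xn, card_support_eq_zero.1 yn]
    have : K 1 1 S := fun T ⟨t, ht⟩ _ _ _ => .inl ⟨⟨t, ht, rfl⟩, t, ht, rfl⟩
    exact ⟨1, by simp, by simp, by simp, this, this⟩
  have ix := inv_inv' hx
  have iy := inv_inv' hy
  have xS' : ∀ a, x a ≠ a → a ∈ S := fun a h => xS (mem_support.2 h)
  have yS' : ∀ a, y a ≠ a → a ∈ S := fun a h => yS (mem_support.2 h)
  obtain ⟨a, ha⟩ := card_pos.1 (xn ▸ hn)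
  obtain ⟨b, hb⟩ := card_pos.1 (yn ▸ hn)
  rw [mem_support] at ha hb
  by_cases h2 : S = {a, x a}
  · have e : ∀ c ∈ S, c = a ∨ c = x a := fun c hc => by simpa [h2] using hc
    obtain rfl : y = x := Equiv.ext fun c => by
      have := e b; have := e (y b); have := e c; have := e (x c); have := e (y c)
      grind
    have : K y y S := fun T ⟨t, ht⟩ T2 T3 _ => .inr ⟨Subset.antisymm T2 fun c hc => by
      have := e c hc; have := e t (T2 ht); have := T3 t ht; grind,
      Subset.antisymm xS fun c hc => mem_support.2 (by have := e c hc; grind)⟩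
    exact ⟨y, hx, xS, xn, this, this⟩
  obtain ⟨u, v, hu, hv, h1, h2, h3, h4, h5⟩ : ∃ u v, u ∈ S ∧ v ∈ S ∧ u ≠ v ∧ x u ≠ v ∧ (x u ≠ u ∨ x v ≠ v) ∧
      y u ≠ v ∧ (y u ≠ u ∨ y v ≠ v) := by
    by_cases h : ∃ c, x c ≠ c ∧ y c ≠ c
    · obtain ⟨c, h, h'⟩ := h
      by_cases e : x c = y c
      · obtain ⟨v, hv, hv'⟩ := not_subset.1 fun f : S ⊆ {c, x c} => h2 (Subset.antisymm (fun d hd => by
          have := f hd; have := f (xS' a ha); simp only [mem_insert, mem_singleton] at *; grind)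
          (by simp only [insert_subset_iff, singleton_subset_iff]; grind))
        exact ⟨c, v, by simp only [mem_insert, mem_singleton] at hv'; grind⟩
      · exact ⟨x c, y c, by grind⟩
    · exact ⟨a, b, by grind⟩
  obtain ⟨x', a1, a2, a3, a4⟩ := step hx xS hu hv h1 h2 h3
  obtain ⟨y', b1, b2, b3, b4⟩ := step hy yS hu hv h1 h4 h5
  obtain ⟨z, c1, c2, c3, c4, c5⟩ := ih (n - 2) (by omega) _ x' y' a1 b1 a2 b2 (by omega) (by omega)
  obtain ⟨d1, d2, d3, -⟩ := ext_z c1 hu hv h1 c2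
  exact ⟨_, d1, d2, by omega, a4 z c2 c4, b4 z c2 c5⟩

theorem mem_cyc_z {g : Perm α} {x y : α} : y ∈ S2276.cyc g x ↔ ∃ i : ℤ, (g ^ i) x = y := by
  rw [S2276.mem_cyc]
  refine ⟨fun ⟨i, h⟩ => ⟨i, by simpa using h⟩, fun ⟨i, h⟩ => ?_⟩
  obtain ⟨n, hn⟩ := mem_powers_iff_mem_zpowers.2 (Subgroup.zpow_mem_zpowers g i)
  exact ⟨n, by rw [show g ^ n = g ^ i from hn, h]⟩

theorem odd_of_K {x z : Perm α} (hx : x ^ 2 = 1) (hz : z ^ 2 = 1) {S : Finset α} (xS : x.support ⊆ S)
    (zS : z.support ⊆ S) (hc : x.support.card = z.support.card) (k : K x z S)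
    (h4 : ¬ (x.support = S ∧ 4 ∣ S.card)) : Odd (orderOf (x * z)) := by
  obtain ⟨g, hg⟩ : ∃ g, g = x * z := ⟨_, rfl⟩
  have ix := inv_inv' hx
  have e1 : ∀ a, z a = x (g a) := fun a => by rw [hg, Perm.mul_apply, ix]
  have e2 : ∀ (i : ℤ) a, x ((g ^ i) a) = (g ^ (-i)) (x a) := fun i a => by
    have : x * g * x⁻¹ = g⁻¹ := by
      rw [hg, ← mul_assoc, ← sq, hx, one_mul, mul_inv_rev, inv_eq_of_mul_eq_one_right ((sq z).symm.trans hz)]
    rw [zpow_neg, ← inv_zpow, ← this, conj_zpow]; simp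
  have e3 : ∀ (i j : ℤ) a, (g ^ i) ((g ^ j) a) = (g ^ (i + j)) a := fun i j a => by rw [zpow_add, Perm.mul_apply]
  have e4 : ∀ (i : ℤ) a, z ((g ^ i) a) = x ((g ^ (1 + i)) a) := fun i a => by rw [e1, ← e3, zpow_one]
  have e5 : ∀ (i : ℤ) a, z (x ((g ^ i) a)) = (g ^ (-1 + i)) a := fun i a => by
    rw [e1, ← zpow_one g, e2, ix, zpow_one, e3]
  rw [← hg]
  suffices ∀ a : α, Odd (period g a) by
    refine Odd.of_dvd_nat (Finset.prod_induction (period g) Odd (fun _ _ => Odd.mul) odd_one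
      fun a (_ : a ∈ univ) => this a) (orderOf_dvd_of_pow_eq_one (Equiv.ext fun a => ?_))
    exact (pow_smul_eq_iff_period_dvd (m := g) (a := a)).2 (dvd_prod_of_mem _ (mem_univ a))
  intro a
  have inv : ∀ {w : Perm α}, w.support ⊆ S → ∀ b ∈ S, w b ∈ S := fun {w} h b hb => by
    by_cases e : w b = b
    · rwa [e]
    · exact h (apply_mem_support.2 (mem_support.2 e))
  by_cases ha : a ∈ S
  swap
  · rw [period_eq_one_iff.2 (show g a = a by
      rw [hg, Perm.mul_apply, notMem_support.1 fun h => ha (zS h), notMem_support.1 fun h => ha (xS h)])]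
    exact odd_one
  have m : ∀ b, b ∈ S2276.cyc g a ∪ (S2276.cyc g a).image x ↔ ∃ i : ℤ, (g ^ i) a = b ∨ x ((g ^ i) a) = b := fun b => by
    simp [mem_cyc_z, exists_or]
  have cS : S2276.cyc g a ⊆ S := fun b hb => by
    obtain ⟨i, rfl⟩ := S2276.mem_cyc.1 hb
    clear hb
    induction i with
    | zero => exact ha
    | succ i ih => rw [pow_succ', Perm.mul_apply, hg]; exact inv xS _ (inv zS _ (hg ▸ ih))
  rcases k (S2276.cyc g a ∪ (S2276.cyc g a).image x) ⟨a, (m a).2 ⟨0, .inl rfl⟩⟩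
    (union_subset cS (image_subset_iff.2 fun b hb => inv xS b (cS hb))) (fun b hb => by
      obtain ⟨i, rfl | rfl⟩ := (m b).1 hb
      exacts [(m _).2 ⟨i, .inr rfl⟩, (m _).2 ⟨i, .inl (ix _).symm⟩]) (fun b hb => by
      obtain ⟨i, rfl | rfl⟩ := (m b).1 hb
      exacts [(m _).2 ⟨_, .inr (e4 _ _).symm⟩, (m _).2 ⟨_, .inl (e5 _ _).symm⟩]) with
    ⟨⟨p, p1, p2⟩, q, q1, q2⟩ | ⟨f, f'⟩
  · obtain ⟨j, rfl⟩ : ∃ j : ℤ, (g ^ j) a = p := by
      obtain ⟨i, h | h⟩ := (m p).1 p1
      exacts [⟨i, h⟩, ⟨i, x.injective (h.trans p2.symm)⟩]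
    obtain ⟨k, rfl⟩ : ∃ k : ℤ, (g ^ k) a = q := by
      obtain ⟨i, h | h⟩ := (m q).1 q1
      exacts [⟨i, h⟩, ⟨_, by rw [← e5, h, q2]⟩]
    rw [e4, show 1 + k = 1 + k - j + j by ring, ← e3, e2, p2, e3] at q2
    have := congrArg (g ^ (-k)) q2
    rw [e3, e3, neg_add_cancel] at this
    obtain ⟨l, hl⟩ := (zpow_smul_eq_iff_period_dvd (g := g) (a := a)).1 this
    exact Nat.not_even_iff_odd.1 fun ⟨r, h⟩ => by
      rw [h, ← two_mul, Nat.cast_mul, mul_assoc] at hl; omega
  · have f'' : z.support = S := eq_of_subset_of_card_le zS (by rw [← f', hc])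
    have dj : Disjoint (S2276.cyc g a) ((S2276.cyc g a).image x) := disjoint_left.2 fun b h1 h2 => by
      obtain ⟨i, rfl⟩ := mem_cyc_z.1 h1
      obtain ⟨c, h3, h2⟩ := mem_image.1 h2
      obtain ⟨j, rfl⟩ := mem_cyc_z.1 h3
      have key : ∀ l : ℤ, x ((g ^ l) a) = (g ^ (i + j - l)) a := fun l => by
        rw [show l = l - j + j by ring, ← e3, e2, h2, e3]; congr 2; ring
      have mv : ∀ {w : Perm α}, w.support = S → ∀ l : ℤ, w ((g ^ l) a) ≠ (g ^ l) a := fun h l =>
        mem_support.1 (h.ge (cS (mem_cyc_z.2 ⟨l, rfl⟩)))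
      rcases Int.even_or_odd' (i + j) with ⟨l, h | h⟩
      · exact mv f' l (by rw [key, h]; congr 2; ring)
      · exact mv f'' l (by rw [e4, key, h]; congr 2; ring)
    have := congrArg card f
    rw [card_union_of_disjoint dj, card_image_of_injective _ x.injective, S2276.card_cyc] at this
    exact Nat.not_even_iff_odd.1 fun ⟨l, h⟩ => h4 ⟨f', l, by omega⟩

set_option maxHeartbeats 800000 in
theorem exists_z (h5 : 5 ≤ Fintype.card α) {x y : Perm α} (hx : x ^ 2 = 1) (hy : y ^ 2 = 1)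
    (hc : x.support.card = y.support.card) : ∃ z : Perm α, z ^ 2 = 1 ∧ z.support.card = x.support.card ∧
      Odd (orderOf (x * z)) ∧ Odd (orderOf (y * z)) := by
  by_cases h : x.support = univ ∧ 4 ∣ Fintype.card α
  swap
  · obtain ⟨z, a, b, c, d, e⟩ := exists_K _ univ x y hx hy (subset_univ _) (subset_univ _) rfl hc.symm
    exact ⟨z, a, c, odd_of_K hx a (subset_univ _) b c.symm d h, odd_of_K hy a (subset_univ _) b (hc.symm.trans c.symm) e
      fun f => h ⟨eq_univ_of_card _ (by rw [hc, f.1, card_univ]), f.2⟩⟩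
  obtain ⟨h1, h4⟩ := h
  have h2 : y.support = univ := eq_univ_of_card _ (by rw [← hc, h1, card_univ])
  have fx : ∀ a, x a ≠ a := fun a => mem_support.1 (h1.ge (mem_univ a))
  have fy : ∀ a, y a ≠ a := fun a => mem_support.1 (h2.ge (mem_univ a))
  have ix := inv_inv' hx
  have iy := inv_inv' hy
  have sp : ∀ {x : Perm α}, x ^ 2 = 1 → ∀ a, (swap a (x a) * x).support ⊆ univ \ {a, x a} := fun {x} h a b hb => by
    have := inv_inv' h
    rw [mem_support] at hb
    simp only [Perm.mul_apply, swap_apply_def] at hb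
    simp only [mem_sdiff, mem_insert, mem_singleton, mem_univ]; grind
  have fin : ∀ {x z : Perm α} (a : α), x ^ 2 = 1 → x.support = univ → z ^ 2 = 1 → z.support ⊆ univ \ {a, x a} →
      z.support.card + 2 = Fintype.card α → K (swap a (x a) * x) z (univ \ {a, x a}) →
      Odd (orderOf (x * (swap a (x a) * z))) := fun {x z} a hx h1 hz zS zc k => by
    have ha := mem_support.1 (h1.ge (mem_univ a))
    obtain ⟨c1, c2, c3, -⟩ := split hx ha
    rw [h1, card_univ] at c3
    have := odd_of_K c2 hz (sp hx a) zS (by omega) k fun f => by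
      have := f.2; rw [← f.1] at this; omega
    have e : Commute (swap a (x a)) x := by simpa [← mul_assoc] using (Commute.refl _).mul_right c1.commute
    rwa [e.eq, mul_assoc] at this
  rw [h1, card_univ] at hc ⊢
  by_cases h : ∃ a, x a = y a
  · obtain ⟨a, h⟩ := h
    obtain ⟨-, c2, c3, -⟩ := split hx (fx a)
    obtain ⟨-, d2, d3, -⟩ := split hy (fy a)
    rw [h1, card_univ] at c3
    obtain ⟨z, a1, a2, a3, a4, a5⟩ := exists_K _ _ _ _ c2 d2 (sp hx a) (by rw [h]; exact sp hy a) rfl (by omega)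
    obtain ⟨b1, -, b3, -⟩ := ext_z a1 (mem_univ _) (mem_univ _) (fx a).symm a2
    refine ⟨_, b1, by omega, fin a hx h1 a1 a2 (by omega) a4, ?_⟩
    rw [h] at a2 a5 ⊢
    exact fin a hy h2 a1 a2 (by omega) a5
  simp only [not_exists] at h
  obtain ⟨a⟩ := Fintype.card_pos_iff.1 (show 0 < Fintype.card α by omega)
  obtain ⟨c, hc'⟩ := card_pos.1 (show 0 < ({a, x a, y a, y (x a)} : Finset α)ᶜ.card by
    have := card_le_four (a := a) (b := x a) (c := y a) (d := y (x a))
    rw [card_compl]; omega)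
  simp only [mem_compl, mem_insert, mem_singleton, not_or] at hc'
  obtain ⟨-, c2, c3, -⟩ := split hx (fx a)
  obtain ⟨-, d2, d3, -⟩ := split hy (fy c)
  rw [h1, card_univ] at c3
  have m1 : c ∈ univ \ {a, x a} := by simp only [mem_sdiff, mem_insert, mem_singleton, mem_univ]; grind
  have m2 : y c ∈ univ \ {a, x a} := by simp only [mem_sdiff, mem_insert, mem_singleton, mem_univ]; grind
  have m3 : a ∈ univ \ {c, y c} := by simp only [mem_sdiff, mem_insert, mem_singleton, mem_univ]; grind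
  have m4 : x a ∈ univ \ {c, y c} := by simp only [mem_sdiff, mem_insert, mem_singleton, mem_univ]; grind
  obtain ⟨x', a1, a2, a3, a4⟩ := step c2 (sp hx a) m1 m2 (fy c).symm
    (by simp only [Perm.mul_apply, swap_apply_def]; grind) (.inl (by simp only [Perm.mul_apply, swap_apply_def]; grind))
  obtain ⟨y', b1, b2, b3, b4⟩ := step d2 (sp hy c) m3 m4 (fx a).symm
    (by simp only [Perm.mul_apply, swap_apply_def]; grind) (.inl (by simp only [Perm.mul_apply, swap_apply_def]; grind))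
  have e : (univ \ {c, y c}) \ {a, x a} = (univ \ {a, x a}) \ {c, y c} := sdiff_right_comm _ _ _
  obtain ⟨z, e1, e2, e3, e4, e5⟩ := exists_K _ _ _ _ a1 b1 a2 (b2.trans e.le) rfl (by omega)
  obtain ⟨f1, f2, f3, -⟩ := ext_z e1 m1 m2 (fy c).symm e2
  obtain ⟨g1, g2, g3, -⟩ := ext_z e1 m3 m4 (fx a).symm (e2.trans e.ge)
  obtain ⟨k1, -, k3, -⟩ := ext_z f1 (mem_univ _) (mem_univ _) (fx a).symm f2
  refine ⟨_, k1, by omega, fin a hx h1 f1 f2 (by omega) (a4 z e2 e4), ?_⟩
  have cm : Commute (swap a (x a)) (swap c (y c)) := Perm.Disjoint.commute fun w => by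
    simp only [swap_apply_def]; grind
  rw [← mul_assoc, ← mul_assoc, mul_assoc y, cm.eq, mul_assoc, mul_assoc]
  exact fin c hy h2 g1 g2 (by omega) (b4 z (e2.trans e.ge) (by rw [e]; exact e5))

theorem exists_even (h5 : 5 ≤ Fintype.card α) {t : Perm α} (ht : t ^ 2 = 1) (h1 : t ≠ 1) :
    ∃ y, IsConj t y ∧ t ≠ y ∧ Commute t y := by
  obtain ⟨a, ha⟩ := not_forall.1 fun h => h1 (Equiv.ext h)
  replace ha : t a ≠ a := ha
  have i := inv_inv' ht
  by_cases h : ∃ c, t c ≠ c ∧ c ≠ a ∧ c ≠ t a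
  · obtain ⟨c, h⟩ := h
    refine ⟨_, isConj_iff.2 ⟨swap (t a) c, rfl⟩, fun e => ?_, Equiv.ext fun w => ?_⟩
    · have := congrArg (· a) e
      simp only [swap_inv, Perm.mul_apply, swap_apply_def] at this; grind
    · simp only [swap_inv, Perm.mul_apply, swap_apply_def]; grind
  · obtain ⟨c, hc, d, hd, hcd⟩ := one_lt_card.1 (show 1 < ({a, t a} : Finset α)ᶜ.card by
      have := card_le_two (a := a) (b := t a)
      rw [card_compl]; omega)
    simp only [mem_compl, mem_insert, mem_singleton, not_or] at hc hd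
    have e : t = swap a (t a) := Equiv.ext fun w => by simp only [swap_apply_def]; grind
    refine ⟨swap c d, ?_, fun f => ?_, ?_⟩
    · rw [e]; exact isConj_swap ha.symm hcd
    · have := congrArg (· a) f
      simp only [swap_apply_def] at this; grind
    · rw [e]
      exact Perm.Disjoint.commute fun w => by simp only [swap_apply_def]; grind

end

theorem main (n : ℕ) (hn : 5 ≤ n) (t : Equiv.Perm (Fin n)) (ht : orderOf t = 2) :
    (SimpleGraph.fromRel fun x y : {x : Equiv.Perm (Fin n) // IsConj t x} =>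
        Odd (orderOf (x.1 * y.1))).Connected ∧
      (SimpleGraph.fromRel fun x y : {x : Equiv.Perm (Fin n) // IsConj t x} =>
        Odd (orderOf (x.1 * y.1))).diam = 2 := by
  set Γ := SimpleGraph.fromRel fun x y : {x : Equiv.Perm (Fin n) // IsConj t x} => Odd (orderOf (x.1 * y.1))
  have t2 : t ^ 2 = 1 := ht ▸ pow_orderOf_eq_one t
  have p : ∀ x : {x : Equiv.Perm (Fin n) // IsConj t x}, x.1 ^ 2 = 1 ∧ x.1.support.card = t.support.card :=
    fun ⟨x, hx⟩ => by
    obtain ⟨c, rfl⟩ := isConj_iff.1 hx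
    exact ⟨by rw [conj_pow, t2]; simp, card_support_conj⟩
  have h2 : Γ.ediam ≤ 2 := SimpleGraph.ediam_le_iff.2 fun x y => by
    obtain ⟨z, a, b, c, d⟩ := exists_z (by simpa) (p x).1 (p y).1 ((p x).2.trans (p y).2.symm)
    have one : ∀ u v : {x : Equiv.Perm (Fin n) // IsConj t x}, Odd (orderOf (u.1 * v.1)) → Γ.edist u v ≤ 1 :=
      fun u v h => SimpleGraph.edist_le_one_iff_adj_or_eq.2 ((em (u = v)).symm.imp_left fun e => ⟨e, .inl h⟩)
    let z' : {x : Equiv.Perm (Fin n) // IsConj t x} := ⟨z, isConj_two t2 a (b.trans (p x).2).symm⟩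
    exact (SimpleGraph.edist_triangle (v := z')).trans (add_le_add (one x z' c)
      (SimpleGraph.edist_comm.trans_le (one y z' d)))
  obtain ⟨y, a, b, c⟩ := exists_even (by simpa) t2 (by rintro rfl; simp at ht)
  have : Nontrivial {x : Equiv.Perm (Fin n) // IsConj t x} :=
    ⟨⟨t, IsConj.refl t⟩, ⟨y, a⟩, fun e => b (congrArg Subtype.val e)⟩
  have h3 : Γ.ediam ≠ ⊤ := ne_top_of_le_ne_top (by decide) h2
  have h4 := SimpleGraph.diam_ne_zero_of_ediam_ne_top h3
  have h5 : Γ.diam ≠ 1 := fun e => by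
    have : Γ.Adj ⟨t, IsConj.refl t⟩ ⟨y, a⟩ := by
      rw [SimpleGraph.diam_eq_one.1 e]; exact fun e => b (congrArg Subtype.val e)
    have o : orderOf (t * y) = 2 := orderOf_eq_prime (by rw [c.mul_pow, t2, (p ⟨y, a⟩).1, one_mul])
      fun e => b (by rw [← inv_eq_of_mul_eq_one_right e, inv_eq_of_mul_eq_one_right (sq t ▸ t2)])
    rcases this.2 with h | h
    · exact absurd (o ▸ h) (by decide)
    · exact absurd (o ▸ c.eq ▸ h) (by decide)
  have h6 : Γ.diam ≤ 2 := ENat.toNat_le_of_le_natCast h2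
  exact ⟨SimpleGraph.connected_of_ediam_ne_top h3, by omega⟩

/-- Let n ≥ 5 and let X be a conjugacy class of involutions of the symmetric group of degree n. The graph on X joining two distinct involutions whose product has odd order is connected and has diameter exactly 2. -/
theorem result (n : ℕ) (hn : 5 ≤ n) (t : Equiv.Perm (Fin n)) (ht : orderOf t = 2) :
    (SimpleGraph.fromRel fun x y : {x : Equiv.Perm (Fin n) // IsConj t x} =>
        Odd (orderOf (x.1 * y.1))).Connected ∧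
      (SimpleGraph.fromRel fun x y : {x : Equiv.Perm (Fin n) // IsConj t x} =>
        Odd (orderOf (x.1 * y.1))).diam = 2 := by
  exact main n hn t ht

end Cfsg.Agent.S3265
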