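import Cfsg.Statements.S3266
import Cfsg.Agent.Lib.Known2.Invol

set_option autoImplicit false
open Cfsg

namespace Cfsg.Agent.S3266

open Matrix

section
variable {F : Type*} [Field F]

local notation "SL2" => Matrix.SpecialLinearGroup (Fin 2) F
local notation "π" => QuotientGroup.mk' (Subgroup.center (Matrix.SpecialLinearGroup (Fin 2) F))

/-- The trace. -/
def tr (M : SL2) : F := M 0 0 + M 1 1

/-- A matrix from its entries. -/
def mk2 (a b c d : F) (h : a * d - b * c = 1) : SL2 := ⟨!![a, b; c, d], by rwa [det_fin_two_of]⟩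

@[simp] theorem mk2_val (a b c d : F) (h) : (mk2 a b c d h).1 = !![a, b; c, d] := rfl

theorem dt (M : SL2) : M 0 0 * M 1 1 - M 0 1 * M 1 0 = 1 := by rw [← det_fin_two]; exact M.det_coe

theorem ch (M : SL2) : M.1 * M.1 = tr M • M.1 - 1 := by
  have := dt M
  ext i j
  fin_cases i <;> fin_cases j <;> simp [tr, mul_apply, Fin.sum_univ_succ] <;>
    first | ring1 | linear_combination -this

theorem pi_one {M : SL2} : π M = 1 ↔ ∃ r : F, M.1 = r • 1 := by
  rw [QuotientGroup.mk'_apply, QuotientGroup.eq_one_iff, Matrix.SpecialLinearGroup.mem_center_iff]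
  constructor
  · rintro ⟨r, -, h⟩; exact ⟨r, by rw [← h, scalar_apply, smul_one_eq_diagonal]⟩
  · rintro ⟨r, h⟩
    refine ⟨r, ?_, by rw [h, scalar_apply, smul_one_eq_diagonal]⟩
    have := M.det_coe
    rwa [h, det_smul, det_one, mul_one] at this

theorem odd_of {M : SL2} {n : ℕ} (hn : Odd n) {r : F} (h : M.1 ^ n = r • 1) : Odd (orderOf (π M)) :=
  hn.of_dvd_nat (orderOf_dvd_of_pow_eq_one (by rw [← map_pow]; exact pi_one.2 ⟨r, h⟩))

theorem sq_of {M : SL2} (h : tr M = 0) : π M * π M = 1 := by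
  rw [← map_mul]; exact pi_one.2 ⟨-1, by rw [Matrix.SpecialLinearGroup.coe_mul, ch, h]; simp⟩

theorem tr_of {M : SL2} (h : π M * π M = 1) (h1 : π M ≠ 1) : tr M = 0 := by
  rw [← map_mul] at h
  obtain ⟨r, hr⟩ := pi_one.1 h
  rw [Matrix.SpecialLinearGroup.coe_mul, ch] at hr
  by_contra h0
  exact h1 (pi_one.2 ⟨(tr M)⁻¹ * (r + 1), by
    rw [mul_smul, add_smul, ← hr, one_smul, sub_add_cancel, inv_smul_smul₀ h0]⟩)

theorem ne_of (h2 : (2 : F) ≠ 0) {M : SL2} (h : tr M = 0) : π M ≠ 1 := fun e => by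
  obtain ⟨r, hr⟩ := pi_one.1 e
  have h1 := dt M
  simp only [tr, hr] at h h1
  simp at h h1
  have : r = 0 := by
    apply mul_left_cancel₀ h2; linear_combination h
  simp [this] at h1

theorem odd1 [Fintype F] (hq : Odd (Fintype.card F)) {M : SL2} {e : F} (he : e * e = 1) (h : tr M = 2 * e) :
    Odd (orderOf (π M)) := by
  have key : ∀ n : ℕ, M.1 ^ n = e ^ n • 1 + ((n : F) * e ^ (n + 1)) • (M.1 - e • 1) := fun n => by
    induction n with
    | zero => simp
    | succ n ih =>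
      rw [pow_succ, ih, add_mul, smul_mul_assoc, smul_mul_assoc, sub_mul, ch, h, smul_mul_assoc, one_mul]
      push_cast
      have e1 : e ^ (n + 1 + 1) = e ^ n := by rw [pow_succ, pow_succ, mul_assoc, he, mul_one]
      rw [e1, pow_succ]
      match_scalars
      · linear_combination (n * e ^ n) * he
      · ring
  exact odd_of hq (r := e ^ Fintype.card F) (by rw [key, FiniteField.cast_card_eq_zero]; simp)

theorem odd2 [Fintype F] (h2 : (2 : F) ≠ 0) (hq : Fintype.card F % 4 = 3) {M : SL2} {w : F} (hw : w ≠ 0)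
    (h : tr M ^ 2 - 4 = w * w) : Odd (orderOf (π M)) := by
  obtain ⟨a, b, hab, hs, hd⟩ : ∃ a b : F, a * b = 1 ∧ tr M = a + b ∧ a - b = w :=
    ⟨(tr M + w) / 2, (tr M - w) / 2, by field_simp; linear_combination h, by field_simp; ring, by field_simp; ring⟩
  have k1 : ∀ a b : F, a * b = 1 → tr M = a + b → ∀ n : ℕ, M.1 ^ n * (M.1 - b • 1) = a ^ n • (M.1 - b • 1) :=
    fun a b hab hs n => by
      induction n with
      | zero => simp
      | succ n ih =>
        have : M.1 * (M.1 - b • 1) = a • (M.1 - b • 1) := by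
          rw [mul_sub, ch, hs, mul_smul_comm, mul_one]
          match_scalars
          · ring
          · linear_combination hab
        rw [pow_succ, mul_assoc, this, mul_smul_comm, ih, smul_smul, pow_succ']
  set n := Fintype.card F / 2 with hn
  have ha0 : a ≠ 0 := left_ne_zero_of_mul_eq_one hab
  have h1 : a ^ n * a ^ n = 1 := by
    rw [← pow_add, ← FiniteField.pow_card_sub_one_eq_one a ha0]; congr 1; omega
  have h3 : b ^ n = a ^ n := by
    have : a ^ n * b ^ n = 1 := by rw [← mul_pow, hab, one_pow]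
    linear_combination (a ^ n) * this - b ^ n * h1
  refine odd_of (n := n) (Nat.odd_iff.2 (by omega)) (r := a ^ n) (smul_right_injective _ hw ?_)
  have e1 := k1 a b hab hs n
  have e2 := k1 b a (mul_comm a b ▸ hab) (add_comm a b ▸ hs) n
  rw [h3] at e2
  rw [mul_sub, mul_smul_comm, mul_one] at e1 e2
  simp only [← hd]
  linear_combination (norm := module) e1 - e2

theorem odd3 [Finite F] (h2 : (2 : F) = 0) {M : SL2} (h : tr M ≠ 0) : Odd (orderOf (π M)) := by
  by_contra ho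
  obtain ⟨k, hk⟩ := Nat.not_odd_iff_even.1 ho
  have hp := orderOf_pos (π M)
  have h1 : π (M ^ k) ≠ 1 := by rw [map_pow]; exact pow_ne_one_of_lt_orderOf (by omega) (by omega)
  have h3 := tr_of (M := M ^ k) (by rw [map_pow, ← pow_add, ← hk, pow_orderOf_eq_one]) h1
  have hc : M * M ^ k = M ^ k * M := (Commute.self_pow M k).eq
  generalize M ^ k = T at h1 h3 hc
  have e := fun i j => congrArg (fun m : SL2 => m.1 i j) hc
  have e1 := e 0 1
  have e2 := e 1 0
  simp [mul_apply, Fin.sum_univ_succ] at e1 e2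
  simp only [tr] at h h3
  refine h1 (pi_one.2 ⟨T 0 0, ?_⟩)
  have a1 : T 0 1 = 0 := by
    apply mul_left_cancel₀ h; linear_combination e1 - M 0 1 * h3 + (M 0 1 * T 0 0 + M 1 1 * T 0 1) * h2
  have a2 : T 1 0 = 0 := by
    apply mul_left_cancel₀ h; linear_combination e2 - M 1 0 * h3 + (M 1 0 * T 1 1 + M 0 0 * T 1 0) * h2
  ext i j
  fin_cases i <;> fin_cases j <;> simp [a1, a2]
  linear_combination h3 - T 0 0 * h2

theorem build {A B : SL2} (hA : tr A = 0) (hB : tr B = 0) (hd : tr (A * B) ^ 2 - 4 ≠ 0) (s t w : F)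
    (hw : w * w = -(s ^ 2 + t ^ 2 + tr (A * B) * s * t + (tr (A * B) ^ 2 - 4))) :
    ∃ C : SL2, tr C = 0 ∧ tr (A * C) = s ∧ tr (C * B) = t := by
  have dA := dt A
  have dB := dt B
  have eA : A 1 1 = -A 0 0 := by simp only [tr] at hA; linear_combination hA
  have eB : B 1 1 = -B 0 0 := by simp only [tr] at hB; linear_combination hB
  have hτ : tr (A * B) = 2 * A 0 0 * B 0 0 + A 0 1 * B 1 0 + A 1 0 * B 0 1 := by
    simp [tr, mul_apply, Fin.sum_univ_succ, eA, eB]; ring
  generalize tr (A * B) = τ at hd hw hτ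
  obtain ⟨a, b, c, h1, h3, h4⟩ : ∃ a b c : F, -2 * a + τ * b = s ∧ τ * a - 2 * b = t ∧
      -a ^ 2 - b ^ 2 + a * b * τ + c ^ 2 * (τ ^ 2 - 4) = -1 :=
    ⟨(2 * s + τ * t) / (τ ^ 2 - 4), (τ * s + 2 * t) / (τ ^ 2 - 4), w / (τ ^ 2 - 4), by field_simp; ring,
      by field_simp; ring, by field_simp; linear_combination (τ ^ 2 - 4) * hw⟩
  rw [eA] at dA
  rw [eB] at dB
  subst hτ
  refine ⟨mk2 (a * A 0 0 + b * B 0 0 + c * (A 0 1 * B 1 0 - A 1 0 * B 0 1))
      (a * A 0 1 + b * B 0 1 + c * (2 * (A 0 0 * B 0 1 - A 0 1 * B 0 0)))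
      (a * A 1 0 + b * B 1 0 + c * (2 * (A 1 0 * B 0 0 - A 0 0 * B 1 0)))
      (-(a * A 0 0 + b * B 0 0 + c * (A 0 1 * B 1 0 - A 1 0 * B 0 1))) ?_, ?_, ?_, ?_⟩
  · linear_combination -h4 + (a ^ 2 - 4 * c ^ 2 * (B 0 0 ^ 2 + B 0 1 * B 1 0)) * dA + (b ^ 2 + 4 * c ^ 2) * dB
  · simp [tr]
  · simp [tr, mul_apply, Fin.sum_univ_succ, eA]
    linear_combination h1 - 2 * a * dA
  · simp [tr, mul_apply, Fin.sum_univ_succ, eB]
    linear_combination h3 - 2 * b * dB

theorem sum_chi [Fintype F] [DecidableEq F] (h2 : (2 : F) ≠ 0) (hr : ringChar F ≠ 2) {d : F} (hd : d ≠ 0) :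
    ∑ t, quadraticChar F (t ^ 2 - d) = -1 := by
  have h1 : ∑ t, (quadraticChar F (t ^ 2 - d) + 1) =
      ((Finset.univ.filter fun p : F × F => p.2 ^ 2 = p.1 ^ 2 - d).card : ℤ) := by
    rw [Finset.card_filter, Fintype.sum_prod_type]
    push_cast
    refine Finset.sum_congr rfl fun t _ => ?_
    rw [← quadraticChar_card_sqrts hr]
    simp
  have h3 : (Finset.univ.filter fun p : F × F => p.2 ^ 2 = p.1 ^ 2 - d).card = (Finset.univ.erase (0 : F)).card := by
    refine Finset.card_nbij' (fun p => p.1 - p.2) (fun u => ((u + d / u) / 2, (d / u - u) / 2)) (fun p hp => ?_)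
      (fun u hu => ?_) (fun p hp => ?_) fun u hu => ?_
    · simp only [Finset.coe_filter, Finset.mem_univ, true_and, Set.mem_setOf_eq] at hp
      simp only [Finset.coe_erase, Finset.coe_univ, Set.mem_diff, Set.mem_univ, true_and, Set.mem_singleton_iff]
      exact fun e => hd (by linear_combination hp + (p.1 + p.2) * e)
    · have hu : u ≠ 0 := by simpa using hu
      simp only [Finset.coe_filter, Finset.mem_univ, true_and, Set.mem_setOf_eq]
      field_simp; ring
    · simp only [Finset.coe_filter, Finset.mem_univ, true_and, Set.mem_setOf_eq] at hp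
      have h0 : p.1 - p.2 ≠ 0 := fun e => hd (by linear_combination hp + (p.1 + p.2) * e)
      have : d / (p.1 - p.2) = p.1 + p.2 := by field_simp; linear_combination hp
      ext <;> simp only [this] <;> field_simp <;> ring
    · simp only; ring_nf; field_simp
  rw [h3, Finset.card_erase_of_mem (Finset.mem_univ _), Finset.sum_add_distrib, Finset.sum_const, Finset.card_univ,
    Nat.cast_sub Fintype.card_pos] at h1
  simp only [nsmul_eq_mul, mul_one, Nat.cast_one] at h1
  omega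

theorem exists_t [Fintype F] (h2 : (2 : F) ≠ 0) {τ s u : F} (hτ : ¬ IsSquare (τ ^ 2 - 4)) (hu : u ≠ 0)
    (hs : s ^ 2 - 4 = u * u) : ∃ t v : F, v ≠ 0 ∧ t ^ 2 - 4 = v * v ∧
      ¬ IsSquare (s ^ 2 + t ^ 2 + τ * s * t + (τ ^ 2 - 4)) := by
  classical
  have hr : ringChar F ≠ 2 := fun e => h2 (by rw [← Nat.cast_ofNat, ← e]; exact ringChar.Nat.cast_ringChar)
  have h4 : (4 : F) ≠ 0 := by rw [show (4 : F) = 2 * 2 by norm_num]; exact mul_ne_zero h2 h2
  have h0 : ∀ t, s ^ 2 + t ^ 2 + τ * s * t + (τ ^ 2 - 4) ≠ 0 := fun t e => hτ ⟨(2 * t + τ * s) / u, by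
    field_simp; linear_combination -4 * e - (τ ^ 2 - 4) * hs⟩
  have hd : (τ ^ 2 - 4) * (u * u) / 4 ≠ 0 :=
    div_ne_zero (mul_ne_zero (fun e => hτ (e ▸ IsSquare.zero)) (mul_ne_zero hu hu)) h4
  have s1 := sum_chi h2 hr hd
  rw [← Equiv.sum_comp (Equiv.addRight (τ * s / 2))] at s1
  have s2 := sum_chi h2 hr h4
  have e : ∀ t, (Equiv.addRight (τ * s / 2) t) ^ 2 - (τ ^ 2 - 4) * (u * u) / 4 =
      s ^ 2 + t ^ 2 + τ * s * t + (τ ^ 2 - 4) := fun t => by
    rw [Equiv.coe_addRight, ← hs]; field_simp; ring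
  simp only [e] at s1
  by_contra! h
  have k : ∀ t, IsSquare (t ^ 2 - 4) → quadraticChar F (s ^ 2 + t ^ 2 + τ * s * t + (τ ^ 2 - 4)) = 1 := fun t ⟨v, hv⟩ => by
    refine (quadraticChar_one_iff_isSquare (h0 t)).2 ?_
    by_cases c : v = 0
    · exact ⟨s + τ * t / 2, by field_simp; linear_combination (4 - τ ^ 2) * hv + (4 - τ ^ 2) * v * c⟩
    · exact h t v c hv
  refine (Finset.sum_lt_sum (fun t _ => ?_) ⟨2, Finset.mem_univ _, ?_⟩).ne (s2.trans s1.symm)
  · by_cases c : IsSquare (t ^ 2 - 4)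
    · rw [k t c]
      rcases quadraticChar_isQuadratic F (t ^ 2 - 4) with e | e | e <;> simp [e]
    · rw [quadraticChar_neg_one_iff_not_isSquare.2 c]
      rcases quadraticChar_dichotomy (h0 t) with e | e <;> simp [e]
  · have : (2 : F) ^ 2 - 4 = 0 := by norm_num
    rw [k 2 (this ▸ IsSquare.zero), this]; simp

theorem path [Fintype F] (hF : 4 ≤ Fintype.card F) {A B : SL2} (hA : tr A = 0) (hB : tr B = 0) (hA1 : π A ≠ 1)
    (hB1 : π B ≠ 1) : ∃ C : SL2, tr C = 0 ∧ Odd (orderOf (π A * π C)) ∧ Odd (orderOf (π C * π B)) := by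
  classical
  have self : Odd (orderOf (π (A * B))) → ∃ C : SL2, tr C = 0 ∧ Odd (orderOf (π A * π C)) ∧ Odd (orderOf (π C * π B)) :=
    fun h => ⟨A, hA, by rw [sq_of hA]; simp, h⟩
  simp only [← map_mul]
  by_cases h2 : (2 : F) = 0
  · by_cases h : tr (A * B) ≠ 0
    · exact self (odd3 h2 h)
    have nz : ∀ M : SL2, tr M = 0 → π M ≠ 1 → M 0 1 = 0 → M 1 0 ≠ 0 := fun M h h1 a b => h1 (pi_one.2 ⟨M 0 0, by
      ext i j
      fin_cases i <;> fin_cases j <;> simp [a, b]
      simp only [tr] at h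
      linear_combination h - M 0 0 * h2⟩)
    have k : A 0 1 * B 1 0 + A 1 0 * B 0 1 = 0 := by
      simp only [tr, not_not] at hA hB h
      simp [mul_apply, Fin.sum_univ_succ] at h
      linear_combination h - B 0 0 * hA - A 1 1 * hB + (A 1 1 * B 0 0) * h2
    simp only [tr] at hA hB
    by_cases c : A 0 1 = 0
    · have c1 := nz A hA hA1 c
      have c2 := nz B hB hB1 (by simpa [c, c1] using k)
      refine ⟨mk2 1 1 0 1 (by simp), by simpa [tr, ← two_mul] using h2, odd3 h2 fun e => c1 ?_, odd3 h2 fun e => c2 ?_⟩ <;>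
        simp [tr, mul_apply, Fin.sum_univ_succ] at e
      · linear_combination e - hA
      · linear_combination e - hB
    · have c2 : B 0 1 ≠ 0 := fun e => nz B hB hB1 e (by simpa [c, e] using k)
      refine ⟨mk2 1 0 1 1 (by simp), by simpa [tr, ← two_mul] using h2, odd3 h2 fun e => c ?_, odd3 h2 fun e => c2 ?_⟩ <;>
        simp [tr, mul_apply, Fin.sum_univ_succ] at e
      · linear_combination e - hA
      · linear_combination e - hB
  have hr : ringChar F ≠ 2 := fun e => h2 (by rw [← Nat.cast_ofNat, ← e]; exact ringChar.Nat.cast_ringChar)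
  have hq := FiniteField.odd_card_of_char_ne_two hr
  have hq' := Nat.odd_iff.2 hq
  by_cases hd : tr (A * B) ^ 2 - 4 = 0
  · refine self (odd1 hq' (e := tr (A * B) / 2) (by field_simp; linear_combination hd) (by field_simp))
  by_cases h4 : Fintype.card F % 4 = 3
  · by_cases hs : IsSquare (tr (A * B) ^ 2 - 4)
    · obtain ⟨w, hw⟩ := hs
      exact self (odd2 h2 h4 (w := w) (fun e => hd (by simp [hw, e])) hw)
    obtain ⟨u, hu⟩ : ∃ u : F, u ∉ ({0, 1, -1} : Finset F) :=
      Finset.exists_mem_notMem_of_card_lt_card (s := {0, 1, -1}) (t := Finset.univ)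
        (lt_of_le_of_lt Finset.card_le_three (by simp; omega)) |>.imp fun _ h => h.2
    simp only [Finset.mem_insert, Finset.mem_singleton, not_or] at hu
    have hu0 : u - u⁻¹ ≠ 0 := fun e => by
      have := hu.1
      field_simp at e
      exact (mul_self_eq_one_iff.1 (show u * u = 1 by linear_combination e)).elim hu.2.1 hu.2.2
    have hs' : (u + u⁻¹) ^ 2 - 4 = (u - u⁻¹) * (u - u⁻¹) := by linear_combination 4 * mul_inv_cancel₀ hu.1
    obtain ⟨t, v, hv, ht, hn⟩ := exists_t h2 hs hu0 hs'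
    obtain ⟨w, hw⟩ : IsSquare (-((u + u⁻¹) ^ 2 + t ^ 2 + tr (A * B) * (u + u⁻¹) * t + (tr (A * B) ^ 2 - 4))) := by
      refine (quadraticChar_one_iff_isSquare (neg_ne_zero.2 fun e => hn (by rw [e]; exact IsSquare.zero))).1 ?_
      rw [neg_eq_neg_one_mul, map_mul, quadraticChar_neg_one_iff_not_isSquare.2 hn,
        quadraticChar_neg_one_iff_not_isSquare.2 (by rw [FiniteField.isSquare_neg_one_iff]; simpa using h4)]
      rfl
    obtain ⟨C, hC, h5, h6⟩ := build hA hB hd _ t w hw.symm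
    exact ⟨C, hC, odd2 h2 h4 hu0 (h5 ▸ hs'), odd2 h2 h4 hv (h6 ▸ ht)⟩
  · obtain ⟨i, hi⟩ := FiniteField.isSquare_neg_one_iff.2 h4
    obtain ⟨C, hC, h5, h6⟩ := build hA hB hd 2 2 (i * (tr (A * B) + 2)) (by linear_combination -(tr (A * B) + 2) ^ 2 * hi)
    exact ⟨C, hC, odd1 hq' (e := 1) (by simp) (by simpa using h5), odd1 hq' (e := 1) (by simp) (by simpa using h6)⟩

theorem pair [Fintype F] (hF : 4 ≤ Fintype.card F) : ∃ A B : SL2, tr A = 0 ∧ tr B = 0 ∧ tr (A * B) = 0 ∧
    π A ≠ 1 ∧ π B ≠ 1 ∧ π (A * B) ≠ 1 := by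
  classical
  by_cases h2 : (2 : F) = 0
  · obtain ⟨u, hu⟩ : ∃ u : F, u ∉ ({0, -1} : Finset F) :=
      Finset.exists_mem_notMem_of_card_lt_card (s := {0, -1}) (t := Finset.univ)
        (lt_of_le_of_lt Finset.card_le_two (by simp; omega)) |>.imp fun _ h => h.2
    simp only [Finset.mem_insert, Finset.mem_singleton, not_or] at hu
    have nz : ∀ M : SL2, M 0 1 ≠ 0 → π M ≠ 1 := fun M h e => by
      obtain ⟨r, hr⟩ := pi_one.1 e
      exact h (by simp [hr])
    refine ⟨mk2 1 1 0 1 (by simp), mk2 1 u 0 1 (by simp), by simpa [tr, ← two_mul] using h2,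
      by simpa [tr, ← two_mul] using h2, by simpa [tr, ← two_mul] using h2, nz _ (by simp), nz _ (by simpa using hu.1),
      nz _ ?_⟩
    simpa [add_eq_zero_iff_eq_neg] using hu.2
  · obtain ⟨p, hp⟩ := CharP.exists F
    haveI : NeZero p := ⟨CharP.char_ne_zero_of_finite F p⟩
    obtain ⟨a, b, hab⟩ := CharP.sq_add_sq F p (-1)
    have h1 : tr (mk2 0 1 (-1) 0 (by simp) : SL2) = 0 := by simp [tr]
    have h3 : tr (mk2 a b b (-a) (by push_cast at hab; linear_combination -hab) : SL2) = 0 := by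
      simp [tr]
    refine ⟨_, _, h1, h3, ?_, ne_of h2 h1, ne_of h2 h3, ne_of h2 ?_⟩ <;> simp [tr]

end

/-- Let F be a finite field with at least 4 elements and let X be a conjugacy class of involutions of PSL(2, F). The graph on X joining two distinct involutions whose product has odd order is connected and has diameter exactly 2. -/
theorem result {F : Type*} [Field F] [Fintype F] (hF : 4 ≤ Fintype.card F)
    (t : Matrix.ProjectiveSpecialLinearGroup (Fin 2) F) (ht : orderOf t = 2) :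
    (SimpleGraph.fromRel fun x y : {x : Matrix.ProjectiveSpecialLinearGroup (Fin 2) F // IsConj t x} =>
        Odd (orderOf (x.1 * y.1))).Connected ∧
      (SimpleGraph.fromRel fun x y : {x : Matrix.ProjectiveSpecialLinearGroup (Fin 2) F // IsConj t x} =>
        Odd (orderOf (x.1 * y.1))).diam = 2 := by
  have ht1 : t ≠ 1 := fun e => by simp [e] at ht
  have ht2 : t * t = 1 := by simpa [ht, sq] using pow_orderOf_eq_one t
  have cj : ∀ a b : Matrix.ProjectiveSpecialLinearGroup (Fin 2) F, a * a = 1 → b * b = 1 → Odd (orderOf (a * b)) →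
      IsConj a b := fun a b ha hb h =>
    let ⟨_, hm⟩ := Cfsg.Lib.Known2.conj_of_odd_orderOf ha hb h
    (isConj_iff.2 ⟨_, hm⟩).symm
  have lift : ∀ x, IsConj t x → ∃ A, tr A = 0 ∧ QuotientGroup.mk' _ A ≠ 1 ∧ QuotientGroup.mk' _ A = x := fun x hx => by
    obtain ⟨A, rfl⟩ := QuotientGroup.mk'_surjective _ x
    have h1 : QuotientGroup.mk' _ A ≠ 1 := fun e => ht1 (isConj_one_left.1 (e ▸ hx))
    obtain ⟨c, hc⟩ := isConj_iff.1 hx
    exact ⟨A, tr_of (by rw [← hc, conj_mul, ht2]; simp) h1, h1, rfl⟩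
  set Γ := SimpleGraph.fromRel fun x y : {x : Matrix.ProjectiveSpecialLinearGroup (Fin 2) F // IsConj t x} =>
    Odd (orderOf (x.1 * y.1)) with hΓ
  have near : ∀ x y, Odd (orderOf (x.1 * y.1)) → Γ.edist x y ≤ 1 := fun x y h => by
    by_cases e : x = y
    · simp [e]
    · exact (SimpleGraph.edist_eq_one_iff_adj.2 ((SimpleGraph.fromRel_adj _ _ _).2 ⟨e, Or.inl h⟩)).le
  have hle : Γ.ediam ≤ 2 := SimpleGraph.ediam_le_of_edist_le fun x y => by
    obtain ⟨A, hA, hA1, ex⟩ := lift x.1 x.2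
    obtain ⟨B, hB, hB1, ey⟩ := lift y.1 y.2
    obtain ⟨C, hC, h1, h2⟩ := path hF hA hB hA1 hB1
    have hz := x.2.trans (ex ▸ cj _ _ (sq_of hA) (sq_of hC) h1)
    exact (SimpleGraph.edist_triangle (v := ⟨_, hz⟩)).trans
      (add_le_add (near _ _ (ex ▸ h1)) (near _ _ (ey ▸ h2)))
  have mem : ∀ B, tr B = 0 → QuotientGroup.mk' _ B ≠ 1 → IsConj t (QuotientGroup.mk' _ B) := fun B hB hB1 => by
    obtain ⟨A, hA, hA1, ex⟩ := lift t (IsConj.refl t)
    obtain ⟨C, hC, h1, h2⟩ := path hF hA hB hA1 hB1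
    exact ex ▸ (cj _ _ (sq_of hA) (sq_of hC) h1).trans (cj _ _ (sq_of hC) (sq_of hB) h2)
  obtain ⟨A, B, hA, hB, hAB, hA1, hB1, hAB1⟩ := pair hF
  have ho : orderOf (QuotientGroup.mk' (Subgroup.center _) A * QuotientGroup.mk' (Subgroup.center _) B) = 2 :=
    orderOf_eq_prime (by rw [← map_mul, sq]; exact sq_of hAB) hAB1
  have hne : (⟨_, mem A hA hA1⟩ : {x : Matrix.ProjectiveSpecialLinearGroup (Fin 2) F // IsConj t x}) ≠ ⟨_, mem B hB hB1⟩ :=
    fun e => hAB1 (by rw [map_mul, ← show QuotientGroup.mk' _ A = QuotientGroup.mk' _ B from congrArg Subtype.val e, sq_of hA])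
  haveI := nontrivial_of_ne _ _ hne
  have h1 : Γ.ediam ≠ 1 := fun e => by
    have := (SimpleGraph.ediam_eq_one.1 e) ▸ (SimpleGraph.top_adj _ _).2 hne
    rcases ((SimpleGraph.fromRel_adj _ _ _).1 this).2 with h | h
    · exact absurd (ho ▸ h) (by decide)
    · rw [← orderOf_inv, _root_.mul_inv_rev, inv_eq_of_mul_eq_one_right (sq_of hA), inv_eq_of_mul_eq_one_right (sq_of hB)] at h
      exact absurd (ho ▸ h) (by decide)
  have h2 : Γ.ediam = 2 := le_antisymm hle (Order.add_one_le_of_lt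
    (lt_of_le_of_ne (Order.one_le_iff_ne_zero.2 SimpleGraph.ediam_ne_zero) h1.symm))
  exact ⟨SimpleGraph.connected_of_ediam_ne_top (by rw [h2]; decide), by rw [SimpleGraph.diam, h2]; rfl⟩

end Cfsg.Agent.S3266
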