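import Cfsg.Statements.S3269
import Cfsg.Agent.Lib.Block.IsoElt

set_option autoImplicit false
open Cfsg

namespace Cfsg.Agent.S3269

open Cfsg.Lib.Block Cfsg.Lib.Char Cfsg.Lib.Amalg
set_option linter.style.haveILetI false

open Subgroup in
open scoped IsMulCommutative in
theorem exists_fixed_prod {G : Type*} [Group G] [Finite G] {N Z R : Subgroup G} [IsMulCommutative Z]
    (hN : N ≤ normalizer (Z : Set G)) {z : G} (hz : z ∈ Z) (h2 : z * z = 1) (hR : z ∉ R)
    (h : ∀ g ∈ N, g * z * g⁻¹ = z ∨ g * z * g⁻¹ ∈ R) :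
    ∃ w ∈ Z, w ≠ 1 ∧ w * w = 1 ∧ ∀ g ∈ N, g * w * g⁻¹ = w := by
  classical
  haveI := Fintype.ofFinite Z
  let O : Finset Z := Finset.univ.filter fun y => ∃ g ∈ N, (y : G) = g * z * g⁻¹
  have hO : ∀ y, y ∈ O ↔ ∃ g ∈ N, (y : G) = g * z * g⁻¹ := fun y => by simp [O]
  refine ⟨(∏ y ∈ O, y : Z), Subtype.property _, fun e => hR ?_, ?_, fun g hg => ?_⟩
  · rw [OneMemClass.coe_eq_one, ← Finset.mul_prod_erase O _ (a := ⟨z, hz⟩)
      ((hO _).2 ⟨1, one_mem _, by simp⟩), mul_eq_one_iff_eq_inv] at e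
    change (⟨z, hz⟩ : Z) ∈ R.subgroupOf Z
    rw [e]
    refine inv_mem (Subgroup.prod_mem _ fun y hy => ?_)
    obtain ⟨g, hg, e⟩ := (hO y).1 (Finset.mem_of_mem_erase hy)
    rw [mem_subgroupOf, e]
    exact (h g hg).resolve_left fun e' => Finset.ne_of_mem_erase hy (Subtype.ext (e.trans e'))
  · rw [← coe_mul, OneMemClass.coe_eq_one, ← Finset.prod_mul_distrib]
    refine Finset.prod_eq_one fun y hy => Subtype.ext ?_
    obtain ⟨g, hg, e⟩ := (hO y).1 hy
    rw [coe_mul, e, show g * z * g⁻¹ * (g * z * g⁻¹) = g * (z * z) * g⁻¹ by group, h2]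
    simp
  · let φ := Z.normalizerMonoidHom ⟨g, hN hg⟩
    have hφ : ∀ y : Z, (φ y : G) = g * y * g⁻¹ := fun _ => rfl
    rw [← hφ, map_prod]
    refine congrArg Subtype.val (Finset.prod_equiv φ.toEquiv (fun y => ?_) fun _ _ => rfl)
    rw [hO, hO]
    constructor
    · rintro ⟨k, hk, e⟩
      exact ⟨g * k, mul_mem hg hk, (hφ y).trans (by rw [e]; group)⟩
    · rintro ⟨k, hk, e⟩
      refine ⟨g⁻¹ * k, mul_mem (inv_mem hg) hk, ?_⟩
      rw [show g⁻¹ * k * z * (g⁻¹ * k)⁻¹ = g⁻¹ * (k * z * k⁻¹) * g by group, ← e]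
      exact (show _ = g⁻¹ * (g * y * g⁻¹) * g by group)

open Subgroup in
theorem quat_central_product {G : Type*} [Group G] {Q : Subgroup G} {a x : G} {m : ℕ}
    (h : QuatData Q a x m) (hm : m ≠ 1) {X Y : Subgroup G} (hX : X ≤ Q) (hY : Y ≤ Q)
    (hc : ∀ u ∈ X, ∀ v ∈ Y, Commute u v) (hg : ∀ q ∈ Q, ∃ u ∈ X, ∃ v ∈ Y, q = u * v) :
    (∀ u ∈ X, u * u = 1 ∧ ∀ q ∈ Q, Commute q u) ∨ ∀ v ∈ Y, ∀ q ∈ Q, Commute q v := by
  have hz : ∀ u ∈ Q, (∀ q ∈ Q, Commute q u) → u * u = 1 := fun u hu h1 => by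
    obtain ⟨k, rfl | rfl⟩ := (h.mem u).1 hu
    · have := h.conj_zpow k
      rwa [(h1 x h.x_mem).eq, mul_inv_cancel_right, eq_inv_iff_mul_eq_one] at this
    · refine absurd ?_ (h.refl_not_mem k)
      rw [← h.inf_centralizer (j := 1) fun h' => hm (by
        exact_mod_cast Int.eq_one_of_dvd_one (by positivity) h')]
      exact ⟨hu, Lib.Invol.mem_cent.2 (h1 _ (h.zpow_mem 1)).symm⟩
  have hrot : ∀ k : ℤ, (m : ℤ) ∣ k → ∀ q ∈ Q, Commute q (a ^ k) := by
    rintro _ ⟨i, rfl⟩ q hq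
    rw [zpow_mul, zpow_natCast]
    exact (h.commute_z hq).zpow_right i
  have key : ∀ {X Y : Subgroup G}, X ≤ Q → Y ≤ Q → (∀ u ∈ X, ∀ v ∈ Y, Commute u v) →
      ∀ u ∈ X, ¬ (∀ q ∈ Q, Commute q u) → ∀ v ∈ Y, ¬ (∀ q ∈ Q, Commute q v) →
      ∀ w ∈ X, Commute w u := fun {X Y} hX hY hc u hu h1 v hv h2 w hw => by
    have hc' : ∀ {y : G} {k : ℤ}, y ∈ Q → ¬ (∀ q ∈ Q, Commute q (a ^ k)) → Commute y (a ^ k) →
        y ∈ zpowers a := fun {y k} hy h1 h2 => by
      rw [← h.inf_centralizer (j := k) fun h' => h1 (hrot k h')]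
      exact ⟨hy, Lib.Invol.mem_cent.2 h2⟩
    obtain ⟨k, rfl | rfl⟩ := (h.mem v).1 (hY hv)
    · obtain ⟨i, rfl⟩ := hc' (hX hu) h2 (hc u hu _ hv)
      obtain ⟨j, rfl⟩ := hc' (hX hw) h2 (hc w hw _ hv)
      exact (Commute.refl a).zpow_zpow j i
    · have h3 : ∀ y ∈ X, (∀ q ∈ Q, Commute q y) ∨
          ∃ t, (∀ q ∈ Q, Commute q t) ∧ y = x * a ^ k * t := fun y hy => by
        obtain ⟨i, rfl | rfl⟩ := (h.mem y).1 (hX hy)
        · by_contra! h4
          exact h.refl_not_mem k (hc' (hY hv) (by simpa using h4.1) (hc _ hy _ hv).symm)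
        · refine Or.inr ⟨a ^ (i - k), ?_, by group⟩
          by_contra h4
          refine h.refl_not_mem k (hc' (hY hv) h4 ?_)
          rw [show a ^ (i - k) = (x * a ^ k)⁻¹ * (x * a ^ i) by group]
          exact (Commute.refl _).inv_right.mul_right (hc _ hy _ hv).symm
      rcases h3 u hu with h4 | ⟨t, h4, rfl⟩
      · exact absurd h4 h1
      · exact (hc w hw _ hv).mul_right (h4 w (hX hw))
  by_contra! hn
  obtain ⟨⟨u, hu, h1⟩, v, hv, h2⟩ := hn
  have h3 : ¬ ∀ q ∈ Q, Commute q u := fun h' => by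
    obtain ⟨q, hq, h4⟩ := h1 (hz u (hX hu) h')
    exact h4 (h' q hq)
  refine h3 fun q hq => ?_
  obtain ⟨w, hw, y, hy, rfl⟩ := hg q hq
  exact (key hX hY hc u hu h3 v hv (by simpa using h2) w hw).mul_left (hc u hu y hy).symm

/-- Let G be a finite group whose Sylow 2-subgroup S is an internal direct product Q × R with Q generalized quaternion (of order at least 8) and R a subgroup all of whose involutions are central in R. Then G is not simple. In particular no finite simple group has a Sylow 2-subgroup that is a direct product of one or more generalized quaternion groups. -/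
theorem result {G : Type*} [Group G] [Finite G]
    (S : Sylow 2 G) (Q R : Subgroup G) (hQR : Cfsg.IsInternalDirectProduct Q R (S : Subgroup G))
    (n : ℕ) (hn : 1 ≤ n) (eQ : ↥Q ≃* QuaternionGroup (2 ^ n))
    (hR : ∀ r ∈ R, orderOf r = 2 → ∀ s ∈ R, r * s = s * r) :
    ¬ IsSimpleGroup G := by
  classical
  intro hsimple
  haveI : Fact (Nat.Prime 2) := ⟨Nat.prime_two⟩
  obtain ⟨a, x, h⟩ := exists_quatData eQ
  obtain ⟨hQ, hRS, hc, hd, hs⟩ := hQR
  have hm : 2 ^ n ≠ 0 := by positivity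
  have hm1 : 2 ^ n ≠ 1 := (Nat.one_lt_two_pow (by omega)).ne'
  have hz := h.orderOf_z hm
  have hdec : ∀ s ∈ (S : Subgroup G), ∃ q ∈ Q, ∃ r ∈ R, s = q * r := fun s hs' =>
    (Lib.Coprime.mem_sup_iff_of_le_normalizer (fun r hr => Subgroup.centralizer_le_normalizer _
      fun q hq => hc q hq r hr)).1 (hs ▸ hs')
  have hcen : ∀ t ∈ (S : Subgroup G), t * t = 1 → ∀ s ∈ (S : Subgroup G), Commute s t :=
    fun t ht h2 s hs => by
    obtain ⟨q, hq, r, hr, rfl⟩ := hdec t ht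
    obtain ⟨q', hq', r', hr', rfl⟩ := hdec s hs
    have h3 : q * q = (r * r)⁻¹ := by
      rw [eq_inv_iff_mul_eq_one, ← h2, mul_assoc, mul_assoc, ← mul_assoc r q, ← hc q hq r hr,
        mul_assoc]
    have h4 : q * q = 1 := by
      have : q * q ∈ Q ⊓ R := Subgroup.mem_inf.2 ⟨mul_mem hq hq, by
        rw [h3]; exact inv_mem (mul_mem hr hr)⟩
      rwa [hd] at this
    have h5 : r * r = 1 := by rwa [h4, eq_comm, inv_eq_one] at h3
    have h6 : Commute q' q := by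
      by_cases h1 : q = 1
      · simp [h1]
      · rw [h.eq_z hm hq (Lib.Invol.two_of_mul_self h4 h1)]; exact h.commute_z hq'
    have h7 : Commute r' r := by
      by_cases h1 : r = 1
      · simp [h1]
      · exact (hR r hr (Lib.Invol.two_of_mul_self h5 h1) r' hr').symm
    exact (h6.mul_right (hc q' hq' r hr)).mul_left
      (Commute.mul_right (hc q hq r' hr').symm h7)
  obtain ⟨z, hzdef⟩ : ∃ z, z = a ^ 2 ^ n := ⟨_, rfl⟩
  rw [← hzdef] at hz
  have hzQ : z ∈ Q := hzdef ▸ pow_mem h.a_mem _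
  have hzS : z ∈ (S : Subgroup G) := hQ hzQ
  have hkey : ∀ g ∈ Subgroup.normalizer ((S : Subgroup G) : Set G),
      g * z * g⁻¹ = z ∨ g * z * g⁻¹ ∈ R := fun g hg => by
    have hcj : ∀ s ∈ (S : Subgroup G), g * s * g⁻¹ ∈ (S : Subgroup G) := fun s hs =>
      Lib.Transfer.conj_mem_of_mem_normalizer hg hs
    let pr : Subgroup G → Subgroup G := fun W => Q ⊓ (Lib.Transfer.cj g W ⊔ R)
    have hpr : ∀ W ≤ (S : Subgroup G), ∀ u ∈ pr W, ∃ w ∈ W, ∃ r ∈ R, g * w * g⁻¹ = u * r :=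
      fun W hW u hu => by
        have hRn : (S : Subgroup G) ≤ Subgroup.normalizer (R : Set G) := by
          rw [← hs]
          exact sup_le (fun q hq => Subgroup.centralizer_le_normalizer _
            fun r hr => (hc q hq r hr).symm) Subgroup.le_normalizer
        have h1 : u ∈ R ⊔ Lib.Transfer.cj g W := by rw [sup_comm]; exact hu.2
        obtain ⟨w, hw, r, hr, e⟩ := (Lib.Coprime.mem_sup_iff_of_le_normalizer'
          ((Lib.Transfer.cj_le_iff.2 fun y hy => hcj y (hW hy)).trans hRn)).1 h1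
        exact ⟨_, Lib.Transfer.mem_cj.1 hw, r⁻¹, inv_mem hr, by rw [e]; group⟩
    have hpr' : ∀ W, ∀ w ∈ W, ∀ u ∈ Q, ∀ r ∈ R, g * w * g⁻¹ = u * r → u ∈ pr W :=
      fun W w hw u hu r hr e => ⟨hu, by
        rw [eq_mul_inv_of_mul_eq e.symm]
        exact Subgroup.mul_mem_sup (Lib.Transfer.conj_mem_cj.2 hw) (inv_mem hr)⟩
    have hQR1 : ∀ u ∈ Q, ∀ r ∈ R, u = r → u = 1 := fun u hu r hr e => by
      have : u ∈ Q ⊓ R := ⟨hu, e ▸ hr⟩
      rwa [hd] at this
    rcases quat_central_product h hm1 (X := pr Q) (Y := pr R) inf_le_left inf_le_left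
      (fun u hu v hv => by
        obtain ⟨w, hw, r, hr, e⟩ := hpr Q hQ u hu
        obtain ⟨w', hw', r', hr', e'⟩ := hpr R hRS v hv
        have h1 := Lib.Invol.commute_conj g (show Commute w w' from hc w hw w' hw')
        rw [e, e', commute_iff_eq, mul_assoc, ← mul_assoc r, ← hc v hv.1 r hr, mul_assoc v r',
          ← mul_assoc r', ← hc u hu.1 r' hr'] at h1
        have h2 := hQR1 ((v * u)⁻¹ * (u * v)) (mul_mem (inv_mem (mul_mem hv.1 hu.1))
          (mul_mem hu.1 hv.1)) (r' * r * (r * r')⁻¹) (mul_mem (mul_mem hr' hr)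
          (inv_mem (mul_mem hr hr'))) (by
            rw [inv_mul_eq_iff_eq_mul, ← mul_assoc, eq_mul_inv_iff_mul_eq]
            simpa only [mul_assoc] using h1)
        exact (inv_mul_eq_one.1 h2).symm)
      (fun q hq => by
        obtain ⟨w, hw, w', hw', e⟩ := hdec _
          (Lib.Transfer.conj_mem_of_mem_normalizer (inv_mem hg) (hQ hq))
        obtain ⟨u, hu, r, hr, e1⟩ := hdec _ (hcj w (hQ hw))
        obtain ⟨v, hv, r', hr', e2⟩ := hdec _ (hcj w' (hRS hw'))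
        refine ⟨u, hpr' Q w hw u hu r hr e1, v, hpr' R w' hw' v hv r' hr' e2, ?_⟩
        have h1 : q = u * r * (v * r') := by
          rw [← e1, ← e2, show g * w * g⁻¹ * (g * w' * g⁻¹) = g * (w * w') * g⁻¹ by group, ← e]
          group
        rw [mul_assoc, ← mul_assoc r, ← hc v hv r hr] at h1
        have h2 := hQR1 ((u * v)⁻¹ * q) (mul_mem (inv_mem (mul_mem hu hv)) hq) (r * r')
          (mul_mem hr hr') (by rw [h1]; group)
        exact (inv_mul_eq_one.1 h2).symm) with h1 | h1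
    · right
      obtain ⟨u, hu, r, hr, e⟩ := hdec _ (hcj x (hQ h.x_mem))
      have h2 := (h1 u (hpr' Q x h.x_mem u hu r hr e)).1
      rw [hzdef, ← h.sq, show g * (x * x) * g⁻¹ = g * x * g⁻¹ * (g * x * g⁻¹) by group, e,
        mul_assoc, ← mul_assoc r, ← hc u hu r hr, mul_assoc, ← mul_assoc, h2, one_mul]
      exact mul_mem hr hr
    · left
      have h2 : ∀ w ∈ R, ∀ q ∈ Q, Commute q (g * w * g⁻¹) := fun w hw q hq => by
        obtain ⟨v, hv, r, hr, e⟩ := hdec _ (hcj w (hRS hw))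
        rw [e]
        exact (h1 v (hpr' R w hw v hv r hr e) q hq).mul_right (hc q hq r hr)
      have h3 : ∀ q ∈ Q, ∃ w ∈ Q, ∃ r, q = g * w * g⁻¹ * r ∧ (∀ q ∈ Q, Commute q r) ∧
          ∀ q ∈ Q, Commute (g * q * g⁻¹) r := fun q hq => by
        obtain ⟨w, hw, w', hw', e⟩ := hdec _
          (Lib.Transfer.conj_mem_of_mem_normalizer (inv_mem hg) (hQ hq))
        refine ⟨w, hw, g * w' * g⁻¹, ?_, h2 w' hw', fun q hq =>
          Lib.Invol.commute_conj g (hc q hq w' hw')⟩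
        rw [show g * w * g⁻¹ * (g * w' * g⁻¹) = g * (w * w') * g⁻¹ by group, ← e]
        group
      obtain ⟨k, hk⟩ : ∃ k, n = k + 1 := ⟨n - 1, by omega⟩
      obtain ⟨w, hw, r, e, c1, c2⟩ := h3 x h.x_mem
      obtain ⟨w', hw', r', e', c1', c2'⟩ := h3 (a ^ 2 ^ k) (pow_mem h.a_mem _)
      have h4 : z = a ^ 2 ^ k * x * (a ^ 2 ^ k)⁻¹ * x⁻¹ := by
        have := Lib.Invol.conj_pow_of_inv h.inv (2 ^ k)
        rw [mul_assoc, mul_assoc, ← mul_assoc x, ← conj_inv, this, inv_inv, ← pow_add, hzdef, hk,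
          pow_succ, mul_two]
      have h5 : z = g * (w' * w * w'⁻¹ * w⁻¹) * g⁻¹ := by
        have e1 : a ^ 2 ^ k * x * (a ^ 2 ^ k)⁻¹ = g * w' * g⁻¹ * x * (g * w' * g⁻¹)⁻¹ := by
          rw [e', mul_inv_rev (g * w' * g⁻¹), mul_assoc _ r', ← (c1' x h.x_mem).eq]
          group
        rw [h4, e1, e, ← mul_assoc, mul_assoc _ r, ← (c2 w' hw').inv_left.eq]
        group
      have h6 := h.eq_z hm (mul_mem (mul_mem (mul_mem hw' hw) (inv_mem hw')) (inv_mem hw))
        (by rw [← Lib.Invol.orderOf_conj g, ← h5, hz])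
      rw [h6, ← hzdef] at h5
      exact h5.symm
  haveI : IsMulCommutative ↥((S : Subgroup G) ⊓ Subgroup.centralizer ((S : Subgroup G) : Set G)) :=
    Lib.PGrp.isMulCommutative_iff_forall.2 fun y hy y' hy' => hy'.2 y hy.1
  obtain ⟨w, hwS, hw1, hww, hwN⟩ := exists_fixed_prod (R := R)
    (N := Subgroup.normalizer ((S : Subgroup G) : Set G))
    (Z := (S : Subgroup G) ⊓ Subgroup.centralizer ((S : Subgroup G) : Set G))
    (fun g hg => Lib.PGrp.mem_normalizer_of_conj_mem fun y hy =>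
      ⟨Lib.Transfer.conj_mem_of_mem_normalizer hg hy.1, Lib.Transfer.conj_mem_of_mem_normalizer
        (Lib.PGrp.normalizer_le_normalizer_centralizer' _ hg) hy.2⟩)
    ⟨hzS, fun s hs => (hcen z hzS (Lib.Invol.mul_self_of_two hz) s hs).eq⟩
    (Lib.Invol.mul_self_of_two hz) (fun h' => Lib.Invol.ne_one_of_two hz (by
      have : z ∈ Q ⊓ R := Subgroup.mem_inf.2 ⟨hzQ, h'⟩
      rwa [hd] at this)) hkey
  have hw2 := Lib.Invol.two_of_mul_self hww hw1
  have hiso := Lib.Invol.isolated_of_sylow S hw2 fun g hg => by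
    obtain ⟨k, hk, e⟩ := (Lib.Transfer.sylowIn_top S).exists_normalizer_conj_eq
      (Subgroup.mem_top g) (x := w) hwS.2
      fun s hs => (hcen _ hg (Lib.Invol.mul_self_of_two
        ((Lib.Invol.orderOf_conj g w).trans hw2)) s hs).eq
    rw [← e, hwN k hk.2]
  have hO : oddCore G = ⊥ := (IsSimpleGroup.eq_bot_or_eq_top_of_normal _ inferInstance).resolve_right
    fun e => absurd (hz ▸ Lib.Invol.odd_orderOf_of_mem (Lib.Core.odd_card_oddCore G)
      (e ▸ Subgroup.mem_top z)) (by decide)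
  have h1 := (IsSimpleGroup.eq_bot_or_eq_top_of_normal (Subgroup.center G) inferInstance).resolve_left
    fun e => hw1 (by simpa [e] using z_star_center hO hiso)
  refine h.not_mem ?_
  rw [← h.inf_centralizer (j := 1) fun h' => hm1 (by
    exact_mod_cast Int.eq_one_of_dvd_one (by positivity) h')]
  exact ⟨h.x_mem, Lib.Invol.mem_cent.2 (Subgroup.mem_center_iff.1 (h1 ▸ Subgroup.mem_top _) x)⟩

end Cfsg.Agent.S3269
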