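import Cfsg.Statements.S3276
import Cfsg.Agent.Lib.Invol.Closed
import Cfsg.Agent.Lib.PGrp.Cyclic

set_option autoImplicit false
open Cfsg

namespace Cfsg.Agent.S3276
open Cfsg.Lib.Invol

open Subgroup
open scoped commutatorElement

/-- Let x and y be commuting, non-conjugate involutions of a finite group G, and suppose that for every involution u commuting with x, each conjugate of y that commutes with u also commutes with y. Then the normal closure of y is a proper, normal, elementary abelian 2-subgroup of G; and if y is the only involution of that normal closure commuting with x, it has order at most 4. -/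
theorem result {G : Type*} [Group G] [Finite G] (x y : G) (hx : orderOf x = 2) (hy : orderOf y = 2)
    (hxy : Commute x y) (hnc : ¬ IsConj x y)
    (hstar : ∀ u : G, orderOf u = 2 → Commute u x → ∀ g : G, Commute (g * y * g⁻¹) u → Commute (g * y * g⁻¹) y) :
    Subgroup.normalClosure ({y} : Set G) ≠ ⊤ ∧ Cfsg.IsElementaryAbelian 2 (Subgroup.normalClosure ({y} : Set G)) ∧
      ((∀ u ∈ Subgroup.normalClosure ({y} : Set G), orderOf u = 2 → Commute u x → u = y) →
        Nat.card ↥(Subgroup.normalClosure ({y} : Set G)) ≤ 4) := by
  have h1 : ∀ g : G, Commute (g * y * g⁻¹) y := by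
    intro g
    obtain ⟨u, hu, hux, huy, -⟩ := exists_central_of_not_isConj (x := x) (y := g * y * g⁻¹)
      (mul_self_of_two hx) (mul_self_of_two (by rw [orderOf_conj, hy]))
      (fun h => hnc (h.trans (isConj_conj g y).symm))
    exact hstar u hu hux g huy.symm
  have h0 : ∀ a ∈ Group.conjugatesOfSet ({y} : Set G), IsConj y a := by
    intro a ha
    obtain ⟨z, hz, ha⟩ := Group.mem_conjugatesOfSet_iff.mp ha
    rwa [Set.mem_singleton_iff.mp hz] at ha
  have h2 : ∀ a ∈ Group.conjugatesOfSet ({y} : Set G), ∀ b ∈ Group.conjugatesOfSet ({y} : Set G),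
      a * b = b * a := by
    intro a ha b hb
    obtain ⟨g, rfl⟩ := isConj_iff.mp (h0 a ha)
    obtain ⟨h, rfl⟩ := isConj_iff.mp (h0 b hb)
    have := commute_conj h (h1 (h⁻¹ * g))
    simpa [mul_assoc] using this.eq
  have hab : IsMulCommutative (normalClosure ({y} : Set G)) := isMulCommutative_closure h2
  have hsq : ∀ a ∈ normalClosure ({y} : Set G), a ^ 2 = 1 := by
    intro a ha
    induction ha using closure_induction with
    | mem a ha =>
      exact sq_of_two (by rw [← orderOf_of_isConj (h0 a ha), hy])
    | one => simp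
    | mul a b ha hb iha ihb => rw [(commute_of_mulComm hab ha hb).mul_pow, iha, ihb, one_mul]
    | inv a ha ih => rw [inv_pow, ih, inv_one]
  refine ⟨fun htop => ?_, ⟨hab, hsq⟩, fun hu => ?_⟩
  · have hc : ∀ a b : G, Commute a b := fun a b =>
      commute_of_mulComm hab (htop ▸ mem_top a) (htop ▸ mem_top b)
    have : (zpowers y).Normal := ⟨fun n hn g => by
      rw [(hc g n).eq, mul_inv_cancel_right]; exact hn⟩
    have hle : normalClosure ({y} : Set G) ≤ zpowers y :=
      normalClosure_le_normal (by simp)
    have := eq_of_mem_zpowers (hle (htop ▸ mem_top x)) (mem_zpowers y) hx hy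
    exact hnc (this ▸ IsConj.refl x)
  · set N := normalClosure ({y} : Set G) with hN
    have hC : N ⊓ centralizer ({x} : Set G) ≤ zpowers y := by
      intro u hu'
      by_cases h : u = 1
      · rw [h]; exact one_mem _
      · rw [hu u hu'.1 (two_of_sq (hsq u hu'.1) h) (mem_cent.mp hu'.2)]; exact mem_zpowers y
    have hc := Cfsg.Lib.PGrp.card_le_card_centralizer_mul (W := N) (Z := zpowers y) (a := x) (by
      intro w hw
      have hxw : x * w⁻¹ * x⁻¹ ∈ N := (normalClosure_normal).conj_mem _ (inv_mem hw) x
      have e : ⁅w, x⁆ = w * (x * w⁻¹ * x⁻¹) := by rw [commutatorElement_def]; group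
      refine hC ⟨by rw [e]; exact mul_mem hw hxw, mem_cent.mpr ?_⟩
      rw [e]
      have h3 := (commute_of_mulComm hab hw hxw).eq
      have hw2 : w⁻¹ = w := by rw [inv_eq_iff_mul_eq_one, ← sq]; exact hsq w hw
      rw [hw2, inv_of_two hx] at h3 ⊢
      have hxx := mul_self_of_two hx
      change w * (x * w * x) * x = x * (w * (x * w * x))
      calc w * (x * w * x) * x = w * x * w * (x * x) := by group
        _ = (x * x) * (w * x * w) := by rw [hxx]; group
        _ = x * ((x * w * x) * w) := by group
        _ = x * (w * (x * w * x)) := by rw [h3])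
    have h4 := card_le_of_le hC
    rw [Nat.card_zpowers, hy] at h4 hc
    omega

end Cfsg.Agent.S3276
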