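import Cfsg.Statements.S3279
import Cfsg.Agent.Lib.Exc.Chz

set_option autoImplicit false
open Cfsg

namespace Cfsg.Agent.S3279

open Cfsg.Lib Cfsg.Lib.Exc Cfsg.Lib.Invol Subgroup

/-- Let G be a finite simple group and x an involution of G whose centralizer contains at most three involutions. Then C_G(x) contains a Sylow 2-subgroup of G, and all involutions of G are conjugate. -/
theorem result {G : Type*} [Group G] [Finite G] [IsSimpleGroup G] (x : G) (hx : orderOf x = 2)
    (h3 : Nat.card {u : ↥(Subgroup.centralizer ({x} : Set G)) // orderOf u = 2} ≤ 3) :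
    (∃ S : Sylow 2 G, (S : Subgroup G) ≤ Subgroup.centralizer ({x} : Set G)) ∧
      ∀ u v : G, orderOf u = 2 → orderOf v = 2 → IsConj u v := by
  have h := fun y hy => isConj_of_few hx (fun a b c ha hb hc a1 b1 c1 a2 b2 c2 => by_contra fun e => by
    push Not at e
    refine absurd h3 (not_le.2 ((Set.three_lt_ncard_iff (s := {u : centralizer {x} | orderOf u = 2})).2
      ⟨⟨x, mem_cent.2 rfl⟩, ⟨a, mem_cent.2 a1⟩, ⟨b, mem_cent.2 b1⟩, ⟨c, mem_cent.2 c1⟩, ?_⟩))
    simp [hx, ha, hb, hc, a2.symm, b2.symm, c2.symm, e]) (y := y) hy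
  obtain ⟨S, h1, h2⟩ := exists_sylow_le_cent hx h
  obtain ⟨P, rfl⟩ := h1.exists_sylow_top
  exact ⟨⟨P, h2⟩, fun u v hu hv => (h u hu).symm.trans (h v hv)⟩

end Cfsg.Agent.S3279
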