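import Cfsg.Statements.S3280
import Cfsg.Agent.Lib.Exc.SC3c

set_option autoImplicit false
open Cfsg

namespace Cfsg.Agent.S3280

open Cfsg.Lib Cfsg.Lib.Exc Cfsg.Lib.Invol Cfsg.Lib.Transfer Subgroup

/-- A non-cyclic finite simple group containing an element whose centralizer has order at most 4 is isomorphic to the alternating group of degree 5, 6 or 7, or to PSL(2, 7). -/
theorem result {G : Type*} [Group G] [Finite G] [IsSimpleGroup G] (hG : ¬ IsCyclic G)
    (w : G) (hw : Nat.card ↥(Subgroup.centralizer ({w} : Set G)) ≤ 4) :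
    Nonempty (G ≃* ↥(alternatingGroup (Fin 5))) ∨ Nonempty (G ≃* ↥(alternatingGroup (Fin 6))) ∨
      Nonempty (G ≃* ↥(alternatingGroup (Fin 7))) ∨
      (∃ (F : Type) (_ : Field F) (_ : Fintype F), Fintype.card F = 7 ∧ Nonempty (G ≃* Matrix.ProjectiveSpecialLinearGroup (Fin 2) F)) := by
  have := Fact.mk Nat.prime_two
  have hnc := Small.not_comm_of_not_isCyclic hG
  have h1 : zpowers w ≤ centralizer {w} := zpowers_le.2 (mem_cent.2 rfl)
  have h2 := Nat.card_zpowers w ▸ card_dvd_of_le h1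
  have h3 : w ≠ 1 := by
    rintro rfl
    have := Fact.mk Nat.prime_three
    rw [centralizer_eq_top_iff_subset.2 (by simp), card_top] at hw
    have h3 := Nat.card_pos (α := G)
    have h4 := fun p n [Fact p.Prime] (e : Nat.card G = p ^ n) => Small.not_isPGroup_of_simple hnc (IsPGroup.of_card e)
    interval_cases Nat.card G
    exacts [h4 2 0 rfl, h4 2 1 rfl, h4 3 1 rfl, h4 2 2 rfl]
  have h4 : 2 ≤ orderOf w := (Nat.two_le_iff _).2 ⟨(orderOf_pos w).ne', mt orderOf_eq_one_iff.1 h3⟩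
  have h5 := Nat.le_of_dvd Nat.card_pos h2
  obtain h6 | h6 | h6 : orderOf w = 2 ∨ orderOf w = 3 ∨ orderOf w = 4 := by omega
  · have h0 : Nat.card (centralizer {w}) = 2 ^ 1 ∨ Nat.card (centralizer {w}) = 2 ^ 2 := by rw [h6] at h2 h5; omega
    have h7 : IsPGroup 2 (centralizer {w}) := h0.elim IsPGroup.of_card IsPGroup.of_card
    have h8 := fun y hy => isConj_of_few h6 (fun a b c ha hb hc a1 b1 c1 a2 b2 c2 => by_contra fun e => by
      push Not at e
      refine absurd hw (not_le.2 (lt_of_lt_of_le ?_ (Set.ncard_le_ncard (s := {1, w, a, b, c})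
        (t := (centralizer {w} : Subgroup G)) (by
          rintro _ (rfl | rfl | rfl | rfl | rfl)
          exacts [one_mem _, mem_cent.2 rfl, mem_cent.2 a1, mem_cent.2 b1, mem_cent.2 c1]))))
      rw [Set.ncard_insert_of_notMem (by simp [h3.symm, (ne_one_of_two ha).symm, (ne_one_of_two hb).symm,
        (ne_one_of_two hc).symm]), Set.ncard_insert_of_notMem (by simp [a2.symm, b2.symm, c2.symm]),
        Set.ncard_insert_of_notMem (by simp [e]), Set.ncard_pair e.2.2]
      norm_num) (y := y) hy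
    obtain ⟨S, h9, h10⟩ := exists_sylow_le_cent h6 h8
    rw [← h9.eq_of_le h7 h10 le_top] at h9
    have h11 := not_cyclic_sylow hnc h9
    have h12 : Nat.card (centralizer {w}) = 2 ^ 2 := h0.resolve_left fun e => h11 (isCyclic_of_prime_card (p := 2) e)
    exact Or.inl (a5_of_klein h6 ⟨h12, (not_isCyclic_iff_exponent_eq_prime Nat.prime_two h12).1 h11⟩
      (h9.mono le_rfl le_top) le_normalizer)
  · have := Fact.mk (show Nat.Prime 7 by norm_num)
    refine (C3.simple (x := w) ⟨h6, fun y hy => ?_⟩ hnc).imp_right fun e => Or.inr (Or.inr ⟨ZMod 7, _, _, ZMod.card 7, e⟩)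
    exact (eq_of_le_of_card_ge h1 (by rw [Nat.card_zpowers]; rw [h6] at h2 h5 ⊢; omega)).ge (mem_cent.2 hy)
  · rcases of_cent_four hnc h6 (by omega) with ⟨F, _, _, h7 | h7, ⟨e⟩⟩ | e
    exacts [Or.inr (Or.inl ⟨e.trans (Linear.psl2_nine_equiv (Nat.card_eq_fintype_card.trans h7)).some⟩),
      Or.inr (Or.inr (Or.inr ⟨F, _, _, h7, ⟨e⟩⟩)), Or.inr (Or.inr (Or.inl e))]

end Cfsg.Agent.S3280
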