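import Cfsg.Statements.S3283
import Cfsg.Agent.Lib.Known2.N9g
import Cfsg.Agent.Lib.Fi.Hom

set_option autoImplicit false
open Cfsg

namespace Cfsg.Agent.S3283

open Subgroup Cfsg.Lib Cfsg.Lib.Known2 Cfsg.Lib.Amalg Cfsg.Lib.Core Cfsg.Lib.N9 Equiv Equiv.Perm

/-- Let G be a finite group with an involution z whose centralizer M has Q = O₂(M) extraspecial of order 2⁹ with C_M(Q) ≤ Q, and M/Q isomorphic to S₃ × A₆ or to S₃ × S₆. Then G is not simple. -/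
theorem result {G : Type*} [Group G] [Finite G] (z : G) (hz : orderOf z = 2)
    (hQ : Cfsg.IsExtraspecial 2 ↥(Cfsg.pCore 2 ↥(Subgroup.centralizer ({z} : Set G)))) (hQ9 : Nat.card ↥(Cfsg.pCore 2 ↥(Subgroup.centralizer ({z} : Set G))) = 2 ^ 9)
    (hCQ : Subgroup.centralizer ((Cfsg.pCore 2 ↥(Subgroup.centralizer ({z} : Set G))) : Set ↥(Subgroup.centralizer ({z} : Set G))) ≤ Cfsg.pCore 2 ↥(Subgroup.centralizer ({z} : Set G)))
    (hMQ : Nonempty (↥(Subgroup.centralizer ({z} : Set G)) ⧸ Cfsg.pCore 2 ↥(Subgroup.centralizer ({z} : Set G)) ≃* (Equiv.Perm (Fin 3) × ↥(alternatingGroup (Fin 6)))) ∨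
      Nonempty (↥(Subgroup.centralizer ({z} : Set G)) ⧸ Cfsg.pCore 2 ↥(Subgroup.centralizer ({z} : Set G)) ≃* (Equiv.Perm (Fin 3) × Equiv.Perm (Fin 6)))) :
    ¬ IsSimpleGroup G := by
  intro hG
  have hE : IsExtraspecial 2 (Qc z) := Cfsg.Lib.Fi.xs_equiv
    ((pCore 2 (centralizer {z})).equivMapOfInjective _ (subtype_injective _)) hQ
  have hzQ : z ∈ Qc z := ⟨⟨z, mem_cent_single.2 rfl⟩, hCQ (mem_centralizer_iff.2 fun x _ =>
    Subtype.ext (mem_cent_single.1 x.2)), rfl⟩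
  have h : LS (Qc z) z := ls_of_op hz hE fun g hg =>
    ⟨⟨g, mem_cent_single.2 (mem_centralizer_iff.1 hg z hzQ).symm⟩, hCQ (mem_centralizer_iff.2 fun x hx =>
      Subtype.ext (mem_centralizer_iff.1 hg x ⟨x, hx, rfl⟩)), rfl⟩
  have hc : Nat.card (Qc z) = 2 ^ 9 := (card_map_subtype _).trans hQ9
  have hm : ∀ g : centralizer ({z} : Set G), g ∈ pCore 2 (centralizer ({z} : Set G)) ↔ (g : G) ∈ Qc z := fun g =>
    ⟨fun e => ⟨g, e, rfl⟩, fun ⟨y, hy, e⟩ => (Subtype.ext e : y = g) ▸ hy⟩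
  have key : ∀ (L : Type) [Group L] (ι : L →* S36), Function.Injective ι →
      (∀ c k, sign k = 1 → ∃ l, ι l = (c, k)) →
      (centralizer ({z} : Set G) ⧸ pCore 2 (centralizer ({z} : Set G)) ≃* L) → False := by
    intro L _ ι h1 h2 e
    have h3 : ∀ c k, sign k = 1 → ∃ g, (ι.comp (e.toMonoidHom.comp (QuotientGroup.mk' _))) g = (c, k) := by
      intro c k hk
      obtain ⟨l, hl⟩ := h2 c k hk
      obtain ⟨y, rfl⟩ := e.surjective l
      obtain ⟨g, rfl⟩ := QuotientGroup.mk_surjective y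
      exact ⟨g, hl⟩
    refine main h hc _ (fun g => ?_) (fun c k _ => h3 c k) ?_
    · rw [← hm, ← QuotientGroup.eq_one_iff, ← e.map_eq_one_iff, ← map_eq_one_iff ι h1]; rfl
    · obtain ⟨g, hg⟩ := h3 (swap 0 1) 1 (by simp)
      exact ⟨g, by rw [hg]; simp⟩
  rcases hMQ with ⟨⟨e⟩⟩ | ⟨⟨e⟩⟩
  · refine key _ ((MonoidHom.id _).prodMap (alternatingGroup (Fin 6)).subtype)
      (Function.injective_id.prodMap (subtype_injective _)) (fun c k hk => ⟨(c, ⟨k, hk⟩), rfl⟩) e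
  · exact key _ (MonoidHom.id _) Function.injective_id (fun c k _ => ⟨_, rfl⟩) e

end Cfsg.Agent.S3283
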