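import Cfsg.Statements.S3284
import Cfsg.Agent.Lib.Known2.N9g
import Cfsg.Agent.Lib.Fi.Hom
import Cfsg.Agent.Lib.Known2.LE4

set_option autoImplicit false
open Cfsg

namespace Cfsg.Agent.S3284

open Subgroup Cfsg.Lib Cfsg.Lib.Known2 Cfsg.Lib.Amalg Cfsg.Lib.Core Cfsg.Lib.N9 Equiv Equiv.Perm

/-- There is no non-abelian finite simple group with an involution z whose centralizer M has generalized Fitting subgroup Q = F*(M) extraspecial of order 2⁹ and M/Q isomorphic to the subgroup of S₃ × S₆ consisting of the pairs of permutations with equal sign (a group (3 × A₆)·2 in which an involution outside 3 × A₆ induces S₃ on the first factor and S₆ on the second). -/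
theorem result {G : Type*} [Group G] [Finite G] [IsSimpleGroup G] (hG : ¬ IsMulCommutative G) (z : G) (hz : orderOf z = 2)
    [hn : (Cfsg.generalizedFittingSubgroup ↥(Subgroup.centralizer ({z} : Set G))).Normal]
    (hQ : Cfsg.IsExtraspecial 2 ↥(Cfsg.generalizedFittingSubgroup ↥(Subgroup.centralizer ({z} : Set G)))) (hQ9 : Nat.card ↥(Cfsg.generalizedFittingSubgroup ↥(Subgroup.centralizer ({z} : Set G))) = 2 ^ 9)
    (e : (↥(Subgroup.centralizer ({z} : Set G)) ⧸ Cfsg.generalizedFittingSubgroup ↥(Subgroup.centralizer ({z} : Set G))) ≃*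
      ↥(MonoidHom.ker (Equiv.Perm.sign.comp (MonoidHom.fst (Equiv.Perm (Fin 3)) (Equiv.Perm (Fin 6))) *
          Equiv.Perm.sign.comp (MonoidHom.snd (Equiv.Perm (Fin 3)) (Equiv.Perm (Fin 6)))))) :
    False := by
  obtain ⟨h, hF⟩ := ls_of_fstar hz rfl (Cfsg.Lib.Fi.xs_equiv
    ((generalizedFittingSubgroup (centralizer {z})).equivMapOfInjective _ (subtype_injective _)) hQ)
  have hc : Nat.card (Qc z) = 2 ^ 9 := by rw [Qc, ← hF, card_map_subtype, hQ9]
  have hm : ∀ g : centralizer ({z} : Set G), g ∈ generalizedFittingSubgroup (centralizer ({z} : Set G)) ↔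
      (g : G) ∈ Qc z := fun g => by
    rw [Qc, ← hF]
    exact ⟨fun e => ⟨g, e, rfl⟩, fun ⟨y, hy, e⟩ => (Subtype.ext e : y = g) ▸ hy⟩
  have h3 : ∀ c k, sign c = sign k →
      ∃ g, ((Subgroup.subtype _).comp (e.toMonoidHom.comp (QuotientGroup.mk' _))) g = (c, k) := by
    intro c k hk
    obtain ⟨y, hy⟩ := e.surjective ⟨(c, k), by simp [hk]⟩
    obtain ⟨g, rfl⟩ := QuotientGroup.mk_surjective y
    exact ⟨g, congrArg Subtype.val hy⟩
  rw [hF] at h
  refine main h hc _ (fun g => ?_) (fun c k h1 h2 => h3 c k (h1.trans h2.symm)) ?_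
  · rw [← hm, ← QuotientGroup.eq_one_iff, ← e.map_eq_one_iff, ← map_eq_one_iff _ (subtype_injective _)]; rfl
  · obtain ⟨g, hg⟩ := h3 (swap 0 1) (swap 0 1) (by simp)
    exact ⟨g, by rw [hg]; simp⟩

end Cfsg.Agent.S3284
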