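import Cfsg.Statements.S3285
import Cfsg.Agent.Lib.JR.Alt

set_option autoImplicit false
open Cfsg

namespace Cfsg.Agent.S3285

open Subgroup Cfsg.Lib.JR Cfsg.Lib.Invol Cfsg.Lib.Core Cfsg.Lib.Amalg Cfsg.Lib.BG1 in

/-- Let G be a finite non-solvable group with no normal subgroup of index 2, and J an involution lying in the centre of a Sylow 2-subgroup of G whose centralizer is the internal direct product of ⟨J⟩ with a subgroup isomorphic to the alternating group of degree m. Then either m = 4 and G is isomorphic to the automorphism group PΓL(2, 8) of PSL(2, 8), or m = 5 and G is isomorphic to the first Janko group. -/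
theorem result {G : Type*} [Group G] [Finite G] (hns : ¬ Group.IsSolvable G) (h2 : ∀ N : Subgroup G, N.Normal → N.index ≠ 2)
    (J : G) (hJ : Cfsg.IsTwoCentralInvolution J) (m : ℕ) (T : Subgroup G)
    (hT : Nonempty (↥T ≃* ↥(alternatingGroup (Fin m))))
    (hd : Cfsg.IsInternalDirectProduct (Subgroup.zpowers J) T (Subgroup.centralizer ({J} : Set G))) :
    (m = 4 ∧ ∃ (F : Type) (_ : Field F) (_ : Fintype F), Fintype.card F = 8 ∧
        Nonempty (G ≃* MulAut (Matrix.ProjectiveSpecialLinearGroup (Fin 2) F))) ∨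
      (m = 5 ∧ Cfsg.Spor.IsoJ1 G) := by
  obtain ⟨i⟩ := hT
  have h2' : ∀ K : Subgroup G, K.index ≠ 2 := fun K hK => h2 K (normal_of_index_eq_two hK) hK
  have ho := odd_index_of_two_central hJ
  obtain ⟨le, nm, cov⟩ := of_idp hJ.1 hd
  have hi := Cfsg.Lib.ABG.relIndex_eq_two_of (mem_cent.2 (Commute.refl J)) nm fun n hn => cov n (mem_cent.1 hn)
  obtain ⟨g, hg⟩ := thompson_transfer' h2' ho hi hJ.1
  have h1 := two_iff.1 ((orderOf_conj g J).trans hJ.1)
  have h3 : i ⟨_, hg⟩ * i ⟨_, hg⟩ = 1 := by rw [← map_mul, MulEquiv.map_eq_one_iff]; exact Subtype.ext h1.1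
  have h4 : i ⟨_, hg⟩ ≠ 1 := by rw [Ne, MulEquiv.map_eq_one_iff]; exact mt Subtype.ext_iff.1 h1.2
  rcases Nat.lt_or_ge m 6 with hm | hm
  · generalize i ⟨_, hg⟩ = x at h3 h4
    interval_cases m
    · exact absurd h4 (by revert x; decide)
    · exact absurd h4 (by revert x; decide)
    · exact absurd h4 (by revert x; decide)
    · exact absurd h4 (by revert x; decide)
    · exact Or.inl ⟨rfl, alt_four hns h2' ho hJ.1 i le nm cov⟩
    · exact Or.inr ⟨rfl, JZ.isoJ1 ⟨hJ.1, ⟨i⟩, le, nm, cov, h2', ho⟩⟩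
  · exact (not_alt_large hm i nm hi hJ.1 hg).elim

end Cfsg.Agent.S3285
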