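import Cfsg.Statements.S3286
import Cfsg.Agent.Lib.X32.M12

set_option autoImplicit false
open Cfsg

namespace Cfsg.Agent.S3286

/-- Let G be a non-abelian finite simple group containing an involution whose centralizer is isomorphic to the centralizer, in the Mathieu group M₁₂, of an involution lying in the centre of a Sylow 2-subgroup of M₁₂. Then G is isomorphic to M₁₂. -/
theorem result {G : Type*} [Group G] [Finite G] [IsSimpleGroup G] (hG : ¬ IsMulCommutative G)
    (u : ↥Cfsg.Spor.M12) (hu : Cfsg.IsTwoCentralInvolution u)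
    (t : G) (ht : orderOf t = 2) (e : ↥(Subgroup.centralizer ({t} : Set G)) ≃* ↥(Subgroup.centralizer ({u} : Set ↥Cfsg.Spor.M12))) :
    Cfsg.Spor.IsoM12 G := by
  obtain ⟨ψ, su, hz⟩ := Lib.X32.m12_cent hu
  subst hz
  have hm : ∀ h, ψ h ∈ Subgroup.centralizer {ψ (.el 16)} := fun h => Lib.X32.mem_cen (su.zc h)
  let φ := (Subgroup.subtype _).comp (e.symm.toMonoidHom.comp (ψ.codRestrict _ hm))
  have hi : Function.Injective φ := (Subgroup.subtype_injective _).comp (e.symm.injective.comp fun a b h =>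
    su.inj (congrArg Subtype.val h))
  have hr : ∀ g, g * t = t * g → ∃ h, φ h = g := fun g hg => by
    obtain ⟨h, hh⟩ := su.cen (e ⟨g, Subgroup.mem_centralizer_singleton_iff.2 hg⟩)
      (Subgroup.mem_centralizer_singleton_iff.1 (Subtype.prop _))
    exact ⟨h, congrArg Subtype.val (e.symm_apply_eq.2 (Subtype.ext hh) :
      e.symm ⟨ψ h, hm h⟩ = ⟨g, Subgroup.mem_centralizer_singleton_iff.2 hg⟩)⟩
  obtain ⟨p, hp⟩ := hr t rfl
  obtain rfl : p = Lib.X32.HB.el 16 := ((by decide +kernel : ∀ p : Lib.X32.HB, (∀ a ∈ [Lib.X32.HB.el 1, .el 2, .el 4, .el 8, .el 64],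
    a * p = p * a) → p = 1 ∨ p = .el 16) p fun a _ => hi (by
      rw [map_mul, map_mul, hp]; exact Subgroup.mem_centralizer_singleton_iff.1 (Subtype.prop _))).resolve_left fun h =>
    Lib.Invol.ne_one_of_two ht (by rw [← hp, h, map_one])
  exact Lib.X32.HB.simple hG ⟨hi, hp ▸ hr, su.zc, su.zz, su.z1⟩

end Cfsg.Agent.S3286
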