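import Cfsg.Statements.S3287
import Cfsg.Agent.Lib.GW.Cover

set_option autoImplicit false
open Cfsg Cfsg.Lib Cfsg.Lib.GW Cfsg.Lib.Core Subgroup

namespace Cfsg.Agent.S3287

/-- Let G be a finite simple group whose Sylow 2-subgroups are dihedral, and suppose the centralizer of some involution of G is properly contained in a subgroup whose generalized Fitting subgroup equals its Fitting subgroup (a subgroup without components). Then G is isomorphic to the alternating group of degree 5 or 7, to PSL(3, 2), or to PSL(2, 9). -/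
theorem result {G : Type*} [Group G] [Finite G] [IsSimpleGroup G] (S : Sylow 2 G) (m : ℕ) (eS : ↥(S : Subgroup G) ≃* DihedralGroup m)
    (t : G) (ht : orderOf t = 2) (K : Subgroup G) (hlt : Subgroup.centralizer ({t} : Set G) < K)
    (hK : Cfsg.generalizedFittingSubgroup ↥K = Cfsg.fittingSubgroup ↥K) :
    Nonempty (G ≃* ↥(alternatingGroup (Fin 5))) ∨ Nonempty (G ≃* ↥(alternatingGroup (Fin 7))) ∨
      (∃ (F : Type) (_ : Field F) (_ : Fintype F), Fintype.card F = 2 ∧ Nonempty (G ≃* Matrix.ProjectiveSpecialLinearGroup (Fin 3) F)) ∨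
      (∃ (F : Type) (_ : Field F) (_ : Fintype F), Fintype.card F = 9 ∧ Nonempty (G ≃* Matrix.ProjectiveSpecialLinearGroup (Fin 2) F)) := by
  have hG := dc2_of_dihedral S eS
  have hnc : ¬ IsMulCommutative G := fun h =>
    hlt.not_ge fun x _ => mem_centralizer_singleton_iff.2 (h.is_comm.comm _ _)
  have hK' : K ≠ ⊤ := by
    rintro rfl
    have : IsSimpleGroup (⊤ : Subgroup G) := (topEquiv : (⊤ : Subgroup G) ≃* G).isSimpleGroup
    have h1 : fittingSubgroup (⊤ : Subgroup G) = ⊤ :=
      (IsSimpleGroup.eq_bot_or_eq_top_of_normal _ (hK ▸ Layer.fstar_normal)).resolve_left (hK ▸ Layer.fstar_ne_bot)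
    have h2 := isNilpotent_fitting (⊤ : Subgroup G)
    rw [h1] at h2
    exact Linear.not_isSolvable_of_simple hnc
      (Linear.isSolvable_of_equiv ((topEquiv.trans topEquiv).symm : G ≃* (⊤ : Subgroup (⊤ : Subgroup G))))
  rcases known_of_simple G hnc hG with ⟨F, _, _, ho, h3, ⟨e⟩⟩ | h
  swap
  · exact .inr (.inl h)
  rw [← Nat.card_eq_fintype_card] at ho h3
  by_cases h5 : Nat.card F = 5
  · exact .inl ⟨e.trans (Linear.psl2_five_equiv h5).some⟩
  by_cases h7 : Nat.card F = 7
  · exact .inr (.inr (.inl ⟨ZMod 2, inferInstance, inferInstance, by simp,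
      ⟨e.trans (Exc.psl3_two_equiv h7 (by simp)).some.symm⟩⟩))
  by_cases h9 : Nat.card F = 9
  · exact .inr (.inr (.inr ⟨F, inferInstance, inferInstance, by rwa [← Nat.card_eq_fintype_card], ⟨e⟩⟩))
  exfalso
  have hC : centralizer ((⊤ : Subgroup G) : Set G) = ⊥ := by
    rw [coe_top, centralizer_univ]
    refine (IsSimpleGroup.eq_bot_or_eq_top_of_normal _ inferInstance).resolve_right fun h => hnc ⟨⟨fun a b => ?_⟩⟩
    exact mem_center_iff.1 (h ▸ mem_top b) a
  obtain ⟨f⟩ := nonempty_fr (⊤ : Subgroup G) hC (topEquiv.trans e)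
  obtain ⟨c, T, -, hc, hev⟩ := f.exists_tor (two_ne_zero_of_odd ho) hG ht
  replace hev := hev.1 trivial
  have hle : zpowers c ≤ centralizer {t} := zpowers_le.2 (mem_centralizer_singleton_iff.2 T.comm)
  have hcard := T.card
  rw [top_inf_eq] at hcard
  obtain ⟨s, hs, hsc⟩ : ∃ s ∈ centralizer {t}, s ∉ zpowers c := by
    by_contra! h
    have := card_le_of_le (show centralizer {t} ≤ zpowers c from h)
    rw [hcard, Nat.card_zpowers] at this
    have := orderOf_pos c
    omega
  have hst : Commute s t := mem_centralizer_singleton_iff.1 hs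
  have hs2 : orderOf s = 2 := (T.cent s trivial hst).resolve_left hsc
  have hinv := T.inv s hs2 (fun h => hsc (h ▸ T.self trivial)) hst
  have hco := Linear.isCoatom_dihedral (F := F) (s := e s) (r := e c)
    (by rw [← map_mul, ← sq, show s ^ 2 = 1 from hs2 ▸ pow_orderOf_eq_one s, map_one]) (by rw [← map_inv, ← map_inv, ← hinv]; simp)
    (fun ⟨k, hk⟩ => hsc ⟨k, e.injective (by simpa using hk)⟩) (by
      obtain ⟨h, -⟩ := Linear.gcd_two_eq.resolve_left fun h => Nat.not_even_iff_odd.2 ho h.2
      rw [h, MulEquiv.orderOf_eq]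
      obtain ⟨k, hk⟩ := hev
      simp only [Finset.mem_insert, Finset.mem_singleton]
      omega)
  have h1 : closure {e s, e c} ≤ (centralizer {t}).map e.toMonoidHom := by
    rw [closure_le]
    rintro _ (rfl | rfl)
    exacts [⟨s, hs, rfl⟩, ⟨c, hle (mem_zpowers c), rfl⟩]
  have h2 := hco.2 _ (h1.trans_lt ((map_lt_map_iff_of_injective e.injective).2 hlt))
  exact hK' (map_injective e.injective (h2.trans (map_top_of_surjective _ e.surjective).symm))

end Cfsg.Agent.S3287
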