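import Cfsg.Statements.S3296
import Cfsg.Agent.Lib.M12S.F8

set_option autoImplicit false
open Cfsg

namespace Cfsg.Agent.S3296


set_option maxRecDepth 100000
set_option synthInstance.maxSize 100000

open Subgroup Cfsg.Lib Cfsg.Lib.Amalg Cfsg.Lib.M12S

theorem rel : Rel false false false (TB.el 34) (TB.el 5) (TB.el 36) (TB.el 14) := by decide +kernel

theorem gen : ∀ k : TB, ∃ a < 8, ∃ b c d : Bool, k = TB.el 34 ^ a * cond b (TB.el 5) 1 * cond c (TB.el 36) 1 * cond d (TB.el 14) 1 := by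
  decide +kernel

theorem nz : ∀ h : TB, h = 1 ∨ h = TB.el 34 ^ 4 ∨ ∃ g ∈ [TB.el 34, TB.el 36, TB.el 14], h * g * h⁻¹ * g⁻¹ = TB.el 34 ^ 4 ∨
    ∃ k ∈ [TB.el 34, TB.el 36, TB.el 14], h * g * h⁻¹ * g⁻¹ * k * (h * g * h⁻¹ * g⁻¹)⁻¹ * k⁻¹ = TB.el 34 ^ 4 := by decide +kernel

/-- Let G be a finite non-abelian simple group whose Sylow 2-subgroups have order 64, with a Sylow 2-subgroup P containing an element f of order 8 whose centralizer in P is the cyclic group it generates and which is conjugate in P to each of its odd powers. If G has at least two conjugacy classes of involutions, then G is isomorphic to the Mathieu group M₁₂. -/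
theorem result {G : Type*} [Group G] [Finite G] [IsSimpleGroup G]
    (hna : ¬ IsMulCommutative G) (P : Sylow 2 G) (hP : Nat.card (P : Subgroup G) = 64)
    (f : G) (hfP : f ∈ (P : Subgroup G)) (hf : orderOf f = 8)
    (hself : ∀ x ∈ (P : Subgroup G), x * f = f * x → x ∈ Subgroup.zpowers f)
    (hodd : ∀ k ∈ ({3, 5, 7} : Set ℕ), ∃ x ∈ (P : Subgroup G), x * f * x⁻¹ = f ^ k)
    (htwo : ∃ s t : G, orderOf s = 2 ∧ orderOf t = 2 ∧ ¬ IsConj s t) :
    Nonempty (G ≃* Cfsg.Spor.M12) := by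
  have : Fact (Nat.Prime 2) := ⟨Nat.prime_two⟩
  obtain ⟨x3, a3, b3⟩ := hodd 3 (by simp)
  obtain ⟨x5, a5, b5⟩ := hodd 5 (by simp)
  obtain ⟨x7, a7, b7⟩ := hodd 7 (by simp)
  have of : orderOf (⟨f, hfP⟩ : (P : Subgroup G)) = 8 := (orderOf_mk f hfP).trans hf
  obtain ⟨s, i, q, w, x, y, h⟩ := exists_rel P.isPGroup' hP (f := ⟨f, hfP⟩) of (fun x e => by
    obtain ⟨k, hk⟩ := hself x x.2 (congrArg Subtype.val e)
    exact ⟨k, Subtype.ext hk⟩) (x3 := ⟨x3, a3⟩) (x5 := ⟨x5, a5⟩) (x7 := ⟨x7, a7⟩) (Subtype.ext b3) (Subtype.ext b5) (Subtype.ext b7)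
  have f4 : (⟨f, hfP⟩ : (P : Subgroup G)) ^ 4 ≠ 1 := pow_ne_one_of_lt_orderOf (by norm_num) (by omega)
  have key : ∀ {M : Type} [Group M] (ψ : M →* (P : Subgroup G)), Nat.card M = 64 → Function.Injective ψ →
      Function.Injective ((P : Subgroup G).subtype.comp ψ) ∧ Syl 2 ((P : Subgroup G).subtype.comp ψ).range ⊤ := fun ψ hc hi => by
    have := Nat.finite_of_card_ne_zero (hc.trans_ne (by norm_num))
    refine ⟨Subtype.val_injective.comp hi, ?_⟩
    rw [MonoidHom.range_comp, MonoidHom.range_eq_top.2 ((Nat.bijective_iff_injective_and_card ψ).2 ⟨hi, hc.trans hP.symm⟩).2,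
      ← MonoidHom.range_eq_map, range_subtype]
    exact syl_top P
  obtain ⟨c, rfl, rfl, rfl⟩ := (by decide : ∀ s i q : Bool, ∃ c : Fin 8, c.1.testBit 0 = s ∧ c.1.testBit 1 = i ∧ c.1.testBit 2 = q) s i q
  obtain ⟨ψ, e1, -⟩ := h.hom (PG.rel c) PG.card (PG.gen c)
  have e4 : ψ (PG.el 4) ≠ 1 := by
    rw [← (PG.fD c).2.2.2.2.2.1, map_mul, map_mul, e1]
    simpa only [pow_succ, pow_zero, one_mul, mul_assoc] using f4
  obtain ⟨i1, s1⟩ := key ψ PG.card (X32.inj_of_nz _ (PG.nz c) e4)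
  obtain rfl := PG.c0 i1 s1 (Exc.oddCore_eq_bot hna) (by
    rw [(IsSimpleGroup.eq_bot_or_eq_top_of_normal (center G) inferInstance).resolve_right
      fun e => hna ⟨⟨fun a b => mem_center_iff.1 (e.ge (mem_top b)) a⟩⟩, mem_bot]
    exact fun e => e4 (Subtype.ext e))
  obtain ⟨φ, e1, -⟩ := Rel.hom (s := false) (i := false) (q := false) h rel TB.card gen
  obtain ⟨i2, s2⟩ := key φ TB.card (X32.inj_of_nz _ nz (by rwa [map_pow, e1]))
  exact TB.isoM12 i2 s2 htwo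

end Cfsg.Agent.S3296
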