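import Cfsg.Statements.S3301
import Cfsg.Agent.Lib.Push.LXd
import Cfsg.Agent.Lib.PGrp.Critical

set_option autoImplicit false
open Cfsg

namespace Cfsg.Agent.S3301

open Subgroup Cfsg.Lib Cfsg.Lib.Known2 Cfsg.Lib.Amalg

/-- Let G be a finite group with no nontrivial 2-group quotient (O^2(G) = G), z an involution of G with H = C_G(z), and suppose E = O_2(H) is extraspecial with C_G(E) ≤ E. Then the Sylow 2-subgroups of H/[H, H] are elementary abelian: every element of 2-power order of the abelianization of H has order at most 2. -/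
theorem result {G : Type*} [Group G] [Finite G] (hres : Cfsg.pResidual 2 G = ⊤) (z : G) (hz : orderOf z = 2)
    (E : Subgroup G) (hE : E = (Cfsg.pCore 2 ↥(Subgroup.centralizer ({z} : Set G))).map (Subgroup.centralizer ({z} : Set G)).subtype)
    (hext : Cfsg.IsExtraspecial 2 ↥E) (hcent : Subgroup.centralizer (E : Set G) ≤ E) :
    ∀ q : Abelianization ↥(Subgroup.centralizer ({z} : Set G)), (∃ k : ℕ, orderOf q = 2 ^ k) → q ^ 2 = 1 := by
  subst hE
  rintro q ⟨k, hk⟩
  by_contra hq
  haveI := Invol.fact_two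
  obtain ⟨i, o, ho, e⟩ := Nat.exists_eq_two_pow_mul_odd (Nat.card_pos (α := centralizer ({z} : Set G))).ne'
  let φ := (powMonoidHom (2 * o)).comp (Abelianization.of (G := centralizer ({z} : Set G)))
  haveI : Finite φ.range := Finite.of_surjective _ φ.rangeRestrict_surjective
  obtain ⟨x, rfl⟩ : ∃ x, Abelianization.of x = q := QuotientGroup.mk_surjective q
  haveI : Nontrivial φ.range := ⟨φ.rangeRestrict x, 1, fun e => hq ((pow_eq_one_iff_of_coprime (ho.coprime_two_right.pow_right k)).1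
    ⟨(pow_mul _ 2 o).symm.trans (congrArg Subtype.val e), by rw [← hk, ← pow_mul, mul_comm, pow_mul, pow_orderOf_eq_one, one_pow]⟩)⟩
  obtain ⟨N, hN⟩ := Invol.exists_index_two_of_isPGroup (G := φ.range) (by
    rintro ⟨_, x, rfl⟩
    refine ⟨i, Subtype.ext ?_⟩
    show (Abelianization.of x ^ (2 * o)) ^ 2 ^ i = 1
    rw [← pow_mul, ← map_pow, mul_assoc, mul_comm o, ← e, mul_comm, pow_mul, pow_card_eq_one', one_pow, map_one])
  obtain ⟨K, hK, F⟩ := exists_fam (ls_of_op hz hext hcent) (M := (N.comap φ.rangeRestrict).map (centralizer {z}).subtype) (by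
    rw [relIndex, subgroupOf, comap_map_eq_self_of_injective (subtype_injective _),
      index_comap_of_surjective _ φ.rangeRestrict_surjective, hN])
  refine F.not_sq ?_ (Invol.pResidual_two_eq_top_iff.1 hres) ⟨1, by group⟩ (s := z) ?_
  · rintro _ ⟨g, rfl⟩ _ ⟨g', rfl⟩
    exact ⟨g' * g⁻¹, by group⟩
  rintro _ ⟨g, rfl⟩ u hu h1 h2
  rw [← cj_centralizer_singleton, ← cj_commutator, mem_cj, ← PGrp.map_subtype_commutator'] at h2
  rw [← cj_centralizer_singleton, mem_cj] at hu
  rw [hK, mem_cj] at h1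
  refine h1 ⟨⟨⟨_, hu⟩, ?_, rfl⟩, hu⟩
  obtain ⟨y, hy, h3⟩ := h2
  have h4 : φ.rangeRestrict ⟨_, hu⟩ = 1 := Subtype.ext (by
    show Abelianization.of _ ^ (2 * o) = 1
    rw [pow_mul, ← map_pow, show (⟨_, hu⟩ : centralizer ({z} : Set G)) ^ 2 = y from Subtype.ext (by
      rw [show (y : G) = _ from h3, coe_pow, sq]; group), show Abelianization.of y = 1 from (QuotientGroup.eq_one_iff y).2 hy, one_pow])
  exact show φ.rangeRestrict _ ∈ N from h4 ▸ one_mem N

end Cfsg.Agent.S3301
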