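import Cfsg.Statements.S3305
import Cfsg.Agent.Lib.Invol.Closed
import Cfsg.Agent.Lib.PGrp.Cyclic

set_option autoImplicit false
open Cfsg

namespace Cfsg.Agent.S3305
open Cfsg.Lib.Invol

open Subgroup Cfsg.Lib.Transfer

theorem lift {G : Type*} [Group G] [Finite G] (H : Subgroup G) [H.Normal] (S : Sylow 2 (G ⧸ H))
    {D : Subgroup G} (hD : IsPGroup 2 D) (h : D ≤ (S : Subgroup (G ⧸ H)).comap (QuotientGroup.mk' H)) :
    ∃ S₁ : Sylow 2 G, D ≤ S₁ ∧ (S₁ : Subgroup G).map (QuotientGroup.mk' H) = S := by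
  have := fact_two
  obtain ⟨T, hDT, hT⟩ := exists_sylowIn_ge hD h
  have h1 := hT.map (QuotientGroup.mk' H)
  rw [map_comap_eq_self_of_surjective (QuotientGroup.mk'_surjective H)] at h1
  have h2 : SylowIn 2 T ⊤ := by
    refine sylowIn_iff.mpr ⟨le_top, hT.isPGroup, ?_⟩
    rw [relIndex_top_right, ← relIndex_mul_index hT.le,
      index_comap_of_surjective _ (QuotientGroup.mk'_surjective H), Nat.Prime.dvd_mul Nat.prime_two]
    exact not_or.mpr ⟨(sylowIn_iff.mp hT).2.2, S.not_dvd_index⟩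
  obtain ⟨P, hP⟩ := h2.exists_sylow_top
  exact ⟨P, hP ▸ hDT, by rw [hP]; exact (h1.eq_of_le S.2 h1.le le_rfl).symm⟩

/-- If any two distinct Sylow 2-subgroups of the finite group G intersect in a cyclic group, then the same holds in every quotient group G/H, H a normal subgroup of G. -/
theorem result {G : Type*} [Group G] [Finite G]
    (hC : ∀ S T : Sylow 2 G, S ≠ T → IsCyclic ↥((S : Subgroup G) ⊓ (T : Subgroup G))) (H : Subgroup G) [H.Normal] :
    ∀ S T : Sylow 2 (G ⧸ H), S ≠ T → IsCyclic ↥((S : Subgroup (G ⧸ H)) ⊓ (T : Subgroup (G ⧸ H))) := by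
  have := fact_two
  intro S T hST
  obtain ⟨D, hD⟩ := exists_sylowIn (p := 2)
    (((S : Subgroup (G ⧸ H)) ⊓ (T : Subgroup (G ⧸ H))).comap (QuotientGroup.mk' H))
  obtain ⟨S₁, h1, h2⟩ := lift H S hD.isPGroup (hD.le.trans (comap_mono inf_le_left))
  obtain ⟨T₁, h3, h4⟩ := lift H T hD.isPGroup (hD.le.trans (comap_mono inf_le_right))
  have hne : S₁ ≠ T₁ := fun e => hST (Sylow.ext (by rw [← h2, ← h4, e]))
  have h5 := hD.map (QuotientGroup.mk' H)
  rw [map_comap_eq_self_of_surjective (QuotientGroup.mk'_surjective H)] at h5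
  rw [h5.eq_of_le (S.2.to_le inf_le_left) h5.le le_rfl]
  exact Cfsg.Lib.PGrp.isCyclic_map _ (Cfsg.Lib.PGrp.isCyclic_of_le' (hC S₁ T₁ hne) (le_inf h1 h3))

end Cfsg.Agent.S3305
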