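import Cfsg.Statements.S3303
import Cfsg.Agent.Lib.Invol.Closed
import Cfsg.Agent.Lib.PGrp.Cyclic
import Cfsg.Agent.S3305
import Cfsg.Agent.Lib.Core.PSolvable
import Cfsg.Agent.Lib.Coprime.Basic
import Cfsg.Agent.Lib.Transfer.PNilp

set_option autoImplicit false
open Cfsg

namespace Cfsg.Agent.S3303
open Cfsg.Lib.Invol

open Subgroup Cfsg.Lib.Transfer

theorem commute_of_odd_of_isCyclic {G : Type*} [Group G] [Finite G] {C : Subgroup G}
    (hC : IsCyclic C) (h2 : IsPGroup 2 C) {x : G} (hx : Odd (orderOf x))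
    (hn : x ∈ normalizer (C : Set G)) : x ∈ centralizer (C : Set G) := by
  have := fact_two
  have := Cfsg.Lib.PGrp.isMulCommutative_of_isCyclic hC
  obtain ⟨k, hk⟩ := h2.exists_card_eq
  refine Cfsg.Lib.Coprime.le_centralizer_of_prime_order (A := zpowers x) (by rwa [zpowers_le])
    (by rw [Nat.card_zpowers, hk]
        exact Nat.Coprime.pow_right _ (Nat.coprime_two_right.mpr hx)) ?_ (mem_zpowers x)
  intro v hv hp a ha
  have h3 : orderOf v = 2 := by
    have := orderOf_dvd_natCard C hv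
    rw [hk] at this
    exact (Nat.prime_dvd_prime_iff_eq hp Nat.prime_two).mp (hp.dvd_of_dvd_pow this)
  have h4 : a * v * a⁻¹ = v := eq_of_isCyclic hC
    (conj_mem_of_mem_normalizer ((zpowers_le.mpr hn) ha) hv) hv (by rw [orderOf_conj, h3]) h3
  rw [← mul_inv_eq_iff_eq_mul]; exact h4

/-- Let G be a finite solvable group in which the intersection of any two distinct Sylow 2-subgroups is cyclic. Then G/O(G) has a normal Sylow 2-subgroup, where O(G) is the largest normal subgroup of odd order. -/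
theorem result {G : Type*} [Group G] [Finite G] (hs : Group.IsSolvable G)
    (hC : ∀ S T : Sylow 2 G, S ≠ T → IsCyclic ↥((S : Subgroup G) ⊓ (T : Subgroup G))) :
    ∃ P : Sylow 2 (G ⧸ Cfsg.oddCore G), (P : Subgroup (G ⧸ Cfsg.oddCore G)).Normal := by
  have := fact_two
  have hQ := Cfsg.Agent.S3305.result hC (Cfsg.oddCore G)
  have hO : Cfsg.pPrimeCore 2 (G ⧸ Cfsg.oddCore G) = ⊥ :=
    Cfsg.Lib.Core.pPrimeCore_quotient_pPrimeCore
  generalize_proofs hN at hQ hO ⊢
  have hsol : Group.IsSolvable (G ⧸ Cfsg.oddCore G) := inferInstance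
  obtain ⟨P⟩ : Nonempty (Sylow 2 (G ⧸ Cfsg.oddCore G)) := inferInstance
  refine ⟨P, ?_⟩
  by_contra hn
  obtain ⟨g, hg⟩ : ∃ g : G ⧸ Cfsg.oddCore G, g • P ≠ P := by
    by_contra hall
    push Not at hall
    exact hn (normalizer_eq_top_iff.mp (eq_top_iff.mpr fun g _ =>
      Sylow.smul_eq_iff_mem_normalizer.mp (hall g)))
  have hcyc : IsCyclic (Cfsg.pCore 2 (G ⧸ Cfsg.oddCore G)) :=
    Cfsg.Lib.PGrp.isCyclic_of_le' (hQ _ _ hg)
      (le_inf (Cfsg.Lib.Core.pCore_le_sylow _) (Cfsg.Lib.Core.pCore_le_sylow _))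
  have hc := Cfsg.Lib.Core.centralizer_pCore_le_of_isPSolvable Nat.prime_two
    (Cfsg.Lib.Core.isPSolvable_of_isSolvable Nat.prime_two) hO
  have hG : IsPGroup 2 (G ⧸ Cfsg.oddCore G) := by
    intro x
    obtain ⟨k, hk⟩ := exists_pow_coprime_orderOf (p := 2) x
    have ho := Nat.coprime_two_right.mp hk
    exact ⟨k, eq_one_of_odd_of_mem (Cfsg.Lib.Core.isPGroup_pCore 2 _)
      (hc (commute_of_odd_of_isCyclic hcyc (Cfsg.Lib.Core.isPGroup_pCore 2 _) ho
        (by rw [normalizer_eq_top]; exact mem_top _))) ho⟩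
  have : (P : Subgroup (G ⧸ Cfsg.oddCore G)) = ⊤ :=
    (P.3 (hG.to_subgroup ⊤) le_top).symm
  exact hn (this ▸ inferInstance)

end Cfsg.Agent.S3303
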