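import Cfsg.Statements.S3304
import Cfsg.Agent.Lib.Invol.Sylow2
import Cfsg.Agent.Lib.Hall.FC7
import Cfsg.Agent.Lib.Exc.G3a
import Cfsg.Agent.Lib.Linear.Triangle
import Cfsg.Agent.Lib.Block.GenQuat
import Cfsg.Agent.Lib.BG1.AmbRank
import Cfsg.Agent.S3305

set_option autoImplicit false
open Cfsg

open Subgroup Cfsg.Lib
open scoped commutatorElement
open Cfsg.Lib.Known2.TC Cfsg.Lib.Linear Cfsg.Lib.Exc.G3 Cfsg.Lib.Invol Cfsg.Lib.Transfer
namespace Cfsg.Agent.S3304

def g23_st0 : List ℕ := [8, 524296, 1048584, 270008353, 524304, 1048592, 270008369, 24, 32, 40, 48, 524344, 1048632, 270008417, 524352, 1048640, 270008433, 524360, 1048648, 270008449, 524368, 1048656, 270008465, 88, 96, 104, 112, 120, 128, 136, 144, 524440, 1048728, 270008545, 524448, 1048736, 270008561, 524456, 1048744, 270008577, 524464, 1048752, 270008593, 524472, 1048760, 270008609, 524480, 1048768, 270008625, 524488, 1048776, 270008641, 524496, 1048784, 270008657, 216, 224, 232,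 240, 248, 256, 264, 272, 280, 288, 296, 304, 312, 320, 328, 336, 524632, 1048920, 270008801, 524640, 524648, 1048944, 524664, 1048960, 1048968, 524688, 1048976, 270008865, 524696, 270532889, 2284323226, 134742522, 134218098, 2015887546, 134742538, 134218114, 1747451978, 134742546, 134218122, 1479016466, 134742554, 135266842, 134218273, 271057449, 1210581018, 135266818, 134218106, 942145626, 135266802, 134218090, 673710298, 135266794, 134218082, 2015363481]
def g23_steps : List ℕ := g23_st0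
def g23_rels : List (List ℕ) := [[0, 0], [1, 2], [2, 1], [1, 1, 1], [0, 1, 0, 1, 0, 1, 0, 1, 0, 1, 0, 1, 0, 1, 0, 1], [0, 0, 1, 0, 1, 0, 1, 0, 1, 0, 2, 0, 2, 0, 2, 0, 2, 0]]
def g23_subs : List (List ℕ) := []
def g23_al : ℕ := 0x45003b003a00330032002b002a0029002800270026002500240023002200210020001f001e001d001c001b001a0019001800170016001500140013001200110010000f000e000d000c000b000a000900080007000600050004000300020001
def g23_ft : ℕ := 0x2c002d002e002a002b002f002f002c0029002d002f0022002e002a0021002b002e001a00280019002d00190029001e00260018001c00180027002000240017001b00170025001f00220016001d00160023002c00200015002b001500210026001e001400240014001f0028001c001300230013001d0027001a001200250012001b002a00290028001100270026001000250024000f00230022000e00210020000d001f001e000c001d001c000b001b001a000a001000090019000900110018000e000800170008000f0016000c000700150007000d0014000a000600130006000b0012001100100005000f000e0004000d000c0003000b000a0002000400010009000100050008000200000007000000030006000500040000000300020001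
def g23_words : List (List ℕ) := [[], [0], [1], [2], [0, 1], [0, 2], [1, 0], [2, 0], [0, 1, 0], [0, 2, 0], [1, 0, 1], [1, 0, 2], [2, 0, 1], [2, 0, 2], [0, 1, 0, 1], [0, 1, 0, 2], [0, 2, 0, 1], [0, 2, 0, 2], [1, 0, 1, 0], [1, 0, 2, 0], [2, 0, 1, 0], [2, 0, 2, 0], [0, 1, 0, 1, 0], [0, 1, 0, 2, 0], [0, 2, 0, 1, 0], [0, 2, 0, 2, 0], [1, 0, 1, 0, 1], [1, 0, 1, 0, 2], [1, 0, 2, 0, 1], [1, 0, 2, 0, 2], [2, 0, 1, 0, 1], [2, 0, 1, 0, 2], [2, 0, 2, 0, 1], [2, 0, 2, 0, 2], [0, 1, 0, 1, 0, 1], [0, 1, 0, 1, 0, 2], [0, 1, 0, 2, 0, 1], [0, 1, 0, 2, 0, 2], [0, 2, 0, 1, 0, 1], [0, 2, 0, 1, 0, 2], [0, 2, 0, 2, 0, 1], [0, 2, 0, 2, 0, 2], [1, 0, 1, 0, 1, 0], [2, 0, 2, 0, 2, 0], [0, 1, 0, 1, 0, 1, 0], [0, 2, 0, 2, 0, 2, 0], [1, 0, 1, 0, 1, 0, 1], [0, 1, 0, 1, 0, 1, 0, 1]]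

theorem g23_check : check 3 iv3 g23_rels [] g23_steps 48 (get g23_al) (tab 3 g23_ft) = true := by
  decide +kernel

def gx : M := ⟨0, 1, 1, 0, by decide⟩
def gy : M := ⟨1, 0, 1, 1, by decide⟩

theorem exists_hom_M {G : Type*} [Group G] {x y : G} (hx : x * x = 1) (hy : y ^ 3 = 1)
    (h8 : (x * y) ^ 4 * (x * y) ^ 4 = 1) (hc : x * (x * y) ^ 4 * x * ((x * y) ^ 4)⁻¹ = 1) :
    ∃ φ : M →* G, φ gx = x ∧ φ gy = y := by
  obtain ⟨φ, hφ⟩ := exists_hom g23_check card_M.ge (by norm_num)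
    (fun s => [gx, gy, gy⁻¹].getD s 1)
    (closure_eq_top_of_words id _ 3 g23_words (by decide +kernel) (by decide +kernel) card_M.le)
    (tri_iv (by decide +kernel)) (by decide +kernel)
    (fun s => [x, y, y⁻¹].getD s 1) (tri_iv hx) (by
      have hx' : x⁻¹ = x := inv_eq_of_mul_eq_one_right hx
      simp only [pow_succ, pow_zero, one_mul, mul_assoc, mul_inv_rev, hx'] at *
      simp [g23_rels, *])
  exact ⟨φ, hφ 0 (by norm_num), hφ 1 (by norm_num)⟩

theorem s4_a : ∀ s v : Equiv.Perm (Fin 4), s * s = 1 → s ≠ 1 → v * v = 1 → v ≠ 1 →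
    (∃ y, y ^ 3 = 1 ∧ (s * y) ^ 4 = 1 ∧ (s * y) ^ 2 ≠ 1) ∨ (∃ c, s = c * v * c⁻¹) ∨
      ∃ c, (v * (c * v * c⁻¹)) ^ 3 = 1 ∧ v * (c * v * c⁻¹) ≠ 1 := by decide +kernel

theorem s4_b : ∀ r v : Equiv.Perm (Fin 4), r ^ 4 = 1 → r ^ 2 ≠ 1 → v * v = 1 → v ≠ 1 →
    (∃ c, r ^ 2 = c * v * c⁻¹) ∨ ∃ c, (v * (c * v * c⁻¹)) ^ 3 = 1 ∧ v * (c * v * c⁻¹) ≠ 1 := by decide +kernel

theorem main {X : Type*} [Group X] [Finite X] (hs : Group.IsSolvable X) (hO : pPrimeCore 2 X = ⊥)
    (hu : ∀ s ∈ pCore 2 X, ∀ t ∈ pCore 2 X, orderOf s = 2 → orderOf t = 2 → s = t) :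
    (∃ P : Sylow 2 X, (P : Subgroup X).Normal) ∨ Nonempty (X ≃* GL (Fin 2) (ZMod 3)) ∨
    (Nat.card X = 48 ∧ Nat.card (center X) = 2 ∧ Nonempty (X ⧸ center X ≃* Equiv.Perm (Fin 4)) ∧
      ∀ P : Sylow 2 X, Nonempty (↥(P : Subgroup X) ≃* QuaternionGroup 4)) := by
  have hF := Core.isPGroup_pCore 2 X
  have hc := Core.centralizer_pCore_le_of_isPSolvable Nat.prime_two
    (Core.isPSolvable_of_isSolvable Nat.prime_two) hO
  obtain ⟨P⟩ : Nonempty (Sylow 2 X) := inferInstance
  by_cases hG : IsPGroup 2 X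
  · exact Or.inl ⟨P, (P.3 (hG.to_subgroup ⊤) le_top) ▸ inferInstance⟩
  obtain ⟨g, ho, hg⟩ : ∃ g : X, Odd (orderOf g) ∧ g ∉ centralizer (pCore 2 X : Set X) := by
    by_contra hn
    push Not at hn
    refine hG fun x => ?_
    obtain ⟨k, hk⟩ := exists_pow_coprime_orderOf (p := 2) x
    have ho := Nat.coprime_two_right.mp hk
    exact ⟨k, eq_one_of_odd_of_mem hF (hc (hn _ ho)) ho⟩
  obtain ⟨⟨e⟩, -⟩ := (Hall.two_subgroup_cent hF hu (by rw [normalizer_eq_top]; exact mem_top g) ho).resolve_left hg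
  have c8 : Nat.card (pCore 2 X) = 8 := by
    rw [Nat.card_congr e.toEquiv, Nat.card_eq_fintype_card, QuaternionGroup.card]
  obtain ⟨z, hz⟩ : ∃ z : X, z = e.symm (.a 2) := ⟨_, rfl⟩
  have hzF : z ∈ pCore 2 X := hz ▸ (e.symm _).2
  have hz2 : orderOf z = 2 := by
    rw [hz, orderOf_coe, MulEquiv.orderOf_eq]; exact orderOf_eq_prime (by decide) (by decide)
  have hz1 : z ≠ 1 := fun h => by simp [h] at hz2
  have hzz : z * z = 1 := by rw [← pow_two, ← hz2, pow_orderOf_eq_one]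
  have hzc : z ∈ center X := mem_center_iff.2 fun g => eq_mul_of_mul_inv_eq (hu _ (Normal.conj_mem inferInstance z hzF g)
    z hzF ((MulAut.conj g).orderOf_eq z ▸ hz2 :) hz2)
  have hsq : ∀ u ∈ pCore 2 X, u * u = 1 ∨ u * u = z := fun u hu => by
    have : ∀ q : QuaternionGroup 2, q * q = 1 ∨ q * q = .a 2 := by decide
    exact (this (e ⟨u, hu⟩)).imp (fun h => congrArg Subtype.val (e.injective (a₁ := ⟨u, hu⟩ * ⟨u, hu⟩) (a₂ := 1)
      (by rw [map_mul, h, map_one]))) fun h => hz ▸ congrArg Subtype.val (e.injective (a₁ := ⟨u, hu⟩ * ⟨u, hu⟩)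
        (a₂ := e.symm (.a 2)) (by rw [map_mul, h, MulEquiv.apply_symm_apply]))
  have hC : ∀ c, c ∈ centralizer (pCore 2 X : Set X) ↔ c = 1 ∨ c = z := fun c => by
    refine ⟨fun h => ?_, by rintro (rfl | rfl); exacts [one_mem _, center_le_centralizer _ hzc]⟩
    have : ∀ q : QuaternionGroup 2, (∀ r, r * q = q * r) → q = 1 ∨ q = .a 2 := by decide
    refine (this (e ⟨c, hc h⟩) fun r => ?_).imp (fun h' => congrArg Subtype.val (e.injective (a₁ := ⟨c, hc h⟩) (a₂ := 1)
      (by rw [h', map_one]))) fun h' => hz ▸ congrArg Subtype.val (e.injective (a₁ := ⟨c, hc h⟩)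
        (a₂ := e.symm (.a 2)) (by rw [h', MulEquiv.apply_symm_apply]))
    obtain ⟨r, rfl⟩ := e.surjective r
    rw [← map_mul, ← map_mul]
    exact congrArg e (Subtype.ext (h r r.2))
  have hZ : center X = centralizer (pCore 2 X : Set X) := le_antisymm (center_le_centralizer _) fun c h => by
    rcases (hC c).1 h with rfl | rfl
    exacts [one_mem _, hzc]
  have cZ : Nat.card (center X) = 2 := by
    rw [← hz2, ← Nat.card_zpowers, hZ, show centralizer (pCore 2 X : Set X) = zpowers z from le_antisymm (fun c h => by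
      rcases (hC c).1 h with rfl | rfl
      exacts [one_mem _, mem_zpowers _]) (zpowers_le.2 ((hC z).2 (Or.inr rfl)))]
  have card : ∀ {Y : Type} [Group Y] (f : X →* Y), Function.Surjective f → f.ker = centralizer (pCore 2 X : Set X) →
      Nat.card X = Nat.card Y * 2 := fun f hf hk => by
    rw [card_eq_card_quotient_mul_card_subgroup f.ker,
      Nat.card_congr (QuotientGroup.quotientKerEquivOfSurjective f hf).toEquiv, hk, ← hZ, cZ]
  rcases Hall.quoIs_of_normal_quat e ho hg with ⟨f, hf, hk⟩ | ⟨f, hf, hk⟩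
  · refine Or.inl ⟨P, (eq_of_le_of_card_ge (Core.pCore_le_sylow P) ?_) ▸ inferInstance⟩
    rw [P.card_eq_multiplicity, card f hf hk, card_A4, c8]
    decide +kernel
  have c48 : Nat.card X = 48 := by rw [card f hf hk, card_S4]
  have hker : ∀ c, f c = 1 ↔ c = 1 ∨ c = z := fun c => by rw [← hC, ← hk, MonoidHom.mem_ker]
  right
  by_cases ht : ∃ t : X, orderOf t = 2 ∧ t ≠ z
  · left
    obtain ⟨t, ht, htz⟩ := ht
    have htt : t * t = 1 := by rw [← pow_two, ← ht, pow_orderOf_eq_one]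
    obtain ⟨u, huF, hu1⟩ : ∃ u ∈ pCore 2 X, f u ≠ 1 := by
      by_contra hn
      push Not at hn
      have := card_le_of_le (show pCore 2 X ≤ center X from fun u hu => hZ ▸ (hC u).2 ((hker u).1 (hn u hu)))
      omega
    have huu : f u * f u = 1 := by rw [← map_mul, hker]; exact hsq u huF
    have n3 : ¬ ∃ c, (f u * (c * f u * c⁻¹)) ^ 3 = 1 ∧ f u * (c * f u * c⁻¹) ≠ 1 := by
      rintro ⟨c, h1, h2⟩
      obtain ⟨c, rfl⟩ := hf c
      rw [← map_inv, ← map_mul, ← map_mul, ← map_mul] at h1 h2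
      have h := (hker _).2 (hsq _ (mul_mem huF (Normal.conj_mem inferInstance u huF c)))
      rw [map_mul] at h
      exact h2 (by rwa [pow_succ, pow_two, h, one_mul] at h1)
    have nc : ∀ w : X, w * w = 1 → (∃ c, f w = c * f u * c⁻¹) → w = z := by
      rintro w hw ⟨c, h⟩
      obtain ⟨c, rfl⟩ := hf c
      have hw1 : w ≠ 1 := fun e => hu1 (by rw [e, map_one, eq_comm] at h; simpa [mul_inv_eq_one] using h)
      have : w * (c * u * c⁻¹)⁻¹ ∈ pCore 2 X := hc ((hC _).2 ((hker _).1 (by simp [h])))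
      exact hu w ((mul_mem_cancel_right (inv_mem (Normal.conj_mem inferInstance u huF c))).1 this) z hzF
        (orderOf_eq_prime (by rw [pow_two, hw]) hw1) hz2
    obtain ⟨y, hy, h4, h2⟩ := ((s4_a (f t) (f u) (by rw [← map_mul, htt, map_one]) (fun h => ((hker t).1 h).elim
      (fun h => by simp [h] at ht) htz) huu hu1).resolve_right fun h => h.elim (fun h => htz (nc t htt h)) n3)
    obtain ⟨y, rfl⟩ := hf y
    have hy4 : f (y ^ 4) = f y := by rw [map_pow, pow_succ, hy, one_mul]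
    have h4' : (t * y ^ 4) ^ 4 = z := ((hker _).1 (by rw [map_pow, map_mul, hy4, h4])).resolve_left fun h => by
      have := nc ((t * y ^ 4) ^ 2) (by rw [← pow_add, h]) (by
        rw [map_pow, map_mul, hy4]; exact (s4_b _ _ h4 h2 huu hu1).resolve_right n3)
      exact h2 (by rw [← hy4, ← map_mul, ← map_pow, this, hker]; exact Or.inr rfl)
    obtain ⟨φ, h1, h2⟩ := exists_hom_M (x := t) (y := y ^ 4) htt (by
      rw [← pow_mul, show 4 * 3 = 3 * 2 * 2 from rfl, pow_mul, pow_mul]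
      rcases (hker (y ^ 3)).1 (by rw [map_pow, hy]) with h | h <;> simp [h, pow_two, hzz]) (by rw [h4', hzz])
      (by rw [h4', mem_center_iff.1 hzc t, mul_assoc z, htt, mul_one, mul_inv_cancel])
    have hi : Function.Injective φ := (injective_iff_map_eq_one φ).2 fun m hm => by_contra fun hm1 => hz1 (by
      have : ∀ m : M, m ≠ 1 → m = (gx * gy) ^ 4 ∨ ∃ c, ∃ k : Fin 3, (m * c * m⁻¹ * c⁻¹) ^ (k.1 + 1) = (gx * gy) ^ 4 := by
        decide +kernel
      rw [← h4', ← h1, ← h2, ← map_mul, ← map_pow]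
      rcases this m hm1 with h | ⟨c, k, h⟩ <;> simp [← h, hm])
    exact ⟨(MulEquiv.ofBijective φ (hi.bijective_of_nat_card_le (by rw [card_M, c48]))).symm.trans eGL⟩
  · push Not at ht
    refine Or.inr ⟨c48, cZ, ⟨(QuotientGroup.quotientMulEquivOfEq (hZ.trans hk.symm)).trans
      (QuotientGroup.quotientKerEquivOfSurjective f hf)⟩, fun P => ?_⟩
    have c16 : Nat.card P = 16 := by rw [P.card_eq_multiplicity, c48]; decide +kernel
    rcases Block.isCyclic_or_quatData' P.isPGroup' fun s _ t _ hs ht' => (ht s hs).trans (ht t ht').symm with h | ⟨a, x, n, h⟩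
    · haveI := PGrp.isCyclic_of_le' h (Core.pCore_le_sylow P)
      exact absurd (isCyclic_of_surjective e e.surjective) not_isCyclic_quaternion_two
    · obtain ⟨e'⟩ := h.nonempty_mulEquiv
      have := Nat.card_congr e'.toEquiv
      rw [c16, Nat.card_eq_fintype_card, QuaternionGroup.card] at this
      exact ⟨(show 2 ^ (n + 1) = 4 by omega) ▸ e'⟩

/-- Let G be a finite solvable group in which the intersection of any two distinct Sylow 2-subgroups has 2-rank at most 1 (contains no Klein four-group). Write Q = G/O(G), O(G) the largest normal subgroup of odd order. Then Q has a normal Sylow 2-subgroup; or Q is isomorphic to GL(2,3); or Q has order 48, centre of order 2 with central quotient isomorphic to the symmetric group of degree 4, and generalized quaternion Sylow 2-subgroups of order 16 (the binary octahedral group). The last two are the two representation groups of the symmetric group of degree 4. -/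
theorem result {G : Type*} [Group G] [Finite G] (hs : Group.IsSolvable G)
    (hI : ∀ S T : Sylow 2 G, S ≠ T → Cfsg.PRankLE 2 1 ↥((S : Subgroup G) ⊓ (T : Subgroup G))) :
    (∃ P : Sylow 2 (G ⧸ Cfsg.oddCore G), (P : Subgroup (G ⧸ Cfsg.oddCore G)).Normal) ∨
    Nonempty ((G ⧸ Cfsg.oddCore G) ≃* GL (Fin 2) (ZMod 3)) ∨
    (Nat.card (G ⧸ Cfsg.oddCore G) = 48 ∧ Nat.card ↥(Subgroup.center (G ⧸ Cfsg.oddCore G)) = 2 ∧
      Nonempty ((G ⧸ Cfsg.oddCore G) ⧸ Subgroup.center (G ⧸ Cfsg.oddCore G) ≃* Equiv.Perm (Fin 4)) ∧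
      ∀ P : Sylow 2 (G ⧸ Cfsg.oddCore G), Nonempty (↥(P : Subgroup (G ⧸ Cfsg.oddCore G)) ≃* QuaternionGroup 4)) := by
  have hO : Cfsg.pPrimeCore 2 (G ⧸ Cfsg.oddCore G) = ⊥ := Core.pPrimeCore_quotient_pPrimeCore
  by_contra hn
  refine hn (main inferInstance hO ?_)
  obtain ⟨P⟩ : Nonempty (Sylow 2 (G ⧸ Cfsg.oddCore G)) := inferInstance
  obtain ⟨g, hg⟩ : ∃ g : G ⧸ Cfsg.oddCore G, g • P ≠ P := by
    by_contra hall
    push Not at hall
    exact hn (Or.inl ⟨P, normalizer_eq_top_iff.mp (eq_top_iff.mpr fun g _ =>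
      Sylow.smul_eq_iff_mem_normalizer.mp (hall g))⟩)
  have hF := Core.isPGroup_pCore 2 (G ⧸ Cfsg.oddCore G)
  obtain ⟨D, hD⟩ := exists_sylowIn (p := 2) ((pCore 2 (G ⧸ Cfsg.oddCore G)).comap (QuotientGroup.mk' (Cfsg.oddCore G)))
  obtain ⟨S₁, h1, h2⟩ := S3305.lift _ (g • P) hD.isPGroup (hD.le.trans (comap_mono (Core.pCore_le_sylow _)))
  obtain ⟨T₁, h3, h4⟩ := S3305.lift _ P hD.isPGroup (hD.le.trans (comap_mono (Core.pCore_le_sylow _)))
  have hr := BG1.pRankLE_iff.1 (BG1.pRankLE_mono (le_inf h1 h3)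
    (hI S₁ T₁ fun e => hg (Sylow.ext (by rw [← h2, ← h4, e]))))
  have h5 := hD.map (QuotientGroup.mk' (Cfsg.oddCore G))
  rw [map_comap_eq_self_of_surjective (QuotientGroup.mk'_surjective _)] at h5
  have h6 := h5.eq_of_le hF h5.le le_rfl
  have inj : ∀ d ∈ D, QuotientGroup.mk' (Cfsg.oddCore G) d = 1 → d = 1 := fun d hd h =>
    eq_one_of_odd_of_mem hD.isPGroup hd (Nat.coprime_two_right.1
      (Core.coprime_orderOf_of_mem (Core.coprime_card_pPrimeCore 2 G) ((QuotientGroup.eq_one_iff d).1 h)))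
  have key : ∀ s ∈ pCore 2 (G ⧸ Cfsg.oddCore G), ∀ t ∈ pCore 2 (G ⧸ Cfsg.oddCore G), orderOf s = 2 → orderOf t = 2 →
      Commute s t → s = t := by
    rw [h6]
    rintro _ ⟨a, ha, rfl⟩ _ ⟨b, hb, rfl⟩ hs ht hc
    have a2 : a ^ 2 = 1 := inj _ (pow_mem ha 2) ((map_pow _ _ _).trans (orderOf_dvd_iff_pow_eq_one.1 hs.dvd))
    have b2 : b ^ 2 = 1 := inj _ (pow_mem hb 2) ((map_pow _ _ _).trans (orderOf_dvd_iff_pow_eq_one.1 ht.dvd))
    have ab : Commute a b := commutatorElement_eq_one_iff_commute.1 (inj _ (mul_mem (mul_mem (mul_mem ha hb)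
      (inv_mem ha)) (inv_mem hb)) (by rw [map_commutatorElement]; exact commutatorElement_eq_one_iff_commute.2 hc))
    have cm : ∀ x ∈ ({a, b} : Set G), ∀ y ∈ ({a, b} : Set G), x * y = y * x := by
      rintro x (rfl | rfl) y (rfl | rfl)
      exacts [rfl, ab, ab.symm, rfl]
    have hcm : IsMulCommutative (closure ({a, b} : Set G)) := isMulCommutative_closure cm
    have := hr (closure {a, b}) ((closure_le D).2 (by rintro x (rfl | rfl); exacts [ha, hb])) ⟨hcm, fun x hx => by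
      induction hx using closure_induction with
      | mem x hx => rcases hx with rfl | rfl; exacts [a2, b2]
      | one => exact one_pow 2
      | mul x y hx hy h h' =>
        rw [Commute.mul_pow (congrArg Subtype.val (hcm.1.1 ⟨x, hx⟩ ⟨y, hy⟩)), h, h', one_mul]
      | inv x hx h => rw [inv_pow, h, inv_one]⟩
    by_contra hne
    have a1 : a ≠ 1 := fun e => by simp [e] at hs
    have b1 : b ≠ 1 := fun e => by simp [e] at ht
    have h3 : 2 < (closure ({a, b} : Set G) : Set G).ncard := (Set.two_lt_ncard_iff (Set.toFinite _)).2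
      ⟨1, a, b, one_mem _, subset_closure (by simp), subset_closure (by simp), a1.symm, b1.symm, fun e => hne (e ▸ rfl)⟩
    rw [← Nat.card_coe_set_eq] at h3
    exact absurd this (not_le.2 h3)
  intro s hs t ht hs2 ht2
  obtain ⟨z, hz, hz2, hzc⟩ := Invol.exists_central hF fun e => by
    rw [e, mem_bot] at hs; simp [hs] at hs2
  exact (key s hs z hz hs2 hz2 (hzc s hs).symm).trans (key t ht z hz ht2 hz2 (hzc t ht).symm).symm

end Cfsg.Agent.S3304
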