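import Cfsg.Statements.S3306
import Cfsg.Agent.Lib.Block.IsoElt
import Cfsg.Agent.Lib.Block.BSBig
import Cfsg.Agent.Lib.Coprime.Isaacs
import Cfsg.Agent.Lib.Hall.RealElt
import Cfsg.Agent.Lib.Hall.Supersolvable
import Cfsg.Agent.Lib.FT.Sec14d
import Cfsg.Agent.Lib.Core.PSolvable
import Cfsg.Agent.S3305
import Cfsg.Agent.S3303

set_option autoImplicit false
open Cfsg

open Subgroup Cfsg.Lib
open scoped commutatorElement
open Cfsg.Lib.Invol Cfsg.Lib.Transfer
open scoped Pointwise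
namespace Cfsg.Agent.S3306

theorem fusion {Y : Type*} [Group Y] [Finite Y]
    (hC : ∀ S T : Sylow 2 Y, S ≠ T → IsCyclic ↥((S : Subgroup Y) ⊓ (T : Subgroup Y))) (P : Sylow 2 Y) {z g : Y}
    (hz : z ∈ P) (h2 : orderOf z = 2) (hc : ∀ y ∈ P, Commute z y) (hg : g * z * g⁻¹ ∈ P) :
    ∃ n ∈ normalizer ((P : Subgroup Y) : Set Y), g * z * g⁻¹ = n * z * n⁻¹ := by
  have := fact_two
  obtain ⟨h, hh, hz'⟩ := exists_conj_le_sylow_of_le (H := centralizer {g * z * g⁻¹}) (g • P) (fun y hy => mem_cent.2 (by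
    simpa [mul_assoc] using (commute_conj g (hc _ (mem_smul_sylow.1 hy))).symm)) (isPGroup_zpowers_two h2)
    (zpowers_le.2 (mem_cent.2 (hc _ hg)))
  have e : h⁻¹ * g * z * (h⁻¹ * g)⁻¹ = g * z * g⁻¹ := by
    have := (mem_cent.1 hh).eq
    calc _ = h⁻¹ * ((g * z * g⁻¹) * h) := by group
      _ = _ := by rw [← this]; group
  by_cases hP : (h⁻¹ * g) • P = P
  · exact ⟨_, Sylow.smul_eq_iff_mem_normalizer.1 hP, e.symm⟩
  · refine ⟨1, one_mem _, (eq_of_isCyclic (hC _ _ hP) ⟨mem_smul_sylow.2 ?_, hg⟩ ⟨mem_smul_sylow.2 ?_, hz⟩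
      (by rw [orderOf_conj, h2]) h2).trans (by simp)⟩
    · rw [← e]; simpa [mul_assoc] using hz
    · simpa [mul_assoc] using mem_smul_sylow.1 (hz' z (mem_zpowers z))

theorem pow_mul_aux {X : Type*} [Group X] {V : Subgroup X} {a b : X} {m : ℕ} (hV : V ≤ centralizer (V : Set X))
    (ha : a ∈ centralizer (V : Set X)) (hb : b ∈ centralizer (V : Set X)) (a2 : a * a ∈ V) (b2 : b * b ∈ V)
    (hc : (a * b)⁻¹ * (b * a) ∈ V) : (a * b) ^ (2 * (2 * m)) = a ^ (2 * (2 * m)) * b ^ (2 * (2 * m)) := by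
  obtain ⟨c, hc, e⟩ : ∃ c ∈ V, b * a = a * b * c := ⟨_, hc, by group⟩
  have ca : c * a = a * c := ha c hc
  have cb : c * b = b * c := hb c hc
  have c2 : c ^ 2 = 1 := by
    have : a * a * b * c ^ 2 = a * a * b := calc
      _ = a * (a * b * c) * c := by rw [pow_two]; group
      _ = a * b * (c * a) := by rw [← e, ca]; group
      _ = b * (a * a) := by rw [← mul_assoc, ← e, mul_assoc]
      _ = _ := (hb _ a2).symm
    simpa using this
  have : (a * b) ^ 2 = a ^ 2 * b ^ 2 * c := calc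
    _ = a * (b * a) * b := by rw [pow_two]; group
    _ = a * (a * b) * (c * b) := by rw [e]; group
    _ = _ := by rw [cb, pow_two, pow_two]; group
  rw [pow_mul (a * b), this, Commute.mul_pow, Commute.mul_pow, pow_mul c, c2, one_pow, mul_one, ← pow_mul, ← pow_mul]
  · rw [pow_two, pow_two]; exact hV b2 _ a2
  · rw [pow_two, pow_two]; exact hV hc _ (mul_mem a2 b2)

theorem main {X : Type*} [Group X] [Finite X] (hO : oddCore X = ⊥) {V : Subgroup X} [V.Normal] (hV : IsCyclic V)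
    (hF : IsPGroup 2 V) (hY2 : pCore 2 (X ⧸ V) = ⊥)
    (hC : ∀ S T : Sylow 2 X, S ≠ T → IsCyclic ↥((S : Subgroup X) ⊓ (T : Subgroup X)))
    (hn : ∀ P : Sylow 2 X, (P : Subgroup X) ≠ V) : V ≤ center X := by
  have := fact_two
  by_contra hnc
  have hY := S3305.result hC V
  set π := QuotientGroup.mk' V
  have hπ : Function.Surjective π := QuotientGroup.mk'_surjective V
  have hk : ∀ a, π a = 1 ↔ a ∈ V := fun a => QuotientGroup.eq_one_iff a
  have hVC : V ≤ centralizer (V : Set X) := fun a ha b hb => commute_of_mulComm (PGrp.isMulCommutative_of_isCyclic hV) hb ha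
  have inv : ∀ v ∈ V, v * v = 1 → ∀ g, g * v * g⁻¹ = v := fun v hv h g => by
    by_cases h1 : v = 1
    · simp [h1]
    · exact eq_of_isCyclic hV (Normal.conj_mem inferInstance v hv g) hv (by rw [orderOf_conj, two_of_mul_self h h1])
        (two_of_mul_self h h1)
  obtain ⟨k, hN⟩ : ∃ k, Nat.card V = 2 ^ (k + 2) := by
    obtain ⟨k, hk⟩ := hF.exists_card_eq
    refine ⟨k - 2, by_contra fun h => hnc fun v hv => mem_center_iff.2 fun g => eq_mul_of_mul_inv_eq (inv v hv ?_ g)⟩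
    rw [← pow_two, ← orderOf_dvd_iff_pow_eq_one]
    refine (orderOf_dvd_natCard V hv).trans (hk ▸ (pow_dvd_pow 2 (by_contra fun h' => h ?_)).trans (pow_one 2).dvd)
    rw [hk]; congr; omega
  have hN' : 2 ^ (k + 2) = 2 * (2 * 2 ^ k) := by ring
  have hpow : ∀ a, π a * π a = 1 → (a * a) ^ 2 ^ (k + 2) = 1 := fun a h => by
    rw [← hN, ← orderOf_dvd_iff_pow_eq_one]; exact orderOf_dvd_natCard V ((hk _).1 (by rw [map_mul, h]))
  have K : ∀ a ∈ centralizer (V : Set X), ∀ b ∈ centralizer (V : Set X), π a * π a = 1 → π b * π b = 1 →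
      Commute (π a) (π b) → (a * b) ^ 2 ^ (k + 2) = a ^ 2 ^ (k + 2) * b ^ 2 ^ (k + 2) := fun a ha b hb h1 h2 h3 => by
    rw [hN']
    exact pow_mul_aux hVC ha hb ((hk _).1 (by rw [map_mul, h1])) ((hk _).1 (by rw [map_mul, h2]))
      ((hk _).1 (by simp only [map_mul, map_inv, h3.eq, inv_mul_cancel]))
  let L : Sylow 2 (X ⧸ V) → Sylow 2 X := fun P => P.comapOfKerIsPGroup π ((QuotientGroup.ker_mk' V).symm ▸ hF)
    fun y _ => hπ y
  have hL : ∀ P a, a ∈ (L P : Subgroup X) ↔ π a ∈ P := fun _ _ => Iff.rfl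
  have hVL : ∀ P, V ≤ L P := fun P v hv => (hL P v).2 ((hk v).2 hv ▸ one_mem _)
  have hJ : ∀ P Q : Sylow 2 (X ⧸ V), P ≠ Q → ∀ a, π a ∈ P → π a ∈ Q → π a ≠ 1 →
      a ∈ centralizer (V : Set X) ∧ a ^ 2 ^ (k + 2) ≠ 1 := fun P Q hne a h1 h2 h3 => by
    have hc := hC (L P) (L Q) fun e => hne (Sylow.ext (Subgroup.ext fun y => by
      obtain ⟨y, rfl⟩ := hπ y
      exact (hL P y).symm.trans (e ▸ hL Q y)))
    refine ⟨fun v hv => commute_of_mulComm (PGrp.isMulCommutative_of_isCyclic hc) ⟨hVL P hv, hVL Q hv⟩ ⟨h1, h2⟩,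
      fun h => h3 ((hk a).2 (PGrp.le_of_card_dvd_of_isCyclic hc (zpowers_le.2 ⟨h1, h2⟩) (le_inf (hVL P) (hVL Q)) ?_
        (mem_zpowers a)))⟩
    rw [Nat.card_zpowers, hN]; exact orderOf_dvd_of_pow_eq_one h
  have uniq : ∀ P : Sylow 2 (X ⧸ V), ∀ a, π a ∈ P → π a ≠ 1 → a ^ 2 ^ (k + 2) = 1 → ∀ R : Subgroup (X ⧸ V),
      IsPGroup 2 R → π a ∈ R →
      R ≤ (P : Subgroup (X ⧸ V)) := fun P a h1 h2 h3 R hR h4 => by
    obtain ⟨Q, hQ⟩ := hR.exists_le_sylow
    exact (by_contra fun hne => (hJ P Q hne a h1 (hQ h4) h2).2 h3 : P = Q) ▸ hQ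
  have hYO : oddCore (X ⧸ V) = ⊥ := by
    have ho := Core.odd_card_oddCore (X ⧸ V)
    have h1 : PNil 2 ((oddCore (X ⧸ V)).comap π) := Block.pnil_two_of_isCyclic (T := V) (sylowIn_iff.2
      ⟨fun v hv => by simp [(hk v).2 hv], hF, by
        conv => arg 1; arg 2; arg 1; rw [← QuotientGroup.ker_mk' V, ← MonoidHom.comap_bot]
        rw [relIndex_comap, map_comap_eq_self_of_surjective hπ, relIndex_bot_left]
        exact ho.not_two_dvd_nat⟩) hV
    haveI := resOf_normal (p := 2) ((oddCore (X ⧸ V)).comap π)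
    have h2 := Core.le_oddCore (Nat.coprime_two_right.1 h1.coprime)
    rw [← resOf_eq_self_of_coprime (Nat.coprime_two_right.2 ho), ← map_comap_eq_self_of_surjective hπ (oddCore _),
      ← map_resOf, le_bot_iff.1 (h2.trans hO.le), Subgroup.map_bot]
  obtain ⟨P⟩ : Nonempty (Sylow 2 (X ⧸ V)) := inferInstance
  have hP1 : (P : Subgroup (X ⧸ V)) ≠ ⊥ := fun e => hn (L P) (le_antisymm (fun a ha => (hk a).1 (by
    have : π a ∈ (P : Subgroup (X ⧸ V)) := ha
    rwa [e] at this)) (hVL P))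
  have hZ : ∀ z ∈ P, orderOf z = 2 → (∀ y ∈ P, Commute z y) →
      ∃ n, π n ∈ normalizer ((P : Subgroup (X ⧸ V)) : Set (X ⧸ V)) ∧ π n * z * (π n)⁻¹ ≠ z := fun z hz h2 hc => by
    by_contra hall
    push Not at hall
    have hz' := Block.z_star_elt_aux 1 _ hYO z (sq_of_two h2) (Block.isIsolated_of_sylow P hz fun g hg => by
      obtain ⟨n, hn, e⟩ := fusion hY P hz h2 hc hg
      obtain ⟨n, rfl⟩ := hπ n
      rw [e, hall n hn])
    haveI : (zpowers z).Normal := ⟨fun y hy g => by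
      rwa [mem_center_iff.1 (zpowers_le.2 hz' hy) g, mul_inv_cancel_right]⟩
    exact ne_one_of_two h2 (zpowers_eq_bot.1 (Core.eq_bot_of_pCore_eq_bot hY2 (isPGroup_zpowers_two h2)))
  have cj : ∀ z ∈ P, (∀ y ∈ P, Commute z y) → ∀ n ∈ normalizer ((P : Subgroup (X ⧸ V)) : Set (X ⧸ V)),
      n * z * n⁻¹ ∈ P ∧ ∀ y ∈ P, Commute (n * z * n⁻¹) y := fun z hz hc n hn =>
    ⟨(mem_normalizer_iff.1 hn z).1 hz, fun y hy => by
      simpa [mul_assoc] using commute_conj n (hc _ ((mem_normalizer_iff''.1 hn y).1 hy))⟩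
  have step : ∀ z ∈ P, orderOf z = 2 → (∀ y ∈ P, Commute z y) → ∃ n, z * (π n * z * (π n)⁻¹) ∈ P ∧
      orderOf (z * (π n * z * (π n)⁻¹)) = 2 ∧ (∀ y ∈ P, Commute (z * (π n * z * (π n)⁻¹)) y) ∧
      Commute z (π n * z * (π n)⁻¹) := fun z hz h2 hc => by
    obtain ⟨n, hn, hne⟩ := hZ z hz h2 hc
    obtain ⟨h3, h4⟩ := cj z hz hc _ hn
    refine ⟨n, mul_mem hz h3, two_of_sq ?_ fun e => hne ?_, fun y hy => (hc y hy).mul_left (h4 y hy), hc _ h3⟩
    · rw [(hc _ h3).mul_pow, conj_pow, sq_of_two h2]; simp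
    · exact (eq_inv_of_mul_eq_one_right e).trans (inv_of_two h2)
  obtain ⟨ζ, hζC, hζN, hz, h2, hc⟩ : ∃ ζ ∈ centralizer (V : Set X), ζ ^ 2 ^ (k + 2) = 1 ∧ π ζ ∈ P ∧
      orderOf (π ζ) = 2 ∧ ∀ y ∈ P, Commute (π ζ) y := by
    obtain ⟨z, hz, h2, hc⟩ := exists_central P.2 hP1
    obtain ⟨n, h3, h4, h5, -⟩ := step z hz h2 hc
    obtain ⟨a, rfl⟩ := hπ z
    have e : π a * (π n * π a * (π n)⁻¹) = π ⁅a, n⁆ := by simp [commutatorElement_def, inv_of_two h2, mul_assoc]
    have hm : ⁅a, n⁆ ∈ centralizer (V : Set X) := Hall.commutator_le_centralizer_of_isCyclic_normal V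
      (commutator_mem_commutator (mem_top a) (mem_top n))
    rw [e] at h3 h4 h5
    generalize ⁅a, n⁆ = b at h3 h4 h5 hm
    obtain ⟨m, h6, h7, h8, h9⟩ := step _ h3 h4 h5
    simp only [← map_inv, ← map_mul] at h6 h7 h8 h9
    refine ⟨_, mul_mem hm (Normal.conj_mem inferInstance b hm m), ?_, h6, h7, h8⟩
    have hb : b ^ 2 ^ (k + 2) * b ^ 2 ^ (k + 2) = 1 := by
      rw [← (Commute.refl b).mul_pow, hpow b (mul_self_of_two h4)]
    rw [K b hm _ (Normal.conj_mem inferInstance b hm m) (mul_self_of_two h4) (mul_self_of_two (by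
      rw [map_mul, map_mul, map_inv, orderOf_conj, h4])) h9, conj_pow, inv _ _ hb, hb]
    rw [hN', pow_mul, pow_two]
    exact pow_mem ((hk _).1 (by rw [map_mul, mul_self_of_two h4])) _
  obtain ⟨D, hD, cD⟩ := Coprime.exists_compl_of_coprime (L := (L P : Subgroup X)) le_normalizer
    (fun g hg x hx => (mem_normalizer_iff.1 hg x).1 hx) (by
      rw [(L P).card_eq_multiplicity]
      exact Nat.Coprime.pow_left _ ((Nat.Prime.coprime_iff_not_dvd Nat.prime_two).2 fun h =>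
        (L P).not_dvd_index (h.trans (relIndex_dvd_index_of_le le_normalizer))))
  have oD : (Nat.card D).Coprime (Nat.card (L P)) := by
    rw [cD, (L P).card_eq_multiplicity]
    exact (Nat.Coprime.pow_left _ ((Nat.Prime.coprime_iff_not_dvd Nat.prime_two).2 fun h =>
      (L P).not_dvd_index (h.trans (relIndex_dvd_index_of_le le_normalizer)))).symm
  obtain ⟨c, hcP, hcD, hcC⟩ : ∃ c ∈ (L P : Subgroup X), c ∈ centralizer (D : Set X) ∧ c ∉ centralizer (V : Set X) := by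
    by_contra hall
    push Not at hall
    have h1 : (L P : Subgroup X) ≤ centralizer (V : Set X) := by
      rw [← Coprime.commutator_sup_centralizer (le_sup_right.trans hD.le) oD (Or.inr (by haveI := (L P).2.isNilpotent; infer_instance))]
      exact sup_le ((commutator_mono le_top le_top).trans (Hall.commutator_le_centralizer_of_isCyclic_normal V))
        fun c h => hall c h.1 h.2
    refine hnc fun v hv => mem_center_iff.2 fun g => ((?_ : ⊤ ≤ centralizer (V : Set X)) (mem_top g) v hv).symm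
    rw [← (sylowIn_top (L P)).resOf_sup]
    exact sup_le (resOf_le_iff.2 fun g _ h => S3303.commute_of_odd_of_isCyclic hV hF (Nat.coprime_two_right.1 h)
      (by rw [normalizer_eq_top]; exact mem_top g)) h1
  obtain ⟨a, hac, ht⟩ : ∃ a ∈ zpowers c, orderOf (π a) = 2 := by
    obtain ⟨_, ⟨j, rfl⟩, h⟩ := exists_two_zpowers_of_even (x := π c) (Nat.not_odd_iff_even.1 fun h =>
      hcC (hVC ((hk c).1 (eq_one_of_odd_of_mem P.2 hcP h))))
    exact ⟨c ^ j, zpow_mem_zpowers c j, by rwa [map_zpow]⟩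
  have haP : π a ∈ P := zpowers_le.2 hcP hac
  have tt := mul_self_of_two ht
  have haN : a ^ 2 ^ (k + 2) = 1 := by_contra fun h => hcC fun v hv => by
    have h1 : orderOf (a * a) = 2 ^ (k + 1 + 1) := orderOf_eq_prime_pow (by rwa [← pow_two, ← pow_mul, ← pow_succ']) (hpow a tt)
    have : zpowers (a * a) = V := eq_of_le_of_card_ge (zpowers_le.2 ((hk _).1 (by rw [map_mul, tt])))
      (by rw [Nat.card_zpowers, h1, hN])
    obtain ⟨j, rfl⟩ := zpowers_le.2 (mul_mem hac hac) (this.symm ▸ hv)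
    exact (Commute.refl c).zpow_left j
  have tZ : ¬ ∀ y ∈ P, Commute (π a) y := fun h => by
    obtain ⟨n, hn, hne⟩ := hZ _ haP ht h
    have h1 : n ∈ (L P : Subgroup X) ⊔ D := hD ▸ (comap_normalizer_eq_of_surjective _ hπ).le hn
    refine hne (mul_inv_eq_of_eq_mul (mem_cent.1 ((sup_le (fun y hy => mem_cent.2 (h _ hy).symm) fun d hd => mem_cent.2
      (Commute.map (zpowers_le.2 hcD hac d hd) π) : _ ≤ (centralizer {π a}).comap π) h1)))
  obtain ⟨g, hg⟩ : ∃ g, π g • P ≠ P := by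
    by_contra hall
    push Not at hall
    haveI : (P : Subgroup (X ⧸ V)).Normal := normalizer_eq_top_iff.mp (eq_top_iff.mpr fun g _ => by
      obtain ⟨g, rfl⟩ := hπ g
      exact Sylow.smul_eq_iff_mem_normalizer.mp (hall g))
    exact hP1 (Core.eq_bot_of_pCore_eq_bot hY2 P.2)
  obtain ⟨s, hs⟩ : ∃ s, s = π g * π ζ * (π g)⁻¹ := ⟨_, rfl⟩
  have s2 : orderOf s = 2 := by rw [hs, orderOf_conj, h2]
  have ss := mul_self_of_two s2
  obtain ⟨e, m, hm, hem⟩ := Nat.exists_eq_two_pow_mul_odd (orderOf_pos (π a * s)).ne'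
  have hr : ((π a * s) ^ m) ^ 2 ^ e = 1 := by rw [← pow_mul, mul_comm, ← hem, pow_orderOf_eq_one]
  have hw : (π a * s) ^ m ∈ P := uniq P a haP (ne_one_of_two ht) haN _ (isPGroup_sup_zpowers (k := 1) (isPGroup_zpowers hr)
    (sq_of_two ht) (Hall.mem_normalizer_zpowers_of_inverts (conj_pow_of_inv (left_inverts tt ss) m)))
    (mem_sup_right (mem_zpowers _)) (mem_sup_left (mem_zpowers _))
  obtain ⟨j, ⟨h, -⟩ | ⟨-, hj⟩⟩ := exists_conj_left_mul_zpow tt ss m
  · exact Nat.not_even_iff_odd.2 hm (Int.even_coe_nat m |>.1 h)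
  rw [zpow_natCast] at hj
  have hj' : (π a * s) ^ j * π g * π ζ * ((π a * s) ^ j * π g)⁻¹ = π a * (π a * s) ^ m := by rw [← hj, hs]; group
  obtain ⟨n, hn, e'⟩ := fusion hY P hz h2 hc (hj' ▸ mul_mem haP hw)
  obtain ⟨n, rfl⟩ := hπ n
  obtain ⟨h3, h4⟩ := cj _ hz hc _ hn
  have hw' : (π a * s) ^ m = π (a * (n * ζ * n⁻¹)) := by
    rw [map_mul, map_mul, map_mul, map_inv, ← e', hj', ← mul_assoc, tt, one_mul]
  have z2 : π (n * ζ * n⁻¹) * π (n * ζ * n⁻¹) = 1 := mul_self_of_two (by rw [map_mul, map_mul, map_inv, orderOf_conj, h2])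
  have cm : Commute (π a) (π (n * ζ * n⁻¹)) := by rw [map_mul, map_mul, map_inv]; exact (h4 _ haP).symm
  have ww : (π a * s) ^ m * (π a * s) ^ m = 1 := by
    rw [hw', ← pow_two, map_mul, cm.mul_pow, pow_two, pow_two, tt, z2, one_mul]
  obtain ⟨R, hR1, hR2⟩ := exists_sylow_of_commute (p := 2) (k := 1) (l := 1) ((pow_two _).trans ww) (sq_of_two s2)
    (commute_of_inverts (conj_pow_of_inv (right_inverts tt ss) m) ww)
  have e2 : π (g * ζ * g⁻¹) = s := by rw [hs, map_mul, map_mul, map_inv]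
  have hRQ := uniq (π g • P) (g * ζ * g⁻¹) (mem_smul_sylow.2 (by simpa [mul_assoc] using hz))
    (e2 ▸ ne_one_of_two s2) (by rw [conj_pow, hζN]; simp) R R.2 (e2 ▸ hR2)
  have hζ' := Normal.conj_mem inferInstance ζ hζC n
  obtain ⟨h5, h6⟩ := hJ _ _ hg _ (hw' ▸ hRQ hR1) (hw' ▸ hw) fun h => tZ fun y hy => by
    rw [map_mul, map_mul, map_mul, map_inv] at h
    rw [eq_inv_of_mul_eq_one_left h]; exact (h4 y hy).inv_left
  exact h6 (by rw [K a ((mul_mem_cancel_right hζ').1 h5) _ hζ' tt z2 cm, haN, conj_pow, hζN]; simp)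

/-- Let G be a finite nonsolvable group in which any two distinct Sylow 2-subgroups intersect in a cyclic group, and let N be a solvable normal subgroup of G. Then the image of N in G/O(G) is a cyclic 2-group contained in the centre of G/O(G) (O(G) the largest normal subgroup of odd order). In other words the solvable radical of G is V·O(G) with V a cyclic 2-group central modulo O(G). -/
theorem result {G : Type*} [Group G] [Finite G] (hns : ¬ Group.IsSolvable G)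
    (hC : ∀ S T : Sylow 2 G, S ≠ T → IsCyclic ↥((S : Subgroup G) ⊓ (T : Subgroup G)))
    (N : Subgroup G) [N.Normal] (hN : Group.IsSolvable ↥N) :
    IsCyclic ↥(N.map (QuotientGroup.mk' (Cfsg.oddCore G))) ∧ IsPGroup 2 ↥(N.map (QuotientGroup.mk' (Cfsg.oddCore G))) ∧
      N.map (QuotientGroup.mk' (Cfsg.oddCore G)) ≤ Subgroup.center (G ⧸ Cfsg.oddCore G) := by
  have := fact_two
  have hQ := S3305.result hC (Cfsg.oddCore G)
  have hO : Cfsg.pPrimeCore 2 (G ⧸ Cfsg.oddCore G) = ⊥ := Core.pPrimeCore_quotient_pPrimeCore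
  have hn : ∀ P : Sylow 2 (G ⧸ Cfsg.oddCore G), ¬ (P : Subgroup (G ⧸ Cfsg.oddCore G)).Normal := fun P h => hns (by
    haveI := FT.odd_order_solvable _ (Core.odd_card_oddCore G)
    haveI := FT.odd_order_solvable (_ ⧸ (P : Subgroup (G ⧸ Cfsg.oddCore G))) (Nat.odd_iff.2
      (Nat.two_dvd_ne_zero.1 P.not_dvd_index))
    haveI := P.2.isNilpotent
    haveI := Group.isSolvable_of_ker_le_range (P : Subgroup (G ⧸ Cfsg.oddCore G)).subtype
      (QuotientGroup.mk' (P : Subgroup (G ⧸ Cfsg.oddCore G))) (by simp)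
    exact Group.isSolvable_of_ker_le_range (Cfsg.oddCore G).subtype (QuotientGroup.mk' (Cfsg.oddCore G)) (by simp))
  obtain ⟨P⟩ : Nonempty (Sylow 2 (G ⧸ Cfsg.oddCore G)) := inferInstance
  obtain ⟨g, hg⟩ : ∃ g : G ⧸ Cfsg.oddCore G, g • P ≠ P := by
    by_contra hall
    push Not at hall
    exact hn P (normalizer_eq_top_iff.mp (eq_top_iff.mpr fun g _ => Sylow.smul_eq_iff_mem_normalizer.mp (hall g)))
  have hV := PGrp.isCyclic_of_le' (hQ _ _ hg) (le_inf (Core.pCore_le_sylow _) (Core.pCore_le_sylow _))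
  have hZ := main hO hV (Core.isPGroup_pCore 2 _) Core.pCore_quotient_pCore hQ fun P h => hn P (h ▸ inferInstance)
  haveI := (inferInstance : N.Normal).map _ (QuotientGroup.mk'_surjective (Cfsg.oddCore G))
  generalize_proofs at *
  set M := N.map (QuotientGroup.mk' (Cfsg.oddCore G))
  haveI : Group.IsSolvable M := Group.isSolvable_of_surjective (MonoidHom.subgroupMap_surjective _ N)
  have h2 : IsPGroup 2 M := Core.pCore_eq_top_iff.1 (eq_top_iff.2 fun x _ =>
    Core.centralizer_pCore_le_of_isPSolvable Nat.prime_two (Core.isPSolvable_of_isSolvable Nat.prime_two)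
      (Core.pPrimeCore_eq_bot_of_normal hO M) fun y hy => Subtype.ext
        (mem_center_iff.1 (hZ (Core.map_subtype_pCore_le M ⟨y, hy, rfl⟩)) x).symm)
  exact ⟨PGrp.isCyclic_of_le' hV (Core.le_pCore h2), h2, (Core.le_pCore h2).trans hZ⟩

end Cfsg.Agent.S3306
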