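import Cfsg.Statements.S3307
import Cfsg.Agent.Lib.GW.Cover

set_option autoImplicit false
open Cfsg Cfsg.Lib Cfsg.Lib.GW Cfsg.Lib.Core Subgroup
open Cfsg.Lib.Transfer (SylowIn)

namespace Cfsg.Agent.S3307

theorem lift {G X : Type*} [Group G] [Finite G] [Group X] [Finite X] {f : G →* X} (hf : Function.Surjective f)
    (hC : ∀ S T : Sylow 2 G, S ≠ T → IsCyclic ↥((S : Subgroup G) ⊓ (T : Subgroup G))) {S T : Subgroup X}
    (hS : SylowIn 2 S ⊤) (hT : SylowIn 2 T ⊤) (h : ¬ IsCyclic ↥(S ⊓ T)) : S = T := by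
  obtain ⟨D, hD⟩ := Transfer.exists_sylowIn 2 ((S ⊓ T).comap f)
  have key : ∀ {R : Subgroup X}, SylowIn 2 R ⊤ → S ⊓ T ≤ R → ∃ P : Sylow 2 G, D ≤ P ∧ (P : Subgroup G).map f = R := by
    intro R hR h1
    obtain ⟨P, h2, h3⟩ := Transfer.exists_sylowIn_ge hD.2 (hD.1.trans (comap_mono h1))
    obtain ⟨P, rfl⟩ := SylowIn.exists_sylow_top (T := P) ⟨le_top, h3.2, by
      rw [relIndex_top_right, ← relIndex_mul_index h3.1, index_comap_of_surjective _ hf, Nat.prime_two.dvd_mul, not_or]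
      exact ⟨h3.3, relIndex_top_right R ▸ hR.3⟩⟩
    have h4 := h3.map f
    rw [map_comap_eq_self_of_surjective hf] at h4
    exact ⟨P, h2, (h4.eq_of_le hR.2 h4.1 le_rfl).symm⟩
  obtain ⟨P, h1, rfl⟩ := key hS inf_le_left
  obtain ⟨Q, h2, rfl⟩ := key hT inf_le_right
  by_contra hne
  have h4 := hD.map f
  rw [map_comap_eq_self_of_surjective hf] at h4
  have := hC P Q fun e => hne (by rw [e])
  exact h (h4.eq_of_le (hS.2.to_le inf_le_left) h4.1 le_rfl ▸
    PGrp.isCyclic_map f (Subgroup.isCyclic_of_le (le_inf h1 h2)))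

/-- Let G be a finite nonsolvable group whose Sylow 2-subgroups are generalized quaternion and in which any two distinct Sylow 2-subgroups intersect in a cyclic group. Then the Sylow 2-subgroups are quaternion of order 8, and G has a normal subgroup G₁ of odd index containing O(G) (the largest normal subgroup of odd order) with G₁/O(G) isomorphic to SL(2,q) for some prime power q > 3 with q ≡ 3 or 5 mod 8. -/
theorem result {G : Type*} [Group G] [Finite G] (hns : ¬ Group.IsSolvable G)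
    (hQ : ∀ S : Sylow 2 G, ∃ n : ℕ, Nonempty (↥(S : Subgroup G) ≃* QuaternionGroup (2 ^ (n + 1))))
    (hC : ∀ S T : Sylow 2 G, S ≠ T → IsCyclic ↥((S : Subgroup G) ⊓ (T : Subgroup G))) :
    (∀ S : Sylow 2 G, Nonempty (↥(S : Subgroup G) ≃* QuaternionGroup 2)) ∧
    ∃ (G₁ : Subgroup G) (_ : G₁.Normal) (_ : ((Cfsg.oddCore G).subgroupOf G₁).Normal),
      Odd G₁.index ∧ Cfsg.oddCore G ≤ G₁ ∧
      ∃ (F : Type) (_ : Field F) (_ : Fintype F), (Fintype.card F % 8 = 3 ∨ Fintype.card F % 8 = 5) ∧ 3 < Fintype.card F ∧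
        Nonempty (↥G₁ ⧸ (Cfsg.oddCore G).subgroupOf G₁ ≃* Matrix.SpecialLinearGroup (Fin 2) F) := by
  obtain ⟨S₀⟩ : Nonempty (Sylow 2 G) := inferInstance
  have hf := QuotientGroup.mk'_surjective (pPrimeCore 2 G)
  have hO := pPrimeCore_quotient_pPrimeCore (p := 2) (G := G)
  have hk : Odd (Nat.card (QuotientGroup.mk' (pPrimeCore 2 G)).ker) := by
    rw [QuotientGroup.ker_mk']; exact odd_card_oddCore G
  obtain ⟨n, ⟨e₀⟩⟩ := hQ S₀
  have hU := uniqInv_of_odd_ker (uniqInv_of_quat (Transfer.sylowIn_top S₀) e₀) hf hk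
  have hns1 : ¬ Group.IsSolvable (G ⧸ pPrimeCore 2 G) := fun _ =>
    have := solvable_of_odd (odd_card_oddCore G); hns (isSolvable_of_normal_of_quotient (oddCore G))
  obtain ⟨z, hz⟩ := Invol.exists_two_of_even (G := G ⧸ pPrimeCore 2 G) (Nat.not_odd_iff_even.1 fun h =>
    have := solvable_of_odd (K := (⊤ : Subgroup (G ⧸ pPrimeCore 2 G))) (by rwa [card_top]); hns1 (isSolvable_of_equiv topEquiv))
  obtain ⟨_, h1, h2, h3⟩ := exists_quot hU hO hz
  have hf' := QuotientGroup.mk'_surjective (zpowers z)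
  have hns2 : ¬ Group.IsSolvable ((G ⧸ pPrimeCore 2 G) ⧸ zpowers z) := fun _ =>
    have := isSolvable_of_isPGroup Nat.prime_two (Invol.isPGroup_zpowers_two hz)
    hns1 (isSolvable_of_normal_of_quotient (zpowers z))
  obtain ⟨E, hE⟩ := h1.str h2 fun h => hns2 (isSolvable_of_isPGroup Nat.prime_two h)
  have := hE.normal
  obtain ⟨a, -, b, -, hab⟩ := hE.nc h1
  replace hab : Kl (a : (G ⧸ pPrimeCore 2 G) ⧸ zpowers z) b :=
    ⟨by simpa using hab.ha, by simpa using hab.hb, fun e => hab.ne (Subtype.ext e), hab.comm.map E.subtype⟩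
  have hN : Nc E := ⟨_, a.2, _, b.2, hab⟩
  have key : ∀ {s t : (G ⧸ pPrimeCore 2 G) ⧸ zpowers z}, s ∈ E → Kl s t →
      ∃ T, SylowIn 2 T ⊤ ∧ s ∈ T ∧ t ∈ T ∧ T ≤ centralizer {s} := by
    intro s t hs h
    obtain ⟨T, h4, h5⟩ := Transfer.exists_sylowIn_ge h.isPGroup (Kl.closure_le (P := centralizer {s})
      (Invol.mem_cent.2 (Commute.refl s)) (Invol.mem_cent.2 h.comm))
    obtain ⟨R, hR⟩ := Transfer.exists_sylowIn 2 (⊤ : Subgroup ((G ⧸ pPrimeCore 2 G) ⧸ zpowers z))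
    obtain ⟨u, h6, h7, h8⟩ := Invol.exists_central hR.2 fun e => by
      have := hR.card_dvd h.isPGroup le_top
      rw [e, h.card, card_bot] at this; omega
    have h9 : R ≤ centralizer {u} := fun x hx => Invol.mem_cent.2 (h8 x hx).symm
    obtain ⟨g, -, rfl⟩ := h1.oneClass hE.no2 u (h1.mem_of_nc h7 hR h9 le_top (by simp [normalizer_eq_top]) hN) s hs h7 h.ha
    refine ⟨T, hR.of_card_le le_top h5.2 ?_, h4 (Kl.mem_left _ _), h4 (Kl.mem_right _ _), h5.1⟩
    rw [← Transfer.card_cj g]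
    exact h5.card_le (Transfer.isPGroup_cj g hR.2) (Invol.centralizer_conj g u ▸ Transfer.cj_mono g h9)
  obtain ⟨T, hT, h4, h5, h6⟩ := key a.2 hab
  obtain ⟨T', hT', h7, h8, h9⟩ := key b.2 hab.symm
  obtain rfl := lift (f := (QuotientGroup.mk' _).comp (QuotientGroup.mk' _)) (hf'.comp hf) hC hT hT'
    (hab.not_cyclic ⟨h4, h8⟩ ⟨h5, h7⟩)
  have hTE : T = closure {(a : (G ⧸ pPrimeCore 2 G) ⧸ zpowers z), ↑b} := le_antisymm (fun x hx => h1.mem_of_kl hab
    (Kl.mem_left _ _) (Kl.mem_right _ _) (Two.of_mem hT.2 hx) (Invol.mem_cent.1 (h6 hx)) (Invol.mem_cent.1 (h9 hx)))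
    (Kl.closure_le h4 h5)
  have hi : Odd T.index := by simpa [← even_iff_two_dvd] using hT.3
  have h8 : ¬ 8 ∣ Nat.card ((G ⧸ pPrimeCore 2 G) ⧸ zpowers z) := by
    rw [← T.card_mul_index, hTE, hab.card, ← hTE]; obtain ⟨k, hk⟩ := hi; omega
  refine ⟨fun S => ?_, ?_⟩
  · obtain ⟨n, ⟨e⟩⟩ := hQ S
    obtain rfl | n := n
    · exact ⟨e⟩
    have := card_subgroup_dvd_card (S : Subgroup G)
    rw [Nat.card_congr e.toEquiv, Nat.card_eq_fintype_card, QuaternionGroup.card, card_eq_mul_ker hf, card_eq_mul_ker hf', h3,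
      show 4 * 2 ^ (n + 1 + 1) = 2 ^ 4 * 2 ^ n by ring] at this
    have := (Nat.Coprime.pow_left 4 (Nat.coprime_two_left.2 hk)).dvd_of_dvd_mul_right (dvd_of_mul_right_dvd this)
    omega
  obtain ⟨F, _, _, ho, ⟨u⟩⟩ | ⟨-, ⟨u⟩⟩ := hE.type
  swap
  · exact (h8 (by rw [Nat.card_congr u.toEquiv, Nat.card_eq_fintype_card, card_alternatingGroup]; decide)).elim
  rw [← Nat.card_eq_fintype_card] at ho
  have h10 := Linear.card_PSL_two_of_odd ho
  have h11 := card_subgroup_dvd_card E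
  rw [Nat.card_congr u.toEquiv] at h11
  refine ⟨(E.comap (QuotientGroup.mk' _)).comap (QuotientGroup.mk' _), inferInstance, inferInstance, ?_, ?_, F, inferInstance, inferInstance, ?_, ?_, ?_⟩
  · rw [index_comap_of_surjective _ hf, index_comap_of_surjective _ hf']
    exact hi.of_dvd_nat (index_dvd_of_le (hTE ▸ Kl.closure_le a.2 b.2))
  · exact (QuotientGroup.ker_mk' _).ge.trans (ker_le_comap _ _)
  · rw [← Nat.card_eq_fintype_card]
    by_contra hc
    refine h8 (Dvd.dvd.trans (Nat.dvd_of_mul_dvd_mul_left two_pos ?_) h11)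
    rw [h10, mul_assoc]
    refine Dvd.dvd.mul_left ?_ _
    obtain ⟨k, hk⟩ := ho
    obtain h | h : 8 ∣ Nat.card F - 1 ∨ 8 ∣ Nat.card F + 1 := by omega
    · rw [mul_comm 2]; exact mul_dvd_mul h (by omega)
    · exact mul_dvd_mul (by omega) h
  · rw [← Nat.card_eq_fintype_card]
    by_contra! hc
    have := Linear.isSolvable_PSL2 hc
    have := isSolvable_of_equiv u.symm
    have : Group.IsSolvable (_ ⧸ E) := Group.isSolvable_of_comm fun x y =>
      ((Normal.quotient_commutative_iff_commutator_le.2 hE.der).is_comm.comm x y)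
    exact hns2 (isSolvable_of_normal_of_quotient E)
  · obtain ⟨v⟩ := sl2_comap (two_ne_zero_of_odd ho) hU hf' h3 u
    refine ⟨((QuotientGroup.quotientMulEquivOfEq ?_).trans (QuotientGroup.quotientKerEquivOfSurjective _
      (MonoidHom.subgroupComap_surjective_of_surjective _ _ hf))).trans v⟩
    ext x
    exact ((MonoidHom.mem_ker.trans Subtype.ext_iff).trans (QuotientGroup.eq_one_iff x.1)).symm

end Cfsg.Agent.S3307
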