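import Cfsg.Statements.S3308
import Cfsg.Agent.Lib.JTW.Herz2

set_option autoImplicit false
open Cfsg

namespace Cfsg.Agent.S3308

open Cfsg.Lib Cfsg.Lib.JTW Cfsg.Lib.Amalg Subgroup in

/-- Let G be a finite nonsolvable group in which any two distinct Sylow 2-subgroups intersect in a cyclic group, and let R be its solvable radical (the largest solvable normal subgroup). Then G has a normal subgroup G₁ of odd index containing R such that G₁/R is a non-abelian simple group isomorphic to PSL(2, 2^n) (n ≥ 2), a Suzuki group over the field with 2^(2m+1) elements (m ≥ 1), PSU(3, 2^n) (n ≥ 2), PSL(2, q) with q ≡ 3 or 5 mod 8 and q > 5, or simple of order 175560 (the order of the first Janko group). -/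
theorem result {G : Type*} [Group G] [Finite G] (hns : ¬ Group.IsSolvable G)
    (hC : ∀ S T : Sylow 2 G, S ≠ T → IsCyclic ↥((S : Subgroup G) ⊓ (T : Subgroup G)))
    (R : Subgroup G) [R.Normal] (hR : Group.IsSolvable ↥R) (hRmax : ∀ N : Subgroup G, N.Normal → Group.IsSolvable ↥N → N ≤ R) :
    ∃ (G₁ : Subgroup G) (_ : G₁.Normal) (_ : (R.subgroupOf G₁).Normal), Odd G₁.index ∧ R ≤ G₁ ∧
      IsSimpleGroup (↥G₁ ⧸ R.subgroupOf G₁) ∧ ¬ IsMulCommutative (↥G₁ ⧸ R.subgroupOf G₁) ∧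
      ((∃ (n : ℕ) (F : Type) (_ : Field F) (_ : Fintype F), 2 ≤ n ∧ Fintype.card F = 2 ^ n ∧
          Nonempty (↥G₁ ⧸ R.subgroupOf G₁ ≃* Matrix.ProjectiveSpecialLinearGroup (Fin 2) F)) ∨
      (∃ (m : ℕ) (F : Type) (_ : Field F) (_ : Fintype F), 1 ≤ m ∧ Fintype.card F = 2 ^ (2 * m + 1) ∧
          Nonempty (↥G₁ ⧸ R.subgroupOf G₁ ≃* ↥(Cfsg.Lie.Sz F (2 ^ (m + 1))))) ∨
      (∃ (n : ℕ) (F : Type) (_ : Field F) (_ : Fintype F), 2 ≤ n ∧ Fintype.card F = 4 ^ n ∧
          Nonempty (↥G₁ ⧸ R.subgroupOf G₁ ≃* Cfsg.PSU 3 F (2 ^ n))) ∨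
      (∃ (F : Type) (_ : Field F) (_ : Fintype F), (Fintype.card F % 8 = 3 ∨ Fintype.card F % 8 = 5) ∧ 5 < Fintype.card F ∧
          Nonempty (↥G₁ ⧸ R.subgroupOf G₁ ≃* Matrix.ProjectiveSpecialLinearGroup (Fin 2) F)) ∨
      Cfsg.IsJ1 (↥G₁ ⧸ R.subgroupOf G₁)) := by
  have hf := QuotientGroup.mk'_surjective R
  have h1 : U4 (G ⧸ R) := fun S' T' hS hT n => by_contra fun e => by
    obtain ⟨S, T, h1, h2, rfl, rfl, e'⟩ := lift_pair hf hS hT
    have : IsCyclic ↥(S ⊓ T) := hC h1.toSylowTop h2.toSylowTop fun k => e (congrArg (fun P : Sylow 2 G => (P : Subgroup G).map _) k.symm)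
    exact (e' ▸ n).not_cyclic (isCyclic_of_surjective _ (MonoidHom.subgroupMap_surjective _ (S ⊓ T)))
  have : Nontrivial (G ⧸ R) := not_subsingleton_iff_nontrivial.1 fun _ => hns (Core.isSolvable_of_normal_of_quotient R)
  have h2 : fittingSubgroup (G ⧸ R) = ⊥ := by
    have := Layer.fit_normal (G := G ⧸ R)
    have := Layer.fit_solvable (G := G ⧸ R)
    have : (R.subgroupOf ((fittingSubgroup (G ⧸ R)).comap (QuotientGroup.mk' R))).Normal := inferInstance
    obtain ⟨e⟩ := quot_equiv hf (QuotientGroup.ker_mk' R) (fittingSubgroup (G ⧸ R))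
    have := Group.isSolvable_of_isSolvable_injective (f := e.toMonoidHom) e.injective
    have e' := subgroupOfEquivOfLe (QuotientGroup.le_comap_mk' R (fittingSubgroup (G ⧸ R)))
    have := Group.isSolvable_of_isSolvable_injective (f := e'.toMonoidHom) e'.injective
    rw [← map_comap_eq_self_of_surjective hf (fittingSubgroup _), Subgroup.map_eq_bot_iff, QuotientGroup.ker_mk']
    exact hRmax _ inferInstance (Core.isSolvable_of_normal_of_quotient (R.subgroupOf _))
  obtain ⟨K, _, h3, h4, h5, h6⟩ := h1.core h2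
  obtain ⟨e⟩ := quot_equiv hf (QuotientGroup.ker_mk' R) K
  exact ⟨K.comap (QuotientGroup.mk' R), inferInstance, inferInstance, (index_comap_of_surjective K hf).symm ▸ h3,
    QuotientGroup.le_comap_mk' R K, e.isSimpleGroup, fun k => h5 ⟨⟨fun a b => e.symm.injective (by
      rw [map_mul, map_mul, k.is_comm.comm])⟩⟩, h6.of_equiv e⟩

end Cfsg.Agent.S3308
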