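import Cfsg.Statements.S3309
import Cfsg.Agent.Lib.Exc.Chz

set_option autoImplicit false
open Cfsg Cfsg.Lib Cfsg.Lib.Invol Cfsg.Lib.Transfer Subgroup DihedralGroup

namespace Cfsg.Agent.S3309

abbrev X := Multiplicative (ZMod 2) × DihedralGroup 4
abbrev t : X := (Multiplicative.ofAdd 1, 1)
abbrev z : X := (1, r 2)

/-- the two dihedral maximal subgroups containing the rotations -/
def M (e : ZMod 2) : Subgroup X where
  carrier := {x | x.1 = match x.2 with | r _ => 1 | sr _ => Multiplicative.ofAdd e}
  one_mem' := rfl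
  mul_mem' {a b} := by revert a b e; decide
  inv_mem' {a} := by revert a e; decide

instance (e : ZMod 2) : DecidablePred (· ∈ M e) := fun x =>
  inferInstanceAs (Decidable (x.1 = match x.2 with | r _ => 1 | sr _ => Multiplicative.ofAdd e))

theorem index_M (e : ZMod 2) : (M e).index = 2 := index_eq_two_iff.2 ⟨t, by revert e; decide⟩

set_option synthInstance.maxSize 1000 in
theorem inv_M : ∀ e x, x ∈ M e → x * x = 1 → x = 1 ∨ x = z ∨ (∃ u, u * x * u⁻¹ = (Multiplicative.ofAdd e, sr 0)) ∨
    ∃ u, u * x * u⁻¹ = (Multiplicative.ofAdd e, sr 1) := by decide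

/-- A finite group whose Sylow 2-subgroups are isomorphic to the direct product of a group of order 2 and the dihedral group of order 8 is not a non-abelian simple group. -/
theorem result {G : Type*} [Group G] [Finite G] (S : Sylow 2 G) (hS : Nonempty (↥(S : Subgroup G) ≃* Multiplicative (ZMod 2) × DihedralGroup 4))
    [IsSimpleGroup G] (hG : ¬ IsMulCommutative G) : False := by
  obtain ⟨e⟩ := hS
  let f : X →* G := (S : Subgroup G).subtype.comp e.symm.toMonoidHom
  have hf : Function.Injective f := (S : Subgroup G).subtype_injective.comp e.symm.injective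
  have hr : ∀ g, g ∈ (S : Subgroup G) ↔ ∃ x, f x = g := fun g =>
    ⟨fun h => ⟨e ⟨g, h⟩, by simp [f]⟩, by rintro ⟨x, rfl⟩; exact (e.symm x).2⟩
  have h1 : ∀ x y : X, (∀ u, u * x = x * u) → (∀ u, u * y = y * u) → IsConj (f x) (f y) →
      ∃ v ∈ normalizer ((S : Subgroup G) : Set G), v * f x * v⁻¹ = f y := fun x y hx hy h => by
    obtain ⟨g, h⟩ := isConj_iff.1 h
    have k : ∀ x : X, (∀ u, u * x = x * u) → f x ∈ centralizer ((S : Subgroup G) : Set G) := fun x hx u hu => by
      obtain ⟨u, rfl⟩ := (hr u).1 hu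
      rw [← map_mul, hx, map_mul]
    obtain ⟨v, hv, h'⟩ := (sylowIn_top S).exists_normalizer_conj_eq (mem_top g) (k x hx) (h ▸ k y hy)
    exact ⟨v, hv.2, h' ▸ h⟩
  have h2 : ∀ v ∈ normalizer ((S : Subgroup G) : Set G), v * f z * v⁻¹ = f z := fun v hv => by
    obtain ⟨y, hy⟩ := (hr _).1 (conj_mem_of_mem_normalizer hv ((hr _).2 ⟨(1, r 1), rfl⟩))
    have a : v * f z * v⁻¹ = f (y * y) := by
      rw [map_mul, hy, show z = (1, r 1) * (1, r 1) from rfl, map_mul]; group
    rcases (show ∀ y : X, y * y = 1 ∨ y * y = z by decide) y with h | h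
    · rw [h, map_one, conj_eq_one_iff, map_eq_one_iff f hf] at a
      exact absurd a (by decide)
    · rw [a, h]
  have h3 : ∀ x : X, (∀ u, u * x = x * u) → IsConj (f z) (f x) → z = x := fun x hx h => by
    obtain ⟨v, hv, h⟩ := h1 z x (by decide) hx h
    exact hf ((h2 v hv).symm.trans h)
  have h4 : ¬ IsConj (f t) (f (t * z)) := fun h => by
    obtain ⟨v, hv, h⟩ := h1 _ _ (by decide) (by decide) h
    obtain ⟨m, hm, h'⟩ := exists_odd_pow_mem S hv
    obtain ⟨u, hu⟩ := (hr _).1 h'
    have := conj_odd_pow_of_swap h (by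
      rw [map_mul, ← conj_mul, h, h2 v hv, ← map_mul]; rfl) hm
    rw [← hu, ← map_inv, ← map_mul, ← map_mul, hf.eq_iff] at this
    exact (show ∀ u : X, u * t * u⁻¹ ≠ t * z by decide) u this
  have h5 : ∀ e, ∀ x : X, (∀ u, u * x = x * u) → x * x = 1 → x ≠ 1 → z ≠ x →
      IsConj (f x) (f (Multiplicative.ofAdd e, sr 0)) ∨ IsConj (f x) (f (Multiplicative.ofAdd e, sr 1)) := fun e x hx a b c => by
    have hx2 : orderOf (f x) = 2 := by rw [orderOf_injective f hf]; exact two_of_mul_self a b
    obtain ⟨g, y, hy, h⟩ := thompson_transfer' (Exc.index_ne_two hG) (odd_index_sylow S) (M := (M e).map f) (by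
      rw [show (S : Subgroup G) = (⊤ : Subgroup X).map f from Subgroup.ext fun g => by simp [hr],
        relIndex_map_map_of_injective _ _ hf, relIndex_top_right, index_M]) hx2
    have k : IsConj (f x) (f y) := h ▸ isConj_conj g _
    have k2 := orderOf_of_isConj k
    rw [hx2, orderOf_injective f hf] at k2
    rcases inv_M e y hy (mul_self_of_two k2.symm) with rfl | rfl | ⟨u, h⟩ | ⟨u, h⟩
    exacts [absurd rfl (ne_one_of_two k2.symm), absurd (h3 x hx k.symm) c,
      Or.inl (k.trans (h ▸ f.map_isConj (isConj_conj u y))), Or.inr (k.trans (h ▸ f.map_isConj (isConj_conj u y)))]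
  have h6 : ∀ e (i : ZMod 4), ¬ IsConj (f z) (f (Multiplicative.ofAdd e, sr i)) := fun e i h => by
    have a := h5 e t (by decide) (by decide) (by decide) (by decide)
    have b := h5 e (t * z) (by decide) (by decide) (by decide) (by decide)
    have c : ¬ IsConj (f z) (f t) := fun h => absurd (h3 t (by decide) h) (by decide)
    have d : ¬ IsConj (f z) (f (t * z)) := fun h => absurd (h3 _ (by decide) h) (by decide)
    rcases inv_M e (Multiplicative.ofAdd e, sr i) rfl (by clear h a b; revert e i; decide) with k | k | ⟨u, k⟩ | ⟨u, k⟩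
    · cases congrArg Prod.snd k
    · cases congrArg Prod.snd k
    all_goals
      have k' := h.trans (k ▸ f.map_isConj (isConj_conj u _))
      rcases a with a | a <;> rcases b with b | b
      all_goals first | exact h4 (a.trans b.symm) | exact c (k'.trans a.symm) | exact d (k'.trans b.symm)
  have hz : orderOf (f z) = 2 := by rw [orderOf_injective f hf]; exact two_of_mul_self (by decide) (by decide)
  have h7 := Block.z_star_elt_aux 1 G (Exc.oddCore_eq_bot hG) (f z) (sq_of_two hz)
    (Block.isIsolated_of_sylow S ((hr _).2 ⟨z, rfl⟩) fun g hg => by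
      obtain ⟨⟨a, i | i⟩, hy⟩ := (hr _).1 hg
      · have k : IsConj (f z) (f (a, r i)) := hy ▸ isConj_conj g _
        have k2 := orderOf_of_isConj k
        rw [hz, orderOf_injective f hf] at k2
        rw [← hy, h3 _ ((show ∀ a i, (a, r i) * (a, r i) = (1 : X) → ∀ u : X, u * (a, r i) = (a, r i) * u by decide) a i
          (mul_self_of_two k2.symm)) k]
      · exact absurd (hy ▸ isConj_conj g _) (h6 a.toAdd i))
  rw [Small.center_eq_bot_of_simple hG, mem_bot] at h7
  exact ne_one_of_two hz h7

end Cfsg.Agent.S3309
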