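import Cfsg.Statements.S3310
import Cfsg.Agent.Lib.JTW.Herz5

set_option autoImplicit false
open Cfsg

namespace Cfsg.Agent.S3310

open Cfsg.Lib Cfsg.Lib.JTW Cfsg.Lib.Amalg Cfsg.Lib.GW Subgroup in

/-- Let G be a finite nonsolvable group; write O(G) for its largest normal subgroup of odd order and O₂(G) for its largest normal 2-subgroup. Suppose that every intersection of two distinct Sylow 2-subgroups of G has 2-rank at most 1, that some two distinct Sylow 2-subgroups of G/O(G) have a non-cyclic intersection, and that no Sylow 2-subgroup of G is a quaternion group, ordinary or generalized (of order 2^k ≥ 8). Then either (a) O₂(G) is a quaternion group, ordinary or generalized (of order 2^k ≥ 8), and G has a normal subgroup G₁ of odd index containing O₂(G)O(G) with G₁/O₂(G)O(G) isomorphic to PSL(2,2ⁿ) (n ≥ 2), a Suzuki group over the field with 2^(2m+1) elements (m ≥ 1), or PSU(3,2ⁿ) (n ≥ 2); or (b) G has a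 normal subgroup G₁ containing O(G), of index odd or twice an odd number, with G₁/O(G) isomorphic to the central product of two copies of SL(2,5) with amalgamated centres. -/
theorem result {G : Type*} [Group G] [Finite G] (hns : ¬ Group.IsSolvable G)
    (hI : ∀ S T : Sylow 2 G, S ≠ T → Cfsg.PRankLE 2 1 ↥((S : Subgroup G) ⊓ (T : Subgroup G)))
    (hnC : ∃ S T : Sylow 2 (G ⧸ Cfsg.oddCore G), S ≠ T ∧
      ¬ IsCyclic ↥((S : Subgroup (G ⧸ Cfsg.oddCore G)) ⊓ (T : Subgroup (G ⧸ Cfsg.oddCore G))))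
    (hnQ : ∀ S : Sylow 2 G, ∀ n : ℕ, IsEmpty (↥(S : Subgroup G) ≃* QuaternionGroup (2 ^ (n + 1)))) :
    (∃ (G₁ : Subgroup G) (_ : G₁.Normal) (_ : ((Cfsg.pCore 2 G ⊔ Cfsg.oddCore G).subgroupOf G₁).Normal),
      Odd G₁.index ∧ Cfsg.pCore 2 G ⊔ Cfsg.oddCore G ≤ G₁ ∧
      (∃ n : ℕ, Nonempty (↥(Cfsg.pCore 2 G) ≃* QuaternionGroup (2 ^ (n + 1)))) ∧
      ((∃ (n : ℕ) (F : Type) (_ : Field F) (_ : Fintype F), 2 ≤ n ∧ Fintype.card F = 2 ^ n ∧
          Nonempty (↥G₁ ⧸ (Cfsg.pCore 2 G ⊔ Cfsg.oddCore G).subgroupOf G₁ ≃* Matrix.ProjectiveSpecialLinearGroup (Fin 2) F)) ∨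
       (∃ (m : ℕ) (F : Type) (_ : Field F) (_ : Fintype F), 1 ≤ m ∧ Fintype.card F = 2 ^ (2 * m + 1) ∧
          Nonempty (↥G₁ ⧸ (Cfsg.pCore 2 G ⊔ Cfsg.oddCore G).subgroupOf G₁ ≃* ↥(Cfsg.Lie.Sz F (2 ^ (m + 1))))) ∨
       (∃ (n : ℕ) (F : Type) (_ : Field F) (_ : Fintype F), 2 ≤ n ∧ Fintype.card F = 4 ^ n ∧
          Nonempty (↥G₁ ⧸ (Cfsg.pCore 2 G ⊔ Cfsg.oddCore G).subgroupOf G₁ ≃* Cfsg.PSU 3 F (2 ^ n))))) ∨
    (∃ (G₁ : Subgroup G) (_ : G₁.Normal) (_ : ((Cfsg.oddCore G).subgroupOf G₁).Normal),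
      (Odd G₁.index ∨ ∃ k : ℕ, Odd k ∧ G₁.index = 2 * k) ∧ Cfsg.oddCore G ≤ G₁ ∧
      ∃ (Z : Subgroup (Matrix.SpecialLinearGroup (Fin 2) (ZMod 5) × Matrix.SpecialLinearGroup (Fin 2) (ZMod 5))) (_ : Z.Normal),
        Z = Subgroup.zpowers ((-1 : Matrix.SpecialLinearGroup (Fin 2) (ZMod 5)), (-1 : Matrix.SpecialLinearGroup (Fin 2) (ZMod 5))) ∧
        Nonempty (↥G₁ ⧸ (Cfsg.oddCore G).subgroupOf G₁ ≃*
          (Matrix.SpecialLinearGroup (Fin 2) (ZMod 5) × Matrix.SpecialLinearGroup (Fin 2) (ZMod 5)) ⧸ Z)) := by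
  have := Invol.fact_two
  have hf := QuotientGroup.mk'_surjective (oddCore G)
  have hk := QuotientGroup.ker_mk' (oddCore G)
  have ho := Core.odd_card_oddCore G
  have h : U4 G := fun S T hS hT n => by_contra fun e => not_nc_of_rank (hI hS.toSylowTop hT.toSylowTop
    fun k => e (congrArg (fun P : Sylow 2 G => (P : Subgroup G)) k.symm)) n
  have h1 := h.quot hf (hk.symm ▸ ho)
  have hO : pPrimeCore 2 (G ⧸ oddCore G) = ⊥ := Core.pPrimeCore_quotient_pPrimeCore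
  obtain ⟨S', T', hne, hc⟩ := hnC
  obtain ⟨S, hS, -, e⟩ := lift_ge hf (syl_top S') IsPGroup.of_bot ((Subgroup.map_bot _).le.trans bot_le)
  have h2 : ∀ {X : Subgroup G}, IsPGroup 2 X → ∀ x ∈ X, QuotientGroup.mk' (oddCore G) x = 1 → x = 1 := fun hX x hx e =>
    (Two.of_mem hX hx).eq_one (Invol.odd_orderOf_of_mem ho (hk.le e))
  have n : Nc S := by_contra fun n => by
    rcases cyc_quat hS.isPGroup n with _ | ⟨a, x, m, q⟩
    · have : IsCyclic S' := e ▸ isCyclic_of_surjective _ (MonoidHom.subgroupMap_surjective _ S)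
      exact hc (isCyclic_of_le inf_le_left)
    · exact (hnQ hS.toSylowTop m).false q.nonempty_mulEquiv.some
  obtain ⟨K, hK⟩ := Layer.exists_component_of_layer_ne_bot (h1.layer_ne hO fun _ =>
    have := solvable_of_odd ho; hns (Core.isSolvable_of_normal_of_quotient (oddCore G)))
  by_cases h3 : ∀ L, IsComponent L → L = K
  · obtain ⟨L, _, l1, l2, ⟨a, x, m, q⟩, l3⟩ := one_comp hO hK h1 (layer_eq hK h3) (syl_top S') (e ▸ nc_map n (h2 hS.isPGroup))
      (syl_top T') (fun e => hne (Sylow.ext e.symm)) hc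
    have h4 := h.core_map hS ((e ▸ l3 : E8 (S.map _)).of_map (h2 hS.isPGroup)) hf hk
    have h5 := (QuotientGroup.mk'_surjective (pCore 2 (G ⧸ oddCore G))).comp hf
    rw [← MonoidHom.coe_comp] at h5
    have h6 : ((QuotientGroup.mk' (pCore 2 (G ⧸ oddCore G))).comp (QuotientGroup.mk' (oddCore G))).ker = pCore 2 G ⊔ oddCore G := by
      rw [← MonoidHom.comap_ker, QuotientGroup.ker_mk', ← h4, comap_map_eq, hk]
    obtain ⟨e⟩ := quot_equiv h5 h6 L
    exact Or.inl ⟨L.comap _, inferInstance, inferInstance, (index_comap_of_surjective L h5).symm ▸ l1, h6 ▸ ker_le_comap _ L,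
      ⟨m, ⟨(MulEquiv.ofBijective (MonoidHom.subgroupMap _ (pCore 2 G)) ⟨(injective_iff_map_eq_one _).2 fun x e => Subtype.ext
        (h2 (Core.isPGroup_pCore 2 G) x x.2 (congrArg Subtype.val e)), MonoidHom.subgroupMap_surjective _ _⟩).trans
        ((MulEquiv.subgroupCongr h4).trans q.nonempty_mulEquiv.some)⟩⟩, l2.of_equiv e⟩
  push Not at h3
  obtain ⟨L, hL, h3⟩ := h3
  have t : TC K L := ⟨h1, hO, hK, hL, h3.symm⟩
  have : (K ⊔ L).Normal := t.layer_eq ▸ Layer.layer_normal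
  obtain ⟨Z, _, z1, ⟨z2⟩⟩ := t.iso
  obtain ⟨e⟩ := quot_equiv hf hk (K ⊔ L)
  exact Or.inr ⟨(K ⊔ L).comap _, inferInstance, inferInstance, (index_comap_of_surjective _ hf).symm ▸ t.index,
    QuotientGroup.le_comap_mk' _ _, Z, _, z1, ⟨e.trans z2⟩⟩

end Cfsg.Agent.S3310
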