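import Cfsg.Statements.S3313
import Cfsg.Agent.Lib.JT.Main
import Cfsg.Agent.Lib.Layer.FStar

set_option autoImplicit false
open Cfsg Cfsg.Lib Subgroup

namespace Cfsg.Agent.S3313

/-- The order of a simple group with the involution pattern of the Hall–Janko group. Let G be a non-abelian finite simple group with exactly two conjugacy classes of involutions, represented by z and t, such that: F*(C_G(z)) is an extraspecial 2-group; Q = O₂(C_G(z)) has order 32 and C_G(z) is the semidirect product of Q by a subgroup isomorphic to A₅; every involution of Q is conjugate to z and every other involution of C_G(z) is conjugate to t; C_G(t) is an internal direct product V × B with V a four-group containing t and B ≅ A₅; every involution of B is conjugate to z and every other involution of C_G(t) is conjugate to t. Then |G| = 604800. -/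
theorem result {G : Type*} [Group G] [Finite G]
    [IsSimpleGroup G] (hna : ¬ IsMulCommutative G) (z t : G) (hz : orderOf z = 2) (ht : orderOf t = 2)
    (hzt : ¬ IsConj z t) (hcl : ∀ x : G, orderOf x = 2 → IsConj x z ∨ IsConj x t)
    (hex : Cfsg.IsExtraspecial 2 ↥(Cfsg.generalizedFittingSubgroup ↥(Subgroup.centralizer ({z} : Set G))))
    (hQ : Nat.card ↥(Cfsg.pCore 2 ↥(Subgroup.centralizer ({z} : Set G))) = 32)
    (K : Subgroup G) (hK : Nonempty (↥K ≃* alternatingGroup (Fin 5)))
    (hKC : K ⊔ (Cfsg.pCore 2 ↥(Subgroup.centralizer ({z} : Set G))).map (Subgroup.centralizer ({z} : Set G)).subtype = Subgroup.centralizer ({z} : Set G))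
    (hKQ : K ⊓ (Cfsg.pCore 2 ↥(Subgroup.centralizer ({z} : Set G))).map (Subgroup.centralizer ({z} : Set G)).subtype = ⊥)
    (hQz : ∀ x ∈ (Cfsg.pCore 2 ↥(Subgroup.centralizer ({z} : Set G))).map (Subgroup.centralizer ({z} : Set G)).subtype, orderOf x = 2 → IsConj x z)
    (hCz : ∀ x ∈ Subgroup.centralizer ({z} : Set G), orderOf x = 2 →
      x ∉ (Cfsg.pCore 2 ↥(Subgroup.centralizer ({z} : Set G))).map (Subgroup.centralizer ({z} : Set G)).subtype → IsConj x t)
    (V B : Subgroup G) (hVB : Cfsg.IsInternalDirectProduct V B (Subgroup.centralizer ({t} : Set G)))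
    (hV : Nat.card ↥V = 4) (hV2 : ∀ v ∈ V, v ^ 2 = 1) (htV : t ∈ V) (hB : Nonempty (↥B ≃* alternatingGroup (Fin 5)))
    (hBz : ∀ x ∈ B, orderOf x = 2 → IsConj x z)
    (hCt : ∀ x ∈ Subgroup.centralizer ({t} : Set G), orderOf x = 2 → x ∉ B → IsConj x t) :
    Nat.card G = 604800 := by
  have : Fact (Nat.Prime 2) := ⟨Nat.prime_two⟩
  have hn := Layer.fstar_normal (G := centralizer ({z} : Set G))
  have hF := le_antisymm (Core.le_pCore (hN := hn) hex.1.1) Layer.pCore_le_fstar
  have h2c := Layer.centralizer_fstar_le (G := centralizer ({z} : Set G))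
  rw [hF] at hn h2c hex
  generalize pCore 2 (centralizer ({z} : Set G)) = Q at *
  have hKle : K ≤ centralizer {z} := hKC ▸ le_sup_left
  let f : K →* _ ⧸ Q := (QuotientGroup.mk' Q).comp (inclusion hKle)
  have bij : Function.Bijective f := ⟨(injective_iff_map_eq_one f).2 fun k hk =>
    Subtype.ext (mem_bot.1 (hKQ.le ⟨k.2, _, (QuotientGroup.eq_one_iff _).1 hk, rfl⟩)), fun x => by
      obtain ⟨x, rfl⟩ := QuotientGroup.mk'_surjective Q x
      have : K.subgroupOf (centralizer {z}) ⊔ Q = ⊤ := map_subtype_inj.1 (by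
        rw [Subgroup.map_sup, map_subgroupOf_eq_of_le hKle, hKC, ← MonoidHom.range_eq_map, range_subtype])
      obtain ⟨k, hk, q, hq, rfl⟩ := mem_sup_of_normal_right.1 (this.ge (mem_top x))
      exact ⟨⟨k, hk⟩, (QuotientGroup.mk'_eq_mk' Q).2 ⟨q, hq, rfl⟩⟩⟩
  obtain ⟨e⟩ := hK
  have h5 := JT.a5_facts ((MulEquiv.ofBijective f bij).symm.trans e)
  obtain ⟨φ, h, -⟩ := JT.jt_of_h2c hz Q hex hQ h2c h5.1 h5.2
  exact JT.card_of_isoJ2 (h.isoJ2_of_two ⟨z, t, hz, ht, hzt⟩)

end Cfsg.Agent.S3313
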