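import Cfsg.Statements.S3315
import Cfsg.Agent.Lib.U3.Aut

set_option autoImplicit false
open Cfsg

namespace Cfsg.Agent.S3315

theorem main {R : Type*} [Group R] (n : ℕ) {F : Type*} [Field F] [Fintype F] (hF : Fintype.card F = 4 ^ n)
    (P : Sylow 2 ↥(Cfsg.SU 3 F (2 ^ n))) (S' : Subgroup R) (hS : Nonempty (↥S' ≃* ↥(P : Subgroup ↥(Cfsg.SU 3 F (2 ^ n)))))
    (hidx : S'.index = 2) :
    (Subgroup.center ↥S').map S'.subtype ≤ Subgroup.center R := by
  obtain ⟨σ, h⟩ := Lib.Forms.isConj_of_card (q := 2 ^ n) (hF.trans (by rw [← pow_mul, mul_comm, pow_mul]; rfl))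
  have h2 := Lib.U3.two_eq_zero h rfl
  obtain ⟨e⟩ := hS
  obtain ⟨f⟩ := Lib.U3.sylow_su h rfl P
  have := Subgroup.normal_of_index_eq_two hidx
  let g := e.trans f
  rintro _ ⟨z, hz, rfl⟩
  refine Subgroup.mem_center_iff.2 fun r => ?_
  have h1 : MulAut.congr g (MulAut.conjNormal r) * MulAut.congr g (MulAut.conjNormal r) =
      MulAut.conj (g ⟨r * r, Subgroup.mul_self_mem_of_index_two hidx r⟩) := by
    rw [← map_mul, ← map_mul]
    ext1 x
    obtain ⟨x, rfl⟩ := g.surjective x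
    rw [MulAut.conj_apply, ← map_mul, ← map_inv, ← map_mul]
    simp only [MulAut.congr_apply, MulEquiv.trans_apply, MulEquiv.symm_apply_apply]
    congr 1
  have h3 : (g z).a = 0 := Lib.U3.Heis.mem_center.1 (Subgroup.mem_center_iff.2 fun y => by
    obtain ⟨y, rfl⟩ := g.surjective y
    rw [← map_mul, ← map_mul, Subgroup.mem_center_iff.1 hz])
  have h4 := Lib.U3.Aut.fix_center h2 (α := MulAut.congr g (MulAut.conjNormal r))
    (fun a => by rw [← Lib.U3.Aut.A_mul, h1, Lib.U3.Aut.A_conj]) h3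
  simp only [MulAut.congr_apply, MulEquiv.trans_apply, MulEquiv.symm_apply_apply] at h4
  have h5 := congrArg Subtype.val (g.injective h4)
  rw [MulAut.conjNormal_apply] at h5
  exact mul_inv_eq_iff_eq_mul.1 h5

/-- Let S be a Sylow 2-subgroup of SU₃(2ⁿ), n ≥ 2 (realised over the field with 4ⁿ elements). If a finite 2-group R contains a subgroup S' of index 2 isomorphic to S, then the centre of S' is contained in the centre of R. -/
theorem result {R : Type*} [Group R] [Finite R]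
    (hR : IsPGroup 2 R) (n : ℕ) (hn : 2 ≤ n) {F : Type*} [Field F] [Fintype F] (hF : Fintype.card F = 4 ^ n)
    (P : Sylow 2 ↥(Cfsg.SU 3 F (2 ^ n))) (S' : Subgroup R) (hS : Nonempty (↥S' ≃* ↥(P : Subgroup ↥(Cfsg.SU 3 F (2 ^ n)))))
    (hidx : S'.index = 2) :
    (Subgroup.center ↥S').map S'.subtype ≤ Subgroup.center R := by
  exact main n hF P S' hS hidx

end Cfsg.Agent.S3315
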