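import Cfsg.Statements.S3339
import Cfsg.Agent.Lib.Block.Nin12

set_option autoImplicit false
open Cfsg

namespace Cfsg.Agent.S3339

open Subgroup Cfsg.Lib.Block.Nin
set_option linter.style.haveILetI false

/-- A 3-local characterization of the alternating group of degree 9. Let G be a finite group and J ≤ G an elementary abelian subgroup of order 27 whose normalizer H = N_G(J) is isomorphic to the normalizer, in the alternating group of degree 9, of the subgroup generated by three disjoint 3-cycles. If O_{3'}(C_G(x)) = 1 for every element x of order 3 in H, then either G = H or G is isomorphic to the alternating group of degree 9. -/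
theorem result {G : Type*} [Group G] [Finite G]
    (J : Subgroup G) (hJcomm : IsMulCommutative J) (hJexp : ∀ a ∈ J, a ^ 3 = 1) (hJcard : Nat.card J = 27)
    (H : Subgroup G) (hH : H = Subgroup.normalizer (J : Set G))
    (J₀ : Subgroup (Equiv.Perm (Fin 9)))
    (hJ₀ : J₀ = Subgroup.closure {Equiv.swap (0 : Fin 9) 1 * Equiv.swap 1 2, Equiv.swap (3 : Fin 9) 4 * Equiv.swap 4 5, Equiv.swap (6 : Fin 9) 7 * Equiv.swap 7 8})
    (eH : H ≃* ↥(alternatingGroup (Fin 9) ⊓ Subgroup.normalizer (J₀ : Set (Equiv.Perm (Fin 9)))))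
    (hcores : ∀ x ∈ H, orderOf x = 3 → Cfsg.pPrimeCore 3 (Subgroup.centralizer ({x} : Set G)) = ⊥) :
    H = ⊤ ∨ Nonempty (G ≃* alternatingGroup (Fin 9)) := by
  rw [hJ₀, ← ψ_V, ← ψ_range'] at eH
  obtain ⟨κ, hi, hκ⟩ := exists_emb eH
  have e := eq_V hi (hκ ▸ hH ▸ le_normalizer) (hκ.trans hH).le
    (fun a ha b hb => congrArg Subtype.val (hJcomm.1.1 (⟨a, ha⟩ : J) ⟨b, hb⟩)) hJexp hJcard
  have o : ∀ i, i ≠ 0 → pPrimeCore 3 (centralizer ({κ (a4 i)} : Set G)) = ⊥ := fun i h => hcores _ (hκ ▸ ⟨_, rfl⟩) (by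
    obtain ⟨h1, h2⟩ := (by decide +kernel : ∀ i, i ≠ 0 → a4 i ^ 3 = 1 ∧ a4 i ≠ 1) i h
    exact orderOf_eq_prime (by rw [← map_pow, h1, map_one]) ((map_ne_one_iff κ hi).2 h2))
  exact hκ ▸ (M0.m1 ⟨hi, (e ▸ hκ.trans hH).ge⟩ (o 2 (by decide)) (o 3 (by decide))).main

end Cfsg.Agent.S3339
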