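import Cfsg.Statements.S3341
import Cfsg.Agent.Lib.Block.Tri3

set_option autoImplicit false
open Cfsg

namespace Cfsg.Agent.S3341

open Cfsg.Lib Cfsg.Lib.Block Cfsg.Lib.Transfer Subgroup
set_option linter.style.haveILetI false

/-- Let G be a finite simple group whose Sylow 3-subgroup S is elementary abelian of order 9, such that G has more than one conjugacy class of elements of order 3 and C_G(s) = S for every non-identity s in S. Then G is isomorphic to the alternating group of degree 6. -/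
theorem result {G : Type*} [Group G] [Finite G] [IsSimpleGroup G]
    (P : Sylow 3 G) (S : Subgroup G) (hSP : S = P) (hcomm : IsMulCommutative S) (hexp : ∀ a ∈ S, a ^ 3 = 1)
    (hcard : Nat.card S = 9)
    (hclasses : ∃ a b : G, orderOf a = 3 ∧ orderOf b = 3 ∧ ∀ g : G, g * a * g⁻¹ ≠ b)
    (hcent : ∀ s ∈ S, s ≠ 1 → Subgroup.centralizer ({s} : Set G) = S) :
    Nonempty (G ≃* alternatingGroup (Fin 6)) := by
  subst hSP
  obtain ⟨a, b, a3, b3, ab⟩ := hclasses
  have h : Tri.SE (P : Subgroup G) := ⟨sylowIn_top P, fun a ha b hb => congrArg Subtype.val (hcomm.is_comm.comm ⟨a, ha⟩ ⟨b, hb⟩),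
    fun t ht t1 => (hcent t ht t1).le.trans le_normalizer⟩
  obtain ⟨g, hg⟩ := h.exists_conj (a3 ▸ pow_orderOf_eq_one a)
  obtain ⟨k, hk⟩ := h.exists_conj (b3 ▸ pow_orderOf_eq_one b)
  refine Tri.alt_six h.syl hcard hexp hcent hg hk ?_ ?_ fun c => ?_
  · rw [Ne, conj_eq_one_iff]; rintro rfl; simp at a3
  · rw [Ne, conj_eq_one_iff]; rintro rfl; simp at b3
  · obtain ⟨c, hc⟩ := isConj_iff.1 ((Invol.isConj_conj g a).trans (c.trans (Invol.isConj_conj k b).symm))
    exact ab c hc

end Cfsg.Agent.S3341
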