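import Cfsg.Statements.S3349
import Cfsg.Agent.Lib.Layer.Misc

set_option autoImplicit false
open Cfsg

namespace Cfsg.Agent.S3349

open Subgroup Cfsg.Lib.Core Cfsg.Lib.Amalg Cfsg.Lib.BG1 Cfsg.Lib.Layer

/-- Let Q be a finite extraspecial p-group and α an automorphism of Q fixing every element of some maximal abelian subgroup of Q. Then the order of α is a power of p. -/
theorem result {Q : Type*} [Group Q] [Finite Q]
    (p : ℕ) [Fact p.Prime] (hQ : Cfsg.IsExtraspecial p Q) (α : MulAut Q)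
    (A : Subgroup Q) (hA : IsMulCommutative A) (hmax : ∀ B : Subgroup Q, A ≤ B → IsMulCommutative B → B = A)
    (hfix : ∀ a ∈ A, α a = a) :
    ∃ k : ℕ, orderOf α = p ^ k := by
  have h1 : ∀ c : Q, (∀ a ∈ A, a * c = c * a) → c ∈ A := fun c hc => by
    have := hmax (A ⊔ zpowers c) le_sup_left (le_centralizer_iff_isMulCommutative.1 (by
      have h2 : zpowers c ≤ centralizer (A : Set Q) := zpowers_le.2 hc
      rw [Lib.Core.centralizer_sup]
      exact sup_le (le_inf (le_centralizer A) (le_centralizer_iff.1 h2)) (le_inf h2 (le_centralizer _))))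
    exact this ▸ mem_sup_right (mem_zpowers c)
  have h2 : ∀ x, x⁻¹ * α x ∈ A := fun x => h1 _ fun a ha => by
    have h3 : x * a * x⁻¹ * a⁻¹ ∈ center Q := hQ.1.2.2 ▸ commutator_mem_commutator (mem_top x) (mem_top a)
    have := hfix _ (mul_mem (h1 _ fun a _ => mem_center_iff.1 h3 a) ha)
    rw [inv_mul_cancel_right, map_mul, map_mul, map_inv, hfix a ha] at this
    calc a * (x⁻¹ * α x) = x⁻¹ * (x * a * x⁻¹) * α x := by group
      _ = _ := by rw [← this]; group
  have h3 : ∀ (n : ℕ) x, (α ^ n) x = x * (x⁻¹ * α x) ^ n := fun n x => by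
    induction n with
    | zero => simp
    | succ n ih => rw [pow_succ', MulAut.mul_apply, ih, map_mul, hfix _ (pow_mem (h2 x) n), pow_succ', ← mul_assoc, mul_inv_cancel_left]
  obtain ⟨k, hk⟩ := IsPGroup.iff_card.1 hQ.1.1
  obtain ⟨j, -, hj⟩ := (Nat.dvd_prime_pow (Fact.out : p.Prime)).1 (orderOf_dvd_of_pow_eq_one (x := α) (n := p ^ k)
    (MulEquiv.ext fun x => by rw [h3, ← hk, pow_card_eq_one', mul_one]; rfl))
  exact ⟨j, hj⟩

end Cfsg.Agent.S3349
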