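import Cfsg.Statements.S3356
import Cfsg.Agent.Lib.Hall.Half

set_option autoImplicit false
open Cfsg

namespace Cfsg.Agent.S3356

open scoped Pointwise commutatorElement
open Cfsg.Lib Cfsg.Lib.Hall

open Subgroup MulAction

/-- Let G be a finite 3/2-transitive permutation group: G acts faithfully and transitively on a finite set, the point stabilizers are non-trivial, and for each point a all orbits of G_a on the remaining points have the same size. Suppose G has a regular normal subgroup N and G is not a Frobenius group (some two-point stabilizer is non-trivial). Then N is an elementary abelian p-group for some prime p, and every non-trivial normal subgroup of G contains N (so N is the unique minimal normal subgroup). -/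
theorem result {G Ω : Type*} [Group G] [Finite G]
    [MulAction G Ω] [FaithfulSMul G Ω] [Finite Ω] (htrans : MulAction.IsPretransitive G Ω)
    (hne : ∀ a : Ω, MulAction.stabilizer G a ≠ ⊥)
    (hhalf : ∀ a b c : Ω, b ≠ a → c ≠ a →
      Nat.card (MulAction.orbit (MulAction.stabilizer G a) b) = Nat.card (MulAction.orbit (MulAction.stabilizer G a) c))
    (N : Subgroup G) [hN : N.Normal] (hNt : MulAction.IsPretransitive N Ω) (hNr : ∀ a : Ω, MulAction.stabilizer N a = ⊥)
    (hnotF : ∃ a b : Ω, a ≠ b ∧ MulAction.stabilizer G a ⊓ MulAction.stabilizer G b ≠ ⊥) :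
    (∃ p : ℕ, p.Prime ∧ IsMulCommutative N ∧ ∀ x ∈ N, x ^ p = 1) ∧
    (∀ M : Subgroup G, M.Normal → M ≠ ⊥ → N ≤ M) := by
  obtain ⟨a, b, hab, -⟩ := id hnotF
  obtain ⟨m, h⟩ := exists_half (G := G) a fun b c hb hc => by
    rw [← card_orbit_subgroup, ← card_orbit_subgroup]; exact hhalf a b c hb hc
  haveI hc := h.comm_of_regular hnotF hNr
  refine ⟨?_, fun M _ hM => h.le_of_regular hnotF hNr M hM⟩
  have h1 : Nat.card N ≠ 1 := fun e => by
    obtain ⟨n, hn⟩ := exists_smul_eq N a b
    haveI := (Nat.card_eq_one_iff_unique.mp e).1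
    exact hab (by rw [← hn, Subsingleton.elim n 1, one_smul])
  obtain ⟨p, hp, hd⟩ := Nat.exists_prime_and_dvd h1
  haveI := Fact.mk hp
  obtain ⟨x, hx⟩ := exists_prime_orderOf_dvd_card' p hd
  let M : Subgroup G :=
    { carrier := {y | y ∈ N ∧ y ^ p = 1}
      one_mem' := ⟨one_mem _, one_pow _⟩
      inv_mem' := fun ⟨h1, h2⟩ => ⟨inv_mem h1, by rw [inv_pow, h2, inv_one]⟩
      mul_mem' := fun {u v} ⟨h1, h2⟩ ⟨h3, h4⟩ => ⟨mul_mem h1 h3, by
        rw [Commute.mul_pow (congrArg Subtype.val (hc.is_comm.comm ⟨u, h1⟩ ⟨v, h3⟩)), h2, h4, one_mul]⟩ }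
  haveI : M.Normal := ⟨fun y ⟨h1, h2⟩ g => ⟨hN.conj_mem _ h1 g, by rw [conj_pow, h2, mul_one, mul_inv_cancel]⟩⟩
  refine ⟨p, hp, hc, fun y hy => (h.le_of_regular hnotF hNr M (fun e => ?_) hy).2⟩
  have : (x : G) ∈ M := ⟨x.2, by rw [← hx, ← Subgroup.coe_pow, pow_orderOf_eq_one]; rfl⟩
  rw [e, mem_bot] at this
  exact hp.one_lt.ne' (by rw [← hx, show x = 1 from Subtype.ext this]; exact orderOf_one)

end Cfsg.Agent.S3356
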