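import Cfsg.Statements.S3357
import Cfsg.Agent.Lib.Hall.FC9

set_option autoImplicit false
open Cfsg

namespace Cfsg.Agent.S3357

open scoped Pointwise commutatorElement
open Cfsg.Lib Cfsg.Lib.Hall

/-- Let G be a finite group that occurs as a Frobenius complement. Then G has a faithful irreducible representation over an algebraic closure of the rationals in which no non-identity element of G has 1 as an eigenvalue: there are n ≥ 1 and an injective homomorphism ρ from G to GL(n) over that field, with no invariant subspace other than 0 and the whole space, such that for g ≠ 1 the only vector fixed by ρ(g) is 0. -/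
theorem result {G : Type*} [Group G] [Finite G]
    (hFC : ∃ (L : Type) (_ : Group L) (_ : Finite L) (H : Subgroup L), Cfsg.IsFrobeniusComplement H ∧ Nonempty (G ≃* H)) :
    ∃ (n : ℕ) (ρ : G →* GL (Fin n) (AlgebraicClosure ℚ)), 0 < n ∧ Function.Injective ρ ∧
      (∀ W : Submodule (AlgebraicClosure ℚ) (Fin n → AlgebraicClosure ℚ),
        (∀ g : G, ∀ w ∈ W, ((ρ g : GL (Fin n) (AlgebraicClosure ℚ)) : Matrix (Fin n) (Fin n) (AlgebraicClosure ℚ)).mulVec w ∈ W) → W = ⊥ ∨ W = ⊤) ∧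
      ∀ g : G, g ≠ 1 → ∀ v : Fin n → AlgebraicClosure ℚ,
        ((ρ g : GL (Fin n) (AlgebraicClosure ℚ)) : Matrix (Fin n) (Fin n) (AlgebraicClosure ℚ)).mulVec v = v → v = 0 := by
  obtain ⟨h, -⟩ := FC.of_frob hFC
  haveI : Algebra.IsAlgebraic ℚ (AlgebraicClosure ℚ) := AlgebraicClosure.isAlgebraic ℚ
  letI : Algebra (AlgebraicClosure ℚ) ℂ := (IsAlgClosed.lift (R := ℚ) (S := AlgebraicClosure ℚ) (M := ℂ)).toRingHom.toAlgebra
  obtain ⟨n, σ, hn, h1, h2⟩ := h.exists_irr_rep (AlgebraicClosure ℚ)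
  let ρ : G →* GL (Fin n) (AlgebraicClosure ℚ) :=
    MonoidHom.toHomUnits ((LinearMap.toMatrixAlgEquiv' (R := AlgebraicClosure ℚ) (n := Fin n)).toMonoidHom.comp σ)
  have hρ : ∀ g v, ((ρ g : GL (Fin n) (AlgebraicClosure ℚ)) : Matrix (Fin n) (Fin n) (AlgebraicClosure ℚ)).mulVec v = σ g v :=
    fun g v => LinearMap.toMatrix'_mulVec (σ g) v
  refine ⟨n, ρ, hn, (injective_iff_map_eq_one ρ).mpr fun g hg => ?_, fun W hW => h1 W fun g w hw => hρ g w ▸ hW g w hw,
    fun g hg v hv => h2 g hg v (hρ g v ▸ hv)⟩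
  by_contra hc
  haveI : Nonempty (Fin n) := ⟨⟨0, hn⟩⟩
  obtain ⟨v, hv⟩ := exists_ne (0 : Fin n → AlgebraicClosure ℚ)
  exact hv (h2 g hc v (by rw [← hρ, hg]; simp))

end Cfsg.Agent.S3357
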