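import Cfsg.Statements.S3358
import Cfsg.Agent.Lib.Hall.FC8

set_option autoImplicit false
open Cfsg

namespace Cfsg.Agent.S3358

open scoped Pointwise commutatorElement
open Cfsg.Lib Cfsg.Lib.Hall

open Subgroup Cfsg.Lib.Core Cfsg.Lib.Transfer

/-- Structure of solvable Frobenius complements. Let G be a finite solvable group that occurs as a Frobenius complement. Then G has a normal subgroup G₀ such that G/G₀ is isomorphic to a subgroup of Sym(4) (G₀ is the kernel of a homomorphism to Sym(4)), all Sylow subgroups of G₀ are cyclic, and G₀ has a presentation ⟨x, y | x^n = 1, y^m = 1, x⁻¹ y x = y^r⟩ with n, m ≥ 1, gcd(r − 1, m) = gcd(n, m) = 1 and r^(n/n′) ≡ 1 (mod m), where n′ is the product of the distinct primes dividing n. -/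
theorem result {G : Type*} [Group G] [Finite G] (hsol : Group.IsSolvable G)
    (hFC : ∃ (L : Type) (_ : Group L) (_ : Finite L) (H : Subgroup L), Cfsg.IsFrobeniusComplement H ∧ Nonempty (G ≃* H)) :
    ∃ G₀ : Subgroup G, G₀.Normal ∧
      (∃ f : G →* Equiv.Perm (Fin 4), f.ker = G₀) ∧
      (∀ (p : ℕ) [Fact p.Prime] (P : Sylow p G₀), IsCyclic P) ∧
      ∃ n m r : ℕ, 0 < n ∧ 0 < m ∧ Nat.Coprime (r - 1) m ∧ Nat.Coprime n m ∧ 1 ≤ r ∧
        r ^ (n / ∏ p ∈ n.primeFactors, p) % m = 1 % m ∧
        Nonempty (G₀ ≃* PresentedGroup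
          ({FreeGroup.of (0 : Fin 2) ^ n, FreeGroup.of (1 : Fin 2) ^ m,
            (FreeGroup.of (0 : Fin 2))⁻¹ * FreeGroup.of 1 * FreeGroup.of 0 * (FreeGroup.of (1 : Fin 2) ^ r)⁻¹} :
            Set (FreeGroup (Fin 2)))) := by
  obtain ⟨h, -⟩ := FC.of_frob hFC
  obtain ⟨N, h1, h2, h3⟩ := h.struct_of_solvable
  refine ⟨N, h1, ?_, fun p _ P => inferInstance, ?_⟩
  · have key : ∀ {X : Type} [Group X] (i : X →* Equiv.Perm (Fin 4)), Function.Injective i → QuoIs N X →
        ∃ f : G →* Equiv.Perm (Fin 4), f.ker = N := fun i hi ⟨f, _, hf⟩ =>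
      ⟨i.comp f, by rw [← hf, MonoidHom.ker_comp_of_injective _ _ hi]⟩
    rcases h3 with rfl | h3 | h3 | h3
    · exact ⟨1, MonoidHom.ker_one⟩
    · obtain ⟨i, hi⟩ := Linear.exists_injective_perm_of_faithful (G := DihedralGroup 2) (X := DihedralGroup 2) (n := 4)
        IsKleinFour.card_four fun g hg => by simpa using hg 1
      exact key i hi h3
    · exact key (alternatingGroup (Fin 4)).subtype (subtype_injective _) h3
    · exact key (MonoidHom.id _) Function.injective_id h3
  · obtain ⟨x, y, r, g1, g2, g3, g4, g5, g6, g7⟩ := exists_zgroup_gens (G := N)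
    refine ⟨orderOf x, orderOf y, r, orderOf_pos x, orderOf_pos y, g4, g5, g6, pow_mod_eq_of_commute g3 ?_, ?_⟩
    · have hd := Nat.prod_primeFactors_dvd (orderOf x)
      have hsq : Squarefree (∏ p ∈ (orderOf x).primeFactors, p) := by
        rw [← Nat.radical_eq_prod_primeFactors]; exact UniqueFactorizationMonoid.squarefree_radical
      have := mem_of_squarefree (H := center N) _ hsq (x ^ (orderOf x / ∏ p ∈ (orderOf x).primeFactors, p))
        (orderOf_pow_orderOf_div (orderOf_pos x).ne' hd) fun z hz hp =>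
          (h.subgroup N).mem_center_of_isZGroup hp fun hd' => by
            rw [← g2, Nat.card_zpowers] at hd'
            exact hp.one_lt.ne' (Nat.eq_one_of_dvd_coprimes g5
              (orderOf_dvd_of_mem_zpowers (zpowers_le.mpr (pow_mem (mem_zpowers x) _) hz)) hd')
      exact (mem_center_iff.mp this y).symm
    · set R := ({FreeGroup.of (0 : Fin 2) ^ orderOf x, FreeGroup.of (1 : Fin 2) ^ orderOf y,
            (FreeGroup.of (0 : Fin 2))⁻¹ * FreeGroup.of 1 * FreeGroup.of 0 * (FreeGroup.of (1 : Fin 2) ^ r)⁻¹} :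
            Set (FreeGroup (Fin 2))) with hR
      have rel : ∀ r ∈ R, FreeGroup.lift (PresentedGroup.of : Fin 2 → PresentedGroup R) r = 1 :=
        fun r hr => Linear.lift_of_eq_one hr
      simp only [hR, Set.mem_insert_iff, Set.mem_singleton_iff, forall_eq_or_imp, forall_eq, map_pow, map_mul, map_inv,
        FreeGroup.lift_apply_of] at rel
      obtain ⟨r1, r2, r3⟩ := rel
      rw [mul_inv_eq_one] at r3
      have htop : closure ({PresentedGroup.of 0, PresentedGroup.of 1} : Set (PresentedGroup R)) = ⊤ := by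
        rw [eq_top_iff, ← PresentedGroup.closure_range_of, closure_le]
        rintro _ ⟨i, rfl⟩
        fin_cases i
        · exact subset_closure (by simp)
        · exact subset_closure (by simp)
      obtain ⟨hf, hc⟩ := card_le_of_meta (orderOf_pos x) (orderOf_pos y) htop r1 r2 r3
      obtain ⟨e⟩ := (Linear.isPres_of_card_le (a := ![x, y]) (R := R) (by rw [Matrix.range_cons_cons_empty]; exact g1) (by
        simp only [hR, Set.mem_insert_iff, Set.mem_singleton_iff, forall_eq_or_imp, forall_eq, map_pow, map_mul, map_inv,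
          FreeGroup.lift_apply_of]
        exact ⟨pow_orderOf_eq_one x, pow_orderOf_eq_one y, mul_inv_eq_one.mpr g3⟩) (by rwa [← g7])).nonempty
      exact ⟨e.symm⟩

end Cfsg.Agent.S3358
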