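import Cfsg.Statements.S3362
import Cfsg.Agent.Lib.Golay.Small
import Cfsg.Agent.S0425

set_option autoImplicit false
open Cfsg

namespace Cfsg.Agent.S3362

open Cfsg.Lib.Golay
open scoped Pointwise symmDiff
set_option maxRecDepth 100000
set_option linter.unusedSimpArgs false
set_option maxHeartbeats 400000
set_option synthInstance.maxSize 4096
set_option synthInstance.maxHeartbeats 200000

/-- codes of the generators. -/
def gs : List ℕ := [0x90b0a060807030504020100, 0x504030b0a09080706020100, 0xa07040b0805090603020100,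
  0x4090806050a0b0703020100, 0x9050704060b080a03020100, 0x9080b0a0607050400020103,
  0x807060b0a09050403020001, 0x608070a090b050403010200]

/-- An explicit construction of the Mathieu groups of degrees 11 and 12. On the points 0, …, 11 let s = (3 4 5)(6 7 8)(9 10 11), t = (3 6 9)(4 7 10)(5 8 11), u = (4 6 5 9)(7 8 11 10), v = (4 7 5 11)(6 10 9 8), w = (4 10 5 8)(6 11 9 7), x₁ = (0 3)(6 7)(8 10)(9 11), x₂ = (0 1)(6 9)(7 10)(8 11), x₃ = (1 2)(6 11)(7 9)(8 10) (each written as a product of transpositions). Then the group M₁₂ generated by all eight permutations is sharply 5-transitive on the 12 points and has order 95040, and the group M₁₁ generated by the first seven has order 7920 and is the stabilizer of the point 2 in M₁₂. -/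
theorem result
    (s t u v w x₁ x₂ x₃ : Equiv.Perm (Fin 12))
    (hs : s = Equiv.swap (3 : Fin 12) 5 * Equiv.swap (3 : Fin 12) 4 * Equiv.swap (6 : Fin 12) 8 * Equiv.swap (6 : Fin 12) 7 * Equiv.swap (9 : Fin 12) 11 * Equiv.swap (9 : Fin 12) 10) (ht : t = Equiv.swap (3 : Fin 12) 9 * Equiv.swap (3 : Fin 12) 6 * Equiv.swap (4 : Fin 12) 10 * Equiv.swap (4 : Fin 12) 7 * Equiv.swap (5 : Fin 12) 11 * Equiv.swap (5 : Fin 12) 8)
    (hu : u = Equiv.swap (4 : Fin 12) 9 * Equiv.swap (4 : Fin 12) 5 * Equiv.swap (4 : Fin 12) 6 * Equiv.swap (7 : Fin 12) 10 * Equiv.swap (7 : Fin 12) 11 * Equiv.swap (7 : Fin 12) 8) (hv : v = Equiv.swap (4 : Fin 12) 11 * Equiv.swap (4 : Fin 12) 5 * Equiv.swap (4 : Fin 12) 7 * Equiv.swap (6 : Fin 12) 8 * Equiv.swap (6 : Fin 12) 9 * Equiv.swap (6 : Fin 12) 10) (hw : w = Equiv.swap (4 : Fin 12) 8 * Equiv.swap (4 : Fin 12) 5 * Equiv.swap (4 : Fin 12) 10 * Equiv.swap (6 : Fin 12) 7 * Equiv.swap (6 :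 Fin 12) 9 * Equiv.swap (6 : Fin 12) 11)
    (hx₁ : x₁ = Equiv.swap (0 : Fin 12) 3 * Equiv.swap (6 : Fin 12) 7 * Equiv.swap (8 : Fin 12) 10 * Equiv.swap (9 : Fin 12) 11) (hx₂ : x₂ = Equiv.swap (0 : Fin 12) 1 * Equiv.swap (6 : Fin 12) 9 * Equiv.swap (7 : Fin 12) 10 * Equiv.swap (8 : Fin 12) 11)
    (hx₃ : x₃ = Equiv.swap (1 : Fin 12) 2 * Equiv.swap (6 : Fin 12) 11 * Equiv.swap (7 : Fin 12) 9 * Equiv.swap (8 : Fin 12) 10)
    (M₁₂ M₁₁ : Subgroup (Equiv.Perm (Fin 12))) (hM₁₂ : M₁₂ = Subgroup.closure {s, t, u, v, w, x₁, x₂, x₃})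
    (hM₁₁ : M₁₁ = Subgroup.closure {s, t, u, v, w, x₁, x₂}) :
    MulAction.IsMultiplyPretransitive M₁₂ (Fin 12) 5 ∧ (∀ y : Fin 5 ↪ Fin 12, MulAction.stabilizer M₁₂ y = ⊥) ∧
    Nat.card M₁₂ = 95040 ∧ Nat.card M₁₁ = 7920 ∧
    M₁₁ = M₁₂ ⊓ MulAction.stabilizer (Equiv.Perm (Fin 12)) (2 : Fin 12) := by

  let c := finCoding 12 (by norm_num)
  have e1 : c.dec 0x90b0a060807030504020100 = s := hs ▸ (Coding.dec_eq_of (by decide) (by decide +kernel)).2
  have e2 : c.dec 0x504030b0a09080706020100 = t := ht ▸ (Coding.dec_eq_of (by decide) (by decide +kernel)).2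
  have e3 : c.dec 0xa07040b0805090603020100 = u := hu ▸ (Coding.dec_eq_of (by decide) (by decide +kernel)).2
  have e4 : c.dec 0x4090806050a0b0703020100 = v := hv ▸ (Coding.dec_eq_of (by decide) (by decide +kernel)).2
  have e5 : c.dec 0x9050704060b080a03020100 = w := hw ▸ (Coding.dec_eq_of (by decide) (by decide +kernel)).2
  have e6 : c.dec 0x9080b0a0607050400020103 = x₁ := hx₁ ▸ (Coding.dec_eq_of (by decide) (by decide +kernel)).2
  have e7 : c.dec 0x807060b0a09050403020001 = x₂ := hx₂ ▸ (Coding.dec_eq_of (by decide) (by decide +kernel)).2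
  have e8 : c.dec 0x608070a090b050403010200 = x₃ := hx₃ ▸ (Coding.dec_eq_of (by decide) (by decide +kernel)).2
  have h1 : c.gen gs = M₁₂ := by
    rw [hM₁₂, Coding.gen]; congr 1; ext; simp [gs, e1, e2, e3, e4, e5, e6, e7, e8, eq_comm]
  have h2 : c.gen (gs.take 7) = M₁₁ := by
    rw [hM₁₁, Coding.gen]; congr 1; ext; simp [gs, e1, e2, e3, e4, e5, e6, e7, eq_comm]
  have hv : ∀ g ∈ gs, c.Valid g := fun g hg => Coding.valid_of_isPerm (by revert g; decide +kernel)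
  have hg : ∀ g ∈ gs, c.InH M₁₂ g := h1 ▸ Coding.inH_gen hv
  obtain ⟨_, L, h3, h4⟩ := Coding.bfs_gen c.setCode (imgN 12) (fun g hg => (hv g hg).impl_set) (d := 0)
    (a := 8) (x0 := 0x3f) (show _ < 2 ^ 12 by decide) (k := fun _ L => band (Nat.beq (lenL L) 132)
      (allL L (fun m => band (Nat.ble (Nat.succ m) (Nat.shiftLeft 1 12))
      (band (Nat.beq (popN 12 m) 6) (allL L fun m' => bor (Nat.beq m m')
        (Nat.ble (Nat.succ (popN 12 (Nat.land m m'))) 5)))))) (by decide +kernel)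
  rw [band_iff, beq_iff] at h3
  have h5 := (c.steiner_of_list h4.nodup h3.2 (by rw [h3.1]; decide +kernel)).1
  rw [show {b | ∃ m ∈ L, c.ofMask m = b} = MulAction.orbit M₁₂ (c.ofMask 0x3f) from h1 ▸ Set.ext fun b =>
    ⟨by rintro ⟨m, hm, rfl⟩; exact h4.sub m hm, h4.surj b⟩] at h5
  obtain ⟨⟨-, h6⟩, h7, h8⟩ := S0425.result (by simp) h5
  have h9 : M₁₂ = setSystemAut (MulAction.orbit M₁₂ (c.ofMask 0x3f)) :=
    Subgroup.eq_of_le_of_card_ge (fun g hg => mem_setSystemAut_iff.mpr fun b hb =>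
      MulAction.mapsTo_smul_orbit (⟨g, hg⟩ : M₁₂) _ hb) (h6.le.trans (Coding.chain_le
      [(0, 12, [[1, 7], [4, 5, 6, 5]]), (1, 11, [[0, 0], [0, 1, 0]]), (2, 10, [[0, 1, 0, 0, 1], [1, 0, 1, 0, 0, 1, 1, 1]]), (3, 9, [[1, 0], [0, 0, 1]]), (4, 8, [])]
      hg (by decide +kernel)))
  rw [← h9] at h6 h7 h8
  have h10 := (stab_pt_cert h1 hg 2 (by decide) (n := 12) (N := 7920) h6 (by decide +kernel)).2
  have h11 := Coding.gen_eq_of_chain [(0, 11, [[1], [5, 6, 5, 4]]), (1, 10, [[1, 1], [1, 0, 1, 0, 1, 1, 0, 0, 1]]), (3, 9, [[0], [1, 1, 0, 1]]), (4, 8, [])]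
    (inH_inf_pt (gs := gs.take 7) (fun g h => hg g (List.mem_of_mem_take h)) 2 (by decide) (by decide +kernel))
    (by decide +kernel) h10.le
  rw [h2] at h11
  exact ⟨h7, h8, h6, h11 ▸ h10, h11⟩

end Cfsg.Agent.S3362
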