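import Cfsg.Statements.S3366
import Cfsg.Agent.Lib.Psp43.EC

set_option autoImplicit false
open Cfsg

namespace Cfsg.Agent.S3366

open Cfsg.Lib Cfsg.Lib.Psp43 Cfsg.Lib.FO Cfsg.Lib.Golay Cfsg.Lib.Golay.Coding Subgroup

theorem gsP : ∀ g ∈ gsC, c27.InH P0 g := by
  rw [(by decide +kernel : gsC = mapL (wordN 27 gs) [[], [5, 3, 2, 4, 5, 3, 1, 2, 4, 5, 2, 4, 2],
    [5, 4, 2, 3, 5, 4, 1, 2, 3, 5, 2, 3, 2], [1, 2, 4, 2, 3, 2], [3, 2, 4, 3, 2, 1], [1, 2, 4, 3, 5, 2, 3, 1, 2, 4, 2, 3, 2],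
    [3, 2, 4, 2, 3, 5, 1, 2, 4, 3, 1, 2, 1]])]
  exact inH_words gsH _

/-- Let X be a finite group with O₃(X) extraspecial of order 27 and exponent 3, X/O₃(X) isomorphic to SL(2,3), O₂(X) = 1, and a Sylow 3-subgroup of X containing an elementary abelian subgroup of order 27. Then X is isomorphic to the centralizer in PSp(4,3) of a 3-central element of order 3 (an element of order 3 in the centre of a Sylow 3-subgroup). -/
theorem result {X : Type*} [Group X] [Finite X]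
    (hR : Cfsg.IsExtraspecial 3 (Cfsg.pCore 3 X)) (hRcard : Nat.card (Cfsg.pCore 3 X) = 27)
    (hRexp : ∀ r ∈ Cfsg.pCore 3 X, r ^ 3 = 1)
    (e : X ⧸ Cfsg.pCore 3 X ≃* Matrix.SpecialLinearGroup (Fin 2) (ZMod 3))
    (hO2 : Cfsg.pCore 2 X = ⊥)
    (hE : ∃ E : Subgroup X, IsMulCommutative E ∧ (∀ a ∈ E, a ^ 3 = 1) ∧ Nat.card E = 27)
    (F : Type*) [Field F] [Fintype F] (hF : Fintype.card F = 3) :
    ∃ (c : Cfsg.PSp 2 F) (S : Sylow 3 (Cfsg.PSp 2 F)), orderOf c = 3 ∧ c ∈ (S : Subgroup (Cfsg.PSp 2 F)) ∧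
      c ∈ Subgroup.centralizer ((S : Subgroup (Cfsg.PSp 2 F)) : Set (Cfsg.PSp 2 F)) ∧
      Nonempty (X ≃* Subgroup.centralizer ({c} : Set (Cfsg.PSp 2 F))) := by
  obtain ⟨E, h1, h2, h3⟩ := hE
  obtain ⟨u, i, y, h, ht, -⟩ := exRc' hR hRcard e (fun z z2 hz => by
    have : (zpowers z).Normal := ⟨fun n hn g => by
      obtain ⟨k, rfl⟩ := hn
      rw [((show Commute g z from hz g).zpow_right k).eq, mul_inv_cancel_right]; exact ⟨k, rfl⟩⟩
    exact (hO2.le (Core.le_pCore (Amalg.isPGroup_zpowers_of_pow (k := 1) (by simpa [pow_two] using z2)) (mem_zpowers z)) :)) h1 h2 h3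
  obtain ⟨φ, p1, p2⟩ := embC h
  obtain ⟨ψ⟩ := isoP0 hF
  have := Finite.of_equiv _ ψ.toEquiv
  let θ := MulEquiv.ofBijective φ ⟨p1, MonoidHom.range_eq_top.1 (top_le_iff.1 (ht.ge.trans (gen_le.2 (by
    simpa only [List.forall_mem_cons, List.not_mem_nil, IsEmpty.forall_iff, implies_true, and_true] using
      ⟨⟨_, (p2 1).2⟩, ⟨_, (p2 3).2⟩, ⟨_, (p2 5).2⟩⟩))))⟩
  let f : X →* PSp 2 F := ψ.toMonoidHom.comp ((inclusion (Coding.gen_le gsP)).comp θ.symm.toMonoidHom)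
  have hf : Function.Injective f := ψ.injective.comp ((inclusion_injective (Coding.gen_le gsP)).comp θ.symm.injective)
  obtain ⟨z, x, j, b, d, c, k⟩ := (h.map hf).fc
  obtain ⟨z', x', j', b', d', c', k'⟩ := h.fc
  obtain ⟨r, hr⟩ := Tm.sound p2 .nil (Tm.cmt (.c 5) (Tm.cj (.c 3) (.c 5)))
  have ea : cA (f i) (f y) = ψ (inclusion (Coding.gen_le gsP) ⟨_, r.2⟩) := by
    rw [← map_cA, ← show φ _ = cA i y from hr]
    exact congrArg (fun t => ψ (inclusion _ t)) (θ.symm_apply_apply _)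
  have hc : Nat.card (centralizer ({cA (f i) (f y)} : Set (PSp 2 F))) = 648 := by
    have h := Coding.card_centralizer (c := c27) (H := P0) rfl (fun g hg => (gsH g hg).1) r.1 (n := 40) (N := 648) (M := 1021)
      (d := 10) (a := 10) card_P0 (by decide +kernel)
    rw [ea, ← h, ← card_subgroupOf]
    refine Nat.card_congr (ψ.toEquiv.subtypeEquiv fun x => ?_).symm
    rw [mem_subgroupOf, mem_centralizer_singleton_iff, mem_centralizer_singleton_iff]
    show _ ↔ ψ x * _ = _ * ψ x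
    rw [← map_mul, ← map_mul, ψ.injective.eq_iff, Subtype.ext_iff]
    rfl
  refine ⟨_, Sylow.ofCard (gen [cA (f i) (f y), f y, f u, x]) (by
    rw [k.cS, ← Nat.card_congr ψ.toEquiv, card_P0]; decide +kernel), orderOf_eq_prime (by
      rw [pow_three']; exact (k.hJ _ (mem_gen (by simp))).1) k.a1, mem_gen (by simp), fun s hs => (k.hC s (k.hS s hs).1).1,
    ⟨(MonoidHom.ofInjective hf).trans (MulEquiv.subgroupCongr (eq_of_le_of_card_ge ?_ ?_))⟩⟩
  · rintro _ ⟨g, rfl⟩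
    rw [mem_centralizer_singleton_iff, ← map_cA, ← map_mul, ← map_mul, (k'.hC g (ht.ge (mem_top g))).1]
  · rw [hc, ← Nat.card_congr (MonoidHom.ofInjective hf).toEquiv, ← k'.cC, ht, card_top]

end Cfsg.Agent.S3366
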