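import Cfsg.Statements.S3370
import Cfsg.Agent.Lib.Hall.Sh2d
import Cfsg.Agent.Lib.PGrp.TwoMax

set_option autoImplicit false
open Cfsg

namespace Cfsg.Agent.S3370

open scoped Pointwise commutatorElement
open Cfsg.Lib Cfsg.Lib.Hall

open Subgroup Cfsg.Lib.Core Cfsg.Lib.Transfer Cfsg.Lib.Hall.Lin Module

theorem n1 {n p m : ℕ} (hp : p.Prime) (hm : m ≠ 0) (h : 2 ^ n - 1 = p ^ m) : m = 1 ∧ p ≠ 2 := by
  have h0 := Nat.one_le_two_pow (n := n)
  have h1 := Nat.le_self_pow hm p
  have h2 : p ≠ 2 := by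
    rintro rfl
    obtain ⟨m, rfl⟩ := Nat.exists_eq_succ_of_ne_zero hm
    rcases n with _ | n <;> simp only [pow_succ] at h h1 <;> omega
  refine ⟨by_contra fun hc => ?_, h2⟩
  obtain ⟨s, hs⟩ := Small.zsigmondy hp.one_lt (n := m * 2) (by omega) (fun e => h2 e.1) (fun e => by omega)
  have s1 := hs.lt hp.one_le (by omega)
  have s2 := hs.2.1
  rw [pow_mul, sq, show p ^ m * p ^ m - 1 = _ from Nat.mul_self_sub_mul_self_eq _ 1, show p ^ m + 1 = 2 ^ n by omega] at s2
  have := Nat.le_of_dvd two_pos (hs.1.dvd_of_dvd_pow ((hs.1.dvd_mul.mp s2).resolve_right (hs.2.2 m (by omega) (by omega))))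
  omega

theorem free_of_card {k V G : Type*} [Field k] [AddCommGroup V] [Module k V] [Group G] [Finite G]
    [Finite V] {ρ : G →* Module.End k V} (h : Tr ρ) (hc : Nat.card G = Nat.card V - 1) (g : G) (hg : g ≠ 1) (v : V)
    (e : ρ g v = v) : v = 0 := by_contra fun hv => by
  letI : MulAction G V := MulAction.compHom V ρ
  have e1 : MulAction.orbit G v = {0}ᶜ := by
    ext w
    exact ⟨by rintro ⟨g, rfl⟩; exact apply_ne_zero g hv, fun hw => h v w hv hw⟩
  have := (MulAction.stabilizer G v).card_mul_index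
  rw [MulAction.index_stabilizer, e1, Set.ncard_compl, Set.ncard_singleton, ← hc, mul_eq_right₀ Nat.card_pos.ne', card_eq_one] at this
  exact hg (mem_bot.mp (this ▸ e : g ∈ (⊥ : Subgroup G)))

theorem n2 {n q m : ℕ} (hq : q.Prime) (h2 : q ≠ 2) (hn : 2 ≤ n) (h : q ^ n - 1 = 2 ^ m) : q = 3 ∧ n = 2 := by
  obtain ⟨rfl, i, hi⟩ : n = 2 ∧ ∃ i, q + 1 = 2 ^ i := by_contra fun hc => by
    obtain ⟨s, hs⟩ := Small.zsigmondy hq.one_lt (n := n) (by omega) (fun e => h2 e.1) hc
    have s1 := hs.lt hq.one_le (by omega)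
    have := Nat.le_of_dvd two_pos (hs.1.dvd_of_dvd_pow (h ▸ hs.2.1))
    omega
  obtain ⟨j, -, hj⟩ := (Nat.dvd_prime_pow Nat.prime_two).mp (h ▸ Nat.sub_one_dvd_pow_sub_one q 2)
  have := hq.two_le
  rcases i with _ | _ | i <;> rcases j with _ | _ | j <;> (try simp only [pow_succ] at hi hj) <;> omega

/-- Let q be a prime, V a non-trivial finite vector space over the field with q elements, and G a non-trivial finite p-group (p prime) acting faithfully and linearly on V and transitively on the non-zero vectors. Then either q = 2 and G has prime order p = |V| − 1; or p = 2, V has q elements with q = 2^m + 1 and G is cyclic of order 2^m; or p = 2, q = 3, V has 9 elements and G is cyclic of order 8, quaternion of order 8, or semidihedral of order 16. -/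
theorem result (q : ℕ) [Fact q.Prime] {V : Type*} [AddCommGroup V] [Module (ZMod q) V] [Finite V] [Nontrivial V]
    {G : Type*} [Group G] [Finite G] [Nontrivial G] (p : ℕ) [Fact p.Prime] (hG : IsPGroup p G)
    (ρ : G →* (V ≃ₗ[ZMod q] V)) (hρ : Function.Injective ρ)
    (htrans : ∀ v w : V, v ≠ 0 → w ≠ 0 → ∃ g : G, ρ g v = w) :
    (q = 2 ∧ p = Nat.card V - 1 ∧ Nat.card G = p) ∨
    (p = 2 ∧ Nat.card V = q ∧ (∃ m : ℕ, q = 2 ^ m + 1 ∧ Nat.card G = 2 ^ m) ∧ IsCyclic G) ∨
    (p = 2 ∧ q = 3 ∧ Nat.card V = 9 ∧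
      ((IsCyclic G ∧ Nat.card G = 8) ∨ Nonempty (G ≃* QuaternionGroup 2) ∨ (Cfsg.IsQuasiDihedral G ∧ Nat.card G = 16))) := by
  have h : Tr (LinearEquiv.automorphismGroup.toLinearMapMonoidHom.comp ρ) := htrans
  have hi : Function.Injective (LinearEquiv.automorphismGroup.toLinearMapMonoidHom.comp ρ) :=
    LinearEquiv.toLinearMap_injective.comp hρ
  have hq : q.Prime := Fact.out
  have hp : p.Prime := Fact.out
  have c1 : Nat.card V = q ^ finrank (ZMod q) V := by rw [natCard_eq_pow_finrank (K := ZMod q), Nat.card_zmod]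
  obtain ⟨j, hj⟩ := hG.exists_card_eq
  obtain ⟨m, -, hm⟩ := (Nat.dvd_prime_pow hp).mp (hj ▸ h.card_dvd)
  have c2 : Nat.card G ∣ (Nat.card V - 1).factorial := by
    let f : G →* Equiv.Perm {v : V // v ≠ 0} := 
      { toFun := fun g => Equiv.Perm.subtypePerm (ρ g).toEquiv fun v => by simp
        map_one' := by ext; simp
        map_mul' := fun _ _ => by ext; simp }
    have := card_dvd_of_injective f ((injective_iff_map_eq_one _).mpr fun g hg => hρ (by
      rw [map_one]
      ext v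
      by_cases hv : v = 0
      · simp [hv]
      · exact congrArg (fun x : Equiv.Perm {v : V // v ≠ 0} => (x ⟨v, hv⟩ : V)) hg))
    rwa [Nat.card_perm, show Nat.card {v : V // v ≠ 0} = Nat.card V - 1 by
      classical
      haveI := Fintype.ofFinite V
      simp [Nat.card_eq_fintype_card]] at this
  have c3 : 1 < Nat.card G := Finite.one_lt_card
  have m0 : m ≠ 0 := by
    rintro rfl
    rw [hm] at c2
    have := Nat.le_of_dvd one_pos c2
    omega
  by_cases h2 : q = 2
  · subst h2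
    obtain ⟨rfl, -⟩ := n1 hp m0 (c1 ▸ hm)
    rw [pow_one] at hm
    refine Or.inl ⟨rfl, hm.symm, ?_⟩
    rw [hm, hj, hp.pow_dvd_factorial_iff (b := 2) (by rw [Nat.log_lt_iff_lt_pow hp.one_lt hp.ne_zero]; nlinarith [hp.one_lt])] at c2
    simp [Nat.div_self hp.pos] at c2
    have : j ≠ 0 := by rintro rfl; rw [pow_zero] at hj; omega
    rw [hj, show j = 1 by omega, pow_one]
  obtain rfl : p = 2 := by
    have : Even (p ^ m) := by rw [← hm, c1]; exact Nat.Odd.sub_odd (hq.odd_of_ne_two h2).pow odd_one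
    exact hp.even_iff.mp (Nat.even_pow.mp this).1
  obtain ⟨A, hA⟩ := exists_maxAb G
  haveI := hA.normal
  have hC := PGrp.centralizer_eq_of_maximal hG A hA.comm hA.max
  have hI : Irr _ A := by_contra fun hc => h.cent_ne hi hA.comm hc hC
  obtain ⟨F, _, _, _, _, χ, θ, hf⟩ := h.exists_fld hi hA.comm
  haveI := hf.tower
  have n1 := finrank_mul_finrank (ZMod q) F V
  rw [hf.irr_iff.mp hI, mul_one] at n1
  have n3 := hf.card_dvd
  rw [natCard_eq_pow_finrank (K := ZMod q) (V := F), Nat.card_zmod, n1, ← c1] at n3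
  have n4 := hf.index_le
  rw [hC, n1] at n4
  have n5 := A.card_mul_index
  have n6 := h.card_dvd
  have n7 : A.index = 1 → IsCyclic G ∧ Nat.card G = Nat.card V - 1 := fun e => by
    obtain rfl := index_eq_one.mp e
    exact ⟨(haveI := hf.isCyclic; isCyclic_of_surjective _ topEquiv.surjective), Nat.dvd_antisymm (card_top (G := G) ▸ n3) n6⟩
  have n8 := FiniteIndex.index_ne_zero (H := A)
  have n9 : 0 < finrank (ZMod q) V := finrank_pos
  by_cases h1 : finrank (ZMod q) V = 1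
  · rw [h1, pow_one] at c1
    have := n7 (by omega)
    have := hq.one_le
    exact Or.inr (Or.inl ⟨rfl, c1, ⟨m, by omega, by omega⟩, (n7 (by omega)).1⟩)
  obtain ⟨rfl, h3⟩ := n2 hq h2 (by omega) (c1 ▸ hm)
  rw [h3] at c1 n4
  refine Or.inr (Or.inr ⟨rfl, rfl, c1, ?_⟩)
  rw [c1] at n3 n6 n7
  by_cases i1 : A.index = 1
  · exact Or.inl (n7 i1)
  have i2 : A.index = 2 := by omega
  obtain ⟨⟨a, ha⟩, a1⟩ := isCyclic_iff_exists_zpowers_eq_top.mp hf.isCyclic
  have a2 : zpowers a = A := by simpa [← MonoidHom.range_eq_map] using congrArg (Subgroup.map A.subtype) a1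
  have a3 : ∃ x y : G, x * y ≠ y * x := by
    by_contra hc
    push Not at hc
    exact i1 (index_eq_one.mpr (hA.max ⊤ inferInstance ⟨⟨fun a b => Subtype.ext (hc a b)⟩⟩ le_top).symm)
  have a4 : ∀ b : G, θ b (χ ⟨a, ha⟩) = χ ⟨b * a * b⁻¹, hA.normal.conj_mem a ha b⟩ := fun b => by
    obtain ⟨v, hv⟩ := exists_ne (0 : V)
    refine smul_left_injective F hv ?_
    show _ • v = _ • v
    rw [← hf.act]
    conv_lhs => rw [← apply_inv (ρ := LinearEquiv.automorphismGroup.toLinearMapMonoidHom.comp ρ) b v, ← hf.semi, ← hf.act]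
    simp only [map_mul, Module.End.mul_apply]
  have a5 : orderOf (χ ⟨a, ha⟩ : F) = orderOf a := by rw [orderOf_units, orderOf_injective _ hf.inj, orderOf_mk]
  have a6 : (3 : F) = 0 := by
    rw [show (3 : F) = algebraMap (ZMod 3) F 3 from (map_ofNat _ 3).symm, show (3 : ZMod 3) = 0 from rfl, map_zero]
  have a7 : (2 : F) ≠ 0 := fun e => one_ne_zero (α := F) (by linear_combination a6 - e)
  rw [← a2, Nat.card_zpowers] at n3 n5
  rw [← a2] at i2
  rw [i2] at n5
  have : orderOf a = 4 ∨ orderOf a = 8 := by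
    have := Nat.le_of_dvd (by norm_num) n3
    rw [← n5] at n6
    interval_cases orderOf a <;> omega
  rcases this with a8 | a8
  · obtain ⟨b, hb | ⟨-, hb, -⟩⟩ := PGrp.cyclic_index_two (m := 0) a8 i2 a3
    · rcases hb.rel with ⟨b1, -⟩ | ⟨b1, b2⟩ | ⟨b1, -⟩
      · exfalso
        have hF : FC G := FC.of_rep _ (free_of_card h (by omega))
        exact hb.not_mem (hF.inv_unique hb.orderOf_z (hb.orderOf_b b1) ▸ npow_mem_zpowers _ _)
      · exact Or.inr (Or.inl (hb.quaternion b1 b2))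
      · omega
    · omega
  · have x4 : (χ ⟨a, ha⟩ : F) ^ 4 = -1 := by
      have e8 : (χ ⟨a, ha⟩ : F) ^ 4 * (χ ⟨a, ha⟩ : F) ^ 4 = 1 := by
        rw [← pow_add, show 4 + 4 = _ from (a5.trans a8).symm, pow_orderOf_eq_one]
      exact (mul_self_eq_one_iff.mp e8).resolve_left (pow_ne_one_of_lt_orderOf (by norm_num) (by omega))
    have key : ∀ (b : G) (i : ℕ), i = 5 ∨ i = 7 → b * a * b⁻¹ ≠ a ^ i := fun b i hi e => by
      have e1 : θ b (χ ⟨a, ha⟩) = (χ ⟨a, ha⟩ : F) ^ i := by
        rw [a4, ← Units.val_pow_eq_pow_val, ← map_pow]; congr 2; exact Subtype.ext e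
      generalize (χ ⟨a, ha⟩ : F) = x at *
      have x0 : x ≠ 0 := by rintro rfl; simp at x4
      have : (x ^ 2 - x - 1) * (x ^ 2 + x - 1) = 0 := by linear_combination x4 - x ^ 2 * a6
      rcases mul_eq_zero.mp this with e2 | e2 <;> have e3 := congrArg (θ b) e2 <;>
        simp only [map_sub, map_add, map_pow, map_one, map_zero, e1] at e3 <;> refine mul_ne_zero a7 x0 ?_ <;>
        rcases hi with rfl | rfl
      · linear_combination e3 - e2 - (x ^ 6 - x ^ 2 - x) * x4
      · linear_combination -x ^ 2 * e3 - e2 + (x ^ 12 - x ^ 8 + x ^ 4 - 1 - x ^ 5 + x) * x4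
      · linear_combination e2 - e3 + (x ^ 6 - x ^ 2 + x) * x4
      · linear_combination x ^ 2 * e3 + e2 - (x ^ 12 - x ^ 8 + x ^ 4 - 1 + x ^ 5 - x) * x4
    obtain ⟨b, hb | ⟨-, -, -, hb⟩⟩ := PGrp.cyclic_index_two (m := 1) a8 i2 a3
    · have e7 : a⁻¹ = a ^ 7 := inv_eq_of_mul_eq_one_right (by rw [← pow_succ', show 7 + 1 = _ from a8.symm, pow_orderOf_eq_one])
      rcases hb.rel with ⟨-, b2⟩ | ⟨-, b2⟩ | ⟨b0, b1, b2⟩
      · exact absurd (b2.trans e7) (key b 7 (Or.inr rfl))
      · exact absurd (b2.trans e7) (key b 7 (Or.inr rfl))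
      · exact Or.inr (Or.inr ⟨hb.quasiDihedral b0 b1 b2, by omega⟩)
    · exact absurd hb (key b 5 (Or.inl rfl))

end Cfsg.Agent.S3370
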