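import Cfsg.Statements.S3371
import Cfsg.Agent.Lib.Linear.HalfB

set_option autoImplicit false
open Cfsg

namespace Cfsg.Agent.S3371

open Subgroup MulAction Cfsg.Lib.PGrp Cfsg.Lib.Linear.Half

theorem line {q : ℕ} [Fact q.Prime] {V : Type*} [AddCommGroup V] [Module (ZMod q) V] [Finite V] {S : AddSubgroup V}
    (h : Nat.card S = q) {u : V} (hu : u ∈ S) (u0 : u ≠ 0) {v : V} (hv : v ∈ S) : ∃ c : ZMod q, v = c • u := by
  have := Function.Injective.bijective_of_nat_card_le (f := fun c : ZMod q => (⟨c • u, ZMod.smul_mem hu c⟩ : S))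
    (fun a b h => smul_left_injective _ u0 (congrArg Subtype.val h)) (by simp [h])
  obtain ⟨c, hc⟩ := this.2 ⟨v, hv⟩
  exact ⟨c, (congrArg Subtype.val hc).symm⟩

/-- Let q be a prime, V a non-trivial finite vector space over the field with q elements, and G a finite p-group (p prime) acting faithfully and linearly on V such that all G-orbits on the non-zero vectors have the same size. Then one of the following holds: G is cyclic or generalized quaternion and acts semiregularly on the non-zero vectors; or V has q² elements with q = 2^m − 1 and G is dihedral of order 2^(m+1) or semidihedral of order 2^(m+2); or V has q² elements with q = 2^m + 1 and, in suitable coordinates V = F_q², G is exactly the group of maps (x, y) ↦ (a x, ± a⁻¹ y) and (x, y) ↦ (± a⁻¹ y, a x) with a ≠ 0; or V has 81 elements (q = 3) and G is a 2-group. -/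
theorem result (q : ℕ) [Fact q.Prime] {V : Type*} [AddCommGroup V] [Module (ZMod q) V] [Finite V] [Nontrivial V]
    {G : Type*} [Group G] [Finite G] (p : ℕ) [Fact p.Prime] (hG : IsPGroup p G)
    (ρ : G →* (V ≃ₗ[ZMod q] V)) (hρ : Function.Injective ρ)
    (hhalf : ∀ v w : V, v ≠ 0 → w ≠ 0 → Nat.card {u : V | ∃ g : G, ρ g v = u} = Nat.card {u : V | ∃ g : G, ρ g w = u}) :
    ((IsCyclic G ∨ ∃ n : ℕ, Nonempty (G ≃* QuaternionGroup n)) ∧ ∀ v : V, v ≠ 0 → ∀ g : G, ρ g v = v → g = 1) ∨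
    (Nat.card V = q ^ 2 ∧ ∃ m : ℕ, q = 2 ^ m - 1 ∧
      (Nonempty (G ≃* DihedralGroup (2 ^ m)) ∨ (Cfsg.IsQuasiDihedral G ∧ Nat.card G = 2 ^ (m + 2)))) ∨
    (Nat.card V = q ^ 2 ∧ (∃ m : ℕ, q = 2 ^ m + 1) ∧
      ∃ e : V ≃ₗ[ZMod q] (Fin 2 → ZMod q), ∀ f : (Fin 2 → ZMod q) ≃ₗ[ZMod q] (Fin 2 → ZMod q),
        (∃ g : G, f = e.symm.trans ((ρ g).trans e)) ↔
        ∃ a s : ZMod q, a ≠ 0 ∧ (s = 1 ∨ s = -1) ∧
          ((∀ v, f v = ![a * v 0, s * a⁻¹ * v 1]) ∨ (∀ v, f v = ![s * a⁻¹ * v 1, a * v 0]))) ∨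
    (Nat.card V = 81 ∧ q = 3 ∧ p = 2) := by
  letI : DistribMulAction G V := DistribMulAction.compHom V ρ
  have hq : q.Prime := Fact.out
  have sm : ∀ (g : G) (c : ZMod q) (v : V), g • c • v = c • g • v := fun g c v => map_smul (ρ g) c v
  have hf : ∀ g : G, (∀ v : V, g • v = v) → g = 1 := fun g h => hρ (by rw [map_one]; exact LinearEquiv.ext h)
  have hs : ∀ v w : V, v ≠ 0 → w ≠ 0 → Nat.card (stabilizer G v) = Nat.card (stabilizer G w) := fun v w hv hw => by
    have h1 : (stabilizer G v).index = (stabilizer G w).index := by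
      rw [index_stabilizer, index_stabilizer]; exact hhalf v w hv hw
    have h2 := (card_mul_index (stabilizer G v)).trans (card_mul_index (stabilizer G w)).symm
    rw [h1] at h2
    exact Nat.eq_of_mul_eq_mul_right (Nat.pos_of_ne_zero index_ne_zero_of_finite) h2
  have hV : Nat.card V = q ^ Module.finrank (ZMod q) V := by
    rw [Module.natCard_eq_pow_finrank (K := ZMod q), Nat.card_zmod]
  by_cases hpq : p = q
  · subst hpq
    obtain ⟨v, hv, v0⟩ := hG.exists_fixed_point_of_prime_dvd_card_of_fixed_point V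
      (hV ▸ dvd_pow_self p Module.finrank_pos.ne') (a := 0) (by simp)
    have : ∀ g : G, g = 1 := fun g => hf g fun w => by
      by_cases w0 : w = 0
      · simp [w0]
      · have h1 : stabilizer G v = ⊤ := eq_top_iff.2 fun g _ => hv g
        exact (eq_top_of_card_eq _ (by rw [hs w v w0 v0.symm, h1, card_top])).ge (mem_top g)
    have : Subsingleton G := subsingleton_of_forall_eq 1 this
    exact .inl ⟨.inl inferInstance, fun _ _ _ _ => Subsingleton.elim ..⟩
  have H : HT G V p := ⟨hf, hs, fun v h => by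
    rw [← Nat.cast_smul_eq_nsmul (ZMod q), smul_eq_zero, ZMod.natCast_eq_zero_iff,
      Nat.prime_dvd_prime_iff_eq hq Fact.out] at h
    exact h.resolve_left (Ne.symm hpq), hG⟩
  have sqr : ∀ r, 1 < r → Nat.card V = r * r → ∃ j, 1 ≤ j ∧ r = q ^ j := fun r h1 h => by
    obtain ⟨j, -, rfl⟩ := (Nat.dvd_prime_pow hq).1 (⟨r, hV.symm.trans h⟩ : r ∣ _)
    exact ⟨j, Nat.pos_of_ne_zero (by rintro rfl; simp at h1), rfl⟩
  by_cases hE : ∀ A : Subgroup G, A.Normal → IsElementaryAbelian p A → Nat.card A ≠ p ^ 2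
  · rcases isCyclic_or_max2 hG hE with h | ⟨rfl, a, b, m, M, -⟩
    · refine .inl ⟨.inl h, fun v v0 g hg => by_contra fun g1 => v0 (H.central ?_ g1 hg)⟩
      exact mem_center_iff.2 fun x => (IsCyclic.isMulCommutative (α := G)).is_comm.comm x g
    have key : ∀ c d, 2 ≤ c → m + 2 = c + d → b ^ 2 = 1 → b * a * b⁻¹ = a ^ (2 ^ c - 1) →
        Nat.card V = q ^ 2 ∧ q = 2 ^ c - 1 := fun c d hc hd h1 h2 => by
      obtain ⟨r, r1, r2, r3⟩ := H.dih M hc hd h1 h2
      obtain ⟨j, j1, rfl⟩ := sqr r r1 r2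
      obtain rfl : j = 1 := by
        by_contra h; exact Lib.HH.pow_add_one_ne_two_pow hq.one_lt (by omega) r3
      rw [pow_one] at r2 r3
      exact ⟨by rw [r2, sq], by omega⟩
    rcases M.rel with ⟨h1, h2⟩ | ⟨h1, h2⟩ | ⟨h0, h1, h2⟩
    · obtain ⟨h3, h4⟩ := key (m + 2) 0 (by omega) rfl h1 (by
        rw [h2, inv_eq_iff_mul_eq_one, ← pow_succ', Nat.sub_add_cancel Nat.one_le_two_pow, ← M.ord,
          pow_orderOf_eq_one])
      exact .inr (.inl ⟨h3, _, h4, .inl (M.dihedral h1 h2)⟩)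
    · exact .inl ⟨.inr ⟨_, M.quaternion h1 h2⟩, fun v v0 g hg => H.quat M h1 h2 v0 hg⟩
    · obtain ⟨h3, h4⟩ := key (m + 1) 1 (by omega) rfl h1 h2
      exact .inr (.inl ⟨h3, _, h4, .inr ⟨M.quasiDihedral h0 h1 h2, M.card⟩⟩)
  push Not at hE
  obtain ⟨A, _, h1, h2⟩ := hE
  obtain ⟨rfl, e, z, u, hz, z1, zz, ee, u0, hu, he, g₀, hg₀⟩ := H.setup h1 h2
  obtain ⟨c1, n, c2⟩ := H.card_fx hz z1 zz ee u0 hu he hg₀
  obtain ⟨j, j1, hj⟩ := sqr _ (by rw [c2]; exact Nat.lt_succ_of_le Nat.one_le_two_pow) c1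
  by_cases j2 : 1 < j
  · obtain ⟨rfl, rfl⟩ := Lib.HH.pow_eq_two_pow_add_one hq.one_lt j2 (hj.symm.trans c2)
    exact .inr (.inr (.inr ⟨by rw [c1, hj]; rfl, rfl, rfl⟩))
  obtain rfl : j = 1 := by omega
  rw [pow_one] at hj
  rw [hj, ← sq] at c1
  refine .inr (.inr (.inl ⟨c1, ⟨n, hj.symm.trans c2⟩, ?_⟩))
  have hj' : Nat.card (fx V (e * z)) = q := by rw [← hg₀, card_fx_conj, hj]
  have w0 : g₀ • u ≠ 0 := by rwa [Ne, smul_eq_zero_iff_eq]
  have hw : (e * z) • g₀ • u = g₀ • u := by rw [← hg₀, smul_smul, inv_mul_cancel_right, mul_smul, hu]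
  generalize g₀ • u = w at w0 hw
  have ew : e • w = -w := by rwa [mul_smul, H.neg hz z1 zz, smul_neg, neg_eq_iff_eq_neg] at hw
  let φ : (Fin 2 → ZMod q) →ₗ[ZMod q] V :=
    (LinearMap.proj 0 : _ →ₗ[ZMod q] ZMod q).smulRight u + (LinearMap.proj 1 : _ →ₗ[ZMod q] ZMod q).smulRight w
  have φa : ∀ x, φ x = x 0 • u + x 1 • w := fun _ => rfl
  have hφ : Function.Bijective φ := by
    refine Function.Injective.bijective_of_nat_card_le ((injective_iff_map_eq_zero φ).2 fun x hx => ?_) (by simp [c1])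
    rw [φa] at hx
    have h3 := congrArg (e • ·) hx
    simp only [smul_add, sm, hu, ew, smul_zero, smul_neg] at h3
    have h4 : x 0 • u = 0 := H.hp _ (by rw [two_smul]; linear_combination (norm := abel1) hx + h3)
    rw [h4, zero_add] at hx
    ext i; fin_cases i
    exacts [(smul_eq_zero.1 h4).resolve_right u0, (smul_eq_zero.1 hx).resolve_right w0]
  let E := (LinearEquiv.ofBijective φ hφ).symm
  have K1 : ∀ (g : G) (a b : ZMod q), g • u = a • u → g • w = b • w → ∀ x,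
      E.symm.trans ((ρ g).trans E) x = ![a * x 0, b * x 1] := fun g a b h1 h2 x => by
    refine E.symm.injective ((E.symm_apply_apply _).trans ?_)
    change g • φ x = φ _
    simp [φa, sm, h1, h2, smul_smul, mul_comm]
  have K2 : ∀ (g : G) (a b : ZMod q), g • u = a • w → g • w = b • u → ∀ x,
      E.symm.trans ((ρ g).trans E) x = ![b * x 1, a * x 0] := fun g a b h1 h2 x => by
    refine E.symm.injective ((E.symm_apply_apply _).trans ?_)
    change g • φ x = φ _
    simp [φa, sm, h1, h2, smul_smul, mul_comm, add_comm]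
  have sw : ∀ a : ZMod q, a ≠ 0 → ∃ h : G, h * e * h⁻¹ = e * z ∧ h • u = a • w ∧ h • w = a⁻¹ • u := fun a ha => by
    obtain ⟨h, a1, a2, a3⟩ := H.swap2 hz z1 ee he u0 (smul_ne_zero ha w0) hu (by rw [sm, hw])
    exact ⟨h, a1, a2, by rw [← a3, sm, inv_smul_smul₀ ha]⟩
  obtain ⟨t, t1, t2, t3⟩ := sw 1 one_ne_zero
  rw [one_smul] at t2
  rw [inv_one, one_smul] at t3
  have dg : ∀ a s : ZMod q, a ≠ 0 → (s = 1 ∨ s = -1) → ∃ h : G, h • u = a • u ∧ h • w = (s * a⁻¹) • w := by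
    intro a s ha hs
    obtain ⟨h, -, a2, a3⟩ := sw a ha
    rcases hs with rfl | rfl
    · exact ⟨t * h, by rw [mul_smul, a2, sm, t3], by rw [mul_smul, a3, sm, t2, one_mul]⟩
    · exact ⟨t * h * e, by rw [mul_smul, hu, mul_smul, a2, sm, t3], by
        rw [mul_smul, ew, smul_neg, mul_smul, a3, sm, t2, neg_one_mul, neg_smul]⟩
  have dg' : ∀ g : G, g * e * g⁻¹ = e → ∃ a s : ZMod q, a ≠ 0 ∧ (s = 1 ∨ s = -1) ∧ g • u = a • u ∧
      g • w = (s * a⁻¹) • w := fun g hg => by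
    rw [mul_inv_eq_iff_eq_mul] at hg
    obtain ⟨a, ha⟩ := line hj (u := u) hu u0 (v := g • u) (by
      change e • _ = _; rw [smul_smul, ← hg, mul_smul, hu])
    obtain ⟨b, hb⟩ := line hj' (u := w) hw w0 (v := g • w) (by
      change (e * z) • _ = _
      rw [smul_smul, mul_assoc, ← mem_center_iff.1 hz, ← mul_assoc, ← hg, mul_assoc, mul_smul, hw])
    have a0 : a ≠ 0 := by rintro rfl; exact u0 ((smul_eq_zero_iff_eq g).1 (by rw [ha, zero_smul]))
    obtain ⟨h, a2, a3⟩ := dg a⁻¹ 1 (inv_ne_zero a0) (.inl rfl)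
    have h3 : (h * g) • w = (a * b) • w := by rw [mul_smul, hb, sm, a3, smul_smul, one_mul, inv_inv, mul_comm]
    refine ⟨a, a * b, a0, ?_, ha, by rw [hb, mul_right_comm, mul_inv_cancel₀ a0, one_mul]⟩
    rcases H.stab_two hz z1 zz ee u0 hu he w0 hw (fun g h1 h2 => hf g fun v => by
      obtain ⟨x, rfl⟩ := hφ.2 v
      rw [φa, smul_add, sm, sm, h1, h2]) (k := h * g) (by rw [mul_smul, ha, sm, a2, smul_inv_smul₀ a0]) with h4 | h4
    · exact .inl (smul_left_injective _ w0 (by simpa [h4] using h3.symm))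
    · exact .inr (smul_left_injective _ w0 (by simpa [h4, ew] using h3.symm))
  refine ⟨E, fun f => ⟨?_, ?_⟩⟩
  · rintro ⟨g, rfl⟩
    rcases he g with hg | hg
    · obtain ⟨a, s, a0, hs, a1, a2⟩ := dg' g hg
      exact ⟨a, s, a0, hs, .inl (K1 g _ _ a1 a2)⟩
    · obtain ⟨a, s, a0, hs, a1, a2⟩ := dg' (g * t) (by
        have : g * t * e * (g * t)⁻¹ = g * (t * e * t⁻¹) * g⁻¹ := by group
        rw [this, t1, ← mul_assoc, mul_assoc _ z, ← mem_center_iff.1 hz, ← mul_assoc, hg, mul_assoc, zz, mul_one])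
      rw [mul_smul, t2] at a1
      rw [mul_smul, t3] at a2
      have ss : s * s = 1 := by rcases hs with rfl | rfl <;> simp
      refine ⟨s * a⁻¹, s, mul_ne_zero (left_ne_zero_of_mul_eq_one ss) (inv_ne_zero a0), hs, .inr fun v => ?_⟩
      rw [K2 g _ _ a2 a1, mul_inv, inv_inv, ← mul_assoc, mul_inv_cancel₀ (left_ne_zero_of_mul_eq_one ss), one_mul]
  · rintro ⟨a, s, a0, hs, h | h⟩
    · obtain ⟨g, a1, a2⟩ := dg a s a0 hs
      exact ⟨g, LinearEquiv.ext fun v => (h v).trans (K1 g _ _ a1 a2 v).symm⟩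
    · obtain ⟨g, a1, a2⟩ := dg a s a0 hs
      exact ⟨t * g, LinearEquiv.ext fun v => (h v).trans (K2 (t * g) _ _ (by rw [mul_smul, a1, sm, t2])
        (by rw [mul_smul, a2, sm, t3]) v).symm⟩

end Cfsg.Agent.S3371
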