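import Cfsg.Statements.S3375
import Cfsg.Agent.Lib.Layer.Misc

set_option autoImplicit false
open Cfsg

namespace Cfsg.Agent.S3375

open Subgroup Cfsg.Lib.Core Cfsg.Lib.Amalg Cfsg.Lib.BG1 Cfsg.Lib.Layer
theorem key {H : Type*} [Group H] [Finite H] (γ : MulAut H) (hγ : ∀ h, γ (γ h) = h) (K : Subgroup H)
    (h1 : ∀ h, h⁻¹ * γ h ∈ K) (h2 : K.index = Nat.card {h : H // γ h = h}) :
    (∀ a ∈ K, ∀ b ∈ K, a * b = b * a) ∧ ∀ a ∈ K, γ a = a⁻¹ := by
  let C := γ.toMonoidHom.eqLocus (MonoidHom.id H)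
  have e : ∀ a b, b * a⁻¹ ∈ C ↔ a⁻¹ * γ a = b⁻¹ * γ b := fun a b => by
    show γ (b * a⁻¹) = b * a⁻¹ ↔ _
    rw [map_mul, map_inv, mul_inv_eq_iff_eq_mul, mul_assoc, ← inv_mul_eq_iff_eq_mul, eq_comm]
  let f : Quotient (QuotientGroup.rightRel C) → K := Quotient.lift (fun h => ⟨_, h1 h⟩) fun a b h =>
    Subtype.ext ((e a b).1 (QuotientGroup.rightRel_apply.1 h))
  have hf : Function.Injective f := fun a b => Quotient.inductionOn₂ a b fun a b h =>
    Quotient.sound (QuotientGroup.rightRel_apply.2 ((e a b).2 (congrArg Subtype.val h)))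
  have hc : Nat.card (Quotient (QuotientGroup.rightRel C)) = Nat.card K := by
    rw [Nat.card_congr (QuotientGroup.quotientRightRelEquivQuotientLeftRel C)]
    refine Nat.eq_of_mul_eq_mul_right (Nat.card_pos (α := C)) (C.index_mul_card.trans ?_)
    rw [← K.card_mul_index, h2]; rfl
  have h3 : ∀ a ∈ K, γ a = a⁻¹ := fun a ha => by
    obtain ⟨h, hh⟩ := (hf.bijective_of_nat_card_le hc.ge).2 ⟨a, ha⟩
    induction h using Quotient.inductionOn with
    | _ h =>
    obtain rfl : h⁻¹ * γ h = a := congrArg Subtype.val hh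
    simp [hγ]
  refine ⟨fun a ha b hb => inv_injective ?_, h3⟩
  rw [← h3 _ (mul_mem ha hb), map_mul, h3 a ha, h3 b hb, mul_inv_rev]


/-- Let γ be an automorphism of order 2 of a finite group H. (i) If γ fixes only the identity, then H is abelian and γ inverts every element. (ii) If γ has exactly two fixed points and H has a subgroup of index 2, then H has a γ-invariant abelian subgroup of index 2 on which γ acts by inversion. -/
theorem result {H : Type*} [Group H] [Finite H] (γ : MulAut H) (hγ : orderOf γ = 2) :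
    ((∀ h : H, γ h = h → h = 1) → (∀ a b : H, a * b = b * a) ∧ ∀ h : H, γ h = h⁻¹) ∧
    ((Nat.card {h : H // γ h = h} = 2 ∧ ∃ M : Subgroup H, M.index = 2) →
      ∃ A : Subgroup H, A.index = 2 ∧ IsMulCommutative A ∧ (∀ a ∈ A, γ a ∈ A) ∧ ∀ a ∈ A, γ a = a⁻¹) := by
  have h0 : ∀ h, γ (γ h) = h := fun h => by rw [← MulAut.mul_apply, ← pow_two, ← hγ, pow_orderOf_eq_one]; rfl
  refine ⟨fun h => ?_, fun ⟨h2, M, hM⟩ => ?_⟩
  · obtain ⟨h1, h2⟩ := key γ h0 ⊤ (fun _ => mem_top _) (by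
      rw [index_top, eq_comm, Nat.card_eq_one_iff_exists]; exact ⟨⟨1, map_one γ⟩, fun x => Subtype.ext (h _ x.2)⟩)
    exact ⟨fun a b => h1 a trivial b trivial, fun a => h2 a trivial⟩
  obtain ⟨K, hK, h1⟩ : ∃ K : Subgroup H, K.index = 2 ∧ ∀ h, h⁻¹ * γ h ∈ K := by
    by_cases e : ∀ h, h ∈ M ↔ γ h ∈ M
    · exact ⟨M, hM, fun h => by rw [mul_mem_iff_of_index_two hM, inv_mem_iff]; exact e h⟩
    push Not at e
    obtain ⟨a, ha⟩ := e
    refine ⟨{ carrier := {h | h ∈ M ↔ γ h ∈ M}, one_mem' := by simp, inv_mem' := by simp, mul_mem' := ?_ }, ?_, fun h => ?_⟩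
    · intro a b ha hb
      simp only [Set.mem_ofPred_eq, map_mul, mul_mem_iff_of_index_two hM] at ha hb ⊢
      tauto
    · refine index_eq_two_iff.2 ⟨a, fun b => ?_⟩
      show Xor (b * a ∈ M ↔ γ (b * a) ∈ M) (b ∈ M ↔ γ b ∈ M)
      simp only [map_mul, mul_mem_iff_of_index_two hM, Xor]
      tauto
    · show _ ∈ M ↔ γ _ ∈ M
      simp only [map_mul, map_inv, h0, mul_mem_iff_of_index_two hM, inv_mem_iff]
      tauto
  obtain ⟨h3, h4⟩ := key γ h0 K h1 (hK.trans h2.symm)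
  exact ⟨K, hK, ⟨⟨fun a b => Subtype.ext (h3 _ a.2 _ b.2)⟩⟩, fun a ha => h4 a ha ▸ inv_mem ha, h4⟩

end Cfsg.Agent.S3375
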