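import Cfsg.Statements.S3376
import Cfsg.Agent.S2276
import Cfsg.Agent.Lib.Core.Nilpotent

set_option autoImplicit false
open Cfsg

namespace Cfsg.Agent.S3376

open Subgroup Cfsg.Lib Equiv
open scoped IsMulCommutative

theorem main {G : Type*} [Group G] [Finite G] (hG : Nat.card G = 162)
    (S : Sylow 3 G) (T : Sylow 2 G) (J : Subgroup G) [hJn : J.Normal] (hJcomm : IsMulCommutative J)
    (hJexp : ∀ a ∈ J, a ^ 3 = 1) (hJcard : Nat.card J = 27)
    (Z : Subgroup G) (hZ : Z = (S : Subgroup G) ⊓ centralizer ((S : Subgroup G) : Set G)) (hZcard : Nat.card Z = 3)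
    (hZT : Z ≤ centralizer ((T : Subgroup G) : Set G))
    (hST : (S : Subgroup G) ⊓ centralizer ((T : Subgroup G) : Set G) ≠ S) (z0 : Perm (Fin 9)) (h3 : z0 ^ 3 = 1)
    (h9 : z0.support.card = 9) : Nonempty (G ≃* centralizer ({z0} : Set (Perm (Fin 9)))) := by
  have : Fact (Nat.Prime 3) := ⟨Nat.prime_three⟩
  have : Fact (Nat.Prime 2) := ⟨Nat.prime_two⟩
  have cS : Nat.card S = 81 := by rw [S.card_eq_multiplicity, hG]; decide +kernel
  have cT : Nat.card T = 2 := by rw [T.card_eq_multiplicity, hG]; decide +kernel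
  obtain ⟨⟨t, ht⟩, t1, t2⟩ := (Nat.card_eq_two_iff' (1 : (T : Subgroup G))).1 cT
  have tt : t ^ 2 = 1 := congrArg Subtype.val (cT ▸ pow_card_eq_one' (x := (⟨t, ht⟩ : (T : Subgroup G))))
  have hJ : IsPGroup 3 J := fun a => ⟨1, Subtype.ext (hJexp a a.2)⟩
  have zz : ∀ w ∈ Z, w ≠ 1 → Z ≤ zpowers w := fun w hw h => (eq_of_le_of_card_ge (zpowers_le.2 hw) (by
    rw [hZcard, Nat.card_zpowers, orderOf_eq_prime (p := 3)
      (congrArg Subtype.val (hZcard ▸ pow_card_eq_one' (x := (⟨w, hw⟩ : Z)))) h])).ge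
  obtain ⟨⟨z, zJ, zS⟩, z1⟩ := ne_bot_iff_exists_ne_one.1 (Core.inf_centralizer_ne_bot_of_isPGroup hJ S.2
    le_normalizer_of_normal (by rintro rfl; simp at hJcard))
  replace z1 : z ≠ 1 := fun e => z1 (Subtype.ext e)
  have zZ : z ∈ Z := hZ ▸ ⟨hJ.le_sylow_of_normal S zJ, zS⟩
  have zc : centralizer {z} = ⊤ := eq_top_of_le_card _ (hG.trans_le (Nat.le_of_dvd Nat.card_pos
    (Nat.Coprime.mul_dvd_of_dvd_of_dvd (m := 81) (n := 2) (by norm_num)
      (cS ▸ card_dvd_of_le fun s hs => mem_centralizer_singleton_iff.2 (zS s hs))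
      (cT ▸ card_dvd_of_le fun s hs => mem_centralizer_singleton_iff.2 (hZT zZ s hs)))))
  replace zc : ∀ g, g * z = z * g := fun g => mem_centralizer_singleton_iff.1 (zc.ge (mem_top g))
  obtain ⟨φ, hφ⟩ := CommGroup.exists_apply_ne_one_of_hasEnoughRootsOfUnity J ℂ (a := ⟨z, zJ⟩)
    fun e => z1 (congrArg Subtype.val e)
  let f : J →* ℂˣ := φ * φ.comp (MulAut.conjNormal t).toMonoidHom
  have c3 : ∀ (φ : J →* ℂˣ) a, φ a ^ 3 = 1 := fun φ a => by
    rw [← map_pow, show a ^ 3 = 1 from Subtype.ext (hJexp a a.2), map_one]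
  have fz : f ⟨z, zJ⟩ ≠ 1 := fun e => hφ (by
    have : MulAut.conjNormal t ⟨z, zJ⟩ = ⟨z, zJ⟩ := Subtype.ext (by simp [zc])
    rw [← c3 φ ⟨z, zJ⟩, pow_succ, sq, show φ _ * φ _ = 1 by simpa [f, this] using e, one_mul])
  have cr : Nat.card f.range = 3 := by
    have a : Nat.card f.range ≤ 3 := (card_le_of_le (K := rootsOfUnity 3 ℂ) (by
      rintro _ ⟨a, rfl⟩; exact c3 f a)).trans (card_rootsOfUnity ℂ 3)
    have b := hJcard ▸ card_range_dvd f
    have c : Nat.card f.range ≠ 1 := fun e => fz ((card_eq_one.1 e).le ⟨_, rfl⟩)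
    have := Nat.pos_of_dvd_of_pos b (by decide)
    interval_cases Nat.card f.range <;> simp_all
  let A := f.ker.map J.subtype
  have cA : Nat.card A = 9 := by
    have := f.ker.card_mul_index
    rw [index_ker, cr, hJcard] at this
    rw [card_subtype]; omega
  have cH : Nat.card (T ⊔ A : Subgroup G) = 18 := by
    rw [Core.card_sup_of_disjoint _ (disjoint_of_coprime_natCard (by rw [cT, cA]; decide)).eq_bot, cT, cA]
    refine fun u hu => mem_normalizer_fintype ?_
    rintro _ ⟨a, ha, rfl⟩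
    by_cases e : (⟨u, hu⟩ : (T : Subgroup G)) = 1
    · exact ⟨a, ha, by simp [show u = 1 from congrArg Subtype.val e]⟩
    obtain rfl : u = t := congrArg Subtype.val (t2 _ e)
    refine ⟨MulAut.conjNormal u a, ?_, rfl⟩
    have : MulAut.conjNormal u (MulAut.conjNormal u a) = a := by
      rw [← MulAut.mul_apply, ← map_mul, ← sq, tt, map_one, MulAut.one_apply]
    simpa [f, this, mul_comm] using ha
  have zH : z ∉ (T ⊔ A : Subgroup G) := fun h => by
    have a : A ≤ J ⊓ (T ⊔ A) := le_inf (map_subtype_le _) le_sup_right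
    obtain ⟨w, hw, e⟩ := (eq_of_le_of_card_ge a (Nat.le_of_dvd (by omega) (cA ▸ Nat.dvd_gcd (m := 27) (n := 18)
      (hJcard ▸ card_dvd_of_le inf_le_left) (cH ▸ card_dvd_of_le inf_le_right)))).ge ⟨zJ, h⟩
    exact fz (by rwa [← show w = ⟨z, zJ⟩ from Subtype.ext e])
  generalize (T ⊔ A : Subgroup G) = H at cH zH
  have core : H.normalCore = ⊥ := by
    have a : H.normalCore ⊓ S = ⊥ := by_contra fun h => by
      obtain ⟨⟨w, w1, w2⟩, w3⟩ := ne_bot_iff_exists_ne_one.1 (Core.inf_centralizer_ne_bot_of_isPGroup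
        (S.2.to_le inf_le_right) S.2 (fun s hs => mem_normalizer_fintype fun x hx =>
          ⟨H.normalCore_normal.conj_mem x hx.1 s, S.1.mul_mem (S.1.mul_mem hs hx.2) (S.1.inv_mem hs)⟩) h)
      exact zH (zpowers_le.2 (H.normalCore_le w1.1) (zz w (hZ ▸ ⟨w1.2, w2⟩) (fun e => w3 (Subtype.ext e)) zZ))
    have b := card_subgroup_dvd_card (S ⊔ H.normalCore : Subgroup G)
    rw [Core.card_sup_of_disjoint le_normalizer_of_normal (inf_comm (S : Subgroup G) _ ▸ a), cS, hG] at b
    have c : H.normalCore ≤ T := IsPGroup.le_sylow_of_normal (IsPGroup.of_card_dvd_pow (n := 1)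
      (Nat.dvd_of_mul_dvd_mul_left (by decide) b)) T
    refine by_contra fun h => hST (inf_eq_left.2 fun s _ u hu => ?_)
    obtain ⟨⟨w, w1⟩, w2⟩ := ne_bot_iff_exists_ne_one.1 h
    replace w2 : w ≠ 1 := fun e => w2 (Subtype.ext e)
    have d : ∀ w ∈ (T : Subgroup G), w ≠ 1 → w = t := fun w h h' =>
      congrArg Subtype.val (t2 ⟨w, h⟩ fun e => h' (congrArg Subtype.val e))
    by_cases e : u = 1
    · simp [e]
    rw [d u hu e, ← d w (c w1) w2, eq_comm, ← mul_inv_eq_iff_eq_mul,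
      d _ (c (H.normalCore_normal.conj_mem w w1 s)) (by simpa using w2), d w (c w1) w2]
  have e : G ⧸ H ≃ Fin 9 := Finite.equivFinOfCardEq (by
    have := H.card_mul_index
    rw [cH, hG] at this
    rw [← index_eq_card]; omega)
  let ψ : G →* Perm (Fin 9) := e.permCongrHom.toMonoidHom.comp (MulAction.toPermHom G (G ⧸ H))
  have i : Function.Injective ψ := e.permCongrHom.injective.comp
    ((MonoidHom.ker_eq_bot_iff _).1 (H.normalCore_eq_ker.symm.trans core))
  obtain ⟨k, hk⟩ := isConj_iff.1 (S2276.isConj_three (u := ψ z) (by rw [← map_pow, hJexp z zJ, map_one]) h3 (by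
    rw [h9, Finset.eq_univ_of_forall (s := (ψ z).support) fun a => Perm.mem_support.2 fun h => zH ?_]; rfl
    obtain ⟨q, rfl⟩ := e.surjective a
    obtain ⟨g, rfl⟩ := QuotientGroup.mk_surjective q
    have : ((z * g : G) : G ⧸ H) = g := by simpa [ψ] using h
    simpa [← zc] using QuotientGroup.eq.1 this.symm))
  refine ⟨MulEquiv.ofBijective (((MulAut.conj k).toMonoidHom.comp ψ).codRestrict _ fun g =>
    mem_centralizer_singleton_iff.2 ?_) ((Nat.bijective_iff_injective_and_card _).2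
      ⟨fun a b h => i ((MulAut.conj k).injective (congrArg Subtype.val h)), ?_⟩)⟩
  · rw [← hk]
    change k * ψ g * k⁻¹ * _ = _ * (k * ψ g * k⁻¹)
    rw [conj_mul, conj_mul, ← map_mul, ← map_mul, zc]
  · have a := Perm.cycleType_of_pow_prime_eq_one h3
    have b := z0.sum_cycleType
    rw [a, h9, Multiset.sum_replicate, smul_eq_mul] at b
    rw [show z0.cycleType.card = 3 by omega] at a
    rw [hG, Perm.nat_card_centralizer, a]; simp [Nat.factorial]

/-- Let G be a group of order 162 = 3⁴·2 with Sylow 3-subgroup S and Sylow 2-subgroup T, having an elementary abelian normal subgroup J of order 27, such that Z = Z(S) has order 3, Z centralizes T, and C_S(T) ≠ S. Then G is isomorphic to the centralizer in Sym(9) of a product of three disjoint 3-cycles. -/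
theorem result {G : Type*} [Group G] [Finite G] (hG : Nat.card G = 162)
    (S : Sylow 3 G) (T : Sylow 2 G) (J : Subgroup G) [hJn : J.Normal] (hJcomm : IsMulCommutative J)
    (hJexp : ∀ a ∈ J, a ^ 3 = 1) (hJcard : Nat.card J = 27)
    (Z : Subgroup G) (hZ : Z = (S : Subgroup G) ⊓ Subgroup.centralizer ((S : Subgroup G) : Set G)) (hZcard : Nat.card Z = 3)
    (hZT : Z ≤ Subgroup.centralizer ((T : Subgroup G) : Set G))
    (hST : (S : Subgroup G) ⊓ Subgroup.centralizer ((T : Subgroup G) : Set G) ≠ S) :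
    Nonempty (G ≃* Subgroup.centralizer ({Equiv.swap (0 : Fin 9) 1 * Equiv.swap 1 2 * Equiv.swap 3 4 * Equiv.swap 4 5 * Equiv.swap 6 7 * Equiv.swap 7 8} : Set (Equiv.Perm (Fin 9)))) := by
  exact main hG S T J hJcomm hJexp hJcard Z hZ hZcard hZT hST _ (by decide +kernel) (by decide +kernel)

end Cfsg.Agent.S3376
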