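import Cfsg.Statements.S3378
import Cfsg.Agent.Lib.Hall.FC5
import Cfsg.Agent.S0201
import Cfsg.Agent.Lib.FT.Cor

set_option autoImplicit false
open Cfsg

namespace Cfsg.Agent.S3378

open scoped Pointwise commutatorElement
open Cfsg.Lib Cfsg.Lib.Hall

open Subgroup Cfsg.Lib.Core Cfsg.Lib.Transfer

/-- Every non-solvable group of order 120 whose Sylow 2-subgroups are quaternion of order 8 is isomorphic to SL(2,5), and SL(2,5) has the presentation ⟨x, y, z | x³ = y⁵ = z² = 1, z⁻¹xz = x, z⁻¹yz = y, (xy)² = z⟩. -/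
theorem result :
    (∀ (G : Type*) [Group G] [Finite G], Nat.card G = 120 → ¬ Group.IsSolvable G →
      (∀ P : Sylow 2 G, Nonempty ((P : Subgroup G) ≃* QuaternionGroup 2)) →
      Nonempty (G ≃* Matrix.SpecialLinearGroup (Fin 2) (ZMod 5))) ∧
    Nonempty (PresentedGroup ({FreeGroup.of (0 : Fin 3) ^ 3, FreeGroup.of (1 : Fin 3) ^ 5, FreeGroup.of (2 : Fin 3) ^ 2,
        (FreeGroup.of (2 : Fin 3))⁻¹ * FreeGroup.of 0 * FreeGroup.of 2 * (FreeGroup.of (0 : Fin 3))⁻¹,
        (FreeGroup.of (2 : Fin 3))⁻¹ * FreeGroup.of 1 * FreeGroup.of 2 * (FreeGroup.of (1 : Fin 3))⁻¹,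
        (FreeGroup.of (0 : Fin 3) * FreeGroup.of 1) ^ 2 * (FreeGroup.of (2 : Fin 3))⁻¹} : Set (FreeGroup (Fin 3)))
      ≃* Matrix.SpecialLinearGroup (Fin 2) (ZMod 5)) := by
  constructor
  · intro G _ _ hG hs hQ
    obtain ⟨S⟩ : Nonempty (Sylow 2 G) := inferInstance
    obtain ⟨e⟩ := hQ S
    have hO : ∀ N : Subgroup G, N.Normal → Odd (Nat.card N) → N = ⊥ := fun N hN ho => by
      by_contra h1
      have e := N.card_mul_index
      have a1 : 1 < Nat.card N := (one_lt_card_iff_ne_bot N).mpr h1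
      have a2 : 3 ≤ Nat.card N := by obtain ⟨k, hk⟩ := ho; omega
      haveI := FT.solvable_of_not_two_dvd N (Nat.two_dvd_ne_zero.mpr (Nat.odd_iff.mp ho))
      haveI := solvable_of_card_lt_sixty _ (G ⧸ N) rfl (show N.index < 60 by nlinarith)
      exact hs (isSolvable_of_normal_quotient N)
    have hZ := Cfsg.Agent.S0201.result S 0 e hO
    obtain ⟨z, hz⟩ := exists_prime_orderOf_dvd_card' (G := center G) 2 hZ.symm.dvd
    have hz' : orderOf (z : G) = 2 := (orderOf_coe z).trans hz
    have hzp : center G = zpowers (z : G) :=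
      (eq_of_le_of_card_ge (zpowers_le.mpr z.2) (by rw [hZ, Nat.card_zpowers, hz'])).symm
    have hu : ∀ t : G, orderOf t = 2 → t = z := fun t ht => by
      have hp : IsPGroup 2 ↥(zpowers t ⊔ center G) :=
        IsPGroup.to_sup_of_normal_right (IsPGroup.of_card (n := 1) (by rw [Nat.card_zpowers, ht, pow_one]))
          (IsPGroup.of_card (n := 1) (by rw [hZ, pow_one]))
      obtain ⟨T, hT⟩ := hp.exists_le_sylow
      obtain ⟨f⟩ := hQ T
      have key : ∀ a b : QuaternionGroup 2, a ≠ 1 → a ^ 2 = 1 → b ≠ 1 → b ^ 2 = 1 → a = b := by decide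
      have aux : ∀ u : (T : Subgroup G), orderOf (u : G) = 2 → f u ≠ 1 ∧ f u ^ 2 = 1 := fun u hu => by
        rw [orderOf_coe, ← f.orderOf_eq] at hu
        exact ⟨fun e => by simp [e] at hu, orderOf_dvd_iff_pow_eq_one.mp hu.dvd⟩
      have h1 := aux ⟨t, hT (mem_sup_left (mem_zpowers t))⟩ ht
      have h2 := aux ⟨z, hT (mem_sup_right z.2)⟩ hz'
      exact congrArg Subtype.val (f.injective (key _ _ h1.1 h1.2 h2.1 h2.2))
    have hq : Nat.card (G ⧸ center G) = 60 := by
      have := (center G).card_mul_index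
      rw [hZ, hG] at this
      show (center G).index = 60
      omega
    haveI : Group.IsSolvable (center G) := Group.isSolvable_of_comm fun a b => Subtype.ext (mem_center_iff.mp b.2 a)
    obtain ⟨g⟩ := equiv_A5_of_not_solvable hq fun h => hs (isSolvable_of_normal_quotient (center G))
    refine equiv_SL25_of_quotient hz' hu (g.toMonoidHom.comp (QuotientGroup.mk' _))
      (g.surjective.comp (QuotientGroup.mk'_surjective _)) ?_
    rw [← hzp]
    ext x
    simp [QuotientGroup.eq_one_iff]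
  · set R := ({FreeGroup.of (0 : Fin 3) ^ 3, FreeGroup.of (1 : Fin 3) ^ 5, FreeGroup.of (2 : Fin 3) ^ 2,
        (FreeGroup.of (2 : Fin 3))⁻¹ * FreeGroup.of 0 * FreeGroup.of 2 * (FreeGroup.of (0 : Fin 3))⁻¹,
        (FreeGroup.of (2 : Fin 3))⁻¹ * FreeGroup.of 1 * FreeGroup.of 2 * (FreeGroup.of (1 : Fin 3))⁻¹,
        (FreeGroup.of (0 : Fin 3) * FreeGroup.of 1) ^ 2 * (FreeGroup.of (2 : Fin 3))⁻¹} : Set (FreeGroup (Fin 3))) with hR
    have rel : ∀ r ∈ R, FreeGroup.lift (PresentedGroup.of : Fin 3 → PresentedGroup R) r = 1 :=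
      fun r hr => Linear.lift_of_eq_one hr
    simp only [hR, Set.mem_insert_iff, Set.mem_singleton_iff, forall_eq_or_imp, forall_eq, map_pow, map_mul, map_inv,
      FreeGroup.lift_apply_of] at rel
    obtain ⟨r1, r2, r3, r4, r5, r6⟩ := rel
    rw [mul_inv_eq_one] at r4 r5 r6
    rw [mul_assoc, inv_mul_eq_iff_eq_mul] at r4 r5
    have htop : closure ({PresentedGroup.of 0, PresentedGroup.of 1} : Set (PresentedGroup R)) = ⊤ := by
      rw [eq_top_iff, ← PresentedGroup.closure_range_of, closure_le]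
      rintro _ ⟨i, rfl⟩
      fin_cases i
      · exact subset_closure (by simp)
      · exact subset_closure (by simp)
      · show PresentedGroup.of 2 ∈ _
        rw [← r6]
        exact pow_mem (mul_mem (subset_closure (by simp)) (subset_closure (by simp))) 2
    obtain ⟨hf, hc⟩ := card_le_120_top htop r1 r2 (by rw [show 4 = 2 * 2 from rfl, pow_mul, r6, r3]) (r6 ▸ r4.symm)
      (r6 ▸ r5.symm)
    refine (Linear.isPres_of_card_le (a := ![slX, slY, -1]) ?_ ?_ (by rwa [card_SL25])).nonempty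
    · rw [eq_top_iff, ← closure_slXY]
      refine closure_mono ?_
      rintro _ (rfl | rfl)
      · exact ⟨0, rfl⟩
      · exact ⟨1, rfl⟩
    · simp only [hR, Set.mem_insert_iff, Set.mem_singleton_iff, forall_eq_or_imp, forall_eq, map_pow, map_mul, map_inv,
        FreeGroup.lift_apply_of]
      decide

end Cfsg.Agent.S3378
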