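import Cfsg.Statements.S3380
import Cfsg.Agent.Lib.PGrp.TwoMax
import Cfsg.Agent.Lib.PGrp.Cyclic

set_option autoImplicit false
open Cfsg

namespace Cfsg.Agent.S3380

open Subgroup Cfsg.Lib

section aux
variable {F V G : Type*} [Field F] [AddCommGroup V] [Module F V] [Group G]

theorem norm_fix (r : G →* Module.End F V) {x : G} {p : ℕ} (hx : x ^ p = 1) (w : V) :
    r x (∑ k ∈ Finset.range p, r (x ^ k) w) = ∑ k ∈ Finset.range p, r (x ^ k) w := by
  rw [map_sum]
  have h1 := Finset.sum_range_succ (fun k => r (x ^ k) w) p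
  have h2 := Finset.sum_range_succ' (fun k => r (x ^ k) w) p
  rw [h1, hx, pow_zero] at h2
  rw [add_right_cancel h2]
  refine Finset.sum_congr rfl fun k _ => ?_
  rw [pow_succ', map_mul, Module.End.mul_apply]

theorem exists_fix [Finite G] [Nontrivial V] (r : G →* Module.End F V) {p : ℕ} [hp : Fact p.Prime]
    (hpF : (p : F) ≠ 0) {A : Subgroup G} (hA : IsElementaryAbelian p A) (hc : Nat.card A = p ^ 2) :
    ∃ a ∈ A, a ≠ 1 ∧ ∃ w : V, w ≠ 0 ∧ r a w = w := by
  by_contra hcon
  push Not at hcon
  have h0 : ∀ a ∈ A, a ≠ 1 → ∀ w, ∑ k ∈ Finset.range p, r (a ^ k) w = 0 := by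
    intro a ha h1 w
    by_contra hne
    exact hcon a ha h1 _ hne (norm_fix r (hA.2 a ha) w)
  have hA1 : A ≠ ⊥ := by
    rintro rfl
    rw [card_bot] at hc
    exact (Nat.one_lt_pow two_ne_zero hp.out.one_lt).ne hc
  obtain ⟨x, hx, hx1⟩ := A.bot_or_exists_ne_one.resolve_left hA1
  have hxo : orderOf x = p := orderOf_eq_prime (hA.2 x hx) hx1
  have : ¬ A ≤ zpowers x := by
    intro h
    have := card_le_of_le h
    rw [Nat.card_zpowers, hxo, hc] at this
    nlinarith [hp.out.one_lt]
  obtain ⟨y, hy, hyx⟩ := SetLike.not_le_iff_exists.1 this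
  have hxy : Commute y x := congrArg Subtype.val (hA.1.is_comm.comm (⟨y, hy⟩ : A) ⟨x, hx⟩)
  obtain ⟨w, hw⟩ := exists_ne (0 : V)
  have h1 : ∑ i ∈ Finset.range p, ∑ k ∈ Finset.range p, r ((y * x ^ i) ^ k) w = 0 := by
    refine Finset.sum_eq_zero fun i _ => h0 _ (mul_mem hy (pow_mem hx i)) (fun h => hyx ?_) w
    rw [eq_inv_of_mul_eq_one_left h]
    exact inv_mem (pow_mem (mem_zpowers x) i)
  rw [Finset.sum_comm, Finset.sum_eq_single 0] at h1
  · simp only [pow_zero, map_one, Module.End.one_apply, Finset.sum_const, Finset.card_range] at h1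
    rw [← Nat.cast_smul_eq_nsmul F, smul_eq_zero] at h1
    exact h1.elim hpF hw
  · intro k hk hk0
    have hk1 : x ^ k ≠ 1 := pow_ne_one_of_lt_orderOf hk0 (hxo ▸ Finset.mem_range.1 hk)
    have h2 := congrArg (r (y ^ k)) (h0 _ (pow_mem hx k) hk1 w)
    rw [map_zero, map_sum] at h2
    rw [← h2]
    refine Finset.sum_congr rfl fun i _ => ?_
    rw [(hxy.pow_right i).mul_pow, map_mul, Module.End.mul_apply, ← pow_mul, ← pow_mul, mul_comm]
  · intro h
    exact absurd (Finset.mem_range.2 hp.out.pos) h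

end aux

/-- Let a finite p-group G act faithfully and irreducibly on a non-trivial finite vector space V over the field with q elements (q prime), and suppose G is not cyclic, generalized quaternion, dihedral or semidihedral. Then G has a subgroup H of index p and V is the direct sum of p subspaces, each invariant under H, on none of which H acts faithfully, and which every element of G outside H permutes in a single p-cycle. -/
theorem result
    (q : ℕ) [Fact q.Prime] {V : Type*} [AddCommGroup V] [Module (ZMod q) V] [Finite V] [Nontrivial V]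
    {G : Type*} [Group G] [Finite G] (p : ℕ) [Fact p.Prime] (hG : IsPGroup p G)
    (ρ : G →* (V ≃ₗ[ZMod q] V)) (hρ : Function.Injective ρ)
    (hirr : ∀ W : Submodule (ZMod q) V, (∀ g : G, ∀ w ∈ W, ρ g w ∈ W) → W = ⊥ ∨ W = ⊤)
    (hnc : ¬ IsCyclic G) (hnq : ∀ n : ℕ, ¬ Nonempty (G ≃* QuaternionGroup n))
    (hnd : ∀ n : ℕ, ¬ Nonempty (G ≃* DihedralGroup n)) (hnsd : ¬ Cfsg.IsQuasiDihedral G) :
    ∃ (H : Subgroup G) (W : Fin p → Submodule (ZMod q) V), H.index = p ∧
      iSup W = ⊤ ∧ iSupIndep W ∧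
      (∀ h ∈ H, ∀ i, ∀ w ∈ W i, ρ h w ∈ W i) ∧
      (∀ i, ∃ h ∈ H, h ≠ 1 ∧ ∀ w ∈ W i, ρ h w = w) ∧
      ∀ g : G, g ∉ H → ∃ σ : Equiv.Perm (Fin p), orderOf σ = p ∧ ∀ i, (W i).map (ρ g : V →ₗ[ZMod q] V) = W (σ i) := by
  classical
  have hp : p.Prime := Fact.out
  set r : G →* Module.End (ZMod q) V :=
    LinearEquiv.automorphismGroup.toLinearMapMonoidHom.comp ρ with hr
  have hrρ : ∀ g w, r g w = ρ g w := fun _ _ => rfl
  have hmul : ∀ g h w, ρ (g * h) w = ρ g (ρ h w) := fun g h w => by rw [map_mul]; rfl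
  have hinv : ∀ g w, ρ g (ρ g⁻¹ w) = w := fun g w => by rw [← hmul, mul_inv_cancel, map_one]; rfl
  have hinv' : ∀ g w, ρ g⁻¹ (ρ g w) = w := fun g w => by rw [← hmul, inv_mul_cancel, map_one]; rfl
  -- fixed points of a normal nontrivial subgroup vanish
  have hnorm : ∀ N : Subgroup G, N.Normal → N ≠ ⊥ → ∀ w, (∀ a ∈ N, ρ a w = w) → w = 0 := by
    intro N hN hN1 w hw
    let U : Submodule (ZMod q) V :=
      { carrier := {w | ∀ a ∈ N, ρ a w = w}
        add_mem' := fun {x y} hx hy a ha => by rw [map_add, hx a ha, hy a ha]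
        zero_mem' := fun a _ => map_zero _
        smul_mem' := fun c x hx a ha => by rw [map_smul, hx a ha] }
    rcases hirr U (fun g w hw a ha => by
      have := hw _ (hN.conj_mem a ha g⁻¹)
      rw [inv_inv, hmul, hmul] at this
      rw [← hinv g (ρ a (ρ g w)), this]) with h | h
    · exact (Submodule.eq_bot_iff U).1 h w hw
    · exfalso
      obtain ⟨a, ha, ha1⟩ := N.bot_or_exists_ne_one.resolve_left hN1
      apply ha1
      apply hρ
      rw [map_one]
      ext v
      exact (h ▸ Submodule.mem_top : v ∈ U) a ha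
  have hG1 : (⊤ : Subgroup G) ≠ ⊥ := by
    intro h
    haveI : Subsingleton G := (subsingleton_iff (G := G)).1 (subsingleton_iff_bot_eq_top.1 h.symm)
    exact hnc inferInstance
  have hpq : (p : ZMod q) ≠ 0 := by
    intro h
    rw [ZMod.natCast_eq_zero_iff, Nat.prime_dvd_prime_iff_eq Fact.out hp] at h
    subst h
    letI : MulAction G V := MulAction.compHom V ρ
    have hd : q ∣ Nat.card V := by
      rw [Module.natCard_eq_pow_finrank (K := ZMod q), Nat.card_zmod]
      exact dvd_pow_self _ Module.finrank_pos.ne'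
    obtain ⟨b, hb, hb0⟩ := hG.exists_fixed_point_of_prime_dvd_card_of_fixed_point V hd
      (a := 0) (fun g => map_zero (ρ g))
    exact hb0 (hnorm ⊤ inferInstance hG1 b fun a _ => hb a).symm
  obtain ⟨A, hAn, hA, hAc⟩ : ∃ A : Subgroup G, A.Normal ∧ IsElementaryAbelian p A ∧
      Nat.card A = p ^ 2 := by
    by_contra hcon
    push Not at hcon
    rcases PGrp.isCyclic_or_max2 hG hcon with h | ⟨-, a, b, m, h, -⟩
    · exact hnc h
    · rcases h.cases with h | h | h
      · exact hnd _ h
      · exact hnq _ h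
      · exact hnsd h
  have hA1 : A ≠ ⊥ := by
    rintro rfl
    rw [card_bot] at hAc
    exact (Nat.one_lt_pow two_ne_zero hp.one_lt).ne hAc
  have hcomm : ∀ x ∈ A, ∀ y ∈ A, x * y = y * x := fun x hx y hy =>
    congrArg Subtype.val (hA.1.is_comm.comm (⟨x, hx⟩ : A) ⟨y, hy⟩)
  obtain ⟨a, ha, ha1, w₀, hw₀, haw⟩ := exists_fix r hpq hA hAc
  rw [hrρ] at haw
  set H := centralizer ({a} : Set G) with hH
  have hmH : ∀ g, g ∈ H ↔ g * a = a * g := fun g => mem_centralizer_singleton_iff
  set c : G ⧸ H → G := fun x => x.out * a * x.out⁻¹ with hc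
  have hcmk : ∀ g : G, c (g : G ⧸ H) = g * a * g⁻¹ := by
    intro g
    obtain ⟨h, hh⟩ := QuotientGroup.mk_out_eq_mul H g
    simp only [hc, hh]
    have := (hmH h).1 h.2
    calc g * h * a * (g * h)⁻¹ = g * (h * a) * (h : G)⁻¹ * g⁻¹ := by group
      _ = _ := by rw [this]; group
  have hcs : ∀ (g : G) x, c (g • x) = g * c x * g⁻¹ := by
    intro g x
    obtain ⟨y, rfl⟩ := QuotientGroup.mk_surjective x
    rw [MulAction.Quotient.smul_mk, hcmk, hcmk, smul_eq_mul]; group
  have hcinj : Function.Injective c := by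
    intro x y hxy
    obtain ⟨x, rfl⟩ := QuotientGroup.mk_surjective x
    obtain ⟨y, rfl⟩ := QuotientGroup.mk_surjective y
    rw [hcmk, hcmk] at hxy
    rw [QuotientGroup.eq, hmH]
    calc x⁻¹ * y * a = x⁻¹ * (y * a * y⁻¹) * y := by group
      _ = _ := by rw [← hxy]; group
  have hcA : ∀ x, c x ∈ A := fun x => hAn.conj_mem a ha _
  have hc1 : ∀ x, c x ≠ 1 := fun x h => ha1 (by simpa [hc] using h)
  have hao : orderOf a = p := orderOf_eq_prime (hA.2 a ha) ha1
  have hHtop : H ≠ ⊤ := by
    intro h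
    have hz : zpowers a ≤ center G := zpowers_le.2 (mem_center_iff.2 fun g => (hmH g).1 (h ▸ mem_top g))
    refine hw₀ (hnorm (zpowers a) ⟨fun n hn g => ?_⟩ (by simpa using ha1) w₀ ?_)
    · rw [mem_center_iff.1 (hz hn) g, mul_inv_cancel_right]; exact hn
    intro b hb
    obtain ⟨k, rfl⟩ := (Submonoid.mem_powers_iff b a).1 (mem_powers_iff_mem_zpowers.2 hb)
    induction k with
    | zero => simp
    | succ k ih => rw [pow_succ, hmul, haw, ih (pow_mem (mem_zpowers a) k)]
  have hidx : H.index = p := by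
    obtain ⟨k, hk⟩ := hG.index H
    have hlt : H.index < p ^ 2 := by
      rw [← hAc, index]
      haveI := Fintype.ofFinite (G ⧸ H)
      haveI := Fintype.ofFinite A
      rw [Nat.card_eq_fintype_card, Nat.card_eq_fintype_card]
      exact Fintype.card_lt_of_injective_of_notMem (fun x => (⟨c x, hcA x⟩ : A))
        (fun x y h => hcinj (congrArg Subtype.val h)) (b := 1)
        (fun ⟨x, hx⟩ => hc1 x (congrArg Subtype.val hx))
    rw [hk] at hlt ⊢
    have h2 : k < 2 := (Nat.pow_lt_pow_iff_right hp.one_lt).1 hlt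
    have h0 : k ≠ 0 := by
      rintro rfl
      exact hHtop (index_eq_one.1 (by simpa using hk))
    obtain rfl : k = 1 := by omega
    exact pow_one p
  haveI hHn : H.Normal := PGrp.normal_of_index_eq hG hidx
  have hHs : ∀ h ∈ H, ∀ x : G ⧸ H, h • x = x := by
    intro h hh x
    obtain ⟨y, rfl⟩ := QuotientGroup.mk_surjective x
    rw [MulAction.Quotient.smul_mk, smul_eq_mul, QuotientGroup.eq]
    simpa [mul_assoc] using hHn.conj_mem _ (inv_mem hh) y⁻¹
  obtain ⟨e⟩ : Nonempty (Fin p ≃ G ⧸ H) := ⟨(Finite.equivFinOfCardEq hidx).symm⟩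
  set Fx : G → Submodule (ZMod q) V := fun g => LinearMap.eqLocus (r g) LinearMap.id with hFx
  have hmF : ∀ g w, w ∈ Fx g ↔ ρ g w = w := fun g w => Iff.rfl
  have hFs : ∀ (g : G) x w, w ∈ Fx (c x) → ρ g w ∈ Fx (c (g • x)) := by
    intro g x w hw
    rw [hmF] at hw ⊢
    rw [hcs, hmul, hmul, hinv', hw]
  have hAH : A ≤ H := fun x hx => (hmH x).2 (hcomm x hx a ha)
  refine ⟨H, fun i => Fx (c (e i)), hidx, ?_, ?_, ?_, ?_, ?_⟩
  · refine (hirr _ fun g w hw => ?_).resolve_left fun h => hw₀ ?_
    · induction hw using Submodule.iSup_induction' with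
      | mem i w hw =>
        refine Submodule.mem_iSup_of_mem (e.symm (g • e i)) ?_
        rw [e.apply_symm_apply]
        exact hFs g _ w hw
      | zero => rw [map_zero]; exact zero_mem _
      | add x y _ _ hx hy => rw [map_add]; exact add_mem hx hy
    · refine (Submodule.eq_bot_iff _).1 h w₀ (Submodule.mem_iSup_of_mem (e.symm ((1 : G) : G ⧸ H)) ?_)
      rw [e.apply_symm_apply, hcmk, hmF]
      simpa using haw
  · intro i
    set x := c (e i) with hx
    have hxA : x ∈ A := hcA _
    set Nm : V →ₗ[ZMod q] V := ∑ k ∈ Finset.range p, r (x ^ k) with hNm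
    have hNa : ∀ w, Nm w = ∑ k ∈ Finset.range p, r (x ^ k) w := fun w => by
      rw [hNm, LinearMap.sum_apply]
    have hker : (⨆ j, ⨆ (_ : j ≠ i), Fx (c (e j))) ≤ LinearMap.ker Nm := by
      refine iSup₂_le fun j hj w hw => ?_
      set y := c (e j) with hy
      have hyA : y ∈ A := hcA _
      rw [LinearMap.mem_ker]
      have hxo : orderOf x = p := orderOf_eq_prime (hA.2 x hxA) (hc1 _)
      have hyx : y ∉ zpowers x := by
        intro hyx
        obtain ⟨g, hg⟩ := MulAction.exists_smul_eq G (e i) (e j)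
        have hy2 : y = g * x * g⁻¹ := by rw [hy, ← hg, hcs]
        have hgn : g ∈ normalizer ((zpowers x : Subgroup G) : Set G) := by
          apply mem_normalizer_fintype
          rintro _ ⟨k, rfl⟩
          simp only
          rw [← conj_zpow, ← hy2]
          exact zpow_mem hyx k
        have hgc := PGrp.normalizer_le_centralizer_of_card_le hG (by rw [Nat.card_zpowers, hxo]) hgn
        have := hgc x (mem_zpowers x)
        rw [← this, mul_inv_cancel_right] at hy2
        exact hj (e.injective (hcinj hy2))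
      let S : Subgroup G :=
        { carrier := {g | ρ g (Nm w) = Nm w}
          one_mem' := by simp
          mul_mem' := fun {a b} ha hb => by
            simp only [Set.mem_ofPred_eq] at ha hb ⊢
            rw [hmul, hb, ha]
          inv_mem' := fun {a} ha => by
            simp only [Set.mem_ofPred_eq] at ha ⊢
            conv_lhs => rw [← ha]
            rw [hinv'] }
      have hxS : x ∈ S := by
        change r x (Nm w) = Nm w
        rw [hNa]; exact norm_fix r (hA.2 x hxA) w
      have hyS : y ∈ S := by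
        change ρ y (Nm w) = Nm w
        rw [hNa, map_sum]
        refine Finset.sum_congr rfl fun k _ => ?_
        rw [hrρ, ← hmul, hcomm y hyA _ (pow_mem hxA k), hmul, (hmF _ _).1 hw]
      have hAS : A ⊓ S = A := by
        have h1 : Nat.card (A ⊓ S : Subgroup G) ∣ p ^ 2 := hAc ▸ card_dvd_of_le inf_le_left
        obtain ⟨k, hk2, hk⟩ := (Nat.dvd_prime_pow hp).1 h1
        have hle : zpowers x ≤ A ⊓ S := zpowers_le.2 ⟨hxA, hxS⟩
        apply eq_of_le_of_card_ge inf_le_left
        rw [hAc, hk]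
        by_contra hlt
        have h3 : k ≤ 1 := by
          by_contra h4
          obtain rfl : k = 2 := by omega
          exact hlt le_rfl
        have : zpowers x = A ⊓ S := eq_of_le_of_card_ge hle (by
          rw [hk, Nat.card_zpowers, hxo]
          calc p ^ k ≤ p ^ 1 := Nat.pow_le_pow_right hp.pos h3
            _ = p := pow_one p)
        exact hyx (this ▸ ⟨hyA, hyS⟩)
      exact hnorm A hAn hA1 _ fun b hb => (hAS.ge hb).2
    refine Disjoint.mono_right hker ?_
    rw [Submodule.disjoint_def]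
    intro w hw hw2
    rw [LinearMap.mem_ker, hNa, Finset.sum_congr rfl (g := fun _ => w), Finset.sum_const,
      Finset.card_range, ← Nat.cast_smul_eq_nsmul (ZMod q), smul_eq_zero] at hw2
    · exact hw2.resolve_left hpq
    · intro k _
      rw [hrρ]
      induction k with
      | zero => simp
      | succ k ih =>
        rw [pow_succ, hmul, (hmF _ _).1 hw]
        apply ih
        simp only [Finset.mem_range] at *
        omega
  · intro h hh i w hw
    have := hFs h _ w hw
    rwa [hHs h hh] at this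
  · intro i
    exact ⟨_, hAH (hcA (e i)), hc1 _, fun w hw => hw⟩
  · intro g hg
    set τ : G →* Equiv.Perm (Fin p) :=
      (e.symm.permCongrHom : Equiv.Perm (G ⧸ H) →* Equiv.Perm (Fin p)).comp
        (MulAction.toPermHom G (G ⧸ H)) with hτ
    have hτa : ∀ g i, τ g i = e.symm (g • e i) := fun g i => rfl
    refine ⟨τ g, orderOf_eq_prime ?_ ?_, fun i => ?_⟩
    · rw [← map_pow]
      ext i
      rw [hτa, hHs _ (hidx ▸ pow_index_mem H g)]
      simp
    · intro h
      have := hτa g (e.symm ((1 : G) : G ⧸ H))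
      rw [h, Equiv.Perm.one_apply, e.apply_symm_apply, e.symm.injective.eq_iff,
        MulAction.Quotient.smul_mk, QuotientGroup.eq] at this
      exact hg (by simpa using this)
    · simp only [hτa, e.apply_symm_apply]
      apply le_antisymm
      · rintro _ ⟨w, hw, rfl⟩
        exact hFs g _ w hw
      · intro w hw
        refine ⟨ρ g⁻¹ w, ?_, hinv g w⟩
        have := hFs g⁻¹ _ w hw
        rwa [inv_smul_smul] at this

end Cfsg.Agent.S3380
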