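import Cfsg.Statements.S3381
import Cfsg.Agent.Lib.FG.JSet

set_option autoImplicit false
open Cfsg

open Subgroup Cfsg.Lib
open scoped commutatorElement
open Finset
namespace Cfsg.Agent.S3381

/-- Let G be a finite group acting faithfully and linearly on a non-trivial finite vector space V over the field with q elements (q prime) so that every non-zero vector has a stabilizer of order 2, and suppose G has a central involution. Then V has q^(2r) elements for some r and G contains exactly q^r + 1 non-central involutions. -/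
theorem result
    (q : ℕ) [Fact q.Prime] {V : Type*} [AddCommGroup V] [Module (ZMod q) V] [Finite V] [Nontrivial V]
    {G : Type*} [Group G] [Finite G] (ρ : G →* (V ≃ₗ[ZMod q] V)) (hρ : Function.Injective ρ)
    (hstab : ∀ v : V, v ≠ 0 → Nat.card {g : G // ρ g v = v} = 2)
    (z : G) (hz : orderOf z = 2) (hzc : z ∈ Subgroup.center G) :
    ∃ r : ℕ, Nat.card V = q ^ (2 * r) ∧
      Nat.card {g : G // orderOf g = 2 ∧ g ∉ Subgroup.center G} = q ^ r + 1 := by
  classical
  letI := Fintype.ofFinite G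
  letI := Fintype.ofFinite V
  have ext : ∀ a b : G, (∀ v, ρ a v = ρ b v) → a = b := fun a b h => hρ (LinearEquiv.ext h)
  have mul : ∀ (a b : G) v, ρ (a * b) v = ρ a (ρ b v) := fun a b v => by rw [map_mul]; rfl
  have sq : ∀ t : G, orderOf t = 2 → t * t = 1 := fun t ht => by rw [← pow_two, ← ht, pow_orderOf_eq_one]
  have ne1 : ∀ t : G, orderOf t = 2 → t ≠ 1 := fun t ht h => by simp [h] at ht
  have st : ∀ v : V, v ≠ 0 → ∃ t : G, orderOf t = 2 ∧ ∀ g, ρ g v = v ↔ g = 1 ∨ g = t := fun v hv => by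
    obtain ⟨⟨t, ht⟩, h1, h2⟩ := (Nat.card_eq_two_iff' (⟨1, by simp⟩ : {g : G // ρ g v = v})).1 (hstab v hv)
    have h1' : t ≠ 1 := fun e => h1 (Subtype.ext e)
    have h3 : ∀ g, ρ g v = v ↔ g = 1 ∨ g = t := fun g => ⟨fun h => or_iff_not_imp_left.2 fun hg =>
      congrArg Subtype.val (h2 ⟨g, h⟩ fun e => hg (congrArg Subtype.val e)), by rintro (rfl | rfl) <;> simp [ht]⟩
    refine ⟨t, orderOf_eq_prime ?_ h1', h3⟩
    rw [pow_two]
    exact ((h3 _).1 (by rw [mul, ht, ht])).resolve_right fun e => h1' (by simpa using e)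
  have uniq : ∀ v : V, v ≠ 0 → ∀ a b : G, a ≠ 1 → b ≠ 1 → ρ a v = v → ρ b v = v → a = b := fun v hv a b ha hb h h' => by
    obtain ⟨t, -, ht⟩ := st v hv
    exact (((ht a).1 h).resolve_left ha).trans (((ht b).1 h').resolve_left hb).symm
  have neg : ∀ c ∈ Subgroup.center G, orderOf c = 2 → ∀ v, ρ c v = -v ∧ (v ≠ 0 → ρ c v ≠ v) := by
    intro c hc h2
    have nf : ∀ v, v ≠ 0 → ρ c v ≠ v := fun v hv h => ne1 c h2 (ext _ _ fun w => by
      by_contra hw
      replace hw : ρ c w ≠ w := by simpa using hw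
      have hw0 : w ≠ 0 := fun e => hw (by simp [e])
      have cm : ∀ t u, ρ t (ρ c u) = ρ c (ρ t u) := fun t u => by
        rw [← mul, ← mul, Subgroup.mem_center_iff.1 hc]
      by_cases e : ρ c (w - ρ c w) = w - ρ c w
      · obtain ⟨s, hs2, hs⟩ := st w hw0
        have hsw := (hs s).2 (Or.inr rfl)
        have := uniq _ (sub_ne_zero.2 (Ne.symm hw)) s c (ne1 s hs2) (ne1 c h2) (by rw [map_sub, cm, hsw]) e
        exact hw (this ▸ hsw)
      · have cc : ρ c (w - ρ c w) = -(w - ρ c w) := by rw [map_sub, ← mul, sq c h2]; simp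
        generalize w - ρ c w = u at *
        have hu : v + u ≠ 0 := fun e' => e (by rw [← neg_eq_of_add_eq_zero_right e', map_neg, h])
        obtain ⟨s, hs2, hs⟩ := st _ hu
        have h1 := (hs s).2 (Or.inr rfl)
        have h3 := congrArg (ρ c) h1
        rw [← cm, map_add (ρ c), h, cc] at h3
        have h4 : ρ s (v + v) = v + v := by
          have : v + v = (v + u) + (v + -u) := by abel
          rw [this, map_add, h1, h3]
        have h5 : v + v ≠ 0 := fun e' => e (by
          rw [cc, neg_eq_iff_add_eq_zero, ← two_smul (ZMod q)]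
          rw [← two_smul (ZMod q), smul_eq_zero] at e'
          rw [e'.resolve_right hv, zero_smul])
        have := uniq _ h5 s c (ne1 s hs2) (ne1 c h2) h4 (by rw [map_add, h])
        rw [this, map_add, h] at h1
        exact e (add_left_cancel h1))
    refine fun v => ⟨?_, nf v⟩
    by_contra h
    exact nf (ρ c v + v) (fun e => h (eq_neg_of_add_eq_zero_left e)) (by
      rw [map_add, ← mul, sq c h2, add_comm]; simp)
  have hneg := fun v => (neg z hzc hz v).1
  have two : ∀ v : V, v + v = 0 → v = 0 := fun v h => by_contra fun hv =>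
    (neg z hzc hz v).2 hv (by rw [hneg, neg_eq_iff_add_eq_zero, h])
  let I : Finset G := univ.filter fun g => orderOf g = 2 ∧ g ∉ Subgroup.center G
  let W : G → Submodule (ZMod q) V := fun t => LinearMap.ker ((ρ t : V →ₗ[ZMod q] V) - LinearMap.id)
  have hW : ∀ t v, v ∈ W t ↔ ρ t v = v := fun t v => by simp [W, sub_eq_zero]
  have hI : ∀ v : V, v ≠ 0 → ∃ t ∈ I, v ∈ W t := fun v hv => by
    obtain ⟨t, ht2, ht⟩ := st v hv
    have := (ht t).2 (Or.inr rfl)
    exact ⟨t, mem_filter.2 ⟨mem_univ _, ht2, fun h => (neg t h ht2 v).2 hv this⟩, (hW t v).2 this⟩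
  have dis : ∀ t ∈ I, ∀ u ∈ I, t ≠ u → W t ⊓ W u = ⊥ := fun t ht u hu h => eq_bot_iff.2 fun v hv => by_contra fun h0 =>
    h (uniq v h0 t u (ne1 t (mem_filter.1 ht).2.1) (ne1 u (mem_filter.1 hu).2.1) ((hW _ _).1 hv.1) ((hW _ _).1 hv.2))
  have le : ∀ t ∈ I, ∀ u ∈ I, t ≠ u → Module.finrank (ZMod q) (W t) + Module.finrank (ZMod q) (W u) ≤
      Module.finrank (ZMod q) V := fun t ht u hu h => by
    rw [← Submodule.finrank_sup_add_finrank_inf_eq, dis t ht u hu h, finrank_bot, add_zero]
    exact Submodule.finrank_le _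
  have hz' : ∀ t ∈ I, t * z ∈ I ∧ t ≠ t * z ∧ t * z * z = t ∧
      Module.finrank (ZMod q) V ≤ Module.finrank (ZMod q) (W t) + Module.finrank (ZMod q) (W (t * z)) := by
    intro t ht
    obtain ⟨-, h1, h2⟩ := mem_filter.1 ht
    have e : t * z * z = t := by rw [mul_assoc, sq z hz, mul_one]
    have hc : t * z ∉ Subgroup.center G := fun h => h2 (e ▸ Subgroup.mul_mem _ h hzc)
    refine ⟨mem_filter.2 ⟨mem_univ _, orderOf_eq_prime ?_ fun h => hc (h ▸ Subgroup.one_mem _), hc⟩,
      fun h => ne1 z hz (by simpa using h), e, ?_⟩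
    · rw [pow_two, mul_assoc, ← mul_assoc z, ← Subgroup.mem_center_iff.1 hzc, mul_assoc, sq z hz, mul_one, sq t h1]
    · have : W t ⊔ W (t * z) = ⊤ := eq_top_iff.2 fun v _ => by
        obtain ⟨w, rfl⟩ := Finite.surjective_of_injective (f := fun v : V => v + v) (fun a b h => sub_eq_zero.1 (two _ (by
          have h : a + a = b + b := h
          rw [sub_add_sub_comm, h, sub_self]))) v
        refine Submodule.mem_sup.2 ⟨w + ρ t w, (hW _ _).2 ?_, w - ρ t w, (hW _ _).2 ?_, by abel⟩
        · rw [map_add, ← mul, sq t h1, add_comm]; simp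
        · rw [mul, hneg, map_neg, map_sub, ← mul, sq t h1]; simp
      rw [← Submodule.finrank_sup_add_finrank_inf_eq, this, finrank_top]
      omega
  have prop : ∀ t ∈ I, ∃ v, v ∉ W t := fun t ht => by
    by_contra h
    push Not at h
    exact ne1 t (mem_filter.1 ht).2.1 (ext _ _ fun v => by rw [(hW _ _).1 (h v)]; simp)
  have half : ∀ t ∈ I, Module.finrank (ZMod q) V = 2 * Module.finrank (ZMod q) (W t) := fun t ht => by
    obtain ⟨h1, h2, h3, h4⟩ := hz' t ht
    obtain ⟨v, hv, hv'⟩ : ∃ v, v ∉ W t ∧ v ∉ W (t * z) := by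
      obtain ⟨a, ha⟩ := prop t ht
      obtain ⟨b, hb⟩ := prop _ h1
      by_cases ha' : a ∈ W (t * z)
      · by_cases hb' : b ∈ W t
        · exact ⟨a + b, fun h => ha (((W t).add_mem_iff_left hb').1 h), fun h => hb (((W _).add_mem_iff_right ha').1 h)⟩
        · exact ⟨b, hb', hb⟩
      · exact ⟨a, ha, ha'⟩
    obtain ⟨u, hu, hvu⟩ := hI v fun e => hv (e ▸ (W t).zero_mem)
    obtain ⟨k1, -, k3, k4⟩ := hz' u hu
    have n1 : t ≠ u := fun e => hv (e ▸ hvu)
    have n2 : t * z ≠ u := fun e => hv' (e ▸ hvu)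
    have := le t ht u hu n1
    have := le _ h1 u hu n2
    have := le t ht _ k1 fun e => n2 (by rw [e, k3])
    have := le _ h1 _ k1 fun e => n1 (mul_right_cancel e)
    have := le t ht _ h1 h2
    omega
  obtain ⟨v, hv⟩ := exists_ne (0 : V)
  obtain ⟨t, ht, -⟩ := hI v hv
  have cV : Nat.card V = q ^ (2 * Module.finrank (ZMod q) (W t)) := by
    rw [← half t ht, Module.natCard_eq_pow_finrank (K := ZMod q), Nat.card_zmod]
  refine ⟨_, cV, ?_⟩
  have e : univ.erase (0 : V) = I.biUnion fun u => (univ.filter (· ∈ W u)).erase 0 := by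
    ext w
    simp only [mem_erase, mem_univ, and_true, mem_biUnion, mem_filter, true_and]
    exact ⟨fun h => (hI w h).imp fun u hu => ⟨hu.1, h, hu.2⟩, fun ⟨u, hu⟩ => hu.2.1⟩
  have c := congrArg card e
  rw [card_erase_of_mem (mem_univ _), card_univ, card_biUnion, sum_const_nat
    (m := q ^ Module.finrank (ZMod q) (W t) - 1), ← Nat.card_eq_fintype_card, cV] at c
  · rw [Nat.card_eq_fintype_card, Fintype.card_subtype]
    have h1 : 1 < Nat.card V := Finite.one_lt_card
    rw [cV, two_mul, pow_add] at *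
    generalize q ^ Module.finrank (ZMod q) (W t) = m at *
    obtain ⟨k, rfl⟩ : ∃ k, m = k + 2 := ⟨m - 2, by
      rcases m with _ | _ | m <;> omega⟩
    refine Nat.eq_of_mul_eq_mul_right (show 0 < k + 1 by omega) (c.symm.trans ?_)
    rw [Nat.sub_eq_iff_eq_add (by omega)]; ring
  · intro u hu
    rw [card_erase_of_mem (by simp), ← Fintype.card_subtype, ← Nat.card_eq_fintype_card,
      Module.natCard_eq_pow_finrank (K := ZMod q), Nat.card_zmod]
    have := half t ht
    have := half u hu
    congr 2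
    omega
  · intro a ha b hb hab
    refine disjoint_left.2 fun w h h' => ?_
    simp only [mem_erase, mem_filter, mem_univ, true_and] at h h'
    exact h.1 ((Submodule.mem_bot _).1 (dis a ha b hb hab ▸ Submodule.mem_inf.2 ⟨h.2, h'.2⟩))

end Cfsg.Agent.S3381
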