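import Cfsg.Statements.S3382
import Cfsg.Agent.Lib.Core.Basic

set_option autoImplicit false
open Cfsg

namespace Cfsg.Agent.S3382

section

variable {K : Type*} [Group K] {β : MulAut K} {n : ℕ} (hn : Odd n) (hβ : β ^ n = 1)
include hn hβ

theorem two {x : K} (h : β (β x) = x) : β x = x := by
  obtain ⟨k, rfl⟩ := hn
  have : ∀ i, (β ^ (2 * i)) x = x := fun i => by
    induction i with
    | zero => rfl
    | succ i ih => rw [mul_add, pow_add, mul_one, sq, MulAut.mul_apply, MulAut.mul_apply, h, ih]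
  have e := congrArg (· x) hβ
  simp only [pow_succ', MulAut.mul_apply, this] at e
  exact e

omit hn in
theorem gen (h2 : ∀ u : K, u ^ n = 1 → u = 1) (y : K) (hy : ∀ g, Commute (g * y * g⁻¹) y)
    (hC : ∀ u, Commute u y → β u = u) : β = 1 := by
  ext g
  have e := hC _ (hy g)
  rw [map_mul, map_mul, map_inv, hC y (Commute.refl y)] at e
  have h1 := hC (g⁻¹ * β g) (by
    calc _ = g⁻¹ * (β g * y * (β g)⁻¹) * β g := by group
      _ = _ := by rw [e]; group)
  have : ∀ i, (β ^ i) g = g * (g⁻¹ * β g) ^ i := fun i => by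
    induction i with
    | zero => simp
    | succ i ih => rw [pow_succ', MulAut.mul_apply, ih, map_mul, map_pow, h1, pow_succ', ← mul_assoc, mul_inv_cancel_left]
  have e1 := this n
  rw [hβ, MulAut.one_apply, eq_comm, mul_eq_left] at e1
  exact (inv_mul_eq_one.1 (h2 _ e1)).symm

end

section

variable {F : Type*} [Field F] {g h : (Fin 2 → F) ≃ₗ[F] (Fin 2 → F)} {a b c d : F}

/-- Diagonal maps. -/
def Dg (g : (Fin 2 → F) ≃ₗ[F] (Fin 2 → F)) (a b : F) : Prop := ∀ v, g v = ![a * v 0, b * v 1]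

/-- Antidiagonal maps. -/
def An (g : (Fin 2 → F) ≃ₗ[F] (Fin 2 → F)) (a b : F) : Prop := ∀ v, g v = ![b * v 1, a * v 0]

theorem Dg.mul (h1 : Dg g a b) (h2 : Dg h c d) : Dg (g * h) (a * c) (b * d) := fun v => by
  rw [LinearEquiv.mul_apply, h2, h1]; simp [mul_assoc]
theorem Dg.mul' (h1 : Dg g a b) (h2 : An h c d) : An (g * h) (b * c) (a * d) := fun v => by
  rw [LinearEquiv.mul_apply, h2, h1]; simp [mul_assoc]
theorem An.mul (h1 : An g a b) (h2 : An h c d) : Dg (g * h) (b * c) (a * d) := fun v => by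
  rw [LinearEquiv.mul_apply, h2, h1]; simp [mul_assoc]
theorem An.mul' (h1 : An g a b) (h2 : Dg h c d) : An (g * h) (a * c) (b * d) := fun v => by
  rw [LinearEquiv.mul_apply, h2, h1]; simp [mul_assoc]
theorem Dg.one : Dg (1 : (Fin 2 → F) ≃ₗ[F] (Fin 2 → F)) 1 1 := fun v => by ext i; fin_cases i <;> simp
theorem Dg.pow (h1 : Dg g a b) (n : ℕ) : Dg (g ^ n) (a ^ n) (b ^ n) := by
  induction n with
  | zero => simpa using Dg.one
  | succ n ih => simpa only [pow_succ] using ih.mul h1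
theorem Dg.eq (h1 : Dg g a b) (h2 : Dg h c d) : g = h ↔ a = c ∧ b = d :=
  ⟨fun e => by subst e; simpa using (h1 1).symm.trans (h2 1), fun ⟨e, e'⟩ => LinearEquiv.ext fun v => by rw [h1, h2, e, e']⟩
theorem An.eq (h1 : An g a b) (h2 : An h c d) : g = h ↔ a = c ∧ b = d :=
  ⟨fun e => by subst e; simpa [and_comm] using (h1 1).symm.trans (h2 1), fun ⟨e, e'⟩ => LinearEquiv.ext fun v => by
    rw [h1, h2, e, e']⟩
theorem Dg.ne (h1 : Dg g a b) (h2 : An h c d) (ha : a ≠ 0) : g ≠ h := fun e =>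
  ha (by subst e; simpa using congrFun ((h1 ![1, 0]).symm.trans (h2 ![1, 0])) 0)

end

/-- Let q = 2^m + 1 be a prime other than 5. Then the automorphism group of the group of linear maps of F_q² of the forms (x, y) ↦ (a x, ± a⁻¹ y) and (x, y) ↦ (± a⁻¹ y, a x) with a ≠ 0 is itself a 2-group. -/
theorem result (q m : ℕ) [Fact q.Prime] (hq : q = 2 ^ m + 1) (hq5 : q ≠ 5)
    (T : Subgroup ((Fin 2 → ZMod q) ≃ₗ[ZMod q] (Fin 2 → ZMod q)))
    (hT : ∀ f, f ∈ T ↔ ∃ a s : ZMod q, a ≠ 0 ∧ (s = 1 ∨ s = -1) ∧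
      ((∀ v, f v = ![a * v 0, s * a⁻¹ * v 1]) ∨ (∀ v, f v = ![s * a⁻¹ * v 1, a * v 0]))) :
    IsPGroup 2 (MulAut T) := by
  have el : ∀ g : T, ∃ a b : ZMod q, a ≠ 0 ∧ (a * b = 1 ∨ a * b = -1) ∧ (Dg g.1 a b ∨ An g.1 a b) := fun g => by
    obtain ⟨a, s, h1, h2, h3⟩ := (hT g).1 g.2
    exact ⟨a, s * a⁻¹, h1, by rwa [mul_left_comm, mul_inv_cancel₀ h1, mul_one], h3⟩
  have exD : ∀ a b : ZMod q, a * b = 1 ∨ a * b = -1 → ∃ g : T, Dg g.1 a b := fun a b h => by
    have : a * b ≠ 0 := by rcases h with h | h <;> simp [h]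
    have ha := left_ne_zero_of_mul this
    have hb := right_ne_zero_of_mul this
    let g := LinearEquiv.piCongrRight (R := ZMod q) fun i => LinearEquiv.smulOfNeZero (ZMod q) (ZMod q) (![a, b] i)
      (by fin_cases i; exacts [ha, hb])
    have e : Dg g a b := fun v => by ext i; fin_cases i <;> rfl
    exact ⟨⟨g, (hT _).2 ⟨a, a * b, ha, h, Or.inl (by rw [mul_right_comm, mul_inv_cancel₀ ha, one_mul]; exact e)⟩⟩, e⟩
  obtain ⟨w, hw⟩ : ∃ w : T, An w.1 1 1 := by
    have e : An (LinearEquiv.funCongrLeft (ZMod q) (ZMod q) (Equiv.swap (0 : Fin 2) 1)) 1 1 := fun v => by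
      ext i; fin_cases i <;> simp
    exact ⟨⟨_, (hT _).2 ⟨1, 1, one_ne_zero, Or.inl rfl, Or.inr (by simpa [An] using e)⟩⟩, e⟩
  have fer : ∀ a : ZMod q, a ≠ 0 → a ^ 2 ^ m = 1 := fun a ha => by
    have := ZMod.pow_card_sub_one_eq_one ha
    rwa [Nat.sub_eq_of_eq_add hq] at this
  have ne0 : ∀ {a b : ZMod q}, a * b = 1 ∨ a * b = -1 → b ≠ 0 := fun h => by
    rintro rfl; simp at h
  have sq1 : ∀ {a b : ZMod q}, a * b = 1 ∨ a * b = -1 → a * b * (a * b) = 1 := fun h => by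
    rcases h with h | h <;> simp [h]
  have an4 : ∀ (g : T) {a b}, (a * b = 1 ∨ a * b = -1) → An g.1 a b → g ^ 4 = 1 := fun g a b h k => Subtype.ext (by
    rw [show 4 = 2 + 2 by rfl, pow_add, sq]
    exact (((k.mul k).mul (k.mul k)).eq Dg.one).2 ⟨by rw [mul_comm b, sq1 h], sq1 h⟩)
  have p2 : ∀ g : T, ∃ k, g ^ 2 ^ k = 1 := fun g => by
    obtain ⟨a, b, h1, h2, h3 | h3⟩ := el g
    · exact ⟨m, Subtype.ext (((h3.pow _).eq Dg.one).2 ⟨fer a h1, fer b (ne0 h2)⟩)⟩
    · exact ⟨2, an4 g h2 h3⟩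
  have : Finite T := Finite.of_injective (fun (g : T) => (g.1 : (Fin 2 → ZMod q) → _)) fun g h e =>
    Subtype.ext (DFunLike.coe_injective e)
  intro α
  obtain ⟨k, n, hn, e⟩ := Nat.exists_eq_two_pow_mul_odd (orderOf_pos α).ne'
  refine ⟨k, ?_⟩
  have hβ : (α ^ 2 ^ k) ^ n = 1 := by rw [← pow_mul, ← e, pow_orderOf_eq_one]
  generalize α ^ 2 ^ k = β at hβ
  have h2 : ∀ u : T, u ^ n = 1 → u = 1 := fun u h => by
    obtain ⟨k, e⟩ := p2 u
    simpa [(Nat.Coprime.pow_right k (Nat.coprime_two_right.2 hn)).gcd_eq_one] using pow_gcd_eq_one.2 ⟨h, e⟩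
  obtain ⟨z, hz⟩ := exD (-1) (-1) (by simp)
  obtain ⟨t, ht⟩ := exD 1 (-1) (by simp)
  by_cases h1 : (-1 : ZMod q) = 1
  · have k1 : ∀ a : ZMod q, a ≠ 0 → a = 1 := fun a ha => by
      have : q ∣ 2 := (ZMod.natCast_eq_zero_iff 2 q).1 (by push_cast; linear_combination -h1)
      rcases m with _ | m
      · simpa using fer a ha
      · have := Nat.le_of_dvd two_pos this
        have := Nat.one_le_two_pow (n := m)
        omega
    have k2 : ∀ g : T, g = 1 ∨ g = w := fun g => by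
      obtain ⟨a, b, h1, h2, h3⟩ := el g
      rw [k1 a h1, k1 b (ne0 h2)] at h3
      exact h3.imp (fun k => Subtype.ext ((k.eq Dg.one).2 ⟨rfl, rfl⟩)) fun k => Subtype.ext ((k.eq hw).2 ⟨rfl, rfl⟩)
    ext g : 1
    rcases k2 g with rfl | rfl
    · simp
    · exact (k2 (β g)).elim (fun k => by rw [β.map_eq_one_iff.1 k]; simp) id
  have z1 : z ≠ 1 := fun e => h1 ((hz.eq Dg.one).1 (congrArg Subtype.val e)).1
  have z2 : z * z = 1 := Subtype.ext (((hz.mul hz).eq Dg.one).2 (by simp))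
  have zc : ∀ g, g * z = z * g := fun g => Subtype.ext (by
    obtain ⟨a, b, -, -, h3 | h3⟩ := el g
    · exact ((h3.mul hz).eq (hz.mul h3)).2 (by simp)
    · exact ((h3.mul' hz).eq (hz.mul' h3)).2 (by simp))
  have hzβ : β z = z := by
    have k1 : ∀ g, g * β z = β z * g := fun g => by rw [← β.apply_symm_apply g, ← map_mul, zc, map_mul]
    obtain ⟨a, b, k2, -, h3 | h3⟩ := el (β z)
    · have k3 := ((hw.mul' h3).eq (h3.mul' hw)).1 (congrArg Subtype.val (k1 w))
      have k4 := ((h3.mul h3).eq Dg.one).1 (congrArg Subtype.val (show β z * β z = 1 by rw [← map_mul, z2, map_one]))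
      obtain rfl : a = b := by simpa using k3.1
      rcases mul_self_eq_one_iff.1 k4.1 with rfl | rfl
      · exact absurd (β.map_eq_one_iff.1 (Subtype.ext ((h3.eq Dg.one).2 ⟨rfl, rfl⟩))) z1
      · exact Subtype.ext ((h3.eq hz).2 ⟨rfl, rfl⟩)
    · have k3 := ((ht.mul' h3).eq (h3.mul' ht)).1 (congrArg Subtype.val (k1 t))
      exact absurd (mul_right_cancel₀ k2 (k3.1.trans (by ring))) h1
  have pm : ∀ x, β x = x ∨ β x = z * x → β x = x := fun x h => h.elim id fun k => two hn hβ (by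
    rw [k, map_mul, hzβ, k, ← mul_assoc, z2, one_mul])
  by_cases h3 : ∀ a : ZMod q, a ≠ 0 → a * a = 1
  · have hj : An (t * w).1 (-1) 1 := by simpa using ht.mul' hw
    generalize t * w = j at hj
    have k1 : ∀ g : T, g * g ≠ 1 → g = j ∨ g = z * j := fun g k => by
      obtain ⟨a, b, k1, k2, k3 | k3⟩ := el g
      · exact absurd (Subtype.ext (((k3.mul k3).eq Dg.one).2 ⟨h3 a k1, h3 b (ne0 k2)⟩)) k
      · replace k2 := k2.resolve_left fun e => k (Subtype.ext (((k3.mul k3).eq Dg.one).2 ⟨by rw [mul_comm, e], e⟩))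
        rcases mul_self_eq_one_iff.1 (h3 a k1) with rfl | rfl
        · exact Or.inr (Subtype.ext ((k3.eq (hz.mul' hj)).2 (by simpa using k2)))
        · exact Or.inl (Subtype.ext ((k3.eq hj).2 (by simpa using k2)))
    have k2 : j * j ≠ 1 := fun e => h1 (by simpa using (((hj.mul hj).eq Dg.one).1 (congrArg Subtype.val e)).1)
    have k3 := pm j (k1 _ fun e => k2 (β.map_eq_one_iff.1 (by rw [map_mul, e])))
    refine gen hβ h2 j (fun g => ?_) fun u hu => ?_
    · rcases k1 (g * j * g⁻¹) (fun e => k2 (by simpa using e)) with e | e <;> rw [e]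
      exacts [Commute.refl j, Commute.mul_left (zc j).symm (Commute.refl j)]
    · by_cases e : u * u = 1
      · obtain ⟨a, b, k4, k5, k6 | k6⟩ := el u
        · obtain rfl : a = b := by simpa using (((k6.mul' hj).eq (hj.mul' k6)).1 (congrArg Subtype.val hu.eq)).2
          rcases mul_self_eq_one_iff.1 (h3 a k4) with rfl | rfl
          · rw [show u = 1 from Subtype.ext ((k6.eq Dg.one).2 ⟨rfl, rfl⟩), map_one]
          · rw [show u = z from Subtype.ext ((k6.eq hz).2 ⟨rfl, rfl⟩), hzβ]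
        · have e1 := (((k6.mul hj).eq (hj.mul k6)).1 (congrArg Subtype.val hu.eq)).2
          have e2 := (((k6.mul k6).eq Dg.one).1 (congrArg Subtype.val e)).2
          exact absurd (by linear_combination e2 + h3 a k4 - a * e1) h1
      · rcases k1 u e with rfl | rfl
        · exact k3
        · rw [map_mul, hzβ, k3]
  obtain ⟨c, hc⟩ : ∃ c : ZMod q, c ≠ 0 ∧ c ^ 4 ≠ 1 := by
    obtain ⟨c, hc⟩ := IsCyclic.exists_ofOrder_eq_natCard (α := (ZMod q)ˣ)
    rw [Nat.card_eq_fintype_card, ZMod.card_units, Nat.sub_eq_of_eq_add hq] at hc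
    refine ⟨c, c.ne_zero, fun e => ?_⟩
    have e1 : 2 ^ m ∣ 2 ^ 2 := hc ▸ orderOf_dvd_of_pow_eq_one (Units.ext (by simpa using e))
    have := (Nat.pow_dvd_pow_iff_le_right one_lt_two).1 e1
    obtain rfl | rfl | rfl : m = 0 ∨ m = 1 ∨ m = 2 := by omega
    · exact h3 fun a ha => by rw [show a = 1 by simpa using fer a ha, mul_one]
    · exact h3 fun a ha => by simpa [sq] using fer a ha
    · exact hq5 hq
  obtain ⟨x, hx⟩ := exD c c⁻¹ (Or.inl (mul_inv_cancel₀ hc.1))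
  have dg : ∀ y g : T, y ^ 4 ≠ 1 → Commute g y → ∃ a b, (a * b = 1 ∨ a * b = -1) ∧ Dg g.1 a b := fun y g k k' => by
    obtain ⟨a, b, -, k2, k3⟩ := el g
    refine ⟨a, b, k2, k3.resolve_right fun k3 => k ?_⟩
    obtain ⟨a', b', -, k4, k5 | k5⟩ := el y
    · obtain rfl : a' = b' := (mul_left_cancel₀ (ne0 k2)
        ((((k3.mul' k5).eq (k5.mul' k3)).1 (congrArg Subtype.val k'.eq)).2.trans (mul_comm _ _))).symm
      exact Subtype.ext (((k5.pow 4).eq Dg.one).2 (by rw [and_self]; linear_combination sq1 k4))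
    · exact an4 y k4 k5
  have x4 : x ^ 4 ≠ 1 := fun e => hc.2 (((hx.pow 4).eq Dg.one).1 (congrArg Subtype.val e)).1
  have dc : ∀ (g h : T) {a b c d}, Dg g.1 a b → Dg h.1 c d → Commute g h := fun g h a b c d k k' =>
    Subtype.ext (((k.mul k').eq (k'.mul k)).2 ⟨mul_comm _ _, mul_comm _ _⟩)
  have dβ : ∀ g, Commute g x → Commute (β g) x := fun g k => by
    obtain ⟨a, b, -, k1⟩ := dg (β x) (β g) (by rwa [← map_pow, Ne, β.map_eq_one_iff]) (k.map β)
    exact dc _ _ k1 hx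
  have inv : ∀ g : T, Commute g x → g * g = 1 → g = 1 ∨ g = z ∨ g = t ∨ g = z * t := fun g k k' => by
    obtain ⟨a, b, -, k1⟩ := dg x g x4 k
    obtain ⟨k2, k3⟩ := ((k1.mul k1).eq Dg.one).1 (congrArg Subtype.val k')
    rcases mul_self_eq_one_iff.1 k2 with rfl | rfl <;> rcases mul_self_eq_one_iff.1 k3 with rfl | rfl
    · exact Or.inl (Subtype.ext ((k1.eq Dg.one).2 ⟨rfl, rfl⟩))
    · exact Or.inr (Or.inr (Or.inl (Subtype.ext ((k1.eq ht).2 ⟨rfl, rfl⟩))))
    · exact Or.inr (Or.inr (Or.inr (Subtype.ext ((k1.eq (hz.mul ht)).2 (by simp)))))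
    · exact Or.inr (Or.inl (Subtype.ext ((k1.eq hz).2 ⟨rfl, rfl⟩)))
  have htβ : β t = t := pm t (by
    rcases inv _ (dβ t (dc _ _ ht hx)) (by
      rw [← map_mul, show t * t = 1 from Subtype.ext (((ht.mul ht).eq Dg.one).2 (by simp)), map_one]) with k | k | k
    · exact absurd ((ht.eq Dg.one).1 (congrArg Subtype.val (β.map_eq_one_iff.1 k))).2 h1
    · exact absurd ((ht.eq hz).1 (congrArg Subtype.val (β.injective (k.trans hzβ.symm)))).1.symm h1
    · exact k)
  refine gen hβ h2 x (fun g => ?_) fun u hu => ?_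
  · obtain ⟨a, b, -, k⟩ := dg (g * x * g⁻¹) _ (by simpa using x4) (Commute.refl _)
    exact dc _ _ k hx
  · obtain ⟨k, e⟩ := p2 u
    induction k generalizing u with
    | zero => rw [show u = 1 by simpa using e, map_one]
    | succ k ih =>
      have e1 := ih (u * u) (hu.mul_left hu) (by rwa [← sq, ← pow_mul, ← pow_succ'])
      have e2 : Commute u (β u) := by
        obtain ⟨a, b, -, k1⟩ := dg x u x4 hu
        obtain ⟨a, b, -, k2⟩ := dg x _ x4 (dβ u hu)
        exact dc _ _ k1 k2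
      have e3 : u⁻¹ * β u * (u⁻¹ * β u) = 1 := by
        rw [e2.inv_left.symm.mul_mul_mul_comm, ← map_mul, e1]; group
      have e4 : β (u⁻¹ * β u) = u⁻¹ * β u := by
        rcases inv _ (hu.inv_left.mul_left (dβ u hu)) e3 with k | k | k | k <;> rw [k]
        exacts [map_one _, hzβ, htβ, by rw [map_mul, hzβ, htβ]]
      refine two hn hβ ?_
      rw [← mul_inv_cancel_left u (β u), map_mul, e4, ← mul_inv_cancel_left u (β u), inv_mul_cancel_left, mul_assoc, e3, mul_one]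

end Cfsg.Agent.S3382
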