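import Cfsg.Statements.S3383
import Cfsg.Agent.Lib.Layer.Misc
import Cfsg.Agent.Lib.Layer.FrobC

set_option autoImplicit false
open Cfsg

namespace Cfsg.Agent.S3383

open Subgroup Cfsg.Lib.Core Cfsg.Lib.Amalg Cfsg.Lib.BG1 Cfsg.Lib.Layer

/-- Let H be a Frobenius complement in a finite group L and K the Frobenius kernel (as a subgroup). Then K is characteristic in L, and every normal subgroup of L either contains K or is contained in K. -/
theorem result {L : Type*} [Group L] [Finite L]
    (H : Subgroup L) (hH : Cfsg.IsFrobeniusComplement H)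
    (K : Subgroup L) (hK : (K : Set L) = Cfsg.frobeniusKernel H) :
    K.Characteristic ∧ ∀ N : Subgroup L, N.Normal → K ≤ N ∨ N ≤ K := by
  obtain ⟨N, h1, _, -, h2, h3, h4⟩ := Lib.Coprime.exists_frobKernel hH
  obtain rfl : K = N := SetLike.coe_injective (hK.trans h1.symm)
  refine ⟨characteristic_iff_map_eq.2 fun e => ?_, fun N _ => h3.le_or_le_of_normal h4 N⟩
  have : (K.map e.toMonoidHom).Normal := Normal.map ‹_› _ e.surjective
  rcases h3.le_or_le_of_normal h4 (K.map e.toMonoidHom) with h | h
  · exact (eq_of_le_of_card_ge h (card_map_of_injective e.injective).le).symm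
  · exact eq_of_le_of_card_ge h (card_map_of_injective e.injective).ge

end Cfsg.Agent.S3383
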