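import Cfsg.Statements.S3389
import Cfsg.Agent.Lib.Layer.Misc
import Cfsg.Agent.Lib.Small.Simple

set_option autoImplicit false
open Cfsg

namespace Cfsg.Agent.S3389

open Subgroup Cfsg.Lib.Core Cfsg.Lib.Amalg Cfsg.Lib.BG1 Cfsg.Lib.Layer
theorem fix {G : Type*} [Group G] {Ω : Type*} [MulAction G Ω] {P : Subgroup G} {α : Ω} (hP : P ≤ MulAction.stabilizer G α)
    {x y : G} (hx : x ∈ P) (hy : y ∈ normalizer (P : Set G)) : x • y • α = y • α := by
  have := hP ((mem_normalizer_iff.1 (inv_mem hy) x).1 hx)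
  rwa [MulAction.mem_stabilizer_iff, inv_inv, mul_smul, mul_smul, inv_smul_eq_iff] at this

theorem le_stab {G : Type*} [Group G] [Finite G] {Ω : Type*} [Finite Ω] [MulAction G Ω] {k p : ℕ} [hp : Fact p.Prime]
    (hfix : ∀ g : G, g ≠ 1 → Nat.card (MulAction.fixedBy Ω g) ≤ k) (hk : k < p) {P U : Subgroup G} {α : Ω}
    (hP : P ≤ MulAction.stabilizer G α) (h1 : P ≠ ⊥) (hU : IsPGroup p U) (hn : U ≤ normalizer (P : Set G)) :
    U ≤ MulAction.stabilizer G α := by
  obtain ⟨x, hx, x1⟩ := (P.bot_or_exists_ne_one).resolve_left h1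
  have h2 : MulAction.orbit U α ⊆ MulAction.fixedBy Ω x := by
    rintro _ ⟨y, rfl⟩
    exact fix hP hx (hn y.2)
  have h3 := (Nat.card_mono (Set.toFinite _) h2).trans (hfix x x1)
  obtain ⟨n, hn'⟩ := hU.card_orbit α
  obtain rfl : n = 0 := by
    by_contra h0
    have := Nat.le_self_pow h0 p
    omega
  intro y hy
  exact (Nat.card_eq_one_iff_unique.1 hn').1.elim (⟨_, ⟨y, hy⟩, rfl⟩ : MulAction.orbit U α) ⟨α, MulAction.mem_orbit_self α⟩
    |> congrArg Subtype.val


/-- Let G be a finite group acting faithfully and transitively on a finite set Ω with fixity k ≥ 1: every non-identity element fixes at most k points and some non-identity element fixes exactly k points. Then |Z(G)| divides k; if k = 2 then |G| is even; and for every prime p > k dividing |G| and every point α, either p does not divide |G_α| or G_α contains a Sylow p-subgroup of G. -/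
theorem result {G : Type*} [Group G] [Finite G] {Ω : Type*} [Fintype Ω] [MulAction G Ω] [FaithfulSMul G Ω]
    (htr : MulAction.IsPretransitive G Ω) (k : ℕ) (hk : 1 ≤ k)
    (hfix : ∀ g : G, g ≠ 1 → Nat.card (MulAction.fixedBy Ω g) ≤ k) (hex : ∃ g : G, g ≠ 1 ∧ Nat.card (MulAction.fixedBy Ω g) = k) :
    Nat.card (Subgroup.center G) ∣ k ∧ (k = 2 → 2 ∣ Nat.card G) ∧
      ∀ (p : ℕ), p.Prime → k < p → p ∣ Nat.card G → ∀ α : Ω,
        ¬ p ∣ Nat.card (MulAction.stabilizer G α) ∨ ¬ p ∣ (MulAction.stabilizer G α).index := by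
  obtain ⟨g, g1, hg⟩ := hex
  refine ⟨?_, fun h2 => ?_, fun p hp hkp hd α => ?_⟩
  · refine hg ▸ Lib.Small.dvd_card_of_orbits (H := center G) (fun x => x ∈ MulAction.fixedBy Ω g) (fun z x hx => ?_) fun x _ => ?_
    · show g • z.1 • x = z.1 • x
      rw [← mul_smul, mem_center_iff.1 z.2 g, mul_smul, hx]
    · rw [Lib.Small.card_orbit_eq_index]
      have : MulAction.stabilizer (center G) x = ⊥ := by
        refine (eq_bot_iff_forall _).2 fun z h => Subtype.ext (FaithfulSMul.eq_of_smul_eq_smul (α := Ω) fun c => ?_)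
        obtain ⟨k, rfl⟩ := htr.exists_smul_eq x c
        have : z.1 • x = x := h
        rw [← mul_smul, ← mem_center_iff.1 z.2 k, mul_smul, this]; simp
      rw [this, index_bot]
  · subst h2
    obtain ⟨⟨α, ha⟩, ⟨β, hb⟩, hab, -⟩ := Nat.card_eq_two_iff.1 hg
    have hab : α ≠ β := fun e => hab (Subtype.ext e)
    obtain ⟨p, hp, hd⟩ := Nat.exists_prime_and_dvd (mt orderOf_eq_one_iff.1 g1)
    by_cases p2 : p = 2
    · exact (p2 ▸ hd).trans (orderOf_dvd_natCard g)
    have : Fact p.Prime := ⟨hp⟩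
    have hk : 2 < p := lt_of_le_of_ne hp.two_le (Ne.symm p2)
    obtain ⟨P, hP⟩ := exists_syl p (MulAction.stabilizer G α ⊓ MulAction.stabilizer G β)
    have h1 := hP.ne_bot (hd.trans (Subgroup.orderOf_dvd_natCard _ ⟨ha, hb⟩))
    have hS : Syl p P ⊤ := syl_of_syl_normalizer ⟨le_inf le_top le_normalizer, hP.isPGroup, fun U h2 h3 h4 =>
      hP.eq_of_le U h2 (le_inf (le_stab hfix hk (hP.le.trans inf_le_left) h1 h4 (h3.trans inf_le_right))
        (le_stab hfix hk (hP.le.trans inf_le_right) h1 h4 (h3.trans inf_le_right))) h4⟩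
    obtain ⟨x, rfl⟩ := htr.exists_smul_eq α β
    have h2 : Syl p (cj x P) (MulAction.stabilizer G (x • α)) := (hS.conj_top x).of_le (by
      rintro _ ⟨u, hu, rfl⟩
      have : u • α = α := (hP.le hu).1
      simp [mul_smul, this]) le_top
    obtain ⟨k, hk1, hk2⟩ := h2.exists_conj (hS.of_le (hP.le.trans inf_le_right) le_top)
    have hy : k * x ∈ normalizer (P : Set G) := by rw [← cj_eq_self_iff, cj_mul, hk2]
    have e1 : (k * x) • α = x • α := by rw [mul_smul]; exact hk1
    obtain ⟨u, hu, u1⟩ := (P.bot_or_exists_ne_one).resolve_left h1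
    have e2 : (k * x) • x • α = α := by
      by_contra hne
      have h3 : ({α, x • α, (k * x) • x • α} : Set Ω) ⊆ MulAction.fixedBy Ω u := by
        rintro _ (rfl | rfl | rfl)
        exacts [(hP.le hu).1, (hP.le hu).2, fix (hP.le.trans inf_le_right) hu hy]
      have h4 := (Nat.card_mono (Set.toFinite _) h3).trans (hfix u u1)
      rw [Nat.card_coe_set_eq, Set.ncard_eq_three.2 ⟨_, _, _, hab, Ne.symm hne, fun e => hab
        ((smul_left_cancel_iff (k * x)).1 (e1.trans e)), rfl⟩] at h4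
      omega
    by_contra ho
    obtain ⟨n, hn⟩ := Nat.odd_iff.2 (Nat.two_dvd_ne_zero.1 ho)
    have h5 : ∀ m : ℕ, (k * x) ^ (2 * m + 1) • α = x • α := fun m => by
      induction m with
      | zero => simpa using e1
      | succ m ih => rw [show 2 * (m + 1) + 1 = 1 + 1 + (2 * m + 1) by ring, pow_add, pow_add, pow_one, mul_smul, mul_smul, ih, e2, e1]
    exact hab (by rw [← h5 n, ← hn, pow_card_eq_one', one_smul])
  · have : Fact p.Prime := ⟨hp⟩
    refine or_iff_not_imp_left.2 fun h => ?_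
    obtain ⟨P, hP⟩ := exists_syl p (MulAction.stabilizer G α)
    have h1 := hP.ne_bot (not_not.1 h)
    have hS : Syl p P ⊤ := syl_of_syl_normalizer ⟨le_inf le_top le_normalizer, hP.isPGroup, fun U h2 h3 h4 =>
      hP.eq_of_le U h2 (le_stab hfix hkp hP.le h1 h4 (h3.trans inf_le_right)) h4⟩
    exact fun d => hS.not_dvd_index (d.trans (index_dvd_of_le hP.le))

end Cfsg.Agent.S3389
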