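import Cfsg.Statements.S3390
import Cfsg.Agent.Lib.ABG.Idx2
import Cfsg.Agent.Lib.GW.DGrp
import Cfsg.Agent.Lib.Coprime.FrobCompl
import Cfsg.Agent.Lib.Coprime.FrobKernel
import Cfsg.Agent.Lib.Fus.SylowMod

set_option autoImplicit false
open Cfsg

namespace Cfsg.Agent.S3390

open Subgroup Cfsg.Lib MulAction
open scoped Pointwise
set_option linter.style.haveILetI false

variable {G : Type*} [Group G] [Finite G]

theorem lemD {S : Subgroup G} (hS : IsPGroup 2 S) {z z' : G} (hz : z ∈ S) (hz' : z' ∈ S) (h1 : orderOf z = 2)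
    (h2 : orderOf z' = 2) (hne : z ≠ z') (h3 : Nat.card ↥(S ⊓ centralizer {z}) = 4 ∨ Nat.card S = 4) :
    (∃ n : ℕ, Nonempty (S ≃* DihedralGroup n)) ∨ Cfsg.IsQuasiDihedral S := by
  haveI := Fact.mk Nat.prime_two
  by_cases h4 : Nat.card S = 4
  · haveI : IsKleinFour S := ⟨h4, (not_isCyclic_iff_exponent_eq_prime Nat.prime_two h4).1
      fun hc => hne (Invol.eq_of_isCyclic hc hz hz' h1 h2)⟩
    exact .inl ⟨2, IsKleinFour.nonempty_mulEquiv⟩
  replace h3 : Nat.card (centralizer ({⟨z, hz⟩} : Set S)) = 2 ^ 2 :=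
    (GW.card_cent_subtype ⟨z, hz⟩).trans (h3.resolve_right h4)
  obtain ⟨n, hn⟩ := IsPGroup.iff_card.1 hS
  have h5 : 2 ≤ n := (Nat.pow_dvd_pow_iff_le_right one_lt_two).1
    (hn ▸ ((dvd_of_eq h3.symm).trans (card_subgroup_dvd_card _)))
  obtain ⟨_ | m, rfl⟩ := Nat.exists_eq_add_of_le' h5
  · exact absurd hn h4
  obtain ⟨a, b, h⟩ := PGrp.exists_max2_of_maxClass (by omega) hn (PGrp.maxClass_of_centralizer hn h3)
  rcases h.cases with e | ⟨⟨e⟩⟩ | e
  · exact .inl ⟨_, e⟩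
  · obtain ⟨a, x, h⟩ := Block.exists_quatData e
    exact absurd ((h.eq_z (by positivity) hz h1).trans (h.eq_z (by positivity) hz' h2).symm) hne
  · exact .inr e

variable {Ω : Type*} [MulAction G Ω]

theorem lemA (h3 : ∀ g : G, g ≠ 1 → ∀ a b c : Ω, g • a = a → g • b = b → g • c = c → a = b ∨ a = c ∨ b = c)
    {S : Subgroup G} (hS : IsPGroup 2 S) {γ : Ω} (h0 : S ⊓ stabilizer G γ ≠ ⊥) (h1 : ¬ S ≤ stabilizer G γ) :
    (∃ y ∈ S, y • γ ≠ γ ∧ (∀ t ∈ S ⊓ stabilizer G γ, t • y • γ = y • γ) ∧ (S ⊓ stabilizer G γ).relIndex S = 2) ∨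
      (Nat.card ↥(S ⊓ stabilizer G γ) = 2 ∧
        ((∃ n : ℕ, Nonempty (S ≃* DihedralGroup n)) ∨ Cfsg.IsQuasiDihedral S)) := by
  haveI := Fact.mk Nat.prime_two
  set T := S ⊓ stabilizer G γ with hT
  obtain ⟨y, hy, hy', hyn⟩ := Fus.exists_mem_normalizer_of_lt hS
    (lt_of_le_of_ne (inf_le_left : T ≤ S) fun e => h1 (e ▸ inf_le_right))
  have hδ : y • γ ≠ γ := fun e => hy' ⟨hy, e⟩
  have hfix : ∀ t ∈ T, t • y • γ = y • γ := fun t ht => by
    have : (y⁻¹ * t * y⁻¹⁻¹) • γ = γ := ((mem_normalizer_iff.1 (inv_mem hyn) t).1 ht).2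
    rw [inv_inv, mul_smul, mul_smul, inv_smul_eq_iff] at this
    exact this
  set N := S ⊓ normalizer (T : Set G) with hN
  have hTN : T ≤ N := le_inf inf_le_left le_normalizer
  have K1 : ∀ n ∈ S, ∀ t ∈ T, t ≠ 1 → n * t * n⁻¹ ∈ T → n ∈ T ∨ y⁻¹ * n ∈ T := fun n hn t ht t1 h => by
    rcases h3 (n * t * n⁻¹) (by simpa using t1) γ (y • γ) (n • γ) h.2 (hfix _ h)
      (by rw [mul_smul, mul_smul, inv_smul_smul, show t • γ = γ from ht.2]) with e | e | e
    · exact absurd e.symm hδ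
    · exact .inl ⟨hn, e.symm⟩
    · exact .inr ⟨S.mul_mem (S.inv_mem hy) hn, show (y⁻¹ * n) • γ = γ by rw [mul_smul, ← e, inv_smul_smul]⟩
  obtain ⟨z, hz, hz1⟩ := (bot_or_exists_ne_one T).resolve_left h0
  have hi : T.relIndex N = 2 := relIindex_eq_two_iff'.2 ⟨y⁻¹, N.inv_mem ⟨hy, hyn⟩, fun b hb => by
    rcases K1 b hb.1 z hz hz1 ((mem_normalizer_iff.1 hb.2 z).1 hz) with e | e
    · exact .inr ⟨e, fun e' => hy' (T.inv_mem_iff.1 ((T.mul_mem_cancel_right e).1 e'))⟩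
    · exact .inl ⟨e, fun e' => hy' (T.inv_mem_iff.1 ((T.mul_mem_cancel_right e').1 e))⟩⟩
  by_cases hNS : N = S
  · exact .inl ⟨y, hy, hδ, hfix, hNS ▸ hi⟩
  obtain ⟨x, hx, hx', hxn⟩ := Fus.exists_mem_normalizer_of_lt hS (lt_of_le_of_ne (inf_le_left : N ≤ S) hNS)
  have K2 : ∀ t ∈ T, t ≠ 1 → x * t * x⁻¹ ∉ T := fun t ht t1 h => hx' ((K1 x hx t ht t1 h).elim (fun e => hTN e)
    fun e => (N.mul_mem_cancel_left (N.inv_mem (⟨hy, hyn⟩ : y ∈ N))).1 (hTN e))
  have K3 : ∀ t ∈ T, t ≠ 1 → t * z = 1 := fun t ht t1 => by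
    by_contra h
    refine K2 _ (T.mul_mem ht hz) h ?_
    rw [show x * (t * z) * x⁻¹ = x * t * x⁻¹ * (x * z * x⁻¹) by group, ABG.mul_mem_iff_of_relIndex_two hi
      ((mem_normalizer_iff.1 hxn t).1 (hTN ht)) ((mem_normalizer_iff.1 hxn z).1 (hTN hz))]
    exact iff_of_false (K2 t ht t1) (K2 z hz hz1)
  have hz2 : orderOf z = 2 := orderOf_eq_prime (by rw [sq, K3 z hz hz1]) hz1
  have hTz : T = zpowers z := le_antisymm (fun t ht => by
    by_cases t1 : t = 1
    · exact t1 ▸ one_mem _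
    · rw [eq_inv_of_mul_eq_one_left (K3 t ht t1)]; exact inv_mem (mem_zpowers z)) (zpowers_le.2 hz)
  have hc : Nat.card T = 2 := by rw [hTz, Nat.card_zpowers, hz2]
  refine .inr ⟨hc, lemD hS hz.1 (S.mul_mem (S.mul_mem hx hz.1) (S.inv_mem hx)) hz2
    (hz2 ▸ (MulAut.conj x).orderOf_eq z) (fun e => K2 z hz hz1 (e ▸ hz)) (.inl ?_)⟩
  have : S ⊓ centralizer {z} = N := by
    refine le_antisymm (fun n hn => ?_) fun n hn => ⟨hn.1, mem_centralizer_singleton_iff.2 ?_⟩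
    · have := mem_centralizer_singleton_iff.1 hn.2
      exact (K1 n hn.1 z hz hz1 (by rw [this, mul_inv_cancel_right]; exact hz)).elim (fun e => hTN e)
        fun e => (N.mul_mem_cancel_left (N.inv_mem (⟨hy, hyn⟩ : y ∈ N))).1 (hTN e)
    · rw [← mul_inv_eq_iff_eq_mul]
      exact (eq_inv_of_mul_eq_one_left (K3 _ ((mem_normalizer_iff.1 hn.2 z).1 hz) (by simpa using hz1))).trans
        (eq_inv_of_mul_eq_one_left (K3 z hz hz1)).symm
  rw [this, ← Transfer.card_mul_relIndex hTN, hc, hi]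

/-- Let G be a finite group acting faithfully and transitively on a finite set Ω with fixity 2 (every non-identity element fixes at most two points, and some fixes exactly two). Let α ∈ Ω and S a Sylow 2-subgroup of G. Then one of the following holds: the stabilizer S_α of α in S is trivial; S is dihedral or semidihedral and either |S_α| = 2 or |S : S_α| = 2; |S| ≥ 4, S has exactly one orbit of size 2 on Ω, every other S-orbit is regular, and G has a normal subgroup of index 2 or of index |S| which is a Frobenius group; or S ≤ G_α. -/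
theorem result {G : Type*} [Group G] [Finite G] {Ω : Type*} [Fintype Ω] [MulAction G Ω] [FaithfulSMul G Ω] (htr : MulAction.IsPretransitive G Ω)
    (hfix : ∀ g : G, g ≠ 1 → Nat.card (MulAction.fixedBy Ω g) ≤ 2) (hex : ∃ g : G, g ≠ 1 ∧ Nat.card (MulAction.fixedBy Ω g) = 2) (α : Ω) (S : Sylow 2 G) :
    (S : Subgroup G) ⊓ MulAction.stabilizer G α = ⊥ ∨
    (((∃ n : ℕ, Nonempty (↥(S : Subgroup G) ≃* DihedralGroup n)) ∨ Cfsg.IsQuasiDihedral ↥(S : Subgroup G)) ∧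
       (Nat.card ↥((S : Subgroup G) ⊓ MulAction.stabilizer G α) = 2 ∨ ((S : Subgroup G) ⊓ MulAction.stabilizer G α).relIndex (S : Subgroup G) = 2)) ∨
    (4 ≤ Nat.card (S : Subgroup G) ∧
       (∃ ω : Ω, Nat.card (MulAction.orbit ↥(S : Subgroup G) ω) = 2 ∧
          ∀ ω' : Ω, ω' ∉ MulAction.orbit ↥(S : Subgroup G) ω → Nat.card (MulAction.orbit ↥(S : Subgroup G) ω') = Nat.card (S : Subgroup G)) ∧
       ∃ N : Subgroup G, N.Normal ∧ (N.index = 2 ∨ N.index = Nat.card (S : Subgroup G)) ∧ (∃ H : Subgroup ↥N, Cfsg.IsFrobeniusComplement H)) ∨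
    (S : Subgroup G) ≤ MulAction.stabilizer G α := by
  haveI := Fact.mk Nat.prime_two
  have h3 : ∀ g : G, g ≠ 1 → ∀ a b c : Ω, g • a = a → g • b = b → g • c = c → a = b ∨ a = c ∨ b = c := by
    intro g hg a b c ha hb hc
    by_contra! h
    have := (Set.ncard_le_ncard (s := {a, b, c}) (t := fixedBy Ω g) (by
      rintro _ (rfl | rfl | rfl) <;> assumption)).trans (hfix g hg)
    rw [Set.ncard_eq_three.2 ⟨a, b, c, h.1, h.2.1, h.2.2, rfl⟩] at this
    omega
  by_cases h0 : (S : Subgroup G) ⊓ stabilizer G α = ⊥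
  · exact .inl h0
  by_cases h1 : (S : Subgroup G) ≤ stabilizer G α
  · exact .inr (.inr (.inr h1))
  right
  obtain ⟨y, hy, hβ, hfx, hi⟩ | h := lemA h3 S.isPGroup' h0 h1
  swap
  · exact .inl ⟨h.2, .inl h.1⟩
  by_cases hD : (∃ n : ℕ, Nonempty (↥(S : Subgroup G) ≃* DihedralGroup n)) ∨ Cfsg.IsQuasiDihedral ↥(S : Subgroup G)
  · exact .inl ⟨hD, .inr hi⟩
  refine .inr (.inl ?_)
  set T := (S : Subgroup G) ⊓ stabilizer G α with hT
  have hinv : ∀ U : Subgroup G, U ≤ S → U ≠ ⊥ → ∃ z ∈ U, orderOf z = 2 := fun U hU h => by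
    obtain ⟨z, hz⟩ := exists_prime_orderOf_dvd_card' 2
      ((S.isPGroup'.to_le hU).card_eq_or_dvd.resolve_left (mt card_eq_one.1 h))
    exact ⟨z, z.2, by rw [orderOf_coe, hz]⟩
  obtain ⟨z, hz, hz2⟩ := hinv T inf_le_left h0
  have hz1 : z ≠ 1 := fun e => by simp [e] at hz2
  have hcS : Nat.card T * T.relIndex S = _ := Transfer.card_mul_relIndex (inf_le_left : T ≤ S)
  have hcT : 1 < Nat.card T := one_lt_card_iff_ne_bot T |>.2 h0
  rw [hi] at hcS
  have hreg : ∀ γ : Ω, γ ≠ α → γ ≠ y • α → (S : Subgroup G) ⊓ stabilizer G γ = ⊥ := fun γ g1 g2 => by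
    by_contra h4
    have h5 : ∀ t ∈ T, t • γ = γ → t = 1 := fun t ht e => by
      by_contra t1
      rcases h3 t t1 α (y • α) γ ht.2 (hfx t ht) e with e | e | e
      exacts [hβ e.symm, g1 e.symm, g2 e.symm]
    obtain ⟨-, -, -, -, hi'⟩ | h := lemA h3 S.isPGroup' h4 fun h => hz1 (h5 z hz (h hz.1))
    swap
    · exact hD h.2
    obtain ⟨z', hz', hz2'⟩ := hinv _ inf_le_left h4
    refine hD (lemD S.isPGroup' hz.1 hz'.1 hz2 hz2' (fun e => hz1 (h5 z hz (e ▸ hz'.2))) (.inr ?_))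
    have : T = zpowers z := le_antisymm (fun t ht => by
      by_cases t1 : t = 1
      · exact t1 ▸ one_mem _
      · rw [eq_inv_of_mul_eq_one_left (h5 _ (T.mul_mem ht hz) ((ABG.mul_mem_iff_of_relIndex_two hi' ht.1 hz.1).2
          (iff_of_false (fun h => t1 (h5 t ht h.2)) fun h => hz1 (h5 z hz h.2))).2)]
        exact inv_mem (mem_zpowers z)) (zpowers_le.2 hz)
    rw [← hcS, this, Nat.card_zpowers, hz2]
  have hyT : y ∉ T := fun h => hβ h.2
  have hfree : ∀ s ∈ (S : Subgroup G), ∀ ω : Ω, s • ω = ω → s ∈ T := fun s hs ω e => by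
    by_cases g1 : ω = α
    · exact ⟨hs, g1 ▸ e⟩
    by_cases g2 : ω = y • α
    · by_contra h
      have := hfx _ ((ABG.mul_mem_iff_of_relIndex_two hi ((S : Subgroup G).inv_mem hy) hs).2
        (iff_of_false (fun h => hyT (T.inv_mem_iff.1 h)) h))
      rw [mul_smul, ← g2, e, g2, inv_smul_smul] at this
      exact hβ this.symm
    · have : s ∈ (S : Subgroup G) ⊓ stabilizer G ω := ⟨hs, e⟩
      rw [hreg ω g1 g2, mem_bot] at this
      exact this ▸ T.one_mem
  have horb : ∀ ω : Ω, Nat.card (orbit (S : Subgroup G) ω) = ((S : Subgroup G) ⊓ stabilizer G ω).relIndex S := fun ω => by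
    rw [inf_relIndex_left, Nat.card_congr (orbitEquivQuotientStabilizer _ ω)]; rfl
  refine ⟨by omega, ⟨α, (horb α).trans hi, fun ω hω => ?_⟩, ?_⟩
  · rw [horb, hreg ω (fun e => hω (by rw [e]; exact mem_orbit_self α)) fun e => hω ⟨⟨y, hy⟩, e.symm⟩, relIndex_bot_left]
  obtain ⟨K, hK, hKS, hKi, -⟩ := Invol.exists_normal_inf_eq S (inf_le_left : T ≤ S) fun x hx g hg => by
    rw [ABG.mul_mem_iff_of_relIndex_two hi ((S : Subgroup G).inv_mem hx) hg, T.inv_mem_iff]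
    exact ⟨fun h => hfree _ hg (g • α) (by rw [mul_smul, mul_smul, inv_smul_smul, show x • α = α from h.2]),
      fun h => hfree _ hx (g⁻¹ • α) (by rw [eq_inv_smul_iff, ← mul_smul, ← mul_smul]; exact h.2)⟩
  rw [hi] at hKi
  have hF : ∀ (h : G) (ω : Ω), h • ω = ω → h ∈ K := fun h ω e => by
    obtain ⟨a, m, hm, ho⟩ := Nat.exists_eq_two_pow_mul_odd (orderOf_pos h).ne'
    have h4 : IsPGroup 2 (zpowers (h ^ m)) := .of_card (n := a) (by
      rw [Nat.card_zpowers, orderOf_pow_of_dvd hm.pos.ne' (ho ▸ dvd_mul_left _ _), ho, Nat.mul_div_cancel _ hm.pos])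
    obtain ⟨Q, hQ⟩ := h4.exists_le_sylow
    obtain ⟨g, rfl⟩ := exists_smul_eq G Q S
    have h5 : g * h ^ m * g⁻¹ ∈ K := (hKS.ge (hfree (g * h ^ m * g⁻¹) ⟨h ^ m, hQ (mem_zpowers _), rfl⟩ (g • ω) (by
      rw [mul_smul, mul_smul, inv_smul_smul, show h ^ m • ω = ω from (stabilizer G ω).pow_mem e m]))).1
    obtain ⟨j, rfl⟩ := hm
    have h6 : h ^ (2 * j + 1) ∈ K := by simpa [mul_assoc] using hK.conj_mem _ h5 g⁻¹
    rwa [pow_succ, pow_mul, K.mul_mem_cancel_left (K.pow_mem (sq_mem_of_index_two hKi h) j)] at h6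
  have hyK : y ∉ K := fun h => hyT (hKS.le ⟨h, hy⟩)
  refine ⟨K, hK, .inl hKi, (stabilizer G α).subgroupOf K, fun e => hz1 ?_, fun e => hz1 ?_, fun g hg => ?_⟩
  · exact congrArg (fun x : K => (x : G)) (mem_bot.1 (e.le (show (⟨z, hF z α hz.2⟩ : K) ∈ _ from hz.2)))
  · refine FaithfulSMul.eq_of_smul_eq_smul (α := Ω) fun ω => ?_
    obtain ⟨g, rfl⟩ := htr.exists_smul_eq α ω
    have := subgroupOf_eq_top.1 e (hK.conj_mem z (hF z α hz.2) g⁻¹)
    rw [mem_stabilizer_iff, inv_inv, mul_smul, mul_smul, inv_smul_eq_iff] at this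
    rw [this, one_smul]
  refine eq_bot_iff.2 fun u hu => mem_bot.2 (Subtype.ext ?_)
  by_contra u1
  have hu1 : (u : G) • α = α := hu.1
  have hu2 : (u : G) • (g : G) • α = (g : G) • α := by
    have := Coprime.mem_conj_smul_iff'.1 hu.2
    rw [mem_subgroupOf, mem_stabilizer_iff, coe_mul, coe_mul, coe_inv, mul_smul, mul_smul, inv_smul_eq_iff] at this
    exact this
  have hδ : (g : G) • α ≠ α := hg
  have hδ' : ∀ h ∈ stabilizer G α, (g : G) • α ≠ h • y • α := fun h hh e => hyK (by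
    have := hF ((g : G)⁻¹ * (h * y)) α (by rw [mul_smul, mul_smul, ← e, inv_smul_smul])
    rwa [K.mul_mem_cancel_left (K.inv_mem g.2), K.mul_mem_cancel_left (hF h α hh)] at this)
  have hβ' : ∀ h ∈ stabilizer G α, h • y • α ≠ α := fun h hh e =>
    hβ (by rw [← inv_smul_smul h (y • α), e]; exact (stabilizer G α).inv_mem hh)
  have hnf : ∀ h ∈ stabilizer G α, (u : G) • h • y • α ≠ h • y • α := fun h hh e => by
    rcases h3 u u1 α _ _ hu1 hu2 e with e | e | e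
    exacts [hδ e.symm, hβ' h hh e.symm, hδ' h hh e]
  have hL : IsFrobeniusComplement ((stabilizer G (y • α)).subgroupOf (stabilizer G α)) := by
    refine ⟨fun e => hz1 ?_, fun e => hnf 1 (one_mem _) ?_, fun h hh => eq_bot_iff.2 fun v hv => mem_bot.2 (Subtype.ext ?_)⟩
    · exact congrArg (fun x : stabilizer G α => (x : G))
        (mem_bot.1 (e.le (show (⟨z, hz.2⟩ : stabilizer G α) ∈ _ from hfx z hz)))
    · rw [one_smul]; exact subgroupOf_eq_top.1 e hu1
    · by_contra v1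
      have := Coprime.mem_conj_smul_iff'.1 hv.2
      rw [mem_subgroupOf, mem_stabilizer_iff, coe_mul, coe_mul, coe_inv, mul_smul, mul_smul, inv_smul_eq_iff] at this
      rcases h3 v v1 α (y • α) _ v.2 hv.1 this with e | e | e
      exacts [hβ e.symm, hβ' h h.2 e.symm, hh e.symm]
  obtain ⟨N, n1, n2, -, -, n3, -⟩ := Coprime.exists_frobKernel hL
  have huN : (⟨u, hu1⟩ : stabilizer G α) ∈ N := by
    rw [← SetLike.mem_coe, n1]
    refine .inr fun h hh => hnf h h.2 ?_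
    have := Coprime.mem_conj_smul_iff'.1 hh
    rw [mem_subgroupOf, mem_stabilizer_iff, coe_mul, coe_mul, coe_inv, mul_smul, mul_smul, inv_smul_eq_iff] at this
    exact this
  have h7 := congrArg Subtype.val (Coprime.conj_eq_inv_of_fpf (s := (⟨z, hz.2⟩ : stabilizer G α))
    (le_normalizer_of_normal (mem_top _)) (Subtype.ext ((sq z).symm.trans (orderOf_dvd_iff_pow_eq_one.1 hz2.dvd)))
    (n3 _ (hfx z hz) fun e => hz1 (congrArg Subtype.val e)) huN)
  change z * u * z⁻¹ = (u : G)⁻¹ at h7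
  have h8 : (u : G) • z • (g : G) • α = z • (g : G) • α := by
    rw [← eq_inv_smul_iff, ← h7, mul_smul, mul_smul, inv_smul_smul, hu2]
  rcases h3 u u1 α _ _ hu1 hu2 h8 with e | e | e
  · exact hδ e.symm
  · exact hδ (by rw [← inv_smul_smul z ((g : G) • α), ← e]; exact (stabilizer G α).inv_mem hz.2)
  · rcases h3 z hz1 α _ _ hz.2 (hfx z hz) e.symm with e | e | e
    exacts [hβ e.symm, hδ e.symm, hδ' 1 (one_mem _) (by rw [one_smul, e])]

end Cfsg.Agent.S3390
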