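import Cfsg.Statements.S3391
import Cfsg.Agent.Lib.BN.SzSubgroups
import Cfsg.Agent.Lib.PGrp.Cyclic

set_option autoImplicit false
open Cfsg

namespace Cfsg.Agent.S3391

open Cfsg.Lib.BN.Sz Cfsg.Lib.BN MulAction

theorem relIndex_le {G Ω : Type*} [Group G] [Finite Ω] [MulAction G Ω]
    (hfix : ∀ g : G, g ≠ 1 → Nat.card (fixedBy Ω g) ≤ 2) {α : Ω} {L : Subgroup G} {g : G} (h1 : g ≠ 1)
    (h : ∀ x ∈ L, x⁻¹ * g * x ∈ stabilizer G α) : (stabilizer G α).relIndex L ≤ 2 := by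
  rw [Subgroup.relIndex, show (stabilizer G α).subgroupOf L = stabilizer L α from rfl, index_stabilizer]
  refine le_trans (Set.ncard_le_ncard ?_) (hfix g h1)
  rintro _ ⟨x, rfl⟩
  have := h x x.2
  rwa [mem_stabilizer_iff, mul_smul, mul_smul, inv_smul_eq_iff] at this

theorem sq_mem {G : Type*} [Group G] [Finite G] {M L : Subgroup G} (h : M.relIndex L ≤ 2) {x : G}
    (hx : x ∈ L) : x * x ∈ M := by
  have h0 : M.relIndex L ≠ 0 := Subgroup.index_ne_zero_of_finite
  have : M.relIndex L = 1 ∨ M.relIndex L = 2 := by omega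
  rcases this with h | h
  · exact Subgroup.relIndex_eq_one.1 h (mul_mem hx hx)
  · exact Subgroup.mul_self_mem_of_index_two h ⟨x, hx⟩

theorem aux {F : Type*} [Field F] {m : ℕ} [SzField F m] {Ω : Type*} [Finite Ω] [MulAction (Cfsg.Sz F m) Ω]
    (hfix : ∀ g : Cfsg.Sz F m, g ≠ 1 → Nat.card (fixedBy Ω g) ≤ 2) {α : Ω}
    (h0 : stabilizer (Cfsg.Sz F m) α ≠ ⊥) (h1 : stabilizer (Cfsg.Sz F m) α ≠ ⊤) :
    (∃ x : Cfsg.Sz F m, stabilizer (Cfsg.Sz F m) (x • α) = B F m) ∨
      Nat.card (stabilizer (Cfsg.Sz F m) α) = 2 ^ (2 * m + 1) - 1 := by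
  rcases Nat.even_or_odd (Nat.card (stabilizer (Cfsg.Sz F m) α)) with h | h
  · left
    obtain ⟨⟨t, ht⟩, ht2⟩ := exists_prime_orderOf_dvd_card' 2 h.two_dvd
    rw [← Subgroup.orderOf_coe] at ht2
    have ht1 : t ≠ 1 := by rintro rfl; simp at ht2
    have ht3 : t * t = 1 := by rw [← sq, ← ht2]; exact pow_orderOf_eq_one t
    obtain ⟨x, b, hb, e⟩ := exists_conj_U_zero ht1 ht3
    refine ⟨x⁻¹, ?_⟩
    have hU : U m 0 b ∈ stabilizer (Cfsg.Sz F m) (x⁻¹ • α) := by
      rw [← e, mem_stabilizer_iff, mul_smul, mul_smul, smul_inv_smul, mem_stabilizer_iff.1 ht]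
    have h2 : stabilizer (Cfsg.Sz F m) (x⁻¹ • α) ≠ ⊤ := fun h => h1 (by
      rw [eq_top_iff]
      intro g _
      have : x⁻¹ * g * x ∈ stabilizer (Cfsg.Sz F m) (x⁻¹ • α) := h ▸ Subgroup.mem_top _
      simpa [mul_smul] using this)
    generalize x⁻¹ • α = β at hU h2
    have hU1 : U m 0 b ≠ 1 := by simpa [U_eq_one_iff] using hb
    have hQ := relIndex_le hfix (α := β) (L := Q F m) hU1 (by
      rintro _ ⟨c, d, rfl⟩
      rwa [mul_assoc, (U_comm_iff m).2 (by simp), inv_mul_cancel_left])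
    have hZ : ∀ c, U m 0 c ∈ stabilizer (Cfsg.Sz F m) β := fun c => by
      obtain ⟨a, rfl⟩ := mul_σ_surjective m c
      have := sq_mem hQ (U_mem_Q m a 0)
      rwa [U_sq, mul_comm] at this
    have hB := relIndex_le hfix (α := β) (L := B F m) hU1 fun y hy => by
      obtain ⟨c, d, k, h⟩ := (mem_B m).1 ((B F m).inv_mem hy)
      have := conj_U_zero (m := m) c d k b
      rw [← h, inv_inv] at this
      rw [this]; exact hZ _
    have hD : ∀ u ∈ B F m, ∀ k, u * D m k * u⁻¹ ∈ stabilizer (Cfsg.Sz F m) β := fun u hu k => by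
      obtain ⟨l, rfl⟩ := exists_sq_unit m k
      have := sq_mem hB (mul_mem (mul_mem hu (H_le_B m (D_mem_H m l))) (inv_mem hu))
      convert this using 1
      rw [D_mul]; group
    have hD' : ∀ k, D m k ∈ stabilizer (Cfsg.Sz F m) β := fun k => by simpa using hD 1 (one_mem _) k
    have hQ' : Q F m ≤ stabilizer (Cfsg.Sz F m) β := Q_le_of_normal_aux m fun k c d => by
      have := mul_mem (hD' k) (hD _ (Q_le_B m (U_mem_Q m c d)) k⁻¹)
      simpa [D_inv, mul_assoc] using this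
    have hB' : B F m ≤ stabilizer (Cfsg.Sz F m) β := fun g hg => by
      obtain ⟨c, d, k, rfl⟩ := (mem_B m).1 hg
      exact mul_mem (hQ' (U_mem_Q m c d)) (hD' k)
    exact le_antisymm (fun g hg => by_contra fun hg' => h2 (eq_top_of_B_le m hB' hg hg')) hB'
  · right
    obtain ⟨T, hT, hle⟩ := exists_le_oddPart h h0
    obtain ⟨⟨g, hg⟩, hg1⟩ := Subgroup.ne_bot_iff_exists_ne_one.1 h0
    have hg1' : g ≠ 1 := fun e => hg1 (Subtype.ext e)
    have h2 := relIndex_le hfix (α := α) (L := Subgroup.normalizer (T : Set (Cfsg.Sz F m))) hg1' fun x hx =>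
      (Subgroup.mem_normalizer_iff''.1 (Lib.PGrp.normalizer_le_normalizer_of_isCyclic hT.isCyclic hle hx) g).1 hg
    have h3 : (stabilizer (Cfsg.Sz F m) α).relIndex (Subgroup.normalizer (T : Set (Cfsg.Sz F m))) *
        Nat.card (stabilizer (Cfsg.Sz F m) α) = Nat.card (Subgroup.normalizer (T : Set (Cfsg.Sz F m))) := by
      rw [Subgroup.relIndex, ← Nat.card_congr (Subgroup.subgroupOfEquivOfLe (hle.trans Subgroup.le_normalizer)).toEquiv,
        Subgroup.index_mul_card]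
    have h4 := Subgroup.card_le_of_le hle
    have h5 : Nat.card (Subgroup.normalizer (T : Set (Cfsg.Sz F m))) ≤ 2 * Nat.card (stabilizer (Cfsg.Sz F m) α) :=
      h3 ▸ Nat.mul_le_mul_right _ h2
    have h6 : 0 < Nat.card T := Nat.card_pos
    rcases hT.cases with ⟨y, rfl⟩ | hT'
    · rw [← Subgroup.map_equiv_normalizer_eq, card_map_conj, card_normalizer_H] at h5
      rw [card_map_conj, card_H] at h4
      omega
    · rw [hT'.card_eq.2] at h5
      omega

/-- Let q = 2^{2m+1} ≥ 8 and let G be isomorphic to the Suzuki group Sz(q). If G acts faithfully and transitively on a finite set Ω with fixity 2 (every non-identity element fixes at most two points, and some fixes exactly two), then either |Ω| = q² + 1 and the action is 2-transitive, or |Ω| = q²(q² + 1) and the point stabilizers have order q − 1. -/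
theorem result {G : Type*} [Group G] [Finite G] (F : Type) [Field F] [Fintype F] (m : ℕ) (hm : 1 ≤ m) (hF : Fintype.card F = 2 ^ (2 * m + 1))
    (e : G ≃* ↥(Cfsg.Lie.Sz F (2 ^ (m + 1)))) {Ω : Type*} [Fintype Ω] [MulAction G Ω] [FaithfulSMul G Ω] (htr : MulAction.IsPretransitive G Ω)
    (hfix : ∀ g : G, g ≠ 1 → Nat.card (MulAction.fixedBy Ω g) ≤ 2) (hex : ∃ g : G, g ≠ 1 ∧ Nat.card (MulAction.fixedBy Ω g) = 2) :
    (Fintype.card Ω = Fintype.card F ^ 2 + 1 ∧ MulAction.IsMultiplyPretransitive G Ω 2) ∨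
    (Fintype.card Ω = Fintype.card F ^ 2 * (Fintype.card F ^ 2 + 1) ∧ ∀ α : Ω, Nat.card (MulAction.stabilizer G α) = Fintype.card F - 1) := by
  have hsz := szField_of_card hm hF
  let f : Cfsg.Sz F m ≃* G := (szEquiv m).trans e.symm
  let _ : MulAction (Cfsg.Sz F m) Ω := MulAction.compHom Ω f.toMonoidHom
  have hs : ∀ (g : Cfsg.Sz F m) (α : Ω), g • α = f g • α := fun _ _ => rfl
  have htr' : IsPretransitive (Cfsg.Sz F m) Ω := ⟨fun a b => by
    obtain ⟨g, hg⟩ := exists_smul_eq G a b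
    exact ⟨f.symm g, by rw [hs, f.apply_symm_apply, hg]⟩⟩
  have hc : ∀ α : Ω, Nat.card (stabilizer G α) = Nat.card (stabilizer (Cfsg.Sz F m) α) := fun α =>
    Nat.card_congr (f.toEquiv.subtypeEquiv fun _ => Iff.rfl).symm
  obtain ⟨g, hg1, hg⟩ := hex
  obtain ⟨α, hα⟩ : Nonempty (fixedBy Ω g) := (Nat.card_ne_zero.1 (by omega)).1
  have hi := index_stabilizer_of_transitive (Cfsg.Sz F m) α
  have hi' := fun β : Ω => index_stabilizer_of_transitive (Cfsg.Sz F m) β
  rw [hF, ← Nat.card_eq_fintype_card]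
  rcases aux (F := F) (m := m) (α := α) (fun g h => hfix (f g) (by simpa using h)) (by
      rw [Subgroup.ne_bot_iff_exists_ne_one]
      refine ⟨⟨f.symm g, by rwa [mem_stabilizer_iff, hs, f.apply_symm_apply]⟩, fun h => hg1 ?_⟩
      simpa using congrArg Subtype.val h) (fun h => hg1 (eq_of_smul_eq_smul (α := Ω) fun β => by
      rw [h, Subgroup.index_top, eq_comm, Nat.card_eq_one_iff_unique] at hi
      exact hi.1.elim _ _)) with ⟨x, hx⟩ | h
  · left
    refine ⟨by rw [← hi' (x • α), hx, index_B], is_two_pretransitive_iff.2 fun {a b c d} hab hcd => ?_⟩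
    have key : ∀ g h : Cfsg.Sz F m, g • x • α = h • x • α ↔ g • inf F m = h • inf F m := fun g h => by
      rw [← inv_smul_eq_iff, ← mul_smul, ← mem_stabilizer_iff, hx, mem_stabilizer_iff, mul_smul, inv_smul_eq_iff]
    obtain ⟨a, rfl⟩ := exists_smul_eq (Cfsg.Sz F m) (x • α) a
    obtain ⟨b, rfl⟩ := exists_smul_eq (Cfsg.Sz F m) (x • α) b
    obtain ⟨c, rfl⟩ := exists_smul_eq (Cfsg.Sz F m) (x • α) c
    obtain ⟨d, rfl⟩ := exists_smul_eq (Cfsg.Sz F m) (x • α) d
    rw [Ne, key] at hab hcd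
    obtain ⟨y, h1, h2⟩ := two_trans m hab hcd
    exact ⟨f y, by rw [← hs, ← mul_smul, key, mul_smul, h1], by rw [← hs, ← mul_smul, key, mul_smul, h2]⟩
  · right
    have h8 := eight_le_q (F := F) m
    have h2 : ∀ β : Ω, Nat.card (stabilizer (Cfsg.Sz F m) β) * Nat.card Ω = Nat.card (Cfsg.Sz F m) := fun β => by
      rw [← hi' β, Subgroup.card_mul_index]
    have h3 := h2 α
    rw [h, card_Sz, mul_comm] at h3
    refine ⟨Nat.eq_of_mul_eq_mul_right (by omega) h3, fun β => ?_⟩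
    have : Nonempty Ω := ⟨α⟩
    rw [hc, ← h]
    exact Nat.eq_of_mul_eq_mul_right Nat.card_pos ((h2 β).trans (h2 α).symm)

end Cfsg.Agent.S3391
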