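import Cfsg.Statements.S3396
import Cfsg.Agent.Lib.Exc.CIT7

set_option autoImplicit false
open Cfsg

namespace Cfsg.Agent.S3396

open Cfsg.Lib Cfsg.Lib.Exc

/-- Let G be a finite group whose order has at least three distinct prime divisors, and suppose every nonidentity element of G has order a power of 2 or a prime other than 5. Then G is isomorphic to PSL₂(7) (here F is any field with 7 elements). In particular a finite group whose set of element orders is {1, 2, 3, 4, 7} is PSL₂(7). -/
theorem result {G : Type*} [Group G] [Finite G]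
    {F : Type*} [Field F] [Fintype F] (hF : Fintype.card F = 7)
    (h3 : 3 ≤ (Nat.card G).primeFactors.card)
    (hord : ∀ g : G, g ≠ 1 → (∃ k : ℕ, orderOf g = 2 ^ k) ∨ ((orderOf g).Prime ∧ orderOf g ≠ 5)) :
    Nonempty (G ≃* Matrix.ProjectiveSpecialLinearGroup (Fin 2) F) := by
  have h : EP G := fun g hg => (hord g hg).elim (fun ⟨k, hk⟩ => hk ▸ Nat.prime_two.isPrimePow.pow fun e =>
    hg (orderOf_eq_one_iff.1 (by rw [hk, e, pow_zero]))) fun h => h.1.isPrimePow
  have hN := Core.isPGroup_pCore 2 G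
  have h5 : ¬ 5 ∣ Nat.card (G ⧸ pCore 2 G) := fun e => by
    have := Fact.mk Nat.prime_five
    obtain ⟨x, hx⟩ := exists_prime_orderOf_dvd_card' 5 (e.trans (Subgroup.card_quotient_dvd_card _))
    rcases hord x (by rintro rfl; simp at hx) with ⟨k, hk⟩ | h1
    · exact absurd (Nat.prime_five.dvd_of_dvd_pow (hx.symm.trans hk).dvd) (by norm_num)
    · exact h1.2 hx
  have h9 : ∀ x : G ⧸ pCore 2 G, orderOf x ≠ 9 := fun x hx => by
    obtain ⟨x, rfl⟩ := QuotientGroup.mk_surjective x
    have h1 : 9 ∣ orderOf x := hx ▸ orderOf_map_dvd (QuotientGroup.mk' _) x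
    rcases hord x (by rintro rfl; simp at hx) with ⟨k, hk⟩ | h2
    · exact not_three_dvd_two_pow k (Dvd.dvd.trans (by norm_num) (hk ▸ h1))
    · rcases (Nat.dvd_prime h2.1).1 h1 with h3 | h3
      · omega
      · exact absurd (h3 ▸ h2.1) (by norm_num)
  rcases h.list_quot (h.not_solvable h3) with (⟨K, _, _, h1, ⟨e⟩⟩ | ⟨K, _, _, h1, ⟨e⟩⟩ | ⟨K, _, _, m, hK, h1, ⟨e⟩⟩) | h1
  · have h2 := Linear.card_PSL_two (F := K)
    obtain ⟨-, y, hy⟩ := psl2_orders K
    have h4 := h9 (e.symm y)
    rw [e.symm.orderOf_eq] at h4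
    rw [← Nat.card_congr e.toEquiv] at h2
    rw [Nat.card_eq_fintype_card (α := K)] at h2 hy
    have h7 : Fintype.card K = 7 := by
      simp only [Finset.mem_insert, Finset.mem_singleton] at h1
      rcases h1 with h1 | h1 | h1 | h1 | h1 <;> rw [h1] at h2 hy <;> norm_num [-Nat.card_eq_fintype_card] at h2 hy <;> omega
    have := Fact.mk (by norm_num : Nat.Prime 7)
    have : CharP K 7 := charP_of_card_eq_prime h7
    obtain ⟨P⟩ : Nonempty (Sylow 7 (Matrix.ProjectiveSpecialLinearGroup (Fin 2) K)) := inferInstance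
    have h8 := Linear.card_normalizer_sylow_PSL2 P
    rw [Nat.card_eq_fintype_card (α := K), h7, show Nat.gcd 2 (7 - 1) = 2 from rfl] at h8
    obtain ⟨f⟩ := Linear.nonempty_psl_equiv_of_card_eq (ι := Fin 2) (F := K) (K := F) (by simp [h7, hF])
    refine equiv_of_eq_bot (h.cit.eq_bot hN e (Subgroup.normalizer (SetLike.coe P.toSubgroup)) Nat.prime_three (q := 7) (by norm_num)
      (by omega) (by decide) fun x => ((h.of_surj _ (QuotientGroup.mk'_surjective _)).of_surj
        e.toMonoidHom e.surjective).ne_mul x Nat.prime_three (by norm_num) (by norm_num)) (e.trans f)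
  · exact absurd (by rw [Nat.card_congr e.toEquiv, card_psl3_four (Nat.card_eq_fintype_card.trans h1)]; norm_num) h5
  · exact absurd (by rw [Nat.card_congr e.toEquiv, BN.Sz.card_Sz]; exact ((five_dvd_sz m).mul_left _).mul_right _) h5
  · exact absurd (by rw [h1.card]; norm_num) h5

end Cfsg.Agent.S3396
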