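import Cfsg.Statements.S3718
import Cfsg.Agent.Lib.Exc.CIT7
import Cfsg.Agent.Lib.Known.PSL2
import Cfsg.Agent.Lib.BN.SzModel
import Cfsg.Agent.Lib.Coprime.AbSyl

set_option autoImplicit false
open Cfsg

namespace Cfsg.Agent.S3718

open scoped IsMulCommutative
open Subgroup Cfsg.Lib Cfsg.Lib.Invol Cfsg.Lib.Coprime

abbrev One (G : Type*) [Group G] : Prop := {n : ℕ | n ∈ Set.range (orderOf : G → ℕ) ∧ 1 < n ∧ ¬ n.Prime}.Subsingleton

section
variable {P : ℕ → Prop} (hP : ∀ m n, P n → m ∣ n → P m) (H : {n | P n ∧ 1 < n ∧ ¬ n.Prime}.Subsingleton)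
include hP H

theorem eq_of_dvd {m n : ℕ} (hn : P n) (h0 : n ≠ 0) (h : m ∣ n) (h1 : 1 < m) (h2 : ¬ m.Prime) : n = m := by
  by_cases e : n = m
  · exact e
  exact H ⟨hn, h1.trans_le (Nat.le_of_dvd (Nat.pos_of_ne_zero h0) h), fun h3 =>
    ((Nat.dvd_prime h3).1 h).elim h1.ne' fun e' => e e'.symm⟩ ⟨hP _ _ hn h, h1, h2⟩

theorem mul_cases {r k : ℕ} (hr : 1 < r) (h0 : k ≠ 0) (h : P (r * k)) : k = 1 ∨ k.Prime := by
  by_contra! hc
  have := eq_of_dvd hP H h (by positivity) (dvd_mul_left k r) (by omega) hc.2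
  nlinarith [Nat.pos_of_ne_zero h0]

omit hP in
theorem prime_of {r k b : ℕ} (hr : 1 < r) (hk : 1 < k) (h : P (r * k)) (hb : P b) (h1 : 1 < b) (hne : b ≠ r * k) : b.Prime :=
  by_contra fun h2 => hne (H ⟨hb, h1, h2⟩ ⟨h, by nlinarith, Nat.not_prime_mul hr.ne' hk.ne'⟩)

end

theorem psl_case {F : Type} [Field F] [Fintype F] (h4 : 4 ≤ Fintype.card F) (H : One (Linear.PSL2 F)) :
    Fintype.card F = 4 ∨ (Fintype.card F = 5 ∨ Fintype.card F = 7 ∨ Fintype.card F = 8 ∨ Fintype.card F = 9 ∨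
      Fintype.card F = 11 ∨ Fintype.card F = 13 ∨ Fintype.card F = 16) ∨
    (∃ n r s : ℕ, r.Prime ∧ s.Prime ∧ 3 ^ n - 1 = 2 * r ∧ 3 ^ n + 1 = 4 * s ∧ Fintype.card F = 3 ^ n) ∨
    ∃ n r : ℕ, (2 ^ n - 1).Prime ∧ r.Prime ∧ 2 ^ n + 1 = 3 * r ∧ Fintype.card F = 2 ^ n := by
  have hP : ∀ m n, n ∈ Set.range (orderOf : Linear.PSL2 F → ℕ) → m ∣ n → m ∈ Set.range (orderOf : Linear.PSL2 F → ℕ) :=
    fun _ _ => spec_of_dvd
  obtain ⟨⟨x, hx⟩, y, hy⟩ := Exc.psl2_orders F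
  have ha : orderOf x ∈ Set.range (orderOf : Linear.PSL2 F → ℕ) := ⟨x, rfl⟩
  have hb : orderOf y ∈ Set.range (orderOf : Linear.PSL2 F → ℕ) := ⟨y, rfl⟩
  obtain ⟨p, -, ⟨n, hn⟩, hp, hq⟩ := FiniteField.card' F
  rw [Nat.card_eq_fintype_card] at hx hy
  change _ = p ^ n at hq
  generalize orderOf x = a at *
  generalize orderOf y = b at *
  generalize Fintype.card F = q at *
  by_cases h2 : p = 2
  · subst h2
    rw [Exc.gcd_even hq hn, one_mul] at hx hy
    rcases Nat.even_or_odd' n with ⟨k, rfl | rfl⟩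
    · have e : a = (2 ^ k + 1) * (2 ^ k - 1) := by rw [← Exc.two_pow_two_mul]; omega
      rcases k with _ | _ | k
      · omega
      · exact Or.inl hq
      have h5 : 0 < 2 ^ k := by positivity
      have h6 := Exc.not_three_dvd_two_pow k
      have h7 := mul_cases hP H (by omega) (by omega) (e ▸ ha)
      have h8 := mul_cases hP H (by omega) (by omega) (mul_comm (2 ^ (k + 1 + 1) + 1) _ ▸ e ▸ ha)
      have h9 : 3 ∣ 2 ^ (k + 1 + 1) + 1 ∨ 3 ∣ 2 ^ (k + 1 + 1) - 1 := by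
        rcases (by omega : 2 ^ k % 3 = 1 ∨ 2 ^ k % 3 = 2) with h | h <;> omega
      rcases h9 with h9 | h9
      · have := (Nat.prime_dvd_prime_iff_eq Nat.prime_three (h8.resolve_left (by omega))).1 h9
        omega
      · have := (Nat.prime_dvd_prime_iff_eq Nat.prime_three (h7.resolve_left (by omega))).1 h9
        have h10 : 2 ^ (k + 1 + 1) = 4 := by omega
        rw [mul_comm, pow_mul, h10] at hq
        simp [hq]
    · have h5 : 2 ^ (2 * k + 1) % 3 = 2 := by rw [pow_succ, pow_mul]; simp [Nat.mul_mod, Nat.pow_mod]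
      obtain ⟨r, hr⟩ : 3 ∣ b := by omega
      have h6 := (mul_cases hP H (by norm_num) (by omega) (hr ▸ hb)).resolve_left (by omega)
      exact Or.inr (Or.inr (Or.inr ⟨_, r, (show a = 2 ^ (2 * k + 1) - 1 by omega) ▸ prime_of H (by norm_num) h6.one_lt (hr ▸ hb) ha (by omega)
        (by omega), h6, by omega, hq⟩))
  have h5 : q % 2 = 1 := hq ▸ Nat.odd_iff.1 (hp.odd_of_ne_two h2).pow
  rw [show Nat.gcd 2 (q - 1) = 2 from Nat.gcd_eq_left (by omega)] at hx hy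
  have h6 := fun m (hm : m = 4 ∨ m = 6) n hn h0 h => eq_of_dvd hP H (m := m) (n := n) hn h0 h (by omega)
    (by rcases hm with rfl | rfl <;> norm_num)
  have a4 := h6 4 (by simp) a ha (by omega)
  have b4 := h6 4 (by simp) b hb (by omega)
  have a6 := h6 6 (by simp) a ha (by omega)
  have b6 := h6 6 (by simp) b hb (by omega)
  by_cases h3 : p = 3
  · subst h3
    rcases Nat.even_or_odd' n with ⟨k, rfl | rfl⟩
    · have : 3 ^ (2 * k) % 8 = 1 := by rw [pow_mul]; simp [Nat.pow_mod]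
      omega
    · have : 3 ^ (2 * k + 1) % 8 = 3 := by rw [pow_succ, pow_mul]; simp [Nat.mul_mod, Nat.pow_mod]
      obtain ⟨s, hs⟩ : 2 ∣ b := by omega
      have h7 := (mul_cases hP H (by norm_num) (by omega) (hs ▸ hb)).resolve_left (by omega)
      exact Or.inr (Or.inr (Or.inl ⟨_, a, s, prime_of H (by norm_num) h7.one_lt (hs ▸ hb) ha (by omega) (by omega), h7,
        by omega, by omega, hq⟩))
  have h7 : ¬ 3 ∣ q := fun h => h3 ((Nat.prime_dvd_prime_iff_eq Nat.prime_three hp).1 (Nat.prime_three.dvd_of_dvd_pow (hq ▸ h))).symm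
  have key : ∀ u v, u ∈ Set.range (orderOf : Linear.PSL2 F → ℕ) → v ∈ Set.range (orderOf : Linear.PSL2 F → ℕ) → 2 ∣ u → 3 ∣ v →
      u ≠ v → u ≠ 0 → v ≠ 0 → u = 2 ∨ v = 3 := by
    rintro _ _ hu hv ⟨u, rfl⟩ ⟨v, rfl⟩ hne h0 h0'
    by_contra! hc
    exact Nat.not_prime_mul (by norm_num) (by omega) (prime_of H (by norm_num) (by omega) hu hv (by omega) hne.symm)
  have k1 := key a b ha hb
  have k2 := key b a hb ha
  have := Nat.mod_lt a (by norm_num : 0 < 12)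
  interval_cases h : a % 12 <;> omega

theorem sz_case {F : Type} [Field F] {m : ℕ} [hF : BN.Sz.SzField F m] (H : One (Cfsg.Sz F m)) : m = 1 := by
  have := hF.finite
  have h4 : 4 ∈ Set.range (orderOf : Cfsg.Sz F m → ℕ) := ⟨_, BN.Sz.orderOf_U m one_ne_zero 0⟩
  have h1 : ∀ g : Cfsg.Sz F m, g ≠ 1 → orderOf g = 4 ∨ (orderOf g).Prime := fun g hg => or_iff_not_imp_right.2 fun h =>
    H ⟨⟨g, rfl⟩, by have := orderOf_pos g; have := mt orderOf_eq_one_iff.1 hg; omega, h⟩ ⟨h4, by norm_num, by norm_num⟩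
  have h2 := Exc.sz_le_two (F := F) fun g hg => (h1 g hg).elim (fun e => ⟨2, 2, Nat.prime_two.prime, two_pos, e.symm⟩) Nat.Prime.isPrimePow
  by_contra h3
  obtain rfl : m = 2 := by have := hF.one_le; omega
  obtain ⟨T₁, T₂, -, h5, -, h6, -⟩ := BN.Sz.exists_tori F 2
  obtain ⟨x, hx⟩ := h5.isCyclic.exists_ofOrder_eq_natCard
  rw [← Subgroup.orderOf_coe, h6] at hx
  have := h1 x (by rintro e; simp [e] at hx)
  rw [hx] at this
  norm_num at this



theorem One.congr {A B : Type*} [Group A] [Group B] (e : A ≃* B) (h : One A) : One B := by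
  unfold One; rwa [← spec_congr e]

/-- Let G be a finite simple group whose set of element orders contains at most one composite number (at most one element order that is neither 1 nor a prime). Then G is cyclic of prime order, or isomorphic to PSL₂(q) for q ∈ {5, 7, 8, 9, 11, 13, 16}, to PSL₃(4), to the Suzuki group Sz(8), to PSL₂(3ⁿ) with (3ⁿ − 1)/2 and (3ⁿ + 1)/4 both prime, or to PSL₂(2ⁿ) with 2ⁿ − 1 and (2ⁿ + 1)/3 both prime. -/
theorem result {G : Type*} [Group G] [Finite G] [IsSimpleGroup G]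
    (h1 : {n : ℕ | n ∈ Set.range (orderOf : G → ℕ) ∧ 1 < n ∧ ¬ n.Prime}.Subsingleton) :
    (Nat.card G).Prime ∨
    (∃ (F : Type) (_ : Field F) (_ : Fintype F), (Fintype.card F = 5 ∨ Fintype.card F = 7 ∨ Fintype.card F = 8 ∨ Fintype.card F = 9 ∨
        Fintype.card F = 11 ∨ Fintype.card F = 13 ∨ Fintype.card F = 16) ∧ Nonempty (G ≃* Matrix.ProjectiveSpecialLinearGroup (Fin 2) F)) ∨
    (∃ (F : Type) (_ : Field F) (_ : Fintype F), Fintype.card F = 4 ∧ Nonempty (G ≃* Matrix.ProjectiveSpecialLinearGroup (Fin 3) F)) ∨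
    (∃ (F : Type) (_ : Field F) (_ : Fintype F), Fintype.card F = 8 ∧ Nonempty (G ≃* ↥(Cfsg.Lie.Sz F 4))) ∨
    (∃ (F : Type) (_ : Field F) (_ : Fintype F), ∃ n r s : ℕ, r.Prime ∧ s.Prime ∧ 3 ^ n - 1 = 2 * r ∧ 3 ^ n + 1 = 4 * s ∧
        Fintype.card F = 3 ^ n ∧ Nonempty (G ≃* Matrix.ProjectiveSpecialLinearGroup (Fin 2) F)) ∨
    (∃ (F : Type) (_ : Field F) (_ : Fintype F), ∃ n r : ℕ, (2 ^ n - 1).Prime ∧ r.Prime ∧ 2 ^ n + 1 = 3 * r ∧
        Fintype.card F = 2 ^ n ∧ Nonempty (G ≃* Matrix.ProjectiveSpecialLinearGroup (Fin 2) F)) := by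
  by_cases hG : IsMulCommutative G
  · exact Or.inl IsSimpleGroup.prime_card
  right
  suffices (∃ (F : Type) (_ : Field F) (_ : Fintype F), 4 ≤ Fintype.card F ∧ Nonempty (G ≃* Linear.PSL2 F)) ∨
      (∃ (F : Type) (_ : Field F) (_ : Fintype F), Fintype.card F = 4 ∧ Nonempty (G ≃* Matrix.ProjectiveSpecialLinearGroup (Fin 3) F)) ∨
      (∃ (F : Type) (_ : Field F) (_ : Fintype F), Fintype.card F = 8 ∧ Nonempty (G ≃* ↥(Cfsg.Lie.Sz F 4))) by
    rcases this with ⟨F, _, _, h4, ⟨e⟩⟩ | h | h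
    · rcases psl_case h4 (One.congr e h1) with h | h | ⟨n, r, s, a, b, c, d, f⟩ | ⟨n, r, a, b, c, d⟩
      · have := Fact.mk Nat.prime_five
        obtain ⟨e1⟩ := Linear.psl2_four_equiv (F := F) (Nat.card_eq_fintype_card.trans h)
        obtain ⟨e2⟩ := Linear.psl2_five_equiv (F := ZMod 5) (Nat.card_zmod 5)
        exact Or.inl ⟨ZMod 5, inferInstance, inferInstance, Or.inl (ZMod.card 5), ⟨(e.trans e1).trans e2.symm⟩⟩
      · exact Or.inl ⟨F, inferInstance, inferInstance, h, ⟨e⟩⟩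
      · exact Or.inr (Or.inr (Or.inr (Or.inl ⟨F, inferInstance, inferInstance, n, r, s, a, b, c, d, f, ⟨e⟩⟩)))
      · exact Or.inr (Or.inr (Or.inr (Or.inr ⟨F, inferInstance, inferInstance, n, r, a, b, c, d, ⟨e⟩⟩)))
    · exact Or.inr (Or.inl h)
    · exact Or.inr (Or.inr (Or.inl h))
  by_cases h4 : 4 ∈ Set.range (orderOf : G → ℕ)
  · have hC : Exc.CIT G := Exc.cit_of_no_two_mul fun x s hs h2 e => by
      have : 2 * s = 4 := h1 ⟨⟨x, e⟩, by have := hs.one_lt; omega, Nat.not_prime_mul (by norm_num) hs.ne_one⟩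
        ⟨h4, by norm_num, by norm_num⟩
      omega
    rcases hC.simple hG with ⟨F, _, _, n, h2, h3, e⟩ | ⟨F, _, _, m, hF, ⟨e⟩⟩ | ⟨F, _, _, n, h2, h3, e⟩ | h
    · exact Or.inl ⟨F, inferInstance, inferInstance, h3 ▸ Nat.pow_le_pow_right two_pos h2, e⟩
    · obtain rfl := sz_case (One.congr e h1)
      exact Or.inr (Or.inr ⟨F, inferInstance, inferInstance, Nat.card_eq_fintype_card.symm.trans hF.card_eq,
        ⟨e.trans (BN.Sz.szEquiv 1)⟩⟩)
    · have := Nat.pow_le_pow_right two_pos h2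
      exact Or.inl ⟨F, inferInstance, inferInstance, by omega, e⟩
    · exact Or.inr (Or.inl h)
  obtain ⟨S⟩ : Nonempty (Sylow 2 G) := inferInstance
  have h2 : ∀ x : S, x * x = 1 := fun x => by
    obtain ⟨k, hk⟩ := IsPGroup.iff_orderOf.1 S.2 x
    rw [← sq, ← orderOf_dvd_iff_pow_eq_one, hk]
    rcases k with _ | _ | k
    · simp
    · simp
    · exact absurd (spec_of_dvd (G := G) ⟨x, (Subgroup.orderOf_coe x).trans hk⟩ (pow_dvd_pow 2 (by omega : 2 ≤ k + 1 + 1))) h4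
  have hc : IsMulCommutative S := ⟨⟨fun a b => by
    rw [← inv_inj, mul_inv_rev, inv_eq_of_mul_eq_one_right (h2 a), inv_eq_of_mul_eq_one_right (h2 b),
      inv_eq_of_mul_eq_one_right (h2 (b * a))]⟩⟩
  rcases walter' hG S hc with ⟨F, _, _, h, -, e⟩ | ⟨t, K, ht, hK, _, hK', -⟩
  · exact Or.inl ⟨F, inferInstance, inferInstance, h, e⟩
  obtain ⟨r, a, b, c, -⟩ := exists_prime_ne hK' Nat.prime_two Nat.prime_two
  obtain ⟨s, a', b', c', d⟩ := exists_prime_ne hK' Nat.prime_two a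
  have : 2 * r = 2 * s := h1 ⟨two_mul_mem_spec ht hK a c b, by have := a.one_lt; omega, Nat.not_prime_mul (by norm_num) a.ne_one⟩
    ⟨two_mul_mem_spec ht hK a' c' b', by have := a'.one_lt; omega, Nat.not_prime_mul (by norm_num) a'.ne_one⟩
  omega

end Cfsg.Agent.S3718
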