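import Cfsg.Statements.S3406
import Cfsg.Agent.S3718
import Cfsg.Agent.S2476

set_option autoImplicit false
open Cfsg

namespace Cfsg.Agent.S3406

open Subgroup Cfsg.Lib Cfsg.Lib.Coprime

theorem mem_psl2 {F : Type} [Field F] [Fintype F] {p n : ℕ} (hp : p.Prime) (h : Fintype.card F = p ^ n) {m : ℕ}
    (hm : m ∣ p ∨ m ∣ (p ^ n - 1) / Nat.gcd 2 (p ^ n - 1) ∨ m ∣ (p ^ n + 1) / Nat.gcd 2 (p ^ n - 1)) :
    m ∈ Set.range (orderOf : Matrix.ProjectiveSpecialLinearGroup (Fin 2) F → ℕ) := by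
  have := Fact.mk hp
  have := charP_of_card_eq_prime_pow h
  exact (Known.PSL2_spectrum p m).2 (by rwa [Nat.card_eq_fintype_card, h])

/-- A non-abelian finite simple group on whose elements the full automorphism group has at most five orbits is isomorphic to the alternating group of degree 5 or 6, to PSL(2, 7) or to PSL(2, 8). -/
theorem result {G : Type*} [Group G] [Finite G] [IsSimpleGroup G] (hG : ¬ IsMulCommutative G)
    (h5 : Nat.card (MulAction.orbitRel.Quotient (MulAut G) G) ≤ 5) :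
    Nonempty (G ≃* ↥(alternatingGroup (Fin 5))) ∨ Nonempty (G ≃* ↥(alternatingGroup (Fin 6))) ∨
      (∃ (F : Type) (_ : Field F) (_ : Fintype F), (Fintype.card F = 7 ∨ Fintype.card F = 8) ∧
        Nonempty (G ≃* Matrix.ProjectiveSpecialLinearGroup (Fin 2) F)) := by
  have six : ∀ l : List ℕ, l.Nodup → (∀ n ∈ l, n ∈ Set.range (orderOf : G → ℕ)) → l.length ≤ 5 := fun l hl h => by
    let f : MulAction.orbitRel.Quotient (MulAut G) G → ℕ := Quotient.lift orderOf (by
      rintro _ b ⟨e, rfl⟩; exact e.orderOf_eq b)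
    have h1 : (l.toFinset : Set ℕ) ⊆ f '' Set.univ := fun n hn => by
      obtain ⟨x, rfl⟩ := h n (by simpa using hn)
      exact ⟨Quotient.mk _ x, trivial, rfl⟩
    have h2 := (Set.ncard_le_ncard h1 (Set.toFinite _)).trans (Set.ncard_image_le (Set.toFinite _))
    rw [Set.ncard_coe_finset, List.toFinset_card_of_nodup hl, Set.ncard_univ] at h2
    omega
  have hp : ∀ r, r.Prime → r ∣ Nat.card G → r ∈ Set.range (orderOf : G → ℕ) := fun r hr hd =>
    have := Fact.mk hr; exists_prime_orderOf_dvd_card' r hd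
  have h1 : S3718.One G := by
    rintro m ⟨m1, m2, m3⟩ n ⟨n1, n2, n3⟩
    by_contra hne
    obtain ⟨p, a, b, -⟩ := exists_prime_ne hG Nat.prime_two Nat.prime_two
    obtain ⟨q, a', b', c, -⟩ := exists_prime_ne hG a a
    obtain ⟨r, a'', b'', d, e⟩ := exists_prime_ne hG a a'
    have k : ∀ {s : ℕ}, s.Prime → s ≠ m ∧ s ≠ n ∧ 1 ≠ s := fun hs => ⟨fun e => m3 (e ▸ hs), fun e => n3 (e ▸ hs), hs.ne_one.symm⟩
    have := k a; have := k a'; have := k a''
    refine absurd (six [1, p, q, r, m, n] (by simp; omega) ?_) (by simp)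
    simp only [List.forall_mem_cons]
    exact ⟨⟨1, orderOf_one⟩, hp _ a b, hp _ a' b', hp _ a'' b'', m1, n1, by simp⟩
  have psl : ∀ {F : Type} [Field F] [Fintype F] {p n : ℕ} (hp : p.Prime) (h : Fintype.card F = p ^ n)
      (e : G ≃* Matrix.ProjectiveSpecialLinearGroup (Fin 2) F) (l : List ℕ), l.Nodup → l.length = 6 →
      ¬ ∀ m ∈ l, m ∣ p ∨ m ∣ (p ^ n - 1) / Nat.gcd 2 (p ^ n - 1) ∨ m ∣ (p ^ n + 1) / Nat.gcd 2 (p ^ n - 1) :=
    fun hp h e l h1 h2 h3 => absurd (six l h1 fun m hm => spec_congr e ▸ mem_psl2 hp h (h3 m hm)) (by omega)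
  rcases S3718.result h1 with h | ⟨F, _, _, h, ⟨e⟩⟩ | ⟨F, _, _, h, ⟨e⟩⟩ | ⟨F, _, _, h, ⟨e⟩⟩ | ⟨F, _, _, n, r, s, a, b, c, d, h, ⟨e⟩⟩ |
    ⟨F, _, _, n, r, a, b, c, h, ⟨e⟩⟩
  · have := Fact.mk h
    exact absurd (isCyclic_of_prime_card (p := Nat.card G) rfl).isMulCommutative hG
  · rcases h with h | h | h | h | h | h | h
    · exact Or.inl ((Linear.psl2_five_equiv (Nat.card_eq_fintype_card.trans h)).map e.trans)
    · exact Or.inr (Or.inr ⟨F, inferInstance, inferInstance, Or.inl h, ⟨e⟩⟩)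
    · exact Or.inr (Or.inr ⟨F, inferInstance, inferInstance, Or.inr h, ⟨e⟩⟩)
    · exact Or.inr (Or.inl ((Linear.psl2_nine_equiv (Nat.card_eq_fintype_card.trans h)).map e.trans))
    · exact absurd (by norm_num) (psl (p := 11) (n := 1) (by norm_num) h e [1, 2, 3, 5, 6, 11] (by decide) rfl)
    · exact absurd (by norm_num) (psl (p := 13) (n := 1) (by norm_num) h e [1, 2, 3, 6, 7, 13] (by decide) rfl)
    · exact absurd (by norm_num) (psl (p := 2) (n := 4) (by norm_num) h e [1, 2, 3, 5, 15, 17] (by decide) rfl)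
  · have := charP_of_card_eq_prime_pow (p := 2) (f := 2) h
    refine absurd (six [1, 2, 3, 4, 5, 7] (by decide) ?_) (by simp)
    rw [spec_congr e, S2476.result 2, h]
    norm_num
  · have hF := BN.Sz.szField_of_card (m := 1) le_rfl h
    have e' := e.trans (BN.Sz.szEquiv 1).symm
    have h2 := (Nat.card_congr e'.toEquiv).trans (BN.Sz.card_Sz 1)
    refine absurd (six [1, 2, 4, 5, 7, 13] (by decide) ?_) (by simp)
    simp only [List.forall_mem_cons]
    exact ⟨⟨1, orderOf_one⟩, hp _ (by norm_num) (by norm_num [h2]), spec_congr e' ▸ ⟨_, BN.Sz.orderOf_U 1 one_ne_zero 0⟩,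
      hp _ (by norm_num) (by norm_num [h2]), hp _ (by norm_num) (by norm_num [h2]), hp _ (by norm_num) (by norm_num [h2]), by simp⟩
  · have h2 : 27 ≤ 3 ^ n := by
      rcases n with _ | _ | _ | n
      · omega
      · exact absurd a (by rw [show r = 1 by omega]; norm_num)
      · omega
      · have : 0 < 3 ^ n := by positivity
        omega
    refine absurd ?_ (psl Nat.prime_three h e [1, 2, 3, s, r, 2 * s] (by simp; omega) rfl)
    rw [c, d, Nat.gcd_eq_left (dvd_mul_right _ _), show 4 * s / 2 = 2 * s by omega]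
    simp
  · by_cases h8 : n = 3
    · exact Or.inr (Or.inr ⟨F, inferInstance, inferInstance, Or.inr (by simp [h, h8]), ⟨e⟩⟩)
    have h2 : 16 ≤ 2 ^ n ∧ 2 ^ n % 2 = 0 := by
      rcases n with _ | _ | _ | _ | n
      · omega
      · exact absurd a (by norm_num)
      · omega
      · omega
      · have : 0 < 2 ^ n := by positivity
        omega
    refine absurd ?_ (psl Nat.prime_two h e [1, 2, 3, r, 2 ^ n - 1, 3 * r] (by simp; omega) rfl)
    rw [c, show Nat.gcd 2 (2 ^ n - 1) = 1 from (Nat.coprime_two_left.2 (Nat.odd_iff.2 (by omega)))]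
    simp

end Cfsg.Agent.S3406
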