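import Cfsg.Statements.S3419
import Cfsg.Agent.Lib.Coprime.AltSpec
import Cfsg.Agent.Lib.Hall.HallThm

set_option autoImplicit false
open Cfsg

namespace Cfsg.Agent.S3419

open Subgroup Cfsg.Lib Cfsg.Lib.Coprime

theorem hall_case {G : Type*} [Group G] [Finite G] [Group.IsSolvable G] {p t m : ℕ} (hp : p.Prime) (ht : t.Prime)
    (hpt : p ≠ t) (h1 : ¬ t ∣ p - 1) (hG : Nat.card G = p * t ^ 2 * m) (hm : (p * t ^ 2).Coprime m)
    (h2 : ∀ k ∈ (t ^ 2).divisors, k % p = 1 → k = 1) : p * t ∈ Set.range (orderOf : G → ℕ) := by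
  have := Fact.mk hp
  obtain ⟨K, hK⟩ := Hall.exists_isPiHall (G := G) {p | ¬ p ∣ m}
  have hK := Hall.card_eq_of_isPiHall_of_coprime hG hm hK
  obtain ⟨P⟩ : Nonempty (Sylow p K) := inferInstance
  have hc := (Nat.coprime_primes hp ht).2 hpt
  have h3 : Nat.card P.1 = p := by
    rw [P.card_eq_multiplicity, hK, Nat.factorization_mul hp.ne_zero (pow_pos ht.pos 2).ne', Finsupp.add_apply,
      hp.factorization_self, Nat.factorization_eq_zero_of_not_dvd (hp.coprime_iff_not_dvd.1 (hc.pow_right 2)), pow_one]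
  have h4 : P.1.index = t ^ 2 := Nat.eq_of_mul_eq_mul_left hp.pos (by rw [← hK, ← P.1.card_mul_index, h3])
  have h5 := h2 _ (Nat.mem_divisors.2 ⟨h4 ▸ P.card_dvd_index, (pow_pos ht.pos 2).ne'⟩)
    (Eq.trans (card_sylow_modEq_one p K) (Nat.mod_eq_of_lt hp.one_lt))
  have : P.1.Normal := by rwa [P.card_eq_index_normalizer, index_eq_one, ← Sylow.coe_coe, normalizer_eq_top_iff] at h5
  obtain ⟨x, hx⟩ := mul_mem_spec_of_index hp ht hpt h1 P.1 h3.symm.dvd
    (fun h => absurd (Nat.le_of_dvd hp.pos (h3 ▸ h)) (by nlinarith [hp.two_le])) (h4 ▸ dvd_pow_self t two_ne_zero)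
  exact ⟨x, (orderOf_coe x).trans hx⟩

/-- Let n ≥ 5 and let G be a finite group with the same order and the same set of element orders as the alternating group of degree n. Then G is not solvable. -/
theorem result {G : Type*} [Group G] [Finite G] (n : ℕ) (hn : 5 ≤ n)
    (hcard : Nat.card G = Nat.card ↥(alternatingGroup (Fin n)))
    (hspec : Set.range (orderOf : G → ℕ) = Set.range (orderOf : ↥(alternatingGroup (Fin n)) → ℕ)) :
    ¬ Group.IsSolvable G := by
  intro hs
  have : Nontrivial (Fin n) := Fin.nontrivial_iff_two_le.2 (by omega)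
  have hc : 2 * Nat.card G = n.factorial := by
    rw [hcard, two_mul_nat_card_alternatingGroup, Nat.card_perm, Nat.card_fin]
  by_cases h6 : n = 6
  · subst h6
    exact alt_not_mem (p := 5) (t := 3) (by norm_num) (by norm_num) (by norm_num) (by norm_num) (hspec ▸ hall_case (m := 8)
      (by norm_num) (by norm_num) (by norm_num) (by norm_num) (by simp [Nat.factorial] at hc; omega) (by norm_num) (by decide))
  by_cases h10 : n = 10
  · subst h10
    exact alt_not_mem (p := 7) (t := 5) (by norm_num) (by norm_num) (by norm_num) (by norm_num) (hspec ▸ hall_case (m := 10368)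
      (by norm_num) (by norm_num) (by norm_num) (by norm_num) (by simp [Nat.factorial] at hc; omega) (by norm_num) (by decide))
  obtain ⟨N, H, _, -, -, _, h, -⟩ := alt_simple_section hn hcard hspec (by
    by_cases h : 11 ≤ n
    · exact two_primes h
    by_cases h5 : n = 5
    · exact ⟨3, 5, by norm_num, by norm_num, by omega⟩
    · exact ⟨5, 7, by norm_num, by norm_num, by omega⟩)
  exact h ⟨⟨IsSimpleGroup.comm_iff_isSolvable.2 inferInstance⟩⟩

end Cfsg.Agent.S3419
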