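import Cfsg.Statements.S3421
import Cfsg.Agent.Lib.Layer.SpecL2
import Cfsg.Agent.Lib.Layer.Misc

set_option autoImplicit false
open Cfsg

namespace Cfsg.Agent.S3421

open Subgroup Cfsg.Lib.Core Cfsg.Lib.Amalg Cfsg.Lib.BG1 Cfsg.Lib.Layer

/-- Let F be a finite field with more than 3 elements. A finite group G is isomorphic to PSL(2, F) if and only if G has the same set of element orders and the same order as PSL(2, F). -/
theorem result {G : Type*} [Group G] [Finite G] {F : Type*} [Field F] [Fintype F] (hF : 3 < Fintype.card F) :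
    Nonempty (G ≃* Matrix.ProjectiveSpecialLinearGroup (Fin 2) F) ↔
      (Set.range (orderOf : G → ℕ) = Set.range (orderOf : Matrix.ProjectiveSpecialLinearGroup (Fin 2) F → ℕ) ∧
        Nat.card G = Nat.card (Matrix.ProjectiveSpecialLinearGroup (Fin 2) F)) := by
  refine ⟨fun ⟨e⟩ => ⟨?_, Nat.card_congr e.toEquiv⟩, fun ⟨hs, hn⟩ => ?_⟩
  · ext d
    exact ⟨fun ⟨x, hx⟩ => ⟨e x, (e.orderOf_eq x).trans hx⟩, fun ⟨x, hx⟩ => ⟨e.symm x, (e.symm.orderOf_eq x).trans hx⟩⟩
  obtain ⟨p, hp'⟩ := CharP.exists F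
  obtain ⟨i, hp, hq⟩ := FiniteField.card F p
  haveI := Fact.mk hp
  have hs' : ∀ d, (∃ g : G, orderOf g = d) ↔ _ := fun d =>
    (Set.ext_iff.mp hs d).trans (Lib.Known.PSL2_spectrum (F := F) p d)
  have hc := Lib.Linear.card_PSL_two (F := F)
  rw [Nat.card_eq_fintype_card (α := F)] at hs' hc
  by_cases h2 : p = 2
  · subst h2
    have hi : 2 ≤ (i : ℕ) := by
      by_contra hn
      have := Nat.pow_le_pow_right two_pos (show (i : ℕ) ≤ 1 by omega)
      omega
    rw [Lib.Exc.gcd_even hq (by omega), hq] at hs' hc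
    exact SpecL2.even_case hq hi (by rw [hn, ← hc, one_mul]) fun g => by simpa using (hs' _).mp ⟨g, rfl⟩
  obtain ⟨k, hk⟩ : Odd (Fintype.card F) := hq ▸ (hp.odd_of_ne_two h2).pow
  have e1 : Nat.gcd 2 (Fintype.card F - 1) = 2 := Nat.gcd_eq_left ⟨k, by omega⟩
  have e2 : (Fintype.card F - 1) / 2 = k := by omega
  have e3 : (Fintype.card F + 1) / 2 = k + 1 := by omega
  rw [e1] at hs' hc
  rw [e2, e3] at hs'
  have hc' : Nat.card (Matrix.ProjectiveSpecialLinearGroup (Fin 2) F) = Fintype.card F * (k + 1) * (2 * k) :=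
    Nat.eq_of_mul_eq_mul_left two_pos (by rw [hc, hk, Nat.add_sub_cancel]; ring)
  rcases Nat.even_or_odd k with he | ho
  · exact SpecL2.odd_case rfl hp hq hF h2 (m := k) (τ := k + 1) (by omega) he.add_one (Or.inl rfl) (hn.trans hc') hc' hs'
  · have hc'' : Nat.card (Matrix.ProjectiveSpecialLinearGroup (Fin 2) F) = Fintype.card F * k * (2 * (k + 1)) := by
      rw [hc']; ring
    exact SpecL2.odd_case rfl hp hq hF h2 (m := k + 1) (τ := k) (by omega) ho (Or.inr rfl) (hn.trans hc'') hc''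
      fun d => (hs' d).trans (or_congr_right or_comm)

end Cfsg.Agent.S3421
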