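import Cfsg.Statements.S3427
import Cfsg.Agent.Lib.Coprime.U33b
import Cfsg.Agent.Lib.Coprime.DegG
import Cfsg.Agent.Lib.Coprime.Small6
import Cfsg.Agent.Lib.Exc.CIT7
import Cfsg.Agent.S1011
import Cfsg.Agent.S0815
import Cfsg.Agent.S2366
import Cfsg.Agent.S1057

set_option autoImplicit false
open Cfsg

namespace Cfsg.Agent.S3427

open Subgroup Cfsg.Lib Cfsg.Lib.Coprime Cfsg.Lib.Transfer Cfsg.Lib.Small Cfsg.Lib.Core Cfsg.Lib.Comp Cfsg.Lib.MatB Cfsg.Lie
  Cfsg.Lib.Comp.U33x Cfsg.Lib.Invol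

set_option maxRecDepth 100000

theorem no_ord {G H : Type*} [Group G] [Group H] [Finite G] (f : G →* H) (hf : Function.Surjective f) {n : ℕ}
    (h : ∀ g : G, orderOf g ≠ n) (x : H) : orderOf x ≠ n := fun e => by
  obtain ⟨g, rfl⟩ := hf x
  exact h _ (orderOf_pow_orderOf_div (orderOf_pos g).ne' (e ▸ orderOf_map_dvd f g))

theorem not_dvd_cent {G : Type*} [Group G] [Finite G] {r : ℕ} (hr : r.Prime) (h7 : r ≠ 7) (h : ∀ g : G, orderOf g ≠ r * 7)
    {x : G} (hx : orderOf x = 7) : ¬ r ∣ Nat.card (centralizer (zpowers x : Set G)) := fun hd => by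
  have := Fact.mk hr
  obtain ⟨u, hu⟩ := exists_prime_orderOf_dvd_card' r hd
  rw [← orderOf_coe] at hu
  refine h (u * x) ?_
  rw [(show Commute (u : G) x from (u.2 x (mem_zpowers x)).symm).orderOf_mul_eq_mul_orderOf_of_coprime
    (by rw [hu, hx]; exact (Nat.coprime_primes hr (by norm_num)).2 h7), hu, hx]

theorem not_dvd_normal {G : Type*} [Group G] [Finite G] {r : ℕ} (hr : r.Prime) (h : ∀ g : G, orderOf g ≠ r * 7)
    (hG : 7 ∣ Nat.card G) (N : Subgroup G) [N.Normal] (hN : ¬ 7 ∣ Nat.card N)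
    (hi : ∀ i, 1 ≤ i → r ^ i ∣ Nat.card N → ¬ 7 ∣ r ^ i - 1) : ¬ r ∣ Nat.card N := fun hd => by
  have := Fact.mk (by norm_num : Nat.Prime 7)
  obtain ⟨x, hx⟩ := exists_prime_orderOf_dvd_card' 7 hG
  rw [← Core.card_mul_relIndex (inf_le_right (a := centralizer (zpowers x : Set G))), inf_relIndex_right] at hd
  rcases hr.dvd_mul.1 hd with e | e
  · exact not_dvd_cent hr (by rintro rfl; exact hN (e.trans (card_dvd_of_le inf_le_right))) h hx
      (e.trans (card_dvd_of_le inf_le_left))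
  · exact DegG.not_dvd_relIndex (by norm_num) hr hN hx (by rw [normalizer_eq_top]; trivial) hi e

theorem syl7 {G : Type*} [Group G] [Finite G] (hG : ¬ 7 ^ 2 ∣ Nat.card G) {x : G} (hx : orderOf x = 7) {M : Subgroup G}
    (hM : x ∈ M) : SylowIn 7 (zpowers x) M :=
  sylowIn_iff.2 ⟨zpowers_le.2 hM, .of_card (n := 1) (by rw [Nat.card_zpowers, hx]; rfl), fun h => hG (by
    refine Dvd.dvd.trans ?_ (card_subgroup_dvd_card M)
    rw [← Core.card_mul_relIndex (zpowers_le.2 hM), Nat.card_zpowers, hx, sq]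
    exact mul_dvd_mul_left _ h)⟩

theorem k12096 : kill 120 12096 = true := by decide +kernel

theorem recog {G : Type*} [Group G] [Finite G] (hG : Nat.card G = 12096) (h14 : ∀ g : G, orderOf g ≠ 2 * 7)
    (h21 : ∀ g : G, orderOf g ≠ 3 * 7) (h9 : ∀ g : G, orderOf g ≠ 9) : Nonempty (G ≃* MulAut (cl (gp nets) L)) := by
  have hp : Nat.Prime 7 := by norm_num
  have := Fact.mk hp
  have hN := not_dvd_card_pPrimeCore (G := G) hp
  have hq := card_eq_card_quotient_mul_card_subgroup (pPrimeCore 7 G)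
  have hd := card_quotient_dvd_card (pPrimeCore 7 G)
  have hO := pPrimeCore_quotient_pPrimeCore (p := 7) (G := G)
  have h3 := not_dvd_normal Nat.prime_three h21 (by rw [hG]; norm_num) _ hN fun i e1 e2 => by
    have := (Nat.pow_dvd_pow_iff_le_right (by norm_num)).1 ((Nat.Coprime.pow_left i (by norm_num : Nat.Coprime 3 448)).dvd_of_dvd_mul_right
      (show _ ∣ 3 ^ 3 * 448 from (e2.trans (card_subgroup_dvd_card _)).trans hG.dvd))
    interval_cases i <;> norm_num
  have h2 : Nat.card (pPrimeCore 7 G) ≠ 2 := fun e => not_dvd_normal Nat.prime_two h14 (by rw [hG]; norm_num) _ hN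
    (fun i e1 e2 => by
      have := (Nat.pow_dvd_pow_iff_le_right (by norm_num)).1 (show 2 ^ i ∣ 2 ^ 1 from e2.trans e.dvd)
      interval_cases i; norm_num) e.symm.dvd
  set N := pPrimeCore 7 G
  rw [hG] at hq hd
  have q14 := no_ord _ (QuotientGroup.mk'_surjective N) h14
  have q21 := no_ord _ (QuotientGroup.mk'_surjective N) h21
  have q9 := no_ord _ (QuotientGroup.mk'_surjective N) h9
  have h49 : ¬ 7 ^ 2 ∣ Nat.card (G ⧸ N) := fun h => absurd (h.trans hd) (by norm_num)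
  obtain ⟨M, hM, hs, h7⟩ := DegG.exists_simple hp ((hp.dvd_mul.1 (by rw [← hq]; norm_num)).resolve_right hN) h49 hO
  have h4 : 9 ∣ Nat.card M := by
    obtain ⟨x, hx⟩ := exists_prime_orderOf_dvd_card' 7 h7
    rw [← orderOf_coe] at hx
    have e1 := (syl7 h49 hx x.2).frattini_sup le_top (by rw [normalizer_eq_top])
    have e2 := card_sup_mul_card_inf' (H := M) (K := normalizer (zpowers x.1 : Set (G ⧸ N))) (by
      rw [normalizer_eq_top M]; exact le_top)
    rw [top_inf_eq] at e1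
    rw [e1, card_top, ← Core.card_mul_relIndex (centralizer_le_normalizer _)] at e2
    have e3 := relIndex_centralizer_dvd_of_card_prime (p := 7) (H := zpowers x.1) (by rw [Nat.card_zpowers, hx])
    have e4 : 3 ^ 3 ∣ Nat.card (G ⧸ N) := (Nat.Coprime.pow_left 3 ((Nat.Prime.coprime_iff_not_dvd Nat.prime_three).2
      h3)).dvd_of_dvd_mul_right (by rw [← hq]; norm_num)
    have e5 := (e4.mul_right _).trans (e2.dvd.trans (mul_dvd_mul_left _ (mul_dvd_mul_left _ e3)))
    rw [mul_left_comm] at e5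
    have := (Nat.Coprime.pow_left 3 ((Nat.Prime.coprime_iff_not_dvd Nat.prime_three).2
      (not_dvd_cent Nat.prime_three (by norm_num) q21 hx))).dvd_of_dvd_mul_left e5
    omega
  have hc : ¬ IsMulCommutative M := not_isMulCommutative_of_not_prime fun h => by
    have := (Nat.prime_dvd_prime_iff_eq hp h).1 h7
    omega
  have h5 := (card_subgroup_dvd_card M).trans hd
  have h6 : Nat.card M = 6048 := by
    have e1 : Nat.card M ≠ 12096 := fun e => not_kill hc 120 (e ▸ k12096)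
    have e2 : Nat.card M ≠ 504 := fun e => by
      let : Fintype (GaloisField 2 3) := Fintype.ofFinite _
      have hF : Nat.card (GaloisField 2 3) = 8 := by rw [GaloisField.card 2 3 (by norm_num)]; norm_num
      obtain ⟨f⟩ := Cfsg.Agent.S1011.result e (F := GaloisField 2 3) (by rw [← Nat.card_eq_fintype_card, hF])
      obtain ⟨y, hy⟩ := (Exc.psl2_orders (GaloisField 2 3)).2
      rw [hF] at hy
      exact q9 (f.symm y) (by rw [orderOf_coe, MulEquiv.orderOf_eq]; simpa using hy)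
    by_cases e : Nat.card M < 6000
    · exact absurd ((by decide : ∀ n ∈ [60, 168, 360, 504, 660, 1092, 2448, 2520, 3420, 4080, 5616], 9 ∣ n → 7 ∣ n →
        n ∣ 12096 → n = 504) _ (Small6.card_cases hc e) h4 h7 h5) e2
    · obtain ⟨k, hk⟩ := h5
      rcases k with _ | _ | _ | k
      · omega
      · omega
      · omega
      · nlinarith
  obtain ⟨K, _, _, hK, ⟨e⟩⟩ := U33.Hyp.iso (G := M) ⟨h6, fun g => by rw [← orderOf_coe]; exact q14 _,
    fun g => by rw [← orderOf_coe]; exact q21 _, fun g => by rw [← orderOf_coe]; exact q9 _⟩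
  obtain ⟨e'⟩ := U33x.iso hK
  have := Fact.mk Nat.prime_three
  have h8 := Cfsg.Agent.S0815.result 3 1 le_rfl rfl hK 3 le_rfl (by norm_num)
  rw [← Nat.card_congr e.toEquiv, ← Nat.card_congr (MulAut.congr e).toEquiv, h6] at h8
  have h1 : Function.Injective (MulAut.conjNormal : G ⧸ N →* MulAut M) := by
    rw [← MonoidHom.ker_eq_bot_iff, eq_bot_iff, ← hO]
    refine le_pPrimeCore ((Nat.Prime.coprime_iff_not_dvd hp).2 fun h => h49 ?_).symm
    have h2 := card_subgroup_dvd_card (M ⊔ (MulAut.conjNormal : G ⧸ N →* MulAut M).ker)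
    rw [card_sup_of_disjoint' (by rw [normalizer_eq_top]; exact le_top) (eq_bot_iff.2 fun x hx => by
      have h3 : (⟨x, hx.1⟩ : M) ∈ center M := mem_center_iff.2 fun g => Subtype.ext (by
        have := congrArg Subtype.val (DFunLike.congr_fun (MonoidHom.mem_ker.1 hx.2) g)
        exact (mul_inv_eq_iff_eq_mul.1 this).symm)
      rw [center_eq_bot_of_simple hc] at h3
      exact congrArg Subtype.val (mem_bot.1 h3))] at h2
    exact (sq 7 ▸ mul_dvd_mul h7 h).trans h2
  have h10 : Nat.card N = 1 := by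
    obtain ⟨k, hk⟩ := card_subgroup_dvd_card M
    rw [hk, h6, mul_assoc] at hq
    have := Nat.le_of_dvd two_pos (Dvd.intro_left k (show k * Nat.card N = 2 by omega))
    have : 0 < Nat.card N := Nat.card_pos
    omega
  have : Finite (MulAut M) := Nat.finite_of_card_ne_zero (by rw [h8]; norm_num)
  exact ⟨(MulEquiv.ofBijective (MulAut.conjNormal.comp (QuotientGroup.mk' N)) ((Nat.bijective_iff_injective_and_card _).2
    ⟨h1.comp ((QuotientGroup.mk' N).ker_eq_bot_iff.1 (by rw [QuotientGroup.ker_mk', ← card_eq_one, h10])),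
      by rw [hG, h8]; norm_num⟩)).trans (MulAut.congr (e.trans e'.symm))⟩

def w7 : List ℕ := [10, 8, 9, 8, 11, 10, 11, 8, 9, 8]

theorem ex_ev {ι C F H : Type*} [Fintype ι] [DecidableEq ι] [CommRing C] [CommRing F] [Monoid H] (φ : C →+* F)
    (ρ : H →* Matrix ι ι F) {M : ℕ → Matrix ι ι C} {B : List ℕ} (hM : ∀ x ∈ B, ∃ a, ρ a = (M x).map φ) :
    ∃ γ : ℕ → H, ∀ u : List ℕ, (∀ x ∈ u, x ∈ B) → ρ (ev γ u) = (ev M u).map φ := by
  classical
  choose! γ hγ using hM
  refine ⟨γ, fun u hu => ?_⟩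
  rw [ev_map γ, show (ev M u).map φ = _ from ev_map M φ.mapMatrix.toMonoidHom u]
  exact ev_congr _ fun x hx => hγ x (hu x hx)

theorem ev_ne : ev MatG.mM w7 ≠ 1 := fun e => by
  have h2 := MatG.mctx.act MatG.mok w7 (v := 1) fun j => by
    rw [look_div]; exact ((Nat.mod_le _ _).trans (Nat.div_le_self _ _)).trans one_le_two
  rw [e, Matrix.vecMul_one] at h2
  have h3 := congrFun h2
  simp only [MatG.mctx.vval_bs] at h3
  exact absurd h3 (by decide +kernel)

theorem real7 {F : Type*} [Field F] [Fintype F] (hF : Fintype.card F = 2) :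
    ∃ a x : chevG2.group F, orderOf x = 7 ∧ a * x * a⁻¹ = x⁻¹ := by
  obtain ⟨φ⟩ := hom2 hF
  obtain ⟨γ, key⟩ := ex_ev φ _ (MatG.mroot.mem φ (MatG.mctx.gl MatG.mok MatG.minv φ))
  have eq : ∀ u v : List ℕ, (∀ x ∈ u ++ v, x ∈ MatG.mB.map (·.1)) → weqB 6 14 MatG.mrd MatG.mtab u v = true → ev γ u = ev γ v :=
    fun u v h e => gl_inj _ ((key u fun x hx => h x (List.mem_append_left _ hx)).trans
      ((congrArg (Matrix.map · φ) (MatG.mctx.weq MatG.mok e)).trans (key v fun x hx => h x (List.mem_append_right _ hx)).symm))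
  have := Fact.mk (by norm_num : Nat.Prime 7)
  refine ⟨γ 10, ev γ w7, orderOf_eq_prime ?_ fun e => ?_, ?_⟩
  · exact (ev_pw γ w7 6).symm.trans (eq _ [] (by decide +kernel) (by decide +kernel))
  · have h1 := key w7 (by decide +kernel)
    rw [e, map_one, ← Matrix.map_one φ (map_zero φ) (map_one φ)] at h1
    exact ev_ne (Matrix.map_injective φ.injective h1).symm
  · have := eq (w7 ++ [10] ++ w7) [10] (by decide +kernel) (by decide +kernel)
    rw [ev_append, ev_append, ev_single] at this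
    rw [mul_inv_eq_iff_eq_mul, eq_inv_mul_iff_mul_eq, ← mul_assoc, this]

theorem no_orders {M : Type*} [Group M] [Finite M] (e : cl (gp nets) L ≃* commutator M) (hc : Nat.card M = 12096)
    (hr : ∃ a x : M, orderOf x = 7 ∧ a * x * a⁻¹ = x⁻¹) :
    (∀ g : M, orderOf g ≠ 2 * 7) ∧ (∀ g : M, orderOf g ≠ 3 * 7) ∧ ∀ g : M, orderOf g ≠ 9 := by
  have := Fact.mk Nat.prime_three
  have := Fact.mk (by norm_num : Nat.Prime 7)
  have := U33x.simple
  have := e.symm.isSimpleGroup
  have hS : Nat.card (commutator M) = 6048 := by rw [← Nat.card_congr e.toEquiv, U33x.card]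
  have hi : (commutator M).index = 2 := by have := (commutator M).card_mul_index; rw [hS, hc] at this; omega
  have h1 : ∀ n, ¬ n ∣ 12 → ¬ n ∣ 8 → ¬ n ∣ 7 → ∀ g : commutator M, orderOf g ≠ n := fun n e1 e2 e3 g e4 => by
    let : Fintype (GaloisField 3 2) := Fintype.ofFinite _
    have hF : Fintype.card (GaloisField 3 2) = 9 := by
      rw [← Nat.card_eq_fintype_card, GaloisField.card 3 2 (by norm_num)]; norm_num
    obtain ⟨e'⟩ := U33x.iso hF
    have h2 := (Cfsg.Agent.S2366.result 3 (by norm_num) 3 hF).le ⟨e' (e.symm g), rfl⟩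
    rw [MulEquiv.orderOf_eq, MulEquiv.orderOf_eq, e4] at h2
    rcases h2 with ((h2 | h2) | h2) | h2
    exacts [e1 (Dvd.dvd.trans h2 (by norm_num)), e1 h2, e2 h2, e3 h2]
  have h2 : ∀ g : M, Odd (orderOf g) → g ∈ commutator M := fun g hg => by
    obtain ⟨k, hk⟩ := hg
    have := pow_mem (sq_mem_of_index_two hi g) (k + 1)
    rwa [← pow_mul, show 2 * (k + 1) = 2 * k + 1 + 1 by ring, pow_succ, ← hk, pow_orderOf_eq_one, one_mul] at this
  have h3 : ∀ n, Odd n → ¬ n ∣ 12 → ¬ n ∣ 8 → ¬ n ∣ 7 → ∀ g : M, orderOf g ≠ n := fun n e0 e1 e2 e3 g e4 =>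
    h1 n e1 e2 e3 ⟨g, h2 g (e4 ▸ e0)⟩ (by rwa [← orderOf_coe])
  refine ⟨fun g hg => ?_, h3 _ (by decide) (by decide) (by decide) (by decide),
    h3 _ (by decide) (by decide) (by decide) (by decide)⟩
  obtain ⟨a, b, θ, y, h⟩ := U33.Hyp.exists_tab (G := commutator M) ⟨hS, h1 _ (by decide) (by decide) (by decide),
    h1 _ (by decide) (by decide) (by decide), h1 _ (by decide) (by decide) (by decide)⟩
  have h4 : ∀ x : M, orderOf x = 7 → ∃ c : M, ∃ k : ℤ, (y : M) = c * x ^ k * c⁻¹ := fun x hx => by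
    have h49 : ¬ 7 ^ 2 ∣ Nat.card M := by rw [hc]; norm_num
    obtain ⟨c, -, h5⟩ := (syl7 h49 hx (mem_top _)).exists_cj_eq (syl7 h49 ((orderOf_coe y).trans h.y7) (mem_top _))
    obtain ⟨k, hk⟩ := mem_zpowers_iff.1 (mem_cj.1 (h5.ge (mem_zpowers _)))
    exact ⟨c, k, by rw [hk]; group⟩
  have nr : ∀ u ∈ commutator M, u * y * u⁻¹ ≠ (y : M)⁻¹ := fun u hu e => h.nr ⟨u, hu⟩ (Subtype.ext e)
  obtain ⟨u, x, hx, hu⟩ := hr
  obtain ⟨c, k, e1⟩ := h4 x hx
  obtain ⟨d, l, e2⟩ := h4 (g ^ 2) (by rw [orderOf_pow_of_dvd (by norm_num) (by rw [hg]; norm_num), hg])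
  have e3 : c * u * c⁻¹ * y * (c * u * c⁻¹)⁻¹ = (y : M)⁻¹ := by
    rw [e1, show c * u * c⁻¹ * (c * x ^ k * c⁻¹) * (c * u * c⁻¹)⁻¹ = c * (u * x ^ k * u⁻¹) * c⁻¹ by group, ← conj_zpow, hu]
    group
  have e4 : d * g * d⁻¹ * y * (d * g * d⁻¹)⁻¹ = y := by rw [e2]; group
  refine nr (c * u * c⁻¹ * (d * g * d⁻¹)) ((mul_mem_iff_of_index_two hi).2 (iff_of_false (fun e => nr _ e e3) fun e =>
    h1 (2 * 7) (by decide) (by decide) (by decide) ⟨_, e⟩ ?_)) ?_
  · rw [← orderOf_coe, ← hg]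
    exact Exc.orderOf_isConj (isConj_iff.2 ⟨d, rfl⟩)
  · rw [mul_inv_rev, ← e3]
    conv_rhs => rw [← e4]
    simp only [mul_assoc]

/-- Let F be the field with 2 elements and let M be the Chevalley group of type G₂ over F (a non-simple group of order 12096 whose derived subgroup, of index 2, is isomorphic to PSU(3, 3)). A finite group G is isomorphic to M if and only if G has the same set of element orders and the same order as M. -/
theorem result {G : Type*} [Group G] [Finite G] {F : Type*} [Field F] [Fintype F] (hF : Fintype.card F = 2) :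
    Nonempty (G ≃* ↥(Cfsg.Lie.chevG2.group F)) ↔
      (Set.range (orderOf : G → ℕ) = Set.range (orderOf : ↥(Cfsg.Lie.chevG2.group F) → ℕ) ∧ Nat.card G = Nat.card ↥(Cfsg.Lie.chevG2.group F)) := by
  refine ⟨fun ⟨e⟩ => ⟨Set.ext fun n => ⟨fun ⟨g, h⟩ => ⟨e g, (e.orderOf_eq g).trans h⟩, fun ⟨g, h⟩ =>
    ⟨e.symm g, (e.symm.orderOf_eq g).trans h⟩⟩, Nat.card_congr e.toEquiv⟩, fun ⟨h1, h2⟩ => ?_⟩
  have hc : Nat.card (chevG2.group F) = 12096 := by rw [Cfsg.Agent.S1059.result hF]; norm_num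
  have : Finite (chevG2.group F) := Nat.finite_of_card_ne_zero (by rw [hc]; norm_num)
  obtain ⟨e⟩ := MatG.iso hF
  obtain ⟨o14, o21, o9⟩ := no_orders e hc (real7 hF)
  have h3 : ∀ n, (∀ g : chevG2.group F, orderOf g ≠ n) → ∀ g : G, orderOf g ≠ n := fun n h g e =>
    (h1.le ⟨g, e⟩).elim h
  obtain ⟨e1⟩ := recog (h2.trans hc) (h3 _ o14) (h3 _ o21) (h3 _ o9)
  obtain ⟨e2⟩ := recog hc o14 o21 o9
  exact ⟨e1.trans e2.symm⟩

end Cfsg.Agent.S3427
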