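import Cfsg.Statements.S3430
import Cfsg.Agent.Lib.Small.Zsigmondy

set_option autoImplicit false
open Cfsg

namespace Cfsg.Agent.S3430

open Cfsg.Lib.Small

theorem le_totient_sq_odd (n : ℕ) : Odd n → n ≤ n.totient ^ 2 := by
  induction n using Nat.recOnPosPrimePosCoprime with
  | prime_pow p k hp hk =>
    intro ho
    have hp2 : p ≠ 2 := by
      rintro rfl
      exact (Nat.not_odd_iff_even.2 ((Nat.even_pow' hk.ne').2 even_two)) ho
    have hp3 : 3 ≤ p := by have := hp.two_le; omega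
    rw [Nat.totient_prime_pow hp hk]
    obtain ⟨j, rfl⟩ : ∃ j, k = j + 1 := ⟨k - 1, by omega⟩
    obtain ⟨s, rfl⟩ : ∃ s, p = s + 1 := ⟨p - 1, by omega⟩
    simp only [Nat.add_sub_cancel]
    have h1 : 1 ≤ (s + 1) ^ j := Nat.one_le_pow _ _ (by omega)
    have h2 : s + 1 ≤ s ^ 2 := by nlinarith
    rw [pow_succ, mul_pow]
    exact Nat.mul_le_mul (by nlinarith) h2
  | zero => intro h; simp at h
  | one => simp
  | coprime a b ha hb hab iha ihb =>
    intro ho
    rw [Nat.odd_mul] at ho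
    rw [Nat.totient_mul hab, mul_pow]
    exact Nat.mul_le_mul (iha ho.1) (ihb ho.2)

theorem le_two_mul_totient_sq (n : ℕ) : n ≤ 2 * n.totient ^ 2 := by
  rcases Nat.eq_zero_or_pos n with rfl | hn
  · simp
  obtain ⟨k, m, hm, rfl⟩ := Nat.exists_eq_pow_mul_and_not_dvd hn.ne' 2 (by norm_num)
  have hodd : Odd m := Nat.odd_iff.2 (by omega)
  have h1 := le_totient_sq_odd m hodd
  have hc : Nat.Coprime (2 ^ k) m := Nat.Coprime.pow_left _ ((Nat.coprime_two_left).2 hodd)
  rw [Nat.totient_mul hc, mul_pow, ← mul_assoc]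
  refine Nat.mul_le_mul ?_ h1
  rcases k with _ | k
  · simp
  · rw [Nat.totient_prime_pow Nat.prime_two (by omega)]
    have : 1 ≤ 2 ^ k := Nat.one_le_two_pow
    simp only [Nat.add_sub_cancel, pow_succ]
    nlinarith

theorem pow_totient_le_sq {q n : ℕ} (hq : 1 < q) (hn : 3 ≤ n) :
    q ^ n.totient ≤ cycVal n q ^ 2 := by
  by_cases h : ∃ r, r.Prime ∧ r ≠ 2 ∧ r ∣ n
  · obtain ⟨r, hr, hr2, hd⟩ := h
    obtain ⟨k, m, hm, e⟩ := Nat.exists_eq_pow_mul_and_not_dvd (show n ≠ 0 by omega) r hr.ne_one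
    rcases k with _ | k
    · rw [e] at hd; simp at hd; exact absurd hd hm
    have h1 := pow_le_cycVal k hq hr hm
    rw [← e] at h1
    refine le_trans ?_ (Nat.pow_le_pow_left h1 2)
    rw [← pow_mul]
    apply Nat.pow_le_pow_right hq.le
    have hc : Nat.Coprime (r ^ (k + 1)) m := Nat.Coprime.pow_left _ ((Nat.Prime.coprime_iff_not_dvd hr).2 hm)
    rw [e, Nat.totient_mul hc, Nat.totient_prime_pow hr (by omega), Nat.add_sub_cancel]
    have hr3 : 3 ≤ r := by have := hr.two_le; omega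
    calc r ^ k * (r - 1) * m.totient ≤ r ^ k * ((r - 2) * 2) * m.totient := by
          gcongr; omega
      _ = _ := by ring
  · push Not at h
    have hn2 : n = 2 ^ n.primeFactorsList.length :=
      Nat.eq_prime_pow_of_unique_prime_dvd (by omega) (fun {d} hd hdv => by
        by_contra hne; exact h d hd hne hdv)
    generalize n.primeFactorsList.length = k at hn2
    rcases k with _ | k
    · omega
    have h1 := pow_sub_one_pow_le_cycVal_mul (r := 2) (m := 1) k hq Nat.prime_two (by norm_num)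
    subst hn2
    rw [Nat.totient_prime_pow Nat.prime_two (by omega)]
    simp only [Nat.totient_one, pow_one, mul_one, Nat.add_sub_cancel] at h1 ⊢
    have hb : 4 ≤ q ^ 2 ^ k := by
      have : 2 ≤ 2 ^ k := by
        rcases k with _ | k
        · omega
        · rw [pow_succ]; have := Nat.one_le_two_pow (n := k); omega
      exact (Nat.pow_le_pow_left hq 2).trans (Nat.pow_le_pow_right (by omega) this)
    simp only [show 2 - 1 = 1 from rfl, mul_one]
    generalize q ^ 2 ^ k = b at *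
    generalize cycVal (2 ^ (k + 1)) q = c at *
    have h2 : (b - 1) * (b + 1) ≤ c * (b + 1) := by
      obtain ⟨b', rfl⟩ : ∃ b', b = b' + 1 := ⟨b - 1, by omega⟩
      have : (b' + 1) ^ 2 - 1 = (b' + 1 - 1) * (b' + 1 + 1) := by
        simp only [Nat.add_sub_cancel]; rw [Nat.sub_eq_iff_eq_add (by nlinarith)]; ring
      omega
    have h3 := Nat.le_of_mul_le_mul_right h2 (by omega)
    obtain ⟨b', rfl⟩ : ∃ b', b = b' + 1 := ⟨b - 1, by omega⟩
    simp only [Nat.add_sub_cancel] at h3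
    nlinarith

theorem big (f : ℕ) (hf : 50 ≤ f) : (2 * f ^ 2 * (2 * f ^ 2 + 1)) ^ 2 < 2 ^ f := by
  have key : ∀ f : ℕ, 50 ≤ f → 25 * f ^ 8 < 2 ^ f := by
    intro f hf
    induction f, hf using Nat.le_induction with
    | base => norm_num
    | succ f hf ih =>
      have h1 : 50 * (f + 1) ≤ 51 * f := by omega
      have h2 := Nat.pow_le_pow_left h1 8
      rw [mul_pow, mul_pow] at h2
      rw [pow_succ 2]
      norm_num at h2
      omega
  refine lt_of_le_of_lt ?_ (key f hf)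
  have h1 : 2500 ≤ f ^ 2 := by nlinarith
  have h2 : 2 * f ^ 2 * (2 * f ^ 2 + 1) ≤ 5 * f ^ 4 := by
    have : f ^ 4 = f ^ 2 * f ^ 2 := by ring
    rw [this]; nlinarith
  calc _ ≤ (5 * f ^ 4) ^ 2 := Nat.pow_le_pow_left h2 2
    _ = _ := by ring

/-- product of `q ^ i - 1`, `1 ≤ i ≤ k`, modulo `M` -/
def prodMod (q M : ℕ) : ℕ → ℕ
  | 0 => 1
  | k + 1 => (prodMod q M k * (q ^ (k + 1) - 1)) % M

/-- number of `a < k` coprime to `n` -/
def cnt (n k : ℕ) : ℕ := Nat.rec 0 (fun k c => Nat.add c (Nat.div 1 (Nat.gcd n k))) k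

theorem cnt_eq (n k : ℕ) : cnt n k = ((Finset.range k).filter (n.Coprime ·)).card := by
  induction k with
  | zero => rfl
  | succ k ih =>
    have : cnt n (k + 1) = cnt n k + 1 / Nat.gcd n k := rfl
    rw [this, Finset.range_add_one, Finset.filter_insert, ih]
    split_ifs with h
    · rw [Finset.card_insert_of_notMem (by simp), h]
    · rcases Nat.lt_or_ge 1 (Nat.gcd n k) with h1 | h1
      · rw [Nat.div_eq_of_lt h1]; rfl
      · have : Nat.gcd n k = 0 := by unfold Nat.Coprime at h; omega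
        rw [this]; rfl

theorem cnt_le (n k : ℕ) (hk : k ≤ n) : cnt n k ≤ n.totient := by
  rw [cnt_eq, Nat.totient]
  exact Finset.card_le_card (Finset.filter_subset_filter _ (Finset.range_subset_range.2 hk))

theorem prime_dvd_prodMod {q M r : ℕ} (hM : r ∣ M) (k i : ℕ) (hi : 1 ≤ i) (hik : i ≤ k)
    (h : r ∣ q ^ i - 1) : r ∣ prodMod q M k := by
  induction k with
  | zero => omega
  | succ k ih =>
    rw [prodMod, Nat.dvd_mod_iff hM]
    rcases Nat.lt_or_ge i (k + 1) with h1 | h1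
    · exact (ih (by omega)).mul_right _
    · obtain rfl : i = k + 1 := by omega
      exact h.mul_left _

def exc (q n : ℕ) : Bool :=
  (q == 2 && (n == 4 || n == 6 || n == 10 || n == 12 || n == 18)) ||
  (q == 3 && (n == 4 || n == 6)) || (q == 5 && n == 6)

def okq (n f q : ℕ) : Bool :=
  q < 2 || (n * (n + 1)) ^ 2 < q ^ f || exc q n ||
    ((n + 1) * prodMod q (q ^ n - 1) (n - 1) ^ (q * n)) % (q ^ n - 1) != 0

def okn (n : ℕ) : Bool :=
  n < 3 || (n * (n + 1)) ^ 2 < 2 ^ cnt n (min n 250) ||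
    ((n * (n + 1)) ^ 2 < 45 ^ cnt n (min n 250) &&
      (List.range 45).all (okq n (cnt n (min n 250))))

theorem check : (List.range 4803).all okn = true := by decide +kernel

/-- Let q, n ≥ 2 be integers. Unless (n = 2 and q + 1 = 2^s·3^t for some s ≥ 0 and t ≤ 1), or (q = 2 and n ∈ {4, 6, 10, 12, 18}), or (q = 3 and n ∈ {4, 6}), or (q, n) = (5, 6), there is a prime p dividing q^n − 1 but no q^i − 1 with 1 ≤ i < n (a primitive prime divisor), such that p > n + 1 or p² divides q^n − 1. -/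
theorem result (q n : ℕ) (hq : 2 ≤ q) (hn : 2 ≤ n)
    (h1 : ¬ (n = 2 ∧ ∃ s t : ℕ, t ≤ 1 ∧ q + 1 = 2 ^ s * 3 ^ t))
    (h2 : ¬ (q = 2 ∧ (n = 4 ∨ n = 6 ∨ n = 10 ∨ n = 12 ∨ n = 18)))
    (h3 : ¬ (q = 3 ∧ (n = 4 ∨ n = 6))) (h4 : ¬ (q = 5 ∧ n = 6)) :
    ∃ p : ℕ, p.Prime ∧ p ∣ q ^ n - 1 ∧ (∀ i : ℕ, 1 ≤ i → i < n → ¬ p ∣ q ^ i - 1) ∧ (n + 1 < p ∨ p ^ 2 ∣ q ^ n - 1) := by
  by_contra hno
  push Not at hno
  have hn0 : 0 < n := by omega
  have hq1 : 1 ≤ q := by omega
  have key : ∀ s v : ℕ, IsPPD s q n → s ^ v ∣ q ^ n - 1 → s ^ v ∣ n + 1 := by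
    intro s v hs hv
    obtain ⟨a1, a2⟩ := hno s hs.1 hs.2.1 (fun i hi => hs.2.2 i hi)
    have := hs.lt hq1 hn0
    obtain rfl : s = n + 1 := by omega
    rcases v with _ | _ | v
    · simp
    · simp
    · exact absurd ((pow_dvd_pow _ (by omega)).trans hv) a2
  by_cases hn2 : n = 2
  · subst hn2
    apply h1
    refine ⟨rfl, ?_⟩
    obtain ⟨s, m, hm, e⟩ := Nat.exists_eq_pow_mul_and_not_dvd (show q + 1 ≠ 0 by omega) 2 (by norm_num)
    have hm3 : m ∣ 3 := by
      rw [Nat.dvd_iff_prime_pow_dvd_dvd]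
      intro r v hr hv
      rcases v with _ | v
      · simp
      have hmq : m ∣ cycVal 2 q := by rw [cycVal_two, e]; exact Dvd.intro_left _ rfl
      have hrm : r ∣ m := (dvd_pow_self r (by omega)).trans hv
      rcases isPPD_or_of_dvd_cycVal hq1 hn0 hr (hrm.trans hmq) with h | ⟨k, m', e1, -, -⟩
      · exact key r _ h (hv.trans (hmq.trans (cycVal_dvd hq1)))
      · have : r ∣ 2 := e1 ▸ Dvd.dvd.mul_right (dvd_pow_self r (by omega)) m'
        obtain rfl := (Nat.prime_dvd_prime_iff_eq hr Nat.prime_two).1 this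
        exact absurd hrm hm
    rcases (Nat.dvd_prime Nat.prime_three).1 hm3 with rfl | rfl
    · exact ⟨s, 0, by omega, by simpa using e⟩
    · exact ⟨s, 1, by omega, by simpa using e⟩
  have hn3 : 3 ≤ n := by omega
  have hle : cycVal n q ≤ n * (n + 1) := by
    rcases cycVal_dvd_of_isPPD (c := n + 1) hq hn0 hn2
      (fun s v hs hv => key s v hs (hv.trans (cycVal_dvd hq1))) with h | ⟨r, hr, hd, hnp, hdv⟩
    · have := Nat.le_of_dvd (by omega) h
      nlinarith
    · obtain ⟨k, m, e1, -, -⟩ := (isPPD_or_of_dvd_cycVal hq1 hn0 hr hd).resolve_left hnp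
      have : r ∣ n := e1 ▸ Dvd.dvd.mul_right (dvd_pow_self r (by omega)) m
      have h5 := Nat.le_of_dvd hn0 this
      exact (Nat.le_of_dvd (Nat.mul_pos hr.pos (by omega)) hdv).trans (Nat.mul_le_mul_right _ h5)
  have hA : q ^ n.totient ≤ (n * (n + 1)) ^ 2 :=
    (pow_totient_le_sq hq hn3).trans (Nat.pow_le_pow_left hle 2)
  have hB := le_two_mul_totient_sq n
  have hφ : n.totient < 50 := by
    by_contra hc
    have h5 := big n.totient (by omega)
    have h6 : 2 ^ n.totient ≤ q ^ n.totient := Nat.pow_le_pow_left hq _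
    have h7 : (n * (n + 1)) ^ 2 ≤ (2 * n.totient ^ 2 * (2 * n.totient ^ 2 + 1)) ^ 2 := by gcongr
    omega
  have hn' : n < 4803 := by nlinarith
  have hc := List.all_eq_true.1 check n (List.mem_range.2 hn')
  have hcl := cnt_le n (min n 250) (min_le_left _ _)
  unfold okn at hc
  generalize cnt n (min n 250) = f at hc hcl
  have hA' : q ^ f ≤ (n * (n + 1)) ^ 2 := (Nat.pow_le_pow_right hq1 hcl).trans hA
  simp only [Bool.or_eq_true, Bool.and_eq_true, decide_eq_true_eq, List.all_eq_true,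
    List.mem_range] at hc
  rcases hc with (hc | hc) | ⟨hc1, hc2⟩
  · omega
  · have := Nat.pow_le_pow_left hq f
    omega
  have hq45 : q < 45 := by
    by_contra hc
    have := Nat.pow_le_pow_left (show 45 ≤ q by omega) f
    omega
  have hc := hc2 q hq45
  unfold okq exc at hc
  simp only [Bool.or_eq_true, Bool.and_eq_true, decide_eq_true_eq, beq_iff_eq, bne_iff_ne] at hc
  rcases hc with ((hc | hc) | hc) | hc
  · omega
  · omega
  · omega
  apply hc
  rw [← Nat.dvd_iff_mod_eq_zero, Nat.dvd_iff_prime_pow_dvd_dvd]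
  intro r v hr hv
  by_cases hp : IsPPD r q n
  · exact (key r v hp hv).mul_right _
  rcases v with _ | v
  · simp
  have hrM : r ∣ q ^ n - 1 := (dvd_pow_self r (by omega)).trans hv
  have : ∃ k, 0 < k ∧ k < n ∧ r ∣ q ^ k - 1 := by
    by_contra hcon
    push Not at hcon
    exact hp ⟨hr, hrM, hcon⟩
  obtain ⟨k, hk0, hkn, hk⟩ := this
  have h5 := prime_dvd_prodMod hrM (n - 1) k hk0 (by omega) hk
  have hv' : v + 1 ≤ q * n := by
    have hqn : 1 < q ^ n := Nat.one_lt_pow hn0.ne' hq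
    have a1 := Nat.le_of_dvd (by omega) hv
    have a2 : 2 ^ (v + 1) ≤ r ^ (v + 1) := Nat.pow_le_pow_left hr.two_le _
    have a3 : q ^ n ≤ 2 ^ (q * n) := by
      rw [pow_mul]; exact Nat.pow_le_pow_left Nat.lt_two_pow_self.le _
    have : 2 ^ (v + 1) ≤ 2 ^ (q * n) := by omega
    exact (Nat.pow_le_pow_iff_right (by norm_num)).1 this
  exact ((pow_dvd_pow r hv').trans (pow_dvd_pow_of_dvd h5 _)).mul_left _

end Cfsg.Agent.S3430
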