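import Cfsg.Statements.S3431
import Cfsg.Agent.Lib.Nse.B

set_option autoImplicit false
open Cfsg

namespace Cfsg.Agent.S3431

open Cfsg.Lib.Nse Equiv Equiv.Perm

set_option maxRecDepth 100000
set_option Elab.async false

theorem nse {G H : Type*} [Group G] [Finite G] [Group H] [Finite H] (T S : Finset ℕ) (h1 : ∀ k ∈ T, nm H k ∈ S)
    (h2 : ∀ s ∈ S, s ≠ 0 ∧ ∃ k, nm H k = s) (hs : ∑ k ∈ T, nm H k = Nat.card H)
    (h : nm G '' Set.range (orderOf : G → ℕ) = nm H '' Set.range (orderOf : H → ℕ)) :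
    (∀ k, nm G k = 0 ∨ nm G k ∈ S) ∧ ∀ s ∈ S, ∃ k, nm G k = s := by
  refine ⟨fun k => or_iff_not_imp_left.2 fun e => ?_, fun s hs => ?_⟩
  · obtain ⟨j, hj, e'⟩ := h.le ⟨k, nm_ne.1 e, rfl⟩
    refine e' ▸ h1 j ?_
    by_contra hn
    have h3 : ∑ k ∈ insert j T, nm H k ≤ Nat.card H := by
      rw [card_eq (G := H) Nat.card_pos.ne' dvd_rfl]
      exact Finset.sum_le_sum_of_ne_zero fun d _ hd => Nat.mem_divisors.2 ⟨nm_dvd hd, Nat.card_pos.ne'⟩
    rw [Finset.sum_insert hn] at h3
    have := nm_ne.2 hj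
    omega
  · obtain ⟨h0, k, rfl⟩ := h2 s hs
    obtain ⟨j, -, e⟩ := h.ge ⟨k, nm_ne.1 h0, rfl⟩
    exact ⟨j, e⟩

theorem cnt (n k : ℕ) (hk : k ≠ 0) : ∑ d ∈ k.divisors, nm (alternatingGroup (Fin n)) d =
    (Finset.univ.filter fun g : Perm (Fin n) => g ^ k = 1 ∧ sign g = 1).card := by
  refine (Cfsg.Agent.S4377.aux hk).symm.trans ?_
  rw [← Fintype.card_subtype, ← Nat.card_eq_fintype_card]
  refine Nat.card_congr ⟨fun g => ⟨g.1, congrArg Subtype.val g.2, g.1.2⟩, fun g => ⟨⟨g.1, g.2.2⟩, Subtype.ext g.2.1⟩,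
    fun _ => rfl, fun _ => rfl⟩

theorem cp (n p c : ℕ) (hp : p.Prime)
    (h : (Finset.univ.filter fun g : Perm (Fin n) => g ^ p = 1 ∧ sign g = 1).card = 1 + c) :
    nm (alternatingGroup (Fin n)) p = c := by
  rw [← cnt n p hp.ne_zero, hp.divisors, Finset.sum_pair hp.one_lt.ne, nm_one] at h
  omega

theorem a42 : nm (alternatingGroup (Fin 4)) 2 = 3 := cp _ _ _ (by norm_num) (by decide +kernel)
theorem a43 : nm (alternatingGroup (Fin 4)) 3 = 8 := cp _ _ _ (by norm_num) (by decide +kernel)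
theorem a52 : nm (alternatingGroup (Fin 5)) 2 = 15 := cp _ _ _ (by norm_num) (by decide +kernel)
theorem a53 : nm (alternatingGroup (Fin 5)) 3 = 20 := cp _ _ _ (by norm_num) (by decide +kernel)
theorem a55 : nm (alternatingGroup (Fin 5)) 5 = 24 := cp _ _ _ (by norm_num) (by decide +kernel)
theorem a62 : nm (alternatingGroup (Fin 6)) 2 = 45 := cp _ _ _ (by norm_num) (by decide +kernel)
theorem a63 : nm (alternatingGroup (Fin 6)) 3 = 80 := cp _ _ _ (by norm_num) (by decide +kernel)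
theorem a65 : nm (alternatingGroup (Fin 6)) 5 = 144 := cp _ _ _ (by norm_num) (by decide +kernel)

theorem a64 : nm (alternatingGroup (Fin 6)) 4 = 90 := by
  have := (cnt 6 4 (by norm_num)).trans (by decide +kernel : _ = 136)
  rw [show Nat.divisors 4 = {1, 2, 4} by decide] at this
  simp [nm_one, a62] at this
  omega

theorem ca (n : ℕ) (h : 1 < n) : 2 * Nat.card (alternatingGroup (Fin n)) = n.factorial := by
  have : Nontrivial (Fin n) := Fin.nontrivial_iff_two_le.2 h
  rw [Nat.card_eq_fintype_card, two_mul_card_alternatingGroup, Fintype.card_perm, Fintype.card_fin]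

/-- Let n be 4, 5 or 6 and let G be a finite group whose set of sizes of same-order classes (the set of numbers #{g : o(g) = m} over the element orders m of G) equals that of the alternating group of degree n. Then G is isomorphic to that alternating group. -/
theorem result {G : Type*} [Group G] [Finite G] (n : ℕ) (hn : n = 4 ∨ n = 5 ∨ n = 6)
    (h : ((fun m : ℕ => Nat.card {g : G // orderOf g = m}) '' Set.range (orderOf : G → ℕ)) = ((fun m : ℕ => Nat.card {g : ↥(alternatingGroup (Fin n)) // orderOf g = m}) '' Set.range (orderOf : ↥(alternatingGroup (Fin n)) → ℕ))) :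
    Nonempty (G ≃* ↥(alternatingGroup (Fin n))) := by
  rcases hn with rfl | rfl | rfl
  · have := ca 4 (by norm_num)
    have := nse {1, 2, 3} {1, 3, 8} (by simp [nm_one, a42, a43]) (by
      simpa using ⟨⟨1, nm_one⟩, ⟨2, a42⟩, 3, a43⟩) (by simp [nm_one, a42, a43, Nat.factorial] at this ⊢; omega) h
    exact four this.1 this.2
  · have := ca 5 (by norm_num)
    have := nse {1, 2, 3, 5} {1, 15, 20, 24} (by simp [nm_one, a52, a53, a55]) (by
      simpa using ⟨⟨1, nm_one⟩, ⟨2, a52⟩, ⟨3, a53⟩, 5, a55⟩) (by simp [nm_one, a52, a53, a55, Nat.factorial] at this ⊢; omega) h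
    exact five this.1 this.2
  · have := ca 6 (by norm_num)
    have := nse {1, 2, 3, 4, 5} {1, 45, 80, 90, 144} (by simp [nm_one, a62, a63, a64, a65]) (by
      simpa using ⟨⟨1, nm_one⟩, ⟨2, a62⟩, ⟨3, a63⟩, ⟨4, a64⟩, 5, a65⟩)
      (by simp [nm_one, a62, a63, a64, a65, Nat.factorial] at this ⊢; omega) h
    exact six this.1 this.2

end Cfsg.Agent.S3431
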