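import Cfsg.Statements.S3433
import Cfsg.Agent.Lib.Coprime.Spec5

set_option autoImplicit false
open Cfsg

namespace Cfsg.Agent.S3433

open Subgroup Cfsg.Lib Cfsg.Lib.Coprime Equiv

/-- the Klein four subgroup of `A₅` on `{0,1,2,3}` -/
def kl : List (alternatingGroup (Fin 5)) := [1, ⟨swap 0 1 * swap 2 3, Perm.mem_alternatingGroup.2 (by decide)⟩,
  ⟨swap 0 2 * swap 1 3, Perm.mem_alternatingGroup.2 (by decide)⟩, ⟨swap 0 3 * swap 1 2, Perm.mem_alternatingGroup.2 (by decide)⟩]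

/-- the Klein four subgroup of `A₅` on `{0,1,2,3}` -/
def klS : Subgroup (alternatingGroup (Fin 5)) where
  carrier := {x | x ∈ kl}
  mul_mem' := fun {a b} ha hb => (by decide +kernel : ∀ a ∈ kl, ∀ b ∈ kl, a * b ∈ kl) a ha b hb
  one_mem' := (by decide : 1 ∈ kl)
  inv_mem' := fun {a} ha => (by decide : ∀ a ∈ kl, a⁻¹ ∈ kl) a ha

theorem main {G : Type*} [Group G] [Finite G] (h5 : ∀ x : G, orderOf x ≤ 5)
    (e : G ⧸ pCore 2 G ≃* alternatingGroup (Fin 5)) : IsElementaryAbelian 2 (pCore 2 G) := by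
  let f := e.toMonoidHom.comp (QuotientGroup.mk' (pCore 2 G))
  have hf : Function.Surjective f := e.surjective.comp (QuotientGroup.mk'_surjective _)
  have hk : f.ker = pCore 2 G := by ext; simp [f]
  obtain ⟨y, h1, h2⟩ := exists_orderOf_dvd f hf Linear.a5y
  have := Fact.mk Nat.prime_three
  rw [orderOf_eq_prime (p := 3) (by decide) (by decide)] at h1
  obtain ⟨h3, h4⟩ := fpf_of_five h5 (Core.isPGroup_pCore 2 G) h1
  rw [← hk] at h4 ⊢
  refine elem_of_fpf f hf (hk ▸ Core.isPGroup_pCore 2 G) (V := klS) (fun h => ?_)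
    (by decide : ∀ a ∈ kl, a * a = 1) h3 ?_ ?_ h4
  · exact absurd (fun a (ha : a ∈ kl) => mem_bot.1 (h.le ha)) (by decide)
  · rw [h2]; exact (by decide : ∀ a ∈ kl, Linear.a5y * a * Linear.a5y⁻¹ ∈ kl)
  · rw [h2]; exact (by decide : ∀ a ∈ kl, Linear.a5y * a = a * Linear.a5y → a = 1)


/-- A finite group whose set of element orders is exactly {1, 2, 3, 4, 5} is isomorphic to the alternating group of degree 6, or has a normal elementary abelian 2-subgroup with quotient isomorphic to the alternating group of degree 5. -/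
theorem result {G : Type*} [Group G] [Finite G] (h : Set.range (orderOf : G → ℕ) = {k : ℕ | 1 ≤ k ∧ k ≤ 5}) :
    Nonempty (G ≃* ↥(alternatingGroup (Fin 6))) ∨
      ∃ (N : Subgroup G) (_ : N.Normal), Cfsg.IsElementaryAbelian 2 N ∧ Nonempty (G ⧸ N ≃* ↥(alternatingGroup (Fin 5))) := by
  have h5 : ∀ x : G, orderOf x ≤ 5 := fun x => (h.le ⟨x, rfl⟩).2
  have h1 : ∀ k, 1 ≤ k → k ≤ 5 → k ∣ Nat.card G := fun k h1 h2 =>
    let ⟨x, hx⟩ := h.ge ⟨h1, h2⟩; hx ▸ orderOf_dvd_natCard x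
  refine (struct_five h5 (not_solvable_of_five h5 ?_)).imp_right fun ⟨e⟩ => ⟨_, inferInstance, main h5 e, ⟨e⟩⟩
  have := h1 2 (by omega) (by omega)
  have := h1 3 (by omega) (by omega)
  have := h1 5 (by omega) (by omega)
  omega

end Cfsg.Agent.S3433
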