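import Cfsg.Statements.S3493
import Cfsg.Agent.Lib.FG.ONS
import Cfsg.Agent.Lib.FT.Cor

set_option autoImplicit false
open Cfsg

open Subgroup Cfsg.Lib
open scoped commutatorElement
open MulAction Cfsg.Lib.Layer Cfsg.Lib.Transfer Cfsg.Lib.FG Cfsg.Lib.Invol
open scoped Pointwise
namespace Cfsg.Agent.S3493

/-- An extremely primitive permutation group is of affine type or almost simple. Let a finite group G act faithfully and primitively on a finite set Ω with at least two points, in such a way that every point stabilizer acts primitively on each of its own orbits in Ω (an orbit of size one counts as primitive). Then either G has a non-trivial abelian normal subgroup whose elements other than the identity fix no point (affine type), or G has a non-abelian simple normal subgroup with trivial centralizer (almost simple). -/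
theorem result {G : Type*} [Group G] [Finite G] {Ω : Type*} [Fintype Ω] [MulAction G Ω] [FaithfulSMul G Ω] (hΩ : 2 ≤ Fintype.card Ω) (hprim : MulAction.IsPreprimitive G Ω) (hep : ∀ (α : Ω) (ω : Ω), MulAction.IsPreprimitive (MulAction.stabilizer G α) (MulAction.orbit (MulAction.stabilizer G α) ω)) :
    (∃ N : Subgroup G, N.Normal ∧ N ≠ ⊥ ∧ IsMulCommutative N ∧ ∀ ω : Ω, MulAction.stabilizer N ω = ⊥) ∨ (∃ T : Subgroup G, T.Normal ∧ IsSimpleGroup T ∧ ¬ IsMulCommutative T ∧ Subgroup.centralizer (T : Set G) = ⊥) := by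
  haveI := Fintype.one_lt_card_iff_nontrivial.1 hΩ
  obtain ⟨a⟩ : Nonempty Ω := inferInstance
  by_cases hF : fittingSubgroup G = ⊥
  swap
  · obtain ⟨r, hr, h1, h2, -, h3⟩ := FG.affine_fit hF a
    exact Or.inl ⟨_, Layer.fit_normal, hF, h1.1, h3⟩
  refine Or.inr (by_contra fun hA => ?_)
  haveI := nontrivial_of_prim (G := G) (Ω := Ω)
  obtain ⟨T, U, hT, hU, hne⟩ := exists_two_comp hF hA
  have hna := IsQuasisimple.not_isMulCommutative hT.2
  have nab : ∀ X : Subgroup G, X ≤ T → (∀ t ∈ T, ∀ x ∈ X, t * x * t⁻¹ ∈ X) → IsMulCommutative X → X = ⊥ :=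
    fun X h1 h2 h3 => (comp_eq_or hF hT h1 h2).resolve_left fun e => hna (e ▸ h3)
  have fix : ∀ g t : G, g • a = a → g • t • a = (g * t * g⁻¹) • a := fun g t h => by
    rw [mul_smul, mul_smul, inv_smul_eq_iff.2 h.symm]
  by_cases hp : T ≤ prj T a
  · have sr : ∀ s ∈ T, ∀ t ∈ T, s • a = t • a → s = t := fun s hs t ht e =>
      (inv_mul_eq_one.1 (semireg_of_prj hF hT hp (mul_mem (inv_mem ht) hs) (by rw [mul_smul, e, inv_smul_smul]))).symm
    haveI := comp_simple hF hT
    obtain ⟨u, hu, u2⟩ := exists_two_mem_of_even (FT.even_card_of_simple T fun h => hna ⟨⟨h⟩⟩)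
    obtain ⟨v, hv, v2, w, hw, w2, hvw⟩ : ∃ v ∈ T, v * v = 1 ∧ ∃ w ∈ T, w * w = 1 ∧ v * w ≠ w * v := by
      by_contra hn
      push Not at hn
      refine ne_one_of_two u2 (eq_bot_iff.1 (nab (closure {x | x ∈ T ∧ x * x = 1}) ((closure_le _).2 fun x hx => hx.1)
        (fun t ht x hx => (closure_le ((closure {x | x ∈ T ∧ x * x = 1}).comap (MulAut.conj t).toMonoidHom)).2
          (fun y hy => subset_closure ⟨mul_mem (mul_mem ht hy.1) (inv_mem ht), by simp [mul_assoc, ← mul_assoc y, hy.2]⟩) hx)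
        (isMulCommutative_closure fun x hx y hy => hn x hx.1 hx.2 y hy.1 hy.2)) (subset_closure ⟨hu, mul_self_of_two u2⟩))
    have hi := left_inverts v2 w2
    have ht := mul_mem hv hw
    have h2 : (v * w)⁻¹ ≠ v * w := by rwa [mul_inv_rev, inv_eq_of_mul_eq_one_right v2, inv_eq_of_mul_eq_one_right w2, eq_comm.ne]
    generalize v * w = t at hi ht h2
    have act : ∀ s ∈ T, ∃ g ∈ stabilizer G a, ∀ x ∈ T, g • x • a = (s * x * s⁻¹) • a := fun s hs => by
      obtain ⟨-, c, hc, e⟩ := hp hs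
      exact ⟨s * c, e, fun x hx => by rw [fix _ _ e, mul_assoc s c, ← hc x hx]; congr 1; group⟩
    obtain ⟨h, hh, hh'⟩ := act v hv
    have h3 : h • t • a = t⁻¹ • a := by rw [hh' t ht, hi]
    have h4 : h • t⁻¹ • a = t • a := by rw [hh' _ (inv_mem ht), ← conj_inv, hi, inv_inv]
    rcases le_or_le_of_prim (hep a (t • a)) (K := stabilizer G a ⊓ stabilizer G ({t • a, t⁻¹ • a} : Set Ω)) inf_le_left
      (fun g hg => mem_inf.2 ⟨hg.1, by
        have e : g • t • a = t • a := hg.2
        have : g • t⁻¹ • a = t⁻¹ • a := by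
          rw [fix _ _ hg.1] at e ⊢
          by_cases hc : cj g T = T
          · rw [← conj_inv, sr _ (hc ▸ conj_mem_cj.2 ht) _ ht e]
          · have := comp_le_cent hT (IsComponent.cj hT g) hc (conj_mem_cj.2 ht) t ht
            rw [← conj_inv, inv_smul_eq_iff, ← mul_smul, (Commute.inv_left this).symm.eq, mul_smul, e, inv_smul_smul]
        rw [mem_stabilizer_iff, Set.smul_set_insert, Set.smul_set_singleton, e, this]⟩) with k | k
    · exact h2 (sr _ (inv_mem ht) _ ht (h3.symm.trans (k (mem_inf.2 ⟨hh, by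
        rw [mem_stabilizer_iff, Set.smul_set_insert, Set.smul_set_singleton, h3, h4, Set.pair_comm]⟩))))
    refine h2 ?_
    rw [zpowers_eq_bot.1 (nab (zpowers t) (zpowers_le.2 ht) (fun s hs x hx => ?_) inferInstance), inv_one]
    obtain ⟨g, hg, hg'⟩ := act s hs
    obtain ⟨j, rfl⟩ := hx
    have : g • t • a ∈ ({t • a, t⁻¹ • a} : Set Ω) := mem_stabilizer_iff.1 (k hg).2 ▸ Set.smul_mem_smul_set (Or.inl rfl)
    rw [hg' t ht] at this
    rw [← conj_zpow]
    refine zpow_mem ?_ j
    rcases this with e | e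
    · rw [sr _ (mul_mem (mul_mem hs ht) (inv_mem hs)) _ ht e]; exact mem_zpowers t
    · rw [sr _ (mul_mem (mul_mem hs ht) (inv_mem hs)) _ (inv_mem ht) e]; exact inv_mem (mem_zpowers t)
  have hN : ¬ stabilizer G a ≤ normalizer (T : Set G) := fun h => hp fun t ht => by
    haveI : T.Normal := normalizer_eq_top_iff.1 (eq_top_iff.2 fun g _ => by
      obtain ⟨s, -, c, -, hl, e⟩ := comp_trans hT a (g • a)
      exact (mul_mem_cancel_left (inv_mem (IsComponent.layer_le_normalizer hT hl))).1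
        (h (by rw [mem_stabilizer_iff, mul_smul, ← e, inv_smul_smul])))
    obtain ⟨c, hc, e⟩ := Perm.isPretransitive_subgroup_iff.1 (Perm.isPretransitive_of_normal (α := Ω)
      (centralizer (T : Set G)) fun e => IsComponent.ne_bot hU (eq_bot_iff.2 (e ▸ comp_le_cent hT hU hne))) a (t⁻¹ • a)
    exact ⟨ht, c, hc, by rw [mul_smul, e, smul_inv_smul]⟩
  have key : ∀ t ∈ T, t ∉ prj T a → ∀ g ∈ stabilizer G a, g ∈ normalizer (T : Set G) →
      t⁻¹ * (g * t * g⁻¹) ∈ prj T a := fun t ht h g hg hn => by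
    have := (le_or_le_of_prim (hep a (t • a)) (K := stabilizer G a ⊓ normalizer (T : Set G)) inf_le_left
      fun g hg => mem_inf.2 ⟨hg.1, cj_eq_iff.1 (by_contra fun hc => h ((inv_mem_iff (x := t)).1 ⟨inv_mem ht, _,
        comp_le_cent hT (IsComponent.cj hT g) hc (conj_mem_cj.2 ht), by
          rw [mul_smul, ← fix _ _ hg.1, mem_stabilizer_iff.1 hg.2, inv_smul_smul]⟩))⟩).resolve_right
      (fun k => hN (k.trans inf_le_right)) (mem_inf.2 ⟨hg, hn⟩)
    exact ⟨mul_mem (inv_mem ht) ((mem_normalizer_iff.1 hn t).1 ht), 1, one_mem _, by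
      rw [mul_one, mul_smul, ← fix _ _ hg, mem_stabilizer_iff.1 this, inv_smul_smul]⟩
  have h0 : prj T a = ⊥ := (comp_eq_or hF hT (N := prj T a) (fun x hx => hx.1) fun s hs r hr => by
    by_cases h : s ∈ prj T a
    · exact mul_mem (mul_mem h hr) (inv_mem h)
    obtain ⟨hr', c, hc, e⟩ := id hr
    have := mul_mem (key _ (inv_mem hs) (fun h' => h (inv_mem_iff.1 h')) _ e
      (mul_mem (le_normalizer hr') (centralizer_le_normalizer _ hc))) hr
    rwa [mul_assoc r c, ← hc _ (inv_mem hs), show s⁻¹⁻¹ * (r * (s⁻¹ * c) * (r * c)⁻¹) * r = s * r * s⁻¹ by group] at this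
    ).resolve_left fun e => hp e.ge
  obtain ⟨⟨t, ht⟩, h1⟩ := ne_bot_iff_exists_ne_one.1 (IsComponent.ne_bot hT)
  have h2 : t ∉ prj T a := fun h => h1 (Subtype.ext (h0.le h))
  let X := closure {x | ∃ g ∈ stabilizer G a, x = g * t * g⁻¹}
  have hX : IsMulCommutative X := isMulCommutative_closure (by
    rintro _ ⟨g, hg, rfl⟩ _ ⟨k, hk, rfl⟩
    have : Commute t (g⁻¹ * k * t * (g⁻¹ * k)⁻¹) := by
      by_cases hc : cj (g⁻¹ * k) T = T
      · rw [← inv_mul_eq_one.1 (h0.le (key t ht h2 _ (mul_mem (inv_mem hg) hk) (cj_eq_iff.1 hc)))]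
      · exact comp_le_cent hT (IsComponent.cj hT _) hc (conj_mem_cj.2 ht) t ht
    simpa [mul_assoc] using (commute_conj g this).eq)
  have hn : stabilizer G a ≤ normalizer (X : Set G) := fun g hg => mem_normalizer_fintype fun x hx =>
    (closure_le (X.comap (MulAut.conj g).toMonoidHom)).2 (by
      rintro _ ⟨k, hk, rfl⟩
      exact subset_closure ⟨g * k, mul_mem hg hk, by simp [mul_assoc]⟩) hx
  have htX : t ∈ X := subset_closure ⟨1, one_mem _, by simp⟩
  haveI : X.Normal := normalizer_eq_top_iff.1 ((IsPreprimitive.isCoatom_stabilizer_of_isPreprimitive (G := G) a).2 _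
    (lt_of_le_of_ne hn fun e => h2 ⟨ht, 1, one_mem _, by rw [mul_one]; exact e.ge (le_normalizer htX)⟩))
  exact h1 (Subtype.ext (hF.le (fit_le (Core.isNilpotent_of_isMulCommutative X) htX)))

end Cfsg.Agent.S3493
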