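import Cfsg.Statements.S3495
import Cfsg.Agent.Lib.Layer.Misc

set_option autoImplicit false
open Cfsg

namespace Cfsg.Agent.S3495

open Subgroup Cfsg.Lib.Core Cfsg.Lib.Amalg Cfsg.Lib.BG1 Cfsg.Lib.Layer

/-- Let a finite group G act faithfully and primitively on a finite set Ω with non-trivial point stabilizers, each acting primitively on every one of its orbits (an extremely primitive group), and suppose G has an elementary abelian normal p-subgroup N acting regularly on Ω (affine type). Then every non-trivial subgroup M of a point stabilizer G_α that is normal in G_α has the same orbits on Ω as G_α, and normalizes no subgroup of N other than 1 and N. -/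
theorem result {G : Type*} [Group G] [Finite G] {Ω : Type*} [Fintype Ω] [MulAction G Ω] [FaithfulSMul G Ω] (hprim : MulAction.IsPreprimitive G Ω) (hH : ∀ α : Ω, MulAction.stabilizer G α ≠ ⊥) (hep : ∀ (α : Ω) (ω : Ω), MulAction.IsPreprimitive (MulAction.stabilizer G α) (MulAction.orbit (MulAction.stabilizer G α) ω))
    (N : Subgroup G) [N.Normal] (hNc : IsMulCommutative N) (p : ℕ) (hp : p.Prime) (hNp : ∀ n ∈ N, n ^ p = 1)
    (hNtr : MulAction.IsPretransitive N Ω) (hNreg : ∀ ω : Ω, MulAction.stabilizer N ω = ⊥) (α : Ω) (M : Subgroup G) (hM : M ≠ ⊥) (hMle : M ≤ MulAction.stabilizer G α)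
    (hMn : MulAction.stabilizer G α ≤ Subgroup.normalizer (M : Set G)) :
    (∀ ω : Ω, MulAction.orbit M ω = MulAction.orbit (MulAction.stabilizer G α) ω) ∧
    (∀ L : Subgroup G, L ≤ N → M ≤ Subgroup.normalizer (L : Set G) → L = ⊥ ∨ L = N) := by
  set H := MulAction.stabilizer G α with hHd
  have reg : ∀ n ∈ N, ∀ ω : Ω, n • ω = ω → n = 1 := fun n hn ω e =>
    congrArg N.subtype (mem_bot.1 (hNreg ω ▸ e : (⟨n, hn⟩ : N) ∈ (⊥ : Subgroup N)))
  have triv : ∀ K : Subgroup G, K.Normal → K ≤ H → K = ⊥ := fun K hn hK => by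
    refine (eq_bot_iff_forall _).2 fun x hx => FaithfulSMul.eq_of_smul_eq_smul (α := Ω) fun c => ?_
    obtain ⟨k, rfl⟩ := hprim.exists_smul_eq α c
    have : k⁻¹ * x * k⁻¹⁻¹ ∈ MulAction.stabilizer G α := hK (hn.conj_mem _ hx k⁻¹)
    rw [MulAction.mem_stabilizer_iff, inv_inv, mul_smul, mul_smul, inv_smul_eq_iff] at this
    rw [this, one_smul]
  have : Nontrivial Ω := by
    by_contra h
    rw [not_nontrivial_iff_subsingleton] at h
    exact hM ((eq_bot_iff_forall _).2 fun x _ => FaithfulSMul.eq_of_smul_eq_smul (α := Ω) fun c => Subsingleton.elim _ _)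
  have hc : IsCoatom H := MulAction.IsPreprimitive.isCoatom_stabilizer_of_isPreprimitive G α
  have hNM : normalizer (M : Set G) = H := (hc.le_iff.1 hMn).resolve_left fun e => hM (triv M (normalizer_eq_top_iff.1 e) hMle)
  have h1 : ∀ ω : Ω, MulAction.orbit M ω = MulAction.orbit H ω := fun ω => by
    refine Set.Subset.antisymm (by rintro _ ⟨m, rfl⟩; exact ⟨⟨m, hMle m.2⟩, rfl⟩) ?_
    have := hep α ω
    have := (normal_subgroupOf_iff_le_normalizer hMle).2 hMn
    by_cases hf : MulAction.fixedPoints (M.subgroupOf H) (MulAction.orbit H ω) = Set.univ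
    · obtain ⟨n, rfl⟩ := hNtr.exists_smul_eq α ω
      have hn : n.1 ∈ H := hNM ▸ centralizer_le_normalizer _ (mem_centralizer_iff.2 fun m hm => by
        have e : m • n.1 • α = n.1 • α := congrArg Subtype.val ((hf ▸ Set.mem_univ _ : (⟨_, MulAction.mem_orbit_self _⟩ :
          MulAction.orbit H (n • α)) ∈ MulAction.fixedPoints (M.subgroupOf H) _) ⟨⟨m, hMle hm⟩, hm⟩)
        have e2 : m⁻¹ • α = α := hMle (inv_mem hm)
        have := reg (n.1⁻¹ * (m * n * m⁻¹)) (mul_mem (inv_mem n.2) (‹N.Normal›.conj_mem _ n.2 m)) α (by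
          rw [mul_smul, mul_smul, mul_smul, e2, e, inv_smul_smul])
        rw [inv_mul_eq_one, eq_mul_inv_iff_mul_eq] at this
        exact this.symm)
      rintro _ ⟨h, rfl⟩
      have e : n • α = α := hn
      have e' : h • α = α := h.2
      simp only [e, e']
      exact MulAction.mem_orbit_self α
    · have ht := MulAction.IsQuasiPreprimitive.isPretransitive_of_normal hf
      intro x hx
      obtain ⟨m, hm⟩ := ht.exists_smul_eq ⟨ω, MulAction.mem_orbit_self ω⟩ ⟨x, hx⟩
      exact ⟨⟨m.1, m.2⟩, congrArg Subtype.val hm⟩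
  refine ⟨h1, fun L hL hn => ?_⟩
  have h2 : H ≤ normalizer (L : Set G) := fun h hh => mem_normalizer_fintype fun l hl => by
    obtain ⟨m, hm⟩ : h • l • α ∈ MulAction.orbit M (l • α) := h1 _ ▸ ⟨⟨h, hh⟩, rfl⟩
    have e1 : h⁻¹ • α = α := inv_mem hh
    have e2 : m.1⁻¹ • α = α := hMle (inv_mem m.2)
    have e3 := (mem_normalizer_iff.1 (hn m.2) l).1 hl
    have := reg ((m * l * m.1⁻¹)⁻¹ * (h * l * h⁻¹)) (mul_mem (inv_mem (hL e3)) (‹N.Normal›.conj_mem _ (hL hl) h)) α (by
      rw [mul_smul, inv_smul_eq_iff, mul_smul, mul_smul, mul_smul, mul_smul, e1, e2]; exact hm.symm)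
    rwa [← inv_mul_eq_one.1 this]
  rcases hc.le_iff.1 (le_sup_right : H ≤ L ⊔ H) with e | e
  · refine Or.inr (le_antisymm hL fun n hn => ?_)
    obtain ⟨l, hl, h, hh, rfl⟩ := (mem_sup_of_le_normalizer_left h2).1 (e ▸ mem_top n)
    rwa [reg h ((mul_mem_cancel_left (hL hl)).1 hn) α hh, mul_one]
  · exact Or.inl ((eq_bot_iff_forall _).2 fun l hl => reg l (hL hl) α (e.le (mem_sup_left hl)))

end Cfsg.Agent.S3495
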