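import Cfsg.Statements.S3496
import Cfsg.Agent.Lib.Layer.IrrEnd

set_option autoImplicit false
open Cfsg

namespace Cfsg.Agent.S3496

open Subgroup Cfsg.Lib.Core Cfsg.Lib.Amalg Cfsg.Lib.BG1 Cfsg.Lib.Layer
open MulAction Polynomial

theorem aeval_conj {k V : Type*} [Field k] [AddCommGroup V] [Module k V] {σ τ ρ : Module.End k V}
    (h : ρ * σ = σ * τ) (f : k[X]) : aeval ρ f * σ = σ * aeval τ f := by
  induction f using Polynomial.induction_on with
  | C a => simp [Algebra.commutes]
  | add f g hf hg => simp [add_mul, mul_add, hf, hg]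
  | monomial n a ih => rw [pow_succ', mul_left_comm, map_mul, map_mul (aeval τ), aeval_X, aeval_X, mul_assoc, ih,
      ← mul_assoc, ← mul_assoc, h]


/-- The soluble extremely primitive groups. Let a finite solvable group G act faithfully and primitively on a finite set Ω with p ^ d points (p prime), with non-trivial point stabilizers each acting primitively on every one of its orbits. Then there is a prime q such that every orbit of a point stabilizer G_α other than {α} has exactly q points, q divides p ^ d − 1 but no p ^ i − 1 with 0 < i < d, and G_α has a normal subgroup T of order q with G_α generated by T and one further element and the order of G_α dividing q·d (so G_α is cyclic of order q, or an extension of T by a cyclic group of order dividing d). -/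
theorem result {G : Type*} [Group G] [Finite G] {Ω : Type*} [Fintype Ω] [MulAction G Ω] [FaithfulSMul G Ω] [Group.IsSolvable G] (p d : ℕ) (hp : p.Prime) (hcard : Fintype.card Ω = p ^ d)
    (hprim : MulAction.IsPreprimitive G Ω) (hH : ∀ α : Ω, MulAction.stabilizer G α ≠ ⊥) (hep : ∀ (α : Ω) (ω : Ω), MulAction.IsPreprimitive (MulAction.stabilizer G α) (MulAction.orbit (MulAction.stabilizer G α) ω)) (α : Ω) :
    ∃ q : ℕ, q.Prime ∧ (∀ ω : Ω, ω ≠ α → Nat.card (MulAction.orbit (MulAction.stabilizer G α) ω) = q) ∧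
      q ∣ p ^ d - 1 ∧ (∀ i : ℕ, 0 < i → i < d → ¬ q ∣ p ^ i - 1) ∧
      ∃ T : Subgroup G, T ≤ MulAction.stabilizer G α ∧ MulAction.stabilizer G α ≤ Subgroup.normalizer (T : Set G) ∧ Nat.card T = q ∧
        (∃ h : G, MulAction.stabilizer G α = T ⊔ Subgroup.zpowers h) ∧ Nat.card (MulAction.stabilizer G α) ∣ q * d := by
  haveI := Fact.mk hp
  have hH1 := hH α
  obtain ⟨b, hb⟩ : ∃ b, b ≠ α := by
    by_contra! c
    exact hH1 (eq_bot_iff.2 fun x _ => FaithfulSMul.eq_of_smul_eq_smul fun y : Ω => (c _).trans (c _).symm)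
  haveI : Nontrivial (stabilizer G α) := (nontrivial_iff_ne_bot _).2 hH1
  haveI : Nontrivial G := (stabilizer G α).subtype_injective.nontrivial
  have hF := fitting_ne_bot_of_solvable (G := stabilizer G α)
  obtain ⟨q, hq, f1, f2, -, -⟩ := ep_fit hep hb hF
  obtain ⟨p', hp', v1, v2, v3, v4⟩ := prim_fit α (fitting_ne_bot_of_solvable (G := G))
  have hdvd := ep_card_dvd hep α
  have htr := fun ω (h : ω ≠ α) => ep_fit hep h hF
  have hsr := fun ω (h : ω ≠ α) => @ep_semireg _ _ _ _ _ _ _ _ _ _ hep h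
  haveI := fit_normal (G := G)
  haveI := fit_normal (G := stabilizer G α)
  set V := fittingSubgroup G
  set F := fittingSubgroup (stabilizer G α)
  rw [Nat.card_eq_fintype_card (α := Ω), hcard] at v4 hdvd
  have hd : d ≠ 0 := by
    rintro rfl
    exact hb (Fintype.card_le_one_iff.1 (by rw [hcard, pow_zero]) _ _)
  have hV0 : V ≠ ⊥ := fitting_ne_bot_of_solvable
  have hreg : ∀ v ∈ V, v • α = α → v = 1 := fun v hv h => eq_one_of_trans (v2.ge hv) h
  obtain rfl : p' = p := by
    obtain ⟨x, hx⟩ := exists_prime_orderOf_dvd_card' (G := V) p (v4 ▸ dvd_pow_self p hd)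
    exact ((Nat.prime_dvd_prime_iff_eq hp hp').1 (hx ▸ orderOf_dvd_of_pow_eq_one (Subtype.ext (v1.2 _ x.2)))).symm
  haveI := Fact.mk v1
  haveI := Fact.mk hq
  have hcT : Nat.card (F.map (stabilizer G α).subtype) = Nat.card F := card_map_of_injective (subtype_injective _)
  have hcyc : IsCyclic (F.map (stabilizer G α).subtype) := by
    by_contra c
    refine hV0 (le_bot_iff.1 (coprime_abelian_gen_cent1 (K := V) (by rw [normalizer_eq_top]; exact le_top) ?_
      (by haveI := f1.1; infer_instance) c ?_))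
    · rw [hcT, v4]
      exact Nat.Coprime.coprime_dvd_left hdvd ((Nat.coprime_self_sub_left (Nat.one_le_pow _ _ hp.pos)).2 (by simp))
    · rintro _ ⟨t, ht, rfl⟩ h1 v ⟨hv, hc⟩
      refine hreg v hv (by_contra fun c => h1 (congrArg Subtype.val (hsr _ c ht ?_)))
      rw [← mul_smul, show (t : G) * v = v * t from hc _ rfl, mul_smul, t.2]
  obtain ⟨⟨t, ht⟩, ht1⟩ := ne_bot_iff_exists_ne_one.1 hF
  have hot : orderOf t = q := orderOf_eq_prime (f1.2 t ht) fun e => ht1 (Subtype.ext e)
  have hcF : Nat.card F = q := by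
    haveI : IsCyclic F := isCyclic_of_surjective _ (F.equivMapOfInjective _ (subtype_injective _)).symm.surjective
    obtain ⟨g, hg⟩ := IsCyclic.exists_ofOrder_eq_natCard (α := F)
    refine ((Nat.dvd_prime hq).1 (hg ▸ orderOf_dvd_of_pow_eq_one (Subtype.ext (f1.2 _ g.2)))).resolve_left ?_
    exact fun c => hF (card_eq_one.1 c)
  have hz : zpowers t = F := eq_of_le_of_card_ge (zpowers_le.2 ht) (by rw [hcF, Nat.card_zpowers, hot])
  have hN : ∀ g : G, g ∈ 𝐍(V) := fun g => by rw [normalizer_eq_top]; trivial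
  let ρ : G →* Module.End (ZMod p') (EV p' V) := (erep p' V).comp ((MonoidHom.id G).codRestrict _ hN)
  have hρ : ∀ g x, (ρ g x).val = g * x.val * g⁻¹ := fun g x => erep_val _ _
  have hfr : Module.finrank (ZMod p') (EV p' V) = d :=
    Nat.pow_right_injective hp.two_le ((EV.card_eq_pow (p := p') (V := V)).symm.trans v4)
  haveI : Nontrivial (EV p' V) := Module.nontrivial_of_finrank_pos (R := ZMod p') (hfr ▸ Nat.pos_of_ne_zero hd)
  have hinj : ∀ x y : stabilizer G α, ρ x = ρ y → x = y := fun x y h => by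
    refine inv_mul_eq_one.1 (Subtype.ext (hreg _ (v2.le fun v hv => ?_) (x⁻¹ * y).2))
    have := congrArg (fun f => (f (EV.mk p' ⟨v, hv⟩)).val) h
    simp only [hρ, EV.val_mk] at this
    calc _ = (x : G)⁻¹ * (x * v * (x : G)⁻¹) * y := by rw [Subgroup.coe_mul, Subgroup.coe_inv]; group
      _ = _ := by rw [this, Subgroup.coe_mul, Subgroup.coe_inv]; group
  have hirr : ∀ U : Submodule (ZMod p') (EV p' V), (∀ v ∈ U, ρ t v ∈ U) → U = ⊥ ∨ U = ⊤ := fun U hU => by
    have h1 : ∀ s ∈ F, ∀ v ∈ U, ρ s v ∈ U := by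
      rw [← hz]
      intro s hs
      obtain ⟨n, rfl⟩ := (mem_powers_iff_mem_zpowers.2 hs)
      induction n with
      | zero => simp
      | succ n ih =>
        intro v hv
        simpa [pow_succ] using ih (mem_powers_iff_mem_zpowers.1 ⟨n, rfl⟩) _ (hU v hv)
    have h2 : ∀ s : stabilizer G α, ∀ v ∈ U, ρ s v ∈ U := fun s v hv => by
      by_cases h0 : v.val • α = α
      · rw [EV.val_eq_one.1 (hreg _ v.val_mem h0), map_zero]; exact U.zero_mem
      obtain ⟨-, -, -, -, h, -⟩ := htr _ h0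
      obtain ⟨r, hr⟩ := h.exists_smul_eq ⟨v.val • α, mem_orbit_self _⟩ ⟨s • v.val • α, mem_orbit _ _⟩
      have hr : ((r : stabilizer G α) : G) • v.val • α = (s : G) • v.val • α := congrArg Subtype.val hr
      have : ρ s v = ρ (r : stabilizer G α) v := EV.ext' (inv_mul_eq_one.1 (hreg _
        (mul_mem (inv_mem (EV.val_mem _)) (EV.val_mem _)) (by
          rw [mul_smul, inv_smul_eq_iff, hρ, hρ, mul_smul, mul_smul, mul_smul, mul_smul, (inv_mem s.2 :),
            (inv_mem (r : stabilizer G α).2 :), hr])))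
      exact this ▸ h1 _ r.2 v hv
    have h3 : stabilizer G α ≤ 𝐍(EV.unsub U) := le_norm_of_conj_mem fun s hs w hw => by
      obtain ⟨v, hv, rfl⟩ := EV.mem_unsub.1 hw
      exact EV.mem_unsub.2 ⟨_, h2 ⟨s, hs⟩ v hv, hρ _ _⟩
    haveI : Nontrivial Ω := ⟨b, α, hb⟩
    rcases (IsPreprimitive.isCoatom_stabilizer_of_isPreprimitive G α).le_iff.1
      (le_sup_right : stabilizer G α ≤ EV.unsub U ⊔ stabilizer G α) with c | c
    · refine Or.inr (eq_top_iff.2 fun v _ => ?_)
      obtain ⟨x, hx, y, hy, e⟩ := (mem_sup_of_le_normalizer_left h3).1 (c ▸ mem_top v.val)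
      have : y = 1 := hreg y (by
        rw [← inv_mul_cancel_left x y, e]; exact mul_mem (inv_mem (EV.unsub_le U hx)) v.val_mem) hy
      rw [← EV.val_mem_unsub, ← e, this, mul_one]; exact hx
    · exact Or.inl (eq_bot_iff.2 fun v hv => EV.val_eq_one.1 (hreg _ v.val_mem
        (c.le (mem_sup_left (EV.val_mem_unsub.2 hv)))))
  have hqd : q ∣ p' ^ d - 1 := hcF ▸ hdvd
  have hpow : ∀ i, q ∣ p' ^ i - 1 → t ^ p' ^ i = t := fun i h => by
    rw [← Nat.sub_add_cancel (Nat.one_le_pow i _ hp.pos), pow_succ, orderOf_dvd_iff_pow_eq_one.1 (hot ▸ h), one_mul]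
  haveI := isCyclic_of_prime_card hcF
  haveI : IsCyclic (MulAut F) := by
    haveI : Fact (Nat.card F).Prime := ⟨hcF ▸ hq⟩
    exact isCyclic_of_surjective _ (IsCyclic.mulAutMulEquiv F).symm.surjective
  obtain ⟨⟨_, h, rfl⟩, hh⟩ := IsCyclic.exists_generator (α := (MulAut.conjNormal (H := F)).range)
  have hgen : F ⊔ zpowers h = ⊤ := eq_top_iff.2 fun x _ => by
    obtain ⟨n, hn⟩ := hh ⟨_, x, rfl⟩
    have hn : MulAut.conjNormal (H := F) (h ^ n) = MulAut.conjNormal x := by
      rw [map_zpow]; exact congrArg Subtype.val hn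
    rw [← mul_inv_cancel_right x (h ^ n)⁻¹, inv_inv]
    refine mul_mem (mem_sup_left (f2.le fun y hy => ?_)) (mem_sup_right (zpow_mem_zpowers h n))
    have := congrArg (fun f => ((f (MulAut.conjNormal (h ^ n)⁻¹ ⟨y, hy⟩) : F) : stabilizer G α)) hn
    simp only [MulAut.conjNormal_apply] at this
    calc _ = ((h ^ n) * ((h ^ n)⁻¹ * y * (h ^ n)⁻¹⁻¹) * (h ^ n)⁻¹) * (x * (h ^ n)⁻¹) := by group
      _ = _ := by rw [this]; group
  refine ⟨q, hq, fun ω hω => ?_, hqd, fun i h0 hi c => ?_, F.map (stabilizer G α).subtype, map_subtype_le _,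
    le_normalizer_map_subtype _, hcT.trans hcF, ⟨h, ?_⟩, ?_⟩
  · obtain ⟨-, -, -, -, -, h⟩ := htr ω hω
    rw [← h, hcF]
  · have := irr_dvd hirr (i := i) (by rw [Nat.card_zmod, ← map_pow, ← Subgroup.coe_pow, hpow i c])
    exact (Nat.le_of_dvd h0 (hfr ▸ this)).not_gt hi
  · have := congrArg (map (stabilizer G α).subtype) hgen
    rwa [← MonoidHom.range_eq_map, range_subtype, Subgroup.map_sup, MonoidHom.map_zpowers, eq_comm] at this
  · obtain ⟨a, ha⟩ := mem_powers_iff_mem_zpowers.2 (hz ▸ ‹F.Normal›.conj_mem t ht h : h * t * h⁻¹ ∈ zpowers t)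
    have ha : t ^ a = h * t * h⁻¹ := ha
    have h1 : ρ t ^ a * ρ h = ρ h * ρ t := by
      rw [← map_pow, ← map_mul, ← map_mul, ← Subgroup.coe_pow, ha]; simp
    have h2 := aeval_conj h1 (minpoly (ZMod p') (ρ t))
    rw [minpoly.aeval, mul_zero] at h2
    obtain ⟨j, hj⟩ := irr_conj hirr (a := a) (by
      rw [← mul_one (aeval _ _), ← ρ.map_one, ← mul_inv_cancel (h : G), map_mul, ← mul_assoc, h2, zero_mul])
    rw [Nat.card_zmod, ← map_pow, ← map_pow, ← Subgroup.coe_pow, ← Subgroup.coe_pow] at hj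
    have h3 : ∀ n, h ^ n * t * (h ^ n)⁻¹ = t ^ (p' ^ j) ^ n := fun n => by
      induction n with
      | zero => simp
      | succ n ih => rw [pow_succ' h, pow_succ' (p' ^ j), pow_mul, ← hinj _ _ hj, ha, conj_pow, ← ih]; group
    have h4 : h ^ d ∈ F := f2.le (hz ▸ fun y hy => by
      have := h3 d
      rw [← pow_mul, hpow _ (hqd.trans (by simpa [mul_comm, pow_mul] using Nat.sub_one_dvd_pow_sub_one (p' ^ d) j)),
        mul_inv_eq_iff_eq_mul] at this
      obtain ⟨n, rfl⟩ := hy
      exact (Commute.zpow_left this.symm n).eq)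
    rw [← F.card_mul_index, hcF]
    refine Nat.mul_dvd_mul_left q ?_
    have h5 : zpowers (h : stabilizer G α ⧸ F) = ⊤ := by
      have := congrArg (map (QuotientGroup.mk' F)) hgen
      rwa [Subgroup.map_sup, QuotientGroup.map_mk'_self, bot_sup_eq, MonoidHom.map_zpowers,
        map_top_of_surjective _ (QuotientGroup.mk'_surjective F)] at this
    rw [index, ← card_top, ← h5, Nat.card_zpowers]
    exact orderOf_dvd_of_pow_eq_one ((QuotientGroup.eq_one_iff _).2 h4)

end Cfsg.Agent.S3496
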