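import Cfsg.Statements.S3497
import Cfsg.Agent.Lib.Layer.IrrEnd
import Cfsg.Agent.Lib.KS9.Plane

set_option autoImplicit false
open Cfsg

namespace Cfsg.Agent.S3497

open Subgroup Cfsg.Lib.Core Cfsg.Lib.Amalg Cfsg.Lib.BG1 Cfsg.Lib.Layer

/-- Restrictions on the point stabilizer of an extremely primitive group. Let a finite group G act faithfully and primitively on a finite set Ω with point stabilizers H = G_α whose order is neither 1 nor a prime, each acting primitively on every one of its orbits. Then H has trivial center, the Fitting subgroup F(H) is an elementary abelian p-group for some prime p, and if F(H) ≠ 1 has order p ^ e then p ^ e divides the number of points minus one and H / F(H) embeds in GL_e(p) (there is a homomorphism from H to GL_e(p) with kernel exactly F(H)). -/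
theorem result {G : Type*} [Group G] [Finite G] {Ω : Type*} [Fintype Ω] [MulAction G Ω] [FaithfulSMul G Ω] (hprim : MulAction.IsPreprimitive G Ω) (hep : ∀ (α : Ω) (ω : Ω), MulAction.IsPreprimitive (MulAction.stabilizer G α) (MulAction.orbit (MulAction.stabilizer G α) ω)) (α : Ω)
    (hH1 : MulAction.stabilizer G α ≠ ⊥) (hHp : ¬ (Nat.card (MulAction.stabilizer G α)).Prime) :
    Subgroup.center (MulAction.stabilizer G α) = ⊥ ∧
    IsMulCommutative (Cfsg.fittingSubgroup (MulAction.stabilizer G α)) ∧
    ∃ p e : ℕ, p.Prime ∧ Nat.card (Cfsg.fittingSubgroup (MulAction.stabilizer G α)) = p ^ e ∧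
      (∀ x ∈ Cfsg.fittingSubgroup (MulAction.stabilizer G α), x ^ p = 1) ∧
      (Cfsg.fittingSubgroup (MulAction.stabilizer G α) ≠ ⊥ →
        p ^ e ∣ Fintype.card Ω - 1 ∧
        ∃ φ : MulAction.stabilizer G α →* GL (Fin e) (ZMod p), φ.ker = Cfsg.fittingSubgroup (MulAction.stabilizer G α)) := by
  open MulAction in
  obtain ⟨b, hb⟩ : ∃ b, b ≠ α := by
    by_contra! c
    exact hH1 (eq_bot_iff.2 fun x _ => FaithfulSMul.eq_of_smul_eq_smul fun y : Ω => (c _).trans (c _).symm)
  by_cases hF : fittingSubgroup (MulAction.stabilizer G α) = ⊥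
  · refine ⟨le_bot_iff.1 (hF ▸ center_le_fit), hF ▸ inferInstance, 2, 0, Nat.prime_two, by simp [hF], by simp [hF],
      fun c => absurd hF c⟩
  obtain ⟨p, hp, h1, h2, h3, h4⟩ := ep_fit hep hb hF
  haveI := Fact.mk hp
  obtain ⟨e, he⟩ := (IsPGroup.iff_card (p := p) (G := fittingSubgroup (MulAction.stabilizer G α))).1
    fun x => ⟨1, Subtype.ext (by simpa using h1.2 _ x.2)⟩
  refine ⟨by_contra fun c => hHp ?_, h1.1, p, e, hp, he, h1.2, fun _ => ⟨?_, ?_⟩⟩
  · obtain ⟨⟨z, hz⟩, h0⟩ := ne_bot_iff_exists_ne_one.1 c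
    have h0 : z ≠ 1 := fun e => h0 (Subtype.ext e)
    have hle : zpowers z ≤ center _ := zpowers_le.2 hz
    haveI : (zpowers z).Normal := ⟨fun n hn g => by rwa [mem_center_iff.1 (hle hn) g, mul_inv_cancel_right]⟩
    haveI := ep_faithful hep hb
    haveI := hep α b
    haveI := Lib.Perm.isPretransitive_of_normal (α := MulAction.orbit (MulAction.stabilizer G α) b) (zpowers z)
      (zpowers_ne_bot.2 h0)
    have h5 := cent_eq_of_trans (N := zpowers z) inferInstance
      (⟨b, MulAction.mem_orbit_self b⟩ : MulAction.orbit (MulAction.stabilizer G α) b)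
    have h6 : zpowers z = ⊤ := top_le_iff.1 (h5 ▸ fun g _ n hn => (mem_center_iff.1 (hle hn) g).symm)
    rwa [← card_top, ← h6, Nat.card_zpowers, orderOf_eq_prime (h1.2 z (center_le_fit hz)) h0]
  · rw [← he, ← Nat.card_eq_fintype_card]; exact ep_card_dvd hep α
  · obtain ⟨-, σ, -, -, -, -, h⟩ := Lib.KS9.exists_gl_rep h1 he
    haveI := fit_normal (G := MulAction.stabilizer G α)
    refine ⟨σ.comp ((MonoidHom.id _).codRestrict _ fun x => by rw [normalizer_eq_top]; trivial), ?_⟩
    ext x
    rw [MonoidHom.mem_ker, MonoidHom.comp_apply, h, h2]; rfl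

end Cfsg.Agent.S3497
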