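import Cfsg.Statements.S4039
import Cfsg.Agent.Lib.Hall.MaxNil

set_option autoImplicit false
open Cfsg

namespace Cfsg.Agent.S4039

open scoped Pointwise commutatorElement
open Cfsg.Lib Cfsg.Lib.Hall

/-- A finite group possessing a maximal subgroup that is nilpotent of class at most 2 is solvable. -/
theorem result {G : Type*} [Group G] [Finite G]
    (M : Subgroup G) (hmax : IsCoatom M) (hnil : Group.IsNilpotent M) (hcl : Group.nilpotencyClass ↥M ≤ 2) :
    Group.IsSolvable G := by
  haveI : Fact (Nat.Prime 2) := ⟨Nat.prime_two⟩
  have := solvable_of_maxInv (K := ⊤) (A := ⊥) (M := M) (by simp) (by simp) hmax.1.lt_top bot_le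
    (fun H h1 _ _ => (hmax.le_iff.mp h1).symm) (fun S hS => by
      have h1 := (Transfer.sylowIn_iff.mp hS).1
      exact (Subgroup.commutator_mono h1 h1).trans
        ((commutator_le_centralizer_of_class_le_two hcl).trans (Core.centralizer_anti h1)))
  exact Core.isSolvable_of_equiv (Subgroup.topEquiv (G := G))

end Cfsg.Agent.S4039
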