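import Cfsg.Statements.S3501
import Cfsg.Agent.Lib.FG.ONS
import Cfsg.Agent.Lib.Coprime.Derang

set_option autoImplicit false
open Cfsg

open Subgroup Cfsg.Lib
open scoped commutatorElement
open MulAction
namespace Cfsg.Agent.S3501

/-- Let a finite group G act faithfully and primitively on a finite set Ω with at least two points, and suppose G is not almost simple (it has no non-abelian simple normal subgroup with trivial centralizer). Then the derangements of G form a single conjugacy class if and only if G is sharply 2-transitive (2-transitive, and no non-identity element fixes two points). -/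
theorem result {G : Type*} [Group G] [Finite G] {Ω : Type*} [Fintype Ω] [MulAction G Ω] [FaithfulSMul G Ω] (hΩ : 2 ≤ Fintype.card Ω) (hprim : MulAction.IsPreprimitive G Ω) (hnas : ¬ ∃ T : Subgroup G, T.Normal ∧ IsSimpleGroup T ∧ ¬ IsMulCommutative T ∧ Subgroup.centralizer (T : Set G) = ⊥) :
    Nat.card {c : ConjClasses G // ∃ g : G, ConjClasses.mk g = c ∧ ∀ ω : Ω, g • ω ≠ ω} = 1 ↔ (MulAction.IsMultiplyPretransitive G Ω 2 ∧ ∀ g : G, g ≠ 1 → ∀ a b : Ω, a ≠ b → g • a = a → g • b ≠ b) := by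
  haveI := Fintype.one_lt_card_iff_nontrivial.1 hΩ
  obtain ⟨a⟩ : Nonempty Ω := inferInstance
  refine ⟨fun h => ?_, fun ⟨h2, hs⟩ => ?_⟩
  · have hF : fittingSubgroup G ≠ ⊥ := fun e => by have := FG.three_der (Ω := Ω) e hnas; omega
    obtain ⟨r, hr, h1, h2, -, h3⟩ := FG.affine_fit hF a
    haveI := Layer.fit_normal (G := G)
    have hc : ∀ g k : G, (∀ ω : Ω, g • ω ≠ ω) → (∀ ω : Ω, k • ω ≠ ω) → IsConj g k := fun g k hg hk =>
      ConjClasses.mk_eq_mk_iff_isConj.1 (congrArg Subtype.val ((Nat.card_eq_one_iff_unique.1 h).1.elim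
        (⟨_, g, rfl, hg⟩ : {c : ConjClasses G // ∃ g : G, ConjClasses.mk g = c ∧ ∀ ω : Ω, g • ω ≠ ω}) ⟨_, k, rfl, hk⟩))
    have hd : ∀ n ∈ fittingSubgroup G, n ≠ 1 → ∀ ω : Ω, n • ω ≠ ω := fun n hn h1 ω e =>
      h1 (Perm.stabilizer_subgroup_eq_bot_iff.1 (h3 ω) n hn e)
    have ht := Perm.isPretransitive_subgroup_iff.1 h2
    refine ⟨(is_two_pretransitive_iff).2 fun {x y z w} hxy hzw => ?_, fun g hg x y hxy hx hy => hg ?_⟩
    · obtain ⟨m, hm, rfl⟩ := ht x y
      obtain ⟨n, hn, rfl⟩ := ht z w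
      obtain ⟨g, e⟩ := isConj_iff.1 (hc m n (hd m hm fun e => hxy (by simp [e])) (hd n hn fun e => hzw (by simp [e])))
      obtain ⟨k, hk, e'⟩ := ht (g • x) z
      refine ⟨k * g, by rw [mul_smul, e'], ?_⟩
      rw [← e', ← mul_smul n, Invol.commute_of_mulComm h1.1 hn hk, ← e]; simp [mul_smul]
    · obtain ⟨n, h0⟩ := ne_bot_iff_exists_ne_one.1 hF
      refine Perm.stabilizer_subgroup_eq_bot_iff.1 (h3 x) g ((closure_le _).2 (fun k hk => ?_)
        (Coprime.mem_derSub hxy hx hy)) hx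
      obtain ⟨c, rfl⟩ := isConj_iff.1 (hc n k (hd n n.2 fun e => h0 (Subtype.ext e)) hk)
      exact Normal.conj_mem inferInstance _ n.2 c
  · obtain ⟨p, j, N, -, -, -, hN, -, -, ht, hr, hm, -⟩ := Perm.sharp2_kernel h2 fun g x y hxy hx hy =>
      by_contra fun h => hs g h x y hxy hx hy
    obtain ⟨b, hb⟩ := exists_ne a
    obtain ⟨n, hn, rfl⟩ := Perm.isPretransitive_subgroup_iff.1 ht a b
    have h1 : n ≠ 1 := fun e => hb (by simp [e])
    refine Nat.card_eq_one_iff_exists.2 ⟨⟨_, n, rfl, ((hm n).1 hn).resolve_left h1⟩, ?_⟩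
    rintro ⟨_, g, rfl, hg⟩
    obtain ⟨k, -, e⟩ := Perm.exists_conj_of_regular_normal h2 a (hr a) ((hm g).2 (Or.inr hg)) hn
      (fun e => hg a (by simp [e])) h1
    exact Subtype.ext (ConjClasses.mk_eq_mk_iff_isConj.2 (isConj_iff.2 ⟨k, e⟩))

end Cfsg.Agent.S3501
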