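import Cfsg.Statements.S3504
import Cfsg.Agent.Lib.Layer.Misc

set_option autoImplicit false
open Cfsg

namespace Cfsg.Agent.S3504

open Subgroup Cfsg.Lib.Core Cfsg.Lib.Amalg Cfsg.Lib.BG1 Cfsg.Lib.Layer
theorem ct {n : ℕ} {g : Equiv.Perm (Fin n)} (hp : (orderOf g).Prime) (h : ∀ i, g i ≠ i) :
    orderOf g ∣ n ∧ g.cycleType = Multiset.replicate (n / orderOf g) (orderOf g) := by
  obtain ⟨k, hk⟩ := Equiv.Perm.cycleType_prime_order hp
  have h1 := g.sum_cycleType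
  rw [hk, Multiset.sum_replicate, Finset.eq_univ_of_forall fun i => Equiv.Perm.mem_support.2 (h i)] at h1
  simp only [smul_eq_mul, Finset.card_univ, Fintype.card_fin] at h1
  exact ⟨Dvd.intro_left _ h1, by rw [hk, Nat.div_eq_of_eq_mul_left hp.pos h1.symm]⟩

theorem ex {n p : ℕ} (hn : 0 < n) (hp : p.Prime) (h : p ∣ n) : ∃ g : Equiv.Perm (Fin n), orderOf g = p ∧ ∀ i, g i ≠ i := by
  obtain ⟨g, hg⟩ := (Equiv.Perm.exists_with_cycleType_iff (Fin n) (m := Multiset.replicate (n / p) p)).2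
    ⟨by simp [Nat.div_mul_cancel h], fun a ha => Multiset.eq_of_mem_replicate ha ▸ hp.two_le⟩
  refine ⟨g, ?_, fun i => Equiv.Perm.mem_support.1 ?_⟩
  · rw [← Equiv.Perm.lcm_cycleType, hg]
    obtain ⟨k, hk⟩ := Nat.exists_eq_succ_of_ne_zero (Nat.div_pos (Nat.le_of_dvd hn h) hp.pos).ne'
    rw [hk]
    refine Nat.dvd_antisymm (Multiset.lcm_dvd.2 fun a ha => Multiset.eq_of_mem_replicate ha ▸ dvd_rfl) (Multiset.dvd_lcm (by simp))
  · have := g.sum_cycleType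
    rw [hg, Multiset.sum_replicate, smul_eq_mul, Nat.div_mul_cancel h] at this
    rw [Finset.eq_univ_of_card g.support (by simp [← this])]
    exact Finset.mem_univ i


/-- For n ≥ 5, the fixed-point-free permutations of prime order in the symmetric group of degree n form a single conjugacy class if and only if n is a prime power. -/
theorem result (n : ℕ) (hn : 5 ≤ n) :
    Nat.card {c : ConjClasses (Equiv.Perm (Fin n)) // ∃ g : Equiv.Perm (Fin n), ConjClasses.mk g = c ∧ (orderOf g).Prime ∧ ∀ i : Fin n, g i ≠ i} = 1 ↔ IsPrimePow n := by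
  rw [isPrimePow_iff_unique_prime_dvd, Nat.card_eq_one_iff_exists]
  constructor
  · rintro ⟨⟨_, g, rfl, hp, h⟩, hu⟩
    refine ⟨orderOf g, ⟨hp, (ct hp h).1⟩, fun q ⟨hq, hd⟩ => ?_⟩
    obtain ⟨k, rfl, hk⟩ := ex (by omega) hq hd
    have := ConjClasses.mk_eq_mk_iff_isConj.1 (congrArg Subtype.val (hu ⟨_, k, rfl, hq, hk⟩))
    rw [← Equiv.Perm.lcm_cycleType, ← Equiv.Perm.lcm_cycleType, Equiv.Perm.isConj_iff_cycleType_eq.1 this]
  · rintro ⟨p, ⟨hp, hd⟩, hu⟩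
    obtain ⟨g, rfl, hg⟩ := ex (by omega) hp hd
    refine ⟨⟨_, g, rfl, hp, hg⟩, ?_⟩
    rintro ⟨_, k, rfl, hq, hk⟩
    refine Subtype.ext (ConjClasses.mk_eq_mk_iff_isConj.2 (Equiv.Perm.isConj_iff_cycleType_eq.2 ?_))
    rw [(ct hq hk).2, (ct hp hg).2, hu _ ⟨hq, (ct hq hk).1⟩]

end Cfsg.Agent.S3504
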