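import Cfsg.Statements.S3508
import Cfsg.Agent.Lib.Layer.Misc
import Cfsg.Agent.Lib.Layer.FrobC

set_option autoImplicit false
open Cfsg

namespace Cfsg.Agent.S3508

open Subgroup Cfsg.Lib.Core Cfsg.Lib.Amalg Cfsg.Lib.BG1 Cfsg.Lib.Layer
open Polynomial in
theorem geom {p : ℕ} [hp : Fact p.Prime] {A : Type*} [Ring A] [Algebra (ZMod p) A] (S : A) (k : ℕ) :
    ∑ i ∈ Finset.range (p ^ k), S ^ i = (S - 1) ^ (p ^ k - 1) ∧ (S - 1) ^ p ^ k = S ^ p ^ k - 1 := by
  have h1 : ((X : (ZMod p)[X]) - 1) ^ p ^ k = X ^ p ^ k - 1 := by rw [sub_pow_char_pow, one_pow]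
  have h2 : ∑ i ∈ Finset.range (p ^ k), (X : (ZMod p)[X]) ^ i = (X - 1) ^ (p ^ k - 1) := by
    refine mul_left_cancel₀ (X_sub_C_ne_zero 1) ?_
    rw [C_1, mul_geom_sum, ← h1, ← pow_succ', Nat.sub_add_cancel (Nat.one_le_pow _ _ hp.out.pos)]
  exact ⟨by simpa using congrArg (aeval S) h2, by simpa using congrArg (aeval S) h1⟩

theorem key {G N : Type*} [Group G] [CommGroup N] [Finite N] {p m r k : ℕ} [hp : Fact p.Prime] [Module (ZMod p) (Additive N)]
    (hN : Nat.card N = p ^ m) (φ : G →* MulAut N) {g : G} (hg : g ^ p ^ r = 1) (hk : m < p ^ k) (n : N) :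
    φ (g ^ p ^ k) n = n ∧ ∏ i ∈ Finset.range (p ^ k), φ (g ^ i) n = 1 := by
  have h1 : Module.finrank (ZMod p) (Additive N) = m := by
    have := Module.natCard_eq_pow_finrank (K := ZMod p) (V := Additive N)
    rw [Nat.card_zmod] at this
    exact Nat.pow_right_injective hp.out.two_le (this.symm.trans hN)
  have h2 : IsNilpotent (linRep p φ g - 1) := ⟨p ^ r, by rw [(geom (p := p) _ r).2, ← map_pow, hg, map_one, sub_self]⟩
  have h3 : (linRep p φ g - 1) ^ m = 0 := by
    have := LinearMap.aeval_self_charpoly (linRep p φ g - 1)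
    rwa [h2.charpoly_eq_X_pow_finrank, h1, map_pow, Polynomial.aeval_X] at this
  obtain ⟨h4, h5⟩ := geom (p := p) (linRep p φ g) k
  rw [pow_eq_zero_of_le (by omega) h3] at h4 h5
  constructor
  · rw [eq_comm, sub_eq_zero, ← map_pow] at h5
    exact congrArg Additive.toMul (LinearMap.congr_fun h5 (Additive.ofMul n))
  · have := congrArg Additive.toMul (LinearMap.congr_fun h4 (Additive.ofMul n))
    simpa [← map_pow, linRep_apply, toMul_sum] using this


/-- Let a finite group G act faithfully on a set Ω with p ^ m points (p prime) and have an elementary abelian normal p-subgroup N acting regularly on Ω (so G is a group of affine transformations of an m-dimensional space over the field with p elements). If G contains an element of order p ^ r with r ≥ 1, then p ^ (r − 1) ≤ m. In particular an element of order p ^ m forces m ≤ 2, and m ≤ 1 when p is odd. -/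
theorem result {G : Type*} [Group G] [Finite G] {Ω : Type*} [Fintype Ω] [MulAction G Ω] [FaithfulSMul G Ω] (p m : ℕ) (hp : p.Prime) (hcard : Fintype.card Ω = p ^ m)
    (N : Subgroup G) [N.Normal] (hNc : IsMulCommutative N) (hNp : ∀ n ∈ N, n ^ p = 1)
    (hNtr : MulAction.IsPretransitive N Ω) (hNreg : ∀ ω : Ω, MulAction.stabilizer N ω = ⊥)
    (g : G) (r : ℕ) (hr : 1 ≤ r) (hg : orderOf g = p ^ r) :
    p ^ (r - 1) ≤ m ∧ (r = m → m ≤ 2 ∧ (2 < p → m ≤ 1)) := by
  have := Fact.mk hp
  have h0 : p ^ (r - 1) ≤ m := by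
    by_contra hl
    have : Nonempty Ω := Fintype.card_pos_iff.1 (hcard ▸ pow_pos hp.pos m)
    obtain ⟨ω⟩ := this
    have hN : Nat.card N = p ^ m := by
      rw [← hcard, ← Nat.card_eq_fintype_card, ← MulAction.index_stabilizer_of_transitive N ω, hNreg, index_bot]
    letI : CommGroup N := IsMulCommutative.instCommGroup
    obtain ⟨n, hn⟩ := hNtr.exists_smul_eq ω (g • ω)
    obtain ⟨s, rfl⟩ : ∃ s, g = n * s := ⟨n.1⁻¹ * g, by simp⟩
    have hs : s • ω = ω := by rw [mul_smul] at hn; exact (smul_left_cancel _ hn).symm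
    have h1 : ∀ k : ℕ, (n * s : G) ^ k = (∏ i ∈ Finset.range k, MulAut.conjNormal ((n * s : G) ^ i) n : N) * s ^ k := fun k => by
      induction k with
      | zero => simp
      | succ k ih =>
        rw [Finset.prod_range_succ, mul_comm (Finset.prod _ _), coe_mul, pow_succ s, mul_assoc, ← mul_assoc _ (s ^ k), ← ih]
        rw [MulAut.conjNormal_apply, pow_succ]; group
    have h2 := fun n => @key G N _ _ _ p m r (r - 1) _ (AddCommGroup.zmodModule fun v => Subtype.ext (hNp _ v.toMul.2)) hN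
      MulAut.conjNormal _ (hg ▸ pow_orderOf_eq_one _) (not_le.1 hl) n
    have h3 : ((n * s : G) ^ p ^ (r - 1)) • ω = ω := by
      rw [h1, (h2 n).2, coe_one, one_mul]; exact pow_mem (show s ∈ MulAction.stabilizer G ω from hs) _
    have h4 : (n * s : G) ^ p ^ (r - 1) = 1 := FaithfulSMul.eq_of_smul_eq_smul (α := Ω) fun c => by
      obtain ⟨u, rfl⟩ := hNtr.exists_smul_eq ω c
      have : (n * s : G) ^ p ^ (r - 1) * u.1 * ((n * s : G) ^ p ^ (r - 1))⁻¹ = u.1 := congrArg Subtype.val (h2 u).1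
      show _ • u.1 • ω = (1 : G) • u.1 • ω
      rw [← mul_smul, mul_inv_eq_iff_eq_mul.1 this, mul_smul, h3, one_smul]
    have := orderOf_dvd_of_pow_eq_one h4
    rw [hg, Nat.pow_dvd_pow_iff_le_right hp.one_lt] at this
    omega
  refine ⟨h0, ?_⟩
  rintro rfl
  obtain ⟨k, rfl⟩ : ∃ k, r = k + 1 := ⟨r - 1, by omega⟩
  rw [Nat.add_sub_cancel] at h0
  have h1 := one_add_mul_le_pow (a := (p : ℤ) - 1) (by have := hp.pos; omega) k
  have h2 : ((p : ℤ)) ^ k ≤ k + 1 := by exact_mod_cast h0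
  rw [add_sub_cancel] at h1
  refine ⟨?_, fun h => by nlinarith⟩
  by_contra h
  obtain ⟨j, rfl⟩ : ∃ j, k = j + 2 := ⟨k - 2, by omega⟩
  have := (Nat.pow_le_pow_left hp.two_le _).trans h0
  have := @Nat.lt_two_pow_self j
  rw [pow_add] at *
  omega

end Cfsg.Agent.S3508
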