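import Cfsg.Statements.S3511
import Cfsg.Agent.Lib.Layer.Misc
import Cfsg.Agent.Lib.PGrp.Cyclic
import Mathlib.RingTheory.Radical.NatInt

set_option autoImplicit false
open Cfsg

namespace Cfsg.Agent.S3511

open Subgroup Cfsg.Lib.Core Cfsg.Lib.Amalg Cfsg.Lib.BG1 Cfsg.Lib.Layer

/-- Let a finite group G act faithfully on a set Ω. If every element of G of square-free order has a regular cycle (an orbit of the cyclic group it generates with trivial stabilizer), then every element of G has a regular cycle. -/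
theorem result {G : Type*} [Group G] [Finite G] {Ω : Type*} [MulAction G Ω] [FaithfulSMul G Ω]
    (h : ∀ g : G, Squarefree (orderOf g) → ∃ ω : Ω, MulAction.stabilizer (Subgroup.zpowers g) ω = ⊥) (g : G) :
    ∃ ω : Ω, MulAction.stabilizer (Subgroup.zpowers g) ω = ⊥ := by
  have hn := (orderOf_pos g).ne'
  obtain ⟨k, hk⟩ := UniqueFactorizationMonoid.radical_dvd_self (a := orderOf g)
  have hk0 : k ≠ 0 := by rintro rfl; simp [hn] at hk
  have ho : orderOf (g ^ k) = UniqueFactorizationMonoid.radical (orderOf g) := by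
    rw [orderOf_pow_of_dvd hk0 ⟨_, hk.trans (mul_comm _ _)⟩]
    exact Nat.div_eq_of_eq_mul_left (Nat.pos_of_ne_zero hk0) hk
  obtain ⟨ω, hω⟩ := h (g ^ k) (ho ▸ UniqueFactorizationMonoid.squarefree_radical)
  refine ⟨ω, ?_⟩
  by_contra hne
  obtain ⟨p, hp, hd⟩ := Nat.exists_prime_and_dvd (mt card_eq_one.1 hne)
  have : Fact p.Prime := ⟨hp⟩
  obtain ⟨x, hx⟩ := exists_prime_orderOf_dvd_card' p hd
  rw [← orderOf_coe, ← orderOf_coe] at hx
  have h1 : zpowers (x.1 : G) ≤ zpowers (g ^ k) := by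
    refine Lib.PGrp.le_of_card_dvd_of_isCyclic (C := zpowers g) inferInstance (zpowers_le.2 x.1.2)
      (zpowers_le.2 (pow_mem (mem_zpowers g) k)) ?_
    rw [Nat.card_zpowers, Nat.card_zpowers, ho, hx]
    rw [UniqueFactorizationMonoid.dvd_radical_iff_of_irreducible hp.prime.irreducible hn, ← hx]
    exact orderOf_dvd_of_mem_zpowers x.1.2
  have : (⟨x.1, h1 (mem_zpowers _)⟩ : zpowers (g ^ k)) ∈ MulAction.stabilizer (zpowers (g ^ k)) ω := x.2
  rw [hω, mem_bot] at this
  rw [show (x.1 : G) = 1 from congrArg Subtype.val this, orderOf_one] at hx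
  exact hp.one_lt.ne hx

end Cfsg.Agent.S3511
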