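import Cfsg.Statements.S3514
import Cfsg.Agent.Lib.Layer.Misc
import Cfsg.Agent.Lib.Layer.PTerm2

set_option autoImplicit false
open Cfsg

namespace Cfsg.Agent.S3514

open Subgroup Cfsg.Lib.Core Cfsg.Lib.Amalg Cfsg.Lib.BG1 Cfsg.Lib.Layer
theorem dv {G : Type*} [Group G] [Finite G] (S K : Subgroup G) [K.Normal] : S.relIndex K ∣ S.index := by
  obtain ⟨c, hc⟩ := relIndex_dvd_index_of_normal K S
  have h1 := relIndex_mul_index (inf_le_right : S ⊓ K ≤ K)
  have h2 := relIndex_mul_index (inf_le_left : S ⊓ K ≤ S)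
  rw [inf_relIndex_right, hc, ← h2, inf_relIndex_left, mul_left_comm] at h1
  exact ⟨c, (Nat.eq_of_mul_eq_mul_left (Nat.pos_of_ne_zero (index_ne_zero_of_finite (H := K.subgroupOf S))) h1).symm⟩

theorem co {p : ℕ} [Fact p.Prime] {V : Type*} [AddCommGroup V] [Module (ZMod p) V] (H : Subgroup (V ≃ₗ[ZMod p] V)) (v : V) :
    Nat.card {u : V | ∃ h ∈ H, h v = u} = (MulAction.stabilizer (V ≃ₗ[ZMod p] V) v).relIndex H := by
  have : {u : V | ∃ h ∈ H, h v = u} = MulAction.orbit H v := by
    ext u; exact ⟨fun ⟨h, hh, e⟩ => ⟨⟨h, hh⟩, e⟩, fun ⟨h, e⟩ => ⟨h, h.2, e⟩⟩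
  rw [this, Nat.card_coe_set_eq, ← MulAction.index_stabilizer]; rfl


/-- Let p be a prime, V a finite vector space over the field with p elements, and H a group of linear transformations of V all of whose orbits on V have size coprime to p. (i) Every normal subgroup K of H has all its orbits on V of size coprime to p. (ii) If N is a group of linear transformations of V of order coprime to p that is normalized by H, then the group generated by N and H has all its orbits on V of size coprime to p. -/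
theorem result (p : ℕ) [Fact p.Prime] {V : Type*} [AddCommGroup V] [Module (ZMod p) V] [Finite V]
    (H : Subgroup (V ≃ₗ[ZMod p] V)) (hH : ∀ v : V, ¬ p ∣ Nat.card {u : V | ∃ h ∈ H, h v = u}) :
    (∀ K : Subgroup (V ≃ₗ[ZMod p] V), K ≤ H → H ≤ Subgroup.normalizer (K : Set (V ≃ₗ[ZMod p] V)) →
        ∀ v : V, ¬ p ∣ Nat.card {u : V | ∃ k ∈ K, k v = u}) ∧
    (∀ N : Subgroup (V ≃ₗ[ZMod p] V), ¬ p ∣ Nat.card N → H ≤ Subgroup.normalizer (N : Set (V ≃ₗ[ZMod p] V)) →
        ∀ v : V, ¬ p ∣ Nat.card {u : V | ∃ x ∈ N ⊔ H, x v = u}) := by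
  have : Finite (V ≃ₗ[ZMod p] V) := Finite.of_injective _ DFunLike.coe_injective
  simp only [co] at hH ⊢
  refine ⟨fun K hK hn v d => hH v (d.trans ?_), fun N hN hn v d => ?_⟩
  · set S := MulAction.stabilizer (V ≃ₗ[ZMod p] V) v
    have := (normal_subgroupOf_iff_le_normalizer hK).2 hn
    rw [← relIndex_subgroupOf hK]
    exact dv _ _
  · set S := MulAction.stabilizer (V ≃ₗ[ZMod p] V) v
    have h1 := d.trans (relIndex_dvd_of_le_left (N ⊔ H) (inf_le_left : S ⊓ H ≤ S))
    rw [← relIndex_mul_relIndex _ H _ inf_le_right le_sup_right, inf_relIndex_right] at h1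
    exact ((Fact.out : p.Prime).dvd_mul.1 h1).elim (hH v) fun e => hN (e.trans (relIndex_sup_dvd hn))

end Cfsg.Agent.S3514
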