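import Cfsg.Statements.S3515
import Cfsg.Agent.Lib.Layer.Misc

set_option autoImplicit false
open Cfsg

namespace Cfsg.Agent.S3515

open Subgroup Cfsg.Lib.Core Cfsg.Lib.Amalg Cfsg.Lib.BG1 Cfsg.Lib.Layer
theorem four (s t : Equiv.Perm (Fin 2 → ZMod 2)) (e0 : s 0 = t 0) (e1 : s (Pi.single 0 1) = t (Pi.single 0 1))
    (e2 : s (Pi.single 1 1) = t (Pi.single 1 1)) : s = t := by
  have h4 : ∀ x : Fin 2 → ZMod 2, x = 0 ∨ x = Pi.single 0 1 ∨ x = Pi.single 1 1 ∨ x = 1 := by decide
  have e3 : s 1 = t 1 := by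
    obtain ⟨y, hy⟩ := t.surjective (s 1)
    rcases h4 y with rfl | rfl | rfl | rfl
    · exact absurd (s.injective (e0.trans hy)) (by decide)
    · exact absurd (s.injective (e1.trans hy)) (by decide)
    · exact absurd (s.injective (e2.trans hy)) (by decide)
    · exact hy.symm
  ext1 x
  rcases h4 x with rfl | rfl | rfl | rfl <;> assumption

theorem affine {p : ℕ} [Fact p.Prime] (hp : p ≠ 2) {V : Type*} [AddCommGroup V] [Module (ZMod p) V] (σ : Equiv.Perm V)
    (h : ∀ t : Fin 3 → V, ∃ (A : V ≃ₗ[ZMod p] V) (b : V), ∀ i, σ (t i) = A (t i) + b) :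
    ∃ (A : V ≃ₗ[ZMod p] V), ∀ x, σ x = A x + σ 0 := by
  have h1 : ∀ (c : ZMod p) x y, σ (c • x + (1 - c) • y) = c • σ x + (1 - c) • σ y := fun c x y => by
    obtain ⟨A, b, e⟩ := h ![x, y, c • x + (1 - c) • y]
    have e0 := e 0
    have e1 := e 1
    have e2 := e 2
    simp only [Matrix.cons_val] at e0 e1 e2
    rw [e0, e1, e2, map_add, map_smul, map_smul]
    module
  have h2 : (2 : ZMod p) ≠ 0 := fun e =>
    hp ((Nat.prime_dvd_prime_iff_eq Fact.out Nat.prime_two).1 ((ZMod.natCast_eq_zero_iff 2 p).1 e))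
  have hs : ∀ (c : ZMod p) x, σ (c • x) - σ 0 = c • (σ x - σ 0) := fun c x => by
    have := h1 c x 0
    rw [smul_zero, add_zero] at this
    rw [this]; module
  have ha : ∀ x y, σ (x + y) - σ 0 = (σ x - σ 0) + (σ y - σ 0) := fun x y => by
    have e : (1 : ZMod p) - 2⁻¹ = 2⁻¹ := by field_simp; ring
    have h3 := h1 2⁻¹ x y
    have h4 := hs 2 ((2 : ZMod p)⁻¹ • x + (1 - (2 : ZMod p)⁻¹) • y)
    rw [h3, e, ← smul_add, ← smul_add, smul_inv_smul₀ h2, smul_sub, smul_inv_smul₀ h2] at h4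
    rw [h4]; module
  exact ⟨{ σ.trans (Equiv.subRight (σ 0)) with map_add' := ha, map_smul' := hs }, fun x => (sub_add_cancel _ _).symm⟩


/-- Every primitive affine permutation group of degree p² is 3-closed. Let p be a prime and G a group of permutations of the plane V = F_p² consisting of affine maps x ↦ Ax + b, containing all translations, and acting primitively on V. Then any permutation σ of V that agrees on every triple of points with some element of G (σ preserves every G-orbit on ordered triples) already lies in G. -/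
theorem result (p : ℕ) [Fact p.Prime] (G : Subgroup (Equiv.Perm (Fin 2 → ZMod p)))
    (haff : (G : Set (Equiv.Perm (Fin 2 → ZMod p))) ⊆ {τ : Equiv.Perm (Fin 2 → ZMod p) | ∃ (A : (Fin 2 → ZMod p) ≃ₗ[ZMod p] (Fin 2 → ZMod p)) (b : Fin 2 → ZMod p), ∀ x, τ x = A x + b})
    (htrans : ∀ b : Fin 2 → ZMod p, ∃ g ∈ G, ∀ x, g x = x + b) (hprim : MulAction.IsPreprimitive G (Fin 2 → ZMod p))
    (σ : Equiv.Perm (Fin 2 → ZMod p)) (hσ : (∀ t : Fin 3 → (Fin 2 → ZMod p), ∃ g ∈ G, ∀ i, σ (t i) = g (t i))) : σ ∈ G := by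
  obtain ⟨g, hg, e⟩ := hσ ![0, Pi.single 0 1, Pi.single 1 1]
  have e0 := e 0
  have e1 := e 1
  have e2 := e 2
  simp only [Matrix.cons_val] at e0 e1 e2
  suffices σ = g from this ▸ hg
  by_cases hp : p = 2
  · subst hp
    exact four σ g e0 e1 e2
  obtain ⟨A, hA⟩ := affine hp σ fun t => by
    obtain ⟨k, hk, e⟩ := hσ t
    obtain ⟨A, b, h⟩ := haff hk
    exact ⟨A, b, fun i => (e i).trans (h _)⟩
  obtain ⟨B, b, hB⟩ := haff hg
  obtain rfl : b = σ 0 := by rw [e0, hB]; simp
  rw [hA, hB, add_left_inj] at e1 e2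
  have : A = B := LinearEquiv.toLinearMap_injective (LinearMap.pi_ext' fun i => LinearMap.ext_ring (by
    fin_cases i
    exacts [e1, e2]))
  ext1 x
  rw [hA, hB, this]

end Cfsg.Agent.S3515
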