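import Cfsg.Statements.S3516
import Cfsg.Agent.Lib.Layer.Misc
import Cfsg.Agent.S3515
import Mathlib.LinearAlgebra.Transvection.Basic

set_option autoImplicit false
open Cfsg

namespace Cfsg.Agent.S3516

open Subgroup Cfsg.Lib.Core Cfsg.Lib.Amalg Cfsg.Lib.BG1 Cfsg.Lib.Layer

/-- Let p be an odd prime, d ≥ 3, and G a group of affine permutations x ↦ Ax + b of V = F_p^d containing all translations and all maps x ↦ Ax with A of determinant 1. Then the 3-closure of G is the full affine group: a permutation σ of V agrees on every triple of points with some element of G if and only if σ is an affine map. -/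
theorem result (p : ℕ) [Fact p.Prime] (hp : p ≠ 2) (d : ℕ) (hd : 3 ≤ d) (G : Subgroup (Equiv.Perm (Fin d → ZMod p)))
    (haff : (G : Set (Equiv.Perm (Fin d → ZMod p))) ⊆ {τ : Equiv.Perm (Fin d → ZMod p) | ∃ (A : (Fin d → ZMod p) ≃ₗ[ZMod p] (Fin d → ZMod p)) (b : Fin d → ZMod p), ∀ x, τ x = A x + b})
    (htrans : ∀ b : Fin d → ZMod p, ∃ g ∈ G, ∀ x, g x = x + b)
    (hsl : ∀ A : (Fin d → ZMod p) ≃ₗ[ZMod p] (Fin d → ZMod p), LinearMap.det (A : (Fin d → ZMod p) →ₗ[ZMod p] (Fin d → ZMod p)) = 1 → ∃ g ∈ G, ∀ x, g x = A x)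
    (σ : Equiv.Perm (Fin d → ZMod p)) :
    (∀ t : Fin 3 → (Fin d → ZMod p), ∃ g ∈ G, ∀ i, σ (t i) = g (t i)) ↔ σ ∈ {τ : Equiv.Perm (Fin d → ZMod p) | ∃ (A : (Fin d → ZMod p) ≃ₗ[ZMod p] (Fin d → ZMod p)) (b : Fin d → ZMod p), ∀ x, τ x = A x + b} := by
  refine ⟨fun h => ?_, ?_⟩
  · obtain ⟨A, hA⟩ := S3515.affine hp σ fun t => by
      obtain ⟨k, hk, e⟩ := h t
      obtain ⟨A, b, h⟩ := haff hk
      exact ⟨A, b, fun i => (e i).trans (h _)⟩
    exact ⟨A, _, hA⟩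
  rintro ⟨A, b, hA⟩ t
  have h1 : Submodule.span (ZMod p) (Set.range ![t 1 - t 0, t 2 - t 0]) < ⊤ := by
    refine lt_top_iff_ne_top.2 fun e => ?_
    have := finrank_range_le_card (R := ZMod p) ![t 1 - t 0, t 2 - t 0]
    rw [Set.finrank, e] at this
    simp at this; omega
  obtain ⟨f, f0, hf⟩ := Submodule.exists_le_ker_of_lt_top _ h1
  obtain ⟨w, hw⟩ := LinearMap.surjective_of_ne_zero f0 1
  set c := LinearMap.det (A : (Fin d → ZMod p) →ₗ[ZMod p] (Fin d → ZMod p))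
  have c0 : c ≠ 0 := A.isUnit_det'.ne_zero
  let D := LinearMap.transvection f ((c⁻¹ - 1) • w)
  have hD : LinearMap.det (A.toLinearMap ∘ₗ D) = 1 := by
    rw [LinearMap.det_comp, LinearMap.transvection.det, map_smul, hw]
    simp [c, mul_inv_cancel₀ c0]
  obtain ⟨g, hg, e⟩ := hsl (LinearMap.equivOfDetNeZero (A.toLinearMap ∘ₗ D) (hD ▸ one_ne_zero)) hD
  obtain ⟨k, hk, e'⟩ := htrans (A (t 0) + b)
  obtain ⟨l, hl, e''⟩ := htrans (-t 0)
  refine ⟨k * g * l, mul_mem (mul_mem hk hg) hl, fun i => ?_⟩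
  have : f (t i - t 0) = 0 := by
    fin_cases i
    · simp
    · exact hf (Submodule.subset_span ⟨0, rfl⟩)
    · exact hf (Submodule.subset_span ⟨1, rfl⟩)
  rw [Equiv.Perm.mul_apply, Equiv.Perm.mul_apply, e', e, e'', hA, ← sub_eq_add_neg]
  show _ = A (D (t i - t 0)) + _
  rw [LinearMap.transvection.apply, this, zero_smul, add_zero, map_sub]
  abel

end Cfsg.Agent.S3516
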