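import Cfsg.Statements.S3517
import Cfsg.Agent.Lib.Layer.Misc

set_option autoImplicit false
open Cfsg

namespace Cfsg.Agent.S3517

open Subgroup Cfsg.Lib.Core Cfsg.Lib.Amalg Cfsg.Lib.BG1 Cfsg.Lib.Layer
theorem ext {V ι : Type*} [AddCommGroup V] [Module (ZMod 2) V] [Finite V] {u v : ι → V} (hu : LinearIndependent (ZMod 2) u)
    (hv : LinearIndependent (ZMod 2) v) : ∃ A : V ≃ₗ[ZMod 2] V, ∀ i, A (u i) = v i := by
  obtain ⟨g, hg⟩ := Submodule.exists_linearEquiv_restrict_eq (hu.linearCombinationEquiv.symm ≪≫ₗ hv.linearCombinationEquiv)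
  refine ⟨g, fun i => ?_⟩
  have := hg (hu.linearCombinationEquiv (Finsupp.single i 1))
  simpa using this.symm

theorem li {V : Type*} [AddCommGroup V] [Module (ZMod 2) V] {u v : V} (hu : u ≠ 0) (hv : v ≠ 0) (h : u ≠ v) :
    LinearIndependent (ZMod 2) ![u, v] := by
  rw [LinearIndependent.pair_iff' hu]
  intro a
  fin_cases a
  · exact fun e => hv (e.symm.trans (zero_smul (ZMod 2) u))
  · exact fun e => h ((one_smul (ZMod 2) u).symm.trans e)

theorem two {V : Type*} [AddCommGroup V] [Module (ZMod 2) V] [Finite V] {u v u' v' : V} (h1 : u = 0 ↔ u' = 0) (h2 : v = 0 ↔ v' = 0)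
    (h3 : u = v ↔ u' = v') : ∃ A : V ≃ₗ[ZMod 2] V, A u = u' ∧ A v = v' := by
  have one : ∀ u u' : V, (u = 0 ↔ u' = 0) → ∃ A : V ≃ₗ[ZMod 2] V, A u = u' := fun u u' h => by
    by_cases e : u = 0
    · exact ⟨1, by rw [e, h.1 e, map_zero]⟩
    obtain ⟨A, hA⟩ := ext (u := fun _ : Unit => u) (v := fun _ => u') (linearIndependent_unique_iff.2 e)
      (linearIndependent_unique_iff.2 (mt h.2 e))
    exact ⟨A, hA ()⟩
  by_cases e1 : u = 0
  · obtain ⟨A, hA⟩ := one v v' h2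
    exact ⟨A, by rw [e1, h1.1 e1, map_zero], hA⟩
  obtain ⟨A, hA⟩ := one u u' h1
  by_cases e2 : v = 0
  · exact ⟨A, hA, by rw [e2, h2.1 e2, map_zero]⟩
  by_cases e3 : u = v
  · exact ⟨A, hA, by rw [← e3, ← h3.1 e3, hA]⟩
  obtain ⟨B, hB⟩ := ext (li e1 e2 e3) (li (mt h1.2 e1) (mt h2.2 e2) (mt h3.2 e3))
  exact ⟨B, hB 0, hB 1⟩


/-- For d ≥ 3, the 3-closure of the affine group AGL_d(2) acting on F_2^d is the full symmetric group: every permutation of F_2^d agrees on every ordered triple of points with some affine map (AGL_d(2) is 3-transitive). -/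
theorem result (d : ℕ) (hd : 3 ≤ d) (σ : Equiv.Perm (Fin d → ZMod 2)) (t : Fin 3 → (Fin d → ZMod 2)) :
    ∃ (A : (Fin d → ZMod 2) ≃ₗ[ZMod 2] (Fin d → ZMod 2)) (b : Fin d → ZMod 2), ∀ i, σ (t i) = A (t i) + b := by
  obtain ⟨A, h1, h2⟩ := two (u := t 1 - t 0) (v := t 2 - t 0) (u' := σ (t 1) - σ (t 0)) (v' := σ (t 2) - σ (t 0))
    (by simp [sub_eq_zero]) (by simp [sub_eq_zero]) (by simp)
  refine ⟨A, σ (t 0) - A (t 0), fun i => ?_⟩
  rw [map_sub] at h1 h2
  fin_cases i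
  · simp
  · show σ (t 1) = A (t 1) + _
    linear_combination -h1
  · show σ (t 2) = A (t 2) + _
    linear_combination -h2

end Cfsg.Agent.S3517
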