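import Cfsg.Statements.S3518
import Cfsg.Agent.Lib.Perm.Heart

set_option autoImplicit false
open Cfsg

namespace Cfsg.Agent.S3518

theorem ext01 {F : Type*} [Ring F] {σ τ : Equiv.Perm F} {a b c d : F} (h1 : ∀ x, σ x = a * x + b)
    (h2 : ∀ x, τ x = c * x + d) (e0 : σ 0 = τ 0) (e1 : σ 1 = τ 1) : σ = τ := by
  simp only [h1, h2, mul_zero, zero_add, mul_one] at e0 e1
  exact Equiv.ext fun x => by rw [h1, h2, e0, add_right_cancel (e0 ▸ e1 : a + d = c + d)]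

/-- Closures of subgroups of the one-dimensional affine group. Let p be a prime and G a group of permutations of F_p lying in the affine group AGL₁(p) = {x ↦ ax + b, a ≠ 0} and containing all translations. (1) If G is a proper subgroup of AGL₁(p), then G is 2-closed: a permutation of F_p agreeing on every ordered pair of points with some element of G lies in G. (2) Every permutation of F_p agrees on every ordered pair with some element of AGL₁(p) (the 2-closure of AGL₁(p) is the symmetric group). (3) AGL₁(p) is 3-closed: a permutation agreeing on every ordered triple with some affine map is affine. -/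
theorem result (p : ℕ) [Fact p.Prime] (G : Subgroup (Equiv.Perm (ZMod p))) (hG : G ≤ Cfsg.affineGroup (ZMod p))
    (htrans : ∀ b : ZMod p, ∃ g ∈ G, ∀ x, g x = x + b) :
    (G ≠ Cfsg.affineGroup (ZMod p) → ∀ σ : Equiv.Perm (ZMod p), (∀ t : Fin 2 → ZMod p, ∃ g ∈ G, ∀ i, σ (t i) = g (t i)) → σ ∈ G) ∧
    (∀ σ : Equiv.Perm (ZMod p), (∀ t : Fin 2 → ZMod p, ∃ g ∈ Cfsg.affineGroup (ZMod p), ∀ i, σ (t i) = g (t i))) ∧
    (∀ σ : Equiv.Perm (ZMod p), (∀ t : Fin 3 → ZMod p, ∃ g ∈ Cfsg.affineGroup (ZMod p), ∀ i, σ (t i) = g (t i)) → σ ∈ Cfsg.affineGroup (ZMod p)) := by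
  refine ⟨fun hne σ hσ => ?_, fun σ t => ?_, fun σ h => ⟨Units.mk0 (σ 1 - σ 0)
    (sub_ne_zero.2 (σ.injective.ne one_ne_zero)), σ 0, fun x => ?_⟩⟩
  · let K : Subgroup (Equiv.Perm (ZMod p)) :=
      ⟨⟨⟨{σ | ∀ t : Fin 2 → ZMod p, ∃ g ∈ G, ∀ i, σ (t i) = g (t i)}, fun {σ τ} h1 h2 t => by
        obtain ⟨g, a1, a2⟩ := h1 (τ ∘ t)
        obtain ⟨k, b1, b2⟩ := h2 t
        exact ⟨g * k, mul_mem a1 b1, fun i => (a2 i).trans (congrArg g (b2 i))⟩⟩,
        fun _ => ⟨1, one_mem _, fun _ => rfl⟩⟩, fun {σ} h t => by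
        obtain ⟨g, a1, a2⟩ := h (σ.symm ∘ t)
        exact ⟨g⁻¹, inv_mem a1, fun i => g.eq_symm_apply.2 ((a2 i).symm.trans (σ.apply_symm_apply _))⟩⟩
    obtain ⟨c, h1, h2⟩ := htrans 1
    rcases Lib.Perm.affine_or_two_transitive (G := K) (c := ⟨c, fun _ => ⟨c, h1, fun _ => rfl⟩⟩)
      (e := Equiv.refl _) h2 with h | h
    · obtain ⟨a, b, h3⟩ := h ⟨σ, hσ⟩
      obtain ⟨g, h4, h5⟩ := hσ ![0, 1]
      obtain ⟨_, _, h6⟩ := hG h4
      exact (ext01 (σ := σ) h3 h6 (h5 0) (h5 1)).symm ▸ h4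
    · refine (hne (hG.antisymm fun τ ⟨_, _, h3⟩ => ?_)).elim
      obtain ⟨k, e0, e1⟩ := MulAction.is_two_pretransitive_iff.1 h zero_ne_one (τ.injective.ne zero_ne_one)
      obtain ⟨g, h4, h5⟩ := k.2 ![0, 1]
      obtain ⟨_, _, h6⟩ := hG h4
      exact ext01 h3 h6 (e0.symm.trans (h5 0)) (e1.symm.trans (h5 1)) ▸ h4
  · by_cases h : t 1 = t 0
    · exact ⟨Equiv.addRight (σ (t 0) - t 0), ⟨1, σ (t 0) - t 0, by simp⟩, Fin.forall_fin_two.2 (by simp [h])⟩
    · have h1 := sub_ne_zero.2 h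
      have h2 := div_ne_zero (sub_ne_zero.2 (σ.injective.ne h)) h1
      refine ⟨(Equiv.mulLeft₀ _ h2).trans (Equiv.addRight (σ (t 0) - (σ (t 1) - σ (t 0)) / (t 1 - t 0) * t 0)),
        ⟨Units.mk0 _ h2, _, fun _ => rfl⟩, Fin.forall_fin_two.2 ⟨by simp, ?_⟩⟩
      simp only [Equiv.trans_apply, Equiv.mulLeft₀_apply, Equiv.coe_addRight]
      field_simp
      ring
  · obtain ⟨g, ⟨a, b, h1⟩, h2⟩ := h ![0, 1, x]
    have e0 : σ 0 = g 0 := h2 0
    have e1 : σ 1 = g 1 := h2 1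
    have e2 : σ x = g x := h2 2
    simp [e0, e1, e2, h1]

end Cfsg.Agent.S3518
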