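import Cfsg.Statements.S3520
import Cfsg.Agent.Lib.FG.ONS
import Cfsg.Agent.Lib.Coprime.Derang

set_option autoImplicit false
open Cfsg

open Subgroup Cfsg.Lib
open scoped commutatorElement
open MulAction
namespace Cfsg.Agent.S3520

/-- Let a finite group G act faithfully and primitively on a finite set Ω with at least two points, suppose G is not almost simple (no non-abelian simple normal subgroup with trivial centralizer), and suppose the derangements of G form exactly two conjugacy classes. Then either Ω has 3 points and G has order 3; or G has a non-trivial abelian normal subgroup N acting regularly, every non-identity element of G fixes at most one point (so, when n > 3, G is a Frobenius group with kernel N), the number n of points is odd and a point stabilizer has order (n − 1)/2; or G is 2-transitive with a non-trivial abelian regular normal subgroup and some non-identity element fixes at least two points (a non-Frobenius 2-transitive affine group).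 -/
theorem result {G : Type*} [Group G] [Finite G] {Ω : Type*} [Fintype Ω] [MulAction G Ω] [FaithfulSMul G Ω] (hΩ : 2 ≤ Fintype.card Ω) (hprim : MulAction.IsPreprimitive G Ω) (hnas : ¬ ∃ T : Subgroup G, T.Normal ∧ IsSimpleGroup T ∧ ¬ IsMulCommutative T ∧ Subgroup.centralizer (T : Set G) = ⊥)
    (hκ : Nat.card {c : ConjClasses G // ∃ g : G, ConjClasses.mk g = c ∧ ∀ ω : Ω, g • ω ≠ ω} = 2) (α : Ω) :
    (Fintype.card Ω = 3 ∧ Nat.card G = 3) ∨
    ((∃ N : Subgroup G, N.Normal ∧ N ≠ ⊥ ∧ IsMulCommutative N ∧ ∀ ω : Ω, MulAction.stabilizer N ω = ⊥) ∧ (∀ g : G, g ≠ 1 → Nat.card (MulAction.fixedBy Ω g) ≤ 1) ∧ ¬ 2 ∣ Fintype.card Ω ∧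
        2 * Nat.card (MulAction.stabilizer G α) = Fintype.card Ω - 1) ∨
    ((∃ N : Subgroup G, N.Normal ∧ N ≠ ⊥ ∧ IsMulCommutative N ∧ ∀ ω : Ω, MulAction.stabilizer N ω = ⊥) ∧ MulAction.IsMultiplyPretransitive G Ω 2 ∧ ∃ g : G, g ≠ 1 ∧ 2 ≤ Nat.card (MulAction.fixedBy Ω g)) := by
  haveI := Fintype.one_lt_card_iff_nontrivial.1 hΩ
  have hF : fittingSubgroup G ≠ ⊥ := fun e => by have := FG.three_der (Ω := Ω) e hnas; omega
  obtain ⟨r, hr, h1, h2, hc, h3⟩ := FG.affine_fit hF α
  haveI := Layer.fit_normal (G := G)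
  have hN : ∃ N : Subgroup G, N.Normal ∧ N ≠ ⊥ ∧ IsMulCommutative N ∧ ∀ ω : Ω, stabilizer N ω = ⊥ :=
    ⟨_, inferInstance, hF, h1.1, h3⟩
  generalize fittingSubgroup G = N at *
  have hd : ∀ n ∈ N, n ≠ 1 → ∀ ω : Ω, n • ω ≠ ω := fun n hn h1 ω e =>
    h1 (Perm.stabilizer_subgroup_eq_bot_iff.1 (h3 ω) n hn e)
  have ht := Perm.isPretransitive_subgroup_iff.1 h2
  obtain ⟨⟨_, u, rfl, hu⟩, ⟨_, v, rfl, hv⟩, huv, hall⟩ := Nat.card_eq_two_iff.1 hκ
  have hor : ∀ g : G, (∀ ω : Ω, g • ω ≠ ω) → IsConj u g ∨ IsConj v g := fun g hg =>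
    (hall.ge (Set.mem_univ ⟨_, g, rfl, hg⟩)).imp
      (fun e => ConjClasses.mk_eq_mk_iff_isConj.1 (congrArg Subtype.val e).symm)
      fun e => ConjClasses.mk_eq_mk_iff_isConj.1 (congrArg Subtype.val e).symm
  have huv' : ¬ IsConj u v := fun h => huv (Subtype.ext (ConjClasses.mk_eq_mk_iff_isConj.2 h))
  have cN : ∀ {x y : G}, IsConj x y → x ∈ N → y ∈ N := fun h hx => by
    obtain ⟨c, rfl⟩ := isConj_iff.1 h
    exact Normal.conj_mem inferInstance _ hx c
  have stab : ∀ {x y : G}, IsConj x y → x ∈ N → ∃ g ∈ stabilizer G α, g * x * g⁻¹ = y := fun {x y} h hx => by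
    obtain ⟨c, rfl⟩ := isConj_iff.1 h
    obtain ⟨k, hk, e⟩ := ht (c • α) α
    exact ⟨k * c, by rw [mem_stabilizer_iff, mul_smul, e], by
      rw [mul_inv_rev, ← mul_assoc, mul_assoc k c, mul_assoc k, Invol.commute_of_mulComm h1.1 hk
        (Normal.conj_mem inferInstance _ hx c), mul_inv_cancel_right]⟩
  by_cases hin : u ∈ N ∧ v ∈ N
  · have hs : ∀ g : G, ∀ x y : Ω, x ≠ y → g • x = x → g • y = y → g = 1 := fun g x y hxy hx hy =>
      Perm.stabilizer_subgroup_eq_bot_iff.1 (h3 x) g ((closure_le _).2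
        (fun k hk => (hor k hk).elim (cN · hin.1) (cN · hin.2)) (Coprime.mem_derSub hxy hx hy)) hx
    have cd : ∀ w ∈ N, (∀ ω : Ω, w • ω ≠ ω) → {x | IsConj w x}.ncard = Nat.card (stabilizer G α) := fun w hw hw' => by
      rw [show {x | IsConj w x} = (fun g => g * w * g⁻¹) '' stabilizer G α from
        Set.ext fun x => ⟨fun h => stab h hw, fun ⟨g, _, e⟩ => isConj_iff.2 ⟨g, e⟩⟩, Set.ncard_image_of_injOn, ← Nat.card_coe_set_eq]
      · rfl
      intro g hg k hk e
      refine (inv_mul_eq_one.1 (hs _ α (w • α) (hw' α).symm (mul_mem (inv_mem hk) hg) ?_)).symm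
      have : g • w • α = k • w • α := by
        have h4 : ∀ g ∈ stabilizer G α, g • w • α = (g * w * g⁻¹) • α := fun g h => by
          rw [mul_smul, mul_smul, mem_stabilizer_iff.1 (inv_mem h)]
        rw [h4 g hg, h4 k hk]; exact congrArg (· • α) e
      rw [mul_smul, this, inv_smul_smul]
    have : (N : Set G) \ {1} = {x | IsConj u x} ∪ {x | IsConj v x} := Set.ext fun x =>
      ⟨fun h => hor x (hd x h.1 h.2), fun h => h.elim (fun h => ⟨cN h hin.1, fun e => hu α (by
        rw [isConj_one_left.1 ((e : x = 1) ▸ h : IsConj u 1), one_smul])⟩) fun h => ⟨cN h hin.2, fun e => hv α (by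
        rw [isConj_one_left.1 ((e : x = 1) ▸ h : IsConj v 1), one_smul])⟩⟩
    have e := congrArg Set.ncard this
    rw [Set.ncard_diff_singleton_of_mem (one_mem N), Set.ncard_union_eq (Set.disjoint_left.2 fun x h h' =>
      huv' (h.trans h'.symm)), cd u hin.1 hu, cd v hin.2 hv, ← Nat.card_coe_set_eq] at e
    erw [hc] at e
    rw [Nat.card_eq_fintype_card] at e
    exact Or.inr (Or.inl ⟨hN, fun g hg => Finite.card_le_one_iff_subsingleton.2 ⟨fun x y => Subtype.ext
      (by_contra fun h => hg (hs g x y h x.2 y.2))⟩, by omega, by omega⟩)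
  have hc' : ∀ m ∈ N, m ≠ 1 → ∀ n ∈ N, n ≠ 1 → IsConj m n := fun m hm m1 n hn n1 => by
    rcases hor m (hd m hm m1) with a | a <;> rcases hor n (hd n hn n1) with b | b
    exacts [a.symm.trans b, absurd ⟨cN a.symm hm, cN b.symm hn⟩ hin, absurd ⟨cN b.symm hn, cN a.symm hm⟩ hin, a.symm.trans b]
  have h2t : IsMultiplyPretransitive G Ω 2 := (is_two_pretransitive_iff).2 fun {x y z w} hxy hzw => by
    obtain ⟨m, hm, rfl⟩ := ht x y
    obtain ⟨n, hn, rfl⟩ := ht z w
    obtain ⟨g, e⟩ := isConj_iff.1 (hc' m hm (fun e => hxy (by simp [e])) n hn fun e => hzw (by simp [e]))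
    obtain ⟨k, hk, e'⟩ := ht (g • x) z
    refine ⟨k * g, by rw [mul_smul, e'], ?_⟩
    rw [← e', ← mul_smul n, Invol.commute_of_mulComm h1.1 hn hk, ← e]; simp [mul_smul]
  refine Or.inr (Or.inr ⟨hN, h2t, by_contra fun h => huv' ?_⟩)
  push Not at h
  obtain ⟨p, j, M, -, -, -, hM, -, -, -, hr, hm, -⟩ := Perm.sharp2_kernel h2t fun g x y hxy hx hy => by_contra fun h1 =>
    hxy (congrArg Subtype.val ((Finite.card_le_one_iff_subsingleton.1 (Nat.lt_succ_iff.1 (h g h1))).elim
      (⟨x, hx⟩ : fixedBy Ω g) ⟨y, hy⟩))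
  obtain ⟨k, -, e⟩ := Perm.exists_conj_of_regular_normal h2t α (hr α) ((hm u).2 (Or.inr hu)) ((hm v).2 (Or.inr hv))
    (fun e => hu α (by simp [e])) fun e => hv α (by simp [e])
  exact isConj_iff.2 ⟨k, e⟩

end Cfsg.Agent.S3520
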