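import Cfsg.Statements.S3524
import Cfsg.Agent.Lib.Layer.Misc

set_option autoImplicit false
open Cfsg

namespace Cfsg.Agent.S3524

open Subgroup Cfsg.Lib.Core Cfsg.Lib.Amalg Cfsg.Lib.BG1 Cfsg.Lib.Layer

/-- A permutation group with a base is closed at one level above the base size. Let G be a group of permutations of a set Ω and suppose some k points α₁, …, α_k are fixed simultaneously only by the identity of G (a base of size k). Then G is (k+1)-closed: a permutation of Ω that agrees on every (k+1)-tuple of points with some element of G belongs to G. -/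
theorem result {Ω : Type*} (G : Subgroup (Equiv.Perm Ω)) (k : ℕ) (α : Fin k → Ω)
    (hbase : ∀ g ∈ G, (∀ i, g (α i) = α i) → g = 1) (σ : Equiv.Perm Ω)
    (hσ : ∀ t : Fin (k + 1) → Ω, ∃ g ∈ G, ∀ i, σ (t i) = g (t i)) : σ ∈ G := by
  have h : ∀ ω, ∃ g ∈ G, σ ω = g ω ∧ ∀ i, σ (α i) = g (α i) := fun ω => by
    obtain ⟨g, hg, e⟩ := hσ (Fin.cons ω α)
    exact ⟨g, hg, by simpa using e 0, fun i => by simpa using e i.succ⟩
  choose g hg h1 h2 using h
  rcases isEmpty_or_nonempty Ω with h | ⟨⟨a⟩⟩
  · rw [Subsingleton.elim σ 1]; exact G.one_mem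
  have : σ = g a := Equiv.ext fun ω => by
    have := hbase ((g a)⁻¹ * g ω) (G.mul_mem (G.inv_mem (hg a)) (hg ω)) fun i => by
      rw [Equiv.Perm.mul_apply, ← h2, h2 a]; simp
    rw [h1, inv_mul_eq_one.1 this]
  exact this ▸ hg a

end Cfsg.Agent.S3524
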