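import Cfsg.Statements.S3526
import Cfsg.Agent.Lib.Layer.GkC

set_option autoImplicit false
open Cfsg

namespace Cfsg.Agent.S3526

open Cfsg.Lib.Layer.Gk

/-- The prime graph of a finite group has the prime divisors of its order as vertices, two distinct primes p, q being joined when the group has an element of order pq; two groups have the same prime graph when they have the same prime divisors and the same joined pairs. Suppose only finitely many finite groups, up to isomorphism, have the same prime graph as the non-trivial finite group G (equivalently, their orders are bounded). Then G is almost simple (it has a non-abelian simple normal subgroup with trivial centralizer), and so is every finite group with the same prime graph as G. -/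
theorem result {G : Type*} [Group G] [Finite G] [Nontrivial G]
    (h : ∃ n : ℕ, ∀ (H : Type) [Group H] [Finite H],
      ((∀ p : ℕ, p.Prime → (p ∣ Nat.card G ↔ p ∣ Nat.card H)) ∧
      (∀ p q : ℕ, p.Prime → q.Prime → p ≠ q → ((∃ g : G, orderOf g = p * q) ↔ (∃ g : H, orderOf g = p * q)))) → Nat.card H ≤ n) :
    (∃ N : Subgroup G, N.Normal ∧ IsSimpleGroup ↥N ∧ ¬ IsMulCommutative ↥N ∧ Subgroup.centralizer (N : Set G) = ⊥) ∧
    ∀ (H : Type) [Group H] [Finite H],
      ((∀ p : ℕ, p.Prime → (p ∣ Nat.card G ↔ p ∣ Nat.card H)) ∧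
      (∀ p q : ℕ, p.Prime → q.Prime → p ≠ q → ((∃ g : G, orderOf g = p * q) ↔ (∃ g : H, orderOf g = p * q)))) →
      ∃ N : Subgroup H, N.Normal ∧ IsSimpleGroup ↥N ∧ ¬ IsMulCommutative ↥N ∧ Subgroup.centralizer (N : Set H) = ⊥ := by
  obtain ⟨n, hn⟩ := h
  have key : ∀ (K : Type) [Group K] [Finite K], Sub G K → Sub K G → Nat.card K ≤ n := fun K _ _ h1 h2 =>
    hn K ⟨fun p hp => ⟨h1.1 p hp, h2.1 p hp⟩, fun p q hp hq hpq => ⟨h1.2 p q hp hq hpq, h2.2 p q hp hq hpq⟩⟩
  refine ⟨almost_simple n key, fun H _ _ hH => ?_⟩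
  have h1 : Sub G H := ⟨fun p hp => (hH.1 p hp).1, fun p q hp hq hpq => (hH.2 p q hp hq hpq).1⟩
  have h2 : Sub H G := ⟨fun p hp => (hH.1 p hp).2, fun p q hp hq hpq => (hH.2 p q hp hq hpq).2⟩
  obtain ⟨p, hp, hd⟩ := Nat.exists_prime_and_dvd (Finite.one_lt_card (α := G)).ne'
  haveI : Nontrivial H := Finite.one_lt_card_iff_nontrivial.1
    (lt_of_lt_of_le hp.one_lt (Nat.le_of_dvd Nat.card_pos (h1.1 p hp hd)))
  exact almost_simple n fun K _ _ h3 h4 => key K (h1.trans h3) (h4.trans h2)

end Cfsg.Agent.S3526
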