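import Cfsg.Statements.S3532
import Cfsg.Agent.Lib.Coprime.Spec
import Cfsg.Agent.Lib.Known.PSL2

set_option autoImplicit false
open Cfsg

namespace Cfsg.Agent.S3532

open Cfsg.Lib Cfsg.Lib.Coprime

theorem cop {q : ℕ} (hq : 4 ≤ q) : 0 < (q - 1) / Nat.gcd 2 (q - 1) ∧ 1 < (q + 1) / Nat.gcd 2 (q - 1) ∧
    ((q + 1) / Nat.gcd 2 (q - 1)).Coprime ((q - 1) / Nat.gcd 2 (q - 1)) := by
  obtain ⟨k, rfl | rfl⟩ := Nat.even_or_odd' q
  · obtain ⟨j, rfl⟩ : ∃ j, k = j + 1 := ⟨k - 1, by omega⟩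
    rw [show 2 * (j + 1) - 1 = 2 * j + 1 by omega, show 2 * (j + 1) + 1 = 2 + (2 * j + 1) by omega]
    simp
    omega
  · rw [Nat.add_sub_cancel, Nat.gcd_mul_right_right, show 2 * k + 1 + 1 = 2 * (k + 1) by ring]
    simp
    omega

/-- Let q ≥ 4 be a prime power and L = PSL(2,q). There is a finite solvable group with the same set of element orders as L × L (so L × L is not determined by its spectrum). -/
theorem result {F : Type*} [Field F] [Fintype F] (hF : 4 ≤ Fintype.card F) :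
    ∃ (H : Type) (_ : Group H) (_ : Finite H), Group.IsSolvable H ∧
      Set.range (orderOf : H → ℕ) = Set.range (orderOf : Matrix.ProjectiveSpecialLinearGroup (Fin 2) F × Matrix.ProjectiveSpecialLinearGroup (Fin 2) F → ℕ) := by
  obtain ⟨p, _⟩ := CharP.exists F
  obtain ⟨n, hp, hq⟩ := FiniteField.card F p
  have := Fact.mk hp
  have h : ∀ m, m ∈ Set.range (orderOf : Matrix.ProjectiveSpecialLinearGroup (Fin 2) F → ℕ) ↔ _ :=
    Known.PSL2_spectrum (F := F) p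
  rw [← Nat.card_eq_fintype_card] at hF hq
  obtain ⟨h1, h2, h3⟩ := cop hF
  have h4 : p.Coprime ((Nat.card F - 1) / Nat.gcd 2 (Nat.card F - 1)) :=
    (((Nat.coprime_self_sub_right (by omega)).2 (Nat.coprime_one_right _)).coprime_dvd_left
      (hq ▸ dvd_pow_self p n.ne_zero)).coprime_dvd_right (Nat.div_dvd_of_dvd (Nat.gcd_dvd_right _ _))
  generalize (Nat.card F - 1) / Nat.gcd 2 (Nat.card F - 1) = M at *
  generalize (Nat.card F + 1) / Nat.gcd 2 (Nat.card F - 1) = N at *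
  obtain ⟨A, _, _, _, -, hA⟩ := exists_frob hp.one_lt h1 h4 0
  obtain ⟨B, _, _, _, -, hB⟩ := exists_frob h2 h1 h3 0
  refine ⟨A × B, inferInstance, inferInstance, inferInstance, Set.Subset.antisymm ?_ ?_⟩
  · rw [spec_prod, spec_prod]
    exact Set.image2_subset (fun m hm => (h m).2 (by rw [hA] at hm; tauto)) fun m hm => (h m).2 (by rw [hB] at hm; tauto)
  have e : ∀ a b x y : ℕ, (x ∣ p ∨ x ∣ M) → (y ∣ N ∨ y ∣ M) → a ∣ x.lcm y → b ∣ x.lcm y →
      a.lcm b ∈ Set.range (orderOf : A × B → ℕ) := fun a b x y hx hy ha hb =>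
    spec_of_dvd (spec_prod.ge (Set.mem_image2_of_mem ((hA x).2 hx) ((hB y).2 hy))) (Nat.lcm_dvd ha hb)
  refine spec_prod.le.trans ?_
  rintro _ ⟨a, ha, b, hb, rfl⟩
  have l := fun {a x : ℕ} (h : a ∣ x) y => h.trans (Nat.dvd_lcm_left x y)
  have r := fun {a y : ℕ} (h : a ∣ y) x => h.trans (Nat.dvd_lcm_right x y)
  have i := fun (a : ℕ) (P : Prop) => (Or.inl dvd_rfl : a ∣ a ∨ P)
  have j := fun (a : ℕ) (P : Prop) => (Or.inr dvd_rfl : P ∨ a ∣ a)
  rcases (h a).1 ha with ha | ha | ha <;> rcases (h b).1 hb with hb | hb | hb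
  exacts [e a b p N (i _ _) (i _ _) (l ha _) (l hb _), e a b p M (i _ _) (j _ _) (l ha _) (r hb _),
    e a b p N (i _ _) (i _ _) (l ha _) (r hb _), e a b p M (i _ _) (j _ _) (r ha _) (l hb _),
    e a b p M (i _ _) (j _ _) (r ha _) (r hb _), e a b M N (j _ _) (i _ _) (l ha _) (r hb _),
    e a b p N (i _ _) (i _ _) (r ha _) (l hb _), e a b M N (j _ _) (i _ _) (r ha _) (l hb _),
    e a b p N (i _ _) (i _ _) (r ha _) (r hb _)]

end Cfsg.Agent.S3532
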