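import Cfsg.Statements.S3546
import Cfsg.Agent.Lib.Layer.Misc

set_option autoImplicit false
open Cfsg

namespace Cfsg.Agent.S3546

open Subgroup Cfsg.Lib.Core Cfsg.Lib.Amalg Cfsg.Lib.BG1 Cfsg.Lib.Layer
theorem burn {G Ω : Type*} [Group G] [Finite G] [MulAction G Ω] [Finite Ω] (D : Subgroup G) :
    ∑ᶠ g ∈ (D : Set G), Nat.card (MulAction.fixedBy Ω g) = Nat.card (MulAction.orbitRel.Quotient D Ω) * Nat.card D := by
  classical
  have := Fintype.ofFinite G
  have := Fintype.ofFinite Ω
  have := Fintype.ofFinite (MulAction.orbitRel.Quotient D Ω)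
  have := MulAction.sum_card_fixedBy_eq_card_orbits_mul_card_group D Ω
  simp only [← Nat.card_eq_fintype_card] at this
  rw [← this, ← finsum_eq_sum_of_fintype, ← finsum_subtype_eq_finsum_cond]
  rfl

theorem split {G : Type*} [Group G] [Finite G] (D : Subgroup G) (f : G → ℕ) :
    ∑ᶠ g ∈ ((⊤ : Subgroup G) : Set G), f g = ∑ᶠ g ∈ (D : Set G), f g + ∑ᶠ g ∈ (D : Set G)ᶜ, f g := by
  rw [← finsum_mem_union disjoint_compl_right (Set.toFinite _) (Set.toFinite _), Set.union_compl_self, coe_top]

theorem card_top_quot {G Ω : Type*} [Group G] [MulAction G Ω] :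
    Nat.card (MulAction.orbitRel.Quotient (⊤ : Subgroup G) Ω) = Nat.card (MulAction.orbitRel.Quotient G Ω) :=
  Nat.card_congr (Quotient.congr (Equiv.refl _) fun a b => ⟨fun ⟨g, h⟩ => ⟨g.1, h⟩, fun ⟨g, h⟩ => ⟨⟨g, trivial⟩, h⟩⟩)

theorem card_compl {G : Type*} [Group G] [Finite G] (D : Subgroup G) : (D : Set G)ᶜ.ncard + Nat.card D = Nat.card G := by
  rw [add_comm, ← Set.ncard_add_ncard_compl (D : Set G)]; rfl


/-- Let G act faithfully and transitively on a finite set and let D be the subgroup of G generated by the derangements (the elements fixing no point). Then D is itself transitive, and D contains every element of G whose number of fixed points is different from 1. -/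
theorem result {G Ω : Type*} [Group G] [Finite G] [MulAction G Ω] [FaithfulSMul G Ω] [Finite Ω]
    (htrans : MulAction.IsPretransitive G Ω) :
    MulAction.IsPretransitive ↥(Subgroup.closure {g : G | ∀ ω : Ω, g • ω ≠ ω}) Ω ∧
    ∀ g : G, Nat.card (MulAction.fixedBy Ω g) ≠ 1 → g ∈ Subgroup.closure {g : G | ∀ ω : Ω, g • ω ≠ ω} := by
  set D := Subgroup.closure {g : G | ∀ ω : Ω, g • ω ≠ ω}
  rcases isEmpty_or_nonempty Ω with he | he
  · exact ⟨⟨fun a => he.elim a⟩, fun g _ => subset_closure fun ω => he.elim ω⟩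
  have h1 := burn (Ω := Ω) (⊤ : Subgroup G)
  have h2 : Nat.card (MulAction.orbitRel.Quotient G Ω) = 1 :=
    Nat.card_eq_one_iff_unique.2 ⟨(MulAction.pretransitive_iff_subsingleton_quotient G Ω).1 htrans, he.map Quotient.mk''⟩
  rw [split D, burn, card_top_quot, h2, one_mul, card_top, ← card_compl D,
    finsum_mem_eq_finite_toFinset_sum _ (Set.toFinite _), Set.ncard_eq_toFinset_card _ (Set.toFinite _), Finset.card_eq_sum_ones] at h1
  have h3 : ∀ g ∈ ((D : Set G)ᶜ).toFinite.toFinset, 1 ≤ Nat.card (MulAction.fixedBy Ω g) := fun g hg => by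
    have : ¬ ∀ ω : Ω, g • ω ≠ ω := fun h => (Set.Finite.mem_toFinset _).1 hg (subset_closure h)
    push Not at this
    obtain ⟨ω, h⟩ := this
    have : Nonempty (MulAction.fixedBy Ω g) := ⟨⟨ω, h⟩⟩
    exact Nat.card_pos
  have h4 := Finset.sum_le_sum h3
  have : Nonempty (MulAction.orbitRel.Quotient D Ω) := he.map Quotient.mk''
  have h5 : 0 < Nat.card (MulAction.orbitRel.Quotient D Ω) := Nat.card_pos
  have h6 : 0 < Nat.card D := Nat.card_pos
  have h7 : Nat.card (MulAction.orbitRel.Quotient D Ω) = 1 := by nlinarith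
  refine ⟨(MulAction.pretransitive_iff_subsingleton_quotient D Ω).2 (Nat.card_eq_one_iff_unique.1 h7).1, fun g hg => ?_⟩
  by_contra hn
  rw [h7] at h1
  exact hg ((Finset.sum_eq_sum_iff_of_le h3).1 (by omega) g ((Set.Finite.mem_toFinset _).2 hn)).symm

end Cfsg.Agent.S3546
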