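import Cfsg.Statements.S3547
import Cfsg.Agent.Lib.Layer.Misc
import Cfsg.Agent.S3546

set_option autoImplicit false
open Cfsg

namespace Cfsg.Agent.S3547

open Subgroup Cfsg.Lib.Core Cfsg.Lib.Amalg Cfsg.Lib.BG1 Cfsg.Lib.Layer

/-- Let G act faithfully and transitively on a finite set Ω, let D be the subgroup generated by the derangements, and let r_G and r_D be the numbers of orbits of G and of D on ordered pairs of points (the permutation ranks). Then r_D − 1 = (r_G − 1)·[G : D]. -/
theorem result {G Ω : Type*} [Group G] [Finite G] [MulAction G Ω] [FaithfulSMul G Ω] [Finite Ω]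
    (htrans : MulAction.IsPretransitive G Ω) :
    Nat.card (MulAction.orbitRel.Quotient ↥(Subgroup.closure {g : G | ∀ ω : Ω, g • ω ≠ ω}) (Ω × Ω)) - 1 =
      (Nat.card (MulAction.orbitRel.Quotient G (Ω × Ω)) - 1) * (Subgroup.closure {g : G | ∀ ω : Ω, g • ω ≠ ω}).index := by
  have h0 := (S3546.result htrans).2
  set D := Subgroup.closure {g : G | ∀ ω : Ω, g • ω ≠ ω}
  have h1 := S3546.burn (Ω := Ω × Ω) (⊤ : Subgroup G)
  have h3 : ∀ g ∈ (D : Set G)ᶜ, Nat.card (MulAction.fixedBy (Ω × Ω) g) = 1 := fun g hg => by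
    have := not_not.1 (mt (h0 g) hg)
    have e : MulAction.fixedBy (Ω × Ω) g = MulAction.fixedBy Ω g ×ˢ MulAction.fixedBy Ω g := by
      ext x; simp [Prod.ext_iff]
    rw [e, Nat.card_congr (Equiv.Set.prod _ _), Nat.card_prod, this]
  rw [S3546.split D, S3546.burn, S3546.card_top_quot, card_top, finsum_mem_congr rfl h3, finsum_mem_eq_finite_toFinset_sum _
    (Set.toFinite _), ← Finset.card_eq_sum_ones, ← Set.ncard_eq_toFinset_card _ (Set.toFinite _)] at h1
  have h2 := S3546.card_compl D
  have h6 : 0 < Nat.card D := Nat.card_pos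
  refine Nat.eq_of_mul_eq_mul_right h6 ?_
  rw [mul_assoc, index_mul_card, Nat.sub_mul, Nat.sub_mul]
  omega

end Cfsg.Agent.S3547
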