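import Cfsg.Statements.S3548
import Cfsg.Agent.Lib.Coprime.Derang

set_option autoImplicit false
open Cfsg

namespace Cfsg.Agent.S3548

open MulAction Subgroup Cfsg.Lib Cfsg.Lib.Coprime

/-- Let G act faithfully and transitively on a finite set with n ≥ 2 points and let D be the subgroup generated by the derangements. Then the index of D in G divides n − 1, and if it equals n − 1 then n is a prime power. -/
theorem result {G Ω : Type*} [Group G] [Finite G] [MulAction G Ω] [FaithfulSMul G Ω] [Finite Ω]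
    (htrans : MulAction.IsPretransitive G Ω) (hΩ : 2 ≤ Nat.card Ω) :
    (Subgroup.closure {g : G | ∀ ω : Ω, g • ω ≠ ω}).index ∣ Nat.card Ω - 1 ∧
    ((Subgroup.closure {g : G | ∀ ω : Ω, g • ω ≠ ω}).index = Nat.card Ω - 1 → IsPrimePow (Nat.card Ω)) := by
  have : Nontrivial Ω := Finite.one_lt_card_iff_nontrivial.1 hΩ
  have h0 : ∀ a : Ω, ({a}ᶜ : Set Ω).ncard = Nat.card Ω - 1 := fun a => by
    rw [Set.ncard_compl, Set.ncard_singleton]
  obtain ⟨a₀⟩ : Nonempty Ω := inferInstance
  refine ⟨h0 a₀ ▸ index_derSub_dvd a₀ _ (by simp) fun g hg b hb e => hb (smul_left_cancel g (e.trans hg.symm)),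
    fun h => ?_⟩
  -- every `G_a`-orbit off `a` is everything
  have h1 : ∀ a b : Ω, a ≠ b → orbit (stabilizer G a) b = {a}ᶜ := fun a b hab => by
    have h2 : orbit (stabilizer G a) b ⊆ {a}ᶜ := by
      rintro _ ⟨g, rfl⟩ e
      exact hab (smul_left_cancel (g : G) (g.2.trans e.symm))
    have h3 := index_derSub_dvd (G := G) a (orbit (stabilizer G a) b) (fun e => h2 e rfl) (by
      rintro g hg _ ⟨k, rfl⟩
      exact ⟨⟨g, hg⟩ * k, mul_smul _ _ _⟩)
    refine Set.eq_of_subset_of_ncard_le h2 ?_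
    rw [h0, ← h]
    exact Nat.le_of_dvd ((Set.ncard_pos).2 ⟨b, mem_orbit_self b⟩) h3
  have h2 : IsMultiplyPretransitive G Ω 2 := by
    refine is_two_pretransitive_iff.2 fun {a b c d} hab hcd => ?_
    obtain ⟨g, hg⟩ := htrans.exists_smul_eq a c
    obtain ⟨k, hk⟩ : d ∈ orbit (stabilizer G c) (g • b) := by
      rw [h1 c _ fun e => hab (smul_left_cancel g (hg.trans e))]; exact hcd.symm
    exact ⟨k * g, by rw [mul_smul, hg]; exact k.2, by rw [mul_smul]; exact hk⟩
  have h3 : ∀ a b : Ω, a ≠ b → stabilizer (stabilizer G a) b = (derSub G Ω).subgroupOf (stabilizer G a) :=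
    fun a b hab => by
    refine eq_of_le_of_card_ge (fun g hg => mem_derSub hab g.2 hg) (Nat.eq_of_mul_eq_mul_left
      (show 0 < Nat.card Ω - 1 by omega) ?_).le
    have e1 := ((derSub G Ω).subgroupOf (stabilizer G a)).index_mul_card
    have e2 := (stabilizer (stabilizer G a) b).index_mul_card
    rw [index_stabilizer, h1 a b hab, h0] at e2
    change (derSub G Ω).relIndex _ * _ = _ at e1
    rw [relIndex_derSub, h] at e1
    exact e1.trans e2.symm
  obtain ⟨p, j, -, hp, hj, e, -⟩ := Perm.sharp2_kernel h2 fun g a b hab ha hb => eq_of_smul_eq_smul (α := Ω) fun c => by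
    rw [one_smul]
    by_cases hc : a = c
    · exact hc ▸ ha
    · exact ((h3 a c hc).ge ((h3 a b hab).le (show (⟨g, ha⟩ : stabilizer G a) ∈ _ from hb)) :)
  exact e ▸ hp.isPrimePow.pow (by omega)

end Cfsg.Agent.S3548
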