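import Cfsg.Statements.S3549
import Cfsg.Agent.Lib.Coprime.Derang

set_option autoImplicit false
open Cfsg

namespace Cfsg.Agent.S3549

open MulAction Subgroup Cfsg.Lib Cfsg.Lib.Coprime
open scoped Pointwise

/-- Let G act faithfully, transitively but imprimitively on a finite set with n points, and let D be the subgroup generated by the derangements. Then the index of D in G is at most √n − 1. -/
theorem result {G Ω : Type*} [Group G] [Finite G] [MulAction G Ω] [FaithfulSMul G Ω] [Finite Ω]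
    (htrans : MulAction.IsPretransitive G Ω) (himp : ¬ MulAction.IsPreprimitive G Ω) :
    ((Subgroup.closure {g : G | ∀ ω : Ω, g • ω ≠ ω}).index : ℝ) ≤ Real.sqrt (Nat.card Ω) - 1 := by
  obtain ⟨B, hB, h1⟩ : ∃ B : Set Ω, IsBlock G B ∧ ¬ IsTrivialBlock B := by
    by_contra h
    push Not at h
    exact himp ⟨fun hB => h _ hB⟩
  rw [IsTrivialBlock, not_or, Set.not_subsingleton_iff] at h1
  obtain ⟨⟨a, ha, b, hb, hab⟩, h2⟩ := h1
  have h3 := index_derSub_dvd (G := G) a (B \ {a}) (by simp) fun g hg c hc =>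
    ⟨(hB.smul_eq_of_mem ha (hg.symm ▸ ha)).le (Set.smul_mem_smul_set hc.1),
      fun e => hc.2 (smul_left_cancel g (e.trans hg.symm))⟩
  have h4 := index_derSub_dvd (G := G) a Bᶜ (by simpa) fun g hg c hc e => hc (by
    rw [← hB.smul_eq_of_mem ha (hg.symm ▸ ha)] at e
    exact Set.smul_mem_smul_set_iff.1 e)
  have h5 := hB.ncard_block_mul_ncard_orbit_eq ⟨a, ha⟩
  rw [Set.ncard_diff_singleton_of_mem ha] at h3
  rw [Set.ncard_compl] at h4
  have h6 : 1 < B.ncard := (Set.one_lt_ncard_iff).2 ⟨a, b, ha, hb, hab⟩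
  have h7 : B.ncard < Nat.card Ω := Set.ncard_univ Ω ▸ Set.ncard_lt_ncard (Set.ssubset_univ_iff.2 h2)
  generalize (derSub G Ω).index = d at *
  generalize (orbit G B).ncard = m at *
  generalize B.ncard = k at *
  have hm : 1 < m := by
    by_contra h
    have : k * m ≤ k * 1 := Nat.mul_le_mul_left _ (by omega)
    omega
  have h8 : d ∣ m - 1 := by
    have e : Nat.card Ω - k = (k - 1) * (m - 1) + (m - 1) := by
      rw [← h5]
      obtain ⟨k, rfl⟩ : ∃ k', k = k' + 1 := ⟨k - 1, by omega⟩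
      obtain ⟨m, rfl⟩ : ∃ m', m = m' + 1 := ⟨m - 1, by omega⟩
      simp only [Nat.add_sub_cancel]
      apply Nat.sub_eq_of_eq_add; ring
    exact (Nat.dvd_add_right (h3.mul_right _)).1 (e ▸ h4)
  have h9 := Nat.le_of_dvd (by omega) h3
  have h10 := Nat.le_of_dvd (by omega) h8
  have h11 : (d + 1) * (d + 1) ≤ Nat.card Ω := h5 ▸ Nat.mul_le_mul (by omega) (by omega)
  rw [le_sub_iff_add_le]
  exact Real.le_sqrt_of_sq_le (by rw [sq]; exact_mod_cast h11)

end Cfsg.Agent.S3549
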