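import Cfsg.Statements.S3554
import Cfsg.Agent.Lib.Layer.Misc
import Cfsg.Agent.Lib.PGrp.Cyclic

set_option autoImplicit false
open Cfsg

namespace Cfsg.Agent.S3554

open Subgroup Cfsg.Lib.Core Cfsg.Lib.Amalg Cfsg.Lib.BG1 Cfsg.Lib.Layer

/-- Let G act faithfully and transitively on a finite set and suppose G has a non-trivial cyclic normal subgroup. Then some element of G of prime order fixes no point. -/
theorem result {G Ω : Type*} [Group G] [Finite G] [MulAction G Ω] [FaithfulSMul G Ω] [Finite Ω]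
    (htrans : MulAction.IsPretransitive G Ω) (C : Subgroup G) (hC : C.Normal) (hC1 : C ≠ ⊥) (hcyc : IsCyclic ↥C) :
    ∃ g : G, (orderOf g).Prime ∧ ∀ ω : Ω, g • ω ≠ ω := by
  obtain ⟨p, hp, hd⟩ := Nat.exists_prime_and_dvd (mt card_eq_one.1 hC1)
  have : Fact p.Prime := ⟨hp⟩
  obtain ⟨x, hx⟩ := exists_prime_orderOf_dvd_card' p hd
  rw [← orderOf_coe] at hx
  refine ⟨x, hx ▸ hp, fun ω e => hp.one_lt.ne' ?_⟩
  have hn := Lib.PGrp.normal_of_le_of_isCyclic hcyc (zpowers_le.2 x.2)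
  have h1 : zpowers (x : G) ≤ MulAction.stabilizer G ω := zpowers_le.2 e
  rw [← hx, orderOf_eq_one_iff]
  refine FaithfulSMul.eq_of_smul_eq_smul (α := Ω) fun a => ?_
  obtain ⟨g, rfl⟩ := htrans.exists_smul_eq ω a
  have := h1 (hn.conj_mem _ (mem_zpowers _) g⁻¹)
  rw [MulAction.mem_stabilizer_iff, inv_inv, mul_smul, mul_smul, inv_smul_eq_iff] at this
  rw [this, one_smul]

end Cfsg.Agent.S3554
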