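import Cfsg.Statements.S3555
import Cfsg.Agent.Lib.Coprime.FrobKernel

set_option autoImplicit false
open Cfsg

open Subgroup Cfsg.Lib
open scoped commutatorElement
open MulAction Finset
open scoped Pointwise
namespace Cfsg.Agent.S3555

/-- Let G act faithfully and transitively on a finite set and suppose every element of G fixing no point is an involution. Then either G is an elementary abelian 2-group, or G is a Frobenius group whose Frobenius kernel is an elementary abelian 2-group: G has a Frobenius complement H, and the elements lying in no conjugate of H, together with the identity, pairwise commute and square to the identity. -/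
theorem result {G Ω : Type*} [Group G] [Finite G] [MulAction G Ω] [FaithfulSMul G Ω] [Finite Ω]
    (htrans : MulAction.IsPretransitive G Ω) (hinv : ∀ g : G, (∀ ω : Ω, g • ω ≠ ω) → orderOf g = 2) :
    (IsMulCommutative G ∧ ∀ g : G, g ^ 2 = 1) ∨
    (∃ H : Subgroup G, Cfsg.IsFrobeniusComplement H ∧
      (∀ x ∈ Cfsg.frobeniusKernel H, x ^ 2 = 1) ∧
      ∀ x ∈ Cfsg.frobeniusKernel H, ∀ y ∈ Cfsg.frobeniusKernel H, x * y = y * x) := by
  classical
  letI := Fintype.ofFinite G
  letI := Fintype.ofFinite Ω
  obtain ⟨α, hα⟩ : ∃ α : Ω, (1 : G) • α = α := by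
    by_contra h
    push Not at h
    have := hinv 1 h
    simp at this
  let F : G → Finset Ω := fun g => univ.filter fun ω => g • ω = ω
  let D : Finset G := univ.filter fun g => ∀ ω : Ω, g • ω ≠ ω
  have hD : ∀ x ∈ D, x * x = 1 := fun x hx => by
    rw [← pow_two, ← hinv x (mem_filter.1 hx).2, pow_orderOf_eq_one]
  have h1 : ∑ g, (F g).card = Fintype.card G := by
    haveI : Nonempty Ω := ⟨α⟩
    haveI : Unique (orbitRel.Quotient G Ω) := ((pretransitive_iff_unique_quotient_of_nonempty G Ω).1 htrans).some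
    have := sum_card_fixedBy_eq_card_orbits_mul_card_group G Ω
    rw [Fintype.card_unique, one_mul] at this
    rw [← this]
    exact sum_congr rfl fun g _ => by rw [Fintype.card_subtype]; rfl
  have h2 : D.card * Fintype.card Ω ≤ ∑ g, ((F g).card * (F g).card - (F g).card) := by
    have : ∀ a b : Ω, ∃ y : G, ∀ x ∈ D, x • a = b → y • a = b ∧ y • b = a := fun a b => by
      by_cases h : ∃ x ∈ D, x • a = b
      · obtain ⟨y, hy, rfl⟩ := h
        exact ⟨y, fun _ _ _ => ⟨rfl, by rw [← mul_smul, hD y hy, one_smul]⟩⟩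
      · exact ⟨1, fun x hx e => absurd ⟨x, hx, e⟩ h⟩
    choose y hy using this
    simp only [← offDiag_card]
    rw [← card_sigma, ← card_univ, ← card_product]
    refine card_le_card_of_injOn (fun p => ⟨y p.2 (p.1 • p.2) * p.1, p.2, p.1 • p.2⟩) ?_ ?_
    · rintro ⟨x, a⟩ h
      have hx := (mem_product.1 h).1
      simp only [coe_sigma, Set.mem_sigma_iff, coe_univ, Set.mem_univ, true_and, mem_coe, mem_offDiag, F,
        mem_filter, mem_univ]
      refine ⟨by rw [mul_smul, (hy a _ x hx rfl).2], ?_, ((mem_filter.1 hx).2 a).symm⟩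
      rw [mul_smul, ← mul_smul x x, hD x hx, one_smul, (hy a _ x hx rfl).1]
    · rintro ⟨x, a⟩ - ⟨x', a'⟩ - h
      simp only [Sigma.mk.injEq, heq_eq_eq, Prod.mk.injEq] at h
      obtain ⟨h1, rfl, h2⟩ := h
      rw [h2, mul_left_cancel_iff] at h1
      rw [h1]
  have key : ∀ g, g ∉ D → (F g).card = 1 ∨ g = 1 := by
    have e : ∑ g, (if g ∈ D then (0 : ℤ) else ((F g).card - 1) * (Fintype.card Ω - (F g).card)) ≤ 0 := by
      have : ∀ g, (if g ∈ D then (0 : ℤ) else ((F g).card - 1) * (Fintype.card Ω - (F g).card)) =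
          Fintype.card Ω * ((F g).card : ℤ) - Fintype.card Ω - (((F g).card * (F g).card - (F g).card : ℕ) : ℤ) +
            if g ∈ D then (Fintype.card Ω : ℤ) else 0 := fun g => by
        rw [Nat.cast_sub (Nat.le_mul_self _)]
        split_ifs with h
        · rw [show F g = ∅ from filter_eq_empty_iff.2 fun ω _ => (mem_filter.1 h).2 ω]; simp
        · push_cast; ring
      simp only [this, sum_add_distrib, sum_sub_distrib, ← mul_sum, ← Nat.cast_sum, h1, sum_ite_mem, univ_inter,
        sum_const, card_univ, nsmul_eq_mul]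
      have : ((D.card * Fintype.card Ω : ℕ) : ℤ) ≤ _ := Nat.cast_le.2 h2
      push_cast at this ⊢
      linarith
    have pos : ∀ g, g ∉ D → 1 ≤ (F g).card := fun g hg => card_pos.2 (by
      simpa [D, F, filter_nonempty_iff] using hg)
    have nn : ∀ g ∈ univ, 0 ≤ (if g ∈ D then (0 : ℤ) else ((F g).card - 1) * (Fintype.card Ω - (F g).card)) :=
      fun g _ => by
        split_ifs with h
        · rfl
        · exact mul_nonneg (by have := pos g h; omega) (by have := card_le_univ (F g); omega)
    intro g hg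
    have := (sum_eq_zero_iff_of_nonneg nn).1 (le_antisymm e (sum_nonneg nn)) g (mem_univ g)
    rw [if_neg hg, mul_eq_zero] at this
    refine this.imp (fun h => by omega) fun h => eq_of_smul_eq_smul (α := Ω) fun ω => ?_
    have : ω ∈ F g := by rw [eq_univ_of_card (F g) (by omega)]; exact mem_univ ω
    rw [one_smul, (mem_filter.1 this).2]
  have conj : ∀ g x : G, x ∈ MulAut.conj g • stabilizer G α ↔ x • g • α = g • α := fun g x => by
    rw [Subgroup.mem_pointwise_smul_iff_inv_smul_mem, mem_stabilizer_iff]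
    simp [mul_smul, inv_smul_eq_iff]
  by_cases hH : stabilizer G α = ⊥
  · have : ∀ g : G, g * g = 1 := fun g => by
      by_cases hg : g ∈ D
      · exact hD g hg
      · obtain ⟨ω, hω⟩ : ∃ ω : Ω, g • ω = ω := by simpa [D] using hg
        obtain ⟨k, rfl⟩ := exists_smul_eq G α ω
        have := (conj k g).2 hω
        rw [hH, Subgroup.smul_bot, Subgroup.mem_bot] at this
        rw [this, one_mul]
    exact Or.inl ⟨⟨⟨fun a b => by
      have h : ∀ g : G, g⁻¹ = g := fun g => inv_eq_of_mul_eq_one_right (this g)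
      rw [← h (a * b), mul_inv_rev, h, h]⟩⟩, fun g => by rw [pow_two, this]⟩
  have hF : Cfsg.IsFrobeniusComplement (stabilizer G α) := by
    refine ⟨hH, fun h => hH (eq_bot_iff.2 fun g _ => eq_of_smul_eq_smul (α := Ω) fun ω => ?_), fun g hg => ?_⟩
    · obtain ⟨k, rfl⟩ := exists_smul_eq G α ω
      have : ∀ x : G, x • α = α := fun x => (h ▸ Subgroup.mem_top x : x ∈ stabilizer G α)
      simp only [this]
    · refine eq_bot_iff.2 fun x hx => (key x fun h => (mem_filter.1 h).2 α hx.1).resolve_left fun h => hg ?_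
      exact card_le_one.1 h.le _ (mem_filter.2 ⟨mem_univ _, (conj g x).1 hx.2⟩) _ (mem_filter.2 ⟨mem_univ _, hx.1⟩)
  have sq : ∀ x ∈ Cfsg.frobeniusKernel (stabilizer G α), x * x = 1 := by
    rintro x (rfl | hx)
    · exact one_mul 1
    · refine hD x (mem_filter.2 ⟨mem_univ _, fun ω h => ?_⟩)
      obtain ⟨k, rfl⟩ := exists_smul_eq G α ω
      exact hx k ((conj k x).2 h)
  obtain ⟨N, hN, -⟩ := Coprime.exists_frobKernel hF
  refine Or.inr ⟨_, hF, fun x hx => by rw [pow_two, sq x hx], fun x hx y hy => ?_⟩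
  have h : ∀ g ∈ Cfsg.frobeniusKernel (stabilizer G α), g⁻¹ = g := fun g hg => inv_eq_of_mul_eq_one_right (sq g hg)
  rw [← h (x * y) (by rw [← hN] at hx hy ⊢; exact N.mul_mem hx hy), mul_inv_rev, h x hx, h y hy]

end Cfsg.Agent.S3555
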