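import Cfsg.Statements.S3556
import Cfsg.Agent.Lib.FG.ONS

set_option autoImplicit false
open Cfsg

open Subgroup Cfsg.Lib
open scoped commutatorElement
namespace Cfsg.Agent.S3556

/-- Let G act faithfully and primitively on a finite set with at least two points, and suppose that for some fixed prime p every element of G fixing no point has order a power of p. Then G is of affine type (it has a regular normal subgroup that is an elementary abelian r-group for some prime r) or almost simple (it has a non-abelian simple normal subgroup with trivial centralizer). -/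
theorem result {G Ω : Type*} [Group G] [Finite G] [MulAction G Ω] [FaithfulSMul G Ω] [Finite Ω]
    (hprim : MulAction.IsPreprimitive G Ω) (hΩ : 2 ≤ Nat.card Ω) (p : ℕ) (hp : p.Prime)
    (hder : ∀ g : G, (∀ ω : Ω, g • ω ≠ ω) → ∃ k : ℕ, orderOf g = p ^ k) :
    (∃ (N : Subgroup G) (r : ℕ), r.Prime ∧ N.Normal ∧ Cfsg.IsElementaryAbelian r N ∧
      MulAction.IsPretransitive N Ω ∧ ∀ a : Ω, MulAction.stabilizer N a = ⊥) ∨
    (∃ T : Subgroup G, T.Normal ∧ IsSimpleGroup ↥T ∧ ¬ IsMulCommutative ↥T ∧
      Subgroup.centralizer (T : Set G) = ⊥) := by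
  haveI := Finite.one_lt_card_iff_nontrivial.1 hΩ
  obtain ⟨a⟩ : Nonempty Ω := inferInstance
  by_cases hF : fittingSubgroup G = ⊥
  · refine Or.inr (by_contra fun hA => ?_)
    obtain ⟨U, f, hU, h⟩ := FG.many_der (Ω := Ω) hF hA
    obtain ⟨y, hy, py, h1, -⟩ := FG.exists_prime_ne hU hp hp
    obtain ⟨h2, h3, -⟩ := h y hy fun e => by simp [e, Nat.not_prime_one] at py
    obtain ⟨k, hk⟩ := hder _ h2
    exact h1 ((Nat.prime_dvd_prime_iff_eq py hp).1 (py.dvd_of_dvd_pow (hk ▸ h3)))
  · obtain ⟨r, hr, h1, h2, -, h3⟩ := FG.affine_fit hF a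
    exact Or.inl ⟨_, r, hr, Layer.fit_normal, h1, h2, h3⟩

end Cfsg.Agent.S3556
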