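import Cfsg.Statements.S3557
import Cfsg.Agent.Lib.PGrp.Basic

set_option autoImplicit false
open Cfsg

namespace Cfsg.Agent.S3557

open MulAction Subgroup in
theorem aux {P Ω : Type*} [Group P] [Finite P] [MulAction P Ω] [FaithfulSMul P Ω] [Finite Ω] {p : ℕ}
    [hp : Fact p.Prime] (hP : IsPGroup p P) (hcard : Nat.card Ω = 2 * p ^ 2)
    (hd : ∀ ω : Ω, p ^ 2 ∣ (stabilizer P ω).index) :
    ∃ (O : Set Ω) (z y : P), (∀ (g : P) ω, g • ω ∈ O ↔ ω ∈ O) ∧ (∀ ω ∈ O, z ^ p • ω = ω ∧ z • ω ≠ ω) ∧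
      (∀ ω ∉ O, y ^ p • ω = ω ∧ y • ω ≠ ω) ∧ ∀ a ∈ O, ∀ b ∉ O, ∃ g : P, g • a = z • a ∧ g • b = y • b := by
  have hp2 : 1 < p ^ 2 := Nat.one_lt_pow two_ne_zero hp.out.one_lt
  haveI : Nonempty Ω := (Nat.card_pos_iff.1 (by omega)).1
  obtain ⟨ω₀⟩ := ‹Nonempty Ω›
  obtain ⟨z, -, hz, hzp⟩ := Lib.PGrp.exists_central_orderOf_eq hP ⊤ fun e => by
    have := hd ω₀
    rw [eq_top_iff.2 (e.le.trans bot_le : ⊤ ≤ stabilizer P ω₀), index_top] at this
    exact absurd (Nat.le_of_dvd one_pos this) (by omega)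
  have hz1 : z ^ p = 1 := hzp ▸ pow_orderOf_eq_one z
  have hzc : ∀ (g : P) (ω : Ω), z • g • ω = g • z • ω := fun g ω => by
    rw [← mul_smul, ← mul_smul, mem_center_iff.1 hz g]
  by_cases h : ∀ ω : Ω, z • ω ≠ ω
  · exact ⟨Set.univ, z, z, by simp, fun ω _ => ⟨by rw [hz1, one_smul], h ω⟩, by simp, by simp⟩
  push Not at h
  obtain ⟨b, hb⟩ := h
  obtain ⟨a, ha⟩ : ∃ a : Ω, z • a ≠ a := by
    by_contra hc
    push Not at hc
    rw [eq_of_smul_eq_smul (M := P) (α := Ω) (m₁ := z) (m₂ := 1) fun a => by rw [hc, one_smul], orderOf_one] at hzp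
    exact hp.out.one_lt.ne hzp
  have f1 : ∀ ω ∈ orbit P a, z • ω ≠ ω := by
    rintro _ ⟨g, rfl⟩ e
    exact ha (MulAction.injective g ((hzc g a).symm.trans e))
  have f2 : ∀ ω ∈ orbit P b, z • ω = ω := by
    rintro _ ⟨g, rfl⟩
    show z • g • b = g • b
    rw [hzc, hb]
  have hdis : Disjoint (orbit P a) (orbit P b) := Set.disjoint_left.2 fun ω h1 h2 => f1 ω h1 (f2 ω h2)
  have c1 := Nat.le_of_dvd (Nat.pos_of_ne_zero index_ne_zero_of_finite) (hd a)
  have c2 := Nat.le_of_dvd (Nat.pos_of_ne_zero index_ne_zero_of_finite) (hd b)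
  have c3 := Set.ncard_le_card (orbit P a ∪ orbit P b)
  have c4 := Set.ncard_union_eq hdis
  rw [← index_stabilizer, ← index_stabilizer] at c4
  have hu : ∀ ω ∉ orbit P a, ω ∈ orbit P b := fun ω hω =>
    Or.resolve_left ((Set.eq_univ_iff_forall.1 ((Set.eq_univ_iff_ncard (orbit P a ∪ orbit P b)).2 (by omega))) ω) hω
  have hi : ∀ ω ∈ orbit P a, (stabilizer P ω ⊔ zpowers z).index = p := fun ω hω => by
    have h1 := Lib.PGrp.card_sup_zpowers_of_mem_normalizer (M := stabilizer P ω) (x := z)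
      (center_le_normalizer _ hz) (f1 ω hω) (hz1 ▸ one_mem _)
    have h2 := (stabilizer P ω ⊔ zpowers z).card_mul_index
    have h3 := (stabilizer P ω).card_mul_index
    rw [index_stabilizer, orbit_eq_iff.2 hω, ← index_stabilizer, show (stabilizer P a).index = p ^ 2 by omega,
      ← h2, h1, pow_two, mul_comm p (Nat.card _), mul_assoc] at h3
    exact (Nat.eq_of_mul_eq_mul_left hp.out.pos (Nat.eq_of_mul_eq_mul_left Nat.card_pos h3)).symm
  haveI := Lib.PGrp.normal_of_index_eq hP (hi a (mem_orbit_self a))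
  have hB : ∀ ω ∈ orbit P a, stabilizer P ω ⊔ zpowers z = stabilizer P a ⊔ zpowers z := fun ω hω => by
    refine Lib.PGrp.eq_of_le_of_card_le (sup_le ?_ le_sup_right) (le_of_eq (Nat.eq_of_mul_eq_mul_right hp.out.pos ?_))
    · obtain ⟨g, rfl⟩ := hω
      intro x hx
      have : g⁻¹ * x * g ∈ stabilizer P a := by
        rw [mem_stabilizer_iff, mul_smul, mul_smul, inv_smul_eq_iff]; exact hx
      simpa [mul_assoc] using Normal.conj_mem ‹_› _ (mem_sup_left this) g
    · conv_lhs => rw [← hi a (mem_orbit_self a)]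
      conv_rhs => rw [← hi ω hω]
      rw [card_mul_index, card_mul_index]
  obtain ⟨y, y1, y2, y3, y4⟩ := Lib.PGrp.exists_mem_central_mod hP (stabilizer P b).normalCore
    (stabilizer P a ⊔ zpowers z) fun hc => by
      have := (hd b).trans (index_dvd_of_le (hc.trans (normalCore_le _)))
      rw [hi a (mem_orbit_self a)] at this
      exact absurd (Nat.le_of_dvd hp.out.pos this) (by nlinarith [hp.out.one_lt])
  have k : ∀ x ∈ (stabilizer P b).normalCore, ∀ ω ∈ orbit P b, x • ω = ω := by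
    rintro x hx _ ⟨g, rfl⟩
    have := hx g⁻¹
    rw [mem_stabilizer_iff, inv_inv, mul_smul, mul_smul, inv_smul_eq_iff] at this
    exact this
  refine ⟨orbit P a, z, y, fun g ω => ⟨fun h => ?_, fun h => mem_orbit_of_mem_orbit g h⟩,
    fun ω hω => ⟨by rw [hz1, one_smul], f1 ω hω⟩, fun ω hω => ⟨k _ y3 ω (hu ω hω), fun e => y2 fun g => ?_⟩,
    fun c hc d hd => ?_⟩
  · simpa using mem_orbit_of_mem_orbit g⁻¹ h
  · obtain ⟨s, hs⟩ := (orbit_eq_iff.2 (hu ω hω)).ge (mem_orbit b g⁻¹)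
    have h1 := k _ (y4 s) _ ((orbit_eq_iff.2 (hu ω hω)).le (mem_orbit ω s))
    rw [commutatorElement_def, mul_smul, mul_smul, mul_smul, inv_smul_smul, inv_smul_eq_iff.2 e.symm] at h1
    replace hs : s • ω = g⁻¹ • b := hs
    rw [mem_stabilizer_iff, mul_smul, mul_smul, ← hs, h1, hs, smul_inv_smul]
  · obtain ⟨s, hs, n, hn⟩ := (Lib.PGrp.mem_sup_zpowers_of_mem_normalizer (center_le_normalizer _ hz)).1
      ((hB c hc).ge y1)
    refine ⟨y * (z ^ n)⁻¹ * z, by rw [hn, mul_inv_cancel_right, mem_center_iff.1 hz s, mul_smul, hs], ?_⟩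
    have : z ∈ stabilizer P d := f2 d (hu d hd)
    rw [mul_assoc, mul_smul, show ((z ^ n)⁻¹ * z) • d = d from mul_mem (inv_mem (zpow_mem this n)) this]

/-- Let G act faithfully and transitively on a finite set with 2p² points, p a prime, and suppose G is 2-closed: every permutation of the set which, on each ordered pair of points, agrees with some element of G, is itself induced by an element of G. Then some element of G of prime order fixes no point. -/
theorem result {G Ω : Type*} [Group G] [Finite G] [MulAction G Ω] [FaithfulSMul G Ω] [Finite Ω]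
    (htrans : MulAction.IsPretransitive G Ω) (p : ℕ) (hp : p.Prime) (hcard : Nat.card Ω = 2 * p ^ 2)
    (hcl : ∀ σ : Equiv.Perm Ω, (∀ a b : Ω, ∃ g : G, σ a = g • a ∧ σ b = g • b) → ∃ g : G, ∀ a : Ω, σ a = g • a) :
    ∃ g : G, (orderOf g).Prime ∧ ∀ ω : Ω, g • ω ≠ ω := by
  classical
  haveI := Fact.mk hp
  obtain ⟨P⟩ : Nonempty (Sylow p G) := inferInstance
  obtain ⟨O, z, y, h1, h2, h3, h4⟩ := aux P.isPGroup' hcard fun ω => by
    have h1 := Subgroup.relIndex_inf_mul_relIndex (MulAction.stabilizer G ω) P ⊤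
    rw [inf_top_eq, Subgroup.relIndex_top_right, Subgroup.relIndex_top_right] at h1
    have h2 := Subgroup.index_dvd_of_le (inf_le_left : MulAction.stabilizer G ω ⊓ P ≤ _)
    rw [MulAction.index_stabilizer_of_transitive, hcard, ← h1] at h2
    exact (Nat.Coprime.pow_left 2 (hp.coprime_iff_not_dvd.2 P.not_dvd_index)).dvd_of_dvd_mul_right
      ((dvd_mul_left _ _).trans h2)
  let σ : Equiv.Perm Ω :=
    { toFun := fun ω => if ω ∈ O then z • ω else y • ω
      invFun := fun ω => if ω ∈ O then z⁻¹ • ω else y⁻¹ • ω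
      left_inv := fun ω => by by_cases h : ω ∈ O <;> simp [h, h1]
      right_inv := fun ω => by by_cases h : ω ∈ O <;> simp [h, h1] }
  have s1 : ∀ ω ∈ O, σ ω = z • ω := fun ω h => if_pos h
  have s2 : ∀ ω ∉ O, σ ω = y • ω := fun ω h => if_neg h
  obtain ⟨g, hg⟩ := hcl σ fun a b => by
    by_cases ha : a ∈ O <;> by_cases hb : b ∈ O
    · exact ⟨z, s1 a ha, s1 b hb⟩
    · obtain ⟨g, e1, e2⟩ := h4 a ha b hb
      exact ⟨g, (s1 a ha).trans e1.symm, (s2 b hb).trans e2.symm⟩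
    · obtain ⟨g, e1, e2⟩ := h4 b hb a ha
      exact ⟨g, (s2 a ha).trans e2.symm, (s1 b hb).trans e1.symm⟩
    · exact ⟨y, s2 a ha, s2 b hb⟩
  have hf : ∀ ω : Ω, g • ω ≠ ω := fun ω => by
    by_cases h : ω ∈ O
    · rw [← hg, s1 ω h]; exact (h2 ω h).2
    · rw [← hg, s2 ω h]; exact (h3 ω h).2
  have hn : ∀ (n : ℕ) (ω : Ω), g ^ n • ω = if ω ∈ O then z ^ n • ω else y ^ n • ω := fun n ω => by
    induction n with
    | zero => simp
    | succ n ih =>
      rw [pow_succ', mul_smul, ih, ← hg]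
      by_cases h : ω ∈ O
      · rw [if_pos h, if_pos h, s1 _ ((h1 _ _).2 h), pow_succ', mul_smul]
      · rw [if_neg h, if_neg h, s2 _ (mt (h1 _ _).1 h), pow_succ', mul_smul]
  haveI : Nonempty Ω := (Nat.card_pos_iff.1 (by rw [hcard]; have := hp.pos; positivity)).1
  obtain ⟨ω₀⟩ := ‹Nonempty Ω›
  refine ⟨g, ?_, hf⟩
  rw [orderOf_eq_prime (p := p) (eq_of_smul_eq_smul (α := Ω) fun ω => ?_) fun e => hf ω₀ (by rw [e, one_smul])]
  · exact hp
  · rw [hn, one_smul]
    by_cases h : ω ∈ O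
    · rw [if_pos h, (h2 ω h).1]
    · rw [if_neg h, (h3 ω h).1]

end Cfsg.Agent.S3557
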