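import Cfsg.Statements.S3559
import Cfsg.Agent.Lib.BS.BGroup
import Cfsg.Agent.Lib.PGrp.Cyclic

set_option autoImplicit false
open Cfsg

open Subgroup Cfsg.Lib
open scoped commutatorElement
open MulAction
namespace Cfsg.Agent.S3559

/-- Let G act faithfully and transitively on a finite set whose number of points n ≥ 2 is not a prime power, and suppose G has a cyclic subgroup acting regularly (transitively with trivial point stabilizers). Then G is imprimitive or doubly transitive. -/
theorem result {G Ω : Type*} [Group G] [Finite G] [MulAction G Ω] [FaithfulSMul G Ω] [Finite Ω]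
    (htrans : MulAction.IsPretransitive G Ω) (hn : 2 ≤ Nat.card Ω) (hnp : ¬ IsPrimePow (Nat.card Ω))
    (C : Subgroup G) (hcyc : IsCyclic ↥C) (hC : MulAction.IsPretransitive ↥C Ω ∧ ∀ a : Ω, MulAction.stabilizer ↥C a = ⊥) :
    ¬ MulAction.IsPreprimitive G Ω ∨ MulAction.IsMultiplyPretransitive G Ω 2 := by
  by_contra! h
  obtain ⟨hp, h2⟩ := h
  have := PGrp.isMulCommutative_of_isCyclic hcyc
  have : Nontrivial Ω := Finite.one_lt_card_iff_nontrivial.1 hn
  obtain ⟨a⟩ : Nonempty Ω := inferInstance
  have hc : Nat.card C = Nat.card Ω := by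
    have := hC.1
    rw [← index_stabilizer_of_transitive C a, hC.2, index_bot]
  obtain ⟨s, hs, hs'⟩ := Nat.exists_prime_and_dvd (n := Nat.card C) (by omega)
  have := Fact.mk hs
  obtain ⟨e, he⟩ := exists_prime_orderOf_dvd_card' s hs'
  obtain ⟨N, _, h3, h4⟩ := BS.exists_normal_intrans hC.1 hC.2 hs e.2 (by rw [Subgroup.orderOf_coe, he])
    (fun k hk e' => PGrp.mem_zpowers_of_pow_eq_one hcyc hk e.2 (by rwa [Subgroup.orderOf_coe, he])) (fun e => hnp (hc ▸ e ▸ hs.isPrimePow)) h2
  refine h4 (IsQuasiPreprimitive.isPretransitive_of_normal fun e => h3 (eq_bot_iff.2 fun x hx => ?_))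
  exact eq_of_smul_eq_smul fun b : Ω => (e.ge (Set.mem_univ b) ⟨x, hx.1⟩).trans (one_smul G b).symm

end Cfsg.Agent.S3559
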