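import Cfsg.Statements.S3560
import Cfsg.Agent.Lib.FG.JSet

set_option autoImplicit false
open Cfsg

open Subgroup Cfsg.Lib
open scoped commutatorElement
open MulAction
namespace Cfsg.Agent.S3560

theorem block_univ {ι Y : Type*} [Fintype ι] [DecidableEq ι] [Fintype Y] [DecidableEq Y] (h3 : 3 ≤ Fintype.card Y)
    {B : Set (ι → Y)} (hB : ∀ (π : Equiv.Perm ι) (σ : ι → Equiv.Perm Y), ∀ x ∈ B, (fun k => σ k (x (π k))) = x →
      ∀ y ∈ B, (fun k => σ k (y (π k))) ∈ B) {x y : ι → Y} (hx : x ∈ B) (hy : y ∈ B) (hxy : x ≠ y) (w : ι → Y) :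
    w ∈ B := by
  have two : ∀ a b c d : Y, a ≠ b → c ≠ d → ∃ σ : Equiv.Perm Y, σ a = c ∧ σ b = d := fun a b c d h h' => by
    obtain ⟨σ, hσ⟩ := Equiv.Perm.exists_extending_pair ![a, b] ![c, d]
      (by intro i j; fin_cases i <;> fin_cases j <;> simp [h, h.symm])
      (by intro i j; fin_cases i <;> fin_cases j <;> simp [h', h'.symm])
    exact ⟨σ, hσ 0, hσ 1⟩
  have c1 : ∀ z ∈ B, (∃ i c, c ≠ z i ∧ Function.update z i c ∈ B) → ∀ j d, Function.update z j d ∈ B := by
    rintro z hz ⟨i, c, hc, h⟩ j d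
    by_cases hd : d = z j
    · rwa [hd, Function.update_eq_self]
    obtain ⟨σ, h1, h2⟩ := two (z i) c (z j) d hc.symm (Ne.symm hd)
    have := hB (Equiv.swap i j) (Function.update (fun k => Equiv.swap (z (Equiv.swap i j k)) (z k)) j σ) z hz
      (funext fun k => by by_cases hk : k = j <;> simp [hk, h1]) _ h
    convert this using 1
    funext k
    by_cases hk : k = j
    · simp [hk, h2]
    · have : Equiv.swap i j k ≠ i := fun e => hk ((Equiv.swap i j).injective (e.trans (Equiv.swap_apply_right i j).symm))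
      simp [hk, this]
  obtain ⟨i, hi⟩ := Function.ne_iff.1 hxy
  obtain ⟨c, hc⟩ : ∃ c, c ∉ ({x i, y i} : Finset Y) := by
    by_contra hn
    push Not at hn
    have := Finset.card_le_two (a := x i) (b := y i)
    rw [Finset.eq_univ_of_forall hn, Finset.card_univ] at this
    omega
  simp only [Finset.mem_insert, Finset.mem_singleton, not_or] at hc
  have h0 : Function.update y i c ∈ B := by
    have := hB 1 (Function.update 1 i (Equiv.swap (y i) c)) x hx (funext fun k => by
      by_cases hk : k = i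
      · simp [hk, Equiv.swap_apply_of_ne_of_ne hi (Ne.symm hc.1)]
      · simp [hk]) y hy
    convert this using 1
    funext k
    by_cases hk : k = i <;> simp [hk]
  have key : ∀ s : Finset ι, s.piecewise w y ∈ B ∧
      ∃ i c, c ≠ s.piecewise w y i ∧ Function.update (s.piecewise w y) i c ∈ B := by
    intro s
    induction s using Finset.induction_on with
    | empty => simpa using ⟨hy, i, c, hc.2, h0⟩
    | insert j s hj ih =>
      rw [Finset.piecewise_insert]
      refine ⟨c1 _ ih.1 ih.2 _ _, ?_⟩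
      by_cases e : w j = s.piecewise w y j
      · rw [e, Function.update_eq_self]; exact ih.2
      · exact ⟨j, s.piecewise w y j, by simpa using Ne.symm e, by simpa using ih.1⟩
  simpa using (key Finset.univ).1

/-- Let K be a finite group isomorphic to a direct product of r ≥ 2 groups all of the same order m ≥ 3. Then K is not a B-group: there is a primitive but not doubly transitive permutation group (on some finite set) containing a regular subgroup isomorphic to K. -/
theorem result {K : Type*} [Group K] [Finite K] {ι : Type*} [Fintype ι] (F : ι → Type*) [∀ i, Group (F i)]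
    (hr : 2 ≤ Fintype.card ι) (m : ℕ) (hm : 3 ≤ m) (hcard : ∀ i, Nat.card (F i) = m) (e : K ≃* (∀ i, F i)) :
    ∃ (n : ℕ) (G R : Subgroup (Equiv.Perm (Fin n))), R ≤ G ∧ Nonempty (↥R ≃* K) ∧
      MulAction.IsPretransitive ↥R (Fin n) ∧ (∀ a : Fin n, MulAction.stabilizer ↥R a = ⊥) ∧
      MulAction.IsPreprimitive ↥G (Fin n) ∧ ¬ MulAction.IsMultiplyPretransitive ↥G (Fin n) 2 := by
  classical
  haveI : ∀ i, Finite (F i) := fun i => Nat.finite_of_card_ne_zero (by rw [hcard]; omega)
  let ψ : ∀ i, F i ≃ Fin m := fun i => Finite.equivFinOfCardEq (hcard i)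
  let φ := (Fintype.equivFin (ι → Fin m)).symm
  let G : Subgroup (Equiv.Perm (Fin (Fintype.card (ι → Fin m)))) :=
    { carrier := {σ | ∀ a b, hammingDist (φ (σ a)) (φ (σ b)) = hammingDist (φ a) (φ b)}
      one_mem' := fun _ _ => rfl
      mul_mem' := fun hσ hτ a b => (hσ _ _).trans (hτ a b)
      inv_mem' := fun {σ} hσ a b => by rw [← hσ]; simp }
  let T : Equiv.Perm ι → (ι → Equiv.Perm (Fin m)) → G := fun π σ =>
    ⟨φ.symm.permCongr ((Equiv.arrowCongr π.symm (Equiv.refl _)).trans (Equiv.piCongrRight σ)), fun a b => by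
      simp only [Equiv.permCongr_apply, Equiv.symm_symm, Equiv.apply_symm_apply, hammingDist]
      exact Finset.card_bijective π π.bijective fun i => by simp⟩
  have hT : ∀ π σ a, φ (T π σ • a) = fun k => σ k (φ a (π k)) := fun π σ a => φ.apply_symm_apply _
  let ρ : K →* G := MonoidHom.mk' (fun k => T 1 fun i => (ψ i).permCongr (Equiv.mulLeft (e k i))) fun k l =>
    Subtype.ext (Equiv.ext fun a => φ.injective ((hT _ _ a).trans (Eq.trans (by
      erw [hT]; funext i; simp [mul_assoc]; exact ((ψ i).symm_apply_apply _).symm) (hT _ _ _).symm)))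
  have hρ : ∀ k a i, φ ((ρ k).1 a) i = ψ i (e k i * (ψ i).symm (φ a i)) := fun k a i => congrFun (hT _ _ a) i
  have free : ∀ k a, (ρ k).1 a = a → k = 1 := fun k a h => e.injective (funext fun i => by
    have := hρ k a i
    rw [h, ← Equiv.symm_apply_eq] at this
    simpa using this.symm)
  have tr : ∀ a b, ∃ k, (ρ k).1 a = b := fun a b =>
    ⟨e.symm fun i => (ψ i).symm (φ b i) * ((ψ i).symm (φ a i))⁻¹, φ.injective (funext fun i => by rw [hρ]; simp)⟩
  haveI : Nontrivial (Fin m) := Fin.nontrivial_iff_two_le.2 (by omega)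
  obtain ⟨u, v, huv⟩ := exists_pair_ne (Fin m)
  refine ⟨_, G, (G.subtype.comp ρ).range, ?_, ⟨(MonoidHom.ofInjective ((injective_iff_map_eq_one _).2 fun k hk =>
    free k (φ.symm fun _ => u) (congrArg (· (φ.symm fun _ => u)) hk))).symm⟩, ⟨fun a b => ?_⟩, fun a => ?_, ?_, fun h => ?_⟩
  · rintro _ ⟨k, rfl⟩; exact (ρ k).2
  · obtain ⟨k, hk⟩ := tr a b
    exact ⟨⟨_, k, rfl⟩, hk⟩
  · refine eq_bot_iff.2 ?_
    rintro ⟨_, k, rfl⟩ hk
    exact Subtype.ext (by rw [free k a hk]; exact map_one _)
  · haveI : IsPretransitive G (Fin (Fintype.card (ι → Fin m))) := ⟨fun a b => (tr a b).elim fun k hk => ⟨ρ k, hk⟩⟩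
    refine ⟨fun {B} hB => or_iff_not_imp_left.2 fun hn => Set.eq_univ_of_forall fun w => ?_⟩
    obtain ⟨x, hx, y, hy, hxy⟩ := Set.not_subsingleton_iff.1 hn
    have := block_univ (B := φ '' B) (by simpa using hm) ?_ ⟨x, hx, rfl⟩ ⟨y, hy, rfl⟩ (φ.injective.ne hxy) (φ w)
    · simpa using this
    · rintro π σ _ ⟨a, ha, rfl⟩ h _ ⟨b, hb, rfl⟩
      rw [← hT] at h ⊢
      refine ⟨_, ?_, rfl⟩
      rw [← isBlock_iff_smul_eq_of_mem.1 hB (g := T π σ) ha (by rwa [φ.injective h])]
      exact Set.smul_mem_smul_set hb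
  · obtain ⟨i⟩ := Fintype.card_pos_iff.1 (show 0 < Fintype.card ι by omega)
    have h' := @Iff.mp _ _ is_two_pretransitive_iff h
    obtain ⟨g, h1, h2⟩ := @h' (φ.symm fun _ => u) (φ.symm fun _ => v)
      (φ.symm fun _ => u) (φ.symm (Function.update (fun _ => u) i v))
      (φ.symm.injective.ne fun e => huv (congrFun e i)) (φ.symm.injective.ne fun e => huv (by simpa using congrFun e i))
    have := g.2 (φ.symm fun _ => u) (φ.symm fun _ => v)
    rw [show g.1 _ = _ from h1, show g.1 _ = _ from h2] at this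
    simp only [Equiv.apply_symm_apply, hammingDist] at this
    rw [show (Finset.univ.filter fun k => u ≠ Function.update (fun _ => u) i v k) = {i} by
      ext k; by_cases hk : k = i <;> simp [hk, huv]] at this
    simp [huv] at this
    omega

end Cfsg.Agent.S3560
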