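import Cfsg.Statements.S3572
import Cfsg.Agent.Lib.Block2.Dih3

set_option autoImplicit false
open Cfsg

namespace Cfsg.Agent.S3572

/-- A finite primitive permutation group containing a dihedral subgroup that acts regularly (transitively with trivial point stabilizers) is doubly transitive. -/
theorem result {G Ω : Type*} [Group G] [Finite G] [MulAction G Ω] [FaithfulSMul G Ω] [Finite Ω]
    (hprim : MulAction.IsPreprimitive G Ω) (D : Subgroup G) (m : ℕ) (hD : Nonempty (↥D ≃* DihedralGroup m))
    (hDreg : MulAction.IsPretransitive ↥D Ω ∧ ∀ a : Ω, MulAction.stabilizer ↥D a = ⊥) :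
    MulAction.IsMultiplyPretransitive G Ω 2 := by
  obtain ⟨φ⟩ := hD
  haveI : Finite (DihedralGroup m) := Finite.of_equiv _ φ.toEquiv
  haveI : NeZero m := ⟨by rintro rfl; exact not_finite (DihedralGroup 0)⟩
  rcases isEmpty_or_nonempty Ω with h | ⟨⟨o⟩⟩
  · exact MulAction.is_two_pretransitive_iff.2 fun {a} => h.elim a
  refine Cfsg.Lib.Block2.Dih.two_of_dihedral (D.subtype.comp φ.symm.toMonoidHom) o ⟨fun a b k => φ.symm.injective
    (inv_mul_eq_one.1 (Subgroup.mem_bot.1 ((hDreg.2 o).le ?_))), fun x => ?_⟩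
  · rw [MulAction.mem_stabilizer_iff, mul_smul, inv_smul_eq_iff]
    exact k.symm
  · obtain ⟨d, hd⟩ := hDreg.1.exists_smul_eq o x
    exact ⟨φ d, by simpa [Subgroup.smul_def] using hd⟩

end Cfsg.Agent.S3572
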