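import Cfsg.Statements.S3573
import Cfsg.Agent.Lib.Layer.Misc

set_option autoImplicit false
open Cfsg

namespace Cfsg.Agent.S3573

open Subgroup Cfsg.Lib.Core Cfsg.Lib.Amalg Cfsg.Lib.BG1 Cfsg.Lib.Layer
theorem modEq {α : Type*} [Fintype α] [DecidableEq α] {σ : Equiv.Perm α} {r : ℕ} (hr : r.Prime) (h : σ ^ r = 1) {s : Finset α}
    (hs : s.image σ = s) : s.card ≡ (s.filter fun x => σ x = x).card [MOD r] := by
  have := Fact.mk hr
  have h1 : ∀ x, σ x ∈ s ↔ x ∈ s := fun x => by
    conv_lhs => rw [← hs]
    exact σ.injective.mem_finset_image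
  have := Equiv.Perm.card_fixedPoints_modEq (p := r) (n := 1) (f := (σ.subtypePerm h1 : s → s)) (by
    have : (σ.subtypePerm h1) ^ r = 1 := by rw [Equiv.Perm.subtypePerm_pow]; ext y; simp [h]
    rw [pow_one]
    exact (map_pow (MulAction.toEndHom (M := Equiv.Perm s) (α := s)) _ _).symm.trans (by rw [this, map_one]))
  rw [Fintype.card_coe] at this
  refine this.trans (by
    rw [← Fintype.card_coe]
    exact congrArg (· % r) (Fintype.card_congr ⟨fun x => ⟨x.1.1, Finset.mem_filter.2 ⟨x.1.2, congrArg Subtype.val x.2⟩⟩,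
      fun x => ⟨⟨x.1, (Finset.mem_filter.1 x.2).1⟩, Subtype.ext (Finset.mem_filter.1 x.2).2⟩, fun _ => rfl, fun _ => rfl⟩))

theorem main {n k r : ℕ} (hkn : k ≤ n) (hr : r.Prime) (hrn : r ≤ n) :
    (∀ σ : Equiv.Perm (Fin n), orderOf σ = r → ∃ s : Finset (Fin n), s.card = k ∧ s.image σ = s) ↔ k % r ≤ n % r := by
  constructor
  · intro h
    obtain ⟨g, hg⟩ := (Equiv.Perm.exists_with_cycleType_iff (Fin n) (m := Multiset.replicate (n / r) r)).2
      ⟨by simp [Nat.div_mul_le_self], fun a ha => Multiset.eq_of_mem_replicate ha ▸ hr.two_le⟩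
    have ho : orderOf g = r := by
      rw [← Equiv.Perm.lcm_cycleType, hg]
      obtain ⟨k, hk⟩ := Nat.exists_eq_succ_of_ne_zero (Nat.div_pos hrn hr.pos).ne'
      rw [hk]
      exact Nat.dvd_antisymm (Multiset.lcm_dvd.2 fun a ha => Multiset.eq_of_mem_replicate ha ▸ dvd_rfl) (Multiset.dvd_lcm (by simp))
    obtain ⟨s, rfl, hs⟩ := h g ho
    have h1 := g.sum_cycleType
    rw [hg, Multiset.sum_replicate, smul_eq_mul] at h1
    have h2 : (s.filter fun x => g x = x).card ≤ g.supportᶜ.card := Finset.card_le_card fun x hx => by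
      simpa using (Finset.mem_filter.1 hx).2
    rw [Finset.card_compl, ← h1, Fintype.card_fin] at h2
    have := Nat.div_add_mod' n r
    rw [modEq hr (ho ▸ pow_orderOf_eq_one g) hs]
    exact (Nat.mod_le _ _).trans (by omega)
  · intro h σ ho
    obtain ⟨c, hc⟩ := Equiv.Perm.cycleType_prime_order (ho ▸ hr)
    rw [ho] at hc
    have h1 := σ.sum_cycleType
    rw [hc, Multiset.sum_replicate, smul_eq_mul] at h1
    have h2 : σ.cycleFactorsFinset.card = c + 1 := by
      have := congrArg Multiset.card hc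
      rwa [Equiv.Perm.cycleType_def, Multiset.card_map, Multiset.card_replicate] at this
    have h3 : (c + 1) * r ≤ n := by simpa [h1] using σ.support.card_le_univ
    obtain ⟨j, hj, h4, h5⟩ : ∃ j ≤ c + 1, j * r ≤ k ∧ k - j * r ≤ n - (c + 1) * r := by
      by_cases e : k / r ≤ c + 1
      · refine ⟨k / r, e, Nat.div_mul_le_self _ _, ?_⟩
        have := Nat.div_add_mod' k r
        have : n % r ≤ n - (c + 1) * r := by
          conv_lhs => rw [← Nat.sub_add_cancel h3, Nat.add_mul_mod_self_right]
          exact Nat.mod_le _ _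
        omega
      · exact ⟨c + 1, le_rfl, (Nat.mul_le_mul_right r (by omega)).trans (Nat.div_mul_le_self k r), by omega⟩
    obtain ⟨t, ht, rfl⟩ := Finset.exists_subset_card_eq (h2 ▸ hj : j ≤ σ.cycleFactorsFinset.card)
    obtain ⟨u, hu, hu'⟩ := Finset.exists_subset_card_eq (s := σ.supportᶜ) (n := k - t.card * r)
      (by rwa [Finset.card_compl, ← h1, Fintype.card_fin])
    have hd : Disjoint (t.biUnion Equiv.Perm.support) u := Finset.disjoint_of_subset_right hu
      (Finset.disjoint_of_subset_left (Finset.biUnion_subset.2 fun f hf => Equiv.Perm.mem_cycleFactorsFinset_support_le (ht hf))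
        disjoint_compl_right)
    refine ⟨t.biUnion Equiv.Perm.support ∪ u, ?_, Finset.eq_of_subset_of_card_le ?_ (Finset.card_image_of_injective _ σ.injective).ge⟩
    · rw [Finset.card_union_of_disjoint hd, Finset.card_biUnion fun f hf g hg e =>
        (σ.cycleFactorsFinset_pairwise_disjoint (ht hf) (ht hg) e).disjoint_support, Finset.sum_const_nat (m := r), hu']
      · omega
      · intro f hf
        have : f.support.card ∈ σ.cycleType := Multiset.mem_map_of_mem _ (ht hf)
        exact Multiset.eq_of_mem_replicate (hc ▸ this)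
    · refine Finset.image_subset_iff.2 fun x hx => ?_
      rcases Finset.mem_union.1 hx with e | e
      · obtain ⟨f, hf, e⟩ := Finset.mem_biUnion.1 e
        refine Finset.mem_union_left _ (Finset.mem_biUnion.2 ⟨f, hf, ?_⟩)
        rw [← (Equiv.Perm.mem_cycleFactorsFinset_iff.1 (ht hf)).2 x e]
        exact Equiv.Perm.apply_mem_support.2 e
      · rwa [show σ x = x by simpa using hu e]


/-- Let 1 ≤ k with 2k < n and consider the symmetric group of degree n acting on the k-subsets of an n-set. Let r be a prime dividing the number C(n,k) of k-subsets. If r is odd, then every permutation of order r fixes some k-subset if and only if r ≤ k and the remainder of k modulo r is at most the remainder of n modulo r. If r = 2, then every involution fixes some k-subset if and only if k is even or n is odd. -/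
theorem result (n k : ℕ) (hk : 1 ≤ k) (hkn : 2 * k < n) (r : ℕ) (hr : r.Prime) (hrd : r ∣ Nat.choose n k) :
    (r ≠ 2 → ((∀ σ : Equiv.Perm (Fin n), orderOf σ = r → ∃ s : Finset (Fin n), s.card = k ∧ s.image σ = s) ↔
      (r ≤ k ∧ k % r ≤ n % r))) ∧
    (r = 2 → ((∀ σ : Equiv.Perm (Fin n), orderOf σ = 2 → ∃ s : Finset (Fin n), s.card = k ∧ s.image σ = s) ↔
      (Even k ∨ Odd n))) := by
  have hrn : r ≤ n := hr.dvd_factorial.1 (hrd.trans ((Dvd.intro _ rfl).trans ((Dvd.intro _ rfl).trans
    (Nat.choose_mul_factorial_mul_factorial (by omega : k ≤ n)).dvd)))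
  refine ⟨fun _ => ?_, fun e => ?_⟩
  · rw [main (by omega) hr hrn]
    refine ⟨fun h => ⟨?_, h⟩, fun h => h.2⟩
    by_contra hl
    have := Fact.mk hr
    have h1 := Choose.choose_modEq_choose_mod_mul_choose_div_nat (n := n) (k := k) (p := r)
    rw [Nat.div_eq_of_lt (not_le.1 hl), Nat.choose_zero_right, mul_one] at h1
    have h2 := hr.dvd_factorial.1 (((h1.dvd_iff dvd_rfl).1 hrd).trans ((Dvd.intro _ rfl).trans ((Dvd.intro _ rfl).trans
      (Nat.choose_mul_factorial_mul_factorial h).dvd)))
    exact absurd (Nat.mod_lt n hr.pos) (not_lt.2 h2)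
  · subst e
    rw [main (by omega) hr hrn, Nat.even_iff, Nat.odd_iff]
    omega

end Cfsg.Agent.S3573
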