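import Cfsg.Statements.S3575


set_option autoImplicit false
open Cfsg

namespace Cfsg.Agent.S3575

open Equiv Finset

theorem ex_perm {r : ℕ} (hr : r.Prime) (α : Type*) [Fintype α] [DecidableEq α] (x : ℕ)
    (h : x * r ≤ Fintype.card α) : ∃ g : Perm α, g ^ r = 1 ∧ g.support.card = x * r := by
  have := Fact.mk hr
  obtain ⟨g, hg⟩ := (Equiv.Perm.exists_with_cycleType_iff α (m := Multiset.replicate x r)).2
    ⟨by simpa using h, fun a ha => by rw [Multiset.eq_of_mem_replicate ha]; exact hr.two_le⟩
  refine ⟨g, Equiv.Perm.pow_prime_eq_one_iff.2 fun c hc => ?_, ?_⟩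
  · rw [hg] at hc; exact Multiset.eq_of_mem_replicate hc
  · rw [← Equiv.Perm.sum_cycleType, hg]; simp

theorem conj_of {r : ℕ} (hr : r.Prime) {α : Type*} [Fintype α] [DecidableEq α] (σ τ : Perm α)
    (hσ : σ ^ r = 1) (hτ : τ ^ r = 1) (h : σ.support.card = τ.support.card) : IsConj σ τ := by
  have := Fact.mk hr
  rw [Equiv.Perm.isConj_iff_cycleType_eq]
  have h1 := Multiset.eq_replicate_card.2 (Equiv.Perm.pow_prime_eq_one_iff.1 hσ)
  have h2 := Multiset.eq_replicate_card.2 (Equiv.Perm.pow_prime_eq_one_iff.1 hτ)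
  rw [← Equiv.Perm.sum_cycleType, ← Equiv.Perm.sum_cycleType, h1, h2] at h
  simp only [Multiset.sum_replicate, smul_eq_mul] at h
  rw [h1, h2, Nat.eq_of_mul_eq_mul_right hr.pos h]

theorem dvd_supp {r : ℕ} (hr : r.Prime) {α : Type*} [Fintype α] [DecidableEq α] (σ : Perm α)
    (hσ : σ ^ r = 1) : r ∣ σ.support.card := by
  have := Fact.mk hr
  have h1 := Multiset.eq_replicate_card.2 (Equiv.Perm.pow_prime_eq_one_iff.1 hσ)
  rw [← Equiv.Perm.sum_cycleType, h1]
  simp

theorem dvd_of {r : ℕ} (hr : r.Prime) {α : Type*} [Fintype α] [DecidableEq α] (σ : Perm α)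
    (hσ : σ ^ r = 1) (p : α → Prop) [DecidablePred p] (hs : ∀ x, p (σ x) ↔ p x) :
    r ∣ (σ.support.filter p).card := by
  have h := dvd_supp hr (σ.subtypePerm hs) (by
    rw [Equiv.Perm.subtypePerm_pow]; ext x; simp [hσ])
  convert h using 1
  symm
  refine Finset.card_bij (fun (x : {x // p x}) _ => (x : α)) ?_ ?_ ?_
  · intro x hx
    simp only [Equiv.Perm.mem_support, ne_eq, Finset.mem_filter] at hx ⊢
    exact ⟨fun h => hx (Subtype.ext h), x.2⟩
  · intro x _ y _ h; exact Subtype.ext h
  · intro y hy
    simp only [Equiv.Perm.mem_support, ne_eq, Finset.mem_filter] at hy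
    refine ⟨⟨y, hy.2⟩, ?_, rfl⟩
    simp only [Equiv.Perm.mem_support, ne_eq]
    exact fun h => hy.1 (congrArg Subtype.val h)

theorem distrib {ι : Type*} [DecidableEq ι] (s : Finset ι) (c : ℕ) :
    ∀ N, N ≤ s.card * c → ∃ x : ι → ℕ, (∀ j, x j ≤ c) ∧ ∑ j ∈ s, x j = N := by
  induction s using Finset.induction_on with
  | empty => intro N h; exact ⟨fun _ => 0, fun _ => Nat.zero_le _, by simp at h; simp [h]⟩
  | insert a s ha ih =>
    intro N h
    rw [Finset.card_insert_of_notMem ha] at h
    obtain ⟨x, hx, hs⟩ := ih (N - min N c) (by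
      rcases le_total N c with h1 | h1
      · simp [h1]
      · rw [min_eq_right h1]; have : (s.card + 1) * c = s.card * c + c := by ring
        omega)
    refine ⟨Function.update x a (min N c), fun j => ?_, ?_⟩
    · by_cases hj : j = a
      · subst hj; simp
      · rw [Function.update_of_ne hj]; exact hx j
    · rw [Finset.sum_insert ha, Function.update_self,
        Finset.sum_congr rfl (g := x) (fun j hj => Function.update_of_ne (fun h : j = a => ha (h ▸ hj)) _ _), hs]
      have := min_le_left N c
      omega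

theorem model {r : ℕ} (hr : r.Prime) (a b t u : ℕ) (hu : u * r ≤ b) (h1 : u * a ≤ t)
    (h2 : t ≤ u * a + (b - u * r) * (a / r)) :
    ∃ (τ : Perm (Fin b × Fin a)) (π : Perm (Fin b)), τ ^ r = 1 ∧ τ.support.card = t * r ∧
      ∀ x, (τ x).1 = π x.1 := by
  obtain ⟨π, hπ, hπc⟩ := ex_perm hr (Fin b) u (by simpa using hu)
  obtain ⟨x, hx, hxs⟩ := distrib π.supportᶜ (a / r) (t - u * a) (by
    rw [Finset.card_compl, hπc]; simp only [Fintype.card_fin]; omega)
  have hg : ∀ j, ∃ g : Perm (Fin a), g ^ r = 1 ∧ g.support.card = x j * r := fun j =>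
    ex_perm hr (Fin a) (x j) (by
      simp only [Fintype.card_fin]
      exact (Nat.mul_le_mul_right r (hx j)).trans (Nat.div_mul_le_self a r))
  choose g hg1 hg2 using hg
  let g' : Fin b → Perm (Fin a) := fun j => if π j = j then g j else 1
  let τ : Perm (Fin b × Fin a) := Equiv.prodShear π g'
  have hτ : ∀ j y, τ (j, y) = (π j, g' j y) := fun j y => rfl
  refine ⟨τ, π, ?_, ?_, fun x => rfl⟩
  · have key : ∀ n j y, (τ ^ n) (j, y) = ((π ^ n) j, (g' j ^ n) y) := by
      intro n
      induction n with
      | zero => intro j y; rfl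
      | succ n ih =>
        intro j y
        rw [pow_succ, Equiv.Perm.mul_apply, hτ, ih, pow_succ, pow_succ, Equiv.Perm.mul_apply,
          Equiv.Perm.mul_apply]
        by_cases hj : π j = j
        · rw [hj]
        · have : π (π j) ≠ π j := fun h => hj (π.injective h)
          simp [g', hj, this]
    ext1 ⟨j, y⟩
    rw [key, hπ]
    by_cases hj : π j = j <;> simp [g', hj, hg1]
  · rw [Finset.card_eq_sum_card_fiberwise (f := Prod.fst) (t := Finset.univ) (by simp)]
    have hf : ∀ j, (τ.support.filter fun z => z.1 = j).card =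
        if π j = j then x j * r else a := by
      intro j
      split_ifs with hj
      · rw [← hg2 j]
        refine Finset.card_bij (fun z _ => z.2) ?_ ?_ ?_
        · rintro ⟨j', y⟩ hz
          simp only [Finset.mem_filter, Equiv.Perm.mem_support, hτ] at hz ⊢
          obtain ⟨hz, rfl⟩ := hz
          intro h; apply hz; simp [g', hj, h]
        · rintro ⟨j1, y1⟩ hz1 ⟨j2, y2⟩ hz2 h
          simp only [Finset.mem_filter] at hz1 hz2 h
          rw [hz1.2, hz2.2, h]
        · intro y hy
          refine ⟨(j, y), ?_, rfl⟩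
          simp only [Finset.mem_filter, Equiv.Perm.mem_support, hτ] at hy ⊢
          refine ⟨fun h => hy ?_, trivial⟩
          simpa [g', hj] using h
      · conv_rhs => rw [← Fintype.card_fin a, ← Finset.card_univ]
        refine Finset.card_bij (fun z _ => z.2) ?_ ?_ ?_
        · simp
        · rintro ⟨j1, y1⟩ hz1 ⟨j2, y2⟩ hz2 h
          simp only [Finset.mem_filter] at hz1 hz2 h
          rw [hz1.2, hz2.2, h]
        · intro y _
          refine ⟨(j, y), ?_, rfl⟩
          simp only [Finset.mem_filter, Equiv.Perm.mem_support, hτ]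
          exact ⟨fun h => hj (congrArg Prod.fst h), trivial⟩
    simp only [hf]
    rw [Finset.sum_ite]
    have e1 : Finset.univ.filter (fun j => π j = j) = π.supportᶜ := by ext j; simp
    have e2 : Finset.univ.filter (fun j => ¬ π j = j) = π.support := by ext j; simp
    rw [e1, e2, ← Finset.sum_mul, hxs, Finset.sum_const, hπc, smul_eq_mul]
    obtain ⟨d, rfl⟩ := Nat.exists_eq_add_of_le h1
    rw [Nat.add_sub_cancel_left]; ring

theorem fix_iff {r : ℕ} (hr : r.Prime) (a b t : ℕ) (ha : 1 ≤ a) (σ : Perm (Fin (a * b)))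
    (hσ : σ ^ r = 1) (ht : σ.support.card = t * r) :
    (∃ f : Fin (a * b) → Fin b, (∀ j : Fin b, Nat.card {x : Fin (a * b) // f x = j} = a) ∧
          ∃ π : Equiv.Perm (Fin b), ∀ x : Fin (a * b), f (σ x) = π (f x)) ↔
      ∃ u, u * r ≤ b ∧ u * a ≤ t ∧ t ≤ u * a + (b - u * r) * (a / r) := by
  constructor
  · rintro ⟨f, hf, π, hπ⟩
    have hf' : ∀ j, (Finset.univ.filter fun x => f x = j).card = a := by
      intro j
      have := hf j
      rwa [Nat.card_eq_fintype_card, Fintype.card_subtype] at this
    have hsurj : ∀ j, ∃ x, f x = j := by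
      intro j
      obtain ⟨x, hx⟩ := Finset.card_pos.1 (by rw [hf' j]; omega : 0 < (Finset.univ.filter fun x => f x = j).card)
      exact ⟨x, (Finset.mem_filter.1 hx).2⟩
    have hpow : ∀ n x, f ((σ ^ n) x) = (π ^ n) (f x) := by
      intro n
      induction n with
      | zero => intro x; rfl
      | succ n ih => intro x; rw [pow_succ', pow_succ', Equiv.Perm.mul_apply, hπ, ih]; rfl
    have hπr : π ^ r = 1 := by
      ext1 j
      obtain ⟨x, rfl⟩ := hsurj j
      rw [← hpow, hσ]; rfl
    obtain ⟨u, hu⟩ := dvd_supp hr π hπr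
    have hub : u * r ≤ b := by
      have := Finset.card_le_univ π.support
      rw [Fintype.card_fin, hu] at this; linarith
    refine ⟨u, hub, ?_⟩
    have hsum := Finset.card_eq_sum_card_fiberwise (f := f) (s := σ.support) (t := Finset.univ) (by simp)
    rw [← Finset.sum_add_sum_compl π.support] at hsum
    have e1 : ∑ j ∈ π.support, (σ.support.filter fun x => f x = j).card = u * a * r := by
      rw [Finset.sum_congr rfl (g := fun _ => a), Finset.sum_const, hu, smul_eq_mul]
      · ring
      · intro j hj
        refine Eq.trans ?_ (hf' j)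
        congr 1
        ext x
        simp only [Finset.mem_filter, Equiv.Perm.mem_support, Finset.mem_univ, true_and,
          and_iff_right_iff_imp]
        rintro rfl h
        exact (Equiv.Perm.mem_support.1 hj) (by rw [← hπ, h])
    have e2 : ∑ j ∈ π.supportᶜ, (σ.support.filter fun x => f x = j).card ≤
        (b - u * r) * (a / r) * r := by
      refine (Finset.sum_le_card_nsmul _ _ (a / r * r) ?_).trans ?_
      · intro j hj
        have hj' : π j = j := by simpa using hj
        obtain ⟨m, hm⟩ := dvd_of hr σ hσ (fun x => f x = j) (fun x => by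
          rw [hπ]
          exact ⟨fun h => π.injective (h.trans hj'.symm), fun h => by rw [h, hj']⟩)
        have hle : (σ.support.filter fun x => f x = j).card ≤ a := by
          exact (Finset.card_le_card (Finset.filter_subset_filter _ (Finset.subset_univ _))).trans (hf' j).le
        rw [hm] at hle ⊢
        rw [mul_comm]
        exact Nat.mul_le_mul_right r ((Nat.le_div_iff_mul_le hr.pos).2 (by linarith))
      · rw [Finset.card_compl, hu, Fintype.card_fin, smul_eq_mul, mul_comm r u, mul_assoc]
    rw [ht, e1] at hsum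
    constructor
    · exact Nat.le_of_mul_le_mul_right (by omega) hr.pos
    · refine Nat.le_of_mul_le_mul_right ?_ hr.pos
      rw [add_mul]; omega
  · rintro ⟨u, hu, h1, h2⟩
    obtain ⟨τ, π, hτ, hτc, hπ⟩ := model hr a b t u hu h1 h2
    let e : Fin (a * b) ≃ Fin b × Fin a := Fintype.equivOfCardEq (by simp [mul_comm])
    have hc : IsConj (e.permCongr σ) τ := by
      refine conj_of hr _ _ ?_ hτ ?_
      · have := map_pow (e.permCongrHom) σ r
        rw [hσ, map_one] at this
        exact this.symm
      · rw [hτc, ← ht]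
        refine (Finset.card_bij (fun x _ => e x) ?_ ?_ ?_).symm
        · intro x hx
          simp only [Equiv.Perm.mem_support, Equiv.permCongr_apply, Equiv.symm_apply_apply] at hx ⊢
          exact fun h => hx (e.injective h)
        · intro x _ y _ h; exact e.injective h
        · intro y hy
          refine ⟨e.symm y, ?_, by simp⟩
          simp only [Equiv.Perm.mem_support, Equiv.permCongr_apply] at hy ⊢
          intro h; apply hy; rw [h]; simp
    obtain ⟨c, hc⟩ := isConj_iff.1 hc
    refine ⟨fun x => (c (e x)).1, fun j => ?_, π, fun x => ?_⟩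
    · have : {x : Fin (a * b) // (c (e x)).1 = j} ≃ Fin a :=
        { toFun := fun x => (c (e x.1)).2
          invFun := fun y => ⟨e.symm (c.symm (j, y)), by simp⟩
          left_inv := fun x => by
            apply Subtype.ext
            have : (j, (c (e x.1)).2) = c (e x.1) := Prod.ext x.2.symm rfl
            simp [this]
          right_inv := fun y => by simp }
      rw [Nat.card_congr this]; simp
    · rw [← hπ, ← hc]; simp

/-- Let a, b ≥ 2 and consider the symmetric group of degree a·b acting on the partitions of an (a·b)-set into b parts of size a (encoded as maps onto a b-element set all of whose fibres have a elements; a permutation fixes such a partition when it permutes the fibres). Let r be a prime dividing the number (ab)!/((a!)^b·b!) of such partitions, and let ℓ and k be the remainders of a and b modulo r. Then every permutation of order r fixes some such partition if and only if r ≤ a and one of the following holds: ℓ = 0; or k = 0 and ℓ = 1; or ℓ and k are non-zero, k·ℓ < r, and either b < r or (k +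 r)·ℓ ≤ k·a + r. -/
theorem result (a b : ℕ) (ha : 2 ≤ a) (hb : 2 ≤ b) (r : ℕ) (hr : r.Prime)
    (hrd : r ∣ (a * b).factorial / (a.factorial ^ b * b.factorial)) :
    (∀ σ : Equiv.Perm (Fin (a * b)), orderOf σ = r →
        ∃ f : Fin (a * b) → Fin b, (∀ j : Fin b, Nat.card {x : Fin (a * b) // f x = j} = a) ∧
          ∃ π : Equiv.Perm (Fin b), ∀ x : Fin (a * b), f (σ x) = π (f x)) ↔
      (r ≤ a ∧ (a % r = 0 ∨ (b % r = 0 ∧ a % r = 1) ∨
        (a % r ≠ 0 ∧ b % r ≠ 0 ∧ (b % r) * (a % r) < r ∧ (b < r ∨ (b % r + r) * (a % r) ≤ (b % r) * a + r)))) := by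
  have hrab : r ≤ a * b := by
    have hd : a.factorial ^ b * b.factorial ∣ (a * b).factorial := by
      rw [mul_comm a b, ← Nat.uniformBell_mul_eq b (n := a) (by omega), mul_assoc]
      exact Dvd.intro_left _ rfl
    have := hrd.trans (Nat.div_dvd_of_dvd hd)
    rwa [hr.dvd_factorial] at this
  have hr0 := hr.pos
  have hr2 := hr.two_le
  have main : (∀ σ : Equiv.Perm (Fin (a * b)), orderOf σ = r →
        ∃ f : Fin (a * b) → Fin b, (∀ j : Fin b, Nat.card {x : Fin (a * b) // f x = j} = a) ∧
          ∃ π : Equiv.Perm (Fin b), ∀ x : Fin (a * b), f (σ x) = π (f x)) ↔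
      ∀ t, 1 ≤ t → t * r ≤ a * b → ∃ u, u * r ≤ b ∧ u * a ≤ t ∧ t ≤ u * a + (b - u * r) * (a / r) := by
    have := Fact.mk hr
    constructor
    · intro h t ht1 ht
      obtain ⟨σ, hσ, hσc⟩ := ex_perm hr (Fin (a * b)) t (by simpa using ht)
      refine (fix_iff hr a b t (by omega) σ hσ hσc).1 (h σ (orderOf_eq_prime hσ ?_))
      rintro rfl
      have : 0 < t * r := Nat.mul_pos ht1 hr0
      simp at hσc; omega
    · intro h σ hσ
      have hσr : σ ^ r = 1 := hσ ▸ pow_orderOf_eq_one σ
      obtain ⟨t, ht⟩ := dvd_supp hr σ hσr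
      rw [mul_comm r t] at ht
      refine (fix_iff hr a b t (by omega) σ hσr ht).2 (h t ?_ ?_)
      · rcases Nat.eq_zero_or_pos t with rfl | h0
        · simp only [zero_mul, Finset.card_eq_zero, Equiv.Perm.support_eq_empty_iff] at ht
          rw [ht, orderOf_one] at hσ; omega
        · exact h0
      · have := Finset.card_le_univ σ.support
        rw [Fintype.card_fin, ht] at this; exact this
  rw [main]
  clear main hrd
  obtain ⟨α, l, hl, rfl⟩ : ∃ α l, l < r ∧ a = α * r + l :=
    ⟨a / r, a % r, Nat.mod_lt _ hr0, (Nat.div_add_mod' a r).symm⟩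
  obtain ⟨β, k, hk, rfl⟩ : ∃ β k, k < r ∧ b = β * r + k :=
    ⟨b / r, b % r, Nat.mod_lt _ hr0, (Nat.div_add_mod' b r).symm⟩
  have e1 : (α * r + l) % r = l := by rw [Nat.mul_add_mod_of_lt hl]
  have e2 : (β * r + k) % r = k := by rw [Nat.mul_add_mod_of_lt hk]
  have e3 : (α * r + l) / r = α := by
    rw [add_comm, Nat.add_mul_div_right _ _ hr0, Nat.div_eq_of_lt hl, zero_add]
  rw [e1, e2, e3]
  have hub : ∀ u, u * r ≤ β * r + k ↔ u ≤ β := by
    intro u
    constructor
    · intro h
      by_contra h'
      have : (β + 1) * r ≤ u * r := Nat.mul_le_mul_right r (by omega)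
      nlinarith
    · intro h
      have := Nat.mul_le_mul_right r h
      omega
  have hrw : ∀ u, u ≤ β → u * (α * r + l) + (β * r + k - u * r) * α = (β * r + k) * α + u * l := by
    intro u hu
    obtain ⟨d, rfl⟩ := Nat.exists_eq_add_of_le hu
    have : (u + d) * r + k - u * r = d * r + k := by rw [add_mul]; omega
    rw [this]; ring
  constructor
  · intro h
    have hα : 1 ≤ α := by
      by_contra h0
      obtain rfl : α = 0 := by omega
      obtain ⟨u, -, h1, h2⟩ := h 1 le_rfl (by simpa using hrab)
      rcases Nat.eq_zero_or_pos u with rfl | hu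
      · simp at h2
      · nlinarith
    have hkl : k * l < r := by
      by_contra h0
      push Not at h0
      obtain ⟨u, hu, -, h2⟩ := h ((β * r + k) * α + β * l + 1) (by omega) (by nlinarith)
      rw [hub] at hu
      rw [hrw u hu] at h2
      nlinarith
    have hβ : β = 0 ∨ l ≤ α * k + 1 := by
      by_contra h0
      push Not at h0
      obtain ⟨β, rfl⟩ : ∃ β', β = β' + 1 := ⟨β - 1, by omega⟩
      obtain ⟨u, hu, h1, h2⟩ := h ((((β + 1) * r + k) * α + β * l + 1)) (by omega) (by nlinarith)
      rw [hub] at hu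
      rw [hrw u hu] at h2
      rcases Nat.lt_or_ge β u with h3 | h3
      · obtain rfl : u = β + 1 := by omega
        nlinarith
      · nlinarith
    refine ⟨by nlinarith, ?_⟩
    by_cases hl0 : l = 0
    · exact Or.inl hl0
    by_cases hk0 : k = 0
    · subst hk0
      refine Or.inr (Or.inl ⟨rfl, ?_⟩)
      rcases hβ with rfl | hβ
      · omega
      · omega
    refine Or.inr (Or.inr ⟨hl0, hk0, hkl, ?_⟩)
    rcases hβ with rfl | hβ
    · left; omega
    · right; nlinarith
  · rintro ⟨hra, h⟩ t ht1 ht
    have h' : k * l < r ∧ (β = 0 ∨ l ≤ α * k + 1) := by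
      rcases h with rfl | ⟨rfl, rfl⟩ | ⟨-, -, h1, h2 | h2⟩
      · exact ⟨by omega, Or.inr (by omega)⟩
      · exact ⟨by omega, Or.inr (by omega)⟩
      · refine ⟨h1, Or.inl ?_⟩
        by_contra h0
        have : 1 * r ≤ β * r := Nat.mul_le_mul_right r (by omega)
        omega
      · refine ⟨h1, Or.inr ?_⟩
        refine Nat.le_of_mul_le_mul_right ?_ hr0
        nlinarith
    obtain ⟨hkl, hβ⟩ := h'
    have htop : t ≤ (β * r + k) * α + β * l := by
      by_contra h0
      push Not at h0
      have := Nat.mul_le_mul_right r (Nat.succ_le_of_lt h0)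
      simp only [Nat.succ_eq_add_one] at this
      nlinarith
    have hex : ∃ u, t ≤ (β * r + k) * α + u * l := ⟨β, htop⟩
    classical
    have hu : Nat.find hex ≤ β := Nat.find_min' hex htop
    refine ⟨Nat.find hex, (hub _).2 hu, ?_, by rw [hrw _ hu]; exact Nat.find_spec hex⟩
    rcases h0 : Nat.find hex with _ | v
    · simp
    · have h1 := Nat.find_min hex (m := v) (by omega)
      rw [h0] at hu
      rcases hβ with rfl | hβ
      · omega
      · have := Nat.mul_le_mul_right (α * r) hu
        nlinarith

end Cfsg.Agent.S3575
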