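import Cfsg.Statements.S3589
import Cfsg.Agent.Lib.Conj.SpecQ

set_option autoImplicit false
open Cfsg

namespace Cfsg.Agent.S3589

open Cfsg.Lib.Conj Cfsg.Lib.Forms Cfsg.Lib.Forms.Form Module

open Cfsg.Lib.Linear

theorem core {F : Type*} [Field F] [Finite F] {V : Type*} [AddCommGroup V] [Module F V]
    [FiniteDimensional F V] {D : Form (quadKind F) V} (h2 : (2 : F) = 0) (hD : D.Nondeg)
    (hn : finrank F V = 2 * 4) (h : ¬ D.HasTS 4) (L : SList F) (hL : OVal Even L)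
    (hd : oDim L = 2 * 4) (h1 : ∀ a ∈ L, 1 ≤ a.2.1 ∧ a.2.2 = 1) :
    ∃ g ∈ commutator D.isom, ∀ a ∈ L, a.1 ^ orderOf g = 1 := by
  haveI := Cfsg.Lib.Known.fact_prime_ringChar F
  have hG : D.Good := good_of_finrank (by omega)
  have dim : ∀ a ∈ L, od a.2.1 * a.2.2 = 2 * a.2.1 := fun a ha => by
    rw [od_of_pos (h1 a ha).1, (h1 a ha).2, mul_one]
  have own : ∀ {m : ℕ} {a}, a ∈ L → oN a ∣ m → a.1 ^ m = 1 := fun ha hm =>
    pw (hL _ ha).1.pow_oN hm
  have other : ∀ a ∈ L, ∀ b ∈ L, b = a ∨ a.2.1 + b.2.1 ≤ 4 := fun a ha b hb =>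
    or_iff_not_imp_left.2 fun hab => by
      have := add_le_oDim hb ha hab
      rw [dim a ha, dim b hb] at this
      omega
  by_cases c4 : ∃ a ∈ L, oN a = Nat.card F ^ 4 + 1 ∧ a.2.1 = 4
  · obtain ⟨a, ha, h3, h4⟩ := c4
    obtain ⟨g, h5, h6⟩ := exists_single_two (ringChar F) h2 hD hG (by omega) hn h
    exact ⟨g, h5, fun b hb => (other a ha b hb).elim (fun h => own hb (h ▸ h3 ▸ h6))
      fun h => by have := (h1 b hb).1; omega⟩
  by_cases c3 : ∃ a ∈ L, a.2.1 = 3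
  · obtain ⟨a, ha, h3⟩ := c3
    have h4 : ∀ m, oN a ∣ m → Nat.card F ^ 1 + 1 ∣ m → Nat.card F ^ 1 - 1 ∣ m →
        ∀ b ∈ L, b.1 ^ m = 1 := fun m k0 k1 k2 b hb => (other a ha b hb).elim
      (fun h => own hb (h ▸ k0)) fun h => own hb (by
        have := (h1 b hb).1
        rcases oN_cases b with h5 | h5 <;> rwa [h5, show b.2.1 = 1 by omega])
    rcases oN_cases a with h5 | h5 <;> rw [h3] at h5
    · obtain ⟨g, h6, k1, k2⟩ := exists_pair_two (ringChar F) h2 hD hG (k := 3) (l := 1) (by omega)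
        le_rfl hn h
      exact ⟨g, h6, h4 _ (h5 ▸ k1) ((pow_add_one_dvd_add (k := 1) (u := 3) (by decide)).trans k1) k2⟩
    · obtain ⟨g, h6, k1, k2⟩ := exists_pair_two (ringChar F) h2 hD hG (k := 1) (l := 3) le_rfl
        (by omega) hn h
      exact ⟨g, h6, h4 _ (h5 ▸ k2) k1 ((pow_sub_one_dvd (one_dvd 3)).trans k2)⟩
  obtain ⟨g, h6, k1, k2⟩ := exists_pair_two (ringChar F) h2 hD hG (k := 2) (l := 2) (by omega)
    (by omega) hn h
  refine ⟨g, h6, fun a ha => own ha (Dvd.dvd.trans ?_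
    (pow_two_mul_sub_one_dvd h2 (by omega) k1 k2))⟩
  have := le_oDim ha
  have := dim a ha
  have := (h1 a ha).1
  have : a.2.1 ≠ 3 := fun h => c3 ⟨a, ha, h⟩
  obtain h7 | h7 | h7 : a.2.1 = 1 ∨ a.2.1 = 2 ∨ a.2.1 = 4 := by omega
  · exact (tor_oN h7 le_rfl).dvd (by decide)
  · exact (tor_oN h7 (by omega)).dvd (by decide)
  · exact ((h7 ▸ oN_cases a).resolve_left fun h => c4 ⟨a, ha, h, h7⟩).dvd

/-- Let F be a finite field of characteristic 2 and let a, b ∈ F make the binary form z₁² + a z₁z₂ + b z₂² anisotropic. Then the symplectic group PSp(8,F) (= Sp(8,F)) and the full isometry group of the non-singular quadratic form x₁y₁ + x₂y₂ + x₃y₃ + (z₁² + a z₁z₂ + b z₂²) of minus type in dimension 8 have the same set of element orders. -/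
theorem result {F : Type*} [Field F] [Fintype F]
    [CharP F 2] (a b : F) (han : ∀ z₁ z₂ : F, z₁ ^ 2 + a * z₁ * z₂ + b * z₂ ^ 2 = 0 → z₁ = 0 ∧ z₂ = 0) :
    Set.range (orderOf : Cfsg.PSp 4 F → ℕ) = Set.range (orderOf : ↥(Cfsg.isometryGroup F (Cfsg.quadFormMinus 3 F a b)) → ℕ) := by
  have h2 : (2 : F) = 0 := CharP.cast_eq_zero F 2
  have hD := fMinus_nondeg 3 han
  let e := oIso (fMinus 3 a b) (Q := quadFormMinus 3 F a b) rfl
  refine Set.Subset.antisymm (fun N hN => ?_) ?_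
  · obtain ⟨g, rfl⟩ := (affS_of_mem_psp h2 hD (good_of_finrank (by rw [finrank_minus]; omega))
      (by omega) (finrank_minus 3) (core h2 hD (finrank_minus 3) (fMinus_not_hasTS 3 han)) hN).2
    exact ⟨e.symm g, e.symm.orderOf_eq g⟩
  · rintro _ ⟨g, rfl⟩
    rw [← e.orderOf_eq]
    exact mem_psp_of_isom h2 hD (by omega) (finrank_minus 3) _

end Cfsg.Agent.S3589
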