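import Cfsg.Statements.S3590
import Cfsg.Agent.Lib.Conj.SpecQ
import Cfsg.Agent.S3589

set_option autoImplicit false
open Cfsg

namespace Cfsg.Agent.S3590

open Cfsg.Lib.Conj Cfsg.Lib.Forms Cfsg.Lib.Forms.Form Module


/-- Let F be a finite field of characteristic 2. Then PSp(8,F) is not determined by its set of element orders, not even up to finitely many groups: for every bound there is a finite group of larger order with exactly the same set of element orders as PSp(8,F). -/
theorem result {F : Type*} [Field F] [Fintype F]
    [CharP F 2] (M : ℕ) :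
    ∃ (H : Type) (_ : Group H) (_ : Fintype H), M < Fintype.card H ∧ Set.range (orderOf : H → ℕ) = Set.range (orderOf : Cfsg.PSp 4 F → ℕ) := by
  have h2 : (2 : F) = 0 := CharP.cast_eq_zero F 2
  obtain ⟨a, b, hab⟩ := exists_aniso_coeffs F
  have hD := fMinus_nondeg 3 hab
  have hG : (fMinus 3 a b).Good := good_of_finrank (by rw [finrank_minus]; omega)
  obtain ⟨H, i, j, h1, h3⟩ := exists_big ((nat (fMinus 3 a b)).comp (commutator _).subtype) M
  exact ⟨H, i, j, h1, Set.ext fun N => (h3 N).trans ⟨mem_psp_of_affS 2 h2 hD hG (by omega)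
    (finrank_minus 3), fun h => (affS_of_mem_psp h2 hD hG (by omega) (finrank_minus 3)
      (S3589.core h2 hD (finrank_minus 3) (fMinus_not_hasTS 3 hab)) h).1⟩⟩

end Cfsg.Agent.S3590
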