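import Cfsg.Statements.S3593
import Cfsg.Agent.Lib.Coprime.M12e
import Cfsg.Agent.Lib.Coprime.DegG
import Cfsg.Agent.Lib.Exc.M11f

set_option autoImplicit false
set_option maxRecDepth 100000
open Cfsg

namespace Cfsg.Agent.S3593

open Subgroup Cfsg.Lib Cfsg.Lib.Small Cfsg.Lib.Exc Cfsg.Lib.Coprime Cfsg.Lib.Amalg

theorem no_pp {r i : ℕ} (hr : r.Prime) (hi : 1 ≤ i) (h : r ^ i ∣ 95040) (h11 : ¬ 11 ∣ r ^ i) : ¬ 11 ∣ r ^ i - 1 := fun e => by
  have h1 : ∀ p q : ℕ, p.Prime → q.Prime → p ≠ q → ¬ p * q ∣ r ^ i := fun p q hp hq hpq e => hpq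
    (((Nat.prime_dvd_prime_iff_eq hp hr).1 (hp.dvd_of_dvd_pow ((dvd_mul_right p q).trans e))).trans
      ((Nat.prime_dvd_prime_iff_eq hq hr).1 (hq.dvd_of_dvd_pow ((dvd_mul_left q p).trans e))).symm)
  rcases (by decide +kernel : ∀ d ∈ Nat.divisors 8640, 11 ∣ d - 1 → d = 1 ∨ 2 * 3 ∣ d ∨ 3 * 5 ∣ d ∨ 2 * 5 ∣ d) _
    (Nat.mem_divisors.2 ⟨((Nat.Prime.coprime_iff_not_dvd (by norm_num)).2 h11).symm.dvd_of_dvd_mul_left h, by norm_num⟩) e
    with e | e | e | e
  · exact (Nat.one_lt_pow (by omega) hr.one_lt).ne' e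
  all_goals exact h1 _ _ (by norm_num) (by norm_num) (by norm_num) e

theorem le_cent {H : Type*} [Group H] [Finite H] (hH : Nat.card H ∣ 95040) {P : Subgroup H} (hP : Nat.card P = 11)
    (K : Subgroup H) [K.Normal] (hK : ¬ 11 ∣ Nat.card K) : K ≤ centralizer (P : Set H) := by
  have := Fact.mk (by norm_num : Nat.Prime 11)
  obtain ⟨x, hx⟩ := exists_prime_orderOf_dvd_card' (G := P) 11 hP.symm.dvd
  rw [← orderOf_coe] at hx
  rw [← eq_of_le_of_card_ge (zpowers_le.2 x.2) (by rw [Nat.card_zpowers, hx, hP])]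
  by_contra h
  obtain ⟨r, hr, h1⟩ := Nat.exists_prime_and_dvd fun e => h (relIndex_eq_one.1 e)
  refine DegG.not_dvd_relIndex Fact.out hr hK hx (by rw [normalizer_eq_top]; trivial) (fun i h2 h3 => ?_) h1
  exact no_pp hr h2 (h3.trans ((card_subgroup_dvd_card K).trans hH)) fun e => hK (e.trans h3)

theorem one_of_burn {H : Type*} [Group H] [Finite H] (hH : Nat.card H ∣ 95040) [Fact (Nat.Prime 11)] (P : Sylow 11 H)
    (hP : Nat.card P = 11) (h : normalizer ((P : Subgroup H) : Set H) ≤ centralizer ((P : Subgroup H) : Set H)) :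
    Nat.card (Sylow 11 H) = 1 := by
  obtain ⟨K, _, h1, h2⟩ := exists_normal_complement_of_normalizer_le P h
  have h3 := index_dvd_of_le ((le_cent hH hP K h2).trans (centralizer_le_normalizer _))
  rw [h1, hP, index_normalizer_sylow] at h3
  have := card_sylow_mod (G := H) (p := 11)
  rcases (Nat.dvd_prime Fact.out).1 h3 with e | e <;> omega

theorem simple {G : Type*} [Group G] [Finite G] [Fact (Nat.Prime 11)] (hG : Nat.card G = 95040)
    (h : Nat.card (Sylow 11 G) = 1728) : IsSimpleGroup G := by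
  have : Nontrivial G := Finite.one_lt_card_iff_nontrivial.1 (by omega)
  refine ⟨fun N hN => by_contra fun hn => ?_⟩
  push Not at hn
  obtain ⟨P⟩ : Nonempty (Sylow 11 G) := inferInstance
  have hP := card_sylow_subgroup_eq P (a := 1) (m := 8640) hG (by norm_num)
  have h1 := card_normalizer_mul_card_sylow P
  rw [h, hG] at h1
  by_cases h2 : 11 ∣ Nat.card N
  · have h3 := (Exc.card_sylow_normal (p := 11) (by rw [hG]; norm_num) N h2).trans h
    obtain ⟨Q⟩ : Nonempty (Sylow 11 N) := inferInstance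
    have h4 := card_normalizer_mul_card_sylow Q
    have h5 := hG ▸ card_subgroup_dvd_card N
    obtain ⟨m, hm⟩ := h2
    have h6 : ¬ 11 ∣ m := fun ⟨k, e⟩ => absurd ((Dvd.intro k (by rw [hm, e]; ring)).trans h5 : 121 ∣ 95040) (by norm_num)
    have hQ := card_sylow_subgroup_eq Q (a := 1) hm h6
    have h7 := card_dvd_of_le (le_normalizer (H := (Q : Subgroup N)))
    have h8 : Nat.card N ≠ 95040 := fun e => hn.2 (eq_top_of_card_eq _ (e.trans hG.symm))
    rw [h3] at h4
    rw [← h4] at h8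
    have h9 := (by decide +kernel : ∀ d ∈ Nat.divisors 55, 11 ^ 1 ∣ d → d * 1728 ≠ 95040 → d = 11 ^ 1) _
      (Nat.mem_divisors.2 ⟨Nat.dvd_of_mul_dvd_mul_right (by norm_num : 0 < 1728) (h4 ▸ h5), by norm_num⟩) (hQ ▸ h7) h8
    have := one_of_burn h5 Q hQ ((eq_of_le_of_card_ge le_normalizer (by rw [h9, hQ])).ge.trans
      (le_centralizer_of_card_prime hQ))
    omega
  · have h3 := le_cent hG.dvd hP N h2
    have h4 := card_dvd_of_le h3
    have h5 := card_dvd_of_le (le_centralizer_of_card_prime hP)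
    have h6 := card_dvd_of_le (centralizer_le_normalizer ((P : Subgroup G) : Set G))
    rw [show Nat.card (normalizer ((P : Subgroup G) : Set G)) = 55 by omega] at h6
    have h7 := (by decide +kernel : ∀ d ∈ Nat.divisors 55, ∀ n ∈ Nat.divisors 55, 11 ^ 1 ∣ d → n ∣ d → ¬ 11 ∣ n → n ≠ 1 → d = 55) _
      (Nat.mem_divisors.2 ⟨h6, by norm_num⟩) _ (Nat.mem_divisors.2 ⟨h4.trans h6, by norm_num⟩) (hP ▸ h5) h4 h2
      fun e => hn.1 (card_eq_one.1 e)
    have := one_of_burn hG.dvd P hP (eq_of_le_of_card_ge (centralizer_le_normalizer _) (by rw [h7]; omega)).ge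
    omega

theorem nse {G : Type*} [Group G] [Finite G] [IsSimpleGroup G] (hG : Nat.card G = 95040) (n : ℕ) {c : ℕ}
    (hc : c = Nat.card {g : G // orderOf g = n}) : c ≤ 1 ∨ 11 ∣ c ∨ 8640 ∣ c := by
  by_cases h2 : n = 1
  · subst h2
    exact Or.inl (hc ▸ Finite.card_le_one_iff_subsingleton.2
      ⟨fun a b => Subtype.ext ((orderOf_eq_one_iff.1 a.2).trans (orderOf_eq_one_iff.1 b.2).symm)⟩)
  by_cases h3 : 11 ∣ n
  · refine Or.inr (Or.inr (hc ▸ ix_dvd_card fun g hg => ?_))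
    have := cc_mul_ix g
    rw [cc_eq_prime (by norm_num) (by rw [hG]; norm_num) (fun g => M12.ord11 hG) (M12.ord11 hG (hg ▸ h3)), hG] at this
    omega
  · exact Or.inr (Or.inl (hc ▸ ix_dvd_card fun g hg => ((by norm_num : Nat.Prime 11).dvd_mul.1 (by
      rw [cc_mul_ix, hG]; norm_num)).resolve_left (M12.not_dvd_cc hG (by rintro rfl; exact h2 (hg ▸ orderOf_one)) (hg ▸ h3))))


/-- Let M be the Mathieu group M₁₂ (order 95040). If a finite group G has the same order as M and the same set of values of the function 'number of elements of order n' (taken over the element orders n that occur), then G is isomorphic to M. -/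
theorem result {G : Type*} [Group G] [Finite G]
    (hcard : Nat.card G = Nat.card ↥Cfsg.Spor.M12)
    (hnse : {c : ℕ | 0 < c ∧ ∃ n : ℕ, c = Nat.card {g : G // orderOf g = n}} =
      {c : ℕ | 0 < c ∧ ∃ n : ℕ, c = Nat.card {g : ↥Cfsg.Spor.M12 // orderOf g = n}}) :
    Nonempty (G ≃* ↥Cfsg.Spor.M12) := by
  have := Fact.mk (by norm_num : Nat.Prime 11)
  have h := Cfsg.Lib.Golay.card_M12
  have := Cfsg.Lib.Golay.simple_M12
  have hG := hcard.trans h
  obtain ⟨m, hm⟩ := (hnse.le ⟨Nat.mul_pos Nat.card_pos (by norm_num), 11,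
    (card_order_prime (p := 11) (m := 8640) hG (by norm_num)).symm⟩).2
  have := simple hG ((by decide +kernel : ∀ s ∈ Nat.divisors 8640, s % 11 = 1 →
      (s * 10 ≤ 1 ∨ 11 ∣ s * 10 ∨ 8640 ∣ s * 10) → s = 1728) _
    (Nat.mem_divisors.2 ⟨card_sylow_dvd (a := 1) hG (by norm_num), by norm_num⟩) (card_sylow_mod (p := 11)) (nse h m hm))
  exact M12.isoM12 hG

end Cfsg.Agent.S3593
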