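import Cfsg.Statements.S3599
import Cfsg.Agent.Lib.Coprime.Spec

set_option autoImplicit false
open Cfsg

namespace Cfsg.Agent.S3599

open Finset Cfsg.Lib.Coprime
open scoped commutatorElement

theorem exists_frob' {a b : ℕ} (ha : a.Prime) (hb : b.Prime) (hab : a ≠ b) : ∃ (H : Type) (_ : Group H) (_ : Finite H),
    (∀ x y : H, ∀ k, ⁅x ^ (b * k), y⁆ ^ a = 1) ∧ ∀ m, m ∈ Set.range (orderOf : H → ℕ) ↔ m = 1 ∨ m = a ∨ m = b := by
  obtain ⟨R, _, _, _, ζ, h1, h2⟩ := exists_ring ha.one_lt hb.pos ((Nat.coprime_primes ha hb).2 hab)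
  have h4 : ∀ v : Subgroup.zpowers ζ, orderOf v ∣ b := fun v => (orderOf_dvd_natCard v).trans (by rw [Nat.card_zpowers, h1])
  refine ⟨Aff R (Subgroup.zpowers ζ), inferInstance, Aff.finite, fun x y k => ?_, fun m => ?_⟩
  · have h5 : Aff.fst ⁅x ^ (b * k), y⁆ = 1 := by
      rw [map_commutatorElement, map_pow, pow_mul, orderOf_dvd_iff_pow_eq_one.1 (h4 _), one_pow, commutatorElement_one_left]
    rw [show ⁅x ^ (b * k), y⁆ = Aff.inl (.ofAdd ⁅x ^ (b * k), y⁆.v) from Aff.ext rfl h5, ← map_pow, ← ofAdd_nsmul]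
    simp
  rw [Aff.spec_frob]
  · have h3 : addOrderOf (1 : R) = a := CharP.eq _ (CharP.addOrderOf_one _) inferInstance
    constructor
    · rintro (⟨v, rfl⟩ | ⟨v, rfl⟩)
      · exact ((Nat.dvd_prime ha).1 (addOrderOf_dvd_of_nsmul_eq_zero (by simp))).imp_right Or.inl
      · exact ((Nat.dvd_prime hb).1 (h4 v)).imp_right Or.inr
    · rintro (rfl | rfl | rfl)
      exacts [Or.inl ⟨0, addOrderOf_zero⟩, Or.inl ⟨1, h3⟩, Or.inr ⟨⟨ζ, Subgroup.mem_zpowers ζ⟩, by rw [Subgroup.orderOf_mk, h1]⟩]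
  · rintro ⟨_, i, rfl⟩ hi v hv
    obtain ⟨j, hj⟩ := (mem_powers_iff_mem_zpowers (x := ζ)).2 ⟨i, rfl⟩
    have h3 := h2 j fun h => hi (Subtype.ext (hj.symm.trans (orderOf_dvd_iff_pow_eq_one.1 (h1 ▸ h))))
    have h4 : (ζ ^ i : Rˣ) * v = v := hv
    rw [← show ζ ^ j = ζ ^ i from hj, Units.val_pow_eq_pow_val] at h4
    exact h3.mul_right_eq_zero.1 (by rw [sub_mul, h4, one_mul, sub_self])

def Law {ι : Type} (r m : ι → ℕ) (Y : Type) [Group Y] : Prop := ∀ j, ∀ x y : Y, ⁅x ^ m j, y⁆ ^ r j = 1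

theorem exists_crit {ι : Type} (r m : ι → ℕ) (Ω : Set ℕ) (n : ℕ) : ∀ (X : Type) [Group X] [Finite X], Nat.card X = n →
    Law r m X → Set.range (orderOf : X → ℕ) = Ω → ∃ (Y : Type) (_ : Group Y) (_ : Fintype Y), Law r m Y ∧
      Set.range (orderOf : Y → ℕ) = Ω ∧ ∀ (H : Subgroup Y) (N : Subgroup H) [N.Normal], (H ≠ ⊤ ∨ N ≠ ⊥) →
        Set.range (orderOf : (H ⧸ N) → ℕ) ≠ Ω := by
  induction n using Nat.strong_induction_on with
  | _ n ih =>
  intro X _ _ hn hX hΩ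
  by_contra hc
  refine hc ⟨X, inferInstance, Fintype.ofFinite X, hX, hΩ, fun H N _ h e => hc (ih _ ?_ (H ⧸ N) rfl (fun j x y => ?_) e)⟩
  · have h1 := N.index_mul_card
    have h2 := H.index_mul_card
    have h3 : 0 < N.index := Nat.card_pos
    have h4 : 0 < Nat.card N := Nat.card_pos
    have h5 : 0 < H.index := Nat.card_pos
    change N.index < _
    rw [← hn, ← h2, ← h1]
    rcases h with h | h
    · nlinarith [Subgroup.one_lt_index_of_ne_top h, Nat.mul_pos h3 h4]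
    · nlinarith [(N.one_lt_card_iff_ne_bot).2 h, Nat.mul_pos h3 h5]
  · obtain ⟨x, rfl⟩ := QuotientGroup.mk'_surjective N x
    obtain ⟨y, rfl⟩ := QuotientGroup.mk'_surjective N y
    rw [← map_pow, ← map_commutatorElement, ← map_pow, show ⁅x ^ m j, y⁆ ^ r j = 1 from Subtype.ext (by
      simpa [commutatorElement_def] using hX j x y), map_one]

theorem law_of_order {Y : Type} [Group Y] {r m : ℕ} (hr : r.Prime) (hm : r.Coprime m) (h : ∀ x y : Y, ⁅x ^ m, y⁆ ^ r = 1)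
    {x : Y} (hx : orderOf x = r) (y : Y) : ⁅x, y⁆ ^ r = 1 := by
  obtain ⟨k, hk⟩ := exists_pow_eq_self_of_coprime (x := x) (n := m) (hx ▸ hm.symm)
  have := h (x ^ k) y
  rwa [← pow_mul, mul_comm, pow_mul, hk] at this


/-- A finite group is critical with respect to a set Ω of natural numbers when its set of element orders is Ω while no proper section H/N (H a subgroup, N normal in H, (H, N) ≠ (whole group, 1)) has Ω as its set of element orders. Let s ≥ 1 and let p(j,0), p(j,1) (j < s) be 2s pairwise distinct primes, and let Ω be the set of all products c(0)·…·c(s−1) with each c(j) ∈ {1, p(j,0), p(j,1)}. Then there are 2^s pairwise non-isomorphic finite groups critical with respect to Ω. -/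
theorem result (s : ℕ) (hs : 1 ≤ s) (p : Fin s → Fin 2 → ℕ)
    (hp : ∀ j i, (p j i).Prime) (hinj : ∀ j i j' i', p j i = p j' i' → j = j' ∧ i = i') :
    ∃ (G : Fin (2 ^ s) → Type) (_ : ∀ a, Group (G a)) (_ : ∀ a, Fintype (G a)),
      (∀ a b, a ≠ b → ¬ Nonempty (G a ≃* G b)) ∧
      ∀ a, Set.range (orderOf : (G a) → ℕ) = {m : ℕ | ∃ c : Fin s → ℕ, (∀ j, c j = 1 ∨ c j = p j 0 ∨ c j = p j 1) ∧ m = ∏ j, c j} ∧
      ∀ (H : Subgroup (G a)) (N : Subgroup ↥H) [N.Normal], (H ≠ ⊤ ∨ N ≠ ⊥) → Set.range (orderOf : (↥H ⧸ N) → ℕ) ≠ {m : ℕ | ∃ c : Fin s → ℕ, (∀ j, c j = 1 ∨ c j = p j 0 ∨ c j = p j 1) ∧ m = ∏ j, c j} := by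
  classical
  have hne : ∀ j i, p j i ≠ p j (i + 1) := fun j i e => by simpa using (hinj _ _ _ _ e).2
  have hco : ∀ j i j' i', j ≠ j' → (p j i).Coprime (p j' i') := fun j i j' i' h =>
    (Nat.coprime_primes (hp _ _) (hp _ _)).2 fun e => h (hinj _ _ _ _ e).1
  have h2 : ∀ (a : Fin 2) j c, c = 1 ∨ c = p j a ∨ c = p j (a + 1) ↔ c = 1 ∨ c = p j 0 ∨ c = p j 1 := fun a j c => by
    fin_cases a <;> simp [or_comm]
  choose F _ _ hF1 hF2 using fun (j : Fin s) (i : Fin 2) => exists_frob' (hp j i) (hp j (i + 1)) (hne j i)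
  have key := fun a : Fin s → Fin 2 => exists_crit (fun j => p j (a j))
    (fun j => p j (a j + 1) * ∏ i ∈ univ.erase j, p i (a i) * p i (a i + 1))
    {m : ℕ | ∃ c : Fin s → ℕ, (∀ j, c j = 1 ∨ c j = p j 0 ∨ c j = p j 1) ∧ m = ∏ j, c j} _ (∀ j, F j (a j)) rfl
    (fun j x y => funext fun i => by
      by_cases h : i = j
      · subst h
        exact hF1 _ _ _ _ _
      · have : x i ^ (p j (a j + 1) * ∏ i ∈ univ.erase j, p i (a i) * p i (a i + 1)) = 1 :=
          orderOf_dvd_iff_pow_eq_one.1 (Dvd.dvd.mul_left (Dvd.dvd.trans (by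
            rcases (hF2 _ _ _).1 ⟨x i, rfl⟩ with e | e | e <;> simp [e]) (dvd_prod_of_mem _ (mem_erase.2 ⟨h, mem_univ i⟩))) _)
        change ⁅x i ^ _, y i⁆ ^ _ = 1
        rw [this, commutatorElement_one_left, one_pow]) (by
      have h3 : ∀ x : ∀ j, F j (a j), orderOf x = ∏ j, orderOf (x j) := fun x => by
        rw [Pi.orderOf, lcm_eq_prod fun i _ j _ h => ?_]
        rcases (hF2 _ _ _).1 ⟨x i, rfl⟩ with e | e | e <;> rcases (hF2 _ _ _).1 ⟨x j, rfl⟩ with e' | e' | e' <;>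
          simp [Function.onFun, e, e'] <;> exact hco _ _ _ _ h
      ext m
      constructor
      · rintro ⟨x, rfl⟩
        exact ⟨_, fun j => (h2 _ _ _).1 ((hF2 _ _ _).1 ⟨x j, rfl⟩), h3 x⟩
      · rintro ⟨c, hc, rfl⟩
        choose x hx using fun j => (hF2 j (a j) _).2 ((h2 _ _ _).2 (hc j))
        exact ⟨x, by simp [h3, hx]⟩)
  choose G _ _ h3 h4 h5 using key
  refine ⟨fun a => G (finFunctionFinEquiv.symm a), inferInstance, inferInstance, fun a b hab ⟨e⟩ => ?_, fun a => ⟨h4 _, h5 _⟩⟩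
  obtain ⟨j, hj⟩ := Function.ne_iff.1 (finFunctionFinEquiv.symm.injective.ne hab)
  change G _ ≃* G _ at e
  generalize finFunctionFinEquiv.symm a = a at *
  generalize finFunctionFinEquiv.symm b = b at *
  have h6 : ∀ i, ∃ x : G a, orderOf x = p j i := fun i => (h4 a).ge ⟨Function.update 1 j (p j i), fun k => by
    by_cases h : k = j
    · subst h; fin_cases i <;> simp
    · simp [h], by simp [prod_update_of_mem]⟩
  have h7 : ∀ a : Fin s → Fin 2, (p j (a j)).Coprime (p j (a j + 1) * ∏ i ∈ univ.erase j, p i (a i) * p i (a i + 1)) := fun a =>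
    ((Nat.coprime_primes (hp _ _) (hp _ _)).2 (hne _ _)).mul_right (Nat.Coprime.prod_right fun i hi =>
      (hco _ _ _ _ (mem_erase.1 hi).1.symm).mul_right (hco _ _ _ _ (mem_erase.1 hi).1.symm))
  obtain ⟨x, hx⟩ := h6 (a j)
  obtain ⟨y, hy⟩ := h6 (b j)
  have h8 := law_of_order (hp _ _) (h7 a) (h3 a j) hx y
  have h9 := law_of_order (hp _ _) (h7 b) (h3 b j) ((e.orderOf_eq y).trans hy) (e x)
  rw [← map_commutatorElement, ← map_pow, e.map_eq_one_iff, ← commutatorElement_inv, inv_pow, inv_eq_one] at h9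
  have h10 : (p j (a j)).Coprime (p j (b j)) := (Nat.coprime_primes (hp _ _) (hp _ _)).2 fun e => hj (hinj _ _ _ _ e).2
  obtain ⟨c, hc, h11⟩ := (h4 a).le ⟨x * y, rfl⟩
  rw [(commutatorElement_eq_one_iff_commute.1 ((pow_eq_one_iff_of_coprime h10).1 ⟨h8, h9⟩)).orderOf_mul_eq_mul_orderOf_of_coprime
    (by rwa [hx, hy]), hx, hy] at h11
  have h12 : ∀ i, p j i ∣ ∏ j, c j → c j = p j i := fun i h => by
    obtain ⟨k, -, hk⟩ := (Nat.Prime.prime (hp j i)).exists_mem_finset_dvd h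
    rcases hc k with e | e | e <;> rw [e] at hk
    · exact absurd (Nat.dvd_one.1 hk) (hp j i).ne_one
    all_goals
      have := (Nat.prime_dvd_prime_iff_eq (hp _ _) (hp _ _)).1 hk
      obtain rfl := (hinj _ _ _ _ this).1
      rw [e, this]
  exact hj (hinj _ _ _ _ ((h12 _ (h11 ▸ dvd_mul_right _ _)).symm.trans (h12 _ (h11 ▸ dvd_mul_left _ _)))).2

end Cfsg.Agent.S3599
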