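import Cfsg.Statements.S3600
import Cfsg.Agent.Lib.Coprime.Aff4
import Cfsg.Agent.S3433
import Cfsg.Agent.Lib.Amalg.Syl

set_option autoImplicit false
open Cfsg

namespace Cfsg.Agent.S3600

open Subgroup Cfsg.Lib Cfsg.Lib.Coprime Cfsg.Lib.Exc Equiv Matrix

local notation "SL2" => Matrix.SpecialLinearGroup (Fin 2)

theorem exists_section {G : Type*} [Group G] [Finite G] (h5 : ∀ x : G, orderOf x ≤ 5)
    (f : G →* alternatingGroup (Fin 5)) (hf : Function.Surjective f) (hN : IsPGroup 2 f.ker) :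
    ∃ σ : alternatingGroup (Fin 5) →* G, ∀ a, f (σ a) = a := by
  have := Fact.mk Nat.prime_three
  have := Fact.mk Nat.prime_five
  let c : alternatingGroup (Fin 5) := ⟨swap 0 2 * swap 0 3, Perm.mem_alternatingGroup.2 (by decide)⟩
  obtain ⟨y, h1, h2⟩ := exists_orderOf_dvd f hf Linear.a5y
  obtain ⟨z, h3, h4⟩ := exists_orderOf_dvd f hf c
  obtain ⟨s, hs⟩ := hf Linear.a5x
  rw [orderOf_eq_prime (p := 3) (by decide) (by decide)] at h1 h3
  obtain ⟨-, h6⟩ := fpf_of_five h5 hN h3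
  obtain ⟨d, hd, e⟩ := exists_conj_of_fpf (S := f.ker) (y := z⁻¹) (fun x hx => f.normal_ker.conj_mem x hx _)
    (fun x hx h => h6 x hx (by simpa using h.inv_left)) (x := s * z * s⁻¹ * z)
    (by simp only [MonoidHom.mem_ker, map_mul, map_inv, hs, h4]; decide)
  have h7 : f (d⁻¹ * s) = Linear.a5x := by rw [map_mul, map_inv, hd, inv_one, one_mul, hs]
  have h8 : (d⁻¹ * s) * z * (d⁻¹ * s)⁻¹ = z⁻¹ := by
    calc _ = d⁻¹ * (s * z * s⁻¹ * z * z⁻¹) * d := by group
      _ = _ := by rw [← e]; group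
  generalize d⁻¹ * s = x at h7 h8
  have h9 : x * x = 1 := h6 _ (by rw [MonoidHom.mem_ker, map_mul, h7]; decide) (by
    have h9 : x * z⁻¹ * x⁻¹ = z := by rw [← _root_.inv_inj]; nth_rw 2 [← h8]; group
    change z * _ = _ * z
    calc _ = x * z⁻¹ * x⁻¹ * (x * x) := by rw [h9]
      _ = x * (x * z * x⁻¹) * x := by rw [h8]; group
      _ = _ := by group)
  have h10 : (x * y) ^ 5 = 1 := by
    have h := orderOf_map_dvd f (x * y)
    rw [map_mul, h7, h2, orderOf_eq_prime (p := 5) (by decide) (by decide)] at h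
    rw [← Nat.le_antisymm (h5 _) (Nat.le_of_dvd (orderOf_pos _) h), pow_orderOf_eq_one]
  obtain ⟨φ, e1, -⟩ := Linear.exists_hom_A5 h9 (fpf_of_five h5 hN h1).1 h10
  have h11 : Function.Injective (f.comp φ) := (MonoidHom.ker_eq_bot_iff _).1
    ((f.comp φ).normal_ker.eq_bot_or_eq_top.resolve_right fun h => by
      have : Linear.a5x ∈ (f.comp φ).ker := h ▸ mem_top _
      rw [MonoidHom.mem_ker, MonoidHom.comp_apply, e1, h7] at this
      exact absurd this (by decide))
  let g := MulEquiv.ofBijective _ (Finite.injective_iff_bijective.1 h11)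
  exact ⟨φ.comp g.symm.toMonoidHom, fun a => g.apply_symm_apply a⟩

variable {F : Type*} [Field F]

theorem exists_col {x : Fin 2 → F} (hx : x ≠ 0) : ∃ g : SL2 F, g • (![1, 0] : Fin 2 → F) = x := by
  by_cases h : x 0 = 0
  · have h1 : x 1 ≠ 0 := fun e => hx (by ext i; fin_cases i <;> simp [h, e])
    refine ⟨⟨!![x 0, -(x 1)⁻¹; x 1, 0], by simp [Matrix.det_fin_two, h1]⟩, ?_⟩
    change !![x 0, -(x 1)⁻¹; x 1, 0] *ᵥ _ = _
    ext i; fin_cases i <;> simp
  · refine ⟨⟨!![x 0, 0; x 1, (x 0)⁻¹], by simp [Matrix.det_fin_two, h]⟩, ?_⟩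
    change !![x 0, 0; x 1, (x 0)⁻¹] *ᵥ _ = _
    ext i; fin_cases i <;> simp

theorem exists_three [Fintype F] (hF : Fintype.card F = 4) {x : Fin 2 → F} (h0 : x ≠ 0) (h1 : x ≠ ![1, 0]) :
    ∃ g : SL2 F, g • (![1, 0] : Fin 2 → F) = x ∧ g⁻¹ • (![1, 0] : Fin 2 → F) = ![1, 0] + x ∧ g ^ 3 = 1 := by
  have := Linear.charP_two_of_card (k := 2) (Nat.card_eq_fintype_card.trans hF)
  have h2 : (2 : F) = 0 := CharTwo.two_eq_zero
  obtain ⟨b, hb⟩ : ∃ b, x 0 * (1 + x 0) - b * x 1 = 1 := by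
    by_cases h : x 1 = 0
    · have h3 : x 0 ≠ 0 := fun e => h0 (by ext i; fin_cases i <;> simp [h, e])
      have h4 : x 0 - 1 ≠ 0 := fun e => h1 (by ext i; fin_cases i <;> simp [h, sub_eq_zero.1 e])
      have h5 := FiniteField.pow_card_sub_one_eq_one _ h3
      rw [hF] at h5
      exact ⟨0, mul_left_cancel₀ h4 (by linear_combination h5 + (1 - x 0) * h2)⟩
    · exact ⟨(x 0 * (1 + x 0) - 1) / x 1, by field_simp; ring⟩
  let g : SL2 F := ⟨!![x 0, b; x 1, 1 + x 0], by rw [Matrix.det_fin_two_of, hb]⟩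
  have e : (g * g).1 = 1 + g.1 := by
    change !![x 0, b; x 1, 1 + x 0] * !![x 0, b; x 1, 1 + x 0] = 1 + !![x 0, b; x 1, 1 + x 0]
    ext i j
    fin_cases i <;> fin_cases j <;> simp [Matrix.mul_apply, Fin.sum_univ_two]
    · linear_combination -hb + (x 0 ^ 2 - 1) * h2
    · linear_combination (x 0 * b) * h2
    · linear_combination (x 0 * x 1) * h2
    · linear_combination -hb + (x 0 ^ 2 + x 0 - 1) * h2
  have e3 : g ^ 3 = 1 := (pow_three g).trans (Subtype.ext (by
    change g.1 * (g * g).1 = 1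
    rw [e, mul_add, mul_one]
    change g.1 + (g * g).1 = 1
    rw [e, add_left_comm, ← two_smul F, h2, zero_smul, add_zero]))
  have e1 : g • (![1, 0] : Fin 2 → F) = x := by
    change !![x 0, b; x 1, 1 + x 0] *ᵥ _ = _
    ext i; fin_cases i <;> simp
  refine ⟨g, e1, ?_, e3⟩
  rw [show g⁻¹ = g * g from inv_eq_of_mul_eq_one_right ((pow_three g).symm.trans e3), ← e1]
  change (g * g).1 *ᵥ _ = _ + g.1 *ᵥ _
  rw [e, Matrix.add_mulVec, Matrix.one_mulVec]

theorem exists_inj {G : Type*} [Group G] [Finite G] [Fintype F] (hF : Fintype.card F = 4) (h5 : ∀ x : G, orderOf x ≤ 5)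
    (π : G →* SL2 F) (σ : SL2 F →* G) (hσ : ∀ a, π (σ a) = a) (hN : IsPGroup 2 π.ker)
    (hE : IsElementaryAbelian 2 π.ker) (h0 : π.ker ≠ ⊥) : ∃ ψ : affS F →* G, Function.Injective ψ := by
  classical
  have := Linear.charP_two_of_card (k := 2) (Nat.card_eq_fintype_card.trans hF)
  have := Fact.mk Nat.prime_three
  have e0 : (![1, 0] : Fin 2 → F) ≠ 0 := by simp
  have hU : IsPGroup 2 ((MulAction.stabilizer (SL2 F) (![1, 0] : Fin 2 → F)).map σ) :=
    IsPGroup.map (fun g => ⟨1, Subtype.ext (sq_eq_one_of_fixed e0 g.2)⟩) σ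
  obtain ⟨⟨v, hv, hv'⟩, hv1⟩ := ne_bot_iff_exists_ne_one.1 (Amalg.inf_center_ne_bot (hN.to_sup_of_normal_left hU)
    le_sup_left le_normalizer_of_normal h0)
  have hv0 : v ≠ 1 := fun e => hv1 (Subtype.ext e)
  have hu : ∀ u : SL2 F, u • (![1, 0] : Fin 2 → F) = ![1, 0] → σ u * v * (σ u)⁻¹ = v := fun u hu =>
    mul_inv_eq_iff_eq_mul.2 (hv' _ (mem_sup_right (mem_map_of_mem σ hu)))
  let θ : (Fin 2 → F) → G := fun x => if h : x = 0 then 1 else σ (exists_col h).choose * v * (σ (exists_col h).choose)⁻¹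
  have t0 : θ 0 = 1 := dif_pos rfl
  have t1 : ∀ g : SL2 F, θ (g • ![1, 0]) = σ g * v * (σ g)⁻¹ := fun g => by
    have h : g • (![1, 0] : Fin 2 → F) ≠ 0 := (smul_ne_zero_iff_ne g).2 e0
    have h1 := hu (g⁻¹ * (exists_col h).choose) (by rw [mul_smul, (exists_col h).choose_spec, inv_smul_smul])
    simp only [θ, dif_neg h]
    nth_rw 2 [← h1]
    rw [map_mul, map_inv]; group
  have t2 : ∀ (g : SL2 F) x, θ (g • x) = σ g * θ x * (σ g)⁻¹ := fun g x => by
    by_cases h : x = 0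
    · simp [h, t0]
    · obtain ⟨k, rfl⟩ := exists_col h
      rw [← mul_smul, t1, t1, map_mul]; group
  have t3 : θ ![1, 0] = v := by simpa using t1 1
  have hv2 : v * v = 1 := (sq v).symm.trans (hE.2 v hv)
  have t4 : ∀ x, θ (![1, 0] + x) = v * θ x := fun x => by
    by_cases h : x = 0
    · rw [h, add_zero, t0, t3, mul_one]
    by_cases h1 : x = ![1, 0]
    · rw [h1, CharTwo.add_self_eq_zero, t0, t3, hv2]
    obtain ⟨g, e1, e2, e3⟩ := exists_three hF h h1
    have h2 : 3 ∣ orderOf (σ g) := by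
      have := orderOf_map_dvd π (σ g)
      rwa [hσ, orderOf_eq_prime e3 fun e => h1 (by rw [← e1, e, one_smul])] at this
    obtain ⟨h3, h4⟩ := fpf_of_five h5 hN h2
    have h6 := norm_three (fun x hx => π.normal_ker.conj_mem x hx _) h4 h3 hv
    rw [← e2, ← e1, t1, t1, map_inv, inv_inv]
    refine (eq_inv_of_mul_eq_one_right h6).trans (inv_eq_of_mul_eq_one_left ?_)
    exact (sq _).symm.trans (hE.2 _ (mul_mem hv (π.normal_ker.conj_mem v hv _)))
  have t5 : ∀ x y, θ (x + y) = θ x * θ y := fun x y => by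
    by_cases h : x = 0
    · rw [h, zero_add, t0, one_mul]
    · obtain ⟨k, rfl⟩ := exists_col h
      rw [← smul_inv_smul k y, ← smul_add, t2, t4, t1, t2 k]; group
  let ψ : affS F →* G :=
    { toFun := fun M => θ (affC M) * σ (affB F M)
      map_one' := by rw [affC_one, t0, map_one, map_one, mul_one]
      map_mul' := fun a b => by rw [affC_mul, t5, t2, map_mul, map_mul]; group }
  have t6 : ∀ x, θ x ∈ π.ker := fun x => by
    by_cases h : x = 0
    · rw [h, t0]; exact one_mem _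
    · obtain ⟨k, rfl⟩ := exists_col h
      exact t1 k ▸ π.normal_ker.conj_mem v hv _
  refine ⟨ψ, (injective_iff_map_eq_one ψ).2 fun M hM => ?_⟩
  change θ (affC M) * σ (affB F M) = 1 at hM
  have h1 := congrArg π hM
  rw [map_mul, t6, hσ, one_mul, map_one] at h1
  rw [h1, map_one, mul_one] at hM
  refine aff_ext (h1.trans (map_one _).symm) ((by_contra fun h => ?_ : affC M = 0).trans affC_one.symm)
  obtain ⟨k, hk⟩ := exists_col h
  rw [← hk, t1] at hM
  exact hv0 (by simpa using hM)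

theorem range_orderOf_congr {A B : Type*} [Group A] [Group B] (e : A ≃* B) :
    Set.range (orderOf : A → ℕ) = Set.range (orderOf : B → ℕ) :=
  Set.ext fun _ => ⟨fun ⟨x, hx⟩ => ⟨e x, (e.orderOf_eq x).trans hx⟩,
    fun ⟨x, hx⟩ => ⟨e.symm x, (e.symm.orderOf_eq x).trans hx⟩⟩


/-- A finite group is critical with respect to a set Ω of natural numbers when its set of element orders is Ω while no proper section has Ω as its set of element orders. A finite group critical with respect to {1, 2, 3, 4, 5} (the set of element orders of the alternating group of degree 6) is isomorphic either to the alternating group of degree 6 or to the affine group F² ⋊ SL(2,F) over the field F with four elements (realised as the matrices of SL(3,F) with last row (0, 0, 1)). -/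
theorem result {G : Type*} [Group G] [Finite G]
    (hcrit : Set.range (orderOf : G → ℕ) = ({1, 2, 3, 4, 5} : Set ℕ) ∧
      ∀ (H : Subgroup G) (N : Subgroup ↥H) [N.Normal], (H ≠ ⊤ ∨ N ≠ ⊥) → Set.range (orderOf : (↥H ⧸ N) → ℕ) ≠ ({1, 2, 3, 4, 5} : Set ℕ)) :
    Nonempty (G ≃* alternatingGroup (Fin 6)) ∨
      ∃ (F : Type) (_ : Field F) (_ : Fintype F), Fintype.card F = 4 ∧
        Nonempty (G ≃* ↥(Subgroup.closure {M : Matrix.SpecialLinearGroup (Fin 3) F |
          (M : Matrix (Fin 3) (Fin 3) F) 2 0 = 0 ∧ (M : Matrix (Fin 3) (Fin 3) F) 2 1 = 0 ∧ (M : Matrix (Fin 3) (Fin 3) F) 2 2 = 1})) := by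
  obtain ⟨h, hc⟩ := hcrit
  have h5 : ∀ x : G, orderOf x ≤ 5 := fun x => by
    rcases h.le ⟨x, rfl⟩ with h | h | h | h | h <;> rw [h] <;> norm_num
  have h1 : ∀ k ∈ ({1, 2, 3, 4, 5} : Set ℕ), k ∣ Nat.card G := fun k hk =>
    let ⟨x, hx⟩ := h.ge hk; hx ▸ orderOf_dvd_natCard x
  refine (struct_five h5 (not_solvable_of_five h5 ?_)).imp_right fun ⟨e⟩ => ?_
  · have := h1 2 (by simp)
    have := h1 3 (by simp)
    have := h1 5 (by simp)
    omega
  have := Fintype.ofFinite (GaloisField 2 2)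
  have hF := GaloisField.card 2 2 (by norm_num)
  have hF' := Nat.card_eq_fintype_card.symm.trans hF
  refine ⟨GaloisField 2 2, inferInstance, this, hF', ?_⟩
  rw [closure_affS]
  obtain ⟨e1⟩ := Linear.psl2_four_equiv hF
  obtain ⟨e2⟩ := Linear.nonempty_sl_equiv_psl (ι := Fin 2) (F := GaloisField 2 2) (by rw [hF]; rfl)
  let e3 := e2.trans e1
  let f := e.toMonoidHom.comp (QuotientGroup.mk' (pCore 2 G))
  have hk : f.ker = pCore 2 G := by ext; simp [f]
  obtain ⟨σ, hσ⟩ := exists_section h5 f (e.surjective.comp (QuotientGroup.mk'_surjective _)) (hk ▸ Core.isPGroup_pCore 2 G)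
  have hk' : (e3.symm.toMonoidHom.comp f).ker = pCore 2 G := by ext; simp [f]
  obtain ⟨ψ, hψ⟩ := exists_inj hF' h5 (e3.symm.toMonoidHom.comp f) (σ.comp e3.toMonoidHom) (fun a => by simp [hσ])
    (hk' ▸ Core.isPGroup_pCore 2 G) (hk' ▸ S3433.main h5 e) (hk' ▸ fun h0 => by
      obtain ⟨e4⟩ := equiv_of_eq_bot h0 e
      obtain ⟨x, hx⟩ := h.ge (show 4 ∈ _ by simp)
      rw [← e4.orderOf_eq] at hx
      rcases Linear.A5_pow (e4 x) with h | h | h <;> exact absurd (hx ▸ orderOf_dvd_of_pow_eq_one h) (by norm_num))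
  have h2 : ψ.range = ⊤ := by_contra fun h0 => hc ψ.range ⊥ (Or.inl h0) (by
    rw [range_orderOf_congr QuotientGroup.quotientBot, ← range_orderOf_congr (MonoidHom.ofInjective hψ), spec_affS_four hF'])
  exact ⟨(MulEquiv.ofBijective ψ ⟨hψ, MonoidHom.range_eq_top.1 h2⟩).symm⟩

end Cfsg.Agent.S3600
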