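import Cfsg.Statements.S3619
import Cfsg.Agent.Lib.FG.JSet

set_option autoImplicit false
open Cfsg

open Subgroup Cfsg.Lib
open scoped commutatorElement
open Cfsg.Lib.FG MulAction
namespace Cfsg.Agent.S3619

/-- Let G act faithfully on a finite set in such a way that every non-trivial normal subgroup of G is transitive (G is quasiprimitive). Let Γ be a subset with more than one point and not the whole set, such that the pointwise stabilizer of the complement of Γ acts transitively on Γ (a Jordan set). If that pointwise stabilizer acts primitively on Γ, then G is k-fold transitive where k is one more than the number of points outside Γ (the Jordan set is a trivial one). -/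
theorem result {G Ω : Type*} [Group G] [Finite G] [MulAction G Ω] [FaithfulSMul G Ω] [Finite Ω]
    (hqp : ∀ N : Subgroup G, N.Normal → N ≠ ⊥ → MulAction.IsPretransitive ↥N Ω)
    (Γ : Set Ω) (hΓ1 : 1 < Γ.ncard) (hΓ2 : Γ.ncard < Nat.card Ω)
    (hJ : MulAction.IsPretransitive ↥(fixingSubgroup G Γᶜ) ↥(SubMulAction.ofFixingSubgroup G Γᶜ))
    (hJp : MulAction.IsPreprimitive ↥(fixingSubgroup G Γᶜ) ↥(SubMulAction.ofFixingSubgroup G Γᶜ)) :
    MulAction.IsMultiplyPretransitive G Ω (Nat.card Ω - Γ.ncard + 1) := by
  classical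
  letI := Fintype.ofFinite Ω
  have hc := card_filter_mem Γ
  have hP := qp_primitive hqp (jc_of_isPretransitive hJ) (by rw [compl_compl]; omega)
    fun Q _ _ _ _ _ π hs hπ h1 ⟨x, hx, x', hx', hxx⟩ h3 => by
      simp only [Finset.mem_compl, Finset.mem_filter, Finset.mem_univ, true_and, not_not] at h1 hx hx'
      have hb : IsBlock (fixingSubgroup G Γᶜ) {y : SubMulAction.ofFixingSubgroup G Γᶜ | π y = π x} := by
        rw [isBlock_iff_smul_eq_of_mem]
        intro g a ha ha'
        have e : (g : G) • π x = π x := by rw [← ha, ← hπ, ha]; exact ha'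
        ext y
        rw [Set.mem_smul_set_iff_inv_smul_mem]
        change π ((g : G)⁻¹ • (y : Ω)) = π x ↔ π y = π x
        rw [hπ, inv_smul_eq_iff, e]
      rcases hJp.isTrivialBlock_of_isBlock hb with h | h
      · obtain ⟨y, hyx, hy⟩ := h3 x
        have hyΓ : y ∈ Γ := by_contra fun h => h1 x hx y h hy.symm
        exact hyx (congrArg Subtype.val (@h ⟨y, fun h => h hyΓ⟩ hy ⟨x, fun h => h hx⟩ rfl))
      · exact hxx (Set.eq_univ_iff_forall.1 h ⟨x', fun h => h hx'⟩).symm
  have e := Set.ncard_add_ncard_compl Γ
  haveI := hP.isMultiplyPreprimitive (s := Γᶜ) (n := Nat.card Ω - Γ.ncard - 1) (by omega) (by omega) hJp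
  rw [show Nat.card Ω - Γ.ncard + 1 = Nat.card Ω - Γ.ncard - 1 + 2 by omega]
  exact IsMultiplyPreprimitive.isMultiplyPretransitive G Ω _

end Cfsg.Agent.S3619
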