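import Cfsg.Statements.S3626
import Cfsg.Agent.Lib.Twist.ReeTori
import Cfsg.Agent.Lib.Linear.DicksonFin
import Cfsg.Agent.Lib.Known.Macbeath

set_option autoImplicit false
open Cfsg

namespace Cfsg.Agent.S3626

open Cfsg.Lib.Twist Cfsg.Lib.Known Cfsg.Lib.Linear Matrix

section
variable {K : Type*} [Field K] [CharP K 3] (N : ℕ)

/-- The twisted tensor action. -/
def act (g : SL2 K × ℤˣ) (v : Fin N → M2 K) : Fin N → M2 K := fun i => ((g.2 : ℤ) : K) • (g.1.1 * v i * (g.1.1.map (frobenius K 3))ᵀ)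

theorem act_mul (g h : SL2 K × ℤˣ) (v : Fin N → M2 K) : act N (g * h) v = act N g (act N h v) := by
  ext1 i; simp [act, Matrix.map_mul, smul_smul, Matrix.mul_assoc]

theorem act_one (v : Fin N → M2 K) : act N 1 v = v := by ext1 i; simp [act]

/-- The action as automorphisms. -/
def rho : SL2 K × ℤˣ →* MulAut (Multiplicative (Fin N → M2 K)) := MonoidHom.mk' (fun g => AddEquiv.toMultiplicative
  { toFun := act N g, invFun := act N g⁻¹, left_inv := fun v => by rw [← act_mul, inv_mul_cancel, act_one]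
    right_inv := fun v => by rw [← act_mul, mul_inv_cancel, act_one]
    map_add' := fun v w => by ext1 i; simp [act, Matrix.mul_add, Matrix.add_mul] }) fun g h => MulEquiv.ext fun v => act_mul N g h v

theorem exists_psi : ∃ ψ : PSL2 K × ℤˣ →* MulAut (Multiplicative (Fin N → M2 K)), ∀ g ε v, ψ (pmk K g, ε) v = act N (g, ε) v :=
  ⟨((pmk K).prodMap (MonoidHom.id _)).liftOfSurjective (pmk_surjective.prodMap Function.surjective_id) ⟨rho N, fun ⟨g, ε⟩ h => by
    obtain ⟨h1, rfl⟩ := Prod.ext_iff.1 h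
    refine MulEquiv.ext fun v => funext fun i => show act N (g, 1) v i = v i from ?_
    rcases pmk_eq_one_iff'.1 h1 with rfl | rfl <;> simp [act, Matrix.map_neg]⟩,
    fun g ε v => DFunLike.congr_fun (MonoidHom.liftOfRightInverse_comp_apply _ _ _ _ (g, ε)) v⟩

omit [CharP K 3] in
theorem ch {A : M2 K} (h : A.det = 1) : A * (A.trace • 1 - A) = 1 ∧ (A.trace • 1 - A) * A = 1 := by
  rw [det_fin_two] at h
  constructor <;> ext i j <;> fin_cases i <;> fin_cases j <;> simp [mul_apply, trace_fin_two] <;> first | ring1 | linear_combination h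

theorem fix_eq_zero {g : SL2 K} {ε : ℤˣ} (h : (ε : ℤ) * g.1.trace ^ 3 ≠ g.1.trace) {v : Fin N → M2 K} (e : act N (g, ε) v = v) : v = 0 := by
  funext i
  have h1 := ch (A := (g.1.map (frobenius K 3))ᵀ) (by rw [det_transpose, ← RingHom.mapMatrix_apply, ← RingHom.map_det, g.2, map_one])
  rw [trace_transpose, ← AddMonoidHom.map_trace (frobenius K 3), frobenius_def] at h1
  have h3 : ((ε : ℤ) : K) * (ε : ℤ) = 1 := by rw [← Int.cast_mul, ← Units.val_mul, Int.units_mul_self]; simp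
  have e1 := congrArg (· * (g.1.trace ^ 3 • 1 - (g.1.map (frobenius K 3))ᵀ)) (congrFun e i)
  have e2 := congrArg ((g.1.trace • 1 - g.1) * ·) (congrFun e i)
  simp only [act, smul_mul_assoc, Matrix.mul_assoc, h1.1, mul_one] at e1
  simp only [act, mul_smul_comm, ← Matrix.mul_assoc, (ch g.2).2, one_mul] at e2
  simp only [mul_sub, sub_mul, smul_mul_assoc, mul_smul_comm, mul_one, one_mul] at e1 e2
  refine (smul_eq_zero.1 ?_).resolve_left (sub_ne_zero.2 h)
  linear_combination (norm := module) -((ε : ℤ) : K) • e1 + e2 + h3 • (g.1 * v i)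

variable {N} {ψ : PSL2 K × ℤˣ →* MulAut (Multiplicative (Fin N → M2 K))} (hψ : ∀ g ε v, ψ (pmk K g, ε) v = act N (g, ε) v)

theorem pow_three {x : _ ⋊[ψ] _} {n : ℕ} (h : x.right ^ n = 1) : x ^ (n * 3) = 1 ∧ ((∀ v, ψ x.right v = v → v = 1) → x ^ n = 1) := by
  obtain ⟨v, hv⟩ : x ^ n ∈ (SemidirectProduct.inl (φ := ψ)).range := by
    rw [SemidirectProduct.range_inl_eq_ker_rightHom, MonoidHom.mem_ker, map_pow]; exact h
  refine ⟨?_, fun h1 => ?_⟩
  · rw [pow_mul, ← hv, ← map_pow, map_eq_one_iff _ SemidirectProduct.inl_injective]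
    ext i a b; simpa using Or.inl (CharP.cast_eq_zero K 3)
  · have := (Commute.refl x).pow_right n
    rw [← hv] at this
    rw [← hv, h1 v (by simpa [mul_comm v] using congrArg SemidirectProduct.left this.eq), map_one]

include hψ

theorem order_cases [Finite K] (hK : Nat.card K % 4 = 3) (x : _ ⋊[ψ] _) :
    orderOf x ∣ 6 ∨ orderOf x ∣ 9 ∨ orderOf x ∣ Nat.card K - 1 ∨ orderOf x ∣ (Nat.card K + 1) / 2 := by
  simp only [orderOf_dvd_iff_pow_eq_one]
  have h3 : (3 : K) = 0 := CharP.cast_eq_zero K 3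
  obtain ⟨g, hg⟩ := pmk_surjective x.right.1
  have hx : x.right = (pmk K g, x.right.2) := by rw [hg]
  have ε2 : x.right.2 ^ 2 = 1 := Int.units_sq _
  by_cases h0 : g.1.trace = 0
  · exact Or.inl (pow_three (n := 2) (Prod.ext (show x.right.1 ^ 2 = 1 from hg ▸ orderOf_dvd_iff_pow_eq_one.1 (orderOf_pmk_dvd_two h0)) ε2)).1
  by_cases h1 : g.1.trace ^ 2 = 1
  · have h2 : x.right.1 ^ 3 = 1 := by
      rw [← hg, ← map_pow, pmk_eq_one_iff, sl2_pow_three, tr2_eq_trace, h1]; simp [IsScal]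
    rcases Int.units_eq_one_or x.right.2 with e | e
    · exact Or.inr (Or.inl (pow_three (n := 3) (Prod.ext h2 (by simp [e]))).1)
    refine Or.inl ((pow_three (n := 6) (Prod.ext (by rw [Prod.pow_fst, pow_mul _ 3 2, h2, one_pow]; rfl) (by simp [e]; rfl))).2
      fun v hv => fix_eq_zero N (fun h => h0 ?_) ((hψ g _ v).symm.trans (hx ▸ hv)))
    rw [e] at h
    push_cast at h
    linear_combination h + g.1.trace * h1 + g.1.trace * h3
  have h2 : ∀ v, ψ x.right v = v → v = 1 := fun v hv => fix_eq_zero N (fun h => by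
    rcases Int.units_eq_one_or x.right.2 with e | e <;> rw [e] at h <;> push_cast at h
    · exact h1 (mul_left_cancel₀ h0 (by linear_combination h))
    · have := Fintype.ofFinite K
      exact FiniteField.isSquare_neg_one_iff.1 ⟨g.1.trace, mul_left_cancel₀ h0 (by linear_combination h)⟩ (by simpa using hK))
    ((hψ g _ v).symm.trans (hx ▸ hv))
  have h4 : Nat.gcd 2 (Nat.card K - 1) = 2 := Nat.gcd_eq_left (by omega)
  obtain h | h | h := (PSL2_spectrum 3 _).1 ⟨x.right.1, rfl⟩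
  · rw [orderOf_dvd_iff_pow_eq_one, ← hg] at h
    refine (h1 ((psl2_pow_three_eq_one_iff.1 h).elim (fun h => by rwa [← sub_eq_zero, ← tr2_eq_trace]) fun h => ?_)).elim
    rcases pmk_eq_one_iff'.1 h with rfl | rfl <;> rw [← tr2_eq_trace] <;> simp only [tr2_neg, tr2_one] <;> linear_combination h3
  · refine Or.inr (Or.inr (Or.inl ((pow_three (Prod.ext (orderOf_dvd_iff_pow_eq_one.1 (h.trans (Nat.div_dvd_of_dvd
      (Nat.gcd_dvd_right ..)))) (orderOf_dvd_iff_pow_eq_one.1 ((orderOf_dvd_of_pow_eq_one ε2).trans (by omega))))).2 h2)))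
  · exact Or.inr (Or.inr (Or.inr ((pow_three (Prod.ext (orderOf_dvd_iff_pow_eq_one.1 (by rwa [h4] at h))
      (orderOf_dvd_iff_pow_eq_one.1 ((orderOf_dvd_of_pow_eq_one ε2).trans (by omega))))).2 h2)))

theorem exists_order [Finite K] (hK : Nat.card K % 4 = 3) (i : Fin N) {d : ℕ}
    (h : d ∣ 6 ∨ d ∣ 9 ∨ d ∣ Nat.card K - 1 ∨ d ∣ (Nat.card K + 1) / 2) : ∃ x : _ ⋊[ψ] _, orderOf x = d := by
  have : Finite (_ ⋊[ψ] _) := Finite.of_equiv _ SemidirectProduct.equivProd.symm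
  have h3 : (3 : K) = 0 := CharP.cast_eq_zero K 3
  have h4 : Nat.gcd 2 (Nat.card K - 1) = 2 := Nat.gcd_eq_left (by omega)
  have k : ∀ m, (m ∣ 3 ∨ m ∣ (Nat.card K - 1) / 2 ∨ m ∣ (Nat.card K + 1) / 2) → d ∣ Nat.lcm m 2 → ∃ x : _ ⋊[ψ] _, orderOf x = d :=
    fun m h h' => by
      obtain ⟨y, hy⟩ := (PSL2_spectrum (F := K) 3 m).2 (by rwa [h4])
      refine exists_orderOf_of_dvd (x := .inr (y, -1)) ?_
      rwa [orderOf_injective _ SemidirectProduct.inr_injective, Prod.orderOf, hy, show orderOf (y, (-1 : ℤˣ)).2 = 2 from orderOf_eq_prime (x := (-1 : ℤˣ)) rfl (by decide)]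
  rcases h with h | h | h | h
  · exact k 3 (by simp) h
  · refine exists_orderOf_of_dvd (x := ⟨Multiplicative.ofAdd fun _ => !![0, 0; 0, 1], (pmk K (slMat 1 1 0 1 (by simp)), 1)⟩)
      ?_
    rw [orderOf_eq_prime_pow (p := 3) (n := 1) (fun e => ?_) (pow_three (n := 3) (Prod.ext ?_ rfl)).1]
    · exact h
    · exact psl2_pow_three_eq_one_iff.2 (Or.inl (by rw [tr2_slMat]; linear_combination h3))
    · have := congrFun (congrFun (congrFun (congrArg (fun x => Multiplicative.toAdd x.left) e) i) 0) 0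
      have k : ∀ g ε v, Multiplicative.toAdd (ψ (pmk K g, ε) (.ofAdd v)) = act N (g, ε) v := hψ
      simp only [pow_succ, pow_zero, one_mul, SemidirectProduct.mul_left, SemidirectProduct.mul_right, Prod.mk_mul_mk, ← map_mul,
        toAdd_mul, k] at this
      simp only [slMat_mul] at this
      simp [act, slMat, mul_apply, frobenius_def, vecHead, vecMul, dotProduct] at this
      exact one_ne_zero (α := K) (by linear_combination 6 * h3 - this)
  · exact k _ (Or.inr (Or.inl dvd_rfl)) (by rwa [Nat.Coprime.lcm_eq_mul (Nat.coprime_two_right.2 (Nat.odd_iff.2 (by omega))),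
      Nat.div_mul_cancel (by omega)])
  · exact k _ (Or.inr (Or.inr dvd_rfl)) (h.trans (Nat.dvd_lcm_left ..))

end


/-- Let R be the small Ree group over the field with q = 3^(2m+1) ≥ 27 elements. Then there are finite groups of arbitrarily large order with exactly the same set of element orders as R × R × R. -/
theorem result {K : Type*} [Field K] [Fintype K] {m : ℕ} (hm : 1 ≤ m) (hK : Fintype.card K = 3 ^ (2 * m + 1)) (N : ℕ) :
    ∃ (H : Type) (_ : Group H) (_ : Fintype H), N < Fintype.card H ∧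
      Set.range (orderOf : H → ℕ) = Set.range (orderOf : ↥(Cfsg.Lie.twistedG2 K (3 ^ m)) × ↥(Cfsg.Lie.twistedG2 K (3 ^ m)) × ↥(Cfsg.Lie.twistedG2 K (3 ^ m)) → ℕ) := by
  obtain ⟨R, -⟩ := exists_ree hK
  obtain ⟨e, hq, hr⟩ := ree_par hm hK
  have := charP_of_card_eq_prime_pow (p := 3) hK
  have h4 : Nat.card K % 4 = 3 := by rw [← e, pow_succ, pow_mul, Nat.mul_mod, Nat.pow_mod]; simp
  obtain ⟨ψ, hψ⟩ := exists_psi (K := K) (N + 1)
  have : Finite (_ ⋊[ψ] _) := Finite.of_equiv _ SemidirectProduct.equivProd.symm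
  have S := R.spectrum hq hr
  obtain ⟨H, _, _, ⟨f⟩⟩ := Finite.exists_type_univ_nonempty_mulEquiv.{_, 0}
    (Lie.twistedG2 K (3 ^ m) × Lie.twistedG2 K (3 ^ m) × _ ⋊[ψ] _)
  refine ⟨H, inferInstance, inferInstance, ?_, Set.ext fun d => ⟨fun ⟨x, hx⟩ => ?_, fun ⟨⟨a, b, c⟩, hx⟩ => ?_⟩⟩
  · rw [← Nat.card_eq_fintype_card, ← Nat.card_congr f.toEquiv, Nat.card_prod, Nat.card_prod, SemidirectProduct.card,
      Nat.card_congr Multiplicative.toAdd, Nat.card_fun, Nat.card_eq_fintype_card (α := Fin _), Fintype.card_fin]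
    exact ((Nat.lt_succ_self N).trans (Nat.lt_pow_self Finite.one_lt_card)).trans_le (((Nat.le_mul_of_pos_right _ Nat.card_pos).trans
      (Nat.le_mul_of_pos_left _ Nat.card_pos)).trans (Nat.le_mul_of_pos_left _ Nat.card_pos))
  · obtain ⟨⟨a, b, c⟩, rfl⟩ := f.surjective x
    obtain ⟨c', h⟩ := (S (orderOf c)).2 (by have := order_cases hψ h4 c; tauto)
    exact ⟨(a, b, c'), by simpa [Prod.orderOf, h] using hx⟩
  have k : ∀ a b c : Lie.twistedG2 K (3 ^ m), (orderOf a).lcm ((orderOf b).lcm (orderOf c)) = d →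
      ¬ (orderOf c ∣ Nat.card K - 3 ^ (m + 1) + 1 ∨ orderOf c ∣ Nat.card K + 3 ^ (m + 1) + 1) → d ∈ Set.range (orderOf : H → ℕ) :=
    fun a b c h h' => by
      obtain ⟨c', h1⟩ := exists_order hψ h4 0 (d := orderOf c) (by have := (S _).1 ⟨c, rfl⟩; tauto)
      exact ⟨f (a, b, c'), by simpa [Prod.orderOf, h1] using h⟩
  simp only [Prod.orderOf] at hx
  by_contra h0
  have ha := not_not.1 (mt (k b c a (by rw [← hx, ← Nat.lcm_assoc, Nat.lcm_comm])) h0)
  have hb := not_not.1 (mt (k a c b (by rw [← hx, Nat.lcm_comm (orderOf c)])) h0)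
  have hc := not_not.1 (mt (k a b c hx) h0)
  obtain ⟨x, h1⟩ := (S (d.gcd (Nat.card K - 3 ^ (m + 1) + 1))).2 (by simp [Nat.gcd_dvd_right])
  obtain ⟨y, h2⟩ := (S (d.gcd (Nat.card K + 3 ^ (m + 1) + 1))).2 (by simp [Nat.gcd_dvd_right])
  have k' : ∀ {n A B}, n ∣ d → n ∣ A ∨ n ∣ B → n ∣ (d.gcd A).lcm (d.gcd B) := fun h h' => h'.elim
    (fun h' => (Nat.dvd_gcd h h').trans (Nat.dvd_lcm_left ..)) fun h' => (Nat.dvd_gcd h h').trans (Nat.dvd_lcm_right ..)
  refine h0 ⟨f (x, y, 1), ?_⟩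
  simp only [MulEquiv.orderOf_eq, Prod.orderOf, h1, h2, orderOf_one, Nat.lcm_one_right]
  exact Nat.dvd_antisymm (Nat.lcm_dvd (Nat.gcd_dvd_left ..) (Nat.gcd_dvd_left ..)) (hx.symm.dvd.trans (Nat.lcm_dvd
    (k' (hx ▸ Nat.dvd_lcm_left ..) ha) (Nat.lcm_dvd (k' (hx ▸ (Nat.dvd_lcm_left ..).trans (Nat.dvd_lcm_right ..)) hb)
      (k' (hx ▸ (Nat.dvd_lcm_right ..).trans (Nat.dvd_lcm_right ..)) hc))))

end Cfsg.Agent.S3626
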