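import Cfsg.Statements.S3627
import Cfsg.Agent.Lib.Coprime.SpecJ1

set_option autoImplicit false
open Cfsg

namespace Cfsg.Agent.S3627

open Cfsg.Lib.Coprime

open Finset in
theorem key : image₂ Nat.lcm {1, 2, 3} (image₂ Nat.lcm {1, 3, 5} (image₂ Nat.lcm {1, 5, 7}
    (image₂ Nat.lcm {1, 7, 11} {1, 11, 19}))) = image₂ Nat.lcm {1, 2, 3, 5, 6, 7, 10, 11, 15, 19}
      (image₂ Nat.lcm {1, 2, 3, 5, 6, 7, 10, 11, 15, 19} (image₂ Nat.lcm {1, 2, 3, 5, 6, 7, 10, 11, 15, 19}
        {1, 2, 3, 5, 6, 7, 10, 11, 15, 19})) := by decide +kernel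

theorem frob {a b : ℕ} (ha : a.Prime) (hb : b.Prime) (hab : a ≠ b) (N : ℕ) :
    ∃ (H : Type) (_ : Group H) (_ : Finite H), N < Nat.card H ∧ Set.range (orderOf : H → ℕ) = ({1, a, b} : Finset ℕ) := by
  obtain ⟨H, _, _, -, h1, h2⟩ := exists_frob ha.one_lt hb.pos ((Nat.coprime_primes ha hb).2 hab) N
  refine ⟨H, _, ‹_›, h1, Set.ext fun m => (h2 m).trans ?_⟩
  simp only [Nat.dvd_prime ha, Nat.dvd_prime hb, Finset.coe_insert, Finset.coe_singleton, Set.mem_insert_iff,
    Set.mem_singleton_iff]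
  tauto

/-- Let J be the first Janko group. Then there are finite groups of arbitrarily large order with exactly the same set of element orders as J × J × J × J. -/
theorem result (N : ℕ) : ∃ (H : Type) (_ : Group H) (_ : Fintype H), N < Fintype.card H ∧
      Set.range (orderOf : H → ℕ) = Set.range (orderOf : ↥Cfsg.Spor.J1 × ↥Cfsg.Spor.J1 × ↥Cfsg.Spor.J1 × ↥Cfsg.Spor.J1 → ℕ) := by
  obtain ⟨A, _, _, h, hA⟩ := frob (a := 2) (b := 3) (by norm_num) (by norm_num) (by norm_num) N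
  obtain ⟨B, _, _, -, hB⟩ := frob (a := 3) (b := 5) (by norm_num) (by norm_num) (by norm_num) 0
  obtain ⟨C, _, _, -, hC⟩ := frob (a := 5) (b := 7) (by norm_num) (by norm_num) (by norm_num) 0
  obtain ⟨D, _, _, -, hD⟩ := frob (a := 7) (b := 11) (by norm_num) (by norm_num) (by norm_num) 0
  obtain ⟨E, _, _, -, hE⟩ := frob (a := 11) (b := 19) (by norm_num) (by norm_num) (by norm_num) 0
  have := Fintype.ofFinite (A × B × C × D × E)
  refine ⟨A × B × C × D × E, inferInstance, this, ?_, ?_⟩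
  · rw [← Nat.card_eq_fintype_card, Nat.card_prod]
    exact h.trans_le (Nat.le_mul_of_pos_right _ Nat.card_pos)
  exact (spec_prod_fin hA (spec_prod_fin hB (spec_prod_fin hC (spec_prod_fin hD hE)))).trans ((congrArg _ key).trans
    (spec_prod_fin spec_J1 (spec_prod_fin spec_J1 (spec_prod_fin spec_J1 spec_J1))).symm)

end Cfsg.Agent.S3627
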