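import Cfsg.Statements.S3639
import Cfsg.Agent.Lib.BN.SzSubgroups

set_option autoImplicit false
open Cfsg

namespace Cfsg.Agent.S3639

open Cfsg.Lib.BN.Sz Cfsg.Lib.BN Matrix

section
variable {F : Type*} [Field F] {m : ℕ} [hF : SzField F m]

theorem no_fixed {g : Cfsg.Sz F m} (hp : (orderOf g).Prime) (h2 : orderOf g ≠ 2) {v : Fin 4 → F}
    (hv : g.1.1 *ᵥ v = v) : v = 0 := by
  have h1 : g ≠ 1 := by rintro rfl; simp [Nat.not_prime_one] at hp
  have h4 := pow_four_ne_one_of_odd h1 (hp.odd_of_ne_two h2) (pow_orderOf_eq_one g)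
  by_contra h0
  rcases mem_cover_or m h1 with ⟨-, x, -, hx⟩ | ⟨-, x, -, hx⟩ | h
  · exact h4 (pow_four_of_conj_mem_Q hx)
  · obtain ⟨k, hk⟩ := (mem_H m).1 hx
    have e1 : x.1.1 *ᵥ x⁻¹.1.1 *ᵥ v = v := by
      rw [mulVec_mulVec, show x.1.1 * x⁻¹.1.1 = 1 from congrArg (fun g : Cfsg.Sz F m => g.1.1) (mul_inv_cancel x),
        one_mulVec]
    have e2 : Dmat m (k : F) *ᵥ x⁻¹.1.1 *ᵥ v = x⁻¹.1.1 *ᵥ v := by
      rw [← coe_D, ← hk]
      change (x⁻¹.1.1 * g.1.1 * x.1.1) *ᵥ _ = _
      rw [← mulVec_mulVec, ← mulVec_mulVec, e1, hv]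
    have hk1 : (k : F) ≠ 1 := fun e => conj_ne_one h1 x (by rw [hk, D_eq_one_iff]; exact Units.ext e)
    have hk2 : ρ m (k : F) ≠ 1 := fun e => hk1 (by rw [← σ_ρ m (k : F), e, map_one])
    have hk3 : k * ρ m (k : F) ≠ 1 := fun e => hk1 (mul_σ_eq_one m (by
      have := congrArg (σ m) e
      rwa [map_mul, σ_ρ, map_one, mul_comm] at this))
    have key : ∀ c y : F, c ≠ 1 → c * y = y → y = 0 := fun c y hc h => by
      by_contra h'
      exact hc (mul_right_cancel₀ h' (by rw [h, one_mul]))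
    generalize x⁻¹.1.1 *ᵥ v = u at e1 e2
    have : u = 0 := by
      ext i
      have := congrFun e2 i
      fin_cases i <;> simp only [Dmat, mulVec, dotProduct, Fin.sum_univ_four] at this <;>
        refine key _ _ ?_ (by simpa using this)
      · exact hk3
      · exact hk2
      · simpa using hk2
      · rwa [← _root_.mul_inv_rev, Ne, inv_eq_one]
    rw [this, mulVec_zero] at e1
    exact h0 e1.symm
  · have := irred_of_prime m hp h.orderOf_dvd (e := g.1.1 - 1) (by simp [Matrix.mul_sub, Matrix.sub_mul]) h0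
      (by simp [Matrix.sub_mulVec, hv])
    exact h1 (ext_mat m (sub_eq_zero.1 this))

theorem orderOf_ne {g : Cfsg.Sz F m} {s : ℕ} (hs : s.Prime) (h2 : s ≠ 2) : orderOf g ≠ 2 * s := by
  intro h
  have h1 : g ^ s ≠ 1 := fun e => by
    have := Nat.le_of_dvd hs.pos (h ▸ orderOf_dvd_of_pow_eq_one e)
    have := hs.pos
    omega
  have h4 : (g ^ s) ^ 4 = 1 := by
    rw [← pow_mul, show s * 4 = 2 * s * 2 by ring, pow_mul, ← h, pow_orderOf_eq_one, one_pow]
  obtain ⟨n, hn⟩ := isPGroup_centralizer h1 h4 ⟨g, Subgroup.mem_centralizer_singleton_iff.2 (Commute.self_pow g s).eq⟩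
  have h5 : 2 * s ∣ 2 ^ n := h ▸ orderOf_dvd_of_pow_eq_one (congrArg Subtype.val hn)
  exact h2 ((Nat.prime_dvd_prime_iff_eq hs Nat.prime_two).1 (hs.dvd_of_dvd_pow (Dvd.dvd.trans (Dvd.intro_left _ rfl) h5)))

/-- the action on `N` copies of the natural module -/
def act (N : ℕ) : Cfsg.Sz F m →* MulAut (Multiplicative (Fin N → Fin 4 → F)) where
  toFun g :=
    { toFun := fun v => Multiplicative.ofAdd fun i => g.1 • v.toAdd i
      invFun := fun v => Multiplicative.ofAdd fun i => g.1⁻¹ • v.toAdd i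
      left_inv := fun v => by simp
      right_inv := fun v => by simp
      map_mul' := fun u v => by
        apply Multiplicative.toAdd.injective
        ext1 i; simp }
  map_one' := by ext1 v; simp
  map_mul' := fun g h => by ext1 v; simp [mul_smul]

theorem aux (N : ℕ) (y : Multiplicative (Fin N → Fin 4 → F) ⋊[act N] Cfsg.Sz F m) {r s : ℕ} (hs : s.Prime)
    (h2 : s ≠ 2) (hr : r.Prime) (hy : orderOf y = r * s) : orderOf y.right = r * s := by
  have := charP (F := F) m
  have h1 : orderOf y.right ∣ r * s := hy ▸ orderOf_map_dvd SemidirectProduct.rightHom y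
  have key : ∀ n, y.right ^ n = 1 → ∃ v, y ^ n = SemidirectProduct.inl v := fun n h => by
    have : y ^ n ∈ (SemidirectProduct.rightHom).ker := by
      rw [MonoidHom.mem_ker, map_pow]; exact h
    rw [← SemidirectProduct.range_inl_eq_ker_rightHom] at this
    obtain ⟨v, hv⟩ := this
    exact ⟨v, hv.symm⟩
  have h3 : r * s ∣ orderOf y.right * 2 := by
    obtain ⟨v, hv⟩ := key _ (pow_orderOf_eq_one y.right)
    rw [← hy, orderOf_dvd_iff_pow_eq_one, pow_mul, hv, ← map_pow]
    have : v ^ 2 = 1 := by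
      apply Multiplicative.toAdd.injective
      ext i j; simp [CharTwo.two_eq_zero]
    rw [this, map_one]
  by_cases hr2 : r = 2
  · subst hr2
    rw [mul_comm 2] at h3
    obtain ⟨d, hd⟩ := Nat.dvd_of_mul_dvd_mul_right two_pos h3
    rw [hd, mul_comm 2] at h1
    rcases (Nat.dvd_prime Nat.prime_two).1 (Nat.dvd_of_mul_dvd_mul_left hs.pos h1) with rfl | rfl
    · exfalso
      rw [mul_one] at hd
      obtain ⟨v, hv⟩ := key s (hd ▸ pow_orderOf_eq_one y.right)
      have h4 : y * SemidirectProduct.inl v = SemidirectProduct.inl v * y := hv ▸ (Commute.self_pow y s).eq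
      have h5 := congrArg SemidirectProduct.left h4
      simp only [SemidirectProduct.mul_left, SemidirectProduct.left_inl, SemidirectProduct.right_inl, map_one,
        MulAut.one_apply, mul_comm v, mul_left_cancel_iff] at h5
      have h6 : v = 1 := by
        apply Multiplicative.toAdd.injective
        ext1 i
        exact no_fixed (hd ▸ hs) (hd ▸ h2) (congrFun (congrArg Multiplicative.toAdd h5) i)
      rw [h6, map_one] at hv
      have := Nat.le_of_dvd hs.pos (hy ▸ orderOf_dvd_of_pow_eq_one hv)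
      have := hs.pos
      omega
    · rw [hd, mul_comm]
  · refine Nat.dvd_antisymm h1 (Nat.Coprime.dvd_of_dvd_mul_right ?_ h3)
    exact Nat.coprime_two_right.2 ((hr.odd_of_ne_two hr2).mul (hs.odd_of_ne_two h2))

end

/-- Let S be the Suzuki group over the field with q = 2^(2m+1) ≥ 8 elements. Then there are finite groups of arbitrarily large order with the same prime graph as S. -/
theorem result {F : Type*} [Field F] [Fintype F] {m : ℕ} (hm : 1 ≤ m) (hF : Fintype.card F = 2 ^ (2 * m + 1)) (N : ℕ) :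
    ∃ (H : Type) (_ : Group H) (_ : Fintype H), N < Fintype.card H ∧ ((∀ r : ℕ, r.Prime → (r ∣ Nat.card ↥(Cfsg.Lie.Sz F (2 ^ (m + 1))) ↔ r ∣ Nat.card H)) ∧
      (∀ r s : ℕ, r.Prime → s.Prime → r ≠ s → ((∃ x : ↥(Cfsg.Lie.Sz F (2 ^ (m + 1))), orderOf x = r * s) ↔ (∃ y : H, orderOf y = r * s)))) := by
  have hsz := szField_of_card hm hF
  let G := Multiplicative (Fin N → Fin 4 → F) ⋊[act N] Cfsg.Sz F m
  have hc : Nat.card G = ((2 ^ (2 * m + 1)) ^ 4) ^ N * Nat.card (Cfsg.Sz F m) := by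
    rw [SemidirectProduct.card, Nat.card_congr Multiplicative.toAdd, Nat.card_fun, Nat.card_fun, hsz.card_eq]
    simp
  have : Finite G := Nat.finite_of_card_ne_zero (by rw [hc]; exact (mul_pos (by positivity) Nat.card_pos).ne')
  let e : Shrink.{0} G ≃* G := Shrink.mulEquiv
  have : Finite (Shrink.{0} G) := Finite.of_equiv _ e.toEquiv.symm
  let _ := Fintype.ofFinite (Shrink.{0} G)
  refine ⟨Shrink.{0} G, inferInstance, inferInstance, ?_, fun r hr => ?_, fun r s hr hs hrs => ⟨?_, ?_⟩⟩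
  · rw [← Nat.card_eq_fintype_card, Nat.card_congr e.toEquiv, hc]
    calc N < ((2 ^ (2 * m + 1)) ^ 4) ^ N := Nat.lt_pow_self (Nat.one_lt_pow (by norm_num) (Nat.one_lt_two_pow (by omega)))
      _ ≤ _ := Nat.le_mul_of_pos_right _ Nat.card_pos
  · rw [Nat.card_congr e.toEquiv, hc, ← Nat.card_congr (szEquiv m).toEquiv]
    refine ⟨fun h => h.mul_left _, fun h => (hr.dvd_mul.1 h).elim (fun h => ?_) id⟩
    rw [card_Sz, sq, mul_assoc, mul_assoc]
    exact (hr.dvd_of_dvd_pow (hr.dvd_of_dvd_pow h)).mul_right _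
  · rintro ⟨x, hx⟩
    refine ⟨e.symm (SemidirectProduct.inr ((szEquiv m).symm x)), ?_⟩
    rw [MulEquiv.orderOf_eq, orderOf_injective _ SemidirectProduct.inr_injective, MulEquiv.orderOf_eq, hx]
  · rintro ⟨y, hy⟩
    refine ⟨szEquiv m (e y).right, ?_⟩
    rw [MulEquiv.orderOf_eq]
    rw [← e.orderOf_eq] at hy
    by_cases h2 : s = 2
    · rw [mul_comm] at hy ⊢
      exact aux N _ hr (h2 ▸ hrs) hs hy
    · exact aux N _ hs h2 hr hy

end Cfsg.Agent.S3639
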