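import Cfsg.Statements.S3643
import Cfsg.Agent.Lib.Coprime.M12g
import Cfsg.Agent.Lib.Mult.Prod
import Cfsg.Agent.Lib.Linear.SmallRec
import Cfsg.Agent.S3593
import Cfsg.Agent.S2060
import Cfsg.Agent.S2034
import Cfsg.Agent.S4429

set_option autoImplicit false
open Cfsg

namespace Cfsg.Agent.S3643

open Subgroup Cfsg.Lib Cfsg.Lib.Small Cfsg.Lib.Exc Cfsg.Lib.Coprime Cfsg.Lib.Amalg Cfsg.Lib.Clifford Cfsg.Lib.Char

theorem three {N : Type*} [Group N] [Finite N] (hN : Nat.card N = 12) (h : ∃ d ∈ charDegrees (N × Spor.M11), 33 ∣ d) :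
    3 ∈ degreePrimes N := by
  have := Golay.simple_M11
  obtain ⟨_, ⟨χ, rfl⟩, h⟩ := h
  obtain ⟨φ, ψ, h1, h2, h3⟩ := χ.2.exists_prod
  have h4 : charDegree χ.1 = charDegree φ * charDegree ψ := by
    have := coe_deg χ
    rw [h3] at this ⊢
    simp only [Prod.fst_one, Prod.snd_one] at this
    rw [← show _ = φ 1 from coe_deg ⟨φ, h1⟩, ← show _ = ψ 1 from coe_deg ⟨ψ, h2⟩] at this
    exact_mod_cast this
  have h5 := (S4429.result Golay.card_M11).2 (charDegree ψ)
  have : Nonempty {χ : IrrCharacter Spor.M11 // charDegree χ.1 = charDegree ψ} := ⟨⟨⟨ψ, h2⟩, rfl⟩⟩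
  have h6 := Nat.card_pos (α := {χ : IrrCharacter Spor.M11 // charDegree χ.1 = charDegree ψ})
  have h7 := hN ▸ (irrOn_top.2 h1).deg_dvd_card.trans (card_subgroup_dvd_card _)
  rw [h4] at h
  have h8 := (Nat.Prime.dvd_mul (p := 11) (by norm_num)).1 (Dvd.dvd.trans (by norm_num) h)
  have h9 := (Nat.Prime.dvd_mul (p := 3) (by norm_num)).1 (Dvd.dvd.trans (by norm_num) h)
  refine ⟨by norm_num, _, ⟨⟨φ, h1⟩, rfl⟩, h9.resolve_right fun e => ?_⟩
  have h10 := h8.resolve_left fun e => absurd (e.trans h7) (by norm_num)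
  split_ifs at h5 <;> omega

theorem main {G : Type*} [Group G] [Finite G] (hG : Nat.card G = 95040) {χ : IrrCharacter G}
    (h55 : 5 * 11 ∣ charDegree χ.1) (h33 : ∃ d ∈ charDegrees G, 33 ∣ d) {N : Subgroup G} [N.Normal] (hN : ¬ 11 ∣ Nat.card N)
    (hO : pPrimeCore 11 (G ⧸ N) = ⊥) (M : Subgroup (G ⧸ N)) [M.Normal] [IsSimpleGroup M] (h1 : ¬ IsMulCommutative M)
    (h2 : 11 ∣ Nat.card M) : Nonempty (G ≃* Spor.M12) ∨ Nonempty (G ≃* alternatingGroup (Fin 4) × Spor.M11) := by
  have := Fact.mk (by norm_num : Nat.Prime 11)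
  have hq := hG ▸ card_quotient_dvd_card N
  have h121 : ∀ K : Subgroup (G ⧸ N), K.Normal → M ⊓ K = ⊥ → ¬ 11 ∣ Nat.card K := fun K _ e1 e2 => by
    have h3 := (card_subgroup_dvd_card (M ⊔ K)).trans hq
    rw [card_sup_of_disjoint' (by rw [normalizer_eq_top]; exact le_top) e1] at h3
    exact absurd ((mul_dvd_mul h2 e2).trans h3) (by norm_num)
  obtain ⟨x, hx⟩ := exists_prime_orderOf_dvd_card' (G := G) 11 (by rw [hG]; norm_num)
  have hxC := le_centralizer_iff.1 (S3593.le_cent hG.dvd ((Nat.card_zpowers x).trans hx) N hN) (mem_zpowers x)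
  have := (inferInstance : (centralizer (N : Set G)).Normal).map _ (QuotientGroup.mk'_surjective N)
  have hMC : M ≤ (centralizer (N : Set G)).map (QuotientGroup.mk' N) := by
    refine subgroupOf_eq_top.1 ((inferInstance : (((centralizer (N : Set G)).map (QuotientGroup.mk' N)).subgroupOf
      M).Normal).eq_bot_or_eq_top.resolve_left fun e => h121 _ this (by rwa [subgroupOf_eq_bot, disjoint_comm,
        disjoint_iff] at e) ?_)
    refine Dvd.dvd.trans (Eq.dvd (orderOf_eq_prime ?_ fun e => hN ?_).symm)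
      (Subgroup.orderOf_dvd_natCard _ (mem_map_of_mem _ hxC))
    · rw [← map_pow, ← hx, pow_orderOf_eq_one, map_one]
    · exact hx ▸ N.orderOf_dvd_natCard ((QuotientGroup.eq_one_iff x).1 e)
  rcases M12.card_simple h1 h2 ((card_subgroup_dvd_card M).trans hq) with h3 | h3 | h3
  · exfalso
    set L := centralizer (N : Set G) ⊓ M.comap (QuotientGroup.mk' N)
    have h4 : N.relIndex L = 660 := by
      have := relIndex_ker L (QuotientGroup.mk' N)
      rwa [QuotientGroup.ker_mk', map_inf_comap _ hMC, h3] at this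
    obtain ⟨θ, h5, h6⟩ := (irrOn_top.2 χ.2).exists_under (le_top (a := L))
    have h7 := deg_dvd_relIndex_mul le_top (nrm_of_normal _ L) (irrOn_top.2 χ.2) (irrOn_of_mem h5) h6
    have h8 := (irrOn_of_mem h5).deg_sq_le_of_central (B := ⊥) (D := N) (fun x hx => by rw [mem_bot.1 hx])
      fun d hd _ c hc => by rw [hc.1 d hd]; simp
    have h9 := L.card_mul_index
    obtain ⟨k, hk⟩ := relIndex_dvd_card N L
    rw [hk, h4, hG] at h9
    rw [relIndex_top_right] at h7
    have h10 : L.index ∣ 144 := ⟨k, by linarith⟩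
    have h11 := (Nat.Coprime.coprime_dvd_right h10 (by norm_num : Nat.Coprime (5 * 11) 144)).dvd_of_dvd_mul_left (h55.trans h7)
    have h12 := Nat.le_of_dvd (irrOn_of_mem h5).deg_pos h11
    nlinarith
  · obtain ⟨e⟩ := M11.isoM11 h3
    have h4 : Function.Injective (MulAut.conjNormal : G ⧸ N →* MulAut M) := by
      rw [← MonoidHom.ker_eq_bot_iff, eq_bot_iff, ← hO]
      refine Core.le_pPrimeCore ((Nat.Prime.coprime_iff_not_dvd Fact.out).2 (h121 _ inferInstance
        (eq_bot_iff.2 fun x hx => ?_))).symm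
      have h3 : (⟨x, hx.1⟩ : M) ∈ center M := mem_center_iff.2 fun g => Subtype.ext (by
        have := congrArg Subtype.val (DFunLike.congr_fun (MonoidHom.mem_ker.1 hx.2) g)
        exact (mul_inv_eq_iff_eq_mul.1 this).symm)
      rw [center_eq_bot_of_simple h1] at h3
      exact congrArg Subtype.val (mem_bot.1 h3)
    have h5 : Nat.card (G ⧸ N) ≤ Nat.card M := by
      refine (Nat.card_le_card_of_injective _ ((MulAut.congr e).injective.comp h4)).trans ?_
      rw [Nat.card_congr e.toEquiv]
      exact Nat.card_le_card_of_surjective _ (MonoidHom.range_eq_top.1 (index_eq_one.1 S2060.result))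
    obtain rfl := eq_top_of_le_card M h5
    have h6 := card_eq_card_quotient_mul_card_subgroup N
    rw [← card_top (G := G ⧸ N), h3, hG] at h6
    have := Golay.simple_M11
    obtain ⟨η, hη⟩ := Mult.lift_of_mult_one ⟨commutator_eq_top_of_simple (M11.ncomm Golay.card_M11)⟩ S2034.result
      ((⊤ : Subgroup (G ⧸ N)).subtype.comp e.symm.toMonoidHom)
      (ξ := (QuotientGroup.mk' N).comp (centralizer (N : Set G)).subtype)
      (fun q => by rw [MonoidHom.range_comp, range_subtype]; exact hMC trivial)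
      fun y hy => mem_center_iff.2 fun c => Subtype.ext (c.2 y ((QuotientGroup.eq_one_iff y.1).1 hy)).symm
    have hcm : ∀ (a : N) (b : Spor.M11), Commute (N.subtype a) (((centralizer (N : Set G)).subtype.comp η) b) :=
      fun a b => (η b).2 a a.2
    have e1 := MulEquiv.ofBijective (N.subtype.noncommCoprod _ hcm) ((Nat.bijective_iff_injective_and_card _).2
      ⟨(injective_iff_map_eq_one _).2 fun ⟨a, b⟩ hab => by
        have h7 := congrArg (QuotientGroup.mk' N) hab
        have h8 := DFunLike.congr_fun hη b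
        rw [MonoidHom.noncommCoprod_apply] at hab h7
        rw [map_mul, show QuotientGroup.mk' N (N.subtype a) = 1 from (QuotientGroup.eq_one_iff _).2 a.2, one_mul,
          map_one] at h7
        obtain rfl : b = 1 := e.symm.injective (Subtype.ext ((h8.symm.trans h7).trans (by simp)))
        simpa using hab, by rw [Nat.card_prod, Golay.card_M11, hG]; omega⟩)
    have h7 := three (N := N) (by omega) (Known.charDegrees_congr e1 ▸ h33)
    obtain ⟨e2⟩ := Linear.nonempty_equiv_A4 (G := N) (by omega) fun g hg => by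
      have h8 := (zpowers g).card_mul_index
      rw [Nat.card_zpowers, hg] at h8
      have := normal_of_index_eq_two (H := zpowers g) (by omega)
      exact DegG.ito (zpowers g) (fun a ha b hb => congrArg Subtype.val (mul_comm' (⟨a, ha⟩ : zpowers g) ⟨b, hb⟩))
        (by omega) h7
    exact Or.inr ⟨e1.symm.trans (e2.prodCongr (MulEquiv.refl _))⟩
  · have := DegG.simple_of_card M (h3.trans hG.symm)
    exact Or.inl (M12.isoM12 hG)

/-- Let G be a finite group of the same order as the Mathieu group M₁₂ whose character degree graph equals that of M₁₂ (same primes dividing some irreducible complex character degree, same pairs of distinct primes whose product divides some degree). Then G is isomorphic to M₁₂ or to the direct product of the alternating group of degree 4 with M₁₁. -/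
theorem result {G : Type*} [Group G] [Finite G] (hcard : Nat.card G = Nat.card ↥Cfsg.Spor.M12) (hΔ : Cfsg.degreePrimes G = Cfsg.degreePrimes ↥Cfsg.Spor.M12 ∧ Cfsg.degreeGraph G = Cfsg.degreeGraph ↥Cfsg.Spor.M12) :
    Nonempty (G ≃* ↥Cfsg.Spor.M12) ∨ Nonempty (G ≃* alternatingGroup (Fin 4) × ↥Cfsg.Spor.M11) := by
  have h := Golay.card_M12
  have := Golay.simple_M12
  have hG := hcard.trans h
  obtain ⟨-, -, -, _, ⟨χ, rfl⟩, h55⟩ : (degreeGraph G).Adj 5 11 :=
    hΔ.2 ▸ ⟨by norm_num, by norm_num, by norm_num, _, M12.deg55 h, by norm_num⟩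
  obtain ⟨-, -, -, h33⟩ : (degreeGraph G).Adj 3 11 := hΔ.2 ▸ ⟨by norm_num, by norm_num, by norm_num, M12.deg33 h⟩
  obtain ⟨M, _, _, h1, h2⟩ := DegG.dich (p := 11) (q := 2) (a := 6) (m := 1485) (by norm_num) (by norm_num) hG (by norm_num)
    (by norm_num) rfl (by norm_num) (fun d hd e _ => by
      obtain ⟨r, i, hr, hi, rfl⟩ := (isPrimePow_nat_iff d).1 e
      have := pow_pos hr.pos i
      by_cases e : 11 ∣ r ^ i
      exacts [by omega, S3593.no_pp hr hi (Nat.dvd_of_mem_divisors hd) e])
    ⟨by norm_num, _, ⟨χ, rfl⟩, (dvd_mul_left 11 5).trans h55⟩ (by norm_num)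
  exact main hG h55 h33 (Core.not_dvd_card_pPrimeCore (by norm_num)) Core.pPrimeCore_quotient_pPrimeCore M h1 h2

end Cfsg.Agent.S3643
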