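import Cfsg.Statements.S3662
import Cfsg.Agent.Lib.Chev.G2Ord
import Cfsg.Agent.S1059

set_option autoImplicit false
open Cfsg Cfsg.Lie Cfsg.Lib.Chev Cfsg.Lib.Twist

namespace Cfsg.Agent.S3662

open Matrix MRep in
theorem exists_rep (F : Type*) [Field F] [Fintype F] (hF : Fintype.card F = 4) : ∃ φ : chevG2.group F →* GL (Fin 6) F,
    ∀ g, orderOf g = 7 ∨ orderOf g = 13 → ∀ v, (φ g).val *ᵥ v = v → v = 0 := by
  classical
  have := charP_of_card_eq_prime_pow (p := 2) (f := 2) hF
  have h2 : ((2 : ℕ) : F) = 0 := CharP.cast_eq_zero F 2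
  obtain ⟨φ, h1, h3, -⟩ := exists_rep_hom rootOK_G2 matOK_G2 (by simp) chkRep_G6 F h2 (compat_G2.gsc matOK_G2 (by simp) F)
  refine ⟨φ, fun g hg v hv => ?_⟩
  rcases hg with hg | hg
  · have := Fact.mk (by norm_num : Nat.Prime 7)
    have h4 := orderOf_evW h1 h3 h2 0 (w := cw [0, 4, 9]) (N := 7) (by norm_num) (by decide +kernel)
    set g₀ := PreSys.evW (rootOK_G2.compat.gsys matOK_G2 F) 0 (cw [0, 4, 9]) with h5
    have h6 : ∀ g : chevG2.group F, orderOf g = 7 → Nat.card (Subgroup.zpowers g) = 7 ^ (Nat.card (chevG2.group F)).factorization 7 := fun g hg => by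
      rw [Nat.card_zpowers, hg, Cfsg.Agent.S1059.result hF, Nat.factorization_def _ this.out]; decide +kernel
    obtain ⟨a, ha⟩ := MulAction.exists_smul_eq (chevG2.group F) (Sylow.ofCard _ (h6 g hg)) (Sylow.ofCard _ (h6 g₀ h4))
    obtain ⟨_, ⟨k, rfl⟩, h7⟩ : g₀ ∈ (a • Sylow.ofCard _ (h6 g hg)).1 := ha ▸ Subgroup.mem_zpowers g₀
    have h8 : (φ (g ^ k)).val *ᵥ v = v := by
      have : g ∈ (MulAction.stabilizer (GL (Fin 6) F) v).comap φ := hv
      exact zpow_mem this k
    have h9 : (φ g₀).val = (rM 6 colG6 0 1 * (rM 6 colG6 4 1 * rM 6 colG6 9 (1 : ZMod 2))).map (ZMod.castHom (dvd_refl 2) F) := by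
      have : ∀ r, (rM 6 colG6 r (1 : ZMod 2)).map (ZMod.castHom (dvd_refl 2) F) = rM 6 colG6 r 1 := fun r => by
        ext a b; simp [rM, map_list_sum, Function.comp_def, apply_ite (ZMod.castHom (dvd_refl 2) F), -ZMod.castHom_apply]
      rw [Matrix.map_mul, Matrix.map_mul, this, this, this, ← h3 ⟨0, by decide⟩, ← h3 ⟨4, by decide⟩, ← h3 ⟨9, by decide⟩, h5]
      simp [cw, PreSys.xN, show 0 < chevG2.nroots by decide, show 4 < chevG2.nroots by decide, show 9 < chevG2.nroots by decide]
    have h10 := congrArg (fun M => (ZMod.castHom (dvd_refl 2) F).mapMatrix M *ᵥ ((φ a).val *ᵥ v)) (show !![1, 0, 0, 0, 1, 0; 0, 1, 1, 0, 0, 1; 0, 0, 1, 1, 0, 0;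
      0, 1, 0, 0, 1, 0; 0, 0, 1, 0, 0, 0; 1, 0, 0, 0, 0, 0] * (rM 6 colG6 0 1 * (rM 6 colG6 4 1 * rM 6 colG6 9 (1 : ZMod 2)) - 1) = 1 by decide +kernel)
    simp only [map_mul, map_sub, map_one, one_mulVec, RingHom.mapMatrix_apply, ← mulVec_mulVec] at h10
    rw [← Matrix.map_mul, ← Matrix.map_mul, ← h9, ← h7, sub_mulVec, one_mulVec, mulVec_mulVec, ← Units.val_mul, ← map_mul] at h10
    simp only [MulDistribMulAction.toMonoidEnd_apply, MulDistribMulAction.toMonoidHom_apply, MulAut.smul_def, MulAut.conj_apply, inv_mul_cancel_right] at h10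
    rw [map_mul, Units.val_mul, ← mulVec_mulVec, h8, sub_self, mulVec_zero] at h10
    rw [← one_mulVec v, ← (φ a).inv_mul, ← mulVec_mulVec, ← h10, mulVec_zero]
  · have := Fact.mk (by norm_num : Nat.Prime 13)
    have h4 := Equiv.Perm.card_fixedPoints_modEq (f := (toLin' (φ g).val).toFun) (p := 13) (n := 1) (funext fun w => by
      change (toLin' (φ g).val)^[13] w = w
      rw [← Module.End.pow_apply, ← toLin'_pow, ← Units.val_pow_eq_pow_val, ← map_pow, ← hg, pow_orderOf_eq_one]; simp)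
    let W := LinearMap.eqLocus (toLin' (φ g).val) LinearMap.id
    rw [Fintype.card_fun, hF, Fintype.card_eq_nat_card (α := Function.fixedPoints _)] at h4
    change 4 ^ 6 ≡ Nat.card W [MOD 13] at h4
    rw [Module.natCard_eq_pow_finrank (K := F), Nat.card_eq_fintype_card, hF] at h4
    have h5 : Module.finrank F W ≤ 6 := W.finrank_le.trans_eq (by simp)
    have h6 : Module.finrank F W = 0 ∨ Module.finrank F W = 6 := by
      generalize Module.finrank F W = k at h4 h5; revert h4; revert k; decide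
    rcases h6 with h6 | h6
    · exact (Submodule.eq_bot_iff _).1 (Submodule.finrank_eq_zero.1 h6) v hv
    · have h7 := LinearMap.eqLocus_eq_top.1 (Submodule.eq_top_of_finrank_eq (h6.trans (by simp)))
      rw [← toLin'_one, toLin'.injective.eq_iff, Units.val_eq_one, map_eq_one_iff _ h1] at h7
      simp [h7] at hg

/-- The prime graph of a finite group has the prime divisors of its order as vertices, two distinct primes p, q being joined when the group has an element of order pq; two groups have the same prime graph when they have the same prime divisors and the same joined pairs. Let F be the field with 4 elements and L the Chevalley group of type G₂ over F. There are finite groups of arbitrarily large order with the same prime graph as L. -/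
theorem result {F : Type*} [Field F] [Fintype F] (hF : Fintype.card F = 4) (N : ℕ) :
    ∃ (H : Type) (_ : Group H) (_ : Finite H), N < Nat.card H ∧
      ((∀ p : ℕ, p.Prime → (p ∣ Nat.card ↥(Cfsg.Lie.chevG2.group F) ↔ p ∣ Nat.card H)) ∧
      (∀ p q : ℕ, p.Prime → q.Prime → p ≠ q → ((∃ g : ↥(Cfsg.Lie.chevG2.group F), orderOf g = p * q) ↔ (∃ g : H, orderOf g = p * q)))) := by
  obtain ⟨φ, hφ⟩ := exists_rep F hF
  have := charP_of_card_eq_prime_pow (p := 2) (f := 2) hF
  have hG := Cfsg.Agent.S1059.result hF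
  have : Finite (chevG2.group F) := Nat.finite_of_card_ne_zero (by rw [hG]; norm_num)
  let ψ : chevG2.group F →* MulAut (Multiplicative (Fin N → Fin 6 → F)) := MonoidHom.mk' (fun g => AddEquiv.toMultiplicative
    (DistribMulAction.toAddEquiv _ (Matrix.GeneralLinearGroup.toLin (φ g)))) fun a b => by ext; simp [mul_smul]
  have hc : Nat.card (_ ⋊[ψ] _) = 2 ^ (12 * N) * Nat.card (chevG2.group F) := by
    rw [SemidirectProduct.card, Nat.card_congr Multiplicative.toAdd, pow_mul]; simp [hF]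
  have : Finite (_ ⋊[ψ] _) := Finite.of_equiv _ SemidirectProduct.equivProd.symm
  obtain ⟨H, _, _, ⟨e⟩⟩ := Finite.exists_type_univ_nonempty_mulEquiv.{_, 0} (_ ⋊[ψ] _)
  refine ⟨H, inferInstance, inferInstance, ?_, fun p hp => ?_, fun p q hp hq hpq => ⟨fun ⟨g, hg⟩ => ⟨e (.inr g), ?_⟩, fun ⟨g, hg⟩ => ?_⟩⟩
  · rw [← Nat.card_congr e.toEquiv, hc]
    exact (Nat.lt_two_pow_self.trans_le (Nat.pow_le_pow_right two_pos (by omega))).trans_le (Nat.le_mul_of_pos_right _ Nat.card_pos)
  · rw [← Nat.card_congr e.toEquiv, hc, hp.dvd_mul]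
    refine (or_iff_right_of_imp fun h => (hp.dvd_of_dvd_pow h).trans ?_).symm
    rw [hG]; norm_num
  · rw [e.orderOf_eq, ← hg]; exact orderOf_injective _ SemidirectProduct.inr_injective g
  obtain ⟨g, rfl⟩ := e.surjective g
  rw [e.orderOf_eq] at hg
  obtain ⟨v, hv⟩ : g ^ orderOf g.right ∈ (SemidirectProduct.inl (φ := ψ)).range := by
    rw [SemidirectProduct.range_inl_eq_ker_rightHom, MonoidHom.mem_ker, map_pow]; exact pow_orderOf_eq_one _
  have h1 : p * q ∣ orderOf g.right * 2 := by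
    rw [← hg, orderOf_dvd_iff_pow_eq_one, pow_mul, ← hv, ← map_pow, map_eq_one_iff _ SemidirectProduct.inl_injective]
    ext i j; simp [CharTwo.two_eq_zero]
  have h2 : orderOf g.right ∣ p * q := hg ▸ orderOf_map_dvd SemidirectProduct.rightHom g
  by_cases h3 : orderOf g.right = p * q
  · exact ⟨_, h3⟩
  have h4 : p * q = orderOf g.right * 2 := by
    obtain ⟨k, hk⟩ := h2
    rw [hk] at h1 h3 ⊢
    rcases (Nat.dvd_prime Nat.prime_two).1 (Nat.dvd_of_mul_dvd_mul_left (orderOf_pos _) h1) with rfl | rfl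
    exacts [absurd (mul_one _).symm h3, rfl]
  have h5 : (orderOf g.right).Prime ∧ orderOf g.right ≠ 2 := by
    rcases (Nat.prime_two.dvd_mul).1 (h4 ▸ dvd_mul_left 2 _) with h | h
    · obtain rfl := (Nat.prime_dvd_prime_iff_eq Nat.prime_two hp).1 h
      rw [show orderOf g.right = q by omega]; exact ⟨hq, hpq.symm⟩
    · obtain rfl := (Nat.prime_dvd_prime_iff_eq Nat.prime_two hq).1 h
      rw [show orderOf g.right = p by omega]; exact ⟨hp, hpq⟩
  have h6 : orderOf g.right ∣ 2 ^ 12 * 3 ^ 3 * 5 ^ 2 * 7 * 13 := (orderOf_dvd_natCard _).trans (hG ▸ by norm_num)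
  have h7 := G2.exists_orderOf (K := F) 2 (x := 3) hF
  simp only [h5.1.dvd_mul, h5.1.prime.dvd_pow_iff_dvd (by norm_num : 12 ≠ 0), h5.1.prime.dvd_pow_iff_dvd (by norm_num : 3 ≠ 0), or_self,
    h5.1.prime.dvd_pow_iff_dvd (by norm_num : 2 ≠ 0), Nat.prime_dvd_prime_iff_eq h5.1 (by norm_num : Nat.Prime 2),
    Nat.prime_dvd_prime_iff_eq h5.1 (by norm_num : Nat.Prime 3), Nat.prime_dvd_prime_iff_eq h5.1 (by norm_num : Nat.Prime 5),
    Nat.prime_dvd_prime_iff_eq h5.1 (by norm_num : Nat.Prime 7), Nat.prime_dvd_prime_iff_eq h5.1 (by norm_num : Nat.Prime 13), or_assoc] at h6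
  rcases h6 with h | h | h | h
  exacts [absurd h h5.2, by rw [h4, h]; exact h7 _ (by simp), by rw [h4, h]; exact h7 _ (by simp), by
    have h8 : ψ g.right v = v := by
      have := (Commute.refl g).pow_right (orderOf g.right)
      rw [← hv] at this
      simpa [mul_comm v] using congrArg SemidirectProduct.left this.eq
    have h9 : v = 1 := funext fun i => hφ _ h _ (congrFun h8 i)
    have := orderOf_dvd_of_pow_eq_one (hv.symm.trans (h9 ▸ map_one _))
    rw [hg, h4] at this
    have := Nat.le_of_dvd h5.1.pos this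
    have := h5.1.pos
    omega]

end Cfsg.Agent.S3662
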