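import Cfsg.Statements.S3663
import Cfsg.Agent.Lib.Conj.Aff
import Cfsg.Agent.Lib.U3.Basic

set_option autoImplicit false
open Cfsg

namespace Cfsg.Agent.S3663

open Cfsg.Lib.Conj Cfsg.Lib.Forms Cfsg.Lib.Forms.Form Cfsg.Lib.U3 Module Matrix Finset

/-- A model of the field with sixteen elements. -/
def K : Type := Fin 16

/-- Table lookup. -/
def tb (T i : ℕ) : K := (⟨(T >>> (4 * i)) % 16, Nat.mod_lt _ (by decide)⟩ : Fin 16)

instance : DecidableEq K := inferInstanceAs (DecidableEq (Fin 16))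
instance : Fintype K := inferInstanceAs (Fintype (Fin 16))
instance (P : K → Prop) [h : DecidablePred P] : Decidable (∀ a, P a) := @Nat.decidableForallFin 16 P h
instance (P : K → Prop) [h : DecidablePred P] : Decidable (∃ a, P a) := @Nat.decidableExistsFin 16 P h
instance : Zero K := ⟨tb 0 0⟩
instance : One K := ⟨tb 1 0⟩
instance : Add K := ⟨fun a b => tb (a.1 ^^^ b.1) 0⟩
instance : Neg K := ⟨id⟩
instance : Inv K := ⟨fun a => tb 0x834a5c2f67bde910 a.1⟩
instance : Mul K := ⟨fun a b => tb 0xa5783ce1b4692df05ba48679c23d1fe07ae36bf258c149d0843fd16a2e957bc0386d92c74f1ae5b0c6b1285f394ed7a0e7f6c5d4a3b28190192a7f4cd5e6b380bc5243ad618f9e70428ef93517dbac6063c914be8d27fa509d15ae26fb73c8402147ed8b9afc5630df9b5713eca86420fedcba98765432100000000000000000 (16 * a.1 + b.1)⟩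

instance : Field K := Field.ofMinimalAxioms K (by decide +kernel) (by decide +kernel)
  (by decide +kernel) (by decide +kernel) (by decide +kernel) (by decide +kernel) (by decide +kernel)
  (by decide +kernel) (by decide +kernel) ⟨0, 1, by decide⟩

/-- The involution of the field. -/
def σ : K →+* K where
  toFun a := tb 0x89badcef76452310 a.1
  map_one' := by decide
  map_zero' := by decide
  map_mul' := by decide +kernel
  map_add' := by decide +kernel

theorem hσ : Lib.Forms.IsConj σ 4 := ⟨inferInstance, Nat.card_fin 16, by decide +kernel⟩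

attribute [-instance] AddSubgroupClass.instZModModule

instance : Fact (Nat.Prime 5) := ⟨by decide⟩

/-- The discrete logarithm modulo five. -/
def lg (a : K) : ZMod 5 := (tb 0x2131244300324100 a.1).1

/-- The form. -/
def B (x y : Fin 3 → K) : K := σ (x 0) * y 2 + σ (x 1) * y 1 + σ (x 2) * y 0

/-- An invariant cocycle. -/
def c (x y z : Fin 3 → K) : ZMod 5 := lg (B x y * B y z * B z x)

/-- Representatives of the isotropic points. -/
def P (a j : ℕ) (i : Fin 3) : K := tb 0x1133755d33b667331882aa5ff8dd177fcc4aa3113cc8bbdaaaee533366f88cee3bb666aff7331112aa5669bbc33abbf339ee6ffbcc0eef88c660112ddb44366fff2cc9665aa288166d557bb2110100112cc988aee5117ddebbb119998ff5aa21100 (39 * a + 3 * j + i)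

/-- A matrix of order thirteen. -/
def S : Matrix (Fin 3) (Fin 3) K := !![0, 0, 1; 0, 1, tb 2 0; 1, tb 3 0, tb 10 0]

theorem S_P : ∀ a < 5, ∀ j < 13, S *ᵥ P a j = P a ((j + 1) % 13) := by decide +kernel

theorem cover : ∀ a b : K, B ![1, a, b] ![1, a, b] = 0 → ∃ k < 5, ∃ j < 13,
    P k j 0 ≠ 0 ∧ P k j 1 = P k j 0 * a ∧ P k j 2 = P k j 0 * b := by decide +kernel

theorem key : ∀ a < 5, ∀ b < 5, ∀ k < 5, ∀ l < 13, ∑ j ∈ range 13, c (P a j) (P b 0) (P k l) =
    ∑ j ∈ range 13, c (P 0 j) (P b 0) (P k l) := by decide +kernel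

theorem S_pow : S ^ 13 = 1 := by decide +kernel

theorem lg_norm : ∀ a b : K, a ≠ 0 → lg (σ a * a * b) = lg b := by decide +kernel

theorem S_B : (S.map σ)ᵀ * !![0, 0, 1; 0, 1, 0; 1, 0, 0] * S = !![0, 0, 1; 0, 1, 0; 1, 0, 0] ∧
    S.det = 1 ∧ S ≠ 1 := by
  rw [det_fin_three]; decide +kernel

/-- An element of order thirteen. -/
noncomputable def s : SU3 hσ := ofMat hσ S (fun x y => by
  have h := fun i j => congrFun (congrFun S_B.1 i) j
  simp only [Matrix.mul_apply, Fin.sum_univ_three, transpose_apply, map_apply] at h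
  simp only [aH_B, mulVec, dotProduct, Fin.sum_univ_three, map_add, map_mul]
  linear_combination (norm := (simp; ring)) σ (x 0) * (h 0 0 * y 0 + h 0 1 * y 1 + h 0 2 * y 2) +
    σ (x 1) * (h 1 0 * y 0 + h 1 1 * y 1 + h 1 2 * y 2) +
    σ (x 2) * (h 2 0 * y 0 + h 2 1 * y 1 + h 2 2 * y 2)) S_B.2.1

theorem s_pow (i : ℕ) (x : Fin 3 → K) : (s ^ i).1.1 x = S ^ i *ᵥ x := by
  induction i with
  | zero => rw [pow_zero, pow_zero, one_mulVec]; rfl
  | succ i ih => rw [pow_succ', su_mul_apply, ih, pow_succ', ← mulVec_mulVec]; rfl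

theorem orderOf_s : orderOf s = 13 :=
  haveI := Fact.mk (by decide : Nat.Prime 13)
  orderOf_eq_prime (su_ext fun x => by rw [s_pow, S_pow, one_mulVec]; rfl) fun h =>
    S_B.2.2 (ext_of_mulVec_single fun i => (congrArg (·.1.1 (Pi.single i 1)) h).trans (one_mulVec _).symm)

theorem B_act (g : SU3 hσ) (x y : Fin 3 → K) : B (g.1.1 x) (g.1.1 y) = B x y := g.1.2.1 x y

theorem c_act (g : SU3 hσ) (x y z : Fin 3 → K) : c (g.1.1 x) (g.1.1 y) (g.1.1 z) = c x y z := by
  simp only [c, B_act]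

theorem c_smul {a b d : K} (ha : a ≠ 0) (hb : b ≠ 0) (hd : d ≠ 0) (x y z : Fin 3 → K) :
    c (a • x) (b • y) (d • z) = c x y z := by
  rw [c, c, ← lg_norm _ (B x y * _ * _) (mul_ne_zero (mul_ne_zero ha hb) hd)]
  simp only [B, Pi.smul_apply, smul_eq_mul, map_mul]
  congr 1; ring

/-- Isotropic vectors. -/
def Iso (x : Fin 3 → K) : Prop := x ≠ 0 ∧ B x x = 0

theorem Iso.act {x : Fin 3 → K} (h : Iso x) (g : SU3 hσ) : Iso (g.1.1 x) :=
  ⟨fun h1 => h.1 ((map_eq_zero_iff _ g.1.1.injective).1 h1), (B_act ..).trans h.2⟩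

theorem pow_P {k j : ℕ} (hk : k < 5) (hj : j < 13) : (s ^ j).1.1 (P k 0) = P k j := by
  induction j with
  | zero => rfl
  | succ j ih =>
    rw [pow_succ', su_mul_apply, ih (by omega), ← Nat.mod_eq_of_lt hj]
    exact S_P k hk j (by omega)

theorem Iso.exists_P {x : Fin 3 → K} (h : Iso x) : ∃ a ≠ (0 : K), ∃ k < 5, ∃ j < 13, x = a • P k j := by
  obtain ⟨ω, a, rfl⟩ := exists_vec (h := hσ) h.2
  have ha : a ≠ 0 := by rintro rfl; exact h.1 (zero_smul ..)
  cases ω with
  | none => exact ⟨a, ha, 0, by decide, 0, by decide, congrArg _ (by decide +kernel)⟩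
  | some y =>
    obtain ⟨k, hk, j, hj, h1, h2, h3⟩ := cover _ _ (Q_vec (some y))
    refine ⟨a / P k j 0, div_ne_zero ha h1, k, hk, j, hj, funext fun i => ?_⟩
    fin_cases i <;> simp [Lib.U3.vec, h1, h2, h3] <;> field_simp

/-- The norm of `s` on the cocycle. -/
noncomputable def T (x z w : Fin 3 → K) : ZMod 5 := ∑ i ∈ range 13, c ((s ^ i).1.1 x) z w

theorem T_pow (j : ℕ) (x z w : Fin 3 → K) : T ((s ^ j).1.1 x) z w = T x z w := by
  induction j with
  | zero => rfl
  | succ j ih =>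
    have := (sum_range_succ (fun i => c ((s ^ i).1.1 ((s ^ j).1.1 x)) z w) 13).symm.trans
      (sum_range_succ' _ 13)
    rw [show s ^ 13 = s ^ 0 by rw [← orderOf_s, pow_orderOf_eq_one, pow_zero], add_left_inj] at this
    rw [← ih, T, T, this]
    simp only [← su_mul_apply, pow_succ' s j, pow_succ s, mul_assoc]

theorem T_all (j : ℕ) (x z w : Fin 3 → K) : T x ((s ^ j).1.1 z) ((s ^ j).1.1 w) = T x z w := by
  rw [← T_pow j x, T, T]
  refine sum_congr rfl fun i _ => ?_
  rw [← su_mul_apply, ← pow_add, add_comm, pow_add, su_mul_apply, c_act]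

theorem T_eq {x z w : Fin 3 → K} (hx : Iso x) (hz : Iso z) (hw : Iso w) : T x z w = T (P 0 0) z w := by
  obtain ⟨a, ha, k, hk, j, hj, rfl⟩ := hx.exists_P
  obtain ⟨b, hb, l, hl, i, hi, rfl⟩ := hz.exists_P
  obtain ⟨d, hd, m, hm, n, hn, h⟩ := (hw.act (s ^ i)⁻¹).exists_P
  obtain rfl : w = d • (s ^ i).1.1 (P m n) := by
    rw [← map_smul, ← h, ← su_mul_apply, mul_inv_cancel]; rfl
  have h1 : ∀ {a : K}, a ≠ 0 → ∀ x z w, T (a • x) (b • z) (d • w) = T x z w := fun ha x z w =>
    sum_congr rfl fun i _ => by rw [map_smul, c_smul ha hb hd]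
  have h2 : ∀ k < 5, ∀ z w, T (P k 0) z w = ∑ j ∈ range 13, c (P k j) z w := fun k hk z w =>
    sum_congr rfl fun i hi => by rw [pow_P hk (mem_range.1 hi)]
  rw [← one_smul K (P 0 0), h1 ha, h1 one_ne_zero, ← pow_P hk hj, ← pow_P hl hi, T_pow, T_all, T_all,
    h2 k hk, h2 0 (by decide), key k hk l hl m hm n hn]

/-- The action on functions of pairs of vectors. -/
noncomputable def ρ₀ : Representation (ZMod 5) (SU3 hσ) ((Fin 3 → K) × (Fin 3 → K) → ZMod 5) where
  toFun g := LinearMap.funLeft _ _ fun p => (g⁻¹.1.1 p.1, g⁻¹.1.1 p.2)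
  map_one' := by rw [inv_one]; rfl
  map_mul' g k := by rw [_root_.mul_inv_rev]; rfl

/-- The cocycle as a function of two variables. -/
def φ (x : Fin 3 → K) (p : (Fin 3 → K) × (Fin 3 → K)) : ZMod 5 :=
  if B p.1 p.1 = 0 ∧ B p.2 p.2 = 0 then c x p.1 p.2 else 0

theorem ρ₀_φ (g : SU3 hσ) (x : Fin 3 → K) : ρ₀ g (φ x) = φ (g.1.1 x) := funext fun p => by
  change φ x (g⁻¹.1.1 p.1, g⁻¹.1.1 p.2) = _
  simp only [φ, B_act, ← c_act g⁻¹ (g.1.1 x), ← su_mul_apply, inv_mul_cancel]
  rfl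

/-- The module of dimension twelve. -/
def M : Submodule (ZMod 5) ((Fin 3 → K) × (Fin 3 → K) → ZMod 5) :=
  .span _ {f | ∃ x y, Iso x ∧ Iso y ∧ f = φ x - φ y}

/-- The representation of dimension twelve. -/
noncomputable def ρ : SU3 hσ →* End (ZMod 5) M := ρ₀.subrepresentation M fun g =>
  Submodule.span_le.2 fun _ ⟨x, y, hx, hy, h⟩ => Submodule.subset_span
    ⟨_, _, hx.act g, hy.act g, by rw [h, map_sub, ρ₀_φ, ρ₀_φ]⟩

instance : Nontrivial M := Submodule.nontrivial_iff_ne_bot.2 fun h => by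
  have : φ (P 0 0) - φ (P 0 1) ∈ M := Submodule.subset_span
    ⟨_, _, by unfold Iso; decide +kernel, by unfold Iso; decide +kernel, rfl⟩
  rw [h] at this
  exact absurd (congrFun this (P 0 1, P 0 2)) (by decide +kernel)

theorem card_G : Nat.card (SU3 hσ) = 62400 := card_SU3 hσ

theorem fpf : Fpf ρ 13 := by
  haveI := Fact.mk (by decide : Nat.Prime 13)
  refine fpf_of_sylow (by rw [card_G]; decide) orderOf_s (LinearMap.ext fun v => Subtype.ext ?_)
  have h1 : M ≤ LinearMap.ker (∑ i ∈ range 13, ρ₀ (s ^ i)) := by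
    refine Submodule.span_le.2 fun _ ⟨x, y, hx, hy, h⟩ => funext fun p => ?_
    simp only [h, LinearMap.sum_apply, map_sub, ρ₀_φ, sum_sub_distrib, Pi.sub_apply,
      Finset.sum_apply, φ]
    split_ifs with h2
    · by_cases h3 : p.1 = 0 ∨ p.2 = 0
      · rcases h3 with h3 | h3 <;> simp [h3, c, B]
      · rw [not_or] at h3
        exact sub_eq_zero.2 ((T_eq hx ⟨h3.1, h2.1⟩ ⟨h3.2, h2.2⟩).trans
          (T_eq hy ⟨h3.1, h2.1⟩ ⟨h3.2, h2.2⟩).symm)
    · simp
  simp only [← map_pow, LinearMap.sum_apply, Submodule.coe_sum]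
  exact (LinearMap.sum_apply ..).symm.trans (h1 v.2)

theorem map_mem_su {F K : Type*} [Field F] [Field K] {n q : ℕ} (f : F ≃+* K)
    {g : SpecialLinearGroup (Fin n) F} (hg : g ∈ SU n F q) : Lib.Linear.slMapEquiv (Fin n) f g ∈ SU n K q :=
  fun u v => by
    have := congrArg f (hg (f.symm ∘ u) (f.symm ∘ v))
    simpa [hermForm, mulVec, dotProduct, slToMat] using this

/-- Unitary groups over isomorphic fields. -/
def psuMap {F K : Type*} [Field F] [Field K] (n q : ℕ) (f : F ≃+* K) : PSU n F q ≃* PSU n K q :=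
  Lib.Linear.quotientCenterCongr (subgroupEquivOfIff (Lib.Linear.slMapEquiv (Fin n) f) _ _ fun g =>
    ⟨map_mem_su f, fun h => (Lib.Linear.slMapEquiv (Fin n) f).symm_apply_apply g ▸ map_mem_su f.symm h⟩)

theorem prime_cases {p : ℕ} (hp : p.Prime) (h : p ∣ 62400) : p = 2 ∨ p = 3 ∨ p = 5 ∨ p = 13 := by
  rw [show 62400 = 2 ^ 6 * (3 * (5 ^ 2 * 13)) from rfl] at h
  simpa only [hp.dvd_mul, hp.prime.dvd_pow_iff_dvd, Nat.prime_dvd_prime_iff_eq hp, ne_eq,
    OfNat.ofNat_ne_zero, not_false_eq_true, Nat.prime_two, Nat.prime_three, Nat.prime_five,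
    (by decide : Nat.Prime 13)] using h

theorem orderOf_dd (c : Kˣ) : orderOf (dd hσ c) = orderOf c :=
  orderOf_injective _ ((injective_iff_map_eq_one _).2 fun c h => Units.ext (by
    simpa [dd_apply] using congrArg (·.1.1 1 2) h)) c

theorem exists_fifteen : ∃ g : SU3 hσ, orderOf g = 3 * 5 := by
  obtain ⟨c, hc⟩ := IsCyclic.exists_ofOrder_eq_natCard (α := Kˣ)
  exact ⟨_, (orderOf_dd c).trans (hc.trans (by rw [Nat.card_units, hσ.card]; rfl))⟩

theorem exists_ten : ∃ g : SU3 hσ, orderOf g = 2 * 5 := by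
  let x : Heis hσ := ⟨0, 1, by decide +kernel⟩
  let c : Kˣ := ⟨tb 8 0, tb 15 0, by decide +kernel, by decide +kernel⟩
  have h1 : orderOf (nn hσ x) = 2 := (orderOf_injective _ (nn_injective hσ) x).trans
    (orderOf_eq_prime (Heis.ext (by decide +kernel) (by decide +kernel)) fun h =>
      absurd (congrArg Heis.b h) (by decide +kernel))
  have h2 : orderOf (dd hσ c) = 5 := (orderOf_dd c).trans
    (orderOf_eq_prime (Units.ext (by decide +kernel)) (by decide +kernel))
  refine ⟨nn hσ x * dd hσ c, (Commute.orderOf_mul_eq_mul_orderOf_of_coprime (su_ext fun u => ?_) (by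
    rw [h1, h2]; decide)).trans (by rw [h1, h2])⟩
  have h3 : (σ c)⁻¹ = c := by decide +kernel
  simp [su_mul_apply, nn_apply, dd_apply, x, h3, mul_add]

/-- The prime graph of a finite group has the prime divisors of its order as vertices, two distinct primes p, q being joined when the group has an element of order pq; two groups have the same prime graph when they have the same prime divisors and the same joined pairs. Let F be the field with 16 elements and L = PSU(3,4) realised over F. There are finite groups of arbitrarily large order with the same prime graph as L. -/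
theorem result {F : Type*} [Field F] [Fintype F] (hF : Fintype.card F = 16) (N : ℕ) :
    ∃ (H : Type) (_ : Group H) (_ : Finite H), N < Nat.card H ∧
      ((∀ p : ℕ, p.Prime → (p ∣ Nat.card (Cfsg.PSU 3 F 4) ↔ p ∣ Nat.card H)) ∧
      (∀ p q : ℕ, p.Prime → q.Prime → p ≠ q → ((∃ g : (Cfsg.PSU 3 F 4), orderOf g = p * q) ↔ (∃ g : H, orderOf g = p * q)))) := by
  obtain ⟨f⟩ := FiniteField.ringEquivOfCardEq (K := F) (K' := K) (hF.trans (Fintype.card_fin 16).symm) |> Nonempty.intro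
  obtain ⟨e₂⟩ := nonempty_psu hσ
  have hz : Subgroup.center (SU3 hσ) = ⊥ := Subgroup.eq_bot_of_card_eq _ (card_center_SU3 hσ)
  let e : PSU 3 F 4 ≃* SU3 hσ := ((psuMap 3 4 f).trans e₂).trans
    ((QuotientGroup.quotientMulEquivOfEq hz).trans QuotientGroup.quotientBot)
  have h1 : ∀ m, (∃ g : PSU 3 F 4, orderOf g = m) ↔ ∃ g : SU3 hσ, orderOf g = m := fun m =>
    e.surjective.exists.trans (exists_congr fun g => by rw [e.orderOf_eq]) |>.symm
  haveI : Finite (PSU 3 F 4) := .of_equiv _ e.toEquiv.symm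
  have h2 : ∀ {p}, p.Prime → AffS ρ p → p ∣ 62400 := fun hp h => by
    obtain ⟨g, h, -⟩ := h.exists_dvd 5
    exact ((Nat.Prime.dvd_mul hp).1 h).elim (·.trans (card_G ▸ orderOf_dvd_natCard g)) (·.trans (by decide))
  refine exists_graph (ρ := ρ) (fun p hp => ?_) (fun p q hp hq hpq => ?_) N
  · rw [Nat.card_congr e.toEquiv]
    haveI := Fact.mk hp
    exact ⟨fun h => let ⟨g, h⟩ := exists_prime_orderOf_dvd_card' p h; affS_of_dvd_orderOf h.symm.dvd,
      fun h => card_G ▸ h2 hp h⟩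
  rw [h1]
  refine ⟨fun ⟨g, h⟩ => affS_of_dvd_orderOf h.symm.dvd, fun h => ?_⟩
  have h3 := prime_cases hp (h2 hp (h.of_dvd (dvd_mul_right ..)))
  have h4 := prime_cases hq (h2 hq (h.of_dvd (dvd_mul_left ..)))
  obtain ⟨g, h5, h6⟩ := h.exists_dvd 5
  have h7 : (p * q).Coprime 5 → ∃ g : SU3 hσ, orderOf g = p * q := fun h =>
    Lib.Linear.exists_orderOf_of_dvd (h.dvd_of_dvd_mul_right h5)
  rcases h3 with rfl | rfl | rfl | rfl <;> rcases h4 with rfl | rfl | rfl | rfl <;>
    first | omega | exact h7 (by decide) | skip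
  · exact exists_ten
  · exact exists_fifteen
  · exact Lib.Linear.exists_orderOf_of_dvd (h6 13 ((by decide : Nat.Coprime 13 5).dvd_of_dvd_mul_right
      ((dvd_mul_left ..).trans h5)) fpf)

end Cfsg.Agent.S3663
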