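import Cfsg.Statements.S3664
import Cfsg.Agent.Lib.Conj.Aff
import Cfsg.Agent.Lib.BN.SzAut

set_option autoImplicit false
open Cfsg

namespace Cfsg.Agent.S3664

open Cfsg.Lib.Conj Cfsg.Lib.BN.Sz Module Matrix Polynomial

/-- The field with eight elements. -/
abbrev E : Type := GaloisField 2 3

instance : SzField E 1 := ⟨inferInstance, GaloisField.card 2 3 (by decide), le_rfl⟩

/-- The squaring map. -/
noncomputable abbrev φ : E →+* E := frobenius E 2

theorem root_sq (f : E[X]) (z : Kb E) : aeval (z ^ 2) (f.map φ) = aeval z f ^ 2 :=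
  (map_aeval_eq_aeval_map (ψ := frobenius (Kb E) 2) (RingHom.ext fun a => map_pow (algebraMap E (Kb E)) a 2) f z).symm

theorem root_eight {f : E[X]} {z : Kb E} (h : aeval z f = 0) : aeval (z ^ 8) f = 0 := by
  have h1 : ((f.map φ).map φ).map φ = f := by
    ext i; simp only [coeff_map, frobenius_def, ← pow_mul]; exact pow_card 1 _
  rw [← h1, show z ^ 8 = ((z ^ 2) ^ 2) ^ 2 by ring, root_sq, root_sq, root_sq, h]; simp

variable {A : Matrix (Fin 4) (Fin 4) E}

theorem five {z : Kb E} (hz : orderOf z = 13) (h : aeval z (minpoly E A) = 0) {j : ℕ}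
    (hj : j = 0 ∨ j = 2 ∨ j = 7) (h' : aeval (z ^ j) (minpoly E A) = 0) : False := by
  classical
  have h0 := minpoly.ne_zero (Algebra.IsIntegral.isIntegral (R := E) A)
  have h1 := card_le_degree_of_subset_roots (p := (minpoly E A).map (algebraMap E (Kb E)))
    (Z := ({1, 8, 8 * 8, 8 * 8 * 8, j} : Finset ℕ).image (z ^ ·)) fun x hx => by
      rw [mem_roots_map h0, ← aeval_def]
      simp only [Finset.mem_val, Finset.mem_image, Finset.mem_insert, Finset.mem_singleton] at hx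
      obtain ⟨i, rfl | rfl | rfl | rfl | rfl, rfl⟩ := hx <;>
        simp only [pow_mul, pow_one, root_eight h, root_eight (root_eight h),
          root_eight (root_eight (root_eight h)), h, h']
  have h2 := natDegree_le_of_dvd (minpoly_dvd_charpoly A) (charpoly_monic A).ne_zero
  rw [Finset.card_image_of_injOn, natDegree_map] at h1
  · rw [charpoly_natDegree_eq_dim, Fintype.card_fin] at h2
    rcases hj with rfl | rfl | rfl <;> exact absurd (h1.trans h2) (by decide)
  · intro a ha b hb h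
    rw [(isOfFinOrder_iff_pow_eq_one.2 ⟨13, by decide, hz ▸ pow_orderOf_eq_one z⟩).pow_eq_pow_iff_modEq,
      hz] at h
    revert a b
    rcases hj with rfl | rfl | rfl <;> decide

instance : Fact (Nat.Prime 13) := ⟨by decide⟩

theorem root_pow (h : A ^ 13 = 1) {z : Kb E} (hz : aeval z (minpoly E A) = 0) : z ^ 13 = 1 := by
  have := aeval_eq_zero_of_dvd_aeval_eq_zero (minpoly.dvd E A (p := X ^ 13 - 1) (by simp [h])) hz
  rwa [map_sub, map_pow, aeval_X, map_one, sub_eq_zero] at this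

theorem exists_root' (h : A ^ 13 = 1) (h1 : A ≠ 1) :
    ∃ z : Kb E, orderOf z = 13 ∧ aeval z (minpoly E A) = 0 := by
  have h2 : ¬ IsCoprime (minpoly E A) (∑ i ∈ Finset.range 13, X ^ i) := fun h2 => h1 (by
    have := minpoly.dvd_iff.1 (h2.dvd_of_dvd_mul_left (z := X - 1)
      (minpoly.dvd E A (by rw [geom_sum_mul]; simp [h])))
    rwa [map_sub, aeval_X, map_one, sub_eq_zero] at this)
  rw [isCoprime_iff_aeval_ne_zero_of_isAlgClosed E (Kb E)] at h2
  push Not at h2
  obtain ⟨z, h3, h4⟩ := h2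
  refine ⟨z, orderOf_eq_prime (root_pow h h3) ?_, h3⟩
  rintro rfl
  simp only [map_sum, map_pow, aeval_X, one_pow, Finset.sum_const, Finset.card_range, nsmul_eq_mul,
    mul_one, CharP.cast_eq_zero_iff (Kb E) 2] at h4
  omega

theorem eq_zero_of_comm (h : A ^ 13 = 1) (h1 : A ≠ 1) {Y : Matrix (Fin 4) (Fin 4) E}
    (hY : A * Y = Y * A.map φ) : Y = 0 := by
  have h2 : ∀ g : E[X], aeval A g * Y = Y * aeval (A.map φ) g := fun g => by
    simp only [aeval_eq_sum_range, Finset.mul_sum, Finset.sum_mul, mul_smul_comm, smul_mul_assoc,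
      (SemiconjBy.pow_right (a := Y) hY.symm _).eq]
  have h3 : aeval (A.map φ) ((minpoly E A).map φ) = 0 :=
    (map_aeval_eq_aeval_map (ψ := φ.mapMatrix) (RingHom.ext fun a => by
      ext i j; simp [algebraMap_matrix_apply, apply_ite φ]) _ A).symm.trans (by simp)
  have h4 : IsCoprime (minpoly E A) ((minpoly E A).map φ) := by
    rw [isCoprime_iff_aeval_ne_zero_of_isAlgClosed E (Kb E)]
    refine fun z => or_iff_not_imp_left.2 fun h4 h5 => ?_
    have h6 := root_pow h (not_not.1 h4)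
    by_cases h7 : z = 1
    · obtain ⟨w, h8, h9⟩ := exists_root' h h1
      exact five h8 h9 (.inl rfl) (by rw [pow_zero, ← h7]; exact not_not.1 h4)
    · rw [show z = (z ^ 7) ^ 2 by rw [← pow_mul, pow_succ, h6, one_mul], root_sq] at h5
      exact five (orderOf_eq_prime h6 h7) (not_not.1 h4) (.inr (.inr rfl)) (pow_eq_zero_iff two_ne_zero |>.1 h5)
  obtain ⟨a, b, h5⟩ := h4
  have := congrArg (aeval A · * Y) h5
  simpa [add_mul, mul_assoc, h2 ((minpoly E A).map φ), h3] using this.symm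

/-- The automorphism group of the smallest Suzuki group. -/
abbrev Γ : Type := Sz E 1 ⋊[fieldAut E 1] (E ≃+* E)

/-- A module of dimension `48` over the field with two elements. -/
noncomputable def ρ : Γ →* End (ZMod 2) (Matrix (Fin 4) (Fin 4) E) where
  toFun γ := AddMonoidHom.toZModLinearMap 2 <| .mk'
    (fun Y => γ.left.1.1 * Y.map γ.right * γ.left⁻¹.1.1.map φ) fun Y Z => by
      rw [Matrix.map_add _ (map_add _), mul_add, add_mul]
  map_one' := LinearMap.ext fun Y => by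
    change (1 : Matrix _ _ _) * Y * Matrix.map (1 : Sz E 1)⁻¹.1.1 φ = Y
    rw [inv_one, one_mul]
    exact (congrArg _ (Matrix.map_one _ (map_zero φ) (map_one φ))).trans (mul_one Y)
  map_mul' g k := LinearMap.ext fun Y => by
    change g.left.1.1 * k.left.1.1.map g.right * (Y.map k.right).map g.right *
      Matrix.map (g.left * fieldAut E 1 g.right k.left)⁻¹.1.1 φ =
      g.left.1.1 * (k.left.1.1 * Y.map k.right * k.left⁻¹.1.1.map φ).map g.right * g.left⁻¹.1.1.map φ
    rw [_root_.mul_inv_rev, ← map_inv, Matrix.map_mul, Matrix.map_mul]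
    change _ * Matrix.map (k.left⁻¹.1.1.map g.right * g.left⁻¹.1.1) φ = _
    have : (k.left⁻¹.1.1.map g.right).map φ = (k.left⁻¹.1.1.map φ).map g.right := by
      ext; simp [frobenius_def]
    simp only [Matrix.map_mul, this, mul_assoc]

theorem ρ_apply (γ : Γ) (Y : Matrix (Fin 4) (Fin 4) E) :
    ρ γ Y = γ.left.1.1 * Y.map γ.right * γ.left⁻¹.1.1.map φ := rfl

theorem ρ_inl_eq {g : Sz E 1} {Y : Matrix (Fin 4) (Fin 4) E} :
    ρ (.inl g) Y = Y ↔ g.1.1 * Y = Y * g.1.1.map φ := by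
  have h : ∀ g : Sz E 1, g⁻¹.1.1.map φ * g.1.1.map φ = 1 := fun g => by
    rw [← Matrix.map_mul, ← Matrix.map_one _ (map_zero φ) (map_one φ)]
    exact congrArg (·.1.1.map φ) (inv_mul_cancel g)
  change g.1.1 * Y * g⁻¹.1.1.map φ = Y ↔ _
  refine ⟨fun h1 => ?_, fun h1 => ?_⟩
  · have := congrArg (· * g.1.1.map φ) h1
    simpa only [mul_assoc, h, mul_one] using this
  · have := h g⁻¹
    rw [inv_inv] at this
    rw [h1, mul_assoc, this, mul_one]

theorem card_Γ : Nat.card Γ = 87360 := by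
  rw [SemidirectProduct.card, card_Sz, card_ringAut E 1]; rfl

instance : Finite Γ := Nat.finite_of_card_ne_zero (by rw [card_Γ]; decide)

theorem eq_inl {γ : Γ} (h : (orderOf γ).Coprime 3) : γ = .inl γ.left := by
  refine SemidirectProduct.ext rfl (orderOf_eq_one_iff.1 ((Nat.coprime_self _).1 ?_))
  exact (h.coprime_dvd_left (orderOf_map_dvd SemidirectProduct.rightHom γ)).coprime_dvd_right
    ((orderOf_dvd_natCard γ.right).trans (card_ringAut E 1).dvd)

theorem orderOf_inl (g : Sz E 1) : orderOf (.inl g : Γ) = orderOf g :=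
  orderOf_injective _ SemidirectProduct.inl_injective g

theorem orderOf_Sz (g : Sz E 1) : orderOf g ∣ 4 ∨ orderOf g ∣ 7 ∨ orderOf g ∣ 13 ∨ orderOf g ∣ 5 := by
  refine or_iff_not_imp_left.2 fun h => ?_
  have h1 := (Subgroup.centralizer {g}).orderOf_dvd_natCard (Subgroup.mem_centralizer_singleton_iff.2 rfl)
  rcases card_centralizer (mt orderOf_dvd_of_pow_eq_one h) with h | h | h <;> rw [h] at h1
  exacts [.inl h1, .inr (.inl h1), .inr (.inr h1)]

theorem exists_inl {γ : Γ} {r : ℕ} (h : orderOf γ = r) (h3 : r.Coprime 3) :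
    ∃ g, γ = .inl g ∧ orderOf g = r :=
  have h1 := eq_inl (h ▸ h3)
  ⟨_, h1, by rw [← orderOf_inl, ← h1, h]⟩

theorem coe_pow {g : Sz E 1} (h : orderOf g = 13) : g.1.1 ^ 13 = 1 ∧ g.1.1 ≠ 1 :=
  ⟨congrArg (·.1.1) (h ▸ pow_orderOf_eq_one g), fun h2 => by simp [ext_mat 1 (g := g) (h := 1) h2] at h⟩

theorem fpf : Lib.Conj.Fpf ρ 13 := fun γ h => LinearMap.ext fun Y => by
  have := LinearMap.congr_fun (mul_geom_sum (ρ γ) 13) Y
  rw [← map_pow, show γ ^ 13 = 1 from h ▸ pow_orderOf_eq_one γ, map_one, sub_self] at this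
  obtain ⟨g, rfl, h1⟩ := exists_inl h (by decide)
  exact eq_zero_of_comm (coe_pow h1).1 (coe_pow h1).2 (ρ_inl_eq.1 (sub_eq_zero.1 this))

/-- The field automorphism of order three. -/
noncomputable abbrev fr : E ≃+* E := frobeniusEquiv E 2

theorem isConj_map {γ : Γ} {r : ℕ} (h : orderOf γ = 3 * r) (hr : r = 7 ∨ r = 13) :
    ∃ (y c : Sz E 1) (ψ : E ≃+* E), orderOf y = r ∧ c * fieldAut E 1 ψ y * c⁻¹ = y ∧
      ∀ a, ψ a = a → φ a = a := by
  haveI : Fact (Nat.card (E ≃+* E)).Prime := ⟨(card_ringAut E 1).symm ▸ Nat.prime_three⟩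
  obtain ⟨y, h1, h2⟩ := exists_inl (γ := γ ^ 3) (r := r)
    (by rw [orderOf_pow_of_dvd (by decide) (h ▸ dvd_mul_right ..), h, Nat.mul_div_cancel_left _ (by decide)])
    (by rcases hr with rfl | rfl <;> decide)
  refine ⟨y, γ.left, γ.right, h2, mul_inv_eq_iff_eq_mul.2 ?_, fun a ha => ?_⟩
  · simpa using congrArg (·.left) (h1 ▸ (Commute.self_pow γ 3).eq : γ * .inl y = .inl y * γ)
  · have h3 : γ.right ≠ 1 := fun h3 => by
      have := orderOf_Sz γ.left
      rw [← orderOf_inl, ← show γ = .inl γ.left from SemidirectProduct.ext rfl h3, h] at this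
      rcases hr with rfl | rfl <;> exact absurd this (by decide)
    exact (Subgroup.zpowers_le.2 (show γ.right ∈ MulAction.stabilizer _ a from ha)
      ((zpowers_eq_top_of_prime_card rfl h3).ge (Subgroup.mem_top fr)) :)

theorem not_39 (γ : Γ) : orderOf γ ≠ 3 * 13 := fun h => by
  obtain ⟨y, c, ψ, h1, h2, h3⟩ := isConj_map h (.inr rfl)
  obtain ⟨z, h4, h5⟩ := exists_root' (coe_pow h1).1 (coe_pow h1).2
  have h6 : (minpoly E y.1.1).map (ψ : E →+* E) = minpoly E y.1.1 := by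
    refine (eq_of_monic_of_dvd_of_natDegree_le ((minpoly.monic (Algebra.IsIntegral.isIntegral _)))
      ((minpoly.monic (Algebra.IsIntegral.isIntegral _)).map _) (minpoly.dvd _ _ ?_)
      (natDegree_map _).le)
    have h7 : aeval (fieldAut E 1 ψ y).1.1 ((minpoly E y.1.1).map (ψ : E →+* E)) = 0 :=
      (map_aeval_eq_aeval_map (ψ := (ψ : E →+* E).mapMatrix) (RingHom.ext fun a => by
        ext i j; simp [algebraMap_matrix_apply, apply_ite ψ]) _ y.1.1).symm.trans (by simp)
    have h8 : ∀ i, y.1.1 ^ i = c.1.1 * (fieldAut E 1 ψ y).1.1 ^ i * c⁻¹.1.1 := fun i =>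
      congrArg (·.1.1) (show y ^ i = c * fieldAut E 1 ψ y ^ i * c⁻¹ by rw [← conj_pow, h2])
    rw [aeval_eq_sum_range] at h7 ⊢
    simpa only [h8, smul_mul_assoc, mul_smul_comm, Finset.sum_mul, Finset.mul_sum,
      mul_zero, zero_mul] using congrArg (c.1.1 * · * c⁻¹.1.1) h7
  refine five h4 h5 (.inr (.inl rfl)) ?_
  rw [← show (minpoly E y.1.1).map φ = _ from Polynomial.ext fun i => (coeff_map ..).trans
    (h3 _ ((coeff_map (ψ : E →+* E) i).symm.trans (by rw [h6]))), root_sq, h5]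
  simp

theorem trace_conj' (c y : Sz E 1) : (c * y * c⁻¹).1.1.trace = y.1.1.trace := by
  change (c.1.1 * y.1.1 * c⁻¹.1.1).trace = _
  rw [trace_mul_cycle, show c⁻¹.1.1 * c.1.1 = 1 from congrArg (·.1.1) (inv_mul_cancel c), one_mul]

theorem not_21 (γ : Γ) : orderOf γ ≠ 3 * 7 := fun h => by
  obtain ⟨y, c, ψ, h1, h2, h3⟩ := isConj_map h (.inl rfl)
  have h4 : y ≠ 1 := by rintro rfl; simp at h1
  have h5 := h3 y.1.1.trace ((AddMonoidHom.map_trace ψ.toAddMonoidHom _).trans
    ((trace_conj' c (fieldAut E 1 ψ y)).symm.trans (by rw [h2])))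
  rcases mem_cover_or 1 h4 with ⟨-, x, -, h6⟩ | ⟨-, x, -, h6⟩ | h6
  · exact absurd (h1 ▸ orderOf_dvd_of_pow_eq_one (pow_four_of_conj_mem_Q h6)) (by decide)
  · obtain ⟨k, hk⟩ := (mem_H 1).1 h6
    have h7 := trace_conj' x⁻¹ y
    rw [inv_inv, hk] at h7
    have h8 : (k : E) ^ 7 = 1 := mul_left_cancel₀ k.ne_zero (by
      rw [← pow_succ', mul_one]; exact pow_card 1 _)
    have h9 : ∀ i j : ℕ, i + j = 7 → ((k : E) ^ i)⁻¹ = k ^ j := fun i j h =>
      inv_eq_of_mul_eq_one_right (by rw [← pow_add, h, h8])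
    have h2 : (2 : E) = 0 := CharTwo.two_eq_zero
    rw [← h7] at h5
    simp only [coe_D, Dmat, ρ_def, pow_one, trace, Fin.sum_univ_four, diag_apply, of_apply,
      cons_val', cons_val, cons_val_fin_one, cons_val_one, cons_val_zero, ← pow_succ', h9 2 5 rfl,
      h9 3 4 rfl, frobenius_def] at h5
    have h10 : (k : E) * (k - 1) ^ 5 = 0 := by
      linear_combination h5 - (k ^ 3 + 2 * k ^ 2 + 3 * k + 4) * h8 +
        (-2 - 2 * k + 2 * k ^ 2 - 5 * k ^ 3 + 5 * k ^ 4 - 3 * k ^ 5 - k ^ 6) * h2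
    rw [mul_eq_zero, pow_eq_zero_iff (by decide), sub_eq_zero, Units.val_eq_one,
      or_iff_right k.ne_zero] at h10
    rw [h10, D_one, mul_assoc, inv_mul_eq_one, eq_comm, mul_eq_right] at hk
    exact h4 hk
  · exact absurd (h1 ▸ h6.orderOf_dvd) (by decide)

theorem orderOf_fr : orderOf (.inr fr : Γ) = 3 := by
  rw [orderOf_injective _ SemidirectProduct.inr_injective]
  refine orderOf_eq_prime (RingEquiv.ext fun a => ?_) fun h => ?_
  · change ((a ^ 2) ^ 2) ^ 2 = a
    rw [← pow_mul, ← pow_mul]; exact pow_card 1 a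
  · obtain ⟨k, h0, h1⟩ := exists_ne_zero_ne_one (F := E) 1
    exact h1 (mul_left_cancel₀ h0 (((sq k).symm.trans (congrArg (· k) h)).trans (mul_one k).symm))

/-- An element of order five. -/
noncomputable def x₅ : Sz E 1 := U 1 0 1 * w E 1

theorem x₅_map (ψ : E →+* E) : szMap 1 1 ψ x₅ = x₅ := by
  rw [x₅, map_mul, szMap_U, szMap_w, map_one, map_zero]

theorem orderOf_x₅ : orderOf x₅ = 5 := by
  haveI : Fact (Nat.Prime 5) := ⟨by decide⟩
  have h : x₅.1.1 = (algebraMap (ZMod 2) E).mapMatrix !![1, 1, 0, 1; 1, 0, 1, 0; 0, 1, 0, 0; 1, 0, 0, 0] := by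
    change Umat 1 0 1 * suzukiForm E = _
    ext i j; fin_cases i <;> fin_cases j <;>
      simp [Umat, suzukiForm, f, Matrix.mul_apply, Fin.sum_univ_four]
  refine orderOf_eq_prime (ext_mat 1 ?_) fun h1 => ?_
  · change x₅.1.1 ^ 5 = 1
    rw [h, ← map_pow, ← map_one (algebraMap (ZMod 2) E).mapMatrix]
    exact congrArg _ (by decide +kernel)
  · simpa [h1] using congrFun (congrFun h 0) 1

theorem affS_six : AffS ρ (2 * 3) :=
  affS_of_fix 2 (v := 1) one_ne_zero (by simp [ρ_apply]) orderOf_fr.symm.dvd (by decide)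

theorem affS_ten : AffS ρ (2 * 5) :=
  affS_of_fix 2 (g := .inl x₅) (v := 1) one_ne_zero (ρ_inl_eq.2 (by
    rw [mul_one, one_mul]; exact (congrArg (·.1.1) (x₅_map φ)).symm))
    (by rw [orderOf_inl, orderOf_x₅]) (by decide)

theorem affS_fourteen : AffS ρ (2 * 7) := by
  obtain ⟨k, hk⟩ := IsCyclic.exists_ofOrder_eq_natCard (α := Eˣ)
  rw [Nat.card_units, SzField.card_eq (m := 1)] at hk
  refine affS_of_fix 2 (g := .inl (D 1 k)) (v := single 0 2 1)
    (fun h => by simpa using congrFun (congrFun h 0) 2) (ρ_inl_eq.2 ?_)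
    (by rw [orderOf_inl, ← Dhom_apply, orderOf_injective _ (D_injective 1), hk]; rfl) (by decide)
  have h : (k : E) * k ^ 2 = ((k ^ 2) ^ 2 : E)⁻¹ := eq_inv_of_mul_eq_one_left (by
    rw [← pow_succ', ← pow_mul, ← pow_add, ← Units.val_pow_eq_pow_val, ← Units.val_one]
    exact congrArg _ (hk ▸ pow_orderOf_eq_one k :))
  ext i j; fin_cases i <;> fin_cases j <;>
    simp [coe_D, Dmat, ρ_def, Matrix.mul_apply, Fin.sum_univ_four, frobenius_def, h]

theorem affS_fifteen : AffS ρ (3 * 5) := by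
  refine affS_of_dvd_orderOf (g := .inr fr * .inl x₅) (dvd_of_eq ?_)
  rw [Commute.orderOf_mul_eq_mul_orderOf_of_coprime ?_ (by
    rw [orderOf_fr, orderOf_inl, orderOf_x₅]; decide), orderOf_fr, orderOf_inl, orderOf_x₅]
  exact SemidirectProduct.ext (by simpa [fieldAut_apply] using x₅_map _) (by simp)

theorem prime_cases {p : ℕ} (hp : p.Prime) {a b : ℕ} (ha : a ≠ 0) (hb : b ≠ 0) :
    p ∣ 2 ^ a * (3 ^ b * (5 * (7 * 13))) ↔ p = 2 ∨ p = 3 ∨ p = 5 ∨ p = 7 ∨ p = 13 := by
  simp only [hp.dvd_mul, hp.prime.dvd_pow_iff_dvd, Nat.prime_dvd_prime_iff_eq hp, ne_eq, ha, hb,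
    not_false_eq_true, Nat.prime_two, Nat.prime_three, Nat.prime_five,
    (by decide : Nat.Prime 7), (by decide : Nat.Prime 13)]

theorem affS_prime {p : ℕ} (hp : p.Prime) : AffS ρ p ↔ p = 2 ∨ p = 3 ∨ p = 5 ∨ p = 7 ∨ p = 13 := by
  rw [← prime_cases hp (a := 6) (b := 1) (by decide) (by decide), show _ * _ = 87360 from rfl, ← card_Γ]
  haveI := Fact.mk hp
  refine ⟨fun h => ?_, fun h =>
    let ⟨g, h⟩ := exists_prime_orderOf_dvd_card' p h; affS_of_dvd_orderOf h.symm.dvd⟩
  obtain ⟨g, h, -⟩ := h.exists_dvd 2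
  exact (hp.dvd_mul.1 h).elim (·.trans (orderOf_dvd_natCard g)) (·.trans (by rw [card_Γ]; decide))

theorem not_affS {N : ℕ} (hN : N = 2 * 13 ∨ N = 3 * 7 ∨ N = 3 * 13 ∨ N = 5 * 7 ∨ N = 5 * 13 ∨ N = 7 * 13) :
    ¬ AffS ρ N := fun h => by
  obtain ⟨g, h1, h2⟩ := h.exists_dvd 2
  obtain ⟨γ, h3⟩ : ∃ γ : Γ, orderOf γ = N := by
    refine Lib.Linear.exists_orderOf_of_dvd (g := g) ?_
    rcases hN with rfl | hN
    · exact h2 13 ((by decide : Nat.Coprime 13 2).dvd_of_dvd_mul_right ((dvd_mul_left ..).trans h1)) fpf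
    · exact Nat.Coprime.dvd_of_dvd_mul_right (by rcases hN with rfl | rfl | rfl | rfl | rfl <;> decide) h1
  have h4 : N.Coprime 3 → N ∣ 4 ∨ N ∣ 7 ∨ N ∣ 13 ∨ N ∣ 5 := fun h =>
    let ⟨y, _, h⟩ := exists_inl h3 h; h ▸ orderOf_Sz y
  rcases hN with rfl | rfl | rfl | rfl | rfl | rfl <;>
    first | exact not_21 _ h3 | exact not_39 _ h3 | exact absurd (h4 (by decide)) (by decide)

variable {F : Type*} [Field F] [Finite F] [CharP F 3]

theorem psp_dvd (hF : Nat.card F = 3) (g : PSp 3 F) {r : ℕ} (hr : r = 7 ∨ r = 13)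
    (h : r ∣ orderOf g) : orderOf g ∣ 14 ∨ orderOf g ∣ 13 := by
  obtain ⟨L, hL, h1, h2⟩ := psp_analysis 3 (by decide) g
  obtain ⟨⟨z, d, e⟩, ha, h3⟩ := OCond.exists_dvd 3 (r := r) (by rcases hr with rfl | rfl <;> decide)
    (by omega) (orderOf_pos g).ne' h (by rcases hr with rfl | rfl <;> decide) h2
  have h4 := (hL _ ha).1
  have h5 : 3 ≤ d := h4.eta_le h3 (by rcases hr with rfl | rfl <;> decide) (by
    rw [hF]
    rcases hr with rfl | rfl
    · exact .inr (by rw [show orderOf _ = 6 from (orderOf_eq_iff (by decide)).2 (by decide)]; decide)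
    · exact .inl (by rw [show orderOf _ = 3 from (orderOf_eq_iff (by decide)).2 (by decide)]; decide))
  have h6 : od d * e ≤ _ := le_oDim ha
  have h7 : 1 ≤ e := h4.1
  rw [od_of_pos (by omega), h1] at h6
  obtain ⟨rfl, rfl⟩ : d = 3 ∧ e = 1 := by constructor <;> nlinarith
  obtain rfl := hL.perm_single ha h1.le
  simp only [h2, OCond, List.mem_singleton, forall_eq, true_and]
  refine h4.2.imp (fun h => ⟨by rwa [hF] at h, 0, by simp⟩) fun h => ⟨by simpa [hF] using h.2, 0, by simp⟩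

theorem psp_thirty (hF : Nat.card F = 3) : 30 ∈ Set.range (orderOf : PSp 3 F → ℕ) := by
  obtain ⟨z, h1, h2⟩ := (tor_add (F := F) (k := 2) (by decide)).exists_gen
  refine psp_exists_order 3 (L := [(z, 2, 1)] ++ [(1, 0, 2)]) (by decide) (oVal_append.2
    ⟨h2 _, oVal_cons.2 ⟨⟨⟨by simp, .inl (one_pow _)⟩, fun _ => even_two⟩, oVal_nil⟩⟩) (by rfl)
    fun m ⟨_, h3, h4⟩ => ?_
  obtain ⟨j, h5, h6⟩ := h4 (1, 0, 2) (by simp)
  have h7 := orderOf_dvd_of_pow_eq_one ((h3 (z, 2, 1) (by simp) (1, 0, 2) (by simp)).trans (one_pow _))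
  rw [h1, hF] at h7
  exact (by decide : Nat.Coprime 3 10).mul_dvd_of_dvd_of_dvd
    ((dvd_pow_self 3 (by rintro rfl; simp at h5)).trans h6) h7

theorem psp_fourteen (hF : Nat.card F = 3) : 14 ∈ Set.range (orderOf : PSp 3 F → ℕ) := by
  obtain ⟨z, h1, h2⟩ := (tor_add (F := F) (k := 3) (by decide)).exists_gen
  refine psp_exists_order 3 (by decide) (h2 _) (by rfl) fun m h => ?_
  have := orderOf_dvd_of_pow_eq_one (h.1 _ List.mem_cons_self)
  rw [h1, hF] at this
  exact Nat.dvd_of_mul_dvd_mul_right two_pos this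

/-- The prime graph of a finite group has the prime divisors of its order as vertices, two distinct primes p, q being joined when the group has an element of order pq; two groups have the same prime graph when they have the same prime divisors and the same joined pairs. Let F be the field with 3 elements and L = PSp(6,F). There are finite groups of arbitrarily large order with the same prime graph as L (a prime graph shared by the orthogonal groups Ω₇(3) and PΩ⁺₈(3)). -/
theorem result {F : Type*} [Field F] [Fintype F] (hF : Fintype.card F = 3) (N : ℕ) :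
    ∃ (H : Type) (_ : Group H) (_ : Finite H), N < Nat.card H ∧
      ((∀ p : ℕ, p.Prime → (p ∣ Nat.card (Cfsg.PSp 3 F) ↔ p ∣ Nat.card H)) ∧
      (∀ p q : ℕ, p.Prime → q.Prime → p ≠ q → ((∃ g : (Cfsg.PSp 3 F), orderOf g = p * q) ↔ (∃ g : H, orderOf g = p * q)))) := by
  haveI : CharP F 3 := charP_of_card_eq_prime hF
  rw [← Nat.card_eq_fintype_card] at hF
  have h1 := Lib.Forms.gcd_mul_card_PSp (F := F) (m := 3) (by decide)
  rw [hF, show Lib.Forms.spOrder 3 3 = 2 * (2 ^ 9 * (3 ^ 9 * (5 * (7 * 13)))) by decide +kernel] at h1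
  have h2 := fun p hp => (Nat.eq_of_mul_eq_mul_left two_pos h1).symm ▸
    prime_cases (p := p) hp (a := 9) (b := 9) (by decide) (by decide)
  refine exists_graph (ρ := ρ) (fun p hp => (h2 p hp).trans (affS_prime hp).symm)
    (fun p q hp hq hpq => ?_) N
  have h3 : p * q ∣ 30 ∨ p * q ∣ 14 → ∃ g : PSp 3 F, orderOf g = p * q := fun h =>
    h.elim (dvd_range (psp_thirty hF)) (dvd_range (psp_fourteen hF))
  have h4 : q = 7 ∨ q = 13 → (∃ g : PSp 3 F, orderOf g = p * q) → p * q ∣ 14 ∨ p * q ∣ 13 :=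
    fun h ⟨g, hg⟩ => hg ▸ psp_dvd hF g h (hg ▸ dvd_mul_left ..)
  refine ⟨fun h => ?_, fun h => ?_⟩
  · obtain ⟨g, hg⟩ := id h
    have h5 := hg ▸ orderOf_dvd_natCard g
    rcases (h2 p hp).1 ((dvd_mul_right ..).trans h5) with rfl | rfl | rfl | rfl | rfl <;>
      rcases (h2 q hq).1 ((dvd_mul_left ..).trans h5) with rfl | rfl | rfl | rfl | rfl <;>
      first | omega | exact affS_six | exact affS_ten | exact affS_fourteen | exact affS_fifteen |
        exact absurd (h4 (by decide) h) (by decide)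
  · rcases (affS_prime hp).1 (h.of_dvd (dvd_mul_right ..)) with rfl | rfl | rfl | rfl | rfl <;>
      rcases (affS_prime hq).1 (h.of_dvd (dvd_mul_left ..)) with rfl | rfl | rfl | rfl | rfl <;>
      first | omega | exact h3 (by decide) | exact absurd h (not_affS (by decide))

end Cfsg.Agent.S3664
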