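import Cfsg.Statements.S3669
import Cfsg.Agent.Lib.Hall.FC5
import Cfsg.Agent.Lib.Hall.HallThm
import Cfsg.Agent.Lib.Coprime.RankTwo
import Cfsg.Agent.Lib.Known.PSL2Char
import Cfsg.Agent.Lib.Linear.PSL2Small
import Cfsg.Agent.Lib.Clifford.Cover

set_option autoImplicit false
open Cfsg

namespace Cfsg.Agent.S3669

open Subgroup Cfsg.Lib Cfsg.Lib.Clifford Cfsg.Lib.Coprime


/-- The character degree graph of a finite group has as vertices the primes dividing some irreducible complex character degree, two distinct primes being joined when their product divides some irreducible character degree; two groups have the same character degree graph when they have the same vertices and the same joined pairs. A finite group of order 60 with the same character degree graph as the alternating group A₅ (whose character degrees are 1, 3, 4, 5, so the graph has vertices 2, 3, 5 and no edges) is isomorphic to A₅. -/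
theorem result {G : Type*} [Group G] [Finite G] (hcard : Nat.card G = 60)
    (hΓ : Cfsg.degreePrimes G = Cfsg.degreePrimes (alternatingGroup (Fin 5)) ∧ Cfsg.degreeGraph G = Cfsg.degreeGraph (alternatingGroup (Fin 5))) : Nonempty (G ≃* alternatingGroup (Fin 5)) := by
  refine Hall.equiv_A5_of_not_solvable hcard fun hs => ?_
  have h5 : Nat.Prime 5 := by norm_num
  have := Fact.mk h5
  obtain ⟨e⟩ := Linear.psl2_five_equiv (F := ZMod 5) (Nat.card_zmod 5)
  have h1 := Known.card_mem_charDegrees_PSL2 (F := ZMod 5)
  rw [Known.charDegrees_congr e, Nat.card_zmod] at h1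
  obtain ⟨-, _, ⟨χ, rfl⟩, hd⟩ : 5 ∈ degreePrimes G := hΓ.1 ▸ ⟨h5, 5, h1, dvd_rfl⟩
  obtain ⟨K, hK⟩ := Hall.exists_isPiHall (G := G) {3, 5}
  have h2 : 15 ∣ Nat.card K := Hall.dvd_card_of_isPiHall hK (fun p hp h => ((Nat.Prime.dvd_mul hp (m := 3) (n := 5)).1 h).imp
    (Nat.prime_dvd_prime_iff_eq hp Nat.prime_three).1 (Nat.prime_dvd_prime_iff_eq hp h5).1) (by rw [hcard]; norm_num)
  have h3 : Nat.card K = 15 := by
    have h3 := Nat.le_of_dvd (by norm_num) (hcard ▸ card_subgroup_dvd_card K)
    have h4 : ¬ 2 ∣ Nat.card K := fun h => by simpa using hK.1 2 Nat.prime_two h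
    have := hcard ▸ card_subgroup_dvd_card K
    generalize Nat.card K = k at *
    interval_cases k <;> omega
  obtain ⟨x, hx⟩ := exists_prime_orderOf_dvd_card' (G := K) 5 (by rw [h3]; norm_num)
  have key : ∀ (Γ : Type _) [Group Γ] [Finite Γ] (y : Γ), orderOf y = 5 → (Nat.card Γ).factorization 5 = 1 →
      (normalizer (zpowers y : Set Γ)).index ∣ 12 → (normalizer (zpowers y : Set Γ)).index ≠ 6 → (zpowers y).Normal :=
    fun Γ _ _ y hy hf h h' => normalizer_eq_top_iff.1 (index_eq_one.1 (by
      have h6 := (exists_normalizer_data h5 hf hy).1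
      have := Nat.le_of_dvd (by norm_num) h
      change _ % 5 = 1 at h6
      generalize (normalizer (zpowers y : Set Γ)).index = k at *
      interval_cases k <;> omega))
  have h4 : (normalizer (zpowers x : Set K)).index ∣ 3 := (index_dvd_of_le le_normalizer).trans (by
    have := (zpowers x).index_mul_card
    rw [Nat.card_zpowers, hx, h3] at this
    exact (show _ = 3 by omega).dvd)
  have h6 := key K x hx (by
    rw [h3, show 15 = 5 * 3 from rfl, Nat.factorization_mul (by norm_num) (by norm_num), Finsupp.add_apply,
      h5.factorization_self, Nat.factorization_eq_zero_of_not_dvd (by norm_num)])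
    (h4.trans (by norm_num)) fun h => by simp [h] at h4
  have h7 : (normalizer (zpowers (x : G) : Set G)).index ∣ 4 := (index_dvd_of_le (H := K) fun k hk =>
    mem_normalizer_fintype (by
      rintro _ ⟨n, rfl⟩
      obtain ⟨m, hm⟩ := h6.conj_mem _ ⟨n, rfl⟩ ⟨k, hk⟩
      exact ⟨m, by simpa using congrArg Subtype.val hm⟩)).trans (by
    have := K.index_mul_card
    rw [h3, hcard] at this
    exact (show _ = 4 by omega).dvd)
  have h8 := key G x (by rw [orderOf_coe, hx]) (by
    rw [hcard, show 60 = 5 * 12 from rfl, Nat.factorization_mul (by norm_num) (by norm_num), Finsupp.add_apply,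
      h5.factorization_self, Nat.factorization_eq_zero_of_not_dvd (by norm_num)]) (h7.trans (by norm_num)) fun h => by simp [h] at h7
  have h9 := hd.trans ((irrOn_top.2 χ.2).deg_dvd_relIndex_of_comm le_top (nrm_of_normal _ (zpowers (x : G)))
    (by rintro _ ⟨a, rfl⟩ _ ⟨b, rfl⟩; exact zpow_mul_comm _ _ _))
  have := (zpowers (x : G)).index_mul_card
  rw [Nat.card_zpowers, orderOf_coe, hx, hcard] at this
  rw [relIndex_top_right] at h9
  omega

end Cfsg.Agent.S3669
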