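import Cfsg.Statements.S3670
import Cfsg.Agent.Lib.Coprime.RankTwo
import Cfsg.Agent.Lib.Coprime.Spec
import Cfsg.Agent.Lib.U3.Basic
import Cfsg.Agent.Lib.Known.PSL2Char
import Cfsg.Agent.S0283
import Cfsg.Agent.S2366
import Mathlib

set_option autoImplicit false
open Cfsg

namespace Cfsg.Agent.S3670

open Finset Subgroup Cfsg.Lib Cfsg.Lib.Clifford Cfsg.Lib.Coprime Cfsg.Lib.U3 Cfsg.Lib.Forms
open scoped ComplexConjugate

theorem eq_one_of_deg {Γ : Type*} [Group Γ] [Finite Γ] (hp : commutator Γ = ⊤) {χ : Γ → ℂ} (hχ : IrrOn ⊤ χ)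
    (h : charDegree χ = 1) : χ = 1 :=
  funext fun x => hχ.eq_one_of_triv (fun y _ => triv_kerOn y ((hχ.charOn.linOn_of_deg h).commutator_le
    (hp.ge (mem_top y)))) x (mem_top x)

set_option synthInstance.maxSize 2000 in
theorem exists_six {Γ : Type*} [Group Γ] [Finite Γ] (hc : Nat.card Γ = 6048) (hp : commutator Γ = ⊤)
    (h7 : ∀ r ∈ ({2, 3} : Finset ℕ), 7 * r ∉ Set.range (orderOf : Γ → ℕ)) {π : Γ → ℂ} (hπ : CharOn ⊤ π) (h1 : π 1 = 28)
    (h2 : dot ⊤ π π = 2) (h3 : dot ⊤ π 1 = 1) (h4 : ∀ g, 7 ∣ orderOf g → π g = 0) : ∃ d ∈ charDegrees Γ, 6 ∣ d := by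
  have h7' : Nat.Prime 7 := by norm_num
  have := Fact.mk h7'
  obtain ⟨x, hx⟩ := exists_prime_orderOf_dvd_card' (G := Γ) 7 (by rw [hc]; norm_num)
  have hf : (Nat.card Γ).factorization 7 = 1 := by
    rw [hc, show 6048 = 7 * 864 from rfl, Nat.factorization_mul (by norm_num) (by norm_num), Finsupp.add_apply,
      h7'.factorization_self, Nat.factorization_eq_zero_of_not_dvd (by norm_num)]
  have hle : zpowers x ≤ centralizer (zpowers x : Set Γ) := le_centralizer _
  have hC : centralizer (zpowers x : Set Γ) = zpowers x := by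
    obtain ⟨k, hk⟩ := card_dvd_of_le hle
    rw [Nat.card_zpowers, hx] at hk
    have h5 : k = 1 := Nat.eq_one_iff_not_exists_prime_dvd.2 fun r hr hk' => by
      have := Fact.mk hr
      have h6 : r ∣ 2 ^ 5 * 3 ^ 3 := hk'.trans (Nat.dvd_of_mul_dvd_mul_left (by norm_num : 0 < 7)
        (hk ▸ (hc ▸ card_subgroup_dvd_card _ : _ ∣ 6048)))
      have h8 : r = 2 ∨ r = 3 := (hr.dvd_mul.1 h6).imp (fun h => (Nat.prime_dvd_prime_iff_eq hr Nat.prime_two).1
        (hr.dvd_of_dvd_pow h)) fun h => (Nat.prime_dvd_prime_iff_eq hr Nat.prime_three).1 (hr.dvd_of_dvd_pow h)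
      obtain ⟨y, hy⟩ := exists_prime_orderOf_dvd_card' (G := centralizer (zpowers x : Set Γ)) r (hk ▸ hk'.mul_left _)
      refine h7 r (by simpa using h8) ⟨x * y, ?_⟩
      rw [Commute.orderOf_mul_eq_mul_orderOf_of_coprime (y.2 _ (mem_zpowers _)), hx, orderOf_coe, hy]
      rw [hx, orderOf_coe, hy]
      rcases h8 with rfl | rfl <;> norm_num
    exact (eq_of_le_of_card_ge hle (by rw [hk, h5, Nat.card_zpowers, hx])).symm
  obtain ⟨h5, h6⟩ := exists_normalizer_data h7' hf hx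
  obtain ⟨β, b1, b2, b3, b4, b5⟩ := exists_ind_prime h7' hx hC.le
  have h8 := relIndex_mul_index (le_normalizer (H := zpowers x))
  have h9 := (zpowers x).index_mul_card
  rw [hC] at h6
  rw [← h8, Nat.card_zpowers, hx, hc] at h9
  have h10 : (zpowers x).relIndex (normalizer (zpowers x : Set Γ)) = 3 := by
    have := Nat.le_of_dvd (by norm_num) h6
    change _ % 7 = 1 at h5
    generalize (zpowers x).relIndex (normalizer (zpowers x : Set Γ)) = e at *
    interval_cases e <;> omega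
  have hγ : GenOn ⊤ (β + π - (2 : ℂ) • 1) := (b1.add hπ.genOn).sub ((genOn_one ⊤).natCast_smul 2)
  have b6 := b5 π hπ.classOn h4
  obtain ⟨s, s1, s2, s3, -, s5⟩ := hγ.exists_signed_sum (n := 2) (by norm_num) (by
    simp only [dot_sub_left, dot_sub_right, dot_add_left, dot_add_right, dot_smul_left, dot_smul_right, b3, b4, b6, h10, h2, h3,
      dot_eq_zero_comm.1 b6, dot_comm_of_nat (n := 1) (b4.trans Nat.cast_one.symm),
      dot_comm_of_nat (n := 1) (h3.trans Nat.cast_one.symm), (irrOn_one ⊤).dot_self, map_ofNat]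
    norm_num)
  have s6 : ∀ χ ∈ s, charDegree χ ∣ 6048 ∧ charDegree χ ≠ 1 ∧ charDegree χ ≠ 28 ∧ charDegree χ < 78 := fun χ hχ => by
    have i := irrOn_of_mem (s1 hχ)
    have h0 : dot ⊤ (β + π - (2 : ℂ) • 1) χ ≠ 0 := fun e => by rcases s3 χ hχ with h | h <;> simp [e] at h
    rw [dot_sub_left, dot_add_left, dot_smul_left] at h0
    refine ⟨hc ▸ card_top (G := Γ) ▸ i.deg_dvd_card, fun e => h0 ?_, fun e => h0 ?_, ?_⟩
    · rw [eq_one_of_deg hp i e, b4, h3, (irrOn_one ⊤).dot_self]; norm_num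
    · have h11 : dot ⊤ π χ = 0 := by_contra fun h => by
        have := dot_congr (hπ.eq_of_dot_of_deg i h (by rw [h1, i.one_eq, e]; rfl))
          (hπ.eq_of_dot_of_deg i h (by rw [h1, i.one_eq, e]; rfl))
        rw [h2, i.dot_self] at this
        norm_num at this
      rw [b5 χ i.classOn fun g hg => i.eq_zero_of_defZero h7' (by rw [card_top, hf, e]; norm_num) (mem_top g) hg,
        (irrOn_one ⊤).dot_eq_zero i fun h => by simpa [i.one_eq, e] using h 1 (mem_top _), h11]
      simp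
    · have := single_le_sum (f := fun χ => charDegree χ ^ 2) (fun _ _ => Nat.zero_le _) (s1 hχ)
      rw [sum_deg_sq, card_top, hc] at this
      nlinarith
  have key : ∀ m < 78, ∀ n < 78, m ∣ 6048 ∧ m ≠ 1 ∧ m ≠ 28 → n ∣ 6048 ∧ n ≠ 1 ∧ n ≠ 28 → m + n = 26 ∨ m = n + 26 ∨ n = m + 26 →
    6 ∣ m ∨ 6 ∣ n := by decide +kernel
  classical
  obtain ⟨a, b, hab, rfl⟩ := card_eq_two.1 s2
  have ha : a ∈ ({a, b} : Finset _) := by simp
  have hb : b ∈ ({a, b} : Finset _) := by simp
  have s7 := congrFun s5 1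
  rw [cut_top, sum_pair hab] at s7
  have ia := irrOn_of_mem (s1 ha)
  have ib := irrOn_of_mem (s1 hb)
  refine (key _ (s6 a ha).2.2.2 _ (s6 b hb).2.2.2 (by have := s6 a ha; tauto) (by have := s6 b hb; tauto) ?_).elim
    (fun h => ⟨_, ⟨⟨a, irrOn_top.1 ia⟩, rfl⟩, h⟩) fun h => ⟨_, ⟨⟨b, irrOn_top.1 ib⟩, rfl⟩, h⟩
  simp only [Pi.add_apply, Pi.sub_apply, Pi.smul_apply, Pi.one_apply, b2, h1, ia.one_eq, ib.one_eq, smul_eq_mul] at s7
  rcases s3 a ha with e1 | e1 <;> rcases s3 b hb with e2 | e2 <;> rw [e1, e2] at s7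
  · exact Or.inl (by exact_mod_cast (by linear_combination -s7 : (charDegree a : ℂ) + charDegree b = 26))
  · exact Or.inr (Or.inl (by exact_mod_cast (by linear_combination -s7 : (charDegree a : ℂ) = charDegree b + 26)))
  · exact Or.inr (Or.inr (by exact_mod_cast (by linear_combination -s7 : (charDegree b : ℂ) = charDegree a + 26)))
  · exact absurd (by exact_mod_cast (by linear_combination s7 : (charDegree b : ℂ) + charDegree a + 26 = 0)) (by omega :
      charDegree b + charDegree a + 26 ≠ 0)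


theorem units_mem {R : Type*} [CommRing R] [Finite R] {ψ : AddChar R ℂ} (hψ : ψ.IsPrimitive) :
    Nat.card Rˣ ∈ charDegrees (Aff R Rˣ) := by
  have := Aff.finite (V := R) (H := Rˣ)
  have hl : LinOn (Aff.fst (V := R) (H := Rˣ)).ker fun g => ψ g.v := linOn_of_map_mul ψ.map_zero_eq_one fun x hx y _ => by
    rw [Aff.mul_v, show x.h = 1 from hx, one_smul, AddChar.map_add_eq_mul]
  have hi := (irrOn_ind_iff le_top (nrm_of_normal _ _) hl.irrOn).2 fun g hg => by
    refine by_contra fun h => hψ (a := g.h - 1) (fun e => h (Units.ext (sub_eq_zero.1 e))) (AddChar.ext _ _ fun v => ?_)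
    have := ((mem_inertia (nrm_of_normal _ _)).1 hg).2 ⟨v, 1⟩ rfl
    rw [show (g * ⟨v, 1⟩ * g⁻¹).v = (g.h - 1) * v + v by
      change g.v + g.h • v + (g.h * 1) • -(g.h⁻¹ • g.v) = _
      rw [mul_one, smul_neg, smul_inv_smul, Units.smul_def, smul_eq_mul]; ring, AddChar.map_add_eq_mul] at this
    exact (mul_eq_right₀ (hl.ne_zero (x := ⟨v, 1⟩) rfl)).1 this
  refine ⟨⟨_, irrOn_top.1 hi⟩, charDegree_of_eq ?_⟩
  change ind _ _ _ _ = _
  rw [ind_one le_top, show ψ (Aff.v 1) = 1 from hl.2, mul_one, relIndex_top_right, index_ker, MonoidHom.range_eq_top.2 fun h => ⟨⟨0, h⟩, rfl⟩, card_top]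

theorem graph_eq {Γ : Type*} [Group Γ] [Finite Γ] (hc : Nat.card Γ = 6048) (h : ∀ m ∈ ({6, 14, 21} : Finset ℕ),
    ∃ d ∈ charDegrees Γ, m ∣ d) : degreePrimes Γ = {2, 3, 7} ∧ ∀ p q, (degreeGraph Γ).Adj p q ↔
      p ≠ q ∧ p ∈ ({2, 3, 7} : Set ℕ) ∧ q ∈ ({2, 3, 7} : Set ℕ) := by
  have h1 : ∀ p, p.Prime → ∀ d ∈ charDegrees Γ, p ∣ d → p ∈ ({2, 3, 7} : Set ℕ) := by
    rintro p hp _ ⟨χ, rfl⟩ hd
    have h2 : p ∣ 2 ^ 5 * (3 ^ 3 * 7) := hd.trans (hc ▸ card_top (G := Γ) ▸ (irrOn_top.2 χ.2).deg_dvd_card : _ ∣ 6048)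
    rcases hp.dvd_mul.1 h2 with h | h
    · exact Or.inl ((Nat.prime_dvd_prime_iff_eq hp Nat.prime_two).1 (hp.dvd_of_dvd_pow h))
    rcases hp.dvd_mul.1 h with h | h
    · exact Or.inr (Or.inl ((Nat.prime_dvd_prime_iff_eq hp Nat.prime_three).1 (hp.dvd_of_dvd_pow h)))
    · exact Or.inr (Or.inr ((Nat.prime_dvd_prime_iff_eq hp (by norm_num)).1 h))
  have h6 := h 6 (by simp)
  have h14 := h 14 (by simp)
  have h21 := h 21 (by simp)
  refine ⟨Set.ext fun p => ⟨fun ⟨hp, d, hd, e⟩ => h1 p hp d hd e, ?_⟩, fun p q => ⟨fun ⟨a, hp, hq, d, hd, e⟩ =>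
    ⟨a, h1 p hp d hd ((dvd_mul_right _ _).trans e), h1 q hq d hd ((dvd_mul_left _ _).trans e)⟩, ?_⟩⟩
  · rintro (rfl | rfl | rfl)
    · exact ⟨by norm_num, h6.imp fun d hd => ⟨hd.1, (by norm_num : 2 ∣ 6).trans hd.2⟩⟩
    · exact ⟨by norm_num, h6.imp fun d hd => ⟨hd.1, (by norm_num : 3 ∣ 6).trans hd.2⟩⟩
    · exact ⟨by norm_num, h14.imp fun d hd => ⟨hd.1, (by norm_num : 7 ∣ 14).trans hd.2⟩⟩
  · rintro ⟨a, rfl | rfl | rfl, rfl | rfl | rfl⟩ <;> first | exact absurd rfl a | exact ⟨a, by norm_num, by norm_num, by assumption⟩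

theorem exists_solv : ∃ (H : Type) (_ : Group H) (_ : Finite H), Group.IsSolvable H ∧ Nat.card H = 6048 ∧ 42 ∈ charDegrees H := by
  have h1 : Nat.card (GaloisField 2 3) = 8 := GaloisField.card 2 3 (by norm_num)
  have h2 : Nat.card (ZMod 18 × GaloisField 2 3)ˣ = 42 := by
    rw [Nat.card_congr MulEquiv.prodUnits.toEquiv, Nat.card_prod, Nat.card_units (GaloisField 2 3), h1,
      Nat.card_eq_fintype_card, ZMod.card_units_eq_totient]
    rfl
  let ψ : AddChar (ZMod 18 × GaloisField 2 3) ℂ := ZMod.stdAddChar.compAddMonoidHom (AddMonoidHom.fst _ _) *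
    (AddChar.FiniteField.primitiveChar_to_Complex _).compAddMonoidHom (AddMonoidHom.snd _ _)
  refine ⟨Aff (ZMod 18 × GaloisField 2 3) (ZMod 18 × GaloisField 2 3)ˣ, inferInstance, Aff.finite, Aff.solvable,
    by rw [Aff.card_eq, h2, Nat.card_prod, h1, Nat.card_zmod], h2 ▸ units_mem (ψ := ψ) fun a ha e => ha (Prod.ext ?_ ?_)⟩
  · refine by_contra fun h => ZMod.isPrimitive_stdAddChar 18 h (AddChar.ext _ _ fun x => ?_)
    simpa [ψ] using DFunLike.congr_fun e (x, 0)
  · refine by_contra fun h => AddChar.FiniteField.primitiveChar_to_Complex_isPrimitive _ h (AddChar.ext _ _ fun x => ?_)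
    simpa [ψ] using DFunLike.congr_fun e (0, x)


section
variable {F : Type*} [Field F] {σ : F →+* F} (h : IsConj σ 3)

noncomputable abbrev BB : Subgroup (SU3 h) := MulAction.stabilizer (SU3 h) (none : Pt h)
noncomputable abbrev TT : Subgroup (SU3 h) := BB h ⊓ MulAction.stabilizer (SU3 h) (some 1 : Pt h)
def cc (g : SU3 h) : F := g.1.1 ![0, 0, 1] 2

theorem card_G : Nat.card (SU3 h) = 6048 := card_SU3 h

variable {h}

theorem apply_of_mem {g : SU3 h} (hg : g ∈ BB h) : g.1.1 ![0, 0, 1] = cc h g • ![0, 0, 1] := by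
  obtain ⟨c, hc⟩ := su_smul_eq_iff.1 hg
  change g.1.1 ![0, 0, 1] = c • ![0, 0, 1] at hc
  simp [cc, hc]

theorem lin_cc (μ : MulChar F ℂ) : LinOn (BB h) fun g => μ (cc h g) :=
  linOn_of_map_mul (by simp [cc]) fun x hx y hy => by
    rw [← map_mul, cc, su_mul_apply, apply_of_mem hy, map_smul, apply_of_mem hx]
    simp [mul_comm]

theorem nn_le : (nn h).range ≤ BB h := by
  rintro _ ⟨x, rfl⟩
  exact nn_smul_none x

theorem dcoset (x : SU3 h) (hx : x ∉ BB h) : ∃ a ∈ BB h, ∃ b ∈ BB h, x = a * ww h * b := by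
  cases e : x • (none : Pt h) with
  | none => exact absurd e hx
  | some y =>
    refine ⟨nn h y, nn_smul_none y, (nn h y * ww h)⁻¹ * x, ?_, by group⟩
    rw [MulAction.mem_stabilizer_iff, mul_smul, e, inv_smul_eq_iff, mul_smul, ww_smul_none, nn_smul_some, mul_one]

theorem index_BB : (BB h).index = 28 := by
  rw [MulAction.index_stabilizer, Set.eq_univ_of_forall (s := MulAction.orbit (SU3 h) (none : Pt h)), Set.ncard_univ, card_Pt]
  · rfl
  rintro (_ | y)
  · exact MulAction.mem_orbit_self _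
  · exact ⟨nn h y * ww h, by simp only [mul_smul, ww_smul_none, nn_smul_some, mul_one]⟩

theorem card_BB : Nat.card (BB h) = 216 := by
  have := (BB h).index_mul_card
  rw [index_BB, card_G] at this
  omega

theorem card_nn : Nat.card (nn h).range = 27 :=
  (Nat.card_congr (MonoidHom.ofInjective (nn_injective h)).toEquiv).symm.trans (Heis.card h)

theorem card_TT : Nat.card (TT h) = 8 := by
  have := card_mul_card_of_prod (nn_le (h := h)) (inf_le_left : TT h ≤ _) fun b hb => by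
    cases e : b • (some 1 : Pt h) with
    | none => exact absurd (MulAction.injective b (e.trans hb.symm)) (by simp)
    | some y =>
      refine ⟨_, ⟨y, rfl⟩, (nn h y)⁻¹ * b, ⟨(BB h).mul_mem ((BB h).inv_mem (nn_smul_none y)) hb, ?_⟩, by group⟩
      change _ • _ = _
      rw [mul_smul, e, inv_smul_eq_iff, nn_smul_some, mul_one]
  rw [show (nn h).range ⊓ TT h = ⊥ from eq_bot_iff.2 fun _ ⟨⟨x, e⟩, _, hx⟩ => by
    subst e
    have : nn h x • _ = _ := hx
    rw [nn_smul_some, mul_one, Option.some.injEq] at this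
    simp [this], card_nn, card_BB, card_bot] at this
  change 27 * Nat.card (TT h) = _ at this
  omega

theorem conj_mem {b : SU3 h} : (ww h)⁻¹ * b * ww h ∈ BB h ↔ b • (some 1 : Pt h) = some 1 := by
  rw [MulAction.mem_stabilizer_iff, mul_smul, mul_smul, inv_smul_eq_iff, ww_smul_none]

theorem dot_two {φ ψ : SU3 h → ℂ} (hφ : ClassOn (BB h) φ) (hψ : ClassOn (BB h) ψ) :
    dot ⊤ (ind (BB h) ⊤ φ) (ind (BB h) ⊤ ψ) = dot (BB h) φ ψ + dot (TT h) (fun b => φ ((ww h)⁻¹ * b * ww h)) ψ := by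
  rw [dot_ind_rank_two dcoset hφ hψ, card_G, card_BB, dot.eq_def (TT h), card_TT, ← sum_subset (elems_mono (inf_le_left : TT h ≤ _))
    fun b hb hb' => by rw [cut_of_notMem _ fun e => hb' (mem_elems.2 ⟨mem_elems.1 hb, conj_mem.1 e⟩), zero_mul],
    sum_congr rfl fun b hb => by rw [cut_of_mem _ (conj_mem.2 (mem_elems.1 hb).2)]]
  norm_num

theorem cc_conj {b : SU3 h} (hb : b ∈ TT h) : cc h b ^ 3 * cc h ((ww h)⁻¹ * b * ww h) = 1 := by
  obtain ⟨c, hc⟩ := su_smul_eq_iff.1 hb.2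
  change b.1.1 ![1, 0, 0] = c • ![1, 0, 0] at hc
  have h1 := Form.B_isom b.1 ![0, 0, 1] ![1, 0, 0]
  rw [hc, apply_of_mem hb.1, aH_B, aH_B] at h1
  rw [inv_eq_of_mul_eq_one_right (ww_mul_ww h), ← h.apply, cc.eq_def h (_ * _), su_mul_apply, su_mul_apply, ww_apply, ww_apply]
  simpa [hc] using h1

theorem dd_nn (c : Fˣ) {x y : Heis h} (ha : y.a = σ c * σ c / c * x.a) (hb : y.b = c * σ c * x.b) :
    dd h c * nn h x = nn h y * dd h c := su_ext fun u => by
  have := c.ne_zero
  have : σ c ≠ 0 := by simp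
  simp only [su_mul_apply, dd_apply, nn_apply, ha, hb]
  ext i
  fin_cases i <;> simp [h.σσ] <;> field_simp

include h in
theorem three : (3 : F) = 0 := by
  have := h.finite
  have := Fintype.ofFinite F
  have h1 := Nat.cast_card_eq_zero F
  rw [← Nat.card_eq_fintype_card, h.card] at h1
  exact eq_zero_of_pow_eq_zero (n := 2) (by exact_mod_cast h1)

theorem real_nn {χ : SU3 h → ℂ} (hχ : CharOn ⊤ χ) : RealOn (nn h).range χ := by
  rintro _ ⟨x, rfl⟩
  have : ∃ g : SU3 h, g * nn h x * g⁻¹ = (nn h x)⁻¹ := by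
    have hx := x.rel
    by_cases ha : x.a = 0
    · obtain ⟨c, hc⟩ := h.exists_norm_eq (a := -1) (by simp)
      refine ⟨dd h (.mk0 c (by rintro rfl; simp at hc)), ?_⟩
      rw [dd_nn _ (y := x⁻¹) (by simp [Heis.inv_a, ha]), mul_inv_cancel_right, map_inv]
      rw [Heis.inv_b, Units.val_mk0, hc]
      rw [ha] at hx
      linear_combination hx
    obtain ⟨z, hz⟩ := Heis.exists_a (h := h) ((σ x.b - x.b) / σ x.a)
    have : σ x.a ≠ 0 := by simpa using ha
    refine ⟨nn h z * dd h (-1), ?_⟩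
    rw [mul_assoc (nn h z), dd_nn _ (y := z⁻¹ * x⁻¹ * z) (by simp [Heis.mul_a, Heis.inv_a]), map_mul, map_mul, map_inv, map_inv]
    · group
    have hz' := z.rel
    simp only [Heis.mul_a, Heis.mul_b, Heis.inv_a, Heis.inv_b, hz, map_add, map_neg, map_div₀, map_sub, h.σσ, Units.val_neg,
      Units.val_one, map_one] at hz' ⊢
    linear_combination hz' - div_mul_cancel₀ (x.b - σ x.b) ha + div_mul_cancel₀ (σ x.b - x.b) this + (σ x.b - x.b) * three (h := h)
  obtain ⟨g, hg⟩ := this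
  rw [← hχ.apply_inv (mem_top _), ← hg, hχ.classOn g (mem_top _) _ (mem_top _)]

open Classical in
theorem dot_ind_cc (μ : MulChar F ℂ) : dot ⊤ (ind (BB h) ⊤ fun g => μ (cc h g)) (ind (BB h) ⊤ fun g => μ (cc h g)) =
    if μ ^ 4 = 1 then 2 else 1 := by
  have hl := lin_cc (h := h) μ
  have h1 : LinOn (TT h) fun b => μ (cc h ((ww h)⁻¹ * b * ww h)) :=
    hl.comp ((MulAut.conj (ww h)⁻¹).toMonoidHom) fun b hb => by simpa using conj_mem.2 hb.2
  have h2 : ∀ b ∈ TT h, μ (cc h ((ww h)⁻¹ * b * ww h)) = μ (cc h b) ↔ μ (cc h b) ^ 4 = 1 := fun b hb => by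
    have := congrArg μ (cc_conj hb)
    rw [map_mul, map_pow, map_one] at this
    refine ⟨fun e => by rw [pow_succ, ← this, e], fun e => mul_left_cancel₀ (pow_ne_zero 3 (hl.ne_zero hb.1)) ?_⟩
    rw [this, ← pow_succ, e]
  rw [dot_two hl.classOn hl.classOn, hl.irrOn.dot_self]
  split_ifs with e
  · rw [h1.irrOn.dot_eq_one fun b hb => (h2 b hb).2 ?_]
    · norm_num
    rw [← MulChar.pow_apply' _ (by norm_num), e, MulChar.one_apply]
    exact isUnit_iff_ne_zero.2 fun e => hl.ne_zero hb.1 (by simp [e, MulChar.map_zero])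
  · rw [h1.irrOn.dot_eq_zero (hl.mono inf_le_left).irrOn fun H => e (MulChar.ext fun c => ?_), add_zero]
    have := (h2 _ ?_).1 (H (dd h c) ?_)
    · rw [MulChar.pow_apply' _ (by norm_num), MulChar.one_apply_coe]
      simpa [cc, dd_apply] using this
    all_goals exact ⟨dd_smul_none c, dd_smul_some c (by simp [Heis.one_a]) (by simp [Heis.one_b])⟩

theorem ind_cc_one (μ : MulChar F ℂ) : ind (BB h) ⊤ (fun g => μ (cc h g)) 1 = 28 := by
  rw [ind_one le_top, relIndex_top_right, index_BB, show μ (cc h 1) = 1 from (lin_cc μ).2]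
  norm_num

include h in
theorem exists_mu {n : ℕ} (hn : n ∣ 8) : ∃ μ : MulChar F ℂ, orderOf μ = n := by
  have := h.finite
  have := Fintype.ofFinite F
  exact MulChar.exists_mulChar_orderOf F (by rw [← Nat.card_eq_fintype_card, h.card]; exact hn)
    (Complex.isPrimitiveRoot_exp n (by rintro rfl; simp at hn))

theorem deg28 : 28 ∈ charDegrees (SU3 h) := by
  obtain ⟨μ, hμ⟩ := exists_mu (h := h) dvd_rfl
  refine ⟨⟨_, irrOn_top.1 (((lin_cc μ).charOn.ind le_top).irrOn_of_dot_self ?_)⟩, charDegree_of_eq (ind_cc_one μ)⟩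
  rw [dot_ind_cc, if_neg]
  rw [← orderOf_dvd_iff_pow_eq_one, hμ]
  norm_num

theorem deg21 (hp : commutator (SU3 h) = ⊤) : 21 ∈ charDegrees (SU3 h) := by
  classical
  obtain ⟨μ, hμ⟩ := exists_mu (h := h) (n := 2) (by norm_num)
  have hl := lin_cc (h := h) μ
  have h1 := dot_ind_cc (h := h) μ
  rw [if_pos (by rw [← orderOf_dvd_iff_pow_eq_one, hμ]; norm_num)] at h1
  have := Fintype.ofFinite (SU3 h)
  obtain ⟨a, b, ha, hb, hab, e⟩ := Known.exists_add_of_norm_two (charOn_top.1 (hl.charOn.ind le_top)) ((dot_top _ _).symm.trans h1)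
  rw [← irrOn_top] at ha hb
  have h2 : dot (nn h).range (fun g => μ (cc h g)) 1 = 1 := (hl.mono nn_le).irrOn.dot_eq_one (by
    rintro _ ⟨x, rfl⟩
    simp [cc, nn_apply])
  have h3 : dot (nn h).range (a + b) 1 = 2 := by
    rw [← e, ← dot_ind_right le_top (ind_classOn _ _ _), ← ind_ind (nn_le (h := h)) le_top, dot_two hl.classOn (ind_classOn _ _ _),
      dot_ind_right nn_le hl.classOn, h2, dot.eq_def, sum_eq_single_of_mem 1 (mem_elems.2 (one_mem _)), card_TT, ind_one nn_le]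
    · have := card_mul_relIndex (nn_le (h := h))
      rw [card_nn, card_BB] at this
      rw [show (nn h).range.relIndex (BB h) = 8 by omega, mul_one, inv_mul_cancel, show μ (cc h 1) = 1 from hl.2]
      norm_num [map_ofNat]
    intro t ht h1
    rw [ind_eq_zero fun x _ hx => absurd ?_ h1, map_zero, mul_zero]
    have h4 := orderOf_dvd_natCard (⟨_, hx⟩ : (nn h).range)
    have h5 := orderOf_dvd_natCard (⟨t, mem_elems.1 ht⟩ : TT h)
    rw [card_nn, orderOf_mk, ← (SemiconjBy.conj_mk _ _).orderOf_eq] at h4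
    rw [card_TT, orderOf_mk] at h5
    exact orderOf_eq_one_iff.1 (Nat.eq_one_of_dvd_coprimes (by norm_num) h4 h5)
  have h4 : ∀ χ, IrrOn ⊤ χ → dot ⊤ χ (a + b) = 1 → mult (nn h).range χ 1 ≠ 0 ∧
      charDegree χ % 2 = mult (nn h).range χ 1 % 2 ∧ charDegree χ ∣ 6048 ∧ charDegree χ ≠ 1 := fun χ hχ hd => by
    have h5 := (hχ.charOn.mono (le_top : (nn h).range ≤ ⊤)).dot_eq_mult (charOn_one _)
    rw [← e, dot_ind_right le_top hχ.classOn] at hd
    refine ⟨fun h0 => (hχ.charOn.mono le_top).dot_ne_zero_trans nn_le hl.irrOn (charOn_one _) (by simp [hd]) (by simp [h2])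
      (by simp [h5, h0]), ?_, card_G h ▸ card_top (G := SU3 h) ▸ hχ.deg_dvd_card, fun h6 => ?_⟩
    · have := (hχ.genOn.mono le_top).coef_one_modEq bot_le (nrm_of_normal _ _)
        (by rw [relIndex_bot_left, card_nn]; decide) (real_nn hχ.charOn)
      rw [coef_of_eq (n := charDegree χ) (by simp [dot_bot, hχ.one_eq]), coef_of_eq (n := mult (nn h).range χ 1) (by simp [h5])] at this
      exact (ZMod.natCast_eq_natCast_iff' _ _ 2).1 (by exact_mod_cast this)
    · rw [eq_one_of_deg hp hχ h6, (irrOn_one _).dot_eq_zero hl.irrOn] at hd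
      · simp at hd
      refine fun H => (by norm_num : (2 : ℕ) ≠ 1) (hμ ▸ orderOf_eq_one_iff.2 (MulChar.ext fun c => ?_))
      simpa [cc, dd_apply] using (H _ (dd_smul_none c)).symm
  have h5 : dot ⊤ a b = 0 := ha.dot_eq_zero hb fun H => hab (funext fun x => H x (mem_top x))
  obtain ⟨a1, a2, a3, a4⟩ := h4 a ha (by rw [dot_add_right, ha.dot_self, h5, add_zero])
  obtain ⟨b1, b2, b3, b4⟩ := h4 b hb (by rw [dot_add_right, hb.dot_self, dot_eq_zero_comm.1 h5, zero_add])
  rw [dot_add_left, (ha.charOn.mono le_top).dot_eq_mult (charOn_one _), (hb.charOn.mono le_top).dot_eq_mult (charOn_one _)] at h3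
  have h6 := ind_cc_one (h := h) μ
  rw [e, Pi.add_apply, ha.one_eq, hb.one_eq] at h6
  norm_cast at h3 h6
  have : charDegree a = 21 ∨ charDegree b = 21 := by
    have h7 : charDegree a % 2 = 1 := by omega
    have h8 : charDegree a ≤ 28 := by omega
    rw [show charDegree b = 28 - charDegree a by omega] at b3 b4 ⊢
    generalize charDegree a = d at *
    interval_cases d <;> omega
  exact this.elim (fun h => ⟨⟨a, irrOn_top.1 ha⟩, h⟩) fun h => ⟨⟨b, irrOn_top.1 hb⟩, h⟩

theorem deg6 (hp : commutator (SU3 h) = ⊤) (h7 : ∀ r ∈ ({2, 3} : Finset ℕ), 7 * r ∉ Set.range (orderOf : SU3 h → ℕ)) :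
    ∃ d ∈ charDegrees (SU3 h), 6 ∣ d := by
  have hl := lin_cc (h := h) 1
  refine exists_six (card_G h) hp h7 (hl.charOn.ind le_top) (ind_cc_one 1) (by rw [dot_ind_cc, if_pos (one_pow _)]) ?_
    fun g hg => ind_eq_zero fun x _ hx => absurd (hg.trans ?_) (by norm_num : ¬ 7 ∣ 216)
  · rw [dot_ind_left le_top _ (classOn_one _), hl.irrOn.dot_eq_one (ψ := 1) fun b hb =>
      MulChar.one_apply (isUnit_iff_ne_zero.2 fun e => hl.ne_zero hb (by simp [e, MulChar.map_zero]))]
  · have h4 := orderOf_dvd_natCard (⟨_, hx⟩ : BB h)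
    rwa [card_BB, orderOf_mk, ← (SemiconjBy.conj_mk _ _).orderOf_eq] at h4

end


/-- The character degree graph of a finite group has as vertices the primes dividing some irreducible complex character degree, two distinct primes being joined when their product divides some irreducible character degree; two groups have the same character degree graph when they have the same vertices and the same joined pairs. Let F be the field with 9 elements and L = PSU(3,3) realised over F (order 6048). There is a finite solvable group of order 6048 with the same character degree graph as L; so L is not determined by its order together with its character degree graph. -/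
theorem result {F : Type*} [Field F] [Fintype F] (hF : Fintype.card F = 9) :
    ∃ (H : Type) (_ : Group H) (_ : Fintype H), Group.IsSolvable H ∧ Nat.card H = 6048 ∧ Cfsg.degreePrimes H = Cfsg.degreePrimes (Cfsg.PSU 3 F 3) ∧ Cfsg.degreeGraph H = Cfsg.degreeGraph (Cfsg.PSU 3 F 3) := by
  obtain ⟨σ, h⟩ := isConj_of_card (q := 3) hF
  obtain ⟨e⟩ := nonempty_psu h
  have hz : center (SU3 h) = ⊥ := card_eq_one.1 (card_center_SU3 h)
  have e := e.trans ((QuotientGroup.quotientMulEquivOfEq hz).trans QuotientGroup.quotientBot)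
  have := S0283.result (q := 3) hF 3 le_rfl (by simp)
  have hs := e.symm.isSimpleGroup
  have := Fact.mk Nat.prime_three
  have : CharP F 3 := (CharP.charP_iff_prime_eq_zero Nat.prime_three).2 (three (h := h))
  have h7 := S2366.result 3 (by norm_num) 3 hF
  rw [spec_congr e] at h7
  have hp : commutator (SU3 h) = ⊤ := (hs.eq_bot_or_eq_top_of_normal _ inferInstance).resolve_left fun h0 => by
    have := card_G h
    rw [← card_top, ← (commutator_eq_bot_iff_center_eq_top _).1 h0, hz, card_bot] at this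
    omega
  obtain ⟨H, _, _, h1, h2, h3⟩ := exists_solv
  obtain ⟨a1, a2⟩ := graph_eq h2 fun m hm => ⟨42, h3, by revert m; decide⟩
  have := Finite.of_equiv _ e.symm.toEquiv
  obtain ⟨b1, b2⟩ := graph_eq ((Nat.card_congr e.toEquiv).trans (card_G h)) (by
    rw [Known.charDegrees_congr e]
    simp only [Finset.mem_insert, Finset.mem_singleton, forall_eq_or_imp, forall_eq]
    exact ⟨deg6 hp (by rw [h7]; decide), ⟨28, deg28, by norm_num⟩, 21, deg21 hp, dvd_rfl⟩)
  exact ⟨H, inferInstance, Fintype.ofFinite H, h1, h2, a1.trans b1.symm, SimpleGraph.ext (funext₂ fun p q =>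
    propext ((a2 p q).trans (b2 p q).symm))⟩

end Cfsg.Agent.S3670
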