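import Cfsg.Statements.S3678
import Cfsg.Agent.Lib.Exc.Nat2

set_option autoImplicit false
open Cfsg

namespace Cfsg.Agent.S3678

open Cfsg.Lib Cfsg.Lib.Exc

/-- The prime graph of a finite group has the prime divisors of its order as vertices, two distinct primes p, q being joined when the group has an element of order pq; two groups have the same prime graph when they have the same prime divisors and the same joined pairs. Let F be the field with 7 elements. There are finite groups of arbitrarily large order with the same prime graph as PSL(2,F) (the graph on {2, 3, 7} with no edges, which is also the prime graph of PSL(2,8)). -/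
theorem result {F : Type*} [Field F] [Fintype F] (hF : Fintype.card F = 7) (N : ℕ) :
    ∃ (H : Type) (_ : Group H) (_ : Finite H), N < Nat.card H ∧
      ((∀ p : ℕ, p.Prime → (p ∣ Nat.card (Matrix.ProjectiveSpecialLinearGroup (Fin 2) F) ↔ p ∣ Nat.card H)) ∧
      (∀ p q : ℕ, p.Prime → q.Prime → p ≠ q → ((∃ g : (Matrix.ProjectiveSpecialLinearGroup (Fin 2) F), orderOf g = p * q) ↔ (∃ g : H, orderOf g = p * q)))) := by
  have := Fintype.ofFinite (GaloisField 2 3)
  obtain ⟨H, _, _, h1, h2⟩ := exists_ext (F := GaloisField 2 3) (n := 3)
    (Nat.card_eq_fintype_card.symm.trans (GaloisField.card 2 3 (by norm_num))) N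
  refine ⟨H, _, ‹_›, h1, primeGraph_of_spec fun m hm => ?_⟩
  have := Fact.mk (by norm_num : Nat.Prime 7)
  have : CharP F 7 := charP_of_card_eq_prime hF
  rw [Known.PSL2_spectrum 7, h2, Nat.card_eq_fintype_card, hF, ← hm.dvd_pow_iff_dvd (y := _ / _) two_ne_zero]
  norm_num
  tauto

end Cfsg.Agent.S3678
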