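import Cfsg.Statements.S3680
import Cfsg.Agent.S0721
import Cfsg.Agent.S0549
import Cfsg.Agent.S0550
import Cfsg.Agent.Lib.Perm.Basic

set_option autoImplicit false
open Cfsg

namespace Cfsg.Agent.S3680

open MulAction



/-- The socle of a finite primitive permutation group. Let a finite group G act faithfully and primitively on a set Ω, and let N be the subgroup generated by the minimal normal subgroups of G. Then either N is an elementary abelian p-group for some prime p and acts regularly on Ω (transitively with trivial point stabilizers), or N is isomorphic to a direct product of m ≥ 1 copies of a non-abelian simple group. -/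
theorem result {G Ω : Type*} [Group G] [Finite G] [MulAction G Ω] [FaithfulSMul G Ω] [Finite Ω]
    (hprim : MulAction.IsPreprimitive G Ω) (N : Subgroup G)
    (hN : N = sSup {V : Subgroup G | V.Normal ∧ V ≠ ⊥ ∧ ∀ M : Subgroup G, M.Normal → M ≤ V → M = ⊥ ∨ M = V}) :
    (∃ p : ℕ, p.Prime ∧ IsMulCommutative N ∧ (∀ x : N, x ^ p = 1) ∧
      MulAction.IsPretransitive N Ω ∧ ∀ ω : Ω, MulAction.stabilizer N ω = ⊥) ∨
    (∃ (T : Type) (_ : Group T) (m : ℕ), 1 ≤ m ∧ IsSimpleGroup T ∧ ¬ IsMulCommutative T ∧ Nonempty (N ≃* (Fin m → T))) := by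
  classical
  rcases subsingleton_or_nontrivial G with hG | hG
  · left
    refine ⟨2, Nat.prime_two, ⟨⟨fun a b => Subsingleton.elim _ _⟩⟩, fun x => Subsingleton.elim _ _,
      ⟨fun a b => ?_⟩, fun ω => Subsingleton.elim _ _⟩
    obtain ⟨g, rfl⟩ := exists_smul_eq G a b
    exact ⟨1, by rw [Subsingleton.elim g 1, one_smul, one_smul]⟩
  have hΩ : Nontrivial Ω := by
    obtain ⟨g, hg⟩ := exists_ne (1 : G)
    by_contra h
    rw [not_nontrivial_iff_subsingleton] at h
    exact hg (eq_of_smul_eq_smul (α := Ω) fun a => Subsingleton.elim _ _)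
  have hU : ∀ ω : Ω, IsCoatom (stabilizer G ω) := fun ω => (isCoatom_stabilizer_iff_preprimitive G ω).2 hprim
  have hc : ∀ ω : Ω, (stabilizer G ω).normalCore = ⊥ := fun ω => by
    rw [eq_bot_iff]
    intro g hg
    apply eq_of_smul_eq_smul (α := Ω)
    intro a
    obtain ⟨k, rfl⟩ := exists_smul_eq G ω a
    have : (k⁻¹ * g * k⁻¹⁻¹) • ω = ω := hg k⁻¹
    rw [inv_inv, mul_smul, mul_smul, inv_smul_eq_iff] at this
    rw [this, one_smul]
  obtain ⟨ω₀⟩ : Nonempty Ω := inferInstance
  obtain ⟨A, hA, hA0, hAm⟩ := Cfsg.Lib.Hall.exists_minNormal (G := G)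
  obtain ⟨T, _, m, hT, hm, ⟨e⟩⟩ := S0721.result A hA0 hAm
  have hcomm : IsMulCommutative T → IsMulCommutative A := fun h =>
    ⟨⟨fun a b => e.injective (by rw [map_mul, map_mul]; exact funext fun i => h.is_comm.comm _ _)⟩⟩
  by_cases h : ∀ B : Subgroup G, B.Normal → B ≠ ⊥ → (∀ M : Subgroup G, M.Normal → M ≤ B → M = ⊥ ∨ M = B) → B = A
  · have : N = A := hN.trans (le_antisymm (sSup_le fun B hB => (h B hB.1 hB.2.1 hB.2.2).le)
      (le_sSup ⟨hA, hA0, hAm⟩))
    subst this
    by_cases hab : IsMulCommutative N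
    · left
      obtain ⟨p, hp, h1⟩ := Cfsg.Lib.Hall.exists_prime_pow_eq_one_of_minNormal_comm hA0 hAm
      refine ⟨p, hp, hab, fun x => Subtype.ext (h1 x x.2), Cfsg.Lib.Perm.isPretransitive_of_normal N hA0,
        fun ω => ?_⟩
      rw [eq_bot_iff]
      intro x hx
      have h2 := (S0549.result _ (hU ω) (hc ω) N hA0).1
      have : x.1 ∈ Subgroup.centralizer (N : Set G) ⊓ stabilizer G ω :=
        ⟨Subgroup.le_centralizer N x.2, hx⟩
      rw [h2] at this
      exact Subtype.ext this
    · exact Or.inr ⟨T, inferInstance, m, hm, hT, fun h => hab (hcomm h), ⟨e⟩⟩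
  · push Not at h
    obtain ⟨B, hB, hB0, hBm, hBA⟩ := h
    obtain ⟨h1, h2, -, -, h3, ⟨f⟩, -⟩ := S0550.result _ (hU ω₀) (hc ω₀) A B hA0 hB0 hAm hBm hBA.symm
    have : N = A ⊔ B := hN.trans (le_antisymm (sSup_le fun L hL => by
      haveI := hL.1
      by_cases hLA : L = A
      · exact hLA ▸ le_sup_left
      · have := (S0550.result _ (hU ω₀) (hc ω₀) A L hA0 hL.2.1 hAm hL.2.2 (Ne.symm hLA)).2.1
        rw [← this, h2]; exact le_sup_right)
      (sup_le (le_sSup ⟨hA, hA0, hAm⟩) (le_sSup ⟨hB, hB0, hBm⟩)))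
    subst this
    have hcm : ∀ (a : A) (b : B), Commute (A.subtype a) (B.subtype b) := fun a b =>
      (h2 ▸ b.2 : b.1 ∈ Subgroup.centralizer (A : Set G)) a a.2
    have hd : Disjoint A B := disjoint_iff.2 ((hAm _ inferInstance inf_le_left).resolve_right fun e =>
      hBA ((hBm A hA (inf_eq_left.1 e)).resolve_left hA0).symm)
    have hi := (MonoidHom.noncommCoprod_injective _ _ hcm).2 ⟨A.subtype_injective, B.subtype_injective, by
      simpa using hd⟩
    have hr := MonoidHom.noncommCoprod_range _ _ hcm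
    rw [Subgroup.range_subtype, Subgroup.range_subtype] at hr
    let e2 : (Fin m → T) × (Fin m → T) ≃* (Fin (m + m) → T) :=
      { Fin.appendEquiv m m with
        map_mul' := fun x y => by
          ext i
          refine Fin.addCases (fun i => ?_) (fun i => ?_) i <;> simp [-Fin.natAdd_eq_addNat] }
    exact Or.inr ⟨T, inferInstance, m + m, by omega, hT, fun h => h3 (hcomm h),
      ⟨(MulEquiv.subgroupCongr hr.symm).trans ((MonoidHom.ofInjective hi).symm.trans
        ((MulEquiv.prodCongr e (f.symm.trans e)).trans e2))⟩⟩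

end Cfsg.Agent.S3680
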