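import Cfsg.Statements.S3681
import Cfsg.Agent.Lib.FG.JSet

set_option autoImplicit false
open Cfsg

namespace Cfsg.Agent.S3681

open Finset MulAction


/-- Bochert's bound for primitive groups. Let a finite group G act faithfully and primitively on a finite set Ω with n elements, and suppose the image of G in the symmetric group of Ω does not contain the alternating group of Ω. Then |G| · ⌊(n + 1)/2⌋! ≤ n!, that is, the index of G in the symmetric group is at least ⌊(n + 1)/2⌋!. -/
theorem result {G Ω : Type*} [Group G] [Finite G] [MulAction G Ω] [FaithfulSMul G Ω] [Fintype Ω] [DecidableEq Ω]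
    (hprim : MulAction.IsPreprimitive G Ω) (hA : ¬ alternatingGroup Ω ≤ (MulAction.toPermHom G Ω).range) :
    Nat.card G * Nat.factorial ((Fintype.card Ω + 1) / 2) ≤ Nat.factorial (Fintype.card Ω) := by
  let P : Finset Ω → Prop := fun Δ => ∀ g : G, (∀ x ∈ Δ, g • x = x) → g = 1
  have hP : ∀ Δ, ¬ P Δ → ∃ g : G, (∀ x ∈ Δ, g • x = x) ∧ ∃ y, g • y ≠ y := fun Δ h => by
    by_contra hc
    push Not at hc
    exact h fun g hg => eq_of_smul_eq_smul fun y : Ω => by rw [hc g hg, one_smul]
  classical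
  obtain ⟨Δ, h1, h2⟩ := exists_min_image (univ.filter P) card ⟨univ, by
    simpa [P] using fun g hg => eq_of_smul_eq_smul fun y : Ω => by rw [hg, one_smul]⟩
  simp only [mem_filter, mem_univ, true_and] at h1 h2
  have h3 : #Δ ≤ #Δᶜ := by
    by_contra h
    obtain ⟨g, hg, x, hx⟩ := hP Δᶜ fun h' => h (h2 _ h')
    have hxΔ : x ∈ Δ := by_contra fun h' => hx (hg x (mem_compl.2 h'))
    obtain ⟨k, hk, y, hy⟩ := hP (Δ.erase x) fun h' => (h2 _ h').not_gt (card_erase_lt_of_mem hxΔ)
    haveI : IsPreprimitive (toPermHom G Ω).range Ω := IsPreprimitive.of_surjective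
      (f := (⟨id, fun _ _ => rfl⟩ : Ω →ₑ[(toPermHom G Ω).rangeRestrict] Ω)) Function.surjective_id
    refine hA (Equiv.Perm.alternatingGroup_le_of_isPreprimitive_of_isThreeCycle_mem this
      (Lib.FG.isThreeCycle_commutator (g := toPermHom G Ω g) (h := toPermHom G Ω k) (x := x) hx (fun e => hy ?_) fun z hz => ?_)
      ⟨g * k * g⁻¹ * k⁻¹, by simp only [map_mul, map_inv]⟩)
    · rw [h1 k fun z hz => (eq_or_ne z x).elim (fun h => h ▸ e) fun h => hk z (mem_erase.2 ⟨h, hz⟩), one_smul]
    · exact (em (z ∈ Δ)).symm.imp (fun h => hg z (mem_compl.2 h)) fun h => hk z (mem_erase.2 ⟨hz, h⟩)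
  have h4 := Nat.card_le_card_of_injective (fun g : G => (⟨fun x => g • x.1, fun _ _ h => Subtype.ext (MulAction.injective g h)⟩ : Δ ↪ Ω))
    fun g k h => (inv_mul_eq_one.1 (h1 (k⁻¹ * g) fun x hx => by
      rw [mul_smul, inv_smul_eq_iff]; exact DFunLike.congr_fun h ⟨x, hx⟩)).symm
  rw [Nat.card_eq_fintype_card (α := _ ↪ _), Fintype.card_embedding_eq, Fintype.card_coe] at h4
  rw [card_compl] at h3
  rw [← Nat.factorial_mul_descFactorial (card_le_univ Δ), mul_comm]
  exact Nat.mul_le_mul (Nat.factorial_le (by omega)) h4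

end Cfsg.Agent.S3681
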