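import Cfsg.Statements.S3683
import Cfsg.Agent.Lib.Layer.Misc

set_option autoImplicit false
open Cfsg

namespace Cfsg.Agent.S3683

open Subgroup Cfsg.Lib.Core Cfsg.Lib.Amalg Cfsg.Lib.BG1 Cfsg.Lib.Layer

/-- Let a finite group G act faithfully and primitively on a set Ω, and suppose the stabilizer of a point a fixes a second point b ≠ a (a suborbit of length 1 other than {a}). Then the stabilizer of a is trivial and G is cyclic of prime order. -/
theorem result {G Ω : Type*} [Group G] [Finite G] [MulAction G Ω] [FaithfulSMul G Ω] [Finite Ω]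
    (hprim : MulAction.IsPreprimitive G Ω) (a b : Ω) (hab : a ≠ b) (hfix : ∀ g : G, g • a = a → g • b = b) :
    MulAction.stabilizer G a = ⊥ ∧ IsCyclic G ∧ (Nat.card G).Prime := by
  have : Nontrivial Ω := ⟨a, b, hab⟩
  have hc := fun a : Ω => MulAction.IsPreprimitive.isCoatom_stabilizer_of_isPreprimitive G a
  have h1 : MulAction.stabilizer G b = MulAction.stabilizer G a := ((hc a).le_iff.1 fun g hg => hfix g hg).resolve_left (hc b).1
  obtain ⟨g, rfl⟩ := hprim.exists_smul_eq a b
  have h2 : normalizer (MulAction.stabilizer G a : Set G) = ⊤ := by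
    refine ((hc a).le_iff.1 le_normalizer).resolve_right fun e => hab.symm ?_
    have : g ∈ normalizer (MulAction.stabilizer G a : Set G) := by
      rw [mem_normalizer_iff]
      intro x
      conv_rhs => rw [← h1]
      simp [mul_smul]
    rwa [e] at this
  have hn := normalizer_eq_top_iff.1 h2
  have h3 : MulAction.stabilizer G a = ⊥ := by
    refine (eq_bot_iff_forall _).2 fun x hx => FaithfulSMul.eq_of_smul_eq_smul (α := Ω) fun c => ?_
    obtain ⟨k, rfl⟩ := hprim.exists_smul_eq a c
    have := hn.conj_mem _ hx k⁻¹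
    rw [MulAction.mem_stabilizer_iff, inv_inv, mul_smul, mul_smul, inv_smul_eq_iff] at this
    rw [this, one_smul]
  have h4 := h3 ▸ hc a
  have : Nontrivial G := (Subgroup.nontrivial_iff (G := G)).1 ⟨⟨_, _, h4.1⟩⟩
  have hs : IsSimpleGroup G := ⟨fun H _ => (h4.le_iff.1 bot_le).symm⟩
  obtain ⟨x, hx⟩ := exists_ne (1 : G)
  have hcyc : IsCyclic G := isCyclic_iff_exists_zpowers_eq_top.2 ⟨x, (h4.le_iff.1 bot_le).resolve_right (by simpa using hx)⟩
  letI := hcyc.commGroup
  exact ⟨h3, hcyc, IsSimpleGroup.prime_card⟩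

end Cfsg.Agent.S3683
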