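import Cfsg.Statements.S3684
import Cfsg.Agent.Lib.Layer.Misc
import Cfsg.Agent.Lib.Invol.Basic
import Cfsg.Agent.Lib.PGrp.Cyclic

set_option autoImplicit false
open Cfsg

namespace Cfsg.Agent.S3684

open Subgroup Cfsg.Lib.Core Cfsg.Lib.Amalg Cfsg.Lib.BG1 Cfsg.Lib.Layer
theorem two_mem {G : Type*} [Group G] [Finite G] {H : Subgroup G} (h : Nat.card H = 2) : ∃ s, s ≠ 1 ∧ s * s = 1 ∧ zpowers s = H := by
  obtain ⟨x, hx⟩ := exists_prime_orderOf_dvd_card' (G := H) 2 (by rw [h])
  rw [← orderOf_coe] at hx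
  refine ⟨x, fun e => by simp [e] at hx, by rw [← pow_two, ← hx, pow_orderOf_eq_one], eq_of_le_of_card_ge (zpowers_le.2 x.2) ?_⟩
  rw [h, Nat.card_zpowers, hx]


/-- Let a finite group G act faithfully and primitively on a set Ω, and suppose the stabilizer of a point a has an orbit of length 2. Then the stabilizer of a has order 2 and G is isomorphic to the dihedral group of order 2p for some prime p. -/
theorem result {G Ω : Type*} [Group G] [Finite G] [MulAction G Ω] [FaithfulSMul G Ω] [Finite Ω]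
    (hprim : MulAction.IsPreprimitive G Ω) (a b : Ω) (h2 : Nat.card (MulAction.orbit (MulAction.stabilizer G a) b) = 2) :
    Nat.card (MulAction.stabilizer G a) = 2 ∧ ∃ p : ℕ, p.Prime ∧ Nonempty (G ≃* DihedralGroup p) := by
  set A := MulAction.stabilizer G a with hA
  set B := MulAction.stabilizer G b with hB
  have i1 : B.relIndex A = 2 := by
    rw [← h2, Nat.card_coe_set_eq, ← MulAction.index_stabilizer]; rfl
  have hBA : ¬ A ≤ B := fun h => by rw [relIndex_eq_one.2 h] at i1; omega
  have hab : a ≠ b := by rintro rfl; exact hBA le_rfl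
  have : Nontrivial Ω := ⟨a, b, hab⟩
  have hc : IsCoatom A := MulAction.IsPreprimitive.isCoatom_stabilizer_of_isPreprimitive G a
  have hcB : IsCoatom B := MulAction.IsPreprimitive.isCoatom_stabilizer_of_isPreprimitive G b
  have hcard : Nat.card A = Nat.card B := by
    have e1 := A.index_mul_card
    have e2 := B.index_mul_card
    rw [MulAction.index_stabilizer_of_transitive] at e1 e2
    exact Nat.eq_of_mul_eq_mul_left Nat.card_pos (e1.trans e2.symm)
  have c1 : Nat.card ↥(A ⊓ B) * 2 = Nat.card A := by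
    rw [← i1, ← inf_relIndex_left]; exact Lib.Core.card_mul_relIndex inf_le_left
  have i2 : A.relIndex B = 2 := by
    have : Nat.card ↥(A ⊓ B) * (A ⊓ B).relIndex B = Nat.card B := Lib.Core.card_mul_relIndex inf_le_right
    rw [← hcard, ← c1, inf_relIndex_right] at this
    exact Nat.eq_of_mul_eq_mul_left Nat.card_pos this
  have hsup : A ⊔ B = ⊤ := (hcB.le_iff.1 le_sup_right).resolve_right fun e => hBA (e ▸ le_sup_left)
  have n1 : A ≤ normalizer ((A ⊓ B : Subgroup G) : Set G) := by
    have := normal_of_index_eq_two (H := (A ⊓ B).subgroupOf A) (by rw [← i1, ← inf_relIndex_left]; rfl)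
    exact (normal_subgroupOf_iff_le_normalizer inf_le_left).1 this
  have n2 : B ≤ normalizer ((A ⊓ B : Subgroup G) : Set G) := by
    have := normal_of_index_eq_two (H := (A ⊓ B).subgroupOf B) (by rw [← i2, ← inf_relIndex_right]; rfl)
    exact (normal_subgroupOf_iff_le_normalizer inf_le_right).1 this
  have hn : (A ⊓ B).Normal := normalizer_eq_top_iff.1 (top_le_iff.1 (hsup ▸ sup_le n1 n2))
  have h3 : A ⊓ B = ⊥ := by
    refine (eq_bot_iff_forall _).2 fun x hx => FaithfulSMul.eq_of_smul_eq_smul (α := Ω) fun c => ?_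
    obtain ⟨k, rfl⟩ := hprim.exists_smul_eq a c
    have : k⁻¹ * x * k⁻¹⁻¹ ∈ MulAction.stabilizer G a := (hn.conj_mem _ hx k⁻¹).1
    rw [MulAction.mem_stabilizer_iff, inv_inv, mul_smul, mul_smul, inv_smul_eq_iff] at this
    rw [this, one_smul]
  rw [h3, card_bot] at c1
  refine ⟨c1.symm, ?_⟩
  obtain ⟨s, s1, s2, hs⟩ := two_mem c1.symm
  obtain ⟨t, t1, t2, ht⟩ := two_mem (hcard.symm.trans c1.symm)
  have si := inv_eq_of_mul_eq_one_right s2
  have ti := inv_eq_of_mul_eq_one_right t2
  have hinv : s * (s * t) * s⁻¹ = (s * t)⁻¹ := by rw [mul_inv_rev, si, ti, ← mul_assoc, s2, one_mul]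
  have htop : closure {s, s * t} = ⊤ := by
    rw [eq_top_iff, ← hsup, ← hs, ← ht]
    refine sup_le (zpowers_le.2 (subset_closure (by simp))) (zpowers_le.2 ?_)
    exact (mul_mem_cancel_left (subset_closure (by simp : s ∈ ({s, s * t} : Set G)))).1 (subset_closure (by simp))
  have hinv' : ∀ y ∈ zpowers (s * t), s * y * s⁻¹ = y⁻¹ := by
    rintro _ ⟨k, rfl⟩
    simp only
    rw [← conj_zpow, hinv, inv_zpow]
  have hst : s ∉ zpowers (s * t) := fun h => by
    have ht' : t ∈ zpowers (s * t) := (mul_mem_cancel_left h).1 (mem_zpowers _)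
    have := Lib.PGrp.mem_zpowers_of_pow_eq_one (C := zpowers (s * t)) inferInstance h ht' (by
      rw [orderOf_eq_prime (p := 2) (by rw [pow_two, t2]) t1, pow_two, s2])
    exact hBA (hs ▸ ht ▸ zpowers_le.2 this)
  obtain ⟨e⟩ := Lib.Invol.closure_mulEquiv_dihedral s2 hinv rfl hst
  refine ⟨orderOf (s * t), ?_, ⟨(topEquiv.symm.trans (MulEquiv.subgroupCongr htop.symm)).trans e⟩⟩
  have hne : s * t ≠ 1 := fun h => hBA (hs ▸ ht ▸ zpowers_le.2 (by
    rw [eq_inv_of_mul_eq_one_left h]; exact inv_mem (mem_zpowers t)))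
  obtain ⟨p, hp, hd⟩ := Nat.exists_prime_and_dvd (mt orderOf_eq_one_iff.1 hne)
  obtain ⟨k, hk⟩ := hd
  have hk0 : k ≠ 0 := by rintro rfl; exact (orderOf_pos (s * t)).ne' hk
  have ho : orderOf ((s * t) ^ k) = p := by
    rw [orderOf_pow_of_dvd hk0 ⟨p, hk.trans (mul_comm _ _)⟩, hk, Nat.mul_div_cancel _ (Nat.pos_of_ne_zero hk0)]
  have hle : zpowers ((s * t) ^ k) ≤ zpowers (s * t) := zpowers_le.2 (pow_mem (mem_zpowers _) _)
  let K : Subgroup G :=
    { carrier := {y | y ∈ zpowers ((s * t) ^ k) ∨ s * y ∈ zpowers ((s * t) ^ k)}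
      one_mem' := Or.inl (one_mem _)
      inv_mem' := by
        rintro y (h | h)
        · exact Or.inl (inv_mem h)
        · refine Or.inr ?_
          have := hinv' _ (hle (inv_mem h))
          rw [show s * y⁻¹ = s * (s * y)⁻¹ * s⁻¹⁻¹ by group, inv_inv, ← si, si, show s * (s * y)⁻¹ * s = s * (s * y)⁻¹ * s⁻¹ by rw [si], this]
          exact inv_mem (inv_mem h)
      mul_mem' := by
        rintro y z (h | h) (h' | h')
        · exact Or.inl (mul_mem h h')
        · refine Or.inr ?_
          rw [show s * (y * z) = s * y * s⁻¹ * (s * z) by group, hinv' _ (hle h)]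
          exact mul_mem (inv_mem h) h'
        · exact Or.inr (by rw [← mul_assoc]; exact mul_mem h h')
        · refine Or.inl ?_
          rw [show y * z = s⁻¹ * (s * y) * s⁻¹ * (s * z) by group, show s⁻¹ * (s * y) = s * (s * y) by rw [si], hinv' _ (hle h)]
          exact mul_mem (inv_mem h) h' }
  have hAK : A ≤ K := hs ▸ zpowers_le.2 (Or.inr (s2 ▸ one_mem _))
  rcases hc.le_iff.1 hAK with e | e
  · rcases (e ▸ mem_top (s * t) : s * t ∈ K) with h | h
    · have := orderOf_dvd_of_mem_zpowers h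
      rw [ho] at this
      rwa [(hp.eq_one_or_self_of_dvd _ this).resolve_left (mt orderOf_eq_one_iff.1 hne)]
    · exact absurd ((mul_mem_cancel_right (mem_zpowers _)).1 (hle h)) hst
  · have h4 : (s * t) ^ k ∈ zpowers s := hs ▸ e ▸ Or.inl (mem_zpowers _)
    have h5 : zpowers ((s * t) ^ k) = zpowers s := eq_of_le_of_card_ge (zpowers_le.2 h4) (by
      rw [hs, ← c1, Nat.card_zpowers, ho]; exact hp.two_le)
    exact absurd (hle (h5 ▸ mem_zpowers s)) hst

end Cfsg.Agent.S3684
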