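import Cfsg.Statements.S3687
import Cfsg.Agent.Lib.AltSub.B

set_option autoImplicit false
open Subgroup Equiv Equiv.Perm Cfsg.Lib.Core Cfsg.Lib.Amalg Cfsg.Lib.BG1 Cfsg.Lib.Layer Cfsg.Lib.AltSub

namespace Cfsg.Agent.S3687

theorem classify {H α γ : Type*} [Group H] [Fintype α] [DecidableEq α] [Fintype γ] [DecidableEq γ]
    (φ : H →* Perm α) (Ψ : H →* Perm γ) (h1 : ∀ m, φ m = 1 → Ψ m = 1 → m = 1)
    (h2 : ∀ s t, sign s = 1 → sign t = 1 → ∃ m, φ m = s ∧ Ψ m = t) (R : Subgroup (Perm α × Perm γ))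
    (h3 : ∀ s t, (s, t) ∈ R ↔ ∃ m, sign (φ m) = sign s ∧ sign (Ψ m) = sign t) : Nonempty (H ≃* R) := by
  have hi : Function.Injective (φ.prod Ψ) := (injective_iff_map_eq_one _).2 fun m hm =>
    h1 m (congrArg Prod.fst hm) (congrArg Prod.snd hm)
  refine ⟨(MonoidHom.ofInjective hi).trans (MulEquiv.subgroupCongr (Subgroup.ext fun ⟨s, t⟩ => ?_))⟩
  rw [h3]
  refine ⟨fun ⟨m, hm⟩ => ⟨m, congrArg (fun x => sign x.1) hm, congrArg (fun x => sign x.2) hm⟩, fun ⟨m, a, b⟩ => ?_⟩
  obtain ⟨k, c, d⟩ := h2 ((φ m)⁻¹ * s) ((Ψ m)⁻¹ * t) (by simp [a]) (by simp [b])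
  exact ⟨m * k, by simp [c, d]⟩

theorem classify2 {H α γ : Type*} [Group H] [Fintype α] [DecidableEq α] [Fintype γ] [DecidableEq γ]
    (φ : H →* Perm α) (Ψ : H →* Perm γ) (h1 : ∀ m, φ m = 1 → Ψ m = 1 → m = 1)
    (h2 : ∀ s t, sign s = 1 → sign t = 1 → ∃ m, φ m = s ∧ Ψ m = t) (m0 : H) (h0 : sign (φ m0) = -1) :
    Nonempty (H ≃* Perm α × Perm γ) ∨ Nonempty (H ≃* Perm α × alternatingGroup γ) ∨
      Nonempty (H ≃* ((sign.comp (MonoidHom.fst (Perm α) (Perm γ))) * (sign.comp (MonoidHom.snd (Perm α) (Perm γ)))).ker) := by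
  by_cases c1 : ∀ m, sign (Ψ m) = 1
  · obtain ⟨e⟩ := classify φ Ψ h1 h2 ((⊤ : Subgroup (Perm α)).prod (alternatingGroup γ)) fun s t => by
      simp only [mem_prod, mem_top, true_and, mem_alternatingGroup, c1]
      refine ⟨fun a => ?_, fun ⟨_, _, a⟩ => a.symm⟩
      rcases Int.units_eq_one_or (sign s) with b | b
      · exact ⟨1, by simp [b], a.symm⟩
      · exact ⟨m0, h0.trans b.symm, a.symm⟩
    exact .inr (.inl ⟨e.trans ((prodEquiv _ _).trans (topEquiv.prodCongr (MulEquiv.refl _)))⟩)
  by_cases c2 : ∀ m, sign (Ψ m) = sign (φ m)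
  · refine .inr (.inr (classify φ Ψ h1 h2 _ fun s t => ?_))
    simp only [MonoidHom.mem_ker, MonoidHom.mul_apply, MonoidHom.comp_apply, MonoidHom.coe_fst, MonoidHom.coe_snd, c2]
    refine ⟨fun a => ?_, fun ⟨m, a, b⟩ => by rw [← a, ← b, Int.units_mul_self]⟩
    rcases Int.units_eq_one_or (sign s) with b | b <;> rw [b] at a ⊢
    · exact ⟨1, by simp, by simpa using a.symm⟩
    · exact ⟨m0, h0, by rw [h0, ← a]; simp⟩
  push Not at c1 c2
  obtain ⟨m1, c1⟩ := c1
  obtain ⟨m2, c2⟩ := c2
  obtain ⟨e⟩ := classify φ Ψ h1 h2 ⊤ fun s t => by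
    refine iff_of_true (mem_top _) ?_
    have k : ∀ a b c : Bool, ∃ m, sign (φ m) = (if a then -1 else 1) * (if b then sign (φ m1) else 1) *
        (if c then sign (φ m2) else 1) ∧ sign (Ψ m) = (if a then sign (Ψ m0) else 1) * (if b then sign (Ψ m1) else 1) *
        (if c then sign (Ψ m2) else 1) := fun a b c =>
      ⟨(if a then m0 else 1) * (if b then m1 else 1) * (if c then m2 else 1), by
        cases a <;> cases b <;> cases c <;> simp [h0]⟩
    have k2 : ∀ x1 x2 y0 y1 y2 u v : ℤˣ, y1 ≠ 1 → y2 ≠ x2 → ∃ a b c : Bool, (if a then -1 else 1) * (if b then x1 else 1) *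
        (if c then x2 else 1) = u ∧ (if a then y0 else 1) * (if b then y1 else 1) * (if c then y2 else 1) = v := by
      decide
    obtain ⟨a, b, c, e1, e2⟩ := k2 (sign (φ m1)) _ (sign (Ψ m0)) _ _ (sign s) (sign t) c1 c2
    obtain ⟨m, e3, e4⟩ := k a b c
    exact ⟨m, e3.trans e1, e4.trans e2⟩
  exact .inl ⟨e.trans topEquiv⟩

theorem loc_stab {G Ω : Type*} [Group G] [Finite G] [MulAction G Ω] (a b : Ω) (B : Subgroup G)
    [Fintype (MulAction.orbit (MulAction.stabilizer G a) b)] [DecidableEq (MulAction.orbit (MulAction.stabilizer G a) b)]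
    (hB : B = MulAction.stabilizer G a ⊓ MulAction.stabilizer G b) :
    Loc B (MulAction.toPermHom (MulAction.stabilizer G a) (MulAction.orbit (MulAction.stabilizer G a) b))
      ⟨b, MulAction.mem_orbit_self b⟩ :=
  ⟨hB ▸ inf_le_left, fun m => by
    rw [hB, Subtype.ext_iff]
    exact ⟨fun h => ⟨m.2, h⟩, fun h => h.2⟩⟩


/-- Let a finite group G act faithfully and primitively on a set Ω, let a and b be points such that the orbit Δ of b under the stabilizer H of a has d ≥ 6 elements, and suppose that the permutation group induced by H on Δ contains the alternating group of Δ (the image of H in the symmetric group of Δ has index at most 2) while H does not act faithfully on Δ. Then either H induces exactly the alternating group of Δ and H is isomorphic to the direct product of the alternating groups of degrees d and d - 1; or H induces the full symmetric group of Δ and H is isomorphic to one of: the direct product of the symmetric groups of degrees d and d - 1, the direct product of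 the symmetric group of degree d with the alternating group of degree d - 1, or the subgroup of the direct product of the symmetric groups of degrees d and d - 1 consisting of the pairs of permutations with equal signs. -/
theorem result {G Ω : Type*} [Group G] [Finite G] [MulAction G Ω] [FaithfulSMul G Ω] [Finite Ω]
    (hprim : MulAction.IsPreprimitive G Ω) (a b : Ω) (d : ℕ) (hd : Nat.card (MulAction.orbit (MulAction.stabilizer G a) b) = d) (h6 : 6 ≤ d)
    (halt : (MulAction.toPermHom (MulAction.stabilizer G a) (MulAction.orbit (MulAction.stabilizer G a) b)).range.index ≤ 2)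
    (hunf : ¬ Function.Injective (MulAction.toPermHom (MulAction.stabilizer G a) (MulAction.orbit (MulAction.stabilizer G a) b))) :
    ((MulAction.toPermHom (MulAction.stabilizer G a) (MulAction.orbit (MulAction.stabilizer G a) b)).range.index = 2 ∧
      Nonempty (MulAction.stabilizer G a ≃* alternatingGroup (Fin d) × alternatingGroup (Fin (d - 1)))) ∨
    ((MulAction.toPermHom (MulAction.stabilizer G a) (MulAction.orbit (MulAction.stabilizer G a) b)).range = ⊤ ∧
      (Nonempty (MulAction.stabilizer G a ≃* Equiv.Perm (Fin d) × Equiv.Perm (Fin (d - 1))) ∨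
       Nonempty (MulAction.stabilizer G a ≃* Equiv.Perm (Fin d) × alternatingGroup (Fin (d - 1))) ∨
       Nonempty (MulAction.stabilizer G a ≃* ((Equiv.Perm.sign.comp (MonoidHom.fst (Equiv.Perm (Fin d)) (Equiv.Perm (Fin (d - 1))))) *
         (Equiv.Perm.sign.comp (MonoidHom.snd (Equiv.Perm (Fin d)) (Equiv.Perm (Fin (d - 1)))))).ker))) := by
  classical
  obtain ⟨h1, h3, ⟨g, hg⟩, h4⟩ := tw_perm hd (by omega)
  haveI : Fintype (MulAction.orbit (MulAction.stabilizer G a) b) := Fintype.ofFinite _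
  haveI : Fintype (MulAction.orbit (MulAction.stabilizer G b) a) := Fintype.ofFinite _
  have hc : Nat.card (MulAction.orbit (MulAction.stabilizer G b) a) = d := by
    rw [← relIndex_stab, inf_comm]
    refine Nat.eq_of_mul_eq_mul_left (Nat.card_pos (α := (MulAction.stabilizer G a ⊓ MulAction.stabilizer G b : Subgroup G))) ?_
    rw [card_mul_relIndex inf_le_right, ← h4, card_mul_relIndex inf_le_left, hg, card_cj]
  have hA := alternatingGroup_le_of_index_le_two halt
  obtain ⟨Ψ, a1, a2, a3⟩ := main h1 h3 hg (loc_stab a b _ rfl) (loc_stab b a _ (inf_comm _ _)) (hd ▸ h6) (hc.trans hd.symm)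
    hA fun c => hunf ((MonoidHom.ker_eq_bot_iff _).1 ((map_eq_bot_iff_of_injective _ (subtype_injective _)).1 c))
  set φ := MulAction.toPermHom (MulAction.stabilizer G a) (MulAction.orbit (MulAction.stabilizer G a) b)
  obtain ⟨e⟩ := Finite.card_eq.1 (hd.trans (Nat.card_fin d).symm)
  obtain ⟨f⟩ := Finite.card_eq.1 (((card_ne (⟨a, MulAction.mem_orbit_self a⟩ :
    MulAction.orbit (MulAction.stabilizer G b) a)).trans (by rw [hc])).trans (Nat.card_fin (d - 1)).symm)
  have b1 : ∀ m, (e.permCongrHom.toMonoidHom.comp φ) m = 1 → (f.permCongrHom.toMonoidHom.comp Ψ) m = 1 → m = 1 :=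
    fun m c1 c2 => a1 m (e.permCongrHom.map_eq_one_iff.1 c1) (f.permCongrHom.map_eq_one_iff.1 c2)
  have b2 : ∀ s t, sign s = 1 → sign t = 1 →
      ∃ m, (e.permCongrHom.toMonoidHom.comp φ) m = s ∧ (f.permCongrHom.toMonoidHom.comp Ψ) m = t := fun s t hs ht => by
    obtain ⟨s, rfl⟩ := e.permCongr.surjective s
    obtain ⟨t, rfl⟩ := f.permCongr.surjective t
    rw [sign_permCongr] at hs ht
    obtain ⟨m, rfl, rfl⟩ := a2 s t hs ht
    exact ⟨m, rfl, rfl⟩
  haveI : Nontrivial (MulAction.orbit (MulAction.stabilizer G a) b) := Finite.one_lt_card_iff_nontrivial.1 (by omega)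
  by_cases c : ∀ m, sign (φ m) = 1
  · have c1 : φ.range = alternatingGroup _ := le_antisymm (by rintro _ ⟨m, rfl⟩; exact c m) hA
    obtain ⟨i⟩ := classify _ _ b1 b2 ((alternatingGroup _).prod (alternatingGroup _)) fun s t => by
      have e1 : ∀ m, sign ((e.permCongrHom.toMonoidHom.comp φ) m) = 1 := fun m => (sign_permCongr e _).trans (c m)
      have e2 : ∀ m, sign ((f.permCongrHom.toMonoidHom.comp Ψ) m) = 1 := fun m => (sign_permCongr f _).trans (a3 c m)
      simp only [mem_prod, mem_alternatingGroup, e1, e2, exists_const, eq_comm]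
    exact .inl ⟨c1 ▸ alternatingGroup.index_eq_two, ⟨i.trans (prodEquiv _ _)⟩⟩
  · push Not at c
    obtain ⟨m, c⟩ := c
    have c' := (Int.units_eq_one_or _).resolve_left c
    refine .inr ⟨eq_top_iff.2 fun s _ => ?_, classify2 _ _ b1 b2 m ((sign_permCongr e _).trans c')⟩
    rcases Int.units_eq_one_or (sign s) with b | b
    · exact hA b
    · obtain ⟨k, hk⟩ := hA (show (φ m)⁻¹ * s ∈ alternatingGroup _ by simp [mem_alternatingGroup, c', b])
      exact ⟨m * k, by simp [hk]⟩

end Cfsg.Agent.S3687
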