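import Cfsg.Statements.S3696
import Cfsg.Agent.Lib.Layer.Misc
import Mathlib.Analysis.MeanInequalities

set_option autoImplicit false
open Cfsg

namespace Cfsg.Agent.S3696

open Subgroup Cfsg.Lib.Core Cfsg.Lib.Amalg Cfsg.Lib.BG1 Cfsg.Lib.Layer
theorem amgm {X Y x y a b : ℕ} (h1 : X * a ^ a ≤ x ^ a) (h2 : Y * b ^ b ≤ y ^ b) (hb : 0 < b) :
    X * Y * (a + b) ^ (a + b) ≤ (x + y) ^ (a + b) := by
  rcases Nat.eq_zero_or_pos a with rfl | ha
  · simp only [pow_zero, mul_one, zero_add] at h1 ⊢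
    calc X * Y * b ^ b ≤ 1 * (Y * b ^ b) := by rw [mul_assoc]; gcongr
      _ ≤ y ^ b := by rwa [one_mul]
      _ ≤ _ := by gcongr; omega
  have a0 : (0 : ℝ) < a := by exact_mod_cast ha
  have b0 : (0 : ℝ) < b := by exact_mod_cast hb
  have h3 := Real.geom_mean_le_arith_mean2_weighted (w₁ := a / (a + b)) (w₂ := b / (a + b)) (p₁ := x / a) (p₂ := y / b)
    (by positivity) (by positivity) (by positivity) (by positivity) (by field_simp)
  have h4 := pow_le_pow_left₀ (by positivity) h3 (a + b)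
  rw [mul_pow, ← Real.rpow_natCast, ← Real.rpow_natCast, ← Real.rpow_mul (by positivity), ← Real.rpow_mul (by positivity),
    Nat.cast_add, div_mul_cancel₀ _ (by positivity), div_mul_cancel₀ _ (by positivity), Real.rpow_natCast, Real.rpow_natCast,
    show (a : ℝ) / (a + b) * (x / a) + b / (a + b) * (y / b) = (x + y) / (a + b) by field_simp, div_pow, div_pow, div_pow,
    le_div_iff₀ (by positivity)] at h4
  have h5 : (X : ℝ) ≤ x ^ a / a ^ a := by rw [le_div_iff₀ (by positivity)]; exact_mod_cast h1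
  have h6 : (Y : ℝ) ≤ y ^ b / b ^ b := by rw [le_div_iff₀ (by positivity)]; exact_mod_cast h2
  have : (X : ℝ) * Y * (a + b) ^ (a + b) ≤ (x + y) ^ (a + b) := le_trans (by gcongr) h4
  exact_mod_cast this

theorem one {m d : ℕ} (h : 2 ^ d ≤ m) (hd : 0 < d) : m * d ^ d ≤ m ^ d := by
  obtain ⟨e, rfl⟩ := Nat.exists_eq_succ_of_ne_zero hd.ne'
  rw [pow_succ' m]
  refine Nat.mul_le_mul_left m ?_
  calc (e + 1) ^ (e + 1) ≤ (2 ^ e) ^ (e + 1) := Nat.pow_le_pow_left Nat.lt_two_pow_self _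
    _ = (2 ^ (e + 1)) ^ e := by rw [← pow_mul, ← pow_mul, mul_comm]
    _ ≤ m ^ e := by gcongr

theorem main {B Ω : Type*} [CommGroup B] [Finite B] [Finite Ω] [MulAction B Ω] [FaithfulSMul B Ω] {p : ℕ} [hp : Fact p.Prime]
    (hB : IsPGroup p B) (H : Subgroup B) : ∀ k, Nat.card ↥(H ⊓ (powMonoidHom p : B →* B).ker) = p ^ k →
      Nat.card H * k ^ k ≤ {ω : Ω | ∃ h ∈ H, h • ω ≠ ω}.ncard ^ k := by
  induction H using WellFoundedLT.induction with
  | _ H ih =>
  intro k hk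
  set W := (powMonoidHom p : B →* B).ker
  by_cases h0 : H = ⊥
  · subst h0
    rw [bot_inf_eq, card_bot, eq_comm, Nat.pow_eq_one] at hk
    simp [hk.resolve_left hp.out.one_lt.ne']
  obtain ⟨x, hx⟩ := exists_prime_orderOf_dvd_card' p (dvd_card_of_isPGroup_ne_bot (hB.to_subgroup H) h0)
  rw [← orderOf_coe] at hx
  obtain ⟨ω, hω⟩ : ∃ ω : Ω, x.1 • ω ≠ ω := by
    by_contra h
    push Not at h
    rw [FaithfulSMul.eq_of_smul_eq_smul (α := Ω) (m₁ := x.1) (m₂ := 1) (by simpa using h), orderOf_one] at hx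
    exact hp.out.one_lt.ne hx
  set S := MulAction.stabilizer B ω
  obtain ⟨a, ha⟩ := IsPGroup.iff_card.1 (hB.to_subgroup (H ⊓ S ⊓ W))
  obtain ⟨d, hd⟩ := (hB.to_subgroup (H ⊓ W)).index (S.subgroupOf _)
  have h1 := Lib.Core.card_inf_mul_relIndex S (H ⊓ W)
  rw [← inf_assoc, inf_comm S, ha, hk, relIndex, hd, ← pow_add] at h1
  obtain rfl := Nat.pow_right_injective hp.out.two_le h1
  have d0 : 0 < d := Nat.pos_of_ne_zero fun e => hω (subgroupOf_eq_top.1 (index_eq_one.1 (by rw [hd, e, pow_zero]))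
    (mem_inf.2 ⟨x.2, show x.1 ^ p = 1 from hx ▸ pow_orderOf_eq_one _⟩))
  have h2 : 2 ^ d ≤ S.relIndex H := (Nat.pow_le_pow_left hp.out.two_le d).trans
    (hd ▸ relIndex_le_of_le_right inf_le_left (index_ne_zero_of_finite (H := S.subgroupOf H)))
  have h3 := amgm (ih (H ⊓ S) (inf_lt_left.2 fun e => hω (e x.2)) a ha) (one h2 d0) d0
  rw [inf_comm, Lib.Core.card_inf_mul_relIndex] at h3
  refine h3.trans (Nat.pow_le_pow_left ?_ _)
  rw [show S.relIndex H = (MulAction.orbit H ω).ncard from MulAction.index_stabilizer H ω, ← Set.ncard_union_eq]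
  · refine Set.ncard_le_ncard (Set.union_subset (fun y ⟨h, hh, e⟩ => ⟨h, hh.2, e⟩) ?_)
    rintro _ ⟨h, rfl⟩
    refine ⟨x, x.2, fun e => hω (smul_left_cancel h.1 ?_)⟩
    rw [smul_comm]; exact e
  · refine Set.disjoint_left.2 ?_
    rintro _ ⟨h, hh, e⟩ ⟨u, rfl⟩
    exact e ((smul_comm h u.1 ω).trans (congrArg _ hh.1))


/-- Let p be a prime, Ω a finite set with n ≥ p elements, and A an abelian p-subgroup of the symmetric group on Ω whose elements of order dividing p number p^k (so k is the rank of A). Then |A| · k^k ≤ n^k, that is, |A| ≤ (n/k)^k. -/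
theorem result {Ω : Type*} [Fintype Ω] [DecidableEq Ω]
    (p : ℕ) (hp : p.Prime) (hn : p ≤ Fintype.card Ω) (A : Subgroup (Equiv.Perm Ω)) (hA : IsPGroup p A) (hab : IsMulCommutative A)
    (k : ℕ) (hk : Nat.card {x : A // x ^ p = 1} = p ^ k) :
    Nat.card A * k ^ k ≤ Fintype.card Ω ^ k := by
  have := Fact.mk hp
  letI : CommGroup A := IsMulCommutative.instCommGroup
  have := main (Ω := Ω) hA ⊤ k (by rw [top_inf_eq, ← hk]; rfl)
  rw [card_top] at this
  exact this.trans (Nat.pow_le_pow_left (by rw [← Nat.card_eq_fintype_card]; exact Set.ncard_le_card _) _)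

end Cfsg.Agent.S3696
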