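import Cfsg.Statements.S3699
import Cfsg.Agent.Lib.Exc.CIT7

set_option autoImplicit false
open Cfsg

namespace Cfsg.Agent.S3699

open Cfsg.Lib Cfsg.Lib.Exc

/-- Let `q = 2^(2m+1) ≥ 8` and `S = Sz(q)` the Suzuki group. If a finite group `G` has the same prime graph as `S` (same prime divisors of the order; for distinct primes `r, s` an element of order `rs` in one iff in the other), then `G/O₂(G)` is isomorphic to `S`. The known proof uses the classification of finite simple groups. -/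
theorem result {F : Type*} [Field F] [Fintype F] (m : ℕ) (hm : 1 ≤ m)
    (hF : Fintype.card F = 2 ^ (2 * m + 1)) {G : Type*} [Group G] [Finite G]
    (h : ((∀ r : ℕ, r.Prime → (r ∣ Nat.card ↥(Cfsg.Lie.Sz F (2 ^ (m + 1))) ↔ r ∣ Nat.card G)) ∧
      (∀ r s : ℕ, r.Prime → s.Prime → r ≠ s → ((∃ x : ↥(Cfsg.Lie.Sz F (2 ^ (m + 1))), orderOf x = r * s) ↔ (∃ y : G, orderOf y = r * s))))) :
    Nonempty (G ⧸ Cfsg.pCore 2 G ≃* ↥(Cfsg.Lie.Sz F (2 ^ (m + 1)))) := by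
  have hsz := BN.Sz.szField_of_card hm hF
  have e := BN.Sz.szEquiv (F := F) m
  have h1 : ∀ r, r.Prime → (r ∣ Nat.card (Cfsg.Sz F m) ↔ r ∣ Nat.card G) := by
    simpa only [Nat.card_congr e.toEquiv] using h.1
  have h2 : ∀ r s, r.Prime → s.Prime → r ≠ s → ∀ y : G, orderOf y = r * s → ∃ x : Cfsg.Sz F m, orderOf x = r * s :=
    fun r s hr hs hrs y hy => let ⟨x, hx⟩ := (h.2 r s hr hs hrs).2 ⟨y, hy⟩; ⟨e.symm x, by rwa [MulEquiv.orderOf_eq]⟩
  have hc : CIT G := cit_of_no_two_mul fun y s hs h3 hy =>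
    let ⟨x, hx⟩ := h2 2 s Nat.prime_two hs h3.symm y hy; (cit_sz m).ne_two_mul x hs h3 hx
  have hN := Core.isPGroup_pCore 2 G
  have h8 := BN.Sz.eight_le_q (F := F) m
  obtain ⟨r, hr, h3⟩ := Nat.exists_prime_and_dvd (n := 2 ^ (2 * m + 1) - 1) (by omega)
  have h4 : ∀ s, s.Prime → s ∣ 2 ^ (2 * m + 1) - 1 → ¬ s ∣ (2 ^ (2 * m + 1)) ^ 2 + 1 := fun s hs e1 e2 =>
    hs.ne_one (Nat.eq_one_of_dvd_coprimes (BN.Sz.coprime_q_sub_one m) e1 e2)
  have h5 : r ≠ 2 := fun e => (BN.Sz.odd_q_sub_one m).not_two_dvd_nat (e ▸ h3)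
  have hs : ¬ Group.IsSolvable G := hc.not_solvable hr Nat.prime_five h5 (by norm_num)
    (fun e => h4 r hr h3 (e ▸ five_dvd_sz m))
    ((h1 2 Nat.prime_two).1 (by rw [BN.Sz.card_Sz, ← pow_mul, mul_assoc]; exact (dvd_pow_self 2 (by omega)).mul_right _))
    ((h1 r hr).1 (by rw [BN.Sz.card_Sz]; exact h3.mul_left _))
    ((h1 5 Nat.prime_five).1 (by rw [BN.Sz.card_Sz]; exact ((five_dvd_sz m).mul_left _).mul_right _)) fun y hy => by
      obtain ⟨x, hx⟩ := h2 r 5 hr Nat.prime_five (fun e => h4 r hr h3 (e ▸ five_dvd_sz m)) y hy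
      have h6 : r * 5 ∣ Nat.card (Subgroup.centralizer {x}) :=
        hx ▸ Subgroup.orderOf_dvd_natCard _ (Subgroup.mem_centralizer_singleton_iff.2 rfl)
      rcases BN.Sz.card_centralizer (g := x) (fun e => by
        have := Nat.le_of_dvd (by norm_num) (hx ▸ orderOf_dvd_of_pow_eq_one e)
        have := hr.pos
        omega) with h7 | h7 | h7 <;> rw [h7] at h6
      · exact h4 5 Nat.prime_five (dvd_of_mul_left_dvd h6) (five_dvd_sz m)
      · exact h4 r hr h3 (BN.Sz.q_sq_add_one_eq (F := F) m ▸ (dvd_of_mul_right_dvd h6).mul_right _)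
      · exact h4 r hr h3 (BN.Sz.q_sq_add_one_eq (F := F) m ▸ (dvd_of_mul_right_dvd h6).mul_left _)
  have h6 : ¬ 3 ∣ Nat.card (G ⧸ pCore 2 G) := fun e => BN.Sz.not_three_dvd_card m
    ((h1 3 Nat.prime_three).2 (e.trans (Subgroup.card_quotient_dvd_card _)))
  rcases hc.list_quot hs with (⟨K, _, _, n, -, -, ⟨f⟩⟩ | ⟨K, _, _, k, hK, ⟨f⟩⟩ | ⟨K, _, _, n, -, -, ⟨f⟩⟩ | ⟨K, _, _, h7, ⟨f⟩⟩) | h7
  · exact absurd (Nat.card_congr f.toEquiv ▸ three_dvd_psl2 K) h6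
  · have h7 : ∀ r, r.Prime → r ≠ 2 → (r ∣ Nat.card (Cfsg.Sz F m) ↔ r ∣ Nat.card (Cfsg.Sz K k)) := fun r hr h7 => by
      rw [h1 r hr, ← prime_dvd_quot hN hr h7, Nat.card_congr f.toEquiv]
    obtain rfl : m = k := le_antisymm (sz_le fun r hr h => (h7 r hr h).1) (sz_le fun r hr h => (h7 r hr h).2)
    exact (sz_equiv m).map fun g => (f.trans g).trans e
  · exact absurd (Nat.card_congr f.toEquiv ▸ three_dvd_psl2 K) h6
  · exact absurd (by rw [Nat.card_congr f.toEquiv, card_psl3_four (Nat.card_eq_fintype_card.trans h7)]; norm_num) h6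
  · exact absurd (by rw [h7.card]; norm_num) h6

end Cfsg.Agent.S3699
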