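import Cfsg.Statements.S3700
import Cfsg.Agent.Lib.Exc.CIT7

set_option autoImplicit false
open Cfsg

namespace Cfsg.Agent.S3700

open Cfsg.Lib Cfsg.Lib.Exc

/-- Let `F` be a finite field with `2^m` elements, `m ≥ 4`. If a finite group `G` has the same prime graph as `PSL(2, F)` (same prime divisors of the order; for distinct primes `r, s` an element of order `rs` in one iff in the other), then `G/O₂(G)` is isomorphic to `PSL(2, F)`. The known proof uses the classification of finite simple groups. -/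
theorem result {F : Type*} [Field F] [Fintype F] (m : ℕ) (hm : 4 ≤ m)
    (hF : Fintype.card F = 2 ^ m) {G : Type*} [Group G] [Finite G]
    (h : ((∀ r : ℕ, r.Prime → (r ∣ Nat.card (Matrix.ProjectiveSpecialLinearGroup (Fin 2) F) ↔ r ∣ Nat.card G)) ∧
      (∀ r s : ℕ, r.Prime → s.Prime → r ≠ s → ((∃ x : (Matrix.ProjectiveSpecialLinearGroup (Fin 2) F), orderOf x = r * s) ↔ (∃ y : G, orderOf y = r * s))))) :
    Nonempty (G ⧸ Cfsg.pCore 2 G ≃* Matrix.ProjectiveSpecialLinearGroup (Fin 2) F) := by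
  have h0 : 0 < 2 ^ m := by positivity
  have ho : ∀ s, s ∣ 2 ^ m - 1 ∨ s ∣ 2 ^ m + 1 → ¬ 2 ∣ s := fun s h1 h2 => by
    obtain ⟨m, rfl⟩ := Nat.exists_eq_add_of_le' (by omega : 1 ≤ m)
    rcases h1 with h1 | h1 <;> have := h2.trans h1 <;> omega
  have hc : CIT G := cit_of_no_two_mul fun y s hs h3 hy => by
    rcases (psl2_even_spec hF _).1 ((h.2 2 s Nat.prime_two hs h3.symm).2 ⟨y, hy⟩) with h4 | h4
    · have := Nat.le_of_dvd two_pos h4
      have := hs.two_le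
      omega
    · exact ho _ h4 (dvd_mul_right _ _)
  have hN := Core.isPGroup_pCore 2 G
  have h1 : ∀ r, r.Prime → r ≠ 2 → (r ∣ 2 ^ (2 * m) - 1 ↔ r ∣ Nat.card G) := fun r hr h2 => by
    rw [← h.1 r hr, dvd_psl2_even hF hr h2]
  obtain ⟨r, hr, h2, h3, h4⟩ := exists_ppd' hm
  have h16 := Nat.pow_le_pow_right two_pos hm
  have hs : ¬ Group.IsSolvable G := by
    obtain ⟨s, hs, h5⟩ := Nat.exists_prime_and_dvd (n := 2 ^ m - 1) (by omega)
    have h6 : s ≠ 2 := fun e => ho s (Or.inl h5) (e ▸ dvd_rfl)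
    have h7 : ¬ r ∣ 2 ^ m - 1 := fun e => by have := Nat.le_of_dvd (by omega) ((h4 _).1 e); omega
    have h8 : r ≠ s := fun e => h7 (e ▸ h5)
    refine hc.not_solvable hr hs (by omega) h6 h8 ((h.1 2 Nat.prime_two).1 ?_) ((h1 r hr (by omega)).1 ((h4 _).2 dvd_rfl))
      ((h1 s hs h6).1 (two_pow_two_mul m ▸ h5.mul_left _)) fun y hy => ?_
    · obtain ⟨x, hx⟩ := (psl2_even_spec hF 2).2 (Or.inl dvd_rfl)
      exact hx.symm.dvd.trans (orderOf_dvd_natCard x)
    rcases (psl2_even_spec hF _).1 ((h.2 r s hr hs h8).2 ⟨y, hy⟩) with h9 | h9 | h9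
    · have := Nat.le_of_dvd two_pos (dvd_of_mul_right_dvd h9)
      omega
    · exact h7 (dvd_of_mul_right_dvd h9)
    · exact h6 ((Nat.prime_dvd_prime_iff_eq hs Nat.prime_two).1
        (by simpa [show 2 ^ m + 1 - (2 ^ m - 1) = 2 by omega] using Nat.dvd_sub (dvd_of_mul_left_dvd h9) h5))
  have h5 : ∀ n, Nat.card (G ⧸ pCore 2 G) = n → ∀ r, r.Prime → r ≠ 2 → (r ∣ 2 ^ (2 * m) - 1 ↔ r ∣ n) := fun n e r hr h => by
    rw [h1 r hr h, ← e, prime_dvd_quot hN hr h]
  have h6 : ¬ Nat.card (G ⧸ pCore 2 G) ∣ 20160 := fun e => by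
    have := Nat.mem_primeFactors.2 ⟨hr, ((h5 _ rfl r hr (by omega)).1 ((h4 _).2 dvd_rfl)).trans e, by norm_num⟩
    simp [Nat.primeFactors] at this
    omega
  rcases hc.list_quot hs with (⟨K, _, _, n, h7, h8, ⟨f⟩⟩ | ⟨K, _, _, k, hK, ⟨f⟩⟩ | ⟨K, _, _, k, h7, h8, ⟨f⟩⟩ | ⟨K, _, _, h7, ⟨f⟩⟩) | h7
  · have h9 := fun r hr h => (h5 _ (Nat.card_congr f.toEquiv) r hr h).trans (dvd_psl2_even h8 hr h)
    have h10 := Nat.le_of_dvd (by omega) ((h4 _).1 ((h9 r hr (by omega)).1 ((h4 _).2 dvd_rfl)))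
    obtain ⟨s, hs, h11, -, h12⟩ := exists_ppd' (n := n) (by omega)
    have h13 := Nat.le_of_dvd (by omega) ((h12 _).1 ((h9 s hs (by omega)).2 ((h12 _).2 dvd_rfl)))
    exact (Linear.nonempty_psl_equiv_of_card_eq (by simp [h8, hF, show n = m by omega])).map f.trans
  · refine absurd ((h5 _ (Nat.card_congr f.toEquiv) 3 Nat.prime_three (by norm_num)).1 ?_) (BN.Sz.not_three_dvd_card k)
    simpa [pow_mul] using Nat.sub_dvd_pow_sub_pow 4 1 m
  · exfalso
    have h9 := fun r hr h => (h5 _ (Nat.card_congr f.toEquiv) r hr h).trans (dvd_psl2_iff hr h)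
    rw [Nat.card_eq_fintype_card] at h9
    obtain ⟨k, rfl⟩ := Nat.exists_eq_add_of_le' (by omega : 1 ≤ k)
    have h10 : ∀ r, r.Prime → r ≠ 2 → ∀ a, (¬ r ∣ 2 ^ (k + 1)) ∧ (r ∣ 2 * a ↔ r ∣ a) := fun r hr h a =>
      ⟨fun e => h ((Nat.prime_dvd_prime_iff_eq hr Nat.prime_two).1 (hr.dvd_of_dvd_pow e)),
        ((Nat.coprime_primes hr Nat.prime_two).2 h).dvd_mul_left⟩
    have h11 : 0 < 2 ^ k := by positivity
    rcases h8 with h8 | h8
    · have h12 : ∀ r, r.Prime → r ≠ 2 → (r ∣ 2 ^ (2 * m) - 1 ↔ r ∣ 2 ^ (k + 1) + 1 ∨ r ∣ 2 ^ k + 1) := fun r hr h => by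
        rw [h9 r hr h, h8, Nat.add_sub_cancel, show 2 ^ (k + 1) + 1 + 1 = 2 * (2 ^ k + 1) by ring, (h10 r hr h _).2,
          or_iff_right (h10 r hr h 0).1]
      have h13 : m ≤ k + 1 := ((h12 r hr (by omega)).1 ((h4 _).2 dvd_rfl)).elim
        (fun e => by have := Nat.le_of_dvd (by omega) ((h4 _).1 (two_pow_two_mul _ ▸ e.mul_right _)); omega)
        fun e => by have := Nat.le_of_dvd (by omega) ((h4 _).1 (two_pow_two_mul _ ▸ e.mul_right _)); omega
      obtain ⟨s, hs, h14, h15, h17⟩ := exists_ppd' (n := k + 1) (by omega)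
      have h18 := Nat.le_of_dvd (by omega) ((h17 _).1 ((h12 s hs (by omega)).2 (Or.inl h15)))
      obtain rfl : m = k + 1 := by omega
      have h19 := Nat.eq_prime_pow_of_unique_prime_dvd (n := 2 ^ (k + 1) - 1) (p := 3) (by omega) fun {t} ht h19 => by
        have h20 : t ≠ 2 := fun e => ho t (Or.inl h19) (e ▸ dvd_rfl)
        rcases (h12 t ht h20).1 (two_pow_two_mul _ ▸ h19.mul_left _) with e | e
        · exact absurd ((Nat.prime_dvd_prime_iff_eq ht Nat.prime_two).1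
            (by simpa [show 2 ^ (k + 1) + 1 - (2 ^ (k + 1) - 1) = 2 by omega] using Nat.dvd_sub e h19)) h20
        · exact (Nat.prime_dvd_prime_iff_eq ht Nat.prime_three).1
            (by simpa [show 2 * (2 ^ k + 1) - (2 ^ (k + 1) - 1) = 3 by omega] using Nat.dvd_sub (e.mul_left 2) h19)
      have := three_pow_add_one (k := k + 1) ((congrArg (· + 1) h19).symm.trans (by omega)) (by omega)
      omega
    · have h12 : ∀ r, r.Prime → r ≠ 2 → (r ∣ 2 ^ (2 * m) - 1 ↔ r ∣ 2 ^ (k + 1) - 1 ∨ r ∣ 2 ^ k - 1) := fun r hr h => by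
        rw [h9 r hr h, h8, show Fintype.card K - 1 = 2 * (2 ^ k - 1) by omega, (h10 r hr h _).2,
          or_iff_left (h10 r hr h 0).1, show Fintype.card K = 2 ^ (k + 1) - 1 by omega]
      have h13 : 2 * m ≤ k + 1 := ((h12 r hr (by omega)).1 ((h4 _).2 dvd_rfl)).elim
        (fun e => Nat.le_of_dvd (by omega) ((h4 _).1 e)) fun e => by have := Nat.le_of_dvd (by omega) ((h4 _).1 e); omega
      obtain ⟨s, hs, h14, h15⟩ := exists_ppd (n := k + 1) (by omega)
      obtain ⟨t, ht, h17, h18⟩ := exists_ppd (n := k) (by omega)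
      have h19 := Nat.le_of_dvd (by omega) ((h15 _).1 ((h12 s hs (by omega)).2 (Or.inl ((h15 _).2 dvd_rfl))))
      have h20 := (h18 _).1 ((h12 t ht (by omega)).2 (Or.inr ((h18 _).2 dvd_rfl)))
      rw [show 2 * m = k + 1 by omega, Nat.dvd_add_right dvd_rfl, Nat.dvd_one] at h20
      omega
  · exact absurd (by rw [Nat.card_congr f.toEquiv, card_psl3_four (Nat.card_eq_fintype_card.trans h7)]) h6
  · exact absurd (by rw [h7.card]; norm_num) h6

end Cfsg.Agent.S3700
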