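import Cfsg.Statements.S3703
import Cfsg.Agent.Lib.Layer.Spec

set_option autoImplicit false
open Cfsg

namespace Cfsg.Agent.S3703

open Subgroup Cfsg.Lib.Core Cfsg.Lib.Amalg Cfsg.Lib.BG1 Cfsg.Lib.Layer
open Cfsg.Lib.Coprime


/-- Let N be a normal subgroup of the finite group G such that G/N is a Frobenius group with kernel F and cyclic complement H, where the order of F is coprime to that of N and F is not contained in the image of C_G(N) in G/N. Then G has an element of order p·#H for some prime p dividing the order of N. (A standard tool in recognising groups by their element orders.) -/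
theorem result {G : Type*} [Group G] [Finite G] (N : Subgroup G) [N.Normal]
    (Fb Hb : Subgroup (G ⧸ N)) [Fb.Normal] (hHb : Cfsg.IsFrobeniusComplement Hb) (hker : Cfsg.frobeniusKernel Hb = (Fb : Set (G ⧸ N)))
    (hcyc : IsCyclic Hb) (hcop : (Nat.card Fb).Coprime (Nat.card N))
    (hnot : ¬ Fb ≤ (Subgroup.centralizer (N : Set G)).map (QuotientGroup.mk' N)) :
    ∃ p : ℕ, p.Prime ∧ p ∣ Nat.card N ∧ ∃ g : G, orderOf g = p * Nat.card Hb := by
  obtain ⟨F', e, -, -, -, hf, -⟩ := exists_frobKernel hHb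
  obtain rfl : F' = Fb := SetLike.coe_injective (e.trans hker)
  set π := QuotientGroup.mk' N
  have t : ∀ (N : Subgroup G) [N.Normal] (X : Subgroup G), X ≤ 𝐍(N) := fun N _ X => le_top.trans (normalizer_eq_top N).ge
  obtain ⟨q, _, Q, hQ, hq, hQ'⟩ : ∃ (q : ℕ) (_ : Fact q.Prime) (Q : Subgroup G), Syl q Q (F'.comap π) ∧
      q ∣ Nat.card F' ∧ ¬ Q ≤ 𝐂(N) := by
    by_contra! c
    refine hnot (le_of_forall_sylowIn fun q _ hq => ?_)
    obtain ⟨Q, hQ⟩ := exists_syl q (F'.comap π)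
    have := hQ.map π
    rw [map_comap_eq_self_of_surjective (QuotientGroup.mk'_surjective N)] at this
    exact ⟨_, syl_iff_sylowIn.1 this, map_mono (c q ‹_› Q hQ hq)⟩
  have hc : (Nat.card Q).Coprime (Nat.card N) := by
    obtain ⟨k, hk⟩ := hQ.isPGroup.exists_card_eq
    exact hk ▸ (hcop.coprime_dvd_left hq).pow_left k
  have hs := Or.inl (b := Group.IsSolvable N) (solvable_of_pgroup Fact.out hQ.isPGroup)
  obtain ⟨p, _, P, hP, hQP, hP'⟩ : ∃ (p : ℕ) (_ : Fact p.Prime) (P : Subgroup G), Syl p P N ∧ Q ≤ 𝐍(P) ∧ ¬ Q ≤ 𝐂(P) := by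
    by_contra! c
    refine hQ' (Lib.BG1.le_cent_symm (le_of_forall_sylowIn fun p _ _ => ?_))
    obtain ⟨P, hP, h⟩ := coprime_sylow_exists p (t N Q) hc hs
    exact ⟨_, syl_iff_sylowIn.1 hP, Lib.BG1.le_cent_symm (c p ‹_› P hP h)⟩
  obtain ⟨⟨b, hb⟩, hgen⟩ := hcyc.exists_monoid_generator
  have hob : orderOf b = Nat.card Hb := by
    rw [← orderOf_eq_card_of_forall_mem_powers hgen]; exact (Subgroup.orderOf_mk b hb).symm
  have hb1 : b ≠ 1 := fun c => hHb.1 (card_eq_one.1 (by rw [← hob, c, orderOf_one]))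
  obtain ⟨g, rfl⟩ : ∃ g, π g = b := QuotientGroup.mk'_surjective N b
  obtain ⟨f, hfF, a, ha, rfl⟩ := hQ.frattini_mem (t (F'.comap π) ⊤ (mem_top g))
  obtain ⟨c, hc1, hc2⟩ := coprime_sylow_trans (t N Q) hc hs (hP.conj_of_mem_normalizer (t N ⊤ (mem_top a))) hP
    (by rw [← cj_normalizer, ← cj_of_mem_normalizer ha]; exact cj_mono _ hQP) hQP
  have h1 : c * a ∈ 𝐍(P) := mem_normalizer_of_cj_le (by rw [cj_mul, hc2])
  have h2 : c * a ∈ 𝐍(Q) := mul_mem (centralizer_le_normalizer _ hc1.2) ha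
  obtain ⟨y, hy, e⟩ := exists_mul_eq_conj_of_fpf (by simp [normalizer_eq_top]) (hf _ hb hb1) (inv_mem hfF : (π f)⁻¹ ∈ F')
  have h3 : ∀ v ∈ P, π (v * (c * a)) = y * π (f * a) * y⁻¹ := fun v hv => by
    have z : ∀ v ∈ N, π v = 1 := fun v hv => (QuotientGroup.eq_one_iff v).2 hv
    rw [← e, map_mul, map_mul, map_mul, z v (hP.le hv), z c hc1.1]; group
  have h4 : ∀ v ∈ P, orderOf (π (v * (c * a))) = Nat.card Hb := fun v hv => by
    rw [h3 v hv, ← hob]; exact (MulAut.conj y).orderOf_eq _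
  by_contra! hno
  have h5 : ∀ v ∈ P, (v * (c * a)) ^ Nat.card Hb = 1 := fun v hv => by
    by_contra h
    obtain ⟨r, hr, hd⟩ := Nat.exists_prime_and_dvd (mt orderOf_eq_one_iff.1 h)
    refine hno r hr (hd.trans (N.orderOf_dvd_natCard ((QuotientGroup.eq_one_iff _).1 ?_))) _
      (orderOf_pow_orderOf_div (orderOf_pos (v * (c * a))).ne' ?_)
    · rw [← QuotientGroup.mk'_apply, map_pow, ← h4 v hv, pow_orderOf_eq_one]
    · have h6 : Nat.card Hb ∣ orderOf (v * (c * a)) := h4 v hv ▸ orderOf_map_dvd π _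
      rw [orderOf_pow' _ Nat.card_pos.ne', Nat.gcd_eq_right h6] at hd
      exact mul_comm r _ ▸ (Nat.dvd_div_iff_mul_dvd h6).1 hd
  refine hP' (le_cent_of_norm_trivial' Fact.out hP.isPGroup (Nat.card_pos (α := Hb)) (fun i i0 im => ?_) h2 hQP h1
    (hc.coprime_dvd_right (card_dvd_of_le hP.le)) fun v hv => by rw [h5 v hv, ← h5 1 (one_mem _), one_mul])
  refine (eq_bot_iff_forall _).2 fun x hx => mem_bot.1 ((disjoint_of_coprime_natCard hc).le_bot ⟨hx.1, (QuotientGroup.eq_one_iff x).1 ?_⟩)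
  have h7 := congrArg π (mem_centralizer_singleton_iff.1 hx.2)
  rw [map_mul, map_mul, map_pow, ← one_mul (c * a), h3 1 (one_mem _), conj_pow] at h7
  have := hf.eq_one (pow_mem hb i) (fun c => (Nat.le_of_dvd i0 (hob ▸ orderOf_dvd_of_pow_eq_one c)).not_gt im)
    (k := y⁻¹ * π x * y) (mul_mem (mul_mem (inv_mem hy) (hQ.le hx.1)) hy) (by
      calc _ = y⁻¹ * (y * π (f * a) ^ i * y⁻¹ * π x) * y := by group
        _ = _ := by rw [← h7]; group)
  exact (by simpa [mul_assoc] using congrArg (fun z => y * z * y⁻¹) this : π x = 1)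

end Cfsg.Agent.S3703
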