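import Cfsg.Statements.S3704
import Cfsg.Agent.S0157
import Cfsg.Agent.Lib.Char.Induce

set_option autoImplicit false
open Cfsg

namespace Cfsg.Agent.S3704

open MulAction Subgroup Cfsg.Lib Cfsg.Lib.Char

/-- Let G be a finite group acting faithfully and 2-transitively on a finite set Ω of size n, and let H be a subgroup of index n in G which is not transitive on Ω and fixes no point of Ω. Then H has exactly two orbits on Ω. -/
theorem result {G Ω : Type*} [Group G] [Finite G] [MulAction G Ω] [FaithfulSMul G Ω] [Finite Ω] (h2 : MulAction.IsMultiplyPretransitive G Ω 2) (H : Subgroup G) (hidx : H.index = Nat.card Ω) (hnt : ¬ MulAction.IsPretransitive H Ω) (hfix : ∀ a : Ω, ∃ h : H, h • a ≠ a) : Nat.card (MulAction.orbitRel.Quotient H Ω) = 2 := by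
  classical
  have := Fintype.ofFinite G
  have := Fintype.ofFinite Ω
  have hn : 2 ≤ Nat.card Ω := by
    by_contra h
    have : Subsingleton Ω := Finite.card_le_one_iff_subsingleton.1 (by omega)
    exact hnt ⟨fun a b => ⟨1, Subsingleton.elim _ _⟩⟩
  have : Nontrivial Ω := Finite.one_lt_card_iff_nontrivial.1 hn
  have : IsPretransitive G Ω := isPretransitive_of_is_two_pretransitive
  have hχ := (S0157.result (G := G) Ω hn).2 h2
  set r := Nat.card (orbitRel.Quotient H Ω) with hr
  have h1 : 2 ≤ r := by
    by_contra h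
    exact hnt ((pretransitive_iff_subsingleton_quotient H Ω).2 (Finite.card_le_one_iff_subsingleton.1 (by omega)))
  have h3 : ∑ h : H, (Nat.card (fixedBy Ω (h : G)) : ℂ) = r * Nat.card H := by
    have := sum_card_fixedBy_eq_card_orbits_mul_card_group H Ω
    simp only [← Nat.card_eq_fintype_card] at this
    exact_mod_cast this
  have hH : (Nat.card H : ℂ) ≠ 0 := Nat.cast_ne_zero.2 Nat.card_pos.ne'
  have hφ := (isCharacter_one (G := H)).indFun
  have h4 : classInner (indFun H fun _ => 1) (fun g => (Nat.card (fixedBy Ω g) : ℂ) - 1) = r - 1 := by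
    rw [classInner_indFun_left _ hχ.isClassFunction, classInner_def]
    simp only [one_mul, map_sub, map_natCast, map_one, Finset.sum_sub_distrib, h3, Finset.sum_const, Finset.card_univ,
      ← Nat.card_eq_fintype_card, nsmul_eq_mul, mul_one]
    field_simp
  obtain ⟨m, hm⟩ := (hφ.sub_classInner_smul hχ).exists_nat_degree
  rw [Pi.sub_apply, Pi.smul_apply, h4, indFun_one, hidx, fixedBy_one_eq_univ, Nat.card_univ, smul_eq_mul] at hm
  have h5 : (Nat.card Ω : ℤ) * 1 - (r - 1) * (Nat.card Ω - 1) = m := by exact_mod_cast hm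
  have h6 : r ≤ Nat.card Ω := Nat.card_le_card_of_surjective (Quotient.mk _) Quotient.mk_surjective
  by_contra h
  have : (2 : ℤ) * (Nat.card Ω - 1) ≤ (r - 1) * (Nat.card Ω - 1) := mul_le_mul_of_nonneg_right (by omega) (by omega)
  omega

end Cfsg.Agent.S3704
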