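import Cfsg.Statements.S3705
import Cfsg.Agent.Lib.PG.PSL
import Cfsg.Agent.Lib.PG.Design
import Cfsg.Agent.Lib.Core.Fitting

set_option autoImplicit false
open Cfsg

namespace Cfsg.Agent.S3705

/-- Let G be a finite group acting faithfully and 2-transitively on a finite set Ω of size n, and let H be a subgroup of index n in G which is not transitive on Ω and fixes no point of Ω. Suppose H has a nontrivial solvable normal subgroup N that fixes some point of Ω. Then there are an integer m ≥ 2 and a finite field F with #Ω = (#F^(m+1) − 1)/(#F − 1), and G has a normal subgroup isomorphic to PSL_{m+1}(F) whose centralizer in G is trivial (so that G lies between PSL_{m+1}(F) and its automorphism group). -/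
theorem result {G Ω : Type*} [Group G] [Finite G] [MulAction G Ω] [FaithfulSMul G Ω] [Finite Ω] (h2 : MulAction.IsMultiplyPretransitive G Ω 2) (H : Subgroup G) (hidx : H.index = Nat.card Ω) (hnt : ¬ MulAction.IsPretransitive H Ω) (hfix : ∀ a : Ω, ∃ h : H, h • a ≠ a) (N : Subgroup H) (hN : N.Normal) (hN1 : N ≠ ⊥) (hsol : Group.IsSolvable N) (hNfix : ∃ a : Ω, ∀ x ∈ N, x • a = a) : ∃ (m : ℕ) (F : Type) (_ : Field F) (_ : Fintype F), 2 ≤ m ∧ Nat.card Ω = (Fintype.card F ^ (m + 1) - 1) / (Fintype.card F - 1) ∧ ∃ N : Subgroup G, N.Normal ∧ Nonempty (N ≃* Matrix.ProjectiveSpecialLinearGroup (Fin (m + 1)) F) ∧ Subgroup.centralizer (N : Set G) = ⊥ := by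
  have tw : Lib.PG.Two G Ω := fun _ _ _ _ h h' => MulAction.is_two_pretransitive_iff.1 h2 h h'
  have hf := tw.fix_eq_coset hidx hnt
  obtain ⟨A, hA, hAN, hA1, hAc⟩ := Lib.Core.exists_abelian_normal_le_of_solvable N hN1
  obtain ⟨a, ha⟩ := hNfix
  obtain ⟨b, hb⟩ := hfix a
  obtain ⟨⟨n, hn⟩, hn1⟩ := Subgroup.ne_bot_iff_exists_ne_one.1 hA1
  have hst : ∀ g : G, g • ((1 : G) : G ⧸ H) = (1 : G) ↔ g ∈ H := fun g => by
    rw [← MulAction.mem_stabilizer_iff, MulAction.stabilizer_quotient]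
  obtain ⟨y, hy, hny⟩ := Lib.PG.exists_ne_fixed (hf n) hb (show n • b • a = b • a by
    have := ha _ (hN.conj_mem' n (hAN hn) b)
    rwa [mul_smul, mul_smul, inv_smul_eq_iff] at this) (ha n (hAN hn)) ((1 : G) : G ⧸ H)
  obtain ⟨p, _, V, h, -⟩ := Lib.PG.exists_oa (N := A.map H.subtype)
    (MulAction.is_two_pretransitive_iff.2 fun h h' => tw.dual hf _ _ _ _ h h')
    (fun g e => eq_of_smul_eq_smul (α := Ω) fun x => by
      rw [one_smul]; exact Lib.PG.faith_of_fix_eq hidx.symm (hf g) e x)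
    (by rintro _ ⟨a, -, rfl⟩; exact (hst _).2 a.2)
    (by rintro g hg _ ⟨a, ha, rfl⟩; exact ⟨_, hA.conj_mem a ha ⟨g, (hst g).1 hg⟩, rfl⟩)
    (by rintro _ ⟨a, ha, rfl⟩ _ ⟨b, hb, rfl⟩; exact congrArg (fun x : A => ((x : H) : G)) (hAc.1.1 ⟨a, ha⟩ ⟨b, hb⟩))
    ⟨n, hn, rfl⟩ (fun e => hn1 (Subtype.ext (Subtype.ext e))) hy hny
  obtain ⟨L, F, _, _, m, h3, hL, hc, e, hcard⟩ := h.main
  obtain ⟨m, rfl⟩ : ∃ k, m = k + 1 := ⟨m - 1, by omega⟩
  refine ⟨m, F, inferInstance, inferInstance, by omega, ?_, L, hL, e, hc⟩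
  have := Fintype.one_lt_card (α := F)
  rw [← hcard, Nat.mul_div_cancel _ (by omega), ← hidx]; rfl

end Cfsg.Agent.S3705
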