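import Cfsg.Statements.S3710
import Cfsg.Agent.Lib.Phan.Four2

set_option autoImplicit false
open Cfsg

namespace Cfsg.Agent.S3710

open Cfsg.Lib.Phan Cfsg.Lib.Forms
set_option linter.style.haveILetI false

/-- Recognition of unitary groups over the field with 9 elements from a weak Phan system. Let F be a field with 9 elements and n ≥ 4. Let G be a group with subgroups U_0, …, U_{n−1}, each isomorphic to SU(2, 9), and, for consecutive indices, subgroups V_{i,i+1} in which U_i and U_{i+1} form a standard pair (via an isomorphism from SU(3, 9) or PSU(3, 9) carrying the block-diagonal subgroups, or their images, onto U_i and U_{i+1}); suppose U_i and U_j commute elementwise whenever the indices differ by at least 2, that G is generated by the U_i and the V_{i,i+1}, and moreover that for each i the subgroup generated by V_{i,i+1} and V_{i+1,i+2} is a homomorphic image of SU(4, 9). Then G is a homomorphic image of SU(n+1, 9). (G is not assumed finite.) -/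
theorem result {G : Type*} [Group G] (n : ℕ) (hn : 4 ≤ n)
    (F : Type*) [Field F] [Fintype F] (hF : Fintype.card F = 9)
    (U : Fin n → Subgroup G) (e : ∀ i, ↥(Cfsg.SU 2 F 3) ≃* ↥(U i))
    (V : Fin n → Fin n → Subgroup G)
    (h1 : ∀ i j : Fin n, (i : ℕ) + 2 ≤ j → ∀ x ∈ U i, ∀ y ∈ U j, x * y = y * x)
    (h2 : ∀ i j : Fin n, (i : ℕ) + 1 = j → Cfsg.IsStandardUnitaryPair (V i j) (U i) (U j) F 3)
    (hgen : (⨆ i, U i) ⊔ (⨆ (i : Fin n) (j : Fin n) (_ : (i : ℕ) + 1 = j), V i j) = ⊤)
    (h4 : ∀ i j k : Fin n, (i : ℕ) + 1 = j → (j : ℕ) + 1 = k →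
      ∃ g : ↥(Cfsg.SU 4 F 3) →* ↥(V i j ⊔ V j k), Function.Surjective g) :
    ∃ f : ↥(Cfsg.SU (n + 1) F 3) →* G, Function.Surjective f := by
  obtain ⟨σ, h⟩ := isConj_of_card (q := 3) hF
  obtain ⟨b, hO, hb⟩ := exists_std h (n + 1)
  have hD := stdHerm_nondeg h (Fin (n + 1))
  obtain ⟨k, rfl⟩ : ∃ k, n = k + 2 := ⟨n - 2, by omega⟩
  have hc : ∀ i j, i + 2 ≤ j → j + 2 ≤ k + 2 + 1 → Cm (ext U i) (ext U j) := fun i j a1 a2 => by
    rw [ext_eq U (by omega), ext_eq U (by omega)]
    exact h1 _ _ a1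
  obtain ⟨Γ, S, L⟩ := exists_sys hO hD hb (by simp) (U := ext U) (W := ext2 V) (by omega)
    (fun i H => by
      rw [ext_eq U (by omega), ext_eq U (by omega), ext2_eq V (by omega)]
      exact loc_of_std hO hD H (h2 _ _ rfl)) hc
  obtain ⟨f, f1, f2⟩ := exists_final hO hD rfl L
    (S.glue3 hD le_rfl (fun i H => by
      obtain ⟨g, hg⟩ : ∃ g : SU 4 F 3 →* ↥(ext2 V i ⊔ ext2 V (i + 1)), Function.Surjective g := by
        rw [ext2_eq V (by omega), ext2_eq V (by omega)]
        exact h4 _ _ _ rfl rfl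
      exact S.four' hD le_rfl hb (by simp) L H (hc _ _ le_rfl H) g hg) (k + 1) le_rfl)
  exact ⟨f, MonoidHom.range_eq_top.1 (surj_of hgen f1 f2)⟩

end Cfsg.Agent.S3710
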