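import Cfsg.Statements.S3711
import Cfsg.Agent.Lib.Phan.Four2

set_option autoImplicit false
open Cfsg

namespace Cfsg.Agent.S3711

open Cfsg.Lib.Phan Cfsg.Lib.Forms
set_option linter.style.haveILetI false

/-- Recognition of unitary groups over the field with 4 elements from a weak Phan system. Let F be a field with 4 elements and n ≥ 4. Let G be a group with subgroups U_0, …, U_{n−1}, each isomorphic to SU(2, 4), and, for consecutive indices, subgroups V_{i,i+1} in which U_i and U_{i+1} form a standard pair (via an isomorphism from SU(3, 4) or PSU(3, 4) carrying the block-diagonal subgroups, or their images, onto U_i and U_{i+1}); suppose U_i and U_j commute elementwise whenever the indices differ by at least 2, that G is generated by the U_i and the V_{i,i+1}, that for each i the subgroup generated by V_{i,i+1} and V_{i+1,i+2} is a homomorphic image of SU(4, 4), that U_i and V_{j,j+1} commute elementwise whenever i ≤ j − 2 or i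 ≥ j + 3, and that V_{i,i+1} and V_{k,k+1} commute elementwise whenever k ≥ i + 3. Then G is a homomorphic image of SU(n+1, 4). (G is not assumed finite.) -/
theorem result {G : Type*} [Group G] (n : ℕ) (hn : 4 ≤ n)
    (F : Type*) [Field F] [Fintype F] (hF : Fintype.card F = 4)
    (U : Fin n → Subgroup G) (e : ∀ i, ↥(Cfsg.SU 2 F 2) ≃* ↥(U i))
    (V : Fin n → Fin n → Subgroup G)
    (h1 : ∀ i j : Fin n, (i : ℕ) + 2 ≤ j → ∀ x ∈ U i, ∀ y ∈ U j, x * y = y * x)
    (h2 : ∀ i j : Fin n, (i : ℕ) + 1 = j → Cfsg.IsStandardUnitaryPair (V i j) (U i) (U j) F 2)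
    (hgen : (⨆ i, U i) ⊔ (⨆ (i : Fin n) (j : Fin n) (_ : (i : ℕ) + 1 = j), V i j) = ⊤)
    (h4 : ∀ i j k : Fin n, (i : ℕ) + 1 = j → (j : ℕ) + 1 = k →
      ∃ g : ↥(Cfsg.SU 4 F 2) →* ↥(V i j ⊔ V j k), Function.Surjective g)
    (h5 : ∀ i j k : Fin n, (j : ℕ) + 1 = k → ((i : ℕ) + 2 ≤ j ∨ (k : ℕ) + 2 ≤ i) →
      ∀ x ∈ U i, ∀ y ∈ V j k, x * y = y * x)
    (h6 : ∀ i j k l : Fin n, (i : ℕ) + 1 = j → (k : ℕ) + 1 = l → (j : ℕ) + 2 ≤ k →
      ∀ x ∈ V i j, ∀ y ∈ V k l, x * y = y * x) :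
    ∃ f : ↥(Cfsg.SU (n + 1) F 2) →* G, Function.Surjective f := by
  obtain ⟨σ, h⟩ := isConj_of_card (q := 2) hF
  obtain ⟨b, hO, hb⟩ := exists_std h (n + 1)
  have hD := stdHerm_nondeg h (Fin (n + 1))
  obtain ⟨k, rfl⟩ : ∃ k, n = k + 2 := ⟨n - 2, by omega⟩
  have hc : ∀ i j, i + 2 ≤ j → j + 2 ≤ k + 2 + 1 → Cm (ext U i) (ext U j) := fun i j a1 a2 => by
    rw [ext_eq U (by omega), ext_eq U (by omega)]
    exact h1 _ _ a1
  obtain ⟨Γ, S, L⟩ := exists_sys hO hD hb (by simp) (U := ext U) (W := ext2 V) (by omega)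
    (fun i H => by
      rw [ext_eq U (by omega), ext_eq U (by omega), ext2_eq V (by omega)]
      exact loc_of_std hO hD H (h2 _ _ rfl)) hc
  have a1 : ∀ i, i + 3 ≤ k + 2 + 1 → ∀ x ∈ Γ i, x.1 ∈ ext2 V i := fun i H x hx =>
    ((L i H).fst _).2 ⟨x.2, hx⟩
  have a2 : ∀ i, i + 2 ≤ k + 2 + 1 → ∀ x ∈ lam b Γ i, x.1 ∈ ext U i := fun i H x =>
    lam_fst hO (by omega) L H
  obtain ⟨f, f1, f2⟩ := exists_final hO hD rfl L
    (S.glue hD (fun i H => by
      obtain ⟨g, hg⟩ : ∃ g : SU 4 F 2 →* ↥(ext2 V i ⊔ ext2 V (i + 1)), Function.Surjective g := by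
        rw [ext2_eq V (by omega), ext2_eq V (by omega)]
        exact h4 _ _ _ rfl rfl
      exact S.four' hD (by omega) hb (by simp) L H (hc _ _ le_rfl H) g hg)
      (fun i j c1 c2 => cm_of (by
          rw [ext_eq U (by omega), ext2_eq V (by omega)]
          exact Cm.symm (h5 _ _ _ rfl (Or.inr c1))) (hO.cm c1 c2 hD) (a1 i (by omega)) (a2 j c2)
        (S.hΓ i (by omega)).mem (S.hΛ j c2).mem)
      (fun i j c1 c2 => cm_of (by
          rw [ext_eq U (by omega), ext2_eq V (by omega)]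
          exact h5 _ _ _ rfl (Or.inl c1)) (hO.cm c1 c2 hD) (a2 i (by omega)) (a1 j c2)
        (S.hΛ i (by omega)).mem (S.hΓ j c2).mem)
      (fun i j c1 c2 => cm_of (by
          rw [ext2_eq V (by omega), ext2_eq V (by omega)]
          exact h6 _ _ _ _ rfl rfl c1) (hO.cm c1 c2 hD) (a1 i (by omega)) (a1 j c2)
        (S.hΓ i (by omega)).mem (S.hΓ j c2).mem) (k + 1) le_rfl)
  exact ⟨f, MonoidHom.range_eq_top.1 (surj_of hgen f1 f2)⟩

end Cfsg.Agent.S3711
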