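import Cfsg.Statements.S3713
import Cfsg.Agent.Lib.Pres.SlimC

set_option autoImplicit false
open Cfsg Cfsg.Lib.Forms Cfsg.Lib.Pres

namespace Cfsg.Agent.S3713

/-- A presentation of the symplectic group as the universal completion of an amalgam of small subgroups. Let F be a field with more than two elements, n ≥ 2, and Sp the group of 2n × 2n matrices over F preserving the standard alternating form, acting on column vectors; write e_k, f_k for the standard basis vectors of the two halves (a hyperbolic basis). For each k let S_k be the subgroup of Sp fixing e_l and f_l for all l ≠ k (a copy of SL(2, F) on the plane of e_k, f_k), and for each i with i + 1 < n let M_i be the subgroup fixing every e_l and fixing f_l for all l other than i, i+1 (an abelian group isomorphic to the additive group of F³). Then Sp is the universal completion of the amalgam formed by the S_k, the M_i and the subgroups generated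 by two of them: for every group H and homomorphisms σ_k : S_k → H, μ_i : M_i → H such that for each pair of these subgroups some homomorphism on the subgroup they generate restricts to the given ones, there is exactly one homomorphism Sp → H restricting to every σ_k and μ_i. -/
theorem result
    (F : Type*) [Field F] (hF : ∃ a : F, a ≠ 0 ∧ a ≠ 1) (n : ℕ) (hn : 2 ≤ n)
    (S M : Fin n → Subgroup ↥(Matrix.symplecticGroup (Fin n) F))
    (hS : ∀ j : Fin n, S j = Subgroup.closure {A : ↥(Matrix.symplecticGroup (Fin n) F) | ∀ k : Fin n, k ≠ j →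
      ((A : ↥(Matrix.symplecticGroup (Fin n) F)) : Matrix (Fin n ⊕ Fin n) (Fin n ⊕ Fin n) F).mulVec (Pi.single (Sum.inl k) (1 : F)) = (Pi.single (Sum.inl k) (1 : F)) ∧ ((A : ↥(Matrix.symplecticGroup (Fin n) F)) : Matrix (Fin n ⊕ Fin n) (Fin n ⊕ Fin n) F).mulVec (Pi.single (Sum.inr k) (1 : F)) = (Pi.single (Sum.inr k) (1 : F))})
    (hM : ∀ i : Fin n, (i : ℕ) + 1 < n → M i = Subgroup.closure {A : ↥(Matrix.symplecticGroup (Fin n) F) |
      (∀ k : Fin n, ((A : ↥(Matrix.symplecticGroup (Fin n) F)) : Matrix (Fin n ⊕ Fin n) (Fin n ⊕ Fin n) F).mulVec (Pi.single (Sum.inl k) (1 : F)) = (Pi.single (Sum.inl k) (1 : F))) ∧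
        ∀ k : Fin n, (k : ℕ) ≠ i → (k : ℕ) ≠ (i : ℕ) + 1 → ((A : ↥(Matrix.symplecticGroup (Fin n) F)) : Matrix (Fin n ⊕ Fin n) (Fin n ⊕ Fin n) F).mulVec (Pi.single (Sum.inr k) (1 : F)) = (Pi.single (Sum.inr k) (1 : F))})
    {H : Type*} [Group H] (σ : ∀ j : Fin n, ↥(S j) →* H) (μ : ∀ i : Fin n, ↥(M i) →* H)
    (hSS : ∀ j l : Fin n, j ≠ l → ∃ Ψ : ↥(S j ⊔ S l) →* H,
      (∀ (g : ↥(Matrix.symplecticGroup (Fin n) F)) (hg : g ∈ S j), Ψ ⟨g, Subgroup.mem_sup_left hg⟩ = σ j ⟨g, hg⟩) ∧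
        (∀ (g : ↥(Matrix.symplecticGroup (Fin n) F)) (hg : g ∈ S l), Ψ ⟨g, Subgroup.mem_sup_right hg⟩ = σ l ⟨g, hg⟩))
    (hMM : ∀ i i' : Fin n, i ≠ i' → (i : ℕ) + 1 < n → (i' : ℕ) + 1 < n → ∃ Ψ : ↥(M i ⊔ M i') →* H,
      (∀ (g : ↥(Matrix.symplecticGroup (Fin n) F)) (hg : g ∈ M i), Ψ ⟨g, Subgroup.mem_sup_left hg⟩ = μ i ⟨g, hg⟩) ∧
        (∀ (g : ↥(Matrix.symplecticGroup (Fin n) F)) (hg : g ∈ M i'), Ψ ⟨g, Subgroup.mem_sup_right hg⟩ = μ i' ⟨g, hg⟩))
    (hMS : ∀ i j : Fin n, (i : ℕ) + 1 < n → ∃ Ψ : ↥(M i ⊔ S j) →* H,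
      (∀ (g : ↥(Matrix.symplecticGroup (Fin n) F)) (hg : g ∈ M i), Ψ ⟨g, Subgroup.mem_sup_left hg⟩ = μ i ⟨g, hg⟩) ∧
        (∀ (g : ↥(Matrix.symplecticGroup (Fin n) F)) (hg : g ∈ S j), Ψ ⟨g, Subgroup.mem_sup_right hg⟩ = σ j ⟨g, hg⟩)) :
    ∃! Φ : ↥(Matrix.symplecticGroup (Fin n) F) →* H,
      (∀ (j : Fin n) (g : ↥(Matrix.symplecticGroup (Fin n) F)) (hg : g ∈ S j), Φ g = σ j ⟨g, hg⟩) ∧
        (∀ (i : Fin n), (i : ℕ) + 1 < n → ∀ (g : ↥(Matrix.symplecticGroup (Fin n) F)) (hg : g ∈ M i), Φ g = μ i ⟨g, hg⟩) := by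
  let Q : Subgroup (_ × H) := (⨆ j, Slim.gr (σ j)) ⊔ ⨆ i : Fin n, ⨆ _ : i.1 + 1 < n, Slim.gr (μ i)
  have Qle : ∀ {X}, Q ≤ X ↔ (∀ j, Slim.gr (σ j) ≤ X) ∧ ∀ i : Fin n, i.1 + 1 < n → Slim.gr (μ i) ≤ X := by
    simp [Q]
  have cl : ∀ (p q : Fin n → Prop) (A : Subgroup ↥(Matrix.symplecticGroup (Fin n) F)) (s : Set _),
      A = Subgroup.closure s → (∀ g, g ∈ s ↔ (∀ k, p k → g.1.mulVec (Pi.single (.inl k) 1) = Pi.single (.inl k) 1) ∧
        ∀ k, q k → g.1.mulVec (Pi.single (.inr k) 1) = Pi.single (.inr k) 1) →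
      A.map (spEquiv F n).toMonoidHom = Slim.fx (fSymp F n)
        (Slim.st (fun k => Pi.single (.inl k) 1) (fun k => -Pi.single (.inr k) 1) p q) := by
    intro p q A s hA hs
    rw [← Subgroup.map_comap_eq_self_of_surjective (f := (spEquiv F n).toMonoidHom) (spEquiv F n).surjective
      (Slim.fx _ _), hA, ← Subgroup.closure_eq (Subgroup.comap _ _)]
    congr 2
    ext g
    rw [hs]
    refine Iff.trans ?_ Slim.forall_st.symm
    simp [Matrix.mulVec_neg]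
  have hb := Slim.hb_std.main hF (π := (spEquiv F n).toMonoidHom.comp ((MonoidHom.fst _ H).comp Q.subtype)) hn
    (fun j => (Slim.gr (σ j)).subgroupOf Q) (fun j => (Slim.gr (μ j)).subgroupOf Q)
    (fun j => by
      rw [← Subgroup.map_map, Slim.gr_map ((Qle.1 le_rfl).1 j)]
      exact cl _ _ _ _ (hS j) fun g => by simp [forall_and])
    (fun j hj => by
      rw [← Subgroup.map_map, Slim.gr_map ((Qle.1 le_rfl).2 j hj)]
      exact cl _ _ _ _ (hM j hj) fun g => by simp)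
    (fun j l h => Slim.gr_inj Q (hSS j l h) _) (fun j l h h1 h2 => Slim.gr_inj Q (hMM j l h h1 h2) _)
    (fun j l h => Slim.gr_inj Q (hMS j l h) _) fun X h1 h2 => by
      rw [eq_top_iff, ← Subgroup.map_subtype_le_map_subtype, ← MonoidHom.range_eq_map, Subgroup.range_subtype]
      exact Qle.2 ⟨fun j => by
          rw [← Subgroup.map_subgroupOf_eq_of_le ((Qle.1 le_rfl).1 j)]; exact Subgroup.map_mono (h1 j),
        fun j hj => by
          rw [← Subgroup.map_subgroupOf_eq_of_le ((Qle.1 le_rfl).2 j hj)]; exact Subgroup.map_mono (h2 j hj)⟩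
  obtain ⟨Φ, h1, h2⟩ := Slim.exists_unique_of_bij (Q := Q) ((Function.Bijective.of_comp_iff' (spEquiv F n).bijective _).1 hb)
  refine ⟨Φ, ⟨fun j g hg => h1 _ ((Qle.1 le_rfl).1 j ⟨⟨g, hg⟩, rfl⟩),
    fun j hj g hg => h1 _ ((Qle.1 le_rfl).2 j hj ⟨⟨g, hg⟩, rfl⟩)⟩, fun Ψ hΨ => h2 Ψ fun x hx => ?_⟩
  refine (Qle (X := (Ψ.comp (MonoidHom.fst _ H)).eqLocus (MonoidHom.snd _ H))).2 ⟨?_, ?_⟩ hx
  · rintro j _ ⟨⟨g, hg⟩, rfl⟩
    exact hΨ.1 j g hg
  · rintro j hj _ ⟨⟨g, hg⟩, rfl⟩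
    exact hΨ.2 j hj g hg

end Cfsg.Agent.S3713
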