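import Cfsg.Statements.S3726
import Cfsg.Agent.Lib.UF.C
import Cfsg.Agent.Lib.BN.ZassZ1
import Cfsg.Agent.Lib.Perm.Sharp2

set_option autoImplicit false
open Cfsg

namespace Cfsg.Agent.S3726

open MulAction Subgroup Cfsg.Lib Cfsg.Lib.BN Cfsg.Lib.UF Cfsg.Lib.Invol

/-- Let a finite group G act faithfully and 2-transitively on a finite set Ω, and suppose there is an involution t of G, fixing exactly i points, such that every non-identity element of the centralizer of t also fixes exactly i points. Then G is isomorphic to PSL₂(q) for some finite field of order q, or to a Suzuki group Sz(q) (q = 2^(2m+1) ≥ 8), or G has a normal subgroup acting regularly on Ω. -/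
theorem result {G Ω : Type*} [Group G] [Finite G] [Fintype Ω] [MulAction G Ω] [FaithfulSMul G Ω]
    (h2 : MulAction.IsMultiplyPretransitive G Ω 2) (i : ℕ) (t : G) (ht : orderOf t = 2)
    (hti : Nat.card {x : Ω // t • x = x} = i)
    (hC : ∀ g : G, Commute g t → g ≠ 1 → Nat.card {x : Ω // g • x = x} = i) :
    (∃ (F : Type) (_ : Field F) (_ : Fintype F), Nonempty (G ≃* Matrix.ProjectiveSpecialLinearGroup (Fin 2) F)) ∨
    Cfsg.Lie.IsoSuzuki G ∨
    (∃ R : Subgroup G, R.Normal ∧ (∀ x y : Ω, ∃ r ∈ R, r • x = y) ∧ ∀ x : Ω, ∀ r ∈ R, r • x = x → r = 1) := by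
  have T : T2 G Ω := ⟨fun hab hcd => is_two_pretransitive_iff.mp h2 hab hcd, fun hg => eq_of_smul_eq_smul (α := Ω) (by simpa using hg)⟩
  have H := T.toU ht fun g hg => hC g (mem_centralizer_singleton_iff.1 hg)
  obtain ⟨a, hab⟩ := T.exists_move (ne_one_of_two ht)
  generalize t • a = b at hab
  haveI : Nontrivial Ω := ⟨⟨_, _, hab⟩⟩
  have h3 : ∀ g : G, ∀ a b c : Ω, a ≠ b → b ≠ c → a ≠ c → g • a = a → g • b = b → g • c = c → g = 1 :=
    fun g a b c => H.three
  by_cases hs : ∀ (g : G) (a b : Ω), a ≠ b → g • a = a → g • b = b → g = 1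
  · obtain ⟨p, j, N, -, -, -, h1, -, -, h5, h6, -⟩ := Perm.sharp2_kernel h2 hs
    exact .inr (.inr ⟨N, h1, fun x y => let ⟨r, hr⟩ := h5.exists_smul_eq x y; ⟨r, r.2, hr⟩, fun x r hr e =>
      congrArg Subtype.val ((eq_bot_iff_forall _).1 (h6 x) ⟨r, hr⟩ e)⟩)
  by_cases hn : ∃ N : Subgroup G, N.Normal ∧ IsPretransitive N Ω ∧ ∀ a : Ω, stabilizer N a = ⊥
  · obtain ⟨N, h1, h5, h6⟩ := hn
    exact .inr (.inr ⟨N, h1, fun x y => let ⟨r, hr⟩ := h5.exists_smul_eq x y; ⟨r, r.2, hr⟩, fun x r hr e =>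
      congrArg Subtype.val ((eq_bot_iff_forall _).1 (h6 x) ⟨r, hr⟩ e)⟩)
  push Not at hs hn
  have hZ : IsZassenhausGroup G Ω := ⟨inferInstance, h2, h3, let ⟨g, a, b, e1, e2, e3, e4⟩ := hs; ⟨g, e4, a, b, e1, e2, e3⟩, hn⟩
  have h := z3_of_zass hZ
  have hE := zass_E2_ne_bot hZ hab
  obtain hl | ⟨h2, hn, -⟩ := zass_feit hZ h hab
  · left
    obtain ⟨k, _, _, e⟩ : ∃ (k : Type _) (_ : Field k) (_ : Finite k), Nonempty (G ≃* Linear.PSL2 k) := by
      by_cases hc : 2 * Nat.card (E2 G b a) = Nat.card (h.K b) - 1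
      · obtain ⟨k, _, _, -, -, e⟩ := zass_psl_of_half hZ h hab hc
        exact ⟨k, _, ‹_›, e⟩
      · obtain ⟨k, _, _, -, -, e⟩ := zass_psl_of_comm_even hZ h hab (h.comm_K_of_large hab hl) (by
          have h1 := (h.eq_or_eq_of_large hab hE hl).resolve_right hc
          have h3 : 0 < Nat.card (h.K b) := Nat.card_pos
          have h2 : ¬ Even (Nat.card (E2 G b a)) := fun he => by
            obtain ⟨u, hu, e⟩ := exists_two_mem_of_even he
            have h4 := H.mul_le e hab hu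
            have h5 : 1 < (Fx Ω u).ncard := (Set.one_lt_ncard_iff (Set.toFinite _)).2 ⟨b, a, hu.1, hu.2, hab⟩
            rw [H.fix_two e] at h5
            obtain rfl : i = 2 := le_antisymm H.le_two h5
            have := h.card_K b
            have : 0 < Nat.card (E2 G b a) := Nat.card_pos
            omega
          rw [Nat.even_iff] at h2 ⊢
          omega)
        exact ⟨k, _, ‹_›, e⟩
    obtain ⟨F, _, _, -, -, e⟩ := exists_psl_zero e
    exact ⟨F, _, ‹_›, e⟩
  · have hna : ∃ x ∈ h.K b, ∃ y ∈ h.K b, x * y ≠ y * x := by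
      by_contra! hc
      exact hn (commutator_self_eq_bot_iff.2 ⟨⟨fun x y => Subtype.ext (hc _ x.2 _ y.2)⟩⟩)
    exact .inr (.inl (zass_suzuki h hab hE h2 hna).1)

end Cfsg.Agent.S3726
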