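import Cfsg.Statements.S3728
import Cfsg.Agent.Lib.Coprime.SzMax

set_option autoImplicit false
open Cfsg

namespace Cfsg.Agent.S3728

open Subgroup Cfsg.Lib Cfsg.Lib.Coprime Cfsg.Lib.BN Cfsg.Lib.BN.Sz

theorem not_comm_of_four {G : Type*} [Group G] [Finite G] [IsSimpleGroup G] (h : 4 ∣ Nat.card G) :
    ¬ IsMulCommutative G := fun hc => by
  let _ : CommGroup G := { (inferInstance : Group G) with mul_comm := hc.is_comm.comm }
  have h1 : (Nat.card G).Prime := IsSimpleGroup.prime_card
  have h2 := (Nat.prime_dvd_prime_iff_eq Nat.prime_two h1).1 (dvd_trans (by norm_num) h)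
  rw [← h2] at h
  omega

theorem even_of_simple {G : Type*} [Group G] [Finite G] [IsSimpleGroup G] (h : 4 ∣ Nat.card G) (h3 : ¬ 3 ∣ Nat.card G) :
    Even ((Nat.card G).factorization 2) := by
  obtain ⟨K, _, k, _, ⟨e⟩⟩ := exists_sz_of_simple (not_comm_of_four h) h3
  rw [Nat.card_congr e.toEquiv, factorization_card_sz]
  exact even_two_mul _

theorem fact_two_mul {n : ℕ} (h : n ≠ 0) : (2 * n).factorization 2 = n.factorization 2 + 1 := by
  rw [Nat.factorization_mul (by norm_num) h, Finsupp.add_apply, Nat.prime_two.factorization_self, add_comm]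

theorem not_pgroup {H : Type*} [Group H] [Finite H] {a : ℕ} (ha : Odd a) (h1 : a ≠ 1) (hd : 2 * a ∣ Nat.card H) (p : ℕ)
    (hp : p.Prime) (hH : IsPGroup p H) : False := by
  have := Fact.mk hp
  obtain ⟨n, hn⟩ := IsPGroup.iff_card.1 hH
  rw [hn] at hd
  obtain rfl := (Nat.prime_dvd_prime_iff_eq Nat.prime_two hp).1
    (Nat.prime_two.dvd_of_dvd_pow (dvd_of_mul_right_dvd hd))
  exact h1 (((Nat.coprime_two_right.2 ha).pow_right n).eq_one_of_dvd (dvd_of_mul_left_dvd hd))

theorem simple_of {G : Type*} [Group G] [Finite G] {M M' : Subgroup G} (hM : IsCoatom M) (hM' : IsCoatom M') {a b : ℕ}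
    (ha : Odd a) (hb : Odd b) (hab : a.Coprime b) (h1 : Nat.card M = 2 * a) (h2 : Nat.card M' = 4 * b)
    (h16 : 16 ∣ Nat.card G) (h3 : ¬ 3 ∣ Nat.card G) (he : Even ((Nat.card G).factorization 2)) : IsSimpleGroup G := by
  have c1 : ∀ n, n ∣ 2 * a → n ∣ 4 * b → n ∣ 2 := fun n e1 e2 =>
    (Nat.Coprime.coprime_dvd_left e2 (Nat.Coprime.mul_left ((Nat.coprime_two_left.2 ha).pow_left 2)
      hab.symm)).dvd_of_dvd_mul_right e1
  have c2 : ¬ Nat.card G ∣ 2 * a * (4 * b) := fun e => by
    have := h16.trans e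
    obtain ⟨c, hc⟩ := ha.mul hb
    rw [show 2 * a * (4 * b) = 8 * (a * b) by ring, hc] at this
    omega
  have c3 : ∀ N L : Subgroup G, N.index = N.relIndex L → N.index ∣ Nat.card L := fun N L e =>
    e ▸ relIndex_dvd_card N L
  have c4 : ∀ N : Subgroup G, N.Normal → Nat.card N ∣ 2 ∨ N.index ∣ 2 := fun N _ => by
    rcases le_or_index_dvd hM N with e | e <;> rcases le_or_index_dvd hM' N with e' | e'
    · exact Or.inl (c1 _ (h1 ▸ card_dvd_of_le e) (h2 ▸ card_dvd_of_le e'))
    · exact absurd (N.card_mul_index ▸ Nat.mul_dvd_mul (h1 ▸ card_dvd_of_le e) (h2 ▸ c3 _ _ e')) c2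
    · refine absurd ?_ c2
      rw [← N.card_mul_index, mul_comm]
      exact Nat.mul_dvd_mul (h1 ▸ c3 _ _ e) (h2 ▸ card_dvd_of_le e')
    · exact Or.inr (c1 _ (h1 ▸ c3 _ _ e) (h2 ▸ c3 _ _ e'))
  have c5 : ∀ N : Subgroup G, N.Normal → Nat.card N ≠ 2 := fun N _ hN => by
    have hq : Nat.card G = 2 * Nat.card (G ⧸ N) := by rw [← N.card_mul_index, hN]; rfl
    have hNM : N ≤ M := (le_or_index_dvd hM N).resolve_right fun e => c2 (by
      rw [← N.card_mul_index, hN, mul_comm]
      exact Nat.mul_dvd_mul (h1 ▸ c3 _ _ e) (Dvd.dvd.mul_right (by norm_num) _))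
    have : Nontrivial (G ⧸ N) := Finite.one_lt_card_iff_nontrivial.1 (by
      have := Nat.le_of_dvd Nat.card_pos h16; omega)
    have : IsSimpleGroup (G ⧸ N) := ⟨fun K hK => by
      have d1 : N ≤ K.comap (QuotientGroup.mk' N) := QuotientGroup.le_comap_mk' N K
      rcases c4 (K.comap (QuotientGroup.mk' N)) inferInstance with e | e
      · rw [Hall.card_comap_mk', hN] at e
        exact Or.inl (card_eq_one.1 (Nat.dvd_one.1 ((Nat.mul_dvd_mul_iff_left two_pos).1 (e.trans (by norm_num)))))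
      · rcases (Nat.dvd_prime Nat.prime_two).1 e with e | e
        · rw [index_comap_of_surjective _ (QuotientGroup.mk'_surjective N)] at e
          exact Or.inr (index_eq_one.1 e)
        · exfalso
          rcases le_or_index_dvd hM (K.comap (QuotientGroup.mk' N)) with e' | e'
          · refine c2 ?_
            rw [← (K.comap (QuotientGroup.mk' N)).card_mul_index, e]
            exact Nat.mul_dvd_mul (h1 ▸ card_dvd_of_le e') (Dvd.dvd.mul_right (by norm_num) _)
          · have d2 := Hall.card_inf_mul_relIndex (K.comap (QuotientGroup.mk' N)) M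
            obtain ⟨c, hc⟩ := card_dvd_of_le (le_inf d1 hNM)
            rw [← e', e, h1, hc, hN] at d2
            obtain ⟨d, rfl⟩ := ha
            omega⟩
    have d3 := even_of_simple (G := G ⧸ N) (by omega) (by omega)
    rw [hq, fact_two_mul Nat.card_pos.ne', Nat.even_add_one] at he
    exact he d3
  have c6 : ∀ N : Subgroup G, N.Normal → N = ⊥ ∨ N.index ∣ 2 := fun N hN => (c4 N hN).imp_left fun e =>
    card_eq_one.1 (((Nat.dvd_prime Nat.prime_two).1 e).resolve_right (c5 N hN))
  have : Nontrivial G := Finite.one_lt_card_iff_nontrivial.1 (by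
    have := Nat.le_of_dvd Nat.card_pos h16; omega)
  refine ⟨fun K hK => (c6 K hK).imp_right fun e => ?_⟩
  rcases (Nat.dvd_prime Nat.prime_two).1 e with e | e
  · exact index_eq_one.1 e
  exfalso
  have hq : Nat.card G = 2 * Nat.card K := by rw [← K.card_mul_index, e, mul_comm]
  rw [hq, fact_two_mul Nat.card_pos.ne', Nat.even_add_one] at he
  rcases simple_or_sq e (fun e' => by rw [e', card_bot] at hq; omega) (fun N hN hle => (c6 N hN).imp_right fun e' => by
    refine le_antisymm hle (relIndex_eq_one.1 ?_)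
    have := relIndex_mul_index hle
    have := Nat.le_of_dvd two_pos e'
    have := Nat.pos_of_ne_zero (index_ne_zero_of_finite (H := N))
    rw [e] at *
    omega) with h | ⟨n, hn⟩
  · exact he (even_of_simple (by omega) (by omega))
  · have h0 : n ≠ 0 := fun e => by rw [e] at hn; exact Nat.card_pos.ne' hn
    rw [hn, Nat.factorization_mul h0 h0, Finsupp.add_apply] at he
    exact he ⟨_, rfl⟩


/-- Let q = 2^(2m+1) with m ≥ 1 and let G be a finite group whose set of orders of maximal subgroups equals that of the Suzuki group Sz(q). Then G is isomorphic to Sz(q). -/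
theorem result {G : Type*} [Group G] [Finite G] {F : Type*} [Field F] [Fintype F] (m : ℕ) (hm : 1 ≤ m)
    (hF : Fintype.card F = 2 ^ (2 * m + 1))
    (h : {k : ℕ | ∃ M : Subgroup G, IsCoatom M ∧ k = Nat.card ↥M} = {k : ℕ | ∃ M : Subgroup ↥(Cfsg.Lie.Sz F (2 ^ (m + 1))), IsCoatom M ∧ k = Nat.card ↥M}) :
    Nonempty (G ≃* ↥(Cfsg.Lie.Sz F (2 ^ (m + 1)))) := by
  have := szField_of_card hm hF
  have e := szEquiv (F := F) m
  have h8 := eight_le_q (F := F) m
  have h1 : ∀ T : Subgroup (Cfsg.Sz F m), IsOddPart m T → ∃ M : Subgroup G, IsCoatom M ∧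
      Nat.card (normalizer (T : Set (Cfsg.Sz F m))) = Nat.card M := fun T hT =>
    (Set.ext_iff.1 h _).2 ⟨_, (e.mapSubgroup.isCoatom_iff _).2 (isCoatom_normalizer_oddPart hT),
      (card_map_of_injective e.injective).symm⟩
  obtain ⟨M, hM, h2⟩ := h1 _ isOddPart_H
  obtain ⟨T, -, hT, -, h3, -, h4, -⟩ := exists_tori F m
  obtain ⟨M', hM', h5⟩ := h1 _ hT.isOddPart
  rw [card_normalizer_H] at h2
  rw [h4] at h5
  have hG : Nat.card G = Nat.card (Cfsg.Sz F m) := by
    rw [Nat.card_congr e.toEquiv]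
    refine Nat.dvd_antisymm (card_dvd_of_coatoms Nat.card_pos.ne' (fun L hL => ?_)
      (not_pgroup (odd_q_sub_one m) (by omega) (h2 ▸ card_subgroup_dvd_card M)))
      (card_dvd_of_coatoms Nat.card_pos.ne' (fun L hL => ?_) (not_pgroup (odd_q_sub_one m) (by omega) ?_))
    · obtain ⟨L', -, e⟩ := (Set.ext_iff.1 h _).1 ⟨L, hL, rfl⟩
      exact e ▸ card_subgroup_dvd_card L'
    · obtain ⟨L', -, e⟩ := (Set.ext_iff.1 h _).2 ⟨L, hL, rfl⟩
      exact e ▸ card_subgroup_dvd_card L'
    · rw [← Nat.card_congr e.toEquiv, ← card_normalizer_H (F := F)]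
      exact card_subgroup_dvd_card _
  have h6 : ¬ 3 ∣ Nat.card G := hG ▸ not_three_dvd_card m
  have h7 : 16 ∣ Nat.card G := by
    rw [hG, card_Sz, mul_assoc, ← pow_mul]
    exact (pow_dvd_pow 2 (show 4 ≤ _ by omega)).mul_right _
  have := simple_of hM hM' (odd_q_sub_one m) hT.odd_card ((coprime_q_sub_one m).coprime_dvd_right hT.card_dvd)
    h2.symm h5.symm h7 h6 (by rw [hG, factorization_card_sz]; exact even_two_mul _)
  obtain ⟨K, _, k, _, ⟨f⟩⟩ := exists_sz_of_simple (not_comm_of_four (G := G) (by omega)) h6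
  have h9 := factorization_card_sz (F := K) k
  rw [← Nat.card_congr f.toEquiv, hG, factorization_card_sz] at h9
  obtain rfl : m = k := by omega
  exact (nonempty_sz_equiv m).map fun g => (f.trans g).trans e

end Cfsg.Agent.S3728
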