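import Cfsg.Statements.S3732
import Cfsg.Agent.Lib.PG.OW

set_option autoImplicit false
open Cfsg

namespace Cfsg.Agent.S3732

open Configuration Submodule

/-- The Ostrom–Wagner Theorem. Let Π be a finite projective plane (points P, lines L) whose collineation group is 2-transitive on points: for any two ordered pairs of distinct points there is a permutation of the points, together with a compatible permutation of the lines preserving incidence, carrying the first pair to the second. Then Π is Desarguesian: there is a finite field F and a bijection from P onto the points of the projective plane over F (the 1-dimensional subspaces of F³) under which the lines of Π correspond exactly to the 2-dimensional subspaces of F³. -/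
theorem result
    {P L : Type*} [Membership P L] [Fintype P] [Fintype L] [Configuration.ProjectivePlane P L]
    (h2t : ∀ p₁ p₂ q₁ q₂ : P, p₁ ≠ p₂ → q₁ ≠ q₂ →
      ∃ (σ : Equiv.Perm P) (τ : Equiv.Perm L), (∀ (p : P) (l : L), σ p ∈ τ l ↔ p ∈ l) ∧ σ p₁ = q₁ ∧ σ p₂ = q₂) :
    ∃ (F : Type) (_ : Field F) (_ : Fintype F) (φ : P ≃ Projectivization F (Fin 3 → F)),
      (∀ l : L, ∃ W : Submodule F (Fin 3 → F), Module.finrank F W = 2 ∧
          ∀ p : P, p ∈ l ↔ (φ p).submodule ≤ W) ∧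
      (∀ W : Submodule F (Fin 3 → F), Module.finrank F W = 2 →
          ∃ l : L, ∀ p : P, p ∈ l ↔ (φ p).submodule ≤ W) := by
  have ln : ∀ p : P, ∃ l : L, p ∈ l := fun p => by
    obtain ⟨⟨l, k⟩⟩ := (Nat.card_pos_iff.1 (two_pos.trans (ProjectivePlane.two_lt_lineCount L p))).1
    exact ⟨l, k⟩
  have pt : ∀ l : L, ∃ p : P, p ∈ l := fun l => by
    obtain ⟨⟨p, k⟩⟩ := (Nat.card_pos_iff.1 (two_pos.trans (ProjectivePlane.two_lt_pointCount P l))).1
    exact ⟨p, k⟩
  have hp : Lib.PG.Pl (fun (p : P) (l : L) => p ∈ l) (ProjectivePlane.order P L) :=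
    ⟨fun p q => (em (p = q)).elim (fun e => (ln p).imp fun _ k => ⟨k, e ▸ k⟩) fun e => ⟨_, HasLines.mkLine_ax e⟩,
      fun p q => (em (p = q)).elim (fun e => (pt p).imp fun _ k => ⟨k, e ▸ k⟩) fun e => ⟨_, HasPoints.mkPoint_ax e⟩,
      Nondegenerate.eq_or_eq, ProjectivePlane.pointCount_eq P, ProjectivePlane.lineCount_eq L,
      ProjectivePlane.one_lt_order P L, let ⟨p, _⟩ := ProjectivePlane.exists_config (P := P) (L := L); ⟨p⟩⟩
  have h := hp.ca
  obtain ⟨r, _, ho⟩ := h.exists_oa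
    (fun a b c d h1 h2 => let ⟨σ, τ, k, e1, e2⟩ := h2t a b c d h1 h2; ⟨⟨(σ, τ), k⟩, e1, e2⟩)
    (Nat.card_eq_fintype_card.trans (ProjectivePlane.card_points P L))
    (Nat.card_eq_fintype_card.trans (ProjectivePlane.card_lines P L))
  obtain ⟨F, _, _, n, π, hc⟩ := ho.exists_crd
  have h3 : 3 ≤ n := by simpa using ho.three_le hc
  have key : ∀ {u w} {l : L}, u ≠ 0 → w ≠ 0 → π u ≠ π w → π u ∈ l → π w ∈ l → ∀ v ≠ 0, π v ∈ l ↔ v ∈ span F {u, w} :=
    fun {u w l} hu hw hne h1 h2 v hv => by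
      rw [← h.col_iff ho hne h1 h2, hc.col hu hw hne, mem_span_pair]
      refine ⟨fun ⟨a, b, k, e⟩ => ?_, fun ⟨a, b, e⟩ => ⟨a, b, e ▸ hv, by rw [e]⟩⟩
      obtain ⟨c, rfl⟩ := (hc.eq k hv).1 e
      exact ⟨c * a, c * b, by module⟩
  obtain rfl : n = 3 := le_antisymm (not_lt.1 fun k => by
    obtain ⟨n, rfl⟩ : ∃ m, n = m + 4 := ⟨n - 4, by omega⟩
    have e0 : ∀ i : Fin (n + 4), (Pi.single i 1 : Fin (n + 4) → F) ≠ 0 := fun i => by simp
    have e1 : ∀ i j : Fin (n + 4), i ≠ j → π (Pi.single i 1) ≠ π (Pi.single j 1) := fun i j k =>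
      hc.ne_of (f := LinearMap.proj j) (e0 i) (by simp [k.symm]) (by simp)
    obtain ⟨l, k1, k2⟩ := hp.line (π (Pi.single 0 1)) (π (Pi.single 1 1))
    obtain ⟨m, k3, k4⟩ := hp.line (π (Pi.single 2 1)) (π (Pi.single 3 1))
    obtain ⟨p, k5, k6⟩ := hp.pt l m
    obtain ⟨v, hv, rfl⟩ := hc.sur p
    have n1 : ∀ i j : ℕ, i < 4 → j < 4 → i ≠ j → (Fin.ofNat (n + 4) i) ≠ Fin.ofNat (n + 4) j := fun i j a b c e => c (by
      simpa [Nat.mod_eq_of_lt (show i < n + 4 by omega), Nat.mod_eq_of_lt (show j < n + 4 by omega)] using congrArg Fin.val e)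
    have n01 : (0 : Fin (n + 4)) ≠ 1 := n1 0 1 (by omega) (by omega) (by omega)
    have n02 : (0 : Fin (n + 4)) ≠ 2 := n1 0 2 (by omega) (by omega) (by omega)
    have n03 : (0 : Fin (n + 4)) ≠ 3 := n1 0 3 (by omega) (by omega) (by omega)
    have n12 : (1 : Fin (n + 4)) ≠ 2 := n1 1 2 (by omega) (by omega) (by omega)
    have n13 : (1 : Fin (n + 4)) ≠ 3 := n1 1 3 (by omega) (by omega) (by omega)
    have n23 : (2 : Fin (n + 4)) ≠ 3 := n1 2 3 (by omega) (by omega) (by omega)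
    obtain ⟨a, b, rfl⟩ := mem_span_pair.1 ((key (e0 _) (e0 _) (e1 _ _ n01) k1 k2 v hv).1 k5)
    obtain ⟨c, d, e⟩ := mem_span_pair.1 ((key (e0 _) (e0 _) (e1 _ _ n23) k3 k4 _ hv).1 k6)
    have a0 : 0 = a := by simpa [n01, n02, n03] using congrFun e 0
    have b0 : 0 = b := by simpa [n01.symm, n12, n13] using congrFun e 1
    exact hv (by simp [← a0, ← b0])) h3
  have fr : ∀ {u w : Fin 3 → F}, LinearIndependent F ![u, w] → Module.finrank F (span F {u, w}) = 2 := fun {u w} k => by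
    have := finrank_span_eq_card k
    rwa [Matrix.range_cons, Matrix.range_cons, Matrix.range_empty, Set.union_empty, Set.singleton_union] at this
  have key' : ∀ {u w} {l : L}, u ≠ 0 → w ≠ 0 → π u ≠ π w → π u ∈ l → π w ∈ l →
      ∀ p, p ∈ l ↔ (hc.equiv.symm p).submodule ≤ span F {u, w} := fun hu hw hne h1 h2 p => by
    obtain ⟨v, hv, rfl⟩ := hc.sur p
    rw [key hu hw hne h1 h2 v hv, ← hc.equiv_mk hv, Equiv.symm_apply_apply, Projectivization.submodule_mk,
      span_singleton_le_iff_mem]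
  refine ⟨F, inferInstance, inferInstance, hc.equiv.symm, fun l => ?_, fun W hW => ?_⟩
  · obtain ⟨p, h1⟩ := pt l
    obtain ⟨q, h2, h4, -⟩ := hp.ex3 l p p
    obtain ⟨u, hu, rfl⟩ := hc.sur p
    obtain ⟨w, hw, rfl⟩ := hc.sur q
    exact ⟨_, fr ((LinearIndependent.pair_iff' hu).2 fun c k => h4.symm ((hc.eq hu hw).2 ⟨c, k⟩)),
      key' hu hw h4.symm h1 h2⟩
  · let b := Module.finBasisOfFinrankEq F W hW
    have li : LinearIndependent F ![(b 0 : Fin 3 → F), b 1] := by
      rw [show ![(b 0 : Fin 3 → F), b 1] = W.subtype ∘ b by ext1 i; fin_cases i <;> rfl]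
      exact b.linearIndependent.map' W.subtype W.ker_subtype
    obtain ⟨l, h1, h2⟩ := hp.line (π (b 0)) (π (b 1))
    refine ⟨l, ?_⟩
    rw [← eq_of_le_of_finrank_eq (S₁ := span F {(b 0 : Fin 3 → F), (b 1 : Fin 3 → F)}) (S₂ := W)
      (span_le.2 (by rintro _ (rfl | rfl) <;> exact Subtype.prop _)) ((fr li).trans hW.symm)]
    exact key' (li.ne_zero 0) (li.ne_zero 1) (fun e => let ⟨c, k⟩ := (hc.eq (li.ne_zero 0) (li.ne_zero 1)).1 e
      (LinearIndependent.pair_iff' (li.ne_zero 0)).1 li c k) h1 h2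

end Cfsg.Agent.S3732
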