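import Cfsg.Statements.S3733
import Cfsg.Agent.Lib.Coprime.Frobenius

set_option autoImplicit false
open Cfsg

open Subgroup Cfsg.Lib
open scoped commutatorElement
open scoped IsMulCommutative
namespace Cfsg.Agent.S3733

/-- Let A and V be subgroups of a finite group with V abelian and nontrivial and A normalizing V. Suppose a nonempty finite family of proper subgroups of A partitions A: every non-identity element of A lies in exactly one member. If the number of members minus one is coprime to the order of V, then some member B of the family has a non-identity fixed point on V, that is V ∩ C(B) ≠ 1. -/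
theorem result {G : Type*} [Group G] [Finite G] (A V : Subgroup G) (hVab : IsMulCommutative V) (hV : V ≠ ⊥) (hAV : A ≤ Subgroup.normalizer (V : Set G)) (𝒜 : Finset (Subgroup G)) (hne : 𝒜.Nonempty) (hprop : ∀ B ∈ 𝒜, B < A) (hpart : ∀ a ∈ A, a ≠ 1 → ∃! B, B ∈ 𝒜 ∧ a ∈ B) (hk : (𝒜.card - 1).Coprime (Nat.card V)) : ∃ B ∈ 𝒜, V ⊓ Subgroup.centralizer (B : Set G) ≠ ⊥ := by
  classical
  by_contra! h
  have := Fintype.ofFinite G
  let f : V → G → V := fun v g => if hg : g ∈ A then Coprime.conjAut hAV ⟨g, hg⟩ v else 1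
  have key : ∀ B ≤ A, V ⊓ centralizer (B : Set G) = ⊥ → ∀ v, ∏ g with g ∈ B, f v g = 1 := fun B hB hc v => by
    have h1 := Coprime.prod_conjAut_mem_centralizer (hB.trans hAV) v
    have h2 : ∏ g with g ∈ B, f v g = ∏ a : B, Coprime.conjAut (hB.trans hAV) a v := by
      rw [Finset.prod_subtype (p := (· ∈ B)) _ (by simp)]
      exact Finset.prod_congr rfl fun a _ => by simp only [f, dif_pos (hB a.2)]; rfl
    rw [h2]
    exact Subtype.ext (mem_bot.1 (hc.le ⟨Subtype.prop _, h1⟩))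
  obtain ⟨B₀, hB₀⟩ := hne
  refine hV (eq_bot_iff.2 fun v hv => ?_)
  let w : V := ⟨v, hv⟩
  have hA := key A le_rfl (eq_bot_iff.2 ((inf_le_inf_left _ (centralizer_le (hprop _ hB₀).le)).trans (h _ hB₀).le)) w
  have h1 : ∏ B ∈ 𝒜, ∏ g with g ∈ B, f w g = 1 := Finset.prod_eq_one fun B hB => key B (hprop B hB).le (h B hB) w
  have h2 : ∏ B ∈ 𝒜, ∏ g with g ∈ B, f w g = ∏ g with g ∈ A, f w g ^ (𝒜.filter (g ∈ ·)).card := by
    simp only [← Finset.prod_const]
    refine Finset.prod_comm' fun B g => ?_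
    simp only [Finset.mem_filter, Finset.mem_univ, true_and]
    exact ⟨fun ⟨h1, h2⟩ => ⟨⟨h1, h2⟩, (hprop B h1).le h2⟩, fun h => h.1⟩
  have h1A : (1 : G) ∈ Finset.univ.filter (· ∈ A) := by simp
  rw [h2, ← Finset.mul_prod_erase _ _ h1A] at h1
  rw [← Finset.mul_prod_erase _ _ h1A] at hA
  have h3 : ∏ g ∈ (Finset.univ.filter (· ∈ A)).erase 1, f w g ^ (𝒜.filter (g ∈ ·)).card = ∏ g ∈ (Finset.univ.filter (· ∈ A)).erase 1, f w g :=
    Finset.prod_congr rfl fun g hg => by
      simp only [Finset.mem_erase, Finset.mem_filter, Finset.mem_univ, true_and] at hg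
      obtain ⟨B, hB, hu⟩ := hpart g hg.2 hg.1
      rw [Finset.card_eq_one.2 ⟨B, Finset.eq_singleton_iff_unique_mem.2 ⟨Finset.mem_filter.2 hB, fun C hC => hu C (Finset.mem_filter.1 hC)⟩⟩, pow_one]
  have h4 : f w 1 = w := by simp only [f, dif_pos A.one_mem]; exact Subtype.ext (by simp [Coprime.coe_conjAut])
  rw [h3, Finset.filter_true_of_mem (fun B _ => B.one_mem), h4] at h1
  rw [h4] at hA
  have h5 : w ^ (𝒜.card - 1) = 1 := by
    obtain ⟨k, hk⟩ : ∃ k, 𝒜.card = k + 1 := ⟨𝒜.card - 1, by have := Finset.card_pos.2 ⟨_, hB₀⟩; omega⟩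
    rw [hk, pow_succ, mul_assoc, hA, mul_one] at h1
    simpa [hk] using h1
  have h6 : orderOf w = 1 := Nat.eq_one_of_dvd_coprimes hk (orderOf_dvd_of_pow_eq_one h5) (orderOf_dvd_natCard w)
  exact congrArg Subtype.val (orderOf_eq_one_iff.1 h6)

end Cfsg.Agent.S3733
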