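import Cfsg.Statements.S3735
import Cfsg.Agent.Lib.Coprime.Generation
import Cfsg.Agent.Lib.Transfer.SylowIn

set_option autoImplicit false
open Cfsg

open Subgroup Cfsg.Lib
open scoped commutatorElement
open Transfer
namespace Cfsg.Agent.S3735

/-- Clifford's Theorem for actions on finite abelian groups, first part. Let H and V be subgroups of a finite group with V abelian and H normalizing V, and let A be a normal subgroup of H. If every H-invariant subgroup of V has an H-invariant complement in V, then every A-invariant subgroup of V has an A-invariant complement in V. -/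
theorem result {G : Type*} [Group G] [Finite G] (H A V : Subgroup G) (hVab : IsMulCommutative V) (hHV : H ≤ Subgroup.normalizer (V : Set G)) (hAH : A ≤ H) (hAn : H ≤ Subgroup.normalizer (A : Set G)) (hss : ∀ U : Subgroup G, U ≤ V → H ≤ Subgroup.normalizer (U : Set G) → ∃ W : Subgroup G, W ≤ V ∧ H ≤ Subgroup.normalizer (W : Set G) ∧ U ⊓ W = ⊥ ∧ U ⊔ W = V) (U : Subgroup G) (hUV : U ≤ V) (hAU : A ≤ Subgroup.normalizer (U : Set G)) : ∃ W : Subgroup G, W ≤ V ∧ A ≤ Subgroup.normalizer (W : Set G) ∧ U ⊓ W = ⊥ ∧ U ⊔ W = V := by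
  let 𝒮 : Set (Subgroup G) := {M | M ≤ V ∧ A ≤ normalizer (M : Set G) ∧ ∀ W : Subgroup G, W ≤ M → A ≤ normalizer (W : Set G) → W = ⊥ ∨ W = M}
  have hcj : ∀ h ∈ H, ∀ M : Subgroup G, A ≤ normalizer (M : Set G) → A ≤ normalizer (cj h M : Set G) := fun h hh M hM => by
    rw [← cj_normalizer, ← cj_eq_of_mem_normalizer (hAn hh)]; exact map_mono hM
  have hS : ∀ h ∈ H, ∀ M ∈ 𝒮, cj h M ∈ 𝒮 := fun h hh M hM => by
    refine ⟨(map_mono hM.1).trans (cj_eq_of_mem_normalizer (hHV hh)).le, hcj h hh M hM.2.1, fun W hW hAW => ?_⟩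
    rcases hM.2.2 (cj h⁻¹ W) ((cj_mono _ hW).trans (cj_inv_cj _ _).le) (hcj _ (inv_mem hh) W hAW) with h1 | h1
    · exact .inl (cj_eq_bot.1 h1)
    · exact .inr (by rw [← h1, cj_cj_inv])
  have hSn : H ≤ normalizer ((sSup 𝒮 : Subgroup G) : Set G) := fun h hh => mem_normalizer_of_cj_le (by
    rw [cj, sSup_eq_iSup, Subgroup.map_iSup]
    refine iSup_le fun M => ?_
    rw [Subgroup.map_iSup]
    exact iSup_le fun hM => le_iSup₂_of_le (cj h M) (hS h hh M hM) le_rfl)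
  obtain ⟨W₀, hW₀, hHW₀, h1, h2⟩ := hss (sSup 𝒮) (sSup_le fun M hM => hM.1) hSn
  have h3 : W₀ = ⊥ := by
    by_contra h3
    obtain ⟨M, hM1, hM2, hM3, hM4⟩ := Coprime.exists_minimal_invariant (hAH.trans hHW₀) h3
    exact hM2 (eq_bot_iff.2 ((le_inf (le_sSup (s := 𝒮) ⟨hM1.trans hW₀, hM3, hM4⟩) hM1).trans h1.le))
  rw [h3, sup_bot_eq] at h2
  obtain ⟨W, -, ⟨hW1, hW2, hW3⟩, hW4⟩ := Core.exists_maximal_ge (fun W : Subgroup G => W ≤ V ∧ A ≤ normalizer (W : Set G) ∧ U ⊓ W = ⊥)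
    (H := ⊥) ⟨bot_le, le_normalizer_of_normal, by simp⟩
  refine ⟨W, hW1, hW2, hW3, le_antisymm (sup_le hUV hW1) (h2 ▸ sSup_le fun M hM => ?_)⟩
  rcases hM.2.2 (M ⊓ (U ⊔ W)) inf_le_left (Core.le_normalizer_inf hM.2.1 (Core.le_normalizer_sup hAU hW2)) with h4 | h4
  · refine le_sup_right.trans ((hW4 (W ⊔ M) ⟨sup_le hW1 hM.1, Core.le_normalizer_sup hW2 hM.2.1, eq_bot_iff.2 fun x ⟨hx1, hx2⟩ => ?_⟩ le_sup_left).le.trans le_sup_right)
    obtain ⟨w, hw, m, hm, rfl⟩ := (Core.mem_sup_of_le_normalizer_right (hW1.trans (Coprime.le_normalizer_of_le_of_comm hM.1))).1 hx2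
    have h5 : m = 1 := mem_bot.1 (h4.le ⟨hm, by
      simpa using mul_mem (inv_mem (mem_sup_right hw)) (mem_sup_left hx1 : w * m ∈ U ⊔ W)⟩)
    subst h5
    exact hW3.le ⟨hx1, by simpa using hw⟩
  · exact h4 ▸ inf_le_right

end Cfsg.Agent.S3735
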