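import Cfsg.Statements.S3736
import Cfsg.Agent.Lib.FG.Act
import Cfsg.Agent.Lib.Layer.Baer

set_option autoImplicit false
open Cfsg

open Subgroup Cfsg.Lib
open scoped commutatorElement
open BG1
namespace Cfsg.Agent.S3736

/-- The Hall–Higman reduction for a minimal non-trivial action. Let B, A and P be subgroups of a finite group with P a p-group, B normalizing P, and A a normal subgroup of B of order prime to p. Suppose A does not centralize P but centralizes every proper B-invariant subgroup of P. Then [P, A] = P; P is elementary abelian or special; B acts irreducibly on P/Φ(P), that is, the only B-invariant subgroups of P containing Φ(P) are Φ(P) and P; and if p is odd then every element of P has order dividing p. -/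
theorem result {X : Type*} [Group X] [Finite X] {p : ℕ} [Fact p.Prime] (B A P : Subgroup X) (hP : IsPGroup p P) (hBP : B ≤ Subgroup.normalizer (P : Set X)) (hAB : A ≤ B) (hAn : B ≤ Subgroup.normalizer (A : Set X)) (hAp : (Nat.card A).Coprime p) (hnt : ⁅P, A⁆ ≠ ⊥) (hmin : ∀ U : Subgroup X, U < P → B ≤ Subgroup.normalizer (U : Set X) → ⁅U, A⁆ = ⊥) : ⁅P, A⁆ = P ∧ (Cfsg.IsElementaryAbelian p P ∨ Cfsg.IsSpecial p ↥P) ∧ (∀ U : Subgroup X, (frattini ↥P).map P.subtype ≤ U → U ≤ P → B ≤ Subgroup.normalizer (U : Set X) → U = (frattini ↥P).map P.subtype ∨ U = P) ∧ (p ≠ 2 → ∀ x ∈ P, x ^ p = 1) := by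
  have hAP := hAB.trans hBP
  have hc := Coprime.coprime_card_of_isPGroup hP hAp
  have h1 : ⁅P, A⁆ = P := by
    by_contra h
    exact hnt ((Coprime.commutator_commutator_eq hAP hc).symm.trans
      (hmin _ (lt_of_le_of_ne (commutator_le_left_of_norm hAP) h) (Core.le_normalizer_commutator hBP hAn)))
  have h2 : ∀ U : Subgroup X, U < P → B ≤ 𝐍(U) → U ≤ ⁅P, P⁆ := fun U hU hB =>
    (le_inf (le_inf hU.le (commutator_eq_bot_iff_le_centralizer.1 (hmin U hU hB))) (h1.symm ▸ hU.le)).trans (Layer.inf_cent_inf_comm_le_der hAP hc)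
  have h3 : P ≠ ⊥ := fun h => hnt (h1.trans h)
  have hΦ := hBP.trans (Core.normalizer_le_normalizer_frattiniOf P)
  have h4 : (frattini P).map P.subtype = ⁅P, P⁆ := le_antisymm (h2 _ (Core.frattiniOf_lt h3) hΦ) (PGrp.commutator_le_map_frattini hP)
  have h5 : A ≤ 𝐂((frattini P).map P.subtype) := le_cent_symm (commutator_eq_bot_iff_le_centralizer.1 (hmin _ (Core.frattiniOf_lt h3) hΦ))
  have h6 : P ≤ 𝐂(⁅P, P⁆) := h1.ge.trans (Coprime.commutator_le_centralizer_of_centralizes (le_norm_der le_normalizer) (h4 ▸ h5))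
  refine ⟨h1, ?_, fun U h7 h8 h9 => (h8.lt_or_eq.imp_left fun h => le_antisymm (h4 ▸ h2 U h h9) h7), fun h7 x hx => ?_⟩
  · by_cases h : P ≤ 𝐂(P)
    · refine .inl ⟨PGrp.isMulCommutative_iff_forall.2 fun x hx y hy => h hy x hx, fun x hx => ?_⟩
      have := PGrp.pow_mem_map_frattini hP hx
      rwa [h4, commutator_eq_bot_iff_le_centralizer.2 h] at this
    have h7 : P ⊓ 𝐂(P) = ⁅P, P⁆ := le_antisymm (h2 _ (lt_of_le_of_ne inf_le_left fun e => h (inf_eq_left.1 e))
      (Core.le_normalizer_inf hBP (Core.le_normalizer_centralizer hBP))) (le_inf (commutator_le_left_of_norm le_normalizer) (le_cent_symm h6))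
    exact .inr ⟨hP, map_injective P.subtype_injective (by rw [h4, Core.map_subtype_center, h7]),
      map_injective P.subtype_injective (by rw [PGrp.map_subtype_commutator', Core.map_subtype_center, h7])⟩
  · refine PGrp.pow_eq_one_of_mem_omegaOne_of_class_two ((Fact.out : p.Prime).odd_of_ne_two h7) (H := P)
      (fun x hx y hy z hz => h6 hz _ (commutator_mem_commutator hx hy)) x ((h1.ge.trans (commutator_le.2 fun y hy a ha => ?_)) hx)
    exact PGrp.mem_omegaOne_of_pow (h1.le (commutator_mem_commutator hy ha))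
      ((Coprime.commutatorElement_pow_eq_one_of_frattini hP hAP h1 h5 hy ha).1 h7)

end Cfsg.Agent.S3736
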