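import Cfsg.Statements.S3738
import Cfsg.Agent.Lib.R2.Cube

set_option autoImplicit false
open Cfsg

namespace Cfsg.Agent.S3738

open Cfsg.Lib
set_option linter.style.haveILetI false

/-- Let d be a non-identity 3-element of a finite group and P a 2-subgroup normalized by d on which ⟨d⟩ acts faithfully (no non-identity power of d centralizes P) and without non-identity fixed points (C_P(d) = 1). If every abelian subgroup of P has 2-rank at most 2, then d has order 3. -/
theorem result {X : Type*} [Group X] [Finite X] (d : X) (n : ℕ) (hn : 1 ≤ n) (hd : orderOf d = 3 ^ n) (P : Subgroup X) (hP : IsPGroup 2 P) (hdP : d ∈ Subgroup.normalizer (P : Set X)) (hfaith : Subgroup.zpowers d ⊓ Subgroup.centralizer (P : Set X) = ⊥) (hfpf : P ⊓ Subgroup.centralizer {d} = ⊥) (hrank : ∀ V : Subgroup X, V ≤ P → IsMulCommutative V → Cfsg.PRankLE 2 2 V) : orderOf d = 3 := by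
  have h3 : P ≤ Subgroup.centralizer {d ^ 3} := Lib.R2.cube_cent (n := n) (hd ▸ pow_orderOf_eq_one d) hP hdP hfpf
    fun E hE h => by
      have hc : IsMulCommutative E := ⟨⟨fun a b => Subtype.ext (by
        have h1 : ∀ x ∈ E, x⁻¹ = x := fun x hx => inv_eq_of_mul_eq_one_right (h x hx)
        have := h1 _ (E.mul_mem a.2 b.2)
        rw [mul_inv_rev, h1 _ a.2, h1 _ b.2] at this
        exact this.symm)⟩⟩
      have := hrank E hE hc ⊤ inferInstance fun a _ => Subtype.ext (by simpa [sq] using h a a.2)
      simpa using this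
  have h4 : d ^ 3 = 1 := (Subgroup.eq_bot_iff_forall _).1 hfaith _ ⟨pow_mem (Subgroup.mem_zpowers d) 3,
    Subgroup.mem_centralizer_iff.2 fun x hx => Subgroup.mem_centralizer_singleton_iff.1 (h3 hx)⟩
  have : Fact (Nat.Prime 3) := ⟨Nat.prime_three⟩
  refine orderOf_eq_prime h4 fun e => ?_
  rw [e, orderOf_one] at hd
  exact absurd hd.symm (Nat.ne_of_gt (Nat.one_lt_pow (by omega) (by norm_num)))

end Cfsg.Agent.S3738
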