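import Cfsg.Statements.S3739
import Cfsg.Agent.Lib.FG.Quad
import Cfsg.Agent.Lib.Small.Simple
import Cfsg.Agent.Lib.BG1.Sec1
import Cfsg.Agent.Lib.PGrp.Critical
import Cfsg.Agent.Lib.PGrp.OmegaBasic
import Cfsg.Agent.Lib.Coprime.PGroup

set_option autoImplicit false
open Cfsg

namespace Cfsg.Agent.S3739

open Subgroup Cfsg.Lib Cfsg.Lib.Core
open scoped commutatorElement
set_option linter.style.haveILetI false

theorem dvd_rel {G : Type*} [Group G] [Finite G] {p : ℕ} [Fact p.Prime] {H K : Subgroup G} (hK : IsPGroup p K)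
    (h : ¬ K ≤ H) : p ∣ H.relIndex K := by
  obtain ⟨k, hk⟩ := hK.index (H.subgroupOf K)
  change H.relIndex K = _ at hk
  rcases k with _ | k
  · exact absurd (relIndex_eq_one.1 hk) h
  · rw [hk]; exact dvd_pow_self p k.succ_ne_zero

/-- Let G be a finite group with C_G(O₂(G)) ≤ O₂(G) containing an element of order 6, and let d be a non-identity 3-element of G normalizing a nontrivial elementary abelian 2-subgroup W with C_W(d) = 1. Then G has an elementary abelian subgroup of order 8. -/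
theorem result {G : Type*} [Group G] [Finite G] (hchar : Subgroup.centralizer (Cfsg.pCore 2 G : Set G) ≤ Cfsg.pCore 2 G) (hsix : ∃ g : G, orderOf g = 6) (d : G) (hd1 : d ≠ 1) (hd : IsPGroup 3 ↥(Subgroup.zpowers d)) (W : Subgroup G) (hW : Cfsg.IsElementaryAbelian 2 W) (hW1 : W ≠ ⊥) (hdW : d ∈ Subgroup.normalizer (W : Set G)) (hfpf : W ⊓ Subgroup.centralizer {d} = ⊥) : ∃ E : Subgroup G, Cfsg.IsElementaryAbelian 2 E ∧ Nat.card E = 8 := by
  haveI := Fact.mk Nat.prime_two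
  haveI := Fact.mk Nat.prime_three
  by_contra! hE
  set Q := pCore 2 G with hQ
  have hQ2 : IsPGroup 2 Q := isPGroup_pCore 2 G
  have hea : ∀ E : Subgroup G, IsElementaryAbelian 2 E → IsPGroup 2 E := fun E h x => ⟨1, Subtype.ext (h.2 x x.2)⟩
  have h4 : ∀ E : Subgroup G, IsElementaryAbelian 2 E → Nat.card E ∣ 4 := fun E h => by
    obtain ⟨k, hk⟩ := (hea E h).exists_card_eq
    by_contra h1
    have h2 : 3 ≤ k := by
      by_contra h3
      exact h1 (hk ▸ pow_dvd_pow 2 (show k ≤ 2 by omega))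
    obtain ⟨K, hK⟩ := Sylow.exists_subgroup_card_pow_prime (G := E) 2 (hk ▸ pow_dvd_pow 2 h2)
    refine hE (K.map E.subtype) ⟨⟨⟨fun a b => Subtype.ext (congrArg (fun x : E => (x : G))
      (h.1.is_comm.comm ⟨a, map_subtype_le K a.2⟩ ⟨b, map_subtype_le K b.2⟩))⟩⟩, fun a ha => h.2 a (map_subtype_le K ha)⟩ ?_
    rw [card_map_subtype, hK]; rfl
  have hfour : ∀ U : Subgroup G, Nat.card U ∣ 4 → U ≠ ⊥ → Nat.card U % 3 = 1 → Nat.card U = 4 := fun U h1 h2 h3 => by
    have h5 := mt card_eq_one.1 h2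
    have := Nat.le_of_dvd (by norm_num) h1
    interval_cases h : Nat.card U <;> simp_all
  have hz : ∀ e : G, centralizer ((zpowers e : Subgroup G) : Set G) = centralizer {e} := fun e => by
    rw [zpowers_eq_closure, centralizer_closure]
  have L2 : ∀ e : G, IsPGroup 3 (zpowers e) → W ⊓ centralizer {e} = ⊥ → ∀ U ≤ W, U ≠ ⊥ →
      e ∈ normalizer (U : Set G) → Nat.card U = 4 := fun e he h1 U hU h2 h3 => by
    have := PGrp.card_modEq_card_inf_centralizer he (zpowers_le.2 h3)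
    rw [hz, show U ⊓ centralizer {e} = ⊥ from eq_bot_iff.2 (h1 ▸ inf_le_inf_right _ hU), card_bot] at this
    exact hfour U ((card_dvd_of_le hU).trans (h4 W hW)) h2 this
  have hW4 : Nat.card W = 4 := L2 d hd hfpf W le_rfl hW1 hdW
  have L1 : ∀ t : G, t ^ 2 = 1 → t ∈ centralizer (W : Set G) → t ∈ W := fun t h1 h2 => by
    rw [eq_of_le_of_card_ge (le_sup_left : W ≤ W ⊔ zpowers t)
      (hW4 ▸ Nat.le_of_dvd (by norm_num) (h4 _ (PGrp.isElementaryAbelian_sup_zpowers hW h2 h1)))]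
    exact mem_sup_right (mem_zpowers t)
  have hQ0 : Q ≠ ⊥ := fun e => hW1 (eq_bot_iff.2 fun w _ => e ▸ hchar fun q hq => by
    rw [e, SetLike.mem_coe, mem_bot] at hq; simp [hq])
  have hWQ : W ≤ Q ⊓ centralizer (Q : Set G) := by
    have h1 := inf_centralizer_ne_bot_of_isPGroup hQ2 (hQ2.to_sup_of_normal_left (hea W hW)) le_normalizer_of_normal hQ0
    obtain ⟨z, hz⟩ := exists_prime_orderOf_dvd_card' 2
      (((hQ2.to_inf_left).card_eq_or_dvd).resolve_left (mt card_eq_one.1 h1))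
    have h2 : (z : G) ∈ W ⊓ (Q ⊓ centralizer (Q : Set G)) :=
      ⟨L1 z (by rw [← hz, ← orderOf_coe, pow_orderOf_eq_one]) (centralizer_le (by simp) z.2.2), z.2.1,
        centralizer_le (by simp) z.2.2⟩
    have h3 := L2 d hd hfpf (W ⊓ (Q ⊓ centralizer (Q : Set G))) inf_le_left (fun e => by
      rw [e, mem_bot] at h2
      rw [← orderOf_coe, h2, orderOf_one] at hz; omega)
      (inf_normalizer_le_normalizer_inf ⟨hdW, le_normalizer_of_normal (mem_top d)⟩)
    exact (eq_of_le_of_card_ge inf_le_left (by rw [h3, hW4])).ge.trans inf_le_right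
  have hWe : ∀ t ∈ Q, t ^ 2 = 1 → t ∈ W := fun t ht h => L1 t h fun w hw => ((hWQ hw).2 t ht).symm
  haveI hWn : W.Normal := ⟨fun w hw g => hWe _ (Normal.conj_mem inferInstance _ (hWQ hw).1 g)
    (by rw [conj_pow, hW.2 w hw]; simp)⟩
  have L3 : ∀ e : G, IsPGroup 3 (zpowers e) → W ⊓ centralizer {e} ≠ ⊥ → e ∈ centralizer (W : Set G) := fun e he h1 => by
    have := PGrp.card_modEq_card_inf_centralizer he (le_normalizer_of_normal (H := W))
    rw [hz, hW4] at this
    have h2 := hfour _ ((card_dvd_of_le inf_le_left).trans hW4.dvd) h1 this.symm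
    have h3 : W ≤ centralizer {e} := (eq_of_le_of_card_ge inf_le_left (by rw [h2, hW4])).ge.trans inf_le_right
    exact fun w hw => mem_centralizer_singleton_iff.1 (h3 hw)
  obtain ⟨x, hx3, hxW⟩ : ∃ x : G, orderOf x = 3 ∧ x ∈ centralizer (W : Set G) := by
    obtain ⟨g, hg⟩ := hsix
    have h1 : orderOf (g ^ 2) = 3 := by rw [orderOf_pow_of_dvd (by norm_num) (by norm_num [hg]), hg]
    have h2 : orderOf (g ^ 3) = 2 := by rw [orderOf_pow_of_dvd (by norm_num) (by norm_num [hg]), hg]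
    have h3 : IsPGroup 3 (zpowers (g ^ 2)) := .of_card (by rw [Nat.card_zpowers, h1, pow_one])
    refine ⟨g ^ 2, h1, L3 _ h3 fun h5 => ?_⟩
    have h6 := inf_centralizer_ne_bot_of_isPGroup (hea W hW)
      (.of_card (by rw [Nat.card_zpowers, h2, pow_one]) : IsPGroup 2 (zpowers (g ^ 3))) le_normalizer_of_normal hW1
    have hc : g ^ 2 ∈ centralizer ((zpowers (g ^ 3) : Subgroup G) : Set G) := by
      rw [hz, mem_centralizer_singleton_iff]; group
    have h7 := L2 _ h3 h5 _ inf_le_left h6 (inf_normalizer_le_normalizer_inf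
      ⟨le_normalizer_of_normal (mem_top _), le_normalizer hc⟩)
    have h8 : W ≤ centralizer ((zpowers (g ^ 3) : Subgroup G) : Set G) :=
      (eq_of_le_of_card_ge inf_le_left (by rw [h7, hW4])).ge.trans inf_le_right
    have h9 : g ^ 3 ∈ W ⊓ centralizer {g ^ 2} := ⟨L1 _ (h2 ▸ pow_orderOf_eq_one _) fun w hw =>
      (h8 hw _ (mem_zpowers _)).symm, mem_centralizer_singleton_iff.2 (by group)⟩
    rw [h5, mem_bot] at h9
    simp [h9] at h2
  obtain ⟨D, hD⟩ := hd.exists_le_sylow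
  set X := (D : Subgroup G) ⊓ centralizer (W : Set G) with hX
  have hX3 : IsPGroup 3 X := D.isPGroup'.to_inf_left
  have hXc : (Nat.card X).Coprime 2 := by
    obtain ⟨k, hk⟩ := hX3.exists_card_eq
    rw [hk]; exact Nat.Coprime.pow_left k (by norm_num)
  have hXQ : ¬ X ≤ centralizer (Q : Set G) := fun h => by
    obtain ⟨D', hD'⟩ := (IsPGroup.of_card (by rw [Nat.card_zpowers, hx3, pow_one]) : IsPGroup 3 (zpowers x)).exists_le_sylow
    obtain ⟨g, rfl⟩ := MulAction.exists_smul_eq G D' D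
    have h1 : g * x * g⁻¹ ∈ X := ⟨⟨x, hD' (mem_zpowers x), rfl⟩, Normal.conj_mem inferInstance _ hxW g⟩
    obtain ⟨k, hk⟩ := IsPGroup.iff_orderOf.1 hQ2 ⟨_, hchar (h h1)⟩
    rw [orderOf_mk, show orderOf (g * x * g⁻¹) = 3 from hx3 ▸ (MulAut.conj g).orderOf_eq x] at hk
    exact absurd (Nat.prime_three.dvd_of_dvd_pow hk.dvd) (by norm_num)
  obtain ⟨C, hCQ, hCn, hC1, hC2⟩ := BG1.exists_critical (K := Q) hQ2.isNilpotent
  haveI hCN : C.Normal := normalizer_eq_top_iff.1 (top_le_iff.1 (normalizer_eq_top Q ▸ hCn))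
  have hXC : ¬ X ≤ centralizer (C : Set G) := fun h => hXQ (Coprime.thompson_PxQ (hQ2.to_le hCQ) hXc hQ2
    (le_centralizer_iff.1 h) le_normalizer_of_normal le_normalizer_of_normal (hC2.trans (le_centralizer_iff.1 h)))
  have hsq : ∀ a ∈ Q, a ^ 4 = 1 → a ^ 2 ∈ W := fun a ha h => hWe _ (pow_mem ha 2) (by rw [← pow_mul, h])
  have hcc : ∀ a ∈ C, ∀ b ∈ C, ∀ c ∈ C, c * ⁅a, b⁆ = ⁅a, b⁆ * c := fun a ha b hb c hc =>
    (hC1 (commutator_mem_commutator ha (hCQ hb))).2 c hc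
  let R : Subgroup G :=
    { carrier := {c | c ∈ C ∧ c ^ 4 = 1}
      one_mem' := ⟨C.one_mem, one_pow _⟩
      inv_mem' := fun h => ⟨C.inv_mem h.1, by rw [inv_pow, h.2, inv_one]⟩
      mul_mem' := by
        rintro a b ⟨ha, ha'⟩ ⟨hb, hb'⟩
        refine ⟨C.mul_mem ha hb, ?_⟩
        have e1 : (a * b) ^ 2 = a ^ 2 * ⁅a⁻¹, b⁆ * b ^ 2 := by simp only [commutatorElement_def, sq]; group
        have e2 : ⁅a⁻¹, b⁆ ^ 2 = 1 := by
          have h1 := (hWQ (hsq a (hCQ ha) ha')).2 b (hCQ hb)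
          have h2 := hcc _ (C.inv_mem ha) _ hb a ha
          calc ⁅a⁻¹, b⁆ ^ 2 = a⁻¹ * (a * ⁅a⁻¹, b⁆) * ⁅a⁻¹, b⁆ := by rw [sq]; group
            _ = a⁻¹ * a⁻¹ * (b * a ^ 2) * b⁻¹ := by rw [h2]; simp only [commutatorElement_def, sq]; group
            _ = 1 := by rw [h1]; group
        have h3 : (a * b) ^ 2 ∈ W := e1 ▸ W.mul_mem (W.mul_mem (hsq a (hCQ ha) ha') (hWe _ (hCQ (hC1
          (commutator_mem_commutator (C.inv_mem ha) (hCQ hb))).1) e2)) (hsq b (hCQ hb) hb')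
        rw [show 4 = 2 * 2 from rfl, pow_mul, hW.2 _ h3] }
  have hRC : R ≤ C := fun c h => h.1
  have hRn : ∀ c ∈ R, ∀ g : G, g * c * g⁻¹ ∈ R := fun c h g => ⟨hCN.conj_mem c h.1 g, by rw [conj_pow, h.2]; simp⟩
  have hWR : W ≤ R ⊓ centralizer (X : Set G) := fun w hw =>
    ⟨⟨hC2 ⟨(hWQ hw).1, centralizer_le hCQ (hWQ hw).2⟩, by rw [show 4 = 2 * 2 from rfl, pow_mul, hW.2 w hw, one_pow]⟩,
      fun y hy => (hy.2 w hw).symm⟩
  have hRX : ¬ R ≤ centralizer (X : Set G) := fun h => hXC (Coprime.le_centralizer_of_omega_two (hQ2.to_le hCQ)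
    le_normalizer_of_normal hXc fun c hc h' => h ⟨hc, h'⟩)
  have hR64 : Nat.card R ≤ 64 := by
    have := (FG.card_le_cube (G := R) ((hQ2.to_le hCQ).to_le hRC) (N := W.subgroupOf R)
      (commutator_le.2 fun a _ b _ => mem_center_iff.2 fun c => Subtype.ext (hcc _ a.2.1 _ b.2.1 _ c.2.1))
      (fun c => Subtype.ext c.2.2) fun c => ⟨fun h => Subtype.ext (hW.2 _ h), fun h =>
        hWe _ (hCQ c.2.1) (congrArg Subtype.val h)⟩).1
    rwa [Nat.card_congr (subgroupOfEquivOfLe (hWR.trans inf_le_left)).toEquiv, hW4] at this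
  letI : MulAction (D : Subgroup G) G := MulAction.compHom G (MulAut.conj.comp (D : Subgroup G).subtype)
  have hsm : ∀ (y : (D : Subgroup G)) (s : G), y • s = y * s * (y : G)⁻¹ := fun _ _ => rfl
  have hXn : ∀ y ∈ (D : Subgroup G), ∀ u ∈ X, y * u * y⁻¹ ∈ X := fun y hy u hu =>
    ⟨(D : Subgroup G).mul_mem ((D : Subgroup G).mul_mem hy hu.1) ((D : Subgroup G).inv_mem hy), Normal.conj_mem inferInstance _ hu.2 y⟩
  have h9 := Small.dvd_card_of_orbits (H := (D : Subgroup G)) (fun s : G => s ∈ R ∧ s ∉ centralizer (X : Set G))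
    (fun y s hs => ⟨hRn s hs.1 y, fun h => hs.2 fun u hu => by
      have := h _ (hXn y y.2 u hu)
      rw [hsm] at this
      exact (MulAut.conj (y : G)).injective (by simpa [mul_assoc] using this)⟩) (m := 9) fun s hs => by
    have h1 : MulAction.stabilizer (D : Subgroup G) s = (centralizer {s}).subgroupOf D := by
      ext y
      rw [MulAction.mem_stabilizer_iff, hsm, mem_subgroupOf, mem_centralizer_singleton_iff, mul_inv_eq_iff_eq_mul]
    have h2 : (D : Subgroup G) ⊓ centralizer {s} ≤ X := fun y hy => ⟨hy.1, L3 y (D.isPGroup'.to_le (zpowers_le.2 hy.1))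
      fun h => hs.2 (hWR (hWe s (hCQ hs.1.1) (by
        rw [← mem_bot, ← h]
        exact ⟨hsq s (hCQ hs.1.1) hs.1.2, mem_centralizer_singleton_iff.2
          (Commute.pow_left (mem_centralizer_singleton_iff.1 hy.2).symm 2)⟩))).2⟩
    rw [Nat.card_congr (MulAction.orbitEquivQuotientStabilizer _ s), ← index, h1, ← relIndex, ← inf_relIndex_left,
      ← relIndex_mul_relIndex _ X _ h2 inf_le_left]
    refine mul_dvd_mul (a := 3) (c := 3) (dvd_rel hX3 fun h => hs.2 fun u hu => mem_centralizer_singleton_iff.1 (h hu).2)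
      (dvd_rel D.isPGroup' fun h => hW1 (eq_bot_iff.2 fun w hw => ?_))
    exact hfpf ▸ ⟨hw, mem_centralizer_singleton_iff.2 ((h (hD (mem_zpowers d))).2 w hw)⟩
  have h10 : Nat.card R = Nat.card ↥(R ⊓ centralizer (X : Set G)) +
      Nat.card {s : G // s ∈ R ∧ s ∉ centralizer (X : Set G)} := by
    classical
    rw [← Nat.card_sum]
    exact Nat.card_congr ((Equiv.sumCompl fun s : R => (s : G) ∈ centralizer (X : Set G)).symm.trans (Equiv.sumCongr
      (Equiv.subtypeSubtypeEquivSubtypeInter _ _) (Equiv.subtypeSubtypeEquivSubtypeInter _ (· ∉ centralizer (X : Set G)))))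
  obtain ⟨a, ha⟩ := ((hQ2.to_le hCQ).to_le hRC).exists_card_eq
  obtain ⟨b, hb⟩ := (((hQ2.to_le hCQ).to_le hRC).to_inf_left (K := centralizer (X : Set G))).exists_card_eq
  have h11 := card_le_of_le hWR
  have h12 := Transfer.card_lt_of_lt (lt_of_le_of_ne (inf_le_left : R ⊓ centralizer (X : Set G) ≤ R)
    fun e => hRX (e ▸ inf_le_right))
  rw [ha, hb] at h10 h12
  rw [hb, hW4] at h11
  rw [ha] at hR64
  have h13 : a ≤ 6 := (Nat.pow_le_pow_iff_right one_lt_two).1 hR64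
  have h14 : 2 ≤ b := (Nat.pow_le_pow_iff_right one_lt_two).1 h11
  have h15 : b < a := (Nat.pow_lt_pow_iff_right one_lt_two).1 h12
  interval_cases a <;> interval_cases b <;> omega

end Cfsg.Agent.S3739
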