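import Cfsg.Statements.S3740
import Cfsg.Agent.Lib.JTW.Model2
import Cfsg.Agent.Lib.Hall.FC6
import Cfsg.Agent.Lib.Hall.Sh2b
import Cfsg.Agent.Lib.Linear.SL2Sub

set_option autoImplicit false
open Cfsg

namespace Cfsg.Agent.S3740

open Subgroup Cfsg.Lib Cfsg.Lib.Linear Cfsg.Lib.Known
set_option linter.style.haveILetI false

theorem two_syl {G : Type*} [Group G] [Finite G] {p : ℕ} [Fact p.Prime] {a : G} (ha : IsPGroup p (zpowers a))
    {T : Subgroup G} (hT : (Nat.card T).Coprime p) (hn : a ∈ normalizer (T : Set G)) (h : a ∉ centralizer (T : Set G)) :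
    1 < Nat.card (Sylow p ↥(T ⊔ zpowers a)) := by
  by_contra h1
  haveI : Subsingleton (Sylow p ↥(T ⊔ zpowers a)) := by
    rwa [Finite.one_lt_card_iff_nontrivial, not_nontrivial_iff_subsingleton] at h1
  obtain ⟨P, hP⟩ := (ha.comap_subtype (K := T ⊔ zpowers a)).exists_le_sylow
  have hN : (P : Subgroup ↥(T ⊔ zpowers a)).Normal := by
    rw [← normalizer_eq_top_iff, eq_top_iff]
    intro g _
    exact Sylow.smul_eq_iff_mem_normalizer.1 (Subsingleton.elim _ _)
  refine h fun t ht => ?_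
  have h2 : (⟨t, mem_sup_left ht⟩ * ⟨a, mem_sup_right (mem_zpowers a)⟩ * ⟨t, mem_sup_left ht⟩⁻¹ *
      ⟨a, mem_sup_right (mem_zpowers a)⟩⁻¹ : ↥(T ⊔ zpowers a)) ∈ (P : Subgroup _) :=
    mul_mem (hN.conj_mem _ (hP (mem_zpowers a)) _) (inv_mem (hP (mem_zpowers a)))
  obtain ⟨k, hk⟩ := P.isPGroup' ⟨_, h2⟩
  have h3 : (t * a * t⁻¹ * a⁻¹) ^ p ^ k = 1 := congrArg (fun x => ((x : ↥(T ⊔ zpowers a)) : G)) (congrArg Subtype.val hk)
  have h4 : t * a * t⁻¹ * a⁻¹ ∈ T := by
    simpa [mul_assoc] using T.mul_mem ht ((mem_normalizer_iff.1 hn _).1 (T.inv_mem ht))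
  have h5 := Nat.eq_one_of_dvd_coprimes (hT.pow_right k) (T.orderOf_dvd_natCard h4) (orderOf_dvd_of_pow_eq_one h3)
  rw [orderOf_eq_one_iff, mul_inv_eq_one, mul_inv_eq_iff_eq_mul] at h5
  exact h5

/-- Let F be a finite field of odd characteristic p and let a be a p-element of SL₂(F) normalizing a subgroup R of order prime to p with [R, a] ≠ 1. Then p = 3, R is a quaternion group of order 8, and R⟨a⟩ is isomorphic to SL₂(3). -/
theorem result (F : Type) [Field F] [Fintype F] {p : ℕ} [Fact p.Prime] [CharP F p] (hp : p ≠ 2) (a : Matrix.SpecialLinearGroup (Fin 2) F) (ha : IsPGroup p ↥(Subgroup.zpowers a)) (R : Subgroup (Matrix.SpecialLinearGroup (Fin 2) F)) (hR : (Nat.card R).Coprime p) (haR : a ∈ Subgroup.normalizer (R : Set (Matrix.SpecialLinearGroup (Fin 2) F))) (hnt : ⁅R, Subgroup.zpowers a⁆ ≠ ⊥) : p = 3 ∧ Nonempty (↥R ≃* QuaternionGroup 2) ∧ Nonempty (↥(R ⊔ Subgroup.zpowers a) ≃* Matrix.SpecialLinearGroup (Fin 2) (ZMod 3)) :=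 by
  have hpp : p.Prime := Fact.out
  have h2 : (2 : F) ≠ 0 := fun e => hp ((Nat.prime_dvd_prime_iff_eq hpp Nat.prime_two).1
    ((CharP.cast_eq_zero_iff F p 2).1 (by exact_mod_cast e)))
  have h2' : (2 : ZMod p) ≠ 0 := fun e => hp ((Nat.prime_dvd_prime_iff_eq hpp Nat.prime_two).1
    ((ZMod.natCast_eq_zero_iff 2 p).1 (by exact_mod_cast e)))
  have hC : a ∉ centralizer (R : Set _) := fun h => hnt (by
    rw [commutator_comm, commutator_eq_bot_iff_le_centralizer, zpowers_le]; exact h)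
  have ha1 : a ≠ 1 := fun e => hC (e ▸ one_mem _)
  obtain ⟨x, hx⟩ := exists_le_pU (centralP'_SL (K := F) (p := p)) pFix_of_finite ha
  obtain ⟨hx1, hx2⟩ := (mem_pU _).1 (hx (mem_zpowers a))
  have hx3 : Matrix.SpecialLinearGroup.toPGL a ≠ 1 := fun e => ha1 ((centralP'_SL (K := F) (p := p)).coprime a e hx2)
  have hoa : orderOf a = p := orderOf_eq_prime hx2 ha1
  have hca : Nat.card (zpowers a) = p := by rw [Nat.card_zpowers, hoa]
  have hR2 : IsPGroup 2 R := by
    refine .of_card (Nat.eq_prime_pow_of_unique_prime_dvd Nat.card_pos.ne' fun {r} hr hd => ?_)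
    haveI := Fact.mk hr
    by_contra hr2
    obtain ⟨T, hT, hn⟩ := Coprime.exists_invariant_sylowIn (zpowers_le.2 haR) (hca ▸ hR.symm)
      (.inl (isSolvable_of_isCyclic inferInstance)) r
    have hTp : (Nat.card T).Coprime p := hR.coprime_dvd_left (card_dvd_of_le hT.le)
    have hTc : a ∈ centralizer (T : Set _) := by
      by_contra h
      obtain ⟨M, hM, ⟨e⟩⟩ := exists_sl2_prime_le p hp _ (two_syl ha hTp (zpowers_le.1 hn) h)
      obtain ⟨φ, hφ⟩ := exists_hom_quaternion_two (F := ZMod p) h2'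
      have h3 := (card_dvd_of_injective φ hφ).trans ((Nat.card_congr e.toEquiv).symm.dvd.trans (card_dvd_of_le hM))
      rw [Coprime.card_sup_of_disjoint' hn (disjoint_of_coprime_natCard (hca ▸ hTp)).eq_bot, hca] at h3
      have h4 : 2 ∣ Nat.card T * p := dvd_trans (by simp [QuaternionGroup.card]) h3
      obtain ⟨k, hk⟩ := hT.isPGroup.exists_card_eq
      rcases Nat.prime_two.dvd_mul.1 h4 with h5 | h5
      · exact hr2 ((Nat.prime_dvd_prime_iff_eq Nat.prime_two hr).1 (Nat.prime_two.dvd_of_dvd_pow (hk ▸ h5))).symm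
      · exact hp ((Nat.prime_dvd_prime_iff_eq Nat.prime_two hpp).1 h5).symm
    have hT0 : T = ⊥ := eq_bot_iff.2 fun t ht => by
      have h3 := JTW.Mo.mem_unip_of_commute hx1 hx3 ((show Commute t a from hTc t ht).map _)
      have h4 : Matrix.SpecialLinearGroup.toPGL (t ^ p) = Matrix.SpecialLinearGroup.toPGL 1 := by
        rw [map_pow, map_one]
        by_cases h5 : Matrix.SpecialLinearGroup.toPGL t = 1
        · rw [h5, one_pow]
        · exact (pow_eq_one_iff_of_mem_unip h3 h5 p).2 (CharP.cast_eq_zero F p)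
      have h5 : t ^ (p * 2) = 1 := by
        rw [pow_mul]
        rcases sl_toPGL_eq_iff.1 h4.symm with e | e <;> rw [e] <;> simp
      obtain ⟨k, hk⟩ := hT.isPGroup.exists_card_eq
      refine orderOf_eq_one_iff.1 (Nat.eq_one_of_dvd_coprimes (Nat.Coprime.mul_right hTp ?_) (T.orderOf_dvd_natCard ht)
        (orderOf_dvd_of_pow_eq_one h5))
      exact hk ▸ ((Nat.coprime_primes hr Nat.prime_two).2 hr2).pow_left k
    exact hT.not_dvd (by rwa [hT0, relIndex_bot_left])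
  have hu : ∀ s : Matrix.SpecialLinearGroup (Fin 2) F, orderOf s = 2 → s = -1 := fun s hs =>
    (sl2_mul_self_eq_one h2 (by rw [← sq]; exact orderOf_dvd_iff_pow_eq_one.1 hs.dvd)).resolve_left fun e => by simp [e] at hs
  obtain ⟨⟨e⟩, h3⟩ := (Hall.two_subgroup_cent hR2 (fun s _ t _ hs ht => by rw [hu s hs, hu t ht]) haR
    (hoa ▸ hpp.odd_of_ne_two hp)).resolve_left hC
  obtain rfl : p = 3 := ((Nat.prime_dvd_prime_iff_eq Nat.prime_three hpp).1 (hoa ▸ h3)).symm
  refine ⟨rfl, ⟨e⟩, ?_⟩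
  obtain ⟨M, hM, ⟨e'⟩⟩ := exists_sl2_prime_le 3 hp _ (two_syl ha hR haR hC)
  rw [← eq_of_le_of_card_ge hM (by
    rw [Coprime.card_sup_of_disjoint' (zpowers_le.2 haR) (disjoint_of_coprime_natCard (hca ▸ hR)).eq_bot, hca,
      Nat.card_congr e.toEquiv, Nat.card_congr e'.toEquiv, Hall.card_SL23]
    simp [QuaternionGroup.card])]
  exact ⟨e'⟩

end Cfsg.Agent.S3740
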