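import Cfsg.Statements.S3741
import Cfsg.Agent.Lib.PGrp.Extra

set_option autoImplicit false
open Cfsg

namespace Cfsg.Agent.S3741

open Cfsg.Lib.PGrp Cfsg.Lib.Forms Subgroup
open scoped commutatorElement

/-- Let A and B be subgroups of a finite p-group with [A, B] ≤ A ∩ B and [A, B] of order at most p. Then |A : C_A(B)| = |B : C_B(A)|. -/
theorem result {G : Type*} [Group G] [Finite G] {p : ℕ} [Fact p.Prime] (hG : IsPGroup p G) (A B : Subgroup G) (hAB : ⁅A, B⁆ ≤ A ⊓ B) (hcard : Nat.card ↥⁅A, B⁆ ≤ p) : (A ⊓ Subgroup.centralizer (B : Set G)).relIndex A = (B ⊓ Subgroup.centralizer (A : Set G)).relIndex B := by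
  have h1 := relIndex_centralizer_mul_le (A := A) (hG.to_subgroup B) hcard fun a ha b hb =>
    commutator_mem_commutator ha hb
  have h2 := relIndex_centralizer_mul_le (A := B) (hG.to_subgroup A) hcard fun b hb a ha =>
    commutatorElement_inv a b ▸ inv_mem (commutator_mem_commutator ha hb)
  have h3 := card_inf_mul_relIndex (centralizer (B : Set G)) A
  have h4 := card_inf_mul_relIndex (centralizer (A : Set G)) B
  rw [inf_comm] at h3 h4
  rw [inf_relIndex_left, inf_relIndex_left]
  rw [← h4, mul_comm] at h1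
  rw [← h3, mul_comm] at h2
  exact le_antisymm (Nat.le_of_mul_le_mul_left h1 Nat.card_pos) (Nat.le_of_mul_le_mul_left h2 Nat.card_pos)

end Cfsg.Agent.S3741
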