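import Cfsg.Statements.S3742
import Cfsg.Agent.Lib.Core.Basic

set_option autoImplicit false
open Cfsg

open Subgroup Cfsg.Lib
open scoped commutatorElement
open QuaternionGroup Equiv
namespace Cfsg.Agent.S3742

def c : QuaternionGroup 2 → Fin 4 → Fin 4
  | a i => fun j => if i = 1 then j + 1 else j + 3
  | xa i => fun j => if i = 0 then (match j with | 0 => 2 | 1 => 3 | 2 => 1 | 3 => 0)
    else if i = 2 then (match j with | 0 => 3 | 1 => 2 | 2 => 0 | 3 => 1)
    else if i = 1 then (match j with | 0 => 1 | 1 => 3 | 2 => 0 | 3 => 2) else (match j with | 0 => 2 | 1 => 0 | 2 => 3 | 3 => 1)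

def g (σ : Perm (Fin 4)) (x : QuaternionGroup 2) : QuaternionGroup 2 :=
  if x * x = 1 then x else
    (([a 1, a 3, xa 0, xa 1, xa 2, xa 3] : List (QuaternionGroup 2)).find? fun y => c y (σ 0) = σ (c x 0) ∧ c y (σ 1) = σ (c x 1)).getD 1

theorem g_mul : ∀ σ x y, g σ (x * y) = g σ x * g σ y := by decide +kernel
theorem g_comp : ∀ σ τ x, g (σ * τ) x = g σ (g τ x) := by decide +kernel
theorem g_one : ∀ x, g 1 x = x := by decide +kernel
theorem g_inj : ∀ σ, (∀ x, g σ x = x) → σ = 1 := by decide +kernel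
theorem g_surj : ∀ u v : QuaternionGroup 2, u * v ≠ v * u → ∃ σ, g σ (a 1) = u ∧ g σ (xa 0) = v := by decide +kernel
theorem gen : ∀ x : QuaternionGroup 2, ∃ i j : Fin 4, x = a 1 ^ i.val * xa 0 ^ j.val := by decide +kernel

def φ : Perm (Fin 4) →* MulAut (QuaternionGroup 2) := MonoidHom.mk' (fun σ =>
  { toFun := g σ, invFun := g σ⁻¹, left_inv := fun x => by rw [← g_comp, inv_mul_cancel, g_one],
    right_inv := fun x => by rw [← g_comp, mul_inv_cancel, g_one], map_mul' := g_mul σ }) fun σ τ => MulEquiv.ext (g_comp σ τ)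

/-- The automorphism group of the quaternion group of order 8 is isomorphic to the symmetric group of degree 4. -/
theorem result : Nonempty (MulAut (QuaternionGroup 2) ≃* Equiv.Perm (Fin 4)) := by
  refine ⟨(MulEquiv.ofBijective φ ⟨(injective_iff_map_eq_one _).2 fun σ h => g_inj σ fun x => DFunLike.congr_fun h x, fun α => ?_⟩).symm⟩
  obtain ⟨σ, h1, h2⟩ := g_surj (α (a 1)) (α (xa 0)) (by rw [← map_mul, ← map_mul]; exact α.injective.ne (by decide))
  refine ⟨σ, MulEquiv.ext fun x => ?_⟩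
  obtain ⟨i, j, rfl⟩ := gen x
  rw [map_mul, map_mul, map_pow, map_pow, map_pow, map_pow, ← h1, ← h2]; rfl

end Cfsg.Agent.S3742
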