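import Cfsg.Statements.S3746
import Cfsg.Agent.Lib.Layer.FStar
import Cfsg.Agent.Lib.Core.Basic

set_option autoImplicit false
open Cfsg

open Subgroup Cfsg.Lib
open scoped commutatorElement
open Layer
namespace Cfsg.Agent.S3746

/-- Let Z ≤ Z(G) be a central subgroup of a finite group G and E a subgroup of G containing Z whose image E/Z is a component of G/Z (subnormal and quasisimple). Then the derived subgroup [E, E] is a component of G. -/
theorem result {G : Type*} [Group G] [Finite G] (Z : Subgroup G) (hZ : Z ≤ Subgroup.center G) [Z.Normal] (E : Subgroup G) (hZE : Z ≤ E) (hE : Cfsg.IsComponent (E.map (QuotientGroup.mk' Z))) : Cfsg.IsComponent ⁅E, E⁆ := by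
  have h1 : (⁅E, E⁆ : Subgroup G).map (QuotientGroup.mk' Z) = E.map (QuotientGroup.mk' Z) := by
    rw [map_commutator, IsComponent.commutator_self hE]
  have h2 : E ≤ ⁅E, E⁆ ⊔ Z := by rw [sup_comm, ← Core.map_mk'_le_map_mk'_iff, h1]
  have hc : ∀ K : Subgroup G, ⁅Z, K⁆ = ⊥ := fun K => commutator_eq_bot_of_forall fun x hx y _ => (mem_center_iff.1 (hZ hx) y).symm
  have h3 : (E.IsSubnormal) := by
    have := hE.1.comap (QuotientGroup.mk' Z)
    rwa [Core.comap_map_mk', sup_of_le_right hZE] at this
  refine ⟨IsSubnormal.trans ((commutator_le_sup E E).trans (sup_idem E).le) (isSubnormal_subgroupOf_of_le_normalizer (Core.le_normalizer_commutator le_normalizer le_normalizer)) h3,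
    isQuasisimple_of_map (le_antisymm ((commutator_le_sup _ _).trans (sup_idem _).le) (commutator_sup_central_le (hc _) (hc _) h2)) (QuotientGroup.mk' Z) ?_ (h1 ▸ hE.2)⟩
  exact commutator_eq_bot_symm (commutator_eq_bot_mono (hc _) (by simp) le_rfl)

end Cfsg.Agent.S3746
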