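import Cfsg.Statements.S3747
import Cfsg.Agent.Lib.Layer.FStar
import Cfsg.Agent.Lib.Core.Nilpotent
import Cfsg.Agent.Lib.Transfer.ThompsonJ

set_option autoImplicit false
open Cfsg

open Subgroup Cfsg.Lib
open scoped commutatorElement
open Layer
namespace Cfsg.Agent.S3747

theorem aux {G : Type*} [Group G] {S : Set (Subgroup G)} (hS : S.Finite) (h1 : ∀ K ∈ S, K ⊓ centralizer (K : Set G) = ⊥)
    (h2 : ∀ K ∈ S, ∀ L ∈ S, K ≠ L → ⁅K, L⁆ = ⊥) : sSup S ⊓ centralizer ((sSup S : Subgroup G) : Set G) = ⊥ := by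
  induction S, hS using Set.Finite.induction_on with
  | empty => simp
  | @insert K S hK _ ih =>
    have h3 : ⁅sSup S, K⁆ = ⊥ := commutator_sSup_eq_bot fun L hL => h2 L (.inr hL) K (.inl rfl) fun e => hK (e ▸ hL)
    rw [sSup_insert]
    refine eq_bot_iff.2 fun x ⟨hx1, hx2⟩ => ?_
    obtain ⟨k, hk, m, hm, rfl⟩ := (Core.mem_sup_of_le_normalizer_left (le_normalizer_of_commutator_eq_bot h3)).1 hx1
    have h4 : k = 1 := mem_bot.1 ((h1 K (.inl rfl)).le ⟨hk, fun y hy => by
      have e1 := hx2 y (mem_sup_left hy)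
      have e2 := mul_comm_of_commutator_eq_bot h3 hm hy
      rw [mul_assoc, e2, ← mul_assoc, ← mul_assoc] at e1
      exact mul_right_cancel e1⟩)
    subst h4
    exact (ih (fun L hL => h1 L (.inr hL)) fun L hL M hM => h2 L (.inr hL) M (.inr hM)).le
      ⟨by simpa using hm, centralizer_le (SetLike.coe_mono le_sup_right) hx2⟩

/-- Let G be a finite group. (a) If K is a component of G with trivial centre, then the normal closure of K in G is a minimal normal subgroup of G. (b) If the Fitting subgroup of G is trivial, then the layer E(G) is generated by the minimal normal subgroups of G. -/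
theorem result {G : Type*} [Group G] [Finite G] : (∀ K : Subgroup G, Cfsg.IsComponent K → Subgroup.center ↥K = ⊥ → (Subgroup.normalClosure (K : Set G) ≠ ⊥ ∧ ∀ N : Subgroup G, N.Normal → N ≤ Subgroup.normalClosure (K : Set G) → N = ⊥ ∨ N = Subgroup.normalClosure (K : Set G))) ∧ (Cfsg.fittingSubgroup G = ⊥ → sSup {N : Subgroup G | N ≠ ⊥ ∧ N.Normal ∧ ∀ N' : Subgroup G, N'.Normal → N' ≤ N → N' = ⊥ ∨ N' = N} = Cfsg.layer G) := by
  have ha : ∀ K : Subgroup G, Cfsg.IsComponent K → Subgroup.center ↥K = ⊥ → (Subgroup.normalClosure (K : Set G) ≠ ⊥ ∧ ∀ N : Subgroup G, N.Normal → N ≤ Subgroup.normalClosure (K : Set G) → N = ⊥ ∨ N = Subgroup.normalClosure (K : Set G)) := by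
    intro K hK hZ
    refine ⟨fun h => IsComponent.ne_bot hK (eq_bot_iff.2 (le_normalClosure.trans h.le)), fun N hN hle => ?_⟩
    rcases IsComponent.le_or_commutator_eq_bot_of_normal hK N with h | h
    · exact .inr (le_antisymm hle (normalClosure_le_normal h))
    have hZ' : K ⊓ centralizer (K : Set G) = ⊥ := by rw [← map_subtype_center, hZ, Subgroup.map_bot]
    let S : Set (Subgroup G) := Set.range fun g : G => K.map (MulAut.conj g).toMonoidHom
    have h1 := aux (Set.toFinite S) (by
      rintro _ ⟨g, rfl⟩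
      dsimp only
      rw [Core.centralizer_map_conj, ← map_inf _ _ _ (MulAut.conj g).injective, hZ', Subgroup.map_bot]) (by
      rintro _ ⟨g, rfl⟩ _ ⟨g', rfl⟩ hne
      exact IsComponent.commutator_eq_bot_of_ne (IsComponent.conj hK g) (IsComponent.conj hK g') hne)
    refine .inl (eq_bot_iff.2 ((le_inf (hle.trans ?_) ?_).trans h1.le))
    · refine (closure_le _).2 fun x hx => ?_
      obtain ⟨k, hk, hx⟩ := Group.mem_conjugatesOfSet_iff.1 hx
      obtain ⟨g, rfl⟩ := isConj_iff.1 hx
      exact (le_sSup (s := S) ⟨g, rfl⟩ :) (Core.conj_mem_map_conj hk)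
    · rw [← le_centralizer_iff]
      refine sSup_le ?_
      rintro _ ⟨g, rfl⟩
      exact (map_mono (commutator_eq_bot_iff_le_centralizer.1 h)).trans (Core.map_conj_eq_of_normal g _).le
  refine ⟨ha, fun hF => le_antisymm (sSup_le fun N ⟨h1, h2, h3⟩ => ?_) (layer_le fun K hK => ?_)⟩
  · have := layer_normal (G := G)
    rcases h3 (N ⊓ layer G) inferInstance inf_le_left with h | h
    · refine absurd (eq_bot_iff.2 (hF ▸ le_fit_of_commutator_eq_bot (eq_bot_iff.2 ((commutator_le_inf _ _).trans h.le)) ?_)) h1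
      simp [hF]
    · exact h ▸ inf_le_right
  · have hZ : center K = ⊥ := by
      have := le_fit_of_isSubnormal (IsSubnormal.trans' (normal_of_characteristic (center K)).isSubnormal hK.1)
        (by rw [map_subtype_center]; exact Core.isNilpotent_of_isMulCommutative _ (h := Transfer.isMulCommutative_inf_centralizer K))
      rwa [hF, le_bot_iff, map_eq_bot_iff_of_injective _ K.subtype_injective] at this
    exact le_normalClosure.trans (le_sSup ⟨(ha K hK hZ).1, inferInstance, (ha K hK hZ).2⟩)

end Cfsg.Agent.S3747
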