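import Cfsg.Statements.S3748
import Cfsg.Agent.Lib.Core.Subnormal

set_option autoImplicit false
open Cfsg

namespace Cfsg.Agent.S3748

open Subgroup Cfsg.Lib.Core in
theorem aux {G : Type*} [Group G] [Finite G] (M : Subgroup G) (hM : M ≠ ⊤) (hprim : ∀ N : Subgroup G, N ≤ M → M ≤ Subgroup.normalizer (N : Set G) → N ≠ ⊥ → Subgroup.normalizer (N : Set G) = M) (L : Subgroup G) (hL : L.IsSubnormal) (hLM : L ≤ M) : L = ⊥ := by
  obtain ⟨S, hNS, ⟨hS, hSM⟩, hmax⟩ :=
    exists_maximal_ge (fun K : Subgroup G => K.IsSubnormal ∧ K ≤ M) (H := L) ⟨hL, hLM⟩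
  have hMn : M ≤ normalizer (S : Set G) := fun g hg => mem_normalizer_of_conj_mem fun x hx => by
    rw [← hmax _ ⟨isSubnormal_sup hS (isSubnormal_map_conj hS g), sup_le hSM (map_conj_le_of_mem hg hSM)⟩
      le_sup_left]
    exact mem_sup_right (conj_mem_map_conj hx)
  by_contra hne
  have h1 := hprim S hSM hMn fun h => hne (le_bot_iff.1 (h ▸ hNS))
  have hn : ¬ (⊤ : Subgroup G) ≤ normalizer (S : Set G) := fun h => hM (top_le_iff.1 (h1 ▸ h))
  obtain ⟨x, -, hx, hx'⟩ := (subnormalIn_top_iff.2 hS).exists_conj_le_normalizer hn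
  refine absurd (map_conj_eq_iff_mem_normalizer.1 (eq_of_le_of_card_ge ?_ (card_map_conj x S).ge)) hx
  exact le_sup_right.trans
    (hmax _ ⟨isSubnormal_sup hS (isSubnormal_map_conj hS x), sup_le hSM (h1 ▸ hx')⟩ le_sup_left).le

/-- Call a proper subgroup M of G primitive when M = N_G(N) for every non-trivial normal subgroup N of M. If M is a primitive subgroup of the finite group G, then no non-trivial subnormal subgroup of G is contained in M; in particular M ∩ F(G) = 1. -/
theorem result {G : Type*} [Group G] [Finite G] (M : Subgroup G) (hM : M ≠ ⊤) (hprim : ∀ N : Subgroup G, N ≤ M → M ≤ Subgroup.normalizer (N : Set G) → N ≠ ⊥ → Subgroup.normalizer (N : Set G) = M) : (∀ L : Subgroup G, L.IsSubnormal → L ≤ M → L = ⊥) ∧ M ⊓ Cfsg.fittingSubgroup G = ⊥ := by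
  exact ⟨aux M hM hprim, aux M hM hprim _
    (Cfsg.Lib.Core.isSubnormal_of_le_fitting inf_le_right) inf_le_left⟩

end Cfsg.Agent.S3748
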