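import Cfsg.Statements.S3749
import Cfsg.Agent.Lib.PGrp.Critical
import Cfsg.Agent.Lib.Coprime.Sylow

set_option autoImplicit false
open Cfsg

open Subgroup Cfsg.Lib
open scoped commutatorElement
open Transfer
namespace Cfsg.Agent.S3749

/-- Call a proper subgroup M of G primitive when M = N_G(N) for every non-trivial normal subgroup N of M. Let M be a primitive subgroup of the finite group G, p a prime with O_p(M) ≠ 1, and N a normal subgroup of G with M ∩ N = 1. Then p does not divide the order of N; for every prime q there is exactly one Sylow q-subgroup of N normalized by M; and if the order of N has at least two prime divisors then M is not a maximal subgroup of G. -/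
theorem result {G : Type*} [Group G] [Finite G] (M : Subgroup G) (hM : M ≠ ⊤) (hprim : ∀ N : Subgroup G, N ≤ M → M ≤ Subgroup.normalizer (N : Set G) → N ≠ ⊥ → Subgroup.normalizer (N : Set G) = M) {p : ℕ} [Fact p.Prime] (hOp : Cfsg.pCore p ↥M ≠ ⊥) (N : Subgroup G) [N.Normal] (hMN : M ⊓ N = ⊥) : ¬ p ∣ Nat.card N ∧ (∀ q : ℕ, [Fact q.Prime] → ∃! Q : Sylow q ↥N, M ≤ Subgroup.normalizer ((Q : Subgroup ↥N).map N.subtype : Set G)) ∧ ((∃ q r : ℕ, q.Prime ∧ r.Prime ∧ q ≠ r ∧ q ∣ Nat.card N ∧ r ∣ Nat.card N) → ¬ IsCoatom M) := by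
  have hp : p.Prime := Fact.out
  set P := (pCore p M).map M.subtype
  have hP : IsPGroup p P := Core.isPGroup_pCoreOf M
  have hN : normalizer (P : Set G) = M := hprim P (Core.pCoreOf_le M) (Core.le_normalizer_pCoreOf M) (mt Core.pCoreOf_eq_bot_iff.1 hOp)
  have hC : N ⊓ centralizer (P : Set G) = ⊥ := eq_bot_iff.2 fun x hx => hMN.le ⟨hN ▸ centralizer_le_normalizer _ hx.2, hx.1⟩
  have hPN : P ≤ normalizer (N : Set G) := le_normalizer_of_normal
  have h1 : ¬ p ∣ Nat.card N := fun h => by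
    have := PGrp.card_modEq_card_inf_centralizer hP hPN
    rw [hC, card_bot] at this
    exact hp.one_lt.ne' (Nat.dvd_one.1 ((this.dvd_iff (dvd_refl p)).1 h))
  have hcop : (Nat.card P).Coprime (Nat.card N) := Core.coprime_card_of_isPGroup hp hP ((Nat.coprime_comm.1 ((Nat.Prime.coprime_iff_not_dvd hp).2 h1)))
  have hs : Group.IsSolvable P ∨ Group.IsSolvable N := .inl (Coprime.isSolvable_of_isPGroup hP)
  have h2 : ∀ q : ℕ, [Fact q.Prime] → ∃ Q, SylowIn q Q N ∧ M ≤ normalizer (Q : Set G) := fun q _ => by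
    obtain ⟨Q, hQ, hPQ⟩ := Coprime.exists_invariant_sylowIn hPN hcop hs q
    refine ⟨Q, hQ, fun m hm => cj_eq_iff.1 (Coprime.invariant_sylowIn_unique hPN hcop hs hC (cj_eq_of_normal m N ▸ hQ.cj m) hQ ?_ hPQ)⟩
    rw [← cj_normalizer, ← cj_eq_of_mem_normalizer (hN.ge hm)]; exact map_mono hPQ
  refine ⟨h1, fun q _ => ?_, fun ⟨q, r, hq, hr, hne, hqN, hrN⟩ hco => ?_⟩
  · obtain ⟨Q, hQ, hMQ⟩ := h2 q
    refine ⟨hQ.toSylow, by simpa only [hQ.map_toSylow] using hMQ, fun R hR => Sylow.ext (map_injective N.subtype_injective ?_)⟩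
    rw [hQ.map_toSylow]
    exact Coprime.invariant_sylowIn_unique hPN hcop hs hC (sylowIn_map_subtype R) hQ ((Core.pCoreOf_le M).trans hR) ((Core.pCoreOf_le M).trans hMQ)
  · have : Fact q.Prime := ⟨hq⟩
    obtain ⟨Q, hQ, hMQ⟩ := h2 q
    have h3 := hco.2 (Q ⊔ M) (lt_of_le_of_ne le_sup_right fun e => (mt hQ.eq_bot_iff.1 (not_not.2 hqN))
      (eq_bot_iff.2 ((le_inf (e ▸ le_sup_left) hQ.le).trans hMN.le)))
    have h4 := Core.sup_inf_assoc_of_le_normalizer' hMQ hQ.le
    rw [h3, hMN, top_inf_eq, sup_bot_eq] at h4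
    obtain ⟨k, hk⟩ := IsPGroup.iff_card.1 (h4 ▸ hQ.isPGroup : IsPGroup q N)
    exact hne ((Nat.prime_dvd_prime_iff_eq hr hq).1 (hr.dvd_of_dvd_pow (hk ▸ hrN))).symm

end Cfsg.Agent.S3749
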