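import Cfsg.Statements.S3750
import Cfsg.Agent.Lib.Layer.FStar
import Cfsg.Agent.Lib.Core.Nilpotent

set_option autoImplicit false
open Cfsg

open Subgroup Cfsg.Lib
open scoped commutatorElement
open Layer
namespace Cfsg.Agent.S3750

/-- Call a proper subgroup M of G primitive when M = N_G(N) for every non-trivial normal subgroup N of M. Let M be a primitive subgroup of the finite group G and N a normal subgroup of G with M ∩ F*(N) ≠ 1. Then F(G) = 1 and F*(N) = F*(G) = E(G); in particular every minimal normal subgroup of G is contained in N. -/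
theorem result {G : Type*} [Group G] [Finite G] (M : Subgroup G) (hM : M ≠ ⊤) (hprim : ∀ N : Subgroup G, N ≤ M → M ≤ Subgroup.normalizer (N : Set G) → N ≠ ⊥ → Subgroup.normalizer (N : Set G) = M) (N : Subgroup G) [N.Normal] (hMF : M ⊓ (Cfsg.generalizedFittingSubgroup ↥N).map N.subtype ≠ ⊥) : Cfsg.fittingSubgroup G = ⊥ ∧ (Cfsg.generalizedFittingSubgroup ↥N).map N.subtype = Cfsg.generalizedFittingSubgroup G ∧ Cfsg.generalizedFittingSubgroup G = Cfsg.layer G ∧ ∀ K : Subgroup G, K.Normal → K ≠ ⊥ → (∀ K' : Subgroup G, K'.Normal → K' ≤ K → K' = ⊥ ∨ K' = K) → K ≤ N := by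
  set D := (Cfsg.generalizedFittingSubgroup ↥N).map N.subtype with hD
  have hDn : D.Normal := normalizer_eq_top_iff.1 (eq_top_iff.2 (le_normalizer_of_normal.trans (normalizer_le_normalizer_fstarOf N)))
  have hC : centralizer (D : Set G) = ⊥ := by
    by_contra h
    have h1 := hprim (M ⊓ D) inf_le_left (Core.le_normalizer_inf le_normalizer le_normalizer_of_normal) hMF
    have h2 : centralizer (D : Set G) ≤ M := h1 ▸ (Core.centralizer_anti inf_le_right).trans (centralizer_le_normalizer _)
    exact hM ((hprim _ h2 le_normalizer_of_normal h).symm.trans (normalizer_eq_top _))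
  have hsn : N.IsSubnormal := Normal.isSubnormal inferInstance
  have hEN := layerOf_le_layer hsn
  have := fit_nilpotent (G := G)
  have := fit_normal (G := G)
  have hF0 : fittingSubgroup G ⊓ N = ⊥ := by
    by_contra h
    refine Core.inf_centralizer_ne_bot_of_nilpotent (L := fittingSubgroup G) inf_le_left inf_le_left le_normalizer h (eq_bot_iff.2 (hC ▸ ?_))
    rw [hD, fstarOf_eq, fitOf_eq_of_isSubnormal hsn, Core.centralizer_sup]
    exact le_inf (inf_le_left.trans (inf_le_left.trans (le_centralizer_iff.1 (hEN.trans layer_le_centralizer_fit)))) inf_le_right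
  have hDE : D = (layer N).map N.subtype := by rw [hD, fstarOf_eq, fitOf_eq_of_isSubnormal hsn, hF0, sup_bot_eq]
  have hF : fittingSubgroup G = ⊥ := eq_bot_iff.2 (hC ▸ hDE ▸ le_centralizer_iff.1 (hEN.trans layer_le_centralizer_fit))
  have hb : ∀ K : Subgroup G, ⁅K, N⁆ = ⊥ → K = ⊥ := fun K h =>
    eq_bot_iff.2 (hC ▸ (commutator_eq_bot_iff_le_centralizer.1 h).trans (Core.centralizer_anti (map_subtype_le _)))
  have hE : layer G ≤ N := layer_le fun K hK => (IsComponent.le_or_commutator_eq_bot_of_normal hK N).resolve_right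
    fun h => IsComponent.ne_bot hK (hb K h)
  refine ⟨hF, by rw [hDE, layerOf_eq_layer hsn hE, fstar_eq_layer hF], fstar_eq_layer hF, fun K hK h1 h2 => ?_⟩
  rcases h2 (K ⊓ N) inferInstance inf_le_left with h | h
  · exact absurd (hb K (eq_bot_iff.2 ((commutator_le_inf _ _).trans h.le))) h1
  · exact h ▸ inf_le_right

end Cfsg.Agent.S3750
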