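import Cfsg.Statements.S3751
import Cfsg.Agent.Lib.Amalg.CharP

set_option autoImplicit false
open Cfsg

open Subgroup Cfsg.Lib
open scoped commutatorElement
open Amalg
namespace Cfsg.Agent.S3751

/-- Two distinct subgroups M₁, M₂ of G form a primitive pair when, for {i, j} = {1, 2}, every non-trivial normal subgroup A of M_i contained in M₁ ∩ M₂ satisfies N_{M_j}(A) = M₁ ∩ M₂; the pair has characteristic p when moreover C_{M_i}(O_p(M_i)) ≤ O_p(M_i) for both i and O_p(M₁)O_p(M₂) ≤ M₁ ∩ M₂. Let G be a finite group, p a prime dividing its order, with O_p(G) = 1 and every p-local subgroup of characteristic p. Then either G has a primitive pair of characteristic p, or every maximal p-local subgroup M of G is strongly p-embedded in G: M is a proper subgroup, p divides its order, and for every g ∉ M the order of M ∩ gMg⁻¹ is prime to p. -/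
theorem result {G : Type*} [Group G] [Finite G] {p : ℕ} [Fact p.Prime] (hloc : Cfsg.IsOfLocalCharacteristic p G) (hOp : Cfsg.pCore p G = ⊥) : (∃ M₁ M₂ : Subgroup G, M₁ ≠ M₂ ∧ (∀ A : Subgroup G, A ≠ ⊥ → A ≤ M₁ ⊓ M₂ → (M₁ ≤ Subgroup.normalizer (A : Set G) → M₂ ⊓ Subgroup.normalizer (A : Set G) = M₁ ⊓ M₂) ∧ (M₂ ≤ Subgroup.normalizer (A : Set G) → M₁ ⊓ Subgroup.normalizer (A : Set G) = M₁ ⊓ M₂)) ∧ Subgroup.centralizer (Cfsg.pCore p ↥M₁ : Set ↥M₁) ≤ Cfsg.pCore p ↥M₁ ∧ Subgroup.centralizer (Cfsg.pCore p ↥M₂ : Set ↥M₂) ≤ Cfsg.pCore p ↥M₂ ∧ (Cfsg.pCore p ↥M₁).map M₁.subtype ⊔ (Cfsg.pCore p ↥M₂).map M₂.subtype ≤ M₁ ⊓ M₂) ∨ (∀ M : Subgroup G, (∃ T : Subgroup G, IsPGroup p T ∧ T ≠ ⊥ ∧ M = Subgroup.normalizer (T : Set G)) → (∀ L : Subgroup G, (∃ T : Subgroup G, IsPGroup p T ∧ T ≠ ⊥ ∧ L = Subgroup.normalizer (T : Set G)) → M ≤ L → L = M) → M ≠ ⊤ ∧ p ∣ Nat.card M ∧ ∀ g : G, g ∉ M → ¬ p ∣ Nat.card ↥(M ⊓ M.map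 (MulAut.conj g).toMonoidHom)) := by
  by_contra! h
  obtain ⟨h, M, hM, hM', h'⟩ := h
  let P : Subgroup G → Prop := fun M => ∃ T : Subgroup G, IsPGroup p T ∧ T ≠ ⊥ ∧ M = 𝐍 T
  let Q : Subgroup G → Prop := fun M => P M ∧ ∀ L, P L → M ≤ L → L = M
  have hc {M} (hM : P M) : CharP p M := by obtain ⟨T, a, b, rfl⟩ := hM; exact charP_iff.2 (hloc.2 T a b)
  have h0 {M} (hM : P M) : pCoreOf p M ≠ ⊥ := by
    obtain ⟨T, a, b, rfl⟩ := hM; exact fun e => b (eq_bot_iff.2 ((le_op_normalizer a).trans e.le))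
  have h1 {M A} (hM : Q M) (a : A ≠ ⊥) (b : A ≤ M) (c : M ≤ 𝐍 A) : 𝐍 A ≤ M := (norm_le_norm_op A).trans
    (hM.2 _ ⟨_, op_isPGroup A, ((hc hM.1).of_normal b c).op_ne_bot a, rfl⟩ (c.trans (norm_le_norm_op A))).le
  have h2 {M N T} (hM : Q M) (hN : Q N) (a : Syl p T M) (b : Syl p T N) : M = N := by_contra fun e =>
    h M N e (fun A a b => ⟨fun c => le_antisymm (le_inf (inf_le_right.trans (h1 hM a (b.trans inf_le_left) c)) inf_le_left)
      (le_inf inf_le_right (inf_le_left.trans c)), fun c => le_antisymm (inf_le_inf_left _ (h1 hN a (b.trans inf_le_right) c))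
      (inf_le_inf_left _ c)⟩) (charP_iff.1 (hc hM.1)) (charP_iff.1 (hc hN.1)) (sup_le (a.op_le.trans (le_inf a.1 b.1)) (b.op_le.trans (le_inf a.1 b.1)))
  have h3 {M} (hM : Q M) (g : G) : Q (cj g M) := by
    have k {M} (g : G) (hM : P M) : P (cj g M) := by
      obtain ⟨T, a, b, rfl⟩ := hM; exact ⟨_, isPGroup_cj g a, mt cj_eq_bot_iff.1 b, cj_normalizer g T⟩
    exact ⟨k g hM.1, fun L a b => by rw [← hM.2 _ (k g⁻¹ a) (cj_le_iff.1 b), cj_cj_inv]⟩
  have h4 {M g} (hM : Q M) (e : M = cj g M) : g ∈ M := h1 hM (fun e => h0 hM.1 (eq_bot_iff.2 ((op_le M).trans e.le))) le_rfl le_normalizer (cj_eq_self_iff.1 e.symm)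
  have h5 (T : Subgroup G) : ∀ M N, Q M → Q N → IsPGroup p T → T ≠ ⊥ → T ≤ M → T ≤ N → M = N := by
    induction T using WellFoundedGT.induction with
    | ind T ih =>
      intro M N hM hN hT hT1 hTM hTN
      by_contra hne
      obtain ⟨L, b, a⟩ := Finite.exists_le_maximal (p := P) (a := 𝐍 T) ⟨T, hT, hT1, rfl⟩
      have hL : Q L := ⟨a.1, fun K c d => le_antisymm (a.2 c d) d⟩
      have k {M} (hM : Q M) (hTM : T ≤ M) : Syl p T M ∨ M = L ∧ ∃ U, T < U ∧ IsPGroup p U ∧ U ≤ M ⊓ 𝐍 T := by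
        obtain ⟨S, hS, hS'⟩ := exists_syl_ge hT hTM
        refine hS'.eq_or_lt.imp (fun e => by rwa [e]) fun e => ?_
        have := lt_inf_normalizer_of_lt hS.2 e
        exact ⟨ih _ this _ _ hM hL (hS.2.to_le inf_le_left) (ne_bot_of_gt this) (inf_le_left.trans hS.1) (inf_le_right.trans b),
          _, this, hS.2.to_le inf_le_left, inf_le_inf_right _ hS.1⟩
      have k' {M N} (hM : Q M) (hN : Q N) (hTM : T ≤ M) (c : Syl p T N) {U} (d : T < U) (e : IsPGroup p U) (f : U ≤ 𝐍 T) : False :=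
        d.not_ge (c.le_of_le d.le (fun t ht => h4 hN (h2 hN (h3 hN t) c (cj_of_mem_normalizer (f ht) ▸ c.conj t))) e)
      obtain c | ⟨c, U, d, e, f⟩ := k hM hTM
      · obtain c' | ⟨c', U, d, e, f⟩ := k hN hTN
        exacts [hne (h2 hM hN c c'), k' hN hM hTN c d e (f.trans inf_le_right)]
      · obtain c' | ⟨c', -⟩ := k hN hTN
        exacts [k' hM hN hTM c' d e (f.trans inf_le_right), hne (c.trans c'.symm)]
  obtain ⟨g, a, b⟩ := h' (fun e => h0 hM (by rw [e, Amalg.op_top, hOp])) (dvd_card_of_isPGroup_le (op_isPGroup M) (h0 hM) (op_le M))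
  obtain ⟨T, c, d, e⟩ := exists_isPGroup_ne_bot_of_dvd b
  exact a (h4 ⟨hM, hM'⟩ (h5 T _ _ ⟨hM, hM'⟩ (h3 ⟨hM, hM'⟩ g) d e (c.trans inf_le_left) (c.trans inf_le_right)))

end Cfsg.Agent.S3751
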