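import Cfsg.Statements.S3753
import Cfsg.Agent.Lib.FG.PrimPair

set_option autoImplicit false
open Cfsg

open Subgroup Cfsg.Lib
open scoped commutatorElement
open Amalg Glaub
namespace Cfsg.Agent.S3753

/-- Two distinct subgroups M₁, M₂ of G form a primitive pair when, for {i, j} = {1, 2}, every non-trivial normal subgroup A of M_i contained in M₁ ∩ M₂ satisfies N_{M_j}(A) = M₁ ∩ M₂; the pair has characteristic p when moreover C_{M_i}(O_p(M_i)) ≤ O_p(M_i) for both i and O_p(M₁)O_p(M₂) ≤ M₁ ∩ M₂. If the finite group G has a primitive pair (M₁, M₂) of characteristic p for some prime p, then M₁ or M₂ has non-abelian Sylow 2-subgroups. In particular no group of odd order has a primitive pair of characteristic p. -/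
theorem result {G : Type*} [Group G] [Finite G] {p : ℕ} [Fact p.Prime] (M₁ M₂ : Subgroup G) (hne : M₁ ≠ M₂) (hP : ∀ A : Subgroup G, A ≠ ⊥ → A ≤ M₁ ⊓ M₂ → (M₁ ≤ Subgroup.normalizer (A : Set G) → M₂ ⊓ Subgroup.normalizer (A : Set G) = M₁ ⊓ M₂) ∧ (M₂ ≤ Subgroup.normalizer (A : Set G) → M₁ ⊓ Subgroup.normalizer (A : Set G) = M₁ ⊓ M₂)) (hc₁ : Subgroup.centralizer (Cfsg.pCore p ↥M₁ : Set ↥M₁) ≤ Cfsg.pCore p ↥M₁) (hc₂ : Subgroup.centralizer (Cfsg.pCore p ↥M₂ : Set ↥M₂) ≤ Cfsg.pCore p ↥M₂) (hO : (Cfsg.pCore p ↥M₁).map M₁.subtype ⊔ (Cfsg.pCore p ↥M₂).map M₂.subtype ≤ M₁ ⊓ M₂) : (∃ S : Sylow 2 ↥M₁, ¬ IsMulCommutative (S : Subgroup ↥M₁)) ∨ (∃ S : Sylow 2 ↥M₂, ¬ IsMulCommutative (S : Subgroup ↥M₂)) := by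
  have : Fact (Nat.Prime 2) := ⟨Nat.prime_two⟩
  by_contra! h
  have c1 : CharP p M₁ := charP_iff.2 hc₁
  have c2 : CharP p M₂ := charP_iff.2 hc₂
  have o1 : pCoreOf p M₁ ≤ M₂ := le_sup_left.trans (hO.trans inf_le_right)
  have o2 : pCoreOf p M₂ ≤ M₁ := le_sup_right.trans (hO.trans inf_le_left)
  have p1 (A : Subgroup G) (a : A ≠ ⊥) (b : A ≤ M₁) (c : A ≤ M₂) (d : M₁ ≤ 𝐍 A) : M₂ ⊓ 𝐍 A ≤ M₁ := ((hP A a (le_inf b c)).1 d).le.trans inf_le_left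
  have p2 (A : Subgroup G) (a : A ≠ ⊥) (b : A ≤ M₂) (c : A ≤ M₁) (d : M₂ ≤ 𝐍 A) : M₁ ⊓ 𝐍 A ≤ M₂ := ((hP A a (le_inf c b)).2 d).le.trans inf_le_right
  have n1 : M₁ ≠ ⊥ := fun e => hne (e.trans (Eq.symm (by_contra fun e' => c2.op_ne_bot e' (eq_bot_iff.2 (o2.trans e.le)))))
  have n2 : M₂ ≠ ⊥ := fun e => c1.op_ne_bot n1 (eq_bot_iff.2 (o1.trans e.le))
  by_cases hp : p = 2
  · subst hp
    have k {M N : Subgroup G} (c : CharP 2 M) (h : ∀ S : Sylow 2 M, IsMulCommutative (S : Subgroup M)) (o : pCoreOf 2 N ≤ M) : pCoreOf 2 N ≤ pCoreOf 2 M := by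
      obtain ⟨T, hT, hT'⟩ := exists_syl_ge (op_isPGroup N) o
      obtain ⟨S, rfl⟩ := hT.exists_sylow
      have := h S
      exact hT'.trans (c.le' hT.1 hT.op_le (isMulCommutative_iff_le_cent.1 inferInstance))
    have e := le_antisymm (k c2 h.2 o1) (k c1 h.1 o2)
    exact hne (le_antisymm ((le_inf le_rfl (le_norm_op M₁)).trans (e ▸ p2 _ (c2.op_ne_bot n2) (op_le _) o2 (le_norm_op _)))
      ((le_inf le_rfl (le_norm_op M₂)).trans (e ▸ p1 _ (c1.op_ne_bot n1) (op_le _) o1 (le_norm_op _))))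
  have k {M : Subgroup G} (h : ∀ S : Sylow 2 M, IsMulCommutative (S : Subgroup M)) (V : Subgroup G) (_ : V ≤ M) (b : M ≤ 𝐍 V) (c : IsPGroup p V) : Stab p M V := by
    obtain ⟨T⟩ : Nonempty (Sylow 2 M) := inferInstance
    exact stab_of_sl2 hp c b (not_involves_sl2_of_syl_two hp (syl_top T) (h T))
  exact hne (FG.PP.eq ⟨c1, k h.1, o1, p1, n1⟩ ⟨c2, k h.2, o2, p2, n2⟩)

end Cfsg.Agent.S3753
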