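import Cfsg.Statements.S3754
import Cfsg.Agent.Lib.Amalg.CharP
import Cfsg.Agent.Lib.Coprime.Generation
import Cfsg.Agent.Lib.Core.PSolvable
import Cfsg.Agent.Lib.PGrp.Basic

set_option autoImplicit false
open Cfsg

open Subgroup Cfsg.Lib
open scoped commutatorElement
open Cfsg.Lib.Amalg
namespace Cfsg.Agent.S3754

/-- Let M be a finite p-soluble group and A a p-subgroup of M with Φ(A) ≤ O_p(M) but A ≰ O_p(M). Then there is x ∈ O_{p,p'}(M) such that L = ⟨A, xAx⁻¹⟩ satisfies: x ∈ O^p(L) and O^p(L) ≤ O_{p,p'}(M); [O^p(L), A] = O^p(L); A ∩ O_p(L) has index p in A; and [A ∩ O_p(L), L] ≤ O_p(M). Here O^p(L) is the subgroup generated by the p'-elements of L and O_{p,p'}(M) the preimage of O_{p'}(M/O_p(M)). -/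
theorem result {M : Type*} [Group M] [Finite M] {p : ℕ} [Fact p.Prime] (hM : Cfsg.IsPSolvable p M) (A : Subgroup M) (hA : IsPGroup p A) (hΦ : (frattini ↥A).map A.subtype ≤ Cfsg.pCore p M) (hnot : ¬ A ≤ Cfsg.pCore p M) : ∃ x ∈ (Cfsg.pPrimeCore p (M ⧸ Cfsg.pCore p M)).comap (QuotientGroup.mk' (Cfsg.pCore p M)), x ∈ (Cfsg.pResidual p ↥(A ⊔ A.map (MulAut.conj x).toMonoidHom)).map (A ⊔ A.map (MulAut.conj x).toMonoidHom).subtype ∧ (Cfsg.pResidual p ↥(A ⊔ A.map (MulAut.conj x).toMonoidHom)).map (A ⊔ A.map (MulAut.conj x).toMonoidHom).subtype ≤ (Cfsg.pPrimeCore p (M ⧸ Cfsg.pCore p M)).comap (QuotientGroup.mk' (Cfsg.pCore p M)) ∧ ⁅(Cfsg.pResidual p ↥(A ⊔ A.map (MulAut.conj x).toMonoidHom)).map (A ⊔ A.map (MulAut.conj x).toMonoidHom).subtype, A⁆ = (Cfsg.pResidual p ↥(A ⊔ A.map (MulAut.conj x).toMonoidHom)).map (A ⊔ A.map (MulAut.conj x).toMonoidHom).subtype ∧ (A ⊓ (Cfsg.pCore p ↥(A ⊔ A.map (MulAut.conj x).toMonoidHom)).map (A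 ⊔ A.map (MulAut.conj x).toMonoidHom).subtype).relIndex A = p ∧ ⁅A ⊓ (Cfsg.pCore p ↥(A ⊔ A.map (MulAut.conj x).toMonoidHom)).map (A ⊔ A.map (MulAut.conj x).toMonoidHom).subtype, A ⊔ A.map (MulAut.conj x).toMonoidHom⁆ ≤ Cfsg.pCore p M := by
  have hp : p.Prime := Fact.out
  set f := QuotientGroup.mk' (pCore p M)
  set N := pPrimeCore p (M ⧸ pCore p M)
  have hk : f.ker = pCore p M := QuotientGroup.ker_mk' _
  obtain ⟨c1, c2⟩ := (PGrp.map_frattini_le_iff hA).1 hΦ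
  have hAc : A.map f ≤ 𝐂 (A.map f) := by rw [← comm_eq_bot_iff, ← map_commutator, Subgroup.map_eq_bot_iff, hk]; exact c1
  haveI : IsMulCommutative (A.map f) := isMulCommutative_iff_le_cent.2 hAc
  have hAp : ∀ a ∈ A.map f, a ^ p = 1 := by
    rintro _ ⟨a, ha, rfl⟩; rw [← map_pow]; exact (hk.ge (c2 a ha) :)
  have hA' : IsPGroup p (A.map f) := hA.map f
  have hN : (Nat.card N).Coprime p := Core.coprime_card_pPrimeCore p _
  haveI : N.Normal := inferInstance
  have hcop := (coprime_card_of_pPrime hN hA').symm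
  have hne : A.map f ≠ ⊥ := by rwa [Ne, Subgroup.map_eq_bot_iff, hk]
  have one : ∀ y ∈ N, ∀ k, y ^ p ^ k = 1 → y = 1 := fun y hy k e =>
    orderOf_eq_one_iff.1 (Nat.eq_one_of_dvd_coprimes (hN.pow_right k) (N.orderOf_dvd_natCard hy) (orderOf_dvd_of_pow_eq_one e))
  obtain ⟨B, hBA, hB, hnc⟩ : ∃ B ≤ A.map f, B.relIndex (A.map f) = p ∧ ¬ N ⊓ 𝐂 B ≤ 𝐂 (A.map f) := by
    by_contra! h
    have := le_cent_symm (Coprime.le_of_forall_hyperplane hAp hne le_normalizer_of_normal' hcop h)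
    exact hne (eq_bot_iff.2 fun a ha => one a (Core.centralizer_pPrimeCore_le_of_isPSolvable hp (Core.isPSolvable_quotient hp hM _)
      Core.pCore_quotient_pCore (this ha)) 1 (by rw [pow_one, hAp a ha]))
  set K := N ⊓ 𝐂 B
  have hAB : A.map f ≤ 𝐂 B := hAc.trans (centralizer_le hBA)
  have hAK : A.map f ≤ 𝐍 K := Core.le_normalizer_inf le_normalizer_of_normal' (le_normalizer_of_le hAB)
  obtain ⟨x, ⟨x1, x2⟩, hm⟩ := exists_minimalFor_of_wellFoundedLT (fun x : M => f x ∈ K ∧ f x ∉ 𝐂 (A.map f)) (fun x => A ⊔ cj x A) (by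
    obtain ⟨y, y1, y2⟩ := SetLike.not_le_iff_exists.1 hnc
    obtain ⟨x, rfl⟩ := QuotientGroup.mk'_surjective _ y
    exact ⟨x, y1, y2⟩)
  set L := A ⊔ cj x A with hL
  set R := pResidualOf p L
  have l1 : L.map f ≤ K ⊔ A.map f := by
    rw [hL, Subgroup.map_sup, map_cj]; exact sup_le le_sup_right (cj_le_of_le_of_mem le_sup_right (mem_sup_left x1))
  have l2 : L.map f ≤ 𝐂 B := l1.trans (sup_le inf_le_right hAB)
  have r1 : R.map f ≤ K := (map_res_le f L).trans (res_le_of_le_sup hA' hAK l1)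
  have hAR : A ≤ 𝐍 R := le_sup_left.trans (le_norm_res L)
  have r2 : ⁅R, A⁆ ≤ R := comm_le_left hAR
  obtain ⟨y, y1, y2⟩ : ∃ y ∈ ⁅R, A⁆, f y ∉ 𝐂 (A.map f) := by
    by_contra! h
    have c : A.map f ≤ 𝐂 (R.map f) := Coprime.le_centralizer_of_commutator_le_centralizer ((map_mono hAR).trans (le_normalizer_map f))
      (hcop.coprime_dvd_right (card_dvd_of_le (r1.trans inf_le_left))) (by rw [← map_commutator]; exact map_le_iff_le_comap.2 h)
    refine x2 fun a ha => ?_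
    have e1 : ⁅f x, a⁆ ∈ N := by
      rw [commutatorElement_def, mul_assoc, mul_assoc, ← mul_assoc a]; exact N.mul_mem x1.1 (‹N.Normal›.conj_mem _ (N.inv_mem x1.1) a)
    have e2 : ⁅f x, a⁆ ∈ R.map f := by
      rw [map_res]
      refine mem_res (mul_mem ?_ (inv_mem (map_mono le_sup_left ha))) (hN.coprime_dvd_left (N.orderOf_dvd_natCard e1))
      exact map_mono le_sup_right (map_cj f x A ▸ conj_mem_cj _ ha)
    have e3 : Commute ⁅f x, a⁆ a := c ha _ e2
    have e4 : (⁅f x, a⁆ * a) ^ p = 1 := by rw [commutatorElement_def, inv_mul_cancel_right, conj_pow, hAp a ha]; simp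
    rw [e3.mul_pow, hAp a ha, mul_one] at e4
    exact (commutatorElement_eq_one_iff_mul_comm.1 (one _ e1 1 (by rwa [pow_one]))).symm
  have yK : f y ∈ K := r1 (mem_map_of_mem f (r2 y1))
  have yL : y ∈ L := res_le L (r2 y1)
  have e : A ⊔ cj y A = L := by
    have : A ⊔ cj y A ≤ L := sup_le le_sup_left (cj_le_of_le_of_mem le_sup_left yL)
    exact this.antisymm (hm ⟨yK, y2⟩ this)
  have r3 : ⁅R, A⁆ = R := r2.antisymm (res_le_of_le_sup hA (right_le_normalizer_comm R A)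
    (e.ge.trans (sup_le le_sup_right (cj_le_of_le_of_mem le_sup_right (mem_sup_left y1)))))
  have o1 : A ⊓ B.comap f ≤ A ⊓ pCoreOf p L := by
    refine le_inf inf_le_left (le_trans (inf_le_inf_right _ le_sup_left) (le_op inf_le_left ?_ ?_))
    · exact Core.le_normalizer_inf le_normalizer ((map_le_iff_le_comap.1 (l2.trans (cent_le_norm B))).trans (le_normalizer_comap f))
    · exact ((hA'.to_le hBA).comap_of_ker_isPGroup f (by rw [hk]; exact Core.isPGroup_pCore p M)).to_inf_right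
  have o2 : (A ⊓ B.comap f).relIndex A = p := by rw [inf_relIndex_left, relIndex_comap, hB]
  have o3 : (A ⊓ pCoreOf p L).relIndex A = p := by
    refine ((Nat.dvd_prime hp).1 ((relIndex_dvd_of_le_left A o1).trans o2.dvd)).resolve_left fun h => y2 ?_
    have h1 := (relIndex_eq_one.1 h).trans inf_le_right
    obtain ⟨k, hk⟩ := op_isPGroup (p := p) L ⟨y, e.ge.trans (sup_le h1 (cj_le_of_le_of_mem_normalizer h1 (le_norm_op L yL))) yL⟩
    rw [one _ yK.1 k (by rw [← map_pow, show y ^ p ^ k = 1 from congrArg Subtype.val hk, map_one])]; exact one_mem _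
  have o4 : A ⊓ pCoreOf p L ≤ A ⊓ B.comap f := by
    have := relIndex_mul_relIndex _ _ _ o1 (inf_le_left : _ ≤ A)
    rw [o2, o3] at this
    exact relIndex_eq_one.1 (by simpa [hp.ne_zero] using this)
  refine ⟨y, yK.1, ?_⟩
  rw [e]
  refine ⟨r2 y1, map_le_iff_le_comap.1 (r1.trans inf_le_left), r3, o3, ?_⟩
  rw [← hk, ← Subgroup.map_eq_bot_iff, map_commutator, comm_eq_bot_iff']
  exact l2.trans (centralizer_le (map_le_iff_le_comap.2 (o4.trans inf_le_right)))

end Cfsg.Agent.S3754
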