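import Cfsg.Statements.S3755
import Cfsg.Agent.Lib.Amalg.CharP
import Cfsg.Agent.Lib.Coprime.Generation
import Cfsg.Agent.Lib.Hall.SylNum
import Cfsg.Agent.Lib.KS9.S4
import Cfsg.Agent.Lib.Invol.Basic

set_option autoImplicit false
open Cfsg

open Subgroup Cfsg.Lib
open scoped commutatorElement
open Cfsg.Lib.Amalg
namespace Cfsg.Agent.S3755

/-- Let M and V be subgroups of a finite group with V an elementary abelian 2-group, M normalizing V and acting faithfully on it (M ∩ C(V) = 1), and C_M(O_{2'}(M)) ≤ O_{2'}(M). If some elementary abelian 2-subgroup A of M satisfies |V : C_V(A)| < |A|², then M has a section isomorphic to the symmetric group of degree 3. -/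
theorem result {X : Type*} [Group X] [Finite X] (M V : Subgroup X) (hV : Cfsg.IsElementaryAbelian 2 V) (hMV : M ≤ Subgroup.normalizer (V : Set X)) (hfaith : M ⊓ Subgroup.centralizer (V : Set X) = ⊥) (hcon : Subgroup.centralizer (Cfsg.pPrimeCore 2 ↥M : Set ↥M) ≤ Cfsg.pPrimeCore 2 ↥M) (A : Subgroup X) (hAM : A ≤ M) (hA : Cfsg.IsElementaryAbelian 2 A) (hsmall : (V ⊓ Subgroup.centralizer (A : Set X)).relIndex V < Nat.card A ^ 2) : Cfsg.Involves (Equiv.Perm (Fin 3)) ↥M := by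
  by_contra hS
  set N := (pPrimeCore 2 M).map M.subtype
  have hN : (Nat.card N).Coprime 2 := Core.coprime_card_pPrimeCoreOf M
  have hNM : N ≤ M := map_subtype_le _
  have hMN : M ≤ 𝐍 N := le_normalizer_map_of_normal _
  have hV2 := elemAb_isPGroup hV
  have odd : ∀ y ∈ N, (orderOf y).Coprime 2 := fun y hy => hN.coprime_dvd_left (N.orderOf_dvd_natCard hy)
  revert hsmall
  induction A using (wellFounded_lt (α := Subgroup X)).induction with | _ A ih =>
  intro hs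
  by_cases hne : A = ⊥
  · have := BG1.relIndex_pos (A := V ⊓ 𝐂 A) (B := V)
    rw [hne, card_bot] at hs; rw [hne] at this; omega
  haveI := hA.1
  obtain ⟨B, hBA, hB, hnc⟩ : ∃ B ≤ A, B.relIndex A = 2 ∧ ¬ N ⊓ 𝐂 B ≤ 𝐂 A := by
    by_contra! h
    have := le_cent_symm (Coprime.le_of_forall_hyperplane hA.2 hne (hAM.trans hMN) (coprime_card_of_pPrime hN (elemAb_isPGroup hA)).symm h)
    refine hne (eq_bot_iff.2 fun a ha => orderOf_eq_one_iff.1 (Nat.eq_one_of_dvd_coprimes (odd a ?_) dvd_rfl (orderOf_dvd_of_pow_eq_one (hA.2 a ha))))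
    exact mem_map_of_mem M.subtype (x := ⟨a, hAM ha⟩) (hcon fun h hh => Subtype.ext (this ha _ (mem_map_of_mem M.subtype hh)))
  obtain ⟨k, ⟨k1, k2 : k ∈ 𝐂 B⟩, hk⟩ := SetLike.not_le_iff_exists.1 hnc
  obtain ⟨a, ha, hak⟩ : ∃ a ∈ A, a * k ≠ k * a := by simpa [mem_centralizer_iff] using hk
  have aa : a * a = 1 := by rw [← sq, hA.2 a ha]
  have ai : a⁻¹ = a := inv_eq_of_mul_eq_one_left aa
  have aB : a ∈ 𝐂 B := centralizer_le hBA (elemAb_le_cent hA ha)
  obtain ⟨y, q, hq, y1, y2, y3, y4⟩ : ∃ y q, q.Prime ∧ orderOf y = q ∧ y ∈ N ∧ y ∈ 𝐂 B ∧ a * y * a⁻¹ = y⁻¹ := by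
    have e : ⁅k, a⁆ ≠ 1 := fun e => hak (commutatorElement_eq_one_iff_mul_comm.1 e).symm
    have e1 : ⁅k, a⁆ ∈ N := by
      rw [commutatorElement_def, mul_assoc, mul_assoc, ← mul_assoc a]; exact N.mul_mem k1 (Coprime.conj_mem (hAM.trans hMN) ha (N.inv_mem k1))
    refine ⟨⁅k, a⁆ ^ (orderOf ⁅k, a⁆ / (orderOf ⁅k, a⁆).minFac), _, Nat.minFac_prime (mt orderOf_eq_one_iff.1 e),
      orderOf_pow_orderOf_div (orderOf_pos _).ne' (Nat.minFac_dvd _), pow_mem e1 _, pow_mem (mul_mem (mul_mem (mul_mem k2 aB) (inv_mem k2)) (inv_mem aB)) _,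
      Invol.conj_pow_of_inv ?_ _⟩
    simp [commutatorElement_def, ai, mul_assoc, aa]
  haveI := Fact.mk hq
  have q2 : q.Coprime 2 := y1 ▸ odd y y2
  have yq : IsPGroup q (zpowers y) := .of_card (n := 1) (by rw [Nat.card_zpowers, y1, pow_one])
  have yM : zpowers y ≤ M := zpowers_le.2 (hNM y2)
  set U := V ⊓ 𝐂 B
  have yU : zpowers y ≤ 𝐍 U := Core.le_normalizer_inf (yM.trans hMV) (le_normalizer_of_le (zpowers_le.2 y3))
  have u1 : (𝐂 (zpowers y)).relIndex U ≠ 1 := fun e => by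
    have := thompson_PxQ (p := 2) (A := zpowers y) (by rwa [Nat.card_zpowers, y1]) ((elemAb_isPGroup hA).to_le hBA) hV2 (zpowers_le.2 y3) (yM.trans hMV)
      (hBA.trans (hAM.trans hMV)) (relIndex_eq_one.1 e)
    have : y = 1 := hfaith.le ⟨hNM y2, this (mem_zpowers y)⟩
    exact hq.ne_one (by rw [← y1, this, orderOf_one])
  have u2 := Hall.relIndex_centralizer_modEq yq yU fun h => by
    obtain ⟨n, hn⟩ := (hV2.to_le (inf_le_left : U ≤ V)).exists_card_eq
    exact hq.ne_one (Nat.eq_one_of_dvd_coprimes (q2.pow_right n) dvd_rfl (hn ▸ h))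
  have u3 : (𝐂 (zpowers y)).relIndex U ≤ (𝐂 A).relIndex U * (𝐂 A).relIndex U := by
    have e : (cj y (𝐂 A)).relIndex U = (𝐂 A).relIndex U := by
      conv_lhs => rw [← cj_of_mem_normalizer (yU (mem_zpowers y)), relIndex_cj]
    refine le_trans (relIndex_le_of_le_left ?_ BG1.relIndex_ne_zero') ((relIndex_inf_le (H := 𝐂 A) (K := cj y (𝐂 A))).trans (by rw [e]))
    rintro u ⟨h1 : u ∈ 𝐂 A, h2 : u ∈ cj y (𝐂 A)⟩
    rw [cj_centralizer] at h2
    refine le_cent_symm (H := zpowers y) (K := zpowers u) (zpowers_le.2 ?_) (mem_zpowers u)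
    have c1 : a ∈ 𝐂 (zpowers u) := le_cent_symm (zpowers_le.2 h1) ha
    have c2 : y * a * y⁻¹ ∈ 𝐂 (zpowers u) := le_cent_symm (zpowers_le.2 h2) (conj_mem_cj y ha)
    refine mem_of_pow_mem_coprime (odd y y2) ?_
    convert mul_mem c2 (inv_mem c1) using 1
    rw [← y4, ai]; simp [sq, mul_assoc, ← mul_assoc a a, aa]
  have hlt : B < A := hBA.lt_of_ne fun e => by rw [e, relIndex_self] at hB; omega
  have i1 := mt (ih B hlt (hBA.trans hAM) (elemAb_of_le hA hBA)) not_false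
  have i2 : (𝐂 A).relIndex U * U.relIndex V = (V ⊓ 𝐂 A).relIndex V := by
    rw [← relIndex_mul_relIndex (V ⊓ 𝐂 A) U V (inf_le_inf_left _ (centralizer_le hBA)) inf_le_left, ← inf_relIndex_right (𝐂 A),
      show 𝐂 A ⊓ U = V ⊓ 𝐂 A from le_antisymm (le_inf (inf_le_right.trans inf_le_left) inf_le_left) (le_inf inf_le_right (inf_le_inf_left _ (centralizer_le hBA)))]
  have i3 : Nat.card A = Nat.card B * 2 := by rw [← hB, Core.card_mul_relIndex hBA]
  have i4 : (𝐂 A).relIndex U < 4 := by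
    by_contra! h
    have := Nat.mul_le_mul h (not_lt.1 i1)
    rw [i2] at this; rw [i3] at hs; linarith
  have i5 : (𝐂 A).relIndex U ≠ 3 := fun e => by
    obtain ⟨n, hn⟩ := (hV2.to_le (inf_le_left : U ≤ V)).exists_card_eq
    have := Nat.prime_three.dvd_of_dvd_pow (hn ▸ e ▸ relIndex_dvd_card (𝐂 A) U)
    omega
  have i6 : (𝐂 (zpowers y)).relIndex U ≤ 2 * 2 := u3.trans (Nat.mul_le_mul (by omega) (by omega))
  have i7 := BG1.relIndex_pos (A := 𝐂 (zpowers y)) (B := U)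
  have i8 := Nat.le_of_dvd (by omega) ((Nat.modEq_iff_dvd' i7).1 u2.symm)
  obtain rfl : q = 3 := by
    have := hq.two_le
    have : q ≠ 2 := by rintro rfl; simp at q2
    omega
  refine hS (KS9.involves_S3_iff.2 (KS9.involves_dihedral_of_inv (by decide) (x := ⟨a, hAM ha⟩) (y := ⟨y, hNM y2⟩) (k := 1) (n := 1)
    (Subtype.ext (by simpa using hA.2 a ha)) (Subtype.ext ?_) (fun e => ?_) (Subtype.ext y4)))
  · simpa [y1] using pow_orderOf_eq_one y
  · rw [show y = 1 from congrArg Subtype.val e] at y1; simp at y1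

end Cfsg.Agent.S3755
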