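import Cfsg.Statements.S3756
import Cfsg.Agent.Lib.SF.WS

set_option autoImplicit false
open Cfsg

namespace Cfsg.Agent.S3756

open Subgroup Cfsg.Lib.Amalg
open Cfsg.Lib.Core hiding isPGroup_subgroupOf isPGroup_subgroupOf_iff isPGroup_map_subtype_iff isPGroup_zpowers_of_orderOf
open scoped commutatorElement

open Cfsg.Lib.SF Cfsg.Lib.Fus2

/-- Let G be a finite group of even order with O₂(G) = 1 such that every 2-local subgroup of G is solvable, of characteristic 2, and has no section isomorphic to the symmetric group of degree 4. Then every maximal 2-local subgroup of G is strongly embedded in G. -/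
theorem result {G : Type*} [Group G] [Finite G] (heven : Even (Nat.card G)) (hO : Cfsg.pCore 2 G = ⊥) (hloc : ∀ M : Subgroup G, Cfsg.IsTwoLocal M → Group.IsSolvable M ∧ Cfsg.IsOfCharacteristicTwo ↥M ∧ ¬ Cfsg.Involves (Equiv.Perm (Fin 4)) ↥M) (M : Subgroup G) (hM : Cfsg.IsMaximalTwoLocal M) : Cfsg.IsStronglyEmbedded M := by
  have hW2 : ∀ R : Subgroup G, IsPGroup 2 R → R ≠ ⊥ → IsTwoLocal (𝐍(amb WS R)) := fun R a b =>
    ⟨_, a.to_le (amb_le WS R), fct_WS.amb_ne_bot a b, rfl⟩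
  have key0 : ∀ H R : Subgroup G, IsTwoLocal H → Syl 2 R H → H ≤ 𝐍(amb WS R) := fun H R a b => by
    have := amb_WS_normal b.subgroupOf_top (hloc H a).2.2 (charP_top.2 (hloc H a).2.1)
    have h := le_normalizer_map_of_normal (amb WS (R.subgroupOf H))
    rwa [fct_WS.amb_subgroupOf b.le b.isPGroup, map_subgroupOf_of_le ((amb_le WS R).trans b.le)] at h
  obtain ⟨Q, hQ, hQ1, hQM⟩ := hM.1
  have hQle : Q ≤ M := hQM ▸ le_normalizer
  have key1 : ∀ T : Subgroup G, Syl 2 T M → 𝐍(amb WS T) = M := fun T a =>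
    hM.2 _ (hW2 T a.isPGroup fun e => hQ1 (le_bot_iff.1 (e ▸ a.le_of_normal hQ hQle hQM.le))) (key0 M T hM.1 a)
  have key2 : ∀ R : Subgroup G, R ≠ ⊥ → ∀ H : Subgroup G, IsTwoLocal H → Syl 2 R (H ⊓ M) → H ≤ M := by
    intro R
    induction R using WellFoundedGT.induction with
    | ind R ih =>
    intro h1 H hH hR
    obtain ⟨T, hT, hRT⟩ := exists_syl_ge hR.isPGroup (hR.le.trans inf_le_right)
    have h2 : 𝐍(amb WS R) ≤ M := by
      rcases hRT.eq_or_lt with e | e
      · rw [e, key1 T hT]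
      · have i := lt_inf_normalizer_of_lt hT.isPGroup e
        obtain ⟨R', a, b⟩ := exists_syl_ge (H := 𝐍(amb WS R) ⊓ M) (hT.isPGroup.to_le (inf_le_left (b := 𝐍(R))))
          (le_inf (inf_le_right.trans (fct_WS.normalizer_le hR.isPGroup)) (inf_le_left.trans hT.le))
        exact ih R' (i.trans_le b) (ne_bot_of_gt (i.trans_le b)) _ (hW2 R hR.isPGroup h1) a
    exact (key0 H R hH (hR.of_normalizer_le inf_le_left
      (inf_le_inf_left H ((fct_WS.normalizer_le hR.isPGroup).trans h2)))).trans h2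
  refine ⟨fun e => hQ1 (le_bot_iff.1 (hO ▸ ?_)), even_iff_two_dvd.2 (dvd_card_of_isPGroup_le hQ hQ1 hQle),
    fun g hg => Nat.not_even_iff_odd.1 fun he => hg ?_⟩
  · have := normal_of_top_le_normalizer (H := Q) (hQM ▸ e.ge)
    exact le_pCore hQ
  · change Even (Nat.card ↥(M ⊓ cj g M)) at he
    rw [inf_comm] at he
    obtain ⟨R, hR⟩ := exists_syl 2 (cj g M ⊓ M)
    have h1 := key2 R (hR.ne_bot (even_iff_two_dvd.1 he)) _
      ⟨cj g Q, isPGroup_cj g hQ, fun e => hQ1 (cj_eq_bot_iff.1 e), by rw [← cj_normalizer, ← hQM]⟩ hR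
    have h2 := mem_normalizer_of_cj_le h1
    obtain ⟨T, hT⟩ := exists_syl 2 M
    obtain ⟨n, hn, a, ha, rfl⟩ := hT.frattini_mem h2
    exact mul_mem hn (key1 T hT ▸ fct_WS.normalizer_le hT.isPGroup ha)

end Cfsg.Agent.S3756
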