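import Cfsg.Statements.S3763
import Cfsg.Agent.Lib.PGrp.CExt

set_option autoImplicit false
open Cfsg

namespace Cfsg.Agent.S3763

open Cfsg.Lib.PGrp Cfsg.Lib.Forms Subgroup
open scoped commutatorElement

/-- Let E be an extraspecial 2-group of order 2^(2n+1). Then the largest elementary abelian subgroups of E have order 2^n or 2^(n+1); and two extraspecial 2-groups of the same order whose largest elementary abelian subgroups have the same order are isomorphic. -/
theorem result {E : Type*} [Group E] [Finite E] (hE : Cfsg.IsExtraspecial 2 E) (n : ℕ) (hn : Nat.card E = 2 ^ (2 * n + 1)) : ((Cfsg.PRankLE 2 n E ∧ ¬ Cfsg.PRankLE 2 (n - 1) E) ∨ (Cfsg.PRankLE 2 (n + 1) E ∧ ¬ Cfsg.PRankLE 2 n E)) ∧ ∀ (E' : Type*) [Group E'] [Finite E'], Cfsg.IsExtraspecial 2 E' → Nat.card E' = Nat.card E → (∀ k : ℕ, Cfsg.PRankLE 2 k E ↔ Cfsg.PRankLE 2 k E') → Nonempty (E ≃* E') := by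
  obtain ⟨V, _, _, _, M, m, hN, hm⟩ := Cfsg.Lib.PGrp.IsExtraspecial.exists_cExt hE
  rw [M.card_eq_pow, Nat.pow_right_inj one_lt_two, Nat.succ_inj, hm] at hn
  obtain rfl : n = m + 1 := by omega
  refine ⟨?_, fun E' _ _ hE' hc h => ?_⟩
  · by_cases h : PRankLE 2 (m + 1) E
    · exact .inl ⟨h, M.hasTS_iff.1 (Quad.hasTS_pred hN (by omega))⟩
    · refine .inr ⟨not_not.1 fun h' => ?_, h⟩
      have := Form.HasTS.two_mul_le (M.quad_nondeg.2 hN) (M.hasTS_iff.2 h')
      omega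
  · obtain ⟨V', _, _, _, M', -, hN', -⟩ := Cfsg.Lib.PGrp.IsExtraspecial.exists_cExt hE'
    rw [M.card_eq_pow, M'.card_eq_pow, Nat.pow_right_inj one_lt_two, Nat.succ_inj, hm] at hc
    exact M.nonempty_mulEquiv M' (Quad.iso_of_type hN hN' hm hc (by rw [M.hasTS_iff, M'.hasTS_iff, h]))

end Cfsg.Agent.S3763
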