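import Cfsg.Statements.S3764
import Cfsg.Agent.Lib.FG.ExtraChar

set_option autoImplicit false
open Cfsg

open Subgroup Cfsg.Lib
open scoped commutatorElement
open Coprime Clifford
namespace Cfsg.Agent.S3764

/-- Let p, q, r be distinct primes and let X, Q, V be subgroups of a finite group with X of order r, Q an extraspecial q-group normalized by X with C_Q(X) = Z(Q), and V an elementary abelian p-group normalized by X and Q on which XQ acts faithfully ((X ⊔ Q) ∩ C(V) = 1). If C_V(X) = 1, then q = 2, r = 2^n + 1 for some n, and Q has order 2^(2n+1). -/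
theorem result {G : Type*} [Group G] [Finite G] {p q r : ℕ} (hp : p.Prime) (hq : q.Prime) (hr : r.Prime) (hpq : p ≠ q) (hpr : p ≠ r) (hqr : q ≠ r) (X Q V : Subgroup G) (hX : Nat.card X = r) (hQ : Cfsg.IsExtraspecial q ↥Q) (hXQ : X ≤ Subgroup.normalizer (Q : Set G)) (hCQ : Q ⊓ Subgroup.centralizer (X : Set G) = (Subgroup.center ↥Q).map Q.subtype) (hV : Cfsg.IsElementaryAbelian p V) (hXV : X ≤ Subgroup.normalizer (V : Set G)) (hQV : Q ≤ Subgroup.normalizer (V : Set G)) (hfaith : (X ⊔ Q) ⊓ Subgroup.centralizer (V : Set G) = ⊥) (hCV : V ⊓ Subgroup.centralizer (X : Set G) = ⊥) : q = 2 ∧ ∃ n : ℕ, r = 2 ^ n + 1 ∧ Nat.card Q = 2 ^ (2 * n + 1) := by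
  have := Fact.mk hp; have := Fact.mk hq
  have := hV.1
  have h := FG.xs_of hQ
  set Z := (center Q).map Q.subtype
  have hc : (Nat.card X).Coprime (Nat.card Q) := coprime_card_of_isPGroup hQ.1.1 (hX ▸ (Nat.coprime_primes hr hq).2 hqr.symm)
  have hVp : IsPGroup p V := fun x => ⟨1, by rw [pow_one]; exact Subtype.ext (hV.2 x x.2)⟩
  obtain ⟨χ, hχ, hd⟩ := exists_brauer_lift (sup_le hQV hXV) (coprime_card_of_isPGroup hVp (by
    rw [card_sup_of_disjoint' hXQ (inf_eq_bot_of_coprime_card hc), hX]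
    exact (coprime_card_of_isPGroup hQ.1.1 ((Nat.coprime_primes hp hq).2 hpq)).symm.mul_left ((Nat.coprime_primes hr hp).2 hpr.symm))) (isSolvable_of_isPGroup hVp)
  have hZ := h.le.trans (le_sup_left (b := X))
  obtain ⟨ψ, hψ, hne, ht⟩ : ∃ ψ ∈ Irr (Q ⊔ X), dot (Q ⊔ X) χ ψ ≠ 0 ∧ ¬ Triv Z ψ := by
    by_contra! e
    have h1 := (triv_iff_le_centralizer_of_lift hχ hd hZ).1 fun z hz => InvOn.eq_of_forall hχ.classOn (hZ hz) fun ψ hψ hne => e ψ hψ hne z hz
    exact hq.ne_one (by rw [← h.card, eq_bot_iff.2 ((le_inf (h.le.trans le_sup_right) h1).trans hfaith.le), card_bot])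
  have h0 : dot X ψ 1 = 0 := by
    by_contra h1
    refine CharOn.dot_ne_zero_trans le_sup_right hχ (irrOn_of_mem hψ) (charOn_one X) hne h1 ?_
    rw [hd X le_sup_right, hCV, card_bot]
    simp
  rcases triv_commutator_or_of_dot_eq_zero hXQ (hX ▸ hr) hc (irrOn_of_mem hψ) h0 with h1 | ⟨h1, h2, h3⟩
  · refine (ht (h1.mono (h.comm.ge.trans (commutator_le.2 fun a ha b hb => ?_)))).elim
    obtain ⟨u, hu, c, hc', rfl⟩ := exists_commutator_mul_centralizer hXQ hc (.inr (isSolvable_of_isPGroup hQ.1.1)) ha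
    obtain ⟨v, hv, d, hd', rfl⟩ := exists_commutator_mul_centralizer hXQ hc (.inr (isSolvable_of_isPGroup hQ.1.1)) hb
    rw [commutatorElement_mul_left_eq_conj_mul, commutatorElement_eq_one_iff_mul_comm.2 (h.cent (hCQ.le hc') _ hb).symm,
      commutatorElement_mul_right_eq_mul_conj, commutatorElement_eq_one_iff_mul_comm.2 (h.cent (hCQ.le hd') _ (commutator_le_of_le_normalizer hXQ hu))]
    simpa [commutatorElement_def] using mul_mem (mul_mem (mul_mem hu hv) (inv_mem hu)) (inv_mem hv)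
  have h4 := FG.deg_le_of_norm_eq_one ((irrOn_of_mem hψ).charOn.mono le_sup_right) (fun x hx hx1 => FG.norm_eq_one le_sup_left
    (nrm_of_le_normalizer (sup_le le_normalizer hXQ)) (irrOn_of_mem hψ).charOn h1 (mem_sup_right hx)
    (hc.coprime_dvd_left (Subgroup.orderOf_dvd_natCard _ hx)) (by
      rw [← Core.centralizer_zpowers, zpowers_eq_of_card_prime (hX ▸ hr) hx hx1, Core.centralizer_sup]
      exact le_inf (hCQ.le.trans h.cent) inf_le_right)) h0
  have h5 := h.deg_sq hq h1 ht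
  obtain ⟨k, hk⟩ := hQ.1.1.exists_card_eq
  obtain ⟨n, -, hn⟩ := (Nat.dvd_prime_pow hq).1 (hk ▸ h1.deg_dvd_card)
  rw [hX] at h2 h3 h4
  have h6 := le_antisymm h4 (Nat.le_of_dvd h1.deg_pos h3)
  obtain rfl : 2 = q := (Nat.prime_dvd_prime_iff_eq Nat.prime_two hq).1 (Nat.prime_two.dvd_of_dvd_pow (hn ▸ h6 ▸ (hr.even_sub_one h2.ne').two_dvd))
  exact ⟨rfl, n, by omega, by rw [← h5, hn]; ring⟩

end Cfsg.Agent.S3764
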