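import Cfsg.Statements.S3765
import Cfsg.Agent.Lib.FG.ExtraChar

set_option autoImplicit false
open Cfsg

open Subgroup Cfsg.Lib
open scoped commutatorElement
open Coprime
namespace Cfsg.Agent.S3765

/-- Let p, q, r be distinct primes and let X, Q, V be subgroups of a finite group with X of order r normalizing the q-group Q and acting faithfully on it (X ∩ C(Q) = 1), and V a nontrivial elementary abelian p-group normalized by X and Q on which XQ acts faithfully. If q = 2 and r has the form 2^n + 1, assume in addition that Q is abelian. Then C_V(X) ≠ 1. -/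
theorem result {G : Type*} [Group G] [Finite G] {p q r : ℕ} (hp : p.Prime) (hq : q.Prime) (hr : r.Prime) (hpq : p ≠ q) (hpr : p ≠ r) (hqr : q ≠ r) (X Q V : Subgroup G) (hX : Nat.card X = r) (hQ : IsPGroup q Q) (hXQ : X ≤ Subgroup.normalizer (Q : Set G)) (hXfaith : X ⊓ Subgroup.centralizer (Q : Set G) = ⊥) (hV : Cfsg.IsElementaryAbelian p V) (hV1 : V ≠ ⊥) (hXV : X ≤ Subgroup.normalizer (V : Set G)) (hQV : Q ≤ Subgroup.normalizer (V : Set G)) (hfaith : (X ⊔ Q) ⊓ Subgroup.centralizer (V : Set G) = ⊥) (hexc : q = 2 → (∃ n : ℕ, r = 2 ^ n + 1) → IsMulCommutative Q) : V ⊓ Subgroup.centralizer (X : Set G) ≠ ⊥ := by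
  intro h
  have := Fact.mk hp; have := Fact.mk hq
  have := hV.1
  have hc : (Nat.card X).Coprime (Nat.card Q) := coprime_card_of_isPGroup hQ (hX ▸ (Nat.coprime_primes hr hq).2 hqr.symm)
  have hVp : IsPGroup p V := fun x => ⟨1, by rw [pow_one]; exact Subtype.ext (hV.2 x x.2)⟩
  have h1 : ⁅Q, X⁆ ≤ centralizer (V : Set G) := by
    by_cases hA : IsMulCommutative Q
    · refine (fpf_of_card_prime (hX ▸ hr) (eq_bot_iff.2 ((le_inf (le_inf (inf_le_left.trans (commutator_le_of_le_normalizer hXQ)) inf_le_right)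
        inf_le_left).trans (centralizer_inf_commutator_eq_bot hXQ hc).le))).le_centralizer (Core.le_normalizer_commutator hXQ le_normalizer)
        ((commutator_le_of_le_normalizer hXQ).trans hQV) hXV (coprime_card_of_isPGroup hVp ?_) h
      exact (coprime_card_of_isPGroup (hQ.to_le (commutator_le_of_le_normalizer hXQ)) ((Nat.coprime_primes hp hq).2 hpq)).symm
    refine commutator_le_centralizer_of_prime hXQ (hX ▸ hr) hc (isSolvable_of_isPGroup hVp) (sup_le hQV hXV) (coprime_card_of_isPGroup hVp ?_) h fun h2 h3 => hA ?_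
    · rw [card_sup_of_disjoint' hXQ (inf_eq_bot_of_coprime_card hc), hX]
      exact (coprime_card_of_isPGroup hQ ((Nat.coprime_primes hp hq).2 hpq)).symm.mul_left ((Nat.coprime_primes hr hp).2 hpr.symm)
    obtain ⟨k, hk⟩ := hQ.exists_card_eq
    rw [hX] at h2 h3
    obtain ⟨n, -, hn⟩ := (Nat.dvd_prime_pow hq).1 (hk ▸ h3)
    obtain rfl : 2 = q := (Nat.prime_dvd_prime_iff_eq Nat.prime_two hq).1 (Nat.prime_two.dvd_of_dvd_pow (hn ▸ (hr.even_sub_one h2.ne').two_dvd))
    exact hexc rfl ⟨n, by omega⟩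
  have h2 := commutator_eq_bot_iff_le_centralizer.1 ((Subgroup.commutator_comm X Q).trans (eq_bot_iff.2 ((le_inf
    ((commutator_le_of_le_normalizer hXQ).trans le_sup_right) h1).trans hfaith.le)))
  rw [inf_eq_left.2 h2] at hXfaith
  exact hr.ne_one (by rw [← hX, hXfaith, card_bot])

end Cfsg.Agent.S3765
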