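import Cfsg.Statements.S3766
import Cfsg.Agent.Lib.BG1.Sec1

set_option autoImplicit false
open Cfsg

namespace Cfsg.Agent.S3766

open Cfsg.Lib Cfsg.Lib.BG1 Cfsg.Lib.Core
open scoped commutatorElement

/-- Let G be a finite solvable group and N a normal subgroup of G. Call a pair V < U of normal subgroups of G a chief factor of G when no normal subgroup of G lies strictly between them; an element g centralizes the chief factor U/V when u g u⁻¹ g⁻¹ ∈ V for all u ∈ U. Then an element of G lies in the Fitting subgroup F(N) if and only if it lies in N and centralizes every chief factor of G; and also if and only if it lies in N and centralizes every chief factor U/V of G with U ≤ F(N). -/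
theorem result {G : Type*} [Group G] [Finite G] (hG : Group.IsSolvable G) (N : Subgroup G) [N.Normal] (g : G) : (g ∈ (Cfsg.fittingSubgroup ↥N).map N.subtype ↔ g ∈ N ∧ ∀ U V : Subgroup G, (U.Normal ∧ V.Normal ∧ V < U ∧ ∀ W : Subgroup G, W.Normal → V ≤ W → W ≤ U → W = V ∨ W = U) → ∀ u ∈ U, u * g * u⁻¹ * g⁻¹ ∈ V) ∧ (g ∈ (Cfsg.fittingSubgroup ↥N).map N.subtype ↔ g ∈ N ∧ ∀ U V : Subgroup G, (U.Normal ∧ V.Normal ∧ V < U ∧ ∀ W : Subgroup G, W.Normal → V ≤ W → W ≤ U → W = V ∨ W = U) → U ≤ (Cfsg.fittingSubgroup ↥N).map N.subtype → ∀ u ∈ U, u * g * u⁻¹ * g⁻¹ ∈ V) := by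
  have hn : ∀ {U : Subgroup G}, (⊤ : Subgroup G) ≤ Subgroup.normalizer (U : Set G) ↔ U.Normal :=
    fun {U} => by rw [top_le_iff, Subgroup.normalizer_eq_top_iff]
  have hc : ∀ U V : Subgroup G, ChiefFactor ⊤ V U ↔ (U.Normal ∧ V.Normal ∧ V < U ∧
      ∀ W : Subgroup G, W.Normal → V ≤ W → W ≤ U → W = V ∨ W = U) := fun U V =>
    ⟨fun h => ⟨hn.1 h.2.2.2.1, hn.1 h.2.2.1, h.1, fun W h1 h2 h3 => h.2.2.2.2 W h2 h3 (hn.2 h1)⟩,
      fun h => ⟨h.2.2.1, le_top, hn.2 h.2.1, hn.2 h.1, fun W h2 h3 h1 => h.2.2.2 W (hn.1 h1) h2 h3⟩⟩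
  have h1 : g ∈ (Cfsg.fittingSubgroup ↥N).map N.subtype → ∀ U V : Subgroup G, ChiefFactor ⊤ V U →
      ∀ u ∈ U, u * g * u⁻¹ * g⁻¹ ∈ V := fun hg U V h u hu => by
    have h2 := commutator_fittingOf_le_of_chief h
    rw [fittingOf_top] at h2
    exact h2 (Subgroup.commutator_mem_commutator hu (fittingOf_le_fitting N hg))
  have h2 : g ∈ N → (∀ U V : Subgroup G, ChiefFactor ⊤ V U →
      U ≤ (Cfsg.fittingSubgroup ↥N).map N.subtype → ∀ u ∈ U, u * g * u⁻¹ * g⁻¹ ∈ V) →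
      g ∈ (Cfsg.fittingSubgroup ↥N).map N.subtype := fun hg h => by
    refine le_fittingOf_of_chief (H := ⊤) (X := Subgroup.zpowers g) inferInstance le_top
      (hn.2 inferInstance) (Subgroup.zpowers_le.2 hg) (fun V U h3 h4 => ?_) (Subgroup.mem_zpowers g)
    have := hn.1 h3.2.2.1
    rw [← QuotientGroup.ker_mk' V, ← Subgroup.map_eq_bot_iff, Subgroup.map_commutator,
      Subgroup.commutator_comm, Subgroup.commutator_eq_bot_iff_le_centralizer, MonoidHom.map_zpowers,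
      Subgroup.zpowers_le, Subgroup.mem_centralizer_iff]
    rintro _ ⟨u, hu, rfl⟩
    rw [← commutatorElement_eq_one_iff_mul_comm, ← map_commutatorElement]
    exact (QuotientGroup.eq_one_iff _).2 (h U V h3 h4 u hu)
  exact ⟨⟨fun h => ⟨Subgroup.map_subtype_le _ h, fun U V h3 => h1 h U V ((hc U V).2 h3)⟩,
      fun h => h2 h.1 fun U V h3 _ => h.2 U V ((hc U V).1 h3)⟩,
    ⟨fun h => ⟨Subgroup.map_subtype_le _ h, fun U V h3 _ => h1 h U V ((hc U V).2 h3)⟩,
      fun h => h2 h.1 fun U V h3 => h.2 U V ((hc U V).1 h3)⟩⟩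

end Cfsg.Agent.S3766
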