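import Cfsg.Statements.S3767
import Cfsg.Agent.Lib.FG.ExtraChar

set_option autoImplicit false
open Cfsg

open Subgroup Cfsg.Lib
open scoped commutatorElement
open Coprime Clifford
namespace Cfsg.Agent.S3767

/-- Let P be an extraspecial p-group of order p^(2n+1) and H a cyclic group of order h prime to p acting on P (inside a common finite group: H normalizes P) so that C_P(x) = Z(P) for every non-identity x ∈ H. Then h divides p^n + 1 or h divides p^n − 1. -/
theorem result {G : Type*} [Group G] [Finite G] {p : ℕ} [Fact p.Prime] (P H : Subgroup G) (hP : Cfsg.IsExtraspecial p ↥P) (n : ℕ) (hn : Nat.card P = p ^ (2 * n + 1)) (hH : IsCyclic H) (hcop : (Nat.card H).Coprime p) (hHP : H ≤ Subgroup.normalizer (P : Set G)) (hfix : ∀ x ∈ H, x ≠ 1 → P ⊓ Subgroup.centralizer {x} = (Subgroup.center ↥P).map P.subtype) : Nat.card H ∣ p ^ n + 1 ∨ Nat.card H ∣ p ^ n - 1 := by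
  have hp := (Fact.out : p.Prime)
  have h := FG.xs_of hP
  set Z := (center P).map P.subtype
  have hN : Nrm (H ⊔ P) P := nrm_of_le_normalizer (sup_le hHP le_normalizer)
  have hZ : Z ≤ centralizer ((H ⊔ P : Subgroup G) : Set G) := by
    rw [Core.centralizer_sup]
    refine le_inf (fun z hz x hx => ?_) h.cent
    by_cases h1 : x = 1
    · simp [h1]
    · exact (mem_centralizer_singleton_iff.1 ((hfix x hx h1).ge hz).2).symm
  obtain ⟨θ, hθ, ht⟩ := h.exists_irr hp
  obtain ⟨χ, hχ, e⟩ := exists_ext_of_isCyclic rfl hN hθ (h.invOn hp hθ ht hN hZ)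
  have h1 := FG.dvd_of_norm_eq_one ((irrOn_of_mem hχ).charOn.mono le_sup_left) (fun a ha b hb => mul_comm_of_mem ha hb) fun x hx hx1 =>
    FG.norm_eq_one le_sup_right hN (irrOn_of_mem hχ).charOn (hθ.congr fun n hn => (e n hn).symm) (mem_sup_left hx)
      (coprime_card_of_isPGroup hP.1.1 (hcop.coprime_dvd_left (Subgroup.orderOf_dvd_natCard _ hx))) ((hfix x hx hx1).le.trans hZ)
  have h2 := h.deg_sq hp hθ ht
  rw [hn, pow_succ p, Nat.mul_left_inj hp.ne_zero, mul_comm, pow_mul, Nat.pow_left_inj two_ne_zero] at h2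
  rw [charDegree_of_eq ((e 1 P.one_mem).trans hθ.one_eq), h2] at h1
  zify [Nat.one_le_pow n p hp.pos]
  exact_mod_cast h1

end Cfsg.Agent.S3767
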