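import Cfsg.Statements.S3768
import Cfsg.Agent.Lib.Coprime.FrobKernel

set_option autoImplicit false
open Cfsg

namespace Cfsg.Agent.S3768

/-- Let G be a finite Frobenius group with Frobenius complement R and Frobenius kernel K (the identity together with the elements in no conjugate of R), and let N be a normal subgroup of G not containing K. Then G/N is a Frobenius group with Frobenius complement RN/N whose Frobenius kernel is the image of K. -/
theorem result {G : Type*} [Group G] [Finite G] (R : Subgroup G) (hR : Cfsg.IsFrobeniusComplement R) (N : Subgroup G) [N.Normal] (hKN : ¬ Cfsg.frobeniusKernel R ⊆ N) : Cfsg.IsFrobeniusComplement (R.map (QuotientGroup.mk' N)) ∧ Cfsg.frobeniusKernel (R.map (QuotientGroup.mk' N)) = QuotientGroup.mk' N '' Cfsg.frobeniusKernel R := by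
  obtain ⟨K, h1, hn, -, hK, h, hKR⟩ := Cfsg.Lib.Coprime.exists_frobKernel hR
  have hNK : N ≤ K := (h.le_or_le_of_normal hKR N).resolve_left fun hle => hKN (h1 ▸ hle)
  have hs := QuotientGroup.mk'_surjective N
  haveI : (K.map (QuotientGroup.mk' N)).Normal := hn.map _ hs
  have h' := h.map (QuotientGroup.mk' N) Subgroup.le_normalizer_of_normal
  have hsup : K.map (QuotientGroup.mk' N) ⊔ R.map (QuotientGroup.mk' N) = ⊤ := by
    rw [← Subgroup.map_sup, hKR, Subgroup.map_top_of_surjective _ hs]
  refine ⟨Cfsg.Lib.Coprime.isFrobeniusComplement_of_fpf h' hsup ?_ ?_, ?_⟩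
  · rw [Ne, Subgroup.map_eq_bot_iff, QuotientGroup.ker_mk']
    exact fun hle => hKN (h1 ▸ hle)
  · rw [Ne, Subgroup.map_eq_bot_iff, QuotientGroup.ker_mk']
    intro hle
    apply hR.1
    rw [eq_bot_iff, ← h.inf_eq_bot]
    exact le_inf (hle.trans hNK) le_rfl
  · rw [← Cfsg.Lib.Coprime.coe_eq_frobeniusKernel_of_fpf h' hsup, ← h1, Subgroup.coe_map]

end Cfsg.Agent.S3768
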