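import Cfsg.Statements.S3769
import Cfsg.Agent.Lib.BG1.Sec3c
import Cfsg.Agent.Lib.PGrp.Basic

set_option autoImplicit false
open Cfsg

namespace Cfsg.Agent.S3769

/-- Let G and V be subgroups of a finite group with G solvable of odd order normalizing V, V an elementary abelian ℓ-group for a prime ℓ not dividing the order of G, and suppose G has a normal Hall subgroup K with a complement R of prime order. If C_V(R) = 1, then [R, K] centralizes V. -/
theorem result {X : Type*} [Group X] [Finite X] (G : Subgroup X) (hsolv : Group.IsSolvable G) (hodd : Odd (Nat.card G)) (V : Subgroup X) {ℓ : ℕ} (hℓ : ℓ.Prime) (hV : Cfsg.IsElementaryAbelian ℓ V) (hℓG : ¬ ℓ ∣ Nat.card G) (hGV : G ≤ Subgroup.normalizer (V : Set X)) (K R : Subgroup X) (hKG : K ≤ G) (hKn : G ≤ Subgroup.normalizer (K : Set X)) (hHall : (Nat.card K).Coprime (K.relIndex G)) (hRG : R ≤ G) (hR : (Nat.card R).Prime) (hKR : K ⊓ R = ⊥) (hKRG : K ⊔ R = G) (hCV : V ⊓ Subgroup.centralizer (R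 : Set X) = ⊥) : ⁅R, K⁆ ≤ Subgroup.centralizer (V : Set X) := by
  subst hKRG
  have hn : R ≤ Subgroup.normalizer (K : Set X) := hRG.trans hKn
  have hcard := Cfsg.Lib.Coprime.card_sup_of_disjoint' hn hKR
  have hidx : K.relIndex (K ⊔ R) = Nat.card R :=
    Nat.eq_of_mul_eq_mul_left Nat.card_pos
      ((Cfsg.Lib.PGrp.card_mul_relIndex_of_le hKG).trans hcard)
  haveI : Fact ℓ.Prime := ⟨hℓ⟩
  have hVp : IsPGroup ℓ V := fun v => ⟨1, Subtype.ext (by simpa using hV.2 v v.2)⟩
  haveI := hV.1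
  have hcV : (Nat.card ↥(K ⊔ R)).Coprime (Nat.card V) :=
    Cfsg.Lib.Coprime.coprime_card_of_isPGroup hVp ((Nat.Prime.coprime_iff_not_dvd hℓ).2 hℓG).symm
  rw [Subgroup.commutator_comm]
  exact Cfsg.Lib.BG1.odd_prime_sdprod_cent hn (Cfsg.Lib.Coprime.isSolvable_of_le' hKG hsolv) hodd
    (hidx ▸ hHall.symm) hR (Cfsg.Lib.Coprime.isSolvable_of_isMulCommutative V) hGV hcV hCV

end Cfsg.Agent.S3769
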