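import Cfsg.Statements.S3770
import Cfsg.Agent.Lib.Coprime.FrobKernel
import Cfsg.Agent.Lib.BG1.Sec3c

set_option autoImplicit false
open Cfsg

namespace Cfsg.Agent.S3770

/-- Let G and V be subgroups of a finite group with G a Frobenius group with complement R of prime order and kernel K, G normalizing V, and V an elementary abelian ℓ-group for a prime ℓ not dividing the order of G. If C_V(R) has order ℓ, then the derived subgroup of K centralizes V. -/
theorem result {X : Type*} [Group X] [Finite X] (G : Subgroup X) (V : Subgroup X) {ℓ : ℕ} (hℓ : ℓ.Prime) (hV : Cfsg.IsElementaryAbelian ℓ V) (hℓG : ¬ ℓ ∣ Nat.card G) (hGV : G ≤ Subgroup.normalizer (V : Set X)) (R : Subgroup ↥G) (hR : Cfsg.IsFrobeniusComplement R) (hRp : (Nat.card R).Prime) (hCV : Nat.card ↥(V ⊓ Subgroup.centralizer ((R.map G.subtype : Subgroup X) : Set X)) = ℓ) : ⁅Subgroup.closure (Subtype.val '' Cfsg.frobeniusKernel R), Subgroup.closure (Subtype.val '' Cfsg.frobeniusKernel R)⁆ ≤ Subgroup.centralizer (V : Set X) := by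
  obtain ⟨K, h1, hn, -, hK, h, hKR⟩ := Cfsg.Lib.Coprime.exists_frobKernel hR
  have e : Subgroup.closure (Subtype.val '' Cfsg.frobeniusKernel R) = K.map G.subtype := by
    rw [← h1, ← Subgroup.closure_eq (K.map G.subtype), Subgroup.coe_map]; rfl
  rw [e]
  have h' := h.map_of_injective G.subtype_injective
  have hsup : K.map G.subtype ⊔ R.map G.subtype = G := by
    rw [← Subgroup.map_sup, hKR, ← MonoidHom.range_eq_map, Subgroup.range_subtype]
  have hRn : R.map G.subtype ≤ Subgroup.normalizer ((K.map G.subtype : Subgroup X) : Set X) :=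
    (Subgroup.map_mono Subgroup.le_normalizer_of_normal).trans (Subgroup.le_normalizer_map _)
  have hRc : Nat.card (R.map G.subtype) = Nat.card R :=
    Subgroup.card_map_of_injective G.subtype_injective
  have hR1 : R.map G.subtype ≠ ⊥ := by
    intro e; rw [e, Subgroup.card_bot] at hRc; exact hRp.one_lt.ne hRc
  haveI := Cfsg.Lib.BS.Fpf.nilpotent h' hRn hR1
  exact Cfsg.Lib.BG1.frob_prime_cent_prime hℓ hRn inferInstance (hRc ▸ hRp)
    (h'.inf_centralizer_eq_bot hR1) hV (hsup.symm ▸ hGV) (hsup.symm ▸ hℓG) hCV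

end Cfsg.Agent.S3770
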