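import Cfsg.Statements.S3772
import Cfsg.Agent.Lib.FG.Quad
import Cfsg.Agent.Lib.KS9.Plane

set_option autoImplicit false
open Cfsg

open Subgroup Cfsg.Lib
open scoped commutatorElement
namespace Cfsg.Agent.S3772

/-- Let G be a finite 2-group whose Frattini subgroup Φ(G) has order 2, with |G : Φ(G)| = 2^d, and let j be the number of elements x of G with x² = 1. Then j = 2^d, or j = 2^d + 2^(d−r) or j = 2^d − 2^(d−r) for some positive integer r with 2r ≤ d. Moreover if d = 2r and j is 2^d + 2^r or 2^d − 2^r, then G is extraspecial. -/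
theorem result {G : Type*} [Group G] [Finite G] (hG : IsPGroup 2 G) (hΦ : Nat.card (frattini G) = 2) (d : ℕ) (hd : (frattini G).index = 2 ^ d) : (Nat.card {x : G // x ^ 2 = 1} = 2 ^ d ∨ ∃ r : ℕ, 1 ≤ r ∧ 2 * r ≤ d ∧ (Nat.card {x : G // x ^ 2 = 1} = 2 ^ d + 2 ^ (d - r) ∨ Nat.card {x : G // x ^ 2 = 1} + 2 ^ (d - r) = 2 ^ d)) ∧ (∀ r : ℕ, d = 2 * r → (Nat.card {x : G // x ^ 2 = 1} = 2 ^ d + 2 ^ r ∨ Nat.card {x : G // x ^ 2 = 1} + 2 ^ r = 2 ^ d) → Cfsg.IsExtraspecial 2 G) := by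
  have hc : Nat.card G = 2 ^ (d + 1) := by rw [← (frattini G).card_mul_index, hΦ, hd, pow_succ']
  have hZ : frattini G ≤ center G := PGrp.le_center_of_card_eq hG _ hΦ
  obtain ⟨k, hk⟩ := (hG.to_subgroup (center G)).exists_card_eq
  have k1 : 1 ≤ k := by have := card_le_of_le hZ; rw [hΦ, hk] at this; by_contra e; simp [show k = 0 by omega] at this
  have key := FG.card_sq_eq_one hG hΦ
  generalize Nat.card {x : G // x ^ 2 = 1} = j at key ⊢
  rw [hc, hk] at key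
  refine ⟨?_, fun r hr e => ?_⟩
  · rcases key with e | ⟨e, e'⟩
    · exact .inl (by omega)
    have k2 : k < d + 1 := (Nat.pow_lt_pow_iff_right one_lt_two).1 (hk ▸ hc ▸ Core.card_lt_of_ne_top fun e => by
      rw [(Core.frattini_eq_bot_iff_of_isPGroup hG).2 ⟨center_eq_top_iff.1 e, fun x => e' x (e.ge trivial)⟩, card_bot] at hΦ; omega)
    rw [← Nat.cast_mul, ← pow_add, ← Int.natAbs_sq, ← Nat.cast_pow, Nat.cast_inj] at e
    obtain ⟨m, -, hm⟩ := (Nat.dvd_prime_pow Nat.prime_two).1 (e ▸ dvd_pow_self _ two_ne_zero)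
    rw [hm, ← pow_mul, Nat.pow_right_inj one_lt_two] at e
    refine .inr ⟨d + 1 - m, by omega, by omega, ?_⟩
    obtain ⟨m, rfl⟩ : ∃ n, m = n + 1 := ⟨m - 1, by omega⟩
    rw [show d - (d + 1 - (m + 1)) = m by omega]
    rw [pow_succ, pow_succ] at hm
    omega
  have p := Nat.two_pow_pos r
  obtain ⟨e1, -⟩ := key.resolve_left (by omega)
  have e2 : (2 * j - (2 ^ (d + 1) : ℕ) : ℤ) ^ 2 = (2 ^ (d + 1) : ℕ) * 2 := by
    have : (2 * j - (2 ^ (d + 1) : ℕ) : ℤ) = 2 * (2 ^ r : ℕ) ∨ (2 * j - (2 ^ (d + 1) : ℕ) : ℤ) = -(2 * (2 ^ r : ℕ)) := by omega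
    rcases this with e | e <;> rw [e, hr] <;> push_cast <;> ring
  have e3 : Nat.card (center G) = 2 := by rw [hk]; exact_mod_cast mul_left_cancel₀ (by positivity) (e1.symm.trans e2)
  have e4 := eq_of_le_of_card_ge hZ (e3.trans hΦ.symm).le
  refine ⟨⟨hG, e4, e4 ▸ ((KS9.eq_bot_or_eq_of_card hΦ (Core.commutator_le_frattini_of_isPGroup hG)).resolve_left fun e => ?_)⟩, e3⟩
  rw [center_eq_top_iff.2 ((commutator_eq_bot_iff G).1 e), card_top, hc, pow_succ] at e3
  obtain rfl : d = 0 := by simpa using e3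
  rw [pow_zero, index_eq_one] at hd
  rw [hd, ← frattini_nongenerating (K := (⊥ : Subgroup G)) (by simpa using hd), card_bot] at hΦ
  omega

end Cfsg.Agent.S3772
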