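import Cfsg.Statements.S3773
import Cfsg.Agent.Lib.FG.Quad

set_option autoImplicit false
open Cfsg

open Subgroup Cfsg.Lib
open scoped commutatorElement
namespace Cfsg.Agent.S3773

/-- Let G be a finite 2-group of nilpotency class at most 2 and exponent dividing 4 in which the elements x with x² = 1 form a subgroup N. Then |G| ≤ |N|³, and |G| < |N|³ unless G is special. -/
theorem result {G : Type*} [Group G] [Finite G] (hG : IsPGroup 2 G) (hcl : (⊤ : Subgroup G).lowerCentralSeries 2 = ⊥) (hexp : ∀ x : G, x ^ 4 = 1) (hN : ∀ x y : G, x ^ 2 = 1 → y ^ 2 = 1 → (x * y) ^ 2 = 1) : Nat.card G ≤ Nat.card {x : G // x ^ 2 = 1} ^ 3 ∧ (¬ Cfsg.IsSpecial 2 G → Nat.card G < Nat.card {x : G // x ^ 2 = 1} ^ 3) := by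
  obtain ⟨N, hN'⟩ : ∃ N : Subgroup G, ∀ x, x ∈ N ↔ x ^ 2 = 1 := ⟨⟨⟨⟨{x | x ^ 2 = 1}, hN _ _⟩, one_pow 2⟩, fun h => by simpa using h⟩, fun _ => .rfl⟩
  rw [← Nat.card_congr (Equiv.subtypeEquivRight hN')]
  have := FG.card_le_cube hG (fun x hx => mem_center_iff.2 fun g => (commutatorElement_eq_one_iff_mul_comm.1
    (mem_bot.1 (hcl.le (commutator_mem_commutator hx (mem_top g))))).symm) hexp hN'
  exact ⟨this.1, fun h => not_le.1 (mt this.2 h)⟩

end Cfsg.Agent.S3773
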