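import Cfsg.Statements.S3774
import Cfsg.Agent.Lib.PGrp.Critical

set_option autoImplicit false
open Cfsg

open Subgroup Cfsg.Lib
open scoped commutatorElement
namespace Cfsg.Agent.S3774

/-- Let G be a nontrivial finite 2-group whose automorphism group permutes the involutions of G transitively. Then every involution of G is central, so that the involutions together with 1 form the subgroup Ω₁(Z(G)), and if this subgroup has order q then |G| is a power of q. -/
theorem result {G : Type*} [Group G] [Finite G] [Nontrivial G] (hG : IsPGroup 2 G) (htrans : ∀ x y : G, x ≠ 1 → x ^ 2 = 1 → y ≠ 1 → y ^ 2 = 1 → ∃ a : MulAut G, a x = y) : (∀ x : G, x ^ 2 = 1 → x ∈ Subgroup.center G) ∧ ∃ m : ℕ, Nat.card G = Nat.card {z : G // z ^ 2 = 1} ^ m := by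
  classical
  have : Fact (Nat.Prime 2) := ⟨Nat.prime_two⟩
  have := Fintype.ofFinite G
  obtain ⟨z, -, hz, hz2⟩ := PGrp.exists_central_orderOf_eq hG ⊤ top_ne_bot
  obtain ⟨hz2, hz1⟩ := orderOf_eq_prime_iff.1 hz2
  have h1 : ∀ x : G, x ^ 2 = 1 → x ∈ center G := fun x hx => by
    by_cases h : x = 1
    · exact h ▸ one_mem _
    obtain ⟨a, rfl⟩ := htrans z x hz1 hz2 h hx
    exact PGrp.apply_mem_of_characteristic a hz
  refine ⟨h1, ?_⟩
  obtain ⟨k, hk⟩ := PGrp.exists_card_eq_pow hG (omegaOne 2 (center G))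
  rw [Nat.card_congr (Equiv.subtypeEquivRight (q := fun z : G => z ^ 2 = 1) fun x => ⟨PGrp.pow_eq_one_of_mem_omegaOne_of_comm inferInstance x,
    fun h => PGrp.mem_omegaOne_of_pow (h1 x h) h⟩)] at hk
  obtain ⟨n, hn⟩ := IsPGroup.iff_card.1 hG
  let f : G → G := fun x => x ^ (orderOf x / 2)
  have hf (a : MulAut G) (x : G) : f (a x) = a (f x) := by simp [f]
  have h2 : (Finset.univ.erase (1 : G)).card = ∑ t ∈ (Finset.univ.filter (· ^ 2 = 1)).erase (1 : G), ((Finset.univ.erase (1 : G)).filter (f · = t)).card := by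
    refine Finset.card_eq_sum_card_fiberwise fun x hx => ?_
    obtain ⟨j, hj⟩ := IsPGroup.iff_orderOf.1 hG x
    have hx1 : orderOf x ≠ 1 := by simpa using hx
    obtain _ | j := j
    · exact absurd hj hx1
    simp only [f, Finset.coe_erase, Finset.coe_filter, Set.mem_diff, Set.mem_setOf_eq, Finset.mem_univ, true_and, Set.mem_singleton_iff,
      ← pow_mul, hj, pow_succ 2 j, Nat.mul_div_cancel _ two_pos]
    simp only [← orderOf_dvd_iff_pow_eq_one, hj, pow_succ 2 j]
    exact ⟨dvd_rfl, fun h => by have := Nat.le_of_dvd (by positivity) h; have := Nat.two_pow_pos j; omega⟩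
  rw [Finset.sum_const_nat (m := ((Finset.univ.erase (1 : G)).filter (f · = z)).card) fun t ht => by
    obtain ⟨a, rfl⟩ := htrans z t hz1 hz2 (Finset.ne_of_mem_erase ht) (by simpa using Finset.mem_of_mem_erase ht)
    exact (Finset.card_equiv a.toEquiv fun x => by simp [hf]).symm, Finset.card_erase_of_mem (Finset.mem_univ _),
    Finset.card_erase_of_mem (by simp), Finset.card_univ, ← Nat.card_eq_fintype_card, hn, ← Fintype.card_subtype, ← Nat.card_eq_fintype_card, hk] at h2
  have h3 := Nat.gcd_eq_left (Dvd.intro _ h2.symm)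
  rw [Nat.pow_sub_one_gcd_pow_sub_one, tsub_left_inj (Nat.one_le_two_pow) Nat.one_le_two_pow, Nat.pow_right_inj one_lt_two] at h3
  obtain ⟨m, rfl⟩ := h3 ▸ Nat.gcd_dvd_right k n
  exact ⟨m, by rw [hn, hk, pow_mul]⟩

end Cfsg.Agent.S3774
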