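import Cfsg.Statements.S3775
import Cfsg.Agent.Lib.FG.Quad

set_option autoImplicit false
open Cfsg

open Subgroup Cfsg.Lib
open scoped commutatorElement
namespace Cfsg.Agent.S3775

/-- Let A be a finite abelian p-group and X a group of automorphisms of A of order prime to p. Call a subgroup of A invariant when every element of X maps it onto itself. Then the following are equivalent: (i) A is not the direct product of two nontrivial invariant subgroups; (ii) every invariant subgroup of A is one of the subgroups Ω_i(A) = {a : a^(p^i) = 1}; (iii) the subgroup Ω₁(A) of elements of order dividing p has no invariant subgroups other than 1 and itself. -/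
theorem result {A : Type*} [CommGroup A] [Finite A] {p : ℕ} [Fact p.Prime] (hA : IsPGroup p A) (X : Subgroup (MulAut A)) (hX : (Nat.card X).Coprime p) : ((¬ ∃ B C : Subgroup A, B ≠ ⊥ ∧ C ≠ ⊥ ∧ (∀ x ∈ X, B.map x.toMonoidHom = B) ∧ (∀ x ∈ X, C.map x.toMonoidHom = C) ∧ B ⊓ C = ⊥ ∧ B ⊔ C = ⊤) ↔ (∀ B : Subgroup A, (∀ x ∈ X, B.map x.toMonoidHom = B) → ∃ i : ℕ, ∀ a : A, a ∈ B ↔ a ^ p ^ i = 1)) ∧ ((∀ B : Subgroup A, (∀ x ∈ X, B.map x.toMonoidHom = B) → ∃ i : ℕ, ∀ a : A, a ∈ B ↔ a ^ p ^ i = 1) ↔ (∀ B : Subgroup A, (∀ x ∈ X, B.map x.toMonoidHom = B) → (∀ b ∈ B, b ^ p = 1) → B = ⊥ ∨ ∀ a : A, a ∈ B ↔ a ^ p = 1)) := by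
  simp only [FG.invBy_iff]
  have h1 : (∀ B : Subgroup A, FG.InvBy X B → ∃ i : ℕ, ∀ a, a ∈ B ↔ a ^ p ^ i = 1) ↔
      ∀ B : Subgroup A, FG.InvBy X B → (∀ b ∈ B, b ^ p = 1) → B = ⊥ ∨ ∀ a, a ∈ B ↔ a ^ p = 1 := by
    refine ⟨fun h B hB e => ?_, fun h B => FG.omega_of_irr hA h⟩
    obtain ⟨_ | i, hi⟩ := h B hB
    exacts [.inl (eq_bot_iff.2 fun a ha => by simpa using (hi a).1 ha), .inr fun a => ⟨e a, fun e => (hi a).2 (by rw [pow_succ', pow_mul, e, one_pow])⟩]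
  refine ⟨⟨fun h => h1.2 fun B => FG.irr_of_indec hA hX fun B C a b c d => by_contra fun e => h ⟨B, C, (not_or.1 e).1, (not_or.1 e).2, a, b, c, d⟩,
    fun h ⟨B, C, a, b, c, d, e, _⟩ => ?_⟩, h1⟩
  obtain ⟨i, hi⟩ := h B c
  obtain ⟨j, hj⟩ := h C d
  rcases le_total i j with k | k <;> obtain ⟨k, rfl⟩ := Nat.exists_eq_add_of_le k
  · exact a (eq_bot_iff.2 fun x hx => e.le ⟨hx, (hj x).2 (by rw [pow_add, pow_mul, (hi x).1 hx, one_pow])⟩)
  · exact b (eq_bot_iff.2 fun x hx => e.le ⟨(hi x).2 (by rw [pow_add, pow_mul, (hj x).1 hx, one_pow]), hx⟩)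

end Cfsg.Agent.S3775
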