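import Cfsg.Statements.S3776
import Cfsg.Agent.Lib.Sz2.E
import Cfsg.Agent.S3774
import Cfsg.Agent.Lib.Hall.HallThm
-- import your own Cfsg.Agent.* helpers here

set_option autoImplicit false
open Cfsg

namespace Cfsg.Agent.S3776

open Subgroup Cfsg.Lib Cfsg.Lib.BS Cfsg.Lib.Sz2 Cfsg.Lib.Invol Cfsg.Lib.Coprime

/-- Let G be a finite non-abelian 2-group with more than one involution admitting a solvable group of automorphisms that permutes its involutions transitively. Then the derived subgroup, the Frattini subgroup and the centre of G coincide and consist exactly of the elements x with x² = 1. -/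
theorem result {G : Type*} [Group G] [Finite G] (hG : IsPGroup 2 G) (hna : ¬ IsMulCommutative G) (htwo : ∃ x y : G, x ≠ y ∧ x ≠ 1 ∧ x ^ 2 = 1 ∧ y ≠ 1 ∧ y ^ 2 = 1) (hY : ∃ Y : Subgroup (MulAut G), Group.IsSolvable Y ∧ ∀ x y : G, x ≠ 1 → x ^ 2 = 1 → y ≠ 1 → y ^ 2 = 1 → ∃ a ∈ Y, a x = y) : commutator G = frattini G ∧ frattini G = Subgroup.center G ∧ ∀ x : G, x ∈ Subgroup.center G ↔ x ^ 2 = 1 := by
  haveI := fact_two
  obtain ⟨a, b, hab, a1, a2, b1, b2⟩ := htwo
  obtain ⟨Y, hs, ht⟩ := hY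
  haveI : Nontrivial G := ⟨⟨a, b, hab⟩⟩
  have hc := (Cfsg.Agent.S3774.result hG fun x y h1 h2 h3 h4 =>
    (ht x y h1 h2 h3 h4).imp fun _ h => h.2).1
  let Z : Subgroup G :=
    { carrier := {u | u ^ 2 = 1}
      one_mem' := one_pow 2
      mul_mem' := fun {u v} hu hv => by
        rw [Set.mem_ofPred_eq, (PGrp.commute_of_mem_center (hc u hu) v).mul_pow, hu, hv, one_mul]
      inv_mem' := fun {u} hu => by rw [Set.mem_ofPred_eq, inv_pow, hu, inv_one] }
  have hZ : ∀ {u}, u ∈ Z ↔ u * u = 1 := fun {u} => sq u ▸ Iff.rfl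
  have hb : 2 < Nat.card Z := by
    haveI := Fintype.ofFinite Z
    rw [Nat.card_eq_fintype_card]
    exact Fintype.two_lt_card_iff.mpr ⟨1, ⟨a, a2⟩, ⟨b, b2⟩, fun e => a1 (congrArg Subtype.val e).symm,
      fun e => b1 (congrArg Subtype.val e).symm, fun e => hab (congrArg Subtype.val e)⟩
  obtain ⟨X, hXY, h1, h2⟩ := Hall.exists_isPiHallOf {2}ᶜ Y
  have hX : Odd (Nat.card X) := Nat.not_even_iff_odd.mp fun e => h1 2 Nat.prime_two e.two_dvd rfl
  have ht' : ∀ x y : G, x ∈ Z → y ∈ Z → x ≠ 1 → y ≠ 1 → ∃ g ∈ X, g x = y := fun x y hx hy x1 y1 => by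
    have h3 : MulAction.orbit Y x = (Z : Set G) \ {1} := Set.ext fun w => ⟨by
      rintro ⟨g, rfl⟩
      exact ⟨show (g : MulAut G) x ^ 2 = 1 by rw [← map_pow, show x ^ 2 = 1 from hx, map_one],
        fun e => x1 ((map_eq_one_iff _ (g : MulAut G).injective).mp e)⟩, fun hw => by
      obtain ⟨g, hg, e⟩ := ht x w x1 hx hw.2 hw.1
      exact ⟨⟨g, hg⟩, e⟩⟩
    have h4 : (MulAction.stabilizer (MulAut G) x).relIndex Y = Nat.card Z - 1 := by
      have := Set.ncard_diff_singleton_of_mem (s := (Z : Set G)) (one_mem Z)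
      rw [← h3, ← MulAction.index_stabilizer] at this
      exact this
    obtain ⟨k, hk⟩ := PGrp.exists_card_eq_pow hG Z
    obtain ⟨g, hg, rfl⟩ := ht x y x1 hx y1 hy
    obtain ⟨u, hu, c, hc, rfl⟩ := exists_mul_of_relIndex_eq hXY (relIndex_eq_of_coprime
      (S := MulAction.stabilizer (MulAut G) x) hXY (Nat.coprime_of_dvd fun p hp d1 d2 => by
        obtain rfl : p = 2 := by_contra fun e => h2 p hp e d2
        rw [h4, hk] at d1
        have : 2 ∣ 2 ^ k := dvd_pow_self 2 (by rintro rfl; omega)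
        omega)) hg
    exact ⟨u, hu, by rw [MulAut.mul_apply, show c x = x from hc]⟩
  obtain ⟨Γ, _, _, i, j, hA, -, -⟩ := exists_ambient X.subtype
  have h : TR ((⊤ : Subgroup G).map i) (Z.map i) ((⊤ : Subgroup X).map j) :=
    ⟨(hG.to_subgroup ⊤).map i, hA.le_normalizer_top ⊤, by rwa [hA.card_map_j, card_top],
      ⟨by rintro ⟨u, hu, rfl⟩; exact ⟨⟨u, trivial, rfl⟩, by rw [← map_mul, hZ.mp hu, map_one]⟩, by
        rintro ⟨⟨u, -, rfl⟩, hu⟩; exact ⟨u, hZ.mpr (hA.inj_i (by simpa using hu)), rfl⟩⟩,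
      by rintro _ ⟨u, hu, rfl⟩ _ ⟨g, -, rfl⟩; exact (PGrp.commute_of_mem_center (hc u hu) g).map i, by
      rintro _ ⟨x, hx, rfl⟩ _ ⟨y, hy, rfl⟩ x1 y1
      obtain ⟨g, hg, rfl⟩ := ht' x y hx hy (fun e => x1 (by simp [e])) fun e => y1 (by simp [e])
      exact ⟨j ⟨g, hg⟩, ⟨_, trivial, rfl⟩, hA.conj _ _⟩⟩
  have hna' : ¬ IsMulCommutative ((⊤ : Subgroup G).map i) := fun e => hna ⟨⟨fun x y => hA.inj_i (by
    simpa using PGrp.comm_of_mem e ⟨x, trivial, rfl⟩ ⟨y, trivial, rfl⟩)⟩⟩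
  have hq := h.main (eq_bot_iff.mpr (by
    rintro _ ⟨⟨d, -, rfl⟩, hd⟩
    have : d = 1 := Subtype.ext (MulEquiv.ext fun e =>
      (hA.mul_comm_iff d e).mp (hd _ (mem_map_of_mem i (mem_top e))).symm)
    simp [this])) (by rwa [hA.card_map_i]) hna'
  have e1 : center G = Z := le_antisymm (fun z hz => hA.mem_map.mp (h.cent_le hq hna' ⟨z, trivial, rfl⟩ (by
    rintro _ ⟨g, -, rfl⟩; exact (PGrp.commute_of_mem_center hz g).map i))) hc
  have e2 : commutator G = Z := by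
    rw [← hA.map_inj, _root_.commutator_def, map_commutator]
    exact le_antisymm ((comm_le_sqg _).trans hq) (h.le_of_ne_bot ((comm_le_sqg _).trans (sqg_le _))
      (norm_comm h.norm h.norm) fun e => hna' (PGrp.isMulCommutative_iff_forall.mpr fun x hx y hy =>
        commutator_eq_bot_iff_le_centralizer.mp e hy x hx))
  have e3 : frattini G = Z := le_antisymm (PGrp.frattini_le hG Z e2.le fun x => hA.mem_map.mp (by
    rw [sq, map_mul]; exact hq (sq_mem_sqg ⟨x, trivial, rfl⟩))) (e2 ▸ PGrp.commutator_le_frattini hG)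
  exact ⟨e2.trans e3.symm, e3.trans e1.symm, fun x => e1 ▸ Iff.rfl⟩

end Cfsg.Agent.S3776
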