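import Cfsg.Statements.S3778
import Cfsg.Agent.Lib.PGrp.Cyclic

set_option autoImplicit false
open Cfsg

open Subgroup Cfsg.Lib
open scoped commutatorElement
namespace Cfsg.Agent.S3778

/-- If G is a finite p-group in which every conjugacy class has at most p^b elements (every element has centralizer of index at most p^b), then G is abelian when b = 0, and when b ≥ 1 its nilpotency class c satisfies (c − 1)(p − 1) < bp, that is c < bp/(p − 1) + 1, and hence c ≤ 2b. -/
theorem result {G : Type*} [Group G] [Finite G] {p : ℕ} [Fact p.Prime] (hG : IsPGroup p G) (b : ℕ) (hb : ∀ x : G, (Subgroup.centralizer ({x} : Set G)).index ≤ p ^ b) : ∃ c : ℕ, (⊤ : Subgroup G).lowerCentralSeries c = ⊥ ∧ (b ≠ 0 → (c - 1) * (p - 1) < b * p ∧ c ≤ 2 * b) ∧ (b = 0 → c ≤ 1) := by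
  classical
  have hp := (Fact.out : p.Prime)
  have := Fintype.ofFinite G
  have := hG.isNilpotent
  set L := (⊤ : Subgroup G).lowerCentralSeries with hL
  let K (j : ℕ) : Subgroup G := (centralizer ((L j).map (QuotientGroup.mk' (L (j + 2))) : Set _)).comap (QuotientGroup.mk' (L (j + 2)))
  let C (x : G) (i : ℕ) : Subgroup G := (centralizer {(x : G ⧸ L i)}).comap (QuotientGroup.mk' (L i))
  have hq (i : ℕ) (g x : G) : (g : G ⧸ L i) * x = x * g ↔ ⁅g, x⁆ ∈ L i := by
    rw [← QuotientGroup.eq_one_iff, ← commutatorElement_eq_one_iff_mul_comm]; rfl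
  have hK (j : ℕ) (x : G) : x ∈ K j ↔ ∀ g ∈ L j, ⁅g, x⁆ ∈ L (j + 2) := by simp [K, mem_centralizer_iff, hq]
  have hC (x : G) (i : ℕ) (g : G) : g ∈ C x i ↔ ⁅g, x⁆ ∈ L i := by simp [C, mem_centralizer_singleton_iff, hq]
  have h1 (x : G) (i : ℕ) : p ^ ((Finset.range i).filter (x ∉ K ·)).card * Nat.card (C x (i + 1)) ≤ Nat.card G := by
    induction i with
    | zero => simpa using card_le_card_group (C x 1)
    | succ i ih =>
      have h2 : C x (i + 2) ≤ C x (i + 1) := fun g hg => (hC _ _ _).2 (Subgroup.lowerCentralSeries_antitone _ (Nat.le_succ _) ((hC _ _ _).1 hg))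
      rw [Finset.range_add_one, Finset.filter_insert]
      split_ifs with h
      · exact (Nat.mul_le_mul_left _ (card_le_of_le h2)).trans ih
      · rw [Finset.card_insert_of_notMem (by simp), pow_succ, mul_assoc]
        refine (Nat.mul_le_mul_left _ (PGrp.mul_card_le_of_lt (hG.to_subgroup _) (lt_of_le_of_ne h2 fun e => h ((hK _ _).2 fun g hg => ?_)))).trans ih
        exact (hC _ _ _).1 (e.ge ((hC _ _ _).2 (commutator_mem_commutator hg (mem_top x))))
  set c := Group.nilpotencyClass G
  have hc : L c = ⊥ := Subgroup.lowerCentralSeries_nilpotencyClass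
  have h2 (x : G) : ((Finset.range (c - 1)).filter (x ∉ K ·)).card ≤ b := by
    have h3 : centralizer {x} = C x (c - 1 + 1) := by
      ext g
      rw [hC, hL, le_bot_iff.1 ((Subgroup.lowerCentralSeries_antitone ⊤ (by omega : c ≤ c - 1 + 1)).trans hc.le), mem_bot, commutatorElement_eq_one_iff_mul_comm,
        mem_centralizer_singleton_iff]
    have h4 := h1 x (c - 1)
    rw [← h3, ← (centralizer {x}).index_mul_card] at h4
    exact (Nat.pow_le_pow_iff_right hp.one_lt).1 ((Nat.le_of_mul_le_mul_right h4 Nat.card_pos).trans (hb x))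
  have h3 : ∀ j ∈ Finset.range (c - 1), (p - 1) * Nat.card G ≤ p * (Finset.univ.filter (· ∉ K j)).card := fun j hj => by
    have h4 : K j < ⊤ := lt_top_iff_ne_top.2 fun e => (PGrp.commutator_top_lt hG (L (j + 1)) fun e' => by
      have := Subgroup.lowerCentralSeries_eq_bot_iff_nilpotencyClass_le.1 e'
      have := Finset.mem_range.1 hj
      omega).not_ge (commutator_le.2 fun g hg x _ => (hK j x).1 (e.ge (mem_top x)) g hg)
    have h5 := PGrp.mul_card_le_of_lt (hG.to_subgroup _) h4
    have h6 := Finset.card_filter_add_card_filter_not (s := Finset.univ) (· ∈ K j)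
    rw [← Fintype.card_subtype, ← Nat.card_eq_fintype_card, Finset.card_univ, ← Nat.card_eq_fintype_card] at h6
    rw [card_top] at h5
    rw [Nat.sub_mul, one_mul]
    have : Nat.card {x // x ∈ K j} = Nat.card (K j) := rfl
    nlinarith [Nat.sub_add_cancel (Nat.le_mul_of_pos_left (Nat.card G) hp.pos)]
  have h4 := Finset.card_nsmul_le_sum _ _ _ h3
  have h5 : ∑ j ∈ Finset.range (c - 1), (Finset.univ.filter (· ∉ K j)).card ≤ (Nat.card G - 1) * b := by
    simp only [Finset.card_filter] at h2 ⊢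
    rw [Finset.sum_comm, ← Finset.sum_erase (a := 1) _ (by simp), Nat.card_eq_fintype_card, ← Finset.card_univ,
      ← Finset.card_erase_of_mem (Finset.mem_univ 1)]
    exact Finset.sum_le_card_nsmul _ _ _ fun x _ => h2 x
  rw [← Finset.mul_sum, Finset.card_range, smul_eq_mul] at h4
  have h6 := h4.trans (Nat.mul_le_mul_left _ h5)
  obtain ⟨n, hn⟩ := Nat.exists_eq_add_one_of_ne_zero (Nat.card_pos (α := G)).ne'
  obtain ⟨q, rfl⟩ := Nat.exists_eq_add_of_le' hp.two_le
  rw [hn] at h6
  simp only [Nat.add_one_sub_one, show q + 2 - 1 = q + 1 from rfl] at h6 ⊢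
  refine ⟨c, hc, fun h => ?_, fun h => ?_⟩
  · have h7 : (c - 1) * (q + 1) < b * (q + 2) := lt_of_mul_lt_mul_right (a := n + 1) (by nlinarith [Nat.pos_of_ne_zero h]) (Nat.zero_le _)
    refine ⟨h7, ?_⟩
    have : c - 1 < 2 * b := lt_of_mul_lt_mul_right (a := q + 1) (by nlinarith) (Nat.zero_le _)
    omega
  · simp [h] at h6
    omega

end Cfsg.Agent.S3778
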