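import Cfsg.Statements.S3780
import Cfsg.Agent.Lib.PGrp.MaxClass
import Cfsg.Agent.S0014

set_option autoImplicit false
open Cfsg

namespace Cfsg.Agent.S3780

open Cfsg.Lib in

/-- Let V be a finite abelian p-group and α an automorphism of V of order p whose fixed-point subgroup has order p^n. Then V can be generated by pn elements: some subset of V with at most pn elements generates V. -/
theorem result {V : Type*} [CommGroup V] [Finite V] {p : ℕ} [Fact p.Prime] (hV : IsPGroup p V) (α : MulAut V) (hα : orderOf α = p) (n : ℕ) (hfix : Nat.card {v : V // α v = v} = p ^ n) : ∃ S : Finset V, S.card ≤ p * n ∧ Subgroup.closure (S : Set V) = ⊤ := by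
  classical
  have hp : p.Prime := Fact.out
  let a : AddMonoid.End (Additive V) := MonoidHom.toAdditive α.toMonoidHom
  have ha : ∀ k (v : Additive V), (a ^ k) v = Additive.ofMul ((α ^ k) v.toMul) := fun k => by
    induction k with
    | zero => intro v; rfl
    | succ k ih => intro v; rw [pow_succ, pow_succ]; exact ih _
  have h1 := PGrp.card_le_card_ker_pow (a + -1) p (powMonoidHom p : V →* V).ker.toAddSubgroup fun b hb => by
    have h2 : p • b = 0 := hb
    obtain ⟨r, hr⟩ := (Commute.neg_one_right a).exists_add_pow_prime_eq hp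
    rw [hr, mul_assoc, mul_assoc]
    change (a ^ p) b + ((-1 : AddMonoid.End (Additive V)) ^ p) b + p • (a * (-1 * r)) b = 0
    rw [ha, ← map_nsmul, h2, map_zero, add_zero, show α ^ p = 1 from hα ▸ pow_orderOf_eq_one α]
    rcases hp.eq_two_or_odd' with rfl | h
    · rw [show (-1 : AddMonoid.End (Additive V)) ^ 2 = 1 from neg_one_sq (R := AddMonoid.End (Additive V))]; exact (two_nsmul b).symm.trans h2
    · rw [show (-1 : AddMonoid.End (Additive V)) ^ p = -1 from h.neg_one_pow (α := AddMonoid.End (Additive V))]; exact add_neg_cancel b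
  have h3 : Nat.card (AddMonoidHom.ker (a + -1 : AddMonoid.End (Additive V))) = p ^ n := by
    rw [← hfix]
    exact Nat.card_congr (Additive.toMul.subtypeEquiv fun v => add_neg_eq_zero)
  obtain ⟨r, hr⟩ := hV.index (frattini V)
  have := Fintype.ofFinite V
  obtain ⟨T, -, h4, h5⟩ := (S0014.result p r hV hr).1 Finset.univ (by simp)
  refine ⟨T, h4.le.trans ((Nat.pow_le_pow_iff_right hp.one_lt).1 ?_), h5⟩
  rw [← hr, mul_comm, pow_mul, ← h3]
  refine le_trans ?_ h1
  change _ ≤ Nat.card (powMonoidHom p : V →* V).ker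
  rw [← Subgroup.index_range]
  exact Nat.le_of_dvd (Nat.pos_of_ne_zero Subgroup.index_ne_zero_of_finite) (Subgroup.index_dvd_of_le (by
    rintro _ ⟨x, rfl⟩; exact PGrp.pow_mem_frattini hV x))

end Cfsg.Agent.S3780
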