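import Cfsg.Statements.S3781
import Cfsg.Agent.Lib.PGrp.MaxClass

set_option autoImplicit false
open Cfsg

namespace Cfsg.Agent.S3781

open Cfsg.Lib Cfsg.Lib.PGrp Subgroup in

/-- Let G be a finite p-group and n ≥ 1, and write γ_1(G) = G, γ_{k+1}(G) = [γ_k(G), G], and likewise γ_k(N) for a subgroup N. Let N be a normal subgroup of G contained in γ_n(G). If i > 1 and γ_{i+1}(N) ≠ 1, then |γ_i(N) : γ_{i+1}(N)| ≥ p^n. -/
theorem result {G : Type*} [Group G] [Finite G] {p : ℕ} [Fact p.Prime] (hG : IsPGroup p G) (n : ℕ) (hn : 1 ≤ n) (N : Subgroup G) [N.Normal] (hN : N ≤ (⊤ : Subgroup G).lowerCentralSeries (n - 1)) (i : ℕ) (hi : 1 < i) (hne : N.lowerCentralSeries i ≠ ⊥) : p ^ n ≤ (N.lowerCentralSeries i).relIndex (N.lowerCentralSeries (i - 1)) := by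
  obtain ⟨j, rfl⟩ : ∃ j, i = j + 1 := ⟨i - 1, by omega⟩
  rw [Nat.add_sub_cancel]
  have hp : p.Prime := Fact.out
  have h1 : N.lowerCentralSeries (j + 1) ≤ N.lowerCentralSeries j := Subgroup.lowerCentralSeries_antitone N j.le_succ
  obtain ⟨r, hr⟩ := (hG.to_subgroup (N.lowerCentralSeries j)).index
    ((N.lowerCentralSeries (j + 1)).subgroupOf (N.lowerCentralSeries j))
  obtain ⟨L, _, -, h2, h3⟩ := exists_normal_lt_card hG ⊥ _ (bot_lt_iff_ne_bot.2 hne)
  rw [relIndex, hr]
  refine Nat.pow_le_pow_right hp.pos (not_lt.1 fun h4 => ?_)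
  have h5 := iterCommutator_le_of_card (hG.to_subgroup (N.lowerCentralSeries j)) (hG.to_subgroup ⊤)
    le_normalizer_of_normal (r + 1) L (h2.trans h1) le_normalizer_of_normal (by
      rw [← Core.card_mul_relIndex h1, relIndex, hr, h3]; ring)
  have h6 : ∀ k, (⊤ : Subgroup G) ≤ normalizer (iterCommutator (N.lowerCentralSeries j) ⊤ k : Set G) := fun k =>
    (iterCommutator_le_and_norm le_normalizer_of_normal k).2
  have h7 := commutator_lowerCentralSeries_le (iterCommutator (N.lowerCentralSeries j) ⊤) ⊤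
    (fun a _ => le_top.trans (h6 a)) h6 (fun _ => le_rfl) 0 r
  rw [zero_add] at h7
  have h8 := card_le_of_le ((commutator_mono le_rfl (hN.trans (Subgroup.lowerCentralSeries_antitone ⊤ (by omega)))).trans
    (h7.trans h5))
  have h9 : 0 < Nat.card L := Nat.card_pos
  have := hp.two_le
  change Nat.card (N.lowerCentralSeries (j + 1)) ≤ _ at h8
  nlinarith

end Cfsg.Agent.S3781
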