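import Cfsg.Statements.S3785
import Cfsg.Agent.Lib.Amalg.CharP
import Cfsg.Agent.Lib.Hall.ClassSize
import Cfsg.Agent.Lib.Coprime.PGroup

set_option autoImplicit false
open Cfsg

namespace Cfsg.Agent.S3785

open Subgroup Cfsg.Lib Cfsg.Lib.Core Cfsg.Lib.Amalg

/-- Let G be a finite solvable group whose Fitting subgroup F(G) has odd order. If an element g of G commutes with every element of prime order of F(G), then g ∈ F(G). -/
theorem result {G : Type*} [Group G] [Finite G] (hG : Group.IsSolvable G) (hodd : Odd (Nat.card (Cfsg.fittingSubgroup G))) (g : G) (hg : ∀ x ∈ Cfsg.fittingSubgroup G, (orderOf x).Prime → g * x = x * g) : g ∈ Cfsg.fittingSubgroup G := by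
  set C := centralizer {x | x ∈ fittingSubgroup G ∧ (orderOf x).Prime} with hC
  have hF := fitting_normal G
  have hCn : C.Normal := ⟨fun y hy k x hx => by
    have h1 := hy (k⁻¹ * x * k) ⟨hF.conj_mem' _ hx.1 k, by
      have : orderOf (k⁻¹ * x * k) = orderOf x :=
        (MulAut.conj k).symm.orderOf_eq x
      exact this ▸ hx.2⟩
    calc x * (k * y * k⁻¹) = k * (k⁻¹ * x * k * y) * k⁻¹ := by group
      _ = _ := by rw [h1]; group⟩
  have h1 : ∀ (p : ℕ) (A : Subgroup G), p.Prime → A ≤ C → (Nat.card A).Coprime p →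
      A ≤ 𝐂 (pCore p G) := fun p A hp hA hc => by
    have := Fact.mk hp
    by_cases h2 : p = 2
    · subst h2
      rw [eq_bot_of_pPrime_le ((Nat.coprime_two_right.2 hodd).coprime_dvd_left
        (card_dvd_of_le (pCore_le_fitting hp))) (isPGroup_pCore 2 G) le_rfl]
      exact le_centralizer_iff.1 bot_le
    refine Coprime.le_centralizer_of_omega_one h2 (isPGroup_pCore p G)
      (by rw [normalizer_eq_top]; exact le_top) hc fun x hx hxp a ha => ?_
    by_cases h3 : x = 1
    · simp [h3]
    exact (hA ha x ⟨pCore_le_fitting hp hx, orderOf_eq_prime hxp h3 ▸ hp⟩).symm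
  refine Hall.le_of_forall_isPGroup (H := C) (fun r hr x hx hxr => ?_)
    (fun x hx => (hg x hx.1 hx.2).symm)
  have := Fact.mk hr
  have := pPrimeCore_characteristic r G
  set D := C ⊓ 𝐂 (pPrimeCore r G ⊓ fittingSubgroup G) with hD
  have h2 : pResidualOf r D ≤ fittingSubgroup G ⊓ 𝐂 D := res_le_of_forall_pPrime fun A hA hc => by
    have h3 : A ≤ fittingSubgroup G := by
      refine le_trans ?_ centralizer_fitting_le
      rw [le_centralizer_iff, fitting_eq_pCore_sup_inf hr, sup_le_iff]
      exact ⟨le_centralizer_iff.1 (h1 r A hr (hA.trans inf_le_left) hc),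
        le_centralizer_iff.1 (hA.trans inf_le_right)⟩
    exact le_inf h3 (le_centralizer_iff.1 (inf_le_right.trans (centralizer_le
      (le_inf (le_pPrimeCore_of_le_fitting hr hc h3) h3))))
  obtain ⟨R, hR⟩ := exists_syl r D
  have := isNilpotent_fitting G
  have := isNilpotent_of_le (h2.trans inf_le_left)
  have := hR.isPGroup.isNilpotent
  have h4 := isNilpotent_sup_of_le_centralizer
    (h2.trans (inf_le_right.trans (centralizer_le hR.le)))
  rw [hR.res_sup] at h4
  refine le_fitting h4 ⟨hx, le_centralizer_iff.1 (?_ : _ ≤ 𝐂 (zpowers x)) (mem_zpowers x)⟩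
  refine Hall.le_of_forall_isPGroup fun p hp y hy hyp => ?_
  by_cases h5 : p = r
  · subst h5
    have h6 := eq_bot_of_pPrime_le ((coprime_card_pPrimeCore p G).coprime_dvd_left
      (card_dvd_of_le (zpowers_le.2 hy.1))) hyp le_rfl
    rw [zpowers_eq_bot.1 h6]
    exact one_mem _
  obtain ⟨k, hk⟩ := hxr.exists_card_eq
  exact le_centralizer_iff.1 (h1 p _ hp (zpowers_le.2 hx)
    (hk ▸ ((Nat.coprime_primes hr hp).2 (Ne.symm h5)).pow_left _))
    (le_pCore_of_le_fitting hp hyp (zpowers_le.2 hy.2) (mem_zpowers y))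

end Cfsg.Agent.S3785
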