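import Cfsg.Statements.S3786
import Cfsg.Agent.Lib.Hall.HHb
import Cfsg.Agent.Lib.HH.Num

set_option autoImplicit false
open Cfsg

namespace Cfsg.Agent.S3786

open scoped Pointwise commutatorElement
open Cfsg.Lib Cfsg.Lib.Hall

/-- The Hall–Higman bound on p-length. Let p be an odd prime and G a finite p-soluble group whose Sylow p-subgroups have exponent dividing p^e. (a) If p is not of the form 2^k + 1, or if the Sylow 2-subgroups of G are abelian, then G has p-length at most e. (b) In every case G has p-length at most 2e. -/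
theorem result {G : Type*} [Group G] [Finite G] {p : ℕ} [Fact p.Prime] (hp : p ≠ 2) (hG : Cfsg.IsPSolvable p G) (e : ℕ) (hexp : ∀ (P : Sylow p G), ∀ x ∈ (P : Subgroup G), x ^ p ^ e = 1) : (((¬ ∃ k : ℕ, p = 2 ^ k + 1) ∨ ∀ S : Sylow 2 G, IsMulCommutative (S : Subgroup G)) → Cfsg.PLengthLE p e G) ∧ Cfsg.PLengthLE p (2 * e) G := by
  refine ⟨fun h => Cfsg.Lib.HH.pLengthLE_of_exp e hG (fun m r t => ?_) default (hexp _), HX.len2 hp e hG default (hexp _)⟩
  obtain ⟨n, q, k, h1, -, hq, h3, h4, h5, -⟩ := t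
  have pos : 0 < p ^ n := pow_pos (Fact.out : p.Prime).pos _
  rcases Cfsg.Lib.HH.prime_pow_eq_add_one (p := p) Fact.out hq h1 h3 (by omega) with t | ⟨rfl, -, -, t⟩ | ⟨t1, t2⟩
  · exact hp t.1
  · exact h.elim (fun u => u ⟨_, t⟩) fun u => h5 default (u _)
  · obtain rfl : q = 2 := (Nat.prime_dvd_prime_iff_eq hq Nat.prime_two).1 (hq.dvd_of_dvd_pow (n := 3) ((dvd_pow_self q (by omega)).trans t2.dvd))
    obtain rfl : p = 3 := (Nat.prime_dvd_prime_iff_eq Fact.out Nat.prime_three).1
      ((Fact.out : p.Prime).dvd_of_dvd_pow (n := 2) ((dvd_pow_self p (by omega)).trans t1.dvd))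
    exact h.elim (fun u => u ⟨1, rfl⟩) fun u => h5 default (u _)

end Cfsg.Agent.S3786
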