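import Cfsg.Statements.S3787
import Cfsg.Agent.Lib.HH.Std
import Cfsg.Agent.Lib.KS9.S4

set_option autoImplicit false
open Cfsg

namespace Cfsg.Agent.S3787

open Module Subgroup Cfsg.Lib Cfsg.Lib.Core Cfsg.Lib.HH Cfsg.Lib.Amalg Cfsg.Lib.BG1

theorem pi_surj {F V : Type*} [Field F] [AddCommGroup V] [Module F V] {n : ℕ} {T : End F V}
    (hT : T ^ (n + 1) = 0) {φ : V →ₗ[F] F} {v : V} (h : φ ((T ^ n) v) ≠ 0) :
    Function.Surjective (LinearMap.pi fun i : Fin (n + 1) => φ ∘ₗ (T ^ (i : ℕ))) := by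
  have key : ∀ k ≤ n + 1, ∀ y : Fin (n + 1) → F, (∀ j : Fin (n + 1), k ≤ j → y j = 0) →
      y ∈ LinearMap.range (LinearMap.pi fun i : Fin (n + 1) => φ ∘ₗ (T ^ (i : ℕ))) := by
    intro k
    induction k with
    | zero =>
      intro _ y hy
      rw [show y = 0 from funext fun j => hy j (Nat.zero_le _)]
      exact zero_mem _
    | succ k ih =>
      intro hk y hy
      rw [← Submodule.sub_mem_iff_left _ (LinearMap.mem_range_self _
        ((y ⟨k, hk⟩ / φ ((T ^ n) v)) • (T ^ (n - k)) v))]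
      refine ih (by omega) _ fun j hj => ?_
      simp only [Pi.sub_apply, Pi.smul_apply, LinearMap.pi_apply, LinearMap.comp_apply, map_smul, smul_eq_mul]
      rw [← End.mul_apply, ← pow_add]
      rcases hj.eq_or_lt with e | e
      · obtain rfl : j = ⟨k, hk⟩ := Fin.ext e.symm
        rw [show k + (n - k) = n by omega, div_mul_cancel₀ _ h, sub_self]
      · rw [hy j e, pow_eq_zero_of_le (n := j + (n - k)) (by omega) hT]
        simp
  exact fun y => key _ le_rfl y fun j hj => absurd j.2 (by omega)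

theorem exists_section {G : Type*} [Group G] [Finite G] {p : ℕ} [hp : Fact p.Prime] {V : Subgroup G}
    [V.Normal] [hV : Fact (IsElementaryAbelian p V)] {x : G} (hx : x ∉ V) (hxp : x ^ p ∈ V)
    (hT : (nrep p V x - 1) ^ (p - 1) ≠ 0) : ∃ (W : Type) (_ : Group W) (_ : Finite W),
    (∃ (B : Subgroup W) (t : W), B.Normal ∧ IsMulCommutative B ∧ (∀ b ∈ B, b ^ p = 1) ∧
      Nat.card B = p ^ p ∧ orderOf t = p ∧ t ∉ B ∧ Nat.card W = p ^ (p + 1) ∧
      Nat.card ↥(B ⊓ Subgroup.centralizer ({t} : Set W)) = p) ∧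
    Cfsg.Involves W ↥(V ⊔ zpowers x) := by
  have hVc := le_centralizer_iff_isMulCommutative.2 hV.out.1
  obtain ⟨n, rfl⟩ : ∃ n, p = n + 1 := ⟨p - 1, (Nat.sub_add_cancel hp.out.pos).symm⟩
  rw [Nat.add_sub_cancel] at hT
  set T := nrep (n + 1) V x - 1 with hTdef
  have hTp : T ^ (n + 1) = 0 := by
    have := sub_one_pow_char (K := ZMod (n + 1)) (n + 1) (nrep (n + 1) V x) 1
    rwa [pow_one, ← map_pow, nrep_eq_one_iff.2 (hVc hxp), sub_self] at this
  obtain ⟨v, hv⟩ : ∃ v, (T ^ n) v ≠ 0 := by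
    by_contra! h
    exact hT (LinearMap.ext h)
  obtain ⟨φ, hφ⟩ := (Module.forall_dual_apply_eq_zero_iff (ZMod (n + 1)) _).not.2 hv |> not_forall.1
  have hψ := pi_surj hTp hφ
  set ψ := LinearMap.pi fun i : Fin (n + 1) => φ ∘ₗ (T ^ (i : ℕ)) with hψdef
  have hker : ∀ u, u ∈ LinearMap.ker ψ ↔ ∀ i < n + 1, φ ((T ^ i) u) = 0 := fun u =>
    ⟨fun h i hi => congrFun h ⟨i, hi⟩, fun h => funext fun i => h i i.2⟩
  have hTU : ∀ u ∈ LinearMap.ker ψ, T u ∈ LinearMap.ker ψ := fun u hu => (hker _).2 fun i hi => by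
    rw [← End.mul_apply, ← pow_succ]
    rcases (show i + 1 < n + 1 ∨ i = n by omega) with h | rfl
    · exact (hker u).1 hu _ h
    · rw [hTp]; simp
  have hfix : ∀ u, T u ∈ LinearMap.ker ψ → ∃ c : ℕ, u - c • (T ^ n) v ∈ LinearMap.ker ψ :=
    fun u hu => ⟨(φ u / φ ((T ^ n) v)).val, (hker _).2 fun i hi => by
      rw [← Nat.cast_smul_eq_nsmul (ZMod (n + 1)), ZMod.natCast_zmod_val, map_sub, map_sub,
        map_smul, map_smul]
      rcases i with _ | i
      · simp [div_mul_cancel₀ _ hφ]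
      · rw [← End.mul_apply, ← pow_add, pow_eq_zero_of_le (n := i + 1 + n) (by omega) hTp, pow_succ,
          End.mul_apply, (hker _).1 hu i (by omega)]
        simp⟩
  set U := EV.unsub (LinearMap.ker ψ)
  have hUV : U ≤ V := EV.unsub_le _
  set K := V ⊔ zpowers x
  have hn : K ≤ 𝐍 U := sup_le ((le_centralizer_iff.1 (hUV.trans hVc)).trans
    (centralizer_le_normalizer _)) (zpowers_le.2 (mem_normalizer_fintype (by
      rintro _ ⟨u, hu, rfl⟩
      refine ⟨T u + u, add_mem (hTU u hu) hu, ?_⟩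
      rw [EV.val_add, nrep_sub_val, inv_mul_cancel_right])))
  have := normal_subgroupOf_of_le_normalizer hn
  obtain ⟨W, _, g, hg, hgk⟩ : ∃ (W : Type) (_ : Group W) (g : K →* W), Function.Surjective g ∧
      g.ker = U.subgroupOf K := by
    let e : Shrink.{0} (K ⧸ U.subgroupOf K) ≃* (K ⧸ U.subgroupOf K) := Shrink.mulEquiv
    refine ⟨_, inferInstance, e.symm.toMonoidHom.comp (QuotientGroup.mk' (U.subgroupOf K)),
      e.symm.surjective.comp (QuotientGroup.mk'_surjective _), ?_⟩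
    rw [← MonoidHom.comap_ker, (MonoidHom.ker_eq_bot_iff _).2 e.symm.injective,
      MonoidHom.comap_bot, QuotientGroup.ker_mk']
  have hW : Finite W := Finite.of_surjective _ hg
  refine ⟨W, inferInstance, hW, ?_, Fus2.involves_of_surjective g hg⟩
  have hVK : V ≤ K := le_sup_left
  have hxK : x ∈ K := mem_sup_right (mem_zpowers x)
  have hg1 : ∀ u : EV (n + 1) V, g ⟨u.val, hVK u.val_mem⟩ = 1 ↔ u ∈ LinearMap.ker ψ := fun u => by
    rw [← MonoidHom.mem_ker, hgk, mem_subgroupOf]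
    exact EV.val_mem_unsub
  obtain ⟨c, hc⟩ := hfix (EV.mk _ ⟨_, hxp⟩) (by
    rw [show T (EV.mk _ ⟨_, hxp⟩) = 0 from EV.ext' (by rw [nrep_sub_val]; simp; group)]
    exact zero_mem _)
  set t := g ⟨(-(c • v)).val * x, mul_mem (hVK (EV.val_mem _)) hxK⟩ with ht
  have hkV : g.ker ≤ V.subgroupOf K := hgk ▸ subgroupOf_mono K hUV
  have hmem : ∀ y : K, g y ∈ (V.subgroupOf K).map g ↔ (y : G) ∈ V := fun y => by
    rw [← mem_comap, comap_map_eq_self hkV, mem_subgroupOf]
  have htB : t ∉ (V.subgroupOf K).map g := fun h =>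
    hx ((mul_mem_cancel_left (EV.val_mem _)).1 ((hmem _).1 h))
  have hB : Nat.card ((V.subgroupOf K).map g) = (n + 1) ^ (n + 1) := by
    rw [← relIndex_ker, hgk, relIndex_subgroupOf hVK]
    have h1 := card_mul_relIndex hUV
    have h2 := LinearMap.finrank_range_add_finrank_ker ψ
    rw [LinearMap.range_eq_top.2 hψ, finrank_top, finrank_fin_fun] at h2
    rw [EV.card_unsub, EV.card_eq_pow (p := n + 1) (V := V), ← h2, pow_add,
      Module.natCard_eq_pow_finrank (K := ZMod (n + 1)), Nat.card_zmod, mul_comm] at h1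
    exact Nat.eq_of_mul_eq_mul_right (by positivity) h1
  have := hV.out.1
  refine ⟨(V.subgroupOf K).map g, t, Normal.map inferInstance g hg, inferInstance, ?_, hB,
    orderOf_eq_prime ?_ fun h => htB (h ▸ one_mem _), htB, ?_, ?_⟩
  · rintro _ ⟨y, hy, rfl⟩
    rw [← map_pow, show y ^ (n + 1) = 1 from Subtype.ext (hV.out.2 _ hy), map_one]
  · rw [ht, ← map_pow, ← (hg1 _).2 hc]
    congr 1
    apply Subtype.ext
    have h1 := mul_pow_eq x (-(c • v)) ((n + 1) ^ 1)
    rw [← sub_one_pow_eq_sum (K := ZMod (n + 1)) (n + 1), pow_one, Nat.add_sub_cancel, ← hTdef,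
      map_neg, map_nsmul] at h1
    rw [sub_eq_neg_add]
    exact h1
  · rw [← card_mul_index ((V.subgroupOf K).map g), hB, index_map_eq _ hg hkV, pow_succ _ (n + 1)]
    congr 1
    change V.relIndex (V ⊔ zpowers x) = _
    rw [relIndex_sup_left, ← card_map_mk'_eq_relIndex, MonoidHom.map_zpowers, Nat.card_zpowers]
    exact orderOf_eq_prime (by rw [← map_pow]; exact (QuotientGroup.eq_one_iff _).2 hxp)
      (fun h => hx ((QuotientGroup.eq_one_iff _).1 h))
  · have hcm : ∀ u : EV (n + 1) V, g ⟨u.val, hVK u.val_mem⟩ ∈ centralizer {t} ↔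
        T u ∈ LinearMap.ker ψ := fun u => by
      rw [mem_centralizer_singleton_iff, eq_comm, ← commutatorElement_eq_one_iff_mul_comm, ht,
        ← map_commutatorElement, ← hg1]
      congr! 2
      apply Subtype.ext
      have h2 := hVc (EV.val_mem (-(c • v))) _ (T u + u).val_mem
      simp only [EV.val_add, hTdef, nrep_sub_val, inv_mul_cancel_right] at h2 ⊢
      simp only [commutatorElement_def, coe_mul, InvMemClass.coe_inv]
      generalize (-(c • v)).val = w at h2 ⊢
      calc _ = w * (x * u.val * x⁻¹) * w⁻¹ * u.val⁻¹ := by group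
        _ = _ := by rw [← h2]; group
    have e : (V.subgroupOf K).map g ⊓ centralizer {t} =
        zpowers (g ⟨((T ^ n) v).val, hVK (EV.val_mem _)⟩) := by
      refine le_antisymm ?_ (zpowers_le.2 ⟨(hmem _).2 (EV.val_mem _), (hcm _).2 ?_⟩)
      · rintro _ ⟨⟨y, hy, rfl⟩, h1⟩
        obtain ⟨d, hd⟩ := hfix _ ((hcm (EV.mk _ ⟨y, hy⟩)).1 h1)
        rw [← hg1] at hd
        refine mem_powers_iff_mem_zpowers.1 ⟨d, ?_⟩
        simp only
        rw [← one_mul (_ ^ d), ← hd, ← map_pow, ← map_mul]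
        congr 1
        apply Subtype.ext
        simp [EV.val_sub]
      · rw [← End.mul_apply, ← pow_succ', hTp]
        exact zero_mem _
    rw [e, Nat.card_zpowers]
    refine orderOf_eq_prime ?_ fun h => hφ ((hker _).1 ((hg1 _).1 h) 0 (by omega))
    rw [← map_pow, ← map_one g]
    exact congrArg g (Subtype.ext (hV.out.2 _ (EV.val_mem _)))

/-- Let G be a finite p-soluble group, p an odd prime not of the form 2^k + 1, and suppose the wreath product C_p ≀ C_p (of order p^(p+1)) is not involved in a Sylow p-subgroup of G: no section of a Sylow p-subgroup is isomorphic to it. Then G has p-length at most 1. -/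
theorem result {G : Type*} [Group G] [Finite G] {p : ℕ} [Fact p.Prime] (hp2 : p ≠ 2) (hnf : (¬ ∃ k : ℕ, p = 2 ^ k + 1)) (hG : Cfsg.IsPSolvable p G) (P : Sylow p G) (hwr : ∀ (W : Type) [Group W] [Finite W], (∃ (B : Subgroup W) (t : W), B.Normal ∧ IsMulCommutative B ∧ (∀ b ∈ B, b ^ p = 1) ∧ Nat.card B = p ^ p ∧ orderOf t = p ∧ t ∉ B ∧ Nat.card W = p ^ (p + 1) ∧ Nat.card ↥(B ⊓ Subgroup.centralizer ({t} : Set W)) = p) → ¬ Cfsg.Involves W ↥(P : Subgroup G)) : Cfsg.PLengthLE p 1 G := by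
  rw [pLengthLE_one_iff_sylow_le P]
  obtain ⟨H, _, _, f, hf, hH, he⟩ := exists_std hG
  rw [← he, ← map_le_iff_le_comap]
  intro y hy
  by_contra hy1
  have hT : IsPGroup p ((P : Subgroup G).map f) := P.isPGroup'.map f
  obtain ⟨k, hk⟩ := hT ⟨y, hy⟩
  obtain ⟨j, h1, h2⟩ := KS9.exists_pow_not_mem (p := p) (n := k) hy1
    (by rw [show y ^ p ^ k = 1 from congrArg Subtype.val hk]; exact one_mem _)
  have := Fact.mk hH.elem
  have hp : p.Prime := Fact.out
  obtain ⟨W, _, _, h3, h4⟩ := exists_section h1 h2 (fun h => by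
    rcases hH.thmB (n := 0) (by simpa using h2) (by simpa using h1) h with
      h5 | ⟨n₀, q, m, h5, h6, hq, h7, h8, -⟩
    · have := hp.pos
      simp at h5; omega
    · obtain rfl : n₀ = 1 := by omega
      have := hp.pos
      rcases hq.eq_two_or_odd' with rfl | h9
      · exact hnf ⟨m, by rw [pow_one] at h8; omega⟩
      · have h10 := h9.pow (n := m)
        rw [← h8, pow_one] at h10
        exact (Nat.not_even_iff_odd.2 h10) (hp.even_sub_one hp2))
  refine hwr W h3 (Fus2.involves_trans (Fus2.involves_trans h4 (Fus2.involves_of_injective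
    (inclusion (sup_le (pCore_le_sylow (P.mapSurjective hf)) (zpowers_le.2 (pow_mem hy _))))
    (inclusion_injective _))) (Fus2.involves_of_surjective _ (f.subgroupMap_surjective _)))

end Cfsg.Agent.S3787
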