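import Cfsg.Statements.S3788
import Cfsg.Agent.Lib.HH.Cyc

set_option autoImplicit false
open Cfsg

namespace Cfsg.Agent.S3788

open Subgroup Cfsg.Lib Cfsg.Lib.Core Cfsg.Lib.HH Cfsg.Lib.Amalg

/-- Let G be a finite p-soluble group, P a Sylow p-subgroup of G and A a cyclic normal subgroup of P. If p is odd, or if no section of G is isomorphic to the symmetric group of degree 4, then A ≤ O_{p',p}(G). -/
theorem result {G : Type*} [Group G] [Finite G] {p : ℕ} [Fact p.Prime] (hG : Cfsg.IsPSolvable p G) (P : Sylow p G) (A : Subgroup G) (hAP : A ≤ (P : Subgroup G)) (hAn : (P : Subgroup G) ≤ Subgroup.normalizer (A : Set G)) (hA : IsCyclic A) (h : p ≠ 2 ∨ ¬ Cfsg.Involves (Equiv.Perm (Fin 4)) G) : A ≤ Cfsg.pPrimePCore p G := by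
  obtain ⟨H, _, _, f, hf, hH, he⟩ := exists_std hG
  rw [← he, ← map_le_iff_le_comap]
  refine hH.le_of_cyclic (h.imp id fun h1 h2 => h1 (Fus2.involves_trans h2
    (Fus2.involves_of_surjective f hf))) (isCyclic_of_surjective _ (f.subgroupMap_surjective A))
    ((P.isPGroup'.to_le hAP).map f) ((pCore_le_sylow (P.mapSurjective hf)).trans ?_)
  exact (map_mono hAn).trans (le_normalizer_map f)

end Cfsg.Agent.S3788
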