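import Cfsg.Statements.S3790
import Cfsg.Agent.Lib.HH.Add

set_option autoImplicit false
open Cfsg

namespace Cfsg.Agent.S3790

open Subgroup Cfsg.Lib Cfsg.Lib.Core Cfsg.Lib.HH

universe u

theorem aux {p : ℕ} [hp : Fact p.Prime] (r : ℕ) : ∀ (q l : Fin r → ℕ),
    (∀ i, (q i).Prime ∧ q i ≠ p) → ∀ {G : Type u} [Group G] [Finite G],
    (∀ s : ℕ, s.Prime → s ∣ Nat.card G → s ≠ p → ∃ i, q i = s) → (∀ i, PLengthLE (q i) (l i) G) →
    PLengthLE p (Finset.univ.prod fun i => 1 + l i) G := by
  induction r with
  | zero =>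
    intro q l _ G _ _ hc _
    refine pLengthLE_one_of_isPGroup ((isPGroup_iff_isPiNumber hp.out).2 fun s hs hd => ?_)
    by_contra h
    obtain ⟨i, -⟩ := hc s hs hd h
    exact i.elim0
  | succ r ih =>
    intro q l hq
    have h0 : ∀ {G : Type u} [Group G] [Finite G], (Nat.card G).Coprime (q 0) →
        (∀ s : ℕ, s.Prime → s ∣ Nat.card G → s ≠ p → ∃ i, q i = s) →
        (∀ i : Fin r, PLengthLE (q i.succ) (l i.succ) G) →
        PLengthLE p (Finset.univ.prod fun i : Fin r => 1 + l i.succ) G := by
      intro G _ _ h1 hc hl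
      refine ih (fun i => q i.succ) (fun i => l i.succ) (fun i => hq _) (fun s hs hd hsp => ?_) hl
      obtain ⟨i, rfl⟩ := hc s hs hd hsp
      rcases i.eq_zero_or_eq_succ with rfl | ⟨j, rfl⟩
      · exact (hs.ne_one (Nat.eq_one_of_dvd_coprimes h1 hd dvd_rfl)).elim
      · exact ⟨j, rfl⟩
    have key : ∀ (m : ℕ) {G : Type u} [Group G] [Finite G],
        (∀ s : ℕ, s.Prime → s ∣ Nat.card G → s ≠ p → ∃ i, q i = s) →
        (∀ i : Fin r, PLengthLE (q i.succ) (l i.succ) G) → PLengthLE (q 0) m G →
        PLengthLE p ((1 + m) * Finset.univ.prod fun i : Fin r => 1 + l i.succ) G := by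
      intro m
      induction m with
      | zero =>
        intro G _ _ hc hl h1
        rw [add_zero, one_mul]
        exact h0 (pLengthLE_zero_iff.1 h1) hc hl
      | succ m ihm =>
        intro G _ _ hc hl h1
        have := pPrimeCore_characteristic (q 0) G
        have := Fact.mk (hq 0).1
        rw [← add_assoc, add_mul, one_mul, add_comm]
        refine pLengthLE_add _ (pPrimeCore (q 0) G) (h0 (coprime_card_pPrimeCore _ _)
          (fun s hs hd => hc s hs (hd.trans (card_subgroup_dvd_card _)))
          fun i => pLengthLE_subgroup (hl i) _) ?_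
        obtain ⟨k, hk⟩ := (isPGroup_pCore (q 0) (G ⧸ pPrimeCore (q 0) G)).exists_card_eq
        refine pLengthLE_of_quotient_of_coprime (pCore (q 0) _)
          (hk ▸ ((Nat.coprime_primes (hq 0).1 hp.out).2 (hq 0).2).pow_left _)
          (ihm (fun s hs hd => hc s hs (hd.trans ((card_quotient_dvd_card _).trans
            (card_quotient_dvd_card _)))) (fun i => pLengthLE_quotient (pLengthLE_quotient (hl i) _) _)
          (pLengthLE_quotient_of_succ _ (pPrimePCore_eq_pCore pPrimeCore_quotient_pPrimeCore).le
            (pLengthLE_quotient h1 _)))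
    intro G _ _ hc hl
    rw [Fin.prod_univ_succ]
    exact key _ hc (fun i => hl _) (hl 0)

/-- Let G be a finite solvable group and p a prime. Suppose p₁, …, p_r are distinct primes, all different from p, that include every prime dividing the order of G other than p, and that G has p_i-length at most l_i for each i. Then G has p-length at most the product of the numbers 1 + l_i. -/
theorem result {G : Type*} [Group G] [Finite G] (hG : Group.IsSolvable G) (p : ℕ) [Fact p.Prime] (r : ℕ) (q : Fin r → ℕ) (hq : ∀ i, (q i).Prime ∧ q i ≠ p) (hinj : Function.Injective q) (hcover : ∀ s : ℕ, s.Prime → s ∣ Nat.card G → s ≠ p → ∃ i, q i = s) (l : Fin r → ℕ) (hl : ∀ i, Cfsg.PLengthLE (q i) (l i) G) : Cfsg.PLengthLE p (Finset.univ.prod fun i => 1 + l i) G := by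
  exact aux r q l hq hcover hl

end Cfsg.Agent.S3790
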