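import Cfsg.Statements.S3791
import Cfsg.Agent.Lib.HH.Quad

set_option autoImplicit false
open Cfsg

namespace Cfsg.Agent.S3791

open Subgroup Cfsg.Lib Cfsg.Lib.Core Cfsg.Lib.HH

universe u

theorem aux {r : ℕ} (q d : Fin r → ℕ) (hq : ∀ i, (q i).Prime) (n : ℕ) : ∀ (l : Fin r → ℕ)
    {G : Type u} [Group G] [Finite G] [Group.IsSolvable G], Nat.card G = n →
    (∀ s : ℕ, s.Prime → s ∣ Nat.card G → ∃ i, q i = s) →
    (∀ i (S : Sylow (q i) G), derivedSeries (S : Subgroup G) (d i) = ⊥) →
    (∀ i, PLengthLE (q i) (l i) G) →
    derivedSeries G (Finset.univ.sum fun i => d i * l i) = ⊥ := by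
  induction n using Nat.strong_induction_on with
  | _ n ih =>
  intro l G _ _ _ hn hc hd hl
  have key : ∀ (N : Subgroup G) [N.Normal], N ≠ ⊥ → ∀ l' : Fin r → ℕ,
      (∀ i, PLengthLE (q i) (l' i) (G ⧸ N)) →
      derivedSeries G (Finset.univ.sum fun i => d i * l' i) ≤ N := fun N _ hN l' hl' => by
    have hf := QuotientGroup.mk'_surjective N
    rw [← map_mk'_eq_bot_iff, map_derivedSeries_eq hf]
    refine ih _ (hn ▸ card_quotient_lt hN) l' rfl
      (fun s hs h => hc s hs (h.trans (card_quotient_dvd_card _))) (fun i S => ?_) hl'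
    have := Fact.mk (hq i)
    obtain ⟨S, rfl⟩ := Sylow.mapSurjective_surjective hf _ S
    have h := congrArg (fun X => (X.map (S : Subgroup G).subtype).map (QuotientGroup.mk' N)) (hd i S)
    simp only [Subgroup.map_bot] at h
    rw [derivedOf_map, map_eq_bot_iff_of_injective _ (subtype_injective _)] at h
    exact h
  rcases subsingleton_or_nontrivial G with h | h
  · exact Subsingleton.elim _ _
  obtain ⟨p, hp, h1⟩ := exists_pCore_ne_bot_of_solvable (G := G)
  have := pPrimeCore_characteristic p G
  by_cases h2 : pPrimeCore p G = ⊥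
  · have := Fact.mk hp
    have h3 : p ∣ Nat.card G := by
      obtain ⟨k, hk⟩ := (isPGroup_pCore p G).exists_card_eq
      rcases k with _ | k
      · exact (h1 (card_eq_one.1 hk)).elim
      · exact (dvd_pow_self p k.succ_ne_zero).trans (hk ▸ card_subgroup_dvd_card _)
    obtain ⟨i, rfl⟩ := hc p hp h3
    obtain ⟨k, hk⟩ : ∃ k, l i = k + 1 := Nat.exists_eq_succ_of_ne_zero fun h0 =>
      (Nat.Prime.coprime_iff_not_dvd hp).1 (pLengthLE_zero_iff.1 (h0 ▸ hl i)).symm h3
    have h4 := key _ h1 (Function.update l i k) fun j => by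
      by_cases hj : j = i
      · subst hj
        rw [Function.update_self]
        exact pLengthLE_quotient_of_succ _ (pPrimePCore_eq_pCore h2).le (hk ▸ hl j)
      · rw [Function.update_of_ne hj]
        exact pLengthLE_quotient (hl j) _
    have e : (Finset.univ.sum fun j => d j * l j) =
        (Finset.univ.sum fun j => d j * Function.update l i k j) + d i := by
      have e2 : ∑ j ∈ Finset.univ.erase i, d j * Function.update l i k j =
          ∑ j ∈ Finset.univ.erase i, d j * l j :=
        Finset.sum_congr rfl fun j hj => by rw [Function.update_of_ne (Finset.ne_of_mem_erase hj)]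
      rw [← Finset.add_sum_erase _ _ (Finset.mem_univ i),
        ← Finset.add_sum_erase _ _ (Finset.mem_univ i), Function.update_self, hk, e2]
      ring
    rw [e]
    generalize (Finset.univ.sum fun j => d j * Function.update l i k j) = a at h4 ⊢
    let S : Sylow (q i) G := default
    have h5 : ∀ m, derivedSeries G (a + m) ≤
        (derivedSeries (S : Subgroup G) m).map (S : Subgroup G).subtype := fun m => by
      induction m with
      | zero =>
        rw [derivedSeries_zero, ← MonoidHom.range_eq_map, range_subtype]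
        exact h4.trans (pCore_le_sylow S)
      | succ m ihm =>
        rw [derivedOf_succ, ← add_assoc, derivedSeries_succ]
        exact commutator_mono ihm ihm
    have h6 := h5 (d i)
    rwa [hd, Subgroup.map_bot, le_bot_iff] at h6
  · rw [← le_bot_iff, ← inf_eq_bot_of_isPGroup_of_coprime hp (isPGroup_pCore p G)
      (coprime_card_pPrimeCore p G)]
    exact le_inf (key _ h1 l fun i => pLengthLE_quotient (hl i) _)
      (key _ h2 l fun i => pLengthLE_quotient (hl i) _)

/-- The Hall–Higman bound on derived length: let G be a finite solvable group, let p₁, …, p_r be distinct primes that include every prime dividing the order of G, and suppose that for each i the Sylow p_i-subgroups of G have derived length at most d_i and G has p_i-length at most l_i. Then G has derived length at most Σ d_i l_i. -/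
theorem result {G : Type*} [Group G] [Finite G] (hG : Group.IsSolvable G) (r : ℕ) (q : Fin r → ℕ) (hq : ∀ i, (q i).Prime) (hinj : Function.Injective q) (hcover : ∀ s : ℕ, s.Prime → s ∣ Nat.card G → ∃ i, q i = s) (d l : Fin r → ℕ) (hd : ∀ i, ∀ P : Subgroup G, (haveI := Fact.mk (hq i); ∃ S : Sylow (q i) G, (S : Subgroup G) = P) → derivedSeries ↥P (d i) = ⊥) (hl : ∀ i, Cfsg.PLengthLE (q i) (l i) G) : derivedSeries G (Finset.univ.sum fun i => d i * l i) = ⊥ := by
  exact aux q d hq _ l rfl hcover (fun i S => hd i _ ⟨S, rfl⟩) hl

end Cfsg.Agent.S3791
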