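import Cfsg.Statements.S3794
import Cfsg.Agent.Lib.Hall.FpfC

set_option autoImplicit false
open Cfsg

namespace Cfsg.Agent.S3794

open scoped Pointwise commutatorElement
open Cfsg.Lib Cfsg.Lib.Hall

open Subgroup Cfsg.Lib.SigC

/-- Let G be a finite solvable group with an automorphism σ satisfying σ⁴ = 1 and fixing only the identity. Then the derived subgroup G' is nilpotent. -/
theorem result {G : Type*} [Group G] [Finite G] (hG : Group.IsSolvable G) (σ : MulAut G) (hσ : σ ^ 4 = 1) (hfpf : ∀ g : G, σ g = g → g = 1) : Group.IsNilpotent (commutator G) := by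
  obtain ⟨Γ, _, _, i, j, hi, hj, h1, h2, h3⟩ := fc_ambient (zpowers σ).subtype hG fun x hx => hfpf x (hx ⟨σ, mem_zpowers σ⟩)
  have h4 := fc_four (PGrp.isCyclic_map j (PGrp.isCyclic_top_iff.2 inferInstance)) (by
    rw [card_map_of_injective hj, card_top, Nat.card_zpowers]; exact orderOf_dvd_of_pow_eq_one hσ) h1 h2 h3
  have h5 := BG1.nilpotent_of_le h4 (BG1.fittingOf_nilpotent _)
  rw [← map_commutator, ← nres_eq_bot_iff, ← map_nres, Subgroup.map_eq_bot_iff_of_injective _ hi, nres_eq_bot_iff] at h5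
  exact h5

end Cfsg.Agent.S3794
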