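import Cfsg.Statements.S3795
import Cfsg.Agent.Lib.Hall.FpfD

set_option autoImplicit false
open Cfsg

namespace Cfsg.Agent.S3795

open scoped Pointwise commutatorElement
open Cfsg.Lib Cfsg.Lib.Hall

open Subgroup Cfsg.Lib.SigC

/-- Gross's Theorem: let G be a finite solvable group with an automorphism σ of order 2^n, n > 1, fixing only the identity. Then G has Fitting height at most 2n − 2: G has Fitting height at most m when there is a chain of normal subgroups 1 = F₀ ≤ F₁ ≤ ⋯ ≤ F_m = G with each F_{i+1}/F_i nilpotent. -/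
theorem result {G : Type*} [Group G] [Finite G] (hG : Group.IsSolvable G) (σ : MulAut G) (n : ℕ) (hn : 1 < n) (hσ : orderOf σ = 2 ^ n) (hfpf : ∀ g : G, σ g = g → g = 1) : ∃ F : Fin ((2 * n - 2) + 1) → Subgroup G, F 0 = ⊥ ∧ F (Fin.last (2 * n - 2)) = ⊤ ∧ Monotone F ∧ (∀ i, (F i).Normal) ∧ ∀ i : Fin (2 * n - 2), ∃ k : ℕ, (F i.succ).lowerCentralSeries k ≤ F i.castSucc := by
  obtain ⟨Γ, _, _, i, j, hi, hj, h1, h2, h3⟩ := fc_ambient (zpowers σ).subtype hG fun x hx => hfpf x (hx ⟨σ, mem_zpowers σ⟩)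
  obtain ⟨m, rfl⟩ : ∃ m, n = m + 2 := ⟨n - 2, by omega⟩
  have e : 2 * (m + 2) - 2 = 2 * m + 2 := by omega
  refine fitLen_iff_top.2 ((nresN_map_eq_bot_iff hi).1 (e ▸ fd_two m Γ _ _ ?_ ?_ h1 h2 h3))
  · exact PGrp.isCyclic_map j (PGrp.isCyclic_top_iff.2 inferInstance)
  · rw [card_map_of_injective hj, card_top, Nat.card_zpowers, hσ]

end Cfsg.Agent.S3795
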