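import Cfsg.Statements.S3797
import Cfsg.Agent.Lib.FG.Trans

set_option autoImplicit false
open Cfsg

open Subgroup Cfsg.Lib
open scoped commutatorElement
open Cfsg.Lib.Amalg
namespace Cfsg.Agent.S3797

/-- Let G be a finite solvable group of even order whose Sylow 2-subgroups contain more than one involution, and suppose all involutions of G are conjugate. Then G has 2-length at most 1, and a Sylow 2-subgroup S of G is either homocyclic (a direct product of cyclic groups of one common order) or a non-abelian 2-group with more than one involution admitting a solvable group of automorphisms transitive on its involutions. -/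
theorem result {G : Type*} [Group G] [Finite G] (hG : Group.IsSolvable G) (heven : Even (Nat.card G)) (S : Sylow 2 G) (htwo : ∃ x y : G, x ∈ (S : Subgroup G) ∧ y ∈ (S : Subgroup G) ∧ x ≠ y ∧ x ≠ 1 ∧ x ^ 2 = 1 ∧ y ≠ 1 ∧ y ^ 2 = 1) (hconj : ∀ x y : G, x ≠ 1 → x ^ 2 = 1 → y ≠ 1 → y ^ 2 = 1 → IsConj x y) : Cfsg.PLengthLE 2 1 G ∧ ((∃ m r : ℕ, Nonempty (↥(S : Subgroup G) ≃* (Fin r → Multiplicative (ZMod (2 ^ m))))) ∨ (¬ IsMulCommutative (S : Subgroup G) ∧ ∃ Y : Subgroup (MulAut ↥(S : Subgroup G)), Group.IsSolvable Y ∧ ∀ x y : ↥(S : Subgroup G), x ≠ 1 → x ^ 2 = 1 → y ≠ 1 → y ^ 2 = 1 → ∃ a ∈ Y, a x = y)) := by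
  obtain ⟨x, y, x1, y1, hne, x2, x3, y2, y3⟩ := htwo
  have hN := Core.coprime_card_pPrimeCore 2 G
  set N := pPrimeCore 2 G
  have o' : ∀ {x : G}, orderOf x = 2 → x ≠ 1 ∧ x ^ 2 = 1 := fun h => ⟨fun e => by simp [e] at h, h ▸ pow_orderOf_eq_one _⟩
  have d : ∀ s ∈ (S : Subgroup G), s ∈ N → s = 1 := fun s h1 h2 => (Core.inf_eq_bot_of_isPGroup_of_coprime Nat.prime_two S.isPGroup' hN).le ⟨h1, h2⟩
  have o : ∀ s ∈ (S : Subgroup G), s ≠ 1 → s ^ 2 = 1 → orderOf (s : G ⧸ N) = 2 := fun s h1 h2 h3 =>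
    orderOf_eq_prime (by rw [← QuotientGroup.mk_pow, h3]; rfl) (mt (fun e => d s h1 ((QuotientGroup.eq_one_iff s).1 e)) h2)
  have h1 : PLengthLE 2 1 G := Core.pLengthLE_of_quotient_of_coprime _ hN (Core.pLengthLE_one_iff_coprime_index.2 (Nat.Coprime.coprime_dvd_left
    (index_dvd_of_le Core.pCore_le_pPrimePCore) ((Nat.Prime.coprime_iff_not_dvd Nat.prime_two).2 (FG.not_two_dvd_index Core.pPrimeCore_quotient_pPrimeCore
      (fun u v hu hv => by
        obtain ⟨u, hu', rfl⟩ := FG.exists_lift_prime (G := G) N hN hu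
        obtain ⟨v, hv', rfl⟩ := FG.exists_lift_prime (G := G) N hN hv
        exact (QuotientGroup.mk' N).map_isConj (hconj u v (o' hu').1 (o' hu').2 (o' hv').1 (o' hv').2)) (o x x1 x2 x3) (o y y1 y2 y3)
      fun e => hne (inv_mul_eq_one.1 (d _ (mul_mem (inv_mem x1) y1) (QuotientGroup.eq.1 e))))).symm))
  haveI := (Core.pLengthLE_one_iff_normal S).1 h1
  have tr : ∀ x y : (S : Subgroup G), x ≠ 1 → x ^ 2 = 1 → y ≠ 1 → y ^ 2 = 1 → ∃ a ∈ (normalizerMonoidHom (S : Subgroup G)).range, a x = y := fun x y x1 x2 y1 y2 => by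
    obtain ⟨g, hg⟩ := isConj_iff.1 (hconj x y (by simpa using x1) (by simpa using congrArg Subtype.val x2) (by simpa using y1) (by simpa using congrArg Subtype.val y2))
    obtain ⟨n, n1, a, a1, rfl⟩ := ((syl_top S).of_le (le_sup_right : _ ≤ N ⊔ S) le_top).frattini_mem (le_normalizer_of_normal' (mem_top g))
    obtain ⟨m, m1, s, s1, rfl⟩ := (mem_sup_of_le_normalizer' le_normalizer_of_normal').1 n1
    have a2 := mul_mem (le_normalizer s1) a1
    refine ⟨_, ⟨⟨_, a2⟩, rfl⟩, Subtype.ext ?_⟩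
    have z := (mem_normalizer_iff.1 a2 x).1 x.2
    refine (mul_inv_eq_one.1 (d _ (mul_mem y.2 (inv_mem z)) ?_)).symm
    rw [← hg, show m * s * a * x * (m * s * a)⁻¹ * (s * a * x * (s * a)⁻¹)⁻¹ = ⁅m, s * a * x * (s * a)⁻¹⁆ by group]
    exact commutator_le_left _ _ (commutator_mem_commutator m1 (mem_top _))
  refine ⟨h1, (em _).imp (fun h : IsMulCommutative (S : Subgroup G) => ?_) fun h => ⟨h, _, Group.isSolvable_of_surjective (MonoidHom.rangeRestrict_surjective _), tr⟩⟩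
  letI : CommGroup (S : Subgroup G) := { mul_comm := h.is_comm.comm }
  refine FG.homocyclic S.isPGroup' fun K _ x y hx hy h => ?_
  obtain ⟨a, -, rfl⟩ := tr x y (fun e => by simp [e] at hx) (orderOf_dvd_iff_pow_eq_one.1 hx.dvd) (fun e => by simp [e] at hy) (orderOf_dvd_iff_pow_eq_one.1 hy.dvd)
  exact PGrp.apply_mem_of_characteristic a h

end Cfsg.Agent.S3797
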