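import Cfsg.Statements.S3798
import Cfsg.Agent.Lib.FG.Trans

set_option autoImplicit false
open Cfsg

open Subgroup Cfsg.Lib
open scoped commutatorElement
open Cfsg.Lib.Amalg
namespace Cfsg.Agent.S3798

/-- The Gaschütz–Yen Theorem: let G be a finite p-soluble group, p an odd prime dividing its order, such that the automorphism group of G permutes the subgroups of G of order p transitively. Then G has p-length at most 1. -/
theorem result {G : Type*} [Group G] [Finite G] {p : ℕ} [Fact p.Prime] (hp : p ≠ 2) (hdvd : p ∣ Nat.card G) (hG : Cfsg.IsPSolvable p G) (htrans : ∀ U V : Subgroup G, Nat.card U = p → Nat.card V = p → ∃ a : MulAut G, U.map a.toMonoidHom = V) : Cfsg.PLengthLE p 1 G := by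
  have hp' : p.Prime := Fact.out
  have hN := Core.coprime_card_pPrimeCore p G
  haveI := Core.pPrimeCore_characteristic p G
  refine Core.pLengthLE_of_quotient_of_coprime _ hN (Core.pLengthLE_one_iff_coprime_index.2 (Nat.Coprime.coprime_dvd_left
    (index_dvd_of_le Core.pCore_le_pPrimePCore) ((Nat.Prime.coprime_iff_not_dvd hp').2 fun hd => ?_).symm))
  set N := pPrimeCore p G
  have hP := Core.isPSolvable_quotient hp' hG N
  have hO : pPrimeCore p (G ⧸ N) = ⊥ := Core.pPrimeCore_quotient_pPrimeCore
  have key := fun x => FG.cent_ppp (x := x) hP hO hd fun K hK x y hx hy h => by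
    obtain ⟨x, hx, rfl⟩ := FG.exists_lift_prime N hN hx
    obtain ⟨y, hy, rfl⟩ := FG.exists_lift_prime N hN hy
    obtain ⟨a, ha⟩ := htrans (zpowers x) (zpowers y) (by rwa [Nat.card_zpowers]) (by rwa [Nat.card_zpowers])
    haveI := Characteristic.comap_quotient_mk hK
    obtain ⟨z, hz, rfl⟩ := ha.ge (mem_zpowers y)
    exact PGrp.apply_mem_of_characteristic (H := K.comap (QuotientGroup.mk' N)) a (zpowers_le.2 (show x ∈ K.comap (QuotientGroup.mk' N) from h) hz)
  set Q := pCore p (G ⧸ N)
  set L := (pPrimeCore p ((G ⧸ N) ⧸ Q)).comap (QuotientGroup.mk' Q)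
  have hQ : IsPGroup p Q := Core.isPGroup_pCore p _
  have : IsPGroup p L := isPGroup_of_forall_pPrime fun A hA h => eq_bot_of_pPrime_le h hQ ((Coprime.le_centralizer_of_omega_one hp hQ le_normalizer_of_normal' h
    fun x _ e => by
      by_cases e' : x = 1
      · rw [e']; exact one_mem _
      exact centralizer_le hA (key x (orderOf_eq_prime e e')).2).trans (Core.centralizer_pCore_le_of_isPSolvable hp' hP hO))
  have e := Core.eq_bot_of_isPGroup_of_coprime hp' (map_comap_eq_self_of_surjective (QuotientGroup.mk'_surjective Q) _ ▸ this.map (QuotientGroup.mk' Q))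
    (Core.coprime_card_pPrimeCore p _)
  haveI : Nontrivial ((G ⧸ N) ⧸ Q) := by
    rw [← Finite.one_lt_card_iff_nontrivial, ← index]; exact hp'.one_lt.trans_le (Nat.le_of_dvd (Nat.pos_of_ne_zero FiniteIndex.index_ne_zero) hd)
  exact (Core.pCore_ne_bot_or_of_isPSolvable hp' (Core.isPSolvable_quotient hp' hP Q)).elim (· Core.pCore_quotient_pCore) (· e)

end Cfsg.Agent.S3798
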