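import Cfsg.Statements.S3799
import Cfsg.Agent.Lib.PGrp.Extra

set_option autoImplicit false
open Cfsg

namespace Cfsg.Agent.S3799

open Cfsg.Lib.PGrp Cfsg.Lib.Forms Subgroup Module
open scoped commutatorElement

variable {F : Type} [Field F] {n : ℕ}

/-- The bilinear form `((a, b), (c, d)) ↦ a · d`. -/
def bil (F : Type) [Field F] (n : ℕ) : LinearMap.BilinForm F ((Fin n → F) × (Fin n → F)) :=
  LinearMap.mk₂ F (fun x y => x.1 ⬝ᵥ y.2) (by simp) (by simp) (by simp) (by simp)

/-- The natural representation of the Heisenberg group. -/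
def rep : Heis (bil F n) →* Module.End F (F × (Fin n → F) × F) where
  toFun g :=
    { toFun := fun x => (x.1 + g.v.1 ⬝ᵥ x.2.1 + g.a * x.2.2, x.2.1 + x.2.2 • g.v.2, x.2.2)
      map_add' := fun x y => by ext <;> simp <;> ring
      map_smul' := fun c x => by ext <;> simp <;> ring }
  map_one' := LinearMap.ext fun x => by simp
  map_mul' g h := LinearMap.ext fun x => by
    ext <;> simp [Heis.mul_v g h, Heis.mul_a g h, show bil F n g.v h.v = g.v.1 ⬝ᵥ h.v.2 from rfl] <;> ring

theorem rep_injective : Function.Injective (rep : Heis (bil F n) → _) := (injective_iff_map_eq_one _).2 fun g h => by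
  have h1 := LinearMap.congr_fun h (0, 0, 1)
  simp only [rep, Prod.ext_iff] at h1
  exact Heis.ext (Prod.ext (funext fun i => by simpa [rep] using LinearMap.congr_fun h (0, Pi.single i 1, 0))
    (by simpa using h1.2.1)) (by simpa using h1.1)

/-- For every odd prime p and every n ≥ 1 there is an extraspecial p-group of order p^(1+2n) and exponent p; concretely, the general linear group of degree n + 2 over the field with p elements contains such a subgroup. -/
theorem result (p : ℕ) [Fact p.Prime] (hp : p ≠ 2) (n : ℕ) (hn : 1 ≤ n) : ∃ E : Subgroup (Matrix.GeneralLinearGroup (Fin (n + 2)) (ZMod p)), Cfsg.IsExtraspecial p ↥E ∧ Nat.card E = p ^ (1 + 2 * n) ∧ ∀ x ∈ E, x ^ p = 1 := by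
  let e : (ZMod p × (Fin n → ZMod p) × ZMod p) ≃ₗ[ZMod p] (Fin (n + 2) → ZMod p) :=
    LinearEquiv.ofFinrankEq _ _ (by simp; ring)
  let φ : Heis (bil (ZMod p) n) →* GL (Fin (n + 2)) (ZMod p) :=
    ((Matrix.toLinAlgEquiv'.symm.toRingEquiv.toMonoidHom.comp e.conjRingEquiv.toMonoidHom).comp
      rep).toHomUnits
  have hφ : Function.Injective φ := fun x y h =>
    rep_injective (e.conjRingEquiv.injective (Matrix.toLinAlgEquiv'.symm.injective (congrArg Units.val h)))
  let M := (Heis.cExt (bil (ZMod p) n)).congr (MonoidHom.ofInjective hφ)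
  haveI : Nonempty (Fin n) := ⟨⟨0, hn⟩⟩
  refine ⟨φ.range, M.isExtraspecial (CExt.congr_nondeg _ _ fun v hv => Prod.ext (funext fun i => ?_) (funext fun i => ?_)),
    by rw [M.card_eq_pow]; simp [two_mul, add_comm], ?_⟩
  · simpa [bil] using (Heis.cExt_B _ _ _).symm.trans (hv (0, Pi.single i 1))
  · simpa [bil] using (Heis.cExt_B _ _ _).symm.trans (hv (Pi.single i 1, 0))
  · rintro _ ⟨x, rfl⟩
    obtain ⟨k, hk⟩ := dvd_choose_two_of_odd ((Fact.out : p.Prime).odd_of_ne_two hp)
    rw [← map_pow, (Heis.cExt _).P_eq_zero.1 (by simp [Heis.cExt_P, hk]), map_one]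

end Cfsg.Agent.S3799
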