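import Cfsg.Statements.S3803
import Cfsg.Agent.Lib.FG.Act
import Cfsg.Agent.Lib.BG2.Rank

set_option autoImplicit false
open Cfsg

open Subgroup Cfsg.Lib
open scoped commutatorElement
open BG1
namespace Cfsg.Agent.S3803

/-- Let P be a 2-subgroup and A a subgroup of odd order of a finite group, with A normalizing P. Let D ≤ P with 1 < |D| < |P|. If every subgroup of P of order |D|, and also every subgroup of P of order 4 in case |D| = 2, is normalized by A, then A centralizes P. -/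
theorem result {X : Type*} [Group X] [Finite X] (P A D : Subgroup X) (hP : IsPGroup 2 P) (hA : Odd (Nat.card A))
    (hAP : A ≤ Subgroup.normalizer (P : Set X)) (hDP : D ≤ P) (hD1 : 1 < Nat.card D) (hD2 : Nat.card D < Nat.card P)
    (hinv : ∀ E : Subgroup X, E ≤ P → (Nat.card E = Nat.card D ∨ (Nat.card D = 2 ∧ Nat.card E = 4)) → A ≤ Subgroup.normalizer (E : Set X)) :
    A ≤ Subgroup.centralizer (P : Set X) := by
  have : Fact (Nat.Prime 2) := ⟨Nat.prime_two⟩
  refine Coprime.le_centralizer_of_omega_two hP hAP (Nat.coprime_two_right.2 hA) fun x hx h4 => ?_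
  suffices ∃ E ≤ P, x ∈ E ∧ A ≤ 𝐂(E) from let ⟨E, _, h1, h2⟩ := this; le_cent_symm h2 h1
  have hx' := zpowers_le.2 hx
  have h1 : Nat.card (zpowers x) ∣ 2 ^ 2 := by rw [Nat.card_zpowers]; exact orderOf_dvd_of_pow_eq_one h4
  by_cases h2 : Nat.card D = 2
  · refine ⟨_, hx', mem_zpowers x, FG.le_cent_of_isCyclic_two (hP.to_le hx') hA ?_ inferInstance⟩
    obtain ⟨i, hi, e⟩ := (Nat.dvd_prime_pow Nat.prime_two).1 h1
    interval_cases i
    · rw [card_eq_one.1 e]; exact le_norm_bot A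
    · exact hinv _ hx' (.inl (e.trans h2.symm))
    · exact hinv _ hx' (.inr ⟨h2, e⟩)
  obtain ⟨d, hd⟩ := IsPGroup.iff_card.1 (hP.to_le hDP)
  have h3 : 2 ^ 2 ≤ Nat.card D := PGrp.pow_succ_le_card_of_lt (hP.to_le hDP) (by omega)
  obtain ⟨F, h5, h6, h7⟩ := BG2.exists_between_card_eq hP hx' d (hd ▸ (Nat.le_of_dvd four_pos h1).trans h3) (hd ▸ hD2.le)
  by_cases h8 : IsCyclic F
  · exact ⟨F, h6, h5 (mem_zpowers x), FG.le_cent_of_isCyclic_two (hP.to_le h6) hA (hinv F h6 (.inl (h7.trans hd.symm))) h8⟩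
  obtain ⟨E, h9, h10, h11⟩ := BG2.exists_between_card_eq hP h6 (d + 1) (h7 ▸ Nat.pow_le_pow_right two_pos d.le_succ)
    (PGrp.pow_succ_le_card_of_lt hP (hd ▸ hD2))
  refine ⟨E, h10, h9 (h5 (mem_zpowers x)), FG.le_cent_of_max_two (hP.to_le h10) hA (fun a ha => Core.mem_normalizer_of_conj_mem fun e he => ?_)
    fun M hM e => hinv M (hM.trans h10) (.inl ?_)⟩
  · obtain ⟨M, h12, h13, h14⟩ := BG2.exists_between_card_eq (hP.to_le h10) (zpowers_le.2 he) d (PGrp.card_le_pow_of_lt ((hP.to_le h10).to_le (zpowers_le.2 he))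
      (h11 ▸ PGrp.card_lt_of_lt (lt_of_le_of_ne (zpowers_le.2 he) fun e' => h8 (PGrp.isCyclic_of_le' (C := zpowers e) inferInstance (e' ▸ h9)))))
      (h11 ▸ Nat.pow_le_pow_right two_pos d.le_succ)
    exact h13 (Coprime.conj_mem (hinv M (h13.trans h10) (.inl (h14.trans hd.symm))) ha (h12 (mem_zpowers e)))
  · have := Core.card_mul_relIndex hM
    rw [e, h11, pow_succ] at this
    omega

end Cfsg.Agent.S3803
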