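import Cfsg.Statements.S3806
import Cfsg.Agent.Lib.Fus3.MaxCl

set_option autoImplicit false
open Cfsg

namespace Cfsg.Agent.S3806

open Cfsg.Lib Cfsg.Lib.Fus Cfsg.Lib.PGrp Subgroup
open scoped commutatorElement

theorem card_le_of_section {G : Type*} [Group G] [Finite G] {p k : ℕ} (h : SectionalPRankLE p k G) {H N : Subgroup G}
    (hN : N ≤ H) (h1 : ∀ x ∈ H, ∀ y ∈ H, ⁅x, y⁆ ∈ N) (h2 : ∀ x ∈ H, x ^ p ∈ N) :
    Nat.card H ≤ p ^ k * Nat.card N := by
  have : (N.subgroupOf H).Normal := normal_of_commutator_mem fun x _ g => h1 x x.2 g g.2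
  have k := h H (N.subgroupOf H) ⊤ (isMulCommutative_top_iff.mpr fun x y => by
    obtain ⟨x, rfl⟩ := QuotientGroup.mk_surjective x
    obtain ⟨y, rfl⟩ := QuotientGroup.mk_surjective y
    rw [← commutatorElement_eq_one_iff_mul_comm]
    exact (QuotientGroup.eq_one_iff ⁅x, y⁆).mpr (h1 x x.2 y y.2)) fun x _ => by
      obtain ⟨x, rfl⟩ := QuotientGroup.mk_surjective x
      exact (QuotientGroup.eq_one_iff (x ^ p)).mpr (h2 x x.2)
  rw [← (N.subgroupOf H).index_mul_card, Core.card_subgroupOf_of_le hN]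
  exact Nat.mul_le_mul_right _ (by rwa [card_top] at k)

/-- Let p be a prime and S a finite p-group of order pⁿ (n ≥ 2) of maximal nilpotency class n − 1 whose sectional p-rank is exactly k (every section has p-rank at most k, and some section has p-rank k). If p ≥ k + 2 then the order of S is at most p^(2k). -/
theorem result {S : Type*} [Group S] [Finite S] (p : ℕ) [Fact p.Prime] (hS : IsPGroup p S) [Group.IsNilpotent S]
    (n : ℕ) (hn : 2 ≤ n) (hcard : Nat.card S = p ^ n) (hmax : Group.nilpotencyClass S = n - 1)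
    (k : ℕ) (hk : 1 ≤ k) (hsr : Cfsg.SectionalPRankLE p k S ∧ ¬ Cfsg.SectionalPRankLE p (k - 1) S)
    (hpk : k + 2 ≤ p) : Nat.card S ≤ p ^ (2 * k) := by
  have hp1 := (Fact.out : p.Prime).one_lt
  rw [hcard, Nat.pow_le_pow_iff_right hp1]
  rcases (show n = 2 ∨ n = 3 ∨ 4 ≤ n by omega) with rfl | rfl | h4
  · omega
  · by_contra e
    obtain rfl : k = 1 := by omega
    have := card_le_of_section hsr.1 (le_top : frattini S ≤ ⊤)
      (fun x _ y _ => commutator_le_frattini hS (commutator_mem x y)) fun x _ => pow_mem_frattini hS x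
    rw [card_top, ← (frattini S).index_mul_card, pow_one] at this
    refine not_isCyclic_of_maxClass hmax le_rfl (isCyclic_of_quotient_le_frattini _ le_rfl
      (isCyclic_of_card_dvd_prime (p := p) ?_))
    rcases eq_top_or_index_eq hS (Nat.le_of_mul_le_mul_right this Nat.card_pos) with e | e
    · rw [← index_eq_card, e, index_top]; exact one_dvd p
    · rw [← index_eq_card, e]
  obtain ⟨G, h, hb, -⟩ := exists_mxc (S := (⊤ : Subgroup S)) (by rwa [card_top]) h4 fun e => by
    have := Subgroup.lowerCentralSeries_eq_bot_iff_nilpotencyClass_le.mp e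
    omega
  obtain ⟨y, hy, hy'⟩ := (h.ip (n / 2) (by omega)).exists_not_mem
  have c : ∀ u ∈ G (n / 2), ∀ v ∈ G (n / 2 + 1), ⁅v, u⁆ ∈ G n := fun u hu v hv => h.anti (by omega) (h.c1 _ _ v hv u hu)
  have := card_le_of_section hsr.1 (h.anti (show n / 2 ≤ min n (n / 2 + p - 1) by omega))
    (fun u hu v hv => h.last_le _ (h.ext_left hy hy' (mem_top v) (comm_symm
      (h.ext_left hy hy' (mem_top y) (by simp) (c y hy) v hv)) (c v hv) u hu))
    fun u hu => h.anti (by omega) (h.pow_mem (by omega) hu)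
  rw [h.card_eq hb (n - n / 2) _ (by omega), h.card_eq hb (n - min n (n / 2 + p - 1)) _ (by omega), ← pow_add,
    Nat.pow_le_pow_iff_right hp1] at this
  omega

end Cfsg.Agent.S3806
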