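import Cfsg.Statements.S3807
import Cfsg.Agent.Lib.FG.Count
import Cfsg.Agent.Lib.PGrp.Rank2

set_option autoImplicit false
open Cfsg

open Subgroup Cfsg.Lib
open scoped commutatorElement
namespace Cfsg.Agent.S3807

/-- Let S be a non-abelian finite p-group with an abelian subgroup A of index p. Then [S : Z(S)] = p·#[S,S], and either [S,S] has order p, S/Z(S) is elementary abelian of order p², and S has exactly p + 1 abelian subgroups of index p; or [S,S] has order at least p² and A is the only abelian subgroup of index p in S. -/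
theorem result {S : Type*} [Group S] [Finite S] (p : ℕ) [Fact p.Prime] (hS : IsPGroup p S) (hna : ¬ IsMulCommutative S)
    (A : Subgroup S) (hA : IsMulCommutative ↥A) (hAi : A.index = p) :
    (Subgroup.center S).index = p * Nat.card (commutator S) ∧
      ((Nat.card (commutator S) = p ∧ Cfsg.IsElementaryAbelian p (⊤ : Subgroup (S ⧸ Subgroup.center S)) ∧
          Nat.card (S ⧸ Subgroup.center S) = p ^ 2 ∧
          Nat.card {B : Subgroup S // IsMulCommutative ↥B ∧ B.index = p} = p + 1) ∨
        (p ^ 2 ≤ Nat.card (commutator S) ∧ ∀ B : Subgroup S, IsMulCommutative ↥B → B.index = p → B = A)) := by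
  have hp := (Fact.out : p.Prime)
  have hZ : ∀ B : Subgroup S, IsMulCommutative B → B.index = p → center S ≤ B := fun B hB hi z hz => by
    by_contra h
    exact hna ⟨⟨PGrp.isMulCommutative_top_iff.1 (PGrp.sup_zpowers_eq_top_of_index_eq hS hi h ▸
      PGrp.isMulCommutative_sup_zpowers hB (center_le_centralizer _ hz))⟩⟩
  have := PGrp.normal_of_index_eq hS hAi
  obtain ⟨x, hx⟩ := PGrp.exists_not_mem_of_index_eq hAi
  have hx' := PGrp.sup_zpowers_eq_top_of_index_eq hS hAi hx
  have h1 := PGrp.card_commutator_mul hA hx'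
  rw [show A ⊓ centralizer {x} = center S from le_antisymm (fun a ha => Hall.cent_eq_top_iff.1 (top_unique (hx' ▸ sup_le
    (fun b hb => Hall.mem_cent_iff.2 (PGrp.comm_of_mem hA hb ha.1)) (zpowers_le.2 (Hall.mem_cent_iff.2 (Hall.mem_cent_iff.1 ha.2).symm)))))
    (le_inf (hZ A hA hAi) (center_le_centralizer _))] at h1
  have h2 : (center S).index = p * Nat.card (_root_.commutator S) :=
    Nat.eq_of_mul_eq_mul_right (Nat.card_pos (α := center S)) (by rw [index_mul_card, mul_assoc, h1, ← hAi, index_mul_card])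
  refine ⟨h2, ?_⟩
  by_cases h3 : Nat.card (_root_.commutator S) = p
  · have h4 : Nat.card (S ⧸ center S) = p ^ 2 := by rw [← index_eq_card, h2, h3, sq]
    have h5 : ¬ IsCyclic (S ⧸ center S) := fun h => by
      obtain ⟨b, hb⟩ := (PGrp.isCyclic_quotient_iff _).1 h
      exact hna ⟨⟨PGrp.comm_of_sup_zpowers_eq_top le_rfl hb⟩⟩
    have hc : IsMulCommutative (⊤ : Subgroup (S ⧸ center S)) :=
      PGrp.isMulCommutative_of_card_le_sq ((hS.to_quotient _).to_subgroup _) (by rw [card_top, h4])
    refine .inl ⟨h3, ⟨hc, fun a _ => ?_⟩, h4, ?_⟩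
    · obtain ⟨i, hi, e⟩ := (Nat.dvd_prime_pow hp).1 (h4 ▸ orderOf_dvd_natCard a)
      refine orderOf_dvd_iff_pow_eq_one.1 (e ▸ (pow_dvd_pow p (?_ : i ≤ 1)).trans (pow_one p).dvd)
      by_contra h
      exact h5 (isCyclic_of_orderOf_eq_card a (by rw [e, h4, show i = 2 by omega]))
    have h6 := PGrp.card_index_eq_of_commutator (hS.to_quotient (center S)) (by
      rw [(commutator_eq_bot_iff_center_eq_top _).2 (top_unique fun a _ => mem_center_iff.2 fun g => PGrp.isMulCommutative_top_iff.1 hc g a),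
        index_bot, h4]) h5
    have h7 := FG.card_comap_congr (center S) (·.index = p)
    simp only [index_comap_of_surjective _ (QuotientGroup.mk'_surjective _)] at h7
    rw [Nat.card_congr (Equiv.subtypeEquivRight (q := (·.index = p)) fun N => ⟨fun h => h.2, fun h =>
      ⟨PGrp.normal_of_index_eq (hS.to_quotient _) h, h⟩⟩), h7] at h6
    rw [← h6]
    refine Nat.card_congr (Equiv.subtypeEquivRight fun B => ⟨fun h => ⟨hZ B h.1 h.2, h.2⟩, fun h => ⟨?_, h.2⟩⟩)
    have h8 : Nat.card B = p * Nat.card (center S) := Nat.eq_of_mul_eq_mul_left hp.pos (by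
      rw [← mul_assoc, ← sq, ← h4, ← index_eq_card, index_mul_card, ← h.2, index_mul_card])
    obtain ⟨b, hb, hb1, hb2, -⟩ := PGrp.exists_mem_central_mod hS (center S) B (hN := PGrp.normal_of_index_eq hS h.2) fun h' => by
      have := Nat.le_of_dvd Nat.card_pos (card_dvd_of_le h')
      nlinarith [hp.two_le, Nat.card_pos (α := center S)]
    rw [← PGrp.eq_of_le_of_card_le (sup_le h.1 (zpowers_le.2 hb)) (by rw [h8, PGrp.card_sup_zpowers hb1 hb2])]
    exact PGrp.isMulCommutative_sup_zpowers inferInstance ((PGrp.centralizer_eq_top_of_le_center le_rfl).ge (mem_top b))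
  have h4 : p ^ 2 ≤ Nat.card (_root_.commutator S) := PGrp.pow_succ_le_card_of_lt (hS.to_subgroup _) (not_le.1 fun h =>
    (PGrp.eq_bot_or_card_eq (hS.to_subgroup _) (h.trans (pow_one p).le)).elim (fun h => hna ⟨⟨fun a b =>
      (mem_center_iff.1 (((commutator_eq_bot_iff_center_eq_top _).1 h).ge (mem_top b)) a)⟩⟩) h3)
  refine .inr ⟨h4, fun B hB hBi => ?_⟩
  by_contra hne
  obtain ⟨b, hb, hbA⟩ : ∃ b ∈ B, b ∉ A := by
    by_contra! h
    exact hne (PGrp.eq_of_le_of_card_le h (Nat.le_of_mul_le_mul_left (by rw [← hAi, index_mul_card, hAi, ← hBi, index_mul_card]) hp.pos))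
  have h5 : A ⊓ B ≤ center S := fun a ha => Hall.cent_eq_top_iff.1 (top_unique (PGrp.sup_zpowers_eq_top_of_index_eq hS hAi hbA ▸ sup_le
    (fun c hc => Hall.mem_cent_iff.2 (PGrp.comm_of_mem hA hc ha.1)) (zpowers_le.2 (Hall.mem_cent_iff.2 (PGrp.comm_of_mem hB hb ha.2)))))
  have h6 := (Nat.le_of_dvd (Nat.pos_of_ne_zero index_ne_zero_of_finite) (index_dvd_of_le h5)).trans (index_inf_le (H := A) (K := B))
  rw [h2, hAi, hBi] at h6
  nlinarith [Nat.le_of_mul_le_mul_left h6 hp.pos, hp.two_le]

end Cfsg.Agent.S3807
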