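import Cfsg.Statements.S3808
import Cfsg.Agent.Lib.PGrp.MaxClass
import Cfsg.Agent.Lib.PGrp.Rank2
import Cfsg.Agent.Lib.Core.Basic

set_option autoImplicit false
open Cfsg

open Subgroup Cfsg.Lib
open scoped commutatorElement
namespace Cfsg.Agent.S3808

/-- Let S be a finite p-group with an extraspecial subgroup Q of index p. Then either Z(S) = Z(Q), or S = Q·Z(S) and Z(S) has order p². -/
theorem result {S : Type*} [Group S] [Finite S] (p : ℕ) [Fact p.Prime] (hS : IsPGroup p S) (Q : Subgroup S) (hQ : Cfsg.IsExtraspecial p ↥Q) (hQi : Q.index = p) :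
    Subgroup.center S = (Subgroup.center ↥Q).map Q.subtype ∨
      (Q ⊔ Subgroup.center S = ⊤ ∧ Nat.card (Subgroup.center S) = p ^ 2) := by
  have hp := (Fact.out : p.Prime)
  have := PGrp.normal_of_index_eq hS hQi
  have h1 : Nat.card ↥(Q ⊓ centralizer (Q : Set S)) = p := by rw [← Core.map_subtype_center, Core.card_map_subtype, hQ.2]
  have h2 : Q ⊓ center S = Q ⊓ centralizer (Q : Set S) :=
    le_antisymm (inf_le_inf_left _ (center_le_centralizer _)) (le_inf inf_le_left (PGrp.le_center_of_card_eq hS _ h1))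
  rw [Core.map_subtype_center, ← h2]
  by_cases h : center S ≤ Q
  · exact .inl (inf_eq_right.2 h).symm
  obtain ⟨z, hz, hzQ⟩ := SetLike.not_le_iff_exists.1 h
  have h3 : Q ⊔ center S = ⊤ := top_unique (PGrp.sup_zpowers_eq_top_of_index_eq hS hQi hzQ ▸ sup_le_sup_left (zpowers_le.2 hz) _)
  have h4 := PGrp.card_sup_mul_card_inf Q (center S)
  rw [h3, h2, h1, card_top, ← Q.card_mul_index, hQi, mul_assoc] at h4
  exact .inr ⟨h3, (Nat.eq_of_mul_eq_mul_left Nat.card_pos h4).symm.trans (sq p).symm⟩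

end Cfsg.Agent.S3808
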