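import Cfsg.Statements.S3809
import Cfsg.Agent.Lib.PGrp.CExt
import Cfsg.Agent.Lib.PGrp.Rank2
import Cfsg.Agent.Lib.Core.Basic

set_option autoImplicit false
open Cfsg

open Subgroup Cfsg.Lib
open scoped commutatorElement
namespace Cfsg.Agent.S3809

/-- Let S be a finite p-group with an extraspecial subgroup of index p. Then S has order p^(2+2n) for some n ≥ 1, derived length at most 3, and exponent dividing p³. -/
theorem result {S : Type*} [Group S] [Finite S] (p : ℕ) [Fact p.Prime] (hS : IsPGroup p S) (Q : Subgroup S) (hQ : Cfsg.IsExtraspecial p ↥Q) (hQi : Q.index = p) :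
    (∃ n : ℕ, 1 ≤ n ∧ Nat.card S = p ^ (2 + 2 * n)) ∧ derivedSeries S 3 = ⊥ ∧ ∀ x : S, x ^ (p ^ 3) = 1 := by
  have := PGrp.normal_of_index_eq hS hQi
  obtain ⟨h1, h2⟩ := PGrp.commutator_le_and_pow_mem_of_index_eq Q hQi
  refine ⟨?_, ?_, fun x => ?_⟩
  · obtain ⟨V, _, _, _, M, m, -, hm⟩ := PGrp.IsExtraspecial.exists_cExt hQ
    exact ⟨m + 1, by omega, by rw [← Q.index_mul_card, hQi, M.card_eq_pow, hm]; ring⟩
  · have h3 : derivedSeries S 2 ≤ (center Q).map Q.subtype := by
      rw [← hQ.1.2.2, map_subtype_commutator]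
      exact commutator_mono h1 h1
    rw [Core.map_subtype_center] at h3
    exact commutator_eq_bot_iff_le_centralizer.2 ((h3.trans inf_le_right).trans (centralizer_le (h3.trans inf_le_left)))
  · have h3 := hQ.1.2.1 ▸ PGrp.pow_mem_frattini hQ.1.1 ⟨_, h2 x⟩
    have h4 := congrArg (fun y : center Q => ((y : Q) : S)) (pow_card_eq_one' (x := (⟨_, h3⟩ : center Q)))
    simpa [hQ.2, ← pow_mul, pow_succ] using h4

end Cfsg.Agent.S3809
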