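import Cfsg.Statements.S3810
import Cfsg.Agent.S3807
import Cfsg.Agent.Lib.Core.Basic

set_option autoImplicit false
open Cfsg

open Subgroup Cfsg.Lib
open scoped commutatorElement
namespace Cfsg.Agent.S3810

/-- Let S be a finite p-group with an extraspecial subgroup of index p. Then S has an abelian subgroup of index p if and only if S has order p⁴. -/
theorem result {S : Type*} [Group S] [Finite S] (p : ℕ) [Fact p.Prime] (hS : IsPGroup p S) (Q : Subgroup S) (hQ : Cfsg.IsExtraspecial p ↥Q) (hQi : Q.index = p) :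
    (∃ A : Subgroup S, IsMulCommutative ↥A ∧ A.index = p) ↔ Nat.card S = p ^ 4 := by
  have hp := (Fact.out : p.Prime)
  have hna : ¬ IsMulCommutative Q := fun h => by
    have h1 : center Q = ⊤ := top_unique fun a _ => mem_center_iff.2 fun g => h.1.1 g a
    have h2 := hQ.2
    rw [← hQ.1.2.2, (commutator_eq_bot_iff_center_eq_top _).2 h1, card_bot] at h2
    exact hp.ne_one h2.symm
  refine ⟨fun ⟨A, hA, hAi⟩ => ?_, fun h => ?_⟩
  · have h1 : (A.subgroupOf Q).index = p := (PGrp.eq_top_or_index_eq hQ.1.1 (hAi ▸ PGrp.relIndex_le_index A Q)).resolve_left fun h =>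
      hna (PGrp.isMulCommutative_of_le hA (subgroupOf_eq_top.1 h))
    have h2 := (Cfsg.Agent.S3807.result p hQ.1.1 hna _ inferInstance h1).1
    rw [← Q.index_mul_card, ← (center Q).index_mul_card, h2, hQ.1.2.2, hQ.2, hQi]; ring
  obtain ⟨N, hN, -, h1⟩ := PGrp.exists_normal_le_card_eq hS ⊤ 2 (by rw [card_top, h]; exact Nat.pow_le_pow_right hp.pos (by omega))
  have hc := PGrp.isMulCommutative_of_card_le_sq (hS.to_subgroup N) h1.le
  obtain ⟨b, hb, hb1, hb2, -⟩ := PGrp.exists_mem_central_mod hS N (centralizer (N : Set S)) fun h' => by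
    have h2 := (Nat.le_of_dvd (Nat.pos_of_ne_zero index_ne_zero_of_finite) (index_dvd_of_le h')).trans
      (PGrp.index_centralizer_le_of_card_le_sq hS N h1.le)
    have h3 := Nat.mul_le_mul_right (p ^ 2) h2
    rw [← h1, index_mul_card, h, h1, ← pow_succ'] at h3
    exact absurd ((Nat.pow_le_pow_iff_right hp.one_lt).1 h3) (by omega)
  refine ⟨_, PGrp.isMulCommutative_sup_zpowers hc hb, Nat.eq_of_mul_eq_mul_right (pow_pos hp.pos 3) ?_⟩
  rw [show p ^ 3 = p * p ^ 2 by ring, ← h1, ← PGrp.card_sup_zpowers hb1 hb2, index_mul_card, PGrp.card_sup_zpowers hb1 hb2, h, h1]; ring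

end Cfsg.Agent.S3810
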