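import Cfsg.Statements.S3811
import Cfsg.Agent.Lib.Fus.SylowMod

set_option autoImplicit false
open Cfsg

namespace Cfsg.Agent.S3811

open Subgroup
open scoped commutatorElement

variable {P : Type*} [Group P] {p : ℕ} {D E Z K : Subgroup P}

/-- elements centralising `X` modulo the normal subgroup `D` -/
def CD (D : Subgroup P) (hD : D.Normal) (X : Set P) : Subgroup P where
  carrier := {g | ∀ x ∈ X, ⁅x, g⁆ ∈ D}
  one_mem' := by intro x _; simp [D.one_mem]
  mul_mem' := by
    intro a b ha hb x hx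
    have : ⁅x, a * b⁆ = ⁅x, a⁆ * (a * ⁅x, b⁆ * a⁻¹) := by simp only [commutatorElement_def]; group
    rw [this]; exact D.mul_mem (ha x hx) (hD.conj_mem _ (hb x hx) a)
  inv_mem' := by
    intro a ha x hx
    have : ⁅x, a⁻¹⁆ = a⁻¹ * ⁅x, a⁆⁻¹ * a⁻¹⁻¹ := by simp only [commutatorElement_def]; group
    rw [this]; exact hD.conj_mem _ (D.inv_mem (ha x hx)) _

theorem mem_CD {hD : D.Normal} {X : Set P} {g : P} : g ∈ CD D hD X ↔ ∀ x ∈ X, ⁅x, g⁆ ∈ D := Iff.rfl

theorem cm_symm {a b : P} (h : ⁅a, b⁆ ∈ D) : ⁅b, a⁆ ∈ D := by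
  rw [← commutatorElement_inv]; exact D.inv_mem h

theorem cm_conj (hD : D.Normal) {a b : P} (h : ⁅a, b⁆ ∈ D) (g : P) : ⁅g * a * g⁻¹, g * b * g⁻¹⁆ ∈ D := by
  have : ⁅g * a * g⁻¹, g * b * g⁻¹⁆ = g * ⁅a, b⁆ * g⁻¹ := by simp only [commutatorElement_def]; group
  rw [this]; exact hD.conj_mem _ h g

structure Soft (p : ℕ) (D E : Subgroup P) : Prop where
  nD : D.Normal
  le : D ≤ E
  ab : ∀ a ∈ E, ∀ b ∈ E, ⁅a, b⁆ ∈ D
  sc : ∀ x, (∀ e ∈ E, ⁅e, x⁆ ∈ D) → x ∈ E
  idx : E.relIndex (normalizer (E : Set P)) = p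

theorem norm_of_cm [Finite P] {x : P} (h : ∀ e ∈ E, ⁅e, x⁆ ∈ E) : x ∈ normalizer (E : Set P) := by
  refine mem_normalizer_fintype fun e he => ?_
  have : x * e * x⁻¹ = ⁅e, x⁆⁻¹ * e := by simp only [commutatorElement_def]; group
  rw [this]; exact E.mul_mem (E.inv_mem (h e he)) he

theorem eq_or_eq [Finite P] {A B C : Subgroup P} (hp : p.Prime) (h : A.relIndex C = p) (h1 : A ≤ B) (h2 : B ≤ C) :
    B = A ∨ B = C := by
  have := relIndex_mul_relIndex A B C h1 h2
  rw [h] at this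
  rcases (Nat.dvd_prime hp).1 (Dvd.intro _ this) with h3 | h3
  · exact .inl (le_antisymm (relIndex_eq_one.1 h3) h1)
  · rw [h3] at this
    exact .inr (le_antisymm h2 (relIndex_eq_one.1 (by nlinarith [hp.pos])))

variable [Finite P] [hp : Fact p.Prime]

theorem exists_Z (hP : IsPGroup p P) (hD : D.Normal) (h : D ≠ ⊤) :
    ∃ Z : Subgroup P, Z.Normal ∧ D < Z ∧ (∀ z ∈ Z, ∀ g, ⁅z, g⁆ ∈ D) ∧
      Nat.card (Z.map (QuotientGroup.mk' D)) = p := by
  haveI : Nontrivial (P ⧸ D) := QuotientGroup.nontrivial_iff.2 h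
  have hq := hP.to_quotient D
  haveI := hq.center_nontrivial
  have hc : p ∣ Nat.card (center (P ⧸ D)) := by
    rcases (hq.to_subgroup (center (P ⧸ D))).card_eq_or_dvd with h1 | h1
    · exact absurd h1 Finite.one_lt_card.ne'
    · exact h1
  obtain ⟨z, hz⟩ := exists_prime_orderOf_dvd_card' p hc
  have hz' : orderOf (z : P ⧸ D) = p := by rw [Subgroup.orderOf_coe, hz]
  have hzc : zpowers (z : P ⧸ D) ≤ center _ := by rw [zpowers_le]; exact z.2
  have hn : (zpowers (z : P ⧸ D)).Normal := ⟨fun n hn g => by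
    rw [mem_center_iff.1 (hzc hn) g]; simpa using hn⟩
  refine ⟨(zpowers (z : P ⧸ D)).comap (QuotientGroup.mk' D), inferInstance, ?_, ?_, ?_⟩
  · refine lt_of_le_of_ne (fun d hd => ?_) fun e => ?_
    · rw [mem_comap, QuotientGroup.mk'_apply, (QuotientGroup.eq_one_iff d).2 hd]; exact one_mem _
    · obtain ⟨w, hw⟩ := QuotientGroup.mk'_surjective D z
      have : w ∈ D := by rw [e, mem_comap, hw]; exact mem_zpowers _
      rw [QuotientGroup.mk'_apply, (QuotientGroup.eq_one_iff w).2 this] at hw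
      rw [← hw, orderOf_one] at hz'; exact hp.out.one_lt.ne hz'
  · intro w hw g
    rw [← QuotientGroup.eq_one_iff, ← QuotientGroup.mk'_apply, map_commutatorElement,
      commutatorElement_eq_one_iff_mul_comm]
    exact (mem_center_iff.1 (hzc hw) _).symm
  · rw [map_comap_eq_self_of_surjective (QuotientGroup.mk'_surjective D), Nat.card_zpowers, hz']

theorem Soft.lt (h : Soft p D E) : E < normalizer (E : Set P) :=
  lt_of_le_of_ne le_normalizer fun e => hp.out.one_lt.ne' (h.idx ▸ relIndex_eq_one.2 e.ge)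

theorem Soft.sup (h : Soft p D E) {y : P} (hy : y ∈ normalizer (E : Set P)) (hy' : y ∉ E) :
    E ⊔ zpowers y = normalizer (E : Set P) := by
  refine (eq_or_eq hp.out h.idx le_sup_left (sup_le le_normalizer (zpowers_le.2 hy))).resolve_left fun e => hy' ?_
  rw [← e]; exact mem_sup_right (mem_zpowers y)

theorem Soft.der (h : Soft p D E) {y : P} (hy : y ∈ normalizer (E : Set P)) (hy' : y ∉ E)
    (hZ : ∀ n ∈ normalizer (E : Set P), ∀ z ∈ Z, n * z * n⁻¹ ∈ Z)
    (hE : ∀ a ∈ E, ∀ b ∈ E, ⁅a, b⁆ ∈ Z) (hEy : ∀ e ∈ E, ⁅e, y⁆ ∈ Z) :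
    ⁅normalizer (E : Set P), normalizer (E : Set P)⁆ ≤ Z := by
  have hs := h.sup hy hy'
  set N := normalizer (E : Set P) with hN
  have key : ∀ a : P, (∀ e ∈ E, ⁅a, e⁆ ∈ Z) → ⁅a, y⁆ ∈ Z → ∀ b ∈ N, ⁅a, b⁆ ∈ Z := by
    intro a h1 h2 b hb
    let C : Subgroup P :=
      { carrier := {g | g ∈ N ∧ ⁅a, g⁆ ∈ Z}
        one_mem' := ⟨N.one_mem, by simp [Z.one_mem]⟩
        mul_mem' := by
          rintro u v ⟨hu, hu'⟩ ⟨hv, hv'⟩
          have : ⁅a, u * v⁆ = ⁅a, u⁆ * (u * ⁅a, v⁆ * u⁻¹) := by simp only [commutatorElement_def]; group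
          exact ⟨N.mul_mem hu hv, this ▸ Z.mul_mem hu' (hZ u hu _ hv')⟩
        inv_mem' := by
          rintro u ⟨hu, hu'⟩
          have : ⁅a, u⁻¹⁆ = u⁻¹ * ⁅a, u⁆⁻¹ * u⁻¹⁻¹ := by simp only [commutatorElement_def]; group
          exact ⟨N.inv_mem hu, this ▸ hZ _ (N.inv_mem hu) _ (Z.inv_mem hu')⟩ }
    have : N ≤ C := by
      rw [← hs]
      exact sup_le (fun e he => ⟨le_normalizer he, h1 e he⟩) (zpowers_le.2 ⟨hy, h2⟩)
    exact (this hb).2
  rw [commutator_le]
  intro a ha b hb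
  refine key a (fun e he => cm_symm (key e (hE e he) (hEy e he) a ha))
    (cm_symm (key y (fun e he => cm_symm (hEy e he)) ?_ a ha)) b hb
  simp [Z.one_mem]

theorem Soft.der_le (h : Soft p D E) : ⁅normalizer (E : Set P), normalizer (E : Set P)⁆ ≤ E := by
  obtain ⟨y, hy, hy'⟩ := SetLike.exists_of_lt h.lt
  refine h.der hy hy' (fun n hn z hz => (mem_normalizer_iff.1 hn z).1 hz) (fun a ha b hb => h.le (h.ab a ha b hb))
    fun e he => ?_
  have : ⁅e, y⁆ = e * (y * e⁻¹ * y⁻¹) := by simp only [commutatorElement_def]; group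
  rw [this]; exact E.mul_mem he ((mem_normalizer_iff.1 hy _).1 (E.inv_mem he))

theorem Soft.over (hP : IsPGroup p P) (h : Soft p D E) (hK : E ≤ K) : K = E ∨ normalizer (E : Set P) ≤ K := by
  by_cases e : K = E
  · exact .inl e
  obtain ⟨g, hg, hg', hn⟩ := Cfsg.Lib.Fus.exists_mem_normalizer_of_lt (hP.to_subgroup K) (lt_of_le_of_ne hK (Ne.symm e))
  rcases eq_or_eq hp.out h.idx (le_inf hK le_normalizer) inf_le_right with h1 | h1
  · exact absurd (h1 ▸ (⟨hg, hn⟩ : g ∈ K ⊓ normalizer (E : Set P))) hg'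
  · exact .inr (h1 ▸ inf_le_left)

/-- the counting step -/
theorem Soft.count (hP : IsPGroup p P) (h : Soft p D E) (hZc : ∀ z ∈ Z, ∀ g, ⁅z, g⁆ ∈ D)
    (hc : haveI := h.nD; Nat.card (Z.map (QuotientGroup.mk' D)) = p)
    (hT : ⁅normalizer (E : Set P), normalizer (E : Set P)⁆ ≤ Z) (hN : normalizer (E : Set P) ≠ ⊤) :
    (normalizer (E : Set P)).relIndex (normalizer (normalizer (E : Set P) : Set P)) = p := by
  haveI := h.nD
  obtain ⟨y, hy, hy'⟩ := SetLike.exists_of_lt h.lt
  have hs := h.sup hy hy'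
  have hidx := h.idx
  set N := normalizer (E : Set P) with hNd
  set N₂ := normalizer (N : Set P) with hN₂
  set Z₁ := N ⊓ CD D h.nD N with hZ₁
  have hEN : E ≤ N := le_normalizer
  have hZE : Z₁ ≤ E := fun z hz => h.sc z fun e he => hz.2 e (hEN he)
  have hcm : ∀ e ∈ E, ⁅e, y⁆ ∈ Z := fun e he => hT (commutator_mem_commutator (hEN he) hy)
  let π := QuotientGroup.mk' D
  have hcen : ∀ e ∈ E, ∀ g : P, π g * π ⁅e, y⁆ = π ⁅e, y⁆ * π g := fun e he g => by
    rw [eq_comm, ← commutatorElement_eq_one_iff_mul_comm, ← map_commutatorElement]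
    exact (QuotientGroup.eq_one_iff _).2 (hZc _ (hcm e he) g)
  let φ : E →* P ⧸ D := MonoidHom.mk' (fun e => π ⁅(e : P), y⁆) (by
    intro a b
    have : ⁅((a * b : E) : P), y⁆ = a * ⁅(b : P), y⁆ * ((a : P)⁻¹ * ⁅(a : P), y⁆) := by
      simp only [commutatorElement_def, coe_mul]; group
    rw [this, map_mul, map_mul, hcen b b.2, mul_assoc, ← map_mul, mul_inv_cancel_left, hcen a a.2])
  have hker : φ.ker = Z₁.subgroupOf E := by
    ext e
    rw [MonoidHom.mem_ker, mem_subgroupOf]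
    refine ⟨fun h1 => ⟨hEN e.2, fun x hx => cm_symm ?_⟩, fun h1 => (QuotientGroup.eq_one_iff _).2 (cm_symm (h1.2 y hy))⟩
    have : N ≤ CD D h.nD {(e : P)} := by
      rw [← hs]
      refine sup_le (fun u hu v hv => ?_) (zpowers_le.2 fun v hv => ?_)
      · rw [hv]; exact h.ab _ e.2 u hu
      · rw [hv]; exact (QuotientGroup.eq_one_iff _).1 h1
    exact this hx _ rfl
  have hi : Z₁.relIndex E ∣ p := by
    rw [relIndex, ← hker, index_ker, ← hc]
    refine card_dvd_of_le ?_
    rintro _ ⟨e, rfl⟩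
    exact mem_map_of_mem _ (hcm e e.2)
  obtain ⟨e, he, he'⟩ : ∃ e ∈ E, e ∉ Z₁ := by
    by_contra! h1
    exact hy' (h.sc y fun e he => cm_symm ((h1 e he).2 y hy))
  have hi' : Z₁.relIndex E = p :=
    ((Nat.dvd_prime hp.out).1 hi).resolve_left fun h1 => he' (relIndex_eq_one.1 h1 he)
  have hE : Z₁ ⊔ zpowers e = E := by
    refine (eq_or_eq hp.out hi' le_sup_left (sup_le hZE (zpowers_le.2 he))).resolve_left fun e1 => he' ?_
    rw [← e1]; exact mem_sup_right (mem_zpowers e)
  have hinv : ∀ x ∈ N₂, ∀ z ∈ Z₁, x * z * x⁻¹ ∈ Z₁ := fun x hx z hz =>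
    ⟨(mem_normalizer_iff.1 hx z).1 hz.1, fun u hu => by
      have := cm_conj h.nD (hz.2 (x⁻¹ * u * x⁻¹⁻¹) ((mem_normalizer_iff.1 (N₂.inv_mem hx) u).1 hu)) x
      simpa [mul_assoc] using this⟩
  let ψ : N₂ ⧸ N.subgroupOf N₂ → N ⧸ Z₁.subgroupOf N := fun q =>
    QuotientGroup.mk ⟨(q.out : P) * e * (q.out : P)⁻¹, (mem_normalizer_iff.1 q.out.2 e).1 (hEN he)⟩
  have hinj : Function.Injective ψ := by
    intro q q' hq
    have h1 := QuotientGroup.eq.1 hq
    rw [mem_subgroupOf] at h1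
    have h2 := hinv _ (N₂.inv_mem q.out.2) _ h1
    rw [← q.out_eq, ← q'.out_eq]
    refine QuotientGroup.eq.2 ?_
    rw [mem_subgroupOf]
    set w : P := ((q.out⁻¹ * q'.out : N₂) : P) with hw
    have hw2 : w ∈ N₂ := (q.out⁻¹ * q'.out).2
    have h3 : w * e * w⁻¹ ∈ E := by
      have := E.mul_mem he (hZE h2)
      convert this using 1
      simp only [hw, coe_mul, coe_inv]; group
    have h4 : E ≤ E.comap (MulAut.conj w).toMonoidHom := by
      conv_lhs => rw [← hE]
      exact sup_le (fun z hz => hZE (hinv w hw2 z hz)) (zpowers_le.2 h3)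
    exact mem_normalizer_fintype fun n hn => h4 hn
  have hns : (QuotientGroup.mk 1 : N ⧸ Z₁.subgroupOf N) ∉ Set.range ψ := by
    rintro ⟨q, hq⟩
    have h1 := QuotientGroup.eq.1 hq
    rw [mem_subgroupOf] at h1
    have h2 := Z₁.inv_mem (hinv _ (N₂.inv_mem q.out.2) _ h1)
    apply he'
    convert h2 using 1
    simp only [coe_mul, coe_inv, coe_one]; group
  have hlt : N.relIndex N₂ < p ^ 2 := by
    have h1 : Z₁.relIndex N = p ^ 2 := by rw [← relIndex_mul_relIndex Z₁ E N hZE hEN, hi', hidx, sq]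
    rw [← h1]
    classical
    haveI := Fintype.ofFinite (N₂ ⧸ N.subgroupOf N₂)
    haveI := Fintype.ofFinite (N ⧸ Z₁.subgroupOf N)
    have := Fintype.card_lt_of_injective_of_notMem ψ hinj hns
    simpa [relIndex, index, Nat.card_eq_fintype_card] using this
  obtain ⟨k, hk⟩ := (hP.to_subgroup N₂).index (N.subgroupOf N₂)
  change N.relIndex N₂ = _ at hk
  obtain ⟨g, -, hg', hn⟩ := Cfsg.Lib.Fus.exists_mem_normalizer_of_lt (hP.to_subgroup ⊤) (lt_top_iff_ne_top.2 hN)
  have h0 : k ≠ 0 := by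
    rintro rfl
    exact hg' (relIndex_eq_one.1 (by simpa using hk) hn)
  rw [hk] at hlt ⊢
  have := (Nat.pow_lt_pow_iff_right hp.out.one_lt).1 hlt
  obtain rfl : k = 1 := by omega
  simp

theorem main (hP : IsPGroup p P) : ∀ (n : ℕ) (D E : Subgroup P), D.index = n → Soft p D E →
    (∀ K L : Subgroup P, E ≤ K → E ≤ L → K ≤ L ∨ L ≤ K) ∧
    (∀ K : Subgroup P, E ≤ K → K ≠ ⊤ → K.relIndex (normalizer (K : Set P)) = p) ∧
    ∀ M : Subgroup P, M.Normal → E ≤ M → M ≠ ⊤ →
      ∀ t ∈ ⁅normalizer (E : Set P), normalizer (E : Set P)⁆, ∀ m ∈ M, ⁅t, m⁆ ∈ D := by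
  intro n
  induction n using Nat.strong_induction_on with
  | _ n ih =>
  intro D E hn h
  haveI := h.nD
  obtain ⟨Z, hZ, hDZ, hZc, hc⟩ := exists_Z hP h.nD (ne_top_of_lt (h.le.trans_lt h.lt))
  have hlt : Z.index < n := hn ▸ index_strictAnti hDZ
  have hZE : Z ≤ E := fun z hz => h.sc z fun e he => cm_symm (hZc z hz e)
  by_cases hT : ⁅normalizer (E : Set P), normalizer (E : Set P)⁆ ≤ Z
  · refine and_assoc.1 ⟨?_, fun M _ _ _ t ht m _ => hZc t (hT ht) m⟩
    by_cases hN : normalizer (E : Set P) = ⊤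
    · refine ⟨fun K L hK hL => ?_, fun K hK hK' => ?_⟩
      · rcases h.over hP hK with rfl | h1
        · exact .inl hL
        · exact .inr (le_top.trans (hN ▸ h1))
      · rcases h.over hP hK with rfl | h1
        · exact h.idx
        · exact absurd (top_le_iff.1 (hN ▸ h1)) hK'
    have hs : Soft p Z (normalizer (E : Set P)) :=
      ⟨hZ, hZE.trans le_normalizer, fun a ha b hb => hT (commutator_mem_commutator ha hb),
        fun x hx => norm_of_cm fun e he => hZE (hx e (le_normalizer he)), h.count hP hZc hc hT hN⟩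
    obtain ⟨h1, h2, -⟩ := ih _ hlt Z _ rfl hs
    refine ⟨fun K L hK hL => ?_, fun K hK hK' => ?_⟩
    · rcases h.over hP hK with rfl | h3
      · exact .inl hL
      rcases h.over hP hL with rfl | h4
      · exact .inr hK
      exact h1 K L h3 h4
    · rcases h.over hP hK with rfl | h3
      · exact h.idx
      exact h2 K h3 hK'
  have hs : Soft p Z E := by
    refine ⟨hZ, hZE, fun a ha b hb => hDZ.le (h.ab a ha b hb), fun x hx => ?_, h.idx⟩
    by_contra hx'
    exact hT (h.der (norm_of_cm fun e he => hZE (hx e he)) hx' (fun n _ z hz => hZ.conj_mem z hz n)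
      (fun a ha b hb => hDZ.le (h.ab a ha b hb)) hx)
  obtain ⟨h1, h2, h3⟩ := ih _ hlt Z _ rfl hs
  refine ⟨h1, h2, fun M hM hEM hM' => ?_⟩
  set T := ⁅normalizer (E : Set P), normalizer (E : Set P)⁆ with hTd
  set C := M ⊓ CD D h.nD T with hC
  have hEC : E ≤ C := fun e he => ⟨hEM he, fun t ht => h.ab t (h.der_le ht) e he⟩
  by_contra! hcon
  obtain ⟨t₀, ht₀, m₀, hm₀, hcon⟩ := hcon
  have hCM : M ≠ C := fun e => hcon ((e ▸ hm₀ : m₀ ∈ C).2 t₀ ht₀)
  have hMN : M ≤ normalizer (C : Set P) := fun m hm => mem_normalizer_fintype fun c hc' =>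
    ⟨hM.conj_mem c hc'.1 m, fun t ht => by
      have e1 : ⁅t, m * c * m⁻¹⁆ = m * (t * ⁅⁅t⁻¹, m⁻¹⁆, c⁆ * t⁻¹ * ⁅t, c⁆) * m⁻¹ := by
        simp only [commutatorElement_def]; group
      rw [e1]
      exact h.nD.conj_mem _ (D.mul_mem (h.nD.conj_mem _ (hZc _ (h3 M hM hEM hM' _ (T.inv_mem ht) _ (M.inv_mem hm)) c) t)
        (hc'.2 t ht)) m⟩
  have hMe : M = normalizer (C : Set P) :=
    (eq_or_eq hp.out (h2 C hEC (ne_top_of_le_ne_top hM' inf_le_left)) inf_le_left hMN).resolve_left hCM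
  obtain ⟨x, -, hx⟩ := SetLike.exists_of_lt (lt_top_iff_ne_top.2 hM')
  have hEx : ¬ E ≤ C.comap (MulAut.conj x).toMonoidHom := by
    intro h4
    apply hx
    rw [hMe]
    rcases h1 _ _ hEC h4 with h5 | h5
    · exact mem_normalizer_fintype fun c hc' => h5 hc'
    · rw [← inv_mem_iff]
      refine mem_normalizer_fintype fun c hc' => h5 ?_
      simpa [mem_comap, mul_assoc] using hc'
  obtain ⟨e, he, he'⟩ := SetLike.not_le_iff_exists.1 hEx
  apply he'
  refine ⟨hM.conj_mem e (hEM he) x, fun t ht => ?_⟩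
  have h4 : x⁻¹ * t * x⁻¹⁻¹ ∈ E := hs.sc _ fun u hu => by
    have := cm_conj hZ (cm_symm (h3 M hM hEM hM' t ht _ (hM.conj_mem u (hEM hu) x))) x⁻¹
    simpa [mul_assoc] using this
  have := cm_conj h.nD (h.ab _ h4 e he) x
  simpa [mul_assoc] using this

theorem up (hP : IsPGroup p P) (hK : K.Normal) (hK' : K ≠ ⊤) : ∀ (i : ℕ) (D E : Subgroup P), Soft p D E → E ≤ K →
    E.relIndex K = p ^ i → K.lowerCentralSeries (i + 1) ≤ D := by
  intro i
  induction i with
  | zero =>
    intro D E h hE hi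
    have := relIndex_eq_one.1 (by simpa using hi : E.relIndex K = 1)
    exact commutator_le.2 fun a ha b hb => h.ab a (this ha) b (this hb)
  | succ i ih =>
    intro D E h hE hi
    obtain ⟨h1, h2, h3⟩ := main hP _ D E rfl h
    have hN : normalizer (E : Set P) ≤ K := (h.over hP hE).resolve_left (by
      rintro rfl
      rw [relIndex_self] at hi
      exact (Nat.one_lt_pow (Nat.succ_ne_zero i) hp.out.one_lt).ne hi)
    have hD' : K ⊓ CD D h.nD K ≤ E := fun x hx => h.sc x fun e he => hx.2 e (hE he)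
    have hs : Soft p (K ⊓ CD D h.nD K) (normalizer (E : Set P)) := by
      refine ⟨⟨fun x hx g => ⟨hK.conj_mem x hx.1 g, fun u hu => ?_⟩⟩, hD'.trans le_normalizer, fun a ha b hb => ?_,
        fun x hx => norm_of_cm fun e he => hD' (hx e (le_normalizer he)),
        h2 _ le_normalizer (ne_top_of_le_ne_top hK' hN)⟩
      · have := cm_conj h.nD (hx.2 _ (hK.conj_mem u hu g⁻¹)) g
        simpa [mul_assoc] using this
      · have hab := commutator_mem_commutator ha hb
        exact ⟨hE (h.der_le hab), fun u hu => cm_symm (h3 K hK hE hK' _ hab u hu)⟩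
    have hi' : (normalizer (E : Set P)).relIndex K = p ^ i := by
      have := relIndex_mul_relIndex E _ K le_normalizer hN
      rw [h.idx, hi, pow_succ'] at this
      exact Nat.eq_of_mul_eq_mul_left hp.out.pos this
    have := ih _ _ hs hN hi'
    exact commutator_le.2 fun a ha b hb => cm_symm ((this ha).2 b hb)

theorem low (h2 : ∀ K : Subgroup P, E ≤ K → K ≠ ⊤ → K.relIndex (normalizer (K : Set P)) = p) :
    ∀ (j : ℕ) (L : Subgroup P), E ≤ L → L ≤ K → K.lowerCentralSeries j ≤ L → L.relIndex K ∣ p ^ j := by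
  intro j
  induction j with
  | zero => intro L _ _ h; rw [relIndex_eq_one.2 (show K ≤ L from h)]; simp
  | succ j ih =>
    intro L hL hLK h
    have h1 : L ≤ K ⊓ normalizer (L : Set P) := le_inf hLK le_normalizer
    have h3 := ih (K ⊓ normalizer (L : Set P)) (hL.trans h1) inf_le_left fun x hx =>
      ⟨K.lowerCentralSeries_le_self j hx, norm_of_cm fun e he => cm_symm (h (commutator_mem_commutator hx (hLK he)))⟩
    rw [← relIndex_mul_relIndex L _ K h1 inf_le_left, pow_succ']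
    refine mul_dvd_mul ?_ h3
    by_cases hL' : L = ⊤
    · rw [hL', relIndex_top_left]; simp
    rw [← h2 L hL hL', ← relIndex_mul_relIndex L _ _ h1 inf_le_right]
    exact dvd_mul_right _ _

/-- Let P be a finite p-group and E an abelian subgroup of P that contains its centralizer, has index p in its normalizer, and has index at least p² in P. Then the subgroups of P containing E are totally ordered by inclusion, each proper one has index p in its normalizer (so they form the normalizer tower of E, with all steps of index p), and the i-th member of the tower above E has nilpotency class i + 1 whenever it is a proper subgroup of P. -/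
theorem result {P : Type*} [Group P] [Finite P] (p : ℕ) [Fact p.Prime] (hP : IsPGroup p P)
    (E : Subgroup P) (hEab : IsMulCommutative ↥E) (hC : Subgroup.centralizer (E : Set P) ≤ E)
    (hN : (E.subgroupOf (Subgroup.normalizer (E : Set P))).index = p) (hidx : p ^ 2 ≤ E.index) :
    (∀ K L : Subgroup P, E ≤ K → E ≤ L → K ≤ L ∨ L ≤ K) ∧
      (∀ K : Subgroup P, E ≤ K → K ≠ ⊤ → (K.subgroupOf (Subgroup.normalizer (K : Set P))).index = p) ∧
      ∀ (i : ℕ) (K : Subgroup P) [Group.IsNilpotent ↥K], E ≤ K → K ≠ ⊤ → K.index * p ^ i = E.index →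
        Group.nilpotencyClass ↥K = i + 1 := by
  have h : Soft p ⊥ E := ⟨inferInstance, bot_le, fun a ha b hb => by
      rw [mem_bot, commutatorElement_eq_one_iff_mul_comm]; exact congrArg Subtype.val (hEab.is_comm.comm ⟨a, ha⟩ ⟨b, hb⟩),
    fun x hx => hC fun e he => commutatorElement_eq_one_iff_mul_comm.1 (mem_bot.1 (hx e he)), hN⟩
  obtain ⟨h1, h2, -⟩ := main hP _ ⊥ E rfl h
  refine ⟨h1, h2, fun i K _ hK hK' hi => le_antisymm ?_ ?_⟩
  · have hi' : E.relIndex K = p ^ i := by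
      rw [← relIndex_mul_index hK, mul_comm] at hi
      exact (Nat.eq_of_mul_eq_mul_right (Nat.pos_of_ne_zero index_ne_zero_of_finite) hi).symm
    set N := normalizer (K : Set P) with hNd
    have hKN : K ≤ N := le_normalizer
    have hN1 : normalizer (E : Set P) ≤ N := by
      rcases h.over hP hK with rfl | h3
      · exact le_rfl
      · exact h3.trans hKN
    have hs : Soft p ⊥ (E.subgroupOf N) := by
      refine ⟨inferInstance, bot_le, fun a ha b hb => ?_, fun x hx => ?_, ?_⟩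
      · rw [mem_bot, Subtype.ext_iff]; exact mem_bot.1 (h.ab _ ha _ hb)
      · refine h.sc x fun e he => ?_
        have := hx ⟨e, hKN (hK he)⟩ he
        rw [mem_bot, Subtype.ext_iff] at this; exact mem_bot.2 this
      · rw [← subgroupOf_normalizer_eq (hK.trans hKN), relIndex_subgroupOf hN1, h.idx]
    have := up (hP.to_subgroup N) (K := K.subgroupOf N) inferInstance (by
      rw [Ne, subgroupOf_eq_top]
      intro h3
      have := h2 K hK hK'
      rw [relIndex_eq_one.2 h3] at this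
      exact (Fact.out : p.Prime).one_lt.ne this) i _ _ hs (fun x hx => hK hx) (by rw [relIndex_subgroupOf hKN, hi'])
    have h3 := congrArg (map N.subtype) (le_bot_iff.1 this)
    rw [map_lowerCentralSeries, map_subgroupOf_eq_of_le hKN, Subgroup.map_bot] at h3
    rw [← Subgroup.lowerCentralSeries_eq_bot_iff_nilpotencyClass_le, ← map_subtype_inj, Subgroup.map_bot,
      top_subtype_lowerCentralSeries, h3]
  · have hi' : E.relIndex K = p ^ i := by
      rw [← relIndex_mul_index hK, mul_comm] at hi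
      exact (Nat.eq_of_mul_eq_mul_right (Nat.pos_of_ne_zero index_ne_zero_of_finite) hi).symm
    by_contra hlt
    have h3 : K.lowerCentralSeries i = ⊥ := lowerCentralSeries_eq_bot_of_nilpotencyClass_le (by omega)
    rcases i with _ | j
    · have : E = ⊤ := top_le_iff.1 fun x _ => h.sc x fun e he => by
        have : e = 1 := mem_bot.1 (h3 ▸ hK he)
        simp [this]
      exact ne_top_of_lt h.lt this
    · have := low h2 j E le_rfl hK fun x hx => h.sc x fun e he =>
        cm_symm (h3 ▸ commutator_mem_commutator hx (hK he))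
      rw [hi', Nat.pow_dvd_pow_iff_le_right (Fact.out : p.Prime).one_lt] at this
      omega

end Cfsg.Agent.S3811
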