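import Cfsg.Statements.S3814
import Cfsg.Agent.Lib.Coprime.Four2

set_option autoImplicit false
open Cfsg

namespace Cfsg.Agent.S3814

/-- A criterion for nonsolvability from element orders: let G be a finite group and σ a set of at least four primes such that for all distinct p, q ∈ σ the product pq is the order of some element of G, while for all pairwise distinct p, q, r ∈ σ no element of G has order pqr. Then G is not solvable. -/
theorem result {G : Type*} [Group G] [Finite G]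
    (σ : Finset ℕ) (hσ : 4 ≤ σ.card) (hprime : ∀ p ∈ σ, p.Prime)
    (h2 : ∀ p ∈ σ, ∀ q ∈ σ, p ≠ q → ∃ g : G, orderOf g = p * q)
    (h3 : ∀ p ∈ σ, ∀ q ∈ σ, ∀ r ∈ σ, p ≠ q → q ≠ r → p ≠ r → ∀ g : G, orderOf g ≠ p * q * r) :
    ¬ Group.IsSolvable G := by
  intro hs
  obtain ⟨p, q, r, s, hp, hq, hr, hs', pq, pr, ps, qr, qs, rs⟩ := Finset.three_lt_card_iff.1 (show 3 < σ.card by omega)
  have c : ∀ a ∈ σ, ∀ b ∈ σ, a ≠ b → a.Coprime b := fun a ha b hb h => (Nat.coprime_primes (hprime a ha) (hprime b hb)).2 h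
  have t : ∀ a ∈ σ, ∀ b ∈ σ, ∀ d ∈ σ, a ≠ b → a ≠ d → b ≠ d → Cfsg.Lib.Coprime.T3 G a b d := fun a ha b hb d hd h4 h5 h6 =>
    Cfsg.Lib.Coprime.t3_of_ord (c a ha b hb h4) (c a ha d hd h5) (c b hb d hd h6) (h3 a ha b hb d hd h4 h6 h5)
  have j : ∀ a ∈ σ, ∀ b ∈ σ, a ≠ b → Cfsg.Lib.Coprime.Jn (⊤ : Subgroup G) a b := fun a ha b hb h => by
    obtain ⟨g, hg⟩ := h2 a ha b hb h
    exact Cfsg.Lib.Coprime.jn_of_ord (hprime a ha).ne_zero (hprime b hb).ne_zero (Subgroup.mem_top g) hg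
  exact Cfsg.Lib.Coprime.F4.not_solvable ⟨hprime p hp, hprime q hq, hprime r hr, hprime s hs', pq, pr, ps, qr, qs, rs,
    t p hp q hq r hr pq pr qr, t p hp q hq s hs' pq ps qs, t p hp r hr s hs' pr ps rs, t q hq r hr s hs' qr qs rs⟩
    (j p hp q hq pq) (j p hp r hr pr) (j p hp s hs' ps) (j q hq r hr qr) (j q hq s hs' qs) (j r hr s hs' rs) inferInstance

end Cfsg.Agent.S3814
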