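import Cfsg.Statements.S3818
import Cfsg.Agent.Lib.Amalg.Fl3

set_option autoImplicit false
open Cfsg

namespace Cfsg.Agent.S3818

open Subgroup Cfsg.Lib.Amalg
open Cfsg.Lib.Core hiding isPGroup_subgroupOf isPGroup_subgroupOf_iff isPGroup_map_subtype_iff isPGroup_zpowers_of_orderOf
open scoped commutatorElement

/-- Let G be a finite solvable group and P a subgroup of G of prime order p > 3 whose conjugates generate G. Let V be a faithful irreducible representation of G over a field of positive characteristic, finite-dimensional. Then the subspace of V fixed by P has dimension less than half the dimension of V. -/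
theorem result {G : Type*} [Group G] [Finite G] [Group.IsSolvable G]
    {p : ℕ} [Fact p.Prime] (hp : 3 < p) (P : Subgroup G) (hP : Nat.card P = p) (hgen : Subgroup.normalClosure (P : Set G) = ⊤)
    {k : Type*} [Field k] (ℓ : ℕ) [Fact ℓ.Prime] [CharP k ℓ]
    {V : Type*} [AddCommGroup V] [Module k V] [FiniteDimensional k V]
    (ρ : Representation k G V) [ρ.IsIrreducible] (hfaith : Function.Injective ρ) :
    2 * Module.finrank k ↥(⨅ g : ↥P, LinearMap.ker (ρ (g : G) - LinearMap.id)) < Module.finrank k V := by
  have hpp : p.Prime := Fact.out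
  have hp5 : 5 ≤ p := by
    by_contra h
    exact absurd hpp (by rw [show p = 4 by omega]; norm_num)
  obtain ⟨⟨g, hg⟩, hg1⟩ := Subgroup.ne_bot_iff_exists_ne_one.1
    (show P ≠ ⊥ from fun h => hpp.one_lt.ne (by rw [← hP, h, Subgroup.card_bot]))
  have h1 : Subgroup.zpowers g = P := by
    refine le_antisymm (Subgroup.zpowers_le.2 hg) fun x hx => ?_
    obtain ⟨i, hi⟩ := mem_zpowers_of_prime_card hP hg1 (g' := ⟨x, hx⟩)
    exact ⟨i, congrArg Subtype.val hi⟩
  have hi : Cfsg.Lib.HH.Irr ρ := by
    refine ⟨?_, fun U hU => ?_⟩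
    · by_contra h
      rw [not_nontrivial_iff_subsingleton] at h
      exact bot_ne_top (α := Subrepresentation ρ) (Subrepresentation.toSubmodule_injective (Subsingleton.elim _ _))
    · rcases eq_bot_or_eq_top (⟨U, fun g v hv => hU g v hv⟩ : Subrepresentation ρ) with h | h
      · exact Or.inl (congrArg Subrepresentation.toSubmodule h)
      · exact Or.inr (congrArg Subrepresentation.toSubmodule h)
  have h2 := Cfsg.Lib.Amalg.Fl.main hpp hp5 (g := g) (by
      have := pow_card_eq_one' (x := (⟨g, hg⟩ : P))
      rw [hP] at this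
      exact congrArg Subtype.val this) (by
      rw [eq_top_iff, ← hgen, ← h1]
      exact Subgroup.normalClosure_le_normal (Subgroup.zpowers_le.2 (Subgroup.subset_normalClosure rfl))) hi
    ⟨g, fun h => hg1 (Subtype.ext (hfaith (h.trans (map_one ρ).symm)))⟩
  exact lt_of_le_of_lt (Nat.mul_le_mul_left 2 (Submodule.finrank_mono (iInf_le _ (⟨g, hg⟩ : P)))) h2

end Cfsg.Agent.S3818
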