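import Cfsg.Statements.S3819
import Cfsg.Agent.Lib.BG1.Sec1
import Cfsg.Agent.Lib.BG1.Amb

set_option autoImplicit false
open Cfsg

namespace Cfsg.Agent.S3819

open Subgroup Cfsg.Lib.Core Cfsg.Lib.BG1 Cfsg.Lib
open Cfsg.Lib.Amalg
open scoped commutatorElement
set_option linter.style.haveILetI false

theorem key {G : Type*} [Group G] [Finite G] {q : ℕ} (hq : q.Prime) {H K : Subgroup G} (hK : K ≤ H)
    (hn : H ≤ 𝐍(K)) (hs : Group.IsSolvable K) {z : G} (hz : z ∈ H) (hzq : IsPGroup q (zpowers z))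
    {x : G} (hx : x ∈ 𝐎'[q](H ⊓ 𝐂[z])) :
    (x ∈ K → x ∈ 𝐎'[q](K)) ∧ ∀ k ∈ K, ⁅k, x⁆ ∈ 𝐎'[q](K) := by
  have hx' := piCoreOf_le' _ _ hx
  have hcy : ∀ y : G, Group.IsSolvable (zpowers y) := fun y => inferInstance
  have hxz : zpowers x ≤ 𝐍(zpowers z) :=
    le_norm_of_le_cent (by rw [centralizer_zpowers]; exact zpowers_le.2 hx'.2)
  set A := zpowers z ⊔ zpowers x with hA
  have hAs : Group.IsSolvable A := by
    haveI := hcy z; haveI := hcy x
    rw [hA, sup_comm]; exact isSolvable_sup_of_le_normalizer hxz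
  have hAH : A ≤ H := sup_le (zpowers_le.2 hz) (zpowers_le.2 hx'.1)
  set M := K ⊔ A with hM
  have hMs : Group.IsSolvable M := by
    haveI := hs; haveI := hAs
    rw [hM, sup_comm]; exact isSolvable_sup_of_le_normalizer (hAH.trans hn)
  have hMH : M ≤ H := sup_le hK hAH
  have hxM : x ∈ M := le_sup_right (a := K) (le_sup_right (a := zpowers z) (mem_zpowers x))
  have h1 : x ∈ 𝐎'[q](M) := by
    apply pPrimeCoreOf_cent_pgroup hq hMs (R := zpowers z) (le_sup_left.trans le_sup_right) hzq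
    rw [centralizer_zpowers]
    exact piCoreOf_inf_le' (inf_le_inf_right _ hMH) ⟨hx, hxM, hx'.2⟩
  have h2 : 𝐎'[q](K) = 𝐎'[q](M) ⊓ K := piCoreOf_eq_inf_of_normal le_sup_left (hMH.trans hn)
  rw [h2]
  refine ⟨fun h => ⟨h1, h⟩, fun k hk => ⟨?_, ?_⟩⟩
  · exact commutator_le_right_of_norm (le_sup_left.trans (le_norm_piCoreOf_self _ M))
      (commutator_mem_commutator hk h1)
  · exact commutator_le_left_of_norm (hMH.trans hn) (commutator_mem_commutator hk hxM)

/-- Let G be a finite group with Sylow p-subgroup P and H = O_{p'}(G), and suppose G = PH and the commutator subgroup [H, P] is solvable. Let q be a prime and z an element of q-power order of C_H(P). Then (O_{q'}(C_H(z)) ∩ O_{q'}(C_H(P))) · [O_{q'}(C_H(z)), P] ≤ O_{q'}(H). -/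
theorem result {G : Type*} [Group G] [Finite G] {p : ℕ} [Fact p.Prime]
    (P : Sylow p G) (hPH : Cfsg.pPrimeCore p G ⊔ (P : Subgroup G) = ⊤)
    (hsol : Group.IsSolvable ↥⁅Cfsg.pPrimeCore p G, (P : Subgroup G)⁆)
    {q : ℕ} [Fact q.Prime] (z : G) (hzH : z ∈ Cfsg.pPrimeCore p G) (hzP : z ∈ Subgroup.centralizer ((P : Subgroup G) : Set G))
    (hz : ∃ k : ℕ, orderOf z = q ^ k) :
    ((Cfsg.pPrimeCore q ↥(Cfsg.pPrimeCore p G ⊓ Subgroup.centralizer ({z} : Set G))).map
        (Cfsg.pPrimeCore p G ⊓ Subgroup.centralizer ({z} : Set G)).subtype ⊓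
      (Cfsg.pPrimeCore q ↥(Cfsg.pPrimeCore p G ⊓ Subgroup.centralizer ((P : Subgroup G) : Set G))).map
        (Cfsg.pPrimeCore p G ⊓ Subgroup.centralizer ((P : Subgroup G) : Set G)).subtype) ⊔
    ⁅(Cfsg.pPrimeCore q ↥(Cfsg.pPrimeCore p G ⊓ Subgroup.centralizer ({z} : Set G))).map
        (Cfsg.pPrimeCore p G ⊓ Subgroup.centralizer ({z} : Set G)).subtype, (P : Subgroup G)⁆ ≤
    (Cfsg.pPrimeCore q ↥(Cfsg.pPrimeCore p G)).map (Cfsg.pPrimeCore p G).subtype := by
  have hp : p.Prime := Fact.out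
  have hq : q.Prime := Fact.out
  simp only [map_pPrimeCore_subtype hq]
  set H := pPrimeCore p G with hH
  haveI : H.Normal := inferInstance
  have hPH' : (P : Subgroup G) ≤ 𝐍(H) := le_normalizer_of_normal
  set K := ⁅H, (P : Subgroup G)⁆ with hK
  have hKH : K ≤ H := commutator_le_left_of_norm hPH'
  have hn : H ≤ 𝐍(K) := le_norm_commutator_left _ _
  obtain ⟨k, hk⟩ := hz
  have hzq : IsPGroup q (zpowers z) := Core.isPGroup_zpowers_of_orderOf hk
  have hOK : 𝐎'[q](K) ≤ 𝐎'[q](H) := piCoreOf_le_of_normal hKH hn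
  have hprod : K ⊔ (H ⊓ 𝐂((P : Subgroup G))) = H :=
    coprime_cent_prod hPH' (coprime_of_isPGroup_of_not_dvd hp P.isPGroup' (not_dvd_card_pPrimeCore hp))
      (Or.inl (solvable_of_pgroup hp P.isPGroup'))
  refine sup_le ?_ ?_
  · set R := 𝐎'[q](K) with hR
    set D := 𝐎'[q](H ⊓ 𝐂((P : Subgroup G))) ⊓ centQuo R K with hD
    have hKR : K ≤ 𝐍(R) := le_norm_piCoreOf_self _ _
    have hHR : H ≤ 𝐍(R) := le_norm_piCoreOf _ hn
    have hDH : D ≤ H := inf_le_left.trans ((piCoreOf_le' _ _).trans inf_le_left)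
    have h1 : R ⊔ D ≤ 𝐎'[q](H) := by
      apply le_pPrimeCoreOf' hq (sup_le ((piCoreOf_le' _ _).trans hKH) hDH)
      · rw [← hprod]
        refine sup_le (le_norm_of_commutator_le ?_) (le_normalizer_sup (inf_le_left.trans hHR)
          (le_normalizer_inf (le_norm_piCoreOf_self _ _)
            (le_norm_centQuo (inf_le_left.trans hHR) (inf_le_left.trans hn))))
        have : R ⊔ D ≤ centQuo R K := sup_le (self_le_centQuo _ _) inf_le_right
        rw [Subgroup.commutator_comm]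
        exact (commutator_le_of_le_centQuo hKR this).trans le_sup_left
      · exact not_dvd_card_sup hq (not_dvd_card_pPrimeCoreOf hq _)
          (not_dvd_card_of_le inf_le_left (not_dvd_card_pPrimeCoreOf hq _)) (hDH.trans hHR)
    refine le_trans (inf_comm _ _).le (le_trans (inf_le_inf_left _ ?_) (le_sup_right.trans h1))
    refine le_centQuo hKR (((piCoreOf_le' _ _).trans inf_le_left).trans hHR) ?_
    exact commutator_le.2 fun a ha b hb => (key hq hKH hn hsol hzH hzq hb).2 a ha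
  · have hPX : (P : Subgroup G) ≤ 𝐍(𝐎'[q](H ⊓ 𝐂[z])) := by
      refine le_norm_piCoreOf _ (le_normalizer_inf hPH' (le_trans ?_ le_normalizer))
      exact fun y hy => mem_centralizer_singleton_iff.2 (hzP y hy)
    intro y hy
    exact hOK ((key hq hKH hn hsol hzH hzq (commutator_le_left_of_norm hPX hy)).1
      (commutator_mono ((piCoreOf_le' _ _).trans inf_le_left) le_rfl hy))

end Cfsg.Agent.S3819
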