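import Cfsg.Statements.S3821
import Cfsg.Agent.Lib.Hall.Pron

set_option autoImplicit false
open Cfsg

namespace Cfsg.Agent.S3821

open scoped Pointwise commutatorElement
open Cfsg.Lib Cfsg.Lib.Hall

open Subgroup Cfsg.Lib.Core Cfsg.Lib.Transfer

/-- Let A be a normal subgroup of the finite group G and H a subgroup of A. Then H is pronormal in G (H and gHg⁻¹ conjugate inside ⟨H, gHg⁻¹⟩ for every g ∈ G) if and only if H is pronormal in A and G = A · N_G(H). -/
theorem result {G : Type*} [Group G] [Finite G] (A H : Subgroup G) [A.Normal] (hHA : H ≤ A) :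
    Cfsg.IsPronormal H ↔ (Cfsg.IsPronormal (H.subgroupOf A) ∧ A ⊔ Subgroup.normalizer (H : Set G) = ⊤) := by
  rw [isPronormal_subgroupOf hHA, isPronormal_iff]
  refine ⟨fun h => ⟨fun g _ => h g, eq_top_iff.mpr fun g _ => ?_⟩, fun ⟨h1, h2⟩ g => ?_⟩
  · obtain ⟨x, hx, n, hn, rfl⟩ := (h g).mem_sup hHA (le_normalizer_of_normal (mem_top g))
    exact mul_mem_sup hx hn
  · obtain ⟨a, ha, n, hn, rfl⟩ := mem_sup_of_normal_left.mp (h2 ▸ mem_top g)
    exact (h1 a ha).congr (by rw [cj_mul, cj_eq_of_mem_normalizer hn])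

end Cfsg.Agent.S3821
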