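import Cfsg.Statements.S3822
import Cfsg.Agent.Lib.Amalg.Fl4

set_option autoImplicit false
open Cfsg

namespace Cfsg.Agent.S3822

open Subgroup Cfsg.Lib.Amalg
open Cfsg.Lib.Core hiding isPGroup_subgroupOf isPGroup_subgroupOf_iff isPGroup_map_subtype_iff isPGroup_zpowers_of_orderOf
open scoped commutatorElement

/-- Let G be a finite group and P a subgroup of prime order p > 3. Consider the solvable subgroups A of G of the form A = ⟨P, aPa⁻¹⟩ for some a ∈ A, and let A be maximal under inclusion among them. Then for every nilpotent subgroup V of G normalized by A, the subgroup F(A)V generated by the Fitting subgroup of A and V is nilpotent. -/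
theorem result {G : Type*} [Group G] [Finite G]
    {p : ℕ} [Fact p.Prime] (hp : 3 < p) (P : Subgroup G) (hP : Nat.card P = p) (A : Subgroup G)
    (hA : Group.IsSolvable ↥A ∧ ∃ a ∈ A, A = P ⊔ P.map (MulAut.conj a).toMonoidHom)
    (hmax : ∀ B : Subgroup G, A ≤ B → Group.IsSolvable ↥B → (∃ b ∈ B, B = P ⊔ P.map (MulAut.conj b).toMonoidHom) → B = A)
    (V : Subgroup G) (hV : Group.IsNilpotent ↥V) (hAV : A ≤ Subgroup.normalizer (V : Set G)) :
    Group.IsNilpotent ↥((Cfsg.fittingSubgroup ↥A).map A.subtype ⊔ V) := by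
  have hpp : p.Prime := Fact.out
  have hp5 : 5 ≤ p := by
    by_contra h
    exact absurd hpp (by rw [show p = 4 by omega]; norm_num)
  obtain ⟨⟨g, hg⟩, hg1⟩ := Subgroup.ne_bot_iff_exists_ne_one.1
    (show P ≠ ⊥ from fun h => hpp.one_lt.ne (by rw [← hP, h, Subgroup.card_bot]))
  have h1 : Subgroup.zpowers g = P := by
    refine le_antisymm (Subgroup.zpowers_le.2 hg) fun x hx => ?_
    obtain ⟨i, hi⟩ := mem_zpowers_of_prime_card hP hg1 (g' := ⟨x, hx⟩)
    exact ⟨i, congrArg Subtype.val hi⟩
  have h2 : g ^ p = 1 := by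
    have := pow_card_eq_one' (x := (⟨g, hg⟩ : P))
    rw [hP] at this
    exact congrArg Subtype.val this
  obtain ⟨hs, a, ha, hA⟩ := hA
  subst h1
  simp only [MonoidHom.map_zpowers] at hA hmax
  exact Cfsg.Lib.Amalg.Fl.nilp hpp hp5 h2 ha hA hmax hV hAV

end Cfsg.Agent.S3822
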