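import Cfsg.Statements.S3825
import Cfsg.Agent.Lib.PGrp.Cyclic
import Cfsg.Agent.Lib.Coprime.FrobCompl
import Cfsg.Agent.Lib.Core.Basic

set_option autoImplicit false
open Cfsg

open Subgroup Cfsg.Lib
open scoped commutatorElement
namespace Cfsg.Agent.S3825

/-- Let U be a subgroup of a finite group H and w an involution of H normalizing U and commuting with exactly two elements of U, the identity and y. If V is a non-cyclic elementary abelian 2-subgroup of U containing y which is normal in U and invariant under w, then V is a Sylow 2-subgroup of U, V has order 4, and U/V is abelian. -/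
theorem result {H : Type*} [Group H] [Finite H] (U : Subgroup H) (w : H) (hw : orderOf w = 2)
    (hwU : w ∈ Subgroup.normalizer (U : Set H)) (y : H) (hy : y ≠ 1) (hyU : y ∈ U)
    (hfix : ∀ u ∈ U, w * u * w⁻¹ = u ↔ (u = 1 ∨ u = y))
    (V : Subgroup H) (hVU : V ≤ U) (hVn : (V.subgroupOf U).Normal) (hVw : ∀ v ∈ V, w * v * w⁻¹ ∈ V)
    (hVe : Cfsg.IsElementaryAbelian 2 V) (hVc : ¬ IsCyclic ↥V) (hyV : y ∈ V) :
    ¬ 2 ∣ V.relIndex U ∧ Nat.card ↥V = 4 ∧ ⁅U, U⁆ ≤ V := by
  have hw2 : w * w = 1 := by rw [← sq, ← hw, pow_orderOf_eq_one]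
  have hwi : w⁻¹ = w := inv_eq_of_mul_eq_one_right hw2
  have hUV : U ≤ normalizer (V : Set H) := (normal_subgroupOf_iff_le_normalizer hVU).1 hVn
  have hwV : w ∈ normalizer (V : Set H) := Core.mem_normalizer_of_conj_mem hVw
  have hc : ∀ u ∈ U, u⁻¹ * (w * u * w⁻¹) ∈ V → u⁻¹ * (w * u * w⁻¹) = 1 ∨ u⁻¹ * (w * u * w⁻¹) = y := fun u _ h => by
    refine (hfix _ (hVU h)).1 ?_
    have h1 := eq_inv_of_mul_eq_one_left ((sq _).symm.trans (hVe.2 _ h))
    refine Eq.trans ?_ h1.symm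
    have e : ∀ x, w * (w * x) = x := fun x => by rw [← mul_assoc, hw2, one_mul]
    simp only [mul_inv_rev, hwi, inv_inv, mul_assoc, hw2, mul_one, e]
  obtain ⟨v, hv, hvy⟩ : ∃ v ∈ V, v ∉ zpowers y := by
    by_contra! h
    exact hVc (PGrp.isCyclic_of_le' inferInstance h)
  have hv' : v⁻¹ * (w * v * w⁻¹) = y := (hc v (hVU hv) (mul_mem (inv_mem hv) (hVw v hv))).resolve_left fun h => by
    rcases (hfix v (hVU hv)).1 (inv_mul_eq_one.1 h).symm with rfl | rfl
    exacts [hvy (one_mem _), hvy (mem_zpowers _)]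
  have key : ∀ u ∈ U, u⁻¹ * (w * u * w⁻¹) ∈ V → u ∈ ({1, y, v, y * v} : Set H) := fun u hu h => by
    rcases hc u hu h with h1 | h1
    · rcases (hfix u hu).1 (inv_mul_eq_one.1 h1).symm with rfl | rfl <;> simp
    · rcases (hfix (u * v⁻¹) (mul_mem hu (inv_mem (hVU hv)))).1 (by
        have : w * u * w⁻¹ = u * (v⁻¹ * (w * v * w⁻¹)) := by rw [hv', ← h1]; group
        calc _ = (w * u * w⁻¹) * (w * v * w⁻¹)⁻¹ := by group
          _ = _ := by rw [this]; group) with h2 | h2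
      · simp [mul_inv_eq_one.1 h2]
      · simp [mul_inv_eq_iff_eq_mul.1 h2]
  have hV2 := PGrp.isPGroup_of_isElementaryAbelian hVe
  have h4 : Nat.card V = 4 := by
    refine le_antisymm ?_ (PGrp.pow_succ_le_card_of_lt hV2 (k := 1) (not_le.1 fun h => hVc (PGrp.isCyclic_of_card_le hV2 h)))
    exact (Set.ncard_le_ncard (s := (V : Set H)) (fun u hu => key u (hVU hu) (mul_mem (inv_mem hu) (hVw u hu)))).trans
      ((Set.ncard_insert_le _ _).trans (Nat.succ_le_succ ((Set.ncard_insert_le _ _).trans (Nat.succ_le_succ ((Set.ncard_insert_le _ _).trans (Nat.succ_le_succ (Set.ncard_singleton _).le))))))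
  have key' : ∀ u ∈ U, u⁻¹ * (w * u * w⁻¹) ∈ V → u ∈ V := fun u hu h => by
    rcases key u hu h with rfl | rfl | rfl | rfl
    exacts [one_mem _, hyV, hv, mul_mem hyV hv]
  let L := normalizer (V : Set H)
  let f := QuotientGroup.mk' (V.subgroupOf L)
  let K := (U.subgroupOf L).map f
  let s := f ⟨w, hwV⟩
  have hs : s ∈ normalizer (K : Set _) := Core.mem_normalizer_of_conj_mem (by
    rintro _ ⟨u, hu, rfl⟩
    exact ⟨⟨w, hwV⟩ * u * ⟨w, hwV⟩⁻¹, Core.conj_mem_of_mem_normalizer hwU hu, by simp [s]⟩)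
  have hs2 : s * s = 1 := by rw [← map_mul, show (⟨w, hwV⟩ * ⟨w, hwV⟩ : L) = 1 from Subtype.ext hw2, map_one]
  have hK : K ⊓ centralizer {s} = ⊥ := Coprime.inf_centralizer_singleton_eq_bot_iff.2 (by
    rintro _ ⟨u, hu, rfl⟩ h
    refine (QuotientGroup.eq_one_iff u).2 (key' u hu ?_)
    have : f (u⁻¹ * (⟨w, hwV⟩ * u * ⟨w, hwV⟩⁻¹)) = 1 := by simp only [map_mul, map_inv]; rw [h]; simp [s]
    exact (QuotientGroup.eq_one_iff (N := V.subgroupOf L) _).1 this)
  refine ⟨fun h => ?_, h4, ?_⟩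
  · have h1 : Nat.card K = V.relIndex U := by rw [Core.card_map_mk'_eq_relIndex, relIndex_subgroupOf hUV]
    obtain ⟨k, hk, hk1, hk2⟩ := Coprime.exists_involution_of_two_dvd (h1 ▸ h)
    have := Coprime.conj_eq_inv_of_fpf hs hs2 hK hk
    rw [inv_eq_of_mul_eq_one_right hk2, mul_inv_eq_iff_eq_mul] at this
    exact hk1 (Coprime.inf_centralizer_singleton_eq_bot_iff.1 hK k hk this)
  · have := Coprime.isMulCommutative_of_fpf_involution hs hs2 hK
    refine commutator_le.2 fun a ha b hb => ?_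
    have h1 : f ⁅(⟨a, hUV ha⟩ : L), ⟨b, hUV hb⟩⁆ = 1 := by
      rw [map_commutatorElement, commutatorElement_eq_one_iff_mul_comm]
      exact PGrp.comm_of_mem this (mem_map_of_mem f ha) (mem_map_of_mem f hb)
    exact (QuotientGroup.eq_one_iff (N := V.subgroupOf L) _).1 h1

end Cfsg.Agent.S3825
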