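import Cfsg.Statements.S3835
import Cfsg.Agent.Lib.PGrp.DerL
import Cfsg.Agent.Lib.Glaub.Qd2
import Cfsg.Agent.Lib.Linear.Simple

set_option autoImplicit false
open Cfsg

namespace Cfsg.Agent.S3835

open Subgroup Equiv Cfsg.Lib Cfsg.Lib.Amalg Cfsg.Lib.DerL Cfsg.Lib.Glaub Cfsg.Lib.Forms.R2 Multiplicative
open scoped commutatorElement

theorem of_surj {G H : Type*} [Group G] [Group H] [Finite G] {p k : ℕ} [Fact p.Prime] (h : DLp p k H)
    {f : G →* H} (hf : Function.Surjective f) : DLp p k G := by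
  haveI := Finite.of_surjective f hf
  obtain ⟨T, hT⟩ := exists_syl p (⊤ : Subgroup G)
  obtain ⟨P, h1, h2⟩ := h
  refine ⟨T, hT.isPGroup, fun h => h2 (dS_of_syl (hT.map_top hf) ?_ h1)⟩
  rw [← dS_map, h, Subgroup.map_bot]

theorem dl_qd {p : ℕ} [hp : Fact p.Prime] : DLp p 1 (Qd p) := by
  have c : Nat.card (upHom p).range = p := by
    rw [← Nat.card_congr (MonoidHom.ofInjective (f := upHom p) fun _ _ h => TV.up_inj (F := ZMod p) h).toEquiv]
    simp
  refine ⟨(upHom p).range.comap (SemidirectProduct.rightHom : Qd p →* _),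
    (KS9.isPGroup_of_card_eq c).comap_of_ker_isPGroup _ ?_, fun h => ?_⟩
  · rw [← SemidirectProduct.range_inl_eq_ker_rightHom]
    exact isPGroup_v2 _
  · have h1 : ⁅(.inl (ofAdd ![0, 1]) : Qd p), (.inr (TV.up 1) : Qd p)⁆ = 1 :=
      mem_bot.1 (h.le (commutator_mem_commutator ⟨1, TV.up_zero⟩ ⟨ofAdd 1, rfl⟩))
    have h2 := congrArg (fun z : Qd p => z.left.toAdd 0) (commutatorElement_eq_one_iff_mul_comm.1 h1)
    simp [slAct_up, -slAct_apply] at h2

theorem sign_eq {p : ℕ} [hp : Fact p.Prime] (h2 : p ≠ 2) (f : Qd p →* ℤˣ) (z : Qd p) : f z = 1 := by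
  have h1 : ∀ x : Qd p, x ^ p = 1 → f x = 1 := fun x hx => by
    have h3 : f x ^ p = 1 := by rw [← map_pow, hx, map_one]
    rcases Int.units_eq_one_or (f x) with h | h
    · exact h
    · rw [h, (hp.out.odd_of_ne_two h2).neg_one_pow] at h3
      exact absurd h3 (by decide)
  have h3 : (f.comp SemidirectProduct.inr).ker = ⊤ :=
    Linear.sl_eq_top_of_transvection_mem _ fun i j hij c => h1 _ (by
      rw [← map_pow, Linear.transvection_pow_char hij, map_one])
  rw [← SemidirectProduct.inl_left_mul_inr_right z, map_mul, h1 _ (by rw [← map_pow, v2_pow, map_one]),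
    one_mul]
  exact h3.ge (mem_top z.right)

/-- Let p be an odd prime and n a natural number. The alternating group of degree n has a subgroup isomorphic to Qd(p) (the natural semidirect product of an elementary abelian group of order p² by SL₂(p)) if and only if n ≥ p²; and if n < p² then Qd(p) is not even involved in it. -/
theorem result {p : ℕ} [Fact p.Prime] (hp : p ≠ 2) (n : ℕ) : ((∃ H : Subgroup (alternatingGroup (Fin n)), Nonempty (↥H ≃* ↥(Cfsg.qd p))) ↔ p ^ 2 ≤ n) ∧ (n < p ^ 2 → ¬ Cfsg.Involves ↥(Cfsg.qd p) ↥(alternatingGroup (Fin n))) := by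
  have h2 : n < p ^ 2 → ¬ Involves (qd p) (alternatingGroup (Fin n)) := by
    rintro hn ⟨K, R, _, ⟨e⟩⟩
    obtain ⟨P, h1, h3⟩ := (of_surj dl_qd (f := ((e.trans (qdEquiv p).symm).toMonoidHom).comp (QuotientGroup.mk' _))
      ((e.trans (qdEquiv p).symm).surjective.comp (QuotientGroup.mk'_surjective _))).of_inj
      (f := (alternatingGroup (Fin n)).subtype.comp K.subtype)
      ((alternatingGroup (Fin n)).subtype_injective.comp K.subtype_injective)
    have h4 := perm_dS h1
    have h5 : Nat.log p n ≤ 1 := by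
      rcases Nat.eq_zero_or_pos n with rfl | h0
      · simp
      · exact Nat.lt_succ_iff.1 (Nat.log_lt_of_lt_pow h0.ne' hn)
    obtain ⟨j, hj⟩ := Nat.exists_eq_add_of_le h5
    rw [hj, dS_add, h4] at h3
    refine h3 (eq_bot_iff.2 ?_)
    clear hj h3
    induction j with
    | zero => exact le_rfl
    | succ j ih => exact (commutator_mono ih ih).trans (commutator_bot_left _).le
  refine ⟨⟨fun ⟨H, ⟨e⟩⟩ => not_lt.1 fun hn => h2 hn ⟨H, ⊥, inferInstance, ⟨?_⟩⟩, fun hn => ?_⟩, h2⟩
  · exact (QuotientGroup.quotientMulEquivOfEq (bot_subgroupOf H)).trans (QuotientGroup.quotientBot.trans e)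
  · have h1 : Nat.card (Multiplicative (Fin 2 → ZMod p)) = p ^ 2 := by
      rw [Nat.card_congr toAdd, Nat.card_fun, Nat.card_zmod]; simp
    haveI := Fintype.ofFinite (Multiplicative (Fin 2 → ZMod p))
    obtain ⟨e⟩ : Nonempty (Multiplicative (Fin 2 → ZMod p) ↪ Fin n) :=
      Function.Embedding.nonempty_of_card_le (by rw [← Nat.card_eq_fintype_card, h1]; simpa using hn)
    classical
    let f := (Perm.extendDomainHom (Equiv.ofInjective e e.injective)).comp (qdPerm p)
    have hf : Function.Injective f := (Perm.extendDomainHom_injective _).comp (qdPerm_injective p)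
    let g : Qd p →* alternatingGroup (Fin n) := f.codRestrict _ fun z =>
      Perm.mem_alternatingGroup.2 (sign_eq hp (Perm.sign.comp f) z)
    exact ⟨g.range, ⟨(MonoidHom.ofInjective (f := g) fun a b h => hf (congrArg Subtype.val h)).symm.trans
      (qdEquiv p)⟩⟩

end Cfsg.Agent.S3835
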