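import Cfsg.Statements.S3836
import Cfsg.Agent.Lib.Core.PCore

set_option autoImplicit false
open Cfsg

open Subgroup Cfsg.Lib
open scoped commutatorElement
namespace Cfsg.Agent.S3836

/-- Let G be a finite group that is p-stable in the normalizer form: for every p-subgroup Q and every x ∈ N_G(Q) with [Q, x, x] = 1, the image of x in N_G(Q)/C_G(Q) lies in O_p(N_G(Q)/C_G(Q)). Then every subgroup of G is p-stable in the same sense. -/
theorem result {G : Type*} [Group G] [Finite G] {p : ℕ} [Fact p.Prime] (hst : Cfsg.IsNormalizerPStable p G) (H : Subgroup G) : Cfsg.IsNormalizerPStable p ↥H := by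
  intro P hP g hg h
  let Q := P.map H.subtype
  have hn : ∀ x : normalizer (P : Set H), ((x : H) : G) ∈ normalizer (Q : Set G) := fun x =>
    ((Core.map_subtype_normalizer P).le (mem_map_of_mem _ x.2)).2
  let φ : normalizer (P : Set H) →* normalizer (Q : Set G) := (H.subtype.comp (normalizer (P : Set H)).subtype).codRestrict _ hn
  have hk : ∀ x, φ x ∈ (centralizer (Q : Set G)).subgroupOf (normalizer (Q : Set G)) ↔
      x ∈ (centralizer (P : Set H)).subgroupOf (normalizer (P : Set H)) := fun x =>
    ⟨fun h y hy => Subtype.ext (h y (mem_map_of_mem _ hy)), fun h => ((Core.map_subtype_centralizer P).le (mem_map_of_mem _ h)).2⟩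
  let ψ := QuotientGroup.map ((centralizer (P : Set H)).subgroupOf (normalizer (P : Set H)))
    ((centralizer (Q : Set G)).subgroupOf (normalizer (Q : Set G))) φ fun x hx => (hk x).2 hx
  have hψ : Function.Injective ψ := (injective_iff_map_eq_one _).2 fun x hx => by
    obtain ⟨x, rfl⟩ := QuotientGroup.mk_surjective x
    exact (QuotientGroup.eq_one_iff _).2 ((hk x).1 ((QuotientGroup.eq_one_iff _).1 hx))
  refine Core.comap_pCore_le_of_injective hψ (hst Q (hP.map _) g (hn ⟨g, hg⟩) ?_)
  have := congrArg (map H.subtype) h
  simp only [map_commutator, MonoidHom.map_zpowers, Subgroup.map_bot] at this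
  exact this

end Cfsg.Agent.S3836
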