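import Cfsg.Statements.S3838
import Cfsg.Agent.Lib.Transfer.Tate
import Cfsg.Agent.Lib.Transfer.Frobenius
import Cfsg.Agent.Lib.Core.Basic

set_option autoImplicit false
open Cfsg

open Subgroup Cfsg.Lib
open scoped commutatorElement
open Transfer
namespace Cfsg.Agent.S3838

theorem aux {G : Type*} [Group G] [Finite G] {p : ℕ} [Fact p.Prime] (P : Sylow p G) (hN : PNil p (normalizer ((P : Subgroup G) : Set G)))
    (Q : Subgroup G) [Q.Normal] (h1 : ⁅(P : Subgroup G), (P : Subgroup G)⁆ ≤ Q) (h2 : Q ≤ (frattini P).map (P : Subgroup G).subtype) :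
    PNil p (⊤ : Subgroup G) := by
  let f := QuotientGroup.mk' Q
  have hQP : Q ≤ P := h2.trans (map_subtype_le _)
  have hT := (sylowIn_top P).map f
  have h3 := hT.pnil_of_normalizer_le_centralizer (by
    rintro _ ⟨⟨n, -, rfl⟩, hn⟩ _ ⟨x, hx, rfl⟩
    have hn' : n ∈ normalizer ((P : Subgroup G) : Set G) := Core.mem_normalizer_of_conj_mem fun y hy => by
      have := Core.conj_mem_of_mem_normalizer hn (mem_map_of_mem f hy)
      rw [← map_inv, ← map_mul, ← map_mul, ← mem_comap, Core.comap_map_mk', sup_of_le_right hQP] at this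
      exact this
    obtain ⟨r, hr, t, ht, rfl⟩ := (sylowIn_of_le P le_normalizer).exists_resOf_mul hn'
    have e1 := hN.mem_centralizer P.isPGroup' le_normalizer hr (resOf_le _ hr) x hx
    have e2 : f x * f t = f t * f x := commutatorElement_eq_one_iff_mul_comm.1
      (by rw [← map_commutatorElement]; exact (QuotientGroup.eq_one_iff _).2 (h1 (commutator_mem_commutator hx ht)))
    rw [map_mul, ← mul_assoc, ← map_mul, e1, map_mul, mul_assoc, e2, mul_assoc])
  have h4 := hT.pnil_iff.1 h3
  have := resOf_normal (p := p) (⊤ : Subgroup G)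
  have h5 := tate P (resOf p ⊤) (fun x hx => h2 ((QuotientGroup.eq_one_iff x).1 (mem_bot.1 (h4.le
    ⟨mem_map_of_mem f hx.2, map_resOf_le f _ (mem_map_of_mem f hx.1)⟩))))
  unfold PNil at h5 ⊢
  rwa [resOf_resOf] at h5

/-- Let G be a finite group with Sylow p-subgroup P such that N_G(P) has a normal p-complement. Then N_G(Q) has a normal p-complement for every subgroup Q with [P, P] ≤ Q ≤ Φ(P). -/
theorem result {G : Type*} [Group G] [Finite G] {p : ℕ} [Fact p.Prime] (P : Sylow p G) (hN : Cfsg.HasNormalPComplement p ↥(Subgroup.normalizer ((P : Subgroup G) : Set G))) (Q : Subgroup G) (h1 : (commutator ↥(P : Subgroup G)).map (P : Subgroup G).subtype ≤ Q) (h2 : Q ≤ (frattini ↥(P : Subgroup G)).map (P : Subgroup G).subtype) : Cfsg.HasNormalPComplement p ↥(Subgroup.normalizer (Q : Set G)) := by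
  rw [map_subtype_commutator] at h1
  have hQP : Q ≤ P := h2.trans (map_subtype_le _)
  have hP : (P : Subgroup G) ≤ normalizer (Q : Set G) := fun x hx => Core.mem_normalizer_of_conj_mem fun y hy => by
    simpa [commutatorElement_def] using mul_mem (h1 (commutator_mem_commutator hx (hQP hy))) hy
  have e : ((P.subtype hP : Sylow p _) : Subgroup _).map (normalizer (Q : Set G)).subtype = P := Core.map_subtype_subgroupOf_of_le hP
  have hi := (normalizer (Q : Set G)).subtype_injective
  refine hasNormalPComplement_iff_top.2 (aux (P.subtype hP) ?_ (Q.subgroupOf _) ?_ ?_)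
  · rw [← pnil_map_iff_of_injective hi, Core.map_subtype_normalizer, e]
    exact (hasNormalPComplement_iff.1 hN).mono inf_le_right
  · rw [← map_le_map_iff_of_injective hi, map_commutator, e, Core.map_subtype_subgroupOf_of_le le_normalizer]; exact h1
  · rw [← map_le_map_iff_of_injective hi, Core.map_frattiniOf_of_injective hi, e, Core.map_subtype_subgroupOf_of_le le_normalizer]; exact h2

end Cfsg.Agent.S3838
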