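import Cfsg.Statements.S3839
import Cfsg.Agent.Lib.Transfer.Frobenius
import Cfsg.Agent.Lib.Core.Nilpotent
import Cfsg.Agent.Lib.Coprime.Basic

set_option autoImplicit false
open Cfsg

open Subgroup Cfsg.Lib
open scoped commutatorElement
open Transfer
namespace Cfsg.Agent.S3839

/-- A Frobenius normal p-complement criterion relative to a strongly closed subgroup. Let G be a finite group, S a Sylow p-subgroup and D a subgroup of S strongly closed in S with respect to G. Then G has a normal p-complement if and only if N_G(U) has a normal p-complement for every subgroup U of D with C_D(U) ≤ U. -/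
theorem result {G : Type*} [Group G] [Finite G] {p : ℕ} [Fact p.Prime] (S : Sylow p G) (D : Subgroup G) (hD : Cfsg.IsStronglyClosed D (S : Subgroup G)) : Cfsg.HasNormalPComplement p G ↔ ∀ U : Subgroup G, U ≤ D → D ⊓ Subgroup.centralizer (U : Set G) ≤ U → Cfsg.HasNormalPComplement p ↥(Subgroup.normalizer (U : Set G)) := by
  refine ⟨fun h U _ _ => hasNormalPComplement_subgroup h _, fun h => hasNormalPComplement_iff_top.2 ?_⟩
  have hp : p.Prime := Fact.out
  have key : ∀ n, ∀ Q : Subgroup G, Nat.card G - Nat.card Q < n → IsPGroup p Q → resOf p (normalizer (Q : Set G)) ≤ centralizer (Q : Set G) := by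
    intro n
    induction n with
    | zero => intro Q h; omega
    | succ n ih =>
    intro Q₀ hn hQ₀
    obtain ⟨g, hQS, -, hT⟩ := exists_cj_extremal S hQ₀ hQ₀ le_normalizer
    rw [← cj_le_cj (g := g), cj_resOf, cj_normalizer, cj_centralizer]
    rw [← card_cj g] at hn
    generalize cj g Q₀ = Q at *
    have hQ : IsPGroup p Q := S.isPGroup'.to_le hQS
    set N := normalizer (Q : Set G)
    set U := Q ⊓ D
    have hNU : N ≤ normalizer (U : Set G) := fun x hx => Core.mem_normalizer_of_conj_mem fun y hy =>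
      ⟨Core.conj_mem_of_mem_normalizer hx hy.1, hD.2 y hy.2 x (hQS (Core.conj_mem_of_mem_normalizer hx hy.1))⟩
    let K : Subgroup G :=
      { carrier := {g | g ∈ N ∧ g ∈ centralizer (U : Set G) ∧ ∀ x ∈ Q, g * x * g⁻¹ * x⁻¹ ∈ U}
        one_mem' := ⟨one_mem _, one_mem _, by simp [U, one_mem]⟩
        mul_mem' := fun {a b} ha hb => ⟨mul_mem ha.1 hb.1, mul_mem ha.2.1 hb.2.1, fun x hx => by
          have := mul_mem (Core.conj_mem_of_mem_normalizer (hNU ha.1) (hb.2.2 x hx)) (ha.2.2 x hx)
          convert this using 1; group⟩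
        inv_mem' := fun {a} ha => ⟨inv_mem ha.1, inv_mem ha.2.1, fun x hx => by
          have := Core.conj_inv_mem_of_mem_normalizer (hNU ha.1) (inv_mem (ha.2.2 x hx))
          convert this using 1; group⟩ }
    have hKN : K ≤ N := fun x hx => hx.1
    have hNK : N ≤ normalizer (K : Set G) := fun x hx => Core.mem_normalizer_of_conj_mem fun y hy =>
      ⟨mul_mem (mul_mem hx hy.1) (inv_mem hx), Core.conj_mem_of_mem_normalizer (Core.le_normalizer_centralizer hNU hx) hy.2.1, fun z hz => by
        have := Core.conj_mem_of_mem_normalizer (hNU hx) (hy.2.2 _ (Core.conj_inv_mem_of_mem_normalizer hx hz))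
        convert this using 1; group⟩
    have hCK : centralizer (Q : Set G) ≤ K := fun x hx => ⟨centralizer_le_normalizer _ hx, Core.centralizer_anti inf_le_left hx,
      fun y hy => by rw [← hx y hy]; simp [one_mem]⟩
    have hQN : Q ≤ N := le_normalizer
    have hK : resOf p (K ⊔ Q) ≤ centralizer (Q : Set G) := by
      rw [resOf_sup_of_isPGroup hQ (hQN.trans hNK), resOf_le_iff]
      intro x hx ho
      refine zpowers_le.1 (Coprime.le_centralizer_of_centralizes_sub_and_quotient (N := U) ?_ inf_le_left (zpowers_le.2 hx.2.1) ?_)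
      · rw [Nat.card_zpowers]; exact Coprime.coprime_card_of_isPGroup (hQ.to_le inf_le_left) ho
      · rw [commutator_comm]
        exact commutator_le.2 fun a ha b hb => (zpowers_le.2 hx ha).2.2 b hb
    have hNK1 : N ≤ normalizer ((K ⊔ Q : Subgroup G) : Set G) := Core.le_normalizer_sup hNK le_rfl
    have hT1 := hT.inf_of_le hNK1 (sup_le hKN hQN)
    set T := (S : Subgroup G) ⊓ N ⊓ (K ⊔ Q)
    have hQT : Q ≤ T := le_inf (le_inf hQS hQN) le_sup_right
    rcases hQT.lt_or_eq with hlt | heq
    · have h1 := ih T (by have := card_lt_of_lt hlt; have := T.card_le_card_group; omega) hT1.isPGroup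
      obtain ⟨a, ha⟩ := relIndex_eq_pow_of_pow_mem (p := p) (H := N ⊓ normalizer (T : Set G)) (inf_le_left.trans hNK1) fun x hx => by
        obtain ⟨k, hk⟩ := exists_pow_mem_resOf (p := p) hx.2
        exact ⟨k, mem_sup_left (hCK (Core.centralizer_anti hQT (h1 hk)))⟩
      rw [← Core.relIndex_sup_of_le_normalizer (inf_le_left.trans hNK1), sup_comm (N ⊓ _), hT1.frattini_sup (sup_le hKN hQN) hNK1] at ha
      rw [← resOf_resOf]
      exact (resOf_mono (resOf_le_of_relIndex_eq_pow hNK1 ha)).trans hK
    · have hSD : (S : Subgroup G) ≤ normalizer (D : Set G) := fun x hx => Core.mem_normalizer_of_conj_mem fun y hy =>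
        hD.2 y hy x (mul_mem (mul_mem hx (hD.1 hy)) (inv_mem hx))
      have hQX : Q ≤ normalizer ((D ⊓ centralizer (U : Set G) : Subgroup G) : Set G) :=
        Core.le_normalizer_inf (hQS.trans hSD) (Core.le_normalizer_centralizer (hQN.trans hNU))
      have h1 : D ⊓ centralizer (U : Set G) ≤ Q := by
        by_contra h1
        have h2 := Core.lt_inf_normalizer_of_isPGroup (S.isPGroup'.to_le (sup_le hQS (inf_le_left.trans hD.1)))
          (lt_of_le_of_ne (le_sup_left : Q ≤ Q ⊔ (D ⊓ centralizer (U : Set G))) fun e => h1 (e ▸ le_sup_right))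
        rw [Core.sup_inf_assoc_of_le_normalizer hQX hQN] at h2
        refine h2.not_ge (sup_le le_rfl fun x hx => heq.ge ⟨⟨hD.1 hx.1.1, hx.2⟩, mem_sup_left ⟨hx.2, hx.1.2, fun y hy => ⟨?_, ?_⟩⟩⟩)
        · exact Q.mul_mem (Core.conj_mem_of_mem_normalizer hx.2 hy) (Q.inv_mem hy)
        · simpa [mul_assoc] using D.mul_mem hx.1.1 (Core.conj_mem_of_mem_normalizer (hSD (hQS hy)) (D.inv_mem hx.1.1))
      have h2 := (hasNormalPComplement_iff.1 (h U inf_le_right (le_inf h1 inf_le_left))).mono hNU
      exact fun x hx => h2.mem_centralizer hQ hQN hx (resOf_le _ hx)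
  exact (sylowIn_top S).pnil_of_extremal fun Q hQ _ _ => by
    rw [top_inf_eq]; exact key _ Q (Nat.lt_succ_self _) (S.isPGroup'.to_le hQ)

end Cfsg.Agent.S3839
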