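import Cfsg.Statements.S3841
import Cfsg.Agent.Lib.Push.MBR

set_option autoImplicit false
open Cfsg

namespace Cfsg.Agent.S3841

open Cfsg.Lib.Push.MB Cfsg.Lib.Core Cfsg.Lib Subgroup

/-- Let G be a finite group with a strongly embedded subgroup (a proper subgroup of even order meeting each of its conjugates by outside elements in a group of odd order), S a Sylow 2-subgroup of G, and V a finite-dimensional vector space over the field with two elements on which G acts linearly and faithfully through ρ. If S has order 2ᵏ then dim V ≥ 2k; and if Z(S) is elementary abelian of order 2ⁿ then for every nonidentity s ∈ S the image of ρ(s) − 1 has dimension at least n. -/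
theorem result {G : Type*} [Group G] [Finite G] (H : Subgroup G) (hH : Cfsg.IsStronglyEmbedded H) (S : Sylow 2 G) {V : Type*} [AddCommGroup V] [Module (ZMod 2) V] [Module.Finite (ZMod 2) V] (ρ : Representation (ZMod 2) G V) (hρ : Function.Injective ρ) : (∀ k : ℕ, Nat.card ↥(S : Subgroup G) = 2 ^ k → 2 * k ≤ Module.finrank (ZMod 2) V) ∧ ∀ n : ℕ, (∀ z ∈ (S : Subgroup G) ⊓ Subgroup.centralizer ((S : Subgroup G) : Set G), z ^ 2 = 1) → Nat.card ↥((S : Subgroup G) ⊓ Subgroup.centralizer ((S : Subgroup G) : Set G)) = 2 ^ n → ∀ s ∈ (S : Subgroup G), s ≠ 1 → n ≤ Module.finrank (ZMod 2) ↥(LinearMap.range (ρ s - 1)) := by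
  have fin : ∀ {X : Type} [Group X] {a m : ℕ}, Fam X a m →
      (pElementClosure 2 (⊤ : Subgroup (G ⧸ pPrimeCore 2 G)) ≃* X) → _ := fun h e =>
    (h.main hρ e S).imp_right fun h1 n h2 h3 => h1 n _ (inf_le_left (b := centralizer ((S : Subgroup G) : Set G))) h2 h3
  rcases BS.bro.s2798 hH with h | ⟨F, _, _, _, h4, ⟨e⟩⟩ | ⟨F, _, _, q, h1, h2, h3, ⟨e⟩⟩ | ⟨F, _, _, m, h1, h2, ⟨e⟩⟩
  · have hU : Block.UniqInv G := fun s t hs ht hc => (h t ht).2 s (mem_centralizer_singleton_iff.2 hc) hs
    refine ⟨fun k hk => rank_one hρ hH hU (fun t ht => (h t ht).1) S hk, fun n h1 h2 s hs h3 => ?_⟩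
    have h4 : n ≤ 1 := by
      by_contra! h5
      haveI : Nontrivial ↥((S : Subgroup G) ⊓ centralizer ((S : Subgroup G) : Set G)) :=
        Finite.one_lt_card_iff_nontrivial.1 (h2 ▸ Nat.one_lt_two_pow (by omega))
      obtain ⟨z, hz⟩ := exists_ne (1 : ↥((S : Subgroup G) ⊓ centralizer ((S : Subgroup G) : Set G)))
      have h6 : (S : Subgroup G) ⊓ centralizer ((S : Subgroup G) : Set G) ≤ zpowers z.1 := fun y hy => by
        by_cases h7 : y = 1
        · rw [h7]; exact one_mem _
        · rw [hU.eq_of_mem S.2 hy.1 z.2.1 (orderOf_eq_prime (h1 y hy) h7)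
            (orderOf_eq_prime (h1 z z.2) (by simpa using hz))]
          exact mem_zpowers _
      have := card_le_of_le h6
      rw [h2, Nat.card_zpowers, orderOf_eq_prime (h1 z z.2) (by simpa using hz)] at this
      exact absurd ((Nat.pow_le_pow_right two_pos h5).trans this) (by norm_num)
    refine h4.trans (Nat.pos_of_ne_zero fun e => h3 (hρ ?_))
    rw [Submodule.finrank_eq_zero, LinearMap.range_eq_bot, sub_eq_zero] at e
    rw [e, map_one]
  · obtain ⟨n, -, hn⟩ := FiniteField.card F 2
    refine fin (fam_L2 (n := n) (by rw [Nat.card_eq_fintype_card, hn]) ?_)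
      (e.trans (Known.pmkEquiv (CharP.cast_eq_zero F 2)))
    rw [hn] at h4
    exact (Nat.pow_le_pow_iff_right one_lt_two).1 h4
  · have hF' : Nat.card F = q ^ 2 := by rw [Nat.card_eq_fintype_card, h3]
    obtain ⟨p, n, hpp, -, -, hn⟩ := Forms.exists_prime_pow_of_card_eq_sq hF'
    obtain rfl : p = 2 := ((Nat.prime_dvd_prime_iff_eq Nat.prime_two hpp).1
      (Nat.prime_two.dvd_of_dvd_pow (hn ▸ h1.two_dvd))).symm
    exact fin (fam_U hF' hn (by omega)) e
  · exact fin (fam_Sz h1 (by rw [Nat.card_eq_fintype_card, h2])) e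

end Cfsg.Agent.S3841
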