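import Cfsg.Statements.S3857
import Cfsg.Agent.Lib.Hall.TIHall
import Cfsg.Agent.Lib.Coprime.FrobKernel

set_option autoImplicit false
open Cfsg

namespace Cfsg.Agent.S3857

open scoped Pointwise commutatorElement
open Cfsg.Lib Cfsg.Lib.Hall

open Cfsg.Lib.Core Cfsg.Lib.Coprime Subgroup
open scoped Pointwise

/-- no element has order divisible by a prime in `π` and a prime outside `π` -/
def NC (π : Set ℕ) (G : Type*) [Group G] : Prop :=
  ∀ g : G, ∀ a b : ℕ, a.Prime → b.Prime → a ∈ π → b ∉ π → ¬ a * b ∣ orderOf g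

theorem NC.compl {π : Set ℕ} {G : Type*} [Group G] (h : NC π G) : NC πᶜ G :=
  fun g a b ha hb h1 h2 => mul_comm b a ▸ h g b a hb ha (not_not.mp h2) h1

theorem NC.quot {π : Set ℕ} {G : Type*} [Group G] (h : NC π G) (N : Subgroup G) [N.Normal] :
    NC π (G ⧸ N) := fun g a b ha hb h1 h2 hd => by
  obtain ⟨x, rfl⟩ := QuotientGroup.mk'_surjective N g
  exact h x a b ha hb h1 h2 (hd.trans (orderOf_map_dvd _ x))

theorem NC.fpf {π : Set ℕ} {G : Type*} [Group G] [Finite G] (h : NC π G) {K W : Subgroup G}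
    (hK : IsPiNumber π (Nat.card K)) (hW : IsPiNumber πᶜ (Nat.card W)) : Fpf K W := by
  refine fpf_iff.mpr fun r hr hr1 k hk e => ?_
  by_contra hk1
  obtain ⟨a, ha, hak⟩ := Nat.exists_prime_and_dvd (n := orderOf k) (by simpa using hk1)
  obtain ⟨b, hb, hbr⟩ := Nat.exists_prime_and_dvd (n := orderOf r) (by simpa using hr1)
  have h1 := isPi_orderOf_of_mem hK hk
  have h2 := isPi_orderOf_of_mem hW hr
  refine h (k * r) a b ha hb (h1 a ha hak) (h2 b hb hbr) ?_
  rw [Commute.orderOf_mul_eq_mul_orderOf_of_coprime e.symm (h1.coprime_compl h2)]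
  exact Nat.mul_dvd_mul hak hbr

theorem normal_hall {π : Set ℕ} {G : Type*} [Group G] [Finite G] [Group.IsSolvable G] (h : NC π G)
    (hO : piCore π G = ⊥) {W : Subgroup G} (hW : IsPiHall πᶜ W) (hf : FC W) : W.Normal := by
  by_cases hWt : W = ⊤
  · exact hWt ▸ inferInstance
  obtain ⟨p, hp, hpW⟩ := Nat.exists_prime_and_dvd (n := W.index) (by simpa using hWt)
  have hpπ : p ∈ π := by
    by_contra hn
    exact hW.2 p hp hn hpW
  have := Fact.mk hp
  obtain ⟨x, hx⟩ := exists_prime_orderOf_dvd_card' p (hpW.trans W.index_dvd_card)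
  set C := piCore πᶜ G with hC
  have hCW : C ≤ W := piCore_le_of_isPiHall hW
  have hx1 : x ≠ 1 := fun e => hp.one_lt.ne (by rw [← hx, e, orderOf_one])
  have hfp : C ⊓ centralizer {x} = ⊥ := (h.compl.fpf (K := C) (W := zpowers x) (isPi_piCore _ _) (by
    rw [compl_compl, Nat.card_zpowers, hx]
    exact fun q hq hd => (Nat.prime_dvd_prime_iff_eq hq hp).mp hd ▸ hpπ)) x (mem_zpowers x) hx1
  have hxn : x ∈ normalizer (C : Set G) := by rw [normalizer_eq_top]; trivial
  have hnil := isNilpotent_of_fpf_of_prime hxn inferInstance (hx ▸ hp) hfp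
  have hfC : FC C := hf.of_injective _ (inclusion_injective hCW)
  have hodd : Odd (Nat.card C) := by
    rw [← Nat.not_even_iff_odd, even_iff_two_dvd]
    intro h2
    obtain ⟨s, hs⟩ := exists_prime_orderOf_dvd_card' 2 h2
    have h3 := hfC.inv_unique hs (t := MulAut.conjNormal x s) (by rw [MulEquiv.orderOf_eq, hs])
    have h4 : (s : G) ∈ C ⊓ centralizer {x} := ⟨s.2, mem_centralizer_singleton_iff.mpr (by
      have := congrArg Subtype.val h3
      rw [MulAut.conjNormal_apply, mul_inv_eq_iff_eq_mul] at this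
      exact this.symm)⟩
    rw [hfp, mem_bot] at h4
    rw [← orderOf_coe, h4, orderOf_one] at hs
    exact absurd hs (by norm_num)
  have := hfC.isZGroup_of_odd hodd
  have h5 : _root_.commutator G ≤ C :=
    (PGrp.commutator_le_centralizer_of_isCyclic (C := C) inferInstance le_normalizer_of_normal
      le_normalizer_of_normal).trans
      (centralizer_piCore_le (piSep_of_isSolvable _) (by rwa [compl_compl]))
  exact Subgroup.Normal.of_commutator_le _ (h5.trans hCW)

theorem main {π : Set ℕ} {G : Type*} [Group G] [Finite G] [Group.IsSolvable G] (h : NC π G)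
    (hO : piCore π G ≠ ⊥) (hb : ∃ b ∉ π, b.Prime ∧ b ∣ Nat.card G) :
    (∃ C : Subgroup G, Cfsg.IsFrobeniusComplement C) ∨
    (∃ (H K : Subgroup G) (_ : H.Normal), K.Normal ∧ H < K ∧
      (∃ C : Subgroup ↥K, Cfsg.IsFrobeniusComplement C ∧ Cfsg.frobeniusKernel C = (H.subgroupOf K : Set ↥K)) ∧
      (∃ C : Subgroup (G ⧸ H), Cfsg.IsFrobeniusComplement C ∧ Cfsg.frobeniusKernel C = (K.map (QuotientGroup.mk' H) : Set (G ⧸ H)))) := by
  obtain ⟨W, hW⟩ := exists_isPiHall (G := G) πᶜ
  set K := piCore π G with hK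
  have hW1 : W ≠ ⊥ := by
    obtain ⟨b, hb1, hb2, hb3⟩ := hb
    rintro rfl
    exact hW.2 b hb2 hb1 (by rwa [index_bot])
  have hf : Fpf K W := h.fpf (isPi_piCore _ _) hW.1
  by_cases ht : K ⊔ W = ⊤
  · exact Or.inl ⟨W, isFrobeniusComplement_of_fpf hf ht hO hW1⟩
  right
  have hfc : FC W := FC.of_fpf hf le_normalizer_of_normal hO
  have hWq := isPiHall_map_mk' hW K
  have hinj : Function.Injective ((QuotientGroup.mk' K).subgroupMap W) := by
    rw [injective_iff_map_eq_one]
    intro a ha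
    have h1 : (a : G) ∈ K ⊓ W := ⟨(QuotientGroup.eq_one_iff _).mp (congrArg Subtype.val ha), a.2⟩
    rw [hf.inf_eq_bot, mem_bot] at h1
    exact Subtype.ext h1
  have hn : (W.map (QuotientGroup.mk' K)).Normal := normal_hall (h.quot K) piCore_quotient_piCore hWq
    (hfc.of_equiv (MulEquiv.ofBijective _ ⟨hinj, MonoidHom.subgroupMap_surjective _ _⟩).symm)
  have e1 : (W.map (QuotientGroup.mk' K)).comap (QuotientGroup.mk' K) = K ⊔ W := by
    rw [comap_map_eq, QuotientGroup.ker_mk', sup_comm]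
  have e2 : (K ⊔ W).map (QuotientGroup.mk' K) = W.map (QuotientGroup.mk' K) := by
    rw [← e1, map_comap_eq_self_of_surjective (QuotientGroup.mk'_surjective K)]
  have hne : ¬ W ≤ K := fun hle => hW1 (by rw [← hf.inf_eq_bot, inf_eq_right.mpr hle])
  refine ⟨K, K ⊔ W, inferInstance, e1 ▸ hn.comap _, left_lt_sup.mpr hne, ⟨W.subgroupOf _, ?_⟩, ?_⟩
  · have h1 : K.subgroupOf (K ⊔ W) ⊔ W.subgroupOf (K ⊔ W) = ⊤ := by
      rw [← subgroupOf_sup le_sup_left le_sup_right, subgroupOf_self]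
    refine ⟨isFrobeniusComplement_of_fpf (hf.subgroupOf _) h1 ?_ ?_,
      (coe_eq_frobeniusKernel_of_fpf (hf.subgroupOf _) h1).symm⟩
    · rw [Ne, subgroupOf_eq_bot, disjoint_iff, inf_eq_left.mpr le_sup_left]; exact hO
    · rw [Ne, subgroupOf_eq_bot, disjoint_iff, inf_eq_left.mpr le_sup_right]; exact hW1
  · rw [e2]
    obtain ⟨D, hD⟩ := exists_right_complement'_of_coprime (coprime_of_isPiHall hWq)
    have hf2 : Fpf (W.map (QuotientGroup.mk' K)) D := (h.quot K).compl.fpf hWq.1 (by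
      rw [← hD.symm.index_eq_card]; exact (isPiHall_iff.mp hWq).2)
    refine ⟨D, isFrobeniusComplement_of_fpf hf2 hD.sup_eq_top ?_ ?_,
      (coe_eq_frobeniusKernel_of_fpf hf2 hD.sup_eq_top).symm⟩
    · rwa [Ne, Subgroup.map_eq_bot_iff, QuotientGroup.ker_mk']
    · rintro rfl
      have := hD.sup_eq_top
      rw [sup_bot_eq] at this
      exact ht (by rw [← e1, this, comap_top])

/-- A finite solvable group whose prime graph (prime divisors of the order, two distinct primes joined when there is an element of order their product) is disconnected is a Frobenius group or a 2-Frobenius group (it has normal subgroups H < K with K a Frobenius group with kernel H and G/H a Frobenius group with kernel K/H). -/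
theorem result {G : Type*} [Group G] [Finite G] (hsol : Group.IsSolvable G)
    (hdisc : (∃ A : Set ℕ, (∃ a ∈ A, a.Prime ∧ a ∣ Nat.card G) ∧ (∃ b ∉ A, b.Prime ∧ b ∣ Nat.card G) ∧
      ∀ a ∈ A, ∀ b ∉ A, a.Prime → b.Prime → a ∣ Nat.card G → b ∣ Nat.card G → ¬ ∃ g : G, orderOf g = a * b)) :
    (∃ C : Subgroup G, Cfsg.IsFrobeniusComplement C) ∨
    (∃ (H K : Subgroup G) (_ : H.Normal), K.Normal ∧ H < K ∧
      (∃ C : Subgroup ↥K, Cfsg.IsFrobeniusComplement C ∧ Cfsg.frobeniusKernel C = (H.subgroupOf K : Set ↥K)) ∧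
      (∃ C : Subgroup (G ⧸ H), Cfsg.IsFrobeniusComplement C ∧ Cfsg.frobeniusKernel C = (K.map (QuotientGroup.mk' H) : Set (G ⧸ H)))) := by
  obtain ⟨A, ha, hb, h⟩ := hdisc
  have hN : NC A G := fun g a b h1 h2 h3 h4 hd => by
    have hd' := hd.trans (orderOf_dvd_natCard g)
    exact h a h3 b h4 h1 h2 ((dvd_mul_right a b).trans hd') ((dvd_mul_left b a).trans hd')
      ⟨_, orderOf_pow_orderOf_div (orderOf_pos g).ne' hd⟩
  have : Nontrivial G := by
    obtain ⟨a, -, h1, h2⟩ := ha
    rw [← Finite.one_lt_card_iff_nontrivial]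
    exact h1.one_lt.trans_le (Nat.le_of_dvd Nat.card_pos h2)
  rcases piCore_ne_bot_or_of_piSep (piSep_of_isSolvable (G := G) A) with h1 | h1
  · exact main hN h1 hb
  · obtain ⟨a, h2, h3⟩ := ha
    exact main hN.compl h1 ⟨a, not_not.mpr h2, h3⟩

end Cfsg.Agent.S3857
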