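import Cfsg.Statements.S3859
import Cfsg.Agent.Lib.Transfer.Frobenius
import Cfsg.Agent.Lib.Core.Nilpotent

set_option autoImplicit false
open Cfsg

open Subgroup Cfsg.Lib
open scoped commutatorElement
open Transfer
namespace Cfsg.Agent.S3859

theorem aux {G : Type*} [Group G] [Finite G] (T : Subgroup G) [T.Normal] (hT : IsSimpleGroup T) (hna : ¬ IsMulCommutative T)
    {r : ℕ} [Fact r.Prime] (R : Sylow r G) (hR0 : (R : Subgroup G) ⊓ T ≠ ⊥) :
    ∃ M, IsCoatom M ∧ normalizer (((R : Subgroup G) ⊓ T : Subgroup G) : Set G) ≤ M := by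
  refine Core.exists_coatom_ge fun h => ?_
  have := normalizer_eq_top_iff.1 h
  rcases hT.eq_bot_or_eq_top_of_normal (((R : Subgroup G) ⊓ T).subgroupOf T) inferInstance with h1 | h1
  · exact hR0 (eq_bot_iff.2 ((le_inf le_rfl inf_le_right).trans (disjoint_iff.1 (subgroupOf_eq_bot.1 h1)).le))
  · have := (R.isPGroup'.to_le ((subgroupOf_eq_top.1 h1).trans inf_le_left)).isNilpotent
    exact hna ⟨⟨IsSimpleGroup.comm_iff_isSolvable.2 inferInstance⟩⟩

/-- Let G be a finite group with a normal non-abelian simple subgroup T whose centralizer is trivial (G almost simple with socle T), r a prime and R a Sylow r-subgroup of G meeting T nontrivially. If R lies in exactly one maximal subgroup of G, then G/T is an r-group. -/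
theorem result {G : Type*} [Group G] [Finite G] (T : Subgroup G) [T.Normal] (hT : IsSimpleGroup T) (hna : ¬ IsMulCommutative T)
    (hC : Subgroup.centralizer (T : Set G) = ⊥) {r : ℕ} [Fact r.Prime] (R : Sylow r G) (hR0 : (R : Subgroup G) ⊓ T ≠ ⊥)
    (huniq : ∃! M : Subgroup G, IsCoatom M ∧ (R : Subgroup G) ≤ M) : IsPGroup r (G ⧸ T) := by
  obtain ⟨M, hM, h1⟩ := aux T hT hna R hR0
  have h2 : T ⊔ R = ⊤ := by
    by_contra h2
    obtain ⟨M', hM', h3⟩ := Core.exists_coatom_ge h2
    have h4 := huniq.unique ⟨hM, (Core.le_normalizer_inf le_normalizer le_normalizer_of_normal).trans h1⟩ ⟨hM', le_sup_right.trans h3⟩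
    have h5 := (sylowIn_inf_normal R T).frattini_sup (H := ⊤) le_top le_normalizer_of_normal
    exact hM.1 (eq_top_iff.2 (h5 ▸ sup_le (h4 ▸ le_sup_left.trans h3) (inf_le_right.trans h1)))
  have h3 := R.isPGroup'.map (QuotientGroup.mk' T)
  have h4 : (R : Subgroup G).map (QuotientGroup.mk' T) = ⊤ := by
    rw [eq_top_iff, ← map_top_of_surjective _ (QuotientGroup.mk'_surjective T), Core.map_mk'_le_map_mk'_iff, h2]
  exact Core.isPGroup_top_iff.1 (h4 ▸ h3)

end Cfsg.Agent.S3859
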