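import Cfsg.Statements.S3858
import Cfsg.Agent.S3859

set_option autoImplicit false
open Cfsg

open Subgroup Cfsg.Lib
open scoped commutatorElement
open Transfer
namespace Cfsg.Agent.S3858

/-- Let G be a finite group with a normal non-abelian simple subgroup T whose centralizer is trivial (G almost simple with socle T), r a prime and R a Sylow r-subgroup of G meeting T nontrivially. Then R lies in exactly one maximal subgroup of G if and only if G has exactly one conjugacy class of maximal subgroups whose index is prime to r. -/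
theorem result {G : Type*} [Group G] [Finite G] (T : Subgroup G) [T.Normal] (hT : IsSimpleGroup T) (hna : ¬ IsMulCommutative T)
    (hC : Subgroup.centralizer (T : Set G) = ⊥) {r : ℕ} [Fact r.Prime] (R : Sylow r G) (hR0 : (R : Subgroup G) ⊓ T ≠ ⊥) :
    (∃! M : Subgroup G, IsCoatom M ∧ (R : Subgroup G) ≤ M) ↔
      ((∃ M : Subgroup G, IsCoatom M ∧ ¬ r ∣ M.index) ∧
        ∀ M₁ M₂ : Subgroup G, IsCoatom M₁ → ¬ r ∣ M₁.index → IsCoatom M₂ → ¬ r ∣ M₂.index → ∃ g : G, M₂ = M₁.map (MulAut.conj g).toMonoidHom) := by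
  have hi : ∀ M : Subgroup G, (R : Subgroup G) ≤ M → ¬ r ∣ M.index := fun M h h1 => R.not_dvd_index (h1.trans (index_dvd_of_le h))
  have hc : ∀ M : Subgroup G, IsCoatom M → ¬ r ∣ M.index → ∃ g, IsCoatom (cj g M) ∧ (R : Subgroup G) ≤ cj g M := fun M hM h => by
    obtain ⟨U, hU⟩ := exists_sylowIn r M
    have hU' : SylowIn r U ⊤ := ⟨le_top, hU.isPGroup, by
      rw [relIndex_top_right, ← relIndex_mul_index hU.le]; exact (Fact.out : r.Prime).not_dvd_mul hU.not_dvd h⟩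
    obtain ⟨g, -, e⟩ := hU'.exists_cj_eq (sylowIn_top R)
    exact ⟨g, (OrderIso.isCoatom_iff (MulAut.conj g).mapSubgroup M).2 hM, e ▸ cj_mono g hU.le⟩
  refine ⟨fun h => ⟨h.exists.imp fun M hM => ⟨hM.1, hi M hM.2⟩, fun M₁ M₂ h1 h2 h3 h4 => ?_⟩, fun ⟨⟨M₀, h0, h0'⟩, h⟩ => ?_⟩
  · obtain ⟨g, hg⟩ := hc M₁ h1 h2
    obtain ⟨k, hk⟩ := hc M₂ h3 h4
    exact ⟨k⁻¹ * g, by rw [← cj_def, cj_mul, h.unique hg hk, cj_inv_cj]⟩
  · obtain ⟨M, hM, h1⟩ := S3859.aux T hT hna R hR0
    have h2 : normalizer ((R : Subgroup G) : Set G) ≤ M := (Core.le_normalizer_inf le_rfl le_normalizer_of_normal).trans h1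
    refine ⟨M, ⟨hM, le_normalizer.trans h2⟩, fun M' hM' => ?_⟩
    obtain ⟨g, hg⟩ := h M M' hM (hi M (le_normalizer.trans h2)) hM'.1 (hi M' hM'.2)
    obtain ⟨n, hn, d, hd, e⟩ := (sylowIn_top R).burnside_fusion (mem_top g) (le_normalizer.trans h2) (hM'.2.trans hg.le)
    rw [hg, ← cj_def, cj_eq_of_mem (by rw [eq_mul_inv_of_mul_eq e.symm]; exact mul_mem (h2 hn.2) (inv_mem hd.2))]

end Cfsg.Agent.S3858
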