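import Cfsg.Statements.S3862
import Cfsg.Agent.Lib.Hall.RealElt
import Cfsg.Agent.Lib.Coprime.PGroup

set_option autoImplicit false
open Cfsg

namespace Cfsg.Agent.S3862

open scoped Pointwise commutatorElement
open Cfsg.Lib Cfsg.Lib.Hall

open Subgroup in
theorem aux {G : Type*} [Group G] [Finite G]
    (h : ∀ x : G, (∃ j : ℕ, orderOf x = 2 ^ j) → IsConj x x⁻¹ → x ∈ Subgroup.center G)
    {A : Subgroup G} (hA : (Nat.card A).Coprime 2) (Q : Subgroup G) :
    IsPGroup 2 Q → A ≤ normalizer (Q : Set G) → A ≤ centralizer (Q : Set G) := by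
  haveI : Fact (Nat.Prime 2) := ⟨Nat.prime_two⟩
  induction Q using WellFoundedLT.induction with
  | _ Q ih =>
  intro hQ hAQ
  by_contra hne
  have hcop : (Nat.card A).Coprime (Nat.card Q) := Coprime.coprime_card_of_isPGroup hQ hA
  have hlt : ∀ R : Subgroup G, R ≤ Q → A ≤ normalizer (R : Set G) → R = Q ∨ R ≤ centralizer (A : Set G) := by
    intro R hR hAR
    rcases hR.eq_or_lt with e | e
    · exact Or.inl e
    · exact Or.inr (le_centralizer_iff.mp (ih R e (hQ.to_le hR) hAR))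
  have h1 : ⁅Q, A⁆ = Q := by
    rcases hlt _ (Coprime.commutator_le_of_le_normalizer hAQ)
      (Core.le_normalizer_commutator hAQ le_normalizer) with e | e
    · exact e
    · exact absurd (Coprime.le_centralizer_of_commutator_le_centralizer hAQ hcop e) hne
  set C := Q ⊓ centralizer (A : Set G) with hC
  have hCQ : C < Q := lt_of_le_of_ne inf_le_left (fun e => hne (by
    rw [le_centralizer_iff, ← e]; exact inf_le_right))
  have hAC : A ≤ normalizer (C : Set G) :=
    Core.le_normalizer_inf hAQ (Core.le_normalizer_centralizer le_normalizer)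
  have hQC : Q ≤ normalizer (C : Set G) := by
    have h2 := Transfer.lt_inf_normalizer hQ hCQ
    rcases hlt _ inf_le_left (Core.le_normalizer_inf hAQ (Core.le_normalizer_normalizer hAC)) with e | e
    · rw [← e]; exact inf_le_right
    · exact absurd (le_inf inf_le_left e) (not_le_of_gt h2)
  have hCZ : Q ≤ centralizer (C : Set G) := by
    have := Coprime.commutator_le_centralizer_of_centralizes hQC
      (le_centralizer_iff.mp (inf_le_right : C ≤ _))
    rwa [h1] at this
  have hQ1 : Q ≠ ⊥ := ne_bot_of_gt hCQ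
  have hΦ : (frattini Q).map Q.subtype ≤ C := by
    rcases hlt _ (Core.frattiniOf_le Q) (hAQ.trans (Core.normalizer_le_normalizer_frattiniOf Q)) with e | e
    · exact absurd e (Core.frattiniOf_lt hQ1).ne
    · exact le_inf (Core.frattiniOf_le Q) e
  obtain ⟨hQQ, hsq⟩ := (Core.frattiniOf_le_iff hQ).mp hΦ
  obtain ⟨x, hxQ, hxC⟩ := SetLike.exists_of_lt hCQ
  have hcomm : ∀ a ∈ Q, ∀ b ∈ Q, ⁅a, b⁆ ∈ C := fun a ha b hb => hQQ (commutator_mem_commutator ha hb)
  have hcz : ∀ c ∈ C, ∀ y ∈ Q, y * c = c * y := fun c hc y hy => (hCZ hy c hc).symm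
  -- the subgroup `[Q, x]`
  let D : Subgroup G :=
    { carrier := {d | ∃ y ∈ Q, d = ⁅y, x⁆}
      one_mem' := ⟨1, Q.one_mem, by simp⟩
      mul_mem' := by
        rintro _ _ ⟨y, hy, rfl⟩ ⟨z, hz, rfl⟩
        refine ⟨y * z, Q.mul_mem hy hz, ?_⟩
        have := hcz _ (hcomm z hz x hxQ) y hy
        have h3 := hcz _ (hcomm z hz x hxQ) _ (hcomm y hy x hxQ).1
        calc ⁅y, x⁆ * ⁅z, x⁆ = ⁅z, x⁆ * ⁅y, x⁆ := h3
          _ = ⁅z, x⁆ * y * (x * y⁻¹ * x⁻¹) := by simp only [commutatorElement_def]; group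
          _ = _ := by rw [← this]; simp only [commutatorElement_def]; group
      inv_mem' := by
        rintro _ ⟨y, hy, rfl⟩
        refine ⟨y⁻¹, Q.inv_mem hy, ?_⟩
        have := hcz _ (C.inv_mem (hcomm y hy x hxQ)) y hy
        calc ⁅y, x⁆⁻¹ = y⁻¹ * (y * ⁅y, x⁆⁻¹) := by group
          _ = y⁻¹ * (⁅y, x⁆⁻¹ * y) := by rw [this]
          _ = _ := by simp only [commutatorElement_def]; group }
  have hDC : D ≤ C := by
    rintro _ ⟨y, hy, rfl⟩
    exact hcomm y hy x hxQ
  let W : Subgroup G :=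
    { carrier := {w | w ∈ Q ∧ ∀ y ∈ Q, ⁅y, w⁆ ∈ D}
      one_mem' := ⟨Q.one_mem, fun y _ => by simp⟩
      mul_mem' := by
        rintro v w ⟨hv, hv'⟩ ⟨hw, hw'⟩
        refine ⟨Q.mul_mem hv hw, fun y hy => ?_⟩
        have := hcz _ (hcomm y hy w hw) v hv
        have e : ⁅y, v * w⁆ = ⁅y, v⁆ * (v * ⁅y, w⁆) * v⁻¹ := by
          simp only [commutatorElement_def]; group
        rw [e, this, mul_assoc, mul_inv_cancel_right]
        exact D.mul_mem (hv' y hy) (hw' y hy)
      inv_mem' := by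
        rintro v ⟨hv, hv'⟩
        refine ⟨Q.inv_mem hv, fun y hy => ?_⟩
        have := hcz _ (C.inv_mem (hcomm y hy v hv)) v hv
        have e : ⁅y, v⁻¹⁆ = v⁻¹ * (⁅y, v⁆⁻¹ * v) := by
          simp only [commutatorElement_def]; group
        rw [e, ← this, inv_mul_cancel_left]
        exact D.inv_mem (hv' y hy) }
  have hAW : A ≤ normalizer (W : Set G) := by
    intro a ha
    apply Core.mem_normalizer_of_conj_mem
    rintro w ⟨hw, hw'⟩
    refine ⟨Core.conj_mem_of_mem_normalizer (hAQ ha) hw, fun y hy => ?_⟩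
    have h3 := hw' _ (Core.conj_inv_mem_of_mem_normalizer (hAQ ha) hy)
    have h4 := (hDC h3).2 a ha
    have e : ⁅y, a * w * a⁻¹⁆ = a * ⁅a⁻¹ * y * a, w⁆ * a⁻¹ := by
      simp only [commutatorElement_def]; group
    rw [e, h4, mul_inv_cancel_right]
    exact h3
  have hxW : x ∈ W := ⟨hxQ, fun y hy => ⟨y, hy, rfl⟩⟩
  rcases hlt W (fun w hw => hw.1) hAW with e | e
  · have h5 : ⁅Q, Q⁆ ≤ D := by
      rw [commutator_le]
      intro a ha b hb
      have hb' : b ∈ W := e ▸ hb
      exact hb'.2 a ha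
    have h6 := inf_centralizer_inf_commutator_le hAQ hcop
    rw [h1, ← hC] at h6
    obtain ⟨y, hy, hxy⟩ := h5 (h6 ⟨C.inv_mem (hsq x hxQ), (C.inv_mem (hsq x hxQ)).1⟩)
    have hr : IsConj x x⁻¹ := isConj_iff.mpr ⟨y, by
      calc y * x * y⁻¹ = ⁅y, x⁆ * x := by simp only [commutatorElement_def]; group
        _ = _ := by rw [← hxy]; group⟩
    have := h x ((isPGroup_zpowers_iff Nat.prime_two).mp (isPGroup_zpowers_of_mem hQ hxQ)) hr
    exact hxC ⟨hxQ, fun a _ => mem_center_iff.mp this a⟩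
  · exact hxC ⟨hxQ, e hxW⟩

/-- If every 2-element of the finite group G that is conjugate to its inverse lies in the centre of G, then G has a normal 2-complement. -/
theorem result {G : Type*} [Group G] [Finite G] (h : ∀ x : G, (∃ j : ℕ, orderOf x = 2 ^ j) → IsConj x x⁻¹ → x ∈ Subgroup.center G) : Cfsg.HasNormalPComplement 2 G := by
  haveI : Fact (Nat.Prime 2) := ⟨Nat.prime_two⟩
  obtain ⟨P⟩ : Nonempty (Sylow 2 G) := inferInstance
  rw [Transfer.hasNormalPComplement_iff_top, (Transfer.sylowIn_top P).pnil_iff_forall]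
  intro Q hQ g _ hg hc
  exact aux h (A := Subgroup.zpowers g) (by rwa [Nat.card_zpowers]) Q (P.isPGroup'.to_le hQ)
    (by rwa [Subgroup.zpowers_le]) (Subgroup.mem_zpowers g)

end Cfsg.Agent.S3862
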