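import Cfsg.Statements.S3863
import Cfsg.Agent.Lib.Hall.RealElt

set_option autoImplicit false
open Cfsg

namespace Cfsg.Agent.S3863

open scoped Pointwise
open Cfsg.Lib Cfsg.Lib.Hall

/-- Let x be an element of the finite group G that is conjugate to its inverse. Then some 2-element conjugates x to its inverse; if the conjugacy class of x has odd size then x ^ 2 = 1; and x lies in, and is conjugate to its inverse inside, every normal subgroup of odd index. -/
theorem result {G : Type*} [Group G] [Finite G] (x : G) (hx : IsConj x x⁻¹) : (∃ t : G, (∃ j : ℕ, orderOf t = 2 ^ j) ∧ t * x * t⁻¹ = x⁻¹) ∧ (Odd (Subgroup.centralizer ({x} : Set G)).index → x ^ 2 = 1) ∧ ∀ (N : Subgroup G) [N.Normal], Odd N.index → ∃ hxN : x ∈ N, IsConj (⟨x, hxN⟩ : N) (⟨x, hxN⟩ : N)⁻¹ := by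
  obtain ⟨t, ht, htx⟩ := exists_two_inverts hx
  refine ⟨⟨t, (isPGroup_zpowers_iff Nat.prime_two).mp ht, htx⟩, fun ho => ?_, fun N _ ho => ?_⟩
  · exact sq_eq_one_of_real_of_odd_cs hx (by rw [← even_iff_two_dvd]; exact Nat.not_even_iff_odd.mpr ho)
  · have hN : ¬ 2 ∣ N.index := by rw [← even_iff_two_dvd]; exact Nat.not_even_iff_odd.mpr ho
    have htN : t ∈ N := mem_of_isPGroup_of_not_dvd_index Nat.prime_two ht
      (by rw [Subgroup.normalizer_eq_top]; exact Subgroup.mem_top t) hN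
    have h1 : x ^ 2 ∈ N := by
      have : x ^ 2 = (x * t * x⁻¹) * t⁻¹ := by
        calc x ^ 2 = x * (t * x * t⁻¹)⁻¹ := by rw [htx, inv_inv, pow_two]
          _ = _ := by group
      rw [this]
      exact N.mul_mem (Subgroup.Normal.conj_mem ‹_› t htN x) (N.inv_mem htN)
    have h2 : x ∈ N := by
      rw [← QuotientGroup.eq_one_iff] at h1 ⊢
      refine eq_one_of_odd_of_sq_eq_one (ho.of_dvd_nat (orderOf_dvd_natCard _)) h1
    exact ⟨h2, isConj_iff.mpr ⟨⟨t, htN⟩, Subtype.ext htx⟩⟩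

end Cfsg.Agent.S3863
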