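import Cfsg.Statements.S3864
import Cfsg.Agent.Lib.ABG.MC

set_option autoImplicit false
open Cfsg Cfsg.Lib Cfsg.Lib.ABG Cfsg.Lib.Invol Cfsg.Lib.Transfer Subgroup

namespace Cfsg.Agent.S3864

/-- Let G be a finite group whose Sylow 2-subgroups are dihedral of order 2 ^ n with n ≥ 3, and count the conjugacy classes of involutions of G. Then exactly one of the following holds: there is one class of involutions and no normal subgroup of index 2; there are two classes of involutions, a normal subgroup of index 2 and none of index 4; there are three classes of involutions and G has a normal 2-complement. -/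
theorem result {G : Type*} [Group G] [Finite G] (P : Sylow 2 G) (n : ℕ) (hn : 3 ≤ n) (hdih : Nonempty (↥(P : Subgroup G) ≃* DihedralGroup (2 ^ (n - 1)))) : (Nat.card {C : ConjClasses G // ∃ g : G, ConjClasses.mk g = C ∧ orderOf g = 2} = 1 ∧ ∀ N : Subgroup G, N.Normal → N.index ≠ 2) ∨ (Nat.card {C : ConjClasses G // ∃ g : G, ConjClasses.mk g = C ∧ orderOf g = 2} = 2 ∧ (∃ N : Subgroup G, N.Normal ∧ N.index = 2) ∧ ∀ N : Subgroup G, N.Normal → N.index ≠ 4) ∨ (Nat.card {C : ConjClasses G // ∃ g : G, ConjClasses.mk g = C ∧ orderOf g = 2} = 3 ∧ Cfsg.HasNormalPComplement 2 G) := by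
  have := fact_two
  obtain ⟨e⟩ := hdih
  obtain ⟨k, -, E, hε⟩ := exists_mc_dih P.2 e (by
    rw [Nat.card_congr e.toEquiv, DihedralGroup.nat_card]
    have := Nat.pow_le_pow_right two_pos (show 2 ≤ n - 1 by omega); omega)
  have hs := sylowIn_top P
  rw [card_congr_iff (q := fun C : ConjClasses G => ∃ t : G, orderOf t = 2 ∧ ConjClasses.mk t = C)
    fun _ => exists_congr fun _ => and_comm]
  have key : ∀ a, E.FK a → ¬ E.FK (a + 1) → Nat.card {C : ConjClasses G // ∃ t : G, orderOf t = 2 ∧ ConjClasses.mk t = C} = 2 ∧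
      (∃ N : Subgroup G, N.Normal ∧ N.index = 2) ∧ ∀ N : Subgroup G, N.Normal → N.index ≠ 4 := fun a h0 h1 => by
    have h2 := E.index_resOf hs (Or.inl h0) h1 (E.not_FQ hε _)
    refine ⟨E.dih_two hε hs h0 h1, ⟨_, resOf_normal ⊤, h2⟩, fun N _ h => ?_⟩
    have := index_dvd_of_le (resOf_le_of_relIndex_eq_pow (p := 2) (H := ⊤) (K := N) le_normalizer_of_normal (n := 2) (by simpa using h))
    rw [h, h2] at this; omega
  by_cases h0 : E.FK 0 <;> by_cases h1 : E.FK 1
  · exact Or.inl ⟨E.dih_one hε hs h0 h1, fun N _ => no2_of_resOf (E.resOf_eq_top hs (Or.inl h0) (Or.inl h1)) N⟩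
  · exact Or.inr (Or.inl (key 0 h0 (by rwa [zero_add])))
  · exact Or.inr (Or.inl (key 1 h1 (mt E.FK_two.1 h0)))
  · exact Or.inr (Or.inr ⟨E.dih_three hε hs h0 h1, hasNormalPComplement_iff_top.2 (E.dih_pnil hε hs h0 h1)⟩)

end Cfsg.Agent.S3864
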