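import Cfsg.Statements.S3865
import Cfsg.Agent.Lib.Coprime.Frobenius
import Cfsg.Agent.Lib.BG1.Sec1
import Cfsg.Agent.Lib.Fus3.MaxCl
import Cfsg.Agent.Lib.Block.Homocyc
import Cfsg.Agent.Lib.Layer.Quasisimple
import Cfsg.Agent.Lib.Hall.ClassSize

set_option autoImplicit false
open Cfsg

open Subgroup Cfsg.Lib
open scoped commutatorElement
open Cfsg.Lib.Transfer Cfsg.Lib.Fus Cfsg.FusionSystem
namespace Cfsg.Agent.S3865

variable {G : Type*} [Group G] [Finite G] {p n : ℕ} [hp : Fact p.Prime] {S H N : Subgroup G} {Γ : ℕ → Subgroup G} {x : G}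

theorem fact_two (P : Sylow p G) (hx : x ∈ (P : Subgroup G))
    (h : ∀ g, g * x * g⁻¹ ∈ (P : Subgroup G) → Nat.card ↥((P : Subgroup G) ⊓ centralizer {g * x * g⁻¹}) = p ^ 2) :
    (Nat.card (centralizer ({x} : Set G))).factorization p = 2 := by
  obtain ⟨T, h1, hT⟩ := exists_sylowIn_ge (Hall.isPGroup_zpowers_of_mem P.2 hx) (zpowers_le.2 (Hall.self_mem_cent x))
  obtain ⟨g, -, hg⟩ := (sylowIn_top P).exists_cj_le hT.2 le_top
  have h2 := hT.cj g
  rw [cj_eq_smul g (centralizer _), ← Hall.cent_conj] at h2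
  have := h g (cj_le_iff.1 hg x (zpowers_le.1 h1))
  rw [h2.eq_of_le (P.2.to_le inf_le_left) (le_inf hg h2.1) inf_le_right, card_cj, hT.card_eq_pow] at this
  exact Nat.pow_right_injective hp.out.two_le this

omit [Finite G] in
theorem le_of_level (h : MxC p S n Γ) (hb : Γ n = ⊥) (hx : Un n Γ x) (hn : x ∈ normalizer (H : Set G)) :
    ∀ d j, j + d = n → 1 ≤ j → ∀ y ∈ H, y ∈ Γ j → y ∉ Γ (j + 1) → Γ j ≤ H := by
  intro d
  induction d with
  | zero => intro j e _ _ _ _ _; rw [h.eq_bot hb (by omega)]; exact bot_le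
  | succ d ih =>
    intro j e h1 y hy h2 h3
    refine (h.ip j (by omega)).le_of_mem h2 h3 ?_ hy
    by_cases hj : j + 2 ≤ n
    · exact ih _ (by omega) (by omega) (PGrp.dl x y) (mul_mem (inv_mem hy) (Transfer.conj_mem_of_mem_normalizer hn hy))
        (h.dl_mem (h.un_mem hx) h2) (PGrp.dl_eq x y ▸ h.comm_not_mem hx h1 hj (inv_mem h2) fun e => h3 (inv_mem_iff.1 e))
    · rw [h.eq_bot hb (by omega)]; exact bot_le

theorem un_conj (P : Sylow p G) (h : MxC p P n Γ) (hb : Γ n = ⊥)
    (hl : ∀ i, Γ (i + 2) = (P : Subgroup G).lowerCentralSeries (i + 1)) [N.Normal] (hN : Γ (n - 2) ≤ N) (hx : Un n Γ x)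
    (hxN : x ∉ N) {g : G} (hg : g * x * g⁻¹ ∈ (P : Subgroup G)) : Un n Γ (g * x * g⁻¹) := by
  have h4 := h.four
  have nn : ∀ g x : G, x ∉ N → g * x * g⁻¹ ∉ N := fun g x hx e => hx (by
    simpa [mul_assoc] using Normal.conj_mem inferInstance _ e g⁻¹)
  refine (sylowIn_top P).alperin_induction (fun D g => ∀ x ∈ D, x ∉ N → Un n Γ x → Un n Γ (g * x * g⁻¹))
    (fun D E g h hE x hx => h x (hE hx)) (fun D g k _ _ h1 h2 x hx h3 h4 => ?_) (fun D hD _ _ m hm x hx hxN hu => ?_)
    (zpowers x) (zpowers_le.2 (h.un_mem hx)) g (mem_top g) (cj_zpowers_le.2 hg) x (mem_zpowers x) hxN hx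
  · simpa [mul_assoc] using h2 _ (conj_mem_cj.2 hx) (nn g x h3) (h1 x hx h3 h4)
  have hx' := Transfer.conj_mem_of_mem_normalizer hm.2 hx
  by_cases hP : D = P
  · subst hP
    have n1 : ∀ i, normalizer ((P : Subgroup G) : Set G) ≤ normalizer ((P : Subgroup G).lowerCentralSeries i : Set G) :=
      fun i => by
        induction i with
        | zero => exact le_rfl
        | succ i ih => exact Core.le_normalizer_commutator ih le_rfl
    have n2 : ∀ i, m * x * m⁻¹ ∈ tw Γ (i + 2) → x ∈ tw Γ (i + 2) := fun i e => h.mem_tw.2 ⟨hx, fun y hy => by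
      have := Transfer.conj_mem_of_mem_normalizer (hl _ ▸ n1 _ (inv_mem hm.2) : m⁻¹ ∈ normalizer (Γ (i + 2 + 2) : Set G))
        ((h.mem_tw.1 e).2 _ (Transfer.conj_mem_of_mem_normalizer (hl _ ▸ n1 _ hm.2) hy))
      simpa [commutatorElement_def, mul_assoc] using this⟩
    obtain ⟨k, rfl⟩ : ∃ k, n = k + 2 + 2 := ⟨n - 4, by omega⟩
    exact h.un_iff.2 ⟨hx', fun e => hu.2 2 (by omega) (by omega) (n2 0 (h.le_tw_two e)),
      fun e => hu.2 (k + 2) (by omega) le_rfl (n2 k e)⟩
  by_contra hn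
  have lv := le_of_level h hb hu (le_normalizer hx)
  have d2 : ∀ y ∈ D, y ∈ Γ 1 → y ∈ Γ 2 := fun y hy h1 => by_contra fun h2 => hP (le_antisymm hD
    (h.ip0.le_of_mem (hD hx) (h.un_not_mem hu) (lv (n - 1) 1 (by omega) le_rfl y hy h1 h2) hx))
  have h2 : m * x * m⁻¹ ∈ Γ 2 := d2 _ hx' (by_contra fun h1 => hn (h.un_iff.2 ⟨hD hx', h1, fun h3 => h1 (by
    obtain ⟨k, hk, i, e⟩ := h.ip0.dec x (hD hx) (h.un_not_mem hu) _ (hD hx')
    have hkD : k ∈ D := (mul_mem_cancel_right (zpow_mem hx i)).1 (e ▸ hx')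
    rw [e] at h3 ⊢
    exact mul_mem hk ((h.ip0.zpow_mem_iff (hD hx) (h.un_not_mem hu)).2
      (((h.ip_tw (by omega) (by omega)).zpow_mem_iff (hD hx) (h.un_iff.1 hu).2.2).1
        ((mul_mem_cancel_left (h.two_le_tw _ (d2 k hkD hk))).1 h3))))⟩))
  obtain ⟨j, j2, h3, h5⟩ := h.exists_level hb h2 fun e => nn m x hxN (e ▸ one_mem N)
  have hj : j ≤ n - 2 := not_lt.1 fun e => nn m x hxN (hN (h.anti e.le h3))
  have h6 : Γ (n - 2) < D ⊓ centralizer {m * x * m⁻¹} := lt_of_le_of_ne (le_inf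
    ((h.anti hj).trans (lv (n - j) j (by omega) (by omega) _ hx' h3 h5)) fun y hy => Hall.mem_cent_iff.2 (by
      have := (h.mem_tw.1 (h.two_le_tw (n - 2) h2)).2 y hy
      rwa [h.eq_bot hb (by omega), mem_bot, commutatorElement_eq_one_iff_mul_comm] at this))
    fun e => nn m x hxN (hN (e ▸ mem_inf.2 ⟨hx', Hall.self_mem_cent _⟩))
  have := Transfer.card_lt_of_lt h6
  rw [Hall.cent_conj, ← cj_eq_smul, ← cj_eq_of_mem_normalizer hm.2, ← cj_inf, card_cj, h.card_eq hb 2 _ (by omega)] at this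
  have h7 := card_le_of_le (inf_le_inf_right (centralizer {x}) hD)
  rw [(h.ip_cent hu hb).card, h.card_eq hb 1 _ (by omega), ← pow_succ'] at h7
  exact this.not_ge h7

/-- Let G be a finite group whose Sylow p-subgroup P has order p ^ n with n ≥ 2 and nilpotency class n - 1 (maximal class), whose largest normal subgroup of order prime to p is trivial, and which has no proper normal subgroup of index prime to p. Then either some x ∈ P has a centralizer in G whose order has p-part p ^ 2, or G is quasisimple with centre of order at most p. -/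
theorem result {G : Type*} [Group G] [Finite G] (p : ℕ) [Fact p.Prime] (P : Sylow p G) (n : ℕ) (hP : Nat.card P = p ^ n) (hn : 2 ≤ n) (hmax : Group.nilpotencyClass ↥(P : Subgroup G) = n - 1) (hcore : Cfsg.pPrimeCore p G = ⊥) (hres : ∀ N : Subgroup G, N.Normal → (N.index).Coprime p → N = ⊤) : (∃ x ∈ (P : Subgroup G), (Nat.card (Subgroup.centralizer ({x} : Set G))).factorization p = 2) ∨ (Cfsg.IsQuasisimple G ∧ Nat.card (Subgroup.center G) ≤ p) := by
  by_contra hc
  obtain ⟨hc1, hc⟩ := not_or.1 hc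
  push Not at hc1
  have hp : p.Prime := Fact.out
  have n3 : 3 ≤ n := by
    by_contra h2
    obtain rfl : n = 2 := by omega
    refine hc1 1 (one_mem _) (Nat.pow_right_injective hp.two_le ?_)
    rw [Hall.cent_eq_top_iff.2 (one_mem _), card_top]
    exact P.card_eq_multiplicity.symm.trans hP
  have hl := lcs_ne_bot_of_class hP hn hmax
  have na : ¬ IsMulCommutative (P : Subgroup G) := fun h => hl (by
    obtain ⟨k, rfl⟩ : ∃ k, n = k + 3 := ⟨n - 3, by omega⟩
    exact le_bot_iff.1 ((Subgroup.lowerCentralSeries_antitone _ (show 1 ≤ k + 1 by omega)).trans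
      (commutator_eq_bot_iff_le_centralizer.2 (le_centralizer_iff_isMulCommutative.2 h)).le))
  have hO : ∀ N : Subgroup G, N.Normal → ¬ p ∣ Nat.card N → N = ⊥ := fun N _ h =>
    le_bot_iff.1 (hcore ▸ le_sSup ⟨inferInstance, ((Nat.Prime.coprime_iff_not_dvd hp).2 h).symm⟩)
  have hT : ∀ N : Subgroup G, N.Normal → (P : Subgroup G) ≤ N → N = ⊤ := fun N hN h =>
    hres N hN ((Nat.Prime.coprime_iff_not_dvd hp).2 (Hall.not_dvd_index_of_sylow_le P h)).symm
  have hZ : ∀ N : Subgroup G, N.Normal → N ≠ ⊥ → Nat.card (centralizerIn (P : Subgroup G) P) = p →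
      centralizerIn (P : Subgroup G) P ≤ N := fun N _ h0 e => by
    obtain ⟨⟨z, hz⟩, h1⟩ := ne_bot_iff_exists_ne_one.1 (Core.inf_centralizer_ne_bot_of_isPGroup
      (P.2.to_le (inf_le_left : (P : Subgroup G) ⊓ N ≤ _)) P.2 (Core.le_normalizer_inf le_normalizer le_normalizer_of_normal)
      fun h => h0 (hO N inferInstance ((sylowIn_inf_normal P N).eq_bot_iff.1 h)))
    rw [← Coprime.zpowers_eq_of_card_prime (R := centralizerIn (P : Subgroup G) P) (e.symm ▸ hp) (r := z) ⟨hz.1.1, hz.2⟩ fun e => h1 (Subtype.ext e)]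
    exact zpowers_le.2 hz.1.2
  rcases n3.eq_or_lt with rfl | n4
  · have hz := card_center_of_cube hP na
    haveI : Nontrivial G := by
      by_contra hn
      haveI := not_nontrivial_iff_subsingleton.1 hn
      exact na ⟨⟨fun a b => Subsingleton.elim _ _⟩⟩
    haveI : IsSimpleGroup G := ⟨fun N hN => by_contra fun h => by
      obtain ⟨x, hx, hxN⟩ := SetLike.not_le_iff_exists.1 fun e => (not_or.1 h).2 (hT N hN e)
      refine hc1 x hx (fact_two P hx fun g hg => ?_)
      have h1 : g * x * g⁻¹ ∉ centralizerIn (P : Subgroup G) P := fun e => hxN (by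
        simpa [mul_assoc] using hN.conj_mem _ (hZ N hN (not_or.1 h).1 hz e) g⁻¹)
      have h2 : centralizerIn (P : Subgroup G) P < (P : Subgroup G) ⊓ centralizer {g * x * g⁻¹} := lt_of_le_of_ne
        (inf_le_inf_left _ (centralizer_le (Set.singleton_subset_iff.2 hg)))
        fun e => h1 (e ▸ mem_inf.2 ⟨hg, Hall.self_mem_cent _⟩)
      have h3 : (P : Subgroup G) ⊓ centralizer {g * x * g⁻¹} < P := lt_of_le_of_ne inf_le_left
        fun e => h1 ⟨hg, Hall.le_cent_iff.1 (inf_eq_left.1 e)⟩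
      obtain ⟨k, hk⟩ := IsPGroup.iff_card.1 (P.2.to_le h3.le)
      have h4 := Transfer.card_lt_of_lt h2
      have h5 := Transfer.card_lt_of_lt h3
      rw [hk, hP, Nat.pow_lt_pow_iff_right hp.one_lt] at h5
      rw [hk, hz, ← pow_one p, ← pow_mul, Nat.pow_lt_pow_iff_right hp.one_lt] at h4
      rw [hk]; congr 1; omega⟩
    have nb : ¬ IsMulCommutative G := fun _ => na inferInstance
    refine hc ⟨Layer.isQuasisimple_of_isSimpleGroup nb, ?_⟩
    rw [(IsSimpleGroup.eq_bot_or_eq_top_of_normal (center G) inferInstance).resolve_right fun e => nb (center_eq_top_iff.1 e), card_bot]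
    exact hp.one_le
  obtain ⟨Γ, h, hb, hΓ⟩ := exists_mxc hP n4 hl
  have hz : Nat.card (centralizerIn (P : Subgroup G) P) = p := by
    rw [h.center_eq hb, h.card_eq hb 1 _ (by omega), pow_one]
  have key : ∀ N : Subgroup G, N.Normal → N ≠ ⊤ → N ≤ Γ (n - 1) := fun N hN ht => by
    by_cases h2 : Γ (n - 2) ≤ N
    · have h3 := fun e => ht (hT N hN e)
      obtain ⟨x, hx, hxN⟩ : ∃ x, Un n Γ x ∧ x ∉ N := by
        by_cases p2 : p = 2
        · obtain ⟨x, a, b, c⟩ := exists_not_mem_two h.ip0.ne h3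
          exact ⟨x, h.un_of_not_mem (by omega) a b, c⟩
        · obtain ⟨x, a, b, c, d⟩ := exists_not_mem_three p2 h.ip0 (h.ip_tw (i := n - 2) (by omega) (by omega)) h3
          exact ⟨x, h.un_iff.2 ⟨a, b, c⟩, d⟩
      exact (hc1 x (h.un_mem hx) (fact_two P (h.un_mem hx) fun g hg => by
        rw [(h.ip_cent (un_conj P h hb hΓ h2 hx hxN hg) hb).card, h.card_eq hb 1 _ (by omega), ← pow_succ'])).elim
    obtain ⟨x, hx⟩ := h.exists_un
    have lv := le_of_level h hb hx (le_normalizer_of_normal (mem_top x) : x ∈ normalizer (N : Set G))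
    have h3 : (P : Subgroup G) ⊓ N ≤ Γ (n - 1) := fun y hy => by
      by_cases y1 : y = 1
      · exact y1 ▸ one_mem _
      have h1 : y ∈ Γ 1 := by_contra fun h1 => h1 (h.tw_eq le_rfl (by omega) h.le_tw_one ▸ h.mem_tw.2 ⟨hy.1,
        fun w hw => by_contra fun e => h2 ((h.anti (by omega)).trans (lv (n - 2) 2 (by omega) (by omega) _
          (by simpa [commutatorElement_def] using mul_mem (hN.conj_mem y hy.2 w) (inv_mem hy.2)) (h.c0 1 w hw y hy.1) e))⟩)
      obtain ⟨j, j1, h4, h5⟩ := h.exists_level hb h1 y1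
      exact h.anti (not_lt.1 fun e => h2 ((h.anti (by omega)).trans
        (lv (n - j) j (by omega) j1 y hy.2 h4 h5))) h4
    have h4 : (P : Subgroup G) ⊓ N ≤ centralizer (P : Set G) := h3.trans (h.center_eq hb ▸ inf_le_right)
    have h5 : N ⊓ normalizer (P : Set G) ≤ centralizer (((P : Subgroup G) ⊓ N : Subgroup G) : Set G) := by
      have k1 : ⁅⁅(P : Subgroup G), N ⊓ normalizer (P : Set G)⁆, (P : Subgroup G)⁆ = ⊥ :=
        commutator_eq_bot_iff_le_centralizer.2 ((le_inf (BG1.commutator_le_left_of_norm inf_le_right)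
          ((commutator_mono le_top inf_le_left).trans (commutator_le_right _ _))).trans h4)
      have k2 := commutator_commutator_eq_bot_of_rotate k1 (by rwa [commutator_comm (N ⊓ _)])
      exact le_centralizer_iff.1 ((h3.trans ((h.anti (by omega)).trans (hΓ 0).le)).trans
        (commutator_eq_bot_iff_le_centralizer.1 k2))
    refine (Block.eq_of_burnside_normal (sylowIn_inf_normal P N) (fun g hg => ?_) hO).le.trans h3
    obtain ⟨c, hc, m, hm, rfl⟩ := (sylowIn_of_le P (le_inf (le_centralizer_iff.1 h4) (le_sup_right : _ ≤ N ⊔ P))).frattini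
      (Core.le_normalizer_inf (inf_le_right.trans (Core.normalizer_le_normalizer_centralizer _))
        ((inf_le_left.trans le_sup_left).trans le_normalizer)) hg
    obtain ⟨a, ha, u, hu, rfl⟩ := mem_sup_of_normal_left.1 ((Subgroup.mul_mem_cancel_left _ hc.2).1 (mem_sup_left hg.1))
    exact mul_mem hc.1 (mul_mem (h5 ⟨ha, (mul_mem_cancel_right (le_normalizer hu)).1 hm⟩) (le_centralizer_iff.1 h4 hu))
  haveI : Nontrivial G := by
    by_contra hn
    haveI := not_nontrivial_iff_subsingleton.1 hn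
    exact na ⟨⟨fun a b => Subsingleton.elim _ _⟩⟩
  refine hc ⟨Layer.isQuasisimple_of_normal ⟨by_contra fun e => (h.ip 2 (by omega)).ne ((hΓ 0).le.trans
    ((commutator_mono le_top le_top).trans ((key _ inferInstance e).trans (h.anti (by omega)))))⟩ fun N hN =>
    or_iff_not_imp_left.2 fun e x hx => mem_center_iff.2 fun g => ?_, (card_le_of_le (key _ inferInstance fun e =>
      na (by haveI := center_eq_top_iff.1 e; infer_instance))).trans (h.center_eq hb ▸ hz.le)⟩
  exact ((hT (centralizer N) inferInstance (le_centralizer_iff.1 ((key N hN e).trans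
    (h.center_eq hb ▸ inf_le_right)))).ge (mem_top g) x hx).symm

end Cfsg.Agent.S3865
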