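import Cfsg.Statements.S3867
import Cfsg.Agent.Lib.Hall.SylNum

set_option autoImplicit false
open Cfsg

namespace Cfsg.Agent.S3867

open scoped Pointwise commutatorElement
open Cfsg.Lib Cfsg.Lib.Hall

open Subgroup Cfsg.Lib.Core Cfsg.Lib.Transfer

/-- Let M and N be nontrivial normal subgroups of the finite group G with M ⊓ N trivial, and let p be a prime. Writing n(X) for the number of Sylow p-subgroups of a group X, one has n(G) · n(G/MN) = n(G/M) · n(G/N). -/
theorem result {G : Type*} [Group G] [Finite G] (p : ℕ) [Fact p.Prime] (M N : Subgroup G) [M.Normal] [N.Normal] (hM : M ≠ ⊥) (hN : N ≠ ⊥) (hMN : M ⊓ N = ⊥) : Nat.card (Sylow p G) * Nat.card (Sylow p (G ⧸ (M ⊔ N))) = Nat.card (Sylow p (G ⧸ M)) * Nat.card (Sylow p (G ⧸ N)) := by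
  obtain ⟨P⟩ : Nonempty (Sylow p G) := inferInstance
  have h1 : ((P : Subgroup G) ⊔ M) ⊓ ((P : Subgroup G) ⊔ N) = P := by
    rw [sup_inf_assoc_of_le_normalizer le_normalizer_of_normal le_sup_left]
    refine (sylowIn_top P).eq_of_le (IsPGroup.to_sup_of_normal_right' P.isPGroup' ?_ ?_) le_sup_left le_top
    · intro x
      obtain ⟨a, ha, b, hb, e⟩ := mem_sup_of_normal_right.mp x.2.2
      obtain ⟨k, hk⟩ := P.isPGroup' ⟨a, ha⟩
      refine ⟨k, Subtype.ext ?_⟩
      have h2 : (x : G) ^ p ^ k ∈ M ⊓ N := mem_inf.mpr ⟨pow_mem (mem_inf.mp x.2).1 _, by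
        rw [← QuotientGroup.eq_one_iff, QuotientGroup.mk_pow, ← e, QuotientGroup.mk_mul,
          (QuotientGroup.eq_one_iff b).mpr hb, mul_one, ← QuotientGroup.mk_pow,
          show a ^ p ^ k = 1 from congrArg Subtype.val hk, QuotientGroup.mk_one]⟩
      rwa [hMN] at h2
    · exact le_normalizer_inf le_normalizer_of_normal (le_sup_left.trans le_normalizer)
  have h2 : (normalizer ((P : Subgroup G) : Set G) ⊔ N) ⊓ M =
      normalizer ((P : Subgroup G) : Set G) ⊓ M := by
    refine le_antisymm (le_inf ?_ inf_le_right) (inf_le_inf_right _ le_sup_left)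
    rw [← normalizer_sylow_sup]
    conv_rhs => rw [← h1]
    exact le_normalizer_inf (inf_le_right.trans (le_sup_right.trans le_normalizer)) inf_le_left
  rw [card_sylow_eq_mul P M, card_sylow_quotient P (M ⊔ N), card_sylow_quotient P N,
    index_eq_mul_relIndex (_ ⊔ N) M, ← inf_relIndex_right (_ ⊔ N), h2, inf_relIndex_right, sup_assoc,
    sup_comm N M]
  ring

end Cfsg.Agent.S3867
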