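import Cfsg.Statements.S3870
import Cfsg.Agent.Lib.Exc.BSW3

set_option autoImplicit false
open Cfsg

open Subgroup Cfsg.Lib
open scoped commutatorElement
open Transfer
namespace Cfsg.Agent.S3870

/-- Let G be a finite simple group whose Sylow p-subgroups are not normal but such that every proper subgroup of G has a normal Sylow p-subgroup. Then any two distinct Sylow p-subgroups of G intersect trivially, and for every Sylow p-subgroup P the normalizer of every non-identity subgroup of P lies in the normalizer of P. -/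
theorem result {G : Type*} [Group G] [Finite G] [IsSimpleGroup G] {p : ℕ} [Fact p.Prime]
    (hnc : ¬ Cfsg.IsPClosed p G) (hsub : ∀ H : Subgroup G, H ≠ ⊤ → Cfsg.IsPClosed p ↥H) :
    (∀ P Q : Sylow p G, P ≠ Q → (P : Subgroup G) ⊓ (Q : Subgroup G) = ⊥) ∧
      ∀ (P : Sylow p G) (R : Subgroup G), R ≤ P → R ≠ ⊥ →
        Subgroup.normalizer (R : Set G) ≤ Subgroup.normalizer ((P : Subgroup G) : Set G) := by
  have h1 : ∀ P Q : Sylow p G, P ≠ Q → (P : Subgroup G) ⊓ (Q : Subgroup G) = ⊥ := fun P Q hne => by
    by_contra h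
    refine hne (Sylow.ext (Exc.sylowIn_eq_of_local (fun I hI hI1 => ?_) (sylowIn_top P) (sylowIn_top Q) h))
    have h2 : normalizer (I : Set G) ≠ ⊤ := fun e => by
      have := normalizer_eq_top_iff.1 e
      have h3 := (IsSimpleGroup.eq_bot_or_eq_top_of_normal I this).resolve_left hI1
      exact hnc fun R => by rw [← R.is_maximal' hI (h3 ▸ le_top)]; exact this
    obtain ⟨R⟩ := (inferInstance : Nonempty (Sylow p (normalizer (I : Set G))))
    have := hsub _ h2 R
    exact ⟨_, sylowIn_map_subtype R, Core.le_normalizer_map_subtype _⟩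
  refine ⟨h1, fun P R hR hR1 g hg => cj_eq_iff.1 ?_⟩
  by_contra h
  refine hR1 (eq_bot_iff.2 ((le_inf ?_ hR).trans (h1 (g • P) P fun e => h (by rw [← coe_sylow_smul, e])).le))
  rw [coe_sylow_smul, ← cj_eq_of_mem_normalizer hg]; exact cj_mono g hR

end Cfsg.Agent.S3870
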