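import Cfsg.Statements.S3872
import Cfsg.Agent.Lib.FG.PClosed
import Cfsg.Agent.Lib.PGrp.Regular
import Cfsg.Agent.Lib.PGrp.TwoMax

set_option autoImplicit false
open Cfsg

open Subgroup Cfsg.Lib
open scoped commutatorElement
namespace Cfsg.Agent.S3872

/-- Say that a finite group is p-exponent closed when its elements of order dividing p form a subgroup. Let G be a finite p-group that is not p-exponent closed, but all of whose proper subgroups and proper quotients are. Then G is generated by two elements, has nilpotency class at least p, has exponent p², has cyclic center, and has order at least p^(p+1). -/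
theorem result {G : Type*} [Group G] [Finite G] {p : ℕ} [Fact p.Prime] (hG : IsPGroup p G)
    (hnc : ¬ (∃ H : Subgroup G, (H : Set G) = {g : G | g ^ p = 1})) (hsub : ∀ K : Subgroup G, K ≠ ⊤ → (∃ H : Subgroup ↥K, (H : Set ↥K) = {g : ↥K | g ^ p = 1}))
    (hquo : ∀ (N : Subgroup G) [N.Normal], N ≠ ⊥ → (∃ H : Subgroup (G ⧸ N), (H : Set (G ⧸ N)) = {g : (G ⧸ N) | g ^ p = 1})) :
    (∃ x y : G, Subgroup.closure ({x, y} : Set G) = ⊤) ∧ (⊤ : Subgroup G).lowerCentralSeries (p - 1) ≠ ⊥ ∧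
      Monoid.exponent G = p ^ 2 ∧ IsCyclic ↥(Subgroup.center G) ∧ p ^ (p + 1) ≤ Nat.card G := by
  have hp := (Fact.out : p.Prime)
  obtain ⟨x, y, hx, hy, h, h1, h2⟩ := FG.exists_gen_of_min hnc hsub hquo
  have h3 : (⊤ : Subgroup G).lowerCentralSeries (p - 1) ≠ ⊥ := fun e => h (by
    simpa using (PGrp.weakReg_of_lcs_eq_bot e).mul_pow_pow_eq_one hG 1 (x := x) (y := y) (by simpa) (by simpa))
  have h4 (z : G) (hz : z ∈ center G) (e : orderOf z = p) (g : G) : g ^ p ∈ zpowers z :=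
    @h2 _ (PGrp.normal_of_le_center (zpowers_le.2 hz)) (by rw [Ne, zpowers_eq_bot, ← orderOf_eq_one_iff, e]; exact hp.ne_one) g
  obtain ⟨z, -, hz, hzp⟩ := PGrp.exists_central_orderOf_eq hG ⊤ fun e => h (mem_bot.1 (e.le trivial))
  have h5 (g : G) : g ^ p ^ 2 = 1 := by
    rw [sq, pow_mul, ← orderOf_dvd_iff_pow_eq_one, ← hzp]; exact orderOf_dvd_of_mem_zpowers (hzp ▸ h4 z hz hzp g)
  refine ⟨⟨x, y, h1⟩, h3, ?_, ?_, ?_⟩
  · obtain ⟨k, hk, e⟩ := (Nat.dvd_prime_pow hp).1 (Monoid.exponent_dvd_of_forall_pow_eq_one h5)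
    rw [e]
    congr 1
    refine le_antisymm hk (not_lt.1 fun e' => h (orderOf_dvd_iff_pow_eq_one.1 ((Monoid.order_dvd_exponent _).trans ?_)))
    exact e ▸ (pow_dvd_pow p (Nat.lt_succ_iff.1 e')).trans (pow_one p).dvd
  · refine PGrp.isCyclic_of_comm_of_card_omegaOne_le (hG.to_subgroup _) inferInstance ((card_le_of_le (PGrp.omegaOne_le_iff.2 fun w hw e => ?_)).trans
      ((Nat.card_zpowers z).trans hzp).le)
    by_cases e' : w = 1
    · exact e' ▸ one_mem _
    have h6 := orderOf_eq_prime e e'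
    exact zpowers_le.1 ((Coprime.zpowers_eq_of_card_prime (by rwa [Nat.card_zpowers, h6]) (h4 w hw h6 _) h).ge.trans (zpowers_le.2 (h4 z hz hzp _)))
  · obtain ⟨n, hn⟩ := hG.exists_card_eq
    obtain ⟨k, rfl⟩ := Nat.exists_eq_add_of_le' hp.two_le
    exact hn ▸ Nat.pow_le_pow_right hp.pos (not_le.1 fun e => h3 (PGrp.lcs_eq_bot_of_card_le hG (hn ▸ Nat.pow_le_pow_right hp.pos e)))

end Cfsg.Agent.S3872
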