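import Cfsg.Statements.S3873
import Cfsg.Agent.Lib.FG.PClosed

set_option autoImplicit false
open Cfsg

open Subgroup Cfsg.Lib
open scoped commutatorElement
namespace Cfsg.Agent.S3873

/-- Say that a finite group is p-exponent closed when its elements of order dividing p form a subgroup. Let G be a finite group that is not p-exponent closed, but all of whose proper subgroups and proper quotients are, and suppose G is neither simple nor a p-group. Then there is a prime q ≠ p such that G has order p · q^e, where e is the multiplicative order of q modulo p, and G has a normal elementary abelian subgroup of order q^e that is a minimal normal subgroup of G. -/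
theorem result {G : Type*} [Group G] [Finite G] {p : ℕ} [Fact p.Prime]
    (hnc : ¬ (∃ H : Subgroup G, (H : Set G) = {g : G | g ^ p = 1})) (hsub : ∀ K : Subgroup G, K ≠ ⊤ → (∃ H : Subgroup ↥K, (H : Set ↥K) = {g : ↥K | g ^ p = 1}))
    (hquo : ∀ (N : Subgroup G) [N.Normal], N ≠ ⊥ → (∃ H : Subgroup (G ⧸ N), (H : Set (G ⧸ N)) = {g : (G ⧸ N) | g ^ p = 1}))
    (hns : ¬ IsSimpleGroup G) (hnp : ¬ IsPGroup p G) :
    ∃ q : ℕ, q.Prime ∧ q ≠ p ∧ Nat.card G = p * q ^ orderOf (q : ZMod p) ∧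
      ∃ A : Subgroup G, A.Normal ∧ Nat.card ↥A = q ^ orderOf (q : ZMod p) ∧ Cfsg.IsElementaryAbelian q A ∧
        ∀ B : Subgroup G, B.Normal → B ≤ A → B = ⊥ ∨ B = A := by
  have hp := (Fact.out : p.Prime)
  obtain ⟨x, y, hx, hy, h, h1, h2⟩ := FG.exists_gen_of_min hnc hsub hquo
  have h3 : ¬ IsPClosed p G := fun e => by
    obtain ⟨P⟩ := (inferInstance : Nonempty (Sylow p G))
    have := e P
    refine hnp (Core.isPGroup_top_iff.1 (P.2.to_le (h1.ge.trans ((closure_le _).2 ?_))))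
    rintro z (rfl | rfl) <;> exact zpowers_le.1 ((Transfer.sylowIn_top P).le_of_normalizes (Core.isPGroup_zpowers_of_pow_eq_one (k := 1) (by simpa)) le_top (le_top.trans (normalizer_eq_top _).ge))
  have : Nontrivial G := not_subsingleton_iff_nontrivial.1 fun _ => h (Subsingleton.elim _ _)
  obtain ⟨M, hM, hM1, hM2⟩ : ∃ M : Subgroup G, M.Normal ∧ M ≠ ⊥ ∧ M ≠ ⊤ := by
    by_contra! e
    exact hns ⟨fun M hM => or_iff_not_imp_left.2 (e M hM)⟩
  obtain ⟨N, _, hN, hNM, hmin⟩ := Hall.exists_minNormal_le M hM1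
  obtain ⟨H, hH⟩ := hsub N fun e => hM2 (top_unique (e.ge.trans hNM))
  have h4 {g : G} : g ∈ H.map N.subtype ↔ g ∈ N ∧ g ^ p = 1 := ⟨by rintro ⟨z, hz, rfl⟩; exact ⟨z.2, congrArg Subtype.val (hH.le hz)⟩,
    fun ⟨a, b⟩ => ⟨⟨g, a⟩, hH.ge (Subtype.ext b), rfl⟩⟩
  have h5 := (hmin (H.map N.subtype) ⟨fun g hg a => h4.2 ⟨Normal.conj_mem ‹_› _ (h4.1 hg).1 a, by simp [conj_pow, (h4.1 hg).2]⟩⟩
    (map_subtype_le H)).resolve_right fun e => hnp fun g => ⟨2, by rw [sq, pow_mul, (h4.1 (e.ge (h2 N hN g))).2]⟩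
  have h6 (g : G) (k : ℕ) (hg : g ^ p ^ k = 1) : g ^ p = 1 := by
    induction k with
    | zero => simp [show g = 1 by simpa using hg]
    | succ k ih =>
      obtain _ | k := k
      · simpa using hg
      refine ih (mem_bot.1 (h5.le (h4.2 ⟨?_, by rw [← pow_mul, ← pow_succ, hg]⟩)))
      rw [pow_succ', pow_mul]; exact pow_mem (h2 N hN g) _
  refine FG.min_not_pClosed h3 (fun K hK => FG.isPClosed_iff.2 fun a b ⟨i, ha⟩ ⟨j, hb⟩ => ?_) (fun L _ hL => FG.isPClosed_of_isPGroup fun g => ?_) hns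
  · obtain ⟨H, hH⟩ := hsub K hK
    exact ⟨1, by simpa using hH.le (mul_mem (hH.ge (Subtype.ext (h6 a i (congrArg Subtype.val ha)))) (hH.ge (Subtype.ext (h6 b j (congrArg Subtype.val hb)))))⟩
  · obtain ⟨g, rfl⟩ := QuotientGroup.mk_surjective g
    exact ⟨1, by simpa [← QuotientGroup.mk_pow] using h2 L hL g⟩

end Cfsg.Agent.S3873
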