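import Cfsg.Statements.S3875
import Cfsg.Agent.Lib.Layer.FrobC
import Cfsg.Agent.Lib.FG.PClosed
import Cfsg.Agent.S0999
import Cfsg.Agent.Lib.Linear.PSL2Sub
import Cfsg.Agent.Lib.Coprime.Action
import Cfsg.Agent.Lib.Hall.MinNormal

set_option autoImplicit false
open Cfsg

open Subgroup Cfsg.Lib
open scoped commutatorElement
namespace Cfsg.Agent.S3875

theorem dvd_of {G : Type*} [Group G] [Finite G] {p : ℕ} [Fact p.Prime] (h : ¬ IsPClosed p G) : p ∣ Nat.card G :=
  by_contra fun hd => h fun P => by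
    have : (P : Subgroup G) = ⊥ := card_eq_one.1 (by
      rw [P.card_eq_multiplicity, Nat.factorization_eq_zero_of_not_dvd hd, pow_zero])
    rw [this]; infer_instance

/-- Let p be an odd prime and let m be the least prime power congruent to 1 modulo p. Then the least order of a finite group whose Sylow p-subgroups are not normal is the smaller of p · m and p(p² − 1)/2: every finite group whose Sylow p-subgroups are not normal has at least that order, and some group of exactly that order has non-normal Sylow p-subgroups. -/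
theorem result (p : ℕ) [Fact p.Prime] (hp : p ≠ 2) (m : ℕ) (hm : IsPrimePow m) (hm1 : m % p = 1)
    (hleast : ∀ k : ℕ, IsPrimePow k → k % p = 1 → m ≤ k) :
    (∀ (H : Type) [Group H] [Finite H], ¬ Cfsg.IsPClosed p H → min (p * m) (p * (p ^ 2 - 1) / 2) ≤ Nat.card H) ∧
      ∃ (H : Type) (_ : Group H) (_ : Finite H), Nat.card H = min (p * m) (p * (p ^ 2 - 1) / 2) ∧ ¬ Cfsg.IsPClosed p H := by
  have hpp : p.Prime := Fact.out
  have h3 : 3 ≤ p := by have := hpp.two_le; omega
  obtain ⟨k, rfl⟩ : ∃ k, p = 2 * k + 1 := hpp.odd_of_ne_two hp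
  have e0 : (2 * k + 1) * ((2 * k + 1) ^ 2 - 1) / 2 = (2 * k + 1) * (k * (2 * k + 2)) := by
    rw [show (2 * k + 1) ^ 2 = 2 * (k * (2 * k + 2)) + 1 by ring, Nat.add_sub_cancel, mul_left_comm,
      Nat.mul_div_cancel_left _ two_pos]
  have cp : ∀ (F : Type) [Field F] [Finite F], Nat.card F = 2 * k + 1 →
      Nat.card (Matrix.ProjectiveSpecialLinearGroup (Fin 2) F) = (2 * k + 1) * (k * (2 * k + 2)) := fun F _ _ hF => by
    have := Linear.card_PSL_two_of_odd (F := F) ⟨k, hF⟩
    rw [hF, Nat.add_sub_cancel] at this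
    exact Nat.eq_of_mul_eq_mul_left two_pos (this.trans (by ring))
  rw [e0]
  refine ⟨fun H _ _ => ?_, ?_⟩
  · induction hn : Nat.card H using Nat.strong_induction_on generalizing H with | _ n ih => ?_
    subst hn
    intro hnc
    by_cases h1 : ∀ K : Subgroup H, K ≠ ⊤ → IsPClosed (2 * k + 1) K
    swap
    · push Not at h1
      obtain ⟨K, h, h'⟩ := h1
      exact (ih _ (Hall.card_lt_of_ne_top h) K _ inferInstance rfl h').trans (Hall.card_lt_of_ne_top h).le
    by_cases h2 : ∀ (N : Subgroup H) [N.Normal], N ≠ ⊥ → IsPClosed (2 * k + 1) (H ⧸ N)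
    swap
    · push Not at h2
      obtain ⟨N, _, h, h'⟩ := h2
      exact (ih _ (Hall.card_quotient_lt h) _ _ inferInstance rfl h').trans (Hall.card_quotient_lt h).le
    by_cases hs : IsSimpleGroup H
    · refine (min_le_right _ _).trans (le_of_not_gt fun hb => ?_)
      rcases S0999.result (G := H) (fun _ => hnc fun P => inferInstance) _ hpp (dvd_of hnc) (hb.trans (by nlinarith)) with
        ⟨F, _, _, hF, -, ⟨e⟩⟩ | ⟨j, F, _, _, hF, hj, h4, ⟨e⟩⟩
      · exact hb.ne ((Nat.card_congr e.toEquiv).trans (cp F (by rw [Nat.card_eq_fintype_card, hF])))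
      · have hF' : Nat.card F = 2 * k := by rw [Nat.card_eq_fintype_card, hF]; omega
        have := Linear.card_PSL_two_of_even (F := F) ⟨k, by omega⟩
        rw [Nat.card_congr e.toEquiv, this, hF'] at hb
        obtain ⟨i, rfl⟩ : ∃ i, k = i + 2 := ⟨k - 2, by omega⟩
        rw [show 2 * (i + 2) - 1 = 2 * i + 3 by omega] at hb
        exact hb.not_ge (Nat.le.intro (k := (2 * i + 5) * (i + 2) * (2 * i)) (by ring))
    · obtain ⟨q, hq, hqp, e, -⟩ := FG.min_not_pClosed hnc h1 h2 hs
      have hq0 : (q : ZMod (2 * k + 1)) ≠ 0 := fun h =>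
        hqp ((Nat.prime_dvd_prime_iff_eq hpp hq).1 ((ZMod.natCast_eq_zero_iff _ _).1 h)).symm
      refine (min_le_left _ _).trans (e ▸ Nat.mul_le_mul_left _ (hleast _
        (hq.isPrimePow.pow (orderOf_pos_iff.2 (isOfFinOrder_iff_pow_eq_one.2
          ⟨_, by omega, ZMod.pow_card_sub_one_eq_one hq0⟩)).ne') ?_))
      exact ((ZMod.natCast_eq_natCast_iff' _ 1 _).1 (by rw [Nat.cast_pow, pow_orderOf_eq_one, Nat.cast_one])).trans
        (Nat.mod_eq_of_lt hpp.one_lt)
  rcases le_or_gt ((2 * k + 1) * m) ((2 * k + 1) * (k * (2 * k + 2))) with hl | hl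
  · obtain ⟨q, j, hq, hj, rfl⟩ := (isPrimePow_nat_iff _).1 hm
    haveI := Fact.mk hq
    have hF := GaloisField.card q j hj.ne'
    obtain ⟨u, hu⟩ := exists_prime_orderOf_dvd_card' (G := (GaloisField q j)ˣ) (2 * k + 1) (by
      rw [Nat.card_units, hF]
      exact (Nat.modEq_iff_dvd' (Nat.one_le_pow _ _ hq.pos)).1 ((Nat.mod_eq_of_lt hpp.one_lt).trans hm1.symm))
    obtain ⟨X, _, _, i, f, ha, hc, _⟩ := Coprime.exists_ambient (Layer.actOf (G := zpowers u)
      ((Algebra.lsmul ℤ ℤ (GaloisField q j) : GaloisField q j →ₐ[ℤ] _).toMonoidHom.comp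
        ((Units.coeHom _).comp (zpowers u).subtype)))
    have c1 : Nat.card i.range = q ^ j := (Nat.card_congr (MonoidHom.ofInjective ha.inj_i).toEquiv).symm.trans hF
    have c2 : Nat.card f.range = 2 * k + 1 :=
      (Nat.card_congr (MonoidHom.ofInjective ha.inj_j).toEquiv).symm.trans ((Nat.card_zpowers u).trans hu)
    refine ⟨X, inferInstance, inferInstance, by rw [min_eq_left hl, ← hc.card_mul, c1, c2, mul_comm], fun h => ?_⟩
    obtain ⟨P, hP⟩ := (IsPGroup.of_card (n := 1) (c2.trans (pow_one _).symm)).exists_le_sylow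
    haveI := h P
    obtain ⟨n, hn⟩ := IsPGroup.iff_card.1 P.2
    have hd : Disjoint (P : Subgroup X) i.range := disjoint_iff.2 (inf_eq_bot_of_coprime (by
      rw [hn, c1]
      refine ((Nat.Prime.coprime_iff_not_dvd hpp).2 fun d => ?_).pow_left _
      have := Nat.mod_eq_zero_of_dvd d
      omega))
    have := (ha.mul_comm_iff _ _).1 (commute_of_normal_of_disjoint _ _ inferInstance inferInstance hd _ _
      (hP ⟨⟨u, mem_zpowers u⟩, rfl⟩) ⟨Multiplicative.ofAdd 1, rfl⟩).eq
    have e : (u : GaloisField q j) * 1 = 1 := this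
    rw [show u = 1 from Units.ext (by simpa using e), orderOf_one] at hu
    omega
  · refine ⟨_, inferInstance, inferInstance, (cp (ZMod (2 * k + 1)) (Nat.card_zmod _)).trans (min_eq_right hl.le).symm,
      fun hc => ?_⟩
    have k2 : 2 ≤ k := by
      by_contra hk
      obtain rfl : k = 1 := by omega
      have := hleast 4 ((isPrimePow_nat_iff _).2 ⟨2, 2, Nat.prime_two, two_pos, rfl⟩) rfl
      omega
    haveI := Linear.isSimpleGroup_PSL2 (F := ZMod (2 * k + 1)) (by rw [Nat.card_zmod]; omega)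
    obtain ⟨P⟩ : Nonempty (Sylow (2 * k + 1) (Linear.PSL2 (ZMod (2 * k + 1)))) := inferInstance
    have hc' := cp (ZMod (2 * k + 1)) (Nat.card_zmod _)
    rcases (hc P).eq_bot_or_eq_top with h | h
    · exact P.not_dvd_index (by rw [h, index_bot, hc']; exact dvd_mul_right _ _)
    · obtain ⟨n, hn⟩ := IsPGroup.iff_card.1 P.2
      rw [h, card_top, hc'] at hn
      have := (Nat.prime_dvd_prime_iff_eq Nat.prime_two hpp).1 (Nat.prime_two.dvd_of_dvd_pow
        (n := n) ⟨(2 * k + 1) * (k * (k + 1)), by rw [← hn]; ring⟩)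
      omega

end Cfsg.Agent.S3875
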