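import Cfsg.Statements.S3878
import Cfsg.Agent.S0799
import Cfsg.Agent.Lib.Linear.PUnip
import Cfsg.Agent.Lib.Amalg.Syl

set_option autoImplicit false
open Cfsg

namespace Cfsg.Agent.S3878

open Subgroup Cfsg.Lib Cfsg.Lib.Amalg
set_option linter.style.haveILetI false

theorem key {π : Set ℕ} {p q r : ℕ} (hp : p.Prime) (hq : q.Prime) (hr : r.Prime) (hpq : p ≠ q) (hq2 : q ≠ 2)
    (h1 : p ∈ π) (h2 : q ∈ π) (h3 : r ∉ π) : ∃ (G : Type) (_ : Group G) (_ : Finite G), ¬ IsEPiGroup π G := by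
  have hc : ((2 * p * r) ^ 6).Coprime q := (Nat.Coprime.mul_left (Nat.Coprime.mul_left
    ((Nat.coprime_primes Nat.prime_two hq).2 hq2.symm) ((Nat.coprime_primes hp hq).2 hpq))
    ((Nat.coprime_primes hr hq).2 fun e => h3 (e ▸ h2))).pow_left 6
  obtain ⟨a, ha1, ha2⟩ := Nat.chineseRemainder hc 1 (q - 1)
  have hq1 := hq.one_lt
  have hM : 0 < (2 * p * r) ^ 6 := by have := hp.pos; have := hr.pos; positivity
  obtain ⟨l, hl1, hl, hl2⟩ := Nat.forall_exists_prime_gt_and_modEq q (q := (2 * p * r) ^ 6 * q) (a := a)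
    (by positivity) (Nat.Coprime.mul_right (by rw [Nat.Coprime, ha1.gcd_eq]; simp) (by
      rw [Nat.Coprime, ha2.gcd_eq]; exact (Nat.coprime_self_sub_left hq1.le).2 (by simp)))
  haveI := Fact.mk hl
  haveI := Fact.mk hp
  haveI := Fact.mk hq
  obtain ⟨m, hm⟩ := (Nat.modEq_iff_dvd' hl.one_le).1 ((hl2.of_mul_right _).trans ha1).symm
  have e2 : q ∣ l + 1 := by
    have := ((hl2.of_mul_left _).trans ha2).add_right 1
    rwa [Nat.sub_add_cancel hq1.le, Nat.ModEq, Nat.mod_self, ← Nat.dvd_iff_mod_eq_zero] at this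
  have e3 : 2 ∣ l - 1 := hm ▸ Dvd.dvd.mul_right ⟨2 ^ 5 * (p * r) ^ 6, by ring⟩ _
  have e4 : Odd l := Nat.odd_iff.2 (by have := hl.one_le; omega)
  have e5 : Nat.gcd 2 (l - 1) = 2 := Nat.gcd_eq_left e3
  have e6 : ¬ q ∣ l - 1 := fun h => hq2 ((Nat.prime_dvd_prime_iff_eq hq Nat.prime_two).1 (by
    have := Nat.dvd_sub e2 h
    rwa [show l + 1 - (l - 1) = 2 by have := hl.one_le; omega] at this))
  have hG := Linear.card_PSL_two_of_odd (F := ZMod l) (by simpa using e4)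
  rw [Nat.card_zmod] at hG
  have e7 : (p * r) ^ 6 * q ∣ Nat.card (Matrix.ProjectiveSpecialLinearGroup (Fin 2) (ZMod l)) := by
    obtain ⟨k, hk⟩ := e2
    exact Nat.dvd_of_mul_dvd_mul_left two_pos (hG ▸ ⟨l * 2 ^ 5 * m * k, by rw [hk, hm]; ring⟩)
  refine ⟨Matrix.ProjectiveSpecialLinearGroup (Fin 2) (ZMod l), inferInstance, inferInstance, ?_⟩
  rintro ⟨H, a1, a2⟩
  rw [← H.card_mul_index] at e7
  have b1 : p ^ 6 ∣ Nat.card H := (((Nat.Prime.coprime_iff_not_dvd hp).2 (a2 p hp h1)).pow_left 6).dvd_of_dvd_mul_right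
    (dvd_trans ⟨r ^ 6 * q, by ring⟩ e7)
  have b2 : q ∣ Nat.card H := ((Nat.Prime.coprime_iff_not_dvd hq).2 (a2 q hq h2)).dvd_of_dvd_mul_right
    (dvd_trans (dvd_mul_left _ _) e7)
  have b3 : ¬ r ∣ Nat.card H := fun h => h3 (a1 r hr h)
  have b4 : 64 ≤ p ^ 6 := Nat.pow_le_pow_left hp.two_le 6
  have b5 : ¬ Nat.card H ∣ l + 1 := fun h => by
    have := Nat.dvd_sub (b1.trans h) (hm ▸ Dvd.dvd.mul_right ⟨(2 * r) ^ 6, by ring⟩ m : p ^ 6 ∣ l - 1)
    rw [show l + 1 - (l - 1) = 2 by have := hl.one_le; omega] at this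
    have := Nat.le_of_dvd two_pos this
    omega
  have b6 := Nat.le_of_dvd Nat.card_pos b1
  rcases S0799.result (ZMod.card l) l H with ⟨k, hk, h⟩ | ⟨P, K, hK, ⟨e⟩⟩ | ⟨⟨e⟩⟩ | ⟨⟨e⟩⟩ | ⟨⟨e⟩⟩ |
    ⟨K, _, _, n, hn, h⟩
  · have c1 : Nat.card H ∣ 2 * k := by
      rcases h with ⟨-, h⟩ | ⟨⟨e⟩⟩
      · exact h ▸ dvd_mul_left _ _
      · rw [Nat.card_congr e.toEquiv, DihedralGroup.nat_card]
    rw [e5] at hk
    rcases hk with hk | hk
    · exact b5 (c1.trans ((Nat.dvd_div_iff_mul_dvd (by omega)).1 hk))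
    · exact e6 (b2.trans (c1.trans ((Nat.dvd_div_iff_mul_dvd e3).1 hk)))
  · have c1 := Linear.card_normalizer_sylow_PSL2 P
    rw [Nat.card_zmod] at c1
    have c2 := (b2.trans ((Nat.card_congr e.toEquiv).dvd.trans (card_dvd_of_le hK))).mul_left (Nat.gcd 2 (l - 1))
    rw [c1, hq.dvd_mul, Nat.prime_dvd_prime_iff_eq hq hl] at c2
    exact c2.elim (by omega) e6
  · rw [Nat.card_congr e.toEquiv, nat_card_alternatingGroup] at b6
    simp [Nat.factorial] at b6; omega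
  · rw [Nat.card_congr e.toEquiv, Nat.card_perm] at b6
    simp [Nat.factorial] at b6; omega
  · rw [Nat.card_congr e.toEquiv, nat_card_alternatingGroup] at b6
    simp [Nat.factorial] at b6; omega
  · have c1 : Nat.card K = l := by rw [Nat.card_eq_fintype_card]; exact (hl.pow_eq_iff.1 hn).1
    apply b3
    rcases h with ⟨⟨e⟩⟩ | ⟨⟨e⟩⟩
    · have := Linear.card_PSL_two_of_odd (F := K) (c1 ▸ e4)
      rw [c1, ← hG, ← H.card_mul_index] at this
      rw [Nat.card_congr e.toEquiv, Nat.eq_of_mul_eq_mul_left two_pos this]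
      exact dvd_trans ⟨p ^ 6 * r ^ 5 * q, by ring⟩ e7
    · rw [Nat.card_congr e.toEquiv, Linear.card_PGL_two, c1, ← hG, ← H.card_mul_index]
      exact (dvd_trans ⟨p ^ 6 * r ^ 5 * q, by ring⟩ e7).mul_left 2

theorem e_of_d {π : Set ℕ} {G : Type*} [Group G] [Finite G] (h : IsDPiGroup π G) : IsEPiGroup π G := by
  obtain ⟨M, -, hM⟩ := Finite.exists_le_maximal (p := IsPiSubgroup π) (a := (⊥ : Subgroup G))
    fun p hp h => absurd (by simpa using h) hp.ne_one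
  refine ⟨M, hM.1, fun p hp h1 h2 => ?_⟩
  haveI := Fact.mk hp
  obtain ⟨P⟩ : Nonempty (Sylow p G) := inferInstance
  obtain ⟨K, h3, hK⟩ := Finite.exists_le_maximal (p := IsPiSubgroup π) (a := (P : Subgroup G)) fun q hq h => by
    obtain ⟨k, hk⟩ := IsPGroup.iff_card.1 P.isPGroup'
    rwa [(Nat.prime_dvd_prime_iff_eq hq hp).1 (hq.dvd_of_dvd_pow (hk ▸ h))]
  obtain ⟨g, rfl⟩ := h M K hM hK
  refine P.not_dvd_index (dvd_trans ?_ (index_dvd_of_le h3))
  rwa [index_map_of_bijective (MulAut.conj g).bijective]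

/-- For a set of primes π the following are equivalent: every finite group has a Hall π-subgroup; in every finite group the maximal π-subgroups are pairwise conjugate; π contains at most one prime or contains every prime. -/
theorem result (π : Set ℕ) :
    ((∀ (G : Type) [Group G] [Finite G], Cfsg.IsEPiGroup π G) ↔
      ((∀ p q : ℕ, p.Prime → q.Prime → p ∈ π → q ∈ π → p = q) ∨ ∀ p : ℕ, p.Prime → p ∈ π)) ∧
    ((∀ (G : Type) [Group G] [Finite G], Cfsg.IsDPiGroup π G) ↔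
      ((∀ p q : ℕ, p.Prime → q.Prime → p ∈ π → q ∈ π → p = q) ∨ ∀ p : ℕ, p.Prime → p ∈ π)) := by
  have h1 : (∀ (G : Type) [Group G] [Finite G], IsEPiGroup π G) →
      ((∀ p q : ℕ, p.Prime → q.Prime → p ∈ π → q ∈ π → p = q) ∨ ∀ p : ℕ, p.Prime → p ∈ π) := fun h => by
    by_contra! H
    obtain ⟨⟨p, q, hp, hq, h1, h2, h3⟩, r, hr, h4⟩ := H
    by_cases e : q = 2
    · obtain ⟨G, _, _, hG⟩ := key hq hp hr h3.symm (e ▸ h3) h2 h1 h4
      exact hG (h G)
    · obtain ⟨G, _, _, hG⟩ := key hp hq hr h3 e h1 h2 h4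
      exact hG (h G)
  have h2 : ((∀ p q : ℕ, p.Prime → q.Prime → p ∈ π → q ∈ π → p = q) ∨ ∀ p : ℕ, p.Prime → p ∈ π) →
      ∀ (G : Type) [Group G] [Finite G], IsDPiGroup π G := by
    rintro (h | h) G _ _ H K hH hK
    · by_cases h0 : ∃ p : ℕ, p.Prime ∧ p ∈ π
      · obtain ⟨p, hp, h0⟩ := h0
        haveI := Fact.mk hp
        have a : ∀ X : Subgroup G, IsPiSubgroup π X ↔ IsPGroup p X := fun X =>
          ⟨fun hX => IsPGroup.iff_card.2 ⟨_, Nat.eq_prime_pow_of_unique_prime_dvd Nat.card_pos.ne'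
            fun {q} hq hd => h q p hq hp (hX q hq hd) h0⟩, fun hX q hq hd => by
              obtain ⟨k, hk⟩ := IsPGroup.iff_card.1 hX
              rwa [(Nat.prime_dvd_prime_iff_eq hq hp).1 (hq.dvd_of_dvd_pow (hk ▸ hd))]⟩
        have b : ∀ X : Subgroup G, Maximal (IsPiSubgroup π) X → Syl p X ⊤ := fun X hX => by
          obtain ⟨T, hT, h3⟩ := exists_syl_ge ((a X).1 hX.1) le_top
          rwa [h3.antisymm (hX.2 ((a T).2 hT.isPGroup) h3)]
        obtain ⟨g, -, e⟩ := (b H hH).exists_conj (b K hK)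
        exact ⟨g, e.symm⟩
      · have a : ∀ X : Subgroup G, IsPiSubgroup π X → X = ⊥ := fun X hX => by
          by_contra h1
          obtain ⟨q, hq, hd⟩ := Nat.exists_prime_and_dvd (mt Subgroup.card_eq_one.1 h1)
          exact h0 ⟨q, hq, hX q hq hd⟩
        exact ⟨1, by rw [a H hH.1, a K hK.1, Subgroup.map_bot]⟩
    · refine ⟨1, ?_⟩
      rw [top_le_iff.1 (hH.2 (y := ⊤) (fun q hq _ => h q hq) le_top),
        top_le_iff.1 (hK.2 (y := ⊤) (fun q hq _ => h q hq) le_top), map_top_of_surjective _ (MulAut.conj _).surjective]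
  exact ⟨⟨h1, fun h G _ _ => e_of_d (h2 h G)⟩, fun h => h1 fun G _ _ => e_of_d (h G), h2⟩

end Cfsg.Agent.S3878
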