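import Cfsg.Statements.S3881
import Cfsg.Agent.Lib.FG.Meta

set_option autoImplicit false
open Cfsg

open Subgroup Cfsg.Lib
open scoped commutatorElement
namespace Cfsg.Agent.S3881

/-- Let p be an odd prime and G a finite metacyclic p-group (G has a cyclic normal subgroup with cyclic quotient). Suppose G is non-abelian with |G'| = p^n. Then for 1 ≤ i ≤ n the number of elements of G whose conjugacy class has exactly p^i elements is |Z(G)| · (p^(2i) − p^(2i−2)). -/
theorem result {G : Type*} [Group G] [Finite G] {p : ℕ} [Fact p.Prime] (hp : p ≠ 2) (hG : IsPGroup p G) (hmc : Cfsg.IsMetacyclic G) (n : ℕ) (hn : n ≠ 0) (hGn : Nat.card ↥(commutator G) = p ^ n) (i : ℕ) (hi : 1 ≤ i) (hin : i ≤ n) :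
    Nat.card {g : G // (Subgroup.centralizer ({g} : Set G)).index = p ^ i} =
      Nat.card ↥(Subgroup.center G) * (p ^ (2 * i) - p ^ (2 * i - 2)) := by
  have h : FG.MC p G := ⟨hp, hG, hmc⟩
  have hp' := (Fact.out : p.Prime)
  have h1 (j : ℕ) (hj : j ≤ n) : Nat.card (powerClosure p (n - j) (⊤ : Subgroup G)) = Nat.card (center G) * p ^ (2 * j) :=
    Nat.eq_of_mul_eq_mul_left (pow_pos hp'.pos (2 * (n - j))) (by
      rw [← h.index_pow hGn (Nat.sub_le n j), index_mul_card, h.index_pow hGn (Nat.sub_le n j), ← (center G).index_mul_card, h.index_center hGn,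
        show 2 * n = 2 * (n - j) + 2 * j by omega]; ring)
  have h2 (j : ℕ) (hj : j ≤ n) (g : G) : g ∈ powerClosure p (n - j) (⊤ : Subgroup G) ↔ (centralizer ({g} : Set G)).index ≤ p ^ j := by
    rw [h.mem_pow_iff hGn (Nat.sub_le n j), h.index_cent_le_iff, Nat.sub_sub_self hj]
  obtain ⟨i, rfl⟩ := Nat.exists_eq_add_of_le' hi
  rw [Nat.mul_sub, ← h1 _ hin, show 2 * (i + 1) - 2 = 2 * i by omega, ← h1 i (by omega), ← SetLike.coe_sort_coe, ← SetLike.coe_sort_coe,
    Nat.card_coe_set_eq, Nat.card_coe_set_eq, ← Set.ncard_diff (fun g hg => (h2 _ hin g).2 (((h2 i (by omega) g).1 hg).trans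
      (Nat.pow_le_pow_right hp'.pos i.le_succ))), ← Nat.card_coe_set_eq]
  refine Nat.card_congr (Equiv.subtypeEquivRight fun g => ?_)
  obtain ⟨j, hj⟩ := hG.index (centralizer {g})
  rw [Set.mem_diff, SetLike.mem_coe, SetLike.mem_coe, h2 _ hin, h2 i (by omega), hj, Nat.pow_right_inj hp'.one_lt, Nat.pow_le_pow_iff_right hp'.one_lt,
    Nat.pow_le_pow_iff_right hp'.one_lt]
  omega

end Cfsg.Agent.S3881
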