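import Cfsg.Statements.S3883
import Cfsg.Agent.Lib.FG.Meta

set_option autoImplicit false
open Cfsg

open Subgroup Cfsg.Lib
open scoped commutatorElement
namespace Cfsg.Agent.S3883

/-- Let p be an odd prime and G a finite metacyclic p-group (G has a cyclic normal subgroup with cyclic quotient). Suppose G is non-abelian. Then an element g of G lies outside the Frattini subgroup if and only if its centralizer C_G(g) is abelian. -/
theorem result {G : Type*} [Group G] [Finite G] {p : ℕ} [Fact p.Prime] (hp : p ≠ 2) (hG : IsPGroup p G) (hmc : Cfsg.IsMetacyclic G) (hna : ¬ IsMulCommutative G) (g : G) :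
    g ∉ frattini G ↔ IsMulCommutative ↥(Subgroup.centralizer ({g} : Set G)) := by
  have h : FG.MC p G := ⟨hp, hG, hmc⟩
  have hp' := (Fact.out : p.Prime)
  obtain ⟨n, hn⟩ := PGrp.exists_card_eq_pow hG (_root_.commutator G)
  obtain ⟨n, rfl⟩ := Nat.exists_eq_succ_of_ne_zero (n := n) (by rintro rfl; exact hna (FG.card_commutator_eq_one_iff.1 hn))
  obtain ⟨j, hj⟩ := hG.index (centralizer {g})
  have h1 : Nat.card (centralizer ({g} : Set G)) ≤ (_root_.commutator G).index ↔ p ^ (n + 1) ≤ p ^ j := by
    rw [← Nat.mul_le_mul_left_iff (pow_pos hp'.pos j), ← hj, index_mul_card, ← (_root_.commutator G).index_mul_card, mul_comm (Subgroup.index _) (Subgroup.index _),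
      Nat.mul_le_mul_left_iff (Nat.pos_of_ne_zero index_ne_zero_of_finite), hn]
  rw [h.frattini_eq, h.mem_pow_iff hn (by omega), ← h.index_cent_le_iff, h.comm_iff, h1, hj, Nat.pow_le_pow_iff_right hp'.one_lt,
    Nat.pow_le_pow_iff_right hp'.one_lt]
  omega

end Cfsg.Agent.S3883
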