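import Cfsg.Statements.S3884
import Cfsg.Agent.Lib.FG.Meta

set_option autoImplicit false
open Cfsg

open Subgroup Cfsg.Lib
open scoped commutatorElement
namespace Cfsg.Agent.S3884

/-- Let p be an odd prime and G a finite metacyclic p-group (G has a cyclic normal subgroup with cyclic quotient). Then G is the product of two cyclic subgroups with trivial intersection: there are cyclic subgroups A and B with A ∩ B = 1 and |A| · |B| = |G|. -/
theorem result {G : Type*} [Group G] [Finite G] {p : ℕ} [Fact p.Prime] (hp : p ≠ 2) (hG : IsPGroup p G) (hmc : Cfsg.IsMetacyclic G) : ∃ A B : Subgroup G, IsCyclic ↥A ∧ IsCyclic ↥B ∧ A ⊓ B = ⊥ ∧ Nat.card ↥A * Nat.card ↥B = Nat.card G := by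
  have h : FG.MC p G := ⟨hp, hG, hmc⟩
  have hp' := (Fact.out : p.Prime)
  by_cases hc : IsCyclic G
  · exact ⟨⊤, ⊥, PGrp.isCyclic_top_iff.2 hc, inferInstance, by simp, by simp⟩
  obtain ⟨x, hx⟩ := Finite.exists_max (orderOf : G → ℕ)
  have h1 : x ∉ frattini G := fun e => by
    obtain ⟨w, rfl⟩ := h.mem_pow.1 (h.frattini_eq ▸ e)
    rw [pow_one] at hx
    have h2 := PGrp.eq_one_of_mem_zpowers_pow hG ((PGrp.eq_of_le_of_card_le (zpowers_le.2 (pow_mem (mem_zpowers w) p))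
      (by rw [Nat.card_zpowers, Nat.card_zpowers]; exact hx w)).ge (mem_zpowers w))
    exact hc ⟨1, fun y => ⟨0, by simp [orderOf_eq_one_iff.1 (le_antisymm (by simpa [h2] using hx y : orderOf y ≤ 1) (orderOf_pos y))]⟩⟩
  obtain ⟨y, hy, hmin⟩ := (measure (orderOf : G → ℕ)).wf.has_min {y | Subgroup.closure ({x, y} : Set G) = ⊤} (h.exists_gen h1)
  obtain ⟨e, he⟩ := IsPGroup.iff_orderOf.1 hG x
  obtain ⟨f, hf⟩ := IsPGroup.iff_orderOf.1 hG y
  obtain ⟨d, rfl⟩ := Nat.exists_eq_add_of_le ((Nat.pow_le_pow_iff_right hp'.one_lt).1 (he ▸ hf ▸ hx y))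
  have h2 : zpowers x ⊓ zpowers y = ⊥ := by
    by_contra h2
    obtain ⟨z, ⟨hz, hz'⟩, hzp⟩ := PGrp.exists_mem_orderOf_eq hG h2
    obtain _ | f := f
    · rw [orderOf_eq_one_iff.1 hf] at h2; simp at h2
    have h3 (w : G) (k : ℕ) (hw : orderOf w = p ^ (k + 1)) : orderOf (w ^ p ^ k) = p := by
      rw [orderOf_pow_of_dvd (by positivity [hp'.pos]) (hw ▸ pow_dvd_pow p k.le_succ), hw, pow_succ, Nat.mul_div_cancel_left _ (pow_pos hp'.pos k)]
    have h4 : y ^ p ^ f ∈ zpowers (x ^ p ^ (d + f)) := by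
      rw [PGrp.eq_of_card_eq_of_isCyclic (H := zpowers (x ^ p ^ (d + f))) (K := zpowers z) inferInstance (zpowers_le.2 (pow_mem (mem_zpowers x) _))
        (zpowers_le.2 hz) (by rw [Nat.card_zpowers, Nat.card_zpowers, hzp, h3 x _ (by rw [he]; congr 1; omega)]),
        PGrp.eq_of_card_eq_of_isCyclic (H := zpowers z) (K := zpowers (y ^ p ^ f)) inferInstance (zpowers_le.2 hz') (zpowers_le.2 (pow_mem (mem_zpowers y) _))
        (by rw [Nat.card_zpowers, Nat.card_zpowers, hzp, h3 y _ hf])]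
      exact mem_zpowers _
    obtain ⟨k, hk⟩ := PGrp.exists_pow_eq_of_mem_zpowers h4
    rw [pow_add, pow_mul, ← pow_mul, mul_comm, pow_mul, h.reg.pow_pow_eq_iff hG] at hk
    refine hmin (((x ^ p ^ d) ^ k)⁻¹ * y) (top_unique (hy.ge.trans (PGrp.closure_pair_le (PGrp.left_mem_closure_pair _ _) ?_))) ?_
    · simpa using mul_mem (pow_mem (pow_mem (PGrp.left_mem_closure_pair x _) (p ^ d)) k) (PGrp.right_mem_closure_pair x (((x ^ p ^ d) ^ k)⁻¹ * y))
    · exact (Nat.le_of_dvd (pow_pos hp'.pos f) (orderOf_dvd_of_pow_eq_one hk)).trans_lt (hf ▸ Nat.pow_lt_pow_right hp'.one_lt f.lt_succ_self)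
  refine ⟨_, _, inferInstance, inferInstance, h2, le_antisymm (by simpa [h2] using Hall.card_mul_card_le (le_top (a := zpowers x)) (le_top (a := zpowers y))) ?_⟩
  have h3 : powerClosure p f ⊤ ≤ zpowers (x ^ p ^ f) := PGrp.powerClosure_le_iff.2 fun g _ => by
    have := PGrp.omegaOne_normal (p ^ f) (⊤ : Subgroup G)
    obtain ⟨w, hw, k, rfl⟩ := (PGrp.mem_sup_zpowers_of_mem_normalizer ((normalizer_eq_top (omegaOne (p ^ f) ⊤)).ge (mem_top x))).1
      ((PGrp.closure_pair_le (mem_sup_right (mem_zpowers x)) (mem_sup_left (PGrp.mem_omegaOne_of_pow (mem_top y) (hf ▸ pow_orderOf_eq_one y))))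
        (hy.ge (mem_top g)))
    rw [(h.reg.pow_pow_eq_iff' hG f (w * x ^ k) (x ^ k)).2 (by simpa using h.reg.pow_pow_eq_one_of_mem_omegaOne hG f ⊤ w hw), ← zpow_natCast (x ^ k), ← zpow_mul, mul_comm,
      zpow_mul, zpow_natCast]
    exact zpow_mem (mem_zpowers _) k
  have h4 := card_le_of_le h3
  rw [Nat.card_zpowers, orderOf_pow_of_dvd (pow_pos hp'.pos f).ne' (he ▸ pow_dvd_pow p (by omega)), he, pow_add, Nat.mul_div_cancel_left _ (pow_pos hp'.pos f)] at h4
  rw [Nat.card_zpowers, Nat.card_zpowers, he, hf, ← (powerClosure p f (⊤ : Subgroup G)).index_mul_card]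
  exact (Nat.mul_le_mul (h.index_pow_le f) h4).trans (by ring_nf; rfl)

end Cfsg.Agent.S3884
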