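import Cfsg.Statements.S3886
import Cfsg.Agent.Lib.FG.Meta

set_option autoImplicit false
open Cfsg

open Subgroup Cfsg.Lib
open scoped commutatorElement
namespace Cfsg.Agent.S3886

/-- Let p be an odd prime and G a finite metacyclic p-group (G has a cyclic normal subgroup with cyclic quotient). Then the largest value of |R| · |Z(R)| over subgroups R of G is |G : G'|², and the subgroups attaining it (the centrally large subgroups) are exactly the non-abelian subgroups together with the maximal abelian subgroups of G. -/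
theorem result {G : Type*} [Group G] [Finite G] {p : ℕ} [Fact p.Prime] (hp : p ≠ 2) (hG : IsPGroup p G) (hmc : Cfsg.IsMetacyclic G) : Cfsg.maxCentralProduct G = (commutator G).index ^ 2 ∧
    ∀ R : Subgroup G, Cfsg.IsCentrallyLarge R ↔ (¬ IsMulCommutative ↥R ∨ Maximal (fun K : Subgroup G => IsMulCommutative ↥K) R) := by
  have h : FG.MC p G := ⟨hp, hG, hmc⟩
  have h1 (R : Subgroup G) (hR : ¬ IsMulCommutative R) : Nat.card R * Nat.card (center R) = (_root_.commutator G).index ^ 2 := by
    obtain ⟨n, hn⟩ := PGrp.exists_card_eq_pow (h.sub R).pg (_root_.commutator R)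
    have h1 := (FG.MC.card_aux _ G rfl h R).2 (not_le.1 (mt h.comm_iff.2 hR)).le
    have h2 := (center R).index_mul_card
    rw [(h.sub R).index_center hn] at h2
    refine Nat.eq_of_mul_eq_mul_left (pow_pos (Fact.out : p.Prime).pos (2 * n)) ?_
    rw [mul_left_comm, h2, h1, hn]; ring
  have h2 (R : Subgroup G) (hR : IsMulCommutative R) : Nat.card R * Nat.card (center R) = Nat.card R ^ 2 := by
    rw [center_eq_top_iff.2 hR, card_top, sq]
  have h3 : maxCentralProduct G = (_root_.commutator G).index ^ 2 := by
    refine IsGreatest.csSup_eq ⟨?_, ?_⟩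
    · obtain ⟨R, -, hR⟩ := Finite.exists_le_maximal (p := fun K : Subgroup G => IsMulCommutative K) (a := ⊥) inferInstance
      exact ⟨R, by rw [h2 R hR.1, h.maximal_iff.1 hR]⟩
    rintro _ ⟨R, rfl⟩
    by_cases hR : IsMulCommutative R
    · exact (h2 R hR).trans_le (Nat.pow_le_pow_left (h.comm_iff.1 hR) 2)
    · exact (h1 R hR).le
  refine ⟨h3, fun R => ?_⟩
  rw [IsCentrallyLarge, h3, h.maximal_iff]
  by_cases hR : IsMulCommutative R
  · simp [h2 R hR, hR]
  · simp [h1 R hR, hR]

end Cfsg.Agent.S3886
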