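import Cfsg.Statements.S3888
import Cfsg.Agent.Lib.Fus3.Black

set_option autoImplicit false
open Cfsg

namespace Cfsg.Agent.S3888

open Cfsg.Lib Cfsg.Lib.PGrp Subgroup
open scoped commutatorElement

theorem gen_top {G : Type*} [Group G] [Finite G] {p : ℕ} [Fact p.Prime] {M W : Subgroup G} {x y z : G} (h : Bl p M W x)
    (hM : W ⊔ zpowers z = M) (hy : y ∈ W) (hy' : y ∉ center G) (hz : W ⊓ center G ≤ zpowers z) :
    Subgroup.closure ({x⁻¹, y, z} : Set G) = ⊤ := by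
  obtain ⟨K, hK⟩ : ∃ K, K = Subgroup.closure ({x⁻¹, y, z} : Set G) := ⟨_, rfl⟩
  have h1 : x ∈ K := (inv_mem_iff).1 (hK ▸ subset_closure (by simp))
  have h2 : zpowers y ≤ K := zpowers_le.2 (hK ▸ subset_closure (by simp))
  have h3 : zpowers z ≤ K := zpowers_le.2 (hK ▸ subset_closure (by simp))
  have h4 : W ⊓ center G ⊔ zpowers y = W := eq_of_le_of_card_le (sup_le inf_le_left (zpowers_le.2 hy)) (by
    have := mul_card_le_of_lt (h.hG.to_subgroup _)
      (left_lt_sup.2 fun l => hy' (l (mem_zpowers y)).2 : W ⊓ center G < W ⊓ center G ⊔ zpowers y)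
    rwa [h.card_center.1, ← pow_two, ← h.card] at this)
  rw [← hK, eq_top_iff, ← sup_zpowers_eq_top_of_index_eq h.hG h.idx h.nx, ← hM, ← h4]
  exact sup_le (sup_le (sup_le (hz.trans h3) h2) h3) (zpowers_le.2 h1)

theorem ord {G : Type*} [Group G] [Finite G] {p n : ℕ} [hp : Fact p.Prime] {M W : Subgroup G} {x z : G} (h : Bl p M W x)
    (hG : Nat.card G = p ^ n) (hM : W ⊔ zpowers z = M) (hz : W ⊓ center G ≤ zpowers z) :
    3 ≤ n ∧ orderOf z = p ^ (n - 2) ∧ zpowers (z ^ p ^ (n - 3)) = W ⊓ center G := by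
  have := h.nW
  have h1 : zpowers z ⊓ W = W ⊓ center G := (eq_of_le_of_card_le (le_inf hz inf_le_left) (h.card_center.1.symm ▸
    card_le_of_isCyclic_of_pow (isCyclic_of_le' inferInstance inf_le_left) fun _ hy => h.pow hy.2)).symm
  have h2 := card_sup_mul_card_inf (zpowers z) W
  have h3 := M.card_mul_index
  rw [sup_comm, hM, h1, h.card_center.1, h.card, Nat.card_zpowers] at h2
  rw [h.idx, hG, h2] at h3
  obtain ⟨k, hk⟩ := (IsPGroup.iff_orderOf.1 h.hG) z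
  have h4 : k + 2 = n := Nat.pow_right_injective hp.out.two_le (by simp only [pow_add, ← hk, h3])
  have h5 : k ≠ 0 := fun e => by
    have := card_le_of_le hz
    rw [h.card_center.1, Nat.card_zpowers, hk, e, pow_zero] at this
    exact hp.out.one_lt.not_ge this
  obtain ⟨k, rfl⟩ := Nat.exists_eq_succ_of_ne_zero h5
  subst h4
  have h6 : orderOf (z ^ p ^ k) = p := by
    rw [orderOf_pow_of_dvd (pow_pos hp.out.pos k).ne' (hk ▸ pow_dvd_pow p k.le_succ), hk, pow_succ,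
      Nat.mul_div_cancel_left _ (pow_pos hp.out.pos k)]
  refine ⟨by omega, hk, eq_of_card_eq_of_isCyclic (C := zpowers z) inferInstance
    (zpowers_le.2 (npow_mem_zpowers _ _)) hz ?_⟩
  rw [h.card_center.1, Nat.card_zpowers]; exact h6

/-- The classification of the p-groups of rank at most two for odd p. Let p be an odd prime and G a group of order p^n with no elementary abelian subgroup of order p³. Then one of the following holds: G is metacyclic; n ≥ 3 and G is generated by elements x, y, z with x^p = y^p = z^(p^(n−2)) = 1, z commuting with x and y, and x⁻¹yx = y z^(p^(n−3)); n ≥ 4 and G is generated by elements x, y, z with x^p = y^p = z^(p^(n−2)) = 1, yz = zy, x⁻¹yx = y z^(s p^(n−3)) and x⁻¹zx = yz, where s = 1 or s is a quadratic non-residue modulo p; or p = 3 and G has maximal class (nilpotency class n − 1). -/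
theorem result {G : Type*} [Group G] [Finite G] {p : ℕ} [Fact p.Prime] (hp : p ≠ 2) (n : ℕ) (hG : Nat.card G = p ^ n)
    (hrk : Cfsg.PRankLE p 2 G) :
    Cfsg.IsMetacyclic G ∨
    (3 ≤ n ∧ ∃ x y z : G, Subgroup.closure ({x, y, z} : Set G) = ⊤ ∧ x ^ p = 1 ∧ y ^ p = 1 ∧ z ^ p ^ (n - 2) = 1 ∧
        x * z = z * x ∧ y * z = z * y ∧ x⁻¹ * y * x = y * z ^ p ^ (n - 3)) ∨
    (4 ≤ n ∧ ∃ (s : ℕ) (x y z : G), (s = 1 ∨ ¬ IsSquare (s : ZMod p)) ∧ Subgroup.closure ({x, y, z} : Set G) = ⊤ ∧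
        x ^ p = 1 ∧ y ^ p = 1 ∧ z ^ p ^ (n - 2) = 1 ∧ y * z = z * y ∧ x⁻¹ * y * x = y * z ^ (s * p ^ (n - 3)) ∧
        x⁻¹ * z * x = y * z) ∨
    (p = 3 ∧ 2 ≤ n ∧ (⊤ : Subgroup G).lowerCentralSeries (n - 2) ≠ ⊥) := by
  have hq : p.Prime := Fact.out
  have hP := IsPGroup.of_card hG
  have hmax : ∀ x : G, p = 3 → Nat.card (centralizer ({x} : Set G)) ≤ p ^ 2 → IsMetacyclic G ∨
      (p = 3 ∧ 2 ≤ n ∧ (⊤ : Subgroup G).lowerCentralSeries (n - 2) ≠ ⊥) := fun x h3 hx => by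
    rcases Nat.lt_or_ge n 2 with h | h
    · exact .inl (isMetacyclic_of_isCyclic (isCyclic_top_iff.1 (isCyclic_of_card_le (hP.to_subgroup _) (by
        rw [card_top, hG]; exact (Nat.pow_le_pow_right hq.pos (by omega : n ≤ 1)).trans (pow_one p).le))))
    have := hP.isNilpotent
    refine .inr ⟨h3, h, fun e => ?_⟩
    have h1 := Subgroup.lowerCentralSeries_eq_bot_iff_nilpotencyClass_le.1 e
    rw [maxClass_of_centralizer hG (le_antisymm hx
      (sq_le_card_centralizer hP (hG ▸ Nat.pow_le_pow_right hq.pos h) x))] at h1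
    omega
  rcases blackburn_aux hp _ G rfl hP hrk with h | ⟨h3, x, hx⟩ | ⟨M, W, x, a, h, hM, ha, hx⟩
  · exact .inl h
  · exact (hmax x h3 hx).imp_right fun h => .inr (.inr h)
  rcases h.ab hM ha with hc | ⟨h3, hx⟩
  swap
  · exact (hmax x h3 hx).imp_right fun h => .inr (.inr h)
  have haM : a ∈ M := ha ▸ mem_sup_right (mem_zpowers a)
  obtain ⟨w, hw, hw'⟩ := h.exists_not_center
  have hd : dl x w ≠ 1 := fun e => hw' (h.mem_center hw (dl_eq_one_iff.1 e))
  have hs : ∀ z ∈ W ⊓ center G, ∃ k : ℕ, dl x (w ^ k) = z := fun z hz => by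
    obtain ⟨k, hk⟩ := exists_pow_eq_of_mem_zpowers
      (h.mem_zpowers (Bl.dl_mem h.nW x hw) (h.dl_center x hw) hd hz.1 hz.2)
    exact ⟨k, by rw [h.dl_pow' hM x (h.le hw), hk]⟩
  by_cases h1 : dl x a ∈ center G
  · obtain ⟨k, hk⟩ := hs _ ⟨W.inv_mem hc, (center G).inv_mem h1⟩
    have h2 : a * w ^ k ∈ M ⊓ center G := by
      have := M.mul_mem haM (M.pow_mem (h.le hw) k)
      exact ⟨this, h.mem_center_of_comm hM this (dl_eq_one_iff.1 (by
        rw [h.dl_mul' hM x haM (M.pow_mem (h.le hw) k), hk, mul_inv_cancel]))⟩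
    obtain ⟨z, hz⟩ := exists_zpowers_eq_of_isCyclic (isCyclic_of_forall_mem hp (hP.to_subgroup (M ⊓ center G))
      h.card_center.1.le fun y hy e => ⟨(h.mem _).2 ⟨hy.1, e⟩, hy.2⟩)
    have h3 : W ⊔ zpowers z = M := le_antisymm (sup_le h.le (hz ▸ inf_le_left)) (ha ▸ sup_le le_sup_left
      (zpowers_le.2 (by
        rw [← mul_inv_cancel_right a (w ^ k)]
        exact mul_mem (mem_sup_right (hz.ge h2)) (mem_sup_left (W.inv_mem (W.pow_mem hw k))))))
    have h4 : W ⊓ center G ≤ zpowers z := hz ▸ inf_le_inf_right _ h.le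
    obtain ⟨o1, o2, o3⟩ := ord h hG h3 h4
    obtain ⟨j, hj⟩ := hs _ (o3.le (mem_zpowers _))
    have h5 := commute_of_mem_center (hz.le (mem_zpowers z)).2
    refine .inr (.inl ⟨o1, x⁻¹, w ^ j, z, gen_top h h3 (W.pow_mem hw j) (fun e => ?_) h4, by rw [inv_pow, hx, inv_one],
      h.pow (W.pow_mem hw j), o2 ▸ pow_orderOf_eq_one z, (h5 _).symm.eq, (h5 _).symm.eq, by
        rw [inv_inv, conj_eq_mul_dl, hj]⟩)
    have := h.card_center.1
    rw [← o3, ← hj, dl_eq_one_iff.2 (commute_of_mem_center e x).symm, zpowers_one_eq_bot, card_bot] at this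
    exact (Fact.out : p.Prime).one_lt.ne this
  have hap : a ^ p ≠ 1 := fun e => h1 (h.dl_center x ((h.mem _).2 ⟨haM, e⟩))
  have hz : a ^ p ∈ center G := h.mem_center_of_comm hM (M.pow_mem haM _)
    (dl_eq_one_iff.1 (by rw [h.dl_pow' hM x haM, h.pow hc]))
  obtain ⟨k, hk⟩ := exists_pow_orderOf_eq hP hap
  have h4 : W ⊓ center G ≤ zpowers a := fun y hy => zpowers_le.2 (pow_mem (npow_mem_zpowers a p) k)
    (h.mem_zpowers ((h.mem _).2 ⟨M.pow_mem (M.pow_mem haM _) _, orderOf_dvd_iff_pow_eq_one.1 hk.dvd⟩)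
      ((center G).pow_mem hz k) (fun e => (Fact.out : p.Prime).one_lt.ne (by rw [← hk, e, orderOf_one])) hy.1 hy.2)
  obtain ⟨o1, o2, o3⟩ := ord h hG ha h4
  have o4 : 4 ≤ n := by
    by_contra h5
    obtain rfl : n = 3 := by omega
    exact hap (by simpa using (o2 ▸ pow_orderOf_eq_one a : a ^ p ^ (3 - 2) = 1))
  have key : ∀ (x' : G) (s : ℕ), x' ∉ M → x' ^ p = 1 → dl x' a ∈ W → dl x' (dl x' a) = (a ^ p ^ (n - 3)) ^ s →
      (s : ZMod p) ≠ 0 → (s = 1 ∨ ¬ IsSquare (s : ZMod p)) → ∃ (s : ℕ) (x y z : G), (s = 1 ∨ ¬ IsSquare (s : ZMod p)) ∧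
      Subgroup.closure ({x, y, z} : Set G) = ⊤ ∧ x ^ p = 1 ∧ y ^ p = 1 ∧ z ^ p ^ (n - 2) = 1 ∧ y * z = z * y ∧
      x⁻¹ * y * x = y * z ^ (s * p ^ (n - 3)) ∧ x⁻¹ * z * x = y * z := fun x' s k1 k2 k3 k4 k5 k6 => by
    have k7 : dl x' a ∉ center G := fun e => k5 (by
      rw [dl_eq_one_iff.2 (commute_of_mem_center e x').symm, eq_comm, ← orderOf_dvd_iff_pow_eq_one,
        ← Nat.card_zpowers, o3, h.card_center.1] at k4
      exact (ZMod.natCast_eq_zero_iff _ _).2 k4)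
    have h' : Bl p M W x' := ⟨hP, hp, h.idx, h.reg, h.mem, h.card, k1, fun e => k7 (h.mem_center_of_comm hM (h.le k3) (by
      have : M ⊔ zpowers x' ≤ centralizer {dl x' a} := sup_le
        (fun y hy => mem_centralizer_singleton_iff.2 (comm_of_mem hM hy (h.le k3)))
        (zpowers_le.2 (mem_centralizer_singleton_iff.2 (e _ k3).symm))
      rw [sup_zpowers_eq_top_of_index_eq hP h.idx k1] at this
      exact mem_centralizer_singleton_iff.1 (this trivial)))⟩
    refine ⟨s, x'⁻¹, dl x' a, a, k6, gen_top h' ha k3 k7 h4, by rw [inv_pow, k2, inv_one], h.pow k3,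
      o2 ▸ pow_orderOf_eq_one a, comm_of_mem hM (h.le k3) haM, ?_, ?_⟩
    · rw [inv_inv, conj_eq_mul_dl, k4, ← pow_mul, mul_comm s]
    · rw [inv_inv, conj_eq_mul_dl, comm_of_mem hM (h.le k3) haM]
  have hd1 := Bl.dl_mem h.nW x hc
  have hd2 := h.dl_center x hc
  obtain ⟨s, hs⟩ := exists_pow_eq_of_mem_zpowers (o3.ge ⟨hd1, hd2⟩)
  have ho : orderOf (a ^ p ^ (n - 3)) = p := by rw [← Nat.card_zpowers, o3, h.card_center.1]
  have hs0 : (s : ZMod p) ≠ 0 := fun e => h1 (h.mem_center hc (dl_eq_one_iff.1 (by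
    rw [← hs, ← orderOf_dvd_iff_pow_eq_one, ho]; exact (ZMod.natCast_eq_zero_iff _ _).1 e)))
  refine .inr (.inr (.inl ⟨o4, ?_⟩))
  by_cases hsq : IsSquare (s : ZMod p)
  swap
  · exact key x s h.nx hx hc hs.symm hs0 (.inr hsq)
  obtain ⟨r, hr⟩ := hsq
  have hr0 : r ≠ 0 := fun e => hs0 (by rw [hr, e, mul_zero])
  obtain ⟨i, hi⟩ : ∃ i : ℕ, (i : ZMod p) = r⁻¹ := ⟨_, ZMod.natCast_zmod_val _⟩
  have c1 := commute_of_mem_center hd2
  have e1 := conj_pow_three rfl rfl (dl_eq_one_iff.2 (c1 x).symm) (dl_eq_one_iff.2 (Commute.one_right x)) (c1 _).symm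
    (Commute.one_right _) i
  have e2 := conj_pow_three rfl (dl_eq_one_iff.2 (c1 x).symm) (dl_eq_one_iff.2 (Commute.one_right x))
    (dl_eq_one_iff.2 (Commute.one_right x)) (Commute.one_right _) (Commute.one_right _) i
  simp only [one_pow, mul_one] at e1 e2
  refine key (x ^ i) 1 (fun e => h.nx ?_) (by rw [← pow_mul, mul_comm, pow_mul, hx, one_pow])
    (e1 ▸ W.mul_mem (W.pow_mem hc _) (W.pow_mem hd1 _)) ?_ (by simp) (.inl rfl)
  · have hco : i.Coprime p := ((Nat.Prime.coprime_iff_not_dvd Fact.out).2 fun e => inv_ne_zero hr0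
      (hi ▸ (ZMod.natCast_eq_zero_iff _ _).2 e)).symm
    have hne : x ≠ 1 := fun e => h.nx (e ▸ M.one_mem)
    exact zpowers_le.2 e (mem_zpowers_pow_iff.2 (by rw [orderOf_eq_prime hx hne]; exact hco))
  · rw [e1, h.dl_mul' hM _ (M.pow_mem (h.le hc) _) (M.pow_mem (h.le hd1) _), h.dl_pow' hM _ (h.le hc), e2,
      dl_eq_one_iff.2 ((c1 _).pow_left _).symm, mul_one, ← hs, ← pow_mul, ← pow_mul, pow_eq_pow_iff_modEq, ho,
      ← ZMod.natCast_eq_natCast_iff]
    push_cast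
    rw [hr, hi]; field_simp

end Cfsg.Agent.S3888
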