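import Cfsg.Statements.S3889
import Cfsg.Agent.Lib.Coprime.Frobenius

set_option autoImplicit false
open Cfsg

open Subgroup Cfsg.Lib
open scoped commutatorElement
namespace Cfsg.Agent.S3889

/-- A finite abelian group that is the union of a family of proper subgroups any two of which intersect trivially is elementary abelian: its exponent is a prime. -/
theorem result {G : Type*} [CommGroup G] [Finite G] (𝓑 : Set (Subgroup G)) (hprop : ∀ B ∈ 𝓑, B ≠ ⊤)
    (hcov : ∀ g : G, ∃ B ∈ 𝓑, g ∈ B) (hdisj : ∀ B ∈ 𝓑, ∀ C ∈ 𝓑, B ≠ C → B ⊓ C = ⊥) :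
    (Monoid.exponent G).Prime := by
  obtain ⟨B₀, hB₀, -⟩ := hcov 1
  obtain ⟨x, -, hx⟩ := Coprime.exists_mem_orderOf_prime (R := (⊤ : Subgroup G)) fun h => hprop B₀ hB₀ (eq_top_iff.2 (h ▸ bot_le))
  have hx1 : x ≠ 1 := fun h => by simp [h, Nat.not_prime_one] at hx
  obtain ⟨B, hB, hxB⟩ := hcov x
  have h1 : ∀ y ∉ B, y ^ orderOf x = 1 := fun y hy => by
    obtain ⟨C, hC, hyC⟩ := hcov y
    obtain ⟨D, hD, hxy⟩ := hcov (x * y)
    refine mem_bot.1 ((hdisj C hC D hD ?_).le ⟨pow_mem hyC _, by simpa [mul_pow] using pow_mem hxy (orderOf x)⟩)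
    rintro rfl
    exact hx1 (mem_bot.1 ((hdisj B hB C hC fun e => hy (e ▸ hyC)).le ⟨hxB, by simpa using mul_mem hxy (inv_mem hyC)⟩))
  obtain ⟨y, hy⟩ : ∃ y, y ∉ B := by by_contra! h; exact hprop B hB (eq_top_iff.2 fun y _ => h y)
  have h2 : ∀ g : G, g ^ orderOf x = 1 := fun g => by
    by_cases hg : g ∈ B
    · have := h1 (g * y) fun h => hy (by simpa using mul_mem (inv_mem hg) h)
      rwa [mul_pow, h1 y hy, mul_one] at this
    · exact h1 g hg
  rwa [Nat.dvd_antisymm (Monoid.exponent_dvd_of_forall_pow_eq_one h2) (Monoid.order_dvd_exponent x)]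

end Cfsg.Agent.S3889
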