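import Cfsg.Statements.S3890
import Cfsg.Agent.S3889
import Cfsg.Agent.Lib.Transfer.SylowIn
import Cfsg.Agent.Lib.Core.Nilpotent
import Cfsg.Agent.Lib.PGrp.Cyclic

set_option autoImplicit false
open Cfsg

open Subgroup Cfsg.Lib
open scoped commutatorElement
open Transfer
open scoped IsMulCommutative
namespace Cfsg.Agent.S3890

theorem main {G : Type*} [Group G] [Finite G] (hZ : Subgroup.center G = ⊥) (𝓐 : Finset (Subgroup G))
    (h𝓐 : ((∀ A ∈ 𝓐, A ≠ ⊤) ∧ (∀ g : G, ∃ A ∈ 𝓐, g ∈ A)) ∧ (∀ 𝓑 : Finset (Subgroup G), (∀ A ∈ 𝓑, A ≠ ⊤) ∧ (∀ g : G, ∃ A ∈ 𝓑, g ∈ A) → 𝓐.card ≤ 𝓑.card) ∧ (∀ A ∈ 𝓐, Group.IsNilpotent ↥A)) {p : ℕ} [Fact p.Prime] (P : Sylow p G) (hab : IsMulCommutative ↥(P : Subgroup G))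
    (hnn : ¬ (P : Subgroup G).Normal) :
    (Cfsg.IsElementaryAbelian p (P : Subgroup G) ∧ p < Nat.card ↥(P : Subgroup G)) ∨
    (centralizer ((P : Subgroup G) : Set G) ∈ 𝓐 ∧ IsCoatom (normalizer ((P : Subgroup G) : Set G)) ∧
      (∀ M ≠ ⊤, centralizer ((P : Subgroup G) : Set G) ≤ M → M ≤ normalizer ((P : Subgroup G) : Set G)) ∧
      ∀ g : G, (P : Subgroup G) ⊓ cj g P ≠ ⊥ → g ∈ normalizer ((P : Subgroup G) : Set G)) := by
  classical
  obtain ⟨⟨h1, h2⟩, h3, h4⟩ := h𝓐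
  have hp : p.Prime := Fact.out
  have k1 : ∀ A ∈ 𝓐, ∀ B ∈ 𝓐, ∀ M ≠ ⊤, A ≤ M → B ≤ M → A = B := fun A hA B hB M hM hAM hBM => by
    by_contra hne
    have := h3 (insert M ((𝓐.erase A).erase B)) ⟨fun C hC => (Finset.mem_insert.1 hC).elim (fun e => e ▸ hM)
      fun hC => h1 C (Finset.mem_of_mem_erase (Finset.mem_of_mem_erase hC)), fun g => by
        obtain ⟨C, hC, hg⟩ := h2 g
        by_cases e1 : C = A
        · exact ⟨M, by simp, hAM (e1 ▸ hg)⟩
        by_cases e2 : C = B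
        · exact ⟨M, by simp, hBM (e2 ▸ hg)⟩
        exact ⟨C, by simp [*], hg⟩⟩
    have e1 := Finset.card_insert_le M ((𝓐.erase A).erase B)
    have e2 := Finset.card_erase_add_one (Finset.mem_erase.2 ⟨Ne.symm hne, hB⟩)
    have e3 := Finset.card_erase_add_one hA
    omega
  have hcomm : ∀ T : Subgroup G, IsPGroup p T → IsMulCommutative T := fun T hT => by
    obtain ⟨g, -, hg⟩ := (sylowIn_top P).exists_cj_le hT le_top
    refine PGrp.isMulCommutative_iff_forall.2 fun x hx y hy => (MulAut.conj g).injective ?_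
    rw [map_mul, map_mul]
    exact PGrp.comm_of_mem hab (hg (conj_mem_cj.2 hx)) (hg (conj_mem_cj.2 hy))
  have k2 : ∀ A ∈ 𝓐, ∀ T ≤ A, IsPGroup p T → A ≤ centralizer (T : Set G) := fun A hA T hT hTp => by
    have := h4 A hA
    have e := congrArg (map A.subtype) (Core.pCore_sup_pPrimeCore_of_nilpotent (G := A) hp)
    have hT' : T ≤ (pCore p A).map A.subtype := by
      rw [← Core.map_subtype_subgroupOf_of_le hT]; exact map_mono (Core.le_pCore_of_nilpotent (Core.isPGroup_subgroupOf hTp A))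
    rw [Subgroup.map_sup, ← MonoidHom.range_eq_map, range_subtype] at e
    refine e.ge.trans ((sup_le (fun x hx y hy => PGrp.comm_of_mem (hcomm _ (Core.isPGroup_pCoreOf A)) hy hx) ?_).trans
      (Core.centralizer_anti hT'))
    exact (map_mono (Core.pPrimeCore_le_centralizer_pCore hp)).trans ((Core.map_subtype_centralizer _).le.trans inf_le_right)
  have k3 : ∀ A ∈ 𝓐, ∀ B ∈ 𝓐, ∀ T : Subgroup G, IsPGroup p T → T ≠ ⊥ → T ≤ A → T ≤ B → A = B := fun A hA B hB T hT hT1 hTA hTB =>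
    k1 A hA B hB _ (fun e => hT1 (eq_bot_iff.2 (hZ ▸ centralizer_eq_top_iff_subset.1 e))) (k2 A hA T hTA hT) (k2 B hB T hTB hT)
  have hP1 : (P : Subgroup G) ≠ ⊥ := fun e => hnn (e ▸ inferInstance)
  by_cases hc : ∀ g : G, ∃ A ∈ 𝓐, cj g P ≤ A
  swap
  · push Not at hc
    obtain ⟨g, hg⟩ := hc
    have hQ := isPGroup_cj g P.isPGroup'
    have := hcomm _ hQ
    have h5 := S3889.result (G := cj g P) ((·.subgroupOf _) '' (𝓐 : Set (Subgroup G)))
      (by rintro _ ⟨A, hA, rfl⟩ e; exact hg A hA (subgroupOf_eq_top.1 e))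
      (fun x => (h2 x).elim fun A hA => ⟨_, ⟨A, hA.1, rfl⟩, hA.2⟩) (by
        rintro _ ⟨A, hA, rfl⟩ _ ⟨B, hB, rfl⟩ hne
        by_contra h
        exact hne (by rw [k3 A hA B hB (A ⊓ B ⊓ cj g P) (hQ.to_le inf_le_right) (fun e => h (subgroupOf_eq_bot.2 (disjoint_iff.2 e) :))
          (inf_le_left.trans inf_le_left) (inf_le_left.trans inf_le_right)]))
    obtain ⟨k, hk⟩ := IsPGroup.iff_card.1 hQ
    have h6 := (Nat.prime_dvd_prime_iff_eq h5 hp).1 (h5.dvd_of_dvd_pow (hk ▸ Group.exponent_dvd_nat_card))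
    refine .inl ⟨⟨hab, fun x hx => (MulAut.conj g).injective ?_⟩, not_le.1 fun h => ?_⟩
    · rw [map_pow, map_one, ← h6]
      exact congrArg Subtype.val (Monoid.pow_exponent_eq_one (⟨_, conj_mem_cj.2 hx⟩ : cj g P))
    · obtain ⟨a, ha⟩ := PGrp.exists_zpowers_eq_of_isCyclic (PGrp.isCyclic_of_card_le hQ (by rwa [card_cj]))
      obtain ⟨A, hA, haA⟩ := h2 a
      exact hg A hA (ha ▸ zpowers_le.2 haA)
  have k4 : ∀ T, SylowIn p T ⊤ → T ≠ ⊥ → ∀ A ∈ 𝓐, T ≤ A → centralizer (T : Set G) = A := fun T hT hT1 A hA hTA => by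
    refine le_antisymm (le_of_forall_prime_pow fun q hq c hc' ⟨k, hk⟩ => ?_) (k2 A hA T hTA hT.isPGroup)
    by_cases e : q = p
    · subst e
      exact hTA (zpowers_le.1 (hT.le_of_normalizes (Core.isPGroup_zpowers_of_pow_eq_one hk) le_top (zpowers_le.2 (centralizer_le_normalizer _ hc'))))
    obtain ⟨x, hx, hxp⟩ := Coprime.exists_mem_orderOf_prime hT1
    obtain ⟨B, hB, hxB⟩ := h2 (x * c)
    have h5 : x ^ q ^ k ∈ B := by simpa [Commute.mul_pow (hc' x hx), hk] using pow_mem hxB (q ^ k)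
    have h6 : zpowers (x ^ q ^ k) ≤ T := zpowers_le.2 (pow_mem hx _)
    rw [← k3 A hA B hB _ (hT.isPGroup.to_le h6) (fun e1 => e ?_) (h6.trans hTA) (zpowers_le.2 h5)] at hxB
    · simpa using mul_mem (inv_mem (hTA hx)) hxB
    obtain ⟨l, hl⟩ := Core.isPGroup_iff_forall_mem.1 hT.isPGroup x hx
    rw [← (Nat.prime_dvd_prime_iff_eq hxp hq).1 (hxp.dvd_of_dvd_pow (orderOf_dvd_of_pow_eq_one (zpowers_eq_bot.1 e1))),
      ← (Nat.prime_dvd_prime_iff_eq hxp hp).1 (hxp.dvd_of_dvd_pow (orderOf_dvd_of_pow_eq_one hl))]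
  have hS : ∀ g : G, SylowIn p (cj g P) ⊤ := fun g => (sylowIn_top P).cj_of_mem (mem_top g)
  have k5 : ∀ g : G, centralizer (cj g P : Set G) ∈ 𝓐 := fun g => by
    obtain ⟨A, hA, h⟩ := hc g
    rwa [k4 _ (hS g) (mt cj_eq_bot.1 hP1) A hA h]
  have k0 : centralizer ((P : Subgroup G) : Set G) ∈ 𝓐 := by simpa only [cj_one] using k5 1
  have hle : ∀ g : G, cj g P ≤ centralizer (cj g P : Set G) := fun g x hx y hy => PGrp.comm_of_mem (hcomm _ (hS g).isPGroup) hy hx
  have k6 : ∀ g : G, centralizer ((P : Subgroup G) : Set G) = centralizer (cj g P : Set G) → g ∈ normalizer ((P : Subgroup G) : Set G) :=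
    fun g e => mem_normalizer_of_cj_le ((sylowIn_top P).le_of_normalizes (hS g).isPGroup le_top
      (((hle g).trans e.ge).trans (centralizer_le_normalizer _)))
  have k7 : ∀ M ≠ ⊤, centralizer ((P : Subgroup G) : Set G) ≤ M → M ≤ normalizer ((P : Subgroup G) : Set G) := fun M hM h g hg =>
    k6 g (k1 _ k0 _ (k5 g) M hM h (by rw [← cj_centralizer, ← cj_eq_of_mem hg]; exact cj_mono g h))
  refine .inr ⟨k0, ⟨mt normalizer_eq_top_iff.1 hnn, fun M hM => ?_⟩, k7, fun g h => k6 g (k3 _ k0 _ (k5 g) _ (P.isPGroup'.to_le inf_le_left) h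
    (inf_le_left.trans fun x hx y hy => PGrp.comm_of_mem hab hy hx) (inf_le_right.trans (hle g)))⟩
  by_contra h
  exact hM.not_ge (k7 M h ((centralizer_le_normalizer _).trans hM.le))

/-- A cover of a group is a finite set of proper subgroups whose union is the whole group; it is minimal when no cover has fewer members, and nilpotent when all its members are nilpotent. Let G be a finite group with trivial center admitting a nilpotent minimal cover 𝓐, and let P be an abelian Sylow p-subgroup of G that is not normal. Then either P is elementary abelian of order greater than p, or P is a Sylow p-subgroup of some member A of 𝓐, the normalizer N of P is a maximal subgroup of G, N meets each of its conjugates by elements outside N in a subgroup of order prime to p, and the centralizer of P equals A. -/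
theorem result {G : Type*} [Group G] [Finite G] (hZ : Subgroup.center G = ⊥) (𝓐 : Finset (Subgroup G))
    (h𝓐 : ((∀ A ∈ 𝓐, A ≠ ⊤) ∧ (∀ g : G, ∃ A ∈ 𝓐, g ∈ A)) ∧ (∀ 𝓑 : Finset (Subgroup G), (∀ A ∈ 𝓑, A ≠ ⊤) ∧ (∀ g : G, ∃ A ∈ 𝓑, g ∈ A) → 𝓐.card ≤ 𝓑.card) ∧ (∀ A ∈ 𝓐, Group.IsNilpotent ↥A)) {p : ℕ} [Fact p.Prime] (P : Sylow p G) (hab : IsMulCommutative ↥(P : Subgroup G))
    (hnn : ¬ (P : Subgroup G).Normal) :
    (Cfsg.IsElementaryAbelian p (P : Subgroup G) ∧ p < Nat.card ↥(P : Subgroup G)) ∨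
    (∃ A ∈ 𝓐, (P : Subgroup G) ≤ A ∧ ¬ p ∣ ((P : Subgroup G).subgroupOf A).index ∧
      IsCoatom (Subgroup.normalizer ((P : Subgroup G) : Set G)) ∧
      (∀ g : G, g ∉ Subgroup.normalizer ((P : Subgroup G) : Set G) →
        ¬ p ∣ Nat.card ↥(Subgroup.normalizer ((P : Subgroup G) : Set G) ⊓
          (Subgroup.normalizer ((P : Subgroup G) : Set G)).map (MulAut.conj g).toMonoidHom)) ∧
      Subgroup.centralizer ((P : Subgroup G) : Set G) = A) := by
  refine (main hZ 𝓐 h𝓐 P hab hnn).imp_right fun ⟨h1, h2, _, h4⟩ => ?_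
  have hle : (P : Subgroup G) ≤ centralizer ((P : Subgroup G) : Set G) := fun x hx y hy => PGrp.comm_of_mem hab hy hx
  refine ⟨_, h1, hle, (sylowIn_of_le P hle).not_dvd, h2, fun g hg hd => hg (h4 g fun e => ?_), rfl⟩
  obtain ⟨T, hT⟩ := exists_sylowIn p (normalizer ((P : Subgroup G) : Set G) ⊓ cj g (normalizer ((P : Subgroup G) : Set G)))
  refine hT.eq_bot_iff.1 (eq_bot_iff.2 (e ▸ le_inf ?_ ?_)) hd
  · exact (sylowIn_top P).le_of_normalizes hT.isPGroup le_top (hT.le.trans inf_le_left)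
  · exact ((sylowIn_top P).cj_of_mem (mem_top g)).le_of_normalizes hT.isPGroup le_top (hT.le.trans (inf_le_right.trans (cj_normalizer _ _).le))

end Cfsg.Agent.S3890
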