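import Cfsg.Statements.S3892
import Cfsg.Agent.Lib.BG1.Amb
import Cfsg.Agent.Lib.PGrp.DerL

set_option autoImplicit false
open Cfsg

namespace Cfsg.Agent.S3892

open Subgroup Equiv Cfsg.Lib Cfsg.Lib.Core Cfsg.Lib.BG1 Cfsg.Lib.Amalg
set_option linter.style.haveILetI false

theorem no_cover {G : Type*} [Group G] [Finite G] {p : ℕ} (hp : p.Prime) (hG : ¬ p ^ 2 ∣ Nat.card G) {x y : G}
    (hx : orderOf x = p) (hy : orderOf y = p) (hxy : y ∉ zpowers x) {M : Subgroup G} (hM : M ≠ ⊤)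
    (h1 : ∀ g, Commute g x → g ∈ M) (h2 : ∀ g, Commute g y → g ∈ M) :
    ¬ ∃ 𝓐 : Finset (Subgroup G), ((∀ A ∈ 𝓐, A ≠ ⊤) ∧ (∀ g : G, ∃ A ∈ 𝓐, g ∈ A)) ∧
      (∀ 𝓑 : Finset (Subgroup G), (∀ A ∈ 𝓑, A ≠ ⊤) ∧ (∀ g : G, ∃ A ∈ 𝓑, g ∈ A) → 𝓐.card ≤ 𝓑.card) ∧
      (∀ A ∈ 𝓐, Group.IsNilpotent ↥A) := by
  classical
  haveI := Fact.mk hp
  rintro ⟨𝓐, ⟨a1, a2⟩, a3, a4⟩
  have b1 : ∀ x : G, orderOf x = p → ∀ N : Subgroup G, Group.IsNilpotent N → x ∈ N → zpowers x ≤ 𝐎[p](N) :=
    fun x hx N hN h => (syl_pCoreOf_of_nilpotent hN).le_of_le_normalizer'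
      (Amalg.isPGroup_zpowers_of_orderOf (k := 1) (by simpa using hx)) (zpowers_le.2 h)
      ((zpowers_le.2 h).trans (le_norm_piCoreOf_self _ _))
  have b2 : ∀ x : G, orderOf x = p → ∀ N : Subgroup G, Group.IsNilpotent N → x ∈ N → 𝐎[p](N) = zpowers x := by
    intro x hx N hN h
    obtain ⟨k, hk⟩ := IsPGroup.iff_card.1 (pgroup_pCoreOf hp N)
    have : k ≤ 1 := not_lt.1 fun h => hG ((pow_dvd_pow p h).trans (hk ▸ card_subgroup_dvd_card _))
    refine (eq_of_le_of_card_ge (b1 x hx N hN h) ?_).symm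
    rw [hk, Nat.card_zpowers, hx]
    simpa using Nat.pow_le_pow_right hp.pos this
  have b3 : ∀ x : G, orderOf x = p → ∀ N : Subgroup G, Group.IsNilpotent N → x ∈ N → N ≤ 𝐂(zpowers x) := by
    intro x hx N hN h
    rw [← piCoreOf_sup_compl_of_nilpotent {p} hN]
    refine sup_le ((b2 x hx N hN h).le.trans (le_centralizer _)) ?_
    rw [← b2 x hx N hN h]
    exact le_centralizer_iff.1 (piCoreOf_le_cent_compl {p} N)
  obtain ⟨A, hA, hxA⟩ := a2 x
  obtain ⟨B, hB, hyB⟩ := a2 y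
  have hAB : B ≠ A := by
    rintro rfl
    exact hxy ((b2 x hx B (a4 B hA) hxA).le (b1 y hy B (a4 B hA) hyB (mem_zpowers y)))
  have := a3 (insert M ((𝓐.erase A).erase B)) ⟨fun C hC => ?_, fun g => ?_⟩
  · have c1 := Finset.card_insert_le M ((𝓐.erase A).erase B)
    have c2 := Finset.card_erase_add_one (Finset.mem_erase.2 ⟨hAB, hB⟩)
    have c3 := Finset.card_erase_add_one hA
    omega
  · rcases Finset.mem_insert.1 hC with rfl | hC
    · exact hM
    · exact a1 C (Finset.mem_of_mem_erase (Finset.mem_of_mem_erase hC))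
  · obtain ⟨C, hC, hg⟩ := a2 g
    by_cases e1 : C = A
    · exact ⟨M, Finset.mem_insert_self _ _, h1 g (b3 x hx A (a4 A hA) hxA (e1 ▸ hg) x (mem_zpowers x)).symm⟩
    by_cases e2 : C = B
    · exact ⟨M, Finset.mem_insert_self _ _, h2 g (b3 y hy B (a4 B hB) hyB (e2 ▸ hg) y (mem_zpowers y)).symm⟩
    exact ⟨C, by simp [e1, e2, hC], hg⟩

theorem nm {G : Type*} [Group G] {x y : G} (h : y * x ≠ x * y) : y ∉ zpowers x := by
  rintro ⟨k, rfl⟩
  exact h (Commute.zpow_self x k)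

theorem big {n : ℕ} (hn : 6 ≤ n) : ∃ p : ℕ, p.Prime ∧ ¬ p ^ 2 ∣ n.factorial ∧ ∃ x y : alternatingGroup (Fin n),
    orderOf x = p ∧ orderOf y = p ∧ y ∉ zpowers x ∧ ∃ M : Subgroup (Perm (Fin n)), ¬ alternatingGroup (Fin n) ≤ M ∧
      (∀ g, Commute g x.1 → g ∈ M) ∧ ∀ g, Commute g y.1 → g ∈ M := by
  obtain ⟨p, hp, h1, h2, h3⟩ : ∃ p : ℕ, p.Prime ∧ 5 ≤ p ∧ p < n ∧ n < 2 * p := by
    by_cases h : n < 10
    · exact ⟨5, by norm_num, by omega⟩
    obtain ⟨p, hp, h1, h2⟩ := Nat.exists_prime_lt_and_le_two_mul (n / 2) (by omega)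
    have := hp.eq_two_or_odd
    exact ⟨p, hp, by omega⟩
  haveI := Fact.mk hp
  refine ⟨p, hp, fun h => ?_, ?_⟩
  · rw [padicValNat_dvd_iff_le n.factorial_ne_zero, ← padicValNat_mul_div_factorial,
      show n / p = 1 from Nat.div_eq_of_lt_le (by omega) (by omega), mul_one, DerL.val_fact] at h
    omega
  have hc : 2 * Nat.card (alternatingGroup (Fin p)) = p * ((p - 1) * (p - 2).factorial) := by
    haveI : Nontrivial (Fin p) := Fin.nontrivial_iff_two_le.2 (by omega)
    obtain ⟨q, rfl⟩ : ∃ q, p = q + 2 := ⟨p - 2, by omega⟩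
    rw [two_mul_nat_card_alternatingGroup, Nat.card_perm, Nat.card_fin]; rfl
  obtain ⟨x, hx⟩ := exists_prime_orderOf_dvd_card' (G := alternatingGroup (Fin p)) p
    (((Nat.coprime_primes hp Nat.prime_two).2 (by omega)).dvd_of_dvd_mul_left (hc ▸ dvd_mul_right _ _))
  obtain ⟨y, hy, hxy⟩ : ∃ y : alternatingGroup (Fin p), orderOf y = p ∧ y ∉ zpowers x := by
    by_contra! H
    haveI := alternatingGroup.isSimpleGroup (α := Fin p) (by simpa using h1)
    have : (zpowers x).Normal := ⟨fun _ ⟨k, hk⟩ g => by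
      rw [← hk, ← conj_zpow]
      exact zpow_mem (H _ ((MulAut.conj g |>.orderOf_eq x).trans hx)) k⟩
    have h4 := Nat.card_zpowers x
    rcases this.eq_bot_or_eq_top with h | h
    · rw [h, card_bot] at h4; omega
    · rw [h, card_top, hx] at h4
      rw [h4, mul_comm, Nat.mul_right_inj hp.ne_zero] at hc
      have := Nat.le_mul_of_pos_right (p - 1) (p - 2).factorial_pos
      omega
  classical
  let e := Fin.castLEEmb h2.le
  let φ := Perm.extendDomainHom (Equiv.ofInjective e e.injective)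
  have hφ : Function.Injective φ := Perm.extendDomainHom_injective _
  let f : alternatingGroup (Fin p) →* alternatingGroup (Fin n) :=
    (φ.comp (alternatingGroup _).subtype).codRestrict _ fun z =>
      Perm.mem_alternatingGroup.2 ((Perm.sign_extendDomain z.1 _).trans z.2)
  have hf : Function.Injective f := fun a b h => Subtype.ext (hφ (congrArg Subtype.val h))
  have hs : ∀ z : alternatingGroup (Fin p), orderOf z = p → ∀ a, a ∈ (f z).1.support ↔ a.1 < p := fun z hz a => by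
    have h4 : orderOf z.1 = p := (Subgroup.orderOf_coe z).trans hz
    have h5 : z.1.support = Finset.univ := Finset.eq_univ_of_card _ (by
      rw [← (Perm.isCycle_of_prime_order'' (by simpa using hp) (by simpa using h4)).orderOf, h4]; simp)
    change a ∈ (z.1.extendDomain _).support ↔ _
    rw [Perm.support_extend_domain, h5]
    simp only [Finset.mem_map, Finset.mem_univ, true_and]
    exact ⟨fun ⟨b, hb⟩ => hb ▸ b.2, fun h => ⟨⟨a, h⟩, rfl⟩⟩
  refine ⟨f x, f y, by rw [orderOf_injective f hf, hx], by rw [orderOf_injective f hf, hy], fun ⟨k, hk⟩ =>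
    hxy ⟨k, hf (by rw [← hk, map_zpow])⟩,
    { carrier := {g | ∀ a, (g a).1 < p ↔ a.1 < p}
      one_mem' := fun _ => Iff.rfl
      mul_mem' := fun ha hb c => (ha _).trans (hb c)
      inv_mem' := fun {g} hg c => by simpa using (hg (g⁻¹ c)).symm }, fun h => ?_,
    fun g hg a => by rw [← hs x hx, ← hs x hx, Perm.mem_support_iff_of_commute hg],
    fun g hg a => by rw [← hs y hy, ← hs y hy, Perm.mem_support_iff_of_commute hg]⟩
  obtain ⟨g, hg⟩ := (alternatingGroup.isPretransitive_of_three_le_card (Fin n) (by simp; omega)).exists_smul_eq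
    ⟨0, by omega⟩ ⟨p, h2⟩
  have := (h g.2 ⟨0, by omega⟩).2 hp.pos
  rw [show g.1 ⟨0, by omega⟩ = ⟨p, h2⟩ from hg] at this
  exact lt_irrefl _ this

/-- A cover of a group is a finite set of proper subgroups whose union is the whole group; it is minimal when no cover has fewer members, and nilpotent when all its members are nilpotent. The alternating groups of degree at least 5 and the symmetric groups of degree at least 4 have no nilpotent minimal cover. -/
theorem result (n : ℕ) :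
    (5 ≤ n → ¬ ∃ 𝓐 : Finset (Subgroup ↥(alternatingGroup (Fin n))), ((∀ A ∈ 𝓐, A ≠ ⊤) ∧ (∀ g : ↥(alternatingGroup (Fin n)), ∃ A ∈ 𝓐, g ∈ A)) ∧ (∀ 𝓑 : Finset (Subgroup ↥(alternatingGroup (Fin n))), (∀ A ∈ 𝓑, A ≠ ⊤) ∧ (∀ g : ↥(alternatingGroup (Fin n)), ∃ A ∈ 𝓑, g ∈ A) → 𝓐.card ≤ 𝓑.card) ∧ (∀ A ∈ 𝓐, Group.IsNilpotent ↥A)) ∧
    (4 ≤ n → ¬ ∃ 𝓐 : Finset (Subgroup (Equiv.Perm (Fin n))), ((∀ A ∈ 𝓐, A ≠ ⊤) ∧ (∀ g : (Equiv.Perm (Fin n)), ∃ A ∈ 𝓐, g ∈ A)) ∧ (∀ 𝓑 : Finset (Subgroup (Equiv.Perm (Fin n))), (∀ A ∈ 𝓑, A ≠ ⊤) ∧ (∀ g : (Equiv.Perm (Fin n)), ∃ A ∈ 𝓑, g ∈ A) → 𝓐.card ≤ 𝓑.card) ∧ (∀ A ∈ 𝓐, Group.IsNilpotent ↥A)) := by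
  refine ⟨fun hn => ?_, fun hn => ?_⟩
  · rcases hn.eq_or_lt with rfl | hn
    · refine no_cover Nat.prime_three (by rw [nat_card_alternatingGroup]; simp [Nat.factorial])
        (x := ⟨swap 0 1 * swap 1 2, Perm.mem_alternatingGroup.2 (by decide)⟩)
        (y := ⟨swap 0 1 * swap 1 3, Perm.mem_alternatingGroup.2 (by decide)⟩)
        (orderOf_eq_prime (by decide) (by decide)) (orderOf_eq_prime (by decide) (by decide))
        (nm (by decide))
        (M := MulAction.stabilizer _ (4 : Fin 5)) (fun h => absurd (show (swap 0 1 * swap 1 4 : Perm (Fin 5)) 4 = 4 from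
          h.ge (mem_top ⟨swap 0 1 * swap 1 4, Perm.mem_alternatingGroup.2 (by decide)⟩)) (by decide)) (fun g hg => ?_) fun g hg => ?_
      · exact (by decide +kernel : ∀ g : Perm (Fin 5), Perm.sign g = 1 →
          g * (swap 0 1 * swap 1 2) = swap 0 1 * swap 1 2 * g → g 4 = 4) g.1 g.2 (congrArg Subtype.val hg)
      · exact (by decide +kernel : ∀ g : Perm (Fin 5), Perm.sign g = 1 →
          g * (swap 0 1 * swap 1 3) = swap 0 1 * swap 1 3 * g → g 4 = 4) g.1 g.2 (congrArg Subtype.val hg)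
    obtain ⟨p, hp, h1, x, y, hx, hy, hxy, M, hM, h2, h3⟩ := big hn
    refine no_cover hp (fun h => h1 (h.trans ?_)) hx hy hxy (M := M.subgroupOf _) (mt subgroupOf_eq_top.1 hM)
      (fun g hg => h2 g (congrArg Subtype.val hg)) fun g hg => h3 g (congrArg Subtype.val hg)
    simpa [Fintype.card_perm] using card_subgroup_dvd_card (alternatingGroup (Fin n))
  · rcases hn.eq_or_lt with rfl | hn
    · exact no_cover Nat.prime_three (by rw [Nat.card_perm]; simp [Nat.factorial])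
        (x := swap 0 1 * swap 1 2) (y := swap 0 1 * swap 1 3)
        (orderOf_eq_prime (by decide) (by decide)) (orderOf_eq_prime (by decide) (by decide))
        (nm (by decide))
        (M := alternatingGroup _) (fun h => absurd (Perm.mem_alternatingGroup.1 (h.ge (mem_top (swap 0 1)))) (by decide))
        (by simp only [Commute, SemiconjBy, Perm.mem_alternatingGroup]; decide +kernel)
        (by simp only [Commute, SemiconjBy, Perm.mem_alternatingGroup]; decide +kernel)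
    rcases (Nat.succ_le_of_lt hn).eq_or_lt with rfl | hn
    · haveI := Fact.mk Nat.prime_five
      exact no_cover Nat.prime_five (by rw [Nat.card_perm]; simp [Nat.factorial])
        (x := swap 0 1 * swap 1 2 * swap 2 3 * swap 3 4) (y := swap 0 1 * swap 1 2 * swap 2 4 * swap 4 3)
        (orderOf_eq_prime (by decide) (by decide)) (orderOf_eq_prime (by decide) (by decide))
        (nm (by decide))
        (M := alternatingGroup _) (fun h => absurd (Perm.mem_alternatingGroup.1 (h.ge (mem_top (swap 0 1)))) (by decide))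
        (by simp only [Commute, SemiconjBy, Perm.mem_alternatingGroup]; decide +kernel)
        (by simp only [Commute, SemiconjBy, Perm.mem_alternatingGroup]; decide +kernel)
    obtain ⟨p, hp, h1, x, y, hx, hy, hxy, M, hM, h2, h3⟩ := big hn
    exact no_cover hp (by simpa [Fintype.card_perm] using h1) ((Subgroup.orderOf_coe x).trans hx)
      ((Subgroup.orderOf_coe y).trans hy) (fun ⟨k, hk⟩ => hxy ⟨k, Subtype.ext hk⟩) (M := M) (fun h => hM (h ▸ le_top)) h2 h3

end Cfsg.Agent.S3892
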