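import Cfsg.Statements.S3893
import Cfsg.Agent.Lib.BN.SzSubgroups

set_option autoImplicit false
open Cfsg

namespace Cfsg.Agent.S3893

open Cfsg.Lib.BN.Sz Cfsg.Lib.BN MulAction

theorem exists_central {G : Type*} [Group G] {A : Subgroup G} (hA : Group.IsNilpotent A) {g : G} (hg : g ∈ A)
    (h1 : g ≠ 1) : ∃ z, z ≠ 1 ∧ z * g = g * z ∧ ∀ a ∈ A, a * z = z * a := by
  have : Nontrivial A := ⟨⟨⟨g, hg⟩, 1, fun e => h1 (congrArg Subtype.val e)⟩⟩
  have h := Group.IsNilpotent.center_ne_bot A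
  obtain ⟨⟨⟨z, hzA⟩, hz⟩, hz1⟩ := Subgroup.ne_bot_iff_exists_ne_one.1 h
  have h2 : ∀ a ∈ A, a * z = z * a := fun a ha => congrArg Subtype.val (Subgroup.mem_center_iff.1 hz ⟨a, ha⟩)
  exact ⟨z, fun e => hz1 (Subtype.ext (Subtype.ext e)), (h2 g hg).symm, h2⟩

/-- A cover of a group is a finite set of proper subgroups whose union is the whole group; it is minimal when no cover has fewer members, and nilpotent when all its members are nilpotent. The Suzuki groups Sz(q), q = 2^(2m+1) with m ≥ 1, have no nilpotent minimal cover. -/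
theorem result {F : Type*} [Field F] [Fintype F] (m : ℕ) (hm : 1 ≤ m) (hF : Fintype.card F = 2 ^ (2 * m + 1)) :
    ¬ ∃ 𝓐 : Finset (Subgroup ↥(Cfsg.Lie.Sz F (2 ^ (m + 1)))), ((∀ A ∈ 𝓐, A ≠ ⊤) ∧ (∀ g : ↥(Cfsg.Lie.Sz F (2 ^ (m + 1))), ∃ A ∈ 𝓐, g ∈ A)) ∧ (∀ 𝓑 : Finset (Subgroup ↥(Cfsg.Lie.Sz F (2 ^ (m + 1)))), (∀ A ∈ 𝓑, A ≠ ⊤) ∧ (∀ g : ↥(Cfsg.Lie.Sz F (2 ^ (m + 1))), ∃ A ∈ 𝓑, g ∈ A) → 𝓐.card ≤ 𝓑.card) ∧ (∀ A ∈ 𝓐, Group.IsNilpotent ↥A) := by
  classical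
  have hsz := szField_of_card hm hF
  rintro ⟨𝓐, ⟨h1, h2⟩, h3, h4⟩
  let e := szEquiv (F := F) m
  let B' := (B F m).comap e.symm.toMonoidHom
  have hB : B' ≠ ⊤ := fun h => w_not_mem_B (F := F) m (by
    have : e (w F m) ∈ B' := h ▸ Subgroup.mem_top _
    simpa [B'] using this)
  let φ : Subgroup (Lie.Sz F (2 ^ (m + 1))) → Subgroup (Lie.Sz F (2 ^ (m + 1))) := fun A => if A ≤ B' then B' else A
  have h5 := h3 (𝓐.image φ) ⟨by
    simp only [Finset.mem_image]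
    rintro _ ⟨A, hA, rfl⟩
    simp only [φ]
    split_ifs
    exacts [hB, h1 A hA], fun g => by
    obtain ⟨A, hA, hg⟩ := h2 g
    refine ⟨φ A, Finset.mem_image_of_mem _ hA, ?_⟩
    simp only [φ]
    split_ifs with h
    exacts [h hg, hg]⟩
  have h6 := Finset.card_image_iff.1 (le_antisymm Finset.card_image_le h5)
  obtain ⟨k, hk⟩ := exists_D_ne_one (F := F) m
  have hU : U m 0 (1 : F) ≠ 1 := by simp [U_eq_one_iff]
  obtain ⟨A₁, hA₁, hg₁⟩ := h2 (e (U m 0 1))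
  obtain ⟨A₂, hA₂, hg₂⟩ := h2 (e (D m k))
  obtain ⟨z₁, a1, a2, a3⟩ := exists_central (h4 _ hA₁) hg₁ (by simpa using hU)
  obtain ⟨z₂, b1, b2, b3⟩ := exists_central (h4 _ hA₂) hg₂ (by simpa using hk)
  have c1 : ∀ a ∈ A₁, e.symm a ∈ Q F m := fun a ha =>
    mem_Q_of_comm m (mem_Q_of_comm m (g := e.symm z₁) (U_mem_Q m 0 1) hU (by simpa using congrArg e.symm a2))
      (by simpa using a1) (by simpa using congrArg e.symm (a3 a ha))
  have c2 : ∀ a ∈ A₂, e.symm a ∈ H F m := fun a ha =>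
    mem_H_of_comm m (mem_H_of_comm m (g := e.symm z₂) (D_mem_H m k) hk (by simpa using congrArg e.symm b2))
      (by simpa using b1) (by simpa using congrArg e.symm (b3 a ha))
  have h7 : A₁ = A₂ := h6 hA₁ hA₂ (by
    simp only [φ]
    rw [if_pos (show A₁ ≤ B' from fun a ha => Q_le_B m (c1 a ha)),
      if_pos (show A₂ ≤ B' from fun a ha => H_le_B m (c2 a ha))])
  subst h7
  have h8 := c1 _ hg₂
  rw [e.symm_apply_apply] at h8
  exact pt_ne_inf m 0 0 (eq_inf_of_mem_Q m h8 hk (D_smul_zero m k))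

end Cfsg.Agent.S3893
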