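import Cfsg.Statements.S3894
import Cfsg.Agent.Lib.Linear.PGL2Inv
import Cfsg.Agent.Lib.Linear.PUnip
import Cfsg.Agent.Lib.Core.Nilpotent

set_option autoImplicit false
open Cfsg

namespace Cfsg.Agent.S3894

open Cfsg.Lib Cfsg.Lib.Linear Matrix MulAction Subgroup Cfsg.Lib.Linear.PL
open scoped LinearAlgebra.Projectivization
attribute [-simp] Nat.card_eq_fintype_card

theorem nil_fix {G Γ X : Type*} [Group G] [Group Γ] [MulAction Γ X] (φ : G →* Γ) {A : Subgroup G}
    (hA : Group.IsNilpotent A) {S : Set X} (hS : ∀ a ∈ A, ∀ y ∈ S, φ a • y ∈ S) {u : G} (hu : u ∈ A) {x : X}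
    (hx : x ∈ S) (h : ∀ y ∈ S, φ u • y = y ↔ y = x) : A ≤ (stabilizer Γ x).comap φ := by
  have := normalizerCondition_iff_only_full_group_self_normalizing.mp (Group.normalizerCondition_of_isNilpotent (G := A))
    (((stabilizer Γ x).comap φ).subgroupOf A) (le_antisymm (fun g hg => by
      have h1 := (mem_normalizer_iff''.mp hg ⟨u, hu⟩).mp ((h x hx).mpr rfl)
      refine (h _ (hS g g.2 x hx)).mp ?_
      change φ (g.1⁻¹ * u * g) • x = x at h1
      rwa [map_mul, map_mul, map_inv, mul_smul, mul_smul, inv_smul_eq_iff] at h1) le_normalizer)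
  exact subgroupOf_eq_top.mp this

/-- A nilpotent minimal cover. -/
structure Cov {G : Type*} [Group G] (𝓐 : Finset (Subgroup G)) : Prop where
  ne : ∀ A ∈ 𝓐, A ≠ ⊤
  mem : ∀ g : G, ∃ A ∈ 𝓐, g ∈ A
  min : ∀ 𝓑 : Finset (Subgroup G), (∀ A ∈ 𝓑, A ≠ ⊤) ∧ (∀ g : G, ∃ A ∈ 𝓑, g ∈ A) → 𝓐.card ≤ 𝓑.card
  nil : ∀ A ∈ 𝓐, Group.IsNilpotent A

theorem Cov.eq {G : Type*} [Group G] {𝓐 : Finset (Subgroup G)} (h : Cov 𝓐) {A B P : Subgroup G} (hA : A ∈ 𝓐)
    (hB : B ∈ 𝓐) (hP : P ≠ ⊤) (h1 : A ≤ P) (h2 : B ≤ P) : A = B := by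
  classical
  by_contra hne
  have h3 := h.min (insert P ((𝓐.erase A).erase B)) ⟨fun C hC => (Finset.mem_insert.mp hC).elim (· ▸ hP)
    fun hC => h.ne C (Finset.mem_of_mem_erase (Finset.mem_of_mem_erase hC)), fun g => by
      obtain ⟨C, hC, hg⟩ := h.mem g
      by_cases h4 : C = A ∨ C = B
      · exact ⟨P, Finset.mem_insert_self _ _, h4.elim (fun h => h1 (h ▸ hg)) fun h => h2 (h ▸ hg)⟩
      · exact ⟨C, by simp_all, hg⟩⟩
  have h4 : B ∈ 𝓐.erase A := by simp [hB, Ne.symm hne]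
  have := Finset.card_insert_le P ((𝓐.erase A).erase B)
  have := Finset.card_erase_add_one h4
  have := Finset.card_erase_add_one hA
  omega

variable {F : Type*} [Field F]

section
variable {ι : Type*} [Fintype ι] [DecidableEq ι]

theorem fix_iff {M : GL ι F} {v : ι → F} (hv : v ≠ 0) :
    ProjGenLinGroup.mk M • Projectivization.mk F v hv = .mk F v hv ↔ ∃ c : F, (M : Matrix ι ι F) *ᵥ v = c • v := by
  rw [Projectivization.PGL.mk_smul_mk, Projectivization.mk_eq_mk_iff']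
  exact exists_congr fun c => eq_comm

theorem fix_unique {M : GL ι F} (hM : ∀ c : F, c ≠ 1 → ((M : Matrix ι ι F) - c • 1).det ≠ 0) {w : ι → F} (hw : w ≠ 0)
    (h : ∀ v, (M : Matrix ι ι F) *ᵥ v = v ↔ ∃ c : F, c • w = v) (y : ℙ F (ι → F)) :
    ProjGenLinGroup.mk M • y = y ↔ y = .mk F w hw := by
  induction y using Projectivization.ind with | _ v hv =>
  rw [fix_iff, Projectivization.mk_eq_mk_iff', ← h]
  refine ⟨fun ⟨c, hc⟩ => ?_, fun h => ⟨1, by simpa⟩⟩
  by_cases h1 : c = 1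
  · simpa [h1] using hc
  · exact absurd (exists_mulVec_eq_zero_iff.mp ⟨v, hv, by simp [sub_mulVec, hc, smul_mulVec]⟩) (hM c h1)

/-- The inverse transpose map. -/
def invT : ProjGenLinGroup ι F →* ProjGenLinGroup ι F :=
  ProjGenLinGroup.lift (ProjGenLinGroup.mk.comp (MonoidHom.mk' (fun g : GL ι F =>
    (⟨(g⁻¹).1ᵀ, g.1ᵀ, by simp [← transpose_mul], by simp [← transpose_mul]⟩ : GL ι F))
    fun g h => Units.ext (by simp))) (MonoidHom.ext fun u => (congrArg ProjGenLinGroup.mk (Units.ext (by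
      change ((GeneralLinearGroup.scalar ι u)⁻¹).1ᵀ = _
      rw [← map_inv]; simp [GeneralLinearGroup.scalar]))).trans (ProjGenLinGroup.mk_scalar u⁻¹))

theorem invT_mk (g : SpecialLinearGroup ι F) :
    invT (SpecialLinearGroup.toPGL g) = (SpecialLinearGroup.toPGL g.transpose)⁻¹ := by
  rw [← map_inv]
  refine congrArg ProjGenLinGroup.mk (Units.ext ?_)
  change ((SpecialLinearGroup.toGL g)⁻¹).1ᵀ = adjugate g.1ᵀ
  rw [← map_inv, ← adjugate_transpose]; rfl

end

theorem large {n : ℕ} (G : Subgroup (ProjGenLinGroup (Fin (n + 3)) F)) (hG : ∀ g, SpecialLinearGroup.toPGL g ∈ G)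
    {𝓐 : Finset (Subgroup G)} (h : Cov 𝓐) : False := by
  let N : Matrix (Fin (n + 3)) (Fin (n + 3)) F := of fun i j => if j.1 = i.1 + 1 then 1 else 0
  have hM : ∀ c : F, (1 + N - c • 1).det = (1 - c) ^ (n + 3) := fun c => by
    rw [det_of_isUpperTriangular]
    · simp [N]
    · intro i j hij
      replace hij : j < i := hij
      simp [N, one_apply, hij.ne', show j.1 ≠ i.1 + 1 by have : j.1 < i.1 := hij; omega]
  have hM' : ∀ c : F, c ≠ 1 → (1 + N - c • 1).det ≠ 0 := fun c hc => hM c ▸ pow_ne_zero _ (sub_ne_zero.mpr hc.symm)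
  let J : SpecialLinearGroup (Fin (n + 3)) F := ⟨1 + N, by simpa using hM 0⟩
  have h1 := fix_unique (M := J.toGL) hM' (w := Pi.single 0 1) (by simp) fun v => by
    change (1 + N) *ᵥ v = v ↔ _
    rw [add_mulVec, one_mulVec, add_eq_left]
    constructor
    · refine fun h => ⟨v 0, funext fun i => Fin.cases (by simp) (fun i => ?_) i⟩
      have : ∀ j : Fin (n + 3), j.1 = i.1 + 1 ↔ j = i.succ := fun j => by simp [Fin.ext_iff]
      simpa [mulVec, dotProduct, N, this] using (congrFun h i.castSucc).symm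
    · rintro ⟨c, rfl⟩
      ext i; simp [N, mulVec_smul]
  have h2 := fix_unique (M := J.transpose.toGL) (fun c hc => by
      have := hM' c hc
      rwa [← det_transpose, transpose_sub, transpose_smul, transpose_one] at this)
    (w := Pi.single (Fin.last _) 1) (by simp) fun v => by
    change (1 + N)ᵀ *ᵥ v = v ↔ _
    rw [transpose_add, transpose_one, add_mulVec, one_mulVec, add_eq_left]
    constructor
    · refine fun h => ⟨v (Fin.last _), funext fun i => Fin.lastCases (by simp) (fun i => ?_) i⟩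
      have : ∀ j : Fin (n + 3), i.1 = j.1 ↔ j = i.castSucc := fun j => by simp [Fin.ext_iff, eq_comm]
      simpa [mulVec, dotProduct, N, this, Fin.castSucc_ne_last] using (congrFun h i.succ).symm
    · rintro ⟨c, rfl⟩
      ext i; simp [N, mulVec_smul, show i.1 ≠ n + 2 + 1 from i.2.ne]
  have h10 : (1 : Fin (n + 3)) ≠ 0 := by simp
  have h1l : Fin.last (n + 2) ≠ 1 := by simp [Fin.ext_iff]
  let P := SpecialLinearGroup.transvection h1l (1 : F)
  obtain ⟨A, hA, hA'⟩ := h.mem ⟨_, hG J⟩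
  obtain ⟨B, hB, hB'⟩ := h.mem ⟨_, hG (P * J * P⁻¹)⟩
  have h3 := nil_fix G.subtype (h.nil A hA) (S := Set.univ) (by simp) hA' trivial fun y _ => h1 y
  have h4 := nil_fix G.subtype (h.nil B hB) (S := Set.univ) (by simp) hB'
    (x := Projectivization.mk F (Pi.single (0 : Fin (n + 3)) (1 : F) : Fin (n + 3) → F) (by simp)) trivial fun y _ => by
      change SpecialLinearGroup.toPGL _ • y = y ↔ _
      rw [map_mul, map_mul, map_inv, mul_smul, mul_smul, ← eq_inv_smul_iff]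
      refine (h1 _).trans (inv_smul_eq_iff.trans (Eq.congr_right ((fix_iff (F := F) _).mpr ⟨1, ?_⟩)))
      ext i; simp [P, coe_transvection_eq, vecMulVec_apply, one_apply, Pi.single_apply]
  obtain rfl := h.eq hA hB (fun h => by
    obtain ⟨c, hc⟩ := (fix_iff _).mp (h.ge (mem_top ⟨_, hG (SpecialLinearGroup.transvection h10 1)⟩))
    simpa [coe_transvection_eq, vecMulVec_apply] using congrFun hc 1) h3 h4
  have h5 : ∀ y : ℙ F (Fin (n + 3) → F), invT (SpecialLinearGroup.toPGL J) • y = y ↔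
      y = .mk F (Pi.single (Fin.last _) 1) (by simp) := fun y => by
    rw [invT_mk, inv_smul_eq_iff]; exact eq_comm.trans (h2 y)
  have h6 := nil_fix (invT.comp G.subtype) (h.nil A hA) (S := Set.univ) (by simp) hA' trivial (fun y _ => h5 y) hB'
  change invT (SpecialLinearGroup.toPGL _) • _ = _ at h6
  rw [map_mul, map_mul, map_inv, map_mul, map_mul, map_inv, mul_smul, mul_smul, ← eq_inv_smul_iff, h5, invT_mk,
    inv_inv] at h6
  obtain ⟨c, hc⟩ := (fix_iff _).mp h6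
  simpa [P, coe_transvection_eq, vecMulVec_apply, h1l.symm] using congrFun hc 1

theorem sq_of_commute {t h : PGL2 F} {x y : PL F} (hxy : x ≠ y) (ht : t ≠ 1) (h1 : t • x = x) (h2 : t • y = y)
    (hc : Commute h t) (hh : ∀ z : PL F, h • z ≠ z) : h * h = 1 :=
  mul_self_of_swap hxy
    ((fixed_eq_or_eq ht hxy h1 h2 (by rw [← mul_smul, ← hc.eq, mul_smul, h1])).resolve_left (hh x))
    ((fixed_eq_or_eq ht hxy h1 h2 (by rw [← mul_smul, ← hc.eq, mul_smul, h2])).resolve_right (hh y))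

theorem pow_fix {s h : PGL2 F} (h1 : ∀ z : PL F, s • z ≠ z) (hc : Commute s h) {x : PL F} (hx : h • x = x)
    (hh : h ≠ 1) : s * s = 1 :=
  sq_of_commute (h1 x).symm hh hx (by rw [← mul_smul, ← hc.eq, mul_smul, hx]) hc h1

variable [Finite F]

theorem card_dvd {T : Subgroup (PGL2 F)} (h : ∀ a ∈ T, ∀ x : PL F, a • x = x → a = 1) :
    Nat.card T ∣ Nat.card F + 1 := by
  simpa [card_PL] using card_dvd_ncard_of_semiregular T (Set.univ : Set (PL F)) (Set.toFinite _) (by simp)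
    fun a ha x _ => h a ha x

theorem exists_good (hF : 4 ≤ Nat.card F) {G : Subgroup (PGL2 F)} (hG : LL F ≤ G) {g : PGL2 F} (hg : g ∈ G)
    (h : ∀ z : PL F, g • z ≠ z) : ∃ s ∈ G, s * s ≠ 1 ∧ g ∈ zpowers s := by
  have : Finite (PGL2 F) := finite_PGL
  by_cases h1 : g * g = 1
  swap; · exact ⟨g, hg, h1, mem_zpowers g⟩
  have h3 : orderOf g = 2 := orderOf_eq_prime (by rwa [pow_two]) fun h2 => h inf (by simp [h2])
  have h2 : (2 : F) ≠ 0 := fun h2 => by
    have : CharP F 2 := (CharP.charP_iff_prime_eq_zero Nat.prime_two).mpr h2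
    obtain ⟨x, hx⟩ := pFix_of_finite (K := F) (p := 2) (zpowers g) inferInstance
      (IsPGroup.of_card (n := 1) (by simp [h3]))
    exact h x (hx (mem_zpowers g)).1
  have := isCyclic_tor h2 h3
  obtain ⟨s, hs⟩ := (tor g ⊓ G).isCyclic_iff_exists_zpowers_eq_top.mp (Subgroup.isCyclic_of_le inf_le_left)
  refine ⟨s, (hs.le (mem_zpowers s)).2, fun h4 => ?_, hs.ge ⟨self_mem_tor g, hg⟩⟩
  have h5 := card_dvd (T := tor g) fun a ha x hx => by
    by_contra h5
    have h6 := conj_eq_inv_of_swap (h x).symm rfl (by rw [← mul_smul, h1, one_smul]) hx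
      (by rw [← mul_smul, (commute_of_mem_tor ha).eq, mul_smul, hx])
    rw [← (commute_of_mem_tor ha).eq, mul_inv_cancel_right, eq_inv_iff_mul_eq_one] at h6
    exact h x ((eq_of_mem_tor h2 h3 ha h6).resolve_left h5 ▸ hx)
  have h6 : Nat.card ↥(LL F ⊓ tor g) ≤ 2 := (card_le_of_le (K := tor g ⊓ G) (le_inf inf_le_right (inf_le_left.trans hG))).trans (by
    rw [← hs, Nat.card_zpowers]; exact orderOf_le_of_pow_eq_one two_pos (by rwa [pow_two]))
  have h7 : (LL F).relIndex (tor g) ≤ 2 := by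
    have := relIndex_le_of_le_right (H := LL F) (K := tor g) le_top (by rw [relIndex_top_right, index_LL h2]; omega)
    rwa [relIndex_top_right, index_LL h2] at this
  have h8 := ((LL F).subgroupOf (tor g)).card_mul_index
  rw [← inf_subgroupOf_right, Nat.card_congr (subgroupOfEquivOfLe inf_le_right).toEquiv, inf_subgroupOf_right] at h8
  have h9 : Nat.card (tor g) ≤ 2 * 2 := h8.ge.trans (Nat.mul_le_mul h6 h7)
  obtain ⟨k, hk⟩ := odd_card_of_two_ne_zero h2
  rcases card_tor h2 h3 with h0 | h0 <;> rw [h0] at h5 h9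
  · rw [show Nat.card F = 5 by omega] at h5; omega
  · omega

theorem exists_split (hF : 4 ≤ Nat.card F) : ∃ t ∈ LL F, t ≠ 1 ∧ t • (inf : PL F) = inf ∧ t • pt (0 : F) = pt 0 ∧
    ∀ s : PGL2 F, orderOf s ∣ Nat.card F + 1 → s * s ≠ 1 →
      ∃ h ∈ zpowers s, h * h ≠ 1 ∧ (orderOf h).Coprime (orderOf t) := by
  have key : ∀ r, 3 ≤ r → r ∣ Nat.card F - 1 → ∃ t ∈ LL F, t ≠ 1 ∧ t • (inf : PL F) = inf ∧ t • pt (0 : F) = pt 0 ∧
      ∀ k, r ∣ 2 * k → orderOf t ∣ k := fun r h3 hr => by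
    obtain ⟨b, hb⟩ := IsCyclic.exists_ofOrder_eq_natCard (α := Fˣ)
    rw [Nat.card_units] at hb
    obtain ⟨b, hb⟩ : ∃ b : Fˣ, orderOf b = r := ⟨_, orderOf_pow_orderOf_div (by omega) (hb ▸ hr)⟩
    have h1 : ∀ k, aff ((b : F) ^ 2) 0 (by simp) ^ k = aff ((b : F) ^ (2 * k)) 0 (by simp) := fun k => by
      induction k with
      | zero => simp [aff_one_zero]
      | succ k ih => rw [pow_succ, ih, aff_mul, aff_inj]; simp [pow_add, mul_add]
    refine ⟨aff (b ^ 2) 0 (by simp), mat_mem_range_toPGL.mpr ⟨b, by ring⟩, fun h => ?_, aff_smul_inf .., by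
      simp [aff_smul_pt], fun k hk => orderOf_dvd_of_pow_eq_one (by
        rw [h1, aff_eq_one_iff, ← Units.val_pow_eq_pow_val, orderOf_dvd_iff_pow_eq_one.mp (hb ▸ hk)]; simp)⟩
    have := Nat.le_of_dvd two_pos (orderOf_dvd_of_pow_eq_one (x := b) (Units.ext (by simpa using (aff_eq_one_iff.mp h).1)))
    omega
  rcases Nat.eq_two_pow_or_exists_odd_prime_and_dvd (Nat.card F - 1) with ⟨k, hk⟩ | ⟨r, hr, h1, h2⟩
  · obtain ⟨j, rfl⟩ : ∃ j, k = j + 2 := ⟨k - 2, by rcases k with _ | _ | k <;> simp at hk ⊢ <;> omega⟩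
    obtain ⟨t, a1, a2, a3, a4, a5⟩ := key 4 (by omega) (by rw [hk, pow_add]; exact dvd_mul_left _ _)
    refine ⟨t, a1, a2, a3, a4, fun s hs hs' => ?_⟩
    have h1 : orderOf (s ^ 2) ∣ 2 * 2 ^ j + 1 := orderOf_dvd_of_pow_eq_one (by
      rw [← pow_mul, ← orderOf_dvd_iff_pow_eq_one]; convert hs using 1; rw [pow_add] at hk; omega)
    have h2 : (orderOf (s ^ 2)).Coprime 2 := Nat.Coprime.coprime_dvd_left h1 (by simp)
    exact ⟨s ^ 2, pow_mem (mem_zpowers s) 2, fun h => hs' (by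
      rw [← pow_two, ← orderOf_eq_one_iff, h2.eq_one_of_dvd (orderOf_dvd_of_pow_eq_one (by rwa [pow_two]))]),
      h2.coprime_dvd_right (a5 2 dvd_rfl)⟩
  · have h3 : 3 ≤ r := by have := hr.two_le; obtain ⟨k, hk⟩ := h2; omega
    obtain ⟨t, a1, a2, a3, a4, a5⟩ := key r h3 h1
    refine ⟨t, a1, a2, a3, a4, fun s hs hs' => ⟨s, mem_zpowers s, hs', Nat.Coprime.coprime_dvd_left hs
      (Nat.Coprime.coprime_dvd_right (a5 r (dvd_mul_left _ _)) (((Nat.Prime.coprime_iff_not_dvd hr).mpr fun h => ?_).symm))⟩⟩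
    have := Nat.le_of_dvd two_pos (by convert Nat.dvd_sub h h1 using 1; omega : r ∣ 2)
    omega

theorem small (hF : 4 ≤ Nat.card F) (G : Subgroup (PGL2 F)) (hG : LL F ≤ G) {𝓐 : Finset (Subgroup G)}
    (h : Cov 𝓐) : False := by
  classical
  have := Fintype.ofFinite (PL F)
  have : Finite (PGL2 F) := finite_PGL
  have hu : ∀ x : PL F, ∃ u ∈ LL F, ∀ y, u • y = y ↔ y = x := fun x => by
    obtain ⟨g, rfl⟩ := exists_smul_inf_eq x
    refine ⟨g * aff 1 1 one_ne_zero * g⁻¹, ?_, fun y => ?_⟩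
    · induction g using ProjGenLinGroup.induction_on with | _ g =>
      exact (pk_mem_LL (g := g * glMat 1 1 0 1 (by simp) * g⁻¹)).mpr ⟨1, by
        rw [Units.val_mul, Units.val_mul, det_mul, det_mul, mul_right_comm, ← det_mul, Units.mul_inv]; simp⟩
    · rw [mul_smul, mul_smul, ← eq_inv_smul_iff, ← inv_smul_eq_iff (g := g)]
      exact ⟨eq_of_mem_unip (aff_mem_unip_inf.mpr rfl) (by simp [aff_eq_one_iff]), fun h => h ▸ aff_smul_inf ..⟩
  choose u hu hu' using hu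
  choose A hA hA' using fun x => h.mem ⟨u x, hG (hu x)⟩
  let B : PL F → Subgroup G := fun x => (stabilizer _ x).comap G.subtype
  have h1 : ∀ x, A x ≤ B x := fun x =>
    nil_fix G.subtype (h.nil _ (hA x)) (S := Set.univ) (by simp) (hA' x) trivial fun y _ => hu' x y
  have h2 : ∀ x, B x ≠ ⊤ := fun x hx => by
    obtain ⟨y, hy, -⟩ := exists_ne_ne x x
    exact hy ((hu' y x).mp (hx.ge (mem_top ⟨u y, hG (hu y)⟩)))
  obtain ⟨t, ht, a2, a3, a4, a5⟩ := exists_split hF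
  obtain ⟨C, hC, hC'⟩ := h.mem ⟨t, hG ht⟩
  have h3 : ∀ z, C ≠ A z := fun z hz => by
    have : ∀ y ≠ z, t • y = y → False := fun y hy hy' => hy ((hu' z y).mp (nil_fix G.subtype (h.nil _ (hA z))
      (S := {z}ᶜ) (fun a ha w hw h => hw (by rwa [Set.mem_singleton_iff, ← show a.1 • z = z from h1 z ha,
        subtype_apply, smul_left_cancel_iff] at h)) (hz ▸ hC') hy (fun w hw => ⟨fun h =>
          (fixed_eq_or_eq a2 hy hy' (h1 z (hz ▸ hC')) h).resolve_right hw, fun h => h ▸ hy'⟩) (hA' z)))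
    by_cases h4 : z = inf
    · exact this (pt 0) (h4 ▸ pt_ne_inf 0) a4
    · exact this inf (Ne.symm h4) a3
  have h4 := h.min (Finset.univ.image B ∪ (𝓐 \ Finset.univ.image A).erase C) ⟨fun D hD => by
      rcases Finset.mem_union.mp hD with hD | hD
      · obtain ⟨x, -, rfl⟩ := Finset.mem_image.mp hD; exact h2 x
      · exact h.ne D (Finset.mem_sdiff.mp (Finset.mem_of_mem_erase hD)).1, fun g => by
      by_cases hg : ∃ x : PL F, g.1 • x = x
      · obtain ⟨x, hx⟩ := hg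
        exact ⟨B x, by simp, hx⟩
      push Not at hg
      obtain ⟨s, hs, h4, h5⟩ := exists_good hF hG g.2 hg
      have h6 : ∀ z : PL F, s • z ≠ z := fun z hz => hg z (zpowers_le.mpr (show s ∈ stabilizer _ z from hz) h5)
      have h7 : ∀ a ∈ zpowers s, ∀ x : PL F, a • x = x → a = 1 := by
        rintro _ ⟨k, rfl⟩ x hx
        by_contra h7; exact h4 (pow_fix h6 (Commute.self_zpow s k) hx h7)
      obtain ⟨D, hD, hD'⟩ := h.mem ⟨s, hs⟩
      have h8 : ∀ a ∈ zpowers s, ∃ ha, ⟨a, ha⟩ ∈ D := by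
        rintro _ ⟨k, rfl⟩; exact ⟨zpow_mem hs k, zpow_mem hD' k⟩
      refine ⟨D, Finset.mem_union_right _ (Finset.mem_erase.mpr ⟨?_, Finset.mem_sdiff.mpr ⟨hD, fun h9 => ?_⟩⟩),
        (h8 _ h5).2⟩
      · rintro rfl
        obtain ⟨k, b1, b2, b3⟩ := a5 s (Nat.card_zpowers s ▸ card_dvd h7) h4
        obtain ⟨b4, b5⟩ := h8 k b1
        have := h.nil D hD
        have h9 := Core.le_centralizer_of_coprime_of_le_nilpotent (zpowers_le.mpr b5) (zpowers_le.mpr hC')
          (by simpa using b3) (mem_zpowers _) _ (mem_zpowers _)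
        exact b2 (sq_of_commute (inf_ne_pt 0) a2 a3 a4 (congrArg Subtype.val h9).symm
          fun z hz => b2 (by rw [h7 k b1 z hz, one_mul]))
      · obtain ⟨x, -, rfl⟩ := Finset.mem_image.mp h9
        exact h6 x (h1 x hD')⟩
  have h5 := Finset.card_union_le (Finset.univ.image B) ((𝓐 \ Finset.univ.image A).erase C)
  have h6 := Finset.card_erase_add_one (s := 𝓐 \ Finset.univ.image A) (a := C) (by simp [hC, fun z => (h3 z).symm])
  have h7 := Finset.card_sdiff_add_card_eq_card (s := Finset.univ.image A) (t := 𝓐) (by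
    intro D hD; obtain ⟨x, -, rfl⟩ := Finset.mem_image.mp hD; exact hA x)
  have h8 := Finset.card_image_le (s := Finset.univ) (f := B)
  rw [Finset.card_image_of_injective _ fun x y hxy => ((hu' x y).mp (h1 y (hxy ▸ hA' x))).symm] at h7
  omega

/-- A cover of a group is a finite set of proper subgroups whose union is the whole group; it is minimal when no cover has fewer members, and nilpotent when all its members are nilpotent. Let F be a finite field with q elements and n ≥ 3, or n = 2 and q ≥ 4. Then no subgroup of PGL_n(F) = GL_n(F)/Z(GL_n(F)) containing the image of SL_n(F) has a nilpotent minimal cover. -/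
theorem result {F : Type*} [Field F] [Fintype F] (n : ℕ) (hn : 3 ≤ n ∨ (n = 2 ∧ 4 ≤ Fintype.card F))
    (G : Subgroup (GL (Fin n) F ⧸ Subgroup.center (GL (Fin n) F)))
    (hG : ((Matrix.SpecialLinearGroup.toGL : Matrix.SpecialLinearGroup (Fin n) F →* GL (Fin n) F).range).map
      (QuotientGroup.mk' (Subgroup.center (GL (Fin n) F))) ≤ G) :
    ¬ ∃ 𝓐 : Finset (Subgroup ↥G), ((∀ A ∈ 𝓐, A ≠ ⊤) ∧ (∀ g : ↥G, ∃ A ∈ 𝓐, g ∈ A)) ∧ (∀ 𝓑 : Finset (Subgroup ↥G), (∀ A ∈ 𝓑, A ≠ ⊤) ∧ (∀ g : ↥G, ∃ A ∈ 𝓑, g ∈ A) → 𝓐.card ≤ 𝓑.card) ∧ (∀ A ∈ 𝓐, Group.IsNilpotent ↥A) := by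
  rintro ⟨𝓐, ⟨h1, h2⟩, h3, h4⟩
  rcases hn with hn | ⟨rfl, hF⟩
  · obtain ⟨n, rfl⟩ : ∃ k, n = k + 3 := ⟨n - 3, by omega⟩
    exact large (𝓐 := 𝓐) G (fun g => hG ⟨_, ⟨g, rfl⟩, rfl⟩) (@Cov.mk _ (_) _ h1 h2 h3 h4)
  · refine small (Nat.card_eq_fintype_card (α := F) ▸ hF) G ?_ (𝓐 := 𝓐) (@Cov.mk _ (_) _ h1 h2 h3 h4)
    rintro _ ⟨g, rfl⟩
    obtain ⟨g, rfl⟩ := QuotientGroup.mk_surjective g
    exact hG ⟨_, ⟨g, rfl⟩, rfl⟩

end Cfsg.Agent.S3894
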