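import Cfsg.Statements.S3896
import Cfsg.Agent.Lib.GW.Half

set_option autoImplicit false
open Cfsg Cfsg.Lib Cfsg.Lib.GW

namespace Cfsg.Agent.S3896

/-- Let G be a finite group whose largest normal subgroup of odd order is trivial, let P be a Sylow 2-subgroup of G, and suppose the number of conjugacy classes of G consisting of 2-elements (elements of 2-power order, the identity included) is exactly |P|/2. Then G/Z(G) is isomorphic to the alternating or the symmetric group of degree 4, or G/Z(G) has a normal non-abelian simple subgroup with trivial centralizer that is isomorphic to PSL₂(q) for some prime power q > 3 with q ≡ 3 or 5 (mod 8). -/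
theorem result {G : Type*} [Group G] [Finite G] (P : Sylow 2 G) (hO : Cfsg.pPrimeCore 2 G = ⊥)
    (hk : 2 * Nat.card {c : ConjClasses G // ∀ x ∈ c.carrier, ∃ k : ℕ, orderOf x = 2 ^ k} = Nat.card ↥(P : Subgroup G)) :
    Nonempty (G ⧸ Subgroup.center G ≃* ↥(alternatingGroup (Fin 4))) ∨ Nonempty (G ⧸ Subgroup.center G ≃* Equiv.Perm (Fin 4)) ∨
    ∃ S : Subgroup (G ⧸ Subgroup.center G), S.Normal ∧ IsSimpleGroup ↥S ∧ ¬ IsMulCommutative ↥S ∧
      Subgroup.centralizer (S : Set (G ⧸ Subgroup.center G)) = ⊥ ∧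
      ∃ (F : Type) (_ : Field F) (_ : Fintype F), 3 < Fintype.card F ∧ (Fintype.card F % 8 = 3 ∨ Fintype.card F % 8 = 5) ∧
        Nonempty (↥S ≃* Matrix.ProjectiveSpecialLinearGroup (Fin 2) F) := by
  have h : Nat.card {c : ConjClasses G // ∀ x ∈ c.carrier, ∃ k : ℕ, orderOf x = 2 ^ k} = Half.ncl P.1 := by
    refine congrArg Set.ncard (Set.ext fun c => ⟨fun hc => ?_, ?_⟩ :
      {c : ConjClasses G | ∀ x ∈ c.carrier, ∃ k : ℕ, orderOf x = 2 ^ k} = _)
    · obtain ⟨x, rfl⟩ := c.exists_rep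
      obtain ⟨k, e⟩ := hc x ConjClasses.mem_carrier_mk
      obtain ⟨g, hg⟩ := Invol.exists_conj_mem_sylow P (e ▸ pow_orderOf_eq_one x)
      exact ⟨_, hg, ConjClasses.mk_eq_mk_iff_isConj.2 (Half.isConj_cj g x).symm⟩
    · rintro ⟨x, hx, rfl⟩ y hy
      obtain ⟨g, rfl⟩ := isConj_iff.1 (ConjClasses.mk_eq_mk_iff_isConj.1 (ConjClasses.mem_carrier_iff_mk_eq.1 hy)).symm
      obtain ⟨k, e⟩ := (Two.of_mem P.2 hx).conj g
      obtain ⟨l, -, e'⟩ := (Nat.dvd_prime_pow Nat.prime_two).1 (orderOf_dvd_of_pow_eq_one e)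
      exact ⟨l, e'⟩
  exact (Half.main P hO (h ▸ hk)).imp_right (Or.imp_right fun ⟨S, h1, h2, h3, h4, F, _, _, h5, h6, h7⟩ =>
    ⟨S, h1, h2, h3, h4, F, _, _, by omega, h5, h7⟩)

end Cfsg.Agent.S3896
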