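import Cfsg.Statements.S3897
import Cfsg.Agent.Lib.Hall.KPi2

set_option autoImplicit false
open Cfsg

namespace Cfsg.Agent.S3897

open scoped Pointwise commutatorElement
open Cfsg.Lib Cfsg.Lib.Hall

/-- Let p be an odd prime and G a finite group with Sylow p-subgroup P, and write k_p(G) for the number of conjugacy classes of G consisting of p-elements (elements of p-power order, the identity included). Then k_p(G) > (p + 1)|P|/(2p) if and only if G has a normal p-complement and P is abelian. -/
theorem result {G : Type*} [Group G] [Finite G] {p : ℕ} [Fact p.Prime] (hp : p ≠ 2) (P : Sylow p G) :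
    (p + 1) * Nat.card ↥(P : Subgroup G) < 2 * p * Nat.card {c : ConjClasses G // ∀ x ∈ c.carrier, ∃ k : ℕ, orderOf x = p ^ k} ↔
      Cfsg.HasNormalPComplement p G ∧ IsMulCommutative ↥(P : Subgroup G) := by
  have hpp : p.Prime := Fact.out
  rw [card_classes_pow hpp, Transfer.hasNormalPComplement_iff_top]
  constructor
  · intro h
    by_contra hn
    have h1 := two_mul_kOf_le_of_not_pnil hp (Transfer.sylowIn_top P) hn
    exact absurd (h.trans_le (Nat.mul_le_mul_left _ (kpi_singleton_le_kOf P))) (not_lt.mpr h1)
  · rintro ⟨h1, h2⟩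
    have h3 := card_conjClasses_le_kpi (Transfer.sylowIn_top P) h1
    have h4 : Nat.card (P : Subgroup G) ≤ Nat.card (ConjClasses (P : Subgroup G)) := by
      refine Nat.card_le_card_of_injective ConjClasses.mk (fun a b e => ?_)
      obtain ⟨g, rfl⟩ := isConj_iff.mp (ConjClasses.mk_eq_mk_iff_isConj.mp e)
      rw [h2.is_comm.comm g a, mul_inv_cancel_right]
    have h5 := hpp.two_le
    have h6 : 0 < Nat.card (P : Subgroup G) := Nat.card_pos
    nlinarith

end Cfsg.Agent.S3897
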