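import Cfsg.Statements.S3899
import Cfsg.Agent.Lib.Hall.KPi2

set_option autoImplicit false
open Cfsg

namespace Cfsg.Agent.S3899

open scoped Pointwise commutatorElement
open Cfsg.Lib Cfsg.Lib.Hall

/-- Let π be a finite non-empty set of odd primes with smallest member p and G a finite group. Write k_π(G) for the number of conjugacy classes of G consisting of π-elements (elements all of whose order's prime divisors lie in π) and |G|_π for the π-part of the order of G. If k_π(G) > (p + 1)|G|_π/(2p), then G has a normal π-complement (a normal subgroup of order prime to π whose index is a π-number) and an abelian Hall π-subgroup. -/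
theorem result {G : Type*} [Group G] [Finite G] (π : Finset ℕ) (hπ : ∀ r ∈ π, r.Prime) (h2 : 2 ∉ π) (p : ℕ) (hp : p ∈ π)
    (hmin : ∀ r ∈ π, p ≤ r) (hk : (p + 1) * π.prod (fun r => r ^ (Nat.card G).factorization r) < 2 * p * Nat.card {c : ConjClasses G // ∀ x ∈ c.carrier, ∀ r : ℕ, r.Prime → r ∣ orderOf x → r ∈ π}) :
    (∃ N : Subgroup G, N.Normal ∧ (∀ r : ℕ, r.Prime → r ∣ Nat.card ↥N → r ∉ π) ∧ ∀ r : ℕ, r.Prime → r ∣ N.index → r ∈ π) ∧ ∃ H : Subgroup G, Cfsg.IsPiHall (↑π : Set ℕ) H ∧ IsMulCommutative ↥H := by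
  replace hk : (p + 1) * pp π (Nat.card G) < 2 * p * kpi π G :=
    card_classes_carrier (G := G) (π : Set ℕ) ▸ hk
  have h3 : ∀ r ∈ π, 3 ≤ r := fun r hr => by
    have := (hπ r hr).two_le
    have : r ≠ 2 := fun e => h2 (e ▸ hr)
    omega
  have h4 := h3 p hp
  obtain ⟨H, hH, hc⟩ := exists_abelian_hall (G := G) (hπ p hp).pos hπ hmin (by
    obtain ⟨q, rfl⟩ := Nat.exists_eq_add_of_le h4
    rw [show (3 + q) ^ 2 + (3 + q) - 1 = (3 + q) ^ 2 + (2 + q) by omega]
    have h5 := Nat.mul_lt_mul_of_pos_left hk (show 0 < (3 + q) ^ 2 by positivity)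
    nlinarith [Nat.zero_le (q ^ 3 * pp π (Nat.card G)), Nat.zero_le (q ^ 2 * pp π (Nat.card G)),
      Nat.zero_le (q * pp π (Nat.card G))])
  refine ⟨exists_normal_compl_of_pnil hH (fun q _ hq => ?_), H, hH, hc⟩
  obtain ⟨Q, hQ⟩ := Transfer.exists_sylowIn (p := q) (⊤ : Subgroup G)
  have h5 := card_lt_of_pp_lt hπ hq hk hQ
  by_contra hn
  have h6 := two_mul_kOf_le_of_not_pnil (fun e => h2 (e ▸ hq)) hQ (fun h => hn h.1)
  obtain ⟨d, rfl⟩ := Nat.exists_eq_add_of_le (hmin q hq)
  have h7 := Nat.mul_lt_mul_of_pos_left h5 (show 0 < p + d by omega)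
  have h8 := Nat.mul_le_mul_left p h6
  nlinarith [Nat.zero_le (d * Nat.card Q)]

end Cfsg.Agent.S3899
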