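import Cfsg.Statements.S3903
import Cfsg.Agent.Lib.Hall.MaxNil
import Cfsg.Agent.Lib.Hall.ClassSize

set_option autoImplicit false
open Cfsg

namespace Cfsg.Agent.S3903

open scoped Pointwise commutatorElement
open Cfsg.Lib Cfsg.Lib.Hall

open Subgroup Cfsg.Lib.Transfer

theorem ncard_cover {G : Type*} [Group G] [Finite G] {X S : Set G} {m : ℕ}
    (h : ∀ x ∈ X, ∃ z ∈ S, IsConj z x) (hm : ∀ z ∈ S, cs z ≤ m) : X.ncard ≤ S.ncard * m := by
  classical
  have hS := S.toFinite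
  have h1 : X ⊆ ↑(hS.toFinset.biUnion fun z => ({y | IsConj z y} : Set G).toFinite.toFinset) := by
    intro x hx
    obtain ⟨z, hz, hc⟩ := h x hx
    simp only [Finset.coe_biUnion, Set.Finite.coe_toFinset, Set.mem_iUnion]
    exact ⟨z, hz, hc⟩
  refine (Set.ncard_le_ncard h1).trans ?_
  rw [Set.ncard_coe_finset, Set.ncard_eq_toFinset_card S hS]
  refine Finset.card_biUnion_le_card_mul _ _ _ fun z hz => ?_
  rw [← Set.ncard_eq_toFinset_card, ncard_isConj]
  exact hm z (by simpa using hz)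

theorem dj {G : Type*} [Group G] [Finite G] {M : Subgroup G} (hM : IsCoatom M) [Group.IsNilpotent M]
    (h2 : ∀ S, SylowIn 2 S M → ⁅S, S⁆ ≤ centralizer (S : Set G)) : Group.IsSolvable G := by
  have := solvable_of_maxInv (K := ⊤) (A := ⊥) (M := M) (by simp) (by simp) hM.lt_top bot_le
    (fun H h1 _ _ => (eq_or_lt_of_le h1).imp Eq.symm (hM.2 H)) h2
  exact Group.isSolvable_of_surjective (f := (⊤ : Subgroup G).subtype) fun g => ⟨⟨g, trivial⟩, rfl⟩

theorem cent_pgroup {G : Type*} [Group G] [Finite G] {N : Subgroup G}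
    (h : ∀ x : G, x ∉ N → IsPrimePow (orderOf x)) {x : G} (hx : x ∉ N) :
    ∃ p : ℕ, p.Prime ∧ IsPGroup p (centralizer ({x} : Set G)) := by
  obtain ⟨p, k, hp, hk, e⟩ := (isPrimePow_nat_iff _).1 (h x hx)
  refine ⟨p, hp, fun y => ?_⟩
  obtain ⟨a, ha, b, hb, e1, hap, hbp⟩ := exists_pPart hp (y : G)
  have hc : Commute x b := (mem_cent_iff.1 (zpowers_le.2 y.2 hb)).symm
  have ho : (orderOf x).Coprime (orderOf b) := by rw [← e]; exact (hbp.symm).pow_left k
  have h1 : x * b ∉ N := fun e2 => hx (zpowers_le.2 e2 (left_mem_zpowers_mul hc ho))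
  obtain ⟨q, m, hq, hm, e2⟩ := (isPrimePow_nat_iff _).1 (h _ h1)
  rw [hc.orderOf_mul_eq_mul_orderOf_of_coprime ho, ← e] at e2
  have hpq : p = q := (Nat.prime_dvd_prime_iff_eq hp hq).1 (hp.dvd_of_dvd_pow
    (e2 ▸ (dvd_pow_self p hk.ne').mul_right _))
  subst hpq
  have hb1 : orderOf b = 1 := Nat.Coprime.eq_one_of_dvd (hbp.pow_right m) (e2 ▸ dvd_mul_left _ _)
  rw [orderOf_eq_one_iff] at hb1
  obtain ⟨j, hj⟩ := (isPGroup_zpowers_iff hp).1 hap
  refine ⟨j, Subtype.ext ?_⟩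
  rw [SubgroupClass.coe_pow, e1, hb1, mul_one, ← hj, pow_orderOf_eq_one]; rfl

/-- Let N be a proper normal subgroup of the finite group G such that every element x of G outside N has prime power order and has centralizer C_G(x) a maximal subgroup of G. Then N is solvable. -/
theorem result {G : Type*} [Group G] [Finite G] (N : Subgroup G) [N.Normal] (hN : N ≠ ⊤)
    (h : ∀ x : G, x ∉ N → IsPrimePow (orderOf x) ∧ IsCoatom (Subgroup.centralizer ({x} : Set G))) : Group.IsSolvable ↥N := by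
  haveI : Fact (Nat.Prime 2) := ⟨Nat.prime_two⟩
  suffices Group.IsSolvable G from inferInstance
  have h1 : ∀ x : G, x ∉ N → IsPrimePow (orderOf x) := fun x hx => (h x hx).1
  by_cases hodd : ∃ x, x ∉ N ∧ ¬ IsPGroup 2 (centralizer ({x} : Set G))
  · obtain ⟨x, hx, h2⟩ := hodd
    obtain ⟨p, hp, hP⟩ := cent_pgroup h1 hx
    haveI := Fact.mk hp
    haveI := hP.isNilpotent
    have hp2 : p ≠ 2 := fun e => h2 (e ▸ hP)
    refine dj (h x hx).2 fun S hS => ?_
    have : S = ⊥ := by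
      obtain ⟨a, b, -⟩ := sylowIn_iff.1 hS
      exact (IsPGroup.disjoint_of_ne 2 p (Ne.symm hp2) S _ b hP).eq_bot_of_le a
    simp [this]
  push Not at hodd
  have hsyl : ∀ x, x ∉ N → ∀ Q : Sylow 2 G, (Q : Subgroup G) ≠ ⊤ →
      centralizer ({x} : Set G) ≤ Q → centralizer ({x} : Set G) = Q := fun x hx Q hQ hle =>
    ((eq_or_lt_of_le hle).resolve_right fun hl => hQ ((h x hx).2.2 _ hl))
  obtain ⟨x₀, hx₀⟩ : ∃ x, x ∉ N := by
    by_contra hc
    push Not at hc
    exact hN (eq_top_iff.2 fun x _ => hc x)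
  obtain ⟨P, hP⟩ := (hodd x₀ hx₀).exists_le_sylow
  by_cases hG : IsPGroup 2 G
  · haveI := hG.isNilpotent
    infer_instance
  have hne : ∀ Q : Sylow 2 G, (Q : Subgroup G) ≠ ⊤ := fun Q e =>
    hG ((e ▸ Q.isPGroup').of_surjective (⊤ : Subgroup G).subtype fun g => ⟨⟨g, trivial⟩, rfl⟩)
  have hP0 := hsyl x₀ hx₀ P (hne P) hP
  set Z : Set G := {z | z ∈ (P : Subgroup G) ∧ z ∉ N ∧ z ∈ centralizer ((P : Subgroup G) : Set G)}
  set Y : Set G := {z | z ∈ (P : Subgroup G) ∧ z ∉ N}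
  have hc : ∀ z, z ∉ N → z ∈ centralizer ((P : Subgroup G) : Set G) →
      centralizer ({z} : Set G) = P := fun z hz hzc =>
    P.3 (hodd z hz) (le_cent_iff.2 hzc)
  have hcov : ((N : Set G)ᶜ).ncard ≤ Z.ncard * (P : Subgroup G).index := by
    refine ncard_cover (fun x hx => ?_) fun z hz => by rw [hc z hz.2.1 hz.2.2]
    obtain ⟨Q, hQ⟩ := (hodd x hx).exists_le_sylow
    have hnd : ¬ 2 ∣ cs x := by rw [hsyl x hx Q (hne Q) hQ]; exact Q.not_dvd_index
    obtain ⟨g, hg⟩ := exists_conj_mem_centralizer_sylow P hnd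
    have hgN : g * x * g⁻¹ ∉ N := fun e => hx (by simpa [mul_assoc] using ‹N.Normal›.conj_mem _ e g⁻¹)
    refine ⟨g * x * g⁻¹, ⟨?_, hgN, hg⟩, isConj_iff.2 ⟨g⁻¹, by group⟩⟩
    rw [← hc _ hgN hg]; exact self_mem_cent _
  have e1 : ((N : Set G)ᶜ).ncard + Nat.card N = Nat.card G := by
    rw [add_comm, ← Set.ncard_add_ncard_compl (N : Set G)]
    rfl
  have e2 : Y.ncard + Nat.card ((P : Subgroup G) ⊓ N : Subgroup G) = Nat.card P := by
    have : ((P : Subgroup G) : Set G) = Y ∪ (((P : Subgroup G) ⊓ N : Subgroup G) : Set G) := by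
      ext z
      exact ⟨fun hz => (em (z ∈ N)).elim (fun h => Or.inr ⟨hz, h⟩) fun h => Or.inl ⟨hz, h⟩,
        fun hz => hz.elim (·.1) (·.1)⟩
    have h3 : Nat.card P = ((P : Subgroup G) : Set G).ncard := rfl
    rw [h3, this, Set.ncard_union_eq (Set.disjoint_left.2 fun z hz hz' => hz.2 hz'.2)]
    rfl
  have e3 : Nat.card N ≤ Nat.card ((P : Subgroup G) ⊓ N : Subgroup G) * (P : Subgroup G).index := by
    have h3 := ((P : Subgroup G).subgroupOf N).card_mul_index
    have h4 : Nat.card ((P : Subgroup G).subgroupOf N) =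
        Nat.card ((P : Subgroup G) ⊓ N : Subgroup G) := by
      rw [← inf_subgroupOf_right]
      exact Nat.card_congr (subgroupOfEquivOfLe inf_le_right).toEquiv
    rw [← h3, h4]
    refine Nat.mul_le_mul_left _ ?_
    have := relIndex_le_of_le_right (H := (P : Subgroup G)) (le_top (a := N))
      (by rw [relIndex_top_right]; exact index_ne_zero_of_finite)
    rwa [relIndex_top_right] at this
  have e4 := (P : Subgroup G).card_mul_index
  have hi : 0 < (P : Subgroup G).index := Nat.pos_of_ne_zero index_ne_zero_of_finite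
  have e5 : Y.ncard ≤ Z.ncard := by
    refine Nat.le_of_mul_le_mul_right ?_ hi
    have e6 : Nat.card (P : Subgroup G) = Nat.card P := rfl
    nlinarith
  have hYZ : Z = Y := Set.eq_of_subset_of_ncard_le (fun z hz => ⟨hz.1, hz.2.1⟩) e5
  have hx₀P : x₀ ∈ (P : Subgroup G) := hP (self_mem_cent _)
  have hab : (P : Subgroup G) ≤ centralizer ((P : Subgroup G) : Set G) := by
    intro s hs
    by_cases hsN : s ∈ N
    · have h3 : s * x₀ ∈ Z := hYZ ▸ ⟨mul_mem hs hx₀P, fun e => hx₀ ((N.mul_mem_cancel_left hsN).1 e)⟩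
      have h4 : x₀ ∈ Z := hYZ ▸ ⟨hx₀P, hx₀⟩
      simpa using mul_mem h3.2.2 (inv_mem h4.2.2)
    · exact (hYZ ▸ ⟨hs, hsN⟩ : s ∈ Z).2.2
  haveI := (hodd x₀ hx₀).isNilpotent
  refine dj (h x₀ hx₀).2 fun S hS => ?_
  have hSP : S ≤ P := hP0 ▸ (sylowIn_iff.1 hS).1
  exact (Subgroup.commutator_le_self S).trans (hSP.trans (hab.trans (centralizer_le hSP)))

end Cfsg.Agent.S3903
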