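import Cfsg.Statements.S3904
import Cfsg.Agent.Lib.Hall.MaxCent
import Cfsg.Agent.Lib.Coprime.FrobKernel

set_option autoImplicit false
open Cfsg

namespace Cfsg.Agent.S3904

open scoped Pointwise commutatorElement
open Cfsg.Lib Cfsg.Lib.Hall

open Subgroup

/-- Let G be a non-abelian finite group in which the centralizer of every non-central element is a maximal subgroup. Then G/Z(G) is either an elementary abelian p-group for some prime p, or a minimal non-abelian group (non-abelian with all proper subgroups abelian) of order p^a · q for distinct primes p, q with a normal Sylow p-subgroup. -/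
theorem result {G : Type*} [Group G] [Finite G] (hna : ¬ IsMulCommutative G)
    (h : ∀ x : G, x ∉ Subgroup.center G → IsCoatom (Subgroup.centralizer ({x} : Set G))) :
    (∃ p : ℕ, p.Prime ∧ Cfsg.IsElementaryAbelian p (⊤ : Subgroup (G ⧸ Subgroup.center G))) ∨
    (¬ IsMulCommutative (G ⧸ Subgroup.center G) ∧ (∀ H : Subgroup (G ⧸ Subgroup.center G), H ≠ ⊤ → IsMulCommutative ↥H) ∧
      ∃ p q a : ℕ, p.Prime ∧ q.Prime ∧ p ≠ q ∧ Nat.card (G ⧸ Subgroup.center G) = p ^ a * q ∧
        ∀ P : Subgroup (G ⧸ Subgroup.center G), Nat.card ↥P = p ^ a → P.Normal) := by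
  have hZ : center G = ⊤ ⊓ centralizer ((⊤ : Subgroup G) : Set G) := by
    rw [Core.centralizer_top_eq_center, top_inf_eq]
  have h' : ∀ x ∈ (⊤ : Subgroup G), x ∉ center G → IsCoatom (centralizer ({x} : Set G)) :=
    fun x _ hxZ => h x hxZ
  by_cases h1 : ∀ p : ℕ, p.Prime → ∃ y ∈ (⊤ : Subgroup G), (orderOf y).Coprime p ∧ y ∉ center G
  · right
    obtain ⟨-, K, L, p, hp, hKn, hZK, hZL, hKL, hKL', hKab, hKp, hpr, hf, hmin⟩ := MaxCent.frobenius hZ h' h1
    haveI : Fact p.Prime := ⟨hp⟩
    set f := QuotientGroup.mk' (center G)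
    have hm : ∀ x : G, f x = 1 ↔ x ∈ center G := fun x => QuotientGroup.eq_one_iff x
    have hn : (K.map f).Normal := Core.normal_map_mk' _ _
    have hcard : Nat.card (L.map f) = (center G).relIndex L := Core.card_map_mk'_eq_relIndex _ _
    have hfpf : Coprime.Fpf (K.map f) (L.map f) := by
      rw [Coprime.fpf_iff]
      rintro _ ⟨w, hw, rfl⟩ hw1 _ ⟨k, hk, rfl⟩ e
      refine (hm k).mpr (hf w hw (fun e => hw1 ((hm w).mpr e)) k hk ?_)
      exact (hm (k * w * k⁻¹ * w⁻¹)).mp (by
        rw [map_mul, map_mul, map_mul, map_inv, map_inv, ← e]; group)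
    have hsup : K.map f ⊔ L.map f = ⊤ := by
      rw [← Subgroup.map_sup, hKL, map_top_of_surjective _ (QuotientGroup.mk'_surjective _)]
    have hK1 : K.map f ≠ ⊥ := by
      rw [Ne, Core.map_mk'_eq_bot_iff]; exact not_le_of_gt hZK
    have hL1 : L.map f ≠ ⊥ := by
      intro e
      rw [e, card_bot] at hcard
      exact hpr.ne_one hcard.symm
    have hcomm : ∀ a ∈ K.map f, ∀ b ∈ K.map f, a * b = b * a := by
      rintro _ ⟨a, ha, rfl⟩ _ ⟨b, hb, rfl⟩
      rw [← map_mul, ← map_mul, hKab hb a ha]
    have hP : IsPGroup p (K.map f) := isPGroup_of_pow_eq_one (by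
      rintro _ ⟨a, ha, rfl⟩
      rw [← map_pow]
      exact (hm _).mpr (hKp a ha))
    obtain ⟨a, ha⟩ := IsPGroup.iff_card.mp hP
    have hnn : L.map f ≤ normalizer ((K.map f : Subgroup _) : Set (G ⧸ center G)) := by
      rw [normalizer_eq_top]; exact le_top
    have hG := hfpf.card_sup hnn
    rw [hsup, card_top, ha] at hG
    have hcop := hfpf.coprime hnn
    rw [← hcard] at hpr
    have hpq : p ≠ Nat.card (L.map f) := by
      intro e
      have := Core.dvd_card_of_isPGroup_of_ne_bot hp hP hK1
      rw [← e] at hcop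
      exact hp.ne_one (Nat.eq_one_of_dvd_coprimes hcop (dvd_refl p) this)
    refine ⟨?_, ?_, p, _, a, hp, hpr, hpq, hG, ?_⟩
    · intro hc
      obtain ⟨⟨w, hw⟩, hw1⟩ := ne_bot_iff_exists_ne_one.mp hL1
      obtain ⟨⟨k, hk⟩, hk1⟩ := ne_bot_iff_exists_ne_one.mp hK1
      exact hk1 (Subtype.ext (hfpf.eq_one hw (fun e => hw1 (Subtype.ext e)) hk (hc.1.1 w k)))
    · intro H hH
      by_cases hHK : H ≤ K.map f
      · exact ⟨⟨fun a b => Subtype.ext (hcomm _ (hHK a.2) _ (hHK b.2))⟩⟩
      have hco : IsCoatom (K.map f) := Core.isCoatom_of_index_prime (by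
        have := (K.map f).card_mul_index
        rw [hG, ha] at this
        rw [Nat.eq_of_mul_eq_mul_left (pow_pos hp.pos a) this]; exact hpr)
      have h2 := sup_eq_top_of_coatom hco hHK
      have h3 : (H ⊓ K.map f).Normal := by
        rw [← normalizer_eq_top_iff, eq_top_iff, ← h2]
        refine sup_le (Core.le_normalizer_inf le_normalizer (by rw [normalizer_eq_top]; exact le_top))
          (fun k hk => centralizer_le_normalizer _ (fun b hb => hcomm _ hb.2 _ hk))
      have h4 : H ⊓ K.map f = ⊥ := by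
        rcases hmin ((H ⊓ K.map f).comap f) inferInstance (Core.le_comap_mk' _ _) (by
          refine (comap_mono inf_le_right).trans ?_
          rw [Core.comap_map_mk', sup_eq_right.mpr hZK.le]) with e | e
        · rw [← Core.map_comap_mk' _ (H ⊓ K.map f), e, Core.map_mk'_eq_bot_iff]
        · exfalso
          apply hH
          rw [eq_top_iff, ← h2]
          refine sup_le le_rfl ?_
          rw [← e, Core.map_comap_mk']; exact inf_le_left
      have h5 := Hall.card_sup_of_inf_eq_bot h4
      rw [h2, card_top, hG, ha, mul_comm] at h5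
      have h6 := Nat.eq_of_mul_eq_mul_right (pow_pos hp.pos a) h5
      haveI : Fact (Nat.card H).Prime := ⟨h6 ▸ hpr⟩
      haveI := isCyclic_of_prime_card (α := H) rfl
      infer_instance
    · intro P hP'
      have h2 : P ≤ K.map f := by
        intro x hx
        refine mem_of_isPGroup_of_not_dvd_index hp
          (isPGroup_zpowers_of_mem (IsPGroup.of_card hP') hx) (by rw [normalizer_eq_top]; trivial) ?_
        have := (K.map f).card_mul_index
        rw [hG, ha] at this
        rw [Nat.eq_of_mul_eq_mul_left (pow_pos hp.pos a) this]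
        exact fun e => hpq ((Nat.prime_dvd_prime_iff_eq hp hpr).mp e)
      rw [eq_of_le_of_card_ge h2 (by rw [ha, hP'])]
      exact hn
  · left
    push Not at h1
    obtain ⟨p, hp, h1⟩ := h1
    obtain ⟨h2, h3⟩ := MaxCent.elementary hZ h' hp h1
    refine ⟨p, hp, ?_⟩
    rw [Transfer.elAb_iff]
    constructor
    · intro a _ b _
      obtain ⟨a, rfl⟩ := QuotientGroup.mk_surjective a
      obtain ⟨b, rfl⟩ := QuotientGroup.mk_surjective b
      rw [← commutatorElement_eq_one_iff_mul_comm]
      exact (QuotientGroup.eq_one_iff ⁅a, b⁆).mpr (h2 (commutator_mem_commutator trivial trivial))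
    · intro a _
      obtain ⟨a, rfl⟩ := QuotientGroup.mk_surjective a
      exact (QuotientGroup.eq_one_iff (a ^ p)).mpr (h3 a trivial)

end Cfsg.Agent.S3904
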