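import Cfsg.Statements.S3905
import Cfsg.Agent.Lib.Hall.MaxCent
import Cfsg.Agent.Lib.Coprime.FrobKernel

set_option autoImplicit false
open Cfsg

namespace Cfsg.Agent.S3905

open scoped Pointwise commutatorElement
open Cfsg.Lib Cfsg.Lib.Hall

open Subgroup

/-- Let N be a normal subgroup of the finite group G such that for every element x of N outside the center of N the centralizer C_G(x) is a maximal subgroup of G. Then N/Z(N) is either an elementary abelian p-group for some prime p, or a Frobenius group whose kernel is an elementary abelian normal subgroup and whose complement has prime order. -/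
theorem result {G : Type*} [Group G] [Finite G] (N : Subgroup G) [N.Normal]
    (h : ∀ x : G, x ∈ N → x ∉ Subgroup.centralizer (N : Set G) → IsCoatom (Subgroup.centralizer ({x} : Set G))) :
    (∃ p : ℕ, p.Prime ∧ Cfsg.IsElementaryAbelian p (⊤ : Subgroup (↥N ⧸ Subgroup.center ↥N))) ∨
    (∃ (Q K : Subgroup (↥N ⧸ Subgroup.center ↥N)) (p : ℕ), p.Prime ∧ Cfsg.IsFrobeniusComplement Q ∧ (Nat.card ↥Q).Prime ∧
      K.Normal ∧ (K : Set (↥N ⧸ Subgroup.center ↥N)) = Cfsg.frobeniusKernel Q ∧ Cfsg.IsElementaryAbelian p K) := by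
  set Z := N ⊓ centralizer (N : Set G) with hZ
  have h' : ∀ x ∈ N, x ∉ Z → IsCoatom (centralizer ({x} : Set G)) :=
    fun x hx hxZ => h x hx (fun e => hxZ ⟨hx, e⟩)
  have hm : ∀ x : N, (x : N ⧸ center N) = 1 ↔ (x : G) ∈ Z := by
    intro x
    rw [QuotientGroup.eq_one_iff, hZ, ← Core.map_subtype_center]
    exact ⟨fun e => ⟨x, e, rfl⟩, fun ⟨y, hy, e⟩ => (Subtype.ext e : y = x) ▸ hy⟩
  by_cases h1 : ∀ p : ℕ, p.Prime → ∃ y ∈ N, (orderOf y).Coprime p ∧ y ∉ Z
  · right
    obtain ⟨hc, K, L, p, hp, hKn, hZK, hZL, hKL, hKL', hKab, hKp, hpr, hf, -⟩ := MaxCent.frobenius hZ h' h1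
    have hKN : K ≤ N := hKL ▸ le_sup_left
    have hLN : L ≤ N := hKL ▸ le_sup_right
    set f := QuotientGroup.mk' (center N)
    have hn : ((K.subgroupOf N).map f).Normal := Core.normal_map_mk' _ _
    have hcard : Nat.card ((L.subgroupOf N).map f) = Z.relIndex L := by
      rw [Core.card_map_mk'_eq_relIndex, ← relIndex_subgroupOf hLN]
      congr 1
      ext x
      rw [mem_subgroupOf, ← hm, QuotientGroup.eq_one_iff]
    have hfpf : Coprime.Fpf ((K.subgroupOf N).map f) ((L.subgroupOf N).map f) := by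
      rw [Coprime.fpf_iff]
      rintro _ ⟨w, hw, rfl⟩ hw1 _ ⟨k, hk, rfl⟩ e
      refine (hm k).mpr (hf w hw (fun e => hw1 ((hm w).mpr e)) k hk ?_)
      have := (hm (k * w * k⁻¹ * w⁻¹)).mp (by
        change f _ = 1
        rw [map_mul, map_mul, map_mul, map_inv, map_inv, ← e]; group)
      simpa using this
    have hsup : (K.subgroupOf N).map f ⊔ (L.subgroupOf N).map f = ⊤ := by
      rw [← Subgroup.map_sup, ← subgroupOf_sup hKN hLN, hKL, subgroupOf_self,
        map_top_of_surjective _ (QuotientGroup.mk'_surjective _)]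
    have hK1 : (K.subgroupOf N).map f ≠ ⊥ := by
      obtain ⟨k, hk, hkZ⟩ := SetLike.exists_of_lt hZK
      intro e
      have : f ⟨k, hKN hk⟩ ∈ (K.subgroupOf N).map f := ⟨_, hk, rfl⟩
      rw [e, mem_bot] at this
      exact hkZ ((hm _).mp this)
    have hL1 : (L.subgroupOf N).map f ≠ ⊥ := by
      intro e
      rw [e, card_bot] at hcard
      exact hpr.ne_one hcard.symm
    refine ⟨(L.subgroupOf N).map f, (K.subgroupOf N).map f, p, hp,
      Coprime.isFrobeniusComplement_of_fpf hfpf hsup hK1 hL1, hcard ▸ hpr, hn,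
      Coprime.coe_eq_frobeniusKernel_of_fpf hfpf hsup, ?_⟩
    rw [Transfer.elAb_iff]
    constructor
    · rintro _ ⟨a, ha, rfl⟩ _ ⟨b, hb, rfl⟩
      rw [← map_mul, ← map_mul]
      congr 1
      exact Subtype.ext (hKab hb a ha)
    · rintro _ ⟨a, ha, rfl⟩
      rw [← map_pow]
      exact (hm _).mpr (hKp a ha)
  · left
    push Not at h1
    obtain ⟨p, hp, h1⟩ := h1
    obtain ⟨h2, h3⟩ := MaxCent.elementary hZ h' hp h1
    refine ⟨p, hp, ?_⟩
    rw [Transfer.elAb_iff]
    constructor
    · intro a _ b _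
      obtain ⟨a, rfl⟩ := QuotientGroup.mk_surjective a
      obtain ⟨b, rfl⟩ := QuotientGroup.mk_surjective b
      rw [← commutatorElement_eq_one_iff_mul_comm]
      exact (hm ⁅a, b⁆).mpr (h2 (commutator_mem_commutator a.2 b.2))
    · intro a _
      obtain ⟨a, rfl⟩ := QuotientGroup.mk_surjective a
      exact (hm (a ^ p)).mpr (h3 a a.2)

end Cfsg.Agent.S3905
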