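import Cfsg.Statements.S3906
import Cfsg.Agent.Lib.Hall.LieE

set_option autoImplicit false
open Cfsg

namespace Cfsg.Agent.S3906

open scoped Pointwise commutatorElement
open Cfsg.Lib Cfsg.Lib.Hall

open Cfsg.Lib.Hall.Lie Subgroup

/-- Let p be a prime and let k ≥ 3, c ≥ 0 and d ≥ 0 be integers with 2^d + 2 ≤ k. There is a bound B depending only on p, k, c and d such that the following holds for every finite group G of order prime to p and every elementary abelian subgroup A of order p^k of the automorphism group of G: if, for every non-identity a ∈ A, the d-th derived subgroup of the fixed-point subgroup C_G(a) (the 0-th derived subgroup of a group being the group itself) is nilpotent of class at most c, then the d-th derived subgroup of G is nilpotent of class at most B. -/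
theorem result (p k c d : ℕ) (hp : p.Prime) (hk : 3 ≤ k) (hd : 2 ^ d + 2 ≤ k) :
    ∃ B : ℕ, ∀ (G : Type) [Group G] [Finite G], (Nat.card G).Coprime p →
      ∀ A : Subgroup (MulAut G), Cfsg.IsElementaryAbelian p A → Nat.card ↥A = p ^ k →
        (∀ a ∈ A, a ≠ 1 → (derivedSeries ↥((a : MulAut G).toMonoidHom.eqLocus (MonoidHom.id G)) d).lowerCentralSeries c = ⊥) →
        (derivedSeries G d).lowerCentralSeries B = ⊥ := by
  haveI := Fact.mk hp
  obtain ⟨m, hm⟩ := exists_special.{0} p k c d hk
  refine ⟨m, fun G _ _ hc A hA hk' h => ?_⟩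
  have e := ea_of hc hA
  obtain ⟨h1, h2, h3⟩ := e.Fd_spec (φ := A.subtype) d
  rw [← D_top, ← h2]
  refine hm G A A.subtype (D d) _ e hk' (fun _ _ => D_mono d) (fun X => ?_) (fun _ => le_rfl) (fun a ha => ?_) h1
    (Fd_dom _ d) (Fd_base _ d) fun J hJ => (h3 J hJ).imp fun B hB =>
      ⟨hB.1.trans (Nat.pow_le_pow_right hp.pos (by omega)), hB.2⟩
  · rw [← le_normalizer_iff_commutator_le_right]
    clear h h1 h2 h3 hm hd
    induction d with
    | zero => exact le_normalizer
    | succ d ih => rw [D_succ]; exact Core.le_normalizer_commutator ih ih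
  · have := congrArg (map (Subgroup.subtype _)) (h a a.2 fun e => ha (Subtype.ext e))
    rwa [map_lowerCentralSeries, ← D_top, map_D, ← MonoidHom.range_eq_map, range_subtype, Subgroup.map_bot,
      ← actFix_eq] at this

end Cfsg.Agent.S3906
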