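import Cfsg.Statements.S3907
import Cfsg.Agent.Lib.Hall.LieE

set_option autoImplicit false
open Cfsg

namespace Cfsg.Agent.S3907

open scoped Pointwise commutatorElement
open Cfsg.Lib Cfsg.Lib.Hall

open Cfsg.Lib.Hall.Lie Subgroup

/-- Let p be a prime and let k ≥ 3 and c ≥ 0 be integers. There is a bound B depending only on p, k and c such that the following holds for every finite group G of order prime to p and every elementary abelian subgroup A of order p^k of the automorphism group of G: if, for every non-identity a ∈ A, the (k−2)-th term of the lower central series of the fixed-point subgroup C_G(a) (the first term being the whole group) is nilpotent of class at most c, then the (k−2)-th term of the lower central series of G is nilpotent of class at most B. -/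
theorem result (p k c : ℕ) (hp : p.Prime) (hk : 3 ≤ k) :
    ∃ B : ℕ, ∀ (G : Type) [Group G] [Finite G], (Nat.card G).Coprime p →
      ∀ A : Subgroup (MulAut G), Cfsg.IsElementaryAbelian p A → Nat.card ↥A = p ^ k →
        (∀ a ∈ A, a ≠ 1 → ((⊤ : Subgroup ↥((a : MulAut G).toMonoidHom.eqLocus (MonoidHom.id G))).lowerCentralSeries (k - 3)).lowerCentralSeries c = ⊥) →
        ((⊤ : Subgroup G).lowerCentralSeries (k - 3)).lowerCentralSeries B = ⊥ := by
  haveI := Fact.mk hp
  obtain ⟨m, hm⟩ := exists_special.{0} p k c (k - 3) hk
  refine ⟨m, fun G _ _ hc A hA hk' h => ?_⟩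
  have e := ea_of hc hA
  obtain ⟨h1, h2, h3⟩ := e.Fg_spec (φ := A.subtype) (k - 3)
  rw [show (⊤ : Subgroup G).lowerCentralSeries (k - 3) = _ from h2.symm]
  refine hm G A A.subtype (·.lowerCentralSeries (k - 3)) _ e hk' (Subgroup.lowerCentralSeries_mono _)
    (fun X => le_normalizer_iff_commutator_le_right.1 (X.self_le_normalizer_lowerCentralSeries _))
    (fun X => D_le_lcs X _) (fun a ha => ?_) h1 (((Dom.refl _).step (Fg_base _ _)).trans (Fg_dom _ _)) (Fg_base _ _)
    fun J hJ => (h3 J hJ).imp fun B hB => ⟨hB.1.trans (Nat.pow_le_pow_right hp.pos (by omega)), hB.2⟩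
  have := congrArg (map (Subgroup.subtype _)) (h a a.2 fun e => ha (Subtype.ext e))
  rwa [map_lowerCentralSeries, top_subtype_lowerCentralSeries, Subgroup.map_bot, ← actFix_eq] at this

end Cfsg.Agent.S3907
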