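import Cfsg.Statements.S3908
import Cfsg.Agent.Lib.FG.Act

set_option autoImplicit false
open Cfsg

open Subgroup Cfsg.Lib
open scoped commutatorElement
namespace Cfsg.Agent.S3908

/-- Let G be a finite group in which any two abelian subgroups of the same order are conjugate. Then a Sylow 2-subgroup of G is cyclic, elementary abelian or generalized quaternion, and for an odd prime p a Sylow p-subgroup of G is cyclic or has exponent dividing p. -/
theorem result {G : Type*} [Group G] [Finite G] (hB : ∀ A B : Subgroup G, IsMulCommutative ↥A → IsMulCommutative ↥B → Nat.card ↥A = Nat.card ↥B → ∃ g : G, B = A.map (MulAut.conj g).toMonoidHom) :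
    (∀ P : Sylow 2 G, IsCyclic ↥(P : Subgroup G) ∨ Cfsg.IsElementaryAbelian 2 (P : Subgroup G) ∨ ∃ k : ℕ, Nonempty (↥(P : Subgroup G) ≃* QuaternionGroup (2 ^ k))) ∧
    ∀ (p : ℕ) [Fact p.Prime], p ≠ 2 → ∀ P : Sylow p G, IsCyclic ↥(P : Subgroup G) ∨ ∀ x ∈ (P : Subgroup G), x ^ p = 1 := by
  have key (p : ℕ) [Fact p.Prime] (P : Sylow p G) := FG.dich P.isPGroup' fun A B hA hB' hc => by
    obtain ⟨e⟩ := FG.nonempty_equiv_of_conj (hB _ _ (PGrp.isMulCommutative_of_card_le_sq ((P.isPGroup'.to_subgroup A).map _) (by rw [Core.card_map_subtype, hA]))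
      (PGrp.isMulCommutative_of_card_le_sq ((P.isPGroup'.to_subgroup B).map _) (by rw [Core.card_map_subtype, hB'])) (by rw [Core.card_map_subtype, Core.card_map_subtype, hA, hB']))
    exact isCyclic_of_surjective e e.surjective
  have : Fact (Nat.Prime 2) := ⟨Nat.prime_two⟩
  refine ⟨fun P => (key 2 P).imp_right (Or.imp FG.elemAb_of_sq fun ⟨_, a, b, m, h, h1, h2⟩ => ⟨_, h.quaternion h1 h2⟩), fun p _ hp P => ?_⟩
  exact (key p P).imp_right fun h => fun x hx => congrArg Subtype.val (h.resolve_right (fun h => hp h.1) ⟨x, hx⟩)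

end Cfsg.Agent.S3908
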