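import Cfsg.Statements.S3909
import Cfsg.Agent.Lib.PGrp.Cyclic
import Cfsg.Agent.Lib.Core.PCore

set_option autoImplicit false
open Cfsg

open Subgroup Cfsg.Lib
open scoped commutatorElement
namespace Cfsg.Agent.S3909

/-- Let G be a finite group in which any two abelian subgroups of the same order are conjugate. Let M be a normal subgroup of G. If M contains an element of the same order as a ∈ G, then a ∈ M; and if M is elementary abelian of order p^t with p prime and t ≥ 2, then M is the unique Sylow p-subgroup of G. -/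
theorem result {G : Type*} [Group G] [Finite G] (hB : ∀ A B : Subgroup G, IsMulCommutative ↥A → IsMulCommutative ↥B → Nat.card ↥A = Nat.card ↥B → ∃ g : G, B = A.map (MulAut.conj g).toMonoidHom) (M : Subgroup G) [M.Normal] :
    (∀ a : G, (∃ m ∈ M, orderOf m = orderOf a) → a ∈ M) ∧
    ∀ (p t : ℕ) [Fact p.Prime], 2 ≤ t → Nat.card ↥M = p ^ t → Cfsg.IsElementaryAbelian p M → ∀ P : Sylow p G, (P : Subgroup G) = M := by
  have ha : ∀ a : G, (∃ m ∈ M, orderOf m = orderOf a) → a ∈ M := fun a ⟨m, hm, h⟩ => by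
    obtain ⟨g, hg⟩ := hB (zpowers m) (zpowers a) inferInstance inferInstance (by rw [Nat.card_zpowers, Nat.card_zpowers, h])
    exact zpowers_le.1 (hg ▸ (map_mono (zpowers_le.2 hm)).trans (Core.map_conj_eq_of_normal g M).le)
  refine ⟨ha, fun p t _ ht hM hE P => ?_⟩
  have hp : p.Prime := Fact.out
  have hMp := PGrp.isPGroup_of_isElementaryAbelian hE
  refine le_antisymm (fun x hx => by_contra fun hxM => ?_) ((Core.le_pCore hMp).trans (Core.pCore_le_sylow P))
  obtain ⟨n, hn⟩ := Core.isPGroup_iff_forall_mem.1 P.isPGroup' x hx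
  obtain ⟨k, h1, h2⟩ := PGrp.exists_pow_not_mem_pow_mem hn hxM
  obtain ⟨E, hEM, hE2⟩ := PGrp.exists_le_card_eq hMp (k := 2) (hM ▸ Nat.pow_le_pow_right hp.pos ht)
  obtain ⟨Z, hZM, hZ⟩ := PGrp.exists_le_card_eq hMp (k := 1) (hM ▸ Nat.pow_le_pow_right hp.pos (by omega))
  obtain ⟨z, rfl⟩ := PGrp.exists_zpowers_eq_of_isCyclic (PGrp.isCyclic_of_card_le (hMp.to_le hZM) (by rw [hZ, pow_one]))
  rw [Nat.card_zpowers, pow_one] at hZ
  have h3 : (x ^ k) ^ p ≠ 1 := fun h => h1 (ha _ ⟨z, zpowers_le.1 hZM, by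
    rw [hZ, orderOf_eq_prime h fun e => h1 (e ▸ one_mem _)]⟩)
  have h4 : orderOf (x ^ k) = p ^ 2 := orderOf_eq_prime_pow (by rwa [pow_one]) (by rw [sq, pow_mul, hE.2 _ h2])
  obtain ⟨g, hg⟩ := hB E (zpowers (x ^ k)) (PGrp.isMulCommutative_of_le hE.1 hEM) inferInstance (by rw [hE2, Nat.card_zpowers, h4])
  exact h1 (zpowers_le.1 (hg ▸ (map_mono hEM).trans (Core.map_conj_eq_of_normal g M).le))

end Cfsg.Agent.S3909
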