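import Cfsg.Statements.S3910
import Cfsg.Agent.S3909
import Cfsg.Agent.Lib.PGrp.TwoMax
import Cfsg.Agent.Lib.Core.Nilpotent

set_option autoImplicit false
open Cfsg

open Subgroup Cfsg.Lib
open scoped commutatorElement
namespace Cfsg.Agent.S3910

theorem aux {G : Type*} [Group G] [Finite G] (hB : ∀ A B : Subgroup G, IsMulCommutative ↥A → IsMulCommutative ↥B → Nat.card ↥A = Nat.card ↥B → ∃ g : G, B = A.map (MulAut.conj g).toMonoidHom) {p : ℕ} [Fact p.Prime] (hG : IsPGroup p G) : IsCyclic G := by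
  have hp : p.Prime := Fact.out
  obtain ⟨A, _, hA, -, hC⟩ := PGrp.exists_normal_self_centralizing hG ⊥ inferInstance
  have hAc : IsCyclic A := by
    by_contra h
    obtain ⟨E, -, _, hE, hE2⟩ := PGrp.exists_normal_elem_sq_of_comm hG hA h
    obtain ⟨Z, _, hZ, hZ1⟩ := PGrp.exists_normal_le_card_eq hG E 1 (hE2 ▸ Nat.pow_le_pow_right hp.pos one_le_two)
    obtain ⟨z, hz, hzp⟩ := PGrp.exists_mem_orderOf_eq hG (H := Z) (fun e => by simp [e, hp.ne_one.symm] at hZ1)
    have := card_le_of_le (show E ≤ Z from fun x hx => by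
      by_cases h1 : x = 1
      exacts [h1 ▸ one_mem _, (S3909.result hB Z).1 x ⟨z, hz, by rw [hzp, orderOf_eq_prime (hE.2 x hx) h1]⟩])
    rw [hE2, hZ1] at this
    exact absurd (Nat.pow_lt_pow_right hp.one_lt one_lt_two) this.not_gt
  obtain ⟨a, rfl⟩ := PGrp.exists_zpowers_eq_of_isCyclic hAc
  refine PGrp.isCyclic_top_iff.1 ((eq_top_iff.2 fun x _ => by_contra fun hx => ?_ : zpowers a = ⊤) ▸ hAc)
  obtain ⟨n, hn⟩ := hG x
  obtain ⟨k, h1, h2⟩ := PGrp.exists_pow_not_mem_pow_mem hn hx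
  generalize x ^ k = y at h1 h2
  rcases PGrp.mem_zpowers_or_exists_pow hG h2 with h | ⟨l, h⟩
  · obtain ⟨i, rfl⟩ := h
    exact h1 (hC.le (by rw [Core.centralizer_zpowers, mem_centralizer_singleton_iff]; exact ((Commute.refl y).pow_right p).zpow_right i))
  refine h1 ((S3909.result hB _).1 y ?_)
  have h3 : (a ^ l) ^ p ≠ 1 ∨ y ^ p = 1 := by rw [h]; tauto
  have hy : y ≠ 1 := fun e => h1 (e ▸ one_mem _)
  rcases h3 with h3 | h3
  · have key : ∀ u : G, u ≠ 1 → orderOf u = p * orderOf (u ^ p) := fun u hu => by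
      obtain ⟨m, hm⟩ := IsPGroup.iff_orderOf.1 hG u
      obtain _ | m := m
      · exact absurd (orderOf_eq_one_iff.1 hm) hu
      rw [orderOf_pow' _ hp.ne_zero, hm, Nat.gcd_eq_right (dvd_pow_self p m.succ_ne_zero), Nat.mul_div_cancel' (dvd_pow_self p m.succ_ne_zero)]
    exact ⟨a ^ l, zpow_mem (mem_zpowers a) l, by rw [key y hy, key (a ^ l) (fun e => h3 (by rw [e, one_pow])), h]⟩
  · obtain ⟨z, hz, hzp⟩ := PGrp.exists_mem_orderOf_eq hG (H := zpowers a) fun e => h1 (hC.le fun w hw => by simp [mem_bot.1 (e.le hw)])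
    exact ⟨z, hz, by rw [hzp, orderOf_eq_prime h3 hy]⟩

/-- A finite nilpotent group in which any two abelian subgroups of the same order are conjugate is cyclic. -/
theorem result {G : Type*} [Group G] [Finite G] (hB : ∀ A B : Subgroup G, IsMulCommutative ↥A → IsMulCommutative ↥B → Nat.card ↥A = Nat.card ↥B → ∃ g : G, B = A.map (MulAut.conj g).toMonoidHom) (hnil : Group.IsNilpotent G) : IsCyclic G := by
  have : IsZGroup G := ⟨fun p hp P => by
    have : Fact p.Prime := ⟨hp⟩
    have hi := (P : Subgroup G).subtype_injective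
    refine aux (fun A B hA hB' h => ?_) P.isPGroup'
    obtain ⟨g, hg⟩ := hB (A.map (P : Subgroup G).subtype) (B.map (P : Subgroup G).subtype) inferInstance inferInstance
      (by rwa [Core.card_map_subtype, Core.card_map_subtype])
    obtain ⟨u, hu, c, hc, rfl⟩ := mem_sup_of_normal_right.1 ((Core.pCore_sup_pPrimeCore_of_nilpotent hp).ge (mem_top g))
    have hc' := Core.pPrimeCore_le_centralizer_pCore hp hc
    rw [← Core.sylow_eq_pCore_of_nilpotent P] at hu hc'
    refine ⟨⟨u, hu⟩, map_injective hi ?_⟩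
    rw [hg, ← Core.map_conj_map_conj, Core.map_conj_eq_iff_mem_normalizer.2 (centralizer_le_normalizer _ (Core.centralizer_anti (map_subtype_le A) hc')),
      map_map, map_map]
    rfl⟩
  infer_instance

end Cfsg.Agent.S3910
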