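import Cfsg.Statements.S3914
import Cfsg.Agent.Lib.Coprime.AbConj

set_option autoImplicit false
open Cfsg

namespace Cfsg.Agent.S3914

open Subgroup Cfsg.Lib Cfsg.Lib.Core Cfsg.Lib.Amalg Cfsg.Lib.Linear Cfsg.Lib.Coprime

/-- Let G be a finite group in which any two abelian subgroups of the same order are conjugate. If M is a non-abelian simple normal subgroup of G, then M is isomorphic to SL₂(2^f) with f ∈ {2, 3, 5}, or to PSL₂(q) for a prime power q ≥ 5 with q ≡ 3 or 5 (mod 8), or to the first Janko group J₁. -/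
theorem result {G : Type*} [Group G] [Finite G] (hB : ∀ A B : Subgroup G, IsMulCommutative ↥A → IsMulCommutative ↥B → Nat.card ↥A = Nat.card ↥B → ∃ g : G, B = A.map (MulAut.conj g).toMonoidHom) (M : Subgroup G) [M.Normal] (hs : IsSimpleGroup ↥M) (hna : ¬ IsMulCommutative ↥M) :
    (∃ (F : Type) (_ : Field F) (_ : Fintype F), (Fintype.card F = 2 ^ 2 ∨ Fintype.card F = 2 ^ 3 ∨ Fintype.card F = 2 ^ 5) ∧
        Nonempty (↥M ≃* Matrix.SpecialLinearGroup (Fin 2) F)) ∨
    (∃ (F : Type) (_ : Field F) (_ : Fintype F), 5 ≤ Fintype.card F ∧ (Fintype.card F % 8 = 3 ∨ Fintype.card F % 8 = 5) ∧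
        Nonempty (↥M ≃* Matrix.ProjectiveSpecialLinearGroup (Fin 2) F)) ∨
    Cfsg.Spor.IsoJ1 ↥M := by
  have h : AC G := hB
  obtain ⟨E, hE⟩ := exists_klein_of_simple hna
  have h1 : ∀ {x : G} {k : ℕ}, x ^ 2 ^ k = 1 → x ^ 2 = 1 := h.pow_eq_one (E := E.map M.subtype)
    (have : IsMulCommutative E := ⟨⟨fun a b => IsKleinFour.isMulCommutative.is_comm.comm a b⟩⟩; map_isMulCommutative _ _)
    ((card_map_of_injective M.subtype_injective).trans hE.card_four) (by
      rintro _ ⟨y, hy, rfl⟩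
      exact congrArg (fun a : E => ((a : M) : G)) ((sq _).trans (IsKleinFour.mul_self (⟨y, hy⟩ : E))))
  have h2 : ∀ {T : Subgroup G}, IsPGroup 2 T → IsElementaryAbelian 2 T := fun hT =>
    have h3 := fun x hx => let ⟨_, hk⟩ := isPGroup_iff_mem.1 hT x hx; h1 hk
    ⟨⟨⟨Commute.of_orderOf_dvd_two fun a => orderOf_dvd_of_pow_eq_one (Subtype.ext (h3 a a.2))⟩⟩, h3⟩
  have h3 : PC 2 G := fun A B hA hB' => h A B (h2 hA).1 (h2 hB').1
  obtain ⟨S⟩ : Nonempty (Sylow 2 G) := inferInstance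
  have hS := h2 S.isPGroup'
  obtain ⟨t, h4, h5⟩ := exists_two_of_simple hna
  have h6 : (S : Subgroup G) ≤ M := fun x hx => by
    by_cases e : x = 1
    · exact e ▸ one_mem M
    · exact h3.mem h5 (orderOf_eq_prime (hS.2 x hx) e) h4
  rcases JTW.abel hna ((syl_top S).of_le h6 le_top).subgroupOf_top ((isElemAb_subgroupOf_iff h6).2 hS).1 with
    ⟨F, _, _, h7, h8, e⟩ | ⟨F, _, _, ⟨n, hn, hF⟩, ⟨e⟩⟩ | e | e
  · exact Or.inr (Or.inl ⟨F, _, _, h8, h7, e⟩)
  · let π := QuotientGroup.mk' (centralizer (M : Set G))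
    have hπ : Function.Surjective π := QuotientGroup.mk'_surjective _
    have h7 : ∀ x ∈ M, π x = 1 → x = 1 := fun x hx e => congrArg Subtype.val ((Small.center_eq_bot_of_simple hna).le
      (mem_center_iff.2 fun y => Subtype.ext ((QuotientGroup.eq_one_iff x).1 e y y.2)) : (⟨x, hx⟩ : M) = 1)
    have h8 : Function.Bijective (π.subgroupMap M) := ⟨(injective_iff_map_eq_one _).2 fun x hx =>
      Subtype.ext (h7 x x.2 (congrArg Subtype.val hx)), π.subgroupMap_surjective M⟩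
    have : (M.map π).Normal := Normal.map inferInstance π hπ
    have h9 := (h3.quot _).two_pow_cases (L := M.map π) ((eq_bot_iff_forall _).2 fun g hg => by
      obtain ⟨g, rfl⟩ := hπ g
      refine (QuotientGroup.eq_one_iff g).2 fun m hm => mul_inv_eq_one.1 (h7 _ ?_ ?_)
      · simpa [mul_assoc] using mul_mem hm (‹M.Normal›.conj_mem _ (inv_mem hm) g)
      · rw [map_mul, map_inv, map_mul, map_mul, hg _ ⟨m, hm, rfl⟩, mul_inv_cancel])
      (S.mapSurjective hπ) (have := hS.1; ⟨map_isMulCommutative _ π, by rintro _ ⟨x, hx, rfl⟩; rw [← map_pow, hS.2 x hx, map_one]⟩) (map_mono h6) (Nat.card_eq_fintype_card.trans hF) hn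
      ((MulEquiv.ofBijective _ h8).symm.trans e)
    have := BS.charP_two_of_card hF
    exact Or.inl ⟨F, _, ‹_›, by rcases h9 with rfl | rfl | rfl <;> simp [hF],
      ⟨e.trans (Known.pmkEquiv (F := F) (CharTwo.two_eq_zero)).symm⟩⟩
  · exact Or.inr (Or.inr e)
  · exact (h.not_ree e).elim

end Cfsg.Agent.S3914
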