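import Cfsg.Statements.S3915
import Cfsg.Agent.Lib.Layer.Component
import Cfsg.Agent.Lib.FT.Sec14d

set_option autoImplicit false
open Cfsg

namespace Cfsg.Agent.S3915

open Subgroup Cfsg.Lib Cfsg.Lib.Layer in
theorem exists_two {G : Type*} [Group G] [Finite G] {K : Subgroup G} (hK : IsQuasisimple K) :
    ∃ x ∈ K, (∃ a : ℕ, orderOf x = 2 ^ a) ∧ x ∉ centralizer (K : Set G) := by
  classical
  haveI : Fact (Nat.Prime 2) := ⟨Nat.prime_two⟩
  by_contra hcon
  push Not at hcon
  obtain ⟨S⟩ : Nonempty (Sylow 2 K) := inferInstance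
  have hS : (S : Subgroup K) ≤ center K := by
    intro y hy
    rw [mem_center_subgroup_iff]
    refine hcon y y.2 ?_
    obtain ⟨a, ha⟩ := IsPGroup.iff_orderOf.1 S.isPGroup' ⟨y, hy⟩
    refine ⟨a, ?_⟩
    rw [← ha, Subgroup.orderOf_coe y]
    exact (Subgroup.orderOf_coe (⟨y, hy⟩ : (S : Subgroup K)))
  have hodd : Odd (Nat.card (K ⧸ center K)) := by
    rw [← Nat.not_even_iff_odd, even_iff_two_dvd]
    intro h
    exact S.not_dvd_index (h.trans (index_dvd_of_le hS))
  haveI := FT.odd_order_solvable _ hodd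
  haveI := hK.2
  exact IsQuasisimple.quotient_center_not_isMulCommutative hK
    (IsSimpleGroup.comm_iff_isSolvable.2 inferInstance |> fun h => ⟨⟨h⟩⟩)

open Subgroup Cfsg.Lib Cfsg.Lib.Layer in
theorem key {G : Type*} [Group G] [Finite G]
    (hP : ∀ A B : Subgroup G, IsCyclic ↥A → IsCyclic ↥B → IsPGroup 2 ↥A → Nat.card ↥A = Nat.card ↥B →
      ∃ g : G, B = A.map (MulAut.conj g).toMonoidHom) {K L : Subgroup G} (hK : IsComponent K)
    (hL : IsComponent L) (hne : K ≠ L) {x y : G} (hx : x ∈ K) (hy : y ∈ L)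
    (hxc : x ∉ centralizer (K : Set G)) (hyc : y ∉ centralizer (L : Set G)) {a b : ℕ}
    (ha : orderOf x = 2 ^ a) (hb : orderOf y = 2 ^ b) (hab : b ≤ a) : False := by
  haveI : Fact (Nat.Prime 2) := ⟨Nat.prime_two⟩
  have hKL := IsComponent.commutator_eq_bot_of_ne hK hL hne
  have hc : Commute x y := mul_comm_of_commutator_eq_bot hKL hx hy
  have hd : orderOf (x * y) ∣ 2 ^ a := by
    rw [orderOf_dvd_iff_pow_eq_one, hc.mul_pow]
    have h1 : x ^ 2 ^ a = 1 := by rw [← ha]; exact pow_orderOf_eq_one x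
    have h2 : y ^ 2 ^ a = 1 := by
      rw [← orderOf_dvd_iff_pow_eq_one, hb]; exact pow_dvd_pow 2 hab
    rw [h1, h2, one_mul]
  obtain ⟨c, hc', hco⟩ := (Nat.dvd_prime_pow Nat.prime_two).1 hd
  have ho : orderOf (x ^ 2 ^ (a - c)) = 2 ^ c := by
    rw [orderOf_pow_of_dvd (by positivity) (by rw [ha]; exact pow_dvd_pow 2 (Nat.sub_le _ _)), ha]
    rw [Nat.pow_div (Nat.sub_le _ _) (by norm_num)]
    congr 1; omega
  obtain ⟨g, hg⟩ := hP (zpowers (x ^ 2 ^ (a - c))) (zpowers (x * y)) inferInstance inferInstance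
    (IsPGroup.of_card (n := c) (by rw [Nat.card_zpowers, ho]))
    (by rw [Nat.card_zpowers, Nat.card_zpowers, ho, hco])
  have hM := IsComponent.conj hK g
  have hxy : x * y ∈ K.map (MulAut.conj g).toMonoidHom := by
    have : zpowers (x * y) ≤ K.map (MulAut.conj g).toMonoidHom := by
      rw [hg]; exact map_mono ((zpowers_le).2 (K.pow_mem hx _))
    exact this (mem_zpowers _)
  by_cases h : K.map (MulAut.conj g).toMonoidHom = K
  · apply hyc
    rw [h] at hxy
    have : y ∈ K := by simpa using K.mul_mem (K.inv_mem hx) hxy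
    intro z hz
    exact (mul_comm_of_commutator_eq_bot hKL this hz).symm
  · apply hxc
    have h1 := IsComponent.commutator_eq_bot_of_ne hM hK h
    intro z hz
    have e1 := mul_comm_of_commutator_eq_bot h1 hxy hz
    have e2 := mul_comm_of_commutator_eq_bot hKL hz hy
    have : z * x * y = x * z * y := by rw [mul_assoc, ← e1, mul_assoc x z, e2, mul_assoc]
    exact mul_right_cancel this

open Subgroup Cfsg.Lib Cfsg.Lib.Layer in

/-- Let G be a finite group in which, for every prime p, any two cyclic p-subgroups of the same order are conjugate. If the layer E(G), the subgroup generated by the components of G, is non-trivial, then E(G)/Z(E(G)) is a non-abelian simple group. -/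
theorem result {G : Type*} [Group G] [Finite G] (hP : ∀ (p : ℕ), p.Prime → ∀ A B : Subgroup G, IsCyclic ↥A → IsCyclic ↥B → IsPGroup p ↥A → Nat.card ↥A = Nat.card ↥B → ∃ g : G, B = A.map (MulAut.conj g).toMonoidHom) (hE : Cfsg.layer G ≠ ⊥) :
    IsSimpleGroup (↥(Cfsg.layer G) ⧸ Subgroup.center ↥(Cfsg.layer G)) ∧ ¬ IsMulCommutative (↥(Cfsg.layer G) ⧸ Subgroup.center ↥(Cfsg.layer G)) := by
  obtain ⟨K, hK⟩ := exists_component_of_layer_ne_bot hE
  have huniq : ∀ L : Subgroup G, IsComponent L → L = K := by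
    intro L hL
    by_contra hne
    obtain ⟨x, hx, ⟨a, ha⟩, hxc⟩ := exists_two hK.2
    obtain ⟨y, hy, ⟨b, hb⟩, hyc⟩ := exists_two hL.2
    rcases le_total a b with h | h
    · exact key (hP 2 Nat.prime_two) hL hK hne hy hx hyc hxc hb ha h
    · exact key (hP 2 Nat.prime_two) hK hL (Ne.symm hne) hx hy hxc hyc ha hb h
  have hE' : layer G = K :=
    le_antisymm (layer_le fun L hL => (huniq L hL).le) (IsComponent.le_layer hK)
  have hq : IsQuasisimple (layer G) := hE' ▸ hK.2
  exact ⟨hq.2, IsQuasisimple.quotient_center_not_isMulCommutative hq⟩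

end Cfsg.Agent.S3915
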