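import Cfsg.Statements.S3917
import Cfsg.Agent.Lib.PGrp.TwoMax

set_option autoImplicit false
open Cfsg

open Subgroup Cfsg.Lib
open scoped commutatorElement
namespace Cfsg.Agent.S3917

/-- Say that a group has self-centralizing non-cyclic subgroups when every non-cyclic subgroup H satisfies C_G(H) ≤ H. A finite abelian group with self-centralizing non-cyclic subgroups is cyclic or elementary abelian of order p² for a prime p. -/
theorem result {G : Type*} [CommGroup G] [Finite G] (hX : (∀ H : Subgroup G, ¬ IsCyclic ↥H → Subgroup.centralizer (H : Set G) ≤ H)) :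
    IsCyclic G ∨ ∃ p : ℕ, p.Prime ∧ Nat.card G = p ^ 2 ∧ Monoid.exponent G = p := by
  have hT : ∀ H : Subgroup G, ¬ IsCyclic H → H = ⊤ := fun H h => eq_top_iff.2 fun x _ => hX H h fun y _ => mul_comm y x
  by_cases hZ : IsZGroup G
  · exact .inl inferInstance
  obtain ⟨p, hp, P, hP⟩ : ∃ p : ℕ, p.Prime ∧ ∃ P : Sylow p G, ¬ IsCyclic P := by
    by_contra! h; exact hZ ⟨h⟩
  have : Fact p.Prime := ⟨hp⟩
  have hG : IsPGroup p G := fun x => (P.isPGroup' ⟨x, (hT _ hP).ge (mem_top x)⟩).imp fun k hk => congrArg Subtype.val hk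
  obtain ⟨E, -, -, hE, hE2⟩ := PGrp.exists_normal_elem_sq_of_comm hG (A := P) inferInstance hP
  have h1 : p < p ^ 2 := by nlinarith [hp.one_lt]
  have h2 := hT E (PGrp.not_isCyclic_of_isElementaryAbelian hE (hE2 ▸ h1))
  subst h2
  rw [card_top] at hE2
  have : Nontrivial G := Finite.one_lt_card_iff_nontrivial.1 (hE2 ▸ hp.one_lt.trans h1)
  exact .inr ⟨p, hp, hE2, (Monoid.exponent_eq_prime_iff hp).2 fun g hg => orderOf_eq_prime (hE.2 g (mem_top g)) hg⟩

end Cfsg.Agent.S3917
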