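import Cfsg.Statements.S3918
import Cfsg.Agent.Lib.PGrp.TwoMax

set_option autoImplicit false
open Cfsg

open Subgroup Cfsg.Lib
open scoped commutatorElement
namespace Cfsg.Agent.S3918

theorem aux {G : Type*} [Group G] [Finite G] {p : ℕ} [Fact p.Prime] (hG : IsPGroup p G) (hna : ¬ IsMulCommutative G)
    (h : ∀ H : Subgroup G, ¬ IsCyclic ↥H → Subgroup.centralizer (H : Set G) ≤ H) {E : Subgroup G} [E.Normal]
    (hE : IsElementaryAbelian p E) (hE2 : Nat.card E = p ^ 2) : Nat.card G = p ^ 3 := by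
  have hp : p.Prime := Fact.out
  have h1 := h E (PGrp.not_isCyclic_of_isElementaryAbelian hE (by rw [hE2]; nlinarith [hp.one_lt]))
  have h2 := (Nat.le_of_dvd (Nat.pos_of_ne_zero index_ne_zero_of_finite) (index_dvd_of_le h1)).trans (PGrp.index_centralizer_le_of_card_le_sq hG E hE2.le)
  rcases PGrp.eq_top_or_index_eq hG h2 with h3 | h3
  · exact absurd ⟨⟨PGrp.isMulCommutative_top_iff.1 (h3 ▸ hE.1)⟩⟩ hna
  · rw [← E.card_mul_index, hE2, h3, ← pow_succ]

/-- Say that a group has self-centralizing non-cyclic subgroups when every non-cyclic subgroup H satisfies C_G(H) ≤ H. For an odd prime p, a finite non-abelian p-group has self-centralizing non-cyclic subgroups if and only if it has order p³. -/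
theorem result {G : Type*} [Group G] [Finite G] {p : ℕ} [Fact p.Prime] (hp : p ≠ 2) (hG : IsPGroup p G) (hna : ¬ IsMulCommutative G) :
    (∀ H : Subgroup G, ¬ IsCyclic ↥H → Subgroup.centralizer (H : Set G) ≤ H) ↔ Nat.card G = p ^ 3 := by
  have hp' : p.Prime := Fact.out
  refine ⟨fun h => ?_, fun h H hH => ?_⟩
  · by_contra h1
    rcases PGrp.isCyclic_or_max2 hG (fun E _ hE hE2 => h1 (aux hG hna h hE hE2)) with h2 | h2
    exacts [hna h2.isMulCommutative, hp h2.1]
  by_contra h1
  have h2 := PGrp.pow_succ_le_card_of_lt (hG.to_subgroup H) (k := 1) (not_le.1 fun e => hH (PGrp.isCyclic_of_card_le (hG.to_subgroup H) (e.trans (pow_one p).le)))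
  have h3 := PGrp.mul_card_le_of_lt (hG.to_subgroup _) (lt_of_le_of_ne (le_sup_left : H ≤ H ⊔ centralizer (H : Set G)) fun e => h1 (le_sup_right.trans e.ge))
  have h4 := (H ⊔ centralizer (H : Set G)).card_le_card_group
  have h5 : Nat.card H ≤ p ^ 2 := Nat.le_of_mul_le_mul_left (h3.trans (h4.trans (h.trans (pow_succ' p 2)).le)) hp'.pos
  have hA := PGrp.isMulCommutative_of_card_le_sq (hG.to_subgroup H) h5
  have h6 : H ⊔ centralizer (H : Set G) = ⊤ := by
    refine eq_top_of_le_card _ (h.le.trans (le_trans ?_ h3))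
    rw [pow_succ']; exact Nat.mul_le_mul_left p h2
  have h7 : H ≤ center G := centralizer_eq_top_iff_subset.1 (eq_top_iff.2 (h6.ge.trans (sup_le (fun x hx y hy => PGrp.comm_of_mem hA hy hx) le_rfl)))
  obtain ⟨b, hb⟩ := PGrp.exists_sup_zpowers_eq_top_of_index_le hG (M := H) (Nat.le_of_mul_le_mul_left (c := p ^ 2)
    ((Nat.mul_le_mul_right _ h2).trans (H.card_mul_index.trans (h.trans (pow_succ p 2))).le) (pow_pos hp'.pos 2))
  exact hna ⟨⟨PGrp.comm_of_sup_zpowers_eq_top h7 hb⟩⟩

end Cfsg.Agent.S3918
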