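import Cfsg.Statements.S3919
import Cfsg.Agent.S3918

set_option autoImplicit false
open Cfsg

open Subgroup Cfsg.Lib
open scoped commutatorElement
namespace Cfsg.Agent.S3919

/-- Say that a group has self-centralizing non-cyclic subgroups when every non-cyclic subgroup H satisfies C_G(H) ≤ H. A finite non-abelian 2-group G of order 2^n has self-centralizing non-cyclic subgroups if and only if G has nilpotency class n − 1 (that is, G is dihedral, semidihedral or generalized quaternion). -/
theorem result {G : Type*} [Group G] [Finite G] (hna : ¬ IsMulCommutative G) (n : ℕ) (hG : Nat.card G = 2 ^ n) :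
    (∀ H : Subgroup G, ¬ IsCyclic ↥H → Subgroup.centralizer (H : Set G) ≤ H) ↔ (⊤ : Subgroup G).lowerCentralSeries (n - 2) ≠ ⊥ := by
  have hG2 : IsPGroup 2 G := IsPGroup.of_card hG
  have := hG2.isNilpotent
  refine ⟨fun h => ?_, fun h H hH => ?_⟩
  · by_cases h1 : Nat.card G = 2 ^ 3
    · obtain rfl : n = 3 := Nat.pow_right_injective le_rfl (hG.symm.trans h1)
      intro h2
      exact hna ⟨⟨fun x y => commutatorElement_eq_one_iff_mul_comm.1 (mem_bot.1 (h2.le (commutator_mem_commutator (mem_top x) (mem_top y))))⟩⟩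
    rcases PGrp.isCyclic_or_max2 hG2 (fun E _ hE hE2 => h1 (S3918.aux hG2 hna h hE hE2)) with h2 | ⟨-, a, b, m, h2, -⟩
    · exact absurd h2.isMulCommutative hna
    obtain rfl : n = m + 3 := Nat.pow_right_injective le_rfl (hG.symm.trans h2.card)
    rw [Ne, Subgroup.lowerCentralSeries_eq_bot_iff_nilpotencyClass_le, h2.maxClass]; omega
  have hn : 3 ≤ n := by
    by_contra hn
    exact hna ⟨⟨PGrp.isMulCommutative_top_iff.1 (PGrp.isMulCommutative_of_card_le_sq (hG2.to_subgroup ⊤)
      (by rw [card_top, hG]; exact Nat.pow_le_pow_right two_pos (by omega)))⟩⟩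
  have h1 := PGrp.lcs_eq_bot_of_card_le hG2 (k := n - 2) (by rw [hG, show n - 2 + 2 = n by omega])
  rw [Ne, Subgroup.lowerCentralSeries_eq_bot_iff_nilpotencyClass_le] at h
  rw [Subgroup.lowerCentralSeries_eq_bot_iff_nilpotencyClass_le] at h1
  obtain ⟨a, b, hm⟩ := PGrp.exists_max2_of_maxClass hn hG (by omega)
  have := hm.normal
  obtain ⟨x, hx, hxa⟩ : ∃ x ∈ H, x ∉ zpowers a := by
    by_contra! h; exact hH (PGrp.isCyclic_of_le' inferInstance h)
  have h2 := PGrp.card_commutator_mul inferInstance (PGrp.sup_zpowers_eq_top_of_index_two hm.index hxa)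
  have h3 := (commutator G).card_mul_index
  have h4 := (zpowers a).card_mul_index
  rw [hm.index_commutator] at h3
  rw [hm.index] at h4
  have h5 : Nat.card ↥(zpowers a ⊓ centralizer {x}) = 2 := Nat.eq_of_mul_eq_mul_left (Nat.card_pos (α := commutator G)) (by omega)
  have h6 : zpowers a ⊓ centralizer {x} ≤ H := by
    refine (PGrp.le_of_card_dvd_of_isCyclic inferInstance inf_le_left (inf_le_right : H ⊓ zpowers a ≤ _) ?_).trans inf_le_left
    obtain ⟨_ | k, hk⟩ := PGrp.exists_card_eq_pow hG2 (H ⊓ zpowers a)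
    · have := PGrp.card_le_card_inf_mul_index (zpowers a) H
      exact absurd (PGrp.isCyclic_of_card_le (hG2.to_subgroup H) (by rwa [hk, hm.index] at this)) hH
    · rw [h5, hk]; exact dvd_pow_self 2 k.succ_ne_zero
  intro c hc
  have hc' : c ∈ centralizer {x} := mem_centralizer_singleton_iff.2 (hc x hx).symm
  by_cases h7 : c ∈ zpowers a
  · exact h6 ⟨h7, hc'⟩
  · simpa using mul_mem (h6 (x := c * x) ⟨(mul_mem_iff_of_index_two hm.index).2 (iff_of_false h7 hxa),
      mul_mem hc' (mem_centralizer_singleton_iff.2 rfl)⟩) (inv_mem hx)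

end Cfsg.Agent.S3919
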