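import Cfsg.Statements.S3920
import Cfsg.Agent.Lib.PGrp.Cyclic

set_option autoImplicit false
open Cfsg

open Subgroup Cfsg.Lib
open scoped commutatorElement
open DihedralGroup
namespace Cfsg.Agent.S3920

/-- Say that a group has self-centralizing non-cyclic subgroups when every non-cyclic subgroup H satisfies C_G(H) ≤ H. For n ≥ 3, the dihedral group of order 2n has self-centralizing non-cyclic subgroups if and only if n is odd or a power of 2. -/
theorem result (n : ℕ) (hn : 3 ≤ n) : (∀ H : Subgroup (DihedralGroup n), ¬ IsCyclic ↥H → Subgroup.centralizer (H : Set (DihedralGroup n)) ≤ H) ↔ (Odd n ∨ ∃ k : ℕ, n = 2 ^ k) := by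
  have : NeZero n := ⟨by omega⟩
  have hr : ∀ i, (r i : DihedralGroup n) ∈ zpowers (r 1) := fun i => by
    obtain ⟨k, rfl⟩ := ZMod.natCast_zmod_surjective i
    rw [← r_one_pow]; exact pow_mem (mem_zpowers _) _
  have ho : ∀ j, orderOf (r j : DihedralGroup n) ∣ n := fun j => (orderOf_dvd_of_mem_zpowers (hr j)).trans orderOf_r_one.dvd
  refine ⟨fun h => ?_, fun h H hH => ?_⟩
  · by_contra! h1
    obtain ⟨m, rfl⟩ := even_iff_two_dvd.1 (Nat.not_odd_iff_even.1 h1.1)
    obtain ⟨p, hp, hpn, hp2⟩ : ∃ p : ℕ, p.Prime ∧ p ∣ 2 * m ∧ p ≠ 2 := by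
      by_contra! h2
      exact h1.2 _ (Nat.eq_prime_pow_of_unique_prime_dvd (NeZero.ne _) fun hd hd' => h2 _ hd hd')
    let f : DihedralGroup (2 * m) → ZMod (2 * m) := fun x => match x with | r i => i | sr i => i
    let H : Subgroup (DihedralGroup (2 * m)) :=
      { carrier := {x | (p : ZMod (2 * m)) * f x = 0}
        one_mem' := mul_zero _
        mul_mem' := by rintro (i | i) (j | j) h1 h2 <;> simp_all [f, mul_add, mul_sub]
        inv_mem' := by rintro (i | i) h1 <;> simp_all [f] }
    have hm : (m : ZMod (2 * m)) + m = 0 := by rw [← two_mul]; exact_mod_cast ZMod.natCast_self (2 * m)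
    obtain ⟨l, hl⟩ := hpn
    have h2 : r (m : ZMod (2 * m)) ∈ H := h H (fun hc => ?_) (by
      rintro (i | i) -
      · simp [add_comm]
      · simp [sub_eq_add_neg, neg_eq_of_add_eq_zero_left hm])
    · have h3 : 2 * m ∣ p * m := (ZMod.natCast_eq_zero_iff _ _).1 (by push_cast; exact h2)
      exact hp2 ((Nat.prime_dvd_prime_iff_eq Nat.prime_two hp).1 (Nat.dvd_of_mul_dvd_mul_right (by omega) h3)).symm
    · have h3 := PGrp.comm_of_mem (PGrp.isMulCommutative_of_isCyclic hc) (x := r l) (y := sr 0)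
        (show (p : ZMod (2 * m)) * l = 0 by rw [← Nat.cast_mul, ← hl, ZMod.natCast_self]) (mul_zero (p : ZMod (2 * m)))
      simp only [r_mul_sr, sr_mul_r, sr.injEq, zero_sub, zero_add] at h3
      have h4 : 2 * m ∣ 2 * l := (ZMod.natCast_eq_zero_iff _ _).1 (by push_cast; linear_combination -h3)
      rw [hl] at h4
      exact hp2 ((Nat.prime_dvd_prime_iff_eq hp Nat.prime_two).1 (Nat.dvd_of_mul_dvd_mul_right (Nat.pos_of_ne_zero (by rintro rfl; omega)) h4))
  obtain ⟨i, hi⟩ : ∃ i, sr i ∈ H := by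
    by_contra! h1
    exact hH (PGrp.isCyclic_of_le' (C := zpowers (r 1)) inferInstance (by rintro (j | j) hj; exacts [hr j, absurd hj (h1 j)]))
  have key : ∀ j : ZMod n, j + j = 0 → r j ∈ H := fun j hj => by
    have hj2 : (r j : DihedralGroup n) ^ 2 = 1 := by rw [sq, r_mul_r, hj]; rfl
    rcases h with h | ⟨k, hk⟩
    · rw [orderOf_eq_one_iff.1 (Nat.eq_one_of_dvd_coprimes h.coprime_two_left (orderOf_dvd_of_pow_eq_one hj2) (ho j))]
      exact one_mem _
    obtain ⟨l, hl, hl1⟩ : ∃ l, r l ∈ H ∧ (r l : DihedralGroup n) ≠ 1 := by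
      by_contra! h1
      refine hH (PGrp.isCyclic_of_le' (C := zpowers (sr i)) inferInstance ?_)
      rintro (j | j) hj
      · exact h1 j hj ▸ one_mem _
      · have := h1 _ (by simpa using mul_mem hi hj)
        rw [show j = i from sub_eq_zero.1 (r.inj this)]; exact mem_zpowers _
    refine zpowers_le.2 hl (PGrp.mem_zpowers_of_pow_eq_one inferInstance (hr j) (hr l) ?_)
    obtain ⟨_ | t, -, ht⟩ := (Nat.dvd_prime_pow Nat.prime_two).1 ((ho l).trans hk.dvd)
    · exact absurd (orderOf_eq_one_iff.1 ht) hl1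
    · rw [ht, pow_succ', pow_mul, hj2, one_pow]
  rintro (j | j) hj
  · have := hj _ hi
    simp only [r_mul_sr, sr_mul_r, sr.injEq] at this
    exact key j (by linear_combination this)
  · have := hj _ hi
    simp only [sr_mul_sr, r.injEq] at this
    simpa using mul_mem hi (key (j - i) (by linear_combination this))

end Cfsg.Agent.S3920
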