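import Cfsg.Statements.S3921
import Cfsg.Agent.Lib.Exc.CIT5
import Cfsg.Agent.Lib.Known.PSL2
import Cfsg.Agent.Lib.Linear.Card
import Cfsg.Agent.Lib.Invol.Sylow2
import Cfsg.Agent.Lib.Invol.Classes
import Cfsg.Agent.Lib.Core.Subnormal
import Cfsg.Agent.Lib.Clifford.Dot

set_option autoImplicit false
open Cfsg

namespace Cfsg.Agent.S3921

open Subgroup Cfsg.Lib Cfsg.Lib.Invol Cfsg.Lib.Known

abbrev SC (G : Type*) [Group G] : Prop := ∀ H : Subgroup G, ¬ IsCyclic H → centralizer (H : Set G) ≤ H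

section
variable {G : Type*} [Group G] [Finite G] (h : SC G)
include h

theorem mem_pair {a b c : G} (hn : ¬ IsCyclic (closure ({a, b} : Set G))) (ha : Commute c a) (hb : Commute c b) :
    c ∈ closure ({a, b} : Set G) := h _ hn (by
  rw [centralizer_closure]
  rintro _ (rfl | rfl)
  exacts [ha.symm, hb.symm])

theorem mem_four {a b c : G} (a2 : orderOf a = 2) (b2 : orderOf b = 2) (hab : a ≠ b) (ha : Commute c a) (hb : Commute c b) :
    c ∈ closure ({a, b} : Set G) :=
  mem_pair h (fun hc => hab (eq_of_isCyclic hc (subset_closure (by simp)) (subset_closure (by simp)) a2 b2)) ha hb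

theorem two_group {t a b : G} (ht : orderOf t = 2) (a2 : orderOf a = 2) (b2 : orderOf b = 2) (ha : Commute t a) (hb : Commute t b) :
    IsPGroup 2 (closure ({a, b} : Set G)) := by
  obtain ⟨k, m, hm, e⟩ := Nat.exists_eq_two_pow_mul_odd (orderOf_pos (a * b)).ne'
  have h1 := conj_pow_of_inv (left_inverts (mul_self_of_two a2) (mul_self_of_two b2)) (2 ^ k)
  have h2 : orderOf ((a * b) ^ 2 ^ k) = m := by
    rw [orderOf_pow' _ (by positivity), e, Nat.gcd_mul_right_left, Nat.mul_div_cancel_left _ (by positivity)]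
  have h3 : (a * b) ^ 2 ^ k = 1 := by
    have h4 := (ha.mul_right hb).pow_right (2 ^ k)
    generalize (a * b) ^ 2 ^ k = y at *
    by_contra hy
    have h5 : ¬ Commute a y := fun hc => by
      rw [hc.eq, mul_inv_cancel_right, eq_inv_iff_mul_eq_one] at h1
      rw [two_of_mul_self h1 hy] at h2
      exact absurd (h2 ▸ hm) (by decide)
    obtain ⟨j, rfl | rfl⟩ := (mem_closure_pair_iff (h1 ▸ inv_mem (mem_zpowers y)) (mul_self_of_two a2 ▸ one_mem _) t).1
      (mem_pair h (fun hc => h5 (congrArg Subtype.val (hc.isMulCommutative.is_comm.comm (⟨a, subset_closure (by simp)⟩ :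
        closure ({a, y} : Set G)) ⟨y, subset_closure (by simp)⟩))) ha h4)
    · exact hm.not_two_dvd_nat (ht ▸ h2 ▸ orderOf_dvd_of_mem_zpowers (zpow_mem (mem_zpowers y) j))
    · simpa using h5 (by simpa using h4.mul_left ((Commute.refl y).zpow_left j).inv_left)
  rintro ⟨d, hd⟩
  obtain ⟨j, rfl | rfl⟩ := (mem_closure_invols_iff (mul_self_of_two a2) (mul_self_of_two b2) d).1 hd
  · exact ⟨k, Subtype.ext (by simp only [coe_pow, coe_one]; rw [← zpow_natCast, zpow_comm, zpow_natCast, h3, one_zpow])⟩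
  · exact ⟨1, Subtype.ext (by
      simp only [coe_pow, coe_one]
      rw [pow_one, sq, mul_zpow_mul_self (left_inverts (mul_self_of_two a2) (mul_self_of_two b2)), mul_self_of_two a2])⟩

theorem two_cent {t a : G} (ht : orderOf t = 2) (a2 : orderOf a = 2) (hne : a ≠ t) (ha : Commute t a) :
    IsPGroup 2 (centralizer ({t} : Set G)) := by
  classical
  set K := centralizer ({t} : Set G)
  have hK : ∀ {g}, g ∈ K ↔ Commute t g := fun {g} => mem_centralizer_singleton_iff.trans eq_comm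
  have h1 : ∀ b, orderOf b = 2 → Commute t b → b ∈ (pCore 2 K).map K.subtype := fun b b2 hb =>
    Core.baer_suzuki_of_le Nat.prime_two (zpowers_le.2 (hK.2 hb)) (fun g hg => (two_group h ht b2 (b := g * b * g⁻¹)
      (by rw [orderOf_conj, b2]) hb (hK.1 (mul_mem (mul_mem hg (hK.2 hb)) (inv_mem hg)))).to_le (by
        rw [MonoidHom.map_zpowers]
        exact sup_le (zpowers_le.2 (subset_closure (by simp))) (zpowers_le.2 (subset_closure (by simp))))) (mem_zpowers b)
  have h2 : IsPGroup 2 ((pCore 2 K).map K.subtype) := (Core.isPGroup_pCore (p := 2) (G := K)).map _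
  have h3 : (pCore 2 K).map K.subtype ≤ K := map_subtype_le _
  generalize (pCore 2 K).map K.subtype = Q at *
  have h4 : ∀ s : Finset G, (∀ c ∈ s, Commute c t ∧ Commute c a) → s.card ≤ 4 := fun s hs => by
    have := (isKleinFour_closure ht a2 hne.symm ha).card_four
    rw [← this, ← Clifford.card_elems]
    exact Finset.card_le_card fun c hc => Clifford.mem_elems.2 (mem_four h ht a2 hne.symm (hs c hc).1 (hs c hc).2)
  by_contra hc
  obtain ⟨x, hx, hxQ⟩ : ∃ x ∈ K, ∀ i : ℕ, x ^ 2 ^ i ≠ 1 := by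
    by_contra! hc'
    exact hc fun x => (hc' x x.2).imp fun i hi => Subtype.ext hi
  have h5 : ∀ d : ℕ, d = 1 ∨ d = 2 → x ^ d ∉ Q := fun d hd hq => by
    obtain ⟨k, hk⟩ := h2 ⟨_, hq⟩
    have := congrArg Subtype.val hk
    simp only [coe_pow, coe_one, ← pow_mul] at this
    rcases hd with rfl | rfl
    · exact hxQ k (by simpa using this)
    · exact hxQ (k + 1) (by rwa [pow_succ'])
  let E := Clifford.elems Q
  let Y := (E ×ˢ Finset.range 3).image fun z => z.1 * x ^ z.2
  have h6 : Y.card = E.card * 3 := by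
    rw [Finset.card_image_of_injOn, Finset.card_product, Finset.card_range]
    have key : ∀ q ∈ Q, ∀ q' ∈ Q, ∀ i j : ℕ, i < j → j < 3 → q * x ^ i ≠ q' * x ^ j := fun q hq q' hq' i j hij hj e =>
      h5 (j - i) (by omega) (by
        rw [show x ^ (j - i) = q'⁻¹ * q by rw [pow_sub _ hij.le, eq_inv_mul_iff_mul_eq, ← mul_assoc, ← e, mul_inv_cancel_right]]
        exact mul_mem (inv_mem hq') hq)
    rintro ⟨q, i⟩ hq ⟨q', j⟩ hq' e
    simp only [E, Finset.coe_product, Set.mem_prod, Finset.mem_coe, Clifford.mem_elems, Finset.mem_range] at hq hq' e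
    rcases lt_trichotomy i j with hij | rfl | hij
    · exact absurd e (key _ hq.1 _ hq'.1 _ _ hij hq'.2)
    · rw [mul_right_cancel e]
    · exact absurd e.symm (key _ hq'.1 _ hq.1 _ _ hij hq.2)
  have hY : ∀ y ∈ Y, y ∈ K := fun y hy => by
    obtain ⟨z, hz, rfl⟩ := Finset.mem_image.1 hy
    exact mul_mem (h3 (Clifford.mem_elems.1 (Finset.mem_product.1 hz).1)) (pow_mem hx _)
  have h7 := Finset.card_le_mul_card_image (f := fun y => y * a * y⁻¹) Y 4 fun b hb => by
    obtain ⟨y, hy, rfl⟩ := Finset.mem_image.1 hb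
    rw [← Finset.card_image_of_injective _ (mul_right_injective y⁻¹)]
    refine h4 _ fun c hc => ?_
    obtain ⟨z, hz, rfl⟩ := Finset.mem_image.1 hc
    obtain ⟨z1, z2⟩ := Finset.mem_filter.1 hz
    exact ⟨(hK.1 (mul_mem (inv_mem (hY y hy)) (hY z z1))).symm, by
      rw [commute_iff_eq, ← mul_inv_eq_iff_eq_mul, show y⁻¹ * z * a * (y⁻¹ * z)⁻¹ = y⁻¹ * (z * a * z⁻¹) * y by group, z2]; group⟩
  let S := E.filter fun g => g * g = 1
  have h8 : insert 1 (insert t (Y.image fun y => y * a * y⁻¹)) ⊆ S := fun g hg => by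
    simp only [Finset.mem_insert, Finset.mem_image] at hg
    simp only [S, E, Finset.mem_filter, Clifford.mem_elems]
    rcases hg with rfl | rfl | ⟨y, hy, rfl⟩
    · exact ⟨one_mem _, mul_one _⟩
    · exact ⟨h1 _ ht (Commute.refl _), mul_self_of_two ht⟩
    · exact ⟨h1 _ (by rw [orderOf_conj, a2]) (hK.1 (mul_mem (mul_mem (hY y hy) (hK.2 ha)) (inv_mem (hY y hy)))),
        mul_self_of_two (by rw [orderOf_conj, a2])⟩
  have h9 := Finset.card_le_card h8
  rw [Finset.card_insert_of_notMem (by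
    simp only [Finset.mem_insert, Finset.mem_image, not_or, not_exists, not_and]
    exact ⟨(ne_one_of_two ht).symm, fun y _ => ne_one_of_two (by rw [orderOf_conj, a2])⟩), Finset.card_insert_of_notMem (by
    simp only [Finset.mem_image, not_exists, not_and]
    exact fun y hy e => hne (mul_left_cancel ((mul_inv_eq_iff_eq_mul.1 e).trans (hK.1 (hY y hy)).eq)))] at h9
  have h10 := Finset.card_union_add_card_inter S (S.image (a * ·))
  have h11 : (S ∪ S.image (a * ·)).card ≤ E.card := Finset.card_le_card (Finset.union_subset (Finset.filter_subset _ _) fun g hg => by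
    obtain ⟨z, hz, rfl⟩ := Finset.mem_image.1 hg
    exact Clifford.mem_elems.2 (mul_mem (h1 a a2 ha) (Clifford.mem_elems.1 (Finset.mem_filter.1 hz).1)))
  have h12 := h4 (S ∩ S.image (a * ·)) fun c hc => by
    obtain ⟨c1, c2⟩ := Finset.mem_inter.1 hc
    obtain ⟨z, hz, rfl⟩ := Finset.mem_image.1 c2
    obtain ⟨c3, c4⟩ := Finset.mem_filter.1 c1
    refine ⟨(hK.1 (h3 (Clifford.mem_elems.1 c3))).symm, (Commute.refl a).mul_left ?_⟩
    rw [commute_iff_eq, ← inv_eq_of_mul_eq_one_right c4, mul_inv_rev, inv_of_two a2,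
      inv_eq_of_mul_eq_one_right (Finset.mem_filter.1 hz).2]
  rw [Finset.card_image_of_injective _ (mul_right_injective a)] at h10
  have : 0 < E.card := Finset.card_pos.2 ⟨1, Clifford.mem_elems.2 (one_mem _)⟩
  omega

end

theorem mem_of_cyc {G : Type*} [Group G] [Finite G] {T H C : Subgroup G} (hT : IsCyclic T) (h2 : IsPGroup 2 T) {c : G} (hc : c ∈ T)
    (c2 : orderOf c = 2) (hi : T.relIndex C = 2) (hH : H ≤ C) (hn : ¬ IsCyclic H) : c ∈ H := by
  have h1 : T ⊓ H ≠ ⊥ := fun e => by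
    have := relIndex_le_of_le_right (H := T) hH (hi ▸ two_ne_zero)
    rw [← inf_relIndex_right, e, relIndex_bot_left, hi] at this
    have h0 : 0 < Nat.card H := Nat.card_pos
    exact hn (isCyclic_of_card_dvd_prime (p := 2) (by interval_cases Nat.card H <;> norm_num))
  obtain ⟨n, h3, h4⟩ := (h2.to_inf_left (K := H)).nontrivial_iff_card.1 ((nontrivial_iff_ne_bot _).2 h1)
  obtain ⟨y, hy⟩ := exists_prime_orderOf_dvd_card' (G := ↥(T ⊓ H)) 2 (h4 ▸ dvd_pow_self 2 h3.ne')
  exact eq_of_isCyclic hT y.2.1 hc (by rw [orderOf_coe, hy]) c2 ▸ y.2.2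

theorem torus_case {F : Type*} [Field F] [Finite F] {A : Type*} [CommGroup A] [Finite A] {τ : A →* SL2 F} (h : IsTorus τ)
    (h4 : (2 : F) ≠ 0 → 4 ∣ Nat.card A → ∃ j, Nat.card A = 2 ^ j) {a : A} (ha : a ^ 2 ≠ 1) {H : Subgroup (Linear.PSL2 F)}
    (hH : H ≤ centralizer {pmk F (τ a)}) (hn : ¬ IsCyclic H) : pmk F (τ a) ∈ H := by
  have h1 : ((pmk F).comp τ).range.index = τ.range.index := by
    rw [MonoidHom.range_comp, index_map_eq _ pmk_surjective]
    intro x hx
    rcases pmk_eq_one_iff'.1 hx with rfl | rfl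
    exacts [one_mem _, h.neg]
  have h2 : ((pmk F).comp τ).range ≤ centralizer {pmk F (τ a)} := by
    rintro _ ⟨b, rfl⟩
    exact mem_centralizer_singleton_iff.2 (by simp only [MonoidHom.comp_apply, ← map_mul, mul_comm])
  have h3 := relIndex_mul_index h2
  have h0 : 0 < (centralizer {pmk F (τ a)}).index := Nat.pos_of_ne_zero index_ne_zero_of_finite
  have := h.isCyclic_range_pmk
  by_cases h5 : (2 : F) = 0 ∨ a ^ 4 ≠ 1
  · rw [h1, ← h.index_pmk ha h5, Nat.mul_eq_right h0.ne', relIndex_eq_one] at h3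
    exact absurd (isCyclic_of_le (hH.trans h3)) hn
  push Not at h5
  rw [h1, ← h.two_mul_index_pmk h5.1 ha h5.2, Nat.mul_left_inj h0.ne'] at h3
  obtain ⟨j, hj⟩ := h4 h5.1 ((orderOf_eq_prime_pow (p := 2) (n := 1) ha h5.2).symm.dvd.trans (orderOf_dvd_natCard a))
  refine mem_of_cyc this ((IsPGroup.of_card hj).of_surjective _ (MonoidHom.rangeRestrict_surjective _)) ⟨a, rfl⟩
    (two_of_mul_self ?_ fun e => ha ((h.scal a).1 (pmk_eq_one_iff.1 e))) h3 hH hn
  rw [← map_mul, SL2_sq_eq_neg_one_iff.2 ((h.trace_eq_zero_iff h5.1 ha).2 h5.2), pmk_neg, map_one]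

theorem sc_psl {F : Type*} [Field F] [Fintype F] (hF : Fintype.card F = 4 ∨ Fintype.card F = 9 ∨
    ((Fintype.card F).Prime ∧ ∃ k : ℕ, Fintype.card F = 2 ^ k + 1 ∨ Fintype.card F = 2 ^ k - 1)) : SC (Linear.PSL2 F) := by
  rw [← Nat.card_eq_fintype_card] at hF
  have h0 : 1 < Nat.card F := Finite.one_lt_card
  have h1 : (2 : F) ≠ 0 → ∀ n, n = Nat.card F - 1 ∨ n = Nat.card F + 1 → 4 ∣ n → ∃ j, n = 2 ^ j := fun h2 n hn h4 => by
    have h3 := Nat.odd_iff.1 (odd_card_of_two_ne_zero h2)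
    obtain ⟨k, hk⟩ : ∃ k : ℕ, Nat.card F = 2 ^ k + 1 ∨ Nat.card F = 2 ^ k - 1 := by
      rcases hF with h | h | h
      exacts [by omega, ⟨3, Or.inl h⟩, h.2]
    rcases k with _ | _ | k
    · omega
    · exact ⟨2, by omega⟩
    · refine ⟨k + 2, ?_⟩
      rw [pow_add, pow_add] at *
      omega
  have key : ∀ c : Linear.PSL2 F, ∀ H ≤ centralizer {c}, ¬ IsCyclic H → c ∈ H := fun c H hH hn => by
    have h2 : ∀ d, IsConj c d → (∀ H ≤ centralizer {d}, ¬ IsCyclic H → d ∈ H) → c ∈ H := fun d hd h => by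
      obtain ⟨g, rfl⟩ := isConj_iff.1 hd
      obtain ⟨y, hy, e⟩ := h (H.map (MulAut.conj g).toMonoidHom) (by
        rintro _ ⟨y, hy, rfl⟩
        simpa [mem_centralizer_singleton_iff] using mem_centralizer_singleton_iff.1 (hH hy))
        fun h => hn ((H.equivMapOfInjective _ (MulAut.conj g).injective).isCyclic.2 h)
      exact (MulAut.conj g).injective e ▸ hy
    rcases PSL2_types c with rfl | ⟨b, hb, h⟩ | ⟨a, ha, h⟩ | ⟨a, ha, h⟩
    · exact one_mem _
    · refine h2 _ h fun H hH hn => ?_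
      have h3 := index_centralizer_pmk_par hb
      have h4 := Linear.card_PSL_two (F := F)
      rw [← (centralizer {pmk F (triS 1 b)}).index_mul_card, ← mul_assoc, h3, mul_assoc, mul_comm (_ - 1) (_ + 1),
        ← Nat.sq_sub_sq, one_pow, mul_comm, Nat.mul_left_inj (by rw [Nat.sub_ne_zero_iff_lt]; nlinarith)] at h4
      have h5 := card_dvd_of_le hH
      have h6 : ∀ r, r.Prime → Nat.card F = r ^ 2 → pmk F (triS 1 b) ∈ H := fun r hr e => by
        have := Fact.mk hr
        rw [h4, e, Nat.dvd_prime_pow hr] at h5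
        obtain ⟨i, hi, h5⟩ := h5
        rcases hi.lt_or_eq with hi | rfl
        · exact absurd (isCyclic_of_card_dvd_prime (p := r) (h5 ▸ (pow_dvd_pow r (by omega)).trans (pow_one r).dvd)) hn
        · exact (eq_of_le_of_card_ge hH (by rw [h4, e, h5])).ge (mem_centralizer_singleton_iff.2 rfl)
      rcases hF with e | e | e
      · exact h6 2 Nat.prime_two e
      · exact h6 3 Nat.prime_three e
      · have := Fact.mk e.1
        exact absurd (isCyclic_of_card_dvd_prime (h4 ▸ h5)) hn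
    · exact h2 _ h fun H => torus_case isTorus_torusS (fun e => h1 e _ (Or.inl (Nat.card_units F))) ha
    · exact h2 _ h fun H => torus_case isTorus_singerS (fun e => h1 e _ (Or.inr card_U1)) ha
  exact fun H hn c hc => key c H (fun y hy => mem_centralizer_singleton_iff.2 (hc y hy)) hn


/-- Say that a group has self-centralizing non-cyclic subgroups when every non-cyclic subgroup H satisfies C_G(H) ≤ H. A non-abelian finite simple group has self-centralizing non-cyclic subgroups if and only if it is isomorphic to PSL₂(q) with q = 4, q = 9, or q a prime of the form 2^k + 1 or 2^k − 1. -/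
theorem result {G : Type*} [Group G] [Finite G] [IsSimpleGroup G] (hna : ¬ IsMulCommutative G) :
    (∀ H : Subgroup G, ¬ IsCyclic ↥H → Subgroup.centralizer (H : Set G) ≤ H) ↔ ∃ (F : Type) (_ : Field F) (_ : Fintype F),
      (Fintype.card F = 4 ∨ Fintype.card F = 9 ∨ ((Fintype.card F).Prime ∧ ∃ k : ℕ, Fintype.card F = 2 ^ k + 1 ∨ Fintype.card F = 2 ^ k - 1)) ∧
      Nonempty (G ≃* Matrix.ProjectiveSpecialLinearGroup (Fin 2) F) := by
  refine ⟨fun h => ?_, fun ⟨F, _, _, hF, ⟨e⟩⟩ H hn c hc => ?_⟩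
  swap
  · obtain ⟨y, hy, e'⟩ := sc_psl hF (H.map e.toMonoidHom) (fun h => hn ((H.equivMapOfInjective _ e.injective).isCyclic.2 h))
      (show e c ∈ _ by
        rintro _ ⟨y, hy, rfl⟩
        simp [← map_mul, hc y hy])
    exact e.injective e' ▸ hy
  have h1 : ∀ s : G, orderOf s = 2 → ∃ t, orderOf t = 2 ∧ Commute s t ∧ t ≠ s := fun s hs => by
    by_contra! hc
    exact Exc.not_isolated (Exc.oddCore_eq_bot hna) (Exc.not_normal_cent hna (ne_one_of_two hs))
      ⟨hs, fun g hg => hc _ (by rw [orderOf_conj, hs]) hg⟩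
  have h2 : Exc.CIT G := fun s hs => let ⟨t, a, b, c⟩ := h1 s hs; two_cent h hs a c b
  obtain ⟨s, hs⟩ := exists_prime_orderOf_dvd_card' 2 (FT.even_card_of_simple G fun hh => hna ⟨⟨hh⟩⟩).two_dvd
  obtain ⟨t, ht, hc, hne⟩ := h1 s hs
  have hK := isKleinFour_closure hs ht hne.symm hc
  have hW := PGrp.isKleinFour_iff.1 hK
  by_cases hA : ∃ A : Subgroup G, IsPGroup 2 A ∧ closure {s, t} < A
  · obtain ⟨A, h3, h4⟩ := hA
    obtain ⟨F, _, _, k, -, h5, e⟩ := h2.psl_of_four (Exc.index_ne_two hna) hW.1 hW.2 (le_antisymm (h _ hK.not_isCyclic)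
      fun x hx y hy => klein_commute hK hy hx) h3 h4
    exact ⟨F, _, _, Or.inr ((Exc.card_prime_or_nine h5).symm.imp_right fun h6 => ⟨h6, k, by omega⟩), e⟩
  have h3 : ∀ u : G, orderOf u = 2 → Nat.card (centralizer ({u} : Set G)) = 2 ^ 2 := fun u hu => by
    obtain ⟨P, hP⟩ := (klein_isPGroup hK).exists_le_sylow
    obtain ⟨R, hR⟩ := (h2 u hu).exists_le_sylow
    obtain ⟨v, a, b, c⟩ := h1 u hu
    refine Nat.dvd_antisymm ((card_dvd_of_le hR).trans ?_) (Exc.four_dvd_card_cent hu a b.symm c)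
    rw [R.card_eq_multiplicity, ← P.card_eq_multiplicity, ← hP.eq_of_not_lt fun h => hA ⟨_, P.2, h⟩, hW.2]
  have h4 : Exc.AC G := fun u hu x y hx hy => congrArg Subtype.val ((IsPGroup.isMulCommutative_of_card_eq_prime_sq
    (h3 u hu)).is_comm.comm ⟨x, mem_centralizer_singleton_iff.2 hx⟩ ⟨y, mem_centralizer_singleton_iff.2 hy⟩)
  have h5 : Exc.ACT G := ⟨h4, fun a b x ha hb h0 xa xb => by
    obtain ⟨k, hk⟩ := IsPGroup.iff_orderOf.1 (h2 a ha) ⟨x, mem_centralizer_singleton_iff.2 xa⟩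
    rw [orderOf_mk] at hk
    exact h4 _ (orderOf_pow_half (orderOf_pos x).ne' (hk ▸ (Nat.even_pow.2 ⟨even_two, fun e => h0 (by simpa [e] using hk)⟩))) _ _
      (xa.pow_left _).symm (xb.pow_left _).symm⟩
  obtain ⟨u, hu, hn⟩ : ∃ u, orderOf u = 2 ∧ ¬ Commute s u := by
    by_contra! hc
    exact Exc.not_normal_cent hna (ne_one_of_two hs) (normalizer_eq_top_iff.1 (eq_top_iff.2 fun g _ =>
      (h4.mem_Hp hs).2 (hc _ (by rw [orderOf_conj, hs])).symm))
  obtain ⟨F, _, _, h6, e⟩ := h5.psl hs ht hc.symm hne hu hn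
  exact ⟨F, _, _, Or.inl (h6.trans (h3 s hs)), e⟩

end Cfsg.Agent.S3921
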