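import Cfsg.Statements.S3937
import Cfsg.Agent.Lib.Hall.MinNormal
import Cfsg.Agent.Lib.Core.Subnormal

set_option autoImplicit false
open Cfsg

namespace Cfsg.Agent.S3937

open scoped Pointwise commutatorElement
open Cfsg.Lib Cfsg.Lib.Hall

open Cfsg.Lib.Core Subgroup

theorem foldl_eq {G : Type*} [Group G] (g : G) (n : ℕ) (x : G) :
    (List.replicate n g).foldl (fun a b => a * b * a⁻¹ * b⁻¹) x =
      (fun a => a * g * a⁻¹ * g⁻¹)^[n] x := by
  induction n generalizing x with
  | zero => rfl
  | succ n ih => rw [List.replicate_succ, List.foldl_cons, ih, Function.iterate_succ_apply]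

theorem aux {G : Type*} [Group G] [Finite G] {g : G} {L : Subgroup G} (hgL : g ∈ L)
    (h : ∀ x : G, ∃ n, (fun a => a * g * a⁻¹ * g⁻¹)^[n] x = 1) : SubnormalIn L (zpowers g) := by
  induction L using WellFoundedLT.induction with
  | ind L ih =>
  by_contra hn
  have hAL : zpowers g ≤ L := zpowers_le.2 hgL
  have h0 : ∀ H : Subgroup G, zpowers g ≤ H → H < L → SubnormalIn H (zpowers g) := fun H h1 h2 =>
    ih H h2 (zpowers_le.1 h1)
  obtain ⟨M, hM, hM'⟩ := zipper hAL h0 hn
  have hAM : zpowers g ≤ M := hM' _ le_rfl (lt_of_le_of_ne hAL fun e => hn (e ▸ SubnormalIn.refl))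
  have hNM : L ⊓ normalizer (M : Set G) ≤ M := by
    refine hM' _ (le_inf hAL (hAM.trans le_normalizer)) (lt_of_le_of_ne inf_le_left fun e => hn ?_)
    exact (h0 M hAM hM).trans (SubnormalIn.of_le_normalizer hM.le (inf_eq_left.1 e))
  have key : ∀ x ∈ L, x * g * x⁻¹ * g⁻¹ ∈ M → x ∈ M := by
    intro x hx hx'
    have h1 : x * g * x⁻¹ ∈ M := by simpa using mul_mem hx' (zpowers_le.1 hAM)
    have h2 : M.map (MulAut.conj x⁻¹).toMonoidHom ≤ M := by
      refine hM' _ ?_ ?_
      · rw [zpowers_le]
        exact ⟨_, h1, by simp [mul_assoc]⟩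
      · rw [← map_conj_eq_of_mem (inv_mem hx)]
        exact (map_lt_map_iff_of_injective (MulAut.conj x⁻¹).injective).2 hM
    have h3 := map_conj_eq_iff_mem_normalizer.1 (eq_of_le_of_card_ge h2 (card_map_conj x⁻¹ M).ge)
    exact hNM ⟨hx, by simpa using inv_mem h3⟩
  have key2 : ∀ n, ∀ x ∈ L, (fun a => a * g * a⁻¹ * g⁻¹)^[n] x ∈ M → x ∈ M := by
    intro n
    induction n with
    | zero => exact fun x _ h => h
    | succ n ihn =>
      intro x hx h
      rw [Function.iterate_succ_apply] at h
      exact key x hx (ihn _ (mul_mem (mul_mem (mul_mem hx hgL) (inv_mem hx)) (inv_mem hgL)) h)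
  refine hM.not_ge fun x hx => ?_
  obtain ⟨n, hn⟩ := h x
  exact key2 n x hx (hn ▸ one_mem M)

/-- Baer's characterization of the Fitting subgroup: in a finite group G, an element g lies in the Fitting subgroup if and only if g is a left Engel element, that is, for every x there is n with [x, g, g, …, g] = 1 (n entries g, [a, b] = aba⁻¹b⁻¹). -/
theorem result {G : Type*} [Group G] [Finite G] (g : G) :
    g ∈ Cfsg.fittingSubgroup G ↔ ∀ x : G, ∃ n : ℕ, (List.replicate n g).foldl (fun a b => a * b * a⁻¹ * b⁻¹) x = 1 := by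
  simp only [foldl_eq]
  constructor
  · intro hg x
    have := isNilpotent_fitting G
    obtain ⟨n, hn⟩ := (Subgroup.isNilpotent_iff_lowerCentralSeries (fittingSubgroup G)).mp this
    refine ⟨n + 1, ?_⟩
    have key : ∀ m, (fun a => a * g * a⁻¹ * g⁻¹)^[m + 1] x ∈
        (fittingSubgroup G).lowerCentralSeries m := by
      intro m
      induction m with
      | zero =>
        exact mul_mem ((fitting_normal G).conj_mem g hg x) (inv_mem hg)
      | succ m ih =>
        rw [Function.iterate_succ_apply', Subgroup.lowerCentralSeries_succ]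
        exact commutator_mem_commutator ih hg
    have := key n
    rwa [hn, mem_bot] at this
  · intro h
    exact le_fitting_of_isSubnormal (subnormalIn_top_iff.1 (aux (mem_top g) h))
      (isNilpotent_of_isMulCommutative _) (mem_zpowers g)

end Cfsg.Agent.S3937
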