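import Cfsg.Statements.S3939
import Cfsg.Agent.Lib.Hall.MinNormal
import Cfsg.Agent.Lib.Core.Subnormal

set_option autoImplicit false
open Cfsg

namespace Cfsg.Agent.S3939

open scoped Pointwise commutatorElement
open Cfsg.Lib Cfsg.Lib.Hall

open Cfsg.Lib.Core Subgroup

theorem back {G : Type*} [Group G] (n : ℕ) (g : G) (hg : g ∈ Subgroup.upperCentralSeries G n) (x : G) :
    Group.IsNilpotent (closure ({x, g} : Set G)) := by
  induction n generalizing G with
  | zero =>
    rw [Subgroup.upperCentralSeries_zero, mem_bot] at hg
    subst hg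
    have : closure ({x, 1} : Set G) ≤ zpowers x := by
      rw [closure_le]; rintro _ (rfl | rfl)
      · exact mem_zpowers _
      · exact one_mem _
    have := isNilpotent_of_isMulCommutative (zpowers x)
    exact isNilpotent_of_le ‹_ ≤ zpowers x›
  | succ n ih =>
    rw [← Subgroup.comap_upperCentralSeries_quotient_center, mem_comap] at hg
    have h1 := ih _ hg (QuotientGroup.mk' (center G) x)
    let f : closure ({x, g} : Set G) →* closure ({QuotientGroup.mk' (center G) x,
        QuotientGroup.mk' (center G) g} : Set (G ⧸ center G)) :=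
      ((QuotientGroup.mk' (center G)).comp (Subgroup.subtype _)).codRestrict _ fun y => by
        have : (closure ({x, g} : Set G)).map (QuotientGroup.mk' (center G)) =
            closure {QuotientGroup.mk' (center G) x, QuotientGroup.mk' (center G) g} := by
          rw [MonoidHom.map_closure, Set.image_pair]
        rw [← this]
        exact mem_map_of_mem _ y.2
    refine Subgroup.isNilpotent_of_ker_le_center f fun y hy => ?_
    have h2 : (y : G) ∈ center G := by
      have := congrArg Subtype.val hy
      exact (QuotientGroup.eq_one_iff _).mp this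
    rw [mem_center_iff] at h2 ⊢
    exact fun z => Subtype.ext (h2 z)

theorem center_ne_bot {G : Type*} [Group G] [Finite G] {g : G} (hg : g ≠ 1)
    (h : ∀ x : G, Group.IsNilpotent (closure ({x, g} : Set G))) : center G ≠ ⊥ := by
  obtain ⟨p, hp, hpg⟩ := Nat.exists_prime_and_dvd (n := orderOf g) (by simpa using hg)
  have := Fact.mk hp
  set k := g ^ (orderOf g / p) with hk
  have hko : orderOf k = p := orderOf_pow_orderOf_div (orderOf_pos g).ne' hpg
  have hkm : ∀ x : G, k ∈ closure ({x, g} : Set G) := fun x =>
    pow_mem (subset_closure (by simp)) _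
  have hkp : IsPGroup p (zpowers k) := IsPGroup.of_card (n := 1) (by rw [Nat.card_zpowers, hko, pow_one])
  have h1 : zpowers k ≤ pCore p G := by
    refine le_pCore_of_le_fitting hp hkp (le_fitting_of_forall_sup_conj fun x => ?_)
    have := h x
    refine isNilpotent_of_le (K := closure ({x, g} : Set G)) ?_
    rw [zpowers_sup_map_conj, closure_le]
    have hx : x ∈ closure ({x, g} : Set G) := subset_closure (by simp)
    rintro _ (rfl | rfl)
    · exact hkm x
    · exact mul_mem (mul_mem hx (hkm x)) (inv_mem hx)
  let S : Set G := {y | (orderOf y).Coprime p}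
  have hSn : (centralizer S).Normal := ⟨fun c hc a => by
    rw [mem_centralizer_iff] at hc ⊢
    intro y hy
    have hy' : a⁻¹ * y * a ∈ S := by
      have : orderOf (a⁻¹ * y * a) = orderOf y := by
        have := (MulAut.conj a⁻¹).orderOf_eq y
        simpa using this
      change (orderOf _).Coprime p
      rw [this]; exact hy
    have := hc _ hy'
    calc y * (a * c * a⁻¹) = a * (a⁻¹ * y * a * c) * a⁻¹ := by group
      _ = a * (c * (a⁻¹ * y * a)) * a⁻¹ := by rw [this]
      _ = _ := by group⟩
  have hkS : k ∈ centralizer S := by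
    rw [mem_centralizer_iff]
    intro y hy
    have := h y
    exact commute_of_coprime_of_mem_nilpotent (L := closure ({y, g} : Set G))
      (subset_closure (by simp)) (hkm y) (by rw [hko]; exact hy)
  obtain ⟨P⟩ : Nonempty (Sylow p G) := inferInstance
  have hR : pCore p G ⊓ centralizer S ≠ ⊥ := by
    intro e
    have : k ∈ pCore p G ⊓ centralizer S := ⟨h1 (mem_zpowers k), hkS⟩
    rw [e, mem_bot] at this
    rw [this, orderOf_one] at hko
    exact hp.one_lt.ne hko
  have h2 := inf_centralizer_ne_bot_of_isPGroup (p := p) (Q := pCore p G ⊓ centralizer S) (P := P)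
    ((isPGroup_pCore p G).to_le inf_le_left) P.isPGroup' le_normalizer_of_normal hR
  obtain ⟨⟨z, ⟨hzR, hzS⟩, hzP⟩, hz1⟩ := (ne_bot_iff_exists_ne_one).mp h2
  intro e
  have htop : centralizer ({z} : Set G) = ⊤ := by
    refine eq_top_of_forall_sylow_le fun q _ _ => ?_
    by_cases hq : q = p
    · subst hq
      exact ⟨P, fun y hy => mem_centralizer_singleton_iff.mpr (hzP y hy)⟩
    · obtain ⟨Q⟩ : Nonempty (Sylow q G) := inferInstance
      refine ⟨Q, fun y hy => mem_centralizer_singleton_iff.mpr (hzS y ?_)⟩
      obtain ⟨m, hm⟩ := Q.isPGroup' ⟨y, hy⟩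
      have h3 : y ^ q ^ m = 1 := congrArg Subtype.val hm
      exact Nat.Coprime.coprime_dvd_left (orderOf_dvd_of_pow_eq_one h3)
        (Nat.Coprime.pow_left _ ((Nat.coprime_primes Fact.out hp).mpr hq))
  have hz : z ∈ center G := by
    rw [mem_center_iff]
    intro y
    have : y ∈ centralizer ({z} : Set G) := htop ▸ mem_top y
    exact mem_centralizer_singleton_iff.mp this
  rw [e, mem_bot] at hz
  exact hz1 (Subtype.ext hz)

theorem forth {G : Type*} [Group G] [Finite G] (g : G)
    (h : ∀ x : G, Group.IsNilpotent (closure ({x, g} : Set G))) :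
    ∃ n, g ∈ Subgroup.upperCentralSeries G n := by
  induction hn : Nat.card G using Nat.strong_induction_on generalizing G with
  | _ n ih =>
  by_cases hg : g = 1
  · exact ⟨0, hg ▸ one_mem _⟩
  have hZ := center_ne_bot hg h
  obtain ⟨m, hm⟩ := ih (Nat.card (G ⧸ center G)) (hn ▸ Core.card_quotient_lt hZ)
    (QuotientGroup.mk' (center G) g) (fun x => by
      obtain ⟨y, rfl⟩ := QuotientGroup.mk'_surjective (center G) x
      have := h y
      have e := isNilpotent_map (closure ({y, g} : Set G)) (QuotientGroup.mk' (center G))
      rwa [MonoidHom.map_closure, Set.image_pair] at e) rfl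
  exact ⟨m + 1, by rwa [← Subgroup.comap_upperCentralSeries_quotient_center, mem_comap]⟩

/-- In a finite group G the set of elements g such that the subgroup generated by g and x is nilpotent for every x ∈ G is exactly the hypercenter of G (the last term of the upper central series). -/
theorem result {G : Type*} [Group G] [Finite G] (g : G) :
    (∀ x : G, Group.IsNilpotent ↥(Subgroup.closure ({x, g} : Set G))) ↔ g ∈ ⨆ n : ℕ, Subgroup.upperCentralSeries G n := by
  rw [Subgroup.mem_iSup_of_directed (Subgroup.upperCentralSeries_mono G).directed_le]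
  exact ⟨forth g, fun ⟨n, hn⟩ => back n g hn⟩

end Cfsg.Agent.S3939
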