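import Cfsg.Statements.S3941
import Cfsg.Agent.Lib.Core.PCore

set_option autoImplicit false
open Cfsg

open Subgroup Cfsg.Lib
open scoped commutatorElement
namespace Cfsg.Agent.S3941

/-- Let n ≥ 5 and p an odd prime with p ≤ n, and suppose that every proper subgroup of the alternating group of degree n whose order is divisible by p has a normal Sylow p-subgroup. Then n = p. -/
theorem result (n p : ℕ) (hn : 5 ≤ n) [Fact p.Prime] (hp : p ≠ 2) (hpn : p ≤ n)
    (h : ∀ H : Subgroup ↥(alternatingGroup (Fin n)), H ≠ ⊤ → p ∣ Nat.card ↥H → Cfsg.IsPClosed p ↥H) : n = p := by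
  by_contra hne
  have hp' : p.Prime := Fact.out
  obtain ⟨m, rfl⟩ : ∃ m, n = m + 1 := ⟨n - 1, by omega⟩
  let s : Finset (Fin (m + 1)) := {0}ᶜ
  have hs : Nat.card s = m := by simp [s, Finset.card_compl]
  have : Nontrivial s := Finite.one_lt_card_iff_nontrivial.1 (by omega)
  let e := MonoidHom.ofInjective (alternatingGroup.ofSubtype_injective (s := s))
  have h1 := two_mul_nat_card_alternatingGroup (α := s)
  rw [Nat.card_perm, hs] at h1
  have h2 : p ∣ Nat.card (alternatingGroup s) := (Nat.Coprime.dvd_mul_left ((Nat.coprime_primes hp' Nat.prime_two).2 hp)).1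
    (h1 ▸ Nat.dvd_factorial hp'.pos (by omega))
  have h3 := h (alternatingGroup.ofSubtype s).range (fun h => ?_) (Nat.card_congr e.toEquiv ▸ h2)
  · obtain ⟨P⟩ := (inferInstance : Nonempty (Sylow p (alternatingGroup.ofSubtype s).range))
    have := h3 P
    by_cases hm : 5 ≤ m
    · have := alternatingGroup.isSimpleGroup (α := s) (by omega)
      rcases (e.isSimpleGroup_congr.1 this).eq_bot_or_eq_top_of_normal _ (h3 P) with h4 | h4
      · exact P.not_dvd_index (by rw [h4, index_bot]; exact Nat.card_congr e.toEquiv ▸ h2)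
      · obtain ⟨k, hk⟩ := IsPGroup.iff_card.1 (Core.isPGroup_top_iff.1 (h4 ▸ P.isPGroup'))
        rw [← Nat.card_congr e.toEquiv] at hk
        have h5 : 2 * 2 ∣ 2 * p ^ k := hk ▸ h1 ▸ Nat.dvd_factorial (by omega) (by omega)
        exact hp ((Nat.prime_dvd_prime_iff_eq Nat.prime_two hp').1 (Nat.prime_two.dvd_of_dvd_pow (Nat.dvd_of_mul_dvd_mul_left two_pos h5))).symm
    obtain rfl : m = 4 := by omega
    obtain rfl : p = 3 := by
      have := hp'.two_le
      interval_cases p <;> simp_all (config := {decide := true})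
    have h4 : ∀ x : (alternatingGroup.ofSubtype s).range, x ^ 3 = 1 → x ∈ (P : Subgroup _) := fun x hx => by
      obtain ⟨Q, hQ⟩ := (Core.isPGroup_zpowers_of_pow_eq_one (p := 3) (k := 1) hx).exists_le_sylow
      have := h3 Q
      rw [Core.sylow_eq_pCore_of_normal P, ← Core.sylow_eq_pCore_of_normal Q]
      exact zpowers_le.1 hQ
    let x : (alternatingGroup.ofSubtype s).range := ⟨⟨c[1, 2, 3], Equiv.Perm.mem_alternatingGroup.2 (by decide)⟩, (alternatingGroup.mem_range_ofSubtype_iff _ _).2 (by decide)⟩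
    let y : (alternatingGroup.ofSubtype s).range := ⟨⟨c[2, 3, 4], Equiv.Perm.mem_alternatingGroup.2 (by decide)⟩, (alternatingGroup.mem_range_ofSubtype_iff _ _).2 (by decide)⟩
    obtain ⟨k, hk⟩ := Core.isPGroup_iff_forall_mem.1 P.isPGroup' _ (mul_mem (h4 x (by decide)) (h4 y (by decide)))
    have h5 : orderOf (x * y) = 2 := orderOf_eq_prime (by decide) (by decide)
    exact absurd (Nat.prime_two.dvd_of_dvd_pow (h5 ▸ orderOf_dvd_of_pow_eq_one hk)) (by decide)
  · have : Nontrivial (Fin (m + 1)) := Fin.nontrivial_iff_two_le.2 (by omega)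
    have h4 := two_mul_nat_card_alternatingGroup (α := Fin (m + 1))
    rw [Nat.card_perm, Nat.card_fin, ← card_top, ← h, ← Nat.card_congr e.toEquiv, h1] at h4
    exact absurd h4 ((Nat.factorial_lt (by omega)).2 m.lt_succ_self).ne

end Cfsg.Agent.S3941
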