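import Cfsg.Statements.S3946
import Cfsg.Agent.Lib.Hall.Kegel

set_option autoImplicit false
open Cfsg

namespace Cfsg.Agent.S3946

open scoped Pointwise
open Cfsg.Lib Cfsg.Lib.Hall

/-- Call an automorphism α of order n of a group G splitting when x · α(x) · α²(x) ⋯ α^(n−1)(x) = 1 for every x ∈ G. A finite group admitting a splitting automorphism of prime order is nilpotent (this contains the case of a fixed-point-free automorphism of prime order). -/
theorem result {G : Type*} [Group G] [Finite G] (α : MulAut G) (hp : (orderOf α).Prime)
    (hsplit : ∀ x : G, (((List.range (orderOf α)).map (fun i : ℕ => (α ^ i) x)).prod = 1)) : Group.IsNilpotent G := by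
  let Γ := G ⋊[(Subgroup.zpowers α).subtype] (Subgroup.zpowers α)
  haveI : Finite Γ := Finite.of_equiv _ (SemidirectProduct.equivProd).symm
  let a : Subgroup.zpowers α := ⟨α, Subgroup.mem_zpowers α⟩
  have key : ∀ (x : G) (n : ℕ), ((SemidirectProduct.inl x : Γ) * SemidirectProduct.inr a) ^ n =
      SemidirectProduct.inl (((List.range n).map (fun i : ℕ => (α ^ i) x)).prod) *
        SemidirectProduct.inr (a ^ n) := by
    intro x n
    induction n with
    | zero => simp
    | succ n ih =>
      rw [pow_succ, ih, List.range_succ, List.map_append, List.prod_append, map_mul, pow_succ,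
        map_mul]
      have := SemidirectProduct.inl_aut (φ := (Subgroup.zpowers α).subtype) (a ^ n) x
      simp only [List.map_cons, List.map_nil, List.prod_cons, List.prod_nil, mul_one]
      have e : (α ^ n) x = (Subgroup.zpowers α).subtype (a ^ n) x := by simp [a]
      rw [e, this, map_inv]
      group
  have hn : Group.IsNilpotent (SemidirectProduct.inl : G →* Γ).range := by
    refine isNilpotent_of_split hp (r := SemidirectProduct.inr a) ?_ ?_
    · rw [SemidirectProduct.range_inl_eq_ker_rightHom, Subgroup.normalizer_eq_top]
      exact Subgroup.mem_top _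
    · rintro _ ⟨x, rfl⟩
      have : a ^ orderOf α = 1 := Subtype.ext (by simp [a])
      rw [key, hsplit, this]; simp
  exact Group.nilpotent_of_mulEquiv (MonoidHom.ofInjective (f := (SemidirectProduct.inl : G →* Γ)) SemidirectProduct.inl_injective).symm

end Cfsg.Agent.S3946
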