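import Cfsg.Statements.S3949
import Cfsg.Agent.Lib.Core.Basic

set_option autoImplicit false
open Cfsg

open Subgroup Cfsg.Lib
open scoped commutatorElement
namespace Cfsg.Agent.S3949

/-- Let G be a finite group and α an automorphism of G of order 2 such that the elements g·α(g)⁻¹ generate G. Let j be a positive integer such that 2^j divides the order of no element inverted by α. Then the set of values of the j-th iterate of the map c ↦ c·α(c)⁻¹ is exactly the set of elements of odd order inverted by α. -/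
theorem result {G : Type*} [Group G] [Finite G] (α : MulAut G) (hα : orderOf α = 2) (hG : Subgroup.closure (Set.range (fun c : G => c * (α c)⁻¹)) = ⊤)
    (j : ℕ) (hj : ∀ g : G, α g = g⁻¹ → ¬ 2 ^ j ∣ orderOf g) :
    Set.range ((fun c : G => c * (α c)⁻¹)^[j]) = {g : G | Odd (orderOf g) ∧ α g = g⁻¹} := by
  have h2 : ∀ x, α (α x) = x := fun x => by rw [← MulAut.mul_apply, ← sq, ← hα, pow_orderOf_eq_one]; rfl
  have key : ∀ (k : ℕ) (g : G), α g = g⁻¹ → (fun c : G => c * (α c)⁻¹)^[k] g = g ^ 2 ^ k := fun k => by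
    induction k with
    | zero => simp
    | succ k ih => intro g hg; rw [Function.iterate_succ_apply, ih _ (by simp [h2]), hg, inv_inv, ← sq, ← pow_mul, pow_succ']
  ext g
  refine ⟨?_, fun ⟨h1, h3⟩ => ?_⟩
  · rintro ⟨c, rfl⟩
    obtain _ | j := j
    · exact absurd (one_dvd _) (hj 1 (by simp))
    have h3 : α (c * (α c)⁻¹) = (c * (α c)⁻¹)⁻¹ := by simp [h2]
    rw [Function.iterate_succ_apply, key _ _ h3]
    refine ⟨Nat.not_even_iff_odd.1 fun h => hj _ h3 ?_, by rw [map_pow, h3, inv_pow]⟩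
    rw [orderOf_pow, even_iff_two_dvd, Nat.dvd_div_iff_mul_dvd (Nat.gcd_dvd_left _ _)] at h
    obtain ⟨i, hi, e⟩ := (Nat.dvd_prime_pow Nat.prime_two).1 (Nat.gcd_dvd_right (orderOf (c * (α c)⁻¹)) (2 ^ j))
    rcases hi.lt_or_eq with hi | rfl
    · rw [e, ← pow_succ] at h
      have := Nat.le_of_dvd (by positivity) (e ▸ Nat.dvd_gcd h (pow_dvd_pow 2 hi))
      exact absurd (Nat.pow_lt_pow_right one_lt_two i.lt_succ_self) this.not_gt
    · rwa [e, ← pow_succ] at h
  · obtain ⟨m, hm⟩ := exists_pow_eq_self_of_coprime (x := g) (n := 2 ^ j) (h1.coprime_two_left.pow_left j)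
    exact ⟨g ^ m, by rw [key _ _ (by rw [map_pow, h3, inv_pow]), ← pow_mul, mul_comm, pow_mul, hm]⟩

end Cfsg.Agent.S3949
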