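import Cfsg.Statements.S3950
import Cfsg.Agent.Lib.Mult.Prod
import Cfsg.Agent.S3979

set_option autoImplicit false
open Cfsg

open Cfsg.Lib.Mult Subgroup Function
open scoped commutatorElement
namespace Cfsg.Agent.S3950

/-- A finite abelian group has trivial Schur multiplier if and only if it is cyclic. -/
theorem result {G : Type*} [CommGroup G] [Finite G] : Cfsg.HasCyclicSchurMultiplier G 1 ↔ IsCyclic G := by
  classical
  refine ⟨fun h => ?_, fun _ => S3979.result⟩
  obtain ⟨ι, _, n, hn, ⟨e⟩⟩ := CommGroup.equiv_prod_multiplicative_zmod_of_finite G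
  by_cases hc : Pairwise (Function.onFun Nat.Coprime n)
  · have e' := (AddEquiv.toMultiplicative (ZMod.prodEquivPi n hc).toAddEquiv).trans (MulEquiv.piMultiplicative _)
    exact isCyclic_of_surjective (e'.trans e.symm) (MulEquiv.surjective _)
  simp only [Pairwise, not_forall] at hc
  obtain ⟨i, j, hij, hc⟩ := hc
  obtain ⟨p, hp, h1, h2⟩ := Nat.Prime.not_coprime_iff_dvd.1 hc
  have : Fact p.Prime := ⟨hp⟩
  let f : G → ZMod p := fun x => ZMod.castHom h1 (ZMod p) (e x i).toAdd
  let g : G → ZMod p := fun x => ZMod.castHom h2 (ZMod p) (e x j).toAdd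
  let β : G →* G →* Multiplicative (ZMod p) := MonoidHom.mk' (fun x => MonoidHom.mk'
    (fun y => Multiplicative.ofAdd (f x * g y)) fun a b => by simp only [g, map_mul, Pi.mul_apply, toAdd_mul, map_add, mul_add, ofAdd_add])
    fun a b => MonoidHom.ext fun c => by simp only [f, map_mul, Pi.mul_apply, toAdd_mul, map_add, add_mul, ofAdd_add]; rfl
  have := Heis.finite (β := β)
  have h3 := Heis.comm_eq (β := β) (x := e.symm (Pi.mulSingle i (Multiplicative.ofAdd 1)))
    (y := e.symm (Pi.mulSingle j (Multiplicative.ofAdd 1))) (mul_comm _ _)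
  have h4 : Heis.inr β (Multiplicative.ofAdd 1) ∈ commutator (Heis β) := by
    have hβ : ∀ x y, β x y = Multiplicative.ofAdd (f x * g y) := fun _ _ => rfl
    simp only [hβ, f, g, MulEquiv.apply_symm_apply, Pi.mulSingle_eq_same, Pi.mulSingle_eq_of_ne hij, toAdd_ofAdd, map_one,
      toAdd_one, map_zero, mul_one, zero_mul, ofAdd_zero, inv_one] at h3
    exact h3 ▸ commutator_mem_commutator (mem_top _) (mem_top _)
  have h5 := ker_eq_bot_of_mult_one h (Heis.stem (β := β) fun a => by
    obtain ⟨k, hk⟩ := ZMod.natCast_zmod_surjective a.toAdd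
    rw [show a = Multiplicative.ofAdd 1 ^ k by rw [← ofAdd_nsmul, nsmul_one, hk]; rfl, map_pow]
    exact pow_mem h4 k)
  have h6 : Heis.inr β (Multiplicative.ofAdd 1) = 1 := mem_bot.1 (h5.le rfl)
  exact absurd (congrArg (fun x => x.a.toAdd) h6) one_ne_zero

end Cfsg.Agent.S3950
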