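import Cfsg.Statements.S3951
import Cfsg.Agent.Lib.Mult.Meta

set_option autoImplicit false
open Cfsg

open Cfsg.Lib.Mult Subgroup Function
open scoped commutatorElement
namespace Cfsg.Agent.S3951

/-- For positive integers `m` and `n` with `n` dividing `m`, the Schur multiplier of the abelian group `ZMod m × ZMod n` (written multiplicatively) is cyclic of order `n`. In particular the elementary abelian group of order `p ^ 2` has multiplier of order `p`. -/
theorem result (m n : ℕ) [NeZero m] [NeZero n] (hnm : n ∣ m) : Cfsg.HasCyclicSchurMultiplier (Multiplicative (ZMod m × ZMod n)) n := by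
  have := mult_meta (P := Multiplicative (ZMod m × ZMod n)) (a := Multiplicative.ofAdd (1, 0))
    (b := Multiplicative.ofAdd (0, 1)) (l := 0) (NeZero.pos m) (NeZero.pos n) one_pos (by rw [one_pow]) ⟨?_, ?_, ?_, ?_, ?_⟩
  · simpa [Nat.mul_div_cancel_left _ (NeZero.pos m), Nat.gcd_eq_right hnm] using this
  · refine eq_top_iff.2 fun x _ => ?_
    obtain ⟨i, hi⟩ := ZMod.natCast_zmod_surjective x.toAdd.1
    obtain ⟨j, hj⟩ := ZMod.natCast_zmod_surjective x.toAdd.2
    rw [show x = Multiplicative.ofAdd (1, 0) ^ i * Multiplicative.ofAdd (0, 1) ^ j from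
      Multiplicative.toAdd.injective (Prod.ext (by simp [hi]) (by simp [hj]))]
    exact mul_mem (pow_mem (subset_closure (by simp)) _) (pow_mem (subset_closure (by simp)) _)
  · simp [Prod.addOrderOf_mk]
  · simp
  · exact Multiplicative.toAdd.injective (by simp)
  · rintro j ⟨i, hi⟩
    simpa [ZMod.intCast_zmod_eq_zero_iff_dvd] using congrArg (fun x => x.toAdd.2) hi.symm

end Cfsg.Agent.S3951
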