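import Cfsg.Statements.S3952
import Cfsg.Agent.Lib.Mult.Transfer

set_option autoImplicit false
open Cfsg

open Cfsg.Lib.Mult Subgroup Function
open scoped commutatorElement
namespace Cfsg.Agent.S3952

/-- If `A` is the Schur multiplier of the finite group `Q`, then the square of the exponent of `A` divides the order of `Q`. -/
theorem result {Q : Type*} [Group Q] [Finite Q] {A : Type*} [CommGroup A] (hA : Cfsg.HasSchurMultiplier Q A) : Monoid.exponent A ^ 2 ∣ Nat.card Q := by
  have := finite_mult hA
  obtain ⟨Γ, _, _, σ, h, ⟨e⟩⟩ := hA.1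
  have h0 : Monoid.exponent A ≠ 0 := Monoid.exponent_ne_zero_of_finite
  refine (Nat.factorization_prime_le_iff_dvd (pow_ne_zero _ h0) Nat.card_pos.ne').1 fun p hp => ?_
  have : Fact p.Prime := ⟨hp⟩
  obtain ⟨a, ha⟩ := hp.exists_orderOf_eq_pow_factorization_exponent A
  obtain ⟨z, rfl⟩ := e.surjective a
  rw [e.orderOf_eq, ← orderOf_coe] at ha
  set k := (Monoid.exponent A).factorization p
  obtain ⟨P⟩ : Nonempty (Sylow p Q) := inferInstance
  let S := (P : Subgroup Q).comap σ
  have hS : S.index = (P : Subgroup Q).index := index_comap_of_surjective _ h.1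
  have hz : z.1 ∈ S := show σ z ∈ (P : Subgroup Q) by rw [MonoidHom.mem_ker.1 z.2]; exact one_mem _
  have h1 := pow_index_mem_commutator (H := S) (h.2.1 z.2) (h.2.2 z.2)
  rw [← map_subtype_commutator] at h1
  obtain ⟨y, hy, ey⟩ := h1
  have hc : (orderOf z.1).Coprime S.index := ha ▸ hS ▸ ((Nat.Prime.coprime_iff_not_dvd hp).2 P.not_dvd_index).pow_left k
  have h2 := sq_le_index hp (z := y) (k := k) (mem_center_iff.2 fun g => Subtype.ext (by
    rw [coe_mul, coe_mul, show y.1 = _ from ey]; exact mem_center_iff.1 (pow_mem (h.2.1 z.2) _) _)) hy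
    (by rw [← orderOf_coe, show y.1 = _ from ey, hc.orderOf_pow, ha]) (Z := (σ.subgroupComap P).ker)
    fun x hx => mem_center_iff.2 fun g => Subtype.ext (mem_center_iff.1 (h.2.1 (congrArg Subtype.val hx)) _)
  rw [index_ker, MonoidHom.range_eq_top.2 (σ.subgroupComap_surjective_of_surjective _ h.1), card_top,
    P.card_eq_multiplicity, ← pow_mul, Nat.pow_le_pow_iff_right hp.one_lt] at h2
  simpa [mul_comm] using h2

end Cfsg.Agent.S3952
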