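import Cfsg.Statements.S3953
import Cfsg.Agent.Lib.Mult.Transfer

set_option autoImplicit false
open Cfsg

open Cfsg.Lib.Mult Subgroup Function
open scoped commutatorElement
namespace Cfsg.Agent.S3953

/-- Let `P` be a Sylow `p`-subgroup of the finite group `G`, let `A` be the Schur multiplier of `G` and `B` that of `P`. Then the `p`-primary component of `A` is isomorphic to a direct factor of `B`: there are subgroups `C` and `D` of `B` meeting trivially and generating `B`, with `C` isomorphic to the `p`-primary component of `A`. -/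
theorem result {G : Type*} [Group G] [Finite G] (p : ℕ) [Fact p.Prime] (P : Sylow p G) {A B : Type*} [CommGroup A] [CommGroup B] (hA : Cfsg.HasSchurMultiplier G A) (hB : Cfsg.HasSchurMultiplier P B) : ∃ C D : Subgroup B, C ⊓ D = ⊥ ∧ C ⊔ D = ⊤ ∧ Nonempty (CommGroup.primaryComponent A p ≃* C) := by
  have := finite_mult hA
  obtain ⟨α, β, h⟩ := exists_transfer hA hB
  set A' := CommGroup.primaryComponent A p
  have hp : IsPGroup p A' := CommGroup.primaryComponent.isPGroup
  have hc : (Nat.card A').Coprime (P : Subgroup G).index := by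
    obtain ⟨k, hk⟩ := hp.exists_card_eq
    exact hk ▸ ((Nat.Prime.coprime_iff_not_dvd Fact.out).2 P.not_dvd_index).pow_left k
  have hb := (powCoprime hc).bijective
  have h1 : ∀ a : A', β (α a) = 1 → a = 1 := fun a ha => hb.1 (Subtype.ext (by simpa [h] using ha))
  refine ⟨(α.comp A'.subtype).range, β.ker, eq_bot_iff.2 ?_, eq_top_iff.2 fun b _ => ?_, ⟨MonoidHom.ofInjective ?_⟩⟩
  · rintro _ ⟨⟨a, rfl⟩, ha⟩
    rw [h1 a ha, map_one]; exact one_mem _
  · obtain ⟨k, hk⟩ := P.isPGroup'.exists_card_eq
    have : β b ∈ A' := CommGroup.mem_primaryComponent.2 ⟨k, by rw [← map_pow, ← hk, mult_pow_card hB, map_one]⟩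
    obtain ⟨a, ha⟩ := hb.2 ⟨_, this⟩
    rw [← mul_inv_cancel_left (α a) b]
    refine mul_mem (mem_sup_left ⟨a, rfl⟩) (mem_sup_right ?_)
    rw [MonoidHom.mem_ker, map_mul, map_inv, h, inv_mul_eq_one]; exact congrArg Subtype.val ha
  · exact (injective_iff_map_eq_one _).2 fun a ha => h1 a (by rw [show α a = 1 from ha, map_one])

end Cfsg.Agent.S3953
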