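import Cfsg.Statements.S3964
import Cfsg.Agent.Lib.Mult.Meta

set_option autoImplicit false
open Cfsg

open Cfsg.Lib.Mult Subgroup Function
open scoped commutatorElement
namespace Cfsg.Agent.S3964

theorem meta_dihedral (n : ℕ) [NeZero n] :
    IsMeta (DihedralGroup.r 1 : DihedralGroup n) (DihedralGroup.sr 0) n 2 (2 * n - 1) 0 := by
  have h0 := NeZero.pos n
  refine ⟨eq_top_iff.2 fun x _ => ?_, DihedralGroup.orderOf_r_one, ?_, by simp [sq], ?_⟩
  · have h : ∀ i, DihedralGroup.r i ∈ closure ({DihedralGroup.r 1, DihedralGroup.sr 0} : Set (DihedralGroup n)) := fun i => by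
      obtain ⟨k, rfl⟩ := ZMod.natCast_zmod_surjective i
      rw [← DihedralGroup.r_one_pow]; exact pow_mem (subset_closure (by simp)) _
    rcases x with i | i
    · exact h i
    · simpa using mul_mem (subset_closure (by simp) : DihedralGroup.sr 0 ∈ _) (h i)
  · simp [Nat.cast_sub (by omega : 1 ≤ 2 * n)]
  · rintro j ⟨i, hi⟩
    by_contra h
    obtain ⟨k, rfl⟩ := Int.not_even_iff_odd.1 fun e => h e.two_dvd
    rw [zpow_add_one, zpow_mul, zpow_two, DihedralGroup.sr_mul_self] at hi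
    simp at hi

theorem mult_dihedral (n : ℕ) [NeZero n] : Cfsg.HasCyclicSchurMultiplier (DihedralGroup n) (n.gcd 2) := by
  have h0 := NeZero.pos n
  have := mult_meta (l := 0) h0 two_pos (by omega : 0 < 2 * n - 1) ?_ (by simpa using meta_dihedral n)
  · obtain ⟨n, rfl⟩ : ∃ k, n = k + 1 := ⟨n - 1, by omega⟩
    have e1 : (n + 1).gcd (2 * (n + 1) - 1 - 1) = (n + 1).gcd 2 := by
      rw [show 2 * (n + 1) - 1 - 1 = 2 * n by omega, Nat.Coprime.gcd_mul_right_cancel_right]; simp
    have e2 : ∑ i ∈ Finset.range 2, (2 * (n + 1) - 1) ^ i = (n + 1) * 2 := by simp [Finset.sum_range_succ]; omega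
    simpa [e1, e2] using this
  · obtain ⟨n, rfl⟩ : ∃ k, n = k + 1 := ⟨n - 1, by omega⟩
    rw [show (2 * (n + 1) - 1) ^ 2 = 1 + (n + 1) * (4 * n) by rw [show 2 * (n + 1) - 1 = 2 * n + 1 by omega]; ring]
    simp [Nat.ModEq]

/-- For odd `n` the dihedral group of order `2 n` has trivial Schur multiplier. -/
theorem result (n : ℕ) (hn : Odd n) : Cfsg.HasCyclicSchurMultiplier (DihedralGroup n) 1 := by
  have : NeZero n := ⟨by rintro rfl; simp at hn⟩
  simpa [(Nat.coprime_two_right.2 hn).gcd_eq_one] using mult_dihedral n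

end Cfsg.Agent.S3964
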