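import Cfsg.Statements.S3966
import Cfsg.Agent.Lib.Mult.Hopf

set_option autoImplicit false
open Cfsg

open Cfsg.Lib.Mult Subgroup Function
open scoped commutatorElement
namespace Cfsg.Agent.S3966

/-- For even `n ≥ 2` the dicyclic group of order `4 n` is a stem extension of the dihedral group of order `2 n` with kernel of order `2`: there is a surjective homomorphism `QuaternionGroup n →* DihedralGroup n` whose kernel is central, lies in the commutator subgroup and has two elements. Together with the order of the multiplier this exhibits the dicyclic group as a Schur covering group of the dihedral group. -/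
theorem result (n : ℕ) [NeZero n] (hn : Even n) : ∃ σ : QuaternionGroup n →* DihedralGroup n, Cfsg.IsStemExtension σ ∧ Nat.card σ.ker = 2 := by
  let c := ZMod.castHom (dvd_mul_left n 2) (ZMod n)
  let σ : QuaternionGroup n →* DihedralGroup n := MonoidHom.mk' (fun x => match x with
    | .a i => .r (c i)
    | .xa i => .sr (c i)) (by rintro (i | i) (j | j) <;> simp)
  have h0 := NeZero.pos n
  have hk : σ.ker = zpowers (QuaternionGroup.a 1 ^ n) := by
    refine le_antisymm ?_ (zpowers_le.2 (by simp [σ]))
    rintro (i | i) h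
    · obtain ⟨k, rfl⟩ := ZMod.natCast_zmod_surjective i
      have : c k = 0 := DihedralGroup.r.inj h
      rw [map_natCast, ZMod.natCast_eq_zero_iff] at this
      obtain ⟨l, rfl⟩ := this
      rw [← QuaternionGroup.a_one_pow, pow_mul]; exact pow_mem (mem_zpowers _) _
    · cases h
  refine ⟨σ, ⟨?_, ?_, ?_⟩, ?_⟩
  · rintro (i | i) <;> obtain ⟨k, rfl⟩ := ZMod.natCast_zmod_surjective i
    · exact ⟨.a k, by simp [σ]⟩
    · exact ⟨.xa k, by simp [σ]⟩
  · rw [hk, zpowers_le, mem_center_iff]
    have : (n : ZMod (2 * n)) + n = 0 := by rw [← two_mul]; exact_mod_cast ZMod.natCast_self (2 * n)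
    rintro (i | i)
    · simp [add_comm]
    · simp [sub_eq_add_neg, neg_eq_of_add_eq_zero_left this]
  · obtain ⟨k, hk'⟩ := hn
    have := commutator_mem_commutator (mem_top (QuaternionGroup.a (k : ZMod (2 * n)))) (mem_top (QuaternionGroup.xa 0)⁻¹)
    rw [hk, zpowers_le]
    have e : (QuaternionGroup.xa 0 : QuaternionGroup n)⁻¹ * (QuaternionGroup.a (k : ZMod (2 * n)))⁻¹ * QuaternionGroup.xa 0 =
        QuaternionGroup.a k := by
      rw [mul_assoc, inv_mul_eq_iff_eq_mul, inv_mul_eq_iff_eq_mul]; simp
    rw [commutatorElement_def, inv_inv, mul_assoc, mul_assoc, ← mul_assoc _⁻¹, e, ← QuaternionGroup.a_one_pow, ← pow_add,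
      ← hk'] at this
    exact this
  · rw [hk, Nat.card_zpowers, orderOf_pow_of_dvd h0.ne' (by simp), QuaternionGroup.orderOf_a_one, Nat.mul_div_cancel _ h0]

end Cfsg.Agent.S3966
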