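import Cfsg.Statements.S3968
import Cfsg.Agent.Lib.FG.ExtraChar

set_option autoImplicit false
open Cfsg

open Subgroup Cfsg.Lib
open scoped commutatorElement
open Coprime Clifford Char
namespace Cfsg.Agent.S3968

/-- Let `p` be a prime and `G` a finite group with a faithful irreducible complex character of degree `p` (so `G` is an irreducible linear group in `p` variables). If `p ^ 2` divides the order of `G`, then the centre of `G` is nontrivial. -/
theorem result {G : Type*} [Group G] [Finite G] (p : ℕ) (hp : p.Prime) (χ : Cfsg.IrrCharacter G) (hdeg : χ.1 1 = p) (hfaith : ∀ g : G, χ.1 g = χ.1 1 → g = 1) (hdiv : p ^ 2 ∣ Nat.card G) : Subgroup.center G ≠ ⊥ := by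
  intro h
  have := Fact.mk hp
  obtain ⟨P⟩ := (inferInstance : Nonempty (Sylow p G))
  have hχ : CharOn P χ.1 := (irrOn_top.2 χ.2).charOn.mono le_top
  have h1 (z : G) (hz : z ∈ (P : Subgroup G) ⊓ centralizer P) (h1 : z ≠ 1) : χ.1 z = 0 :=
    (Cfsg.IsIrrCharacter.eq_zero_or_norm_eq_of_coprime χ.2 hdeg ((Nat.Prime.coprime_iff_not_dvd hp).2 fun e => P.not_dvd_index
      (e.trans (index_dvd_of_le fun x hx => mem_centralizer_singleton_iff.2 (hz.2 x hx))))).resolve_right fun e => h1 (by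
        rw [← Cfsg.IsIrrCharacter.mem_charCenter χ.2, Cfsg.IsIrrCharacter.charCenter_eq_center χ.2 (eq_bot_iff.2 fun g hg =>
          hfaith g (apply_eq_of_mem_charKer hg)), h] at e
        exact e)
  have h2 : p ^ 2 ∣ Nat.card P := P.pow_dvd_card_of_pow_dvd_card hdiv
  by_cases hc : ∀ θ ∈ Irr (P : Subgroup G), dot P χ.1 θ ≠ 0 → LinOn P θ
  · classical
    have h3 : (P : Subgroup G) ≤ centralizer P := commutator_eq_bot_iff_le_centralizer.1 (eq_bot_iff.2 fun x hx => hfaith x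
      (InvOn.eq_of_forall hχ.classOn (Subgroup.commutator_le_self _ hx) fun θ hθ e => ((irrOn_of_mem hθ).linOn_iff.1 (hc θ hθ e)) x hx))
    obtain ⟨m, hm⟩ := hχ.dot_nat (charOn_one _)
    rw [dot, Finset.sum_eq_single_of_mem 1 (mem_elems.2 (one_mem _)) fun x hx hx1 => by
      rw [h1 x ⟨mem_elems.1 hx, h3 (mem_elems.1 hx)⟩ hx1, zero_mul], inv_mul_eq_iff_eq_mul₀ (Clifford.card_ne_zero _), hdeg, Pi.one_apply, map_one,
      mul_one] at hm
    have := Nat.le_of_dvd hp.pos (h2.trans ⟨m, by exact_mod_cast hm⟩)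
    nlinarith [hp.two_le]
  push Not at hc
  obtain ⟨θ, hθ, hd, hl⟩ := hc
  have hθ := irrOn_of_mem hθ
  obtain ⟨k, hk⟩ := P.2.exists_card_eq
  obtain ⟨n, -, hn⟩ := (Nat.dvd_prime_pow hp).1 (hk ▸ hθ.deg_dvd_card)
  have h3 := hχ.deg_le_of_dot hθ hd
  rw [charDegree_of_eq hdeg] at h3
  have h4 := hχ.eq_of_dot_of_deg hθ hd (by
    rw [hdeg, hθ.one_eq, le_antisymm h3 (hn ▸ Nat.le_self_pow (by rintro rfl; exact hl (hθ.charOn.linOn_of_deg hn)) p)])
  obtain ⟨z, hz, hz1⟩ := (bot_or_exists_ne_one _).resolve_left (Core.inf_centralizer_ne_bot_of_isPGroup P.2 P.2 le_normalizer fun e => by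
    rw [e, card_bot, Nat.dvd_one, Nat.pow_eq_one] at h2; simp [hp.ne_one] at h2)
  obtain ⟨c, hc, e⟩ := FG.irr_central hθ hz.1 hz.2
  have h5 := e 1 (one_mem _)
  rw [mul_one, ← h4 z hz.1, h1 z hz hz1, eq_comm, mul_eq_zero, or_iff_left hθ.one_ne_zero] at h5
  simp [h5] at hc

end Cfsg.Agent.S3968
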