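import Cfsg.Statements.S3970
import Cfsg.Agent.Lib.FG.Act

set_option autoImplicit false
open Cfsg

open Subgroup Cfsg.Lib
open scoped commutatorElement
open Transfer
namespace Cfsg.Agent.S3970

/-- Let `G` be a finite group such that for every prime `p` dividing its order, other than the largest such prime, the Sylow `p`-subgroups are abelian and generated by at most two elements, and suppose `12` does not divide the order of `G`. Then `G` is solvable. In particular a group of cube-free order not divisible by `12` is solvable. -/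
theorem result {G : Type*} [Group G] [Finite G] (h : ∀ p : ℕ, p.Prime → p ∣ Nat.card G → (∃ q : ℕ, q.Prime ∧ q ∣ Nat.card G ∧ p < q) → ∀ P : Sylow p G, IsMulCommutative (P : Subgroup G) ∧ Group.rank (P : Subgroup G) ≤ 2) (h12 : ¬ 12 ∣ Nat.card G) : Group.IsSolvable G := by
  induction' hn : Nat.card G using Nat.strong_induction_on with n ih generalizing G
  subst hn
  rcases subsingleton_or_nontrivial G with _ | _
  · infer_instance
  have hp := Nat.minFac_prime (Finite.one_lt_card (α := G)).ne'
  set p := (Nat.card G).minFac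
  have : Fact p.Prime := ⟨hp⟩
  obtain ⟨P⟩ : Nonempty (Sylow p G) := inferInstance
  by_cases hq : ∃ q : ℕ, q.Prime ∧ q ∣ Nat.card G ∧ p < q
  swap
  · exact Hall.isSolvable_of_two_primes hp hp fun r hr hd => .inl (le_antisymm (not_lt.1 fun h => hq ⟨r, hr, hd, h⟩) (Nat.minFac_le_of_dvd hr.two_le hd))
  obtain ⟨h1, h2⟩ := h p hp (Nat.minFac_dvd _) hq P
  have h3 := FG.pnil_of_rank P h1 fun q i hq hqp hd hi h4 h5 => by
    have h6 : p < q := lt_of_le_of_ne (Nat.minFac_le_of_dvd hq.two_le hd) hqp.symm
    have h7 := ((Nat.pow_dvd_pow_iff_le_right hp.one_lt).1 (h4.trans (FG.index_frattini_dvd P.isPGroup'))).trans h2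
    have h8 : ¬ q ∣ p - 1 := fun h => by have := Nat.le_of_dvd (Nat.sub_pos_of_lt hp.one_lt) h; omega
    interval_cases i
    · exact h8 (by simpa using h5)
    rw [show p ^ 2 - 1 = (p + 1) * (p - 1) from Nat.sq_sub_sq p 1, hq.dvd_mul] at h5
    obtain rfl : q = p + 1 := le_antisymm (Nat.le_of_dvd p.succ_pos (h5.resolve_right h8)) h6
    have h9 : p = 2 := hp.eq_two_or_odd.resolve_right fun h => by have := hq.eq_two_or_odd; have := hp.two_le; omega
    rw [h9] at hd
    have h10 := h4.trans ((index_dvd_card _).trans (card_subgroup_dvd_card _))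
    rw [h9] at h10
    exact h12 (Nat.Coprime.mul_dvd_of_dvd_of_dvd (m := 4) (n := 3) (by norm_num) h10 hd)
  have h4 := h3.isComplement' P
  have := pResidual_normal (G := G) (p := p)
  have h5 : ¬ p ∣ Nat.card (pResidual p G) := hasNormalPComplement_iff_pResidual.1 (hasNormalPComplement_iff_top.2 h3)
  have := ih _ (Core.card_lt_of_ne_top (H := pResidual p G) fun e => h5 (by rw [e, card_top]; exact Nat.minFac_dvd _)) (G := pResidual p G)
    (fun r hr hd ⟨q, hq, hq', hq''⟩ R => by
      have : Fact r.Prime := ⟨hr⟩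
      obtain ⟨R', e⟩ := (sylowIn_top_of_coprime (sylowIn_map_subtype R) hd (by
        rw [h4.symm.index_eq_card]; exact (BG1.coprime_of_isPGroup_of_not_dvd hp P.isPGroup' h5).symm)).exists_sylow_top
      obtain ⟨h6, h7⟩ := h r hr (hd.trans (card_subgroup_dvd_card _)) ⟨q, hq, hq'.trans (card_subgroup_dvd_card _), hq''⟩ R'
      let f := ((R : Subgroup (pResidual p G)).equivMapOfInjective _ (subtype_injective _)).trans (MulEquiv.subgroupCongr e.symm)
      exact ⟨⟨⟨fun a b => f.injective (by rw [map_mul, map_mul, h6.is_comm.comm])⟩⟩, (Group.rank_congr f).trans_le h7⟩)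
    (fun h => h12 (h.trans (card_subgroup_dvd_card _))) rfl
  have := Core.isSolvable_of_isPGroup hp (P.isPGroup'.of_equiv h4.symm.QuotientMulEquiv.symm)
  exact Core.isSolvable_of_normal_of_quotient (pResidual p G)

end Cfsg.Agent.S3970
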