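import Cfsg.Statements.S3971
import Cfsg.Agent.Lib.FG.Act

set_option autoImplicit false
open Cfsg

open Subgroup Cfsg.Lib
open scoped commutatorElement
open Transfer
namespace Cfsg.Agent.S3971

/-- Let `G` be a finite group of order `2 ^ a * n` with `n` odd and not divisible by `3`, and suppose `G` has an element of order `2 ^ (a - 1)` (so a Sylow `2`-subgroup has a cyclic subgroup of index at most `2`). Then `G` has a normal subgroup of order `n`. -/
theorem result {G : Type*} [Group G] [Finite G] (a n : ℕ) (hG : Nat.card G = 2 ^ a * n) (hn : Odd n) (h3 : ¬ 3 ∣ n) (hx : ∃ x : G, orderOf x = 2 ^ (a - 1)) : ∃ N : Subgroup G, N.Normal ∧ Nat.card N = n := by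
  have : Fact (Nat.Prime 2) := ⟨Nat.prime_two⟩
  obtain ⟨x, hx⟩ := hx
  obtain ⟨P, hP⟩ := (IsPGroup.of_card ((Nat.card_zpowers x).trans hx)).exists_le_sylow
  have h1 : Nat.card P = 2 ^ a := by
    rw [P.card_eq_multiplicity, hG, Nat.factorization_mul (by positivity) hn.pos.ne', Finsupp.add_apply, Nat.Prime.factorization_pow Nat.prime_two,
      Nat.factorization_eq_zero_of_not_dvd hn.not_two_dvd_nat]; simp
  have h2 : IsMetacyclic P := by
    have h4 := ((zpowers x).subgroupOf P).card_mul_index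
    rw [Core.card_subgroupOf_of_le hP, Nat.card_zpowers, hx, h1] at h4
    obtain _ | a := a
    · have := (Nat.card_eq_one_iff_unique.1 h1).1
      exact PGrp.isMetacyclic_of_isCyclic inferInstance
    · exact PGrp.isMetacyclic_of_index_eq P.isPGroup' (PGrp.isCyclic_subgroupOf inferInstance _) (Nat.eq_of_mul_eq_mul_left (by positivity) h4)
  have h4 : PNil 2 (⊤ : Subgroup G) := by
    by_contra h
    obtain ⟨Q, hQ, q, hq, hq2, g, -, hk, h5, h6⟩ := (sylowIn_top P).exists_of_not_pnil h
    obtain ⟨i, hi, h7, h8⟩ := FG.exists_dvd_frattini hq hq2 (P.isPGroup'.to_le hQ) hk h5 h6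
    have h9 := (Nat.pow_le_pow_iff_right one_lt_two).1 ((Nat.le_of_dvd (Nat.pos_of_ne_zero index_ne_zero_of_finite) h7).trans
      (FG.index_frattini_le_of_isMetacyclic (P.isPGroup'.to_le hQ) (PGrp.isMetacyclic_of_le hQ h2)))
    interval_cases i
    · exact hq.one_lt.ne' (by simpa using h8)
    obtain rfl := (Nat.prime_dvd_prime_iff_eq hq Nat.prime_three).1 h8
    obtain ⟨k, hk⟩ := hk
    obtain ⟨j, -, e⟩ := (Nat.dvd_prime_pow hq).1 (orderOf_dvd_of_pow_eq_one hk)
    refine h3 ((Nat.Coprime.pow_right a (by norm_num)).dvd_of_dvd_mul_left (hG ▸ (dvd_pow_self 3 ?_).trans (e ▸ _root_.orderOf_dvd_natCard g)))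
    rintro rfl
    exact h6 ((orderOf_eq_one_iff.1 e).symm ▸ one_mem _)
  exact ⟨_, pResidual_normal, Nat.eq_of_mul_eq_mul_right (m := 2 ^ a) (by positivity) (by rw [← h1, (h4.isComplement' P).card_mul, hG, h1, mul_comm])⟩

end Cfsg.Agent.S3971
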