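import Cfsg.Statements.S3972
import Cfsg.Agent.Lib.BS.BGroup
import Cfsg.Agent.Lib.PGrp.Cyclic

set_option autoImplicit false
open Cfsg

open Subgroup Cfsg.Lib
open scoped commutatorElement
open MulAction
namespace Cfsg.Agent.S3972

/-- Let `p` be a prime, `m ≥ 2`, and `G` a transitive but not doubly transitive permutation group on `p ^ m` points containing a permutation of order `p ^ m` (necessarily a full cycle). Then `G` is imprimitive, and the normal closure in `G` of the `p ^ (m - 1)`-th power of that permutation is an intransitive normal subgroup. -/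
theorem result {Ω : Type*} [Fintype Ω] [DecidableEq Ω] (p m : ℕ) (hp : p.Prime) (hm : 2 ≤ m) (hΩ : Fintype.card Ω = p ^ m) (G : Subgroup (Equiv.Perm Ω)) (htr : MulAction.IsPretransitive G Ω) (h2 : ¬ MulAction.IsMultiplyPretransitive G Ω 2) (g : G) (hg : orderOf g = p ^ m) : ¬ MulAction.IsPreprimitive G Ω ∧ ¬ MulAction.IsPretransitive (Subgroup.normalClosure ({g ^ (p ^ (m - 1))} : Set G)) Ω := by
  have := Fact.mk hp
  obtain ⟨m, rfl⟩ := Nat.exists_eq_add_of_le' hm
  have hcyc : IsCyclic (zpowers g) := inferInstance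
  have he : orderOf (g ^ p ^ (m + 1)) = p := by
    rw [orderOf_pow_of_dvd (pow_pos hp.pos _).ne' (hg ▸ pow_dvd_pow p (by omega)), hg, pow_succ p (m + 1), Nat.mul_div_cancel_left _ (pow_pos hp.pos _)]
  have h1 : g ^ p ^ (m + 1) ≠ 1 := fun e => hp.ne_one (by rw [← he, e, orderOf_one])
  have h3 {N : Subgroup G} (h : N ⊓ zpowers g ≠ ⊥) : g ^ p ^ (m + 1) ∈ N := by
    obtain ⟨k, hk⟩ := ((IsPGroup.of_card ((Nat.card_zpowers g).trans hg)).to_le (inf_le_right (a := N))).exists_card_eq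
    refine zpowers_le.1 ((PGrp.le_of_card_dvd_of_isCyclic hcyc (zpowers_le.2 (npow_mem_zpowers g _)) inf_le_right ?_).trans inf_le_left)
    rw [Nat.card_zpowers, he, hk]
    exact dvd_pow_self p fun e => h (by rwa [e, pow_zero, card_eq_one] at hk)
  obtain ⟨a, ha⟩ : ∃ a : Ω, (g ^ p ^ (m + 1)) • a ≠ a := by
    by_contra! h; exact h1 (Subtype.ext (Equiv.ext h))
  have h4 : stabilizer (zpowers g) a = ⊥ := eq_bot_iff.2 fun x hx => Subtype.ext (by_contra fun e =>
    ha (h3 (N := stabilizer G a) fun e' => e (mem_bot.1 (e'.le ⟨hx, x.2⟩))))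
  have h5 : IsPretransitive (zpowers g) Ω := (isPretransitive_iff_orbit_eq_univ a).2 (Set.eq_of_subset_of_ncard_le (Set.subset_univ _) (by
    rw [← index_stabilizer, h4, index_bot, Nat.card_zpowers, hg, Set.ncard_univ, Nat.card_eq_fintype_card, hΩ]))
  obtain ⟨N, _, h6, h7⟩ := BS.exists_normal_intrans h5 (fun b => by
      obtain ⟨x, rfl⟩ := h5.exists_smul_eq a b
      rw [stabilizer_smul_eq_stabilizer_map_conj, h4, Subgroup.map_bot]) hp (npow_mem_zpowers g _) he
    (fun k hk e' => PGrp.mem_zpowers_of_pow_eq_one hcyc hk (npow_mem_zpowers g _) (by rwa [he]))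
    (by rw [Nat.card_zpowers, hg]; exact (Nat.pow_lt_pow_right hp.one_lt (by omega : 1 < m + 2)).ne' ∘ (·.trans (pow_one p).symm)) h2
  refine ⟨fun h => h7 (IsQuasiPreprimitive.isPretransitive_of_normal fun e => ha (e.ge (Set.mem_univ a) ⟨_, h3 h6⟩)), fun h => h7 ⟨fun x y => ?_⟩⟩
  obtain ⟨n, hn⟩ := h.exists_smul_eq x y
  exact ⟨⟨n, normalClosure_le_normal (Set.singleton_subset_iff.2 (h3 h6)) n.2⟩, hn⟩

end Cfsg.Agent.S3972
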