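import Cfsg.Statements.S3977
import Cfsg.Agent.Lib.PGrp.TwoMax

set_option autoImplicit false
open Cfsg

open Subgroup Cfsg.Lib
open scoped commutatorElement
namespace Cfsg.Agent.S3977

/-- Let `p` be a prime and `G` a group of order `p ^ m` which has exactly one subgroup of order `p ^ s`, where `1 ≤ s < m`, and where `s ≥ 2` if `p = 2`. Then `G` is cyclic. (For `p = 2` and `s = 1` the generalized quaternion groups also occur; that case is the classical criterion for a unique involution.) -/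
theorem result {G : Type*} [Group G] [Finite G] (p m s : ℕ) (hp : p.Prime) (hG : Nat.card G = p ^ m) (hs : 1 ≤ s) (hsm : s < m) (h2 : p ≠ 2 ∨ 2 ≤ s) (huniq : ∀ H K : Subgroup G, Nat.card H = p ^ s → Nat.card K = p ^ s → H = K) : IsCyclic G := by
  have := Fact.mk hp
  have hG' : IsPGroup p G := .of_card hG
  obtain ⟨H, hH⟩ := Sylow.exists_subgroup_card_pow_prime p (hG ▸ pow_dvd_pow p hsm.le)
  have key : ∀ X : Subgroup G, Nat.card X ≤ p ^ (s + 1) → ∃ b : G, X ≤ zpowers b ∧ Nat.card (zpowers b) = p ^ (s + 1) := fun X hX => by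
    obtain ⟨i, hi⟩ := PGrp.exists_card_eq_pow hG' X
    obtain ⟨B, hB, h1⟩ := Sylow.exists_subgroup_card_pow_prime_le p (hG ▸ pow_dvd_pow p hsm) X hi ((Nat.pow_le_pow_iff_right hp.one_lt).1 (hi ▸ hX))
    obtain ⟨b, hb, hbH⟩ : ∃ b ∈ B, b ∉ H := by
      by_contra! h
      have := Nat.le_of_dvd Nat.card_pos (card_dvd_of_le h)
      rw [hB, hH] at this
      exact absurd ((Nat.pow_le_pow_iff_right hp.one_lt).1 this) (by omega)
    obtain rfl : zpowers b = B := by
      by_contra h
      obtain ⟨j, hj⟩ := PGrp.exists_card_eq_pow hG' (zpowers b)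
      have h2 := PGrp.card_lt_of_lt (lt_of_le_of_ne (zpowers_le.2 hb) h)
      rw [hj, hB, Nat.pow_lt_pow_iff_right hp.one_lt] at h2
      obtain ⟨K, hK, h3⟩ := Sylow.exists_subgroup_card_pow_prime_le p (hG ▸ pow_dvd_pow p hsm.le) _ hj (by omega)
      exact hbH (huniq K H hK hH ▸ h3 (mem_zpowers b))
    exact ⟨b, h1, hB⟩
  rcases PGrp.isCyclic_or_max2 hG' fun A _ hA h => by
    obtain ⟨b, hb, -⟩ := key A (h ▸ Nat.pow_le_pow_right hp.pos (by omega))
    have := PGrp.card_le_of_isCyclic_of_pow (PGrp.isCyclic_of_le' inferInstance hb) hA.2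
    rw [h] at this
    nlinarith [hp.two_le] with h | ⟨rfl, a, b, k, h, -⟩
  · exact h
  have h3 : 2 ^ 3 ≤ 2 ^ (s + 1) := Nat.pow_le_pow_right two_pos (by omega)
  obtain ⟨c, hc, h4⟩ := key (zpowers b) ((Nat.le_of_dvd Nat.card_pos (card_dvd_of_le (zpowers_le.2
    (mem_centralizer_singleton_iff.2 rfl)))).trans (h.card_centralizer.le.trans (by omega)))
  have h5 := Nat.le_of_dvd Nat.card_pos (card_dvd_of_le (show zpowers c ≤ centralizer {b} from zpowers_le.2
    (mem_centralizer_singleton_iff.2 (PGrp.comm_of_mem inferInstance (mem_zpowers c) (hc (mem_zpowers b))))))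
  rw [h.card_centralizer] at h5
  omega

end Cfsg.Agent.S3977
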