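import Cfsg.Statements.S3978
import Cfsg.Agent.Lib.Mult.Transfer

set_option autoImplicit false
open Cfsg

open Cfsg.Lib.Mult Subgroup Function
open scoped commutatorElement
namespace Cfsg.Agent.S3978

/-- A finite group `Q` has trivial Schur multiplier if and only if, for every `n`, every homomorphism from `Q` to the projective general linear group (the quotient of `GL n ℂ` by its centre) lifts to a homomorphism into `GL n ℂ`. -/
theorem result {Q : Type*} [Group Q] [Finite Q] : Cfsg.HasCyclicSchurMultiplier Q 1 ↔ ∀ (n : ℕ) (γ : Q →* (GL (Fin n) ℂ ⧸ Subgroup.center (GL (Fin n) ℂ))), ∃ ρ : Q →* GL (Fin n) ℂ, (QuotientGroup.mk' (Subgroup.center (GL (Fin n) ℂ))).comp ρ = γ := by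
  have : Unique (Multiplicative (ZMod 1)) := inferInstanceAs (Unique (ZMod 1))
  have hk : (MonoidHom.id Q).ker = ⊥ := by ext; simp
  have : Unique (MonoidHom.id Q).ker := hk ▸ inferInstance
  refine ⟨fun h n γ => lift_to_cover h stem_id ⟨MulEquiv.ofUnique⟩ (center_GL_divisible n) γ, fun h => ?_⟩
  obtain ⟨e⟩ := cover_of_lift (stem_id (Q := Q)) h
  exact mult_congr (exists_mult Q) (e.trans MulEquiv.ofUnique)

end Cfsg.Agent.S3978
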