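import Cfsg.Statements.S3982
import Cfsg.Agent.Lib.PGrp.Cyclic
import Cfsg.Agent.Lib.Coprime.Sylow
import Cfsg.Agent.Lib.Coprime.FrobCompl

set_option autoImplicit false
open Cfsg

open Subgroup Cfsg.Lib
open scoped commutatorElement
open Transfer
namespace Cfsg.Agent.S3982

/-- Let p be an odd prime and G a finite group of even order divisible by p in which the centralizer of every non-identity p-element has odd order. If some nontrivial p-subgroup of G has a normalizer of even order, then the normalizer of every Sylow p-subgroup of G has even order. -/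
theorem result {G : Type*} [Group G] [Finite G] (p : ℕ) [Fact p.Prime] (hp2 : p ≠ 2) (hpG : p ∣ Nat.card G) (h2G : 2 ∣ Nat.card G) (hC : ∀ g : G, g ≠ 1 → (∃ k : ℕ, orderOf g = p ^ k) → Odd (Nat.card ↥(Subgroup.centralizer ({g} : Set G)))) (Q : Subgroup G) (hQ : IsPGroup p ↥Q) (hQ1 : Q ≠ ⊥) (hev : Even (Nat.card ↥(Subgroup.normalizer (Q : Set G)))) (P : Sylow p G) : Even (Nat.card ↥(Subgroup.normalizer ((P : Subgroup G) : Set G))) := by
  have hp := (Fact.out : p.Prime)
  obtain ⟨y, hy, hy1, hy2⟩ := Coprime.exists_involution_of_two_dvd hev.two_dvd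
  have ho : orderOf y = 2 := orderOf_eq_prime (by rw [sq, hy2]) hy1
  obtain ⟨R, ⟨hR, hyR⟩, hQR, hmax⟩ := PGrp.exists_maximal_subgroup_ge (fun R : Subgroup G => IsPGroup p R ∧ y ∈ normalizer (R : Set G)) ⟨hQ, hy⟩
  have hC' : ∀ g ∈ R, g ≠ 1 → Odd (Nat.card (centralizer ({g} : Set G))) := fun g hg h => hC g h (by
    obtain ⟨k, hk⟩ := IsPGroup.iff_orderOf.1 hR ⟨g, hg⟩
    exact ⟨k, (orderOf_coe ⟨g, hg⟩).trans hk⟩)
  have hinv : ∀ g ∈ R, y * g * y⁻¹ = g⁻¹ := fun g => Coprime.conj_eq_inv_of_fpf hyR hy2 (eq_bot_iff.2 fun g hg => by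
    by_contra h
    exact (hC' g hg.1 h).not_two_dvd_nat (ho ▸ orderOf_dvd_natCard _ (mem_centralizer_singleton_iff.2 (mem_centralizer_singleton_iff.1 hg.2).symm)))
  obtain ⟨g, hg, hg1⟩ := (Subgroup.bot_or_exists_ne_one Q).resolve_left hQ1
  have hodd : Odd (Nat.card (centralizer (R : Set G))) := (hC' g (hQR hg) hg1).of_dvd_nat (card_dvd_of_le (centralizer_le (by simpa using hQR hg)))
  obtain ⟨T, hRT, hT⟩ := exists_sylowIn_ge hR le_normalizer
  have hTC : T ≤ normalizer (centralizer (R : Set G) : Set G) := hT.le.trans (Coprime.normalizer_le_normalizer_centralizer_set _)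
  have hK : SylowIn p R (centralizer (R : Set G) ⊔ T) := by
    refine Coprime.sylowIn_of_maximal_invariant (A := zpowers y) (zpowers_le.2 (Core.mem_normalizer_of_conj_mem fun z hz => ?_)) ?_
      (.inl (Coprime.isSolvable_zpowers y)) (hRT.trans le_sup_right) hR (zpowers_le.2 hyR) fun U _ hU h1 h2 => (hmax U ⟨hU, h1 (mem_zpowers y)⟩ h2).le
    · have hz' : z ∈ normalizer (R : Set G) := sup_le (centralizer_le_normalizer _) hT.le hz
      refine (mul_mem_cancel_right (inv_mem hz)).1 (mem_sup_left fun r hr => ?_)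
      have h1 := hinv _ (Core.conj_mem_of_mem_normalizer (inv_mem hz') hr)
      have h2 := hinv _ (Core.conj_mem_of_mem_normalizer (inv_mem hyR) hr)
      have h3 := hinv _ (Core.conj_mem_of_mem_normalizer (mul_mem hz' (inv_mem hyR)) (Core.conj_mem_of_mem_normalizer (inv_mem hz') hr))
      have h4 : y⁻¹ * (z⁻¹ * r * z) * y = (z⁻¹ * r * z)⁻¹ := by
        rw [show y⁻¹ = y from inv_eq_of_mul_eq_one_right hy2] at h1 ⊢
        simpa using h1
      refine (mul_inv_eq_iff_eq_mul.1 ?_).symm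
      calc _ = y * (z * (y⁻¹ * (z⁻¹ * r * z) * y) * z⁻¹) * y⁻¹ := by group
        _ = (y * r * y⁻¹)⁻¹ := by rw [h4]; group
        _ = r := by rw [hinv r hr, inv_inv]
    · rw [Nat.card_zpowers, ho, Nat.coprime_two_left, ← PGrp.card_mul_relIndex_of_le le_sup_left, Coprime.relIndex_sup_of_le_normalizer' hTC]
      obtain ⟨n, hn⟩ := hT.isPGroup.exists_card_eq
      exact hodd.mul (((hp.odd_of_ne_two hp2).pow (n := n)).of_dvd_nat (hn ▸ relIndex_dvd_card _ _))
  obtain rfl := hK.eq_of_le hT.isPGroup hRT le_sup_right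
  obtain ⟨h, -, e⟩ := (Coprime.sylowIn_of_sylowIn_normalizer (K := ⊤) (by rwa [top_inf_eq])).exists_cj_eq (sylowIn_top P)
  rw [← e, ← cj_normalizer, card_cj]
  exact even_iff_two_dvd.2 (ho ▸ orderOf_dvd_natCard _ hyR)

end Cfsg.Agent.S3982
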