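import Cfsg.Statements.S3984
import Cfsg.Agent.Lib.FG.TI

set_option autoImplicit false
open scoped Pointwise
open Cfsg

open Subgroup Cfsg.Lib
open scoped commutatorElement
open Transfer
namespace Cfsg.Agent.S3984

/-- Let P be a Sylow p-subgroup of the finite group G that meets each conjugate g P g⁻¹ with g outside N_G(P) trivially, and let N be a normal subgroup of G of order prime to p. Then every Sylow p-subgroup Q of G ⧸ N meets each conjugate x Q x⁻¹ with x outside its normalizer trivially. -/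
theorem result {G : Type*} [Group G] [Finite G] (p : ℕ) [Fact p.Prime] (P : Sylow p G) (hTI : ∀ g : G, g ∉ Subgroup.normalizer ((P : Subgroup G) : Set G) → (P : Subgroup G) ⊓ (MulAut.conj g • (P : Subgroup G)) = ⊥) (N : Subgroup G) [N.Normal] (hN : (Nat.card ↥N).Coprime p) (Q : Sylow p (G ⧸ N)) : ∀ x : G ⧸ N, x ∉ Subgroup.normalizer ((Q : Subgroup (G ⧸ N)) : Set (G ⧸ N)) → (Q : Subgroup (G ⧸ N)) ⊓ (MulAut.conj x • (Q : Subgroup (G ⧸ N))) = ⊥ := by
  refine (FG.ti_iff Q).2 fun R R' h => ?_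
  let f := QuotientGroup.mk' N
  have hf : ∀ K : Subgroup (G ⧸ N), (K.comap f).map f = K := map_comap_eq_self_of_surjective (QuotientGroup.mk'_surjective N)
  obtain ⟨X, hX⟩ := exists_sylowIn p (((R : Subgroup (G ⧸ N)) ⊓ R').comap f)
  have key : ∀ R : Sylow p (G ⧸ N), X ≤ (R : Subgroup (G ⧸ N)).comap f → ∃ T : Sylow p G, X ≤ T ∧ (T : Subgroup G).map f = R := fun R hR => by
    obtain ⟨S, h1, h2⟩ := exists_sylowIn_ge hX.isPGroup hR
    obtain ⟨T, hT⟩ := h2.isPGroup.exists_le_sylow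
    have h3 := h2.map f
    rw [hf] at h3
    exact ⟨T, h1.trans hT, R.3 (T.2.map f) ((h3.eq_of_le R.2 h3.le le_rfl).le.trans (map_mono hT))⟩
  obtain ⟨T, h1, h2⟩ := key R (hX.le.trans (comap_mono inf_le_left))
  obtain ⟨T', h3, h4⟩ := key R' (hX.le.trans (comap_mono inf_le_right))
  have h5 := hX.map f
  rw [hf, le_bot_iff.1 ((le_inf h1 h3).trans ((FG.ti_iff P).1 hTI T T' fun e => h (Sylow.ext (by rw [← h2, ← h4, e]))).le), Subgroup.map_bot] at h5
  exact h5.eq_of_le R.2.to_inf_left bot_le le_rfl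

end Cfsg.Agent.S3984
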