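import Cfsg.Statements.S3985
import Cfsg.Agent.Lib.PGrp.Cyclic
import Cfsg.Agent.Lib.Coprime.Basic
import Cfsg.Agent.Lib.Transfer.SylowIn

set_option autoImplicit false
open scoped Pointwise
open Cfsg

open Subgroup Cfsg.Lib
open scoped commutatorElement
open Transfer
namespace Cfsg.Agent.S3985

/-- Let P be a cyclic Sylow p-subgroup of the finite group G. Then P meets each conjugate g P g⁻¹ with g outside N_G(P) trivially if and only if P is weakly self-centralizing: C_G(x) = C_G(P) for every non-identity x ∈ P. -/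
theorem result {G : Type*} [Group G] [Finite G] (p : ℕ) [Fact p.Prime] (P : Sylow p G) (hcyc : IsCyclic ↥(P : Subgroup G)) : (∀ g : G, g ∉ Subgroup.normalizer ((P : Subgroup G) : Set G) → (P : Subgroup G) ⊓ (MulAut.conj g • (P : Subgroup G)) = ⊥) ↔ ∀ x : G, x ∈ (P : Subgroup G) → x ≠ 1 → Subgroup.centralizer ({x} : Set G) = Subgroup.centralizer ((P : Subgroup G) : Set G) := by
  have hp := (Fact.out : p.Prime)
  have hc := PGrp.isMulCommutative_of_isCyclic hcyc
  refine ⟨fun h x hx hx1 => le_antisymm (le_of_forall_prime_pow fun q hq g hg ⟨k, hk⟩ => ?_) (centralizer_le (Set.singleton_subset_iff.2 hx)), fun h g hg => ?_⟩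
  · have hg' := mem_centralizer_singleton_iff.1 hg
    have hn : g ∈ normalizer ((P : Subgroup G) : Set G) := by
      by_contra hn
      exact hx1 ((h g hn).le ⟨hx, (cj_eq_smul g _).le (mem_cj.2 (by rwa [mul_assoc, ← hg', inv_mul_cancel_left]))⟩)
    have hz : IsPGroup q (zpowers g) := by
      have := Fact.mk hq
      obtain ⟨i, -, hi⟩ := (Nat.dvd_prime_pow hq).1 (orderOf_dvd_of_pow_eq_one hk)
      exact .of_card ((Nat.card_zpowers g).trans hi)
    by_cases e : q = p
    · subst e
      exact le_centralizer _ ((sylowIn_top P).le_of_normalizes hz le_top (zpowers_le.2 hn) (mem_zpowers g))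
    have := Fact.mk hq
    refine Coprime.le_centralizer_of_prime_order (zpowers_le.2 hn) (IsPGroup.coprime_card_of_ne q p e _ _ hz P.2) (fun v hv hvp a ha => ?_) (mem_zpowers g)
    obtain ⟨j, hj⟩ := IsPGroup.iff_orderOf.1 P.2 ⟨x, hx⟩
    obtain ⟨i, hi⟩ := IsPGroup.iff_orderOf.1 P.2 ⟨v, hv⟩
    rw [← orderOf_coe] at hi hj
    obtain ⟨n, rfl⟩ := PGrp.mem_zpowers_of_pow_eq_one hcyc hv hx (orderOf_dvd_iff_pow_eq_one.1 (by
      rw [(Nat.prime_dvd_prime_iff_eq hvp hp).1 (hvp.dvd_of_dvd_pow hi.dvd), hj]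
      exact dvd_pow_self p fun e => hx1 (orderOf_eq_one_iff.1 (by rw [hj, e, pow_zero]))))
    exact (show Commute a x from mem_centralizer_singleton_iff.1 (zpowers_le.2 hg ha)).zpow_right n
  by_contra hne
  obtain ⟨x, hx, hx1⟩ := (Subgroup.bot_or_exists_ne_one _).resolve_left hne
  rw [← cj_eq_smul] at hx
  refine hg (mem_normalizer_of_cj_le ((sylowIn_top P).le_of_normalizes (isPGroup_cj g P.2) le_top fun y hy =>
    centralizer_le_normalizer _ (h x hx.1 hx1 ▸ mem_centralizer_singleton_iff.2 ?_)))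
  have := PGrp.comm_of_mem hc (mem_cj.1 hy) (mem_cj.1 hx.2)
  simp only [mul_assoc, mul_inv_cancel_left, mul_right_inj] at this
  simpa [← mul_assoc] using this

end Cfsg.Agent.S3985
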