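import Cfsg.Statements.S3987
import Cfsg.Agent.Lib.FG.TI
import Cfsg.Agent.Lib.PGrp.Basic

set_option autoImplicit false
open Cfsg

open Subgroup Cfsg.Lib
open scoped commutatorElement
namespace Cfsg.Agent.S3987

/-- Let p be a prime and G a finite group. Then some Sylow p-subgroup of G is a direct factor of G (normal with a normal complement) if and only if for every element x of p-power order and every element y whose order is a power of a prime other than p, the conjugacy class of x y has as many elements as the product of the sizes of the classes of x and of y. -/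
theorem result {G : Type*} [Group G] [Finite G] (p : ℕ) [Fact p.Prime] : (∃ (P : Sylow p G) (K : Subgroup G), (P : Subgroup G).Normal ∧ K.Normal ∧ (P : Subgroup G) ⊓ K = ⊥ ∧ (P : Subgroup G) ⊔ K = ⊤) ↔ ∀ x y : G, (∃ a : ℕ, orderOf x = p ^ a) → (∃ q b : ℕ, q.Prime ∧ q ≠ p ∧ orderOf y = q ^ b) → (Subgroup.centralizer ({x * y} : Set G)).index = (Subgroup.centralizer ({x} : Set G)).index * (Subgroup.centralizer ({y} : Set G)).index := by
  refine ⟨fun ⟨P, K, h1, h2, h3, h4⟩ x y hx hy => ?_, fun h => FG.direct_iff.2 fun x y hx hy => ?_⟩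
  · obtain ⟨hxP, hyK⟩ := FG.mem_of_direct h1 h2 h3 h4 hx hy
    have hc := commute_of_normal_of_disjoint _ _ h1 h2 (disjoint_iff.2 h3)
    have h5 : ∀ g : G, g ∈ centralizer {x * y} ↔ g ∈ centralizer {x} ⊓ centralizer {y} := fun g => by
      simp only [mem_inf, mem_centralizer_singleton_iff]
      refine ⟨fun h => ?_, fun h => Commute.mul_right h.1 h.2⟩
      have e : x⁻¹ * (g * x * g⁻¹) = y * (g * y * g⁻¹)⁻¹ := by
        calc _ = x⁻¹ * (g * (x * y)) * y⁻¹ * g⁻¹ := by group
          _ = _ := by rw [h]; group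
      have e1 : x⁻¹ * (g * x * g⁻¹) = 1 := h3.le (mem_inf.2 ⟨mul_mem (inv_mem hxP) (h1.conj_mem _ hxP g), e ▸ mul_mem hyK (inv_mem (h2.conj_mem _ hyK g))⟩)
      exact ⟨mul_inv_eq_iff_eq_mul.1 (inv_mul_eq_one.1 e1).symm, mul_inv_eq_iff_eq_mul.1 (mul_inv_eq_one.1 (e ▸ e1)).symm⟩
    rw [Subgroup.ext h5]
    refine Hall.index_inf_of_factor fun g => ?_
    obtain ⟨k, hk, a, ha, rfl⟩ := (mem_sup_of_normal_left (s := K)).1 (((sup_comm K P).trans h4).ge (mem_top g))
    exact ⟨k, mem_centralizer_singleton_iff.2 (hc x k hxP hk).symm, a, mem_centralizer_singleton_iff.2 (hc a y ha hyK), rfl⟩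
  have h1 : centralizer {x} ⊓ centralizer {y} ≤ centralizer ({x * y} : Set G) := fun g hg => mem_centralizer_singleton_iff.2
    (Commute.mul_right (mem_centralizer_singleton_iff.1 hg.1) (mem_centralizer_singleton_iff.1 hg.2))
  have h2 := PGrp.eq_of_le_of_card_le h1 (Nat.le_of_mul_le_mul_left (c := (centralizer {x * y}).index) (by
    rw [index_mul_card, ← (centralizer {x} ⊓ centralizer {y}).index_mul_card]
    exact Nat.mul_le_mul_right _ (index_inf_le.trans (h x y hx hy).ge)) (Nat.pos_of_ne_zero index_ne_zero_of_finite))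
  have h3 := mem_centralizer_singleton_iff.1 (h2.ge (mem_centralizer_singleton_iff.2 rfl)).1
  exact (mul_left_cancel ((mul_assoc _ _ _).symm.trans h3)).symm

end Cfsg.Agent.S3987
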