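import Cfsg.Statements.S3992
import Cfsg.Agent.Lib.FG.EPPO

set_option autoImplicit false
open Cfsg

open Subgroup Cfsg.Lib
open scoped commutatorElement
open BG1 Transfer
namespace Cfsg.Agent.S3992

universe u

theorem inf_ne_bot {G : Type*} [Group G] [Finite G] (h : FG.EPPO (⊤ : Subgroup G)) (h0 : ∀ N : Subgroup G, N.Normal → Group.IsSolvable N → N = ⊥)
    (M N : Subgroup G) [M.Normal] [N.Normal] (hM : M ≠ ⊥) (hN : N ≠ ⊥) : M ⊓ N ≠ ⊥ := fun e => by
  obtain ⟨z, hz, hp⟩ := Coprime.exists_mem_orderOf_prime hN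
  have : Fact (orderOf z).Prime := ⟨hp⟩
  refine hM (h0 M ‹_› (solvable_of_pgroup hp ((h.isPGroup_cent (mem_top z) rfl).to_le fun x hx => ⟨trivial, ?_⟩)))
  exact mem_centralizer_singleton_iff.2 (commute_of_normal_of_disjoint M N ‹_› ‹_› (disjoint_iff.2 e) x z hx hz)

/-- Let G be a finite non-solvable group in which every element has prime-power order, and let R be its largest solvable normal subgroup. Then R is a p-group for some prime p; G/R has a non-abelian simple normal subgroup contained in every nontrivial normal subgroup of G/R (its unique minimal normal subgroup); and the order of every solvable subgroup of G has at most two prime divisors. -/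
theorem result {G : Type*} [Group G] [Finite G] (hns : ¬ Group.IsSolvable G) (hpp : ∀ g : G, g ≠ 1 → IsPrimePow (orderOf g))
    (R : Subgroup G) [R.Normal] (hRs : Group.IsSolvable ↥R) (hRmax : ∀ N : Subgroup G, N.Normal → Group.IsSolvable ↥N → N ≤ R) :
    (∃ p : ℕ, p.Prime ∧ IsPGroup p ↥R) ∧
      (∃ M : Subgroup (G ⧸ R), M.Normal ∧ IsSimpleGroup ↥M ∧ ¬ IsMulCommutative ↥M ∧
        ∀ N : Subgroup (G ⧸ R), N.Normal → N ≠ ⊥ → M ≤ N) ∧
      ∀ H : Subgroup G, Group.IsSolvable ↥H → (Nat.card ↥H).primeFactors.card ≤ 2 := by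
  have h : FG.EPPO (⊤ : Subgroup G) := fun g _ => hpp g
  refine ⟨?_, ?_, fun H => (h.mono le_top).card_primeFactors_le⟩
  · by_cases hR : R = ⊥
    · exact ⟨2, Nat.prime_two, hR ▸ IsPGroup.of_bot⟩
    obtain ⟨p, hp, h1⟩ := exists_pCoreOf_ne_bot hRs hR
    refine ⟨p, hp, ?_⟩
    have : Fact p.Prime := ⟨hp⟩
    refine IsPGroup.iff_card.2 ⟨_, Nat.eq_prime_pow_of_unique_prime_dvd Nat.card_pos.ne' fun {q} hq hd => by_contra fun e => hns ?_⟩
    have : Fact q.Prime := ⟨hq⟩
    obtain ⟨Q, hQ⟩ := exists_sylowIn q R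
    have h2 : Q ⊓ 𝐂(Q) ≠ ⊥ := fun e => (hQ.eq_bot_iff.not.2 (not_not.2 hd)) (by
      have := hQ.2.isNilpotent
      by_contra h
      have := Q.nontrivial_iff_ne_bot.2 h
      exact Group.IsNilpotent.center_ne_bot Q ((map_eq_bot_iff_of_injective _ Q.subtype_injective).1 ((Core.map_subtype_center Q).trans e)))
    have h3 := hQ.2.to_le (inf_le_left (b := 𝐂(Q)))
    have : IsMulCommutative ↥(Q ⊓ 𝐂(Q)) := PGrp.isMulCommutative_iff_forall.2 fun x hx y hy => hy.2 x hx.1
    have h4 := (h.fpf le_top le_top (IsPGroup.coprime_card_of_ne p q (Ne.symm e) _ _ (pgroup_pCoreOf hp R) h3)).isCyclic_of_comm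
      (le_norm_piCoreOf _ (le_top.trans (normalizer_eq_top R).ge)) h1
    obtain ⟨z, hz, hq'⟩ := exists_mem_orderOf_eq_prime hq ((h3.card_eq_or_dvd.resolve_left (mt card_eq_one.1 h2)))
    have h5 : ⁅𝐍(Q), 𝐍(Q)⁆ ≤ ⊤ ⊓ 𝐂[z] := le_inf le_top ((der_norm_le_cent_of_cyclic h4 (Core.le_normalizer_inf le_rfl
      (Core.normalizer_le_normalizer_centralizer Q))).trans (centralizer_le (Set.singleton_subset_iff.2 hz)))
    have h6 := solvable_of_le h5 (solvable_of_pgroup hq (h.isPGroup_cent (mem_top z) hq'))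
    have h7 : Group.IsSolvable 𝐍(Q) := isSolvable_of_quo (le_norm_der le_normalizer) h6
      (by have := (isMulCommutative_quo_iff (le_norm_der le_normalizer)).2 (le_refl ⁅𝐍(Q), 𝐍(Q)⁆); exact Coprime.isSolvable_of_isMulCommutative _)
    have h8 := hQ.frattini_sup le_top (normalizer_eq_top R).ge
    rw [top_inf_eq] at h8
    exact Core.isSolvable_top_iff.1 (h8 ▸ Core.isSolvable_sup_of_normal _ R)
  have h1 : FG.EPPO (⊤ : Subgroup (G ⧸ R)) := by simpa [map_top_of_surjective _ (QuotientGroup.mk'_surjective R)] using h.map (QuotientGroup.mk' R)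
  have h0 : ∀ N : Subgroup (G ⧸ R), N.Normal → Group.IsSolvable N → N = ⊥ := fun N _ _ => by
    rw [← Core.map_comap_mk' R N, Core.map_mk'_eq_bot_iff]
    exact hRmax _ inferInstance (Core.isSolvable_comap_mk' R N)
  obtain ⟨M, _, hM, -, hmin⟩ := Core.exists_minimal_normal_le (⊤ : Subgroup (G ⧸ R)) fun e => hns (by
    have := h0 ⊤ inferInstance
    have := (subsingleton_iff (G := G ⧸ R)).1 (subsingleton_of_top_eq_bot e)
    exact Core.isSolvable_of_normal_of_quotient R)
  refine ⟨M, ‹_›, ?_, fun hc => hM (h0 M ‹_› (Coprime.isSolvable_of_isMulCommutative M)), fun N _ hN =>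
    inf_eq_left.1 ((hmin _ inferInstance inf_le_left).resolve_left (inf_ne_bot h1 h0 M N hM hN))⟩
  have := M.nontrivial_iff_ne_bot.2 hM
  refine ⟨fun K _ => or_iff_not_imp_left.2 fun hK => ?_⟩
  obtain ⟨L, _, hL, hLK, hL'⟩ := Core.exists_minimal_normal_le K hK
  have h2 : ∀ N : Subgroup M, N.Characteristic → N = ⊥ ∨ N = ⊤ := fun N _ =>
    (hmin _ (Core.normal_map_subtype_of_characteristic N) (map_subtype_le N)).imp (map_eq_bot_iff_of_injective _ M.subtype_injective).1
      fun e => map_injective M.subtype_injective (e.trans (PGrp.map_subtype_top M).symm)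
  have h3 : ∀ N : Subgroup M, N.Normal → Group.IsSolvable N → N = ⊥ := fun N _ h =>
    (h2 _ (Core.solvableRadical_characteristic M)).elim (fun e => le_bot_iff.1 (e ▸ Core.le_solvableRadical h)) fun e =>
      absurd (h0 M ‹_› (Core.isSolvable_top_iff.1 (e ▸ Core.isSolvable_solvableRadical M))) hM
  refine top_unique (((h2 L (characteristic_iff_le_map.2 fun φ => ?_)).resolve_left hL).ge.trans hLK)
  have := (‹L.Normal›).map φ.toMonoidHom φ.surjective
  exact inf_eq_left.1 ((hL' _ inferInstance inf_le_left).resolve_left (inf_ne_bot (fun g _ e => by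
    simpa using h1 g trivial (by simpa using e)) h3 L _ hL (mt (map_eq_bot_iff_of_injective _ φ.injective).1 hL)))

end Cfsg.Agent.S3992
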