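import Cfsg.Statements.S3994
import Cfsg.Agent.Lib.FG.Count

set_option autoImplicit false
open Cfsg

open Subgroup Cfsg.Lib
open scoped commutatorElement
namespace Cfsg.Agent.S3994

/-- Let G be a finite group and n a positive integer. The number of elements of G whose order is divisible by n is either 0 or divisible by the largest divisor of the order of G that is coprime to n. -/
theorem result {G : Type*} [Group G] [Finite G] (n : ℕ) (hn : 0 < n) :
    Nat.card {g : G // n ∣ orderOf g} = 0 ∨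
      (Nat.card G / Nat.gcd (Nat.card G) (n ^ Nat.card G)) ∣ Nat.card {g : G // n ∣ orderOf g} := by
  right
  have := Fintype.ofFinite G
  have hN := Nat.card_pos (α := G)
  obtain ⟨s, hs⟩ := Nat.gcd_dvd_left (Nat.card G) (n ^ Nat.card G)
  set t := (Nat.card G).gcd (n ^ Nat.card G) with ht
  have ht0 : 0 < t := Nat.gcd_pos_of_pos_left _ hN
  have h1 : s.Coprime n := Nat.coprime_of_dvd fun r hr h1 h2 => by
    have h3 : t * r ∣ Nat.card G := hs ▸ Nat.mul_dvd_mul_left t h1
    have h4 : t * r ∣ n ^ (t * r) := (Nat.dvd_pow_self_iff (mul_pos ht0 hr.pos).ne' hn.ne').2 fun q hq => by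
      obtain ⟨hq, h5, -⟩ := Nat.mem_primeFactors.1 hq
      exact Nat.mem_primeFactors.2 ⟨hq, ((Nat.Prime.dvd_mul hq).1 h5).elim (fun h => hq.dvd_of_dvd_pow (h.trans (Nat.gcd_dvd_right _ _))) (·.trans h2), hn.ne'⟩
    have := Nat.le_of_dvd ht0 (Nat.dvd_gcd h3 (h4.trans (pow_dvd_pow n (Nat.le_of_dvd hN h3))))
    nlinarith [hr.two_le]
  have h2 : s.Coprime t := (h1.pow_right _).coprime_dvd_right (Nat.gcd_dvd_right _ _)
  have h3 := FG.card_decomp (G := G) h2 (n ∣ orderOf ·)
  rw [mul_comm, ← hs] at h3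
  simp only [pow_card_eq_one', true_and] at h3
  rw [h3, Nat.div_eq_of_eq_mul_right ht0 hs]
  refine (FG.dvd_decomp (a := s) (hs ▸ dvd_mul_left s t) (fun z => z ^ t = 1 ∧ n ∣ orderOf z) (fun x g => by
    rw [conj_pow, conj_eq_one_iff, ← MulAut.conj_apply, MulEquiv.orderOf_eq]) fun z _ => FG.frobenius_gcd s).trans
    (Finset.sum_congr rfl fun z _ => Eq.symm ?_).dvd
  refine Nat.card_congr (Equiv.subtypeEquivRight fun y => and_congr_right fun h4 => and_congr_right fun h5 => and_congr_right fun h6 => ?_)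
  have h7 := orderOf_dvd_of_pow_eq_one h5
  rw [Commute.orderOf_mul_eq_mul_orderOf_of_coprime (Hall.mem_cent_iff.1 h4) ((h2.coprime_dvd_left h7).coprime_dvd_right (orderOf_dvd_of_pow_eq_one h6))]
  exact (h1.coprime_dvd_left h7).symm.dvd_mul_left

end Cfsg.Agent.S3994
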