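import Cfsg.Statements.S3995
import Cfsg.Agent.Lib.FG.Count
import Cfsg.Agent.S4377
import Cfsg.Agent.Lib.Block.GenQuat

set_option autoImplicit false
open Cfsg

namespace Cfsg.Agent.S3995

open Subgroup Cfsg.Lib Cfsg.Lib.FG
set_option linter.style.haveILetI false

theorem two_prod {G : Type*} [Group G] {M : Subgroup G} {a : G} (ha : a * a = 1) (h2 : a ∉ M)
    (h3 : ∀ m, Commute a m) (h4 : ∀ g, g ∈ M ∨ a * g ∈ M) : Nonempty (G ≃* Multiplicative (ZMod 2) × M) := by
  have hc : ∀ x : Multiplicative (ZMod 2), x = 1 ∨ x = Multiplicative.ofAdd 1 := by decide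
  let z : Multiplicative (ZMod 2) →* G := MonoidHom.mk' (fun x => if x = 1 then 1 else a) fun x y => by
    rcases hc x with rfl | rfl <;> rcases hc y with rfl | rfl <;>
      simp [ha, ← ofAdd_add, show (1 + 1 : ZMod 2) = 0 by decide]
  have hz : z (Multiplicative.ofAdd 1) = a := if_neg (c := Multiplicative.ofAdd (1 : ZMod 2) = 1) (t := 1) (by decide)
  let f := z.noncommCoprod M.subtype fun x s => by
    rcases hc x with rfl | rfl
    exacts [map_one z ▸ Commute.one_left _, hz ▸ h3 s]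
  refine ⟨(MulEquiv.ofBijective f ⟨(injective_iff_map_eq_one _).2 ?_, fun g => ?_⟩).symm⟩
  · rintro ⟨x, s⟩ h
    replace h : z x * s = 1 := h
    rcases hc x with rfl | rfl
    · exact Prod.ext rfl (Subtype.ext (by simpa using h))
    · exact (h2 (by rw [← hz, eq_inv_of_mul_eq_one_left h]; exact inv_mem s.2)).elim
  · exact (h4 g).elim (fun h => ⟨(1, ⟨g, h⟩), by simp [f]⟩)
      fun h => ⟨(.ofAdd 1, ⟨_, h⟩), (by rw [hz, ← mul_assoc, ha, one_mul] : z _ * (a * g) = g)⟩

theorem sum_mul (f : ℕ → ℕ) {p m : ℕ} (hp : p.Prime) (h : ¬ p ∣ m) :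
    ∑ d ∈ (m * p).divisors, f d = ∑ d ∈ m.divisors, f d + ∑ d ∈ m.divisors, f (d * p) := by
  have h0 : m ≠ 0 := by rintro rfl; simp at h
  rw [← Finset.sum_image (g := (· * p)) fun _ _ _ _ e => Nat.eq_of_mul_eq_mul_right hp.pos e, ← Finset.sum_union]
  · congr 1
    ext d
    simp only [Nat.mem_divisors, Finset.mem_union, Finset.mem_image, h0, hp.ne_zero, ne_eq, mul_eq_zero, or_self,
      not_false_eq_true, and_true]
    refine ⟨fun hd => ?_, fun hd => hd.elim (fun hd => hd.mul_right _) ?_⟩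
    · by_cases e : p ∣ d
      · obtain ⟨c, rfl⟩ := e
        exact Or.inr ⟨c, Nat.dvd_of_mul_dvd_mul_right hp.pos (by rwa [mul_comm c]), mul_comm _ _⟩
      · exact Or.inl (((Nat.Prime.coprime_iff_not_dvd hp).2 e).symm.dvd_of_dvd_mul_right hd)
    · rintro ⟨c, hc, rfl⟩
      exact Nat.mul_dvd_mul_right hc _
  · refine Finset.disjoint_left.2 fun d hd hd' => ?_
    obtain ⟨c, -, rfl⟩ := Finset.mem_image.1 hd'
    exact h ((dvd_mul_left _ _).trans (Nat.dvd_of_mem_divisors hd))

theorem exp_eq {G : Type*} [Group G] [Finite G] {p : ℕ} (hp : p.Prime) (hG : IsPGroup p G) (h1 : p ∣ Nat.card G)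
    (h2 : ∀ g : G, orderOf g ≠ p * p) : Monoid.exponent G = p := by
  haveI := Fact.mk hp
  obtain ⟨x, hx⟩ := exists_prime_orderOf_dvd_card' p h1
  refine Nat.dvd_antisymm (Monoid.exponent_dvd_of_forall_pow_eq_one fun g => ?_) (hx ▸ Monoid.order_dvd_exponent x)
  obtain ⟨k, hk⟩ := IsPGroup.iff_orderOf.1 hG g
  rcases k with _ | _ | k
  · rw [orderOf_eq_one_iff.1 hk, one_pow]
  · rw [← orderOf_dvd_iff_pow_eq_one, hk]; simp
  · refine absurd ?_ (h2 (g ^ p ^ k))
    rw [orderOf_pow_of_dvd (pow_pos hp.pos _).ne' (hk ▸ pow_dvd_pow p (by omega)), hk, pow_succ, pow_succ, mul_assoc,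
      Nat.mul_div_cancel_left _ (pow_pos hp.pos _)]

/-- Let G be a finite group such that the numbers of elements of each order that occurs in G (the numbers #{g : o(g) = m}, m ranging over the element orders of G) take exactly two values, 1 and some n ≠ 1. Then either G is a p-group of exponent p and order at least 3 for some prime p, or G is the quaternion group of order 8, or G is cyclic of order 4, or G ≅ Z₂ × P for a p-group P of exponent p with p an odd prime. -/
theorem result {G : Type*} [Group G] [Finite G] (n : ℕ) (hn : n ≠ 1) (h : ((fun m : ℕ => Nat.card {g : G // orderOf g = m}) '' Set.range (orderOf : G → ℕ)) = {1, n}) :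
    (∃ p : ℕ, p.Prime ∧ IsPGroup p G ∧ 3 ≤ Nat.card G ∧ Monoid.exponent G = p) ∨
      Nonempty (G ≃* QuaternionGroup 2) ∨ (IsCyclic G ∧ Nat.card G = 4) ∨
      (∃ (p : ℕ) (P : Type) (_ : Group P) (_ : Finite P), p.Prime ∧ p ≠ 2 ∧ IsPGroup p P ∧ Monoid.exponent P = p ∧
        Nonempty (G ≃* Multiplicative (ZMod 2) × P)) := by
  set s : ℕ → ℕ := fun m => Nat.card {g : G // orderOf g = m} with hs
  have a0 : ∀ g : G, s (orderOf g) ≠ 0 := fun g => Nat.card_ne_zero.2 ⟨⟨⟨g, rfl⟩⟩, inferInstance⟩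
  have a1 : ∀ m, s m = 0 ∨ s m = 1 ∨ s m = n := fun m => or_iff_not_imp_left.2 fun h0 => by
    obtain ⟨⟨g, rfl⟩⟩ := (Nat.card_ne_zero.1 h0).1
    exact h.le ⟨_, ⟨g, rfl⟩, rfl⟩
  obtain ⟨_, ⟨g₀, rfl⟩, a2⟩ := h.ge (Or.inr rfl)
  have a3 : ∀ m, m.totient ∣ s m := fun m => (dvd_mul_left _ _).trans (card_orderOf_eq (G := G) m).symm.dvd
  have a4 : ∀ m, m ∣ Nat.card G → m ∣ ∑ d ∈ m.divisors, s d := fun m hm =>
    S4377.aux (G := G) (ne_zero_of_dvd_ne_zero Nat.card_pos.ne' hm) ▸ frobenius hm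
  have a5 : s 1 = 1 := by simp [hs]
  have a6 : ∀ m, 2 < m → s m = 0 ∨ s m = n := fun m hm => (a1 m).imp_right fun h => h.resolve_left fun h => by
    have := (Nat.totient_even hm).two_dvd.trans (h ▸ a3 m)
    omega
  have a7 : ∀ p : ℕ, p.Prime → p ∣ Nat.card G → p ∣ 1 + s p := fun p hp h => by
    simpa [hp.sum_divisors, a5, add_comm] using a4 p h
  have a8 : ∀ p : ℕ, p.Prime → p ≠ 2 → p ∣ Nat.card G → s p = n ∧ (n : ZMod p) = -1 ∧ (2 : ZMod p) ≠ 0 ∧
      ∀ g : G, orderOf g ≠ p * p := fun p hp h2 h => by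
    haveI := Fact.mk hp
    have h3 : 2 < p := hp.two_le.lt_of_ne' h2
    have h4 := a7 p hp h
    have h5 : s p = n := (a6 p h3).resolve_left fun e => hp.ne_one (by simpa [e] using h4)
    rw [h5] at h4
    refine ⟨h5, ?_, fun e => h2 ((Nat.prime_dvd_prime_iff_eq hp Nat.prime_two).1
      ((ZMod.natCast_eq_zero_iff 2 p).1 e)), fun g hg => ?_⟩
    · rw [← ZMod.natCast_eq_zero_iff] at h4
      push_cast at h4
      linear_combination h4
    · have h6 := (a6 (p * p) (by nlinarith)).resolve_left (hg ▸ a0 g)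
      have h7 := a3 (p * p)
      rw [h6, ← pow_two, Nat.totient_prime_pow hp two_pos] at h7
      exact hp.ne_one (Nat.dvd_one.1 ((Nat.dvd_add_left (dvd_trans ⟨p - 1, by simp⟩ h7)).1 h4))
  have a9 : ∀ p q : ℕ, p.Prime → p ≠ 2 → p ∣ Nat.card G → q.Prime → q ≠ 2 → q ∣ Nat.card G → q = p := by
    intro p q hp h1 h2 hq h3 h4
    by_contra e
    haveI := Fact.mk hp
    have h5 := (dvd_mul_left p q).trans (a4 _ (((Nat.coprime_primes hq hp).2 e).mul_dvd_of_dvd_of_dvd h4 h2))
    obtain ⟨b1, b2, b3, -⟩ := a8 p hp h1 h2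
    rw [sum_mul _ hp (by rwa [Nat.prime_dvd_prime_iff_eq hp hq, eq_comm]), hq.sum_divisors, hq.sum_divisors, one_mul,
      a5, b1, (a8 q hq h3 h4).1, ← ZMod.natCast_eq_zero_iff] at h5
    rcases a6 (q * p) (by nlinarith [hp.two_le, hq.two_le]) with h6 | h6 <;> rw [h6] at h5 <;> push_cast at h5 <;>
      rw [b2] at h5
    · exact one_ne_zero (α := ZMod p) (by linear_combination -h5)
    · exact b3 (by linear_combination -h5)
  have hP : ∀ p : ℕ, p.Prime → (∀ q : ℕ, q.Prime → q ∣ Nat.card G → q = p) → IsPGroup p G := fun p hp h =>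
    .of_card (Nat.eq_prime_pow_of_unique_prime_dvd Nat.card_pos.ne' fun hq hd => h _ hq hd)
  haveI := Fact.mk Nat.prime_two
  rcases a1 2 with b | b | b
  · have h1 : ¬ 2 ∣ Nat.card G := fun h => by simpa [b] using a7 2 Nat.prime_two h
    obtain ⟨p, hp, h2⟩ := Nat.exists_prime_and_dvd (n := orderOf g₀) fun e => hn (by rw [← a2, e, a5])
    replace h2 := h2.trans (orderOf_dvd_natCard g₀)
    have h3 : p ≠ 2 := fun e => h1 (e ▸ h2)
    have h4 := hP p hp fun q hq h => a9 p q hp h3 h2 hq (fun e => h1 (e ▸ h)) h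
    exact Or.inl ⟨p, hp, h4, (hp.two_le.lt_of_ne' h3).trans_le (Nat.le_of_dvd Nat.card_pos h2),
      exp_eq hp h4 h2 (a8 p hp h3 h2).2.2.2⟩
  · obtain ⟨⟨z, hz⟩, hz'⟩ := Nat.card_eq_one_iff_exists.1 b
    have hu : ∀ t : G, orderOf t = 2 → t = z := fun t ht => congrArg Subtype.val (hz' ⟨t, ht⟩)
    have h2 : 2 ∣ Nat.card G := hz ▸ orderOf_dvd_natCard z
    have d4 : (4 : ℕ).divisors = {1, 2, 4} := by decide
    by_cases hG : IsPGroup 2 G
    · have h8 : ∀ (g : G) k, orderOf g = 2 ^ k → k ≤ 2 := fun g k hk => not_lt.1 fun h => by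
        have c : ∀ j ≤ k, s (2 ^ j) ≠ 0 := fun j hj => by
          have := a0 (g ^ 2 ^ (k - j))
          rwa [orderOf_pow_of_dvd (by simp) (hk ▸ pow_dvd_pow 2 (by omega)), hk, Nat.pow_div (by omega) two_pos,
            Nat.sub_sub_self hj] at this
        have c1 := (a6 4 (by norm_num)).resolve_left (c 2 h.le)
        have c2 := (a6 8 (by norm_num)).resolve_left (c 3 h) ▸ a3 8
        have c3 := a4 4 ((pow_dvd_pow 2 h.le).trans (hk ▸ orderOf_dvd_natCard g))
        rw [show Nat.totient 8 = 4 by decide] at c2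
        simp [d4, a5, b, c1] at c3
        omega
      rcases Block.isCyclic_or_quatData hG (fun s t h1 h2 => (hu s h1).trans (hu t h2).symm) with hc | ⟨a, x, k, hq⟩
      · refine Or.inr (Or.inr (Or.inl ⟨hc, ?_⟩))
        obtain ⟨g, hg⟩ := IsCyclic.exists_ofOrder_eq_natCard (α := G)
        obtain ⟨k, hk⟩ := IsPGroup.iff_card.1 hG
        have c1 := h8 g k (hg.trans hk)
        have c2 := orderOf_dvd_natCard g₀
        rcases c1.eq_or_lt with rfl | c1
        · exact hk
        rw [hk] at c2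
        rcases (Nat.dvd_prime Nat.prime_two).1 (c2.trans (pow_dvd_pow 2 (Nat.lt_succ_iff.1 c1))) with e | e <;>
          exact absurd (by rw [← a2, e]; assumption) hn
      · obtain rfl : k = 0 := by
          have := h8 a (k + 2) (hq.ord.trans (by ring))
          omega
        exact Or.inr (Or.inl ⟨topEquiv.symm.trans hq.nonempty_mulEquiv.some⟩)
    obtain ⟨p, hp, h3, h4⟩ : ∃ p : ℕ, p.Prime ∧ p ∣ Nat.card G ∧ p ≠ 2 := by
      by_contra! H
      exact hG (hP 2 Nat.prime_two H)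
    haveI := Fact.mk hp
    obtain ⟨b1, b2, b3, b4⟩ := a8 p hp h4 h3
    have hzc : ∀ g, Commute z g := fun g => by
      have := hu (g * z * g⁻¹) (((MulAut.conj g).orderOf_eq z).trans hz)
      exact (mul_inv_eq_iff_eq_mul.1 this).symm
    have c0 : (Nat.Coprime 2 p) := (Nat.coprime_primes Nat.prime_two hp).2 h4.symm
    have c4 : ∀ g : G, orderOf g ≠ 4 := fun g hg => by
      obtain ⟨x, hx⟩ := exists_prime_orderOf_dvd_card' p h3
      have c1 := (a6 4 (by norm_num)).resolve_left (hg ▸ a0 g)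
      have c2 := (a6 (2 * p) (by have := hp.two_le; omega)).resolve_left (by
        have := a0 (z * x)
        rwa [(hzc x).orderOf_mul_eq_mul_orderOf_of_coprime (by rwa [hz, hx]), hz, hx] at this)
      have c3 := (dvd_mul_left p 4).trans (a4 _ ((c0.pow_left 2).mul_dvd_of_dvd_of_dvd
        (hg ▸ orderOf_dvd_natCard g : 4 ∣ _) h3))
      rw [sum_mul _ hp ((Nat.Prime.coprime_iff_not_dvd hp).1 (c0.pow_left 2).symm), ← ZMod.natCast_eq_zero_iff] at c3
      rcases a6 (4 * p) (by have := hp.two_le; omega) with h6 | h6 <;> simp [d4, a5, b, b1, c1, c2, h6, b2] at c3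
      exact b3 (by linear_combination -c3)
    obtain ⟨S⟩ : Nonempty (Sylow 2 G) := inferInstance
    obtain ⟨P⟩ : Nonempty (Sylow p G) := inferInstance
    have c5 : (S : Subgroup G) ≤ zpowers z := fun g hg => by
      obtain ⟨k, hk⟩ := IsPGroup.iff_orderOf.1 S.isPGroup' ⟨g, hg⟩
      rw [Subgroup.orderOf_mk] at hk
      rcases k with _ | _ | k
      · rw [orderOf_eq_one_iff.1 hk]; exact one_mem _
      · rw [hu g hk]; exact mem_zpowers z
      · refine absurd ?_ (c4 (g ^ 2 ^ k))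
        rw [orderOf_pow_of_dvd (by simp) (hk ▸ pow_dvd_pow 2 (by omega)), hk, Nat.pow_div (by omega) two_pos,
          show k + 1 + 1 - k = 2 by omega]
        rfl
    have c6 : ¬ 2 * 2 ∣ Nat.card G := fun h => by
      have := S.pow_dvd_card_of_pow_dvd_card (n := 2) h |>.trans (card_dvd_of_le c5)
      rw [Nat.card_zpowers, hz] at this
      omega
    have c7 : (P : Subgroup G).index = 2 := by
      have e1 := Nat.eq_prime_pow_of_unique_prime_dvd (p := 2) (P : Subgroup G).index_ne_zero_of_finite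
        fun {q} hq hd => by_contra fun e => P.not_dvd_index
          (a9 p q hp h4 h3 hq e (hd.trans (index_dvd_card _)) ▸ hd)
      generalize (P : Subgroup G).index.primeFactorsList.length = k at e1
      rcases k with _ | _ | k
      · exact absurd (hP p hp fun q hq hd => by_contra fun e => by
          rw [← (P : Subgroup G).card_mul_index, e1, pow_zero, mul_one] at hd
          obtain ⟨j, hj⟩ := IsPGroup.iff_card.1 P.isPGroup'
          exact e ((Nat.prime_dvd_prime_iff_eq hq hp).1 (hq.dvd_of_dvd_pow (hj ▸ hd)))) fun h => by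
          obtain ⟨j, hj⟩ := IsPGroup.iff_card.1 h
          exact h4 ((Nat.prime_dvd_prime_iff_eq Nat.prime_two hp).1 (Nat.prime_two.dvd_of_dvd_pow (hj ▸ h2))).symm
      · simpa using e1
      · exact absurd (dvd_trans ⟨2 ^ k, by rw [e1]; ring⟩ (index_dvd_card (P : Subgroup G))) c6
    have c8 : z ∉ (P : Subgroup G) := fun h => by
      obtain ⟨j, hj⟩ := IsPGroup.iff_card.1 P.isPGroup'
      have := orderOf_dvd_natCard _ h
      exact h4 ((Nat.prime_dvd_prime_iff_eq Nat.prime_two hp).1 (Nat.prime_two.dvd_of_dvd_pow (hj ▸ hz ▸ this))).symm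
    obtain ⟨e⟩ := two_prod (by rw [← sq, ← hz, pow_orderOf_eq_one]) c8 hzc fun g => or_iff_not_imp_left.2 fun h =>
      (mul_mem_iff_of_index_two c7).2 (iff_of_false c8 h)
    let e' := Shrink.mulEquiv.{0} (α := (P : Subgroup G))
    refine Or.inr (Or.inr (Or.inr ⟨p, Shrink.{0} (P : Subgroup G), inferInstance, .of_equiv _ e'.toEquiv.symm, hp, h4,
      P.isPGroup'.of_equiv e'.symm, (Monoid.exponent_eq_of_mulEquiv e').trans (exp_eq hp P.isPGroup'
        (P.dvd_card_of_dvd_card h3) fun g hg => b4 g ((Subgroup.orderOf_coe g).trans hg)),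
      ⟨e.trans (MulEquiv.prodCongr (.refl _) e'.symm)⟩⟩))
  · have h0 : n ≠ 0 := a2 ▸ a0 g₀
    obtain ⟨⟨z, hz⟩⟩ := (Nat.card_ne_zero.1 (b ▸ h0 : s 2 ≠ 0)).1
    have h2 : 2 ∣ Nat.card G := hz ▸ orderOf_dvd_natCard z
    have h3 := a7 2 Nat.prime_two h2
    have h4 : ∀ g : G, orderOf g ≤ 2 := fun g => not_lt.1 fun h => by
      have := (Nat.totient_even h).two_dvd.trans ((a6 _ h).resolve_left (a0 g) ▸ a3 _)
      omega
    have h5 := hP 2 Nat.prime_two fun q hq hd => by
      haveI := Fact.mk hq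
      obtain ⟨x, hx⟩ := exists_prime_orderOf_dvd_card' q hd
      exact le_antisymm (hx ▸ h4 x) hq.two_le
    refine Or.inl ⟨2, Nat.prime_two, h5, ?_, exp_eq Nat.prime_two h5 h2 fun g hg => by have := h4 g; omega⟩
    have := Finite.card_subtype_le fun g : G => orderOf g = 2
    change s 2 ≤ _ at this
    omega

end Cfsg.Agent.S3995
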