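import Cfsg.Statements.S3996
import Cfsg.Agent.S3995
import Cfsg.Agent.Lib.Hall.SolvCrit
import Cfsg.Agent.Lib.Coprime.HallNum

set_option autoImplicit false
open Cfsg

namespace Cfsg.Agent.S3996

open Subgroup Cfsg.Lib Cfsg.Lib.FG
set_option linter.style.haveILetI false

theorem arith (s : ℕ → ℕ) (a b N p q : ℕ) (hp : p.Prime) (hq : q.Prime) (p2 : p ≠ 2) (q2 : q ≠ 2) (pq : p ≠ q)
    (hN : 4 * p * q ∣ N) (a1 : ∀ m, s m = 0 ∨ s m = 1 ∨ s m = a ∨ s m = b) (a3 : ∀ m, m.totient ∣ s m)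
    (a4 : ∀ m, m ∣ N → m ∣ ∑ d ∈ m.divisors, s d) (a5 : s 1 = 1) : False := by
  have ev : ∀ m, 2 < m → 2 ∣ s m := fun m hm => (Nat.totient_even hm).two_dvd.trans (a3 m)
  have d1 : Nat.divisors 1 = {1} := rfl
  have d2 : Nat.divisors 2 = {1, 2} := rfl
  have d4 : Nat.divisors 4 = {1, 2, 4} := rfl
  have nd : ∀ r : ℕ, r.Prime → r ≠ 2 → ¬ r ∣ 4 := fun r hr h e =>
    h ((Nat.prime_dvd_prime_iff_eq hr Nat.prime_two).1 (hr.dvd_of_dvd_pow (n := 2) e))
  have nd' : ∀ k, k ∣ 4 → ∀ r t : ℕ, r.Prime → t.Prime → t ≠ 2 → r ≠ t → ¬ t ∣ k * r := fun k hk r t hr ht h h' e =>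
    ((Nat.Prime.dvd_mul ht).1 e).elim (fun e => nd t ht h (e.trans hk)) fun e => h' ((Nat.prime_dvd_prime_iff_eq ht hr).1 e).symm
  have F1 : ∀ k, k ∣ 4 → ∀ r : ℕ, r.Prime → r ≠ 2 → 4 * r ∣ N →
      ((∑ d ∈ k.divisors, s d + ∑ d ∈ k.divisors, s (d * r) : ℕ) : ZMod r) = 0 := fun k hk r hr h hd => by
    rw [← S3995.sum_mul s hr fun e => nd r hr h (e.trans hk), ZMod.natCast_eq_zero_iff]
    exact (dvd_mul_left _ _).trans (a4 _ ((Nat.mul_dvd_mul_right hk r).trans hd))
  have F2 : ∀ k, k ∣ 4 → ∀ r t : ℕ, r.Prime → t.Prime → r ≠ 2 → t ≠ 2 → r ≠ t → 4 * r * t ∣ N →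
      ((∑ d ∈ k.divisors, s (d * t) + ∑ d ∈ k.divisors, s (d * r * t) : ℕ) : ZMod r) = 0 := fun k hk r t hr ht h h' h'' hd => by
    have e := a4 _ ((Nat.mul_dvd_mul_right (Nat.mul_dvd_mul_right hk r) t).trans hd)
    rw [S3995.sum_mul s ht (nd' k hk r t hr ht h' h''), S3995.sum_mul (fun d => s (d * t)) hr fun e => nd r hr h (e.trans hk)] at e
    have e' := (dvd_mul_left r k).trans (a4 _ ((Nat.mul_dvd_mul_right hk r).trans ((dvd_mul_right _ _).trans hd)))
    exact (ZMod.natCast_eq_zero_iff _ _).2 ((Nat.dvd_add_right e').1 (((dvd_mul_left r k).mul_right t).trans e))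
  have two : ∀ r : ℕ, r.Prime → r ≠ 2 → (2 : ZMod r) ≠ 0 ∧ (1 : ZMod r) ≠ 0 := fun r hr h => by
    haveI := Fact.mk hr
    refine ⟨fun e => h ((Nat.prime_dvd_prime_iff_eq hr Nat.prime_two).1 ((ZMod.natCast_eq_zero_iff 2 r).1 (by simpa using e))),
      one_ne_zero⟩
  have hN' : 4 * q * p ∣ N := by rwa [mul_right_comm]
  have sr : ∀ r : ℕ, r.Prime → r ≠ 2 → 4 * r ∣ N → (s r : ZMod r) = -1 ∧ (s r = a ∨ s r = b) := fun r hr h hd => by
    have e := F1 1 (by decide) r hr h hd
    simp only [d1, Finset.sum_singleton, a5, one_mul, Nat.cast_add, Nat.cast_one] at e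
    refine ⟨by linear_combination e, ?_⟩
    have := ev r (hr.two_le.lt_of_ne' h)
    rcases a1 r with h0 | h0 | h0 <;> try omega
    rw [h0] at e; exact absurd (by simpa using e) (two r hr h).2
  have hp4 : 4 * p ∣ N := (dvd_mul_right _ _).trans hN
  have hq4 : 4 * q ∣ N := (dvd_mul_right _ _).trans hN'
  have g1 := F2 1 (by decide) p q hp hq p2 q2 pq hN
  simp only [d1, Finset.sum_singleton, one_mul, Nat.cast_add] at g1
  have p3 : 2 < p := hp.two_le.lt_of_ne' p2
  have q3 : 2 < q := hq.two_le.lt_of_ne' q2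
  have s2 := a4 2 ((by decide : 2 ∣ 4).trans ((dvd_mul_right _ _).trans hp4))
  have s4 := a4 4 ((dvd_mul_right _ _).trans hp4)
  simp only [d2, d4, Finset.mem_insert, Finset.mem_singleton, Finset.sum_insert, Finset.sum_singleton, a5, Nat.reduceEqDiff,
    or_self, not_false_eq_true] at s2 s4
  obtain ⟨tp, tp'⟩ := two p hp p2
  by_cases h2 : s 2 = 1
  · have f4 : ∀ m n, 2 < m → 2 < n → m.Coprime n → 4 ∣ s (m * n) := fun m n h1 h2 h3 => by
      refine Dvd.dvd.trans ?_ (a3 _)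
      rw [Nat.totient_mul h3]
      exact Nat.mul_dvd_mul (Nat.totient_even h1).two_dvd (Nat.totient_even h2).two_dvd
    have cp : ∀ r : ℕ, r.Prime → r ≠ 2 → Nat.Coprime 4 r := fun r hr h => ((Nat.Prime.coprime_iff_not_dvd hr).2 (nd r hr h)).symm
    have cpq : p.Coprime q := (Nat.coprime_primes hp hq).2 pq
    wlog h4 : s 4 = a generalizing a b
    · exact this b a (fun m => by rcases a1 m with h | h | h | h <;> simp [h]) (fun r a b c => ⟨(sr r a b c).1, (sr r a b c).2.symm⟩)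
        (by rcases a1 4 with h | h | h | h <;> omega)
    have z4 : ∀ m, 4 ∣ s m → s m = 0 ∨ s m = b := fun m hm => by rcases a1 m with h | h | h | h <;> omega
    have key : ∀ r : ℕ, r.Prime → r ≠ 2 → 4 * r ∣ N → s r = a → s (4 * r) = b ∧ (b : ZMod r) = 1 := fun r hr h hd e => by
      have e2 := F1 2 (by decide) r hr h hd
      have e4 := F1 4 (by decide) r hr h hd
      simp only [d2, d4, Finset.mem_insert, Finset.mem_singleton, Finset.sum_insert, Finset.sum_singleton, Nat.reduceEqDiff,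
        or_self, not_false_eq_true, Nat.cast_add, h4] at e2 e4
      have e5 := (sr r hr h hd).1
      rw [e] at e5
      have e6 : (s (4 * r) : ZMod r) = 1 := by linear_combination e4 - e2 - e5
      rcases z4 _ (f4 4 r (by decide) (hr.two_le.lt_of_ne' h) (cp r hr h)) with h0 | h0
      · rw [h0] at e6; exact absurd (by simpa using e6.symm) (two r hr h).2
      · exact ⟨h0, h0 ▸ e6⟩
    have zpq := z4 _ (f4 p q p3 q3 cpq)
    obtain ⟨u1, u2⟩ := sr p hp p2 hp4
    obtain ⟨v1, v2⟩ := sr q hq q2 hq4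
    rcases u2 with u2 | u2 <;> rcases v2 with v2 | v2
    · obtain ⟨k1, k2⟩ := key p hp p2 hp4 u2
      obtain ⟨k3, -⟩ := key q hq q2 hq4 v2
      have e2 := F2 2 (by decide) p q hp hq p2 q2 pq hN
      have e4 := F2 4 (by decide) p q hp hq p2 q2 pq hN
      simp only [d2, d4, Finset.mem_insert, Finset.mem_singleton, Finset.sum_insert, Finset.sum_singleton, Nat.reduceEqDiff,
        or_self, not_false_eq_true, Nat.cast_add, k3] at e2 e4
      rcases z4 _ (f4 (4 * p) q (by omega) q3 (Nat.Coprime.mul_left (cp q hq q2) cpq)) with h0 | h0 <;> rw [h0] at e4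
      · exact tp' (by linear_combination e4 - e2 - k2)
      · exact tp (by linear_combination e4 - e2 - 2 * k2)
    · obtain ⟨-, k2⟩ := key p hp p2 hp4 u2
      rcases zpq with h0 | h0 <;> rw [h0, v2] at g1
      · exact tp' (by linear_combination g1 - k2)
      · exact tp (by linear_combination g1 - 2 * k2)
    · obtain ⟨-, k2⟩ := key q hq q2 hq4 v2
      have g2 := F2 1 (by decide) q p hq hp q2 p2 pq.symm hN'
      simp only [d1, Finset.sum_singleton, one_mul, Nat.cast_add, mul_comm q] at g2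
      rcases zpq with h0 | h0 <;> rw [h0, u2] at g2
      · exact (two q hq q2).2 (by linear_combination g2 - k2)
      · exact (two q hq q2).1 (by linear_combination g2 - 2 * k2)
    · rw [u2] at u1
      rcases zpq with h0 | h0 <;> rw [h0, v2] at g1
      · exact tp' (by linear_combination u1 - g1)
      · exact tp (by linear_combination 2 * u1 - g1)
  · wlog h4 : s 2 = a generalizing a b
    · exact this b a (fun m => by rcases a1 m with h | h | h | h <;> simp [h]) (fun r a b c => ⟨(sr r a b c).1, (sr r a b c).2.symm⟩)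
        (by rcases a1 2 with h | h | h | h <;> omega)
    obtain ⟨u1, u2⟩ := sr p hp p2 hp4
    obtain ⟨-, v2⟩ := sr q hq q2 hq4
    have := ev p p3
    have := ev q q3
    have e := ev (p * q) (by nlinarith)
    have u3 : s p = b := by omega
    have v3 : s q = b := by omega
    rw [u3] at u1
    have : s (p * q) = 0 ∨ s (p * q) = b := by rcases a1 (p * q) with h | h | h | h <;> omega
    rcases this with h0 | h0 <;> rw [h0, v3] at g1
    · exact tp' (by linear_combination u1 - g1)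
    · exact tp (by linear_combination 2 * u1 - g1)

/-- A finite group in which the numbers of elements of each order that occurs (the numbers #{g : o(g) = m}, m ranging over the element orders) take exactly three different values is solvable. -/
theorem result {G : Type*} [Group G] [Finite G] (h : (((fun m : ℕ => Nat.card {g : G // orderOf g = m}) '' Set.range (orderOf : G → ℕ))).ncard = 3) : Group.IsSolvable G := by
  by_contra hns
  set s : ℕ → ℕ := fun m => Nat.card {g : G // orderOf g = m} with hs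
  have a5 : s 1 = 1 := by simp [hs]
  obtain ⟨a, b, hab⟩ : ∃ a b, ∀ m, s m = 0 ∨ s m = 1 ∨ s m = a ∨ s m = b := by
    obtain ⟨x, y, z, -, -, -, e⟩ := Set.ncard_eq_three.1 h
    have a1 : ∀ m, s m = 0 ∨ s m = x ∨ s m = y ∨ s m = z := fun m => or_iff_not_imp_left.2 fun h0 => by
      obtain ⟨⟨g, rfl⟩⟩ := (Nat.card_ne_zero.1 h0).1
      exact e.le ⟨_, ⟨g, rfl⟩, rfl⟩
    rcases a1 1 with h | h | h | h
    · omega
    · exact ⟨y, z, fun m => by have := a1 m; omega⟩
    · exact ⟨x, z, fun m => by have := a1 m; omega⟩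
    · exact ⟨x, y, fun m => by have := a1 m; omega⟩
  have h4 : 4 ∣ Nat.card G := by_contra fun e => hns (Coprime.solvable_of_not_four_dvd e)
  obtain ⟨p, q, hp, hq, p2, q2, pq, d1, d2⟩ : ∃ p q : ℕ, p.Prime ∧ q.Prime ∧ p ≠ 2 ∧ q ≠ 2 ∧ p ≠ q ∧ p ∣ Nat.card G ∧
      q ∣ Nat.card G := by
    rcases Hall.two_primes_or_three (Nat.card G) with ⟨p, q, hp, hq, h⟩ | ⟨p, q, r, hp, hq, hr, a, b, c, d, e, f⟩
    · exact absurd (Hall.isSolvable_of_two_primes hp hq h) hns
    · by_cases h1 : p = 2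
      · exact ⟨q, r, hq, hr, h1 ▸ d.symm, h1 ▸ e.symm, f, b, c⟩
      by_cases h2 : q = 2
      · exact ⟨p, r, hp, hr, h1, h2 ▸ f.symm, e, a, c⟩
      · exact ⟨p, q, hp, hq, h1, h2, d, a, b⟩
  have cp : ∀ r : ℕ, r.Prime → r ≠ 2 → Nat.Coprime 4 r := fun r hr h =>
    Nat.Coprime.pow_left 2 ((Nat.coprime_primes Nat.prime_two hr).2 h.symm)
  exact arith s a b (Nat.card G) p q hp hq p2 q2 pq
    (Nat.Coprime.mul_dvd_of_dvd_of_dvd (Nat.Coprime.mul_left (cp q hq q2) ((Nat.coprime_primes hp hq).2 pq))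
      ((cp p hp p2).mul_dvd_of_dvd_of_dvd h4 d1) d2) hab
    (fun m => (dvd_mul_left _ _).trans (card_orderOf_eq (G := G) m).symm.dvd)
    (fun m hm => S4377.aux (G := G) (ne_zero_of_dvd_ne_zero Nat.card_pos.ne' hm) ▸ frobenius hm) a5

end Cfsg.Agent.S3996
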