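import Cfsg.Statements.S3997
import Cfsg.Agent.Lib.Core.Nilpotent

set_option autoImplicit false
open Cfsg

open Subgroup Cfsg.Lib
open scoped commutatorElement
namespace Cfsg.Agent.S3997

/-- Let G and H be finite groups with the same order type: for every m they have the same number of elements of order m. If G is nilpotent then so is H. -/
theorem result {G H : Type*} [Group G] [Finite G] [Group H] [Finite H] (hT : (∀ m : ℕ, Nat.card {g : G // orderOf g = m} = Nat.card {h : H // orderOf h = m})) (hG : Group.IsNilpotent G) :
    Group.IsNilpotent H := by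
  let e : G ≃ H := Equiv.ofFiberEquiv (f := orderOf) (g := orderOf) fun m => (Finite.card_eq.1 (hT m)).some
  have he : ∀ g, orderOf (e g) = orderOf g := Equiv.ofFiberEquiv_map _
  refine Core.isNilpotent_iff_sylow_normal.2 fun p _ Q => ?_
  obtain ⟨P⟩ : Nonempty (Sylow p G) := inferInstance
  have := Sylow.unique_of_normal P (Core.isNilpotent_iff_sylow_normal.1 hG p P)
  have key : ∀ R : Sylow p H, ((R : Subgroup H) : Set H) = e '' (P : Subgroup G) := fun R => by
    refine Set.eq_of_subset_of_ncard_le (fun h hh => ?_) ?_
    · obtain ⟨g, rfl⟩ := e.surjective h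
      obtain ⟨k, hk⟩ := IsPGroup.iff_orderOf.1 R.2 ⟨_, hh⟩
      obtain ⟨T, hT⟩ := (IsPGroup.of_card (G := zpowers g) (by rw [Nat.card_zpowers, ← he, ← hk, ← orderOf_coe])).exists_le_sylow
      exact ⟨g, Subsingleton.elim T P ▸ hT (mem_zpowers g), rfl⟩
    · rw [Set.ncard_image_of_injective _ e.injective]
      exact (P.card_eq_multiplicity.trans (Nat.card_congr e ▸ R.card_eq_multiplicity.symm)).le
  have : Subsingleton (Sylow p H) := ⟨fun a b => Sylow.ext (SetLike.coe_injective ((key a).trans (key b).symm))⟩
  exact Q.normal_of_subsingleton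

end Cfsg.Agent.S3997
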