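import Cfsg.Statements.S3998
import Cfsg.Agent.Lib.FG.OType

set_option autoImplicit false
open Cfsg

open Subgroup Cfsg.Lib
open scoped commutatorElement
namespace Cfsg.Agent.S3998

/-- Let G and H be finite groups with the same order type (for every m the same number of elements of order m). If G is supersolvable then H is solvable. -/
theorem result {G H : Type*} [Group G] [Finite G] [Group H] [Finite H] (hT : (∀ m : ℕ, Nat.card {g : G // orderOf g = m} = Nat.card {h : H // orderOf h = m})) (hG : Cfsg.IsSupersolvable G) :
    Group.IsSolvable H := by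
  obtain ⟨e, he⟩ := FG.exists_oequiv hT
  obtain ⟨K, -, h1, _⟩ := FG.exists_tower (G := H) (fun p _ K _ P hK => by
    obtain ⟨M, _, hM⟩ := FG.ss_tower hG p
    exact FG.normal_of_oequiv e he hM (FG.hall_sup hK P fun q => by simp; omega)) 0
  obtain rfl : K = ⊤ := index_eq_one.1 (Core.IsPiNumber.eq_one_of_compl (π := {q | 0 ≤ q})
    (fun q _ _ => Nat.zero_le q) (Hall.isPiHall_iff.1 h1).2)
  exact Hall.isSolvable_of_mulEquiv topEquiv

end Cfsg.Agent.S3998
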