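import Cfsg.Statements.S3999
import Cfsg.Agent.Lib.FG.OType
import Cfsg.Agent.Lib.Coprime.FrobKernel
import Cfsg.Agent.Lib.Core.Nilpotent

set_option autoImplicit false
open Cfsg

open Subgroup Cfsg.Lib
open scoped commutatorElement
open Cfsg.Lib.Coprime Cfsg.Lib.Hall Cfsg.Lib.Core
namespace Cfsg.Agent.S3999

/-- Let F be a finite Frobenius group (it has a Frobenius complement) and G a finite group with the same order type as F (for every m the same number of elements of order m). Then G is a Frobenius group; moreover G is solvable if and only if F is. -/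
theorem result {F G : Type*} [Group F] [Finite F] [Group G] [Finite G] (hF : (∃ C : Subgroup F, Cfsg.IsFrobeniusComplement C)) (hT : (∀ m : ℕ, Nat.card {g : F // orderOf g = m} = Nat.card {h : G // orderOf h = m})) :
    (∃ C : Subgroup G, Cfsg.IsFrobeniusComplement C) ∧ (Group.IsSolvable G ↔ Group.IsSolvable F) := by
  obtain ⟨C, hC⟩ := hF
  obtain ⟨K, -, _, hKC, hK, hf, ht⟩ := exists_frobKernel hC
  obtain ⟨e, he⟩ := FG.exists_oequiv hT
  have hc := Nat.card_congr e
  have hcop := (hf.coprime le_normalizer_of_normal).symm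
  have h1 := isPiHall_of_coprime (hKC.symm.index_eq_card ▸ hcop)
  generalize hπ : {p | p ∣ Nat.card K} = π at h1
  haveI := BS.Fpf.nilpotent hf le_normalizer_of_normal hC.1
  haveI := piCore_normal π G
  have h2 : IsPiHall π (piCore π G) := isPiHall_iff.2 ⟨isPi_piCore π G, fun p hp hd hs => by
    haveI := Fact.mk hp
    obtain ⟨P⟩ : Nonempty (Sylow p G) := inferInstance
    obtain ⟨Q⟩ : Nonempty (Sylow p F) := inferInstance
    have hQ : (Q : Subgroup F) ≤ K := le_of_isPiHall_normal h1
      ((isPiHall_iff.1 (isPiHall_sylow Q)).1.mono (Set.singleton_subset_iff.2 hs))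
    haveI := isNilpotent_iff_sylow_normal.1 inferInstance p (Q.subtype hQ)
    haveI := (Q.subtype hQ).characteristic_of_normal this
    haveI : (Q : Subgroup F).Normal := by
      rw [← map_subgroupOf_eq_of_le hQ]; exact ConjAct.normal_of_characteristic_of_normal (K := (Q.subtype hQ : Subgroup K))
    haveI := FG.normal_of_oequiv e he (isPiHall_sylow Q) (isPiHall_sylow P)
    exact P.not_dvd_index (hd.trans (index_dvd_of_le (le_piCore
      ((isPiHall_iff.1 (isPiHall_sylow P)).1.mono (Set.singleton_subset_iff.2 hs)))))⟩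
  have e1 := FG.card_hall_eq hc h1 h2
  obtain ⟨M, hM⟩ := exists_right_complement'_of_coprime (coprime_of_isPiHall h2)
  have e2 : Nat.card C = Nat.card M := Nat.eq_of_mul_eq_mul_left Nat.card_pos
    (hKC.card_mul.trans (hc.trans (e1 ▸ hM.card_mul.symm)))
  have hM' : IsPiNumber πᶜ (Nat.card M) := hM.symm.index_eq_card ▸ (isPiHall_iff.1 h2).2
  have hfp : Fpf (piCore π G) M := fpf_iff.2 fun r hr r1 k hk c => by_contra fun k1 => by
    have o1 := isPi_orderOf_of_mem hM' hr
    have o2 := isPi_orderOf_of_mem (isPi_piCore π G) hk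
    obtain ⟨g, hg⟩ := e.surjective (r * k)
    have o3 : orderOf g = orderOf r * orderOf k := by
      rw [← he, hg, Commute.orderOf_mul_eq_mul_orderOf_of_coprime c (o2.coprime_compl o1).symm]
    by_cases hgK : g ∈ K
    · exact r1 (orderOf_eq_one_iff.1 ((((FG.mem_hall_iff h1).1 hgK).of_dvd (o3 ▸ dvd_mul_right _ _)).eq_one_of_compl o1))
    · obtain ⟨u, -, v, hv, -, rfl⟩ := hf.exists_conj le_normalizer_of_normal (ht ▸ mem_top g) hgK
      rw [Invol.orderOf_conj] at o3
      exact k1 (orderOf_eq_one_iff.1 (o2.eq_one_of_compl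
        ((isPi_orderOf_of_mem (e2 ▸ hM') hv).of_dvd (o3 ▸ dvd_mul_left _ _))))
  have n1 : piCore π G ≠ ⊥ := fun h => hK (card_eq_one.1 (e1.trans (card_eq_one.2 h)))
  have n2 : M ≠ ⊥ := fun h => hC.1 (card_eq_one.1 (e2.trans (card_eq_one.2 h)))
  refine ⟨⟨M, isFrobeniusComplement_of_fpf hfp hM.sup_eq_top n1 n2⟩, ?_⟩
  rw [FG.frob_solvable_iff hfp hM.sup_eq_top n1 n2, FG.frob_solvable_iff hf ht hK hC.1, e2, e.surjective.forall]
  simp only [he]

end Cfsg.Agent.S3999
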