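import Cfsg.Statements.S4001
import Cfsg.Agent.Lib.Hall.TIHall
import Cfsg.Agent.Lib.Coprime.FrobKernel

set_option autoImplicit false
open Cfsg

namespace Cfsg.Agent.S4001

open scoped Pointwise commutatorElement
open Cfsg.Lib Cfsg.Lib.Hall

open Cfsg.Lib.Core Cfsg.Lib.Coprime Subgroup
open scoped Pointwise

theorem setup {G : Type*} [Group G] [Finite G] (H K : Subgroup G) [H.Normal] [K.Normal] (hlt : H < K)
    (hK : ∃ C : Subgroup ↥K, Cfsg.IsFrobeniusComplement C ∧ Cfsg.frobeniusKernel C = (H.subgroupOf K : Set ↥K))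
    (hGH : ∃ C : Subgroup (G ⧸ H), Cfsg.IsFrobeniusComplement C ∧ Cfsg.frobeniusKernel C = (K.map (QuotientGroup.mk' H) : Set (G ⧸ H))) :
    ∃ C D : Subgroup G, Fpf H C ∧ H ⊔ C = K ∧ H ≠ ⊥ ∧ C ≠ ⊥ ∧ Fpf C D ∧ D ≤ normalizer (C : Set G) ∧
      K ⊔ D = ⊤ ∧ D ≠ ⊥ ∧ K ⊓ D = ⊥ := by
  obtain ⟨C', hC1, hC2⟩ := hK
  obtain ⟨D', hD1, hD2⟩ := hGH
  obtain ⟨N₁, a1, -, -, a2, a3, a4⟩ := exists_frobKernel hC1
  obtain ⟨N₂, b1, -, -, -, b3, b4⟩ := exists_frobKernel hD1
  obtain rfl : N₁ = H.subgroupOf K := SetLike.coe_injective (a1.trans hC2)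
  obtain rfl : N₂ = K.map (QuotientGroup.mk' H) := SetLike.coe_injective (b1.trans hD2)
  have eH : (H.subgroupOf K).map K.subtype = H := by
    rw [subgroupOf_map_subtype, inf_eq_left.mpr hlt.le]
  set C := C'.map K.subtype with hC
  have f1 : Fpf H C := eH ▸ a3.map_of_injective K.subtype_injective
  have f2 : H ⊔ C = K := by
    rw [← eH, hC, ← Subgroup.map_sup, a4, ← MonoidHom.range_eq_map, range_subtype]
  have f3 : H ≠ ⊥ := fun e => a2 (by rw [e, bot_subgroupOf])
  have f4 : C ≠ ⊥ := fun e => hlt.ne (by rw [← f2, e, sup_bot_eq])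
  have hc := f1.coprime le_normalizer_of_normal
  have hN : ∀ g : G, ∃ h ∈ H, ∃ n ∈ normalizer (C : Set G), g = h * n := by
    intro g
    obtain ⟨o, ho, he⟩ := FT.sz_conj_internal' (N := H) (H := C) (K := MulAut.conj g • C)
      le_normalizer_of_normal hc.symm (by rw [card_conj_smul]; exact hc.symm) (by
        have e1 : MulAut.conj g • H = H := conj_smul_eq_self_iff.mpr (by rw [normalizer_eq_top]; trivial)
        have e2 : MulAut.conj g • K = K := conj_smul_eq_self_iff.mpr (by rw [normalizer_eq_top]; trivial)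
        conv_rhs => rw [← e1, ← smul_sup, f2, e2]
        exact f2)
    refine ⟨o, ho, o⁻¹ * g, ?_, by simp⟩
    rw [← conj_smul_eq_self_iff, conj_mul_smul, ← he, conj_inv_smul_conj_smul]
  have hHN : H ⊓ normalizer (C : Set G) = ⊥ := eq_bot_iff.mpr (f1.inf_centralizer_eq_bot f4 ▸
    le_inf inf_le_left (inf_normalizer_le_centralizer le_normalizer_of_normal f1.inf_eq_bot))
  have hone : ∀ x ∈ normalizer (C : Set G), QuotientGroup.mk' H x = 1 → x = 1 := fun x hx h1 => by
    have : x ∈ H ⊓ normalizer (C : Set G) := ⟨(QuotientGroup.eq_one_iff x).mp h1, hx⟩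
    rwa [hHN, mem_bot] at this
  have hsup : K ⊔ (normalizer (C : Set G) ⊓ D'.comap (QuotientGroup.mk' H)) = ⊤ := by
    rw [eq_top_iff]
    intro g _
    obtain ⟨_, ⟨k, hk, rfl⟩, d, hd, e⟩ := factor_of_sup_eq_top' b4 (QuotientGroup.mk' H g)
    obtain ⟨h, hh, n, hn, e2⟩ := hN (k⁻¹ * g)
    have e3 : g = (k * h) * n := by rw [mul_assoc, ← e2, mul_inv_cancel_left]
    rw [e3]
    refine mul_mem_sup (K.mul_mem hk (hlt.le hh)) ⟨hn, ?_⟩
    have e4 : QuotientGroup.mk' H h = 1 := (QuotientGroup.eq_one_iff h).mpr hh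
    rw [e3, map_mul, map_mul, e4, mul_one, mul_right_inj] at e
    change QuotientGroup.mk' H n ∈ D'
    rwa [e]
  refine ⟨C, normalizer (C : Set G) ⊓ D'.comap (QuotientGroup.mk' H), f1, f2, f3, f4, ?_,
    inf_le_left, hsup, ?_, ?_⟩
  · refine fpf_iff.mpr fun r hr hr1 k hk e => hone k (le_normalizer hk) ?_
    exact b3.eq_one hr.2 (fun h1 => hr1 (hone r hr.1 h1)) (mem_map_of_mem _ (f2 ▸ mem_sup_right hk))
      (by rw [← map_mul, e, map_mul])
  · intro e
    rw [e, sup_bot_eq] at hsup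
    have := b3.inf_eq_bot
    rw [hsup, map_top_of_surjective _ (QuotientGroup.mk'_surjective H), top_inf_eq] at this
    exact hD1.1 this
  · rw [eq_bot_iff]
    rintro x ⟨hx, hx1, hx2⟩
    have : QuotientGroup.mk' H x ∈ K.map (QuotientGroup.mk' H) ⊓ D' := ⟨mem_map_of_mem _ hx, hx2⟩
    rw [b3.inf_eq_bot, mem_bot] at this
    exact hone x hx1 this

theorem exists_pq {G : Type*} [Group G] [Finite G] {p q : ℕ} (hp : p.Prime) (hq : q.Prime) (hpq : p ≠ q)
    {A B : Subgroup G} (h1 : p ∣ Nat.card A) (h2 : q ∣ Nat.card B)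
    (h : ∀ x ∈ A, ∀ y ∈ B, (orderOf x).Coprime (orderOf y) → Commute x y) :
    ∃ g : G, orderOf g = p * q := by
  have := Fact.mk hp
  have := Fact.mk hq
  obtain ⟨x, hx⟩ := exists_prime_orderOf_dvd_card' p h1
  obtain ⟨y, hy⟩ := exists_prime_orderOf_dvd_card' q h2
  rw [← orderOf_coe] at hx hy
  have hc : (orderOf (x : G)).Coprime (orderOf (y : G)) := by
    rw [hx, hy]; exact (Nat.coprime_primes hp hq).mpr hpq
  exact ⟨x * y, by rw [(h _ x.2 _ y.2 hc).orderOf_mul_eq_mul_orderOf_of_coprime hc, hx, hy]⟩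

/-- Let G be a 2-Frobenius group: it has normal subgroups H < K with K a Frobenius group with kernel H and G/H a Frobenius group with kernel K/H. Then G is solvable; K/H has odd order coprime to the order of H and to the order of G/K (it is the image of an odd-order Hall subgroup); G/K is cyclic; and the prime graph of G has exactly two connected components, both complete: for distinct primes p, q dividing the order of G, G has an element of order pq exactly when p and q either both divide the order of K/H or both do not. -/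
theorem result {G : Type*} [Group G] [Finite G] (H K : Subgroup G) [H.Normal] [K.Normal] (hlt : H < K)
    (hK : ∃ C : Subgroup ↥K, Cfsg.IsFrobeniusComplement C ∧ Cfsg.frobeniusKernel C = (H.subgroupOf K : Set ↥K))
    (hGH : ∃ C : Subgroup (G ⧸ H), Cfsg.IsFrobeniusComplement C ∧ Cfsg.frobeniusKernel C = (K.map (QuotientGroup.mk' H) : Set (G ⧸ H))) :
    Group.IsSolvable G ∧ Odd (Nat.card (↥K ⧸ H.subgroupOf K)) ∧
      Nat.Coprime (Nat.card (↥K ⧸ H.subgroupOf K)) (Nat.card ↥H * Nat.card (G ⧸ K)) ∧ IsCyclic (G ⧸ K) ∧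
      ∀ p q : ℕ, p.Prime → q.Prime → p ≠ q → p ∣ Nat.card G → q ∣ Nat.card G →
        ((∃ g : G, orderOf g = p * q) ↔ (p ∣ Nat.card (↥K ⧸ H.subgroupOf K) ↔ q ∣ Nat.card (↥K ⧸ H.subgroupOf K))) := by
  obtain ⟨C, D, f1, f2, f3, f4, g1, g2, g3, g4, g5⟩ := setup H K hlt hK hGH
  have c1 := f1.coprime le_normalizer_of_normal
  have c2 := g1.coprime g2
  have cK : Nat.card K = Nat.card H * Nat.card C := f2 ▸ f1.card_sup le_normalizer_of_normal
  have cC : Nat.card (K ⧸ H.subgroupOf K) = Nat.card C := by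
    have e := Hall.card_mul_relIndex hlt.le
    rw [cK] at e
    exact Nat.eq_of_mul_eq_mul_left Nat.card_pos e
  have hcD := isComplement'_of_normal g5 g3
  have cD : Nat.card (G ⧸ K) = Nat.card D := hcD.symm.index_eq_card
  have cG : Nat.card G = Nat.card H * Nat.card C * Nat.card D := by rw [← cK, hcD.card_mul_card]
  have nH := BS.Fpf.nilpotent f1 le_normalizer_of_normal f4
  have nC := BS.Fpf.nilpotent g1 g2 g4
  have hodd : Odd (Nat.card C) := by
    rw [← Nat.not_even_iff_odd, even_iff_two_dvd]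
    intro h2
    obtain ⟨s, hs, hs1, hs2⟩ := exists_involution_of_two_dvd h2
    obtain ⟨⟨d, hd⟩, hd1⟩ := ne_bot_iff_exists_ne_one.mp g4
    have h3 := f1.involution_unique le_normalizer_of_normal f3 hs (t := d * s * d⁻¹) (conj_mem g2 hd hs) hs1
      (by simpa using hs1) hs2 (by rw [conj_mul, hs2]; simp)
    exact hs1 (g1.eq_one hd (fun e => hd1 (Subtype.ext e)) hs (mul_inv_eq_iff_eq_mul.mp h3))
  have zC := f1.isZGroup le_normalizer_of_normal f3 hodd
  have cycC : IsCyclic C := inferInstance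
  have comD : IsMulCommutative D := by
    have h1 : ⁅D, D⁆ = ⊥ := eq_bot_iff.mpr (g1.inf_centralizer_eq_bot' f4 ▸
      le_inf (commutator_le_self D) (PGrp.commutator_le_centralizer_of_isCyclic cycC g2 g2))
    rw [commutator_eq_bot_iff_le_centralizer] at h1
    exact ⟨⟨fun a b => Subtype.ext (h1 b.2 a a.2)⟩⟩
  have cycD := g1.isCyclic_of_comm g2 f4
  have hmix : ∀ p q : ℕ, p.Prime → q.Prime → p ≠ q → p ∣ Nat.card H → q ∣ Nat.card D →
      ∃ g : G, orderOf g = p * q := by
    intro p q hp hq hpq h1 h2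
    have := Fact.mk hp
    have := Fact.mk hq
    obtain ⟨P⟩ : Nonempty (Sylow p H) := inferInstance
    have hP := P.ne_bot_of_dvd_card h1
    rw [sylow_eq_pCore_of_nilpotent] at hP
    have hPp : IsPGroup p ((pCore p H).map H.subtype) := (isPGroup_pCore p H).map _
    have := hPp.isNilpotent
    have := pCore_characteristic p H
    obtain ⟨V, -, hVn, hV1, hV2, -, hVc, -⟩ := exists_minNormal_elementary_le ((pCore p H).map H.subtype)
      (by rwa [Ne, map_eq_bot_iff_of_injective _ H.subtype_injective])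
    have hVH : V ≤ H := hV2.trans (map_subtype_le _)
    obtain ⟨y, hy⟩ := exists_prime_orderOf_dvd_card' q h2
    rw [← orderOf_coe] at hy
    have hz : zpowers (y : G) ≤ D := zpowers_le.mpr y.2
    have h3 := (g1.mono le_rfl hz).inf_centralizer_ne_bot (hz.trans g2) (V := V) le_normalizer_of_normal
      le_normalizer_of_normal (c1.coprime_dvd_right (card_dvd_of_le hVH)) fun hle =>
        hV1 (eq_bot_iff.mpr (f1.inf_centralizer_eq_bot f4 ▸ le_inf hVH (le_centralizer_iff.mp hle)))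
    exact exists_pq hp hq hpq (Amalg.dvd_card_of_isPGroup_ne_bot (hPp.to_le (inf_le_left.trans hV2)) h3)
      (B := zpowers (y : G)) (by rw [Nat.card_zpowers, hy]) fun a ha b hb _ => (ha.2 b hb).symm
  have hno : ∀ p q : ℕ, p.Prime → q.Prime → ∀ g : G, orderOf g = p * q → p ∣ Nat.card C →
      q ∣ Nat.card C := by
    intro p q hp hq g hg h1
    have hx : orderOf (g ^ q) = p := by
      rw [orderOf_pow' _ hq.ne_zero, hg, Nat.gcd_mul_left_left, Nat.mul_div_cancel _ hq.pos]
    have hy : orderOf (g ^ p) = q := by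
      rw [orderOf_pow' _ hp.ne_zero, hg, Nat.gcd_mul_right_left, Nat.mul_div_cancel_left _ hp.pos]
    have hxK : g ^ q ∈ H ⊔ C := by
      rw [f2]
      refine zpowers_le.mp (le_of_coprime_card_index ?_)
      rw [Nat.card_zpowers, hx, hcD.symm.index_eq_card]
      exact c2.symm.coprime_dvd_left h1
    have hxH : g ^ q ∉ H := fun h => hp.one_lt.ne' (Nat.eq_one_of_dvd_coprimes c1 h1
      (hx ▸ orderOf_dvd_natCard H h))
    obtain ⟨k, -, r, hr, hr1, e⟩ := f1.exists_conj le_normalizer_of_normal hxK hxH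
    have hc : k⁻¹ * g ^ p * k ∈ centralizer {r} := by
      rw [mem_centralizer_singleton_iff]
      have e' : r = k⁻¹ * g ^ q * k := by rw [e]; group
      rw [e']; group
    obtain ⟨h, hh, n, hn, e2⟩ := factor_of_sup_eq_top' (N := H) (H := C ⊔ D)
      (by rw [← sup_assoc, f2, g3]) (k⁻¹ * g ^ p * k)
    have hnN : C ⊔ D ≤ normalizer (C : Set G) := sup_le le_normalizer g2
    have h3 : n * r * n⁻¹ * r⁻¹ ∈ H ⊓ C := by
      refine ⟨?_, C.mul_mem (conj_mem hnN hn hr) (C.inv_mem hr)⟩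
      have e3 := mem_centralizer_singleton_iff.mp hc
      rw [e2] at e3
      have e4 : n * r * n⁻¹ * r⁻¹ = h⁻¹ * (r * h * r⁻¹) := by
        calc n * r * n⁻¹ * r⁻¹ = h⁻¹ * (h * n * r) * n⁻¹ * r⁻¹ := by group
          _ = _ := by rw [e3]; group
      rw [e4]
      exact H.mul_mem (H.inv_mem hh) (Normal.conj_mem inferInstance h hh r)
    rw [f1.inf_eq_bot, mem_bot, mul_inv_eq_one, mul_inv_eq_iff_eq_mul] at h3
    have h4 : n ∈ C := g1.sup_inf_centralizer_le g2 hr hr1 ⟨hn, mem_centralizer_singleton_iff.mpr h3⟩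
    have h5 := f1.sup_inf_centralizer_le' le_normalizer_of_normal hr hr1
      ⟨e2 ▸ mul_mem_sup hh h4, hc⟩
    have h6 := orderOf_dvd_natCard C h5
    have h7 := (MulAut.conj k⁻¹).orderOf_eq (g ^ p)
    rw [MulAut.conj_apply, inv_inv] at h7
    rwa [h7, hy] at h6
  rw [cC, cD]
  refine ⟨?_, hodd, c1.mul_right c2.symm, ?_, fun p q hp hq hpq h1 h2 => ⟨?_, fun h => ?_⟩⟩
  · have := isSolvable_sup_of_normal C H
    rw [f2] at this
    have h2 := isSolvable_sup_of_normal D K
    rw [g3] at h2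
    exact isSolvable_of_mulEquiv topEquiv
  · exact isCyclic_of_surjective _ hcD.symm.QuotientMulEquiv.symm.surjective
  · rintro ⟨g, hg⟩
    exact ⟨hno p q hp hq g hg, hno q p hq hp g (hg.trans (mul_comm p q))⟩
  · by_cases h3 : p ∣ Nat.card C
    · exact exists_pq hp hq hpq h3 (h.mp h3) fun x hx y hy => commute_of_coprime_of_mem_nilpotent hx hy
    have h4 : ∀ r : ℕ, r.Prime → r ∣ Nat.card G → ¬ r ∣ Nat.card C → r ∣ Nat.card H ∨ r ∣ Nat.card D := by
      intro r hr h5 h6
      rw [cG, hr.dvd_mul, hr.dvd_mul] at h5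
      tauto
    rcases h4 p hp h1 h3 with a | a <;> rcases h4 q hq h2 (fun e => h3 (h.mpr e)) with b | b
    · exact exists_pq hp hq hpq a b fun x hx y hy => commute_of_coprime_of_mem_nilpotent hx hy
    · exact hmix p q hp hq hpq a b
    · exact mul_comm q p ▸ hmix q p hq hp hpq.symm b a
    · exact exists_pq hp hq hpq a b fun x hx y hy _ => mul_comm_of_mem hx hy

end Cfsg.Agent.S4001
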