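import Cfsg.Statements.S4002
import Cfsg.Agent.Lib.FG.EPPO

set_option autoImplicit false
open Cfsg

open Subgroup Cfsg.Lib
open scoped commutatorElement
open BG1
namespace Cfsg.Agent.S4002

/-- If the set of element orders of a finite group G is {1, 2, …, n} with n ≥ 7, then G is not solvable. -/
theorem result {G : Type*} [Group G] [Finite G] (n : ℕ) (hn : 7 ≤ n) (h : Set.range (orderOf : G → ℕ) = {k : ℕ | 1 ≤ k ∧ k ≤ n}) : ¬ Group.IsSolvable G := by
  intro hs
  have h1 (k : ℕ) : (∃ g : G, orderOf g = k) ↔ 1 ≤ k ∧ k ≤ n := Set.ext_iff.1 h k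
  suffices ∃ p q r : ℕ, p.Prime ∧ q.Prime ∧ r.Prime ∧ p < q ∧ q < r ∧ r ≤ n ∧ n < p * q by
    obtain ⟨p, q, r, hp, hq, hr, h2, h3, h4, h5⟩ := this
    obtain ⟨K, hK⟩ := exists_hall {p, q, r} (Core.isSolvable_top_iff.2 hs)
    have h6 : ∀ s : ℕ, s.Prime → s ∣ Nat.card K → s = p ∨ s = q ∨ s = r := fun s h h' => isPi_of_hall hK s h h'
    have h7 := FG.EPPO.card_primeFactors_le (H := K) (fun g hg e => by
      have h8 := Nat.minFac_prime (mt orderOf_eq_one_iff.1 e)
      refine isPrimePow_iff_unique_prime_dvd.2 ⟨_, ⟨h8, Nat.minFac_dvd _⟩, fun s hs => by_contra fun e' => ?_⟩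
      have h9 := (Nat.le_of_dvd (orderOf_pos g) (((Nat.coprime_primes hs.1 h8).2 e').mul_dvd_of_dvd_of_dvd hs.2 (Nat.minFac_dvd _))).trans
        ((h1 _).1 ⟨g, rfl⟩).2
      rcases h6 _ hs.1 (hs.2.trans (K.orderOf_dvd_natCard hg)) with rfl | rfl | rfl <;>
        rcases h6 _ h8 ((Nat.minFac_dvd _).trans (K.orderOf_dvd_natCard hg)) with h | h | h <;> rw [h] at h9 e' <;> first | exact e' rfl | nlinarith)
      (solvable_of_le le_top (Core.isSolvable_top_iff.2 hs))
    have h8 : ∀ s : ℕ, s.Prime → s ≤ n → s ∈ ({p, q, r} : Set ℕ) → s ∈ (Nat.card K).primeFactors := fun s h h' h'' => by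
      obtain ⟨g, hg⟩ := (h1 s).2 ⟨h.pos, h'⟩
      refine Nat.mem_primeFactors.2 ⟨h, ?_, Nat.card_pos.ne'⟩
      rw [← hg, ← Nat.card_zpowers]
      exact card_dvd_of_hall hK le_top fun t ht e => by rwa [(Nat.prime_dvd_prime_iff_eq ht h).1 (by rwa [Nat.card_zpowers, hg] at e)]
    have := Finset.card_le_card (show {p, q, r} ⊆ (Nat.card K).primeFactors by
      simp only [Finset.insert_subset_iff, Finset.singleton_subset_iff]
      exact ⟨h8 p hp (by omega) (by simp), h8 q hq (by omega) (by simp), h8 r hr h4 (by simp)⟩)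
    rw [Finset.card_eq_three.2 ⟨p, q, r, h2.ne, (h2.trans h3).ne, h3.ne, rfl⟩] at this
    omega
  by_cases h2 : n < 15
  · exact ⟨3, 5, 7, by norm_num, by norm_num, by norm_num, by omega, by omega, hn, h2⟩
  by_cases h3 : n < 35
  · exact ⟨5, 7, 11, by norm_num, by norm_num, by norm_num, by omega, by omega, by omega, h3⟩
  obtain ⟨p, hp, h4, h5⟩ := Nat.exists_prime_lt_and_le_two_mul (n / 8) (by omega)
  obtain ⟨q, hq, h6, h7⟩ := Nat.exists_prime_lt_and_le_two_mul (2 * (n / 8)) (by omega)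
  obtain ⟨r, hr, h8, h9⟩ := Nat.exists_prime_lt_and_le_two_mul (4 * (n / 8)) (by omega)
  refine ⟨p, q, r, hp, hq, hr, by omega, by omega, by omega, ?_⟩
  nlinarith [show n < 8 * (n / 8) + 8 by omega, show 4 ≤ n / 8 by omega]

end Cfsg.Agent.S4002
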