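import Cfsg.Statements.S4003
import Cfsg.Agent.Lib.Coprime.Kulakoff
import Cfsg.Agent.Lib.Block2.Count
import Cfsg.Agent.Lib.Amalg.Syl

set_option autoImplicit false
open Cfsg

namespace Cfsg.Agent.S4003

open Subgroup Cfsg.Lib Cfsg.Lib.Amalg Cfsg.Lib.FG Cfsg.Lib.Coprime Cfsg.Lib.Hall
open scoped Pointwise
set_option linter.style.haveILetI false

theorem card_in {G : Type*} [Group G] [Finite G] (M : Subgroup G) (n : ℕ) :
    Nat.card {C : Subgroup G // (IsCyclic C ∧ Nat.card C = n) ∧ C ≤ M} =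
      Nat.card {C : Subgroup M // IsCyclic C ∧ Nat.card C = n} := by
  have := card_map_congr M fun C => IsCyclic C ∧ Nat.card C = n
  simp only [← (equivMapOfInjective _ _ M.subtype_injective).isCyclic, Core.card_map_subtype] at this
  rw [this]
  exact Nat.card_congr (Equiv.subtypeEquivRight fun _ => and_comm)

universe u in
theorem miller {p : ℕ} [hp : Fact p.Prime] (h2 : p ≠ 2) {s : ℕ} (hs : 1 < s) (n : ℕ) :
    ∀ (G : Type u) [Group G] [Finite G], Nat.card G = p ^ n → ¬ IsCyclic G →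
      p ∣ Nat.card {C : Subgroup G // IsCyclic C ∧ Nat.card C = p ^ s} := by
  classical
  induction n with
  | zero =>
    intro G _ _ hG hc
    haveI := (Nat.card_eq_one_iff_unique.1 (hG.trans (pow_zero _))).1
    exact absurd isCyclic_of_subsingleton hc
  | succ n ih =>
  intro G _ _ hG hc
  by_cases h : n < s
  · haveI : IsEmpty {C : Subgroup G // IsCyclic C ∧ Nat.card C = p ^ s} := ⟨fun ⟨C, h1, h3⟩ => hc (by
      obtain rfl : C = ⊤ := eq_top_of_le_card C (by rw [hG, h3]; exact Nat.pow_le_pow_right hp.out.pos h)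
      exact isCyclic_of_surjective _ topEquiv.surjective)⟩
    simp
  haveI := Fintype.ofFinite (Subgroup G)
  obtain ⟨m, rfl⟩ : ∃ m, n = m + 2 := ⟨n - 2, by omega⟩
  have h1 := double_count (fun M : Subgroup G => M.index = p) (fun C : Subgroup G => IsCyclic C ∧ Nat.card C = p ^ s)
    fun M C => C ≤ M
  have h3 := dvd_card_cyclic_max hG hc (fun e => absurd e h2)
  rw [← ZMod.natCast_eq_zero_iff] at h3 ⊢
  have h4 := congrArg (Nat.cast : ℕ → ZMod p) h1
  rw [Nat.cast_sum, Nat.cast_sum, Finset.sum_congr rfl (g := fun M : Subgroup G => if IsCyclic M then (1 : ZMod p) else 0) fun M hM => ?_,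
    eq_comm, Finset.sum_congr rfl (g := fun _ => 1) fun C hC => ?_, eq_comm] at h4
  · rw [Finset.sum_boole, Finset.filter_filter, ← Invol.card_eq_filter, h3, Finset.sum_const,
      ← Invol.card_eq_filter] at h4
    simpa using h4.symm
  · refine (ZMod.natCast_eq_natCast_iff _ _ _).2 (card_max_over_modEq_one (.of_card hG) ?_) |>.trans Nat.cast_one
    rintro rfl
    have := (Finset.mem_filter.1 hC).2.1
    exact hc (isCyclic_of_surjective _ topEquiv.surjective)
  · have hM' := card_eq_of_index hp.out.pos hG (Finset.mem_filter.1 hM).2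
    rw [card_in]
    split_ifs with h5
    · rw [← Nat.cast_one, ← card_subgroups_cyclic h5 (hM' ▸ pow_dvd_pow p (not_lt.1 h))]
      exact congrArg _ (Nat.card_congr (Equiv.subtypeEquivRight fun C => and_iff_right inferInstance))
    · exact (ZMod.natCast_eq_zero_iff _ _).2 (ih M hM' h5)

theorem gen {G : Type*} [Group G] [Finite G] {p : ℕ} [hp : Fact p.Prime] (h2 : p ≠ 2) {s : ℕ} (hs : 1 < s)
    {P : Subgroup G} (hP : Syl p P ⊤) (hc : ¬ IsCyclic P) :
    p ∣ Nat.card {C : Subgroup G // IsCyclic C ∧ Nat.card C = p ^ s} := by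
  let f : P →* Equiv.Perm (Subgroup G) := (MulAction.toPermHom (MulAut G) _).comp (MulAut.conj.comp P.subtype)
  have e : ∀ (a : P) (C : Subgroup G), C ≃* f a C := fun a C => equivSMul (MulAut.conj a.1) C
  have h1 := Block2.card_modEq_card_fixed hP.isPGroup f (fun C => IsCyclic C ∧ Nat.card C = p ^ s)
    fun a C h => ⟨(e a C).isCyclic.1 h.1, (Nat.card_congr (e a C).toEquiv).symm.trans h.2⟩
  have h3 := Block2.card_modEq_card_fixed hP.isPGroup f (fun C => (IsCyclic C ∧ Nat.card C = p ^ s) ∧ C ≤ P)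
    fun a C h => ⟨⟨(e a C).isCyclic.1 h.1.1, (Nat.card_congr (e a C).toEquiv).symm.trans h.1.2⟩,
      Core.map_conj_le_of_mem a.2 h.2⟩
  obtain ⟨n, hn⟩ := IsPGroup.iff_card.1 hP.isPGroup
  rw [card_in] at h3
  refine ((h1.trans (Eq.trans (congrArg (· % p) ?_) h3.symm)).dvd_iff dvd_rfl).2 (miller h2 hs n P hn hc)
  exact Nat.card_congr (Equiv.subtypeEquivRight fun C => ⟨fun h => ⟨⟨h.1, hP.le_of_le_normalizer (.of_card h.1.2)
    le_top fun a ha => Core.conj_smul_eq_iff_mem_normalizer.1 (h.2 ⟨a, ha⟩)⟩, h.2⟩, fun h => ⟨h.1.1, h.2⟩⟩)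

/-- Let G be a finite group, p an odd prime dividing the order of G whose Sylow p-subgroups are not cyclic, and n = p^s·m with s > 1 and m coprime to p. Then the number of elements of G of order n is a multiple of p^s. -/
theorem result {G : Type*} [Group G] [Finite G] (p : ℕ) [Fact p.Prime] (hodd : p ≠ 2) (hpG : p ∣ Nat.card G)
    (P : Sylow p G) (hP : ¬ IsCyclic ↥(P : Subgroup G)) (s m : ℕ) (hs : 1 < s) (hm : Nat.Coprime p m) :
    p ^ s ∣ Nat.card {g : G // orderOf g = p ^ s * m} := by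
  classical
  have hp : p.Prime := Fact.out
  haveI := Fintype.ofFinite G
  have hc : (p ^ s).Coprime m := hm.pow_left s
  have h1 := card_decomp (G := G) hc fun x => orderOf x = p ^ s * m
  rw [Nat.card_congr (Equiv.subtypeEquivRight fun x => and_iff_right_of_imp fun h => h ▸ pow_orderOf_eq_one x)] at h1
  rw [h1]
  refine dvd_sum_of_class _ _ (fun x g => ?_) fun z => ?_
  · rw [← card_conj _ g]
    refine Nat.card_congr (Equiv.subtypeEquivRight fun y => ?_)
    have := (MulAut.conj g).orderOf_eq (y * x)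
    simp only [mem_cent_iff, conj_pow, conj_eq_one_iff, conj_mul, mul_left_inj, mul_right_inj]
    rw [← this]; rfl
  have h2 : ∀ y, (y ∈ centralizer ({z} : Set G) ∧ y ^ p ^ s = 1 ∧ z ^ m = 1 ∧ orderOf (y * z) = p ^ s * m) ↔
      (y ∈ centralizer ({z} : Set G) ∧ orderOf y = p ^ s) ∧ orderOf z = m := fun y => by
    refine ⟨fun ⟨a, b, c, d⟩ => ?_, fun ⟨⟨a, b⟩, c⟩ => ⟨a, b ▸ pow_orderOf_eq_one y, c ▸ pow_orderOf_eq_one z, ?_⟩⟩
    · have b' := orderOf_dvd_of_pow_eq_one b
      have c' := orderOf_dvd_of_pow_eq_one c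
      rw [Commute.orderOf_mul_eq_mul_orderOf_of_coprime (mem_cent_iff.1 a) (hc.of_dvd b' c')] at d
      have e : orderOf y = p ^ s := Nat.dvd_antisymm b'
        ((hc.coprime_dvd_right c').dvd_of_dvd_mul_right (d ▸ dvd_mul_right _ _))
      exact ⟨⟨a, e⟩, Nat.eq_of_mul_eq_mul_left (pow_pos hp.pos s) (e ▸ d)⟩
    · rw [Commute.orderOf_mul_eq_mul_orderOf_of_coprime (mem_cent_iff.1 a) (by rwa [b, c]), b, c]
  simp only [h2]
  by_cases hz : orderOf z = m
  swap
  · simp [hz]
  simp only [hz, and_true]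
  rw [← card_sub _ fun y => orderOf y = p ^ s]
  simp only [Subgroup.orderOf_coe]
  obtain ⟨s, rfl⟩ : ∃ t, s = t + 1 := ⟨s - 1, by omega⟩
  rw [card_orderOf_eq, Nat.totient_prime_pow_succ hp, ← mul_assoc, ← mul_assoc, pow_succ']
  refine (Nat.mul_dvd_mul_right ?_ _).mul_right _
  by_cases h3 : p ∣ cs z
  · exact h3.mul_right _
  obtain ⟨T, hT⟩ := exists_syl p (centralizer ({z} : Set G))
  rw [← pow_succ']
  refine (gen hodd hs hT.subgroupOf_top fun h => hP ?_).mul_left _
  obtain ⟨g, -, e⟩ := (hT.of_le_of_not_dvd le_top (by rwa [relIndex_top_right])).exists_conj (syl_top P)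
  rw [← e]
  exact ((subgroupOfEquivOfLe hT.le).trans (equivMapOfInjective _ _ (MulAut.conj g).injective)).isCyclic.1 h

end Cfsg.Agent.S4003
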