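import Cfsg.Statements.S4004
import Cfsg.Agent.Lib.GW.Part1
import Cfsg.Agent.S0144
import Cfsg.Agent.S3995
import Cfsg.Agent.Lib.Coprime.FrobKernel
import Cfsg.Agent.Lib.Block2.Count
import Cfsg.Agent.Lib.Hall.MinNormal

set_option autoImplicit false
open Cfsg

namespace Cfsg.Agent.S4004

open Subgroup Cfsg.Lib Cfsg.Lib.FG
open scoped Pointwise
set_option linter.style.haveILetI false

theorem lemL {G : Type*} [Group G] [Finite G] {p d : ℕ} (hp : p.Prime) (hd : ¬ p ∣ d) (hd2 : 2 < d)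
    (h : ¬ p ∣ Nat.card {g : G // orderOf g = d}) :
    2 * Nat.card {g : G // orderOf g = p} ≤ Nat.card {g : G // orderOf g = d * p} := by
  haveI := Fact.mk hp
  obtain ⟨P⟩ : Nonempty (Sylow p G) := inferInstance
  have h1 := Block2.card_modEq_card_centralizer P.isPGroup' (fun x : G => orderOf x = d) fun a _ x hx => by
    rw [← hx]; exact (MulAut.conj a).orderOf_eq x
  obtain ⟨⟨x, hx, hxP⟩⟩ : Nonempty {x : G // orderOf x = d ∧ x ∈ centralizer ((P : Subgroup G) : Set G)} := by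
    by_contra h0
    rw [not_nonempty_iff] at h0
    rw [Nat.card_of_isEmpty (α := {x : G // orderOf x = d ∧ _})] at h1
    exact h ((Nat.modEq_zero_iff_dvd).1 h1)
  have h2 : ∀ y : {g : G // orderOf g = p}, ∃ u : G, orderOf u = d ∧ Commute u y := by
    rintro ⟨y, hy⟩
    obtain ⟨Q, hQ⟩ := (IsPGroup.of_card (by rw [Nat.card_zpowers, hy, pow_one]) : IsPGroup p (zpowers y)).exists_le_sylow
    obtain ⟨g, rfl⟩ := MulAction.exists_smul_eq G P Q
    have h3 := hQ (mem_zpowers y)
    rw [Sylow.coe_subgroup_smul, mem_pointwise_smul_iff_inv_smul_mem] at h3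
    refine ⟨g * x * g⁻¹, hx ▸ (MulAut.conj g).orderOf_eq x, ?_⟩
    have h4 := (hxP _ h3).symm
    simp only [MulAut.smul_def, ← map_inv, MulAut.conj_apply, inv_inv] at h4
    show g * x * g⁻¹ * y = y * (g * x * g⁻¹)
    calc g * x * g⁻¹ * y = g * (x * (g⁻¹ * y * g)) * g⁻¹ := by group
      _ = _ := by rw [h4]; group
  choose u hu hc using h2
  have hco : d.Coprime p := ((Nat.Prime.coprime_iff_not_dvd hp).2 hd).symm
  let w : Bool × {g : G // orderOf g = p} → G := fun z => if z.1 then u z.2 else (u z.2)⁻¹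
  have hw : ∀ z, orderOf (w z) = d ∧ Commute (w z) z.2 := by
    rintro ⟨_ | _, y⟩
    · exact ⟨by simp [w, hu], (hc y).inv_left⟩
    · exact ⟨hu y, hc y⟩
  have := Nat.card_le_card_of_injective (fun z => (⟨w z * z.2, by
    rw [(hw z).2.orderOf_mul_eq_mul_orderOf_of_coprime (by rwa [(hw z).1, z.2.2]), (hw z).1, z.2.2]⟩ :
      {g : G // orderOf g = d * p})) (by
    rintro ⟨b, y⟩ ⟨b', y'⟩ e
    replace e : w (b, y) * y = w (b', y') * y' := congrArg Subtype.val e
    have e1 := congrArg (· ^ d) e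
    simp only [(hw _).2.mul_pow, (hw _).1 ▸ pow_orderOf_eq_one (w _), one_mul] at e1
    obtain ⟨k, hk⟩ := Nat.exists_mul_mod_eq_one_of_coprime hco hp.one_lt
    have key : ∀ v : {g : G // orderOf g = p}, ((v : G) ^ d) ^ k = v := fun v => by
      rw [← pow_mul, ← pow_mod_orderOf, v.2, hk.2, pow_one]
    obtain rfl : y = y' := Subtype.ext (by rw [← key y, ← key y', e1])
    have e2 := mul_right_cancel e
    have hne : u y ≠ (u y)⁻¹ := fun e3 => by
      have : orderOf (u y) ∣ 2 := orderOf_dvd_of_pow_eq_one (by rw [sq]; nth_rw 1 [e3]; simp)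
      rw [hu] at this
      exact absurd (Nat.le_of_dvd two_pos this) (by omega)
    rcases b with _ | _ <;> rcases b' with _ | _
    exacts [rfl, absurd e2.symm hne, absurd e2 hne, rfl])
  simpa using this

theorem frob {G : Type*} [Group G] [Finite G] {p q : ℕ} (hp : p.Prime) (hq : q.Prime) (hodd : Odd (Nat.card G))
    (hpq : p ≠ q) (hp' : p ∣ Nat.card G) (ho : ∀ g : G, g ≠ 1 → orderOf g = p ∨ orderOf g = q) {V : Subgroup G}
    [V.Normal] (h0 : V ≠ ⊥) (hmin : ∀ K : Subgroup G, K.Normal → K ≤ V → K = ⊥ ∨ K = V) [IsMulCommutative V]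
    (hV : IsPGroup q V) : ∃ C : Subgroup G, Cfsg.IsFrobeniusComplement C ∧ (Nat.card ↥C).Prime := by
  haveI := Fact.mk hp
  haveI := Fact.mk hq
  have hc : ∀ a b : G, orderOf a = p → orderOf b = q → ¬ Commute a b := fun a b ha hb h => by
    have h1 := h.orderOf_mul_eq_mul_orderOf_of_coprime (by rw [ha, hb]; exact (Nat.coprime_primes hp hq).2 hpq)
    rw [ha, hb] at h1
    rcases ho (a * b) (fun e => by rw [e, orderOf_one] at h1; nlinarith [hp.two_le, hq.two_le]) with e | e <;>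
      rw [e] at h1 <;> nlinarith [hp.two_le, hq.two_le]
  have hpg : ∀ {r s : ℕ} (_ : r.Prime) (_ : s.Prime) (_ : r ≠ s) {X : Subgroup G}, IsPGroup r X → ∀ x ∈ X, orderOf x ≠ s :=
    fun {r s} hr hs hrs X hX x hx e => by
      haveI := Fact.mk hr
      obtain ⟨k, hk⟩ := IsPGroup.iff_orderOf.1 hX ⟨x, hx⟩
      rw [orderOf_mk, e] at hk
      exact hrs ((Nat.prime_dvd_prime_iff_eq hs hr).1 (hs.dvd_of_dvd_pow hk.dvd)).symm
  have hVq : ∀ v ∈ V, v ≠ 1 → orderOf v = q := fun v hv h1 => (ho v h1).resolve_left (hpg hq hp hpq.symm hV v hv)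
  obtain ⟨P⟩ : Nonempty (Sylow p G) := inferInstance
  have hPp : ∀ v ∈ (P : Subgroup G), v ≠ 1 → orderOf v = p := fun v hv h1 =>
    (ho v h1).resolve_right (hpg hp hq hpq P.isPGroup' v hv)
  have hP0 : (P : Subgroup G) ≠ ⊥ := P.ne_bot_of_dvd_card hp'
  have hcyc : IsCyclic (P : Subgroup G) :=
    BG1.Regular.isCyclic_of_pgroup hp P.isPGroup' (hodd.of_dvd_nat (card_subgroup_dvd_card _)) h0
      le_normalizer_of_normal fun r hr h1 => eq_bot_iff.2 fun v hv => by
        by_contra h2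
        exact hc r v (hPp r hr h1) (hVq v hv.1 h2) (mem_centralizer_singleton_iff.1 hv.2).symm
  have hK := (GW.not_dvd_relIndex (K := ⊥) (M := ⊤) hq hV h0 le_normalizer_of_normal
    (fun U hU hn => hmin U (normalizer_eq_top_iff.1 (top_le_iff.1 hn)) hU)
    (by rw [bot_inf_eq, relIndex_bot_right]; exact hq.one_lt.ne' ∘ Nat.dvd_one.1) (.inl rfl)
    (fun m _ h1 h2 v hv => by
      have h3 : orderOf m = q := (ho m h1).resolve_left fun e =>
        hpq ((Nat.prime_dvd_prime_iff_eq hq hp).1 (e ▸ h2)).symm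
      have h4 : IsPGroup q ↥(V ⊔ zpowers m) :=
        hV.to_sup_of_normal_left (.of_card (by rw [Nat.card_zpowers, h3, pow_one]))
      rw [show m ^ q = 1 from h3 ▸ pow_orderOf_eq_one m]
      by_cases h5 : v * m = 1
      · rw [h5, one_pow]
      · rw [← (ho _ h5).resolve_left (hpg hq hp hpq.symm h4 _ (mul_mem_sup hv (mem_zpowers m))), pow_orderOf_eq_one])
    (fun m _ h1 h2 v hv h3 => by
      by_contra h4
      exact hc m v ((ho m h1).resolve_right fun e => h2 e.symm.dvd) (hVq v hv h4) h3)).2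
  rw [relIndex_top_right] at hK
  obtain ⟨v₀, hv₀, hv₀'⟩ := (bot_or_exists_ne_one V).resolve_left h0
  refine ⟨P, Coprime.isFrobeniusComplement_of_fpf (K := centralizer (V : Set G)) (fun r hr h1 => eq_bot_iff.2 fun k hk => ?_)
    ?_ (fun e => h0 (eq_bot_iff.2 (e ▸ le_centralizer V))) hP0, ?_⟩
  · by_contra h2
    rcases ho k h2 with e | e
    · exact hc k v₀ e (hVq _ hv₀ hv₀') (hk.1 v₀ hv₀).symm
    · exact hc r k (hPp r hr h1) e (mem_centralizer_singleton_iff.1 hk.2).symm
  · rw [← index_eq_one]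
    by_contra h1
    obtain ⟨r, hr, h2⟩ := Nat.exists_prime_and_dvd h1
    haveI := Fact.mk hr
    obtain ⟨g, hg⟩ := exists_prime_orderOf_dvd_card' r (h2.trans (index_dvd_card _))
    rcases ho g (fun e => by rw [e, orderOf_one] at hg; exact hr.one_lt.ne hg) with e | e <;> rw [hg] at e <;> subst e
    · exact P.not_dvd_index (h2.trans (index_dvd_of_le le_sup_right))
    · exact hK (h2.trans (index_dvd_of_le le_sup_left))
  · obtain ⟨g, hg⟩ := IsCyclic.exists_ofOrder_eq_natCard (α := (P : Subgroup G))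
    rw [← hg, ← orderOf_coe, hPp g g.2 fun e => ?_]
    · exact hp
    · rw [← orderOf_coe, e, orderOf_one] at hg
      exact hP0 (card_eq_one.1 hg.symm)

/-- Let G be a finite group of odd order in which the numbers of elements of each order that occurs (the numbers #{g : o(g) = m}, m ranging over the element orders of G) take exactly three different values. Then the order of G has at most two prime divisors; and if it has exactly two, then every Sylow subgroup of G for a prime dividing its order has prime exponent, G is a Frobenius group, and some Frobenius complement of G has prime order. -/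
theorem result {G : Type*} [Group G] [Finite G] (hodd : Odd (Nat.card G)) (h : (((fun m : ℕ => Nat.card {g : G // orderOf g = m}) '' Set.range (orderOf : G → ℕ))).ncard = 3) :
    (Nat.card G).primeFactors.card ≤ 2 ∧
      ((Nat.card G).primeFactors.card = 2 →
        (∀ (p : ℕ) [Fact p.Prime] (P : Sylow p G), p ∣ Nat.card G → Monoid.exponent ↥(P : Subgroup G) = p) ∧
        ∃ C : Subgroup G, Cfsg.IsFrobeniusComplement C ∧ (Nat.card ↥C).Prime) := by
  set s : ℕ → ℕ := fun m => Nat.card {g : G // orderOf g = m} with hs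
  have a0 : ∀ g : G, s (orderOf g) ≠ 0 := fun g => Nat.card_ne_zero.2 ⟨⟨⟨g, rfl⟩⟩, inferInstance⟩
  have a3 : ∀ m, m.totient ∣ s m := fun m => (dvd_mul_left _ _).trans (card_orderOf_eq (G := G) m).symm.dvd
  have a4 : ∀ m, m ∣ Nat.card G → m ∣ ∑ d ∈ m.divisors, s d := fun m hm =>
    S4377.aux (G := G) (ne_zero_of_dvd_ne_zero Nat.card_pos.ne' hm) ▸ frobenius hm
  have a5 : s 1 = 1 := by simp [hs]
  obtain ⟨m, n, a6⟩ : ∃ m n : ℕ, ∀ d, 2 < d → s d = 0 ∨ s d = m ∨ s d = n := by
    obtain ⟨x, y, z, -, -, -, e⟩ := Set.ncard_eq_three.1 h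
    have b1 : ∀ d, 2 < d → s d = 0 ∨ (s d ≠ 1 ∧ s d ∈ ({x, y, z} : Set ℕ)) := fun d hd => or_iff_not_imp_left.2 fun h0 => by
      obtain ⟨⟨g, rfl⟩⟩ := (Nat.card_ne_zero.1 h0).1
      refine ⟨fun h => ?_, e.le ⟨_, ⟨g, rfl⟩, rfl⟩⟩
      have := (Nat.totient_even hd).two_dvd.trans (h ▸ a3 _)
      omega
    have b2 : 1 ∈ ({x, y, z} : Set ℕ) := e.le ⟨1, ⟨1, orderOf_one⟩, a5⟩
    simp only [Set.mem_insert_iff, Set.mem_singleton_iff] at b1 b2
    rcases b2 with rfl | rfl | rfl
    exacts [⟨y, z, fun d hd => by have := b1 d hd; tauto⟩, ⟨x, z, fun d hd => by have := b1 d hd; tauto⟩,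
      ⟨x, y, fun d hd => by have := b1 d hd; tauto⟩]
  have a2 : ∀ p : ℕ, p.Prime → p ∣ Nat.card G → 2 < p := fun p hp h =>
    hp.two_le.lt_of_ne fun e => by subst e; exact (Nat.not_even_iff_odd.2 hodd) (even_iff_two_dvd.2 h)
  have a7 : ∀ p : ℕ, p.Prime → p ∣ Nat.card G → (s p : ZMod p) = -1 ∧ (2 : ZMod p) ≠ 0 ∧ (1 : ZMod p) ≠ 0 ∧ 0 < s p :=
    fun p hp h => by
    haveI := Fact.mk hp
    have h4 : p ∣ 1 + s p := by simpa [hp.sum_divisors, a5, add_comm] using a4 p h
    refine ⟨?_, fun e => (a2 p hp h).ne' ((Nat.prime_dvd_prime_iff_eq hp Nat.prime_two).1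
      ((ZMod.natCast_eq_zero_iff 2 p).1 e)), one_ne_zero, Nat.pos_of_ne_zero fun e => hp.ne_one (by simpa [e] using h4)⟩
    rw [← ZMod.natCast_eq_zero_iff] at h4
    push_cast at h4
    linear_combination h4
  have a8 : ∀ p q : ℕ, p.Prime → p ∣ Nat.card G → q.Prime → q ∣ Nat.card G → q ≠ p →
      (s (q * p) : ZMod p) = - s q := fun p q hp h2 hq h4 e => by
    have h5 := (dvd_mul_left p q).trans (a4 _ (((Nat.coprime_primes hq hp).2 e).mul_dvd_of_dvd_of_dvd h4 h2))
    rw [S3995.sum_mul _ hp (by rwa [Nat.prime_dvd_prime_iff_eq hp hq, eq_comm]), hq.sum_divisors, hq.sum_divisors, one_mul,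
      a5, ← ZMod.natCast_eq_zero_iff] at h5
    push_cast at h5
    linear_combination h5 - (a7 p hp h2).1
  have aL : ∀ p d : ℕ, p.Prime → ¬ p ∣ d → 2 < d → (s d : ZMod p) ≠ 0 → 2 * s p ≤ s (d * p) :=
    fun p d hp h1 h2 h3 => lemL hp h1 h2 fun h4 => h3 ((ZMod.natCast_eq_zero_iff _ _).2 h4)
  have a9 : ∀ p : ℕ, p.Prime → (s (p * p) : ZMod p) = 0 := fun p hp => by
    have h7 := a3 (p * p)
    rw [← pow_two, Nat.totient_prime_pow hp two_pos, pow_two] at h7
    exact (ZMod.natCast_eq_zero_iff _ _).2 (dvd_trans ⟨p - 1, by simp⟩ h7)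
  have hsq : ∀ p : ℕ, p.Prime → s (p * p) = 0 → ∀ g : G, ¬ p * p ∣ orderOf g := fun p hp h0 g hg => by
    have := a0 (g ^ (orderOf g / (p * p)))
    rw [orderOf_pow_orderOf_div (orderOf_pos g).ne' hg] at this
    exact this h0
  -- distinct primes have distinct counts
  have key : ∀ m n : ℕ, (∀ d, 2 < d → s d = 0 ∨ s d = m ∨ s d = n) → ∀ p q : ℕ, p.Prime → p ∣ Nat.card G → q.Prime →
      q ∣ Nat.card G → q ≠ p → s p = m → s q = m → False := by
    intro m n a6
    have k1 : ∀ p q : ℕ, p.Prime → p ∣ Nat.card G → q.Prime → q ∣ Nat.card G → q ≠ p → s p = m → s q = m →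
        s (q * p) = n ∧ (n : ZMod p) = 1 ∧ (m : ZMod p) = -1 := fun p q hp h2 hq h4 e e1 e2 => by
      obtain ⟨b1, b2, b3, -⟩ := a7 p hp h2
      have b4 := a8 p q hp h2 hq h4 e
      rw [e2, ← e1, b1, neg_neg] at b4
      rcases a6 (q * p) (by nlinarith [a2 p hp h2, hq.two_le]) with h6 | h6 | h6 <;> rw [h6] at b4
      · exact absurd (by simpa using b4.symm) b3
      · exact absurd (by linear_combination b1 - b4 - (congrArg (Nat.cast : ℕ → ZMod p) e1)) b2
      · exact ⟨h6, b4, e1 ▸ b1⟩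
    intro p q hp h2 hq h4 e e1 e2
    obtain ⟨c1, c2, c3⟩ := k1 p q hp h2 hq h4 e e1 e2
    obtain ⟨-, c4, c5⟩ := k1 q p hq h4 hp h2 e.symm e2 e1
    obtain ⟨b1, b2, b3, b4⟩ := a7 p hp h2
    by_cases hr : ∃ r : ℕ, r.Prime ∧ r ∣ Nat.card G ∧ r ≠ p ∧ r ≠ q
    · obtain ⟨r, hr, h5, h6, h7⟩ := hr
      have n1 : ¬ p ∣ r := by rwa [Nat.prime_dvd_prime_iff_eq hp hr, eq_comm]
      have n2 : ¬ p ∣ q := by rwa [Nat.prime_dvd_prime_iff_eq hp hq, eq_comm]
      rcases a6 r (a2 r hr h5) with e3 | e3 | e3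
      · exact (a7 r hr h5).2.2.2.ne' e3
      · have d1 := (k1 p r hp h2 hr h5 h6 e1 e3).1
        have d2 := (k1 q r hq h4 hr h5 h7 e2 e3).1
        have n3 : ¬ p ∣ r * q := fun h => (hp.dvd_mul.1 h).elim n1 n2
        have d3 := aL p (r * q) hp n3 (by nlinarith [a2 q hq h4, hr.two_le]) (by rw [d2, c2]; exact b3)
        have d4 : s (r * q * p) = n := by
          rcases a6 (r * q * p) (by nlinarith [a2 p hp h2, Nat.mul_pos hr.pos hq.pos]) with h8 | h8 | h8 <;> omega
        have h8 := (dvd_mul_left p (r * q)).trans (a4 _ (((Nat.Prime.coprime_iff_not_dvd hp).2 n3).symm.mul_dvd_of_dvd_of_dvd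
          (((Nat.coprime_primes hr hq).2 h7).mul_dvd_of_dvd_of_dvd h5 h4) h2))
        have n4 : ¬ q ∣ r := by rwa [Nat.prime_dvd_prime_iff_eq hq hr, eq_comm]
        rw [S3995.sum_mul _ hp n3, S3995.sum_mul _ hq n4, S3995.sum_mul (fun d => s (d * p)) hq n4] at h8
        simp only [hr.sum_divisors, one_mul, a5, e1, e2, e3, d1, d2, d4, c1] at h8
        rw [← ZMod.natCast_eq_zero_iff] at h8
        push_cast at h8
        rw [c2, c3] at h8
        exact b2 (by linear_combination h8)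
      · have d1 := a8 p r hp h2 hr h5 h6
        have d3 := aL p r hp n1 (a2 r hr h5) (by rw [e3, c2]; exact b3)
        rw [e3, c2] at d1
        rcases a6 (r * p) (by nlinarith [a2 p hp h2, hr.two_le]) with h8 | h8 | h8
        · omega
        · omega
        · rw [h8, c2] at d1
          exact b2 (by linear_combination d1)
    · push Not at hr
      have k2 : ∀ p : ℕ, p.Prime → p ∣ Nat.card G → s p = m → (n : ZMod p) = 1 → (m : ZMod p) = -1 →
          p ^ (Nat.card G).factorization p ∣ 1 + m := fun p hp h2 e1 c2 c3 => by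
        obtain ⟨-, -, b3, -⟩ := a7 p hp h2
        have h0 : s (p * p) = 0 := by
          have := a9 p hp
          rcases a6 (p * p) (by nlinarith [a2 p hp h2]) with h8 | h8 | h8
          · exact h8
          · rw [h8, c3] at this; exact absurd (neg_eq_zero.1 this) b3
          · rw [h8, c2] at this; exact absurd this b3
        have h1 := frobenius (G := G) (Nat.ordProj_dvd (Nat.card G) p)
        rw [Nat.card_congr (Equiv.subtypeEquivRight (q := fun x : G => x ^ p = 1) fun x => ?_), S4377.aux hp.ne_zero,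
          hp.sum_divisors] at h1
        · rw [← e1, ← a5, add_comm]; exact h1
        simp only [← orderOf_dvd_iff_pow_eq_one]
        refine ⟨fun h3 => ?_, fun h3 => h3.trans (dvd_pow_self p (hp.factorization_pos_of_dvd Nat.card_pos.ne' h2).ne')⟩
        obtain ⟨k, -, hk⟩ := (Nat.dvd_prime_pow hp).1 h3
        rcases k with _ | _ | k
        · simp [hk]
        · simp [hk]
        · exact absurd (hk ▸ ⟨p ^ k, by ring⟩) (hsq p hp h0 x)
      have h6 : Nat.card G ∣ 1 + m := by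
        rw [← Nat.factorization_prime_le_iff_dvd Nat.card_pos.ne' (by omega)]
        intro r hr'
        rw [← hr'.pow_dvd_iff_le_factorization (by omega)]
        by_cases h5 : r ∣ Nat.card G
        · by_cases h6 : r = p
          · exact h6 ▸ k2 p hp h2 e1 c2 c3
          · exact hr r hr' h5 h6 ▸ k2 q hq h4 e2 c4 c5
        · simp [Nat.factorization_eq_zero_of_not_dvd h5]
      have h7 := S4377.aux (G := G) (n := q * p) (Nat.mul_pos hq.pos hp.pos).ne'
      rw [S3995.sum_mul _ hp (by rwa [Nat.prime_dvd_prime_iff_eq hp hq, eq_comm]), hq.sum_divisors, hq.sum_divisors,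
        one_mul] at h7
      have h8 : Nat.card {g : G // g ^ (q * p) = 1} ≤ Nat.card G := Finite.card_subtype_le _
      have h9 := Nat.le_of_dvd (by omega) h6
      change _ = s q + s 1 + (s (q * p) + s p) at h7
      omega
  have key2 : ∀ p q : ℕ, p.Prime → p ∣ Nat.card G → q.Prime → q ∣ Nat.card G → q ≠ p → s p ≠ s q := by
    intro p q hp h2 hq h4 e e1
    rcases a6 p (a2 p hp h2) with e3 | e3 | e3
    · exact (a7 p hp h2).2.2.2.ne' e3
    · exact key m n a6 p q hp h2 hq h4 e e3 (e1 ▸ e3)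
    · exact key n m (fun d hd => by have := a6 d hd; tauto) p q hp h2 hq h4 e e3 (e1 ▸ e3)
  have a10 : ∀ p : ℕ, p.Prime → p ∣ Nat.card G → s p = m ∨ s p = n := fun p hp h2 =>
    (a6 p (a2 p hp h2)).resolve_left (a7 p hp h2).2.2.2.ne'
  refine ⟨?_, fun h2 => ?_⟩
  · by_contra! h3
    obtain ⟨p, hp, q, hq, r, hr, e1, e2, e3⟩ := Finset.two_lt_card.1 h3
    simp only [Nat.mem_primeFactors] at hp hq hr
    have := key2 p q hp.1 hp.2.1 hq.1 hq.2.1 e1.symm
    have := key2 p r hp.1 hp.2.1 hr.1 hr.2.1 e2.symm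
    have := key2 q r hq.1 hq.2.1 hr.1 hr.2.1 e3.symm
    have := a10 p hp.1 hp.2.1
    have := a10 q hq.1 hq.2.1
    have := a10 r hr.1 hr.2.1
    omega
  obtain ⟨p, q, e, hpq⟩ := Finset.card_eq_two.1 h2
  have hall : ∀ r : ℕ, r.Prime ∧ r ∣ Nat.card G ↔ r = p ∨ r = q := fun r => by
    have := Finset.ext_iff.1 hpq r
    simpa [Nat.card_pos.ne'] using this
  have k3 : ∀ p q : ℕ, p.Prime → p ∣ Nat.card G → q.Prime → q ∣ Nat.card G → q ≠ p → s (q * p) ≠ s p :=
    fun p q hp h2 hq h4 e e1 => by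
    obtain ⟨b1, -, b3, b4⟩ := a7 p hp h2
    have b5 := a8 p q hp h2 hq h4 e
    rw [e1, b1, neg_inj] at b5
    have := aL p q hp (by rwa [Nat.prime_dvd_prime_iff_eq hp hq, eq_comm]) (a2 q hq h4) (b5 ▸ b3)
    omega
  have k4 : ∀ p q : ℕ, p.Prime → p ∣ Nat.card G → q.Prime → q ∣ Nat.card G → q ≠ p → s (q * p) = 0 :=
    fun p q hp h2 hq h4 e => by
    have := k3 p q hp h2 hq h4 e
    have := mul_comm q p ▸ k3 q p hq h4 hp h2 e.symm
    have := key2 p q hp h2 hq h4 e
    have := a10 p hp h2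
    have := a10 q hq h4
    have := a6 (q * p) (by nlinarith [a2 p hp h2, hq.two_le])
    omega
  have k5 : ∀ p q : ℕ, p.Prime → p ∣ Nat.card G → q.Prime → q ∣ Nat.card G → q ≠ p → s (p * p) = 0 :=
    fun p q hp h2 hq h4 e => by
    by_contra h0
    have e1 : s (p * p) = s q := by
      have := key2 p q hp h2 hq h4 e
      have := a10 p hp h2
      have := a10 q hq h4
      have := a6 (p * p) (by nlinarith [a2 p hp h2])
      have : s (p * p) ≠ s p := fun e2 => by
        have := a9 p hp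
        rw [e2, (a7 p hp h2).1, neg_eq_zero] at this
        exact (a7 p hp h2).2.2.1 this
      omega
    have h5 := aL q (p * p) hq (fun h => e ((Nat.prime_dvd_prime_iff_eq hq hp).1 ((hq.dvd_mul.1 h).elim id id)))
      (by nlinarith [a2 p hp h2]) (by rw [e1, (a7 q hq h4).1, neg_ne_zero]; exact (a7 q hq h4).2.2.1)
    have h6 : s (p * p * q) ≠ 0 := by have := (a7 q hq h4).2.2.2; omega
    obtain ⟨⟨g, hg⟩⟩ := (Nat.card_ne_zero.1 h6).1
    have := a0 (g ^ (orderOf g / (q * p)))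
    rw [orderOf_pow_orderOf_div (orderOf_pos g).ne' (hg ▸ ⟨p, by ring⟩)] at this
    exact this (k4 p q hp h2 hq h4 e)
  obtain ⟨hp, hp'⟩ := (hall p).2 (.inl rfl)
  obtain ⟨hq, hq'⟩ := (hall q).2 (.inr rfl)
  have k6 : ∀ r : ℕ, r.Prime → r ∣ Nat.card G → s (r * r) = 0 := fun r hr h4 => by
    rcases (hall r).1 ⟨hr, h4⟩ with rfl | rfl
    exacts [k5 _ q hp hp' hq hq' (Ne.symm e), k5 _ p hq hq' hp hp' e]
  have ho : ∀ g : G, g ≠ 1 → orderOf g = p ∨ orderOf g = q := fun g hg => by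
    obtain ⟨r, hr, c, hc⟩ := Nat.exists_prime_and_dvd (mt orderOf_eq_one_iff.1 hg)
    have hr' : r ∣ Nat.card G := (Dvd.intro _ hc.symm).trans (orderOf_dvd_natCard g)
    by_cases h1 : c = 1
    · rw [hc, h1, mul_one]; exact (hall r).1 ⟨hr, hr'⟩
    obtain ⟨t, ht, c', rfl⟩ := Nat.exists_prime_and_dvd h1
    have ht' : t ∣ Nat.card G := (hc ▸ ⟨r * c', by ring⟩ : t ∣ orderOf g).trans (orderOf_dvd_natCard g)
    have := a0 (g ^ (orderOf g / (r * t)))
    rw [orderOf_pow_orderOf_div (orderOf_pos g).ne' (hc ▸ ⟨c', by ring⟩)] at this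
    by_cases h3 : r = t
    · exact absurd (h3 ▸ k6 r hr hr') this
    · exact absurd (k4 t r ht ht' hr hr' h3) this
  refine ⟨fun r _ P h4 => S3995.exp_eq Fact.out P.isPGroup' (P.dvd_card_of_dvd_card h4) fun g hg =>
    hsq r Fact.out (k6 r Fact.out h4) g (by rw [Subgroup.orderOf_coe, hg]), ?_⟩
  haveI : Group.IsSolvable G := S0144.result p q ((Nat.card G).factorization p) ((Nat.card G).factorization q) hp hq (by
    conv_lhs => rw [← Nat.prod_factorization_pow_eq_self (Nat.card_pos (α := G)).ne']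
    rw [Finsupp.prod, Nat.support_factorization, hpq, Finset.prod_pair e])
  haveI : Nontrivial G := Finite.one_lt_card_iff_nontrivial.1 (hp.one_lt.trans_le (Nat.le_of_dvd Nat.card_pos hp'))
  obtain ⟨V, r, hV, h0, hmin, hc, hr, -, hVr⟩ := Hall.exists_minNormal_elementary (G := G)
  haveI := Fact.mk hr
  rcases (hall r).1 ⟨hr, (hVr.card_eq_or_dvd.resolve_left (mt Subgroup.card_eq_one.1 h0)).trans
    (Subgroup.card_subgroup_dvd_card V)⟩ with rfl | rfl
  · exact frob hq hp hodd (Ne.symm e) hq' (fun g hg => (ho g hg).symm) h0 hmin hVr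
  · exact frob hp hq hodd e hp' ho h0 hmin hVr

end Cfsg.Agent.S4004
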