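import Cfsg.Statements.S4005
import Cfsg.Agent.Lib.FG.Ord234

set_option autoImplicit false
open Cfsg

open Subgroup Cfsg.Lib
open scoped commutatorElement
namespace Cfsg.Agent.S4005

/-- A finite group whose set of element orders is exactly {1, 2, 3} has either a normal elementary abelian 3-subgroup of index 2 or a normal elementary abelian 2-subgroup of index 3. -/
theorem result {G : Type*} [Group G] [Finite G] (h : Set.range (orderOf : G → ℕ) = {k : ℕ | 1 ≤ k ∧ k ≤ 3}) :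
    (∃ N : Subgroup G, N.Normal ∧ Cfsg.IsElementaryAbelian 3 N ∧ N.index = 2) ∨
      (∃ N : Subgroup G, N.Normal ∧ Cfsg.IsElementaryAbelian 2 N ∧ N.index = 3) := by
  have h1 (k : ℕ) : (∃ g : G, orderOf g = k) ↔ 1 ≤ k ∧ k ≤ 3 := Set.ext_iff.1 h k
  have h2 : ∀ g : G, g ^ 2 = 1 ∨ g ^ 3 = 1 := fun g => by
    obtain ⟨h2, h3⟩ := (h1 _).1 ⟨g, rfl⟩
    simp only [← orderOf_dvd_iff_pow_eq_one]
    interval_cases orderOf g <;> norm_num
  have h3 : ∀ g : G, g ^ 4 = 1 ∨ g ^ 3 = 1 := fun g => (h2 g).imp_left fun e => by rw [show 4 = 2 * 2 from rfl, pow_mul, e, one_pow]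
  have h4 (H : Subgroup G) (hH : IsPGroup 2 H) (x : H) : x ^ 2 = 1 := Subtype.ext ((h2 x).elim id fun e => by
    have := (FG.pow_of_ord h3 x.2).1 hH
    rw [pow_succ, e, one_mul] at this
    rw [coe_pow, this, one_pow]; rfl)
  obtain ⟨a, ha⟩ := (h1 2).2 (by norm_num)
  obtain ⟨b, hb⟩ := (h1 3).2 (by norm_num)
  have : Nontrivial G := ⟨⟨a, 1, fun e => by simp [e] at ha⟩⟩
  rcases FG.core_of_ord h3 with h5 | h5
  · obtain ⟨V, _, hV, hC, -, h6⟩ := FG.ord_two h3 (hb ▸ _root_.orderOf_dvd_natCard b) h5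
    refine .inr ⟨V, ‹_›, FG.elemAb_of_sq (h4 V hV), h6.elim id fun ⟨_, ⟨e⟩⟩ => ?_⟩
    have : Fact (Nat.Prime 2) := ⟨Nat.prime_two⟩
    obtain ⟨S, hS⟩ := hV.exists_le_sylow
    have h7 : (S : Subgroup G) = V := le_antisymm (fun x hx => hC fun y hy => PGrp.comm_of_mem (FG.elemAb_of_sq (h4 _ S.isPGroup')).1 (hS hy) hx) hS
    refine absurd ?_ S.not_dvd_index
    rw [h7, index_eq_card, Nat.card_congr e.toEquiv, Nat.card_perm]
    norm_num [Nat.factorial]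
  obtain ⟨V, _, hV, S, hS, ⟨e⟩, h6⟩ := FG.ord_three h3 (ha ▸ _root_.orderOf_dvd_natCard a) h5
  refine .inl ⟨V, ‹_›, hV, ?_⟩
  have h7 := PGrp.card_dvd_of_isCyclic_of_pow (h6 S le_rfl (FG.elemAb_of_sq (h4 S hS)).1) (FG.elemAb_of_sq (h4 S hS)).2
  rw [← Nat.card_congr e.toEquiv, ← index_eq_card] at h7
  refine ((Nat.dvd_prime Nat.prime_two).1 h7).resolve_left fun e => ?_
  simpa [ha] using orderOf_dvd_of_pow_eq_one (hV.2 a ((index_eq_one.1 e).ge (mem_top a)))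

end Cfsg.Agent.S4005
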