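import Cfsg.Statements.S4006
import Cfsg.Agent.Lib.FG.Ord234

set_option autoImplicit false
open Cfsg

open Subgroup Cfsg.Lib
open scoped commutatorElement
namespace Cfsg.Agent.S4006

/-- A finite group whose set of element orders is exactly {1, 2, 3, 4} has a normal subgroup N such that either N is a 2-group of exponent 4 and nilpotency class at most 2 with G/N of order 3, or N is an elementary abelian 2-group with G/N isomorphic to the symmetric group of degree 3, or N is an elementary abelian 3-group with G/N cyclic of order 4 or quaternion of order 8. -/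
theorem result {G : Type*} [Group G] [Finite G] (h : Set.range (orderOf : G → ℕ) = {k : ℕ | 1 ≤ k ∧ k ≤ 4}) :
    ∃ (N : Subgroup G) (_ : N.Normal),
      (IsPGroup 2 ↥N ∧ Monoid.exponent ↥N = 4 ∧ Group.nilpotencyClass ↥N ≤ 2 ∧ N.index = 3) ∨
      (Cfsg.IsElementaryAbelian 2 N ∧ Nonempty (G ⧸ N ≃* Equiv.Perm (Fin 3))) ∨
      (Cfsg.IsElementaryAbelian 3 N ∧ ((IsCyclic (G ⧸ N) ∧ N.index = 4) ∨ Nonempty (G ⧸ N ≃* QuaternionGroup 2))) := by
  have h1 (k : ℕ) : (∃ g : G, orderOf g = k) ↔ 1 ≤ k ∧ k ≤ 4 := Set.ext_iff.1 h k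
  have h3 : ∀ g : G, g ^ 4 = 1 ∨ g ^ 3 = 1 := fun g => by
    obtain ⟨h2, h3⟩ := (h1 _).1 ⟨g, rfl⟩
    simp only [← orderOf_dvd_iff_pow_eq_one]
    interval_cases orderOf g <;> norm_num
  obtain ⟨a, ha⟩ := (h1 4).2 (by norm_num)
  obtain ⟨b, hb⟩ := (h1 3).2 (by norm_num)
  have : Nontrivial G := ⟨⟨a, 1, fun e => by simp [e] at ha⟩⟩
  have : Fact (Nat.Prime 2) := ⟨Nat.prime_two⟩
  rcases FG.core_of_ord h3 with h5 | h5
  · obtain ⟨V, _, hV, hC, hcl, h6⟩ := FG.ord_two h3 (hb ▸ _root_.orderOf_dvd_natCard b) h5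
    refine ⟨V, ‹_›, h6.elim (fun e => .inl ⟨hV, Nat.dvd_antisymm (Monoid.exponent_dvd_of_forall_pow_eq_one fun x => Subtype.ext
      ((FG.pow_of_ord h3 x.2).1 hV)) ?_, ?_, e⟩) fun h => .inr (.inl h)⟩
    · have h7 : a ∈ V := Transfer.mem_of_pow_mem_of_coprime (n := 3) (by rw [ha]; norm_num) (e ▸ V.pow_index_mem a)
      rw [← ha, ← orderOf_mk a h7]
      exact Monoid.order_dvd_exponent _
    · have := hV.isNilpotent
      exact Subgroup.lowerCentralSeries_eq_bot_iff_nilpotencyClass_le.1 (PGrp.commutator_commutator_top_eq_bot_iff.2 fun x y =>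
        mem_center_iff.2 fun g => (hcl x y g).symm)
  obtain ⟨V, _, hV, S, hS, ⟨e⟩, h6⟩ := FG.ord_three h3 ((show 2 ∣ 4 by norm_num).trans (ha ▸ _root_.orderOf_dvd_natCard a)) h5
  refine ⟨V, ‹_›, .inr (.inr ⟨hV, ?_⟩)⟩
  have h7 (hc : IsCyclic S) : IsCyclic (G ⧸ V) ∧ V.index = 4 := by
    refine ⟨isCyclic_of_surjective e.symm e.symm.surjective, Nat.dvd_antisymm ?_ ?_⟩
    · rw [index_eq_card, Nat.card_congr e.toEquiv]
      exact PGrp.card_dvd_of_isCyclic_of_pow hc fun x hx => (FG.pow_of_ord h3 hx).1 hS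
    have h7 := orderOf_dvd_of_pow_eq_one ((pow_mul a _ _).trans (hV.2 _ (V.pow_index_mem a)))
    rw [ha] at h7
    exact (show Nat.Coprime 4 3 by norm_num).dvd_of_dvd_mul_right h7
  rcases FG.dich hS fun A B _ hB _ => PGrp.isCyclic_of_isCyclic_map S.subtype_injective (h6 _ (map_subtype_le B)
    (PGrp.isMulCommutative_of_card_le_sq ((hS.to_subgroup B).map _) (by rw [Core.card_map_subtype, hB]))) with h | h | ⟨-, x, y, m, h, h8, h9⟩
  · exact .inl (h7 h)
  · exact .inl (h7 (h6 S le_rfl (FG.elemAb_of_sq h).1))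
  have h10 := orderOf_dvd_of_pow_eq_one ((FG.pow_of_ord h3 x.2).1 hS)
  rw [orderOf_coe, h.ord] at h10
  obtain rfl : m = 0 := by have := (Nat.pow_dvd_pow_iff_le_right one_lt_two).1 (show _ ∣ 2 ^ 2 from h10); omega
  exact .inr ((h.quaternion h8 h9).map e.trans)

end Cfsg.Agent.S4006
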