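import Cfsg.Statements.S4010
import Cfsg.Agent.Lib.Max.R2
import Cfsg.Agent.Lib.HH.Irr
import Cfsg.Agent.Lib.Block2.PMod

set_option autoImplicit false
open Cfsg

namespace Cfsg.Agent.S4010

open Subgroup Module Cfsg.Lib Cfsg.Lib.HH Cfsg.Lib.Forms.R2
open scoped commutatorElement
set_option linter.style.haveILetI false

universe u v w

section CharP
variable {P : Type*} [Group P] {F : Type*} [Field F] {V : Type*} [AddCommGroup V] [Module F V]
  (ρ : P →* End F V)

/-- the ascending fixed point chain -/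
def W : ℕ → Submodule F V
  | 0 => ⊥
  | i + 1 => ⨅ g, (W i).comap (ρ g - 1)

theorem mem_W {i : ℕ} {v : V} : v ∈ W ρ (i + 1) ↔ ∀ g, ρ g v - v ∈ W ρ i := by simp [W]

theorem W_inv (i : ℕ) : ∀ g, ∀ v ∈ W ρ i, ρ g v ∈ W ρ i := by
  induction i with
  | zero => intro g v hv; simp_all [W]
  | succ i ih =>
    intro g v hv
    rw [← sub_add_cancel (ρ g v) v]
    exact add_mem ((mem_W ρ).2 fun h => sub_mem (ih _ _ ((mem_W ρ).1 hv g)) ((mem_W ρ).1 hv g)) hv

theorem W_top {p : ℕ} [Fact p.Prime] [CharP F p] [Finite P] (hP : IsPGroup p P) [FiniteDimensional F V]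
    (i : ℕ) : W ρ i = ⊤ ∨ i ≤ finrank F (W ρ i) := by
  induction i with
  | zero => simp
  | succ i ih =>
    have hle : W ρ i ≤ W ρ (i + 1) := fun v hv => (mem_W ρ).2 fun g => sub_mem (W_inv ρ i g v hv) hv
    by_cases h : W ρ i = ⊤
    · exact Or.inl (top_le_iff.1 (h ▸ hle))
    haveI := Submodule.Quotient.nontrivial_iff.2 h
    obtain ⟨v, h0, hv⟩ := Block2.exists_fixed_ne_zero hP (Representation.quotient ρ (W ρ i) (W_inv ρ i))
    obtain ⟨v, rfl⟩ := Submodule.Quotient.mk_surjective _ v
    have h1 : W ρ i < W ρ (i + 1) := hle.lt_of_ne fun e => h0 ((Submodule.Quotient.mk_eq_zero _).2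
      (e ▸ (mem_W ρ).2 fun g => (Submodule.Quotient.eq _).1 (hv g)))
    exact Or.inr ((Nat.succ_le_succ (ih.resolve_left h)).trans (Submodule.finrank_lt_finrank_of_lt h1))

/-- elements moving the chain by `m` steps -/
def C (m : ℕ) : Subgroup P where
  carrier := {g | ∀ i, ∀ v ∈ W ρ (i + m), ρ g v - v ∈ W ρ i}
  one_mem' i v _ := by simp
  mul_mem' {a b} ha hb i v hv := by
    have := add_mem (ha i _ (W_inv ρ _ b v hv)) (hb i v hv)
    rwa [sub_add_sub_cancel, rep_mul_apply] at this
  inv_mem' {a} ha i v hv := by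
    have := neg_mem (ha i _ (W_inv ρ _ a⁻¹ v hv))
    rwa [neg_sub, rep_apply_inv] at this

theorem dS_le_C (k : ℕ) : dS ⊤ k ≤ C ρ (2 ^ k) := by
  induction k with
  | zero => exact fun g _ i v hv => (mem_W ρ).1 hv g
  | succ k ih =>
    refine commutator_le.2 fun x hx y hy i v hv => ?_
    rw [pow_succ, mul_two, ← add_assoc] at hv
    have h1 := W_inv ρ _ (y * x)⁻¹ v hv
    have := sub_mem (ih hx i _ (ih hy _ _ h1)) (ih hy i _ (ih hx _ _ h1))
    convert this using 1
    simp only [map_sub, rep_mul_apply, commutatorElement_def, mul_inv_rev]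
    rw [show y * (x * (x⁻¹ * y⁻¹)) = 1 by group, show x * (y * (x⁻¹ * y⁻¹)) = x * y * x⁻¹ * y⁻¹ by group,
      map_one, End.one_apply]
    abel

theorem charP {p : ℕ} [Fact p.Prime] [CharP F p] [Finite P] (hP : IsPGroup p P) [FiniteDimensional F V]
    {k : ℕ} (h : finrank F V < 2 ^ k) {g : P} (hg : g ∈ dS ⊤ k) : ρ g = 1 := by
  have h1 : W ρ (2 ^ k) = ⊤ := (W_top ρ hP _).resolve_right
    (not_le.2 ((Submodule.finrank_le _).trans_lt h))
  ext v
  exact sub_eq_zero.1 (dS_le_C ρ k hg 0 v (by rw [zero_add, h1]; trivial))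

end CharP

theorem cross {p : ℕ} [hp : Fact p.Prime] {F : Type u} [Field F] [IsAlgClosed F] (hF : (p : F) ≠ 0) (k : ℕ) :
    ∀ (n : ℕ) {P : Type v} [Group P] [Finite P], IsPGroup p P → ∀ {V : Type w} [AddCommGroup V] [Module F V]
      [FiniteDimensional F V] (ρ : P →* End F V), finrank F V = n → n < 2 ^ k → ∀ g ∈ dS ⊤ k, ρ g = 1 := by
  induction k with
  | zero =>
    intro n P _ _ _ V _ _ _ ρ h1 h2 g _
    haveI : Subsingleton V := finrank_zero_iff.1 (by omega : finrank F V = 0)
    exact Subsingleton.elim _ _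
  | succ k ihk =>
  intro n
  induction n using Nat.strong_induction_on with | _ n ih => ?_
  intro P _ _ hP V _ _ _ ρ h1 h2 g hg
  rcases subsingleton_or_nontrivial V with _ | hV
  · exact Subsingleton.elim _ _
  by_cases hI : Irr ρ
  swap
  · obtain ⟨U, hU, h3, h4⟩ : ∃ U : Submodule F V, (∀ g, ∀ u ∈ U, ρ g u ∈ U) ∧ U ≠ ⊥ ∧ U ≠ ⊤ := by
      by_contra! H
      exact hI ⟨hV, fun U hU => or_iff_not_imp_left.2 (H U hU)⟩
    have a1 := Submodule.finrank_lt h4
    have a2 := U.finrank_quotient_add_finrank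
    have a3 : 0 < finrank F U := Nat.pos_of_ne_zero fun e => h3 (Submodule.finrank_eq_zero.1 e)
    have b1 := ih _ (by omega) hP (Representation.subrepresentation ρ U hU) rfl (by omega) g hg
    have b2 := ih _ (by omega) hP (Representation.quotient ρ U hU) rfl (by omega) g hg
    obtain ⟨j, hj⟩ := hP g
    ext v
    have c1 : ρ g v - v ∈ U := (Submodule.Quotient.eq _).1 (LinearMap.congr_fun b2 (Submodule.Quotient.mk v))
    have c2 : ρ g (ρ g v - v) = ρ g v - v := congrArg Subtype.val (LinearMap.congr_fun b1 ⟨_, c1⟩)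
    have c3 : ∀ m : ℕ, ρ (g ^ m) v = v + (m : F) • (ρ g v - v) := fun m => by
      induction m with
      | zero => simp
      | succ m ihm =>
        rw [pow_succ', ← rep_mul_apply, ihm, map_add, map_smul, c2, Nat.cast_succ, add_smul, one_smul]
        abel
    have c4 := c3 (p ^ j)
    rw [hj, map_one, End.one_apply, left_eq_add, smul_eq_zero, Nat.cast_pow] at c4
    exact sub_eq_zero.1 (c4.resolve_left (pow_ne_zero _ hF))
  let Z : Subgroup P :=
    { carrier := {g | ∀ x, ρ g * ρ x = ρ x * ρ g}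
      one_mem' := by simp
      mul_mem' := fun {a b} ha hb x => by rw [map_mul, mul_assoc, hb, ← mul_assoc, ha, mul_assoc]
      inv_mem' := fun {a} ha x => by
        have := congrArg (fun y => ρ a⁻¹ * y * ρ a⁻¹) (ha x)
        simpa only [← map_mul, mul_assoc, inv_mul_cancel_left, mul_inv_cancel, mul_one,
          mul_inv_cancel_left] using this.symm }
  haveI : Z.Normal := ⟨fun a ha x y => by
    have := congrArg (fun z => ρ x * z * ρ x⁻¹) (ha (x⁻¹ * y * x))
    simpa only [← map_mul, mul_assoc, inv_mul_cancel_left, mul_inv_cancel, mul_one,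
      mul_inv_cancel_left] using this⟩
  rw [add_comm, dS_add] at hg
  by_cases hZ : Z = ⊤
  · have h3 : dS ⊤ 1 ≤ ρ.toHomUnits.ker := commutator_le.2 fun x _ y _ => by
      rw [MonoidHom.mem_ker, map_commutatorElement, commutatorElement_eq_one_iff_mul_comm]
      exact Units.ext (hZ.ge (mem_top x) y)
    have h4 : ∀ (S : Subgroup P) j, dS S j ≤ S := fun S j => by
      induction j with
      | zero => exact le_rfl
      | succ j ih => exact (commutator_mono ih ih).trans (commutator_le_self _)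
    exact congrArg Units.val (h3 (h4 _ _ hg))
  haveI : Nontrivial (P ⧸ Z) := QuotientGroup.nontrivial_iff.2 hZ
  haveI := (hP.to_quotient Z).center_nontrivial
  obtain ⟨⟨a, ha⟩, ha1⟩ := exists_ne (1 : center (P ⧸ Z))
  obtain ⟨a, rfl⟩ := QuotientGroup.mk_surjective a
  have h3 : ∀ x, x * a * x⁻¹ * a⁻¹ ∈ Z := fun x => by
    rw [← QuotientGroup.eq_one_iff]
    simp [mem_center_iff.1 ha x]
  choose c hc using fun x => hI.schur (A := ρ (x * a * x⁻¹ * a⁻¹)) fun y w => LinearMap.congr_fun (h3 x y) w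
  have h4 : ∀ x v, ρ x (ρ a v) = c x • ρ a (ρ x v) := fun x v => by
    have := LinearMap.congr_fun (hc x) (ρ (a * x) v)
    rwa [rep_mul_apply, show x * a * x⁻¹ * a⁻¹ * (a * x) = x * a by group, ← rep_mul_apply, ← rep_mul_apply] at this
  obtain ⟨v₀, hv₀⟩ := exists_ne (0 : V)
  have h5 : ∀ x v, ρ x v = 0 → v = 0 := fun x v h => by rw [← rep_inv_apply ρ x v, h, map_zero]
  let φ : P →* F :=
    { toFun := c
      map_one' := smul_left_injective F (fun h => hv₀ (h5 a _ h)) (by simpa using (h4 1 v₀).symm)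
      map_mul' := fun x y => smul_left_injective F (fun h => hv₀ (h5 (a * (x * y)) _ h)) (by
        have := h4 (x * y) v₀
        rw [← rep_mul_apply ρ x y, h4 y, map_smul, h4 x, smul_smul] at this
        simp only [rep_mul_apply] at this ⊢
        rw [← this, mul_comm]) }
  have h6 : ∀ x, c x ≠ 0 := fun x => (φ.toHomUnits x).ne_zero
  have h7 : ∀ x l, ∀ v ∈ (ρ a).eigenspace l, ρ x v ∈ (ρ a).eigenspace ((c x)⁻¹ * l) := fun x l v hv => by
    rw [End.mem_eigenspace_iff] at hv ⊢
    have := h4 x v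
    rw [hv, map_smul] at this
    rw [mul_smul, this, inv_smul_smul₀ (h6 x)]
  obtain ⟨x, hx⟩ : ∃ x, c x ≠ 1 := by
    by_contra! H
    refine ha1 (Subtype.ext ((QuotientGroup.eq_one_iff a).2 fun x => LinearMap.ext fun v => ?_))
    simpa [H] using (h4 x v).symm
  have h8 : ⨆ l, (ρ a).eigenspace l = ⊤ := by
    refine (hI.2 _ fun y u hu => ?_).resolve_left fun h => ?_
    · exact Submodule.iSup_induction _ (motive := fun u => ρ y u ∈ _) hu
        (fun l v hv => Submodule.mem_iSup_of_mem _ (h7 y l v hv)) (by simp)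
        fun u v h h' => by rw [map_add]; exact add_mem h h'
    · obtain ⟨l, hl⟩ := End.exists_eigenvalue (ρ a)
      exact hl (eq_bot_iff.2 ((le_iSup (ρ a).eigenspace l).trans h.le))
  have h9 : dS ⊤ 1 ≤ φ.toHomUnits.ker := Abelianization.commutator_subset_ker _
  have h10 : dS (dS ⊤ 1) k ≤ (dS ⊤ k).map φ.toHomUnits.ker.subtype := by
    rw [dS_map, ← MonoidHom.range_eq_map, range_subtype]
    exact dS_mono h9 k
  obtain ⟨g, hg', rfl⟩ := h10 hg
  ext v
  refine Submodule.iSup_induction _ (motive := fun u => ρ g u = u) (h8.ge Submodule.mem_top)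
    (fun l v hv => ?_) (by simp) fun u v h h' => by rw [map_add, h, h']
  by_cases hv0 : v = 0
  · simp [hv0]
  have hl : l ≠ 0 := by
    rintro rfl
    exact hv0 (h5 a v (by simpa using End.mem_eigenspace_iff.1 hv))
  have d1 : finrank F ((ρ a).eigenspace l) ≤ finrank F ((ρ a).eigenspace ((c x)⁻¹ * l)) :=
    LinearMap.finrank_le_finrank_of_injective (f := (ρ x).restrict (h7 x l)) fun u w e =>
      Subtype.ext (Function.LeftInverse.injective (rep_inv_apply ρ x) (congrArg Subtype.val e))
  have d2 := Submodule.finrank_add_finrank_le_of_disjoint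
    ((ρ a).eigenspaces_iSupIndep.pairwiseDisjoint (show l ≠ (c x)⁻¹ * l from fun e => hx (by
      rw [eq_comm, mul_eq_right₀ hl] at e; exact inv_eq_one.1 e)))
  have := ihk _ (hP.to_subgroup φ.toHomUnits.ker) (Representation.subrepresentation
    (ρ.comp φ.toHomUnits.ker.subtype) ((ρ a).eigenspace l) fun y v hv => by
      have := h7 y l v hv
      rwa [show c y = 1 from congrArg Units.val y.2, inv_one, one_mul] at this) rfl
    (by rw [pow_succ] at h2; omega) g hg'
  exact congrArg Subtype.val (LinearMap.congr_fun this ⟨v, hv⟩)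

/-- Let F be a field, n ≥ 1, and P a finite p-group (p a prime) admitting an injective homomorphism into the general linear group of degree n over F. Then the derived length of P is at most ⌊log₂ n⌋ + 1: that term of the derived series of P is trivial. -/
theorem result {P : Type*} [Group P] [Finite P] (p : ℕ) [Fact p.Prime] (hP : IsPGroup p P) (F : Type*) [Field F] (n : ℕ) (hn : 1 ≤ n) (ρ : P →* Matrix.GeneralLinearGroup (Fin n) F) (hρ : Function.Injective ρ) : derivedSeries P (Nat.log 2 n + 1) = ⊥ := by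
  let K := AlgebraicClosure F
  let σ : P →* End K (Fin n → K) := (Matrix.toLinAlgEquiv'.toMulEquiv.toMonoidHom.comp
    (Units.coeHom _)).comp ((Matrix.GeneralLinearGroup.map (algebraMap F K)).comp ρ)
  have h1 : finrank K (Fin n → K) < 2 ^ (Nat.log 2 n + 1) := by
    simpa using Nat.lt_pow_succ_log_self one_lt_two n
  rw [← dS_top, eq_bot_iff]
  intro g hg
  have h2 : σ g = 1 := by
    by_cases h : (p : K) = 0
    · haveI := (CharP.charP_iff_prime_eq_zero Fact.out).2 h
      exact charP σ hP h1 hg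
    · exact cross h _ _ hP σ rfl h1 g hg
  have h3 : (ρ g).1.map (algebraMap F K) = (1 : Matrix _ _ F).map (algebraMap F K) := by
    rw [Matrix.map_one _ (map_zero _) (map_one _)]
    exact Matrix.toLinAlgEquiv'.injective (h2.trans (map_one _).symm)
  exact hρ (Units.ext ((Matrix.map_injective (algebraMap F K).injective h3).trans (by simp)))

end Cfsg.Agent.S4010
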