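import Cfsg.Statements.S4013
import Cfsg.Agent.Lib.Hall.ClassSize
import Cfsg.Agent.Lib.PGrp.Basic

set_option autoImplicit false
open Cfsg

open Subgroup Cfsg.Lib
open scoped commutatorElement
namespace Cfsg.Agent.S4013

/-- Let G be a finite p-group (p prime) and N < M normal subgroups of G such that for some g ∈ M ∖ N the conjugacy class of g is exactly M ∖ N. Then p = 2 and N has index 2 in M. -/
theorem result {G : Type*} [Group G] [Finite G] (p : ℕ) [Fact p.Prime] (hG : IsPGroup p G) (N M : Subgroup G) [N.Normal] [M.Normal] (hNM : N < M) (g : G) (hgM : g ∈ M) (hgN : g ∉ N) (hcl : {h : G | IsConj g h} = (M : Set G) \ (N : Set G)) : p = 2 ∧ N.relIndex M = 2 := by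
  have hp := (Fact.out : p.Prime)
  have h1 := congrArg Set.ncard hcl
  rw [Hall.ncard_isConj, Set.ncard_diff hNM.le] at h1
  obtain ⟨a, ha⟩ := hG.index (centralizer {g})
  obtain ⟨b, hb⟩ := (hG.to_subgroup M).index (N.subgroupOf M)
  have h2 : Nat.card N * (p ^ b - 1) = p ^ a := by
    rw [← ha, h1, Nat.mul_sub_one, ← hb]
    exact congrArg (· - _) (PGrp.card_mul_relIndex_of_le hNM.le)
  have hb0 : b ≠ 0 := fun e => hNM.not_ge (subgroupOf_eq_top.1 (index_eq_one.1 (by rw [hb, e, pow_zero])))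
  have h3 : p ^ b - 1 = 1 := Nat.eq_one_of_dvd_coprimes (((Nat.coprime_self_sub_right (Nat.one_le_pow _ _ hp.pos)).2
    (Nat.coprime_one_right _)).coprime_dvd_left (dvd_pow_self p hb0) |>.pow_left a) (Dvd.intro_left _ h2) dvd_rfl
  have h4 : p ^ b = 2 := by omega
  exact ⟨(Nat.prime_dvd_prime_iff_eq hp Nat.prime_two).1 (h4 ▸ dvd_pow_self p hb0), hb.trans h4⟩

end Cfsg.Agent.S4013
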