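import Cfsg.Statements.S4016
import Cfsg.Agent.Lib.Gold.AbSolv
import Cfsg.Agent.Lib.Linear.PSL2Sub
import Cfsg.Agent.Lib.Linear.PUnip
import Cfsg.Agent.Lib.SF.DPi

set_option autoImplicit false
open Cfsg

namespace Cfsg.Agent.S4016

open Subgroup Cfsg.Lib.Core Cfsg.Lib.BG1 Cfsg.Lib Cfsg.Lib.Transfer Cfsg.Lib.Linear
open Cfsg.Lib.Amalg
set_option linter.style.haveILetI false

theorem psl {F : Type*} [Field F] [Finite F] (h4 : 4 ≤ Nat.card F) {p : ℕ} (hp : p.Prime) (h2 : p ≠ 2)
    (hab : ∀ H : Subgroup (PSL2 F), ¬ p ∣ Nat.card H → IsMulCommutative H) : False := by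
  haveI := isSimpleGroup_PSL2 h4
  obtain ⟨r, hr⟩ := CharP.exists F
  haveI : Fact r.Prime := ⟨CharP.char_is_prime F r⟩
  obtain ⟨R⟩ : Nonempty (Sylow r (PSL2 F)) := inferInstance
  have h1 := card_normalizer_sylow_PSL2 R
  have h3 : p ∣ Nat.card F * (Nat.card F - 1) := by
    by_contra h
    have hc := hab 𝐍((R : Subgroup (PSL2 F))) fun h' => h (h1 ▸ h'.mul_left _)
    refine not_pnil_of_simple (G := PSL2 F) (p := r) ?_ ?_ ((syl_iff_sylowIn.1 (syl_top R)).pnil_of_normalizer_le_centralizer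
      fun x hx y hy => congrArg Subtype.val (hc.is_comm.comm (⟨y, le_normalizer hy⟩ : 𝐍((R : Subgroup (PSL2 F)))) ⟨x, hx.2⟩))
    · by_contra! H
      exact not_isSolvable_PSL2 h4 (Group.isSolvable_of_comm H)
    · by_contra h
      have := index_normalizer_sylow_PSL2 R
      rw [show (R : Subgroup (PSL2 F)) = ⊥ from (syl_top R).eq_bot_iff.2 (by rwa [card_top]),
        normalizer_eq_top, index_top] at this
      omega
  obtain ⟨s, t, a1, a2, a3, a4⟩ := exists_dihedral_of_isTorus (Known.isTorus_singerS (F := F))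
    (by rw [Known.card_U1]; omega)
  rw [Known.card_U1] at a3
  have a5 : orderOf t ∣ Nat.card F + 1 ∧ 2 < orderOf t := by
    rcases gcd_two_eq (F := F) with ⟨h, -⟩ | ⟨h, k, hk⟩ <;> rw [a3, h]
    · simp; omega
    · exact ⟨Nat.div_dvd_of_dvd (by omega), by omega⟩
  have a6 : ¬ p ∣ Nat.card F + 1 := fun h => by
    rcases hp.dvd_mul.1 h3 with h' | h'
    · exact hp.ne_one (Nat.dvd_one.1 ((Nat.dvd_add_right h').1 h))
    · have := Nat.dvd_sub h h'
      rw [show Nat.card F + 1 - (Nat.card F - 1) = 2 by omega] at this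
      exact h2 ((Nat.prime_dvd_prime_iff_eq hp Nat.prime_two).1 this)
  have hc := hab (zpowers t ⊔ zpowers s) (not_dvd_card_sup hp (by rw [Nat.card_zpowers]; exact fun h => a6 (h.trans a5.1))
    (by
      rw [Nat.card_zpowers]
      exact fun h => h2 ((Nat.prime_dvd_prime_iff_eq hp Nat.prime_two).1
        (h.trans (orderOf_dvd_of_pow_eq_one (by rw [sq, a1])))))
    (zpowers_le.2 (mem_normalizer_of_conj_mem (by
      rintro _ ⟨k, rfl⟩
      rw [← conj_zpow, a2]; exact zpow_mem (inv_mem (mem_zpowers t)) k))))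
  have a7 : s * t = t * s := congrArg Subtype.val (hc.is_comm.comm
    (⟨s, mem_sup_right (mem_zpowers s)⟩ : ↥(zpowers t ⊔ zpowers s)) ⟨t, mem_sup_left (mem_zpowers t)⟩)
  rw [a7, mul_inv_cancel_right] at a2
  have := Nat.le_of_dvd two_pos (orderOf_dvd_of_pow_eq_one (x := t) (by rw [sq]; nth_rw 1 [a2]; simp))
  omega

universe u in
theorem solv {p : ℕ} [hp : Fact p.Prime] (n : ℕ) : ∀ (G : Type u) [Group G] [Finite G], Nat.card G = n →
    (∀ P : Subgroup G, IsPGroup p P → IsCyclic P) → (∀ H : Subgroup G, ¬ p ∣ Nat.card H → IsMulCommutative H) →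
    Group.IsSolvable G := by
  induction n using Nat.strong_induction_on with | _ n ih => ?_
  intro G _ _ hn h1 h2
  have hs : ∀ H : Subgroup G, H ≠ ⊤ → Group.IsSolvable H := fun H hH =>
    ih _ (hn ▸ card_lt_of_ne_top hH) H rfl (fun P hP => (equivMapOfInjective _ _ H.subtype_injective).isCyclic.2
      (h1 _ (hP.map _))) fun K hK => by
        have := h2 (K.map H.subtype) (by rwa [card_map_subtype])
        rw [← subgroupOf_map_subtype_self K]
        exact Gold.comm_subgroupOf this H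
  rcases subsingleton_or_nontrivial G with _ | _
  · infer_instance
  by_cases hG : IsSimpleGroup G
  swap
  · obtain ⟨N, _, h3, h4⟩ : ∃ N : Subgroup G, N.Normal ∧ N ≠ ⊥ ∧ N ≠ ⊤ := by
      by_contra! H
      exact hG ⟨fun N hN => or_iff_not_imp_left.2 (H N hN)⟩
    haveI := hs N h4
    haveI : Group.IsSolvable (G ⧸ N) := by
      refine ih _ (hn ▸ card_quotient_lt h3) _ rfl (fun P hP => ?_) fun K hK => ?_
      · obtain ⟨V, a, rfl⟩ := DPi.exists_lift (π := {p}) (QuotientGroup.mk'_surjective N) (U := P)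
          ((isPGroup_iff_isPiNumber hp.out).1 hP)
        haveI := h1 V ((isPGroup_iff_isPiNumber hp.out).2 a)
        exact isCyclic_of_surjective _ ((QuotientGroup.mk' N).subgroupMap_surjective V)
      · obtain ⟨V, a, rfl⟩ := DPi.exists_lift (π := {p}ᶜ) (QuotientGroup.mk'_surjective N) (U := K)
          ((isPi_compl_iff_not_dvd hp.out).2 hK)
        exact Gold.comm_map (h2 V ((isPi_compl_iff_not_dvd hp.out).1 a)) _
    exact isSolvable_of_normal_of_quotient N
  by_contra hns
  have hc : ¬ IsMulCommutative G := fun h => hns (Group.isSolvable_of_comm h.is_comm.comm)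
  haveI := Fact.mk Nat.prime_two
  obtain ⟨S, hS⟩ := exists_syl 2 (⊤ : Subgroup G)
  have hp2 : p ≠ 2 := by
    rintro rfl
    exact not_pnil_of_simple (G := G) (p := 2) (by by_contra! H; exact hc ⟨⟨H⟩⟩)
      (FT.even_card_of_simple G fun h => hc ⟨⟨h⟩⟩).two_dvd
      (GW.pnil_of_cyclic (syl_iff_sylowIn.1 hS) (h1 S hS.isPGroup))
  have key : ∀ (F : Type) [Field F] [Fintype F], 4 ≤ Fintype.card F → (G ≃* PSL2 F) → False := fun F _ _ h4 e =>
    psl (F := F) (by rwa [Nat.card_eq_fintype_card]) hp.out hp2 fun H hH => by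
      have := Gold.comm_map (h2 (H.map e.symm.toMonoidHom) (by rwa [card_map_of_injective e.symm.injective])) e.toMonoidHom
      rwa [Subgroup.map_map, show e.toMonoidHom.comp e.symm.toMonoidHom = .id _ by ext; simp, Subgroup.map_id] at this
  rcases Gold.known_of_solvable hc hS (h2 S fun h => by
      obtain ⟨k, hk⟩ := IsPGroup.iff_card.1 hS.isPGroup
      exact hp2 ((Nat.prime_dvd_prime_iff_eq hp.out Nat.prime_two).1 (hp.out.dvd_of_dvd_pow (hk ▸ h))))
    (fun t ht => hs _ fun h => by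
      have : t ∈ center G := mem_center_iff.2 fun g => mem_centralizer_singleton_iff.1 (h.ge (mem_top g))
      rw [Gold.center_of_simple hc, mem_bot] at this
      simp [this] at ht) with ⟨F, _, _, -, h, ⟨e⟩⟩ | ⟨F, _, _, ⟨k, h, h'⟩, ⟨e⟩⟩
  · exact key F (by omega) e
  · exact key F (h' ▸ Nat.pow_le_pow_right two_pos h) e

/-- Let G be a finite group and p a prime such that a Sylow p-subgroup P of G is cyclic and every subgroup of G of order prime to p is abelian. Then G has a normal p-complement or P is normal in G. -/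
theorem result {G : Type*} [Group G] [Finite G] {p : ℕ}
    [Fact p.Prime] (P : Sylow p G) (hcyc : IsCyclic P)
    (hab : ∀ H : Subgroup G, ¬ p ∣ Nat.card H → IsMulCommutative H) :
    Cfsg.HasNormalPComplement p G ∨ (P : Subgroup G).Normal := by
  have hp : p.Prime := Fact.out
  have hP := syl_top P
  have hs := solv (p := p) _ G rfl (fun Q hQ => by
    obtain ⟨g, -, h⟩ := hP.exists_conj_le hQ le_top
    exact (equivMapOfInjective _ _ (MulAut.conj g).injective).isCyclic.2 (isCyclic_of_le h)) hab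
  have hPc : (P : Subgroup G) ≤ 𝐂((P : Subgroup G)) := le_centralizer _
  rcases cyclic_sylow_ti_or_le_der hP hcyc with h | h
  · refine Or.inl ⟨P, _, pResidual_normal, PNil.isComplement' ((syl_iff_sylowIn.1 hP).pnil_of_no_fusion
      fun x hx g _ h1 => ⟨1, one_mem _, ?_⟩) P⟩
    have := mem_bot.1 (h.le ⟨(P : Subgroup G).mul_mem h1 ((P : Subgroup G).inv_mem hx), commutator_mem_commutator (mem_top g) (mem_top x)⟩)
    simpa using (mul_inv_eq_one.1 this).symm
  right
  set K := 𝐎'[p]((⊤ : Subgroup G)) with hK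
  have hKn : ⊤ ≤ 𝐍(K) := le_norm_piCoreOf_self _ _
  have h1 : resOf p ⊤ ≤ 𝐂(K) := resOf_le_iff.2 fun g _ hg k hk => congrArg Subtype.val
    ((hab (K ⊔ zpowers g) (not_dvd_card_sup hp (not_dvd_card_pPrimeCoreOf hp _)
      (by rw [Nat.card_zpowers]; exact hp.coprime_iff_not_dvd.1 hg.symm) (le_top.trans hKn))).is_comm.comm
      ⟨k, mem_sup_left hk⟩ ⟨g, mem_sup_right (mem_zpowers g)⟩)
  have h2 : (P : Subgroup G) ≤ 𝐂(K) := by
    haveI : 𝐂(K).Normal := normalizer_eq_top_iff.1 (top_le_iff.1 (le_normalizer_centralizer hKn))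
    refine h.trans (commutator_le.2 fun x _ y _ => ?_)
    obtain ⟨a, ha, u, hu, rfl⟩ := (syl_iff_sylowIn.1 hP).exists_resOf_mul (mem_top x)
    obtain ⟨b, hb, v, hv, rfl⟩ := (syl_iff_sylowIn.1 hP).exists_resOf_mul (mem_top y)
    rw [← QuotientGroup.eq_one_iff, ← QuotientGroup.mk'_apply, map_commutatorElement, map_mul, map_mul,
      QuotientGroup.mk'_apply _ a, QuotientGroup.mk'_apply _ b, (QuotientGroup.eq_one_iff a).2 (h1 ha),
      (QuotientGroup.eq_one_iff b).2 (h1 hb), one_mul, one_mul, ← map_commutatorElement,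
      commutatorElement_eq_one_iff_mul_comm.2 (hPc hv u hu), map_one]
  have h3 := hP.inf_normal le_top (le_norm_pPrimePCoreOf_self p ⊤)
  have h4 : (P : Subgroup G) ≤ pPrimePCoreOf p ⊤ := le_trans (le_inf le_top (hPc.trans (centralizer_anti inf_le_left)))
    (solvable_p_constrained inferInstance h3)
  rw [inf_of_le_left h4] at h3
  have h5 := h3.frattini le_top (le_norm_pPrimePCoreOf_self p ⊤)
  rw [← pPrimePCoreOf_eq_sup h3] at h5
  exact normalizer_eq_top_iff.1 (top_le_iff.1 (h5.ge.trans (sup_le (sup_le (le_norm_of_le_cent (BG1.le_cent_symm h2))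
    le_normalizer) inf_le_right)))

end Cfsg.Agent.S4016
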