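import Cfsg.Statements.S4017
import Cfsg.Agent.Lib.Gold.AbSolv
import Cfsg.Agent.Lib.Linear.PSL2Sub
import Cfsg.Agent.Lib.Linear.PUnip
import Cfsg.Agent.Lib.SF.DPi

set_option autoImplicit false
open Cfsg

namespace Cfsg.Agent.S4017

open Subgroup Cfsg.Lib.Core Cfsg.Lib.BG1 Cfsg.Lib Cfsg.Lib.Transfer Cfsg.Lib.Linear
open Cfsg.Lib.Amalg
set_option linter.style.haveILetI false

def Good (p : ℕ) (G : Type*) [Group G] : Prop := ∀ r : ℕ, r.Prime → r ≠ 2 → ∀ H : Subgroup G,
  IsPiNumber {2, r} (Nat.card H) → 2 ∣ Nat.card H → r ∣ Nat.card H → r = p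

theorem dih {G : Type*} [Group G] [Finite G] {p : ℕ} (h : Good p G) {s t : G} (a1 : s * s = 1)
    (a2 : s * t * s⁻¹ = t⁻¹) (a4 : s ∉ zpowers t) {r : ℕ} (hr : r.Prime) (h2 : r ≠ 2) (hd : r ∣ orderOf t) : r = p := by
  haveI := Fact.mk Nat.prime_two
  have b1 : orderOf s = 2 := orderOf_eq_prime (by rw [sq, a1]) fun e => a4 (e ▸ one_mem _)
  have b2 := orderOf_pow_orderOf_div (orderOf_pos t).ne' hd
  refine h r hr h2 (zpowers (t ^ (orderOf t / r)) ⊔ zpowers s) (isPi_sup' ?_ ?_ (zpowers_le.2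
    (mem_normalizer_of_conj_mem ?_))) (b1 ▸ orderOf_dvd_natCard _ (mem_sup_right (mem_zpowers s)))
    (b2.symm.dvd.trans (orderOf_dvd_natCard _ (mem_sup_left (mem_zpowers _))))
  · rw [Nat.card_zpowers, b2]
    exact fun q hq h => Or.inr ((Nat.prime_dvd_prime_iff_eq hq hr).1 h)
  · rw [Nat.card_zpowers, b1]
    exact fun q hq h => Or.inl ((Nat.prime_dvd_prime_iff_eq hq Nat.prime_two).1 h)
  · rintro _ ⟨k, rfl⟩
    rw [← conj_zpow, ← conj_pow, a2, inv_pow]; exact zpow_mem (inv_mem (mem_zpowers _)) k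

theorem psl {F : Type*} [Field F] [Finite F] (h4 : 4 ≤ Nat.card F)
    (h8 : Nat.card F % 2 = 0 ∨ Nat.card F % 8 = 3 ∨ Nat.card F % 8 = 5) {p : ℕ} (h : Good p (PSL2 F)) : False := by
  obtain ⟨s, t, a1, a2, a3, a4⟩ := exists_dihedral_of_isTorus (Known.isTorus_singerS (F := F))
    (by rw [Known.card_U1]; omega)
  obtain ⟨s', t', b1, b2, b3, b4⟩ := exists_dihedral_of_isTorus (Known.isTorus_torusS (F := F))
    (by rw [card_units_eq]; omega)
  rw [Known.card_U1] at a3
  rw [card_units_eq] at b3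
  have key : ∀ a b : ℕ, a % 2 = 1 → a ≠ 1 → b % 2 = 1 → b ≠ 1 → a ∣ orderOf t → b ∣ orderOf t' → False := by
    intro a b c1 c2 c3 c4 c5 c6
    obtain ⟨x, hx, d1⟩ := Nat.exists_prime_and_dvd c2
    obtain ⟨y, hy, d2⟩ := Nat.exists_prime_and_dvd c4
    have e1 : x ≠ 2 := by rintro rfl; omega
    obtain rfl := dih h a1 a2 a4 hx e1 (d1.trans c5)
    obtain rfl := dih h b1 b2 b4 hy (by rintro rfl; omega) (d2.trans c6)
    have f1 : y ∣ Nat.card F + 1 := (d1.trans c5).trans (a3 ▸ Nat.div_dvd_of_dvd (by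
      rcases gcd_two_eq (F := F) with ⟨h, -⟩ | ⟨h, k, hk⟩ <;> rw [h] <;> omega))
    have := Nat.dvd_sub f1 ((d2.trans c6).trans (b3 ▸ Nat.div_dvd_of_dvd (Nat.gcd_dvd_right _ _)))
    rw [show Nat.card F + 1 - (Nat.card F - 1) = 2 by omega] at this
    exact e1 ((Nat.prime_dvd_prime_iff_eq hx Nat.prime_two).1 this)
  rcases gcd_two_eq (F := F) with ⟨e, k, hk⟩ | ⟨e, k, hk⟩ <;> rw [e] at a3 b3
  · exact key _ _ (by omega) (by omega) (by omega) (by omega) dvd_rfl dvd_rfl
  rcases h8 with h8 | h8 | h8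
  · omega
  · exact key (orderOf t / 2) _ (by omega) (by omega) (by omega) (by omega) (Nat.div_dvd_of_dvd (by omega)) dvd_rfl
  by_cases h5 : Nat.card F = 5
  · obtain ⟨r, hr⟩ := CharP.exists F
    haveI : Fact r.Prime := ⟨CharP.char_is_prime F r⟩
    obtain ⟨R⟩ : Nonempty (Sylow r (PSL2 F)) := inferInstance
    have h1 := card_normalizer_sylow_PSL2 R
    rw [e, h5] at h1
    have h2 := dih h a1 a2 a4 Nat.prime_three (by omega) (by omega)
    have h3 : Nat.card 𝐍((R : Subgroup (PSL2 F))) = 2 * 5 := Nat.eq_of_mul_eq_mul_left two_pos h1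
    have := h 5 Nat.prime_five (by omega) 𝐍((R : Subgroup (PSL2 F))) (h3 ▸ fun q hq hd => (hq.dvd_mul.1 hd).imp
      (Nat.prime_dvd_prime_iff_eq hq Nat.prime_two).1 (Nat.prime_dvd_prime_iff_eq hq Nat.prime_five).1)
      (by omega) (by omega)
    omega
  · exact key _ (orderOf t' / 2) (by omega) (by omega) (by omega) (by omega) dvd_rfl (Nat.div_dvd_of_dvd (by omega))

theorem Good.surj {G X : Type*} [Group G] [Group X] [Finite G] {p : ℕ} (h : Good p G) {f : G →* X}
    (hf : Function.Surjective f) : Good p X := fun r hr h2 H a b c => by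
  obtain ⟨V, d, rfl⟩ := DPi.exists_lift hf a
  exact h r hr h2 V d (b.trans (card_map_dvd _ _)) (c.trans (card_map_dvd _ _))

universe u in
theorem solv {p : ℕ} (n : ℕ) : ∀ (G : Type u) [Group G] [Finite G], Nat.card G = n →
    (∀ P : Subgroup G, IsPGroup 2 P → IsMulCommutative P) → Good p G → Group.IsSolvable G := by
  induction n using Nat.strong_induction_on with | _ n ih => ?_
  intro G _ _ hn h1 h2
  have hs : ∀ H : Subgroup G, H ≠ ⊤ → Group.IsSolvable H := fun H hH =>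
    ih _ (hn ▸ card_lt_of_ne_top hH) H rfl (fun K hK => by
        have := h1 (K.map H.subtype) (hK.map _)
        rw [← subgroupOf_map_subtype_self K]
        exact Gold.comm_subgroupOf this H) fun r hr h K => by
      simpa only [card_map_subtype] using h2 r hr h (K.map H.subtype)
  rcases subsingleton_or_nontrivial G with _ | _
  · infer_instance
  by_cases hG : IsSimpleGroup G
  swap
  · obtain ⟨N, _, h3, h4⟩ : ∃ N : Subgroup G, N.Normal ∧ N ≠ ⊥ ∧ N ≠ ⊤ := by
      by_contra! H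
      exact hG ⟨fun N hN => or_iff_not_imp_left.2 (H N hN)⟩
    haveI := hs N h4
    haveI : Group.IsSolvable (G ⧸ N) := by
      refine ih _ (hn ▸ card_quotient_lt h3) _ rfl (fun P hP => ?_) (h2.surj (QuotientGroup.mk'_surjective N))
      obtain ⟨V, a, rfl⟩ := DPi.exists_lift (π := {2}) (QuotientGroup.mk'_surjective N) (U := P)
        ((isPGroup_iff_isPiNumber Nat.prime_two).1 hP)
      exact Gold.comm_map (h1 V ((isPGroup_iff_isPiNumber Nat.prime_two).2 a)) _
    exact isSolvable_of_normal_of_quotient N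
  by_contra hns
  have hc : ¬ IsMulCommutative G := fun h => hns (Group.isSolvable_of_comm h.is_comm.comm)
  obtain ⟨S, hS⟩ := exists_syl 2 (⊤ : Subgroup G)
  rcases Gold.known_of_solvable hc hS (h1 S hS.isPGroup)
    (fun t ht => hs _ fun h => by
      have : t ∈ center G := mem_center_iff.2 fun g => mem_centralizer_singleton_iff.1 (h.ge (mem_top g))
      rw [Gold.center_of_simple hc, mem_bot] at this
      simp [this] at ht) with ⟨F, _, _, h', h, ⟨e⟩⟩ | ⟨F, _, _, ⟨k, h, h'⟩, ⟨e⟩⟩ <;>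
    rw [← Nat.card_eq_fintype_card] at *
  · exact psl (by omega) (Or.inr h') (h2.surj (f := e.toMonoidHom) e.surjective)
  · refine psl (h' ▸ Nat.pow_le_pow_right two_pos h) (Or.inl ?_) (h2.surj (f := e.toMonoidHom) e.surjective)
    exact Nat.mod_eq_zero_of_dvd (h' ▸ dvd_pow_self 2 (by omega))

/-- Let G be a finite group and let p and q be distinct primes dividing the order of G, with p odd. Suppose that p divides the order of every proper subgroup of G that is neither a q-group nor of order prime to q. Let q^a be the q-part of the order of G. If p > q^a − 1, or if p = q^a − 1 and the Sylow p-subgroups of G are abelian, then p and q are the only primes dividing the order of G. -/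
theorem result {G : Type*} [Group G] [Finite G]
    {p q : ℕ} (hp : p.Prime) (hq : q.Prime) (hpq : p ≠ q) (hp2 : p ≠ 2)
    (hpG : p ∣ Nat.card G) (hqG : q ∣ Nat.card G)
    (hmix : ∀ H : Subgroup G, H ≠ ⊤ → ¬ IsPGroup q H → q ∣ Nat.card H → p ∣ Nat.card H)
    (hlarge : q ^ (Nat.card G).factorization q - 1 < p ∨
      (p = q ^ (Nat.card G).factorization q - 1 ∧ ∀ P : Sylow p G, IsMulCommutative P)) :
    ∀ r : ℕ, r.Prime → r ∣ Nat.card G → r = p ∨ r = q := by
  intro r hr hrG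
  by_contra! H
  haveI := Fact.mk hp
  haveI := Fact.mk hq
  haveI := Fact.mk hr
  have key : ∀ s : ℕ, s.Prime → s ≠ q → ∀ K : Subgroup G, IsPiNumber {q, s} (Nat.card K) → q ∣ Nat.card K →
      s ∣ Nat.card K → s = p := fun s hs h1 K a b c => by
    have d : ∀ x : ℕ, x.Prime → x ∣ Nat.card K → x ≠ q → x = s := fun x hx h h' => (a x hx h).resolve_left h'
    refine (d p hp (hmix K ?_ (fun h => ?_) b) hpq).symm
    · rintro rfl
      rw [card_top] at d
      exact H.1 ((d r hr hrG H.2).trans (d p hp hpG hpq).symm)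
    · exact h1 ((isPGroup_iff_isPiNumber hq).1 h s hs c)
  obtain ⟨T, hT⟩ := exists_syl q (⊤ : Subgroup G)
  have hTc := hT.card_eq_pow
  rw [card_top] at hTc
  rw [← hTc] at hlarge
  by_cases hN : PNil q (⊤ : Subgroup G)
  · have a : T ≤ 𝐍(resOf q ⊤) := le_top.trans (le_normalizer_resOf ⊤)
    obtain ⟨R, b, c⟩ := coprime_sylow_exists r a (coprime_of_isPGroup_of_not_dvd hq hT.isPGroup
      (hq.coprime_iff_not_dvd.1 hN.coprime.symm)) (Or.inl (solvable_of_pgroup hq hT.isPGroup))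
    obtain ⟨x, hx⟩ := exists_prime_orderOf_dvd_card' r hrG
    refine H.1 (key r hr H.2 (R ⊔ T) (isPi_sup' (((isPGroup_iff_isPiNumber hr).1 b.isPGroup).mono (by simp))
      (((isPGroup_iff_isPiNumber hq).1 hT.isPGroup).mono (by simp)) c)
      (dvd_card_of_isPGroup_le hT.isPGroup (hT.ne_bot (by rwa [card_top])) le_sup_right)
      (dvd_card_of_isPGroup_le b.isPGroup (b.ne_bot (hx ▸ orderOf_dvd_natCard _ (mem_resOf (mem_top x) ?_))) le_sup_left))
    exact hx ▸ (Nat.coprime_primes hr hq).2 H.2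
  obtain ⟨Q, a1, s, hs, a2, g, -, ⟨k, a3⟩, a4, a5⟩ := (syl_iff_sylowIn.1 hT).exists_of_not_pnil hN
  have hQ := hT.isPGroup.to_le a1
  haveI := Fact.mk hs
  have hg : IsPGroup s (zpowers g) := isPGroup_zpowers_of_pow a3
  obtain rfl := key s hs a2 (Q ⊔ zpowers g) (isPi_sup' (((isPGroup_iff_isPiNumber hq).1 hQ).mono (by simp))
      (((isPGroup_iff_isPiNumber hs).1 hg).mono (by simp)) (zpowers_le.2 a4))
      (dvd_card_of_isPGroup_le hQ (by rintro rfl; exact a5 (le_cent_bot ⊤ (mem_top g))) le_sup_left)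
      (dvd_card_of_isPGroup_le hg (by rw [Ne, zpowers_eq_bot]; rintro rfl; exact a5 (one_mem _)) le_sup_right)
  have b : ∀ X : Subgroup G, g ∈ 𝐍(X) → g ∉ 𝐂(X) → Nat.card ↥(X ⊓ 𝐂(zpowers g)) + s ≤ Nat.card X := fun X h1 h2 => by
    have c1 := PGrp.card_modEq_card_inf_centralizer hg (zpowers_le.2 h1)
    have c2 := Core.card_lt_of_lt (inf_lt_left.2 fun h : X ≤ 𝐂(zpowers g) => h2 (BG1.le_cent_symm h (mem_zpowers g)))
    have := Nat.le_of_dvd (by omega) ((Nat.modEq_iff_dvd' c2.le).1 c1.symm)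
    omega
  have b1 := b Q a4 a5
  have b2 := card_le_of_le a1
  have b3 := Nat.card_pos (α := ↥(Q ⊓ 𝐂(zpowers g)))
  obtain ⟨b4, -⟩ := hlarge.resolve_left (by omega)
  obtain rfl : Q = T := eq_of_le_of_card_ge a1 (by omega)
  have b5 : Q ⊓ 𝐂(zpowers g) = ⊥ := Subgroup.card_eq_one.1 (by omega)
  have h0 := hT.ne_bot (by rwa [card_top])
  have b6 := Amalg.inf_center_ne_bot hQ le_rfl le_normalizer h0
  have b7 := b (Q ⊓ 𝐂(Q)) (le_normalizer_inf (zpowers_le.2 a4) (le_normalizer_centralizer (zpowers_le.2 a4))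
    (mem_zpowers g)) fun h => b6 (eq_bot_iff.2 (b5 ▸ le_inf inf_le_left (BG1.le_cent_symm (zpowers_le.2 h))))
  have b8 := Nat.card_pos (α := ↥(Q ⊓ 𝐂(Q) ⊓ 𝐂(zpowers g)))
  have b9 : Q ≤ 𝐂(Q) := inf_eq_left.1 (eq_of_le_of_card_ge inf_le_left (by omega))
  obtain rfl : q = 2 := by
    by_contra e
    have c1 := hp.odd_of_ne_two hp2
    have c2 : Odd (Nat.card Q) := hTc ▸ (hq.odd_of_ne_two e).pow
    rw [Nat.odd_iff] at c1 c2
    omega
  have hs' := solv (p := s) _ G rfl (fun P hP => by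
    obtain ⟨x, -, h⟩ := hT.exists_le_conj hP le_top
    exact Gold.comm_of_le (Gold.comm_map (le_centralizer_iff_isMulCommutative.1 b9) _) h) key
  obtain ⟨K, hK⟩ := exists_hall {2, r} (H := (⊤ : Subgroup G)) inferInstance
  have c : ∀ x : ℕ, x.Prime → x ∈ ({2, r} : Set ℕ) → x ∣ Nat.card G → x ∣ Nat.card K := fun x hx h1 h2 => by
    rw [← card_top, ← Core.card_mul_relIndex hK.1] at h2
    exact (hx.dvd_mul.1 h2).resolve_right (hK.2.2 x hx h1)
  exact H.1 (key r hr H.2 K hK.2.1 (c 2 hq (by simp) hqG) (c r hr (by simp) hrG))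

end Cfsg.Agent.S4017
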