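import Cfsg.Statements.S4019
import Cfsg.Agent.Lib.Coprime.EqConj2

set_option autoImplicit false
open Cfsg

namespace Cfsg.Agent.S4019

open Subgroup Cfsg.Lib Cfsg.Lib.Core Cfsg.Lib.Amalg Cfsg.Lib.Linear Cfsg.Lib.Coprime

/-- Let G be a finite group in which, for every prime p, any two p-subgroups of the same order are conjugate. Then G/O(G), O(G) the largest normal subgroup of odd order, is one of: a cyclic 2-group; the one-dimensional affine group over the field with 8 elements; the one-dimensional semi-affine group (affine maps twisted by field automorphisms) over the field with 8 or with 32 elements; a simple group of order 175560; PSL₂(8); the full automorphism group of PSL₂(32); or PSL₂(p), PSL₂(p³), SL₂(p), SL₂(p³) for a prime p ≡ ±3 (mod 8). -/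
theorem result {G : Type*} [Group G] [Finite G]
    (hD : ∀ p : ℕ, p.Prime → ∀ H K : Subgroup G, IsPGroup p H → IsPGroup p K → Nat.card H = Nat.card K →
      ∃ g : G, K = H.map (MulAut.conj g).toMonoidHom) :
    (IsCyclic (G ⧸ Cfsg.oddCore G) ∧ IsPGroup 2 (G ⧸ Cfsg.oddCore G)) ∨
    Nonempty (G ⧸ Cfsg.oddCore G ≃* Cfsg.affineGroup (GaloisField 2 3)) ∨
    Nonempty (G ⧸ Cfsg.oddCore G ≃* Cfsg.semiaffineGroup (GaloisField 2 3)) ∨
    Nonempty (G ⧸ Cfsg.oddCore G ≃* Cfsg.semiaffineGroup (GaloisField 2 5)) ∨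
    Cfsg.IsJ1 (G ⧸ Cfsg.oddCore G) ∨
    Nonempty (G ⧸ Cfsg.oddCore G ≃* Matrix.ProjectiveSpecialLinearGroup (Fin 2) (GaloisField 2 3)) ∨
    Nonempty (G ⧸ Cfsg.oddCore G ≃* MulAut (Matrix.ProjectiveSpecialLinearGroup (Fin 2) (GaloisField 2 5))) ∨
    (∃ (p : ℕ) (_ : Fact p.Prime), (p % 8 = 3 ∨ p % 8 = 5) ∧
      (Nonempty (G ⧸ Cfsg.oddCore G ≃* Matrix.ProjectiveSpecialLinearGroup (Fin 2) (ZMod p)) ∨
       Nonempty (G ⧸ Cfsg.oddCore G ≃* Matrix.ProjectiveSpecialLinearGroup (Fin 2) (GaloisField p 3)) ∨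
       Nonempty (G ⧸ Cfsg.oddCore G ≃* Matrix.SpecialLinearGroup (Fin 2) (ZMod p)) ∨
       Nonempty (G ⧸ Cfsg.oddCore G ≃* Matrix.SpecialLinearGroup (Fin 2) (GaloisField p 3)))) := by
  have h : ∀ p : ℕ, p.Prime → PC p (G ⧸ oddCore G) := fun p hp => have := Fact.mk hp; PC.quot (hD p hp) _
  have hO : oddCore (G ⧸ oddCore G) = ⊥ := pPrimeCore_quotient_pPrimeCore
  obtain ⟨S⟩ : Nonempty (Sylow 2 (G ⧸ oddCore G)) := inferInstance
  by_cases h1 : IsCyclic S
  · exact Or.inl (cyclic_of_cyclic_sylow hO S h1)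
  rcases (S4023.result (h 2 Nat.prime_two) S).resolve_left h1 with h2 | ⟨-, ⟨e⟩⟩ | h2
  · obtain ⟨n, hn⟩ := S.isPGroup'.exists_card_eq
    have h3 : 2 ≤ n := by
      by_contra! h3
      exact h1 (isCyclic_of_card_dvd_prime (p := 2) (hn ▸ (pow_dvd_pow 2 (by omega)).trans (pow_one 2).dvd))
    rcases pc_elem h hO S h2 (hn ▸ Nat.pow_le_pow_right two_pos h3) with ⟨-, ((e | e | e) | e | e) | e⟩ | ⟨p, _, h4, e⟩
    · exact Or.inr (Or.inl e)
    · exact Or.inr (Or.inr (Or.inl e))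
    · exact Or.inr (Or.inr (Or.inr (Or.inl e)))
    · iterate 5 refine Or.inr ?_
      exact Or.inl e
    · iterate 6 refine Or.inr ?_
      exact Or.inl e
    · iterate 4 refine Or.inr ?_
      exact Or.inl e
    · iterate 7 refine Or.inr ?_
      exact ⟨p, ‹_›, h4, e.imp_right Or.inl⟩
  · obtain ⟨z, h2, h3, _, h4, h5, T, h6, h7⟩ := quat_reduce hO S e
    obtain ⟨p, _, h8, e⟩ := (pc_elem (fun p hp => have := Fact.mk hp; (h p hp).quot _) h4 T h6 h7.ge).resolve_left fun e => h5 e.1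
    have key : ∀ (F : Type) [Field F] [Finite F] [CharP F p], Nonempty ((G ⧸ oddCore G) ⧸ zpowers z ≃* PSL2 F) →
        Nonempty (G ⧸ oddCore G ≃* Matrix.SpecialLinearGroup (Fin 2) F) := fun F _ _ _ ⟨e⟩ =>
      ⟨topEquiv.symm.trans (GW.sl2_comap (F := F) (fun e => by
        have := (CharP.cast_eq_zero_iff F p 2).1 e
        rw [Nat.prime_dvd_prime_iff_eq Fact.out Nat.prime_two] at this
        omega) (fun s t hs ht _ => (h3 s hs).trans (h3 t ht).symm) (QuotientGroup.mk'_surjective (zpowers z))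
        (by rw [QuotientGroup.ker_mk', Nat.card_zpowers, h2]) (E := ⊤) (topEquiv.trans e)).some⟩
    iterate 7 refine Or.inr ?_
    exact ⟨p, ‹_›, h8, Or.inr (Or.inr (e.imp (key _) (key _)))⟩
  · exact absurd rfl h2.1

end Cfsg.Agent.S4019
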