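import Cfsg.Statements.S4024
import Cfsg.Agent.S4023
import Cfsg.Agent.Lib.Core.PSolvable
import Cfsg.Agent.Lib.Transfer.PNilp

set_option autoImplicit false
open Cfsg

open Subgroup Cfsg.Lib
open scoped commutatorElement
open Transfer
namespace Cfsg.Agent.S4024

/-- Let p be an odd prime and G a finite group in which any two p-subgroups of the same order are conjugate, with Sylow p-subgroup P. If H is a normal p-solvable subgroup of G whose order is divisible by p, then P is abelian, and either P ≤ H or P is cyclic. -/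
theorem result {G : Type*} [Group G] [Finite G]
    {p : ℕ} [Fact p.Prime] (hp : p ≠ 2) (hC : ∀ H K : Subgroup G, IsPGroup p H → IsPGroup p K → Nat.card H = Nat.card K →
      ∃ g : G, K = H.map (MulAut.conj g).toMonoidHom) (P : Sylow p G)
    (H : Subgroup G) [H.Normal] (hsolv : Cfsg.IsPSolvable p H) (hdiv : p ∣ Nat.card H) :
    IsMulCommutative P ∧ ((P : Subgroup G) ≤ H ∨ IsCyclic P) := by
  have hp' := (Fact.out : p.Prime)
  by_cases hc : IsCyclic P
  · exact ⟨PGrp.isMulCommutative_of_isCyclic hc, .inr hc⟩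
  have h1 : ∀ x ∈ (P : Subgroup G), x ^ p = 1 := by
    rcases S4023.result hC P with h | h | h | h
    · exact absurd h hc
    · exact h.2
    · exact absurd h.1 hp
    · exact fun x hx => congrArg Subtype.val (h.2.2.2 ▸ Monoid.pow_exponent_eq_one (⟨x, hx⟩ : P))
  have h2 : ∀ W : Subgroup G, W.Normal → p ∣ Nat.card W → (P : Subgroup G) ≤ W := fun W _ hW x hx => by
    by_cases e : x = 1
    · exact e ▸ one_mem _
    obtain ⟨X, hX, hX'⟩ := BG1.exists_le_card_eq_prime hp' hW
    have h3 := (Nat.card_zpowers x).trans (orderOf_eq_prime (h1 x hx) e)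
    obtain ⟨g, hg⟩ := hC X (zpowers x) (.of_card (hX'.trans (pow_one p).symm)) (.of_card (h3.trans (pow_one p).symm)) (hX'.trans h3.symm)
    exact ((map_mono hX).trans (Core.map_conj_eq_of_normal g W).le) (hg ▸ mem_zpowers x)
  refine ⟨?_, .inl (h2 H ‹_› hdiv)⟩
  obtain ⟨N, hN, ⟨_, hN'⟩, hmax⟩ := Core.exists_maximal_ge (fun N : Subgroup G => N ≤ H ∧ N.Normal ∧ ¬ p ∣ Nat.card N) (H := ⊥)
    ⟨bot_le, inferInstance, by simpa using hp'.ne_one⟩ |>.imp fun _ h => (⟨h.2.1.1, h.2.1.2, h.2.2⟩ : _ ∧ _ ∧ _)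
  obtain ⟨M, _, hM, hM', hmin⟩ := Core.exists_minimal_normal_le (H.map (QuotientGroup.mk' N)) (hN := Core.normal_map_mk' N H)
    fun e => hN' ((Core.map_mk'_eq_bot_iff N H).1 e |> card_dvd_of_le |> hdiv.trans)
  have h3 : p ∣ Nat.card (M.comap (QuotientGroup.mk' N)) := by
    by_contra h
    refine hM ?_
    rw [← Core.map_comap_mk' N M, hmax _ ⟨(comap_mono hM').trans ((Core.comap_map_mk' N H).trans (sup_eq_right.2 hN)).le, inferInstance, h⟩
      (Core.le_comap_mk' N M), Core.map_mk'_eq_bot_iff]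
  have h4 := (Core.isPGroup_or_coprime_of_minimal_normal hp' M (Core.isPSolvable_of_le hp' (Core.isPSolvable_map hp' hsolv _) hM') hmin).resolve_right fun h => by
    rw [Core.card_comap_mk', hp'.dvd_mul] at h3
    exact h3.elim ((Nat.Prime.coprime_iff_not_dvd hp').1 h.symm) hN'
  have h5 := (hmin ⁅M, M⁆ inferInstance (commutator_le_left _ _)).resolve_right (BG1.der_lt_of_solvable (BG1.solvable_of_pgroup hp' h4) hM).ne
  have h6 := map_le_iff_le_comap.2 (h2 _ inferInstance h3)
  refine le_centralizer_iff_isMulCommutative.1 (commutator_eq_bot_iff_le_centralizer.1 (le_bot_iff.1 ?_))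
  rw [← BG1.inf_eq_bot_of_isPGroup_of_not_dvd hp' P.isPGroup' hN']
  exact le_inf (BG1.commutator_le_left_of_norm le_normalizer) ((Core.map_mk'_eq_bot_iff N _).1 (le_bot_iff.1 (by
    rw [map_commutator, ← h5]; exact commutator_mono h6 h6)))

end Cfsg.Agent.S4024
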