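import Cfsg.Statements.S4020
import Cfsg.Agent.S4024
import Cfsg.Agent.Lib.GW.Cover
import Cfsg.Agent.Lib.Block.ZStar
import Cfsg.Agent.Lib.Amalg.Syl

set_option autoImplicit false
open Cfsg

open Subgroup Cfsg.Lib
open scoped commutatorElement
open Cfsg.Lib.Amalg Cfsg.Lib.Core
namespace Cfsg.Agent.S4020

theorem cube {X : Type*} [Group X] [Finite X] {p : ℕ} [hp : Fact p.Prime] (hc : Nat.card X = p ^ 3)
    (hn : ¬ IsMulCommutative X) : Nat.card (center X) = p := by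
  obtain ⟨k, hk, e⟩ := IsPGroup.card_center_eq_prime_pow hc (by omega)
  by_contra h
  have h1 : 2 ≤ k := by
    rcases Nat.lt_or_ge k 2 with h1 | h1
    · exact absurd (by rw [e, show k = 1 by omega, pow_one]) h
    · exact h1
  have : IsCyclic (X ⧸ center X) := by
    apply isCyclic_of_card_dvd_prime (p := p)
    have h2 := (center X).card_mul_index
    rw [e, hc] at h2
    have h3 : p ^ 2 * (center X).index ∣ p ^ 2 * p := by
      rw [← pow_succ, ← h2]; exact Nat.mul_dvd_mul_right (pow_dvd_pow p h1) _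
    exact Nat.dvd_of_mul_dvd_mul_left (pow_pos hp.out.pos 2) h3
  exact hn (isMulCommutative_of_isCyclic_quotient_center_self X)

theorem step {X : Type*} [Group X] [Finite X] {p : ℕ} [hp : Fact p.Prime] (hc : Nat.card X = p ^ 3)
    (hn : ¬ IsMulCommutative X) {c d : X} (h1 : c ∈ center X) (h2 : d ∉ center X) : ∃ y : X, y * d * y⁻¹ = c * d := by
  have hz := cube hc hn
  obtain ⟨y, hy⟩ : ∃ y, y * d ≠ d * y := by
    by_contra h
    push Not at h
    exact h2 (mem_center_iff.2 h)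
  have h3 : IsMulCommutative (X ⧸ center X) := by
    apply IsPGroup.isMulCommutative_of_card_eq_prime_sq (p := p)
    have h2 := (center X).card_mul_index
    rw [hz, hc, pow_succ' p 2] at h2
    exact Nat.eq_of_mul_eq_mul_left hp.out.pos h2
  have h4 : y * d * y⁻¹ * d⁻¹ ∈ center X := by
    rw [← QuotientGroup.eq_one_iff]
    simp only [QuotientGroup.mk_mul, QuotientGroup.mk_inv]
    rw [h3.is_comm.comm (y : X ⧸ center X) d]; group
  obtain ⟨e, he⟩ : ∃ e, e = y * d * y⁻¹ * d⁻¹ := ⟨_, rfl⟩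
  rw [← he] at h4
  have h5 : e ≠ 1 := fun h => hy (by
    have : y * d * y⁻¹ * d⁻¹ = 1 := he ▸ h
    rw [mul_inv_eq_one, mul_inv_eq_iff_eq_mul] at this; exact this)
  have h6 : zpowers e = center X := by
    have : Fact (Nat.card (center X)).Prime := ⟨hz.symm ▸ hp.out⟩
    refine eq_of_le_of_card_ge (zpowers_le.2 h4) ?_
    have h7 := card_dvd_of_le (zpowers_le.2 h4)
    rw [hz] at h7 ⊢
    rcases (Nat.dvd_prime hp.out).1 h7 with h | h
    · exact absurd (zpowers_eq_bot.1 (card_eq_one.1 h)) h5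
    · exact h.ge
  obtain ⟨m, hm⟩ := (mem_powers_iff_mem_zpowers (x := e) (y := c)).2 (h6 ▸ h1)
  have h8 : y * d * y⁻¹ = e * d := by rw [he]; group
  refine ⟨y ^ m, ?_⟩
  rw [← hm]
  clear hm
  induction m with
  | zero => simp
  | succ m ih =>
    have h9 := mem_center_iff.1 (pow_mem h4 m) y
    calc y ^ (m + 1) * d * (y ^ (m + 1))⁻¹ = y * (y ^ m * d * (y ^ m)⁻¹) * y⁻¹ := by rw [pow_succ']; group
      _ = (y * e ^ m) * d * y⁻¹ := by rw [ih]; group
      _ = e ^ m * (y * d * y⁻¹) := by rw [h9]; group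
      _ = e ^ (m + 1) * d := by rw [h8, pow_succ]; group

theorem step' {G : Type*} [Group G] [Finite G] {p : ℕ} [hp : Fact p.Prime] {P : Subgroup G} (hc : Nat.card P = p ^ 3)
    (hn : ¬ IsMulCommutative P) {c d : G} (hcP : c ∈ P) (hd : d ∈ P) (h1 : c ∈ centralizer (P : Set G))
    (h2 : d ∉ centralizer (P : Set G)) : ∃ y : G, y * c * y⁻¹ = c ∧ y * d * y⁻¹ = c * d := by
  obtain ⟨y, hy⟩ := step hc hn (c := ⟨c, hcP⟩) (d := ⟨d, hd⟩)
    (mem_center_iff.2 fun g => Subtype.ext (h1 g g.2)) fun h => h2 fun g hg => congrArg Subtype.val (mem_center_iff.1 h ⟨g, hg⟩)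
  exact ⟨y, by rw [h1 y y.2]; group, congrArg Subtype.val hy⟩

/-- Let G be a finite group in which, for every prime p, any two p-subgroups of the same order are conjugate. Then every Sylow subgroup of G is cyclic, elementary abelian, or a quaternion group of order 8. -/
theorem result {G : Type*} [Group G] [Finite G]
    (hD : ∀ p : ℕ, p.Prime → ∀ H K : Subgroup G, IsPGroup p H → IsPGroup p K → Nat.card H = Nat.card K →
      ∃ g : G, K = H.map (MulAut.conj g).toMonoidHom) {p : ℕ} [Fact p.Prime] (P : Sylow p G) :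
    IsCyclic P ∨ Cfsg.IsElementaryAbelian p (P : Subgroup G) ∨ Nonempty ((P : Subgroup G) ≃* QuaternionGroup 2) := by
  have hp := (Fact.out : p.Prime)
  rcases S4023.result (hD p hp) P with h | h | h | ⟨h2, hn, hc, he⟩
  · exact .inl h
  · exact .inr (.inl h)
  · exact .inr (.inr h.2)
  exfalso
  have key : ∀ H : Subgroup G, H.Normal → Odd (Nat.card H) → ∀ a ∈ H, orderOf a = p → False := fun H _ h a ha e =>
    have := GW.solvable_of_odd h
    hn (S4024.result h2 (hD p hp) P H (isPSolvable_of_isSolvable hp) (e ▸ H.orderOf_dvd_natCard ha)).1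
  have h1 : ∀ x ∈ (P : Subgroup G), x ≠ 1 → orderOf x = p := fun x hx e =>
    orderOf_eq_prime (congrArg Subtype.val (he ▸ Monoid.pow_exponent_eq_one (⟨x, hx⟩ : P))) e
  obtain ⟨a, ha, ha'⟩ : ∃ a ∈ (P : Subgroup G), a ∉ centralizer ((P : Subgroup G) : Set G) := by
    by_contra h
    push Not at h
    exact hn (le_centralizer_iff_isMulCommutative.1 h)
  have ha1 : a ≠ 1 := fun e => ha' (e ▸ one_mem _)
  obtain ⟨z, ⟨hz, hz'⟩, hz1⟩ := (bot_or_exists_ne_one _).resolve_left (inf_center_ne_bot P.isPGroup' le_rfl le_normalizer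
    fun e => ha1 (mem_bot.1 (e ▸ ha)))
  have hao := h1 a ha ha1
  have hzo := h1 z hz hz1
  obtain ⟨g, hg⟩ := hD p hp (zpowers z) (zpowers a) (Amalg.isPGroup_zpowers_of_orderOf (k := 1) (hzo.trans (pow_one p).symm))
    (Amalg.isPGroup_zpowers_of_orderOf (k := 1) (hao.trans (pow_one p).symm)) (by rw [Nat.card_zpowers, Nat.card_zpowers, hao, hzo])
  have h3 : a ∈ cj g (zpowers z) := hg ▸ mem_zpowers a
  have h4 : cj g (P : Subgroup G) ≤ centralizer {a} := by
    obtain ⟨w, hw, rfl⟩ := h3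
    rintro _ ⟨x, hx, rfl⟩
    rw [mem_centralizer_singleton_iff]
    have := zpowers_le.2 hz' hw x hx
    simp only [MulEquiv.coe_toMonoidHom, ← map_mul, this]
  have haz : a * z = z * a := hz' a ha
  obtain ⟨h, hh, h5⟩ := (((syl_top P).conj_top g).of_le h4 le_top).exists_le_conj
    (Amalg.isPGroup_zpowers_of_orderOf (k := 1) (hzo.trans (pow_one p).symm)) (zpowers_le.2 (mem_centralizer_singleton_iff.2 haz.symm))
  have h6 : cj h (cj g (P : Subgroup G)) ≤ centralizer {a} := (cj_mono h h4).trans (Transfer.cj_eq_of_mem hh).le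
  obtain ⟨Q, hQ⟩ : ∃ Q, Q = cj h (cj g (P : Subgroup G)) := ⟨_, rfl⟩
  have hQs : Syl p Q ⊤ := hQ ▸ ((syl_top P).conj_top g).conj_top h
  have hQc : Nat.card Q = p ^ 3 := (hQs.card_eq (syl_top P)).trans hc
  have hQn : ¬ IsMulCommutative Q := fun e => hn (by
    obtain ⟨u, -, hu⟩ := hQs.exists_conj (syl_top P)
    exact hu ▸ isMulCommutative_cj u e)
  rw [← hQ] at h5 h6
  have haC : a ∈ centralizer (Q : Set G) := fun x hx => mem_centralizer_singleton_iff.1 (h6 hx)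
  have haQ : a ∈ Q := hQs.mem_of_mem_normalizer (k := 1) (by rw [pow_one, ← hao, pow_orderOf_eq_one]) trivial
    (centralizer_le_normalizer _ haC)
  have hzQ : z ∈ Q := h5 (mem_zpowers z)
  have hzC : z ∉ centralizer (Q : Set G) := fun h => by
    have h7 := cube hQc hQn
    have h8 : zpowers (⟨z, hzQ⟩ : Q) = center Q := eq_of_le_of_card_ge
      (zpowers_le.2 (mem_center_iff.2 fun g => Subtype.ext (h g g.2))) (by
        rw [h7, Nat.card_zpowers, ← orderOf_coe, hzo])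
    obtain ⟨k, hk⟩ := mem_zpowers_iff.1 (h8 ▸ (mem_center_iff.2 fun g => Subtype.ext (haC g g.2) : (⟨a, haQ⟩ : Q) ∈ center Q))
    have hk' : z ^ k = a := congrArg Subtype.val hk
    exact ha' (hk' ▸ (centralizer ((P : Subgroup G) : Set G)).zpow_mem hz' k)
  obtain ⟨x, x1, x2⟩ := step' hc hn hz ha hz' ha'
  obtain ⟨y, y1, y2⟩ := step' hQc hQn (inv_mem haQ) hzQ (inv_mem haC) hzC
  have y3 : y * a * y⁻¹ = a := by
    have := congrArg (·⁻¹) y1
    simpa [mul_assoc] using this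
  have w1 : x * y * x * a * (x * y * x)⁻¹ = z := by
    calc _ = x * (y * (x * a * x⁻¹) * y⁻¹) * x⁻¹ := by group
      _ = x * ((y * z * y⁻¹) * (y * a * y⁻¹)) * x⁻¹ := by rw [x2]; group
      _ = x * (a⁻¹ * (z * a)) * x⁻¹ := by rw [y2, y3]; group
      _ = x * z * x⁻¹ := by rw [← haz]; group
      _ = z := x1
  have w2 : x * y * x * z * (x * y * x)⁻¹ = a⁻¹ := by
    calc _ = x * (y * (x * z * x⁻¹) * y⁻¹) * x⁻¹ := by group
      _ = x * (a⁻¹ * z) * x⁻¹ := by rw [x1, y2]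
      _ = (x * a * x⁻¹)⁻¹ * (x * z * x⁻¹) := by group
      _ = a⁻¹ := by rw [x2, x1]; group
  obtain ⟨w, hw⟩ : ∃ w, w = x * y * x := ⟨_, rfl⟩
  rw [← hw] at w1 w2
  have w3 : w ^ 2 * a * (w ^ 2)⁻¹ = a⁻¹ := by rw [← w2, ← w1, sq]; group
  have w4 : ∀ m : ℕ, (w ^ 2) ^ (2 * m + 1) * a * ((w ^ 2) ^ (2 * m + 1))⁻¹ = a⁻¹ := fun m => by
    induction m with
    | zero => simpa using w3
    | succ m ih =>
      generalize w ^ 2 = u at ih w3 ⊢
      calc _ = u * (u * (u ^ (2 * m + 1) * a * (u ^ (2 * m + 1))⁻¹) * u⁻¹) * u⁻¹ := by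
            rw [show 2 * (m + 1) + 1 = 2 * m + 1 + 1 + 1 by ring, pow_succ' u (2 * m + 1 + 1), pow_succ' u (2 * m + 1)]; group
        _ = u * (u * a * u⁻¹)⁻¹ * u⁻¹ := by rw [ih]; group
        _ = a⁻¹ := by rw [w3, inv_inv, w3]
  obtain ⟨k, m, ⟨m, rfl⟩, hm⟩ := Nat.exists_eq_two_pow_mul_odd (orderOf_pos w).ne'
  obtain ⟨v, hv⟩ : ∃ v, v = w ^ (2 * m + 1) := ⟨_, rfl⟩
  have v1 : v ^ 2 ^ k = 1 := by rw [hv, ← pow_mul, mul_comm, ← hm, pow_orderOf_eq_one]
  have v2 : v ^ 2 * a * (v ^ 2)⁻¹ = a⁻¹ := by rw [hv, ← pow_mul, mul_comm _ 2, pow_mul, w4]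
  have v3 : v ^ 2 ≠ 1 := fun e => by
    rw [e, one_mul, inv_one, mul_one, eq_inv_iff_mul_eq_one, ← sq, ← orderOf_dvd_iff_pow_eq_one, hao] at v2
    exact h2 ((Nat.prime_dvd_prime_iff_eq hp Nat.prime_two).1 v2)
  obtain ⟨S, hS⟩ := (isPGroup_zpowers_of_pow v1).exists_le_sylow
  have hvS : v ∈ (S : Subgroup G) := hS (mem_zpowers v)
  have hp2 : p.Coprime 2 := (Nat.coprime_primes hp Nat.prime_two).2 h2
  rcases S4023.result (hD 2 Nat.prime_two) S with h | h | ⟨-, ⟨e⟩⟩ | h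
  · have h7 := Block.pnil_two_of_isCyclic (Transfer.sylowIn_top S) h
    exact key _ (Transfer.resOf_normal ⊤) (Nat.odd_iff.2 (Nat.two_dvd_ne_zero.1 h7)) a (Transfer.mem_resOf trivial (hao ▸ hp2)) hao
  · exact v3 (h.2 v hvS)
  · have h7 : (v ^ 2) ^ 2 = 1 := by
      have : ∀ q : QuaternionGroup 2, (q ^ 2) ^ 2 = 1 := by decide
      have h9 : ((⟨v, hvS⟩ : S) ^ 2) ^ 2 = 1 := e.injective (by rw [map_pow, map_pow, map_one]; exact this _)
      exact congrArg Subtype.val h9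
    have h8 := (GW.uniqInv_of_quat (Transfer.sylowIn_top S) e).commutator_mem_oddCore (orderOf_eq_prime h7 v3) a
    rw [v2, ← mul_inv_rev, ← sq] at h8
    exact key _ inferInstance (odd_card_oddCore G) a (Transfer.mem_of_pow_mem_of_coprime (hao ▸ hp2) (inv_mem_iff.1 h8)) hao
  · exact h.1 rfl

end Cfsg.Agent.S4020
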