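import Cfsg.Statements.S4021
import Cfsg.Agent.Lib.Coprime.EqConj
import Cfsg.Agent.Lib.Linear.PSL2Sub
import Cfsg.Agent.Lib.Amalg.Sidki
import Cfsg.Agent.Lib.Exc.CIT5

set_option autoImplicit false
open Cfsg

namespace Cfsg.Agent.S4021

open Subgroup Cfsg.Lib Cfsg.Lib.Core Cfsg.Lib.Amalg Cfsg.Lib.Linear Cfsg.Lib.Coprime

def EC (G : Type*) [Group G] : Prop :=
  ∀ H K : Subgroup G, Nat.card H = Nat.card K → ∃ g : G, K = H.map (MulAut.conj g).toMonoidHom

variable {G : Type*} [Group G] [Finite G]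

theorem EC.pc (h : EC G) (p : ℕ) : PC p G := fun H K _ _ => h H K

theorem EC.quot (h : EC G) (N : Subgroup G) [N.Normal] : EC (G ⧸ N) := fun H K e => by
  obtain ⟨g, hg⟩ := h (H.comap (QuotientGroup.mk' N)) (K.comap (QuotientGroup.mk' N)) (by
    rw [Core.card_comap_mk', Core.card_comap_mk', e])
  have := congrArg (map (QuotientGroup.mk' N)) hg
  rw [map_cj, map_comap_eq_self_of_surjective (QuotientGroup.mk'_surjective N),
    map_comap_eq_self_of_surjective (QuotientGroup.mk'_surjective N)] at this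
  exact ⟨_, this⟩

theorem EC.no_dih (h : EC G) {t s x : G} (ht : orderOf t = 2) (hs : s * s = 1) (hx : Odd (orderOf x)) (h1 : x ≠ 1)
    (hc : Commute t x) (hi : s * x * s⁻¹ = x⁻¹) : False := by
  have h2 : ¬ Commute s x := fun e => h1 (orderOf_eq_one_iff.1 (Nat.eq_one_of_dvd_coprimes hx.coprime_two_right dvd_rfl
    (orderOf_dvd_of_pow_eq_one (by rw [e.eq, mul_inv_cancel_right] at hi; rw [sq, mul_eq_one_iff_eq_inv, ← hi]))))
  have key : ∀ u : G, orderOf u = 2 → u * x * u⁻¹ ∈ zpowers x → Nat.card ↥(zpowers u ⊔ zpowers x) = 2 * orderOf x :=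
    fun u h3 h4 => by
      rw [card_sup_of_disjoint (zpowers_le.2 (Amalg.mem_normalizer_of_cj_le (by rwa [cj_zpowers, zpowers_le])))
        (inf_eq_bot_of_coprime (by rw [Nat.card_zpowers, Nat.card_zpowers, h3]; exact hx.coprime_two_left)),
        Nat.card_zpowers, Nat.card_zpowers, h3]
  obtain ⟨g, hg⟩ := h _ _ ((key t ht (by rw [hc.eq, mul_inv_cancel_right]; exact mem_zpowers x)).trans
    (key s (orderOf_eq_prime (by rwa [sq]) (by rintro rfl; exact h2 (Commute.one_left x)))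
      (hi ▸ inv_mem (mem_zpowers x))).symm)
  have h3 : ∀ a ∈ zpowers t ⊔ zpowers x, a ∈ centralizer (↑(zpowers t ⊔ zpowers x) : Set G) := by
    have h4 : ∀ a, Commute a t → Commute a x → a ∈ centralizer (↑(zpowers t ⊔ zpowers x) : Set G) := fun a h5 h6 =>
      le_centralizer_iff.1 (sup_le (zpowers_le.2 (by rintro _ ⟨k, rfl⟩; exact (h5.zpow_left k).eq))
        (zpowers_le.2 (by rintro _ ⟨k, rfl⟩; exact (h6.zpow_left k).eq))) (mem_zpowers a)
    exact sup_le (zpowers_le.2 (h4 t (.refl t) hc)) (zpowers_le.2 (h4 x hc.symm (.refl x)))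
  obtain ⟨a, ha, rfl⟩ := hg.le (mem_sup_left (mem_zpowers s))
  obtain ⟨b, hb, rfl⟩ := hg.le (mem_sup_right (mem_zpowers x))
  exact h2 (Commute.map (h3 b hb a ha) _)

theorem EC.elem (h : EC G) (hO : oddCore G = ⊥) (S : Sylow 2 G)
    (hS : IsElementaryAbelian 2 (S : Subgroup G)) (h4 : 4 ≤ Nat.card S) :
    Nonempty (G ≃* alternatingGroup (Fin 4)) ∨ Nonempty (G ≃* alternatingGroup (Fin 5)) ∨
    (8 ∣ Nat.card G ∧ ((Nonempty (G ≃* affineGroup (GaloisField 2 3)) ∨
      Nonempty (G ≃* semiaffineGroup (GaloisField 2 3)) ∨ Nonempty (G ≃* semiaffineGroup (GaloisField 2 5))) ∨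
      Nonempty (G ≃* PSL2 (GaloisField 2 3)) ∨ Nonempty (G ≃* MulAut (PSL2 (GaloisField 2 5))))) := by
  rcases (h.pc 2).elem (h.pc 3) hO S hS h4 with e | e | e | ⟨L, _, _, -, h1, h2, ⟨F, _, _, h3, h5, ⟨e⟩⟩ | ⟨t, E, K, j⟩⟩
  · exact Or.inl e
  · exact Or.inr (Or.inl e)
  · exact Or.inr (Or.inr e)
  · rw [← Nat.card_eq_fintype_card] at h3 h5
    rcases h5.eq_or_lt with h6 | h6
    · obtain ⟨φ, hφ⟩ := exists_inj_mulAut h1 e
      have h7 := card_dvd_of_injective φ hφ
      have h8 := card_PSL_two_of_odd (F := F) (by rw [← h6]; decide)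
      have := Fact.mk Nat.prime_five
      have := charP_of_card_eq_prime (Nat.card_eq_fintype_card.symm.trans h6.symm)
      rw [card_mulAut_PSL_two, card_PGL_two, BS.card_aut (p := 5) (f := 1) h6.symm, ← h8, ← L.card_mul_index,
        Nat.card_congr e.toEquiv, one_mul, mul_comm 2, Nat.mul_dvd_mul_iff_left Nat.card_pos, Nat.dvd_prime Nat.prime_two] at h7
      have h9 := h7.resolve_right fun e => S.not_dvd_index (e.symm.dvd.trans (index_dvd_of_le h2))
      exact Or.inr (Or.inl ⟨((topEquiv.symm.trans (MulEquiv.subgroupCongr (index_eq_one.1 h9).symm)).trans e).trans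
        (psl2_five_equiv h6.symm).some⟩)
    · obtain ⟨s, r, m, a1, a2, a3, a4, a5⟩ : ∃ (s r : PSL2 F) (m : ℕ), s * s = 1 ∧ s * r * s⁻¹ = r⁻¹ ∧ orderOf r = 2 * m ∧
          Odd m ∧ m ≠ 1 := by
        have h7 := (gcd_two_eq (F := F)).resolve_left fun e => by have := e.2.two_dvd; omega
        rcases h3 with h3 | h3
        · obtain ⟨s, r, a1, a2, a3, -⟩ := exists_dihedral_of_isTorus (Known.isTorus_singerS (F := F)) (by rw [Known.card_U1]; omega)
          rw [Known.card_U1, h7.1] at a3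
          exact ⟨s, r, 2 * (Nat.card F / 8) + 1, a1, a2, by omega, odd_two_mul_add_one _, by omega⟩
        · obtain ⟨s, r, a1, a2, a3, -⟩ := exists_dihedral_of_isTorus (Known.isTorus_torusS (F := F)) (by rw [Nat.card_units]; omega)
          rw [Nat.card_units, h7.1] at a3
          exact ⟨s, r, 2 * (Nat.card F / 8) + 1, a1, a2, by omega, odd_two_mul_add_one _, by omega⟩
      let j := L.subtype.comp e.symm.toMonoidHom
      have hj : Function.Injective j := L.subtype_injective.comp e.symm.injective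
      have b1 : orderOf (j (r ^ 2)) = m := by rw [orderOf_injective j hj, orderOf_pow_of_dvd two_ne_zero ⟨m, a3⟩, a3]; omega
      exact (h.no_dih (t := j (r ^ m)) (s := j s) (x := j (r ^ 2)) (by
        rw [orderOf_injective j hj, orderOf_pow_of_dvd a4.pos.ne' ⟨2, a3.trans (mul_comm _ _)⟩, a3, Nat.mul_div_cancel _ a4.pos])
        (by rw [← map_mul, a1, map_one]) (b1 ▸ a4) (fun e => a5 (by rw [← b1, e, orderOf_one]))
        ((Commute.pow_pow_self r m 2).map j) (by rw [← map_inv, ← map_mul, ← map_mul, ← conj_pow, a2, inv_pow, map_inv])).elim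
  · have := j.simple
    obtain ⟨s, a1, a2⟩ := exists_two_of_simple j.nc
    obtain ⟨x, a3, a4, a5, a6⟩ := exists_inverted_of_not_mem_op (Invol.mul_self_of_two a2) a1 (by
      rw [pCoreOf, Exc.pCore_eq_bot j.nc, Subgroup.map_bot]; exact Invol.ne_one_of_two a2)
    exact (h.no_dih (t := t) (s := s) (x := x) ((Subgroup.orderOf_coe t).trans j.two)
      (congrArg Subtype.val (Invol.mul_self_of_two a2)) (Subgroup.orderOf_coe x ▸ a5) (fun e => a4 (Subtype.ext e))
      (congrArg Subtype.val (j.prod.2.2.1 t (mem_zpowers t) x (j.sup.ge (mem_sup_left a3)))) (congrArg Subtype.val a6)).elim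

/-- Let G be a finite group in which any two subgroups of the same order are conjugate. Then G/O(G), O(G) the largest normal subgroup of odd order, is one of: a cyclic 2-group; the one-dimensional affine group over the field with 8 elements; the one-dimensional semi-affine group over the field with 8 or with 32 elements; PSL₂(8); the full automorphism group of PSL₂(32); the alternating group of degree 4 or 5; SL₂(3); or SL₂(5). -/
theorem result {G : Type*} [Group G] [Finite G]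
    (hC : ∀ H K : Subgroup G, Nat.card H = Nat.card K → ∃ g : G, K = H.map (MulAut.conj g).toMonoidHom) :
    (IsCyclic (G ⧸ Cfsg.oddCore G) ∧ IsPGroup 2 (G ⧸ Cfsg.oddCore G)) ∨
    Nonempty (G ⧸ Cfsg.oddCore G ≃* Cfsg.affineGroup (GaloisField 2 3)) ∨
    Nonempty (G ⧸ Cfsg.oddCore G ≃* Cfsg.semiaffineGroup (GaloisField 2 3)) ∨
    Nonempty (G ⧸ Cfsg.oddCore G ≃* Cfsg.semiaffineGroup (GaloisField 2 5)) ∨
    Nonempty (G ⧸ Cfsg.oddCore G ≃* Matrix.ProjectiveSpecialLinearGroup (Fin 2) (GaloisField 2 3)) ∨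
    Nonempty (G ⧸ Cfsg.oddCore G ≃* MulAut (Matrix.ProjectiveSpecialLinearGroup (Fin 2) (GaloisField 2 5))) ∨
    Nonempty (G ⧸ Cfsg.oddCore G ≃* alternatingGroup (Fin 4)) ∨
    Nonempty (G ⧸ Cfsg.oddCore G ≃* alternatingGroup (Fin 5)) ∨
    Nonempty (G ⧸ Cfsg.oddCore G ≃* Matrix.SpecialLinearGroup (Fin 2) (ZMod 3)) ∨
    Nonempty (G ⧸ Cfsg.oddCore G ≃* Matrix.SpecialLinearGroup (Fin 2) (ZMod 5)) := by
  have h : EC (G ⧸ oddCore G) := EC.quot hC _
  have hO : oddCore (G ⧸ oddCore G) = ⊥ := pPrimeCore_quotient_pPrimeCore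
  obtain ⟨S⟩ : Nonempty (Sylow 2 (G ⧸ oddCore G)) := inferInstance
  by_cases h1 : IsCyclic S
  · exact Or.inl (cyclic_of_cyclic_sylow hO S h1)
  rcases (S4023.result (h.pc 2) S).resolve_left h1 with h2 | ⟨-, ⟨e⟩⟩ | h2
  · obtain ⟨n, hn⟩ := S.isPGroup'.exists_card_eq
    have h3 : 2 ≤ n := by
      by_contra! h3
      exact h1 (isCyclic_of_card_dvd_prime (p := 2) (hn ▸ (pow_dvd_pow 2 (by omega)).trans (pow_one 2).dvd))
    rcases h.elem hO S h2 (hn ▸ Nat.pow_le_pow_right two_pos h3) with e | e | ⟨-, (e | e | e) | e | e⟩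
    · iterate 6 refine Or.inr ?_
      exact Or.inl e
    · iterate 7 refine Or.inr ?_
      exact Or.inl e
    · exact Or.inr (Or.inl e)
    · exact Or.inr (Or.inr (Or.inl e))
    · exact Or.inr (Or.inr (Or.inr (Or.inl e)))
    · exact Or.inr (Or.inr (Or.inr (Or.inr (Or.inl e))))
    · exact Or.inr (Or.inr (Or.inr (Or.inr (Or.inr (Or.inl e)))))
  · obtain ⟨z, h2, h3, _, h4, h5, T, h6, h7⟩ := quat_reduce hO S e
    rcases (h.quot _).elem h4 T h6 h7.ge with ⟨⟨f⟩⟩ | ⟨⟨f⟩⟩ | f
    · iterate 8 refine Or.inr ?_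
      refine Or.inl (Hall.equiv_SL23 (fun s t hs ht => (h3 t ht).trans (h3 s hs).symm)
        (f.toMonoidHom.comp (QuotientGroup.mk' _)) (f.surjective.comp (QuotientGroup.mk'_surjective _)) ?_)
      rw [card_eq_card_quotient_mul_card_subgroup (zpowers z), Nat.card_congr f.toEquiv, Nat.card_zpowers, h2,
        nat_card_alternatingGroup]
      simp [Nat.factorial]
    · iterate 9 refine Or.inr ?_
      exact Hall.equiv_SL25_of_quotient h2 h3 (f.toMonoidHom.comp (QuotientGroup.mk' _))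
        (f.surjective.comp (QuotientGroup.mk'_surjective _))
        ((MonoidHom.ker_comp_of_injective _ _ f.injective).trans (QuotientGroup.ker_mk' _))
    · exact absurd f.1 h5
  · exact absurd rfl h2.1

end Cfsg.Agent.S4021
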