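import Cfsg.Statements.S4025
import Cfsg.Agent.Lib.Coprime.EqC3

set_option autoImplicit false
open Cfsg

namespace Cfsg.Agent.S4025

section
open Subgroup Cfsg.Lib Cfsg.Lib.Core Cfsg.Lib.Amalg Cfsg.Lib.BG1 Cfsg.Lib.Coprime Cfsg.Lib.Coprime.EqC

theorem exp_eq {c n k m : ℕ} {X : Type*} [Group X] [Finite X] (S : Sylow 2 X) (h1 : Nat.card S = 2 ^ n)
    (h2 : Nat.card X = c) (h3 : c = 2 ^ k * m) (h4 : ¬ 2 ∣ m) : n = k :=
  Nat.pow_right_injective le_rfl (h1.symm.trans (Linear.card_sylow_of_eq S (h2.trans h3) h4))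

theorem core {X : Type*} [Group X] [Finite X] [Group.IsSolvable X] {p : ℕ} [Fact p.Prime] (h : PC p X)
    (hO : pPrimeCore p X = ⊥) (S : Sylow p X) [(S : Subgroup X).Normal] (hS : IsElementaryAbelian p (S : Subgroup X))
    {n : ℕ} (hn : 3 ≤ n) (hc : Nat.card S = p ^ n) :
    (n = 3 ∧ (∃ f : X →* ↥(Cfsg.semiaffineGroup (GaloisField p 3)), Function.Injective f) ∧
      (p = 2 → Nonempty (X ≃* Cfsg.semiaffineGroup (GaloisField 2 3)) ∨
               Nonempty (X ≃* Cfsg.affineGroup (GaloisField 2 3)))) ∨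
    (n = 5 ∧ p = 2 ∧ Nonempty (X ≃* Cfsg.semiaffineGroup (GaloisField 2 5))) := by
  have := Fact.mk hS
  obtain ⟨⟨F, _, _, e, he⟩, h3⟩ := semi_core h hc hn
  have hC := centralizer_pCore_le_of_solvable (Fact.out : p.Prime) hO
  rw [← sylow_eq_pCore_of_normal S] at hC
  obtain ⟨H, hH⟩ := exists_left_complement'_of_coprime (N := (S : Subgroup X)) S.card_coprime_index
  have hf : n = 3 → ∃ f : X →* ↥(Cfsg.semiaffineGroup (GaloisField p 3)), Function.Injective f := fun e3 =>
    exists_semiaffine hH hC (by rw [hc, e3, GaloisField.card p 3 (by norm_num)]) e fun g => he g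
  by_cases h2 : p = 2
  swap
  · exact Or.inl ⟨h3 h2, hf (h3 h2), fun e => absurd e h2⟩
  subst h2
  have k1 : ∀ m, m ≠ 0 → Nat.card (semiaffineGroup (GaloisField 2 m)) = (2 ^ m - 1) * (2 ^ m * m) := fun m hm => by
    rw [card_semiaffine, Nat.card_units, GaloisField.card 2 m hm, card_galois_aut m hm]
  rcases h.affine hO S hS (hc ▸ (by norm_num : 4 ≤ 2 ^ 3).trans (Nat.pow_le_pow_right two_pos hn)) with
    ⟨⟨e⟩⟩ | ⟨-, ⟨⟨e⟩⟩ | ⟨⟨e⟩⟩ | ⟨⟨e⟩⟩⟩
  · have := exp_eq (k := 2) (m := 3) S hc ((Nat.card_congr e.toEquiv).trans (alternatingGroup.card_of_card_eq_four (by simp)))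
      rfl (by norm_num)
    omega
  · have := exp_eq (c := 56) (k := 3) (m := 7) S hc ((Nat.card_congr e.toEquiv).trans (by
      rw [card_affine, Nat.card_units, GaloisField.card 2 3 (by norm_num)]; rfl)) rfl (by norm_num)
    exact Or.inl ⟨this, hf this, fun _ => Or.inr ⟨e⟩⟩
  · have := exp_eq (k := 3) (m := 21) S hc ((Nat.card_congr e.toEquiv).trans (k1 3 (by norm_num))) rfl (by norm_num)
    exact Or.inl ⟨this, hf this, fun _ => Or.inl ⟨e⟩⟩
  · have := exp_eq (k := 5) (m := 155) S hc ((Nat.card_congr e.toEquiv).trans (k1 5 (by norm_num))) rfl (by norm_num)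
    exact Or.inr ⟨this, rfl, ⟨e⟩⟩

theorem main {G : Type*} [Group G] [Finite G]
    {p : ℕ} [Fact p.Prime] (hC : ∀ H K : Subgroup G, IsPGroup p H → IsPGroup p K → Nat.card H = Nat.card K →
      ∃ g : G, K = H.map (MulAut.conj g).toMonoidHom) (P : Sylow p G) (n : ℕ) (hn : 3 ≤ n)
    (hel : Cfsg.IsElementaryAbelian p (P : Subgroup G)) (hcard : Nat.card P = p ^ n)
    (N : Subgroup G) (hN : N = Subgroup.normalizer ((P : Subgroup G) : Set G))
    (hsolv : Group.IsSolvable (↥N ⧸ Cfsg.pPrimeCore p ↥N)) :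
    (n = 3 ∧ (∃ f : ↥N ⧸ Cfsg.pPrimeCore p ↥N →* ↥(Cfsg.semiaffineGroup (GaloisField p 3)), Function.Injective f) ∧
      (p = 2 → Nonempty (↥N ⧸ Cfsg.pPrimeCore p ↥N ≃* Cfsg.semiaffineGroup (GaloisField 2 3)) ∨
               Nonempty (↥N ⧸ Cfsg.pPrimeCore p ↥N ≃* Cfsg.affineGroup (GaloisField 2 3)))) ∨
    (n = 5 ∧ p = 2 ∧ Nonempty (↥N ⧸ Cfsg.pPrimeCore p ↥N ≃* Cfsg.semiaffineGroup (GaloisField 2 5))) := by
  subst hN
  set N := Subgroup.normalizer ((P : Subgroup G) : Set G)
  have h1 : PC p (N ⧸ pPrimeCore p N) := (PC.norm hC P hel.1).quot _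
  let T := P.subtype (N := N) le_normalizer
  have hT : (T : Subgroup N) = (P : Subgroup G).subgroupOf N := rfl
  have hTn : (T : Subgroup N).Normal := hT ▸ normal_in_normalizer
  have hTe : IsElementaryAbelian p (T : Subgroup N) := (isElemAb_subgroupOf_iff le_normalizer).2 hel
  let S := T.mapSurjective (QuotientGroup.mk'_surjective (pPrimeCore p N))
  have hS : (S : Subgroup _) = (T : Subgroup N).map (QuotientGroup.mk' (pPrimeCore p N)) := rfl
  have : (S : Subgroup (N ⧸ pPrimeCore p N)).Normal := hS ▸ hTn.map _ (QuotientGroup.mk'_surjective _)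
  refine core h1 pPrimeCore_quotient_pPrimeCore S (hS ▸ ?_) hn ?_
  · exact elemAb_map hTe _
  · have a1 := Core.card_map_mk'_mul (pPrimeCore p N) (T : Subgroup N)
    rw [inf_comm, BG1.inf_eq_bot_of_isPGroup_of_not_dvd Fact.out T.isPGroup' (not_dvd_card_pPrimeCore Fact.out), card_bot, mul_one] at a1
    exact a1.trans ((card_subgroupOf_of_le le_normalizer).trans hcard)

end

/-- Let p be a prime and G a finite group in which any two p-subgroups of the same order are conjugate, and suppose a Sylow p-subgroup P of G is elementary abelian of order pⁿ with n ≥ 3. Let N be the normalizer of P and K the largest normal subgroup of N of order prime to p, and assume N/K is solvable. Then either n = 3 and N/K embeds in the one-dimensional semi-affine group over the field with p³ elements (and for p = 2 it is isomorphic to the affine or the semi-affine group over the field with 8 elements), or n = 5, p = 2 and N/K is isomorphic to the one-dimensional semi-affine group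 over the field with 32 elements. -/
theorem result {G : Type*} [Group G] [Finite G]
    {p : ℕ} [Fact p.Prime] (hC : ∀ H K : Subgroup G, IsPGroup p H → IsPGroup p K → Nat.card H = Nat.card K →
      ∃ g : G, K = H.map (MulAut.conj g).toMonoidHom) (P : Sylow p G) (n : ℕ) (hn : 3 ≤ n)
    (hel : Cfsg.IsElementaryAbelian p (P : Subgroup G)) (hcard : Nat.card P = p ^ n)
    (N : Subgroup G) (hN : N = Subgroup.normalizer ((P : Subgroup G) : Set G))
    (hsolv : Group.IsSolvable (↥N ⧸ Cfsg.pPrimeCore p ↥N)) :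
    (n = 3 ∧ (∃ f : ↥N ⧸ Cfsg.pPrimeCore p ↥N →* ↥(Cfsg.semiaffineGroup (GaloisField p 3)), Function.Injective f) ∧
      (p = 2 → Nonempty (↥N ⧸ Cfsg.pPrimeCore p ↥N ≃* Cfsg.semiaffineGroup (GaloisField 2 3)) ∨
               Nonempty (↥N ⧸ Cfsg.pPrimeCore p ↥N ≃* Cfsg.affineGroup (GaloisField 2 3)))) ∨
    (n = 5 ∧ p = 2 ∧ Nonempty (↥N ⧸ Cfsg.pPrimeCore p ↥N ≃* Cfsg.semiaffineGroup (GaloisField 2 5))) := by
  exact main hC P n hn hel hcard N hN hsolv

end Cfsg.Agent.S4025
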