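import Cfsg.Statements.S4027
import Cfsg.Agent.Lib.Hall.RealElt

set_option autoImplicit false
open Cfsg

namespace Cfsg.Agent.S4027

open scoped Pointwise
open Cfsg.Lib Cfsg.Lib.Hall

/-- Let G be a finite group in which every element x of odd order satisfies N_G(⟨x⟩) = C_G(x). Then the Sylow 2-subgroups of G are normal. -/
theorem result {G : Type*} [Group G] [Finite G]
    (hirr : ∀ x : G, (∀ r : ℕ, r.Prime → r ∣ orderOf x → r ≠ 2) →
      Subgroup.normalizer ((Subgroup.zpowers x : Subgroup G) : Set G) ≤ Subgroup.centralizer {x}) (P : Sylow 2 G) :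
    (P : Subgroup G).Normal := by
  refine sylow_two_normal_of_no_real (fun x hx ho hr => hx ?_) P
  obtain ⟨t, ht⟩ := isConj_iff.mp hr
  refine eq_one_of_odd_of_sq_eq_one ho (sq_eq_one_of_inverts_of_mem_cent ht
    (hirr x ?_ (mem_normalizer_zpowers_of_inverts ht)))
  rintro r - hr rfl
  exact absurd (ho.of_dvd_nat hr) (by decide)

end Cfsg.Agent.S4027
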