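import Cfsg.Statements.S4028
import Cfsg.Agent.Lib.Hall.Supersolvable
import Cfsg.Agent.Lib.Transfer.PNilp
import Cfsg.Agent.Lib.PGrp.Rank2

set_option autoImplicit false
open Cfsg

open Subgroup Cfsg.Lib
open scoped commutatorElement
open Transfer
namespace Cfsg.Agent.S4028

/-- Let G be a finite group with Sylow 2-subgroup P. Then N_G(⟨x⟩) = C_G(x) holds for every 2-element x of G if and only if N_P(⟨y⟩) = C_P(y) holds for every y ∈ P (computed inside P). -/
theorem result {G : Type*} [Group G] [Finite G] (P : Sylow 2 G) :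
    (∀ x : G, (∀ r : ℕ, r.Prime → r ∣ orderOf x → r = 2) →
      Subgroup.normalizer ((Subgroup.zpowers x : Subgroup G) : Set G) ≤ Subgroup.centralizer {x}) ↔
    (∀ y : ↥(P : Subgroup G), Subgroup.normalizer ((Subgroup.zpowers y : Subgroup ↥(P : Subgroup G)) : Set ↥(P : Subgroup G)) ≤
        Subgroup.centralizer {y}) := by
  refine ⟨fun h y g hg => mem_centralizer_singleton_iff.2 (Subtype.ext (mem_centralizer_singleton_iff.1 (h y (fun r hr h1 => ?_) ?_))), fun h x hx => ?_⟩
  · obtain ⟨k, hk⟩ := IsPGroup.iff_orderOf.1 P.2 y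
    exact (Nat.prime_dvd_prime_iff_eq hr Nat.prime_two).1 (hr.dvd_of_dvd_pow (hk ▸ orderOf_coe y ▸ h1))
  · simpa using le_normalizer_map (P : Subgroup G).subtype (mem_map_of_mem _ hg)
  have h1 : orderOf x = 2 ^ (orderOf x).primeFactorsList.length := Nat.eq_prime_pow_of_unique_prime_dvd (orderOf_pos x).ne' (hx _)
  have h2 := Hall.relIndex_centralizer_dvd_totient (A := zpowers x)
  obtain ⟨n, hn⟩ : ∃ n, (centralizer (zpowers x : Set G)).relIndex (normalizer (zpowers x : Set G)) = 2 ^ n := by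
    rw [Nat.card_zpowers, h1] at h2
    rcases (orderOf x).primeFactorsList.length.eq_zero_or_pos with e | e
    · exact ⟨0, by simpa [e] using h2⟩
    obtain ⟨i, -, hi⟩ := (Nat.dvd_prime_pow Nat.prime_two).1 (by simpa [Nat.totient_prime_pow Nat.prime_two e] using h2)
    exact ⟨i, hi⟩
  obtain ⟨T, h3, hT⟩ := exists_sylowIn_ge (p := 2) (Q := zpowers x) (.of_card ((Nat.card_zpowers x).trans h1)) le_normalizer
  rw [← hT.sup_eq_of_relIndex (centralizer_le_normalizer _) hn, PGrp.centralizer_zpowers]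
  refine sup_le le_rfl fun t ht => ?_
  obtain ⟨g, -, hg⟩ := (sylowIn_top P).exists_cj_le hT.isPGroup le_top
  have h4 := h ⟨_, hg (conj_mem_cj.2 (h3 (mem_zpowers x)))⟩ (x := ⟨_, hg (conj_mem_cj.2 ht)⟩) (PGrp.mem_normalizer_zpowers (by
    obtain ⟨k, hk⟩ := conj_mem_of_mem_normalizer (hT.le ht) (mem_zpowers x)
    exact ⟨k, Subtype.ext (by simp only [SubgroupClass.coe_zpow, conj_zpow, hk, coe_mul, coe_inv]; group)⟩))
  simp only [mem_centralizer_singleton_iff, ← Subtype.coe_inj, coe_mul, conj_mul, mul_left_inj, mul_right_inj] at h4 ⊢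
  exact h4

end Cfsg.Agent.S4028
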