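import Cfsg.Statements.S4029
import Cfsg.Agent.Lib.FG.ExtraChar
import Cfsg.Agent.Lib.PGrp.Rank2
import Cfsg.Agent.S0160

set_option autoImplicit false
open Cfsg

open Subgroup Cfsg.Lib
open scoped commutatorElement
open Clifford Char
namespace Cfsg.Agent.S4029

/-- Let P be a finite 2-group in which N_P(⟨y⟩) = C_P(y) for every y ∈ P. If s is the number of conjugacy classes of involutions of P, then #(P/Φ(P)) ≤ s + 1; in particular the subgroup generated by the involutions of P has order at least #(P/Φ(P)). -/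
theorem result {P : Type*} [Group P] [Finite P] (hP : IsPGroup 2 P)
    (hirr : ∀ y : P, Subgroup.normalizer ((Subgroup.zpowers y : Subgroup P) : Set P) ≤ Subgroup.centralizer {y}) :
    Nat.card (P ⧸ frattini P) ≤ Nat.card {c : ConjClasses P // ∃ y : P, ConjClasses.mk y = c ∧ orderOf y = 2} + 1 ∧
    Nat.card (P ⧸ frattini P) ≤ Nat.card (Subgroup.closure {y : P | orderOf y = 2}) := by
  have h1 : Nat.card (P ⧸ frattini P) ≤ {C : ConjClasses P | ∀ g : P, ConjClasses.mk g = C → IsConj g g⁻¹}.ncard := by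
    have h1 (x : P ⧸ frattini P) : x⁻¹ = x := by
      obtain ⟨x, rfl⟩ := QuotientGroup.mk_surjective x
      rw [inv_eq_iff_mul_eq_one, ← QuotientGroup.mk_mul, QuotientGroup.eq_one_iff, ← sq]
      exact PGrp.pow_mem_frattini hP x
    rw [← Nat.card_coe_set_eq, ← show _ = Nat.card ↑{C : ConjClasses P | _} from Cfsg.Agent.S0160.result,
      Nat.card_eq_of_bijective ConjClasses.mk ⟨fun x y e => ?_, ConjClasses.mk_surjective⟩, ← card_irrCharacter_eq]
    · refine Nat.card_le_card_of_injective (fun ψ => ⟨(irrQuotientEquiv _ ψ).1, fun g => ?_⟩) fun a b e =>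
        (irrQuotientEquiv _).injective (Subtype.ext (by injection e))
      rw [irrQuotientEquiv_apply, ← Complex.conj_eq_iff_im, ← (irrOn_top.2 ψ.2).charOn.apply_inv (mem_top _), h1]
    · obtain ⟨c, rfl⟩ := isConj_iff.1 (ConjClasses.mk_eq_mk_iff_isConj.1 e)
      rw [eq_mul_inv_iff_mul_eq, ← h1 (x * c), mul_inv_rev, h1, h1]
  have h2 (C : ConjClasses P) (hC : ∀ g : P, ConjClasses.mk g = C → IsConj g g⁻¹) : ∃ y, ConjClasses.mk y = C ∧ (y = 1 ∨ orderOf y = 2) := by
    obtain ⟨y, rfl⟩ := ConjClasses.mk_surjective C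
    obtain ⟨c, hc⟩ := isConj_iff.1 (hC y rfl)
    have h3 := mem_centralizer_singleton_iff.1 (hirr y (PGrp.mem_normalizer_zpowers (hc ▸ inv_mem (mem_zpowers y))))
    rw [h3, mul_inv_cancel_right] at hc
    exact ⟨y, rfl, or_iff_not_imp_left.2 fun e => orderOf_eq_prime (by rw [sq, mul_eq_one_iff_eq_inv]; exact hc) e⟩
  refine ⟨h1.trans (le_trans (Set.ncard_le_ncard fun C hC => ?_) (Set.ncard_insert_le (ConjClasses.mk 1) _)),
    h1.trans (le_trans (Set.ncard_le_ncard fun C hC => ?_) (Set.ncard_image_le (f := ConjClasses.mk) (s := SetLike.coe (Subgroup.closure _))))⟩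
  · obtain ⟨y, rfl, rfl | h⟩ := h2 C hC
    exacts [.inl rfl, .inr ⟨y, rfl, h⟩]
  · obtain ⟨y, rfl, rfl | h⟩ := h2 C hC
    exacts [⟨1, one_mem _, rfl⟩, ⟨y, Subgroup.subset_closure h, rfl⟩]

end Cfsg.Agent.S4029
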