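import Cfsg.Statements.S4030
import Cfsg.Agent.Lib.JTW.Cor
import Cfsg.Agent.Lib.Block.ColB
import Cfsg.Agent.Lib.BS.Bro

set_option autoImplicit false
open Cfsg

namespace Cfsg.Agent.S4030


open Subgroup Cfsg.Lib Cfsg.Lib.Core Cfsg.Lib.Amalg

theorem key {G : Type*} [Group G] [Finite G] (hirr : ∀ x : G, (∀ r : ℕ, r.Prime → r ∣ orderOf x → r = 2) →
      Subgroup.normalizer ((Subgroup.zpowers x : Subgroup G) : Set G) ≤ Subgroup.centralizer {x}) {S : Subgroup G}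
    (hS : IsPGroup 2 S) {x y : G} (hx : x ∈ S) (h : y * x * y⁻¹ = x⁻¹) : x * x = 1 := by
  obtain ⟨k, hk⟩ := isPGroup_iff_mem.1 hS x hx
  have := mem_centralizer_singleton_iff.1 (hirr x (fun r h1 h2 => (Nat.prime_dvd_prime_iff_eq h1 Nat.prime_two).1
    (h1.dvd_of_dvd_pow (h2.trans (orderOf_dvd_of_pow_eq_one hk)))) (mem_normalizer_of_cj_le (g := y) (by
      rw [cj_zpowers, h, zpowers_inv])))
  rw [this, mul_inv_cancel_right] at h
  exact mul_eq_one_iff_eq_inv.2 h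

/-- Let G be a finite non-abelian simple group in which N_G(⟨x⟩) = C_G(x) for every 2-element x. Then G is isomorphic to PSL₂(q) for a prime power q ≥ 4 with q ≡ 0, 3 or 5 (mod 8), or G is simple of the order of a Suzuki group, of a Ree group in characteristic 3, or of order 175560. -/
theorem result {G : Type*} [Group G] [Finite G] [IsSimpleGroup G] (hna : ¬ IsMulCommutative G)
    (hirr : ∀ x : G, (∀ r : ℕ, r.Prime → r ∣ orderOf x → r = 2) →
      Subgroup.normalizer ((Subgroup.zpowers x : Subgroup G) : Set G) ≤ Subgroup.centralizer {x}) :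
    (∃ (F : Type) (_ : Field F) (_ : Fintype F), 4 ≤ Fintype.card F ∧
        (Fintype.card F % 8 = 0 ∨ Fintype.card F % 8 = 3 ∨ Fintype.card F % 8 = 5) ∧
        Nonempty (G ≃* Matrix.ProjectiveSpecialLinearGroup (Fin 2) F)) ∨
    Cfsg.IsSuzuki G ∨ Cfsg.IsRee G ∨ Cfsg.IsJ1 G := by
  obtain ⟨S⟩ : Nonempty (Sylow 2 G) := inferInstance
  have k := fun x y hx => key hirr S.isPGroup' (x := x) (y := y) hx
  let A : Subgroup G :=
    { carrier := {x | x ∈ (S : Subgroup G) ∧ x * x = 1}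
      one_mem' := ⟨one_mem _, one_mul 1⟩
      mul_mem' := fun {a b} ha hb => ⟨mul_mem ha.1 hb.1, k _ a (mul_mem ha.1 hb.1) (by
        rw [← mul_assoc, ha.2, one_mul, mul_inv_rev, inv_eq_of_mul_eq_one_right hb.2])⟩
      inv_mem' := fun {a} ha => ⟨inv_mem ha.1, by rw [← mul_inv_rev, ha.2, inv_one]⟩ }
  obtain ⟨s, h1, h2, h3⟩ := Coprime.exists_involution_of_two_dvd (R := (S : Subgroup G))
    (S.dvd_card_of_dvd_card (FT.even_card_of_simple G fun h => hna ⟨⟨h⟩⟩).two_dvd)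
  have hc : IsMulCommutative A := ⟨⟨fun a b => Subtype.ext (by
    rw [coe_mul, coe_mul, ← inv_eq_of_mul_eq_one_right (A.mul_mem a.2 b.2).2, mul_inv_rev, inv_eq_of_mul_eq_one_right a.2.2,
      inv_eq_of_mul_eq_one_right b.2.2])⟩⟩
  rcases Gsm.goldschmidt (A := A) (syl_top S) (fun e => h2 (mem_bot.1 (e ▸ ⟨h1, h3⟩))) hc ⟨fun x hx => hx.1,
    fun x hx g hg => ⟨hg, by rw [conj_mul, hx.2, mul_one, mul_inv_cancel]⟩⟩ with h | ⟨H, h⟩
  · rcases JTW.abel hna (syl_top S) h with ⟨F, _, _, h, h1, e⟩ | h | h | h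
    exacts [Or.inl ⟨F, _, _, by omega, Or.inr h, e⟩, Or.inl (JTW.IsL2e.l2 h), Or.inr (Or.inr (Or.inr (JTW.isJ1 h))),
      Or.inr (Or.inr (Or.inl h.isRee))]
  rcases (BS.bro.bender h).cases' with ⟨F, _, _, n, h4, h5, e⟩ | h | ⟨F, _, _, n, h4, h5, ⟨e⟩⟩
  · exact Or.inl (JTW.IsL2e.l2 ⟨F, _, _, ⟨n, h4, h5⟩, e⟩)
  · exact Or.inr (Or.inl (BS.isSuzuki_of_iso h))
  obtain ⟨σ, c⟩ := Forms.isConj_of_card h5
  obtain ⟨P⟩ : Nonempty (Sylow 2 (PSU 3 F (2 ^ n))) := inferInstance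
  obtain ⟨f⟩ := U3.sylow_psu c (k := n) rfl P
  let ι := (e.symm.toMonoidHom.comp (P : Subgroup _).subtype).comp f.symm.toMonoidHom
  have u := Block.Col.us_of_heis c ι ((e.symm.injective.comp Subtype.val_injective).comp f.symm.injective)
  obtain ⟨x, h6, h7⟩ := u.exists_not (Nat.one_lt_two_pow (by omega))
  obtain ⟨y, -, h8⟩ := u.surj x h6 h7 _ (u.sq x h6)
  refine absurd ((u.mem x h6).2 (key hirr (S := ι.range) ((P.isPGroup'.of_equiv f).of_surjective _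
    ι.rangeRestrict_surjective) h6 (y := y) ?_)) h7
  rw [← inv_inj, inv_inv, ← mul_right_inj x, ← h8]
  group

end Cfsg.Agent.S4030
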