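import Cfsg.Statements.S4032
import Cfsg.Agent.Lib.Hall.ClassSize
import Cfsg.Agent.Lib.Coprime.Basic

set_option autoImplicit false
open Cfsg

open Subgroup Cfsg.Lib
open scoped commutatorElement
namespace Cfsg.Agent.S4032

/-- Let π be a set of primes and G a finite group in which N_G(⟨x⟩) = C_G(x) for every π-element x. If N is a normal subgroup of G whose order is divisible by no prime of π, then G/N has the same property: N_{G/N}(⟨y⟩) = C_{G/N}(y) for every π-element y of G/N. -/
theorem result {G : Type*} [Group G] [Finite G] (π : Set ℕ)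
    (hirr : ∀ x : G, (∀ r : ℕ, r.Prime → r ∣ orderOf x → r ∈ π) →
      Subgroup.normalizer ((Subgroup.zpowers x : Subgroup G) : Set G) ≤ Subgroup.centralizer {x})
    (N : Subgroup G) [N.Normal] (hN : ∀ r : ℕ, r.Prime → r ∣ Nat.card N → r ∉ π) :
    ∀ y : G ⧸ N, (∀ r : ℕ, r.Prime → r ∣ orderOf y → r ∈ π) →
      Subgroup.normalizer ((Subgroup.zpowers y : Subgroup (G ⧸ N)) : Set (G ⧸ N)) ≤ Subgroup.centralizer {y} := by
  intro y hy
  obtain ⟨x, rfl, hx⟩ := Hall.exists_lift_coprime (QuotientGroup.mk'_surjective N) (n := Nat.card N)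
    (Nat.coprime_of_dvd fun r hr h1 h2 => hN r hr h2 (hy r hr h1))
  have h1 : orderOf x ∣ orderOf (QuotientGroup.mk' N x) := hx.dvd_of_dvd_mul_right (orderOf_dvd_of_pow_eq_one (by
    rw [pow_mul]
    exact congrArg Subtype.val (pow_card_eq_one' (x := (⟨_, (QuotientGroup.eq_one_iff _).1 (pow_orderOf_eq_one (QuotientGroup.mk' N x))⟩ : N)))))
  rw [← MonoidHom.map_zpowers, ← Coprime.map_mk'_normalizer N (by rwa [Nat.card_zpowers]) (.inl (Coprime.isSolvable_zpowers x))]
  rintro _ ⟨g, hg, rfl⟩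
  exact mem_centralizer_singleton_iff.2 (by rw [← map_mul, mem_centralizer_singleton_iff.1 (hirr x (fun r hr h => hy r hr (h.trans h1)) hg), map_mul])

end Cfsg.Agent.S4032
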