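import Cfsg.Statements.S4033
import Cfsg.Agent.Lib.Hall.CsF

set_option autoImplicit false
open Cfsg

namespace Cfsg.Agent.S4033

open scoped Pointwise commutatorElement
open Cfsg.Lib Cfsg.Lib.Hall

open Subgroup Cfsg.Lib.Core Cfsg.Lib.CS3

/-- Let G be a finite group and p a prime, and suppose the conjugacy classes of p-regular elements of G (elements of order prime to p) have exactly two distinct sizes. Then either G has an abelian p-complement (an abelian subgroup of order prime to p and p-power index), or there are a prime q ≠ p, a Sylow p-subgroup P, a Sylow q-subgroup Q and a central subgroup A such that PQ is a normal subgroup of order #P·#Q and G is the internal direct product PQ × A. -/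
theorem result {G : Type*} [Group G] [Finite G] {p : ℕ} (hp : p.Prime)
    (h2 : Set.ncard (Set.range fun x : {x : G // (orderOf x).Coprime p} => (ConjClasses.mk (x : G)).carrier.ncard) = 2) :
    (∃ H : Subgroup G, IsMulCommutative H ∧ ¬ p ∣ Nat.card H ∧ ∃ k : ℕ, H.index = p ^ k) ∨
    (∃ (q : ℕ) (_ : Fact q.Prime) (P : Sylow p G) (Q : Sylow q G) (A : Subgroup G), q ≠ p ∧
        A ≤ Subgroup.center G ∧ Nat.card ↥((P : Subgroup G) ⊔ (Q : Subgroup G)) = Nat.card P * Nat.card Q ∧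
        ((P : Subgroup G) ⊔ (Q : Subgroup G)).Normal ∧
        ((P : Subgroup G) ⊔ (Q : Subgroup G)) ⊓ A = ⊥ ∧ ((P : Subgroup G) ⊔ (Q : Subgroup G)) ⊔ A = ⊤) := by
  obtain ⟨m, hm⟩ : ∃ m, ∀ x : G, (orderOf x).Coprime p → x ∉ center G → cs x = m := by
    obtain ⟨a, b, -, e⟩ := Set.ncard_eq_two.1 h2
    have h1 : ∀ x : G, (orderOf x).Coprime p → cs x = a ∨ cs x = b := fun x hx => by
      have : cs x ∈ ({a, b} : Set ℕ) := e ▸ ⟨⟨x, hx⟩, ncard_carrier_mk x⟩
      simpa using this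
    rcases h1 1 (by simp) with h3 | h3 <;> rw [cs_one] at h3
    · exact ⟨b, fun x hx zx => (h1 x hx).resolve_left fun e => zx (cs_eq_one_iff.1 (e.trans h3.symm))⟩
    · exact ⟨a, fun x hx zx => (h1 x hx).resolve_right fun e => zx (cs_eq_one_iff.1 (e.trans h3.symm))⟩
  by_cases hc : ∃ q t, PR G p m q t
  · obtain ⟨q, t, h⟩ := hc
    exact Or.inl h.abelian
  right
  obtain ⟨q, hq, hqp, h⟩ : ∃ q : ℕ, q.Prime ∧ q ≠ p ∧ ∀ s : ℕ, s.Prime → s ∉ ({p, q} : Set ℕ) →
      ∀ x : G, PE s x → x ∈ center G := by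
    by_cases h1 : ∃ q : ℕ, q.Prime ∧ q ≠ p ∧ ∃ x : G, PE q x ∧ x ∉ center G
    · obtain ⟨q, hq, hqp, hx⟩ := h1
      refine ⟨q, hq, hqp, fun s hs hs' x px => by_contra fun zx => hc ⟨q, s, hp, hq, hs, hqp, ?_, ?_, hm, hx,
        x, px, zx⟩⟩ <;> rintro rfl <;> simp at hs'
    · obtain ⟨q, h2, hq⟩ := Nat.exists_infinite_primes (p + 1)
      refine ⟨q, hq, by omega, fun s hs hs' x px => by_contra fun zx => h1 ⟨s, hs, ?_, x, px, zx⟩⟩
      rintro rfl; simp at hs'
  haveI := Fact.mk hp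
  haveI := Fact.mk hq
  set π : Set ℕ := {p, q}
  have hA : piCore πᶜ G ≤ center G := Coprime.le_of_forall_sylowIn fun s hs hd => by
    obtain ⟨T, hT⟩ := Transfer.exists_sylowIn (p := s) (piCore πᶜ G)
    exact ⟨T, hT, fun x hx => h s hs.out (isPi_piCore πᶜ G s hs.out hd) x
      (isPGroup_zpowers_of_mem hT.isPGroup hx)⟩
  have h1 := sup_piCore_compl_eq_top_of_le_center hA (isPi_piCore πᶜ G) fun s hs hd hs' => by
    haveI := Fact.mk hs
    obtain ⟨S⟩ : Nonempty (Sylow s G) := inferInstance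
    haveI := PGrp.normal_of_le_center fun x (hx : x ∈ (S : Subgroup G)) =>
      h s hs hs' x (isPGroup_zpowers_of_mem S.isPGroup' hx)
    refine not_dvd_index_of_sylow_le S (le_piCore fun r hr hd => ?_) hd
    obtain ⟨k, hk⟩ := S.isPGroup'.exists_card_eq
    rwa [(Nat.prime_dvd_prime_iff_eq hr hs).1 (hr.dvd_of_dvd_pow (hk ▸ hd))]
  rw [compl_compl] at h1
  haveI := (piCore_characteristic π G)
  have h3 : ∀ r : ℕ, r.Prime → r ∈ π → ¬ r ∣ (piCore π G).index := fun r hr hr' hd => by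
    rw [← relIndex_top_right, ← h1, relIndex_sup_right] at hd
    exact isPi_piCore πᶜ G r hr (hd.trans (relIndex_dvd_card _ _)) hr'
  obtain ⟨P, hP⟩ := exists_sylow_le_of_not_dvd_index (h3 p hp (by simp [π]))
  obtain ⟨Q, hQ⟩ := exists_sylow_le_of_not_dvd_index (h3 q hq (by simp [π]))
  have h4 : (P : Subgroup G) ⊔ Q = piCore π G := le_antisymm (sup_le hP hQ)
    (Coprime.le_of_forall_sylowIn fun s hs hd => by
      rcases isPi_piCore π G s hs.out hd with rfl | rfl
      · exact ⟨P, Transfer.sylowIn_of_le P hP, le_sup_left⟩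
      · exact ⟨Q, Transfer.sylowIn_of_le Q hQ, le_sup_right⟩)
  refine ⟨q, ⟨hq⟩, P, Q, piCore πᶜ G, hqp, hA, ?_, h4 ▸ inferInstance, h4 ▸ piCore_inf_piCore_compl,
    h4 ▸ sup_comm (piCore πᶜ G) _ ▸ h1⟩
  refine Nat.dvd_antisymm ((Nat.dvd_iff_prime_pow_dvd_dvd _ _).2 fun r k hr hd => ?_)
    (Nat.Coprime.mul_dvd_of_dvd_of_dvd (IsPGroup.coprime_card_of_ne p q hqp.symm _ _ P.isPGroup' Q.isPGroup')
      (card_dvd_of_le le_sup_left) (card_dvd_of_le le_sup_right))
  rcases Nat.eq_zero_or_pos k with rfl | hk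
  · simp
  rcases isPi_piCore π G r hr (h4 ▸ (dvd_pow_self r hk.ne').trans hd) with rfl | rfl
  · exact (P.pow_dvd_card_of_pow_dvd_card (hd.trans (card_subgroup_dvd_card _))).mul_right _
  · exact (Q.pow_dvd_card_of_pow_dvd_card (hd.trans (card_subgroup_dvd_card _))).mul_left _

end Cfsg.Agent.S4033
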