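import Cfsg.Statements.S4035
import Cfsg.Agent.Lib.Hall.ClassSize

set_option autoImplicit false
open Cfsg

namespace Cfsg.Agent.S4035

open scoped Pointwise
open Cfsg.Lib Cfsg.Lib.Hall

/-- Let G be a finite group and p a prime such that p divides the size of no conjugacy class of p-regular elements (elements of order prime to p). Then G is the internal direct product of a Sylow p-subgroup P and a normal subgroup H of order prime to p: P is normal, P ⊓ H = 1 and PH = G. -/
theorem result {G : Type*} [Group G] [Finite G] {p : ℕ} [Fact p.Prime]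
    (h : ∀ x : G, (orderOf x).Coprime p → ¬ p ∣ (ConjClasses.mk x).carrier.ncard) (P : Sylow p G) :
    (P : Subgroup G).Normal ∧ ∃ H : Subgroup G, H.Normal ∧ ¬ p ∣ Nat.card H ∧
      (P : Subgroup G) ⊓ H = ⊥ ∧ (P : Subgroup G) ⊔ H = ⊤ := by
  simp only [ncard_carrier_mk] at h
  have htop := sylow_sup_centralizer_eq_top P h
  haveI hP : (P : Subgroup G).Normal :=
    normal_of_sup_eq_top Subgroup.le_normalizer (Subgroup.centralizer_le_normalizer _) htop
  set C := Subgroup.centralizer ((P : Subgroup G) : Set G)
  have hT : Transfer.SylowIn p ((P : Subgroup G) ⊓ C) C := Transfer.sylowIn_inf_normal P C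
  have hn : Transfer.PNil p C := hT.pnil_of_normalizer_le_centralizer
    (inf_le_left.trans (Core.centralizer_anti inf_le_left))
  refine ⟨hP, Transfer.resOf p C, Transfer.resOf_normal C,
    (Core.coprime_iff_not_dvd Fact.out).1 hn.coprime, hn.disjoint P.isPGroup', ?_⟩
  rw [eq_top_iff, ← htop]
  refine sup_le le_sup_left (hT.resOf_sup.ge.trans (sup_le le_sup_right ?_))
  exact le_sup_of_le_left inf_le_left

end Cfsg.Agent.S4035
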