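import Cfsg.Statements.S4036
import Cfsg.Agent.Lib.Coprime.Basic

set_option autoImplicit false
open Cfsg

open Subgroup Cfsg.Lib
open scoped commutatorElement
namespace Cfsg.Agent.S4036

/-- Let P be a finite abelian p-group and K a group of automorphisms of P (a subgroup of Aut P) whose order is divisible by p. If all non-identity elements of K have the same fixed-point subgroup on P, then K has no non-trivial normal subgroup of order prime to p. -/
theorem result {P : Type*} [CommGroup P] [Finite P] {p : ℕ}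
    [Fact p.Prime] (hP : IsPGroup p P) (K : Subgroup (MulAut P)) (hK : p ∣ Nat.card K)
    (hfix : ∀ x y : MulAut P, x ∈ K → y ∈ K → x ≠ 1 → y ≠ 1 → ∀ v : P, x v = v ↔ y v = v) :
    ∀ N : Subgroup ↥K, N.Normal → ¬ p ∣ Nat.card N → N = ⊥ := by
  intro N hN hp
  by_contra hne
  obtain ⟨a, ha, ha1⟩ := (Subgroup.bot_or_exists_ne_one _).resolve_left hne
  have := Fintype.ofFinite N
  let τ : P →* P := ∏ n : N, ((n : K) : MulAut P).toMonoidHom
  have hτ : ∀ v, τ v = ∏ n : N, ((n : K) : MulAut P) v := fun v => MonoidHom.finset_prod_apply _ _ _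
  have h1 : ∀ (k : K) v, τ (k.1 v) = k.1 (τ v) := fun k v => by
    rw [hτ, hτ, map_prod, ← (MulAut.conjNormal k).toEquiv.prod_comp]
    exact Finset.prod_congr rfl fun n _ => by simp
  obtain ⟨w, hw, hw1⟩ : ∃ w ∈ τ.ker, w ≠ 1 := (Subgroup.bot_or_exists_ne_one _).resolve_left fun h =>
    ha1 (Subtype.ext (MulEquiv.ext fun v => (τ.ker_eq_bot_iff.1 h) (by
      rw [hτ, hτ]; exact Equiv.prod_comp (Equiv.mulRight (⟨a, ha⟩ : N)) fun n => ((n : K) : MulAut P) v)))
  obtain ⟨k, hk⟩ := exists_prime_orderOf_dvd_card' p hK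
  let W : SubMulAction (zpowers k) P := ⟨τ.ker, fun c v hv => show τ (c.1.1 v) = 1 by rw [h1, hv, map_one]⟩
  obtain ⟨b, hb, hb1⟩ := (IsPGroup.of_card (n := 1) (by rw [Nat.card_zpowers, hk, pow_one])).exists_fixed_point_of_prime_dvd_card_of_fixed_point W
    (a := ⟨1, one_mem τ.ker⟩) (((hP.to_subgroup τ.ker).card_eq_or_dvd).resolve_left fun h => hw1 ((card_eq_one.1 h).le hw)) fun c : zpowers k => Subtype.ext (map_one c.1.1)
  have h2 : k.1 b = b := congrArg Subtype.val (hb ⟨k, mem_zpowers k⟩)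
  have hk1 : k.1 ≠ 1 := fun e => (Fact.out : p.Prime).ne_one (by rw [← hk, show k = 1 from Subtype.ext e, orderOf_one])
  have h3 : b.1 ^ Nat.card N = 1 := by
    rw [← show τ b = 1 from b.2, hτ, Finset.prod_congr rfl (g := fun _ => b.1), Finset.prod_const, Nat.card_eq_fintype_card]
    · rfl
    intro n _
    by_cases h : ((n : K) : MulAut P) = 1
    · rw [h]; rfl
    exact (hfix _ _ k.2 n.1.2 hk1 h _).1 h2
  refine hb1 (Subtype.ext (orderOf_eq_one_iff.1 (Nat.eq_one_of_dvd_coprimes ?_ (orderOf_dvd_of_pow_eq_one h3) (orderOf_dvd_natCard _))).symm)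
  exact Coprime.coprime_card_of_isPGroup hP ((Nat.Prime.coprime_iff_not_dvd Fact.out).2 hp).symm

end Cfsg.Agent.S4036
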