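import Cfsg.Statements.S4038
import Cfsg.Agent.Lib.Hall.MaxNil

set_option autoImplicit false
open Cfsg

namespace Cfsg.Agent.S4038

open scoped Pointwise commutatorElement
open Cfsg.Lib Cfsg.Lib.Hall

/-- Let A and G be finite groups of coprime orders with A acting on G by automorphisms. Suppose G has a proper A-invariant subgroup M, maximal among proper A-invariant subgroups, which is nilpotent and whose Sylow 2-subgroups have nilpotency class at most 2. Then G is solvable. -/
theorem result {G A : Type*} [Group G] [Finite G]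
    [Group A] [Finite A] (φ : A →* MulAut G) (hcop : (Nat.card A).Coprime (Nat.card G))
    (M : Subgroup G) (hMtop : M ≠ ⊤) (hMinv : ∀ a : A, ∀ m : G, m ∈ M → φ a m ∈ M)
    (hMmax : ∀ H : Subgroup G, M ≤ H → H ≠ ⊤ → (∀ a : A, ∀ h : G, h ∈ H → φ a h ∈ H) → H = M)
    (hnil : Group.IsNilpotent M) (h2 : ∀ S : Sylow 2 ↥M, Group.nilpotencyClass ↥(S : Subgroup ↥M) ≤ 2) :
    Group.IsSolvable G := by
  haveI : Fact (Nat.Prime 2) := ⟨Nat.prime_two⟩
  obtain ⟨Γ, _, _, i, j, hA, hc, hn⟩ := Coprime.exists_ambient φ
  have hsup := hc.sup_eq_top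
  rw [MonoidHom.range_eq_map] at hn
  rw [MonoidHom.range_eq_map, MonoidHom.range_eq_map] at hsup
  haveI := Core.isNilpotent_map M i
  have := solvable_of_maxInv (M := M.map i) hsup (hA.coprime_top (by simpa using hcop))
    ((Subgroup.map_lt_map_iff_of_injective hA.inj_i).mpr hMtop.lt_top)
    (hA.le_normalizer_iff.mpr (fun a _ x hx => hMinv a x hx)) (fun H h1 h3 h4 => by
      obtain ⟨H, -, rfl⟩ := hA.exists_eq_map h3
      by_cases e : H = ⊤
      · exact Or.inr (by rw [e])
      · exact Or.inl (by rw [hMmax H (hA.map_le_map.mp h1) e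
          (fun a x hx => hA.le_normalizer_iff.mp h4 a trivial x hx)]))
    (fun S hS => by
      obtain ⟨S, -, rfl⟩ := hA.exists_eq_map (Transfer.sylowIn_iff.mp hS).1
      obtain ⟨P, rfl⟩ := Transfer.sylowIn_iff_exists_sylow.mp (hA.sylowIn_map_iff.mp hS)
      haveI := P.isPGroup'.isNilpotent
      have h3 := commutator_le_centralizer_of_class_le_two (h2 P)
      rw [← Subgroup.map_commutator, ← Subgroup.map_commutator]
      refine (Subgroup.map_mono ((Subgroup.map_mono h3).trans
        (Subgroup.map_centralizer_le_centralizer_image _ _))).trans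
        (Subgroup.map_centralizer_le_centralizer_image _ _))
  exact Core.isSolvable_of_equiv (((⊤ : Subgroup G).equivMapOfInjective i hA.inj_i).symm.trans Subgroup.topEquiv)

end Cfsg.Agent.S4038
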