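import Cfsg.Statements.S4043
import Cfsg.Agent.Lib.Hall.SZConj
import Cfsg.Agent.Lib.Hall.Product
import Cfsg.Agent.Lib.Core.Nilpotent

set_option autoImplicit false
open Cfsg

namespace Cfsg.Agent.S4043

open scoped Pointwise commutatorElement
open Cfsg.Lib Cfsg.Lib.Hall

open Cfsg.Lib.Core Subgroup
open scoped Pointwise

theorem split {G : Type*} [Group G] [Finite G] {p : ℕ} [Fact p.Prime] {A : Subgroup G}
    (h : Cfsg.HasNormalPComplement p A) : ∃ B P : Subgroup G, B ≤ A ∧ P ≤ A ∧
      A ≤ normalizer (B : Set G) ∧ IsPGroup p P ∧ (Nat.card B).Coprime p ∧ B ⊔ P = A ∧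
      Nat.card B * p ^ (Nat.card A).factorization p = Nat.card A ∧
      ∀ C : Subgroup G, C ≤ A → (Nat.card C).Coprime p → C ≤ B := by
  obtain ⟨P, K, hK, hc⟩ := h
  have hn : A ≤ normalizer ((K.map A.subtype : Subgroup G) : Set G) := by
    have := le_normalizer_map (H := K) A.subtype
    rwa [normalizer_eq_top, ← MonoidHom.range_eq_map, range_subtype] at this
  refine ⟨K.map A.subtype, (P : Subgroup A).map A.subtype, map_subtype_le _, map_subtype_le _, hn,
    isPGroup_sylow_map_subtype P, ?_, ?_, ?_, fun C hC hCp => ?_⟩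
  · rw [Hall.card_map_subtype, ← hc.index_eq_card]
    exact ((Nat.Prime.coprime_iff_not_dvd Fact.out).mpr P.not_dvd_index).symm
  · rw [← Subgroup.map_sup, hc.sup_eq_top, ← MonoidHom.range_eq_map, range_subtype]
  · rw [Hall.card_map_subtype, ← P.card_eq_multiplicity, hc.card_mul]
  · refine le_of_coprime_card_relIndex hC hn ?_
    rw [relIndex, subgroupOf, comap_map_eq_self_of_injective A.subtype_injective,
      hc.symm.index_eq_card, P.card_eq_multiplicity]
    exact hCp.pow_right _

/-- Let G be a finite group that is the semidirect product of a normal p-subgroup N by a subgroup A, and also of N by a subgroup A₁, where p is a prime and A and A₁ both have normal p-complements. If C_N(A) = C_N(A₁) = 1, then A₁ is conjugate to A by an element of N. -/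
theorem result {G : Type*} [Group G] [Finite G] {p : ℕ}
    [Fact p.Prime] (N : Subgroup G) [N.Normal] (hN : IsPGroup p N) (A A₁ : Subgroup G)
    (hA : A.IsComplement' N) (hA₁ : A₁.IsComplement' N)
    (hAp : Cfsg.HasNormalPComplement p A) (hA₁p : Cfsg.HasNormalPComplement p A₁)
    (hC : ∀ n : G, n ∈ N → (∀ a : G, a ∈ A → a * n * a⁻¹ = n) → n = 1)
    (hC₁ : ∀ n : G, n ∈ N → (∀ a : G, a ∈ A₁ → a * n * a⁻¹ = n) → n = 1) :
    ∃ n : G, n ∈ N ∧ A₁ = A.map (MulAut.conj n).toMonoidHom := by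
  obtain ⟨B, -, hBA, -, hBn, -, hBp, -, hBc, -⟩ := split hAp
  obtain ⟨B₁, P₁, hBA₁, hPA₁, hBn₁, hP₁, hBp₁, hsup, hBc₁, hmax⟩ := split hA₁p
  have hcop : ∀ C : Subgroup G, (Nat.card C).Coprime p → (Nat.card N).Coprime (Nat.card C) := by
    intro C hC
    obtain ⟨a, ha⟩ := hN.exists_card_eq
    rw [ha]; exact hC.symm.pow_left _
  have := hN.isNilpotent
  obtain ⟨g, hg, hle⟩ := sz_le_conj N hA₁.symm (hcop B hBp) (Or.inl inferInstance)
  have hAc : Nat.card A = Nat.card A₁ := by rw [← hA.index_eq_card, ← hA₁.index_eq_card]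
  have h1 : MulAut.conj g⁻¹ • B ≤ A₁ := by
    intro x hx
    rw [mem_conj_smul] at hx
    have := hle hx
    rw [mem_conj_smul] at this
    simpa [mul_assoc] using this
  have h2 : MulAut.conj g⁻¹ • B = B₁ := by
    refine eq_of_le_of_card_ge (hmax _ h1 (by rwa [card_conj_smul])) (le_of_eq ?_)
    rw [card_conj_smul]
    rw [hAc] at hBc
    exact Nat.eq_of_mul_eq_mul_right (pow_pos (Fact.out : p.Prime).pos _) (hBc₁.trans hBc.symm)
  have h3 : N ⊓ centralizer (B₁ : Set G) = ⊥ := by
    by_contra hne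
    have := inf_centralizer_ne_bot_of_isPGroup (hN.to_le inf_le_left) hP₁
      (le_normalizer_inf le_normalizer_of_normal (le_normalizer_centralizer (hPA₁.trans hBn₁))) hne
    obtain ⟨⟨z, ⟨hzN, hzB⟩, hzP⟩, hz1⟩ := ne_bot_iff_exists_ne_one.mp this
    refine hz1 (Subtype.ext (hC₁ z hzN fun a ha => ?_))
    have : A₁ ≤ centralizer {z} := by
      rw [← hsup]
      exact sup_le (fun y hy => mem_centralizer_singleton_iff.mpr (hzB y hy))
        (fun y hy => mem_centralizer_singleton_iff.mpr (hzP y hy))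
    rw [mem_centralizer_singleton_iff.mp (this ha), mul_inv_cancel_right]
  have h4 : normalizer (B₁ : Set G) ≤ A₁ := by
    intro x hx
    obtain ⟨a, ha, n, hn, rfl⟩ := factor_of_sup_eq_top hA₁.sup_eq_top x
    have hn' : n ∈ normalizer (B₁ : Set G) := by
      simpa using mul_mem (inv_mem (hBn₁ ha)) hx
    have : n ∈ N ⊓ centralizer (B₁ : Set G) := by
      refine ⟨hn, fun b hb => ?_⟩
      have e : n * b * n⁻¹ * b⁻¹ ∈ A₁ ⊓ N := by
        refine ⟨hBA₁ (mul_mem ((mem_normalizer_iff.mp hn' b).mp hb) (inv_mem hb)), ?_⟩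
        have := mul_mem hn (Normal.conj_mem inferInstance _ (inv_mem hn) b)
        simpa [mul_assoc] using this
      rw [hA₁.disjoint.eq_bot, mem_bot, mul_inv_eq_one, mul_inv_eq_iff_eq_mul] at e
      exact e.symm
    rw [h3, mem_bot] at this
    rw [this, mul_one]; exact ha
  refine ⟨g⁻¹, inv_mem hg, ?_⟩
  rw [← Hall.conj_smul_eq_map]
  refine (eq_of_le_of_card_ge (le_trans ?_ h4) (by rw [card_conj_smul, hAc])).symm
  rw [← h2, normalizer_conj_smul]
  exact pointwise_smul_le_pointwise_smul_iff.mpr hBn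

end Cfsg.Agent.S4043
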