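import Cfsg.Statements.S4049
import Cfsg.Agent.Lib.Hall.RealElt

set_option autoImplicit false
open Cfsg

namespace Cfsg.Agent.S4049

open scoped Pointwise
open Cfsg.Lib Cfsg.Lib.Hall

/-- Let G be a finite group such that N_G(H)/C_G(H) has odd order for every nontrivial subgroup H of odd order. Then the Sylow 2-subgroups of G are normal. -/
theorem result {G : Type*} [Group G] [Finite G]
    (hhom : ∀ H : Subgroup G, H ≠ ⊥ → ¬ 2 ∣ Nat.card ↥H →
        ¬ 2 ∣ (Subgroup.centralizer (H : Set G)).relIndex (Subgroup.normalizer (H : Set G))) (P : Sylow 2 G) :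
    (P : Subgroup G).Normal := by
  refine sylow_two_normal_of_no_real (fun x hx ho hr => hx ?_) P
  obtain ⟨t, ht2, ht⟩ := exists_two_inverts hr
  refine eq_one_of_odd_of_sq_eq_one ho (sq_eq_one_of_inverts_of_mem_cent ht ?_)
  have hn := mem_normalizer_zpowers_of_inverts ht
  rw [← Core.centralizer_zpowers]
  refine mem_of_isPGroup_of_not_dvd_relIndex Nat.prime_two ht2 hn
    (Core.normalizer_le_normalizer_centralizer _ hn) (hhom _ (by simpa using hx) ?_)
    (Subgroup.centralizer_le_normalizer _)
  rw [Nat.card_zpowers, ← even_iff_two_dvd]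
  exact Nat.not_even_iff_odd.mpr ho

end Cfsg.Agent.S4049
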