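import Cfsg.Statements.S4056
import Cfsg.Agent.Lib.PGrp.MaxClass

set_option autoImplicit false
open Cfsg

namespace Cfsg.Agent.S4056

open Cfsg.Lib.PGrp Subgroup
open scoped commutatorElement

/-- In a finite 2-group of nilpotency class at most 2 and exponent dividing 4, the Frattini subgroup lies in the centre and is elementary abelian. -/
theorem result {P : Type*} [Group P] [Finite P] (hP : IsPGroup 2 P)
    (hcl : Group.nilpotencyClass P ≤ 2) (hexp : Monoid.exponent P ∣ 4) :
    frattini P ≤ Subgroup.center P ∧ Cfsg.IsElementaryAbelian 2 (frattini P) := by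
  haveI := hP.isNilpotent
  have h1 := commutator_commutator_top_eq_bot_iff.1 (Subgroup.lowerCentralSeries_eq_bot_iff_nilpotencyClass_le.2 hcl)
  have h4 : ∀ x : P, x ^ 4 = 1 := fun x => Monoid.exponent_dvd_iff_forall_pow_eq_one.1 hexp x
  have h2 : ∀ x y : P, ⁅x, y⁆ ^ 2 = 1 := fun x y => by
    have h := mul_pow_eq_of_commute (x := y) (y := x) (commute_of_mem_center (h1 _ _) _)
      (commute_of_mem_center (h1 _ _) _) 4
    rw [h4, h4, h4, one_mul, one_mul, show Nat.choose 4 2 = 4 + 2 by decide, pow_add, h4, one_mul] at h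
    exact h.symm
  have h3 : frattini P ≤ omegaOne 2 (center P) := frattini_le hP _
    (commutator_le.2 fun x _ y _ => mem_omegaOne_of_pow (h1 x y) (h2 x y)) fun x => mem_omegaOne_of_pow
      (mem_center_iff.2 fun g => commutatorElement_eq_one_iff_mul_comm.1 (by
        rw [commutator_pow_right (commute_of_mem_center (h1 _ _) _), h2])) (by rw [← pow_mul, h4])
  exact ⟨h3.trans (omegaOne_le _ _), isElementaryAbelian_of_le (isElementaryAbelian_omegaOne inferInstance) h3⟩

end Cfsg.Agent.S4056
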