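import Cfsg.Statements.S4057
import Cfsg.Agent.Lib.PGrp.GenRank

set_option autoImplicit false
open Cfsg

namespace Cfsg.Agent.S4057

/-- Let p be an odd prime and P a finite p-group in which every normal abelian subgroup can be generated by k elements. Then every subgroup of P can be generated by at most ⌊k(k+4)/4⌋ elements. -/
theorem result {P : Type*} [Group P] [Finite P] {p : ℕ} [Fact p.Prime]
    (hp : p ≠ 2) (hP : IsPGroup p P) (k : ℕ)
    (hab : ∀ A : Subgroup P, A.Normal → IsMulCommutative A → ∃ S : Finset P, S.card ≤ k ∧ Subgroup.closure (S : Set P) = A) :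
    ∀ H : Subgroup P, ∃ S : Finset P, S.card ≤ k * (k + 4) / 4 ∧ Subgroup.closure (S : Set P) = H := by
  intro H
  obtain ⟨S, h1, h2⟩ := Cfsg.Lib.PGrp.exists_gen_of_subgroup H
  exact ⟨S, h1.trans (Cfsg.Lib.PGrp.grank_le_of_normal_abelian hp hP k hab H), h2⟩

end Cfsg.Agent.S4057
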