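import Cfsg.Statements.S4058
import Cfsg.Agent.Lib.Hall.FS
import Cfsg.Agent.Lib.Core.Frattini
import Mathlib

set_option autoImplicit false
open Cfsg

namespace Cfsg.Agent.S4058

open scoped Pointwise
open Cfsg.Lib Cfsg.Lib.Hall

open Cfsg.Lib.Char MulAction
open scoped IsMulCommutative

theorem dvd_sum {A X : Type*} [Group A] [MulAction A X] [Fintype X] (f : X → ℤ) (m : ℤ)
    (hf : ∀ (a : A) x, f (a • x) = f x) (h : ∀ x, m ∣ (stabilizer A x).index * f x) :
    m ∣ ∑ x, f x := by
  classical
  haveI := Fintype.ofFinite (orbitRel.Quotient A X)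
  rw [← Finset.sum_fiberwise (s := Finset.univ)
    (g := fun x => (Quotient.mk'' x : orbitRel.Quotient A X))]
  refine Finset.dvd_sum fun q _ => ?_
  obtain ⟨x, rfl⟩ := Quotient.exists_rep q
  have hrel : ∀ y : X, (Quotient.mk'' y : orbitRel.Quotient A X) = Quotient.mk _ x ↔ y ∈ orbit A x :=
    fun y => by rw [← MulAction.orbitRel_apply]; exact Quotient.eq''
  rw [Finset.sum_congr rfl (g := fun _ => f x) fun y hy => by
    obtain ⟨a, rfl⟩ := (hrel y).1 (Finset.mem_filter.1 hy).2
    exact hf a x, Finset.sum_const, nsmul_eq_mul]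
  have e : (Finset.univ.filter fun y =>
      (Quotient.mk'' y : orbitRel.Quotient A X) = Quotient.mk _ x).card = (stabilizer A x).index := by
    rw [index_stabilizer, ← Set.ncard_coe_finset]
    congr 1
    ext y; simp [← hrel]
  rw [e]; exact h x

/-- Let G be a finite 2-group with #(G/Φ(G)) ≥ 2^(2k+1). Then the number of elements x of G with x² = 1 is divisible by 2^(k+1). -/
theorem result {G : Type*} [Group G] [Finite G] (hG : IsPGroup 2 G) (k : ℕ)
    (hgen : 2 ^ (2 * k + 1) ≤ Nat.card (G ⧸ frattini G)) :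
    2 ^ (k + 1) ∣ Nat.card {x : G // x ^ 2 = 1} := by
  classical
  haveI := Fintype.ofFinite G
  haveI : Fact (Nat.Prime 2) := ⟨Nat.prime_two⟩
  haveI := hG.isNilpotent
  haveI := Core.isMulCommutative_quotient_frattini (G := G)
  let A := (G ⧸ frattini G) →* ℂˣ
  have hA : Nat.card A = Nat.card (G ⧸ frattini G) :=
    CommGroup.card_monoidHom_of_hasEnoughRootsOfUnity _ _
  haveI : Finite A := Nat.finite_of_card_ne_zero (by rw [hA]; exact Nat.card_pos.ne')
  letI : MulAction A (IrrCharacter G) :=
    { smul := fun a χ => ⟨_, χ.2.linear_mul (a.comp (QuotientGroup.mk' _))⟩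
      one_smul := fun χ => Subtype.ext (funext fun g => one_mul _)
      mul_smul := fun a b χ => Subtype.ext (funext fun g => mul_assoc _ _ _) }
  have hsm : ∀ (a : A) (χ : IrrCharacter G) g, ((a • χ : IrrCharacter G) : G → ℂ) g =
      (a (g : G ⧸ frattini G) : ℂ) * (χ : G → ℂ) g := fun _ _ _ => rfl
  choose ν hν using fun χ : IrrCharacter G => χ.2.isCharacter.exists_int_fs
  have h1 : (Nat.card {x : G // x ^ 2 = 1} : ℤ) =
      ∑ χ : IrrCharacter G, ν χ * charDegree (χ : G → ℂ) := by
    have := card_sq_eq_sum_fs (1 : G)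
    simp only [hν, ← fun χ : IrrCharacter G => χ.2.coe_charDegree, map_natCast, ← sq] at this
    exact_mod_cast this
  rw [← Int.natCast_dvd_natCast, h1]
  refine dvd_sum (A := A) _ _ (fun a χ => ?_) fun χ => ?_
  · have e1 : charDegree ((a • χ : IrrCharacter G) : G → ℂ) = charDegree (χ : G → ℂ) :=
      charDegree_eq_of_eq (by rw [hsm, χ.2.coe_charDegree]; simp)
    have e2 : ν (a • χ) = ν χ := by
      have : fs ((a • χ : IrrCharacter G) : G → ℂ) = fs (χ : G → ℂ) := by
        simp only [fs, hsm, ← sq, QuotientGroup.mk_pow, Core.pow_eq_one_quotient_frattini hG]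
        simp
      rw [hν, hν] at this
      exact_mod_cast this
    rw [e1, e2]
  · have hφ := χ.2.isCharacter.mul χ.2.isCharacter.conj
    obtain ⟨c, hc, hφ'⟩ := hφ.exists_nat_coeffs
    have h2 : charDegree (χ : G → ℂ) ^ 2 = ∑ ψ : IrrCharacter G, c ψ * charDegree (ψ : G → ℂ) := by
      have := congrFun hφ' 1
      simp only [Finset.sum_apply, Pi.smul_apply, Pi.mul_apply, smul_eq_mul,
        ← fun χ : IrrCharacter G => χ.2.coe_charDegree, map_natCast, ← sq] at this
      exact_mod_cast this
    let l : stabilizer A χ → IrrCharacter G := fun a =>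
      ⟨_, isIrrCharacter_linear (a.1.comp (QuotientGroup.mk' _))⟩
    have hl : Function.Injective l := fun a b h => by
      refine Subtype.ext (MonoidHom.ext fun x => ?_)
      obtain ⟨g, rfl⟩ := QuotientGroup.mk_surjective x
      exact Units.ext (congrFun (congrArg Subtype.val h) g)
    haveI := Fintype.ofFinite (stabilizer A χ)
    have h3 : Nat.card (stabilizer A χ) ≤ charDegree (χ : G → ℂ) ^ 2 := by
      rw [h2, Nat.card_eq_fintype_card, ← Finset.card_univ, ← Finset.card_image_of_injective _ hl,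
        Finset.card_eq_sum_ones]
      refine le_trans (Finset.sum_le_sum fun ψ hψ => ?_)
        (Finset.sum_le_sum_of_subset (Finset.subset_univ _))
      obtain ⟨a, -, rfl⟩ := Finset.mem_image.1 hψ
      have h4 : c (l a) = 1 := by
        have := hc (l a)
        rw [classInner_mul_left] at this
        have e : ((fun g => (starRingEnd ℂ) ((fun g => (starRingEnd ℂ) ((χ : G → ℂ) g)) g)) *
            (l a : G → ℂ)) = (χ : G → ℂ) := by
          ext g
          have := congrFun (congrArg Subtype.val (mem_stabilizer_iff.1 a.2)) g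
          rw [hsm] at this
          simpa [l, mul_comm] using this
        rw [e, χ.2.classInner_self] at this
        exact_mod_cast this.symm
      rw [h4, one_mul]
      exact (l a).2.charDegree_pos
    obtain ⟨d, hd⟩ := IsPGroup.iff_card.1 (hG.to_quotient (frattini G))
    obtain ⟨n, hn⟩ := IsPGroup.iff_card.1 hG
    obtain ⟨e, -, he⟩ := (Nat.dvd_prime_pow Nat.prime_two).1 (hn ▸ χ.2.charDegree_dvd_card)
    have h5 := (stabilizer A χ).card_mul_index
    rw [hA, hd] at h5
    obtain ⟨s, -, hs⟩ := (Nat.dvd_prime_pow Nat.prime_two).1 (Dvd.intro _ h5)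
    obtain ⟨t, -, ht⟩ := (Nat.dvd_prime_pow Nat.prime_two).1 (Dvd.intro_left _ h5)
    rw [hs, ht, ← pow_add] at h5
    rw [hs, he, ← pow_mul] at h3
    rw [hd] at hgen
    have h6 := Nat.pow_right_injective le_rfl h5
    have h7 := (Nat.pow_le_pow_iff_right (by norm_num)).1 h3
    have h8 := (Nat.pow_le_pow_iff_right (by norm_num)).1 hgen
    rw [ht, he, mul_left_comm]
    refine Dvd.dvd.mul_left ?_ _
    rw [← Nat.cast_mul, ← pow_add]
    exact Int.natCast_dvd_natCast.2 (pow_dvd_pow _ (by omega))

end Cfsg.Agent.S4058
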