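import Cfsg.Statements.S4064
import Cfsg.Agent.Lib.Exc.EC
import Cfsg.Agent.Lib.FT.Cor
import Cfsg.Agent.Lib.Block.GenQuat
import Cfsg.Agent.Lib.Coprime.FrobKernel
import Cfsg.Agent.Lib.Coprime.FrobCompl

set_option autoImplicit false
open Cfsg

namespace Cfsg.Agent.S4064

open Subgroup Cfsg.Lib Cfsg.Lib.Invol Cfsg.Lib.Exc Cfsg.Lib.Coprime

theorem compl_shape {X : Type*} [Group X] [Finite X] (he : ∀ x g : X, Commute x (g * x * g⁻¹))
    (hodd : ∀ p : ℕ, p.Prime → p ≠ 2 → ∀ P : Subgroup X, IsPGroup p P → IsCyclic P)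
    (hu : ∀ s t : X, orderOf s = 2 → orderOf t = 2 → s = t) :
    IsCyclic X ∨ ∃ m : ℕ, Odd m ∧ Nonempty (X ≃* Multiplicative (ZMod m) × QuaternionGroup 2) := by
  have := isNilpotent_of_engel he
  rcases Block.isCyclic_or_quatData' (Core.isPGroup_pCore 2 X) (fun s _ t _ => hu s t) with h1 | ⟨a, x, n, h1⟩
  · have : IsZGroup X := ⟨fun p hp P => by
      by_cases h2 : p = 2
      · subst h2
        rw [Core.sylow_eq_pCore_of_nilpotent P]
        exact h1
      · exact hodd p hp h2 P P.2⟩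
    exact Or.inl inferInstance
  have h2 : n = 0 := by
    have h2 := (he x a).eq
    have h3 : a * x = x * a⁻¹ := by
      rw [← h1.inv, show x * (x * a * x⁻¹) = (x * x) * a * x⁻¹ by group, h1.sq, ← pow_succ, pow_succ', ← h1.sq]
      group
    rw [h3, show x * (x * a⁻¹ * a⁻¹) = (x * x) * (a⁻¹ * a⁻¹) by group,
      show x * a⁻¹ * a⁻¹ * x = (x * a * x⁻¹)⁻¹ * (x * a * x⁻¹)⁻¹ * (x * x) by group, h1.inv, h1.sq] at h2
    have h4 : a ^ 4 = 1 := by
      have h5 : a ^ 2 ^ (n + 1) * (a⁻¹ * a⁻¹) = a ^ 2 ^ (n + 1) * (a * a) := by rw [h2]; group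
      rw [show a ^ 4 = (a * a) * (a * a) by simp [pow_succ, mul_assoc]]
      nth_rewrite 1 [← mul_left_cancel h5]
      group
    have h5 := Nat.le_of_dvd (by norm_num) (h1.ord ▸ orderOf_dvd_of_pow_eq_one h4)
    have := Nat.lt_two_pow_self (n := n)
    rw [pow_succ] at h5
    omega
  subst h2
  obtain ⟨e⟩ := h1.nonempty_mulEquiv
  have h2 : (Nat.card (pPrimeCore 2 X)).Coprime 2 := Core.coprime_card_pPrimeCore 2 X
  have : IsZGroup (pPrimeCore 2 X) := ⟨fun p hp P => by
    by_cases h3 : p = 2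
    · subst h3
      rw [Core.eq_bot_of_isPGroup_of_coprime hp P.2 (Nat.Coprime.coprime_dvd_left (card_subgroup_dvd_card _) h2)]
      infer_instance
    · have := hodd p hp h3 _ (P.2.map (pPrimeCore 2 X).subtype)
      exact ((P : Subgroup (pPrimeCore 2 X)).equivMapOfInjective _ (subtype_injective _)).isCyclic.2 this⟩
  obtain ⟨f⟩ := nonempty_equiv_prod_of_commute (A := pPrimeCore 2 X) (B := pCore 2 X)
    (fun a ha b hb => (mem_centralizer_iff.1 (Core.le_centralizer_of_coprime_of_nilpotent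
      (Core.coprime_card_of_isPGroup Nat.prime_two (Core.isPGroup_pCore 2 X) h2).symm ha) b hb).symm)
    (by rw [inf_comm]; exact Core.inf_eq_bot_of_isPGroup_of_coprime Nat.prime_two (Core.isPGroup_pCore 2 X) h2)
    (by rw [sup_comm]; exact Core.pCore_sup_pPrimeCore_of_nilpotent Nat.prime_two)
  exact Or.inr ⟨_, Nat.coprime_two_right.1 h2, ⟨f.trans ((zmodCyclicMulEquiv inferInstance).symm.prodCongr e)⟩⟩

/-- Let G be a finite group in which the centralizer of every element meets each of its conjugates by elements outside its normalizer trivially. Then G is nilpotent; or G is a Frobenius group with a complement that is cyclic or isomorphic to the direct product of a cyclic group of odd order and the quaternion group of order 8; or G is isomorphic to PSL₂(2ⁿ) for some n ≥ 2. -/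
theorem result {G : Type*} [Group G] [Finite G] (hTI : ∀ x : G, Cfsg.IsTISubset (Subgroup.centralizer ({x} : Set G) : Set G)) :
    Group.IsNilpotent G ∨
    (∃ H : Subgroup G, Cfsg.IsFrobeniusComplement H ∧
      (IsCyclic H ∨ ∃ m : ℕ, Odd m ∧ Nonempty (H ≃* Multiplicative (ZMod m) × QuaternionGroup 2))) ∨
    (∃ n : ℕ, 2 ≤ n ∧ Nonempty (G ≃* Matrix.ProjectiveSpecialLinearGroup (Fin 2) (GaloisField 2 n))) := by
  have key : ∀ {y w g : G}, w ≠ 1 → Commute w y → Commute (g * w * g⁻¹) y → g ∈ Hp y := fun {y w g} h1 h2 h3 =>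
    by_contra fun h => h1 (hTI y g h w (mem_cent.2 h2) (mem_cent.2 h3))
  have key' : ∀ {y w g : G}, w ≠ 1 → Commute w y → Commute (g * w * g⁻¹) y → Commute y (g * y * g⁻¹) :=
    fun h1 h2 h3 => (mem_cent.1 (Transfer.conj_mem_of_mem_normalizer (key h1 h2 h3) (mem_cent.2 (Commute.refl _)))).symm
  have hn : ∀ {w : G} {H : Subgroup G}, w ≠ 1 → H ≤ centralizer ({w} : Set G) →
      ∀ x g : H, Commute x (g * x * g⁻¹) := fun {w H} h1 h2 x g => Subtype.ext (key' h1 (mem_cent.1 (h2 x.2)).symm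
    (by rw [(mem_cent.1 (h2 g.2)).eq, mul_inv_cancel_right]; exact (mem_cent.1 (h2 x.2)).symm)).eq
  have hn' : ∀ {w : G}, w ≠ 1 → Group.IsNilpotent (centralizer ({w} : Set G)) :=
    fun h => isNilpotent_of_engel (hn h le_rfl)
  by_cases h1 : fittingSubgroup G = ⊤
  · exact Or.inl (Core.fitting_eq_top_iff.1 h1)
  have hF := Core.fitting_normal G
  by_cases h2 : fittingSubgroup G = ⊥
  · have h3 := FT.even_card_of_not_solvable G fun h => by
      have : Nontrivial G := by
        by_contra h4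
        rw [not_nontrivial_iff_subsingleton] at h4
        exact h1 (Subsingleton.elim _ _)
      exact Core.fitting_ne_bot_of_solvable h2
    obtain ⟨S⟩ : Nonempty (Sylow 2 G) := inferInstance
    obtain ⟨z, -, hz, h4⟩ := exists_le_cent h3 S
    have h5 : (S : Subgroup G) ≤ centralizer ({z} : Set G) := fun x hx => mem_cent.2 (h4 x hx)
    have := hn' (ne_one_of_two hz)
    have h6 : Hp z ≠ ⊤ := fun e => by
      have := normalizer_eq_top_iff.1 e
      exact ne_one_of_two hz (mem_bot.1 (h2 ▸ Core.le_fitting (hn' (ne_one_of_two hz)) (mem_cent.2 (Commute.refl z))))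
    have hse : IsStronglyEmbedded (Hp z) := stronglyEmbedded_iff.2 ⟨h6, even_card_of_two_mem hz
      (le_normalizer (mem_cent.2 (Commute.refl z))), fun t g ht h7 h8 => key (ne_one_of_two ht)
        (h4 t (mem_of_normalizes_nilpotent S h5 ht h7))
        (h4 _ (mem_of_normalizes_nilpotent S h5 (by rw [orderOf_conj, ht]) h8))⟩
    have hE : ECT G := by
      refine ⟨fun t ht x y hy h7 h8 => ?_, fun s u x hs hu h7 h8 h9 => ?_⟩
      · obtain ⟨g, rfl⟩ := isConj_iff.1 (se_isConj hse ht hy)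
        have := commute_conj g (mem_cent.1 (Transfer.conj_mem_of_mem_normalizer
          (inv_mem (key (ne_one_of_two ht) (Commute.refl t) h8)) (mem_cent.2 h7)))
        simpa [mul_assoc] using this
      · obtain ⟨g, rfl⟩ := isConj_iff.1 (se_isConj hse hs hu)
        exact key' (w := g⁻¹ * x * g) (fun e => h7 (by rw [show x = g * (g⁻¹ * x * g) * g⁻¹ by group, e]; simp))
          (by simpa [mul_assoc] using commute_conj g⁻¹ h9) (by simpa [mul_assoc] using h8)
    obtain ⟨u, h7, hu⟩ := se_exists_two_not_mem hse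
    have h8 : ¬ Commute z u := fun e => h7 (hE.ec.mem_of_commute hz e.symm)
    by_cases h9 : ∃ s, orderOf s = 2 ∧ Commute s z ∧ s ≠ z
    · obtain ⟨s, hs, h9, h10⟩ := h9
      obtain ⟨F, _, _, h11, e⟩ := hE.psl_of_conj hz hs h9 h10 hu h8 fun x hx d hd => key' (ne_one_of_two hz)
        hx.symm (hE.ec z hz _ _ (by rw [orderOf_conj, hz]) hx ((hE.ec.mem_Hp hz).1 hd)).symm
      obtain ⟨n, h12, -, e⟩ := psl_galois (h11 ▸ four_dvd_card_cent hz hs h9 h10) e
      exact Or.inr (Or.inr ⟨n, h12, e⟩)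
    push Not at h9
    obtain ⟨N, -, h10, -, h11, h12, -⟩ := exists_frobKernel (H := centralizer ({z} : Set G))
      ⟨fun e => ne_one_of_two hz (mem_bot.1 (e ▸ mem_cent.2 (Commute.refl z))),
        fun e => h8 (mem_cent.1 (e ▸ mem_top u)).symm, fun g hg => eq_bot_iff.2 fun x hx => by_contra fun h10 => by
          have h11 := (hE.ec.mem_Hp hz).1 (inv_mem (key (g := g⁻¹) h10 (mem_cent.1 hx.1)
            (by simpa using mem_cent.1 (mem_conj_smul.1 hx.2))))
          rw [inv_inv] at h11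
          exact hg (mem_cent.2 (mul_inv_eq_iff_eq_mul.1 (h9 _ (by rw [orderOf_conj, hz]) h11)))⟩
    exact absurd (eq_bot_iff.2 (h2 ▸ Core.le_fitting (BS.Fpf.nilpotent h12 (by rw [normalizer_eq_top]; exact le_top)
      fun e => ne_one_of_two hz (mem_bot.1 (e ▸ mem_cent.2 (Commute.refl z)))))) h11
  have := Core.isNilpotent_fitting G
  obtain ⟨⟨z, hz, h3⟩, h4⟩ := (ne_bot_iff_exists_ne_one).1
    (Core.inf_centralizer_ne_bot_of_nilpotent (le_refl (fittingSubgroup G)) le_rfl le_normalizer h2)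
  have h5 : z ≠ 1 := fun e => h4 (Subtype.ext e)
  have h6 : ∀ x ∈ fittingSubgroup G, x ≠ 1 → centralizer ({x} : Set G) ≤ fittingSubgroup G := fun x hx h6 => by
    have : (centralizer ({x} : Set G)).Normal := normalizer_eq_top_iff.1 (eq_top_iff.2 fun g _ => key h5
      (mem_centralizer_iff.1 h3 x hx).symm (by
        have h7 : Commute z (g⁻¹ * x * g) := (mem_centralizer_iff.1 h3 _ (hF.conj_mem' x hx g)).symm
        simpa [mul_assoc] using commute_conj g h7))
    exact Core.le_fitting (hn' h6)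
  obtain ⟨H, hH⟩ := exists_right_complement'_of_coprime (coprime_index_of_cent h6)
  have h7 : Fpf (fittingSubgroup G) H := fpf_iff.2 fun r hr h7 k hk e => by_contra fun h8 =>
    h7 (mem_bot.1 (hH.disjoint.eq_bot ▸ mem_inf.2 ⟨h6 k hk h8 (mem_cent.2 e), hr⟩))
  have h8 : H ≠ ⊥ := fun e => h1 (by simpa [e] using hH.sup_eq_top)
  have h9 : ∀ K : Subgroup G, K ≤ normalizer (fittingSubgroup G : Set G) := fun K => by
    rw [normalizer_eq_top]; exact le_top
  obtain ⟨y, -, h10, h11⟩ := h7.exists_central (h9 H) h2 h8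
  refine Or.inr (Or.inl ⟨H, isFrobeniusComplement_of_fpf h7 hH.sup_eq_top h2 h8, compl_shape
    (hn (w := y) (fun e => by rw [e, orderOf_one] at h10; exact Nat.not_prime_one h10)
      fun x hx => mem_cent.2 (mem_centralizer_iff.1 h11 x hx)) (fun p hp h12 P hP => ?_) fun s t hs ht => ?_⟩)
  · have : Fact p.Prime := ⟨hp⟩
    exact (P.equivMapOfInjective _ (subtype_injective _)).isCyclic.2
      ((h7.mono le_rfl (map_subtype_le P)).isCyclic_of_isPGroup (h9 _) h2 h12 (hP.map _))
  · exact Subtype.ext (h7.involution_unique (h9 H) h2 t.2 s.2 (fun e => ne_one_of_two ht (Subtype.ext e))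
      (fun e => ne_one_of_two hs (Subtype.ext e)) (congrArg Subtype.val (mul_self_of_two ht))
      (congrArg Subtype.val (mul_self_of_two hs)))

end Cfsg.Agent.S4064
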