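import Cfsg.Statements.S4065
import Cfsg.Agent.Lib.Known.PSL2

set_option autoImplicit false
open Cfsg

namespace Cfsg.Agent.S4065

open Cfsg.Lib.Known

theorem comm {F : Type*} [Field F] (h2 : (2 : F) = 0) {x a b : Cfsg.Lib.Linear.PSL2 F} (hx : x ≠ 1)
    (ha : a * x = x * a) (hb : b * x = x * b) : a * b = b * a := by
  obtain ⟨x, rfl⟩ := pmk_surjective x
  obtain ⟨a, rfl⟩ := pmk_surjective a
  obtain ⟨b, rfl⟩ := pmk_surjective b
  rw [← map_mul, ← map_mul, (pmk_injective h2).eq_iff] at ha hb ⊢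
  have hs := mt pmk_eq_one_iff.2 hx
  obtain ⟨r, s, h1⟩ := exists_eq_of_comm hs (B := (a : M2 F)) (congrArg Subtype.val ha)
  obtain ⟨r', s', h1'⟩ := exists_eq_of_comm hs (B := (b : M2 F)) (congrArg Subtype.val hb)
  apply Subtype.ext
  change (a : M2 F) * (b : M2 F) = (b : M2 F) * (a : M2 F)
  rw [h1, h1']
  simp only [add_mul, mul_add, Matrix.smul_mul, Matrix.mul_smul, one_mul, mul_one, smul_add, smul_smul]
  module

/-- Let F be a finite field with 2ⁿ elements, n ≥ 2. In PSL₂(F) the centralizer of every element meets each of its conjugates by elements outside its normalizer trivially. -/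
theorem result (n : ℕ) (hn : 2 ≤ n)
    (x : Matrix.ProjectiveSpecialLinearGroup (Fin 2) (GaloisField 2 n)) :
    Cfsg.IsTISubset (Subgroup.centralizer ({x} : Set (Matrix.ProjectiveSpecialLinearGroup (Fin 2) (GaloisField 2 n))) :
      Set (Matrix.ProjectiveSpecialLinearGroup (Fin 2) (GaloisField 2 n))) := by
  have h2 : (2 : GaloisField 2 n) = 0 := CharP.ofNat_eq_zero _ 2
  intro g hg y hy hgy
  by_contra hy1
  apply hg
  have hx : ∀ z, z ∈ Subgroup.centralizer {x} ↔ z * x = x * z := fun z =>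
    Subgroup.mem_centralizer_singleton_iff
  rw [SetLike.mem_coe, hx] at hy hgy
  by_cases hx1 : x = 1
  · intro z; rw [SetLike.mem_coe, SetLike.mem_coe, hx, hx, hx1]; simp
  have key : ∀ w, w ≠ 1 → w * x = x * w → ∀ z, z * x = x * z ↔ z * w = w * z := fun w hw h z =>
    ⟨fun k => comm h2 hx1 k h, fun k => comm h2 hw k h.symm⟩
  intro z
  rw [SetLike.mem_coe, SetLike.mem_coe, hx, hx, key y hy1 hy,
    key _ (by simpa using hy1) hgy]
  constructor
  · intro h; calc _ = g * (z * y) * g⁻¹ := by group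
      _ = _ := by rw [h]; group
  · intro h; calc _ = g⁻¹ * (g * z * g⁻¹ * (g * y * g⁻¹)) * g := by group
      _ = _ := by rw [h]; group

end Cfsg.Agent.S4065
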