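import Cfsg.Statements.S4066
import Cfsg.Agent.Lib.PGrp.Cyclic
import Cfsg.Agent.Lib.PGrp.OmegaBasic
import Cfsg.Agent.Lib.Transfer.SylowIn
import Cfsg.Agent.Lib.Core.PCore
import Cfsg.Agent.Lib.Hall.ClassSize

set_option autoImplicit false
open Cfsg

namespace Cfsg.Agent.S4066

open Subgroup Cfsg.Lib Cfsg.Lib.Transfer

/-- Let G be a finite group in which the centralizer of every element meets each of its conjugates by elements outside its normalizer trivially. Then any two distinct Sylow p-subgroups of G, for any prime p, intersect trivially. -/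
theorem result {G : Type*} [Group G] [Finite G] (hTI : ∀ x : G, Cfsg.IsTISubset (Subgroup.centralizer ({x} : Set G) : Set G))
    {p : ℕ} [Fact p.Prime] (P Q : Sylow p G) (hPQ : P ≠ Q) : (P : Subgroup G) ⊓ (Q : Subgroup G) = ⊥ := by
  have ti : ∀ y z g : G, z ≠ 1 → z * y = y * z → g * z = z * g →
      g ∈ normalizer (centralizer ({y} : Set G) : Set G) := fun y z g h1 h2 h3 => by_contra fun h =>
    h1 (hTI y g h z (Hall.mem_cent_iff.2 h2) (by rw [h3, mul_inv_cancel_right]; exact Hall.mem_cent_iff.2 h2))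
  have cen : ∀ R : Sylow p G, (R : Subgroup G) ≠ ⊥ → ∃ z ∈ (R : Subgroup G), z ≠ 1 ∧
      ∀ y ∈ (R : Subgroup G), y * z = z * y := fun R h => by
    have := (Subgroup.nontrivial_iff_ne_bot _).2 h
    have := R.isPGroup'.center_nontrivial
    obtain ⟨z, hz⟩ := exists_ne (1 : center R)
    exact ⟨z.1, z.1.2, by simpa using hz, fun y hy => congrArg Subtype.val (mem_center_iff.1 z.2 ⟨y, hy⟩)⟩
  by_contra h
  obtain ⟨x, hx, h1⟩ := (bot_or_exists_ne_one _).resolve_left h
  obtain ⟨z, hz, z1, z2⟩ := cen P fun e => h (by simp [e])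
  obtain ⟨w, hw, w1, w2⟩ := cen Q fun e => h (by simp [e])
  have key : ∀ g ∈ normalizer (centralizer ({z} : Set G) : Set G),
      g ∈ normalizer ((P : Subgroup G) : Set G) := fun g hg => by
    refine mem_normalizer_of_cj_le (cj_le_iff.2 fun u hu => ?_)
    obtain ⟨k, hk⟩ := Core.isPGroup_iff_forall_mem.1 (isPGroup_cj g P.isPGroup') _ (conj_mem_cj.2 hu)
    have h2 := Hall.mem_cent_iff.1 (conj_mem_of_mem_normalizer hg (Hall.mem_cent_iff.2 (z2 u hu)))
    generalize g * u * g⁻¹ = y at hk h2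
    let C := centralizer ({y} : Set G)
    refine (sylowIn_top P).le_of_le_normalizer (Q := omegaOne (p ^ k) (C ⊓ centralizer C))
      (Core.isPGroup_iff_forall_mem.2 fun a ha => ⟨k, PGrp.pow_eq_one_of_mem_omegaOne_of_comm
        (PGrp.isMulCommutative_iff_forall.2 fun a ha b hb =>
          mem_centralizer_iff.1 (mem_inf.1 hb).2 a (mem_inf.1 ha).1) a ha⟩) le_top
      (le_trans (fun a ha => ?_) (PGrp.normalizer_le_normalizer_omegaOne _ _))
      (PGrp.mem_omegaOne_of_pow ⟨Hall.self_mem_cent y, fun a ha => Hall.mem_cent_iff.1 ha⟩ hk)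
    have := ti y z a z1 h2.symm (z2 a ha)
    exact inf_normalizer_le_normalizer_inf ⟨this, PGrp.normalizer_le_normalizer_centralizer' _ this⟩
  have h2 : w ∈ (P : Subgroup G) := (sylowIn_top P).le_of_normalizes (Q.isPGroup'.to_le
    (zpowers_le.2 hw)) le_top (zpowers_le.2 (key w (ti z x w h1 (z2 x hx.1) (w2 x hx.2).symm)))
    (mem_zpowers w)
  exact hPQ (Sylow.ext (Q.is_maximal' P.isPGroup' ((sylowIn_top P).le_of_normalizes Q.isPGroup' le_top
    fun q hq => key q (ti z w q w1 (z2 w h2) (w2 q hq)))))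

end Cfsg.Agent.S4066
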