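import Cfsg.Statements.S4067
import Cfsg.Agent.Lib.Coprime.AutOrb

set_option autoImplicit false
open Cfsg

namespace Cfsg.Agent.S4067

open Subgroup Cfsg.Lib Cfsg.Lib.Coprime
open scoped commutatorElement

section
variable {G : Type*} [Group G] [Finite G] {p : ℕ} [hp : Fact p.Prime]

theorem exists_ppow (hD : Nat.card (commutator G) = p) (hZ : commutator G ≤ center G) {x y : G}
    (h : ⁅x, y⁆ ≠ 1) : ∃ x' : G, (∃ k, x' ^ p ^ k = 1) ∧ ⁅x', y⁆ ≠ 1 := by
  have ho : orderOf x ≠ 0 := (orderOf_pos x).ne'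
  refine ⟨x ^ ordCompl[p] (orderOf x), ⟨(orderOf x).factorization p, ?_⟩, ?_⟩
  · rw [← pow_mul, mul_comm, Nat.ordProj_mul_ordCompl_eq_self, pow_orderOf_eq_one]
  · rw [PGrp.commutator_pow_left (PGrp.commute_of_mem_center (hZ (PGrp.commutator_mem x y)) x)]
    intro e
    have h1 : orderOf ⁅x, y⁆ = p := orderOf_eq_prime
      (by rw [← hD]; exact congrArg Subtype.val (pow_card_eq_one' (x := (⟨_, PGrp.commutator_mem x y⟩ :
        commutator G)))) h
    exact Nat.not_dvd_ordCompl hp.out ho (h1.symm.dvd.trans (orderOf_dvd_of_pow_eq_one e))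

theorem step2 (hD : Nat.card (commutator G) = p) (hZ : commutator G ≤ center G)
    (hB : ∀ u ∈ center G, u ^ p = 1 → u ∈ commutator G) (hna : ¬ IsMulCommutative G) :
    ∃ x a : G, (∃ k, x ^ p ^ k = 1) ∧ ⁅a, x⁆ ≠ 1 ∧ ∃ c ∈ commutator G, a ^ p = c ^ p.choose 2 := by
  have hc : ∀ x y g : G, Commute ⁅x, y⁆ g := fun x y g =>
    PGrp.commute_of_mem_center (hZ (PGrp.commutator_mem x y)) g
  have hpZ : ∀ x : G, x ^ p ∈ center G := fun x => mem_center_iff.2 fun g => by
    rw [eq_comm, ← commutatorElement_eq_one_iff_mul_comm, PGrp.commutator_pow_left (hc _ _ _), ← hD]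
    exact congrArg Subtype.val (pow_card_eq_one' (x := (⟨_, PGrp.commutator_mem x g⟩ :
        commutator G)))
  obtain ⟨x₀, y₀, h₀⟩ : ∃ x y : G, ⁅x, y⁆ ≠ 1 := by
    by_contra! h
    exact hna ⟨⟨fun a b => commutatorElement_eq_one_iff_mul_comm.1 (h a b)⟩⟩
  have sw : ∀ x y : G, ⁅x, y⁆ ≠ 1 → ⁅y, x⁆ ≠ 1 := fun x y h e =>
    h (by rw [← commutatorElement_inv, e, inv_one])
  obtain ⟨x, hx, h₁⟩ := exists_ppow hD hZ h₀
  obtain ⟨y, hy, h₂⟩ := exists_ppow hD hZ (sw _ _ h₁)
  have key : ∀ x y : G, (∃ k, x ^ p ^ k = 1) → ⁅y, x⁆ ≠ 1 → y ^ p ∈ zpowers (x ^ p) →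
      ∃ x a : G, (∃ k, x ^ p ^ k = 1) ∧ ⁅a, x⁆ ≠ 1 ∧
        ∃ c ∈ commutator G, a ^ p = c ^ p.choose 2 := by
    rintro x y hx hxy ⟨k, hk⟩
    refine ⟨x, x ^ (-k) * y, hx, fun e => hxy ?_, ⁅y, x ^ (-k)⁆, PGrp.commutator_mem _ _, ?_⟩
    · rw [commutatorElement_eq_one_iff_commute] at e ⊢
      have := ((Commute.refl x).zpow_left k).mul_left e
      rwa [← mul_assoc, ← zpow_add, add_neg_cancel, zpow_zero, one_mul] at this
    · rw [PGrp.mul_pow_eq_of_commute (hc _ _ _) (hc _ _ _), ← hk]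
      simp only
      rw [← zpow_natCast x, ← zpow_natCast (x ^ (-k)), ← zpow_mul, ← zpow_mul, ← zpow_add]
      simp [mul_comm]
  have hpg : ∀ x : G, (∃ k, x ^ p ^ k = 1) → IsPGroup p (zpowers (x ^ p)) := by
    rintro x ⟨k, hk⟩ ⟨_, m, rfl⟩
    refine ⟨k, Subtype.ext ?_⟩
    change ((x ^ p) ^ m) ^ p ^ k = 1
    rw [← zpow_natCast, ← zpow_mul, mul_comm, zpow_mul, zpow_natCast, ← pow_mul, mul_comm, pow_mul,
      hk, one_pow, one_zpow]
  have hA : zpowers (x ^ p) ⊔ zpowers (y ^ p) ≤ center G :=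
    sup_le (zpowers_le_of_mem (hpZ x)) (zpowers_le_of_mem (hpZ y))
  haveI : (zpowers (y ^ p)).Normal := ⟨fun n hn g => by
    rw [mem_center_iff.1 (zpowers_le_of_mem (hpZ y) hn) g, mul_inv_cancel_right]; exact hn⟩
  have hAp := (hpg x hx).to_sup_of_normal_right (hpg y hy)
  have hcyc := PGrp.isCyclic_of_comm_of_card_omegaOne_le hAp
    ⟨⟨fun a b => Subtype.ext (mem_center_iff.1 (hA b.2) a)⟩⟩
    ((card_le_of_le (PGrp.omegaOne_le_iff.2 fun u hu h => hB u (hA hu) h)).trans hD.le)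
  obtain ⟨a, ha⟩ := IsPGroup.iff_card.1 (hpg x hx)
  obtain ⟨b, hb⟩ := IsPGroup.iff_card.1 (hpg y hy)
  rcases le_total a b with h | h
  · exact key y x hy (sw _ _ h₂) (PGrp.le_of_card_dvd_of_isCyclic hcyc le_sup_left le_sup_right
      (by rw [ha, hb]; exact pow_dvd_pow p h) (mem_zpowers _))
  · exact key x y hx h₂ (PGrp.le_of_card_dvd_of_isCyclic hcyc le_sup_right le_sup_left
      (by rw [ha, hb]; exact pow_dvd_pow p h) (mem_zpowers _))

theorem step3 (hD : Nat.card (commutator G) = p) (hZ : commutator G ≤ center G)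
    (hna : ¬ IsMulCommutative G) :
    ∃ a ∉ center G, ∃ u ∈ centralizer ({a} : Set G), u ∈ centralizer (centralizer ({a} : Set G) : Set G) ∧
      u ∉ commutator G ∧ ∀ x ∉ centralizer ({a} : Set G), (x * u) ^ p = x ^ p := by
  have hc : ∀ x y g : G, Commute ⁅x, y⁆ g := fun x y g =>
    PGrp.commute_of_mem_center (hZ (PGrp.commutator_mem x y)) g
  have hDp : ∀ c ∈ commutator G, c ^ p = 1 := fun c hc => by
    rw [← hD]; exact congrArg Subtype.val (pow_card_eq_one' (x := (⟨_, hc⟩ : commutator G)))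
  by_cases hB : ∀ u ∈ center G, u ^ p = 1 → u ∈ commutator G
  swap
  · push Not at hB
    obtain ⟨u, hu, hup, huD⟩ := hB
    obtain ⟨a, ha⟩ : ∃ a : G, a ∉ center G := by
      by_contra! h
      exact hna ⟨⟨fun a b => mem_center_iff.1 (h b) a⟩⟩
    refine ⟨a, ha, u, center_le_centralizer _ hu, center_le_centralizer _ hu, huD, fun x _ => ?_⟩
    rw [(PGrp.commute_of_mem_center hu x).symm.mul_pow, hup, mul_one]
  suffices h : ∃ a ∉ center G, ∀ x, ⁅a, x⁆ ≠ 1 → a ^ p * ⁅a, x⁆ ^ p.choose 2 = 1 by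
    obtain ⟨a, ha, h⟩ := h
    refine ⟨a, ha, a, mem_centralizer_singleton_iff.2 rfl,
      fun g hg => mem_centralizer_singleton_iff.1 hg, fun e => ha (hZ e), fun x hx => ?_⟩
    rw [PGrp.mul_pow_eq_of_commute (hc _ _ _) (hc _ _ _), mul_assoc, h x, mul_one]
    exact fun e => hx (mem_centralizer_singleton_iff.2
      (commutatorElement_eq_one_iff_mul_comm.1 e).symm)
  obtain ⟨x, a, ⟨k, hk⟩, hax, c, hcD, hc'⟩ := step2 hD hZ hB hna
  have haZ : a ∉ center G := fun h => hax
    (commutatorElement_eq_one_iff_mul_comm.2 (mem_center_iff.1 h x).symm)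
  rcases hp.out.eq_two_or_odd' with rfl | hodd
  swap
  · obtain ⟨m, hm⟩ := PGrp.dvd_choose_two_of_odd hodd
    refine ⟨a, haZ, fun y _ => ?_⟩
    rw [hc', hm, pow_mul, pow_mul, hDp c hcD, hDp _ (PGrp.commutator_mem _ _), one_pow, one_mul]
  suffices h : ∃ a ∉ center G, a ^ 2 ∈ commutator G ∧ a ^ 2 ≠ 1 by
    obtain ⟨b, hb, h1, h2⟩ := h
    refine ⟨b, hb, fun y hy => ?_⟩
    have e : (⟨_, h1⟩ : commutator G) = ⟨_, PGrp.commutator_mem b y⟩ := by
      obtain ⟨z, -, hz⟩ := (Nat.card_eq_two_iff' (1 : commutator G)).1 hD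
      exact (hz _ fun e => h2 (congrArg Subtype.val e)).trans
        (hz _ fun e => hy (congrArg Subtype.val e)).symm
    have e' : b ^ 2 = ⁅b, y⁆ := congrArg Subtype.val e
    rw [show Nat.choose 2 2 = 1 from rfl, pow_one, e', ← pow_two, hDp _ (PGrp.commutator_mem _ _)]
  rw [show Nat.choose 2 2 = 1 from rfl, pow_one] at hc'
  by_cases h1 : a ^ 2 = 1
  swap
  · exact ⟨a, haZ, hc' ▸ hcD, h1⟩
  by_cases h2 : x ^ 2 = 1
  · have e : (x * a) ^ 2 = ⁅a, x⁆ := by
      rw [PGrp.mul_pow_eq_of_commute (hc _ _ _) (hc _ _ _), h1, h2]; simp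
    refine ⟨x * a, fun h => hax ?_, e ▸ PGrp.commutator_mem _ _, e ▸ hax⟩
    rw [commutatorElement_eq_one_iff_mul_comm]
    have := mem_center_iff.1 h x
    rw [mul_assoc] at this
    exact (mul_left_cancel this).symm
  · obtain ⟨j, hj1, hj2⟩ := PGrp.exists_pow_not_mem_pow_mem (p := 2) (H := ⊥) (x := x ^ 2) (n := k)
      (by rw [← pow_mul, mul_comm, pow_mul, hk, one_pow]) h2
    rw [mem_bot, ← pow_mul, mul_comm, pow_mul] at hj1
    rw [mem_bot, ← pow_mul x, mul_comm, pow_mul] at hj2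
    have hw : (x ^ j) ^ 2 ∈ commutator G := hB _ (mem_center_iff.2 fun g => by
      rw [eq_comm, ← commutatorElement_eq_one_iff_mul_comm, PGrp.commutator_pow_left (hc _ _ _),
        hDp _ (PGrp.commutator_mem _ _)]) hj2
    by_cases h3 : x ^ j ∈ center G
    · have e : (a * x ^ j) ^ 2 = (x ^ j) ^ 2 := by
        rw [(PGrp.commute_of_mem_center h3 a).symm.mul_pow, h1, one_mul]
      exact ⟨a * x ^ j, fun h => haZ (((center G).mul_mem_cancel_right h3).1 h), e ▸ hw, e ▸ hj1⟩
    · exact ⟨_, h3, hw, hj1⟩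

end


/-- Let G be a finite non-abelian group and p the least prime dividing its order. Then the automorphism group of G has at most #G/p orbits on G. -/
theorem result {G : Type*} [Group G] [Finite G] (hna : ¬ IsMulCommutative G) :
    Nat.card (MulAction.orbitRel.Quotient (MulAut G) G) ≤ Nat.card G / (Nat.card G).minFac := by
  classical
  by_cases hk : (Nat.card G).minFac * Nat.card (ConjClasses G) ≤ Nat.card G
  · rw [Nat.le_div_iff_mul_le (Nat.minFac_pos _), mul_comm]
    refine le_trans (Nat.mul_le_mul_left _ ?_) hk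
    refine Nat.card_le_card_of_surjective
      (fun C : ConjClasses G => (Quotient.mk _ C.out : MulAction.orbitRel.Quotient (MulAut G) G))
      fun q => ?_
    obtain ⟨x, rfl⟩ := Quotient.exists_rep q
    refine ⟨ConjClasses.mk x, Quotient.sound ?_⟩
    obtain ⟨g, hg⟩ := isConj_iff.1
      (ConjClasses.mk_eq_mk_iff_isConj.1 (Quotient.out_eq (ConjClasses.mk x)).symm)
    exact ⟨MulAut.conj g, hg⟩
  set p := (Nat.card G).minFac with hpdef
  have hmin : ∀ r : ℕ, r.Prime → r ∣ Nat.card G → p ≤ r := fun r hr h =>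
    Nat.minFac_le_of_dvd hr.two_le h
  have hD' := Hall.card_commutator_le hmin (not_le.1 hk)
  have hZ := Hall.commutator_le_center_of_card_le hmin hD'
  have hD1 : commutator G ≠ ⊥ := fun h => hna ⟨⟨fun a b =>
    commutatorElement_eq_one_iff_mul_comm.1 (mem_bot.1 (h ▸ PGrp.commutator_mem a b))⟩⟩
  have hD : Nat.card (commutator G) = p := le_antisymm hD' (by
    simpa using minFac_mul_card_le_of_lt (bot_lt_iff_ne_bot.2 hD1))
  haveI hp : Fact p.Prime := ⟨Nat.minFac_prime fun h => hD1 (by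
    haveI := (Nat.card_eq_one_iff_unique.1 h).1
    exact Subsingleton.elim _ _)⟩
  obtain ⟨a, ha, u, hu1, hu2, hu3, hu4⟩ := step3 hD hZ hna
  have hidx : ∀ x ∉ center G, p ≤ (centralizer ({x} : Set G)).index := fun x hx => by
    have h1 : centralizer ({x} : Set G) < ⊤ := lt_top_iff_ne_top.2 fun e => hx
      (mem_center_iff.2 fun g => mem_centralizer_singleton_iff.1 (e ▸ mem_top g))
    have h2 := minFac_mul_card_le_of_lt h1
    rw [card_top, ← (centralizer ({x} : Set G)).index_mul_card] at h2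
    conv_lhs at h2 => rw [(centralizer ({x} : Set G)).index_mul_card]
    exact Nat.le_of_mul_le_mul_right h2 Nat.card_pos
  set M := centralizer ({a} : Set G) with hM
  have hMi : M.index = p := le_antisymm
    (hD ▸ PGrp.index_centralizer_le_card fun g => PGrp.commutator_mem g a) (hidx a ha)
  have hZM : center G < M := lt_of_le_of_ne (center_le_centralizer _) fun e =>
    ha (e ▸ mem_centralizer_singleton_iff.2 rfl)
  haveI : M.Normal := Normal.of_commutator_le G (hZ.trans hZM.le)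
  let W : Subgroup G :=
    { carrier := {w | w ∈ M ∧ ∀ x ∉ M, x * w ∈ MulAction.orbit (MulAut G) x}
      one_mem' := ⟨M.one_mem, fun x _ => by rw [mul_one]; exact MulAction.mem_orbit_self x⟩
      mul_mem' := fun {v w} hv hw => ⟨M.mul_mem hv.1 hw.1, fun x hx => by
        rw [← mul_assoc, ← MulAction.orbit_eq_iff.2 (hv.2 x hx)]
        exact hw.2 _ fun h => hx ((M.mul_mem_cancel_right hv.1).1 h)⟩
      inv_mem' := fun {v} hv => ⟨M.inv_mem hv.1, fun x hx => by
        have := hv.2 (x * v⁻¹) fun h => hx ((M.mul_mem_cancel_right (M.inv_mem hv.1)).1 h)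
        rw [inv_mul_cancel_right] at this
        exact MulAction.mem_orbit_symm.1 this⟩ }
  have hW : ∀ u ∈ M, u ∈ centralizer (M : Set G) → (∀ x ∉ M, (x * u) ^ p = x ^ p) → u ∈ W :=
    fun u h1 h2 h3 => ⟨h1, fun x hx => by
      obtain ⟨α, hα, -⟩ := exists_mulAut_fix hp.out hMi hx h1 h2 (h3 x hx)
      exact ⟨α, hα⟩⟩
  have hDW : commutator G < W := by
    refine lt_of_le_of_ne (fun c hc => hW c (hZM.le (hZ hc)) (center_le_centralizer _ (hZ hc))
      fun x _ => ?_) fun e => hu3 (e ▸ hW u hu1 hu2 hu4)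
    have : c ^ p = 1 := by
      rw [← hD]; exact congrArg Subtype.val (pow_card_eq_one' (x := (⟨_, hc⟩ : commutator G)))
    rw [(PGrp.commute_of_mem_center (hZ hc) x).symm.mul_pow, this, mul_one]
  have hWc := minFac_mul_card_le_of_lt hDW
  rw [hD, ← hpdef] at hWc
  haveI := Fintype.ofFinite G
  have hp0 : (0 : ℚ) < p := by exact_mod_cast hp.out.pos
  have hp2 : (2 : ℚ) ≤ p := by exact_mod_cast hp.out.two_le
  have hsum := card_orbits_le_sum (A := MulAut G) (X := G)
    (fun x => 1 / (p : ℚ) ^ 2 + ((if x ∈ M then (1 / (p : ℚ) - 1 / (p : ℚ) ^ 2) else 0) +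
      (if x ∈ center G then (1 - 1 / (p : ℚ)) else 0))) (fun x => by
    by_cases h1 : x ∈ center G
    · have h2 : 1 ≤ Nat.card (MulAction.orbit (MulAut G) x) :=
        Nat.card_pos_iff.2 ⟨⟨⟨x, MulAction.mem_orbit_self x⟩⟩, inferInstance⟩
      have h3 : (1 : ℚ) ≤ Nat.card (MulAction.orbit (MulAut G) x) := by exact_mod_cast h2
      simp only [h1, hZM.le h1, if_true]
      linarith
    by_cases h2 : x ∈ M
    · have h3 : p ≤ Nat.card (MulAction.orbit (MulAut G) x) := (hidx x h1).trans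
        (index_le_card_of_fun _ (fun g => ⟨g * x * g⁻¹, MulAut.conj g, rfl⟩) fun g h e => by
          have e' : g * x * g⁻¹ = h * x * h⁻¹ := congrArg Subtype.val e
          rw [mem_centralizer_singleton_iff]
          calc g⁻¹ * h * x = g⁻¹ * (h * x * h⁻¹) * h := by group
            _ = _ := by rw [← e']; group)
      have h4 : (p : ℚ) ≤ Nat.card (MulAction.orbit (MulAut G) x) := by exact_mod_cast h3
      simp only [h1, h2, if_true, if_false, add_zero, add_sub_cancel]
      rw [one_div_mul_eq_div, le_div_iff₀ hp0]; linarith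
    · have h3 : p * p ≤ Nat.card (MulAction.orbit (MulAut G) x) := hWc.trans
        (Nat.card_le_card_of_injective (fun w : W => (⟨x * w, w.2.2 x h2⟩ :
          MulAction.orbit (MulAut G) x)) fun v w e =>
            Subtype.ext (mul_left_cancel (congrArg Subtype.val e)))
      have h4 : (p : ℚ) * p ≤ Nat.card (MulAction.orbit (MulAut G) x) := by exact_mod_cast h3
      simp only [h1, h2, if_false, add_zero]
      rw [one_div_mul_eq_div, le_div_iff₀ (by positivity)]; linarith)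
  have hc : ∀ (K : Subgroup G) [DecidablePred (· ∈ K)] (r : ℚ), ∑ x : G, (if x ∈ K then r else 0) = Nat.card K * r := by
    intro K _ r
    rw [← Finset.sum_filter, Finset.sum_const, nsmul_eq_mul, Nat.card_eq_fintype_card,
      Fintype.card_subtype]
  rw [Finset.sum_add_distrib, Finset.sum_add_distrib, hc, hc, Finset.sum_const, nsmul_eq_mul,
    Finset.card_univ, ← Nat.card_eq_fintype_card] at hsum
  have e1 : (Nat.card G : ℚ) = p * Nat.card M := by
    rw [← M.index_mul_card, hMi]; push_cast; rfl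
  have e2 : (p : ℚ) * Nat.card (center G) ≤ Nat.card M := by
    exact_mod_cast minFac_mul_card_le_of_lt hZM
  rw [Nat.le_div_iff_mul_le hp.out.pos]
  have e3 : (Nat.card (MulAction.orbitRel.Quotient (MulAut G) G) : ℚ) * p ≤ Nat.card G := by
    refine (mul_le_mul_of_nonneg_right hsum hp0.le).trans ?_
    rw [e1]
    have hm : (0 : ℚ) ≤ Nat.card M := by positivity
    generalize (Nat.card M : ℚ) = m at *
    generalize (Nat.card (center G) : ℚ) = z at *
    have : (p * m * (1 / p ^ 2) + (m * (1 / p - 1 / p ^ 2) + z * (1 - 1 / p))) * p =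
        (2 * m * p - m + p * z * (p - 1)) / p := by field_simp; ring
    rw [this, div_le_iff₀ hp0]
    nlinarith [mul_le_mul_of_nonneg_right e2 (show (0 : ℚ) ≤ p - 1 by linarith),
      mul_nonneg hm (mul_nonneg (show (0 : ℚ) ≤ p - 1 by linarith) (show (0 : ℚ) ≤ p - 2 by linarith))]
  exact_mod_cast e3

end Cfsg.Agent.S4067
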