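import Cfsg.Statements.S4068
import Cfsg.Agent.Lib.Coprime.Spec5
import Cfsg.Agent.Lib.Hall.SolvCrit

set_option autoImplicit false
open Cfsg

namespace Cfsg.Agent.S4068

open Subgroup Cfsg.Lib Cfsg.Lib.Coprime Cfsg.Lib.Exc

/-- A finite non-solvable group on which its automorphism group has exactly four orbits is isomorphic to the alternating group of degree 5. -/
theorem result {G : Type*} [Group G] [Finite G] (hns : ¬ Group.IsSolvable G)
    (h4 : Nat.card (MulAction.orbitRel.Quotient (MulAut G) G) = 4) : Nonempty (G ≃* alternatingGroup (Fin 5)) := by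
  classical
  obtain ⟨p, q, r, hp, hq, hr, h1, h2, h3, h5, h6, h7⟩ := (Hall.two_primes_or_three (Nat.card G)).resolve_left
    fun ⟨p, q, hp, hq, h⟩ => hns (Hall.isSolvable_of_two_primes hp hq h)
  have hex : ∀ s, s.Prime → s ∣ Nat.card G → ∃ x : G, orderOf x = s := fun s hs h =>
    have := Fact.mk hs; exists_prime_orderOf_dvd_card' s h
  have key : ∀ x : G, orderOf x ∈ ({1, p, q, r} : Finset ℕ) := fun x => by
    by_contra hx
    let φ : MulAction.orbitRel.Quotient (MulAut G) G → ℕ := Quotient.lift orderOf (by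
      rintro _ b ⟨a, rfl⟩; exact a.orderOf_eq b)
    have := Fintype.ofFinite (MulAction.orbitRel.Quotient (MulAut G) G)
    have h8 : insert (orderOf x) {1, p, q, r} ⊆ Finset.univ.image φ := by
      obtain ⟨a, ha⟩ := hex p hp h1
      obtain ⟨b, hb⟩ := hex q hq h2
      obtain ⟨c, hc⟩ := hex r hr h3
      intro k hk
      simp only [Finset.mem_insert, Finset.mem_singleton] at hk
      rw [Finset.mem_image]
      rcases hk with rfl | rfl | rfl | rfl | rfl
      exacts [⟨⟦x⟧, Finset.mem_univ _, rfl⟩, ⟨⟦1⟧, Finset.mem_univ _, orderOf_one⟩, ⟨⟦a⟧, Finset.mem_univ _, ha⟩,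
        ⟨⟦b⟧, Finset.mem_univ _, hb⟩, ⟨⟦c⟧, Finset.mem_univ _, hc⟩]
    have h9 := (Finset.card_le_card h8).trans Finset.card_image_le
    rw [Finset.card_insert_of_notMem hx, Finset.card_univ, ← Nat.card_eq_fintype_card, h4,
      Finset.card_insert_of_notMem (by simp [hp.ne_one.symm, hq.ne_one.symm, hr.ne_one.symm]),
      Finset.card_insert_of_notMem (by simp [h5, h6]), Finset.card_pair h7] at h9
    omega
  have k1 : ∀ x : G, x ≠ 1 → (orderOf x).Prime := fun x hx => by
    have := key x
    simp only [Finset.mem_insert, Finset.mem_singleton, orderOf_eq_one_iff, hx, false_or] at this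
    rcases this with h | h | h <;> rwa [h]
  have h : EP G := fun g hg => (k1 g hg).isPrimePow
  have k2 : ∀ x : G ⧸ pCore 2 G, orderOf x ≠ 4 ∧ orderOf x ≠ 9 := fun x => by
    obtain ⟨g, hg, rfl⟩ := exists_orderOf_dvd _ (QuotientGroup.mk'_surjective _) x
    by_cases h1 : g = 1
    · simp [h1]
    · rcases (Nat.dvd_prime (k1 g h1)).1 hg with h2 | h2
      · omega
      · exact ⟨fun e => absurd (e ▸ h2 ▸ k1 g h1) (by norm_num), fun e => absurd (e ▸ h2 ▸ k1 g h1) (by norm_num)⟩
  have k3 : ∀ n, n ∣ Nat.card (G ⧸ pCore 2 G) → n.primeFactors.card ≤ 3 := fun n hn => by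
    refine (Finset.card_le_card (t := {p, q, r}) fun s hs => ?_).trans Finset.card_le_three
    obtain ⟨x, rfl⟩ := hex s (Nat.prime_of_mem_primeFactors hs)
      ((Nat.dvd_of_mem_primeFactors hs).trans (hn.trans (card_quotient_dvd_card _)))
    exact (Finset.mem_insert.1 (key x)).resolve_left (Nat.prime_of_mem_primeFactors hs).ne_one
  rcases h.list_quot hns with (⟨K, _, _, h1, ⟨e⟩⟩ | ⟨K, _, _, h1, ⟨e⟩⟩ | ⟨K, _, _, m, hK, h1, ⟨e⟩⟩) | h1
  · have h8 := fun x => e.symm.orderOf_eq x ▸ k2 (e.symm x)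
    simp only [Finset.mem_insert, Finset.mem_singleton] at h1
    rcases h1 with h1 | h1 | h1 | h1 | h1
    · obtain ⟨f⟩ := Linear.psl2_four_equiv (Nat.card_eq_fintype_card.trans h1)
      refine equiv_of_eq_bot (pCore_eq_bot_of_no_four h.cit (fun x hx => ?_) ?_) (e.trans f)
      · exact absurd (hx ▸ k1 x (by rintro rfl; simp at hx)) (by norm_num)
      · rw [index_eq_card, Nat.card_congr (e.trans f).toEquiv, Linear.card_A5]; norm_num
    · obtain ⟨x, hx⟩ := psl2_order (m := 4) h1 (by norm_num)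
      exact absurd hx (h8 x).1
    · obtain ⟨x, hx⟩ := psl2_order (m := 9) h1 (by norm_num)
      exact absurd hx (h8 x).2
    · obtain ⟨x, hx⟩ := psl2_order (m := 4) h1 (by norm_num)
      exact absurd hx (h8 x).1
    · obtain ⟨x, hx⟩ := psl2_order (m := 9) h1 (by norm_num)
      exact absurd hx (h8 x).2
  · refine absurd (k3 210 ?_) (by decide +kernel)
    rw [Nat.card_congr e.toEquiv, card_psl3_four (Nat.card_eq_fintype_card.trans h1)]
    norm_num
  · have h3 := hK.one_le
    interval_cases m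
    · refine absurd (k3 910 ?_) (by decide +kernel)
      rw [Nat.card_congr e.toEquiv, BN.Sz.card_Sz]
      norm_num
    · refine absurd (k3 12710 ?_) (by decide +kernel)
      rw [Nat.card_congr e.toEquiv, BN.Sz.card_Sz]
      norm_num
  · obtain ⟨N, -, -, F, _, _, hF, ⟨e⟩⟩ := h1
    obtain ⟨x, hx⟩ := psl2_order (m := 4) hF (by norm_num)
    exact absurd ((orderOf_coe _).trans ((e.symm.orderOf_eq x).trans hx)) (k2 _).1

end Cfsg.Agent.S4068
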