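import Cfsg.Statements.S4070
import Cfsg.Agent.Lib.Hall.MWd

set_option autoImplicit false
open Cfsg

namespace Cfsg.Agent.S4070

open scoped Pointwise commutatorElement
open Cfsg.Lib Cfsg.Lib.Hall

open Cfsg.Lib.Block.B2 Cfsg.Lib.Hall.B3 Cfsg.Lib.Hall.MW

/-- Let G be a finite solvable group acting faithfully by additive automorphisms on a finite vector space V over the field with p elements, completely reducibly (every G-invariant subspace has a G-invariant complement). Then some vector v ∈ V has stabilizer C_G(v) of derived length at most 9; and if both #G and p are odd, some vector has abelian stabilizer. -/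
theorem result {G V : Type*} [Group G] [Finite G] [Group.IsSolvable G]
    {p : ℕ} [Fact p.Prime] [AddCommGroup V] [Module (ZMod p) V] [Finite V] [DistribMulAction G V] [FaithfulSMul G V]
    (hcr : ∀ W : Submodule (ZMod p) V, (∀ (g : G) (w : V), w ∈ W → g • w ∈ W) →
      ∃ W' : Submodule (ZMod p) V, (∀ (g : G) (w : V), w ∈ W' → g • w ∈ W') ∧ IsCompl W W') :
    (∃ v : V, derivedSeries ↥(MulAction.stabilizer G v) 9 = ⊥) ∧
    (Odd (Nat.card G) → p ≠ 2 → ∃ v : V, IsMulCommutative ↥(MulAction.stabilizer G v)) := by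
  set φ := DistribMulAction.toModuleAut ℤ V (S := G)
  haveI : Finite φ.range := Finite.of_surjective _ φ.rangeRestrict_surjective
  haveI : Group.IsSolvable φ.range := Group.isSolvable_of_surjective φ.rangeRestrict_surjective
  have cr : CR φ.range V := fun U hU => by
    obtain ⟨W, h1, h2⟩ := hcr (AddSubgroup.toZModSubmodule p U) fun a => hU (φ.rangeRestrict a)
    refine ⟨W.toAddSubgroup, fun a => ?_, eq_bot_iff.2 fun x hx => h2.inf_eq_bot.le hx, eq_top_iff.2 fun x _ => ?_⟩
    · obtain ⟨a, rfl⟩ := φ.rangeRestrict_surjective a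
      exact h1 a
    · obtain ⟨a, ha, b, hb, e⟩ := Submodule.mem_sup.1 (h2.sup_eq_top.ge (Submodule.mem_top (x := x)))
      exact AddSubgroup.mem_sup.2 ⟨a, ha, b, hb, e⟩
  have k : ∀ (d : ℕ) (v : V), ds (MulAction.stabilizer φ.range v) d ≤ kr φ.range V →
      derivedSeries (MulAction.stabilizer G v) d = ⊥ := fun d v h => eq_bot_iff.2 fun g hg => Subtype.ext
    (eq_of_smul_eq_smul (α := V) fun x => (ds_hom (φ.rangeRestrict.comp (MulAction.stabilizer G v).subtype) (L := ⊤)
      (fun g _ => g.2) h g (ds_top (G := MulAction.stabilizer G v) d ▸ hg) x).trans (one_smul _ _).symm)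
  refine ⟨(nine cr).imp (k 9), fun oG p2 => (one (oG.of_dvd_nat (Subgroup.card_dvd_of_surjective _ φ.rangeRestrict_surjective)) ?_ cr).imp
    fun v h => ⟨⟨fun a b => commutatorElement_eq_one_iff_mul_comm.1 (Subgroup.mem_bot.1 (k 1 v h ▸
      Subgroup.commutator_mem_commutator (Subgroup.mem_top a) (Subgroup.mem_top b)))⟩⟩⟩
  rw [Module.natCard_eq_pow_finrank (K := ZMod p), Nat.card_zmod]
  exact ((Fact.out : p.Prime).odd_of_ne_two p2).pow

end Cfsg.Agent.S4070
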