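import Cfsg.Statements.S4071
import Cfsg.Agent.Lib.PGrp.Cyclic
import Cfsg.Agent.Lib.Transfer.Apps
import Cfsg.Agent.Lib.Core.Frattini
import Cfsg.Agent.Lib.Coprime.Basic
import Cfsg.Agent.Lib.Hall.SZConj
import Cfsg.Agent.Lib.Hall.ClassSize

set_option autoImplicit false
open Cfsg

namespace Cfsg.Agent.S4071

open Subgroup Cfsg.Lib Cfsg.Lib.Transfer
open scoped commutatorElement


/-- Let G be a finite solvable non-nilpotent group. Every non-abelian subgroup of G is self-normalizing if and only if G is a semidirect product ⟨x⟩ ⋉ A in which ⟨x⟩ is a p-group for some prime p, A is a normal abelian subgroup of order prime to p, x^p is central in G, and x acts fixed-point-freely on A (no non-identity element of A commutes with x). -/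
theorem result {G : Type*} [Group G] [Finite G]
    [Group.IsSolvable G] (hnn : ¬ Group.IsNilpotent G) :
    (∀ H : Subgroup G, ¬ IsMulCommutative H → Subgroup.normalizer (H : Set G) = H) ↔
    ∃ (x : G) (A : Subgroup G) (p : ℕ), p.Prime ∧ A.Normal ∧ IsMulCommutative A ∧ (∃ k : ℕ, orderOf x = p ^ k) ∧
      ¬ p ∣ Nat.card A ∧ (Subgroup.zpowers x).IsComplement' A ∧ x ^ p ∈ Subgroup.center G ∧
      ∀ a : G, a ∈ A → a ≠ 1 → x * a * x⁻¹ ≠ a := by
  constructor
  · intro hS
    have hab : ∀ N : Subgroup G, N.Normal → N ≠ ⊤ → IsMulCommutative N := fun N hN h =>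
      by_contra fun hc => h (by rw [← hS N hc]; exact normalizer_eq_top N)
    haveI : Nontrivial G := by
      by_contra h
      rw [not_nontrivial_iff_subsingleton] at h
      exact hnn inferInstance
    obtain ⟨B, hB, hGB⟩ := (eq_top_or_exists_le_coatom (commutator G)).resolve_left
      (Group.IsSolvable.commutator_lt_top_of_nontrivial G).ne
    haveI hBn : B.Normal := Normal.of_commutator_le G hGB
    have hp := Core.prime_index_of_isCoatom_of_normal hB
    obtain ⟨p, hpB⟩ : ∃ p, B.index = p := ⟨_, rfl⟩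
    rw [hpB] at hp
    haveI := Fact.mk hp
    have hBab := hab B hBn hB.1
    set A := resOf p (⊤ : Subgroup G) with hA
    haveI hAn : A.Normal := resOf_normal ⊤
    have hAB : A ≤ B := resOf_le_of_relIndex_eq_pow (n := 1) (by rw [normalizer_eq_top])
      (by rw [relIndex_top_right, hpB, pow_one])
    have hAab := PGrp.isMulCommutative_of_le hBab hAB
    have hAp : ¬ p ∣ Nat.card A := by
      have : PNil p A := pnil_of_isNilpotent (by
        letI : CommGroup A := { (inferInstance : Group A) with mul_comm := hAab.1.1 }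
        infer_instance)
      rwa [PNil, hA, resOf_resOf] at this
    obtain ⟨P, hP⟩ := exists_sylowIn p (⊤ : Subgroup G)
    have hAP : A ⊔ P = ⊤ := hP.resOf_sup
    obtain ⟨x, hxP, hxB⟩ : ∃ x ∈ P, x ∉ B := by
      by_contra h
      push Not at h
      exact hB.1 (top_le_iff.1 (hAP ▸ sup_le hAB h))
    have hBx : B ⊔ zpowers x = ⊤ := hB.2 _ (lt_of_le_of_ne le_sup_left fun e =>
      hxB (e ▸ mem_sup_right (mem_zpowers x)))
    have hX : IsPGroup p (zpowers x) := hP.2.to_le (zpowers_le.2 hxP)
    have hcop : (Nat.card (zpowers x)).Coprime (Nat.card A) := by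
      obtain ⟨k, hk⟩ := hX.exists_card_eq
      rw [hk]
      exact (hp.coprime_iff_not_dvd.2 hAp).pow_left k
    have hdis : A ⊓ zpowers x = ⊥ := inf_eq_bot_of_coprime hcop.symm
    have hnc : ¬ zpowers x ≤ centralizer (A : Set G) := by
      intro h
      have h1 : centralizer (A : Set G) = ⊤ := by
        rw [eq_top_iff, ← hBx]
        exact sup_le (fun b hb => mem_centralizer_iff.2 fun a ha =>
          PGrp.comm_of_mem hBab (hAB ha) hb) h
      obtain ⟨n, hn⟩ := relIndex_resOf (p := p) (⊤ : Subgroup G)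
      rw [relIndex_top_right] at hn
      haveI : Group.IsNilpotent (G ⧸ A) := (IsPGroup.of_card (p := p) hn).isNilpotent
      refine hnn (Subgroup.isNilpotent_of_ker_le_center (QuotientGroup.mk' A) ?_)
      rw [QuotientGroup.ker_mk']
      exact fun a ha => mem_center_iff.2 fun g =>
        (mem_centralizer_iff.1 (h1 ▸ mem_top g : g ∈ centralizer (A : Set G)) a ha).symm
    have htop : A ⊔ zpowers x = ⊤ := by
      have h1 : ¬ IsMulCommutative ↥(A ⊔ zpowers x) := fun h => hnc fun y hy =>
        mem_centralizer_iff.2 fun a ha => PGrp.comm_of_mem h (mem_sup_left ha) (mem_sup_right hy)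
      by_contra hne
      have h2 : (A ⊔ zpowers x) ⊓ P < P := lt_of_le_of_ne inf_le_right fun e =>
        hne (top_le_iff.1 (hAP ▸ sup_le le_sup_left (e ▸ inf_le_left)))
      have h3 := lt_inf_normalizer hP.2 h2
      refine h3.not_ge (le_inf ?_ inf_le_left)
      refine le_trans ?_ (hS _ h1).le
      intro g hg
      refine mem_normalizer_of_cj_le ?_
      rw [cj_sup, cj_eq_of_normal]
      refine sup_le le_sup_left (cj_zpowers_le.2 ?_)
      exact (conj_mem_of_mem_normalizer hg.2 ⟨mem_sup_right (mem_zpowers x), hxP⟩).1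
    refine ⟨x, A, p, hp, hAn, hAab, (Hall.isPGroup_zpowers_iff hp).1 hX, hAp,
      (Hall.isComplement'_of_normal hdis htop).symm, ?_, ?_⟩
    · have h1 : x ^ p ∈ B := hpB ▸ pow_index_mem B x
      have h2 : centralizer ({x ^ p} : Set G) = ⊤ := by
        rw [eq_top_iff, ← hBx]
        exact sup_le (fun b hb => mem_centralizer_singleton_iff.2 (PGrp.comm_of_mem hBab hb h1))
          (zpowers_le.2 (mem_centralizer_singleton_iff.2 (Commute.self_pow x p)))
      exact Hall.cent_eq_top_iff.1 h2
    · intro a ha ha1 hxa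
      have hz : a ∈ center G := by
        rw [← Hall.cent_eq_top_iff, eq_top_iff, ← htop]
        exact sup_le (fun b hb => mem_centralizer_singleton_iff.2 (PGrp.comm_of_mem hAab hb ha))
          (zpowers_le.2 (mem_centralizer_singleton_iff.2 (by rw [← mul_inv_eq_iff_eq_mul, hxa])))
      have h1 : ¬ IsMulCommutative ↥(⁅A, ⊤⁆ ⊔ zpowers x) := fun h => hnc
        (Coprime.le_centralizer_of_commutator_commutator_eq_bot (by rw [normalizer_eq_top]; exact le_top)
          hcop (by
            rw [commutator_eq_bot_iff_le_centralizer]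
            exact fun d hd => mem_centralizer_iff.2 fun y hy => PGrp.comm_of_mem h (mem_sup_right hy)
              (mem_sup_left (commutator_mono le_rfl le_top hd))))
      have h2 : a ∈ ⁅A, ⊤⁆ ⊔ zpowers x := by
        rw [← hS _ h1]
        exact center_le_normalizer _ hz
      obtain ⟨d, hd, k, hk⟩ := (PGrp.mem_sup_zpowers_of_mem_normalizer
        (by rw [normalizer_eq_top]; exact mem_top x)).1 h2
      have h3 : x ^ k = 1 := by
        rw [← mem_bot, ← hdis]
        refine ⟨?_, zpow_mem (mem_zpowers x) k⟩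
        have : x ^ k = d⁻¹ * a := by rw [hk]; group
        rw [this]
        exact A.mul_mem (A.inv_mem (commutator_le_left A ⊤ hd)) ha
      rw [h3, mul_one] at hk
      have h4 := (fitting_decomp (L := ⊤) hAab le_top (by rw [normalizer_eq_top]) (by
        rw [relIndex_top_right, (Hall.isComplement'_of_normal hdis htop).symm.index_eq_card]
        exact hcop.symm)).1
      exact ha1 (by
        rw [← mem_bot, ← h4]
        exact ⟨⟨ha, center_le_centralizer _ hz⟩, hk ▸ hd⟩)
  · rintro ⟨x, A, p, hp, hAn, hAab, ⟨k, hk⟩, hAp, hc, hz, hf⟩ H hH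
    haveI := Fact.mk hp
    have hX : IsPGroup p (zpowers x) := (Hall.isPGroup_zpowers_iff hp).2 ⟨k, hk⟩
    have hXS : SylowIn p (zpowers x) ⊤ :=
      ⟨le_top, hX, by rwa [relIndex_top_right, hc.symm.index_eq_card]⟩
    haveI : (A ⊔ zpowers (x ^ p)).Normal := PGrp.normal_sup_zpowers fun g => by
      rw [commutatorElement_eq_one_iff_mul_comm.2 (mem_center_iff.1 hz g).symm]; exact A.one_mem
    have hB : IsMulCommutative ↥(A ⊔ zpowers (x ^ p)) :=
      PGrp.isMulCommutative_sup_zpowers hAab (center_le_centralizer _ hz)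
    obtain ⟨T, hT⟩ := exists_sylowIn p H
    obtain ⟨g, -, hg⟩ := hXS.exists_cj_le hT.2 le_top
    have h1 : ¬ cj g T ≤ A ⊔ zpowers (x ^ p) := by
      intro h
      rw [cj_le_iff_le_cj_inv, cj_eq_of_normal] at h
      refine hH (PGrp.isMulCommutative_of_le hB ?_)
      rw [← hT.resOf_sup]
      refine sup_le (((resOf_mono le_top).trans ?_).trans le_sup_left) h
      exact resOf_le_of_relIndex_eq_pow (n := k) (by rw [normalizer_eq_top])
        (by rw [relIndex_top_right, hc.index_eq_card, Nat.card_zpowers, hk])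
    have h2 : x ∈ cj g T := by
      obtain ⟨y, hy, hy'⟩ := SetLike.not_le_iff_exists.1 h1
      obtain ⟨j, rfl⟩ := (mem_powers_iff_mem_zpowers.2 (hg hy))
      have hj : ¬ p ∣ j := by
        rintro ⟨i, rfl⟩
        exact hy' (mem_sup_right (by simp only [pow_mul]; exact pow_mem (mem_zpowers _) i))
      exact Hall.mem_of_pow_mem_of_coprime (by
        rw [hk]; exact (hp.coprime_iff_not_dvd.2 hj).symm.pow_right k) hy
    have h3 : zpowers x ≤ cj g H := (zpowers_le.2 h2).trans (cj_mono g hT.1)
    have h4 : normalizer ((zpowers x : Subgroup G) : Set G) ≤ zpowers x := by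
      intro m hm
      obtain ⟨⟨⟨y, hy⟩, ⟨a, ha⟩⟩, rfl⟩ := hc.2 m
      have ha' : a ∈ normalizer ((zpowers x : Subgroup G) : Set G) := by
        have := mul_mem (inv_mem (le_normalizer hy)) hm
        simpa using this
      have h5 : a * x * a⁻¹ * x⁻¹ = 1 := by
        rw [← mem_bot, ← hc.disjoint.eq_bot]
        refine ⟨(zpowers x).mul_mem (conj_mem_of_mem_normalizer ha' (mem_zpowers x)) ((zpowers x).inv_mem (mem_zpowers x)), ?_⟩
        have : a * x * a⁻¹ * x⁻¹ = a * (x * a⁻¹ * x⁻¹) := by group
        rw [this]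
        exact A.mul_mem ha (hAn.conj_mem _ (A.inv_mem ha) x)
      have h6 : a = 1 := by
        by_contra h
        refine hf a ha h ?_
        have : x * a * x⁻¹ = (a * x * a⁻¹ * x⁻¹)⁻¹ * a := by group
        rw [this, h5]; group
      simpa [h6] using hy
    rw [← cj_inj (g := g), cj_normalizer]
    refine le_antisymm (fun n hn => ?_) le_normalizer
    obtain ⟨h, hh, m, hm, rfl⟩ := (hXS.mono h3 le_top).frattini le_rfl hn
    exact mul_mem hh (h3 (h4 hm))

end Cfsg.Agent.S4071
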