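import Cfsg.Statements.S4072
import Cfsg.Agent.Lib.PGrp.MaxClass
import Cfsg.Agent.Lib.Transfer.Apps
import Cfsg.Agent.Lib.Core.Nilpotent

set_option autoImplicit false
open Cfsg

namespace Cfsg.Agent.S4072

open Subgroup Cfsg.Lib Cfsg.Lib.Transfer

theorem card_commutator_le {P : Type*} [Group P] [Finite P] {p : ℕ} [hp : Fact p.Prime]
    (hP : IsPGroup p P) (h : ∀ H : Subgroup P, H ≠ ⊤ → IsMulCommutative H) :
    Nat.card (commutator P) ≤ p := by
  by_cases hab : ∀ x y : P, x * y = y * x
  · have : commutator P = ⊥ := by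
      rw [eq_bot_iff, _root_.commutator_def, commutator_le]
      intro x _ y _
      rw [mem_bot, commutatorElement_eq_one_iff_mul_comm]
      exact hab x y
    rw [this, card_bot]
    exact hp.out.one_lt.le
  push Not at hab
  obtain ⟨x, y, hxy⟩ := hab
  have key : ∀ u v : P, u * v ≠ v * u → (centralizer ({u} : Set P)).index = p := by
    intro u v huv
    have h1 : zpowers u ≠ ⊤ := fun e => huv (PGrp.comm_of_mem (A := zpowers u) inferInstance
      (mem_zpowers u) (e ▸ mem_top v))
    obtain ⟨M, hM, hi, -⟩ := PGrp.exists_index_eq_of_ne_top hP h1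
    have hc := (PGrp.isCoatom_iff_index_eq hP).2 hi
    have h2 : M ≤ centralizer ({u} : Set P) := fun m hm => mem_centralizer_singleton_iff.2
      (PGrp.comm_of_mem (h M hc.1) hm (hM (mem_zpowers u)))
    have h3 : centralizer ({u} : Set P) ≠ ⊤ := fun e =>
      huv (mem_centralizer_singleton_iff.1 (e ▸ mem_top v : v ∈ centralizer ({u} : Set P))).symm
    rw [← hi, (hc.le_iff.1 h2).resolve_left h3]
  have hx := key x y hxy
  have hy := key y x (Ne.symm hxy)
  set A := centralizer ({x} : Set P)
  haveI := PGrp.normal_of_index_eq hP hx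
  have hc := (PGrp.isCoatom_iff_index_eq hP).2 hx
  have hyA : y ∉ A := fun e => hxy (mem_centralizer_singleton_iff.1 e).symm
  have h4 : A ⊔ zpowers y = ⊤ := hc.2 _ (lt_of_le_of_ne le_sup_left fun e =>
    hyA (e ▸ mem_sup_right (mem_zpowers y)))
  have h5 := PGrp.card_commutator_mul (h A hc.1) h4
  have h6 := PGrp.card_inf_mul_relIndex (centralizer ({y} : Set P)) A
  have h7 : (centralizer ({y} : Set P)).relIndex A ≤ p := by
    rw [← hy, ← relIndex_top_right]
    exact relIndex_le_of_le_right le_top (by rw [relIndex_top_right, hy]; exact hp.out.ne_zero)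
  rw [inf_comm, ← h5, mul_comm] at h6
  rwa [← Nat.eq_of_mul_eq_mul_right Nat.card_pos h6]

theorem false_of_simple {X : Type*} [Group X] [Finite X] [IsSimpleGroup X] {p : ℕ} [Fact p.Prime]
    (hX : ∃ x y : X, x * y ≠ y * x) {T : Subgroup X} (hT : SylowIn p T ⊤) (h1 : T ≠ ⊥)
    (hc : IsMulCommutative T) (hn : normalizer (T : Set X) = T) : False := by
  refine not_pnil_of_simple (p := p) hX ?_ (hT.pnil_of_normalizer_le_centralizer ?_)
  · by_contra h
    exact h1 (hT.eq_bot_iff.2 (by rwa [card_top]))
  · rw [hn]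
    exact inf_le_right.trans (le_centralizer_self hc)


/-- A finite group in which every non-abelian subgroup is self-normalizing is solvable or simple. -/
theorem result {G : Type*} [Group G] [Finite G] (hS : ∀ H : Subgroup G, ¬ IsMulCommutative H → Subgroup.normalizer (H : Set G) = H) :
    Group.IsSolvable G ∨ IsSimpleGroup G := by
  by_contra hcon
  push Not at hcon
  obtain ⟨hns, hnsimp⟩ := hcon
  have hab : ∀ N : Subgroup G, N.Normal → N ≠ ⊤ → IsMulCommutative N := fun N hN h =>
    by_contra fun hc => h (by rw [← hS N hc]; exact normalizer_eq_top N)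
  have hnt : Nontrivial G := by
    by_contra h
    rw [not_nontrivial_iff_subsingleton] at h
    exact hns inferInstance
  obtain ⟨N0, hN0, h0, h1⟩ : ∃ N : Subgroup G, N.Normal ∧ N ≠ ⊥ ∧ N ≠ ⊤ := by
    by_contra h
    push Not at h
    exact hnsimp ⟨fun N hN => or_iff_not_imp_left.2 (h N hN)⟩
  obtain ⟨N, ⟨hN, hNt⟩, hle, hmax⟩ := PGrp.exists_maximal_subgroup_ge
    (fun N : Subgroup G => N.Normal ∧ N ≠ ⊤) (A := N0) ⟨hN0, h1⟩
  have hNb : N ≠ ⊥ := fun e => h0 (le_bot_iff.1 (e ▸ hle))
  have hNab := hab N hN hNt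
  have hper : commutator G = ⊤ := by
    by_contra h
    have := hab _ inferInstance h
    haveI : Group.IsSolvable (commutator G) := Group.isSolvable_of_comm fun a b => this.1.1 a b
    haveI : Group.IsSolvable (G ⧸ commutator G) := Group.isSolvable_of_comm fun a b =>
      (Subgroup.Normal.quotient_commutative_iff_commutator_le.2 le_rfl).1.1 a b
    exact hns (Group.isSolvable_of_ker_le_range (commutator G).subtype (QuotientGroup.mk' (commutator G)) (by simp))
  set f := QuotientGroup.mk' N with hf
  have hfs : Function.Surjective f := QuotientGroup.mk'_surjective N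
  have hker : f.ker = N := QuotientGroup.ker_mk' N
  haveI : IsSimpleGroup (G ⧸ N) := by
    haveI : Nontrivial (G ⧸ N) := QuotientGroup.nontrivial_iff.2 hNt
    refine ⟨fun K hK => or_iff_not_imp_right.2 fun hKt => ?_⟩
    have := hmax (K.comap f) ⟨hK.comap f, fun e => hKt (by
      rw [← map_comap_eq_self_of_surjective hfs K, e, map_top_of_surjective f hfs])⟩
      (hker.ge.trans (ker_le_comap f K))
    rw [← map_comap_eq_self_of_surjective hfs K, this, Subgroup.map_eq_bot_iff, hker]
  have hX : ∃ x y : G ⧸ N, x * y ≠ y * x := by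
    by_contra h
    push Not at h
    have : commutator G ≤ N := Subgroup.Normal.quotient_commutative_iff_commutator_le.1 ⟨⟨h⟩⟩
    exact hNt (top_le_iff.1 (hper ▸ this))
  have hnorm : ∀ Y : Subgroup (G ⧸ N), ¬ IsMulCommutative (Y.comap f) →
      normalizer (Y : Set (G ⧸ N)) = Y := by
    intro Y hY
    apply comap_injective hfs
    rw [comap_normalizer_eq_of_surjective Y hfs, hS _ hY]
  by_cases hC : centralizer (N : Set G) = ⊤
  · have hZ : N ≤ center G := fun n hn => mem_center_iff.2 fun g =>
      (mem_centralizer_iff.1 (hC ▸ mem_top g : g ∈ centralizer (N : Set G)) n hn).symm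
    obtain ⟨p, hp, hd⟩ := Nat.exists_prime_and_dvd (mt card_eq_one.1 hNb)
    haveI := Fact.mk hp
    obtain ⟨z, hz⟩ := exists_prime_orderOf_dvd_card' p hd
    have hzo : orderOf (z : G) = p := by rw [orderOf_coe, hz]
    obtain ⟨P⟩ : Nonempty (Sylow p G) := inferInstance
    have hzP : (z : G) ∈ (P : Subgroup G) :=
      center_inf_le_sylow P (hZ z.2) ⟨1, by rw [pow_one, ← hzo, pow_orderOf_eq_one]⟩
    have hz' : (z : G) ∈ ⁅(P : Subgroup G), (P : Subgroup G)⁆ :=
      inf_commutator_inf_center_le (P : Subgroup G)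
        (coprime_relIndex_commutator P.card_coprime_index) ⟨⟨hzP, hper ▸ mem_top _⟩, hZ z.2⟩
    have hz1 : (z : G) ≠ 1 := fun e => hp.one_lt.ne' (by rw [← hzo, e, orderOf_one])
    have hPna : ¬ IsMulCommutative (P : Subgroup G) := fun h => by
      rw [commutator_self_eq_bot h] at hz'
      exact hz1 hz'
    have hcard : Nat.card ↥⁅(P : Subgroup G), (P : Subgroup G)⁆ ≤ p := by
      have := card_commutator_le P.isPGroup' fun H hH => by
        by_contra hc
        have h2 : ¬ IsMulCommutative (H.map (P : Subgroup G).subtype) := fun h =>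
          hc (PGrp.isMulCommutative_iff_forall.2 fun a ha b hb => Subtype.ext
            (PGrp.comm_of_mem h (mem_map_of_mem _ ha) (mem_map_of_mem _ hb)))
        have h3 : H.map (P : Subgroup G).subtype < P := by
          refine lt_of_le_of_ne (map_subtype_le H) fun e => hH ?_
          apply map_injective (P : Subgroup G).subtype_injective
          rw [e, ← MonoidHom.range_eq_map, range_subtype]
        have h4 := lt_inf_normalizer P.isPGroup' h3
        rw [hS _ h2] at h4
        exact h4.not_ge inf_le_right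
      rwa [← card_map_of_injective (P : Subgroup G).subtype_injective, map_subtype_commutator] at this
    have hcomm : ⁅(P : Subgroup G), (P : Subgroup G)⁆ ≤ N := by
      rw [← PGrp.eq_of_le_of_card_le (zpowers_le.2 hz') (by rwa [Nat.card_zpowers, hzo])]
      exact zpowers_le.2 z.2
    have hT := (sylowIn_top P).map f
    rw [map_top_of_surjective f hfs] at hT
    refine false_of_simple hX hT (fun e => hPna ?_) ?_ (hnorm _ fun h => hPna ?_)
    · rw [Subgroup.map_eq_bot_iff, hker] at e
      exact PGrp.isMulCommutative_of_le hNab e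
    · refine PGrp.isMulCommutative_iff_forall.2 ?_
      rintro _ ⟨a, ha, rfl⟩ _ ⟨b, hb, rfl⟩
      rw [← commutatorElement_eq_one_iff_mul_comm, ← map_commutatorElement, ← MonoidHom.mem_ker, hker]
      exact hcomm (commutator_mem_commutator ha hb)
    · exact PGrp.isMulCommutative_of_le h (le_comap_map f _)
  · have hCN : centralizer (N : Set G) = N :=
      hmax _ ⟨inferInstance, hC⟩ (le_centralizer_self hNab)
    have hall : ∀ Y : Subgroup (G ⧸ N), Y ≠ ⊥ → normalizer (Y : Set (G ⧸ N)) = Y := by
      intro Y hY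
      refine hnorm Y fun h => hY ?_
      have hNY : N ≤ Y.comap f := hker.ge.trans (ker_le_comap f Y)
      have : Y.comap f ≤ N := by
        refine le_trans ?_ hCN.le
        exact fun y hy => mem_centralizer_iff.2 fun n hn => PGrp.comm_of_mem h (hNY hn) hy
      rw [← map_comap_eq_self_of_surjective hfs Y, Subgroup.map_eq_bot_iff, hker]
      exact this
    obtain ⟨p, hp, hd⟩ := Nat.exists_prime_and_dvd (Finite.one_lt_card (α := G ⧸ N)).ne'
    haveI := Fact.mk hp
    obtain ⟨T, hT⟩ := exists_sylowIn p (⊤ : Subgroup (G ⧸ N))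
    have hTb : T ≠ ⊥ := fun e => hT.eq_bot_iff.1 e (by rwa [card_top])
    refine false_of_simple hX hT hTb ?_ (hall T hTb)
    haveI : Nontrivial T := (nontrivial_iff_ne_bot T).2 hTb
    obtain ⟨z, -, hz, hzo⟩ := PGrp.exists_central_orderOf_eq hT.2 ⊤ top_ne_bot
    have hz1 : zpowers (z : G ⧸ N) ≠ ⊥ := fun e => hp.one_lt.ne' (by
      rw [← hzo, ← orderOf_coe, zpowers_eq_bot.1 e, orderOf_one])
    refine PGrp.isMulCommutative_of_le (A := zpowers (z : G ⧸ N)) inferInstance ?_
    rw [← hall _ hz1]
    refine le_normalizer_of_le_centralizer (zpowers_le.2 (mem_centralizer_iff.2 fun t ht => ?_))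
    exact congrArg Subtype.val (mem_center_iff.1 hz ⟨t, ht⟩)

end Cfsg.Agent.S4072
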