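import Cfsg.Statements.S4073
import Cfsg.Agent.Lib.Exc.EC
import Cfsg.Agent.Lib.Linear.PSL2Sub
import Cfsg.Agent.Lib.Linear.PUnip
import Cfsg.Agent.Lib.FT.Cor

set_option autoImplicit false
set_option linter.unusedSectionVars false
open Cfsg

namespace Cfsg.Agent.S4073

open Cfsg.Lib.Transfer Cfsg.Lib.Invol Cfsg.Lib.Exc Cfsg.Lib Subgroup
open scoped commutatorElement

def SN (G : Type*) [Group G] : Prop :=
  ∀ H : Subgroup G, ¬ IsMulCommutative H → Subgroup.normalizer (H : Set G) = H

variable {G : Type*} [Group G] [Finite G]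

omit [Finite G] in
theorem comm_iff {H : Subgroup G} : IsMulCommutative H ↔ ∀ a ∈ H, ∀ b ∈ H, a * b = b * a :=
  ⟨fun h a ha b hb => congrArg Subtype.val (h.1.1 ⟨a, ha⟩ ⟨b, hb⟩),
    fun h => ⟨⟨fun a b => Subtype.ext (h a a.2 b b.2)⟩⟩⟩

theorem SN.le (h : SN G) {H K : Subgroup G} (hH : ¬ IsMulCommutative H) (hK : K ≤ normalizer (H : Set G)) :
    K ≤ H := (h H hH) ▸ hK

theorem SN.res (h : SN G) (H : Subgroup G) : H ≤ resOf 2 H ∨ PNil 2 H := by
  by_cases hc : IsMulCommutative (resOf 2 H)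
  · right
    have : PNil 2 (resOf 2 H) := pnil_of_isNilpotent (Core.isNilpotent_of_isMulCommutative _)
    unfold PNil at this ⊢
    rwa [resOf_resOf] at this
  · exact Or.inl (h.le hc (le_normalizer_resOf H))

theorem SN.map {G' : Type*} [Group G'] (h : SN G) (e : G ≃* G') : SN G' := by
  intro H hH
  have h1 : ¬ IsMulCommutative (H.comap (e : G →* G')) := fun hc => hH (comm_iff.2 fun a ha b hb => by
    have := comm_iff.1 hc (e.symm a) (by simpa using ha) (e.symm b) (by simpa using hb)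
    simpa using congrArg e this)
  refine le_antisymm (fun g hg => ?_) le_normalizer
  have : e.symm g ∈ normalizer ((H.comap (e : G →* G') : Subgroup G) : Set G) := by
    rw [mem_normalizer_iff] at hg ⊢
    intro x
    simp only [mem_comap, MonoidHom.coe_coe, map_mul, map_inv, MulEquiv.apply_symm_apply]
    exact hg _
  rw [h _ h1] at this
  simpa using this

theorem SN.sylow_comm (h : SN G) (hn : ¬ PNil 2 (⊤ : Subgroup G)) (S : Sylow 2 G) :
    IsMulCommutative (S : Subgroup G) := by
  obtain ⟨Q, hQ, q, hq, hq2, g, -, ⟨k, hk⟩, hg1, hg2⟩ := (sylowIn_top S).exists_of_not_pnil hn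
  have hgo : (orderOf g).Coprime 2 :=
    Nat.Coprime.coprime_dvd_left (orderOf_dvd_of_pow_eq_one hk)
      (Nat.Coprime.pow_left _ ((Nat.coprime_primes hq Nat.prime_two).2 hq2))
  obtain ⟨P, -, ⟨hP, y, hyo, hy1, hy2⟩, hmax⟩ := Core.exists_maximal_ge
    (fun P : Subgroup G => IsPGroup 2 P ∧ ∃ y : G, (orderOf y).Coprime 2 ∧ y ∈ normalizer (P : Set G) ∧
      y ∉ centralizer (P : Set G)) (H := Q) ⟨S.2.to_le hQ, g, hgo, hg1, hg2⟩
  have hyP : y ∉ P := fun hy => hy2 (by
    obtain ⟨k, hk⟩ := hP ⟨y, hy⟩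
    have : y = 1 := eq_one_of_odd_pow (Nat.coprime_two_right.1 hyo) (congrArg Subtype.val hk)
    rw [this]; exact one_mem _)
  have hPc : IsMulCommutative P := by
    by_contra hc
    exact hyP (h.le hc le_rfl hy1)
  have hCc : IsMulCommutative (centralizer (P : Set G)) := by
    by_contra hc
    exact hy2 (h.le hc (Core.normalizer_le_normalizer_centralizer P) hy1)
  obtain ⟨T, hPT, hT⟩ := exists_sylowIn_ge hP (le_normalizer (H := P))
  have hPC : P ≤ centralizer (P : Set G) := le_centralizer_self hPc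
  have hTC : SylowIn 2 (T ⊓ centralizer (P : Set G)) (centralizer (P : Set G)) :=
    hT.inf_of_le (Core.normalizer_le_normalizer_centralizer P) (centralizer_le_normalizer _)
  have hTP : T ⊓ centralizer (P : Set G) = P := by
    refine hmax _ ⟨hTC.isPGroup, y, hyo, ?_, fun hc => hy2 (centralizer_le (le_inf hPT hPC) hc)⟩ (le_inf hPT hPC)
    refine mem_normalizer_of_cj_le (hTC.le_of_normalizes (isPGroup_cj _ hTC.isPGroup) ?_ ?_)
    · exact (cj_mono _ inf_le_right).trans
        (cj_eq_of_mem_normalizer (Core.normalizer_le_normalizer_centralizer P hy1)).le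
    · intro x hx
      have hx' : x ∈ centralizer (P : Set G) := ((cj_mono _ inf_le_right).trans
        (cj_eq_of_mem_normalizer (Core.normalizer_le_normalizer_centralizer P hy1)).le) hx
      rw [mem_normalizer_iff]
      intro a
      refine ⟨fun ha => ?_, fun ha => ?_⟩
      · rw [comm_iff.1 hCc x hx' a ha.2, mul_inv_cancel_right]; exact ha
      · have h2 := comm_iff.1 hCc x⁻¹ (inv_mem hx') _ ha.2
        have : a = x * a * x⁻¹ := by
          calc a = x⁻¹ * (x * a * x⁻¹) * x := by group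
            _ = x * a * x⁻¹ := by rw [h2]; group
        rw [this]; exact ha
  have hsyl : SylowIn 2 P ⊤ := by
    by_contra hns
    have hlt : P < T := by
      refine lt_of_le_of_ne hPT fun e => hns ?_
      obtain ⟨U, hPU, hU⟩ := exists_sylowIn_ge hP (le_top (a := P))
      by_cases e2 : P = U
      · exact e2 ▸ hU
      · have h3 := lt_inf_normalizer hU.isPGroup (lt_of_le_of_ne hPU e2)
        have h4 := hT.eq_of_le (hU.isPGroup.to_le inf_le_left) (e ▸ h3.le) inf_le_right
        rw [h4, ← e] at h3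
        exact absurd h3 (lt_irrefl _)
    obtain ⟨x, hx, hxP, hx2⟩ : ∃ x ∈ T, x ∉ P ∧ x * x ∈ P := by
      obtain ⟨x, hx, hxP⟩ := SetLike.exists_of_lt hlt
      obtain ⟨k, hk⟩ := hT.isPGroup ⟨x, hx⟩
      have hk' : x ^ 2 ^ k ∈ P := by
        have : x ^ 2 ^ k = 1 := congrArg Subtype.val hk
        rw [this]; exact one_mem _
      clear hk
      induction k with
      | zero => exact absurd (by simpa using hk') hxP
      | succ k ih =>
        by_cases h1 : x ^ 2 ^ k ∈ P
        · exact ih h1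
        · exact ⟨_, pow_mem hx _, h1, by rwa [← pow_add, ← two_mul, ← pow_succ']⟩
    have hxN : zpowers x ≤ normalizer (P : Set G) := zpowers_le.2 (hT.1 hx)
    have hR : ¬ IsMulCommutative (P ⊔ zpowers x : Subgroup G) := fun hc => hxP (by
      rw [← hTP]
      exact ⟨hx, fun a ha => comm_iff.1 hc a (mem_sup_left ha) x (mem_sup_right (mem_zpowers x))⟩)
    have hRT : P ⊔ zpowers x = T := by
      have hle : P ⊔ zpowers x ≤ T := sup_le hPT (zpowers_le.2 hx)
      by_contra e
      have h3 := lt_inf_normalizer hT.isPGroup (lt_of_le_of_ne hle e)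
      exact h3.not_ge (inf_le_right.trans (h.le hR le_rfl))
    have hcase : ∀ a ∈ T, a ∈ P ∨ x⁻¹ * a ∈ P := by
      intro a ha
      rw [← hRT, sup_comm, Core.mem_sup_of_le_normalizer_right hxN] at ha
      obtain ⟨_, ⟨k, rfl⟩, b, hb, rfl⟩ := ha
      rcases Int.even_or_odd' k with ⟨m, rfl | rfl⟩
      · left
        refine mul_mem ?_ hb
        dsimp only
        rw [zpow_mul, zpow_two]; exact zpow_mem hx2 _
      · right
        dsimp only
        rw [← mul_assoc, add_comm, zpow_add, zpow_one, inv_mul_cancel_left, zpow_mul, zpow_two]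
        exact mul_mem (zpow_mem hx2 _) hb
    have hres : T ⊓ resOf 2 (normalizer (P : Set G)) ≤ P := by
      refine hT.inf_resOf_le hT.1 fun a ha k hk hka => ⟨1, one_mem _, ?_⟩
      have hkN := resOf_le _ hk
      simp only [one_mul, inv_one, mul_one]
      by_cases haP : a ∈ P
      · exact mul_mem (inv_mem haP) (conj_mem_of_mem_normalizer hkN haP)
      · have h1 := (hcase a ha.1).resolve_left haP
        have h2 := (hcase _ hka).resolve_left fun hh => haP ((mem_normalizer_iff.1 hkN a).2 hh)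
        have := mul_mem (inv_mem h1) h2
        simpa [mul_assoc] using this
    rcases h.res (normalizer (P : Set G)) with h1 | h1
    · exact hxP (hres ⟨hx, h1 (hT.1 hx)⟩)
    · exact hy2 (h1.mem_centralizer hP le_normalizer (mem_resOf hy1 hyo) hy1)
  obtain ⟨g, -, e⟩ := hsyl.exists_cj_eq (sylowIn_top S)
  rw [← e, comm_iff]
  intro a ha b hb
  have := comm_iff.1 hPc _ (mem_cj.1 ha) _ (mem_cj.1 hb)
  have h2 := congrArg (fun z => g * z * g⁻¹) this
  simpa [mul_assoc] using h2

theorem SN.ac (h : SN G) (hn : ¬ PNil 2 (⊤ : Subgroup G)) : AC G := by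
  intro t ht
  suffices hc : IsMulCommutative (centralizer ({t} : Set G)) from fun x y hx hy =>
    comm_iff.1 hc x (mem_cent.2 hx) y (mem_cent.2 hy)
  by_contra hC
  have htp : IsPGroup 2 (zpowers t) := IsPGroup.of_card (n := 1) (by rw [Nat.card_zpowers, ht]; rfl)
  obtain ⟨S, hS⟩ := htp.exists_le_sylow
  have hSc := h.sylow_comm hn S
  have htS : t ∈ (S : Subgroup G) := hS (mem_zpowers t)
  have hSC : (S : Subgroup G) ≤ centralizer ({t} : Set G) := fun x hx => mem_cent.2 (comm_iff.1 hSc x hx t htS)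
  have hT := sylowIn_of_le S hSC
  have hnot : ¬ centralizer ({t} : Set G) ≤ resOf 2 (centralizer ({t} : Set G)) := fun hle => by
    have h1 : t ∈ (S : Subgroup G) ⊓ resOf 2 (centralizer ({t} : Set G)) :=
      ⟨htS, hle (mem_cent.2 (Commute.refl t))⟩
    rw [hT.inf_resOf_of_comm hSc] at h1
    have h2 := (hT.fitting_decomp hSc).1
    have : t ∈ (⊥ : Subgroup G) := h2 ▸ ⟨⟨htS, fun a ha => (mem_cent.1 ha.1).eq⟩, h1⟩
    rw [mem_bot.1 this, orderOf_one] at ht
    exact absurd ht (by norm_num)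
  have hp := (h.res _).resolve_left hnot
  set U := resOf 2 (centralizer ({t} : Set G)) with hU
  have hUc : IsMulCommutative U := by
    by_contra hc
    exact hnot (h.le hc (le_normalizer_resOf _))
  have hSU : (S : Subgroup G) ≤ normalizer (U : Set G) := hSC.trans (le_normalizer_resOf _)
  obtain ⟨s, hs, u, hu, hsu⟩ : ∃ s ∈ (S : Subgroup G), ∃ u ∈ U, s * u ≠ u * s := by
    by_contra hcon
    push Not at hcon
    refine hC (comm_iff.2 fun a ha b hb => ?_)
    obtain ⟨w, hw, v, hv, rfl⟩ := hT.exists_resOf_mul ha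
    obtain ⟨w', hw', v', hv', rfl⟩ := hT.exists_resOf_mul hb
    have e1 := comm_iff.1 hUc w hw w' hw'
    have e2 := comm_iff.1 hSc v hv v' hv'
    have e3 := hcon v hv w' hw'
    have e4 := hcon v' hv' w hw
    calc w * v * (w' * v') = w * (v * w') * v' := by group
      _ = (w * w') * (v * v') := by rw [e3]; group
      _ = w' * (w * v') * v := by rw [e1, e2]; group
      _ = w' * v' * (w * v) := by rw [← e4]; group
  have hsN : zpowers s ≤ normalizer (U : Set G) := zpowers_le.2 (hSU hs)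
  have hH : ¬ IsMulCommutative (U ⊔ zpowers s : Subgroup G) := fun hc =>
    hsu (comm_iff.1 hc s (mem_sup_right (mem_zpowers s)) u (mem_sup_left hu))
  have hSH : (S : Subgroup G) ≤ U ⊔ zpowers s := by
    refine h.le hH fun x hx => mem_normalizer_of_cj_le ?_
    rw [cj_sup, cj_eq_of_mem_normalizer (hSU hx)]
    refine sup_le_sup_left (cj_zpowers_le.2 ?_) _
    rw [comm_iff.1 hSc x hx s hs, mul_inv_cancel_right]; exact mem_zpowers s
  have hcyc : (S : Subgroup G) = zpowers s := by
    refine le_antisymm (fun x hx => ?_) (zpowers_le.2 hs)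
    obtain ⟨a, ha, b, hb, rfl⟩ := (Core.mem_sup_of_le_normalizer_left hsN).1 (hSH hx)
    have : a ∈ (S : Subgroup G) ⊓ U := ⟨by
      have := mul_mem hx (inv_mem (zpowers_le.2 hs hb))
      rwa [mul_inv_cancel_right] at this, ha⟩
    rw [hp.disjoint S.2, mem_bot] at this
    rwa [this, one_mul]
  exact hn (Block.pnil_two_of_isCyclic (sylowIn_top S) (hcyc ▸ inferInstance))

section PSL

variable {K : Type*} [Field K] [Finite K] [CharP K 2]

theorem even_card : Even (Nat.card K) := by
  have := Fintype.ofFinite K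
  obtain ⟨n, -, hn⟩ := FiniteField.card K 2
  rw [Nat.card_eq_fintype_card, hn]
  exact (Nat.even_pow' n.ne_zero).2 even_two

theorem gcd_eq : Nat.gcd 2 (Nat.card K - 1) = 1 := by
  have h1 := even_card (K := K)
  have h2 : 0 < Nat.card K := Nat.card_pos
  obtain ⟨m, hm⟩ := h1
  exact Nat.coprime_two_left.2 ⟨m - 1, by omega⟩

theorem cent_eq (P : Sylow 2 (Linear.PSL2 K)) {t : Linear.PSL2 K} (ht : t ∈ (P : Subgroup _)) (h1 : t ≠ 1) :
    centralizer {t} = (P : Subgroup (Linear.PSL2 K)) := by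
  have he := even_card (K := K)
  have hpos : 0 < Nat.card K := Nat.card_pos
  have hG : Even (Nat.card (Linear.PSL2 K)) := by
    rw [Linear.card_PSL_two_of_even he, mul_assoc]; exact he.mul_right _
  obtain ⟨z, hz, hz2, hzc⟩ := exists_le_cent hG P
  have hz1 : z ≠ 1 := by rintro rfl; simp at hz2
  have hle : (P : Subgroup (Linear.PSL2 K)) ≤ centralizer {t} := fun x hx =>
    mem_cent.2 (psl_even_ct he hz1 (hzc x hx) (hzc t ht).symm)
  refine (sylowIn_top P).eq_of_le ?_ hle le_top
  rw [IsPGroup.iff_orderOf]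
  intro c
  have hc : Commute (c : Linear.PSL2 K) z := psl_even_ct he h1 (mem_cent.1 c.2) (hzc t ht)
  rw [← Subgroup.orderOf_coe]
  by_cases hodd : Odd (orderOf (c : Linear.PSL2 K))
  · have h2 : orderOf ((c : Linear.PSL2 K) * z) = orderOf (c : Linear.PSL2 K) * 2 := by
      rw [hc.orderOf_mul_eq_mul_orderOf_of_coprime (by rw [hz2]; exact Nat.coprime_two_right.2 hodd), hz2]
    have h3 := (Known.PSL2_spectrum 2 _).1 ⟨_, h2⟩
    rw [gcd_eq, Nat.div_one, Nat.div_one] at h3
    rcases h3 with h3 | h3 | h3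
    · refine ⟨0, ?_⟩
      have := Nat.le_of_dvd two_pos h3
      have := orderOf_pos (c : Linear.PSL2 K)
      omega
    · have := (dvd_mul_left _ _).trans h3
      obtain ⟨m, hm⟩ := he
      omega
    · have := (dvd_mul_left _ _).trans h3
      obtain ⟨m, hm⟩ := he
      omega
  · have h3 := (Known.PSL2_spectrum 2 _).1 ⟨(c : Linear.PSL2 K), rfl⟩
    rw [gcd_eq, Nat.div_one, Nat.div_one] at h3
    have h4 := (Nat.not_odd_iff_even.1 hodd).two_dvd
    rcases h3 with h3 | h3 | h3
    · exact ⟨1, Nat.dvd_antisymm h3 h4⟩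
    · have := h4.trans h3
      obtain ⟨m, hm⟩ := he
      omega
    · have := h4.trans h3
      obtain ⟨m, hm⟩ := he
      omega

theorem card_norm (P : Sylow 2 (Linear.PSL2 K)) :
    Nat.card (normalizer ((P : Subgroup (Linear.PSL2 K)) : Set (Linear.PSL2 K))) = Nat.card K * (Nat.card K - 1) := by
  rw [← Linear.card_normalizer_sylow_PSL2 P, gcd_eq, one_mul]

theorem fpf (P : Sylow 2 (Linear.PSL2 K)) {y : Linear.PSL2 K} (hp : (orderOf y).Prime) (h2 : orderOf y ≠ 2) :
    Coprime.Fpf (P : Subgroup (Linear.PSL2 K)) (zpowers y) := by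
  refine Coprime.fpf_zpowers_of_prime hp (eq_bot_iff.2 fun a ha => ?_)
  by_contra h1
  have : y ∈ (P : Subgroup (Linear.PSL2 K)) := by
    rw [← cent_eq P ha.1 h1]; exact mem_cent.2 (mem_cent.1 ha.2).symm
  obtain ⟨k, hk⟩ := P.2 ⟨y, this⟩
  exact h2 ((Nat.prime_dvd_prime_iff_eq hp Nat.prime_two).1
    (hp.dvd_of_dvd_pow (orderOf_dvd_of_pow_eq_one (congrArg Subtype.val hk))))

theorem prime_of_sn (h4 : 4 ≤ Nat.card K) (h : SN (Linear.PSL2 K)) : (Nat.card K - 1).Prime := by
  obtain ⟨P⟩ : Nonempty (Sylow 2 (Linear.PSL2 K)) := inferInstance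
  set B := normalizer ((P : Subgroup (Linear.PSL2 K)) : Set (Linear.PSL2 K)) with hB
  have hP := Linear.card_sylow_subgroup_PSL2 P
  have hPb : (P : Subgroup (Linear.PSL2 K)) ≠ ⊥ := fun e => by rw [e, card_bot] at hP; omega
  obtain ⟨r, hr, hrd⟩ := Nat.exists_prime_and_dvd (show Nat.card K - 1 ≠ 1 by omega)
  have : Fact r.Prime := ⟨hr⟩
  obtain ⟨⟨y, hy⟩, hyo⟩ := exists_prime_orderOf_dvd_card' (G := B) r (by rw [card_norm]; exact hrd.mul_left _)
  rw [← Subgroup.orderOf_coe] at hyo
  have hr2 : r ≠ 2 := by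
    rintro rfl
    obtain ⟨m, hm⟩ := even_card (K := K)
    omega
  have hf := fpf P (y := y) (hyo ▸ hr) (hyo ▸ hr2)
  have hy1 : y ≠ 1 := by rintro rfl; exact hr.one_lt.ne (by simpa using hyo)
  obtain ⟨⟨a, ha⟩, ha1⟩ := (ne_bot_iff_exists_ne_one).1 hPb
  have ha1 : a ≠ 1 := fun e => ha1 (Subtype.ext e)
  have hya : y * a ≠ a * y := fun e => ha1 (hf.eq_one (mem_zpowers y) hy1 ha e)
  have hyN : zpowers y ≤ B := zpowers_le.2 hy
  have hBc : IsMulCommutative (⁅B, B⁆ : Subgroup (Linear.PSL2 K)) := by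
    by_contra hc
    have h1 : B ≤ ⁅B, B⁆ := h.le hc (Core.le_normalizer_commutator le_normalizer le_normalizer)
    have hs : Group.IsSolvable B := Linear.isSolvable_of_le_normalizer (P := P) le_rfl
    have hnt : Nontrivial B := ⟨⟨⟨y, hy⟩, 1, fun e => hy1 (congrArg Subtype.val e)⟩⟩
    have h2 := Group.IsSolvable.commutator_lt_top_of_nontrivial B
    refine h2.ne (eq_top_iff.2 fun x _ => ?_)
    have := h1 x.2
    rw [← map_subtype_commutator] at this
    obtain ⟨w, hw, e⟩ := this
    rwa [← Subtype.ext e]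
  have hBP : ⁅B, B⁆ ≤ (P : Subgroup (Linear.PSL2 K)) := by
    have h1 : ⁅y, a⁆ ∈ (P : Subgroup (Linear.PSL2 K)) := by
      rw [commutatorElement_def]
      exact mul_mem (conj_mem_of_mem_normalizer hy ha) (inv_mem ha)
    have h2 : ⁅y, a⁆ ≠ 1 := fun e => hya (commutatorElement_eq_one_iff_mul_comm.1 e)
    rw [← cent_eq P h1 h2]
    exact fun x hx => mem_cent.2 (comm_iff.1 hBc x hx _ (commutator_mem_commutator hy (le_normalizer ha)))
  have hH : ¬ IsMulCommutative ((P : Subgroup (Linear.PSL2 K)) ⊔ zpowers y : Subgroup (Linear.PSL2 K)) := fun hc =>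
    hya (comm_iff.1 hc y (mem_sup_right (mem_zpowers y)) a (mem_sup_left ha))
  have hle : B ≤ (P : Subgroup (Linear.PSL2 K)) ⊔ zpowers y := by
    refine h.le hH fun x hx => mem_normalizer_of_cj_le (cj_le_iff.2 fun b hb => ?_)
    have hbB : b ∈ B := sup_le le_normalizer hyN hb
    have : x * b * x⁻¹ = ⁅x, b⁆ * b := by rw [commutatorElement_def]; group
    rw [this]
    exact mul_mem (mem_sup_left (hBP (commutator_mem_commutator hx hbB))) hb
  have hc := card_norm P
  rw [← hB, le_antisymm hle (sup_le le_normalizer hyN), hf.card_sup hyN, hP, Nat.card_zpowers, hyo] at hc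
  rw [← Nat.eq_of_mul_eq_mul_left (by omega) hc]
  exact hr

theorem dihedral_top {k : ℕ} (hk : Odd k) {H : Subgroup (DihedralGroup k)} [H.Normal] (hH : ¬ IsMulCommutative H) :
    H = ⊤ := by
  obtain ⟨i, hi⟩ : ∃ i, DihedralGroup.sr i ∈ H := by
    by_contra hc
    push Not at hc
    refine hH (comm_iff.2 fun a ha b hb => ?_)
    rcases a with a | a
    · rcases b with b | b
      · simp [add_comm]
      · exact absurd hb (hc _)
    · exact absurd ha (hc _)
  have hall : ∀ j, DihedralGroup.sr j ∈ H := by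
    intro j
    obtain ⟨u, hu⟩ : ∃ u : ZMod k, u * 2 = 1 := by
      have : IsUnit ((2 : ℕ) : ZMod k) := (ZMod.isUnit_iff_coprime 2 k).2 (Nat.coprime_two_left.2 hk)
      obtain ⟨u, hu⟩ := this.exists_left_inv
      exact ⟨u, by simpa using hu⟩
    have := ‹H.Normal›.conj_mem _ hi (DihedralGroup.r (u * (i - j)))
    convert this using 1
    simp only [DihedralGroup.inv_r, DihedralGroup.r_mul_sr, DihedralGroup.sr_mul_r, DihedralGroup.sr.injEq]
    linear_combination (i - j) * hu
  refine eq_top_iff.2 fun x _ => ?_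
  rcases x with j | j
  · simpa using mul_mem (hall 0) (hall j)
  · exact hall j

theorem sn_of_prime (h4 : 4 ≤ Nat.card K) (hp : (Nat.card K - 1).Prime) : SN (Linear.PSL2 K) := by
  intro H hH
  have he := even_card (K := K)
  set N := normalizer (H : Set (Linear.PSL2 K)) with hN
  have hHN : H ≤ N := le_normalizer
  have hH' : ¬ IsMulCommutative (H.subgroupOf N) := fun hc => hH (comm_iff.2 fun a ha b hb =>
    congrArg Subtype.val (comm_iff.1 hc ⟨a, hHN ha⟩ ha ⟨b, hHN hb⟩ hb))
  have hev : ∀ {X : Type} [Group X], Nonempty (N ≃* X) → 2 ∣ Nat.card X → 2 ∣ Nat.card N :=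
    fun ⟨e⟩ hx => by rwa [Nat.card_congr e.toEquiv]
  refine le_antisymm ?_ hHN
  rcases Linear.dickson_psl2 2 N with ⟨k, hk, ⟨hc, -⟩ | ⟨⟨e⟩⟩⟩ | ⟨P, hP⟩ | ⟨h2, h3⟩ | ⟨h3, -⟩ | ⟨R, hR⟩
  · exact (hH' inferInstance).elim
  · have hodd : Odd k := by
      rw [gcd_eq, Nat.div_one, Nat.div_one] at hk
      obtain ⟨m, hm⟩ := he
      rcases hk with hk | hk
      · exact Odd.of_dvd_nat ⟨m, by omega⟩ hk
      · exact Odd.of_dvd_nat ⟨m - 1, by omega⟩ hk
    have hn : ((H.subgroupOf N).map (e : N →* DihedralGroup k)).Normal := Normal.map inferInstance _ e.surjective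
    have := dihedral_top hodd (H := (H.subgroupOf N).map (e : N →* DihedralGroup k)) fun hc =>
      hH' (comm_iff.2 fun a ha b hb => e.injective (by
        simpa using comm_iff.1 hc _ (mem_map_of_mem _ ha) _ (mem_map_of_mem _ hb)))
    intro x hx
    have h1 : e ⟨x, hx⟩ ∈ (H.subgroupOf N).map (e : N →* DihedralGroup k) := this ▸ mem_top _
    obtain ⟨w, hw, e1⟩ := h1
    have : w = ⟨x, hx⟩ := e.injective e1
    subst this
    exact hw
  · have hc := card_norm P
    have hPc := Linear.card_sylow_subgroup_PSL2 P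
    have hHB := hHN.trans hP
    have hd := Subgroup.card_dvd_of_le hHB
    rw [hc] at hd
    have : Fact (Nat.card K - 1).Prime := ⟨hp⟩
    have hp2 : Nat.card K - 1 ≠ 2 := by obtain ⟨m, hm⟩ := he; omega
    have h1 : (Nat.card K - 1) ∣ Nat.card H := by
      by_contra h1
      have h2 : Nat.card H ∣ Nat.card K :=
        (Nat.Coprime.dvd_mul_right ((Nat.Prime.coprime_iff_not_dvd hp).2 h1).symm).1 hd
      have h3 : IsPGroup 2 H := by
        obtain ⟨n, hn⟩ := P.2.exists_card_eq
        rw [← hPc, hn] at h2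
        obtain ⟨m, -, hm⟩ := (Nat.dvd_prime_pow Nat.prime_two).1 h2
        exact IsPGroup.of_card hm
      have h5 := (sylowIn_top P).le_of_normalizes h3 le_top hHB
      refine hH (comm_iff.2 fun a ha b hb => ?_)
      by_cases hb1 : b = 1
      · simp [hb1]
      · exact (mem_cent.1 ((cent_eq P (h5 hb) hb1).ge (h5 ha))).eq
    obtain ⟨⟨y, hy⟩, hyo⟩ := exists_prime_orderOf_dvd_card' (G := H) _ h1
    rw [← Subgroup.orderOf_coe] at hyo
    have hf := fpf P (y := y) (hyo ▸ hp) (hyo ▸ hp2)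
    have hyB : zpowers y ≤ normalizer ((P : Subgroup (Linear.PSL2 K)) : Set (Linear.PSL2 K)) := zpowers_le.2 (hHB hy)
    have hQ := (hf.mono (inf_le_left (b := H)) le_rfl).card_dvd (zpowers_le.2 (mem_normalizer_of_cj_le (by
      rw [cj_inf, cj_eq_of_mem_normalizer (hHB hy), cj_eq_of_mem hy])))
    rw [Nat.card_zpowers, hyo] at hQ
    have hsup : (P : Subgroup (Linear.PSL2 K)) ⊔ zpowers y =
        normalizer ((P : Subgroup (Linear.PSL2 K)) : Set (Linear.PSL2 K)) := by
      refine eq_of_le_of_card_ge (sup_le le_normalizer hyB) ?_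
      rw [hf.card_sup hyB, hc, hPc, Nat.card_zpowers, hyo]
    have hQ1 : (P : Subgroup (Linear.PSL2 K)) ⊓ H ≠ ⊥ := fun e => by
      have h2 := Core.card_sup_of_disjoint hHB (by rw [inf_comm, e])
      have h3 := Subgroup.card_le_of_le (sup_le hHB le_normalizer)
      rw [h2, hc, hPc, mul_comm] at h3
      have h5 : Nat.card H = Nat.card K - 1 :=
        le_antisymm (Nat.le_of_mul_le_mul_left h3 (by omega)) (Nat.le_of_dvd Nat.card_pos h1)
      have := isCyclic_of_prime_card h5
      exact hH inferInstance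
    have h6 : 1 < Nat.card ((P : Subgroup (Linear.PSL2 K)) ⊓ H : Subgroup _) := (one_lt_card_iff_ne_bot _).2 hQ1
    have h7 := Nat.le_of_dvd (by omega) hQ
    have h8 : (P : Subgroup (Linear.PSL2 K)) ⊓ H = P := eq_of_le_of_card_ge inf_le_left (by rw [hPc]; omega)
    exact hP.trans (hsup ▸ sup_le (h8 ▸ inf_le_right) (zpowers_le.2 hy))
  · refine absurd ?_ h2
    rcases h3 with h3 | h3 | h3
    · exact hev h3 (by rw [nat_card_alternatingGroup]; simp [Nat.factorial])
    · exact hev h3 (by rw [Nat.card_perm]; simp [Nat.factorial])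
    · exact hev h3 (by rw [nat_card_alternatingGroup]; simp [Nat.factorial])
  · omega
  · have hRd : Nat.card R - 1 ∣ Nat.card K - 1 := by
      rw [← Nat.card_units, ← Nat.card_units]
      exact Subgroup.card_dvd_of_injective (Units.map (R.subtype : R →* K)) (Units.map_injective Subtype.val_injective)
    have hR' : Nonempty (N ≃* Linear.PGL2 R) :=
      hR.resolve_right fun hh => (Nat.not_odd_iff_even.2 (even_card (K := R))) hh.1
    obtain ⟨e⟩ := hR'
    have hc := Nat.card_congr e.toEquiv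
    rw [Linear.card_PGL_two] at hc
    have hR1 : 1 < Nat.card R := Finite.one_lt_card
    rcases (Nat.dvd_prime hp).1 hRd with h1 | h1
    · have h2 : Nat.card R = 2 := by omega
      rw [h2] at hc
      have hd := Subgroup.card_dvd_of_le hHN
      rw [hc] at hd
      refine (eq_of_le_of_card_ge hHN ?_).ge
      rw [hc]
      have h6 := Nat.le_of_dvd (by norm_num) hd
      by_contra hlt
      have hpos : 0 < Nat.card H := Nat.card_pos
      have : Nat.card H = 1 ∨ Nat.card H = 2 ∨ Nat.card H = 3 := by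
        generalize Nat.card H = n at *
        have : n ≤ 5 := by omega
        interval_cases n <;> simp_all
      rcases this with h | h | h
      · have := (Nat.card_eq_one_iff_unique.1 h).1
        exact hH ⟨⟨fun a b => Subsingleton.elim _ _⟩⟩
      · have := isCyclic_of_prime_card h
        exact hH inferInstance
      · have : Fact (Nat.Prime 3) := ⟨Nat.prime_three⟩
        have := isCyclic_of_prime_card h
        exact hH inferInstance
    · have h2 : Nat.card R = Nat.card K := by omega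
      rw [h2, ← Linear.card_PSL_two_of_even he] at hc
      have hN : N = ⊤ := Subgroup.eq_top_of_card_eq _ hc
      have := Linear.isSimpleGroup_PSL2 h4
      rcases (normalizer_eq_top_iff.1 hN).eq_bot_or_eq_top with h | h
      · exact absurd (h ▸ inferInstance) hH
      · rw [h]; exact le_top

end PSL

/-- Let G be a finite non-abelian simple group. Every non-abelian subgroup of G is self-normalizing if and only if G is isomorphic to PSL₂(2ⁿ) for some n ≥ 2 with 2ⁿ − 1 prime (this includes the alternating group of degree 5 as PSL₂(4)). -/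
theorem result {G : Type*} [Group G] [Finite G] [IsSimpleGroup G]
    (hna : ¬ IsMulCommutative G) :
    (∀ H : Subgroup G, ¬ IsMulCommutative H → Subgroup.normalizer (H : Set G) = H) ↔
    ∃ n : ℕ, 2 ≤ n ∧ (2 ^ n - 1).Prime ∧ Nonempty (G ≃* Matrix.ProjectiveSpecialLinearGroup (Fin 2) (GaloisField 2 n)) := by
  have hc : ∀ n : ℕ, 2 ≤ n → Nat.card (GaloisField 2 n) = 2 ^ n ∧ 4 ≤ 2 ^ n := fun n hn =>
    ⟨GaloisField.card 2 n (by omega), Nat.pow_le_pow_right (n := 2) two_pos hn⟩
  constructor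
  · intro h
    have he := FT.even_card_of_simple G fun hh => hna ⟨⟨hh⟩⟩
    have hn := not_pnil_of_simple (p := 2) (exists_ne_of_not_comm hna) he.two_dvd
    obtain ⟨F, _, _, f, hf, hF, e⟩ := (SN.ac h hn).simple hna he
    obtain ⟨n, hn, -, ⟨e⟩⟩ := psl_galois (by rw [hF]; exact pow_dvd_pow 2 hf) e
    refine ⟨n, hn, ?_, ⟨e⟩⟩
    rw [← (hc n hn).1]
    exact prime_of_sn ((hc n hn).1 ▸ (hc n hn).2) (SN.map h e)
  · rintro ⟨n, hn, hp, ⟨e⟩⟩
    exact (sn_of_prime ((hc n hn).1 ▸ (hc n hn).2) ((hc n hn).1 ▸ hp)).map e.symm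

end Cfsg.Agent.S4073
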