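import Cfsg.Statements.S4074
import Cfsg.Agent.Lib.PGrp.Cyclic

set_option autoImplicit false
open Cfsg

namespace Cfsg.Agent.S4074

open DihedralGroup in
def par {n : ℕ} (h : 2 ∣ n) : DihedralGroup n →* Multiplicative (ZMod 2) :=
  MonoidHom.mk' (fun x => match x with
    | r i => Multiplicative.ofAdd (ZMod.castHom h (ZMod 2) i)
    | sr i => Multiplicative.ofAdd (ZMod.castHom h (ZMod 2) i)) (by
  rintro (i | i) (j | j) <;> simp only [r_mul_r, r_mul_sr, sr_mul_r, sr_mul_sr, map_add, map_sub,
    ← ofAdd_add, CharTwo.sub_eq_add, add_comm])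


/-- For n > 2, every non-abelian subgroup of the dihedral group of order 2n is self-normalizing if and only if n = 4 or n is odd. -/
theorem result (n : ℕ) (hn : 2 < n) :
    (∀ H : Subgroup (DihedralGroup n), ¬ IsMulCommutative H → Subgroup.normalizer (H : Set (DihedralGroup n)) = H) ↔
    (n = 4 ∨ Odd n) := by
  open DihedralGroup Subgroup in
  haveI : NeZero n := ⟨by omega⟩
  constructor
  · intro h
    by_contra hc
    push Not at hc
    have h2 : 2 ∣ n := (Nat.not_odd_iff_even.1 hc.2).two_dvd
    have h3 := h (par h2).ker fun hcomm => by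
      have e := congrArg Subtype.val (hcomm.is_comm.comm
        (⟨r 2, by simp only [MonoidHom.mem_ker, par, MonoidHom.mk'_apply, map_ofNat]; rfl⟩ :
          (par h2).ker)
        ⟨sr 0, by simp only [MonoidHom.mem_ker, par, MonoidHom.mk'_apply, map_zero]; rfl⟩)
      simp only [coe_mul, r_mul_sr, sr_mul_r, sr.injEq] at e
      have e2 : ((4 : ℕ) : ZMod n) = 0 := by push_cast; linear_combination -e
      have := Nat.le_of_dvd (by norm_num) ((ZMod.natCast_eq_zero_iff 4 n).1 e2)
      omega
    rw [normalizer_eq_top] at h3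
    have : r 1 ∈ (par h2).ker := h3 ▸ mem_top _
    simp only [MonoidHom.mem_ker, par, MonoidHom.mk'_apply, map_one] at this
    exact absurd this (by decide)
  · rintro (rfl | hodd) H hH
    · have hc : Nat.card (DihedralGroup 4) = 2 ^ 3 := by rw [nat_card]; rfl
      have hP : IsPGroup 2 (DihedralGroup 4) := IsPGroup.of_card hc
      have : H = ⊤ := by
        by_contra hne
        have h1 := Cfsg.Lib.PGrp.mul_card_le_of_lt (hP.to_subgroup ⊤) (lt_top_iff_ne_top.2 hne)
        rw [card_top, hc] at h1
        exact hH (Cfsg.Lib.PGrp.isMulCommutative_of_card_le_sq (hP.to_subgroup H) (by omega))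
      rw [this, normalizer_eq_top]
    · obtain ⟨j, hj⟩ : ∃ j, sr j ∈ H := by
        by_contra! h
        refine hH ⟨⟨?_⟩⟩
        rintro ⟨(a | a), ha⟩ ⟨(b | b), hb⟩
        · exact Subtype.ext (by simp [add_comm])
        · exact absurd hb (h b)
        · exact absurd ha (h a)
        · exact absurd ha (h a)
      have key : ∀ i, r i ∈ normalizer (H : Set (DihedralGroup n)) → r i ∈ H := by
        intro i hi
        have h1 := H.mul_mem ((mem_normalizer_iff.1 hi _).1 hj) hj
        obtain ⟨k, hk⟩ := hodd
        have h2 := H.pow_mem h1 (k + 1)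
        simp only [inv_r, r_mul_sr, sr_mul_r, sr_mul_sr, r_pow] at h2
        have h3 : ((2 * k + 1 : ℕ) : ZMod n) = 0 := by rw [← hk, ZMod.natCast_self]
        convert h2 using 2
        push_cast at h3 ⊢
        linear_combination (-i) * h3
      refine le_antisymm ?_ le_normalizer
      rintro (i | i) hi
      · exact key i hi
      · have := key _ (mul_mem hi (le_normalizer hj))
        rw [← sr_mul_sr] at this
        exact (H.mul_mem_cancel_right hj).1 this

end Cfsg.Agent.S4074
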