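import Cfsg.Statements.S4075
import Cfsg.Agent.Lib.PGrp.Cyclic
import Cfsg.Agent.Lib.Core.Nilpotent

set_option autoImplicit false
open Cfsg

namespace Cfsg.Agent.S4075

open Subgroup Cfsg.Lib Cfsg.Lib.Core

/-- Let G be a finite nilpotent group. Every non-abelian subgroup of G is self-normalizing if and only if G is abelian or G is a minimal non-abelian p-group for some prime p (non-abelian of prime-power order with every proper subgroup abelian). -/
theorem result {G : Type*} [Group G] [Finite G]
    [Group.IsNilpotent G] :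
    (∀ H : Subgroup G, ¬ IsMulCommutative H → Subgroup.normalizer (H : Set G) = H) ↔
    (IsMulCommutative G ∨ (IsPrimePow (Nat.card G) ∧ ¬ IsMulCommutative G ∧ ∀ H : Subgroup G, H ≠ ⊤ → IsMulCommutative H)) := by
  constructor
  · intro h
    refine or_iff_not_imp_left.2 fun hna => ?_
    have h1 : ∀ H : Subgroup G, H ≠ ⊤ → IsMulCommutative H := fun H hH => by_contra fun hc =>
      (lt_normalizer_of_ne_top hH).ne' (h H hc)
    refine ⟨?_, hna, h1⟩
    have h0 : Nat.card G ≠ 1 := fun e =>
      have := (Nat.card_eq_one_iff_unique.1 e).1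
      hna ⟨⟨fun _ _ => Subsingleton.elim _ _⟩⟩
    obtain ⟨p, hp, hd⟩ := Nat.exists_prime_and_dvd h0
    have := Fact.mk hp
    by_cases h2 : IsPGroup p G
    · obtain ⟨n, hn⟩ := h2.exists_card_eq
      exact (isPrimePow_nat_iff _).2 ⟨p, n, hp, Nat.pos_of_ne_zero (by rintro rfl; exact h0 hn),
        hn.symm⟩
    have c := coprime_card_pPrimeCore p G
    have := PGrp.isMulCommutative_sup (h1 _ (mt pCore_eq_top_iff.1 h2)) (h1 (pPrimeCore p G) fun e =>
      hp.coprime_iff_not_dvd.1 c.symm (by rwa [e, card_top])) (le_centralizer_of_coprime_of_nilpotent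
        (coprime_card_of_isPGroup hp (isPGroup_pCore p G) c).symm)
    rw [pCore_sup_pPrimeCore_of_nilpotent hp, PGrp.isMulCommutative_top_iff] at this
    exact absurd ⟨⟨this⟩⟩ hna
  · rintro (h | ⟨-, -, h⟩) H hH
    · exact absurd (PGrp.isMulCommutative_iff_forall.2 fun x _ y _ => h.1.1 x y) hH
    · obtain rfl : H = ⊤ := by_contra fun e => hH (h H e)
      exact top_le_iff.1 le_normalizer

end Cfsg.Agent.S4075
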