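import Cfsg.Statements.S4078
import Cfsg.Agent.Lib.Hall.TwoGen
import Cfsg.Agent.Lib.Sig.Basic

set_option autoImplicit false
open Cfsg

namespace Cfsg.Agent.S4078

open scoped Pointwise commutatorElement
open Cfsg.Lib Cfsg.Lib.Hall

open Subgroup Cfsg.Lib.Core Cfsg.Lib.Amalg Cfsg.Lib.BG1

/-- For an element x of a finite group G let Sol(x) be the set of y ∈ G such that x and y generate a solvable subgroup. Then G is solvable if and only if Sol(x) is (the carrier of) a subgroup of G for every x ∈ G. -/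
theorem result {G : Type*} [Group G] [Finite G] :
    Group.IsSolvable G ↔ ∀ x : G, ∃ H : Subgroup G, (H : Set G) = {y : G | Group.IsSolvable ↥(Subgroup.closure ({x, y} : Set G))} := by
  refine ⟨fun _ x => ⟨⊤, by ext y; exact ⟨fun _ => (inferInstance : Group.IsSolvable _), fun _ => trivial⟩⟩, fun h => ?_⟩
  refine solvable_of_minimal_simple (fun G _ => ∀ x : G, ∃ H : Subgroup G,
      (H : Set G) = {y : G | Group.IsSolvable ↥(Subgroup.closure ({x, y} : Set G))})
    (fun G _ _ H h x => ?_) (fun G _ _ N _ _ h x => ?_) (fun G _ _ _ hs h => ?_) _ G rfl h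
  · obtain ⟨K, hK⟩ := h x
    exact ⟨K.subgroupOf H, Set.ext fun y => (Set.ext_iff.1 hK y).trans (tg_sub x y).symm⟩
  · obtain ⟨x, rfl⟩ := QuotientGroup.mk_surjective x
    obtain ⟨K, hK⟩ := h x
    refine ⟨K.map (QuotientGroup.mk' N), Set.ext fun y => ⟨?_, fun hy => ?_⟩⟩
    · rintro ⟨y, hy, rfl⟩
      exact (tg_quo N x y).2 ((Set.ext_iff.1 hK y).1 hy)
    · obtain ⟨y, rfl⟩ := QuotientGroup.mk_surjective y
      exact ⟨y, (Set.ext_iff.1 hK y).2 ((tg_quo N x y).1 hy), rfl⟩
  · rcases Nat.even_or_odd (Nat.card G) with h2 | h2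
    swap
    · exact Cfsg.Agent.S0205.result h2
    obtain ⟨t, ht⟩ := exists_prime_orderOf_dvd_card' (G := G) 2 (even_iff_two_dvd.1 h2)
    have h1 : normalClosure {t} = ⊤ := (normalClosure_normal (s := {t})).eq_bot_or_eq_top.resolve_left fun e => by
      have := mem_bot.1 (e ▸ subset_normalClosure (s := {t}) rfl)
      simp [this] at ht
    have h3 : ∀ K : Subgroup G, (∀ s, orderOf s = 2 → s ∈ K) → ∀ y, y ∈ K := fun K hK y => by
      refine (closure_le K).2 (fun z hz => ?_) (h1 ▸ mem_top y : y ∈ normalClosure {t})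
      obtain ⟨z', hz', hc⟩ := Group.mem_conjugatesOfSet_iff.1 hz
      obtain ⟨g, rfl⟩ := isConj_iff.1 hc
      exact hK _ (by rw [Invol.orderOf_conj, hz', ht])
    refine solvable_of_two_gen fun a b => ?_
    obtain ⟨K, hK⟩ := h a
    refine (Set.ext_iff.1 hK b).1 (h3 K (fun s hs => (Set.ext_iff.1 hK s).2 ?_) b)
    obtain ⟨L, hL⟩ := h s
    rw [Set.mem_ofPred_eq, Set.pair_comm]
    refine (Set.ext_iff.1 hL a).1 (h3 L (fun u hu => (Set.ext_iff.1 hL u).2 ?_) a)
    have e : ∀ v : G, orderOf v = 2 → v⁻¹ = v := fun v hv =>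
      inv_eq_of_mul_eq_one_right (by rw [← pow_two, ← hv, pow_orderOf_eq_one])
    have c : ∀ v : G, Group.IsSolvable (zpowers v) := fun v => Group.isSolvable_of_comm fun a b => mul_comm' a b
    refine solvable_of_le ((closure_le _).2 (Set.pair_subset (mem_sup_right (mem_zpowers s)) ?_))
      (Sig.solv_sup (c (s * u)) (c s) (zpowers_le.2 (cj_eq_self_iff.1 ?_)))
    · simpa using mul_mem (inv_mem (mem_sup_right (S := zpowers (s * u)) (mem_zpowers s)))
        (mem_sup_left (mem_zpowers (s * u)))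
    · rw [cj_zpowers, ← zpowers_inv (g := s * u), mul_inv_rev, e u hu]
      congr 1
      rw [← mul_assoc s s, show s * s = 1 by rw [← pow_two, ← hs, pow_orderOf_eq_one], one_mul]

end Cfsg.Agent.S4078
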