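import Cfsg.Statements.S4079
import Cfsg.Agent.Lib.Fus3.Black

set_option autoImplicit false
open Cfsg

namespace Cfsg.Agent.S4079

open Cfsg.Lib Cfsg.Lib.PGrp Subgroup
open scoped commutatorElement

theorem comm_pow {K : Type*} [Group K] [Finite K] {p : ℕ} [Fact p.Prime] (hK : IsPGroup p K) (h : IsMetacyclic K)
    (he : ∀ g : K, g ^ p ^ 2 = 1) (u v : K) : ⁅u, v⁆ ^ p = 1 := by
  obtain ⟨a, b, hn, hab⟩ := isMetacyclic_iff.1 h
  obtain ⟨c, hc, e⟩ := exists_commutator_eq (A := zpowers a) inferInstance hab (commutator_mem u v)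
  by_cases h1 : zpowers a = ⊥
  · rw [← e, mem_bot.1 (h1.le hc)]; simp
  have h2 := le_powerClosure_of_lt hK inferInstance (commutator_top_lt hK _ h1)
    (commutator_mem_commutator hc (mem_top b))
  rw [powerClosure_zpowers, pow_one] at h2
  obtain ⟨k, hk⟩ := exists_pow_eq_of_mem_zpowers h2
  rw [← e, ← commutatorElement_inv, inv_pow, ← hk, ← pow_mul, ← pow_mul, mul_comm k, ← mul_assoc, pow_mul, ← pow_two,
    he, one_pow, inv_one]

theorem key {G : Type*} [Group G] [Finite G] {p m : ℕ} [hp : Fact p.Prime] (hp2 : p ≠ 2) (hG : Nat.card G = p ^ (m + 1))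
    {M : Subgroup G} (hi : M.index = p) (hmc : IsMetacyclic M) (hc : ¬ IsCyclic M)
    (hnc : ∀ b ∈ M, (zpowers b).relIndex M ≠ p) {x : G} (hx : x ∉ M) (hxp : x ^ p = 1) :
    (∃ y ∈ M, y ^ p = 1 ∧ ¬ Commute x y) ↔ p = 3 ∧ Group.nilpotencyClass G = m := by
  have hP := IsPGroup.of_card hG
  have hMp := hP.to_subgroup M
  have hreg := weakReg_of_isMetacyclic hp2 hMp hmc
  obtain ⟨W, hW⟩ : ∃ W, W = omegaOne p M := ⟨_, rfl⟩
  obtain ⟨o1, o2⟩ := omegaOne_of_isMetacyclic hp2 hMp hmc hc
  have hWc : Nat.card W = p ^ 2 := by rw [hW, ← card_omegaOne_top_subgroup, o2]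
  have hmem : ∀ y, y ∈ W ↔ y ∈ M ∧ y ^ p = 1 := fun y => ⟨fun hy => by
    rw [hW, ← map_subtype_omegaOne_top] at hy
    obtain ⟨z, hz, rfl⟩ := hy
    exact ⟨z.2, congrArg Subtype.val (o1.2 z hz)⟩, fun hy => hW ▸ mem_omegaOne_of_pow hy.1 hy.2⟩
  have hB : ∀ y ∉ M, y ∉ centralizer (W : Set G) → Bl p M W y := fun y h1 h2 => ⟨hP, hp2, hi, hreg, hmem, hWc, h1, h2⟩
  have hMc : Nat.card M = p ^ m := by
    have := M.card_mul_index
    rw [hi, hG, pow_succ] at this
    exact Nat.eq_of_mul_eq_mul_right hp.out.pos this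
  have hWM : W ≤ M := fun y hy => ((hmem y).1 hy).1
  have hMn := normal_of_index_eq hP hi
  have hWn : W.Normal := hW ▸ omegaOne_normal p M
  have hne : ∀ b, W ⊔ zpowers b ≠ M := by
    have aux : ∀ b, b ≠ 1 → W ⊔ zpowers b ≠ M := fun b hb e => by
      have hbM : zpowers b ≤ M := e ▸ le_sup_right
      obtain ⟨k, hk⟩ := exists_pow_orderOf_eq hP hb
      have h1 : Nat.card ↥(zpowers b ⊓ W) = p := le_antisymm
        (card_le_of_isCyclic_of_pow (isCyclic_of_le' inferInstance inf_le_left) fun _ hy => ((hmem _).1 hy.2).2) (by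
          rw [← hk, ← Nat.card_zpowers]
          exact card_le_of_le (zpowers_le.2 ⟨npow_mem_zpowers _ _, (hmem _).2
            ⟨hbM (npow_mem_zpowers _ _), orderOf_dvd_iff_pow_eq_one.1 hk.dvd⟩⟩))
      have h2 := card_sup_mul_card_inf (zpowers b) W
      rw [sup_comm, e, h1, hWc, ← card_mul_relIndex_of_le hbM, mul_assoc, pow_two] at h2
      exact hnc b (hbM (mem_zpowers b))
        (Nat.eq_of_mul_eq_mul_right hp.out.pos (Nat.eq_of_mul_eq_mul_left Nat.card_pos h2))
    intro b e
    by_cases hb : b = 1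
    · obtain ⟨w, hw, hw1⟩ := W.bot_or_exists_ne_one.resolve_left fun e => by
        rw [e, card_bot] at hWc
        exact (Nat.one_lt_pow two_ne_zero hp.out.one_lt).ne hWc
      rw [hb, zpowers_one_eq_bot, sup_bot_eq] at e
      exact aux w hw1 (by rw [sup_eq_left.2 (zpowers_le.2 hw), e])
    · exact aux b hb e
  have hpow : ∀ u ∈ M, ∀ v ∈ M, ⁅u, v⁆ ^ p = 1 → Commute (u ^ p) v := fun u hu v hv h => by
    have := (hreg.commute_pow_iff hMp 1 ⟨_, hu⟩ ⟨_, hv⟩).2 (Subtype.ext (by simpa [commutatorElement_def] using h))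
    exact congrArg Subtype.val (pow_one p ▸ this).eq
  constructor
  · rintro ⟨y, hy, h1, h2⟩
    have h := hB x hx fun e => h2 (e y ((hmem y).2 ⟨hy, h1⟩)).symm
    obtain ⟨h3, h4⟩ := h.three (h.dich.resolve_left fun ⟨b, hb⟩ => hne b hb) (fun u hu v hv k1 k2 => hpow u hu v hv (by
      have hm : ∀ u (hu : u ∈ M), u ^ p ∈ W → (⟨u, hu⟩ : M) ∈ omegaOne (p ^ 2) (⊤ : Subgroup M) := fun u hu k =>
        mem_omegaOne_of_pow trivial (Subtype.ext (by simpa [pow_two, pow_mul] using h.pow k))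
      have := comm_pow (hMp.to_subgroup _) (isMetacyclic_subgroup hmc (omegaOne (p ^ 2) ⊤))
        (fun g => Subtype.ext (hreg.pow_pow_eq_one_of_mem_omegaOne hMp 2 _ g.1 g.2)) ⟨_, hm u hu k1⟩ ⟨_, hm v hv k2⟩
      simpa [Subtype.ext_iff, commutatorElement_def] using this)) fun u _ _ => hxp ▸ Commute.one_left u
    exact ⟨h3, maxClass_of_centralizer hG (le_antisymm h4 (sq_le_card_centralizer hP (hWc ▸ card_le_card_group W) x))⟩
  rintro ⟨-, hcl⟩
  have hlt : W < M := lt_of_le_of_ne hWM fun e => hne 1 (by rw [zpowers_one_eq_bot, sup_bot_eq, e])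
  have hm : 2 < m := (Nat.pow_lt_pow_iff_right hp.out.one_lt).1 (hWc ▸ hMc ▸ card_lt_of_lt hlt)
  obtain ⟨m, rfl⟩ : ∃ k, m = k + 3 := ⟨m - 3, by omega⟩
  have hl : ∀ (N : Subgroup G) [N.Normal], Nat.card N = p ^ 2 → N = (⊤ : Subgroup G).lowerCentralSeries (m + 1) :=
    fun N _ hN => eq_lcs_of_maxClass (r := m + 2) hG hcl (by omega) N (by omega) (by
      have := N.card_mul_index
      rw [hN, hG, show m + 3 + 1 = 2 + (m + 2) by omega, pow_add] at this
      exact Nat.eq_of_mul_eq_mul_left (pow_pos hp.out.pos 2) this)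
  have hz : ¬ W ≤ center G := fun e => by
    have := hP.isNilpotent
    have h1 : (⊤ : Subgroup G).lowerCentralSeries (m + 2) = ⊥ := by
      rw [Subgroup.lowerCentralSeries_succ, ← hl W hWc]
      exact commutator_eq_bot_iff_le_centralizer.2 fun w hw g _ => mem_center_iff.1 (e hw) g
    have := Subgroup.lowerCentralSeries_eq_bot_iff_nilpotencyClass_le.1 h1
    omega
  have k3 : IsCyclic ↥⁅M, M⁆ := by
    have := isCyclic_map M.subtype (isCyclic_commutator_of_isMetacyclic hmc)
    rwa [_root_.commutator, map_commutator, ← MonoidHom.range_eq_map, range_subtype] at this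
  have k4 : Nat.card ↥⁅M, M⁆ ≤ p ^ 1 := card_le_pow_of_lt (hP.to_subgroup _) (not_le.1 fun e => by
    obtain ⟨N, hN, h1, h2⟩ := exists_normal_le_card_eq hP _ _ e
    rw [hl N h2, ← hl W hWc] at h1
    exact not_isCyclic_of_isElementaryAbelian ⟨isMulCommutative_of_card_le_sq (hP.to_subgroup _) hWc.le,
      fun y hy => ((hmem y).1 hy).2⟩ (hWc ▸ lt_self_pow₀ hp.out.one_lt one_lt_two) (isCyclic_of_le' k3 h1))
  have k5 : ∀ u ∈ M, ∀ v ∈ M, Commute (u ^ p) v := fun u hu v hv => hpow u hu v hv (by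
    rcases eq_bot_or_card_eq (hP.to_subgroup _) (k4.trans (pow_one p).le) with e | e
    · rw [mem_bot.1 (e.le (commutator_mem_commutator hu hv)), one_pow]
    · exact congrArg Subtype.val (e ▸ pow_card_eq_one' : (⟨_, commutator_mem_commutator hu hv⟩ : ↥⁅M, M⁆) ^ p = 1))
  by_contra hn
  push Not at hn
  have hxc : x ∈ centralizer (W : Set G) := fun w hw => (hn w (hWM hw) ((hmem w).1 hw).2).symm.eq
  have htop := sup_zpowers_eq_top_of_index_eq hP hi hx
  have hM : ¬ M ≤ centralizer (W : Set G) := fun e => hz fun w hw => mem_center_iff.2 fun g =>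
    ((htop ▸ sup_le e (zpowers_le.2 hxc) : ⊤ ≤ centralizer (W : Set G)) (mem_top g) w hw).symm
  obtain ⟨g, hg, hg'⟩ := SetLike.not_le_iff_exists.1 hM
  have h := hB (g * x) (fun e => hx ((M.mul_mem_cancel_left hg).1 e))
    fun e => hg' (((centralizer (W : Set G)).mul_mem_cancel_right hxc).1 e)
  refine hg' fun w hw => ?_
  obtain ⟨u, hu, rfl⟩ := h.dich.resolve_left (fun ⟨b, hb⟩ => hne b hb) w hw
  exact (k5 u hu g hg).eq

/-- Let p be an odd prime and L a finite metacyclic p-group with no cyclic subgroup of index p, and let a be an automorphism of L of order p. Then a moves some element of order p of L if and only if p = 3 and the semidirect product L ⋊ ⟨a⟩ (of order 3·#L) has maximal class, i.e. nilpotency class m where #L = 3^m. -/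
theorem result {L : Type*} [Group L] [Finite L] {p : ℕ} [Fact p.Prime]
    (hp : p ≠ 2) (hL : IsPGroup p L) (hmc : Cfsg.IsMetacyclic L) (hnc : ∀ C : Subgroup L, IsCyclic C → C.index ≠ p)
    (a : MulAut L) (ha : orderOf a = p) (m : ℕ) (hm : Nat.card L = p ^ m) :
    (∃ x : L, orderOf x = p ∧ a x ≠ x) ↔
    (p = 3 ∧ Group.nilpotencyClass (SemidirectProduct L ↥(Subgroup.zpowers a) (Subgroup.zpowers a).subtype) = m) := by
  have hq : p.Prime := Fact.out
  have hf : Finite (SemidirectProduct L (zpowers a) (zpowers a).subtype) :=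
    Finite.of_equiv _ SemidirectProduct.equivProd.symm
  have hc : Nat.card (SemidirectProduct L (zpowers a) (zpowers a).subtype) = p ^ (m + 1) := by
    rw [SemidirectProduct.card, hm, Nat.card_zpowers, ha, pow_succ]
  have e := MonoidHom.ofInjective (SemidirectProduct.inl_injective (φ := (zpowers a).subtype))
  have hn : ¬ IsCyclic L := fun h => by
    obtain ⟨C, -, h1, -⟩ := exists_index_eq_of_ne_top hL (H := ⊥) fun e => by
      have : a = 1 := MulEquiv.ext fun y => (mem_bot.1 (e.ge (mem_top _))).trans (mem_bot.1 (e.ge (mem_top _))).symm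
      exact hq.one_lt.ne (by rw [← ha, this, orderOf_one])
    exact hnc C inferInstance h1
  have hx : ∀ y : L, Commute (SemidirectProduct.inr ⟨a, mem_zpowers a⟩ :
      SemidirectProduct L (zpowers a) (zpowers a).subtype) (SemidirectProduct.inl y) ↔ a y = y := fun y => by
    simp [Commute, SemiconjBy, SemidirectProduct.ext_iff]
  rw [← key hp hc (M := SemidirectProduct.inl.range) (x := SemidirectProduct.inr ⟨a, mem_zpowers a⟩) ?_
    (isMetacyclic_of_surjective e.toMonoidHom e.surjective hmc) (fun h => hn (isCyclic_of_surjective _ e.symm.surjective))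
    ?_ ?_ ?_]
  · constructor
    · rintro ⟨y, h1, h2⟩
      exact ⟨_, ⟨y, rfl⟩, by rw [← map_pow, ← h1, pow_orderOf_eq_one, map_one], fun h => h2 ((hx y).1 h)⟩
    · rintro ⟨_, ⟨y, rfl⟩, h1, h2⟩
      refine ⟨y, orderOf_eq_prime (SemidirectProduct.inl_injective (by rw [map_pow, h1, map_one])) fun h => h2 ?_,
        fun h => h2 ((hx y).2 h)⟩
      rw [h, map_one]; exact Commute.one_right _
  · have := (SemidirectProduct.inl (φ := (zpowers a).subtype)).range.card_mul_index
    rw [hc, ← Nat.card_congr e.toEquiv, hm, pow_succ] at this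
    exact Nat.eq_of_mul_eq_mul_left (pow_pos hq.pos m) this
  · rintro _ ⟨b, rfl⟩ h
    rw [← MonoidHom.map_zpowers, MonoidHom.range_eq_map,
      relIndex_map_map_of_injective _ _ SemidirectProduct.inl_injective, relIndex_top_right] at h
    exact hnc _ inferInstance h
  · rintro ⟨y, hy⟩
    have : a = 1 := by simpa [Subtype.ext_iff, eq_comm] using congrArg SemidirectProduct.right hy
    exact hq.one_lt.ne (by rw [← ha, this, orderOf_one])
  · rw [← map_pow, ← map_one SemidirectProduct.inr]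
    exact congrArg _ (Subtype.ext (ha ▸ pow_orderOf_eq_one a))

end Cfsg.Agent.S4079
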