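import Cfsg.Statements.S4080
import Cfsg.Agent.Lib.PGrp.Cyclic

set_option autoImplicit false
open Cfsg

namespace Cfsg.Agent.S4080

open SemidirectProduct Subgroup Cfsg.Lib

/-- Let p > 3 be a prime and L the direct product of two cyclic groups of order p². Every automorphism of L of order p fixes every element of order p of L. -/
theorem result {p : ℕ} [Fact p.Prime] (hp : 3 < p)
    (a : MulAut (Multiplicative (ZMod (p ^ 2) × ZMod (p ^ 2)))) (ha : orderOf a = p)
    (x : Multiplicative (ZMod (p ^ 2) × ZMod (p ^ 2))) (hx : orderOf x = p) : a x = x := by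
  have hp' : p.Prime := Fact.out
  have : NeZero (p ^ 2) := ⟨pow_ne_zero _ hp'.ne_zero⟩
  have e : ∀ c : ZMod (p ^ 2), p • c = 0 → ∃ y, c = p • y := fun c hc => by
    rw [← ZMod.natCast_zmod_val c, nsmul_eq_mul, ← Nat.cast_mul, ZMod.natCast_eq_zero_iff] at hc
    obtain ⟨y, hy⟩ := (Nat.mul_dvd_mul_iff_left hp'.pos).1 ((sq p).symm.dvd.trans hc)
    exact ⟨y, by rw [← ZMod.natCast_zmod_val c, hy, nsmul_eq_mul, Nat.cast_mul]⟩
  have h1 : p • x.toAdd = 0 := congrArg Multiplicative.toAdd (orderOf_dvd_iff_pow_eq_one.1 hx.dvd)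
  obtain ⟨y, hy⟩ := e _ (congrArg Prod.fst h1)
  obtain ⟨z, hz⟩ := e _ (congrArg Prod.snd h1)
  obtain rfl : x = Multiplicative.ofAdd (y, z) ^ p := congrArg Multiplicative.ofAdd (Prod.ext hy hz)
  generalize Multiplicative.ofAdd (y, z) = v
  let G := SemidirectProduct _ (zpowers a) (zpowers a).subtype
  have hc : Nat.card G = p ^ 5 := by
    rw [SemidirectProduct.card, Nat.card_zpowers, ha]
    simp [Nat.card_prod]
    ring
  have : Finite G := Nat.finite_of_card_ne_zero (hc ▸ pow_ne_zero _ hp'.ne_zero)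
  have hG := IsPGroup.of_card hc
  have h5 : 5 ≤ p := hp'.five_le_of_ne_two_of_ne_three (by omega) (by omega)
  have hR := PGrp.weakReg_of_card_le hG (hc ▸ Nat.pow_le_pow_right hp'.pos h5)
  let b : G := inr ⟨a, mem_zpowers a⟩
  have h2 := (hR.commute_pow_iff hG 1 b (inl v)).1 (by
    rw [pow_one, ← map_pow, show (⟨a, mem_zpowers a⟩ : zpowers a) ^ p = 1 from
      Subtype.ext (orderOf_dvd_iff_pow_eq_one.1 ha.dvd), map_one]
    exact Commute.one_left _)
  rw [← commutatorElement_inv, inv_pow, inv_eq_one, ← hR.commute_pow_iff hG, pow_one,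
    ← map_pow] at h2
  refine inl_injective (φ := (zpowers a).subtype) ?_
  rw [show a (v ^ p) = (zpowers a).subtype ⟨a, mem_zpowers a⟩ (v ^ p) from rfl, inl_aut, ← h2.eq,
    map_inv, mul_inv_cancel_right]

end Cfsg.Agent.S4080
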