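import Cfsg.Statements.S4081
import Cfsg.Agent.Lib.Hall.ClassSize
import Cfsg.Agent.Lib.BG1.Elem
import Cfsg.Agent.Lib.BG1.Sec3b0
import Cfsg.Agent.Lib.Coprime.FrobCompl

set_option autoImplicit false
open Cfsg

namespace Cfsg.Agent.S4081

open scoped Pointwise
open Cfsg.Lib Cfsg.Lib.Hall

open Polynomial

theorem aeval_cyclotomic_eq_zero {p q : ℕ} [Fact p.Prime] [hq : Fact q.Prime] {V : Type*} [AddCommGroup V]
    [Module (ZMod p) V] (T : Module.End (ZMod p) V) (hT : T ^ q = 1)
    (hinj : Function.Injective ⇑(T - 1)) : aeval T (cyclotomic q (ZMod p)) = 0 := by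
  have h1 := congrArg (aeval T) (cyclotomic_prime_mul_X_sub_one (ZMod p) q)
  rw [mul_comm] at h1
  simp only [map_mul, map_sub, aeval_X, map_one, map_pow, hT, sub_self] at h1
  ext v
  apply hinj
  rw [← Module.End.mul_apply, h1]; simp

theorem order_coe {p q : ℕ} (h : (p ^ 1).Coprime q) :
    orderOf (ZMod.unitOfCoprime _ h) = orderOf (p : ZMod q) := by
  rw [← orderOf_units, ZMod.coe_unitOfCoprime, pow_one]

theorem linA {p q : ℕ} [hp : Fact p.Prime] [hq : Fact q.Prime] (hpq : p ≠ q) {V : Type*}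
    [AddCommGroup V] [Module (ZMod p) V] [Finite V] [Nontrivial V] (T : Module.End (ZMod p) V)
    (hT : T ^ q = 1) (hinj : Function.Injective ⇑(T - 1))
    (h1 : ∀ f : (ZMod p)[X], aeval T f = 0 ∨ Function.Injective ⇑(aeval T f))
    (h2 : ∀ i, 0 < i → i < q → ∃ S : Module.End (ZMod p) V, Function.Surjective S ∧
      S * T = T ^ i * S) : orderOf (p : ZMod q) = q - 1 := by
  classical
  haveI : Module.Finite (ZMod p) V := Module.Finite.of_finite
  have hint : IsIntegral (ZMod p) T := Algebra.IsIntegral.isIntegral T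
  set f := minpoly (ZMod p) T with hf
  have hcop : p.Coprime q := (Nat.coprime_primes hp.out hq.out).2 hpq
  have hirr : Irreducible f := by
    refine (irreducible_of_monic (minpoly.monic hint) (minpoly.ne_one _ _)).2 fun a b ha hb hab => ?_
    have h3 : aeval T a * aeval T b = 0 := by rw [← map_mul, hab, minpoly.aeval]
    rcases h1 a with h | h
    · right
      have := minpoly.dvd (ZMod p) T h
      rw [← hf, hf, ← hab] at this
      have h4 : a * b ∣ a * 1 := by simpa using this
      exact hb.isUnit_iff.1 (isUnit_of_dvd_one ((mul_dvd_mul_iff_left ha.ne_zero).1 h4))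
    · left
      have h5 : aeval T b = 0 := by
        ext v; apply h; rw [← Module.End.mul_apply, h3]; simp
      have := minpoly.dvd (ZMod p) T h5
      rw [← hf, hf, ← hab] at this
      have h4 : a * b ∣ 1 * b := by simpa using this
      exact ha.isUnit_iff.1 (isUnit_of_dvd_one ((mul_dvd_mul_iff_right hb.ne_zero).1 h4))
  have hdvd : f ∣ cyclotomic q (ZMod p) := minpoly.dvd _ _ (aeval_cyclotomic_eq_zero T hT hinj)
  have hdeg := natDegree_of_dvd_cyclotomic_of_irreducible (K := ZMod p) (p := p) (f := 1)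
    (by simp) hcop hdvd hirr
  rw [order_coe] at hdeg
  refine le_antisymm ?_ ?_
  · have : (p : ZMod q) ≠ 0 := by
      rw [Ne, ZMod.natCast_eq_zero_iff]
      exact fun h => hpq ((Nat.prime_dvd_prime_iff_eq hq.out hp.out).1 h).symm
    exact orderOf_le_of_pow_eq_one (Nat.sub_pos_of_lt hq.out.one_lt) (ZMod.pow_card_sub_one_eq_one this)
  rw [← hdeg]
  haveI := Fact.mk hirr
  set t := AdjoinRoot.root f
  haveI : CharP (AdjoinRoot f) p := charP_of_injective_algebraMap (algebraMap (ZMod p) _).injective p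
  haveI : NeZero ((q : ℕ) : AdjoinRoot f) := ⟨by
    rw [Ne, CharP.cast_eq_zero_iff _ p]
    exact fun h => hpq ((Nat.prime_dvd_prime_iff_eq hp.out hq.out).1 h)⟩
  have ht : IsPrimitiveRoot t q := by
    rw [← isRoot_cyclotomic_iff, ← map_cyclotomic q (algebraMap (ZMod p) (AdjoinRoot f)),
      IsRoot.def, eval_map_algebraMap]
    obtain ⟨c, hc⟩ := hdvd
    rw [hc, map_mul, AdjoinRoot.aeval_eq, AdjoinRoot.mk_self, zero_mul]
  have hroot : ∀ i, 0 < i → i < q → aeval (t ^ i) f = 0 := by
    intro i hi hiq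
    obtain ⟨S, hS, hST⟩ := h2 i hi hiq
    have key : ∀ g : (ZMod p)[X], S * aeval T g = aeval (T ^ i) g * S := by
      intro g
      induction g using Polynomial.induction_on with
      | C a => simp [Algebra.commutes]
      | add g h hg hh => simp [mul_add, add_mul, hg, hh]
      | monomial n a h =>
        rw [pow_succ, ← mul_assoc, map_mul, map_mul (aeval (T ^ i)), aeval_X, aeval_X,
          ← mul_assoc, h, mul_assoc, hST, mul_assoc]
    have h3 : aeval (T ^ i) f = 0 := by
      have := key f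
      rw [minpoly.aeval, mul_zero] at this
      ext v
      obtain ⟨w, rfl⟩ := hS v
      rw [← Module.End.mul_apply, ← this]; simp
    have h4 : f ∣ f.comp (X ^ i) := minpoly.dvd _ _ (by rw [aeval_comp]; simpa using h3)
    obtain ⟨c, hc⟩ := h4
    have h5 := congrArg (aeval t) hc
    rw [aeval_comp, map_mul, AdjoinRoot.aeval_eq f, AdjoinRoot.mk_self, zero_mul] at h5
    simpa using h5
  have hsub : (Finset.Ioo 0 q).image (t ^ ·) ⊆ (f.aroots (AdjoinRoot f)).toFinset := by
    intro y hy
    obtain ⟨i, hi, rfl⟩ := Finset.mem_image.1 hy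
    rw [Multiset.mem_toFinset, mem_aroots]
    exact ⟨hirr.ne_zero, hroot i (Finset.mem_Ioo.1 hi).1 (Finset.mem_Ioo.1 hi).2⟩
  have h6 := Finset.card_le_card hsub
  rw [Finset.card_image_of_injOn fun i hi j hj h => ht.pow_inj (by simp at hi; exact hi.2)
    (by simp at hj; exact hj.2) h, Nat.card_Ioo] at h6
  refine h6.trans ((Multiset.toFinset_card_le _).trans ?_)
  exact (card_roots' _).trans (natDegree_map_le)

theorem linB {p q : ℕ} [hp : Fact p.Prime] [hq : Fact q.Prime] (hpq : p ≠ q) {V : Type*}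
    [AddCommGroup V] [Module (ZMod p) V] [Finite V] (T : Module.End (ZMod p) V)
    (hT : T ^ q = 1) (hinj : Function.Injective ⇑(T - 1)) (ho : orderOf (p : ZMod q) = q - 1) :
    (∀ v w : V, v ≠ 0 → w ≠ 0 → ∃ S : V ≃+ V, S v = w ∧ ∀ u, S (T u) = T (S u)) ∧
      ∃ S : V ≃+ V, ∀ u, S (T u) = (T ^ p) (S u) := by
  classical
  have hcop : p.Coprime q := (Nat.coprime_primes hp.out hq.out).2 hpq
  set f := cyclotomic q (ZMod p) with hf
  have hirr : Irreducible f := irreducible_of_dvd_cyclotomic_of_natDegree (K := ZMod p) (p := p)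
    (f := 1) (by simp) hcop dvd_rfl (by
      rw [order_coe, ho, natDegree_cyclotomic, Nat.totient_prime hq.out])
  haveI := Fact.mk hirr
  let ρ : AdjoinRoot f →+* Module.End (ZMod p) V :=
    Ideal.Quotient.lift (Ideal.span {f}) (aeval T : (ZMod p)[X] →ₐ[ZMod p] _).toRingHom (by
      intro a ha
      obtain ⟨c, rfl⟩ := Ideal.mem_span_singleton'.1 ha
      simp [hf, aeval_cyclotomic_eq_zero T hT hinj])
  have hρ : ρ (AdjoinRoot.root f) = T := by
    show aeval T (X : (ZMod p)[X]) = T
    simp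
  letI : Module (AdjoinRoot f) V := Module.compHom V ρ
  have hsm : ∀ (a : AdjoinRoot f) (v : V), a • v = ρ a v := fun _ _ => rfl
  haveI : Module.Finite (AdjoinRoot f) V := Module.Finite.of_finite
  constructor
  · intro v w hv hw
    obtain ⟨g, hg⟩ := Submodule.exists_linearEquiv_restrict_eq
      ((LinearEquiv.toSpanNonzeroSingleton (AdjoinRoot f) V v hv).symm ≪≫ₗ
        LinearEquiv.toSpanNonzeroSingleton (AdjoinRoot f) V w hw)
    refine ⟨g.toAddEquiv, ?_, fun u => ?_⟩
    · have := hg (LinearEquiv.toSpanNonzeroSingleton (AdjoinRoot f) V v hv 1)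
      rw [LinearEquiv.trans_apply, LinearEquiv.symm_apply_apply] at this
      simpa using this.symm
    · have := g.map_smul (AdjoinRoot.root f) u
      rwa [hsm, hsm, hρ] at this
  · haveI : CharP (AdjoinRoot f) p :=
      charP_of_injective_algebraMap (algebraMap (ZMod p) _).injective p
    haveI : ExpChar (AdjoinRoot f) p := ExpChar.prime hp.out
    let b := Module.finBasis (AdjoinRoot f) V
    let S : V →+ V :=
      { toFun := fun v => b.equivFun.symm fun i => frobenius _ p (b.equivFun v i)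
        map_zero' := by simp
        map_add' := fun u v => by
          rw [← map_add]; congr 1; ext i; simp }
    have hS : Function.Injective S := fun u v h => by
      have := b.equivFun.symm.injective h
      refine b.equivFun.injective (funext fun i => (frobenius _ p).injective (congrFun this i))
    refine ⟨AddEquiv.ofBijective S (Finite.injective_iff_bijective.1 hS), fun u => ?_⟩
    show S (T u) = (T ^ p) (S u)
    rw [← hρ, ← map_pow, ← hsm, ← hsm]
    show b.equivFun.symm _ = _ • b.equivFun.symm _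
    rw [← map_smul]
    congr 1; ext i; simp [frobenius_def, mul_pow]

theorem linH1 {p : ℕ} [hp : Fact p.Prime] {V : Type*}
    [AddCommGroup V] [Module (ZMod p) V] [Finite V] (T : Module.End (ZMod p) V)
    (h : ∀ v w : V, v ≠ 0 → w ≠ 0 → ∃ (S : Module.End (ZMod p) V) (i : ℕ), Function.Injective S ∧
      S v = w ∧ S * T = T ^ i * S) (f : (ZMod p)[X]) :
    aeval T f = 0 ∨ Function.Injective ⇑(aeval T f) := by
  let W : V → Submodule (ZMod p) V := fun v =>
    LinearMap.range ((LinearMap.applyₗ v).comp (aeval T : (ZMod p)[X] →ₐ[ZMod p] _).toLinearMap)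
  have mem : ∀ v w, w ∈ W v ↔ ∃ g : (ZMod p)[X], aeval T g v = w := fun v w => Iff.rfl
  have self : ∀ v, v ∈ W v := fun v => (mem v v).2 ⟨1, by simp⟩
  have hle : ∀ v w, w ∈ W v → W w ≤ W v := by
    intro v w hw u hu
    obtain ⟨a, rfl⟩ := (mem _ _).1 hw
    obtain ⟨b, rfl⟩ := (mem _ _).1 hu
    exact (mem _ _).2 ⟨b * a, by simp⟩
  have hcard : ∀ v w : V, v ≠ 0 → w ≠ 0 → Nat.card (W v) ≤ Nat.card (W w) := by
    intro v w hv hw
    obtain ⟨S, i, hS, rfl, hST⟩ := h v w hv hw
    have key : ∀ g : (ZMod p)[X], S * aeval T g = aeval (T ^ i) g * S := by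
      intro g
      induction g using Polynomial.induction_on with
      | C a => simp [Algebra.commutes]
      | add g h hg hh => simp [mul_add, add_mul, hg, hh]
      | monomial n a h =>
        rw [pow_succ, ← mul_assoc, map_mul, map_mul (aeval (T ^ i)), aeval_X, aeval_X,
          ← mul_assoc, h, mul_assoc, hST, mul_assoc]
    have h1 : ∀ u ∈ W v, S u ∈ W (S v) := by
      intro u hu
      obtain ⟨a, rfl⟩ := (mem _ _).1 hu
      refine (mem _ _).2 ⟨a.comp (X ^ i), ?_⟩
      rw [← Module.End.mul_apply S, key, aeval_comp]; simp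
    exact Nat.card_le_card_of_injective (fun u : W v => (⟨S u, h1 u u.2⟩ : W (S v)))
      fun a b hab => Subtype.ext (hS (congrArg Subtype.val hab))
  have heq : ∀ v w : V, v ≠ 0 → w ≠ 0 → w ∈ W v → W w = W v := fun v w hv hw h' =>
    SetLike.coe_injective (Set.eq_of_subset_of_ncard_le (hle v w h') (hcard v w hv hw))
  by_contra hc
  push Not at hc
  obtain ⟨w, hw⟩ : ∃ w, aeval T f w ≠ 0 := by
    by_contra h'
    push Not at h'
    exact hc.1 (LinearMap.ext h')
  obtain ⟨v, hv, hv0⟩ : ∃ v, aeval T f v = 0 ∧ v ≠ 0 := by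
    by_contra h'
    push Not at h'
    exact hc.2 ((injective_iff_map_eq_zero _).2 h')
  have hw0 : w ≠ 0 := fun e => hw (by rw [e, map_zero])
  have h1 : aeval T f (v + w) = aeval T f w := by rw [map_add, hv, zero_add]
  have hvw : v + w ≠ 0 := fun e => hw (by rw [← h1, e, map_zero])
  have e1 := heq w _ hw0 hw ((mem _ _).2 ⟨f, rfl⟩)
  have e2 := heq (v + w) _ hvw hw ((mem _ _).2 ⟨f, h1⟩)
  have h2 : v ∈ W w := by
    have := (W w).sub_mem (e1 ▸ e2 ▸ self (v + w)) (self w)
    simpa using this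
  have h3 : w ∈ W v := heq w v hw0 hv0 h2 ▸ self w
  obtain ⟨a, rfl⟩ := (mem _ _).1 h3
  apply hw
  rw [← Module.End.mul_apply, ← map_mul, mul_comm, map_mul, Module.End.mul_apply, hv, map_zero]

open scoped IsMulCommutative in
theorem exists_aut {G : Type*} [Group G] [Finite G] (P : Subgroup G) [P.Normal] {x : G}
    (hc : P.IsComplement' (Subgroup.zpowers x)) (φ : P ≃* P) (j : ℕ) (hj : j.Coprime (orderOf x))
    (h : ∀ u : P, (φ (MulAut.conjNormal x u) : G) = x ^ j * φ u * (x ^ j)⁻¹) :
    ∃ α : MulAut G, (∀ u : P, α u = φ u) ∧ α x = x ^ j := by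
  have h' : ∀ (k : ℕ) (u : P), (φ (MulAut.conjNormal (x ^ k) u) : G) =
      (x ^ k) ^ j * φ u * ((x ^ k) ^ j)⁻¹ := by
    intro k
    induction k with
    | zero => simp
    | succ k ih =>
      intro u
      rw [pow_succ', map_mul, MulAut.mul_apply, h, ih, (Commute.self_pow x k).mul_pow]
      group
  let e := SemidirectProduct.mulEquivSubgroup hc
  let F := SemidirectProduct.lift
    (φ := (P.normalizerMonoidHom).comp (Subgroup.inclusion (P.normalizer_eq_top ▸ le_top)))
    (P.subtype.comp φ.toMonoidHom)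
    ((Subgroup.zpowers x).subtype.comp (powMonoidHom j)) (by
      rintro ⟨g, hg⟩
      obtain ⟨k, rfl⟩ := (Submonoid.mem_powers_iff _ _).1 (mem_powers_iff_mem_zpowers.2 hg)
      ext u
      exact h' k u)
  let β : G →* G := F.comp e.symm.toMonoidHom
  have b1 : ∀ u : P, β u = φ u := fun u => by
    have : e.symm u = SemidirectProduct.inl u := by
      rw [MulEquiv.symm_apply_eq]; simp [e]
    simp [β, F, this]
  have b2 : β x = x ^ j := by
    have : e.symm x = SemidirectProduct.inr ⟨x, Subgroup.mem_zpowers x⟩ := by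
      rw [MulEquiv.symm_apply_eq]; simp [e]
    simp [β, F, this]
  have hs : Function.Surjective β := by
    rw [← MonoidHom.range_eq_top, eq_top_iff, ← hc.sup_eq_top, sup_le_iff, Subgroup.zpowers_le]
    refine ⟨fun u hu => ⟨φ.symm ⟨u, hu⟩, by rw [b1]; simp⟩, ?_⟩
    exact mem_of_pow_mem_of_coprime hj ⟨x, b2⟩
  exact ⟨MulEquiv.ofBijective β (Finite.surjective_iff_bijective.1 hs), b1, b2⟩

theorem aux {G : Type*} [Group G] [Finite G] {p q : ℕ} [hp : Fact p.Prime] [hq : Fact q.Prime]
    (hpq : p ≠ q) {y x : G} (hy : orderOf y = p) (hx : orderOf x = q)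
    (horb : ∀ g : G, g = 1 ∨ (∃ α : MulAut G, α y = g) ∨ ∃ α : MulAut G, α x = g)
    (hO : pCore p G ≠ ⊥) :
    ∃ n : ℕ, 1 ≤ n ∧ Nat.card G = p ^ n * q ∧
      (∀ P : Sylow p G, (P : Subgroup G).Normal ∧ Cfsg.IsElementaryAbelian p (P : Subgroup G)) ∧
      orderOf (p : ZMod q) = q - 1 ∧
      ∀ x y : G, orderOf x = q → orderOf y = p → x * y * x⁻¹ ≠ y := by
  have hord : ∀ g : G, g = 1 ∨ (orderOf g = p ∧ ∃ α : MulAut G, α y = g) ∨
      (orderOf g = q ∧ ∃ α : MulAut G, α x = g) := fun g => by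
    rcases horb g with h | ⟨α, rfl⟩ | ⟨α, rfl⟩
    · exact Or.inl h
    · exact Or.inr (Or.inl ⟨by rw [MulEquiv.orderOf_eq, hy], α, rfl⟩)
    · exact Or.inr (Or.inr ⟨by rw [MulEquiv.orderOf_eq, hx], α, rfl⟩)
  have hpel : ∀ (H : Subgroup G), IsPGroup p H → ∀ g ∈ H, g = 1 ∨
      (orderOf g = p ∧ ∃ α : MulAut G, α y = g) := fun H hH g hg => by
    rcases hord g with h | h | ⟨h, -⟩
    · exact Or.inl h
    · exact Or.inr h
    · obtain ⟨k, hk⟩ := hH ⟨g, hg⟩
      have : q ∣ p ^ k := h ▸ orderOf_dvd_of_pow_eq_one (congrArg Subtype.val hk)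
      exact absurd ((Nat.prime_dvd_prime_iff_eq hq.out hp.out).1 (hq.out.dvd_of_dvd_pow this)).symm hpq
  set O := pCore p G with hOd
  haveI : O.Characteristic := Core.pCore_characteristic p G
  have hOp : IsPGroup p O := Core.isPGroup_pCore p G
  set Z : Subgroup G := O ⊓ Subgroup.centralizer (O : Set G) with hZ
  haveI : Z.Characteristic := inferInstance
  have hZ1 : Z ≠ ⊥ := by
    haveI := hOp.isNilpotent
    exact Core.inf_centralizer_ne_bot_of_nilpotent le_rfl le_rfl Subgroup.le_normalizer hO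
  have hchar : ∀ (α : MulAut G) (g : G), g ∈ Z → α g ∈ Z := fun α g hg => by
    have := Subgroup.characteristic_iff_map_le.1 ‹Z.Characteristic› α
    exact this ⟨g, hg, rfl⟩
  have hyZ : y ∈ Z := by
    obtain ⟨⟨z, hz⟩, hz1⟩ := (Subgroup.ne_bot_iff_exists_ne_one).1 hZ1
    rcases hpel O hOp z hz.1 with h | ⟨-, α, rfl⟩
    · exact absurd (Subtype.ext h) hz1
    · simpa using hchar α⁻¹ _ hz
  have hPZ : ∀ P : Sylow p G, (P : Subgroup G) = Z := fun P => by
    refine le_antisymm (fun g hg => ?_) (inf_le_left.trans (Core.pCore_le_sylow P))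
    rcases hpel P P.2 g hg with rfl | ⟨-, α, rfl⟩
    · exact Z.one_mem
    · exact hchar α y hyZ
  have hZp : IsPGroup p Z := hOp.to_le inf_le_left
  have hZe : Cfsg.IsElementaryAbelian p Z := by
    refine ⟨⟨⟨fun a b => Subtype.ext (b.2.2 a a.2.1)⟩⟩, fun a ha => ?_⟩
    rcases hpel Z hZp a ha with rfl | ⟨h, -⟩
    · simp
    · rw [← h, pow_orderOf_eq_one]
  have hfpf : ∀ x y : G, orderOf x = q → orderOf y = p → x * y * x⁻¹ ≠ y := by
    intro a b ha hb h
    have hc : Commute a b := by rw [mul_inv_eq_iff_eq_mul] at h; exact h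
    have h1 := hc.orderOf_mul_eq_mul_orderOf_of_coprime
      (by rw [ha, hb]; exact (Nat.coprime_primes hq.out hp.out).2 hpq.symm)
    rw [ha, hb] at h1
    have := hp.out.one_lt
    have := hq.out.one_lt
    rcases hord (a * b) with h | ⟨h, -⟩ | ⟨h, -⟩
    · rw [h, orderOf_one] at h1; nlinarith
    · rw [h] at h1; nlinarith
    · rw [h] at h1; nlinarith
  obtain ⟨P⟩ : Nonempty (Sylow p G) := inferInstance
  obtain ⟨n, hn⟩ := IsPGroup.iff_card.1 hZp
  have hprime : ∀ r : ℕ, r.Prime → r ∣ Nat.card G → r = p ∨ r = q := fun r hr h => by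
    haveI := Fact.mk hr
    obtain ⟨g, hg⟩ := exists_prime_orderOf_dvd_card' r h
    rcases hord g with h | ⟨h, -⟩ | ⟨h, -⟩
    · rw [h, orderOf_one] at hg; exact absurd hg.symm hr.ne_one
    · exact Or.inl (hg.symm.trans h)
    · exact Or.inr (hg.symm.trans h)
  have hi := Nat.eq_prime_pow_of_unique_prime_dvd (p := q) (Subgroup.index_ne_zero_of_finite (H := Z))
    fun {d} hd hdi => (hprime d hd (hdi.trans Z.index_dvd_card)).resolve_left (by
      rintro rfl
      exact P.not_dvd_index (hPZ P ▸ hdi))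
  generalize Z.index.primeFactorsList.length = b at hi
  have hG : Nat.card G = p ^ n * q ^ b := by rw [← hn, ← hi, Subgroup.card_mul_index]
  have hb : b = 1 := by
    rcases b with _ | _ | b
    · have : q ∣ p ^ n := by
        have := hx ▸ orderOf_dvd_natCard x
        rwa [hG, pow_zero, mul_one] at this
      exact absurd ((Nat.prime_dvd_prime_iff_eq hq.out hp.out).1 (hq.out.dvd_of_dvd_pow this)).symm hpq
    · rfl
    · exfalso
      obtain ⟨E, hE⟩ := Sylow.exists_subgroup_card_pow_prime (G := G) q (n := 2)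
        (by rw [hG]; exact Dvd.dvd.mul_left (pow_dvd_pow _ (by omega)) _)
      have hEq : ∀ g ∈ E, g = 1 ∨ orderOf g = q := fun g hg => by
        rcases hord g with h | ⟨h, -⟩ | ⟨h, -⟩
        · exact Or.inl h
        · have : p ∣ q ^ 2 := by
            rw [← hE, ← h, ← Subgroup.orderOf_mk g hg]; exact orderOf_dvd_natCard _
          exact absurd ((Nat.prime_dvd_prime_iff_eq hp.out hq.out).1 (hp.out.dvd_of_dvd_pow this)) hpq
        · exact Or.inr h
      have hF : Coprime.Fpf Z E := by
        intro r hr hr1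
        rw [eq_bot_iff]
        rintro z ⟨hz, hzr⟩
        rcases hpel Z hZp z hz with h | ⟨h, -⟩
        · exact h
        · refine absurd ?_ (hfpf r z ((hEq r hr).resolve_left hr1) h)
          rw [mul_inv_eq_iff_eq_mul]
          exact hzr r rfl
      have := hF.card_le_of_pow_eq_one (by rw [Subgroup.normalizer_eq_top]; exact le_top) hZ1 le_rfl
        (IsPGroup.isMulCommutative_of_card_eq_prime_sq hE) (n := q) (fun g hg => by
          rcases hEq g hg with rfl | h
          · simp
          · rw [← h, pow_orderOf_eq_one])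
      rw [hE] at this
      have h2 := Nat.le_of_dvd hq.out.pos this
      have := hq.out.one_lt
      nlinarith
  subst hb
  rw [pow_one] at hG
  refine ⟨n, ?_, hG, fun P => by rw [hPZ P]; exact ⟨inferInstance, hZe⟩, ?_, hfpf⟩
  · rcases n with _ | n
    · exact absurd (Subgroup.card_eq_one.1 (by simpa using hn)) hZ1
    · omega
  haveI := Fact.mk hZe
  have hc : Z.IsComplement' (Subgroup.zpowers x) := Subgroup.isComplement'_of_coprime
    (by rw [hn, Nat.card_zpowers, hx, hG])
    (by rw [hn, Nat.card_zpowers, hx]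
        exact ((Nat.coprime_primes hp.out hq.out).2 hpq).pow_left _)
  let T := BG1.autRep p Z (MulAut.conjNormal x)
  have hTv : ∀ (k : ℕ) (v : BG1.EV p Z), ((T ^ k) v).val = x ^ k * v.val * (x ^ k)⁻¹ := fun k v => by
    rw [← map_pow, ← map_pow]; rfl
  have hS : ∀ α : MulAut G, ∃ S : Module.End (ZMod p) (BG1.EV p Z), Function.Bijective S ∧
      (∀ v, (S v).val = α v.val) ∧ ∀ i : ℕ, ∀ u ∈ Z, α x = u * x ^ i → S * T = T ^ i * S := by
    intro α
    let a : MulAut Z :=
      { toFun := fun z => ⟨α z, hchar α z z.2⟩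
        invFun := fun z => ⟨α⁻¹ z, hchar α⁻¹ z z.2⟩
        left_inv := fun z => by simp
        right_inv := fun z => by simp
        map_mul' := fun z w => by simp }
    have h1 : ∀ v, (BG1.autRep p Z a v).val = α v.val := fun v => rfl
    refine ⟨BG1.autRep p Z a, Finite.injective_iff_bijective.1 fun v w h => BG1.EV.ext' (α.injective ?_),
      h1, fun i u hu hi => ?_⟩
    · rw [← h1, ← h1, h]
    · ext v
      apply BG1.EV.ext'
      have h2 := hTv 1 v
      rw [pow_one, pow_one] at h2
      rw [Module.End.mul_apply, Module.End.mul_apply, h1, h2, hTv, h1, map_mul, map_mul, map_inv, hi]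
      have h3 : x ^ i * α v.val * (x ^ i)⁻¹ ∈ Z :=
        Subgroup.Normal.conj_mem inferInstance _ (hchar α _ v.val_mem) _
      have h4 : u * (x ^ i * α v.val * (x ^ i)⁻¹) = (x ^ i * α v.val * (x ^ i)⁻¹) * u := h3.2 u hu.1
      calc u * x ^ i * α v.val * (u * x ^ i)⁻¹ = u * (x ^ i * α v.val * (x ^ i)⁻¹) * u⁻¹ := by group
        _ = _ := by rw [h4]; group
  haveI : Nontrivial (BG1.EV p Z) := ((Subgroup.nontrivial_iff_ne_bot Z).2 hZ1 : Nontrivial Z)
  refine linA hpq T (by rw [← map_pow, ← map_pow, ← hx, pow_orderOf_eq_one, map_one, map_one])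
    ((injective_iff_map_eq_zero _).2 fun v hv => ?_) (linH1 T fun v w hv hw => ?_) fun i hi hiq => ?_
  · rcases hpel Z hZp _ v.val_mem with h | ⟨h, -⟩
    · exact BG1.EV.val_eq_one.1 h
    · refine absurd ?_ (hfpf x _ hx h)
      have h2 := hTv 1 v
      rw [pow_one, pow_one] at h2
      rw [← h2]
      rw [LinearMap.sub_apply, sub_eq_zero] at hv
      rw [hv]; rfl
  · obtain ⟨-, α, hα⟩ := (hpel Z hZp _ v.val_mem).resolve_left (mt BG1.EV.val_eq_one.1 hv)
    obtain ⟨-, β, hβ⟩ := (hpel Z hZp _ w.val_mem).resolve_left (mt BG1.EV.val_eq_one.1 hw)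
    obtain ⟨S, h1, h2, h3⟩ := hS (β * α⁻¹)
    obtain ⟨⟨u, ⟨g, hg⟩⟩, hu⟩ := (hc.existsUnique ((β * α⁻¹) x)).exists
    obtain ⟨k, rfl⟩ := (Submonoid.mem_powers_iff _ _).1 (mem_powers_iff_mem_zpowers.2 hg)
    refine ⟨S, k, h1.1, BG1.EV.ext' ?_, h3 k u u.2 hu.symm⟩
    rw [h2, ← hα, ← hβ]; simp
  · have ho : orderOf (x ^ i) = q := by
      rw [Nat.Coprime.orderOf_pow, hx]
      rw [hx]; exact (Nat.coprime_of_lt_prime hi.ne' hiq hq.out)
    rcases hord (x ^ i) with h | ⟨h, -⟩ | ⟨-, α, h⟩
    · rw [h, orderOf_one] at ho; exact absurd ho.symm hq.out.ne_one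
    · exact absurd (h.symm.trans ho) hpq
    · obtain ⟨S, h1, -, h3⟩ := hS α
      exact ⟨S, h1.2, h3 i 1 Z.one_mem (by rw [h, one_mul])⟩

/-- Let G be a finite group whose order is not a prime power. Then the automorphism group of G has exactly three orbits on G if and only if there are distinct primes p, q with #G = pⁿ·q (n ≥ 1) such that G has a normal elementary abelian Sylow p-subgroup P, p is a primitive root modulo q (the multiplicative order of p mod q is q − 1), and every element of order q of G acts on P without non-identity fixed points. -/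
theorem result {G : Type*} [Group G] [Finite G] (hnpp : ¬ IsPrimePow (Nat.card G)) (hnt : Nat.card G ≠ 1) :
    Nat.card (MulAction.orbitRel.Quotient (MulAut G) G) = 3 ↔
    ∃ (p q n : ℕ) (_ : Fact p.Prime) (_ : Fact q.Prime), p ≠ q ∧ 1 ≤ n ∧ Nat.card G = p ^ n * q ∧
      (∀ P : Sylow p G, (P : Subgroup G).Normal ∧ Cfsg.IsElementaryAbelian p (P : Subgroup G)) ∧
      orderOf (p : ZMod q) = q - 1 ∧
      ∀ x y : G, orderOf x = q → orderOf y = p → x * y * x⁻¹ ≠ y := by
  have hrel : ∀ a b : G, (Quotient.mk'' a : MulAction.orbitRel.Quotient (MulAut G) G) =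
      Quotient.mk'' b ↔ ∃ α : MulAut G, α b = a := fun a b => by
    rw [Quotient.eq'', MulAction.orbitRel_apply]; rfl
  have hne : ∀ a b : G, orderOf a ≠ orderOf b →
      (Quotient.mk'' a : MulAction.orbitRel.Quotient (MulAut G) G) ≠ Quotient.mk'' b := by
    intro a b h e
    obtain ⟨α, rfl⟩ := (hrel a b).1 e
    exact h (MulEquiv.orderOf_eq _ _)
  rw [← Set.ncard_univ]
  constructor
  · intro h
    obtain ⟨p, hp, hpd⟩ := Nat.exists_prime_and_dvd hnt
    obtain ⟨q, hq, hqd, hqp⟩ : ∃ q : ℕ, q.Prime ∧ q ∣ Nat.card G ∧ q ≠ p := by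
      by_contra hc
      push Not at hc
      have := Nat.eq_prime_pow_of_unique_prime_dvd (p := p) Nat.card_pos.ne'
        fun {d} hd hdG => hc d hd hdG
      refine hnpp ⟨p, _, hp.prime, ?_, this.symm⟩
      refine Nat.pos_of_ne_zero fun e => hnt ?_
      rw [this, e, pow_zero]
    haveI := Fact.mk hp
    haveI := Fact.mk hq
    obtain ⟨y, hy⟩ := exists_prime_orderOf_dvd_card' p hpd
    obtain ⟨x, hx⟩ := exists_prime_orderOf_dvd_card' q hqd
    have h3 : ({Quotient.mk'' 1, Quotient.mk'' y, Quotient.mk'' x} :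
        Set (MulAction.orbitRel.Quotient (MulAut G) G)) = Set.univ := by
      refine Set.eq_of_subset_of_ncard_le (Set.subset_univ _) (le_of_eq ?_)
      rw [h, eq_comm, Set.ncard_eq_three]
      exact ⟨_, _, _, hne _ _ (by rw [orderOf_one, hy]; exact hp.ne_one.symm),
        hne _ _ (by rw [orderOf_one, hx]; exact hq.ne_one.symm),
        hne _ _ (by rw [hy, hx]; exact hqp.symm), rfl⟩
    have horb : ∀ g : G, g = 1 ∨ (∃ α : MulAut G, α y = g) ∨ ∃ α : MulAut G, α x = g := fun g => by
      have : (Quotient.mk'' g : MulAction.orbitRel.Quotient (MulAut G) G) ∈ Set.univ := trivial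
      rw [← h3] at this
      rcases this with h | h | h
      · obtain ⟨α, rfl⟩ := (hrel _ _).1 h
        exact Or.inl (map_one α)
      · exact Or.inr (Or.inl ((hrel _ _).1 h))
      · exact Or.inr (Or.inr ((hrel _ _).1 h))
    have hprime : ∀ r : ℕ, r.Prime → r ∣ Nat.card G → r = p ∨ r = q := fun r hr h => by
      haveI := Fact.mk hr
      obtain ⟨g, hg⟩ := exists_prime_orderOf_dvd_card' r h
      rcases horb g with h | ⟨α, rfl⟩ | ⟨α, rfl⟩
      · rw [h, orderOf_one] at hg; exact absurd hg.symm hr.ne_one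
      · exact Or.inl (by rw [← hg, MulEquiv.orderOf_eq, hy])
      · exact Or.inr (by rw [← hg, MulEquiv.orderOf_eq, hx])
    haveI := isSolvable_of_two_primes hp hq hprime
    haveI : Nontrivial G := Finite.one_lt_card_iff_nontrivial.1
      (lt_of_le_of_ne Nat.card_pos hnt.symm)
    obtain ⟨M, r, hMn, hM, -, -, hr, -, hMr⟩ := exists_minNormal_elementary (G := G)
    haveI := Fact.mk hr
    have h4 : pCore r G ≠ ⊥ := fun e => hM (eq_bot_iff.2 (e ▸ Core.le_pCore hMr))
    have h5 : r ∣ Nat.card G := by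
      refine (hMr.card_eq_or_dvd.resolve_left (mt Subgroup.card_eq_one.1 hM)).trans M.card_subgroup_dvd_card
    rcases hprime r hr h5 with rfl | rfl
    · obtain ⟨n, h⟩ := aux hqp.symm hy hx horb h4
      exact ⟨r, q, n, inferInstance, inferInstance, hqp.symm, h⟩
    · obtain ⟨n, h⟩ := aux hqp hx hy (fun g => (horb g).imp_right Or.symm) h4
      exact ⟨r, p, n, inferInstance, inferInstance, hqp, h⟩
  · rintro ⟨p, q, n, hp, hq, hpq, hn, hG, hP, ho, hfpf⟩
    obtain ⟨P⟩ : Nonempty (Sylow p G) := inferInstance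
    obtain ⟨hPn, hPe⟩ := hP P
    haveI := Fact.mk hPe
    have hcop := (Nat.coprime_primes hp.out hq.out).2 hpq
    obtain ⟨y, hy⟩ := exists_prime_orderOf_dvd_card' (G := G) p
      (by rw [hG]; exact Dvd.dvd.mul_right (dvd_pow_self p (by omega)) _)
    obtain ⟨x, hx⟩ := exists_prime_orderOf_dvd_card' (G := G) q (by rw [hG]; exact Dvd.intro_left _ rfl)
    have hPc : Nat.card P = p ^ n := by
      rw [P.card_eq_multiplicity, hG, Nat.factorization_mul (pow_ne_zero _ hp.out.ne_zero) hq.out.ne_zero,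
        hp.out.factorization_pow, hq.out.factorization]
      simp [hpq]
    have hc : (P : Subgroup G).IsComplement' (Subgroup.zpowers x) := Subgroup.isComplement'_of_coprime
      (by rw [hPc, Nat.card_zpowers, hx, hG])
      (by rw [hPc, Nat.card_zpowers, hx]; exact hcop.pow_left _)
    have hel : ∀ u ∈ (P : Subgroup G), u ≠ 1 → orderOf u = p := fun u hu h1 =>
      orderOf_eq_prime (hPe.2 u hu) h1
    have hyP : y ∈ (P : Subgroup G) := by
      have : IsPGroup p (Subgroup.zpowers y) := (isPGroup_zpowers_iff hp.out).2 ⟨1, by simp [hy]⟩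
      exact (Transfer.sylowIn_top P).le_of_normalizes this le_top
        (by rw [Subgroup.normalizer_eq_top]; exact le_top) (Subgroup.mem_zpowers y)
    let T := BG1.autRep p P (MulAut.conjNormal x)
    have hTv : ∀ (k : ℕ) (v : BG1.EV p (P : Subgroup G)),
        ((T ^ k) v).val = x ^ k * v.val * (x ^ k)⁻¹ := fun k v => by
      rw [← map_pow, ← map_pow]; rfl
    obtain ⟨h1, S, hS⟩ := linB hpq T
      (by rw [← map_pow, ← map_pow, ← hx, pow_orderOf_eq_one, map_one, map_one])
      ((injective_iff_map_eq_zero _).2 fun v hv => by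
        by_contra hv0
        refine hfpf x _ hx (hel _ v.val_mem (mt BG1.EV.val_eq_one.1 hv0)) ?_
        have h2 := hTv 1 v
        rw [pow_one, pow_one] at h2
        rw [← h2]
        rw [LinearMap.sub_apply, sub_eq_zero] at hv
        rw [hv]; rfl) ho
    have hext : ∀ (S : BG1.EV p (P : Subgroup G) ≃+ BG1.EV p (P : Subgroup G)) (j : ℕ),
        j.Coprime q → (∀ u, S (T u) = (T ^ j) (S u)) →
        ∃ α : MulAut G, (∀ v, α v.val = (S v).val) ∧ α x = x ^ j := by
      intro S j hj h
      let φ : (P : Subgroup G) ≃* (P : Subgroup G) :=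
        { toFun := fun u => (S (BG1.EV.mk p u)).elt
          invFun := fun u => (S.symm (BG1.EV.mk p u)).elt
          left_inv := fun u => by simp
          right_inv := fun u => by simp
          map_mul' := fun u v => congrArg BG1.EV.elt (S.map_add (BG1.EV.mk p u) (BG1.EV.mk p v)) }
      obtain ⟨α, h1, h2⟩ := exists_aut (P : Subgroup G) hc φ j (hx ▸ hj) fun u =>
        (congrArg BG1.EV.val (h (BG1.EV.mk p u))).trans (hTv j _)
      exact ⟨α, fun v => h1 v.elt, h2⟩
    obtain ⟨α, -, hα⟩ := hext S p hcop hS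
    have hαk : ∀ k : ℕ, (α ^ k) x = x ^ p ^ k := fun k => by
      induction k with
      | zero => simp
      | succ k ih => rw [pow_succ', MulAut.mul_apply, ih, map_pow, hα, ← pow_mul, pow_succ']
    rw [Set.ncard_eq_three]
    refine ⟨Quotient.mk'' 1, Quotient.mk'' y, Quotient.mk'' x,
      hne _ _ (by rw [orderOf_one, hy]; exact hp.out.ne_one.symm),
      hne _ _ (by rw [orderOf_one, hx]; exact hq.out.ne_one.symm),
      hne _ _ (by rw [hy, hx]; exact hpq), (Set.eq_univ_of_forall fun c => ?_).symm⟩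
    obtain ⟨g, rfl⟩ := Quotient.exists_rep c
    obtain ⟨⟨u, ⟨g, hg⟩⟩, rfl⟩ := (hc.existsUnique g).exists
    obtain ⟨k, rfl⟩ := (Submonoid.mem_powers_iff _ _).1 (mem_powers_iff_mem_zpowers.2 hg)
    by_cases hk : x ^ k = 1
    · by_cases hu : (u : G) = 1
      · left; simp only [hk, hu, mul_one]
      · right; left
        obtain ⟨S', e1, e2⟩ := h1 (BG1.EV.mk p ⟨y, hyP⟩) (BG1.EV.mk p u)
          (mt BG1.EV.val_eq_one.2 (fun e => hp.out.ne_one (by
            rw [← hy, show y = 1 from e, orderOf_one]))) (mt BG1.EV.val_eq_one.2 hu)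
        obtain ⟨β, hβ, -⟩ := hext S' 1 (Nat.coprime_one_left _) (by simpa using e2)
        refine (hrel _ _).2 ⟨β, ?_⟩
        have := hβ (BG1.EV.mk p ⟨y, hyP⟩)
        rw [e1] at this
        simpa [hk] using this
    · right; right
      have hk' : ¬ q ∣ k := fun e => hk (orderOf_dvd_iff_pow_eq_one.1 (hx ▸ e))
      have hxk : orderOf (x ^ k) = q := by
        rw [Nat.Coprime.orderOf_pow, hx]
        rw [hx]; exact (Nat.Prime.coprime_iff_not_dvd hq.out).2 hk'
      obtain ⟨w, -, hw⟩ := BG1.S36.exists_conj_of_cent_eq_bot (P := (P : Subgroup G)) (x := (u : G)) (y := x ^ k)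
        (by rw [Subgroup.normalizer_eq_top]; exact Subgroup.mem_top _) (by
          rw [eq_bot_iff]
          rintro z ⟨hz, hzc⟩
          by_contra hz1
          refine hfpf _ z hxk (hel z hz hz1) ?_
          rw [mul_inv_eq_iff_eq_mul]
          exact hzc _ rfl) u.2
      have hu0 : (p : ZMod q) ≠ 0 := by
        rw [Ne, ZMod.natCast_eq_zero_iff]
        exact fun h => hpq ((Nat.prime_dvd_prime_iff_eq hq.out hp.out).1 h).symm
      have hk0 : (k : ZMod q) ≠ 0 := by rwa [Ne, ZMod.natCast_eq_zero_iff]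
      have htop : Subgroup.zpowers (Units.mk0 _ hu0) = ⊤ := by
        refine Subgroup.eq_top_of_card_eq _ ?_
        rw [Nat.card_zpowers, ← orderOf_units, Units.val_mk0, ho, Nat.card_eq_fintype_card,
          ZMod.card_units]
      obtain ⟨j, hj⟩ := (Submonoid.mem_powers_iff _ _).1 (mem_powers_iff_mem_zpowers.2
        (htop ▸ Subgroup.mem_top (Units.mk0 _ hk0)))
      have hj' : p ^ j ≡ k [MOD q] := by
        rw [← ZMod.natCast_eq_natCast_iff]
        simpa using congrArg Units.val hj
      refine (hrel _ _).2 ⟨MulAut.conj w * α ^ j, ?_⟩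
      rw [MulAut.mul_apply, hαk, pow_eq_pow_iff_modEq.2 (hx ▸ hj'), MulAut.conj_apply, ← hw]

end Cfsg.Agent.S4081
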