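import Cfsg.Statements.S4082
import Cfsg.Agent.Lib.Hall.PByC

set_option autoImplicit false
open Cfsg

namespace Cfsg.Agent.S4082

open Subgroup Cfsg.Lib Cfsg.Lib.Core Cfsg.Lib.Amalg

/-- Let p be an odd prime and G a finite group with Sylow p-subgroup P. Say that G has restricted p-by-cyclic subgroups when every subgroup H of G whose Sylow p-subgroup is normal in H with cyclic quotient is itself cyclic or dihedral of order 2pⁿ for some n. Then G has restricted p-by-cyclic subgroups if and only if P is cyclic and one of the following holds: (1) N_G(P) = C_G(P); or (2) N_G(P)/C_G(P) has order 2 and, for the subgroup Q of order p of P, the centralizer C_G(Q) is abelian and every element of N_G(Q) outside C_G(Q) is an involution inverting every element of C_G(Q). -/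
theorem result {G : Type*} [Group G] [Finite G] {p : ℕ}
    [Fact p.Prime] (hp : p ≠ 2) (P : Sylow p G) :
    (∀ H : Subgroup G, (∀ S : Sylow p ↥H, (S : Subgroup ↥H).Normal) →
        (∀ (S : Sylow p ↥H) [(S : Subgroup ↥H).Normal], IsCyclic (↥H ⧸ (S : Subgroup ↥H))) →
        IsCyclic H ∨ (∃ n : ℕ, Nonempty (H ≃* DihedralGroup (p ^ n)))) ↔
    (IsCyclic P ∧
      (Subgroup.normalizer ((P : Subgroup G) : Set G) = Subgroup.centralizer ((P : Subgroup G) : Set G) ∨
       ((Subgroup.centralizer ((P : Subgroup G) : Set G)).relIndex (Subgroup.normalizer ((P : Subgroup G) : Set G)) = 2 ∧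
        ∀ Q : Subgroup G, Q ≤ P → Nat.card Q = p →
          IsMulCommutative ↥(Subgroup.centralizer (Q : Set G)) ∧
          ∀ x : G, x ∈ Subgroup.normalizer (Q : Set G) → x ∉ Subgroup.centralizer (Q : Set G) →
            orderOf x = 2 ∧ ∀ c : G, c ∈ Subgroup.centralizer (Q : Set G) → x * c * x⁻¹ = c⁻¹))) := by
  have hpp : p.Prime := Fact.out
  have od : ∀ {S : Subgroup G}, IsPGroup p S → ∀ s ∈ S, s * s = 1 → s = 1 := fun hS s hs h => by
    obtain ⟨k, hk⟩ := isPGroup_iff_mem.1 hS s hs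
    exact orderOf_eq_one_iff.1 (Nat.eq_one_of_dvd_coprimes (((Nat.coprime_primes Nat.prime_two hpp).2 hp.symm).pow_right k)
      (orderOf_dvd_of_pow_eq_one (by rw [pow_two, h] : s ^ 2 = 1)) (orderOf_dvd_of_pow_eq_one hk))
  constructor
  · intro h
    have D : ∀ S : Subgroup G, IsPGroup p S → ∀ x ∈ 𝐍 S, x ∉ 𝐂 S → orderOf x = 2 ∧ ∀ s ∈ S, x * s * x⁻¹ = s⁻¹ := fun S hS x h1 h2 => by
      have hx : x ∈ S ⊔ zpowers x := mem_sup_right (mem_zpowers x)
      rcases Hall.of_pbc (C := fun H => IsCyclic H ∨ ∃ n : ℕ, Nonempty (H ≃* DihedralGroup (p ^ n))) h hS h1 with hc | ⟨n, ⟨e⟩⟩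
      · exact absurd (centralizer_le (le_sup_left : S ≤ S ⊔ zpowers x) (le_centralizer _ hx)) h2
      have hr : ∀ s (hs : s ∈ S), ∃ i, e ⟨s, mem_sup_left hs⟩ = .r i := fun s hs => by
        rcases h3 : e ⟨s, mem_sup_left hs⟩ with i | i
        · exact ⟨i, rfl⟩
        · have : s = 1 := od hS s hs (congrArg Subtype.val (e.injective (a₁ := ⟨s, mem_sup_left hs⟩ * ⟨s, mem_sup_left hs⟩) (a₂ := 1)
            (by rw [map_mul, h3, map_one, DihedralGroup.sr_mul_self])))
          subst this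
          exact absurd ((map_one e).symm.trans h3) (fun h => by rw [DihedralGroup.one_def] at h; cases h)
      rcases h3 : e ⟨x, hx⟩ with i | i
      · refine absurd (fun s hs => ?_) h2
        obtain ⟨j, hj⟩ := hr s hs
        exact congrArg Subtype.val (e.injective (a₁ := ⟨s, mem_sup_left hs⟩ * ⟨x, hx⟩) (a₂ := ⟨x, hx⟩ * ⟨s, mem_sup_left hs⟩)
          (by rw [map_mul, map_mul, h3, hj]; simp [add_comm]))
      · refine ⟨by rw [← orderOf_mk x hx, ← e.orderOf_eq, h3, DihedralGroup.orderOf_sr], fun s hs => ?_⟩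
        obtain ⟨j, hj⟩ := hr s hs
        exact congrArg Subtype.val (e.injective (a₁ := ⟨x, hx⟩ * ⟨s, mem_sup_left hs⟩ * ⟨x, hx⟩⁻¹) (a₂ := ⟨s, mem_sup_left hs⟩⁻¹)
          (by rw [map_mul, map_mul, map_inv, map_inv, h3, hj]; simp))
    have hc : IsCyclic P := by
      rcases Hall.of_pbc (C := fun H => IsCyclic H ∨ ∃ n : ℕ, Nonempty (H ≃* DihedralGroup (p ^ n))) h P.isPGroup' (one_mem _)
        with hc | ⟨n, ⟨e⟩⟩
      · exact PGrp.isCyclic_of_le' hc le_sup_left
      · have := od P.isPGroup' (e.symm (.sr 0)) (by simpa using (e.symm (.sr 0)).2) (congrArg Subtype.val (e.injective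
          (a₁ := e.symm (.sr 0) * e.symm (.sr 0)) (a₂ := 1) (by simp)))
        exact absurd (e.symm.injective ((Subtype.ext this).trans (map_one _).symm)) (fun h => by rw [DihedralGroup.one_def] at h; cases h)
    refine ⟨hc, or_iff_not_imp_left.2 fun hne => ?_⟩
    obtain ⟨a, a1, a2⟩ := SetLike.exists_of_lt (lt_of_le_of_ne (centralizer_le_normalizer _) (Ne.symm hne))
    have a3 := (D _ P.isPGroup' a a1 a2).2
    refine ⟨index_eq_two_iff_exists_notMem_and.2 ⟨⟨a, a1⟩, a2, fun b => or_iff_not_imp_right.2 fun hb s hs => ?_⟩, fun Q h1 h2 => ?_⟩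
    · have := (D _ P.isPGroup' b b.2 hb).2 _ (inv_mem hs)
      rw [← a3 s hs, a3 s hs, inv_inv, ← a3 s hs] at this
      change s * (b * a) = b * a * s
      calc _ = b * (a * s * a⁻¹) * (b : G)⁻¹ * (b * a) := by rw [this]
        _ = _ := by group
    have hQ := P.isPGroup'.to_le h1
    have k : ∀ x ∈ 𝐍 Q, x ∉ 𝐂 Q → orderOf x = 2 ∧ ∀ c ∈ 𝐂 Q, x * c * x⁻¹ = c⁻¹ := fun x h3 h4 => ⟨(D Q hQ x h3 h4).1, fun c hc => by
      have e1 := pow_orderOf_eq_one x
      have e2 := pow_orderOf_eq_one (x * c)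
      rw [(D Q hQ x h3 h4).1, pow_two] at e1
      rw [(D Q hQ _ (mul_mem h3 (centralizer_le_normalizer _ hc)) fun e => h4 ((mul_mem_cancel_right hc).1 e)).1, pow_two] at e2
      rw [inv_eq_of_mul_eq_one_right e1, eq_inv_iff_mul_eq_one, ← e2, mul_assoc (x * c)]⟩
    have a4 : a ∉ 𝐂 Q := fun e => hpp.one_lt.ne' (by
      rw [← h2, card_eq_one, eq_bot_iff]
      intro s hs
      have := a3 s (h1 hs)
      rw [← e s hs, mul_inv_cancel_right, eq_inv_iff_mul_eq_one] at this
      exact od hQ s hs this)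
    have a5 := (k a (PGrp.normalizer_le_normalizer_of_isCyclic hc h1 a1) a4).2
    refine ⟨⟨⟨fun b c => Subtype.ext (inv_injective ?_)⟩⟩, k⟩
    change ((b : G) * c)⁻¹ = ((c : G) * b)⁻¹
    rw [← a5 _ (mul_mem b.2 c.2), mul_inv_rev, ← a5 _ b.2, ← a5 _ c.2]
    group
  · rintro ⟨hc, h⟩ H h1 h2
    obtain ⟨S, x, a1, a2, a3, a4, ⟨e⟩⟩ := Hall.exists_pbc P h1 h2
    have hS := PGrp.isCyclic_of_le' hc a1
    by_cases a5 : x ∈ 𝐂 S
    · haveI := Hall.isCyclic_pbc a2.isPGroup hS a3 a5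
      exact Or.inl (isCyclic_of_surjective e.symm e.symm.surjective)
    obtain ⟨r, rfl⟩ := PGrp.exists_zpowers_eq_of_isCyclic hS
    obtain ⟨y, hy⟩ := exists_prime_orderOf_dvd_card' p (a2.isPGroup.card_eq_or_dvd.resolve_left fun e => a5 (by
      rw [card_eq_one.1 e, Amalg.centralizer_bot]; trivial))
    have hQ : zpowers (y : G) ≤ zpowers r := zpowers_le.2 y.2
    have b1 := PGrp.normalizer_le_normalizer_of_isCyclic hS hQ a4
    have b2 : x ∉ 𝐂 (zpowers (y : G)) := fun e => a5 (Coprime.mem_centralizer_of_isCyclic a2.sylowIn hS y.2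
      (fun e => hpp.one_lt.ne' (by rw [← hy, ← orderOf_coe, e, orderOf_one]))
      (by rw [← PGrp.centralizer_zpowers]; exact sup_le ((le_centralizer _).trans (centralizer_le hQ)) (zpowers_le.2 e))
      ⟨mem_sup_right (mem_zpowers x), a4⟩)
    have b3 : (P : Subgroup G) ≤ 𝐂 (zpowers (y : G)) := (le_centralizer _).trans (centralizer_le (hQ.trans a1))
    rcases h with h | ⟨-, h⟩
    · obtain ⟨c, hc, a, ha, rfl⟩ := ((syl_top P).of_le b3 le_top).frattini_mem (PGrp.normalizer_le_normalizer_centralizer' _ b1)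
      exact absurd (mul_mem hc (centralizer_le (hQ.trans a1) (h ▸ ha))) b2
    obtain ⟨c1, c2⟩ := (h _ (hQ.trans a1) (by simpa using hy)).2 x b1 b2
    have c3 : x * x = 1 := by rw [← pow_two, ← c1, pow_orderOf_eq_one]
    have c4 : Exc.DS (zpowers r ⊔ zpowers x) r x := ⟨c3, c2 r (b3 (a1 (mem_zpowers r))), fun e => a5 (le_centralizer _ e), fun z => by
      refine ⟨fun hz => ?_, fun hz => hz.elim mem_sup_left fun e =>
        (mul_mem_cancel_left (mem_sup_right (mem_zpowers x))).1 (mem_sup_left e)⟩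
      rw [sup_comm] at hz
      obtain ⟨u, hu, v, hv, rfl⟩ := (mem_sup_of_le_normalizer_right (zpowers_le.2 a4)).1 hz
      rcases Exc.mem_zpowers_two c1 hu with rfl | rfl
      · exact Or.inl (by simpa using hv)
      · exact Or.inr (by rwa [← mul_assoc, c3, one_mul])⟩
    obtain ⟨f⟩ := c4.equiv
    obtain ⟨n, hn⟩ := a2.isPGroup.exists_card_eq
    rw [Nat.card_zpowers] at hn
    exact Or.inr ⟨n, ⟨e.trans (hn ▸ f)⟩⟩

end Cfsg.Agent.S4082
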