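import Cfsg.Statements.S4083
import Cfsg.Agent.Lib.Hall.PByC
import Cfsg.Agent.Lib.GW.DC
import Cfsg.Agent.Lib.ABG.MC
import Cfsg.Agent.Lib.Linear.SmallRec

set_option autoImplicit false
open Cfsg

namespace Cfsg.Agent.S4083

open Subgroup Cfsg.Lib Cfsg.Lib.Core Cfsg.Lib.Amalg

theorem a4 {G : Type*} [Group G] [Finite G] {S : Subgroup G} (hS : IsKleinFour S) (hC : 𝐂 S = S) {x : G} (h1 : x ∈ 𝐍 S)
    (h2 : x ∉ S) (ho : Odd (orderOf x)) : Nonempty (↥(S ⊔ zpowers x) ≃* alternatingGroup (Fin 4)) := by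
  haveI := Invol.fact_two
  have hp := Invol.klein_isPGroup hS
  have h3 : normalizerMonoidHom S ⟨x, h1⟩ ^ 24 = 1 := MulEquiv.toEquiv_injective (by
    have := pow_card_eq_one' (x := MulAut.toPerm S (normalizerMonoidHom S ⟨x, h1⟩))
    rwa [Nat.card_perm, hS.card_four, ← map_pow] at this)
  rw [← map_pow, ← MonoidHom.mem_ker, normalizerMonoidHom_ker, mem_subgroupOf, hC] at h3
  have h4 : orderOf x ∣ 3 := (Nat.Coprime.pow_right 3 (Nat.coprime_two_right.2 ho)).dvd_of_dvd_mul_left (orderOf_dvd_of_pow_eq_one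
    (Invol.eq_one_of_odd_of_mem hp h3 (ho.of_dvd_nat (orderOf_pow_dvd 24))))
  have h5 : orderOf x = 3 := ((Nat.dvd_prime Nat.prime_three).1 h4).resolve_left fun e => h2 (orderOf_eq_one_iff.1 e ▸ one_mem _)
  have h6 : Nat.card ↥(S ⊔ zpowers x) = 12 := by
    rw [sup_comm, card_sup_of_disjoint (zpowers_le.2 h1) (inf_comm S _ ▸ inf_eq_bot_of_isPGroup_of_coprime Nat.prime_two hp
      (by rw [Nat.card_zpowers, h5]; norm_num)), Nat.card_zpowers, h5, hS.card_four]
  refine Linear.nonempty_equiv_A4 h6 fun g hg => ?_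
  rw [← orderOf_coe] at hg
  have hn : (g : G) ∈ 𝐍 S := sup_le le_normalizer (zpowers_le.2 h1) g.2
  have ha : orderOf ((g : G) ^ 3) = 2 := by rw [orderOf_pow' _ (by norm_num), hg]; rfl
  have hy : orderOf ((g : G) ^ 2) = 3 := by rw [orderOf_pow' _ (by norm_num), hg]; rfl
  have haS : (g : G) ^ 3 ∈ S := (syl_of_not_dvd (le_sup_left : S ≤ S ⊔ zpowers x) hp (by
    have := card_mul_relIndex (le_sup_left : S ≤ S ⊔ zpowers x)
    rw [h6, hS.card_four] at this
    omega)).mem_of_mem_normalizer (k := 1) (by rw [pow_one, ← ha, pow_orderOf_eq_one]) (pow_mem g.2 3) (pow_mem hn 3)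
  have hc : (g : G) ^ 2 * g ^ 3 * ((g : G) ^ 2)⁻¹ = g ^ 3 := by group
  replace hn := pow_mem hn 2
  generalize (g : G) ^ 3 = a at *
  generalize (g : G) ^ 2 = y at *
  obtain ⟨b, hb, b1, b2⟩ := Invol.klein_exists_ne hS a
  have a1 := Invol.ne_one_of_two ha
  rcases Invol.klein_eq_mul hS haS hb ((mem_normalizer_iff.1 hn b).1 hb) a1 b1 b2.symm with h | h | h | h
  · exact b1 (conj_eq_one_iff.1 h)
  · exact b2 (conj_injective (h.trans hc.symm))
  · have : y ∈ S := hC ▸ fun s hs => by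
      have ea := mul_inv_eq_iff_eq_mul.1 hc
      have eb := mul_inv_eq_iff_eq_mul.1 h
      rcases Invol.klein_eq_mul hS haS hb hs a1 b1 b2.symm with rfl | rfl | rfl | rfl
      exacts [by simp, ea.symm, eb.symm, by rw [mul_assoc, ← eb, ← mul_assoc, ← ea, mul_assoc]]
    have := Invol.eq_one_of_odd_of_mem hp this (by rw [hy]; decide)
    rw [this, orderOf_one] at hy; omega
  · have := Invol.conj_odd_pow_of_swap h (show y * (a * b) * y⁻¹ = b by
      rw [← conj_mul, hc, h, ← mul_assoc, Invol.klein_mul_self hS haS, one_mul]) (m := 3) (by decide)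
    rw [← hy, pow_orderOf_eq_one] at this
    exact a1 (by simpa using this)

/-- Let G be a finite group with Sylow 2-subgroup P. Every subgroup H of G whose Sylow 2-subgroup is normal in H with cyclic quotient is cyclic, dihedral of 2-power order, or isomorphic to the alternating group of degree 4, if and only if either P is cyclic, or P is dihedral (of order at least 4) and every elementary abelian subgroup K of order 4 of P satisfies C_G(K) = K. -/
theorem result {G : Type*} [Group G] [Finite G] (P : Sylow 2 G) :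
    (∀ H : Subgroup G, (∀ S : Sylow 2 ↥H, (S : Subgroup ↥H).Normal) →
        (∀ (S : Sylow 2 ↥H) [(S : Subgroup ↥H).Normal], IsCyclic (↥H ⧸ (S : Subgroup ↥H))) →
        IsCyclic H ∨ (∃ n : ℕ, Nonempty (H ≃* DihedralGroup (2 ^ n))) ∨ Nonempty (H ≃* alternatingGroup (Fin 4))) ↔
    (IsCyclic P ∨
      ((∃ n : ℕ, 1 ≤ n ∧ Nonempty ((P : Subgroup G) ≃* DihedralGroup (2 ^ n))) ∧
        ∀ K : Subgroup G, K ≤ P → Nat.card K = 4 → (∀ k ∈ K, k ^ 2 = 1) → Subgroup.centralizer (K : Set G) = K)) := by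
  haveI := Invol.fact_two
  constructor
  · intro h
    have h' := @Hall.of_pbc G _ _ 2 _ (fun H => IsCyclic H ∨ (∃ n : ℕ, Nonempty (H ≃* DihedralGroup (2 ^ n))) ∨
      Nonempty (H ≃* alternatingGroup (Fin 4))) h
    refine or_iff_not_imp_left.2 fun hc => ⟨?_, fun K h1 h2 h3 => ?_⟩
    · have := h' P.isPGroup' (one_mem _)
      rw [zpowers_one_eq_bot, sup_bot_eq] at this
      rcases this with h1 | ⟨n, ⟨e⟩⟩ | ⟨⟨e⟩⟩
      · exact absurd h1 hc
      · refine ⟨n, Nat.one_le_iff_ne_zero.2 ?_, ⟨e⟩⟩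
        rintro rfl
        exact hc (isCyclic_of_prime_card (p := 2) ((Nat.card_congr e.toEquiv).trans DihedralGroup.nat_card))
      · obtain ⟨n, hn⟩ := P.isPGroup'.exists_card_eq
        rw [Nat.card_congr e.toEquiv, Linear.card_A4] at hn
        exact absurd (Nat.prime_three.dvd_of_dvd_pow (hn ▸ (by norm_num : 3 ∣ 12))) (by norm_num)
    have hK := Invol.isKleinFour_of_card h2 fun x hx => by rw [← pow_two, h3 x hx]
    haveI := hK.isMulCommutative
    refine le_antisymm (fun c hc => ?_) (le_centralizer K)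
    have hm : IsMulCommutative ↥(K ⊔ zpowers c) := le_centralizer_iff_isMulCommutative.1
      (sup_le (le_centralizer_iff.1 (sup_le (le_centralizer K) (zpowers_le.2 hc)))
        (le_centralizer_iff.1 (sup_le (le_centralizer_iff.1 (zpowers_le.2 hc)) (le_centralizer _))))
    rcases h' (P.isPGroup'.to_le h1) (centralizer_le_normalizer _ hc) with h4 | ⟨n, ⟨e⟩⟩ | ⟨⟨e⟩⟩
    · exact absurd (PGrp.isCyclic_of_le' h4 le_sup_left) hK.not_isCyclic
    · have h5 := DihedralGroup.commutative_iff.1 (⟨⟨fun a b => e.symm.injective (by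
        rw [map_mul, map_mul]; exact hm.is_comm.comm _ _)⟩⟩ : IsMulCommutative (DihedralGroup (2 ^ n)))
      have h6 := (Nat.card_congr e.toEquiv).trans DihedralGroup.nat_card
      exact (eq_of_le_of_card_ge (le_sup_left : K ≤ K ⊔ zpowers c) (by omega)).ge (mem_sup_right (mem_zpowers c))
    · exact absurd (fun a b => e.symm.injective (by rw [map_mul, map_mul]; exact hm.is_comm.comm _ _) :
        ∀ a b : alternatingGroup (Fin 4), a * b = b * a) (by decide)
  · intro h H h1 h2
    obtain ⟨S, x, a1, a2, a3, a4, ⟨e⟩⟩ := Hall.exists_pbc P h1 h2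
    have ho := Nat.coprime_two_right.1 a3
    by_cases hS : IsCyclic S
    · haveI := Hall.isCyclic_pbc a2.isPGroup hS a3 (ABG.mem_centralizer_of_odd_of_isCyclic hS a2.isPGroup ho a4)
      exact Or.inl (isCyclic_of_surjective e.symm e.symm.surjective)
    obtain ⟨⟨n, hn, ⟨f⟩⟩, hK⟩ := h.resolve_left fun h => hS (PGrp.isCyclic_of_le' h a1)
    have hn2 : 2 ≤ 2 ^ n := Nat.le_self_pow (by omega) 2
    refine Or.inr ?_
    by_cases a5 : x ∈ 𝐂 S
    · obtain ⟨r, y, d, -⟩ := Exc.exists_ds hn2 f (one_mem _) (by simp)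
      obtain ⟨r, y, d⟩ := (GW.ds_of_le d a1).resolve_left hS
      have hr : zpowers r ≤ S := fun z hz => (d.mem z).2 (Or.inl hz)
      obtain ⟨t, ht⟩ := exists_prime_orderOf_dvd_card' 2 ((a2.isPGroup.to_le hr).card_eq_or_dvd.resolve_left fun e => hS (by
        refine PGrp.isCyclic_of_le' (C := zpowers y) inferInstance fun z hz => ?_
        rcases (d.mem z).1 hz with h | h <;> rw [card_eq_one.1 e, mem_bot] at h
        · exact h ▸ one_mem _
        · exact eq_inv_of_mul_eq_one_right h ▸ inv_mem (mem_zpowers y)))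
      have k := GW.ds_nc d ((orderOf_coe t).trans ht) t.2
      have k1 := GW.Kl.closure_le (hr t.2) d.x_mem
      have := Invol.eq_one_of_odd_of_mem k.isPGroup (hK _ (k1.trans a1) k.card
        (fun z hz => by rw [pow_two, Invol.klein_mul_self k.klein hz]) ▸ centralizer_le k1 a5) ho
      subst this
      rw [zpowers_one_eq_bot, sup_bot_eq] at e
      obtain ⟨g⟩ := d.equiv
      obtain ⟨m, hm⟩ := (a2.isPGroup.to_le hr).exists_card_eq
      rw [Nat.card_zpowers] at hm
      exact Or.inl ⟨m, ⟨e.trans (hm ▸ g)⟩⟩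
    · have k := ABG.klein_of_odd P.isPGroup' f hn2 a1 a4 ho a5
      have hC := hK S a1 k.card_four fun z hz => by rw [pow_two, Invol.klein_mul_self k hz]
      obtain ⟨g⟩ := Cfsg.Agent.S4083.a4 k hC a4 (hC ▸ a5) ho
      exact Or.inr ⟨e.trans g⟩

end Cfsg.Agent.S4083
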