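import Cfsg.Statements.S4084
import Mathlib.GroupTheory.Perm.Cycle.Type


set_option autoImplicit false
open Cfsg

namespace Cfsg.Agent.S4084

open Subgroup in
theorem main {G H : Type*} [Group G] [Finite G] [Group H] [Finite H] (e : G ≃ H)
    (he : ∀ x y : G, Commute x y ↔ Commute (e x) (e y)) {p q : ℕ} (hp : p.Prime) (hq : q.Prime)
    (hpq : p ≠ q) (h : ∃ g : G, orderOf g = p * q) : ∃ h : H, orderOf h = p * q := by
  obtain ⟨g, hg⟩ := h
  let A := centralizer (centralizer ({g} : Set G) : Set G)
  let B := centralizer (centralizer ({e g} : Set H) : Set H)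
  have hAB : Nat.card A = Nat.card B := by
    refine Nat.card_congr (e.subtypeEquiv fun x => ⟨fun hx y hy => ?_, fun hx y hy => ?_⟩)
    · obtain ⟨y, rfl⟩ := e.surjective y
      exact (he y x).1 (hx y (mem_centralizer_singleton_iff.2
        ((he y g).2 (mem_centralizer_singleton_iff.1 hy))))
    · exact (he y x).2 (hx _ (mem_centralizer_singleton_iff.2
        ((he y g).1 (mem_centralizer_singleton_iff.1 hy))))
  have hgA : g ∈ A := fun y hy => mem_centralizer_singleton_iff.1 hy
  have hd : p * q ∣ Nat.card B := hAB ▸ hg ▸ A.orderOf_dvd_natCard hgA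
  haveI := Fact.mk hp
  haveI := Fact.mk hq
  obtain ⟨a, ha⟩ := exists_prime_orderOf_dvd_card' p ((Dvd.intro _ rfl).trans hd)
  obtain ⟨b, hb⟩ := exists_prime_orderOf_dvd_card' q ((Dvd.intro_left _ rfl).trans hd)
  have hab : Commute (a : H) b := b.2 a (mem_centralizer_singleton_iff.2
    (a.2 _ (mem_centralizer_singleton_iff.2 rfl)).symm)
  rw [← orderOf_coe] at ha hb
  exact ⟨a * b, by rw [hab.orderOf_mul_eq_mul_orderOf_of_coprime
    (by rw [ha, hb]; exact (Nat.coprime_primes hp hq).2 hpq), ha, hb]⟩


/-- Let G and H be finite groups whose commuting graphs are isomorphic: there is a bijection e : G → H with x, y commuting exactly when e(x), e(y) commute. Then G and H have the same prime graph: for distinct primes p, q, G has an element of order pq if and only if H does (and #G = #H, so the prime divisors agree). -/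
theorem result {G H : Type*} [Group G] [Finite G] [Group H] [Finite H] (e : G ≃ H)
    (he : ∀ x y : G, Commute x y ↔ Commute (e x) (e y))
    {p q : ℕ} (hp : p.Prime) (hq : q.Prime) (hpq : p ≠ q) :
    (∃ g : G, orderOf g = p * q) ↔ (∃ h : H, orderOf h = p * q) := by
  refine ⟨main e he hp hq hpq, main e.symm (fun x y => ?_) hp hq hpq⟩
  have := he (e.symm x) (e.symm y)
  rw [e.apply_symm_apply, e.apply_symm_apply] at this
  exact this.symm

end Cfsg.Agent.S4084
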