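import Cfsg.Statements.S4085
import Cfsg.Agent.Lib.PGrp.Cyclic

set_option autoImplicit false
open Cfsg

namespace Cfsg.Agent.S4085

open Subgroup Cfsg.Lib

/-- `n` is divisible by two different primes -/
def NPP (n : ℕ) : Prop := ∃ r s : ℕ, r.Prime ∧ s.Prime ∧ r ≠ s ∧ r ∣ n ∧ s ∣ n

theorem numA {d f e : ℕ} (hd : d ≠ 0) (he : e ≠ 0) (hf : f ≠ 1) (hfe : f ∣ e) (hn : NPP (d * e))
    (h1 : ∀ k, d ∣ k → k ∣ d * e → k ∣ d * f ∨ d * f ∣ k)
    (h2 : ∀ k, k ∣ d * f → k ∣ d ∨ d ∣ k) : d = 1 ∧ f = e := by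
  have hd' := Nat.pos_of_ne_zero hd
  have hf0 : f ≠ 0 := fun h => he (zero_dvd_iff.1 (h ▸ hfe))
  have key : ∀ l w : ℕ, l.Prime → ¬ f ∣ l ^ w := by
    intro l w hl hfl
    obtain ⟨j, -, rfl⟩ := (Nat.dvd_prime_pow hl).1 hfl
    have hj : j ≠ 0 := fun h => hf (by rw [h, pow_zero])
    obtain ⟨r, hr, hrl, hrn⟩ : ∃ r : ℕ, r.Prime ∧ r ≠ l ∧ r ∣ d * e := by
      obtain ⟨r, s, hr, hs, hrs, h3, h4⟩ := hn
      by_cases h : r = l
      · exact ⟨s, hs, fun h' => hrs (h.trans h'.symm), h4⟩
      · exact ⟨r, hr, h, h3⟩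
    have a1 : ¬ r ∣ l ^ j := fun h =>
      hrl ((Nat.prime_dvd_prime_iff_eq hr hl).1 (hr.dvd_of_dvd_pow h))
    have a2 : ¬ l ^ j ∣ r := fun h =>
      hrl ((Nat.prime_dvd_prime_iff_eq hl hr).1 ((dvd_pow_self l hj).trans h)).symm
    rcases (Nat.Prime.dvd_mul hr).1 hrn with ⟨d₀, rfl⟩ | h
    · have h0 : 0 < d₀ := Nat.pos_of_mul_pos_left hd'
      rcases h2 (d₀ * l ^ j) ⟨r, by ring⟩ with h | h
      · rw [mul_comm r] at h; exact a2 (Nat.dvd_of_mul_dvd_mul_left h0 h)
      · rw [mul_comm r] at h; exact a1 (Nat.dvd_of_mul_dvd_mul_left h0 h)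
    · rcases h1 (d * r) (Dvd.intro _ rfl) (Nat.mul_dvd_mul_left d h) with h | h
      · exact a1 (Nat.dvd_of_mul_dvd_mul_left hd' h)
      · exact a2 (Nat.dvd_of_mul_dvd_mul_left hd' h)
  constructor
  · by_contra h
    obtain ⟨l, hl, hld⟩ := Nat.exists_prime_and_dvd h
    obtain ⟨w, k, hk, hwk⟩ := Nat.exists_eq_pow_mul_and_not_dvd (mul_ne_zero hd hf0) l hl.ne_one
    rcases h2 k ⟨l ^ w, by rw [hwk, mul_comm]⟩ with ⟨g, rfl⟩ | h
    · have hk0 : 0 < k := Nat.pos_of_mul_pos_right hd'
      refine key l w hl ⟨g, Nat.eq_of_mul_eq_mul_left hk0 ?_⟩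
      rw [mul_comm k (l ^ w), ← hwk]; ring
    · exact hk (hld.trans h)
  · by_contra h
    obtain ⟨g, rfl⟩ := hfe
    obtain ⟨l, hl, hlg⟩ := Nat.exists_prime_and_dvd (n := g) fun h' => h (by rw [h', mul_one])
    obtain ⟨w, k, hk, hwk⟩ := Nat.exists_eq_pow_mul_and_not_dvd he l hl.ne_one
    rcases h1 (d * l ^ w) (Dvd.intro _ rfl) (Nat.mul_dvd_mul_left d ⟨k, hwk⟩) with h | h
    · have := Nat.mul_dvd_mul (Nat.dvd_of_mul_dvd_mul_left hd' h) hlg
      rw [hwk] at this
      exact hk (Nat.dvd_of_mul_dvd_mul_left (pow_pos hl.pos w) this)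
    · exact key l w hl (Nat.dvd_of_mul_dvd_mul_left hd' h)

section
variable {G : Type*} [Group G]

def adj (x y : G) : Prop := x ∈ zpowers y ∨ y ∈ zpowers x
def nb (x : G) : Set G := {y | adj x y}
def tw (x : G) : Set G := {y | nb x = nb y}
def gens (x : G) : Set G := {c ∈ (zpowers x : Set G) | orderOf c = orderOf x}
def Mx (c : G) : Prop := ∀ w, c ∈ zpowers w → w ∈ zpowers c

theorem Mx.nb_eq {c : G} (h : Mx c) : nb c = zpowers c :=
  Set.ext fun y => ⟨fun hy => hy.elim (h y) id, Or.inr⟩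

theorem nb_one : nb (1 : G) = Set.univ := Set.eq_univ_of_forall fun _ => Or.inl (one_mem _)

theorem self_mem_nb (x : G) : x ∈ nb x := Or.inl (mem_zpowers x)

variable [Finite G]

theorem ncard_gens (x : G) : (gens x).ncard = (orderOf x).totient := by
  classical
  haveI := Fintype.ofFinite (zpowers x)
  have h := IsCyclic.card_orderOf_eq_totient (α := zpowers x) (d := orderOf x)
    (by rw [← Nat.card_eq_fintype_card, Nat.card_zpowers])
  rw [← h, ← Set.ncard_coe_finset, ← Set.ncard_image_of_injective _ Subtype.val_injective]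
  congr 1
  ext y
  simp only [gens, Set.mem_setOf_eq, Finset.coe_filter, Finset.mem_univ, true_and, Set.mem_image]
  constructor
  · rintro ⟨h1, h2⟩; exact ⟨⟨y, h1⟩, by rw [← h2, orderOf_mk], rfl⟩
  · rintro ⟨z, h1, rfl⟩; exact ⟨z.2, by rw [← h1, orderOf_coe]⟩

theorem ncard_zpowers (x : G) : (zpowers x : Set G).ncard = orderOf x := by
  rw [← Nat.card_coe_set_eq, ← Nat.card_zpowers]; rfl

theorem mem_iff_dvd {c x y : G} (hx : x ∈ zpowers c) (hy : y ∈ zpowers c) :
    x ∈ zpowers y ↔ orderOf x ∣ orderOf y :=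
  ⟨orderOf_dvd_of_mem_zpowers, fun h => PGrp.mem_zpowers_of_pow_eq_one inferInstance hx hy
    (orderOf_dvd_iff_pow_eq_one.1 h)⟩

theorem zpowers_eq_of_mem_gens {x y : G} (h : y ∈ gens x) : zpowers y = zpowers x :=
  le_antisymm (zpowers_le_of_mem h.1)
    (zpowers_le_of_mem ((mem_iff_dvd (mem_zpowers x) h.1).2 h.2.symm.dvd))

theorem gens_subset_tw (x : G) : gens x ⊆ tw x := fun y hy => by
  have h := zpowers_eq_of_mem_gens hy
  ext z
  simp only [nb, adj, Set.mem_setOf_eq, ← zpowers_le, h]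

theorem exists_mx (x : G) : ∃ c, x ∈ zpowers c ∧ Mx c := by
  obtain ⟨c, hc, hm⟩ := Set.exists_max_image {c | x ∈ zpowers c} orderOf (Set.toFinite _)
    ⟨x, mem_zpowers x⟩
  refine ⟨c, hc, fun w hw => ?_⟩
  have h1 := hm w (zpowers_le_of_mem hw hc)
  have h2 := Nat.le_of_dvd (orderOf_pos w) (orderOf_dvd_of_mem_zpowers hw)
  exact (mem_iff_dvd (mem_zpowers w) hw).2 (le_antisymm h1 h2).dvd

theorem lemA {c x y : G} (hc : NPP (orderOf c)) (hx : x ∈ zpowers c) (hy : y ∈ zpowers c)
    (hxy : x ∈ zpowers y) (h : nb x = nb y) : orderOf x = orderOf y ∨ x = 1 := by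
  by_cases h0 : orderOf x = orderOf y
  · exact Or.inl h0
  right
  obtain ⟨f, hf⟩ := orderOf_dvd_of_mem_zpowers hxy
  obtain ⟨e, he⟩ := orderOf_dvd_of_mem_zpowers hx
  have key : ∀ k, k ∣ orderOf c → ((orderOf x ∣ k ∨ k ∣ orderOf x) ↔
      (orderOf y ∣ k ∨ k ∣ orderOf y)) := by
    intro k hk
    have hz : c ^ (orderOf c / k) ∈ zpowers c := npow_mem_zpowers _ _
    have ho : orderOf (c ^ (orderOf c / k)) = k := orderOf_pow_orderOf_div (orderOf_pos c).ne' hk
    have := Set.ext_iff.1 h (c ^ (orderOf c / k))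
    simp only [nb, adj, Set.mem_setOf_eq] at this
    rwa [mem_iff_dvd hx hz, mem_iff_dvd hz hx, mem_iff_dvd hy hz, mem_iff_dvd hz hy, ho] at this
  have hyc := orderOf_dvd_of_mem_zpowers hy
  rw [hf, he] at key hyc
  refine orderOf_eq_one_iff.1 (numA (f := f) (e := e) (orderOf_pos x).ne'
    (fun h => (orderOf_pos c).ne' (by rw [he, h, mul_zero])) (fun h => h0 (by rw [hf, h, mul_one]))
    (Nat.dvd_of_mul_dvd_mul_left (orderOf_pos x) hyc) (he ▸ hc)
    (fun k h1 h2 => ((key k h2).1 (Or.inl h1)).symm)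
    (fun k h1 => ((key k (h1.trans hyc)).2 (Or.inr h1)).symm)).1

/-- a twin class inside a maximal cyclic subgroup of non prime power order -/
theorem tw_eq_gens {c u : G} (hm : Mx c) (hc : NPP (orderOf c)) (hu : u ∈ zpowers c)
    (h1 : nb u ≠ Set.univ) : tw u = gens u := by
  refine Set.Subset.antisymm (fun x hx => ?_) (gens_subset_tw u)
  have hx' : nb u = nb x := hx
  have hxc : x ∈ zpowers c := by
    have : c ∈ nb x := hx' ▸ Or.inl hu
    exact this.elim id (hm x)
  have : x ∈ nb u := hx' ▸ self_mem_nb x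
  rcases this with h | h
  · rcases lemA hc hu hxc h hx' with h2 | rfl
    · exact ⟨(mem_iff_dvd hxc hu).2 h2.symm.dvd, h2.symm⟩
    · exact absurd nb_one h1
  · rcases lemA hc hxc hu h hx'.symm with h2 | rfl
    · exact ⟨h, h2⟩
    · exact absurd (hx'.trans nb_one) h1

theorem ncard_inter {c u : G} (hm : Mx c) (hu : u ∈ zpowers c) (h : 2 * orderOf u = orderOf c) :
    (nb c ∩ nb u).ncard = orderOf u + (orderOf c).totient := by
  have hu0 := orderOf_pos u
  rw [← ncard_zpowers u, ← ncard_gens, ← Set.ncard_union_eq, hm.nb_eq]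
  · congr 1
    ext x
    constructor
    · rintro ⟨h1, h2 | h2⟩
      · obtain ⟨k, hk⟩ := orderOf_dvd_of_mem_zpowers h2
        have h3 := orderOf_dvd_of_mem_zpowers h1
        rw [hk, ← h, mul_comm 2] at h3
        rcases (Nat.dvd_prime Nat.prime_two).1 (Nat.dvd_of_mul_dvd_mul_left hu0 h3) with rfl | rfl
        · exact Or.inl ((mem_iff_dvd h1 hu).2 (by rw [hk, mul_one]))
        · exact Or.inr ⟨h1, by rw [hk, ← h, mul_comm]⟩
      · exact Or.inl h2
    · rintro (h1 | h1)
      · exact ⟨zpowers_le_of_mem hu h1, Or.inr h1⟩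
      · exact ⟨h1.1, Or.inl (zpowers_eq_of_mem_gens h1 ▸ hu)⟩
  · rw [Set.disjoint_left]
    intro x h1 h2
    have := Nat.le_of_dvd hu0 (orderOf_dvd_of_mem_zpowers h1)
    have := h2.2
    omega

end

theorem main {G H : Type*} [Group G] [Finite G] [Group H] [Finite H] (e : G ≃ H)
    (he : ∀ x y : G, adj x y ↔ adj (e x) (e y)) {c : G} (hm : Mx c) (hc : NPP (orderOf c))
    (h1 : e c ≠ 1) : ∃ y : H, orderOf c ∣ orderOf y := by
  have enb : ∀ x, e '' nb x = nb (e x) := fun x => by
    ext z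
    obtain ⟨z, rfl⟩ := e.surjective z
    rw [e.injective.mem_set_image]
    exact he x z
  have eeq : ∀ x y, nb x = nb y ↔ nb (e x) = nb (e y) := fun x y => by
    rw [← enb, ← enb, e.injective.image_injective.eq_iff]
  have euniv : ∀ x, nb x = Set.univ ↔ nb (e x) = Set.univ := fun x => by
    rw [← enb, ← Set.image_univ_of_surjective e.surjective, e.injective.image_injective.eq_iff]
  have cnb : ∀ x, (nb x).ncard = (nb (e x)).ncard := fun x => by
    rw [← enb, Set.ncard_image_of_injective _ e.injective]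
  have cin : ∀ x y, (nb x ∩ nb y).ncard = (nb (e x) ∩ nb (e y)).ncard := fun x y => by
    rw [← enb, ← enb, ← Set.image_inter e.injective, Set.ncard_image_of_injective _ e.injective]
  have ctw : ∀ x, (tw x).ncard = (tw (e x)).ncard := fun x => by
    rw [← Set.ncard_image_of_injective _ e.injective]
    congr 1
    ext z
    obtain ⟨z, rfl⟩ := e.surjective z
    rw [e.injective.mem_set_image]
    exact eeq x z
  obtain ⟨y, hy, hmy⟩ := exists_mx (e c)
  obtain ⟨u, rfl⟩ := e.surjective y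
  refine ⟨e u, ?_⟩
  have hu : u ∈ zpowers c := ((he c u).2 (Or.inl hy)).elim (hm u) id
  by_cases h2 : nb c = nb u
  · have a1 := cnb u
    rw [← h2, hm.nb_eq, hmy.nb_eq, ncard_zpowers, ncard_zpowers] at a1
    exact a1.dvd
  by_cases h3 : nb u = Set.univ
  · have a1 := (euniv u).1 h3
    rw [hmy.nb_eq] at a1
    rw [← ncard_zpowers (e u), a1, Set.ncard_univ, ← Nat.card_congr e]
    exact orderOf_dvd_natCard c
  have hn0 := orderOf_pos c
  have hm0 := orderOf_pos (e u)
  have b1 : (tw u).ncard = (orderOf u).totient := by rw [tw_eq_gens hm hc hu h3, ncard_gens]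
  have b2 : (orderOf u).totient ≤ (orderOf c).totient := Nat.le_of_dvd (Nat.totient_pos.2 hn0)
    (Nat.totient_dvd_of_dvd (orderOf_dvd_of_mem_zpowers hu))
  have b3 : (orderOf (e u)).totient ≤ (tw (e u)).ncard :=
    ncard_gens (e u) ▸ Set.ncard_le_ncard (gens_subset_tw _)
  have b4 : (orderOf c).totient ≤ (tw c).ncard :=
    ncard_gens c ▸ Set.ncard_le_ncard (gens_subset_tw _)
  have b5 := ctw u
  have b6 := ctw c
  by_cases h4 : NPP (orderOf (e u))
  · have h5 : nb (e c) ≠ Set.univ := fun h => by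
      rcases lemA h4 (one_mem _) hy (one_mem _) (nb_one.trans h.symm) with h' | -
      · exact h1 (orderOf_eq_one_iff.1 (h'.symm.trans orderOf_one))
      · have a1 : (1 : H) ∈ tw (e c) := h.trans nb_one.symm
        obtain ⟨f, hf⟩ := orderOf_dvd_of_mem_zpowers hy
        have key : ∀ k, k ∣ orderOf (e u) → (orderOf (e c) ∣ k ∨ k ∣ orderOf (e c)) := by
          intro k hk
          have hz : e u ^ (orderOf (e u) / k) ∈ zpowers (e u) := npow_mem_zpowers _ _
          have ho : orderOf (e u ^ (orderOf (e u) / k)) = k := orderOf_pow_orderOf_div hm0.ne' hk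
          have : e u ^ (orderOf (e u) / k) ∈ nb (e c) := h ▸ Set.mem_univ _
          simp only [nb, adj, Set.mem_setOf_eq] at this
          rwa [mem_iff_dvd hy hz, mem_iff_dvd hz hy, ho] at this
        have := (numA (d := 1) (f := orderOf (e c)) (e := orderOf (e u)) one_ne_zero hm0.ne'
          (fun h => h1 (orderOf_eq_one_iff.1 h)) ⟨f, hf⟩ (by rwa [one_mul])
          (fun k _ hk => by rw [one_mul] at *; exact (key k hk).symm)
          (fun k _ => Or.inr (one_dvd k))).2
        exact h2 ((eeq c u).2 (gens_subset_tw (e u) ⟨hy, this⟩).symm)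
    have c1 : (tw (e c)).ncard = (orderOf (e c)).totient := by
      rw [tw_eq_gens hmy h4 hy h5, ncard_gens]
    have c2 : (orderOf (e c)).totient ≤ (orderOf (e u)).totient :=
      Nat.le_of_dvd (Nat.totient_pos.2 hm0) (Nat.totient_dvd_of_dvd (orderOf_dvd_of_mem_zpowers hy))
    have d1 := (Nat.eq_or_eq_of_totient_eq_totient (orderOf_dvd_of_mem_zpowers hu)
      (by omega)).resolve_left fun h => h2 (gens_subset_tw c ⟨hu, h⟩)
    have d2 := (Nat.eq_or_eq_of_totient_eq_totient (orderOf_dvd_of_mem_zpowers hy)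
      (by omega)).resolve_left fun h => h2 ((eeq c u).2 (gens_subset_tw (e u) ⟨hy, h⟩).symm)
    have d3 := cin c u
    rw [ncard_inter hm hu d1, Set.inter_comm, ncard_inter hmy hy d2] at d3
    exact (show orderOf c = orderOf (e u) by omega).dvd
  · exfalso
    have hu1 : e u ≠ 1 := fun h => h1 (by simpa [h] using hy)
    have hl := Nat.minFac_prime (n := orderOf (e u)) fun h => hu1 (orderOf_eq_one_iff.1 h)
    have hpow := Nat.eq_prime_pow_of_unique_prime_dvd (p := (orderOf (e u)).minFac) hm0.ne'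
      fun {d} hd hdv => by
        by_contra hne
        exact h4 ⟨d, _, hd, hl, hne, hdv, Nat.minFac_dvd _⟩
    generalize (orderOf (e u)).primeFactorsList.length = t at hpow
    generalize (orderOf (e u)).minFac = l at hpow hl
    have c1 : orderOf (e u) ≤ 2 * (orderOf (e u)).totient := by
      rcases t with _ | t
      · rw [hpow]; simp
      · rw [hpow, Nat.totient_prime_pow_succ hl, pow_succ, mul_left_comm]
        exact Nat.mul_le_mul_left _ (by have := hl.two_le; omega)
    have hdis : Disjoint (tw (e c)) (gens (e u)) := Set.disjoint_left.2 fun x hx1 hx2 =>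
      h2 ((eeq c u).2 (hx1.trans (gens_subset_tw _ hx2).symm))
    have hsub : tw (e c) ∪ gens (e u) ⊆ zpowers (e u) := by
      refine Set.union_subset (fun x hx => ?_) fun x hx => hx.1
      have : e u ∈ nb x := (show nb (e c) = nb x from hx) ▸ Or.inl hy
      exact this.elim id (hmy x)
    by_cases h5 : nb c = Set.univ
    · have c2 := Set.ncard_le_ncard hsub
      rw [Set.ncard_union_eq hdis, ncard_gens, ncard_zpowers] at c2
      have c3 : (gens c).ncard < (tw c).ncard := Set.ncard_lt_ncard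
        ⟨gens_subset_tw c, fun h => by
          have a1 : (1 : G) ∈ gens c := h (h5.trans nb_one.symm)
          obtain ⟨r, s, hr, -, -, hd, -⟩ := hc
          rw [← a1.2, orderOf_one] at hd
          exact hr.not_dvd_one hd⟩
      rw [ncard_gens] at c3
      omega
    · have c2 := Set.ncard_lt_ncard (s := tw (e c) ∪ gens (e u)) (t := zpowers (e u)) ⟨hsub, fun h => by
        rcases h (one_mem _) with h | h
        · exact h5 ((euniv c).2 (h.trans nb_one))
        · exact hu1 (orderOf_eq_one_iff.1 (h.2.symm.trans orderOf_one))⟩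
      rw [Set.ncard_union_eq hdis, ncard_gens, ncard_zpowers] at c2
      omega

theorem main' {G H : Type*} [Group G] [Finite G] [Group H] [Finite H] (e : G ≃ H)
    (he : ∀ x y : G, adj x y ↔ adj (e x) (e y)) {p q : ℕ} (hp : p.Prime) (hq : q.Prime)
    (hpq : p ≠ q) (h : ∃ g : G, orderOf g = p * q) : ∃ h : H, orderOf h = p * q := by
  obtain ⟨g, hg⟩ := h
  obtain ⟨c, hc, hm⟩ := exists_mx g
  have h1 : p * q ∣ orderOf c := hg ▸ orderOf_dvd_of_mem_zpowers hc
  have h2 : NPP (orderOf c) := ⟨p, q, hp, hq, hpq, (Dvd.intro _ rfl).trans h1,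
    (Dvd.intro_left _ rfl).trans h1⟩
  suffices h : ∃ y : H, orderOf c ∣ orderOf y by
    obtain ⟨y, hy⟩ := h
    exact ⟨_, orderOf_pow_orderOf_div (orderOf_pos y).ne' (h1.trans hy)⟩
  by_cases h3 : e c = 1
  · rw [← orderOf_inv]
    refine main e he (fun w hw => ?_) (by rwa [orderOf_inv]) fun h4 => ?_
    · rw [zpowers_inv]; exact hm w (by simpa using hw)
    · have h5 : c⁻¹ = c := e.injective (h4.trans h3.symm)
      have h6 : orderOf c ∣ 2 := orderOf_dvd_of_pow_eq_one (by
        rw [pow_two]; nth_rw 1 [← h5]; exact inv_mul_cancel c)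
      have h7 := Nat.le_of_dvd two_pos (h1.trans h6)
      nlinarith [hp.two_le, hq.two_le]
  · exact main e he hm h2 h3


/-- Let G and H be finite groups whose power graphs are isomorphic: there is a bijection e : G → H such that, for all x, y, one of x, y is a power of the other exactly when one of e(x), e(y) is a power of the other. Then G and H have the same prime graph: for distinct primes p, q, G has an element of order pq if and only if H does. -/
theorem result {G H : Type*} [Group G] [Finite G] [Group H] [Finite H] (e : G ≃ H)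
    (he : ∀ x y : G, (x ∈ Subgroup.zpowers y ∨ y ∈ Subgroup.zpowers x) ↔
      (e x ∈ Subgroup.zpowers (e y) ∨ e y ∈ Subgroup.zpowers (e x)))
    {p q : ℕ} (hp : p.Prime) (hq : q.Prime) (hpq : p ≠ q) :
    (∃ g : G, orderOf g = p * q) ↔ (∃ h : H, orderOf h = p * q) := by
  refine ⟨main' e he hp hq hpq, main' e.symm (fun x y => ?_) hp hq hpq⟩
  have := he (e.symm x) (e.symm y)
  rw [e.apply_symm_apply, e.apply_symm_apply] at this
  exact this.symm

end Cfsg.Agent.S4085
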