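import Cfsg.Statements.S4086
import Cfsg.Agent.Lib.PGrp.Cyclic
import Cfsg.Agent.Lib.Hall.ClassSize

set_option autoImplicit false
open Cfsg

namespace Cfsg.Agent.S4086

open Subgroup

/-- For a finite group G the following are equivalent: every non-identity element has prime-power order; whenever two elements generate a cyclic subgroup, one of them is a power of the other (the enhanced power graph of G coincides with its power graph). -/
theorem result {G : Type*} [Group G] [Finite G] :
    (∀ g : G, g ≠ 1 → IsPrimePow (orderOf g)) ↔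
    (∀ x y : G, IsCyclic ↥(Subgroup.closure ({x, y} : Set G)) → (x ∈ Subgroup.zpowers y ∨ y ∈ Subgroup.zpowers x)) := by
  constructor
  · intro h x y hc
    obtain ⟨a, ha⟩ := Lib.PGrp.exists_zpowers_eq_of_isCyclic hc
    have hx : x ∈ zpowers a := ha ▸ subset_closure (by simp)
    have hy : y ∈ zpowers a := ha ▸ subset_closure (by simp)
    have c : IsCyclic (zpowers a) := inferInstance
    rcases eq_or_ne a 1 with rfl | h1
    · simp only [zpowers_one_eq_bot, mem_bot] at hx
      simp [hx]
    obtain ⟨p, k, hp, -, hk⟩ := (isPrimePow_nat_iff _).1 (h a h1)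
    obtain ⟨i, -, hi⟩ := (Nat.dvd_prime_pow hp).1 (hk ▸ orderOf_dvd_of_mem_zpowers hx)
    obtain ⟨j, -, hj⟩ := (Nat.dvd_prime_pow hp).1 (hk ▸ orderOf_dvd_of_mem_zpowers hy)
    refine (le_total i j).imp (fun l => ?_) fun l => ?_
    · exact Lib.PGrp.mem_zpowers_of_pow_eq_one c hx hy
        (orderOf_dvd_iff_pow_eq_one.1 (hi ▸ hj ▸ pow_dvd_pow p l))
    · exact Lib.PGrp.mem_zpowers_of_pow_eq_one c hy hx
        (orderOf_dvd_iff_pow_eq_one.1 (hi ▸ hj ▸ pow_dvd_pow p l))
  · intro h g hg
    have h1 : orderOf g ≠ 1 := by simpa using hg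
    refine isPrimePow_iff_unique_prime_dvd.2 ⟨_, ⟨Nat.minFac_prime h1, Nat.minFac_dvd _⟩,
      fun q hq => ?_⟩
    have h0 := (orderOf_pos g).ne'
    have e : ∀ r, r ∣ orderOf g → orderOf (g ^ (orderOf g / r)) = r := fun r hr =>
      orderOf_pow_orderOf_div h0 hr
    rcases h (g ^ (orderOf g / q)) (g ^ (orderOf g / (orderOf g).minFac))
      (Lib.PGrp.isCyclic_of_le' (C := zpowers g) inferInstance (Lib.PGrp.closure_pair_le
        (npow_mem_zpowers _ _) (npow_mem_zpowers _ _))) with h2 | h2 <;>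
      have h3 := orderOf_dvd_of_mem_zpowers h2 <;> rw [e _ hq.2, e _ (Nat.minFac_dvd _)] at h3
    · exact (Nat.prime_dvd_prime_iff_eq hq.1 (Nat.minFac_prime h1)).1 h3
    · exact ((Nat.prime_dvd_prime_iff_eq (Nat.minFac_prime h1) hq.1).1 h3).symm

end Cfsg.Agent.S4086
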