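import Cfsg.Statements.S4087
import Cfsg.Agent.Lib.Exc.CIT7

set_option autoImplicit false
open Cfsg

namespace Cfsg.Agent.S4087

open Cfsg.Lib Cfsg.Lib.Exc

/-- Let G be a finite group in which every non-identity element has prime-power order (its prime graph has no edges). Then the order of G has at most four distinct prime divisors; and if it has exactly four, then either G is isomorphic to PSL(3,4), or G has a normal 2-subgroup N with G/N isomorphic to the Suzuki group over the field with 8 or with 32 elements. -/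
theorem result {G : Type*} [Group G] [Finite G] (h : ∀ g : G, g ≠ 1 → IsPrimePow (orderOf g)) :
    (Nat.card G).primeFactors.card ≤ 4 ∧
    ((Nat.card G).primeFactors.card = 4 →
      (∃ (F : Type) (_ : Field F) (_ : Fintype F), Fintype.card F = 4 ∧
        Nonempty (G ≃* Matrix.ProjectiveSpecialLinearGroup (Fin 3) F)) ∨
      (∃ (N : Subgroup G) (_ : N.Normal), IsPGroup 2 ↥N ∧
        ∃ (F : Type) (_ : Field F) (_ : Fintype F),
          (Fintype.card F = 8 ∧ Nonempty (G ⧸ N ≃* ↥(Cfsg.Lie.Sz F 4))) ∨
          (Fintype.card F = 32 ∧ Nonempty (G ⧸ N ≃* ↥(Cfsg.Lie.Sz F 8))))) := by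
  by_cases hs : Group.IsSolvable G
  · have := mt (EP.not_solvable h) (not_not.2 hs)
    exact ⟨by omega, by omega⟩
  have hN := Core.isPGroup_pCore 2 G
  have key : ∀ n, Nat.card (G ⧸ pCore 2 G) = n → 2 ∣ n → (Nat.card G).primeFactors.card = n.primeFactors.card :=
    fun n e h2 => by rw [primeFactors_quot hN (e ▸ h2), e]
  rcases EP.list_quot h hs with (⟨F, _, _, h1, ⟨e⟩⟩ | ⟨F, _, _, h1, ⟨e⟩⟩ | ⟨F, _, _, m, hF, h1, ⟨e⟩⟩) | h1
  · suffices (Nat.card G).primeFactors.card = 3 from ⟨by omega, by omega⟩
    have h2 := Linear.card_PSL_two (F := F)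
    rw [← Nat.card_congr e.toEquiv, Nat.card_eq_fintype_card (α := F)] at h2
    simp only [Finset.mem_insert, Finset.mem_singleton] at h1
    rcases h1 with h1 | h1 | h1 | h1 | h1 <;> rw [h1] at h2 <;> norm_num at h2
    exacts [(key 60 (by omega) (by norm_num)).trans (by simp [Nat.primeFactors]),
      (key 168 (by omega) (by norm_num)).trans (by simp [Nat.primeFactors]),
      (key 504 (by omega) (by norm_num)).trans (by simp [Nat.primeFactors]),
      (key 360 (by omega) (by norm_num)).trans (by simp [Nat.primeFactors]),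
      (key 2448 (by omega) (by norm_num)).trans (by simp [Nat.primeFactors])]
  · have h2 := Nat.card_eq_fintype_card.trans h1
    exact ⟨(key _ ((Nat.card_congr e.toEquiv).trans (card_psl3_four h2)) (by norm_num)).trans_le (by simp [Nat.primeFactors]),
      fun _ => Or.inl ⟨F, _, _, h1, equiv_of_eq_bot ((EP.cit h).eq_bot_psl3 hN h2 e) e⟩⟩
  · have h2 := Nat.card_eq_fintype_card.symm.trans hF.card_eq
    have h3 := hF.one_le
    have e' := e.trans (BN.Sz.szEquiv m)
    have h4 := (Nat.card_congr e.toEquiv).trans (BN.Sz.card_Sz m)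
    interval_cases m
    exacts [⟨(key 29120 h4 (by norm_num)).trans_le (by simp [Nat.primeFactors]),
      fun _ => Or.inr ⟨_, inferInstance, hN, F, _, _, Or.inl ⟨h2, ⟨e'⟩⟩⟩⟩,
      ⟨(key 32537600 h4 (by norm_num)).trans_le (by simp [Nat.primeFactors]),
      fun _ => Or.inr ⟨_, inferInstance, hN, F, _, _, Or.inr ⟨h2, ⟨e'⟩⟩⟩⟩]
  · suffices (Nat.card G).primeFactors.card = 3 from ⟨by omega, by omega⟩
    exact (key _ h1.card (by norm_num)).trans (by simp [Nat.primeFactors])

end Cfsg.Agent.S4087
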