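import Cfsg.Statements.S4089
import Cfsg.Agent.Lib.Coprime.Subnorm
import Cfsg.Agent.Lib.Amalg.Ops

set_option autoImplicit false
open Cfsg

namespace Cfsg.Agent.S4089

open Cfsg.Lib Cfsg.Lib.Coprime Cfsg.Lib.Transfer Subgroup

/-- Let G be a finite group, p a prime and H a p-subgroup of G. Then the set of elements g of G such that H is subnormal in the subgroup generated by H and g is the union of the normalizers N_G(R) over the subgroups R of G containing H with R = O_p(N_G(R)); and this set does not change when H is replaced by the intersection of all Sylow p-subgroups of G containing H. -/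
theorem result {G : Type*} [Group G] [Finite G] (p : ℕ) [Fact p.Prime]
    (H : Subgroup G) (hH : IsPGroup p H) :
    {g : G | ((H).subgroupOf (H ⊔ Subgroup.zpowers g)).IsSubnormal} =
      {g : G | ∃ R : Subgroup G, H ≤ R ∧ (Cfsg.pCore p (Subgroup.normalizer (R : Set G))).map (Subgroup.normalizer (R : Set G)).subtype = R ∧ g ∈ Subgroup.normalizer (R : Set G)} ∧
    ∀ g : G, (((H).subgroupOf (H ⊔ Subgroup.zpowers g)).IsSubnormal ↔
      (((sInf {K : Subgroup G | ∃ Q : Sylow p G, H ≤ (Q : Subgroup G) ∧ K = (Q : Subgroup G)})).subgroupOf ((sInf {K : Subgroup G | ∃ Q : Sylow p G, H ≤ (Q : Subgroup G) ∧ K = (Q : Subgroup G)}) ⊔ Subgroup.zpowers g)).IsSubnormal) := by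
  have key : ∀ g, (∃ R : Subgroup G, IsPGroup p R ∧ H ≤ R ∧ g ∈ normalizer (R : Set G)) →
      ∃ R : Subgroup G, H ≤ R ∧ (pCore p (normalizer (R : Set G))).map (normalizer (R : Set G)).subtype
        = R ∧ g ∈ normalizer (R : Set G) := fun g ⟨R, h⟩ => by
    obtain ⟨R, ⟨h1, h2, h3⟩, -, h4⟩ := PGrp.exists_maximal_subgroup_ge
      (fun R : Subgroup G => IsPGroup p R ∧ H ≤ R ∧ g ∈ normalizer (R : Set G)) h
    have := Core.le_pCoreOf le_normalizer le_rfl h1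
    exact ⟨R, h2, h4 _ ⟨Core.isPGroup_pCoreOf _, h2.trans this, Core.le_normalizer_pCoreOf _ h3⟩ this, h3⟩
  refine ⟨Set.ext fun g => (isSubnormal_sup_iff hH).trans ⟨key g, fun ⟨R, h1, h2, h3⟩ =>
    ⟨R, h2 ▸ Core.isPGroup_pCoreOf _, h1, h3⟩⟩, fun g => ?_⟩
  obtain ⟨P, hP⟩ := hH.exists_le_sylow
  set D := sInf {K : Subgroup G | ∃ Q : Sylow p G, H ≤ (Q : Subgroup G) ∧ K = (Q : Subgroup G)}
  have hD : ∀ Q : Sylow p G, H ≤ Q → D ≤ Q := fun Q h => sInf_le ⟨Q, h, rfl⟩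
  rw [isSubnormal_sup_iff hH, isSubnormal_sup_iff (P.isPGroup'.to_le (hD P hP))]
  refine ⟨fun h => ?_, fun ⟨R, h1, h2, h3⟩ => ⟨R, h1, le_trans (le_sInf ?_) h2, h3⟩⟩
  swap
  · rintro _ ⟨Q, h, rfl⟩; exact h
  obtain ⟨R, h1, h2, h3⟩ := key g h
  have hR : IsPGroup p R := h2 ▸ Core.isPGroup_pCoreOf _
  refine ⟨R, hR, ?_, h3⟩
  obtain ⟨S, hS⟩ := hR.exists_le_sylow
  let E := ⨅ Q : {Q : Sylow p G // R ≤ Q}, (Q.1 : Subgroup G)
  have e1 : R ≤ E := le_iInf fun Q => Q.2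
  refine (le_iInf fun Q : {Q : Sylow p G // R ≤ Q} => hD Q.1 (h1.trans Q.2)).trans (by_contra fun h => ?_)
  refine (lt_inf_normalizer (S.isPGroup'.to_le (iInf_le_of_le ⟨S, hS⟩ le_rfl : E ≤ S))
    (e1.lt_of_not_ge h)).not_ge fun x hx => h2.le ⟨⟨x, hx.2⟩, ?_, rfl⟩
  rw [SetLike.mem_coe, Core.pCore_eq_iInf_sylow, mem_iInf]
  intro T
  have hT := sylowIn_map_subtype T
  obtain ⟨Q, hQ⟩ := hT.2.exists_le_sylow
  have := hT.eq_of_le (Q := Q ⊓ normalizer (R : Set G)) Q.isPGroup'.to_inf_left (le_inf hQ hT.1)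
    inf_le_right
  obtain ⟨_, h, rfl⟩ := this.le
    ⟨mem_iInf.1 hx.1 ⟨Q, (hT.le_of_le_normalizer hR le_normalizer hT.1).trans hQ⟩, hx.2⟩
  exact h

end Cfsg.Agent.S4089
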