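import Cfsg.Statements.S4107
import Cfsg.Agent.Lib.Hall.Camina

set_option autoImplicit false
open Cfsg

namespace Cfsg.Agent.S4107

open scoped Pointwise commutatorElement
open Cfsg.Lib Cfsg.Lib.Hall

open Subgroup Cfsg.Lib.Core Cfsg.Lib.Transfer

theorem aux {G : Type*} [Group G] [Finite G] {N : Subgroup G} [N.Normal] (heq : EqOrd N N) {q : ℕ}
    (hq : q.Prime) {x : G} (hx : x ∈ fittingSubgroup G) (hxq : IsPGroup q (zpowers x)) (hxN : x ∉ N) :
    IsPGroup q N := by
  have hxO : x ∈ pCore q G := le_pCore_of_le_fitting hq hxq (zpowers_le.mpr hx) (mem_zpowers x)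
  haveI := pCore_characteristic q G
  refine (isPGroup_comap_mk' (pCore q G) (isPGroup_pCore q G) (K := N.map (QuotientGroup.mk' _)) ?_).to_le
    (le_comap_map _ _)
  rw [isPGroup_iff_forall_mem]
  rintro _ ⟨n, hn, rfl⟩
  obtain ⟨k, hk⟩ := (isPGroup_zpowers_iff hq).mp hxq
  refine ⟨k, ?_⟩
  have h1 : (x * n) ^ q ^ k = 1 := by rw [← hk, ← heq x hxN n hn, pow_orderOf_eq_one]
  have h2 := congrArg (QuotientGroup.mk' (pCore q G)) h1
  rwa [map_pow, map_mul, show QuotientGroup.mk' (pCore q G) x = 1 from (QuotientGroup.eq_one_iff x).mpr hxO,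
    one_mul, map_one] at h2

theorem exists_elt {G : Type*} [Group G] [Finite G] {F N : Subgroup G} (h : ¬ F ≤ N) :
    ∃ q : ℕ, q.Prime ∧ ∃ x ∈ F, IsPGroup q (zpowers x) ∧ x ∉ N := by
  by_contra hc
  push Not at hc
  exact h (le_of_forall_isPGroup hc)

/-- Let G be a finite group and N a proper non-trivial normal subgroup such that for every x outside N all elements of the coset xN have the same order as x. Then N ≤ F(G) or F(G) ≤ N, where F(G) is the Fitting subgroup; and if N is properly contained in F(G) then F(G) has prime-power order. -/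
theorem result {G : Type*} [Group G] [Finite G] (N : Subgroup G) [N.Normal] (hN1 : N ≠ ⊥) (hN2 : N ≠ ⊤)
    (heq : ∀ x : G, x ∉ N → ∀ n ∈ N, orderOf (x * n) = orderOf x) :
    (N ≤ Cfsg.fittingSubgroup G ∨ Cfsg.fittingSubgroup G ≤ N) ∧
    (N < Cfsg.fittingSubgroup G → IsPrimePow (Nat.card (Cfsg.fittingSubgroup G))) := by
  refine ⟨or_iff_not_imp_right.mpr fun h => ?_, fun h => ?_⟩
  · obtain ⟨q, hq, x, hx, hxq, hxN⟩ := exists_elt h
    exact le_fitting_of_isPGroup hq (aux heq hq hx hxq hxN)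
  · obtain ⟨q, hq, x, hx, hxq, hxN⟩ := exists_elt h.not_ge
    have hN := aux heq hq hx hxq hxN
    have hd := dvd_card_of_isPGroup_of_ne_bot hq hN hN1
    refine isPrimePow_of_unique Nat.card_pos.ne' hq (hd.trans (card_dvd_of_le h.le)) fun r hr hrd => ?_
    by_contra hrq
    haveI := Fact.mk hr
    haveI := Fact.mk hq
    obtain ⟨y, hy⟩ := exists_prime_orderOf_dvd_card' (G := fittingSubgroup G) r hrd
    rw [← orderOf_coe] at hy
    have hyr : IsPGroup r (zpowers (y : G)) := isPGroup_zpowers_of_orderOf (k := 1) (by rw [hy, pow_one])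
    by_cases hyN : (y : G) ∈ N
    · have := (IsPGroup.disjoint_of_ne r q hrq _ _ hyr hN).eq_bot
      rw [inf_eq_left.mpr (zpowers_le.mpr hyN), zpowers_eq_bot] at this
      rw [this, orderOf_one] at hy
      exact hr.one_lt.ne hy
    · exact hN1 (by simpa using (IsPGroup.disjoint_of_ne r q hrq _ _ (aux heq hr y.2 hyr hyN) hN).eq_bot)

end Cfsg.Agent.S4107
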