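import Cfsg.Statements.S4108
import Cfsg.Agent.Lib.Hall.Camina

set_option autoImplicit false
open Cfsg

namespace Cfsg.Agent.S4108

open scoped Pointwise commutatorElement
open Cfsg.Lib Cfsg.Lib.Hall

open Subgroup Cfsg.Lib.Core Cfsg.Lib.Transfer

/-- Let G be a finite group, p a prime and N a proper non-trivial normal p-subgroup such that for every x outside N all elements of the coset xN have the same order as x. Then every non-trivial subgroup H of G of order prime to p acts fixed-point-freely on N: NH is a Frobenius group with complement H and kernel N. -/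
theorem result {G : Type*} [Group G] [Finite G] (N : Subgroup G) [N.Normal] (hN1 : N ≠ ⊥) (hN2 : N ≠ ⊤)
    (heq : ∀ x : G, x ∉ N → ∀ n ∈ N, orderOf (x * n) = orderOf x)
    (p : ℕ) [Fact p.Prime] (hNp : IsPGroup p N) :
    ∀ H : Subgroup G, H ≠ ⊥ → (Nat.card H).Coprime p →
      Cfsg.IsFrobeniusComplement (H.subgroupOf (N ⊔ H)) ∧ Cfsg.frobeniusKernel (H.subgroupOf (N ⊔ H)) = (N.subgroupOf (N ⊔ H) : Set ↥(N ⊔ H)) := by
  intro H hH1 hH
  have hp : p.Prime := Fact.out
  have hd := inf_eq_bot_of_isPGroup_of_coprime hp hNp hH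
  have hf : Coprime.Fpf N H := fun r hr hr1 => EqOrd.inf_eq_bot heq (fun e => hr1 (by
    rw [← mem_bot, ← hd]; exact ⟨e, hr⟩)) le_rfl
      (Coprime.coprime_card_of_isPGroup hNp (coprime_orderOf_of_mem hH hr))
  have hs : N.subgroupOf (N ⊔ H) ⊔ H.subgroupOf (N ⊔ H) = ⊤ := by
    rw [← subgroupOf_sup le_sup_left le_sup_right, subgroupOf_self]
  refine ⟨Coprime.isFrobeniusComplement_of_fpf (hf.subgroupOf _) hs (fun e => hN1 ?_) fun e => hH1 ?_,
    (Coprime.coe_eq_frobeniusKernel_of_fpf (hf.subgroupOf _) hs).symm⟩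
  · rwa [subgroupOf_eq_bot, disjoint_iff, inf_eq_left.mpr le_sup_left] at e
  · rwa [subgroupOf_eq_bot, disjoint_iff, inf_eq_left.mpr le_sup_right] at e

end Cfsg.Agent.S4108
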