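import Cfsg.Statements.S4112
import Cfsg.Agent.Lib.Hall.Camina

set_option autoImplicit false
open Cfsg

namespace Cfsg.Agent.S4112

open scoped Pointwise commutatorElement
open Cfsg.Lib Cfsg.Lib.Hall

open Subgroup Cfsg.Lib.Core Cfsg.Lib.Transfer

/-- Let G be a finite group and M ≤ N non-trivial proper normal subgroups such that for every g outside N the conjugacy class of g is a union of cosets of M (equivalently gm is conjugate to g for every m ∈ M). Then (1) and (2) below are equivalent, and they imply (3): (1) every g outside N acts fixed-point-freely on M, that is C_G(x) ≤ N for every x ∈ M, x ≠ 1; (2) the index of N in G is coprime to the order of M; (3) there is a subgroup H of G with HN = G and H ∩ M = 1. -/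
theorem result {G : Type*} [Group G] [Finite G] (N M : Subgroup G) [N.Normal] [M.Normal] (hMN : M ≤ N) (hM1 : M ≠ ⊥) (hN2 : N ≠ ⊤)
    (hcam : ∀ g : G, g ∉ N → ∀ m ∈ M, ∃ x : G, x * g * x⁻¹ = g * m) :
    ((∀ x ∈ M, x ≠ 1 → Subgroup.centralizer ({x} : Set G) ≤ N) ↔ N.index.Coprime (Nat.card M)) ∧
    ((∀ x ∈ M, x ≠ 1 → Subgroup.centralizer ({x} : Set G) ≤ N) → ∃ H : Subgroup G, H ⊔ N = ⊤ ∧ H ⊓ M = ⊥) := by
  have key : (∀ x ∈ M, x ≠ 1 → Subgroup.centralizer ({x} : Set G) ≤ N) → N.index.Coprime (Nat.card M) := by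
    intro h
    by_contra hc
    obtain ⟨p, hp, h1, h2⟩ := Nat.Prime.not_coprime_iff_dvd.mp hc
    haveI := Fact.mk hp
    obtain ⟨P⟩ := (inferInstance : Nonempty (Sylow p G))
    have hPN := sylowIn_inf_normal P M
    have hne : (P : Subgroup G) ⊓ M ≠ ⊥ := fun e => hPN.not_dvd (by rwa [e, relIndex_bot_left])
    obtain ⟨⟨z, hz⟩, hz1⟩ := ne_bot_iff_exists_ne_one.mp (inf_centralizer_ne_bot_of_isPGroup hPN.isPGroup
      P.isPGroup' (le_normalizer_inf le_normalizer (le_normalizer_of_normal' _ _)) hne)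
    exact not_dvd_index_of_sylow_le P ((le_cent_iff.mpr hz.2).trans
      (h z hz.1.2 fun e => hz1 (Subtype.ext e))) h1
  refine ⟨⟨key, fun hc x hx hx1 => (Cam.eqOrd hcam).centralizer_le hc hx hx1⟩, fun h => ?_⟩
  obtain ⟨H, -, hH, hΦ⟩ := exists_min_supplement (N := N) (H₀ := ⊤) (top_sup_eq _)
  refine ⟨H, hH, inf_eq_bot_of_coprime ?_⟩
  by_contra hc
  obtain ⟨p, hp, h1, h2⟩ := Nat.Prime.not_coprime_iff_dvd.mp hc
  refine hp.one_lt.ne' (Nat.eq_one_of_dvd_coprimes (key h) ?_ h2)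
  rw [← relIndex_top_right, ← hH, relIndex_sup_right]
  refine (prime_dvd_index_frattini hp h1).trans (index_dvd_of_le fun x hx => ?_)
  obtain ⟨y, hy, e⟩ := hΦ ⟨x.2, hx⟩
  rwa [← show y = x from Subtype.ext e]

end Cfsg.Agent.S4112
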