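import Cfsg.Statements.S4113
import Cfsg.Agent.Lib.Hall.Camina

set_option autoImplicit false
open Cfsg

namespace Cfsg.Agent.S4113

open scoped Pointwise commutatorElement
open Cfsg.Lib Cfsg.Lib.Hall

open Subgroup Cfsg.Lib.Core Cfsg.Lib.Transfer

/-- Let G be a finite group, M ≤ N non-trivial proper normal subgroups, and H a subgroup with HM = G and H ∩ M = 1. Then every element of G outside N acts fixed-point-freely on M (C_G(x) ≤ N for every x ∈ M, x ≠ 1) if and only if H ∩ gHg⁻¹ ≤ H ∩ N for every g outside H, with H proper and non-trivial and H ∩ N proper in H. -/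
theorem result {G : Type*} [Group G] [Finite G] (N M : Subgroup G) [N.Normal] [M.Normal] (hMN : M ≤ N) (hM1 : M ≠ ⊥) (hN2 : N ≠ ⊤)
    (H : Subgroup G) (hHM : H ⊔ M = ⊤) (hHM' : H ⊓ M = ⊥) :
    (∀ x ∈ M, x ≠ 1 → Subgroup.centralizer ({x} : Set G) ≤ N) ↔
      (H ≠ ⊥ ∧ H ≠ ⊤ ∧ H ⊓ N < H ∧ ∀ g : G, g ∉ H → H ⊓ H.map (MulAut.conj g).toMonoidHom ≤ N) := by
  constructor
  · intro h
    refine ⟨fun e => hN2 ?_, fun e => hM1 ?_, lt_of_le_of_ne inf_le_left fun e => hN2 ?_, fun g hg x hx => ?_⟩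
    · rw [e, bot_sup_eq] at hHM
      exact top_le_iff.mp (hHM ▸ hMN)
    · rwa [e, top_inf_eq] at hHM'
    · exact top_le_iff.mp (hHM ▸ sup_le (inf_eq_left.mp e) hMN)
    obtain ⟨m, hm, a, ha, rfl⟩ := factor_symm (factor_of_sup_eq_top hHM) g
    obtain ⟨hx1, hx2⟩ := mem_inf.mp hx
    rw [mem_map_conj_iff] at hx2
    have h1 : m⁻¹ * x * m ∈ H := by
      simpa [mul_assoc] using H.mul_mem (H.mul_mem ha hx2) (H.inv_mem ha)
    have h2 : x⁻¹ * (m⁻¹ * x * m) ∈ H ⊓ M := mem_inf.mpr ⟨mul_mem (inv_mem hx1) h1, by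
      simpa [mul_assoc] using M.mul_mem ((inferInstance : M.Normal).conj_mem _ (M.inv_mem hm) x⁻¹) hm⟩
    rw [hHM', mem_bot] at h2
    refine h m hm (fun e => hg (by rw [e, one_mul]; exact ha)) (mem_cent_iff.mpr ?_)
    calc x * m = m * x * (x⁻¹ * (m⁻¹ * x * m)) := by group
      _ = m * x := by rw [h2, mul_one]
  · rintro ⟨-, -, -, h⟩ x hx hx1 g hg
    by_contra hgN
    obtain ⟨m, hm, a, ha, rfl⟩ := factor_symm (factor_of_sup_eq_top hHM) g
    have haN : a ∉ N := fun e => hgN (mul_mem (hMN hm) e)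
    have h1 : M ⊓ centralizer ({a} : Set G) = ⊥ :=
      Coprime.inf_centralizer_singleton_eq_bot_iff.mpr fun k hk e => by
        by_contra hk1
        refine haN (h k (fun hkH => hk1 ?_) (mem_inf.mpr ⟨ha, mem_map_conj_iff.mpr ?_⟩))
        · rw [← mem_bot, ← hHM']; exact ⟨hkH, hk⟩
        · rwa [mul_assoc, e, inv_mul_cancel_left]
    obtain ⟨y, hy, e⟩ := Coprime.exists_mul_eq_conj_of_fpf (le_normalizer_of_normal' ⊤ M (mem_top a)) h1 hm
    rw [mem_cent_iff, e] at hg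
    have h2 := Coprime.inf_centralizer_singleton_eq_bot_iff.mp h1 (y⁻¹ * x * y)
      (by simpa using (inferInstance : M.Normal).conj_mem _ hx y⁻¹) (by
        calc a * (y⁻¹ * x * y) = y⁻¹ * (y * a * y⁻¹ * x) * y := by group
          _ = _ := by rw [hg]; group)
    exact hx1 (by
      calc x = y * (y⁻¹ * x * y) * y⁻¹ := by group
        _ = 1 := by rw [h2]; group)

end Cfsg.Agent.S4113
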