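import Cfsg.Statements.S4115
import Cfsg.Agent.Lib.Hall.TIHall

set_option autoImplicit false
universe u
open Cfsg

namespace Cfsg.Agent.S4115

open scoped Pointwise commutatorElement
open Cfsg.Lib Cfsg.Lib.Hall

open Cfsg.Lib.Core Subgroup

/-- Let G be a finite group and H a subgroup that meets each of its conjugates by elements outside N_G(H) trivially and whose order is coprime to its index in N_G(H). Then H has a normal complement in N_G(H) if and only if H has a normal complement in G. Moreover, if H is not normal in G and has a normal complement in N_G(H), then H is isomorphic to a Frobenius complement of some finite Frobenius group. -/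
theorem result {G : Type u} [Group G] [Finite G] (H : Subgroup G)
    (hTI : Cfsg.IsTISubset (H : Set G)) (hHall : (Nat.card H).Coprime (H.subgroupOf (Subgroup.normalizer (H : Set G))).index) :
    ((∃ K : Subgroup (Subgroup.normalizer (H : Set G)), K.Normal ∧ K.IsComplement' (H.subgroupOf (Subgroup.normalizer (H : Set G)))) ↔
      (∃ N : Subgroup G, N.Normal ∧ N.IsComplement' H)) ∧
    (¬ H.Normal → (∃ K : Subgroup (Subgroup.normalizer (H : Set G)), K.Normal ∧ K.IsComplement' (H.subgroupOf (Subgroup.normalizer (H : Set G)))) →
      ∃ (F : Type u) (_ : Group F) (_ : Finite F) (C : Subgroup F), Cfsg.IsFrobeniusComplement C ∧ Nonempty (H ≃* C)) := by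
  have key : (∃ K : Subgroup (normalizer (H : Set G)), K.Normal ∧
      K.IsComplement' (H.subgroupOf (normalizer (H : Set G)))) →
      ∃ N : Subgroup G, N.Normal ∧ N.IsComplement' H := by
    rintro ⟨K, hK, hc⟩
    refine ti_exists_normal_complement (K := K.map (normalizer (H : Set G)).subtype) hTI hHall ?_ ?_ ?_
    · have := le_normalizer_map (H := K) (normalizer (H : Set G)).subtype
      rwa [normalizer_eq_top K, ← MonoidHom.range_eq_map, range_subtype] at this
    · rw [eq_bot_iff]
      rintro _ ⟨⟨x, hx, rfl⟩, hx'⟩
      have : x ∈ K ⊓ H.subgroupOf (normalizer (H : Set G)) := ⟨hx, hx'⟩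
      rw [hc.disjoint.eq_bot, mem_bot] at this
      rw [this]; exact one_mem _
    · have := congrArg (Subgroup.map (normalizer (H : Set G)).subtype) hc.sup_eq_top
      rwa [Subgroup.map_sup, subgroupOf_map_subtype, inf_eq_left.mpr le_normalizer,
        ← MonoidHom.range_eq_map, range_subtype] at this
  refine ⟨⟨key, fun ⟨N, hN, hc⟩ => ⟨N.subgroupOf _, inferInstance,
    isComplement'_subgroupOf_of_le hc le_normalizer⟩⟩, fun hn h => ?_⟩
  obtain ⟨N, hN, hc⟩ := key h
  have h1 : FC H := ti_fc (X := N) hTI le_normalizer_of_normal
    (by rw [← hc.index_eq_card]; exact ti_coprime_index hTI hHall) (fun hle => hn (by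
      rw [← normalizer_eq_top_iff, eq_top_iff, ← hc.sup_eq_top]
      exact sup_le hle le_normalizer))
  have : Nontrivial H := (nontrivial_iff_ne_bot H).mpr fun e => hn (e ▸ inferInstance)
  exact h1.to_frob_univ

end Cfsg.Agent.S4115
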