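import Cfsg.Statements.S4116
import Cfsg.Agent.Lib.Hall.ClassSize
import Cfsg.Agent.Lib.Hall.Factor
import Cfsg.Agent.Lib.Coprime.FrobKernel

set_option autoImplicit false
open Cfsg

namespace Cfsg.Agent.S4116

open scoped Pointwise commutatorElement
open Cfsg.Lib Cfsg.Lib.Hall

open Subgroup Cfsg.Lib.Core Cfsg.Lib.Transfer

/-- Let G be a finite group with a subgroup H whose order is coprime to its index (a Hall subgroup) and which meets each of its conjugates by elements outside N_G(H) trivially. Then every subgroup of G whose order is divisible only by primes dividing the order of H lies in a conjugate of H. -/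
theorem result {G : Type*} [Group G] [Finite G] (H : Subgroup G)
    (hHall : (Nat.card H).Coprime H.index) (hTI : Cfsg.IsTISubset (H : Set G))
    (K : Subgroup G) (hK : ∀ q : ℕ, q.Prime → q ∣ Nat.card K → q ∣ Nat.card H) :
    ∃ g : G, K ≤ H.map (MulAut.conj g).toMonoidHom := by
  by_contra hcon
  push Not at hcon
  have hH := isPiHall_of_coprime hHall
  have h1 : ∀ (g : G) (y : K), y ≠ 1 → (y : G) ∈ MulAut.conj g • H →
      IsFrobeniusComplement ((MulAut.conj g • H).subgroupOf K) := by
    intro g y hy1 hy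
    refine ⟨fun e => hy1 ?_, fun e => hcon g (subgroupOf_eq_top.mp e), fun k hk => ?_⟩
    · have : y ∈ (MulAut.conj g • H).subgroupOf K := hy
      rwa [e, mem_bot] at this
    rw [eq_bot_iff]
    intro x hx
    obtain ⟨hx1, hx2⟩ := mem_inf.mp hx
    rw [mem_conj_smul, mem_subgroupOf, mem_conj_smul] at hx2
    rw [mem_subgroupOf, mem_conj_smul] at hx1
    have hn : g⁻¹ * k * g ∉ normalizer (H : Set G) := fun hn => hk (by
      rw [mem_subgroupOf, mem_conj_smul]
      refine zpowers_le.mp (le_of_coprime_card_relIndex (zpowers_le.mpr hn) le_rfl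
        (IsPiNumber.coprime_compl (π := {p | p ∣ Nat.card H}) ?_ ?_))
      · rw [Nat.card_zpowers]
        have : orderOf (g⁻¹ * k * g) = orderOf (k : G) := by simpa using (MulAut.conj g⁻¹).orderOf_eq (k : G)
        rw [this]
        exact isPi_orderOf_of_mem hK k.2
      · exact ((isPiHall_iff.mp hH).2).of_dvd (relIndex_dvd_index_of_le le_normalizer))
    have := hTI _ hn _ hx2 (by
      simpa [mul_assoc] using hx1)
    rw [mem_bot]
    apply Subtype.ext
    have h3 : (x : G) = k * g * 1 * (k * g)⁻¹ := by rw [← this]; simp [mul_assoc]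
    simpa using h3
  have h2 : ∀ y : K, (orderOf y).Prime → ∃ g : G, (y : G) ∈ MulAut.conj g • H := by
    intro y hy
    haveI := Fact.mk hy
    obtain ⟨P, hP⟩ := exists_sylow_le_of_not_dvd_index (p := orderOf y) (H := H) fun hd =>
      (isPiHall_iff.mp hH).2 _ hy hd (hK _ hy (orderOf_dvd_natCard y))
    obtain ⟨g, hg⟩ := exists_le_conj_sylow (isPGroup_zpowers_of_orderOf (x := (y : G)) (k := 1)
      (by rw [orderOf_coe, pow_one])) P
    exact ⟨g, mem_conj_smul.mpr (hP (mem_conj_smul.mp (hg (mem_zpowers _))))⟩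
  have hK1 : (⊤ : Subgroup K) ≠ ⊥ := fun e => hcon 1 fun x hx => by
    have : (⟨x, hx⟩ : K) ∈ (⊤ : Subgroup K) := mem_top _
    rw [e, mem_bot] at this
    rw [show x = 1 from congrArg Subtype.val this]; exact one_mem _
  have h3 : ∀ y : K, (orderOf y).Prime → y ≠ 1 := fun y hy e => by
    rw [e, orderOf_one] at hy; exact Nat.not_prime_one hy
  obtain ⟨x, -, hx⟩ := Coprime.exists_mem_orderOf_prime hK1
  obtain ⟨g, hg⟩ := h2 x hx
  have hF := h1 g x (h3 x hx) hg
  obtain ⟨N, -, hN, hc, hN1, -, -⟩ := Coprime.exists_frobKernel hF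
  obtain ⟨y, hyN, hy⟩ := Coprime.exists_mem_orderOf_prime hN1
  obtain ⟨g', hg'⟩ := h2 y hy
  obtain ⟨k, hk⟩ := Coprime.exists_conj_of_isFrobeniusComplement hF (h1 g' y (h3 y hy) hg')
  have h4 : k * y * k⁻¹ ∈ N ⊓ (MulAut.conj g • H).subgroupOf K := by
    refine mem_inf.mpr ⟨hN.conj_mem _ hyN k, ?_⟩
    rw [← hk, mem_conj_smul, mem_subgroupOf]
    simpa [mul_assoc] using hg'
  rw [hc.disjoint.eq_bot, mem_bot] at h4
  exact h3 y hy (by simpa using h4)

end Cfsg.Agent.S4116
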