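import Cfsg.Statements.S4117
import Cfsg.Agent.Lib.Hall.MinNormal
import Cfsg.Agent.Lib.PGrp.Cyclic
import Cfsg.Agent.Lib.Coprime.ActionForm

set_option autoImplicit false
open Cfsg

namespace Cfsg.Agent.S4117

open scoped Pointwise commutatorElement
open Cfsg.Lib Cfsg.Lib.Hall

open Cfsg.Lib.Core Cfsg.Lib.Coprime Subgroup

/-- Let A be a finite group acting on the finite group G by automorphisms with the orders of A and G coprime, and suppose every Sylow subgroup of G is cyclic. Then the fixed-point subgroup C_G(A) is a Hall subgroup of G (its order is coprime to its index), the subgroup [G, A] generated by the elements g⁻¹·a(g) is cyclic and normal with [G, A] ∩ C_G(A) = 1 and [G, A]·C_G(A) = G. -/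
theorem result {G A : Type*} [Group G] [Finite G] [Group A] [Finite A]
    [MulDistribMulAction A G] (hcop : (Nat.card A).Coprime (Nat.card G))
    (hcyc : ∀ (p : ℕ) [Fact p.Prime] (P : Sylow p G), IsCyclic (P : Subgroup G)) :
    (Nat.card (MulAction.fixedPoints A G : Set G)).Coprime (Nat.card G / Nat.card (MulAction.fixedPoints A G : Set G)) ∧
    IsCyclic (Subgroup.closure {y : G | ∃ (a : A) (g : G), y = g⁻¹ * a • g}) ∧
    (Subgroup.closure {y : G | ∃ (a : A) (g : G), y = g⁻¹ * a • g}).Normal ∧
    (Subgroup.closure {y : G | ∃ (a : A) (g : G), y = g⁻¹ * a • g} : Set G) ∩ MulAction.fixedPoints A G = {1} ∧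
    Subgroup.closure {y : G | ∃ (a : A) (g : G), y = g⁻¹ * a • g} ⊔ Subgroup.closure (MulAction.fixedPoints A G) = ⊤ := by
  have hZ : IsZGroup G := ⟨fun p hp P => by have := Fact.mk hp; exact hcyc p P⟩
  set φ := MulDistribMulAction.toMulAut A G with hφ
  have eK : closure {y : G | ∃ (a : A) (g : G), y = g⁻¹ * a • g} = actComm φ ⊤ ⊤ := by
    unfold actComm
    congr 1
    ext y
    exact ⟨fun ⟨a, g, e⟩ => ⟨g, trivial, a, trivial, e⟩, fun ⟨g, _, a, _, e⟩ => ⟨a, g, e⟩⟩
  have eC : MulAction.fixedPoints A G = (actFix φ ⊤ : Set G) := by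
    ext y
    exact ⟨fun h b _ => h b, fun h b => h b trivial⟩
  rw [eK, eC, closure_eq]
  set K := actComm φ (⊤ : Subgroup G) (⊤ : Subgroup A) with hK
  set C := actFix φ (⊤ : Subgroup A) with hC
  have hKn : K.Normal := normal_actComm_top
  have hcop' : (Nat.card (⊤ : Subgroup A)).Coprime (Nat.card (⊤ : Subgroup G)) := by
    rwa [card_top, card_top]
  have hsup : K ⊔ C = ⊤ := by
    have := actComm_sup_actFix (φ := φ) (B := ⊤) (H := ⊤) (fun _ _ _ _ => trivial) hcop'
      (Or.inr inferInstance)
    rwa [top_inf_eq] at this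
  have hKc : IsCyclic K := by
    obtain ⟨y, hy⟩ := PGrp.exists_zpowers_eq_of_isCyclic (IsZGroup.isCyclic_commutator G)
    have h1 : K ≤ centralizer (_root_.commutator G : Set G) := by
      rw [hK, actComm_le, ← hy, Core.centralizer_zpowers]
      intro g _ a _
      rw [mem_centralizer_singleton_iff]
      have hyD : y ∈ _root_.commutator G := hy ▸ mem_zpowers y
      obtain ⟨r, hr⟩ : g * y * g⁻¹ ∈ zpowers y := hy ▸ Normal.conj_mem inferInstance y hyD g
      obtain ⟨s, hs⟩ : (φ a).symm y ∈ zpowers y := hy ▸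
        (characteristic_iff_map_le.mp (inferInstance : (_root_.commutator G).Characteristic))
          (φ a).symm (mem_map_of_mem _ hyD)
      dsimp only at hr hs
      have e : φ a g * y * (φ a g)⁻¹ = g * y * g⁻¹ := by
        conv_lhs => rw [← (φ a).apply_symm_apply y, ← map_inv, ← map_mul, ← map_mul, ← hs,
          ← conj_zpow, ← hr, ← zpow_mul, mul_comm, zpow_mul, hs, map_zpow, MulEquiv.apply_symm_apply, hr]
      calc g⁻¹ * φ a g * y = g⁻¹ * (φ a g * y * (φ a g)⁻¹) * φ a g := by group
        _ = _ := by rw [e]; group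
    have h2 : Group.IsNilpotent K := by
      have : IsMulCommutative (K ⧸ center K) := by
        rw [Subgroup.Normal.quotient_commutative_iff_commutator_le, _root_.commutator_def,
          commutator_le]
        intro a _ b _
        rw [mem_center_iff]
        intro c
        exact Subtype.ext (h1 c.2 _ (commutator_mem_commutator (mem_top (a : G)) (mem_top (b : G)))).symm
      have := isNilpotent_of_isMulCommutative (K ⧸ center K)
      exact isNilpotent_of_le_center_of_quotient (center K) le_rfl
    infer_instance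
  have hinf : K ⊓ C = ⊥ := by
    have := PGrp.isMulCommutative_of_isCyclic hKc
    have h1 := actFix_inf_actComm (φ := φ) (B := ⊤) (V := K) (actComm_invariant ⊤)
      (hcop'.coprime_dvd_right (card_dvd_of_le le_top))
    rwa [hK, actComm_actComm (H := ⊤) (fun _ _ _ _ => trivial) hcop', inf_right_comm, inf_idem] at h1
  refine ⟨?_, hKc, hKn, ?_, hsup⟩
  · have hc : Nat.card G = Nat.card C * Nat.card K := by
      rw [← card_sup_of_inf_eq_bot (by rwa [inf_comm]), sup_comm, hsup, card_top]
    change (Nat.card C).Coprime (Nat.card G / Nat.card C)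
    rw [hc, Nat.mul_div_cancel_left _ Nat.card_pos]
    refine Nat.coprime_of_dvd fun p hp h1 h2 => ?_
    have := Fact.mk hp
    obtain ⟨c, hc⟩ := exists_prime_orderOf_dvd_card' p h1
    obtain ⟨k, hk⟩ := exists_prime_orderOf_dvd_card' p h2
    rw [← orderOf_coe] at hc hk
    have hp1 : ∀ x : G, orderOf x = p → IsPGroup p (zpowers x) := fun x hx =>
      IsPGroup.of_card (n := 1) (by rw [Nat.card_zpowers, hx, pow_one])
    obtain ⟨P, hP⟩ := (hp1 _ hc).exists_le_sylow
    obtain ⟨Q, hQ⟩ := (hp1 _ hk).exists_le_sylow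
    obtain ⟨g, rfl⟩ := MulAction.exists_smul_eq G Q P
    have h3 : zpowers (c : G) ≤ zpowers (g * k * g⁻¹) := by
      refine PGrp.le_of_card_dvd_of_isCyclic (hcyc p _) hP ?_ ?_
      · rw [zpowers_le]
        exact (g • Q).1.mem_carrier.mp (Subgroup.smul_mem_pointwise_smul _ (MulAut.conj g) _ (hQ (mem_zpowers _)))
      · rw [Nat.card_zpowers, Nat.card_zpowers, hc]
        have := (MulAut.conj g).orderOf_eq (k : G)
        rw [MulAut.conj_apply] at this
        rw [this, hk]
    have h4 : (c : G) ∈ K ⊓ C :=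
      ⟨(zpowers_le.mpr (hKn.conj_mem _ k.2 g)) (h3 (mem_zpowers _)), c.2⟩
    rw [hinf, mem_bot] at h4
    rw [h4, orderOf_one] at hc
    exact hp.one_lt.ne hc
  · rw [← coe_inf, hinf, coe_bot]

end Cfsg.Agent.S4117
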