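import Cfsg.Statements.S4118
import Cfsg.Agent.Lib.Hall.TIHall

set_option autoImplicit false
open Cfsg

namespace Cfsg.Agent.S4118

open scoped Pointwise commutatorElement
open Cfsg.Lib Cfsg.Lib.Hall

open Cfsg.Lib.Core Cfsg.Lib.Coprime Subgroup
open scoped Pointwise

/-- Let G be a finite group and H a non-normal subgroup meeting each of its conjugates by elements outside N_G(H) trivially, with the order of H coprime to its index in N_G(H); let π be the set of primes dividing the order of H and suppose G is π-separable (it has a chain of normal subgroups from 1 to G each of whose factors has order divisible only by primes in π or coprime to the order of H). Let O be the largest normal subgroup of G of order coprime to the order of H. Then G = O·N_G(H), O·H is normal in G, and G is solvable if and only if O is solvable and H has no subgroup isomorphic to SL₂(5). -/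
theorem result {G : Type*} [Group G] [Finite G] (H : Subgroup G)
    (hTI : Cfsg.IsTISubset (H : Set G)) (hnn : ¬ H.Normal)
    (hHall : (Nat.card H).Coprime (H.subgroupOf (Subgroup.normalizer (H : Set G))).index)
    (hsep : ∃ (n : ℕ) (M : Fin (n + 1) → Subgroup G), M 0 = ⊥ ∧ M (Fin.last n) = ⊤ ∧ Monotone M ∧ (∀ i, (M i).Normal) ∧
      ∀ i : Fin n, (∀ q : ℕ, q.Prime → q ∣ (M i.castSucc).relIndex (M i.succ) → q ∣ Nat.card H) ∨
        ((M i.castSucc).relIndex (M i.succ)).Coprime (Nat.card H))
    (O : Subgroup G) (hO : O = sSup {K : Subgroup G | K.Normal ∧ (Nat.card K).Coprime (Nat.card H)}) :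
    O ⊔ Subgroup.normalizer (H : Set G) = ⊤ ∧ (O ⊔ H).Normal ∧
    (Group.IsSolvable G ↔ Group.IsSolvable O ∧
      ∀ K : Subgroup G, K ≤ H → ¬ Nonempty (K ≃* Matrix.SpecialLinearGroup (Fin 2) (ZMod 5))) := by
  set π : Set ℕ := {p | p ∣ Nat.card H} with hπ
  have hH : IsPiHall π H := isPiHall_of_coprime (ti_coprime_index hTI hHall)
  have hcop : ∀ n : ℕ, n.Coprime (Nat.card H) ↔ IsPiNumber πᶜ n := fun n => coprime_iff_isPiNumber
  have hsp : IsPiSeparable π G := by
    obtain ⟨n, M, h1, h2, h3, h4, h5⟩ := hsep
    exact ⟨n, M, h1, h2, h3, h4, fun i => (h5 i).imp id (hcop _).mp⟩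
  have hO' : O = piCore πᶜ G := by
    rw [hO, piCore]
    congr 1
    ext K
    exact and_congr_right fun _ => hcop _
  clear hO
  subst hO'
  set O := piCore πᶜ G with hO
  have hOc : (Nat.card O).Coprime (Nat.card H) := (hcop _).mpr (isPi_piCore _ _)
  have hH1 : H ≠ ⊥ := fun e => hnn (e ▸ inferInstance)
  have hOq : piCore πᶜ (G ⧸ O) = ⊥ := piCore_quotient_piCore
  have hspq : IsPiSeparable π (G ⧸ O) := piSep_quotient hsp O
  have hHq : IsPiHall π (H.map (QuotientGroup.mk' O)) := isPiHall_map_mk' hH O
  have h1 : O ⊔ normalizer (H : Set G) = ⊤ := by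
    have hOt : O ≠ ⊤ := fun e => hH1 (by
      have := (disjoint_of_coprime_natCard hOc).eq_bot
      rwa [e, top_inf_eq] at this)
    have : Nontrivial (G ⧸ O) := QuotientGroup.nontrivial_iff.mpr hOt
    have hR := (piCore_ne_bot_or_of_piSep hspq).resolve_right (not_not.mpr hOq)
    set R := (piCore π (G ⧸ O)).comap (QuotientGroup.mk' O) with hRd
    have hOR : O ≤ R := fun a ha => by
      rw [hRd, mem_comap, QuotientGroup.mk'_apply, (QuotientGroup.eq_one_iff a).mpr ha]
      exact one_mem _
    have hRH : R ≤ O ⊔ H := by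
      have := comap_mono (f := QuotientGroup.mk' O) (piCore_le_of_isPiHall hHq)
      rwa [comap_map_eq, QuotientGroup.ker_mk', sup_comm] at this
    have hR1 : O ⊔ H ⊓ R = R := by
      apply le_antisymm (sup_le hOR inf_le_right)
      intro r hr
      have := hRH hr
      rw [← SetLike.mem_coe, normal_mul] at this
      obtain ⟨o, ho, h, hh, rfl⟩ := this
      exact mul_mem_sup ho ⟨hh, by simpa using R.mul_mem (R.inv_mem (hOR ho)) hr⟩
    have hH0 : H ⊓ R ≠ ⊥ := fun e => hR (by
      rw [e, sup_bot_eq] at hR1
      rw [← map_comap_eq_self_of_surjective (QuotientGroup.mk'_surjective O) (piCore π (G ⧸ O)), ← hRd,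
        ← hR1, Subgroup.map_eq_bot_iff, QuotientGroup.ker_mk'])
    have hc0 : (Nat.card O).Coprime (Nat.card (H ⊓ R : Subgroup G)) :=
      hOc.coprime_dvd_right (card_dvd_of_le inf_le_left)
    rw [eq_top_iff]
    intro g _
    obtain ⟨o, ho, he⟩ := FT.sz_conj_internal' (N := O) (H := H ⊓ R) (K := MulAut.conj g • (H ⊓ R))
      le_normalizer_of_normal hc0 (by rwa [card_conj_smul]) (by
        have e1 : MulAut.conj g • O = O := conj_smul_eq_self_iff.mpr (by rw [normalizer_eq_top]; trivial)
        have e2 : MulAut.conj g • R = R := conj_smul_eq_self_iff.mpr (by rw [normalizer_eq_top]; trivial)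
        conv_rhs => rw [← e1, ← smul_sup, hR1, e2]
        exact hR1)
    have : o⁻¹ * g ∈ normalizer ((H ⊓ R : Subgroup G) : Set G) := by
      rw [← conj_smul_eq_self_iff, conj_mul_smul, ← he, conj_inv_smul_conj_smul]
    have h2 := mul_mem_sup ho (ti_normalizer_le hTI inf_le_left hH0 this)
    simpa using h2
  have h2 : (O ⊔ H).Normal := by
    rw [← normalizer_eq_top_iff, eq_top_iff, ← h1]
    exact sup_le (le_sup_left.trans le_normalizer)
      (le_normalizer_sup le_normalizer_of_normal le_rfl)
  refine ⟨h1, h2, fun hs => ⟨inferInstance, fun K _ ⟨e⟩ => ?_⟩, fun ⟨hs, hK⟩ => ?_⟩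
  · have : Group.IsSolvable SL25 := isSolvable_of_mulEquiv e
    exact not_solvable_SL25 this
  have hfc : FC H := ti_fc (X := O) hTI le_normalizer_of_normal hOc.symm fun hle => hnn (by
    rw [← normalizer_eq_top_iff, eq_top_iff, ← h1]
    exact sup_le hle le_rfl)
  have hHs : Group.IsSolvable H := by
    refine hfc.solvable_or.resolve_right ?_
    rintro ⟨L, -, ⟨e⟩⟩
    exact hK (L.map H.subtype) (map_subtype_le L)
      ⟨(equivMapOfInjective L _ H.subtype_injective).symm.trans e⟩
  obtain ⟨L, hL1, -, hL3, hL4⟩ := sz_exists_internal (N := H) (L := normalizer (H : Set G))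
    le_normalizer le_rfl hHall
  have hLc : (Nat.card L).Coprime (Nat.card H) := hL4 ▸ Nat.Coprime.symm hHall
  have hLs : Group.IsSolvable L := by
    by_cases h2H : 2 ∣ Nat.card H
    · exact FT.solvable_of_not_two_dvd L fun h =>
        absurd (Nat.eq_one_of_dvd_coprimes hLc h h2H) (by norm_num)
    have := hfc.isZGroup_of_odd (Nat.odd_iff.mpr (Nat.two_dvd_ne_zero.mp h2H))
    have h3 := commutator_le_centralizer_of_isZGroup hL1 hLc
    have h4 : ⁅L, L⁆ ≤ O := by
      have hn : (H.map (QuotientGroup.mk' O)).Normal := by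
        have := h2.map (QuotientGroup.mk' O) (QuotientGroup.mk'_surjective O)
        rwa [Subgroup.map_sup, (Subgroup.map_eq_bot_iff O).mpr (QuotientGroup.ker_mk' O).ge, bot_sup_eq] at this
      have h5 := centralizer_piCore_le hspq hOq
      rw [← eq_piCore_of_normal_isPiHall hHq] at h5
      rw [← QuotientGroup.ker_mk' O, ← Subgroup.map_eq_bot_iff, eq_bot_iff,
        ← inf_eq_bot_of_isPi_of_isPi_compl (π := π) (H := H.map (QuotientGroup.mk' O))
          (K := (⁅L, L⁆ : Subgroup G).map (QuotientGroup.mk' O)) hHq.1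
          (isPi_map (isPi_of_le ((hcop _).mp hLc) (commutator_le_self L)) _)]
      refine le_inf (le_trans ?_ h5) le_rfl
      rintro _ ⟨x, hx, rfl⟩ _ ⟨y, hy, rfl⟩
      rw [← map_mul, ← map_mul, h3 hx y hy]
    have h5 : Group.IsSolvable (_root_.commutator L) := by
      have := Core.isSolvable_subgroupOf O L
      have h8 : _root_.commutator L ≤ O.subgroupOf L := by
        rw [subgroupOf, ← map_le_iff_le_comap, map_subtype_commutator]
        exact h4
      exact Hall.isSolvable_of_le h8
    have : IsMulCommutative (L ⧸ _root_.commutator L) :=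
      Subgroup.Normal.quotient_commutative_iff_commutator_le.mpr le_rfl
    have := isNilpotent_of_isMulCommutative (L ⧸ _root_.commutator L)
    exact isSolvable_of_normal_quotient (_root_.commutator L)
  have h6 := isSolvable_sup_of_normal H O
  have h7 := isSolvable_sup_of_normal L (O ⊔ H)
  rw [sup_assoc, hL3, h1] at h7
  exact isSolvable_of_mulEquiv topEquiv

end Cfsg.Agent.S4118
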