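import Cfsg.Statements.S4120
import Cfsg.Agent.Lib.Layer.FraB

set_option autoImplicit false
open Cfsg

namespace Cfsg.Agent.S4120

open Subgroup Cfsg.Lib Cfsg.Lib.Coprime Cfsg.Lib.Layer.Fra

/-- Let the finite group A act faithfully on the finite group G by automorphisms, and suppose A is a Frobenius group with kernel F and complement H such that F fixes only the identity of G. If the fixed-point subgroup C_G(H) is nilpotent, then G is nilpotent. -/
theorem result {G A : Type*} [Group G] [Finite G] [Group A] [Finite A] [MulDistribMulAction A G] [FaithfulSMul A G]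
    (Fk Hc : Subgroup A) [Fk.Normal] (hHc : Cfsg.IsFrobeniusComplement Hc) (hker : Cfsg.frobeniusKernel Hc = (Fk : Set A))
    (hCF : ∀ g : G, (∀ f ∈ Fk, f • g = g) → g = 1) (hnil : Group.IsNilpotent (Subgroup.closure {g : G | ∀ h ∈ Hc, h • g = g})) : Group.IsNilpotent G := by
  obtain ⟨N, h1, hn, -, -, hf, -⟩ := exists_frobKernel hHc
  obtain rfl : N = Fk := SetLike.coe_injective (h1.trans hker)
  obtain ⟨Γ, _, _, i, j, h, -, -⟩ := exists_ambient (MulDistribMulAction.toMulAut A G)
  have e : closure {g : G | ∀ h ∈ Hc, h • g = g} = actFix (MulDistribMulAction.toMulAut A G) Hc :=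
    closure_eq (actFix (MulDistribMulAction.toMulAut A G) Hc)
  rw [e] at hnil
  have hN := BS.Fpf.nilpotent hf le_normalizer_of_normal hHc.1
  have := Hyp.nilpotent (X := (⊤ : Subgroup G).map i) (K := N.map j) (R := Hc.map j)
    ⟨hf.map_of_injective h.2, (map_mono le_normalizer_of_normal).trans (le_normalizer_map j),
      Core.isNilpotent_map _ _, h.le_normalizer_top _, h.le_normalizer_top _, by
        rw [← h.map_actFix, (eq_bot_iff_forall (actFix (MulDistribMulAction.toMulAut A G) N)).2 fun g hg => hCF g hg, Subgroup.map_bot], by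
        rw [← h.map_actFix]; exact Core.isNilpotent_map _ _⟩
  exact Group.nilpotent_of_mulEquiv (((⊤ : Subgroup G).equivMapOfInjective i h.1).symm.trans topEquiv)

end Cfsg.Agent.S4120
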