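import Cfsg.Statements.S4125
import Cfsg.Agent.Lib.Hall.CsB
import Cfsg.Agent.Lib.Hall.CsC

set_option autoImplicit false
open Cfsg

namespace Cfsg.Agent.S4125

open scoped Pointwise commutatorElement
open Cfsg.Lib Cfsg.Lib.Hall

open Subgroup Cfsg.Lib.Core Cfsg.Lib.Transfer

local notation "𝐂" X:max => centralizer (SetLike.coe (X : Subgroup _))

theorem pair {G : Type*} [Group G] [Finite G] {q : ℕ} [hq : Fact q.Prime]
    (hB : ∀ x : G, IsPGroup q (zpowers x) → ∃ r a : ℕ, r.Prime ∧ cs x = r ^ a)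
    {x y : G} (hx : IsPGroup q (zpowers x)) (hy : IsPGroup q (zpowers y)) {p r a b : ℕ} (hp : p.Prime)
    (hr : r.Prime) (hpr : p ≠ r) (hpq : p ≠ q) (ha : cs x = p ^ a) (hb : cs y = r ^ b) (ha0 : a ≠ 0)
    (hb0 : b ≠ 0) : r = q ∧ x ∈ pCore q G := by
  obtain ⟨Q, hQ⟩ := hx.exists_le_sylow
  obtain ⟨g, -, hg⟩ := (sylowIn_top Q).exists_cj_le hy le_top
  have hy' : g * y * g⁻¹ ∈ (Q : Subgroup G) := hg (conj_mem_cj.2 (mem_zpowers y))
  rw [← cs_conj g] at hb
  set z := g * y * g⁻¹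
  have hc : (cs x).Coprime (cs z) := by
    rw [ha, hb]; exact Nat.coprime_pow_primes a b hp hr hpr
  obtain ⟨s, c, hs, e⟩ := hB (x * z) (isPGroup_zpowers_of_mem Q.isPGroup' (mul_mem (hQ (mem_zpowers x)) hy'))
  have hd := cs_mul_dvd_of_coprime hc
  have hxZ : x ∉ center G := fun h => by
    rw [cs_eq_one_iff.2 h] at ha
    exact (Nat.one_lt_pow ha0 hp.one_lt).ne ha
  have hzZ : z ∉ center G := fun h => by
    rw [cs_eq_one_iff.2 h] at hb
    exact (Nat.one_lt_pow hb0 hr.one_lt).ne hb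
  by_cases hsp : s = p
  · have h1 : (cs (x * z)).Coprime (cs z) := by
      rw [e, hb, hsp]; exact Nat.coprime_pow_primes c b hp hr hpr
    have h2 := (cc_pElt hq.out (isPGroup_zpowers_of_mem Q.isPGroup' hy') hzZ hc.symm
      (cs_mul_comm x z ▸ Nat.le_of_dvd (cs_pos x) (h1.dvd_of_dvd_mul_right hd))).2
    exact absurd ((Nat.prime_dvd_prime_iff_eq hq.out hp).1 (hq.out.dvd_of_dvd_pow (ha ▸ h2))).symm hpq
  · have h1 : (cs (x * z)).Coprime (cs x) := by
      rw [e, ha]; exact Nat.coprime_pow_primes c a hs hp hsp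
    have h2 := cc_pElt hq.out hx hxZ hc (Nat.le_of_dvd (cs_pos z) (h1.dvd_of_dvd_mul_left hd))
    exact ⟨((Nat.prime_dvd_prime_iff_eq hq.out hr).1 (hq.out.dvd_of_dvd_pow (hb ▸ h2.2))).symm, h2.1⟩

theorem normal_of_le {G : Type*} [Group G] {q : ℕ} (Q : Sylow q G) (h : (Q : Subgroup G) ≤ pCore q G) :
    (Q : Subgroup G).Normal := by
  rw [le_antisymm h (pCore_le_sylow Q)]; exact pCore_normal q G

theorem one_prime {G : Type*} [Group G] [Finite G] {q : ℕ} [hq : Fact q.Prime]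
    (hB : ∀ x : G, IsPGroup q (zpowers x) → ∃ r a : ℕ, r.Prime ∧ cs x = r ^ a) :
    ∃ p : ℕ, p.Prime ∧ ∀ x : G, IsPGroup q (zpowers x) → ∃ a, cs x = p ^ a := by
  by_cases h0 : ∀ x : G, IsPGroup q (zpowers x) → ∃ a, cs x = q ^ a
  · exact ⟨q, hq.out, h0⟩
  push Not at h0
  obtain ⟨x, hx, hxq⟩ := h0
  obtain ⟨p, a, hp, ha⟩ := hB x hx
  have hpq : p ≠ q := fun e => hxq a (e ▸ ha)
  have ha0 : a ≠ 0 := fun e => hxq 0 (by rw [ha, e]; rfl)
  refine ⟨p, hp, fun y hy => ?_⟩
  by_contra hyp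
  push Not at hyp
  obtain ⟨r, b, hr, hb⟩ := hB y hy
  have hpr : p ≠ r := fun e => hyp b (e ▸ hb)
  have hb0 : b ≠ 0 := fun e => hyp 0 (by rw [hb, e]; rfl)
  obtain ⟨rfl, hxO⟩ := pair hB hx hy hp hr hpr hpq ha hb ha0 hb0
  obtain ⟨Q⟩ : Nonempty (Sylow r G) := inferInstance
  haveI := normal_of_le Q fun z hz => by
    have hz' := isPGroup_zpowers_of_mem Q.isPGroup' hz
    obtain ⟨s, c, hs, hc⟩ := hB z hz'
    by_cases hc0 : c = 0
    · exact mem_pCore_of_cs_eq_pow (k := 0) hr hz' (by rw [hc, hc0]; rfl)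
    by_cases hsr : s = r
    · exact mem_pCore_of_cs_eq_pow hr hz' (hsr ▸ hc)
    exact (pair hB hz' hy hs hr hsr hsr hc hb hc0 hb0).2
  refine cc_not_dvd Q (Z := 𝐂 (Q : Subgroup G)) (fun e => ?_) (fun z hz hzC => ?_) hp hpq
    (pCore_le_sylow Q hxO) (ha ▸ dvd_pow_self p ha0)
  · exact not_dvd_index_of_sylow_le Q (le_cent_iff.2 (e (pCore_le_sylow Q
      (mem_pCore_of_cs_eq_pow hr hy hb)))) (hb ▸ dvd_pow_self r hb0)
  · obtain ⟨s, c, hs, hc⟩ := hB z (isPGroup_zpowers_of_mem Q.isPGroup' hz)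
    by_cases hd : r ∣ cs z
    · exact ⟨c, by rw [hc, (Nat.prime_dvd_prime_iff_eq hr hs).1 (hr.dvd_of_dvd_pow (hc ▸ hd))]⟩
    obtain ⟨Q', hQ'⟩ := exists_sylow_le_of_not_dvd_index hd
    haveI := Sylow.unique_of_normal Q ‹_›
    exact absurd (le_cent_iff.1 (Subsingleton.elim Q' Q ▸ hQ')) hzC

theorem hyp_quo {G : Type*} [Group G] [Finite G] {p q : ℕ} (hp : p.Prime) (hq : q.Prime)
    (h : ∀ x : G, IsPGroup q (zpowers x) → ∃ a, cs x = p ^ a) (N : Subgroup G) [N.Normal]
    (x : G ⧸ N) (hx : IsPGroup q (zpowers x)) : ∃ a, cs x = p ^ a := by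
  obtain ⟨y, rfl, hy⟩ := exists_lift_isPGroup (QuotientGroup.mk'_surjective N) hq hx
  obtain ⟨a, ha⟩ := h y hy
  exact exists_eq_pow_of_dvd hp (ha ▸ cs_mk_dvd N y)

theorem hyp_sub {G : Type*} [Group G] [Finite G] {p q : ℕ} (hp : p.Prime) (hq : q.Prime)
    (h : ∀ x : G, IsPGroup q (zpowers x) → ∃ a, cs x = p ^ a) (N : Subgroup G) [N.Normal]
    (x : N) (hx : IsPGroup q (zpowers x)) : ∃ a, cs x = p ^ a := by
  obtain ⟨a, ha⟩ := h x (by
    rw [isPGroup_zpowers_iff hq] at hx ⊢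
    rwa [orderOf_coe])
  exact exists_eq_pow_of_dvd hp (ha ▸ cs_subgroup_dvd x)

theorem L1 {G : Type*} [Group G] [Finite G] {p q : ℕ} (hp : p.Prime) [hq : Fact q.Prime] (hpq : p ≠ q)
    (h : ∀ x : G, IsPGroup q (zpowers x) → ∃ a, cs x = p ^ a) (Q : Sylow q G) :
    IsMulCommutative (Q : Subgroup G) ∧ (pCore p G ⊔ (Q : Subgroup G)).Normal := by
  haveI := Fact.mk hp
  haveI := pCore_normal p G
  set f := QuotientGroup.mk' (pCore p G)
  have h1 : ∀ x ∈ (Q : Subgroup G), f x ∈ pCore q (G ⧸ pCore p G) ∧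
      f x ∈ 𝐂 (fittingSubgroup (G ⧸ pCore p G)) := by
    intro x hx
    have hx' : IsPGroup q (zpowers (f x)) :=
      isPGroup_zpowers_of_mem (Q.isPGroup'.map f) (mem_map_of_mem f hx)
    obtain ⟨a, ha⟩ := hyp_quo hp hq.out h _ _ hx'
    have h2 := normalClosure_le_centralizer_of_cs hp pCore_quotient_pCore ha
      (subset_normalClosure (Set.mem_singleton _))
    exact ⟨le_pCore_of_le_fitting hq.out hx' (zpowers_le.2 h2.1) (mem_zpowers _), h2.2⟩
  refine ⟨le_centralizer_iff_isMulCommutative.1 (commutator_eq_bot_iff_le_centralizer.1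
    (eq_bot_iff.2 (commutator_le.2 fun x hx y hy => ?_))), ?_⟩
  · rw [← (IsPGroup.disjoint_of_ne p q hpq _ _ (isPGroup_pCore p G) Q.isPGroup').eq_bot]
    refine ⟨(QuotientGroup.eq_one_iff _).1 ((map_commutatorElement f x y).trans
      (commutatorElement_eq_one_iff_mul_comm.2 (mem_centralizer_iff.1 (h1 y hy).2 _
        (pCore_le_fitting hq.out (h1 x hx).1)))),
      Subgroup.commutator_le_self _ (commutator_mem_commutator hx hy)⟩
  · haveI := normal_of_le (Q.mapSurjective (QuotientGroup.mk'_surjective (pCore p G))) (by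
      rintro _ ⟨x, hx, rfl⟩; exact (h1 x hx).1)
    rw [← comap_map_mk']
    exact this.comap _

universe u in
theorem L2 {p q : ℕ} (hp : p.Prime) [hq : Fact q.Prime] (hpq : p ≠ q) (n : ℕ) :
    ∀ (G : Type u) [Group G] [Finite G], Nat.card G = n → commutator G = ⊤ →
    (∀ x : G, IsPGroup q (zpowers x) → ∃ a, cs x = p ^ a) → ¬ q ∣ Nat.card G := by
  induction n using Nat.strong_induction_on with
  | _ n ih =>
  intro G _ _ hn hperf h hd
  have hN : ∀ N : Subgroup G, N.Normal → N ≠ ⊥ → ¬ q ∣ N.index := fun N _ h0 =>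
    ih _ (hn ▸ Core.card_quotient_lt h0) (G ⧸ N) rfl (by
      rw [_root_.commutator_def, ← map_top_of_surjective _ (QuotientGroup.mk'_surjective N),
        ← map_commutator, ← _root_.commutator_def, hperf]) (hyp_quo hp hq.out h N)
  have hO : pPrimeCore q G = ⊥ := by
    by_contra h0
    rw [← (pPrimeCore q G).card_mul_index] at hd
    exact (hq.out.dvd_mul.1 hd).elim (not_dvd_card_pPrimeCore hq.out) (hN _ (pPrimeCore_normal q G) h0)
  obtain ⟨Q⟩ : Nonempty (Sylow q G) := inferInstance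
  obtain ⟨h1, h2⟩ := L1 hp hpq h Q
  rw [eq_bot_iff.2 ((pCore_le_pPrimeCore_of_ne hq.out hp hpq).trans hO.le), bot_sup_eq] at h2
  have h0 : (Q : Subgroup G) ≠ ⊥ := Q.ne_bot_of_dvd_card hd
  have hC : 𝐂 (Q : Subgroup G) ≤ Q := by
    have h3 := sylowIn_of_le Q (le_centralizer_iff_isMulCommutative.2 h1)
    have h4 : PNil q (𝐂 (Q : Subgroup G)) := h3.pnil_of_normalizer_le_centralizer inf_le_left
    haveI := resOf_normal (p := q) (𝐂 (Q : Subgroup G))
    have h5 := eq_bot_of_pPrimeCore_eq_bot hO ((coprime_iff_not_dvd hq.out).2 h4)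
    have h6 := h3.resOf_sup
    rw [h5, bot_sup_eq] at h6
    exact h6.ge
  have hs : Group.IsSolvable G := by
    by_cases hq2 : q = 2
    · subst hq2
      haveI := isSolvable_of_isPGroup Nat.prime_two Q.isPGroup'
      haveI : Group.IsSolvable (G ⧸ (Q : Subgroup G)) := Cfsg.Agent.S0205.result
        (Nat.odd_iff.2 (Nat.two_dvd_ne_zero.1 Q.not_dvd_index))
      exact isSolvable_of_normal_of_quotient (Q : Subgroup G)
    by_cases hp2 : p = 2
    · subst hp2
      refine cb_two hperf hq2 Q h0 hC (fun K hK hKQ => or_iff_not_imp_left.2 fun hK0 => ?_)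
        fun v hv => h v (isPGroup_zpowers_of_mem Q.isPGroup' hv)
      obtain ⟨Q', hQ'⟩ := exists_sylow_le_of_not_dvd_index (hN K hK hK0)
      haveI := Sylow.unique_of_normal Q h2
      exact le_antisymm hKQ (Subsingleton.elim Q' Q ▸ hQ')
    refine Cfsg.Agent.S0205.result (Nat.odd_iff.2 (Nat.two_dvd_ne_zero.1 fun h2d => ?_))
    haveI : Fact (Nat.Prime 2) := ⟨Nat.prime_two⟩
    obtain ⟨t, ht⟩ := exists_prime_orderOf_dvd_card' 2 h2d
    have hodd : ∀ v ∈ (Q : Subgroup G), Odd (orderOf v) := fun v hv => by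
      obtain ⟨k, hk⟩ := (isPGroup_zpowers_iff hq.out).1 (isPGroup_zpowers_of_mem Q.isPGroup' hv)
      rw [hk]; exact (hq.out.odd_of_ne_two hq2).pow
    have htQ : t ∈ (Q : Subgroup G) := hC (mem_centralizer_iff.2 fun v hv => by
      have hv' := h2.conj_mem v hv t
      have hdQ := mul_mem hv (inv_mem hv')
      obtain ⟨a, ha⟩ := h _ (isPGroup_zpowers_of_mem Q.isPGroup' hdQ)
      have ht2 : t * t = 1 := by rw [← sq, ← ht, pow_orderOf_eq_one]
      have h7 := eq_one_of_odd_of_sq_eq_one (hodd _ hdQ) (sq_eq_one_of_real_of_odd_cs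
        (isConj_iff.2 ⟨t, by
          calc t * (v * (t * v * t⁻¹)⁻¹) * t⁻¹ = t * v * t⁻¹ * ((t * t) * v⁻¹ * (t * t)⁻¹) := by group
            _ = _ := by rw [ht2]; group⟩) fun e => hp2 ((Nat.prime_dvd_prime_iff_eq Nat.prime_two hp).1
          (Nat.prime_two.dvd_of_dvd_pow (ha ▸ e))).symm)
      rw [mul_inv_eq_one] at h7
      exact (mul_inv_eq_iff_eq_mul.1 h7.symm).symm)
    have := hodd t htQ
    rw [ht] at this
    exact absurd this (by decide)
  haveI : Nontrivial G := Finite.one_lt_card_iff_nontrivial.1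
    (hq.out.one_lt.trans_le (Nat.le_of_dvd Nat.card_pos hd))
  exact (Group.IsSolvable.commutator_lt_top_of_nontrivial G).ne hperf

/-- Let G be a finite group and q a prime dividing its order such that every element of q-power order has a conjugacy class of prime-power size. Then G is q-solvable of q-length 1: there are normal subgroups K ≤ L of G with K of order prime to q, L/K a q-group and L of index prime to q. Moreover there is a prime p such that every element of q-power order has a class of p-power size (one prime serving for all of them), and for a Sylow q-subgroup Q: if p = q then Q is normal with a normal complement (a direct factor), while if p ≠ q then Q is abelian, the product of Q with the largest normal p-subgroup O_p(G) is normal in G, and G/O_{q'}(G) is solvable, where O_{q'}(G) is the largest normal subgroup of order prime to q. -/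
theorem result {G : Type*} [Group G] [Finite G] (q : ℕ) [Fact q.Prime] (hq : q ∣ Nat.card G)
    (hBaer : ∀ x : G, (∃ k : ℕ, orderOf x = q ^ k) → ∃ (r : ℕ) (a : ℕ), r.Prime ∧ (Subgroup.centralizer ({x} : Set G)).index = r ^ a) (Q : Sylow q G) :
    (∃ K L : Subgroup G, K.Normal ∧ L.Normal ∧ K ≤ L ∧ (Nat.card K).Coprime q ∧ (∃ m : ℕ, K.relIndex L = q ^ m) ∧ L.index.Coprime q) ∧
    ∃ p : ℕ, p.Prime ∧ (∀ x : G, (∃ k : ℕ, orderOf x = q ^ k) → ∃ a : ℕ, (Subgroup.centralizer ({x} : Set G)).index = p ^ a) ∧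
      (p = q → (Q : Subgroup G).Normal ∧ ∃ N : Subgroup G, N.Normal ∧ N.IsComplement' (Q : Subgroup G)) ∧
      (p ≠ q → IsMulCommutative (Q : Subgroup G) ∧ (Cfsg.pCore p G ⊔ (Q : Subgroup G)).Normal ∧
        ∀ _h : (Cfsg.pPrimeCore q G).Normal, Group.IsSolvable (G ⧸ Cfsg.pPrimeCore q G)) := by
  have hq' : q.Prime := Fact.out
  obtain ⟨p, hp, h⟩ := one_prime (q := q) fun x hx => hBaer x ((isPGroup_zpowers_iff hq').1 hx)
  have A : p = q → (Q : Subgroup G).Normal ∧ ∃ N : Subgroup G, N.Normal ∧ N.IsComplement' (Q : Subgroup G) := by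
    rintro rfl
    have h1 : ∀ y ∈ (Q : Subgroup G), ∃ k, cs y = p ^ k := fun y hy =>
      h y (isPGroup_zpowers_of_mem Q.isPGroup' hy)
    haveI := normal_of_le Q fun z hz => (h1 z hz).elim fun k hk =>
      mem_pCore_of_cs_eq_pow hp (isPGroup_zpowers_of_mem Q.isPGroup' hz) hk
    obtain ⟨H, hH⟩ := exists_right_complement'_of_coprime (N := (Q : Subgroup G)) Q.card_coprime_index
    refine ⟨this, H, ?_, hH.symm⟩
    have h2 : H ≤ 𝐂 (Q : Subgroup G) := cc_le_cent Q (Z := ⊥) (fun e => Q.ne_bot_of_dvd_card hq (eq_bot_iff.2 e))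
      (fun y hy _ => h1 y hy) (by
        rw [← hH.symm.index_eq_card]; exact (coprime_iff_not_dvd hp).2 Q.not_dvd_index)
    rw [← normalizer_eq_top_iff, eq_top_iff, ← hH.sup_eq_top]
    exact sup_le ((le_centralizer_iff.1 h2).trans (centralizer_le_normalizer _)) le_normalizer
  refine ⟨?_, p, hp, fun x hx => h x ((isPGroup_zpowers_iff hq').2 hx), A, fun hpq =>
    ⟨(L1 hp hpq h Q).1, (L1 hp hpq h Q).2, fun _ => ?_⟩⟩
  · obtain ⟨m, hm⟩ := Q.isPGroup'.exists_card_eq
    by_cases hpq : p = q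
    · obtain ⟨-, N, hN, hc⟩ := A hpq
      refine ⟨N, ⊤, hN, inferInstance, le_top, ?_, ⟨m, ?_⟩, by simp⟩
      · rw [← hc.index_eq_card]; exact (coprime_iff_not_dvd hq').2 Q.not_dvd_index
      · rw [relIndex_top_right, hc.symm.index_eq_card, hm]
    · haveI := pCore_normal p G
      refine ⟨pCore p G, _, this, (L1 hp hpq h Q).2, le_sup_left,
        coprime_card_of_isPGroup hp (isPGroup_pCore p G) ((Nat.coprime_primes hq' hp).2 (Ne.symm hpq)),
        ?_, (coprime_iff_not_dvd hq').2 (not_dvd_index_of_sylow_le Q le_sup_right)⟩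
      rw [relIndex_sup_left]
      exact exists_eq_pow_of_dvd hq' (hm ▸ relIndex_dvd_card _ _)
  · obtain ⟨_, -, ⟨n, rfl⟩, h1⟩ := exists_minimal_le
      (fun P => ∃ n, P = derivedSeries (G ⧸ pPrimeCore q G) n) ⟨0, rfl⟩
    haveI := derivedSeries_normal (G ⧸ pPrimeCore q G) n
    refine ⟨n, eq_bot_of_pPrimeCore_eq_bot pPrimeCore_quotient_pPrimeCore ((coprime_iff_not_dvd hq').2
      (L2 hp hpq _ _ rfl ?_ (hyp_sub hp hq' (hyp_quo hp hq' h _) _)))⟩
    apply map_subtype_inj.1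
    rw [map_subtype_commutator, ← MonoidHom.range_eq_map, range_subtype]
    exact h1 _ ⟨n + 1, rfl⟩ (Subgroup.commutator_le_self _)

end Cfsg.Agent.S4125
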