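import Cfsg.Statements.S4126
import Cfsg.Agent.Lib.Hall.ClassSize
import Cfsg.Agent.Lib.Hall.Product
import Cfsg.Agent.Lib.Coprime.PGroup
import Cfsg.Agent.Lib.Transfer.Frobenius

set_option autoImplicit false
open Cfsg

namespace Cfsg.Agent.S4126

open scoped Pointwise commutatorElement
open Cfsg.Lib Cfsg.Lib.Hall

open Subgroup Cfsg.Lib.Core Cfsg.Lib.Transfer

theorem cs_pow {G : Type*} [Group G] [Finite G] {p : ℕ} [hp : Fact p.Prime]
    (h : ∀ x : G, (orderOf x = p ∨ (p = 2 ∧ orderOf x = 4)) → ∃ a : ℕ, (Subgroup.centralizer ({x} : Set G)).index = p ^ a)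
    {x : G} (hx : (p ≠ 2 → x ^ p = 1) ∧ (p = 2 → x ^ 4 = 1)) : ∃ a, cs x = p ^ a := by
  by_cases h1 : x = 1
  · exact ⟨0, by rw [h1, cs_one, pow_zero]⟩
  by_cases h2 : p = 2
  · have h4 : orderOf x ∣ 2 ^ 2 := orderOf_dvd_of_pow_eq_one (hx.2 h2)
    obtain ⟨i, hi, he⟩ := (Nat.dvd_prime_pow Nat.prime_two).mp h4
    interval_cases i
    · exact absurd (orderOf_eq_one_iff.mp (by simpa using he)) h1
    · exact h x (Or.inl (by rw [h2]; simpa using he))
    · exact h x (Or.inr ⟨h2, by simpa using he⟩)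
  · exact h x (Or.inl (orderOf_eq_prime (hx.1 h2) h1))

theorem key {G : Type*} [Group G] [Finite G] {p : ℕ} [hp : Fact p.Prime]
    (h : ∀ x : G, (orderOf x = p ∨ (p = 2 ∧ orderOf x = 4)) → ∃ a : ℕ, (Subgroup.centralizer ({x} : Set G)).index = p ^ a)
    {g : G} (hg : (orderOf g).Coprime p) (n : ℕ) : ∀ T : Subgroup G, T.Normal → IsPGroup p T → Nat.card T = n →
      zpowers g ≤ centralizer (T : Set G) := by
  induction n using Nat.strong_induction_on with
  | _ n ih =>
  intro T hT hTp hn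
  have hcg : (Nat.card (zpowers g)).Coprime p := by rwa [Nat.card_zpowers]
  by_cases hT1 : T = ⊥
  · intro y _
    rw [hT1, mem_centralizer_iff]
    intro z hz
    rw [SetLike.mem_coe, mem_bot] at hz
    rw [hz, one_mul, mul_one]
  refine Coprime.le_centralizer_of_pow_eq_one hTp (le_normalizer_of_normal' _ _) hcg fun x hxT hx => ?_
  obtain ⟨a, ha⟩ := cs_pow h hx
  obtain ⟨P⟩ := (inferInstance : Nonempty (Sylow p G))
  have hf := factor_of_coprime_index (H := (P : Subgroup G)) (K := centralizer ({x} : Set G)) (by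
    rw [show (centralizer ({x} : Set G)).index = p ^ a from ha]
    exact ((coprime_iff_not_dvd hp.out).mpr P.not_dvd_index).pow_right _)
  have hlt := commutator_lt_of_isPGroup hTp P.isPGroup' (le_normalizer_of_normal' _ _) hT1
  have h1 : ∀ y : G, y * x * y⁻¹ * x⁻¹ ∈ ⁅T, (P : Subgroup G)⁆ := fun y => by
    obtain ⟨u, hu, c, hc, rfl⟩ := hf y
    have e : u * c * x * (u * c)⁻¹ * x⁻¹ = (⁅x, u⁆)⁻¹ := by
      rw [mem_cent_iff] at hc
      rw [commutatorElement_def, mul_assoc u c x, hc]; group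
    rw [e]
    exact inv_mem (commutator_mem_commutator hxT hu)
  have h2 : ∀ y : G, y * x * y⁻¹ * x⁻¹ ∈ (⁅T, (P : Subgroup G)⁆).normalCore := fun y z => by
    have e : z * (y * x * y⁻¹ * x⁻¹) * z⁻¹ = (z * y * x * (z * y)⁻¹ * x⁻¹) * (z * x * z⁻¹ * x⁻¹)⁻¹ := by group
    rw [e]
    exact mul_mem (h1 _) (inv_mem (h1 _))
  have hlt2 : (⁅T, (P : Subgroup G)⁆).normalCore < T := lt_of_le_of_lt (normalCore_le _) hlt
  have hUp : IsPGroup p (⁅T, (P : Subgroup G)⁆).normalCore := hTp.to_le hlt2.le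
  have h3 := ih _ (hn ▸ Hall.card_lt_card_of_lt hlt2) _ inferInstance hUp rfl
  obtain ⟨s, hs, hsx⟩ := Coprime.exists_mul_mem_centralizer' (A := zpowers g) (le_normalizer_of_normal' _ _)
    (Coprime.coprime_card_of_isPGroup hUp hcg) (Or.inl (Coprime.isSolvable_zpowers g)) (k := x) fun a _ => h2 a
  have hs' : s ∈ centralizer (zpowers g : Set G) := le_centralizer_iff.mp h3 hs
  simpa using mul_mem (inv_mem hs') hsx

/-- Let G be a finite group and p a prime. Suppose every element of order p, and when p = 2 also every element of order 4, has a conjugacy class of p-power size. Then G has a normal p-complement. -/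
theorem result {G : Type*} [Group G] [Finite G] (p : ℕ) [Fact p.Prime]
    (h : ∀ x : G, (orderOf x = p ∨ (p = 2 ∧ orderOf x = 4)) → ∃ a : ℕ, (Subgroup.centralizer ({x} : Set G)).index = p ^ a) :
    Cfsg.HasNormalPComplement p G := by
  rw [hasNormalPComplement_iff_top]
  obtain ⟨P⟩ := (inferInstance : Nonempty (Sylow p G))
  rw [(sylowIn_top P).pnil_iff_forall]
  intro Q hQ g _ hgn hg
  have hcg : (Nat.card (zpowers g)).Coprime p := by rwa [Nat.card_zpowers]
  have hQp : IsPGroup p Q := P.isPGroup'.to_le hQ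
  refine Coprime.le_centralizer_of_pow_eq_one hQp (zpowers_le.mpr hgn) hcg (fun x hxQ hx => ?_) (mem_zpowers g)
  obtain ⟨a, ha⟩ := cs_pow h hx
  have h1 := mem_pCore_of_cs_eq_pow (Fact.out : p.Prime) (isPGroup_zpowers_of_mem hQp hxQ) ha
  exact le_centralizer_iff.mp (key h hg _ _ inferInstance (isPGroup_pCore p G) rfl) h1

end Cfsg.Agent.S4126
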