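import Cfsg.Statements.S4127
import Cfsg.Agent.Lib.Hall.Kazarin
import Cfsg.Agent.Lib.Hall.Factor
import Cfsg.Agent.Lib.Coprime.PGroup
import Cfsg.Agent.Lib.Transfer.Frobenius

set_option autoImplicit false
open Cfsg

namespace Cfsg.Agent.S4127

open scoped Pointwise commutatorElement
open Cfsg.Lib Cfsg.Lib.Hall

open Subgroup Cfsg.Lib.Core Cfsg.Lib.Transfer

/-- If all `p'`-elements have `p'`-class size then they centralise every `p`-element. -/
theorem aux {G : Type*} [Group G] [Finite G] {p : ℕ} [hp : Fact p.Prime]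
    (h : ∀ x : G, (orderOf x).Coprime p → ¬ p ∣ cs x) {x y : G} (hx : (orderOf x).Coprime p)
    (hy : IsPGroup p (zpowers y)) : x * y = y * x := by
  obtain ⟨P, hP⟩ := hy.exists_le_sylow
  have h1 := sylow_sup_centralizer_eq_top P h
  have hn : (P : Subgroup G).Normal := normal_of_sup_eq_top le_normalizer
    (le_normalizer_of_le_centralizer le_rfl) h1
  have h2 : IsPGroup p (G ⧸ centralizer ((P : Subgroup G) : Set G)) := by
    have h3 := P.isPGroup'.map (QuotientGroup.mk' (centralizer ((P : Subgroup G) : Set G)))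
    have h4 : (P : Subgroup G).map (QuotientGroup.mk' (centralizer ((P : Subgroup G) : Set G))) = ⊤ := by
      rw [eq_top_iff, ← map_top_of_surjective _ (QuotientGroup.mk'_surjective _), map_mk'_le_map_mk'_iff,
        sup_comm, h1]
    rwa [h4, isPGroup_top_iff] at h3
  have h5 := resOf_le_ker h2 (QuotientGroup.mk' _) ⊤ (mem_resOf (mem_top x) hx)
  rw [QuotientGroup.ker_mk'] at h5
  exact (h5 y (hP (mem_zpowers y))).symm

/-- Let G be a finite group, p a prime and p^a the largest power of p dividing the size of any conjugacy class of G. If some element of p-power order has a conjugacy class of size exactly p^a, then G has a normal p-complement. -/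
theorem result {G : Type*} [Group G] [Finite G] (p : ℕ) [Fact p.Prime]
    (a : ℕ) (hmax : ∀ y : G, ¬ p ^ (a + 1) ∣ (Subgroup.centralizer ({y} : Set G)).index)
    (hx : ∃ x : G, (∃ k : ℕ, orderOf x = p ^ k) ∧ (Subgroup.centralizer ({x} : Set G)).index = p ^ a) :
    Cfsg.HasNormalPComplement p G := by
  have hp : p.Prime := Fact.out
  obtain ⟨x, ⟨k, hk⟩, hxa⟩ := hx
  have hxp : IsPGroup p (zpowers x) := isPGroup_zpowers_of_orderOf hk
  have hxO : x ∈ pCore p G := mem_pCore_of_cs_eq_pow hp hxp hxa
  set C := centralizer ({x} : Set G) with hC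
  have h1 : ∀ y : C, (orderOf y).Coprime p → ¬ p ∣ cs y := fun y hy hd => by
    have hc : Commute x y := (mem_cent_iff.mp y.2).symm
    rw [← orderOf_coe] at hy
    have h2 := cs_mul_of_coprime hc (coprime_orderOf_of_isPGroup hp hxp hy)
    rw [← cs_coe_eq_relIndex, show cs x = p ^ a from hxa] at h2
    exact hmax (x * y) (by
      rw [show (centralizer ({x * (y : G)} : Set G)).index = cs y * p ^ a from h2, pow_succ']
      exact Nat.mul_dvd_mul_right hd _)
  have h2 : ∀ y ∈ C, ∀ z ∈ C, (orderOf y).Coprime p → IsPGroup p (zpowers z) → y * z = z * y :=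
    fun y hy z hz hyp hzp => by
      have := aux h1 (x := ⟨y, hy⟩) (y := ⟨z, hz⟩) (by rwa [← orderOf_coe]) (by
        rw [isPGroup_zpowers_iff hp] at hzp ⊢
        rwa [← orderOf_coe])
      exact congrArg Subtype.val this
  have h3 : ∀ y ∈ C, (orderOf y).Coprime p → y ∈ centralizer (pCore p G : Set G) := fun y hy hyp => by
    refine Coprime.thompson_PxQ (P := zpowers x) (Q := zpowers y) hxp (by rwa [Nat.card_zpowers])
      (isPGroup_pCore p G) ?_ (le_normalizer_of_normal' _ _) (le_normalizer_of_normal' _ _) ?_ (mem_zpowers y)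
    · rw [zpowers_le, centralizer_zpowers]
      exact mem_cent_comm.mp hy
    · intro z hz
      rw [centralizer_zpowers] at hz ⊢
      exact mem_cent_iff.mpr (h2 y hy z hz.2 hyp (isPGroup_zpowers_of_mem (isPGroup_pCore p G) hz.1)).symm
  have h4 : resOf p (⊤ : Subgroup G) ≤ centralizer (pCore p G : Set G) := by
    rw [resOf_le_iff]
    intro g _ hg
    refine mem_of_forall_pPart fun r hr y hy hyr => ?_
    have hyp : (orderOf y).Coprime p := Nat.Coprime.coprime_dvd_left (orderOf_dvd_of_mem_zpowers hy) hg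
    haveI := Fact.mk hr
    by_cases hrp : r = p
    · subst hrp
      have := eq_bot_of_isPGroup_of_coprime hr hyr (by rwa [Nat.card_zpowers])
      rw [zpowers_eq_bot] at this
      rw [this]; exact one_mem _
    obtain ⟨R, hR⟩ := exists_sylow_le_of_not_dvd_index (p := r) (H := C) (by
      rw [hxa]
      exact fun hd => hrp ((Nat.prime_dvd_prime_iff_eq hr hp).mp (hr.dvd_of_dvd_pow hd)))
    obtain ⟨u, hu⟩ := exists_le_conj_sylow hyr R
    have h5 := hu (mem_zpowers y)
    rw [mem_conj_smul] at h5
    have h6 := h3 _ (hR h5) (by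
      have : orderOf (u⁻¹ * y * u) = orderOf y := by
        simpa using (MulAut.conj u⁻¹).orderOf_eq y
      rwa [this])
    have h7 := (inferInstance : (centralizer (pCore p G : Set G)).Normal).conj_mem _ h6 u
    simpa [mul_assoc] using h7
  have h5 : resOf p (⊤ : Subgroup G) ≤ C := fun g hg => mem_cent_iff.mpr (h4 hg x hxO).symm
  have h6 : PNil p C := by
    obtain ⟨T, hT⟩ := exists_sylowIn (p := p) C
    rw [hT.pnil_iff_forall]
    intro Q hQ g hg _ hgp z hz
    exact (h2 g hg z (hT.le (hQ hz)) hgp (isPGroup_zpowers_of_mem hT.isPGroup (hQ hz))).symm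
  rw [hasNormalPComplement_iff_top]
  have h7 := h6.mono h5
  unfold PNil at h7 ⊢
  rwa [resOf_resOf] at h7

end Cfsg.Agent.S4127
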