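import Cfsg.Statements.S4167
import Cfsg.Agent.Lib.Hall.Cs4
import Cfsg.Agent.S0205

set_option autoImplicit false
open Cfsg

namespace Cfsg.Agent.S4167

open scoped Pointwise
open Cfsg.Lib Cfsg.Lib.Hall

/-- Let G be a finite group in which no conjugacy class has size divisible by 4. Then G is solvable. -/
theorem result {G : Type*} [Group G] [Finite G]
    (h : ∀ x : G, ¬ 4 ∣ (Subgroup.centralizer ({x} : Set G)).index) : Group.IsSolvable G := by
  refine isSolvable_of_hereditary (fun G _ => ∀ x : G, ¬ 4 ∣ cs x) ?_ ?_ ?_ G h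
  · intro G _ _ N _ h x hx
    exact h x (hx.trans (cs_subgroup_dvd x))
  · intro G _ _ N _ h x hx
    obtain ⟨x, rfl⟩ := QuotientGroup.mk_surjective x
    exact h x (hx.trans (cs_mk_dvd N x))
  · intro G _ _ _ h
    rcases Nat.even_or_odd (Nat.card G) with h2 | h2
    · exact Group.isSolvable_of_comm (comm_of_simple_of_not_four_dvd (even_iff_two_dvd.mp h2) h)
    · exact Cfsg.Agent.S0205.result h2

end Cfsg.Agent.S4167
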