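import Cfsg.Statements.S4130
import Cfsg.Agent.Lib.Hall.CsA
import Cfsg.Agent.Lib.PGrp.Cyclic
import Cfsg.Agent.S4167

set_option autoImplicit false
open Cfsg

namespace Cfsg.Agent.S4130

open scoped Pointwise commutatorElement
open Cfsg.Lib Cfsg.Lib.Hall

open Subgroup Cfsg.Lib.Core

theorem ucs_two {G : Type*} [Group G] {H : Subgroup G} (h : ⁅H, H⁆ ≤ centralizer (H : Set G)) :
    Subgroup.upperCentralSeries H 2 = ⊤ := by
  refine eq_top_iff.2 fun x _ => Subgroup.mem_upperCentralSeries_succ_iff.2 fun y => ?_
  rw [Subgroup.upperCentralSeries_one, mem_center_iff]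
  intro z
  exact Subtype.ext (mem_centralizer_iff.1 (h (commutator_mem_commutator x.2 y.2)) z z.2)

theorem nil_of_two {G : Type*} [Group G] {H : Subgroup G} (h : ⁅H, H⁆ ≤ centralizer (H : Set G)) :
    Group.IsNilpotent H := ⟨⟨2, ucs_two h⟩⟩

theorem lemA {G : Type*} [Group G] [Finite G] (h : ∀ x : G, Squarefree (cs x))
    (hD : Group.IsNilpotent (commutator G)) :
    Squarefree (Nat.card (commutator G)) ∧ IsCyclic (commutator G) := by
  have h1 : Squarefree (Nat.card (commutator G)) :=
    Nat.squarefree_iff_prime_squarefree.2 fun p hp => by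
      rw [← sq]
      exact ca_der_not_dvd hp hD fun x => by
        rw [sq]; exact Nat.squarefree_iff_prime_squarefree.1 (h x) p hp
  haveI := IsZGroup.of_squarefree h1
  exact ⟨h1, inferInstance⟩

universe u in
theorem lemB (n : ℕ) : ∀ (G : Type u) [Group G] [Finite G] [Group.IsSolvable G], Nat.card G = n →
    (∀ x : G, Squarefree (cs x)) → ⁅commutator G, commutator G⁆ ≤ centralizer (commutator G : Set G) := by
  induction n using Nat.strong_induction_on with
  | _ n ih =>
  intro G _ _ _ hn h
  rcases subsingleton_or_nontrivial G with hG | hG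
  · intro x _; rw [Subsingleton.elim x 1]; exact one_mem _
  have hlt : commutator G < ⊤ := Group.IsSolvable.commutator_lt_top_of_nontrivial G
  have hL : ∀ x : commutator G, Squarefree (cs x) := fun x =>
    (h x).squarefree_of_dvd (cs_subgroup_dvd x)
  have h1 := ih _ (hn ▸ Core.card_lt_of_ne_top hlt.ne) (commutator G) rfl hL
  obtain ⟨-, h2⟩ := lemA hL (nil_of_two h1)
  haveI : IsCyclic (⁅commutator G, commutator G⁆ : Subgroup G) := by
    rw [← map_subtype_commutator]
    exact isCyclic_of_surjective _ (Subgroup.equivMapOfInjective _ _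
      (commutator G).subtype_injective).surjective
  exact le_centralizer_iff.1 (commutator_le_centralizer_of_isCyclic_normal _)

/-- Let G be a finite group all of whose conjugacy class sizes are square-free. Then G is supersolvable, G/F(G) and the derived subgroup G′ are cyclic of square-free order (F(G) the Fitting subgroup, which is normal), F(G) has nilpotency class at most 2, and G is metabelian. -/
theorem result {G : Type*} [Group G] [Finite G]
    (h : ∀ x : G, Squarefree (Subgroup.centralizer ({x} : Set G)).index) :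
    Cfsg.IsSupersolvable G ∧ (Cfsg.fittingSubgroup G).Normal ∧
    (∀ _h : (Cfsg.fittingSubgroup G).Normal, IsCyclic (G ⧸ Cfsg.fittingSubgroup G) ∧ Squarefree (Cfsg.fittingSubgroup G).index) ∧
    IsCyclic (commutator G) ∧ Squarefree (Nat.card (commutator G)) ∧
    Subgroup.upperCentralSeries ↥(Cfsg.fittingSubgroup G) 2 = ⊤ ∧ commutator ↥(commutator G) = ⊥ := by
  haveI : Group.IsSolvable G := Cfsg.Agent.S4167.result fun x hx =>
    Nat.squarefree_iff_prime_squarefree.1 (h x) 2 Nat.prime_two hx
  have hn := nil_of_two (lemB _ G rfl h)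
  obtain ⟨hsq, hcyc⟩ := lemA h hn
  haveI := fitting_normal G
  haveI := isNilpotent_fitting G
  have hcomm : ∀ N : Subgroup G, [N.Normal] → commutator G ≤ N → Group.IsNilpotent (G ⧸ N) := by
    intro N _ hN
    haveI := Subgroup.Normal.quotient_commutative_iff_commutator_le.2 hN
    exact isNilpotent_of_isMulCommutative _
  have hF : fittingSubgroup G = centralizer (commutator G : Set G) := by
    refine le_antisymm (le_centralizer_iff.1 (le_of_forall_isPGroup fun q hq y hy hyq => ?_))
      (le_fitting (nil_of_two ((commutator_mono le_top le_top).trans (le_centralizer_iff.1 le_rfl))))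
    by_cases hy1 : y = 1
    · rw [hy1]; exact one_mem _
    haveI : (zpowers y).Normal := PGrp.normal_of_le_of_isCyclic hcyc (zpowers_le.2 hy)
    obtain ⟨k, hk⟩ := (isPGroup_zpowers_iff hq).1 hyq
    have hk1 : k = 1 := by
      have h1 : Squarefree (q ^ k) := hk ▸ hsq.squarefree_of_dvd ((commutator G).orderOf_dvd_natCard hy)
      have h2 : k ≠ 0 := by
        rintro rfl
        exact hy1 (orderOf_eq_one_iff.1 (by simpa using hk))
      exact ((Nat.squarefree_pow_iff hq.one_lt.ne' h2).1 h1).2
    have h3 := inf_centralizer_ne_bot_of_nilpotent (L := fittingSubgroup G)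
      ((zpowers_le.2 hy).trans (le_fitting hn)) le_rfl le_normalizer_of_normal (zpowers_ne_bot.2 hy1)
    have h4 : Nat.card (zpowers y) = q := by rw [Nat.card_zpowers, hk, hk1, pow_one]
    have h5 : Nat.card (zpowers y ⊓ centralizer (fittingSubgroup G : Set G) : Subgroup G) = q :=
      ((Nat.dvd_prime hq).1 (h4 ▸ card_dvd_of_le inf_le_left)).resolve_left fun e => h3 (card_eq_one.1 e)
    have h6 := eq_of_le_of_card_ge (inf_le_left : zpowers y ⊓ centralizer (fittingSubgroup G : Set G) ≤ _)
      (by rw [h4, h5])
    exact (h6.ge (mem_zpowers y)).2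
  have hidx : Squarefree (fittingSubgroup G).index := by
    obtain ⟨c, hc⟩ := (Subgroup.isCyclic_iff_exists_zpowers_eq_top _).1 hcyc
    rw [hF, ← hc, centralizer_zpowers]
    exact h c
  refine ⟨?_, inferInstance, fun _ => ⟨?_, hidx⟩, hcyc, hsq, ucs_two ?_, ?_⟩
  · haveI := hcomm _ le_rfl
    exact ss_of_isCyclic_normal (commutator G) ss_of_isNilpotent
  · haveI := hcomm _ (le_fitting hn)
    haveI : IsZGroup (G ⧸ fittingSubgroup G) := IsZGroup.of_squarefree hidx
    infer_instance
  · exact (commutator_mono le_top le_top).trans (le_centralizer_iff.1 hF.le)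
  · haveI := hcyc
    haveI : IsMulCommutative (commutator G) := IsCyclic.isMulCommutative
    exact (commutator_eq_bot_iff _).2 inferInstance

end Cfsg.Agent.S4130
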