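import Cfsg.Statements.S4133
import Cfsg.Agent.Lib.FG.AbTwo
import Cfsg.Agent.Lib.Hall.MaxCent
import Cfsg.Agent.Lib.Hall.Kazarin

set_option autoImplicit false
open Cfsg

open Subgroup Cfsg.Lib
open scoped commutatorElement
namespace Cfsg.Agent.S4133

/-- Let G be a finite group all of whose Sylow subgroups are abelian, and let 2^a be the largest power of 2 dividing the size of any conjugacy class of G. If some element has a conjugacy class of size exactly 2^a, then G is solvable. -/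
theorem result {G : Type*} [Group G] [Finite G]
    (hA : ∀ (p : ℕ) [Fact p.Prime] (P : Sylow p G), IsMulCommutative (P : Subgroup G))
    (a : ℕ) (hmax : ∀ y : G, ¬ 2 ^ (a + 1) ∣ (Subgroup.centralizer ({y} : Set G)).index) (hx : ∃ x : G, (Subgroup.centralizer ({x} : Set G)).index = 2 ^ a) :
    Group.IsSolvable G := by
  by_contra hs
  obtain ⟨E, _, h1, h2⟩ := FG.exists_perfect_normal hs
  obtain ⟨x, hx⟩ := hx
  have hE : E ≤ centralizer {x} := subgroupOf_eq_top.1 (FG.eq_top_of_index_two_pow h2 (FG.comm_sylow_sub (hA 2) E)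
    (hx ▸ Hall.relIndex_cent_dvd x E))
  have h3 := FG.commutator_inf_center_eq_bot fun p _ => FG.comm_sylow_sub (hA p) E
  rw [h2, top_inf_eq] at h3
  obtain ⟨y, y1, yo, yr⟩ : ∃ y : E, y ≠ 1 ∧ Odd (orderOf y) ∧ IsConj y y⁻¹ := by
    by_contra hn
    exact h1 (Hall.isSolvable_of_no_real fun y a b c => hn ⟨y, a, b, c⟩)
  have hxE : x ∈ centralizer (E : Set G) := Hall.le_cent_iff.1 hE
  have h4 : centralizer {x * y} ≤ centralizer {x} ⊓ centralizer {(y : G)} := fun t ht => by
    have e := Hall.mem_cent_iff.1 ht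
    have e1 : x⁻¹ * (t * x * t⁻¹) = y * (t * (y : G)⁻¹ * t⁻¹) := by
      calc _ = x⁻¹ * (t * (x * y)) * (y : G)⁻¹ * t⁻¹ := by group
        _ = _ := by rw [e]; group
    have m1 : y * (t * (y : G)⁻¹ * t⁻¹) ∈ E := mul_mem y.2 (Normal.conj_mem inferInstance _ (inv_mem y.2) t)
    have m0 := mul_mem (inv_mem hxE) (Normal.conj_mem inferInstance _ hxE t)
    rw [e1] at m0
    have m2 : (⟨_, m1⟩ : E) ∈ center E := mem_center_iff.2 fun g => Subtype.ext (m0 g g.2)
    have e2 : y * (t * (y : G)⁻¹ * t⁻¹) = 1 := congrArg Subtype.val (mem_bot.1 (h3.le m2))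
    have e3 : t * x = x * t := mul_inv_eq_iff_eq_mul.1 (inv_mul_eq_one.1 (e1.trans e2)).symm
    exact ⟨Hall.mem_cent_iff.2 e3, Hall.mem_cent_iff.2 (mul_left_cancel (a := x) (by
      rw [← mul_assoc, ← e3, mul_assoc, e, mul_assoc]))⟩
  refine hmax (x * y) (Dvd.dvd.trans ?_ (index_dvd_of_le h4))
  rw [inf_comm, Hall.index_inf_eq, hx, pow_succ']
  refine Nat.mul_dvd_mul_right (by_contra fun d => y1 (Hall.eq_one_of_odd_of_sq_eq_one yo
    (inclusion_injective hE ?_))) _
  rw [map_pow, map_one]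
  exact Hall.sq_eq_one_of_real_of_odd_cs (Hall.IsConj.map_inv _ yr) (by rwa [Hall.cs_coe_eq_relIndex])

end Cfsg.Agent.S4133
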