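import Cfsg.Statements.S4134
import Cfsg.Agent.Lib.Hall.CsE
import Cfsg.Agent.Lib.Coprime.Mann
import Cfsg.Agent.Lib.PGrp.Comm
import Cfsg.Agent.Lib.PGrp.Basic

set_option autoImplicit false
open Cfsg

namespace Cfsg.Agent.S4134

open scoped Pointwise commutatorElement
open Cfsg.Lib Cfsg.Lib.Hall

open Subgroup Cfsg.Lib.Core

theorem pgrp {P : Type*} [Group P] [Finite P] {p n : ℕ} [Fact p.Prime] (hP : IsPGroup p P)
    (h : ∀ x : P, x ∉ center P → cs x = n) :
    ∃ A : Subgroup P, A.Normal ∧ IsMulCommutative A ∧ ∀ y : P, y ^ p ∈ A := by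
  obtain ⟨A, hA, hab, -, hC⟩ := PGrp.exists_normal_self_centralizing hP ⊥ inferInstance
  refine ⟨A, hA, hab, fun y => hC ▸ mem_centralizer_iff.2 fun t ht => ?_⟩
  have h1 : ∀ x : P, ⁅t, x⁆ ∈ center P := fun x => by
    by_cases hx : x ∈ center P
    · rw [commutatorElement_eq_one_iff_mul_comm.2 (mem_center_iff.1 hx t)]; exact one_mem _
    · by_contra e
      exact (Coprime.cs_commutator_lt A hab hx ht).ne ((h _ e).trans (h _ hx).symm)
  have h2 : ∀ x : P, x ^ p ∈ centralizer ({t} : Set P) ↔ x ∈ centralizer ({t ^ p} : Set P) := fun x => by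
    rw [mem_cent_iff, mem_cent_iff, eq_comm, ← commutatorElement_eq_one_iff_mul_comm,
      eq_comm (a := x * _), ← commutatorElement_eq_one_iff_mul_comm,
      PGrp.commutator_pow_left (mem_center_iff.1 (h1 x) t).symm,
      PGrp.commutator_pow_right (mem_center_iff.1 (h1 x) x).symm]
  refine (mem_cent_iff.1 ((h2 y).2 ?_)).symm
  by_cases hz : t ^ p ∈ center P
  · rw [cent_eq_top_iff.2 hz]; exact mem_top y
  have h3 : centralizer ({t} : Set P) = centralizer {t ^ p} := cent_eq_of_le_of_cs_le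
    (cent_le_of_mem_zpowers (npow_mem_zpowers t p))
    ((h t fun e => hz (pow_mem e p)).trans (h _ hz).symm).le
  obtain ⟨k, hk⟩ := hP y
  have h4 : ∀ j, y ^ p ^ j ∈ centralizer ({t} : Set P) → y ∈ centralizer ({t} : Set P) := by
    intro j
    induction j with
    | zero => simp
    | succ j ih => exact fun e => ih (h3 ▸ (h2 _).1 (by rwa [← pow_mul, ← pow_succ]))
  exact h3 ▸ h4 k (by rw [hk]; exact one_mem _)

/-- Let G be a finite group whose conjugacy classes have exactly two sizes, 1 and n > 1. Then n is a power of a prime p and G is the direct product of a p-group and an abelian group of order prime to p: its Sylow p-subgroup P is normal with an abelian normal complement centralizing it; moreover P has an abelian normal subgroup A with P/A of exponent dividing p. -/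
theorem result {G : Type*} [Group G] [Finite G] (n : ℕ) (hn : 1 < n)
    (h : ∀ x : G, (Subgroup.centralizer ({x} : Set G)).index = 1 ∨ (Subgroup.centralizer ({x} : Set G)).index = n) (hex : ∃ x : G, (Subgroup.centralizer ({x} : Set G)).index = n) :
    ∃ (p : ℕ) (_ : Fact p.Prime) (a : ℕ), n = p ^ a ∧ ∀ P : Sylow p G, (P : Subgroup G).Normal ∧
      (∃ N : Subgroup G, N.Normal ∧ N.IsComplement' (P : Subgroup G) ∧ IsMulCommutative N ∧
        ∀ x ∈ N, ∀ y ∈ (P : Subgroup G), x * y = y * x) ∧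
      ∃ A : Subgroup (P : Subgroup G), A.Normal ∧ IsMulCommutative A ∧ ∀ y : (P : Subgroup G), y ^ p ∈ A := by
  have h' : ∀ x : G, x ∉ center G → cs x = n := fun x hx =>
    (h x).resolve_left fun e => hx (cs_eq_one_iff.1 e)
  obtain ⟨x, hx⟩ := hex
  obtain ⟨p, hp, a, rfl⟩ := ce_ito h' (x := x) fun e => hn.ne ((cs_eq_one_iff.2 e).symm.trans hx)
  haveI := Fact.mk hp
  refine ⟨p, this, a, rfl, fun P => ?_⟩
  have h1 : ∀ q : ℕ, q.Prime → q ≠ p → ∀ x : G, ¬ q ∣ cs x := fun q hq hqp x e => by
    rcases h x with e' | e'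
    · exact hq.one_lt.ne' (Nat.dvd_one.1 (e' ▸ e))
    · exact hqp ((Nat.prime_dvd_prime_iff_eq hq hp).1 (hq.dvd_of_dvd_pow (e' ▸ e)))
  have h2 := ce_sup_center P h1
  haveI := ce_normal_of_sup h2
  haveI : Group.IsNilpotent (P : Subgroup G) := P.isPGroup'.isNilpotent
  haveI := ce_nil_of_sup h2
  have h3 : pPrimeCore p G ≤ center G := Coprime.le_of_forall_sylowIn fun q hq hd => by
    obtain ⟨T, hT⟩ := Transfer.exists_sylowIn (p := q) (pPrimeCore p G)
    obtain ⟨Q, hQ⟩ := hT.isPGroup.exists_le_sylow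
    refine ⟨T, hT, hQ.trans (sylow_le_center_of_forall_not_dvd Q (h1 q hq.out ?_))⟩
    rintro rfl
    exact (coprime_iff_not_dvd hp).1 (coprime_card_pPrimeCore (G := G) q) hd
  refine ⟨inferInstance, ⟨pPrimeCore p G, pPrimeCore_normal p G, ?_, ?_, fun x hx y _ =>
    (mem_center_iff.1 (h3 hx) y).symm⟩, pgrp (n := p ^ a) P.isPGroup' fun x hx => ?_⟩
  · refine isComplement'_of_disjoint_and_mul_eq_univ ?_ ?_
    · rw [disjoint_iff, inf_comm]
      exact inf_eq_bot_of_isPGroup_of_coprime hp P.isPGroup' (coprime_card_pPrimeCore p G)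
    · haveI := pPrimeCore_normal p G
      rw [← normal_mul, coe_eq_univ, eq_top_iff, ← pCore_sup_pPrimeCore_of_nilpotent hp, sup_comm]
      exact sup_le_sup_left (pCore_le_sylow P) _
  · exact le_centralizer_iff_isMulCommutative.1 (h3.trans (center_le_centralizer _))
  · have h4 : (x : G) ∉ center G := fun e => hx (mem_center_iff.2 fun g => Subtype.ext (mem_center_iff.1 e g))
    rw [cs_coe_eq_relIndex, ← h' x h4, ← relIndex_cent_sup (P : Subgroup G) (center_le_cent (x : G)),
      sup_comm, h2, relIndex_top_right]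

end Cfsg.Agent.S4134
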