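import Cfsg.Statements.S4137
import Cfsg.Agent.Lib.Exc.Rank3

set_option autoImplicit false
open Cfsg

namespace Cfsg.Agent.S4137

/-- Let G be a finite group with trivial centre and at most three distinct sizes of conjugacy classes other than 1. Then G is solvable or G is isomorphic to PSL₂(2^a) for some a ≥ 1. -/
theorem result {G : Type*} [Group G] [Finite G]
    (hZ : Subgroup.center G = ⊥) (h : Nat.card {n : ℕ | 1 < n ∧ ∃ x : G, (Subgroup.centralizer ({x} : Set G)).index = n} ≤ 3) :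
    Group.IsSolvable G ∨ ∃ a : ℕ, 0 < a ∧ Nonempty (G ≃* Matrix.ProjectiveSpecialLinearGroup (Fin 2) (GaloisField 2 a)) := by
  open Cfsg.Lib Cfsg.Lib.Exc Cfsg.Lib.Exc.Rank Cfsg.Lib.Hall in
  refine or_iff_not_imp_left.2 fun hG => ?_
  obtain ⟨a, b, c, h3⟩ : ∃ a b c : ℕ, ∀ x : G, x ≠ 1 → cs x = a ∨ cs x = b ∨ cs x = c := by
    set S := {n : ℕ | 1 < n ∧ ∃ x : G, (Subgroup.centralizer ({x} : Set G)).index = n} with hS
    have hf : S.Finite := (Set.finite_range fun x : G => cs x).subset fun n hn => hn.2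
    rw [Nat.card_coe_set_eq] at h
    obtain ⟨T, h1, -, h2⟩ := Set.Infinite.exists_superset_ncard_eq Set.infinite_univ (Set.subset_univ S) hf h
    obtain ⟨a, b, c, -, -, -, rfl⟩ := Set.ncard_eq_three.1 h2
    exact ⟨a, b, c, fun x hx => h1 ⟨one_lt_cs (by rwa [hZ, Subgroup.mem_bot]), x, rfl⟩⟩
  have h4 := (ac_or_solvable hZ h3).resolve_right hG
  have he := FT.even_card_of_not_solvable G hG
  obtain ⟨P⟩ : Nonempty (Sylow 2 G) := inferInstance
  rcases h4.main he with h1 | h1 | ⟨F, _, _, A, _, _, h1, h2, -, ⟨e⟩⟩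
  · have := solvable_of_pnil_two (Block.pnil_two_of_isCyclic (Transfer.sylowIn_top P) (h1 P))
    exact absurd (Group.isSolvable_of_surjective (f := (⊤ : Subgroup G).subtype) fun g => ⟨⟨g, trivial⟩, rfl⟩) hG
  · have := h1 P
    have := P.2.isNilpotent
    have := FT.odd_order_solvable (G ⧸ (P : Subgroup G)) (Nat.odd_iff.2 (Nat.two_dvd_ne_zero.1 P.not_dvd_index))
    exact absurd (Core.isSolvable_of_normal_of_quotient (P : Subgroup G)) hG
  have h4 : Even (Fintype.card F) := Nat.even_iff.2 (FiniteField.even_card_of_char_two (ringChar.eq F 2))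
  obtain ⟨m, -, h5⟩ := Small.exists_pow_of_even h4
  obtain ⟨e'⟩ := Small.nonempty_sl_equiv_psl (F := F) (by rwa [Nat.card_eq_fintype_card])
  have : Subsingleton A := ⟨fun a b => by
    have : ∀ a : A, a = 1 := fun a => by
      have h6 : e.symm (1, a) ∈ Subgroup.center G := Subgroup.mem_center_iff.2 fun g => e.injective (by
        simp [Prod.ext_iff, mul_comm])
      rw [hZ, Subgroup.mem_bot] at h6
      simpa using congrArg (fun g => (e g).2) h6
    rw [this a, this b]⟩
  let _ : Unique A := uniqueOfSubsingleton 1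
  obtain ⟨n, h6, -, h7⟩ := psl_galois (G := G) (F := F) (by
    rw [h5] at h2 ⊢
    exact pow_dvd_pow 2 ((Nat.pow_le_pow_iff_right one_lt_two).1 (show 2 ^ 2 ≤ 2 ^ m from h2)))
    ⟨e.trans (MulEquiv.prodUnique.trans e')⟩
  exact ⟨n, by omega, h7⟩

end Cfsg.Agent.S4137
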