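import Cfsg.Statements.S4138
import Cfsg.Agent.Lib.Hall.CsD
import Cfsg.Agent.Lib.PGrp.MaxClass
import Cfsg.Agent.Lib.Amalg.Syl

set_option autoImplicit false
open Cfsg

namespace Cfsg.Agent.S4138

open Subgroup Cfsg.Lib Cfsg.Lib.Core Cfsg.Lib.Amalg Cfsg.Lib.Hall
open scoped commutatorElement

local notation "𝐂[" x "]" => centralizer ({x} : Set _)

section
variable {G : Type*} [Group G] [Finite G]

theorem orb_lt {W B : Subgroup G} {t : G} (ht : t ≠ 1) (h : ∀ w ∈ W, w * t * w⁻¹ ∈ B) : (𝐂[t]).relIndex W < Nat.card B := by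
  let f : W ⧸ (𝐂[t]).subgroupOf W → B := Quotient.lift (fun w : W => (⟨w * t * (w : G)⁻¹, h w w.2⟩ : B)) fun a b e => Subtype.ext (by
    have := mem_cent_iff.1 (mem_subgroupOf.1 (QuotientGroup.leftRel_apply.1 e))
    change (a : G) * t * (a : G)⁻¹ = b * t * (b : G)⁻¹
    calc _ = a * (t * ((a : G)⁻¹ * b)) * (b : G)⁻¹ := by group
      _ = _ := by rw [show t * ((a : G)⁻¹ * b) = _ from this.symm]; simp [mul_assoc])
  have hf : Function.Injective f := by
    rintro ⟨a⟩ ⟨b⟩ e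
    have e : (a : G) * t * (a : G)⁻¹ = b * t * (b : G)⁻¹ := congrArg Subtype.val e
    refine QuotientGroup.eq.2 (mem_subgroupOf.2 (mem_cent_iff.2 ?_))
    change (a : G)⁻¹ * b * t = t * ((a : G)⁻¹ * b)
    calc _ = (a : G)⁻¹ * (b * t * (b : G)⁻¹) * b := by group
      _ = _ := by rw [← e]; group
  haveI := Fintype.ofFinite B
  haveI := Fintype.ofFinite (W ⧸ (𝐂[t]).subgroupOf W)
  rw [relIndex, index, Nat.card_eq_fintype_card, Nat.card_eq_fintype_card]
  refine Fintype.card_lt_of_injective_of_notMem f hf (b := 1) ?_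
  rintro ⟨⟨a⟩, e⟩
  exact ht (conj_eq_one_iff.1 (congrArg Subtype.val e))

theorem key {A W X : Subgroup G} [A.Normal] (hA : IsMulCommutative A) {g t : G} (ht : t ∈ ⁅A, zpowers g⁆) (t1 : t ≠ 1)
    (hW : W ≤ 𝐂[g]) (h1 : W ⊓ 𝐂[t] ≤ X) (h2 : A ≤ X) : X.index < W.index := by
  have hg : g ∈ 𝐍 A := le_normalizer_of_normal (mem_top g)
  have a1 := orb_lt (W := W) (B := (PGrp.commHom hA hg).range) t1 fun w hw => by
    obtain ⟨a, ha, rfl⟩ := (PGrp.mem_range_commHom hA hg).1 (PGrp.range_commHom hA hg ▸ commutator_mono le_sup_left le_sup_right ht)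
    refine (PGrp.mem_range_commHom hA hg).2 ⟨w * a * w⁻¹, Normal.conj_mem inferInstance a ha w, ?_⟩
    rw [conjugate_commutatorElement, mem_cent_iff.1 (hW hw), mul_inv_cancel_right]
  have a2 := PGrp.card_range_commHom hA hg
  have a3 := card_sup_mul_card_inf (H := W ⊓ 𝐂[t]) (K := A) le_normalizer_of_normal
  have a4 := card_le_of_le (sup_le h1 h2)
  have a5 := card_le_of_le (show W ⊓ 𝐂[t] ⊓ A ≤ A ⊓ 𝐂[g] from le_inf inf_le_right (inf_le_left.trans (inf_le_left.trans hW)))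
  have a6 := Core.card_mul_relIndex (inf_le_left : W ⊓ 𝐂[t] ≤ W)
  rw [inf_relIndex_left] at a6
  have a7 := W.card_mul_index
  have a8 := X.card_mul_index
  have p1 : 0 < Nat.card ↥(A ⊓ 𝐂[g]) := Nat.card_pos
  have p2 : 0 < Nat.card ↥(W ⊓ 𝐂[t]) := Nat.card_pos
  have p3 := Nat.pos_of_ne_zero (index_ne_zero_of_finite (H := W))
  have b1 : Nat.card ↥(W ⊓ 𝐂[t]) * Nat.card (PGrp.commHom hA hg).range ≤ Nat.card X :=
    Nat.le_of_mul_le_mul_right (by rw [mul_assoc, a2, ← a3]; exact Nat.mul_le_mul a4 a5) p1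
  have b2 : Nat.card W < Nat.card X := by nlinarith
  by_contra! h
  nlinarith

theorem dec (m : ℕ) (g : G) : ∃ a ∈ zpowers g, ∃ b ∈ zpowers g, g = a * b ∧ (∀ k : ℕ, k.Coprime m → (orderOf a).Coprime k) ∧
    (orderOf b).Coprime m := by
  obtain ⟨b, hb, a, ha, e, h1, h2⟩ := exists_piPart {q | ¬ q ∣ m} g
  exact ⟨a, ha, b, hb, e.trans (commute_of_mem_zpowers hb ha).eq,
    fun k hk => ((coprime_iff_isPiNumber.1 hk).coprime_compl h2).symm, coprime_iff_isPiNumber.2 h1⟩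

theorem cz {u k : G} (h : ⁅u, k⁆ ∈ center G) (hc : (orderOf k).Coprime (orderOf u)) : u * k = k * u := by
  have a : ∀ u k : G, ⁅u, k⁆ ∈ center G → orderOf ⁅u, k⁆ ∣ orderOf k := fun u k h => orderOf_dvd_of_pow_eq_one (by
    have c : Commute k ⁅u, k⁆ := mem_center_iff.1 h k
    have : (⁅u, k⁆ * k) ^ orderOf k = 1 := by
      rw [commutatorElement_def, inv_mul_cancel_right, conj_pow, pow_orderOf_eq_one]; simp
    rwa [c.symm.mul_pow, pow_orderOf_eq_one, mul_one] at this)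
  have b := a k u (commutatorElement_inv u k ▸ inv_mem h)
  rw [← commutatorElement_inv, orderOf_inv] at b
  exact commutatorElement_eq_one_iff_mul_comm.1 (orderOf_eq_one_iff.1 (Nat.eq_one_of_dvd_coprimes hc (a u k h) b))

theorem idx {m : ℕ} {K X : Subgroup G} (hK : K.index.Coprime m) (h : ∀ u ∈ X, (orderOf u).Coprime m → u ∈ K) : K.index ∣ X.index := by
  refine (Nat.dvd_iff_prime_pow_dvd_dvd _ _).2 fun q k hq hk => ?_
  rcases k with _ | k
  · simp
  haveI := Fact.mk hq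
  obtain ⟨Q, hQ⟩ := exists_syl q X
  have h1 : Q ≤ K := fun u hu => h u (hQ.le hu) (coprime_orderOf_of_isPGroup hq (isPGroup_zpowers_of_mem hQ.isPGroup hu)
    (hK.coprime_dvd_left ((dvd_pow_self q k.succ_ne_zero).trans hk)).symm)
  have h2 := hk.trans (index_dvd_of_le h1)
  rw [← relIndex_mul_index hQ.le] at h2
  exact (((Nat.Prime.coprime_iff_not_dvd hq).2 hQ.not_dvd_relIndex).pow_left _).dvd_of_dvd_mul_left h2

theorem main {x₀ y : G} (hn : 1 < cs x₀) (hcop : (cs y).Coprime (cs x₀)) (htop : ∀ z : G, cs z ≤ cs y)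
    (hsec : ∀ z : G, cs z < cs y → cs z ≤ cs x₀) :
    (𝐂[x₀]).Normal ∧ (∀ g, g ∉ 𝐂[x₀] → cs g = cs y) ∧ ∀ u ∈ 𝐂[x₀], (orderOf u).Coprime (cs y) → u ∈ center G := by
  obtain ⟨M, hM, m1, m2, -, m3⟩ := cc_exists_M y
  have D : ∀ z : G, cs x₀ < cs z → cs z = cs y := fun z h => by
    by_contra h1
    exact (hsec z (lt_of_le_of_ne (htop z) h1)).not_gt h
  have S0 : ∀ k ∈ M, (orderOf k).Coprime (cs y) → k ∈ center G := fun k hk h => mem_center_iff.2 fun g => by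
    have c : Commute (g * k * g⁻¹) k⁻¹ := m1 (inv_mem hk) _ (hM.conj_mem k hk g)
    have h1 : orderOf ⁅g, k⁆ ∣ orderOf k := orderOf_dvd_of_pow_eq_one (by
      rw [commutatorElement_def, c.mul_pow, conj_pow, inv_pow, pow_orderOf_eq_one]; simp)
    have h2 : ⁅g, k⁆ ∈ ⁅M, (⊤ : Subgroup G)⁆ := commutator_comm M ⊤ ▸ commutator_mem_commutator (mem_top g) hk
    exact commutatorElement_eq_one_iff_mul_comm.1 (orderOf_eq_one_iff.1 (Nat.eq_one_of_dvd_coprimes h h1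
      ((orderOf_dvd_natCard _ h2).trans m2)))
  obtain ⟨x, hx', k, hk, e, hπ, h0⟩ := dec (cs y) x₀
  have hxM := m3 x₀ hcop.symm (htop _)
  have ec : 𝐂[x₀] = 𝐂[x] := by rw [e, cent_mul_center (S0 k (zpowers_le.2 hxM hk) h0)]
  replace hxM : x ∈ M := zpowers_le.2 hxM hx'
  rw [ec] at hn hcop hsec D ⊢
  clear ec e hx' hk h0 k x₀
  have S1 : ∀ u ∈ 𝐂[x], (orderOf u).Coprime (cs y) → u ∈ center G := fun u hu h => by
    have c : Commute x u := (mem_cent_iff.1 hu).symm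
    have h1 := cent_mul_of_coprime c (hπ _ h)
    have h2 : cs x ∣ cs (x * u) := cs_dvd_mul_left c (hπ _ h)
    have h3 : 𝐂[x * u] = 𝐂[x] := cent_eq_of_le_of_cs_le (h1 ▸ inf_le_left) (by
      by_contra! h4
      exact hn.ne' (Nat.eq_one_of_dvd_coprimes hcop (D _ h4 ▸ h2) dvd_rfl))
    exact S0 u (m3 u (hcop.symm.coprime_dvd_left (index_dvd_of_le (h3.ge.trans (h1.le.trans inf_le_right)))) (htop _)) h
  set N : Subgroup G := ⁅zpowers x, (⊤ : Subgroup G)⁆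
  haveI : N.Normal := normalizer_eq_top_iff.1 (top_le_iff.1 (normalizer_commutator_ge_right _ _))
  have n1 : N ≤ ⁅M, (⊤ : Subgroup G)⁆ := commutator_mono (zpowers_le.2 hxM) le_rfl
  have n2 : ⁅N ⊔ zpowers x, (⊤ : Subgroup G)⁆ ≤ N := commutator_comm (⊤ : Subgroup G) _ ▸
    PGrp.commutator_sup_right_le (commutator_le_right _ _) (commutator_comm _ _).le
  haveI : (N ⊔ zpowers x).Normal := ⟨fun a ha g => by
    have := mul_mem (mem_sup_left (T := zpowers x) (n2 (commutator_comm (N ⊔ zpowers x) ⊤ ▸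
      commutator_mem_commutator (mem_top g) ha))) ha
    rwa [commutatorElement_def, inv_mul_cancel_right] at this⟩
  have n3 : N ⊔ zpowers x ≤ M := sup_le (n1.trans (commutator_le_left _ _)) (zpowers_le.2 hxM)
  have n4 : ∀ t ∈ N ⊔ zpowers x, N ⊔ zpowers x ≤ 𝐂[t] := fun t ht => le_cent_iff.2 (centralizer_le n3 (m1 (n3 ht)))
  have hA : IsMulCommutative ↥(N ⊔ zpowers x) := le_centralizer_iff_isMulCommutative.1 (n3.trans (m1.trans (centralizer_le n3)))
  have hx : x ∈ N ⊔ zpowers x := mem_sup_right (mem_zpowers x)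
  have S2 : ∀ u, (orderOf u).Coprime (cs y) → u ∉ center G → N ⊓ 𝐂[u] = ⊥ := fun u h1 h2 => by
    have hu : zpowers u ≤ 𝐍 (N ⊔ zpowers x) := le_normalizer_of_normal
    have co : (Nat.card (zpowers u)).Coprime (Nat.card ↥(N ⊔ zpowers x)) := by
      rw [Nat.card_zpowers]
      refine Nat.Coprime.coprime_dvd_right (card_sup_dvd' le_normalizer_of_normal) (Nat.Coprime.mul_right
        (h1.coprime_dvd_right ((card_dvd_of_le n1).trans m2)) ?_)
      rw [Nat.card_zpowers]; exact (hπ _ h1).symm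
    obtain ⟨b, hb, a, ha, e⟩ := Coprime.exists_commutator_mul_centralizer hu co (Or.inl (Coprime.isSolvable_zpowers u)) hx
    rw [PGrp.centralizer_zpowers] at ha
    have c : Commute u a := (mem_cent_iff.1 ha.2).symm
    have h3 := cent_mul_of_coprime c (Nat.card_zpowers u ▸ co.coprime_dvd_right (orderOf_dvd_natCard _ ha.1))
    have h4 := D _ (key hA hb (fun h => h2 (S1 u (by rw [e, h, one_mul]; exact mem_cent_comm.1 ha.2) h1)) (h3.le.trans inf_le_left)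
      (fun w hw => by rw [e]; exact cent_inf_le_mul b a ⟨hw.2, (h3.le hw.1).2⟩) (n4 x hx))
    have h5 : N ≤ ⁅N ⊔ zpowers x, zpowers u⁆ := by
      refine commutator_le.2 fun v ⟨i, hi⟩ g _ => ?_
      obtain ⟨d, hd, k, hk, rfl⟩ := factor_of_coprime_index (H := 𝐂[u * a]) (K := 𝐂[x]) (h4 ▸ hcop) g
      have hd' := h3.le hd
      have c1 : Commute k v := hi ▸ Commute.zpow_right (mem_cent_iff.1 hk) i
      have c2 : Commute d (a ^ i) := Commute.zpow_right (mem_cent_iff.1 hd'.2) i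
      have c3 : Commute b a := mem_cent_iff.1 (n4 a ha.1 (Coprime.commutator_le_of_le_normalizer hu hb))
      have c4 : v = b ^ i * a ^ i := by rw [← hi, ← c3.mul_zpow, ← e]
      have h6 : d ∈ 𝐍 ⁅N ⊔ zpowers x, zpowers u⁆ := by
        rw [← cj_eq_self_iff, cj_commutator, cj_normal, cj_zpowers, mem_cent_iff.1 hd'.1, mul_inv_cancel_right]
      have : ⁅v, d * k⁆ = b ^ i * (d * (b ^ i)⁻¹ * d⁻¹) := by
        calc _ = v * d * (k * v⁻¹ * k⁻¹) * d⁻¹ := by rw [commutatorElement_def]; group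
          _ = v * d * v⁻¹ * d⁻¹ := by rw [c1.inv_right.eq, mul_inv_cancel_right]
          _ = b ^ i * (a ^ i * d * (a ^ i)⁻¹) * (b ^ i)⁻¹ * d⁻¹ := by rw [c4]; group
          _ = _ := by rw [← c2.eq, mul_inv_cancel_right]; group
      rw [this]
      exact mul_mem (zpow_mem hb i) ((mem_normalizer_iff.1 h6 _).1 (inv_mem (zpow_mem hb i)))
    rw [eq_bot_iff, ← Coprime.centralizer_inf_commutator_eq_bot hu co, PGrp.centralizer_zpowers]
    exact le_inf (inf_le_inf_right _ le_sup_left) (inf_le_left.trans h5)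
  have S3 : ∀ g, g ∉ 𝐂 (N ⊔ zpowers x) → cs g = cs y := fun g hg => by
    obtain ⟨⟨t, ht⟩, t1⟩ := ne_bot_iff_exists_ne_one.1 (show ⁅N ⊔ zpowers x, zpowers g⁆ ≠ ⊥ from fun e =>
      hg (zpowers_le.1 (le_centralizer_iff.1 (commutator_eq_bot_iff_le_centralizer.1 e))))
    replace t1 : t ≠ 1 := fun e => t1 (Subtype.ext e)
    have htN := n2 (commutator_mono le_rfl le_top ht)
    refine D g (lt_of_le_of_lt (Nat.le_of_dvd (cs_pos t) (idx hcop.symm fun u hu h => center_le_cent x ?_))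
      (key hA ht t1 le_rfl inf_le_right (n4 t (mem_sup_left htN))))
    by_contra h1
    exact t1 (mem_bot.1 (S2 u h h1 ▸ mem_inf.2 ⟨htN, mem_cent_comm.1 hu⟩))
  have S4 : 𝐂[x] = 𝐂 (N ⊔ zpowers x) := le_antisymm (fun g hg => by
    by_contra h
    have h1 : normalClosure {x} ≤ 𝐂[g] := (closure_le _).2 fun v hv => by
      obtain ⟨x', e', h2⟩ := Group.mem_conjugatesOfSet_iff.1 hv
      rw [Set.mem_singleton_iff.1 e'] at h2
      obtain ⟨w, rfl⟩ := isConj_iff.1 h2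
      obtain ⟨d, hd, k, hk, rfl⟩ := factor_of_coprime_index (H := 𝐂[g]) (K := 𝐂[x]) ((S3 g h).symm ▸ hcop) w
      rw [show d * k * x * (d * k)⁻¹ = d * x * d⁻¹ by rw [mul_assoc d, mem_cent_iff.1 hk]; group]
      exact mul_mem (mul_mem hd (mem_cent_comm.1 hg)) (inv_mem hd)
    have h2 : zpowers x ≤ normalClosure {x} := zpowers_le.2 (subset_normalClosure rfl)
    exact h (le_cent_iff.1 ((sup_le ((commutator_mono h2 le_rfl).trans (commutator_le_left _ _)) h2).trans h1)))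
    (le_cent_iff.2 (le_centralizer_centralizer _ hx))
  exact ⟨S4 ▸ inferInstance, fun g hg => S3 g (S4 ▸ hg), S1⟩

end

/-- Let G be a finite group whose two largest conjugacy class sizes m > n > 1 are coprime, and let x, y ∈ G have classes of sizes n and m respectively. Then C_G(x) and C_G(y) are abelian, and G/Z(G) is a Frobenius group with kernel C_G(x)/Z(G) and complement C_G(y)/Z(G). -/
theorem result {G : Type*} [Group G] [Finite G] (m n : ℕ) (hmn : n < m) (hn : 1 < n)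
    (hcop : m.Coprime n) (htop : ∀ z : G, (Subgroup.centralizer ({z} : Set G)).index ≤ m) (hsecond : ∀ z : G, (Subgroup.centralizer ({z} : Set G)).index < m → (Subgroup.centralizer ({z} : Set G)).index ≤ n)
    (x y : G) (hx : (Subgroup.centralizer ({x} : Set G)).index = n) (hy : (Subgroup.centralizer ({y} : Set G)).index = m) :
    IsMulCommutative (Subgroup.centralizer ({x} : Set G)) ∧ IsMulCommutative (Subgroup.centralizer ({y} : Set G)) ∧
    Cfsg.IsFrobeniusComplement ((Subgroup.centralizer ({y} : Set G)).map (QuotientGroup.mk' (Subgroup.center G))) ∧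
    Cfsg.frobeniusKernel ((Subgroup.centralizer ({y} : Set G)).map (QuotientGroup.mk' (Subgroup.center G))) =
      ((Subgroup.centralizer ({x} : Set G)).map (QuotientGroup.mk' (Subgroup.center G)) : Set (G ⧸ Subgroup.center G)) := by
  subst hx hy
  obtain ⟨hK, h1, h2⟩ := main hn hcop htop hsecond
  have fac : ∀ v, v ∉ 𝐂[x] → ∀ g : G, ∃ k ∈ 𝐂[x], ∃ c ∈ 𝐂[v], g = k * c := fun v hv =>
    factor_of_coprime_index ((h1 v hv).symm ▸ hcop.symm)
  have pi : ∀ v, v ∉ 𝐂[x] → ∃ a ∈ 𝐂[x], ∃ u ∈ zpowers v, v = a * u ∧ u ∉ 𝐂[x] ∧ (orderOf u).Coprime (cs y) := fun v hv => by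
    obtain ⟨a, -, u, hu, e, a1, a2⟩ := dec (cs y) v
    have : a ∈ 𝐂[x] := mem_of_pow_mem_of_coprime (a1 _ hcop.symm).symm (pow_index_mem _ a)
    exact ⟨a, this, u, hu, e, fun h => hv (e ▸ mul_mem this h), a2⟩
  have s1 : ∀ u, u ∉ 𝐂[x] → (orderOf u).Coprime (cs y) → ∀ c ∈ 𝐂[x] ⊓ 𝐂[u], 𝐂[u] ≤ 𝐂[c] := fun u u1 u2 c hc => by
    obtain ⟨a, ha, b, hb, e, a1, a2⟩ := dec (cs y) c
    have ha' := zpowers_le.2 hc ha
    have co : Commute u a := (mem_cent_iff.1 ha'.2).symm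
    have h3 := cent_mul_of_coprime co (a1 _ u2).symm
    rw [e, cent_mul_center (h2 b (zpowers_le.2 hc.1 hb) a2)]
    exact (cent_eq_of_le_of_cs_le (h3.le.trans inf_le_left) (by
      rw [h1 u u1, h1 _ fun h => u1 ((mul_mem_cancel_right (mem_inf.1 ha').1).1 h)])).ge.trans (h3.le.trans inf_le_right)
  have hab : 𝐂[x] ≤ 𝐂 𝐂[x] := by
    obtain ⟨q, hq, q1⟩ := Nat.exists_prime_and_dvd hn.ne'
    haveI := Fact.mk hq
    obtain ⟨Q⟩ : Nonempty (Sylow q G) := inferInstance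
    obtain ⟨u, hu, u1⟩ := SetLike.not_le_iff_exists.1 fun h => not_dvd_index_of_sylow_le Q h q1
    have q2 : (cs y).Coprime q := hcop.coprime_dvd_right q1
    have u2 := coprime_orderOf_of_isPGroup hq (isPGroup_zpowers_of_mem Q.isPGroup' hu) q2
    have a1 : (𝐂[x] ⊓ 𝐂[u]) ⊔ (𝐂[x] ⊓ 𝐂 𝐂[x]) ≤ 𝐂 ((𝐂[x] ⊓ 𝐂[u]) ⊔ (𝐂[x] ⊓ 𝐂 𝐂[x]) : Subgroup G) :=
      sup_le (le_centralizer_iff.1 (sup_le (fun c hc => le_cent_iff.1 (inf_le_right.trans (s1 u u1 u2 c hc)))
        (inf_le_right.trans (centralizer_le inf_le_left)))) (inf_le_right.trans (centralizer_le (SetLike.coe_subset_coe.2 (sup_le inf_le_left inf_le_left))))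
    have a2 : ((𝐂[x] ⊓ 𝐂[u]) ⊔ (𝐂[x] ⊓ 𝐂 𝐂[x])).subgroupOf 𝐂[x] = ⊤ := eq_top_of_forall_conj_mem fun ⟨a, ha⟩ => by
      by_cases h : 𝐂[a] ≤ 𝐂[x]
      · refine ⟨1, mem_subgroupOf.2 (mem_sup_right ⟨by simpa using ha, ?_⟩)⟩
        have := cent_eq_of_le_of_cs_le h (hsecond a (lt_of_le_of_ne (htop a) fun e =>
          hn.ne' (Nat.eq_one_of_dvd_coprimes hcop (e ▸ index_dvd_of_le h) dvd_rfl)))
        simpa using le_cent_iff.1 this.ge
      obtain ⟨v, hv, v1⟩ := SetLike.not_le_iff_exists.1 h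
      obtain ⟨-, -, w, hw, -, w1, w2⟩ := pi v v1
      have h3 := index_dvd_of_le (s1 w w1 w2 a ⟨ha, mem_cent_comm.1 (zpowers_le.2 hv hw)⟩)
      obtain ⟨g, hg⟩ := exists_conj_mem_centralizer_sylow Q (x := a) fun e =>
        hq.one_lt.ne' (Nat.eq_one_of_dvd_coprimes q2 (h1 w w1 ▸ e.trans h3) dvd_rfl)
      obtain ⟨k, hk, c, hc, e⟩ := fac u u1 g⁻¹
      refine ⟨⟨k⁻¹, inv_mem hk⟩, mem_subgroupOf.2 (mem_sup_left (mem_inf.2 ⟨hK.conj_mem a ha _, ?_⟩))⟩
      change k⁻¹ * a * k⁻¹⁻¹ ∈ _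
      rw [show k⁻¹ * a * k⁻¹⁻¹ = c * (g * a * g⁻¹) * c⁻¹ by rw [← inv_inv g, e]; group]
      exact mul_mem (mul_mem hc (mem_cent_iff.2 (hg u hu).symm)) (inv_mem hc)
    have a3 := subgroupOf_eq_top.1 a2
    exact a3.trans (a1.trans (centralizer_le a3))
  have F : ∀ v, v ∉ 𝐂[x] → 𝐂[x] ⊓ 𝐂[v] ≤ center G := fun v hv c hc => mem_center_iff.2 fun g => by
    obtain ⟨-, -, u, hu, -, u1, u2⟩ := pi v hv
    obtain ⟨k, hk, d, hd, rfl⟩ := fac u u1 g
    exact mem_cent_iff.1 (mul_mem (le_cent_iff.2 (hab hc.1) hk) (s1 u u1 u2 c ⟨hc.1, cent_le_of_mem_zpowers hu hc.2⟩ hd))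
  have F' : ∀ v, v ∉ 𝐂[x] → ∀ k ∈ 𝐂[x], ⁅v, k⁆ ∈ center G → k ∈ center G := fun v hv k hk h => by
    obtain ⟨a, ha, u, -, rfl, u1, u2⟩ := pi v hv
    obtain ⟨b, hb, c, hc, e, b1, b2⟩ := dec (cs y) k
    have c1 := h2 c (zpowers_le.2 hk hc) b2
    have hb' := zpowers_le.2 hk hb
    have c2 := hab ha _ (hK.conj_mem k hk u)
    have : ⁅a * u, k⁆ = ⁅u, b⁆ := by
      calc _ = a * (u * k * u⁻¹) * a⁻¹ * k⁻¹ := by rw [commutatorElement_def]; group
        _ = u * b * (c * u⁻¹) * c⁻¹ * b⁻¹ := by rw [← c2, mul_inv_cancel_right, e]; group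
        _ = _ := by rw [← mem_center_iff.1 c1, commutatorElement_def]; group
    exact e ▸ mul_mem (F u u1 ⟨hb', mem_cent_iff.2 (cz (this ▸ h) (b1 _ u2)).symm⟩) c1
  have hy : y ∉ 𝐂[x] := fun h => hmn.not_ge (Nat.le_of_dvd (cs_pos x) (index_dvd_of_le (le_cent_iff.2 (hab h))))
  refine ⟨le_centralizer_iff_isMulCommutative.1 hab, le_centralizer_iff_isMulCommutative.1 fun v hv w hw => ?_, ?_⟩
  · by_cases h : v ∈ 𝐂[x]
    · exact mem_center_iff.1 (F y hy ⟨h, hv⟩) w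
    obtain ⟨k, hk, c, hc, rfl⟩ := fac v h w
    have e : ⁅v, k⁆ = ⁅v, k * c⁆ := by
      calc _ = v * k * (c * v⁻¹ * c⁻¹) * k⁻¹ := by rw [(show Commute c v from mem_cent_iff.1 hc).inv_right.eq, commutatorElement_def]; group
        _ = _ := by rw [commutatorElement_def]; group
    have := F' v h k hk (F y hy (mem_inf.2 ⟨mul_mem (hK.conj_mem k hk v) (inv_mem hk),
      e ▸ mul_mem (mul_mem (mul_mem hv hw) (inv_mem hv)) (inv_mem (SetLike.mem_coe.1 hw))⟩))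
    exact mem_cent_iff.1 (mul_mem (center_le_cent v this) hc)
  set f := QuotientGroup.mk' (center G)
  haveI := normal_map_mk' (center G) 𝐂[x]
  have a1 : Coprime.Fpf ((𝐂[x]).map f) ((𝐂[y]).map f) := Coprime.fpf_iff.2 (by
    rintro _ ⟨r, hr, rfl⟩ r1 _ ⟨k, hk, rfl⟩ e
    exact (QuotientGroup.eq_one_iff _).2 (F' r (fun h => r1 ((QuotientGroup.eq_one_iff _).2 (F y hy ⟨h, hr⟩))) k hk
      ((QuotientGroup.eq_one_iff _).1 ((map_commutatorElement f r k).trans (commutatorElement_eq_one_iff_mul_comm.2 e)))))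
  have a2 : (𝐂[x]).map f ⊔ (𝐂[y]).map f = ⊤ := by
    rw [← Subgroup.map_sup, show 𝐂[x] ⊔ 𝐂[y] = ⊤ from top_le_iff.1 fun g _ => by
      obtain ⟨k, hk, c, hc, rfl⟩ := fac y hy g
      exact mul_mem_sup hk hc, map_top_of_surjective f (QuotientGroup.mk'_surjective _)]
  exact ⟨Coprime.isFrobeniusComplement_of_fpf a1 a2 (fun e => hn.ne' (cs_eq_one_iff.2 ((map_mk'_eq_bot_iff _ _).1 e (self_mem_cent x))))
    fun e => hy (center_le_cent x ((map_mk'_eq_bot_iff _ _).1 e (self_mem_cent y))), (Coprime.coe_eq_frobeniusKernel_of_fpf a1 a2).symm⟩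

end Cfsg.Agent.S4138
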