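import Cfsg.Statements.S4139
import Cfsg.Agent.Lib.Hall.CsG

set_option autoImplicit false
open Cfsg

namespace Cfsg.Agent.S4139

open scoped Pointwise commutatorElement
open Cfsg.Lib Cfsg.Lib.Hall

/-- Let G and H be finite groups such that for every natural number k, G and H have the same number of conjugacy classes of size k. If H is nilpotent then G is nilpotent. -/
theorem result {G H : Type*} [Group G] [Finite G] [Group H] [Finite H]
    (hH : Group.IsNilpotent H)
    (h : ∀ k : ℕ, Nat.card {C : ConjClasses G // Nat.card C.carrier = k} = Nat.card {C : ConjClasses H // Nat.card C.carrier = k}) :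
    Group.IsNilpotent G := by
  have h1 : Nat.card G = Nat.card H := by simpa using card_cs_congr h fun _ => True
  suffices ∀ (p : ℕ) (_hp : Fact p.Prime) (P : Sylow p G), (↑P : Subgroup G).Normal from
    ((Group.isNilpotent_of_finite_tfae (G := G)).out 3 0 rfl rfl).1 this
  intro p hp P
  obtain ⟨Q⟩ : Nonempty (Sylow p H) := inferInstance
  refine sylow_normal_of_dvd_card_cs _ G rfl P ?_
  rw [card_cs_congr h, P.card_eq_multiplicity, h1, ← Q.card_eq_multiplicity]
  exact dvd_card_cs_of_nilpotent Q

end Cfsg.Agent.S4139
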