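import Cfsg.Statements.S4140
import Cfsg.Agent.Lib.Hall.Camina

set_option autoImplicit false
open Cfsg

namespace Cfsg.Agent.S4140

open scoped Pointwise commutatorElement
open Cfsg.Lib Cfsg.Lib.Hall

open Subgroup Cfsg.Lib.Core Cfsg.Lib.Transfer

/-- Let G be a finite group and N a proper non-trivial normal subgroup such that for every g outside N the conjugacy class of g is a union of cosets of N (equivalently gn is conjugate to g for every n ∈ N). Then either every element of G outside N acts fixed-point-freely on N (C_G(x) ≤ N for all x ∈ N, x ≠ 1, so G is a Frobenius group with kernel N), or N has prime-power order, or G/N has prime-power order. -/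
theorem result {G : Type*} [Group G] [Finite G] (N : Subgroup G) [N.Normal] (hN1 : N ≠ ⊥) (hN2 : N ≠ ⊤)
    (hcam : ∀ g : G, g ∉ N → ∀ n ∈ N, ∃ x : G, x * g * x⁻¹ = g * n) :
    (∀ x ∈ N, x ≠ 1 → Subgroup.centralizer ({x} : Set G) ≤ N) ∨ IsPrimePow (Nat.card N) ∨ IsPrimePow N.index := by
  by_cases hc : N.index.Coprime (Nat.card N)
  · exact Or.inl fun x hx hx1 => (Cam.eqOrd hcam).centralizer_le hc hx hx1
  obtain ⟨p, hp, h1, h2⟩ := Nat.Prime.not_coprime_iff_dvd.mp hc
  by_contra h
  push Not at h
  obtain ⟨-, h3, h4⟩ := h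
  have h5 := mt (isPrimePow_of_unique Nat.card_pos.ne' hp h2) h3
  have h6 := mt (isPrimePow_of_unique index_ne_zero_of_finite hp h1) h4
  push Not at h5 h6
  obtain ⟨r, hr, hrd, hrp⟩ := h5
  obtain ⟨q, hq, hqd, hqp⟩ := h6
  exact Cam.false_of_primes hcam hp hq hr hqp hrp h2 h1 hqd hrd

end Cfsg.Agent.S4140
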