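import Cfsg.Statements.S4144
import Cfsg.Agent.Lib.Fus3.Newton2

set_option autoImplicit false
open Cfsg

namespace Cfsg.Agent.S4144

open Cfsg.Lib Cfsg.Lib.Fus Cfsg.Lib.PGrp Subgroup
open scoped commutatorElement

/-- Let X be a finite p-group of order p^n, n ≥ 2, of nilpotency class n − 1 (maximal class), and H any subgroup of X. Then the index in H of the subgroup generated by the p-th powers of elements of H is at most p^p. -/
theorem result {X : Type*} [Group X] [Finite X] {p : ℕ} [Fact p.Prime] (n : ℕ) (hn : 2 ≤ n) (hX : Nat.card X = p ^ n)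
    (hmax : Group.nilpotencyClass X = n - 1) (H : Subgroup X) :
    (Subgroup.closure {y : X | ∃ h ∈ H, y = h ^ p}).relIndex H ≤ p ^ p := by
  have hp1 := (Fact.out : p.Prime).one_lt
  have hG : IsPGroup p X := IsPGroup.of_card hX
  have := hG.isNilpotent
  obtain ⟨U, hU⟩ : ∃ U, U = closure {y : X | ∃ h ∈ H, y = h ^ p} := ⟨_, rfl⟩
  rw [← hU]
  have l : U ≤ H := hU ▸ (closure_le _).mpr (by rintro _ ⟨y, hy, rfl⟩; exact H.pow_mem hy p)
  have hpow : ∀ y ∈ H, y ^ p ∈ U := fun y hy => hU ▸ subset_closure ⟨y, hy, rfl⟩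
  suffices Nat.card H ≤ p ^ p * Nat.card U by
    rw [← card_mul_relIndex_of_le l, mul_comm] at this
    exact Nat.le_of_mul_le_mul_right this Nat.card_pos
  have mx : 4 ≤ n → ∃ G, MxC p (⊤ : Subgroup X) n G ∧ G n = ⊥ := fun h4 => by
    obtain ⟨G, h, hb, -⟩ := exists_mxc (S := (⊤ : Subgroup X)) (by rwa [card_top]) h4 fun e => by
      have := Subgroup.lowerCentralSeries_eq_bot_iff_nilpotencyClass_le.mp e
      omega
    exact ⟨G, h, hb⟩
  by_cases h1 : p + 2 ≤ n
  · obtain ⟨G, h, hb⟩ := mx (by omega)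
    refine (h.ip0.card_le le_top).trans ((Nat.mul_le_mul_left p
      (h.card_le_of_le hb le_top (fun y hy => hpow y (mem_inf.mp hy).2) inf_le_left (Or.inr ⟨le_rfl, h1⟩))).trans ?_)
    rw [← mul_assoc, ← pow_succ', show p - 1 + 1 = p by omega]
  by_cases h2 : Nat.card H ≤ p ^ p
  · exact h2.trans (Nat.le_mul_of_pos_right _ Nat.card_pos)
  have h3 := pow_succ_le_card_of_lt (hG.to_subgroup H) (not_le.mp h2)
  have h4 := card_le_card_group H
  have h5 : n = p + 1 := by
    have := h3.trans h4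
    rw [hX, Nat.pow_le_pow_iff_right hp1] at this
    omega
  obtain rfl : H = ⊤ := eq_top_of_le_card H (by rwa [hX, h5])
  have h6 : U ≠ ⊥ := fun e => by
    have he : ∀ y : X, y ^ p = 1 := fun y => mem_bot.mp (e ▸ hpow y (mem_top y))
    by_cases h7 : p = 2
    · subst h7
      have : (⊤ : Subgroup X).lowerCentralSeries 1 = ⊥ := eq_bot_iff.mpr (commutator_le.mpr fun x _ y _ =>
        mem_bot.mpr (commutatorElement_eq_one_iff_commute.mpr (Commute.of_orderOf_dvd_two
          (fun g => orderOf_dvd_of_pow_eq_one (he g)) x y)))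
      have := Subgroup.lowerCentralSeries_eq_bot_iff_nilpotencyClass_le.mp this
      omega
    · obtain ⟨G, h, hb⟩ := mx (by omega)
      exact h.not_exp hb h5 he
  have := mul_card_le_of_lt (hG.to_subgroup _) (bot_lt_iff_ne_bot.mpr h6)
  rw [card_bot, mul_one] at this
  rw [card_top, hX, h5, pow_succ]
  exact Nat.mul_le_mul_left _ this

end Cfsg.Agent.S4144
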