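import Cfsg.Statements.S4149
import Cfsg.Agent.Lib.Hall.ClassSize
import Cfsg.Agent.Lib.Transfer.Frobenius

set_option autoImplicit false
open Cfsg

namespace Cfsg.Agent.S4149

open Cfsg.Lib Cfsg.Lib.Hall Subgroup in
theorem half {G : Type*} [Group G] [Finite G] {p : ℕ} (hp : p.Prime) (h : ¬ HasNormalPComplement p G) :
    Nat.card G ≤ 2 * {x : G | p ∣ cs x}.ncard := by
  have := Fact.mk hp
  obtain ⟨P⟩ : Nonempty (Sylow p G) := inferInstance
  have h1 : ¬ normalizer ((P : Subgroup G) : Set G) ≤ centralizer ((P : Subgroup G) : Set G) := fun e =>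
    h (Transfer.hasNormalPComplement_iff_top.2
      ((Transfer.sylowIn_top P).pnil_of_normalizer_le_centralizer (inf_le_right.trans e)))
  have h2 := ncard_conj_mem_le (Core.normalizer_le_normalizer_centralizer (P : Subgroup G))
  have h3 := card_le_of_cover (S := {x : G | x ≠ 1 ∧ ∃ g : G, g * x * g⁻¹ ∈ centralizer ((P : Subgroup G) : Set G)})
    (T := {x : G | p ∣ cs x}) fun x hx => or_iff_not_imp_right.2 fun e =>
      ⟨hx, exists_conj_mem_centralizer_sylow P e⟩
  have h4 := Transfer.card_mul_relIndex (centralizer_le_normalizer ((P : Subgroup G) : Set G))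
  have h5 := card_mul_index (normalizer ((P : Subgroup G) : Set G))
  have h6 : 2 ≤ (centralizer ((P : Subgroup G) : Set G)).relIndex (normalizer ((P : Subgroup G) : Set G)) := by
    have e1 := mt relIndex_eq_one.1 h1
    have e2 : (centralizer ((P : Subgroup G) : Set G)).relIndex (normalizer ((P : Subgroup G) : Set G)) ≠ 0 :=
      index_ne_zero_of_finite
    omega
  have h7 : 0 < (normalizer ((P : Subgroup G) : Set G)).index := Nat.pos_of_ne_zero index_ne_zero_of_finite
  obtain ⟨c, hc⟩ := Nat.exists_eq_add_of_le' (Nat.card_pos (α := centralizer ((P : Subgroup G) : Set G)))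
  rw [hc, Nat.succ_eq_add_one, zero_add] at h4
  rw [hc, Nat.succ_eq_add_one, zero_add, Nat.add_sub_cancel] at h2
  rw [← h4] at h5
  have h8 := Nat.mul_le_mul_left ((c + 1) * (normalizer ((P : Subgroup G) : Set G)).index) h6
  nlinarith

/-- Let G be a finite group that has a normal p-complement for at most one prime p dividing its order, and let σ be a natural number such that every conjugacy class size of G has at most σ distinct prime divisors. Then the number of primes dividing at least one conjugacy class size of G is at most 2σ. -/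
theorem result {G : Type*} [Group G] [Finite G] (σ : ℕ)
    (hσ : ∀ x : G, ((Subgroup.centralizer ({x} : Set G)).index).primeFactors.card ≤ σ)
    (hnil : ∀ p q : ℕ, p.Prime → q.Prime → p ∣ Nat.card G → q ∣ Nat.card G →
      Cfsg.HasNormalPComplement p G → Cfsg.HasNormalPComplement q G → p = q) :
    Nat.card {p : ℕ | p.Prime ∧ ∃ x : G, p ∣ (Subgroup.centralizer ({x} : Set G)).index} ≤ 2 * σ := by
  open Cfsg.Lib Cfsg.Lib.Hall in
  classical
  have := Fintype.ofFinite G
  set S := (Nat.card G).primeFactors.filter fun p => ∃ x : G, p ∣ cs x with hS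
  have e1 : {p : ℕ | p.Prime ∧ ∃ x : G, p ∣ cs x} = (S : Set ℕ) := by
    ext p
    simp only [hS, Set.mem_ofPred_eq, Finset.coe_filter, Nat.mem_primeFactors]
    exact ⟨fun ⟨h1, x, h2⟩ => ⟨⟨h1, h2.trans (cs_dvd_card x), Nat.card_pos.ne'⟩, x, h2⟩, fun h => ⟨h.1.1, h.2⟩⟩
  rw [e1, Nat.card_coe_set_eq, Set.ncard_coe_finset]
  have e2 : ∑ p ∈ S, {x : G | p ∣ cs x}.ncard ≤ Nat.card G * σ := by
    have : ∀ p, {x : G | p ∣ cs x}.ncard = ∑ x : G, if p ∣ cs x then 1 else 0 := fun p => by
      rw [← Finset.card_filter, ← Set.ncard_coe_finset]; simp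
    simp only [this]
    rw [Finset.sum_comm, Nat.card_eq_fintype_card, ← Finset.card_univ, ← smul_eq_mul]
    refine Finset.sum_le_card_nsmul _ _ _ fun x _ => le_trans ?_ (hσ x)
    rw [← Finset.card_filter]
    exact Finset.card_le_card fun p hp => Nat.mem_primeFactors.2
      ⟨(Nat.mem_primeFactors.1 (Finset.mem_filter.1 (Finset.mem_filter.1 hp).1).1).1, (Finset.mem_filter.1 hp).2,
        cs_ne_zero x⟩
  have hS' : ∀ p ∈ S, p.Prime ∧ p ∣ Nat.card G := fun p hp =>
    ⟨(Nat.mem_primeFactors.1 (Finset.mem_filter.1 hp).1).1, (Nat.mem_primeFactors.1 (Finset.mem_filter.1 hp).1).2.1⟩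
  have e3 : ∀ T ⊆ S, (∀ p ∈ T, ¬ HasNormalPComplement p G) →
      T.card * Nat.card G ≤ 2 * ∑ p ∈ T, {x : G | p ∣ cs x}.ncard := fun T h1 h2 => by
    rw [Finset.mul_sum, ← smul_eq_mul]
    exact Finset.card_nsmul_le_sum _ _ _ fun p hp => half (hS' p (h1 hp)).1 (h2 p hp)
  have hG : 0 < Nat.card G := Nat.card_pos
  by_cases h : ∃ r ∈ S, HasNormalPComplement r G
  · obtain ⟨r, hr, h⟩ := h
    have e4 := e3 (S.erase r) (Finset.erase_subset _ _) fun p hp h' =>
      (Finset.mem_erase.1 hp).1 (hnil p r (hS' p (Finset.mem_of_mem_erase hp)).1 (hS' r hr).1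
        (hS' p (Finset.mem_of_mem_erase hp)).2 (hS' r hr).2 h' h)
    rw [← Finset.add_sum_erase _ _ hr] at e2
    have e5 : 0 < {x : G | r ∣ cs x}.ncard := (Set.ncard_pos (Set.toFinite _)).2 (Finset.mem_filter.1 hr).2
    have e6 := Finset.card_erase_add_one hr
    have : (S.erase r).card * Nat.card G < 2 * σ * Nat.card G := by nlinarith
    have := Nat.lt_of_mul_lt_mul_right this
    omega
  · push Not at h
    have e4 := e3 S subset_rfl h
    exact Nat.le_of_mul_le_mul_right (by nlinarith) hG

end Cfsg.Agent.S4149
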