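import Cfsg.Statements.S4151
import Cfsg.Agent.Lib.Hall.TIHall
import Cfsg.Agent.S4118

set_option autoImplicit false
open Cfsg

namespace Cfsg.Agent.S4151

open scoped Pointwise commutatorElement
open Cfsg.Lib Cfsg.Lib.Hall

open Cfsg.Lib.Core Cfsg.Lib.Coprime Cfsg.Lib.Amalg Subgroup
open scoped Pointwise

theorem zg {G : Type*} [Group G] [Finite G] {H L : Subgroup G} [IsZGroup H] (hn : L ≤ 𝐍 H)
    (hc : (Nat.card L).Coprime (Nat.card H)) :
    (Nat.card (H ⊓ 𝐂 L : Subgroup G)).Coprime (Nat.card (⁅H, L⁆ : Subgroup G)) := by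
  have hK : ⁅H, L⁆ ≤ H := commutator_le_of_le_normalizer hn
  have h1 : ⁅H, L⁆ ≤ 𝐂 (⁅H, H⁆ : Subgroup G) :=
    PGrp.commutator_le_centralizer_of_isCyclic (isCyclic_commutator_of_isZGroup H)
      (le_normalizer_commutator le_normalizer le_normalizer) (le_normalizer_commutator hn hn)
  have h2 : IsCyclic (⁅H, L⁆ : Subgroup G) := by
    have : IsZGroup (⁅H, L⁆ : Subgroup G) := IsZGroup.of_injective (inclusion_injective hK)
    have : Group.IsNilpotent (⁅H, L⁆ : Subgroup G) := by
      rw [Subgroup.isNilpotent_iff_lowerCentralSeries]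
      refine ⟨2, ?_⟩
      rw [Subgroup.lowerCentralSeries_succ, Subgroup.lowerCentralSeries_succ,
        Subgroup.lowerCentralSeries_zero, commutator_eq_bot_iff_le_centralizer]
      exact (commutator_mono hK hK).trans (le_centralizer_iff.mp h1)
    infer_instance
  have h3 : (⁅H, L⁆ : Subgroup G) ⊓ 𝐂 L = ⊥ := by
    have := PGrp.isMulCommutative_of_isCyclic h2
    have h4 := centralizer_inf_commutator_eq_bot (A := L) (V := ⁅H, L⁆)
      (le_normalizer_commutator hn le_normalizer) (hc.coprime_dvd_right (card_dvd_of_le hK))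
    rwa [commutator_commutator_eq hn hc, inf_right_comm, inf_idem] at h4
  refine Nat.coprime_of_dvd fun p hp h4 h5 => ?_
  have := Fact.mk hp
  obtain ⟨P, hP1, hP2, hP3⟩ := exists_isPGroup_ne_bot_of_dvd h4
  obtain ⟨T, hT, hPT⟩ := exists_syl_ge hP2 (hP1.trans inf_le_left)
  have hT' := hT.inf_normal hK (normalizer_commutator_ge_left H L)
  have hTc : IsCyclic T := by
    have := (Core.isPGroup_subgroupOf hT.isPGroup H).isCyclic_of_isZGroup
    exact isCyclic_of_surjective _ (subgroupOfEquivOfLe hT.le).surjective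
  obtain ⟨a, ha⟩ := hP2.exists_card_eq
  obtain ⟨b, hb⟩ := hT'.isPGroup.exists_card_eq
  rcases le_total a b with h | h
  · have := PGrp.le_of_card_dvd_of_isCyclic hTc hPT inf_le_left (ha ▸ hb ▸ pow_dvd_pow p h)
    exact hP3 (eq_bot_iff.mpr (h3 ▸ le_inf (this.trans inf_le_right) (hP1.trans inf_le_right)))
  · have := PGrp.le_of_card_dvd_of_isCyclic hTc inf_le_left hPT (ha ▸ hb ▸ pow_dvd_pow p h)
    exact hT'.ne_bot h5 (eq_bot_iff.mpr (h3 ▸ le_inf inf_le_right (this.trans (hP1.trans inf_le_right))))

/-- Let G be a finite group and H a non-normal subgroup meeting each of its conjugates by elements outside N_G(H) trivially, with the order of H coprime to its index in N_G(H), such that G is π-separable for π the set of primes dividing the order of H (G has a chain of normal subgroups from 1 to G each of whose factors has order divisible only by primes dividing the order of H or coprime to it). Suppose a Sylow 2-subgroup of H is abelian and Q is a complement of H in N_G(H). Then C_H(Q), the subgroup of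 elements of H commuting with Q, has order coprime to its index in G and has a normal complement in G. -/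
theorem result {G : Type*} [Group G] [Finite G] (H : Subgroup G)
    (hTI : Cfsg.IsTISubset (H : Set G)) (hnn : ¬ H.Normal)
    (hHall : (Nat.card H).Coprime (H.subgroupOf (Subgroup.normalizer (H : Set G))).index)
    (hsep : ∃ (n : ℕ) (M : Fin (n + 1) → Subgroup G), M 0 = ⊥ ∧ M (Fin.last n) = ⊤ ∧ Monotone M ∧ (∀ i, (M i).Normal) ∧
      ∀ i : Fin n, (∀ q : ℕ, q.Prime → q ∣ (M i.castSucc).relIndex (M i.succ) → q ∣ Nat.card H) ∨
        ((M i.castSucc).relIndex (M i.succ)).Coprime (Nat.card H))
    (h2 : ∀ P : Sylow 2 H, IsMulCommutative (P : Subgroup H))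
    (Q : Subgroup G) (hQ : Q ≤ Subgroup.normalizer (H : Set G)) (hQH : Q ⊓ H = ⊥) (hQH' : Q ⊔ H = Subgroup.normalizer (H : Set G)) :
    (Nat.card ↥(H ⊓ Subgroup.centralizer (Q : Set G))).Coprime (H ⊓ Subgroup.centralizer (Q : Set G)).index ∧
    ∃ N : Subgroup G, N.Normal ∧ N.IsComplement' (H ⊓ Subgroup.centralizer (Q : Set G)) := by
  obtain ⟨h1, -, -⟩ := S4118.result H hTI hnn hHall hsep _ rfl
  set O := sSup {K : Subgroup G | K.Normal ∧ (Nat.card K).Coprime (Nat.card H)} with hO
  have hO' : O = piCore {p | ¬ p ∣ Nat.card H} G := by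
    rw [hO, piCore]
    congr 1
    ext K
    exact and_congr_right fun _ => coprime_iff_isPiNumber
  have hOn : O.Normal := hO' ▸ inferInstance
  have hOc : (Nat.card O).Coprime (Nat.card H) := coprime_iff_isPiNumber.mpr (hO' ▸ isPi_piCore _ _)
  have hfc : FC H := ti_fc (X := O) hTI le_normalizer_of_normal hOc.symm fun hle => hnn (by
    rw [← normalizer_eq_top_iff, eq_top_iff, ← h1]
    exact sup_le hle le_rfl)
  have hZ : IsZGroup H := hfc.isZGroup_of_two fun P hP => by
    obtain ⟨S, hS⟩ := hP.exists_le_sylow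
    exact PGrp.isCyclic_of_le' (hfc.isCyclic_of_comm (h2 S)) hS
  have hQc : (Nat.card Q).Coprime (Nat.card H) := by
    have e := Hall.card_mul_relIndex (le_normalizer (H := H))
    conv_rhs at e => rw [← hQH', card_sup_of_disjoint hQ hQH, mul_comm]
    rw [← Nat.eq_of_mul_eq_mul_left Nat.card_pos e]
    exact Nat.Coprime.symm hHall
  have hz := zg hQ hQc
  have hsup := commutator_sup_centralizer hQ hQc (Or.inr inferInstance)
  set C := H ⊓ 𝐂 Q with hC
  set K := (⁅H, Q⁆ : Subgroup G) with hK
  have hKn : 𝐍 H ≤ 𝐍 K := hQH' ▸ sup_le (normalizer_commutator_ge_right H Q)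
    (normalizer_commutator_ge_left H Q)
  have hKQ : 𝐍 H ≤ 𝐍 (K ⊔ Q) := by
    rw [← hQH', ← hsup]
    refine sup_le (le_sup_right.trans le_normalizer) (sup_le (le_sup_left.trans le_normalizer) ?_)
    exact le_normalizer_sup ((inf_le_left.trans le_normalizer).trans hKn)
      (inf_le_right.trans (centralizer_le_normalizer _))
  have hN : (O ⊔ (K ⊔ Q)).Normal := by
    rw [← normalizer_eq_top_iff, eq_top_iff, ← h1]
    exact sup_le (le_sup_left.trans le_normalizer) (le_normalizer_sup le_normalizer_of_normal hKQ)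
  have hcop : (Nat.card C).Coprime (Nat.card (O ⊔ (K ⊔ Q) : Subgroup G)) := by
    have hCH : Nat.card C ∣ Nat.card H := card_dvd_of_le inf_le_left
    refine Nat.Coprime.symm (coprime_iff_isPiNumber.mpr (isPi_sup' (coprime_iff_isPiNumber.mp
      (hOc.coprime_dvd_right hCH)) (isPi_sup' (coprime_iff_isPiNumber.mp hz.symm)
        (coprime_iff_isPiNumber.mp (hQc.coprime_dvd_right hCH)) (hQ.trans hKn))
          le_normalizer_of_normal))
  have hc : (O ⊔ (K ⊔ Q)).IsComplement' C := by
    refine isComplement'_of_normal (disjoint_of_coprime_natCard hcop.symm).eq_bot ?_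
    rw [sup_assoc, sup_right_comm, hsup, sup_comm H, hQH', h1]
  exact ⟨hc.index_eq_card ▸ hcop, _, hN, hc⟩

end Cfsg.Agent.S4151
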