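import Cfsg.Statements.S4154


set_option autoImplicit false
open Cfsg

namespace Cfsg.Agent.S4154

theorem aux {Q : Type*} [Group Q] [Finite Q] (β : Q →* Q)
    (h : ∀ x, ∃ c g, β c = c ∧ x = c * (g⁻¹ * β g)) (g : Q) (hg : β (g⁻¹ * β g) = g⁻¹ * β g) :
    g⁻¹ * β g = 1 := by
  let C := β.eqLocus (MonoidHom.id Q)
  let f : (Q ⧸ C) × C → Q := fun z => z.2 * (z.1.out * (β z.1.out)⁻¹)
  have e : ∀ (x : Q) (c : C), f (x, c) = c * (x * (β x)⁻¹) := fun x c => by
    obtain ⟨d, hd⟩ := QuotientGroup.mk_out_eq_mul C x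
    have : β d = d := d.2
    simp [f, hd, this, mul_assoc]
  have := ((Nat.bijective_iff_surjective_and_card f).2 ⟨fun x => by
    obtain ⟨c, g, h1, rfl⟩ := h x
    exact ⟨((g⁻¹ : Q), ⟨c, h1⟩), by simp [e]⟩, by
      rw [Nat.card_prod, ← C.card_eq_card_quotient_mul_card_subgroup]⟩).1
    (a₁ := ((1 : Q), ⟨_, hg⟩)) (a₂ := ((g⁻¹ : Q), 1)) (by simp [e])
  exact congrArg (fun z => (z.2 : Q)) this

/-- Let G be a finite group and α an automorphism of G such that every element of G is the product of an element fixed by α and an element of the form g⁻¹α(g). If N is a normal α-invariant subgroup, then the automorphism ᾱ induced on G/N has the same property, and every coset fixed by ᾱ contains an element fixed by α (so the fixed points of ᾱ are the images of the fixed points of α). -/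
theorem result {G : Type*} [Group G] [Finite G] (α : MulAut G)
    (hccp : ∀ x : G, ∃ c g : G, α c = c ∧ x = c * (g⁻¹ * α g))
    (N : Subgroup G) [N.Normal] (hN : ∀ n ∈ N, α n ∈ N) :
    (∀ x : G, ∃ c g : G, c⁻¹ * α c ∈ N ∧ x⁻¹ * (c * (g⁻¹ * α g)) ∈ N) ∧
    (∀ x : G, x⁻¹ * α x ∈ N → ∃ c : G, α c = c ∧ c⁻¹ * x ∈ N) := by
  refine ⟨fun x => ?_, fun x hx => ?_⟩
  · obtain ⟨c, g, h1, h2⟩ := hccp x
    exact ⟨c, g, by simp [h1], by simp [← h2]⟩
  obtain ⟨c, g, h1, rfl⟩ := hccp x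
  let β := QuotientGroup.map N N α.toMonoidHom hN
  have e : ∀ y : G, β y = (α y : G) := fun _ => rfl
  refine ⟨c, h1, ?_⟩
  rw [inv_mul_cancel_left, ← QuotientGroup.eq_one_iff]
  refine aux β (fun y => ?_) g ?_
  · obtain ⟨y, rfl⟩ := QuotientGroup.mk_surjective y
    obtain ⟨c, g, h1, rfl⟩ := hccp y
    exact ⟨c, g, by rw [e, h1], rfl⟩
  · rw [← QuotientGroup.eq, map_mul, h1, QuotientGroup.mk_mul N c, QuotientGroup.mk_mul N c,
      mul_left_cancel_iff] at hx
    exact hx.symm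

end Cfsg.Agent.S4154
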