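import Cfsg.Statements.S4155
import Cfsg.Agent.Lib.Hall.Camina
import Cfsg.Agent.S4107

set_option autoImplicit false
open Cfsg

namespace Cfsg.Agent.S4155

open scoped Pointwise commutatorElement
open Cfsg.Lib Cfsg.Lib.Hall

open Subgroup Cfsg.Lib.Core Cfsg.Lib.Transfer

/-- Let G be a finite group and N a proper non-trivial normal nilpotent subgroup whose order is not a prime power, such that for every x outside N all elements of the coset xN have the same order as x. Then N is the Fitting subgroup of G, and for every prime q every Sylow q-subgroup of G/N is cyclic or generalized quaternion. -/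
theorem result {G : Type*} [Group G] [Finite G] (N : Subgroup G) [N.Normal] (hN1 : N ≠ ⊥) (hN2 : N ≠ ⊤)
    (heq : ∀ x : G, x ∉ N → ∀ n ∈ N, orderOf (x * n) = orderOf x)
    (hnil : Group.IsNilpotent N) (hnpp : ¬ IsPrimePow (Nat.card N)) :
    N = Cfsg.fittingSubgroup G ∧
    ∀ (q : ℕ) [Fact q.Prime] (Q : Sylow q (G ⧸ N)), IsCyclic (Q : Subgroup (G ⧸ N)) ∨ ∃ n : ℕ, Nonempty ((Q : Subgroup (G ⧸ N)) ≃* QuaternionGroup (2 ^ n)) := by
  have hle : N ≤ fittingSubgroup G := le_fitting hnil
  refine ⟨?_, fun q hq Q => ?_⟩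
  · by_contra hne
    obtain ⟨p, k, hp, hk, e⟩ := (isPrimePow_nat_iff _).mp
      ((S4107.result N hN1 hN2 heq).2 (lt_of_le_of_ne hle hne))
    obtain ⟨j, -, hj⟩ := (Nat.dvd_prime_pow hp).mp (e ▸ card_dvd_of_le hle)
    refine hnpp (hj ▸ hp.isPrimePow.pow fun e => hN1 ?_)
    rwa [e, pow_zero, card_eq_one] at hj
  have h1 : ∃ r : ℕ, r.Prime ∧ r ∣ Nat.card N ∧ r ≠ q := by
    by_contra hc
    push Not at hc
    obtain ⟨r, hr, hrd⟩ := Nat.exists_prime_and_dvd (n := Nat.card N) (by rwa [Ne, card_eq_one])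
    exact hnpp (isPrimePow_of_unique Nat.card_pos.ne' hr hrd fun s hs hsd => by
      rw [hc s hs hsd, hc r hr hrd])
  obtain ⟨r, hr, hrd, hrq⟩ := h1
  haveI := Fact.mk hr
  obtain ⟨V, hV⟩ := exists_sylowIn (p := r) N
  have hn : (⊤ : Subgroup G) ≤ normalizer (V : Set G) := by
    have := hV.frattini_sup (H := ⊤) le_top (le_normalizer_of_normal' _ _)
    rw [top_inf_eq, sup_eq_right.mpr (le_normalizer_of_sylowIn_of_nilpotent hV)] at this
    exact this.ge
  obtain ⟨P⟩ := (inferInstance : Nonempty (Sylow q G))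
  have hS := (sylowIn_top P).map (QuotientGroup.mk' N)
  rw [map_top_of_surjective _ (QuotientGroup.mk'_surjective N)] at hS
  haveI := hV.isPGroup.isNilpotent
  have h2 := isCyclic_of_sylowIn_top hS fun A hA _ => isCyclic_of_semiregular_mod (le_top.trans hn)
    (fun e => hV.not_dvd (by rwa [e, relIndex_bot_left]))
    (le_centralizer_of_coprime_of_le_nilpotent inf_le_right hV.le
      (IsPGroup.coprime_card_of_ne q r hrq.symm _ _ (P.isPGroup'.to_le inf_le_left) hV.isPGroup))
    (fun g hg hgN => EqOrd.inf_eq_bot heq hgN hV.le (coprime_orderOf_card_of_ne hq.out hr hrq.symm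
      (isPGroup_zpowers_of_mem P.isPGroup' hg) hV.isPGroup)) hA
  refine (cyclic_or_quaternion_of_abelian Q.isPGroup' fun A hA => ?_).imp_right And.right
  exact PGrp.isCyclic_of_isCyclic_map (subtype_injective _)
    (h2 _ (Q.isPGroup'.to_le (map_subtype_le A)) inferInstance)

end Cfsg.Agent.S4155
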