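import Cfsg.Statements.S4156
import Mathlib.GroupTheory.SpecificGroups.Alternating.Simple
import Mathlib.LinearAlgebra.Matrix.ToLin

set_option autoImplicit false
open Cfsg

namespace Cfsg.Agent.S4156

section
variable {n : ℕ} (F : Type*) [Field F]

def rl (σ : Equiv.Perm (Fin (n + 1))) : Module.End F (Fin n → F) where
  toFun v i := (Fin.cons 0 v : Fin (n + 1) → F) (σ⁻¹ i.succ) - (Fin.cons 0 v : Fin (n + 1) → F) (σ⁻¹ 0)
  map_add' v w := by
    have : (Fin.cons 0 (v + w) : Fin (n + 1) → F) = Fin.cons 0 v + Fin.cons 0 w := by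
      ext k; refine Fin.cases ?_ (fun k => ?_) k <;> simp
    ext i; simp only [this, Pi.add_apply]; ring
  map_smul' c v := by
    have : (Fin.cons 0 (c • v) : Fin (n + 1) → F) = c • Fin.cons 0 v := by
      ext k; refine Fin.cases ?_ (fun k => ?_) k <;> simp
    ext i; simp only [this, Pi.smul_apply, smul_eq_mul, RingHom.id_apply]; ring

theorem cons_rl (σ : Equiv.Perm (Fin (n + 1))) (v : Fin n → F) (k : Fin (n + 1)) :
    (Fin.cons 0 (rl F σ v) : Fin (n + 1) → F) k =
      (Fin.cons 0 v : Fin (n + 1) → F) (σ⁻¹ k) - (Fin.cons 0 v : Fin (n + 1) → F) (σ⁻¹ 0) := by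
  refine Fin.cases ?_ (fun k => ?_) k
  · simp
  · rfl

def rho : Equiv.Perm (Fin (n + 1)) →* Module.End F (Fin n → F) where
  toFun := rl F
  map_one' := by ext v i; simp [rl]
  map_mul' σ τ := by
    refine LinearMap.ext fun v => funext fun i => ?_
    change _ = (Fin.cons 0 (rl F τ v) : Fin (n + 1) → F) (σ⁻¹ i.succ) -
      (Fin.cons 0 (rl F τ v) : Fin (n + 1) → F) (σ⁻¹ 0)
    rw [cons_rl, cons_rl, sub_sub_sub_cancel_right]
    rfl

end

theorem triv_of_comm {A B : Type*} [Group A] [IsSimpleGroup A] (hA : ¬ IsMulCommutative A) [Group B]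
    (f : A →* B) (h : ∀ x y, f x * f y = f y * f x) (x : A) : f x = 1 := by
  rcases (inferInstance : f.ker.Normal).eq_bot_or_eq_top with h1 | h1
  · exact absurd ⟨⟨fun a b => (MonoidHom.ker_eq_bot_iff f).1 h1 (by rw [map_mul, map_mul, h])⟩⟩ hA
  · exact (h1 ▸ Subgroup.mem_top x : x ∈ f.ker)


/-- Let n ≥ 5 and F a finite field. Then the projective special linear group PSL_n(F) contains a subgroup isomorphic to the alternating group of degree n + 1. -/
theorem result (n : ℕ) (hn : 5 ≤ n) (F : Type*) [Field F] [Finite F] :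
    ∃ f : alternatingGroup (Fin (n + 1)) →* Matrix.ProjectiveSpecialLinearGroup (Fin n) F, Function.Injective f := by
  classical
  haveI := alternatingGroup.isSimpleGroup (α := Fin (n + 1)) (by simp; omega)
  have hA : ¬ IsMulCommutative (alternatingGroup (Fin (n + 1))) := fun h =>
    absurd (alternatingGroup.isMulCommutative_iff_card_le_three.1 h) (by simp; omega)
  let ρ : alternatingGroup (Fin (n + 1)) →* Matrix (Fin n) (Fin n) F :=
    ((LinearMap.toMatrixAlgEquiv' : Module.End F (Fin n → F) ≃ₐ[F] _) : Module.End F (Fin n → F) →* _).comp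
      ((rho F).comp (alternatingGroup _).subtype)
  have hdet : ∀ x, (ρ x).det = 1 := fun x => congrArg Units.val
    (triv_of_comm hA (Matrix.detMonoidHom.comp ρ).toHomUnits (fun _ _ => mul_comm _ _) x)
  let f₀ : alternatingGroup (Fin (n + 1)) →* Matrix.SpecialLinearGroup (Fin n) F :=
    { toFun := fun x => ⟨ρ x, hdet x⟩
      map_one' := Subtype.ext (map_one ρ)
      map_mul' := fun x y => Subtype.ext (map_mul ρ x y) }
  refine ⟨(QuotientGroup.mk' _).comp f₀, ?_⟩
  rw [← MonoidHom.ker_eq_bot_iff]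
  refine (inferInstance : ((QuotientGroup.mk' _).comp f₀).ker.Normal).eq_bot_or_eq_top.resolve_right
    fun h => ?_
  have h1 := triv_of_comm hA f₀ fun x y => by
    have : y ∈ ((QuotientGroup.mk' (Subgroup.center _)).comp f₀).ker := h ▸ Subgroup.mem_top y
    exact Subgroup.mem_center_iff.1 ((QuotientGroup.eq_one_iff _).1 this) _
  obtain ⟨m, rfl⟩ : ∃ m, n = m + 5 := ⟨n - 5, by omega⟩
  let a : Fin (m + 5) := ⟨0, by omega⟩
  let b : Fin (m + 5) := ⟨1, by omega⟩
  let c : Fin (m + 5) := ⟨2, by omega⟩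
  have hab : a.succ ≠ b.succ := fun e => by simpa [a, b] using congrArg Fin.val (Fin.succ_injective _ e)
  have hac : a.succ ≠ c.succ := fun e => by simpa [a, c] using congrArg Fin.val (Fin.succ_injective _ e)
  have hbc : b.succ ≠ c.succ := fun e => by simpa [b, c] using congrArg Fin.val (Fin.succ_injective _ e)
  have h2 := congrArg Subtype.val (h1 ⟨(Equiv.swap a.succ b.succ * Equiv.swap a.succ c.succ)⁻¹, by
    simp [Equiv.Perm.mem_alternatingGroup, hab, hac]⟩)
  have h3 : rl F (Equiv.swap a.succ b.succ * Equiv.swap a.succ c.succ)⁻¹ = 1 :=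
    (LinearMap.toMatrixAlgEquiv' : Module.End F (Fin (m + 5) → F) ≃ₐ[F] _).injective
      (h2.trans (map_one _).symm)
  have h4 := congrFun (LinearMap.congr_fun h3 (Pi.single a 1)) a
  simp only [rl, LinearMap.coe_mk, AddHom.coe_mk, inv_inv, Equiv.Perm.mul_apply, Equiv.swap_apply_left,
    Equiv.swap_apply_of_ne_of_ne hac.symm hbc.symm,
    Equiv.swap_apply_of_ne_of_ne (Fin.succ_ne_zero a).symm (Fin.succ_ne_zero c).symm,
    Equiv.swap_apply_of_ne_of_ne (Fin.succ_ne_zero a).symm (Fin.succ_ne_zero b).symm,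
    Fin.cons_succ, Fin.cons_zero, Module.End.one_apply, Pi.single_eq_same] at h4
  rw [Pi.single_eq_of_ne fun e => hac (congrArg Fin.succ e).symm] at h4
  simp at h4

end Cfsg.Agent.S4156
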