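import Cfsg.Statements.S4159
import Cfsg.Agent.Lib.Hall.MaxCent
import Cfsg.Agent.Lib.BG1.PLength
import Cfsg.Agent.Lib.BS.Ben4

set_option autoImplicit false
open Cfsg

open Subgroup Cfsg.Lib
open scoped commutatorElement
namespace Cfsg.Agent.S4159

/-- Let G be a finite group such that in every subgroup H of G, any two conjugacy classes of H of size greater than 1 have non-coprime sizes. Then G is solvable. -/
theorem result {G : Type*} [Group G] [Finite G]
    (h : ∀ (H : Subgroup G) (x y : H), 1 < (Subgroup.centralizer ({x} : Set H)).index → 1 < (Subgroup.centralizer ({y} : Set H)).index →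
      ¬ ((Subgroup.centralizer ({x} : Set H)).index).Coprime (Subgroup.centralizer ({y} : Set H)).index) : Group.IsSolvable G := by
  refine Hall.isSolvable_of_no_real fun x hx ho hr => ?_
  obtain ⟨t, ht, e⟩ := Hall.exists_two_inverts hr
  have hn := zpowers_le.2 (Hall.mem_normalizer_zpowers_of_inverts e)
  have hx' : x ∈ zpowers x ⊔ zpowers t := mem_sup_left (mem_zpowers x)
  have ht' : t ∈ zpowers x ⊔ zpowers t := mem_sup_right (mem_zpowers t)
  have nc : t * x ≠ x * t := fun c => hx (Hall.eq_one_of_odd_of_sq_eq_one ho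
    (Hall.sq_eq_one_of_inverts_of_mem_cent e (Hall.mem_cent_iff.2 c)))
  refine h _ ⟨x, hx'⟩ ⟨t, ht'⟩ (Hall.one_lt_cs fun c => nc (congrArg Subtype.val (mem_center_iff.1 c ⟨t, ht'⟩)))
    (Hall.one_lt_cs fun c => nc (congrArg Subtype.val (mem_center_iff.1 c ⟨x, hx'⟩)).symm) ?_
  rw [Hall.cs_coe_eq_relIndex, Hall.cs_coe_eq_relIndex]
  obtain ⟨k, hk⟩ := IsPGroup.iff_card.1 ht
  refine Nat.Coprime.of_dvd ((relIndex_dvd_of_le_left _ (zpowers_le.2 (Hall.self_mem_cent x))).trans
    (BG1.relIndex_dvd_card_of_sup hn)) ((relIndex_dvd_of_le_left _ (zpowers_le.2 (Hall.self_mem_cent t))).trans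
    ((BS.relIndex_sup_eq hn).dvd.trans (relIndex_dvd_card _ _))) ?_
  rw [hk, Nat.card_zpowers]
  exact (Nat.coprime_two_left.2 ho).pow_left _

end Cfsg.Agent.S4159
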