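import Cfsg.Statements.S4168
import Cfsg.Agent.Lib.Transfer.Apps

set_option autoImplicit false
open Cfsg

namespace Cfsg.Agent.S4168

open Cfsg.Lib.Transfer Subgroup

/-- Let L be a finite quasisimple group (perfect with L/Z(L) simple). Then every prime dividing the order of the centre Z(L) also divides the order of L/Z(L). -/
theorem result {L : Type*} [Group L] [Finite L] (hL : Cfsg.IsQuasisimple L)
    (p : ℕ) (hp : p.Prime) (hdiv : p ∣ Nat.card (Subgroup.center L)) : p ∣ (Subgroup.center L).index := by
  by_contra h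
  have := Fact.mk hp
  obtain ⟨T, hT⟩ := exists_sylowIn p (center L)
  have h1 : SylowIn p T ⊤ := sylowIn_iff.2 ⟨le_top, hT.2, by
    rw [relIndex_top_right, ← relIndex_mul_index hT.1, hp.dvd_mul]
    exact not_or.2 ⟨hT.3, h⟩⟩
  have h2 := inf_commutator_inf_center_le T (coprime_relIndex_commutator
    (by simpa using h1.coprime))
  rw [hL.1.commutator_eq_top, inf_top_eq, inf_eq_left.2 hT.1, commutator_eq_bot_iff_le_centralizer.2
    (hT.1.trans (center_le_centralizer _)), le_bot_iff] at h2
  exact hT.eq_bot_iff.1 h2 hdiv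

end Cfsg.Agent.S4168
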