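import Cfsg.Statements.S4169
import Cfsg.Agent.Lib.Coprime.Mann

set_option autoImplicit false
open Cfsg

namespace Cfsg.Agent.S4169

/-- Let P be a finite p-group whose conjugacy classes have exactly two sizes (1 and one other value). Then P has nilpotency class at most 3. -/
theorem result {P : Type*} [Group P] [Finite P] {p : ℕ} [Fact p.Prime] (hP : IsPGroup p P)
    (m : ℕ) (hm : 1 < m) (h : ∀ x : P, (Subgroup.centralizer ({x} : Set P)).index = 1 ∨ (Subgroup.centralizer ({x} : Set P)).index = m) :
    upperCentralSeries P 3 = ⊤ := by
  open Subgroup Cfsg.Lib in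
  obtain ⟨A, hAn, hA, -, hC⟩ := PGrp.exists_normal_self_centralizing hP ⊥ inferInstance
  have := Coprime.mann_class_three A hA hC m (fun x hx => by rcases h x with h | h <;> omega) ⊤
    (by rw [show {x : P | (centralizer ({x} : Set P)).index = 1 ∨ (centralizer ({x} : Set P)).index = m} = Set.univ from Set.eq_univ_of_forall h, Subgroup.closure_univ])
  have h2 := Subgroup.comap_upperCentralSeries (Subgroup.topEquiv (G := P)).symm 3
  rw [this, Subgroup.comap_top] at h2
  exact h2.symm

end Cfsg.Agent.S4169
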