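import Cfsg.Statements.S4170
import Mathlib

set_option autoImplicit false
open scoped Pointwise
open Cfsg

namespace Cfsg.Agent.S4170

/-- Let p be an odd prime and G a nontrivial group of permutations of a finite set Ω that is generated by its elements of p-power order. Then Ω has two disjoint nonempty subsets Δ₁ and Δ₂ such that the index in G of the subgroup of elements mapping Δ₁ onto Δ₁ and Δ₂ onto Δ₂ (and hence also the complement of their union onto itself) is divisible by p. -/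
theorem result {Ω : Type*} [Fintype Ω] (p : ℕ) [Fact p.Prime] (hp : p ≠ 2) (G : Subgroup (Equiv.Perm Ω)) (hG : G ≠ ⊥) (hgen : Subgroup.closure {g : G | ∃ k : ℕ, orderOf g = p ^ k} = ⊤) :
    ∃ Δ₁ Δ₂ : Set Ω, Δ₁.Nonempty ∧ Δ₂.Nonempty ∧ Disjoint Δ₁ Δ₂ ∧ p ∣ (MulAction.stabilizer G Δ₁ ⊓ MulAction.stabilizer G Δ₂).index := by
  classical
  -- a nontrivial p-element
  obtain ⟨g, ⟨k, hk⟩, hg1⟩ : ∃ g : G, (∃ k : ℕ, orderOf g = p ^ k) ∧ g ≠ 1 := by
    by_contra hcon
    push Not at hcon
    apply hG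
    have h1 : Subgroup.closure {g : G | ∃ k : ℕ, orderOf g = p ^ k} ≤ ⊥ := by
      rw [Subgroup.closure_le]
      intro x hx
      simpa using hcon x hx
    rw [hgen] at h1
    rw [eq_bot_iff]
    intro x hx
    have := h1 (Subgroup.mem_top (⟨x, hx⟩ : G))
    rw [Subgroup.mem_bot] at this ⊢
    exact congrArg Subtype.val this
  obtain ⟨β, hβ⟩ : ∃ β : Ω, g • β ≠ β := by
    by_contra hcon
    push Not at hcon
    apply hg1
    apply Subtype.ext
    ext x
    exact hcon x
  obtain ⟨P, hP⟩ : ∃ P : Subgroup G, P = Subgroup.zpowers g := ⟨_, rfl⟩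
  have hgP : g ∈ P := hP ▸ Subgroup.mem_zpowers g
  have hPp : IsPGroup p P := by
    apply IsPGroup.of_card (n := k)
    rw [hP, Nat.card_zpowers, hk]
  obtain ⟨O, hO⟩ : ∃ O : Set Ω, O = MulAction.orbit P β := ⟨_, rfl⟩
  have hβO : β ∈ O := hO ▸ MulAction.mem_orbit_self β
  have hgβO : g • β ∈ O := hO ▸ ⟨⟨g, hgP⟩, rfl⟩
  refine ⟨O \ {β}, {β}, ⟨g • β, hgβO, hβ⟩, ⟨β, rfl⟩, Set.disjoint_sdiff_left, ?_⟩
  obtain ⟨S, hS⟩ : ∃ S : Subgroup G, S = MulAction.stabilizer G O := ⟨_, rfl⟩
  have hPS : P ≤ S := by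
    intro x hx
    rw [hS, MulAction.mem_stabilizer_iff, hO]
    exact MulAction.smul_orbit (⟨x, hx⟩ : P) β
  have hH : MulAction.stabilizer G (O \ {β}) ⊓ MulAction.stabilizer G ({β} : Set Ω)
      = S ⊓ MulAction.stabilizer G β := by
    ext x
    simp only [hS, Subgroup.mem_inf, MulAction.mem_stabilizer_iff, Set.smul_set_singleton,
      Set.singleton_eq_singleton_iff]
    constructor
    · rintro ⟨h1, h2⟩
      refine ⟨?_, h2⟩
      have e : O = insert β (O \ {β}) := by
        rw [Set.insert_sdiff_singleton, Set.insert_eq_of_mem hβO]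
      rw [e, Set.smul_set_insert, h1, h2]
    · rintro ⟨h1, h2⟩
      refine ⟨?_, h2⟩
      rw [Set.smul_set_sdiff, h1, Set.smul_set_singleton, h2]
  rw [hH]
  have horb : MulAction.orbit S β = O := by
    apply Set.Subset.antisymm
    · rintro _ ⟨s, rfl⟩
      have hs : (s : G) • O = O := by
        have h3 : (s : G) ∈ MulAction.stabilizer G O := hS ▸ s.2
        exact h3
      rw [← hs]
      exact Set.smul_mem_smul_set hβO
    · rw [hO]
      rintro _ ⟨s, rfl⟩
      exact ⟨⟨s, hPS s.2⟩, rfl⟩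
  have hcard : p ∣ Nat.card O := by
    obtain ⟨j, hj⟩ := hPp.card_orbit β
    rw [← hO] at hj
    rcases j with _ | j
    · exfalso
      rw [pow_zero, Nat.card_eq_one_iff_unique] at hj
      have := hj.1.elim ⟨_, hgβO⟩ ⟨_, hβO⟩
      exact hβ (congrArg Subtype.val this)
    · rw [hj]; exact dvd_pow_self p (Nat.succ_ne_zero j)
  have h2 : (S ⊓ MulAction.stabilizer G β).relIndex S = Nat.card O := by
    rw [← horb, Subgroup.relIndex, Subgroup.inf_subgroupOf_left]
    have : (MulAction.stabilizer G β).subgroupOf S = MulAction.stabilizer S β := by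
      ext x; simp [Subgroup.mem_subgroupOf, MulAction.mem_stabilizer_iff, Subgroup.smul_def]
    rw [this, MulAction.index_stabilizer]
    rfl
  exact hcard.trans (h2 ▸ Subgroup.relIndex_dvd_index_of_le inf_le_left)

end Cfsg.Agent.S4170
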