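import Cfsg.Statements.S4172
import Cfsg.Agent.Lib.Layer.FStar
import Cfsg.Agent.Lib.Transfer.Tate
import Cfsg.Agent.Lib.Coprime.CycSyl
import Cfsg.Agent.Lib.PGrp.Rank2
import Cfsg.Agent.Lib.Core.Frattini
import Cfsg.Agent.Lib.Core.Subnormal

set_option autoImplicit false
open Cfsg

namespace Cfsg.Agent.S4172

open Subgroup Cfsg.Lib Cfsg.Lib.Transfer Cfsg.Lib.Layer
open scoped commutatorElement

variable {G : Type*} [Group G] [Finite G] {p : ℕ} [hp : Fact p.Prime]

theorem exists_cyc {T N : Subgroup G} (hT : IsPGroup p T) (hgen : (frattini T).index = p ^ 2)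
    (h : ¬ N ⊓ T ≤ (frattini T).map T.subtype) : ∃ x ∈ T, T ≤ (N ⊓ T) ⊔ zpowers x := by
  have h1 : frattini T < N.subgroupOf T ⊔ frattini T := lt_of_le_of_ne le_sup_right fun e =>
    h fun x hx => ⟨⟨x, hx.2⟩, e ▸ mem_sup_left hx.1, rfl⟩
  have h2 := PGrp.mul_card_le_of_lt (hT.to_subgroup _) h1
  have h3 := (frattini T).card_mul_index
  have h4 := (N.subgroupOf T ⊔ frattini T).card_mul_index
  obtain ⟨b, hb⟩ := PGrp.exists_sup_zpowers_eq_top_of_index_le hT (M := N.subgroupOf T ⊔ frattini T) (by
    rw [hgen, ← h4] at h3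
    refine Nat.le_of_mul_le_mul_left (c := p * Nat.card (frattini T)) ?_
      (Nat.mul_pos hp.out.pos Nat.card_pos)
    calc _ ≤ _ := Nat.mul_le_mul_right _ h2
      _ = _ := by rw [← h3]; ring)
  have h5 : N.subgroupOf T ⊔ zpowers b = ⊤ := frattini_nongenerating (by rw [sup_right_comm, hb])
  refine ⟨b, b.2, ?_⟩
  have := congrArg (Subgroup.map T.subtype) h5
  rw [Subgroup.map_sup, subgroupOf_map_subtype, MonoidHom.map_zpowers, ← MonoidHom.range_eq_map,
    range_subtype] at this
  exact this.ge

omit [Finite G] in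
theorem comm_le {T N : Subgroup G} (hn : T ≤ normalizer (N : Set G)) {x : G} (hx : x ∈ T)
    (h : T ≤ (N ⊓ T) ⊔ zpowers x) : ⁅T, T⁆ ≤ N := by
  have key : ∀ t ∈ T, ∃ a ∈ N, ∃ k : ℤ, t = a * x ^ k := fun t ht =>
    (PGrp.mem_sup_zpowers_of_mem_normalizer (hn hx)).1 ((h.trans (sup_le_sup_right inf_le_left _)) ht)
  refine commutator_le.2 fun s hs t ht => ?_
  obtain ⟨a, ha, i, rfl⟩ := key s hs
  obtain ⟨b, hb, j, rfl⟩ := key t ht
  have : ⁅a * x ^ i, b * x ^ j⁆ = a * (x ^ i * b * (x ^ i)⁻¹) * (x ^ j * a⁻¹ * (x ^ j)⁻¹) * b⁻¹ := by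
    rw [commutatorElement_def]; group
  rw [this]
  exact N.mul_mem (N.mul_mem (N.mul_mem ha (conj_mem_of_mem_normalizer (hn (T.zpow_mem hx i)) hb))
    (conj_mem_of_mem_normalizer (hn (T.zpow_mem hx j)) (N.inv_mem ha))) (N.inv_mem hb)

theorem tate' {T N : Subgroup G} (hT : SylowIn p T ⊤) (hn : T ≤ normalizer (N : Set G))
    (h : N ⊓ T ≤ (frattini T).map T.subtype) : PNil p N := by
  have hT' : SylowIn p T (N ⊔ T) := hT.mono le_sup_right le_top
  haveI : (N.subgroupOf (N ⊔ T)).Normal :=
    normal_subgroupOf_of_le_normalizer (sup_le le_normalizer hn)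
  have := tate hT'.toSylow (N.subgroupOf (N ⊔ T)) (by
    rw [← map_le_map_iff_of_injective (N ⊔ T).subtype_injective,
      Core.map_frattiniOf_of_injective (N ⊔ T).subtype_injective, hT'.map_toSylow]
    refine le_trans ?_ h
    rw [hT'.coe_toSylow]
    rintro _ ⟨x, hx, rfl⟩
    exact hx)
  rwa [← pnil_map_iff_of_injective (N ⊔ T).subtype_injective, map_subgroupOf_eq_of_le le_sup_left]
    at this


/-- Let p be a prime and G a finite group with a non-commutative Sylow p-subgroup P whose Frattini subgroup has index p² in P (P is generated by two elements). Suppose G has no nontrivial normal subgroup of order prime to p and the Frattini subgroup of P contains no nontrivial normal subgroup of G. Then the generalized Fitting subgroup F*(G) is the unique minimal normal subgroup of G, the image of P in G/F*(G) is cyclic, and if F*(G) is not commutative then P permutes the components of G transitively by conjugation. -/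
theorem result {G : Type*} [Group G] [Finite G] (p : ℕ) [Fact p.Prime] (P : Sylow p G) (hna : ¬ IsMulCommutative (P : Subgroup G)) (hgen : (frattini ↥(P : Subgroup G)).index = p ^ 2) (hcore : Cfsg.pPrimeCore p G = ⊥) (hfrat : ((frattini ↥(P : Subgroup G)).map (P : Subgroup G).subtype).normalCore = ⊥) [hFn : (Cfsg.generalizedFittingSubgroup G).Normal] :
    (Cfsg.generalizedFittingSubgroup G ≠ ⊥ ∧ ∀ K : Subgroup G, K.Normal → K ≠ ⊥ → Cfsg.generalizedFittingSubgroup G ≤ K) ∧
      IsCyclic ↥((P : Subgroup G).map (QuotientGroup.mk' (Cfsg.generalizedFittingSubgroup G))) ∧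
      (¬ IsMulCommutative (Cfsg.generalizedFittingSubgroup G) → ∀ K L : Subgroup G, Cfsg.IsComponent K → Cfsg.IsComponent L → ∃ x ∈ (P : Subgroup G), L = K.map (MulAut.conj x).toMonoidHom) := by
  have hT := sylowIn_top P
  set T := (P : Subgroup G) with hTd
  have hT' : ⁅T, T⁆ ≠ ⊥ := fun e => hna (PGrp.isMulCommutative_iff_forall.2 fun x hx y hy =>
    mul_comm_of_commutator_eq_bot e hx hy)
  have hnl : ∀ K : Subgroup G, K.Normal → K ≠ ⊥ → ¬ K ⊓ T ≤ (frattini T).map T.subtype := by
    intro K hK hKb h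
    have h1 := tate P K h
    haveI := resOf_normal (p := p) K
    have h2 : resOf p K = ⊥ := le_bot_iff.1 (hcore ▸ Core.le_pPrimeCore h1.coprime)
    have h3 := (sylowIn_inf_normal P K).resOf_sup
    rw [h2, bot_sup_eq, inf_comm] at h3
    exact hKb (le_bot_iff.1 (hfrat ▸ normal_le_normalCore.2 (h3 ▸ h)))
  have hcyc : ∀ K : Subgroup G, K.Normal → K ≠ ⊥ → ∃ x ∈ T, T ≤ (K ⊓ T) ⊔ zpowers x :=
    fun K hK hKb => exists_cyc hT.2 hgen (hnl K hK hKb)
  have hcm : ∀ K : Subgroup G, K.Normal → K ≠ ⊥ → ⁅T, T⁆ ≤ K := fun K hK hKb => by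
    obtain ⟨x, hx, h⟩ := hcyc K hK hKb
    exact comm_le (by rw [normalizer_eq_top]; exact le_top) hx h
  have hmapc : ∀ (K : Subgroup G) [K.Normal], K ≠ ⊥ → IsCyclic (T.map (QuotientGroup.mk' K)) := by
    intro K hK hKb
    obtain ⟨x, hx, h⟩ := hcyc K hK hKb
    have : T.map (QuotientGroup.mk' K) ≤ zpowers (QuotientGroup.mk' K x) := by
      refine (map_mono h).trans ?_
      rw [Subgroup.map_sup, MonoidHom.map_zpowers, (Subgroup.map_eq_bot_iff _).2
        (by rw [QuotientGroup.ker_mk']; exact inf_le_left), bot_sup_eq]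
    exact isCyclic_of_le this
  haveI : Nontrivial G := by
    by_contra h
    rw [not_nontrivial_iff_subsingleton] at h
    exact hT' (Subsingleton.elim _ _)
  set N := normalClosure ((⁅T, T⁆ : Subgroup G) : Set G) with hN
  have hNb : N ≠ ⊥ := fun e => hT' (le_bot_iff.1 (e ▸ le_normalClosure))
  have hNle : ∀ K : Subgroup G, K.Normal → K ≠ ⊥ → N ≤ K := fun K hK hKb =>
    normalClosure_le_normal (hcm K hK hKb)
  haveI := Core.pCore_characteristic p G
  haveI := layer_normal (G := G)
  set Q := pCore p G with hQ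
  have hQp : IsPGroup p Q := Core.isPGroup_pCore p G
  have hQT : Q ≤ T := hT.le_of_le_normalizer hQp le_top (by rw [normalizer_eq_top]; exact le_top)
  have hQab : IsMulCommutative Q := by
    haveI := Core.normal_frattiniOf Q
    have : (frattini Q).map Q.subtype = ⊥ := le_bot_iff.1
      (hfrat ▸ normal_le_normalCore.2 (Core.frattiniOf_mono hT.2 hQT))
    exact PGrp.isMulCommutative_iff_forall.2 fun x hx y hy => mul_comm_of_commutator_eq_bot
      (le_bot_iff.1 (this ▸ Core.commutator_le_frattiniOf hQp)) hx hy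
  have hF := fstar_eq_of_pPrimeCore_eq_bot hcore
  have hQE : layer G ≠ ⊥ → Q = ⊥ := by
    intro hE
    by_contra hQb
    have h1 : N ≤ centralizer (layer G : Set G) :=
      (hNle Q inferInstance hQb).trans (le_centralizer_iff.1 layer_le_centralizer_pCore)
    have h2 := hNle _ inferInstance hE
    have hS := sylowIn_inf_normal P (layer G)
    obtain ⟨x, hx, h⟩ := hcyc N inferInstance hNb
    have hab : IsMulCommutative ↥(T ⊓ layer G) := by
      refine PGrp.isMulCommutative_iff_forall.2 fun s hs t ht => ?_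
      have key : ∀ t ∈ T, ∃ a ∈ N, ∃ k : ℤ, t = a * x ^ k := fun t ht =>
        (PGrp.mem_sup_zpowers_of_mem_normalizer (by rw [normalizer_eq_top]; exact mem_top x)).1
          ((h.trans (sup_le_sup_right inf_le_left _)) ht)
      obtain ⟨a, ha, i, rfl⟩ := key s hs.1
      obtain ⟨b, hb, j, rfl⟩ := key t ht.1
      have e1 := mem_centralizer_iff.1 (h1 hb) _ hs.2
      have e2 := mem_centralizer_iff.1 (h1 ha) _ (((layer G).mul_mem_cancel_left (h2 hb)).1 ht.2)
      calc a * x ^ i * (b * x ^ j) = b * (a * x ^ j) * x ^ i := by rw [← mul_assoc, e1]; group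
        _ = _ := by rw [← e2]; group
    have h3 := hS.commutator_inf_of_comm hab
    rw [layer_commutator_self] at h3
    refine hNb (le_bot_iff.1 ?_)
    rw [← (hS.fitting_decomp hab).1, ← h3]
    have h4 : N ≤ T ⊓ layer G := le_inf ((hNle Q inferInstance hQb).trans hQT) h2
    exact le_inf (le_inf h4 (h1.trans (centralizer_le (SetLike.coe_subset_coe.2 inf_le_left))))
      (le_inf h2 h4)
  refine ⟨⟨fstar_ne_bot, fun K hK hKb => le_trans ?_ (hNle K hK hKb)⟩, hmapc _ fstar_ne_bot, ?_⟩
  · by_cases hE : layer G = ⊥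
    · have hC : centralizer (Q : Set G) ≤ Q := centralizer_pCore_le_iff.2 ⟨hcore, hE⟩
      rw [hF, hE, bot_sup_eq]
      by_contra hQN
      set f := QuotientGroup.mk' N with hf
      have hfs : Function.Surjective f := QuotientGroup.mk'_surjective N
      have hker : f.ker = N := QuotientGroup.ker_mk' N
      have hNQ : N ≤ Q := hNle Q inferInstance fun e => hQN (e.le.trans bot_le)
      haveI : (Q.map f).Normal := Normal.map inferInstance f hfs
      set C := centralizer ((Q.map f : Subgroup (G ⧸ N)) : Set (G ⧸ N)) with hCd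
      have hc := hmapc N hNb
      have hTC : T.map f ≤ C := fun t ht => mem_centralizer_iff.2 fun y hy =>
        PGrp.comm_of_mem (A := T.map f) inferInstance (map_mono hQT hy) ht
      have hS : SylowIn p (T.map f) C := by
        have := hT.map f
        rw [map_top_of_surjective f hfs] at this
        exact this.mono hTC le_top
      obtain ⟨y, hy, hy1⟩ := (bot_or_exists_ne_one (Q.map f)).resolve_left fun e =>
        hQN (hker ▸ (Subgroup.map_eq_bot_iff _).1 e)
      have hP := Coprime.pnil_of_isCyclic_of_cent hS hc (map_mono hQT hy) hy1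
        (centralizer_le (Set.singleton_subset_iff.2 hy))
      haveI := resOf_normal (p := p) C
      set K := (resOf p C).comap f with hK
      have hNK : N ≤ K := hker.ge.trans (ker_le_comap f _)
      have hcop : (Nat.card Q).Coprime (Q.relIndex (K ⊔ Q)) := by
        obtain ⟨k, hk⟩ := hQp.exists_card_eq
        rw [relIndex_sup_right, hk]
        refine (Nat.Coprime.coprime_dvd_left (relIndex_dvd_of_le_left K hNQ) ?_).symm.pow_left k
        rw [← PGrp.card_map_mk', hK, map_comap_eq_self_of_surjective hfs]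
        exact hP.coprime
      obtain ⟨d1, d2⟩ := fitting_decomp hQab le_sup_right (by rw [normalizer_eq_top]; exact le_top) hcop
      have d3 : ⁅Q, K ⊔ Q⁆ ≤ N := by
        refine le_trans ?_ hker.le
        rw [← Subgroup.map_eq_bot_iff, map_commutator, commutator_comm (Q.map f),
          commutator_eq_bot_iff_le_centralizer, Subgroup.map_sup, hK, map_comap_eq_self_of_surjective hfs]
        exact sup_le (resOf_le C) ((map_mono hQT).trans hTC)
      have d4 := hNle (Q ⊓ centralizer ((K ⊔ Q : Subgroup G) : Set G)) inferInstance fun e => hQN (by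
        rw [e, bot_sup_eq] at d2
        exact d2.ge.trans d3)
      rw [inf_eq_right.2 (d3.trans d4), commutator_comm, commutator_eq_bot_iff_le_centralizer] at d1
      have d5 : resOf p C ≤ Q.map f := by
        rw [← map_comap_eq_self_of_surjective hfs (resOf p C)]
        exact map_mono (le_sup_left.trans (d1.trans hC))
      have d6 := hP.disjoint (hQp.map f)
      rw [inf_eq_right.2 d5] at d6
      have d7 := hS.resOf_sup
      rw [d6, bot_sup_eq] at d7
      have d8 : C.comap f = T := by
        rw [← d7, comap_map_eq, hker, sup_eq_left.2 (hNQ.trans hQT)]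
      haveI : T.Normal := d8 ▸ inferInstance
      exact hna (PGrp.isMulCommutative_of_le hQab (Core.le_pCore hT.2))
    · rw [hF, ← hQ, hQE hE, sup_bot_eq]
      refine layer_le fun L hL => (IsComponent.le_or_commutator_eq_bot_of_normal hL N).resolve_right
        fun e => ?_
      have h1 := hNle (centralizer (N : Set G)) inferInstance fun e' => IsComponent.ne_bot hL
        (le_bot_iff.1 (e' ▸ commutator_eq_bot_iff_le_centralizer.1 e))
      haveI : IsMulCommutative N := PGrp.isMulCommutative_iff_forall.2 fun x hx y hy =>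
        mem_centralizer_iff.1 (h1 hy) x hx
      have h2 := Core.le_fitting_of_isMulCommutative (N := N)
      rw [fit_eq_pCore hcore, ← hQ, hQE hE] at h2
      exact hNb (le_bot_iff.1 h2)
  · intro _ K L hK hL
    have hE : layer G ≠ ⊥ := fun e => IsComponent.ne_bot hK (le_bot_iff.1 (e ▸ IsComponent.le_layer hK))
    have key : ∀ K : Subgroup G, IsComponent K → ⁅T, T⁆ ≤ sSup {M | ∃ x ∈ T, M = cj x K} := by
      intro K hK
      have hn : T ≤ normalizer ((sSup {M | ∃ x ∈ T, M = cj x K} : Subgroup G) : Set G) := by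
        intro t ht
        refine mem_normalizer_of_cj_le (cj_le_iff_le_cj_inv.2 (sSup_le ?_))
        rintro _ ⟨x, hx, rfl⟩
        rw [← cj_le_iff_le_cj_inv, ← cj_mul]
        exact le_sSup ⟨t * x, T.mul_mem ht hx, rfl⟩
      obtain ⟨x, hx, h⟩ := exists_cyc (N := sSup {M | ∃ x ∈ T, M = cj x K}) hT.2 hgen fun h => by
        have h1 : PNil p K := (tate' hT hn h).mono (le_sSup ⟨1, T.one_mem, (cj_one K).symm⟩)
        have h2 : resOf p K = ⊥ := le_bot_iff.1 (hcore ▸ Core.le_pPrimeCore_of_isSubnormal
          (by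
            rw [← isSubnormal_subgroupOf_top_iff]
            exact isSubnormal_subgroupOf_trans (resOf_le K) le_top
              (isSubnormal_subgroupOf_of_le_normalizer (le_normalizer_resOf K))
              (isSubnormal_subgroupOf_top_iff.2 hK.1)) h1.coprime)
        obtain ⟨S, hS⟩ := exists_sylowIn p K
        have h3 := hS.resOf_sup
        rw [h2, bot_sup_eq] at h3
        exact IsQuasisimple.not_isSolvable hK.2 (Core.isSolvable_of_isPGroup Fact.out (h3 ▸ hS.2))
      exact comm_le hn hx h
    by_contra hcon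
    push Not at hcon
    have h1 : ⁅layer G, ⁅T, T⁆⁆ = ⊥ := by
      refine commutator_sSup_eq_bot fun M hM => ?_
      by_cases h : ∃ x ∈ T, M = cj x K
      · refine commutator_eq_bot_mono (commutator_eq_bot_symm (commutator_sSup_eq_bot ?_)) le_rfl
          (key L hL)
        rintro _ ⟨y, hy, rfl⟩
        refine IsComponent.commutator_eq_bot_of_ne (IsComponent.conj hL y) hM fun e => ?_
        obtain ⟨x, hx, rfl⟩ := h
        refine hcon (y⁻¹ * x) (T.mul_mem (T.inv_mem hy) hx) ?_
        rw [← cj_def, cj_mul, ← e, cj_inv_cj]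
      · refine commutator_eq_bot_mono (commutator_eq_bot_symm (commutator_sSup_eq_bot ?_)) le_rfl
          (key K hK)
        rintro _ ⟨y, hy, rfl⟩
        exact IsComponent.commutator_eq_bot_of_ne (IsComponent.conj hK y) hM fun e => h ⟨y, hy, e.symm⟩
    have h2 := le_fit_of_commutator_eq_bot (commutator_eq_bot_symm h1) (by
      rw [fit_eq_pCore hcore, ← hQ, hQE hE, commutator_bot_right])
    rw [fit_eq_pCore hcore, ← hQ, hQE hE] at h2
    exact hT' (le_bot_iff.1 h2)

end Cfsg.Agent.S4172
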