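import Cfsg.Statements.S4177
import Cfsg.Agent.Lib.Hall.Product

set_option autoImplicit false
open Cfsg

namespace Cfsg.Agent.S4177

section
variable {k V H : Type*} [Field k] [AddCommGroup V] [Module k V] [Group H] (ρ : Representation k H V)

/-- The stabilizer of a vector. -/
def stab (a : V) : Subgroup H where
  carrier := {h | ρ h a = a}
  one_mem' := by simp
  mul_mem' := fun {x y} hx hy => by simp_all
  inv_mem' := fun {x} hx => by
    rw [Set.mem_setOf_eq, ← hx, ← Module.End.mul_apply, ← map_mul, inv_mul_cancel, map_one, hx]; rfl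

theorem index_stab (a : V) : (stab ρ a).index = Nat.card {u : V | ∃ h : H, ρ h a = u} :=
  letI : MulAction H V := MulAction.compHom V ρ
  MulAction.index_stabilizer H a

theorem key [Finite H] (a : V) (hspan : Submodule.span k {u : V | ∃ h : H, ρ h a = u} = ⊤)
    (hm : ((stab ρ a).index : k) ≠ 0) : ∃ s ∈ ρ.invariants, ∀ K : Subgroup H, (Nat.card K : k) ≠ 0 →
      K.index.Coprime (stab ρ a).index → ∀ v, K ≤ stab ρ v → v ∈ k ∙ s := by
  classical
  have := Fintype.ofFinite H
  have hf : {u : V | ∃ h : H, ρ h a = u}.Finite := Set.finite_range fun h => ρ h a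
  have hs : ∀ g, ρ g (∑ u ∈ hf.toFinset, u) = ∑ u ∈ hf.toFinset, u := fun g => by
    rw [map_sum]
    refine Finset.sum_nbij' (ρ g) (ρ g⁻¹) ?_ ?_ (by simp) (by simp) fun _ _ => rfl <;>
      simp only [Set.Finite.mem_toFinset, Set.mem_setOf_eq] <;> rintro _ ⟨h, rfl⟩
    exacts [⟨g * h, by simp⟩, ⟨g⁻¹ * h, by simp⟩]
  refine ⟨_, hs, fun K hK hc v hv => ?_⟩
  let e : V →ₗ[k] V := ∑ x : K, ρ x
  have e1 : ∀ w, K ≤ stab ρ w → e w = (Nat.card K : k) • w := fun w hw => by
    rw [LinearMap.sum_apply, Finset.sum_congr rfl fun x _ => hw x.2, Finset.sum_const,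
      Nat.card_eq_fintype_card, Nat.cast_smul_eq_nsmul, Finset.card_univ]
  have e2 : ∀ h, e (ρ h a) = e a := fun h => by
    obtain ⟨x, hx, y, hy, rfl⟩ := Lib.Hall.factor_of_coprime_index hc h
    rw [map_mul, Module.End.mul_apply, hy, LinearMap.sum_apply, LinearMap.sum_apply]
    exact Fintype.sum_equiv (Equiv.mulRight ⟨x, hx⟩) _ _ fun z => by simp
  have e3 := e1 _ fun x _ => hs x
  rw [map_sum, Finset.sum_congr rfl (g := fun _ => e a) fun u hu => by
    obtain ⟨h, rfl⟩ := hf.mem_toFinset.1 hu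
    exact e2 h, Finset.sum_const, ← Set.ncard_eq_toFinset_card _ hf, ← Nat.card_coe_set_eq, ← index_stab,
    ← Nat.cast_smul_eq_nsmul k] at e3
  rw [← Submodule.smul_mem_iff _ hK, ← e1 v hv]
  refine Submodule.mem_comap.1 (Submodule.span_le.2 ?_ (hspan ▸ Submodule.mem_top (x := v)))
  rintro _ ⟨h, rfl⟩
  rw [SetLike.mem_coe, Submodule.mem_comap, e2, ← Submodule.smul_mem_iff _ hm, e3]
  exact Submodule.smul_mem _ _ (Submodule.mem_span_singleton_self _)

theorem concl [Finite H] (a : V) (hspan : Submodule.span k {u : V | ∃ h : H, ρ h a = u} = ⊤)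
    (hm : ((stab ρ a).index : k) ≠ 0) (h : ∀ B : Subgroup H, (stab ρ a).index.Coprime B.index →
      ∃ K ≤ B, (Nat.card K : k) ≠ 0 ∧ K.index.Coprime (stab ρ a).index) :
    Module.finrank k ρ.invariants ≤ 1 ∧ ∀ b : V, (Nat.card {u : V | ∃ h : H, ρ h a = u}).Coprime
      (Nat.card {u : V | ∃ h : H, ρ h b = u}) → ∀ h : H, ρ h b = b := by
  obtain ⟨s, hs, h1⟩ := key ρ a hspan hm
  constructor
  · obtain ⟨K, -, h2, h3⟩ := h ⊤ (by simp)
    exact (Submodule.finrank_mono (t := k ∙ s) fun v (hv : v ∈ ρ.invariants) => h1 K h2 h3 v fun x _ =>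
      hv x).trans ((finrank_span_le_card _).trans (by simp))
  · intro b hb
    rw [← index_stab, ← index_stab] at hb
    obtain ⟨K, h1', h2, h3⟩ := h _ hb
    exact (Submodule.span_singleton_le_iff_mem _ _).2 hs (h1 K h2 h3 b h1')

end

/-- Let k be a field whose characteristic does not divide the order of the finite group H (for instance a field of characteristic zero), and ρ a k-linear representation of H on V. Let a be a vector whose H-orbit spans V. Then the space of H-fixed vectors has dimension at most 1, and every vector b whose H-orbit has size coprime to the size of the orbit of a is fixed by H. -/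
theorem result {k V H : Type*} [Field k] [AddCommGroup V] [Module k V] [Group H] [Finite H]
    (hchar : ¬ ringChar k ∣ Nat.card H) (ρ : Representation k H V) (a : V)
    (hspan : Submodule.span k {u : V | ∃ h : H, ρ h a = u} = ⊤) :
    Module.finrank k ρ.invariants ≤ 1 ∧
    ∀ b : V, (Nat.card {u : V | ∃ h : H, ρ h a = u}).Coprime (Nat.card {u : V | ∃ h : H, ρ h b = u}) → ∀ h : H, ρ h b = b := by
  have e : ∀ n, n ∣ Nat.card H → (n : k) ≠ 0 := fun n hn h =>
    hchar (((ringChar.spec k n).1 h).trans hn)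
  exact concl ρ a hspan (e _ (Subgroup.index_dvd_card _)) fun B hB =>
    ⟨B, le_rfl, e _ (Subgroup.card_subgroup_dvd_card _), hB.symm⟩

end Cfsg.Agent.S4177
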