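import Cfsg.Statements.S4176
import Cfsg.Agent.S4177
import Cfsg.Agent.Lib.Hall.HallSep
import Cfsg.Agent.Lib.Hall.ClassSize
import Cfsg.Agent.Lib.Core.PSolvable

set_option autoImplicit false
open Cfsg

namespace Cfsg.Agent.S4176

open Cfsg.Lib

/-- Let k be a field of prime characteristic p, H a finite p-soluble group and ρ a k-linear representation of H on V. Let a be a vector that is fixed by some Sylow p-subgroup of H and whose H-orbit spans V. Then the space of H-fixed vectors has dimension at most 1, and every vector b whose H-orbit has size coprime to the size of the orbit of a is fixed by H. -/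
theorem result {k V H : Type*} [Field k] (p : ℕ) [Fact p.Prime] [CharP k p] [AddCommGroup V] [Module k V]
    [Group H] [Finite H] (hsol : Cfsg.IsPSolvable p H) (ρ : Representation k H V) (a : V)
    (hfix : ∃ P : Sylow p H, ∀ x : H, x ∈ (P : Subgroup H) → ρ x a = a)
    (hspan : Submodule.span k {u : V | ∃ h : H, ρ h a = u} = ⊤) :
    Module.finrank k ρ.invariants ≤ 1 ∧
    ∀ b : V, (Nat.card {u : V | ∃ h : H, ρ h a = u}).Coprime (Nat.card {u : V | ∃ h : H, ρ h b = u}) → ∀ h : H, ρ h b = b := by
  have hp : p.Prime := Fact.out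
  obtain ⟨P, hP⟩ := hfix
  have h1 := Hall.not_dvd_index_of_sylow_le (H := S4177.stab ρ a) P hP
  refine S4177.concl ρ a hspan (mt (CharP.cast_eq_zero_iff k p _).1 h1) fun B hB => ?_
  obtain ⟨K, hK⟩ := Hall.exists_isPiHall_compl_of_isPSolvable hp (Lib.Core.isPSolvable_subgroup hp hsol B)
  refine ⟨K.map B.subtype, Subgroup.map_subtype_le K, fun h => ?_, ?_⟩
  · rw [Subgroup.card_subtype, CharP.cast_eq_zero_iff k p] at h
    exact hK.1 p hp h rfl
  · rw [Subgroup.index_map_subtype]
    refine Nat.Coprime.mul_left (Nat.coprime_of_dvd fun q hq h2 h3 => ?_) hB.symm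
    exact hK.2 q hq (fun e => h1 (Set.mem_singleton_iff.1 e ▸ h3)) h2

end Cfsg.Agent.S4176
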