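import Cfsg.Statements.S4178


set_option autoImplicit false
open Cfsg

namespace Cfsg.Agent.S4178

theorem index_le_of_fun {G T : Type*} [Group G] [Finite T] (R : Subgroup G) (f : G → T)
    (h : ∀ a b, f a = f b → a⁻¹ * b ∈ R) : R.index ≤ Nat.card T := by
  classical
  let s : G ⧸ R → T := fun q => f q.out
  refine Nat.card_le_card_of_injective s fun q r e => ?_
  rw [← q.out_eq', ← r.out_eq']
  exact QuotientGroup.eq.2 (h _ _ e)

theorem card_ne_zero_sub (T : Type*) [Finite T] [Zero T] :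
    Nat.card {x : T // x ≠ 0} = Nat.card T - 1 := by
  classical
  have := Fintype.ofFinite T
  simp [Fintype.card_subtype_compl]


/-- Let F be a finite field with q elements, V a non-zero finite-dimensional F-space of dimension d, H a group of invertible linear maps of V, and R the subgroup of H generated by the elements of H that fix some non-zero vector (have eigenvalue 1). Then the index of R in H is at most q^d − 1; and if H leaves invariant some proper non-zero subspace, the index is at most q^(d/2) − 1. -/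
theorem result {F V : Type*} [Field F] [Fintype F] [AddCommGroup V] [Module F V] [FiniteDimensional F V] [Nontrivial V]
    (H : Subgroup (V ≃ₗ[F] V)) :
    (Subgroup.closure {h : ↥H | ∃ v : V, v ≠ 0 ∧ (h : V ≃ₗ[F] V) v = v}).index ≤ Fintype.card F ^ Module.finrank F V - 1 ∧
    ((∃ W : Submodule F V, W ≠ ⊥ ∧ W ≠ ⊤ ∧ ∀ h ∈ H, ∀ w ∈ W, h w ∈ W) →
      ((Subgroup.closure {h : ↥H | ∃ v : V, v ≠ 0 ∧ (h : V ≃ₗ[F] V) v = v}).index : ℝ) ≤ Real.sqrt ((Fintype.card F : ℝ) ^ Module.finrank F V) - 1) := by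
  haveI : Finite V := Module.finite_of_finite F
  set R := Subgroup.closure {h : ↥H | ∃ v : V, v ≠ 0 ∧ (h : V ≃ₗ[F] V) v = v} with hR
  have hV : Nat.card V = Fintype.card F ^ Module.finrank F V := by
    rw [Module.natCard_eq_pow_finrank (K := F), Nat.card_eq_fintype_card]
  have h1 : ∀ W : Submodule F V, W ≠ ⊥ → (∀ h ∈ H, ∀ w ∈ W, h w ∈ W) →
      R.index ≤ Nat.card W - 1 := by
    intro W hW hinv
    obtain ⟨w, hw, hw0⟩ := (Submodule.ne_bot_iff W).1 hW
    rw [← card_ne_zero_sub]
    refine index_le_of_fun R (fun g => ⟨⟨(g : V ≃ₗ[F] V) w, hinv g g.2 w hw⟩, fun e =>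
      hw0 ((g : V ≃ₗ[F] V).map_eq_zero_iff.1 (congrArg Subtype.val e))⟩) fun a b e => ?_
    refine Subgroup.subset_closure ⟨w, hw0, ?_⟩
    have e' : (a : V ≃ₗ[F] V) w = (b : V ≃ₗ[F] V) w := congrArg (fun x => (x.1 : V)) e
    change (a : V ≃ₗ[F] V).symm ((b : V ≃ₗ[F] V) w) = w
    rw [← e', LinearEquiv.symm_apply_apply]
  refine ⟨by simpa [← hV] using h1 ⊤ top_ne_bot fun _ _ _ _ => trivial, ?_⟩
  rintro ⟨W, hW, hWt, hinv⟩
  have h2 : R.index ≤ Nat.card (V ⧸ W) - 1 := by
    obtain ⟨v, -, hv⟩ := SetLike.exists_of_lt (lt_top_iff_ne_top.2 hWt)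
    haveI : Finite (V ⧸ W) := Finite.of_surjective _ W.mkQ_surjective
    rw [← card_ne_zero_sub]
    refine index_le_of_fun R (fun g => ⟨W.mkQ ((g : V ≃ₗ[F] V) v), fun e => hv ?_⟩) fun a b e => ?_
    · have := hinv _ (H.inv_mem g.2) _ ((Submodule.Quotient.mk_eq_zero W).1 e)
      change (g : V ≃ₗ[F] V).symm ((g : V ≃ₗ[F] V) v) ∈ W at this
      rwa [LinearEquiv.symm_apply_apply] at this
    · have e' : (b : V ≃ₗ[F] V) v - (a : V ≃ₗ[F] V) v ∈ W :=
        (Submodule.Quotient.eq W).1 (congrArg Subtype.val e).symm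
      have e2 := hinv _ (H.inv_mem a.2) _ e'
      change (a : V ≃ₗ[F] V).symm _ ∈ W at e2
      rw [map_sub, LinearEquiv.symm_apply_apply] at e2
      set k : H := a⁻¹ * b
      have e3 : (k : V ≃ₗ[F] V) v - v ∈ W := e2
      refine Subgroup.subset_closure ?_
      by_contra hk
      simp only [Set.mem_setOf_eq, not_exists, not_and] at hk
      let φ : W → W := fun w => ⟨(k : V ≃ₗ[F] V) w - w, W.sub_mem (hinv _ k.2 _ w.2) w.2⟩
      have key : ∀ x y : V, (k : V ≃ₗ[F] V) x - x = (k : V ≃ₗ[F] V) y - y → x = y := by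
        intro x y hxy
        by_contra hne
        refine hk (x - y) (sub_ne_zero.2 hne) ?_
        rw [map_sub, sub_eq_sub_iff_sub_eq_sub, hxy]
      have hφ : Function.Injective φ := fun x y e => Subtype.ext (key _ _ (congrArg Subtype.val e))
      obtain ⟨w, hw⟩ := Finite.surjective_of_injective hφ ⟨_, e3⟩
      exact hv (key _ _ (congrArg Subtype.val hw) ▸ w.2)
  have h3 := h1 W hW hinv
  have h4 : Nat.card V = Nat.card W * Nat.card (V ⧸ W) := by
    rw [mul_comm]; exact AddSubgroup.card_eq_card_quotient_mul_card_addSubgroup W.toAddSubgroup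
  have h5 : 0 < Nat.card W := Nat.card_pos
  have h6 : 0 < Nat.card (V ⧸ W) := by
    haveI : Finite (V ⧸ W) := Finite.of_surjective _ W.mkQ_surjective
    exact Nat.card_pos
  have h7 : (R.index + 1) * (R.index + 1) ≤ Fintype.card F ^ Module.finrank F V := by
    rw [← hV, h4]; exact Nat.mul_le_mul (by omega) (by omega)
  rw [le_sub_iff_add_le, Real.le_sqrt (by positivity) (by positivity), pow_two]
  exact_mod_cast h7

end Cfsg.Agent.S4178
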