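import Cfsg.Statements.S4182
import Cfsg.Agent.Lib.Amalg.Conj
import Cfsg.Agent.Lib.Core.Subnormal

set_option autoImplicit false
open Cfsg

open Subgroup Cfsg.Lib
open scoped commutatorElement
open Cfsg.Lib.Amalg
namespace Cfsg.Agent.S4182

universe u

theorem pgrp {G : Type*} [Group G] [Finite G] {p : ℕ} [hp : Fact p.Prime] (hG : IsPGroup p G) {ι : Type*} [Fintype ι]
    (K : ι → Subgroup G) (hK : ∀ i, K i ≠ ⊤) (hcov : ∀ g : G, ∃ i, g ∈ K i) : p + 1 ≤ Fintype.card ι := by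
  classical
  have := Fintype.ofFinite G
  by_contra hc
  have h1 : ∀ i, p * Nat.card (K i) ≤ Nat.card G := fun i => by
    obtain ⟨n, hn⟩ := hG.index (K i)
    rw [← (K i).index_mul_card]
    refine Nat.mul_le_mul_right _ (Nat.le_of_dvd (Nat.pos_of_ne_zero FiniteIndex.index_ne_zero) ?_)
    rcases n with _ | n
    · exact absurd (index_eq_one.1 hn) (hK i)
    · exact hn ▸ dvd_pow_self p n.succ_ne_zero
  have h2 : (Finset.univ.erase (1 : G)) ⊆ Finset.univ.biUnion fun i => (Finset.univ.filter (· ∈ K i)).erase 1 := fun g hg => by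
    obtain ⟨i, hi⟩ := hcov g
    simp only [Finset.mem_biUnion, Finset.mem_erase, Finset.mem_filter, Finset.mem_univ, true_and, and_true] at hg ⊢
    exact ⟨i, hg, hi⟩
  have h3 := (Finset.card_le_card h2).trans Finset.card_biUnion_le
  have h4 : ∀ i, p * ((Finset.univ.filter (· ∈ K i)).erase 1).card + p ≤ Nat.card G := fun i => by
    rw [← Nat.mul_succ, Nat.succ_eq_add_one, Finset.card_erase_add_one (by simp), ← Nat.subtype_card _ (p := (· ∈ K i)) (by simp)]
    exact h1 i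
  have h5 := Finset.sum_le_sum fun i (_ : i ∈ Finset.univ) => h4 i
  rw [Finset.sum_add_distrib, ← Finset.mul_sum, Finset.sum_const, Finset.sum_const, Finset.card_univ, smul_eq_mul, smul_eq_mul] at h5
  have h6 := Finset.card_erase_add_one (Finset.mem_univ (1 : G))
  rw [Finset.card_univ, ← Nat.card_eq_fintype_card] at h6
  obtain ⟨i, -⟩ := hcov 1
  have h7 := (Nat.le_add_left _ _).trans (h4 i)
  have h8 := hp.out.two_le
  obtain ⟨d, hd⟩ := Nat.exists_eq_add_of_le h7
  have h9 := Nat.mul_le_mul_right d (Nat.lt_succ_iff.1 (not_le.1 hc))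
  have h10 := Nat.mul_le_mul_left p h3
  rw [hd] at h5 h6
  nlinarith

theorem aux (p : ℕ) [hp : Fact p.Prime] {ι : Type*} [Fintype ι] (n : ℕ) : ∀ (G : Type u) [Group G] [Finite G], Nat.card G = n →
    closure {g : G | ∃ k : ℕ, orderOf g = p ^ k} = ⊤ → ∀ K : ι → Subgroup G, (∀ i, K i ≠ ⊤) →
    (∀ g : G, (∃ k : ℕ, orderOf g = p ^ k) → ∃ i, g ∈ K i) → p + 1 ≤ Fintype.card ι := by
  induction n using Nat.strong_induction_on with
  | _ n ih =>
  intro G _ _ hn hgen K hK hcov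
  by_contra hc
  let D : Subgroup G → Subgroup G := fun H => closure {g | g ∈ H ∧ ∃ k : ℕ, orderOf g = p ^ k}
  have d1 : ∀ H, D H ≤ H := fun H => (closure_le _).2 fun g hg => hg.1
  have d2 : ∀ {H L}, H ≤ L → D H ≤ D L := fun h => closure_mono fun g hg => ⟨h hg.1, hg.2⟩
  have d3 : ∀ H, D (D H) = D H := fun H => le_antisymm (d1 _) (closure_mono fun g hg => ⟨subset_closure hg, hg.2⟩)
  have d4 : ∀ g H, H ≠ ⊤ ∧ D H = H → cj g H ≠ ⊤ ∧ D (cj g H) = cj g H := fun g H h => ⟨fun e => h.1 (cj_eq_top_iff.1 e), by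
    refine le_antisymm (d1 _) ?_
    nth_rewrite 1 [← h.2]
    rw [cj_closure]
    refine closure_mono ?_
    rintro _ ⟨x, ⟨x1, x2⟩, rfl⟩
    exact ⟨⟨x, x1, rfl⟩, by rwa [MulEquiv.orderOf_eq]⟩⟩
  have h1 : ∀ L, L ≠ ⊤ → D L = L → ∃ i, L ≤ K i := fun L l1 l2 => by
    by_contra h
    refine hc (ih _ (hn ▸ card_top (G := G) ▸ Cfsg.Lib.Core.card_lt_of_lt l1.lt_top) L rfl ?_ (fun i => (K i).subgroupOf L)
      (fun i e => h ⟨i, subgroupOf_eq_top.1 e⟩) fun g hg => hcov g (by rwa [orderOf_coe]))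
    refine map_injective L.subtype_injective ?_
    rw [MonoidHom.map_closure, ← MonoidHom.range_eq_map, range_subtype]
    refine Eq.trans (congrArg Subgroup.closure (Set.ext fun g => ⟨?_, fun h => ⟨⟨g, h.1⟩, by simpa using h.2, rfl⟩⟩)) l2
    rintro ⟨x, hx, rfl⟩
    exact ⟨x.2, by rwa [coe_subtype, orderOf_coe]⟩
  let X := {M : Subgroup G // Maximal (fun L => L ≠ ⊤ ∧ D L = L) M}
  have h2 : ∀ L, L ≠ ⊤ → D L = L → ∃ M : X, L ≤ M.1 := fun L l1 l2 => by
    obtain ⟨M, m1, m2⟩ := Finite.exists_le_maximal (p := fun L => L ≠ ⊤ ∧ D L = L) ⟨l1, l2⟩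
    exact ⟨⟨M, m2⟩, m1⟩
  have h3 : ∀ i, D (K i) ≠ ⊤ := fun i e => hK i (top_le_iff.1 (e ▸ d1 _))
  have h4 : Nat.card X ≤ p := by
    have : ∀ M : X, ∃ i, M.1 = D (K i) := fun M => by
      obtain ⟨i, hi⟩ := h1 M.1 M.2.1.1 M.2.1.2
      exact ⟨i, M.2.eq_of_le ⟨h3 i, d3 _⟩ (M.2.1.2.ge.trans (d2 hi))⟩
    choose f hf using this
    refine (Nat.card_le_card_of_injective f fun a b e => Subtype.ext (by rw [hf, hf, e])).trans ?_
    rw [Nat.card_eq_fintype_card]; omega
  letI : MulAction G X :=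
    { smul := fun g M => ⟨cj g M.1, d4 g _ M.2.1, fun L hL e => by
        have := M.2.2 (d4 g⁻¹ L hL) ((cj_inv_cj g _).ge.trans (cj_mono g⁻¹ e))
        exact (cj_cj_inv g _).ge.trans (cj_mono g this)⟩
      one_smul := fun M => Subtype.ext (cj_one _)
      mul_smul := fun g h M => Subtype.ext (cj_mul g h _) }
  have h5 : ∀ M : X, M.1.Normal := fun M => normalizer_eq_top_iff.1 (top_le_iff.1 (hgen.ge.trans ((closure_le _).2 fun x hx => by
    obtain ⟨i, hi⟩ := hcov x hx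
    obtain ⟨N, hN⟩ := h2 _ (h3 i) (d3 _)
    obtain ⟨k, hk⟩ := hx
    have b1 := (IsPGroup.of_card ((Nat.card_zpowers x).trans hk)).card_modEq_card_fixedPoints X
    have b2 : N ∈ MulAction.fixedPoints (zpowers x) X := fun g => Subtype.ext
      (cj_eq_self_iff.2 (le_normalizer (zpowers_le.2 (hN (subset_closure ⟨hi, k, hk⟩)) g.2)))
    have b3 : 0 < Nat.card (MulAction.fixedPoints (zpowers x) X) := Nat.card_pos_iff.2 ⟨⟨⟨N, b2⟩⟩, inferInstance⟩
    have b4 : Nat.card (MulAction.fixedPoints (zpowers x) X) ≤ Nat.card X := Nat.card_le_card_of_injective _ Subtype.val_injective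
    have b5 : Nat.card (MulAction.fixedPoints (zpowers x) X) = Nat.card X := by
      have := Nat.eq_zero_of_dvd_of_lt ((Nat.modEq_iff_dvd' b4).1 b1.symm) (by omega)
      omega
    have b6 : M ∈ MulAction.fixedPoints (zpowers x) X := by
      rw [Set.eq_of_subset_of_ncard_le (Set.subset_univ (MulAction.fixedPoints (zpowers x) X))
        (by rw [Set.ncard_univ, ← b5, Nat.card_coe_set_eq])]
      trivial
    exact cj_eq_self_iff.1 (congrArg Subtype.val (b6 ⟨x, mem_zpowers x⟩)))))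
  obtain ⟨P⟩ : Nonempty (Sylow p G) := inferInstance
  by_cases e : (P : Subgroup G) = ⊤
  · have := P.2
    exact hc (pgrp (IsPGroup.of_equiv (e ▸ P.2) topEquiv) K hK fun g => hcov g
      (IsPGroup.iff_orderOf.1 (IsPGroup.of_equiv (e ▸ P.2) topEquiv) g))
  obtain ⟨M, hM⟩ := h2 P e (le_antisymm (d1 _) fun g hg => subset_closure ⟨hg, by
    simpa only [← orderOf_coe] using IsPGroup.iff_orderOf.1 P.2 ⟨g, hg⟩⟩)
  refine M.2.1.1 (top_le_iff.1 (hgen.ge.trans ((closure_le _).2 fun x ⟨k, hk⟩ => ?_)))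
  obtain ⟨Q, hQ⟩ := (IsPGroup.of_card ((Nat.card_zpowers x).trans hk)).exists_le_sylow
  obtain ⟨g, rfl⟩ := MulAction.exists_smul_eq G P Q
  obtain ⟨y, y1, y2⟩ := hQ (mem_zpowers x)
  exact y2 ▸ (h5 M).conj_mem y (hM y1) g

/-- Let p be a prime and G a finite group generated by its p-elements. If a finite family of proper subgroups of G covers the set of p-elements of G (every element of p-power order lies in one of them), then the family has at least p + 1 members. -/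
theorem result {G : Type*} [Group G] [Finite G] (p : ℕ) [Fact p.Prime] (hgen : Subgroup.closure {g : G | ∃ k : ℕ, orderOf g = p ^ k} = ⊤)
    {ι : Type*} [Fintype ι] (K : ι → Subgroup G) (hK : ∀ i, K i ≠ ⊤)
    (hcov : ∀ g : G, (∃ k : ℕ, orderOf g = p ^ k) → ∃ i, g ∈ K i) :
    p + 1 ≤ Fintype.card ι := by
  exact aux p _ G rfl hgen K hK hcov

end Cfsg.Agent.S4182
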