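import Cfsg.Statements.S4184
import Cfsg.Agent.Lib.Exc.Rank2

set_option autoImplicit false
open Cfsg

namespace Cfsg.Agent.S4184

open Subgroup Cfsg.Lib Cfsg.Lib.Hall Cfsg.Lib.Exc.Rank

theorem conj_mem {G : Type*} [Group G] [Finite G] {p : ℕ} (hp : p.Prime) {H : Subgroup G} (h : ¬ p ∣ H.index) {z : G}
    (hz : orderOf z = p) : ∃ g, g⁻¹ * z * g ∈ H := by
  have := Fact.mk hp
  obtain ⟨P, hP⟩ := exists_sylow_le_of_not_dvd_index h
  obtain ⟨R, hR⟩ := (pe_of_ord hp hz).exists_le_sylow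
  obtain ⟨g, rfl⟩ := MulAction.exists_smul_eq G P R
  exact ⟨g, hP (Hall.mem_conj_smul.1 (hR (mem_zpowers z)))⟩

theorem dich {M : Type*} [Group M] [Finite M] {A : Set ℕ}
    (h : ∀ a ∈ A, ∀ b ∉ A, a.Prime → b.Prime → a ∣ Nat.card M → b ∣ Nat.card M → ¬ ∃ x : M, orderOf x = a * b)
    {m : M} (m1 : m ≠ 1) {a b : ℕ} (ha : a ∈ A) (hb : b ∉ A) (pa : a.Prime) (pb : b.Prime) (da : a ∣ Nat.card 𝐂[m])
    (db : b ∣ Nat.card 𝐂[m]) : False := by
  obtain ⟨r, hr, y, hy, yo⟩ := exists_prime_pow m1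
  have k : ∀ s, s.Prime → s ≠ r → s ∣ Nat.card 𝐂[m] → ∃ x : M, orderOf x = r * s := fun s hs e d => by
    obtain ⟨u, hu, uo⟩ := exists_ord hs d
    exact ⟨y * u, by rw [(comm_of_mem (cent_le_of_mem_zpowers hy hu)).orderOf_mul_eq_mul_orderOf_of_coprime
      (cop_ord hr hs e.symm yo uo), yo, uo]⟩
  by_cases e : r ∈ A
  · exact h r e b hb hr pb (yo ▸ orderOf_dvd_natCard y) (db.trans (card_subgroup_dvd_card _)) (k b pb (fun c => hb (c ▸ e)) db)
  · exact h a ha r e pa hr (da.trans (card_subgroup_dvd_card _)) (yo ▸ orderOf_dvd_natCard y)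
      (mul_comm r a ▸ k a pa (fun c => e (c ▸ ha)) da)

theorem side {G : Type*} [Group G] [Finite G] {L : ℕ} {w : G → ℕ} (hw : ∀ g, cs g * w g = L) (w1 : ∀ g, w g ≠ 1)
    (L0 : L ≠ 0) {A : Set ℕ} (h : ∀ g ≠ 1, ∀ a ∈ A, ∀ b ∉ A, a.Prime → b.Prime → a ∣ w g → b ∣ w g → False)
    {q : ℕ} (hq : q.Prime) (qA : q ∉ A) (q1 : q ∣ L) (q2 : q ∣ Nat.card G) {p k : ℕ} (hp : p.Prime) (pA : p ∈ A) (p1 : p ∣ L)
    (p2 : p ^ (k + 1) ∣ Nat.card G) : p ^ (k + 1) ∣ L := by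
  have pq : p ≠ q := fun e => qA (e ▸ pA)
  have mono : ∀ x y : G, cs x ∣ cs y → w y ∣ w x := fun x y ⟨c, hc⟩ =>
    ⟨c, Nat.eq_of_mul_eq_mul_left (cs_pos x) (by rw [hw, ← hw y, hc]; ring)⟩
  have cen : ∀ (r : ℕ) (x : G), r.Prime → r ∣ L → ¬ r ∣ cs x → r ∣ w x := fun r x hr a b =>
    (hr.dvd_mul.1 (hw x ▸ a)).resolve_left b
  obtain ⟨y, yo, hy⟩ := exists_pc' hq q2
  have ty : ∀ a ∈ A, a.Prime → ¬ a ∣ w y := fun a ha pa d => h y (ne_one_of_ord hq yo) a ha q qA pa hq d (cen q y hq q1 hy)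
  have both : ∀ u ∈ 𝐂[y], orderOf u = p → ∃ b ∉ A, b.Prime ∧ b ∣ w u := fun u hu uo => by
    obtain ⟨r, hr, d⟩ := Nat.exists_prime_and_dvd (w1 (y * u))
    have c := cop_ord hq hp pq.symm yo uo
    exact ⟨r, fun e => ty r e hr (d.trans (mono _ _ (cs_dvd_mul_left (comm_of_mem hu) c))), hr,
      d.trans (mono _ _ (cs_dvd_mul_right (comm_of_mem hu) c))⟩
  by_cases d : p ∣ Nat.card 𝐂[y]
  swap
  · exact (((hp.coprime_iff_not_dvd.2 d).pow_left _).dvd_of_dvd_mul_left ((card_mul_index 𝐂[y]).symm ▸ p2)).trans ⟨_, (hw y).symm⟩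
  exfalso
  obtain ⟨x, hx, xo⟩ := exists_ord hp d
  obtain ⟨z, zo, hz, zc⟩ := exists_pc hp ((dvd_pow_self p k.succ_ne_zero).trans p2) (pe_of_ord hp xo)
  obtain ⟨b, b1, b2, b3⟩ := both x hx xo
  have e := cs_mul_of_coprime (comm_of_mem (mem_cent_comm.1 hx)) (cop_ord hp hq pq xo yo)
  obtain ⟨g, hg⟩ := conj_mem (G := 𝐂[x]) hp (H := (𝐂[y]).subgroupOf 𝐂[x]) (fun c => h x (ne_one_of_ord hp xo) p pA b b1 hp b2
    (c.trans ⟨w (x * y), Nat.eq_of_mul_eq_mul_left (cs_pos x) (by rw [hw, ← hw (x * y), e, relIndex]; ring)⟩) b3)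
    (z := ⟨z, mem_cent_comm.1 hz⟩) (by rw [← orderOf_coe, zo])
  have o : orderOf ((g : G)⁻¹ * z * g) = p := by simpa using (MulEquiv.orderOf_eq (MulAut.conj (g : G)⁻¹) z).trans zo
  obtain ⟨c, c1, c2, c3⟩ := both _ hg o
  exact h _ (ne_one_of_ord hp o) p pA c c1 hp c2 (cen p _ hp p1 (by rwa [← cs_conj (g : G)⁻¹ z, inv_inv] at zc)) c3

/-- Let G and M be finite groups with trivial centres and the same set of conjugacy class sizes, and suppose the prime graph of M is disconnected: the prime divisors of #M split into two non-empty parts such that M has no element of order pq with p in one part and q in the other. Then #G = #M. -/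
theorem result {G M : Type*}
    [Group G] [Finite G] [Group M] [Finite M] (hZG : Subgroup.center G = ⊥) (hZM : Subgroup.center M = ⊥)
    (h : Set.range (fun g : G => (Subgroup.centralizer ({g} : Set G)).index) = Set.range (fun g : M => (Subgroup.centralizer ({g} : Set M)).index))
    (hdisc : ∃ A : Set ℕ, (∃ a ∈ A, a.Prime ∧ a ∣ Nat.card M) ∧ (∃ b ∉ A, b.Prime ∧ b ∣ Nat.card M) ∧
      ∀ a ∈ A, ∀ b ∉ A, a.Prime → b.Prime → a ∣ Nat.card M → b ∣ Nat.card M → ¬ ∃ x : M, orderOf x = a * b) :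
    Nat.card G = Nat.card M := by
  obtain ⟨A, ⟨a, a1, a2, a3⟩, ⟨b, b1, b2, b3⟩, hA⟩ := hdisc
  choose f hf using fun g : G => h.le ⟨g, rfl⟩
  choose f' hf' using fun m : M => h.ge ⟨m, rfl⟩
  dsimp only at hf hf'
  have hw : ∀ g, cs g * Nat.card 𝐂[f g] = Nat.card M := fun g => by rw [mul_comm, ← hf g, card_mul_index]
  have : Nontrivial M := Finite.one_lt_card_iff_nontrivial.1 (a2.one_lt.trans_le (Nat.le_of_dvd Nat.card_pos a3))
  have w1 : ∀ g, Nat.card 𝐂[f g] ≠ 1 := fun g e => by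
    obtain ⟨u, hu⟩ := exists_ne (1 : M)
    have e1 : f g = 1 := mem_bot.1 (card_eq_one.1 e ▸ self_mem_cent _)
    exact hu (mem_bot.1 (card_eq_one.1 e ▸ mem_cent_iff.2 (by simp [e1])))
  have f1 : ∀ g ≠ 1, f g ≠ 1 := fun g e c => e (mem_bot.1 (hZG ▸ cs_eq_one_iff.1 (by rw [← hf g, c]; exact cs_one)))
  have d1 : Nat.card M ∣ Nat.card G := (Nat.dvd_iff_prime_pow_dvd_dvd _ _).2 fun p k hp d => by
    rcases k with _ | k
    · simp
    have k : ∀ m : M, ¬ p ∣ Nat.card 𝐂[m] → p ^ (k + 1) ∣ Nat.card G := fun m e =>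
      (((hp.coprime_iff_not_dvd.2 e).pow_left _).dvd_of_dvd_mul_left ((card_mul_index 𝐂[m]).symm ▸ d)).trans
        (hf' m ▸ cs_dvd_card _)
    by_cases e : p ∈ A
    · obtain ⟨m, -, mo⟩ := exists_ord b2 (H := (⊤ : Subgroup M)) (by rwa [card_top])
      exact k m fun c => dich hA (ne_one_of_ord b2 mo) e b1 hp b2 c (mo ▸ ord_dvd_cc m)
    · obtain ⟨m, -, mo⟩ := exists_ord a2 (H := (⊤ : Subgroup M)) (by rwa [card_top])
      exact k m fun c => dich hA (ne_one_of_ord a2 mo) a1 e a2 hp (mo ▸ ord_dvd_cc m) c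
  refine Nat.dvd_antisymm ((Nat.dvd_iff_prime_pow_dvd_dvd _ _).2 fun p k hp d => ?_) d1
  rcases k with _ | k
  · simp
  have p1 : p ∣ Nat.card M := by
    by_contra e
    have := Fact.mk hp
    obtain ⟨P⟩ : Nonempty (Sylow p G) := inferInstance
    exact P.ne_bot_of_dvd_card ((dvd_pow_self p k.succ_ne_zero).trans d) (eq_bot_iff.2 (hZG ▸
      sylow_le_center_of_forall_not_dvd P fun g c => e (c.trans ⟨_, (hw g).symm⟩)))
  by_cases e : p ∈ A
  · exact side hw w1 Nat.card_pos.ne' (fun g g1 a ha b hb => dich hA (f1 g g1) ha hb) b2 b1 b3 (b3.trans d1) hp e p1 d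
  · exact side hw w1 Nat.card_pos.ne' (A := Aᶜ) (fun g g1 a ha b hb pa pb da db =>
      dich hA (f1 g g1) (not_not.1 hb) ha pb pa db da) a2 (not_not.2 a1) a3 (a3.trans d1) hp e p1 d

end Cfsg.Agent.S4184
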