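import Cfsg.Statements.S4186
import Cfsg.Agent.Lib.Hall.RealElt

set_option autoImplicit false
open Cfsg

namespace Cfsg.Agent.S4186

open scoped Pointwise
open Cfsg.Lib Cfsg.Lib.Hall

/-- Let T and X be subgroups of a group with T a finite 2-group normalizing X but not centralizing it. Then some element of T inverts some non-identity element of X under conjugation. -/
theorem result {G : Type*} [Group G] (T X : Subgroup G) [Finite ↥T] (hT : IsPGroup 2 ↥T) (hTN : T ≤ Subgroup.normalizer (X : Set G)) (hTC : ¬ T ≤ Subgroup.centralizer (X : Set G)) : ∃ t ∈ T, ∃ x ∈ X, x ≠ 1 ∧ t * x * t⁻¹ = x⁻¹ := by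
  classical
  obtain ⟨s, hsT, hs⟩ := SetLike.not_le_iff_exists.mp hTC
  have hex : ∃ k : ℕ, s ^ 2 ^ k ∈ Subgroup.centralizer (X : Set G) := by
    obtain ⟨k, hk⟩ := hT ⟨s, hsT⟩
    refine ⟨k, ?_⟩
    have : s ^ 2 ^ k = 1 := by simpa using congrArg Subtype.val hk
    rw [this]; exact one_mem _
  have h0 : Nat.find hex ≠ 0 := by
    intro h
    have := Nat.find_spec hex
    rw [h] at this
    exact hs (by simpa using this)
  obtain ⟨k, hk⟩ := Nat.exists_eq_succ_of_ne_zero h0
  have h1 := Nat.find_spec hex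
  have h2 := Nat.find_min hex (m := k) (by omega)
  rw [hk, pow_succ, pow_mul] at h1
  set t := s ^ 2 ^ k
  have htT : t ∈ T := T.pow_mem hsT _
  rw [Subgroup.mem_centralizer_iff] at h2
  push Not at h2
  obtain ⟨y, hy, hyt⟩ := h2
  refine ⟨t, htT, y⁻¹ * (t * y * t⁻¹),
    X.mul_mem (X.inv_mem hy) (Core.conj_mem_of_mem_normalizer (hTN htT) hy), ?_, ?_⟩
  · intro h
    apply hyt
    rw [inv_mul_eq_one] at h
    calc y * t = t * y * t⁻¹ * t := by rw [← h]
      _ = t * y := by group
  · have := h1 y hy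
    calc t * (y⁻¹ * (t * y * t⁻¹)) * t⁻¹ = t * y⁻¹ * t⁻¹ * (t ^ 2 * y) * (t ^ 2)⁻¹ := by
          rw [pow_two]; group
      _ = _ := by rw [← this]; group

end Cfsg.Agent.S4186
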