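import Cfsg.Statements.S4188
import Cfsg.Agent.Lib.PGrp.TwoMax
import Cfsg.Agent.Lib.PGrp.Cyclic
import Cfsg.Agent.Lib.Coprime.Action
import Cfsg.Agent.S2277

set_option autoImplicit false
open Cfsg

namespace Cfsg.Agent.S4188

open Subgroup Cfsg.Lib Cfsg.Lib.Coprime Cfsg.Agent.S2277
open scoped Pointwise IsMulCommutative

universe u

theorem d_le {P Q : Type*} [Group P] [Group Q] [Finite P] (hP : IsPGroup 2 P) (f : P →* Q)
    (hf : Function.Surjective f) (K : Subgroup P) (hK : f.ker = K) :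
    (frattini P).index ≤ (frattini Q).index * (frattini K).index := by
  subst hK
  rw [← relIndex_mul_index (le_sup_left : frattini P ≤ frattini P ⊔ f.ker), relIndex_sup_left,
    ← PGrp.map_frattini_of_surjective hP f hf, index_map, f.range_eq_top_of_surjective hf,
    index_top, mul_one, mul_comm]
  apply Nat.mul_le_mul_left
  apply index_antitone
  exact map_le_iff_le_comap.1 (PGrp.map_frattini_le_frattini hP f.ker)

theorem index_le_card {P : Type*} [Group P] [Finite P] (H : Subgroup P) : H.index ≤ Nat.card P :=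
  Nat.le_of_dvd Nat.card_pos H.index_dvd_card

def Good (n a c : ℕ) : Prop := (n = 3 → c ≤ 2 ∧ a ≤ 2) ∧ (n ≠ 3 → 2 * a ≤ n)

def Claim (n : ℕ) : Prop := ∀ (V : Type u) [CommGroup V] [Finite V] [Nontrivial V], Nat.card V = n →
  Odd n → ∀ (P : Type u) [Group P] [Finite P], IsPGroup 2 P → ∀ φ : P →* MulAut V,
    Function.Injective φ → Good n (frattini P).index (Nat.card P)

theorem chain {V : Type u} [CommGroup V] [Finite V] (ih : ∀ m < Nat.card V, Claim.{u} m)
    (hodd : Odd (Nat.card V)) {P : Type u} [Group P] [Finite P] (hP : IsPGroup 2 P)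
    (φ : P →* MulAut V) (hφ : Function.Injective φ) (U : Subgroup V) (hU0 : U ≠ ⊥) (hU1 : U ≠ ⊤)
    (hU : ∀ g, ∀ x ∈ U, φ g x ∈ U) :
    ∃ a b c d, (frattini P).index ≤ a * b ∧ Nat.card P = c * d ∧ Good (Nat.card U) a c ∧
      Good U.index b d := by
  set f := subAut φ U hU with hf
  have hmul := U.index_mul_card
  have hU0' : 1 < Nat.card U := (one_lt_card_iff_ne_bot U).2 hU0
  have hU1' : 1 < U.index := one_lt_index_of_ne_top hU1
  haveI : Nontrivial U := (nontrivial_iff_ne_bot U).2 hU0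
  haveI : Nontrivial (V ⧸ U) := QuotientGroup.nontrivial_iff.2 hU1
  refine ⟨(frattini f.range).index, (frattini f.ker).index, Nat.card f.range, Nat.card f.ker,
    d_le hP f.rangeRestrict f.rangeRestrict_surjective _ (MonoidHom.ker_rangeRestrict f), ?_, ?_, ?_⟩
  · rw [← index_ker, index_mul_card]
  · exact ih _ (by nlinarith) U rfl (hodd.of_dvd_nat U.card_subgroup_dvd_card) f.range
      (hP.of_surjective _ f.rangeRestrict_surjective) f.range.subtype f.range.subtype_injective
  · refine ih U.index (by nlinarith) (V ⧸ U) rfl (hodd.of_dvd_nat U.index_dvd_card) f.ker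
      (hP.to_subgroup _) ((quotAut φ U hU).comp f.ker.subtype) ?_
    rw [injective_iff_map_eq_one]
    intro k hk
    have hk' := (mem_ker_quotAut φ U hU k).1 hk
    apply Subtype.ext
    apply hφ
    rw [coe_one, map_one]
    ext x
    obtain ⟨n, hn⟩ := hP (k : P)
    have := fix_of_mul (p := 2) (Nat.coprime_two_right.2 hodd) (φ k) n
      (by rw [← map_pow, hn, map_one]) x (x⁻¹ * φ k x)
      (congrArg Subtype.val (MulEquiv.congr_fun (MonoidHom.mem_ker.1 k.2) ⟨_, hk' x⟩)) (by group)
    rw [inv_mul_eq_one] at this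
    exact this.symm

theorem inv_of_fpf {V : Type*} [CommGroup V] (a : MulAut V) (ha : a * a = 1) (h : fx a = ⊥) (v : V) :
    a v = v⁻¹ := by
  have : a v * v ∈ fx a := by
    rw [mem_fx, map_mul, ← MulAut.mul_apply, ha, MulAut.one_apply, mul_comm]
  rw [h, mem_bot] at this
  exact eq_inv_of_mul_eq_one_left this

theorem claim (n : ℕ) : Claim.{u} n := by
  induction n using Nat.strong_induction_on with
  | _ n ih =>
  intro V _ _ _ hn hodd P _ _ hP φ hφ
  subst hn
  have hcard : (Nat.card V).Prime → Nat.card P ≤ Nat.card V - 1 := by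
    intro h
    haveI := Fact.mk h
    haveI : IsCyclic V := isCyclic_of_prime_card (p := Nat.card V) rfl
    rw [← Nat.totient_prime h, ← IsCyclic.card_mulAut]
    exact Nat.card_le_card_of_injective φ hφ
  have h1 : 1 < Nat.card V := Finite.one_lt_card
  by_cases h3 : Nat.card V = 3
  · have := hcard (h3 ▸ Nat.prime_three)
    rw [h3] at this ⊢
    exact ⟨fun _ => ⟨this, (index_le_card _).trans this⟩, fun h => absurd rfl h⟩
  refine ⟨fun h => absurd h h3, fun _ => ?_⟩
  by_cases hirr : ∀ U : Subgroup V, (∀ g, ∀ x ∈ U, φ g x ∈ U) → U = ⊥ ∨ U = ⊤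
  swap
  · push Not at hirr
    obtain ⟨U, hU, hU0, hU1⟩ := hirr
    obtain ⟨a, b, c, d, h1, -, ⟨h2, h3⟩, ⟨h4, h5⟩⟩ := chain ih hodd hP φ hφ U hU0 hU1 hU
    rw [← U.index_mul_card]
    by_cases e1 : Nat.card U = 3 <;> by_cases e2 : U.index = 3
    · have := (h2 e1).2; have := (h4 e2).2; rw [e1, e2]; nlinarith
    · have := (h2 e1).2; have := h5 e2; rw [e1]; nlinarith
    · have := h3 e1; have := (h4 e2).2; rw [e2]; nlinarith
    · have := h3 e1; have := h5 e2; nlinarith
  have hfx : ∀ x : P, x ≠ 1 → fx (φ x) ≠ ⊤ := by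
    intro x hx h
    apply hx
    apply hφ
    rw [map_one]
    ext v
    exact mem_fx.1 (h ▸ mem_top v : v ∈ fx (φ x))
  have hconj : ∀ g x : P, ∀ v ∈ fx (φ x), φ g v ∈ fx (φ (g * x * g⁻¹)) := by
    intro g x v hv
    rw [mem_fx] at hv ⊢
    simp [hv]
  by_cases hA : ∀ A : Subgroup P, A.Normal → IsElementaryAbelian 2 A → Nat.card A ≠ 2 ^ 2
  · rcases PGrp.isCyclic_or_max2 hP hA with h | ⟨-, a, b, m, h, -⟩
    · have : (frattini P).index ≤ 2 := by
        obtain ⟨g, hg⟩ := IsCyclic.exists_generator (α := P)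
        have h1 : orderOf (g : P ⧸ frattini P) = Nat.card (P ⧸ frattini P) := by
          apply orderOf_eq_card_of_forall_mem_zpowers
          intro x
          obtain ⟨x, rfl⟩ := QuotientGroup.mk_surjective x
          obtain ⟨k, rfl⟩ := hg x
          exact ⟨k, by simp⟩
        rw [index, ← h1]
        apply Nat.le_of_dvd two_pos
        apply orderOf_dvd_of_pow_eq_one
        rw [← QuotientGroup.mk_pow, QuotientGroup.eq_one_iff]
        exact PGrp.pow_mem_frattini hP g
      obtain ⟨k, hk⟩ := hodd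
      omega
    · have h4 : (frattini P).index ≤ 4 :=
        h.index_commutator ▸ index_antitone (PGrp.commutator_le_frattini hP)
      by_contra hlt
      have h8 : 8 ≤ Nat.card P := by
        rw [h.card]
        exact Nat.pow_le_pow_right (n := 2) two_pos (show 3 ≤ m + 3 by omega)
      obtain ⟨k, hk⟩ := hodd
      have : Nat.card V = 5 ∨ Nat.card V = 7 := by omega
      rcases this with e | e
      · have := hcard (e ▸ Nat.prime_five); omega
      · have := hcard (e ▸ Nat.prime_seven); omega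
  push Not at hA
  obtain ⟨A, hAn, hA, hAc⟩ := hA
  have hsq : ∀ x ∈ A, φ x * φ x = 1 := fun x hx => by rw [← map_mul, ← pow_two, hA.2 x hx, map_one]
  obtain ⟨a, ha, ha1, hW0⟩ : ∃ a ∈ A, a ≠ 1 ∧ fx (φ a) ≠ ⊥ := by
    by_contra hcon
    push Not at hcon
    have : Nat.card A ≤ 2 := by
      by_contra hlt
      push Not at hlt
      haveI := Fintype.ofFinite A
      rw [Nat.card_eq_fintype_card, Fintype.two_lt_card_iff] at hlt
      obtain ⟨x, y, z, hxy, hxz, hyz⟩ := hlt
      have e1 : ((x⁻¹ * y : A) : P) ≠ 1 := fun h => hxy (inv_mul_eq_one.1 (Subtype.ext h))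
      have e2 : ((x⁻¹ * z : A) : P) ≠ 1 := fun h => hxz (inv_mul_eq_one.1 (Subtype.ext h))
      apply hyz
      apply mul_left_cancel (a := x⁻¹)
      apply Subtype.ext
      apply hφ
      ext v
      rw [inv_of_fpf _ (hsq _ (x⁻¹ * y).2) (hcon _ (x⁻¹ * y).2 e1),
        inv_of_fpf _ (hsq _ (x⁻¹ * z).2) (hcon _ (x⁻¹ * z).2 e2)]
    omega
  set H := centralizer ({a} : Set P) with hH
  have hmH : ∀ g, g ∈ H ↔ g * a = a * g := fun g => mem_centralizer_singleton_iff
  have hmH' : ∀ g ∈ H, g * a * g⁻¹ = a := fun g hg => by rw [(hmH g).1 hg, mul_inv_cancel_right]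
  have hHtop : H ≠ ⊤ := by
    intro h
    refine (hirr (fx (φ a)) fun g v hv => ?_).elim hW0 (hfx a ha1)
    have := hconj g a v hv
    rwa [hmH' g (h ▸ mem_top g)] at this
  have hidx : H.index = 2 := by
    have h1 := PGrp.index_centralizer_le_of_card_le_sq hP A hAc.le
    have h2 : H.index ≤ (centralizer (A : Set P)).index :=
      index_antitone (centralizer_le (Set.singleton_subset_iff.2 ha))
    have h3 := one_lt_index_of_ne_top hHtop
    omega
  obtain ⟨g, hg⟩ : ∃ g, g ∉ H := by
    by_contra h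
    push Not at h
    exact hHtop (eq_top_iff.2 fun g _ => h g)
  have hcl : ∀ t : P, t ∉ H → t * a * t⁻¹ = g * a * g⁻¹ := by
    intro t ht
    have : g⁻¹ * t ∈ H := by
      rw [mul_mem_iff_of_index_two hidx, inv_mem_iff]; tauto
    calc t * a * t⁻¹ = g * ((g⁻¹ * t) * a * (g⁻¹ * t)⁻¹) * g⁻¹ := by group
      _ = _ := by rw [hmH' _ this]
  set a' := g * a * g⁻¹ with ha'
  have hcl' : ∀ t : P, (t * a * t⁻¹ = a ∧ t * a' * t⁻¹ = a') ∨
      (t * a * t⁻¹ = a' ∧ t * a' * t⁻¹ = a) := by
    intro t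
    have e : t * a' * t⁻¹ = (t * g) * a * (t * g)⁻¹ := by rw [ha']; group
    by_cases ht : t ∈ H
    · refine Or.inl ⟨hmH' t ht, ?_⟩
      rw [e]; apply hcl
      rw [mul_mem_iff_of_index_two hidx]; tauto
    · refine Or.inr ⟨hcl t ht, ?_⟩
      rw [e]; apply hmH'
      rw [mul_mem_iff_of_index_two hidx]; tauto
  set W := fx (φ a) with hW
  set W' := fx (φ a') with hW'
  have hinf : W ⊓ W' = ⊥ := by
    refine (hirr _ fun t v hv => ?_).resolve_right fun h => hfx a ha1 (eq_top_iff.2 (h.ge.trans inf_le_left))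
    have e1 := hconj t a v (mem_inf.1 hv).1
    have e2 := hconj t a' v (mem_inf.1 hv).2
    rcases hcl' t with ⟨f1, f2⟩ | ⟨f1, f2⟩ <;> rw [f1] at e1 <;> rw [f2] at e2
    · exact mem_inf.2 ⟨e1, e2⟩
    · exact mem_inf.2 ⟨e2, e1⟩
  have hsup : W ⊔ W' = ⊤ := by
    refine (hirr _ fun t v hv => ?_).resolve_left fun h => hW0 (eq_bot_iff.2 (le_sup_left.trans h.le))
    obtain ⟨x, hx, y, hy, rfl⟩ := mem_sup.1 hv
    have e1 := hconj t a x hx
    have e2 := hconj t a' y hy
    rw [map_mul]
    rcases hcl' t with ⟨f1, f2⟩ | ⟨f1, f2⟩ <;> rw [f1] at e1 <;> rw [f2] at e2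
    · exact mul_mem (mem_sup_left e1) (mem_sup_right e2)
    · exact mul_mem (mem_sup_right e1) (mem_sup_left e2)
  have hcW : Nat.card W' = Nat.card W := by
    rw [hW', ha', map_mul, map_mul, map_inv, card_fx_conj]
  have hV : Nat.card V = Nat.card W * Nat.card W := by
    have := Hall.card_mul_set_mul_card_inf W W'
    rw [hinf, ← mul_normal, hsup, card_bot, mul_one, hcW] at this
    rw [← this, coe_top, Nat.card_univ]
  have hWi : W.index = Nat.card W :=
    Nat.eq_of_mul_eq_mul_right Nat.card_pos (W.index_mul_card.trans hV)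
  obtain ⟨x, y, c, d, e1, e2, ⟨h2, h3'⟩, ⟨h4, h5⟩⟩ := chain ih hodd (hP.to_subgroup H) (φ.comp H.subtype)
    (hφ.comp H.subtype_injective) W hW0 (hfx a ha1) (fun t v hv => by
      have := hconj t a v hv
      rwa [hmH' _ t.2] at this)
  rw [hWi] at h4 h5
  rw [hV]
  by_cases e : Nat.card W = 3
  · have f1 := (h2 e).1
    have f2 := (h4 e).1
    have f3 : Nat.card P ≤ 8 := by
      rw [← H.index_mul_card, hidx, e2]; nlinarith
    have f4 : frattini P ≠ ⊥ := by
      intro h
      apply hg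
      rw [hmH, ← commutatorElement_eq_one_iff_mul_comm, ← mem_bot, ← h]
      exact PGrp.commutator_le_frattini hP (commutator_mem_commutator (mem_top g) (mem_top a))
    have f5 := (one_lt_card_iff_ne_bot _).2 f4
    have f6 := (frattini P).index_mul_card
    rw [e]
    nlinarith
  · haveI := normal_of_index_eq_two hidx
    have f1 := d_le hP (QuotientGroup.mk' H) (QuotientGroup.mk'_surjective H) H
      (QuotientGroup.ker_mk' H)
    have f2 : (frattini (P ⧸ H)).index ≤ 2 := hidx ▸ index_le_card _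
    have f3 := h3' e
    have f4 := h5 e
    have f5 : (frattini P).index ≤ 2 * (x * y) := f1.trans (Nat.mul_le_mul f2 e1)
    nlinarith

/-- Let G be a finite group that is the semidirect product of a normal abelian subgroup N of odd order by a 2-subgroup P, and suppose N is the unique minimal normal subgroup of G. Then the index of the Frattini subgroup of P in P is at most #N − 1. -/
theorem result {G : Type*} [Group G] [Finite G] (N P : Subgroup G) (hN : N.Normal) (hNab : IsMulCommutative ↥N) (hNodd : Odd (Nat.card ↥N)) (hP : IsPGroup 2 ↥P) (hdisj : N ⊓ P = ⊥) (hprod : N ⊔ P = ⊤) (hmin : N ≠ ⊥ ∧ ∀ M : Subgroup G, M.Normal → M ≠ ⊥ → N ≤ M) : (frattini ↥P).index ≤ Nat.card ↥N - 1 := by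
  haveI : Nontrivial N := (nontrivial_iff_ne_bot N).2 hmin.1
  have hPN : P ≤ normalizer (N : Set G) := le_normalizer_of_normal
  have hinj : Function.Injective (conjAut hPN) := by
    rw [injective_iff_map_eq_one]
    intro g hg
    have hg' := (mem_ker_conjAut hPN g).1 hg
    have hn : (P ⊓ centralizer (N : Set G)).Normal := by
      refine ⟨fun x hx t => ?_⟩
      have ht : t ∈ N ⊔ P := hprod ▸ mem_top t
      obtain ⟨n, hn, y, hy, rfl⟩ := mem_sup_of_normal_left.1 ht
      have h1 : y * x * y⁻¹ ∈ P ⊓ centralizer (N : Set G) :=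
        mem_inf.2 ⟨mul_mem (mul_mem hy hx.1) (inv_mem hy),
          (inferInstance : (centralizer (N : Set G)).Normal).conj_mem _ hx.2 y⟩
      have h2 := mem_centralizer_iff.1 (mem_inf.1 h1).2 n hn
      have : n * y * x * (n * y)⁻¹ = y * x * y⁻¹ := by
        calc n * y * x * (n * y)⁻¹ = n * (y * x * y⁻¹) * n⁻¹ := by group
          _ = _ := by rw [h2]; group
      rwa [this]
    by_contra hne
    have hne' : P ⊓ centralizer (N : Set G) ≠ ⊥ := fun h =>
      hne (Subtype.ext (mem_bot.1 (h ▸ mem_inf.2 ⟨g.2, hg'⟩)))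
    have := hmin.2 _ hn hne'
    exact hmin.1 (eq_bot_iff.2 (hdisj ▸ le_inf le_rfl (this.trans inf_le_left)))
  obtain ⟨h1, h2⟩ := claim _ N rfl hNodd P hP (conjAut hPN) hinj
  by_cases e : Nat.card N = 3
  · have := (h1 e).2; omega
  · have := h2 e
    have : 1 < Nat.card N := Finite.one_lt_card
    omega

end Cfsg.Agent.S4188
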