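import Cfsg.Statements.S4189
import Cfsg.Agent.S1896
import Cfsg.Agent.Lib.PGrp.TwoMax

set_option autoImplicit false
open Cfsg

namespace Cfsg.Agent.S4189

/-- Let P be a finite non-abelian 2-group whose commutator subgroup has index 4 and whose automorphism group is not a 2-group (some automorphism has order that is not a power of 2). Then P is isomorphic to the quaternion group of order 8. -/
theorem result {P : Type*} [Group P] [Finite P] (hP : IsPGroup 2 P) (hna : ¬ IsMulCommutative P) (h4 : (commutator P).index = 4) (haut : ¬ IsPGroup 2 (MulAut P)) : Nonempty (P ≃* QuaternionGroup 2) := by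
  obtain ⟨n, hn⟩ := IsPGroup.iff_card.1 hP
  have h3 : 3 ≤ n := by
    by_contra hlt
    apply hna
    have h := Cfsg.Lib.PGrp.isMulCommutative_of_card_le_sq (p := 2) (H := (⊤ : Subgroup P))
      (hP.to_subgroup ⊤) (by rw [Subgroup.card_top, hn]; exact Nat.pow_le_pow_right two_pos (by omega))
    exact ⟨⟨Cfsg.Lib.PGrp.isMulCommutative_top_iff.1 h⟩⟩
  obtain ⟨m, rfl⟩ : ∃ m, n = m + 3 := ⟨n - 3, by omega⟩
  obtain ⟨a, b, h⟩ := Cfsg.Lib.PGrp.exists_max2_of_index_commutator hn h4
  rcases Cfsg.Agent.S1896.result hP h.isMetacyclic haut with h1 | ⟨k, ⟨e⟩⟩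
  · exact h1
  · exact absurd ⟨⟨fun x y => e.injective (by rw [map_mul, map_mul, mul_comm])⟩⟩ hna

end Cfsg.Agent.S4189
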