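import Cfsg.Statements.S4190
import Cfsg.Agent.Lib.Hall.KLb

set_option autoImplicit false
open Cfsg

namespace Cfsg.Agent.S4190

open scoped Pointwise commutatorElement
open Cfsg.Lib Cfsg.Lib.Hall

/-- Let G be a finite solvable group and p a prime dividing the index of the Fitting subgroup of G. Then the number of conjugacy classes of G is at least p/(3·log₂ p). -/
theorem result {G : Type*} [Group G] [Finite G] (hG : Group.IsSolvable G) (p : ℕ) [Fact p.Prime] (hp : p ∣ (Cfsg.fittingSubgroup G).index) : (p : ℝ) / (3 * Real.logb 2 p) ≤ Nat.card (ConjClasses G) := by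
  have hp' : p.Prime := Fact.out
  have h := KL.main hp' _ G (Nat.lt_succ_self _) hp
  have h1 : (1 : ℝ) < p := by exact_mod_cast hp'.one_lt
  have h2 : 0 < Real.logb 2 p := Real.logb_pos one_lt_two h1
  rw [div_le_iff₀ (by positivity)]
  have h3 : (2 : ℝ) ^ p ≤ (p : ℝ) ^ (3 * Nat.card (ConjClasses G)) := by exact_mod_cast h
  have h4 := Real.logb_le_logb_of_le one_lt_two (by positivity) h3
  rw [Real.logb_pow, Real.logb_pow, Real.logb_self_eq_one one_lt_two] at h4
  push_cast at h4
  linarith

end Cfsg.Agent.S4190
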