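import Cfsg.Statements.S4192
import Cfsg.Agent.Lib.Exc.Real3
import Cfsg.Agent.S3863

set_option autoImplicit false
open Cfsg

namespace Cfsg.Agent.S4192

open Subgroup Cfsg.Lib Cfsg.Lib.Hall Cfsg.Lib.Exc.RealCs

/-- Let G be a finite group; call an element real when it is conjugate to its inverse, and say that the real-class-size graph of a group is disconnected when the primes dividing its real class sizes split into two non-empty disjoint parts with no real class size divisible by a prime from each part. If the real-class-size graph of G is disconnected, then some real class size of G is even, and either the Sylow 2-subgroups of G are normal, or the subgroup K generated by the 2-elements of G (the smallest normal subgroup of odd index) again has a disconnected real-class-size graph and every real class size of K is odd or a power of 2. -/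
theorem result {G : Type*} [Group G] [Finite G] (h : (∃ π₁ π₂ : Set ℕ, π₁.Nonempty ∧ π₂.Nonempty ∧ Disjoint π₁ π₂ ∧ (∀ q ∈ π₁ ∪ π₂, q.Prime ∧ ∃ n ∈ {n : ℕ | ∃ x : G, IsConj x x⁻¹ ∧ (Subgroup.centralizer ({x} : Set G)).index = n}, q ∣ n) ∧ (∀ q : ℕ, q.Prime → (∃ n ∈ {n : ℕ | ∃ x : G, IsConj x x⁻¹ ∧ (Subgroup.centralizer ({x} : Set G)).index = n}, q ∣ n) → q ∈ π₁ ∨ q ∈ π₂) ∧ ∀ a ∈ π₁, ∀ b ∈ π₂, ∀ n ∈ {n : ℕ | ∃ x : G, IsConj x x⁻¹ ∧ (Subgroup.centralizer ({x} : Set G)).index = n}, ¬ (a ∣ n ∧ b ∣ n))) : (∃ n ∈ {n : ℕ | ∃ x : G, IsConj x x⁻¹ ∧ (Subgroup.centralizer ({x} : Set G)).index = n}, 2 ∣ n) ∧ ((∀ P : Sylow 2 G, (P : Subgroup G).Normal) ∨ ((∃ π₁ π₂ : Set ℕ, π₁.Nonempty ∧ π₂.Nonempty ∧ Disjoint π₁ π₂ ∧ (∀ q ∈ π₁ ∪ π₂, q.Prime ∧ ∃ n ∈ {n : ℕ | ∃ x : ↥(Subgroup.closure {g : G | ∃ k : ℕ, orderOf g = 2 ^ k}), IsConj x x⁻¹ ∧ (Subgroup.centralizer ({x} : Set ↥(Subgroup.closure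 {g : G | ∃ k : ℕ, orderOf g = 2 ^ k}))).index = n}, q ∣ n) ∧ (∀ q : ℕ, q.Prime → (∃ n ∈ {n : ℕ | ∃ x : ↥(Subgroup.closure {g : G | ∃ k : ℕ, orderOf g = 2 ^ k}), IsConj x x⁻¹ ∧ (Subgroup.centralizer ({x} : Set ↥(Subgroup.closure {g : G | ∃ k : ℕ, orderOf g = 2 ^ k}))).index = n}, q ∣ n) → q ∈ π₁ ∨ q ∈ π₂) ∧ ∀ a ∈ π₁, ∀ b ∈ π₂, ∀ n ∈ {n : ℕ | ∃ x : ↥(Subgroup.closure {g : G | ∃ k : ℕ, orderOf g = 2 ^ k}), IsConj x x⁻¹ ∧ (Subgroup.centralizer ({x} : Set ↥(Subgroup.closure {g : G | ∃ k : ℕ, orderOf g = 2 ^ k}))).index = n}, ¬ (a ∣ n ∧ b ∣ n)) ∧ ∀ n ∈ {n : ℕ | ∃ x : ↥(Subgroup.closure {g : G | ∃ k : ℕ, orderOf g = 2 ^ k}), IsConj x x⁻¹ ∧ (Subgroup.centralizer ({x} : Set ↥(Subgroup.closure {g : G | ∃ k : ℕ, orderOf g = 2 ^ k}))).index = n}, Odd n ∨ ∃ j : ℕ, n = 2 ^ j)) := by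
  obtain ⟨π₁, π₂, h₁, h₂, hd, hs, hc, hn⟩ := h
  have D := disc_of h₁ h₂ hc hs hd hn
  obtain ⟨z, z1, z2⟩ := D.even
  obtain ⟨sol, t, t2, t3, t4, t5⟩ := D.main'
  refine ⟨⟨_, ⟨z, z1, rfl⟩, z2⟩, or_iff_not_imp_left.2 fun hP => ?_⟩
  set K := closure {g : G | ∃ k : ℕ, orderOf g = 2 ^ k} with hK
  have mK : ∀ g, IsPGroup 2 (zpowers g) → g ∈ K := fun g e => subset_closure ((isPGroup_zpowers_iff Nat.prime_two).1 e)
  have : K.Normal := ⟨fun a ha g => (closure_le (K.comap (MulAut.conj g).toMonoidHom)).2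
    (fun u (hu : ∃ k, _) => subset_closure (show ∃ k, orderOf (g * u * g⁻¹) = 2 ^ k by rwa [Exc.Rank.ord_conj])) ha⟩
  obtain ⟨P, hP⟩ := not_forall.1 hP
  have oK : Odd K.index := odd_iff.2 (not_dvd_index_of_sylow_le P fun g hg => mK g (isPGroup_zpowers_of_mem P.2 hg))
  obtain ⟨x, x1, xo, hx⟩ : ∃ x : G, x ≠ 1 ∧ Odd (orderOf x) ∧ IsConj x x⁻¹ := by
    by_contra! e
    exact hP (sylow_two_normal_of_no_real e P)
  obtain ⟨xK, hx'⟩ := (S3863.result x hx).2.2 K oK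
  have tK := mK t (Core.isPGroup_zpowers_of_pow_eq_one (k := 1) t2)
  have L : ∀ y : K, IsConj y y⁻¹ → Odd (cs y) ∨ ∃ j, cs y = 2 ^ j := fun y hy =>
    (t5 y (IsConj.map_inv K.subtype hy)).imp (fun e => odd_iff.2 fun d => e (d.trans (cs_subgroup_dvd y))) fun e =>
      ⟨_, Nat.eq_prime_pow_of_unique_prime_dvd (cs_ne_zero y) fun {r} hr d => by
        by_contra r2
        have := Fact.mk hr
        obtain ⟨u, u1, u2, u3⟩ := exists_real (G := K) hr r2 inferInstance (fun H hH => eq_top_iff.2 fun a _ => by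
          obtain ⟨b, hb, e⟩ := (closure_le (H.map K.subtype)).2 (fun u hu => ⟨⟨u, subset_closure hu⟩,
            hH _ ((isPGroup_zpowers_iff Nat.prime_two).2 (by rwa [← orderOf_coe])), rfl⟩) a.2
          exact Subtype.ext e ▸ hb) (d.trans (cs_dvd_card y))
        obtain ⟨R, hR⟩ := exists_sylow_le_of_not_dvd_index (H := centralizer {t}) fun c =>
          hr.one_lt.ne' (Nat.eq_one_of_dvd_coprimes e (d.trans (cs_subgroup_dvd y)) c)
        obtain ⟨k, hk⟩ := (isPGroup_zpowers_iff hr).1 u3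
        obtain ⟨R', hR'⟩ := ((isPGroup_zpowers_iff hr).2 ⟨k, (orderOf_coe u).trans hk⟩).exists_le_sylow
        obtain ⟨g, rfl⟩ := MulAction.exists_smul_eq G R R'
        have c := mem_cent_iff.1 (hR (Hall.mem_conj_smul.1 (hR' (mem_zpowers _))))
        refine t4 u (IsConj.map_inv K.subtype u1) (by rw [orderOf_coe, hk]; exact (hr.odd_of_ne_two r2).pow)
          (fun e => u2 (Subtype.ext e)) g ?_
        change (u : G) * _ = _
        rw [show (u : G) * (g * t * g⁻¹) = g * (g⁻¹ * u * g * t) * g⁻¹ by group, c]; group⟩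
  have tr : IsConj (⟨t, tK⟩ : K) (⟨t, tK⟩ : K)⁻¹ := by
    rw [inv_eq_of_mul_eq_one_left (a := (⟨t, tK⟩ : K)) (b := ⟨t, tK⟩) (Subtype.ext ((sq t).symm.trans t2))]
  refine ⟨⟨{2}, {q | q.Prime ∧ q ≠ 2 ∧ ∃ n ∈ {n : ℕ | ∃ y : K, IsConj y y⁻¹ ∧ cs y = n}, q ∣ n}, ⟨2, rfl⟩, ?_,
    Set.disjoint_left.2 fun q a b => b.2.1 a, ?_, fun q a b => (em (q = 2)).imp id fun c => ⟨a, c, b⟩, ?_⟩, ?_⟩
  · obtain ⟨q, a, b⟩ := Nat.exists_prime_and_dvd (n := cs (⟨t, tK⟩ : K)) fun e => t4 x hx xo x1 1 (by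
      simpa [commute_iff_eq] using congrArg Subtype.val (mem_center_iff.1 (cs_eq_one_iff.1 e) ⟨x, xK⟩))
    exact ⟨q, a, fun e => t3 ((e ▸ b).trans (cs_subgroup_dvd _)), _, ⟨_, tr, rfl⟩, b⟩
  · rintro q (rfl | h)
    · refine ⟨Nat.prime_two, _, ⟨_, hx', rfl⟩, by_contra fun e => x1 (eq_one_of_odd_of_sq_eq_one xo ?_)⟩
      exact congrArg Subtype.val (sq_eq_one_of_real_of_odd_cs hx' e)
    · exact ⟨h.1, h.2.2⟩
  · rintro _ rfl b hb _ ⟨y, hy, rfl⟩ ⟨c, d⟩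
    rcases L y hy with e | ⟨j, e⟩
    · exact odd_iff.1 e c
    · exact hb.2.1 ((Nat.prime_dvd_prime_iff_eq hb.1 Nat.prime_two).1 (hb.1.dvd_of_dvd_pow (e ▸ d)))
  · rintro _ ⟨y, hy, rfl⟩
    exact L y hy

end Cfsg.Agent.S4192
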