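import Cfsg.Statements.S4193
import Cfsg.Agent.Lib.Hall.FpfB
import Cfsg.Agent.Lib.Hall.MaxCent
import Cfsg.Agent.Lib.Hall.FC6

set_option autoImplicit false
open Cfsg

open Subgroup Cfsg.Lib
open scoped commutatorElement
open Cfsg.Lib.Transfer
namespace Cfsg.Agent.S4193

theorem cent_of_real {G : Type*} [Group G] [Finite G] {g : G} (ho : Odd (orderOf g)) (Q : Subgroup G) :
    IsPGroup 2 Q → g ∈ normalizer (Q : Set G) → (∀ x ∈ Q, ∀ c ∈ Q, c * x * c⁻¹ = x⁻¹ → Commute x g) →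
      g ∈ centralizer (Q : Set G) := by
  haveI : Fact (Nat.Prime 2) := ⟨Nat.prime_two⟩
  induction Q using WellFoundedLT.induction with | _ Q ih => ?_
  intro hQ hg h
  by_contra hn
  obtain ⟨k, hk⟩ := IsPGroup.iff_card.1 hQ
  obtain ⟨-, h2, -, h4⟩ := Hall.fb_min_props (B := zpowers g) (P := zpowers g) hQ.isNilpotent le_rfl le_normalizer
    (zpowers_le.2 hg) (by rw [hk, Nat.card_zpowers]; exact (Nat.coprime_two_right.2 ho).pow_right _)
    (fun e => hn (zpowers_le.1 e)) fun S hS hSn => zpowers_le.2 (ih S hS (hQ.to_le hS.le) (zpowers_le.1 hSn)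
      fun x hx c hc => h x (hS.le hx) c (hS.le hc))
  have zc : ∀ x ∈ Q, Commute x g → ∀ y ∈ Q, Commute x y := fun x hx e y hy =>
    (h2 ⟨hx, Hall.le_cent_iff.1 (zpowers_le.2 (Hall.mem_cent_iff.2 e.symm))⟩ y hy).symm
  have cz : ∀ x ∈ Q, ∀ y ∈ Q, Commute (x * y * x⁻¹ * y⁻¹) g := fun x hx y hy =>
    h4 (mem_zpowers g) _ (commutator_mem_commutator hx hy)
  obtain ⟨a, ha, h1, h3⟩ : ∃ a ∈ Q, ¬ Commute a g ∧ Commute (a ^ 2) g := by
    by_contra hc
    push Not at hc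
    refine hn fun b hb => by_contra fun e => ?_
    have : ∀ j, ¬ Commute (b ^ 2 ^ j) g := fun j => by
      induction j with
      | zero => rwa [pow_zero, pow_one]
      | succ j ih => rw [pow_succ, pow_mul]; exact hc _ (pow_mem hb _) ih
    obtain ⟨j, hj⟩ := hQ ⟨b, hb⟩
    exact this j (by rw [show b ^ 2 ^ j = 1 from congrArg Subtype.val hj]; exact Commute.one_left g)
  have a2 := zc _ (pow_mem ha 2) h3
  have hw : ∀ c ∈ Q, a⁻¹ * c * a * c⁻¹ ∈ Q ∧ Commute (a⁻¹ * c * a * c⁻¹) g := fun c hc =>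
    ⟨mul_mem (mul_mem (mul_mem (inv_mem ha) hc) ha) (inv_mem hc), by simpa using cz _ (inv_mem ha) _ hc⟩
  have w2 : ∀ c ∈ Q, (a⁻¹ * c * a * c⁻¹) ^ 2 = 1 := fun c hc => by
    have e1 := zc _ (hw c hc).1 (hw c hc).2 a ha
    calc _ = a⁻¹ * (a * (a⁻¹ * c * a * c⁻¹)) * (a⁻¹ * c * a * c⁻¹) := by rw [sq]; group
      _ = a⁻¹ * a⁻¹ * (c * a * c⁻¹ * a * a⁻¹ * c * a * c⁻¹) := by rw [← e1.eq]; group
      _ = (a ^ 2)⁻¹ * (c * a ^ 2) * c⁻¹ := by rw [sq]; group
      _ = 1 := by rw [← (a2 c hc).eq]; group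
  have key : ∀ k, (a * g) ^ k * (g ^ k)⁻¹ ∈ Q ∧
      ∃ c ∈ Q, ((a * g) ^ k * (g ^ k)⁻¹) ^ 2 = (a ^ 2) ^ k * (a⁻¹ * c * a * c⁻¹) := fun k => by
    induction k with
    | zero => exact ⟨by simpa using one_mem Q, 1, one_mem Q, by simp⟩
    | succ k ih =>
      obtain ⟨hM, c, hc, e⟩ := ih
      have e1 : (a * g) ^ (k + 1) * (g ^ (k + 1))⁻¹ = a * (g * ((a * g) ^ k * (g ^ k)⁻¹) * g⁻¹) := by
        rw [pow_succ' (a * g), pow_succ' g]; group
      have hM' := conj_mem_of_mem_normalizer hg hM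
      have e2 : (g * ((a * g) ^ k * (g ^ k)⁻¹) * g⁻¹) ^ 2 = (a ^ 2) ^ k * (a⁻¹ * c * a * c⁻¹) := by
        rw [conj_pow, e, ← ((h3.pow_left k).mul_left (hw c hc).2).eq, mul_inv_cancel_right]
      rw [e1]
      generalize g * ((a * g) ^ k * (g ^ k)⁻¹) * g⁻¹ = M at *
      refine ⟨mul_mem ha hM', M * c, mul_mem hM' hc, ?_⟩
      have e3 := zc _ (hw c hc).1 (hw c hc).2 _ (inv_mem hM')
      have e4 := zc _ (pow_mem (pow_mem ha 2) k) (h3.pow_left k) _ (hw M hM').1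
      calc _ = a ^ 2 * (a⁻¹ * M * a * M⁻¹ * M ^ 2) := by rw [sq, sq, sq]; group
        _ = a ^ 2 * (a ^ 2) ^ k * (a⁻¹ * M * a * (M⁻¹ * (a⁻¹ * c * a * c⁻¹)) ) := by
          rw [e2, ← mul_assoc (a⁻¹ * M * a * M⁻¹), ← e4.eq]; simp only [mul_assoc]
        _ = _ := by rw [← e3.eq, ← pow_succ']; group
  obtain ⟨hM, c, hc, e⟩ := key (orderOf g)
  rw [pow_orderOf_eq_one, inv_one, mul_one] at hM e
  have c1 : Commute ((a * g) ^ orderOf g) (a * g) := Commute.pow_self _ _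
  generalize (a * g) ^ orderOf g = M at *
  have e5 : g * M * g⁻¹ = a⁻¹ * M * a * M⁻¹ * M := by
    calc _ = a⁻¹ * (a * g * M) * g⁻¹ := by group
      _ = _ := by rw [← c1.eq]; group
  have c2 : Commute M g := (Hall.mem_cent_iff.1 (Hall.mem_of_pow_mem_of_coprime (n := 2) (Nat.coprime_two_left.2 ho)
    (Hall.mem_cent_iff.2 (mul_inv_eq_iff_eq_mul.1 (by
      calc g ^ 2 * M * (g ^ 2)⁻¹ = g * (g * M * g⁻¹) * g⁻¹ := by rw [sq]; group
        _ = g * (a⁻¹ * M * a * M⁻¹) * g⁻¹ * (g * M * g⁻¹) := by nth_rw 1 [e5]; group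
        _ = (a⁻¹ * M * a * M⁻¹) ^ 2 * M := by rw [← (hw M hM).2.eq, mul_inv_cancel_right, e5, sq, ← mul_assoc]
        _ = M := by rw [w2 M hM, one_mul]))))).symm
  obtain ⟨m, hm⟩ := ho
  have c3 := zc M hM c2
  have hu : (a ^ 2) ^ m * M⁻¹ ∈ Q := mul_mem (pow_mem (pow_mem ha 2) m) (inv_mem hM)
  have cu : Commute ((a ^ 2) ^ m * M⁻¹) g := (h3.pow_left m).mul_left c2.inv_left
  have e6 : (a * ((a ^ 2) ^ m * M⁻¹)) ^ 2 * (a⁻¹ * c * a * c⁻¹) = 1 := by
    rw [← mul_assoc a, ((c3 _ (mul_mem ha (pow_mem (pow_mem ha 2) m))).symm.inv_right).mul_pow, inv_pow,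
      mul_assoc, ← (zc _ (hw c hc).1 (hw c hc).2 _ (inv_mem (pow_mem hM 2))).eq, ← mul_assoc, mul_inv_eq_one, e, hm]
    group
  have c4 := zc _ hu cu
  generalize (a ^ 2) ^ m * M⁻¹ = u at *
  refine h1 (mul_inv_cancel_right a u ▸ (h _ (mul_mem ha hu) c hc ?_).mul_left cu.inv_left)
  have e7 : (a * u) ^ 2 = a⁻¹ * c * a * c⁻¹ := by
    rw [eq_inv_of_mul_eq_one_left e6, inv_eq_iff_mul_eq_one, ← sq, w2 c hc]
  calc c * (a * u) * c⁻¹ = a * (a⁻¹ * c * a * (u * c⁻¹)) := by group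
    _ = a * (a⁻¹ * c * a * c⁻¹ * u) := by rw [(c4 _ (inv_mem hc)).eq]; group
    _ = a * u * (a * u) ^ 2 := by rw [← (c4 _ (hw c hc).1).eq, e7, ← mul_assoc]
    _ = _ := by rw [eq_inv_iff_mul_eq_one, mul_assoc, ← pow_succ, ← pow_succ', show 2 + 1 + 1 = 2 * 2 from rfl, pow_mul, e7, w2 c hc]

/-- Let G be a finite group in which the conjugacy classes of all non-central real elements (elements conjugate to their inverses) have sizes with the same 2-part, and suppose G has a Sylow 2-subgroup S such that every element of S that is conjugate in S to its inverse lies in the centre of S. Then G is solvable and the subgroup generated by the 2-elements of G (the smallest normal subgroup of odd index) has a normal 2-complement. -/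
theorem result {G : Type*} [Group G] [Finite G] (a : ℕ) (h : ∀ x : G, IsConj x x⁻¹ → x ∉ Subgroup.center G → ((Subgroup.centralizer ({x} : Set G)).index).factorization 2 = a) (S : Sylow 2 G) (hS : ∀ s : ↥(S : Subgroup G), IsConj s s⁻¹ → s ∈ Subgroup.center ↥(S : Subgroup G)) : Group.IsSolvable G ∧ Cfsg.HasNormalPComplement 2 ↥(Subgroup.closure {g : G | ∃ k : ℕ, orderOf g = 2 ^ k}) := by
  haveI : Fact (Nat.Prime 2) := ⟨Nat.prime_two⟩
  have hS' : ∀ x ∈ (S : Subgroup G), ∀ c ∈ (S : Subgroup G), c * x * c⁻¹ = x⁻¹ → x ∈ centralizer (S : Set G) :=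
    fun x hx c hc e y hy => congrArg Subtype.val
      (mem_center_iff.1 (hS ⟨x, hx⟩ (isConj_iff.2 ⟨⟨c, hc⟩, Subtype.ext e⟩)) ⟨y, hy⟩)
  by_cases hi : ∀ t : G, t * t = 1 → t ∈ center G
  · have hp : PNil 2 (⊤ : Subgroup G) := (sylowIn_top S).pnil_iff_forall.2 fun Q hQ g _ hg ho =>
      cent_of_real (Nat.coprime_two_right.1 ho) Q (S.2.to_le hQ) hg fun x hx c hc e =>
        (mem_center_iff.1 (hi x (by
          rw [hS' x (hQ hx) c (hQ hc) e c (hQ hc), mul_inv_cancel_right] at e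
          exact mul_eq_one_iff_eq_inv.2 e)) g).symm
    haveI := Hall.solvable_of_pnil_two hp
    exact ⟨Hall.isSolvable_of_mulEquiv topEquiv, hasNormalPComplement_iff.2 (hp.mono le_top)⟩
  push Not at hi
  obtain ⟨t, t2, ht⟩ := hi
  have a0 : a = 0 := by
    obtain ⟨g, -, hg⟩ := (sylowIn_top S).exists_cj_le (Q := zpowers t)
      ((Hall.isPGroup_zpowers_iff Nat.prime_two).2 ⟨1, Invol.two_of_mul_self t2 fun e => ht (e ▸ one_mem _)⟩) le_top
    rw [← h t (by rw [inv_eq_of_mul_eq_one_right t2]) ht, ← Hall.cs_conj g]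
    exact Nat.factorization_eq_zero_of_not_dvd (Hall.not_dvd_index_of_sylow_le S (Hall.le_cent_iff.2
      (hS' _ (cj_zpowers_le.1 hg) 1 (one_mem _) (by
        rw [one_mul, inv_one, mul_one, eq_inv_iff_mul_eq_one]
        calc _ = g * (t * t) * g⁻¹ := by group
          _ = 1 := by rw [t2]; group))))
  have nr : ∀ x : G, x ≠ 1 → Odd (orderOf x) → ¬ IsConj x x⁻¹ := fun x h1 ho hr =>
    h1 (Hall.eq_one_of_odd_of_sq_eq_one ho (Hall.sq_eq_one_of_real_of_odd_cs hr fun d => by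
      by_cases hc : x ∈ center G
      · rw [Hall.cs_eq_one_iff.2 hc] at d; omega
      · have := (Nat.prime_two.dvd_iff_one_le_factorization (Hall.cs_ne_zero x)).1 d
        rw [h x hr hc] at this; omega))
  haveI := Hall.sylow_two_normal_of_no_real nr S
  refine ⟨Hall.isSolvable_of_no_real nr, hasNormalPComplement_iff.2 (pnil_of_isPGroup (S.2.to_le
    ((closure_le _).2 fun x hx => zpowers_le.1 ((sylowIn_top S).le_of_normalizes
      ((Hall.isPGroup_zpowers_iff Nat.prime_two).2 hx) le_top le_normalizer_of_normal))))⟩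

end Cfsg.Agent.S4193
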