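import Cfsg.Statements.S4194
import Cfsg.Agent.S4355

set_option autoImplicit false
open Cfsg

namespace Cfsg.Agent.S4194

/-- A finite group G has commutative Sylow 2-subgroups if and only if every 2-element of G (element of order a power of 2) is 2-central, that is, its centralizer contains a Sylow 2-subgroup of G. -/
theorem result {G : Type*} [Group G] [Finite G] (P : Sylow 2 G) :
    IsMulCommutative (P : Subgroup G) ↔ ∀ x : G, (∃ k : ℕ, orderOf x = 2 ^ k) → (∃ Q : Sylow 2 G, (Q : Subgroup G) ≤ Subgroup.centralizer ({x} : Set G)) := by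
  refine ⟨fun h x hx => ?_, fun h => S4355.result (fun x hx => ?_) P⟩
  · obtain ⟨Q, hQ⟩ := ((Lib.Hall.isPGroup_zpowers_iff Nat.prime_two).2 hx).exists_le_sylow
    refine ⟨Q, fun y hy => Lib.Hall.mem_cent_iff.2 ?_⟩
    have e := Q.equiv P
    exact congrArg Subtype.val (e.injective (a₁ := ⟨y, hy⟩ * ⟨x, hQ (Subgroup.mem_zpowers x)⟩)
      (a₂ := ⟨x, hQ (Subgroup.mem_zpowers x)⟩ * ⟨y, hy⟩) (by rw [map_mul, map_mul, h.1.1]))
  · obtain ⟨Q, hQ⟩ := h x hx
    exact Lib.Hall.not_dvd_index_of_sylow_le Q hQ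

end Cfsg.Agent.S4194
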