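import Cfsg.Statements.S4196
import Cfsg.Agent.Lib.Hall.RealElt

set_option autoImplicit false
open Cfsg

namespace Cfsg.Agent.S4196

open scoped Pointwise
open Cfsg.Lib Cfsg.Lib.Hall

/-- A finite group G has elementary abelian Sylow 2-subgroups (commutative with every element squaring to the identity) if and only if every 2-element of G has a Sylow 2-subgroup in its centralizer and is conjugate to its inverse. -/
theorem result {G : Type*} [Group G] [Finite G] (P : Sylow 2 G) :
    (IsMulCommutative (P : Subgroup G) ∧ ∀ x ∈ (P : Subgroup G), x ^ 2 = 1) ↔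
      ∀ x : G, (∃ k : ℕ, orderOf x = 2 ^ k) → (∃ Q : Sylow 2 G, (Q : Subgroup G) ≤ Subgroup.centralizer ({x} : Set G)) ∧ IsConj x x⁻¹ := by
  haveI : Fact (Nat.Prime 2) := ⟨Nat.prime_two⟩
  constructor
  · rintro ⟨hc, h2⟩ x hx
    obtain ⟨g, -, hg⟩ := (Transfer.sylowIn_top P).exists_cj_le
      ((isPGroup_zpowers_iff Nat.prime_two).mpr hx) le_top
    rw [Transfer.cj_zpowers_le] at hg
    refine ⟨⟨g⁻¹ • P, ?_⟩, ?_⟩
    · rw [Transfer.coe_sylow_smul, Transfer.cj_le_iff]
      intro y hy
      rw [mem_cent_iff]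
      have := Coprime.mul_comm_of_mem hy hg
      calc g⁻¹ * y * g⁻¹⁻¹ * x = g⁻¹ * (y * (g * x * g⁻¹)) * g := by group
        _ = _ := by rw [this]; group
    · have h3 := h2 _ hg
      rw [conj_pow, conj_eq_one_iff, pow_two, mul_eq_one_iff_eq_inv] at h3
      rw [← h3]
  · intro h
    have h2 : ∀ x ∈ (P : Subgroup G), x ^ 2 = 1 := by
      intro x hx
      obtain ⟨⟨Q, hQ⟩, hr⟩ := h x ((isPGroup_zpowers_iff Nat.prime_two).mp
        (isPGroup_zpowers_of_mem P.isPGroup' hx))
      exact sq_eq_one_of_real_of_odd_cs hr (not_dvd_index_of_sylow_le Q hQ)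
    refine ⟨Coprime.isMulCommutative_of_conj_eq_inv (s := 1) (fun k hk => ?_), h2⟩
    have := h2 k hk
    rw [pow_two, mul_eq_one_iff_eq_inv] at this
    simpa using this

end Cfsg.Agent.S4196
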