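import Cfsg.Statements.S4197
import Cfsg.Agent.Lib.Block2.KTwo

set_option autoImplicit false
open Cfsg

namespace Cfsg.Agent.S4197

/-- A permutation group of degree n, that is a subgroup S of the symmetric group on a finite set with n elements, has at most 2^(n−1) conjugacy classes. (For n = 0 both sides equal 1 with truncated subtraction.) -/
theorem result {α : Type*} [Fintype α] [DecidableEq α] (S : Subgroup (Equiv.Perm α)) : Nat.card (ConjClasses S) ≤ 2 ^ (Fintype.card α - 1) := by
  rcases isEmpty_or_nonempty α with h | ⟨⟨a⟩⟩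
  · exact (Nat.card_le_card_of_surjective _ ConjClasses.mk_surjective).trans
      (Finite.card_le_one_iff_subsingleton.2 inferInstance |>.trans Nat.one_le_two_pow)
  · have h1 := Cfsg.Lib.Block2.KTwo.card_conj_le S a
    have : Nonempty (MulAction.orbitRel.Quotient S α) := ⟨Quotient.mk'' a⟩
    have h2 : 0 < Cfsg.Lib.Block2.KTwo.orbs S := Nat.card_pos
    have h3 : 0 < Fintype.card α := Fintype.card_pos_iff.2 ⟨a⟩
    refine Nat.le_of_mul_le_mul_right (le_trans (Nat.mul_le_mul_left _ ?_) (h1.trans (le_of_eq ?_))) two_pos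
    · exact Nat.le_self_pow h2.ne' 2
    · rw [← pow_succ, Nat.sub_add_cancel h3]

end Cfsg.Agent.S4197
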