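import Cfsg.Statements.S4212
import Cfsg.Agent.Lib.FG.Count
import Cfsg.Agent.Lib.Invol.Count

set_option autoImplicit false
open Cfsg

namespace Cfsg.Agent.S4212

open Subgroup Cfsg.Lib Cfsg.Lib.Hall

theorem orderOf_eq_of_pow_eq {G : Type*} [Group G] [Finite G] {p a : ℕ} (hp : p.Prime) {x y : G}
    (hx : p ^ (a + 1) ∣ orderOf x) (h : y ^ p ^ a = x ^ p ^ a) : orderOf y = orderOf x := by
  obtain ⟨t, ht⟩ := hx
  have h1 : orderOf (x ^ p ^ a) = p * t := by
    rw [orderOf_pow' _ (pow_ne_zero _ hp.ne_zero), ht, pow_succ, mul_assoc, Nat.gcd_mul_right_left,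
      Nat.mul_div_cancel_left _ (pow_pos hp.pos a)]
  rw [← h, orderOf_pow' _ (pow_ne_zero _ hp.ne_zero)] at h1
  have h2 := Nat.div_mul_cancel (Nat.gcd_dvd_left (orderOf y) (p ^ a))
  rw [h1] at h2
  obtain ⟨i, hi, h3⟩ := (Nat.dvd_prime_pow hp).1 (Nat.gcd_dvd_right (orderOf y) (p ^ a))
  rcases hi.lt_or_eq with hi | rfl
  · have h4 : p ^ (i + 1) ∣ p ^ i := by
      refine (Nat.dvd_gcd ?_ (pow_dvd_pow p hi)).trans h3.dvd
      rw [← h2, h3]; exact ⟨t, by rw [pow_succ]; ring⟩
    exact absurd ((Nat.pow_dvd_pow_iff_le_right hp.one_lt).1 h4) (by omega)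
  · rw [← h2, h3, ht]; ring

theorem central {G : Type*} [Group G] [Finite G] {c : G} (hc : c ∈ center G) (n : ℕ) :
    n.gcd (Nat.card G) ∣ Nat.card {x : G // x ^ n = c} := by
  classical
  have := Fintype.ofFinite G
  refine (Nat.dvd_iff_prime_pow_dvd_dvd _ _).2 fun p a hp ha => ?_
  have han : p ^ a ∣ n := ha.trans (Nat.gcd_dvd_left _ _)
  have haG : p ^ a ∣ Nat.card G := ha.trans (Nat.gcd_dvd_right _ _)
  by_cases hpc : p ∣ orderOf c
  · have hord : ∀ x : G, x ^ n = c → p ^ (a + 1) ∣ orderOf x := by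
      intro x hx
      obtain ⟨i, m, hm, e⟩ := Nat.exists_eq_pow_mul_and_not_dvd (orderOf_pos x).ne' p hp.ne_one
      by_contra hlt
      have hi : i ≤ a := by
        by_contra h
        exact hlt ((pow_dvd_pow p (by omega)).trans (e ▸ dvd_mul_right _ _))
      refine hm (hpc.trans (orderOf_dvd_of_pow_eq_one ?_))
      rw [← hx, ← pow_mul, ← orderOf_dvd_iff_pow_eq_one, e]
      exact Nat.mul_dvd_mul_right ((pow_dvd_pow p hi).trans han) m
    haveI := Fintype.ofFinite (Subgroup G × G)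
    rw [Invol.card_eq_sum_fibers _ (fun x => (zpowers x, x ^ p ^ a))]
    refine Finset.dvd_sum fun b _ => ?_
    by_cases hb : ∃ x : G, x ^ n = c ∧ (zpowers x, x ^ p ^ a) = b
    swap
    · rw [Invol.card_eq_zero_of_forall fun x hx => hb ⟨x, hx⟩]; exact dvd_zero _
    obtain ⟨x, hx, rfl⟩ := hb
    have h1 := FG.frobenius (G := zpowers x) (m := p ^ a)
      (Nat.card_zpowers x ▸ (pow_dvd_pow p a.le_succ).trans (hord x hx))
    refine h1.trans (dvd_of_eq (Invol.card_eq_of_bij (fun w => x * w) (fun w hw => ?_)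
      (fun w w' _ _ e => Subtype.ext (mul_left_cancel e)) fun y hy => ?_))
    · have hw' : (w : G) ^ p ^ a = 1 := congrArg Subtype.val hw
      have hxw : Commute x w := commute_of_mem_zpowers (mem_zpowers x) w.2
      have e : (x * w) ^ p ^ a = x ^ p ^ a := by rw [hxw.mul_pow, hw', mul_one]
      obtain ⟨k, rfl⟩ := han
      refine ⟨by rw [pow_mul, e, ← pow_mul, hx], Prod.ext ?_ e⟩
      exact eq_of_le_of_card_ge (zpowers_le_of_mem (mul_mem (mem_zpowers x) w.2))
        (by rw [Nat.card_zpowers, Nat.card_zpowers, orderOf_eq_of_pow_eq hp (hord x hx) e])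
    · have e1 : zpowers y = zpowers x := congrArg Prod.fst hy.2
      have e2 : y ^ p ^ a = x ^ p ^ a := congrArg Prod.snd hy.2
      have hyx : y ∈ zpowers x := e1 ▸ mem_zpowers y
      refine ⟨⟨x⁻¹ * y, mul_mem (inv_mem (mem_zpowers x)) hyx⟩, Subtype.ext ?_, by simp⟩
      change (x⁻¹ * y) ^ p ^ a = 1
      rw [(commute_of_mem_zpowers (inv_mem (mem_zpowers x)) hyx).mul_pow, e2, inv_pow,
        inv_mul_cancel]
  · obtain ⟨k, s, hs, e⟩ := Nat.exists_eq_pow_mul_and_not_dvd (Nat.card_pos (α := G)).ne' p hp.ne_one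
    have hc' := (Nat.Prime.coprime_iff_not_dvd hp).2 hs
    have h1 := FG.card_decomp (G := G) (hc'.pow_left k) fun x => x ^ n = c
    rw [← e] at h1
    simp only [pow_card_eq_one', true_and] at h1
    have h2 := FG.dvd_decomp (a := n.gcd (p ^ k)) haG (fun z => z ^ s = 1 ∧ z ^ n = c)
      (fun x g => by
        simp only [conj_pow, conj_eq_one_iff]
        simp only [mul_inv_eq_iff_eq_mul, ← mem_center_iff.1 hc g, mul_right_inj])
      fun z _ => (Nat.gcd_dvd_gcd_of_dvd_left _ (Nat.dvd_gcd han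
        ((hc'.pow_left a).dvd_of_dvd_mul_right (e ▸ haG)))).trans (FG.frobenius_gcd _)
    rw [h1]
    convert h2 using 2 with z
    refine Invol.card_congr_iff fun y => and_congr_right fun hy => ?_
    have hyz : Commute y z := mem_cent_iff.1 hy
    rw [pow_gcd_eq_one, hyz.mul_pow]
    refine ⟨fun ⟨h3, h4, h5⟩ => ?_, fun ⟨⟨h3, h4⟩, h5, h6⟩ => ⟨h4, h5, by rw [h3, h6, one_mul]⟩⟩
    have h6 : y ^ n = 1 := by
      have a1 : (y ^ n) ^ p ^ k = 1 := by rw [← pow_mul, mul_comm, pow_mul, h3, one_pow]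
      have a2 : (y ^ n) ^ (orderOf c * s) = 1 := by
        rw [eq_mul_inv_of_mul_eq h5, (PGrp.commute_of_mem_center hc _).mul_pow, pow_mul,
          pow_orderOf_eq_one, one_pow, one_mul, inv_pow, ← pow_mul, ← mul_assoc, mul_comm _ s,
          pow_mul, h4, one_pow, inv_one]
      have a3 := pow_gcd_eq_one.2 ⟨a1, a2⟩
      rwa [((((Nat.Prime.coprime_iff_not_dvd hp).2 hpc).mul_right hc').pow_left k).gcd_eq_one,
        pow_one] at a3
    exact ⟨⟨h6, h3⟩, h4, by rw [← h5, h6, one_mul]⟩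


/-- Let `G` be a finite group of order `g`, `c` an element whose conjugacy class has `h` elements, and `n` a natural number. Then the number of elements `x` of `G` with `x^n` conjugate to `c` is a multiple of `gcd(hn, g)`. -/
theorem result {G : Type*} [Group G] [Finite G] (c : G) (n : ℕ) : Nat.gcd (Nat.card {y : G // IsConj c y} * n) (Nat.card G) ∣ Nat.card {x : G // IsConj c (x ^ n)} := by
  have h1 : Nat.card {y : G // IsConj c y} = cs c := by
    rw [← ncard_isConj]; rfl
  have h2 : Nat.card {x : G // IsConj c (x ^ n)} =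
      Nat.card {y : G // IsConj c y} * Nat.card {x : G // x ^ n = c} := by
    refine Invol.card_eq_mul_of_fibers (fun x => x ^ n) (fun _ h => h) fun b hb => ?_
    obtain ⟨g, rfl⟩ := isConj_iff.1 hb
    rw [← FG.card_conj _ g]
    refine Invol.card_congr_iff fun y => ?_
    simp only [conj_pow, mul_left_inj, mul_right_inj]
    exact ⟨fun h => h.2, fun h => ⟨h ▸ isConj_iff.2 ⟨g, rfl⟩, h⟩⟩
  have h3 := central (G := centralizer ({c} : Set G)) (c := ⟨c, self_mem_cent c⟩)
    (mem_center_iff.2 fun g => Subtype.ext (mem_cent_iff.1 g.2)) n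
  simp only [← Subtype.coe_inj, SubgroupClass.coe_pow] at h3
  rw [FG.card_sub _ (fun y => y ^ n = c), Invol.card_congr_iff (p := fun y => y ∈ centralizer ({c} : Set G) ∧ y ^ n = c) (q := fun y => y ^ n = c)
    fun y => ⟨fun h => h.2, fun h => ⟨mem_cent_iff.2 (h ▸ (Commute.refl y).pow_right n), h⟩⟩] at h3
  rw [h2, h1, ← (centralizer ({c} : Set G)).index_mul_card, Nat.gcd_mul_left]
  exact Nat.mul_dvd_mul_left _ h3

end Cfsg.Agent.S4212
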