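import Cfsg.Statements.S4213
import Cfsg.Agent.Lib.Hall.MinNormal
import Cfsg.Agent.Lib.FG.Count

set_option autoImplicit false
open Cfsg

namespace Cfsg.Agent.S4213

open scoped Pointwise commutatorElement
open Cfsg.Lib Cfsg.Lib.Hall

open Subgroup

theorem eq_of_sub {G : Type*} [Group G] [Finite G] {n : ℕ} (hc : Nat.card {x : G // x ^ n = 1} = n)
    (H : Subgroup G) (hH : ∀ x ∈ H, x ^ n = 1) (hn : n ≤ Nat.card H) :
    H.Normal ∧ (H : Set G) = {x : G | x ^ n = 1} := by
  have e : (H : Set G) = {x : G | x ^ n = 1} := by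
    refine Set.eq_of_subset_of_ncard_le hH ?_ (Set.toFinite _)
    rw [← Nat.card_coe_set_eq, ← Nat.card_coe_set_eq]
    exact hc.le.trans hn
  refine ⟨⟨fun x hx g => ?_⟩, e⟩
  have : g * x * g⁻¹ ∈ (H : Set G) := by
    rw [e]
    change _ ^ n = 1
    rw [conj_pow, hH x hx, mul_one, mul_inv_cancel]
  exact this

theorem aux {G : Type*} [Group G] [Finite G] (hs : Group.IsSolvable G) (n : ℕ) (hn : n ∣ Nat.card G)
    (hc : Nat.card {x : G // x ^ n = 1} = n) :
    ∃ H : Subgroup G, H.Normal ∧ (H : Set G) = {x : G | x ^ n = 1} := by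
  induction hk : Nat.card G using Nat.strong_induction_on generalizing G n with
  | _ k ih =>
  rcases subsingleton_or_nontrivial G with h | h
  · refine ⟨⊤, eq_of_sub hc ⊤ (fun x _ => Subsingleton.elim _ _) ?_⟩
    rw [card_top]
    exact Nat.le_of_dvd Nat.card_pos hn
  obtain ⟨N, p, hNn, hN0, -, hNc, hp, hNp, hNp'⟩ := exists_minNormal_elementary (G := G)
  have := Fact.mk hp
  have hlt : Nat.card (G ⧸ N) < k := hk ▸ card_quotient_lt hN0
  have hmul : Nat.card G = Nat.card (G ⧸ N) * Nat.card N := card_eq_card_quotient_mul_card_subgroup N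
  have hpos : ∀ d, 0 < Nat.card {x : G ⧸ N // x ^ d = 1} := fun d => by
    have : Nonempty {x : G ⧸ N // x ^ d = 1} := ⟨⟨1, one_pow d⟩⟩
    exact Nat.card_pos
  have hcomap : ∀ K : Subgroup (G ⧸ N), Nat.card (K.comap (QuotientGroup.mk' N)) =
      Nat.card N * Nat.card K := fun K => QuotientGroup.card_preimage_mk N (K : Set (G ⧸ N))
  by_cases hpn : p ∣ n
  · obtain ⟨m, rfl⟩ := hpn
    set d := m.gcd (Nat.card (G ⧸ N)) with hd
    have hpN : p ∣ Nat.card N := by
      obtain ⟨a, ha⟩ := hNp'.exists_card_eq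
      rcases a with _ | a
      · exact absurd (card_eq_one.mp (by simpa using ha)) hN0
      · rw [ha]; exact dvd_pow_self p (Nat.succ_ne_zero a)
    have h1 : p * m ∣ Nat.card N * d := by
      rw [hd, ← Nat.gcd_mul_left]
      exact Nat.dvd_gcd (Nat.mul_dvd_mul_right hpN m) (by rwa [mul_comm (Nat.card N), ← hmul])
    have hd0 : 0 < d := Nat.gcd_pos_of_pos_right _ Nat.card_pos
    have h1' := Nat.le_of_dvd (Nat.mul_pos Nat.card_pos hd0) h1
    have hsub : ∀ x : G, (x : G ⧸ N) ^ d = 1 → x ^ (p * m) = 1 := by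
      intro x hx
      obtain ⟨e, he⟩ : d ∣ m := Nat.gcd_dvd_left _ _
      have : ((x ^ m : G) : G ⧸ N) = 1 := by
        rw [QuotientGroup.mk_pow, he, pow_mul, hx, one_pow]
      rw [mul_comm, pow_mul]
      exact hNp _ ((QuotientGroup.eq_one_iff _).mp this)
    have h2 : Nat.card N * Nat.card {x : G ⧸ N // x ^ d = 1} ≤ p * m := by
      rw [← hc]
      refine le_of_eq_of_le (QuotientGroup.card_preimage_mk N {x : G ⧸ N | x ^ d = 1}).symm ?_
      exact Nat.card_le_card_of_injective (fun x => ⟨x.1, hsub x.1 x.2⟩) fun x y h =>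
        Subtype.ext (by simpa using h)
    have h3 : d ≤ Nat.card {x : G ⧸ N // x ^ d = 1} :=
      Nat.le_of_dvd (hpos d) (FG.frobenius (Nat.gcd_dvd_right _ _))
    have h4 : Nat.card {x : G ⧸ N // x ^ d = 1} = d :=
      le_antisymm (Nat.le_of_mul_le_mul_left (h2.trans h1') Nat.card_pos) h3
    obtain ⟨K, -, hK⟩ := ih _ hlt inferInstance d (Nat.gcd_dvd_right _ _) h4 rfl
    refine ⟨K.comap (QuotientGroup.mk' N), eq_of_sub hc _ (fun x hx => hsub x ?_) ?_⟩
    · have : (x : G ⧸ N) ∈ (K : Set (G ⧸ N)) := hx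
      rw [hK] at this
      exact this
    · rw [hcomap]
      have : Nat.card K = d := by
        rw [← h4]
        exact congrArg (fun s : Set (G ⧸ N) => Nat.card s) hK
      rw [this]; exact h1'
  · have hcop : n.Coprime (Nat.card N) := by
      obtain ⟨a, ha⟩ := hNp'.exists_card_eq
      rw [ha]
      exact Nat.Coprime.pow_right _ ((Nat.Prime.coprime_iff_not_dvd hp).mpr hpn).symm
    have hn' : n ∣ Nat.card (G ⧸ N) := hcop.dvd_of_dvd_mul_right (hmul ▸ hn)
    have h2 : Nat.card {x : G ⧸ N // x ^ n = 1} ≤ n := by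
      conv_rhs => rw [← hc]
      refine Nat.card_le_card_of_surjective
        (fun x : {x : G // x ^ n = 1} => (⟨(x.1 : G ⧸ N), by
          rw [← QuotientGroup.mk_pow, x.2, QuotientGroup.mk_one]⟩ : {x : G ⧸ N // x ^ n = 1})) ?_
      rintro ⟨y, hy⟩
      obtain ⟨z, rfl⟩ := (powCoprime (G := G ⧸ N) (n := 1) (Nat.coprime_one_right _)).surjective y
      rw [powCoprime_apply, pow_one] at hy
      obtain ⟨x, rfl⟩ := QuotientGroup.mk_surjective z
      obtain ⟨u, hu⟩ := exists_pow_eq_self_of_coprime (x := (x : G ⧸ N)) (n := p)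
        (Nat.Coprime.coprime_dvd_right (orderOf_dvd_of_pow_eq_one hy)
          ((Nat.Prime.coprime_iff_not_dvd hp).mpr hpn))
      refine ⟨⟨(x ^ p) ^ u, ?_⟩, Subtype.ext ?_⟩
      · have : x ^ n ∈ N := by
          rw [← QuotientGroup.eq_one_iff, QuotientGroup.mk_pow, hy]
        rw [← pow_mul, ← pow_mul, show p * (u * n) = n * p * u by ring, pow_mul, pow_mul, hNp _ this,
          one_pow]
      · simp only [QuotientGroup.mk_pow, hu, powCoprime_apply, pow_one]
    have h4 : Nat.card {x : G ⧸ N // x ^ n = 1} = n :=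
      le_antisymm h2 (Nat.le_of_dvd (hpos n) (FG.frobenius hn'))
    obtain ⟨K, -, hK⟩ := ih _ hlt inferInstance n hn' h4 rfl
    have hKc : Nat.card K = n := by
      rw [← h4]
      exact congrArg (fun s : Set (G ⧸ N) => Nat.card s) hK
    set L := K.comap (QuotientGroup.mk' N) with hL
    have hNL : N ≤ L := fun a ha => by
      rw [hL, mem_comap, QuotientGroup.mk'_apply, (QuotientGroup.eq_one_iff a).mpr ha]
      exact one_mem _
    have hcN : Nat.card (N.subgroupOf L) = Nat.card N :=
      Nat.card_congr (subgroupOfEquivOfLe hNL).toEquiv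
    have hi : (N.subgroupOf L).index = n := by
      have := (N.subgroupOf L).card_mul_index
      rw [hcN, hL, hcomap, hKc] at this
      exact Nat.eq_of_mul_eq_mul_left Nat.card_pos this
    obtain ⟨H, hH⟩ := exists_right_complement'_of_coprime (N := N.subgroupOf L)
      (by rw [hcN, hi]; exact hcop.symm)
    have hHc : Nat.card (H.map L.subtype) = n := by
      rw [card_subtype, ← hi, hH.symm.index_eq_card]
    refine ⟨H.map L.subtype, eq_of_sub hc _ (fun x hx => ?_) hHc.ge⟩
    have := pow_card_eq_one' (x := (⟨x, hx⟩ : H.map L.subtype))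
    rw [hHc] at this
    exact congrArg Subtype.val this

/-- If `G` is a finite solvable group and `n` divides the order of `G` and exactly `n` elements `x` of `G` satisfy `x^n = 1`, then these elements form a normal subgroup. -/
theorem result {G : Type*} [Group G] [Finite G] [Group.IsSolvable G] (n : ℕ) (hn : n ∣ Nat.card G) (hcount : Nat.card {x : G // x ^ n = 1} = n) : ∃ H : Subgroup G, H.Normal ∧ (H : Set G) = {x : G | x ^ n = 1} := by
  exact aux inferInstance n hn hcount

end Cfsg.Agent.S4213
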