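import Cfsg.Statements.S4216
import Cfsg.Agent.Lib.Transfer.Frobenius

set_option autoImplicit false
open Cfsg

namespace Cfsg.Agent.S4216

open Cfsg.Lib.Transfer Subgroup

/-- Grün's first Theorem: if `P` is a Sylow `p`-subgroup of the finite group `G`, then `P ∩ G'` is the subgroup generated by `P ∩ N_G(P)'` together with the subgroups `P ∩ z P' z⁻¹` for all `z ∈ G`, where `'` denotes the derived subgroup and `N_G(P)` the normalizer of `P`. -/
theorem result {G : Type*} [Group G] [Finite G] {p : ℕ} [Fact p.Prime] (P : Sylow p G) : (P : Subgroup G) ⊓ commutator G = ((P : Subgroup G) ⊓ ⁅Subgroup.normalizer ((P : Subgroup G) : Set G), Subgroup.normalizer ((P : Subgroup G) : Set G)⁆) ⊔ ⨆ z : G, (P : Subgroup G) ⊓ (⁅(P : Subgroup G), (P : Subgroup G)⁆).map (MulAut.conj z).toMonoidHom := by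
  have hP := sylowIn_top P
  refine le_antisymm ?_ (sup_le (inf_le_inf_left _ (commutator_mono le_top le_top)) (iSup_le fun z =>
    inf_le_inf_left _ ((cj_mono z (commutator_mono le_top le_top)).trans
      (cj_eq_of_normal z (commutator G)).le)))
  generalize hQ : (P : Subgroup G) ⊓ ⁅normalizer ((P : Subgroup G) : Set G),
    normalizer ((P : Subgroup G) : Set G)⁆ ⊔ ⨆ z : G, (P : Subgroup G) ⊓
      (⁅(P : Subgroup G), (P : Subgroup G)⁆).map (MulAut.conj z).toMonoidHom = Q
  have q1 := le_sup_left.trans hQ.le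
  have q2 := fun z => (le_iSup _ z).trans (le_sup_right.trans hQ.le)
  clear hQ
  rw [inf_comm, commutator_def, hP.commutator_inf, focalIn_le_iff]
  intro x hx u _ h
  refine hP.alperin_induction (fun D g => ∀ x ∈ D, x⁻¹ * (g * x * g⁻¹) ∈ Q)
    (fun D E g h1 h2 x hx => h1 x (h2 hx)) (fun D g h _ _ h1 h2 x hx => ?_) (fun D hD h1 ih n hn => ?_)
    (zpowers x) (zpowers_le.2 hx) u trivial (cj_zpowers_le.2 h) x (mem_zpowers x)
  · convert Q.mul_mem (h1 x hx) (h2 _ (conj_mem_cj.2 hx)) using 1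
    group
  rcases hD.eq_or_lt with rfl | hlt
  · intro y hy
    refine q1 ⟨Subgroup.mul_mem _ (Subgroup.inv_mem _ hy) (conj_mem_of_mem_normalizer hn.2 hy), ?_⟩
    simpa [commutatorElement_def, mul_assoc] using
      commutator_mem_commutator (le_normalizer (inv_mem hy)) hn.2
  let K : Subgroup G :=
    { carrier := {l | l ∈ normalizer (D : Set G) ∧ ∀ y ∈ D, y⁻¹ * (l * y * l⁻¹) ∈ Q}
      one_mem' := ⟨one_mem _, fun y _ => by simp⟩
      mul_mem' := fun {a b} ha hb => ⟨mul_mem ha.1 hb.1, fun y hy => by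
        convert Q.mul_mem (hb.2 y hy) (ha.2 _ (conj_mem_of_mem_normalizer hb.1 hy)) using 1
        group⟩
      inv_mem' := fun {a} ha => ⟨inv_mem ha.1, fun y hy => by
        convert Q.inv_mem (ha.2 _ (conj_mem_of_mem_normalizer (inv_mem ha.1) hy)) using 1
        group⟩ }
  let N := ⊤ ⊓ normalizer (D : Set G)
  let T := (P : Subgroup G) ⊓ normalizer (D : Set G)
  let L := ⨆ m : N, cj (m : G) T
  have hL : L ≤ K := iSup_le fun m => cj_le_iff.2 fun t ht => by
    have e : (m : G) * t * (m : G)⁻¹ ∈ normalizer (D : Set G) :=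
      mul_mem (mul_mem m.2.2 ht.2) (inv_mem m.2.2)
    refine ⟨e, fun y hy => q2 m ⟨hD (mul_mem (inv_mem hy)
      (conj_mem_of_mem_normalizer e hy)), mem_cj.2 ?_⟩⟩
    convert commutator_mem_commutator (hD (conj_mem_of_mem_normalizer (inv_mem m.2.2) (inv_mem hy)))
      ht.1 using 1
    rw [commutatorElement_def]
    group
  have hTL : T ≤ L := le_iSup_of_le 1 (cj_one T).ge
  obtain ⟨l, hl, m, hm, rfl⟩ := (h1.mono hTL fun a ha => ⟨trivial, (hL ha).1⟩).frattini (H := N)
    (fun a ha => mem_normalizer_of_cj_le (by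
      rw [cj_def, Subgroup.map_iSup]
      exact iSup_le fun m => le_iSup_of_le (⟨a, ha⟩ * m) (cj_mul _ _ _).ge)) hn
  have hlt' := lt_inf_normalizer P.isPGroup' hlt
  exact (K.mul_mem (hL hl) ⟨(mul_mem_cancel_left (hL hl).1).1 hn.2, fun y hy => ih T inf_le_left m
    trivial ((cj_eq_of_mem_normalizer hm).le.trans inf_le_left) (card_lt_of_lt hlt') y
      (hlt'.le hy)⟩).2

end Cfsg.Agent.S4216
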