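import Cfsg.Statements.S4217
import Cfsg.Agent.Lib.Hall.Gaschutz

set_option autoImplicit false
open Cfsg

namespace Cfsg.Agent.S4217

open scoped Pointwise commutatorElement
open Cfsg.Lib Cfsg.Lib.Hall

open scoped Pointwise IsMulCommutative

theorem crossed_index {G : Type*} [Group G] [Finite G] (K U : Subgroup G) [hKn : K.Normal]
    [IsMulCommutative K] (hKU : K ≤ U) (A : Subgroup G) (hAK : A ⊓ K = ⊥) (hKA : K ⊔ A = U) :
    ∃ d : G → K, (∀ g h, d (g * h) = d g * MulAut.conjNormal g (d h)) ∧
      ∀ k : K, d k = k ^ (U.index : ℤ) := by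
  obtain ⟨δ, h1, h2⟩ := exists_crossed_of_complement K U A hAK hKA
  have := Fintype.ofFinite (G ⧸ U)
  let t : G ⧸ U → G := Quotient.out
  have ht : ∀ q, ((t q : G) : G ⧸ U) = q := fun q => QuotientGroup.out_eq' q
  have hu : ∀ (g : G) (q : G ⧸ U), (t (g • q))⁻¹ * g * t q ∈ U := by
    intro g q
    rw [mul_assoc, ← QuotientGroup.eq, ht, ← smul_eq_mul, ← MulAction.Quotient.smul_coe, ht]
  let d : G → K := fun g => ∏ q : G ⧸ U, MulAut.conjNormal (t (g • q)) (δ ((t (g • q))⁻¹ * g * t q))
  refine ⟨d, ?_, ?_⟩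
  · intro g h
    simp only [d]
    rw [map_prod, ← Equiv.prod_comp (MulAction.toPerm h)
      (fun q => MulAut.conjNormal (t (g • q)) (δ ((t (g • q))⁻¹ * g * t q))),
      ← Finset.prod_mul_distrib]
    refine Finset.prod_congr rfl fun q _ => ?_
    have e : (t ((g * h) • q))⁻¹ * (g * h) * t q =
        ((t (g • h • q))⁻¹ * g * t (h • q)) * ((t (h • q))⁻¹ * h * t q) := by
      rw [mul_smul]; group
    rw [e, h2 _ (hu g _) _ (hu h q), map_mul, mul_smul, MulAction.toPerm_apply]
    congr 1
    rw [← MulAut.mul_apply, ← MulAut.mul_apply, ← map_mul, ← map_mul]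
    congr 2
    group
  · intro k
    simp only [d]
    rw [zpow_natCast, Subgroup.index_eq_card, Nat.card_eq_fintype_card, ← Finset.card_univ,
      ← Finset.prod_const]
    refine Finset.prod_congr rfl fun q _ => ?_
    have hk : ∀ g : G, g⁻¹ * k * g ∈ K := fun g => by simpa using hKn.conj_mem _ k.2 g⁻¹
    have e : (k : G) • q = q := by
      conv_lhs => rw [← ht q]
      rw [MulAction.Quotient.smul_coe, smul_eq_mul, eq_comm, ← ht q, QuotientGroup.eq, ht,
        ← mul_assoc]
      exact hKU (hk _)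
    rw [e, (h1 _ (hKU (hk (t q))) ⟨_, hk (t q)⟩).mpr (by rw [inv_mul_cancel]; exact A.one_mem)]
    apply Subtype.ext
    simp [mul_assoc]

/-- the integers `n` for which some crossed homomorphism restricts to the `n`-th power map -/
def crossedIdeal {G : Type*} [Group G] (K : Subgroup G) [K.Normal] [IsMulCommutative K] :
    Ideal ℤ where
  carrier := {n | ∃ d : G → K, (∀ g h, d (g * h) = d g * MulAut.conjNormal g (d h)) ∧
      ∀ k : K, d k = k ^ n}
  add_mem' := by
    rintro a b ⟨d, h1, h2⟩ ⟨e, h3, h4⟩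
    refine ⟨fun g => d g * e g, fun g h => ?_, fun k => ?_⟩
    · simp only [h1, h3, map_mul]
      exact mul_mul_mul_comm _ _ _ _
    · simp only [h2, h4, zpow_add]
  zero_mem' := ⟨fun _ => 1, fun g h => by simp, fun k => by simp⟩
  smul_mem' := by
    rintro c a ⟨d, h1, h2⟩
    refine ⟨fun g => d g ^ c, fun g h => ?_, fun k => ?_⟩
    · simp only [h1, mul_zpow, map_zpow]
    · simp only [h2, smul_eq_mul, ← zpow_mul, mul_comm]

/-- Let `A` be an abelian normal subgroup of the finite group `G`. Then `A` has a complement in `G` if and only if, for every prime `p` dividing the index of `A`, there are a Sylow `p`-subgroup `S` of `G/A` and a subgroup `K` of `G` with `K ∩ A = 1` and `KA` equal to the preimage of `S` (that is, `A` has a complement in the preimage of a Sylow `p`-subgroup of `G/A`). -/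
theorem result {G : Type*} [Group G] [Finite G] (A : Subgroup G) [A.Normal] (hA : IsMulCommutative A) : (∃ K : Subgroup G, K.IsComplement' A) ↔ ∀ p : ℕ, p.Prime → p ∣ A.index → ∃ (S : Sylow p (G ⧸ A)) (K : Subgroup G), K ⊓ A = ⊥ ∧ K ⊔ A = (S : Subgroup (G ⧸ A)).comap (QuotientGroup.mk' A) := by
  constructor
  · rintro ⟨K, hK⟩ p hp _
    have := Fact.mk hp
    obtain ⟨S⟩ : Nonempty (Sylow p (G ⧸ A)) := inferInstance
    have hAU : A ≤ (S : Subgroup (G ⧸ A)).comap (QuotientGroup.mk' A) := by
      intro a ha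
      rw [Subgroup.mem_comap, QuotientGroup.mk'_apply, (QuotientGroup.eq_one_iff a).mpr ha]
      exact Subgroup.one_mem _
    refine ⟨S, K ⊓ (S : Subgroup (G ⧸ A)).comap (QuotientGroup.mk' A), ?_, ?_⟩
    · rw [eq_bot_iff, ← hK.disjoint.eq_bot]
      exact inf_le_inf_right _ inf_le_left
    · apply le_antisymm (sup_le inf_le_right hAU)
      intro u hu
      have : u ∈ ((K ⊔ A : Subgroup G) : Set G) := by rw [hK.sup_eq_top]; trivial
      rw [Subgroup.mul_normal] at this
      obtain ⟨k, hk, a, ha, rfl⟩ := this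
      refine Subgroup.mul_mem_sup ⟨hk, ?_⟩ ha
      have := Subgroup.mul_mem _ hu (Subgroup.inv_mem _ (hAU ha))
      simp only [mul_inv_cancel_right] at this
      exact this
  · intro h
    have h1 : (1 : ℤ) ∈ crossedIdeal A := by
      by_contra h1
      have hne : crossedIdeal A ≠ ⊤ := fun e => h1 (e ▸ trivial)
      obtain ⟨M, hM, hle⟩ := Ideal.exists_le_maximal _ hne
      have hi : ((A.index : ℕ) : ℤ) ∈ crossedIdeal A :=
        crossed_index A A le_rfl ⊥ (bot_inf_eq _) (sup_bot_eq _)
      have hi0 : A.index ≠ 0 := Subgroup.index_ne_zero_of_finite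
      have key : ∀ n : ℕ, n ≠ 0 → (n : ℤ) ∈ M → ∃ p : ℕ, p.Prime ∧ p ∣ n ∧ (p : ℤ) ∈ M := by
        intro n
        induction n using induction_on_primes with
        | zero => intro h; exact absurd rfl h
        | one => intro _ h; exact absurd ((Ideal.eq_top_iff_one _).mpr (by simpa using h)) hM.ne_top
        | prime_mul p a hp ih =>
          intro h0 hm
          rw [Nat.cast_mul] at hm
          rcases hM.isPrime.mem_or_mem hm with h | h
          · exact ⟨p, hp, dvd_mul_right _ _, h⟩
          · obtain ⟨q, hq, hqa, hqM⟩ := ih (right_ne_zero_of_mul h0) h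
            exact ⟨q, hq, hqa.mul_left _, hqM⟩
      obtain ⟨p, hp, hpi, hpM⟩ := key _ hi0 (hle hi)
      obtain ⟨S, K, hK1, hK2⟩ := h p hp hpi
      have := Fact.mk hp
      have hAU : A ≤ (S : Subgroup (G ⧸ A)).comap (QuotientGroup.mk' A) := hK2 ▸ le_sup_right
      have hj := hle (crossed_index A _ hAU K hK1 (by rw [sup_comm, hK2]))
      rw [Subgroup.index_comap_of_surjective _ (QuotientGroup.mk'_surjective A)] at hj
      have hc : IsCoprime (p : ℤ) ((S : Subgroup (G ⧸ A)).index : ℤ) :=
        Nat.isCoprime_iff_coprime.mpr ((Nat.Prime.coprime_iff_not_dvd hp).mpr S.not_dvd_index)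
      obtain ⟨u, v, huv⟩ := hc
      apply hM.ne_top
      rw [Ideal.eq_top_iff_one, ← huv]
      exact M.add_mem (M.mul_mem_left _ hpM) (M.mul_mem_left _ hj)
    obtain ⟨d, hd1, hd2⟩ := h1
    obtain ⟨H, hH, -⟩ := exists_complement_of_crossed A (n := 1) (Nat.coprime_one_right _) d hd1
      (by simpa using hd2)
    exact ⟨H, hH.symm⟩

end Cfsg.Agent.S4217
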