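import Cfsg.Statements.S4218
import Cfsg.Agent.Lib.Core.PSolvable
import Cfsg.Agent.Lib.Core.UpperP
import Cfsg.Agent.Lib.Coprime.Basic
import Cfsg.Agent.Lib.Core.Frattini

set_option autoImplicit false
open Cfsg

namespace Cfsg.Agent.S4218

open Cfsg.Lib Cfsg.Lib.Core
open scoped commutatorElement

theorem aux {G : Type*} [Group G] [Finite G] {p : ℕ} [hp : Fact p.Prime]
    (hC : Subgroup.centralizer (pCore p G : Set G) ≤ pCore p G) (g : G) :
    (∀ x ∈ pCore p G, g * x * g⁻¹ * x⁻¹ ∈ (frattini (pCore p G)).map (pCore p G).subtype) ↔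
      g ∈ pCore p G := by
  have := normal_frattiniOf (pCore p G)
  set F := (frattini (pCore p G)).map (pCore p G).subtype
  refine ⟨fun h => ?_, fun h x hx => commutator_le_frattiniOf (isPGroup_pCore p G)
    (Subgroup.commutator_mem_commutator h hx)⟩
  let K := (Subgroup.centralizer (((pCore p G).map (QuotientGroup.mk' F) :
    Subgroup (G ⧸ F)) : Set (G ⧸ F))).comap (QuotientGroup.mk' F)
  have hn : ((pCore p G).map (QuotientGroup.mk' F)).Normal :=
    Subgroup.Normal.map inferInstance _ (QuotientGroup.mk'_surjective F)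
  have hK : g ∈ K := by
    rw [Subgroup.mem_comap, Subgroup.mem_centralizer_iff]
    rintro _ ⟨u, hu, rfl⟩
    symm
    rw [← commutatorElement_eq_one_iff_mul_comm, ← map_commutatorElement]
    exact (QuotientGroup.eq_one_iff _).2 (h u hu)
  refine le_pCore (N := K) ?_ hK
  rw [IsPGroup.iff_card]
  refine ⟨_, Nat.eq_prime_pow_of_unique_prime_dvd Nat.card_pos.ne' fun {q} hq hd => ?_⟩
  by_contra hne
  have := Fact.mk hq
  obtain ⟨y, hy⟩ := exists_prime_orderOf_dvd_card' q hd
  rw [← Subgroup.orderOf_coe] at hy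
  have hcop : q.Coprime p := (Nat.coprime_primes hq hp.out).2 hne
  have h1 : Subgroup.zpowers (y : G) ≤ Subgroup.centralizer (pCore p G : Set G) := by
    refine Coprime.le_centralizer_of_commutator_le_frattini Subgroup.le_normalizer_of_normal ?_ ?_
    · rw [Nat.card_zpowers, hy]
      exact Coprime.coprime_card_of_isPGroup ((isPGroup_pCore p G).to_subgroup _) hcop
    · change _ ≤ F
      rw [← QuotientGroup.ker_mk' F, ← Subgroup.map_eq_bot_iff, Subgroup.map_commutator,
        Subgroup.commutator_comm, Subgroup.commutator_eq_bot_iff_le_centralizer,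
        MonoidHom.map_zpowers, Subgroup.zpowers_le]
      exact y.2
  have h2 := eq_bot_of_isPGroup_of_coprime hp.out ((isPGroup_pCore p G).to_le (h1.trans hC))
    (by rw [Nat.card_zpowers, hy]; exact hcop)
  rw [Subgroup.zpowers_eq_bot] at h2
  rw [h2, orderOf_one] at hy
  exact hq.one_lt.ne hy

/-- Let `G` be a finite `p`-solvable group, `N₀ = O_{p'}(G)`, `P₁ = O_{p',p}(G)`, and let `F ≤ P₁` be the preimage of the Frattini subgroup of `P₁/N₀`. Then an element `g` of `G` induces the identity on `P₁/F` by conjugation (that is, `g x g⁻¹ x⁻¹ ∈ F` for all `x ∈ P₁`) if and only if `g ∈ P₁`: the group `G/P₁` acts faithfully on `P₁/F`. -/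
theorem result {G : Type*} [Group G] [Finite G] {p : ℕ} [Fact p.Prime] (hG : Cfsg.IsPSolvable p G) (g : G) : (∀ x ∈ Cfsg.pPrimePCore p G, g * x * g⁻¹ * x⁻¹ ∈ ((frattini (↥(Cfsg.pPrimePCore p G) ⧸ (Cfsg.pPrimeCore p G).subgroupOf (Cfsg.pPrimePCore p G))).comap (QuotientGroup.mk' ((Cfsg.pPrimeCore p G).subgroupOf (Cfsg.pPrimePCore p G)))).map (Cfsg.pPrimePCore p G).subtype) ↔ g ∈ Cfsg.pPrimePCore p G := by
  set N := Cfsg.pPrimeCore p G
  set P := Cfsg.pPrimePCore p G
  have h0 := aux (centralizer_pCore_le_of_isPSolvable Fact.out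
    (isPSolvable_quotient Fact.out hG N) pPrimeCore_quotient_pPrimeCore) (g : G ⧸ N)
  rw [mem_pPrimePCore_iff, ← h0]
  let f : P →* pCore p (G ⧸ N) :=
    ((QuotientGroup.mk' N).comp P.subtype).codRestrict _ fun y => y.2
  have hf : Function.Surjective f := fun z => by
    obtain ⟨y, hy⟩ := QuotientGroup.mk'_surjective N z
    exact ⟨⟨y, show QuotientGroup.mk' N y ∈ pCore p (G ⧸ N) from hy ▸ z.2⟩, Subtype.ext hy⟩
  have hk : N.subgroupOf P = f.ker := by
    ext y
    rw [MonoidHom.mem_ker, Subtype.ext_iff, Subgroup.mem_subgroupOf]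
    exact (QuotientGroup.eq_one_iff _).symm
  let e := (QuotientGroup.quotientMulEquivOfEq hk).trans
    (QuotientGroup.quotientKerEquivOfSurjective f hf)
  have key : ∀ y : P, (y : G) ∈ ((frattini (P ⧸ N.subgroupOf P)).comap
      (QuotientGroup.mk' (N.subgroupOf P))).map P.subtype ↔
      ((y : G) : G ⧸ N) ∈ (frattini (pCore p (G ⧸ N))).map (pCore p (G ⧸ N)).subtype := fun y => by
    have h1 : ((y : G) : G ⧸ N) = (pCore p (G ⧸ N)).subtype
      ((e : _ →* _) (QuotientGroup.mk' (N.subgroupOf P) y)) := rfl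
    rw [h1, Subgroup.mem_map_iff_mem (Subgroup.subtype_injective _), ← map_frattini_equiv e,
      Subgroup.mem_map_iff_mem e.injective]
    exact Subgroup.mem_map_iff_mem (Subgroup.subtype_injective _)
  have hP : P.Normal := pPrimePCore_normal p G
  constructor
  · intro h x hx
    obtain ⟨y, rfl⟩ := QuotientGroup.mk'_surjective N x
    exact (key ⟨_, P.mul_mem (hP.conj_mem y hx g) (P.inv_mem hx)⟩).1 (h y hx)
  · intro h x hx
    exact (key ⟨_, P.mul_mem (hP.conj_mem x hx g) (P.inv_mem hx)⟩).2 (h x hx)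

end Cfsg.Agent.S4218
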