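import Cfsg.Statements.S4219
import Cfsg.Agent.Lib.Transfer.SylowIn

set_option autoImplicit false
open Cfsg

namespace Cfsg.Agent.S4219

open Cfsg.Lib.Transfer Subgroup

/-- Let a finite group `G` act `t`-fold transitively on a finite set, let `H` be the stabilizer of `t` distinct points and `P` a Sylow `p`-subgroup of `H`. Then the normalizer of `P` in `G` is `t`-fold transitive on the fixed points of `P`: any `t` distinct fixed points of `P` can be carried to any other `t` distinct fixed points of `P` by an element normalizing `P`. -/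
theorem result {G : Type*} [Group G] [Finite G] {α : Type*} [Fintype α] [MulAction G α] {t : ℕ} (hG : MulAction.IsMultiplyPretransitive G α t) (x : Fin t ↪ α) {p : ℕ} [Fact p.Prime] (P : Sylow p (MulAction.stabilizer G x)) (a b : Fin t ↪ α) (ha : ∀ i, a i ∈ MulAction.fixedPoints ((P : Subgroup (MulAction.stabilizer G x)).map (MulAction.stabilizer G x).subtype) α) (hb : ∀ i, b i ∈ MulAction.fixedPoints ((P : Subgroup (MulAction.stabilizer G x)).map (MulAction.stabilizer G x).subtype) α) : ∃ g ∈ Subgroup.normalizer ((((P : Subgroup (MulAction.stabilizer G x)).map (MulAction.stabilizer G x).subtype) : Subgroup G) : Set G), g • a = b := by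
  have hP := sylowIn_map_subtype P
  have key : ∀ a : Fin t ↪ α, (∀ i, a i ∈ MulAction.fixedPoints ((P : Subgroup
      (MulAction.stabilizer G x)).map (MulAction.stabilizer G x).subtype) α) → ∃ g : G, g • a = x ∧
      SylowIn p (cj g ((P : Subgroup (MulAction.stabilizer G x)).map
        (MulAction.stabilizer G x).subtype)) (MulAction.stabilizer G x) := fun a ha => by
    obtain ⟨g, hg⟩ := hG.exists_smul_eq a x
    refine ⟨g, hg, hP.of_card_le (cj_le_iff.2 fun y hy => ?_) (isPGroup_cj g hP.2) (card_cj g _).ge⟩
    have : y • a = a := Function.Embedding.ext fun i => ha i ⟨y, hy⟩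
    rw [MulAction.mem_stabilizer_iff, ← hg, mul_smul, inv_smul_smul, mul_smul, this]
  obtain ⟨g, hg, h1⟩ := key a ha
  obtain ⟨k, hk, h2⟩ := key b hb
  obtain ⟨h, hh, e⟩ := h1.exists_cj_eq h2
  refine ⟨k⁻¹ * (h * g), cj_eq_iff.1 (by rw [cj_mul, cj_mul, e, cj_inv_cj]), ?_⟩
  rw [mul_smul, mul_smul, hg, hh, ← hk, inv_smul_smul]

end Cfsg.Agent.S4219
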