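import Cfsg.Statements.S4220
import Cfsg.Agent.S0711
import Cfsg.Agent.S0713
import Cfsg.Agent.S0415
import Cfsg.Agent.Lib.Perm.Sharp2
import Cfsg.Agent.Lib.PGrp.Basic
import Cfsg.Agent.Lib.Invol.Count
import Mathlib.GroupTheory.SpecificGroups.Alternating.Simple

set_option autoImplicit false
open Cfsg

namespace Cfsg.Agent.S4220

open Subgroup MulAction Cfsg.Lib
open scoped commutatorElement Pointwise

section
variable {G α : Type*} [Group G] [Finite G] [MulAction G α] [FaithfulSMul G α] {p : ℕ} [hp : Fact p.Prime]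
  {P : Subgroup G} {F : Set α}

structure St (p : ℕ) (P : Subgroup G) (F : Set α) : Prop where
  pg : IsPGroup p P
  fix : ∀ x ∈ P, ∀ a ∈ F, x • a = a
  idx : ∀ a ∉ F, (stabilizer G a).relIndex P = p

omit [Finite G] hp in
theorem St.ext (h : St p P F) {x y : G} (hx : x ∈ P) (hy : y ∈ P) (e : ∀ a ∉ F, x • a = y • a) :
    x = y := eq_of_smul_eq_smul (α := α) fun a => by
  by_cases ha : a ∈ F
  · rw [h.fix x hx a ha, h.fix y hy a ha]
  · exact e a ha

theorem St.comm (h : St p P F) {x y : G} (hx : x ∈ P) (hy : y ∈ P) : x * y = y * x := by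
  rw [← commutatorElement_eq_one_iff_mul_comm]
  refine h.ext (P.mul_mem (P.mul_mem (P.mul_mem hx hy) (P.inv_mem hx)) (P.inv_mem hy)) P.one_mem
    fun a ha => ?_
  haveI := PGrp.normal_of_index_eq h.pg (h.idx a ha)
  rw [one_smul]
  exact (PGrp.commutator_le_and_pow_mem_of_index_eq _ (h.idx a ha)).1
    (commutator_mem_commutator (mem_top (⟨x, hx⟩ : P)) (mem_top ⟨y, hy⟩))

theorem St.pow (h : St p P F) {x : G} (hx : x ∈ P) : x ^ p = 1 := by
  refine h.ext (P.pow_mem hx p) P.one_mem fun a ha => ?_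
  haveI := PGrp.normal_of_index_eq h.pg (h.idx a ha)
  rw [one_smul]
  exact (PGrp.commutator_le_and_pow_mem_of_index_eq _ (h.idx a ha)).2 ⟨x, hx⟩

theorem St.smul_eq (h : St p P F) {x y z : G} (hx : x ∈ P) (hy : y ∈ P) (hz : z ∈ P) {a : α}
    (e : x • a = y • a) : x • z • a = y • z • a := by
  rw [← mul_smul, ← mul_smul, h.comm hx hz, h.comm hy hz, mul_smul, mul_smul, e]

omit [Finite G] [FaithfulSMul G α] hp in
theorem St.mem_iff (h : St p P F) (hp1 : p ≠ 1) {g : G} (hg : g ∈ normalizer (P : Set G)) {a : α} :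
    g • a ∈ F ↔ a ∈ F := by
  have key : ∀ g ∈ normalizer (P : Set G), ∀ a ∈ F, g • a ∈ F := fun g hg a ha => by
    by_contra hc
    refine hp1 ((h.idx _ hc).symm.trans (relIndex_eq_one.2 fun x hx => ?_))
    have := h.fix _ ((mem_normalizer_iff''.1 hg x).1 hx) a ha
    rw [mem_stabilizer_iff, ← smul_left_cancel_iff g⁻¹, inv_smul_smul, ← mul_smul, ← mul_smul, this]
  exact ⟨fun e => by simpa using key g⁻¹ (inv_mem hg) _ e, key g hg a⟩

/-- `g` normalizes `P` and stabilizes each orbit. -/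
def K1 (P : Subgroup G) (F : Set α) (g : G) : Prop :=
  g ∈ normalizer (P : Set G) ∧ ∀ a ∉ F, ∃ y ∈ P, g • a = y • a

theorem St.exists_m (h : St p P F) {g : G} (hg : K1 P F g) {a : α} (ha : a ∉ F) :
    ∃ m : ℤ, ∀ x ∈ P, (g * x * g⁻¹) • a = x ^ m • a := by
  haveI := PGrp.normal_of_index_eq h.pg (h.idx a ha)
  haveI : IsCyclic (P ⧸ (stabilizer G a).subgroupOf P) := isCyclic_of_prime_card (h.idx a ha)
  let σ : P →* P := (P.normalizerMonoidHom ⟨g, hg.1⟩).toMonoidHom
  have hσ : ∀ x : P, (σ x : G) = g * x * g⁻¹ := fun x => rfl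
  obtain ⟨m, hm⟩ := (QuotientGroup.map _ _ σ (fun x hx => by
    obtain ⟨y, hy, e⟩ := hg.2 (g⁻¹ • a) (by rwa [h.mem_iff hp.out.one_lt.ne' (inv_mem hg.1)])
    rw [smul_inv_smul, eq_comm, ← eq_inv_smul_iff] at e
    change (σ x : G) • a = a
    rw [hσ, mul_smul, mul_smul, e, h.smul_eq x.2 P.one_mem (P.inv_mem hy) (hx.trans (one_smul G a).symm),
      one_smul, ← e, smul_inv_smul]) : _ →* P ⧸ (stabilizer G a).subgroupOf P).map_cyclic
  refine ⟨m, fun x hx => ?_⟩
  have := hm (⟨x, hx⟩ : P)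
  rw [QuotientGroup.map_mk, ← QuotientGroup.mk_zpow, eq_comm, QuotientGroup.eq] at this
  have h1 : ((x ^ m)⁻¹ * (g * x * g⁻¹)) • a = a := this
  rwa [mul_smul, inv_smul_eq_iff] at h1

theorem St.comm_mem (h : St p P F) {g k : G} (hg : K1 P F g⁻¹) (hk : K1 P F k⁻¹) :
    ⁅g, k⁆ ∈ centralizer (P : Set G) := by
  refine mem_centralizer_iff.2 fun x hx => ?_
  have c : ∀ {u : G}, K1 P F u → ∀ x ∈ P, u * x * u⁻¹ ∈ P := fun hu x hx =>
    (mem_normalizer_iff.1 hu.1 x).1 hx
  have := h.ext (c hg _ (c hk x hx)) (c hk _ (c hg x hx)) fun a ha => by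
    obtain ⟨m, hm⟩ := h.exists_m hg ha
    obtain ⟨n, hn⟩ := h.exists_m hk ha
    rw [hm _ (c hk x hx), hn _ (c hg x hx), conj_zpow, conj_zpow, hn _ (P.zpow_mem hx m),
      hm _ (P.zpow_mem hx n), ← zpow_mul, ← zpow_mul, mul_comm]
  calc x * ⁅g, k⁆ = g * k * (k⁻¹ * (g⁻¹ * x * g⁻¹⁻¹) * k⁻¹⁻¹) * g⁻¹ * k⁻¹ := by
        rw [commutatorElement_def]; group
    _ = ⁅g, k⁆ * x := by rw [← this, commutatorElement_def]; group

theorem St.pow_smul (h : St p P F) {g : G} (hg : K1 P F g) (hc : g ∈ centralizer (P : Set G))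
    {a : α} (ha : a ∉ F) : g ^ p • a = a := by
  obtain ⟨y, hy, e⟩ := hg.2 a ha
  have : ∀ j : ℕ, g ^ j • a = y ^ j • a := fun j => by
    induction j with
    | zero => simp
    | succ j ih =>
      rw [pow_succ', mul_smul, ih, ← mul_smul, ← mem_centralizer_iff.1 hc _ (P.pow_mem hy j), mul_smul,
        e, ← mul_smul, ← pow_succ]
  rw [this, h.pow hy, one_smul]

theorem St.scal (h : St p P F)
    (hn : ∀ x ∈ P, ∀ a ∉ F, (∀ b ∉ F, b ∉ orbit P a → x • b = b) → x = 1)
    (h3 : ∀ a ∉ F, ∀ b ∉ F, ∀ c ∉ F, ∀ d ∉ F, b ∉ orbit P a → c ∉ orbit P a → c ∉ orbit P b →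
      d ∈ orbit P a ∨ d ∈ orbit P b ∨ d ∈ orbit P c) {g : G} (hg : K1 P F g) :
    ∃ m : ℤ, ∀ x ∈ P, g * x * g⁻¹ = x ^ m := by
  have c : ∀ x ∈ P, g * x * g⁻¹ ∈ P := fun x hx => (mem_normalizer_iff.1 hg.1 x).1 hx
  by_cases hc : IsCyclic P
  · obtain ⟨m, hm⟩ := (P.normalizerMonoidHom ⟨g, hg.1⟩).toMonoidHom.map_cyclic
    exact ⟨m, fun x hx => congrArg Subtype.val (hm ⟨x, hx⟩)⟩
  have hst : ∀ c ∉ F, ∃ x ∈ P, x ≠ 1 ∧ x • c = c := fun c hc' => by
    by_contra hcon
    push Not at hcon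
    refine hc (isCyclic_of_prime_card (p := p) ?_)
    have : (stabilizer G c).subgroupOf P = ⊥ := (eq_bot_iff_forall _).2 fun x hx => Subtype.ext
      (by_contra fun e => hcon x x.2 e hx)
    rw [← h.idx c hc', relIndex, this, index_bot]
  have horb : ∀ x ∈ P, ∀ a : α, x • a = a → ∀ b ∈ orbit P a, x • b = b := by
    rintro x hx a e _ ⟨y, rfl⟩
    exact (h.smul_eq hx P.one_mem y.2 (e.trans (one_smul G a).symm)).trans (one_smul _ _)
  by_cases h0 : ∀ a, a ∈ F
  · exact ⟨1, fun x hx => h.ext (c x hx) (P.zpow_mem hx 1) fun a ha => absurd (h0 a) ha⟩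
  push Not at h0
  obtain ⟨a, ha⟩ := h0
  obtain ⟨m, hm⟩ := h.exists_m hg ha
  refine ⟨m, fun x hx => h.ext (c x hx) (P.zpow_mem hx m) fun b hb => ?_⟩
  by_cases hab : b ∈ orbit P a
  · obtain ⟨y, rfl⟩ := hab
    exact h.smul_eq (c x hx) (P.zpow_mem hx m) y.2 (hm x hx)
  obtain ⟨d, hd, hda, hdb⟩ : ∃ d ∉ F, d ∉ orbit P a ∧ d ∉ orbit P b := by
    by_contra hcon
    push Not at hcon
    obtain ⟨y, hy, hy1, e⟩ := hst a ha
    exact hy1 (hn y hy b hb fun d hd hdb => horb y hy a e d (by_contra fun h' => hdb (hcon d hd h')))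
  obtain ⟨y, hy, hy1, e⟩ := hst d hd
  obtain ⟨n, hn'⟩ := h.exists_m hg hb
  obtain ⟨l, hl⟩ := h.exists_m hg hd
  have hz : (y ^ m)⁻¹ * (g * y * g⁻¹) = 1 := by
    have hzP := P.mul_mem (P.inv_mem (P.zpow_mem hy m)) (c y hy)
    refine hn _ hzP b hb fun u hu hub => ?_
    rcases h3 a ha b hb d hd u hu hab hda hdb with h1 | h1 | h1
    · exact horb _ hzP a (by rw [mul_smul, hm y hy, inv_smul_smul]) u h1
    · exact absurd h1 hub
    · have e' : ∀ j : ℤ, y ^ j • d = d := fun j => (stabilizer G d).zpow_mem e j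
      exact horb _ hzP d (by rw [mul_smul, hl y hy, e', ← zpow_neg, e']) u h1
  have hyb : y • b ≠ b := fun e' => hy1 (hn y hy a ha fun u hu hua => by
    rcases h3 a ha b hb d hd u hu hab hda hdb with h1 | h1 | h1
    · exact absurd h1 hua
    · exact horb y hy b e' u h1
    · exact horb y hy d e u h1)
  have h1 : y ^ (m - n) ∈ stabilizer G b := by
    rw [mem_stabilizer_iff, sub_eq_neg_add, zpow_add, mul_smul, inv_mul_eq_one.1 hz, hn' y hy, zpow_neg,
      inv_smul_smul]
  have h2 : (p : ℤ) ∣ m - n := by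
    by_contra hd'
    obtain ⟨u, v, huv⟩ := ((Nat.prime_iff_prime_int.1 hp.out).irreducible.coprime_iff_not_dvd.2 hd')
    refine hyb ?_
    have : y = (y ^ (m - n)) ^ v := by
      rw [← zpow_mul, show (m - n) * v = 1 - p * u by linear_combination huv, zpow_sub, zpow_mul,
        zpow_natCast, h.pow hy]
      simp
    rw [← mem_stabilizer_iff, this]
    exact zpow_mem h1 v
  obtain ⟨j, hj⟩ := h2
  rw [hn' x hx, show m = n + p * j by linear_combination hj, zpow_add, zpow_mul, zpow_natCast,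
    h.pow hx, one_zpow, mul_one]

omit [Finite G] [FaithfulSMul G α] hp in
theorem smul_orbit_eq {g : G} (hg : g ∈ normalizer (P : Set G)) (a : α) :
    g • orbit P a = orbit P (g • a) := by
  ext b
  constructor
  · rintro ⟨_, ⟨y, rfl⟩, rfl⟩
    exact ⟨⟨g * y * g⁻¹, (mem_normalizer_iff.1 hg y).1 y.2⟩, by simp [mul_smul, Subgroup.smul_def]⟩
  · rintro ⟨y, rfl⟩
    exact ⟨_, ⟨⟨g⁻¹ * y * g, (mem_normalizer_iff''.1 hg y).1 y.2⟩, rfl⟩,
      by simp [mul_smul, Subgroup.smul_def]⟩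

theorem St.exists_hom (h : St p P F) : ∃ (φ : normalizer (P : Set G) →* Equiv.Perm F)
    (ψ : normalizer (P : Set G) →* Equiv.Perm {s : Set α // ∃ a ∉ F, s = orbit P a}),
    (∀ g a, (φ g a : α) = (g : G) • (a : α)) ∧ ∀ g ∈ ψ.ker, K1 P F (g : G) := by
  have h1 := hp.out.one_lt.ne'
  let A : SubMulAction (normalizer (P : Set G)) α := ⟨F, fun g _ ha => (h.mem_iff h1 g.2).2 ha⟩
  let B : SubMulAction (normalizer (P : Set G)) (Set α) := ⟨{s | ∃ a ∉ F, s = orbit P a}, by
    rintro g _ ⟨a, ha, rfl⟩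
    exact ⟨(g : G) • a, by rwa [h.mem_iff h1 g.2], smul_orbit_eq g.2 a⟩⟩
  refine ⟨toPermHom _ A, toPermHom _ B, fun _ _ => rfl, fun g hg => ⟨g.2, fun a ha => ?_⟩⟩
  have h2 : (g : G) • orbit P a = orbit P a :=
    congrArg Subtype.val (DFunLike.congr_fun hg (⟨orbit P a, a, ha, rfl⟩ : B))
  obtain ⟨y, hy⟩ : (g : G) • a ∈ orbit P a := h2 ▸ Set.smul_mem_smul_set (mem_orbit_self a)
  exact ⟨y, y.2, hy.symm⟩

omit [Finite G] [FaithfulSMul G α] in
theorem St.ncard (h : St p P F) {a : α} (ha : a ∉ F) : (orbit P a).ncard = p := by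
  rw [← index_stabilizer, ← h.idx a ha, relIndex]
  congr 1

omit [Finite G] [FaithfulSMul G α] in
theorem St.card_orbits [Finite α] (h : St p P F) :
    Nat.card {s : Set α // ∃ a ∉ F, s = orbit P a} * p = Fᶜ.ncard := by
  refine (Invol.card_eq_mul_of_fibers (p := (· ∉ F)) (orbit P) (fun a ha => ⟨a, ha, rfl⟩) ?_).symm
  rintro _ ⟨a, ha, rfl⟩
  rw [← h.ncard ha, ← Nat.card_coe_set_eq]
  refine Invol.card_congr_iff fun b => ⟨fun hb => orbit_eq_iff.1 hb.2, fun hb => ⟨?_, orbit_eq_iff.2 hb⟩⟩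
  obtain ⟨y, rfl⟩ := hb
  exact mt (h.mem_iff hp.out.one_lt.ne' (le_normalizer y.2)).1 ha

end

theorem exists_four {β : Type*} [Finite β] (h : Nat.card β = 4) : ∃ a b c d e : Equiv.Perm β,
    orderOf ⁅a, ⁅⁅b, c⁆, ⁅d, e⁆⁆⁆ = 2 := by
  let f : Equiv.Perm (Fin 4) ≃* Equiv.Perm β := (Finite.equivFinOfCardEq h).symm.permCongrHom
  refine ⟨f (Equiv.swap 0 2), f (Equiv.swap 0 1), f (Equiv.swap 1 2), f (Equiv.swap 1 2),
    f (Equiv.swap 2 3), ?_⟩
  simp only [← map_commutatorElement, MulEquiv.orderOf_eq]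
  exact orderOf_eq_prime (by decide +kernel) (by decide +kernel)

theorem exists_three {β : Type*} [Finite β] (h : Nat.card β = 3) : ∃ a b c : Equiv.Perm β,
    orderOf ⁅a, ⁅b, c⁆⁆ = 3 := by
  let f : Equiv.Perm (Fin 3) ≃* Equiv.Perm β := (Finite.equivFinOfCardEq h).symm.permCongrHom
  refine ⟨f (Equiv.swap 0 1), f (Equiv.swap 0 1), f (Equiv.swap 1 2), ?_⟩
  simp only [← map_commutatorElement, MulEquiv.orderOf_eq]
  haveI : Fact (Nat.Prime 3) := ⟨Nat.prime_three⟩
  exact orderOf_eq_prime (by decide +kernel) (by decide +kernel)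


/-- Let `n = kp + r` with `p` prime, `1 ≤ k < p` and `r > k`, excluding the case `k = 1, r = 2`. Then a permutation group of degree `n` that is `(r + 1)`-fold transitive contains the alternating group. -/
theorem result {α : Type*} [Fintype α] [DecidableEq α] (G : Subgroup (Equiv.Perm α)) {k p r : ℕ} (hp : p.Prime) (hn : Fintype.card α = k * p + r) (hk : 1 ≤ k) (hpk : k < p) (hrk : k < r) (hex : ¬ (k = 1 ∧ r = 2)) (hG : MulAction.IsMultiplyPretransitive G α (r + 1)) : alternatingGroup α ≤ G := by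
  classical
  haveI := Fact.mk hp
  have hr : 3 ≤ r := by omega
  have h2 := hp.two_le
  have hpk' : p ≤ k * p := Nat.le_mul_of_pos_left p hk
  have hc : Nat.card α = Fintype.card α := Nat.card_eq_fintype_card
  by_contra hA
  have small : ∀ g ∈ G, g.support.card < 2 * r → g = 1 := fun g hg h => by_contra fun h1 =>
    hA (S0711.result G (k := r + 1) (by omega) (by omega) hG g hg h1 (by omega)).2
  obtain ⟨F, -, hF⟩ := Finset.exists_subset_card_eq (s := (Finset.univ : Finset α)) (n := r)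
    (by rw [Finset.card_univ]; omega)
  have hFc : (F : Set α)ᶜ.ncard = k * p := by
    rw [← Finset.coe_compl, Set.ncard_coe_finset, Finset.card_compl]; omega
  obtain ⟨P, hP⟩ := Amalg.exists_syl p (fixingSubgroup G (F : Set α))
  have hfix : ∀ x ∈ P, ∀ a ∈ (F : Set α), x • a = a := fun x hx => (mem_fixingSubgroup_iff G).1 (hP.le hx)
  have h : St p P (F : Set α) := ⟨hP.isPGroup, hfix, fun a ha => by
    have h1 : (stabilizer G a).relIndex (fixingSubgroup G (F : Set α)) = k * p := by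
      rw [← hFc, show (stabilizer G a).relIndex (fixingSubgroup G (F : Set α)) =
        (stabilizer (fixingSubgroup G (F : Set α)) a).index from rfl, index_stabilizer]
      congr 1
      ext b
      constructor
      · rintro ⟨y, rfl⟩ hb
        exact ha (by
          have := (mem_fixingSubgroup_iff G).1 y⁻¹.2 _ hb
          rwa [show ((y⁻¹ : fixingSubgroup G (F : Set α)) : G) • y • a = a from inv_smul_smul y a,
            eq_comm] at this ▸ hb)
      · intro hb
        obtain ⟨g, h1, h2⟩ := Perm.exists_fix_smul_of_mt hG F hF ha hb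
        exact ⟨⟨g, (mem_fixingSubgroup_iff G).2 h1⟩, h2⟩
    obtain ⟨j, hj⟩ := hP.isPGroup.index ((stabilizer G a).subgroupOf P)
    have h3 : p ^ j < p ^ 2 := by
      refine lt_of_le_of_lt ?_ (show k * p < p ^ 2 by nlinarith)
      rw [← hj, ← h1]
      exact relIndex_le_of_le_right hP.le (by rw [h1]; positivity)
    rw [Nat.pow_lt_pow_iff_right hp.one_lt] at h3
    interval_cases j
    · refine absurd ?_ hP.not_dvd_relIndex
      rw [← relIndex_mul_relIndex P _ _ (le_inf (relIndex_eq_one.1 hj) hP.le) inf_le_right,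
        inf_relIndex_right, h1]
      exact ((dvd_mul_left p k).mul_left _)
    · exact hj.trans (pow_one p)⟩
  have hsupp : ∀ (g : G) (s : Set α), (∀ b ∉ s, g • b = b) → (g : Equiv.Perm α).support.card ≤ s.ncard :=
    fun g s hs => by
      rw [← Set.ncard_coe_finset]
      exact Set.ncard_le_ncard fun b hb => by_contra fun hb' => Equiv.Perm.mem_support.1 hb (hs b hb')
  have hnc : ∀ x ∈ P, ∀ a ∉ (F : Set α), (∀ b ∉ (F : Set α), b ∉ orbit P a → x • b = b) → x = 1 := by
    intro x hx a ha hb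
    by_contra h1
    have ho : orderOf (x : Equiv.Perm α) = p := by rw [orderOf_coe, orderOf_eq_prime (h.pow hx) h1]
    have h3 := hsupp x (orbit P a) fun b hb' => by
      by_cases h4 : b ∈ (F : Set α)
      · exact hfix x hx b h4
      · exact hb b h4 hb'
    rw [h.ncard ha] at h3
    have hcy := Equiv.Perm.isCycle_of_prime_order (σ := (x : Equiv.Perm α)) (ho ▸ hp) (by rw [ho]; omega)
    haveI : IsMultiplyPretransitive G α 2 := isMultiplyPretransitive_of_le (n := r + 1) (by omega) (by omega)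
    exact hA (S0713.result G (isPreprimitive_of_is_two_pretransitive inferInstance) hp (by omega)
      (by omega) hcy (by rw [← hcy.orderOf, ho]) x.2)
  obtain ⟨φ, ψ, hφ, hψ⟩ := h.exists_hom
  have hO := h.card_orbits
  rw [hFc, Nat.mul_left_inj hp.ne_zero] at hO
  have hFr : Nat.card (F : Set α) = r := by rw [Nat.card_coe_set_eq, Set.ncard_coe_finset, hF]
  have hsurj : Function.Surjective φ := fun π => by
    obtain ⟨g₀, h0⟩ := Perm.exists_smul_eqOn (isMultiplyPretransitive_of_le (G := G) (n := r + 1) (m := r)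
      (by omega) (by omega)) F hF (Equiv.Perm.ofSubtype π) (Equiv.injective _).injOn
    have h1 : ∀ a : (F : Set α), g₀ • (a : α) = π a := fun a =>
      (h0 a a.2).trans (Equiv.Perm.ofSubtype_apply_coe π a)
    obtain ⟨u, hu, h3⟩ := Perm.witt_normalizer hP g₀ fun a ha y hy => by
      rw [h1 ⟨a, ha⟩]; exact hfix y hy _ (π _).2
    exact ⟨⟨u, hu⟩, Equiv.ext fun a => Subtype.ext ((hφ _ a).trans ((h3 a a.2).trans (h1 a)))⟩
  have fin : ∀ g ∈ ψ.ker, (g : G) ∈ centralizer (P : Set G) → orderOf (φ g) ∣ p := fun g hg hc' => by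
    have := small ((g : G) ^ p : G) (Subtype.prop _) (lt_of_le_of_lt (hsupp _ F fun b hb =>
      h.pow_smul (hψ g hg) hc' hb) (by rw [Set.ncard_coe_finset]; omega))
    rw [orderOf_dvd_iff_pow_eq_one, ← map_pow, show g ^ p = 1 from Subtype.ext (Subtype.ext this), map_one]
  by_cases h5 : 5 ≤ r
  · haveI : (ψ.ker.map φ).Normal := Normal.map inferInstance φ hsurj
    have h1 := Equiv.Perm.alternatingGroup_le_of_normal (N := ψ.ker.map φ) (hFr ▸ h5)
      ((nontrivial_iff_ne_bot _).2 fun e => by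
        have h3 := Nat.le_of_dvd (Nat.pos_of_ne_zero FiniteIndex.index_ne_zero)
          (index_dvd_of_le ((Subgroup.map_eq_bot_iff _).1 e))
        rw [index_ker, index_ker, MonoidHom.range_eq_top.2 hsurj, card_top, Nat.card_perm, hFr] at h3
        have h4 := h3.trans ψ.range.card_le_card_group
        rw [Nat.card_perm, hO] at h4
        exact absurd h4 (not_le.2 (Nat.factorial_lt_of_lt hk hrk)))
    have h3 : ∀ σ ∈ alternatingGroup (F : Set α), orderOf σ ∣ p := fun σ hσ => by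
      rw [← commutator_alternatingGroup_eq_self (hFr ▸ h5)] at hσ
      have := commutator_mono h1 h1 hσ
      rw [← map_commutator] at this
      obtain ⟨g, hg, rfl⟩ := this
      refine fin g (commutator_le_left _ _ hg) ?_
      exact (commutator_le (H₃ := (centralizer (P : Set G)).subgroupOf _)).2 (fun a ha b hb =>
        h.comm_mem (hψ _ (inv_mem ha)) (hψ _ (inv_mem hb))) hg
    rw [Nat.card_eq_fintype_card] at hFr
    obtain ⟨s, hs⟩ := (Equiv.Perm.exists_with_cycleType_iff (F : Set α) (m := {3})).2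
      ⟨by simp only [Multiset.sum_singleton]; omega, by simp⟩
    obtain ⟨t, ht⟩ := (Equiv.Perm.exists_with_cycleType_iff (F : Set α) (m := {2, 2})).2
      ⟨by simp only [Multiset.insert_eq_cons, Multiset.sum_cons, Multiset.sum_singleton]; omega, by simp⟩
    have h6 := h3 s (by rw [Equiv.Perm.mem_alternatingGroup, Equiv.Perm.sign_of_cycleType, hs]; rfl)
    have h7 := h3 t (by rw [Equiv.Perm.mem_alternatingGroup, Equiv.Perm.sign_of_cycleType, ht]; rfl)
    rw [← Equiv.Perm.lcm_cycleType, hs] at h6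
    rw [← Equiv.Perm.lcm_cycleType, ht] at h7
    have h8 := (Nat.prime_dvd_prime_iff_eq Nat.prime_three hp).1 (by simpa using h6)
    have h9 := (Nat.prime_dvd_prime_iff_eq Nat.prime_two hp).1 (by simpa using h7)
    omega
  have hk2 : 2 ≤ k := by
    by_contra hk2
    obtain ⟨a, ha⟩ : ((F : Set α)ᶜ).Nonempty := Set.nonempty_of_ncard_ne_zero (by omega)
    refine hp.one_lt.ne' ((h.idx a ha).symm.trans (relIndex_eq_one.2 fun x hx => ?_))
    rw [hnc x hx a ha fun b hb hb' => absurd ?_ hb']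
    · exact one_mem _
    haveI := (Nat.card_eq_one_iff_unique.1 (hO.trans (by omega : k = 1))).1
    have := Subsingleton.elim (⟨orbit P b, b, hb, rfl⟩ : {s : Set α // ∃ a ∉ (F : Set α), s = orbit P a})
      ⟨orbit P a, a, ha, rfl⟩
    exact orbit_eq_iff.1 (congrArg Subtype.val this)
  have hthree : ∀ a ∉ (F : Set α), ∀ b ∉ (F : Set α), ∀ c ∉ (F : Set α), ∀ d ∉ (F : Set α),
      b ∉ orbit P a → c ∉ orbit P a → c ∉ orbit P b →
      d ∈ orbit P a ∨ d ∈ orbit P b ∨ d ∈ orbit P c := by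
    intro a ha b hb c hc' d hd h1 h3 h4
    by_contra hcon
    push Not at hcon
    have h6 : ({orbit P a, orbit P b, orbit P c, orbit P d} : Set (Set α)).ncard ≤ k := by
      rw [← hO]
      refine Set.ncard_le_ncard (t := {s | ∃ a ∉ (F : Set α), s = orbit P a}) ?_
      rintro _ (rfl | rfl | rfl | rfl)
      exacts [⟨a, ha, rfl⟩, ⟨b, hb, rfl⟩, ⟨c, hc', rfl⟩, ⟨d, hd, rfl⟩]
    have ne : ∀ {u v : α}, v ∉ orbit P u → orbit P u ≠ orbit P v := fun h e => h (orbit_eq_iff.1 e.symm)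
    rw [Set.ncard_insert_of_notMem (by simp [ne h1, ne h3, ne hcon.1]),
      Set.ncard_insert_of_notMem (by simp [ne h4, ne hcon.2.1]), Set.ncard_pair (ne hcon.2.2)] at h6
    omega
  have fin2 : ∀ u, ∀ g ∈ ψ.ker, orderOf ⁅φ u, φ g⁆ ∣ p := fun u g hg => by
    rw [← map_commutatorElement]
    refine fin _ (commutator_le_right ⊤ _ (commutator_mem_commutator (mem_top u) hg)) ?_
    obtain ⟨m, hm⟩ := h.scal hnc hthree (hψ _ (inv_mem hg))
    · refine mem_centralizer_iff.2 fun x hx => ?_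
      have e1 := hm x hx
      have e2 := hm _ ((mem_normalizer_iff''.1 u.2 x).1 hx)
      rw [show (u : G)⁻¹ * x * u = (u : G)⁻¹ * x * (u : G)⁻¹⁻¹ by group, conj_zpow, ← e1] at e2
      simp only [InvMemClass.coe_inv] at e2
      change x * ((u : G) * g * (u : G)⁻¹ * (g : G)⁻¹) = (u : G) * g * (u : G)⁻¹ * (g : G)⁻¹ * x
      calc _ = (u : G) * g * ((g : G)⁻¹ * ((u : G)⁻¹ * x * (u : G)⁻¹⁻¹) * (g : G)⁻¹⁻¹) * (u : G)⁻¹ *
            (g : G)⁻¹ := by group
        _ = _ := by rw [e2]; group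
  by_cases h4 : r = 4
  · obtain ⟨a, b, c, d, e, ho⟩ := exists_four (hFr.trans h4)
    obtain ⟨a, rfl⟩ := hsurj a
    obtain ⟨b, rfl⟩ := hsurj b
    obtain ⟨c, rfl⟩ := hsurj c
    obtain ⟨d, rfl⟩ := hsurj d
    obtain ⟨e, rfl⟩ := hsurj e
    have := fin2 a ⁅⁅b, c⁆, ⁅d, e⁆⁆ (by
      haveI := Fintype.ofFinite {s : Set α // ∃ a ∉ (F : Set α), s = orbit P a}
      rw [MonoidHom.mem_ker]
      simp only [map_commutatorElement]
      exact commutatorElement_eq_one_iff_mul_comm.2 (PGrp.comm_of_mem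
        (alternatingGroup.isMulCommutative_of_card_le_three (by omega))
        (alternatingGroup.commutator_perm_le (commutator_mem_commutator (mem_top _) (mem_top _)))
        (alternatingGroup.commutator_perm_le (commutator_mem_commutator (mem_top _) (mem_top _)))))
    simp only [map_commutatorElement, ho] at this
    have := (Nat.prime_dvd_prime_iff_eq Nat.prime_two hp).1 this
    omega
  obtain rfl : r = 3 := by omega
  obtain rfl : k = 2 := by omega
  obtain ⟨a, b, c, ho⟩ := exists_three hFr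
  obtain ⟨a, rfl⟩ := hsurj a
  obtain ⟨b, rfl⟩ := hsurj b
  obtain ⟨c, rfl⟩ := hsurj c
  have := fin2 a ⁅b, c⁆ (by
    rw [MonoidHom.mem_ker, map_commutatorElement]
    exact commutatorElement_eq_one_iff_mul_comm.2
      ((Equiv.Perm.isMulCommutative_iff_card_le_two.2 hO.le).1.1 _ _))
  simp only [map_commutatorElement, ho] at this
  obtain rfl := (Nat.prime_dvd_prime_iff_eq Nat.prime_three hp).1 this
  have := S0415.result G (by omega) fun x => (eq_bot_iff_forall _).2 fun g hg =>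
    Subtype.ext (small g g.2 (lt_of_le_of_lt (hsupp g (Set.range x)ᶜ fun b hb => by
      obtain ⟨i, rfl⟩ := not_not.1 hb
      exact DFunLike.congr_fun hg i) (by
        have := Set.ncard_add_ncard_compl (Set.range x)
        rw [Set.ncard_range_of_injective x.injective, Nat.card_fin] at this
        omega)))
  omega

end Cfsg.Agent.S4220
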