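import Cfsg.Statements.S4221
import Cfsg.Agent.Lib.ZD.Count
import Cfsg.Agent.Lib.Golay.Chain
import Cfsg.Agent.Lib.Perm.Sharp2

set_option autoImplicit false
open Cfsg

namespace Cfsg.Agent.S4221

section
set_option linter.unusedSectionVars false
open Subgroup MulAction Cfsg.Lib

variable {G α : Type*} [Group G] [Finite G] [Fintype α] [DecidableEq α] [MulAction G α]

/-- Four distinct points. -/
def D4 (a b c d : α) : Prop := a ≠ b ∧ a ≠ c ∧ a ≠ d ∧ b ≠ c ∧ b ≠ d ∧ c ≠ d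

variable (G) in
/-- The pointwise stabiliser of four points. -/
def St (a b c d : α) : Subgroup G := stabilizer G a ⊓ stabilizer G b ⊓ stabilizer G c ⊓ stabilizer G d

theorem mem_St {a b c d : α} {g : G} : g ∈ St G a b c d ↔ g • a = a ∧ g • b = b ∧ g • c = c ∧ g • d = d := by
  simp only [St, mem_inf, mem_stabilizer_iff, and_assoc]

/-- The fixed points. -/
def Fx (α : Type*) [Fintype α] [DecidableEq α] [MulAction G α] (x : G) : Finset α :=
  Finset.univ.filter fun a => x • a = a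

theorem mem_Fx {x : G} {a : α} : a ∈ Fx α x ↔ x • a = a := by simp [Fx]

theorem Fx_mod {x : G} (hx : x * x = 1) : Fintype.card α % 2 = (Fx α x).card % 2 := by
  have := Equiv.Perm.card_fixedPoints_modEq (p := 2) (n := 1) (f := (fun a => x • a : Function.End α))
    (funext fun a => by
      change x • x • a = a
      rw [smul_smul, hx, one_smul])
  rw [Fintype.card_subtype] at this
  exact this

theorem Fx_conj (g x : G) : (Fx α (g * x * g⁻¹)).card = (Fx α x).card := by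
  refine (Finset.card_bij (fun a _ => g • a) (fun a ha => ?_) (fun a _ b _ e => smul_left_cancel g e)
    fun b hb => ⟨g⁻¹ • b, ?_, smul_inv_smul g b⟩).symm
  · rw [mem_Fx] at ha ⊢
    rw [mul_smul, mul_smul, inv_smul_smul, ha]
  · rw [mem_Fx] at hb ⊢
    rwa [mul_smul, mul_smul, smul_eq_iff_eq_inv_smul] at hb

theorem odd_fix {g : G} (hg : Odd (orderOf g)) {a : α} (h : g • g • a = a) : g • a = a := by
  obtain ⟨k, hk⟩ := hg
  have h1 : (g * g) ^ k ∈ stabilizer G a := pow_mem (show (g * g) • a = a by rwa [mul_smul]) k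
  have h2 : g * (g * g) ^ k = 1 := by rw [← sq, ← pow_mul, ← pow_succ', ← hk, pow_orderOf_eq_one]
  conv_lhs => rw [← mem_stabilizer_iff.1 h1, smul_smul, h2, one_smul]

theorem card_orb {X : Type*} [MulAction G X] (K : Subgroup G) (x : X) (S : Finset X)
    (h : ∀ y, y ∈ S ↔ ∃ g ∈ K, g • x = y) : Nat.card K = S.card * Nat.card ↥(K ⊓ stabilizer G x) := by
  rw [Golay.card_eq_orbit_mul K x, ← Set.ncard_coe_finset]
  congr 2
  ext y
  rw [Finset.mem_coe, h]
  exact ⟨fun ⟨g, e⟩ => ⟨g, g.2, e⟩, fun ⟨g, hg, e⟩ => ⟨⟨g, hg⟩, e⟩⟩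

theorem card_conj {K L : Subgroup G} (g : G) (h : ∀ k, k ∈ K ↔ g * k * g⁻¹ ∈ L) : Nat.card K = Nat.card L :=
  Nat.card_congr ((MulAut.conj g).toEquiv.subtypeEquiv h)

theorem conj_St {g : G} {a b c d : α} (k : G) :
    k ∈ St G a b c d ↔ g * k * g⁻¹ ∈ St G (g • a) (g • b) (g • c) (g • d) := by
  simp only [mem_St, mul_smul, inv_smul_smul, smul_left_cancel_iff]

theorem conj_C {g x : G} (k : G) : k ∈ centralizer {x} ↔ g * k * g⁻¹ ∈ centralizer {g * x * g⁻¹} := by
  simp only [mem_centralizer_singleton_iff, conj_mul, mul_left_inj, mul_right_inj]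

variable (G α) in
/-- Fourfold transitivity with odd four-point stabilisers. -/
structure Hyp : Prop where
  tr : ∀ {a b c d a' b' c' d' : α}, D4 a b c d → D4 a' b' c' d' →
    ∃ g : G, g • a = a' ∧ g • b = b' ∧ g • c = c' ∧ g • d = d'
  odd : ∀ {a b c d : α}, D4 a b c d → Odd (Nat.card (St G a b c d))

namespace Hyp

variable (H : Hyp G α)
include H

theorem oddo {a b c d : α} (h : D4 a b c d) {g : G} (hg : g ∈ St G a b c d) : Odd (orderOf g) :=
  (H.odd h).of_dvd_nat (orderOf_dvd_natCard _ hg)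

theorem card_St {a b c d a' b' c' d' : α} (h : D4 a b c d) (h' : D4 a' b' c' d') :
    Nat.card (St G a b c d) = Nat.card (St G a' b' c' d') := by
  obtain ⟨g, rfl, rfl, rfl, rfl⟩ := H.tr h h'
  exact card_conj g conj_St

theorem eq_one {a b c d : α} (h : D4 a b c d) {x : G} (hx : x * x = 1) (hg : x ∈ St G a b c d) : x = 1 := by
  obtain ⟨k, hk⟩ := H.oddo h hg
  have := pow_orderOf_eq_one x
  rwa [hk, pow_succ, pow_mul, sq, hx, one_pow, one_mul] at this

theorem Fx_le {x : G} (hx : x * x = 1) (h1 : x ≠ 1) : (Fx α x).card ≤ 3 := by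
  by_contra hc
  obtain ⟨a, ha, b, hb, c, hc, d, hd, h⟩ := Finset.three_lt_card.1 (not_le.1 hc)
  exact h1 (H.eq_one (a := a) (b := b) (c := c) (d := d) h hx
    (mem_St.2 ⟨mem_Fx.1 ha, mem_Fx.1 hb, mem_Fx.1 hc, mem_Fx.1 hd⟩))

theorem fixup {a b c d a' b' c' d' : α} (h : D4 a b c d) (h' : D4 a' b' c' d') {x y : G} (hx : x * x = 1)
    (hy : y * y = 1) (e : ∀ g : G, g • a = a' → g • b = b' → g • c = c' → g • d = d' →
      g * x * g⁻¹ * y ∈ St G a' b' c' d') :
    ∃ g : G, g • a = a' ∧ g • b = b' ∧ g • c = c' ∧ g • d = d' ∧ g * x * g⁻¹ = y := by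
  obtain ⟨g, h1, h2, h3, h4⟩ := H.tr h h'
  have h5 := e g h1 h2 h3 h4
  obtain ⟨m, hm⟩ := Invol.exists_conj_of_odd (x := g * x * g⁻¹) (by rw [conj_mul, hx]; simp) hy (H.oddo h' h5)
  obtain ⟨k1, k2, k3, k4⟩ := mem_St.1 (pow_mem h5 m)
  exact ⟨(g * x * g⁻¹ * y) ^ m * g, by rw [mul_smul, h1, k1], by rw [mul_smul, h2, k2], by rw [mul_smul, h3, k3],
    by rw [mul_smul, h4, k4], by rw [mul_inv_rev, ← mul_assoc, mul_assoc _ g, mul_assoc _ (g * x), hm]⟩

theorem tr1 {a b c a' b' c' : α} {x y : G} (hx : x * x = 1) (hy : y * y = 1) (h : D4 a b c (x • c))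
    (h' : D4 a' b' c' (y • c')) (xa : x • a = a) (xb : x • b = b) (ya : y • a' = a') (yb : y • b' = b') :
    ∃ g : G, g • a = a' ∧ g • b = b' ∧ g • c = c' ∧ g • x • c = y • c' ∧ g * x * g⁻¹ = y := by
  refine H.fixup h h' hx hy ?_
  rintro g rfl rfl rfl e
  have xx : ∀ p : α, x • x • p = p := fun p => by rw [smul_smul, hx, one_smul]
  have yy : ∀ p : α, y • y • p = p := fun p => by rw [smul_smul, hy, one_smul]
  refine mem_St.2 ⟨?_, ?_, ?_, ?_⟩ <;> simp only [mul_smul]
  · rw [ya, inv_smul_smul, xa]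
  · rw [yb, inv_smul_smul, xb]
  · rw [← e, inv_smul_smul, xx]
  · rw [yy, inv_smul_smul, e]

theorem tr2 {a c a' c' : α} {x y : G} (hx : x * x = 1) (hy : y * y = 1) (h : D4 a (x • a) c (x • c))
    (h' : D4 a' (y • a') c' (y • c')) :
    ∃ g : G, g • a = a' ∧ g • x • a = y • a' ∧ g • c = c' ∧ g • x • c = y • c' ∧ g * x * g⁻¹ = y := by
  refine H.fixup h h' hx hy ?_
  rintro g rfl e' rfl e
  have xx : ∀ p : α, x • x • p = p := fun p => by rw [smul_smul, hx, one_smul]
  have yy : ∀ p : α, y • y • p = p := fun p => by rw [smul_smul, hy, one_smul]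
  refine mem_St.2 ⟨?_, ?_, ?_, ?_⟩ <;> simp only [mul_smul]
  · rw [← e', inv_smul_smul, xx]
  · rw [yy, inv_smul_smul, e']
  · rw [← e, inv_smul_smul, xx]
  · rw [yy, inv_smul_smul, e]

theorem card2 {a c a' c' : α} {x y : G} (hx : x * x = 1) (hy : y * y = 1) (h : D4 a (x • a) c (x • c))
    (h' : D4 a' (y • a') c' (y • c')) : Nat.card ↥(centralizer {x} ⊓ St G a (x • a) c (x • c)) =
      Nat.card ↥(centralizer {y} ⊓ St G a' (y • a') c' (y • c')) := by
  obtain ⟨g, rfl, e1, rfl, e2, rfl⟩ := H.tr2 hx hy h h'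
  rw [← e1, ← e2]
  exact card_conj g fun k => and_congr (conj_C k) (conj_St k)

theorem odd_pow {a b c d : α} (h : D4 a b c d) {g : G} (hg : g * g ∈ St G a b c d) :
    ∃ k ∈ St G a b c d, (g * k) * (g * k) = 1 ∧ g * k ∈ zpowers g := by
  obtain ⟨m, hm⟩ := H.oddo h hg
  have e : g * (g * g) ^ m = g ^ (2 * m + 1) := by rw [← sq, ← pow_mul, pow_succ']
  refine ⟨(g * g) ^ m, pow_mem hg m, ?_, e ▸ pow_mem (mem_zpowers g) _⟩
  rw [e, ← sq, ← pow_mul, mul_comm, pow_mul, ← hm, sq, pow_orderOf_eq_one]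

theorem exists_pair {a b c d : α} (h : D4 a b c d) : ∃ x y : G, x * x = 1 ∧ y * y = 1 ∧ Commute x y ∧
    x • a = a ∧ x • b = b ∧ x • c = d ∧ y • a = b ∧ y • c = c ∧ y • d = d := by
  obtain ⟨h1, h2, h3, h4, h5, h6⟩ := id h
  obtain ⟨g, g1, g2, g3, g4⟩ := H.tr h (⟨h1, h3, h2, h5, h4, h6.symm⟩ : D4 a b d c)
  obtain ⟨k, hk, xx, -⟩ := H.odd_pow h (g := g) (by simp [mem_St, mul_smul, *])
  obtain ⟨g', g1', g2', g3', g4'⟩ := H.tr h (⟨h1.symm, h5, h4, h3, h2, h6.symm⟩ : D4 b a d c)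
  obtain ⟨k', hk', uu, -⟩ := H.odd_pow h (g := g') (by simp [mem_St, mul_smul, *])
  rw [mem_St] at hk hk'
  have x1 : (g * k) • a = a ∧ (g * k) • b = b ∧ (g * k) • c = d ∧ (g * k) • d = c := by simp [mul_smul, *]
  have u1 : (g' * k') • a = b ∧ (g' * k') • b = a ∧ (g' * k') • c = d ∧ (g' * k') • d = c := by simp [mul_smul, *]
  generalize g * k = x at xx x1
  generalize g' * k' = u at uu u1
  obtain ⟨l, hl, yy, n, hn⟩ := H.odd_pow h (g := u * x) (by simp [mem_St, mul_smul, *])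
  rw [mem_St] at hl
  refine ⟨x, u * x * l, xx, yy, ?_, x1.1, x1.2.1, x1.2.2.1, by simp [mul_smul, *], by simp [mul_smul, *],
    by simp [mul_smul, *]⟩
  have e1 : x * (u * x) * x⁻¹ = (u * x)⁻¹ := by
    rw [mul_inv_rev, inv_eq_of_mul_eq_one_right xx, inv_eq_of_mul_eq_one_right uu, mul_assoc, mul_assoc, xx,
      mul_one]
  have e2 : x * (u * x * l) * x⁻¹ = u * x * l := by
    have hn' : (u * x) ^ n = u * x * l := hn
    conv_lhs => rw [← hn', ← conj_zpow, e1, inv_zpow, hn']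
    exact inv_eq_of_mul_eq_one_right yy
  exact mul_inv_eq_iff_eq_mul.1 e2

theorem rel {a b c s : α} {x : G} (hx : x * x = 1) (h : D4 a b c (x • c)) (xa : x • a = a) (xb : x • b = b)
    (hs : D4 c (x • c) s (x • s)) :
    ((Fx α x).card * (Fx α x).card - (Fx α x).card) * Nat.card ↥(centralizer {x} ⊓ St G a b c (x • c)) =
      (Fintype.card α - (Fx α x).card - 2) * Nat.card ↥(centralizer {x} ⊓ St G c (x • c) s (x • s)) := by
  have xx : ∀ p : α, x • x • p = p := fun p => by rw [smul_smul, hx, one_smul]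
  have cm : ∀ {g : G}, g ∈ centralizer {x} → ∀ p : α, x • g • p = g • x • p := fun hg p => by
    rw [smul_smul, smul_smul, mem_centralizer_singleton_iff.1 hg]
  have mc : ∀ {g : G}, g * x * g⁻¹ = x → g ∈ centralizer {x} := fun e =>
    mem_centralizer_singleton_iff.2 (mul_inv_eq_iff_eq_mul.1 e)
  have hc : x • c ≠ c := h.2.2.2.2.2.symm
  have e1 := card_orb (centralizer {x} ⊓ stabilizer G c) (a, b) (Fx α x).offDiag fun p => by
    rw [Finset.mem_offDiag, mem_Fx, mem_Fx]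
    constructor
    · rintro ⟨p1, p2, p3⟩
      have n : ∀ q : α, x • q = q → q ≠ c ∧ q ≠ x • c := fun q hq =>
        ⟨by rintro rfl; exact hc hq, by rintro rfl; exact hc (by rw [← hq, xx])⟩
      obtain ⟨g, g1, g2, g3, -, g5⟩ := H.tr1 hx hx h
        ⟨p3, (n _ p1).1, (n _ p1).2, (n _ p2).1, (n _ p2).2, hc.symm⟩ xa xb p1 p2
      exact ⟨g, ⟨mc g5, g3⟩, Prod.ext g1 g2⟩
    · rintro ⟨g, ⟨g1, -⟩, rfl⟩
      exact ⟨by rw [Prod.smul_fst, cm g1, xa], by rw [Prod.smul_snd, cm g1, xb],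
        fun e => h.1 (smul_left_cancel g e)⟩
  have e2 := card_orb (centralizer {x} ⊓ stabilizer G c) s (((Fx α x)ᶜ.erase c).erase (x • c)) fun p => by
    rw [Finset.mem_erase, Finset.mem_erase, Finset.mem_compl, mem_Fx]
    constructor
    · rintro ⟨p1, p2, p3⟩
      obtain ⟨g, g1, -, g3, -, g5⟩ := H.tr2 hx hx hs (a' := c) (c' := p) ⟨hc.symm, p2.symm,
        fun e => p1 (by rw [e, xx]), p1.symm, fun e => p2 (smul_left_cancel x e).symm, Ne.symm p3⟩
      exact ⟨g, ⟨mc g5, g1⟩, g3⟩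
    · rintro ⟨g, ⟨g1, g2⟩, rfl⟩
      have g2 : g • c = c := g2
      refine ⟨fun e => hs.2.2.2.1 (smul_left_cancel g ?_), fun e => hs.2.1 (smul_left_cancel g (g2.trans e.symm)),
        fun e => hs.2.2.2.2.2 (smul_left_cancel g (by rw [← cm g1, e]))⟩
      rw [← cm g1, g2, e]
  rw [Finset.card_erase_of_mem (Finset.mem_erase.2 ⟨hc, by
      rw [Finset.mem_compl, mem_Fx, xx]; exact hc.symm⟩),
    Finset.card_erase_of_mem (by rw [Finset.mem_compl, mem_Fx]; exact hc), Finset.card_compl, e1,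
    Finset.offDiag_card, Nat.sub_sub _ 1 1] at e2
  convert e2 using 4
  · ext g
    simp only [mem_inf, mem_St, mem_stabilizer_iff, Prod.ext_iff, Prod.smul_fst, Prod.smul_snd]
    exact ⟨fun ⟨h1, h2, h3, h4, _⟩ => ⟨⟨h1, h4⟩, h2, h3⟩, fun ⟨⟨h1, h4⟩, h2, h3⟩ =>
      ⟨h1, h2, h3, h4, by rw [← cm h1, h4]⟩⟩
  · ext g
    simp only [mem_inf, mem_St, mem_stabilizer_iff]
    exact ⟨fun ⟨h1, h2, _, h4, _⟩ => ⟨⟨h1, h2⟩, h4⟩, fun ⟨⟨h1, h2⟩, h4⟩ =>
      ⟨h1, h2, by rw [← cm h1, h2], h4, by rw [← cm h1, h4]⟩⟩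

theorem pair {a p : α} {x y : G} (hx : x * x = 1) (h1 : x ≠ 1) (hy : y * y = 1) (hc : Commute x y)
    (xa : x • a = a) (ya : y • a ≠ a) (xp : x • p = p) (yp : y • p ≠ p) : p = a ∨ p = y • a := by
  by_contra hn
  push Not at hn
  have yy : ∀ p : α, y • y • p = p := fun p => by rw [smul_smul, hy, one_smul]
  have cm : ∀ p : α, x • y • p = y • x • p := fun p => by rw [smul_smul, smul_smul, hc.eq]
  exact h1 (H.eq_one (a := a) (b := y • a) (c := p) (d := y • p) ⟨ya.symm, hn.1.symm, fun e => hn.2 (by rw [e, yy]),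
    hn.2.symm, fun e => hn.1 (smul_left_cancel y e).symm, yp.symm⟩ hx
    (mem_St.2 ⟨xa, by rw [cm, xa], xp, by rw [cm, xp]⟩))

omit H in
theorem fix3 {g z : G} {e q : α} (hg : Odd (orderOf g)) (hc : g ∈ centralizer {z}) (h3 : (Fx α z).card = 3)
    (ze : z • e = e) (ge : g • e = e) (zq : z • q = q) : g • q = q := by
  by_contra hn
  have cm : ∀ p : α, z • g • p = g • z • p := fun p => by
    rw [smul_smul, smul_smul, mem_centralizer_singleton_iff.1 hc]
  have n1 : e ≠ q := by rintro rfl; exact hn ge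
  have n2 : e ≠ g • q := fun h => n1 (smul_left_cancel g (ge.trans h))
  exact absurd h3 (Finset.three_lt_card.2 ⟨e, mem_Fx.2 ze, q, mem_Fx.2 zq, g • q, mem_Fx.2 (by rw [cm, zq]),
    g • g • q, mem_Fx.2 (by rw [cm, cm, zq]), n1, n2, fun h => n2 (smul_left_cancel g (ge.trans h)), Ne.symm hn,
    fun h => hn (odd_fix hg h.symm), fun h => hn (smul_left_cancel g h).symm⟩).ne'

theorem core [FaithfulSMul G α] (hn : 7 ≤ Fintype.card α) {a b c d : α} (h : D4 a b c d) :
    (Fintype.card α = 7 ∧ 3 ∣ Nat.card (St G a b c d)) ∨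
      (Fintype.card α = 11 ∧ ∃ k, Nat.card (St G a b c d) = k ^ 3) := by
  classical
  obtain ⟨x, y, hx, hy, hc, xa, xb, rfl, rfl, yc, yd⟩ := H.exists_pair h
  have xx : ∀ p : α, x • x • p = p := fun p => by rw [smul_smul, hx, one_smul]
  have yy : ∀ p : α, y • y • p = p := fun p => by rw [smul_smul, hy, one_smul]
  have cm : ∀ p : α, y • x • p = x • y • p := fun p => by rw [smul_smul, smul_smul, hc.eq]
  have cz : ∀ {g z : G}, g ∈ centralizer {z} → ∀ p : α, z • g • p = g • z • p := fun hg p => by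
    rw [smul_smul, smul_smul, mem_centralizer_singleton_iff.1 hg]
  have hw : x * y * (x * y) = 1 := by rw [hc.symm.mul_mul_mul_comm, hx, hy, one_mul]
  have ya : y • a ≠ a := h.1.symm
  have xc : x • c ≠ c := h.2.2.2.2.2.symm
  have x1 : x ≠ 1 := by rintro rfl; exact xc (one_smul _ _)
  have y1 : y ≠ 1 := by rintro rfl; exact ya (one_smul _ _)
  have xy : x ≠ y := by rintro rfl; exact ya xa
  have ox : orderOf x = 2 := orderOf_eq_prime (by rw [sq, hx]) x1
  have oy : orderOf y = 2 := orderOf_eq_prime (by rw [sq, hy]) y1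
  have f3 := H.Fx_le hx x1
  have f2 : 1 < (Fx α x).card := Finset.one_lt_card.2 ⟨a, mem_Fx.2 xa, _, mem_Fx.2 xb, h.1⟩
  have fm := Fx_mod (α := α) hx
  obtain ⟨s, hs⟩ : (((Fx α x)ᶜ.erase c).erase (x • c)).Nonempty := Finset.card_pos.1 (by
    have h1 := Finset.pred_card_le_card_erase (s := (Fx α x)ᶜ) (a := c)
    have h2 := Finset.pred_card_le_card_erase (s := (Fx α x)ᶜ.erase c) (a := x • c)
    rw [Finset.card_compl] at h1
    omega)
  rw [Finset.mem_erase, Finset.mem_erase, Finset.mem_compl, mem_Fx] at hs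
  have ds : D4 c (x • c) s (x • s) := ⟨xc.symm, hs.2.1.symm, fun e => hs.1 (by rw [e, xx]), hs.1.symm,
    fun e => hs.2.1 (smul_left_cancel x e).symm, Ne.symm hs.2.2⟩
  have R := H.rel hx h xa xb ds
  have wa : (x * y) • a = y • a := by rw [mul_smul, xb]
  have wc : (x * y) • c = x • c := by rw [mul_smul, yc]
  have dw : D4 a ((x * y) • a) c ((x * y) • c) := by rwa [wa, wc]
  have fw : (Fx α (x * y)).card = (Fx α x).card := by
    obtain ⟨g, -, -, -, -, e⟩ := H.tr2 hx hw ds dw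
    rw [← e, Fx_conj]
  have dy : D4 c (x • c) a (y • a) :=
    ⟨h.2.2.2.2.2, h.2.1.symm, h.2.2.2.1.symm, h.2.2.1.symm, h.2.2.2.2.1.symm, h.1⟩
  obtain ⟨g, g1, g2, g3, g4, g5⟩ := H.tr1 hx hy h dy xa xb yc yd
  have fy : (Fx α y).card = (Fx α x).card := by rw [← g5, Fx_conj]
  have c1 : Nat.card ↥(St G a (y • a) c (x • c) ⊓ centralizer {y}) =
      Nat.card ↥(centralizer {x} ⊓ St G a (y • a) c (x • c)) := (card_conj g fun k => by
    rw [mem_inf, mem_inf, conj_C (g := g), conj_St (g := g), g1, g2, g3, g4, g5, mem_St, mem_St]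
    tauto).symm
  have c2 := H.card2 hw hx dw ds
  rw [wa, wc] at c2
  have B1 := ZD.bw_formula (H.odd h) ox oy xy hc
    (mem_normalizer_iff.2 fun k => by rw [conj_St (g := x), xa, xb, xx, mem_St, mem_St]; tauto)
    (mem_normalizer_iff.2 fun k => by rw [conj_St (g := y), yc, yd, yy, mem_St, mem_St]; tauto)
  rw [c1, c2] at B1
  have xM : x ∈ centralizer {x} ⊓ centralizer {y} :=
    ⟨mem_centralizer_singleton_iff.2 rfl, mem_centralizer_singleton_iff.2 hc.eq⟩
  have yM : y ∈ centralizer {x} ⊓ centralizer {y} :=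
    ⟨mem_centralizer_singleton_iff.2 hc.eq.symm, mem_centralizer_singleton_iff.2 rfl⟩
  have M1 := card_orb (centralizer {x} ⊓ centralizer {y}) a {a, y • a} fun p => by
    rw [Finset.mem_insert, Finset.mem_singleton]
    refine ⟨?_, ?_⟩
    · rintro (rfl | rfl)
      exacts [⟨1, one_mem _, one_smul _ _⟩, ⟨y, yM, rfl⟩]
    · rintro ⟨k, hk, rfl⟩
      exact H.pair hx x1 hy hc xa ya (by rw [cz hk.1, xa]) fun e => ya (smul_left_cancel k (by rw [← cz hk.2, e]))
  have M2 := card_orb (centralizer {x} ⊓ centralizer {y} ⊓ stabilizer G a) c {c, x • c} fun p => by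
    rw [Finset.mem_insert, Finset.mem_singleton]
    refine ⟨?_, ?_⟩
    · rintro (rfl | rfl)
      exacts [⟨1, one_mem _, one_smul _ _⟩, ⟨x, ⟨xM, xa⟩, rfl⟩]
    · rintro ⟨k, hk, rfl⟩
      exact H.pair hy y1 hx hc.symm yc xc (by rw [cz hk.1.2, yc])
        fun e => xc (smul_left_cancel k (by rw [← cz hk.1.1, e]))
  rw [M2, Finset.card_pair ya.symm, Finset.card_pair xc.symm,
    show centralizer {x} ⊓ centralizer {y} ⊓ stabilizer G a ⊓ stabilizer G c =
      centralizer {x} ⊓ St G a (y • a) c (x • c) ⊓ centralizer {y} from Subgroup.ext fun k => by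
      simp only [mem_inf, mem_St, mem_stabilizer_iff]
      exact ⟨fun ⟨⟨⟨h1, h2⟩, h3⟩, h4⟩ => ⟨⟨h1, h3, by rw [← cz h2, h3], h4, by rw [← cz h1, h4]⟩, h2⟩,
        fun ⟨⟨h1, h3, _, h4, _⟩, h2⟩ => ⟨⟨⟨h1, h2⟩, h3⟩, h4⟩⟩] at M1
  set F := Fx α x ∪ Fx α y ∪ Fx α (x * y) with hF
  have mF : ∀ p, p ∈ Fᶜ ↔ x • p ≠ p ∧ y • p ≠ p ∧ x • y • p ≠ p := fun p => by
    simp only [hF, Finset.mem_compl, Finset.mem_union, mem_Fx, mul_smul, not_or, and_assoc, Ne]
  let S : α → Finset α := fun p => Finset.univ.filter fun q => ∃ k ∈ centralizer {x} ⊓ centralizer {y}, k • p = q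
  have mS : ∀ p q, q ∈ S p ↔ ∃ k ∈ centralizer {x} ⊓ centralizer {y}, k • p = q := fun p q => by simp [S]
  have SF : ∀ p ∈ Fᶜ, S p ⊆ Fᶜ := fun p hp q hq => by
    obtain ⟨k, hk, rfl⟩ := (mS p q).1 hq
    rw [mF] at hp ⊢
    rw [cz hk.2, cz hk.1, cz hk.1]
    exact ⟨fun e => hp.1 (smul_left_cancel k e), fun e => hp.2.1 (smul_left_cancel k e),
      fun e => hp.2.2 (smul_left_cancel k e)⟩
  have dp : ∀ p ∈ Fᶜ, D4 p (x • p) (y • p) (x • y • p) := fun p hp => by
    obtain ⟨p1, p2, p3⟩ := (mF p).1 hp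
    exact ⟨p1.symm, p2.symm, p3.symm, fun e => p3 (by rw [← e, xx]), fun e => p2 (smul_left_cancel x e).symm,
      fun e => p1 (smul_left_cancel y (by rw [cm, ← e]))⟩
  have eM : ∀ p : α, centralizer {x} ⊓ centralizer {y} ⊓ stabilizer G p =
      centralizer {x} ⊓ St G p (x • p) (y • p) (x • y • p) ⊓ centralizer {y} := fun p => Subgroup.ext fun k => by
    simp only [mem_inf, mem_St, mem_stabilizer_iff]
    exact ⟨fun ⟨⟨h1, h2⟩, h3⟩ => ⟨⟨h1, h3, by rw [← cz h1, h3], by rw [← cz h2, h3],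
      by rw [← cz h1, ← cz h2, h3]⟩, h2⟩, fun ⟨⟨h1, h3, _⟩, h2⟩ => ⟨⟨h1, h2⟩, h3⟩⟩
  have B2 : ∀ p ∈ Fᶜ, Nat.card ↥(centralizer {x} ⊓ centralizer {y} ⊓ stabilizer G p) ^ 2 *
      Nat.card (St G a (y • a) c (x • c)) = Nat.card ↥(centralizer {x} ⊓ St G c (x • c) s (x • s)) ^ 3 := fun p hp => by
    have d1 := dp p hp
    have B := ZD.bw_formula (H.odd d1) ox oy xy hc
      (mem_normalizer_iff.2 fun k => by rw [conj_St (g := x), xx, xx, mem_St, mem_St]; tauto)
      (mem_normalizer_iff.2 fun k => by rw [conj_St (g := y), yy, cm (y • p), yy, cm, mem_St, mem_St]; tauto)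
    have e1 := H.card2 hx hx d1 ds
    have e2 := H.card2 hy hx (a := p) (c := x • p) (by
      rw [cm]; exact ⟨d1.2.1, d1.1, d1.2.2.1, d1.2.2.2.1.symm, d1.2.2.2.2.2, d1.2.2.2.2.1⟩) ds
    have e3 := H.card2 hw hx (a := p) (c := x • p) (by
      rw [mul_smul, mul_smul, cm, xx]
      exact ⟨d1.2.2.1, d1.1, d1.2.1, d1.2.2.2.2.1.symm, d1.2.2.2.2.2.symm, d1.2.2.2.1⟩) ds
    rw [e1, show St G p (x • p) (y • p) (x • y • p) ⊓ centralizer {y} =
        centralizer {y} ⊓ St G p (y • p) (x • p) (y • x • p) from Subgroup.ext fun k => by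
          simp only [mem_inf, mem_St, cm]; tauto, e2,
      show centralizer {x * y} ⊓ St G p (x • p) (y • p) (x • y • p) =
        centralizer {x * y} ⊓ St G p ((x * y) • p) (x • p) ((x * y) • x • p) from Subgroup.ext fun k => by
          simp only [mem_inf, mem_St, mul_smul, cm, xx]; tauto, e3, H.card_St d1 h, ← eM] at B
    rw [B]; ring
  have key : ∀ p ∈ Fᶜ, ((Fx α x).card * (Fx α x).card - (Fx α x).card) * (S p).card =
      4 * (Fintype.card α - (Fx α x).card - 2) := fun p hp => by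
    have e1 := card_orb _ p (S p) (mS p)
    have e2 := B2 p hp
    have p2 : 0 < Nat.card ↥(centralizer {x} ⊓ St G c (x • c) s (x • s)) := Nat.card_pos
    generalize Nat.card ↥(centralizer {x} ⊓ St G c (x • c) s (x • s)) = u at *
    generalize Nat.card ↥(centralizer {x} ⊓ St G a (y • a) c (x • c)) = v at *
    have e3 : (S p).card * u = 4 * v := by
      refine Nat.pow_left_injective two_ne_zero (Nat.eq_of_mul_eq_mul_right p2 ?_)
      simp only
      calc _ = (S p).card ^ 2 * u ^ 3 := by ring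
        _ = (2 * (2 * Nat.card ↥(centralizer {x} ⊓ St G a (y • a) c (x • c) ⊓ centralizer {y}))) ^ 2 *
          Nat.card (St G a (y • a) c (x • c)) := by rw [← e2, ← M1, e1]; ring
        _ = _ := by rw [mul_pow, mul_pow, mul_assoc, mul_assoc, B1]; ring
    refine Nat.eq_of_mul_eq_mul_right p2 ?_
    rw [mul_assoc, e3, mul_assoc, ← R]; ring
  obtain f2 | f3 : (Fx α x).card = 2 ∨ (Fx α x).card = 3 := by omega
  · exfalso
    have h1 : F.card ≤ 6 := by
      have := Finset.card_union_le (Fx α x ∪ Fx α y) (Fx α (x * y))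
      have := Finset.card_union_le (Fx α x) (Fx α y)
      rw [hF]; omega
    obtain ⟨p, hp⟩ : Fᶜ.Nonempty := Finset.card_pos.1 (by rw [Finset.card_compl]; omega)
    have h2 := key p hp
    have h3 : (S p).card ≤ (Fx α x)ᶜ.card := Finset.card_le_card fun q hq => by
      rw [Finset.mem_compl, mem_Fx]; exact ((mF q).1 (SF p hp hq)).1
    rw [Finset.card_compl] at h3
    rw [f2] at h2
    omega
  rw [f3] at R key fw fy
  by_cases n7 : Fintype.card α = 7
  · refine Or.inl ⟨n7, Dvd.dvd.trans ?_ (card_dvd_of_le (inf_le_right (a := centralizer {x * y})))⟩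
    rw [c2]
    rw [n7] at R
    omega
  right
  obtain ⟨e, he⟩ : (((Fx α x).erase a).erase (y • a)).Nonempty := Finset.card_pos.1 (by
    have h1 := Finset.pred_card_le_card_erase (s := Fx α x) (a := a)
    have h2 := Finset.pred_card_le_card_erase (s := (Fx α x).erase a) (a := y • a)
    omega)
  rw [Finset.mem_erase, Finset.mem_erase, mem_Fx] at he
  have ye : y • e = e := by_contra fun hh => (H.pair hx x1 hy hc xa ya he.2.2 hh).elim he.2.1 he.1
  have ue : ∀ p, x • p = p → y • p = p → p = e := fun p p1 p2 => by_contra fun hh =>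
    absurd f3 (Finset.three_lt_card.2 ⟨a, mem_Fx.2 xa, y • a, mem_Fx.2 xb, e, mem_Fx.2 he.2.2, p, mem_Fx.2 p1,
      ya.symm, he.2.1.symm, by rintro rfl; exact ya p2, he.1.symm, by rintro rfl; exact ya (by rw [← p2, yy]),
      Ne.symm hh⟩).ne'
  have cF : F.card = 7 := by
    have h1 := Finset.card_union_add_card_inter (Fx α x ∪ Fx α y) (Fx α (x * y))
    have h2 := Finset.card_union_add_card_inter (Fx α x) (Fx α y)
    rw [show Fx α x ∩ Fx α y = {e} from Finset.ext fun p => by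
      rw [Finset.mem_inter, mem_Fx, mem_Fx, Finset.mem_singleton]
      exact ⟨fun hh => ue p hh.1 hh.2, by rintro rfl; exact ⟨he.2.2, ye⟩⟩, Finset.card_singleton] at h2
    rw [show (Fx α x ∪ Fx α y) ∩ Fx α (x * y) = {e} from Finset.ext fun p => by
      rw [Finset.mem_inter, Finset.mem_union, mem_Fx, mem_Fx, mem_Fx, Finset.mem_singleton, mul_smul]
      refine ⟨fun ⟨h3, h4⟩ => h3.elim (fun h3 => ue p h3 (by rw [← cm, h3] at h4; exact h4))
        fun h3 => ue p (by rwa [h3] at h4) h3, ?_⟩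
      rintro rfl
      exact ⟨Or.inl he.2.2, by rw [ye, he.2.2]⟩, Finset.card_singleton] at h1
    rw [hF]; omega
  have cR : Fᶜ.card = Fintype.card α - 7 := by rw [Finset.card_compl, cF]
  obtain ⟨p, hp⟩ : Fᶜ.Nonempty := Finset.card_pos.1 (by omega)
  have k1 := key p hp
  have n11 : Fintype.card α = 11 := by
    by_cases hS : Fᶜ ⊆ S p
    · have := Finset.card_le_card hS
      have := Finset.card_le_card (SF p hp)
      omega
    · obtain ⟨q, hq, hq'⟩ := Finset.not_subset.1 hS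
      have k2 := key q hq
      have hd : Disjoint (S p) (S q) := Finset.disjoint_left.2 fun r r1 r2 => by
        obtain ⟨k, hk, rfl⟩ := (mS p r).1 r1
        obtain ⟨l, hl, e⟩ := (mS q _).1 r2
        exact hq' ((mS p q).2 ⟨l⁻¹ * k, mul_mem (inv_mem hl) hk, by rw [mul_smul, ← e, inv_smul_smul]⟩)
      have := Finset.card_le_card (Finset.union_subset (SF p hp) (SF q hq))
      rw [Finset.card_union_of_disjoint hd] at this
      omega
  refine ⟨n11, Nat.card ↥(centralizer {x} ⊓ St G c (x • c) s (x • s)), ?_⟩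
  rw [← B2 p hp, show centralizer {x} ⊓ centralizer {y} ⊓ stabilizer G p = ⊥ from ?_, card_bot, one_pow, one_mul]
  refine eq_bot_iff.2 fun k hk => mem_bot.2 (eq_of_smul_eq_smul (α := α) fun q => ?_)
  have hk' : k ∈ St G p (x • p) (y • p) (x • y • p) := (eM p ▸ hk).1.2
  have ok := H.oddo (dp p hp) hk'
  have ke : k • e = e := ue _ (by rw [cz hk.1.1, he.2.2]) (by rw [cz hk.1.2, ye])
  rw [one_smul]
  by_cases hq : q ∈ F
  · simp only [hF, Finset.mem_union, mem_Fx] at hq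
    rcases hq with (hq | hq) | hq
    · exact fix3 ok hk.1.1 f3 he.2.2 ke hq
    · exact fix3 ok hk.1.2 fy ye ke hq
    · exact fix3 ok (mem_centralizer_singleton_iff.2 (Commute.mul_right (mem_centralizer_singleton_iff.1 hk.1.1)
        (mem_centralizer_singleton_iff.1 hk.1.2))) fw (by rw [mul_smul, ye, he.2.2]) ke hq
  · by_contra hh
    rw [mem_St] at hk'
    have m : ∀ z ∈ centralizer {x} ⊓ centralizer {y}, z • p ∈ Fᶜ := fun z hz => SF p hp ((mS p _).2 ⟨z, hz, rfl⟩)
    have d1 := dp p hp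
    have : ({q, p, x • p, y • p, x • y • p} : Finset α) ⊆ Fᶜ := by
      simp only [Finset.insert_subset_iff, Finset.singleton_subset_iff]
      exact ⟨Finset.mem_compl.2 hq, hp, m x xM, m y yM, mul_smul x y p ▸ m _ (mul_mem xM yM)⟩
    have h5 := Finset.card_le_card this
    have q1 : q ≠ p := by rintro rfl; exact hh hk'.1
    have q2 : q ≠ x • p := by rintro rfl; exact hh hk'.2.1
    have q3 : q ≠ y • p := by rintro rfl; exact hh hk'.2.2.1
    have q4 : q ≠ x • y • p := by rintro rfl; exact hh hk'.2.2.2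
    rw [Finset.card_insert_of_notMem (by simp [q1, q2, q3, q4]),
      Finset.card_insert_of_notMem (by simp [d1.1, d1.2.1, d1.2.2.1]),
      Finset.card_insert_of_notMem (by simp [d1.2.2.2.1, d1.2.2.2.2.1]), Finset.card_pair d1.2.2.2.2.2] at h5
    omega

end Hyp

end

open MulAction in
theorem main {α : Type*} [Fintype α] [DecidableEq α] (G : Subgroup (Equiv.Perm α))
    (hG : MulAction.IsMultiplyPretransitive G α 4) (x : Fin 4 ↪ α) (hodd : Odd (Nat.card (MulAction.stabilizer G x))) :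
    ((Fintype.card α = 4 ∨ Fintype.card α = 5) ∧ G = ⊤) ∨
      ((Fintype.card α = 6 ∨ Fintype.card α = 7) ∧ G = alternatingGroup α) ∨
      (Fintype.card α = 11 ∧ Nat.card G = 7920) := by
  have tr : ∀ {a b c d a' b' c' d' : α}, D4 a b c d → D4 a' b' c' d' →
      ∃ g : G, g • a = a' ∧ g • b = b' ∧ g • c = c' ∧ g • d = d' := fun ⟨h1, h2, h3, h4, h5, h6⟩ ⟨k1, k2, k3, k4, k5, k6⟩ =>
    (Lib.Perm.mt_iff.1 hG _ _ (Lib.Perm.inj_four h1 h2 h3 h4 h5 h6) (Lib.Perm.inj_four k1 k2 k3 k4 k5 k6)).imp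
      fun g hg => ⟨hg 0, hg 1, hg 2, hg 3⟩
  have x0 : ∀ {i j}, i ≠ j → x i ≠ x j := fun h => x.injective.ne h
  have dx : D4 (x 0) (x 1) (x 2) (x 3) :=
    ⟨x0 (by decide), x0 (by decide), x0 (by decide), x0 (by decide), x0 (by decide), x0 (by decide)⟩
  have es : stabilizer G x = St G (x 0) (x 1) (x 2) (x 3) := Subgroup.ext fun g => by
    rw [mem_stabilizer_iff, mem_St, Function.Embedding.ext_iff]
    exact ⟨fun h => ⟨h 0, h 1, h 2, h 3⟩, fun ⟨h0, h1, h2, h3⟩ i => by fin_cases i <;> assumption⟩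
  have H : Hyp G α := ⟨tr, fun h => by
    obtain ⟨g, rfl, rfl, rfl, rfl⟩ := tr dx h
    rwa [← card_conj g conj_St, ← es]⟩
  have h1 : Nat.card G = (Fintype.card α).descFactorial 4 * Nat.card (stabilizer G x) := by
    rw [← (stabilizer G x).index_mul_card,
      @index_stabilizer_of_transitive G _ _ _ x ⟨fun a b => hG.exists_smul_eq a b⟩, Nat.card_eq_fintype_card,
      Fintype.card_embedding_eq, Fintype.card_fin]
  have h2 := G.index_mul_card
  rw [Nat.card_eq_fintype_card (α := Equiv.Perm α), Fintype.card_perm, h1] at h2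
  have h4 : 4 ≤ Fintype.card α := by simpa using Fintype.card_le_of_embedding x
  rw [es] at h1 h2 hodd
  have h3 := fun hn => H.core hn dx
  generalize Nat.card (St G (x 0) (x 1) (x 2) (x 3)) = m at *
  have m0 : 0 < m := hodd.pos
  have mo := Nat.odd_iff.1 hodd
  have i0 : 0 < G.index := Nat.pos_of_ne_zero Subgroup.index_ne_zero_of_finite
  by_cases hn : 7 ≤ Fintype.card α
  · rcases h3 hn with ⟨n7, k, rfl⟩ | ⟨n11, k, rfl⟩
    · refine Or.inr (Or.inl ⟨Or.inr n7, Equiv.Perm.eq_alternatingGroup_of_index_eq_two ?_⟩)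
      rw [n7] at h2
      have h5 : G.index * k = 2 := by simp [Nat.descFactorial, Nat.factorial] at h2; nlinarith
      have : k ≤ 2 := Nat.le_of_dvd two_pos (Dvd.intro_left _ h5)
      interval_cases k <;> omega
    · refine Or.inr (Or.inr ⟨n11, ?_⟩)
      rw [n11] at h1 h2
      have h5 : G.index * k ^ 3 = 5040 := by simp [Nat.descFactorial, Nat.factorial] at h2; nlinarith
      have h6 : k ^ 3 ∣ 5040 := Dvd.intro_left _ h5
      have : k < 18 := lt_of_pow_lt_pow_left₀ 3 (by norm_num) ((Nat.le_of_dvd (by norm_num) h6).trans_lt (by norm_num))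
      rw [h1]
      interval_cases k <;> simp_all [Nat.descFactorial]
  · obtain n4 | n5 | n6 : Fintype.card α = 4 ∨ Fintype.card α = 5 ∨ Fintype.card α = 6 := by omega
    · refine Or.inl ⟨Or.inl n4, Subgroup.index_eq_one.1 ?_⟩
      rw [n4] at h2
      simp [Nat.descFactorial, Nat.factorial] at h2
      nlinarith
    · refine Or.inl ⟨Or.inr n5, Subgroup.index_eq_one.1 ?_⟩
      rw [n5] at h2
      simp [Nat.descFactorial, Nat.factorial] at h2
      nlinarith
    · refine Or.inr (Or.inl ⟨Or.inl n6, Equiv.Perm.eq_alternatingGroup_of_index_eq_two ?_⟩)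
      rw [n6] at h2
      have h5 : G.index * m = 2 := by simp [Nat.descFactorial, Nat.factorial] at h2; nlinarith
      have : m ≤ 2 := Nat.le_of_dvd two_pos (Dvd.intro_left _ h5)
      interval_cases m <;> omega

/-- Let `G` be a `4`-fold transitive permutation group on a finite set of `n` points in which the pointwise stabilizer of some four distinct points has odd order. Then `n = 4` or `n = 5` with `G` the full symmetric group, or `n = 6` or `n = 7` with `G` the alternating group, or `n = 11` and `G` has order `7920`. -/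
theorem result {α : Type*} [Fintype α] [DecidableEq α] (G : Subgroup (Equiv.Perm α)) (hG : MulAction.IsMultiplyPretransitive G α 4) (x : Fin 4 ↪ α) (hodd : Odd (Nat.card (MulAction.stabilizer G x))) : ((Fintype.card α = 4 ∨ Fintype.card α = 5) ∧ G = ⊤) ∨ ((Fintype.card α = 6 ∨ Fintype.card α = 7) ∧ G = alternatingGroup α) ∨ (Fintype.card α = 11 ∧ Nat.card G = 7920) := by
  exact main G hG x hodd

end Cfsg.Agent.S4221
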