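import Cfsg.Statements.S4227
import Cfsg.Agent.Lib.HH.Std
import Cfsg.Agent.Lib.Hall.SolvCrit

set_option autoImplicit false
open Cfsg

namespace Cfsg.Agent.S4227

open Cfsg.Lib Cfsg.Lib.Core Cfsg.Lib.HH

/-- A finite group in which every element has order dividing `6` has `2`-length at most `1` and `3`-length at most `1`. -/
theorem result {G : Type*} [Group G] [Finite G] (h : ∀ x : G, x ^ 6 = 1) : Cfsg.PLengthLE 2 1 G ∧ Cfsg.PLengthLE 3 1 G := by
  have h3 := Fact.mk Nat.prime_three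
  have hs : Group.IsSolvable G := Hall.isSolvable_of_two_primes Nat.prime_two Nat.prime_three
    fun r hr hd => by
      have := Fact.mk hr
      obtain ⟨x, hx⟩ := exists_prime_orderOf_dvd_card' r hd
      have h6 : r ∣ 2 * 3 := hx ▸ orderOf_dvd_of_pow_eq_one (h x)
      exact ((Nat.Prime.dvd_mul hr).1 h6).imp (Nat.prime_dvd_prime_iff_eq hr Nat.prime_two).1
        (Nat.prime_dvd_prime_iff_eq hr Nat.prime_three).1
  have key : ∀ (p q : ℕ) [Fact p.Prime], p * q = 6 → p.Coprime q → ∀ P : Sylow p G,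
      ∀ x ∈ (P : Subgroup G), x ^ p = 1 := fun p q _ e hc P x hx => by
    obtain ⟨k, hk⟩ := P.isPGroup' ⟨x, hx⟩
    have h1 : orderOf x ∣ p ^ k := orderOf_dvd_of_pow_eq_one (congrArg Subtype.val hk)
    have h2 : orderOf x ∣ p * q := e ▸ orderOf_dvd_of_pow_eq_one (h x)
    exact orderOf_dvd_iff_pow_eq_one.1
      (((hc.pow_left k).coprime_dvd_left h1).dvd_of_dvd_mul_right h2)
  have h2 : ∀ P : Sylow 2 G, IsMulCommutative (P : Subgroup G) := fun P =>
    ⟨⟨fun a b => Commute.of_orderOf_dvd_two (fun x => orderOf_dvd_of_pow_eq_one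
      (Subtype.ext (key 2 3 rfl (by norm_num) P x x.2))) a b⟩⟩
  refine ⟨pLengthLE_one_of_comm (isPSolvable_of_isSolvable Nat.prime_two) default (h2 _),
    pLengthLE_of_exp 1 (isPSolvable_of_isSolvable Nat.prime_three) (fun m r hE => ?_) default
      (by simpa using key 3 2 rfl (by norm_num) default)⟩
  obtain ⟨q, -, -, h4, h5⟩ := hE.ne Nat.prime_three
  obtain rfl := h4 (by norm_num)
  exact h5 default (h2 _)

end Cfsg.Agent.S4227
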