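import Cfsg.Statements.S4230
import Cfsg.Agent.Lib.Small.Zsigmondy

set_option autoImplicit false
open Cfsg

namespace Cfsg.Agent.S4230

/-- Let p be an odd prime, q a natural number not divisible by p, and e the multiplicative order of q modulo p. For a natural number f, p divides the value at q of the f-th cyclotomic polynomial if and only if f = e·p^j for some j ≥ 0. -/
theorem result (p q f : ℕ) (hp : p.Prime) (hp2 : p ≠ 2) (hpq : ¬ p ∣ q) :
    ((p : ℤ) ∣ (Polynomial.cyclotomic f ℤ).eval (q : ℤ)) ↔ ∃ j : ℕ, f = orderOf (q : ZMod p) * p ^ j := by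
  have := Fact.mk hp
  have hq : 1 ≤ q := Nat.one_le_iff_ne_zero.2 fun h => hpq (h ▸ dvd_zero p)
  have h0 : (q : ZMod p) ≠ 0 := mt (ZMod.natCast_eq_zero_iff q p).1 hpq
  have h1 : orderOf (q : ZMod p) ∣ p - 1 := ZMod.orderOf_dvd_card_sub_one h0
  have h2 : ¬ p ∣ orderOf (q : ZMod p) := fun h => by
    have := Nat.le_of_dvd (by have := hp.two_le; omega) (h.trans h1)
    have := hp.two_le
    omega
  rw [← Lib.Small.cycVal_cast hq, Int.natCast_dvd_natCast]
  constructor
  · intro h
    rcases eq_or_ne f 0 with rfl | hf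
    · rw [← Int.natCast_dvd_natCast, Lib.Small.cycVal_cast hq] at h
      simp [Int.natCast_dvd, hp.ne_one] at h
    obtain ⟨j, m, hm, rfl⟩ := Nat.exists_eq_pow_mul_and_not_dvd hf p hp.ne_one
    exact ⟨j, by rw [(Lib.Small.prime_dvd_cycVal_iff hq hp hm).1 h, mul_comm]⟩
  · rintro ⟨j, rfl⟩
    rw [mul_comm]
    exact (Lib.Small.prime_dvd_cycVal_iff hq hp h2).2 rfl

end Cfsg.Agent.S4230
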