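import Cfsg.Statements.S4233
import Cfsg.Agent.Lib.Coprime.MaxNorm2

set_option autoImplicit false
open Cfsg

namespace Cfsg.Agent.S4233

/-- Let G be a finite non-solvable group in which every subgroup H that is not subnormal and whose order has at most two prime divisors has a normalizer N_G(H) that is a maximal subgroup of G. Then G is the internal direct product of normal subgroups K and S with K isomorphic to PSL(2, 13) or to SL(2, 13), S abelian, and the orders of K and S coprime. -/
theorem result {G : Type*} [Group G] [Finite G] (hG : ¬ Group.IsSolvable G)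
    (h : ∀ H : Subgroup G, ¬ H.IsSubnormal →
      (∃ p q : ℕ, p.Prime ∧ q.Prime ∧ ∀ r : ℕ, r.Prime → r ∣ Nat.card H → r = p ∨ r = q) →
      IsCoatom (Subgroup.normalizer (H : Set G))) :
    ∃ K S : Subgroup G, K.Normal ∧ S.Normal ∧ K ⊓ S = ⊥ ∧ K ⊔ S = ⊤ ∧
      (Nonempty (K ≃* Matrix.ProjectiveSpecialLinearGroup (Fin 2) (ZMod 13)) ∨
        Nonempty (K ≃* Matrix.SpecialLinearGroup (Fin 2) (ZMod 13))) ∧
      IsMulCommutative S ∧ (Nat.card K).Coprime (Nat.card S) := by
  have := Lib.Core.solvableRadical_normal G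
  have h1 : Lib.Coprime.MR (QuotientGroup.mk' (solvableRadical G)).ker := fun H a b => h H (fun e => b (by
    rw [QuotientGroup.ker_mk']; exact Lib.Core.le_solvableRadical_of_isSubnormal e a.solvable)) a
  have : Nontrivial (G ⧸ solvableRadical G) := QuotientGroup.nontrivial_iff.2 fun e => hG
    (have := Lib.Core.isSolvable_solvableRadical G
     Lib.Linear.isSolvable_of_equiv (Subgroup.topEquiv.symm.trans (MulEquiv.subgroupCongr e.symm)))
  obtain ⟨F, _, _, hF, ⟨e⟩⟩ := (h1.mn (QuotientGroup.mk'_surjective _)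
    (Lib.Core.solvableRadical_quotient_eq_bot_of_eq _ rfl)).psl13
  obtain ⟨K, S, a1, a2, a3, a4, a5, a6⟩ := Lib.Coprime.MR.main hF (f := e.toMonoidHom.comp (QuotientGroup.mk' _))
    (by rwa [MonoidHom.ker_comp_of_injective _ _ e.injective]) (e.surjective.comp (QuotientGroup.mk'_surjective _))
  have := Fact.mk (by decide : Nat.Prime 13)
  obtain ⟨b⟩ := Lib.Linear.nonempty_psl_equiv_of_card_eq (ι := Fin 2) (hF.trans (Nat.card_zmod 13).symm)
  obtain ⟨c⟩ := Lib.Linear.nonempty_sl_equiv_of_card_eq (ι := Fin 2) (hF.trans (Nat.card_zmod 13).symm)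
  exact ⟨K, S, a1, a2, a3, a4, a5.imp (fun ⟨e⟩ => ⟨e.trans b⟩) fun ⟨e⟩ => ⟨e.trans c⟩, a6⟩

end Cfsg.Agent.S4233
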