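import Cfsg.Statements.S4234
import Cfsg.Agent.Lib.Small.Simple
import Cfsg.Agent.Lib.Invol.Transfer2
import Cfsg.Agent.Lib.PGrp.Cyclic
import Cfsg.Agent.Lib.Linear.PSL2Sub
import Cfsg.Agent.Lib.Linear.DicksonFin

set_option autoImplicit false
open Cfsg

namespace Cfsg.Agent.S4234

open Subgroup Cfsg.Lib Cfsg.Lib.Amalg Cfsg.Lib.Small
open scoped commutatorElement

section
variable {G : Type*} [Group G] [Finite G]

theorem nrm {p : ℕ} [Fact p.Prime] {T M : Subgroup G} (hT : Syl p T M)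
    (h : ∀ d, d ∣ T.relIndex M → d % p = 1 → d = 1) : M ≤ 𝐍 T :=
  (normal_subgroupOf_iff_le_normalizer hT.1).1
    (normal_of_card_sylow_eq_one hT.toSylow (h _ hT.toSylow.card_dvd_index card_sylow_mod))

theorem syl_of {p a : ℕ} [hp : Fact p.Prime] {T M : Subgroup G} (hle : T ≤ M) (hT : Nat.card T = p ^ a)
    (h : ¬ p ^ (a + 1) ∣ Nat.card G) : Syl p T M :=
  syl_of_not_dvd hle (IsPGroup.of_card hT) fun hd => h (by
    refine Dvd.dvd.trans ?_ M.card_subgroup_dvd_card
    rw [← Core.card_mul_relIndex hle, hT, pow_succ]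
    exact Nat.mul_dvd_mul_left _ hd)

theorem ex {p : ℕ} [Fact p.Prime] {H : Subgroup G} (h : p ∣ Nat.card H) : ∃ T ≤ H, Nat.card T = p := by
  obtain ⟨x, hx⟩ := exists_prime_orderOf_dvd_card' p h
  exact ⟨zpowers (x : G), zpowers_le.2 x.2, by rw [Nat.card_zpowers, orderOf_coe, hx]⟩

variable [IsSimpleGroup G] (hG : Nat.card G = 1092)
include hG

theorem nc : ¬ IsMulCommutative G := not_isMulCommutative_of_not_prime (by rw [hG]; norm_num)

theorem cardN {p : ℕ} [Fact p.Prime] {T : Subgroup G} (hT : Syl p T ⊤) (hd : p ∣ 1092) :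
    ∃ n, Nat.card (𝐍 T) * n = 1092 ∧ n % p = 1 ∧ 1 < n ∧ n ∣ T.index :=
  ⟨_, (card_normalizer_mul_card_sylow hT.toSylowTop).trans hG, card_sylow_mod, one_lt_card_sylow (nc hG) (hG ▸ hd),
    hT.toSylowTop.card_dvd_index⟩

theorem N7 {T : Subgroup G} (h : Nat.card T = 7) : Nat.card (𝐍 T) = 14 := by
  haveI := Fact.mk (by norm_num : Nat.Prime 7)
  obtain ⟨n, h1, h2, h3, h4⟩ := cardN hG (syl_of (p := 7) (a := 1) le_top h (by rw [hG]; norm_num)) (by norm_num)
  have h5 := T.card_mul_index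
  rw [h, hG] at h5
  rw [show T.index = 156 by omega] at h4
  have := (by decide : ∀ n ∈ Nat.divisors 156, n % 7 = 1 → n = 1 ∨ n = 78) n (Nat.mem_divisors.2 ⟨h4, by norm_num⟩) h2
  rcases this with rfl | rfl <;> omega

theorem N13 {T : Subgroup G} (h : Nat.card T = 13) : Nat.card (𝐍 T) = 78 := by
  haveI := Fact.mk (by norm_num : Nat.Prime 13)
  obtain ⟨n, h1, h2, h3, h4⟩ := cardN hG (syl_of (p := 13) (a := 1) le_top h (by rw [hG]; norm_num)) (by norm_num)
  have h5 := T.card_mul_index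
  rw [h, hG] at h5
  rw [show T.index = 84 by omega] at h4
  have := (by decide : ∀ n ∈ Nat.divisors 84, n % 13 = 1 → n = 1 ∨ n = 14) n (Nat.mem_divisors.2 ⟨h4, by norm_num⟩) h2
  rcases this with rfl | rfl <;> omega

theorem A7 {T M : Subgroup G} (hM : M ≠ ⊤) (hle : T ≤ M) (h : Nat.card T = 7) : M ≤ 𝐍 T := by
  haveI := Fact.mk (by norm_num : Nat.Prime 7)
  refine nrm (syl_of (p := 7) (a := 1) hle h (by rw [hG]; norm_num)) fun d hd h1 => ?_
  have h2 := Core.card_mul_relIndex hle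
  have h3 := M.card_mul_index
  rw [← h2, h, hG, mul_assoc] at h3
  have h4 : d ∣ 156 := hd.trans (Dvd.intro M.index (by omega))
  refine ((by decide : ∀ n ∈ Nat.divisors 156, n % 7 = 1 → n = 1 ∨ n = 78) d (Nat.mem_divisors.2 ⟨h4, by norm_num⟩)
    h1).resolve_right fun e => ?_
  obtain ⟨c, hc⟩ := e ▸ hd
  rw [hc, mul_assoc] at h3
  have h5 : M.index ∣ 2 := Dvd.intro_left c (by omega)
  rcases (Nat.dvd_prime Nat.prime_two).1 h5 with h6 | h6
  · exact hM (index_eq_one.1 h6)
  · rcases (normal_of_index_eq_two h6).eq_bot_or_eq_top with h7 | h7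
    · rw [h7, index_bot, hG] at h6; omega
    · exact hM h7

theorem D7 {M : Subgroup G} (hM : M ≠ ⊤) (h : 7 ∣ Nat.card M) : Nat.card M ∣ 14 := by
  haveI := Fact.mk (by norm_num : Nat.Prime 7)
  obtain ⟨T, h1, h2⟩ := ex h
  exact N7 hG h2 ▸ card_dvd_of_le (A7 hG hM h1 h2)

theorem A13 {T M : Subgroup G} (hM : M ≠ ⊤) (hle : T ≤ M) (h : Nat.card T = 13) : M ≤ 𝐍 T := by
  haveI := Fact.mk (by norm_num : Nat.Prime 13)
  refine nrm (syl_of (p := 13) (a := 1) hle h (by rw [hG]; norm_num)) fun d hd h1 => ?_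
  have h2 := Core.card_mul_relIndex hle
  have h3 := M.card_mul_index
  rw [← h2, h, hG, mul_assoc] at h3
  have h4 : d ∣ 84 := hd.trans (Dvd.intro M.index (by omega))
  refine ((by decide : ∀ n ∈ Nat.divisors 84, n % 13 = 1 → n = 1 ∨ n = 14) d (Nat.mem_divisors.2 ⟨h4, by norm_num⟩)
    h1).resolve_right fun e => ?_
  have := (h ▸ card_dvd_of_le hle).trans (D7 hG hM (h2 ▸ Dvd.dvd.mul_left ((by norm_num : 7 ∣ 14).trans (e ▸ hd)) _))
  omega

theorem D13 {M : Subgroup G} (hM : M ≠ ⊤) (h : 13 ∣ Nat.card M) : Nat.card M ∣ 78 := by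
  haveI := Fact.mk (by norm_num : Nat.Prime 13)
  obtain ⟨T, h1, h2⟩ := ex h
  exact N13 hG h2 ▸ card_dvd_of_le (A13 hG hM h1 h2)

theorem D12 {M : Subgroup G} (h7 : ¬ 7 ∣ Nat.card M) (h13 : ¬ 13 ∣ Nat.card M) : Nat.card M ∣ 12 :=
  (by decide +kernel : ∀ n ∈ Nat.divisors 1092, ¬ 7 ∣ n → ¬ 13 ∣ n → n ∣ 12) _
    (Nat.mem_divisors.2 ⟨hG ▸ M.card_subgroup_dvd_card, by norm_num⟩) h7 h13

theorem A12 {M : Subgroup G} (hM : M ≠ ⊤) (h : 12 ∣ Nat.card M) : Nat.card M = 12 :=
  Nat.dvd_antisymm (D12 hG (fun e => by have := h.trans (D7 hG hM e); omega)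
    fun e => by have := h.trans (D13 hG hM e); omega) h

variable {y t : G} (hy : orderOf y = 3) (ht : orderOf t = 2) (hc : Commute y t)
include hy ht hc

theorem F3 {H : Subgroup G} (h : Nat.card H = 3) : 12 ∣ Nat.card (𝐍 H) := by
  haveI := Fact.mk Nat.prime_three
  have hH := syl_of (p := 3) (a := 1) le_top h (by rw [hG]; norm_num)
  obtain ⟨g, -, rfl⟩ := (syl_of (p := 3) (a := 1) (T := zpowers y) le_top (by rw [Nat.card_zpowers, hy]; rfl)
    (by rw [hG]; norm_num)).exists_conj hH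
  have h1 := relIndex_centralizer_ne_one (nc hG) hH.toSylowTop (by rw [hG]; norm_num)
  have h2 := relIndex_centralizer_dvd_of_card_prime h
  have h3 : (𝐂 (cj g (zpowers y))).relIndex (𝐍 (cj g (zpowers y))) = 2 :=
    ((Nat.dvd_prime Nat.prime_two).1 h2).resolve_left h1
  rw [← Core.card_mul_relIndex (centralizer_le_normalizer' _), h3, ← cj_centralizer, card_cj]
  refine Nat.mul_dvd_mul_right (Nat.Coprime.mul_dvd_of_dvd_of_dvd (m := 2) (n := 3) (by norm_num) ?_ ?_) 2
  · exact ht ▸ orderOf_dvd_natCard _ (by rintro _ ⟨k, rfl⟩; exact (hc.zpow_left k).eq)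
  · exact hy ▸ orderOf_dvd_natCard _ (by rintro _ ⟨k, rfl⟩; exact ((Commute.refl y).zpow_left k).eq)

omit hy ht hc in
theorem F4 {H : Subgroup G} (h : Nat.card H = 4) : 12 ∣ Nat.card (𝐍 H) := by
  haveI := Fact.mk Nat.prime_two
  have hH := syl_of (p := 2) (a := 2) le_top h (by rw [hG]; norm_num)
  haveI : IsMulCommutative H := IsPGroup.isMulCommutative_of_card_eq_prime_sq (p := 2) h
  have h1 := relIndex_centralizer_ne_one (nc hG) hH.toSylowTop (by rw [hG]; norm_num)
  have h2 := (relIndex_centralizer_dvd_card_mulAut H).trans (card_mulAut_dvd_factorial H)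
  have h3 := card_mul_relIndex_centralizer_dvd H
  have h4 := h3.trans (𝐍 H).card_subgroup_dvd_card
  rw [h] at h2 h3 h4
  rw [hG] at h4
  change (𝐂 H).relIndex (𝐍 H) ≠ 1 at h1
  have := (by decide : ∀ n ∈ Nat.divisors 6, n ≠ 1 → 4 * n ∣ 1092 → n = 3) _ (Nat.mem_divisors.2 ⟨h2, by norm_num⟩) h1 h4
  rwa [this] at h3

theorem F2 {H : Subgroup G} (h : Nat.card H = 2) : 12 ∣ Nat.card (𝐍 H) := by
  haveI := Fact.mk Nat.prime_two
  obtain ⟨⟨s, hs⟩, h1⟩ := exists_prime_orderOf_dvd_card' 2 h.symm.dvd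
  rw [← orderOf_coe] at h1
  obtain rfl : zpowers s = H := eq_of_le_of_card_ge (zpowers_le.2 hs) (by rw [Nat.card_zpowers, h1, h])
  have key : ∀ u : G, orderOf u = 2 → ∃ T : Subgroup G, Nat.card T = 4 ∧ zpowers u ≤ T := fun u hu => by
    obtain ⟨T, hT, h2⟩ := exists_syl_ge (isPGroup_zpowers_of_orderOf (p := 2) (k := 1) hu) le_top
    refine ⟨T, ?_, h2⟩
    rw [hT.card_eq_pow, card_top, hG, show 1092 = 2 ^ 2 * 273 by norm_num, Nat.factorization_mul (by norm_num) (by norm_num),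
      Nat.prime_two.factorization_pow]
    simp [Nat.factorization_eq_zero_of_not_dvd]
  refine (Nat.Coprime.mul_dvd_of_dvd_of_dvd (m := 4) (n := 3) (by norm_num) ?_ ?_).trans
    (card_dvd_of_le (centralizer_le_normalizer' _))
  · obtain ⟨T, h2, h3⟩ := key s h1
    haveI : IsMulCommutative T := IsPGroup.isMulCommutative_of_card_eq_prime_sq (p := 2) h2
    exact h2 ▸ card_dvd_of_le ((le_centralizer T).trans (centralizer_le h3))
  · obtain ⟨T, h2, h3⟩ := key t ht
    have h4 := Core.card_mul_relIndex h3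
    have h5 := T.card_mul_index
    rw [Nat.card_zpowers, ht, h2] at h4
    rw [h2, hG] at h5
    obtain ⟨g, hg⟩ := Invol.thompson_transfer' (H := T) (M := zpowers t) (fun K e => by
      rcases (normal_of_index_eq_two e).eq_bot_or_eq_top with h7 | h7 <;> simp [h7, hG] at e)
      (Nat.odd_iff.2 (by omega)) (by omega) h1
    obtain ⟨k, hk⟩ := hg
    have h6 : orderOf (g⁻¹ * y * g) = 3 := by simpa [hy] using (MulAut.conj g⁻¹).orderOf_eq y
    refine h6 ▸ orderOf_dvd_natCard _ ?_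
    rintro _ ⟨j, rfl⟩
    have h7 : Commute s (g⁻¹ * y * g) := by
      have e : y * (g * s * g⁻¹) = g * s * g⁻¹ * y := hk ▸ (hc.zpow_right k).eq
      calc s * (g⁻¹ * y * g) = g⁻¹ * (g * s * g⁻¹ * y) * g := by group
        _ = _ := by rw [← e]; group
    exact (h7.zpow_left j).eq

theorem F6 {H : Subgroup G} (h : Nat.card H = 6) : 12 ∣ Nat.card (𝐍 H) := by
  haveI := Fact.mk Nat.prime_three
  obtain ⟨Q, h1, h2⟩ := ex (p := 3) (H := H) (by rw [h]; norm_num)
  have h3 := Core.card_mul_relIndex h1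
  rw [h2, h] at h3
  have h4 : H ≤ 𝐍 Q := nrm (syl_of (p := 3) (a := 1) h1 h2 (by rw [hG]; norm_num)) fun d hd e => by
    rw [show Q.relIndex H = 2 by omega] at hd
    rcases (Nat.dvd_prime Nat.prime_two).1 hd with h | h <;> omega
  have h5 := A12 hG (normalizer_ne_top_of_simple (H := Q) (fun e => by simp [e] at h2) fun e => by simp [e, hG] at h2)
    (F3 hG hy ht hc h2)
  have h6 := Core.card_mul_relIndex h4
  rw [h, h5] at h6
  exact h5 ▸ card_dvd_of_le ((normal_subgroupOf_iff_le_normalizer h4).1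
    (normal_of_index_eq_two (show H.relIndex _ = 2 by omega)))

theorem main (H : Subgroup G) (hH : ¬ H.Normal) : IsCoatom (𝐍 H) := by
  refine ⟨fun e => hH (normalizer_eq_top_iff.1 e), fun M hlt => ?_⟩
  by_contra hM
  have hHM : H ≤ M := le_normalizer.trans hlt.le
  by_cases h7 : 7 ∣ Nat.card H
  · haveI := Fact.mk (by norm_num : Nat.Prime 7)
    obtain ⟨T, h1, h2⟩ := ex h7
    have h3 := A7 hG hM (h1.trans hHM) h2
    refine hlt.not_ge ?_
    rcases (by decide : ∀ n ∈ Nat.divisors 14, 7 ∣ n → n = 7 ∨ n = 14) _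
      (Nat.mem_divisors.2 ⟨N7 hG h2 ▸ card_dvd_of_le (hHM.trans h3), by norm_num⟩) h7 with e | e
    · exact eq_of_le_of_card_ge h1 (by omega) ▸ h3
    · exact (h3.trans (eq_of_le_of_card_ge (hHM.trans h3) (by rw [N7 hG h2, e])).ge).trans le_normalizer
  by_cases h13 : 13 ∣ Nat.card H
  · haveI := Fact.mk (by norm_num : Nat.Prime 13)
    obtain ⟨T, h1, h2⟩ := ex h13
    have h3 := A13 hG hM (h1.trans hHM) h2
    have hT : IsCyclic T := isCyclic_of_prime_card h2
    have k : ∀ r : ℕ, r.Prime → (∀ H : Subgroup G, Nat.card H = r → 12 ∣ Nat.card (𝐍 H)) → ¬ r ∣ Nat.card (𝐂 T) :=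
      fun r hr h hd => by
        haveI := Fact.mk hr
        obtain ⟨R, a, b⟩ := ex hd
        have c := A12 hG (normalizer_ne_top_of_simple (H := R) (fun e => hr.one_lt.ne (by simpa [e] using b)) fun e => by
          rw [e, card_top, hG] at b; exact absurd (b ▸ hr) (by norm_num)) (h R b)
        have := card_dvd_of_le ((le_centralizer_iff.1 a).trans (centralizer_le_normalizer' R))
        rw [h2, c] at this
        omega
    have h4 := (by decide : ∀ n ∈ Nat.divisors 78, ¬ 2 ∣ n → ¬ 3 ∣ n → n ≤ 13) _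
      (Nat.mem_divisors.2 ⟨N13 hG h2 ▸ card_dvd_of_le (centralizer_le_normalizer' T), by norm_num⟩)
      (k 2 Nat.prime_two fun _ => F2 hG hy ht hc) (k 3 Nat.prime_three fun _ => F3 hG hy ht hc)
    haveI : IsMulCommutative T := hT.isMulCommutative
    have h5 : T = 𝐂 T := eq_of_le_of_card_ge (le_centralizer T) (by omega)
    refine hlt.not_ge (le_normalizer_iff.2 fun g hg x hx => ?_)
    have := h1 (h5.ge (PGrp.commutator_le_centralizer_of_isCyclic hT h3 (hHM.trans h3) (commutator_mem_commutator hg hx)))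
    simpa [commutatorElement_def] using mul_mem this hx
  have h12 : 12 ∣ Nat.card (𝐍 H) := by
    rcases (by decide : ∀ n ∈ Nat.divisors 12, n = 1 ∨ n = 2 ∨ n = 3 ∨ n = 4 ∨ n = 6 ∨ n = 12) _
      (Nat.mem_divisors.2 ⟨D12 hG h7 h13, by norm_num⟩) with e | e | e | e | e | e
    · exact absurd (card_eq_one.1 e ▸ inferInstance) hH
    · exact F2 hG hy ht hc e
    · exact F3 hG hy ht hc e
    · exact F4 hG e
    · exact F6 hG hy ht hc e
    · exact e ▸ card_dvd_of_le le_normalizer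
  have := Core.card_lt_of_lt hlt
  rw [A12 hG hM (h12.trans (card_dvd_of_le hlt.le))] at this
  exact absurd (Nat.le_of_dvd Nat.card_pos h12) (by omega)

end

theorem lift {G K : Type*} [Group G] [Group K] [Finite G] (f : G →* K) (hf : Function.Surjective f)
    (hK : ∀ H : Subgroup K, ¬ H.Normal → IsCoatom (normalizer (H : Set K)))
    (h : ∀ (H : Subgroup G) (g : G), (∀ x ∈ H, ∃ y ∈ H, f y = f (g * x * g⁻¹)) → ∀ x ∈ H, g * x * g⁻¹ ∈ H)
    (H : Subgroup G) (hH : ¬ H.Normal) : IsCoatom (normalizer (H : Set G)) := by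
  have e : normalizer (H : Set G) = (normalizer ((H.map f : Subgroup K) : Set K)).comap f := by
    refine le_antisymm (map_le_iff_le_comap.1 (le_normalizer_map f)) (le_normalizer_iff.2 fun g hg => h H g fun x hx => ?_)
    simpa using (mem_normalizer_iff.1 hg (f x)).1 (mem_map_of_mem f hx)
  rw [e]
  refine isCoatom_comap_of_surjective hf (hK _ fun hn => hH (normalizer_eq_top_iff.1 ?_))
  rw [e, normalizer_eq_top_iff.2 hn, comap_top]

instance f13 : Fact (Nat.Prime 13) := ⟨by norm_num⟩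

theorem cent (z : Matrix.SpecialLinearGroup (Fin 2) (ZMod 13)) : z ∈ center _ ↔ z = 1 ∨ z = -1 := by
  refine ⟨fun h => Linear.psl2_mk_eq_one_iff.1 ((QuotientGroup.eq_one_iff _).2 h), ?_⟩
  rintro (rfl | rfl)
  · exact one_mem _
  · exact mem_center_iff.2 fun g => by simp

theorem psl (H : Subgroup (Matrix.ProjectiveSpecialLinearGroup (Fin 2) (ZMod 13))) (hH : ¬ H.Normal) :
    IsCoatom (normalizer (H : Set (Matrix.ProjectiveSpecialLinearGroup (Fin 2) (ZMod 13)))) := by
  haveI := Linear.isSimpleGroup_PSL2 (F := ZMod 13) (by simp)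
  haveI := Fact.mk Nat.prime_three
  have h := Linear.card_PSL_two_of_odd (F := ZMod 13) (by simp; decide)
  let a : Matrix.SpecialLinearGroup (Fin 2) (ZMod 13) := ⟨!![3, 0; 0, 9], by decide⟩
  let b : Matrix.SpecialLinearGroup (Fin 2) (ZMod 13) := ⟨!![5, 0; 0, 8], by decide⟩
  refine main (Nat.eq_of_mul_eq_mul_left two_pos (h.trans (by simp))) (y := QuotientGroup.mk' _ a) (t := QuotientGroup.mk' _ b)
    (orderOf_eq_prime ?_ ?_) (orderOf_eq_prime ?_ ?_) (Commute.map (by decide +kernel : a * b = b * a) _) H hH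
  · rw [← map_pow]; exact (QuotientGroup.eq_one_iff _).2 ((cent _).2 (by decide +kernel))
  · exact fun e => absurd ((cent a).1 ((QuotientGroup.eq_one_iff a).1 e)) (not_or.2 ⟨fun c => absurd (congrArg (·.1 0 0) c) (by decide), fun c => absurd (congrArg (·.1 0 0) c) (by decide)⟩)
  · rw [← map_pow]; exact (QuotientGroup.eq_one_iff _).2 ((cent _).2 (by decide +kernel))
  · exact fun e => absurd ((cent b).1 ((QuotientGroup.eq_one_iff b).1 e)) (not_or.2 ⟨fun c => absurd (congrArg (·.1 0 0) c) (by decide), fun c => absurd (congrArg (·.1 0 0) c) (by decide)⟩)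

theorem sl (H : Subgroup (Matrix.SpecialLinearGroup (Fin 2) (ZMod 13))) (hH : ¬ H.Normal) :
    IsCoatom (normalizer (H : Set (Matrix.SpecialLinearGroup (Fin 2) (ZMod 13)))) := by
  refine lift (QuotientGroup.mk' (center _)) (QuotientGroup.mk'_surjective _) psl (fun H g h x hx => ?_) H hH
  have k : ∀ x ∈ H, g * x * g⁻¹ ∈ H ∨ -(g * x * g⁻¹) ∈ H := fun x hx => by
    obtain ⟨y, hy, e⟩ := h x hx
    rcases (cent _).1 (QuotientGroup.eq.1 e) with c | c
    · exact Or.inl (inv_mul_eq_one.1 c ▸ hy)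
    · exact Or.inr (by rw [inv_mul_eq_iff_eq_mul.1 c]; simpa using hy)
  by_cases hm : -1 ∈ H
  · exact (k x hx).elim id fun c => by simpa using mul_mem hm c
  have ho : Odd (orderOf x) := Invol.odd_orderOf_of_mem (Invol.odd_card_iff.2 fun t ht e => hm
    ((Linear.sl2_mul_self_eq_one (g := t) (show (2 : ZMod 13) ≠ 0 by decide) (by simpa [e, sq] using pow_orderOf_eq_one t)).resolve_left
      (fun c => by simp [c] at e) ▸ ht)) hx
  · obtain ⟨m, hm⟩ := ho
    have e : x = (x ^ (m + 1)) ^ 2 := by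
      rw [← pow_mul, show (m + 1) * 2 = orderOf x + 1 by omega, pow_succ, pow_orderOf_eq_one, one_mul]
    rw [e, ← conj_pow]
    exact (k _ (pow_mem hx (m + 1))).elim (pow_mem · 2) fun c => by simpa using pow_mem c 2

/-- Let K be isomorphic to PSL(2, 13) or to SL(2, 13) and let S be a finite abelian group of order coprime to the order of K. Then in the direct product K × S every subgroup that is not normal has a normalizer that is a maximal subgroup. -/
theorem result {K S : Type*} [Group K] [CommGroup S] [Finite K] [Finite S]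
    (hK : Nonempty (K ≃* Matrix.ProjectiveSpecialLinearGroup (Fin 2) (ZMod 13)) ∨
      Nonempty (K ≃* Matrix.SpecialLinearGroup (Fin 2) (ZMod 13)))
    (hKS : (Nat.card K).Coprime (Nat.card S)) (H : Subgroup (K × S)) (hH : ¬ H.Normal) :
    IsCoatom (Subgroup.normalizer (H : Set (K × S))) := by
  have hK' : ∀ H : Subgroup K, ¬ H.Normal → IsCoatom (normalizer (H : Set K)) := by
    rcases hK with ⟨⟨e⟩⟩ | ⟨⟨e⟩⟩
    · exact lift e.toMonoidHom e.surjective psl fun H g h x hx => let ⟨_, a, b⟩ := h x hx; e.injective b ▸ a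
    · exact lift e.toMonoidHom e.surjective sl fun H g h x hx => let ⟨_, a, b⟩ := h x hx; e.injective b ▸ a
  refine lift (MonoidHom.fst K S) Prod.fst_surjective hK' (fun H g h x hx => ?_) H hH
  have k : ∀ y ∈ H, (y.1, 1) ∈ H := fun y hy => by
    obtain ⟨m, hm⟩ := exists_pow_eq_self_of_coprime (x := y.1) (n := Nat.card S)
      (hKS.symm.coprime_dvd_right (orderOf_dvd_natCard _))
    have := pow_mem (pow_mem hy (Nat.card S)) m
    rwa [show (y ^ Nat.card S) ^ m = (y.1, 1) from Prod.ext hm (by simp)] at this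
  obtain ⟨y, hy, e⟩ := h x hx
  have := mul_mem (mul_mem (k y hy) (inv_mem (k x hx))) hx
  convert this using 1
  exact Prod.ext (by simpa using e.symm) (by simp)

end Cfsg.Agent.S4234
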