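import Cfsg.Statements.S4235
import Cfsg.Agent.Lib.Exc.EC
import Cfsg.Agent.Lib.FT.Cor
import Cfsg.Agent.Lib.Block.ZStar
import Cfsg.Agent.Lib.Coprime.FrobKernel
import Cfsg.Agent.Lib.Coprime.FrobCompl

set_option autoImplicit false
open scoped Pointwise
open Cfsg

namespace Cfsg.Agent.S4235

open Subgroup Cfsg.Lib Cfsg.Lib.Invol Cfsg.Lib.Exc Cfsg.Lib.Coprime

theorem solv_norm {G : Type*} [Group G] [Finite G] (S : Sylow 2 G) :
    Group.IsSolvable (normalizer ((S : Subgroup G) : Set G)) := by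
  have := Core.isSolvable_of_isPGroup Nat.prime_two
    (Core.isPGroup_subgroupOf S.2 (normalizer ((S : Subgroup G) : Set G)))
  have : Group.IsSolvable (normalizer ((S : Subgroup G) : Set G) ⧸
      (S : Subgroup G).subgroupOf (normalizer ((S : Subgroup G) : Set G))) := by
    by_contra h
    exact S.not_dvd_index ((FT.even_card_of_not_solvable _ h).two_dvd.trans (relIndex_dvd_index_of_le le_normalizer))
  exact Core.isSolvable_of_normal_of_quotient ((S : Subgroup G).subgroupOf _)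

/-- Let G be a finite group. Call a subgroup maximal solvable if it is solvable and not properly contained in a solvable subgroup. Suppose F assigns to each maximal solvable subgroup M a normal subgroup F(M) of M such that: every element of M outside F(M) centralizes no non-identity element of F(M); F(M) meets each conjugate g F(M) g⁻¹ with g outside M trivially; and F(M) is nontrivial unless M is abelian. Then G is solvable, or G is isomorphic to SL(2, K) for a finite field K of characteristic 2 with at least 4 elements, or G is isomorphic to a Suzuki group. -/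
theorem result {G : Type*} [Group G] [Finite G] (F : Subgroup G → Subgroup G)
    (h : ∀ M : Subgroup G, (Group.IsSolvable M ∧ ∀ M' : Subgroup G, M < M' → ¬ Group.IsSolvable M') →
      F M ≤ M ∧ M ≤ Subgroup.normalizer (F M : Set G) ∧
      (∀ a ∈ M, a ∉ F M → ∀ x ∈ F M, x * a = a * x → x = 1) ∧
      (∀ g : G, g ∉ M → F M ⊓ (MulAut.conj g • F M) = ⊥) ∧
      (F M ≠ ⊥ ∨ IsMulCommutative M)) :
    Group.IsSolvable G ∨
      (∃ (K : Type) (_ : Field K) (_ : Fintype K), (∃ n : ℕ, 2 ≤ n ∧ Fintype.card K = 2 ^ n) ∧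
        Nonempty (G ≃* Matrix.SpecialLinearGroup (Fin 2) K)) ∨
      Cfsg.Lie.IsoSuzuki G := by
  by_cases hG : Group.IsSolvable G
  · exact Or.inl hG
  right
  have he := FT.even_card_of_not_solvable G hG
  obtain ⟨S⟩ : Nonempty (Sylow 2 G) := inferInstance
  obtain ⟨M, hSM, hM⟩ := Finite.exists_le_maximal (p := fun M : Subgroup G => Group.IsSolvable M) (solv_norm S)
  have := hM.prop
  obtain ⟨h1, h2, h3, h4, h5⟩ := h M ⟨hM.prop, fun M' h1 h2 => h1.not_ge (hM.le_of_ge h2 h1.le)⟩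
  have hM1 : M ≠ ⊤ := fun e => hG (Core.isSolvable_top_iff.1 (e ▸ hM.prop))
  have hti : ∀ g x, x ≠ 1 → x ∈ F M → g * x * g⁻¹ ∈ F M → g ∈ M := fun g x h6 h7 h8 => by_contra fun h9 =>
    h6 (by simpa using mem_bot.1 ((h4 g h9).le (mem_inf.2 ⟨h8, mem_conj_smul.2 (by simpa [mul_assoc] using h7)⟩)))
  have hF : F M ≠ ⊥ := fun e => by
    have := h5.resolve_left (not_not.2 e)
    obtain ⟨K, _, h6, h7⟩ := Small.exists_normal_complement_of_normalizer_le S fun x hx =>
      mem_centralizer_iff.2 fun y hy => setLike_mul_comm (s := M) (hSM (le_normalizer hy)) (hSM hx)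
    have := FT.solvable_of_not_two_dvd K h7
    obtain ⟨n, hn⟩ := IsPGroup.iff_card.1 S.2
    have := Core.isSolvable_of_isPGroup Nat.prime_two (IsPGroup.of_card (G := G ⧸ K) (h6.trans hn))
    exact hG (Core.isSolvable_of_normal_of_quotient K)
  have hC : ∀ x ∈ F M, x ≠ 1 → centralizer ({x} : Set G) ≤ F M := fun x hx h6 g hg => by_contra fun h7 =>
    h6 (h3 g (hti g x h6 hx (by rwa [(mem_cent.1 hg).eq, mul_inv_cancel_right])) h7 x hx (mem_cent.1 hg).eq.symm)
  have hcop := coprime_index_of_cent hC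
  have hFM : F M ≠ M := fun e => by
    obtain ⟨N, -, _, -, -, h6, h7⟩ := exists_frobKernel (H := M) ⟨e ▸ hF, hM1, fun g hg => by
      simpa [e] using h4 g hg⟩
    have := BS.Fpf.nilpotent h6 (by rw [normalizer_eq_top]; exact le_top) (e ▸ hF)
    exact hG (Core.isSolvable_top_iff.1 (h7 ▸ Core.isSolvable_sup_of_normal M N))
  obtain ⟨z, hzS, hz, -⟩ := exists_le_cent he S
  by_cases hev : Even (Nat.card (F M)); swap
  · exfalso
    rw [Nat.not_even_iff_odd] at hev
    have h6 : Fpf (F M) S := fpf_iff.2 fun r hr h6 k hk e => h3 r (hSM (le_normalizer hr))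
      (fun h7 => h6 (eq_one_of_odd_of_mem S.2 hr (odd_orderOf_of_mem hev h7))) k hk e.symm
    have h7 : (S : Subgroup G) ≤ normalizer (F M : Set G) := le_normalizer.trans (hSM.trans h2)
    have h8 : IsIsolatedInvolution z := ⟨hz, fun g hg => by
      have h8 : orderOf (g * z * g⁻¹) = 2 := by rw [orderOf_conj, hz]
      obtain ⟨k, h9, h10⟩ := exists_conj_pair_mem_sylow S (k := 1) (l := 1) (sq_of_two hz) (sq_of_two h8) hg
      have := h6.involution_unique h7 hF h9 h10 (ne_one_of_two (by rw [orderOf_conj, hz]))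
        (ne_one_of_two (by rw [orderOf_conj, h8])) (mul_self_of_two (by rw [orderOf_conj, hz]))
        (mul_self_of_two (by rw [orderOf_conj, h8]))
      simpa using this⟩
    have h9 : F M ≤ oddCore G := fun x hx => by
      have h9 := Block.z_star h8 x
      rw [inverts_of_fpf (mul_self_of_two hz) (h7 hzS) (fun d hd e => h6.eq_one hzS (ne_one_of_two hz) hd e.eq.symm)
        x hx, ← mul_inv_rev, inv_mem_iff] at h9
      obtain ⟨m, hm⟩ := Exc.exists_sqrt_of_odd (odd_orderOf_of_mem hev hx)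
      rw [← hm, ← (Commute.refl x).mul_pow]
      exact pow_mem h9 m
    have : (oddCore G).Normal := inferInstance
    have := FT.solvable_of_not_two_dvd (oddCore G) (Core.odd_card_oddCore G).not_two_dvd_nat
    have h10 : oddCore G ≤ M := le_sup_left.trans (hM.le_of_ge (Core.isSolvable_sup_of_normal M _) le_sup_right)
    obtain ⟨⟨x, hx⟩, h11⟩ := ne_bot_iff_exists_ne_one.1 hF
    exact hM1 (eq_top_iff.2 fun g _ => hti g x (fun e => h11 (Subtype.ext e)) hx (mem_of_mem_normalizer hcop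
      (h2 (h10 (Normal.conj_mem inferInstance x (h9 hx) g))) (by rw [orderOf_conj]; exact orderOf_dvd_natCard _ hx)))
  have h6 : ∀ t ∈ M, orderOf t = 2 → t ∈ F M := fun t ht h6 => mem_of_mem_normalizer hcop (h2 ht) (h6 ▸ hev.two_dvd)
  have hse : IsStronglyEmbedded M := stronglyEmbedded_iff.2 ⟨hM1, even_card_of_two_mem hz (hSM (le_normalizer hzS)),
    fun t g ht h7 h8 => hti g t (ne_one_of_two ht) (h6 t h7 ht) (h6 _ h8 (by rw [orderOf_conj, ht]))⟩
  obtain ⟨p, hp, h7⟩ := Nat.exists_prime_and_dvd (n := (F M).relIndex M) fun e =>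
    hFM (le_antisymm h1 (relIndex_eq_one.1 e))
  obtain ⟨b, hb, h8⟩ := Exc.exists_prime_mem hp (h7.trans (relIndex_dvd_card _ _))
  have h9 : ∀ r ∈ zpowers b, r ≠ 1 → r ∉ F M := fun r hr h9 h10 => h9 (orderOf_eq_one_iff.1
    (Nat.eq_one_of_dvd_coprimes hcop (orderOf_dvd_natCard _ h10) ((orderOf_dvd_of_mem_zpowers hr).trans
      (h8 ▸ h7.trans (relIndex_dvd_index_of_le h1)))))
  have hb1 : b ≠ 1 := fun e => hp.one_lt.ne' (by rw [← h8, e, orderOf_one])
  have := BS.Fpf.nilpotent (K := F M) (R := zpowers b) (fpf_iff.2 fun r hr h10 k hk e =>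
    h3 r (zpowers_le.2 hb hr) (h9 r hr h10) k hk e.symm) (zpowers_le.2 (h2 hb)) (zpowers_eq_bot.not.2 hb1)
  obtain ⟨⟨y, hy, h10⟩, h11⟩ := ne_bot_iff_exists_ne_one.1 (Core.inf_centralizer_ne_bot_of_nilpotent
    (Core.pCoreOf_le (p := 2) (F M)) le_rfl (Core.le_normalizer_pCoreOf _) fun e => ne_one_of_two hz (mem_bot.1
      (e ▸ Core.le_pCoreOf_of_nilpotent (isPGroup_zpowers_two hz)
        (zpowers_le.2 (h6 z (hSM (le_normalizer hzS)) hz)) (mem_zpowers z))))
  obtain ⟨w, hw, h12⟩ := exists_two_zpowers_of_even (x := y) (Nat.not_odd_iff_even.1 fun e =>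
    h11 (Subtype.ext (eq_one_of_odd_of_mem (Core.isPGroup_pCoreOf _) hy e)))
  have h13 : w ∈ F M := zpowers_le.2 (Core.pCoreOf_le _ hy) hw
  have h14 : ∀ x, Commute x w ↔ x ∈ F M := fun x => ⟨fun e => hC w h13 (ne_one_of_two h12) (mem_cent.2 e),
    fun e => mem_centralizer_iff.1 (zpowers_le.2 h10 hw) x e⟩
  have h15 : ∀ g x, Commute x (g * w * g⁻¹) ↔ g⁻¹ * x * g ∈ F M := fun g x => by
    rw [← h14, ← commute_conj_iff (g := g) (b := w)]
    congr! 1
    group
  have hE : ECT G := by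
    refine ⟨fun t ht x y hy h16 h17 => ?_, fun s u x hs hu h16 h17 h18 => ?_⟩
    · obtain ⟨g, rfl⟩ := isConj_iff.1 (se_isConj hse h12 ht)
      rw [h15] at h16 h17
      obtain ⟨m, hm, e⟩ := se_exists_conj hse h12 (by rw [orderOf_conj', hy]) (h1 h13) (h1 h17)
      rw [show y = g * m * w * (g * m)⁻¹ by rw [show y = g * (g⁻¹ * y * g) * g⁻¹ by group, ← e]; group, h15]
      simpa [mul_assoc] using Transfer.conj_mem_of_mem_normalizer (inv_mem (h2 hm)) h16
    · obtain ⟨g, rfl⟩ := isConj_iff.1 (se_isConj hse h12 hs)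
      obtain ⟨k, rfl⟩ := isConj_iff.1 (se_isConj hse h12 hu)
      rw [h15] at h17 h18 ⊢
      have := hti (k⁻¹ * g) (g⁻¹ * x * g) (fun e => h16 (by
        rw [show x = g * (g⁻¹ * x * g) * g⁻¹ by group, e]; simp)) h17 (by simpa [mul_assoc] using h18)
      simpa [mul_assoc] using Transfer.conj_mem_of_mem_normalizer (h2 this) h13
  obtain ⟨u, h16, hu⟩ := se_exists_two_not_mem hse
  have h17 : Commute (b * w * b⁻¹) w := (h14 _).2 (Transfer.conj_mem_of_mem_normalizer (h2 hb) h13)
  have h18 : b * w * b⁻¹ ≠ w := fun e => h9 b (mem_zpowers b) hb1 ((h14 b).1 (mul_inv_eq_iff_eq_mul.1 e))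
  have h19 : orderOf (b * w * b⁻¹) = 2 := by rw [orderOf_conj, h12]
  rcases hE.classify h12 h19 h17 h18 hu fun e => h16 (h1 ((h14 u).1 e.symm)) with ⟨K, _, _, h20, ⟨e⟩⟩ | h20
  · have h21 := h20 ▸ four_dvd_card_cent h12 h19 h17 h18
    obtain ⟨n, h22, h23, -⟩ := psl_galois h21 ⟨e⟩
    obtain ⟨e'⟩ := Small.nonempty_sl_equiv_psl (F := K) (by
      rw [Nat.card_eq_fintype_card]; exact even_iff_two_dvd.2 (dvd_trans (by norm_num) h21))
    exact Or.inl ⟨K, inferInstance, inferInstance, ⟨n, h22, h23⟩, ⟨e.trans e'.symm⟩⟩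
  · exact Or.inr h20.1

end Cfsg.Agent.S4235
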