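import Cfsg.Statements.S4236
import Cfsg.Agent.Lib.Small.SylNum

set_option autoImplicit false
open Cfsg

namespace Cfsg.Agent.S4236

open Cfsg.Lib.Small Cfsg.Lib.Amalg


/-- No finite group has exactly 35 Sylow 17-subgroups. -/
theorem result {G : Type*} [Group G] [Finite G] : Nat.card (Sylow 17 G) ≠ 35 := by
  intro h
  have := Fact.mk (show Nat.Prime 17 by norm_num)
  obtain ⟨S, _, _, _, hS, hn⟩ := exists_simple_of_card_sylow (p := 17) (m := 35) (fun d hd h1 => by
    have := Nat.le_of_dvd (by norm_num) hd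
    interval_cases d <;> simp_all) (by norm_num)
    (not_isPrimePow_of Nat.prime_five Nat.prime_seven (by norm_num) (by norm_num) (by norm_num)) G h
  obtain ⟨P⟩ : Nonempty (Sylow 17 S) := inferInstance
  have hP := card_eq_of_card_sylow_lt hS (dvd_card_of_card_sylow_ne_one (by omega)) (by omega) P
  rcases brauer_core (commutator_eq_top_of_simple hS) P hP (n := 2) hn (onlyDiv_of_lt (by norm_num) (by norm_num))
    (Or.inr fun K hK hd => hK.eq_bot_or_eq_top.resolve_right fun e => hd (by
      rw [e, Subgroup.card_top]; exact hP ▸ Subgroup.card_subgroup_dvd_card _)) with ⟨-, h1, -⟩ | ⟨m, F, _, _, hF, h1, -, ⟨e⟩⟩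
  · omega
  · have hF' : Nat.card F = 16 := by rw [Nat.card_eq_fintype_card, hF]; omega
    have h2 := Cfsg.Lib.Linear.card_PSL_two_of_even (F := F) (by rw [hF']; decide)
    have h3 := P.card_dvd_index.trans (P : Subgroup S).index_dvd_card
    rw [hn, Nat.card_congr e.toEquiv, h2, hF'] at h3
    norm_num at h3

end Cfsg.Agent.S4236
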