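import Cfsg.Statements.S4237
import Cfsg.Agent.Lib.Coprime.Kulakoff

set_option autoImplicit false
open Cfsg

namespace Cfsg.Agent.S4237

/-- Let G be a finite group, p a prime and a a natural number such that p^(a+1) divides the order of G. Then the number of subgroups of G of order p^a is congruent to 1 or to 1 + p modulo p². -/
theorem result {G : Type*} [Group G] [Finite G] (p a : ℕ) (hp : p.Prime) (hdvd : p ^ (a + 1) ∣ Nat.card G) :
    Nat.card {H : Subgroup G // Nat.card H = p ^ a} ≡ 1 [MOD p ^ 2] ∨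
      Nat.card {H : Subgroup G // Nat.card H = p ^ a} ≡ 1 + p [MOD p ^ 2] := by
  haveI := Fact.mk hp
  rcases a with _ | a
  · left; simp only [pow_zero, Subgroup.card_eq_one, Nat.card_unique]; rfl
  by_cases h2 : p = 2
  · subst h2
    have := Cfsg.Lib.FG.card_order_pow (G := G) (p := 2) (a + 1) ((pow_dvd_pow 2 (by omega)).trans hdvd)
    unfold Nat.ModEq at *
    omega
  obtain ⟨P⟩ : Nonempty (Sylow p G) := inferInstance
  have hP := P.pow_dvd_card_of_pow_dvd_card hdvd
  have h := Cfsg.Lib.Coprime.card_subgroups_modEq_sylow P hP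
  obtain ⟨n, hn⟩ := IsPGroup.iff_card.1 P.isPGroup'
  by_cases hc : IsCyclic (P : Subgroup G)
  · left
    rwa [Cfsg.Lib.Coprime.card_subgroups_cyclic hc ((pow_dvd_pow p (by omega)).trans hP)] at h
  · right
    exact h.trans (Cfsg.Lib.Coprime.kulakoff n _ hn hc _ (by omega)
      ((Nat.pow_dvd_pow_iff_le_right hp.one_lt).1 (hn ▸ hP)) (Or.inr fun e => absurd e h2))

end Cfsg.Agent.S4237
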