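import Cfsg.Statements.S4238
import Cfsg.Agent.Lib.Fus2.Involves
import Cfsg.Agent.Lib.Coprime.Basic
import Cfsg.Agent.Lib.Transfer.Frobenius
import Cfsg.Agent.Lib.Hall.RealElt
import Cfsg.Agent.Lib.PGrp.Basic

set_option autoImplicit false
open Cfsg

namespace Cfsg.Agent.S4238

open Subgroup Cfsg.Lib Cfsg.Lib.Transfer

universe u in
theorem aux {p q : ℕ} [hp : Fact p.Prime] (hq : q.Prime) (hqp : q ≠ p) (n : ℕ) :
    ∀ (K : Type u) [Group K] [Finite K], Nat.card K = n → ∀ (Q : Subgroup K) [Q.Normal] (g : K),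
      IsPGroup p Q → (∃ k, g ^ q ^ k = 1) → Q ⊔ zpowers g = ⊤ → ¬ zpowers g ≤ centralizer (Q : Set K) →
      ¬ ∀ (L : Type u) [Group L], Involves L K → pPrimeCore p L = ⊥ →
        ∃ k : L, orderOf k = Monoid.exponent L := by
  induction n using Nat.strong_induction_on with | _ n ih =>
  intro K _ _ hn Q _ g hQ ⟨a, ha⟩ hsup hc H
  have hnorm : zpowers g ≤ normalizer (Q : Set K) := by rw [normalizer_eq_top]; exact le_top
  have hgp : (orderOf g).Coprime p := Nat.Coprime.coprime_dvd_left (orderOf_dvd_of_pow_eq_one ha)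
    (((Nat.coprime_primes hq hp.out).2 hqp).pow_left a)
  have hcop : ∀ y : K, orderOf y = orderOf g → (Nat.card (zpowers y)).Coprime (Nat.card Q) :=
    fun y hy => by rw [Nat.card_zpowers, hy]; exact Coprime.coprime_card_of_isPGroup hQ hgp
  have key : ∀ N : Subgroup K, N.Normal → N ≠ ⊥ → ⁅Q, zpowers g⁆ ≤ N := by
    intro N _ hN
    by_contra hle
    let f := QuotientGroup.mk' N
    have hf : Function.Surjective f := QuotientGroup.mk'_surjective N
    haveI : (Q.map f).Normal := Normal.map inferInstance f hf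
    refine ih _ ?_ (K ⧸ N) rfl (Q.map f) (f g) (hQ.map f) ⟨a, by rw [← map_pow, ha, map_one]⟩
      (by rw [← MonoidHom.map_zpowers, ← Subgroup.map_sup, hsup, map_top_of_surjective f hf])
      (fun h => hle ?_) fun L _ hL => H L (Fus2.involves_of_quotient N hL)
    · rw [← hn, ← N.index_mul_card, ← index_eq_card]
      exact (Nat.lt_mul_iff_one_lt_right (Nat.pos_of_ne_zero FiniteIndex.index_ne_zero)).2
        ((one_lt_card_iff_ne_bot N).2 hN)
    · rw [← PGrp.map_mk'_eq_bot, map_commutator, MonoidHom.map_zpowers, commutator_comm,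
        commutator_eq_bot_iff_le_centralizer]
      exact h
  have hle : ⁅Q, zpowers g⁆ ≤ Q := commutator_le_left _ _
  have h1 : pPrimeCore p K = ⊥ := by
    by_contra h
    haveI := Core.pPrimeCore_characteristic p K
    refine hc ?_
    rw [← commutator_eq_bot_iff_le_centralizer, commutator_comm, eq_bot_iff,
      ← Coprime.inf_eq_bot_of_coprime_card (Coprime.coprime_card_of_isPGroup hQ
        (Core.coprime_card_pPrimeCore p K))]
    exact le_inf hle (key _ inferInstance h)
  have h2 : (frattini Q).map Q.subtype = ⊥ := by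
    by_contra h
    exact hc (Coprime.le_centralizer_of_commutator_le_frattini hnorm
      ((hcop g rfl).coprime_dvd_right (frattini Q).card_subgroup_dvd_card)
      (key _ (Core.normal_frattiniOf Q) h))
  have h3 : Q ≤ centralizer (Q : Set K) := by
    rw [← commutator_eq_bot_iff_le_centralizer, eq_bot_iff, ← h2]
    exact Core.commutator_le_frattiniOf hQ
  obtain ⟨k, hk⟩ := H K (Fus2.involves_refl K) h1
  have hQ1 : Q ≠ ⊥ := fun h => hc fun w _ v hv => by rw [mem_bot.1 (h.le hv), one_mul, mul_one]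
  obtain ⟨⟨z, hz⟩, hz1⟩ := ne_bot_iff_exists_ne_one.1 hQ1
  have hpk : p ∣ orderOf k := by
    rw [hk]
    refine dvd_trans ?_ (Monoid.order_dvd_exponent z)
    rw [← orderOf_mk z hz]
    exact hQ.dvd_orderOf hz1
  have hx := orderOf_pow_orderOf_div (orderOf_pos k).ne' hpk
  have hy := orderOf_pow_orderOf_div (orderOf_pos k).ne' (hk ▸ Monoid.order_dvd_exponent g)
  set x := k ^ (orderOf k / p)
  set y := k ^ (orderOf k / orderOf g)
  have hcard : ∀ y : K, orderOf y = orderOf g → Nat.card ↥(Q ⊔ zpowers y) = Nat.card Q * orderOf g :=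
    fun y hy => by
      rw [Coprime.card_sup_of_disjoint' (by rw [normalizer_eq_top]; exact le_top)
        (Coprime.inf_eq_bot_of_coprime_card (hcop y hy)), Nat.card_zpowers, hy]
  have hsup' : Q ⊔ zpowers y = ⊤ := eq_top_of_card_eq _ (by
    rw [hcard y hy, ← hcard g rfl, hsup, card_top])
  have hxQ : x ∈ Q := by
    refine Hall.mem_of_isPGroup_of_not_dvd_index hp.out (IsPGroup.of_card (n := 1) (by
      rw [Nat.card_zpowers, hx, pow_one])) (by rw [normalizer_eq_top]; exact mem_top _) ?_
    have := hcard g rfl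
    rw [hsup, card_top, ← Q.card_mul_index] at this
    rw [Nat.eq_of_mul_eq_mul_left Nat.card_pos this]
    exact (Nat.Prime.coprime_iff_not_dvd hp.out).1 hgp.symm
  have hxZ : zpowers x ≤ center K := by
    rw [zpowers_le, ← Hall.cent_eq_top_iff, eq_top_iff, ← hsup']
    exact sup_le (fun w hw => Hall.mem_cent_iff.2 (h3 hxQ w hw))
      (zpowers_le_of_mem (Hall.mem_cent_iff.2 (Commute.pow_pow_self k _ _).eq))
  refine hc (Coprime.le_centralizer_of_commutator_le_centralizer hnorm (hcop g rfl)
    ((key _ (PGrp.normal_of_le_center hxZ) fun h => ?_).trans (hxZ.trans (center_le_centralizer _))))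
  rw [zpowers_eq_bot.1 h, orderOf_one] at hx
  exact hp.out.one_lt.ne hx


/-- Let G be a finite group and p a prime. Then G has a normal p-complement if and only if every section K = H/N of G (N a normal subgroup of a subgroup H) whose largest normal subgroup of order prime to p is trivial contains an element whose order equals the exponent of K. -/
theorem result {G : Type*} [Group G] [Finite G] (p : ℕ) [Fact p.Prime] :
    Cfsg.HasNormalPComplement p G ↔
      ∀ (H : Subgroup G) (N : Subgroup H) [N.Normal], Cfsg.pPrimeCore p (H ⧸ N) = ⊥ →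
        ∃ k : H ⧸ N, orderOf k = Monoid.exponent (H ⧸ N) := by
  have hp : p.Prime := Fact.out
  constructor
  · intro h H N _ hO
    have h1 := hasNormalPComplement_iff_pResidual.1 (hasNormalPComplement_of_surjective
      (hasNormalPComplement_subgroup h H) _ (QuotientGroup.mk'_surjective N))
    haveI := pResidual_normal (p := p) (G := H ⧸ N)
    have h2 := Core.eq_bot_of_pPrimeCore_eq_bot hO ((Nat.Prime.coprime_iff_not_dvd hp).2 h1).symm
    obtain ⟨n, hn⟩ := relIndex_resOf (p := p) (⊤ : Subgroup (H ⧸ N))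
    rw [resOf_top, h2, relIndex_top_right, index_bot] at hn
    obtain ⟨k, hk⟩ := hp.exists_orderOf_eq_pow_factorization_exponent (H ⧸ N)
    obtain ⟨j, -, hj⟩ := (Nat.dvd_prime_pow hp).1 (hn ▸ Group.exponent_dvd_nat_card (G := H ⧸ N))
    exact ⟨k, by rw [hk, hj, hp.factorization_pow, Finsupp.single_eq_same]⟩
  · intro h
    by_contra hn
    obtain ⟨T, hT⟩ := exists_sylowIn p (⊤ : Subgroup G)
    obtain ⟨Q, hQT, q, hq, hqp, g, -, ⟨a, ha⟩, hgn, hgc⟩ := hT.exists_of_not_pnil
      (mt hasNormalPComplement_iff_top.2 hn)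
    have hg : g ∈ Q ⊔ zpowers g := mem_sup_right (mem_zpowers g)
    haveI : (Q.subgroupOf (Q ⊔ zpowers g)).Normal := (normal_subgroupOf_iff_le_normalizer
      le_sup_left).2 (sup_le le_normalizer (zpowers_le_of_mem hgn))
    refine aux (p := p) hq hqp _ ↥(Q ⊔ zpowers g) rfl (Q.subgroupOf _) ⟨g, hg⟩
      ((hT.isPGroup.to_le hQT).comap_subtype) ⟨a, Subtype.ext ha⟩ ?_ (fun hc => hgc fun w hw => ?_)
      fun L _ hL hO => ?_
    · apply map_injective (subtype_injective _)
      rw [Subgroup.map_sup, Core.map_subtype_subgroupOf_of_le le_sup_left, MonoidHom.map_zpowers,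
        ← MonoidHom.range_eq_map, range_subtype]
      rfl
    · exact congrArg Subtype.val (hc (mem_zpowers _) ⟨w, mem_sup_left hw⟩ hw)
    · obtain ⟨K, R, _, ⟨e⟩⟩ := Fus2.involves_of_subgroup hL
      obtain ⟨k, hk⟩ := h K _ ((Core.pPrimeCore_eq_bot_iff_of_equiv e).2 hO)
      exact ⟨e k, by rw [e.orderOf_eq, hk, Monoid.exponent_eq_of_mulEquiv e]⟩

end Cfsg.Agent.S4238
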