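import Cfsg.Statements.S4240
import Cfsg.Agent.Lib.Hall.MaxNil

set_option autoImplicit false
open Cfsg

namespace Cfsg.Agent.S4240

open scoped Pointwise commutatorElement
open Cfsg.Lib Cfsg.Lib.Hall

/-- Let a finite group A act by automorphisms on a finite group G of order coprime to that of A. Suppose every maximal A-invariant proper subgroup of G is nilpotent while G is not. Then G is solvable, the order of G has the form p^a·q^b for two distinct primes p and q, and G has a normal A-invariant Sylow subgroup for some prime dividing its order. -/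
theorem result {A G : Type*} [Group A] [Group G] [Finite A] [Finite G] [MulDistribMulAction A G]
    (hcop : (Nat.card A).Coprime (Nat.card G))
    (hmax : ∀ H : Subgroup G, H ≠ ⊤ → (∀ a : A, ∀ x ∈ H, a • x ∈ H) →
      (∀ K : Subgroup G, H < K → (∀ a : A, ∀ x ∈ K, a • x ∈ K) → K = ⊤) → Group.IsNilpotent H)
    (hG : ¬ Group.IsNilpotent G) :
    Group.IsSolvable G ∧
      (∃ p q a b : ℕ, p.Prime ∧ q.Prime ∧ p ≠ q ∧ Nat.card G = p ^ a * q ^ b) ∧
      ∃ (p : ℕ) (P : Sylow p G), p.Prime ∧ p ∣ Nat.card G ∧ (P : Subgroup G).Normal ∧ (∀ a : A, ∀ x ∈ (P : Subgroup G), a • x ∈ (P : Subgroup G)) := by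
  obtain ⟨Γ, _, _, i, j, hA, hc, hn⟩ := Coprime.exists_ambient (MulDistribMulAction.toMulAut A G)
  have hsup := hc.sup_eq_top
  rw [MonoidHom.range_eq_map] at hn
  rw [MonoidHom.range_eq_map, MonoidHom.range_eq_map] at hsup
  have hcop' := hA.coprime_top (B := ⊤) (by simpa using hcop)
  have e := (((⊤ : Subgroup G).equivMapOfInjective i hA.inj_i).symm.trans Subgroup.topEquiv)
  have hall : ∀ H < (⊤ : Subgroup G).map i, (⊤ : Subgroup A).map j ≤ Subgroup.normalizer (H : Set Γ) →
      Group.IsNilpotent H := by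
    intro H h1 h2
    obtain ⟨H, -, rfl⟩ := hA.exists_eq_map h1.le
    obtain ⟨M, hHM, ⟨hM1, hM2⟩, hM⟩ := Core.exists_maximal_ge
      (fun M : Subgroup G => M ≠ ⊤ ∧ ∀ a : A, ∀ x ∈ M, a • x ∈ M) (H := H)
      ⟨fun e => h1.ne (by rw [e]), fun a x hx => hA.le_normalizer_iff.mp h2 a trivial x hx⟩
    haveI := hmax M hM1 hM2 (fun K hK hK' => by
      by_contra e
      exact hK.ne' (hM K ⟨e, hK'⟩ hK.le))
    haveI := Core.isNilpotent_of_le hHM
    exact Core.isNilpotent_map H i
  have hs := solvable_of_forall_inv_nilpotent hsup hcop' hall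
  obtain ⟨h1, p, hp, hpd, P, hP, hPn⟩ := structure_of_forall_inv_nilpotent hcop' hs hall
    (fun h => hG (Group.nilpotent_of_mulEquiv e))
  rw [Nat.card_congr e.toEquiv] at h1 hpd
  refine ⟨Core.isSolvable_of_equiv e, h1, ?_⟩
  haveI : Fact p.Prime := ⟨hp⟩
  obtain ⟨P, -, rfl⟩ := hA.exists_eq_map (Transfer.sylowIn_iff.mp hP).1
  obtain ⟨P, rfl⟩ := (hA.sylowIn_map_iff.mp hP).exists_sylow_top
  refine ⟨p, P, hp, hpd, ?_, fun a x hx =>
    hA.le_normalizer_iff.mp (le_norm_of_normal ((⊤ : Subgroup A).map j) _) a trivial x hx⟩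
  rw [← Subgroup.normalizer_eq_top_iff, eq_top_iff]
  exact hA.le_normalizer_map_iff.mp (le_norm_of_normal _ _)

end Cfsg.Agent.S4240
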