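import Cfsg.Statements.S4242
import Cfsg.Agent.Lib.Hall.MarA

set_option autoImplicit false
open Cfsg

namespace Cfsg.Agent.S4242

open scoped Pointwise commutatorElement
open Cfsg.Lib Cfsg.Lib.Hall

open Subgroup Cfsg.Lib.Core Cfsg.Lib.Amalg Cfsg.Lib.BG1

theorem aux {G : Type*} [Group G] [Finite G] {p : ℕ} [hp : Fact p.Prime] {P K : Subgroup G}
    (h : ∀ H : Subgroup G, H ≠ ⊤ → p ∣ Nat.card H → Group.IsNilpotent H) (hP : IsPGroup p P) (h0 : P ≠ ⊥)
    (hK : ¬ p ∣ Nat.card K) (h1 : ¬ Group.IsNilpotent K) (h2 : P ≤ 𝐍(K) ∨ K ≤ 𝐍(P)) : K ≤ 𝐂(P) := by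
  refine Coprime.le_of_forall_sylowIn fun q hq _ => ?_
  have hc := coprime_of_isPGroup_of_not_dvd hp.out hP hK
  obtain ⟨Q, h3, h4⟩ : ∃ Q, Syl q Q K ∧ Nat.card ↥(P ⊔ Q) ∣ Nat.card P * Nat.card Q := by
    rcases h2 with h2 | h2
    · obtain ⟨Q, h3, h4⟩ := coprime_sylow_exists q h2 hc (.inl (solvable_of_pgroup hp.out hP))
      exact ⟨Q, h3, by rw [sup_comm, mul_comm]; exact card_sup_dvd' h4⟩
    · obtain ⟨Q, h3⟩ := exists_syl q K
      exact ⟨Q, h3, card_sup_dvd' (h3.le.trans h2)⟩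
  refine ⟨Q, syl_iff_sylowIn.1 h3, le_cent_of_coprime_of_nilpotent (h (P ⊔ Q) (fun e => h1 ?_)
    (dvd_card_of_isPGroup_le hP h0 le_sup_left)) le_sup_right le_sup_left
    (hc.coprime_dvd_right (card_dvd_of_le h3.le)).symm⟩
  rw [e, card_top] at h4
  rw [← eq_of_le_of_card_le' h3.le (Nat.le_of_dvd Nat.card_pos
    (hc.symm.dvd_of_dvd_mul_left ((card_subgroup_dvd_card K).trans h4)))]
  exact h3.isPGroup.isNilpotent

/-- Let G be a finite group and p a prime dividing its order. Every maximal subgroup of G of order divisible by p is nilpotent if and only if G is nilpotent, or G is a minimal non-nilpotent group, or G is the internal direct product of a normal subgroup of order p and a normal minimal non-nilpotent subgroup of order prime to p. -/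
theorem result {G : Type*} [Group G] [Finite G] (p : ℕ) (hp : p.Prime) (hpG : p ∣ Nat.card G) :
    (∀ M : Subgroup G, IsCoatom M → p ∣ Nat.card M → Group.IsNilpotent M) ↔
      (Group.IsNilpotent G ∨ Cfsg.IsMinimalNonNilpotent G ∨
        ∃ Z K : Subgroup G, Z.Normal ∧ K.Normal ∧ Z ⊓ K = ⊥ ∧ Z ⊔ K = ⊤ ∧ Nat.card Z = p ∧
          Cfsg.IsMinimalNonNilpotent K ∧ ¬ p ∣ Nat.card K) := by
  haveI := Fact.mk hp
  constructor
  · intro h0
    have h : ∀ H : Subgroup G, H ≠ ⊤ → p ∣ Nat.card H → Group.IsNilpotent H := fun H h1 h2 => by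
      obtain ⟨M, hM, hle⟩ := exists_coatom_ge h1
      haveI := h0 M hM (h2.trans (card_dvd_of_le hle))
      exact isNilpotent_of_le hle
    by_cases h1 : Group.IsNilpotent G
    · exact .inl h1
    by_cases h2 : ∀ H : Subgroup G, H ≠ ⊤ → Group.IsNilpotent H
    · exact .inr (.inl ⟨h1, h2⟩)
    push Not at h2
    obtain ⟨K, h2, h3⟩ := h2
    have h4 : ¬ p ∣ Nat.card K := fun e => h3 (h K h2 e)
    have h5 : ∀ X : Subgroup G, IsPGroup p X → X ≠ ⊥ → X ⊔ K = ⊤ := fun X hX e => by_contra fun e' => h3 (by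
      haveI := h _ e' (dvd_card_of_isPGroup_le hX e le_sup_left)
      exact isNilpotent_of_le (le_sup_right : K ≤ X ⊔ K))
    obtain ⟨P, hP⟩ := exists_syl p (⊤ : Subgroup G)
    have hP0 : P ≠ ⊥ := fun e => hP.eq_bot_iff.1 e (by rwa [card_top])
    obtain ⟨X, hX, h6, h7⟩ : ∃ X : Subgroup G, IsPGroup p X ∧ X ≠ ⊥ ∧ 𝐍(X) = ⊤ := by
      by_contra! hc
      have h6 := pnil_iff_hall.1 ((syl_iff_sylowIn.1 hP).pnil_of_local fun D h6 h7 _ => Transfer.pnil_of_isNilpotent
        (h _ (by rw [top_inf_eq]; exact hc D (hP.isPGroup.to_le h6) h7)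
          (dvd_card_of_isPGroup_le (hP.isPGroup.to_le h6) h7 (le_inf le_top le_normalizer))))
      have h7 := le_norm_piCoreOf_self {p}ᶜ (⊤ : Subgroup G)
      have h8 := aux h hP.isPGroup hP0 (not_dvd_card_pPrimeCoreOf hp ⊤) (fun e => h3 (by
        haveI := e
        exact isNilpotent_of_le (le_of_isPiHallOf_normal h6 h7 le_top ((isPi_compl_iff_not_dvd hp).2 h4)))) (.inl (le_top.trans h7))
      exact hc P hP.isPGroup hP0 (top_le_iff.1 (sup_syl_of_hall hP h6 ▸ sup_le (le_norm_of_le_cent h8) le_normalizer))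
    have h8 := aux h hX h6 h4 h3 (.inr (h7 ▸ le_top))
    obtain ⟨x, hx, h9⟩ := exists_mem_orderOf_eq_prime hp (dvd_card_of_isPGroup_le (hX.to_le inf_le_left)
      (inf_center_ne_bot hX le_rfl le_normalizer h6) le_rfl)
    have hz : zpowers x ≤ X ⊓ 𝐂(X) := zpowers_le.2 hx
    have h10 : Nat.card (zpowers x) = p := by rw [Nat.card_zpowers, h9]
    have h11 := hX.to_le (hz.trans inf_le_left)
    have h12 : zpowers x ≠ ⊥ := fun e => hp.one_lt.ne' (by rw [← h10, e, card_bot])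
    have h13 : K ≤ 𝐂(zpowers x) := h8.trans (centralizer_anti (hz.trans inf_le_left))
    have h14 := h5 _ h11 h12
    refine .inr (.inr ⟨zpowers x, K, normalizer_eq_top_iff.1 (top_le_iff.1 (h14 ▸ sup_le le_normalizer
      (le_norm_of_le_cent h13))), normalizer_eq_top_iff.1 (top_le_iff.1 (h14 ▸ sup_le
        (le_norm_of_le_cent (BG1.le_cent_symm h13)) le_normalizer)), inf_eq_bot_of_isPGroup_of_not_dvd hp h11 h4,
      h14, h10, ⟨h3, fun H e => ?_⟩, h4⟩)
    haveI := h (zpowers x ⊔ H.map K.subtype) (fun e' => e ?_) (h10 ▸ card_dvd_of_le le_sup_left)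
    · haveI : Group.IsNilpotent (H.map K.subtype) := isNilpotent_of_le (le_sup_right : _ ≤ zpowers x ⊔ _)
      exact Group.nilpotent_of_mulEquiv (H.equivMapOfInjective _ K.subtype_injective).symm
    have h15 := card_sup_dvd' (H := zpowers x) ((map_subtype_le H).trans (le_norm_of_le_cent h13))
    rw [e', card_top, card_map_of_injective K.subtype_injective] at h15
    exact eq_top_of_le_card H (Nat.le_of_dvd Nat.card_pos ((coprime_of_isPGroup_of_not_dvd hp h11 h4).symm.dvd_of_dvd_mul_left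
      ((card_subgroup_dvd_card K).trans h15)))
  · rintro (h | h | ⟨Z, K, _, _, h1, h2, h3, h4, h5⟩) M hM h6
    · infer_instance
    · exact h.2 M hM.1
    have hZ : IsPGroup p Z := .of_card (h3.trans (pow_one p).symm)
    have h7 : Z ≤ M := by
      obtain ⟨x, hx, h7⟩ := exists_mem_orderOf_eq_prime hp h6
      have hZ' : Syl p Z ⊤ := ⟨le_top, hZ, fun U h8 _ h9 => by
        rw [← inf_eq_right.2 (le_top (a := U)), ← h2, sup_inf_of_le_normalizer h8 le_normalizer_of_normal, inf_comm,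
          inf_eq_bot_of_isPGroup_of_not_dvd hp h9 h5, sup_bot_eq]⟩
      rw [← eq_of_le_of_card_le' (hZ'.le_of_le_normalizer' (Amalg.isPGroup_zpowers_of_orderOf (x := x) (k := 1) (by rw [h7, pow_one]))
        le_top le_normalizer_of_normal) (by rw [Nat.card_zpowers, h7, h3])]
      exact zpowers_le.2 hx
    have h8 : M ⊓ K ≠ K := fun e => hM.1 (top_le_iff.1 (h2 ▸ sup_le h7 (inf_eq_right.1 e)))
    haveI := h4.2 ((M ⊓ K).subgroupOf K) fun e => h8 (le_antisymm inf_le_right (subgroupOf_eq_top.1 e))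
    haveI := Group.nilpotent_of_mulEquiv (subgroupOfEquivOfLe (inf_le_right : M ⊓ K ≤ K))
    haveI := hZ.isNilpotent
    have h9 : Z ≤ 𝐂(K) := comm_eq_bot_iff.1 (eq_bot_iff.2 (h1 ▸ commutator_le_inf Z K))
    have h10 : M = Z ⊔ M ⊓ K := by rw [inf_comm, ← sup_inf_of_le_normalizer h7 le_normalizer_of_normal, h2, top_inf_eq]
    rw [h10]
    exact isNilpotent_sup_of_le_centralizer (h9.trans (centralizer_anti inf_le_right))

end Cfsg.Agent.S4242
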