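import Cfsg.Statements.S4244
import Cfsg.Agent.Lib.Hall.SylNum

set_option autoImplicit false
open Cfsg

namespace Cfsg.Agent.S4244

open scoped Pointwise commutatorElement
open Cfsg.Lib Cfsg.Lib.Hall

/-- Let H be a subnormal subgroup of a finite group G. Then for every subgroup K of G the index of H ∩ K in H divides the index of K in G. -/
theorem result {G : Type*} [Group G] [Finite G] (H : Subgroup G) (hH : H.IsSubnormal) (K : Subgroup G) :
    (H ⊓ K).relIndex H ∣ K.index := by
  induction hH with
  | top => rw [top_inf_eq, Subgroup.relIndex_top_right]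
  | step H L hle hL hn ih =>
    refine dvd_trans ?_ ih
    rw [inf_comm, Subgroup.inf_relIndex_right, inf_comm, Subgroup.inf_relIndex_right,
      ← relIndex_sup_eq (A := K) (B := H) (Z := L ⊓ K) inf_le_right
        (inf_le_left.trans ((Subgroup.normal_subgroupOf_iff_le_normalizer hle).mp hn)),
      ← Subgroup.inf_relIndex_right K L, ← Subgroup.relIndex_mul_relIndex (K ⊓ L) (H ⊔ L ⊓ K) L
        ((inf_comm K L).le.trans le_sup_right) (sup_le hle inf_le_left),
      ← Subgroup.inf_relIndex_right K, ← Subgroup.inf_relIndex_right (K ⊓ L), inf_assoc,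
      inf_eq_right.mpr (sup_le hle inf_le_left)]
    exact dvd_mul_right _ _

end Cfsg.Agent.S4244
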