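import Cfsg.Statements.S4245
import Cfsg.Agent.Lib.Hall.Kazarin
import Cfsg.Agent.Lib.Hall.FC6
import Cfsg.Agent.Lib.Block.BSBig
import Cfsg.Agent.Lib.Invol.Sylow2
import Cfsg.Agent.Lib.BS.Ben4

set_option autoImplicit false
open Cfsg

open Subgroup Cfsg.Lib
open scoped commutatorElement
open Cfsg.Lib.Transfer
namespace Cfsg.Agent.S4245

theorem aux {G : Type*} [Group G] [Finite G] (hR : solvableRadical G = ⊥) {a b : G} {p s r : ℕ} (hp : p.Prime)
    (hn : a ∈ normalizer (zpowers b : Set G)) (hr : a ^ 2 ^ r ∈ zpowers b)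
    (hi : (zpowers b ⊔ zpowers a).index ∣ p ^ s) : Group.IsSolvable G := by
  haveI : Fact (Nat.Prime 2) := ⟨Nat.prime_two⟩
  have K : ∀ (x : G) (H : Subgroup G) (q k : ℕ), q.Prime → H ≤ centralizer {x} → H.index ∣ q ^ k → x = 1 :=
    fun x H q k hq h1 h2 => by
      obtain ⟨j, hj⟩ := Hall.exists_eq_pow_of_dvd hq ((Hall.cs_dvd_index_of_le h1).trans h2)
      exact mem_bot.1 (hR ▸ Hall.kazarin hq hj)
  by_cases h2 : p = 2
  · subst h2
    obtain ⟨n, e⟩ := relIndex_eq_pow_of_pow_mem (p := 2) (zpowers_le.2 hn) fun x ⟨k, hk⟩ =>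
      ⟨r, by rw [← hk, ← zpow_natCast, ← zpow_mul, mul_comm, zpow_mul, zpow_natCast]; exact zpow_mem hr k⟩
    have hB : (zpowers b).index ∣ 2 ^ (n + s) := by
      rw [← relIndex_mul_index (le_sup_left : _ ≤ zpowers b ⊔ zpowers a),
        Coprime.relIndex_sup_of_le_normalizer' (zpowers_le.2 hn), e, pow_add]
      exact Nat.mul_dvd_mul_left _ hi
    rw [K b _ _ _ hp (zpowers_le.2 (Hall.self_mem_cent b)) hB, zpowers_one_eq_bot, index_bot] at hB
    obtain ⟨j, hj⟩ := Hall.exists_eq_pow_of_dvd hp hB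
    haveI := (IsPGroup.of_card hj).isNilpotent
    infer_instance
  have hb : ¬ 2 ∣ Nat.card (zpowers b) := fun d => by
    obtain ⟨⟨u, hu⟩, u2⟩ := exists_prime_orderOf_dvd_card' 2 d
    rw [← orderOf_coe] at u2
    refine Invol.ne_one_of_two u2 (K u _ _ _ hp (sup_le (fun x hx => Hall.mem_cent_iff.2
      (Hall.commute_of_mem_zpowers hx hu)) (zpowers_le.2 (Hall.mem_cent_iff.2 (mul_inv_eq_iff_eq_mul.1 ?_)))) hi)
    exact Invol.eq_of_isCyclic inferInstance (conj_mem_of_mem_normalizer hn hu) hu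
      ((Invol.orderOf_conj _ _).trans u2) u2
  obtain ⟨T, hT⟩ := exists_sylowIn 2 (zpowers a)
  have hT' : SylowIn 2 T ⊤ := ⟨le_top, hT.2, by
    rw [relIndex_top_right, ← relIndex_mul_index hT.1, ← relIndex_mul_index (le_sup_right : _ ≤ zpowers b ⊔ zpowers a)]
    refine fun d => (Nat.prime_two.dvd_mul.1 d).elim hT.3 fun d => (Nat.prime_two.dvd_mul.1 d).elim
      (fun d => hb (d.trans (BS.relIndex_sup_eq (zpowers_le.2 hn) ▸ relIndex_dvd_card _ _))) fun d => h2 ?_
    exact ((Nat.prime_dvd_prime_iff_eq Nat.prime_two hp).1 (Nat.prime_two.dvd_of_dvd_pow (d.trans hi))).symm⟩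
  haveI := Hall.solvable_of_pnil_two (Block.pnil_two_of_isCyclic hT' (isCyclic_of_le hT.1))
  exact Hall.isSolvable_of_mulEquiv (topEquiv (G := G))

/-- Let G be a finite group with a subgroup A of prime-power index. Suppose A has a normal cyclic subgroup B such that A/B is cyclic of order a power of 2. Then G is solvable. -/
theorem result {G : Type*} [Group G] [Finite G] (A : Subgroup G) (p s : ℕ) (hp : p.Prime) (hA : A.index = p ^ s)
    (B : Subgroup A) [B.Normal] (hB : IsCyclic B) (hAB : IsCyclic (A ⧸ B)) (r : ℕ) (hr : Nat.card (A ⧸ B) = 2 ^ r) :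
    Group.IsSolvable G := by
  obtain ⟨a, -, ha⟩ := Hall.exists_le_sup_zpowers_of_isCyclic (L := B) (K := ⊤)
    (by rw [map_top_of_surjective _ (QuotientGroup.mk'_surjective B)]; infer_instance)
  obtain ⟨b, hb⟩ := (Subgroup.isCyclic_iff_exists_zpowers_eq_top B).1 hB
  haveI := Core.solvableRadical_normal G
  haveI := Core.isSolvable_solvableRadical G
  let f := (QuotientGroup.mk' (solvableRadical G)).comp A.subtype
  have e : zpowers (f b) = B.map f := by rw [← hb, MonoidHom.map_zpowers]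
  haveI := aux (Core.solvableRadical_quotient_eq_bot_of_eq _ rfl) (a := f a) (b := f b) (s := s) (r := r) hp
    (e ▸ le_normalizer_map f ⟨a, by simp [normalizer_eq_top], rfl⟩)
    (e ▸ ⟨_, hr ▸ pow_index_mem B a, map_pow _ _ _⟩) (by
      rw [e, ← MonoidHom.map_zpowers, ← Subgroup.map_sup, top_le_iff.1 ha, ← hA, ← map_map, ← MonoidHom.range_eq_map,
        range_subtype]
      exact index_map_dvd _ (QuotientGroup.mk'_surjective _))
  exact Hall.isSolvable_of_normal_quotient (solvableRadical G)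

end Cfsg.Agent.S4245
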