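import Cfsg.Statements.S4250
import Cfsg.Agent.Lib.Layer.Tame
import Cfsg.Agent.Lib.Amalg.Bridge

set_option autoImplicit false
open Cfsg

namespace Cfsg.Agent.S4250

open scoped commutatorElement
open Subgroup Cfsg.Lib.Core Cfsg.Lib.Amalg Cfsg.Lib.BG1 Cfsg.Lib.Layer

/-- Let P be a Sylow p-subgroup of a finite group G. Call an intersection H = P ∩ Q with a Sylow p-subgroup Q tame when N_P(H) and N_Q(H) are Sylow p-subgroups of N_G(H). Then P ∩ G′ is generated by [P, N_G(P)] together with the commutator subgroups [P ∩ Q, ⟨x⟩] for all tame intersections P ∩ Q and all p-elements x of N_G(P ∩ Q). -/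
theorem result {G : Type*} [Group G] [Finite G] (p : ℕ) [Fact p.Prime] (P : Sylow p G) :
    (P : Subgroup G) ⊓ commutator G =
      ⁅(P : Subgroup G), Subgroup.normalizer ((P : Subgroup G) : Set G)⁆ ⊔
        ⨆ (Q : Sylow p G) (_ : (¬ p ∣ ((P : Subgroup G) ⊓ Subgroup.normalizer (((P : Subgroup G) ⊓ (Q : Subgroup G) : Subgroup G) : Set G)).relIndex (Subgroup.normalizer (((P : Subgroup G) ⊓ (Q : Subgroup G) : Subgroup G) : Set G)) ∧ ¬ p ∣ ((Q : Subgroup G) ⊓ Subgroup.normalizer (((P : Subgroup G) ⊓ (Q : Subgroup G) : Subgroup G) : Set G)).relIndex (Subgroup.normalizer (((P : Subgroup G) ⊓ (Q : Subgroup G) : Subgroup G) : Set G))))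
          (x : G) (_ : x ∈ Subgroup.normalizer (((P : Subgroup G) ⊓ (Q : Subgroup G) : Subgroup G) : Set G) ∧ ∃ k : ℕ, orderOf x = p ^ k),
          ⁅(P : Subgroup G) ⊓ (Q : Subgroup G), Subgroup.zpowers x⁆ := by
  refine le_antisymm ?_ (sup_le (le_inf (comm_le_left le_rfl) (commutator_mono le_top le_top))
    (iSup₂_le fun Q _ => iSup₂_le fun x hx => le_inf ((comm_le_left (zpowers_le.2 hx.1)).trans inf_le_left)
      (commutator_mono le_top le_top)))
  rw [inf_comm, commutator_inf_eq_focalSubgroup, ← Lib.Transfer.focalIn_top, Lib.Transfer.focalIn_le_iff]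
  set K := ⁅(P : Subgroup G), 𝐍((P : Subgroup G))⁆ ⊔ _
  refine fun x hx u _ hu => tame_ind (R := fun D g => ∀ x ∈ D, x⁻¹ * (g * x * g⁻¹) ∈ K) P
    (fun D E g h h' x hx => h x (h' hx)) (fun D g h h1 h2 x hx => ?_) (fun D x _ => by simp) (fun Q h1 h2 n hn h x hx => ?_)
    (zpowers x) (zpowers_le.2 hx) u (Lib.Transfer.cj_zpowers_le.2 hu) x (mem_zpowers x)
  · simpa [mul_assoc] using mul_mem (h1 x hx) (h2 _ (conj_mem_cj g hx))
  have e : x⁻¹ * (n * x * n⁻¹) = ⁅x⁻¹, n⁆ := by rw [commutatorElement_def]; group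
  rw [e]
  rcases h with h | h
  · rw [h, inf_idem] at hn hx
    exact mem_sup_left (commutator_mem_commutator (inv_mem hx) hn)
  · exact mem_sup_right (mem_iSup_of_mem Q (mem_iSup_of_mem ⟨h1.not_dvd_relIndex, h2.not_dvd_relIndex⟩ (mem_iSup_of_mem n
      (mem_iSup_of_mem ⟨hn, h⟩ (commutator_mem_commutator (inv_mem hx) (mem_zpowers n))))))

end Cfsg.Agent.S4250
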