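import Cfsg.Statements.S4251
import Cfsg.Agent.Lib.Layer.Tame
import Cfsg.Agent.Lib.Amalg.Bridge

set_option autoImplicit false
open Cfsg

namespace Cfsg.Agent.S4251

open Subgroup Cfsg.Lib.Core Cfsg.Lib.Amalg Cfsg.Lib.BG1 Cfsg.Lib.Layer

/-- Let P be a Sylow p-subgroup of a finite group G. Call an intersection H = P ∩ Q with a Sylow p-subgroup Q tame when N_P(H) and N_Q(H) are Sylow p-subgroups of N_G(H). If N_G(H)/C_G(H) is a p-group for every nontrivial tame intersection H = P ∩ Q, then G has a normal p-complement. -/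
theorem result {G : Type*} [Group G] [Finite G] (p : ℕ) [Fact p.Prime] (P : Sylow p G)
    (h : ∀ Q : Sylow p G, (P : Subgroup G) ⊓ (Q : Subgroup G) ≠ ⊥ → (¬ p ∣ ((P : Subgroup G) ⊓ Subgroup.normalizer (((P : Subgroup G) ⊓ (Q : Subgroup G) : Subgroup G) : Set G)).relIndex (Subgroup.normalizer (((P : Subgroup G) ⊓ (Q : Subgroup G) : Subgroup G) : Set G)) ∧ ¬ p ∣ ((Q : Subgroup G) ⊓ Subgroup.normalizer (((P : Subgroup G) ⊓ (Q : Subgroup G) : Subgroup G) : Set G)).relIndex (Subgroup.normalizer (((P : Subgroup G) ⊓ (Q : Subgroup G) : Subgroup G) : Set G))) →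
      IsPGroup p (Subgroup.normalizer (((P : Subgroup G) ⊓ (Q : Subgroup G) : Subgroup G) : Set G) ⧸
        (Subgroup.centralizer (((P : Subgroup G) ⊓ (Q : Subgroup G) : Subgroup G) : Set G)).subgroupOf
          (Subgroup.normalizer (((P : Subgroup G) ⊓ (Q : Subgroup G) : Subgroup G) : Set G)))) :
    Cfsg.HasNormalPComplement p G := by
  refine Lib.Transfer.hasNormalPComplement_iff_top.2 ((syl_iff_sylowIn.1 (syl_top P)).pnil_of_no_fusion fun x hx u _ hu => ?_)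
  obtain ⟨v, hv, h⟩ := tame_ind (R := fun D g => ∃ v ∈ (P : Subgroup G), v⁻¹ * g ∈ 𝐂(D)) P
    (fun D E g ⟨x, h1, h2⟩ h => ⟨x, h1, cent_anti h h2⟩)
    (fun D g h ⟨x, h1, h2⟩ ⟨y, h3, h4⟩ => ⟨y * x, mul_mem h3 h1, by
      rw [← cj_centralizer, mem_cj] at h4
      have : (y * x)⁻¹ * (h * g) = x⁻¹ * g * (g⁻¹ * (y⁻¹ * h) * g) := by group
      exact this ▸ mul_mem h2 h4⟩) (fun D => ⟨1, one_mem _, by simp⟩) (fun Q h1 h2 n hn _ => by
      by_cases e : (P : Subgroup G) ⊓ Q = ⊥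
      · exact ⟨1, one_mem _, by simp [e, mem_centralizer_iff]⟩
      obtain ⟨a, ha, t, ht, e⟩ := h1.mem_res_mul (inv_mem hn)
      refine ⟨t⁻¹, inv_mem ht.1, ?_⟩
      rw [inv_inv, ← inv_inv n, ← e, mul_inv_rev, mul_inv_cancel_left]
      refine inv_mem (res_le_of_pow_mem (fun y hy => ?_) ha)
      obtain ⟨k, hk⟩ := h Q ‹_› ⟨h1.not_dvd_relIndex, h2.not_dvd_relIndex⟩ (QuotientGroup.mk ⟨y, hy⟩)
      rw [← QuotientGroup.mk_pow, QuotientGroup.eq_one_iff] at hk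
      exact ⟨k, hk⟩)
    (zpowers x) (zpowers_le.2 hx) u (Lib.Transfer.cj_zpowers_le.2 hu)
  refine ⟨v, hv, ?_⟩
  calc _ = v * (x * (v⁻¹ * u)) * u⁻¹ := by group
    _ = _ := by rw [h x (mem_zpowers x)]; group

end Cfsg.Agent.S4251
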