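import Cfsg.Statements.S4261
import Cfsg.Agent.Lib.Hall.Prim
import Cfsg.Agent.Lib.Hall.MaxCent

set_option autoImplicit false
open Cfsg

namespace Cfsg.Agent.S4261

open scoped Pointwise commutatorElement
open Cfsg.Lib Cfsg.Lib.Hall

open Subgroup Cfsg.Lib.Core Cfsg.Lib.Transfer

universe u

theorem aux (n : ℕ) : ∀ (G : Type u) [Group G] [Finite G] [Group.IsSolvable G], Nat.card G = n →
    ∀ M : Subgroup G, IsCoatom M → (∀ x : G, x ^ M.index ∈ M) → M.Normal := by
  induction n using Nat.strong_induction_on with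
  | _ n ih =>
  intro G _ _ _ hn M hM hexp
  by_cases hc : M.normalCore = ⊥
  swap
  · have h1 := ih _ (hn ▸ Hall.card_quotient_lt hc) (G ⧸ M.normalCore) rfl _
      (isCoatom_map_mk' _ hM M.normalCore_le) (fun x => by
        obtain ⟨x, rfl⟩ := QuotientGroup.mk'_surjective _ x
        rw [index_map_mk', sup_eq_left.mpr M.normalCore_le, ← map_pow]
        exact mem_map_of_mem _ (hexp x))
    rw [← sup_eq_right.mpr M.normalCore_le, ← comap_map_mk']
    exact h1.comap _
  haveI : Nontrivial G := by
    by_contra h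
    rw [not_nontrivial_iff_subsingleton] at h
    exact hM.1 (Subsingleton.elim _ _)
  obtain ⟨N, p, hN, hN1, hmin, hab, hp, -, hpg⟩ := exists_minNormal_elementary (G := G)
  haveI := Fact.mk hp
  have hcomp := isComplement'_of_corefree hM hc hN1
  obtain ⟨k, hk⟩ := hpg.exists_card_eq
  have hi : M.index = p ^ k := by rw [hcomp.index_eq_card, hk]
  have h1 : resOf p (⊤ : Subgroup G) ≤ M := resOf_le_of_pow_mem fun x _ => ⟨k, hi ▸ hexp x⟩
  haveI := resOf_normal (p := p) (⊤ : Subgroup G)
  have h2 := eq_bot_of_normal_le_of_normalCore_eq_bot hc h1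
  have h3 : IsPGroup p G := fun x => by
    obtain ⟨j, hj⟩ := exists_pow_mem_resOf (p := p) (mem_top x)
    rw [h2, mem_bot] at hj
    exact ⟨j, hj⟩
  exact normal_of_isCoatom_of_isPGroup h3 hM

/-- Let M be a maximal subgroup of a finite solvable group G such that x^[G : M] lies in M for every x in G. Then M is normal in G. -/
theorem result {G : Type*} [Group G] [Finite G] (hG : Group.IsSolvable G) (M : Subgroup G) (hM : IsCoatom M)
    (hexp : ∀ x : G, x ^ M.index ∈ M) : M.Normal := by
  exact aux _ G rfl M hM hexp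

end Cfsg.Agent.S4261
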