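import Cfsg.Statements.S4262
import Cfsg.Agent.Lib.Hall.MaxCent
import Cfsg.Agent.S3904

set_option autoImplicit false
open Cfsg

namespace Cfsg.Agent.S4262

open scoped Pointwise commutatorElement
open Cfsg.Lib Cfsg.Lib.Hall

/-- Let G be a finite group in which the centralizer of every non-central element is a maximal subgroup of G. Then G is solvable. -/
theorem result {G : Type*} [Group G] [Finite G]
    (h : ∀ g : G, g ∉ Subgroup.center G → IsCoatom (Subgroup.centralizer ({g} : Set G))) :
    Group.IsSolvable G := by
  by_cases hna : IsMulCommutative G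
  · exact Group.isSolvable_of_comm hna.1.1
  haveI : Group.IsSolvable (G ⧸ Subgroup.center G) := by
    rcases Cfsg.Agent.S3904.result hna h with ⟨p, -, h1, -⟩ | ⟨-, h1, p, q, a, hp, hq, hpq, h2, h3⟩
    · exact Group.isSolvable_of_comm (fun a b => congrArg Subtype.val (h1.1.1 ⟨a, trivial⟩ ⟨b, trivial⟩))
    · haveI : Fact p.Prime := ⟨hp⟩
      haveI : Fact q.Prime := ⟨hq⟩
      obtain ⟨P, hP⟩ := Sylow.exists_subgroup_card_pow_prime (G := G ⧸ Subgroup.center G) p (n := a)
        (by rw [h2]; exact dvd_mul_right _ _)
      haveI := h3 P hP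
      haveI := Coprime.isSolvable_of_isPGroup (IsPGroup.of_card hP)
      haveI : Group.IsSolvable ((G ⧸ Subgroup.center G) ⧸ P) := by
        have := P.card_mul_index
        rw [hP, h2] at this
        exact Coprime.isSolvable_of_isPGroup (p := q) (IsPGroup.of_card (n := 1) (by
          rw [pow_one]; exact Nat.eq_of_mul_eq_mul_left (pow_pos hp.pos a) this))
      exact isSolvable_of_normal_quotient P
  haveI := Coprime.isSolvable_of_isMulCommutative (Subgroup.center G)
  exact isSolvable_of_normal_quotient (Subgroup.center G)

end Cfsg.Agent.S4262
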