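import Cfsg.Statements.S4263
import Cfsg.Agent.Lib.Hall.HallThm
import Cfsg.Agent.Lib.Core.Subnormal

set_option autoImplicit false
open Cfsg

namespace Cfsg.Agent.S4263

open scoped Pointwise
open Cfsg.Lib Cfsg.Lib.Hall

theorem pow_relIndex_mem {G : Type*} [Group G] {L K : Subgroup G} (h : Core.SubnormalIn L K)
    {x : G} (hx : x ∈ L) : x ^ K.relIndex L ∈ K := by
  induction h with
  | refl => simpa using hx
  | step H K hHK hn hK ih =>
    rw [← Subgroup.relIndex_mul_relIndex H K L hHK hK.le, mul_comm, pow_mul]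
    haveI := (Subgroup.normal_subgroupOf_iff_le_normalizer hHK).2 hn
    exact (H.subgroupOf K).pow_index_mem ⟨_, ih⟩

/-- Let G be a finite group. An element x lies in the Fitting subgroup F(G) if and only if, for every subgroup H of G, the power x^[G : H] lies in H. -/
theorem result {G : Type*} [Group G] [Finite G] (x : G) :
    x ∈ Cfsg.fittingSubgroup G ↔ ∀ H : Subgroup G, x ^ H.index ∈ H := by
  constructor
  · intro hx H
    haveI := Core.isNilpotent_fitting G
    haveI := Core.fitting_normal G
    have h1 := pow_relIndex_mem (Core.subnormalIn_of_nilpotent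
      (inf_le_right : H ⊓ fittingSubgroup G ≤ _)) hx
    rw [Subgroup.inf_relIndex_right] at h1
    obtain ⟨k, hk⟩ := relIndex_dvd_index_of_normal_right H (fittingSubgroup G)
    rw [hk, pow_mul]
    exact pow_mem h1.1 k
  · intro h
    haveI : Group.IsNilpotent (Subgroup.zpowers x) := Core.isNilpotent_of_isMulCommutative _
    refine (Core.fittingOf_eq_self_iff.2 this).ge.trans
      (Core.fittingOf_le_of_forall_pCoreOf_le fun p hp => ?_) (Subgroup.mem_zpowers x)
    haveI := Fact.mk hp
    refine le_trans ?_ (Core.pCore_le_fitting hp)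
    have h1 := Core.isPGroup_pCoreOf (p := p) (Subgroup.zpowers x)
    have h2 := Core.pCoreOf_le (p := p) (Subgroup.zpowers x)
    generalize (pCore p (Subgroup.zpowers x)).map (Subgroup.zpowers x).subtype = T at h1 h2
    rw [Core.pCore_eq_iInf_sylow]
    refine le_iInf (f := fun P : Sylow p G => (P : Subgroup G)) fun P => ?_
    intro y hy
    obtain ⟨k, hk⟩ := h1 ⟨y, hy⟩
    have hk' : y ^ p ^ k = 1 := congrArg Subtype.val hk
    obtain ⟨j, rfl⟩ := Subgroup.mem_zpowers_iff.1 (h2 hy)
    have hcop : ((P : Subgroup G).index).Coprime (orderOf (x ^ j)) :=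
      Nat.Coprime.coprime_dvd_right (orderOf_dvd_of_pow_eq_one hk')
        (Nat.Coprime.pow_right _ ((Nat.Prime.coprime_iff_not_dvd hp).2 P.not_dvd_index).symm)
    obtain ⟨m, hm⟩ := exists_pow_eq_self_of_coprime hcop
    rw [← hm]
    refine pow_mem ?_ m
    rw [← zpow_natCast, ← zpow_mul, mul_comm, zpow_mul, zpow_natCast]
    exact zpow_mem (h P) j

end Cfsg.Agent.S4263
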