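import Cfsg.Statements.S4264
import Cfsg.Agent.Lib.Block2.KPerm

set_option autoImplicit false
open Cfsg

namespace Cfsg.Agent.S4264

/-- Let G be a subgroup of the symmetric group of degree d ≥ 1. Then G has at most 5^{d−1} conjugacy classes. -/
theorem result (d : ℕ) (hd : 1 ≤ d) (G : Subgroup (Equiv.Perm (Fin d))) : Nat.card (ConjClasses ↥G) ≤ 5 ^ (d - 1) := by
  by_cases h : d ≤ 9
  · have h1 : Nat.card (ConjClasses G) ≤ Nat.card G :=
      Nat.card_le_card_of_surjective _ ConjClasses.mk_surjective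
    have h2 := Subgroup.card_le_card_group G
    rw [Nat.card_perm, Nat.card_fin] at h2
    refine h1.trans (h2.trans ?_)
    interval_cases d <;> decide
  · have h1 := Cfsg.Lib.Block2.KPerm.card_conj_le (G := G) (Ω := Fin d)
    obtain ⟨k, rfl⟩ : ∃ k, d = k + 10 := ⟨d - 10, by omega⟩
    rw [Nat.card_fin, pow_add] at h1
    have h2 : (17 / 4 : ℝ) ^ k ≤ 5 ^ k := pow_le_pow_left₀ (by norm_num) (by norm_num) k
    have h3 : (17 / 4 : ℝ) ^ k * (17 / 4) ^ 10 ≤ 5 ^ k * 5 ^ 9 := mul_le_mul h2 (by norm_num) (by positivity) (by positivity)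
    rw [show k + 10 - 1 = k + 9 from rfl, pow_add]
    exact_mod_cast h1.trans h3

end Cfsg.Agent.S4264
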