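import Cfsg.Statements.S4265
import Cfsg.Agent.Lib.Hall.KRb

set_option autoImplicit false
open Cfsg

namespace Cfsg.Agent.S4265

open scoped Pointwise commutatorElement
open Cfsg.Lib Cfsg.Lib.Hall

/-- Let G be a finite solvable subgroup of GL_r(ℂ), r ≥ 1, with Fitting subgroup F(G) normal in G. Then for every subgroup H of G the quotient H/(H ∩ F(G)) has at most 3^{r−1} conjugacy classes. -/
theorem result (r : ℕ) (hr : 1 ≤ r) (G : Subgroup (GL (Fin r) ℂ)) [Finite ↥G] (hsolv : Group.IsSolvable ↥G) [hF : (Cfsg.fittingSubgroup ↥G).Normal] (H : Subgroup ↥G) : Nat.card (ConjClasses (↥H ⧸ (Cfsg.fittingSubgroup ↥G).subgroupOf H)) ≤ 3 ^ (r - 1) := by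
  let ρ : Representation ℂ G (Fin r → ℂ) :=
    ((Units.coeHom _).comp (Matrix.GeneralLinearGroup.toLin (n := Fin r) (R := ℂ)).toMonoidHom).comp G.subtype
  have h := KR.char_all (Char.isCharacter_character ρ)
  rw [Char.charKer_character, (MonoidHom.ker_eq_bot_iff ρ).2 fun a b e => Subtype.ext
    ((Matrix.GeneralLinearGroup.toLin (n := Fin r) (R := ℂ)).injective (Units.ext e)),
    Clifford.charDegree_of_eq (n := r) (by simp)] at h
  exact (h.fit.sub H).top

end Cfsg.Agent.S4265
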