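import Cfsg.Statements.S4269
import Cfsg.Agent.Lib.Hall.Pron

set_option autoImplicit false
open Cfsg

namespace Cfsg.Agent.S4269

open scoped Pointwise commutatorElement
open Cfsg.Lib Cfsg.Lib.Hall

open Subgroup Cfsg.Lib.Core Cfsg.Lib.Transfer

/-- Let G be a finite group, V an abelian normal subgroup and H a subgroup with HV = G. Then H is pronormal in G (H and gHg⁻¹ are conjugate inside the subgroup they generate, for every g) if and only if every H-invariant subgroup U of V satisfies U = N_U(H)·[H, U], that is, U is the join of U ∩ N_G(H) and the commutator subgroup [H, U]. -/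
theorem result {G : Type*} [Group G] [Finite G]
    (V : Subgroup G) [V.Normal] (hV : IsMulCommutative ↥V) (H : Subgroup G) (hHV : H ⊔ V = ⊤) :
    Cfsg.IsPronormal H ↔
      ∀ U : Subgroup G, U ≤ V → (∀ h ∈ H, U.map (MulAut.conj h).toMonoidHom = U) →
        U = (U ⊓ Subgroup.normalizer (H : Set G)) ⊔ ⁅H, U⁆ := by
  have hc : ∀ a ∈ V, ∀ b ∈ V, a * b = b * a := fun a ha b hb =>
    congrArg Subtype.val (hV.is_comm.comm ⟨a, ha⟩ ⟨b, hb⟩)
  have hUle : ∀ U : Subgroup G, (∀ h ∈ H, U.map (MulAut.conj h).toMonoidHom = U) → ⁅H, U⁆ ≤ U :=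
    fun U hU => commutator_le.mpr (fun h hh u hu => mul_mem
      (Core.conj_mem_of_mem_normalizer (map_conj_eq_iff_mem_normalizer.mp (hU h hh)) hu) (inv_mem hu))
  rw [isPronormal_iff]
  refine ⟨fun h U hUV hU => le_antisymm (fun u hu => ?_) (sup_le inf_le_left (hUle U hU)), fun h g => ?_⟩
  · obtain ⟨x, hx, e⟩ := h u
    have h1 : H ⊔ cj u H ≤ ⁅H, U⁆ ⊔ H := sup_le le_sup_right (cj_le_iff.mpr fun y hy => by
      rw [show u * y * u⁻¹ = y * ⁅y⁻¹, u⁆ by group]
      exact mul_mem (mem_sup_right hy) (mem_sup_left (commutator_mem_commutator (inv_mem hy) hu)))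
    obtain ⟨c, hc, y, hy, rfl⟩ := (mem_sup_of_le_normalizer_left (normalizer_commutator_ge_left H U)).mp
      (h1 hx)
    rw [cj_mul, cj_eq_of_mem hy] at e
    rw [show u = c * (c⁻¹ * u) by group]
    exact mul_mem (mem_sup_right hc) (mem_sup_left (mem_inf.mpr ⟨mul_mem (inv_mem (hUle U hU hc)) hu,
      inv_mul_mem_normalizer e⟩))
  · obtain ⟨v, hv, y, hy, rfl⟩ := mem_sup_of_normal_left.mp (sup_comm H V ▸ hHV ▸ mem_top g)
    refine PrAt.congr (g := v) ?_ (by rw [cj_mul, cj_eq_of_mem hy])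
    have hVc : ∀ a ∈ H, ∀ u ∈ V, ⁅a, u⁆ ∈ V := fun a _ u hu =>
      mul_mem (Normal.conj_mem inferInstance u hu a) (inv_mem hu)
    let U : Subgroup G :=
      { carrier := {u | u ∈ V ∧ ∀ a ∈ H, ⁅a, u⁆ ∈ H ⊔ cj v H}
        one_mem' := ⟨one_mem _, fun a _ => by simp⟩
        mul_mem' := fun {u w} hu hw => ⟨mul_mem hu.1 hw.1, fun a ha => by
          rw [show ⁅a, u * w⁆ = ⁅a, u⁆ * (u * ⁅a, w⁆) * u⁻¹ by group, hc u hu.1 _ (hVc a ha w hw.1),
            mul_assoc, mul_inv_cancel_right]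
          exact mul_mem (hu.2 a ha) (hw.2 a ha)⟩
        inv_mem' := fun {u} hu => ⟨inv_mem hu.1, fun a ha => by
          rw [show ⁅a, u⁻¹⁆ = u⁻¹ * ⁅a, u⁆⁻¹ * u by group,
            hc _ (inv_mem hu.1) _ (inv_mem (hVc a ha u hu.1)), inv_mul_cancel_right]
          exact inv_mem (hu.2 a ha)⟩ }
    have hU := h U (fun u hu => hu.1) (fun k hk => map_conj_eq_iff_mem_normalizer.mpr
      (mem_normalizer_of_conj_mem (fun u hu => ⟨Normal.conj_mem inferInstance u hu.1 k, fun a ha => by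
        rw [show ⁅a, k * u * k⁻¹⁆ = k * ⁅k⁻¹ * a * k, u⁆ * k⁻¹ by group]
        exact mul_mem (mul_mem (mem_sup_left hk) (hu.2 _ (mul_mem (mul_mem (inv_mem hk) ha) hk)))
          (inv_mem (mem_sup_left hk))⟩)))
    have hvU : v ∈ U := ⟨hv, fun a ha => by
      rw [show ⁅a, v⁆ = a * (v * a⁻¹ * v⁻¹) by group]
      exact mul_mem (mem_sup_left ha) (mem_sup_right (conj_mem_cj.mpr (inv_mem ha)))⟩
    rw [hU, sup_comm] at hvU
    obtain ⟨c, hc', n, hn, e⟩ := (mem_sup_of_le_normalizer_left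
      (inf_le_left.trans (normalizer_commutator_ge_right H U))).mp hvU
    refine ⟨c, (commutator_le (H₂ := U)).mpr (fun a ha u hu => hu.2 a ha) hc', ?_⟩
    rw [← e, cj_mul, cj_eq_of_mem_normalizer hn.2]

end Cfsg.Agent.S4269
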