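import Cfsg.Statements.S4271
import Cfsg.Agent.Lib.Hall.Pron

set_option autoImplicit false
open Cfsg

namespace Cfsg.Agent.S4271

open scoped Pointwise commutatorElement
open Cfsg.Lib Cfsg.Lib.Hall

open Subgroup Cfsg.Lib.Core Cfsg.Lib.Transfer

/-- Let p be a prime and G a finite group with a normal subgroup A such that every subgroup of A containing a Sylow p-subgroup of A is pronormal in A, and the Sylow p-subgroups of G/A are self-normalizing. Let T be a Sylow p-subgroup of A. Then every subgroup of G containing a Sylow p-subgroup of G is pronormal in G if and only if every subgroup of N_G(T)/T containing a Sylow p-subgroup of N_G(T)/T is pronormal in N_G(T)/T. (Pronormal: H and gHg⁻¹ are conjugate inside the subgroup they generate, for every g.) -/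
theorem result {G : Type*} [Group G] [Finite G] {p : ℕ} [Fact p.Prime]
    (A : Subgroup G) [A.Normal] (hA : (∀ K : Subgroup ↥A, (∃ P : Sylow p ↥A, (P : Subgroup ↥A) ≤ K) → Cfsg.IsPronormal K))
    (hQ : ∀ P : Sylow p (G ⧸ A), Subgroup.normalizer ((P : Subgroup (G ⧸ A)) : Set (G ⧸ A)) = P)
    (T : Subgroup G) (hT : ∃ P : Sylow p ↥A, (P : Subgroup ↥A).map A.subtype = T) [(T.subgroupOf (Subgroup.normalizer (T : Set G))).Normal] :
    (∀ K : Subgroup G, (∃ P : Sylow p G, (P : Subgroup G) ≤ K) → Cfsg.IsPronormal K) ↔ (∀ K : Subgroup (↥(Subgroup.normalizer (T : Set G)) ⧸ T.subgroupOf (Subgroup.normalizer (T : Set G))), (∃ P : Sylow p (↥(Subgroup.normalizer (T : Set G)) ⧸ T.subgroupOf (Subgroup.normalizer (T : Set G))), (P : Subgroup (↥(Subgroup.normalizer (T : Set G)) ⧸ T.subgroupOf (Subgroup.normalizer (T : Set G)))) ≤ K) → Cfsg.IsPronormal K) := by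
  have hT' := Transfer.sylowIn_iff_exists_sylow.mpr hT
  have h1 : Yp p (G ⧸ A) := fun K ⟨P, hP⟩ => isPronormal_of_normalizer hP (isPronormal_sylow P)
    (fun g hg => ⟨1, one_mem _, by rw [cj_one, cj_eq_of_mem (hP (hQ P ▸ hg))]⟩)
  refine (yp_iff_normalizer hA h1 hT').trans ((and_iff_left (fun K ⟨P, hP⟩ => ?_)).trans
    (yp_quotient_iff _ (Core.isPGroup_subgroupOf hT'.2 _)).symm)
  refine le_antisymm (le_normalizer_map _) (fun g hg => map_mono le_normalizer ?_)
  have h2 : ((P.mapSurjective (QuotientGroup.mk'_surjective A) : Sylow p (G ⧸ A)) : Subgroup (G ⧸ A)) ≤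
      K.map (QuotientGroup.mk' A) := map_mono hP
  obtain ⟨n, hn, m, hm, rfl⟩ := (sylowIn_of_le _ h2).frattini le_rfl hg
  exact mul_mem hn (h2 (hQ _ ▸ hm))

end Cfsg.Agent.S4271
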