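import Cfsg.Statements.S4272
import Cfsg.Agent.Lib.JTW.Cor

set_option autoImplicit false
open Cfsg

namespace Cfsg.Agent.S4272


/-- Let G be a finite non-abelian simple group whose Sylow 2-subgroups are abelian. If G admits no faithful doubly transitive action on a finite set, then G has order 175560 (the order of the first Janko group). -/
theorem result {G : Type*} [Group G] [Finite G] [IsSimpleGroup G] (hG : ¬ IsMulCommutative G) (P : Sylow 2 G) (hP : IsMulCommutative (P : Subgroup G)) (hno : ∀ (Ω : Type) [Fintype Ω] [MulAction G Ω] [FaithfulSMul G Ω], ¬ MulAction.IsMultiplyPretransitive G Ω 2) : Nat.card G = 175560 := by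
  have h0 : ¬ Lib.JTW.TwoT G := fun ⟨Ω, _, _, _, h⟩ => hno Ω h
  rcases Lib.JTW.abel hG (Lib.Amalg.syl_top P) hP with ⟨F, _, _, -, -, ⟨e⟩⟩ | ⟨F, _, _, -, ⟨e⟩⟩ | h | h
  exacts [absurd (Lib.JTW.twoT_psl2 e) h0, absurd (Lib.JTW.twoT_psl2 e) h0, (Lib.JTW.isJ1 h).2, absurd h.twoT h0]

end Cfsg.Agent.S4272
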