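import Cfsg.Statements.S4274
import Cfsg.Agent.Lib.JTW.Eight

set_option autoImplicit false
open Cfsg

namespace Cfsg.Agent.S4274


/-- A finite group of order 175560 = 2³·3·5·7·11·19 is either simple or has a normal Sylow 19-subgroup. -/
theorem result {G : Type*} [Group G] [Finite G] (hG : Nat.card G = 175560) : IsSimpleGroup G ∨ ∀ P : Sylow 19 G, (P : Subgroup G).Normal := by
  have : Fact (Nat.Prime 19) := ⟨by norm_num⟩
  refine (Lib.JTW.nineteen _ G rfl hG.dvd).imp And.left fun h P => ?_
  have h1 : Nat.card P = 19 := by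
    rw [P.card_eq_multiplicity, hG, show 175560 = 19 * 9240 by norm_num, Nat.factorization_mul (by decide) (by decide),
      Finsupp.add_apply, Nat.Prime.factorization_self Fact.out, Nat.factorization_eq_zero_of_not_dvd (by decide)]
    rfl
  refine ⟨fun x hx g => ?_⟩
  rcases (Nat.dvd_prime Fact.out).1 (h1 ▸ Subgroup.orderOf_dvd_natCard _ hx) with e | e
  · rw [orderOf_eq_one_iff.1 e]; simp
  · exact Subgroup.zpowers_le.2 hx (h x _ e (((MulAut.conj g).orderOf_eq x).trans e))

end Cfsg.Agent.S4274
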