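import Cfsg.Statements.S4275
import Cfsg.Agent.Lib.Layer.Misc

set_option autoImplicit false
open Cfsg

namespace Cfsg.Agent.S4275

open Subgroup Cfsg.Lib.Core Cfsg.Lib.Amalg Cfsg.Lib.BG1 Cfsg.Lib.Layer

/-- Let G be a transitive group of permutations of a finite set Ω, let o ∈ Ω, and let α be an automorphism of G. Then α is induced by conjugation by a permutation of Ω normalizing G if and only if the image under α of the stabilizer of o fixes some point of Ω. -/
theorem result {Ω : Type*} [Fintype Ω] (G : Subgroup (Equiv.Perm Ω)) (htr : MulAction.IsPretransitive G Ω) (o : Ω) (α : G ≃* G) : (∃ σ : Equiv.Perm Ω, σ ∈ Subgroup.normalizer (G : Set (Equiv.Perm Ω)) ∧ ∀ g : G, ((α g : G) : Equiv.Perm Ω) = σ * (g : Equiv.Perm Ω) * σ⁻¹) ↔ ∃ ω : Ω, ∀ g ∈ (MulAction.stabilizer G o).map α.toMonoidHom, g • ω = ω := by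
  constructor
  · rintro ⟨σ, -, h⟩
    refine ⟨σ o, ?_⟩
    rintro _ ⟨g, hg, rfl⟩
    have : (g : Equiv.Perm Ω) o = o := hg
    show (α g : Equiv.Perm Ω) (σ o) = σ o
    simp [h, this]
  · rintro ⟨ω, h⟩
    choose t ht using htr.exists_smul_eq o
    have key : ∀ g : G, α (t (g • o)) • ω = α g • ω := fun g => by
      have := h _ (mem_map_of_mem α.toMonoidHom (show g⁻¹ * t (g • o) ∈ MulAction.stabilizer G o by
        rw [MulAction.mem_stabilizer_iff, mul_smul, ht, inv_smul_smul]))
      rwa [map_mul, map_inv, mul_smul, inv_smul_eq_iff] at this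
    have hs : Function.Surjective fun x => α (t x) • ω := fun y => by
      obtain ⟨g, rfl⟩ := htr.exists_smul_eq ω y
      exact ⟨α.symm g • o, by simp only [key, MulEquiv.apply_symm_apply]⟩
    let σ := Equiv.ofBijective _ hs.bijective_of_finite
    have h2 : ∀ g : G, ((α g : G) : Equiv.Perm Ω) = σ * (g : Equiv.Perm Ω) * σ⁻¹ := fun g => by
      rw [eq_mul_inv_iff_mul_eq]
      ext x
      show α g • α (t x) • ω = α (t (g • x)) • ω
      conv_rhs => rw [← ht x, ← mul_smul, key, map_mul, mul_smul]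
    refine ⟨σ, mem_normalizer_fintype fun g hg => ?_, h2⟩
    rw [← h2 ⟨g, hg⟩]; exact (α _).2

end Cfsg.Agent.S4275
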