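import Cfsg.Statements.S4276
import Cfsg.Agent.Lib.Layer.Misc
import Cfsg.Agent.S4275

set_option autoImplicit false
open Cfsg

namespace Cfsg.Agent.S4276

open Subgroup Cfsg.Lib.Core Cfsg.Lib.Amalg Cfsg.Lib.BG1 Cfsg.Lib.Layer
open Matrix MulAction

theorem arith {n k N l a b : ℤ} {r : ℕ} (hn : 2 ≤ n) (hk : 1 ≤ k) (hkn : k ≤ n) (hc : IsCoprime k n) (hl : 0 ≤ l)
    (h1 : N + l = k) (h2 : k ^ 2 = N + l * n) (h3 : k ^ (2 * r + 1) = a + b * n) (h4 : a ^ 2 = N ^ (2 * r + 1)) :
    k = 1 ∨ k = n - 1 := by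
  have hN : IsCoprime N n := by
    have := (hc.pow_left (m := 2))
    rw [h2] at this
    exact this.of_add_mul_right_left
  have hN0 : N ≠ 0 := by
    rintro rfl
    have := Int.isUnit_iff.1 (isCoprime_zero_left.1 hN)
    omega
  have hkn' : k ≠ n := by
    rintro rfl
    have := Int.isUnit_iff.1 (isCoprime_self.1 hc)
    omega
  obtain ⟨s, rfl⟩ : N ^ r ∣ a := (Int.pow_dvd_pow_iff two_ne_zero).1 ⟨N, by rw [h4]; ring⟩
  have h5 : s ^ 2 = N := mul_left_cancel₀ (pow_ne_zero (2 * r) hN0) (by rw [← pow_succ, ← h4]; ring)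
  have h6 : n ∣ N ^ r * (k - s) := by
    have h7 : n ∣ (k ^ 2) ^ r - N ^ r := Dvd.dvd.trans ⟨l, by rw [h2]; ring⟩ (sub_dvd_pow_sub_pow _ _ r)
    have : N ^ r * (k - s) = b * n - ((k ^ 2) ^ r - N ^ r) * k := by
      rw [← pow_mul]; linear_combination h3
    rw [this]
    exact dvd_sub (dvd_mul_left _ _) (h7.mul_right _)
  obtain ⟨c, hc'⟩ := (hN.symm.pow_right).dvd_of_dvd_mul_left h6
  have h8 : s ≤ k := by nlinarith
  have h9 : -s ≤ k := by nlinarith
  have h10 : c = 0 ∨ c = 1 := by
    have : 0 ≤ c := by by_contra h; nlinarith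
    have : c < 2 := by
      by_contra h
      have : n * 2 ≤ n * c := mul_le_mul_of_nonneg_left (by omega) (by omega)
      omega
    omega
  rcases h10 with rfl | rfl
  · left
    obtain rfl : k = s := by linarith
    nlinarith
  · right
    obtain rfl : k = n + s := by linarith
    have hs : s < 0 := by omega
    have h11 : s * (n + s + s * (n - 1)) = 0 := by
      have : l = n + s - s ^ 2 := by linarith
      rw [← h5, this] at h2
      linear_combination h2
    have h12 := (mul_eq_zero.1 h11).resolve_left hs.ne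
    have : s = -1 := by nlinarith
    omega

theorem inv_mat {G Ω : Type*} [Group G] [MulAction G Ω] [Fintype Ω] [DecidableEq Ω] [Nontrivial Ω]
    (h2 : IsMultiplyPretransitive G Ω 2) (M : Matrix Ω Ω ℤ) (h : ∀ (g : G) x y, M (g • x) (g • y) = M x y) :
    ∃ a b : ℤ, ∀ x y, M x y = (if x = y then a else 0) + b := by
  obtain ⟨x0, y0, h0⟩ := exists_pair_ne Ω
  haveI := isPretransitive_of_is_two_pretransitive (h2 := h2)
  refine ⟨M x0 x0 - M x0 y0, M x0 y0, fun x y => ?_⟩
  split_ifs with e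
  · obtain ⟨g, rfl⟩ := exists_smul_eq G x0 x
    rw [← e, h]; ring
  · obtain ⟨g, rfl, rfl⟩ := is_two_pretransitive_iff.1 h2 h0 e
    rw [h, zero_add]

theorem mulVec_of {Ω : Type*} [Fintype Ω] [DecidableEq Ω] {M : Matrix Ω Ω ℤ} {a b : ℤ}
    (h : ∀ x y, M x y = (if x = y then a else 0) + b) (v : Ω → ℤ) :
    M *ᵥ v = fun x => a * v x + b * ∑ y, v y := by
  ext x
  simp only [mulVec, dotProduct, h, add_mul, Finset.sum_add_distrib, ite_mul, zero_mul, Finset.sum_ite_eq,
    Finset.mem_univ, if_true, Finset.mul_sum]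

theorem core {G Ω : Type*} [Group G] [Finite G] [MulAction G Ω] [Fintype Ω] [Nontrivial Ω]
    (h2 : IsMultiplyPretransitive G Ω 2) (o : Ω) (α : MulAut G) (hα : Odd (orderOf α)) (ω : Ω)
    (hk : (Nat.card (orbit ((stabilizer G o).map α.toMonoidHom) ω)).Coprime (Fintype.card Ω)) :
    Nat.card (orbit ((stabilizer G o).map α.toMonoidHom) ω) = 1 ∨
      Nat.card (orbit ((stabilizer G o).map α.toMonoidHom) ω) = Fintype.card Ω - 1 := by
  classical
  haveI := isPretransitive_of_is_two_pretransitive (h2 := h2)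
  set D := orbit ((stabilizer G o).map α.toMonoidHom) ω with hD
  set k := Nat.card D with hk'
  choose t ht using exists_smul_eq G o
  let A : Matrix Ω Ω ℤ := Matrix.of fun x y => if (α (t x))⁻¹ • y ∈ D then 1 else 0
  have hA : ∀ (g : G) x y, A (g • x) (α g • y) = A x y := fun g x y => by
    have h1 : α ((t (g • x))⁻¹ * g * t x) ∈ (stabilizer G o).map α.toMonoidHom :=
      mem_map_of_mem α.toMonoidHom (by rw [mem_stabilizer_iff, mul_smul, mul_smul, ht, inv_smul_eq_iff, ht])
    have h3 : (α (t (g • x)))⁻¹ • α g • y = (⟨_, h1⟩ : (stabilizer G o).map α.toMonoidHom) • (α (t x))⁻¹ • y := by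
      rw [Subgroup.mk_smul]
      simp [mul_smul]
    have h4 : ∀ (c : (stabilizer G o).map α.toMonoidHom) (z : Ω), c • z ∈ D ↔ z ∈ D := fun c z =>
      ⟨fun h => by simpa only [inv_smul_smul] using mem_orbit_of_mem_orbit c⁻¹ h, fun h => mem_orbit_of_mem_orbit c h⟩
    simp only [A, Matrix.of_apply, h3, h4]
  have hP : ∀ (j : ℕ) (g : G) x y, (A ^ j) (g • x) ((α ^ j) g • y) = (A ^ j) x y := by
    intro j
    induction j with
    | zero => intro g x y; simp [Matrix.one_apply]
    | succ j ih =>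
      intro g x y
      rw [pow_succ, pow_succ', Matrix.mul_apply, Matrix.mul_apply, ← Equiv.sum_comp (MulAction.toPerm ((α ^ j) g))]
      exact Finset.sum_congr rfl fun z _ => by rw [MulAction.toPerm_apply, ih, MulAut.mul_apply, hA]
  have hrow : ∀ x, ∑ y, A x y = k := fun x => by
    rw [← Equiv.sum_comp (MulAction.toPerm (α (t x)))]
    simp [A, hk', Fintype.card_subtype]
  have hcol : ∀ y, ∑ x, A x y = k := by
    have h1 : ∀ y, ∑ x, A x y = ∑ x, A x o := fun y => by
      obtain ⟨g, rfl⟩ := exists_smul_eq G o y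
      rw [← Equiv.sum_comp (MulAction.toPerm (α.symm g))]
      exact Finset.sum_congr rfl fun z _ => by
        rw [MulAction.toPerm_apply, ← hA (α.symm g) z o, MulEquiv.apply_symm_apply]
    have h3 : ∑ y, ∑ x, A x y = ∑ x, ∑ y, A x y := Finset.sum_comm
    simp only [h1, hrow, Finset.sum_const, nsmul_eq_mul] at h3
    intro y
    rw [h1]
    exact mul_left_cancel₀ (by simp) h3
  obtain ⟨N, l, h3⟩ := inv_mat h2 (A * Aᵀ) fun g x y => by
    rw [Matrix.mul_apply, Matrix.mul_apply, ← Equiv.sum_comp (MulAction.toPerm (α g))]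
    exact Finset.sum_congr rfl fun z _ => by simp only [MulAction.toPerm_apply, transpose_apply, hA]
  obtain ⟨a, b, h4⟩ := inv_mat h2 (A ^ orderOf α) fun g x y => by
    have := hP (orderOf α) g x y
    rwa [pow_orderOf_eq_one] at this
  obtain ⟨r, hr⟩ := hα
  rw [hr] at h4
  obtain ⟨x0, y0, h0⟩ := exists_pair_ne Ω
  have one : ∀ j : ℕ, (A ^ j) *ᵥ (fun _ => 1) = fun _ => (k : ℤ) ^ j := by
    intro j
    induction j with
    | zero => simp
    | succ j ih =>
      rw [pow_succ', ← mulVec_mulVec, ih]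
      ext x
      simp only [mulVec, dotProduct, ← Finset.sum_mul, hrow, pow_succ']
  have zero : ∀ (j : ℕ) (v : Ω → ℤ), ∑ x, v x = 0 → (A ^ j * (A ^ j)ᵀ) *ᵥ v = (N ^ j) • v := by
    intro j
    induction j with
    | zero => simp
    | succ j ih =>
      intro v hv
      have h5 : ∑ x, (Aᵀ *ᵥ v) x = 0 := by
        simp only [mulVec, dotProduct, transpose_apply]
        rw [Finset.sum_comm]
        simp only [← Finset.sum_mul, hrow, ← Finset.mul_sum, hv, mul_zero]
      rw [pow_succ', transpose_mul, ← mulVec_mulVec, ← mulVec_mulVec, ← mulVec_mulVec, mulVec_mulVec _ (A ^ j), ih _ h5,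
        mulVec_smul, mulVec_mulVec, mulVec_of h3]
      ext x
      simp only [hv, Pi.smul_apply, smul_eq_mul]; ring
  have e1 : N + l = k := by
    have := h3 x0 x0
    rw [if_pos rfl, Matrix.mul_apply] at this
    rw [← this, ← hrow x0]
    exact Finset.sum_congr rfl fun z _ => by simp only [A, transpose_apply, Matrix.of_apply]; split_ifs <;> rfl
  have e2 : 0 ≤ l := by
    have := h3 x0 y0
    rw [if_neg h0, zero_add, Matrix.mul_apply] at this
    rw [← this]
    exact Finset.sum_nonneg fun z _ => by simp only [A, transpose_apply, Matrix.of_apply]; split_ifs <;> norm_num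
  have e3 : (k : ℤ) ^ 2 = N + l * Fintype.card Ω := by
    have h5 := congrFun (mulVec_of h3 fun _ => 1) x0
    rw [← mulVec_mulVec] at h5
    simp only [mulVec, dotProduct, transpose_apply, mul_one, hcol, ← Finset.sum_mul, hrow] at h5
    simpa [sq] using h5
  have e4 : (k : ℤ) ^ (2 * r + 1) = a + b * Fintype.card Ω := by
    have h5 := congrFun (mulVec_of h4 fun _ => 1) x0
    rw [one] at h5
    simpa using h5
  have e5 : a ^ 2 = N ^ (2 * r + 1) := by
    let v : Ω → ℤ := Pi.single x0 1 - Pi.single y0 1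
    have hv : ∑ x, v x = 0 := by simp [v, Finset.sum_sub_distrib]
    have h5 := congrFun (zero (2 * r + 1) v hv) x0
    have h6 : ∀ x y, (A ^ (2 * r + 1))ᵀ x y = (if x = y then a else 0) + b := fun x y => by
      rw [transpose_apply, h4]; simp only [eq_comm]
    rw [← mulVec_mulVec, mulVec_of h6, mulVec_of h4] at h5
    simp only [hv, mul_zero, add_zero, ← Finset.mul_sum] at h5
    simpa [v, h0, sq] using h5
  have hle : k ≤ Fintype.card Ω := by
    rw [← Nat.card_eq_fintype_card]; exact Nat.card_le_card_of_injective _ Subtype.val_injective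
  have hpos : 0 < k := Nat.card_pos_iff.2 ⟨⟨⟨ω, mem_orbit_self ω⟩⟩, inferInstance⟩
  have h1 := Fintype.one_lt_card (α := Ω)
  have := arith (by exact_mod_cast h1) (by exact_mod_cast hpos) (by exact_mod_cast hle)
    (Nat.isCoprime_iff_coprime.2 hk) e2 e1 e3 e4 e5
  omega


/-- Let G be a doubly transitive group of permutations of a finite set Ω of size n, let o ∈ Ω, and let α be an automorphism of G of odd order. Suppose that the image under α of the stabilizer of o has an orbit on Ω whose length k is coprime to n. Then α is induced by conjugation by a permutation of Ω normalizing G, and k = 1 or k = n − 1. -/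
theorem result {Ω : Type*} [Fintype Ω] (G : Subgroup (Equiv.Perm Ω)) (h2 : MulAction.IsMultiplyPretransitive G Ω 2) (o : Ω) (α : MulAut G) (hα : Odd (orderOf α)) (ω : Ω) (hk : (Nat.card (MulAction.orbit ((MulAction.stabilizer G o).map α.toMonoidHom) ω)).Coprime (Fintype.card Ω)) : (∃ σ : Equiv.Perm Ω, σ ∈ Subgroup.normalizer (G : Set (Equiv.Perm Ω)) ∧ ∀ g : G, ((α g : G) : Equiv.Perm Ω) = σ * (g : Equiv.Perm Ω) * σ⁻¹) ∧ (Nat.card (MulAction.orbit ((MulAction.stabilizer G o).map α.toMonoidHom) ω) = 1 ∨ Nat.card (MulAction.orbit ((MulAction.stabilizer G o).map α.toMonoidHom) ω) = Fintype.card Ω - 1) := by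
  classical
  haveI := isPretransitive_of_is_two_pretransitive (h2 := h2)
  set D := orbit ((stabilizer G o).map α.toMonoidHom) ω with hD
  have h : Nat.card D = 1 ∨ (Nontrivial Ω ∧ Nat.card D = Fintype.card Ω - 1) := by
    rcases subsingleton_or_nontrivial Ω with h | h
    · exact .inl (Nat.card_eq_one_iff_unique.2 ⟨inferInstance, ⟨⟨ω, mem_orbit_self ω⟩⟩⟩)
    · exact (core h2 o α hα ω hk).imp_right fun e => ⟨h, e⟩
  refine ⟨(S4275.result G this o α).2 ?_, h.imp_right (·.2)⟩
  rcases h with h | ⟨_, h⟩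
  · have h1 := (Nat.card_eq_one_iff_unique.1 h).1
    exact ⟨ω, fun g hg => congrArg Subtype.val (h1.elim ⟨g • ω, ⟨g, hg⟩, rfl⟩ ⟨ω, mem_orbit_self ω⟩)⟩
  · have h1 : (Dᶜ).ncard = 1 := by
      have h3 := Set.ncard_add_ncard_compl D
      have h4 := Fintype.one_lt_card (α := Ω)
      rw [← Nat.card_coe_set_eq, h, Nat.card_eq_fintype_card] at h3
      omega
    obtain ⟨z, hz⟩ := Set.ncard_eq_one.1 h1
    refine ⟨z, fun g hg => ?_⟩
    have h3 : g • z ∈ Dᶜ := fun h4 => (hz.ge rfl : z ∈ Dᶜ) (by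
      have := mem_orbit_of_mem_orbit (⟨g, hg⟩ : (stabilizer G o).map α.toMonoidHom)⁻¹ h4
      rwa [← Subgroup.mk_smul g hg, inv_smul_smul] at this)
    rwa [hz] at h3

end Cfsg.Agent.S4276
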