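import Cfsg.Statements.S4277
import Mathlib

set_option autoImplicit false
open Cfsg

namespace Cfsg.Agent.S4277

open Finset Polynomial MulAction
open scoped IsMulCommutative Pointwise

theorem comm_of_fix {G X : Type*} [Group G] [Finite G] [MulAction G X] [FaithfulSMul G X] [IsPretransitive G X]
    {p : ℕ} (hp : p.Prime) (hX : Nat.card X = p) (hG : ¬ p * p ∣ Nat.card G) {x : G} (hx : orderOf x = p)
    {α β : MulAut G} (hα : α x = x) (hβ : β x = x) : α * β = β * α := by
  classical
  have := Fact.mk hp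
  have : Finite X := Nat.finite_of_card_ne_zero (hX ▸ hp.ne_zero)
  have := Fintype.ofFinite X
  obtain ⟨o⟩ : Nonempty X := (Nat.card_pos_iff.1 (hX ▸ hp.pos)).1
  have h0 : ∀ y : X, ¬ p ∣ Nat.card (stabilizer G y) := fun y h => hG (by
    rw [← (stabilizer G y).index_mul_card, index_stabilizer_of_transitive, hX]
    exact Nat.mul_dvd_mul_left p h)
  have h1 : ∀ y : X, Set.InjOn (fun i => x ^ i • y) (range p) := fun y i hi j hj e => by
    refine pow_injOn_Iio_orderOf (x := x) (hx ▸ mem_range.1 hi) (hx ▸ mem_range.1 hj) (by_contra fun h => h0 y ?_)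
    have h2 := (stabilizer G y).orderOf_dvd_natCard (x := (x ^ j)⁻¹ * x ^ i) (by rw [mem_stabilizer_iff, mul_smul, inv_smul_eq_iff]; exact e)
    have h3 : orderOf ((x ^ j)⁻¹ * x ^ i) ∣ p := hx ▸ orderOf_dvd_of_mem_zpowers
      (mul_mem (inv_mem (Subgroup.npow_mem_zpowers _ _)) (Subgroup.npow_mem_zpowers _ _))
    rwa [((Nat.dvd_prime hp).1 h3).resolve_left fun e => h (inv_mul_eq_one.1 (orderOf_eq_one_iff.1 e)).symm] at h2
  have h2 : ∀ y z : X, ∃ i < p, x ^ i • y = z := fun y z => by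
    obtain ⟨i, a, b⟩ := mem_image.1 ((eq_univ_of_card _ (by
      rw [card_image_of_injOn (h1 y), card_range, ← hX, Nat.card_eq_fintype_card])).ge (mem_univ z))
    exact ⟨i, mem_range.1 a, b⟩
  let ρ := Representation.ofMulAction (ZMod p) G X
  have key : ∀ α : MulAut G, α x = x → ∃ f : (ZMod p)[X], IsUnit (aeval (ρ x) f) ∧
      ∀ g, ρ (α g) * aeval (ρ x) f = aeval (ρ x) f * ρ g := fun α hα => by
    let S := (range p).filter fun i => ∃ h ∈ stabilizer G o, x ^ i • o = α h • o
    have h3 : ∀ y z, z ∈ S.image (fun i => x ^ i • y) ↔ ∃ g, g • o = y ∧ α g • o = z := fun y z => by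
      obtain ⟨t, -, rfl⟩ := h2 o y
      simp only [S, mem_image, mem_filter, mem_range, mem_stabilizer_iff]
      constructor
      · rintro ⟨i, ⟨-, h, h4, h5⟩, rfl⟩
        exact ⟨x ^ t * h, by rw [mul_smul, h4], by rw [map_mul, map_pow, hα, mul_smul, ← h5, smul_smul, smul_smul, pow_mul_comm]⟩
      · rintro ⟨g, h4, rfl⟩
        obtain ⟨i, hi, h5⟩ := h2 o (α ((x ^ t)⁻¹ * g) • o)
        refine ⟨i, ⟨hi, _, by rw [mul_smul, h4, inv_smul_smul], h5⟩, ?_⟩
        rw [smul_smul, pow_mul_comm, mul_smul, h5, map_mul, map_inv, map_pow, hα, mul_smul, smul_inv_smul]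
    have h4 : ∀ y, Set.InjOn (fun i => x ^ i • y) S := fun y => (h1 y).mono (coe_subset.2 (filter_subset _ _))
    refine ⟨∑ i ∈ S, Polynomial.X ^ i, (isUnit_pow_iff hp.ne_zero).1 ?_, fun g => ?_⟩
    · have h5 : (#S : ZMod p) ≠ 0 := by
        rw [Ne, ZMod.natCast_eq_zero_iff]
        refine fun h => h0 o (h.trans ?_)
        rw [← card_image_of_injOn (h4 o), ← Subgroup.card_map_of_injective (f := α.toMonoidHom) α.injective, ← Set.ncard_coe_finset,
          show (S.image (fun i => x ^ i • o) : Set X) = orbit ((stabilizer G o).map α.toMonoidHom) o from Set.ext fun z =>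
            (h3 o z).trans ⟨fun ⟨g, a, b⟩ => ⟨⟨_, g, a, rfl⟩, b⟩, fun ⟨⟨_, g, a, rfl⟩, b⟩ => ⟨g, a, b⟩⟩, ← index_stabilizer]
        exact Subgroup.index_dvd_card _
      rw [← map_pow, sum_pow_char, map_sum, sum_congr rfl fun i _ => show aeval (ρ x) ((Polynomial.X ^ i) ^ p : (ZMod p)[X]) = 1 by
        rw [← pow_mul, mul_comm, pow_mul, map_pow, map_pow, aeval_X, ← map_pow, show x ^ p = 1 from hx ▸ pow_orderOf_eq_one x, map_one, one_pow],
        sum_const, nsmul_eq_mul, mul_one, ← map_natCast (algebraMap (ZMod p) _)]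
      exact h5.isUnit.map _
    · refine MonoidAlgebra.lhom_ext' fun y => LinearMap.ext_ring ?_
      simp only [map_sum, map_pow (aeval (ρ x))]
      simp only [aeval_X, ← map_pow ρ, mul_sum, sum_mul, ← map_mul ρ]
      simp only [LinearMap.comp_apply, LinearMap.sum_apply,
        MonoidAlgebra.lsingle_apply, ρ, Representation.ofMulAction_single, mul_smul]
      rw [← sum_image (f := fun z => MonoidAlgebra.single (α g • z) (1 : ZMod p)) (h4 y),
        ← sum_image (f := fun z => MonoidAlgebra.single z (1 : ZMod p)) (h4 (g • y))]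
      refine sum_equiv (toPerm (α g)) (fun z => ?_) fun _ _ => rfl
      rw [h3, h3]
      exact ⟨fun ⟨k, a, b⟩ => ⟨g * k, by rw [mul_smul, a], by rw [map_mul, mul_smul, b]; rfl⟩, fun ⟨k, a, b⟩ =>
        ⟨g⁻¹ * k, by rw [mul_smul, a, inv_smul_smul], by rw [map_mul, map_inv, mul_smul, b]; exact inv_smul_smul _ _⟩⟩
  obtain ⟨f, f1, f2⟩ := key α hα
  obtain ⟨k, k1, k2⟩ := key β hβ
  ext g
  have h5 : ρ (α (β g)) = ρ (β (α g)) := (f1.mul k1).mul_right_cancel (by
    rw [← mul_assoc, f2, mul_assoc, k2, ← mul_assoc, ← map_mul (aeval _), mul_comm f, map_mul (aeval _), ← mul_assoc, k2, mul_assoc,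
      mul_assoc, f2])
  refine eq_of_smul_eq_smul fun y : X => ?_
  simpa [ρ, MonoidAlgebra.single_left_inj] using LinearMap.congr_fun h5 (MonoidAlgebra.single y 1)


/-- A case of the Schreier conjecture: if a finite simple group G has a subgroup of prime index, then the outer automorphism group of G is solvable. -/
theorem result {G : Type*} [Group G] [Finite G] [IsSimpleGroup G] (H : Subgroup G) (hH : H.index.Prime) : Group.IsSolvable (Cfsg.Out G) := by
  classical
  by_cases hc : IsMulCommutative G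
  · have := isCyclic_of_prime_card (hp := ⟨IsSimpleGroup.prime_card⟩) (rfl : Nat.card G = _)
    have : Group.IsSolvable (MulAut G) := Group.isSolvable_of_comm fun a b => (IsCyclic.mulAutMulEquiv G).injective (by
      simp [mul_comm])
    infer_instance
  have := Fact.mk hH
  have h0 : H.normalCore = ⊥ := (IsSimpleGroup.eq_bot_or_eq_top_of_normal _ inferInstance).resolve_right fun h => hH.ne_one
    (Subgroup.index_eq_one.2 (top_le_iff.1 (h ▸ H.normalCore_le)))
  have h1 : Function.Injective (toPermHom G (G ⧸ H)) := by rw [← MonoidHom.ker_eq_bot_iff, ← H.normalCore_eq_ker, h0]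
  have : FaithfulSMul G (G ⧸ H) := ⟨fun h => h1 (Equiv.ext h)⟩
  have h2 : ¬ H.index * H.index ∣ Nat.card G := fun h => by
    have := h.trans (Subgroup.card_dvd_of_injective _ h1)
    rw [Nat.card_perm, ← H.index_eq_card, ← Nat.mul_factorial_pred hH.ne_zero, Nat.mul_dvd_mul_iff_left hH.pos,
      hH.dvd_factorial] at this
    have := hH.pos
    omega
  obtain ⟨x, hx⟩ := exists_prime_orderOf_dvd_card' (G := G) H.index H.index_dvd_card
  have h3 : ∀ y : G, orderOf y = H.index → Nat.card (Subgroup.zpowers y) = H.index ^ (Nat.card G).factorization H.index :=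
    fun y hy => by
    rw [Nat.card_zpowers, hy, show (Nat.card G).factorization H.index = 1 from le_antisymm (by_contra fun h => h2 (by
      rw [← sq]; exact (hH.pow_dvd_iff_le_factorization Nat.card_pos.ne').2 (by omega)))
      ((hH.dvd_iff_one_le_factorization Nat.card_pos.ne').1 H.index_dvd_card), pow_one]
  let N := stabilizer (MulAut G) (Subgroup.zpowers x)
  have h4 : ∀ α : N, ∃ k : ℤ, x ^ k = α.1 x := fun α =>
    (mem_stabilizer_iff.1 α.2).le (Subgroup.smul_mem_pointwise_smul _ _ _ (Subgroup.mem_zpowers x))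
  have h5 : commutator N ≤ (stabilizer (MulAut G) x).subgroupOf N := Subgroup.commutator_le.2 fun α _ β _ => by
    obtain ⟨a, ha⟩ := h4 α⁻¹
    obtain ⟨b, hb⟩ := h4 β⁻¹
    change (α.1 * β.1 * α.1⁻¹ * β.1⁻¹) • x = x
    rw [mul_smul, mul_smul, mul_smul, ← eq_inv_smul_iff, ← eq_inv_smul_iff]
    change α⁻¹.1 (β⁻¹.1 x) = β⁻¹.1 (α⁻¹.1 x)
    rw [← ha, ← hb, map_zpow, map_zpow, ← ha, ← hb, zpow_comm]
  have : Group.IsSolvable N := ⟨⟨2, eq_bot_iff.2 ((Subgroup.commutator_mono h5 h5).trans (Subgroup.commutator_le.2 fun α a β b =>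
    commutatorElement_eq_one_iff_mul_comm.2 (Subtype.ext (comm_of_fix (X := G ⧸ H) hH rfl h2 hx a b))))⟩⟩
  refine Group.isSolvable_of_surjective (f := (QuotientGroup.mk' _).comp N.subtype) fun a => ?_
  obtain ⟨α, rfl⟩ := QuotientGroup.mk'_surjective _ a
  obtain ⟨g, hg⟩ := exists_smul_eq G (Sylow.ofCard _ (h3 (α x) ((α.orderOf_eq x).trans hx))) (Sylow.ofCard _ (h3 x hx))
  refine ⟨⟨MulAut.conj g * α, ?_⟩, ?_⟩
  · rw [mem_stabilizer_iff, mul_smul]
    refine Eq.trans ?_ (congrArg Sylow.toSubgroup hg)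
    exact congrArg _ (MonoidHom.map_zpowers _ _)
  · change QuotientGroup.mk' _ (MulAut.conj g * α) = _
    rw [map_mul, (QuotientGroup.eq_one_iff (N := Inn G) _).2 ⟨g, rfl⟩ |> (show QuotientGroup.mk' (Inn G) _ = 1 from ·), one_mul]

end Cfsg.Agent.S4277
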