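import Cfsg.Statements.S4280
import Cfsg.Agent.Lib.Chev.InvOdd

set_option autoImplicit false
open Cfsg Cfsg.Lie Cfsg.Lib.Chev Cfsg.Lib.Twist

namespace Cfsg.Agent.S4280

/-- In the Chevalley group of type F₄ over a finite field of odd order q there are exactly two conjugacy classes of involutions; the centralizer of an involution in one class has order q¹⁶(q² − 1)(q⁴ − 1)(q⁶ − 1)(q⁸ − 1), and in the other class q¹⁰(q² − 1)²(q⁴ − 1)(q⁶ − 1). -/
theorem result {F : Type*} [Field F] [Fintype F] (hF : Odd (Fintype.card F)) : ∃ s t : ↥(Cfsg.Lie.chevF4.group F), orderOf s = 2 ∧ orderOf t = 2 ∧ ¬ IsConj s t ∧ (∀ u : ↥(Cfsg.Lie.chevF4.group F), orderOf u = 2 → IsConj u s ∨ IsConj u t) ∧ Nat.card (Subgroup.centralizer ({s} : Set ↥(Cfsg.Lie.chevF4.group F))) = Fintype.card F ^ 16 * (Fintype.card F ^ 2 - 1) * (Fintype.card F ^ 4 - 1) * (Fintype.card F ^ 6 - 1) * (Fintype.card F ^ 8 - 1) ∧ Nat.card (Subgroup.centralizer ({t} : Set ↥(Cfsg.Lie.chevF4.group F))) = Fintype.card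 F ^ 10 * (Fintype.card F ^ 2 - 1) ^ 2 * (Fintype.card F ^ 4 - 1) * (Fintype.card F ^ 6 - 1) := by
  have h0 := fun k => one_le_pow_card (F := F) k
  have h1 := h0 1
  have c1 := (card_cent_tor rootOK_F4 chkCW_F4 (b := 1) (N := 16) two_pos chainF4_1 (by decide +kernel) (by decide +kernel)
    (rootOK_F4.compat.gst matOK_F4) (rootOK_F4.compat.gmult matOK_F4) (rootOK_F4.compat.gsep matOK_F4) (rootOK_F4.compat.gopp matOK_F4)
    (rootOK_F4.compat.ggen matOK_F4) (rootOK_F4.compat.gsc matOK_F4 (by simp) F) (prim_neg_one hF)).2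
  have c2 := (card_cent_tor rootOK_F4 chkCW_F4 (b := 4) (N := 10) two_pos chainF4_4 (by decide +kernel) (by decide +kernel)
    (rootOK_F4.compat.gst matOK_F4) (rootOK_F4.compat.gmult matOK_F4) (rootOK_F4.compat.gsep matOK_F4) (rootOK_F4.compat.gopp matOK_F4)
    (rootOK_F4.compat.ggen matOK_F4) (rootOK_F4.compat.gsc matOK_F4 (by simp) F) (prim_neg_one hF)).2
  rw [Nat.card_eq_fintype_card (α := F)] at c1 c2
  simp only [Nat.card_eq_fintype_card, pow_one] at h0 h1
  replace c1 := c1.trans (show _ = Fintype.card F ^ 16 * (Fintype.card F ^ 2 - 1) * (Fintype.card F ^ 4 - 1) * (Fintype.card F ^ 6 - 1) * (Fintype.card F ^ 8 - 1) by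
    simp only [gsF4_1, horner, List.map, List.foldr, List.prod_cons, List.prod_nil, show chevF4.rank = 4 from rfl]
    zify [h0, h1]; ring)
  replace c2 := c2.trans (show _ = Fintype.card F ^ 10 * (Fintype.card F ^ 2 - 1) ^ 2 * (Fintype.card F ^ 4 - 1) * (Fintype.card F ^ 6 - 1) by
    simp only [gsF4_4, horner, List.map, List.foldr, List.prod_cons, List.prod_nil, show chevF4.rank = 4 from rfl]
    zify [h0, h1]; ring)
  refine ⟨rootOK_F4.compat.inv2 matOK_F4 F 1, rootOK_F4.compat.inv2 matOK_F4 F 4,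
    rootOK_F4.compat.orderOf_inv2 matOK_F4 (by simp) hF (i := ⟨0, by decide⟩) rfl,
    rootOK_F4.compat.orderOf_inv2 matOK_F4 (by simp) hF (i := ⟨2, by decide⟩) rfl, fun h => ?_, fun u hu => ?_, c1, c2⟩
  · have := c1.symm.trans ((card_cent_conj h).trans c2)
    rw [show 16 = 10 + 6 from rfl, pow_add] at this
    simp only [mul_assoc] at this
    have := congrArg (Nat.cast : ℕ → F) (Nat.eq_of_mul_eq_mul_left (h0 10) this)
    simp [h0] at this
  · obtain ⟨b, h1, h2⟩ := rootOK_F4.compat.exists_inv2 matOK_F4 (by simp) hF rootOK_F4.R_A orb_F4 hu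
    simp only [List.mem_cons, List.not_mem_nil, or_false] at h1
    rcases h1 with rfl | rfl
    exacts [.inl h2, .inr h2]

end Cfsg.Agent.S4280
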