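import Cfsg.Statements.S4282
import Cfsg.Agent.Lib.HH.ThmB

set_option autoImplicit false
open Cfsg

namespace Cfsg.Agent.S4282

open Cfsg.Lib.HH Cfsg.Lib.Core Subgroup

/-- A critical case behind the Hall–Higman theorem. Let p ≠ q be primes and G a finite group generated by a normal q-subgroup Q and a cyclic p-subgroup generated by x, such that the centralizer of every non-identity element of that cyclic subgroup is its product with the centre of G. Let K be an algebraically closed field of characteristic p and ρ a faithful representation of G on a nonzero finite-dimensional K-space whose restriction to Q is irreducible. If s is the least exponent with (ρ(x) − 1)^s = 0, then |⟨x⟩| − 1 ≤ s ≤ |⟨x⟩|; and if s = |⟨x⟩| − 1 then |⟨x⟩| − 1 is a power of q and Q is non-abelian. -/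
theorem result {G : Type*} [Group G] [Finite G] (p q : ℕ) [Fact p.Prime] [Fact q.Prime] (hpq : p ≠ q) (Q : Subgroup G) [Q.Normal] (hQ : IsPGroup q Q) (x : G) (hx : IsPGroup p (Subgroup.zpowers x)) (hgen : Q ⊔ Subgroup.zpowers x = ⊤) (hC : ∀ y ∈ Subgroup.zpowers x, y ≠ 1 → Subgroup.centralizer ({y} : Set G) = Subgroup.zpowers x ⊔ Subgroup.center G) {K : Type*} [Field K] [IsAlgClosed K] [CharP K p] {V : Type*} [AddCommGroup V] [Module K V] [FiniteDimensional K V] [Nontrivial V] (ρ : Representation K G V) (hfaith : Function.Injective ρ) (hirr : ∀ W : Submodule K V, (∀ g ∈ Q, Submodule.map (ρ g) W ≤ W) → W = ⊥ ∨ W = ⊤) (s : ℕ) (hs : (ρ x - 1) ^ s = 0) (hmin : ∀ k < s, (ρ x - 1) ^ k ≠ 0) : Nat.card (Subgroup.zpowers x) - 1 ≤ s ∧ s ≤ Nat.card (Subgroup.zpowers x) ∧ (s = Nat.card (Subgroup.zpowers x) - 1 → (∃ b : ℕ, Nat.card (Subgroup.zpowers x) - 1 = q ^ b) ∧ ¬ IsMulCommutative Q) := by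
  have hp : p.Prime := Fact.out
  have hq : q.Prime := Fact.out
  obtain ⟨n, hn⟩ := IsPGroup.iff_card.1 hx
  have hxn : x ^ p ^ n = 1 := by rw [← hn, Nat.card_zpowers, pow_orderOf_eq_one]
  have h1 : s ≤ p ^ n := by
    by_contra h
    apply hmin (p ^ n) (by omega)
    rw [sub_one_pow_char (K := K) p, ← map_pow, hxn, map_one, sub_self]
  have hs0 : s ≠ 0 := by
    rintro rfl
    rw [pow_zero] at hs
    exact one_ne_zero hs
  rw [hn]
  rcases h1.eq_or_lt with h2 | h2
  · refine ⟨by omega, h1, fun h => ?_⟩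
    have := pow_pos hp.pos n
    omega
  rcases n with _ | n
  · rw [pow_zero] at h2; omega
  have := Fintype.ofFinite Q
  have hcop : (Nat.card Q).Coprime p :=
    coprime_card_of_isPGroup hq hQ ((Nat.coprime_primes hp hq).2 hpq)
  have hQK : (Fintype.card Q : K) ≠ 0 := card_ne_zero ((Nat.Prime.coprime_iff_not_dvd hp).1 hcop.symm)
  have hI : Irr (MonoidHom.comp ρ Q.subtype) :=
    ⟨inferInstance, fun U hU => hirr U fun g hg => by
      rintro _ ⟨u, hu, rfl⟩
      exact hU ⟨g, hg⟩ u hu⟩
  have hy : x ^ p ^ n ≠ 1 := fun h => by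
    have h4 := orderOf_dvd_of_pow_eq_one h
    rw [← Nat.card_zpowers, hn, Nat.pow_dvd_pow_iff_le_right hp.one_lt] at h4
    omega
  obtain ⟨h3, h4, h5⟩ := hI.crit hQK (Z := ρ x) (β := MulAut.conjNormal x) (fun g => by
      simp only [MonoidHom.comp_apply, Subgroup.coe_subtype, MulAut.conjNormal_apply, ← map_mul]
      congr 1; group) (j := n) (by rw [← map_pow, hxn, map_one]) (by rw [← map_pow, hxn, map_one])
      (fun g hg => hI.scalar_of_center (by
        have h6 : (g : G) ∈ centralizer ({x ^ p ^ n} : Set G) := by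
          rw [mem_centralizer_singleton_iff]
          rw [← map_pow] at hg
          have := congrArg Subtype.val hg
          rw [MulAut.conjNormal_apply, mul_inv_eq_iff_eq_mul] at this
          exact this.symm
        rw [hC _ (npow_mem_zpowers x _) hy] at h6
        obtain ⟨y, hy, z, hz, e⟩ := mem_sup_of_normal_right.1 h6
        obtain ⟨k, hk⟩ := hx ⟨y, hy⟩
        have hk' : y ^ p ^ k = 1 := congrArg Subtype.val hk
        have h7 : (g : G) ^ p ^ k ∈ center G := by
          rw [← e, Commute.mul_pow (mem_center_iff.1 hz y), hk', one_mul]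
          exact pow_mem hz _
        have h8 : (g : G) ∈ zpowers ((g : G) ^ p ^ k) :=
          mem_zpowers_pow_iff.2 (Nat.Coprime.pow_left k (coprime_orderOf_of_mem hcop g.2).symm)
        have h9 := zpowers_le.2 h7 h8
        rw [mem_center_iff] at h9 ⊢
        exact fun a => Subtype.ext (h9 a)))
      (fun h => hy (by rw [hfaith (h.trans (map_one ρ).symm), one_pow])) hs h2
  refine ⟨by omega, h1, fun _ => ⟨?_, fun hc => ?_⟩⟩
  · obtain ⟨b, hb⟩ := hI.finrank_eq_pow (q := q) (by
      rw [Ne, CharP.cast_eq_zero_iff K p]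
      exact fun h => hpq ((Nat.prime_dvd_prime_iff_eq hp hq).1 h)) hQ
    exact ⟨b, by omega⟩
  · have := hI.finrank_eq_one hc
    omega

end Cfsg.Agent.S4282
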