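import Cfsg.Statements.S4283
import Cfsg.Agent.Lib.Hall.Camina

set_option autoImplicit false
open Cfsg

namespace Cfsg.Agent.S4283

open scoped Pointwise commutatorElement
open Cfsg.Lib Cfsg.Lib.Hall

open Subgroup Cfsg.Lib.Core Cfsg.Lib.Transfer

/-- Let G be a finite group with centre Z and let K, H be abelian subgroups of G containing Z such that G/Z is a Frobenius group with complement H/Z and kernel K/Z. Then the conjugacy class sizes of G are exactly 1, [G : K] and [G : H], and these two indices are coprime. (This is the converse half of the characterization of finite groups whose conjugacy class sizes are exactly 1, m and n with m and n coprime.) -/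
theorem result {G : Type*} [Group G] [Finite G] (K H : Subgroup G) (hZK : Subgroup.center G ≤ K) (hZH : Subgroup.center G ≤ H) (hK : IsMulCommutative K) (hH : IsMulCommutative H) (hFrob : Cfsg.IsFrobeniusComplement (H.map (QuotientGroup.mk' (Subgroup.center G)))) (hker : Cfsg.frobeniusKernel (H.map (QuotientGroup.mk' (Subgroup.center G))) = (K.map (QuotientGroup.mk' (Subgroup.center G)) : Set (G ⧸ Subgroup.center G))) : Set.range (fun x : G => (Subgroup.centralizer ({x} : Set G)).index) = ({1, K.index, H.index} : Set ℕ) ∧ K.index.Coprime H.index := by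
  obtain ⟨N, hN, hNn, hc, hN1, hf, hs⟩ := Coprime.exists_frobKernel hFrob
  have e : N = K.map (QuotientGroup.mk' (center G)) := SetLike.coe_injective (hN.trans hker)
  subst e
  set f := QuotientGroup.mk' (center G) with hfd
  have hmK : ∀ x, f x ∈ K.map f → x ∈ K := fun x hx => by
    rwa [← mem_comap, comap_map_mk', sup_eq_right.mpr hZK] at hx
  have hmH : ∀ x, f x ∈ H.map f → x ∈ H := fun x hx => by
    rwa [← mem_comap, comap_map_mk', sup_eq_right.mpr hZH] at hx
  have hn : H.map f ≤ normalizer ((K.map f : Subgroup _) : Set (G ⧸ center G)) := le_normalizer_of_normal' _ _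
  have hZ : ∀ x, f x ≠ 1 ↔ x ∉ center G := fun x => (QuotientGroup.eq_one_iff x).not
  have h1 : ∀ x ∈ K, x ∉ center G → centralizer ({x} : Set G) = K := fun x hx hxZ =>
    le_antisymm (fun g hg => hmK g (hf.sup_inf_centralizer_le hn (mem_map_of_mem f hx) ((hZ x).mpr hxZ)
      ⟨by rw [hs]; trivial, map_cent_le f x (mem_map_of_mem f hg)⟩)) (le_cent_iff.mpr (le_centralizer K hx))
  have h2 : ∀ x ∈ H, x ∉ center G → centralizer ({x} : Set G) = H := fun x hx hxZ =>
    le_antisymm (fun g hg => hmH g (hf.sup_inf_centralizer_le' hn (mem_map_of_mem f hx) ((hZ x).mpr hxZ)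
      ⟨by rw [hs]; trivial, map_cent_le f x (mem_map_of_mem f hg)⟩)) (le_cent_iff.mpr (le_centralizer H hx))
  have h3 : ∀ L : Subgroup G, L.map f ≠ ⊥ → ∃ x ∈ L, x ∉ center G := fun L hL => by
    by_contra hc
    push Not at hc
    exact hL ((map_mk'_eq_bot_iff _ _).mpr hc)
  refine ⟨Set.ext fun n => ⟨?_, ?_⟩, ?_⟩
  · rintro ⟨x, rfl⟩
    by_cases hxZ : x ∈ center G
    · exact Or.inl (cs_eq_one_iff.mpr hxZ)
    by_cases hxK : x ∈ K
    · exact Or.inr (Or.inl (congrArg index (h1 x hxK hxZ)))
    obtain ⟨_, ⟨k, -, rfl⟩, _, ⟨r, hr, rfl⟩, hr1, e⟩ := hf.exists_conj hn (x := f x) (by rw [hs]; trivial)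
      (mt (hmK x) hxK)
    rw [← map_inv, ← map_mul, ← map_mul, eq_comm] at e
    have h4 : (k * r * k⁻¹)⁻¹ * x ∈ center G := QuotientGroup.eq.mp e
    refine Or.inr (Or.inr ?_)
    rw [Set.mem_singleton_iff, ← h2 r hr ((hZ r).mp hr1)]
    change cs x = cs r
    rw [← cs_conj k r, ← cs_mul_center (x := k * r * k⁻¹) h4, mul_inv_cancel_left]
  · rintro (rfl | rfl | rfl)
    · exact ⟨1, cs_one⟩
    · obtain ⟨x, hx, hxZ⟩ := h3 K hN1
      exact ⟨x, congrArg index (h1 x hx hxZ)⟩
    · obtain ⟨x, hx, hxZ⟩ := h3 H hFrob.1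
      exact ⟨x, congrArg index (h2 x hx hxZ)⟩
  · have h5 := hf.coprime hn
    rwa [← hc.index_eq_card, ← hc.symm.index_eq_card, index_map_mk', index_map_mk', sup_eq_left.mpr hZK,
      sup_eq_left.mpr hZH] at h5

end Cfsg.Agent.S4283
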