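import Cfsg.Statements.S4284
import Cfsg.Agent.Lib.CS3.Cop

set_option autoImplicit false
open Cfsg

namespace Cfsg.Agent.S4284

/-- Let G be a finite group with no nontrivial abelian direct factor whose conjugacy class sizes are exactly 1, m and m·n with m, n > 1 coprime. Then m is a prime p dividing n − 1; the elements whose class has size 1 or p form an abelian normal subgroup of index p; G has a normal p-complement; and the commutator subgroup of a Sylow p-subgroup of G has order p. -/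
theorem result {G : Type*} [Group G] [Finite G] (hnodf : ∀ A B : Subgroup G, A.Normal → B.Normal → A ⊓ B = ⊥ → A ⊔ B = ⊤ → IsMulCommutative A → A = ⊥) (m n : ℕ) (hm : 1 < m) (hn : 1 < n) (hcop : m.Coprime n) (h : Set.range (fun x : G => (Subgroup.centralizer ({x} : Set G)).index) = ({1, m, m * n} : Set ℕ)) : m.Prime ∧ m ∣ n - 1 ∧ (∃ M : Subgroup G, M.Normal ∧ (M : Set G) = {x : G | (Subgroup.centralizer ({x} : Set G)).index = 1 ∨ (Subgroup.centralizer ({x} : Set G)).index = m} ∧ M.index = m ∧ IsMulCommutative M) ∧ (∃ N : Subgroup G, N.Normal ∧ (Nat.card N).Coprime m ∧ ∃ a : ℕ, N.index = m ^ a) ∧ ∀ P : Sylow m G, Nat.card (commutator (P : Subgroup G)) = m := by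
  have hr : ∀ k, (∃ x : G, (Subgroup.centralizer ({x} : Set G)).index = k) ↔ k = 1 ∨ k = m ∨ k = m * n := fun k => by
    simpa using Set.ext_iff.1 h k
  have H : Cfsg.Lib.CS3.Cop G m n :=
    ⟨⟨fun x hx => ((hr _).1 ⟨x, rfl⟩).resolve_left fun e => hx (Cfsg.Lib.Hall.cs_eq_one_iff.1 e), by nlinarith⟩,
      hcop, hm, (hr _).2 (.inr (.inl rfl)), (hr _).2 (.inr (.inr rfl))⟩
  obtain ⟨y, hy⟩ := H.exm
  refine ⟨H.prime ▸ H.pi_m.1, H.compl.1, ⟨_, H.normal' hy, ?_, hy,
    ⟨⟨fun a b => Subtype.ext (Cfsg.Lib.Hall.mem_cent_iff.1 (H.abel hy b.2 a.2))⟩⟩⟩, H.compl.2, H.comm⟩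
  ext x
  refine ⟨fun hx => ?_, ?_⟩
  · by_cases hc : x ∈ Subgroup.center G
    · exact .inl (Cfsg.Lib.Hall.cs_eq_one_iff.2 hc)
    · exact .inr (H.eq_of_large hy hc (H.abel hy hx) ▸ hy)
  · rintro (hx | hx)
    · exact Cfsg.Lib.Hall.center_le_cent y (Cfsg.Lib.Hall.cs_eq_one_iff.1 hx)
    · rw [(H.pcore hy).1, ← (H.pcore hx).1]; exact Cfsg.Lib.Hall.self_mem_cent x

end Cfsg.Agent.S4284
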