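import Cfsg.Statements.S4291
import Cfsg.Agent.Lib.Hall.FC7

set_option autoImplicit false
open Cfsg

namespace Cfsg.Agent.S4291

open scoped Pointwise commutatorElement
open Cfsg.Lib Cfsg.Lib.Hall

open Subgroup Cfsg.Lib.Core Cfsg.Lib.Transfer

theorem aux1 {G : Type*} [Group G] [Finite G] {N : Subgroup G} (h : QuoIs N (alternatingGroup (Fin 4)) ∨
    QuoIs N (Equiv.Perm (Fin 4)) ∨ QuoIs N (alternatingGroup (Fin 5)) ∨ QuoIs N (Equiv.Perm (Fin 5))) :
    4 < N.index ∧ ∀ (M : Subgroup G) [M.Normal] [IsZGroup M], M ≤ N := by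
  rcases h with h | h | h | h
  · exact ⟨by rw [h.index, Linear.card_A4]; norm_num, fun M _ _ => h.le_of_noZ noZ_A4⟩
  · exact ⟨by rw [h.index, Linear.card_S4]; norm_num, fun M _ _ => h.le_of_noZ noZ_S4⟩
  · exact ⟨by rw [h.index, Linear.card_A5]; norm_num, fun M _ _ => h.le_of_noZ noZ_A5⟩
  · exact ⟨by rw [h.index, Nat.card_perm]; simp [Nat.factorial], fun M _ _ => h.le_of_noZ noZ_S5⟩

theorem aux2 {G : Type*} [Group G] [Finite G] {N : Subgroup G} (h : QuoIs N (DihedralGroup 2)) :
    N.index = 4 ∧ ¬ IsZGroup (⊤ : Subgroup G) := by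
  refine ⟨by rw [h.index, Nat.card_eq_fintype_card, DihedralGroup.card], fun _ => ?_⟩
  obtain ⟨f, h1, -⟩ := h
  haveI : IsZGroup (DihedralGroup 2) := IsZGroup.of_surjective (f := f.comp (⊤ : Subgroup G).subtype) fun y => by
    obtain ⟨x, rfl⟩ := h1 y
    exact ⟨⟨x, trivial⟩, rfl⟩
  have := IsZGroup.exponent_eq_card (DihedralGroup 2)
  rw [IsKleinFour.card_four, IsKleinFour.exponent_two] at this
  omega

/-- Let G be a finite group that occurs as a Frobenius complement. Then G has exactly one normal subgroup N such that every Sylow subgroup of N is cyclic and the quotient of G by N is trivial or isomorphic to one of the following five groups: the Klein four-group, the alternating group of degree 4, the symmetric group of degree 4, the alternating group of degree 5, the symmetric group of degree 5. (The quotient is described by a surjective homomorphism with kernel N; the Klein four-group is written as the dihedral group of order 4.) -/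
theorem result {G : Type*} [Group G] [Finite G]
    (hFC : (∃ (L : Type) (_ : Group L) (_ : Finite L) (H : Subgroup L), Cfsg.IsFrobeniusComplement H ∧ Nonempty (G ≃* H))) :
    ∃! N : Subgroup G, N.Normal ∧ (∀ (p : ℕ) [Fact p.Prime] (P : Sylow p N), IsCyclic P) ∧
      (N = ⊤ ∨
        (∃ f : G →* DihedralGroup 2, Function.Surjective f ∧ f.ker = N) ∨
        (∃ f : G →* alternatingGroup (Fin 4), Function.Surjective f ∧ f.ker = N) ∨
        (∃ f : G →* Equiv.Perm (Fin 4), Function.Surjective f ∧ f.ker = N) ∨
        (∃ f : G →* alternatingGroup (Fin 5), Function.Surjective f ∧ f.ker = N) ∨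
        (∃ f : G →* Equiv.Perm (Fin 5), Function.Surjective f ∧ f.ker = N)) := by
  obtain ⟨h, -⟩ := FC.of_frob hFC
  refine existsUnique_of_exists_of_unique ?_ ?_
  · rcases h.solvable_or with hs | ⟨L, hL, ⟨e⟩⟩
    · obtain ⟨N, h1, h2, h3⟩ := h.struct_of_solvable
      refine ⟨N, h1, fun p _ P => inferInstance, ?_⟩
      rcases h3 with h3 | h3 | h3 | h3 <;> simp only [h3, true_or, or_true]
    · haveI := h.isZGroup_cent_SL25 e
      refine ⟨centralizer (L : Set G), inferInstance, fun p _ P => inferInstance, ?_⟩
      rcases h.struct_of_SL25 e with h3 | h3 <;> simp only [h3, true_or, or_true]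
  · rintro N M ⟨n1, n2, n3⟩ ⟨m1, m2, m3⟩
    haveI : IsZGroup N := ⟨fun p hp P => by haveI := Fact.mk hp; exact n2 p P⟩
    haveI : IsZGroup M := ⟨fun p hp P => by haveI := Fact.mk hp; exact m2 p P⟩
    have idx : ∀ {A B : Subgroup G}, A ≤ B → B.index ≤ A.index := fun h => Nat.le_of_dvd (Nat.pos_of_ne_zero index_ne_zero_of_finite) (index_dvd_of_le h)
    rcases n3 with rfl | n3 | n3
    · rcases m3 with rfl | m3 | m3
      · rfl
      · exact ((aux2 m3).2 inferInstance).elim
      · exact le_antisymm ((aux1 m3).2 _) le_top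
    · rcases m3 with rfl | m3 | m3
      · exact ((aux2 n3).2 inferInstance).elim
      · exact h.eq_of_quoIs_klein n3 m3
      · have := idx ((aux1 m3).2 N)
        have := (aux1 m3).1
        have := (aux2 n3).1
        omega
    · rcases m3 with rfl | m3 | m3
      · exact le_antisymm le_top ((aux1 n3).2 _)
      · have := idx ((aux1 n3).2 M)
        have := (aux1 n3).1
        have := (aux2 m3).1
        omega
      · exact le_antisymm ((aux1 m3).2 _) ((aux1 n3).2 _)

end Cfsg.Agent.S4291
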