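import Cfsg.Statements.S4292
import Cfsg.Agent.Lib.Hall.FC9

set_option autoImplicit false
open Cfsg

namespace Cfsg.Agent.S4292

open scoped Pointwise commutatorElement
open Cfsg.Lib Cfsg.Lib.Hall

open Subgroup

/-- Let A and B be nontrivial finite groups. Then the direct product A × B occurs as a Frobenius complement if and only if A and B both occur as Frobenius complements and the orders of A and B are coprime. -/
theorem result {A B : Type*} [Group A] [Finite A] [Nontrivial A] [Group B] [Finite B] [Nontrivial B] :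
    (∃ (L : Type) (_ : Group L) (_ : Finite L) (H : Subgroup L), Cfsg.IsFrobeniusComplement H ∧ Nonempty ((A × B) ≃* H)) ↔
    ((∃ (L : Type) (_ : Group L) (_ : Finite L) (H : Subgroup L), Cfsg.IsFrobeniusComplement H ∧ Nonempty (A ≃* H)) ∧
     (∃ (L : Type) (_ : Group L) (_ : Finite L) (H : Subgroup L), Cfsg.IsFrobeniusComplement H ∧ Nonempty (B ≃* H)) ∧
     (Nat.card A).Coprime (Nat.card B)) := by
  constructor
  · intro h
    obtain ⟨h, -⟩ := FC.of_frob h
    refine ⟨(h.of_injective (MonoidHom.inl A B) fun a b e => congrArg Prod.fst e).to_frob,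
      (h.of_injective (MonoidHom.inr A B) fun a b e => congrArg Prod.snd e).to_frob, ?_⟩
    by_contra hc
    obtain ⟨p, hp, h1, h2⟩ := Nat.Prime.not_coprime_iff_dvd.mp hc
    haveI := Fact.mk hp
    obtain ⟨a, ha⟩ := exists_prime_orderOf_dvd_card' p h1
    obtain ⟨b, hb⟩ := exists_prime_orderOf_dvd_card' p h2
    have := h.card_dvd_of_comm (E := (zpowers a).prod (zpowers b)) ⟨⟨fun x y => Subtype.ext (Prod.ext ?_ ?_)⟩⟩ (n := p)
      fun x hx => Prod.ext ?_ ?_
    · rw [Nat.card_congr (prodEquiv _ _).toEquiv, Nat.card_prod, Nat.card_zpowers, Nat.card_zpowers, ha, hb] at this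
      have := Nat.le_of_dvd hp.pos this
      nlinarith [hp.one_lt]
    · obtain ⟨i, hi⟩ := x.2.1
      obtain ⟨j, hj⟩ := y.2.1
      show x.1.1 * y.1.1 = y.1.1 * x.1.1
      rw [← hi, ← hj, zpow_mul_comm]
    · obtain ⟨i, hi⟩ := x.2.2
      obtain ⟨j, hj⟩ := y.2.2
      show x.1.2 * y.1.2 = y.1.2 * x.1.2
      rw [← hi, ← hj, zpow_mul_comm]
    · exact orderOf_dvd_iff_pow_eq_one.mp (ha ▸ orderOf_dvd_of_mem_zpowers hx.1)
    · exact orderOf_dvd_iff_pow_eq_one.mp (hb ▸ orderOf_dvd_of_mem_zpowers hx.2)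
  · rintro ⟨h1, h2, h3⟩
    exact ((FC.of_frob h1).1.prod (FC.of_frob h2).1 h3).to_frob

end Cfsg.Agent.S4292
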