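import Cfsg.Statements.S4294
import Cfsg.Agent.Lib.Amalg.Dv2
import Cfsg.Agent.S3359
import Cfsg.Agent.S4293

set_option autoImplicit false
open Cfsg

namespace Cfsg.Agent.S4294

open Subgroup Cfsg.Lib.Amalg
open Cfsg.Lib.Core hiding isPGroup_subgroupOf isPGroup_subgroupOf_iff isPGroup_map_subtype_iff isPGroup_zpowers_of_orderOf
open scoped commutatorElement

/-- A finite non-solvable subgroup of the multiplicative group of a division ring is isomorphic to the binary icosahedral group SL(2,5). -/
theorem result {D : Type*} [DivisionRing D] (H : Subgroup Dˣ) [Finite H] (hH : ¬ Group.IsSolvable H) :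
    Nonempty (H ≃* Matrix.SpecialLinearGroup (Fin 2) (ZMod 5)) := by
  have h0 : H ≠ ⊥ := by
    rintro rfl
    exact hH inferInstance
  obtain ⟨N, hN, hi, S, M, h1, -, h2, ⟨e⟩, -, hM⟩ := Cfsg.Agent.S3359.result hH (Cfsg.Agent.S4293.result H h0)
  exact Cfsg.Lib.Amalg.Dv.main (ρ := (Units.coeHom D).comp H.subtype)
    (Units.val_injective.comp H.subtype_injective) hN hi h1 h2 e hM

end Cfsg.Agent.S4294
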