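import Cfsg.Statements.S4296
import Cfsg.Agent.Lib.Layer.Misc
import Cfsg.Agent.Lib.Layer.FrobC

set_option autoImplicit false
open Cfsg

namespace Cfsg.Agent.S4296

open Subgroup Cfsg.Lib.Core Cfsg.Lib.Amalg Cfsg.Lib.BG1 Cfsg.Lib.Layer

/-- Let H be a Frobenius complement in a finite group, and suppose some Sylow subgroup of H is not cyclic. Then the number of elements of the Frobenius kernel (the identity together with the elements lying in no conjugate of H) is an odd perfect square. -/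
theorem result {L : Type*} [Group L] [Finite L] (H : Subgroup L) (hF : Cfsg.IsFrobeniusComplement H)
    (hZ : ∃ (p : ℕ) (_ : Fact p.Prime) (P : Sylow p H), ¬ IsCyclic P) :
    Odd (Nat.card (Cfsg.frobeniusKernel H)) ∧ IsSquare (Nat.card (Cfsg.frobeniusKernel H)) := by
  obtain ⟨p, _, P, hP⟩ := hZ
  obtain ⟨N, h1, _, -, h2, h3, h4⟩ := Lib.Coprime.exists_frobKernel hF
  have hfc := Lib.Hall.FC.of_isFrobeniusComplement hF
  obtain rfl : p = 2 := by
    by_contra h; exact hP (hfc.isCyclic_of_isPGroup h P.isPGroup')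
  have hc : ⁅(P : Subgroup H), (P : Subgroup H)⁆ ≠ ⊥ := fun e =>
    hP (hfc.isCyclic_of_comm (le_centralizer_iff_isMulCommutative.1 (commutator_eq_bot_iff_le_centralizer.1 e)))
  have hd := dvd_card_of_isPGroup_ne_bot (P.isPGroup'.to_le (commutator_le.2 fun a ha b hb => mul_mem (mul_mem (mul_mem ha hb) (inv_mem ha)) (inv_mem hb))) hc
  obtain ⟨z, hz⟩ := exists_prime_orderOf_dvd_card' 2 hd
  rw [← orderOf_coe, ← orderOf_coe] at hz
  have z1 : (z.1 : L) ≠ 1 := fun e => by simp [e] at hz
  have z2 : (z.1 : L) * z.1 = 1 := by rw [← pow_two]; exact orderOf_dvd_iff_pow_eq_one.1 hz.dvd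
  have hn : H ≤ normalizer (N : Set L) := le_normalizer_of_normal
  have h5 : 2 ∣ Nat.card H := hz ▸ H.orderOf_dvd_natCard z.1.2
  have ho : Odd (Nat.card N) := ((h3.coprime hn).coprime_dvd_left h5).odd_of_left
  have := h3.isMulCommutative_of_two_dvd hn h5
  rw [← h1]
  letI : CommGroup N := IsMulCommutative.instCommGroup
  refine ⟨ho, isSquare_of_inv (z := z.1) (commutator_mono le_top le_top z.2) _ N rfl ho (Lib.Coprime.conjAut hn) fun v => ?_⟩
  exact Subtype.ext (Lib.Coprime.conj_eq_inv_of_fpf (hn z.1.2) z2 (h3 _ z.1.2 z1) v.2)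

end Cfsg.Agent.S4296
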