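import Cfsg.Statements.S4295
import Cfsg.Agent.Lib.Layer.Misc
import Cfsg.Agent.Lib.Layer.FrobC
import Cfsg.Agent.S4296
import Cfsg.Agent.Lib.Linear.SL2Sub

set_option autoImplicit false
open Cfsg

namespace Cfsg.Agent.S4295

open Subgroup Cfsg.Lib.Core Cfsg.Lib.Amalg Cfsg.Lib.BG1 Cfsg.Lib.Layer

/-- For a natural number m the following are equivalent: (a) some finite group has a Frobenius complement isomorphic to the quaternion group of order 8 whose Frobenius kernel (the identity together with the elements lying in no conjugate of the complement) has exactly m elements; (b) m is an odd perfect square greater than 1. -/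
theorem result (m : ℕ) :
    (∃ (L : Type) (_ : Group L) (_ : Finite L) (H : Subgroup L), Cfsg.IsFrobeniusComplement H ∧
        Nonempty (H ≃* QuaternionGroup 2) ∧ Nat.card (Cfsg.frobeniusKernel H) = m) ↔
    (Odd m ∧ IsSquare m ∧ 1 < m) := by
  constructor
  · rintro ⟨L, _, _, H, hF, ⟨e⟩, rfl⟩
    have hp : IsPGroup 2 H := Lib.Linear.isPGroup_quaternion_two.of_equiv e.symm
    obtain ⟨P⟩ : Nonempty (Sylow 2 H) := inferInstance
    have hP : (P : Subgroup H) = ⊤ := (P.is_maximal' (hp.to_subgroup ⊤) le_top).symm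
    obtain ⟨h1, h2⟩ := S4296.result H hF ⟨2, inferInstance, P, fun hc => Lib.Linear.not_isCyclic_quaternion_two
      (isCyclic_of_surjective (e.toMonoidHom.comp (P : Subgroup H).subtype) (e.surjective.comp fun x => ⟨⟨x, hP ▸ mem_top x⟩, rfl⟩))⟩
    obtain ⟨N, h3, -, -, h4, -⟩ := Lib.Coprime.exists_frobKernel hF
    exact ⟨h1, h2, h3 ▸ (one_lt_card_iff_ne_bot N).2 h4⟩
  · rintro ⟨h1, ⟨k, rfl⟩, h2⟩
    obtain ⟨V, _, _, φ, hV, h⟩ := exists_q8_act k (Nat.Odd.of_mul_left h1)
    obtain ⟨X, _, _, i, j, ha, hc, hn⟩ := Lib.Coprime.exists_ambient φ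
    have ci : Nat.card i.range = k * k := by rw [← hV]; exact (Nat.card_congr (MonoidHom.ofInjective ha.inj_i).toEquiv).symm
    have c8 : Nat.card j.range = 8 := by
      rw [← Nat.card_congr (MonoidHom.ofInjective ha.inj_j).toEquiv, Nat.card_eq_fintype_card, QuaternionGroup.card]
    have hf : Lib.Coprime.Fpf i.range j.range := by
      rw [Lib.Coprime.fpf_iff]
      rintro _ ⟨g, rfl⟩ hg _ ⟨k, rfl⟩ e
      rw [ha.mul_comm_iff] at e
      rw [h g (fun e => hg (by rw [e, map_one])) k e, map_one]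
    refine ⟨X, inferInstance, inferInstance, j.range, Lib.Coprime.isFrobeniusComplement_of_fpf hf hc.sup_eq_top
      ((one_lt_card_iff_ne_bot _).1 (ci ▸ h2)) ((one_lt_card_iff_ne_bot _).1 (by omega)), ⟨(MonoidHom.ofInjective ha.inj_j).symm⟩, ?_⟩
    rw [← Lib.Coprime.coe_eq_frobeniusKernel_of_fpf hf hc.sup_eq_top]
    exact ci

end Cfsg.Agent.S4295
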