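import Cfsg.Statements.S4298
import Cfsg.Agent.Lib.Layer.Misc
import Cfsg.Agent.Lib.Layer.FrobC
import Cfsg.Agent.Lib.Layer.FrobT

set_option autoImplicit false
open Cfsg

namespace Cfsg.Agent.S4298

open Subgroup Cfsg.Lib.Core Cfsg.Lib.Amalg Cfsg.Lib.BG1 Cfsg.Lib.Layer

/-- The group SL(2,3) of order 24 (the binary tetrahedral group) occurs as a Frobenius complement of some finite Frobenius group. -/
theorem result :
    ∃ (L : Type) (_ : Group L) (_ : Finite L) (H : Subgroup L), Cfsg.IsFrobeniusComplement H ∧ Nonempty (H ≃* Matrix.SpecialLinearGroup (Fin 2) (ZMod 3)) := by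
  have : Nontrivial (Matrix.SpecialLinearGroup (Fin 2) (ZMod 3)) := ⟨1, -1, by decide⟩
  obtain ⟨L, _, _, H, h, ⟨e⟩⟩ := fc_sl2_three.to_frob
  exact ⟨L, inferInstance, inferInstance, H, h, ⟨e.symm⟩⟩

end Cfsg.Agent.S4298
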