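import Cfsg.Statements.S4300
import Cfsg.Agent.Lib.Layer.Misc

set_option autoImplicit false
open Cfsg

namespace Cfsg.Agent.S4300

open Subgroup Cfsg.Lib.Core Cfsg.Lib.Amalg Cfsg.Lib.BG1 Cfsg.Lib.Layer

/-- Let G act faithfully and primitively on a set X, and suppose the stabilizer of some point is a simple group. Then either G is simple, or G has a normal subgroup, neither trivial nor the whole group, that acts regularly on X (transitively with trivial point stabilizers). -/
theorem result {G : Type*} [Group G] {X : Type*} [MulAction G X] [FaithfulSMul G X]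
    (hprim : MulAction.IsPreprimitive G X) (x : X) (hsimple : IsSimpleGroup (MulAction.stabilizer G x)) :
    IsSimpleGroup G ∨ ∃ N : Subgroup G, N.Normal ∧ N ≠ ⊥ ∧ N ≠ ⊤ ∧
      MulAction.IsPretransitive N X ∧ ∀ y : X, MulAction.stabilizer N y = ⊥ := by
  by_cases hs : ∀ N : Subgroup G, N.Normal → N = ⊥ ∨ N = ⊤
  · have : Nontrivial G := (MulAction.stabilizer G x).subtype_injective.nontrivial
    exact Or.inl ⟨hs⟩
  push Not at hs
  obtain ⟨N, hn, h1, h2⟩ := hs
  have ht : MulAction.IsPretransitive N X := MulAction.IsQuasiPreprimitive.isPretransitive_of_normal fun e => h1 (by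
    refine (eq_bot_iff_forall _).2 fun g hg => FaithfulSMul.eq_of_smul_eq_smul (α := X) fun y => ?_
    rw [one_smul]
    exact (e ▸ Set.mem_univ y : y ∈ MulAction.fixedPoints N X) ⟨g, hg⟩)
  refine Or.inr ⟨N, hn, h1, h2, ht, fun y => ?_⟩
  rcases hsimple.eq_bot_or_eq_top_of_normal (N.subgroupOf (MulAction.stabilizer G x)) inferInstance with h | h
  · obtain ⟨n, rfl⟩ := ht.exists_smul_eq x y
    refine (eq_bot_iff_forall _).2 fun g hg => ?_
    have h3 : (n⁻¹ * g * n) • x = x := by rw [mul_smul, mul_smul, hg, inv_smul_smul]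
    have : (⟨(n⁻¹ * g * n : N), h3⟩ : MulAction.stabilizer G x) ∈ N.subgroupOf _ := (n⁻¹ * g * n).2
    rw [h, mem_bot] at this
    have h4 : n⁻¹ * g * n = 1 := Subtype.ext (congrArg (MulAction.stabilizer G x).subtype this)
    simpa [mul_assoc, inv_mul_eq_one] using h4
  · refine absurd (eq_top_iff.2 fun g _ => ?_) h2
    obtain ⟨n, hn⟩ := ht.exists_smul_eq x (g • x)
    have : (n.1⁻¹ * g) ∈ MulAction.stabilizer G x := by
      rw [MulAction.mem_stabilizer_iff, mul_smul, ← hn]; exact inv_smul_smul n x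
    exact (N.mul_mem_cancel_left (inv_mem n.2)).1 (subgroupOf_eq_top.1 h this)

end Cfsg.Agent.S4300
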