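import Cfsg.Statements.S4301
import Cfsg.Agent.Lib.Layer.Misc

set_option autoImplicit false
open Cfsg

namespace Cfsg.Agent.S4301

open Subgroup Cfsg.Lib.Core Cfsg.Lib.Amalg Cfsg.Lib.BG1 Cfsg.Lib.Layer

/-- One-point extension of a multiply transitive group. Let X be a set and G a group of permutations of Option X (the set X with one extra point ∗ = none) all of whose elements fix ∗, such that G is k-transitive on the points of X for some k ≥ 2, X having at least k points. Suppose a permutation h of Option X and an element g of G satisfy: h interchanges ∗ with a point x of X and fixes a point y of X; g interchanges x and y; (g h)³ and h² lie in G; and for every f in G fixing x, the product h f h lies in G and fixes x. Then an element of the group generated by G and h fixes ∗ exactly when it lies in G, and that group acts (k+1)-transitively on Option X. -/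
theorem result {X : Type*} (G : Subgroup (Equiv.Perm (Option X))) (hfix : ∀ f ∈ G, f none = none)
    (k : ℕ) (hk : 2 ≤ k) (hkX : Nonempty (Fin k ↪ X))
    (htrans : ∀ a b : Fin k ↪ X, ∃ f ∈ G, ∀ i, f (some (a i)) = some (b i))
    (h g : Equiv.Perm (Option X)) (hg : g ∈ G) (x y : X)
    (h1 : h none = some x) (h2 : h (some x) = none) (h3 : h (some y) = some y)
    (h4 : g (some x) = some y) (h5 : g (some y) = some x)
    (h6 : (g * h) ^ 3 ∈ G) (h7 : h ^ 2 ∈ G)
    (h8 : ∀ f ∈ G, f (some x) = some x → h * f * h ∈ G ∧ (h * f * h) (some x) = some x) :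
    (∀ f ∈ Subgroup.closure ((G : Set (Equiv.Perm (Option X))) ∪ {h}), f none = none ↔ f ∈ G) ∧
      MulAction.IsMultiplyPretransitive (Subgroup.closure ((G : Set (Equiv.Perm (Option X))) ∪ {h})) (Option X) (k + 1) := by
  have hxy : x ≠ y := by rintro rfl; simp [h2] at h3
  have hs : ∀ f ∈ G, ∀ u, ∃ v, f (some u) = some v := fun f hf u =>
    Option.ne_none_iff_exists'.1 fun e => by simpa using f.injective (e.trans (hfix f hf).symm)
  have t2 : ∀ u v u' v' : X, u ≠ v → u' ≠ v' → ∃ f ∈ G, f (some u) = some u' ∧ f (some v) = some v' := by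
    obtain ⟨e⟩ := hkX
    have emb : ∀ u v : X, u ≠ v → ∃ a : Fin k ↪ X, a ⟨0, by omega⟩ = u ∧ a ⟨1, by omega⟩ = v := fun u v huv => by
      obtain ⟨σ, hσ⟩ := Equiv.Perm.exists_extending_pair (f := ![e ⟨0, by omega⟩, e ⟨1, by omega⟩]) (g := ![u, v])
        (by intro i j; fin_cases i <;> fin_cases j <;> simp) (by intro i j; fin_cases i <;> fin_cases j <;> simp [huv, huv.symm])
      exact ⟨e.trans σ.toEmbedding, hσ 0, hσ 1⟩
    intro u v u' v' h h'
    obtain ⟨a, rfl, rfl⟩ := emb u v h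
    obtain ⟨b, rfl, rfl⟩ := emb u' v' h'
    obtain ⟨f, hf, e⟩ := htrans a b
    exact ⟨f, hf, e _, e _⟩
  have key : ∀ f ∈ G, h * f * h ∈ G ∨ ∃ a ∈ G, ∃ b ∈ G, h * f * h = a * h * b := fun f hf => by
    obtain ⟨z, hz⟩ := hs f hf x
    by_cases e : z = x
    · exact Or.inl (h8 f hf (e ▸ hz)).1
    obtain ⟨a, ha, a1, a2⟩ := t2 x y x z hxy (Ne.symm e)
    have hb : g⁻¹ * a⁻¹ * f ∈ G := mul_mem (mul_mem (inv_mem hg) (inv_mem ha)) hf
    have b1 : (g⁻¹ * a⁻¹ * f) (some x) = some x := by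
      rw [Equiv.Perm.mul_apply, Equiv.Perm.mul_apply, hz, ← a2, Equiv.Perm.inv_eq_iff_eq, Equiv.Perm.inv_eq_iff_eq, h4]
    refine Or.inr ⟨h * a * h * (h ^ 2)⁻¹ * g⁻¹ * (g * h) ^ 3 * (h ^ 2)⁻¹, ?_, g⁻¹ * (h ^ 2)⁻¹ * (h * (g⁻¹ * a⁻¹ * f) * h), ?_, ?_⟩
    · exact mul_mem (mul_mem (mul_mem (mul_mem (h8 a ha a1).1 (inv_mem h7)) (inv_mem hg)) h6) (inv_mem h7)
    · exact mul_mem (mul_mem (inv_mem hg) (inv_mem h7)) (h8 _ hb b1).1
    · simp only [pow_succ]; group
  let S : Subgroup (Equiv.Perm (Option X)) :=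
    { carrier := {f | f ∈ G ∨ ∃ a ∈ G, ∃ b ∈ G, f = a * h * b}
      one_mem' := Or.inl G.one_mem
      inv_mem' := by
        rintro f (hf | ⟨a, ha, b, hb, rfl⟩)
        · exact Or.inl (inv_mem hf)
        · exact Or.inr ⟨b⁻¹ * (h ^ 2)⁻¹, mul_mem (inv_mem hb) (inv_mem h7), a⁻¹, inv_mem ha, by simp only [pow_succ]; group⟩
      mul_mem' := by
        rintro f f' (hf | ⟨a, ha, b, hb, rfl⟩) (hf' | ⟨c, hc, d, hd, rfl⟩)
        · exact Or.inl (mul_mem hf hf')
        · exact Or.inr ⟨f * c, mul_mem hf hc, d, hd, by group⟩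
        · exact Or.inr ⟨a, ha, b * f', mul_mem hb hf', by group⟩
        · rcases key _ (mul_mem hb hc) with e | ⟨u, hu, v, hv, e⟩
          · exact Or.inl (by
              rw [show a * h * b * (c * h * d) = a * (h * (b * c) * h) * d by group]; exact mul_mem (mul_mem ha e) hd)
          · exact Or.inr ⟨a * u, mul_mem ha hu, v * d, mul_mem hv hd, by
              rw [show a * h * b * (c * h * d) = a * (h * (b * c) * h) * d by group, e]; group⟩ }
  set K := Subgroup.closure ((G : Set (Equiv.Perm (Option X))) ∪ {h})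
  have hGK : G ≤ K := fun f hf => subset_closure (Or.inl hf)
  have hK : K ≤ S := (closure_le _).2 (Set.union_subset (fun f hf => Or.inl hf)
    (Set.singleton_subset_iff.2 (Or.inr ⟨1, G.one_mem, 1, G.one_mem, by simp⟩)))
  refine ⟨fun f hf => ⟨fun e => (hK hf).resolve_right ?_, hfix f⟩, ⟨fun a b => ?_⟩⟩
  · rintro ⟨a, ha, b, hb, rfl⟩
    obtain ⟨v, hv⟩ := hs a ha x
    simp [hfix b hb, h1, hv] at e
  have t1 : ∀ u : Option X, ∃ f ∈ K, f u = none := by
    rintro (_ | u)
    · exact ⟨1, K.one_mem, rfl⟩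
    obtain ⟨f, hf, e⟩ : ∃ f ∈ G, f (some u) = some x := by
      by_cases e : u = x
      · exact ⟨1, G.one_mem, by simp [e]⟩
      · obtain ⟨f, hf, e, -⟩ := t2 u x x y e hxy
        exact ⟨f, hf, e⟩
    exact ⟨h * f, mul_mem (subset_closure (Or.inr rfl)) (hGK hf), by rw [Equiv.Perm.mul_apply, e, h2]⟩
  have emb : ∀ a : Fin (k + 1) ↪ Option X, ∃ f ∈ K, f (a 0) = none ∧ ∃ a' : Fin k ↪ X, ∀ i, f (a i.succ) = some (a' i) := fun a => by
    obtain ⟨f, hf, e⟩ := t1 (a 0)
    have : ∀ i : Fin k, ∃ v, f (a i.succ) = some v := fun i =>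
      Option.ne_none_iff_exists'.1 fun e' => Fin.succ_ne_zero i (a.injective (f.injective (e'.trans e.symm)))
    choose v hv using this
    exact ⟨f, hf, e, ⟨v, fun i j e' => Fin.succ_injective _ (a.injective (f.injective (by rw [hv, hv, e'])))⟩, hv⟩
  obtain ⟨f, hf, e, a', ha⟩ := emb a
  obtain ⟨f', hf', e', b', hb⟩ := emb b
  obtain ⟨u, hu, e''⟩ := htrans a' b'
  refine ⟨⟨f'⁻¹ * u * f, mul_mem (mul_mem (inv_mem hf') (hGK hu)) hf⟩, Function.Embedding.ext fun i => ?_⟩
  show f'⁻¹ (u (f (a i))) = b i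
  rw [Equiv.Perm.inv_eq_iff_eq]
  refine Fin.cases ?_ (fun i => ?_) i
  · rw [e, e', hfix u hu]
  · rw [ha, hb, e'']

end Cfsg.Agent.S4301
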