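import Cfsg.Statements.S4302
import Cfsg.Agent.Lib.KS9.TF
import Cfsg.Agent.Lib.Push.Baum
import Cfsg.Agent.Lib.Linear.PSL2Small
import Cfsg.Agent.Lib.BG1.Sec1

set_option autoImplicit false
open Cfsg

namespace Cfsg.Agent.S4302

open Subgroup Cfsg.Lib Cfsg.Lib.Amalg Cfsg.Lib.KS9 Cfsg.Lib.Push
open Cfsg.Lib.BG1 (mim)
open scoped commutatorElement
set_option linter.style.haveILetI false

variable {G : Type*} [Group G] [Finite G]

theorem sq_eq_one {V F H : Subgroup G} (h : FF 2 V F H) (n : ℕ) : ∀ A : Subgroup G, Nat.card A = n → A ≤ H →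
    IsMulCommutative A → IsPGroup 2 A → (∀ B, B ≤ A → ms V B ≤ ms V A) → ∀ a ∈ A, a ^ 2 = 1 := by
  induction n using Nat.strong_induction_on with
  | _ n ih =>
  intro A hn hA hc hp hmax a ha
  by_cases h0 : A = ⊥
  · rw [h0, mem_bot] at ha; simp [ha]
  have hAV := hA.trans h.norm
  have hAA : A ≤ 𝐂 A := comm_iff.1 hc
  obtain ⟨e1, e2⟩ := repl_eq h.elem.1 hAV (by rw [comm_eq_bot_iff.2 hAA]; exact bot_le) hmax (le_refl V)
  have hS : A ⊓ 𝐂 ⁅V, A⁆ ≤ H := inf_le_left.trans hA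
  have he := elemAb_of_quad h.elem (hS.trans h.norm) (h.faith_of_le hS) (comm_eq_bot_iff'.2 (inf_le_right.trans
    (Core.centralizer_anti (commutator_mono le_rfl inf_le_left))))
  have hb : IsBestOffenderOn 2 V (A ⊓ 𝐂 ⁅V, A⁆) := ⟨fun B hB => (hmax B (hB.trans inf_le_left)).trans e2.le,
    by rw [comm_eq_bot_iff.2 (comm_iff.1 he.1)]; exact bot_le, fun x hx => by rw [he.2 x hx]; exact one_mem _⟩
  obtain ⟨B, hB, hm⟩ : ∃ B, B ≤ A ⊓ 𝐂 ⁅V, A⁆ ∧ MinOff 2 V B := by
    by_contra! h1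
    have h2 := le_bot_iff.1 (h.le_of_forall_minOff hS hb (C := ⊥) fun B h2 h3 => (h1 B h2 h3).elim)
    refine h.comm_ne_bot hA h0 (eq_bot_of_eq_comm_sup_cent h.elem hAV (by rw [res_eq_bot hp]; exact bot_le) ?_)
    rw [← e1, h2]
    exact le_inf le_rfl (le_cent_symm bot_le)
  have hBA := hB.trans inf_le_left
  have hBH := hBA.trans hA
  have hW : A ≤ 𝐍 ⁅V, ⁅F, B⁆ ⊔ B⁆ := le_normalizer_of_cj_le fun x hx => by
    rw [cj_commutator, cj_sup, cj_commutator, cj_of_mem_normalizer (hAV hx), cj_of_mem_normalizer (h.normF (hA hx)),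
      cj_of_mem_centralizer (Core.centralizer_anti hBA (hAA hx))]
  have hBW : ¬ B ≤ 𝐂 ⁅V, ⁅F, B⁆ ⊔ B⁆ := fun e => FF.ne_bot_of_minOff hm
    (le_bot_iff.1 ((le_inf le_sup_right e).trans (h.faith_E hBH hm).le))
  set W := ⁅V, ⁅F, B⁆ ⊔ B⁆ with hWd
  have hWV : W ≤ V := comm_le_left ((h.comm_sup_le_H hBH).trans h.norm)
  have hi : (𝐂 W).relIndex A = 2 := by
    have h1 := relIndex_dvd_of_plane (h.elemAb_W (h.comm_sup_le_H hBH)) (h.card_W hBH hm) hW
    obtain ⟨k, hk⟩ := hp.index ((𝐂 W).subgroupOf A)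
    change (𝐂 W).relIndex A = _ at hk
    rw [hk] at h1 ⊢
    rcases k with _ | _ | k
    · exact absurd (hBA.trans (relIndex_eq_one.1 hk)) hBW
    · rfl
    · exact absurd ((pow_dvd_pow 2 (by omega : 2 ≤ k + 1 + 1)).trans h1) (by norm_num)
  have hc2 : Nat.card (A ⊓ 𝐂 W : Subgroup G) * 2 = Nat.card A := by
    rw [← hi, ← inf_relIndex_left, Transfer.card_mul_relIndex inf_le_left]
  have hlt : V ⊓ 𝐂 A < V ⊓ 𝐂 (A ⊓ 𝐂 W) := lt_of_le_of_ne (inf_le_inf_left _ (Core.centralizer_anti inf_le_left)) fun e =>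
    hBW (hBA.trans (le_cent_symm ((le_inf hWV (le_cent_symm inf_le_right)).trans (e.ge.trans inf_le_right))))
  have h3 := mul_card_le_of_lt ((elemAb_isPGroup h.elem).to_inf_left) hlt
  have h4 := ih _ (by have := card_pos' (A ⊓ 𝐂 W); omega) (A ⊓ 𝐂 W) rfl (inf_le_left.trans hA)
    (comm_iff.2 (comm_mono hAA inf_le_left)) hp.to_inf_left fun C hC => (hmax C (hC.trans inf_le_left)).trans (by
      rw [ms, ms, ← hc2, mul_assoc]; exact Nat.mul_le_mul_left _ h3)
  by_cases haW : a ∈ 𝐂 W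
  · exact h4 a ⟨ha, haW⟩
  obtain ⟨b, hb1, hb2⟩ := SetLike.not_le_iff_exists.1 hBW
  have h5 := (mul_mem_iff_of_index_two hi (a := ⟨a, ha⟩) (b := ⟨b, hBA hb1⟩)).2 (iff_of_false haW hb2)
  have h6 := h4 (a * b) ⟨A.mul_mem ha (hBA hb1), h5⟩
  rwa [Commute.mul_pow (setLike_mul_comm (s := A) ha (hBA hb1)), he.2 b (hB hb1), mul_one] at h6

theorem best_of_la {V T A : Subgroup G} (hV : PRed 2 V ⊤) (hs : IsPSolvable 2 (⊤ : Subgroup G)) (hT : IsPGroup 2 T)
    (hVT : V ≤ T) (hA : LA T A) : IsBestOffenderOn 2 V A := by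
  have h := model_hol V
  have hn : A ≤ 𝐍 V := le_top.trans hV.norm
  have hmax : ∀ B, B ≤ A → ms V B ≤ ms V A := fun B hB => by
    have h2 := hA.max (B ⊔ (V ⊓ 𝐂 B)) (sup_le (hB.trans hA.le) (inf_le_left.trans hVT))
      (sup_comm_of (comm_mono hA.comm hB) (comm_mono (elemAb_le_cent hV.elemAb) inf_le_left) (le_cent_symm inf_le_right))
    rw [ms, ← Core.card_sup_mul_card_inf ((le_cent_symm inf_le_right).trans (cent_le_norm (V ⊓ 𝐂 B)))]
    exact Nat.mul_le_mul h2 (card_le_of_le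
      (le_inf (inf_le_right.trans inf_le_left) (inf_le_left.trans (hB.trans hA.comm))))
  refine ⟨hmax, by rw [comm_eq_bot_iff.2 hA.comm]; exact bot_le, fun a ha => ?_⟩
  have := sq_eq_one (ff_of_normal h hV hs le_rfl le_normalizer) _ _ rfl (BG1.mim_mono _ (le_top : A ≤ ⊤))
    (BG1.isMulCommutative_mim _ (comm_iff.2 hA.comm)) (BG1.isPGroup_mim _ (hT.to_le hA.le)) (fun Y hY => by
      obtain ⟨B, h1, h2, h3, rfl⟩ := h.exists_pre hY
      have e : B ⊓ 𝐂 V = A ⊓ 𝐂 V := le_antisymm (inf_le_inf_right _ h1) (le_inf h3 inf_le_right)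
      refine Nat.le_of_mul_le_mul_right ?_ (card_pos' (A ⊓ 𝐂 V))
      have := hmax B h1
      rwa [← h.ms_mul h2, ← h.ms_mul hn, e] at this) _ (BG1.mem_mim_of_mem (hn ha) ha)
  rw [← map_pow] at this
  exact h.ker ▸ (BG1.mem_mker_iff (pow_mem (hn ha) 2)).2 this

theorem prod_equiv {V F H : Subgroup G} (h : FF 2 V F H) (hg : FF.Gen 2 V H) (h0 : H ≠ ⊥) :
    ∃ n : ℕ, 1 ≤ n ∧ Nonempty (H ≃* (Fin n → Equiv.Perm (Fin 3))) := by
  classical
  let I := Subtype (IsFac 2 V F H)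
  letI : Fintype I := Fintype.ofFinite _
  obtain ⟨E₀, hE₀⟩ := h.exists_fac hg h0
  haveI : Nonempty I := ⟨⟨E₀, hE₀⟩⟩
  have hc : Pairwise fun i j : I => ∀ x y : G, x ∈ i.1 → y ∈ j.1 → Commute x y := fun i j hij x y hx hy =>
    (h.fac_dichotomy i.2 j.2 fun e => hij (Subtype.ext e)).2 hy x hx
  have hind : iSupIndep fun E : I => (E : Subgroup G) := fun E => by
    rw [disjoint_iff, ← le_bot_iff, ← h.fac_faith E.2]
    exact inf_le_inf_left _ (iSup₂_le fun E' hE =>
      (h.fac_dichotomy E.2 E'.2 fun e' => hE (Subtype.ext e'.symm)).1)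
  have hr : (noncommPiCoprod hc).range = H := by
    rw [noncommPiCoprod_range]
    exact le_antisymm (iSup_le fun E => h.fac_le E.2) (h.le_of_fac hg fun E hE =>
      le_iSup (fun E : I => (E : Subgroup G)) ⟨E, hE⟩)
  obtain ⟨e⟩ := Linear.sl2_two_equiv (F := ZMod 2) (Nat.card_zmod 2)
  exact ⟨Fintype.card I, Fintype.card_pos, ⟨(MulEquiv.subgroupCongr hr.symm).trans
    ((MonoidHom.ofInjective (injective_noncommPiCoprod_of_iSupIndep hind)).symm.trans
      ((MulEquiv.piCongrRight fun E : I => (h.fac_equiv E.2).some.trans e).trans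
        (MulEquiv.arrowCongr (Fintype.equivFin I) (MulEquiv.refl _))))⟩⟩


/-- Let `X` be a finite solvable group whose Fitting subgroup is a 2-group (equivalently `F(X) = O₂(X)`), `T` a Sylow 2-subgroup of `X`, `J(T)` the subgroup generated by the abelian subgroups of `T` of largest order, `C` the largest normal subgroup of `X` centralizing the centre `Z(T)`, and `Y` the normal closure of `J(T)` in `X`. Then `X = C · Y · N_X(J(T))`, and either `Y ≤ C`, or `CY/C` is isomorphic to a direct product of at least one copy of the symmetric group of degree 3. -/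
theorem result {X : Type*} [Group X] [Finite X]
    [Group.IsSolvable X] (hF : Cfsg.fittingSubgroup X = Cfsg.pCore 2 X) (T : Sylow 2 X) :
    ((Subgroup.centralizer (((T : Subgroup X) ⊓ Subgroup.centralizer ((T : Subgroup X) : Set X) : Subgroup X) : Set X)).normalCore
        ⊔ Subgroup.normalClosure (Cfsg.thompsonSubgroupAOf (T : Subgroup X) : Set X)
        ⊔ Subgroup.normalizer (Cfsg.thompsonSubgroupAOf (T : Subgroup X) : Set X) = ⊤) ∧
    (Subgroup.normalClosure (Cfsg.thompsonSubgroupAOf (T : Subgroup X) : Set X)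
        ≤ (Subgroup.centralizer (((T : Subgroup X) ⊓ Subgroup.centralizer ((T : Subgroup X) : Set X) : Subgroup X) : Set X)).normalCore
      ∨ ∃ n : ℕ, 1 ≤ n ∧
        Nonempty (↥(Subgroup.normalClosure (Cfsg.thompsonSubgroupAOf (T : Subgroup X) : Set X)) ⧸
            ((Subgroup.centralizer (((T : Subgroup X) ⊓ Subgroup.centralizer ((T : Subgroup X) : Set X) : Subgroup X) : Set X)).normalCore).subgroupOf
              (Subgroup.normalClosure (Cfsg.thompsonSubgroupAOf (T : Subgroup X) : Set X))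
          ≃* (Fin n → Equiv.Perm (Fin 3)))) := by
  have hT := syl_top T
  set J := thompsonSubgroupAOf (T : Subgroup X)
  set Y := normalClosure (J : Set X)
  set Z : Subgroup X := (T : Subgroup X) ⊓ centralizer ((T : Subgroup X) : Set X)
  have hJY : J ≤ Y := le_normalClosure
  refine ⟨top_le_iff.1 fun g _ => ?_, or_iff_not_imp_left.2 fun hY => ?_⟩
  · obtain ⟨y, hy, e⟩ := (hT.inf_normal_top Y).exists_conj ((hT.inf_normal_top Y).conj_of_mem_normalizer (g := g)
      (by rw [normalizer_eq_top]; trivial))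
    have h1 : y⁻¹ * g ∈ 𝐍 J := by
      rw [show J = _ from JA_eq_of_le inf_le_left fun A hA => le_inf hA.le (hA.le_JA.trans hJY)]
      exact norm_le_norm_JA _ (cj_eq_self_iff.1 (by rw [cj_mul, ← e, cj_inv_cj]))
    simpa using mul_mem (mem_sup_left (mem_sup_right hy)) (mem_sup_right h1)
  have hO : 𝐂 (pCore 2 X) ≤ pCore 2 X := hF ▸ Core.centralizer_fitting_le
  haveI := Core.pCore_characteristic 2 X
  let V₀ := normalClosure (Z : Set X)
  have hV₀ : V₀ ≤ pCore 2 X ⊓ 𝐂 (pCore 2 X) := normalClosure_le_normal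
    (le_inf (inf_le_right.trans ((Core.centralizer_anti hT.pCore_le).trans hO))
      (inf_le_right.trans (Core.centralizer_anti hT.pCore_le)))
  have hc0 : IsMulCommutative V₀ := comm_iff.2 ((hV₀.trans inf_le_right).trans (Core.centralizer_anti (hV₀.trans inf_le_left)))
  have hp0 : IsPGroup 2 V₀ := (Core.isPGroup_pCore 2 X).to_le (hV₀.trans inf_le_left)
  have hC : (𝐂 Z).normalCore = 𝐂 V₀ := le_antisymm
    (le_cent_symm (normalClosure_le_normal (le_cent_symm (normalCore_le _))))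
    (normal_le_normalCore.2 (Core.centralizer_anti le_normalClosure))
  have hred : ∀ D : Subgroup X, D.Normal → pResidualOf 2 D ≤ 𝐂 V₀ → D ≤ 𝐂 V₀ := fun D _ hD => by
    rw [← hC, normal_le_normalCore, ← (hT.inf_normal_top D).res_sup]
    exact sup_le (hD.trans (Core.centralizer_anti le_normalClosure)) (inf_le_left.trans (le_cent_symm inf_le_right))
  haveI := om_normal (p := 2) V₀
  have hCV : 𝐂 (omegaOne 2 V₀) = 𝐂 V₀ := le_antisymm (hred _ inferInstance (res_le_of_forall_pPrime fun A hA hA' =>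
    BG1.coprime_abelian_faithful_omega Nat.prime_two (by rw [normalizer_eq_top]; exact le_top)
      (Core.coprime_card_of_isPGroup Nat.prime_two hp0 hA').symm hc0 hp0 hA)) (Core.centralizer_anti (om_le _))
  have hV : PRed 2 (omegaOne 2 V₀) ⊤ := ⟨le_top, by rw [normalizer_eq_top], isElemAb_om hc0, fun K _ hK h => by
    rw [hCV] at h ⊢; exact hred K (normalizer_eq_top_iff.1 (top_le_iff.1 hK)) h⟩
  have hs : IsPSolvable 2 (⊤ : Subgroup X) := Core.isPSolvable_of_isSolvable Nat.prime_two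
  have h := model_hol (omegaOne 2 V₀)
  have hn : ∀ A : Subgroup X, A ≤ 𝐍 (omegaOne 2 V₀) := fun A => le_top.trans hV.norm
  obtain ⟨n, h1, ⟨e⟩⟩ := prod_equiv (ff_of_normal h hV hs (le_top : Y ≤ ⊤) (by rw [normalizer_eq_top])) (by
    refine le_antisymm ?_ (iSup_le fun A => A.2.1)
    rw [BG1.mim_le_iff (hn _)]
    refine (normalClosure_eq_iSup_cj J).le.trans (iSup_le fun g => cj_le_iff.2 (JA_le_iff.2 fun A hA => cj_le_iff.1 ?_))
    rw [← BG1.mim_le_iff (hn _)]
    exact le_iSup_of_le ⟨_, BG1.mim_mono _ (cj_le_of_le_of_mem_normalizer (hA.le_JA.trans hJY)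
      (by rw [normalizer_eq_top]; trivial)), h.best (hn _) (best_cj (best_of_la hV hs T.2
        ((om_le _).trans ((hV₀.trans inf_le_left).trans hT.pCore_le)) hA) (hn ⊤ (mem_top g)))⟩ le_rfl)
    fun e => hY (by rw [hC, ← hCV]; exact (h.pi_eq_bot_iff (hn _)).1 e)
  obtain ⟨_, ⟨e'⟩⟩ := quotient_equiv_mim _ (hn Y) (h.ker.trans (hCV.trans hC.symm))
  exact ⟨n, h1, ⟨e'.trans e⟩⟩

end Cfsg.Agent.S4302
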