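import Cfsg.Statements.S4303
import Cfsg.Agent.Lib.Hall.SylNum

set_option autoImplicit false
universe u
open Cfsg

namespace Cfsg.Agent.S4303

open scoped Pointwise commutatorElement
open Cfsg.Lib Cfsg.Lib.Hall

/-- For a finite group `G` and a prime `p`, the number of Sylow `p`-subgroups of `G` is a product of natural numbers each of which is either a prime power congruent to 1 modulo `p` or the number of Sylow `p`-subgroups of some finite simple group. -/
theorem result {G : Type u} [Group G] [Finite G]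
    (p : ℕ) [Fact p.Prime] :
    ∃ l : List ℕ, l.prod = Nat.card (Sylow p G) ∧
      ∀ m ∈ l, (IsPrimePow m ∧ m % p = 1) ∨
        ∃ (S : Type u) (_ : Group S) (_ : Finite S), IsSimpleGroup S ∧ m = Nat.card (Sylow p S) := by
  refine card_sylow_induction (p := p) (fun n => ∃ l : List ℕ, l.prod = n ∧
      ∀ m ∈ l, (IsPrimePow m ∧ m % p = 1) ∨
        ∃ (S : Type u) (_ : Group S) (_ : Finite S), IsSimpleGroup S ∧ m = Nat.card (Sylow p S))
    ⟨[], rfl, by simp⟩ (fun a b ⟨l, hl, h⟩ ⟨l', hl', h'⟩ => ⟨l ++ l', by rw [List.prod_append, hl, hl'],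
      fun m hm => (List.mem_append.mp hm).elim (h m) (h' m)⟩)
    (fun q a hq h => ?_) False (fun S _ _ hS _ => ⟨[_], List.prod_singleton, fun m hm =>
      Or.inr ⟨S, _, inferInstance, hS, List.mem_singleton.mp hm⟩⟩) _ G rfl False.elim
  rcases Nat.eq_zero_or_pos a with rfl | ha
  · exact ⟨[], by simp, by simp⟩
  · refine ⟨[_], List.prod_singleton, fun m hm => Or.inl ?_⟩
    rw [List.mem_singleton.mp hm]
    exact ⟨⟨q, a, hq.prime, ha, rfl⟩, Eq.trans h (Nat.mod_eq_of_lt (Fact.out : p.Prime).one_lt)⟩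

end Cfsg.Agent.S4303
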