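import Cfsg.Statements.S4305
import Cfsg.Agent.Lib.Hall.FpfG

set_option autoImplicit false
open Cfsg

namespace Cfsg.Agent.S4305

open scoped Pointwise commutatorElement
open Cfsg.Lib Cfsg.Lib.Hall

open Subgroup Cfsg.Lib.SigC

/-- Let the symmetric group of degree 3 act by automorphisms on a finite solvable group `G` of order prime to 6, so that only the identity of `G` is fixed by all of it. Then the derived subgroup of `G` is nilpotent. -/
theorem result {G : Type*} [Group G] [Finite G] [Group.IsSolvable G]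
    [MulDistribMulAction (Equiv.Perm (Fin 3)) G] (hcop : (Nat.card G).Coprime 6)
    (hfpf : ∀ g : G, (∀ a : Equiv.Perm (Fin 3), a • g = g) → g = 1) :
    Group.IsNilpotent ↥(commutator G) := by
  obtain ⟨Γ, _, _, i, j, hi, hj, h1, h2, h3⟩ :=
    fc_ambient (MulDistribMulAction.toMulAut (Equiv.Perm (Fin 3)) G) inferInstance hfpf
  have e : Nat.card ((⊤ : Subgroup (Equiv.Perm (Fin 3))).map j) = 2 * 3 := by
    rw [card_map_of_injective hj, card_top, Nat.card_eq_fintype_card]; rfl
  haveI : Group.IsSolvable (⊤ : Subgroup (Equiv.Perm (Fin 3))) := by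
    haveI : Group.IsSolvable (Equiv.Perm (Fin 3)) := ⟨⟨2, by
      rw [eq_bot_iff]
      refine commutator_le.2 fun a ha b hb => ?_
      have h : derivedSeries (Equiv.Perm (Fin 3)) 1 ≤ alternatingGroup (Fin 3) := commutator_le.2 fun a _ b _ => by
        simp [Equiv.Perm.mem_alternatingGroup, commutatorElement_eq_one_iff_mul_comm, mul_comm]
      have ha := Equiv.Perm.mem_alternatingGroup.1 (h ha)
      have hb := Equiv.Perm.mem_alternatingGroup.1 (h hb)
      exact mem_bot.2 ((by decide : ∀ a b : Equiv.Perm (Fin 3), Equiv.Perm.sign a = 1 → Equiv.Perm.sign b = 1 →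
        a * b * a⁻¹ * b⁻¹ = 1) a b ha hb)⟩⟩
    infer_instance
  have h4 := S3.der_le_fitting ⟨Group.isSolvable_of_surjective (j.subgroupMap_surjective ⊤), e, fun h => ?_,
    j (finRotate 3), ⟨_, trivial, rfl⟩, fun h => ?_, ?_, ?_⟩ h1 h2 (by rw [e, card_map_of_injective hi, card_top]; exact hcop.symm) h3
  · have h5 := BG1.nilpotent_of_le h4 (BG1.fittingOf_nilpotent _)
    rw [← map_commutator, ← nres_eq_bot_iff, ← map_nres, Subgroup.map_eq_bot_iff_of_injective _ hi, nres_eq_bot_iff] at h5
    exact h5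
  · have := Coprime.mul_comm_of_mem (V := (⊤ : Subgroup (Equiv.Perm (Fin 3))).map j) ⟨finRotate 3, trivial, rfl⟩
      ⟨Equiv.swap 0 1, trivial, rfl⟩
    rw [← map_mul, ← map_mul] at this
    exact absurd (hj this) (by decide)
  · exact absurd (hj (h.trans (map_one j).symm)) (by decide)
  · rw [← map_mul, ← map_inv]; exact congrArg _ (by decide)
  · rintro _ ⟨b, -, rfl⟩
    have : b = finRotate 3 ^ 0 ∨ b = finRotate 3 ^ 1 ∨ b = finRotate 3 ^ 2 ∨
        (b * finRotate 3 * b⁻¹ = (finRotate 3)⁻¹ ∧ b * b = 1) := by revert b; decide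
    rcases this with h | h | h | h
    · exact Or.inl (by rw [h, map_pow]; exact pow_mem (mem_zpowers _) _)
    · exact Or.inl (by rw [h, map_pow]; exact pow_mem (mem_zpowers _) _)
    · exact Or.inl (by rw [h, map_pow]; exact pow_mem (mem_zpowers _) _)
    · exact Or.inr ⟨by rw [← map_inv, ← map_mul, ← map_mul, h.1, map_inv], by rw [← map_mul, h.2, map_one]⟩

end Cfsg.Agent.S4305
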