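import Cfsg.Statements.S4306
import Cfsg.Agent.Lib.Hall.FpfF

set_option autoImplicit false
open Cfsg

namespace Cfsg.Agent.S4306

open scoped Pointwise commutatorElement
open Cfsg.Lib Cfsg.Lib.Hall

open Subgroup Cfsg.Lib.SigC

/-- Let `A` be a non-abelian group of order `pq` with `p, q` distinct primes, acting by automorphisms on a finite solvable group `G` of order prime to `pq`, so that only the identity of `G` is fixed by all of `A`. Then `G` has Fitting height at most 2: there is a normal nilpotent subgroup `F` of `G` with `G/F` nilpotent. -/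
theorem result {G A : Type*} [Group G] [Finite G]
    [Group.IsSolvable G] [Group A] [Finite A] [MulDistribMulAction A G] (p q : ℕ) (hp : p.Prime) (hq : q.Prime) (hpq : p ≠ q)
    (hA : Nat.card A = p * q) (hAna : ¬ IsMulCommutative A) (hcop : (Nat.card G).Coprime (p * q))
    (hfpf : ∀ g : G, (∀ a : A, a • g = g) → g = 1) :
    ∃ F : Subgroup G, ∃ hF : F.Normal, Group.IsNilpotent ↥F ∧ Group.IsNilpotent (G ⧸ F) := by
  obtain ⟨Γ, _, _, i, j, hi, hj, h1, h2, h3⟩ := fc_ambient (MulDistribMulAction.toMulAut A G) inferInstance hfpf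
  have e : Nat.card ((⊤ : Subgroup A).map j) = p * q := by rw [card_map_of_injective hj, card_top, hA]
  have h4 := (nresN_map_eq_bot_iff hi).1 (ff_two ⟨p, q, hp, hq, e, Or.inr fun h => hAna ⟨⟨fun a b => hj (by
    rw [map_mul, map_mul]; exact Coprime.mul_comm_of_mem (V := (⊤ : Subgroup A).map j) ⟨a, trivial, rfl⟩ ⟨b, trivial, rfl⟩)⟩⟩⟩
    h1 h2 (by rw [e, card_map_of_injective hi, card_top]; exact hcop.symm) h3)
  haveI : (nres (⊤ : Subgroup G)).Normal := nresN_normal 1 ⊤
  refine ⟨nres ⊤, inferInstance, nres_eq_bot_iff.1 h4, ?_⟩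
  have h5 : nres ((⊤ : Subgroup G).map (QuotientGroup.mk' (nres ⊤))) = ⊥ := by
    rw [← map_nres, Subgroup.map_eq_bot_iff, QuotientGroup.ker_mk']
  rw [map_top_of_surjective _ (QuotientGroup.mk'_surjective _), nres_eq_bot_iff] at h5
  exact Group.nilpotent_of_mulEquiv topEquiv

end Cfsg.Agent.S4306
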