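import Cfsg.Statements.S4310
import Cfsg.Agent.Lib.FT.Cor

set_option autoImplicit false
open Cfsg

namespace Cfsg.Agent.S4310

open Cfsg.Lib Cfsg.Lib.Hall Cfsg.Lib.FT Subgroup
open Cfsg.Lib.Core (IsPiNumber)
open scoped Pointwise

theorem conjA {G : Type*} [Group G] {π : Set ℕ} {A : Subgroup G} (hA : Cfsg.IsCPiGroup π ↥A)
    {H K : Subgroup G} (hH : IsPiHallOf π H A) (hK : IsPiHallOf π K A) :
    ∃ g ∈ A, MulAut.conj g • H = K := by
  obtain ⟨hHM, hH'⟩ := isPiHallOf_iff_subgroupOf.mp hH
  obtain ⟨hKM, hK'⟩ := isPiHallOf_iff_subgroupOf.mp hK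
  obtain ⟨g, hg⟩ := hA.2 _ _ hH' hK'
  exact ⟨g, g.2, conj_smul_eq_of_subgroupOf hHM hKM g hg.symm⟩

theorem surj {G : Type*} [Group G] {π : Set ℕ} {A : Subgroup G} [A.Normal]
    (hA : Cfsg.IsCPiGroup π ↥A) {H : Subgroup G} (hH : IsPiHallOf π H A) :
    Function.Surjective ((QuotientGroup.mk' A).comp (normalizer (H : Set G)).subtype) := by
  intro q
  obtain ⟨g, rfl⟩ := QuotientGroup.mk'_surjective A q
  obtain ⟨m, hm, h⟩ := conjA hA hH (isPiHallOf_conj_smul hH (g := g)
    (by rw [Subgroup.normalizer_eq_top]; trivial))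
  refine ⟨⟨m⁻¹ * g, ?_⟩, ?_⟩
  · rw [← conj_smul_eq_self_iff, conj_mul_smul, ← h, conj_inv_smul_conj_smul]
  · simp only [MonoidHom.comp_apply, coe_subtype, map_mul]
    rw [show QuotientGroup.mk' A m⁻¹ = 1 from (QuotientGroup.eq_one_iff _).2 (A.inv_mem hm), one_mul]

theorem ker_eq {G : Type*} [Group G] (A X : Subgroup G) [A.Normal] :
    ((QuotientGroup.mk' A).comp X.subtype).ker = A.subgroupOf X := by
  rw [← MonoidHom.comap_ker, QuotientGroup.ker_mk']; rfl

theorem lni {G : Type*} [Group G] (L A : Subgroup G) [A.Normal] : L ≤ normalizer ((L ⊓ A : Subgroup G) : Set G) :=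
  le_trans (le_inf le_normalizer (by rw [normalizer_eq_top A]; exact le_top)) inf_normalizer_le_normalizer_inf

theorem nrel {G : Type*} [Group G] [Finite G] (A X : Subgroup G) [A.Normal] : X.relIndex (A ⊔ X) = X.relIndex A := by
  have e1 := relIndex_mul_relIndex (A ⊓ X) X (A ⊔ X) inf_le_right le_sup_right
  have e2 := relIndex_mul_relIndex (A ⊓ X) A (A ⊔ X) inf_le_left le_sup_left
  rw [relIndex_sup_left, inf_relIndex_left] at e2
  rw [inf_relIndex_right, ← e2, mul_comm] at e1
  exact Nat.eq_of_mul_eq_mul_right (Nat.pos_of_ne_zero index_ne_zero_of_finite) e1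

theorem relNM {G : Type*} [Group G] [Finite G] {π : Set ℕ} {A H : Subgroup G}
    (hH : IsPiHallOf π H A) :
    IsPiNumber πᶜ ((H.subgroupOf (normalizer (H : Set G))).relIndex (A.subgroupOf (normalizer (H : Set G)))) ∧
    IsPiNumber πᶜ ((normalizer (H : Set G)).relIndex A) := by
  obtain ⟨h1, -, h3⟩ := isPiHallOf_iff.1 hH
  have e := relIndex_mul_relIndex H (normalizer (H : Set G) ⊓ A) A (le_inf le_normalizer h1) inf_le_right
  rw [← e, Core.isPiNumber_mul_iff, inf_relIndex_right] at h3
  refine ⟨?_, h3.2⟩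
  rw [← inf_subgroupOf_left A, relIndex_subgroupOf inf_le_left]
  exact h3.1

/-- Let `π` be a set of primes and `A` a normal subgroup of the finite group `G`. Suppose `A` has a Hall `π`-subgroup and all Hall `π`-subgroups of `A` are conjugate in `A`, and likewise for `G/A`. Then `G` has a Hall `π`-subgroup and all Hall `π`-subgroups of `G` are conjugate. (The conjugacy of complements of coprime order that the usual proof uses rests, in general, on the odd order Theorem.) -/
theorem result {G : Type*} [Group G] [Finite G] (π : Set ℕ) (A : Subgroup G) [A.Normal]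
    (hA : Cfsg.IsCPiGroup π ↥A) (hQ : Cfsg.IsCPiGroup π (G ⧸ A)) : Cfsg.IsCPiGroup π G := by
  constructor
  · obtain ⟨H0, hH0⟩ := hA.1
    obtain ⟨K, hK⟩ := hQ.1
    have hH := isPiHallOf_map_subtype hH0
    set H := H0.map A.subtype
    set X := normalizer (H : Set G) with hX
    have hs := surj hA hH
    set f := (QuotientGroup.mk' A).comp X.subtype
    have : (H.subgroupOf X).Normal := normal_in_normalizer
    obtain ⟨L, h1, h2, h3⟩ := hall_exists_step (π := π) (N := H.subgroupOf X) (M := A.subgroupOf X)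
      (H := K.comap f) (subgroupOf_mono _ hH.1) (Or.inr (relNM hH).1)
      (by rw [← ker_eq]; exact ker_le_comap _ _)
      (by rw [← ker_eq, relIndex_ker, map_comap_eq_self_of_surjective hs]; exact hK.1)
      (by rw [index_comap_of_surjective _ hs]; exact (isPiHall_iff.1 hK).2)
    refine ⟨L.map X.subtype, isPiHall_iff.2 ⟨?_, ?_⟩⟩
    · rw [card_map_of_injective X.subtype_injective, ← relIndex_bot_left, ← relIndex_mul_relIndex ⊥ _ _ bot_le h1, relIndex_bot_left]
      exact (Core.isPi_subgroupOf hH.2.1 X).mul h2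
    · rw [index_map_subtype]
      refine h3.mul ?_
      have : A ⊔ X = ⊤ := by
        rw [← QuotientGroup.comap_map_mk', ← X.range_subtype, ← MonoidHom.range_comp,
          MonoidHom.range_eq_top.2 hs, comap_top]
      rw [← relIndex_top_right, ← this, nrel]
      exact (relNM hH).2
  · intro L1 L2 h1 h2
    obtain ⟨a, -, ha⟩ := conjA hA (isPiHallOf_inf_normal h1 A) (isPiHallOf_inf_normal h2 A)
    have h1' := isPiHall_conj_smul h1 a
    have e : MulAut.conj a • L1 ⊓ A = L2 ⊓ A := by
      rw [← ha, smul_inf, conj_smul_eq_self_iff.2 (show a ∈ normalizer (A : Set G) by rw [normalizer_eq_top]; trivial)]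
    suffices ∃ g : G, L2 ≤ MulAut.conj g • MulAut.conj a • L1 by
      obtain ⟨g, hg⟩ := this
      exact ⟨g * a, by rw [← conj_smul_eq_map, conj_mul_smul, conj_eq_of_le_conj h1' h2 hg]⟩
    generalize MulAut.conj a • L1 = L at h1' e
    have hH := isPiHallOf_inf_normal h2 A
    set H := L2 ⊓ A with hHd
    set X := normalizer (H : Set G) with hX
    have hs := surj hA hH
    set f := (QuotientGroup.mk' A).comp X.subtype
    have : (H.subgroupOf X).Normal := normal_in_normalizer
    have n2 : L2 ≤ X := lni L2 A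
    have n1 : L ≤ X := by rw [hX, ← e]; exact lni L A
    have hL : IsPiHall π (L.subgroupOf X) := (isPiHallOf_iff_subgroupOf.1 (isPiHallOf_of_le h1' n1)).2
    have mp : ∀ Y ≤ X, (Y.subgroupOf X).map f = Y.map (QuotientGroup.mk' A) := fun Y hY => by
      rw [← map_map, map_subgroupOf_eq_of_le hY]
    obtain ⟨q, hq⟩ := hQ.2 _ _ (isPiHall_map_mk' h1' A) (isPiHall_map_mk' h2 A)
    obtain ⟨x, rfl⟩ := hs q
    obtain ⟨g, hg⟩ := hall_le_step (π := π) (N := H.subgroupOf X) (M := A.subgroupOf X) hL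
      (Core.isPi_subgroupOf h2.1 X) (Or.inr ⟨(relNM hH).1, solvable_or_of_coprime _ _ (by
        rw [card_map_mk']; exact ((Core.isPi_subgroupOf h2.1 X).coprime_compl (relNM hH).1).symm)⟩)
      ⟨x, by
        rw [← ker_eq A X, ← comap_map_eq, map_conj_smul, mp _ n1, conj_smul_eq_map, ← hq, ← mp _ n2]
        exact le_comap_map _ _⟩
    rw [sup_eq_left.2 (le_of_isPiHall_of_normal (isPiHall_conj_smul hL g) (Core.isPi_subgroupOf hH.2.1 X))] at hg
    refine ⟨g, ?_⟩
    have := map_mono (f := X.subtype) hg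
    rwa [map_conj_smul, map_subgroupOf_eq_of_le n2, map_subgroupOf_eq_of_le n1] at this

end Cfsg.Agent.S4310
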