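import Cfsg.Statements.S4314
import Cfsg.Agent.Lib.Hall.CsE
import Cfsg.Agent.Lib.PGrp.Basic
import Cfsg.Agent.Lib.PGrp.Cyclic

set_option autoImplicit false
open Cfsg

namespace Cfsg.Agent.S4314

open scoped Pointwise commutatorElement
open Cfsg.Lib Cfsg.Lib.Hall

open Subgroup Cfsg.Lib.Core

/-- Let `G` be a finite group every conjugacy class of which has size 1 or a prime. Then either `G` is nilpotent of class at most 2, or `G/Z(G)` is a non-abelian group of order `pq` for distinct primes `p, q` (a Frobenius group of order `pq`). -/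
theorem result {G : Type*} [Group G] [Finite G]
    (h : ∀ x : G, (Subgroup.centralizer ({x} : Set G)).index = 1 ∨ ((Subgroup.centralizer ({x} : Set G)).index).Prime) :
    Subgroup.upperCentralSeries G 2 = ⊤ ∨
      ∃ p q : ℕ, p.Prime ∧ q.Prime ∧ p ≠ q ∧ Nat.card (G ⧸ Subgroup.center G) = p * q ∧ ¬ IsMulCommutative (G ⧸ Subgroup.center G) := by
  by_cases hd : ∃ p q : ℕ, p.Prime ∧ q.Prime ∧ p ≠ q ∧ (∃ x : G, p ∣ cs x) ∧ ∃ x : G, q ∣ cs x
  · right
    obtain ⟨p, q, hp, hq, hpq, hx, hy⟩ := hd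
    have h0 : ∀ {r : ℕ} {x : G}, r.Prime → r ∣ cs x → r = cs x := fun hr e => by
      rcases h _ with e' | e'
      · exact absurd (Nat.dvd_one.1 (e' ▸ e)) hr.one_lt.ne'
      · exact (Nat.prime_dvd_prime_iff_eq hr e').1 e
    obtain ⟨K, C, _, hs, hi, hK, hC, -, h1, h2⟩ := cd_disc' (G := G) {p} ⟨p, rfl, hp, hx⟩ ⟨q, hpq.symm, hq, hy⟩
      fun a b ha hb e1 e2 g h1 h2 => e2 (((h0 hb h2).trans (h0 ha h1).symm).trans e1)
    obtain ⟨w, hw, zw⟩ := SetLike.not_le_iff_exists.1 hC
    obtain ⟨⟨k, hk⟩, hk1⟩ := ne_bot_iff_exists_ne_one.1 hK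
    have hk1 : k ≠ 1 := fun e => hk1 (Subtype.ext e)
    have hZ : center G ≤ C := (h1 w hw zw).2 ▸ center_le_cent w
    have h3 : K ⊓ center G = ⊥ := eq_bot_iff.2 (hi ▸ inf_le_inf_left _ hZ)
    have zk : k ∉ center G := fun e => hk1 (mem_bot.1 (h3 ▸ (⟨hk, e⟩ : k ∈ K ⊓ center G)))
    have h4 : cs w = Nat.card K := by
      rw [← relIndex_top_right, ← hs, relIndex_cent_sup K (h1 w hw zw).2.ge,
        ← Core.card_inf_mul_relIndex (centralizer {w}) K, inf_comm, (h1 w hw zw).1, card_bot, one_mul]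
    have h5 : (center G).index = cs w * cs k := by
      rw [h2 k hk hk1, ← relIndex_mul_index (le_sup_right : center G ≤ K ⊔ center G), relIndex_sup_right, h4,
        ← Core.card_inf_mul_relIndex (center G) K, inf_comm, h3, card_bot, one_mul]
    have pw := (h w).resolve_left fun e => zw (cs_eq_one_iff.1 e)
    have pk := (h k).resolve_left fun e => zk (cs_eq_one_iff.1 e)
    refine ⟨_, _, pw, pk, fun e => hpq ?_, h5, fun e => hk1 ?_⟩
    · have h6 : ∀ {r : ℕ}, r.Prime → (∃ x : G, r ∣ cs x) → r = cs k := fun hr ⟨x, hx⟩ => by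
        have := hx.trans (index_dvd_of_le (center_le_cent x))
        rw [h5, e, hr.dvd_mul, or_self] at this
        exact h0 hr this
      exact (h6 hp hx).trans (h6 hq hy).symm
    · have h6 : ⁅k, w⁆ ∈ K ⊓ center G := ⟨commutator_le_left K ⊤ (commutator_mem_commutator hk (mem_top w)),
        Normal.quotient_commutative_iff_commutator_le.1 e (commutator_mem_commutator (mem_top k) (mem_top w))⟩
      rw [h3, mem_bot, commutatorElement_eq_one_iff_mul_comm] at h6
      rw [← mem_bot, ← (h1 w hw zw).1]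
      exact ⟨hk, mem_cent_iff.2 h6⟩
  · left
    have h1 : ∀ x : G, commutator G ≤ centralizer {x} := fun x => by
      rcases h x with e | e
      · rw [index_eq_one.1 e]; exact le_top
      haveI := Fact.mk e
      obtain ⟨P⟩ : Nonempty (Sylow (cs x) G) := inferInstance
      haveI : Group.IsNilpotent (P : Subgroup G) := P.isPGroup'.isNilpotent
      haveI := isNilpotent_iff_coatom_normal.1 (ce_nil_of_sup (ce_sup_center P fun q hq hqp y hy =>
        hd ⟨q, _, hq, e, hqp, ⟨y, hy⟩, x, dvd_rfl⟩)) _ (isCoatom_of_index_prime e)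
      exact (PGrp.commutator_le_and_pow_mem_of_index_eq (p := cs x) _ rfl).1
    exact eq_top_iff.2 fun x _ => PGrp.mem_upperCentralSeries_two_iff.2 fun g => mem_center_iff.2 fun y =>
      (mem_cent_iff.1 (h1 y (commutator_mem_commutator (mem_top x) (mem_top g)))).symm

end Cfsg.Agent.S4314
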