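import Cfsg.Statements.S4316
import Cfsg.Agent.Lib.Block2.Bfc

set_option autoImplicit false
universe u
open Cfsg

namespace Cfsg.Agent.S4316

/-- There is a function `f` of two natural-number arguments with the following property. Let `q` be a prime and `A` an elementary abelian group of order `q³` acting by automorphisms on a finite group `G` of order prime to `q`, and suppose that for every non-identity `a ∈ A` the derived subgroup of the fixed-point subgroup `C_G(a)` has order at most `m`. Then the derived subgroup of `G` has order at most `f(q, m)`. -/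
theorem result :
    ∃ f : ℕ → ℕ → ℕ, ∀ (q m : ℕ) (A G : Type u) [Group A] [Finite A] [Group G] [Finite G] [MulDistribMulAction A G],
      q.Prime → Nat.card A = q ^ 3 → (∀ a b : A, a * b = b * a) → (∀ a : A, a ^ q = 1) → ¬ q ∣ Nat.card G →
      (∀ a : A, a ≠ 1 → Nat.card ↥(commutator ↥(FixedPoints.subgroup (Subgroup.zpowers a) G)) ≤ m) →
      Nat.card ↥(commutator G) ≤ f q m := by
  refine ⟨fun q m => (Finset.range (2 ^ q ^ 3 + 1)).sup fun s => Cfsg.Lib.Bfc.bfc
    ((((m ^ q ^ 3) ^ s).factorial ^ s) ^ (((m ^ q ^ 3) ^ s).factorial ^ s + 1)), ?_⟩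
  intro q m A G _ _ _ _ _ hq hcard hA he hcop h
  obtain ⟨s, hs, h1⟩ := Cfsg.Lib.Bfc.main (φ := MulDistribMulAction.toMulAut A G) (m := m) hA
    (by rw [hcard]; exact Nat.Coprime.pow_left 3 ((Nat.Prime.coprime_iff_not_dvd hq).2 hcop))
    hq hcard he (by
      intro a ha
      have e : Cfsg.Lib.Coprime.actFix (MulDistribMulAction.toMulAut A G) (Subgroup.zpowers a)
          = FixedPoints.subgroup (Subgroup.zpowers a) G := by
        ext x
        rw [Cfsg.Lib.Coprime.mem_actFix, FixedPoints.mem_subgroup]
        exact ⟨fun h b => h b.1 b.2, fun h b hb => h ⟨b, hb⟩⟩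
      rw [e]
      exact h a ha)
  exact h1.trans (Finset.le_sup (f := fun s => Cfsg.Lib.Bfc.bfc
    ((((m ^ q ^ 3) ^ s).factorial ^ s) ^ (((m ^ q ^ 3) ^ s).factorial ^ s + 1)))
    (Finset.mem_range.2 (Nat.lt_succ_of_le hs)))

end Cfsg.Agent.S4316
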