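import Cfsg.Statements.S4320
import Cfsg.Agent.Lib.Layer.Misc

set_option autoImplicit false
open Cfsg

namespace Cfsg.Agent.S4320

open Subgroup Cfsg.Lib.Core Cfsg.Lib.Amalg Cfsg.Lib.BG1 Cfsg.Lib.Layer

theorem det_lemma {R M κ : Type*} [CommRing R] [AddCommGroup M] [Module R M] [Fintype κ] (I : Ideal R) (x : κ → M)
    (d : κ → R) (h : ∀ k, d k • x k ∈ I • Submodule.span R (Set.range x)) :
    ∃ μ : R, (∀ k, μ • x k = 0) ∧ μ - ∏ k, d k ∈ I := by
  classical
  choose a ha hs using fun k => (Submodule.mem_ideal_smul_span_iff_exists_sum I x _).1 (h k)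
  let B : Matrix κ κ R := Matrix.diagonal d - Matrix.of fun k j => a k j
  have h1 : ∀ k, ∑ j, B k j • x j = 0 := fun k => by
    have := hs k
    rw [Finsupp.sum_fintype _ _ (by simp)] at this
    simp only [B, Matrix.sub_apply, Matrix.of_apply, sub_smul, Finset.sum_sub_distrib, this, Matrix.diagonal_apply,
      ite_smul, zero_smul, Finset.sum_ite_eq, Finset.mem_univ, if_true, sub_self]
  refine ⟨B.det, fun k => ?_, ?_⟩
  · calc B.det • x k = ∑ l, (B.adjugate * B) k l • x l := by
          simp [Matrix.adjugate_mul, Matrix.one_apply, ite_smul]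
      _ = ∑ j, B.adjugate k j • ∑ l, B j l • x l := by
          simp only [Matrix.mul_apply, Finset.sum_smul, Finset.smul_sum, mul_smul]
          exact Finset.sum_comm
      _ = 0 := by simp [h1]
  · rw [← Ideal.Quotient.eq, ← Matrix.det_diagonal, RingHom.map_det, RingHom.map_det]
    congr 1
    ext k j
    simp [B, Ideal.Quotient.eq_zero_iff_mem.2 (ha k j)]

universe u

theorem gens {G : Type u} {Γ : Type*} [Group G] [Finite G] [CommGroup Γ] [Finite Γ] (π : G →* Γ) (hπ : Function.Surjective π) :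
    ∃ (κ : Type u) (_ : Fintype κ) (x : κ → G) (d : κ → ℕ), closure (Set.range x) = ⊤ ∧ (∀ k, x k ^ d k ∈ π.ker) ∧
      ∏ k, d k = Nat.card Γ := by
  classical
  obtain ⟨ι, _, n, hn, ⟨e⟩⟩ := CommGroup.equiv_prod_multiplicative_zmod_of_finite Γ
  choose s hs using fun i => hπ (e.symm (Pi.mulSingle i (Multiplicative.ofAdd 1)))
  haveI := Fintype.ofFinite π.ker
  refine ⟨ι ⊕ π.ker, inferInstance, Sum.elim s Subtype.val, Sum.elim n fun _ => 1, ?_, ?_, ?_⟩
  · have h1 : π.ker ≤ closure (Set.range (Sum.elim s Subtype.val : ι ⊕ π.ker → G)) := fun g hg =>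
      subset_closure ⟨.inr ⟨g, hg⟩, rfl⟩
    rw [← comap_map_eq_self h1, eq_top_iff]
    intro g _
    have : e (π g) ∈ ((closure (Set.range (Sum.elim s Subtype.val : ι ⊕ π.ker → G))).map π).map e.toMonoidHom := by
      refine pi_mem_of_mulSingle_mem _ fun i => ?_
      haveI : NeZero (n i) := ⟨by have := hn i; omega⟩
      refine ⟨_, ⟨s i ^ (e (π g) i).toAdd.val, pow_mem (Subgroup.subset_closure (Set.mem_range_self (Sum.inl i))) _, rfl⟩, ?_⟩
      simp only [map_pow, hs, MulEquiv.toMonoidHom_eq_coe, MonoidHom.coe_coe, MulEquiv.apply_symm_apply,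
        ← Pi.mulSingle_pow, ← ofAdd_nsmul, nsmul_eq_mul, mul_one, ZMod.natCast_zmod_val, ofAdd_toAdd]
    obtain ⟨y, hy, h⟩ := this
    exact mem_comap.2 (e.injective h ▸ hy)
  · rintro (i | k)
    · simp only [Sum.elim_inl, MonoidHom.mem_ker, map_pow, hs, ← map_pow e.symm, ← Pi.mulSingle_pow, ← ofAdd_nsmul,
        nsmul_eq_mul, mul_one, ZMod.natCast_self, ofAdd_zero, Pi.mulSingle_one, map_one]
    · simp
  · rw [Nat.card_congr e.toEquiv, Nat.card_pi]
    simp [Nat.card_congr (Multiplicative.toAdd (α := ZMod _))]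

theorem core {G Γ B : Type*} [Group G] [Finite G] [CommGroup Γ] [Fintype Γ] [AddCommGroup B] (π : G →* Γ)
    (hπ : Function.Surjective π) (hk : π.ker ≤ _root_.commutator G) (c : G → Γ → B)
    (hc : ∀ x y δ, c (x * y) δ = c x δ + c y ((π x)⁻¹ * δ)) (g : G) : ∑ δ, c g δ = 0 := by
  classical
  let ρ : Representation ℤ Γ (Γ → B × ℤ) :=
    { toFun := fun γ => LinearMap.funLeft ℤ _ fun δ => γ⁻¹ * δ
      map_one' := by ext <;> simp
      map_mul' := fun a b => LinearMap.ext fun f => funext fun δ => by simp [mul_assoc] }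
  letI : Module (MonoidAlgebra ℤ Γ) (Γ → B × ℤ) := Module.compHom _ ρ.asAlgebraHom.toRingHom
  have hs : ∀ (μ : MonoidAlgebra ℤ Γ) (f : Γ → B × ℤ) δ, (μ • f) δ = ∑ γ, μ.coeff γ • f (γ⁻¹ * δ) := fun μ f δ => by
    show ρ.asAlgebraHom μ f δ = _
    rw [Representation.asAlgebraHom_def, MonoidAlgebra.lift_apply, Finsupp.sum_fintype _ _ (by simp)]
    simp [ρ]
  let D : G → Γ → B × ℤ := fun x δ => (c x δ, (if δ = π x then 1 else 0) - if δ = 1 then 1 else 0)
  have hD : ∀ x y, D (x * y) = D x + MonoidAlgebra.of ℤ Γ (π x) • D y := fun x y => funext fun δ => by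
    have : (MonoidAlgebra.of ℤ Γ (π x) • D y) δ = D y ((π x)⁻¹ * δ) := by
      show ρ.asAlgebraHom _ _ δ = _
      simp [ρ]
    rw [Pi.add_apply, this]
    simp only [D, hc, map_mul, inv_mul_eq_iff_eq_mul, mul_one, Prod.mk_add_mk, sub_add_sub_cancel']
  have hD1 : D 1 = 0 := by
    have := hD 1 1
    rw [map_one, map_one, one_smul, one_mul] at this
    exact left_eq_add.1 this
  obtain ⟨κ, _, x, d, h1, h2, h3⟩ := gens π hπ
  set M := Submodule.span (MonoidAlgebra ℤ Γ) (Set.range fun k => D (x k)) with hM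
  have hDM : ∀ g, D g ∈ M := fun g => by
    refine closure_induction (p := fun g _ => D g ∈ M) ?_ (hD1 ▸ M.zero_mem) (fun a b _ _ ha hb => ?_)
      (fun a _ ha => ?_) (h1.ge (mem_top g))
    · rintro _ ⟨k, rfl⟩; exact Submodule.subset_span ⟨k, rfl⟩
    · rw [hD]; exact M.add_mem ha (M.smul_mem _ hb)
    · have := hD a⁻¹ a
      rw [inv_mul_cancel, hD1, eq_comm, add_eq_zero_iff_eq_neg] at this
      rw [this]; exact M.neg_mem (M.smul_mem _ ha)
  let ε := MonoidAlgebra.lift ℤ ℤ Γ 1
  let φ : G →* Multiplicative ((Γ → B × ℤ) ⧸ (RingHom.ker ε • M)) := MonoidHom.mk'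
    (fun g => Multiplicative.ofAdd (Submodule.Quotient.mk (D g))) fun a b => by
      rw [← ofAdd_add, ← Submodule.Quotient.mk_add, hD]
      refine congrArg _ ((Submodule.Quotient.eq _).2 ?_)
      have : D a + MonoidAlgebra.of ℤ Γ (π a) • D b - (D a + D b) = (MonoidAlgebra.of ℤ Γ (π a) - 1) • D b := by
        rw [sub_smul, one_smul]; abel
      rw [this]
      exact Submodule.smul_mem_smul (by simp [RingHom.mem_ker, ε]) (hDM b)
  obtain ⟨μ, h4, h5⟩ := det_lemma (RingHom.ker ε) (fun k => D (x k)) (fun k => (d k : MonoidAlgebra ℤ Γ)) fun k => by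
    have := Abelianization.commutator_subset_ker φ (hk (h2 k))
    rw [MonoidHom.mem_ker, map_pow] at this
    rw [← Submodule.Quotient.mk_eq_zero, Nat.cast_smul_eq_nsmul]
    exact congrArg Multiplicative.toAdd this
  have h6 : ∀ g, μ • D g = 0 := fun g =>
    (show M ≤ LinearMap.ker (LinearMap.lsmul _ _ μ) from Submodule.span_le.2 (by rintro _ ⟨k, rfl⟩; exact h4 k)) (hDM g)
  have h7 : ∀ δ, μ.coeff δ = μ.coeff 1 := fun δ => by
    obtain ⟨g, rfl⟩ := hπ δ
    have := congrArg Prod.snd (congrFun (h6 g) (π g))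
    rw [hs, Prod.snd_sum] at this
    simp only [D, Prod.smul_snd, smul_eq_mul, mul_sub, Finset.sum_sub_distrib, mul_ite, mul_one, mul_zero,
      mul_eq_right, inv_eq_one, inv_mul_eq_one, Finset.sum_ite_eq', Finset.mem_univ, if_true, Pi.zero_apply,
      Prod.snd_zero] at this
    omega
  have h8 : μ.coeff 1 = 1 := by
    rw [RingHom.mem_ker, map_sub, ← Nat.cast_prod, map_natCast, h3, MonoidAlgebra.lift_apply,
      Finsupp.sum_fintype _ _ (by simp), sub_eq_zero, Nat.card_eq_fintype_card] at h5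
    simp only [h7, MonoidHom.one_apply, smul_eq_mul, mul_one, Finset.sum_const, Finset.card_univ, nsmul_eq_mul] at h5
    exact (mul_right_eq_self₀.1 h5).resolve_right (by simp)
  have := congrArg Prod.fst (congrFun (h6 g) 1)
  rw [hs, Prod.fst_sum] at this
  simp only [h7, h8, one_smul, mul_one, D, Pi.zero_apply, Prod.fst_zero] at this
  rw [← this]
  exact (Equiv.sum_comp (Equiv.inv Γ) _).symm


/-- The Principal Ideal Theorem of class field theory in its group-theoretic form: for every finite group `G`, the transfer homomorphism from `G` into the abelianization `G'/G''` of its derived subgroup `G'` is the trivial homomorphism. -/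
theorem result {G : Type*} [Group G] [Finite G] :
    MonoidHom.transfer (Abelianization.of : ↥(commutator G) →* Abelianization ↥(commutator G)) =
      (1 : G →* Abelianization ↥(commutator G)) := by
  ext g
  let T : (_root_.commutator G).LeftTransversal := default
  letI : Fintype (Abelianization G) := (_root_.commutator G).fintypeQuotientOfFiniteIndex
  let t : Abelianization G → G := fun q => T.2.leftQuotientEquiv q
  have ht : ∀ q, Abelianization.of (t q) = q := fun q => T.2.quotientGroupMk_leftQuotientEquiv q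
  have hm : ∀ (x : G) q, (t q)⁻¹ * x * t ((Abelianization.of x)⁻¹ * q) ∈ _root_.commutator G := fun x q => by
    rw [← Abelianization.ker_of, MonoidHom.mem_ker, map_mul, map_mul, map_inv, ht, ht]; group
  have := core Abelianization.of (fun q => ⟨t q, ht q⟩) (Abelianization.ker_of G).le
    (fun x q => Additive.ofMul (Abelianization.of (⟨_, hm x q⟩ : _root_.commutator G))) (fun x y δ => by
      rw [← ofMul_mul, ← map_mul]
      congr 2
      ext
      simp only [coe_mul, map_mul, mul_inv_rev, mul_assoc, mul_inv_cancel_left]) g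
  rw [← ofMul_prod] at this
  rw [MonoidHom.transfer_def _ T, MonoidHom.one_apply, ← Additive.ofMul.injective this]
  refine Finset.prod_congr rfl fun q _ => ?_
  congr 2
  rw [smul_apply_eq_smul_apply_inv_smul, smul_eq_mul, mul_assoc]
  obtain ⟨q, rfl⟩ := QuotientGroup.mk_surjective q
  rfl

end Cfsg.Agent.S4320
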