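import Cfsg.Statements.S4321
import Cfsg.Agent.Lib.Hall.CsD
import Cfsg.Agent.Lib.Amalg.Syl

set_option autoImplicit false
open Cfsg

namespace Cfsg.Agent.S4321

open Subgroup Cfsg.Lib Cfsg.Lib.Core Cfsg.Lib.Amalg Cfsg.Lib.Hall
open scoped commutatorElement

local notation "𝐂[" x "]" => centralizer ({x} : Set _)

section
variable {G : Type*} [Group G] [Finite G] {p : ℕ} [hp : Fact p.Prime]

theorem dv {a : G} (h : IsPGroup p (zpowers a)) (h1 : a ≠ 1) : p ∣ orderOf a :=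
  Nat.card_zpowers a ▸ dvd_card_of_isPGroup_ne_bot h (mt zpowers_eq_bot.1 h1)

theorem nc (hZ : ¬ p ∣ Nat.card (center G)) {a : G} (h : p ∣ orderOf a) : a ∉ center G :=
  fun e => hZ (h.trans (orderOf_dvd_natCard _ e))

theorem lem (hZ : ¬ p ∣ Nat.card (center G)) {a b : G} (ha : IsPGroup p (zpowers a)) (a1 : p ∣ cs a) (hb : IsPGroup p (zpowers b))
    (b1 : b ≠ 1) (h : ∀ w : G, p ∣ orderOf w → p ∣ cs w → (cs w).Coprime (cs b)) : False := by
  have b2 := (one_lt_cs (nc hZ (dv hb b1))).ne'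
  obtain ⟨P, hP⟩ := exists_sylow_le_of_not_dvd_index (p := p) (H := 𝐂[b]) fun e => b2 (Nat.coprime_self _ |>.1 (h b (dv hb b1) e))
  have s2 : 𝐂[b] ≤ (P : Subgroup G) ⊔ 𝐂 (P : Subgroup G) := by
    have := sylow_sup_centralizer_eq_top (P.subtype hP) fun u hu e => by
      have c : Commute b u := (mem_cent_iff.1 u.2).symm
      have co := coprime_orderOf_of_isPGroup hp.out hb (orderOf_coe u ▸ hu)
      refine b2 (Nat.eq_one_of_dvd_coprimes (h (b * u) ((dv hb b1).trans (orderOf_dvd_of_mem_zpowers (left_mem_zpowers_mul c co))) ?_)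
        (cs_dvd_mul_left c co) dvd_rfl)
      rw [cs_mul_of_coprime c co, ← cs_coe_eq_relIndex]
      exact e.mul_right _
    intro g hg
    obtain ⟨u, hu, v, hv, e⟩ := (mem_sup_of_le_normalizer' (centralizer_le_normalizer _)).1 (this ▸ mem_top (⟨g, hg⟩ : 𝐂[b]))
    rw [show g = u * v from (congrArg Subtype.val e).symm]
    exact mul_mem_sup hu fun s hs => congrArg Subtype.val (hv ⟨s, hP hs⟩ hs)
  have s3 : ∀ c : G, IsPGroup p (zpowers c) → p ∣ cs c → ∀ g : G, ∃ k ∈ (P : Subgroup G) ⊔ 𝐂 (P : Subgroup G), ∃ d ∈ 𝐂[c], g = k * d :=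
    fun c h1 h2 g => by
      obtain ⟨k, hk, e⟩ := factor_of_coprime_index (h c (dv h1 fun e => hp.out.one_lt.ne' (by
        rwa [e, cs_one, Nat.dvd_one] at h2)) h2).symm g
      exact ⟨k, s2 hk, e⟩
  have s4 : ∀ c : G, IsPGroup p (zpowers c) → p ∣ cs c → c ∈ (P : Subgroup G).normalCore := fun c h1 h2 g => by
    obtain ⟨x, -, hx⟩ := (syl_top P).exists_conj_le h1 le_top
    rw [cj_zpowers] at hx
    obtain ⟨k, hk, d, hd, e⟩ := s3 _ (P.isPGroup'.to_le hx) (by rwa [cs_conj]) (g * x⁻¹)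
    have : g * c * g⁻¹ = k * (x * c * x⁻¹) * k⁻¹ := by
      calc _ = g * x⁻¹ * (x * c * x⁻¹) * (g * x⁻¹)⁻¹ := by group
        _ = _ := by rw [e, mul_assoc k, mem_cent_iff.1 hd]; group
    rw [this]
    exact (mem_normalizer_iff.1 (sup_le le_normalizer (centralizer_le_normalizer _) hk) _).1 (zpowers_le.1 hx)
  have s5 : ∀ (N : Subgroup G) [N.Normal], N ≤ P → ∀ g : G, ¬ p ∣ cs g → g ∈ 𝐂 N := fun N _ hN g hg => by
    obtain ⟨x, hx⟩ := exists_conj_mem_centralizer_sylow P hg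
    simpa [mul_assoc] using (inferInstance : (𝐂 N).Normal).conj_mem _ (centralizer_le hN hx) x⁻¹
  have s6 : (P : Subgroup G).normalCore = P := by
    by_contra hne
    obtain ⟨g, g1, g2⟩ := SetLike.exists_of_lt (lt_of_le_of_ne (normalCore_le _) hne)
    have k : ∀ g ∈ (P : Subgroup G), g ∉ (P : Subgroup G).normalCore → g ∈ 𝐂 (P : Subgroup G).normalCore := fun g g1 g2 =>
      s5 _ (normalCore_le _) g fun e => g2 (s4 g (isPGroup_zpowers_of_mem P.isPGroup' g1) e)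
    refine not_dvd_index_of_sylow_le P (fun u hu => mem_cent_iff.2 ((?_ : u ∈ 𝐂 (P : Subgroup G).normalCore) a (s4 a ha a1)).symm) a1
    by_cases h1 : u ∈ (P : Subgroup G).normalCore
    · exact (mul_mem_cancel_right (k g g1 g2)).1 (k _ (mul_mem hu g1) fun e => g2 ((mul_mem_cancel_left h1).1 e))
    · exact k u hu h1
  haveI : (P : Subgroup G).Normal := s6 ▸ inferInstance
  have s7 : ∀ q : ℕ, q.Prime → q ≠ p → ∀ Q : Sylow q G, ⁅(P : Subgroup G), (P : Subgroup G)⁆ ≤ 𝐂 (Q : Subgroup G) := fun q hq hne Q => by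
    haveI := Fact.mk hq
    have a2 : ((P : Subgroup G) ⊓ 𝐂 (Q : Subgroup G) ⊔ (P : Subgroup G) ⊓ 𝐂 (P : Subgroup G)).subgroupOf P = ⊤ :=
      eq_top_of_forall_conj_mem fun ⟨c, hc⟩ => by
        by_cases h1 : p ∣ cs c
        swap
        · exact ⟨1, mem_subgroupOf.2 (mem_sup_right (by simpa using ⟨hc, s5 P le_rfl c h1⟩))⟩
        have h2 : ∀ g : G, ∃ k ∈ (P : Subgroup G), ∃ d ∈ 𝐂[c], g = k * d := fun g => by
          obtain ⟨k, hk, d, hd, rfl⟩ := s3 c (isPGroup_zpowers_of_mem P.isPGroup' hc) h1 g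
          obtain ⟨u, hu, v, hv, rfl⟩ := mem_sup_of_normal_left.1 hk
          exact ⟨u, hu, v * d, mul_mem (mem_cent_iff.2 (hv c hc).symm) hd, mul_assoc ..⟩
        obtain ⟨g, hg⟩ := exists_conj_mem_centralizer_sylow Q (x := c) fun e => by
          obtain ⟨n, hn⟩ := P.isPGroup'.exists_card_eq
          rw [← factor_iff_relIndex_eq.1 h2] at e
          exact hne ((Nat.prime_dvd_prime_iff_eq hq hp.out).1 (hq.dvd_of_dvd_pow (hn ▸ e.trans (relIndex_dvd_card _ _))))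
        obtain ⟨k, hk, d, hd, rfl⟩ := h2 g
        refine ⟨⟨k, hk⟩, mem_subgroupOf.2 (mem_sup_left (mem_inf.2 ⟨mul_mem (mul_mem hk hc) (inv_mem hk), ?_⟩))⟩
        rwa [show k * d * c * (k * d)⁻¹ = k * c * k⁻¹ by rw [mul_assoc k, mem_cent_iff.1 hd]; group] at hg
    have a3 := fun x hx => (mem_sup_of_le_normalizer' (inf_le_right.trans ((centralizer_le (SetLike.coe_subset_coe.2 inf_le_left)).trans
      (centralizer_le_normalizer _)))).1 (subgroupOf_eq_top.1 a2 (x := x) hx)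
    refine commutator_le.2 fun x hx y hy => ?_
    obtain ⟨x, h1, z, hz, rfl⟩ := a3 x hx
    obtain ⟨y, h2, w, hw, rfl⟩ := a3 y hy
    have : ⁅x * z, y * w⁆ = ⁅x, y⁆ := by
      calc _ = x * (z * (y * w) * z⁻¹) * x⁻¹ * (y * w)⁻¹ := by rw [commutatorElement_def]; group
        _ = x * y * (w * x⁻¹ * w⁻¹) * y⁻¹ := by rw [← hz.2 _ hy]; group
        _ = _ := by rw [← hw.2 _ (inv_mem (mem_inf.1 h1).1), commutatorElement_def]; group
    rw [this]
    exact mul_mem (mul_mem (mul_mem (mem_inf.1 h1).2 h2.2) (inv_mem (mem_inf.1 h1).2)) (inv_mem (mem_inf.1 h2).2)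
  have s8 := commutator_le_left (P : Subgroup G) P
  obtain ⟨⟨z, hz⟩, z1⟩ := ne_bot_iff_exists_ne_one.1 (inf_centralizer_ne_bot_of_isPGroup (P.isPGroup'.to_le s8) P.isPGroup'
    le_normalizer_of_normal fun e => not_dvd_index_of_sylow_le P
      (le_cent_iff.2 (commutator_eq_bot_iff_le_centralizer.1 e (s6 ▸ s4 a ha a1))) a1)
  refine nc hZ (dv (isPGroup_zpowers_of_mem P.isPGroup' (s8 hz.1)) fun e => z1 (Subtype.ext e)) (cs_eq_one_iff.1 ?_)
  refine Nat.eq_one_iff_not_exists_prime_dvd.2 fun q hq => ?_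
  haveI := Fact.mk hq
  by_cases e : q = p
  · exact e ▸ not_dvd_index_of_sylow_le P (le_cent_iff.2 hz.2)
  · obtain ⟨Q⟩ : Nonempty (Sylow q G) := inferInstance
    exact not_dvd_index_of_sylow_le Q (le_cent_iff.2 (s7 q hq e Q hz.1))

theorem two (hZ : ¬ p ∣ Nat.card (center G)) {a b : G} (ha : IsPGroup p (zpowers a)) (a1 : a ≠ 1) (hb : IsPGroup p (zpowers b))
    (b1 : b ≠ 1) (hl : cs b ≤ cs a) : ∃ w : G, p ∣ orderOf w ∧ ¬ (cs w).Coprime (cs a) ∧ ¬ (cs w).Coprime (cs b) := by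
  by_contra! h
  have a2 := one_lt_cs (nc hZ (dv ha a1))
  have b2 := nc hZ (dv hb b1)
  have co := h a (dv ha a1) fun e => a2.ne' (Nat.coprime_self _ |>.1 e)
  have h1 : p ∣ orderOf (a * b) := by
    obtain ⟨P, h1, h2⟩ : ∃ P : Sylow p G, ∃ g k : G, g * a * g⁻¹ ∈ P ∧ k * b * k⁻¹ ∈ P := by
      obtain ⟨P, hP⟩ := ha.exists_le_sylow
      obtain ⟨x, -, hx⟩ := (syl_top P).exists_conj_le hb le_top
      exact ⟨P, 1, x, by rw [one_mul, inv_one, mul_one]; exact hP (mem_zpowers a), hx (conj_mem_cj x (mem_zpowers b))⟩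
    obtain ⟨k, h2, h3⟩ := h2
    obtain ⟨g, hg⟩ := exists_conj_mul_of_coprime co h1 k
    have := dv (isPGroup_zpowers_of_mem P.isPGroup' (hg ▸ mul_mem h2 h3)) fun e => by
      rw [eq_inv_of_mul_eq_one_left (conj_eq_one_iff.1 e), cs_inv] at co a2
      exact a2.ne' (Nat.coprime_self _ |>.1 co)
    rwa [show orderOf (g * (a * b) * g⁻¹) = _ from (MulAut.conj g).orderOf_eq _] at this
  have h2 := cs_mul_dvd_of_coprime co
  have h3 := cs_le_mul_of_coprime co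
  by_cases h4 : (cs (a * b)).Coprime (cs a)
  · have := (Nat.le_of_dvd (cs_pos b) (h4.dvd_of_dvd_mul_left h2))
    rw [le_antisymm hl (h3.trans this)] at co
    exact a2.ne' (Nat.coprime_self _ |>.1 co)
  have h5 := (cc_pElt hp.out hb b2 co.symm (cs_mul_comm a b ▸ Nat.le_of_dvd (cs_pos a) ((h _ h1 h4).dvd_of_dvd_mul_right h2))).2
  exact lem hZ ha h5 hb b1 fun w w1 w2 => h w w1 fun e => hp.out.one_lt.ne' (Nat.eq_one_of_dvd_coprimes e w2 h5)

theorem pp {x : G} (h : p ∣ orderOf x) : ∃ a : G, IsPGroup p (zpowers a) ∧ a ≠ 1 ∧ cs a ∣ cs x := by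
  obtain ⟨a, ha, b, -, e, h1, h2⟩ := exists_pPart hp.out x
  refine ⟨a, h1, ?_, cs_dvd_of_mem_zpowers ha⟩
  rintro rfl
  rw [e, one_mul] at h
  exact hp.out.one_lt.ne' (Nat.eq_one_of_dvd_coprimes h2 h dvd_rfl)

end

/-- Let `G` be a finite group and `p` a prime not dividing the order of the centre of `G`. Consider the primes dividing the size of some conjugacy class of a `p`-singular element (an element of order divisible by `p`), two of them adjacent when their product divides such a class size. Then any two distinct such primes are joined by a path with at most 3 edges (the graph is connected of diameter at most 3). -/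
theorem result {G : Type*} [Group G] [Finite G] (p : ℕ) [Fact p.Prime]
    (hZ : ¬ p ∣ Nat.card ↥(Subgroup.center G)) (r s : ℕ) (hr : (r.Prime ∧ ∃ x : G, p ∣ orderOf x ∧ r ∣ (Subgroup.centralizer ({x} : Set G)).index)) (hs : (s.Prime ∧ ∃ x : G, p ∣ orderOf x ∧ s ∣ (Subgroup.centralizer ({x} : Set G)).index)) (hrs : r ≠ s) :
    (∃ x : G, p ∣ orderOf x ∧ r * s ∣ (Subgroup.centralizer ({x} : Set G)).index) ∨ (∃ t : ℕ, (t.Prime ∧ ∃ x : G, p ∣ orderOf x ∧ t ∣ (Subgroup.centralizer ({x} : Set G)).index) ∧ t ≠ r ∧ t ≠ s ∧ (∃ x : G, p ∣ orderOf x ∧ r * t ∣ (Subgroup.centralizer ({x} : Set G)).index) ∧ (∃ x : G, p ∣ orderOf x ∧ t * s ∣ (Subgroup.centralizer ({x} : Set G)).index)) ∨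
      (∃ t u : ℕ, (t.Prime ∧ ∃ x : G, p ∣ orderOf x ∧ t ∣ (Subgroup.centralizer ({x} : Set G)).index) ∧ (u.Prime ∧ ∃ x : G, p ∣ orderOf x ∧ u ∣ (Subgroup.centralizer ({x} : Set G)).index) ∧ t ≠ r ∧ u ≠ s ∧ t ≠ u ∧ (∃ x : G, p ∣ orderOf x ∧ r * t ∣ (Subgroup.centralizer ({x} : Set G)).index) ∧ (∃ x : G, p ∣ orderOf x ∧ t * u ∣ (Subgroup.centralizer ({x} : Set G)).index) ∧ (∃ x : G, p ∣ orderOf x ∧ u * s ∣ (Subgroup.centralizer ({x} : Set G)).index)) := by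
  obtain ⟨hr, x, hx, x1⟩ := hr
  obtain ⟨hs, y, hy, y1⟩ := hs
  obtain ⟨a, a1, a2, a3⟩ := pp hx
  obtain ⟨b, b1, b2, b3⟩ := pp hy
  obtain ⟨w, hw, w1, w2⟩ : ∃ w : G, p ∣ orderOf w ∧ ¬ (cs w).Coprime (cs a) ∧ ¬ (cs w).Coprime (cs b) :=
    (le_total (cs b) (cs a)).elim (two hZ a1 a2 b1 b2) fun h => (two hZ b1 b2 a1 a2 h).imp fun _ h => ⟨h.1, h.2.symm⟩
  obtain ⟨t, ht, t1, t2⟩ := Nat.Prime.not_coprime_iff_dvd.1 w1
  obtain ⟨u, hu, u1, u2⟩ := Nat.Prime.not_coprime_iff_dvd.1 w2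
  replace t2 := t2.trans a3
  replace u2 := u2.trans b3
  by_cases e1 : t = r
  · subst e1
    by_cases e2 : u = s
    · exact Or.inl ⟨w, hw, cd_mul_dvd hr hs hrs t1 (e2 ▸ u1)⟩
    by_cases e3 : u = t
    · exact Or.inl ⟨y, hy, cd_mul_dvd hr hs hrs (e3 ▸ u2) y1⟩
    exact Or.inr (Or.inl ⟨u, ⟨hu, w, hw, u1⟩, e3, e2, ⟨w, hw, cd_mul_dvd hr hu (Ne.symm e3) t1 u1⟩, y, hy, cd_mul_dvd hu hs e2 u2 y1⟩)
  have k := cd_mul_dvd hr ht (Ne.symm e1) x1 t2
  by_cases e4 : t = s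
  · exact Or.inl ⟨x, hx, e4 ▸ k⟩
  by_cases e2 : u = s
  · exact Or.inr (Or.inl ⟨t, ⟨ht, w, hw, t1⟩, e1, e4, ⟨x, hx, k⟩, w, hw, cd_mul_dvd ht hs e4 t1 (e2 ▸ u1)⟩)
  by_cases e3 : t = u
  · exact Or.inr (Or.inl ⟨t, ⟨ht, w, hw, t1⟩, e1, e4, ⟨x, hx, k⟩, y, hy, cd_mul_dvd ht hs e4 (e3 ▸ u2) y1⟩)
  exact Or.inr (Or.inr ⟨t, u, ⟨ht, w, hw, t1⟩, ⟨hu, w, hw, u1⟩, e1, e2, e3, ⟨x, hx, k⟩, ⟨w, hw, cd_mul_dvd ht hu e3 t1 u1⟩,
    y, hy, cd_mul_dvd hu hs e2 u2 y1⟩)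

end Cfsg.Agent.S4321
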