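import Cfsg.Statements.S4323
import Cfsg.Agent.Lib.Hall.MarC

set_option autoImplicit false
open Cfsg

namespace Cfsg.Agent.S4323

open scoped Pointwise commutatorElement
open Cfsg.Lib Cfsg.Lib.Hall

open Subgroup Cfsg.Lib.Core Cfsg.Lib.Coprime

/-- Let `q` be a prime and `A` a non-cyclic group of order `q²` acting by automorphisms on a finite group `G` of order prime to `q`, such that the fixed-point subgroup `C_G(a)` is abelian for every non-identity `a ∈ A`. Then `G` is solvable. -/
theorem result {A G : Type*} [Group A] [Finite A]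
    [Group G] [Finite G] [MulDistribMulAction A G] (q : ℕ) (hq : q.Prime) (hA : Nat.card A = q ^ 2) (hnc : ¬ IsCyclic A)
    (hcop : ¬ q ∣ Nat.card G) (h : ∀ a : A, a ≠ 1 → IsMulCommutative ↥(FixedPoints.subgroup (Subgroup.zpowers a) G)) :
    Group.IsSolvable G := by
  obtain ⟨Γ, _, _, i, j, ha, -, -⟩ := exists_ambient (MulDistribMulAction.toMulAut A G)
  have h1 : ∀ a : A, a ^ q = 1 := fun a => by
    haveI := Fact.mk hq
    obtain ⟨k, hk, e⟩ := (Nat.dvd_prime_pow hq).1 (hA ▸ orderOf_dvd_natCard a)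
    by_cases h2 : k = 2
    · exact (hnc (isCyclic_of_orderOf_eq_card a (by rw [e, hA, h2]))).elim
    · exact orderOf_dvd_iff_pow_eq_one.1 (e ▸ (pow_dvd_pow q (by omega : k ≤ 1)).trans (pow_one q).dvd)
  have h2 := mc_solvable _ rfl (q := q) (A := (⊤ : Subgroup A).map j) (K := (⊤ : Subgroup G).map i)
    ⟨hq, by rw [ha.card_map_j, card_top, hA, sq], by rintro _ ⟨a, -, rfl⟩; rw [← map_pow, h1, map_one],
      ha.le_normalizer_top _, by rwa [ha.card_map_i, card_top], by
        rintro _ ⟨a, -, rfl⟩ h3 _ ⟨⟨x, -, rfl⟩, hx⟩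
        refine mem_centralizer_iff.2 ?_
        rintro _ ⟨⟨y, -, rfl⟩, hy⟩
        have h4 : ∀ z : G, i z ∈ centralizer {j a} → z ∈ FixedPoints.subgroup (zpowers a) G := fun z hz b =>
          (zpowers_le.2 (show a ∈ MulAction.stabilizer A z from ha.mem_centralizer_singleton_iff.1 hz)) b.2
        have h5 := (h a fun e => h3 (by rw [e, map_one])).is_comm.comm ⟨y, h4 y hy⟩ ⟨x, h4 x hx⟩
        rw [← map_mul, ← map_mul]
        exact congrArg (fun z : FixedPoints.subgroup (zpowers a) G => i z) h5⟩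
  have h3 : Function.Injective ((i.subgroupMap ⊤).comp (Subgroup.topEquiv (G := G)).symm.toMonoidHom) :=
    fun x y e => ha.inj_i (congrArg Subtype.val e)
  exact Group.isSolvable_of_isSolvable_injective h3

end Cfsg.Agent.S4323
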