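import Cfsg.Statements.S4330
import Cfsg.Agent.S3762
import Cfsg.Agent.Lib.Coprime.ActionForm
import Cfsg.Agent.Lib.PGrp.Critical
import Cfsg.Agent.Lib.Fus.SylowMod
import Cfsg.Agent.Lib.Hall.MinNormal
import Cfsg.Agent.Lib.Small.Simple
import Cfsg.Agent.Lib.PGrp.Cyclic
import Cfsg.Agent.Lib.Core.Subnormal
import Cfsg.Agent.Lib.Transfer.SylowIn

set_option autoImplicit false
open Pointwise
open Cfsg

namespace Cfsg.Agent.S4330

open Subgroup Cfsg.Lib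
open scoped commutatorElement Pointwise
set_option linter.style.haveILetI false

section
variable {V : Type*} [CommGroup V] [Finite V] {X Y : Subgroup (MulAut V)} {p : ℕ}

/-- the norm map of a group of automorphisms -/
noncomputable def nm (X : Subgroup (MulAut V)) : V →* V :=
  letI := Fintype.ofFinite X
  MonoidHom.mk' (fun v => ∏ x : X, (x : MulAut V) v) fun _ _ => by simp [Finset.prod_mul_distrib]

theorem nm_apply (v : V) : nm X v = ∏ᶠ x : X, (x : MulAut V) v := by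
  letI := Fintype.ofFinite X
  rw [finprod_eq_prod_of_fintype]; rfl

theorem nm_mul {g : MulAut V} (hg : g ∈ X) (v : V) : nm X (g v) = nm X v := by
  rw [nm_apply, nm_apply]
  exact finprod_comp_equiv (Equiv.mulRight (⟨g, hg⟩ : X)) (f := fun x : X => (x : MulAut V) v)

theorem nm_conj {g : MulAut V} (h : ∀ x, x ∈ Y ↔ g⁻¹ * x * g ∈ X) (v : V) : nm Y (g v) = g (nm X v) := by
  rw [nm_apply, nm_apply, map_finprod g (Set.toFinite _)]
  refine finprod_eq_of_bijective (fun y : Y => (⟨g⁻¹ * y * g, (h y).1 y.2⟩ : X)) ⟨fun a b e => ?_, fun x => ?_⟩ fun y => ?_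
  · exact Subtype.ext (by simpa using e)
  · exact ⟨⟨g * x * g⁻¹, (h _).2 (by simp [mul_assoc])⟩, Subtype.ext (by simp [mul_assoc])⟩
  · simp

theorem nm_fix {g : MulAut V} (hg : g ∈ X) (v : V) : g (nm X v) = nm X v := by
  rw [← nm_conj (Y := X) fun x => by rw [X.mul_mem_cancel_right hg, X.mul_mem_cancel_left (X.inv_mem hg)], nm_mul hg]

theorem nm_inj [Fact p.Prime] (hp : ¬ p ∣ Nat.card V) (hX : IsPGroup p X) {v w : V} (hv : ∀ x ∈ X, x v = v)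
    (hw : ∀ x ∈ X, x w = w) (h : nm X v = nm X w) : v = w := by
  letI := Fintype.ofFinite X
  have key : ∀ v : V, (∀ x ∈ X, x v = v) → nm X v = v ^ Nat.card X := fun v hv => by
    rw [nm_apply, finprod_eq_prod_of_fintype, Finset.prod_congr rfl fun (x : X) _ => hv x x.2]; simp
  obtain ⟨k, hk⟩ := hX.exists_card_eq
  rw [key v hv, key w hw, hk] at h
  exact (powCoprime (((Nat.Prime.coprime_iff_not_dvd Fact.out).2 hp).symm.pow_right k)).injective h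

theorem nm_kill (hc : ∀ x ∈ X, ∀ y ∈ Y, x * y = y * x) (h : ∀ v, (∀ x ∈ X, x v = v) → (∀ y ∈ Y, y v = v) → v = 1)
    {w : V} (hw : ∀ y ∈ Y, y w = w) : nm X w = 1 :=
  h _ (fun _ hx => nm_fix hx w) fun y hy => by
    rw [← nm_conj (Y := X) fun x => ⟨fun hx => by rwa [mul_assoc, hc x hx y hy, inv_mul_cancel_left], fun hx => by
      have := hc _ hx y hy
      rw [← mul_assoc, ← mul_assoc, mul_inv_cancel, one_mul, mul_left_inj] at this
      rwa [← this]⟩, hw y hy]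

theorem fix_zpowers {x : MulAut V} {v : V} (h : x v = v) : ∀ y ∈ zpowers x, y v = v := fun y hy =>
  (zpowers_le.2 h : zpowers x ≤ MulAction.stabilizer (MulAut V) v) hy

theorem exists_fix [Fact p.Prime] (hp : ¬ p ∣ Nat.card V) {B : Subgroup (MulAut V)} [IsMulCommutative B] (hB : IsPGroup p B)
    (hc : ¬ IsCyclic B) {U : Subgroup V} (hU : U ≠ ⊥) (hi : ∀ b ∈ B, ∀ u ∈ U, b u ∈ U) :
    ∃ b ∈ B, b ≠ 1 ∧ ∃ w ∈ U, w ≠ 1 ∧ b w = w := by
  by_contra! h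
  obtain ⟨k, hk⟩ := hB.exists_card_eq
  refine hU (eq_bot_iff.2 (Coprime.act_le_of_forall_fixed_le (φ := MonoidHom.id _) hc hi ?_ fun b hb h1 x hx e => ?_))
  · exact hk ▸ (((Nat.Prime.coprime_iff_not_dvd Fact.out).2 hp).pow_left k).coprime_dvd_right (card_subgroup_dvd_card U)
  · by_contra h2; exact h b hb h1 x hx h2 e

theorem caseB [hp : Fact p.Prime] (h2 : p ≠ 2) (hV : ¬ p ∣ Nat.card V) {Z : Subgroup (MulAut V)}
    (hZ : ∀ z ∈ Z, z ≠ 1 → Z ≤ zpowers z ∧ ∀ v, z v = v → v = 1) (hZp : ∀ z ∈ Z, z ^ p = 1) (hZ0 : Z ≠ ⊥) (n : ℕ) :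
    ∀ C : Subgroup (MulAut V), Nat.card C = n → IsPGroup p C → Z ≤ C → (∀ z ∈ Z, ∀ c ∈ C, c * z = z * c) →
      (∀ x ∈ C, ∀ y ∈ C, ⁅x, y⁆ ∈ Z) → ∀ U : Subgroup V, U ≠ ⊥ → (∀ c ∈ C, ∀ u ∈ U, c u ∈ U) →
      ∃ v ∈ U, v ≠ 1 ∧ ∀ u ∈ C, u ^ p = 1 → u v = v → ∀ y ∈ C, u * y = y * u := by
  induction n using Nat.strong_induction_on with
  | _ n ih =>
  intro C hn hC hZC hc hd U hU hi
  by_cases h : ∀ u ∈ C, u ^ p = 1 → ∀ y ∈ C, u * y = y * u
  · obtain ⟨v, hv, hv1⟩ := (bot_or_exists_ne_one U).resolve_left hU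
    exact ⟨v, hv, hv1, fun u hu h1 _ => h u hu h1⟩
  push Not at h
  obtain ⟨x₀, hx₀, hx₀p, y, hy, hxy₀⟩ := h
  obtain ⟨x, hx, hxp, hxy, w, hw, hw1, hxw⟩ : ∃ x ∈ C, x ^ p = 1 ∧ x * y ≠ y * x ∧ ∃ w ∈ U, w ≠ 1 ∧ x w = w := by
    have hm : ∀ b ∈ zpowers x₀ ⊔ Z, ∃ i : ℤ, ∃ z ∈ Z, b = x₀ ^ i * z := fun b hb => by
      rw [← SetLike.mem_coe, coe_mul_of_left_le_normalizer_right _ _ (zpowers_le.2 (mem_normalizer_fintype fun z hz => by
        rwa [hc z hz x₀ hx₀, mul_inv_cancel_right]))] at hb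
      obtain ⟨_, ⟨i, rfl⟩, z, hz, rfl⟩ := hb
      exact ⟨i, z, hz, rfl⟩
    have hB : zpowers x₀ ⊔ Z ≤ C := sup_le (zpowers_le.2 hx₀) hZC
    haveI : IsMulCommutative ↥(zpowers x₀ ⊔ Z) := ⟨⟨fun a b => Subtype.ext (by
      obtain ⟨i, z, hz, e⟩ := hm a a.2
      obtain ⟨j, z', hz', e'⟩ := hm b b.2
      have h1 : Commute (x₀ ^ i) (b : MulAut V) :=
        e' ▸ ((Commute.refl x₀).zpow_zpow i j).mul_right (hc z' hz' _ (C.zpow_mem hx₀ i))
      show Commute (a : MulAut V) b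
      exact e ▸ h1.mul_left (hc z hz b (hB b.2)).symm)⟩⟩
    obtain ⟨z₀, hz₀, hz₀1⟩ := (bot_or_exists_ne_one Z).resolve_left hZ0
    have hx1 : x₀ ≠ 1 := fun e => hxy₀ (by simp [e])
    obtain ⟨b, hb, hb1, w, hw, hw1, e⟩ := exists_fix hV (hC.to_le hB) (fun hcyc => hxy₀ (by
      have := PGrp.eq_of_card_eq_of_isCyclic hcyc (le_sup_left : zpowers x₀ ≤ _)
        ((zpowers_le.2 hz₀).trans le_sup_right) (by
          rw [Nat.card_zpowers, Nat.card_zpowers, orderOf_eq_prime hx₀p hx1, orderOf_eq_prime (hZp _ hz₀) hz₀1])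
      exact (hc _ (zpowers_le.2 hz₀ (this ▸ mem_zpowers x₀)) y hy).symm)) hU fun b hb => hi b (hB hb)
    obtain ⟨i, z, hz, rfl⟩ := hm b hb
    refine ⟨_, hB hb, ?_, fun h => ?_, w, hw, hw1, e⟩
    · rw [Commute.mul_pow (hc z hz _ (C.zpow_mem hx₀ i)), hZp z hz, mul_one, ← zpow_natCast, ← zpow_mul, mul_comm,
        zpow_mul, zpow_natCast, hx₀p, one_zpow]
    · rw [mul_assoc, ← hc z hz y hy, ← mul_assoc, ← mul_assoc, mul_left_inj] at h
      by_cases h1 : x₀ ^ i = 1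
      · rw [h1, one_mul] at hb1 e
        exact hw1 ((hZ z hz hb1).2 w e)
      · have := Small.eq_zpowers_of_mem_card_prime (H := zpowers x₀)
          (by rw [Nat.card_zpowers, orderOf_eq_prime hx₀p hx1]) (zpow_mem_zpowers x₀ i) h1
        obtain ⟨k, hk⟩ : x₀ ∈ zpowers (x₀ ^ i) := this ▸ mem_zpowers x₀
        exact hxy₀ (hk ▸ (show Commute (x₀ ^ i) y from h).zpow_left k)
  let F : Subgroup V := U ⊓ (x.toMonoidHom.eqLocus (MonoidHom.id V))
  obtain ⟨v, hv, hv1, hv2⟩ := ih _ (hn ▸ Transfer.card_lt_of_lt (lt_of_le_of_ne inf_le_left fun e =>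
      hxy (mem_centralizer_singleton_iff.1 (e.ge hy).2).symm)) (C ⊓ centralizer {x}) rfl hC.to_inf_left
    (fun z hz => ⟨hZC hz, mem_centralizer_singleton_iff.2 (hc z hz x hx).symm⟩) (fun z hz c h => hc z hz c h.1)
    (fun a ha b hb => hd a ha.1 b hb.1) F (fun e => hw1 (mem_bot.1 (e ▸ (⟨hw, hxw⟩ : w ∈ F)))) fun c h u hu =>
      ⟨hi c h.1 u hu.1, show x (c u) = c u by
        rw [← MulAut.mul_apply, ← mem_centralizer_singleton_iff.1 h.2, MulAut.mul_apply, show x u = u from hu.2]⟩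
  have hxv : x v = v := hv.2
  have s1 : ∀ g ∈ C, (⁅g, x⁆ * x) (g v) = g v := fun g _ => by simp [commutatorElement_def, hxv]
  have s2 : ∀ g ∈ C, ∀ g' ∈ C, ⁅g, x⁆ ≠ ⁅g', x⁆ → nm (zpowers (⁅g, x⁆ * x)) (g' v) = 1 := fun g hg g' hg' hne => by
    have c1 : Commute (⁅g, x⁆ * x) (⁅g', x⁆ * x) :=
      Commute.mul_right (hc _ (hd g' hg' x hx) _ (C.mul_mem (hZC (hd g hg x hx)) hx))
        (Commute.mul_left (hc _ (hd g hg x hx) x hx).symm (Commute.refl x))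
    refine nm_kill (Y := zpowers (⁅g', x⁆ * x)) ?_ (fun u h1 h3 => ?_) (fix_zpowers (s1 g' hg'))
    · rintro _ ⟨i, rfl⟩ _ ⟨j, rfl⟩; exact c1.zpow_zpow i j
    · refine (hZ (⁅g, x⁆ * ⁅g', x⁆⁻¹) (Z.mul_mem (hd g hg x hx) (Z.inv_mem (hd g' hg' x hx)))
        (by rwa [Ne, mul_inv_eq_one])).2 u ?_
      rw [show ⁅g, x⁆ * ⁅g', x⁆⁻¹ = ⁅g, x⁆ * x * (⁅g', x⁆ * x)⁻¹ by group, MulAut.mul_apply,
        (zpowers _).inv_mem (mem_zpowers _) |> h3 _, h1 _ (mem_zpowers _)]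
  have s3 : ∀ g ∈ C, IsPGroup p (zpowers (⁅g, x⁆ * x)) := fun g hg =>
    hC.to_le (zpowers_le.2 (C.mul_mem (hZC (hd g hg x hx)) hx))
  have s4 : ∀ g ∈ C, nm (zpowers (⁅g, x⁆ * x)) (g v) ≠ 1 := fun g hg e => hv1 (g.injective (by
    rw [map_one]; exact nm_inj hV (s3 g hg) (fix_zpowers (s1 g hg)) (fun _ _ => map_one _) (e.trans (map_one _).symm)))
  let f : C →* MulAut V := MonoidHom.mk' (fun c => ⁅(c : MulAut V), x⁆) fun a b => by
    rw [hc _ (hd b b.2 x hx) _ (hZC (hd a a.2 x hx)), show ⁅((a * b : C) : MulAut V), x⁆ =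
      a * ⁅(b : MulAut V), x⁆ * ((a : MulAut V)⁻¹ * ⁅(a : MulAut V), x⁆) by simp only [commutatorElement_def, coe_mul]; group,
      hc _ (hd b b.2 x hx) a a.2]
    group
  have f1 : ∀ a ∈ C, ∀ b ∈ C, ⁅a * b, x⁆ = ⁅a, x⁆ * ⁅b, x⁆ := fun a ha b hb => f.map_mul ⟨a, ha⟩ ⟨b, hb⟩
  have ht : ⁅y, x⁆ ≠ 1 := fun e => hxy (commutatorElement_eq_one_iff_mul_comm.1 e).symm
  have h10 : ⁅y, x⁆ ≠ ⁅(1 : MulAut V), x⁆ := by simpa using ht
  have s0 := s4 1 C.one_mem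
  rw [MulAut.one_apply] at s0
  refine ⟨v * y v, U.mul_mem hv.1 (hi y hy v hv.1), fun e => s0 ?_, fun u hu hup e => ?_⟩
  · have e1 := congrArg (nm (zpowers (⁅(1 : MulAut V), x⁆ * x))) e
    rwa [map_mul, s2 1 C.one_mem y hy h10.symm, mul_one, map_one] at e1
  rw [map_mul, ← MulAut.mul_apply] at e
  have huy := C.mul_mem hu hy
  by_cases h3 : ⁅u, x⁆ = 1
  · have e1 := congrArg (nm (zpowers (⁅(1 : MulAut V), x⁆ * x))) e
    rw [map_mul, map_mul, s2 1 C.one_mem y hy h10.symm, s2 1 C.one_mem _ huy (by rw [f1 u hu y hy, h3, one_mul]; exact h10.symm),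
      mul_one, mul_one] at e1
    have e2 : u v = v := nm_inj hV (s3 1 C.one_mem) (fix_zpowers (by simpa [h3] using s1 u hu))
      (fix_zpowers (by simpa using hxv)) e1
    rw [e2, mul_right_inj] at e
    have huy' : u * y = y * u := by
      by_contra h4
      refine hv1 ((hZ ⁅y⁻¹, u⁆ (hd _ (C.inv_mem hy) u hu) fun h5 => h4 ?_).2 v ?_)
      · exact (Commute.inv_left_iff.1 (commutatorElement_eq_one_iff_mul_comm.1 h5)).symm
      · rw [commutatorElement_def, inv_inv, MulAut.mul_apply, show u⁻¹ v = v from (MulEquiv.symm_apply_eq u).2 e2.symm,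
          mul_assoc, MulAut.mul_apply, e]
        simp
    intro c hc'
    obtain ⟨k, hk⟩ := (hZ _ (hd y hy x hx) ht).1 (hd c hc' x hx)
    have h5 : f (⟨y, hy⟩ ^ (-k) * ⟨c, hc'⟩) = 1 := by
      rw [map_mul, map_zpow, zpow_neg]; exact inv_mul_eq_one.2 hk
    have h6 := hv2 u ⟨hu, mem_centralizer_singleton_iff.2 (commutatorElement_eq_one_iff_mul_comm.1 h3)⟩ hup e2
      (y ^ (-k) * c) ⟨C.mul_mem (C.zpow_mem hy _) hc',
        mem_centralizer_singleton_iff.2 (commutatorElement_eq_one_iff_mul_comm.1 h5)⟩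
    have := ((show Commute u y from huy').zpow_right k).mul_right h6
    simpa [← mul_assoc] using this.eq
  have h3' : ⁅(1 : MulAut V), x⁆ ≠ ⁅u, x⁆ := by simpa using Ne.symm h3
  by_cases h4 : ⁅(1 : MulAut V), x⁆ = ⁅u * y, x⁆
  · refine absurd ?_ (s4 y hy)
    have e1 := congrArg (nm (zpowers (⁅y, x⁆ * x))) e
    have := s2 y hy 1 C.one_mem h10
    rw [MulAut.one_apply] at this
    rw [map_mul, map_mul, s2 y hy _ huy (h4 ▸ h10), this, s2 y hy u hu fun e2 => ht ?_] at e1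
    · simpa using e1.symm
    · rw [f1 u hu y hy, ← e2, commutatorElement_one_left, ← sq] at h4
      exact orderOf_eq_one_iff.1 (Nat.eq_one_of_dvd_coprimes ((Nat.coprime_primes hp.out Nat.prime_two).2 h2)
        (orderOf_dvd_of_pow_eq_one (hZp _ (hd y hy x hx))) (orderOf_dvd_of_pow_eq_one h4.symm))
  · refine absurd ?_ s0
    have e1 := congrArg (nm (zpowers (⁅(1 : MulAut V), x⁆ * x))) e
    rw [map_mul, map_mul, s2 1 C.one_mem _ huy h4, s2 1 C.one_mem u hu h3', s2 1 C.one_mem y hy h10.symm] at e1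
    simpa using e1.symm

/-- the module claim -/
def Cl (p : ℕ) (V : Type*) [CommGroup V] : Prop :=
  ∀ N L : Subgroup (MulAut V), L ≤ N → (∀ g ∈ N, ∀ x ∈ L, g * x * g⁻¹ ∈ L) → IsPGroup p L →
    ∀ a ∈ L, a ≠ 1 → a ^ p = 1 → ∃ v, ∀ g ∈ N, (g * a * g⁻¹) v ≠ v

omit [Finite V] in
theorem res {U : Subgroup V} (hU : Cl p U) {N L : Subgroup (MulAut V)} (hLN : L ≤ N)
    (hn : ∀ g ∈ N, ∀ x ∈ L, g * x * g⁻¹ ∈ L) (hL : IsPGroup p L) (hi : ∀ g ∈ N, ∀ u ∈ U, g u ∈ U) {a : MulAut V}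
    (ha : a ∈ L) (hap : a ^ p = 1) {w : V} (hw : w ∈ U) (haw : a w ≠ w) : ∃ v ∈ U, ∀ g ∈ N, (g * a * g⁻¹) v ≠ v := by
  let ρ : N →* MulAut U := MonoidHom.mk' (fun g =>
    { toFun := fun u => ⟨g.1 u, hi _ g.2 _ u.2⟩
      invFun := fun u => ⟨g.1⁻¹ u, hi _ (N.inv_mem g.2) _ u.2⟩
      left_inv := fun u => by simp
      right_inv := fun u => by simp
      map_mul' := fun u v => by simp }) fun _ _ => rfl
  obtain ⟨v, hv⟩ := hU ρ.range ((L.subgroupOf N).map ρ) (map_le_range _ _) (by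
      rintro _ ⟨g, rfl⟩ _ ⟨x, hx, rfl⟩
      exact ⟨g * x * g⁻¹, hn g g.2 x hx, by rw [map_mul, map_mul, map_inv]⟩)
    ((Core.isPGroup_subgroupOf hL N).map ρ) (ρ ⟨a, hLN ha⟩) ⟨_, ha, rfl⟩
    (fun e => haw (congrArg (fun f : MulAut U => (f ⟨w, hw⟩ : V)) e))
    (by rw [← map_pow, show (⟨a, hLN ha⟩ : N) ^ p = 1 from Subtype.ext hap, map_one])
  refine ⟨v, v.2, fun g hg e => hv (ρ ⟨g, hg⟩) ⟨_, rfl⟩ (Subtype.ext ?_)⟩
  rw [← map_inv, ← map_mul, ← map_mul]; exact e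

theorem irr [Fact p.Prime] (hV : ¬ p ∣ Nat.card V) (ih : ∀ U : Subgroup V, U ≠ ⊤ → Cl p U) {N L : Subgroup (MulAut V)}
    (hLN : L ≤ N) (hn : ∀ g ∈ N, ∀ x ∈ L, g * x * g⁻¹ ∈ L) (hL : IsPGroup p L) {a : MulAut V}
    (ha : a ∈ L) (h1 : a ≠ 1) (hap : a ^ p = 1) (hc : ∀ v, ∃ g ∈ N, (g * a * g⁻¹) v = v) (U : Subgroup V)
    (hU : ∀ g ∈ N, ∀ u ∈ U, g u ∈ U) (hU' : U ≠ ⊤) : U = ⊥ := by
  let M : Subgroup (MulAut V) :=
    { carrier := {x | x ∈ L ∧ ∀ U : Subgroup V, (∀ g ∈ N, ∀ u ∈ U, g u ∈ U) → U ≠ ⊤ → ∀ u ∈ U, x u = u}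
      mul_mem' := fun hx hy => ⟨L.mul_mem hx.1 hy.1, fun U h h' u hu => by
        rw [MulAut.mul_apply, hy.2 U h h' u hu, hx.2 U h h' u hu]⟩
      one_mem' := ⟨L.one_mem, fun _ _ _ _ _ => rfl⟩
      inv_mem' := fun {x} hx => ⟨L.inv_mem hx.1, fun U h h' u hu => (MulEquiv.symm_apply_eq x).2 (hx.2 U h h' u hu).symm⟩ }
  have hM : IsPGroup p M := hL.to_le fun x hx => hx.1
  have haM : a ∈ M := ⟨ha, fun U h h' u hu => by
    by_contra h2
    obtain ⟨v, -, hv⟩ := res (ih U h') hLN hn hL h ha hap hu h2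
    obtain ⟨g, hg, e⟩ := hc v
    exact hv g hg e⟩
  have hMn : ∀ g ∈ N, ∀ x ∈ M, g * x * g⁻¹ ∈ M := fun g hg x hx => ⟨hn g hg x hx.1, fun U h h' u hu => by
    rw [MulAut.mul_apply, MulAut.mul_apply, hx.2 U h h' _ (h _ (N.inv_mem hg) u hu), MulAut.apply_inv_self]⟩
  have hK : (nm M).ker = ⊤ := by
    by_contra h
    refine h1 (MulEquiv.ext fun v => mul_inv_eq_one.1 ?_)
    have h2 : nm M (a v * v⁻¹) = 1 := by rw [map_mul, nm_mul haM, map_inv, mul_inv_cancel]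
    refine nm_inj hV hM (fun x hx => hx.2 _ (fun g hg u hu => ?_) h _ h2) (fun _ _ => map_one _) (h2.trans (map_one _).symm)
    rw [MonoidHom.mem_ker, nm_conj (X := M) fun x => ⟨fun hx => by simpa using hMn _ (N.inv_mem hg) x hx,
      fun hx => by simpa [mul_assoc] using hMn g hg _ hx⟩, MonoidHom.mem_ker.1 hu, map_one]
  exact eq_bot_iff.2 fun u hu => nm_inj hV hM (fun x hx => hx.2 U hU hU' u hu) (fun _ _ => map_one _)
    ((MonoidHom.mem_ker.1 (hK ▸ mem_top u)).trans (map_one _).symm)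

/-- common fixed points -/
def fx (S : Set (MulAut V)) : Subgroup V where
  carrier := {v | ∀ x ∈ S, x v = v}
  mul_mem' := fun hu hv x hx => by rw [map_mul, hu x hx, hv x hx]
  one_mem' := fun x _ => map_one x
  inv_mem' := fun hu x hx => by rw [map_inv, hu x hx]

omit [Finite V] in
theorem fx_bot {N : Subgroup (MulAut V)} (hir : ∀ U : Subgroup V, (∀ g ∈ N, ∀ u ∈ U, g u ∈ U) → U ≠ ⊤ → U = ⊥)
    {S : Set (MulAut V)} (hS : ∀ g ∈ N, ∀ x ∈ S, g * x * g⁻¹ ∈ S) {b : MulAut V} (hb : b ∈ S) (h1 : b ≠ 1) {w : V}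
    (hw : ∀ x ∈ S, x w = w) : w = 1 :=
  mem_bot.1 (hir (fx S) (fun g hg u hu x hx => by
    have := hu _ (hS _ (N.inv_mem hg) x hx)
    rw [inv_inv, MulAut.mul_apply, MulAut.mul_apply] at this
    exact ((MulEquiv.symm_apply_eq g).1 this)) (fun e => h1 (MulEquiv.ext fun v => (e.ge (mem_top v)) b hb)) ▸
    (hw : w ∈ fx S))

theorem caseA [Fact p.Prime] (hV : ¬ p ∣ Nat.card V) (ih : ∀ U : Subgroup V, U ≠ ⊤ → Cl p U) {N L : Subgroup (MulAut V)}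
    (hLN : L ≤ N) (hn : ∀ g ∈ N, ∀ x ∈ L, g * x * g⁻¹ ∈ L) (hL : IsPGroup p L) {a : MulAut V}
    (ha : a ∈ L) (h1 : a ≠ 1) (hap : a ^ p = 1)
    (hir : ∀ U : Subgroup V, (∀ g ∈ N, ∀ u ∈ U, g u ∈ U) → U ≠ ⊤ → U = ⊥) {B : Subgroup (MulAut V)} [IsMulCommutative B]
    (hBL : B ≤ L) (hB : ∀ g ∈ N, ∀ b ∈ B, g * b * g⁻¹ ∈ B) (hc : ¬ IsCyclic B) : ∃ v, ∀ g ∈ N, (g * a * g⁻¹) v ≠ v := by
  classical
  have hT : (⊤ : Subgroup V) ≠ ⊥ := fun e => h1 (MulEquiv.ext fun v => by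
    rw [mem_bot.1 (e ▸ mem_top v : v ∈ (⊥ : Subgroup V))]; simp)
  obtain ⟨b, hb, hb1, w, -, hw1, hbw⟩ := exists_fix hV (hL.to_le hBL) hc hT fun _ _ _ _ => trivial
  obtain ⟨B₀, hb0, ⟨hB0, w₀, hw0, hf⟩, hmax⟩ := Finite.exists_le_maximal
    (p := fun X : Subgroup (MulAut V) => X ≤ B ∧ ∃ w, w ≠ 1 ∧ ∀ x ∈ X, x w = w) (a := zpowers b)
    ⟨zpowers_le.2 hb, w, hw1, fix_zpowers hbw⟩
  let Bg : MulAut V → Subgroup (MulAut V) := fun g => B₀.comap (MulAut.conj g).symm.toMonoidHom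
  have mB : ∀ g x, x ∈ Bg g ↔ g⁻¹ * x * g ∈ B₀ := fun _ _ => Iff.rfl
  have hBg : ∀ g ∈ N, Bg g ≤ B := fun g hg x hx => by simpa [mul_assoc] using hB g hg _ (hB0 ((mB g x).1 hx))
  have fB : ∀ g, ∀ x ∈ Bg g, x (g w₀) = g w₀ := fun g x hx => (MulEquiv.symm_apply_eq g).1 (hf _ ((mB g x).1 hx))
  obtain ⟨H, hH, ⟨hHN, hHN'⟩, hHm⟩ := Finite.exists_le_maximal (p := fun X : Subgroup (MulAut V) => X ≤ N ∧ X ≠ N)
    (a := N ⊓ normalizer (B₀ : Set (MulAut V))) ⟨inf_le_left, fun e => hw0 (fx_bot hir (S := B₀)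
      (fun g hg x hx => (mem_normalizer_iff.1 (e.ge hg).2 x).1 hx) (hb0 (mem_zpowers b)) hb1 hf)⟩
  have K1 : ∀ g ∈ N, g ∉ H → ∀ v, (∀ x ∈ Bg g, x v = v) → (∀ x ∈ B₀, x v = v) → v = 1 := fun g hg hgH v h2 h3 => by
    by_contra h4
    have := hmax (y := B₀ ⊔ Bg g) ⟨sup_le hB0 (hBg g hg), v, h4, fun x hx =>
      (sup_le h3 h2 : B₀ ⊔ Bg g ≤ MulAction.stabilizer (MulAut V) v) hx⟩ le_sup_left
    exact hgH (hH ⟨hg, mem_normalizer_fintype fun y hy => this (mem_sup_right ((mB _ _).2 (by simpa [mul_assoc] using hy)))⟩)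
  have hL0 : ∀ g ∈ N, ∀ x ∈ L ⊓ H, g * x * g⁻¹ ∈ L ⊓ H := fun g hg x hx => by
    by_cases h : L ≤ H
    · exact ⟨hn g hg x hx.1, h (hn g hg x hx.1)⟩
    obtain ⟨y, hy, hy1, hy2⟩ := Fus.exists_mem_normalizer_of_lt hL (lt_of_le_of_ne (inf_le_left : L ⊓ H ≤ L)
      fun e => h (e.ge.trans inf_le_right))
    have e : N ⊓ normalizer ((L ⊓ H : Subgroup _) : Set (MulAut V)) = N := by
      by_contra e
      exact hy1 ⟨hy, hHm ⟨inf_le_left, e⟩ (fun h hh => ⟨hHN hh, mem_normalizer_fintype fun z hz =>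
        ⟨hn h (hHN hh) z hz.1, H.mul_mem (H.mul_mem hh hz.2) (H.inv_mem hh)⟩⟩) ⟨hLN hy, hy2⟩⟩
    exact (mem_normalizer_iff.1 (e.ge hg).2 x).1 hx
  by_cases haH : a ∈ H
  swap
  · refine ⟨w₀, fun g hg e => hw0 (K1 _ (hLN (hn g hg a ha)) (fun h => haH ?_) w₀ (fun x hx => ?_) hf)⟩
    · simpa [mul_assoc] using (hL0 _ (N.inv_mem hg) _ ⟨hn g hg a ha, h⟩).2
    · simpa only [e] using fB _ x hx
  have K3 : ∀ (t g : MulAut V) (v : V), nm (Bg g) (t v) = t (nm (Bg (t⁻¹ * g)) v) := fun t g v =>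
    nm_conj (fun x => by simp [mB, mul_assoc]) v
  let U : Subgroup V := ⨅ g ∈ N, ⨅ _ : g ∉ H, (nm (Bg g)).ker
  have mU : ∀ v, v ∈ U ↔ ∀ g ∈ N, g ∉ H → nm (Bg g) v = 1 := fun v => by simp only [U, mem_iInf, MonoidHom.mem_ker]
  have hUi : ∀ h ∈ H, ∀ u ∈ U, h u ∈ U := fun h hh u hu => (mU _).2 fun g hg hg' => by
    rw [K3, (mU u).1 hu _ (N.mul_mem (N.inv_mem (hHN hh)) hg) (by rwa [H.mul_mem_cancel_left (H.inv_mem hh)]), map_one]
  have hU : U ≠ ⊤ := fun e => by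
    obtain ⟨g, hg, hg'⟩ := SetLike.exists_of_lt (lt_of_le_of_ne hHN hHN')
    exact hw0 (g.injective (by
      rw [map_one]; exact nm_inj hV (hL.to_le ((hBg g hg).trans hBL)) (fB g) (fun _ _ => map_one _)
        (((mU _).1 (e.ge (mem_top _)) g hg hg').trans (map_one _).symm)))
  have hwU : w₀ ∈ U := (mU _).2 fun g hg hg' =>
    nm_kill (fun x hx y hy => setLike_mul_comm (s := B) (hBg g hg hx) (hB0 hy)) (K1 g hg hg') hf
  have hW : ∀ v, (∀ g ∈ N, nm (Bg g) v = 1) → v = 1 := fun v hv => by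
    refine mem_bot.1 (hir (⨅ g ∈ N, (nm (Bg g)).ker) (fun t ht u hu => ?_) (fun e => hU (top_le_iff.1 (e.ge.trans
      fun u hu => (mU u).2 fun g hg _ => ?_))) ▸ ?_)
    · simp only [mem_iInf, MonoidHom.mem_ker] at hu ⊢
      intro g hg
      rw [K3, hu _ (N.mul_mem (N.inv_mem ht) hg), map_one]
    · simp only [mem_iInf, MonoidHom.mem_ker] at hu; exact hu g hg
    · simpa only [mem_iInf, MonoidHom.mem_ker] using hv
  obtain ⟨g₀, hg₀, hgw⟩ : ∃ g₀ ∈ N, (g₀ * a * g₀⁻¹) w₀ ≠ w₀ := by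
    by_contra! h
    refine hw0 (fx_bot hir (S := {x | ∃ g ∈ N, x = g * a * g⁻¹}) ?_ ⟨1, N.one_mem, by simp⟩ h1 ?_)
    · rintro g hg _ ⟨t, ht, rfl⟩; exact ⟨g * t, N.mul_mem hg ht, by group⟩
    · rintro _ ⟨t, ht, rfl⟩; exact h t ht
  obtain ⟨v₁, hv₁, hv⟩ := res (ih U hU) (inf_le_right : L ⊓ H ≤ H) (fun g hg => hL0 g (hHN hg)) hL.to_inf_left hUi
    (hL0 g₀ hg₀ a ⟨ha, haH⟩) (by rw [conj_pow, hap]; simp) hwU hgw
  letI := Fintype.ofFinite (N ⧸ H.subgroupOf N)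
  refine ⟨∏ c : N ⧸ H.subgroupOf N, (c.out : MulAut V) v₁, fun g hg e => ?_⟩
  set a' := g * a * g⁻¹ with ha'
  let d : N ⧸ H.subgroupOf N → V := fun c => a' ((c.out : MulAut V) v₁) * ((c.out : MulAut V) v₁)⁻¹
  have hd : ∏ c, d c = 1 := by rw [Finset.prod_mul_distrib, Finset.prod_inv_distrib, ← map_prod, e, mul_inv_cancel]
  have hd' : ∀ c, ∀ s ∈ N, (c.out : MulAut V)⁻¹ * s ∉ H → nm (Bg s) (d c) = 1 := fun c s hs hs' => by
    have := U.mul_mem (hUi _ (hL0 _ (N.inv_mem c.out.2) _ (hL0 g hg a ⟨ha, haH⟩)).2 _ hv₁) (U.inv_mem hv₁)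
    rw [show d c = (c.out : MulAut V) ((((c.out : MulAut V))⁻¹ * a' * ((c.out : MulAut V))⁻¹⁻¹) v₁ * v₁⁻¹) by simp [d],
      K3, (mU _).1 this _ (N.mul_mem (N.inv_mem c.out.2) hs) hs', map_one]
  obtain ⟨h, hh⟩ := QuotientGroup.mk_out_eq_mul (H.subgroupOf N) (⟨g * g₀⁻¹, N.mul_mem hg (N.inv_mem hg₀)⟩ : N)
  set c₀ : N ⧸ H.subgroupOf N := QuotientGroup.mk ⟨g * g₀⁻¹, N.mul_mem hg (N.inv_mem hg₀)⟩
  have h0 : d c₀ = 1 := hW _ fun s hs => by
    by_cases h2 : (c₀.out : MulAut V)⁻¹ * s ∈ H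
    · have := congrArg (nm (Bg s)) hd
      rwa [map_prod, map_one, Finset.prod_eq_single c₀ (fun c _ hc => hd' c s hs fun h3 => hc ?_) (by simp)] at this
      rw [← c.out_eq, ← c₀.out_eq, QuotientGroup.eq, mem_subgroupOf]
      simpa [mul_assoc] using H.mul_mem h3 (H.inv_mem h2)
    · exact hd' c₀ s hs h2
  refine hv ((h : N) : MulAut V)⁻¹ (H.inv_mem h.2) ((c₀.out : MulAut V).injective ?_)
  rw [← mul_inv_eq_one.1 h0, ← MulAut.mul_apply, ← MulAut.mul_apply, hh, ha']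
  congr 1
  simp only [coe_mul]; group

theorem step [hp : Fact p.Prime] (h2 : p ≠ 2) (hV : ¬ p ∣ Nat.card V) (ih : ∀ U : Subgroup V, U ≠ ⊤ → Cl p U) : Cl p V := by
  intro N L hLN hn hL a ha h1 hap
  by_contra! hc
  have hir := irr hV ih hLN hn hL ha h1 hap hc
  by_cases hA : ∀ A : Subgroup L, A.Characteristic → IsMulCommutative A → IsCyclic A
  swap
  · push Not at hA
    obtain ⟨A, hA, hA1, hA2⟩ := hA
    obtain ⟨v, hv⟩ := caseA hV ih hLN hn hL ha h1 hap hir (B := A.map L.subtype) (map_subtype_le A) (fun g hg b hb =>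
      (mem_normalizer_iff.1 (Core.normalizer_le_normalizer_map_subtype A (mem_normalizer_fintype (hn g hg))) b).1 hb)
      fun h => hA2 ((A.equivMapOfInjective _ L.subtype_injective).isCyclic.2 h)
    obtain ⟨g, hg, e⟩ := hc v
    exact hv g hg e
  obtain ⟨E, R, hER, hsup, hE, hR⟩ := S3762.result hL hA
  replace hR := hR.resolve_right fun h => h2 h.1
  let Z : Subgroup (MulAut V) :=
    { carrier := {x | x ∈ L ∧ (∀ c ∈ L, c * x = x * c) ∧ x ^ p = 1}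
      mul_mem' := fun {x y} hx hy => ⟨L.mul_mem hx.1 hy.1, fun c hc => Commute.mul_right (hx.2.1 c hc) (hy.2.1 c hc), by
        rw [Commute.mul_pow (hy.2.1 x hx.1), hx.2.2, hy.2.2, one_mul]⟩
      one_mem' := ⟨L.one_mem, by simp, one_pow p⟩
      inv_mem' := fun {x} hx => ⟨L.inv_mem hx.1, fun c hc => Commute.inv_right (hx.2.1 c hc), by rw [inv_pow, hx.2.2, inv_one]⟩ }
  have hZn : ∀ g ∈ N, ∀ x ∈ Z, g * x * g⁻¹ ∈ Z := fun g hg x hx => ⟨hn g hg x hx.1, fun c hc => by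
    have := hx.2.1 _ (hn _ (N.inv_mem hg) c hc)
    calc c * (g * x * g⁻¹) = g * (g⁻¹ * c * g⁻¹⁻¹ * x) * g⁻¹ := by group
      _ = _ := by rw [this]; group, by rw [conj_pow, hx.2.2]; simp⟩
  have hZc : IsCyclic ((center L).map L.subtype) :=
    ((center L).equivMapOfInjective _ L.subtype_injective).isCyclic.1 (hA _ inferInstance inferInstance)
  have hZle : Z ≤ (center L).map L.subtype := fun x hx =>
    ⟨⟨x, hx.1⟩, mem_center_iff.2 fun c => Subtype.ext (hx.2.1 c c.2), rfl⟩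
  have hZ : ∀ z ∈ Z, z ≠ 1 → Z ≤ zpowers z ∧ ∀ v, z v = v → v = 1 := fun z hz hz1 => by
    have h3 : Z ≤ zpowers z := fun y hy => by
      by_cases hy1 : y = 1
      · exact hy1 ▸ one_mem _
      · exact PGrp.eq_of_card_eq_of_isCyclic hZc (zpowers_le.2 (hZle hy)) (zpowers_le.2 (hZle hz)) (by
          rw [Nat.card_zpowers, Nat.card_zpowers, orderOf_eq_prime hy.2.2 hy1, orderOf_eq_prime hz.2.2 hz1]) ▸ mem_zpowers y
    exact ⟨h3, fun v hv => fx_bot hir (S := Z) hZn hz hz1 fun x hx => fix_zpowers hv x (h3 hx)⟩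
  have hZ0 : Z ≠ ⊥ := fun e => by
    haveI : Nontrivial L := ⟨⟨⟨a, ha⟩, 1, fun e => h1 (congrArg Subtype.val e)⟩⟩
    haveI := hL.center_nontrivial
    obtain ⟨z, hz⟩ := exists_prime_orderOf_dvd_card' (G := center L) p
      (((hL.to_subgroup (center L)).card_eq_or_dvd).resolve_left Finite.one_lt_card.ne')
    have h3 : ((z : L) : MulAut V) ∈ Z := ⟨z.1.2, fun c hc => congrArg Subtype.val (mem_center_iff.1 z.2 ⟨c, hc⟩), by
      rw [← coe_pow, ← coe_pow, ← hz, pow_orderOf_eq_one]; rfl⟩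
    rw [e, mem_bot, OneMemClass.coe_eq_one, OneMemClass.coe_eq_one] at h3
    exact hp.out.ne_one (by rw [← hz, h3, orderOf_one])
  have hdec : ∀ x : L, ∃ e ∈ E, ∃ r ∈ R, x = e * r := fun x => by
    have hx : x ∈ E ⊔ R := hsup ▸ mem_top x
    rw [← SetLike.mem_coe, coe_mul_of_left_le_normalizer_right _ _ (fun e he => mem_normalizer_fintype fun r hr => by
      rwa [hER e he r hr, mul_inv_cancel_right])] at hx
    obtain ⟨e, he, r, hr, rfl⟩ := hx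
    exact ⟨e, he, r, hr, rfl⟩
  have hRc : ∀ r ∈ R, ∀ x : L, Commute r x := fun r hr x => by
    obtain ⟨e, he, r', hr', rfl⟩ := hdec x
    exact Commute.mul_right (hER e he r hr).symm (setLike_mul_comm (s := R) hr hr')
  have hd : ∀ x ∈ L, ∀ y ∈ L, ⁅x, y⁆ ∈ Z := fun x hx y hy => by
    obtain ⟨e, he, r, hr, h3⟩ := hdec ⟨x, hx⟩
    obtain ⟨e', he', r', hr', h4⟩ := hdec ⟨y, hy⟩
    have h5 : ⁅(⟨x, hx⟩ : L), (⟨y, hy⟩ : L)⁆ = ⁅e, e'⁆ := by
      rw [h3, h4, commutatorElement_def, mul_assoc e r, (hRc r hr _).eq, ← mul_assoc, mul_inv_rev, mul_assoc _ r,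
        mul_inv_cancel_left, ← mul_assoc, mul_assoc _ r', (hRc r' hr' _).eq, commutatorElement_def]
      group
    rw [show ⁅x, y⁆ = ((⁅e, e'⁆ : L) : MulAut V) from congrArg Subtype.val h5]
    rcases hE with rfl | hE
    · rw [mem_bot.1 he, commutatorElement_one_left]; exact Z.one_mem
    have h6 : ⁅(⟨e, he⟩ : E), (⟨e', he'⟩ : E)⁆ ∈ center E := hE.1.2.2 ▸ commutator_mem_commutator (mem_top _) (mem_top _)
    refine ⟨(⁅e, e'⁆ : L).2, fun c hc => ?_, ?_⟩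
    · obtain ⟨f, hf, s, hs, h7⟩ := hdec ⟨c, hc⟩
      have : Commute (⟨c, hc⟩ : L) ⁅e, e'⁆ :=
        h7 ▸ Commute.mul_left (congrArg Subtype.val (mem_center_iff.1 h6 ⟨f, hf⟩)) (hRc s hs _)
      exact congrArg Subtype.val this
    · have := pow_card_eq_one' (x := (⟨_, h6⟩ : center E))
      rw [hE.2] at this
      exact congrArg (fun x : center E => (((x : E) : L) : MulAut V)) this
  obtain ⟨v, -, hv1, hv⟩ := caseB h2 hV hZ (fun z hz => hz.2.2) hZ0 _ L rfl hL (fun z hz => hz.1) (fun z hz => hz.2.1) hd ⊤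
    (fun e => h1 (MulEquiv.ext fun v => by rw [mem_bot.1 (e ▸ mem_top v : v ∈ (⊥ : Subgroup V))]; simp))
    fun _ _ _ _ => trivial
  obtain ⟨g, hg, e⟩ := hc v
  have h3 : (g * a * g⁻¹) ^ p = 1 := by rw [conj_pow, hap]; simp
  exact hv1 ((hZ _ ⟨hn g hg a ha, fun c hc => (hv _ (hn g hg a ha) h3 e c hc).symm, h3⟩ (by simpa using h1)).2 v e)

end

universe u
theorem claim {p : ℕ} [Fact p.Prime] (h2 : p ≠ 2) (n : ℕ) :
    ∀ (V : Type u) [CommGroup V] [Finite V], Nat.card V = n → ¬ p ∣ Nat.card V → Cl p V := by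
  induction n using Nat.strong_induction_on with
  | _ n ih =>
  intro V _ _ hn hV
  exact step h2 hV fun U hU => ih _ (hn ▸ (card_top (G := V)) ▸ Transfer.card_lt_of_lt hU.lt_top) U rfl
    fun h => hV (h.trans (card_subgroup_dvd_card U))

theorem main {p : ℕ} [hp : Fact p.Prime] (h2 : p ≠ 2) (n : ℕ) : ∀ (G : Type u) [Group G] [Finite G] [Group.IsSolvable G],
    Nat.card G = n → ∀ A : Subgroup G, IsPGroup p A →
      (∀ c : G, ∃ g : G, IsConj c g ∧ IsPGroup p ↥(A ⊔ A.map (MulAut.conj g).toMonoidHom)) → A ≤ pCore p G := by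
  induction n using Nat.strong_induction_on with
  | _ n ih =>
  intro G _ _ _ hn A hA h
  rcases subsingleton_or_nontrivial G with hG | hG
  · exact fun x _ => Subsingleton.elim 1 x ▸ one_mem _
  obtain ⟨V, q, hVn, hV0, -, hVc, hq, -, hVq⟩ := Hall.exists_minNormal_elementary (G := G)
  have hK : A ≤ (pCore p (G ⧸ V)).comap (QuotientGroup.mk' V) := map_le_iff_le_comap.1 <|
    ih _ (hn ▸ by
      rw [card_eq_card_quotient_mul_card_subgroup V]
      exact lt_mul_of_one_lt_right Nat.card_pos (V.one_lt_card_iff_ne_bot.2 hV0)) (G ⧸ V) rfl _ (hA.map _) fun c => by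
      obtain ⟨c, rfl⟩ := QuotientGroup.mk'_surjective V c
      obtain ⟨g, hg, hg'⟩ := h c
      refine ⟨_, (QuotientGroup.mk' V).map_isConj hg, ?_⟩
      have := hg'.map (QuotientGroup.mk' V)
      rwa [Subgroup.map_sup, map_map, show (QuotientGroup.mk' V).comp (MulAut.conj g).toMonoidHom =
        (MulAut.conj (QuotientGroup.mk' V g)).toMonoidHom.comp (QuotientGroup.mk' V) from MonoidHom.ext fun x => by simp,
        ← map_map] at this
  by_cases hqp : q = p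
  · subst hqp
    rwa [Core.comap_pCore_quotient V hVq] at hK
  set K := (pCore p (G ⧸ V)).comap (QuotientGroup.mk' V) with hKd
  haveI := Core.pCore_characteristic p (G ⧸ V)
  have hKn : K.Normal := inferInstance
  by_cases hc : A ≤ centralizer (V : Set G)
  · haveI : Group.IsNilpotent ↥(K ⊓ centralizer (V : Set G)) := by
      haveI := (Core.isPGroup_pCore p (G ⧸ V)).isNilpotent
      refine Subgroup.isNilpotent_of_ker_le_center (((QuotientGroup.mk' V).comp (K ⊓ centralizer (V : Set G)).subtype).codRestrict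
        (pCore p (G ⧸ V)) fun x => x.2.1) (fun x hx => mem_center_iff.2 fun y => Subtype.ext ?_)
      exact (y.2.2 x ((QuotientGroup.eq_one_iff _).1 (congrArg Subtype.val hx))).symm
    exact (Core.le_pCoreOf_of_nilpotent hA (le_inf hK hc)).trans (Core.map_subtype_pCore_le _)
  exfalso
  haveI := Fact.mk hq
  have hco : (Nat.card V).Coprime p := by
    obtain ⟨k, hk⟩ := hVq.exists_card_eq
    exact hk ▸ ((Nat.coprime_primes hq hp.out).2 hqp).pow_left k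
  let φ : G →* MulAut V := MulAut.conjNormal
  have hφ : ∀ v ∈ V, φ v = 1 := fun v hv => MulEquiv.ext fun w => Subtype.ext (by
    simp [φ, setLike_mul_comm (s := V) hv w.2])
  have hL : IsPGroup p (K.map φ) := Core.isPGroup_iff_forall_mem.2 <| by
    rintro _ ⟨x, hx, rfl⟩
    obtain ⟨k, hk⟩ := Core.isPGroup_iff_forall_mem.1 (Core.isPGroup_pCore p (G ⧸ V)) _ hx
    exact ⟨k, by rw [← map_pow, hφ _ ((QuotientGroup.eq_one_iff _).1 hk)]⟩
  haveI : Nontrivial (A.map φ) := (nontrivial_iff_ne_bot _).2 fun e => hc fun a ha v hv => by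
    have := congrArg (fun f : MulAut V => (f ⟨v, hv⟩ : G)) (mem_bot.1 (e.le (mem_map_of_mem φ ha)))
    exact (mul_inv_eq_iff_eq_mul.1 this).symm
  obtain ⟨⟨_, a, ha, rfl⟩, hz⟩ := exists_prime_orderOf_dvd_card' (G := A.map φ) p
    ((hA.map φ).card_eq_or_dvd.resolve_left Finite.one_lt_card.ne')
  replace hz : orderOf (φ a) = p := (orderOf_coe _).trans hz
  letI : CommGroup V := { mul_comm := hVc.is_comm.comm }
  obtain ⟨v, hv⟩ := claim h2 _ V rfl ((Nat.Prime.coprime_iff_not_dvd hp.out).1 hco.symm) φ.range (K.map φ) (map_le_range _ _)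
    (by rintro _ ⟨g, rfl⟩ _ ⟨x, hx, rfl⟩; exact ⟨_, hKn.conj_mem x hx g, by rw [map_mul, map_mul, map_inv]⟩) hL (φ a)
    (mem_map_of_mem φ (hK ha)) (fun e => hp.out.ne_one (by rw [← hz, e, orderOf_one])) (hz ▸ pow_orderOf_eq_one _)
  obtain ⟨g, hg, hg'⟩ := h v
  obtain ⟨x, rfl⟩ := isConj_iff.1 hg
  have hw := hVn.conj_mem v v.2 x
  have h3 : a⁻¹ * (x * v * x⁻¹ * a * (x * v * x⁻¹)⁻¹) ∈ (A ⊔ A.map (MulAut.conj (x * v * x⁻¹)).toMonoidHom) ⊓ V :=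
    ⟨mul_mem (mem_sup_left (A.inv_mem ha)) (mem_sup_right ⟨a, ha, rfl⟩), by
      simpa [mul_assoc] using V.mul_mem (hVn.conj_mem _ hw a⁻¹) (V.inv_mem hw)⟩
  rw [Core.inf_eq_bot_of_isPGroup_of_coprime hp.out hg' hco, mem_bot] at h3
  refine hv (φ x⁻¹) ⟨_, rfl⟩ (Subtype.ext ?_)
  rw [← map_inv, ← map_mul, ← map_mul]
  rw [MulAut.conjNormal_apply]
  calc _ = x⁻¹ * (a * (a⁻¹ * (x * v * x⁻¹ * a * (x * v * x⁻¹)⁻¹)) * (x * v * x⁻¹) * a⁻¹) * x := by rw [h3]; group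
    _ = _ := by group


/-- Let G be a finite solvable group, p an odd prime and A a p-subgroup of G such that every conjugacy class of G contains an element g for which A is subnormal in the subgroup generated by A and its conjugate by g. Then A is contained in O_p(G). (The hypothesis that p is odd is needed.) -/
theorem result {G : Type*} [Group G] [Finite G]
    (hG : Group.IsSolvable G) (p : ℕ) [Fact p.Prime] (hp : p ≠ 2) (A : Subgroup G) (hA : IsPGroup p A)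
    (h : ∀ c : G, ∃ g : G, IsConj c g ∧ (A.subgroupOf (A ⊔ MulAut.conj g • A)).IsSubnormal) :
    A ≤ Cfsg.pCore p G := by
  haveI := hG
  refine main hp _ G rfl A hA fun c => (h c).imp fun g hg => ⟨hg.1, ?_⟩
  have h1 := (Core.subnormalIn_iff.2 ⟨le_sup_left, hg.2⟩).le_pCoreOf hA
  refine ((Core.isPGroup_pCoreOf (A ⊔ MulAut.conj g • A)).to_sup_of_normal_left' (hA.map (MulAut.conj g).toMonoidHom)
    (le_trans le_sup_right (Core.le_normalizer_pCoreOf _))).to_le (sup_le_sup_right h1 _)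

end Cfsg.Agent.S4330
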