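import Cfsg.Statements.S4331
import Cfsg.Agent.Lib.Core.Subnormal

set_option autoImplicit false
open Cfsg

open Subgroup Cfsg.Lib
open scoped commutatorElement
namespace Cfsg.Agent.S4331

@[ext] structure SD where
  j : ZMod 8
  e : ZMod 2
  deriving DecidableEq, Fintype

instance : Mul SD := ⟨fun x y => ⟨x.j + (if x.e = 0 then y.j else 3 * y.j), x.e + y.e⟩⟩
instance : One SD := ⟨⟨0, 0⟩⟩
instance : Inv SD := ⟨fun x => ⟨if x.e = 0 then -x.j else -(3 * x.j), x.e⟩⟩
instance : Group SD := Group.ofLeftAxioms (by decide +kernel) (by decide +kernel) (by decide +kernel)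

def act (k : SD) (v : ZMod 3 × ZMod 3) : ZMod 3 × ZMod 3 :=
  (fun w : ZMod 3 × ZMod 3 => (w.1 - w.2, w.1 + w.2))^[k.j.val] (if k.e = 0 then v else (v.1, -v.2))

theorem act_mul : ∀ k l v, act (k * l) v = act k (act l v) := by decide +kernel
theorem act_add : ∀ k v w, act k (v + w) = act k v + act k w := by decide +kernel

@[ext] structure AG where
  v : ZMod 3 × ZMod 3
  k : SD
  deriving DecidableEq, Fintype

instance : Mul AG := ⟨fun x y => ⟨x.v + act x.k y.v, x.k * y.k⟩⟩
instance : One AG := ⟨⟨0, 1⟩⟩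
instance : Inv AG := ⟨fun x => ⟨-act x.k⁻¹ x.v, x.k⁻¹⟩⟩
instance : Group AG := Group.ofLeftAxioms
  (fun x y z => AG.ext (show x.v + act x.k y.v + act (x.k * y.k) z.v = x.v + act x.k (y.v + act y.k z.v) by
    rw [act_mul, act_add, add_assoc]) (mul_assoc _ _ _))
  (by decide +kernel) (by decide +kernel)

def a : AG := ⟨0, ⟨0, 1⟩⟩

theorem conj_cases : ∀ c : AG, ∃ h : AG, (h * c * h⁻¹).v = 0 ∨ h * c * h⁻¹ * a = a * (h * c * h⁻¹) := by
  decide +kernel

def K : Subgroup AG where
  carrier := {g | g.v = 0}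
  one_mem' := rfl
  mul_mem' := fun {x y} => (by decide +kernel : ∀ x y : AG, x.v = 0 → y.v = 0 → (x * y).v = 0) x y
  inv_mem' := fun {x} => (by decide +kernel : ∀ x : AG, x.v = 0 → x⁻¹.v = 0) x

/-- There is a finite solvable group G with a subgroup A of order 2 such that every conjugacy class of G contains an element g for which A is subnormal in the subgroup generated by A and g, and yet A is not contained in O_2(G). (So the corresponding criteria for odd primes fail at the prime 2, even for solvable groups.) -/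
theorem result :
    ∃ (G : Type) (_ : Group G) (_ : Finite G) (A : Subgroup G), Group.IsSolvable G ∧ Nat.card A = 2 ∧
      (∀ c : G, ∃ g : G, IsConj c g ∧ (A.subgroupOf (A ⊔ Subgroup.zpowers g)).IsSubnormal) ∧
      ¬ A ≤ Cfsg.pCore 2 G := by
  have hK : IsPGroup 2 K := Core.isPGroup_iff_forall_mem.2 fun x hx =>
    ⟨3, (by decide +kernel : ∀ x : AG, x.v = 0 → x ^ 2 ^ 3 = 1) x hx⟩
  refine ⟨AG, inferInstance, inferInstance, zpowers a, ?_, ?_, fun c => ?_, fun h => ?_⟩
  · haveI := (IsPGroup.of_card (p := 2) (n := 4) (G := SD) (by rw [Nat.card_eq_fintype_card]; rfl)).isNilpotent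
    refine solvable_of_ker_le_range (MonoidHom.mk' (fun v : Multiplicative (ZMod 3 × ZMod 3) => (⟨v.toAdd, 1⟩ : AG))
      (by decide +kernel)) (MonoidHom.mk' (fun g : AG => g.k) fun _ _ => rfl) fun g hg => ⟨.ofAdd g.v, AG.ext rfl hg.symm⟩
  · rw [Nat.card_zpowers, orderOf_eq_prime (p := 2) (by decide +kernel) (by decide +kernel)]
  · obtain ⟨h, hh⟩ := conj_cases c
    refine ⟨h * c * h⁻¹, isConj_iff.2 ⟨h, rfl⟩, (Core.subnormalIn_iff.1 ?_).2⟩
    rcases hh with hh | hh
    · haveI := (hK.to_le (sup_le (zpowers_le.2 (show a ∈ K from rfl)) (zpowers_le.2 (show _ ∈ K from hh)))).isNilpotent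
      exact Core.subnormalIn_of_nilpotent le_sup_left
    · refine Core.SubnormalIn.of_le_normalizer le_sup_left (sup_le le_normalizer (zpowers_le.2
        (centralizer_le_normalizer _ ?_)))
      rintro _ ⟨i, rfl⟩
      exact ((Commute.zpow_right hh i).eq).symm
  · have h1 := h (mem_zpowers a)
    obtain ⟨k, hk⟩ := Core.isPGroup_iff_forall_mem.1 (Core.isPGroup_pCore 2 AG) _
      (mul_mem h1 (Normal.conj_mem inferInstance a h1 ⟨(0, 1), 1⟩))
    have := orderOf_dvd_of_pow_eq_one hk
    rw [orderOf_eq_prime (p := 3) (by decide +kernel) (by decide +kernel)] at this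
    exact absurd (Nat.prime_three.dvd_of_dvd_pow this) (by norm_num)

end Cfsg.Agent.S4331
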