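import Cfsg.Statements.S4332
import Cfsg.Agent.Lib.Linear.AutAlt
import Cfsg.Agent.Lib.Core.PCore

set_option autoImplicit false
open Pointwise
open Cfsg

open Subgroup Cfsg.Lib
open scoped commutatorElement
open Equiv Equiv.Perm Finset Cfsg.Lib.Linear
open scoped Pointwise
namespace Cfsg.Agent.S4332

theorem commute_of_support_eq {α : Type*} [Fintype α] [DecidableEq α] {x y : Perm α} (hx : x.IsThreeCycle)
    (hy : y.IsThreeCycle) (h : x.support = y.support) : Commute x y := by
  obtain ⟨a, ha⟩ := card_pos.1 (show 0 < x.support.card by rw [hx.card_support]; norm_num)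
  obtain ⟨b, c, hab, hac, hbc, rfl⟩ := exists_cyc3 hx (mem_support.1 ha)
  obtain ⟨d, e, had, hae, hde, rfl⟩ := exists_cyc3 hy (mem_support.1 (h ▸ ha))
  have key : ∀ z, cyc3 a d e z ≠ z → z ≠ a → z = b ∨ z = c := fun z hz hza => by
    have := mem_support.1 (h ▸ mem_support.2 hz)
    rw [cyc3_apply hab hac hbc] at this
    by_contra hn
    push Not at hn
    simp [hza, hn] at this
  have hd := key d (by rw [cyc3_apply had hae hde]; simp [had.symm, hde.symm]) had.symm
  have he := key e (by rw [cyc3_apply had hae hde]; simp [hae.symm, hde.symm, hae]) hae.symm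
  rcases hd with rfl | rfl <;> rcases he with rfl | rfl
  · exact absurd rfl hde
  · exact Commute.refl _
  · ext z
    simp only [Perm.mul_apply, cyc3_apply hab hac hbc, cyc3_apply had hae hde]
    grind
  · exact absurd rfl hde

theorem exists_triple (c : Perm (Fin 8)) : ∃ T : Finset (Fin 8), T.card = 3 ∧
    (T.map c.toEmbedding = T ∨ Disjoint T (T.map c.toEmbedding)) := by
  have inv : ∀ T : Finset (Fin 8), (∀ x ∈ T, c x ∈ T) → T.map c.toEmbedding = T := fun T h =>
    eq_of_subset_of_card_le (fun y hy => by obtain ⟨x, hx, rfl⟩ := mem_map.1 hy; exact h x hx) (card_map _).ge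
  by_cases h6 : 3 ≤ c.supportᶜ.card
  · obtain ⟨T, hT, hc⟩ := exists_subset_card_eq h6
    exact ⟨T, hc, Or.inl (inv T fun x hx => by rwa [notMem_support.1 (mem_compl.1 (hT hx))])⟩
  have h := card_add_card_compl c.support
  rw [Fintype.card_fin] at h
  have fin : ∀ x y : Fin 8, c x ≠ x → c y ≠ y → x ≠ y → c x ≠ y → c y ≠ x → ∀ S : Finset (Fin 8), S.card ≤ 5 →
      (∀ z, z = x ∨ z = y ∨ z = c x ∨ z = c y ∨ c z = x ∨ c z = y → z ∈ S) → ∃ T : Finset (Fin 8), T.card = 3 ∧
      (T.map c.toEmbedding = T ∨ Disjoint T (T.map c.toEmbedding)) := by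
    intro x y hx hy hxy h1 h2 S hS H
    obtain ⟨z, hz, hz'⟩ := exists_mem_notMem_of_card_lt_card (s := S) (t := c.support) (by omega)
    have := mt (H z) hz'
    push Not at this
    have hz := mem_support.1 hz
    refine ⟨{x, y, z}, card_eq_three.2 ⟨x, y, z, hxy, this.1.symm, this.2.1.symm, rfl⟩, Or.inr ?_⟩
    simp only [map_insert, map_singleton, Equiv.coe_toEmbedding, disjoint_insert_right, disjoint_singleton_right,
      mem_insert, mem_singleton]
    grind
  by_cases h3 : ∃ x, c x ≠ x ∧ c (c x) ≠ x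
  · obtain ⟨x, h1, h2⟩ := h3
    have h4 : c (c x) ≠ c x := c.injective.ne h1
    by_cases h3 : c (c (c x)) = x
    · exact ⟨{x, c x, c (c x)}, card_eq_three.2 ⟨_, _, _, h1.symm, h2.symm, h4.symm, rfl⟩,
        Or.inl (inv _ (by simp [h3]))⟩
    · refine fin x (c (c x)) h1 (c.injective.ne h4) h2.symm h4.symm h3 {c⁻¹ x, x, c x, c (c x), c (c (c x))}
        card_le_five fun z hz => ?_
      rcases hz with h | h | h | h | h | h
      any_goals simp [h]
      · simp [← h]
      · simp [c.injective h]
  · push Not at h3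
    obtain ⟨x, hx⟩ := card_pos.1 (show 0 < c.support.card by omega)
    obtain ⟨y, hy, hy'⟩ := exists_mem_notMem_of_card_lt_card (s := {x, c x}) (t := c.support)
      (card_le_two.trans_lt (by omega))
    have hx := mem_support.1 hx
    have hy := mem_support.1 hy
    simp only [mem_insert, mem_singleton, not_or] at hy'
    refine fin x y hx hy (Ne.symm hy'.1) (Ne.symm hy'.2) (fun e => hy'.2 (by rw [← e, h3 y hy]))
      {x, y, c x, c y} (card_le_four.trans (by norm_num)) fun z hz => ?_
    rcases hz with h | h | h | h | h | h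
    any_goals simp [h]
    · simp [c.injective (h.trans (h3 x hx).symm)]
    · simp [c.injective (h.trans (h3 y hy).symm)]

/-- In the symmetric group of degree 8, let A be the subgroup generated by a 3-cycle. Then every conjugacy class contains an element g for which A is subnormal in the subgroup generated by A and its conjugate by g, although O_3 of the symmetric group of degree 8 is trivial. -/
theorem result
    (σ : Equiv.Perm (Fin 8)) (hσ : σ.IsThreeCycle) :
    (∀ c : Equiv.Perm (Fin 8), ∃ g : Equiv.Perm (Fin 8), IsConj c g ∧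
      ((Subgroup.zpowers σ).subgroupOf (Subgroup.zpowers σ ⊔ MulAut.conj g • Subgroup.zpowers σ)).IsSubnormal) ∧
    Cfsg.pCore 3 (Equiv.Perm (Fin 8)) = ⊥ := by
  refine ⟨fun c => ?_, ?_⟩
  · obtain ⟨T, hT, h⟩ := exists_triple c
    obtain ⟨τ, hτ⟩ := Equiv.Perm.exists_map_finset_eq (s := T) (t := σ.support) (hT.trans hσ.card_support.symm)
    have hs : (τ * c * τ⁻¹ * σ * (τ * c * τ⁻¹)⁻¹).support = (T.map c.toEmbedding).map τ.toEmbedding := by
      rw [support_conj, ← hτ, map_map, map_map]
      congr 1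
      ext x; simp
    have hc : Commute σ (τ * c * τ⁻¹ * σ * (τ * c * τ⁻¹)⁻¹) := by
      rcases h with h | h
      · exact commute_of_support_eq hσ (by rw [IsThreeCycle, cycleType_conj]; exact hσ) (by rw [hs, h, hτ])
      · exact (disjoint_iff_disjoint_support.2 (by rw [hs, ← hτ]; exact (disjoint_map _).2 h)).commute
    refine ⟨τ * c * τ⁻¹, isConj_iff.2 ⟨τ, rfl⟩, Normal.isSubnormal (normal_subgroupOf_iff_le_normalizer le_sup_left |>.2
      (sup_le le_normalizer ((show _ ≤ centralizer (zpowers σ : Set (Perm (Fin 8))) from ?_).trans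
        (centralizer_le_normalizer _))))⟩
    rintro _ ⟨_, ⟨i, rfl⟩, rfl⟩ _ ⟨j, rfl⟩
    have := (hc.zpow_zpow j i).eq
    rw [conj_zpow] at this
    exact this
  · by_contra h
    have := alternatingGroup_le_of_normal (by simp) ((nontrivial_iff_ne_bot _).2 h)
    have h3 := (Core.isPGroup_pCore (p := 3) (G := Perm (Fin 8))).to_le this
    obtain ⟨k, hk⟩ := h3 ⟨swap 0 1 * swap 2 3, by simp⟩
    have h2 : orderOf (⟨swap 0 1 * swap 2 3, by simp⟩ : alternatingGroup (Fin 8)) = 2 :=
      orderOf_eq_prime (by decide) (by decide)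
    have := orderOf_dvd_of_pow_eq_one hk
    rw [h2] at this
    exact absurd (Nat.prime_two.dvd_of_dvd_pow this) (by norm_num)

end Cfsg.Agent.S4332
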