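import Cfsg.Statements.S4333
import Cfsg.Agent.Lib.Hall.MinNormal
import Cfsg.Agent.Lib.Core.Subnormal

set_option autoImplicit false
open Pointwise
open Cfsg

namespace Cfsg.Agent.S4333

open scoped Pointwise commutatorElement
open Cfsg.Lib Cfsg.Lib.Hall

open Cfsg.Lib.Core Subgroup

theorem aux {G : Type*} [Group G] [Finite G] {A L : Subgroup G} (hAL : A ≤ L)
    (h : ∀ a ∈ A, ∀ g ∈ L,
      SubnormalIn (A ⊔ A.map (MulAut.conj (g⁻¹ * a * g)).toMonoidHom) A) : SubnormalIn L A := by
  induction L using WellFoundedLT.induction with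
  | ind L ih =>
  by_contra hn
  have h0 : ∀ H : Subgroup G, A ≤ H → H < L → SubnormalIn H A := fun H h1 h2 =>
    ih H h2 h1 fun a ha g hg => h a ha g (h2.le hg)
  obtain ⟨M, hM, hM'⟩ := zipper hAL h0 hn
  have hAM : A ≤ M := hM' A le_rfl (lt_of_le_of_ne hAL fun e => hn (e ▸ SubnormalIn.refl))
  have hNM : L ⊓ normalizer (M : Set G) ≤ M := by
    refine hM' _ (le_inf hAL (hAM.trans le_normalizer)) (lt_of_le_of_ne inf_le_left fun e => hn ?_)
    exact (h0 M hAM hM).trans (SubnormalIn.of_le_normalizer hM.le (inf_eq_left.1 e))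
  have key : ∀ a ∈ A, ∀ g ∈ L, g⁻¹ * a * g ∈ M := by
    intro a ha g hg
    have hx : g⁻¹ * a * g ∈ L := mul_mem (mul_mem (inv_mem hg) (hAL ha)) hg
    set x := g⁻¹ * a * g with hxd
    have h1 : A.map (MulAut.conj x).toMonoidHom ≤ M := le_sup_right.trans (hM' _ le_sup_left
      (lt_of_le_of_ne (sup_le hAL (map_conj_le_of_mem hx hAL)) fun h' => hn (h' ▸ h a ha g hg)))
    have h2 : M.map (MulAut.conj x⁻¹).toMonoidHom ≤ M := by
      refine hM' _ ?_ ?_
      · have := map_mono (f := (MulAut.conj x⁻¹).toMonoidHom) h1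
        rwa [map_conj_map_conj, inv_mul_cancel, map_conj_one] at this
      · rw [← map_conj_eq_of_mem (inv_mem hx)]
        exact (map_lt_map_iff_of_injective (MulAut.conj x⁻¹).injective).2 hM
    have h3 := map_conj_eq_iff_mem_normalizer.1 (eq_of_le_of_card_ge h2 (card_map_conj x⁻¹ M).ge)
    exact hNM ⟨hx, by simpa using inv_mem h3⟩
  set J : Subgroup G := ⨆ g : L, A.map (MulAut.conj (g : G)).toMonoidHom with hJ
  have hJM : J ≤ M := iSup_le fun g => by
    rintro _ ⟨a, ha, rfl⟩
    simpa using key a ha (g : G)⁻¹ (inv_mem g.2)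
  have hJn : L ≤ normalizer (J : Set G) := fun g hg => mem_normalizer_of_conj_mem fun x hx => by
    have : J.map (MulAut.conj g).toMonoidHom ≤ J := by
      rw [hJ, Subgroup.map_iSup]
      exact iSup_le fun h => by
        rw [map_conj_map_conj]; exact le_iSup_of_le (⟨g * h, mul_mem hg h.2⟩ : L) le_rfl
    exact this (conj_mem_map_conj hx)
  exact hn ((h0 J (le_iSup_of_le (1 : L) (map_conj_one A).ge) (hJM.trans_lt hM)).trans
    (SubnormalIn.of_le_normalizer (hJM.trans hM.le) hJn))

/-- Let A be a subgroup of a finite group G. If A is subnormal in the subgroup generated by A and its conjugate by g⁻¹ a g, for every a ∈ A and every g ∈ G, then A is subnormal in G. (A sharpening of Wielandt's subnormality criterion: only conjugates of A by conjugates of elements of A are needed.) -/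
theorem result {G : Type*} [Group G] [Finite G]
    (A : Subgroup G)
    (h : ∀ a ∈ A, ∀ g : G, (A.subgroupOf (A ⊔ MulAut.conj (g⁻¹ * a * g) • A)).IsSubnormal) :
    A.IsSubnormal := by
  refine subnormalIn_top_iff.1 (aux le_top fun a ha g _ => ?_)
  rw [← Hall.conj_smul_eq_map]
  exact subnormalIn_iff.2 ⟨le_sup_left, h a ha g⟩

end Cfsg.Agent.S4333
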