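import Cfsg.Statements.S4334
import Cfsg.Agent.Lib.Hall.MarA
import Cfsg.Agent.Lib.Hall.HallSep

set_option autoImplicit false
open Cfsg

namespace Cfsg.Agent.S4334

open scoped Pointwise commutatorElement
open Cfsg.Lib Cfsg.Lib.Hall

open Subgroup Cfsg.Lib.Core Cfsg.Lib.Amalg Cfsg.Lib.BG1

theorem hall_aux {G : Type*} [Group G] [Finite G] {σ τ : Set ℕ} (hd : Disjoint σ τ) {A B : Subgroup G}
    (hH : IsPiHall (σ ∪ τ) (A ⊔ B)) (hs : IsPiSubgroup σ A) (ht : IsPiSubgroup τ B) (hc : B ≤ 𝐂(A)) :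
    IsPiHallOf σ A ⊤ :=
  ⟨le_top, hs, fun r hr h1 h2 => by
    rw [relIndex_top_right, ← relIndex_mul_index (le_sup_left : A ≤ A ⊔ B), hr.dvd_mul] at h2
    exact h2.elim (fun h2 => Set.disjoint_left.1 hd h1 (ht r hr (h2.trans
      (BG1.relIndex_dvd_card_of_sup (le_norm_of_le_cent hc))))) (hH.2 r hr (.inl h1))⟩

/-- Let σ and τ be disjoint sets of primes with union π. Suppose a finite group G has a Hall π-subgroup H which is the direct product of a nilpotent σ-subgroup and a τ-subgroup (two elementwise-commuting subgroups generating H), and that the maximal τ-subgroups of G are pairwise conjugate. Then the maximal π-subgroups of G are pairwise conjugate. -/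
theorem result {G : Type*} [Group G] [Finite G]
    (σ τ π : Set ℕ) (hπ : π = σ ∪ τ) (hd : Disjoint σ τ) (H Hs Ht : Subgroup G) (hH : Cfsg.IsPiHall π H)
    (hs : Cfsg.IsPiSubgroup σ Hs) (ht : Cfsg.IsPiSubgroup τ Ht) (hsn : Group.IsNilpotent Hs)
    (hjoin : Hs ⊔ Ht = H) (hcomm : ∀ a ∈ Hs, ∀ b ∈ Ht, a * b = b * a) (hD : Cfsg.IsDPiGroup τ G) :
    Cfsg.IsDPiGroup π G := by
  subst hπ hjoin
  have hc : Hs ≤ 𝐂(Ht) := fun a ha => mem_centralizer_iff.2 fun b hb => (hcomm a ha b hb).symm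
  have h1 := hall_aux hd hH hs ht (BG1.le_cent_symm hc)
  have h2 := hall_aux hd.symm (by rwa [Set.union_comm, sup_comm]) ht hs hc
  have h3 : ∀ q : ℕ, q.Prime → q ∈ σ ∪ τ → ∀ X : Subgroup G, IsPiNumber (σ ∪ {q}) (Nat.card X) → Group.IsNilpotent X :=
    fun q hq h3 X hX => by
      haveI := Fact.mk hq
      obtain ⟨Q, hQ⟩ := exists_syl q Ht
      haveI := hQ.isPGroup.isNilpotent
      have h4 := hc.trans (centralizer_anti hQ.le)
      haveI := isNilpotent_sup_of_le_centralizer h4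
      obtain ⟨x, hx⟩ := le_conj_of_isPiHall_of_nilpotent (H := Hs ⊔ Q) ⟨isPi_sup (IsPiNumber.mono hs Set.subset_union_left)
        (((isPGroup_iff_isPiNumber hq).1 hQ.isPGroup).mono Set.subset_union_right) (le_norm_of_le_cent h4),
        fun r hr h5 h6 => by
          by_cases e : r ∈ σ
          · exact h1.2.2 r hr e (h6.trans (by rw [relIndex_top_right]; exact index_dvd_of_le le_sup_left))
          · obtain rfl : r = q := h5.resolve_left e
            exact (syl_of_hall h2 (h3.resolve_left e) hQ).not_dvd_relIndex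
              (h6.trans (by rw [relIndex_top_right]; exact index_dvd_of_le le_sup_right))⟩ hX
      haveI : Group.IsNilpotent (MulAut.conj x • (Hs ⊔ Q) : Subgroup G) :=
        Group.nilpotent_of_mulEquiv (cjEquiv x (Hs ⊔ Q))
      exact isNilpotent_of_le hx
  have h4 : ∀ p : ℕ, p.Prime → p ∈ σ → ∀ X Y : Subgroup G, IsPGroup p X → IsPiNumber (σ ∪ τ) (Nat.card Y) →
      ¬ p ∣ Nat.card Y → X ≤ 𝐍(Y) ∨ Y ≤ 𝐍(X) → Y ≤ 𝐂(X) := fun p hp h4 X Y hX hY h5 h6 => by
    refine Coprime.le_of_forall_sylowIn fun q hq h7 => ?_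
    have hc := coprime_of_isPGroup_of_not_dvd hp hX h5
    obtain ⟨Q, h8, h9⟩ : ∃ Q, Syl q Q Y ∧ Nat.card ↥(X ⊔ Q) ∣ Nat.card X * Nat.card Q := by
      rcases h6 with h6 | h6
      · obtain ⟨Q, h8, h9⟩ := coprime_sylow_exists q h6 hc (.inl (solvable_of_pgroup hp hX))
        exact ⟨Q, h8, by rw [sup_comm, mul_comm]; exact card_sup_dvd' h9⟩
      · obtain ⟨Q, h8⟩ := exists_syl q Y
        exact ⟨Q, h8, card_sup_dvd' (h8.le.trans h6)⟩
    exact ⟨Q, syl_iff_sylowIn.1 h8, le_cent_of_coprime_of_nilpotent (h3 q hq.out (hY q hq.out h7) (X ⊔ Q)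
      (((((isPGroup_iff_isPiNumber hp).1 hX).mono (Set.singleton_subset_iff.2 (.inl h4))).mul
        (((isPGroup_iff_isPiNumber hq.out).1 h8.isPGroup).mono Set.subset_union_right)).of_dvd h9))
      le_sup_right le_sup_left (hc.coprime_dvd_right (card_dvd_of_le h8.le)).symm⟩
  refine isDPiGroup_of_le_conj hH fun U hU => ?_
  have h5 : ∀ p : ℕ, p.Prime → p ∈ σ → IsPiHallOf {p}ᶜ 𝐎'[p](U) U := fun p hp h5 => by
    haveI := Fact.mk hp
    obtain ⟨P, hP⟩ := exists_syl p U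
    refine pnil_iff_hall.1 ((syl_iff_sylowIn.1 hP).pnil_iff_forall.2 fun Q h6 g hg h7 h8 => zpowers_le.1
      (h4 p hp h5 Q _ (hP.isPGroup.to_le h6) (isPi_of_le hU (zpowers_le.2 hg)) ?_ (.inr (zpowers_le.2 h7))))
    rw [Nat.card_zpowers]
    exact hp.coprime_iff_not_dvd.1 h8.symm
  obtain ⟨T, hT⟩ : ∃ T : Subgroup G, T = U ⊓ ⨅ p : {p : ℕ // p.Prime ∧ p ∈ σ}, 𝐎'[p.1](U) := ⟨_, rfl⟩
  have hT1 : T ≤ U := hT ▸ inf_le_left
  have h6 : U ≤ 𝐍(T) := hT ▸ le_normalizer_inf le_normalizer (Amalg.le_normalizer_iInf fun _ => le_norm_piCoreOf_self _ _)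
  have h7 : IsPiNumber τ (Nat.card T) := fun r hr h7 => (hU r hr (h7.trans (card_dvd_of_le hT1))).resolve_left
    fun e => not_dvd_card_pPrimeCoreOf hr U (h7.trans (card_dvd_of_le (hT.le.trans (inf_le_right.trans
      (iInf_le (fun p : {p : ℕ // p.Prime ∧ p ∈ σ} => 𝐎'[p.1](U)) ⟨r, hr, e⟩)))))
  have h8 : U ≤ piCoreOf σ U ⊔ T := Coprime.le_of_forall_sylowIn fun q hq _ => by
    obtain ⟨Q, hQ⟩ := exists_syl q U
    have h8 := (isPGroup_iff_isPiNumber hq.out).1 hQ.isPGroup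
    refine ⟨Q, syl_iff_sylowIn.1 hQ, ?_⟩
    by_cases e : q ∈ σ
    · refine (le_piCoreOf' hQ.le ?_ (h8.mono (Set.singleton_subset_iff.2 e))).trans le_sup_left
      rw [← sup_syl_of_hall hQ (h5 q hq.out e)]
      exact sup_le (le_norm_of_le_cent (h4 q hq.out e _ _ hQ.isPGroup (isPi_of_le hU (piCoreOf_le' _ _))
        (not_dvd_card_pPrimeCoreOf hq.out _) (.inl (hQ.le.trans (le_norm_piCoreOf_self _ _))))) le_normalizer
    · refine le_trans ?_ (hT.ge.trans le_sup_right)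
      exact le_inf hQ.le (le_iInf fun p => le_of_isPiHallOf_normal (h5 p p.2.1 p.2.2) (le_norm_piCoreOf_self _ _) hQ.le
        (h8.mono (Set.singleton_subset_iff.2 fun e' => e (Set.mem_singleton_iff.1 e' ▸ p.2.2))))
  obtain ⟨g, hg⟩ := le_conj_of_isDPiGroup hD (isPiHallOf_top_iff.1 h2) h7
  change T ≤ cj g Ht at hg
  have h9 := isPiHallOf_cj h1 g
  rw [cj_top] at h9
  haveI : Group.IsNilpotent (cj g Hs) := Group.nilpotent_of_mulEquiv (cjEquiv g Hs)
  obtain ⟨c, h10, h11⟩ := le_conj_of_isPiHallOf_of_nilpotent (BG1.isPiHallOf_of_le h9 ((cj_mono g hc).trans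
    ((cj_centralizer g Ht).le.trans (centralizer_anti hg))) le_top) (le_cent_of_coprime_of_norm
      ((piCoreOf_le' _ _).trans h6) (hT1.trans (le_norm_piCoreOf_self _ _))
      (IsPiNumber.coprime_of_disjoint (isPi_piCoreOf' σ U) h7 fun _ _ e => Set.disjoint_left.1 hd e)) (isPi_piCoreOf' σ U)
  refine ⟨c * g, h8.trans ?_⟩
  change _ ≤ cj (c * g) _
  rw [cj_mul, cj_sup, cj_sup]
  exact sup_le_sup h11 (cj_of_mem_centralizer h10 ▸ cj_mono c hg)

end Cfsg.Agent.S4334
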