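import Cfsg.Statements.S4342
import Cfsg.Agent.Lib.Hall.SylNum

set_option autoImplicit false
open Cfsg

namespace Cfsg.Agent.S4342

open scoped Pointwise commutatorElement
open Cfsg.Lib Cfsg.Lib.Hall

open Subgroup Cfsg.Lib.Core Cfsg.Lib.Transfer

/-- Let H be a normal subgroup of a finite group G and p a prime not dividing the index of H. Then the number of Sylow p-subgroups of H/Z(H) equals the number of Sylow p-subgroups of G. -/
theorem result {G : Type*} [Group G] [Finite G]
    (p : ℕ) [Fact p.Prime] (H : Subgroup G) [H.Normal] (hp : ¬ p ∣ H.index) :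
    Nat.card (Sylow p (H ⧸ Subgroup.center H)) = Nat.card (Sylow p G) := by
  obtain ⟨P⟩ : Nonempty (Sylow p G) := inferInstance
  have hPH : (P : Subgroup G) ≤ H := by
    obtain ⟨Q, hQ⟩ := exists_sylow_le_of_not_dvd_index hp
    obtain ⟨g, hg⟩ := exists_conj_sylow_eq Q P
    rw [← hg, ← cj_eq_smul, ← cj_eq_of_normal g H]
    exact cj_mono g hQ
  have hS := sylowIn_of_le P hPH
  have h1 := hS.frattini_sup (H := ⊤) le_top le_normalizer_of_normal
  rw [top_inf_eq, sup_comm] at h1
  rw [card_sylow_quotient hS.toSylow, sup_eq_left.mpr (center_le_normalizer _),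
    ← card_sylow_eq_index, card_sylow_eq_relIndex hS, card_sylow_eq_index P,
    index_eq_mul_relIndex _ H, h1, index_top, one_mul]

end Cfsg.Agent.S4342
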