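import Cfsg.Statements.S4344
import Cfsg.Agent.Lib.Layer.Misc
import Cfsg.Agent.Lib.Small.Simple
import Cfsg.Agent.Lib.PGrp.Cyclic

set_option autoImplicit false
open Cfsg

namespace Cfsg.Agent.S4344

open Subgroup Cfsg.Lib.Core Cfsg.Lib.Amalg Cfsg.Lib.BG1 Cfsg.Lib.Layer

/-- Let S be a finite non-abelian simple group, M a maximal subgroup of S and C a cyclic normal subgroup of M. If a Sylow p-subgroup P of S (for a prime p dividing the order of S) is contained in C, then the number of Sylow p-subgroups of S equals the index of M. -/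
theorem result {S : Type*} [Group S] [Finite S]
    [IsSimpleGroup S] (hS : ¬ IsMulCommutative S) (p : ℕ) [Fact p.Prime] (hp : p ∣ Nat.card S)
    (M : Subgroup S) (hM : IsCoatom M) (C : Subgroup S) (hCM : C ≤ M) (hCn : (C.subgroupOf M).Normal)
    (hC : IsCyclic C) (P : Sylow p S) (hP : (P : Subgroup S) ≤ C) :
    Nat.card (Sylow p S) = M.index := by
  have h1 : M ≤ normalizer ((P : Subgroup S) : Set S) :=
    ((normal_subgroupOf_iff_le_normalizer hCM).1 hCn).trans (Lib.PGrp.normalizer_le_normalizer_of_isCyclic hC hP)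
  exact P.card_eq_index_normalizer.trans (congrArg index ((hM.le_iff.1 h1).resolve_left
    (Lib.Small.normalizer_ne_top_of_isPGroup hS P.isPGroup' (P.ne_bot_of_dvd_card hp))))

end Cfsg.Agent.S4344
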