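import Cfsg.Statements.S4345
import Cfsg.Agent.Lib.Hall.SylNum

set_option autoImplicit false
open Cfsg

namespace Cfsg.Agent.S4345

open scoped Pointwise commutatorElement
open Cfsg.Lib Cfsg.Lib.Hall

/-- Let G be a finite solvable group and p, ℓ primes. Then the largest power of ℓ dividing the number of Sylow p-subgroups of G is congruent to 1 modulo p. -/
theorem result {G : Type*} [Group G] [Finite G]
    (hG : Group.IsSolvable G) (p ℓ : ℕ) [Fact p.Prime] (hℓ : ℓ.Prime) :
    ℓ ^ (Nat.card (Sylow p G)).factorization ℓ ≡ 1 [MOD p] := by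
  refine (card_sylow_induction (p := p) (fun n => n ≠ 0 ∧ ℓ ^ n.factorization ℓ ≡ 1 [MOD p])
    ⟨one_ne_zero, by simp [Nat.ModEq]⟩ (fun a b ha hb => ⟨mul_ne_zero ha.1 hb.1, ?_⟩)
    (fun q a hq h => ⟨(pow_pos hq.pos _).ne', ?_⟩) True (fun S _ _ hS hs => ?_) _ G rfl (fun _ => hG)).2
  · rw [Nat.factorization_mul ha.1 hb.1, Finsupp.add_apply, pow_add]
    simpa using ha.2.mul hb.2
  · rw [hq.factorization_pow, Finsupp.single_apply]
    split_ifs with e
    · exact e ▸ h
    · simp [Nat.ModEq]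
  · haveI := hs trivial
    obtain ⟨P⟩ : Nonempty (Sylow p S) := inferInstance
    have h1 : Subgroup.normalizer ((P : Subgroup S) : Set S) = ⊤ :=
      Subgroup.normalizer_eq_top_iff.mpr ⟨fun n hn g => by
        rwa [IsSimpleGroup.comm_iff_isSolvable.mpr (hs trivial) g n, mul_inv_cancel_right]⟩
    rw [card_sylow_eq_index P, h1, Subgroup.index_top]
    exact ⟨one_ne_zero, by simp [Nat.ModEq]⟩

end Cfsg.Agent.S4345
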