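import Cfsg.Statements.S4346
import Cfsg.Agent.Lib.Small.SylInt
import Cfsg.Agent.Lib.Small.Num

set_option autoImplicit false
open Cfsg

namespace Cfsg.Agent.S4346

open Cfsg.Lib.Small Cfsg.Lib.Amalg Cfsg.Lib.Char Cfsg.Lib Subgroup

theorem aux {G : Type*} [Group G] [Finite G] [IsSimpleGroup G] (hG : ¬ IsMulCommutative G)
    (hn : Nat.card (Sylow 3 G) = 22) : False := by
  have := Fact.mk Nat.prime_three
  obtain ⟨P⟩ : Nonempty (Sylow 3 G) := inferInstance
  have hd : 3 ∣ Nat.card G := dvd_card_of_card_sylow_ne_one (by omega)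
  by_cases hP : Nat.card (P : Subgroup G) = 3
  · obtain ⟨M, hM⟩ := Block2.exists_isPModular Nat.prime_three
    have := hM.2.1
    obtain ⟨e, t, s, c, L, y, h⟩ := exists_numG hG hM (by rw [← (P : Subgroup G).card_mul_index, hP]) P.not_dvd_index
    have h1 := h.mul
    have h2 := h.he
    obtain ⟨rfl, rfl⟩ : e = 2 ∧ t = 1 := by
      have : t ≤ 1 := by nlinarith
      interval_cases t <;> omega
    obtain rfl : s = 22 := h.syl.symm.trans hn
    obtain ⟨d, rfl⟩ := Multiset.card_eq_one.1 (show L.card = 1 by have := h.len; omega)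
    have h3 := h.ok d (Multiset.mem_singleton_self d)
    have h4 := h.okY rfl
    have h5 := h.sum
    simp only [okD, Bool.and_eq_true, beq_iff_eq, decide_eq_true_eq, Multiset.sum_singleton] at h3 h4 h5
    have key : ∀ m, 2 * 22 % m = 0 → 2 < m → m = 4 ∨ m = 11 ∨ m = 22 ∨ m = 44 := fun m h1 h2 => by
      have := Nat.le_of_dvd (by norm_num) (Nat.dvd_of_mod_eq_zero h1)
      interval_cases m <;> simp_all
    have := key _ h3.1.1.1.2 h3.1.1.2
    have := key _ h4.1.1.1.2 h4.1.1.2
    have := h3.1.1.1.1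
    have := h4.1.1.1.1
    omega
  obtain ⟨m, h1⟩ := exists_ncard_gam P
  have h2 := ncard_gam_ne hG hd P hP
  obtain ⟨R, hR⟩ := Set.nonempty_of_ncard_ne_zero (s := gam P) (by omega)
  obtain ⟨k, r, -, h3, h4, h5, h6, h7, h8⟩ := exists_line hR
  rw [hn] at h1 h2 h7 h8
  have h9 : (gam P).ncard = 3 ∨ (gam P).ncard = 12 := by omega
  have h10 : k - 1 ≤ r * (k - 1) := Nat.le_mul_of_pos_left _ h5
  have : k ≤ 13 := by omega
  interval_cases k <;> omega

/-- No finite group has exactly 22 Sylow 3-subgroups. -/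
theorem result {G : Type*} [Group G] [Finite G] : Nat.card (Sylow 3 G) ≠ 22 := by
  intro h
  have := Fact.mk Nat.prime_three
  obtain ⟨S, _, _, _, hS, hn⟩ := exists_simple_of_card_sylow (p := 3) (m := 22) (fun d hd h1 => by
    have := Nat.le_of_dvd (by norm_num) hd
    interval_cases d <;> simp_all) (by norm_num)
    (not_isPrimePow_of Nat.prime_two (show Nat.Prime 11 by norm_num) (by norm_num) (by norm_num) (by norm_num)) G h
  exact aux hS hn

end Cfsg.Agent.S4346
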