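import Cfsg.Statements.S4347
import Cfsg.Agent.Lib.Layer.Misc

set_option autoImplicit false
open Cfsg

namespace Cfsg.Agent.S4347

open Subgroup Cfsg.Lib.Core Cfsg.Lib.Amalg Cfsg.Lib.BG1 Cfsg.Lib.Layer

/-- Let G be a finite group and p a prime. Say a Sylow p-subgroup Q is redundant when every element of p-power order lies in some Sylow p-subgroup other than Q. Then G has no redundant Sylow p-subgroup if and only if some element of p-power order lies in exactly one Sylow p-subgroup. -/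
theorem result {G : Type*} [Group G] [Finite G]
    (p : ℕ) [Fact p.Prime] :
    (¬ ∃ Q : Sylow p G, ∀ x : G, (∃ k : ℕ, orderOf x = p ^ k) → ∃ P : Sylow p G, P ≠ Q ∧ x ∈ P) ↔
      ∃ x : G, (∃ k : ℕ, orderOf x = p ^ k) ∧ ∃! P : Sylow p G, x ∈ P := by
  constructor
  · intro h
    push Not at h
    obtain ⟨Q⟩ : Nonempty (Sylow p G) := inferInstance
    obtain ⟨x, ⟨k, hk⟩, hx⟩ := h Q
    obtain ⟨R, hR⟩ := (Lib.Amalg.isPGroup_zpowers_of_orderOf hk).exists_le_sylow
    have key : ∀ P : Sylow p G, x ∈ P → P = Q := fun P hP => by_contra fun e => hx P e hP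
    exact ⟨x, ⟨k, hk⟩, R, hR (mem_zpowers x), fun P hP => (key P hP).trans (key R (hR (mem_zpowers x))).symm⟩
  · rintro ⟨x, ⟨k, hk⟩, R, hR, hu⟩ ⟨Q, hQ⟩
    obtain ⟨g, rfl⟩ := MulAction.exists_smul_eq G R Q
    obtain ⟨P, h1, h2⟩ := hQ (MulAut.conj g x) ⟨k, by rw [MulEquiv.orderOf_eq, hk]⟩
    refine h1 (inv_smul_eq_iff.1 (hu _ ?_))
    show x ∈ ((g⁻¹ • P : Sylow p G) : Subgroup G)
    rw [Sylow.coe_subgroup_smul, map_inv, mem_inv_pointwise_smul_iff]
    exact h2

end Cfsg.Agent.S4347
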