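import Cfsg.Statements.S4348
import Cfsg.Agent.Lib.Layer.Misc

set_option autoImplicit false
open Cfsg

namespace Cfsg.Agent.S4348

open Subgroup Cfsg.Lib.Core Cfsg.Lib.Amalg Cfsg.Lib.BG1 Cfsg.Lib.Layer

/-- Let G be a finite group, p a prime and P a Sylow p-subgroup of G, and let O_p(G) be the largest normal p-subgroup of G. If P/O_p(G) is cyclic, then some element of p-power order of G lies in exactly one Sylow p-subgroup. -/
theorem result {G : Type*} [Group G] [Finite G]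
    (p : ℕ) [Fact p.Prime] (P : Sylow p G)
    [hn : ((Cfsg.pCore p G).subgroupOf (P : Subgroup G)).Normal]
    (hc : IsCyclic ((P : Subgroup G) ⧸ (Cfsg.pCore p G).subgroupOf (P : Subgroup G))) :
    ∃ x : G, (∃ k : ℕ, orderOf x = p ^ k) ∧ ∃! Q : Sylow p G, x ∈ Q := by
  obtain ⟨y, hy⟩ := hc.exists_generator
  obtain ⟨x, rfl⟩ := QuotientGroup.mk_surjective y
  obtain ⟨k, hk⟩ := IsPGroup.iff_orderOf.1 P.isPGroup' x
  refine ⟨x, ⟨k, by rw [orderOf_coe, hk]⟩, P, x.2, fun Q hQ => Sylow.ext (P.is_maximal' Q.isPGroup' fun u hu => ?_)⟩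
  obtain ⟨n, hn⟩ := hy (QuotientGroup.mk ⟨u, hu⟩)
  have : ((x ^ n)⁻¹ * ⟨u, hu⟩ : (P : Subgroup G)) ∈ (pCore p G).subgroupOf P := QuotientGroup.eq.1 hn
  have h2 : pCore p G ≤ Q := (syl_top Q).le_of_normal (isPGroup_pCore p G) le_top le_normalizer_of_normal
  exact (mul_mem_cancel_left (inv_mem (zpow_mem (show (x : G) ∈ (Q : Subgroup G) from hQ) n))).1 (h2 this)

end Cfsg.Agent.S4348
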