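import Cfsg.Statements.S4349


set_option autoImplicit false
open Cfsg

namespace Cfsg.Agent.S4349

open Equiv Equiv.Perm Finset MulAction
open scoped Nat

section
set_option linter.unusedSectionVars false
variable {α : Type} [Fintype α] [DecidableEq α]

theorem pw (x : Perm α) (a : α) (i : ℕ) : (x ^ i) a = a ↔ period x a ∣ i :=
  pow_smul_eq_iff_period_dvd (m := x) (a := a)

theorem period_eq {x : Perm α} {a : α} {m : ℕ} (h : ∀ i, (x ^ i) a = a ↔ m ∣ i) : period x a = m :=
  Nat.dvd_antisymm ((pw ..).1 ((h m).2 dvd_rfl)) ((h _).1 ((pw ..).2 dvd_rfl))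

/-- at most two fixed points, and distinct cycle lengths -/
def Cond (x : Perm α) : Prop := (∀ a b c, x a = a → x b = b → x c = c → a = b ∨ a = c ∨ b = c) ∧
  ∀ a b, x a ≠ a → period x a = period x b → ∃ i : ℕ, (x ^ i) a = b

theorem half {x : Perm α} {k : ℕ} (hx : x ^ 2 ^ k = 1) {a : α} (ha : x a ≠ a) : ∃ h, period x a = 2 * h := by
  obtain ⟨j, -, e⟩ := (Nat.dvd_prime_pow Nat.prime_two).1 ((pw x a (2 ^ k)).1 (by rw [hx]; rfl))
  rcases j with _ | j
  · exact absurd (by simpa using (pw x a 1).2 (by simp [e])) ha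
  · exact ⟨2 ^ j, by rw [e, pow_succ']⟩

theorem pow_half {x : Perm α} {a : α} {h : ℕ} (e : period x a = 2 * h) (i : ℕ) :
    h ∣ i ↔ (x ^ i) a = a ∨ (x ^ i) a = (x ^ h) a := by
  constructor
  · rintro ⟨m, rfl⟩
    rcases m.even_or_odd' with ⟨l, rfl | rfl⟩
    · exact .inl ((pw ..).2 ⟨l, by rw [e]; ring⟩)
    · exact .inr (by rw [mul_add, add_comm, mul_one, pow_add, Perm.mul_apply, (pw x a (h * (2 * l))).2 ⟨l, by rw [e]; ring⟩])
  · rintro (f | f)
    · exact (Dvd.intro_left 2 e.symm).trans ((pw ..).1 f)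
    · have := (pw x a (h + i)).1 (by
        rw [pow_add, Perm.mul_apply, f, ← Perm.mul_apply, ← pow_add, pw, e, two_mul])
      exact (Nat.dvd_add_right dvd_rfl).1 ((Dvd.intro_left 2 e.symm).trans this)

/-- an involution with at most one fixed point -/
def Mt (t : Perm α) : Prop := (∀ a, t (t a) = a) ∧ ∀ a b, t a = a → t b = b → a = b

theorem tval {x t : Perm α} (hx : Cond x) (ht : Mt t) (c : Commute x t) {a : α} (ha : x a ≠ a) {h : ℕ}
    (e : period x a = 2 * h) : t a ≠ a ∧ t a = (x ^ h) a := by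
  have c' : ∀ (i : ℕ) a, (x ^ i) (t a) = t ((x ^ i) a) := fun i a => congrArg (· a) (c.pow_left i).eq
  have h1 : t a ≠ a := fun f => ha (ht.2 _ _ (by simpa [f] using (c' 1 a).symm) f)
  obtain ⟨i, hi⟩ := hx.2 a (t a) ha (period_eq fun i => by rw [← pw, c', t.injective.eq_iff])
  have := (pw x a (i + i)).1 (by rw [pow_add, Perm.mul_apply, hi, c', hi, ht.1])
  rw [e, ← two_mul] at this
  exact ⟨h1, hi ▸ ((pow_half e i).1 (Nat.dvd_of_mul_dvd_mul_left two_pos this)).resolve_left (hi ▸ h1)⟩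

theorem mt_eq {x t s : Perm α} {k : ℕ} (h2 : x ^ 2 ^ k = 1) (hx : Cond x) (ht : Mt t) (hs : Mt s)
    (c : Commute x t) (c' : Commute x s) : t = s := Equiv.ext fun a => by
  by_cases ha : x a = a
  · have key : ∀ {t : Perm α}, Mt t → Commute x t → x (t a) = t a ∧ (t a = a → ∀ b, x b = b → b = a) :=
      fun {t} ht c => by
      have c1 : ∀ a, x (t a) = t (x a) := fun a => congrArg (· a) c.eq
      refine ⟨by rw [c1, ha], fun e b hb => by_contra fun f => ?_⟩
      have := hx.1 a b (t b) ha hb (by rw [c1, hb])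
      have := ht.1 b
      have := ht.2 a b e
      grind
    have := key ht c
    have := key hs c'
    have := hx.1 a (t a) (s a) ha
    grind
  · obtain ⟨h, e⟩ := half h2 ha
    rw [(tval hx ht c ha e).2, (tval hx hs c' ha e).2]

theorem exists_mt {R : Subgroup (Perm α)} (hR : IsPGroup 2 R) : ∃ t, Mt t ∧ ∀ r ∈ R, Commute r t := by
  have : Fact (Nat.Prime 2) := ⟨Nat.prime_two⟩
  let k := Fintype.card α / 2
  let X := {g : Perm α // g.cycleType = Multiset.replicate k 2}
  let : MulAction R X :=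
    { smul := fun r g => ⟨r.1 * g.1 * r.1⁻¹, by rw [cycleType_conj, g.2]⟩
      one_smul := fun g => Subtype.ext (show 1 * g.1 * 1⁻¹ = g.1 by simp)
      mul_smul := fun r s g => Subtype.ext (show r.1 * s.1 * g.1 * (r.1 * s.1)⁻¹ = r.1 * (s.1 * g.1 * s.1⁻¹) * r.1⁻¹ by
        group) }
  have odd : ∀ m, Odd (2 * m + 1)‼ := fun m => by
    induction m with
    | zero => decide
    | succ m ih => exact Odd.mul ⟨m + 1, rfl⟩ ih
  obtain ⟨⟨t, ht⟩, h⟩ := hR.nonempty_fixed_point_of_prime_not_dvd_card X (by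
    have := card_of_cycleType_mul_eq α (Multiset.replicate k 2)
    have e : ∏ n ∈ (Multiset.replicate k 2).toFinset, ((Multiset.replicate k 2).count n)! = k ! := by
      rcases Nat.eq_zero_or_pos k with h | h
      · simp [h]
      · simp [h.ne']
    rw [if_pos ⟨by simp [k]; omega, fun a ha => (Multiset.eq_of_mem_replicate ha).ge⟩, e, Multiset.sum_replicate,
      Multiset.prod_replicate, mul_assoc, ← Nat.doubleFactorial_two_mul, ← Fintype.card_subtype,
      ← Nat.card_eq_fintype_card, smul_eq_mul] at this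
    rw [Nat.two_dvd_ne_zero, ← Nat.odd_iff]
    change Nat.card X * _ = _ at this
    generalize Nat.card X = N at this
    have p := Nat.doubleFactorial_pos (2 * k)
    rcases (Fintype.card α).even_or_odd' with ⟨m, h | h⟩
    · obtain rfl : m = k := by omega
      rw [h, mul_comm k, Nat.sub_self, Nat.factorial_zero, one_mul] at this
      rcases Nat.eq_zero_or_pos k with h | h
      · rw [h] at this; simp_all
      · obtain ⟨j, hj⟩ := Nat.exists_eq_add_of_le' h
        rw [hj] at this p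
        rw [show (2 * (j + 1))! = _ from Nat.factorial_eq_mul_doubleFactorial (2 * j + 1), mul_comm] at this
        exact (Nat.eq_of_mul_eq_mul_left p this) ▸ odd j
    · obtain rfl : m = k := by omega
      rw [h, mul_comm k, Nat.add_sub_cancel_left, Nat.factorial_one, one_mul,
        Nat.factorial_eq_mul_doubleFactorial] at this
      exact (Nat.eq_of_mul_eq_mul_right p this) ▸ odd k)
  refine ⟨t, ⟨fun a => congrArg (· a) (show t ^ 2 = 1 from pow_prime_eq_one_iff.2 fun c hc =>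
    Multiset.eq_of_mem_replicate (ht ▸ hc)), fun a b ha hb => ?_⟩,
    fun r hr => mul_inv_eq_iff_eq_mul.1 (congrArg Subtype.val (h ⟨r, hr⟩))⟩
  have := t.sum_cycleType
  rw [ht, Multiset.sum_replicate, smul_eq_mul] at this
  exact card_le_one.1 (show t.supportᶜ.card ≤ 1 by rw [card_compl]; omega) a (by simpa) b (by simpa)

end

theorem sup_isPGroup (n : ℕ) : ∀ (α : Type) [Fintype α] [DecidableEq α], Fintype.card α = n → ∀ x : Perm α, Cond x →
    ∀ R S : Subgroup (Perm α), IsPGroup 2 R → IsPGroup 2 S → x ∈ R → x ∈ S → IsPGroup 2 (R ⊔ S : Subgroup _) := by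
  induction n using Nat.strong_induction_on with
  | _ n ih =>
  intro α _ _ hn x hx R S hR hS xR xS
  obtain ⟨t, ht, tR⟩ := exists_mt hR
  obtain ⟨s, hs, sS⟩ := exists_mt hS
  obtain ⟨k, hk⟩ := hR ⟨x, xR⟩
  replace hk : x ^ 2 ^ k = 1 := congrArg Subtype.val hk
  obtain rfl := mt_eq hk hx ht hs (tR x xR) (sS x xS)
  by_cases h1 : ∀ a, t a = a
  · have : Subsingleton α := ⟨fun a b => ht.2 a b (h1 a) (h1 b)⟩
    exact fun g => ⟨0, Subsingleton.elim _ _⟩
  obtain ⟨a0, ha0⟩ := not_forall.1 h1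
  have t1 := ht.1
  let σ : Setoid {a // t a ≠ a} := ⟨fun a b => b.1 = a.1 ∨ b.1 = t a.1,
    fun _ => .inl rfl, fun h => by grind, fun h h' => by grind⟩
  have cm : ∀ (g : Subgroup.centralizer ({t} : Set (Perm α))) a, g.1 (t a) = t (g.1 a) := fun g a =>
    congrArg (· a) (Subgroup.mem_centralizer_singleton_iff.1 g.2)
  let : MulAction (Subgroup.centralizer ({t} : Set (Perm α))) (Quotient σ) :=
    { smul := fun g => Quotient.map (fun a => ⟨g.1 a.1, fun e => a.2 (g.1.injective ((cm g _).trans e))⟩)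
        fun a b h => h.imp (congrArg g.1) fun e => (congrArg g.1 e).trans (cm g _)
      one_smul := fun q => q.inductionOn fun _ => rfl
      mul_smul := fun _ _ q => q.inductionOn fun _ => rfl }
  let ψ := MulAction.toPermHom (Subgroup.centralizer ({t} : Set (Perm α))) (Quotient σ)
  have hψ : ∀ g (a b : {a // t a ≠ a}), ψ g ⟦a⟧ = ⟦b⟧ ↔ b.1 = g.1 a.1 ∨ b.1 = t (g.1 a.1) := fun g a b =>
    Quotient.eq (r := σ)
  classical
  have := Fintype.ofFinite (Quotient σ)
  have RC : R ≤ Subgroup.centralizer {t} := fun r hr => Subgroup.mem_centralizer_singleton_iff.2 (tR r hr)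
  have SC : S ≤ Subgroup.centralizer {t} := fun r hr => Subgroup.mem_centralizer_singleton_iff.2 (sS r hr)
  let y : Subgroup.centralizer ({t} : Set (Perm α)) := ⟨x, RC xR⟩
  have hp : ∀ (i : ℕ) (a : {a // t a ≠ a}), (ψ y ^ i) ⟦a⟧ = ⟦a⟧ ↔ (x ^ i) a.1 = a.1 ∨ (x ^ i) a.1 = t a.1 := fun i a => by
    rw [← map_pow, hψ]
    change _ = (x ^ i) a.1 ∨ _ = t ((x ^ i) a.1) ↔ _
    grind
  have per : ∀ (a : {a // t a ≠ a}) h, x a.1 ≠ a.1 → period x a.1 = 2 * h → period (ψ y) ⟦a⟧ = h := fun a h ha e =>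
    period_eq fun i => by rw [hp, pow_half e, (tval hx ht (tR x xR) ha e).2]
  have hy : Cond (ψ y) := by
    refine ⟨fun a b c => Quotient.inductionOn₃ a b c fun a b c ha hb hc => ?_,
      fun a b => Quotient.inductionOn₂ a b fun a b ha e => ?_⟩
    · have two : ∀ a b : {a // t a ≠ a}, ψ y ⟦a⟧ = ⟦a⟧ → ψ y ⟦b⟧ = ⟦b⟧ → (x a.1 = a.1 ↔ x b.1 = b.1) →
          (⟦a⟧ : Quotient σ) = ⟦b⟧ := fun a b ha hb e => by
        refine Quotient.sound (show b.1 = a.1 ∨ b.1 = t a.1 from ?_)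
        by_cases f : x a.1 = a.1
        · have := hx.1 a.1 b.1 (t a.1) f (e.1 f) ((cm y _).trans (congrArg t f))
          have := a.2
          grind
        obtain ⟨h, e1⟩ := half hk f
        obtain ⟨h', e2⟩ := half hk (mt e.2 f)
        have e3 := per a h f e1
        have e4 := per b h' (mt e.2 f) e2
        rw [period_eq_one_iff.2 ha] at e3
        rw [period_eq_one_iff.2 hb] at e4
        obtain ⟨i, hi⟩ := hx.2 a.1 b.1 f (by rw [e1, e2, ← e3, ← e4])
        rw [← hi, ← hp, pw, period_eq_one_iff.2 ha]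
        exact one_dvd i
      have := two a b ha hb
      have := two a c ha hc
      have := two b c hb hc
      tauto
    · have mv : ∀ a : {a // t a ≠ a}, period (ψ y) (⟦a⟧ : Quotient σ) ≠ 1 → x a.1 ≠ a.1 := fun a h f =>
        h (period_eq_one_iff.2 ((hψ y a a).2 (.inl f.symm)))
      have a1 : period (ψ y) (⟦a⟧ : Quotient σ) ≠ 1 := fun f => ha (period_eq_one_iff.1 f)
      obtain ⟨h, e1⟩ := half hk (mv a a1)
      obtain ⟨h', e2⟩ := half hk (mv b (e ▸ a1))
      obtain ⟨i, hi⟩ := hx.2 a.1 b.1 (mv a a1) (by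
        rw [e1, e2, ← per a h (mv a a1) e1, ← per b h' (mv b (e ▸ a1)) e2, e])
      exact ⟨i, by rw [← map_pow, hψ]; exact .inl hi.symm⟩
  have lt : Fintype.card (Quotient σ) < n := hn ▸ (Fintype.card_lt_of_surjective_not_injective _
    Quotient.mk_surjective fun h => ha0 (congrArg Subtype.val (h (a₁ := ⟨t a0, by rw [t1]; exact Ne.symm ha0⟩)
      (a₂ := ⟨a0, ha0⟩) (Quotient.sound (s := σ) (Or.inr (t1 _).symm))))).trans_le (Fintype.card_subtype_le _)
  have := (ih _ lt _ rfl _ hy _ _ (hR.comap_subtype.map ψ) (hS.comap_subtype.map ψ) ⟨y, xR, rfl⟩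
    ⟨y, xS, rfl⟩).comap_of_ker_isPGroup ψ fun g => ⟨1, Subtype.ext (Subtype.ext (Equiv.ext fun a => by
      change g.1.1 (g.1.1 a) = a
      by_cases ha : t a = a
      · have := ht.2 _ _ ((cm g.1 a).symm.trans (congrArg g.1.1 ha)) ha
        rw [this, this]
      · have := (hψ g.1 ⟨a, ha⟩ ⟨a, ha⟩).1 (by rw [g.2]; rfl)
        have := cm g.1 a
        grind))⟩
  refine (this.map (Subgroup.centralizer {t}).subtype).to_le (sup_le (fun r hr => ?_) fun r hr => ?_)
  · exact ⟨⟨r, RC hr⟩, Subgroup.mem_sup_left ⟨_, hr, rfl⟩, rfl⟩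
  · exact ⟨⟨r, SC hr⟩, Subgroup.mem_sup_right ⟨_, hr, rfl⟩, rfl⟩

theorem swap_mem {α : Type} [Fintype α] [DecidableEq α] {x : Perm α} (hx : IsPGroup 2 (Subgroup.zpowers x))
    {P : Sylow 2 (Perm α)} (hP : ∀ Q : Sylow 2 (Perm α), x ∈ Q → Q = P) {a b : α}
    (h1 : ∀ i : ℤ, (x ^ i) a = a ↔ (x ^ i) b = b) (h2 : ∀ i : ℤ, (x ^ i) a = b ↔ (x ^ i) b = a) : swap a b ∈ P := by
  let R : α → α → Prop := fun u v => ∃ i : ℤ, u = (x ^ i) a ∧ v = (x ^ i) b ∨ u = (x ^ i) b ∧ v = (x ^ i) a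
  have e : ∀ (i j : ℤ) u v, (x ^ i) u = (x ^ j) v ↔ (x ^ (-j + i)) u = v := fun i j u v => by
    rw [zpow_add, zpow_neg, Perm.mul_apply, Perm.inv_eq_iff_eq]
  have Rs : ∀ u v, R u v → R v u := fun u v ⟨i, h⟩ => ⟨i, by tauto⟩
  have Ru : ∀ u v w, R u v → R u w → v = w := by
    rintro _ _ _ ⟨i, ⟨rfl, rfl⟩ | ⟨rfl, rfl⟩⟩ ⟨j, ⟨f, rfl⟩ | ⟨f, rfl⟩⟩ <;> rw [e] at f ⊢
    exacts [(h1 _).1 f, (h2 _).1 f, (h2 _).2 f, (h1 _).2 f]
  have Rx : ∀ (k : ℤ) u v, R u v → R ((x ^ k) u) ((x ^ k) v) := fun k u v ⟨i, h⟩ =>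
    ⟨k + i, by simpa [zpow_add] using h⟩
  have Rab : R a b := ⟨0, .inl ⟨rfl, rfl⟩⟩
  clear_value R
  have sq : ∀ g : Perm α, (∀ u, g u = u ∨ R u (g u)) → ∀ u, g (g u) = u := fun g hg u => by
    have := hg u; have := hg (g u); have := g.injective; grind
  let E : Subgroup (Perm α) :=
    { carrier := {g | ∀ u, g u = u ∨ R u (g u)}
      mul_mem' := fun {g k} hg hk u => by
        have := hk u; have := hg (k u); rw [Perm.mul_apply]; grind
      one_mem' := fun _ => .inl rfl
      inv_mem' := fun {g} hg u => by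
        rw [show g⁻¹ u = g u from Perm.inv_eq_iff_eq.2 (sq g hg u).symm]; exact hg u }
  have hE : IsPGroup 2 E := fun g => ⟨1, Subtype.ext (Equiv.ext (sq g.1 g.2))⟩
  have : Fact (Nat.Prime 2) := ⟨Nat.prime_two⟩
  obtain ⟨Q, hQ⟩ := (hx.to_sup_of_normal_right' hE (by
    rintro _ ⟨k, rfl⟩
    refine Subgroup.mem_normalizer_fintype fun g hg u => ?_
    obtain ⟨u, rfl⟩ := (x ^ k).surjective u
    simpa using (hg u).imp id (Rx k _ _))).exists_le_sylow
  rw [← hP Q (hQ (Subgroup.mem_sup_left (Subgroup.mem_zpowers x)))]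
  refine hQ (Subgroup.mem_sup_right fun u => ?_)
  rw [swap_apply_def]; grind

theorem main (n : ℕ) (x : Equiv.Perm (Fin n)) (hx : ∃ k : ℕ, orderOf x = 2 ^ k) :
    (∃! P : Sylow 2 (Equiv.Perm (Fin n)), x ∈ P) ↔ (n ≤ x.support.card + 2 ∧ x.cycleType.Nodup) := by
  have : Fact (Nat.Prime 2) := ⟨Nat.prime_two⟩
  obtain ⟨k, hk⟩ := hx
  have h2 : IsPGroup 2 (Subgroup.zpowers x) := IsPGroup.of_card (by rw [Nat.card_zpowers, hk])
  have pc : ∀ a, x a ≠ a → period x a = (x.cycleOf a).support.card := fun a ha => period_eq fun i =>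
    (isCycleOn_support_cycleOf x a).pow_apply_eq (mem_support_cycleOf_iff.2 ⟨SameCycle.rfl, mem_support.2 ha⟩)
  have cond : Cond x ↔ n ≤ x.support.card + 2 ∧ x.cycleType.Nodup := by
    refine and_congr ?_ ?_
    · rw [show n ≤ x.support.card + 2 ↔ ¬ 2 < x.supportᶜ.card by rw [card_compl, Fintype.card_fin]; omega,
        two_lt_card]
      simp only [mem_compl, notMem_support]
      grind
    rw [cycleType_def, Multiset.nodup_map_iff_inj_on x.cycleFactorsFinset.nodup]
    simp only [mem_val]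
    refine ⟨fun h c hc d hd e => ?_, fun h a b ha e => ?_⟩
    · obtain ⟨a, ha⟩ := (mem_cycleFactorsFinset_iff.1 hc).1.nonempty_support
      obtain ⟨b, hb⟩ := (mem_cycleFactorsFinset_iff.1 hd).1.nonempty_support
      have ha' := mem_support.1 (mem_cycleFactorsFinset_support_le hc ha)
      have hb' := mem_support.1 (mem_cycleFactorsFinset_support_le hd hb)
      obtain rfl := cycle_is_cycleOf ha hc
      obtain rfl := cycle_is_cycleOf hb hd
      obtain ⟨i, hi⟩ := h a b ha' (by rw [pc a ha', pc b hb']; exact e)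
      exact SameCycle.cycleOf_eq ⟨i, by simpa using hi⟩
    · have hb : x b ≠ b := fun f => ha (period_eq_one_iff.1 (e.trans (period_eq_one_iff.2 f)))
      obtain ⟨i, -, hi⟩ := ((sameCycle_iff_cycleOf_eq_of_mem_support (mem_support.2 ha) (mem_support.2 hb)).2
        (h _ (cycleOf_mem_cycleFactorsFinset_iff.2 (mem_support.2 ha)) _
          (cycleOf_mem_cycleFactorsFinset_iff.2 (mem_support.2 hb))
          ((pc a ha).symm.trans (e.trans (pc b hb))))).exists_pow_eq'
      exact ⟨i, hi⟩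
  rw [← cond]
  constructor
  · rintro ⟨P, -, hP⟩
    have no : ∀ a b c, a ≠ b → a ≠ c → b ≠ c → swap a b ∈ P → swap a c ∈ P → False := fun a b c h1 h2 h3 m1 m2 => by
      obtain ⟨j, hj⟩ := P.2 ⟨_, mul_mem m1 m2⟩
      have := orderOf_dvd_of_pow_eq_one (congrArg Subtype.val hj)
      rw [(isThreeCycle_swap_mul_swap_same h1 h2 h3).orderOf] at this
      exact absurd (Nat.prime_three.dvd_of_dvd_pow this) (by decide)
    have zp : ∀ (i : ℤ) a, (x ^ i) a = a ↔ (period x a : ℤ) ∣ i := fun i a =>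
      zpow_smul_eq_iff_period_dvd (g := x) (a := a)
    refine ⟨fun a b c ha hb hc => by_contra fun f => ?_, fun a b ha e => by_contra fun f => ?_⟩
    · have fx : ∀ a b, x a = a → x b = b → swap a b ∈ P := fun a b ha hb => swap_mem h2 hP
        (fun i => by simp [zpow_apply_eq_self_of_apply_eq_self, ha, hb])
        (fun i => by simp [zpow_apply_eq_self_of_apply_eq_self, ha, hb, eq_comm])
      exact no a b c (by tauto) (by tauto) (by tauto) (fx a b ha hb) (fx a c ha hc)
    obtain ⟨h, e1⟩ := half (hk ▸ pow_orderOf_eq_one x) ha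
    have ns : ¬ SameCycle x a b := fun g => f (g.exists_pow_eq'.imp fun _ h => h.2)
    have cm : ∀ (i : ℤ) a, (x ^ i) ((x ^ h) a) = (x ^ h) ((x ^ i) a) := fun i a =>
      congrArg (· a) (((Commute.refl x).zpow_left i).pow_right h).eq
    have hh : (x ^ h) ((x ^ h) a) = a := by rw [← Perm.mul_apply, ← pow_add, pw, e1, two_mul]
    refine no a b ((x ^ h) a) (fun g => f ⟨0, g⟩) (fun g => ?_) (fun g => f ⟨h, g.symm⟩)
      (swap_mem h2 hP (fun i => by rw [zp, zp, e]) fun i => iff_of_false (fun g => ns ⟨i, g⟩)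
        fun g => ns (SameCycle.symm ⟨i, g⟩))
      (swap_mem h2 hP (fun i => by rw [cm, (x ^ h).injective.eq_iff]) fun i => by
        rw [cm, ← (x ^ h).injective.eq_iff, hh])
    have := period_pos_of_orderOf_pos (orderOf_pos x) a
    have := Nat.le_of_dvd (by omega) ((pw x a h).1 g.symm)
    omega
  · intro h
    obtain ⟨P, hP⟩ := h2.exists_le_sylow
    exact ⟨P, hP (Subgroup.mem_zpowers x), fun Q hQ => Sylow.ext ((Q.3 (sup_isPGroup _ _ rfl x h _ _ Q.2 P.2 hQ
      (hP (Subgroup.mem_zpowers x))) le_sup_left).symm.trans (P.3 (sup_isPGroup _ _ rfl x h _ _ Q.2 P.2 hQ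
      (hP (Subgroup.mem_zpowers x))) le_sup_right))⟩

/-- Let n ≥ 2 and let x be an element of 2-power order of the symmetric group of degree n. Then x lies in exactly one Sylow 2-subgroup if and only if x has at most two fixed points and the nontrivial cycles of x have pairwise different lengths. -/
theorem result (n : ℕ) (hn : 2 ≤ n)
    (x : Equiv.Perm (Fin n)) (hx : ∃ k : ℕ, orderOf x = 2 ^ k) :
    (∃! P : Sylow 2 (Equiv.Perm (Fin n)), x ∈ P) ↔ (n ≤ x.support.card + 2 ∧ x.cycleType.Nodup) := by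
  exact main n x hx

end Cfsg.Agent.S4349
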