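import Cfsg.Statements.S4354
import Cfsg.Agent.Lib.Hall.Kazarin
import Cfsg.Agent.Lib.Transfer.Frobenius
import Cfsg.Agent.Lib.BS.Ben4

set_option autoImplicit false
open Cfsg

open Subgroup Cfsg.Lib
open scoped commutatorElement
open Cfsg.Lib.Transfer
namespace Cfsg.Agent.S4354

theorem comm_of {X : Type*} [Group X] [Finite X] {p : ℕ} (h : ¬ ∃ P : Sylow p X, ¬ IsMulCommutative P)
    {T : Subgroup X} (hT : IsPGroup p T) {a b : X} (ha : a ∈ T) (hb : b ∈ T) : a * b = b * a := by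
  obtain ⟨P, hP⟩ := hT.exists_le_sylow
  exact congrArg Subtype.val ((not_not.1 (not_exists.1 h P)).1.1 ⟨a, hP ha⟩ ⟨b, hP hb⟩)

/-- Let G be a finite group and p a prime such that the Sylow p-subgroups of G are non-abelian while every element of p-power order has conjugacy class size prime to p, and suppose no nontrivial proper normal subgroup N of G has this property and no quotient G/N by such an N has it. Then G is simple. -/
theorem result {G : Type*} [Group G] [Finite G]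
    (p : ℕ) [Fact p.Prime] (h : ((∃ P : Sylow p G, ¬ IsMulCommutative P) ∧ ∀ x : G, (∃ k : ℕ, orderOf x = p ^ k) → ¬ p ∣ (Subgroup.centralizer ({x} : Set G)).index))
    (hmin : ∀ (N : Subgroup G) [N.Normal], N ≠ ⊥ → N ≠ ⊤ →
      ¬ ((∃ P : Sylow p N, ¬ IsMulCommutative P) ∧ ∀ x : N, (∃ k : ℕ, orderOf x = p ^ k) → ¬ p ∣ (Subgroup.centralizer ({x} : Set N)).index) ∧
      ¬ ((∃ P : Sylow p (G ⧸ N), ¬ IsMulCommutative P) ∧ ∀ x : (G ⧸ N), (∃ k : ℕ, orderOf x = p ^ k) → ¬ p ∣ (Subgroup.centralizer ({x} : Set (G ⧸ N))).index)) :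
    IsSimpleGroup G := by
  obtain ⟨⟨P, hP⟩, h⟩ := h
  have hp : p.Prime := Fact.out
  haveI : Nontrivial G := by
    by_contra hn
    haveI := not_nontrivial_iff_subsingleton.1 hn
    exact hP ⟨⟨fun a b => Subsingleton.elim _ _⟩⟩
  refine ⟨fun N hN => by_contra fun hn => hP ?_⟩
  obtain ⟨h1, h2⟩ := hmin N (not_or.1 hn).1 (not_or.1 hn).2
  have h1 := fun c => h1 ⟨c, fun x ⟨k, hk⟩ hd => h x ⟨k, by rw [← hk, orderOf_coe]⟩ (hd.trans (Hall.cs_subgroup_dvd x))⟩
  have h2 := fun c => h2 ⟨c, fun y hy hd => by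
    obtain ⟨x, rfl, hx⟩ := Hall.exists_lift_isPGroup (QuotientGroup.mk'_surjective N) hp
      ((Hall.isPGroup_zpowers_iff hp).2 hy)
    exact h x ((Hall.isPGroup_zpowers_iff hp).1 hx) (hd.trans (Hall.cs_mk_dvd N x))⟩
  have hc : ∀ x ∈ (P : Subgroup G), ¬ p ∣ (centralizer ({x} : Set G)).index := fun x hx =>
    h x ((Hall.isPGroup_zpowers_iff hp).1 (Hall.isPGroup_zpowers_of_mem P.2 hx))
  have s1 : ∀ x ∈ (P : Subgroup G), ∀ y ∈ (P : Subgroup G), y ∈ N → y * x = x * y := by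
    intro x hx y hy hyN
    obtain ⟨Q, hxQ, hQ⟩ := Hall.exists_sylow_ge_le_of_not_dvd_index (Hall.isPGroup_zpowers_of_mem P.2 hx)
      (zpowers_le.2 (Hall.self_mem_cent x)) (hc x hx)
    have c1 : ∀ a ∈ (Q : Subgroup G) ⊓ N, (Q : Subgroup G) ⊓ N ⊔ zpowers x ≤ centralizer {a} := fun a ha =>
      sup_le (fun b hb => Hall.mem_cent_iff.2 (congrArg Subtype.val
        (comm_of h1 (Q.2.comap_subtype (K := N)) (a := ⟨b, hb.2⟩) (b := ⟨a, ha.2⟩) hb.1 ha.1)))
        (zpowers_le.2 (Hall.mem_cent_comm.1 (hQ ha.1)))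
    have c3 := sup_le (fun a ha => Hall.le_cent_iff.1 (c1 a ha)) (zpowers_le.2 (Hall.le_cent_iff.1
      (sup_le (inf_le_left.trans hQ : (Q : Subgroup G) ⊓ N ≤ _) (zpowers_le.2 (Hall.self_mem_cent x)))))
    have hR : SylowIn p ((Q : Subgroup G) ⊓ N ⊔ zpowers x) (N ⊔ ((Q : Subgroup G) ⊓ N ⊔ zpowers x)) :=
      ⟨le_sup_right, Q.2.to_le (sup_le inf_le_left hxQ), by
        rw [BS.relIndex_sup_eq le_normalizer_of_normal]
        exact fun d => (sylowIn_inf_normal Q N).3 (d.trans (relIndex_dvd_of_le_left _ le_sup_left))⟩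
    obtain ⟨g, -, hg⟩ := hR.exists_cj_le (P.2.to_le inf_le_left) inf_le_right
    have := c3 (cj_le_iff.1 hg x ⟨hx, mem_sup_right (mem_sup_right (mem_zpowers x))⟩) _
      (cj_le_iff.1 hg y ⟨hy, mem_sup_left hyN⟩)
    exact (MulAut.conj g).injective (by simpa only [map_mul, MulAut.conj_apply] using this)
  refine ⟨⟨fun ⟨x, hx⟩ ⟨y, hy⟩ => Subtype.ext (?_ : x * y = y * x)⟩⟩
  obtain ⟨g, hg⟩ := Hall.exists_conj_mem_centralizer_sylow P (hc x hx)
  have hz : g * x * g⁻¹ ∈ (P : Subgroup G) := zpowers_le.1 ((sylowIn_top P).le_of_normalizes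
    (by rw [← MulAut.conj_apply, ← MulEquiv.coe_toMonoidHom, ← MonoidHom.map_zpowers]
        exact (Hall.isPGroup_zpowers_of_mem P.2 hx).map _) le_top
    (zpowers_le.2 (centralizer_le_normalizer _ hg)))
  obtain ⟨n, hn, d, hd, e⟩ := (sylowIn_top P).burnside_fusion (mem_top g)
    (D := (centralizer {(x : G ⧸ N)}).comap (QuotientGroup.mk' N))
    (fun a ha => Hall.mem_cent_iff.2 (comm_of h2 (P.2.map (QuotientGroup.mk' N)) ⟨a, ha, rfl⟩ ⟨x, hx, rfl⟩))
    (fun a ha => mem_cj.2 (Hall.mem_cent_iff.2 (by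
      have : g⁻¹ * a * g * x = x * (g⁻¹ * a * g) := by
        calc _ = g⁻¹ * (a * (g * x * g⁻¹)) * g := by group
          _ = _ := by rw [hg a ha]; group
      simpa using congrArg (QuotientGroup.mk' N) this)))
  have hm : (g * x * g⁻¹)⁻¹ * (n * x * n⁻¹) ∈ N := by
    have : (x : G ⧸ N) = d * x * (d : G ⧸ N)⁻¹ := eq_mul_inv_of_mul_eq (Hall.mem_cent_iff.1 hd.2).symm
    have := hN.conj_mem _ (QuotientGroup.eq.1 (this.trans (by simp : _ = ((d * x * d⁻¹ : G) : G ⧸ N)))) g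
    convert this using 1; rw [e]; group
  have hx' := conj_mem_of_mem_normalizer hn.2 hx
  have hy' := conj_mem_of_mem_normalizer hn.2 hy
  have k1 := s1 _ hy' _ (mul_mem (inv_mem hz) hx') hm
  have k2 := hg _ hy'
  have : n * x * n⁻¹ * (n * y * n⁻¹) = n * y * n⁻¹ * (n * x * n⁻¹) := by
    generalize n * x * n⁻¹ = u at *; generalize n * y * n⁻¹ = v at *; generalize g * x * g⁻¹ = z at *
    calc u * v = z * (z⁻¹ * u * v) := by group
      _ = v * u := by rw [k1, ← mul_assoc, ← k2]; group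
  exact (MulAut.conj n).injective (by simpa only [map_mul, MulAut.conj_apply] using this)

end Cfsg.Agent.S4354
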