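import Cfsg.Statements.S4358
import Cfsg.Agent.Lib.Linear.Card

set_option autoImplicit false
open Cfsg

namespace Cfsg.Agent.S4358

open Subgroup Matrix
open scoped Pointwise

set_option linter.unusedSectionVars false

theorem lemG {G : Type*} [Group G] [Finite G] {p : ℕ} [Fact p.Prime] {x y : G} (hx : ∃ k : ℕ, orderOf x = p ^ k)
    (hy : y ^ p = 1) (h : ∀ z ∈ zpowers x, Commute y (z * y * z⁻¹)) : ∃ P : Sylow p G, x ∈ P ∧ y ∈ P := by
  let s : Set G := {w | ∃ z ∈ zpowers x, w = z * y * z⁻¹}
  have hc : ∀ a ∈ s, ∀ b ∈ s, a * b = b * a := by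
    rintro _ ⟨z, hz, rfl⟩ _ ⟨z', hz', rfl⟩
    have := (h (z⁻¹ * z') (mul_mem (inv_mem hz) hz')).eq
    calc _ = z * (y * (z⁻¹ * z' * y * (z⁻¹ * z')⁻¹)) * z⁻¹ := by group
      _ = _ := by rw [this]; group
  have hN : IsPGroup p (closure s) := by
    rintro ⟨w, hw⟩
    refine ⟨1, Subtype.ext ?_⟩
    simp only [pow_one, SubgroupClass.coe_pow, OneMemClass.coe_one]
    induction hw using closure_induction with
    | mem w hw => obtain ⟨z, -, rfl⟩ := hw; rw [conj_pow, hy]; simp
    | one => simp
    | mul a b ha hb ia ib =>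
      have := isMulCommutative_closure hc
      have : Commute a b := congrArg Subtype.val (mul_comm' (⟨a, ha⟩ : closure s) ⟨b, hb⟩)
      rw [this.mul_pow, ia, ib, one_mul]
    | inv a _ ia => rw [inv_pow, ia, inv_one]
  have hX : IsPGroup p (zpowers x) := by
    obtain ⟨k, hk⟩ := hx
    exact IsPGroup.of_card (by rw [Nat.card_zpowers, hk])
  have hn : zpowers x ≤ normalizer (closure s : Set G) := by
    have k : ∀ g ∈ zpowers x, ∀ w ∈ closure s, g * w * g⁻¹ ∈ closure s := by
      intro g hg w hw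
      induction hw using closure_induction with
      | mem w hw =>
        obtain ⟨z, hz, rfl⟩ := hw
        exact subset_closure ⟨g * z, mul_mem hg hz, by group⟩
      | one => simp
      | mul a b _ _ ia ib => convert mul_mem ia ib using 1; group
      | inv a _ ia => convert inv_mem ia using 1; group
    intro g hg
    refine mem_normalizer_iff.2 fun w => ⟨k g hg w, fun hw => ?_⟩
    convert k g⁻¹ (inv_mem hg) _ hw using 1; group
  obtain ⟨P, hP⟩ := (hX.to_sup_of_normal_right' hN hn).exists_le_sylow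
  exact ⟨P, hP (mem_sup_left (mem_zpowers x)), hP (mem_sup_right (subset_closure ⟨1, one_mem _, by simp⟩))⟩

variable {F : Type*} [Field F] {ι : Type*} [AddCommGroup ι] [Fintype ι] [DecidableEq ι]

def M (d : ι → Fˣ) (k : ι) : Matrix ι ι F := Matrix.of fun i j => if i = j + k then (d j : F) else 0

theorem M_mul (d d' : ι → Fˣ) (k k' : ι) : M d k * M d' k' = M (fun j => d (j + k') * d' j) (k' + k) := by
  ext i j
  simp only [M, Matrix.mul_apply, of_apply, mul_ite, mul_zero, Finset.sum_ite_eq', Finset.mem_univ, if_true,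
    add_assoc]
  split_ifs <;> simp

theorem M_one : M (fun _ : ι => (1 : Fˣ)) 0 = 1 := by
  ext i j; simp [M, one_apply]

def mon (d : ι → Fˣ) (k : ι) : GL ι F :=
  ⟨M d k, M (fun j => (d (j - k))⁻¹) (-k), by rw [M_mul, ← M_one]; simp [sub_eq_add_neg],
    by rw [M_mul, ← M_one]; simp⟩

theorem mon_mul (d d' : ι → Fˣ) (k k' : ι) : mon d k * mon d' k' = mon (fun j => d (j + k') * d' j) (k' + k) :=
  Units.ext (M_mul _ _ _ _)

theorem mon_inv (d : ι → Fˣ) (k : ι) : (mon d k)⁻¹ = mon (fun j => (d (j - k))⁻¹) (-k) := Units.ext rfl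

theorem mon_pow (d : ι → Fˣ) (k : ι) (m : ℕ) :
    mon d k ^ m = mon (fun j => ∏ t ∈ Finset.range m, d (j + t • k)) (m • k) := by
  induction m with
  | zero => exact Units.ext (by simpa [mon] using M_one.symm)
  | succ m ih =>
    rw [pow_succ', ih, mon_mul, succ_nsmul]
    simp only [Finset.prod_range_succ, mul_comm]

def Q0 (ι : Type*) [AddCommGroup ι] [Fintype ι] [DecidableEq ι] (F : Type*) [Field F] (p : ℕ) : Subgroup (GL ι F) where
  carrier := {g | ∃ (d : ι → Fˣ) (k : ι), (∀ j, d j ^ p = 1) ∧ g = mon d k}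
  mul_mem' := by
    rintro _ _ ⟨d, k, h, rfl⟩ ⟨d', k', h', rfl⟩
    exact ⟨_, _, fun j => by rw [mul_pow, h, h', one_mul], mon_mul _ _ _ _⟩
  one_mem' := ⟨fun _ => 1, 0, fun _ => one_pow _, Units.ext M_one.symm⟩
  inv_mem' := by
    rintro _ ⟨d, k, h, rfl⟩
    exact ⟨_, _, fun j => by rw [inv_pow, h, inv_one], mon_inv _ _⟩

theorem not_mem_Q0 {p : ℕ} {g : GL ι F} {i i' j : ι} (h : i ≠ i') (h1 : g.1 i j ≠ 0) (h2 : g.1 i' j ≠ 0) :
    g ∉ Q0 ι F p := by
  rintro ⟨d, k, -, rfl⟩
  simp only [mon, M, of_apply, ne_eq, ite_eq_right_iff, Classical.not_imp] at h1 h2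
  exact h (h1.1.trans h2.1.symm)

theorem card_Q0 (p : ℕ) : Nat.card (Q0 ι F p) = Nat.card (rootsOfUnity p F) ^ Fintype.card ι * Fintype.card ι := by
  let f : (ι → rootsOfUnity p F) × ι → Q0 ι F p := fun e =>
    ⟨mon (fun j => e.1 j) e.2, _, _, fun j => (e.1 j).2, rfl⟩
  have : Function.Bijective f := by
    constructor
    · rintro ⟨d, k⟩ ⟨d', k'⟩ h
      have h' : ∀ i j, M (fun j => (d j : Fˣ)) k i j = M (fun j => (d' j : Fˣ)) k' i j := fun i j =>
        congrArg (fun g : Q0 ι F p => g.1.1 i j) h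
      have h0 := h' k 0
      simp only [M, of_apply, zero_add, if_true] at h0
      obtain rfl : k = k' := by
        by_contra hk
        rw [if_neg hk] at h0
        exact Units.ne_zero _ h0
      refine Prod.ext (funext fun j => Subtype.ext (Units.ext ?_)) rfl
      simpa [M] using h' (j + k) j
    · rintro ⟨_, d, k, h, rfl⟩
      exact ⟨(fun j => ⟨d j, h j⟩, k), rfl⟩
  rw [← Nat.card_eq_of_bijective f this]
  simp [Nat.card_fun]

theorem refl_mul (P : Matrix ι ι F) (hP : P * P = P) (a b : F) :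
    (1 + (a - 1) • P) * (1 + (b - 1) • P) = 1 + (a * b - 1) • P := by
  simp only [mul_add, add_mul, mul_one, one_mul, smul_mul_assoc, mul_smul_comm, hP]
  module

def refl (P : Matrix ι ι F) (hP : P * P = P) (w : Fˣ) : GL ι F :=
  ⟨1 + ((w : F) - 1) • P, 1 + ((w⁻¹ : Fˣ) - 1 : F) • P, by rw [refl_mul P hP]; simp, by rw [refl_mul P hP]; simp⟩

theorem refl_val (P : Matrix ι ι F) (hP : P * P = P) (w : Fˣ) : (refl P hP w).1 = 1 + ((w : F) - 1) • P := rfl

theorem refl_pow (P : Matrix ι ι F) (hP : P * P = P) (w : Fˣ) (m : ℕ) : refl P hP w ^ m = refl P hP (w ^ m) := by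
  induction m with
  | zero => exact Units.ext (by simp [refl_val])
  | succ m ih =>
    rw [pow_succ, ih]
    refine Units.ext ?_
    simp only [Units.val_mul, refl_val, refl_mul P hP, pow_succ]

theorem refl_one (P : Matrix ι ι F) (hP : P * P = P) : refl P hP 1 = 1 := Units.ext (by simp [refl_val])

theorem refl_comm (P : Matrix ι ι F) (hP : P * P = P) (w : Fˣ) {x : GL ι F} (h : x.1 * P = P * x.1) :
    ∀ z ∈ zpowers x, Commute (refl P hP w) (z * refl P hP w * z⁻¹) := by
  rintro _ ⟨k, rfl⟩
  have : Commute x (refl P hP w) := Units.ext (by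
    simp only [Units.val_mul, refl_val, mul_add, add_mul, mul_one, one_mul, smul_mul_assoc, mul_smul_comm, h])
  simp only
  rw [(this.zpow_left k).eq, mul_inv_cancel_right]

theorem fact_GL [Fintype F] (p : ℕ) [hp : Fact p.Prime] (hp2 : p ≠ 2) (h1 : p ∣ Fintype.card F - 1)
    (h2 : ¬ p ^ 2 ∣ Fintype.card F - 1) (hι : Fintype.card ι = p) : (Nat.card (GL ι F)).factorization p = p + 1 := by
  rw [Cfsg.Lib.Linear.card_GL', hι, Nat.card_eq_fintype_card]
  have hq : 1 < Fintype.card F := Fintype.one_lt_card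
  generalize Fintype.card F = q at *
  have hn : ¬ p ∣ q := fun h => hp.out.one_lt.ne' (Nat.dvd_one.1 (by
    have := Nat.dvd_sub h h1
    rwa [show q - (q - 1) = 1 by omega] at this))
  have h0 : ∀ i, q ^ (i + 1) - 1 ≠ 0 := fun i => by
    have := Nat.one_lt_pow (n := i + 1) (by omega) hq
    omega
  have v1 : padicValNat p (q - 1) = 1 := by
    have a1 := (padicValNat_dvd_iff_le (p := p) (n := 1) (by omega : q - 1 ≠ 0)).1 (by simpa using h1)
    have a2 := (padicValNat_dvd_iff_le (p := p) (n := 2) (by omega : q - 1 ≠ 0)).not.1 h2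
    omega
  have v : ∀ i, (q ^ (i + 1) - 1).factorization p = 1 + padicValNat p (i + 1) := fun i => by
    have := padicValNat.pow_sub_pow (hp.out.odd_of_ne_two hp2) hq h1 hn (n := i + 1) (by omega)
    rwa [one_pow, v1, ← Nat.factorization_def _ hp.out] at this
  rw [Nat.factorization_mul (by positivity) (Finset.prod_ne_zero_iff.2 fun i _ => h0 i), Nat.factorization_pow,
    Finsupp.add_apply, Finsupp.smul_apply, Nat.factorization_eq_zero_of_not_dvd hn, smul_zero, zero_add,
    Nat.factorization_prod_apply fun i _ => h0 i]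
  simp only [v]
  obtain ⟨n, rfl⟩ : ∃ n, p = n + 1 := ⟨p - 1, by have := hp.out.pos; omega⟩
  rw [Finset.sum_range_succ, padicValNat_self, Finset.sum_congr rfl (g := fun _ => 1)]
  · simp
  · intro i hi
    rw [padicValNat.eq_zero_of_not_dvd (Nat.not_dvd_of_pos_of_lt (by omega) (by simpa using hi))]

theorem main [Fintype F] (p : ℕ) [hp : Fact p.Prime] (hp2 : p ≠ 2) (h1 : p ∣ Fintype.card F - 1)
    (h2 : ¬ p ^ 2 ∣ Fintype.card F - 1) (hι : Fintype.card ι = p) :
    ∃ Q : Sylow p (GL ι F), ∀ x : GL ι F, (∃ k : ℕ, orderOf x = p ^ k) → ∃ P : Sylow p (GL ι F), P ≠ Q ∧ x ∈ P := by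
  have hμ : Nat.card (rootsOfUnity p F) = p := by
    rw [Cfsg.Lib.Linear.card_rootsOfUnity_eq_gcd, Nat.card_eq_fintype_card, Nat.gcd_eq_left h1]
  let Q : Sylow p (GL ι F) := Sylow.ofCard (Q0 ι F p) (by rw [card_Q0, fact_GL p hp2 h1 h2 hι, hμ, hι, pow_succ])
  have hQ : ∀ g, g ∈ Q ↔ g ∈ Q0 ι F p := fun g => Iff.rfl
  refine ⟨Q, fun x hx => ?_⟩
  suffices h : ∃ P : Sylow p (GL ι F), x ∈ P ∧ ∃ y ∈ P, y ∉ Q0 ι F p by
    obtain ⟨P, h1, y, h2, h3⟩ := h
    exact ⟨P, by rintro rfl; exact h3 h2, h1⟩
  by_cases hxQ : x ∈ Q0 ι F p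
  swap
  · obtain ⟨k, hk⟩ := hx
    obtain ⟨P, hP⟩ := (IsPGroup.of_card (by rw [Nat.card_zpowers, hk]) : IsPGroup p (zpowers x)).exists_le_sylow
    exact ⟨P, hP (mem_zpowers x), x, hP (mem_zpowers x), hxQ⟩
  obtain ⟨d, k, hd, rfl⟩ := id hxQ
  obtain ⟨w, hw1, hwp⟩ : ∃ w : Fˣ, (w : F) - 1 ≠ 0 ∧ w ^ p = 1 := by
    obtain ⟨w, hw⟩ := exists_prime_orderOf_dvd_card' (G := rootsOfUnity p F) p (by rw [hμ])
    refine ⟨w, fun h => ?_, w.2⟩
    have : w = 1 := Subtype.ext (Units.ext (sub_eq_zero.1 h))
    rw [this, orderOf_one] at hw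
    exact hp.out.one_lt.ne hw
  have hpF : (p : F) ≠ 0 := by
    intro h
    obtain ⟨c, hc⟩ := h1
    have e : Fintype.card F = p * c + 1 := by have := Fintype.card_pos (α := F); omega
    have := FiniteField.cast_card_eq_zero F
    rw [e] at this
    simp [h] at this
  have third : ∀ a b : ι, ∃ c, c ≠ a ∧ c ≠ b := by
    intro a b
    by_contra h
    push Not at h
    have : (Finset.univ : Finset ι) ⊆ {a, b} := fun c _ => by
      by_cases k : c = a
      · simp [k]
      · simp [h c k]
    have := (Finset.card_le_card this).trans Finset.card_le_two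
    rw [Finset.card_univ, hι] at this
    have := hp.out.two_le
    omega
  have useG : ∀ (P : Matrix ι ι F) (hP : P * P = P),
      (∀ z ∈ zpowers (mon d k), Commute (refl P hP w) (z * refl P hP w * z⁻¹)) → refl P hP w ∉ Q0 ι F p →
      ∃ P : Sylow p (GL ι F), mon d k ∈ P ∧ ∃ y ∈ P, y ∉ Q0 ι F p := by
    intro P hP h3 h4
    obtain ⟨S, h5, h6⟩ := lemG hx (by rw [refl_pow, hwp, refl_one]) h3
    exact ⟨S, h5, _, h6, h4⟩
  by_cases hk : k = 0
  · subst hk
    by_cases hinj : Function.Injective d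
    · let J : Matrix ι ι F := Matrix.of fun _ _ => 1
      have JJ : ∀ e : ι → Fˣ, J * M e 0 * J = (∑ i, (e i : F)) • J := by
        intro e; ext i j; simp [J, M, Matrix.mul_apply]
      have hP : ((p : F)⁻¹ • J) * ((p : F)⁻¹ • J) = (p : F)⁻¹ • J := by
        have := JJ (fun _ => 1)
        rw [M_one, mul_one] at this
        rw [smul_mul_assoc, mul_smul_comm, this]
        simp [hι, smul_smul, hpF]
      refine useG _ hP ?_ ?_
      · intro z hz
        obtain ⟨m, rfl⟩ := mem_powers_iff_mem_zpowers.2 hz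
        simp only [mon_pow, smul_zero, add_zero, Finset.prod_const, Finset.card_range]
        let β : ι → rootsOfUnity p F := fun i => ⟨d i, hd i⟩
        have hβ : Function.Bijective β := (Nat.bijective_iff_injective_and_card β).2
          ⟨fun i j h => hinj (congrArg Subtype.val h), by rw [hμ, Nat.card_eq_fintype_card, hι]⟩
        let φ : rootsOfUnity p F →* F := (Units.coeHom F).comp ((powMonoidHom m).comp (rootsOfUnity p F).subtype)
        by_cases hφ : φ = 1
        · have : (fun j => d j ^ m) = fun _ => 1 := funext fun j => Units.ext (DFunLike.congr_fun hφ (β j))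
          rw [this, show mon (fun _ : ι => (1 : Fˣ)) 0 = 1 from Units.ext M_one]
          simp
        · have := Fintype.ofFinite (rootsOfUnity p F)
          have s0 := sum_hom_units_eq_zero φ hφ
          have s1 : ∑ i, ((d i ^ m : Fˣ) : F) = 0 := by rw [← s0]; exact hβ.sum_comp φ
          have s2 : ∑ i, (((d i ^ m)⁻¹ : Fˣ) : F) = 0 := by
            rw [← s0, ← Equiv.sum_comp (Equiv.inv _) φ, ← hβ.sum_comp]
            simp [φ, β]
          have t1 := JJ (fun i => d i ^ m)
          have t2 := JJ (fun i => (d i ^ m)⁻¹)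
          rw [s1, zero_smul] at t1
          rw [s2, zero_smul] at t2
          have t3 : M (fun i => d i ^ m) 0 * M (fun i => (d i ^ m)⁻¹) 0 = 1 := by
            rw [M_mul, ← M_one]; simp
          refine Units.ext ?_
          simp only [mon_inv, neg_zero, sub_zero, Units.val_mul, refl_val]
          simp only [mon]
          generalize M (fun i => d i ^ m) 0 = D at *
          generalize M (fun i => (d i ^ m)⁻¹) 0 = D' at *
          have t4 : J * (D * (J * D')) = 0 := by rw [← mul_assoc, ← mul_assoc, t1, zero_mul]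
          have t5 : D * (J * (D' * J)) = 0 := by rw [← mul_assoc J, t2, mul_zero]
          simp only [mul_add, add_mul, mul_one, one_mul, smul_mul_assoc, mul_smul_comm, mul_assoc, t3, t4, t5,
            smul_zero, add_zero]
          abel
      · obtain ⟨a, ha, -⟩ := third 0 0
        obtain ⟨b, hb, hba⟩ := third 0 a
        refine not_mem_Q0 (j := 0) hba ?_ ?_ <;> simp [refl_val, J, ha, hb, hw1, hpF]
    · obtain ⟨a, b, hab, hne⟩ := Function.not_injective_iff.1 hinj
      have hP : (single a b (1 : F) + single b b 1) * (single a b 1 + single b b 1) = single a b 1 + single b b 1 := by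
        simp [mul_add, add_mul, single_mul_single_of_ne, hne.symm]
      refine useG _ hP (refl_comm _ _ _ ?_) ?_
      · ext i j
        simp only [mon, M, Matrix.mul_apply, of_apply, add_zero, ite_mul, mul_ite, zero_mul, mul_zero,
          Finset.sum_ite_eq, Finset.sum_ite_eq', Finset.mem_univ, if_true, Matrix.add_apply, single_apply]
        split_ifs with h3 h4 h4
        · exact absurd (h3.1.trans h4.1.symm) hne
        · rw [← h3.1, ← h3.2, hab]; ring
        · rw [← h4.1, ← h4.2]; ring
        · ring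
      · refine not_mem_Q0 (j := b) hne ?_ ?_ <;> simp [refl_val, hne, hne.symm, hw1]
  · have hord : addOrderOf k = p := addOrderOf_eq_prime (by rw [← hι]; exact card_nsmul_eq_zero) hk
    have hβ : ∀ j, Function.Bijective fun t : Fin p => j + (t : ℕ) • k := fun j =>
      (Nat.bijective_iff_injective_and_card _).2 ⟨fun s t h => Fin.ext (nsmul_injOn_Iio_addOrderOf (x := k)
        (by rw [hord]; exact s.2) (by rw [hord]; exact t.2) (add_left_cancel h)), by simp [hι]⟩
    set x := mon d k with hxd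
    let S : Matrix ι ι F := ∑ m ∈ Finset.range p, x.1 ^ m
    have hS : ∀ i j, S i j ≠ 0 := by
      intro i j
      obtain ⟨t, ht⟩ := (hβ j).2 i
      have : S i j = (∏ s ∈ Finset.range t, d (j + s • k) : Fˣ) := by
        simp only [S, Matrix.sum_apply, ← Units.val_pow_eq_pow_val, hxd, mon_pow]
        rw [Finset.sum_range, Finset.sum_eq_single t]
        · simp [mon, M, ← ht]
        · intro s _ hs
          simp only [mon, M, of_apply, ite_eq_right_iff]
          exact fun h => absurd ((hβ j).1 (h.symm.trans ht.symm)) hs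
        · simp
      rw [this]; exact Units.ne_zero _
    have hxp : x.1 ^ p = ((∏ i, d i : Fˣ) : F) • 1 := by
      rw [← Units.val_pow_eq_pow_val, hxd, mon_pow, ← hord, addOrderOf_nsmul_eq_zero, hord]
      ext i j
      simp only [mon, M, of_apply, add_zero, Finset.prod_range, (hβ j).prod_comp d, Matrix.smul_apply, one_apply]
      split_ifs <;> simp
    have e1 : (1 - x.1) * S = (1 - ((∏ i, d i : Fˣ) : F)) • 1 := by
      rw [mul_neg_geom_sum, hxp, sub_smul, one_smul]
    have e2 : S * (1 - x.1) = (1 - ((∏ i, d i : Fˣ) : F)) • 1 := by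
      rw [geom_sum_mul_neg, hxp, sub_smul, one_smul]
    by_cases hc : 1 - ((∏ i, d i : Fˣ) : F) = 0
    · rw [hc, zero_smul] at e1 e2
      have f1 : x.1 * S = S := by rw [sub_mul, one_mul, sub_eq_zero] at e1; exact e1.symm
      have f2 : S * x.1 = S := by rw [mul_sub, mul_one, sub_eq_zero] at e2; exact e2.symm
      have f3 : ∀ m, x.1 ^ m * S = S := fun m => by
        induction m with
        | zero => simp
        | succ m ih => rw [pow_succ, mul_assoc, f1, ih]
      have hP : ((p : F)⁻¹ • S) * ((p : F)⁻¹ • S) = (p : F)⁻¹ • S := by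
        have : S * S = (p : F) • S := by
          conv_lhs => rw [show S = ∑ m ∈ Finset.range p, x.1 ^ m from rfl, Finset.sum_mul]
          simp only [show ∑ m ∈ Finset.range p, x.1 ^ m = S from rfl, f3, Finset.sum_const, Finset.card_range,
            Nat.cast_smul_eq_nsmul]
        rw [smul_mul_assoc, mul_smul_comm, this]
        simp [smul_smul, hpF]
      refine useG _ hP (refl_comm _ _ _ (by rw [smul_mul_assoc, mul_smul_comm, f1, f2])) ?_
      obtain ⟨a, ha, -⟩ := third 0 0
      obtain ⟨b, hb, hba⟩ := third 0 a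
      refine not_mem_Q0 (j := 0) hba ?_ ?_ <;> simp [refl_val, ha, hb, hw1, hpF, hS]
    · let g : GL ι F := ⟨1 - x.1, (1 - ((∏ i, d i : Fˣ) : F))⁻¹ • S, by
        rw [mul_smul_comm, e1, smul_smul, inv_mul_cancel₀ hc, one_smul], by
        rw [smul_mul_assoc, e2, smul_smul, inv_mul_cancel₀ hc, one_smul]⟩
      have hP : single (0 : ι) (0 : ι) (1 : F) * single 0 0 1 = single 0 0 1 := by simp
      have hy : refl _ hP w ∈ Q := ⟨fun j => if j = 0 then w else 1, 0, fun j => by by_cases h : j = 0 <;> simp [h, hwp],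
        Units.ext (by
          ext i j
          simp only [refl_val, mon, M, of_apply, add_zero, Matrix.add_apply, Matrix.smul_apply, one_apply, single_apply]
          by_cases h3 : i = j
          · subst h3; by_cases h4 : i = 0 <;> simp [h4, eq_comm]
          · rw [if_neg h3, if_neg h3, if_neg (fun h => h3 (h.1.symm.trans h.2))]; simp)⟩
      have hgx : g * x * g⁻¹ = x := by
        rw [mul_inv_eq_iff_eq_mul]
        exact Units.ext (by simp [g, mul_sub, sub_mul])
      refine ⟨g • Q, ?_, g * refl _ hP w * g⁻¹, ?_, ?_⟩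
      · rw [← hgx]; exact Subgroup.smul_mem_pointwise_smul x (MulAut.conj g) _ hxQ
      · exact Subgroup.smul_mem_pointwise_smul _ (MulAut.conj g) _ hy
      · obtain ⟨j, hj0, hjk⟩ := third 0 k
        have : (g * refl _ hP w * g⁻¹).1 = 1 + ((w : F) - 1) • (g.1 * single 0 0 1 * (g⁻¹).1) := by
          rw [Units.val_mul, Units.val_mul, refl_val, mul_add, add_mul, mul_one, Units.mul_inv, mul_smul_comm,
            smul_mul_assoc]
        have ent : ∀ i, (g.1 * single (0 : ι) (0 : ι) (1 : F) * (g⁻¹).1) i j = g.1 i 0 * (g⁻¹).1 0 j := by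
          intro i
          rw [Matrix.mul_apply, Finset.sum_eq_single 0]
          · simp
          · intro b _ hb; rw [mul_single_apply_of_ne _ _ _ _ _ hb, zero_mul]
          · simp
        have gi : (g⁻¹).1 0 j ≠ 0 := by
          change ((1 - ((∏ i, d i : Fˣ) : F))⁻¹ • S) 0 j ≠ 0
          rw [Matrix.smul_apply, smul_eq_mul]
          exact mul_ne_zero (inv_ne_zero hc) (hS _ _)
        refine not_mem_Q0 (j := j) hk ?_ ?_ <;> rw [this, Matrix.add_apply, Matrix.smul_apply, ent, smul_eq_mul]
        · rw [one_apply_ne hjk.symm, zero_add]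
          refine mul_ne_zero hw1 (mul_ne_zero ?_ gi)
          simp [g, hxd, mon, M, hk]
        · rw [one_apply_ne hj0.symm, zero_add]
          refine mul_ne_zero hw1 (mul_ne_zero ?_ gi)
          simp [g, hxd, mon, M, Ne.symm hk]

/-- Let p be an odd prime and F a finite field with q elements such that p divides q - 1 but p² does not. Then GL(p, F) has a Sylow p-subgroup Q such that every element of p-power order lies in some Sylow p-subgroup other than Q (a redundant Sylow p-subgroup). -/
theorem result {F : Type*} [Field F] [Fintype F] (p : ℕ) [Fact p.Prime]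
    (hp : p ≠ 2) (h1 : p ∣ Fintype.card F - 1) (h2 : ¬ p ^ 2 ∣ Fintype.card F - 1) :
    ∃ Q : Sylow p (Matrix.GeneralLinearGroup (Fin p) F), ∀ x : Matrix.GeneralLinearGroup (Fin p) F,
      (∃ k : ℕ, orderOf x = p ^ k) → ∃ P : Sylow p (Matrix.GeneralLinearGroup (Fin p) F), P ≠ Q ∧ x ∈ P := by
  have : NeZero p := ⟨(Fact.out : p.Prime).ne_zero⟩
  exact main p hp h1 h2 (Fintype.card_fin p)

end Cfsg.Agent.S4358
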