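import Cfsg.Statements.S4359
import Cfsg.Agent.Lib.Amalg.Sims

set_option autoImplicit false
open Pointwise
open Cfsg

namespace Cfsg.Agent.S4359

open Subgroup Cfsg.Lib.Amalg
open Cfsg.Lib.Core hiding isPGroup_subgroupOf isPGroup_subgroupOf_iff isPGroup_map_subtype_iff isPGroup_zpowers_of_orderOf
open scoped commutatorElement

/-- Let P be a subgroup of a finite group G and g an element such that P ∩ g⁻¹Pg is a normal subgroup of prime index p in g⁻¹Pg. Let n ≥ 1 and let K be the subgroup generated by P and its conjugates g⁻ⁱPgⁱ for i ≤ n. Suppose that g normalizes no non-identity normal subgroup of P and that P meets the center of K trivially. Then the order of P is pᵗ for some t with 1 ≤ t ≤ 3n and t ≠ 3n - 1. -/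
theorem result {G : Type*} [Group G] [Finite G]
    (P : Subgroup G) (g : G) (p : ℕ) (hp : p.Prime)
    (hN : ((P ⊓ MulAut.conj g⁻¹ • P).subgroupOf (MulAut.conj g⁻¹ • P)).Normal)
    (hidx : (P ⊓ MulAut.conj g⁻¹ • P).relIndex (MulAut.conj g⁻¹ • P) = p)
    (n : ℕ) (hn : 1 ≤ n) (K : Subgroup G) (hK : K = ⨆ i ∈ Finset.range (n + 1), MulAut.conj (g ^ i)⁻¹ • P)
    (h1 : ∀ Q : Subgroup G, Q ≤ P → (Q.subgroupOf P).Normal → MulAut.conj g • Q = Q → Q = ⊥)
    (h2 : P ⊓ (Subgroup.center K).map K.subtype = ⊥) :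
    ∃ t : ℕ, Nat.card P = p ^ t ∧ 1 ≤ t ∧ t ≤ 3 * n ∧ t ≠ 3 * n - 1 := by
  rw [Lib.Core.conj_smul_eq_map] at hN hidx
  have e1 : (P ⊓ P.map (MulAut.conj g⁻¹).toMonoidHom).map (MulAut.conj g).toMonoidHom =
      P ⊓ P.map (MulAut.conj g).toMonoidHom := by
    rw [Lib.Amalg.cj_inf, Lib.Amalg.cj_cj_inv, inf_comm]
  obtain ⟨t, a, ht, hc, rfl⟩ := Lib.Amalg.Sims.exists_chain (g := g) (P := P) hp (by
      have := Lib.Amalg.cj_mono g ((Subgroup.normal_subgroupOf_iff_le_normalizer inf_le_right).1 hN)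
      rwa [Lib.Amalg.cj_cj_inv, Lib.Amalg.cj_normalizer, e1] at this) (by
      rw [← hidx, ← e1, ← Subgroup.relIndex_map_map_of_injective (f := (MulAut.conj g).toMonoidHom) _
        (P.map (MulAut.conj g⁻¹).toMonoidHom) (MulEquiv.injective _), Lib.Amalg.cj_cj_inv])
    fun Q hQ hn e => h1 Q hQ ((Subgroup.normal_subgroupOf_iff_le_normalizer hQ).2 hn) e
  simp only [Lib.Core.conj_smul_eq_map] at hK
  rw [Lib.Amalg.Sims.iSup_X n ht] at hK
  obtain ⟨u, c⟩ := Lib.Amalg.Sims.exists_crit (g := g) (a := a) ht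
  have h3 := c.bound' hp hc (n := n) (by
    rw [Lib.Core.map_subtype_center, hK, ← inf_assoc, inf_eq_left.2
      (Lib.Amalg.Sims.X_mono le_rfl (by omega))] at h2
    exact h2)
  refine ⟨t, hc t le_rfl, ht, ?_⟩
  rcases c.le.eq_or_lt with e | e
  · omega
  · have := c.bound hp hc e
    omega

end Cfsg.Agent.S4359
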