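import Cfsg.Statements.S4363
import Cfsg.Agent.Lib.Tur.H

set_option autoImplicit false
open Cfsg

namespace Cfsg.Agent.S4363

open Subgroup Cfsg.Lib Cfsg.Lib.SigC

/-- Let G be a finite solvable group and σ an automorphism of G of prime order r not dividing the order of G, with fixed-point subgroup C. Then the Fitting height of G exceeds that of C by at most 2: if C has a chain of normal subgroups 1 = C₀ ≤ ⋯ ≤ Cₙ = C with nilpotent factors, then G has such a chain of length n + 2. -/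
theorem result {G : Type*} [Group G] [Finite G]
    (hG : Group.IsSolvable G) (σ : MulAut G) (r : ℕ) (hr : r.Prime) (hσ : orderOf σ = r) (hcop : ¬ r ∣ Nat.card G)
    (C : Subgroup G) (hC : ∀ g : G, g ∈ C ↔ σ g = g) (n : ℕ) (hn : (∃ F : Fin (n + 1) → Subgroup ↥C, F 0 = ⊥ ∧ F (Fin.last n) = ⊤ ∧ Monotone F ∧ (∀ i, (F i).Normal) ∧ ∀ i : Fin n, ∃ k : ℕ, (F i.succ).lowerCentralSeries k ≤ F i.castSucc)) :
    (∃ F : Fin ((n + 2) + 1) → Subgroup G, F 0 = ⊥ ∧ F (Fin.last (n + 2)) = ⊤ ∧ Monotone F ∧ (∀ i, (F i).Normal) ∧ ∀ i : Fin (n + 2), ∃ k : ℕ, (F i.succ).lowerCentralSeries k ≤ F i.castSucc) := by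
  obtain ⟨Γ, _, _, i, j, ha, -⟩ := Coprime.exists_ambient (zpowers σ).subtype
  have hc : Nat.card ((⊤ : Subgroup (zpowers σ)).map j) = r := by
    rw [card_map_of_injective ha.inj_j, card_top, Nat.card_zpowers, hσ]
  have e : Coprime.actFix (zpowers σ).subtype ⊤ = C := by
    ext g
    refine ⟨fun h => (hC g).2 (h ⟨σ, mem_zpowers σ⟩ trivial), fun h b _ => ?_⟩
    exact (zpowers_le.2 ((hC g).1 h) : zpowers σ ≤ MulAction.stabilizer (MulAut G) g) b.2
  refine fitLen_iff_top.2 ((nresN_map_eq_bot_iff ha.inj_i).1 (Tur.turull (hc ▸ hr)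
    (Group.isSolvable_of_surjective (i.subgroupMap_surjective ⊤)) (ha.le_normalizer_top ⊤) ?_ ?_))
  · rw [hc, card_map_of_injective ha.inj_i, card_top]
    exact hr.coprime_iff_not_dvd.2 hcop
  · rw [← ha.map_actFix, e, nresN_map_eq_bot_iff ha.inj_i]
    exact fitLen_iff.1 hn

end Cfsg.Agent.S4363
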