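import Cfsg.Statements.S4365
import Cfsg.Agent.Lib.Layer.Misc

set_option autoImplicit false
open Cfsg

namespace Cfsg.Agent.S4365

open Subgroup Cfsg.Lib.Core Cfsg.Lib.Amalg Cfsg.Lib.BG1 Cfsg.Lib.Layer

/-- Let P be a finite p-group whose conjugacy class sizes are exactly 1 and pᵃ for some a ≥ 1. Then every element of P has its p-th power in the center of P (P/Z(P) has exponent p). -/
theorem result {P : Type*} [Group P] [Finite P] (p : ℕ) [Fact p.Prime]
    (hP : IsPGroup p P) (a : ℕ) (ha : 1 ≤ a)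
    (hcs : {k : ℕ | ∃ x : P, (Subgroup.centralizer ({x} : Set P)).index = k} = {1, p ^ a}) (x : P) :
    x ^ p ∈ Subgroup.center P := by
  by_contra hx
  have hp := (Fact.out : p.Prime)
  have h1 : ∀ y : P, y ∉ center P → (centralizer ({y} : Set P)).index = p ^ a := fun y hy =>
    ((hcs.le ⟨y, rfl⟩ : _ ∈ ({1, p ^ a} : Set ℕ)).resolve_left fun e => hy (mem_center_iff.2 fun g =>
      mem_centralizer_singleton_iff.1 (index_eq_one.1 e ▸ mem_top g)))
  have h2 : ∀ y z : P, z ∉ center P → centralizer ({y} : Set P) ≤ centralizer {z} → centralizer ({y} : Set P) = centralizer {z} :=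
    fun y z hz h => eq_of_le_of_card_ge h (by
      have hy : y ∉ center P := fun hy => hz (mem_center_iff.2 fun g => mem_centralizer_singleton_iff.1
        (h (mem_centralizer_singleton_iff.2 (mem_center_iff.1 hy g))))
      have e1 := (centralizer ({y} : Set P)).card_mul_index
      have e2 := (centralizer ({z} : Set P)).card_mul_index
      rw [h1 y hy] at e1
      rw [h1 z hz, ← e1] at e2
      exact (Nat.eq_of_mul_eq_mul_right (pow_pos hp.pos a) e2).le)
  have h3 : ∀ y : P, y ^ p ∉ center P → centralizer ({y} : Set P) = centralizer {y ^ p} := fun y hy => h2 _ _ hy fun g hg =>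
    mem_centralizer_singleton_iff.2 ((show Commute g y from mem_centralizer_singleton_iff.1 hg).pow_right p).eq
  have cp : ∀ u v : P, u * v * u⁻¹ * v⁻¹ ∈ center P → ∀ n : ℕ, u * v ^ n * u⁻¹ = (u * v * u⁻¹ * v⁻¹) ^ n * v ^ n := fun u v h n => by
    rw [← (show Commute (u * v * u⁻¹ * v⁻¹) v from (mem_center_iff.1 h v).symm).mul_pow, inv_mul_cancel_right, conj_pow]
  have h4 : ∀ u v : P, u * v * u⁻¹ * v⁻¹ ∈ center P → u * v ^ p = v ^ p * u → v * u ^ p = u ^ p * v := fun u v h e => by
    have e1 := cp u v h p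
    rw [e, mul_inv_cancel_right, right_eq_mul] at e1
    have e2 := cp v u (by simpa [mul_assoc] using inv_mem h) p
    rw [show v * u * v⁻¹ * u⁻¹ = (u * v * u⁻¹ * v⁻¹)⁻¹ by group, inv_pow, e1, inv_one, one_mul] at e2
    exact mul_inv_eq_iff_eq_mul.1 e2
  obtain ⟨z, z1, z2, z3⟩ : ∃ z : P, z ∉ center P ∧ z ^ p ∈ center P ∧ ∀ u, u * z * u⁻¹ * z⁻¹ ∈ center P := by
    have : Nontrivial (P ⧸ center P) := ⟨(x ^ p : P), 1, fun e => hx ((QuotientGroup.eq_one_iff _).1 e)⟩
    have hq := hP.to_quotient (center P)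
    obtain ⟨w, hw⟩ := exists_prime_orderOf_dvd_card' p (dvd_card_of_isPGroup_ne_bot (hq.to_subgroup (center _))
      ((nontrivial_iff_ne_bot _).1 hq.center_nontrivial))
    rw [← orderOf_coe] at hw
    obtain ⟨w, hw'⟩ := w
    obtain ⟨z, rfl⟩ := QuotientGroup.mk_surjective w
    refine ⟨z, fun h => hp.one_lt.ne ?_, (QuotientGroup.eq_one_iff _).1 (hw ▸ pow_orderOf_eq_one (z : P ⧸ center P)),
      fun u => (QuotientGroup.eq_one_iff _).1 ?_⟩
    · exact (orderOf_eq_one_iff.2 ((QuotientGroup.eq_one_iff z).2 h)).symm.trans hw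
    · simp [mem_center_iff.1 hw' u]
  have h5 : ∀ u : P, z * u ^ p = u ^ p * z := fun u => h4 u z (z3 u) (mem_center_iff.1 z2 u)
  have h6 : Commute x z := (mem_centralizer_singleton_iff.1 ((h3 x hx).ge (mem_centralizer_singleton_iff.2 (h5 x)))).symm
  have h7 : centralizer ({x} : Set P) = centralizer {z} := h2 _ _ z1 fun g hg => by
    have e : (x * z) ^ p ∉ center P := by rw [h6.mul_pow, mul_mem_cancel_right z2]; exact hx
    have gx : Commute g x := mem_centralizer_singleton_iff.1 hg
    have : g ∈ centralizer {x * z} := (h3 _ e).ge (mem_centralizer_singleton_iff.2 (by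
      rw [h6.mul_pow]; exact ((gx.pow_right p).mul_right (mem_center_iff.1 z2 g)).eq))
    exact mem_centralizer_singleton_iff.2 (by simpa using (gx.inv_right.mul_right (mem_centralizer_singleton_iff.1 this)).eq)
  set N := centralizer ({x} : Set P) with hN
  have hn : N.Normal := h7 ▸ ⟨fun g hg u => mem_centralizer_singleton_iff.2 (by
    have e1 := mem_center_iff.1 (z3 u⁻¹) g
    have e2 := mem_centralizer_singleton_iff.1 hg
    calc u * g * u⁻¹ * z = u * (g * (u⁻¹ * z * u⁻¹⁻¹ * z⁻¹)) * z * u⁻¹ := by group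
      _ = z * u * (z⁻¹ * (g * z)) * u⁻¹ := by rw [e1]; group
      _ = _ := by rw [e2]; group)⟩
  have h8 : ∀ y : P, y * x * y⁻¹ * x⁻¹ ∈ center P → y ∈ N := fun y h => (h3 x hx).ge (mem_centralizer_singleton_iff.2
    (h4 x y (by simpa [mul_assoc] using inv_mem h) (mem_centralizer_singleton_iff.1 (h7.ge
      (mem_centralizer_singleton_iff.2 (h5 y).symm))).symm))
  have hx1 : x ∉ center P := fun h => hx (pow_mem h p)
  obtain ⟨y, hy⟩ : ∃ y, y ∉ N := by
    by_contra h
    push Not at h
    exact hx1 (mem_center_iff.2 fun g => mem_centralizer_singleton_iff.1 (h g))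
  have hy1 : y ∉ center P := fun h => hy (mem_centralizer_singleton_iff.2 (mem_center_iff.1 h x).symm)
  have h9 : ∀ u : P, (∀ n ∈ N, n * u = u * n) → y * u = u * y → u ∈ center P := fun u h e => by_contra fun hu =>
    hy ((h2 x u hu fun n hn => mem_centralizer_singleton_iff.2 (h n hn)).ge (mem_centralizer_singleton_iff.2 e))
  have h10 : ∀ g : P, ∀ n ∈ N, n * (g * x * g⁻¹) = g * x * g⁻¹ * n := fun g n h => by
    have := mem_centralizer_singleton_iff.1 (hn.conj_mem n h g⁻¹)
    calc n * (g * x * g⁻¹) = g * (g⁻¹ * n * g⁻¹⁻¹ * x) * g⁻¹ := by group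
      _ = _ := by rw [this]; group
  let f : Option (P ⧸ N) → P ⧸ centralizer ({y} : Set P) := fun o => o.elim (1 : P) fun q => (q.out * x * q.out⁻¹ : P)
  have cj1 : ∀ g u : P, g * u * g⁻¹ ∈ center P → u ∈ center P := fun g u h => by
    simpa [mul_assoc] using (inferInstance : (center P).Normal).conj_mem _ h g⁻¹
  have hf : Function.Injective f := by
    have n1 : ∀ q, f none ≠ f (some q) := fun q e => hx1 (cj1 q.out _ (h9 _ (h10 _) (by
      simpa using (mem_centralizer_singleton_iff.1 (QuotientGroup.eq.1 e)).symm)))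
    rintro (_ | q) (_ | r) e
    · rfl
    · exact absurd e (n1 r)
    · exact absurd e.symm (n1 q)
    have := h9 _ (fun n hn => ((show Commute n _ from h10 q.out n hn).inv_right.mul_right (h10 r.out n hn)).eq)
      (mem_centralizer_singleton_iff.1 (QuotientGroup.eq.1 e)).symm
    exact congrArg some (q.out_eq'.symm.trans ((QuotientGroup.eq.2 (h8 (q.out⁻¹ * r.out) (cj1 (q.out * x⁻¹) _
      (by simpa [mul_assoc] using this)))).trans r.out_eq'))
  have := Nat.card_le_card_of_injective f hf
  rw [Finite.card_option, ← index, ← index, h1 x hx1, h1 y hy1] at this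
  omega

end Cfsg.Agent.S4365
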