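import Cfsg.Statements.S4369
import Cfsg.Agent.Lib.MinCA.M6
import Cfsg.Agent.Lib.MinCA.B

set_option autoImplicit false
open Cfsg

namespace Cfsg.Agent.S4369


/-- Call a group a CA-group when the centralizer of every non-central element is abelian. A finite group G is non-solvable, is not a CA-group, and has all its proper subgroups CA-groups, if and only if G is isomorphic to PSL(2, q) where q > 5 is a prime with 16 not dividing q² - 1, or q = 3ᵖ or q = 5ᵖ for an odd prime p. -/
theorem result {G : Type*} [Group G] [Finite G] :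
    (¬ Group.IsSolvable G ∧ ¬ (∀ x : G, x ∉ Subgroup.center G → IsMulCommutative (Subgroup.centralizer ({x} : Set G))) ∧ ∀ H : Subgroup G, H ≠ ⊤ → (∀ x : H, x ∉ Subgroup.center H → IsMulCommutative (Subgroup.centralizer ({x} : Set H)))) ↔
      ∃ (F : Type) (_ : Field F) (_ : Fintype F), Nonempty (G ≃* Matrix.ProjectiveSpecialLinearGroup (Fin 2) F) ∧
        (((Fintype.card F).Prime ∧ 5 < Fintype.card F ∧ ¬ 16 ∣ Fintype.card F ^ 2 - 1) ∨
         (∃ p : ℕ, p.Prime ∧ p ≠ 2 ∧ (Fintype.card F = 3 ^ p ∨ Fintype.card F = 5 ^ p))) := by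
  exact Cfsg.Lib.MinCA.final (fun h4 e y hy h2 => Cfsg.Lib.MinCA.cover_comm h4 e y hy h2)
    (fun h4 e hp hS => Cfsg.Lib.MinCA.cover_triv h4 e hp hS)
    (fun h4 N _ hZ e hC hCA h => Cfsg.Lib.MinCA.outer h4 N hZ e hC hCA h)

end Cfsg.Agent.S4369
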