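import Cfsg.Statements.S4370
import Cfsg.Agent.Lib.Layer.Misc
import Cfsg.Agent.Lib.Fus.SmallE
import Cfsg.Agent.Lib.PGrp.TwoMax
import Cfsg.Agent.Lib.Layer.FrobC

set_option autoImplicit false
open Cfsg

namespace Cfsg.Agent.S4370

open Subgroup Cfsg.Lib.Core Cfsg.Lib.Amalg Cfsg.Lib.BG1 Cfsg.Lib.Layer
open QuaternionGroup in
theorem qc {n : ℕ} (q : QuaternionGroup n) (h : q ∉ center _) : IsMulCommutative (centralizer ({q} : Set (QuaternionGroup n))) := by
  refine ⟨⟨fun ⟨u, hu⟩ ⟨v, hv⟩ => Subtype.ext ?_⟩⟩
  rw [mem_centralizer_singleton_iff] at hu hv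
  show u * v = v * u
  have h0 : ∀ i : ZMod (2 * n), q = a i → 2 * i ≠ 0 := fun i e h' => h (mem_center_iff.2 fun g => by
    rw [e]
    rcases g with j | j
    · simp [add_comm]
    · simp only [xa_mul_a, a_mul_xa, xa.injEq]; linear_combination h')
  rcases q with i | i <;> rcases u with j | j <;> rcases v with k | k <;>
    simp only [a_mul_a, xa_mul_a, a_mul_xa, xa_mul_xa, a.injEq, xa.injEq] at hu hv ⊢ <;>
    first
    | ring1
    | exact absurd (by linear_combination hu) (h0 i rfl)
    | exact absurd (by linear_combination hv) (h0 i rfl)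
    | linear_combination hu
    | linear_combination -hu
    | linear_combination hv
    | linear_combination -hv
    | linear_combination hu - hv


/-- Let G be a finite non-abelian nilpotent group. Then the centralizer of every non-central element of G is cyclic if and only if G is isomorphic to the direct product of a generalized quaternion group and a cyclic group of odd order. -/
theorem result {G : Type*} [Group G] [Finite G] (hG : Group.IsNilpotent G)
    (hna : ¬ IsMulCommutative G) :
    (∀ x : G, x ∉ Subgroup.center G → IsCyclic (Subgroup.centralizer ({x} : Set G))) ↔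
      ∃ (k m : ℕ), 1 ≤ k ∧ Odd m ∧ Nonempty (G ≃* QuaternionGroup (2 ^ k) × Multiplicative (ZMod m)) := by
  constructor
  · intro h
    obtain ⟨x, hx⟩ : ∃ x, x ∉ center G := by
      by_contra hn
      push Not at hn
      exact hna ⟨⟨fun a b => mem_center_iff.1 (hn b) a⟩⟩
    have h1 : ∀ A : Subgroup G, IsMulCommutative A → IsCyclic A := fun A hA => by
      by_cases e : A ≤ center G
      · exact Lib.PGrp.isCyclic_of_le' (h x hx) fun a ha => mem_centralizer_singleton_iff.2 (mem_center_iff.1 (e ha) x).symm
      obtain ⟨a, ha, e⟩ := SetLike.not_le_iff_exists.1 e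
      exact Lib.PGrp.isCyclic_of_le' (h a e) fun b hb =>
        mem_centralizer_singleton_iff.2 (congrArg Subtype.val (hA.is_comm.comm ⟨b, hb⟩ ⟨a, ha⟩))
    have h2 : ∀ (Q : Subgroup G) (A : Subgroup Q), IsMulCommutative A → IsCyclic A := fun Q A hA =>
      (A.equivMapOfInjective _ Q.subtype_injective).isCyclic.2 (h1 _ inferInstance)
    have h3 : ∀ (p : ℕ) [Fact p.Prime] (Q : Subgroup G), IsPGroup p Q → _ := fun p hp Q hQ =>
      Lib.PGrp.isCyclic_or_max2 hQ fun A _ hA e => by
        have := Lib.PGrp.card_le_of_isCyclic_of_pow (h2 Q A hA.1) hA.2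
        have := hp.out.one_lt
        nlinarith
    rcases h3 2 _ (isPGroup_pCore 2 G) with hc | ⟨-, a, b, m, hm, -⟩
    · have : IsZGroup G := ⟨fun p hp P => by
        have := Fact.mk hp
        refine (h3 p P P.isPGroup').elim id fun e => ?_
        obtain rfl := e.1
        exact Lib.PGrp.isCyclic_of_le' hc (le_pCore_of_nilpotent P.isPGroup')⟩
      exact absurd (IsCyclic.isMulCommutative) hna
    have hb : b ^ 2 ≠ 1 := fun e => by
      have hz := hm.orderOf_z
      have hc : IsMulCommutative ↥(zpowers (a ^ 2 ^ (m + 1)) ⊔ zpowers b) := le_centralizer_iff_isMulCommutative.1 (by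
        have h2 : zpowers b ≤ centralizer (zpowers (a ^ 2 ^ (m + 1)) : Set _) := le_centralizer_iff.1
          ((zpowers_le.2 hm.z_mem_center).trans (center_le_centralizer _))
        rw [Lib.Core.centralizer_sup]
        exact sup_le (le_inf (le_centralizer _) (le_centralizer_iff.1 h2)) (le_inf h2 (le_centralizer _)))
      exact hm.not_mem (zpowers_le.2 (pow_mem (mem_zpowers a) _) (Lib.PGrp.mem_zpowers_of_pow_eq_one (h2 _ _ hc)
        (mem_sup_right (mem_zpowers b)) (mem_sup_left (mem_zpowers _)) (by rw [hz, e])))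
    obtain ⟨h4, h5⟩ := (hm.rel.resolve_left fun e => hb e.1).resolve_right fun e => hb e.2.1
    obtain ⟨e1⟩ := hm.quaternion h4 h5
    have hc := pCore_le_centralizer_pPrimeCore (G := G) Nat.prime_two
    obtain ⟨e2⟩ := Lib.Fus.nonempty_equiv_prod (fun a ha b hb => (hc ha b hb).symm) (pCore_inf_pPrimeCore Nat.prime_two)
      (pCore_sup_pPrimeCore_of_nilpotent Nat.prime_two)
    have h6 : IsCyclic (pPrimeCore 2 G) := by
      refine Lib.PGrp.isCyclic_of_le' (h b fun e => hb ?_) fun u hu => mem_centralizer_singleton_iff.2 (hc b.2 u hu)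
      have h7 : b * a = a * b := Subtype.ext (mem_center_iff.1 e a).symm
      rw [h7, mul_inv_cancel_right, eq_inv_iff_mul_eq_one, ← pow_two, ← orderOf_dvd_iff_pow_eq_one, hm.ord] at h5
      have := Nat.le_of_dvd two_pos h5
      have := Nat.one_le_two_pow (n := m)
      rw [pow_add] at *
      omega
    exact ⟨m + 1, Nat.card (pPrimeCore 2 G), by omega, (coprime_card_pPrimeCore 2 G).odd_of_right,
      ⟨e2.trans (MulEquiv.prodCongr e1 (zmodCyclicMulEquiv h6).symm)⟩⟩
  · rintro ⟨k, m, hk, hm, ⟨e⟩⟩ x hx
    have : NeZero m := ⟨fun e => by simp [e] at hm⟩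
    set q := (e x).1
    have hq : q ∉ center _ := fun h => hx (mem_center_iff.2 fun g => e.injective (by
      rw [map_mul, map_mul]; exact Prod.ext (mem_center_iff.1 h _) (mul_comm _ _)))
    have h1 := (fc_quaternion (2 ^ k)).isCyclic_of_comm (qc q hq)
    have h2 : IsCyclic (centralizer ({q} : Set _) × Multiplicative (ZMod m)) := Group.isCyclic_prod_iff.2 ⟨h1, inferInstance, by
      refine Nat.Coprime.coprime_dvd_left (card_subgroup_dvd_card _) ?_
      rw [Nat.card_eq_fintype_card, QuaternionGroup.card, show 4 * 2 ^ k = 2 ^ (k + 2) by ring]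
      simpa using hm⟩
    refine isCyclic_of_injective (G := centralizer ({x} : Set G)) (G' := centralizer ({q} : Set _) × Multiplicative (ZMod m))
      { toFun := fun g => (⟨(e g).1, mem_centralizer_singleton_iff.2 (by
          rw [← Prod.fst_mul, ← Prod.fst_mul, ← map_mul, ← map_mul, mem_centralizer_singleton_iff.1 g.2])⟩, (e g).2)
        map_one' := by simp
        map_mul' := fun a b => by ext <;> simp } fun a b h => Subtype.ext (e.injective (Prod.ext
          (congrArg (fun u => u.1.1) h) (congrArg Prod.snd h :)))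

end Cfsg.Agent.S4370
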