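import Cfsg.Statements.S4371
import Cfsg.Agent.Lib.Exc.T3b

set_option autoImplicit false
open Cfsg

namespace Cfsg.Agent.S4371

open Cfsg.Lib Cfsg.Lib.Exc Subgroup

/-- Let G be a finite non-solvable group in which no prime divides three pairwise distinct element orders. Then one of the following holds, where 'a product of at most two primes' always counts primes with multiplicity: the quotient of G by its largest normal 2-subgroup is isomorphic to PSL(2, q) with q = 2ᶠ ≥ 4 and each of q + 1, q - 1 a product of at most two primes; G is isomorphic to PSL(2, q) with q > 5, q ≡ 3 or 5 (mod 8) and each of (q + 1)/2, (q - 1)/2 a product of at most two primes; G is isomorphic to PSL(2, 7), PSL(2, 9) or PSL(3, 4); or G is simple of order q²(q² + 1)(q - 1), the order of the Suzuki group Sz(q), where q = 2²ⁿ⁺¹ ≥ 8, and each of q - 1, q - r + 1, q + r + 1 (r = 2ⁿ⁺¹) is a product of at most two primes. -/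
theorem result {G : Type*} [Group G] [Finite G]
    (hG : ¬ Group.IsSolvable G) (h3 : (∀ p : ℕ, p.Prime → ∀ a b c : G, orderOf a ≠ orderOf b → orderOf b ≠ orderOf c → orderOf a ≠ orderOf c → ¬ (p ∣ orderOf a ∧ p ∣ orderOf b ∧ p ∣ orderOf c))) :
    (∃ (F : Type) (_ : Field F) (_ : Fintype F), CharP F 2 ∧ 4 ≤ Fintype.card F ∧
        (Fintype.card F + 1).primeFactorsList.length ≤ 2 ∧ (Fintype.card F - 1).primeFactorsList.length ≤ 2 ∧
        Nonempty (G ⧸ Cfsg.pCore 2 G ≃* Matrix.ProjectiveSpecialLinearGroup (Fin 2) F)) ∨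
    (∃ (F : Type) (_ : Field F) (_ : Fintype F), 5 < Fintype.card F ∧ (Fintype.card F % 8 = 3 ∨ Fintype.card F % 8 = 5) ∧
        ((Fintype.card F + 1) / 2).primeFactorsList.length ≤ 2 ∧ ((Fintype.card F - 1) / 2).primeFactorsList.length ≤ 2 ∧
        Nonempty (G ≃* Matrix.ProjectiveSpecialLinearGroup (Fin 2) F)) ∨
    (∃ (F : Type) (_ : Field F) (_ : Fintype F), (Fintype.card F = 7 ∨ Fintype.card F = 9) ∧
        Nonempty (G ≃* Matrix.ProjectiveSpecialLinearGroup (Fin 2) F)) ∨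
    (∃ (F : Type) (_ : Field F) (_ : Fintype F), Fintype.card F = 4 ∧ Nonempty (G ≃* Matrix.ProjectiveSpecialLinearGroup (Fin 3) F)) ∨
    (∃ n : ℕ, 1 ≤ n ∧ IsSimpleGroup G ∧ Nat.card G = (2 ^ (2 * n + 1)) ^ 2 * ((2 ^ (2 * n + 1)) ^ 2 + 1) * (2 ^ (2 * n + 1) - 1) ∧
        (2 ^ (2 * n + 1) - 1).primeFactorsList.length ≤ 2 ∧ (2 ^ (2 * n + 1) - 2 ^ (n + 1) + 1).primeFactorsList.length ≤ 2 ∧
        (2 ^ (2 * n + 1) + 2 ^ (n + 1) + 1).primeFactorsList.length ≤ 2) := by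
  have h : T3 G := by
    rintro p _ _ _ hp ⟨a, rfl⟩ ⟨b, rfl⟩ ⟨c, rfl⟩ ha hb hc
    by_contra! e
    exact h3 p hp a b c e.1 e.2.1 e.2.2 ⟨ha, hb, hc⟩
  have om : ∀ {X : Type} [Group X] {N : Subgroup G} [N.Normal] (e : G ⧸ N ≃* X) (x : X),
      (orderOf x).primeFactorsList.length ≤ 2 := fun e x => h.omega (Sp.of_surj ⟨x, rfl⟩
        (e.toMonoidHom.comp (QuotientGroup.mk' _)) (e.surjective.comp (QuotientGroup.mk'_surjective _)))
  by_cases hc : CIT G
  · have hN := Core.isPGroup_pCore 2 G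
    rcases hc.list_quot hG with (⟨F, _, _, n, h1, h2, ⟨e⟩⟩ | ⟨F, _, _, m, hF, ⟨e⟩⟩ | ⟨F, _, _, k, h1, h2, ⟨e⟩⟩ |
      ⟨F, _, _, h1, ⟨e⟩⟩) | h1
    · obtain ⟨⟨x, hx⟩, y, hy⟩ := psl2_orders F
      rw [Nat.card_eq_fintype_card, gcd_even h2 (by omega), one_mul] at hx hy
      exact Or.inl ⟨F, _, _, Linear.charP_two_of_card (Nat.card_eq_fintype_card.trans h2),
        h2 ▸ Nat.pow_le_pow_right two_pos h1, hy ▸ om e y, by rw [← hx]; exact om e x, ⟨e⟩⟩
    · obtain ⟨e'⟩ := equiv_of_eq_bot (hc.eq_bot_sz h.not_eight hN e) e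
      obtain ⟨T₁, T₂, h1, h2, h3, h4, -⟩ := BN.Sz.exists_tori F m
      have key : ∀ T : Subgroup (Cfsg.Sz F m), IsCyclic T → (Nat.card T).primeFactorsList.length ≤ 2 := fun T hT => by
        obtain ⟨x, hx⟩ := hT.exists_ofOrder_eq_natCard
        rw [← hx, ← orderOf_coe]
        exact om e _
      have := BN.Sz.isSimpleGroup (F := F) m
      exact Or.inr (Or.inr (Or.inr (Or.inr ⟨m, hF.one_le, e'.isSimpleGroup, by rw [Nat.card_congr e'.toEquiv, BN.Sz.card_Sz],
        BN.Sz.card_H (F := F) m ▸ key _ (BN.Sz.isCyclic_H m), h4 ▸ key _ h2.isCyclic, h3 ▸ key _ h1.isCyclic⟩)))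
    · obtain ⟨⟨x, hx⟩, y, hy⟩ := psl2_orders F
      rw [Nat.card_eq_fintype_card, gcd_odd h2 (by omega)] at hx hy
      obtain ⟨k, rfl⟩ := Nat.exists_eq_add_of_le' h1
      have key : ∀ z : Matrix.ProjectiveSpecialLinearGroup (Fin 2) F, 2 * orderOf z = 2 ^ (k + 3) → k = 0 := fun z hz => by
        have := om e z
        rw [pow_succ' 2 (k + 2), Nat.mul_right_inj two_ne_zero] at hz
        rw [hz, Nat.prime_two.primeFactorsList_pow, List.length_replicate] at this
        omega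
      refine Or.inr (Or.inr (Or.inl ⟨F, ‹_›, ‹_›, ?_⟩))
      rcases h2 with h2 | h2
      · obtain rfl := key x (by omega)
        exact ⟨Or.inr h2, equiv_of_eq_bot (hc.eq_bot_nine hN h2 e) e⟩
      · obtain rfl := key y (by omega)
        exact ⟨Or.inl (by omega), equiv_of_eq_bot (hc.eq_bot_seven hN (by omega) e) e⟩
    · exact Or.inr (Or.inr (Or.inr (Or.inl ⟨F, _, _, h1,
        equiv_of_eq_bot (hc.eq_bot_psl3 hN (Nat.card_eq_fintype_card.trans h1) e) e⟩)))
    · exact absurd h1 ((hc.quotient _ hN).not_nine2 (h.of_surj _ (QuotientGroup.mk'_surjective _)).not_eight)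
  obtain ⟨x, p, hp, h2, hx⟩ : ∃ (x : G) (s : ℕ), s.Prime ∧ s ≠ 2 ∧ orderOf x = 2 * s := by
    by_contra! e
    exact hc (cit_of_no_two_mul e)
  have n : NC G p := ⟨hp, h2, h, x, hx⟩
  obtain ⟨S⟩ : Nonempty (Sylow 2 G) := inferInstance
  obtain ⟨F, _, _, hF, N, _, ⟨e⟩, hC⟩ := (S3188.result S (n.comm S.isPGroup') fun t ht => n.solv (Or.inl ht)).resolve_left hG
  have h4 : 4 ≤ Nat.card F := by
    rw [Nat.card_eq_fintype_card]
    rcases hF with hF | ⟨n, h1, h2⟩
    exacts [by omega, h2 ▸ Nat.pow_le_pow_right two_pos h1]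
  have := Linear.isSimpleGroup_PSL2 h4
  have := e.isSimpleGroup
  have hO := n.core hG (N := N) (fun _ => Linear.not_isSolvable_PSL2 h4
    (Group.isSolvable_of_surjective (f := e.toMonoidHom) e.surjective)) hC
  obtain ⟨f⟩ := equiv_of_eq_bot hO (MulEquiv.refl _)
  have n' : NC (G ⧸ oddCore G) p := ⟨hp, h2, h.of_surj _ (QuotientGroup.mk'_surjective _), n.sp.of_inj f.toMonoidHom f.injective⟩
  obtain rfl := n'.eq_top Core.pPrimeCore_quotient_pPrimeCore hC hF e
  have e' := topEquiv.symm.trans e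
  obtain ⟨z, hz⟩ := n'.sp.of_inj e'.toMonoidHom e'.injective
  have := n.three
  obtain ⟨⟨x, hx⟩, y, hy⟩ := psl2_orders F
  rw [Nat.card_eq_fintype_card] at hx hy
  rcases hF with ⟨h5, h6⟩ | ⟨m, h5, h6⟩
  · rw [Nat.gcd_eq_left (by omega)] at hx hy
    refine Or.inr (Or.inl ⟨F, _, _, lt_of_le_of_ne h6 fun h7 => ?_, h5, ?_, ?_, ⟨f.trans e'⟩⟩)
    · have : Fact (Nat.Prime 5) := ⟨Nat.prime_five⟩
      have : CharP F 5 := charP_of_card_eq_prime h7.symm
      have h8 := (Known.PSL2_spectrum 5 _).1 ⟨z, hz⟩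
      rw [Nat.card_eq_fintype_card, ← h7] at h8
      rcases h8 with h | h | h <;> exact absurd (Nat.le_of_dvd (by norm_num) h) (by norm_num; omega)
    · rw [← hy, Nat.mul_div_cancel_left _ two_pos]; exact om e' y
    · rw [← hx, Nat.add_sub_cancel, Nat.mul_div_cancel_left _ two_pos]; exact om e' x
  · obtain ⟨m, rfl⟩ := Nat.exists_eq_add_of_le' h5
    have : 0 < 2 ^ m := by positivity
    rcases (psl2_even_spec h6 _).1 ⟨z, hz⟩ with h | h | h
    · exact absurd (Nat.le_of_dvd two_pos h) (by omega)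
    all_goals
      have := (dvd_mul_right 2 p).trans h
      rw [pow_add] at this
      omega

end Cfsg.Agent.S4371
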