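import Cfsg.Statements.S4373
import Cfsg.Agent.Lib.Hall.B3m

set_option autoImplicit false
open Pointwise
open Cfsg

namespace Cfsg.Agent.S4373

open scoped Pointwise commutatorElement
open Cfsg.Lib Cfsg.Lib.Hall

open Subgroup Cfsg.Lib.Core

/-- Let π be a set of primes and G a finite π-solvable group: G has a chain of normal subgroups from 1 to G in which each successive index is a power of a prime in π or is divisible by no prime in π. Let H be a Hall π-subgroup of G. Then there are x, y ∈ G with H ∩ xHx⁻¹ ∩ yHy⁻¹ = O_π(G), the largest normal π-subgroup. -/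
theorem result {G : Type*} [Group G] [Finite G] (π : Set ℕ)
    (hsolv : (∃ (n : ℕ) (N : Fin (n + 1) → Subgroup G), N 0 = ⊥ ∧ N (Fin.last n) = ⊤ ∧ Monotone N ∧ (∀ i, (N i).Normal) ∧
      ∀ i : Fin n, (∃ p ∈ π, p.Prime ∧ ∃ k : ℕ, (N i.castSucc).relIndex (N i.succ) = p ^ k) ∨
        (∀ q : ℕ, q.Prime → q ∣ (N i.castSucc).relIndex (N i.succ) → q ∉ π))) (H : Subgroup G) (hH : Cfsg.IsPiHall π H) :
    ∃ x y : G, H ⊓ MulAut.conj x • H ⊓ MulAut.conj y • H = Cfsg.piCore π G := by
  obtain ⟨n, N, h0, h1, h2, h3, h4⟩ := hsolv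
  have sep : IsPiSeparable πᶜ G := ⟨n, N, h0, h1, h2, h3, fun i => (h4 i).elim (fun ⟨p, hp, hp', k, e⟩ => Or.inr fun q hq d =>
    by rw [e] at d; simpa [(Nat.prime_dvd_prime_iff_eq hq hp').1 (hq.dvd_of_dvd_pow d)] using hp) Or.inl⟩
  have sol : ∀ i, Group.IsSolvable ((N i).subgroupOf H) := fun i => by
    induction i using Fin.induction with
    | zero => rw [h0, bot_subgroupOf]; infer_instance
    | succ i ih =>
      haveI := h3 i.castSucc
      have le : (N i.castSucc).subgroupOf H ≤ (N i.succ).subgroupOf H := comap_mono (h2 i.castSucc_le_succ)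
      have d : Nat.card ((N i.succ).subgroupOf H ⧸ ((N i.castSucc).subgroupOf H).subgroupOf _) ∣ _ :=
        relIndex_comap_dvd H.subtype (N i.castSucc) (N i.succ)
      haveI := Group.isSolvable_of_surjective (subgroupOfEquivOfLe le).symm.toMonoidHom.rangeRestrict_surjective
      haveI : Group.IsSolvable (((N i.castSucc).subgroupOf H).subgroupOf ((N i.succ).subgroupOf H)) :=
        Group.isSolvable_of_surjective (f := (subgroupOfEquivOfLe le).symm.toMonoidHom) (subgroupOfEquivOfLe le).symm.surjective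
      refine isSolvable_of_normal_of_quotient (((N i.castSucc).subgroupOf H).subgroupOf _) (h2 := ?_)
      rcases h4 i with ⟨p, -, hp, k, e⟩ | t
      · haveI := Fact.mk hp
        exact Core.isSolvable_of_isPGroup hp (IsPGroup.of_card_dvd_pow (e ▸ d))
      · haveI := (Nat.card_eq_one_iff_unique.1 (Nat.eq_one_iff_not_exists_prime_dvd.2 fun q hq d' => t q hq (d'.trans d)
          (hH.1 q hq ((d'.trans (card_quotient_dvd_card _)).trans (card_subgroup_dvd_card _))))).1
        infer_instance
  haveI : Group.IsSolvable H := by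
    have := sol (Fin.last n)
    rw [h1, top_subgroupOf] at this
    exact Group.isSolvable_of_surjective (f := (⊤ : Subgroup H).subtype) fun x => ⟨⟨x, trivial⟩, rfl⟩
  set f := QuotientGroup.mk' (piCore π G)
  set M := piCore πᶜ (G ⧸ piCore π G)
  have c := IsPiNumber.coprime_compl hH.1 (isPi_piCore πᶜ (G ⧸ piCore π G))
  have tr : ∀ a ∈ H, f a ∈ M → a ∈ piCore π G := fun a ha h => (QuotientGroup.eq_one_iff a).1 (orderOf_eq_one_iff.1
    (Nat.eq_one_of_dvd_coprimes c ((orderOf_map_dvd f a).trans (H.orderOf_dvd_natCard ha)) (M.orderOf_dvd_natCard h)))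
  obtain ⟨x, y, h⟩ := B3.act2' (K := M) ((MulAut.conjNormal.comp f).comp H.subtype) c
  obtain ⟨x', hx⟩ := QuotientGroup.mk'_surjective _ x.1
  obtain ⟨y', hy⟩ := QuotientGroup.mk'_surjective _ y.1
  have k : ∀ (x : M) (x' : G), f x' = x → ∀ g ∈ H, g ∈ MulAut.conj x' • H → f g * x * (f g)⁻¹ = x := fun x x' e g hg t => by
    have t1 : x'⁻¹ * g * x' ∈ H := by simpa using mem_pointwise_smul_iff_inv_smul_mem.1 t
    have := (QuotientGroup.eq_one_iff _).2 (tr _ (H.mul_mem t1 (H.inv_mem hg)) (by
      simp only [map_mul, map_inv, e, mul_assoc]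
      exact M.mul_mem (M.inv_mem x.2) (by simpa [mul_assoc] using Normal.conj_mem inferInstance _ x.2 (f g))))
    rw [← QuotientGroup.mk'_apply] at this
    simp only [map_mul, map_inv, mul_assoc, inv_mul_eq_one] at this
    rw [← e, mul_assoc]; exact this.symm
  refine ⟨x', y', le_antisymm (fun g hg => tr g hg.1.1 (centralizer_piCore_le (piSep_quotient sep _)
    (by rw [compl_compl, piCore_quotient_piCore]) fun m hm => ?_)) (le_inf (le_inf ?_ ?_) ?_)⟩
  · have := h ⟨g, hg.1.1⟩ (Subtype.ext (k x x' hx g hg.1.1 hg.1.2)) (Subtype.ext (k y y' hy g hg.1.1 hg.2))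
    exact (mul_inv_eq_iff_eq_mul.1 (congrArg Subtype.val (DFunLike.congr_fun this ⟨m, hm⟩))).symm
  · exact piCore_le_of_isPiHall hH
  all_goals exact fun g hg => mem_pointwise_smul_iff_inv_smul_mem.2 (piCore_le_of_isPiHall hH (by
    simpa using Normal.conj_mem' inferInstance g hg _))

end Cfsg.Agent.S4373
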