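import Cfsg.Statements.S4374
import Cfsg.Agent.Lib.Hall.B3j

set_option autoImplicit false
open Cfsg

namespace Cfsg.Agent.S4374

open scoped Pointwise commutatorElement
open Cfsg.Lib Cfsg.Lib.Hall

open Cfsg.Lib.Block.B2 Cfsg.Lib.Hall.B3

/-- Let the finite solvable group A act faithfully on the finite additive group V by group automorphisms, completely reducibly (every A-invariant subgroup has an A-invariant complement). Then there are v₁, v₂, v₃ ∈ V such that only the identity of A fixes all three. -/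
theorem result {A V : Type*} [Group A] [Finite A]
    [AddCommGroup V] [Finite V] [DistribMulAction A V] [FaithfulSMul A V] (hA : Group.IsSolvable A)
    (hcr : (∀ U : AddSubgroup V, (∀ a : A, ∀ v ∈ U, a • v ∈ U) → ∃ W : AddSubgroup V, (∀ a : A, ∀ w ∈ W, a • w ∈ W) ∧ U ⊓ W = ⊥ ∧ U ⊔ W = ⊤)) :
    ∃ v₁ v₂ v₃ : V, ∀ a : A, a • v₁ = v₁ → a • v₂ = v₂ → a • v₃ = v₃ → a = 1 := by
  set φ := DistribMulAction.toModuleAut ℤ V (S := A)
  haveI : Finite φ.range := Finite.of_surjective _ φ.rangeRestrict_surjective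
  haveI : Group.IsSolvable φ.range := Group.isSolvable_of_surjective φ.rangeRestrict_surjective
  obtain ⟨v, h⟩ := base3 (Nat.card V + 1) φ.range V (Nat.lt_succ_self _) fun U hU => by
      obtain ⟨W, h1, h2⟩ := hcr U fun a => hU (φ.rangeRestrict a)
      refine ⟨W, fun a => ?_, h2⟩
      obtain ⟨a, rfl⟩ := φ.rangeRestrict_surjective a
      exact h1 a
  exact ⟨v 0, v 1, v 2, fun a h1 h2 h3 => eq_of_smul_eq_smul (α := V) fun x => (h (φ.rangeRestrict a)
    (fun i => by fin_cases i; exacts [h1, h2, h3]) x).trans (one_smul _ _).symm⟩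

end Cfsg.Agent.S4374
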