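import Cfsg.Statements.S4378
import Cfsg.Agent.Lib.PGrp.MaxPL

set_option autoImplicit false
open Cfsg

namespace Cfsg.Agent.S4378

open Subgroup Cfsg.Lib.Core Cfsg.Lib.PGrp
set_option linter.style.haveILetI false

/-- Let G be a finite solvable group in which every maximal subgroup either has a normal 2-complement or has prime index. Then G has a chain of normal subgroups 1 ≤ A ≤ B ≤ C ≤ G in which A and C/B have odd order and B/A and G/C are 2-groups (so the 2-length of G is at most 2). -/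
theorem result {G : Type*} [Group G] [Finite G]
    (hG : Group.IsSolvable G)
    (hmax : ∀ M : Subgroup G, IsCoatom M → (∃ K : Subgroup ↥M, K.Normal ∧ ¬ 2 ∣ Nat.card K ∧ ∃ k : ℕ, K.index = 2 ^ k) ∨ (M.index).Prime) :
    ∃ A B C : Subgroup G, A.Normal ∧ B.Normal ∧ C.Normal ∧ A ≤ B ∧ B ≤ C ∧ Odd (Nat.card A) ∧
      (∃ k : ℕ, A.relIndex B = 2 ^ k) ∧ Odd (B.relIndex C) ∧ ∃ k : ℕ, C.index = 2 ^ k := by
  haveI : Fact (Nat.Prime 2) := ⟨Nat.prime_two⟩
  have h := upper_four_top (p := 2) _ G rfl (isPSolvable_of_isSolvable Nat.prime_two) fun M hM =>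
    (hmax M hM).imp_left fun ⟨K, _, h1, _, h2⟩ => upper_two_of_compl K h1 h2
  have h0 := (pStep_even (by decide)).1 (pStep_upperPSeries (p := 2) (G := G) 0)
  obtain ⟨a, h1⟩ := (pStep_odd (by decide)).1 (pStep_upperPSeries (p := 2) (G := G) 1)
  have h2 := (pStep_even (by decide)).1 (pStep_upperPSeries (p := 2) (G := G) 2)
  obtain ⟨b, h3⟩ := (pStep_odd (by decide)).1 (pStep_upperPSeries (p := 2) (G := G) 3)
  rw [upperPSeries_zero, relIndex_bot_left] at h0
  rw [h, relIndex_top_right] at h3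
  obtain ⟨a, -, h1⟩ := (Nat.dvd_prime_pow Nat.prime_two).1 h1
  obtain ⟨b, -, h3⟩ := (Nat.dvd_prime_pow Nat.prime_two).1 h3
  exact ⟨_, _, _, inferInstance, inferInstance, inferInstance, upperPSeries_le_succ 1,
    upperPSeries_le_succ 2, Nat.coprime_two_right.1 h0, ⟨a, h1⟩, Nat.coprime_two_right.1 h2, b, h3⟩

end Cfsg.Agent.S4378
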