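import Cfsg.Statements.S4379
import Cfsg.Agent.Lib.PGrp.MaxPL

set_option autoImplicit false
open Cfsg

namespace Cfsg.Agent.S4379

open Subgroup Cfsg.Lib.Core Cfsg.Lib.PGrp
set_option linter.style.haveILetI false

/-- Let p be an odd prime and G a finite p-solvable group in which every maximal subgroup either has a normal p-complement or has prime index. Then G has a chain of normal subgroups 1 ≤ A ≤ B ≤ C ≤ D ≤ G in which A, C/B and G/D have order prime to p and B/A and D/C are p-groups (so the p-length of G is at most 2). -/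
theorem result {G : Type*} [Group G] [Finite G]
    (p : ℕ) [Fact p.Prime] (hp : p ≠ 2) (hG : Cfsg.IsPSolvable p G)
    (hmax : ∀ M : Subgroup G, IsCoatom M → (∃ K : Subgroup ↥M, K.Normal ∧ ¬ p ∣ Nat.card K ∧ ∃ k : ℕ, K.index = p ^ k) ∨ (M.index).Prime) :
    ∃ A B C D : Subgroup G, A.Normal ∧ B.Normal ∧ C.Normal ∧ D.Normal ∧ A ≤ B ∧ B ≤ C ∧ C ≤ D ∧ ¬ p ∣ Nat.card A ∧
      (∃ k : ℕ, A.relIndex B = p ^ k) ∧ ¬ p ∣ B.relIndex C ∧ (∃ k : ℕ, C.relIndex D = p ^ k) ∧ ¬ p ∣ D.index := by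
  have hq : p.Prime := Fact.out
  have h := upper_four_top (p := p) _ G rfl hG fun M hM =>
    (hmax M hM).imp_left fun ⟨K, _, h1, _, h2⟩ => upper_two_of_compl K h1 h2
  have h0 := (pStep_even (by decide)).1 (pStep_upperPSeries (p := p) (G := G) 0)
  obtain ⟨a, h1⟩ := (pStep_odd (by decide)).1 (pStep_upperPSeries (p := p) (G := G) 1)
  have h2 := (pStep_even (by decide)).1 (pStep_upperPSeries (p := p) (G := G) 2)
  obtain ⟨b, h3⟩ := (pStep_odd (by decide)).1 (pStep_upperPSeries (p := p) (G := G) 3)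
  rw [upperPSeries_zero, relIndex_bot_left] at h0
  obtain ⟨a, -, h1⟩ := (Nat.dvd_prime_pow hq).1 h1
  obtain ⟨b, -, h3⟩ := (Nat.dvd_prime_pow hq).1 h3
  refine ⟨_, _, _, _, inferInstance, inferInstance, inferInstance, inferInstance, upperPSeries_le_succ 1,
    upperPSeries_le_succ 2, upperPSeries_le_succ 3, hq.coprime_iff_not_dvd.1 h0.symm, ⟨a, h1⟩,
    hq.coprime_iff_not_dvd.1 h2.symm, ⟨b, h3⟩, ?_⟩
  rw [h, index_top]
  exact hq.not_dvd_one

end Cfsg.Agent.S4379
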