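import Cfsg.Statements.S4381
import Cfsg.Agent.Lib.Hall.MinNormal
import Cfsg.Agent.Lib.BG1.Sec4b
import Cfsg.Agent.Lib.Coprime.ActionForm

set_option autoImplicit false
open Pointwise
open Cfsg

namespace Cfsg.Agent.S4381

open scoped Pointwise commutatorElement
open Cfsg.Lib Cfsg.Lib.Hall

open Cfsg.Lib.Core Cfsg.Lib.Coprime Subgroup

variable {A G : Type*} [Group A] [Finite A] [Group G] [Finite G] [MulDistribMulAction A G]

theorem act_maschke {p : ℕ} (hp : p.Prime) (hG : IsPGroup p G) (hA : ¬ p ∣ Nat.card A)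
    (L : Subgroup G) (hL : ∀ a : A, ∀ x ∈ L, a • x ∈ L) :
    ∃ W : Subgroup G, (∀ a : A, ∀ x ∈ W, a • x ∈ W) ∧ L ⊔ W = ⊤ ∧ L ⊓ W ≤ frattini G := by
  have := Fact.mk hp
  obtain ⟨Γ, _, _, i, j, h, -⟩ := exists_ambient (MulDistribMulAction.toMulAut A G)
  obtain ⟨W, -, h2, h3, h4⟩ := BG1.maschke_quo (A := (⊤ : Subgroup A).map j)
    (N := (frattini G).map i) (V := (⊤ : Subgroup G).map i) (U := L.map i) hp
    (by rwa [h.card_map_j, card_top])
    (h.le_normalizer_iff.mpr fun b _ x hx => by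
      have := (characteristic_iff_map_le.mp (inferInstance : (frattini G).Characteristic))
        (MulDistribMulAction.toMulAut A G b)
      exact this (mem_map_of_mem _ hx))
    (h.le_normalizer_map_iff.mpr le_normalizer_of_normal) (map_mono le_top)
    (by rw [← map_commutator]; exact map_mono (commutator_le_frattini_of_isPGroup hG))
    (by rintro _ ⟨x, -, rfl⟩; rw [← map_pow]; exact mem_map_of_mem _ (pow_mem_frattini_of_isPGroup hG x))
    (map_mono le_top) (h.le_normalizer_top _) (h.le_normalizer_iff.mpr fun b _ x hx => hL b x hx)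
  obtain ⟨Y, -, rfl⟩ := h.exists_eq_map (le_sup_right.trans h2.le)
  refine ⟨Y, fun a x hx => h.le_normalizer_iff.mp h4 a (mem_top a) x hx, ?_, ?_⟩
  · rwa [← Subgroup.map_sup, h.map_inj] at h2
  · rwa [← Subgroup.map_inf _ _ _ h.inj_i, h.map_le_map] at h3

omit [Finite A] in
theorem exists_max (U : Subgroup G) (hU : U ≠ ⊤) (h : ∀ a : A, ∀ x ∈ U, a • x ∈ U) :
    ∃ M : Subgroup G, U ≤ M ∧ (M ≠ ⊤ ∧ (∀ a : A, ∀ x ∈ M, a • x ∈ M) ∧
      ∀ L : Subgroup G, M < L → (∀ a : A, ∀ x ∈ L, a • x ∈ L) → L = ⊤) := by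
  obtain ⟨M, hUM, hM⟩ := Finite.exists_le_maximal
    (p := fun M : Subgroup G => M ≠ ⊤ ∧ ∀ a : A, ∀ x ∈ M, a • x ∈ M) ⟨hU, h⟩
  refine ⟨M, hUM, hM.1.1, hM.1.2, fun L hL hL' => ?_⟩
  by_contra hne
  exact hL.not_ge (hM.le_of_ge ⟨hne, hL'⟩ hL.le)

omit [Finite A] [Finite G] in
theorem inv_frattini (a : A) : ∀ x ∈ frattini G, a • x ∈ frattini G := fun x hx =>
  (characteristic_iff_map_le.mp (inferInstance : (frattini G).Characteristic))
    (MulDistribMulAction.toMulAut A G a) (mem_map_of_mem _ hx)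

omit [Finite A] in
theorem frattini_le {M : Subgroup G} (hM : M ≠ ⊤ ∧ (∀ a : A, ∀ x ∈ M, a • x ∈ M) ∧
      ∀ L : Subgroup G, M < L → (∀ a : A, ∀ x ∈ L, a • x ∈ L) → L = ⊤) : frattini G ≤ M := by
  by_contra hn
  refine hM.1 (frattini_nongenerating (hM.2.2 (M ⊔ frattini G) (left_lt_sup.mpr hn) fun a x hx => ?_))
  rw [← SetLike.mem_coe, mul_normal] at hx
  obtain ⟨m, hm, f, hf, rfl⟩ := hx
  rw [smul_mul']
  exact mul_mem_sup (hM.2.1 a m hm) (inv_frattini a f hf)

/-- Let the finite group A act by automorphisms on the finite group G with the orders of A and G coprime, and assume that A or G is solvable. Call a proper A-invariant subgroup of G maximal A-invariant when no A-invariant subgroup lies strictly between it and G. Then all maximal A-invariant subgroups of G are conjugate under elements of the fixed-point subgroup C_G(A) if and only if G is a p-group for some prime p and A leaves invariant no subgroup strictly between the Frattini subgroup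 of G and G. In that case, if G is nontrivial, the Frattini subgroup is the only maximal A-invariant subgroup (a trivial G has none). -/
theorem result {A G : Type*} [Group A] [Finite A]
    [Group G] [Finite G] [MulDistribMulAction A G] (hcop : (Nat.card A).Coprime (Nat.card G)) (hsol : Group.IsSolvable A ∨ Group.IsSolvable G) :
    ((∀ M N : Subgroup G, (M ≠ ⊤ ∧ (∀ a : A, ∀ x ∈ M, a • x ∈ M) ∧ ∀ L : Subgroup G, M < L → (∀ a : A, ∀ x ∈ L, a • x ∈ L) → L = ⊤) → (N ≠ ⊤ ∧ (∀ a : A, ∀ x ∈ N, a • x ∈ N) ∧ ∀ L : Subgroup G, N < L → (∀ a : A, ∀ x ∈ L, a • x ∈ L) → L = ⊤) →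
        ∃ c : G, (∀ a : A, a • c = c) ∧ N = MulAut.conj c • M) ↔
      ((∃ p : ℕ, p.Prime ∧ IsPGroup p G) ∧ ∀ L : Subgroup G, frattini G < L → (∀ a : A, ∀ x ∈ L, a • x ∈ L) → L = ⊤)) ∧
    (((∃ p : ℕ, p.Prime ∧ IsPGroup p G) ∧ ∀ L : Subgroup G, frattini G < L → (∀ a : A, ∀ x ∈ L, a • x ∈ L) → L = ⊤) →
      ∀ M : Subgroup G, (M ≠ ⊤ ∧ (∀ a : A, ∀ x ∈ M, a • x ∈ M) ∧ ∀ L : Subgroup G, M < L → (∀ a : A, ∀ x ∈ L, a • x ∈ L) → L = ⊤) ↔ (M = frattini G ∧ M ≠ ⊤)) := by
  have part2 : ((∃ p : ℕ, p.Prime ∧ IsPGroup p G) ∧ ∀ L : Subgroup G, frattini G < L → (∀ a : A, ∀ x ∈ L, a • x ∈ L) → L = ⊤) →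
      ∀ M : Subgroup G, (M ≠ ⊤ ∧ (∀ a : A, ∀ x ∈ M, a • x ∈ M) ∧ ∀ L : Subgroup G, M < L → (∀ a : A, ∀ x ∈ L, a • x ∈ L) → L = ⊤) ↔ (M = frattini G ∧ M ≠ ⊤) := by
    rintro ⟨-, h⟩ M
    constructor
    · intro hM
      refine ⟨?_, hM.1⟩
      by_contra hne
      exact hM.1 (h M (lt_of_le_of_ne (frattini_le hM) (Ne.symm hne)) hM.2.1)
    · rintro ⟨rfl, hM⟩
      exact ⟨hM, inv_frattini, h⟩
  refine ⟨⟨fun h => ?_, fun h M N hM hN => ⟨1, fun a => smul_one a, ?_⟩⟩, part2⟩
  · have hp : ∃ p : ℕ, p.Prime ∧ IsPGroup p G := by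
      by_contra hn
      push Not at hn
      have hnt : (⊥ : Subgroup G) ≠ ⊤ := fun e => hn 2 Nat.prime_two (by
        have := Subgroup.subsingleton_iff.mp (subsingleton_of_bot_eq_top e)
        exact IsPGroup.of_card (n := 0) (by simp))
      obtain ⟨M, -, hM⟩ := exists_max (A := A) ⊥ hnt (fun a x hx => by
        rw [mem_bot] at hx ⊢; rw [hx, smul_one])
      obtain ⟨p, hp, hpM⟩ := Nat.exists_prime_and_dvd (n := M.index) (by simpa using hM.1)
      have := Fact.mk hp
      obtain ⟨P, hP⟩ := act_exists_invariant_sylow (φ := MulDistribMulAction.toMulAut A G) (B := ⊤)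
        (by rwa [card_top]) (hsol.imp_left fun h => by have := h; infer_instance) p
      have hPt : (P : Subgroup G) ≠ ⊤ := fun e => hn p hp (by
        have := P.isPGroup'
        rw [e] at this
        exact this.of_equiv topEquiv)
      obtain ⟨N, hPN, hN⟩ := exists_max (A := A) P hPt (fun a x hx => hP a (mem_top a) x hx)
      obtain ⟨c, -, hc⟩ := h M N hM hN
      refine P.not_dvd_index (hpM.trans ?_)
      rw [← index_conj_smul M c, ← hc]
      exact index_dvd_of_le hPN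
    refine ⟨hp, fun L hL hLA => ?_⟩
    obtain ⟨p, hp, hG⟩ := hp
    have := Fact.mk hp
    by_contra hLt
    have hpA : ¬ p ∣ Nat.card A := by
      intro hd
      have : Nontrivial G := by
        by_contra hs
        rw [not_nontrivial_iff_subsingleton] at hs
        exact hLt (Subsingleton.elim _ _)
      obtain ⟨n, hn0, hn⟩ := hG.nontrivial_iff_card.mp this
      have := Nat.eq_one_of_dvd_coprimes hcop hd (hn ▸ dvd_pow_self p hn0.ne')
      exact hp.one_lt.ne' this
    obtain ⟨W, hWA, hW1, hW2⟩ := act_maschke hp hG hpA L hLA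
    have hWt : W ≠ ⊤ := fun e => hL.not_ge (by rwa [e, inf_top_eq] at hW2)
    obtain ⟨M, hLM, hM⟩ := exists_max L hLt hLA
    obtain ⟨N, hWN, hN⟩ := exists_max W hWt hWA
    obtain ⟨c, -, hc⟩ := h M N hM hN
    have hMn : M.Normal :=
      Subgroup.Normal.of_commutator_le _ ((commutator_le_frattini_of_isPGroup hG).trans (frattini_le hM))
    rw [conj_smul_eq_self_iff.mpr (by rw [normalizer_eq_top]; trivial)] at hc
    exact hM.1 (top_le_iff.mp (hW1 ▸ sup_le hLM (hc ▸ hWN)))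
  · rw [((part2 h M).mp hM).1, ((part2 h N).mp hN).1, map_one, one_smul]

end Cfsg.Agent.S4381
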