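import Cfsg.Statements.S4383
import Cfsg.Agent.Lib.Hall.MaxA
import Cfsg.Agent.Lib.PGrp.Cyclic

set_option autoImplicit false
open Pointwise
open Cfsg

namespace Cfsg.Agent.S4383

open scoped Pointwise commutatorElement
open Cfsg.Lib Cfsg.Lib.Hall

open Subgroup Cfsg.Lib.Core Cfsg.Lib.Amalg

/-- A finite group with exactly two conjugacy classes of maximal subgroups is solvable and its order has exactly two prime divisors. -/
theorem result {G : Type*} [Group G] [Finite G]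
    (M₁ M₂ : Subgroup G) (h1 : IsCoatom M₁) (h2 : IsCoatom M₂) (hne : ∀ g : G, M₂ ≠ MulAut.conj g • M₁)
    (hall : ∀ M : Subgroup G, IsCoatom M → ∃ g : G, M = MulAut.conj g • M₁ ∨ M = MulAut.conj g • M₂) :
    Group.IsSolvable G ∧ (Nat.card G).primeFactors.card = 2 := by
  have h : TwoCl M₁ M₂ := fun H e => by
    obtain ⟨M, hM, hle⟩ := exists_coatom_ge e
    exact (hall M hM).imp fun g => Or.imp hle.trans_eq hle.trans_eq
  have hs := h.solvable h1.1 h2.1
  have h3 := h.primes hs h1.1 h2.1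
  refine ⟨hs, h3 ▸ Finset.card_pair fun e => ?_⟩
  have hp := Nat.minFac_prime (mt index_eq_one.1 h2.1)
  haveI := Fact.mk hp
  have h4 : IsPGroup M₂.index.minFac G := (isPGroup_iff_isPiNumber hp).2 fun r hr hd => by
    have := h3 ▸ Nat.mem_primeFactors.2 ⟨hr, hd, Nat.card_pos.ne'⟩
    simpa [e] using this
  haveI := normal_of_isCoatom_of_isPGroup h4 h1
  haveI := normal_of_isCoatom_of_isPGroup h4 h2
  have h5 : M₂ ≠ M₁ := fun e => hne 1 (e.trans (cj_one M₁).symm)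
  have h6 : ¬ M₁ ≤ M₂ := fun e => h5 ((h1.le_iff_eq h2.1).1 e)
  have h7 : ¬ M₂ ≤ M₁ := fun e => h5 ((h2.le_iff_eq h1.1).1 e).symm
  obtain ⟨x, hx, hx'⟩ := SetLike.not_le_iff_exists.1 h6
  obtain ⟨y, hy, hy'⟩ := SetLike.not_le_iff_exists.1 h7
  have h8 : zpowers (x * y) = ⊤ := by_contra fun e => by
    obtain ⟨g, hg | hg⟩ := h _ e
    · exact hy' ((mul_mem_cancel_left hx).1 (cj_normal g M₁ ▸ hg (mem_zpowers _)))
    · exact hx' ((mul_mem_cancel_right hy).1 (cj_normal g M₂ ▸ hg (mem_zpowers _)))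
  have hc : IsCyclic (⊤ : Subgroup G) := h8 ▸ inferInstance
  obtain ⟨a, ha⟩ := (h4.to_subgroup M₁).exists_card_eq
  obtain ⟨b, hb⟩ := (h4.to_subgroup M₂).exists_card_eq
  exact (le_total a b).elim (fun h => h6 (PGrp.le_of_card_dvd_of_isCyclic hc le_top le_top (ha ▸ hb ▸ pow_dvd_pow _ h)))
    fun h => h7 (PGrp.le_of_card_dvd_of_isCyclic hc le_top le_top (ha ▸ hb ▸ pow_dvd_pow _ h))

end Cfsg.Agent.S4383
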