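import Cfsg.Statements.S4385
import Cfsg.Agent.Lib.Amalg.SimsG

set_option autoImplicit false
open Pointwise
open Cfsg

namespace Cfsg.Agent.S4385

open Subgroup Cfsg.Lib.Amalg
open Cfsg.Lib.Core hiding isPGroup_subgroupOf isPGroup_subgroupOf_iff isPGroup_map_subtype_iff isPGroup_zpowers_of_orderOf
open scoped commutatorElement

/-- Let H be a subgroup of a finite group G whose largest normal 2-subgroup O_2(H) is nontrivial and such that H/O_2(H) is a dihedral group of order at least 4. Let P be a Sylow 2-subgroup of H and S a Sylow 2-subgroup of G containing P. Suppose y ∈ S lies outside P, normalizes P, has y² in the product of P with the centralizer of P in G, and normalizes no non-identity normal subgroup of H contained in P. Then P has order 4, 8 or 16, and H modulo its largest normal subgroup of odd order is isomorphic to the four-group, to the symmetric group of degree 4, or to the direct product of the symmetric group of degree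 4 with a group of order 2. -/
theorem result {G : Type*} [Group G] [Finite G]
    (H : Subgroup G) (hO : Cfsg.pCore 2 ↥H ≠ ⊥) (n : ℕ) (hn : 2 ≤ n) (hdih : Nonempty (↥H ⧸ Cfsg.pCore 2 ↥H ≃* DihedralGroup n))
    (P : Subgroup G) (hPH : P ≤ H) (hP : IsPGroup 2 P) (hPsyl : ¬ 2 ∣ P.relIndex H)
    (S : Sylow 2 G) (hPS : P ≤ (S : Subgroup G)) (y : G) (hyS : y ∈ (S : Subgroup G)) (hyP : y ∉ P)
    (hy2 : y ^ 2 ∈ P ⊔ Subgroup.centralizer (P : Set G)) (hyN : MulAut.conj y • P = P)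
    (hyQ : ∀ Q : Subgroup G, Q ≤ P → (Q.subgroupOf H).Normal → MulAut.conj y • Q = Q → Q = ⊥) :
    (Nat.card P = 4 ∨ Nat.card P = 8 ∨ Nat.card P = 16) ∧
    (Nonempty (↥H ⧸ Cfsg.oddCore ↥H ≃* Multiplicative (ZMod 2) × Multiplicative (ZMod 2)) ∨
     Nonempty (↥H ⧸ Cfsg.oddCore ↥H ≃* Equiv.Perm (Fin 4)) ∨
     Nonempty (↥H ⧸ Cfsg.oddCore ↥H ≃* Equiv.Perm (Fin 4) × Multiplicative (ZMod 2))) := by
  have hp := Nat.prime_two
  obtain ⟨e⟩ := hdih
  obtain ⟨hodd, hMP, hi, h, d1, d2, d3⟩ := Sims.dih hn e (P := P.subgroupOf H)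
    (Lib.Core.isPGroup_subgroupOf hP H) hPsyl
  rw [cj_subgroupOf] at d1 d2 d3
  set M := (pCore 2 H).map H.subtype with hM
  have hyP : y ∈ 𝐍 P := conj_smul_eq_iff_mem_normalizer.1 hyN
  have hc : cj (y * h)⁻¹ P = cj ((h⁻¹ : H) : G) P := by
    rw [mul_inv_rev, cj_mul, cj_of_mem_normalizer (inv_mem hyP)]; rfl
  rw [← hc] at d1 d2 d3
  have hP' : cj (y * h)⁻¹ P ≤ H := hc ▸ cj_le_of_le_of_mem hPH (h⁻¹).2
  have e1 : P ⊔ cj (y * h)⁻¹ P = H := by
    have := congrArg (Subgroup.map H.subtype) d1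
    rwa [Subgroup.map_sup, map_subtype_subgroupOf_of_le hPH, map_subtype_subgroupOf_of_le hP',
      ← MonoidHom.range_eq_map, range_subtype] at this
  have e2 : P ⊓ cj (y * h)⁻¹ P = M := by
    have := congrArg (Subgroup.map H.subtype) d2
    rwa [Subgroup.map_inf _ _ _ (subtype_injective H), map_subtype_subgroupOf_of_le hPH,
      map_subtype_subgroupOf_of_le hP'] at this
  have hMn : H ≤ 𝐍 M := le_normalizer_pCoreOf H
  have hi' : M.relIndex P = 2 := by
    rw [← hi, ← relIndex_map_map_of_injective _ _ (subtype_injective H), map_subtype_subgroupOf_of_le hPH]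
  have e3 : P ⊓ cj (y * h) P = cj (y * h) M := by rw [← e2, cj_inf, cj_cj_inv, inf_comm]
  have hL : ∀ N ≤ P, H ≤ 𝐍 N → cj y⁻¹ H ≤ 𝐍 N → N = ⊥ := fun N h1 h2 h3 => by
    let F := {N : Subgroup G // N ≤ P ∧ H ≤ 𝐍 N ∧ cj y⁻¹ H ≤ 𝐍 N}
    let N' : Subgroup G := ⨆ N : F, N.1
    have f1 : N' ≤ P := iSup_le fun N => N.2.1
    have f2 : H ≤ 𝐍 N' := le_normalizer_iSup fun N => N.2.2.1
    have f3 : cj y⁻¹ H ≤ 𝐍 N' := le_normalizer_iSup fun N => N.2.2.2
    have f4 : cj y N' ≤ P := cj_le_of_le_of_mem_normalizer f1 hyP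
    have f5 : cj y N' ≤ N' := le_iSup (fun N : F => N.1) ⟨cj y N', f4, by
      rw [← cj_normalizer, le_cj_iff]; exact f3, by
      obtain ⟨a, ha, c, hc, e⟩ := (mem_sup_of_le_normalizer_right
        (le_normalizer_centralizer le_normalizer)).1 hy2
      have : cj y (cj y N') = cj a N' := by
        rw [← cj_mul, ← sq, ← e, cj_mul, cj_of_mem_centralizer (centralizer_anti f1 hc)]
      rw [cj_le_iff, inv_inv, cj_normalizer, this, cj_of_mem_normalizer (f2 (hPH ha))]
      exact f2⟩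
    have := hyQ N' f1 ((normal_subgroupOf_iff_le_normalizer (f1.trans hPH)).2 f2)
      (eq_of_le_of_card_le' f5 (card_cj _ _).ge)
    exact eq_bot_iff.2 (this ▸ le_iSup (fun N : F => N.1) ⟨N, h1, h2, h3⟩)
  obtain ⟨t, a, ht, hch, eP⟩ := Sims.exists_chain (g := y * h) (P := P) hp (by
      rw [e3, ← cj_normalizer, le_cj_iff]; exact hP'.trans hMn) (by
      rw [e3, ← relIndex_map_map_of_injective (f := (MulAut.conj (y * h)⁻¹).toMonoidHom) _ _
        (MulEquiv.injective _), cj_inv_cj, hc, ← cj_of_mem_normalizer (hMn (h⁻¹).2),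
        relIndex_map_map_of_injective _ _ (MulEquiv.injective _), hi'])
    fun Q hQ hn' e' => by
      have h1 : H ≤ 𝐍 Q := by
        rw [← e1, sup_le_iff, cj_le_iff, inv_inv, cj_normalizer, e']; exact ⟨hn', hn'⟩
      refine hyQ Q hQ ((normal_subgroupOf_iff_le_normalizer (hQ.trans hPH)).2 h1) ?_
      rw [conj_smul_eq_iff_mem_normalizer]
      exact (mul_mem_cancel_right (h1 h.2)).1 (cj_eq_self_iff.1 e')
  have eP' : cj (y * h)⁻¹ P = Sims.X (y * h) a 1 (t + 1) := by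
    have := Sims.cj_X (g := y * h) (a := a) 0 t 1
    rwa [zpow_one, ← eP] at this
  have eH : H = Sims.X (y * h) a 0 (t + 1) := by
    refine e1.symm.trans ?_
    rw [eP', eP, Sims.X_sup (by omega) (by omega) (by omega)]
  have eM : M = Sims.X (y * h) a 1 t := by
    refine (eq_of_le_of_card_le' (e2 ▸ le_inf ((Sims.X_mono (by omega) le_rfl).trans eP.ge)
      ((Sims.X_mono le_rfl (by omega)).trans eP'.ge)) ?_).symm
    have := card_mul_relIndex (e2.ge.trans inf_le_left)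
    obtain ⟨s, rfl⟩ : ∃ s, t = s + 1 := ⟨t - 1, by omega⟩
    rw [hi', eP, hch _ le_rfl, pow_succ] at this
    rw [hch.card s (by push_cast; omega) (by omega)]
    omega
  have hK : ∀ N ≤ P, Sims.X (y * h) a 0 (t + 2) ≤ 𝐍 N → N = ⊥ := fun N h1 h2 => by
    have h3 : H ≤ Sims.X (y * h) a 0 (t + 2) := eH.le.trans (Sims.X_mono le_rfl (by omega))
    refine hL N h1 (h3.trans h2) (le_trans ?_ h2)
    have := Sims.cj_X (g := y * h) (a := a) 0 (t + 1) 1
    rw [zpow_one, ← eH] at this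
    rw [show y⁻¹ = h * (y * h)⁻¹ by group, cj_mul, this]
    exact cj_le_of_le_of_mem (Sims.X_mono (by omega) (by omega)) (h3 h.2)
  obtain ⟨u, c⟩ := Sims.exists_crit (g := y * h) (a := a) ht
  have b1 := c.bound' hp hch (n := 2) (hK _ (eP ▸ inf_le_left)
    (le_trans (fun x hx => mem_centralizer_iff.2 fun w hw => (mem_centralizer_iff.1 hw.2 x hx).symm)
      (centralizer_le_normalizer _)))
  have hρ : (Sims.sx (y * h) a 0 * Sims.sx (y * h) a t) ^ n ∈ Sims.X (y * h) a 1 t := by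
    have m0 : Sims.sx (y * h) a 0 ∈ P := eP ▸ Sims.mem_X le_rfl (by omega)
    have m1 : Sims.sx (y * h) a t ∈ cj (y * h)⁻¹ P := eP' ▸ Sims.mem_X (by omega) (by omega)
    rw [← eM]
    refine ⟨_, d3 ⟨_, hPH m0⟩ m0 ⟨_, hP' m1⟩ m1 (fun h' => hch.not_mem_left hp (i := 0) (j := t) (by omega)
      (by omega) (eM.le ⟨_, h', rfl⟩)) fun h' => ?_, rfl⟩
    have h1 : Sims.X (y * h) a 1 (t + 1) = M := by
      refine le_antisymm (Sims.X_le.2 fun k h1 h2 => ?_) (eM.le.trans (Sims.X_mono le_rfl (by omega)))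
      rcases (show k ≤ t by omega).eq_or_lt with rfl | h3
      · exact ⟨_, h', rfl⟩
      · exact eM.ge (Sims.mem_X h1 h3)
    rw [← h1, ← eP', eq_of_le_of_card_le' (eP'.le.trans (h1.le.trans (e2.ge.trans inf_le_left)))
      (card_cj _ _).ge, relIndex_self] at hi'
    omega
  have ht2 : 2 ≤ t := by
    by_contra h0
    rw [Sims.X_bot (by omega), hM, map_eq_bot_iff_of_injective _ (subtype_injective H)] at eM
    exact hO eM
  have hcard : Nat.card P = 2 ^ t := eP ▸ hch t le_rfl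
  have b2 : u = t ∨ 2 * t ≤ 3 * u := c.le.eq_or_lt.imp_right (c.bound hp hch)
  have hu := c.le
  obtain ⟨rfl, rfl⟩ | ⟨rfl, rfl⟩ | ⟨rfl, rfl⟩ | ⟨rfl, rfl⟩ :
      t = 2 ∧ u = 2 ∨ t = 3 ∧ u = 2 ∨ t = 4 ∧ u = 3 ∨ t = 6 ∧ u = 4 := by omega
  · exact ⟨Or.inl hcard, Or.inl (Sims.two hch c hodd eH hρ)⟩
  · exact ⟨Or.inr (Or.inl hcard), Or.inr (Or.inl (Sims.three hch c hodd eH hρ))⟩
  · exact ⟨Or.inr (Or.inr hcard), Or.inr (Or.inr (Sims.four hch c hodd eH hρ))⟩
  · have := hK _ ((Sims.X_mono (by omega) (by omega)).trans eP.ge) (Sims.six hch c)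
    exact absurd (mem_bot.1 (this ▸ Sims.mem_X (k := 2) le_rfl (by omega))) (hch.ne_one hp (by omega) 2)

end Cfsg.Agent.S4385
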