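import Cfsg.Statements.S4387
import Cfsg.Agent.Lib.Hall.ClassSize

set_option autoImplicit false
open Pointwise
open Cfsg

namespace Cfsg.Agent.S4387

open scoped Pointwise commutatorElement
open Cfsg.Lib Cfsg.Lib.Hall

/-- Let G be a non-trivial finite group in which any two maximal subgroups are conjugate. Then G is cyclic of prime-power order. -/
theorem result {G : Type*} [Group G] [Finite G] [Nontrivial G]
    (h : ∀ M N : Subgroup G, IsCoatom M → IsCoatom N → ∃ g : G, N = MulAut.conj g • M) :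
    IsCyclic G ∧ IsPrimePow (Nat.card G) := by
  obtain ⟨M, hM, -⟩ := Core.exists_coatom_ge (bot_ne_top : (⊥ : Subgroup G) ≠ ⊤)
  obtain ⟨x, hx⟩ : ∃ x : G, ∀ g : G, g * x * g⁻¹ ∉ M := by
    by_contra hh
    push Not at hh
    exact hM.1 (eq_top_of_forall_conj_mem hh)
  have h1 : Subgroup.zpowers x = ⊤ := by
    by_contra hh
    obtain ⟨N, hN, hle⟩ := Core.exists_coatom_ge hh
    obtain ⟨g, rfl⟩ := h M N hM hN
    exact hx g⁻¹ (by simpa using mem_conj_smul.mp (hle (Subgroup.mem_zpowers x)))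
  haveI hc : IsCyclic G := ⟨⟨x, fun y => show y ∈ Subgroup.zpowers x from h1 ▸ Subgroup.mem_top y⟩⟩
  refine ⟨hc, isPrimePow_iff_unique_prime_dvd.mpr ?_⟩
  have h2 : ∀ q : ℕ, q.Prime → q ∣ Nat.card G → q = M.index := by
    intro q hq hd
    have h3 : (Subgroup.zpowers (x ^ q)).index = q := by
      have h4 := (Subgroup.zpowers (x ^ q)).card_mul_index
      have h5 : orderOf x = Nat.card G := by rw [← Nat.card_zpowers, h1, Subgroup.card_top]
      rw [Nat.card_zpowers, orderOf_pow_of_dvd hq.ne_zero (h5 ▸ hd), h5] at h4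
      obtain ⟨c, hc⟩ := hd
      have hc0 : 0 < c := Nat.pos_of_ne_zero (fun e => (Nat.card_pos (α := G)).ne' (by rw [hc, e, mul_zero]))
      rw [hc, Nat.mul_div_cancel_left _ hq.pos, mul_comm q] at h4
      exact Nat.eq_of_mul_eq_mul_left hc0 h4
    obtain ⟨g, hg⟩ := h M _ hM (Core.isCoatom_of_index_prime (h3.symm ▸ hq))
    rw [← h3, hg, index_conj_smul]
  have h4 := Nat.minFac_prime (Finite.one_lt_card (α := G)).ne'
  exact ⟨_, ⟨h4, Nat.minFac_dvd _⟩, fun q hq => (h2 q hq.1 hq.2).trans (h2 _ h4 (Nat.minFac_dvd _)).symm⟩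

end Cfsg.Agent.S4387
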