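import Cfsg.Statements.S4394
import Cfsg.Agent.Lib.Hall.SolvCrit
import Cfsg.Agent.Lib.Hall.SylNum
import Cfsg.Agent.Lib.BG1.Sec1
import Cfsg.Agent.Lib.BG1.PLength
import Cfsg.Agent.Lib.Amalg.WClosed
import Cfsg.Agent.Lib.Glaub.Stab
import Cfsg.Agent.Lib.Coprime.Generation
import Cfsg.Agent.Lib.Core.Frattini
import Cfsg.Agent.Lib.PGrp.Cyclic
import Cfsg.Agent.Lib.Core.UpperP

set_option autoImplicit false
open Cfsg

open Subgroup Cfsg.Lib
open scoped commutatorElement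
open Cfsg.Lib Cfsg.Lib.Amalg Cfsg.Lib.Core
namespace Cfsg.Agent.S4394

structure Sc (p : ℕ) (Q : Type*) [Group Q] : Prop where
  a : ∀ x y : Q, ⁅x, y⁆ ∈ center Q
  b : ∀ x : Q, x ^ p ∈ center Q
  c : ∀ w ∉ center Q, ∀ z ∈ center Q, ∃ y, y * w * y⁻¹ = z * w
  d : p ≤ 3 → (center Q).index = p ^ 2 → ∀ w : Q, w ^ p = 1 → w ∈ center Q

theorem Sc.equiv {p : ℕ} {Q R : Type*} [Group Q] [Group R] (h : Sc p Q) (e : R ≃* Q) : Sc p R := by
  have k : ∀ x, x ∈ center R ↔ e x ∈ center Q := fun x => (MulEquivClass.apply_mem_center_iff e).symm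
  refine ⟨fun x y => (k _).2 (map_commutatorElement e x y ▸ h.a _ _), fun x => (k _).2 (map_pow e x p ▸ h.b _), fun w a z b => ?_,
    fun a b w c => (k _).2 (h.d a ?_ _ (by rw [← map_pow, c, map_one]))⟩
  · obtain ⟨y, hy⟩ := h.c _ (mt (k w).2 a) _ ((k z).1 b)
    exact ⟨e.symm y, e.injective (by simpa using hy)⟩
  · rw [← b, show center R = (center Q).comap e.toMonoidHom from Subgroup.ext k, index_comap_of_surjective _ e.surjective]

theorem cz {G : Type*} [Group G] (P : Subgroup G) : center P = (𝐂(P)).subgroupOf P :=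
  Subgroup.ext fun _ => mem_center_iff.trans ⟨fun h y hy => congrArg Subtype.val (h ⟨y, hy⟩), fun h y => Subtype.ext (h y y.2)⟩

theorem sc_of_comm {p : ℕ} {G : Type*} [Group G] {P : Subgroup G} (h : P ≤ 𝐂(P)) : Sc p P := by
  have k : ∀ x : P, x ∈ center P := fun x => cz P ▸ h x.2
  exact ⟨fun _ _ => k _, fun _ => k _, fun w a => (a (k w)).elim, fun _ _ w _ => k w⟩

theorem mem_cq {G : Type*} [Group G] [Finite G] {U V : Subgroup G} (hU : U ≤ 𝐍(V)) {x : G} (hx : x ∈ 𝐍(V))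
    (h : ∀ u ∈ U, u * x * u⁻¹ * x⁻¹ ∈ V) : x ∈ BG1.centQuo V U := by
  refine (BG1.mem_mpre_iff hx).2 (mem_centralizer_iff.2 fun c hc => ?_)
  obtain ⟨u, hu', hu, rfl⟩ := BG1.mem_mim.1 hc
  rw [← mul_inv_eq_one, mul_inv_rev, ← mul_assoc, ← map_inv, ← map_inv, ← map_mul, ← map_mul, ← map_mul]
  exact (BG1.qmk_eq_one_iff _).2 (h u hu)

theorem fin {X : Type*} [Group X] {p r : ℕ} {Q : Subgroup X} {g : X} (hr : r.Prime) (hq : p.Prime) (a : p ≤ 3) (e1 : p ^ 2 ≡ 1 [MOD r])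
    (e2 : g ^ r ∈ 𝐂(Q)) (hQn : Q.Normal) (c9 : ∀ x ∈ Q, ∀ y ∈ Q, ⁅x, y⁆ ∈ Q ⊓ 𝐂(Q))
    (d1 : ∀ S : Set X, S ⊆ Q → (∀ a ∈ S, ∀ b ∈ S, a * b = b * a) → (∀ a ∈ S, g * a * g⁻¹ ∈ closure S ⊔ Q ⊓ 𝐂(Q)) → S ⊆ 𝐂(Q))
    (d2 : ∀ w ∈ Q, w ∉ 𝐂(Q) → ∀ z ∈ Q ⊓ 𝐂(Q), ∃ y ∈ Q, y * w * y⁻¹ = z * w) {w : X} (w1 : w ∈ Q) (c : w ^ p = 1) : w ∈ 𝐂(Q) := by
  have cj1 : ∀ x ∈ Q, g * x * g⁻¹ ∈ Q := fun x hx => hQn.conj_mem x hx g
  have d3 : ∀ u ∈ Q, ∀ z ∈ Q ⊓ 𝐂(Q), ∀ k : ℤ, g * u * g⁻¹ = u ^ k * z → u ∈ 𝐂(Q) := fun u u1 z z1 k e =>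
    d1 {u} (Set.singleton_subset_iff.2 u1) (by rintro _ rfl _ rfl; rfl) (by
      intro a ha
      rw [Set.mem_singleton_iff.1 ha, e]; exact mul_mem_sup (zpow_mem (subset_closure (Set.mem_singleton u)) k) z1) (Set.mem_singleton u)
  have v1 := cj1 w w1
  have hp2 := hq.two_le
  obtain rfl | rfl : p = 2 ∨ p = 3 := by omega
  · obtain rfl : r = 3 := (Nat.prime_dvd_prime_iff_eq hr Nat.prime_three).1 (by simpa using (Nat.modEq_iff_dvd' (by norm_num)).1 e1.symm)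
    by_contra hw
    obtain ⟨v, hv⟩ : ∃ v, v = g * w * g⁻¹ := ⟨_, rfl⟩
    obtain ⟨u, hu⟩ : ∃ u, u = g * v * g⁻¹ := ⟨_, rfl⟩
    rw [← hv] at v1
    have u1 : u ∈ Q := hu ▸ cj1 v v1
    have f1 : g * u * g⁻¹ = w := by
      rw [hu, hv, show g * (g * (g * w * g⁻¹) * g⁻¹) * g⁻¹ = g ^ 3 * w * (g ^ 3)⁻¹ by simp [pow_succ, mul_assoc], ← e2 w w1]; group
    have f2 : w * (v * u) ∈ 𝐂(Q) := d3 _ (mul_mem w1 (mul_mem v1 u1)) _ (c9 _ (inv_mem (mul_mem v1 u1)) _ (inv_mem w1)) 1 (by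
      rw [show g * (w * (v * u)) * g⁻¹ = g * w * g⁻¹ * (g * v * g⁻¹) * (g * u * g⁻¹) by group, ← hv, ← hu, f1, commutatorElement_def]; group)
    obtain ⟨y, y1, y2⟩ := d2 w w1 hw _ ⟨mul_mem w1 (mul_mem v1 u1), f2⟩
    obtain ⟨z, hz⟩ : ∃ z, z = w * (v * u) := ⟨_, rfl⟩
    rw [← hz] at f2 y2
    have f3 : z ^ 2 = 1 := by
      have := congrArg (· ^ 2) y2
      simp only [conj_pow, c] at this
      rw [(Commute.symm (f2 w w1)).mul_pow, c] at this
      simpa using this.symm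
    have f4 : v ^ 2 = 1 := by rw [hv, conj_pow, c]; group
    have f5 : u ^ 2 = 1 := by rw [hu, conj_pow, f4]; group
    have f6 : (w * v) ^ 2 = 1 := by
      rw [show w * v = z * u⁻¹ by rw [hz]; group, (Commute.symm (f2 u u1)).inv_right.mul_pow, f3, inv_pow, f5]; simp
    have f7 : w * v = v * w := by
      rw [sq] at c f4 f6
      rw [← inv_eq_of_mul_eq_one_right f6, mul_inv_rev, inv_eq_of_mul_eq_one_right c, inv_eq_of_mul_eq_one_right f4]
    refine hw (d1 {w, v} (by simp [Set.insert_subset_iff, w1, v1]) (by simp [f7]) ?_ (by simp))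
    rintro x (e | e)
    · exact mem_sup_left (subset_closure (by simp [hv, e]))
    · rw [show x = v from e, ← hu, show u = v⁻¹ * w⁻¹ * z by rw [hz]; group]
      exact mul_mem_sup (mul_mem (inv_mem (subset_closure (by simp))) (inv_mem (subset_closure (by simp)))) ⟨hz ▸ mul_mem w1 (mul_mem v1 u1), f2⟩
  · obtain rfl : r = 2 := (Nat.prime_dvd_prime_iff_eq hr Nat.prime_two).1 (hr.dvd_of_dvd_pow (n := 3)
      (by simpa using (Nat.modEq_iff_dvd' (by norm_num)).1 e1.symm))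
    have f1 := d3 _ (mul_mem w1 v1) _ (c9 _ (inv_mem v1) _ (inv_mem w1)) 1 (by
      rw [show g * (w * (g * w * g⁻¹)) * g⁻¹ = g * w * g⁻¹ * (g ^ 2 * w * (g ^ 2)⁻¹) by group, ← e2 w w1, commutatorElement_def]; group)
    exact d3 w w1 _ ⟨mul_mem w1 v1, f1⟩ (-1) (by group)

theorem sc_of {X : Type*} [Group X] [Finite X] {p : ℕ} [hp : Fact p.Prime] (hX : IsMinimalNonNilpotent X) {P : Subgroup X}
    (hP : Syl p P ⊤) [P.Normal] (h1 : P ≠ ⊥) : Sc p P := by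
  by_cases hc : P ≤ 𝐂(P)
  · exact sc_of_comm hc
  obtain ⟨r, q, Q, g, hr, hq, hrq, hQn, hQ, hg, hs, hgc⟩ := Hall.exists_of_minimal_non_nilpotent hX.1 hX.2
  have nP : ∀ A : Subgroup X, A ≤ 𝐍(P) := fun A => le_normalizer_of_normal
  by_cases e : p = q
  swap
  · refine (hc (comm_eq_bot_iff.1 (le_bot_iff.1 ((le_inf (comm_le_left (nP P)) ((commutator_mono le_top le_top).trans ?_)).trans
      (IsPGroup.disjoint_of_ne p q e P Q hP.isPGroup hQ (hp₂ := ⟨hq⟩)).le_bot)))).elim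
    exact PGrp.commutator_le_of_sup_zpowers_eq_top hs
  subst e
  have := Fact.mk hr
  have c0 : (Nat.card (zpowers g)).Coprime (Nat.card P) := IsPGroup.coprime_card_of_ne r p hrq _ _ hg hP.isPGroup
  have c1 : ∀ H ≤ P, ∀ K ≤ zpowers g, K ≤ 𝐍(H) → H ⊔ K = ⊤ → H = P := fun H a K b c d => by
    have := sup_inf_of_le_normalizer' a c
    rw [d, top_inf_eq, le_bot_iff.1 ((inf_le_inf_right P b).trans (inf_eq_bot_of_coprime c0).le), sup_bot_eq] at this
    exact this.symm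
  obtain rfl := c1 Q (hP.le_of_normal hQ le_top (normalizer_eq_top_iff.2 hQn).ge) _ le_rfl le_normalizer_of_normal hs
  have c2 : ∀ H < Q, zpowers g ≤ 𝐍(H) → H ≤ 𝐂(zpowers g) := fun H a b => le_centralizer_iff.1
    (BG1.le_cent_of_coprime_of_nilpotent (hX.2 _ fun c => a.ne (c1 H a.le _ le_rfl b c)) le_sup_right le_sup_left
      (Coprime.coprime_card_of_le c0 le_rfl a.le))
  have c3 : ¬ Q ≤ 𝐂(zpowers g) := fun a => hgc (le_centralizer_iff.1 a (mem_zpowers g))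
  have c4 : ⁅Q, zpowers g⁆ = Q := by
    by_contra a
    exact c3 (le_centralizer_iff.1 (Coprime.le_centralizer_of_commutator_le_centralizer (nP _) c0
      (c2 _ (lt_of_le_of_ne (comm_le_left (nP _)) a) (BG1.le_norm_commutator_right _ _))))
  have c5 : Q ⊓ 𝐂(zpowers g) ≤ 𝐂(Q) := by
    have a : Q ⊓ 𝐂(zpowers g) < Q := lt_of_le_of_ne inf_le_left fun a => c3 (inf_eq_left.1 a)
    have b : Q ≤ 𝐍(Q ⊓ 𝐂(zpowers g)) := by
      by_contra b
      refine (lt_inf_normalizer_of_lt hP.isPGroup a).not_ge (le_inf inf_le_left (c2 _ (lt_of_le_of_ne inf_le_left fun c => b (inf_eq_left.1 c))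
        (le_normalizer_inf (nP _) (le_trans ?_ (normalizer_le_normalizer_normalizer _)))))
      exact le_normalizer_inf (nP _) (le_normalizer.trans (normalizer_le_normalizer_centralizer _))
    rw [← comm_eq_bot_iff']
    nth_rewrite 1 [← c4]
    refine commutator_commutator_eq_bot_of_rotate ?_ (comm_eq_bot_iff.2 ((comm_le_left b).trans inf_le_right))
    rw [comm_eq_bot_iff'.2 inf_le_right, commutator_bot_left]
  have c6 : ∀ H < Q, zpowers g ≤ 𝐍(H) → H ≤ 𝐂(Q) := fun H a b => (le_inf a.le (c2 H a b)).trans c5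
  have nZ : (Q ⊓ 𝐂(Q)).Normal := inferInstance
  have c7 : Q ⊓ 𝐂(Q) ≤ 𝐂(zpowers g) := c2 _ (lt_of_le_of_ne inf_le_left fun a => hc (inf_eq_left.1 a)) le_normalizer_of_normal
  have nF := normal_frattiniOf Q
  have c8 := (frattiniOf_le_iff hP.isPGroup).1 (c6 _ (frattiniOf_lt h1) le_normalizer_of_normal)
  have c9 : ∀ x ∈ Q, ∀ y ∈ Q, ⁅x, y⁆ ∈ Q ⊓ 𝐂(Q) := fun x a y b =>
    ⟨comm_le_left (nP Q) (commutator_mem_commutator a b), c8.1 (commutator_mem_commutator a b)⟩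
  have d1 : ∀ S : Set X, S ⊆ Q → (∀ a ∈ S, ∀ b ∈ S, a * b = b * a) → (∀ a ∈ S, g * a * g⁻¹ ∈ closure S ⊔ Q ⊓ 𝐂(Q)) → S ⊆ 𝐂(Q) :=
    fun S s1 s2 s3 => by
    have a : closure S ⊔ Q ⊓ 𝐂(Q) ≤ Q := sup_le ((closure_le _).2 s1) inf_le_left
    have b : closure S ≤ 𝐂(closure S) := by
      rw [centralizer_closure, closure_le]; exact fun a ha b hb => s2 b hb a ha
    refine fun x hx => c6 _ (lt_of_le_of_ne a fun c => hc ?_) (zpowers_le.2 (mem_normalizer_of_cj_le ?_)) (mem_sup_left (subset_closure hx))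
    · have d : Q ≤ 𝐂(closure S) := c ▸ sup_le b (inf_le_right.trans (centralizer_le ((closure_le _).2 s1)))
      exact c.ge.trans (sup_le (le_centralizer_iff.1 d) inf_le_right)
    · rw [cj_sup, cj_closure, cj_eq_self_iff.2 (le_normalizer_of_normal (mem_top g))]
      exact sup_le ((closure_le _).2 (by rintro _ ⟨a, ha, rfl⟩; exact s3 a ha)) le_sup_right
  have d2 : ∀ w ∈ Q, w ∉ 𝐂(Q) → ∀ z ∈ Q ⊓ 𝐂(Q), ∃ y ∈ Q, y * w * y⁻¹ = z * w := fun w w1 w2 z z1 => by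
    let ψ : Q →* X := MonoidHom.mk' (fun y => ⁅(y : X), w⁆) fun x y => by
      have := (c9 y y.2 w w1).2 x x.2
      simp only [coe_mul, commutatorElement_def] at this ⊢
      calc _ = x * (y * w * (y : X)⁻¹ * w⁻¹) * (w * (x : X)⁻¹ * w⁻¹) := by group
        _ = (y * w * (y : X)⁻¹ * w⁻¹) * (x * w * (x : X)⁻¹ * w⁻¹) := by rw [this]; group
        _ = _ := ((c9 y y.2 w w1).2 _ (c9 x x.2 w w1).1).symm
    have a1 : ψ.range ≤ Q ⊓ 𝐂(Q) := by rintro _ ⟨y, rfl⟩; exact c9 y y.2 w w1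
    have a2 : ψ.range.Normal := normalizer_eq_top_iff.1 (top_le_iff.1 (hs ▸ sup_le
      (BG1.le_norm_of_le_cent (le_centralizer_iff.1 (a1.trans inf_le_right))) (BG1.le_norm_of_le_cent (le_centralizer_iff.1 (a1.trans c7)))))
    have a3 : Q ⊓ BG1.centQuo ψ.range Q = Q := by
      by_contra a
      refine w2 (c6 _ (lt_of_le_of_ne inf_le_left a) (le_normalizer_inf (nP _) (BG1.le_norm_centQuo le_normalizer_of_normal (nP _)))
        ⟨w1, mem_cq le_normalizer_of_normal (le_normalizer_of_normal (mem_top w)) fun u hu => ⟨⟨u, hu⟩, rfl⟩⟩)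
    have a4 := BG1.commutator_le_of_le_centQuo le_normalizer_of_normal (inf_eq_left.1 a3)
    have a5 : z ∈ ⁅Q, Q⁆ := by
      have : IsMulCommutative (Q.map (QuotientGroup.mk' ⁅Q, Q⁆)) := le_centralizer_iff_isMulCommutative.1 (by
        rw [← comm_eq_bot_iff, ← map_commutator, Subgroup.map_eq_bot_iff, QuotientGroup.ker_mk'])
      have b := Coprime.centralizer_inf_commutator_eq_bot (A := (zpowers g).map (QuotientGroup.mk' ⁅Q, Q⁆)) (V := Q.map (QuotientGroup.mk' ⁅Q, Q⁆))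
        ((map_mono (nP _)).trans (le_normalizer_map _)) ((c0.of_dvd_left (card_map_dvd _ _)).of_dvd_right (card_map_dvd _ _))
      rw [← map_commutator, c4] at b
      refine (QuotientGroup.eq_one_iff z).1 (b.le ⟨⟨⟨z, z1.1, rfl⟩, ?_⟩, ⟨z, z1.1, rfl⟩⟩)
      rintro _ ⟨u, hu, rfl⟩
      exact congrArg (QuotientGroup.mk' ⁅Q, Q⁆) (c7 z1 u hu)
    obtain ⟨y, hy⟩ := a4 a5
    exact ⟨y, y.2, by rw [← hy]; simp [ψ, commutatorElement_def]⟩
  refine ⟨fun x y => cz Q ▸ (c9 x x.2 y y.2).2, fun x => cz Q ▸ c8.2 x x.2, fun w a z b => ?_, fun a b w c => ?_⟩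
  · rw [cz] at a b
    obtain ⟨y, y1, y2⟩ := d2 w w.2 a z ⟨z.2, b⟩
    exact ⟨⟨y, y1⟩, Subtype.ext y2⟩
  rw [cz] at b ⊢
  have e1 := Hall.relIndex_centralizer_modEq hg (nP _) fun c => hrq ((Nat.prime_dvd_prime_iff_eq hr hq).1 (by
    obtain ⟨k, hk⟩ := IsPGroup.iff_card.1 hQ; exact hr.dvd_of_dvd_pow (hk ▸ c)))
  rw [← inf_relIndex_left, le_antisymm (le_inf inf_le_left c5) (le_inf inf_le_left c7), inf_relIndex_left, relIndex, b] at e1
  have e2 : g ^ r ∈ 𝐂(Q) := by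
    refine le_centralizer_iff.1 (BG1.le_cent_of_coprime_of_nilpotent (H := Q ⊔ zpowers (g ^ r)) (hX.2 _ fun c => ?_) le_sup_left le_sup_right
      (Coprime.coprime_card_of_le c0 (zpowers_le.2 (pow_mem (mem_zpowers g) r)) le_rfl).symm) (mem_zpowers _)
    have d := sup_inf_of_le_normalizer (zpowers_le.2 (pow_mem (mem_zpowers g) r)) (nP _)
    rw [sup_comm, c, top_inf_eq, inf_comm, inf_eq_bot_of_coprime c0, sup_bot_eq] at d
    obtain ⟨k, hk⟩ := IsPGroup.iff_card.1 hg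
    have f := congrArg (fun H : Subgroup X => Nat.card H) d
    simp only [Nat.card_zpowers] at f hk
    rw [orderOf_pow, hk] at f
    rcases k with _ | k
    · exact hgc (by rw [orderOf_eq_one_iff.1 hk]; exact one_mem _)
    · rw [Nat.gcd_eq_right (dvd_pow_self r k.succ_ne_zero)] at f
      exact (Nat.div_lt_self (pow_pos hr.pos _) hr.one_lt).ne' f
  exact fin hr hq a e1 e2 hQn c9 d1 d2 w.2 (congrArg Subtype.val c)

theorem main {G : Type*} [Group G] [Finite G] {p : ℕ} [hp : Fact p.Prime] (hG : IsPSolvable p G) (hO : pPrimeCore p G = ⊥)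
    {S : Subgroup G} (hS : Syl p S ⊤) (h : Sc p S) : S ≤ pCore p G := by
  obtain ⟨N, hN⟩ : ∃ N, N = pCore p G := ⟨_, rfl⟩
  have nN : N.Normal := hN ▸ inferInstance
  have f0 : 𝐂(N) ≤ N := hN ▸ centralizer_pCore_le_of_isPSolvable hp.out hG hO
  have f1 : IsPGroup p N := hN ▸ isPGroup_pCore p G
  have f2 : N ≤ S := hS.le_of_normal f1 le_top le_normalizer_of_normal
  have f3 : ⁅S, S⁆ ≤ S ⊓ 𝐂(S) := le_inf (comm_le_left le_normalizer) (commutator_le.2 fun x a y b => by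
    have := h.a ⟨x, a⟩ ⟨y, b⟩; rwa [cz] at this)
  have f4 : S ⊓ 𝐂(S) ≤ 𝐂(N) := inf_le_right.trans (centralizer_le f2)
  obtain ⟨C, hC⟩ : ∃ C, C = BG1.centQuo 𝐂(N) N := ⟨_, rfl⟩
  have nC : C.Normal := normal_of_top_le_normalizer (hC ▸ BG1.le_norm_centQuo le_normalizer_of_normal le_normalizer_of_normal)
  have f5 : S ≤ C := hC ▸ BG1.le_centQuo le_normalizer_of_normal le_normalizer_of_normal ((commutator_mono f2 le_rfl).trans (f3.trans f4))
  have f6 : C ⊓ 𝐂(𝐂(N)) ≤ N := (le_pCore (isPGroup_of_res_le f1 ((res_le_cent_of_comm_le f1 le_normalizer_of_normal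
    (BG1.commutator_le_of_le_centQuo le_normalizer_of_normal (inf_le_left.trans hC.le)) inf_le_right).trans f0))).trans hN.ge
  have f7 : 𝐂(N) ≤ S := f0.trans f2
  rw [← hN]
  by_cases p5 : 5 ≤ p
  · intro x hx
    have a1 := Glaub.stab_of_qd (P := 𝐂(N)) (H := ⊤) (by omega) (f1.to_le f0) le_normalizer_of_normal (fun c =>
      Glaub.not_involves_sl2_of_isPSolvable p5 (isPSolvable_subgroup hp.out hG _) (Fus2.involves_trans Glaub.involves_sl2_qd c)) x trivial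
      (comm_eq_bot_iff.2 (((commutator_mono f7 (zpowers_le.2 hx)).trans (f3.trans inf_le_right)).trans (centralizer_le (zpowers_le.2 hx))))
    have := normal_of_top_le_normalizer (Glaub.le_norm_opMod (p := p) (H := ⊤) (C := 𝐂(𝐂(N))) le_normalizer_of_normal)
    exact hN.ge <| le_pCore (N := Glaub.opMod p ⊤ 𝐂(𝐂(N)) ⊓ C) (isPGroup_of_res_le f1 (le_trans (le_inf ((res_le _).trans inf_le_right)
      ((res_mono inf_le_left).trans (Glaub.res_opMod_le le_normalizer_of_normal))) f6)) ⟨a1, f5 hx⟩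
  by_contra hc
  obtain ⟨φ, hφ⟩ : ∃ φ, φ = QuotientGroup.mk' N := ⟨_, rfl⟩
  have g1 : Function.Surjective φ := hφ ▸ QuotientGroup.mk'_surjective _
  have g2 : φ.ker = N := hφ ▸ QuotientGroup.ker_mk' _
  have g3 : 𝐂(pPrimeCore p (G ⧸ N)) ≤ pPrimeCore p (G ⧸ N) :=
    centralizer_pPrimeCore_le_of_isPSolvable hp.out (isPSolvable_quotient hp.out hG N) (by subst hN; exact pCore_quotient_pCore)
  have g4 := hS.isPGroup.map φ
  have g5 : (Nat.card (S.map φ)).Coprime (Nat.card (pPrimeCore p (G ⧸ N))) :=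
    (Coprime.coprime_card_of_isPGroup g4 (coprime_card_pPrimeCore p _)).symm
  have g6 : S.map φ ≠ ⊥ := fun e => hc (g2 ▸ (Subgroup.map_eq_bot_iff _).1 e)
  have : IsMulCommutative (S.map φ) := le_centralizer_iff_isMulCommutative.1 (by
    rw [← comm_eq_bot_iff, ← map_commutator, Subgroup.map_eq_bot_iff, g2]; exact f3.trans (f4.trans f0))
  obtain ⟨B, b1, b2, b3⟩ : ∃ B ≤ S.map φ, B.relIndex (S.map φ) = p ∧ ¬ pPrimeCore p (G ⧸ N) ⊓ 𝐂(B) ≤ 𝐂(S.map φ) := by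
    by_contra a
    push Not at a
    refine g6 (le_bot_iff.1 ((le_inf le_rfl ((le_centralizer_iff.1 (Coprime.le_of_forall_hyperplane (p := p) ?_ g6 le_normalizer_of_normal g5 a)).trans
      g3)).trans (inf_eq_bot_of_coprime g5).le))
    rintro _ ⟨x, hx, rfl⟩
    have := h.b ⟨x, hx⟩
    rw [cz] at this
    rw [← map_pow, ← MonoidHom.mem_ker, g2]
    exact f0 (f4 ⟨pow_mem hx p, this⟩)
  obtain ⟨Y, hY⟩ : ∃ Y, Y = B.comap φ := ⟨_, rfl⟩
  obtain ⟨T, hT⟩ : ∃ T, T = (pPrimeCore p (G ⧸ N) ⊓ 𝐂(B)).comap φ := ⟨_, rfl⟩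
  have y1 : N ≤ Y := hY ▸ g2.ge.trans (ker_le_comap φ B)
  have y0 : (S.map φ).comap φ = S := comap_map_eq_self (g2.trans_le f2)
  have y2 : Y ≤ S := hY ▸ (comap_mono b1).trans y0.le
  have y3 : Y.relIndex S = p := by rw [hY, relIndex_comap, b2]
  have t0 : T.map φ = pPrimeCore p (G ⧸ N) ⊓ 𝐂(B) := hT ▸ map_comap_eq_self_of_surjective g1 _
  have t1 : ⁅T, Y⁆ ≤ N := by
    rw [← g2, ← Subgroup.map_eq_bot_iff, map_commutator, t0, hY, map_comap_eq_self_of_surjective g1]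
    exact comm_eq_bot_iff.2 inf_le_right
  have t2 : T ≤ 𝐍(Y) := BG1.le_norm_of_commutator_le (commutator_comm T Y ▸ t1.trans y1)
  have t3' : S.map φ ≤ 𝐍(pPrimeCore p (G ⧸ N) ⊓ 𝐂(B)) := le_normalizer_inf le_normalizer_of_normal
    ((Coprime.le_normalizer_of_le_of_comm b1).trans (normalizer_le_normalizer_centralizer _))
  have t3 : S ≤ 𝐍(T) := by
    rw [hT, ← comap_normalizer_eq_of_surjective _ g1]; exact y0.ge.trans (comap_mono t3')
  have l1 : ∀ D, S ≤ D → T ≤ 𝐍(D) → ⁅T, S⁆ ≤ D := fun D a b => (commutator_mono le_rfl a).trans (comm_le_right b)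
  have l2 : ∀ E ≤ S ⊓ 𝐂(S), T ≤ 𝐍(E) → ⁅T, S⁆ ≤ 𝐂(E) := fun E a b =>
    l1 _ (le_centralizer_iff.1 (a.trans inf_le_right)) (b.trans (normalizer_le_normalizer_centralizer _))
  have l3 : ¬ ⁅𝐂(N), ⁅T, S⁆⁆ ≤ S ⊓ 𝐂(S) := fun a => by
    have a1 := res_le_cent_of_comm_le (f1.to_le f0) le_normalizer_of_normal le_rfl (l2 _ a
      (le_normalizer_commutator le_normalizer_of_normal (BG1.le_norm_commutator_left T S)))
    have a2 := (isPGroup_of_res_le f1 ((le_inf ((res_le _).trans (l1 C f5 le_normalizer_of_normal)) a1).trans f6)).map φ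
    rw [map_commutator, t0] at a2
    exact b3 (comm_eq_bot_iff.1 (isPGroup_eq_bot_of_not_dvd a2 ((comm_le_left t3').trans inf_le_left)
      ((Nat.Prime.coprime_iff_not_dvd hp.out).1 (coprime_card_pPrimeCore p _).symm)))
  have w1 : ⁅𝐂(N), Y⁆ ≤ S ⊓ 𝐂(S) := (commutator_mono f7 y2).trans f3
  have w2 : T ≤ 𝐍(⁅𝐂(N), Y⁆) := le_normalizer_commutator le_normalizer_of_normal t2
  have w3 : ⁅𝐂(N), ⁅T, S⁆⁆ ≤ 𝐂(Y) := by
    rw [← comm_eq_bot_iff]
    refine commutator_commutator_eq_bot_of_rotate (comm_eq_bot_iff'.2 (centralizer_le ((commutator_mono (comm_le_left t3) le_rfl).trans t1))) ?_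
    rw [commutator_comm Y]; exact comm_eq_bot_iff'.2 (l2 _ w1 w2)
  obtain ⟨w, w4, w5⟩ := SetLike.not_le_iff_exists.1 l3
  have w6 : w ∈ S := f7 (comm_le_left le_normalizer_of_normal w4)
  have z1 : Nat.card ↥(S ⊓ 𝐂(S)) = p := by
    have a : ∀ z : ↥(S ⊓ 𝐂(S)), ∃ y : S, y * w * (y : G)⁻¹ = z * w := fun z => by
      obtain ⟨y, hy⟩ := h.c ⟨w, w6⟩ (by rw [cz]; exact fun c => w5 ⟨w6, c⟩) ⟨z, z.2.1⟩ (by rw [cz]; exact z.2.2)
      exact ⟨y, congrArg Subtype.val hy⟩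
    choose f hf using a
    have b : Nat.card ↥(S ⊓ 𝐂(S)) ≤ p := (Nat.card_le_card_of_injective (fun z => (f z : S ⧸ Y.subgroupOf S)) fun z z' e => by
      have c := w3 w4 _ (mem_subgroupOf.1 (QuotientGroup.eq.1 (show (f z : S ⧸ Y.subgroupOf S) = f z' from e)))
      refine Subtype.ext (mul_right_cancel (b := w) ?_)
      rw [← hf, ← hf, show (f z' : G) * w * (f z' : G)⁻¹ = f z * ((f z : G)⁻¹ * f z' * w) * (f z' : G)⁻¹ by group]
      exact (by rw [show (f z : G)⁻¹ * f z' * w = w * ((f z : G)⁻¹ * f z') from c]; group : _ = _).symm).trans_eq y3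
    obtain ⟨k, hk⟩ := IsPGroup.iff_card.1 (hS.isPGroup.to_le (inf_le_left (b := 𝐂(S))))
    have c := dvd_card_of_isPGroup_ne_bot (hS.isPGroup.to_le inf_le_left) (inf_center_ne_bot hS.isPGroup le_rfl le_normalizer fun e => hc (e ▸ bot_le))
    exact le_antisymm b (Nat.le_of_dvd Nat.card_pos c)
  have z2 : ¬ T ≤ 𝐍(S ⊓ 𝐂(S)) := fun a => l3 (BG1.commutator_le_of_le_centQuo (f7.trans (le_normalizer_inf le_normalizer
      (le_normalizer.trans (normalizer_le_normalizer_centralizer _)))) (l1 _ (BG1.le_centQuo (f7.trans (le_normalizer_inf le_normalizer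
      (le_normalizer.trans (normalizer_le_normalizer_centralizer _)))) (le_normalizer_inf le_normalizer
      (le_normalizer.trans (normalizer_le_normalizer_centralizer _))) ((commutator_mono f7 le_rfl).trans f3))
      (BG1.le_norm_centQuo a le_normalizer_of_normal)))
  have z3 : ∀ E ≤ S ⊓ 𝐂(S), T ≤ 𝐍(E) → E = ⊥ := fun E a b => by
    rcases (Nat.dvd_prime hp.out).1 (z1 ▸ card_dvd_of_le a) with c | c
    · exact card_eq_one.1 c
    · exact absurd (eq_of_le_of_card_ge a (by rw [c, z1]) ▸ b) z2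
  obtain rfl : Y = N := le_antisymm ((le_inf (y2.trans f5) (comm_eq_bot_iff'.1 (z3 _ w1 w2))).trans f6) y1
  have z4 : Y ≤ 𝐂(Y) := comm_eq_bot_iff.1 (z3 _ ((commutator_mono f2 f2).trans f3) le_normalizer_of_normal)
  obtain ⟨x, x1, x2⟩ := SetLike.not_le_iff_exists.1 hc
  have z5 : (𝐂(S)).relIndex Y = p := by
    let ψ : Y →* ↥(S ⊓ 𝐂(S)) := MonoidHom.mk' (fun y => ⟨⁅(y : G), x⁆, f3 (commutator_mem_commutator (f2 y.2) x1)⟩) fun a b => Subtype.ext (by
      have := (f3 (commutator_mem_commutator (f2 b.2) x1)).2 a (f2 a.2)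
      simp only [coe_mul, commutatorElement_def] at this ⊢
      calc _ = a * (b * x * (b : G)⁻¹ * x⁻¹) * (x * (a : G)⁻¹ * x⁻¹) := by group
        _ = (b * x * (b : G)⁻¹ * x⁻¹) * (a * x * (a : G)⁻¹ * x⁻¹) := by rw [this]; group
        _ = _ := ((f3 (commutator_mem_commutator (f2 b.2) x1)).2 _ (f3 (commutator_mem_commutator (f2 a.2) x1)).1).symm)
    have a : ψ.ker ≤ (𝐂(S)).subgroupOf Y := fun y hy => by
      have b : Y ⊔ zpowers x = S := by
        have c := sup_le f2 (zpowers_le.2 x1)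
        rcases (Nat.dvd_prime hp.out).1 (y3 ▸ Dvd.intro_left _ (relIndex_mul_relIndex Y _ S le_sup_left c)) with d | d
        · exact le_antisymm c (relIndex_eq_one.1 d)
        · have e := relIndex_mul_relIndex Y _ S le_sup_left c
          rw [d, y3] at e
          exact absurd (relIndex_eq_one.1 (Nat.eq_of_mul_eq_mul_right hp.out.pos (e.trans (one_mul p).symm)) (mem_sup_right (mem_zpowers x))) x2
      refine mem_subgroupOf.2 (le_centralizer_iff.1 (show S ≤ 𝐂(zpowers (y : G)) from b ▸ sup_le (z4.trans (centralizer_le (zpowers_le.2 y.2)))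
        (zpowers_le.2 ?_)) (mem_zpowers _))
      rintro _ ⟨k, rfl⟩
      exact (Commute.zpow_left (commutatorElement_eq_one_iff_commute.1 (congrArg Subtype.val hy)) k).eq
    have b := (index_dvd_of_le a).trans ((index_ker ψ).dvd.trans (card_subgroup_dvd_card _))
    rcases (Nat.dvd_prime hp.out).1 (z1 ▸ b) with c | c
    · exact absurd ⟨w6, relIndex_eq_one.1 c (f0 (comm_le_left le_normalizer_of_normal w4))⟩ w5
    · exact c
  obtain ⟨t, t4, t5⟩ := SetLike.not_le_iff_exists.1 z2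
  obtain ⟨u, u1, v2⟩ := SetLike.not_le_iff_exists.1 fun c : cj t (S ⊓ 𝐂(S)) ≤ S ⊓ 𝐂(S) => t5 (mem_normalizer_of_cj_le c)
  obtain ⟨v, v1, e⟩ : ∃ v ∈ S ⊓ 𝐂(S), t * v * t⁻¹ = u := u1
  have v3 : u ∈ S := e ▸ f2 (nN.conj_mem v (f0 (f4 v1)) t)
  have v4 : p ≤ 3 := by
    by_contra c
    exact absurd (show p = 4 by omega) (by rintro rfl; exact absurd hp.out (by decide))
  have v5 : (center S).index = p ^ 2 := by
    have a := relIndex_mul_relIndex _ Y S (f4.trans f0) f2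
    rw [y3, inf_relIndex_left, ← inf_relIndex_right, inf_comm, ← inf_assoc, inf_eq_left.2 f2, inf_relIndex_left, z5] at a
    rw [cz, sq, a, relIndex]
  have v6 : u ^ p = 1 := by
    rw [← e, conj_pow, ← z1, show v ^ Nat.card ↥(S ⊓ 𝐂(S)) = 1 from congrArg Subtype.val (pow_card_eq_one' (x := (⟨v, v1⟩ : ↥(S ⊓ 𝐂(S)))))]
    simp
  have := h.d v4 v5 ⟨u, v3⟩ (Subtype.ext v6)
  rw [cz] at this
  exact v2 ⟨v3, this⟩

/-- Let X be a finite minimal non-nilpotent group (not nilpotent, every proper subgroup nilpotent) with a nontrivial normal Sylow p-subgroup P. If G is a finite p-solvable group whose Sylow p-subgroups are isomorphic to P, then G has p-length at most 1. -/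
theorem result {G X : Type*} [Group G] [Finite G] [Group X] [Finite X] (p : ℕ) [Fact p.Prime]
    (hX : Cfsg.IsMinimalNonNilpotent X) (P : Sylow p X) (hPn : (P : Subgroup X).Normal) (hP1 : (P : Subgroup X) ≠ ⊥)
    (hG : Cfsg.IsPSolvable p G) (Q : Sylow p G) (hQ : Nonempty (↥(Q : Subgroup G) ≃* ↥(P : Subgroup X))) : Cfsg.PLengthLE p 1 G := by
  obtain ⟨e⟩ := hQ
  have h1 := (sc_of hX (syl_top P) hP1).equiv e
  have h2 : Function.Injective ((QuotientGroup.mk' (pPrimeCore p G)).comp (Q : Subgroup G).subtype) := by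
    rw [← MonoidHom.ker_eq_bot_iff, ← MonoidHom.comap_ker, QuotientGroup.ker_mk', ← subgroupOf, subgroupOf_eq_bot, disjoint_iff]
    exact inf_eq_bot_of_coprime (Coprime.coprime_card_of_isPGroup Q.2 (coprime_card_pPrimeCore p G))
  have h3 := main (isPSolvable_quotient Fact.out hG (pPrimeCore p G)) pPrimeCore_quotient_pPrimeCore
    ((syl_top Q).map_top (QuotientGroup.mk'_surjective _)) (h1.equiv ((MulEquiv.subgroupCongr (by
      rw [MonoidHom.range_comp, range_subtype])).trans (MonoidHom.ofInjective h2).symm))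
  exact (BG1.plength1_iff_index Fact.out).2 fun c => (syl_top Q).not_dvd_index
    (c.trans (index_dvd_of_le fun x hx => mem_pPrimePCore_iff.2 (h3 ⟨x, hx, rfl⟩)))

end Cfsg.Agent.S4394
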