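import Cfsg.Statements.S4396
import Cfsg.Agent.Lib.Coprime.FreeMod
import Cfsg.Agent.Lib.Coprime.FrobKernel
import Cfsg.Agent.Lib.Block2.PMod
import Cfsg.Agent.Lib.Core.Nilpotent

set_option autoImplicit false
open Cfsg

namespace Cfsg.Agent.S4396

open Subgroup Cfsg.Lib Cfsg.Lib.FreeMod

/-- Let the finite group A act faithfully and linearly on a finite-dimensional vector space V over a field k, and suppose A is a Frobenius group with nilpotent kernel F (every Frobenius kernel is nilpotent) and complement H such that F fixes no nonzero vector. Then V is free as a module for H: there is a subspace W with V the direct sum of the translates hW, h ∈ H. (No assumption on the characteristic of k.) -/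
theorem result {k V A : Type*} [Field k] [AddCommGroup V] [Module k V] [FiniteDimensional k V] [Group A] [Finite A] [DecidableEq A]
    (ρ : Representation k A V) (hρ : Function.Injective ρ)
    (Fk Hc : Subgroup A) [Fk.Normal] (hHc : Cfsg.IsFrobeniusComplement Hc) (hker : Cfsg.frobeniusKernel Hc = (Fk : Set A)) (hnil : Group.IsNilpotent ↥Fk)
    (hCF : ∀ v : V, (∀ f ∈ Fk, ρ f v = v) → v = 0) :
    ∃ W : Submodule k V, DirectSum.IsInternal (fun h : ↥Hc => W.map (ρ (h : A))) := by
  classical
  haveI := Fintype.ofFinite Hc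
  have hd : Fk ⊓ Hc = ⊥ := eq_bot_iff.2 fun x hx => by
    have h1 : x ∈ Cfsg.frobeniusKernel Hc := hker ▸ (mem_inf.1 hx).1
    exact h1.elim mem_bot.2 fun h => absurd (by simpa using (mem_inf.1 hx).2) (h 1)
  have hf := Coprime.fpf_of_isFrobeniusComplement hHc hd
  have key : ∀ Z : Subgroup A, Z.Normal → Z ≤ Fk → (Nat.card Z : k) ≠ 0 → (∀ v, (∀ z ∈ Z, ρ z v = v) → v = 0) →
      ∃ W : Submodule k V, DirectSum.IsInternal (fun h : ↥Hc => W.map (ρ (h : A))) := fun Z _ hle hk h0 =>
    (fr_of_solvable ρ Hc _ Z rfl (Group.isSolvable_of_isSolvable_injective (inclusion_injective hle)) hk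
      (fun h hh h1 z hz e => Coprime.inf_centralizer_singleton_eq_bot_iff.1 (hf h hh h1) z (hle hz) e) ⊤
      (fun _ => le_top) fun v _ => h0 v).isInternal
  obtain ⟨p, hp⟩ := CharP.exists k
  rcases CharP.char_is_prime_or_zero k p with hq | rfl
  · haveI := Fact.mk hq
    haveI := Core.pPrimeCore_characteristic p Fk
    set Z := (pPrimeCore p Fk).map Fk.subtype with hZ
    refine key Z inferInstance (map_subtype_le _) ?_ fun v hv => ?_
    · rw [Ne, CharP.cast_eq_zero_iff k p, hZ, card_subtype]
      exact (Core.coprime_iff_not_dvd hq).1 (Core.coprime_card_pPrimeCore p Fk)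
    by_contra h0
    let C : Submodule k V := ⨅ y : Z, LinearMap.eqLocus (ρ y) LinearMap.id
    have hC : ∀ v, v ∈ C ↔ ∀ y ∈ Z, ρ y v = v := fun v => by simp [C]
    have i1 : ∀ g, C ≤ C.comap (ρ g) := fun g v hv => (hC _).2 fun y hy => by
      have := (hC v).1 hv _ ((inferInstance : Z.Normal).conj_mem' y hy g)
      rw [← Module.End.mul_apply, ← map_mul, show y * g = g * (g⁻¹ * y * g) by group, map_mul, Module.End.mul_apply, this]
    haveI : Nontrivial C := ⟨⟨⟨v, (hC v).2 hv⟩, 0, fun e => h0 (congrArg Subtype.val e)⟩⟩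
    obtain ⟨w, hw0, hw⟩ := Block2.exists_fixed_ne_zero (Core.isPGroup_pCoreOf (p := p) Fk)
      ((ρ.subrepresentation C i1).comp (Subgroup.subtype _))
    refine hw0 (Subtype.ext (hCF w fun f hf => ?_))
    rw [← Core.pCoreOf_sup_pPrimeCoreOf_of_nilpotent hq Fk] at hf
    obtain ⟨a, ha, b, hb, rfl⟩ := mem_sup_of_normal_right.1 hf
    rw [map_mul, Module.End.mul_apply, (hC _).1 w.2 b hb]
    exact congrArg Subtype.val (hw ⟨a, ha⟩)
  · haveI := CharP.charP_to_charZero k
    exact key Fk inferInstance le_rfl (Nat.cast_ne_zero.2 Nat.card_pos.ne') hCF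

end Cfsg.Agent.S4396
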