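import Cfsg.Statements.S4398
import Cfsg.Agent.Lib.Layer.Meta2

set_option autoImplicit false
open Cfsg

namespace Cfsg.Agent.S4398

open Subgroup Cfsg.Lib.Core Cfsg.Lib.Amalg Cfsg.Lib.BG1 Cfsg.Lib.Layer
open Cfsg.Lib.PGrp
open scoped commutatorElement

theorem key {S : Type*} [Group S] [Finite S] (h2 : IsPGroup 2 S) {a b x y : S} [hn : (zpowers a).Normal]
    (hab : zpowers a ⊔ zpowers b = ⊤) (hx : x ∈ zpowers a) (hx4 : x ^ 4 = 1) (hy : y ^ 2 ∈ zpowers a)
    (hxy : x * y ≠ y * x) : ∃ b m, Max2 a b m := by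
  haveI : (zpowers x).Normal := normal_of_le_of_isCyclic (C := zpowers a) inferInstance (zpowers_le.2 hx)
  have hyK : y ∉ centralizer (zpowers x : Set S) := fun h => hxy (h x (mem_zpowers x))
  have hK : (centralizer (zpowers x : Set S)).index = 2 :=
    (eq_top_or_index_eq h2 (index_centralizer_le_of_card_le_sq h2 _ (by
      rw [Nat.card_zpowers]; exact orderOf_le_of_pow_eq_one (by norm_num) hx4))).resolve_left
      fun e => hyK (e ▸ mem_top y)
  have hCK : zpowers a ≤ centralizer (zpowers x : Set S) := fun u hu v hv =>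
    comm_of_mem (isMulCommutative_of_isCyclic inferInstance) (zpowers_le.2 hx hv) hu
  have hya : y ∉ zpowers a := fun h => hyK (hCK h)
  have hg : ∀ q : S ⧸ zpowers a, q ∈ zpowers (b : S ⧸ zpowers a) := by
    intro q
    obtain ⟨g, rfl⟩ := QuotientGroup.mk_surjective q
    obtain ⟨u, hu, _, ⟨k, rfl⟩, rfl⟩ := mem_sup_of_normal_left.1 (hab.ge (mem_top g))
    exact ⟨k, by simp only [QuotientGroup.mk_mul, (QuotientGroup.eq_one_iff u).2 hu, one_mul, QuotientGroup.mk_zpow]⟩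
  have h1 : zpowers a ⊔ zpowers y = ⊤ := by
    rcases mem_zpowers_or_exists_pow (h2.to_quotient _) (hg y) with ⟨k, hk⟩ | ⟨k, hk⟩
    · rw [eq_top_iff, ← hab]
      refine sup_le le_sup_left (zpowers_le.2 ?_)
      simp only [← QuotientGroup.mk_zpow, QuotientGroup.eq] at hk
      exact (mul_mem_cancel_left (inv_mem (mem_sup_right (zpow_mem_zpowers y k)))).1 (mem_sup_left hk)
    · rw [← QuotientGroup.mk_zpow, ← QuotientGroup.mk_pow, QuotientGroup.eq] at hk
      exact absurd (inv_mem_iff.1 ((mul_mem_cancel_right (sq_mem_of_index_two hK _)).1 (hCK hk))) hyK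
  have hi : (zpowers a).index = 2 := by
    have h3 := card_sup_zpowers (p := 2) hya hy
    rw [h1, card_top, ← (zpowers a).card_mul_index, mul_comm] at h3
    exact Nat.eq_of_mul_eq_mul_right Nat.card_pos h3
  obtain ⟨n, hn⟩ := IsPGroup.iff_orderOf.1 h2 a
  obtain ⟨m, rfl⟩ : ∃ m, n = m + 2 := by
    refine Nat.exists_eq_add_of_le' (not_lt.1 fun h => hyK ?_)
    have h3 : Nat.card (zpowers a) ≤ 2 := by
      rw [Nat.card_zpowers, hn]; exact Nat.pow_le_pow_right two_pos (show n ≤ 1 by omega)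
    exact fun v hv => (mem_center_iff.1 (le_center_of_card_le h2 _ h3 (zpowers_le.2 hx hv)) y).symm
  obtain ⟨c, h | ⟨hc, hm, -, h⟩⟩ := cyclic_index_two hn hi ⟨x, y, hxy⟩
  · exact ⟨c, m, h⟩
  exfalso
  refine hyK ((sup_le hCK (zpowers_le.2 ?_)) ((sup_zpowers_eq_top_of_index_two hi hc).ge (mem_top y)))
  rcases mem_zpowers_or_exists_pow h2 hx with ⟨k, hk⟩ | ⟨k, hk⟩
  · have h3 : orderOf a ∣ 4 := orderOf_dvd_of_pow_eq_one (by
      rw [← hk, ← zpow_natCast, ← zpow_mul, mul_comm, zpow_mul, zpow_natCast, hx4, one_zpow])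
    rw [hn] at h3
    have := (Nat.pow_dvd_pow_iff_le_right one_lt_two).1 (show 2 ^ (m + 2) ∣ 2 ^ 2 from h3)
    omega
  · rw [Lib.PGrp.centralizer_zpowers, mem_centralizer_singleton_iff, hk, ← zpow_natCast, ← zpow_mul, mul_comm k, zpow_mul,
      zpow_natCast]
    refine (Commute.zpow_right (mul_inv_eq_iff_eq_mul.1 ?_) k)
    rw [← conj_pow, h, ← pow_mul, add_mul, ← pow_succ, pow_add, ← hn, pow_orderOf_eq_one, mul_one]

theorem key2 {S : Type*} [Group S] [Finite S] (h2 : IsPGroup 2 S) (hm : IsMetacyclic S) {r s : S}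
    (h1 : r ^ 4 = 1) (h3 : s ^ 4 = 1) (h4 : (r * s) ^ 4 = 1) (h5 : r ^ 2 = ⁅r, s⁆)
    (h6 : s ^ 2 = 1 ∨ s ^ 2 = ⁅r, s⁆) (h7 : r * s ≠ s * r) : ∃ a b : S, ∃ m, Max2 a b m := by
  obtain ⟨a, b, hn, hab⟩ := isMetacyclic_iff.1 hm
  have hc : ⁅r, s⁆ ∈ zpowers a := commutator_le_of_sup_zpowers_eq_top hab (commutator_mem r s)
  have hr : r ^ 2 ∈ zpowers a := h5 ▸ hc
  have hs : s ^ 2 ∈ zpowers a := h6.elim (fun h => h ▸ one_mem _) fun h => h ▸ hc
  refine ⟨a, ?_⟩
  by_cases k1 : r ∈ zpowers a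
  · exact key h2 hab k1 h1 hs h7
  by_cases k2 : s ∈ zpowers a
  · exact key h2 hab k2 h3 hr h7.symm
  refine key h2 hab (x := r * s) ?_ h4 hs fun e => h7 (mul_right_cancel (b := s) (by rw [e, mul_assoc]))
  have hq : IsCyclic (S ⧸ zpowers a) := (isCyclic_quotient_iff _).2 ⟨b, hab⟩
  have ho : ∀ x : S, x ∉ zpowers a → x ^ 2 ∈ zpowers a → orderOf (x : S ⧸ zpowers a) = 2 := fun x h h' =>
    orderOf_eq_prime (by rw [← QuotientGroup.mk_pow]; exact (QuotientGroup.eq_one_iff _).2 h')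
      ((QuotientGroup.eq_one_iff _).not.2 h)
  have e := eq_of_card_eq_of_isCyclic (isCyclic_top_iff.2 hq) (le_top (a := zpowers (r : S ⧸ zpowers a)))
    (le_top (a := zpowers (s : S ⧸ zpowers a))) (by rw [Nat.card_zpowers, Nat.card_zpowers, ho r k1 hr, ho s k2 hs])
  have hs2 : (s : S ⧸ zpowers a) ^ 2 = 1 := ho s k2 hs ▸ pow_orderOf_eq_one _
  rcases Meta2.eq_or_of_mem_zpowers hs2 (e ▸ mem_zpowers _ : (r : S ⧸ zpowers a) ∈ _) with h | h
  · exact absurd ((QuotientGroup.eq_one_iff _).1 h) k1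
  · rw [← QuotientGroup.eq_one_iff, QuotientGroup.mk_mul, h, ← sq, hs2]

theorem key3 {S D : Type*} [Group S] [Group D] [Finite S] (h2 : IsPGroup 2 S) (hm : IsMetacyclic S) (f : D →* S)
    (hf : Function.Injective f) {r s : D}
    (h1 : r ^ 4 = 1) (h3 : s ^ 4 = 1) (h4 : (r * s) ^ 4 = 1) (h5 : r ^ 2 = r * s * r⁻¹ * s⁻¹)
    (h6 : s ^ 2 = 1 ∨ s ^ 2 = r * s * r⁻¹ * s⁻¹) (h7 : r * s ≠ s * r) : ∃ a b : S, ∃ m, Max2 a b m := by
  refine key2 h2 hm (r := f r) (s := f s) (by rw [← map_pow, h1, map_one]) (by rw [← map_pow, h3, map_one])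
    (by rw [← map_mul, ← map_pow, h4, map_one]) (by simp [← map_pow, h5, commutatorElement_def])
    (h6.imp (fun h => by rw [← map_pow, h, map_one]) fun h => by simp [← map_pow, h, commutatorElement_def])
    fun e => h7 (hf (by rw [map_mul, map_mul, e]))


/-- Let S be a finite 2-group of sectional 2-rank at most 2 that contains a subgroup isomorphic to the dihedral group of order 8 or to the quaternion group of order 8. Then S is dihedral of order at least 8, semidihedral of order at least 16 (order 2^(k+4) with an element a of order 2^(k+3) and an involution b with b a b⁻¹ = a^(2^(k+2)−1)), or generalized quaternion of order at least 8. -/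
theorem result {S : Type*} [Group S] [Finite S] (h2 : IsPGroup 2 S) (hr : Cfsg.SectionalPRankLE 2 2 S)
    (hsub : ∃ H : Subgroup S, Nonempty (↥H ≃* DihedralGroup 4) ∨ Nonempty (↥H ≃* QuaternionGroup 2)) :
    ((∃ k : ℕ, Nonempty (S ≃* DihedralGroup (2 ^ (k + 2)))) ∨
      (∃ k : ℕ, Nat.card S = 2 ^ (k + 4) ∧ ∃ a b : S, orderOf a = 2 ^ (k + 3) ∧ orderOf b = 2 ∧ b * a * b⁻¹ = a ^ (2 ^ (k + 2) - 1)) ∨
      (∃ k : ℕ, Nonempty (S ≃* QuaternionGroup (2 ^ (k + 1))))) := by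
  have hm := Meta2.of_sectional h2 hr
  obtain ⟨a, b, m, h⟩ : ∃ a b : S, ∃ m, Max2 a b m := by
    obtain ⟨H, ⟨⟨e⟩⟩ | ⟨⟨e⟩⟩⟩ := hsub
    · exact key3 h2 hm (H.subtype.comp e.symm.toMonoidHom) (H.subtype_injective.comp e.symm.injective)
        (r := .r 1) (s := .sr 0) (by decide) (by decide) (by decide) (by decide) (by decide) (by decide)
    · exact key3 h2 hm (H.subtype.comp e.symm.toMonoidHom) (H.subtype_injective.comp e.symm.injective)
        (r := .a 1) (s := .xa 0) (by decide) (by decide) (by decide) (by decide) (by decide) (by decide)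
  rcases h.rel with e | e | ⟨h1, h3, h4⟩
  · exact .inl ⟨m, h.dihedral e.1 e.2⟩
  · exact .inr (.inr ⟨m, h.quaternion e.1 e.2⟩)
  · obtain ⟨k, rfl⟩ := Nat.exists_eq_add_of_le' h1
    exact .inr (.inl ⟨k, h.card, a, b, h.ord, h.orderOf_b h3, h4⟩)

end Cfsg.Agent.S4398
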