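import Cfsg.Statements.S4400
import Cfsg.Agent.Lib.Core.Nilpotent
import Cfsg.Agent.Lib.Core.Frattini
import Cfsg.Agent.Lib.Coprime.Kulakoff
import Cfsg.Agent.Lib.Coprime.Basic

set_option autoImplicit false
open Cfsg

open Subgroup Cfsg.Lib
open scoped commutatorElement
namespace Cfsg.Agent.S4400

theorem eq_of_card_two {G : Type*} [Group G] {K Z : Subgroup G} (hZ : Nat.card Z = 2) (h : K ≤ Z) (hK : K ≠ ⊥) :
    K = Z := by
  haveI : Finite Z := Nat.finite_of_card_ne_zero (by omega)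
  haveI : Finite K := Finite.of_injective _ (inclusion_injective h)
  have := (one_lt_card_iff_ne_bot K).2 hK
  exact eq_of_le_of_card_ge h (by omega)

theorem center_le {P : Type*} [Group P] [Finite P] (h2 : IsPGroup 2 P) (hP : ¬ IsMulCommutative P)
    (hZ : Nat.card (center P) = 2) : center P ≤ frattini P ∧ 4 * Nat.card (frattini P) ≤ Nat.card P := by
  haveI := h2.isNilpotent
  constructor
  · refine le_trans ?_ (Core.commutator_le_frattini_of_isPGroup h2)
    rw [← eq_of_card_two hZ inf_le_right (Core.inf_center_ne_bot_of_normal (_root_.commutator P) fun h => hP ?_)]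
    · exact inf_le_left
    · exact (_root_.commutator_eq_bot_iff P).1 h
  · have := Nat.le_of_dvd (Nat.pos_of_ne_zero FiniteIndex.index_ne_zero)
      (Coprime.sq_dvd_index_frattini h2 fun h => hP inferInstance)
    rw [← (frattini P).index_mul_card]
    exact Nat.mul_le_mul_right _ this

/-- Let S be a finite 2-group of sectional 2-rank at most 4, and let P and Q be normal non-abelian subgroups of S whose centres have order 2 and are different. Then P and Q commute elementwise and intersect trivially, and PQ contains its own centralizer in S. -/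
theorem result {S : Type*} [Group S] [Finite S] (h2 : IsPGroup 2 S) (hr : Cfsg.SectionalPRankLE 2 4 S)
    (P Q : Subgroup S) [P.Normal] [Q.Normal] (hP : ¬ IsMulCommutative ↥P) (hQ : ¬ IsMulCommutative ↥Q)
    (hZP : Nat.card ↥(Subgroup.center ↥P) = 2) (hZQ : Nat.card ↥(Subgroup.center ↥Q) = 2)
    (hne : (Subgroup.center ↥P).map P.subtype ≠ (Subgroup.center ↥Q).map Q.subtype) :
    ⁅P, Q⁆ = ⊥ ∧ P ⊓ Q = ⊥ ∧ Subgroup.centralizer ((P ⊔ Q : Subgroup S) : Set S) ≤ P ⊔ Q := by
  haveI := h2.isNilpotent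
  have h1 : P ⊓ Q = ⊥ := by
    by_contra h
    have := Core.inf_center_ne_bot_of_normal _ h
    have key : ∀ R : Subgroup S, Nat.card (center R) = 2 → P ⊓ Q ≤ R → P ⊓ Q ⊓ center S = (center R).map R.subtype :=
      fun R hR hle => eq_of_card_two (by rwa [card_map_of_injective R.subtype_injective])
        (fun x hx => ⟨⟨x, hle hx.1⟩, mem_center_iff.2 fun g => Subtype.ext (mem_center_iff.1 hx.2 g), rfl⟩) this
    exact hne ((key P hZP inf_le_left).symm.trans (key Q hZQ inf_le_right))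
  have hc : ∀ p ∈ P, ∀ q ∈ Q, Commute p q := fun p hp q hq =>
    commute_of_normal_of_disjoint P Q inferInstance inferInstance (disjoint_iff.2 h1) p q hp hq
  refine ⟨eq_bot_iff.2 (h1 ▸ commutator_le_inf P Q), h1, fun c0 hc0 => by_contra fun hn => ?_⟩
  obtain ⟨c, hcC, hcn, hc2⟩ : ∃ c ∈ centralizer ((P ⊔ Q : Subgroup S) : Set S), c ∉ P ⊔ Q ∧ c ^ 2 ∈ P ⊔ Q := by
    obtain ⟨k, hk⟩ := h2 c0
    have : c0 ^ 2 ^ k ∈ P ⊔ Q := hk ▸ one_mem _
    clear hk
    induction k with
    | zero => exact absurd (by simpa using this) hn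
    | succ k ih =>
      by_cases h : c0 ^ 2 ^ k ∈ P ⊔ Q
      · exact ih h
      · exact ⟨_, pow_mem hc0 _, h, by rwa [← pow_mul, ← pow_succ]⟩
  obtain ⟨zP, cP⟩ := center_le (h2.to_subgroup P) hP hZP
  obtain ⟨zQ, cQ⟩ := center_le (h2.to_subgroup Q) hQ hZQ
  haveI := Core.normal_frattiniOf P
  haveI := Core.normal_frattiniOf Q
  set N := (frattini P).map P.subtype ⊔ (frattini Q).map Q.subtype with hN
  have hcc : ∀ x ∈ P ⊔ Q, Commute x c := fun x hx => hcC x hx
  have hc2N : c ^ 2 ∈ N := by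
    obtain ⟨p, hp, q, hq, e⟩ := mem_sup_of_normal_left.1 hc2
    refine e ▸ mul_mem (mem_sup_left ⟨⟨p, hp⟩, zP (mem_center_iff.2 fun x => Subtype.ext ?_), rfl⟩)
      (mem_sup_right ⟨⟨q, hq⟩, zQ (mem_center_iff.2 fun x => Subtype.ext ?_), rfl⟩)
    · change (x : S) * p = p * x
      rw [eq_mul_inv_of_mul_eq e]
      exact (((hcc x (mem_sup_left x.2)).pow_right 2).mul_right (hc x x.2 q hq).inv_right).eq
    · change (x : S) * q = q * x
      rw [eq_inv_mul_of_mul_eq e]
      exact ((hc p hp x x.2).symm.inv_right.mul_right ((hcc x (mem_sup_right x.2)).pow_right 2)).eq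
  have sq : ∀ x : (↥(P ⊔ Q ⊔ zpowers c) ⧸ N.subgroupOf (P ⊔ Q ⊔ zpowers c)), x ^ 2 = 1 := fun x => by
    obtain ⟨⟨x, hx⟩, rfl⟩ := QuotientGroup.mk_surjective x
    rw [← QuotientGroup.mk_pow, QuotientGroup.eq_one_iff, mem_subgroupOf]
    obtain ⟨y, hy, _, ⟨i, rfl⟩, rfl⟩ := mem_sup_of_normal_left.1 hx
    obtain ⟨p, hp, q, hq, rfl⟩ := mem_sup_of_normal_left.1 hy
    change (p * q * c ^ i) ^ 2 ∈ N
    rw [((hcc _ hy).zpow_right i).mul_pow, (hc p hp q hq).mul_pow, ← zpow_natCast (c ^ i), ← zpow_mul, mul_comm i,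
      zpow_mul, zpow_natCast]
    exact mul_mem (mul_mem (mem_sup_left (Core.pow_mem_frattiniOf (h2.to_subgroup P) hp))
      (mem_sup_right (Core.pow_mem_frattiniOf (h2.to_subgroup Q) hq))) (zpow_mem hc2N i)
  have h16 := hr (P ⊔ Q ⊔ zpowers c) (N.subgroupOf _) ⊤ ⟨⟨fun a b => Subtype.ext (by
    have h : ∀ g : (↥(P ⊔ Q ⊔ zpowers c) ⧸ N.subgroupOf (P ⊔ Q ⊔ zpowers c)), g⁻¹ = g := fun g =>
      inv_eq_of_mul_eq_one_right (by rw [← pow_two, sq])
    rw [coe_mul, coe_mul, ← h (_ * _), mul_inv_rev, h, h])⟩⟩ fun a _ => sq a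
  have hNle : N ≤ P ⊔ Q := sup_le_sup (map_subtype_le _) (map_subtype_le _)
  have e1 := card_eq_card_quotient_mul_card_subgroup (N.subgroupOf (P ⊔ Q ⊔ zpowers c))
  rw [card_top] at h16
  have cN : Nat.card N = Nat.card (frattini P) * Nat.card (frattini Q) := by
    rw [hN, Coprime.card_sup_of_disjoint' (le_normalizer_of_normal)
      (eq_bot_iff.2 (h1 ▸ inf_le_inf (map_subtype_le _) (map_subtype_le _))),
      card_map_of_injective P.subtype_injective, card_map_of_injective Q.subtype_injective]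
  rw [Nat.card_congr (subgroupOfEquivOfLe (hNle.trans le_sup_left)).toEquiv, cN] at e1
  have e2 := Coprime.card_sup_of_disjoint' (K := P) (A := Q) le_normalizer_of_normal h1
  have e3 : P ⊔ Q = P ⊔ Q ⊔ zpowers c := eq_of_le_of_card_ge le_sup_left (by
    rw [e1, e2]
    calc _ ≤ 2 ^ 4 * (Nat.card (frattini P) * Nat.card (frattini Q)) := Nat.mul_le_mul_right _ h16
      _ = 4 * Nat.card (frattini P) * (4 * Nat.card (frattini Q)) := by ring
      _ ≤ _ := Nat.mul_le_mul cP cQ)
  exact hcn (e3 ▸ mem_sup_right (mem_zpowers c))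

end Cfsg.Agent.S4400
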