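import Cfsg.Statements.S4401
import Cfsg.Agent.Lib.SRank.Basic
import Cfsg.Agent.Lib.Amalg.Conj
import Cfsg.Agent.Lib.Known2.ES
import Cfsg.Agent.Lib.PGrp.Basic

set_option autoImplicit false
open Cfsg

namespace Cfsg.Agent.S4401

open Subgroup Cfsg.Lib Cfsg.Lib.SRank Cfsg.Lib.Amalg
open scoped commutatorElement

variable {G : Type*} [Group G] [Finite G] {P Q R : Subgroup G} {z y x : G}

theorem sr_of (h : SectionalPRankLE 2 4 G) : SR 16 (⊤ : Subgroup G) := fun H _ K hK => by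
  haveI : (K.subgroupOf H).Normal := ⟨fun n hn g => by
    have := mul_mem (comm_mem hK g.2 n.2) (show (n : G) ∈ K from hn)
    rw [inv_mul_cancel_right] at this; exact this⟩
  have h2 : ∀ a : H ⧸ K.subgroupOf H, a * a = 1 := fun a => by
    obtain ⟨a, rfl⟩ := QuotientGroup.mk_surjective a
    exact (QuotientGroup.eq_one_iff (a * a)).2 (hK a a.2)
  have := h H (K.subgroupOf H) ⊤ ⟨⟨fun a b => Subtype.ext (by
    have e := h2 (a.1 * b.1)
    rw [coe_mul, coe_mul, ← inv_eq_of_mul_eq_one_right e, mul_inv_rev, inv_eq_of_mul_eq_one_right (h2 a),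
      inv_eq_of_mul_eq_one_right (h2 b)])⟩⟩ fun a _ => by rw [pow_two, h2]
  rwa [card_top] at this

theorem sec_of' (hG : IsPGroup 2 G) (h : SR 4 P) : SectionalPRankLE 2 2 P := by
  refine sec_of ⟨⊤, (hG.to_subgroup P).to_subgroup ⊤, fun _ h => top_le_iff.1 h⟩ fun H _ K hK => ?_
  rw [← relIndex_map_map_of_injective _ _ P.subtype_injective]
  refine h _ (map_subtype_le H) _ ?_
  rintro _ ⟨a, ha, rfl⟩
  exact ⟨_, hK a ha, rfl⟩

omit [Finite G] in
theorem le_nrm {H K : Subgroup G} (hc : ∀ a ∈ H, ∀ b ∈ K, a * b = b * a) : H ≤ 𝐍 K :=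
  le_normalizer_of_cj_le fun a ha => cj_le_iff'.2 fun b hb => by rwa [hc a ha b hb, mul_inv_cancel_right]

theorem prod {H1 H2 K1 K2 : Subgroup G} (hc : ∀ a ∈ H1, ∀ b ∈ H2, a * b = b * a) (h : H1 ⊓ H2 ≤ K1 ⊓ K2)
    (s1 : ∀ a ∈ H1, a * a ∈ K1) (s2 : ∀ a ∈ H2, a * a ∈ K2) :
    (∀ a ∈ H1 ⊔ H2, a * a ∈ (K1 ⊓ H1) ⊔ (K2 ⊓ H2)) ∧
      K1.relIndex H1 * K2.relIndex H2 ≤ ((K1 ⊓ H1) ⊔ (K2 ⊓ H2)).relIndex (H1 ⊔ H2) := by
  refine ⟨fun c hc' => ?_, ?_⟩
  · obtain ⟨a, ha, b, hb, rfl⟩ := (mem_sup_of_le_normalizer (le_nrm hc)).1 hc'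
    rw [show a * b * (a * b) = a * (b * a) * b by group, ← hc a ha b hb,
      show a * (a * b) * b = a * a * (b * b) by group]
    exact mul_mem_sup ⟨s1 a ha, mul_mem ha ha⟩ ⟨s2 b hb, mul_mem hb hb⟩
  rw [← relIndex_mul_relIndex _ (H1 ⊔ (K2 ⊓ H2)) _ (sup_le_sup_right inf_le_right _)
    (sup_le_sup_left inf_le_right _)]
  refine Nat.mul_le_mul (le_trans ?_ (rel_mono le_sup_left)) (le_trans ?_ (rel_mono le_sup_right)) <;>
    rw [← inf_relIndex_right (_ ⊔ _)] <;> refine relIndex_le_of_le_left (fun c hc' => ?_) (rel_ne _ _)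
  · obtain ⟨a, ha, b, hb, rfl⟩ := (mem_sup_of_le_normalizer
      (le_nrm (H := K1 ⊓ H1) (K := K2 ⊓ H2) fun a ha b hb => hc a ha.2 b hb.2)).1 hc'.1
    exact K1.mul_mem ha.1 (h ⟨(H1.mul_mem_cancel_left ha.2).1 hc'.2, hb.2⟩).1
  · obtain ⟨a, ha, b, hb, rfl⟩ := (mem_sup_of_le_normalizer
      (le_nrm (H := H1) (K := K2 ⊓ H2) fun a ha b hb => hc a ha b hb.2)).1 hc'.1
    exact K2.mul_mem (h ⟨ha, (H2.mul_mem_cancel_right hb.2).1 hc'.2⟩).2 hb.1

structure T (P : Subgroup G) (z : G) : Prop where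
  pg : IsPGroup 2 G
  mem : z ∈ P
  ne : z ≠ 1
  sq : z * z = 1
  cen : P ≤ centralizer {z}
  uniq : ∀ x ∈ P, (∀ g ∈ P, g * x = x * g) → x = 1 ∨ x = z
  nonab : ¬ IsMulCommutative P
  nrm : ∀ s ∈ centralizer {z}, ∀ x ∈ P, s * x * s⁻¹ ∈ P

omit [Finite G] in
theorem T.conj (h : T P z) (g : G) : T (cj g P) (g * z * g⁻¹) := by
  refine ⟨h.pg, conj_mem_cj g h.mem, by simpa using h.ne, by rw [conj_mul, h.sq, mul_one, mul_inv_cancel],
    cj_centralizer_singleton g z ▸ cj_mono g h.cen, fun x hx hc => ?_,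
    fun hc => h.nonab (cj_inv_cj g P ▸ isMulCommutative_cj g⁻¹ hc), fun s hs x hx => ?_⟩
  · obtain ⟨x, hx', rfl⟩ := mem_cj'.1 hx
    rcases h.uniq x hx' fun k hk => by simpa using hc _ (conj_mem_cj g hk) with rfl | rfl
    · exact Or.inl (by simp)
    · exact Or.inr rfl
  · rw [← cj_centralizer_singleton, mem_cj] at hs
    have := h.nrm _ hs _ (mem_cj.1 hx)
    rw [mem_cj]; convert this using 1; group

theorem T.mem_of (h : T P z) {D : Subgroup G} (hD : D ≤ P) (hn : P ≤ 𝐍 D) (h1 : D ≠ ⊥) : z ∈ D := by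
  obtain ⟨x, hx, h2, -, h3⟩ := central_mod (M := ⊥) (h.pg.to_subgroup P) hD (le_top.trans (normalizer_eq_top ⊥).ge) hn (by simpa using h1)
  rcases h.uniq x (hD hx) fun g hg => (commutatorElement_eq_one_iff_mul_comm.1 (h3 g hg)).symm with rfl | rfl
  · exact absurd (one_mem _) h2
  · exact hx

theorem T.mem_sq (h : T P z) {K : Subgroup G} (hK : ∀ a ∈ P, a * a ∈ K) : z ∈ K := by
  refine (h.mem_of (D := P ⊓ K) inf_le_left (le_normalizer_of_cj_le fun g hg => cj_le_iff'.2 fun a ha =>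
    ⟨P.mul_mem (P.mul_mem hg ha.1) (P.inv_mem hg), ?_⟩) fun e => h.nonab ⟨⟨fun a b => Subtype.ext ?_⟩⟩).2
  · have := mul_mem (comm_mem hK hg ha.1) ha.2
    rwa [inv_mul_cancel_right] at this
  · exact commutatorElement_eq_one_iff_mul_comm.1 (mem_bot.1 (e ▸ ⟨(⁅a, b⁆ : P).2, comm_mem hK a.2 b.2⟩))

theorem T.big (h : T P z) : ∃ K : Subgroup G, (∀ a ∈ P, a * a ∈ K) ∧ 3 ≤ K.relIndex P := by
  refine ⟨(frattini P).map P.subtype, fun a ha => ⟨⟨a, ha⟩ ^ 2, PGrp.pow_mem_frattini (h.pg.to_subgroup P) _,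
    by simp [pow_two]⟩, ?_⟩
  by_contra h3
  rw [relIndex, map_subtype_subgroupOf] at h3
  have h4 : (frattini P).index ≠ 0 := index_ne_zero_of_finite
  haveI : IsCyclic (P ⧸ frattini P) := isCyclic_of_card_dvd_prime (p := 2) (by
    rw [← index_eq_card]; rcases (by omega : (frattini P).index = 1 ∨ (frattini P).index = 2) with e | e <;> simp [e])
  haveI := Core.isCyclic_of_quotient_frattini (G := P)
  exact h.nonab inferInstance

theorem T.two (h : T P z) (k : T Q y) (hne : z ≠ y) (h1 : P ≤ centralizer {y}) (h2 : Q ≤ centralizer {z}) :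
    P ⊓ Q = ⊥ ∧ ∀ a ∈ P, ∀ b ∈ Q, a * b = b * a := by
  have e : P ⊓ Q = ⊥ := by
    by_contra e
    have h3 := h.mem_of inf_le_left (le_normalizer_of_cj_le fun g hg => cj_le_iff'.2 fun a ha =>
      ⟨P.mul_mem (P.mul_mem hg ha.1) (P.inv_mem hg), k.nrm g (h1 hg) a ha.2⟩) e
    rcases k.uniq z h3.2 fun g hg => mem_centralizer_singleton_iff.1 (h2 hg) with h4 | h4
    · exact h.ne h4
    · exact hne h4
  refine ⟨e, fun a ha b hb => commutatorElement_eq_one_iff_mul_comm.1 (mem_bot.1 (e ▸ ⟨?_, ?_⟩))⟩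
  · rw [commutatorElement_def, mul_assoc, mul_assoc, ← mul_assoc b]
    exact mul_mem ha (by simpa using h.nrm b (h2 hb) _ (inv_mem ha))
  · exact Q.mul_mem (k.nrm a (h1 ha) b hb) (Q.inv_mem hb)

theorem T.three (hr : SR 16 (⊤ : Subgroup G)) (h : T P z) (k : T Q y) (l : T R x)
    (c1 : P ⊓ Q = ⊥ ∧ ∀ a ∈ P, ∀ b ∈ Q, a * b = b * a) (c2 : ∀ a ∈ P, ∀ b ∈ R, a * b = b * a)
    (c3 : ∀ a ∈ Q, ∀ b ∈ R, a * b = b * a) : False := by
  obtain ⟨K1, s1, b1⟩ := h.big
  obtain ⟨K2, s2, b2⟩ := k.big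
  obtain ⟨K3, s3, b3⟩ := l.big
  obtain ⟨s4, b4⟩ := prod c1.2 (c1.1 ▸ bot_le) s1 s2
  have c4 : ∀ c ∈ P ⊔ Q, ∀ r ∈ R, c * r = r * c := fun c hc r hr => by
    obtain ⟨a, ha, b, hb, rfl⟩ := (mem_sup_of_le_normalizer (le_nrm c1.2)).1 hc
    exact (Commute.mul_left (c2 a ha r hr) (c3 b hb r hr)).eq
  have u : ∀ {P K : Subgroup G} {z a : G}, T P z → (∀ a ∈ P, a * a ∈ K) → a ∈ P →
      (∀ g ∈ P, g * a = a * g) → a ∈ K := fun h s ha hc => by
    rcases h.uniq _ ha hc with rfl | rfl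
    · exact one_mem _
    · exact h.mem_sq s
  obtain ⟨s5, b5⟩ := prod c4 (fun c hc => ⟨by
    obtain ⟨a, ha, b, hb, rfl⟩ := (mem_sup_of_le_normalizer (le_nrm c1.2)).1 hc.1
    refine mul_mem_sup ⟨u h s1 ha fun g hg => ?_, ha⟩ ⟨u k s2 hb fun g hg => ?_, hb⟩
    · have := (Commute.mul_right (c2 g hg _ hc.2) (Commute.inv_right (c1.2 g hg b hb))).eq
      rwa [mul_inv_cancel_right] at this
    · have := (Commute.mul_right (Commute.inv_right (c1.2 a ha g hg).symm) (c3 g hg _ hc.2)).eq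
      rwa [inv_mul_cancel_left] at this, u l s3 hc.2 fun g hg => (c4 c hc.1 g hg).symm⟩) s4 s3
  have := hr _ le_top _ s5
  have := Nat.mul_le_mul ((Nat.mul_le_mul b1 b2).trans b4) b3
  omega

theorem T.main (hr : SR 16 (⊤ : Subgroup G)) (h : T P z) (hne : centralizer {z} ≠ ⊤) :
    SR 4 P ∧ (centralizer {z}).index = 2 := by
  obtain ⟨t, -, t1, t2, t3⟩ := exists_norm_sq (h.pg.to_subgroup ⊤) le_top hne
  have ne : ∀ a b : G, b⁻¹ * a ∉ centralizer {z} → a * z * a⁻¹ ≠ b * z * b⁻¹ := fun a b h1 e =>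
    h1 (mem_centralizer_singleton_iff.2 (by
      rw [show b⁻¹ * a * z = b⁻¹ * (a * z * a⁻¹) * a by group, e]; group))
  have two : ∀ a b : G, b⁻¹ * a ∉ centralizer {z} → cj (b⁻¹ * a) P ≤ centralizer {z} →
      cj (a⁻¹ * b) P ≤ centralizer {z} → cj a P ⊓ cj b P = ⊥ ∧ ∀ c ∈ cj a P, ∀ d ∈ cj b P, c * d = d * c :=
    fun a b h1 h2 h3 => (h.conj a).two (h.conj b) (ne a b h1)
      (by rwa [← cj_centralizer_singleton, le_cj_iff, ← cj_mul])
      (by rwa [← cj_centralizer_singleton, le_cj_iff, ← cj_mul])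
  have three : ∀ N : Subgroup G, (∀ g ∈ N, cj g P ≤ centralizer {z}) → t ∈ N → ∀ u ∈ N,
      u ∈ centralizer {z} ∨ t⁻¹ * u ∈ centralizer {z} := fun N hN ht u hu => by
    by_contra hn
    rw [not_or] at hn
    have w := fun a b ha hb h1 => two a b h1 (hN _ (N.mul_mem (N.inv_mem hb) ha)) (hN _ (N.mul_mem (N.inv_mem ha) hb))
    exact (h.conj u).three hr (h.conj t) (h.conj 1) (w u t hu ht hn.2) (w u 1 hu N.one_mem (by simpa using hn.1)).2
      (w t 1 ht N.one_mem (by simpa using t1)).2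
  have n1 : ∀ g ∈ 𝐍 (centralizer {z}), cj g P ≤ centralizer {z} := fun g hg =>
    cj_le_of_le_of_mem_normalizer h.cen hg
  have d1 := three _ n1 t2
  refine ⟨fun H hH K hK => ?_, ?_⟩
  · have w := two t 1 (by simpa using t1) (n1 _ (by simpa using t2)) (n1 _ (by simpa using t2))
    rw [cj_one] at w
    obtain ⟨s, b⟩ := prod (H1 := cj t H) (H2 := H) (K1 := cj t K) (fun a ha b hb => w.2 a (cj_mono t hH ha) b (hH hb))
      ((inf_le_inf (cj_mono t hH) hH).trans (w.1 ▸ bot_le)) (fun a ha => by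
        obtain ⟨a, ha', rfl⟩ := mem_cj'.1 ha
        rw [conj_mul]; exact conj_mem_cj t (hK a ha')) hK
    have := b.trans (hr _ le_top _ s)
    rw [relIndex_cj] at this
    nlinarith
  have sq : ∀ g ∈ 𝐍 (centralizer {z}), g * g ∈ centralizer {z} := fun g hg => by
    rcases d1 g hg with e | e
    · exact mul_mem e e
    · rw [show g * g = t * (t⁻¹ * g) * t⁻¹ * (t * t) * (t⁻¹ * g) * ((t⁻¹ * g)⁻¹ * t⁻¹ * g) by group]
      simpa using mul_mem (mul_mem ((mem_normalizer_iff.1 t2 _).1 e) t3) e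
  have n2 : ∀ u ∈ 𝐍 (𝐍 (centralizer {z})), cj u P ≤ centralizer {z} := fun u hu x hx => by
    have k := h.conj u
    have l1 : centralizer {u * z * u⁻¹} ≤ 𝐍 (centralizer {z}) :=
      cj_centralizer_singleton u z ▸ cj_le_of_le_of_mem_normalizer le_normalizer hu
    have hz : z ∈ centralizer {u * z * u⁻¹} := h.mem_sq fun a ha => by
      have := sq _ ((mem_normalizer_iff.1 (inv_mem hu) a).1 (le_normalizer (h.cen ha)))
      rw [← cj_centralizer_singleton, mem_cj]; convert this using 1; group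
    refine (d1 x (l1 (k.cen hx))).resolve_right fun e => ?_
    have e1 : x * z * x⁻¹ = t * z * t⁻¹ := by
      by_contra e1
      rw [show x * z * x⁻¹ = t * (t⁻¹ * x * z) * x⁻¹ by group, mem_centralizer_singleton_iff.1 e] at e1
      exact e1 (by group)
    have e2 : z * (t * z * t⁻¹) ∈ cj u P := by
      have := mul_mem (k.nrm z hz x hx) (inv_mem hx)
      rwa [inv_eq_of_mul_eq_one_right h.sq, mul_assoc z, mul_assoc z, e1] at this
    have e0 : ∀ g ∈ centralizer {z}, g * (t * z * t⁻¹) = t * z * t⁻¹ * g := fun g hg => by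
      rw [← mem_centralizer_singleton_iff, ← cj_centralizer_singleton, cj_of_mem_normalizer t2]; exact hg
    have e3 : ∀ g ∈ 𝐍 (centralizer {z}), g * (z * (t * z * t⁻¹)) = z * (t * z * t⁻¹) * g := by
      have a : ∀ g ∈ centralizer {z}, Commute g (z * (t * z * t⁻¹)) := fun g hg =>
        Commute.mul_right (mem_centralizer_singleton_iff.1 hg) (e0 g hg)
      intro g hg
      rcases d1 g hg with e | e
      · exact a g e
      · rw [← mul_inv_cancel_left t g]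
        refine (Commute.mul_left ?_ (a _ e)).eq
        show t * _ = _
        conv_lhs => rw [e0 z (h.cen h.mem)]
        rw [show t * (t * z * t⁻¹ * z) = t * t * z * t⁻¹ * z by group,
          mem_centralizer_singleton_iff.1 t3, show z * (t * t) * t⁻¹ * z = z * (t * z) by group]
        group
    rcases k.uniq _ e2 fun g hg => e3 g (l1 (k.cen hg)) with e4 | e4
    · exact ne t 1 (by simpa using t1) (by
        rw [one_mul, inv_one, mul_one, ← inv_eq_of_mul_eq_one_right e4, inv_eq_of_mul_eq_one_right h.sq])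
    · have := card_le_of_le (fun g hg => mem_centralizer_singleton_iff.2 (e4 ▸ e3 g hg) :
        𝐍 (centralizer {z}) ≤ centralizer {u * z * u⁻¹})
      rw [← cj_centralizer_singleton, card_cj] at this
      exact t1 (eq_of_le_of_card_ge le_normalizer this ▸ t2)
  have d2 := three _ n2 (le_normalizer t2)
  have e : 𝐍 (centralizer {z}) = ⊤ := by
    by_contra e
    obtain ⟨u, -, u1, u2, -⟩ := exists_norm_sq (h.pg.to_subgroup ⊤) le_top e
    rcases d2 u u2 with e | e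
    · exact u1 (le_normalizer e)
    · exact u1 ((mul_mem_cancel_left (inv_mem t2)).1 (le_normalizer e))
  exact index_eq_two_iff'.2 ⟨t⁻¹, fun b => (d1 b (e ▸ mem_top b)).elim
    (fun hb => Or.inr ⟨hb, fun h' => t1 (inv_mem_iff.1 ((mul_mem_cancel_right hb).1 h'))⟩)
    fun hb => Or.inl ⟨hb, fun h' => t1 (inv_mem_iff.1 ((mul_mem_cancel_right h').1 hb))⟩⟩

/-- Let S be a finite 2-group of sectional 2-rank at most 4 and P a proper non-abelian subgroup whose centre has order 2. Let S₀ be the centralizer in S of Z(P) and suppose P is normal in S₀. Then either S₀ = S, or P has sectional 2-rank at most 2 and S₀ has index 2 in S. -/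
theorem result {S : Type*} [Group S] [Finite S] (h2 : IsPGroup 2 S) (hr : Cfsg.SectionalPRankLE 2 4 S)
    (P : Subgroup S) (hPlt : P ≠ ⊤) (hP : ¬ IsMulCommutative ↥P) (hZP : Nat.card ↥(Subgroup.center ↥P) = 2)
    (S₀ : Subgroup S) (hS₀ : S₀ = Subgroup.centralizer (((Subgroup.center ↥P).map P.subtype : Subgroup S) : Set S))
    (hPn : ∀ s ∈ S₀, ∀ x ∈ P, s * x * s⁻¹ ∈ P) :
    S₀ = ⊤ ∨ (Cfsg.SectionalPRankLE 2 2 ↥P ∧ S₀.index = 2) := by
  obtain ⟨z, h1, h2', e⟩ := Known2.exists_invol_of_card_two (Z := (center P).map P.subtype)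
    (by rw [card_map_of_injective P.subtype_injective, hZP])
  have hz : z ∈ (center P).map P.subtype := e ▸ mem_zpowers z
  rw [e, zpowers_eq_closure, centralizer_closure] at hS₀
  subst hS₀
  have h : T P z := ⟨h2, map_subtype_le _ hz, h1, h2', fun g hg => by
    obtain ⟨w, hw, rfl⟩ := hz
    exact mem_centralizer_singleton_iff.2 (congrArg Subtype.val (mem_center_iff.1 hw ⟨g, hg⟩)),
    fun x hx hc => by
      have : x ∈ zpowers z := e ▸ ⟨⟨x, hx⟩, mem_center_iff.2 fun g => Subtype.ext (hc g g.2), rfl⟩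
      exact (Known2.mem_zpowers_invol h2').1 this, hP, hPn⟩
  by_cases hne : centralizer {z} = ⊤
  · exact Or.inl hne
  · obtain ⟨a, b⟩ := h.main (sr_of hr) hne
    exact Or.inr ⟨sec_of' h2 a, b⟩

end Cfsg.Agent.S4401
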