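import Cfsg.Statements.S4402
import Cfsg.Agent.Lib.Comp.Dw.Main

set_option autoImplicit false
open Cfsg

namespace Cfsg.Agent.S4402

open Cfsg.Lib.Comp

/-- Let S be a finite 2-group of sectional 2-rank at most 4 and P a proper subgroup isomorphic to the wreath product of the dihedral group of order 8 by a group of order 2 (equivalently, to a Sylow 2-subgroup of the symmetric group of degree 8; order 128). Then Z(S) = Z(P) has order 2, P has index 2 in its normalizer N_S(P), N_S(P)/Z(S) is again isomorphic to that wreath product, and every elementary abelian subgroup V of order 16 that is normal in P satisfies N_S(V) = P. -/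
theorem result {S : Type*} [Group S] [Finite S] (h2 : IsPGroup 2 S) (hr : Cfsg.SectionalPRankLE 2 4 S)
    (P : Subgroup S) (hPlt : P ≠ ⊤) (hP : ∃ T : Sylow 2 (Equiv.Perm (Fin 8)), Nonempty (↥P ≃* ↥(T : Subgroup (Equiv.Perm (Fin 8))))) :
    Subgroup.center S = (Subgroup.center ↥P).map P.subtype ∧ Nat.card ↥(Subgroup.center S) = 2 ∧
    P.relIndex (Subgroup.normalizer (P : Set S)) = 2 ∧
    (∃ (_ : ((Subgroup.center S).subgroupOf (Subgroup.normalizer (P : Set S))).Normal) (T : Sylow 2 (Equiv.Perm (Fin 8))),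
      Nonempty (↥(Subgroup.normalizer (P : Set S)) ⧸ (Subgroup.center S).subgroupOf (Subgroup.normalizer (P : Set S)) ≃*
        ↥(T : Subgroup (Equiv.Perm (Fin 8))))) ∧
    ∀ V : Subgroup S, V ≤ P → (∀ g ∈ P, ∀ v ∈ V, g * v * g⁻¹ ∈ V) → Cfsg.IsElementaryAbelian 2 V → Nat.card ↥V = 16 →
      Subgroup.normalizer (V : Set S) = P := by
  obtain ⟨T, ⟨e⟩⟩ := hP
  obtain ⟨κ, hκ, rfl⟩ := Dw.exists_kappa e
  have hS : Cfsg.Lib.SRank.SR 16 (⊤ : Subgroup S) := Dw.sr_of hr
  refine ⟨(Dw.cen_eq hκ h2 hS).trans (Dw.cen_map hκ).symm, ?_, Dw.idx hκ h2 hS hPlt, Dw.quot hκ h2 hS hPlt,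
    fun V hV hn hE hc => ?_⟩
  · rw [Dw.cen_eq hκ h2 hS, Subgroup.card_map_of_injective hκ, Dw.card_Z]
  have e1 : (V.comap κ).map κ = V := Subgroup.map_comap_eq_self hV
  have := Dw.norm_eq hκ h2 hS (V := V.comap κ) (Dw.cases16
    (fun g v hv => by simpa only [Subgroup.mem_comap, map_mul, map_inv] using hn _ ⟨g, rfl⟩ _ hv)
    (fun v hv w hw => hκ (by
      rw [map_mul, map_mul]; exact congrArg Subtype.val (hE.1.is_comm.comm (⟨_, hv⟩ : V) ⟨_, hw⟩)))
    (fun v hv => hκ (by rw [map_mul, map_one, ← sq]; exact hE.2 _ hv))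
    (by rw [← Subgroup.card_map_of_injective hκ, e1, hc])) (e1.symm ▸ hn)
  rwa [e1] at this

end Cfsg.Agent.S4402
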