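import Cfsg.Statements.S4403
import Cfsg.Agent.Lib.Layer.Misc
import Cfsg.Agent.Lib.Coprime.CycSyl
import Cfsg.Agent.Lib.PGrp.Cyclic

set_option autoImplicit false
open Cfsg

namespace Cfsg.Agent.S4403

open Subgroup Cfsg.Lib.Core Cfsg.Lib.Amalg Cfsg.Lib.BG1 Cfsg.Lib.Layer

theorem case1 {K : Type*} [Group K] [Finite K] (p : ℕ) [hp : Fact p.Prime] (hpK : p ∣ Nat.card K)
    (P : Sylow p K) (hP : IsCyclic (P : Subgroup K)) [hn : (P : Subgroup K).Normal]
    (hC : centralizer ((P : Subgroup K) : Set K) = P) :
    IsCyclic (K ⧸ (P : Subgroup K)) ∧ (P : Subgroup K).index ∣ p - 1 := by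
  let φ : K →* MulAut (P : Subgroup K) := MulAut.conjNormal
  have hk : ∀ x, φ x = 1 ↔ x ∈ (P : Subgroup K) := by
    intro x
    refine Iff.trans ?_ (SetLike.ext_iff.1 hC x)
    rw [mem_centralizer_iff]
    constructor
    · intro h y hy
      have := congrArg (fun f : MulAut (P : Subgroup K) => ((f ⟨y, hy⟩ : (P : Subgroup K)) : K)) h
      simp only [φ, MulAut.conjNormal_apply, MulAut.one_apply] at this
      calc y * x = (x * y * x⁻¹) * x := by rw [this]
        _ = x * y := by group
    · intro h
      ext y
      simp only [φ, MulAut.conjNormal_apply, MulAut.one_apply]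
      rw [← h y y.2]; group
  let ψ : K ⧸ (P : Subgroup K) →* MulAut (P : Subgroup K) := QuotientGroup.lift _ φ (fun x hx => (hk x).2 hx)
  have hψ : Function.Injective ψ := by
    rw [injective_iff_map_eq_one]
    intro a ha
    obtain ⟨x, rfl⟩ := QuotientGroup.mk_surjective a
    exact (QuotientGroup.eq_one_iff _).2 ((hk x).1 ha)
  obtain ⟨n, hn'⟩ := P.isPGroup'.exists_card_eq
  have hn0 : 0 < n := by
    rcases Nat.eq_zero_or_pos n with rfl | h
    · exfalso
      apply P.not_dvd_index
      have := (P : Subgroup K).card_mul_index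
      rw [hn', pow_zero, one_mul] at this
      rwa [this]
    · exact h
  have hd : (P : Subgroup K).index ∣ p - 1 := by
    have h1 : Nat.card (K ⧸ (P : Subgroup K)) ∣ Nat.card (MulAut (P : Subgroup K)) :=
      card_dvd_of_injective ψ hψ
    rw [IsCyclic.card_mulAut, hn', Nat.totient_prime_pow hp.out hn0] at h1
    have h2 : ((P : Subgroup K).index).Coprime (p ^ (n - 1)) :=
      Nat.Coprime.pow_right _ ((Nat.Prime.coprime_iff_not_dvd hp.out).2 P.not_dvd_index).symm
    exact h2.dvd_of_dvd_mul_left h1
  refine ⟨?_, hd⟩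
  by_cases h2 : p = 2
  · subst h2
    have : Nat.card (K ⧸ (P : Subgroup K)) = 1 := Nat.dvd_one.1 hd
    haveI := (Nat.card_eq_one_iff_unique.1 this).1
    infer_instance
  · have hc : IsCyclic (ZMod (Nat.card (P : Subgroup K)))ˣ := by
      rw [hn']; exact ZMod.isCyclic_units_of_prime_pow p hp.out h2 n
    exact isCyclic_of_injective ((IsCyclic.mulAutMulEquiv (P : Subgroup K)).toMonoidHom.comp ψ)
      ((IsCyclic.mulAutMulEquiv (P : Subgroup K)).injective.comp hψ)


/-- Let K be a finite group, p a prime dividing its order with O_{p'}(K) = 1 (no nontrivial normal subgroup of order prime to p), and P a cyclic Sylow p-subgroup of K. Then either P is normal and self-centralizing in K with K/P cyclic of order dividing p − 1 (so K is the semidirect product of P by a group of automorphisms of P of order dividing p − 1), or the generalized Fitting subgroup F*(K) is a non-abelian simple group and p does not divide the index of F*(K) in K. -/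
theorem result {K : Type*} [Group K] [Finite K] (p : ℕ) [Fact p.Prime] (hp : p ∣ Nat.card K) (hO : Cfsg.pPrimeCore p K = ⊥)
    (P : Sylow p K) (hP : IsCyclic ↥(P : Subgroup K)) :
    ((P : Subgroup K).Normal ∧ Subgroup.centralizer ((P : Subgroup K) : Set K) = (P : Subgroup K) ∧
      (∀ (_ : (P : Subgroup K).Normal), IsCyclic (K ⧸ (P : Subgroup K))) ∧ (P : Subgroup K).index ∣ p - 1) ∨
    (IsSimpleGroup ↥(Cfsg.generalizedFittingSubgroup K) ∧ ¬ IsMulCommutative ↥(Cfsg.generalizedFittingSubgroup K) ∧
      ¬ p ∣ (Cfsg.generalizedFittingSubgroup K).index) := by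
  have hpp : p.Prime := Fact.out
  by_cases h1 : pCore p K = ⊥
  · right
    have hF : fittingSubgroup K = ⊥ := by rw [fit_eq_pCore hO, h1]
    have hE : generalizedFittingSubgroup K = layer K := fstar_eq_layer hF
    haveI : Nontrivial K := Finite.one_lt_card_iff_nontrivial.1
      (lt_of_lt_of_le hpp.one_lt (Nat.le_of_dvd Nat.card_pos hp))
    have hL0 : layer K ≠ ⊥ := hE ▸ fstar_ne_bot
    obtain ⟨L, hL⟩ := exists_component_of_layer_ne_bot hL0
    have hZ : ∀ M : Subgroup K, IsComponent M → M ⊓ centralizer (M : Set K) = ⊥ := by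
      intro M hM
      rw [← Lib.Core.map_subtype_center, eq_bot_iff, ← hF]
      refine le_fit_of_isSubnormal ((isSubnormal_map_subtype_iff hM.1 _).2 (Subgroup.Normal.isSubnormal inferInstance)) ?_
      have : Group.IsNilpotent (center M) := by
        letI : CommGroup (center M) := { mul_comm := fun a b => Subtype.ext (a.2.comm b) }
        exact CommGroup.isNilpotent
      exact Group.nilpotent_of_mulEquiv (Subgroup.equivMapOfInjective _ _ M.subtype_injective)
    have hdv : ∀ M : Subgroup K, IsComponent M → p ∣ Nat.card M := by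
      intro M hM
      by_contra h
      have := Lib.Core.le_pPrimeCore_of_isSubnormal (p := p) hM.1 ((Nat.Prime.coprime_iff_not_dvd hpp).2 h).symm
      exact IsComponent.ne_bot hM (eq_bot_iff.2 (hO ▸ this))
    have huniq : ∀ M : Subgroup K, IsComponent M → M = L := by
      intro M hM
      by_contra hne
      have hc := IsComponent.commutator_eq_bot_of_ne hM hL hne
      obtain ⟨x, hx⟩ := exists_prime_orderOf_dvd_card' p (hdv M hM)
      obtain ⟨y, hy⟩ := exists_prime_orderOf_dvd_card' p (hdv L hL)
      have hxo : orderOf (x : K) = p := by rw [Subgroup.orderOf_coe, hx]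
      have hyo : orderOf (y : K) = p := by rw [Subgroup.orderOf_coe, hy]
      have hxy : Commute (x : K) (y : K) := mul_comm_of_commutator_eq_bot hc x.2 y.2
      have hX : IsPGroup p (zpowers (x : K)) := IsPGroup.of_card (n := 1) (by rw [Nat.card_zpowers, hxo, pow_one])
      have hY : IsPGroup p (zpowers (y : K)) := IsPGroup.of_card (n := 1) (by rw [Nat.card_zpowers, hyo, pow_one])
      have hXY : IsPGroup p (zpowers (x : K) ⊔ zpowers (y : K) : Subgroup K) := by
        refine IsPGroup.to_sup_of_normal_left' hX hY ?_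
        refine le_normalizer_of_commutator_eq_bot (commutator_eq_bot_symm ?_)
        exact commutator_eq_bot_mono hc (zpowers_le.2 x.2) (zpowers_le.2 y.2)
      obtain ⟨Q, hQ⟩ := hXY.exists_le_sylow
      have hQc : IsCyclic (Q : Subgroup K) := isCyclic_of_surjective (Sylow.equiv P Q).toMonoidHom (Sylow.equiv P Q).surjective
      have hxQ : (x : K) ∈ (Q : Subgroup K) := hQ (le_sup_left (a := zpowers (x : K)) (mem_zpowers _))
      have hyQ : (y : K) ∈ (Q : Subgroup K) := hQ (le_sup_right (b := zpowers (y : K)) (mem_zpowers _))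
      have heq : zpowers (x : K) = zpowers (y : K) :=
        Lib.PGrp.eq_of_card_eq_of_isCyclic hQc (zpowers_le.2 hxQ) (zpowers_le.2 hyQ)
          (by rw [Nat.card_zpowers, Nat.card_zpowers, hxo, hyo])
      have hxL : (x : K) ∈ L := zpowers_le.2 y.2 (heq ▸ mem_zpowers _)
      have hxC : (x : K) ∈ L ⊓ centralizer (L : Set K) :=
        ⟨hxL, mem_centralizer_iff.2 fun z hz => (mul_comm_of_commutator_eq_bot hc x.2 hz).symm⟩
      rw [hZ L hL, mem_bot] at hxC
      rw [hxC, orderOf_one] at hxo
      exact hpp.one_lt.ne hxo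
    have hEL : generalizedFittingSubgroup K = L := by
      rw [hE]
      exact le_antisymm (layer_le fun M hM => (huniq M hM).le) (IsComponent.le_layer hL)
    have hq := IsComponent.quasisimple hL
    have hs : IsSimpleGroup L := by
      refine IsQuasisimple.isSimpleGroup hq ?_
      have := hZ L hL
      rwa [← Lib.Core.map_subtype_center, map_eq_bot_iff_of_injective _ L.subtype_injective] at this
    haveI : L.Normal := hEL ▸ fstar_normal
    rw [hEL]
    refine ⟨hs, IsQuasisimple.not_isMulCommutative hq, fun hd => ?_⟩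
    have hnil := Lib.Coprime.pnil_of_isCyclic_of_dvd_index P hP L hd
    haveI := Lib.Transfer.resOf_normal (p := p) L
    have hR : Lib.Transfer.resOf p L = ⊥ :=
      eq_bot_iff.2 (hO ▸ le_pPrimeCore (p := p) hnil.coprime)
    have hLp : IsPGroup p L := by
      intro g
      obtain ⟨k, hk⟩ := Lib.Transfer.exists_pow_mem_resOf (p := p) g.2
      rw [hR, mem_bot] at hk
      exact ⟨k, Subtype.ext hk⟩
    haveI := hLp.isNilpotent
    exact IsQuasisimple.not_isSolvable hq inferInstance
  · left
    haveI := pCore_normal p K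
    have hle : pCore p K ≤ P := (isPGroup_pCore p K).le_sylow_of_normal P
    have hs := Lib.Coprime.isPSolvable_of_isCyclic_of_normal (Lib.Transfer.sylowIn_top P) hP (pCore p K) hle h1
    have hC := centralizer_pCore_le_of_isPSolvable hpp hs hO
    have hPC : (P : Subgroup K) ≤ centralizer ((P : Subgroup K) : Set K) := by
      haveI := hP
      exact Subgroup.le_centralizer _
    have heq : (P : Subgroup K) = pCore p K :=
      le_antisymm (hPC.trans ((centralizer_le hle).trans hC)) hle
    have hn : (P : Subgroup K).Normal := heq ▸ inferInstance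
    have hCP : centralizer ((P : Subgroup K) : Set K) = P := by
      refine le_antisymm ?_ hPC
      rw [heq]; exact hC
    obtain ⟨h2, h3⟩ := case1 p hp P hP hCP
    exact ⟨hn, hCP, fun _ => h2, h3⟩

end Cfsg.Agent.S4403
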