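import Cfsg.Statements.S4404
import Cfsg.Agent.Lib.BG1.Sec4a
import Cfsg.Agent.Lib.BG1.Sec4c
import Cfsg.Agent.Lib.Coprime.HallAut
import Cfsg.Agent.Lib.PGrp.Critical
import Cfsg.Agent.Lib.Hall.FpfE

set_option autoImplicit false
open Cfsg

namespace Cfsg.Agent.S4404

section
set_option linter.unusedSectionVars false
open Subgroup Cfsg.Lib Cfsg.Lib.Core Cfsg.Lib.Amalg Cfsg.Lib.BG1
open scoped commutatorElement

variable {G : Type*} [Group G] [Finite G]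

theorem arith {j p : ℕ} (hp : p.Prime) (p5 : 5 ≤ p) (j0 : j ≠ 0) (j4 : j ≤ 4) (w : p ∣ 2 ^ j - 1) :
    (j = 3 ∧ p = 7) ∨ (j = 4 ∧ p = 5) := by
  have h15 : ¬ Nat.Prime 15 := by decide
  interval_cases j
  · exact absurd rfl j0
  · have := Nat.le_of_dvd (by norm_num) w; omega
  · have := Nat.le_of_dvd (by norm_num) w; omega
  · exact Or.inl ⟨rfl, (Nat.prime_dvd_prime_iff_eq hp (by norm_num)).1 w⟩
  · have := Nat.le_of_dvd (by norm_num) w
    refine Or.inr ⟨rfl, ?_⟩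
    norm_num at this w
    interval_cases p <;> first | rfl | exact absurd w (by decide) | exact absurd hp h15

/-- `r ^ (k + 1)` divides the order of no `GL_s(2)` with `s ≤ n`. -/
def Bd (r k n : ℕ) : Prop := ∀ s ≤ n, ¬ r ^ (k + 1) ∣ ∏ i ∈ Finset.range s, (2 ^ s - 2 ^ i)

theorem card_range_le {r k n : ℕ} (hr : r.Prime) (h2 : r ≠ 2) (hb : Bd r k n) {U R : Subgroup G}
    (hU : IsPGroup 2 U) (hc : Nat.card U ≤ 2 ^ n) (hR : IsPGroup r R) (φ : R →* MulAut U) :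
    Nat.card φ.range ∣ r ^ k := by
  have := Fact.mk hr
  obtain ⟨m, hm⟩ := IsPGroup.iff_card.1 hU
  obtain ⟨s, hs⟩ := hU.index (frattini U)
  obtain ⟨j, hj⟩ := IsPGroup.iff_card.1 (hR.of_surjective _ φ.rangeRestrict_surjective)
  have h1 : s ≤ n := (Nat.pow_le_pow_iff_right one_lt_two).1
    ((Nat.le_of_dvd Nat.card_pos (hs ▸ (frattini U).index_dvd_card)).trans hc)
  have h3 := (hj ▸ φ.range.card_subgroup_dvd_card).trans (Coprime.card_mulAut_dvd hm hs)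
  have h4 := (((Nat.coprime_primes hr Nat.prime_two).2 h2).pow _ _).dvd_of_dvd_mul_left h3
  rw [hj]
  refine pow_dvd_pow r (Nat.le_of_lt_succ (lt_of_not_ge fun h => hb s h1 ((pow_dvd_pow r h).trans h4)))

/-- The action of a subgroup of the normaliser. -/
def act {U R : Subgroup G} (h : R ≤ 𝐍(U)) : R →* MulAut U := U.normalizerMonoidHom.comp (inclusion h)

theorem ker_act {U R : Subgroup G} (h : R ≤ 𝐍(U)) : (act h).ker = 𝐂(U).subgroupOf R := by
  rw [act, ← MonoidHom.comap_ker, normalizerMonoidHom_ker]; rfl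

theorem relIndex_dvd {r k n : ℕ} (hr : r.Prime) (h2 : r ≠ 2) (hb : Bd r k n) {U R : Subgroup G}
    (hU : IsPGroup 2 U) (hc : Nat.card U ≤ 2 ^ n) (hR : IsPGroup r R) (h : R ≤ 𝐍(U)) :
    𝐂(U).relIndex R ∣ r ^ k := by
  rw [relIndex, ← ker_act h, index_ker]
  exact card_range_le hr h2 hb hU hc hR _

theorem comm_mem {r n : ℕ} (hr : r.Prime) (h2 : r ≠ 2) (hb : Bd r 2 n) {U R : Subgroup G}
    (hU : IsPGroup 2 U) (hc : Nat.card U ≤ 2 ^ n) (hR : IsPGroup r R) (h : R ≤ 𝐍(U)) {x y : G} (hx : x ∈ R)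
    (hy : y ∈ R) : ⁅x, y⁆ ∈ 𝐂(U) := by
  have := Fact.mk hr
  have h1 := PGrp.isMulCommutative_of_card_le_sq (hR.of_surjective _ (act h).rangeRestrict_surjective)
    (Nat.le_of_dvd (pow_pos hr.pos 2) (card_range_le hr h2 hb hU hc hR (act h)))
  have h3 : ⁅(⟨x, hx⟩ : R), ⟨y, hy⟩⁆ ∈ (act h).ker := by
    rw [MonoidHom.mem_ker, map_commutatorElement, commutatorElement_eq_one_iff_mul_comm]
    exact congrArg Subtype.val (h1.1.1 ⟨_, _, rfl⟩ ⟨_, _, rfl⟩)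
  rwa [ker_act] at h3

variable {M : Subgroup G} [M.Normal] (hM : IsElementaryAbelian 2 M)
include hM

theorem pg {U : Subgroup G} (h : U ≤ M) : IsPGroup 2 U :=
  Amalg.isPGroup_iff_mem.2 fun x hx => ⟨1, hM.2 x (h hx)⟩

omit hM in
theorem nM (X : Subgroup G) : X ≤ 𝐍(M) := le_normalizer_of_normal

omit hM in
theorem cM (X : Subgroup G) : ⁅M, X⁆ ≤ M := commutator_le_left M X

theorem cop {X : Subgroup G} (hX : Odd (Nat.card X)) : (Nat.card X).Coprime (Nat.card M) :=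
  (coprime_of_isPGroup_of_not_dvd Nat.prime_two (pg hM le_rfl) hX.not_two_dvd_nat).symm

theorem same {X Y U : Subgroup G} (hY : Odd (Nat.card Y)) (hU : U ≤ M) (h1 : ⁅M, X⁆ ≤ U) (h2 : ⁅M, Y⁆ ≤ U)
    (h : Y ≤ X ⊔ 𝐂(U)) : ⁅M, Y⁆ ≤ ⁅M, X⁆ := by
  rw [← coprime_commutator_idem (nM Y) (cop hM hY) (Or.inr (solvable_of_pgroup Nat.prime_two (pg hM le_rfl)))]
  refine (commutator_mono h2 h).trans ((Hall.fe_commutator_sup
    (le_norm_of_commutator_le ((commutator_mono hU le_rfl).trans h1)) (centralizer_le_normalizer _)).trans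
    (sup_le (commutator_mono hU le_rfl) ?_))
  rw [commutator_comm, commutator_eq_bot_iff_le_centralizer.2 le_rfl]
  exact bot_le

theorem card_sup_le {V W : Subgroup G} (hV : V ≤ M) (hW : W ≤ M) :
    Nat.card ↥(V ⊔ W) * Nat.card ↥(V ⊓ W) = Nat.card V * Nat.card W :=
  Core.card_sup_mul_card_inf (le_norm_of_le_cent (hV.trans
    ((le_centralizer_iff_isMulCommutative.2 hM.1).trans (centralizer_le hW))))

theorem card_two {x g : G} : Nat.card ↥⁅M, zpowers x ⊔ zpowers (g * x * g⁻¹)⁆ ≤ Nat.card ↥⁅M, zpowers x⁆ ^ 2 := by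
  refine (card_le_of_le (Hall.fe_commutator_sup (nM _) (nM _))).trans ?_
  have h1 := card_sup_le hM (cM (zpowers x)) (cM (zpowers (g * x * g⁻¹)))
  have h2 : Nat.card ↥⁅M, zpowers (g * x * g⁻¹)⁆ = Nat.card ↥⁅M, zpowers x⁆ := by
    rw [← cj_zpowers, ← cj_normal g M, ← cj_commutator, card_cj, cj_normal]
  rw [h2] at h1
  rw [sq, ← h1]
  exact Nat.le_mul_of_pos_right _ Nat.card_pos

theorem cjW (g x : G) : cj g ⁅M, zpowers x⁆ = ⁅M, zpowers (g * x * g⁻¹)⁆ := by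
  rw [cj_commutator, cj_normal, cj_zpowers]

omit hM in
theorem odd_of {r : ℕ} (hr : r.Prime) (h2 : r ≠ 2) {T X : Subgroup G} (hT : IsPGroup r T) (h : X ≤ T) :
    Odd (Nat.card X) := by
  have := Fact.mk hr
  obtain ⟨k, hk⟩ := IsPGroup.iff_card.1 (hT.to_le h)
  exact hk ▸ (hr.odd_of_ne_two h2).pow

theorem normZ {r d : ℕ} (hr : r.Prime) (h2 : r ≠ 2) (hb : Bd r 2 (d * 2)) {T A : Subgroup G} (hT : IsPGroup r T)
    (hA : A ≤ T) (hn : T ≤ 𝐍(A)) (hc : IsMulCommutative A) {x : G} (hx : x ∈ T)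
    (hW : Nat.card ↥⁅M, zpowers x⁆ ≤ 2 ^ d) : A ≤ 𝐍(⁅M, zpowers x⁆) := by
  intro a ha
  have hb' : x⁻¹ * (a * x * a⁻¹) ∈ A := by
    have := mul_mem ((mem_normalizer_iff.1 (hn (inv_mem hx)) a).1 ha) (inv_mem ha)
    simpa only [inv_inv, mul_assoc] using this
  have hx' : a * x * a⁻¹ ∈ T := mul_mem (mul_mem (hA ha) hx) (inv_mem (hA ha))
  set X := zpowers x ⊔ zpowers (a * x * a⁻¹) with hX
  have m1 : x ∈ X := mem_sup_left (mem_zpowers x)
  have m2 : a * x * a⁻¹ ∈ X := mem_sup_right (mem_zpowers _)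
  have h1 : a ∈ 𝐍(X) := mem_normalizer_of_cj_le (by
    rw [hX, cj_sup, cj_zpowers, cj_zpowers]
    refine sup_le (zpowers_le.2 m2) (zpowers_le.2 ?_)
    have e : a * (x⁻¹ * (a * x * a⁻¹)) = x⁻¹ * (a * x * a⁻¹) * a := congrArg Subtype.val (hc.1.1 ⟨a, ha⟩ ⟨_, hb'⟩)
    have : a * (a * x * a⁻¹) * a⁻¹ = a * x * a⁻¹ * (x⁻¹ * (a * x * a⁻¹)) := by
      calc _ = a * x * a⁻¹ * (a * (x⁻¹ * (a * x * a⁻¹)) * a⁻¹) := by group
        _ = _ := by rw [e, mul_inv_cancel_right]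
    rw [this]
    exact mul_mem m2 (mul_mem (inv_mem m1) m2))
  have h3 : a ∈ 𝐍(⁅M, X⁆) := by rw [← cj_eq_self_iff, cj_commutator, cj_normal, cj_of_mem_normalizer h1]
  have hXT : X ≤ T := sup_le (zpowers_le.2 hx) (zpowers_le.2 hx')
  have h4 := comm_mem hr h2 hb (pg hM (cM X)) ((card_two hM).trans (by
      rw [pow_mul]; exact Nat.pow_le_pow_left hW 2))
    (hT.to_le (sup_le hXT (zpowers_le.2 (hA ha))))
    (sup_le (le_norm_commutator_right M X) (zpowers_le.2 h3)) (x := x⁻¹) (y := a)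
    (mem_sup_left (inv_mem m1)) (mem_sup_right (mem_zpowers a))
  refine mem_normalizer_of_cj_le ?_
  rw [cjW hM]
  refine same hM (odd_of hr h2 hT (zpowers_le.2 hx')) (cM X) (commutator_mono le_rfl le_sup_left)
    (commutator_mono le_rfl le_sup_right) (zpowers_le.2 ?_)
  rw [show a * x * a⁻¹ = x * ⁅x⁻¹, a⁆ by rw [commutatorElement_def]; group]
  exact mul_mem_sup (mem_zpowers x) h4

theorem fin {r n : ℕ} (hr : r.Prime) (h2 : r ≠ 2) (hb : Bd r 1 n) {A V W : Subgroup G}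
    (hA : IsElementaryAbelian r A) (h3 : Nat.card A = r ^ 3) (hW : W ≤ M) (hc : Nat.card W ≤ 2 ^ n) (hV : V ≤ W)
    (hn : A ≤ 𝐍(W)) : ¬ IsCyclic ↥(A ⊓ 𝐂(V)) := by
  intro h
  have h1 := relIndex_dvd hr h2 hb (pg hM hW) hc (Amalg.isPGroup_iff_mem.2 fun x hx => ⟨1, by
    rw [pow_one, hA.2 x hx]⟩) hn
  have h4 : Nat.card ↥(A ⊓ 𝐂(V)) ≤ r := by
    rw [← h.exponent_eq_card]
    exact Nat.le_of_dvd hr.pos (Monoid.exponent_dvd_of_forall_pow_eq_one fun x => Subtype.ext (hA.2 x x.2.1))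
  have h5 : Nat.card ↥(𝐂(W) ⊓ A) ≤ r :=
    (card_le_of_le (le_inf inf_le_right (inf_le_left.trans (centralizer_le hV)))).trans h4
  have h6 := (𝐂(W).subgroupOf A).index_mul_card
  rw [← inf_subgroupOf_right, Nat.card_congr (subgroupOfEquivOfLe inf_le_right).toEquiv, inf_subgroupOf_right,
    h3] at h6
  have h7 := Nat.mul_le_mul (Nat.le_of_dvd (pow_pos hr.pos 1) h1) h5
  rw [relIndex, h6, ← pow_succ] at h7
  exact absurd ((Nat.pow_le_pow_iff_right hr.one_lt).1 h7) (by norm_num)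

theorem modEq {r : ℕ} (hr : r.Prime) (h2 : r ≠ 2) {X Y : Subgroup G} (hX : IsPGroup r X) (hY : Y ≤ ⁅M, X⁆)
    (hn : X ≤ 𝐍(Y)) : Nat.card Y ≡ 1 [MOD r] := by
  have := Fact.mk hr
  have h1 := PGrp.card_modEq_card_inf_centralizer hX hn
  rwa [eq_bot_iff.2 ((inf_le_inf_right _ hY).trans (coprime_abelian_cent_TI (nM X)
    (cop hM (odd_of hr h2 hX le_rfl)) hM.1).le), card_bot] at h1

theorem main [Group.IsSolvable G] (p : ℕ) (hp : p.Prime) (hp2 : p ≠ 2) (E : Subgroup G)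
    (hE : IsElementaryAbelian p E) (hE3 : Nat.card E = p ^ 3) (Q : Subgroup G) (hQc : IsCyclic Q)
    (hQ3 : IsPGroup 3 Q) (hQM : Nat.card ↥⁅Q, M⁆ = 4) :
    ∃ (r : ℕ) (F : Subgroup G), r.Prime ∧ r ≠ 2 ∧ IsElementaryAbelian r F ∧ Nat.card F = r ^ 3 ∧
      ¬ IsCyclic ↥(F ⊓ 𝐂(⁅Q, M⁆)) := by
  obtain ⟨q, rfl⟩ := (Subgroup.isCyclic_iff_exists_zpowers_eq_top Q).1 hQc
  rw [commutator_comm] at hQM ⊢
  have f3 := Fact.mk Nat.prime_three
  have fp := Fact.mk hp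
  by_cases hr : PRankLE 3 2 (⊤ : Subgroup G)
  swap
  · obtain ⟨T, hT, hQT⟩ := exists_syl_ge hQ3 le_top
    obtain ⟨A, ⟨a1, a2, a3⟩, a4⟩ := exists_normal_eab3 Nat.prime_three (by norm_num) hT.isPGroup
      (by rwa [pRankLE_iff_of_syl hT])
    exact ⟨3, A, Nat.prime_three, by norm_num, a2, a3, fin hM Nat.prime_three (by norm_num) (n := 2)
      (by unfold Bd; decide) a2 a3 (cM _) hQM.le le_rfl (normZ hM Nat.prime_three (by norm_num) (d := 2)
        (by unfold Bd; decide) hT.isPGroup a1 a4 a2.1 (hQT (mem_zpowers q)) hQM.le)⟩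
  have p3 : p ≠ 3 := by
    rintro rfl
    exact absurd (pRankLE_iff.1 hr E le_top hE) (by rw [hE3]; norm_num)
  have p5 : 5 ≤ p := hp.five_le_of_ne_two_of_ne_three hp2 p3
  have hs : Group.IsSolvable (⊤ : Subgroup G) := inferInstance
  obtain ⟨H, hQH, hH⟩ := exists_isPiHallOf_ge {3, p} hs (le_top (a := zpowers q)) fun s hs hd => by
    obtain ⟨k, hk⟩ := IsPGroup.iff_card.1 hQ3
    exact Or.inl ((Nat.prime_dvd_prime_iff_eq hs Nat.prime_three).1 (hs.dvd_of_dvd_pow (hk ▸ hd)))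
  obtain ⟨g, -, hg⟩ := exists_cj_le_of_isPiHallOf hs hH (le_top (a := E)) fun s hs hd =>
    Or.inr ((Nat.prime_dvd_prime_iff_eq hs hp).1 (hs.dvd_of_dvd_pow (hE3 ▸ hd)))
  have hodd : Odd (Nat.card H) := Nat.odd_iff.2 (Nat.two_dvd_ne_zero.1 fun h => by
    rcases hH.2.1 2 Nat.prime_two h with h | h
    exacts [absurd h (by norm_num), hp2 (Set.mem_singleton_iff.1 h).symm])
  have hP := rank2_min_p_complement Nat.prime_three (solvable_of_le le_top hs) hodd (pRankLE_mono le_top hr)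
    fun s hs hd => by
      rcases hH.2.1 s hs hd with h | h
      exacts [h.ge, by rw [Set.mem_singleton_iff.1 h]; omega]
  have hn := le_norm_piCoreOf_self {3}ᶜ H
  set P := 𝐎'[3](H)
  have hPp : IsPGroup p P := IsPGroup.of_card (Nat.eq_prime_pow_of_unique_prime_dvd Nat.card_pos.ne' fun {s} hs hd =>
    (hH.2.1 s hs (hd.trans (card_dvd_of_le hP.1))).resolve_left (hP.2.1 s hs hd))
  have hEP : cj g E ≤ P := le_of_isPiHallOf_normal hP hn hg fun s hs hd => by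
    rw [card_cj, hE3] at hd
    rw [(Nat.prime_dvd_prime_iff_eq hs hp).1 (hs.dvd_of_dvd_pow hd)]
    exact p3
  obtain ⟨A, ⟨a1, a2, a3⟩, a4⟩ := exists_normal_eab3 hp hp2 hPp ((not_pRankLE_iff hp).2
    ⟨cj g E, hEP, isElementaryAbelian_cj g hE, by rw [card_cj, hE3]⟩)
  refine ⟨p, A, hp, hp2, a2, a3, ?_⟩
  by_cases hPV : P ≤ 𝐍(⁅M, zpowers q⁆)
  · refine fin hM hp hp2 (n := 2) (fun s hs hd => ?_) a2 a3 (cM _) hQM.le le_rfl (a1.trans hPV)
    have h1 : 5 ^ (1 + 1) ≤ p ^ (1 + 1) := Nat.pow_le_pow_left p5 _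
    interval_cases s <;> exact absurd (h1.trans (Nat.le_of_dvd (by decide) hd)) (by decide)
  obtain ⟨y, hy, hyV⟩ := SetLike.not_le_iff_exists.1 hPV
  have hq : q ∈ H := hQH (mem_zpowers q)
  have hx : q⁻¹ * (y * q * y⁻¹) ∈ P := by
    have := mul_mem ((mem_normalizer_iff.1 (hn (inv_mem hq)) y).1 hy) (inv_mem hy)
    simpa only [inv_inv, mul_assoc] using this
  set x := q⁻¹ * (y * q * y⁻¹) with hxd
  set X := zpowers q ⊔ zpowers (y * q * y⁻¹) with hX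
  have m1 : q ∈ X := mem_sup_left (mem_zpowers q)
  have m2 : x ∈ X := mul_mem (inv_mem m1) (mem_sup_right (mem_zpowers _))
  have hU : Nat.card ↥⁅M, X⁆ ≤ 2 ^ 4 := (card_two hM).trans (by rw [hQM]; norm_num)
  have hVU : ⁅M, zpowers q⁆ ≤ ⁅M, X⁆ := commutator_mono le_rfl le_sup_left
  have hWU : ⁅M, zpowers x⁆ ≤ ⁅M, X⁆ := commutator_mono le_rfl (zpowers_le.2 m2)
  have xC : x ∉ 𝐂(⁅M, X⁆) := fun h => hyV (mem_normalizer_of_cj_le (by
    rw [cjW hM]
    refine same hM (odd_card_of_le (zpowers_le.2 (mul_mem (mul_mem (hP.1 hy) hq) (inv_mem (hP.1 hy)))) hodd) (cM X)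
      hVU (commutator_mono le_rfl le_sup_right) (zpowers_le.2 ?_)
    rw [show y * q * y⁻¹ = q * x by rw [hxd, mul_inv_cancel_left]]
    exact mul_mem_sup (mem_zpowers q) h))
  have xp : IsPGroup p (zpowers x) := hPp.to_le (zpowers_le.2 hx)
  have w1 := modEq hM hp hp2 xp le_rfl (le_norm_commutator_right _ _)
  obtain ⟨j, hj⟩ := IsPGroup.iff_card.1 (pg hM (cM (zpowers x)))
  have j4 : j ≤ 4 := (Nat.pow_le_pow_iff_right one_lt_two).1 (hj ▸ (card_le_of_le hWU).trans hU)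
  have j0 : j ≠ 0 := by
    rintro rfl
    rw [pow_zero, card_eq_one, commutator_comm, commutator_eq_bot_iff_le_centralizer] at hj
    exact xC (centralizer_le (cM X) (hj (mem_zpowers x)))
  rw [hj] at w1
  have w2 := (Nat.modEq_iff_dvd' (Nat.one_le_two_pow)).1 w1.symm
  have hjp := arith hp p5 j0 j4 w2
  have b1 : Bd p 1 4 := by rcases hjp with ⟨-, rfl⟩ | ⟨-, rfl⟩ <;> unfold Bd <;> decide
  have b2 : Bd p 2 (j * 2) := by rcases hjp with ⟨rfl, rfl⟩ | ⟨rfl, rfl⟩ <;> unfold Bd <;> decide +kernel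
  have hx' : q * x * q⁻¹ ∈ P := (mem_normalizer_iff.1 (hn hq) x).1 hx
  have m3 : q * x * q⁻¹ ∈ X := mul_mem (mul_mem m1 m2) (inv_mem m1)
  have qW : q ∈ 𝐍(⁅M, zpowers x⁆) := mem_normalizer_of_cj_le (by
    rw [cjW hM]
    refine same hM (odd_of hp hp2 hPp (zpowers_le.2 hx')) (cM X) hWU (commutator_mono le_rfl (zpowers_le.2 m3)) ?_
    have hR : zpowers x ⊔ zpowers (q * x * q⁻¹) ≤ 𝐍(⁅M, X⁆) :=
      (sup_le (zpowers_le.2 m2) (zpowers_le.2 m3)).trans (le_norm_commutator_right M X)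
    have h1 := relIndex_dvd hp hp2 b1 (pg hM (cM X)) hU
      (hPp.to_le (sup_le (zpowers_le.2 hx) (zpowers_le.2 hx'))) hR
    have h2 := (relIndex_dvd_of_le_left _ (le_sup_right (a := zpowers x) (b := 𝐂(⁅M, X⁆)))).trans h1
    rw [pow_one] at h1 h2
    refine le_sup_right.trans (relIndex_eq_one.1 (((Nat.dvd_prime hp).1 h2).resolve_right fun h3 => xC ?_))
    have h4 := ((Nat.dvd_prime hp).1 h1).resolve_left fun h4 => xC (relIndex_eq_one.1 h4 (mem_sup_left (mem_zpowers x)))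
    have h5 := relIndex_mul_relIndex (𝐂(⁅M, X⁆) ⊓ (zpowers x ⊔ zpowers (q * x * q⁻¹)))
      ((zpowers x ⊔ 𝐂(⁅M, X⁆)) ⊓ (zpowers x ⊔ zpowers (q * x * q⁻¹))) _
      (inf_le_inf_right _ le_sup_right) inf_le_right
    rw [inf_relIndex_right, inf_relIndex_right, h3, h4] at h5
    have h6 := relIndex_eq_one.1 (Nat.eq_of_mul_eq_mul_right hp.pos (h5.trans (one_mul p).symm))
    exact (h6 ⟨mem_sup_left (mem_zpowers x), mem_sup_left (mem_zpowers x)⟩).1)
  have hVW : ⁅M, zpowers q⁆ ≤ ⁅M, zpowers x⁆ := by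
    have h1 := modEq hM Nat.prime_three (by norm_num) hQ3 (Y := ⁅M, zpowers q⁆ ⊓ ⁅M, zpowers x⁆) inf_le_left
      ((le_inf (le_norm_commutator_right _ _) (zpowers_le.2 qW)).trans inf_normalizer_le_normalizer_inf)
    have h2 := card_sup_le hM (cM (zpowers q)) (cM (zpowers x))
    have h3 := (card_le_of_le (sup_le hVU hWU)).trans hU
    have h4 := card_dvd_of_le (inf_le_left (a := ⁅M, zpowers q⁆) (b := ⁅M, zpowers x⁆))
    rw [hQM] at h2 h4
    rw [hj] at h2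
    refine inf_eq_left.1 (eq_of_le_of_card_ge inf_le_left ?_)
    rw [hQM]
    have h5 := Nat.le_of_dvd (by norm_num) h4
    generalize Nat.card ↥(⁅M, zpowers q⁆ ⊓ ⁅M, zpowers x⁆) = k at *
    interval_cases k
    · simp at h4
    · rcases hjp with ⟨rfl, -⟩ | ⟨rfl, -⟩ <;> omega
    · simp [Nat.ModEq] at h1
    · simp at h4
    · rfl
  exact fin hM hp hp2 b1 a2 a3 (cM _) ((card_le_of_le hWU).trans hU) hVW
    (normZ hM hp hp2 b2 hPp a1 a4 a2.1 hx hj.le)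

end

/-- Let S be a finite solvable group and M a normal elementary abelian 2-subgroup of S. Suppose S contains an elementary abelian subgroup of order p³ for some odd prime p, and a cyclic 3-subgroup Q such that the cubes of the elements of Q centralize M and the commutator subgroup [Q, M] has order 4 (a four-group inside M). Then S contains an elementary abelian subgroup F of order r³, for some odd prime r, whose centralizer of [Q, M] in F — the subgroup C_F([Q, M]) — is not cyclic. -/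
theorem result {S : Type*} [Group S] [Finite S]
    [Group.IsSolvable S] (M : Subgroup S) [M.Normal] (hM : Cfsg.IsElementaryAbelian 2 M)
    (p : ℕ) (hp : p.Prime) (hp2 : p ≠ 2) (E : Subgroup S) (hE : Cfsg.IsElementaryAbelian p E) (hE3 : Nat.card ↥E = p ^ 3)
    (Q : Subgroup S) (hQc : IsCyclic ↥Q) (hQ3 : IsPGroup 3 ↥Q)
    (hQ1 : ∀ x ∈ Q, x ^ 3 ∈ Subgroup.centralizer (M : Set S)) (hQM : Nat.card ↥⁅Q, M⁆ = 4) :
    ∃ (r : ℕ) (F : Subgroup S), r.Prime ∧ r ≠ 2 ∧ Cfsg.IsElementaryAbelian r F ∧ Nat.card ↥F = r ^ 3 ∧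
      ¬ IsCyclic ↥(F ⊓ Subgroup.centralizer ((⁅Q, M⁆ : Subgroup S) : Set S)) := by
  exact main hM p hp hp2 E hE hE3 Q hQc hQ3 hQM

end Cfsg.Agent.S4404
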