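import Cfsg.Statements.S4405
import Cfsg.Agent.Lib.Known2.LE
import Cfsg.Agent.Lib.KS9.Offender
import Cfsg.Agent.Lib.Linear.PLineStab
import Cfsg.Agent.Lib.PGrp.Critical
import Cfsg.Agent.Lib.Hall.FC5
import Cfsg.Agent.Lib.FG.Act

set_option autoImplicit false
open Cfsg

namespace Cfsg.Agent.S4405

open Subgroup Cfsg.Lib Cfsg.Lib.Amalg Cfsg.Lib.Known2
open scoped commutatorElement
set_option linter.style.haveILetI false


/-- Let G be a finite group of order 320 = 64·5 whose largest normal 2-subgroup H = O₂(G) equals the Fitting subgroup F(G) and is extraspecial of order 32 containing no elementary abelian subgroup of order 8 (so H is the central product of a quaternion group and a dihedral group of order 8). If T is an involution of G outside H whose centralizer in H contains an elementary abelian subgroup of order 4, then C_H(T) itself is elementary abelian of order 4. -/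
theorem result {G : Type*} [Group G] [Finite G]
    (hG : Nat.card G = 320) (hHF : Cfsg.pCore 2 G = Cfsg.fittingSubgroup G)
    (hex : Cfsg.IsExtraspecial 2 ↥(Cfsg.pCore 2 G)) (h32 : Nat.card ↥(Cfsg.pCore 2 G) = 32)
    (hminus : ∀ A : Subgroup G, A ≤ Cfsg.pCore 2 G → Cfsg.IsElementaryAbelian 2 A → Nat.card ↥A ≤ 4)
    (T : G) (hT : orderOf T = 2) (hTH : T ∉ Cfsg.pCore 2 G)
    (V : Subgroup G) (hV : V ≤ Cfsg.pCore 2 G ⊓ Subgroup.centralizer ({T} : Set G)) (hV4 : Nat.card ↥V = 4) (hVe : Cfsg.IsElementaryAbelian 2 V) :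
    Nat.card ↥(Cfsg.pCore 2 G ⊓ Subgroup.centralizer ({T} : Set G)) = 4 ∧
      Cfsg.IsElementaryAbelian 2 (Cfsg.pCore 2 G ⊓ Subgroup.centralizer ({T} : Set G)) := by
  set H := pCore 2 G with hH
  haveI := Core.pCore_characteristic 2 G
  haveI : Fact (Nat.Prime 5) := ⟨by norm_num⟩
  obtain ⟨z, hz, es⟩ := exists_ES hex
  haveI : (zpowers z).Normal := hz ▸ inferInstance
  have hT2 : T * T = 1 := by rw [← sq, ← hT, pow_orderOf_eq_one]
  have h10 : Nat.card (G ⧸ H) = 10 := by
    have := card_eq_card_quotient_mul_card_subgroup H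
    rw [h32, hG] at this; omega
  let σ := QuotientGroup.mk' H
  have hσ : σ T ≠ 1 := fun e => hTH ((QuotientGroup.eq_one_iff _).1 e)
  have hσ2 : σ T * σ T = 1 := by rw [← map_mul, hT2, map_one]
  obtain ⟨g, hg⟩ : ∃ g, σ (g * T * g⁻¹) ≠ σ T := by
    by_contra! h
    haveI : (zpowers (σ T)).Normal := ⟨by
      rintro _ ⟨k, rfl⟩ x
      obtain ⟨x, rfl⟩ := QuotientGroup.mk'_surjective H x
      exact ⟨k, by rw [← conj_zpow, ← map_inv, ← map_mul, ← map_mul, h]⟩⟩
    exact hTH (Core.le_pCore (Core.isPGroup_comap_mk' H (Core.isPGroup_pCore 2 G)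
      (Core.isPGroup_zpowers_of_pow_eq_one (k := 1) (by rw [pow_one, sq, hσ2]))) (mem_zpowers (σ T)))
  set s := g * T * g⁻¹ with hs
  have hs2 : σ s * σ s = 1 := by rw [← map_mul, hs, conj_mul, hT2]; simp
  have hr : σ (T * s) ^ 2 ≠ 1 := fun e => by
    have hc : Commute (σ T) (σ s) := by
      rw [map_mul, sq] at e
      calc σ T * σ s = (σ T * σ s)⁻¹ := eq_inv_of_mul_eq_one_left e
        _ = _ := by rw [mul_inv_rev, inv_eq_of_mul_eq_one_left hσ2, inv_eq_of_mul_eq_one_left hs2]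
    have hs1 : σ s ≠ 1 := fun e => hσ (by simpa [hs, conj_eq_one_iff] using e)
    have h1 : zpowers (σ T) ⊓ zpowers (σ s) = ⊥ := eq_bot_iff.2 fun x hx => by
      rcases (mem_zpowers_invol hσ2).1 hx.1 with h | h
      · exact h
      · exact ((mem_zpowers_invol hs2).1 hx.2).resolve_right fun h' => hg (h'.symm.trans h)
    have h2 := Core.card_sup_mul_card_inf (H := zpowers (σ T)) (K := zpowers (σ s))
      (zpowers_le.2 (cent_le_norm _ (mem_cent_zpowers.2 hc)))
    rw [h1, card_bot, card_zpowers_invol hσ2 hσ, card_zpowers_invol hs2 hs1, mul_one] at h2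
    have := card_subgroup_dvd_card (zpowers (σ T) ⊔ zpowers (σ s))
    rw [h2, h10] at this
    exact absurd this (by norm_num)
  set ρ := (T * s) ^ 64 with hρ
  have hρ5 : ρ ^ 5 = 1 := by rw [hρ, ← pow_mul, show 64 * 5 = Nat.card G by rw [hG], pow_card_eq_one']
  have hρH : ρ ∉ H := fun h => hr (by
    have h1 : σ (T * s) ^ 64 = 1 := by rw [← map_pow]; exact (QuotientGroup.eq_one_iff _).2 h
    have h2 : σ (T * s) ^ 10 = 1 := h10 ▸ pow_card_eq_one'
    simpa using pow_gcd_eq_one.2 ⟨h1, h2⟩)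
  have hC : H ⊓ 𝐂 (zpowers ρ) = zpowers z := by
    have h1 := PGrp.card_modEq_card_inf_centralizer (H := H) (Core.isPGroup_zpowers_of_pow_eq_one (k := 1) (by rwa [pow_one]))
      (by rw [normalizer_eq_top]; exact le_top)
    have h2 : Nat.card ↥(H ⊓ 𝐂 (zpowers ρ)) ∣ 2 ^ 5 := by
      rw [show 2 ^ 5 = Nat.card H by rw [h32]; rfl]; exact card_dvd_of_le inf_le_left
    obtain ⟨k, hk, h3⟩ := (Nat.dvd_prime_pow Nat.prime_two).1 h2
    have h4 : k ≠ 5 := fun e => by
      have h5 := eq_of_le_of_card_ge (inf_le_left : H ⊓ 𝐂 (zpowers ρ) ≤ H) (by rw [h3, h32, e]; rfl)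
      haveI : Group.IsSolvable (G ⧸ H) := Hall.solvable_of_card_lt_sixty _ _ h10 (by omega)
      haveI := (Core.isPGroup_pCore 2 G).isNilpotent
      haveI : Group.IsSolvable G := Group.isSolvable_of_ker_le_range H.subtype σ (by simp [σ])
      exact hρH (hHF.ge (Core.centralizer_fitting_le (hHF ▸ le_cent_symm (h5.ge.trans inf_le_right) (mem_zpowers ρ))))
    refine (eq_of_le_of_card_ge (zpowers_le.2 (mem_inf.2 ⟨es.mem, mem_cent_zpowers.2 (es.comm_of_norm (by
      rw [normalizer_eq_top]; trivial)).symm⟩)) ?_).symm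
    rw [card_zpowers_invol es.sq es.ne, h3]
    rw [h32, h3] at h1
    interval_cases k <;> simp_all [Nat.ModEq]
  let π := QuotientGroup.mk' (zpowers z)
  have hπ : ∀ x, π x = 1 ↔ x = 1 ∨ x = z := fun x => (QuotientGroup.eq_one_iff _).trans es.mem_zp
  have hk : ∀ X : Subgroup G, z ∈ X → Nat.card (X.map π) * 2 = Nat.card X := fun X hX => by
    rw [← Core.card_map_mul_card_inf_ker π X, QuotientGroup.ker_mk', inf_eq_left.2 (zpowers_le.2 hX),
      card_zpowers_invol es.sq es.ne]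
  have h16 : Nat.card (H.map π) = 16 := by have := hk H es.mem; omega
  haveI : (H.map π).Normal := Normal.map inferInstance _ (QuotientGroup.mk'_surjective _)
  have hab : IsMulCommutative (H.map π) := ⟨⟨by
    rintro ⟨_, a, ha, rfl⟩ ⟨_, b, hb, rfl⟩
    refine Subtype.ext (commutatorElement_eq_one_iff_mul_comm.1 ?_)
    exact (map_commutatorElement π a b).symm.trans ((QuotientGroup.eq_one_iff _).2 (es.commutator_mem ha hb))⟩⟩
  set W := H.map π ⊓ 𝐂 (zpowers (π T)) with hW
  have hW4 : Nat.card W ≤ 4 := by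
    have h1 := Linear.card_mul_card_le_of_disjoint (inf_le_left : W ≤ _) (Q := cj (π g) W)
      (cj_le_of_le_of_mem_normalizer inf_le_left (by rw [normalizer_eq_top]; trivial)) (eq_bot_iff.2 (by
        rintro _ ⟨⟨⟨x, hx, rfl⟩, h1⟩, h2⟩
        rw [hW, cj_inf, cj_centralizer, cj_zpowers, ← map_inv, ← map_mul, ← map_mul] at h2
        have h3 : Commute (π x) (π ρ) := by
          rw [hρ, map_pow, map_mul]
          exact (Commute.mul_right (mem_cent_zpowers.1 h1) (mem_cent_zpowers.1 h2.2)).pow_right 64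
        rw [← commutatorElement_eq_one_iff_commute, ← map_commutatorElement, hπ] at h3
        refine mem_bot.2 ((QuotientGroup.eq_one_iff _).2 (hC.le ⟨hx, mem_cent_zpowers.2 ?_⟩))
        refine commutatorElement_eq_one_iff_mul_comm.1 (h3.resolve_right fun h4 => es.ne ?_)
        have h5 : (x * ρ * x⁻¹) ^ 5 = 1 := by rw [conj_pow, hρ5]; simp
        rw [show x * ρ * x⁻¹ = ⁅x, ρ⁆ * ρ by simp [commutatorElement_def], h4, Commute.mul_pow
          (es.comm_of_norm (by rw [normalizer_eq_top]; trivial)).symm, hρ5, mul_one, show 5 = 2 * 2 + 1 from rfl, pow_succ,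
          pow_mul, sq z, es.sq, one_pow, one_mul] at h5
        exact h5))
    rw [card_cj, h16, ← hW] at h1
    nlinarith
  set C := H ⊓ centralizer ({T} : Set G) with hCd
  have hzC : z ∈ C := ⟨es.mem, mem_cent_single.2 (es.comm_of_norm (by rw [normalizer_eq_top]; trivial)).symm⟩
  have hCW : C.map π ≤ W := by
    rintro _ ⟨x, hx, rfl⟩
    exact ⟨mem_map_of_mem _ hx.1, mem_cent_zpowers.2 (by rw [← map_mul, mem_cent_single.1 hx.2, map_mul])⟩
  suffices h : Nat.card C ≤ 4 by
    have e := eq_of_le_of_card_ge hV (hV4 ▸ h)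
    exact e ▸ ⟨hV4, hVe⟩
  by_contra! h
  have h8 := hk C hzC
  have h9 : Nat.card C = 8 := by
    have h1 := hV4 ▸ card_dvd_of_le hV
    have := card_le_of_le hCW
    omega
  have hCW' := eq_of_le_of_card_ge hCW (by omega)
  have hn : π T ∈ 𝐍 (H.map π) := by rw [normalizer_eq_top]; trivial
  have hφ : ∀ x ∈ H, ⁅x, T⁆ ∈ C ∧ ⁅x, T⁆ * ⁅x, T⁆ = 1 := fun x hx => by
    have h1 : ⁅x, T⁆ ∈ H := KS9.comm_mem_of_norm hx (by rw [normalizer_eq_top]; trivial)
    have h2 : ⁅⁅x, T⁆, T⁆ = ⁅x, T⁆ * ⁅x, T⁆ := by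
      simp only [commutatorElement_def, inv_eq_of_mul_eq_one_left hT2, mul_inv_rev, inv_inv]
      calc _ = x * T * x⁻¹ * T * (T * T) * x * T * x⁻¹ * T := by simp only [mul_assoc]
        _ = _ := by rw [hT2]; simp only [mul_assoc, mul_one]
    have h3 : π ⁅x, T⁆ ∈ C.map π := hCW'.ge ⟨mem_map_of_mem _ h1, mem_cent_zpowers.2
      (commutatorElement_eq_one_iff_mul_comm.1 (by rw [← map_commutatorElement, h2, hπ]; exact es.sq_mem _ h1))⟩
    have h4 : ⁅x, T⁆ ∈ C := by
      rwa [← mem_comap, comap_map_eq, QuotientGroup.ker_mk', sup_eq_left.2 (zpowers_le.2 hzC)] at h3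
    exact ⟨h4, h2 ▸ commutatorElement_eq_one_iff_mul_comm.2 (mem_cent_single.1 h4.2)⟩
  have hcm : ⁅H.map π, zpowers (π T)⁆ = W := eq_of_le_of_card_ge (fun y hy => by
    obtain ⟨_, ⟨x, hx, rfl⟩, rfl⟩ := (KS9.mem_comm_zpowers_iff hab hn).1 hy
    rw [← map_commutatorElement]; exact hCW (mem_map_of_mem _ (hφ x hx).1)) (by
      have := KS9.card_cent_mul_card_comm hab hn
      rw [← hW, h16, ← hCW', show Nat.card (C.map π) = 4 by omega] at this
      rw [← hCW']; omega)
  have hsq : ∀ c ∈ C, c ^ 2 = 1 := fun c hc => by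
    obtain ⟨_, ⟨x, hx, rfl⟩, e⟩ := (KS9.mem_comm_zpowers_iff hab hn).1 (hcm.ge (hCW (mem_map_of_mem _ hc)))
    rw [← map_commutatorElement, ← inv_mul_eq_one, ← map_inv, ← map_mul, hπ, inv_mul_eq_one, inv_mul_eq_iff_eq_mul] at e
    rcases e with rfl | rfl
    · rw [sq, (hφ x hx).2]
    · rw [Commute.mul_pow (es.cen _ (hφ x hx).1.1), sq, sq, (hφ x hx).2, es.sq, one_mul]
  have := hminus C inf_le_left (FG.elemAb_of_sq fun x => Subtype.ext (hsq x x.2))
  omega

end Cfsg.Agent.S4405
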