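import Cfsg.Statements.S4406
import Cfsg.Agent.Lib.Layer.Misc

set_option autoImplicit false
open Cfsg

namespace Cfsg.Agent.S4406

open Subgroup Cfsg.Lib.Core Cfsg.Lib.Amalg Cfsg.Lib.BG1 Cfsg.Lib.Layer
set_option synthInstance.maxSize 2000 in
theorem f1 : ∀ u : alternatingGroup (Fin 4), u ≠ 1 → u ^ 2 = 1 → ∀ v, v ≠ 1 → v ^ 2 = 1 → u ≠ v → ∀ a, a ≠ 1 → a ^ 3 = 1 →
    ∃ c, (c = a ∨ c = a⁻¹) ∧ c ≠ 1 ∧ c * u * c⁻¹ = v ∧ c * v * c⁻¹ = u * v ∧ c * (u * v) * c⁻¹ = u := by decide +kernel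

theorem f2 : ∀ u : alternatingGroup (Fin 4), u ^ 2 = 1 ∨ u ^ 3 = 1 := by decide +kernel

theorem sq {u : alternatingGroup (Fin 4)} {p q k : ℕ} (h : u ^ p = 1 ∨ u ^ q = 1) (hc : Nat.Coprime q p) (hp : p ≠ 0)
    (hu : u ^ p ^ k = 1) : u ^ p = 1 := h.elim id fun e => by
  rw [orderOf_eq_one_iff.1 (Nat.eq_one_of_dvd_coprimes (hc.pow_right k) (orderOf_dvd_of_pow_eq_one e)
    (orderOf_dvd_of_pow_eq_one hu)), one_pow]


/-- In the direct product P = A₄ × A₄, let X be the Sylow 2-subgroup, X₁ and X₂ its intersections with the two direct factors, Q a Sylow 3-subgroup and Q₁, Q₂ its intersections with the two factors. Then every subgroup B of X of order 4 either meets X₁ or X₂ nontrivially, or is normalized by one of the two subgroups of Q of order 3 other than Q₁ and Q₂. -/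
theorem result
    (X : Sylow 2 (↥(alternatingGroup (Fin 4)) × ↥(alternatingGroup (Fin 4))))
    (Q : Sylow 3 (↥(alternatingGroup (Fin 4)) × ↥(alternatingGroup (Fin 4))))
    (B : Subgroup (↥(alternatingGroup (Fin 4)) × ↥(alternatingGroup (Fin 4)))) (hBX : B ≤ (X : Subgroup _)) (hB4 : Nat.card ↥B = 4) :
    B ⊓ ((X : Subgroup _) ⊓ Subgroup.prod ⊤ ⊥) ≠ ⊥ ∨ B ⊓ ((X : Subgroup _) ⊓ Subgroup.prod ⊥ ⊤) ≠ ⊥ ∨
      ∃ R : Subgroup (↥(alternatingGroup (Fin 4)) × ↥(alternatingGroup (Fin 4))), R ≤ (Q : Subgroup _) ∧ Nat.card ↥R = 3 ∧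
        R ≠ (Q : Subgroup _) ⊓ Subgroup.prod ⊤ ⊥ ∧ R ≠ (Q : Subgroup _) ⊓ Subgroup.prod ⊥ ⊤ ∧ R ≤ Subgroup.normalizer (B : Set _) := by
  by_contra hn
  push Not at hn
  obtain ⟨h1, h2, h3⟩ := hn
  have s2 : ∀ x ∈ B, x.1 ^ 2 = 1 ∧ x.2 ^ 2 = 1 := fun x hx => by
    obtain ⟨k, hk⟩ := isPGroup_iff_mem.1 X.isPGroup' x (hBX hx)
    exact ⟨sq (f2 _) (by norm_num) (by norm_num) (congrArg Prod.fst hk), sq (f2 _) (by norm_num) (by norm_num) (congrArg Prod.snd hk)⟩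
  have n1 : ∀ x ∈ B, x ≠ 1 → x.1 ≠ 1 ∧ x.2 ≠ 1 := fun x hx h =>
    ⟨fun e => h (mem_bot.1 (h2 ▸ ⟨hx, hBX hx, e, trivial⟩)), fun e => h (mem_bot.1 (h1 ▸ ⟨hx, hBX hx, trivial, e⟩))⟩
  obtain ⟨x, hx, x1⟩ := B.bot_or_exists_ne_one.resolve_left fun e => by simp [e] at hB4
  obtain ⟨y, hy, y1, hxy⟩ : ∃ y ∈ B, y ≠ 1 ∧ x ≠ y := by
    by_contra hc
    push Not at hc
    have : (B : Set _) ⊆ {1, x} := fun y hy => by
      by_cases e : y = 1
      exacts [Or.inl e, Or.inr (hc y hy e).symm]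
    have := (Set.ncard_le_ncard this).trans (Set.ncard_pair x1.symm).le
    exact absurd (hB4 ▸ this : 4 ≤ 2) (by norm_num)
  have n2 := n1 _ (mul_mem (inv_mem hx) hy) (by rwa [Ne, inv_mul_eq_one])
  have hB : ({1, x, y, x * y} : Set _) = B := by
    refine Set.eq_of_subset_of_ncard_le ?_ (le_of_eq_of_le hB4 (Set.ncard_eq_four.2 ⟨_, _, _, _, x1.symm, y1.symm, fun e => ?_, hxy,
      by simpa using y1, by simpa using x1, rfl⟩).ge)
    · rintro _ (rfl | rfl | rfl | rfl)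
      exacts [B.one_mem, hx, hy, mul_mem hx hy]
    · refine hxy (mul_left_cancel (a := x) (e ▸ ?_))
      rw [← pow_two]; exact Prod.ext (s2 x hx).1 (s2 x hx).2
  have c12 : Nat.card (alternatingGroup (Fin 4)) = 12 := by
    have := two_mul_nat_card_alternatingGroup (α := Fin 4)
    rw [Nat.card_perm, Nat.card_fin] at this
    simp [Nat.factorial] at this ⊢; omega
  obtain ⟨⟨a, a'⟩, ⟨ha, -, rfl : a' = 1⟩, a1⟩ := (bot_or_exists_ne_one _).resolve_left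
    (((syl_top Q).inf_normal_top (Subgroup.prod ⊤ ⊥)).ne_bot (by
      rw [Nat.card_congr (prodEquiv _ _).toEquiv, Nat.card_prod, card_top, c12, card_bot]; norm_num))
  obtain ⟨⟨b', b⟩, ⟨hb, rfl : b' = 1, -⟩, b1⟩ := (bot_or_exists_ne_one _).resolve_left
    (((syl_top Q).inf_normal_top (Subgroup.prod ⊥ ⊤)).ne_bot (by
      rw [Nat.card_congr (prodEquiv _ _).toEquiv, Nat.card_prod, card_top, c12, card_bot]; norm_num))
  have s3 : ∀ x : alternatingGroup (Fin 4) × alternatingGroup (Fin 4), x ∈ (Q : Subgroup _) → x ^ 3 = 1 := fun x hx => by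
    obtain ⟨k, hk⟩ := isPGroup_iff_mem.1 Q.isPGroup' x hx
    exact Prod.ext (sq (f2 _).symm (by norm_num) (by norm_num) (congrArg Prod.fst hk))
      (sq (f2 _).symm (by norm_num) (by norm_num) (congrArg Prod.snd hk))
  obtain ⟨c, hc, c1, c2, c3, c4⟩ := f1 _ (n1 x hx x1).1 (s2 x hx).1 _ (n1 y hy y1).1 (s2 y hy).1 (by simpa [inv_mul_eq_one] using n2.1)
    a (by simpa using a1) (congrArg Prod.fst (s3 _ ha))
  obtain ⟨d, hd, d1, d2, d3, d4⟩ := f1 _ (n1 x hx x1).2 (s2 x hx).2 _ (n1 y hy y1).2 (s2 y hy).2 (by simpa [inv_mul_eq_one] using n2.2)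
    b (by simpa using b1) (congrArg Prod.snd (s3 _ hb))
  have hcd : (c, d) ∈ (Q : Subgroup _) := by
    have e1 : (c, (1 : alternatingGroup (Fin 4))) ∈ (Q : Subgroup _) := by rcases hc with rfl | rfl; exacts [ha, by simpa using Q.1.inv_mem ha]
    have e2 : ((1 : alternatingGroup (Fin 4)), d) ∈ (Q : Subgroup _) := by rcases hd with rfl | rfl; exacts [hb, by simpa using Q.1.inv_mem hb]
    simpa using mul_mem e1 e2
  refine h3 (zpowers (c, d)) (zpowers_le.2 hcd) (by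
    rw [Nat.card_zpowers]; exact orderOf_eq_prime (s3 _ hcd) fun e => c1 (congrArg Prod.fst e))
    (fun e => d1 (e.le (mem_zpowers _)).2.2) (fun e => c1 (e.le (mem_zpowers _)).2.1)
    (zpowers_le.2 (mem_normalizer_fintype fun w hw => ?_))
  rcases (hB ▸ hw : w ∈ ({1, x, y, x * y} : Set _)) with rfl | rfl | rfl | rfl
  · rw [mul_one, mul_inv_cancel]; exact B.one_mem
  · exact (Prod.ext c2 d2 : (c, d) * w * (c, d)⁻¹ = y) ▸ hy
  · exact (Prod.ext c3 d3 : (c, d) * w * (c, d)⁻¹ = x * w) ▸ mul_mem hx hy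
  · exact (Prod.ext c4 d4 : (c, d) * (x * y) * (c, d)⁻¹ = x).symm ▸ hx

end Cfsg.Agent.S4406
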