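import Cfsg.Statements.S4407


set_option autoImplicit false
open Cfsg

namespace Cfsg.Agent.S4407

open Subgroup

theorem gen9 {S : Type*} [Group S] [Finite S] {A : Subgroup S} (hc : ∀ x ∈ A, ∀ y ∈ A, x * y = y * x)
    (h3 : ∀ x ∈ A, x ^ 3 = 1) (h9 : Nat.card A = 9) {y w : S} (hy : y ∈ A) (hw : w ∈ A) (h1 : y ≠ 1)
    (h2 : w ≠ 1) (h4 : w ≠ y) (h5 : w ≠ y⁻¹) {a : S} (ha : a ∈ A) :
    ∃ i j : ℕ, i < 3 ∧ j < 3 ∧ a = y ^ i * w ^ j := by
  have hc' : Commute y w := hc y hy w hw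
  have k2 : ∀ x ∈ A, x ^ 2 = x⁻¹ := fun x hx =>
    eq_inv_of_mul_eq_one_left (by rw [← pow_succ, h3 x hx])
  have key : ∀ i j : ℕ, i < 3 → j < 3 → y ^ i = w ^ j → i = 0 ∧ j = 0 := by
    intro i j hi hj h
    interval_cases i <;> interval_cases j <;>
      simp only [pow_zero, pow_one, k2 y hy, k2 w hw] at h <;> try exact ⟨rfl, rfl⟩
    all_goals exfalso
    · exact h2 h.symm
    · exact h2 (inv_eq_one.1 h.symm)
    · exact h1 h
    · exact h4 h.symm
    · exact h5 (by rw [h, inv_inv])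
    · exact h1 (inv_eq_one.1 h)
    · exact h5 h.symm
    · exact h4 (inv_injective h).symm
  let f : Fin 3 × Fin 3 → A := fun p => ⟨y ^ (p.1 : ℕ) * w ^ (p.2 : ℕ), mul_mem (pow_mem hy _) (pow_mem hw _)⟩
  have hinj : Function.Injective f := by
    rintro ⟨i, j⟩ ⟨i', j'⟩ h
    have h' : y ^ (i : ℕ) * w ^ (j : ℕ) = y ^ (i' : ℕ) * w ^ (j' : ℕ) := congrArg Subtype.val h
    have e : y ^ ((i + 2 * i' : ℕ) % 3) = w ^ ((j' + 2 * j : ℕ) % 3) := by
      rw [← pow_eq_pow_mod _ (h3 y hy), ← pow_eq_pow_mod _ (h3 w hw)]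
      have a1 : y ^ (i + 2 * i' : ℕ) = (y ^ (i' : ℕ)) ^ 2 * (y ^ (i : ℕ) * w ^ (j : ℕ)) * (w ^ (j : ℕ)) ^ 2 := by
        rw [mul_assoc, mul_assoc, ← pow_succ', h3 _ (pow_mem hw _), mul_one, ← pow_mul, ← pow_add]
        congr 1; ring
      rw [a1, h', ← mul_assoc, ← pow_succ, h3 _ (pow_mem hy _), one_mul, ← pow_mul, ← pow_add]
      congr 1; ring
    have := key _ _ (Nat.mod_lt _ (by norm_num)) (Nat.mod_lt _ (by norm_num)) e
    refine Prod.ext (Fin.ext ?_) (Fin.ext ?_) <;> simp only <;> omega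
  have hb := (Nat.bijective_iff_injective_and_card f).2 ⟨hinj, by simp [h9]⟩
  obtain ⟨⟨i, j⟩, h⟩ := hb.2 ⟨a, ha⟩
  exact ⟨i, j, i.2, j.2, (congrArg Subtype.val h).symm⟩

theorem d8cases : ∀ (k : ZMod 4) (d : DihedralGroup 4), d = 1 ∨ d = .r 1 ∨ d = .r 1 * .r 1 ∨ d = (.r 1)⁻¹ ∨
    d = .sr k ∨ d = .r 1 * .r 1 * .sr k ∨ d = .r 1 * .sr k ∨ d = .r 1 * .r 1 * (.r 1 * .sr k) := by
  decide

theorem d8rel : ∀ (k : ZMod 4), (DihedralGroup.sr k * .sr k : DihedralGroup 4) = 1 ∧
    (DihedralGroup.sr k * .r 1 : DihedralGroup 4) = (.r 1)⁻¹ * .sr k ∧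
    (DihedralGroup.r 1 * .sr k : DihedralGroup 4) ≠ 1 ∧
    (DihedralGroup.r 1 * .r 1 * (.r 1 * .sr k) : DihedralGroup 4) ≠ 1 ∧
    (DihedralGroup.r 1 * .r 1 : DihedralGroup 4) ≠ .r 1 * .sr k := by
  decide

/-- the module computation -/
theorem core {S : Type*} [Group S] [Finite S] {A X : Subgroup S} [A.Normal]
    (hc : ∀ x ∈ A, ∀ y ∈ A, x * y = y * x) (h3 : ∀ x ∈ A, x ^ 3 = 1) (hAX : A ⊔ X = ⊤)
    {r t a b : S} (hrX : r ∈ X) (htX : t ∈ X) (ha : a ∈ A) (hb : b ∈ A) (hb1 : b ≠ 1)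
    (hgen : ∀ x ∈ A, ∃ i j : ℕ, x = b ^ i * a ^ j)
    (hX : ∀ d ∈ X, d = 1 ∨ d = r ∨ d = r * r ∨ d = r⁻¹ ∨ d = t ∨ d = r * r * t ∨ d = r * t ∨ d = r * r * (r * t))
    (hr4 : r * r * r * r = 1) (htt : t * t = 1) (htr : t * r = r⁻¹ * t) (hz1 : r * r ≠ 1) (hu1 : r * t ≠ 1)
    (hzu1 : r * r * (r * t) ≠ 1) (hzu : r * r ≠ r * t)
    (hrb : r * b = a * r) (hra : r * a = b⁻¹ * r) (htb : t * b = b * t)
    {M : Type*} [AddCommGroup M] [Module (ZMod 2) M] [Finite M] (ρ : Representation (ZMod 2) S M)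
    (hfaith : Function.Injective ρ)
    (hirr : ∀ N : Submodule (ZMod 2) M, (∀ s : S, ∀ m ∈ N, ρ s m ∈ N) → N = ⊥ ∨ N = ⊤)
    {v0 : M} (hv0 : v0 ≠ 0) (hbv0 : ρ b v0 = v0) :
    Nat.card M = 16 ∧
      ∃! B : Subgroup S, B ≤ X ∧ Nat.card ↥B = 4 ∧ (∀ b ∈ B, b ^ 2 = 1) ∧
        Nat.card {m : M // ∀ b ∈ B, ρ b m = m} = 2 := by
  have hm : ∀ x y m, ρ (x * y) m = ρ x (ρ y m) := fun x y m => by rw [map_mul]; rfl
  have h1 : ∀ m, ρ 1 m = m := fun m => by rw [map_one]; rfl
  have hmm : ∀ m : M, m + m = 0 := fun m => by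
    rw [← two_smul (ZMod 2), show (2 : ZMod 2) = 0 from rfl, zero_smul]
  have hmm' : ∀ m n : M, m + n = 0 → m = n := fun m n h => by
    rw [← add_zero m, ← hmm n, ← add_assoc, h, zero_add]
  have hinv : ∀ x m, ρ x m = m → ρ x⁻¹ m = m := fun x m h => by
    conv_lhs => rw [← h, ← hm, inv_mul_cancel, h1]
  have hri : r⁻¹ = r * (r * r) := inv_eq_of_mul_eq_one_left (by rw [← hr4]; group)
  have hab : a * b = b * a := hc a ha b hb
  have k2 : ∀ x ∈ A, x⁻¹ = x * x := fun x hx => inv_eq_of_mul_eq_one_left (by rw [← h3 x hx]; simp [pow_succ])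
  have hzb : r * r * b = b⁻¹ * (r * r) := by rw [mul_assoc, hrb, ← mul_assoc, hra, mul_assoc]
  have hzt : t * (r * r) = r * r * t := by
    rw [← mul_assoc, htr, mul_assoc, htr, ← mul_assoc]
    congr 1
    rw [← mul_inv_rev]; exact inv_eq_of_mul_eq_one_left (by rw [← hr4]; group)
  have hrbi : r * b⁻¹ = a⁻¹ * r := by
    rw [eq_inv_mul_iff_mul_eq, ← mul_assoc, ← hrb]; group
  have hza : r * r * a = a⁻¹ * (r * r) := by rw [mul_assoc, hra, ← mul_assoc, hrbi, mul_assoc]
  have hta : t * a = a⁻¹ * t := by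
    have e1 : a = r * b * r⁻¹ := by rw [hrb]; group
    have e2 : t * r⁻¹ = r * t := by
      rw [mul_inv_eq_iff_eq_mul, mul_assoc, htr]; group
    have e3 : r⁻¹ * b = a⁻¹ * r⁻¹ := by
      rw [inv_mul_eq_iff_eq_mul]
      have : a = r⁻¹ * b⁻¹ * r := by rw [mul_assoc, ← hra]; group
      rw [this]; group
    conv_lhs => rw [e1]
    rw [← mul_assoc, ← mul_assoc, htr, mul_assoc r⁻¹, htb, mul_assoc, mul_assoc, e2, ← mul_assoc, e3]
    group
  -- the vector v
  obtain ⟨v1, hv1, hbv1, htv1⟩ : ∃ v1, v1 ≠ 0 ∧ ρ b v1 = v1 ∧ ρ t v1 = v1 := by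
    by_cases h : ρ t v0 = v0
    · exact ⟨v0, hv0, hbv0, h⟩
    · refine ⟨v0 + ρ t v0, fun k => h (hmm' _ _ k).symm, ?_, ?_⟩
      · rw [map_add, ← hm, ← htb, hm, hbv0]
      · rw [map_add, ← hm, htt, h1, add_comm]
  obtain ⟨v, hv, hbv, htv, hzv⟩ : ∃ v, v ≠ 0 ∧ ρ b v = v ∧ ρ t v = v ∧ ρ (r * r) v = v := by
    by_cases h : ρ (r * r) v1 = v1
    · exact ⟨v1, hv1, hbv1, htv1, h⟩
    · refine ⟨v1 + ρ (r * r) v1, fun k => h (hmm' _ _ k).symm, ?_, ?_, ?_⟩
      · have : b * (r * r) = r * r * b⁻¹ := by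
          rw [eq_mul_inv_iff_mul_eq, mul_assoc, hzb]; group
        rw [map_add, ← hm, this, hm (r * r), hinv _ _ hbv1, hbv1]
      · rw [map_add, ← hm, hzt, hm (r * r), htv1]
      · rw [map_add, ← hm, ← mul_assoc, hr4, h1, add_comm]
  have hCA : ∀ m, ρ a m = m → ρ b m = m → m = 0 := by
    let N : Submodule (ZMod 2) M :=
      { carrier := {m | ∀ x ∈ A, ρ x m = m}
        add_mem' := fun {m n} hm hn x hx => by rw [map_add, hm x hx, hn x hx]
        zero_mem' := fun x _ => map_zero _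
        smul_mem' := fun c m hm x hx => by rw [map_smul, hm x hx] }
    have hN := hirr N (fun s m hmN x hx => by
      have : x * s = s * (s⁻¹ * x * s) := by group
      rw [← hm, this, hm, hmN _ (Normal.conj_mem' inferInstance x hx s)])
    intro m h2 h4
    have hmN : m ∈ N := by
      intro x hx
      obtain ⟨i, j, rfl⟩ := hgen x hx
      have p : ∀ (y : S) (n : ℕ), ρ y m = m → ρ (y ^ n) m = m := fun y n h => by
        induction n with
        | zero => rw [pow_zero, h1]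
        | succ n ih => rw [pow_succ, hm, h, ih]
      rw [hm, p a j h2, p b i h4]
    rcases hN with hN | hN
    · rw [hN] at hmN; exact hmN
    · exfalso
      apply hb1
      apply hfaith
      rw [map_one]
      ext m
      have : m ∈ N := hN ▸ Submodule.mem_top
      exact this b hb
  set w := ρ r v with hw
  have haw : ρ a w = w := by rw [hw, ← hm, ← hrb, hm, hbv]
  have hw0 : w ≠ 0 := fun h => hv (by rw [← h1 v, ← inv_mul_cancel r, hm, ← hw, h, map_zero])
  have hbav : ρ b (ρ a v) = ρ a v := by rw [← hm, ← hab, hm, hbv]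
  have habw : ρ a (ρ b w) = ρ b w := by rw [← hm, hab, hm, haw]
  have haav : ρ a (ρ a v) = v + ρ a v := by
    refine (hmm' _ _ (hCA _ ?_ ?_)).symm
    · rw [map_add, map_add, ← hm a a (ρ a v), ← hm (a * a), ← k2 a ha, inv_mul_cancel, h1]; abel
    · rw [map_add, map_add, hbv, hbav, ← hm b a, ← hab, hm, hbav]
  have hbbw : ρ b (ρ b w) = w + ρ b w := by
    refine (hmm' _ _ (hCA _ ?_ ?_)).symm
    · rw [map_add, map_add, haw, habw, ← hm a b, hab, hm, habw]
    · rw [map_add, map_add, ← hm b b (ρ b w), ← hm (b * b), ← k2 b hb, inv_mul_cancel, h1]; abel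
  have hrw : ρ r w = v := by rw [hw, ← hm, hzv]
  have hrav : ρ r (ρ a v) = w + ρ b w := by rw [← hm, hra, hm, k2 b hb, hm, hbbw]
  have hrbw : ρ r (ρ b w) = ρ a v := by rw [← hm, hrb, hm, hrw]
  have htav : ρ t (ρ a v) = v + ρ a v := by rw [← hm, hta, hm, htv, k2 a ha, hm, haav]
  have htw : ρ t w = w := by rw [hw, ← hm, htr, hm, htv, hri, hm, hzv]
  have htbw : ρ t (ρ b w) = ρ b w := by rw [← hm, htb, hm, htw]
  let e : (ZMod 2 × ZMod 2 × ZMod 2 × ZMod 2) → M := fun c =>
    c.1 • v + c.2.1 • ρ a v + (c.2.2.1 • w + c.2.2.2 • ρ b w)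
  have ea : ∀ c, ρ a (e c) = e (c.1 * 0 + c.2.1, c.1 + c.2.1, c.2.2.1, c.2.2.2) := by
    intro c; simp only [e, map_add, map_smul, haav, haw, habw]; module
  have eb : ∀ c, ρ b (e c) = e (c.1, c.2.1, c.2.2.2, c.2.2.1 + c.2.2.2) := by
    intro c; simp only [e, map_add, map_smul, hbv, hbav, hbbw]; module
  have er : ∀ c, ρ r (e c) = e (c.2.2.1, c.2.2.2, c.1 + c.2.1, c.2.1) := by
    intro c; simp only [e, map_add, map_smul, ← hw, hrw, hrav, hrbw]; module
  have et : ∀ c, ρ t (e c) = e (c.1 + c.2.1, c.2.1, c.2.2.1, c.2.2.2) := by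
    intro c; simp only [e, map_add, map_smul, htv, htw, htav, htbw]; module
  have eadd : ∀ c d, e (c + d) = e c + e d := by
    intro c d; simp only [e, Prod.fst_add, Prod.snd_add]; module
  have esmul : ∀ (s : ZMod 2) c, e (s • c) = s • e c := by
    intro s c; simp only [e, Prod.smul_fst, Prod.smul_snd, smul_eq_mul]; module
  have e0 : ∀ c, e c = 0 → c = 0 := by
    rintro ⟨c1, c2, c3, c4⟩ h
    have h' := hmm' _ _ h
    simp only at h'
    have p1 : c1 • v + c2 • ρ a v = 0 := hCA _ (by rw [h']; simp only [map_add, map_smul, haw, habw])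
      (by simp only [map_add, map_smul, hbv, hbav])
    have p2 : c3 • w + c4 • ρ b w = 0 := h' ▸ p1
    have z2 : ∀ c : ZMod 2, c = 0 ∨ c = 1 := by decide
    have q : ∀ (g : S) (m : M) (c d : ZMod 2), m ≠ 0 → ρ g m ≠ m → c • m + d • ρ g m = 0 → c = 0 ∧ d = 0 := by
      intro g m c d k0 k1 k
      rcases z2 c with rfl | rfl <;> rcases z2 d with rfl | rfl
      · exact ⟨rfl, rfl⟩
      · simp only [zero_smul, one_smul, zero_add] at k
        exact absurd (by rw [← h1 m, ← inv_mul_cancel g, hm, k, map_zero]) k0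
      · simp only [zero_smul, one_smul, add_zero] at k; exact absurd k k0
      · simp only [one_smul] at k; exact absurd (hmm' _ _ k).symm k1
    obtain ⟨rfl, rfl⟩ := q a v c1 c2 hv (fun k => hv (hCA _ k hbv)) p1
    obtain ⟨rfl, rfl⟩ := q b w c3 c4 hw0 (fun k => hw0 (hCA _ haw k)) p2
    rfl
  have einj : Function.Injective e := by
    intro c d h
    have : c + d = 0 := e0 _ (by rw [eadd, h, hmm])
    have z : ∀ c d : ZMod 2 × ZMod 2 × ZMod 2 × ZMod 2, c + d = 0 → c = d := by decide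
    exact z c d this
  have esurj : Function.Surjective e := by
    let N : Submodule (ZMod 2) M :=
      { carrier := Set.range e
        add_mem' := by rintro _ _ ⟨c, rfl⟩ ⟨d, rfl⟩; exact ⟨_, eadd c d⟩
        zero_mem' := ⟨0, by simp [e]⟩
        smul_mem' := by rintro s _ ⟨c, rfl⟩; exact ⟨_, esmul s c⟩ }
    let T : Subgroup S := Subgroup.copy (⊤ : Subgroup S) Set.univ rfl
    let St : Submonoid S :=
      { carrier := {s | ∀ m ∈ N, ρ s m ∈ N}
        mul_mem' := fun {x y} hx hy m hmN => by rw [hm]; exact hx _ (hy _ hmN)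
        one_mem' := fun m hmN => by rw [h1]; exact hmN }
    have sa : a ∈ St := by rintro _ ⟨c, rfl⟩; exact ⟨_, (ea c).symm⟩
    have sb : b ∈ St := by rintro _ ⟨c, rfl⟩; exact ⟨_, (eb c).symm⟩
    have sr : r ∈ St := by rintro _ ⟨c, rfl⟩; exact ⟨_, (er c).symm⟩
    have st : t ∈ St := by rintro _ ⟨c, rfl⟩; exact ⟨_, (et c).symm⟩
    have hall : ∀ s, s ∈ St := by
      intro s
      have hs : s ∈ A ⊔ X := hAX ▸ mem_top s
      rw [← SetLike.mem_coe, normal_mul] at hs
      obtain ⟨x, hx, d, hd, rfl⟩ := hs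
      refine mul_mem ?_ ?_
      · obtain ⟨i, j, rfl⟩ := hgen x hx
        exact mul_mem (pow_mem sb _) (pow_mem sa _)
      · rcases hX d hd with h | h | h | h | h | h | h | h <;> rw [h]
        · exact one_mem _
        · exact sr
        · exact mul_mem sr sr
        · rw [hri]; exact mul_mem sr (mul_mem sr sr)
        · exact st
        · exact mul_mem (mul_mem sr sr) st
        · exact mul_mem sr st
        · exact mul_mem (mul_mem sr sr) (mul_mem sr st)
    rcases hirr N hall with h | h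
    · have : v ∈ N := ⟨(1, 0, 0, 0), by simp [e]⟩
      rw [h] at this; exact absurd this hv
    · intro m
      have : m ∈ N := h ▸ Submodule.mem_top
      exact this
  refine ⟨by rw [← Nat.card_eq_of_bijective e ⟨einj, esurj⟩]; simp, ?_⟩
  have huu : r * t * (r * t) = 1 := by
    rw [mul_assoc, ← mul_assoc t, htr, mul_assoc, htt]; group
  have hzz : r * r * (r * r) = 1 := by rw [← hr4]; group
  have huz : r * t * (r * r) = r * r * (r * t) := by rw [mul_assoc, hzt]; group
  let B0 : Subgroup S :=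
    { carrier := {1, r * r, r * t, r * r * (r * t)}
      mul_mem' := by
        generalize r * t = u at *
        generalize r * r = z at *
        have f1 : z * (z * u) = u := by rw [← mul_assoc, hzz, one_mul]
        have f2 : u * (z * u) = z := by rw [← mul_assoc, huz, mul_assoc, huu, mul_one]
        have f3 : z * u * z = u := by rw [mul_assoc, huz, f1]
        have f4 : z * u * u = z := by rw [mul_assoc, huu, mul_one]
        have f5 : z * u * (z * u) = 1 := by rw [mul_assoc, f2, hzz]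
        rintro x y (rfl | rfl | rfl | rfl) (rfl | rfl | rfl | rfl) <;> simp [*]
      one_mem' := Or.inl rfl
      inv_mem' := by
        generalize r * t = u at *
        generalize r * r = z at *
        have f2 : u * (z * u) = z := by rw [← mul_assoc, huz, mul_assoc, huu, mul_one]
        have f5 : z * u * (z * u) = 1 := by rw [mul_assoc, f2, hzz]
        rintro x (rfl | rfl | rfl | rfl)
        · simp
        · rw [inv_eq_of_mul_eq_one_left hzz]; simp
        · rw [inv_eq_of_mul_eq_one_left huu]; simp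
        · rw [inv_eq_of_mul_eq_one_left f5]; simp }
  have hB0 : ∀ x, x ∈ B0 ↔ x = 1 ∨ x = r * r ∨ x = r * t ∨ x = r * r * (r * t) := fun x => Iff.rfl
  have cB0 : Nat.card B0 = 4 := by
    classical
    have : Nat.card B0 = ({1, r * r, r * t, r * r * (r * t)} : Set S).ncard := rfl
    rw [this, Set.ncard_insert_of_notMem, Set.ncard_insert_of_notMem, Set.ncard_pair]
    · intro h; exact hz1 (right_eq_mul.1 h)
    · rintro (h | h)
      · exact hzu h
      · exact hu1 (left_eq_mul.1 h)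
    · rintro (h | h | h)
      · exact hz1 h.symm
      · exact hu1 h.symm
      · exact hzu1 h.symm
  refine ⟨B0, ⟨?_, cB0, ?_, ?_⟩, ?_⟩
  · rintro x (rfl | rfl | rfl | rfl)
    · exact one_mem _
    · exact mul_mem hrX hrX
    · exact mul_mem hrX htX
    · exact mul_mem (mul_mem hrX hrX) (mul_mem hrX htX)
  · rintro x (rfl | rfl | rfl | rfl) <;> rw [sq]
    · exact one_mul _
    · exact hzz
    · exact huu
    · rw [mul_assoc (r * r), ← mul_assoc (r * t), huz, mul_assoc (r * r), huu, mul_one, hzz]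
  · have : Nat.card {m : M // ∀ b ∈ B0, ρ b m = m} = ({m : M | ∀ b ∈ B0, ρ b m = m}).ncard := rfl
    rw [this, Set.ncard_eq_two]
    refine ⟨e 0, e (1, 0, 1, 0), fun h => absurd (einj h) (by decide), ?_⟩
    ext m
    obtain ⟨c, rfl⟩ := esurj m
    simp only [Set.mem_ofPred_eq, hB0, forall_eq_or_imp, forall_eq, hm, h1, er, et, einj.eq_iff,
      Set.mem_insert_iff, Set.mem_singleton_iff]
    revert c; decide
  · rintro B ⟨hBX, hB4, hB2, hBc⟩
    have nr : r ∉ B := fun h => hz1 (by rw [← sq]; exact hB2 r h)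
    have nri : r⁻¹ ∉ B := fun h => nr (inv_mem_iff.1 h)
    have hti : t⁻¹ = t := inv_eq_of_mul_eq_one_left htt
    by_cases hu : t ∈ B ∨ r * r * t ∈ B
    · exfalso
      have n1 : r * t ∉ B := by
        intro h
        rcases hu with hu | hu
        · exact nr (by simpa using mul_mem h (inv_mem hu))
        · exact nr (by simpa [mul_assoc] using mul_mem hu (inv_mem h))
      have n2 : r * r * (r * t) ∉ B := by
        intro h
        rcases hu with hu | hu
        · exact nri (by rw [hri]; simpa [mul_assoc] using mul_mem h (inv_mem hu))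
        · exact nr (by simpa [mul_assoc] using mul_mem h (inv_mem hu))
      have hfix : ∀ c1 c3, ∀ x ∈ B, ρ x (e (c1, 0, c3, 0)) = e (c1, 0, c3, 0) := by
        intro c1 c3 x hx
        rcases hX x (hBX hx) with h | h | h | h | h | h | h | h <;> subst h
        · exact h1 _
        · exact absurd hx nr
        · simp [er]
        · exact absurd hx nri
        · simp [et]
        · simp [er, et]
        · exact absurd hx n1
        · exact absurd hx n2
      let g : ZMod 2 × ZMod 2 → {m : M // ∀ b ∈ B, ρ b m = m} := fun c => ⟨_, hfix c.1 c.2⟩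
      have hg : Function.Injective g := by
        intro c d h
        have := einj (congrArg Subtype.val h)
        simp only [Prod.mk.injEq, true_and, and_true] at this
        exact Prod.ext this.1 this.2
      have := Nat.card_le_card_of_injective g hg
      rw [hBc] at this
      simp at this
    · push Not at hu
      refine eq_of_le_of_card_ge (fun x hx => ?_) (by rw [cB0, hB4])
      rw [hB0]
      rcases hX x (hBX hx) with h | h | h | h | h | h | h | h
      · exact Or.inl h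
      · exact absurd (h ▸ hx) nr
      · exact Or.inr (Or.inl h)
      · exact absurd (h ▸ hx) nri
      · exact absurd (h ▸ hx) hu.1
      · exact absurd (h ▸ hx) hu.2
      · exact Or.inr (Or.inr (Or.inl h))
      · exact Or.inr (Or.inr (Or.inr h))

/-- Let S be a finite group with a normal elementary abelian subgroup A of order 9 that is self-centralizing (C_S(A) = A), and a dihedral subgroup X of order 8 with S = AX. Let M be a finite-dimensional module for S over the field with two elements that is faithful and irreducible. Then M has 16 elements, and X contains exactly one subgroup B of order 4 and exponent 2 whose fixed points on M form a subspace with exactly 2 elements (equivalently, M is free of rank one over the group algebra of B). -/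
theorem result {S : Type*} [Group S] [Finite S]
    (A : Subgroup S) [A.Normal] (hA : Cfsg.IsElementaryAbelian 3 A) (hA9 : Nat.card ↥A = 9)
    (hAC : Subgroup.centralizer (A : Set S) = A) (X : Subgroup S) (hX : Nonempty (↥X ≃* DihedralGroup 4)) (hAX : A ⊔ X = ⊤)
    {M : Type*} [AddCommGroup M] [Module (ZMod 2) M] [Finite M] (ρ : Representation (ZMod 2) S M)
    (hfaith : Function.Injective ρ)
    (hirr : ∀ N : Submodule (ZMod 2) M, (∀ s : S, ∀ m ∈ N, ρ s m ∈ N) → N = ⊥ ∨ N = ⊤) (hM : Nontrivial M) :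
    Nat.card M = 16 ∧
      ∃! B : Subgroup S, B ≤ X ∧ Nat.card ↥B = 4 ∧ (∀ b ∈ B, b ^ 2 = 1) ∧
        Nat.card {m : M // ∀ b ∈ B, ρ b m = m} = 2 := by
  obtain ⟨ψ⟩ := hX
  let φ : DihedralGroup 4 →* S := X.subtype.comp ψ.symm.toMonoidHom
  have φinj : Function.Injective φ := X.subtype_injective.comp ψ.symm.injective
  have φX : ∀ d, φ d ∈ X := fun d => (ψ.symm d).2
  have Xφ : ∀ x ∈ X, ∃ d, x = φ d := fun x hx => ⟨ψ ⟨x, hx⟩, by simp [φ]⟩
  have hc : ∀ x ∈ A, ∀ y ∈ A, x * y = y * x := fun x hx y hy => by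
    have := hA.1
    exact congrArg Subtype.val (mul_comm' (⟨x, hx⟩ : A) ⟨y, hy⟩)
  have h3 := hA.2
  have k2 : ∀ x ∈ A, x ^ 2 = x⁻¹ := fun x hx =>
    eq_inv_of_mul_eq_one_left (by rw [← pow_succ, h3 x hx])
  have ninv : ∀ x ∈ A, x = x⁻¹ → x = 1 := fun x hx h => by
    rw [← k2 x hx, sq] at h; exact left_eq_mul.1 h
  set r := φ (.r 1) with hr
  have hr4 : r * r * r * r = 1 := by
    rw [hr, ← map_mul, ← map_mul, ← map_mul, ← map_one φ]; congr 1
  have hz1 : r * r ≠ 1 := by
    rw [hr, ← map_mul, ← map_one φ, φinj.ne_iff]; decide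
  have cA : ∀ (g : S) {x : S}, x ∈ A → g * x * g⁻¹ ∈ A := fun g x hx => Subgroup.Normal.conj_mem inferInstance x hx g
  have hzz : (r * r)⁻¹ = r * r := inv_eq_of_mul_eq_one_left (by rw [← hr4]; group)
  -- z inverts A
  have hzinv : ∀ x ∈ A, r * r * x * (r * r)⁻¹ = x⁻¹ := by
    by_contra hn
    push Not at hn
    obtain ⟨x, hx, hxn⟩ := hn
    have hzA : r * r ∉ A := fun h => hz1 (by
      have e := h3 _ h
      rw [pow_succ, sq, ← mul_assoc (r * r), hr4, one_mul] at e
      exact e)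
    rw [← hAC, Subgroup.mem_centralizer_iff] at hzA
    push Not at hzA
    obtain ⟨y, hy, hyn⟩ := hzA
    set z := r * r with hz
    have zz : z * z = 1 := by rw [← hr4, hz]; group
    let c := x * (z * x * z⁻¹)
    let d := y * (z * y * z⁻¹)⁻¹
    have hcA : c ∈ A := mul_mem hx (cA z hx)
    have hdA : d ∈ A := mul_mem hy (inv_mem (cA z hy))
    have zz' : ∀ w, z * (z * w * z⁻¹) * z⁻¹ = w := fun w => by
      rw [hzz]; calc z * (z * w * z) * z = (z * z) * w * (z * z) := by group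
        _ = w := by rw [zz]; group
    have hzc : z * c * z⁻¹ = c := by
      have : z * c * z⁻¹ = (z * x * z⁻¹) * (z * (z * x * z⁻¹) * z⁻¹) := by simp only [c]; group
      rw [this, zz', hc _ (cA z hx) _ hx]
    have hzd : z * d * z⁻¹ = d⁻¹ := by
      have : z * d * z⁻¹ = (z * y * z⁻¹) * (z * (z * y * z⁻¹) * z⁻¹)⁻¹ := by simp only [d]; group
      rw [this, zz']; simp only [d]; group
    have hc1 : c ≠ 1 := fun h => hxn (eq_inv_of_mul_eq_one_right h)
    have hd1 : d ≠ 1 := fun h => hyn (by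
      have : y = z * y * z⁻¹ := mul_inv_eq_one.1 h
      conv_lhs => rw [this]
      group)
    have hrz : r * z = z * r := by rw [hz]; group
    have hd' : z * (r * d * r⁻¹) * z⁻¹ = (r * d * r⁻¹)⁻¹ := by
      calc z * (r * d * r⁻¹) * z⁻¹ = (z * r) * d * (z * r)⁻¹ := by group
        _ = r * (z * d * z⁻¹) * r⁻¹ := by rw [← hrz]; group
        _ = _ := by rw [hzd]; group
    have hd2 : r * d * r⁻¹ ≠ d := fun h => hd1 (ninv d hdA (by
      rw [← hzd]
      calc d = r * (r * d * r⁻¹) * r⁻¹ := by rw [h, h]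
        _ = _ := by rw [hz]; group))
    have hd3 : r * d * r⁻¹ ≠ d⁻¹ := fun h => hd1 (ninv d hdA (by
      rw [← hzd]
      calc d = (r * d * r⁻¹)⁻¹ := by rw [h, inv_inv]
        _ = r * (r * d * r⁻¹) * r⁻¹ := by conv_rhs => rw [h]
                                          group
        _ = _ := by rw [hz]; group))
    obtain ⟨i, j, -, -, e⟩ := gen9 hc h3 hA9 hdA (cA r hdA) hd1 (by simpa using hd1) hd2 hd3 hcA
    refine hc1 (ninv c hcA ?_)
    have : z * c * z⁻¹ = (z * d * z⁻¹) ^ i * (z * (r * d * r⁻¹) * z⁻¹) ^ j := by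
      rw [conj_pow, conj_pow (a := z)]; conv_lhs => rw [e]
      group
    rw [hzc, hzd, hd', inv_pow, inv_pow, ← mul_inv_rev, hc _ (pow_mem (cA r hdA) _) _ (pow_mem hdA _), ← e] at this
    exact this
  have hrr : ∀ x ∈ A, r * (r * x * r⁻¹) * r⁻¹ = x⁻¹ := fun x hx => by rw [← hzinv x hx]; group
  have hi2 : ∀ x ∈ A, x ≠ 1 → r * x * r⁻¹ ≠ x := fun x hx h1 h => h1 (ninv x hx (by
    rw [← hrr x hx, h, h]))
  have hi3 : ∀ x ∈ A, x ≠ 1 → r * x * r⁻¹ ≠ x⁻¹ := fun x hx h1 h => h1 (ninv x hx (by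
    rw [← hrr x hx, h]
    calc x = (r * x * r⁻¹)⁻¹ := by rw [h, inv_inv]
      _ = _ := by group))
  obtain ⟨b, hb, hb1, v0, hv0, hbv0⟩ : ∃ b ∈ A, b ≠ 1 ∧ ∃ v0 : M, v0 ≠ 0 ∧ ρ b v0 = v0 := by
    by_contra hn
    push Not at hn
    have h2 : (2 : Module.End (ZMod 2) M) = 0 := by
      ext m
      rw [show (2 : Module.End (ZMod 2) M) = 1 + 1 from by norm_num]
      simp only [LinearMap.add_apply, Module.End.one_apply, LinearMap.zero_apply]
      rw [← two_smul (ZMod 2), show (2 : ZMod 2) = 0 from rfl, zero_smul]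
    have q : ∀ y ∈ A, y ≠ 1 → 1 + ρ y + ρ y * ρ y = 0 := by
      intro y hy hy1
      ext m
      by_contra h0
      refine hn y hy hy1 _ h0 ?_
      have : ρ y * (1 + ρ y + ρ y * ρ y) = 1 + ρ y + ρ y * ρ y := by
        have : ρ y * (ρ y * ρ y) = 1 := by
          rw [← map_mul, ← map_mul, ← map_one ρ, ← h3 y hy]; simp [pow_succ, mul_assoc]
        rw [mul_add, mul_add, this, mul_one]; abel
      exact congrArg (fun f : Module.End (ZMod 2) M => f m) this
    obtain ⟨y, hy⟩ := (Finite.one_lt_card_iff_nontrivial.1 (by rw [hA9]; norm_num : 1 < Nat.card A)).exists_pair_ne.imp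
      (fun y ⟨w, h⟩ => (⟨w, h⟩ : ∃ w, y ≠ w))
    obtain ⟨y, hy, hy1⟩ : ∃ y ∈ A, y ≠ 1 := by
      obtain ⟨w, h⟩ := hy
      exact ⟨y * w⁻¹, mul_mem y.2 (inv_mem w.2), fun k => h (Subtype.ext (mul_inv_eq_one.1 k))⟩
    have hw := cA r hy
    have q1 := q y hy hy1
    have q2 := q _ hw (by simpa using hy1)
    have q3 := q _ (mul_mem hy hw) (fun h => hi3 y hy hy1 (eq_inv_of_mul_eq_one_right h))
    have cm : ρ (r * y * r⁻¹) * ρ y = ρ y * ρ (r * y * r⁻¹) := by rw [← map_mul, ← map_mul, hc _ hw _ hy]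
    apply hi2 y hy hy1
    apply hfaith
    rw [map_mul ρ y] at q3
    generalize ρ (r * y * r⁻¹) = D at *
    generalize ρ y = C at *
    have e1 : C * C = -1 - C := by rw [← sub_eq_zero, ← q1]; abel
    have e2 : D * D = -1 - D := by rw [← sub_eq_zero, ← q2]; abel
    have e3 : C * D * (C * D) = (C * C) * (D * D) := by
      rw [mul_assoc, ← mul_assoc D, cm]; simp only [mul_assoc]
    rw [e3, e1, e2] at q3
    have : D - C = (1 + C * D + (-1 - C) * (-1 - D)) - 2 * (1 + C * D + C) := by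
      simp only [two_mul, mul_sub, sub_mul, mul_neg, neg_mul, mul_one, one_mul]; abel
    rw [q3, h2] at this
    exact sub_eq_zero.1 (by simpa using this)
  have ha := cA r hb
  have gen := fun x (hx : x ∈ A) => gen9 hc h3 hA9 hb ha hb1 (by simpa using hb1) (hi2 b hb hb1) (hi3 b hb hb1) hx
  obtain ⟨k, hk⟩ : ∃ k : ZMod 4, φ (.sr k) * b = b * φ (.sr k) := by
    set f := φ (.sr 0) with hf
    have hff : f * f = 1 := by rw [hf, ← map_mul, ← map_one φ]; congr 1
    have hfr : f * r = r⁻¹ * f := by rw [hf, hr, ← map_inv, ← map_mul, ← map_mul]; congr 1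
    have s1 : φ (.sr 1) = f * r := by rw [hf, hr, ← map_mul]; congr 1
    have s2 : φ (.sr 2) = f * (r * r) := by rw [hf, hr, ← map_mul, ← map_mul]; congr 1
    have s3 : φ (.sr 3) = f * r⁻¹ := by rw [hf, hr, ← map_inv, ← map_mul]; congr 1
    obtain ⟨m, n, hm, hn, e⟩ := gen _ (cA f hb)
    set a := r * b * r⁻¹ with hadef
    have hfi : f⁻¹ = f := inv_eq_of_mul_eq_one_left hff
    have rb : r⁻¹ * b * r = a⁻¹ := by
      have := hrr b hb
      calc r⁻¹ * b * r = r⁻¹ * (b⁻¹)⁻¹ * r := by group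
        _ = _ := by rw [← this, ← hadef]; group
    have ra : r⁻¹ * a * r = b := by rw [hadef]; group
    have fa : f * a * f⁻¹ = a⁻¹ ^ m * b ^ n := by
      calc f * a * f⁻¹ = (f * r) * b * (f * r)⁻¹ := by rw [hadef]; group
        _ = r⁻¹ * (f * b * f⁻¹) * r := by rw [hfr]; group
        _ = (r⁻¹ * b * r⁻¹⁻¹) ^ m * (r⁻¹ * a * r⁻¹⁻¹) ^ n := by
          rw [e, conj_pow (a := r⁻¹), conj_pow (a := r⁻¹)]; simp only [mul_assoc, inv_inv, mul_inv_cancel_left]
        _ = _ := by rw [inv_inv, rb, ra]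
    have ffb : b = (b ^ m * a ^ n) ^ m * (a⁻¹ ^ m * b ^ n) ^ n := by
      rw [← fa, ← e, conj_pow, conj_pow]
      calc b = (f * f) * b * (f * f)⁻¹ := by rw [hff]; group
        _ = f * (f * b * f⁻¹) * f⁻¹ := by group
        _ = _ := by rw [e]; group
    have cab : Commute b a := hc b hb a ha
    have ffb' : b = b ^ (m * m + n * n) := by
      rw [(cab.pow_pow _ _).mul_pow, (cab.symm.inv_left.pow_pow _ _).mul_pow, ← pow_mul, ← pow_mul, ← pow_mul,
        ← pow_mul, mul_assoc, ← mul_assoc (a ^ _), mul_comm n m, inv_pow, mul_inv_cancel, one_mul, ← pow_add] at ffb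
      exact ffb
    have b2 : b ≠ b ^ 2 := fun h => hb1 (by rw [sq] at h; exact left_eq_mul.1 h)
    interval_cases m <;> interval_cases n <;> try simp only [pow_zero, pow_one, mul_one, one_mul] at e fa
    · exact absurd ffb' (by simpa using hb1)
    · refine ⟨1, ?_⟩
      rw [s1]
      calc f * r * b = f * a * f⁻¹ * (f * r) := by rw [hadef]; group
        _ = _ := by rw [fa]
    · refine ⟨3, ?_⟩
      rw [k2 b hb] at fa
      rw [s3]
      calc f * r⁻¹ * b = (f * (r⁻¹ * b * r)⁻¹ * f⁻¹)⁻¹ * (f * r⁻¹) := by group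
        _ = _ := by rw [rb, inv_inv, fa, inv_inv]
    · exact ⟨0, by rw [← hf, ← mul_inv_eq_iff_eq_mul, e]⟩
    · exact absurd ffb' b2
    · rw [pow_eq_pow_mod _ (h3 b hb)] at ffb'; exact absurd ffb' b2
    · refine ⟨2, ?_⟩
      rw [k2 b hb] at e
      rw [s2]
      calc f * (r * r) * b = f * (r * r * b * (r * r)⁻¹) * f⁻¹ * (f * (r * r)) := by group
        _ = (f * b * f⁻¹)⁻¹ * (f * (r * r)) := by rw [hzinv b hb]; group
        _ = _ := by rw [e, inv_inv]
    · rw [pow_eq_pow_mod _ (h3 b hb)] at ffb'; exact absurd ffb' b2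
    · rw [pow_eq_pow_mod _ (h3 b hb)] at ffb'; exact absurd ffb' b2
  obtain ⟨d1, d2, d3, d4, d5⟩ := d8rel k
  refine core (r := r) (t := φ (.sr k)) hc h3 hAX (φX _) (φX _) ha hb hb1
    (fun x hx => (gen x hx).imp fun i ⟨j, _, _, e⟩ => ⟨j, e⟩) ?_ hr4 ?_ ?_ hz1 ?_ ?_ ?_ (by group) ?_ hk ρ hfaith hirr
    hv0 hbv0
  · intro x hx
    obtain ⟨d, rfl⟩ := Xφ x hx
    simp only [hr, ← map_mul, ← map_inv, φinj.eq_iff]
    rw [← map_one φ, φinj.eq_iff]
    exact d8cases k d
  · rw [← map_mul, d1, map_one]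
  · rw [hr, ← map_mul, d2, map_mul, map_inv]
  · rw [hr, ← map_mul, ← map_one φ, φinj.ne_iff]; exact d3
  · rw [hr, ← map_mul, ← map_mul, ← map_mul, ← map_one φ, φinj.ne_iff]; exact d4
  · rw [hr, ← map_mul, ← map_mul, φinj.ne_iff]; exact d5
  · rw [← hrr b hb]; group

end Cfsg.Agent.S4407
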