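import Cfsg.Statements.S4408
import Cfsg.Agent.Lib.Layer.TDih

set_option autoImplicit false
open Cfsg

namespace Cfsg.Agent.S4408

open Subgroup Cfsg.Lib.Core Cfsg.Lib.Amalg Cfsg.Lib.BG1 Cfsg.Lib.Layer

/-- Let S be a finite solvable group whose Fitting subgroup F(S) has odd order, and let I be an elementary abelian 2-subgroup of S of order 2ⁿ with n ≥ 1. Then F(S) contains subgroups A₁, …, Aₙ of prime order, each normalized by I, pairwise commuting and generating a subgroup A of order |A₁|⋯|Aₙ| (their internal direct product), such that no non-identity element of I centralizes A. -/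
theorem result {S : Type*} [Group S] [Finite S]
    [Group.IsSolvable S] (hF : Odd (Nat.card ↥(Cfsg.fittingSubgroup S)))
    (I : Subgroup S) (hI : Cfsg.IsElementaryAbelian 2 I) (n : ℕ) (hn : 1 ≤ n) (hIn : Nat.card ↥I = 2 ^ n) :
    ∃ f : Fin n → Subgroup S, (∀ i, (Nat.card ↥(f i)).Prime) ∧ (∀ i, f i ≤ Cfsg.fittingSubgroup S) ∧
      (∀ i, I ≤ Subgroup.normalizer ((f i) : Set S)) ∧ (∀ i j, i ≠ j → ∀ a ∈ f i, ∀ b ∈ f j, a * b = b * a) ∧
      Nat.card ↥(⨆ i, f i) = ∏ i, Nat.card ↥(f i) ∧ I ⊓ Subgroup.centralizer ((⨆ i, f i : Subgroup S) : Set S) = ⊥ := by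
  have hco : (Nat.card I).Coprime (Nat.card (fittingSubgroup S)) := by
    rw [hIn]; exact Nat.Coprime.pow_left _ (Nat.coprime_two_left.2 hF)
  haveI : (fittingSubgroup S).Normal := fit_normal
  obtain ⟨a, x, k1, k2, k3, -, k5⟩ := TDih.main hI hIn fit_nilpotent hF le_normalizer_of_normal (by
    have h := centralizer_fit_le_iff.2 (layer_eq_bot_of_isSolvable (G := S))
    exact eq_bot_iff.2 ((inf_le_inf_left _ h).trans (Subgroup.inf_eq_bot_of_coprime hco).le))
  have ho : ∀ i, Odd (orderOf (x i)) := fun i => hF.of_dvd_nat (Subgroup.orderOf_dvd_natCard _ (k1 i).2.1)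
  have hc : ∀ i j, ∀ u ∈ zpowers (x i), ∀ v ∈ zpowers (x j), Commute u v := by
    rintro i j _ ⟨k, rfl⟩ _ ⟨l, rfl⟩
    exact Commute.zpow_zpow (k5 i j) k l
  refine ⟨fun i => zpowers (x i), fun i => by rw [Nat.card_zpowers]; exact (k1 i).2.2.1,
    fun i => zpowers_le.2 (k1 i).2.1, fun i => ?_, fun i j _ => hc i j, ?_, eq_bot_iff.2 fun s hs => k3 s hs.1 fun i => ?_⟩
  · refine le_normalizer_of_cj_le fun k hk => ?_
    rw [cj_zpowers, zpowers_le]
    rcases (k1 i).2.2.2.2 k hk with h | h <;> rw [h]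
    · exact mem_zpowers _
    · exact inv_mem (mem_zpowers _)
  · have hcomm : Pairwise fun i j : Fin n => ∀ u v : S, u ∈ zpowers (x i) → v ∈ zpowers (x j) → Commute u v :=
      fun i j _ u v hu hv => hc i j u hu v hv
    have hind : iSupIndep fun i => zpowers (x i) := by
      intro i
      rw [disjoint_iff, eq_bot_iff]
      rintro _ ⟨⟨k, rfl⟩, h2⟩
      have h3 : (⨆ j, ⨆ (_ : j ≠ i), zpowers (x j)) ≤ 𝐂[a i] := iSup₂_le fun j hj =>
        zpowers_le.2 (mem_centralizer_singleton_iff.2 (mul_inv_eq_iff_eq_mul.1 (k2 i j hj.symm)).symm)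
      have h4 := mem_centralizer_singleton_iff.1 (h3 h2)
      have h5 : a i * x i ^ k * (a i)⁻¹ = (x i ^ k)⁻¹ := by
        rw [← conj_zpow, (k1 i).2.2.2.1, inv_zpow]
      simp only at h4
      rw [← h4, mul_inv_cancel_right] at h5
      have h6 : orderOf (x i ^ k) ∣ 2 := orderOf_dvd_of_pow_eq_one (by rw [sq]; nth_rw 1 [h5]; exact inv_mul_cancel _)
      have h7 : orderOf (x i ^ k) ∣ orderOf (x i) := orderOf_dvd_of_mem_zpowers ⟨k, rfl⟩
      exact orderOf_eq_one_iff.1 (Nat.eq_one_of_dvd_coprimes (Nat.coprime_two_left.2 (ho i)) h6 h7)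
    rw [← Subgroup.noncommPiCoprod_range (hcomm := hcomm), ← Nat.card_pi]
    exact (Nat.card_congr (MonoidHom.ofInjective
      (Subgroup.injective_noncommPiCoprod_of_iSupIndep (hcomm := hcomm) hind)).toEquiv).symm
  · exact mul_inv_eq_iff_eq_mul.2 (hs.2 _ (mem_iSup_of_mem i (mem_zpowers _))).symm

end Cfsg.Agent.S4408
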