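import Cfsg.Statements.S4409
import Cfsg.Agent.Lib.PGrp.Min8b
import Cfsg.Agent.Lib.PGrp.CExt

set_option autoImplicit false
open Cfsg

namespace Cfsg.Agent.S4409

open Subgroup Cfsg.Lib Cfsg.Lib.Amalg Cfsg.Lib.Known2 Cfsg.Lib.Min8
open scoped commutatorElement

theorem card_cent {G : Type*} [Group G] [Finite G] {A Z : Subgroup G} {x : G} (h8 : Nat.card A = 8) (h2 : Nat.card Z = 2)
    (h : ∀ a ∈ A, ⁅a, x⁆ ∈ Z) : 4 ≤ Nat.card ↥(centralizer {x} ⊓ A) := by
  have h3 := PGrp.relIndex_centralizer_le_card h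
  have h5 := Core.card_inf_mul_relIndex (centralizer {x}) A
  nlinarith

theorem p1a {G : Type*} [Group G] [Finite G] {T A : Subgroup G} (hP : IsPGroup 2 ↥(T ⊔ A)) (hn : A ≤ 𝐍 T) (hc : 𝐂 T ≤ T) (hT : T ≤ 𝐂 T)
    (h4 : Nat.card T = 4) (hA : A ≤ 𝐂 A) (h8 : Nat.card A = 8) : False := by
  haveI := Invol.fact_two
  have nT : T ⊔ A ≤ 𝐍 T := sup_le le_normalizer hn
  obtain ⟨L, -, l2, l3, l4, l5⟩ := PGrp.exists_card_eq_mul_of_normalizes hP (bot_lt_iff_ne_bot.2 fun e : T = ⊥ => by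
    simp [e] at h4) le_sup_left le_normalizer_of_normal nT
  rw [card_bot] at l4
  obtain ⟨x, hx, x1⟩ := SetLike.not_le_iff_exists.1 (fun h : T ≤ L => by have := card_le_of_le h; omega)
  obtain ⟨M, -, m2, -, m4, m5⟩ := PGrp.exists_card_eq_mul_of_normalizes hP (lt_of_le_of_ne l2 fun e => x1 (e.ge hx)) le_sup_left l3 nT
  rw [eq_of_le_of_card_ge m2 (by omega)] at m5
  have h1 := card_cent h8 l4 fun a ha => m5 (commutator_comm _ T ▸ commutator_mem_commutator (mem_sup_right ha) hx)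
  have h2 : L ⊔ zpowers x = T := eq_of_le_of_card_ge (sup_le l2 (zpowers_le.2 hx))
    (by have := card_sup_ge hP (l2.trans le_sup_left) (mem_sup_left hx) x1; omega)
  have h3 : centralizer {x} ⊓ A = T := eq_of_le_of_card_ge (fun a ha => hc (by
    rw [← h2, Core.centralizer_sup, Core.centralizer_zpowers]
    exact ⟨le_centralizer_iff.1 (commutator_eq_bot_iff_le_centralizer.1 (eq_bot_iff.2 l5)) (mem_sup_right ha.2), ha.1⟩)) (by omega)
  have := card_le_of_le ((hA.trans (Core.centralizer_anti (h3.ge.trans inf_le_right))).trans hc)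
  omega

theorem p1b {G : Type*} [Group G] [Finite G] {T A : Subgroup G} {z : G} (hP : IsPGroup 2 ↥(T ⊔ A)) (hn : A ≤ 𝐍 T) (hc : 𝐂 T ≤ T)
    (h : ES T z) (h4 : Nat.card T ≤ 8) (hu : Uniq T) (hA : A ≤ 𝐂 A) (hnc : ¬ IsCyclic A) (h8 : Nat.card A = 8) : False := by
  haveI := Invol.fact_two
  have nT : T ⊔ A ≤ 𝐍 T := sup_le le_normalizer hn
  have z0 : zpowers z ≤ T ⊓ 𝐂 T := zpowers_le.2 ⟨h.mem, h.cen⟩
  have z2 := card_zpowers_invol h.sq h.ne
  obtain ⟨b, hb, c, hc', h1⟩ := h.nonab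
  obtain ⟨L, l1, l2, l3, l4, l5⟩ := PGrp.exists_card_eq_mul_of_normalizes hP (lt_of_le_of_ne (z0.trans inf_le_left) fun e =>
    h1 ((z0 (e.ge hc')).2 b hb)) le_sup_left (fun g hg => cent_le_norm _ (mem_cent_zpowers.2 (h.comm_of_norm (nT hg)))) nT
  obtain ⟨x, hx, x1⟩ := SetLike.not_le_iff_exists.1 (fun h : L ≤ zpowers z => by have := card_le_of_le h; omega)
  have h2 := card_cent h8 z2 fun a ha => l5 (commutator_comm _ L ▸ commutator_mem_commutator (mem_sup_right ha) hx)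
  have h3 : zpowers z ⊔ zpowers x = L := eq_of_le_of_card_ge (sup_le l1 (zpowers_le.2 hx))
    (by have := card_sup_ge h.isPGroup (z0.trans inf_le_left) (l2 hx) x1; omega)
  have h5 : ∀ g ∈ 𝐍 T, g ∈ centralizer {x} → g ∈ 𝐂 L := fun g hg e => by
    rw [← h3, Core.centralizer_sup, Core.centralizer_zpowers x]; exact ⟨mem_cent_zpowers.2 (h.comm_of_norm hg), e⟩
  have h6 : L = T ⊓ centralizer {x} := by
    have h6 : L ≤ T ⊓ centralizer {x} := le_inf l2 (h3.ge.trans (sup_le (fun g hg => mem_cent_single.2 ((z0 hg).2 x (l2 hx)).symm)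
      (zpowers_le.2 (mem_cent_single.2 rfl))))
    have := KS9.mul_card_le_of_lt h.isPGroup (lt_of_le_of_ne (inf_le_left : T ⊓ centralizer {x} ≤ T) fun e =>
      x1 (h.mem_zp.2 (h.of_cen x (l2 hx) fun y hy => (mem_cent_single.1 (e.ge hy).2).symm)))
    exact eq_of_le_of_card_ge h6 (by omega)
  have h7 : L.relIndex T = 2 := by
    have := KS9.mul_card_le_of_lt h.isPGroup (lt_of_le_of_ne l2 fun e =>
      x1 (h.mem_zp.2 (h.of_cen x (l2 hx) fun y hy => (mem_cent_single.1 ((e.symm.trans h6).le hy).2).symm)))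
    have := Core.card_mul_relIndex l2
    rw [l4, z2] at *
    omega
  have inv : ∀ w ∈ T, w * w = 1 → w ∈ zpowers z := fun w hw e => by
    by_cases e1 : w = 1
    exacts [e1 ▸ one_mem _, hu z h.mem w hw h.orderOf_eq (orderOf_eq_two_of e e1) ▸ mem_zpowers z]
  have key : ∀ a ∈ centralizer {x} ⊓ A, a * a ∈ zpowers z → a ∈ L := fun a ha e => by
    have a1 := h5 a (hn ha.2) ha.1
    obtain ⟨q, hq, h9⟩ := h.exists_inner (h.comm_of_norm (hn ha.2)) fun y hy => by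
      have y1 := Core.conj_mem_of_mem_normalizer (hn ha.2) hy
      have y2 : y⁻¹ * (a * y * a⁻¹) ∈ L := (ABG.mul_mem_iff_of_relIndex_two h7 (inv_mem hy) y1).2 (by
        rw [inv_mem_iff]; exact mem_normalizer_iff.1 (l3 (mem_sup_right ha.2)) y)
      have y3 := inv _ (l2 y2) (by
        nth_rewrite 2 [← conj_eq_of_comm (a1 _ y2).symm]
        rw [show y⁻¹ * (a * y * a⁻¹) * (a * (y⁻¹ * (a * y * a⁻¹)) * a⁻¹) = y⁻¹ * (a * a * y * (a * a)⁻¹) by group,
          conj_eq_of_comm ((z0 e).2 y hy).symm, inv_mul_cancel])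
      exact (h.mem_zp.1 y3).imp (fun e => (inv_mul_eq_one.1 e).symm) inv_mul_eq_iff_eq_mul.1
    exact h6.ge ⟨(mul_mem_cancel_left (inv_mem hq)).1 (hc fun y hy => (comm_of_conj_eq (by
      rw [show q⁻¹ * a * y * (q⁻¹ * a)⁻¹ = q⁻¹ * (a * y * a⁻¹) * q by group, h9 y hy]; group)).symm), ha.1⟩
  have h9 : centralizer {x} ⊓ A = L := eq_of_le_of_card_ge (fun a ha => key a ha (by
    have a4 : a * a * (a * a) = 1 := by
      obtain ⟨k, hk, e⟩ := (Nat.dvd_prime_pow Nat.prime_two (m := 3)).1 (h8 ▸ orderOf_dvd_natCard (⟨a, ha.2⟩ : A) : _ ∣ 8)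
      rw [show a * a * (a * a) = a ^ 2 ^ 2 by norm_num [pow_succ, mul_assoc], ← orderOf_dvd_iff_pow_eq_one,
        ← show orderOf ((⟨a, ha.2⟩ : A) : G) = orderOf a from rfl, orderOf_coe, e]
      exact pow_dvd_pow 2 (by by_contra h; exact hnc (isCyclic_of_orderOf_eq_card _ (by rw [e, h8, show k = 3 by omega]; rfl)))
    exact inv _ (l2 (key _ (mul_mem ha ha) (a4 ▸ one_mem _))) a4)) (by omega)
  have := card_le_of_le ((le_inf (fun a ha => mem_cent_single.2 (hA (h9.ge hx).2 a ha)) le_rfl).trans h9.le)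
  omega

/-- Let S be a finite solvable group with O_{2'}(S) = 1 that contains a non-cyclic abelian subgroup of order 8, while no proper subgroup of S of 2-power index contains one. Then a Sylow 2-subgroup X of S is normal in S, and one of the following holds: X is abelian; X is extraspecial of order at least 32; X has a generalized quaternion subgroup X₀ of index 2 with X = X₀·C_X(X₀); or X is special with centre of order 4. -/
theorem result {S : Type*} [Group S] [Finite S]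
    [Group.IsSolvable S] (hO : Cfsg.pPrimeCore 2 S = ⊥)
    (h8 : ∃ A : Subgroup S, IsMulCommutative ↥A ∧ ¬ IsCyclic ↥A ∧ Nat.card ↥A = 8)
    (hmin : ∀ R : Subgroup S, R ≠ ⊤ → (∃ k : ℕ, R.index = 2 ^ k) →
      ¬ ∃ A : Subgroup S, A ≤ R ∧ IsMulCommutative ↥A ∧ ¬ IsCyclic ↥A ∧ Nat.card ↥A = 8)
    (X : Sylow 2 S) :
    (X : Subgroup S).Normal ∧
      (IsMulCommutative ↥X ∨
        (Cfsg.IsExtraspecial 2 ↥X ∧ 32 ≤ Nat.card ↥X) ∨
        (∃ (X₀ : Subgroup S) (k : ℕ), X₀ ≤ (X : Subgroup S) ∧ X₀.relIndex (X : Subgroup S) = 2 ∧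
          Nonempty (↥X₀ ≃* QuaternionGroup (2 ^ (k + 1))) ∧ X₀ ⊔ ((X : Subgroup S) ⊓ Subgroup.centralizer (X₀ : Set S)) = (X : Subgroup S)) ∨
        (Cfsg.IsSpecial 2 ↥X ∧ Nat.card ↥(Subgroup.center ↥X) = 4)) := by
  haveI := Invol.fact_two
  obtain ⟨H, -, h1, h2⟩ := BG1.exists_hall (H := (⊤ : Subgroup S)) {2}ᶜ inferInstance
  have hH : Odd (Nat.card H) := Nat.not_even_iff_odd.1 fun h => h1 2 Nat.prime_two (even_iff_two_dvd.1 h) rfl
  have bad : ∀ Y, Good Y → Y ⊔ H = ⊤ := fun Y hY => by_contra fun h => hmin _ h ⟨_, Nat.eq_prime_pow_of_unique_prime_dvd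
    index_ne_zero_of_finite fun hd h3 => by_contra fun h4 => h2 _ hd h4 (relIndex_top_right H ▸ h3.trans (index_dvd_of_le le_sup_right))⟩
      (hY.mono le_sup_left)
  have big : ∀ Y P : Subgroup S, H ≤ 𝐍 Y → Y ⊔ H = ⊤ → IsPGroup 2 P → Nat.card P ≤ Nat.card Y := fun Y P h3 h4 h5 => by
    obtain ⟨k, hk⟩ := h5.exists_card_eq
    exact Nat.le_of_dvd Nat.card_pos (Nat.Coprime.dvd_of_dvd_mul_right (hk ▸ (Nat.coprime_two_left.2 hH).pow_left k)
      ((card_dvd_of_le (le_top.trans h4.ge)).trans (Core.card_sup_dvd' h3)))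
  obtain ⟨A, hA, hnc, h8⟩ := h8
  have hc := Core.centralizer_pCore_le_of_solvable Nat.prime_two hO
  have hT := Core.isPGroup_pCore (G := S) (p := 2)
  have hX : pCore 2 S ≤ X := Core.pCore_le_sylow X
  have hN : (pCore 2 S).Normal := inferInstance
  generalize pCore 2 S = T at *
  have hA2 : IsPGroup 2 A := .of_card (n := 3) h8
  have hP : IsPGroup 2 ↥(T ⊔ A) := hT.to_sup_of_normal_left hA2
  have hn : ∀ K : Subgroup S, K ≤ 𝐍 T := fun K => le_normalizer_of_normal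
  have cA := isMulCommutative_iff_le_cent.1 hA
  by_cases hTH : T ≤ 𝐂 H
  · have h3 : H = ⊥ := disjoint_self.1 ((disjoint_of_coprime_natCard (by
      obtain ⟨k, hk⟩ := hT.exists_card_eq
      exact hk ▸ (Nat.coprime_two_right.2 hH).pow_right k)).mono_right ((le_centralizer_iff.1 hTH).trans hc))
    have h4 := bad A ⟨A, le_rfl, hA, hnc, h8⟩
    rw [h3, sup_bot_eq] at h4
    have h5 : ∀ x y : S, x * y = y * x := fun x y => cA (h4.ge (mem_top y)) x (h4.ge (mem_top x))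
    exact ⟨⟨fun x hx g => by rwa [h5 g, mul_inv_cancel_right]⟩, Or.inl ⟨⟨fun x y => Subtype.ext (h5 _ _)⟩⟩⟩
  have hZ := card_cases hT.to_inf_left (Core.inf_centralizer_ne_bot_of_isPGroup hT hT le_normalizer fun e => hTH (e ▸ bot_le))
  by_cases ht : T ⊔ H = ⊤
  swap
  · have hb : ∀ Y < T, H ≤ 𝐍 Y → ¬ Good Y := fun Y h _ h3 => ht (bad T (h3.mono h.le))
    rcases hZ with h3 | h3
    · obtain ⟨z, h4⟩ := es_of hH hT (hn H) hTH hb h3
      have h5 := card_le_of_bad h4 (mt (bad T) ht)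
      exact (p1b hP (hn A) hc h4 h5 (uniq_of_ES hH h4 h5 (hn H) hTH) cA hnc h8).elim
    · obtain ⟨h4, h5⟩ := (uniq_or hT (mt (bad T) ht) le_rfl h3).resolve_left fun hu => hTH (cent_of_uniq hH hT (hn H) hu le_rfl h3)
      exact (p1a hP (hn A) hc (h4.trans inf_le_right) (le_antisymm h5 (h3.trans (card_le_of_le inf_le_left))) cA h8).elim
  have hb : ∀ Y < T, H ≤ 𝐍 Y → ¬ Good Y := fun Y h h3 h4 => (Core.card_lt_of_lt h).not_ge (big Y T h3 (bad Y h4) hT)
  obtain rfl : T = X := eq_of_le_of_card_ge hX (big T X (hn H) ht X.isPGroup')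
  refine ⟨hN, ?_⟩
  by_cases hab : (X : Subgroup S) ≤ 𝐂 (X : Subgroup S)
  · exact Or.inl (isMulCommutative_iff_le_cent.2 hab)
  rcases hZ with h3 | h3
  · obtain ⟨z, h4⟩ := es_of hH hT (hn H) hTH hb h3
    refine Or.inr (Or.inl ⟨h4.isExtraspecial, ?_⟩)
    have h5 : A ≤ X := le_sup_right.trans (eq_of_le_of_card_ge le_sup_left (big _ _ (hn H) ht hP)).ge
    have h6 := Core.card_lt_of_lt (lt_of_le_of_ne h5 fun e => hab (e ▸ cA))
    obtain ⟨V, _, _, _, M, m, -, hm⟩ := PGrp.IsExtraspecial.exists_cExt h4.isExtraspecial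
    have h7 := M.card_eq_pow
    rw [hm] at h7
    rw [h8, show Nat.card ↥(X : Subgroup S) = _ from h7] at h6
    have := (Nat.pow_lt_pow_iff_right (a := 2) (n := 3) one_lt_two).1 h6
    exact h7.ge.trans' (Nat.pow_le_pow_right (i := 5) two_pos (by omega))
  rcases big_centre hH hT (hn H) hTH hb h3 hab ht with ⟨E, h4, h5, h6, h7⟩ | h4
  exacts [Or.inr (Or.inr (Or.inl ⟨E, 0, h4, h5, h6, h7⟩)), Or.inr (Or.inr (Or.inr h4))]

end Cfsg.Agent.S4409
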