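import Cfsg.Statements.S4410
import Cfsg.Agent.Lib.Core.Fitting

set_option autoImplicit false
open Cfsg

namespace Cfsg.Agent.S4410

open Subgroup Cfsg.Lib.Core

section
variable {V : Type*} [AddCommGroup V] [Module (ZMod 2) V]

/-- transvections with centre `u` -/
def Tv (g : V ≃ₗ[ZMod 2] V) (u : V) : Prop := g u = u ∧ ∀ w, g w = w ∨ g w = w + u

theorem add_self' (u : V) : u + u = 0 := by
  rw [← two_smul (ZMod 2) u, show (2 : ZMod 2) = 0 from rfl, zero_smul]

theorem Tv.conj {g : V ≃ₗ[ZMod 2] V} {u : V} (h : Tv g u) (f : V ≃ₗ[ZMod 2] V) : Tv (f * g * f⁻¹) (f u) :=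
  ⟨by simp [h.1], fun w => by rcases h.2 (f⁻¹ w) with e | e <;> simp_all⟩

theorem Tv.sq {g : V ≃ₗ[ZMod 2] V} {u : V} (h : Tv g u) : g * g = 1 :=
  LinearEquiv.ext fun w => by rcases h.2 w with e | e <;> simp [e, h.1, add_assoc, add_self']

theorem Tv.comm {a b : V ≃ₗ[ZMod 2] V} {u : V} (h : Tv a u) (h' : Tv b u) : Commute a b :=
  LinearEquiv.ext fun w => by
    rcases h.2 w with e | e <;> rcases h'.2 w with e' | e' <;> simp [e, e', h.1, h'.1]

theorem Tv.pow_four {a b : V ≃ₗ[ZMod 2] V} {u v : V} (h : Tv a u) (h' : Tv b v) (e : b u = u) :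
    (a * b) ^ 4 = 1 ∧ (b * a) ^ 4 = 1 := by
  have h1 := h.conj b
  rw [e, inv_eq_of_mul_eq_one_right h'.sq] at h1
  have h2 : (a * b) ^ 4 = 1 := by
    rw [show (a * b) ^ 4 = (a * (b * a * b)) ^ 2 by simp [pow_succ, mul_assoc], (h.comm h1).mul_pow, pow_two, pow_two,
      h.sq, h1.sq, one_mul]
  refine ⟨h2, ?_⟩
  rw [show b * a = a⁻¹ * (a * b) * a⁻¹⁻¹ by group, conj_pow, h2, mul_one, mul_inv_cancel]

end

/-- Let V be a finite-dimensional vector space over the field with two elements and S a solvable group of linear automorphisms of V with O₂(S) = 1. If P ∈ S has order 4 and (P − 1)³ = 0 on V, then the image of (P − 1)² has at least 4 elements; equivalently, in the decomposition of V into indecomposable modules for the cyclic group generated by P, at least two summands have dimension 3. -/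
theorem result
    {V : Type*} [AddCommGroup V] [Module (ZMod 2) V] [Finite V]
    (S : Subgroup (V ≃ₗ[ZMod 2] V)) (hS : Group.IsSolvable ↥S) (hO2 : Cfsg.pCore 2 ↥S = ⊥)
    (P : V ≃ₗ[ZMod 2] V) (hPS : P ∈ S) (hP4 : orderOf P = 4)
    (hcub : ((P : V →ₗ[ZMod 2] V) - LinearMap.id) ^ 3 = 0) :
    4 ≤ Nat.card ↥(LinearMap.range (((P : V →ₗ[ZMod 2] V) - LinearMap.id) ^ 2)) := by
  by_contra hlt
  have := Finite.of_injective (fun g : V ≃ₗ[ZMod 2] V => (g : V → V)) DFunLike.coe_injective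
  have h1 : ∀ w, (P * P) w + w ∈ LinearMap.range (((P : V →ₗ[ZMod 2] V) - LinearMap.id) ^ 2) := fun w =>
    ⟨w, by
      have hn : ∀ a : V, -a = a := fun a => neg_eq_of_add_eq_zero_left (add_self' a)
      simp [sq, sub_eq_add_neg, hn, add_assoc, ← add_assoc (P w), add_self']⟩
  have hP1 : P * P ≠ 1 := fun e => by
    have := Nat.le_of_dvd two_pos (hP4 ▸ orderOf_dvd_of_pow_eq_one ((sq P).trans e)); omega
  have hPP : P * P * (P * P) = 1 := by rw [← pow_orderOf_eq_one P, hP4]; simp [pow_succ, mul_assoc]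
  obtain ⟨w₀, hw₀⟩ : ∃ w, (P * P) w ≠ w := not_forall.1 fun e => hP1 (LinearEquiv.ext e)

  have ht : Tv (P * P) ((P * P) w₀ + w₀) := ⟨by
    rw [map_add, ← LinearEquiv.mul_apply (P * P), hPP, add_comm]; rfl, fun w => by
    classical
    by_contra! h3
    have h4 : ∀ {a b : V}, a + b = 0 → a = b := fun {a b} e => by
      rw [← add_zero a, ← add_self' b, ← add_assoc, e, zero_add]
    refine hlt (le_trans ?_ (Set.ncard_le_ncard (s := ↑({0, (P * P) w₀ + w₀, (P * P) w + w,
      (P * P) w₀ + w₀ + ((P * P) w + w)} : Finset V)) ?_))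
    · have h5 : (P * P) w₀ + w₀ ≠ (P * P) w + w := fun e => h3.2 (by rw [e, add_left_comm, add_self', add_zero])
      have h6 : (P * P) w₀ + w₀ ≠ 0 := fun e => hw₀ (h4 e)
      have h7 : (P * P) w + w ≠ 0 := fun e => h3.1 (h4 e)
      rw [Set.ncard_coe_finset, Finset.card_insert_of_notMem, Finset.card_insert_of_notMem, Finset.card_pair]
      · simpa using h6
      · simpa using ⟨h5, h7⟩
      · simpa using ⟨h6.symm, h7.symm, fun e => h5 (h4 e.symm)⟩
    · simp only [Finset.coe_insert, Finset.coe_singleton, Set.insert_subset_iff, Set.singleton_subset_iff]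
      exact ⟨zero_mem _, h1 _, h1 _, add_mem (h1 _) (h1 _)⟩⟩
  generalize (P * P) w₀ + w₀ = v at ht
  have := fitting_normal S
  have hF : ∀ {x : S}, x ∈ fittingSubgroup S → (x : V ≃ₗ[ZMod 2] V) ^ 4 = 1 → x = 1 := fun {x} hx h => by
    have := Fact.mk Nat.prime_two
    have := le_pCore_of_le_fitting Nat.prime_two (H := zpowers x) (IsPGroup.of_card_dvd_pow (n := 2) (by
      rw [Nat.card_zpowers]; exact orderOf_dvd_of_pow_eq_one (Subtype.ext h))) (zpowers_le.2 hx)
    simpa [hO2] using this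
  let p : S := ⟨P, hPS⟩
  have hp : (p * p)⁻¹ = p * p := inv_eq_of_mul_eq_one_right (Subtype.ext hPP)
  obtain ⟨f, hf, h3⟩ : ∃ f ∈ fittingSubgroup S, f * (p * p) * f⁻¹ * (p * p) ≠ 1 := by
    by_contra! h3
    refine hP1 (congrArg Subtype.val (hF (x := p * p) (centralizer_fitting_le fun f hf => ?_) ?_))
    · have := h3 f hf
      nth_rewrite 2 [← hp] at this
      rwa [mul_inv_eq_one, mul_inv_eq_iff_eq_mul] at this
    · rw [show 4 = 2 * 2 from rfl, pow_mul, sq (p * p : S).1, show (p * p : S).1 * (p * p : S).1 = 1 from hPP, one_pow]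
  have hx : f * (p * p) * f⁻¹ * (p * p) ∈ fittingSubgroup S := by
    rw [mul_assoc f, mul_assoc f]; exact mul_mem hf (by simpa only [hp] using this.conj_mem _ (inv_mem hf) (p * p))
  have hs := ht.conj f
  have hs2 : f * (p * p) * f⁻¹ * (f * (p * p) * f⁻¹) = 1 := Subtype.ext hs.sq
  change Tv (f * (p * p) * f⁻¹ : S).1 _ at hs
  change Tv (p * p : S).1 _ at ht
  generalize f * (p * p) * f⁻¹ = s at *
  generalize f.1 v = u at hs
  have hy := this.conj_mem _ hx p
  have h4 := hs.conj P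
  have h5 := h4.conj (p * p : S).1
  have key : ∀ e : S, (e = s * (p * p) ∨ e = (s * (p * p))⁻¹) → p * (s * (p * p)) * p⁻¹ = e → False := fun e h h' => by
    have h6 : p * (p * (s * (p * p)) * p⁻¹) * p⁻¹ = s * (p * p) := by
      rcases h with rfl | rfl
      · rw [h', h']
      · rw [h', ← conj_inv, h', inv_inv]
    refine h3 (hF hx (congrArg Subtype.val (show (s * (p * p)) ^ 4 = 1 from ?_)))
    rw [show 4 = 2 * 2 from rfl, pow_mul, sq (s * (p * p))]
    nth_rewrite 2 [← h6]
    rw [show s * (p * p) * (p * (p * (s * (p * p)) * p⁻¹) * p⁻¹) = s * (p * p * (p * p)) * s by simp [mul_assoc],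
      show p * p * (p * p) = 1 from Subtype.ext hPP, mul_one, hs2, one_pow]
  have a1 : s.1 v = v + u := (hs.2 v).resolve_left fun e => h3 (hF hx (ht.pow_four hs e).2)
  have a2 : (p * p : S).1 (P u) = P u + v := (ht.2 _).resolve_left fun e => h3 (by
    have := hF hy (by simpa [mul_assoc, p] using (h4.pow_four ht e).1)
    simpa [mul_inv_eq_one] using this)
  rcases hs.2 (P u) with e | e
  · refine key _ (Or.inl rfl) (mul_inv_eq_one.1 (hF (mul_mem hy (inv_mem hx)) ?_))
    have h6 := (h4.pow_four hs e).1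
    change (p * s * p⁻¹ * s : S).1 ^ 4 = 1 at h6
    rw [mul_inv_rev, inv_eq_of_mul_eq_one_right hs2]
    convert h6 using 3
    group
  · refine key _ (Or.inr rfl) (eq_inv_of_mul_eq_one_right (hF (mul_mem hx hy) ?_))
    have h6 := (h5.pow_four hs (by rw [a2, map_add, a1, e, add_add_add_comm, add_self', add_zero])).2
    change (s * (p * p * (p * s * p⁻¹) * (p * p)⁻¹) : S).1 ^ 4 = 1 at h6
    rw [hp] at h6
    convert h6 using 3
    group

end Cfsg.Agent.S4410
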