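import Cfsg.Statements.S4411
import Cfsg.Agent.Lib.SF.WS
import Cfsg.Agent.Lib.Glaub.KCon
import Cfsg.Agent.Lib.Glaub.Qd2
import Cfsg.Agent.Lib.Core.PSolvable
import Cfsg.Agent.Lib.Linear.SL2Sub
import Cfsg.Agent.Lib.Linear.Simple

set_option autoImplicit false
open Cfsg

open Subgroup Cfsg.Lib
open scoped commutatorElement
open Cfsg.Lib Cfsg.Lib.Amalg Cfsg.Lib.Fus2 Cfsg.Lib.Glaub Cfsg.Lib.Core
namespace Cfsg.Agent.S4411

universe u

theorem hall_min {p q : ℕ} [hp : Fact p.Prime] [hq : Fact q.Prime] (n : ℕ) : ∀ (G : Type u) [Group G] [Finite G], Nat.card G = n →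
    IsPSolvable p G → (∀ X : Subgroup G, ¬ p ∣ X.index → ¬ q ∣ X.index → X = ⊤) → ∀ r, r.Prime → r ∣ Nat.card G → r = p ∨ r = q := by
  induction n using Nat.strong_induction_on with
  | _ n ih =>
  intro G _ _ hn hs hm
  have key : ∀ (N : Subgroup G) [N.Normal], N ≠ ⊥ → ∀ r, r.Prime → r ∣ N.index → r = p ∨ r = q := fun N _ h =>
    ih _ (hn ▸ card_quotient_lt h) (G ⧸ N) rfl (isPSolvable_quotient hp.out hs N) fun X a b => by
      rw [← index_comap_of_surjective X (QuotientGroup.mk'_surjective N)] at a b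
      exact comap_injective (QuotientGroup.mk'_surjective N) (hm _ a b)
  have key2 : ∀ (N : Subgroup G) [N.Normal] (s : ℕ) [Fact s.Prime], N ≠ ⊥ → IsPGroup s N → s = p ∨ s = q →
      ∀ r, r.Prime → r ∣ Nat.card G → r = p ∨ r = q := fun N _ s hs h1 h2 h3 r hr h => by
    rw [← N.card_mul_index] at h
    rcases hr.dvd_mul.1 h with h | h
    · obtain ⟨k, hk⟩ := IsPGroup.iff_card.1 h2
      rwa [(Nat.prime_dvd_prime_iff_eq hr hs.out).1 (hr.dvd_of_dvd_pow (hk ▸ h))]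
    · exact key N h1 r hr h
  rcases subsingleton_or_nontrivial G with h | h
  · exact fun r hr h => absurd (Nat.dvd_one.1 (Nat.card_of_subsingleton (1 : G) ▸ h)) hr.ne_one
  rcases pCore_ne_bot_or_of_isPSolvable hp.out hs with h | h
  · exact key2 _ p h (isPGroup_pCore p G) (.inl rfl)
  obtain ⟨R, hR⟩ := exists_syl q (pPrimeCore p G)
  have h1 : ¬ p ∣ Nat.card (pPrimeCore p G) := (Nat.Prime.coprime_iff_not_dvd hp.out).1 (coprime_card_pPrimeCore p G).symm
  have h2 : 𝐍(R) = ⊤ := by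
    have e : (𝐍(R)).index = (𝐍(R)).relIndex (pPrimeCore p G) := by
      have := hR.frattini le_top (normalizer_eq_top_iff.2 inferInstance).ge
      rw [top_inf_eq] at this
      have b1 := relIndex_mul_index (inf_le_left : pPrimeCore p G ⊓ 𝐍(R) ≤ _)
      have b2 := relIndex_mul_index (inf_le_right : pPrimeCore p G ⊓ 𝐍(R) ≤ _)
      rw [inf_relIndex_left, ← relIndex_top_right (pPrimeCore p G), ← this, relIndex_sup_left, ← b2, inf_relIndex_right, mul_comm] at b1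
      exact (Nat.eq_of_mul_eq_mul_left (Nat.pos_of_ne_zero FiniteIndex.index_ne_zero) b1).symm
    exact hm _ (fun c => h1 ((e ▸ c).trans (relIndex_dvd_card _ _))) (e ▸ hR.not_dvd_relIndex_of_le le_normalizer)
  have := normalizer_eq_top_iff.1 h2
  by_cases e : R = ⊥
  swap
  · exact key2 R q e hR.isPGroup (.inr rfl)
  have h3 := hR.eq_bot_iff.1 e
  obtain ⟨X, hX⟩ := exists_right_complement'_of_coprime (N := pPrimeCore p G) (Nat.coprime_of_dvd fun r hr a b => by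
    rcases key _ h r hr b with rfl | rfl
    · exact h1 a
    · exact h3 a)
  have h4 := hm X (hX.index_eq_card ▸ h1) (hX.index_eq_card ▸ h3)
  exact absurd (by simpa [h4] using hX.disjoint) h

theorem hall {p q : ℕ} [hp : Fact p.Prime] [hq : Fact q.Prime] {G : Type u} [Group G] [Finite G] {N T : Subgroup G} (hs : IsPSolvable p N)
    (hT : Syl p T N) : ∃ X, T ≤ X ∧ X ≤ N ∧ ¬ q ∣ X.relIndex N ∧ ∀ r, r.Prime → r ∣ Nat.card X → r = p ∨ r = q := by
  obtain ⟨X, -, hX⟩ := exists_minimal_le_of_wellFoundedLT (fun X : Subgroup G => X ≤ N ∧ ¬ p ∣ X.relIndex N ∧ ¬ q ∣ X.relIndex N) N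
    ⟨le_rfl, by simp [hp.out.ne_one], by simp [hq.out.ne_one]⟩
  have h1 := hall_min (p := p) (q := q) _ X rfl (isPSolvable_of_le hp.out hs hX.1.1) fun Y a b => by
    have e : (Y.map X.subtype).relIndex N = Y.index * X.relIndex N := by
      rw [← relIndex_mul_relIndex _ X N (map_subtype_le Y) hX.1.1, relIndex, map_subtype_subgroupOf]
    refine map_injective X.subtype_injective ?_
    rw [← MonoidHom.range_eq_map, range_subtype]
    exact (hX.eq_of_ge ⟨(map_subtype_le Y).trans hX.1.1, e ▸ hp.out.not_dvd_mul a hX.1.2.1, e ▸ hq.out.not_dvd_mul b hX.1.2.2⟩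
      (map_subtype_le Y)).symm
  obtain ⟨U, hU⟩ := exists_syl p X
  obtain ⟨g, g1, rfl⟩ := (hU.of_le_of_not_dvd hX.1.1 hX.1.2.1).exists_conj hT
  have e : cj g N = N := cj_eq_self_iff.2 (le_normalizer g1)
  exact ⟨cj g X, cj_mono g hU.le, e ▸ cj_mono g hX.1.1, by rw [← e, relIndex_cj]; exact hX.1.2.2, by rwa [card_cj]⟩

theorem fct (p : ℕ) [Fact p.Prime] : ∃ w, Fct p w ∧ ∀ (G : Type u) [Group G] [Finite G] (S : Subgroup G), Syl p S ⊤ → ¬ 6 ∣ Nat.card G →
    SF {𝐍(amb w S)} ⊤ S := by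
  by_cases hp : p = 2
  · subst hp
    exact ⟨_, SF.fct_WS, fun G _ _ S a b => SF.sf_WS a fun c => b (Dvd.dvd.trans (by simp [Nat.card_perm]; decide) (card_dvd_of_involves c))⟩
  refine ⟨_, kf_U.fct, fun G _ _ S a b => kf_U.sf hp a fun c => b (Dvd.dvd.trans ?_ (card_dvd_of_involves (involves_trans involves_sl2_qd c)))⟩
  rw [Linear.card_SL_two, Nat.card_zmod]
  obtain ⟨k, rfl⟩ := Nat.exists_eq_add_of_le' (Fact.out : p.Prime).one_le
  have := Nat.factorial_dvd_ascFactorial k 3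
  simp only [Nat.ascFactorial] at this
  exact this.trans (Dvd.intro 1 (by simp; ring))

/-- the order of `y` on `H` is divisible by `q` -/
def Act {G : Type*} [Group G] (q : ℕ) (y : G) (H : Subgroup G) : Prop := y ∈ 𝐍(H) ∧ ∀ m, y ^ m ∈ 𝐂(H) → q ∣ m

theorem Act.of_eq {G : Type*} [Group G] {q : ℕ} {x y : G} {H : Subgroup G} (h : Act q y H) (e : ∀ a ∈ H, x * a * x⁻¹ = y * a * y⁻¹) :
    Act q x H := by
  have h1 : ∀ m, ∀ a ∈ H, x ^ m * a * (x ^ m)⁻¹ = y ^ m * a * (y ^ m)⁻¹ := fun m => by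
    induction m with
    | zero => simp
    | succ m ih =>
      intro a ha
      have := ih _ ((mem_normalizer_iff.1 h.1 a).1 ha)
      rw [pow_succ, pow_succ]
      calc _ = x ^ m * (x * a * x⁻¹) * (x ^ m)⁻¹ := by group
        _ = _ := by rw [e a ha, this]; group
  have h2 : y⁻¹ * x ∈ 𝐂(H) := fun a ha => by
    rw [show a * (y⁻¹ * x) = y⁻¹ * (y * a * y⁻¹) * x by group, ← e a ha]; group
  refine ⟨by simpa using mul_mem h.1 (centralizer_le_normalizer _ h2), fun m hm => h.2 m fun a ha => ?_⟩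
  rw [← mul_inv_eq_iff_eq_mul.1 (show y ^ m * a * (y ^ m)⁻¹ = a by rw [← h1 m a ha, ← hm a ha]; group)]

theorem exists_act {G : Type*} [Group G] [Finite G] {q : ℕ} [Fact q.Prime] {X H : Subgroup G} (h : X ≤ 𝐍(H))
    (hd : q ∣ (𝐂(H)).relIndex X) : ∃ y ∈ X, Act q y H := by
  have : ((𝐂(H)).subgroupOf X).Normal := normal_subgroupOf_of_le_normalizer (h.trans (normalizer_le_normalizer_centralizer _))
  obtain ⟨y, hy⟩ := exists_prime_orderOf_dvd_card' (G := X ⧸ (𝐂(H)).subgroupOf X) q hd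
  obtain ⟨y, rfl⟩ := QuotientGroup.mk_surjective y
  refine ⟨y, y.2, h y.2, fun m hm => hy ▸ orderOf_dvd_of_pow_eq_one ?_⟩
  rw [← QuotientGroup.mk_pow, QuotientGroup.eq_one_iff]; exact hm

theorem Act.dvd {G : Type*} [Group G] {q : ℕ} {y : G} {H : Subgroup G} (h : Act q y H) : q ∣ (𝐂(H)).relIndex (𝐍(H)) := by
  have : ((𝐂(H)).subgroupOf (𝐍(H))).Normal := normal_subgroupOf_of_le_normalizer (normalizer_le_normalizer_centralizer _)
  exact h.2 _ (pow_index_mem (H := (𝐂(H)).subgroupOf (𝐍(H))) ⟨y, h.1⟩)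

theorem main {p q : ℕ} [hp : Fact p.Prime] [hq : Fact q.Prime] (hpq : p ≠ q) (h23 : ¬ ((p = 2 ∧ q = 3) ∨ (p = 3 ∧ q = 2))) (n : ℕ) :
    ∀ (G : Type u) [Group G] [Finite G], Nat.card G = n →
    (∀ H X : Subgroup G, IsPGroup p H → X ≤ 𝐍(H) → IsPSolvable p ↥(X ⊓ 𝐂(H)) → IsPSolvable p X) →
    ∀ (H : Subgroup G) (y : G), IsPGroup p H → Act q y H → ∃ (K : Subgroup G) (z : G), IsPGroup p K ∧ ¬ p ∣ (𝐍(K)).index ∧ Act q z K := by
  obtain ⟨w, hw, hsf⟩ := fct.{u} p
  induction n using Nat.strong_induction_on with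
  | _ n ih =>
  intro G _ _ hn hs H₀ y₀ a₀ b₀
  obtain ⟨T, ⟨t1, H₁, h₁⟩, tm⟩ := Set.exists_max_image {T : Subgroup G | IsPGroup p T ∧ ∃ H, H ≤ T ∧ T ≤ 𝐍(H) ∧ ∃ y, Act q y H}
    (fun T => Nat.card T) (Set.toFinite _) ⟨H₀, a₀, H₀, le_rfl, le_normalizer, y₀, b₀⟩
  obtain ⟨H, -, ⟨h1, h2, y, hy⟩, hm⟩ := Finite.exists_le_maximal (p := fun H => H ≤ T ∧ T ≤ 𝐍(H) ∧ ∃ y, Act q y H) h₁
  have hH := t1.to_le h1
  have hT : Syl p T (𝐍(H)) := by
    obtain ⟨U, u1, u2⟩ := exists_syl_ge t1 h2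
    exact u1.of_card_ge t1 h2 (tm U ⟨u1.isPGroup, H, h1.trans u2, u1.le, y, hy⟩)
  have c1 := hT.inf_normal (centralizer_le_normalizer _) (normalizer_le_normalizer_centralizer _)
  have c2 : T ⊓ 𝐂(H) ≤ H := by
    obtain ⟨c, b1, x, b2, rfl⟩ := c1.frattini_mem (normalizer_le_normalizer_centralizer _ hy.1)
    have b3 : Act q x H := hy.of_eq fun a ha => by
      have := b1 _ ((mem_normalizer_iff.1 (show x ∈ 𝐍(H) by
        simpa using mul_mem (inv_mem (centralizer_le_normalizer _ b1)) hy.1) a).1 ha)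
      rw [show c * x * a * (c * x)⁻¹ = c * (x * a * x⁻¹) * c⁻¹ by group, ← this]; group
    refine le_sup_right.trans (hm ⟨sup_le h1 inf_le_left, ?_, x, ?_, fun m e => b3.2 m fun a ha => e a (mem_sup_left ha)⟩ le_sup_left)
    · exact le_normalizer_sup h2 (le_normalizer_inf le_normalizer (h2.trans (normalizer_le_normalizer_centralizer _)))
    · exact le_normalizer_sup (zpowers_le.2 b3.1) (zpowers_le.2 b2) (mem_zpowers x)
  have c3 : IsPSolvable p (𝐍(H)) := hs H _ hH le_rfl (by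
    rw [inf_eq_right.2 (centralizer_le_normalizer _)]
    have : ((T ⊓ 𝐂(H)).subgroupOf (𝐂(H))).Normal :=
      normal_subgroupOf_of_le_normalizer ((centralizer_le c2).trans (centralizer_le_normalizer _))
    exact isPSolvable_of_normal_of_quotient hp.out _ (isPSolvable_of_isPGroup hp.out (Amalg.isPGroup_subgroupOf c1.isPGroup _))
      (isPSolvable_of_coprime hp.out ((Nat.Prime.coprime_iff_not_dvd hp.out).2 c1.not_dvd_relIndex).symm))
  obtain ⟨X, x1, x2, x3, x4⟩ := hall (q := q) c3 hT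
  obtain ⟨v, v1, v2⟩ := exists_act x2 ((hq.out.dvd_mul.1 (hy.dvd.trans ((relIndex_dvd_of_le_left _ inf_le_left).trans
    (relIndex_mul_relIndex (𝐂(H) ⊓ X) X _ inf_le_right x2).symm.dvd))).resolve_right x3 |>.trans (inf_relIndex_right _ _).dvd)
  obtain ⟨x, b1, b2⟩ := sf_singleton.1 (hsf X _ (hT.of_le x1 x2).subgroupOf_top fun c => h23 (by
    rcases x4 2 Nat.prime_two (Dvd.dvd.trans (by decide) c) with e | e <;>
      rcases x4 3 Nat.prime_three (Dvd.dvd.trans (by decide) c) with e' | e' <;> omega)) (H.subgroupOf X) ⟨v, v1⟩ trivial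
    (fun a ha => h1 ha) fun a ha => h1 ((mem_normalizer_iff.1 v2.1 a).1 ha)
  have b3 : Act q (x : G) H := v2.of_eq fun a ha => congrArg Subtype.val (b2 ⟨a, x1 (h1 ha)⟩ ha)
  have b4 : (x : G) ∈ 𝐍(amb w T) := by
    rwa [hw.amb_subgroupOf x1 t1, normalizer_subgroupOf ((amb_le w T).trans x1)] at b1
  have b5 : amb w T ≠ ⊥ := hw.amb_ne_bot t1 fun e => hq.out.one_lt.ne' (Nat.dvd_one.1 (hy.2 1 fun a ha => by
    rw [show a = 1 from (e ▸ h1 : H ≤ ⊥) ha]; simp))
  have b6 := t1.to_le (amb_le w T)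
  by_cases e : 𝐍(amb w T) = ⊤
  · have := normalizer_eq_top_iff.1 e
    by_cases e' : Act q (x : G) (amb w T)
    · exact ⟨_, x, b6, by simp [e, hp.out.ne_one], e'⟩
    obtain ⟨m, m1, m2⟩ : ∃ m, (x : G) ^ m ∈ 𝐂(amb w T) ∧ ¬ q ∣ m := by simpa [Act, b4] using e'
    obtain ⟨φ, hφ⟩ : ∃ φ, φ = QuotientGroup.mk' (amb w T) := ⟨_, rfl⟩
    have f1 : Function.Surjective φ := hφ ▸ QuotientGroup.mk'_surjective _
    have f2 : ∀ g, φ g = 1 ↔ g ∈ amb w T := fun g => hφ ▸ QuotientGroup.eq_one_iff g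
    have f3 : ∀ K : Subgroup (G ⧸ amb w T), IsPGroup p K → IsPGroup p (K.comap φ) := fun K a => a.comap_of_ker_isPGroup φ (by rwa [hφ, QuotientGroup.ker_mk'])
    obtain ⟨K, z, k1, k2, k3⟩ := ih _ (hn ▸ card_quotient_lt b5) (G ⧸ amb w T) rfl (fun K Y a b c => by
      rw [← map_comap_eq_self_of_surjective f1 Y]
      refine isPSolvable_map hp.out (hs _ _ (f3 K a) ((comap_mono b).trans (comap_normalizer_eq_of_surjective K f1).le)
        (isPSolvable_of_le (K := (Y ⊓ 𝐂(K)).comap φ) hp.out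
          (hφ ▸ isPSolvable_comap_mk' hp.out _ (isPSolvable_of_isPGroup hp.out b6) c) fun g hg => ⟨hg.1, fun k hk => ?_⟩)) φ
      obtain ⟨k, rfl⟩ := f1 k
      rw [← map_mul, hg.2 k hk, map_mul]) (H.map φ) (φ x) (hH.map φ) ⟨le_normalizer_map φ ⟨x, b3.1, rfl⟩, fun k hk => by
      obtain ⟨j, hj⟩ := IsPGroup.iff_card.1 b6
      have d : ((x : G) ^ (m * k)) ^ p ^ j ∈ 𝐂(H) := fun a ha => by
        have d1 : (x : G) ^ (m * k) ∈ 𝐂(amb w T) := pow_mul (x : G) m k ▸ pow_mem m1 k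
        have d2 : (x : G) ^ (m * k) * a * ((x : G) ^ (m * k))⁻¹ * a⁻¹ ∈ amb w T := by
          rw [← f2, map_mul, map_mul, map_mul, map_pow, mul_comm m, pow_mul, ← pow_mem hk m _ ⟨a, ha, rfl⟩, map_inv, map_inv, map_pow, pow_mul]
          group
        generalize (x : G) ^ (m * k) = s at d1 d2
        have d3 : ∀ i, s ^ i * a = (s * a * s⁻¹ * a⁻¹) ^ i * a * s ^ i := fun i => by
          induction i with
          | zero => simp
          | succ i ih => rw [pow_succ' s, mul_assoc, ih, ← mul_assoc, ← mul_assoc, ← d1 _ (pow_mem d2 i), pow_succ (s * a * s⁻¹ * a⁻¹)]; group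
        rw [d3, ← hj, show (s * a * s⁻¹ * a⁻¹) ^ Nat.card (amb w T) = 1 from congrArg Subtype.val (pow_card_eq_one' (x := (⟨_, d2⟩ : amb w T))),
          one_mul]
      rcases hq.out.dvd_mul.1 (b3.2 _ (by rwa [← pow_mul] at d)) with c | c
      · exact (hq.out.dvd_mul.1 c).resolve_left m2
      · exact absurd ((Nat.prime_dvd_prime_iff_eq hq.out hp.out).1 (hq.out.dvd_of_dvd_pow c)).symm hpq⟩
    obtain ⟨z, rfl⟩ := f1 z
    refine ⟨K.comap φ, z, f3 K k1, by rwa [← comap_normalizer_eq_of_surjective K f1, index_comap_of_surjective _ f1],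
      (comap_normalizer_eq_of_surjective K f1).le k3.1, fun k hk => k3.2 k fun a ha => ?_⟩
    obtain ⟨a, rfl⟩ := f1 a
    rw [← map_pow, ← map_mul, hk a ha, map_mul]
  have b7 : T ≤ 𝐍(amb w T) := hw.le_normalizer t1
  obtain ⟨K, z, k1, k2, k3⟩ := ih _ (hn ▸ card_top (G := G) ▸ Core.card_lt_of_lt (Ne.lt_top e)) (𝐍(amb w T)) rfl (fun K Y a b c => by
      refine isPSolvable_of_injective hp.out (hs (K.map (Subgroup.subtype _)) (Y.map (Subgroup.subtype _)) (a.map _)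
        ((map_mono b).trans (le_normalizer_map _)) (isPSolvable_of_le hp.out (isPSolvable_map hp.out c (Subgroup.subtype _)) ?_))
        (f := (Subgroup.subtype _).subgroupMap Y) fun a b e => Subtype.ext (Subtype.ext (congrArg (fun g => (g.1 : G)) e))
      rintro _ ⟨⟨g, g1, rfl⟩, g2⟩
      exact ⟨g, ⟨g1, fun k hk => Subtype.ext (g2 k ⟨k, hk, rfl⟩)⟩, rfl⟩) (H.subgroupOf _) ⟨x, b4⟩ (Amalg.isPGroup_subgroupOf hH _)
    ⟨by rw [normalizer_subgroupOf (h1.trans b7)]; exact b3.1, fun k hk => b3.2 k fun a ha => congrArg Subtype.val (hk ⟨a, b7 (h1 ha)⟩ ha)⟩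
  obtain ⟨U, u1, u2⟩ := exists_syl_ge k1 le_normalizer
  have u3 := syl_map_subtype_of_top (u1.of_le_of_not_dvd le_top (by rwa [relIndex_top_right]))
  have u4 := tm _ ⟨u3.isPGroup, K.map (Subgroup.subtype _), map_mono u2, (map_mono u1.le).trans (le_normalizer_map _), z,
    le_normalizer_map _ ⟨z, k3.1, rfl⟩, fun k hk => k3.2 k fun a ha => Subtype.ext (hk a ⟨a, ha, rfl⟩)⟩
  have u5 := ((u3.of_card_ge t1 b7 u4).of_normalizer_le le_top (inf_le_right.trans (hw.normalizer_le t1))).not_dvd_relIndex_of_le h2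
  exact ⟨H, y, hH, by rwa [relIndex_top_right] at u5, hy⟩

/-- Let p and q be distinct primes with {p, q} ≠ {2, 3}, and let G be a finite group such that for every p-subgroup H of G the automizer N_G(H)/C_G(H) is p-solvable. If q divides the order of N_G(H)/C_G(H) for some p-subgroup H, then a Sylow p-subgroup of G has a normal subgroup K (normal in the Sylow subgroup) such that q divides the order of N_G(K)/C_G(K). -/
theorem result {G : Type*} [Group G] [Finite G]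
    (p q : ℕ) [Fact p.Prime] [Fact q.Prime] (hpq : p ≠ q) (h23 : ¬ ((p = 2 ∧ q = 3) ∨ (p = 3 ∧ q = 2)))
    (hsol : ∀ H : Subgroup G, IsPGroup p ↥H →
      Cfsg.IsPSolvable p (↥(Subgroup.normalizer (H : Set G)) ⧸ (Subgroup.centralizer (H : Set G)).subgroupOf (Subgroup.normalizer (H : Set G))))
    (H : Subgroup G) (hH : IsPGroup p ↥H)
    (hq : q ∣ ((Subgroup.centralizer (H : Set G)).subgroupOf (Subgroup.normalizer (H : Set G))).index)
    (Gp : Sylow p G) :
    ∃ K : Subgroup G, K ≤ (Gp : Subgroup G) ∧ (Gp : Subgroup G) ≤ Subgroup.normalizer (K : Set G) ∧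
      q ∣ ((Subgroup.centralizer (K : Set G)).subgroupOf (Subgroup.normalizer (K : Set G))).index := by
  obtain ⟨y, -, hy⟩ := exists_act le_rfl hq
  obtain ⟨K, z, k1, k2, k3⟩ := main hpq h23 _ G rfl (fun H X a b c => by
    let f := (QuotientGroup.mk' ((𝐂(H)).subgroupOf (𝐍(H)))).comp (inclusion b)
    refine isPSolvable_of_normal_of_quotient Fact.out f.ker ?_ (isPSolvable_of_injective Fact.out (hsol H a) (QuotientGroup.kerLift_injective f))
    exact isPSolvable_of_le Fact.out (isPSolvable_subgroupOf Fact.out c X) fun g hg => ⟨g.2, (QuotientGroup.eq_one_iff (inclusion b g)).1 hg⟩) H y hH hy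
  obtain ⟨U, u1, u2⟩ := exists_syl_ge k1 le_normalizer
  obtain ⟨g, -, e⟩ := (u1.of_le_of_not_dvd le_top (by rwa [relIndex_top_right])).exists_conj (syl_top Gp)
  refine ⟨cj g K, e ▸ cj_mono g u2, e ▸ cj_normalizer g K ▸ cj_mono g u1.le, ?_⟩
  have := k3.dvd
  rwa [← relIndex_cj g, cj_normalizer, cj_centralizer] at this

end Cfsg.Agent.S4411
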