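import Cfsg.Statements.S4412
import Cfsg.Agent.Lib.Coprime.ActionForm
import Cfsg.Agent.Lib.PGrp.Cyclic

set_option autoImplicit false
open Cfsg

namespace Cfsg.Agent.S4412

open Subgroup Cfsg.Lib.Coprime

theorem eq_one_of_inv {P : Type*} [Group P] {p : ℕ} (hp : p.Prime) (hp2 : p ≠ 2) (hP : IsPGroup p P) {x : P}
    (h : x = x⁻¹) : x = 1 := by
  obtain ⟨k, hk⟩ := hP x
  have h2 : x ^ 2 = 1 := by rw [sq]; nth_rewrite 2 [h]; simp
  have := pow_gcd_eq_one.2 ⟨hk, h2⟩
  rwa [Nat.Coprime.gcd_eq_one (Nat.Coprime.pow_left k ((Nat.coprime_primes hp Nat.prime_two).2 hp2)), pow_one] at this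

theorem fix_or {P : Type*} [Group P] [Finite P] {p : ℕ} (hp : p.Prime) (hp2 : p ≠ 2) (hP : IsPGroup p P) {g x y : P}
    (U : MulAut P) (hx : x ∈ zpowers g) (hy : y ∈ zpowers g) (h1 : U x = x) (h2 : U y = y⁻¹) : x = 1 ∨ y = 1 := by
  have := Fact.mk hp
  have k : ∀ z ∈ zpowers x, z ∈ zpowers y → z = 1 := by
    rintro z ⟨i, rfl⟩ ⟨j, hj⟩
    refine eq_one_of_inv hp hp2 hP ?_
    simp only at hj ⊢
    calc x ^ i = U (x ^ i) := by rw [map_zpow, h1]
      _ = U (y ^ j) := by rw [hj]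
      _ = _ := by rw [map_zpow, h2, inv_zpow, hj]
  obtain ⟨a, ha⟩ := (hP.to_subgroup (zpowers x)).exists_card_eq
  obtain ⟨b, hb⟩ := (hP.to_subgroup (zpowers y)).exists_card_eq
  have hc : IsCyclic (zpowers g) := inferInstance
  rcases le_total a b with h | h
  · exact Or.inl (k x (mem_zpowers x) (Cfsg.Lib.PGrp.le_of_card_dvd_of_isCyclic hc (zpowers_le.2 hx) (zpowers_le.2 hy)
      (ha ▸ hb ▸ pow_dvd_pow p h) (mem_zpowers x)))
  · exact Or.inr (k y (Cfsg.Lib.PGrp.le_of_card_dvd_of_isCyclic hc (zpowers_le.2 hy) (zpowers_le.2 hx)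
      (ha ▸ hb ▸ pow_dvd_pow p h) (mem_zpowers y)) (mem_zpowers y))

theorem not_two_gen {P : Type*} [CommGroup P] [Finite P] {p : ℕ} (hp : p.Prime) (hp2 : p ≠ 2) (hP : IsPGroup p P)
    (c : Fin 3 → P) (T : Fin 3 → MulAut P) (hc : ∀ i, c i ≠ 1) (h1 : ∀ i, T i (c i) = (c i)⁻¹)
    (h2 : ∀ i j, i ≠ j → T i (c j) = c j) (a b : P) : closure {a, b} ≠ ⊤ := by
  intro hab
  have := Fact.mk hp
  have hx : ∀ i, ∃ x ∈ zpowers (c i), orderOf x = p := fun i => by
    have : p ∣ Nat.card (zpowers (c i)) := by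
      rcases (hP.to_subgroup (zpowers (c i))).card_eq_or_dvd with h | h
      · exact absurd (by simpa using h) (hc i)
      · exact h
    obtain ⟨x, hx⟩ := exists_prime_orderOf_dvd_card' p this
    exact ⟨x, x.2, by rw [← hx, orderOf_coe]⟩
  choose x hx hxo using hx
  have k1 : ∀ i, T i (x i) = (x i)⁻¹ := fun i => by
    obtain ⟨k, hk⟩ := hx i
    rw [← hk]; simp [h1]
  have k2 : ∀ i j, i ≠ j → T i (x j) = x j := fun i j h => by
    obtain ⟨k, hk⟩ := hx j
    rw [← hk]; simp [h2 i j h]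
  let π : P →* P := powMonoidHom p
  let f : (Fin 3 → Fin p) → π.ker := fun e => ⟨∏ i, x i ^ (e i : ℕ), prod_mem fun i _ => pow_mem (by
    rw [MonoidHom.mem_ker, powMonoidHom_apply, ← hxo i, pow_orderOf_eq_one]) _⟩
  have hf : Function.Injective f := by
    intro e e' h
    have h' : ∏ i, x i ^ (e i : ℕ) = ∏ i, x i ^ (e' i : ℕ) := congrArg Subtype.val h
    have q : ∀ (i) (e : Fin 3 → Fin p), (∏ j, x j ^ (e j : ℕ)) * (T i (∏ j, x j ^ (e j : ℕ)))⁻¹ =
        x i ^ (e i : ℕ) * x i ^ (e i : ℕ) := by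
      intro i e
      rw [map_prod, ← Finset.prod_inv_distrib, ← Finset.prod_mul_distrib, Finset.prod_eq_single i]
      · rw [map_pow, k1, inv_pow, inv_inv]
      · intro j _ hj; rw [map_pow, k2 i j hj.symm, mul_inv_cancel]
      · simp
    ext i
    have q1 := q i e
    rw [h', q i e'] at q1
    have q2 : x i ^ (e i : ℕ) * (x i ^ (e' i : ℕ))⁻¹ = 1 := eq_one_of_inv hp hp2 hP (by
      rw [mul_inv_rev, inv_inv, mul_inv_eq_iff_eq_mul, mul_right_comm, q1]; simp)
    exact pow_injOn_Iio_orderOf (x := x i) (by rw [hxo]; exact (e i).2) (by rw [hxo]; exact (e' i).2)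
      (mul_inv_eq_one.1 q2)
  have c1 := Nat.card_le_card_of_injective f hf
  let g : Fin p × Fin p → P ⧸ π.range := fun e => ((a ^ (e.1 : ℕ) * b ^ (e.2 : ℕ) : P) : P ⧸ π.range)
  have hg : Function.Surjective g := by
    intro y
    obtain ⟨y, rfl⟩ := QuotientGroup.mk_surjective y
    have hy : y ∈ closure {a, b} := hab ▸ mem_top y
    obtain ⟨m, n, rfl⟩ := mem_closure_pair.1 hy
    have r : ∀ (z : P) (m : ℤ), ∃ i : Fin p, ((z ^ (i : ℕ) : P) : P ⧸ π.range) = (z ^ m : P) := by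
      intro z m
      have h0 : (0 : ℤ) < p := by exact_mod_cast hp.pos
      have h3 := Int.emod_nonneg m h0.ne'
      have h4 := Int.emod_lt_of_pos m h0
      refine ⟨⟨(m % p).toNat, by omega⟩, QuotientGroup.eq.2 ⟨z ^ (m / p), ?_⟩⟩
      simp only [π, powMonoidHom_apply]
      rw [← zpow_natCast, ← zpow_natCast, Int.toNat_of_nonneg h3, ← zpow_mul, ← zpow_neg, ← zpow_add]
      congr 1
      have := Int.emod_add_ediv_mul m p
      linarith
    obtain ⟨i, hi⟩ := r a m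
    obtain ⟨j, hj⟩ := r b n
    exact ⟨(i, j), by simp only [g, QuotientGroup.mk_mul, hi, hj]⟩
  have c2 := Nat.card_le_card_of_surjective g hg
  have c3 : Nat.card (P ⧸ π.range) = Nat.card π.ker := by
    have e1 := π.range.card_mul_index
    have e2 := π.ker.card_mul_index
    rw [Subgroup.index_ker, mul_comm, ← e1] at e2
    exact (Nat.eq_of_mul_eq_mul_left Nat.card_pos e2).symm
  rw [c3] at c2
  simp at c1 c2
  have := c1.trans c2
  have := hp.two_le
  rw [pow_succ, sq] at *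
  nlinarith

/-- Let p be an odd prime, P a finite p-group and I an elementary abelian subgroup of order 8 of Aut(P). Call T ∈ I, T ≠ 1, broad when its fixed-point subgroup C_P(T) is not cyclic. Suppose I has a proper subgroup I₀ containing no broad element such that the product of any two broad elements lies in I₀. Then P is abelian of rank exactly 3 (generated by three elements but not by two), there are exactly three broad elements and they generate I, and I₀ is exactly the set of products of two broad elements. -/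
theorem result
    {P : Type*} [Group P] [Finite P] (p : ℕ) (hp : p.Prime) (hp2 : p ≠ 2) (hP : IsPGroup p P)
    (I : Subgroup (MulAut P)) (hI : Cfsg.IsElementaryAbelian 2 I) (hI8 : Nat.card ↥I = 8)
    (I₀ : Subgroup (MulAut P)) (hI₀ : I₀ < I)
    (hdisj : ∀ T ∈ I₀, T ≠ 1 → ∃ g : P, ∀ x : P, (T x = x ↔ x ∈ Subgroup.zpowers g))
    (hprod : ∀ T ∈ I, ∀ T' ∈ I, T ≠ 1 → T' ≠ 1 → (¬ ∃ g : P, ∀ x : P, (T x = x ↔ x ∈ Subgroup.zpowers g)) →
      (¬ ∃ g : P, ∀ x : P, (T' x = x ↔ x ∈ Subgroup.zpowers g)) → T * T' ∈ I₀) :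
    IsMulCommutative P ∧ (∃ a b c : P, Subgroup.closure {a, b, c} = ⊤) ∧ (¬ ∃ a b : P, Subgroup.closure {a, b} = ⊤) ∧
      Nat.card {T : MulAut P // T ∈ I ∧ T ≠ 1 ∧ ¬ ∃ g : P, ∀ x : P, (T x = x ↔ x ∈ Subgroup.zpowers g)} = 3 ∧
      Subgroup.closure {T : MulAut P | T ∈ I ∧ T ≠ 1 ∧ ¬ ∃ g : P, ∀ x : P, (T x = x ↔ x ∈ Subgroup.zpowers g)} = I ∧
      (I₀ : Set (MulAut P)) = {S : MulAut P | ∃ T T' : MulAut P, T ∈ I ∧ T' ∈ I ∧ T ≠ 1 ∧ T' ≠ 1 ∧
        (¬ ∃ g : P, ∀ x : P, (T x = x ↔ x ∈ Subgroup.zpowers g)) ∧ (¬ ∃ g : P, ∀ x : P, (T' x = x ↔ x ∈ Subgroup.zpowers g)) ∧ S = T * T'} := by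
  have := Fact.mk hp
  set Br : MulAut P → Prop := fun T => ¬ ∃ g : P, ∀ x : P, (T x = x ↔ x ∈ Subgroup.zpowers g) with hBr
  change ∀ T ∈ I, ∀ T' ∈ I, T ≠ 1 → T' ≠ 1 → Br T → Br T' → T * T' ∈ I₀ at hprod
  have hcI : ∀ U ∈ I, ∀ V ∈ I, U * V = V * U := fun U hU V hV => by
    have := hI.1
    exact congrArg Subtype.val (mul_comm' (⟨U, hU⟩ : I) ⟨V, hV⟩)
  have hsq : ∀ U ∈ I, U * U = 1 := fun U hU => by rw [← sq]; exact hI.2 U hU
  have hUU : ∀ U ∈ I, ∀ x, U (U x) = x := fun U hU x => by rw [← MulAut.mul_apply, hsq U hU]; rfl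
  have hinv : ∀ U ∈ I, U⁻¹ = U := fun U hU => inv_eq_of_mul_eq_one_left (hsq U hU)
  obtain ⟨T, hT, hT0, hTb⟩ : ∃ T ∈ I, T ∉ I₀ ∧ ∀ T' ∈ I, T' ≠ 1 → Br T' → T * T' ∈ I₀ := by
    by_cases h : ∃ T ∈ I, T ≠ 1 ∧ Br T
    · obtain ⟨T, hT, h1, hb⟩ := h
      exact ⟨T, hT, fun k => hb (hdisj T k h1), fun T' hT' h1' hb' => hprod T hT T' hT' h1 h1' hb hb'⟩
    · obtain ⟨T, hT, h0⟩ := SetLike.exists_of_lt hI₀
      exact ⟨T, hT, h0, fun T' hT' h1 hb => absurd ⟨T', hT', h1, hb⟩ h⟩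
  obtain ⟨H, hH0, ⟨hHI, hTH⟩, hmax⟩ := Cfsg.Lib.Core.exists_maximal_ge (fun H => H ≤ I ∧ T ∉ H) ⟨hI₀.le, hT0⟩
  have hH2 : H.relIndex I = 2 := by
    refine index_eq_two_iff'.2 ⟨⟨T, hT⟩, fun U => ?_⟩
    simp only [mem_subgroupOf, coe_mul]
    by_cases hU : (U : MulAut P) ∈ H
    · exact Or.inr ⟨hU, fun k => hTH ((Subgroup.mul_mem_cancel_right H hU).1 k)⟩
    · refine Or.inl ⟨?_, hU⟩
      have hTU : T ∈ H ⊔ zpowers (U : MulAut P) := by
        by_contra k
        have := hmax _ ⟨sup_le hHI (zpowers_le.2 U.2), k⟩ le_sup_left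
        exact hU (this ▸ mem_sup_right (mem_zpowers _))
      let K : Subgroup (MulAut P) :=
        { carrier := {V | V ∈ H ∨ V * U ∈ H}
          mul_mem' := by
            rintro V W (hV | hV) (hW | hW)
            · exact Or.inl (mul_mem hV hW)
            · exact Or.inr (by rw [mul_assoc]; exact mul_mem hV hW)
            · refine Or.inr ?_
              rw [mul_assoc, hcI W (hHI hW) U U.2, ← mul_assoc]; exact mul_mem hV hW
            · left
              have hWI : W ∈ I := (Subgroup.mul_mem_cancel_right I U.2).1 (hHI hW)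
              have : V * W = V * U * (W * U) := by
                rw [hcI W hWI U U.2, mul_assoc, ← mul_assoc (U : MulAut P), hsq U U.2, one_mul]
              rw [this]; exact mul_mem hV hW
          one_mem' := Or.inl (one_mem _)
          inv_mem' := by
            rintro V (hV | hV)
            · exact Or.inl (inv_mem hV)
            · have hVI : V ∈ I := (Subgroup.mul_mem_cancel_right I U.2).1 (hHI hV)
              exact Or.inr (by rw [hinv V hVI]; exact hV) }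
      have hK : H ⊔ zpowers (U : MulAut P) ≤ K :=
        sup_le (fun V hV => Or.inl hV) (zpowers_le.2 (Or.inr (by rw [hsq U U.2]; exact one_mem _)))
      exact (hK hTU).resolve_left hTH
  have hH4 : Nat.card H = 4 := by
    have := (H.subgroupOf I).card_mul_index
    rw [hI8, Nat.card_congr (subgroupOfEquivOfLe hHI).toEquiv] at this
    change _ * H.relIndex I = _ at this
    rw [hH2] at this
    omega
  have hHb : ∀ S ∈ H, S ≠ 1 → ∃ g : P, ∀ x : P, (S x = x ↔ x ∈ Subgroup.zpowers g) := by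
    intro S hS h1
    by_contra k
    exact hTH ((Subgroup.mul_mem_cancel_right H hS).1 (hH0 (hTb S (hHI hS) h1 k)))
  obtain ⟨S, hS, hS1, hSs⟩ : ∃ S : Fin 3 → MulAut P, (∀ i, S i ∈ H) ∧ (∀ i, S i ≠ 1) ∧
      ∀ V ∈ H, V ≠ 1 → ∃ i, V = S i := by
    classical
    have hc : Nat.card {V : H // V ≠ 1} = 3 := by
      have := Fintype.ofFinite H
      rw [Nat.card_eq_fintype_card] at hH4 ⊢
      rw [Fintype.card_subtype_compl, hH4]; simp
    let e := Finite.equivFinOfCardEq hc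
    exact ⟨fun i => (e.symm i).1, fun i => (e.symm i).1.2, fun i h => (e.symm i).2 (Subtype.ext h),
      fun V hV h1 => ⟨e ⟨⟨V, hV⟩, fun k => h1 (congrArg Subtype.val k)⟩, by simp⟩⟩
  choose c hc using fun i => hHb (S i) (hS i) (hS1 i)
  have hgen : closure {c 0, c 1, c 2} = ⊤ := by
    have : IsMulCommutative H := ⟨⟨fun a b => Subtype.ext (hcI _ (hHI a.2) _ (hHI b.2))⟩⟩
    refine eq_top_iff.2 (act_le_of_forall_fixed_le (φ := MonoidHom.id (MulAut P)) (B := H) ?_
      (fun _ _ _ _ => mem_top _) ?_ ?_)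
    · intro h
      obtain ⟨g, hg⟩ := IsCyclic.exists_ofOrder_eq_natCard (α := H)
      have : orderOf g ∣ 2 := orderOf_dvd_of_pow_eq_one (Subtype.ext (hI.2 _ (hHI g.2)))
      rw [hg, hH4] at this
      omega
    · obtain ⟨n, hn⟩ := hP.exists_card_eq
      rw [card_top, hn, hH4]
      exact Nat.Coprime.pow 2 n ((Nat.coprime_primes Nat.prime_two hp).2 hp2.symm)
    · intro V hV h1 x _ hx
      obtain ⟨i, rfl⟩ := hSs V hV h1
      refine (zpowers_le.2 (subset_closure ?_)) ((hc i x).1 hx)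
      fin_cases i <;> simp
  have hpm : ∀ U ∈ I, ∀ i, U (c i) ≠ c i → U (c i) = (c i)⁻¹ := by
    intro U hU i hn
    have h0 : U (c i) ∈ zpowers (c i) := (hc i _).1 (by
      rw [← MulAut.mul_apply, hcI _ (hHI (hS i)) U hU, MulAut.mul_apply, (hc i _).2 (mem_zpowers _)])
    have cm : Commute (c i) (U (c i)) := by
      obtain ⟨k, hk⟩ := h0
      rw [← hk]; exact (Commute.refl _).zpow_right k
    rcases fix_or hp hp2 hP (x := c i * U (c i)) (y := c i * (U (c i))⁻¹) U (mul_mem (mem_zpowers _) h0)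
      (mul_mem (mem_zpowers _) (inv_mem h0)) (by rw [map_mul, hUU U hU, cm.eq])
      (by rw [map_mul, map_inv, hUU U hU, mul_inv_rev, inv_inv]) with h | h
    · exact eq_inv_of_mul_eq_one_right h
    · exact absurd (mul_inv_eq_one.1 h).symm hn
  have hext : ∀ U ∈ I, ∀ V ∈ I, (∀ i, U (c i) = c i ↔ V (c i) = c i) → U = V := by
    intro U hU V hV h
    have k : ∀ i, U (c i) = V (c i) := fun i => by
      by_cases k : U (c i) = c i
      · rw [k, (h i).1 k]
      · rw [hpm U hU i k, hpm V hV i (fun k' => k ((h i).2 k'))]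
    have := MonoidHom.eq_of_eqOn_dense hgen (f := U.toMonoidHom) (g := V.toMonoidHom) (by
      rintro _ (rfl | rfl | rfl) <;> exact k _)
    ext x
    exact DFunLike.congr_fun this x
  obtain ⟨T, hTI, hT1, hT2⟩ : ∃ T : Fin 3 → MulAut P, (∀ i, T i ∈ I) ∧ (∀ i, T i (c i) ≠ c i) ∧
      ∀ i j, i ≠ j → T i (c j) = c j := by
    let χ : I → Fin 3 → Prop := fun U i => U.1 (c i) = c i
    have hb : Function.Bijective χ := (Nat.bijective_iff_injective_and_card χ).2
      ⟨fun U V h => Subtype.ext (hext _ U.2 _ V.2 fun i => iff_of_eq (congrFun h i)), by simp [hI8]⟩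
    choose T hT using fun i => hb.2 (fun j => i ≠ j)
    exact ⟨fun i => T i, fun i => (T i).2, fun i h => (iff_of_eq (congrFun (hT i) i)).1 h rfl,
      fun i j h => (iff_of_eq (congrFun (hT i) j)).2 h⟩
  have hc1 : ∀ i, c i ≠ 1 := fun i h => hT1 i (by rw [h, map_one])
  have hT1' : ∀ i, T i (c i) = (c i)⁻¹ := fun i => hpm _ (hTI i) i (hT1 i)
  have hci : ∀ i, (c i)⁻¹ ≠ c i := fun i h => hc1 i (eq_one_of_inv hp hp2 hP h.symm)
  have hTn : ∀ i, T i ≠ 1 := fun i h => hT1 i (by rw [h]; rfl)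
  have third : ∀ i : Fin 3, ∃ j k : Fin 3, i ≠ j ∧ i ≠ k ∧ j ≠ k := by decide
  have third' : ∀ j k : Fin 3, j ≠ k → ∃ i : Fin 3, i ≠ j ∧ i ≠ k ∧ ∀ l, l ≠ j → l ≠ k → l = i := by decide
  have hTb : ∀ i, Br (T i) := by
    rintro i ⟨g, hg⟩
    obtain ⟨j, k, h1, h2, h3⟩ := third i
    rcases fix_or hp hp2 hP (T k) ((hg _).1 (hT2 i j h1)) ((hg _).1 (hT2 i k h2)) (hT2 k j h3.symm) (hT1' k) with h | h
    · exact hc1 _ h
    · exact hc1 _ h
  have hTT : ∀ j k, T j * T k ∈ I₀ := fun j k => hprod _ (hTI j) _ (hTI k) (hTn j) (hTn k) (hTb j) (hTb k)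
  have hTT1 : ∀ j k, j ≠ k → (T j * T k) (c j) = (c j)⁻¹ := fun j k h => by
    rw [MulAut.mul_apply, hT2 k j h.symm, hT1']
  have hTT2 : ∀ j k, j ≠ k → (T j * T k) (c k) = (c k)⁻¹ := fun j k h => by
    rw [MulAut.mul_apply, hT1', map_inv, hT2 j k h]
  have hcomm : ∀ j k, Commute (c j) (c k) := by
    intro j k
    by_cases h : j = k
    · rw [h]
    obtain ⟨i, h1, h2, h3⟩ := third' j k h
    obtain ⟨l, hl⟩ := hSs _ (hH0 (hTT j k)) (fun e => hci j (by rw [← hTT1 j k h, e]; rfl))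
    have hl' := (hc l _).2 (mem_zpowers _)
    rw [← hl] at hl'
    obtain rfl : l = i := h3 l (by rintro rfl; exact hci _ ((hTT1 l k h).symm.trans hl'))
      (by rintro rfl; exact hci _ ((hTT2 j l h).symm.trans hl'))
    let D := actFix (MonoidHom.id (MulAut P)) (zpowers (T l))
    have hD : ∀ x, x ∈ D ↔ T l x = x := fun x => mem_actFix_zpowers
    let α := subAut (zpowers (S l)).subtype D (fun a x hx => by
      rw [hD] at hx ⊢
      have : (a : MulAut P) ∈ I := (zpowers_le.2 (hHI (hS l))) a.2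
      change T l (a.1 x) = a.1 x
      rw [← MulAut.mul_apply, hcI _ (hTI l) _ this, MulAut.mul_apply, hx]) ⟨S l, mem_zpowers _⟩
    have hα : ∀ x : D, (α x : P) = S l x := fun x => rfl
    have := MonoidHom.FixedPointFree.commute_all_of_involutive (φ := α) (fun x hx => by
        have e : S l x = x := (hα x).symm.trans (congrArg Subtype.val hx)
        exact Subtype.ext ((fix_or hp hp2 hP (T l) ((hc l _).1 e) (mem_zpowers _) ((hD _).1 x.2) (hT1' l)).resolve_right
          (hc1 l)))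
      (fun x => Subtype.ext (by rw [hα, hα, hUU _ (hHI (hS l))]))
      ⟨c j, (hD _).2 (hT2 l j h1)⟩ ⟨c k, (hD _).2 (hT2 l k h2)⟩
    exact congrArg Subtype.val this
  have hab : IsMulCommutative P := by
    have := isMulCommutative_closure (k := {c 0, c 1, c 2}) (by
      rintro _ (rfl | rfl | rfl) _ (rfl | rfl | rfl) <;> exact hcomm _ _)
    refine ⟨⟨fun a b => ?_⟩⟩
    exact congrArg Subtype.val (mul_comm' (⟨a, hgen ▸ mem_top a⟩ : closure {c 0, c 1, c 2}) ⟨b, hgen ▸ mem_top b⟩)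
  have hcl : ∀ U ∈ I, U = 1 ∨ (∃ i, U = T i) ∨ (∃ j k, U = T j * T k) ∨ U = T 0 * T 1 * T 2 := by
    intro U hU
    have t01 := hT2 0 1 (by decide)
    have t02 := hT2 0 2 (by decide)
    have t10 := hT2 1 0 (by decide)
    have t12 := hT2 1 2 (by decide)
    have t20 := hT2 2 0 (by decide)
    have t21 := hT2 2 1 (by decide)
    by_cases h0 : U (c 0) = c 0 <;> by_cases h1 : U (c 1) = c 1 <;> by_cases h2 : U (c 2) = c 2
    · exact Or.inl (hext U hU 1 (one_mem _) fun i => by fin_cases i <;> simp [*])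
    · exact Or.inr (Or.inl ⟨2, hext U hU _ (hTI _) fun i => by fin_cases i <;> simp [*]⟩)
    · exact Or.inr (Or.inl ⟨1, hext U hU _ (hTI _) fun i => by fin_cases i <;> simp [*]⟩)
    · exact Or.inr (Or.inr (Or.inl ⟨1, 2, hext U hU _ (mul_mem (hTI _) (hTI _)) fun i => by fin_cases i <;> simp [*]⟩))
    · exact Or.inr (Or.inl ⟨0, hext U hU _ (hTI _) fun i => by fin_cases i <;> simp [*]⟩)
    · exact Or.inr (Or.inr (Or.inl ⟨0, 2, hext U hU _ (mul_mem (hTI _) (hTI _)) fun i => by fin_cases i <;> simp [*]⟩))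
    · exact Or.inr (Or.inr (Or.inl ⟨0, 1, hext U hU _ (mul_mem (hTI _) (hTI _)) fun i => by fin_cases i <;> simp [*]⟩))
    · exact Or.inr (Or.inr (Or.inr (hext U hU _ (mul_mem (mul_mem (hTI _) (hTI _)) (hTI _))
        fun i => by fin_cases i <;> simp [*])))
  have hnb : ¬ Br (T 0 * T 1 * T 2) := by
    intro h
    apply h
    let _ : CommGroup P := { (inferInstance : Group P) with mul_comm := mul_comm' }
    have := MonoidHom.eq_of_eqOn_dense hgen (f := (T 0 * T 1 * T 2).toMonoidHom) (g := invMonoidHom) (by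
      have t01 := hT2 0 1 (by decide)
      have t02 := hT2 0 2 (by decide)
      have t10 := hT2 1 0 (by decide)
      have t12 := hT2 1 2 (by decide)
      have t20 := hT2 2 0 (by decide)
      have t21 := hT2 2 1 (by decide)
      rintro _ (rfl | rfl | rfl) <;> simp [*])
    refine ⟨1, fun x => ⟨fun hx => ?_, fun hx => ?_⟩⟩
    · rw [eq_one_of_inv hp hp2 hP (hx.symm.trans (DFunLike.congr_fun this x))]; exact one_mem _
    · rw [zpowers_one_eq_bot, mem_bot] at hx; rw [hx, map_one]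
  have hset : ∀ U, (U ∈ I ∧ U ≠ 1 ∧ Br U) ↔ U ∈ Set.range T := by
    intro U
    refine ⟨fun ⟨hU, h1, hb⟩ => ?_, by rintro ⟨i, rfl⟩; exact ⟨hTI i, hTn i, hTb i⟩⟩
    rcases hcl U hU with h | ⟨i, h⟩ | ⟨j, k, h⟩ | h
    · exact absurd h h1
    · exact ⟨i, h.symm⟩
    · exact absurd (hdisj U (h ▸ hTT j k) h1) hb
    · exact absurd (h ▸ hb) hnb
  refine ⟨hab, ⟨_, _, _, hgen⟩, ?_, ?_, ?_, ?_⟩
  · rintro ⟨a, b, h⟩
    let _ : CommGroup P := { (inferInstance : Group P) with mul_comm := mul_comm' }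
    exact not_two_gen hp hp2 hP c T hc1 hT1' hT2 a b h
  · have hinj : Function.Injective T := fun i j h => by
      by_contra k
      exact hT1 j (h ▸ hT2 i j k)
    rw [Nat.card_congr (Equiv.subtypeEquivRight hset), Nat.card_range_of_injective hinj]; simp
  · refine le_antisymm ((closure_le _).2 fun U hU => hU.1) fun U hU => ?_
    have k : ∀ i, T i ∈ closure {T : MulAut P | T ∈ I ∧ T ≠ 1 ∧ Br T} := fun i =>
      subset_closure ((hset _).2 ⟨i, rfl⟩)
    rcases hcl U hU with h | ⟨i, h⟩ | ⟨j, k', h⟩ | h <;> rw [h]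
    · exact one_mem _
    · exact k i
    · exact mul_mem (k _) (k _)
    · exact mul_mem (mul_mem (k _) (k _)) (k _)
  · ext U
    constructor
    · intro hU
      have n0 : ∀ i, T i ∉ I₀ := fun i h => hTb i (hdisj _ h (hTn i))
      rcases hcl U (hI₀.le hU) with h | ⟨i, h⟩ | ⟨j, k, h⟩ | h
      · exact ⟨T 0, T 0, hTI 0, hTI 0, hTn 0, hTn 0, hTb 0, hTb 0, by rw [h, hsq _ (hTI 0)]⟩
      · exact absurd (h ▸ hU) (n0 i)
      · exact ⟨T j, T k, hTI _, hTI _, hTn _, hTn _, hTb _, hTb _, h⟩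
      · exact absurd ((Subgroup.mul_mem_cancel_left I₀ (hTT 0 1)).1 (h ▸ hU)) (n0 2)
    · rintro ⟨V, W, hV, hW, h1, h2, h3, h4, rfl⟩
      exact hprod V hV W hW h1 h2 h3 h4

end Cfsg.Agent.S4412
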