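import Cfsg.Statements.S4413
import Cfsg.Agent.Lib.PGrp.Extra
import Cfsg.Agent.Lib.Forms.Prim

set_option autoImplicit false
open Cfsg

namespace Cfsg.Agent.S4413

open Cfsg.Lib.PGrp Cfsg.Lib.Forms Subgroup
open scoped commutatorElement

/-- Let P be an extraspecial 2-group of order 32 with no elementary abelian subgroup of order 8 (the central product of a dihedral and a quaternion group of order 8). Then the inner automorphism group of P has order 16 and the outer automorphism group Aut(P)/Inn(P) is isomorphic to the symmetric group of degree 5; in particular Aut(P) has order 1920. -/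
theorem result {P : Type*} [Group P] [Finite P]
    (hex : Cfsg.IsExtraspecial 2 P) (h32 : Nat.card P = 32)
    (hminus : ∀ A : Subgroup P, Cfsg.IsElementaryAbelian 2 A → Nat.card ↥A ≤ 4)
    [(MulAut.conj : P →* MulAut P).range.Normal] :
    Nat.card ↥(MulAut.conj : P →* MulAut P).range = 16 ∧ Nat.card (MulAut P) = 1920 ∧
      Nonempty ((MulAut P ⧸ (MulAut.conj : P →* MulAut P).range) ≃* Equiv.Perm (Fin 5)) := by
  obtain ⟨V, _, _, _, M, m, hN, hm⟩ := Cfsg.Lib.PGrp.IsExtraspecial.exists_cExt hex
  have h0 := h32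
  rw [M.card_eq_pow, hm, show 32 = 2 ^ 5 from rfl, Nat.pow_right_inj one_lt_two] at h0
  obtain rfl : m = 1 := by omega
  obtain ⟨e⟩ := M.nonempty_out_equiv hN
  have hN' := M.quad_nondeg.2 hN
  have h1 : ¬ M.quad.HasTS 2 := mt M.hasTS_iff.1 (not_not.2 (pRankLE_iff.2 hminus))
  have h2 : Nat.card M.quad.isom = 120 := by simpa using Quad.card_isom_minus hN' hm h1
  have h3 : Nat.card {x // M.quad.Q x = 0} = 6 := by simpa using Quad.card_Q_eq_zero_minus hN' hm h1
  have h4 : Nat.card (MulAut.conj : P →* MulAut P).range = 16 := by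
    have := (MulAut.conj : P →* MulAut P).ker.card_mul_index
    rw [index_ker, h32, show (MulAut.conj : P →* MulAut P).ker = center P by
      ext x; simp [MulEquiv.ext_iff, mem_center_iff, eq_mul_inv_iff_mul_eq, eq_comm], hex.2] at this
    omega
  refine ⟨h4, by rw [card_eq_card_quotient_mul_card_subgroup (MulAut.conj : P →* MulAut P).range, h4,
    Nat.card_congr e.toEquiv, h2], ?_⟩
  let X : SubMulAction M.quad.isom V := ⟨{x | M.quad.Q x = 0 ∧ x ≠ 0}, fun g x hx =>
    ⟨(M.quad.Q_isom g x).trans hx.1, g.1.map_ne_zero_iff.2 hx.2⟩⟩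
  have h5 : Nat.card X = 5 := by
    have := Set.ncard_sdiff_singleton_of_mem (s := {x | M.quad.Q x = 0}) (a := 0) M.quad.Q_zero
    rw [show Set.ncard {x | M.quad.Q x = 0} = 6 from h3] at this
    exact this
  obtain ⟨a, b, hab⟩ := Quad.exists_isHyp hN' (by omega)
  have h6 : Function.Injective (MulAction.toPermHom M.quad.isom X) := (injective_iff_map_eq_one _).2 fun g hg =>
    Form.isom_ext (hab.induction_singular (fun x hx => by
      by_cases h : x = 0
      · simp [h]
      · exact congrArg Subtype.val (Equiv.ext_iff.1 hg ⟨x, hx, h⟩)) fun x y hx hy => by rw [map_add, hx, hy, map_add])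
  exact ⟨(e.trans (MulEquiv.ofBijective _ ((Nat.bijective_iff_injective_and_card _).2 ⟨h6, by
    rw [h2, Nat.card_perm, h5]; rfl⟩))).trans (Finite.equivFinOfCardEq h5).permCongrHom⟩

end Cfsg.Agent.S4413
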