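import Cfsg.Statements.S4414
import Cfsg.Agent.Lib.Conj.Wt
import Cfsg.Agent.Lib.Block2.PMod

set_option autoImplicit false
open Cfsg

namespace Cfsg.Agent.S4414

open Module MulAction Cfsg.Lib.Conj
open scoped TensorProduct

theorem core {S Λ K V : Type*} [Group S] [Finite S] [MulAction S Λ] [Finite Λ] [Nonempty Λ] [Field K] [CharP K 2]
    [AddCommGroup V] [Module K V] [FiniteDimensional K V] (ρ : Representation K S V) (π : Λ → V →ₗ[K] V)
    (h1 : ∀ g χ v, π (g • χ) (ρ g v) = ρ g (π χ v)) (h2 : ∀ v, (∀ χ, π χ v = 0) → v = 0)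
    (h3 : ∀ χ, ∃ v, v ≠ 0 ∧ ∀ χ', χ' ≠ χ → π χ' v = 0) {q : ℕ} (hq : q.Prime) (hq2 : q ≠ 2)
    (T Q : Subgroup S) (hT : IsPGroup 2 T) (hQ : IsPGroup q Q) (hfree : ∀ χ : Λ, ∃ y ∈ Q, y • χ ≠ χ)
    (U : Submodule K V) (hU : ∀ v, v ∈ U ↔ ∀ t ∈ T, ρ t v = v) :
    3 ≤ finrank K U ∨ (2 ≤ finrank K U ∧ ∃ y ∈ Q, ∃ v ∈ U, ρ y v ∉ U) := by
  have := Fact.mk hq
  have hz : ∀ g v, ρ g v = 0 → v = 0 := fun g v h => by
    have : ρ g⁻¹ (ρ g v) = v := by rw [← Module.End.mul_apply, ← map_mul, inv_mul_cancel, map_one]; rfl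
    rw [← this, h, map_zero]
  have hs : ∀ g χ v, π (g • χ) (ρ g v) ≠ 0 ↔ π χ v ≠ 0 := fun g χ v => by
    rw [h1]; exact ⟨fun h k => h (by rw [k, map_zero]), fun h k => h (hz _ _ k)⟩
  have hinv : ∀ v ∈ U, ∀ χ χ', χ' ∈ orbit T χ → π χ v ≠ 0 → π χ' v ≠ 0 := by
    rintro v hv χ _ ⟨t, rfl⟩ h
    rw [← (hU v).1 hv t t.2]; exact (hs t χ v).2 h
  have hv : ∀ χ, ∃ v ∈ U, ∀ χ', π χ' v ≠ 0 ↔ χ' ∈ orbit T χ := by
    intro χ
    let W : Submodule K V :=
      { carrier := {v | ∀ χ', χ' ∉ orbit T χ → π χ' v = 0}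
        add_mem' := fun {a b} ha hb χ' h => by rw [map_add, ha χ' h, hb χ' h, add_zero]
        zero_mem' := fun _ _ => map_zero _
        smul_mem' := fun c a ha χ' h => by rw [map_smul, ha χ' h, smul_zero] }
    have hW : ∀ t : T, W ≤ W.comap (ρ t) := fun t v hv χ' h => by
      by_contra k
      rw [← smul_inv_smul (t : S) χ'] at k
      refine (hs _ _ _).1 k (hv _ fun k' => h ?_)
      have := mem_orbit_of_mem_orbit t k'
      rwa [Subgroup.smul_def, smul_inv_smul] at this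
    obtain ⟨v0, h0, h0'⟩ := h3 χ
    have : Nontrivial W := ⟨⟨⟨v0, fun χ' h => h0' χ' (by rintro rfl; exact h (mem_orbit_self _))⟩, 0,
      fun h => h0 (congrArg Subtype.val h)⟩⟩
    obtain ⟨v, hv0, hv⟩ := Cfsg.Lib.Block2.exists_fixed_ne_zero hT
      (Representation.subrepresentation (ρ.comp T.subtype) W hW)
    have hvU : v.1 ∈ U := (hU _).2 fun t ht => congrArg Subtype.val (hv ⟨t, ht⟩)
    refine ⟨v, hvU, fun χ' => ⟨fun h => by_contra fun k => h (v.2 _ k), fun h => ?_⟩⟩
    obtain ⟨χ0, h4⟩ := not_forall.1 (mt (h2 v) fun k => hv0 (Subtype.ext k))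
    have h5 : χ0 ∈ orbit T χ := by_contra fun k => h4 (v.2 _ k)
    exact hinv v hvU χ0 χ' (by rw [orbit_eq_iff.2 h5]; exact h) h4
  choose v hvU hv using hv
  have indep : ∀ (n : ℕ) (c : Fin n → Λ), (∀ i j, c i ∈ orbit T (c j) → i = j) → n ≤ finrank K U := by
    intro n c hc
    have : LinearIndependent K fun i => (⟨v (c i), hvU _⟩ : U) := by
      rw [Fintype.linearIndependent_iff]
      intro g hg i
      have := congrArg (fun u : U => π (c i) u) hg
      simp only [Submodule.coe_sum, Submodule.coe_smul, map_sum, map_smul, Submodule.coe_zero, map_zero] at this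
      rw [Finset.sum_eq_single i] at this
      · exact (smul_eq_zero.1 this).resolve_right ((hv _ _).2 (mem_orbit_self _))
      · intro j _ hj
        rw [not_not.1 ((hv (c j) (c i)).not.2 fun k => hj (hc _ _ k).symm), smul_zero]
      · simp
    simpa using this.fintype_card_le_finrank
  have hdiv : ∀ A : Set Λ, (∀ y ∈ Q, ∀ χ ∈ A, y • χ ∈ A) → q ∣ A.ncard := by
    intro A hA
    by_contra h
    let B : SubMulAction Q Λ := ⟨A, fun y χ hχ => hA y y.2 χ hχ⟩
    obtain ⟨χ, hχ⟩ := hQ.nonempty_fixed_point_of_prime_not_dvd_card B h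
    obtain ⟨y, hy, k⟩ := hfree χ
    exact k (congrArg Subtype.val (hχ ⟨y, hy⟩))
  have hord : ∀ χ : Λ, ∀ m, m ∣ 2 → ¬ q ∣ m * (orbit T χ).ncard := fun χ m hm h => by
    obtain ⟨n, hn⟩ := hT.card_orbit χ
    rw [show (orbit T χ).ncard = 2 ^ n from hn] at h
    have := hq.dvd_of_dvd_pow (n := n + 1) (h.trans (by rw [pow_succ']; exact Nat.mul_dvd_mul_right hm _))
    exact hq2 ((Nat.prime_dvd_prime_iff_eq hq Nat.prime_two).1 this)
  have hall := hdiv Set.univ (by simp)
  obtain ⟨a⟩ := ‹Nonempty Λ›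
  obtain ⟨b, hb⟩ : ∃ b, b ∉ orbit T a := by
    by_contra! h
    exact hord a 1 (one_dvd _) (by rw [Set.eq_univ_of_forall h, one_mul]; exact hall)
  have sy : ∀ {x y : Λ}, x ∉ orbit T y → y ∉ orbit T x := fun h k => h (mem_orbit_symm.1 k)
  by_cases hc : ∃ c, c ∉ orbit T a ∧ c ∉ orbit T b
  · obtain ⟨c, h4, h5⟩ := hc
    refine Or.inl (indep 3 ![a, b, c] fun i j => ?_)
    have := sy hb
    have := sy h4
    have := sy h5
    fin_cases i <;> fin_cases j <;> simp [*]
  push Not at hc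
  refine Or.inr ⟨indep 2 ![a, b] fun i j => ?_, ?_⟩
  · have := sy hb
    fin_cases i <;> fin_cases j <;> simp [*]
  by_contra! h
  refine hord a 1 (one_dvd _) ?_
  rw [one_mul]
  refine hdiv _ fun y hy χ hχ => ?_
  by_contra k
  let A := (fun x => y • x) '' orbit T a
  have cA : A.ncard = (orbit T a).ncard := Set.ncard_image_of_injective _ (MulAction.injective y)
  have hA : ∀ x, π x (ρ y (v a)) ≠ 0 ↔ x ∈ A := fun x => by
    conv_lhs => rw [← smul_inv_smul y x, hs, hv]
    exact ⟨fun h => ⟨_, h, smul_inv_smul _ _⟩, by rintro ⟨z, hz, rfl⟩; simpa using hz⟩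
  have hAi : ∀ x ∈ A, orbit T x ⊆ A := fun x hx z hz => (hA z).1 (hinv _ (h y hy _ (hvU a)) x z hz ((hA x).2 hx))
  have hbA : orbit T b ⊆ A := by
    rw [← orbit_eq_iff.2 (hc _ k)]; exact hAi _ ⟨χ, hχ, rfl⟩
  have hd : Disjoint (orbit T a) (orbit T b) := Set.disjoint_left.2 fun x h4 h5 =>
    hb (by rw [← orbit_eq_iff.2 h4]; exact mem_orbit_symm.1 h5)
  have hun : orbit T a ∪ orbit T b = Set.univ := Set.eq_univ_of_forall fun x => (em _).imp_right (hc x)
  have hcu := Set.ncard_union_eq hd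
  have hpos : 0 < (orbit T b).ncard := (Set.ncard_pos).2 ⟨b, mem_orbit_self b⟩
  by_cases k' : ∃ x ∈ A, x ∈ orbit T a
  · obtain ⟨x, h4, h5⟩ := k'
    have := Set.ncard_le_ncard (Set.union_subset (orbit_eq_iff.2 h5 ▸ hAi x h4) hbA)
    omega
  · push Not at k'
    have : A = orbit T b := Set.Subset.antisymm (fun x hx => hc x (k' x hx)) hbA
    rw [hun, ← this, cA, ← two_mul] at hcu
    exact hord a 2 dvd_rfl (hcu ▸ hall)

theorem fix_bc {S F K E : Type*} [Group S] [Finite S] [Field F] [Field K] [Algebra F K] [AddCommGroup E] [Module F E]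
    (ρ : Representation F S E) (B : Subgroup S) (N : Submodule F E) (hN : ∀ v, v ∈ N ↔ ∀ t ∈ B, ρ t v = v)
    (w : K ⊗[F] E) : w ∈ LinearMap.range (N.subtype.baseChange K) ↔ ∀ t ∈ B, (ρ t).baseChange K w = w := by
  classical
  have := Fintype.ofFinite B
  constructor
  · rintro ⟨u, rfl⟩ t ht
    induction u with
    | zero => simp
    | tmul c n => simp [(hN n).1 n.2 t ht]
    | add a b ha hb => rw [map_add, map_add, ha, hb]
  · intro h
    let Φ : E →ₗ[F] (B → E) := LinearMap.pi fun t => ρ t - 1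
    have ex : Function.Exact N.subtype Φ := by
      intro v
      simp only [Submodule.coe_subtype, Subtype.range_coe_subtype, Set.mem_ofPred_eq, hN]
      exact ⟨fun k t ht => sub_eq_zero.1 (congrFun k ⟨t, ht⟩), fun k => funext fun t => sub_eq_zero.2 (k t t.2)⟩
    refine (Module.Flat.lTensor_exact K ex w).1 ((TensorProduct.piRight F F K _).injective (funext fun t => ?_))
    have : ∀ w, TensorProduct.piRight F F K _ (Φ.lTensor K w) t = (ρ t).baseChange K w - w := by
      intro w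
      induction w with
      | zero => simp
      | tmul c n => simp [Φ, TensorProduct.tmul_sub]
      | add a b ha hb => rw [map_add, map_add, Pi.add_apply, ha, hb, map_add]; abel
    rw [this, h t t.2, sub_self, map_zero]; rfl

/-- Let S be a finite solvable group whose order is divisible only by the primes 2, p, q (p, q distinct odd primes), with a Sylow system S₂, S_p, S_q (pairwise permutable Sylow subgroups) such that: S_p is a minimal normal subgroup of S of order p or p²; S_q has order q and [S_p, S_q] = S_p; and O₂(S) = 1. Let E be an irreducible module for S over the field with two elements on which S_p acts faithfully, and E₀ the subspace of fixed points of S₂. Then either E₀ has at least 8 elements, or E₀ has exactly 4 elements and S_q does not leave E₀ invariant. -/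
theorem result {S : Type*} [Group S] [Finite S]
    [Group.IsSolvable S] (p q : ℕ) (hp : p.Prime) (hq : q.Prime) (hp2 : p ≠ 2) (hq2 : q ≠ 2) (hpq : p ≠ q)
    (hπ : ∀ r : ℕ, r.Prime → r ∣ Nat.card S → r = 2 ∨ r = p ∨ r = q)
    (S₂ : Sylow 2 S) (Sp : Sylow p S) (Sq : Sylow q S)
    (h2q : Nat.card ↥((S₂ : Subgroup S) ⊔ (Sq : Subgroup S)) = Nat.card ↥S₂ * Nat.card ↥Sq)
    (h2p : Nat.card ↥((S₂ : Subgroup S) ⊔ (Sp : Subgroup S)) = Nat.card ↥S₂ * Nat.card ↥Sp)
    (hpq' : Nat.card ↥((Sp : Subgroup S) ⊔ (Sq : Subgroup S)) = Nat.card ↥Sp * Nat.card ↥Sq)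
    (hSpN : (Sp : Subgroup S).Normal) (hSpmin : ∀ N : Subgroup S, N.Normal → N ≤ (Sp : Subgroup S) → N = ⊥ ∨ N = (Sp : Subgroup S))
    (hSpcard : Nat.card ↥Sp = p ∨ Nat.card ↥Sp = p ^ 2)
    (hSq : Nat.card ↥Sq = q) (hcomm : ⁅(Sp : Subgroup S), (Sq : Subgroup S)⁆ = (Sp : Subgroup S))
    (hO2 : Cfsg.pCore 2 S = ⊥)
    {E : Type*} [AddCommGroup E] [Module (ZMod 2) E] [Finite E] (ρ : Representation (ZMod 2) S E) (hE : Nontrivial E)
    (hirr : ∀ N : Submodule (ZMod 2) E, (∀ s : S, ∀ m ∈ N, ρ s m ∈ N) → N = ⊥ ∨ N = ⊤)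
    (hfaith : ∀ x ∈ (Sp : Subgroup S), ρ x = 1 → x = 1) :
    8 ≤ Nat.card {v : E // ∀ s ∈ (S₂ : Subgroup S), ρ s v = v} ∨
      (Nat.card {v : E // ∀ s ∈ (S₂ : Subgroup S), ρ s v = v} = 4 ∧
        ∃ x ∈ (Sq : Subgroup S), ∃ v : E, (∀ s ∈ (S₂ : Subgroup S), ρ s v = v) ∧ ¬ ∀ s ∈ (S₂ : Subgroup S), ρ s (ρ x v) = ρ x v) := by
  classical
  have := Fact.mk hp
  let K := AlgebraicClosure (ZMod 2)
  let fx : Subgroup S → Submodule (ZMod 2) E := fun B =>
    { carrier := {v | ∀ t ∈ B, ρ t v = v}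
      add_mem' := fun {a b} ha hb t ht => by rw [map_add, ha t ht, hb t ht]
      zero_mem' := fun _ _ => map_zero _
      smul_mem' := fun c a ha t ht => by rw [map_smul, ha t ht] }
  let σ : Representation K S (K ⊗[ZMod 2] E) :=
    { toFun := fun s => (ρ s).baseChange K
      map_one' := by rw [map_one]; exact LinearMap.baseChange_one _ _
      map_mul' := fun a b => by rw [map_mul]; exact LinearMap.baseChange_mul _ _ }
  set P := (Sp : Subgroup S) with hP
  have hσ : ∀ a b v, σ (a * b) v = σ a (σ b v) := fun a b v => by rw [map_mul]; rfl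
  have hCP : ∀ w, (∀ x ∈ P, σ x w = w) → w = 0 := by
    intro w hw
    obtain ⟨u, rfl⟩ := (fix_bc (K := K) ρ P (fx P) (fun _ => Iff.rfl) w).2 hw
    rcases hirr (fx P) (fun s m hm x hx => by
      have : x * s = s * (s⁻¹ * x * s) := by group
      rw [← Module.End.mul_apply, ← map_mul, this, map_mul, Module.End.mul_apply,
        hm _ (hSpN.conj_mem' x hx s)]) with h | h
    · have : (fx P).subtype = 0 := by
        ext v
        have := v.2
        simp only [h] at this
        exact this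
      rw [this]; simp
    · exfalso
      have : P = ⊥ := (Subgroup.eq_bot_iff_forall _).2 fun x hx => hfaith x hx (LinearMap.ext fun m =>
        (show m ∈ fx P from h ▸ Submodule.mem_top) x hx)
      have h1 : Nat.card Sp = 1 := by rw [← Subgroup.card_eq_one] at this; exact this
      have := hp.two_le
      rcases hSpcard with h | h <;> have := h1.symm.trans h <;> nlinarith
  have hPc : ∀ x y : P, x * y = y * x := by
    rcases hSpcard with h | h
    · have := isCyclic_of_prime_card (α := P) h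
      exact fun x y => mul_comm' x y
    · have := IsPGroup.isMulCommutative_of_card_eq_prime_sq (G := P) h
      exact fun x y => mul_comm' x y
  let f : P → End K (K ⊗[ZMod 2] E) := fun x => σ x
  have hodd : ((Nat.card P : ℕ) : K) ≠ 0 := by
    rw [Ne, CharP.cast_eq_zero_iff K 2]
    intro h
    obtain ⟨n, hn⟩ := Sp.isPGroup'.exists_card_eq
    rw [hn] at h
    exact hp2 ((Nat.prime_dvd_prime_iff_eq Nat.prime_two hp).1 (Nat.prime_two.dvd_of_dvd_pow h)).symm
  have htop := iSup_wt f (fun x y => show σ x * σ y = σ y * σ x by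
      rw [← map_mul, ← map_mul, ← Subgroup.coe_mul, hPc, Subgroup.coe_mul]) hodd
    (fun x => show σ x ^ _ = 1 by rw [← map_pow, ← Subgroup.coe_pow, pow_card_eq_one', Subgroup.coe_one, map_one])
  have hind := wt_indep f
  have hcompl : ∀ χ, IsCompl (wt f χ) (⨆ χ' ≠ χ, wt f χ') := fun χ => ⟨hind χ, by
    rw [codisjoint_iff, eq_top_iff, ← htop]
    refine iSup_le fun χ' => ?_
    by_cases h : χ' = χ
    · rw [h]; exact le_sup_left
    · exact le_sup_of_le_right (le_biSup (wt f) h)⟩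
  let pr := fun χ => Submodule.projection _ _ (hcompl χ)
  have pr1 : ∀ χ v, v ∈ wt f χ → pr χ v = v := fun χ v h => Submodule.projection_apply_left (hcompl χ) ⟨v, h⟩
  have pr2 : ∀ χ χ' v, χ' ≠ χ → v ∈ wt f χ' → pr χ v = 0 := fun χ χ' v h hv =>
    (Submodule.projection_apply_eq_zero_iff (hcompl χ)).2 (le_biSup (wt f) h hv)
  let act : S → (P → K) → P → K := fun g χ x => χ (MulAut.conjNormal g⁻¹ x)
  have hact : ∀ g χ v, v ∈ wt f χ → σ g v ∈ wt f (act g χ) := fun g χ v hv => mem_wt.2 fun x => by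
    have := mem_wt.1 hv (MulAut.conjNormal g⁻¹ x)
    simp only [f, act] at this ⊢
    rw [← map_smul, ← this, ← hσ, ← hσ]
    simp [mul_assoc]
  have hz : ∀ g v, σ g v = 0 → v = 0 := fun g v h => by
    have : σ g⁻¹ (σ g v) = v := by rw [← hσ, inv_mul_cancel, map_one]; rfl
    rw [← this, h, map_zero]
  let Λ := {χ // wt f χ ≠ ⊥}
  have : Finite Λ := WellFoundedGT.finite_ne_bot_of_iSupIndep hind
  let _ : MulAction S Λ :=
    { smul := fun g χ => ⟨act g χ.1, by
        obtain ⟨v, hv, h0⟩ := (Submodule.ne_bot_iff _).1 χ.2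
        exact (Submodule.ne_bot_iff _).2 ⟨_, hact g _ v hv, fun k => h0 (hz _ _ k)⟩⟩
      one_smul := fun χ => Subtype.ext (funext fun x => show χ.1 _ = _ by simp)
      mul_smul := fun a b χ => Subtype.ext (funext fun x => show χ.1 _ = χ.1 _ by simp) }
  have hsm : ∀ (g : S) (χ : Λ), (g • χ).1 = act g χ.1 := fun _ _ => rfl
  have ind : ∀ (m : K ⊗[ZMod 2] E → Prop), (∀ χ : Λ, ∀ v ∈ wt f χ.1, m v) → m 0 → (∀ a b, m a → m b → m (a + b)) →
      ∀ v, m v := fun m k1 k2 k3 v =>
    Submodule.iSup_induction (wt f) (motive := m) (htop ▸ Submodule.mem_top) (fun χ v hv => by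
      by_cases h : wt f χ = ⊥
      · rw [h, Submodule.mem_bot] at hv; rw [hv]; exact k2
      · exact k1 ⟨χ, h⟩ v hv) k2 k3
  have : Nonempty Λ := by
    by_contra h
    obtain ⟨v, hv⟩ := exists_ne (0 : K ⊗[ZMod 2] E)
    exact hv (ind (· = 0) (fun χ => absurd ⟨χ⟩ h) rfl (fun a b ha hb => by rw [ha, hb, add_zero]) v)
  have := Fact.mk hq
  let U := LinearMap.range ((fx S₂).subtype.baseChange K)
  have key := core σ (fun χ : Λ => pr χ.1) ?_ ?_ ?_ hq hq2 S₂ Sq S₂.isPGroup' Sq.isPGroup' ?_ U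
    (fix_bc ρ _ (fx S₂) (fun _ => Iff.rfl))
  · have hr : finrank K U ≤ finrank (ZMod 2) (fx S₂) := by
      exact (LinearMap.finrank_range_le _).trans Module.finrank_baseChange.le
    have hc : Nat.card {v : E // ∀ s ∈ (S₂ : Subgroup S), ρ s v = v} = 2 ^ finrank (ZMod 2) (fx S₂) := by
      have := Module.natCard_eq_pow_finrank (K := ZMod 2) (V := fx S₂)
      rw [Nat.card_zmod] at this
      exact this
    rw [hc]
    by_cases h3 : 3 ≤ finrank (ZMod 2) (fx S₂)
    · exact Or.inl (Nat.pow_le_pow_right Nat.two_pos h3)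
    obtain ⟨h4, y, hy, w, ⟨u, rfl⟩, hw⟩ := key.resolve_left (by omega)
    refine Or.inr ⟨by rw [show finrank (ZMod 2) (fx S₂) = 2 by omega]; rfl, y, hy, ?_⟩
    by_contra! h
    apply hw
    clear hw
    induction u with
    | zero => simp
    | tmul c n => exact ⟨c ⊗ₜ ⟨ρ y n, h n n.2⟩, by simp [σ]⟩
    | add a b ha hb => rw [map_add, map_add]; exact add_mem ha hb
  · intro g χ
    refine ind _ (fun χ' v hv => ?_) (by simp) fun a b ha hb => by simp only [map_add, ha, hb]
    by_cases h : χ' = χ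
    · subst h; rw [pr1 _ _ hv]; exact pr1 _ _ (hact g _ v hv)
    · rw [pr2 _ _ _ (Subtype.coe_ne_coe.2 h) hv, map_zero]
      exact pr2 _ (g • χ').1 _ (Subtype.coe_ne_coe.2 fun k => h (MulAction.injective g k)) (hact g _ v hv)
  · intro v hv
    have := Fintype.ofFinite Λ
    have : ∀ v, v = ∑ χ : Λ, pr χ.1 v := by
      refine ind _ (fun χ v hv => ?_) (by simp) fun a b ha hb => by
        simp only [map_add, Finset.sum_add_distrib, ← ha, ← hb]
      rw [Finset.sum_eq_single χ, pr1 _ _ hv]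
      · exact fun χ' _ h => pr2 _ _ _ (Subtype.coe_ne_coe.2 h.symm) hv
      · simp
    rw [this v]; exact Finset.sum_eq_zero fun χ _ => hv χ
  · intro χ
    obtain ⟨v, hv, h0⟩ := (Submodule.ne_bot_iff _).1 χ.2
    exact ⟨v, h0, fun χ' h => pr2 _ _ _ (Subtype.coe_ne_coe.2 h.symm) hv⟩
  · intro χ
    by_contra! h
    let N : Subgroup S :=
      { carrier := {g | ∀ v ∈ wt f χ.1, σ g v = v}
        mul_mem' := fun {a b} ha hb v hv => by rw [hσ, hb v hv, ha v hv]
        one_mem' := fun v _ => by rw [map_one]; rfl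
        inv_mem' := fun {a} ha v hv => by
          conv_lhs => rw [← ha v hv, ← hσ, inv_mul_cancel, map_one]
          rfl }
    have : P ≤ N := by
      rw [← hcomm]
      refine Subgroup.commutator_le.2 fun x hx s hs v hv => ?_
      have k1 := hact s⁻¹ _ v hv
      rw [← hsm, h _ (inv_mem hs)] at k1
      have k2 : σ x⁻¹ (σ s⁻¹ v) = _ := mem_wt.1 k1 ⟨x⁻¹, inv_mem hx⟩
      have k3 : σ x⁻¹ v = _ := mem_wt.1 hv ⟨x⁻¹, inv_mem hx⟩
      rw [commutatorElement_def, hσ, hσ, hσ, k2, map_smul, ← hσ s, mul_inv_cancel, map_one, Module.End.one_apply,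
        ← k3, ← hσ, mul_inv_cancel, map_one, Module.End.one_apply]
    obtain ⟨v, hv, h0⟩ := (Submodule.ne_bot_iff _).1 χ.2
    exact h0 (hCP v fun x hx => this hx v hv)

end Cfsg.Agent.S4414
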