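import Cfsg.Statements.S4415
import Cfsg.Agent.Lib.Linear.Jb3F

set_option autoImplicit false
open Cfsg

namespace Cfsg.Agent.S4415

open Subgroup Cfsg.Lib Cfsg.Lib.Linear.Jb3
open scoped commutatorElement

theorem mapc {H K : Type*} [Group H] [Group K] (e : H ≃* K) : (center H).map (e : H →* K) = center K := by
  rw [← Core.centralizer_top_eq_center, ← Core.centralizer_top_eq_center, Core.map_equiv_centralizer,
    map_top_of_surjective _ e.surjective]

theorem xse {G H : Type*} [Group G] [Group H] {p : ℕ} (e : G ≃* H) (h : IsExtraspecial p G) :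
    IsExtraspecial p H := by
  have h1 : (center G).map (e : G →* H) = center H := mapc e
  refine ⟨⟨h.1.1.of_equiv e, ?_, ?_⟩, by rw [← h1, card_map_of_injective e.injective, h.2]⟩
  · rw [← h1, ← h.1.2.1]
    refine le_antisymm (fun x hx => ⟨e.symm x, frattini_le_comap_frattini_of_surjective (φ := (e.symm : H →* G))
      e.symm.surjective hx, by simp⟩) (map_le_iff_le_comap.2 (frattini_le_comap_frattini_of_surjective e.surjective))
  · rw [← h1, ← h.1.2.2, _root_.commutator_def, _root_.commutator_def, map_commutator,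
      map_top_of_surjective _ e.surjective]

/-- Let S be a finite solvable group acting faithfully on a finite-dimensional space E over the field with three elements, with O₃(S) = 1. Let B ≤ S have order 3 and suppose: E = E₀ ⊕ E₁ with B fixing E₁ pointwise, E₀ B-invariant of order 27 and indecomposable under B (a generator of B has a single Jordan block on E₀); B normalizes but does not centralize some subgroup Q of S that is elementary abelian of order 4; and B is the centre of a Sylow 3-subgroup of S. Put R = [O_{3'}(S), B]. Then R is elementary abelian of order 4 or extraspecial of order 32 containing an elementary abelian subgroup of order 8 (a central product of two quaternion groups), and E is the direct sum of a subspace fixed pointwise by R and an RB-invariant subspace on which the subgroup RB acts faithfully and irreducibly. -/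
theorem result {S : Type*} [Group S] [Finite S]
    [Group.IsSolvable S] {E : Type*} [AddCommGroup E] [Module (ZMod 3) E] [Finite E] (ρ : Representation (ZMod 3) S E)
    (hfaith : Function.Injective ρ) (hO3 : Cfsg.pCore 3 S = ⊥)
    (B : Subgroup S) (hB : Nat.card ↥B = 3) (b : S) (hb : Subgroup.zpowers b = B)
    (E₀ E₁ : Submodule (ZMod 3) E) (hE01 : E₀ ⊓ E₁ = ⊥) (hE01' : E₀ ⊔ E₁ = ⊤)
    (hE1 : ∀ v ∈ E₁, ρ b v = v) (hE0inv : ∀ v ∈ E₀, ρ b v ∈ E₀) (hE0 : Nat.card ↥E₀ = 27)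
    (hind : ∃ v ∈ E₀, ρ b (ρ b v - v) - (ρ b v - v) ≠ 0)
    (Q : Subgroup S) (hQ : Cfsg.IsElementaryAbelian 2 Q) (hQ4 : Nat.card ↥Q = 4)
    (hBQ : B ≤ Subgroup.normalizer (Q : Set S)) (hBQ' : ¬ B ≤ Subgroup.centralizer (Q : Set S))
    (P : Sylow 3 S) (hBZ : (Subgroup.center ↥(P : Subgroup S)).map (P : Subgroup S).subtype = B) :
    ((Cfsg.IsElementaryAbelian 2 ⁅Cfsg.pPrimeCore 3 S, B⁆ ∧ Nat.card ↥⁅Cfsg.pPrimeCore 3 S, B⁆ = 4) ∨
      (Cfsg.IsExtraspecial 2 ↥⁅Cfsg.pPrimeCore 3 S, B⁆ ∧ Nat.card ↥⁅Cfsg.pPrimeCore 3 S, B⁆ = 32 ∧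
        ∃ A : Subgroup S, A ≤ ⁅Cfsg.pPrimeCore 3 S, B⁆ ∧ Cfsg.IsElementaryAbelian 2 A ∧ Nat.card ↥A = 8)) ∧
    ∃ F₀ F₁ : Submodule (ZMod 3) E, F₀ ⊓ F₁ = ⊥ ∧ F₀ ⊔ F₁ = ⊤ ∧
      (∀ r ∈ ⁅Cfsg.pPrimeCore 3 S, B⁆, ∀ v ∈ F₁, ρ r v = v) ∧ (∀ r ∈ ⁅Cfsg.pPrimeCore 3 S, B⁆ ⊔ B, ∀ v ∈ F₀, ρ r v ∈ F₀) ∧
      (∀ r ∈ ⁅Cfsg.pPrimeCore 3 S, B⁆ ⊔ B, (∀ v ∈ F₀, ρ r v = v) → r = 1) ∧
      (∀ N : Submodule (ZMod 3) E, N ≤ F₀ → (∀ r ∈ ⁅Cfsg.pPrimeCore 3 S, B⁆ ⊔ B, ∀ v ∈ N, ρ r v ∈ N) → N = ⊥ ∨ N = F₀) := by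
  haveI : Fact (Nat.Prime 3) := ⟨Nat.prime_three⟩
  subst hb
  have b3 : b * b * b = 1 := by
    have := pow_orderOf_eq_one b
    rwa [← Nat.card_zpowers, hB, pow_succ, pow_two] at this
  have bbb : ∀ x, ρ b (ρ b (ρ b x)) = x := fun x => by rw [← ap, ← ap, b3, ap1]
  have hW : Module.finrank (ZMod 3) (LinearMap.range (ρ b - 1)) ≤ 2 := by
    have h27 : Module.finrank (ZMod 3) E₀ = 3 := by
      have := Module.natCard_eq_pow_finrank (K := ZMod 3) (V := E₀)
      rw [hE0, Nat.card_zmod] at this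
      exact (Nat.pow_right_injective (by norm_num : 2 ≤ 3) (show 3 ^ 3 = 3 ^ _ from this)).symm
    have key : ∀ x, ∃ y ∈ E₀, ρ b x - x = ρ b y - y := fun x => by
      obtain ⟨y, hy, t, ht, rfl⟩ := Submodule.mem_sup.1 (hE01' ▸ Submodule.mem_top : x ∈ E₀ ⊔ E₁)
      exact ⟨y, hy, by rw [map_add, hE1 t ht]; abel⟩
    have hle : LinearMap.range (ρ b - 1) ≤ E₀ := by
      rintro _ ⟨x, rfl⟩
      obtain ⟨y, hy, H⟩ := key x
      exact (show ρ b x - x ∈ E₀ from H ▸ sub_mem (hE0inv y hy) hy)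
    have hlt : LinearMap.range (ρ b - 1) < E₀ := lt_of_le_of_ne hle fun he => by
      have st : ∀ x ∈ E₀, ∃ y ∈ E₀, x = ρ b y - y := fun x hx => by
        obtain ⟨w, hw⟩ := he ▸ hx
        obtain ⟨y, hy, H⟩ := key w
        exact ⟨y, hy, hw.symm.trans H⟩
      have : E₀ = ⊥ := eq_bot_iff.2 fun x hx => by
        obtain ⟨y1, hy1, r1⟩ := st x hx
        obtain ⟨y2, hy2, r2⟩ := st y1 hy1
        obtain ⟨y, hy, r3⟩ := st y2 hy2
        rw [Submodule.mem_bot, r1, r2, r3]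
        simp only [map_sub, bbb]
        linear_combination (norm := module) h3 (ρ b y) - h3 (ρ b (ρ b y))
      rw [this, finrank_bot] at h27
      omega
    have := Submodule.finrank_lt_finrank_of_lt hlt
    omega
  obtain ⟨q, hq, q1⟩ : ∃ q ∈ Q, b * q ≠ q * b := by
    by_contra hn
    push Not at hn
    exact hBQ' (zpowers_le.2 fun q hq => (hn q hq).symm)
  have bQ : ∀ x ∈ Q, b * x * b⁻¹ ∈ Q := fun x hx => (mem_normalizer_iff.1 (hBQ (mem_zpowers b)) x).1 hx
  have cQ : ∀ x ∈ Q, ∀ y ∈ Q, x * y = y * x := fun x hx y hy =>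
    congrArg Subtype.val (hQ.1.is_comm.comm (⟨x, hx⟩ : Q) ⟨y, hy⟩)
  have q2 : q * q = 1 := by rw [← sq, hQ.2 q hq]
  have t := trip_of_comm b3 q2 q1 (cQ _ hq _ (bQ q hq)) (cQ _ hq _ (bQ _ (bQ q hq)))
  set H := pPrimeCore 3 S with hH
  have hu : q * (b * q * b⁻¹) ∈ H := by
    let π := QuotientGroup.mk' H
    have hbP : b ∈ (center P).map (P : Subgroup S).subtype := hBZ ▸ mem_zpowers b
    obtain ⟨b', hb', e'⟩ := hbP
    have h1 : π b ∈ pCore 3 (S ⧸ H) := Core.centralizer_pCore_le_of_solvable Nat.prime_three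
      Core.pPrimeCore_quotient_pPrimeCore fun y hy => by
        obtain ⟨p, hp, rfl⟩ := Core.pCore_le_sylow (P.mapSurjective (QuotientGroup.mk'_surjective H)) hy
        have := congrArg Subtype.val (mem_center_iff.1 hb' ⟨p, hp⟩)
        rw [← map_mul, ← map_mul, ← e']
        exact congrArg π this
    have h2 : π (q * (b * q * b⁻¹)) ∈ pCore 3 (S ⧸ H) := by
      have := mul_mem ((pCore_normal 3 _).conj_mem _ h1 (π q)) (inv_mem h1)
      rw [← map_inv π q, inv_eq_of_mul_eq_one_right q2] at this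
      simpa [mul_assoc] using this
    obtain ⟨k, hk⟩ := Core.isPGroup_iff_forall_mem.1 (Core.isPGroup_pCore 3 _) _ h2
    have h4 : π (q * (b * q * b⁻¹)) ^ 2 = 1 := by rw [← map_pow, sq, t.u2, map_one]
    exact (QuotientGroup.eq_one_iff _).1 (orderOf_eq_one_iff.1 (Nat.eq_one_of_dvd_coprimes
      ((by norm_num : Nat.Coprime 2 3).pow_right k) (orderOf_dvd_of_pow_eq_one h4) (orderOf_dvd_of_pow_eq_one hk)))
  generalize q * (b * q * b⁻¹) = u at t hu
  have hv := (pPrimeCore_normal 3 S).conj_mem u hu b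
  generalize b * u * b⁻¹ = v at t hv
  have hHc := Core.coprime_card_pPrimeCore 3 S
  have hBH : zpowers b ≤ normalizer (H : Set S) := by rw [normalizer_eq_top]; exact le_top
  obtain ⟨e, h⟩ := t.fr hfaith hW
  have two := two_group hfaith h hW hHc hBH hB hu hv
  have RR := Coprime.commutator_commutator_eq hBH (hB ▸ hHc.symm)
  have hBR := normalizer_commutator_ge_right H (zpowers b)
  set R := ⁅H, zpowers b⁆ with hR
  have uR : u ∈ R := by
    have eu : ⁅v, b⁆ = u := by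
      rw [commutatorElement_def, inv_eq_of_mul_eq_one_right t.v2, mul_assoc v b v, t.bv, ← mul_assoc, ← mul_assoc,
        ← t.uv, mul_assoc u v v, t.v2]; group
    exact eu ▸ commutator_mem_commutator hv (mem_zpowers b)
  have vR : v ∈ R := t.ve ▸ Coprime.conj_mem hBR (mem_zpowers b) uR
  have bG : b ∈ R ⊔ zpowers b := mem_sup_right (mem_zpowers b)
  have pw : ∀ β ∈ zpowers b, ∃ n : ℕ, b ^ n = β := fun β hβ => (mem_powers_iff_mem_zpowers.2 hβ)
  have c : Ctx (MonoidHom.comp ρ (R ⊔ zpowers b).subtype) (R.subgroupOf (R ⊔ zpowers b)) ⟨b, bG⟩ := by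
    refine ⟨hfaith.comp Subtype.val_injective, hW,
      (normal_subgroupOf_iff_le_normalizer le_sup_left).2 (sup_le le_normalizer hBR),
      Core.isPGroup_subgroupOf two _, fun N hN hc x hx => ?_, fun g => ?_, Subtype.ext b3⟩
    · have k : ∀ p ∈ R.subgroupOf (R ⊔ zpowers b), ∀ n : ℕ, ⁅p, (⟨b, bG⟩ : ↥(R ⊔ zpowers b)) ^ n⁆ ∈ N := by
        intro p hp n
        induction n with
        | zero => simp
        | succ n ih =>
          have := N.mul_mem (hc p hp) (hN.conj_mem _ ih ⟨b, bG⟩)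
          convert this using 1
          simp only [commutatorElement_def, pow_succ']; group
      have : ⁅R, zpowers b⁆ ≤ N.map (R ⊔ zpowers b).subtype := commutator_le.2 fun r hr β hβ => by
        obtain ⟨n, rfl⟩ := pw β hβ
        exact ⟨_, k ⟨r, mem_sup_left hr⟩ hr n, rfl⟩
      rw [RR] at this
      obtain ⟨y, hy, e⟩ := this hx
      exact (Subtype.ext e : y = x) ▸ hy
    · obtain ⟨k, hk, a, ha, e⟩ := (Coprime.mem_sup_iff_of_le_normalizer hBR).1 g.2
      obtain ⟨n, rfl⟩ := pw a ha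
      exact ⟨⟨k, mem_sup_left hk⟩, hk, n, Subtype.ext e⟩
  obtain ⟨h1, F₀, F₁, f1, f2, f3, f4, f5⟩ := c.concl (u := ⟨u, mem_sup_left uR⟩) (v := ⟨v, mem_sup_left vR⟩)
    ⟨Subtype.ext t.u2, fun r => t.ne (congrArg Subtype.val r), Subtype.ext t.bu, Subtype.ext t.bv, Subtype.ext t.uv,
      Subtype.ext b3⟩ uR
  have eR := subgroupOfEquivOfLe (le_sup_left : R ≤ R ⊔ zpowers b)
  refine ⟨?_, F₀, F₁, f1, f2, fun r hr => f3 ⟨r, mem_sup_left hr⟩, fun r hr => f4 ⟨r, hr⟩, fun r hr h0 => ?_,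
    fun N hN hN' => f5 N hN fun g => hN' g g.2⟩
  · rcases h1 with ⟨a1, a2⟩ | ⟨a1, a2, A, a3, a4, a5⟩
    · refine Or.inl ⟨elem_of_sq fun a ha => ?_, by rw [← Nat.card_congr eR.toEquiv, a2]⟩
      rw [← sq]; exact congrArg Subtype.val (a1.2 ⟨a, mem_sup_left ha⟩ ha)
    · refine Or.inr ⟨xse eR a1, by rw [← Nat.card_congr eR.toEquiv, a2], A.map (R ⊔ zpowers b).subtype, ?_,
        elem_of_sq ?_, by rw [card_map_of_injective Subtype.val_injective, a5]⟩
      · rintro _ ⟨a, ha, rfl⟩; exact a3 ha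
      · rintro _ ⟨a, ha, rfl⟩
        rw [← sq]; exact congrArg Subtype.val (a4.2 a ha)
  · refine eq_of_ap hfaith fun x => ?_
    obtain ⟨y, hy, s, hs, rfl⟩ := Submodule.mem_sup.1 (f2 ▸ Submodule.mem_top : x ∈ F₀ ⊔ F₁)
    rw [map_add, h0 y hy, ap1]
    exact congrArg _ (f3 ⟨r, hr⟩ s hs)

end Cfsg.Agent.S4415
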