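import Cfsg.Statements.S4416
import Cfsg.Agent.Lib.PGrp.CExt

set_option autoImplicit false
open Cfsg

namespace Cfsg.Agent.S4416

open Cfsg.Lib.PGrp Cfsg.Lib.Forms Subgroup
open scoped commutatorElement

/-- Classification of extraspecial 2-groups in intrinsic form. An extraspecial 2-group has order 2^(2m+1) for some m ≥ 1, and the number of its elements squaring to the identity is either 2^(2m) + 2^m or 2^(2m) − 2^m; two extraspecial 2-groups of the same order with the same number of such elements are isomorphic. (The two cases are the central products of m dihedral groups of order 8, and of m − 1 dihedral groups with one quaternion group.) -/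
theorem result (E : Type*) [Group E] [Finite E] (hE : Cfsg.IsExtraspecial 2 E) :
    (∃ m : ℕ, 1 ≤ m ∧ Nat.card E = 2 ^ (2 * m + 1) ∧
      (Nat.card {x : E // x ^ 2 = 1} = 2 ^ (2 * m) + 2 ^ m ∨ Nat.card {x : E // x ^ 2 = 1} = 2 ^ (2 * m) - 2 ^ m)) ∧
    ∀ (E' : Type*) [Group E'] [Finite E'], Cfsg.IsExtraspecial 2 E' → Nat.card E' = Nat.card E →
      Nat.card {x : E' // x ^ 2 = 1} = Nat.card {x : E // x ^ 2 = 1} → Nonempty (E ≃* E') := by
  obtain ⟨V, _, _, _, M, m, hN, hm⟩ := Cfsg.Lib.PGrp.IsExtraspecial.exists_cExt hE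
  refine ⟨⟨m + 1, by omega, hm ▸ M.card_eq_pow, (em _).imp (M.card_sq_eq_one_plus hN hm)
    (M.card_sq_eq_one_minus hN hm)⟩, fun E' _ _ hE' hc h => ?_⟩
  obtain ⟨V', _, _, _, M', -, hN', -⟩ := Cfsg.Lib.PGrp.IsExtraspecial.exists_cExt hE'
  rw [M.card_eq_pow, M'.card_eq_pow, Nat.pow_right_inj one_lt_two, Nat.succ_inj, hm] at hc
  have h0 : 0 < 2 ^ (m + 1) := by positivity
  refine M.nonempty_mulEquiv M' (Quad.iso_of_type hN hN' hm hc ⟨fun h1 => by_contra fun h2 => ?_,
    fun h2 => by_contra fun h1 => ?_⟩)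
  · rw [M.card_sq_eq_one_plus hN hm h1, M'.card_sq_eq_one_minus hN' hc h2] at h
    generalize 2 ^ (2 * (m + 1)) = a, 2 ^ (m + 1) = b at *
    omega
  · rw [M.card_sq_eq_one_minus hN hm h1, M'.card_sq_eq_one_plus hN' hc h2] at h
    generalize 2 ^ (2 * (m + 1)) = a, 2 ^ (m + 1) = b at *
    omega

end Cfsg.Agent.S4416
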