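import Cfsg.Statements.S4417
import Cfsg.Agent.Lib.Layer.Misc
import Cfsg.Agent.Lib.PGrp.Comm

set_option autoImplicit false
open Cfsg

namespace Cfsg.Agent.S4417

open Subgroup Cfsg.Lib.Core Cfsg.Lib.Amalg Cfsg.Lib.BG1 Cfsg.Lib.Layer
open Module Polynomial
open scoped commutatorElement

universe u v w

theorem eig_top {K V G : Type*} [Field K] [IsAlgClosed K] [AddCommGroup V] [Module K V] [FiniteDimensional K V]
    [Group G] {p : ℕ} (hp : (p : K) ≠ 0) (hG : IsPGroup p G) (ρ : Representation K G V) (y : G) :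
    ⨆ μ, End.eigenspace (ρ y) μ = ⊤ := by
  obtain ⟨k, hk⟩ := hG y
  refine (End.isSemisimple_of_squarefree_aeval_eq_zero (p := X ^ p ^ k - 1)
    (X_pow_sub_one_separable_iff.2 (by push_cast; exact pow_ne_zero _ hp)).squarefree ?_).iSup_eigenspace_eq_top
  rw [map_sub, map_pow, aeval_X, map_one, ← map_pow, hk, map_one, sub_self]

theorem eq_one_of_eig {K V : Type*} [Field K] [AddCommGroup V] [Module K V] {f g : End K V}
    (h : ⨆ μ, End.eigenspace f μ = ⊤) (h1 : ∀ μ, ∀ v ∈ End.eigenspace f μ, g v = v) : g = 1 :=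
  LinearMap.ext fun v => (show (⊤ : Submodule K V) ≤ LinearMap.eqLocus g 1 from
    h ▸ iSup_le fun μ v hv => h1 μ v hv) Submodule.mem_top

theorem map_der {G : Type*} [Group G] (k : ℕ) :
    (derivedSeries (_root_.commutator G) k).map (_root_.commutator G).subtype = derivedSeries G (k + 1) := by
  induction k with
  | zero => rw [derivedSeries_zero, ← MonoidHom.range_eq_map, range_subtype, derivedSeries_one]
  | succ k ih => rw [derivedSeries_succ, Subgroup.map_commutator, ih, ← derivedSeries_succ]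

theorem lemA {K : Type w} [Field K] [IsAlgClosed K] {p : ℕ} [Fact p.Prime] (hp : (p : K) ≠ 0) (k : ℕ) :
    ∀ (n : ℕ) (G : Type u) [Group G] [Finite G] (V : Type v) [AddCommGroup V] [Module K V] [FiniteDimensional K V]
      (ρ : Representation K G V), IsPGroup p G → finrank K V = n → n < 2 ^ k → derivedSeries G k ≤ ρ.ker := by
  induction k with
  | zero =>
    intro n G _ _ V _ _ _ ρ _ h1 h2 g _
    haveI : Subsingleton V := finrank_zero_iff.1 (by omega : finrank K V = 0)
    exact Subsingleton.elim _ _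
  | succ k ihk =>
  intro n
  induction n using Nat.strong_induction_on with
  | _ n ihn =>
  rintro G _ _ V _ _ _ ρ hG rfl hn
  have hc : ∀ (y g : G) (v : V), ρ y (ρ g v) = ρ ⁅y, g⁆ (ρ g (ρ y v)) := fun y g v => by
    simp only [← End.mul_apply, ← map_mul, commutatorElement_def]
    congr 2; group
  have hinv : ∀ (y g : G), ⁅y, g⁆ ∈ ρ.ker → ∀ μ, End.eigenspace (ρ y) μ ≤ (End.eigenspace (ρ y) μ).comap (ρ g) :=
    fun y g h μ v hv => by
      rw [Submodule.mem_comap, End.mem_eigenspace_iff, hc, MonoidHom.mem_ker.1 h, End.mem_eigenspace_iff.1 hv,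
        map_smul, End.one_apply]
  by_cases h1 : ∃ y : G, (∀ g, ⁅y, g⁆ ∈ ρ.ker) ∧ ∀ μ, End.eigenspace (ρ y) μ ≠ ⊤
  · obtain ⟨y, h1, h2⟩ := h1
    refine fun g hg => eq_one_of_eig (eig_top hp hG ρ y) fun μ v hv => ?_
    have h3 := Submodule.finrank_lt (h2 μ)
    have := ihn _ h3 G _ (ρ.subrepresentation _ fun g => hinv y g (h1 g) μ) hG rfl (h3.trans hn) hg
    exact congrArg Subtype.val (LinearMap.congr_fun (MonoidHom.mem_ker.1 this) ⟨v, hv⟩)
  push Not at h1
  set Z := (center (G ⧸ ρ.ker)).comap (QuotientGroup.mk' ρ.ker) with hZ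
  have hm : ∀ x, x ∈ Z ↔ ∀ g, ⁅x, g⁆ ∈ ρ.ker := fun x => Lib.PGrp.mk_mem_center_iff _ x
  have hZc : ⁅Z, (⊤ : Subgroup G)⁆ ≤ ρ.ker := commutator_le.2 fun x hx g _ => (hm x).1 hx g
  by_cases h2 : (⊤ : Subgroup G) ≤ Z
  · rw [← map_der]
    exact (map_subtype_le _).trans ((commutator_mono h2 le_rfl).trans hZc)
  obtain ⟨y, -, hy, -, h3⟩ := Lib.PGrp.exists_mem_central_mod hG Z ⊤ h2
  have h4 := Lib.PGrp.commutator_sup_zpowers_le h3
  have h5 : ⁅_root_.commutator G, Z ⊔ zpowers y⁆ ≤ ρ.ker := Lib.PGrp.three_subgroups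
    ((commutator_mono ((commutator_comm _ _).le.trans h4) le_rfl).trans hZc) ((commutator_mono h4 le_rfl).trans hZc)
  obtain ⟨g0, h6⟩ := not_forall.1 ((hm y).not.1 hy)
  obtain ⟨c, h7⟩ := h1 _ ((hm _).1 (h3 g0))
  have h8 : ∀ v, ρ ⁅y, g0⁆ v = c • v := fun v => End.mem_eigenspace_iff.1 (h7.ge Submodule.mem_top)
  have h9 : c ≠ 1 := fun e => h6 (LinearMap.ext fun v => by rw [h8, e, one_smul]; rfl)
  have inj : ∀ g, Function.Injective (ρ g) := fun g => (ρ.apply_bijective g).1
  rw [← map_der]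
  rintro _ ⟨g, hg, rfl⟩
  refine eq_one_of_eig (eig_top hp hG ρ y) fun μ v hv => ?_
  by_cases h0 : μ = 0
  · obtain rfl : v = 0 := inj y (by rw [End.mem_eigenspace_iff.1 hv, h0, zero_smul, map_zero])
    exact map_zero _
  have h10 : (End.eigenspace (ρ y) μ).map (ρ g0) ≤ End.eigenspace (ρ y) (c * μ) := by
    rintro _ ⟨v, hv, rfl⟩
    rw [End.mem_eigenspace_iff, hc, h8, End.mem_eigenspace_iff.1 hv, map_smul, mul_smul]
  have h11 := Submodule.finrank_add_finrank_le_of_disjoint (((End.eigenspaces_iSupIndep (ρ y)).pairwiseDisjoint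
    (show μ ≠ c * μ from fun e => h9 (mul_right_cancel₀ h0 (by rw [← e, one_mul])))).mono_right h10)
  rw [← (Submodule.equivMapOfInjective _ (inj g0) _).finrank_eq] at h11
  have := ihk _ (_root_.commutator G) _ (Representation.subrepresentation (ρ.comp (_root_.commutator G).subtype) _
    fun g => hinv y g (h5 (commutator_comm (Z ⊔ zpowers y) _ ▸
      commutator_mem_commutator (mem_sup_right (mem_zpowers y)) g.2)) μ) (hG.to_subgroup _) rfl
    (by rw [pow_succ] at hn; omega) hg
  exact congrArg Subtype.val (LinearMap.congr_fun (MonoidHom.mem_ker.1 this) ⟨v, hv⟩)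

theorem mul_le {F K : Type*} [Field F] [Fintype F] [Field K] [Algebra F K] {f : F[X]} {ζ : K} {p : ℕ}
    (hζ : orderOf ζ = p) (h0 : ζ ≠ 0) (hq : IsUnit (Fintype.card F : ZMod p)) :
    orderOf (Fintype.card F : ZMod p) * (f.map (algebraMap F K)).rootMultiplicity ζ ≤ f.natDegree := by
  classical
  set q := Fintype.card F
  set g := f.map (algebraMap F K) with hg
  have h1 : ∀ i : ℕ, g.rootMultiplicity (ζ ^ q ^ i) = g.rootMultiplicity ζ := by
    intro i
    induction i with
    | zero => simp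
    | succ i ih =>
      rw [← ih, eq_rootMultiplicity_map (f := (FiniteField.frobeniusAlgHom F K).toRingHom) (RingHom.injective _)
        (ζ ^ q ^ i), hg, Polynomial.map_map, AlgHom.toRingHom_eq_coe, AlgHom.comp_algebraMap, pow_succ, pow_mul]
      rfl
  have h2 : Set.InjOn (fun i : ℕ => ζ ^ q ^ i) (Finset.range (orderOf (q : ZMod p))) := fun i hi j hj e => by
    obtain ⟨u, hu⟩ := hq
    have h3 : (Units.mk0 ζ h0) ^ q ^ i = (Units.mk0 ζ h0) ^ q ^ j := Units.ext (by simpa using e)
    rw [pow_eq_pow_iff_modEq, ← orderOf_units, Units.val_mk0, hζ, ← ZMod.natCast_eq_natCast_iff] at h3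
    push_cast at h3
    exact pow_injOn_Iio_orderOf (Finset.mem_range.1 hi) (Finset.mem_range.1 hj) h3
  calc _ = ∑ i ∈ Finset.range (orderOf (q : ZMod p)), g.roots.count (ζ ^ q ^ i) := by simp [count_roots, h1]
    _ = ∑ a ∈ (Finset.range (orderOf (q : ZMod p))).image (fun i : ℕ => ζ ^ q ^ i), g.roots.count a :=
      (Finset.sum_image (f := fun a => g.roots.count a) h2).symm
    _ ≤ ∑ a ∈ (Finset.range (orderOf (q : ZMod p))).image (fun i : ℕ => ζ ^ q ^ i) ∪ g.roots.toFinset,
        g.roots.count a := Finset.sum_le_sum_of_subset Finset.subset_union_left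
    _ = g.roots.card := Multiset.sum_count_eq_card fun a ha => Finset.mem_union_right _ (Multiset.mem_toFinset.2 ha)
    _ ≤ _ := (card_roots' g).trans natDegree_map_le


/-- Let F be a field with q elements, p a prime not dividing q, and e the multiplicative order of q modulo p; assume e ≤ n. Then every p-subgroup of GL_n(F) has derived length at most ⌊log₂(n/e)⌋ + 1: that term of its derived series is trivial (n/e is the integer quotient). -/
theorem result {F : Type*} [Field F] [Fintype F] (q : ℕ) (hF : Fintype.card F = q) (p : ℕ) [Fact p.Prime] (hpq : ¬ p ∣ q) (n e : ℕ) (he : e = orderOf (q : ZMod p)) (hen : e ≤ n) (P : Subgroup (GL (Fin n) F)) (hP : IsPGroup p P) : derivedSeries ↥P (Nat.log 2 (n / e) + 1) = ⊥ := by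
  have hp : p.Prime := Fact.out
  subst hF
  let K := AlgebraicClosure F
  have hpK : (p : K) ≠ 0 := fun h => by
    have h1 : (p : F) = 0 := (algebraMap F K).injective (by rw [map_natCast, h, map_zero])
    obtain ⟨r, hr⟩ := CharP.exists F
    obtain ⟨m, hr', hm⟩ := FiniteField.card F r
    obtain rfl := (Nat.prime_dvd_prime_iff_eq hr' hp).1 ((CharP.cast_eq_zero_iff F r p).1 h1)
    exact hpq (hm ▸ dvd_pow_self _ m.ne_zero)
  have hu : IsUnit (Fintype.card F : ZMod p) := (ZMod.isUnit_iff_coprime _ _).2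
    ((Nat.Prime.coprime_iff_not_dvd hp).2 hpq).symm
  let ρ : Representation K P (Fin n → K) := ((Matrix.toLinAlgEquiv' (R := K) (n := Fin n)).toMonoidHom.comp
    (algebraMap F K).mapMatrix.toMonoidHom).comp ((Units.coeHom _).comp P.subtype)
  have hρ : ∀ g : P, ρ g = Matrix.toLin' (((g : GL (Fin n) F) : Matrix (Fin n) (Fin n) F).map (algebraMap F K)) :=
    fun g => rfl
  by_contra h
  obtain ⟨z, hz, hzc, hzo⟩ := Lib.PGrp.exists_central_orderOf_eq hP _ h
  have h1 : ρ z ≠ 1 := fun e => by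
    rw [hρ, End.one_eq_id, ← Matrix.toLin'_one, Matrix.toLin'.injective.eq_iff,
      ← Matrix.map_one (algebraMap F K) (map_zero _) (map_one _),
      (Matrix.map_injective (algebraMap F K).injective).eq_iff] at e
    rw [show z = 1 from Subtype.ext (Units.ext e), orderOf_one] at hzo
    exact hp.one_lt.ne hzo
  obtain ⟨ζ, v, hv, h2⟩ : ∃ μ, ∃ v ∈ End.eigenspace (ρ z) μ, ρ z v ≠ v := by
    by_contra h2
    push Not at h2
    exact h1 (eq_one_of_eig (eig_top hpK hP ρ z) h2)
  have h3 := End.mem_eigenspace_iff.1 hv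
  have hv0 : v ≠ 0 := by rintro rfl; exact h2 (map_zero _)
  have h4 : ζ ^ p = 1 := by
    have := End.HasEigenvector.pow_apply (f := ρ z) ⟨hv, hv0⟩ p
    rw [← map_pow, ← hzo, pow_orderOf_eq_one, map_one, End.one_apply, hzo] at this
    exact smul_left_injective K hv0 (by simp only [← this, one_smul])
  have h5 := mul_le (f := ((z : GL (Fin n) F) : Matrix (Fin n) (Fin n) F).charpoly)
    (orderOf_eq_prime h4 fun e => h2 (by rw [h3, e, one_smul])) (by
      rintro rfl; rw [zero_pow hp.ne_zero] at h4; exact zero_ne_one h4) hu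
  rw [← he, Matrix.charpoly_natDegree_eq_dim, Fintype.card_fin, ← Matrix.charpoly_map, ← Matrix.charpoly_toLin',
    ← hρ] at h5
  have he0 : 0 < e := by
    obtain ⟨u, hu⟩ := hu
    rw [he, ← hu, orderOf_units]; exact orderOf_pos u
  have h6 : finrank K (End.eigenspace (ρ z) ζ) ≤ n / e := (Nat.le_div_iff_mul_le he0).2
    ((mul_comm _ _).le.trans ((Nat.mul_le_mul_left _ (LinearMap.finrank_eigenspace_le _ _)).trans h5))
  have := lemA hpK _ _ P _ (ρ.subrepresentation (End.eigenspace (ρ z) ζ) fun g w hw => by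
    rw [Submodule.mem_comap, End.mem_eigenspace_iff, ← End.mul_apply, ← map_mul, ← mem_center_iff.1 hzc g, map_mul,
      End.mul_apply, End.mem_eigenspace_iff.1 hw, map_smul]) hP rfl
    (h6.trans_lt (Nat.lt_pow_succ_log_self one_lt_two _)) hz
  exact h2 (congrArg Subtype.val (LinearMap.congr_fun (MonoidHom.mem_ker.1 this) ⟨v, hv⟩))

end Cfsg.Agent.S4417
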