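import Cfsg.Statements.S4418
import Cfsg.Agent.Lib.Fus3.MetaAut
import Cfsg.Agent.Lib.Fus2.GroupFus
import Cfsg.Agent.S0949
import Cfsg.Agent.Lib.FT.Cor
import Cfsg.Agent.Lib.Transfer.Frobenius

set_option autoImplicit false
open Cfsg

namespace Cfsg.Agent.S4418

open Cfsg.Lib Cfsg.Lib.Fus Subgroup

private theorem homoc {G : Type*} [Group G] [Finite G] (P : Sylow 2 G) (m : ℕ) (hm : 2 ≤ m)
    (e : (P : Subgroup G) ≃* Multiplicative (ZMod (2 ^ m) × ZMod (2 ^ m))) : Group.IsSolvable G := by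
  let N := pPrimeCore 2 G
  have hN := Core.coprime_card_pPrimeCore 2 G
  let T := P.mapSurjective (QuotientGroup.mk'_surjective N)
  have hinj : Function.Injective ((QuotientGroup.mk' N).subgroupMap (P : Subgroup G)) := by
    rw [injective_iff_map_eq_one]
    intro x hx
    have h1 : (x : G) ∈ N := (QuotientGroup.eq_one_iff _).mp (congrArg Subtype.val hx)
    obtain ⟨k, hk⟩ := IsPGroup.iff_card.mp P.isPGroup'
    have := disjoint_iff.1 <| disjoint_of_coprime_natCard (H := N) (K := (P : Subgroup G)) (hk ▸ hN.pow_right k)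
    exact Subtype.ext (mem_bot.mp (this ▸ mem_inf.mpr ⟨h1, x.2⟩))
  let e' : (T : Subgroup (G ⧸ N)) ≃* _ :=
    (MulEquiv.ofBijective _ ⟨hinj, MonoidHom.subgroupMap_surjective _ _⟩).symm.trans e
  obtain ⟨h1, -, h2⟩ := Cfsg.Agent.S0949.result T m hm e' fun K hK ho => eq_bot_iff.mpr
    ((Core.le_pPrimeCore (Nat.coprime_two_right.mpr ho)).trans Core.pPrimeCore_quotient_pPrimeCore.le)
  have := T.isPGroup'.isNilpotent
  have : Group.IsSolvable ((G ⧸ N) ⧸ (T : Subgroup (G ⧸ N))) := FT.odd_order_solvable _ (by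
    rw [← index_eq_card]; rcases h2 with h | h <;> rw [h] <;> decide)
  have := Core.isSolvable_of_normal_of_quotient (T : Subgroup (G ⧸ N))
  have : Group.IsSolvable N := FT.odd_order_solvable _ (Nat.coprime_two_right.mp hN)
  exact Core.isSolvable_of_normal_of_quotient N

/-- Let G be a finite group whose Sylow 2-subgroup S is metacyclic via a cyclic normal subgroup N of S with S/N cyclic of order greater than 2. Then G is soluble. -/
theorem result {G : Type*} [Group G] [Finite G] (S : Sylow 2 G) (N : Subgroup ↥(S : Subgroup G)) [hN : N.Normal] (hNc : IsCyclic N) (hQc : IsCyclic (↥(S : Subgroup G) ⧸ N)) (hQ : 2 < Nat.card (↥(S : Subgroup G) ⧸ N)) : Group.IsSolvable G := by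
  obtain ⟨a, rfl⟩ := PGrp.exists_zpowers_eq_of_isCyclic hNc
  obtain ⟨b, hs⟩ := (PGrp.isCyclic_quotient_iff _).mp hQc
  rw [← index_eq_card] at hQ
  by_cases h2 : ∃ n, 0 < n ∧ orderOf a = 2 ^ n ∧
      Nonempty (↥(S : Subgroup G) ≃* Multiplicative (ZMod (2 ^ n)) × Multiplicative (ZMod (2 ^ n)))
  · obtain ⟨n, h0, ha, ⟨e⟩⟩ := h2
    refine homoc S n ?_ (e.trans (MulEquiv.prodMultiplicative _ _).symm)
    have h3 := (zpowers a).card_mul_index
    rw [Nat.card_zpowers, ha, Nat.card_congr e.toEquiv, Nat.card_prod, Nat.card_congr Multiplicative.toAdd, Nat.card_zmod,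
      mul_right_inj' (by positivity)] at h3
    by_contra hlt
    obtain rfl : n = 1 := by omega
    omega
  have hp : Transfer.PNil 2 (⊤ : Subgroup G) := (Transfer.sylowIn_top S).pnil_of_no_fusion fun x hx g _ hg => by
    obtain ⟨v, hv, e⟩ := Sat.inner_of_metacyclic ⟨S.isPGroup', Fus2.isSaturated_group S⟩ hN hs
      (fun c m h => by have := h.index; omega) (fun n h0 ha h => h2 ⟨n, h0, ha, h⟩) (P := zpowers x) (σ := cj g)
      (mor_group_iff.mpr ⟨zpowers_le.mpr hx, by
        rintro _ ⟨k, rfl⟩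
        simp only [cj_apply, ← conj_zpow]
        exact zpow_mem hg k, g, fun _ _ => rfl⟩)
    exact ⟨v, hv, (e x (mem_zpowers x)).symm⟩
  have h3 := hp.isComplement' S
  have := Transfer.pResidual_normal (p := 2) (G := G)
  have : Group.IsSolvable (pResidual 2 G) := FT.solvable_of_not_two_dvd _ (Transfer.resOf_top (p := 2) (G := G) ▸ hp)
  have := S.isPGroup'.isNilpotent
  have : Group.IsSolvable (G ⧸ pResidual 2 G) :=
    Group.isSolvable_of_isSolvable_injective (f := h3.symm.QuotientMulEquiv.toMonoidHom) h3.symm.QuotientMulEquiv.injective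
  exact Core.isSolvable_of_normal_of_quotient (pResidual 2 G)

end Cfsg.Agent.S4418
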