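import Cfsg.Statements.S4419
import Cfsg.Agent.Lib.Layer.Misc
import Cfsg.Agent.Lib.FG.Act
import Cfsg.Agent.Lib.Core.UpperP
import Cfsg.Agent.Lib.BG1.Sec1

set_option autoImplicit false
open Cfsg

namespace Cfsg.Agent.S4419

open Subgroup Cfsg.Lib.Core Cfsg.Lib.Amalg Cfsg.Lib.BG1 Cfsg.Lib.Layer

/-- Let p be a prime and G a finite group whose Sylow p-subgroups are metacyclic (a cyclic normal subgroup with cyclic quotient). Then G has a normal p-complement if and only if the order of G/O_{p′,p}(G) is coprime to p² − 1. -/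
theorem result {G : Type*} [Group G] [Finite G] (p : ℕ) [Fact p.Prime] (S : Sylow p G) (hS : Cfsg.IsMetacyclic ↥(S : Subgroup G)) : Cfsg.HasNormalPComplement p G ↔ Nat.Coprime (Nat.card (G ⧸ Cfsg.pPrimePCore p G)) (p ^ 2 - 1) := by
  have hp : p.Prime := Fact.out
  haveI := pPrimePCore_normal p G
  rw [Lib.Transfer.hasNormalPComplement_iff_top]
  constructor
  · intro h
    haveI := Lib.Transfer.resOf_normal (p := p) (⊤ : Subgroup G)
    have h1 : (⊤ : Subgroup G) ≤ pPrimePCore p G := le_pPrimePCore_of_pow_mem fun x hx => by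
      obtain ⟨k, hk⟩ := Lib.Transfer.exists_pow_mem_resOf (p := p) hx
      exact ⟨k, le_pPrimeCore (p := p) h.coprime hk⟩
    have : Nat.card (G ⧸ pPrimePCore p G) = 1 := index_eq_one.2 (eq_top_iff.2 h1)
    rw [this]; exact Nat.coprime_one_left _
  · intro h
    by_contra h1
    obtain ⟨Q, hQ, q, hq, hqp, g, -, hg, hn, hc⟩ := (Lib.Transfer.sylowIn_top S).exists_of_not_pnil h1
    have hQp : IsPGroup p Q := S.isPGroup'.to_le hQ
    obtain ⟨i, h2, h3, h4⟩ := Lib.FG.exists_dvd_frattini hq hqp hQp hg hn hc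
    have h5 := Lib.FG.index_frattini_le_of_isMetacyclic hQp (Lib.PGrp.isMetacyclic_of_le hQ hS)
    have h6 : i ≤ 2 := (Nat.pow_le_pow_iff_right hp.one_lt).1
      ((Nat.le_of_dvd (Nat.pos_of_ne_zero index_ne_zero_of_finite) h3).trans h5)
    have h7 : q ∣ p ^ 2 - 1 := by
      interval_cases i
      · exact h4.trans (by simpa using Nat.sub_dvd_pow_sub_pow p 1 2)
      · exact h4
    obtain ⟨k, hk⟩ := hg
    have h8 : g ∈ pPrimePCore p G := by
      rw [← QuotientGroup.eq_one_iff, ← orderOf_eq_one_iff]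
      refine Nat.eq_one_of_dvd_coprimes (Nat.Coprime.pow_right k (h.coprime_dvd_right h7)) (orderOf_dvd_natCard _) ?_
      refine orderOf_dvd_of_pow_eq_one ?_
      rw [← QuotientGroup.mk_pow, hk, QuotientGroup.mk_one]
    have h9 : (Nat.card (zpowers g)).Coprime p := by
      rw [Nat.card_zpowers]
      exact Nat.Coprime.coprime_dvd_left (orderOf_dvd_of_pow_eq_one hk)
        (Nat.Coprime.pow_left k ((Nat.coprime_primes hq hp).2 hqp))
    have h10 := le_pPrimeCore_of_le_pPrimePCore h9 (zpowers_le.2 h8)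
    refine hc (zpowers_le.1 (commutator_eq_bot_iff_le_centralizer.1 ?_))
    rw [commutator_comm]
    refine eq_bot_iff.2 (le_trans (le_inf (commutator_le_left_of_norm (zpowers_le.2 hn))
      ((commutator_mono le_rfl h10).trans (commutator_le_right _ _))) ?_)
    exact (inf_eq_bot_of_isPGroup_of_not_dvd hp hQp
      ((Nat.Prime.coprime_iff_not_dvd hp).1 (coprime_card_pPrimeCore p G).symm)).le

end Cfsg.Agent.S4419
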