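import Cfsg.Statements.S4420


set_option autoImplicit false
open Cfsg

namespace Cfsg.Agent.S4420

theorem comm_of_sq {H : Type*} [Group H] (h : ∀ x : H, x ^ 2 = 1) (a b : H) : a * b = b * a := by
  have h1 : ∀ x : H, x⁻¹ = x := fun x => inv_eq_of_mul_eq_one_right (by rw [← sq, h])
  rw [← h1 (a * b), mul_inv_rev, h1, h1]

/-- Structure of groups in which every element outside some proper subgroup has square 1. Let H be a finite group with a proper subgroup A such that every element outside A has square 1. Then H has an abelian normal subgroup B of index 2 such that every element outside B is an involution inverting every element of B; and if H is not an elementary abelian 2-group, B is the only abelian normal subgroup of index 2 with this property. -/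
theorem result {H : Type*} [Group H] [Finite H] (A : Subgroup H) (hA : A ≠ ⊤) (hD : ∀ x : H, x ∉ A → x ^ 2 = 1) :
    ∃ B : Subgroup H, B.Normal ∧ IsMulCommutative ↥B ∧ B.index = 2 ∧
      (∀ x : H, x ∉ B → x ^ 2 = 1 ∧ ∀ b ∈ B, x * b * x⁻¹ = b⁻¹) ∧
      (¬ (IsMulCommutative H ∧ ∀ x : H, x ^ 2 = 1) →
        ∀ B' : Subgroup H, B'.Normal → IsMulCommutative ↥B' → B'.index = 2 →
          (∀ x : H, x ∉ B' → x ^ 2 = 1 ∧ ∀ b ∈ B', x * b * x⁻¹ = b⁻¹) → B' = B) := by
  obtain ⟨B, hB, hAB⟩ := (eq_top_or_exists_le_coatom A).resolve_left hA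
  have h1 : ∀ x, x ∉ B → x ^ 2 = 1 := fun x hx => hD x fun h => hx (hAB h)
  have h2 : ∀ x, x ∉ B → ∀ b ∈ B, x * b * x⁻¹ = b⁻¹ := fun x hx b hb => by
    have e1 := h1 x hx
    have e2 := h1 (x * b) fun h => hx ((B.mul_mem_cancel_right hb).1 h)
    rw [sq] at e1 e2
    rw [inv_eq_of_mul_eq_one_right e1, eq_inv_iff_mul_eq_one, mul_assoc _ x b, e2]
  obtain ⟨x, hx⟩ : ∃ x, x ∉ B := by
    by_contra! h
    exact hB.1 (eq_top_iff.2 fun x _ => h x)
  have hcomm : ∀ a ∈ B, ∀ b ∈ B, a * b = b * a := fun a ha b hb => by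
    have := h2 x hx _ (mul_mem ha hb)
    rw [show x * (a * b) * x⁻¹ = (x * a * x⁻¹) * (x * b * x⁻¹) by group, h2 x hx a ha, h2 x hx b hb,
      ← mul_inv_rev, inv_inj] at this
    exact this.symm
  have hi : B.index = 2 := by
    refine Subgroup.index_eq_two_iff.2 ⟨x, fun y => ?_⟩
    by_cases hy : y ∈ B
    · exact Or.inr ⟨hy, fun h => hx ((B.mul_mem_cancel_left hy).1 h)⟩
    refine Or.inl ⟨by_contra fun hyx => ?_, hy⟩
    have hsq : ∀ g : H, g ^ 2 = 1 := fun g => by
      by_cases hg : g ∈ B
      · have := h2 _ hyx g hg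
        rw [show y * x * g * (y * x)⁻¹ = y * (x * g * x⁻¹) * y⁻¹ by group, h2 x hx g hg,
          h2 y hy _ (inv_mem hg), inv_inv] at this
        rw [sq]
        nth_rewrite 1 [this]
        exact inv_mul_cancel g
      · exact h1 g hg
    have hc := comm_of_sq hsq
    let C : Subgroup H :=
      { carrier := {g | g ∈ B ∨ g * x ∈ B}
        one_mem' := Or.inl B.one_mem
        mul_mem' := by
          rintro a b (ha | ha) (hb | hb)
          · exact Or.inl (mul_mem ha hb)
          · exact Or.inr (mul_assoc a b x ▸ mul_mem ha hb)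
          · exact Or.inr (by rw [mul_assoc, hc b x, ← mul_assoc]; exact mul_mem ha hb)
          · refine Or.inl ?_
            have := mul_mem ha hb
            rwa [hc b x, mul_assoc, ← mul_assoc x, ← sq, hsq, one_mul] at this
        inv_mem' := by
          intro a ha
          rwa [inv_eq_of_mul_eq_one_right (by rw [← sq, hsq] : a * a = 1)] }
    have : C = ⊤ := hB.2 C (lt_of_le_of_ne (fun g hg => Or.inl hg) fun e => hx (by
      rw [e]; exact Or.inr (by rw [← sq, hsq]; exact B.one_mem)))
    rcases (this ▸ Subgroup.mem_top y : y ∈ C) with h | h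
    exacts [hy h, hyx h]
  refine ⟨B, B.normal_of_index_eq_two hi, ⟨⟨fun a b => Subtype.ext (hcomm _ a.2 _ b.2)⟩⟩, hi,
    fun x hx => ⟨h1 x hx, h2 x hx⟩, fun hn B' _ hc hi' h' => by_contra fun hne => hn ?_⟩
  obtain ⟨y, hy, hyB⟩ : ∃ y ∈ B', y ∉ B := by
    by_contra! h
    refine hne (Subgroup.eq_of_le_of_card_ge h (le_of_eq ?_))
    have e1 := B.card_mul_index
    have e2 := B'.card_mul_index
    rw [hi] at e1; rw [hi'] at e2
    omega
  have hsq : ∀ g : H, g ^ 2 = 1 := fun g => by
    by_cases hg : g ∈ B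
    · by_cases hg' : g ∈ B'
      · have := h2 y hyB g hg
        have e : y * g = g * y := congrArg Subtype.val (hc.1.1 ⟨y, hy⟩ ⟨g, hg'⟩)
        rw [e, mul_inv_cancel_right] at this
        rw [sq]
        nth_rewrite 1 [this]
        exact inv_mul_cancel g
      · exact (h' g hg').1
    · exact h1 g hg
  exact ⟨⟨⟨comm_of_sq hsq⟩⟩, hsq⟩

end Cfsg.Agent.S4420
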