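import Cfsg.Statements.S4422


set_option autoImplicit false
open Cfsg

namespace Cfsg.Agent.S4422


/-- Primitive divisors of `q^e - 1` are congruent to 1 modulo `e`. Let `q ≥ 2` and `e ≥ 1` be natural numbers and let `m` be a divisor of `q^e - 1` that is coprime to `q^i - 1` for every `1 ≤ i < e` (so `m` divides the primitive part of `q^e - 1`, the largest such divisor). Then `m ≡ 1 (mod e)`. -/
theorem result (q e m : ℕ) (hq : 2 ≤ q) (he : 1 ≤ e)
    (hm : m ∣ q ^ e - 1) (hcop : ∀ i : ℕ, 1 ≤ i → i < e → Nat.Coprime m (q ^ i - 1)) :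
    m % e = 1 % e := by
  have key : ∀ m : ℕ, m ∣ q ^ e - 1 → (∀ i : ℕ, 1 ≤ i → i < e → Nat.Coprime m (q ^ i - 1)) → m ≡ 1 [MOD e] := by
    intro m
    induction m using Nat.recOnPrimeCoprime with
    | zero =>
      intro h _
      have := Nat.one_lt_pow (n := e) (by omega) (show 1 < q by omega)
      have := Nat.eq_zero_of_zero_dvd h
      omega
    | prime_pow p n hp =>
      intro h hc
      rcases Nat.eq_zero_or_pos n with rfl | hn
      · simp [Nat.ModEq]
      have hpd : p ∣ p ^ n := dvd_pow_self p hn.ne'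
      have := Fact.mk hp
      have hq1 : ∀ i, p ∣ q ^ i - 1 ↔ (q : ZMod p) ^ i = 1 := fun i => by
        rw [← ZMod.natCast_eq_zero_iff, Nat.cast_sub (Nat.one_le_pow _ _ (by omega)), sub_eq_zero]
        simp
      have h1 := (hq1 e).1 (hpd.trans h)
      have h2 : orderOf (q : ZMod p) = e := by
        refine (orderOf_eq_iff he).2 ⟨h1, fun i hi hi0 h3 => ?_⟩
        exact hp.one_lt.ne' (Nat.eq_one_of_dvd_coprimes (hc i hi0 hi) hpd ((hq1 i).2 h3))
      have h0 : (q : ZMod p) ≠ 0 := by
        rintro h0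
        rw [h0, zero_pow (by omega)] at h1
        exact zero_ne_one h1
      have h3 : e ∣ p - 1 := h2 ▸ ZMod.orderOf_dvd_card_sub_one h0
      have h4 : p ≡ 1 [MOD e] := ((Nat.modEq_iff_dvd' hp.one_le).2 h3).symm
      simpa using h4.pow n
    | coprime a b _ _ _ iha ihb =>
      intro h hc
      simpa using (iha ((dvd_mul_right a b).trans h) fun i h1 h2 => (hc i h1 h2).coprime_mul_right).mul
        (ihb ((dvd_mul_left b a).trans h) fun i h1 h2 => (hc i h1 h2).coprime_mul_left)
  exact key m hm hcop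

end Cfsg.Agent.S4422
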