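import Cfsg.Statements.S4423
import Cfsg.Agent.Lib.Layer.Misc
import Cfsg.Agent.Lib.Small.Zsigmondy

set_option autoImplicit false
open Cfsg

namespace Cfsg.Agent.S4423

open Subgroup Cfsg.Lib.Core Cfsg.Lib.Amalg Cfsg.Lib.BG1 Cfsg.Lib.Layer
open Cfsg.Lib.Small

def PP (q : ℕ) : ℕ → ℕ
  | 0 => 1
  | i + 1 => (q ^ (i + 1) - 1) * PP q i

theorem dvd_PP (q : ℕ) {i : ℕ} (h : 1 ≤ i) : ∀ n, i ≤ n → q ^ i - 1 ∣ PP q n
  | 0, h' => by omega
  | n + 1, h' => by
    rcases h'.eq_or_lt with rfl | h'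
    · exact dvd_mul_right _ _
    · exact (dvd_PP q h n (by omega)).mul_left _

theorem coprime_PP {q m : ℕ} : ∀ n, (∀ i, 1 ≤ i → i ≤ n → m.Coprime (q ^ i - 1)) → m.Coprime (PP q n)
  | 0, _ => Nat.coprime_one_right _
  | n + 1, h => Nat.Coprime.mul_right (h _ (by omega) le_rfl) (coprime_PP n fun i h1 h2 => h i h1 (by omega))

def Ex : List (ℕ × ℕ) :=
  [(2, 6), (2, 4), (2, 10), (2, 12), (2, 18), (3, 4), (3, 6), (5, 6), (2, 3), (2, 8), (2, 20), (4, 3), (4, 6)]

def pr (q e : ℕ) : ℕ := (q ^ e - 1) / Nat.gcd (q ^ e - 1) (PP q (e - 1) ^ 4)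

def ck (q e : ℕ) : Bool := decide ((q, e) ∈ Ex ∨ (Nat.gcd (pr q e) (PP q (e - 1)) = 1 ∧ 3 * e + 1 ≤ pr q e))

theorem chk0 : ∀ e < 178, ∀ q < 10, ck (q + 2) (e + 3) = true := by decide +kernel

theorem chk1 (e : ℕ) (h1 : e < 181) (h2 : 3 ≤ e) (q : ℕ) (h3 : q < 12) (h4 : 2 ≤ q) : (q, e) ∈ Ex ∨
    (Nat.gcd (pr q e) (PP q (e - 1)) = 1 ∧ 3 * e + 1 ≤ pr q e) := by
  obtain ⟨e, rfl⟩ := Nat.exists_eq_add_of_le' h2
  obtain ⟨q, rfl⟩ := Nat.exists_eq_add_of_le' h4
  exact of_decide_eq_true (chk0 e (by omega) q (by omega))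

theorem chk2 : ∀ e < 181, 3 ≤ e → e * (3 * e + 1) ≤ 11 ^ e.totient := by decide +kernel

theorem chk3 : ∀ x ∈ Ex, ∃ a ≤ 2 * x.2 + 1, 0 < a ∧ x.1 ^ x.2 - 1 ∣ a * PP x.1 (x.2 - 1) ^ 4 := by decide +kernel

theorem of_big {q e : ℕ} (hq : 1 < q) (he : 3 ≤ e) (h1 : 3 * e + 1 ≤ cycVal e q)
    (h2 : ∀ r k m : ℕ, r.Prime → e = r ^ (k + 1) * m → m ∣ r - 1 → r * (3 * e + 1) ≤ cycVal e q) :
    ∃ m : ℕ, m ∣ q ^ e - 1 ∧ (∀ i : ℕ, 1 ≤ i → i < e → Nat.Coprime m (q ^ i - 1)) ∧ 3 * e + 1 ≤ m := by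
  have key : ∀ m, (∀ s, s.Prime → s ∣ m → IsPPD s q e) → ∀ i : ℕ, 1 ≤ i → i < e → Nat.Coprime m (q ^ i - 1) :=
    fun m h i hi hie => Nat.coprime_of_dvd' fun s hs a b =>
      absurd (Nat.le_of_dvd hi (((h s hs a).dvd_iff hq.le (by omega) i).1 b)) (by omega)
  by_cases h : ∀ s, s.Prime → s ∣ cycVal e q → IsPPD s q e
  · exact ⟨_, cycVal_dvd hq.le, key _ h, h1⟩
  push Not at h
  obtain ⟨r, hr, ⟨m, hm⟩, h3⟩ := h
  have h4 : r ∣ cycVal e q := ⟨m, hm⟩
  obtain ⟨k, m', h5, -, h6⟩ := (isPPD_or_of_dvd_cycVal hq.le (by omega) hr h4).resolve_left h3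
  have h7 : m ∣ cycVal e q := ⟨r, by rw [hm, mul_comm]⟩
  refine ⟨m, h7.trans (cycVal_dvd hq.le), key _ fun s hs h8 => ?_, ?_⟩
  · by_contra h9
    obtain rfl := eq_of_dvd_cycVal_of_not_isPPD hq.le (by omega) hr hs h4 (h8.trans h7) h3 h9
    exact not_sq_dvd_cycVal hq (by omega) (by omega) hr h4 h3 (by rw [hm, sq]; exact Nat.mul_dvd_mul_left _ h8)
  · have := h2 r k m' hr h5 h6
    rw [hm] at this
    exact Nat.le_of_mul_le_mul_left this hr.pos

theorem prod_le (S : Finset ℕ) (h : ∀ p ∈ S, 2 ≤ p) : ∏ p ∈ S, p ≤ (S.card + 1) * ∏ p ∈ S, (p - 1) := by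
  induction S using Finset.induction_on_max with
  | empty => simp
  | insert p S hp ih =>
    have h1 : p ∉ S := fun h => lt_irrefl _ (hp p h)
    have h2 : S.card ≤ p - 2 := by
      rw [← Nat.card_Ico]
      exact Finset.card_le_card fun x hx => Finset.mem_Ico.2 ⟨h x (Finset.mem_insert_of_mem hx), hp x hx⟩
    have h3 := h p (Finset.mem_insert_self _ _)
    rw [Finset.prod_insert h1, Finset.prod_insert h1, Finset.card_insert_of_notMem h1, ← mul_assoc]
    refine (Nat.mul_le_mul_left p (ih fun x hx => h x (Finset.mem_insert_of_mem hx))).trans ?_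
    rw [← mul_assoc]
    refine Nat.mul_le_mul_right _ ?_
    obtain ⟨t, rfl⟩ : ∃ t, p = S.card + 2 + t := ⟨p - 2 - S.card, by omega⟩
    rw [show S.card + 2 + t - 1 = S.card + 1 + t by omega]
    nlinarith

theorem tot_bound {e : ℕ} (he : 0 < e) : ∃ w, e ≤ (w + 1) * e.totient ∧ 2 ^ w ≤ e := by
  refine ⟨e.primeFactors.card, ?_, ?_⟩
  · have h1 := Nat.totient_mul_prod_primeFactors e
    have h2 := prod_le e.primeFactors fun p hp => (Nat.prime_of_mem_primeFactors hp).two_le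
    have h3 : 0 < ∏ p ∈ e.primeFactors, (p - 1) := Finset.prod_pos fun p hp =>
      Nat.sub_pos_of_lt (Nat.prime_of_mem_primeFactors hp).one_lt
    refine Nat.le_of_mul_le_mul_right ?_ h3
    rw [← h1, mul_comm _ e.totient, mul_assoc]
    exact Nat.mul_le_mul_left _ h2
  · exact (Finset.pow_card_le_prod _ _ _ fun p hp => (Nat.prime_of_mem_primeFactors hp).two_le).trans
      (Nat.le_of_dvd he (Nat.prod_primeFactors_dvd e))

theorem in1 (x : ℕ) (h : 10 ≤ x) : 6 * x * (x + 1) < 2 ^ x := by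
  induction x, h using Nat.le_induction with
  | base => norm_num
  | succ n h ih => rw [pow_succ]; nlinarith

theorem in2 (x : ℕ) (h : 7 ≤ x) : 2 * x * (x + 1) < 2 ^ x := by
  induction x, h using Nat.le_induction with
  | base => norm_num
  | succ n h ih => rw [pow_succ]; nlinarith

theorem in3 (x : ℕ) (h : 14 ≤ x) : 3 * (x + 2) ^ 3 ≤ 2 ^ x := by
  induction x, h using Nat.le_induction with
  | base => norm_num
  | succ n h ih => rw [pow_succ 2]; nlinarith [Nat.mul_le_mul h h, Nat.mul_le_mul_right (n * n) h]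

theorem in4 (x : ℕ) (h : 5 ≤ x) : 3 * x ^ 4 ≤ 2 ^ (x * 3) := by
  induction x, h using Nat.le_induction with
  | base => norm_num
  | succ n h ih =>
    have : (2 * (n + 1)) ^ 4 ≤ (3 * n) ^ 4 := Nat.pow_le_pow_left (by omega) 4
    rw [mul_pow, mul_pow] at this
    rw [add_mul, pow_add]; omega

theorem two_case {q k : ℕ} (hq : 1 < q) (he : 181 ≤ 2 ^ (k + 1)) :
    2 * (3 * 2 ^ (k + 1) + 1) ≤ cycVal (2 ^ (k + 1)) q := by
  have h1 := pow_sub_one_pow_le_cycVal_mul (r := 2) (m := 1) k hq Nat.prime_two (by norm_num)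
  rw [Nat.totient_one, pow_one, pow_one, mul_one] at h1
  have h2 : 2 ^ 2 ^ k ≤ q ^ 2 ^ k := Nat.pow_le_pow_left hq _
  generalize cycVal (2 ^ (k + 1)) q = C at *
  rw [pow_succ] at he ⊢
  have h3 := in1 (2 ^ k) (by omega)
  generalize 2 ^ 2 ^ k = y at *
  generalize q ^ 2 ^ k = z at *
  generalize 2 ^ k = x at *
  obtain ⟨z, rfl⟩ : ∃ w, z = w + 1 := ⟨z - 1, by omega⟩
  rw [show (z + 1) ^ 2 - 1 = z * (z + 1 + 1) from Nat.sub_eq_of_eq_add (by ring)] at h1
  have := Nat.le_of_mul_le_mul_right h1 (by omega)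
  have : 6 * x * 3 ≤ 6 * x * (x + 1) := by gcongr; omega
  omega

theorem large {q e : ℕ} (hq : 1 < q) (he : 181 ≤ e) : 3 * e + 1 ≤ cycVal e q := by
  by_cases h : ∃ r, r.Prime ∧ r ∣ e ∧ r ≠ 2
  · obtain ⟨r, hr, hd, h2⟩ := h
    obtain ⟨k, m, hm, rfl⟩ := Nat.exists_eq_pow_mul_and_not_dvd (show e ≠ 0 by omega) r hr.ne_one
    obtain _ | k := k
    · exact absurd (by simpa using hd) hm
    obtain ⟨w, h3, h4⟩ := tot_bound (show 0 < r ^ (k + 1) * m by omega)
    refine le_trans ?_ ((Nat.pow_le_pow_left hq _).trans (pow_le_cycVal k hq hr hm))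
    rw [Nat.totient_mul (Nat.Coprime.pow_left _ ((Nat.Prime.coprime_iff_not_dvd hr).2 hm)),
      Nat.totient_prime_pow_succ hr] at h3
    have h5 : r ^ k * (r - 1) * m.totient ≤ 2 * (r ^ k * (r - 2) * m.totient) := by
      have : r - 1 ≤ 2 * (r - 2) := by have := hr.two_le; omega
      calc _ ≤ r ^ k * (2 * (r - 2)) * m.totient := by gcongr
        _ = _ := by ring
    replace h3 := h3.trans (Nat.mul_le_mul_left _ h5)
    generalize r ^ k * (r - 2) * m.totient = E at *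
    generalize r ^ (k + 1) * m = e at *
    by_contra h6
    change ¬ 3 * e + 1 ≤ 2 ^ E at h6
    rcases le_total w E with h7 | h7
    · have h8 : e ≤ (E + 1) * (2 * E) := h3.trans (by gcongr)
      by_cases h9 : 10 ≤ E
      · have := in1 E h9
        have : 6 * E * (E + 1) = 3 * ((E + 1) * (2 * E)) := by ring
        omega
      · have : (E + 1) * (2 * E) ≤ (9 + 1) * (2 * 9) := by gcongr <;> omega
        omega
    · have h8 : e ≤ (w + 1) * (2 * w) := h3.trans (by gcongr)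
      by_cases h9 : 7 ≤ w
      · have := in2 w h9
        rw [mul_comm] at h8
        omega
      · have : (w + 1) * (2 * w) ≤ (6 + 1) * (2 * 6) := by gcongr <;> omega
        omega
  · push Not at h
    obtain ⟨k, rfl⟩ : ∃ k, e = 2 ^ k := ⟨_, Nat.eq_prime_pow_of_unique_prime_dvd (by omega) fun hr hd => h _ hr hd⟩
    obtain _ | k := k
    · omega
    have := two_case hq he
    omega

theorem large2 {q r k m : ℕ} (hq : 1 < q) (hr : r.Prime) (he : 181 ≤ r ^ (k + 1) * m) (hm : m ∣ r - 1) :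
    r * (3 * (r ^ (k + 1) * m) + 1) ≤ cycVal (r ^ (k + 1) * m) q := by
  have h1 := hr.two_le
  have h2 : m ≤ r - 1 := Nat.le_of_dvd (by omega) hm
  by_cases h : r = 2
  · subst h
    obtain rfl : m = 1 := Nat.dvd_one.1 hm
    rw [mul_one] at he ⊢
    exact two_case hq he
  have h0 : 0 < m := Nat.pos_of_ne_zero (by rintro rfl; omega)
  refine le_trans ?_ ((Nat.pow_le_pow_left hq _).trans (pow_le_cycVal k hq hr fun h => by
    have := Nat.le_of_dvd h0 h; omega))
  refine le_trans ?_ (Nat.pow_le_pow_right two_pos (Nat.le_mul_of_pos_right _ (Nat.totient_pos.2 h0)))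
  obtain ⟨x, rfl⟩ : ∃ x, r = x + 2 := ⟨r - 2, by omega⟩
  rw [Nat.add_sub_cancel]
  replace h2 : m ≤ x + 1 := h2
  rw [pow_succ] at he ⊢
  obtain _ | k := k
  · rw [pow_zero, one_mul] at he ⊢
    have h3 : 181 ≤ (x + 2) * (x + 1) := he.trans (by gcongr)
    have h4 : 14 ≤ x := by
      by_contra h4
      have h5 : x ≠ 12 := by rintro rfl; exact absurd hr (by norm_num)
      have h6 : x ≠ 13 := by rintro rfl; exact absurd hr (by norm_num)
      have : (x + 2) * (x + 1) ≤ (11 + 2) * (11 + 1) := by gcongr <;> omega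
      omega
    rw [one_mul]
    refine le_trans ?_ (in3 x h4)
    nlinarith [Nat.mul_le_mul_left ((x + 2) * (x + 2)) h2]
  have h3 : x + 2 ≤ (x + 2) ^ (k + 1) := Nat.le_self_pow (by omega) _
  generalize (x + 2) ^ (k + 1) = y at *
  by_cases h4 : x = 1
  · subst h4
    have h5 : y * (1 + 2) * m ≤ y * (1 + 2) * 2 := by gcongr
    have := in1 y (by omega)
    rw [mul_one]
    nlinarith
  · have h5 : x ≠ 2 := by rintro rfl; exact absurd hr (by norm_num)
    refine le_trans ?_ ((in4 y (by omega)).trans (Nat.pow_le_pow_right two_pos (Nat.mul_le_mul_left _ (by omega))))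
    calc (x + 2) * (3 * (y * (x + 2) * m) + 1) ≤ y * (3 * (y * y * m) + 1) := by gcongr
      _ ≤ y * (3 * (y * y * (m + 1))) := by gcongr; nlinarith
      _ ≤ y * (3 * (y * y * y)) := by gcongr; omega
      _ = _ := by ring


/-- Size of the primitive part of `q^e - 1`. For a prime power `q` and `e ≥ 3`, call a divisor of `q^e - 1` primitive when it is coprime to `q^i - 1` for every `1 ≤ i < e`; the primitive part is the largest primitive divisor. Apart from thirteen exceptional pairs, the primitive part is at least `3e + 1`: there is a primitive divisor `m ≥ 3e + 1` unless `(q, e)` is `(2, 6)` (where every primitive divisor is 1), one of `(2,4), (2,10), (2,12), (2,18), (3,4), (3,6), (5,6)` (where the primitive part is exactly `e + 1`), or one of `(2,3), (2,8), (2,20), (4,3), (4,6)` (where it is exactly `2e + 1`). The statement asserts the existence of a primitive divisor `m ≥ 3e + 1` outside the thirteen pairs, and that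 every primitive divisor is at most `2e + 1` for the thirteen pairs. -/
theorem result (q e : ℕ) (hq : IsPrimePow q) (he : 3 ≤ e) :
    ((q, e) ∉ [(2, 6), (2, 4), (2, 10), (2, 12), (2, 18), (3, 4), (3, 6), (5, 6), (2, 3), (2, 8), (2, 20), (4, 3), (4, 6)] →
      ∃ m : ℕ, m ∣ q ^ e - 1 ∧ (∀ i : ℕ, 1 ≤ i → i < e → Nat.Coprime m (q ^ i - 1)) ∧ 3 * e + 1 ≤ m) ∧
    ((q, e) ∈ [(2, 6), (2, 4), (2, 10), (2, 12), (2, 18), (3, 4), (3, 6), (5, 6), (2, 3), (2, 8), (2, 20), (4, 3), (4, 6)] →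
      ∀ m : ℕ, m ∣ q ^ e - 1 → (∀ i : ℕ, 1 ≤ i → i < e → Nat.Coprime m (q ^ i - 1)) → m ≤ 2 * e + 1) := by
  have hq1 : 1 < q := hq.one_lt
  refine ⟨fun h => ?_, fun h m h1 h2 => ?_⟩
  · by_cases h1 : 181 ≤ e
    · exact of_big hq1 he (large hq1 h1) fun r k m hr e hm => e ▸ large2 hq1 hr (e ▸ h1) hm
    by_cases h2 : q < 12
    · obtain ⟨h3, h4⟩ := (chk1 e (by omega) he q h2 hq1).resolve_left h
      exact ⟨pr q e, Nat.div_dvd_of_dvd (Nat.gcd_dvd_left _ _), fun i hi hie =>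
        Nat.Coprime.coprime_dvd_right (dvd_PP q hi _ (by omega)) h3, h4⟩
    have h3 : e * (3 * e + 1) ≤ cycVal e q := (chk2 e (by omega) he).trans
      ((Nat.pow_le_pow_left (show 11 ≤ q - 1 by omega) _).trans
        (Polynomial.sub_one_pow_totient_lt_natAbs_cyclotomic_eval (by omega) hq1.ne').le)
    refine of_big hq1 he (le_trans (Nat.le_mul_of_pos_left _ (by omega)) h3) fun r k m hr h4 _ =>
      le_trans (Nat.mul_le_mul_right _ (Nat.le_of_dvd (by omega) ?_)) h3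
    rw [h4]; exact (dvd_pow_self r (by omega)).mul_right _
  · obtain ⟨a, h3, h4, h5⟩ := chk3 (q, e) h
    have h6 : m.Coprime (PP q (e - 1) ^ 4) := (coprime_PP _ fun i hi hie => h2 i hi (by omega)).pow_right _
    exact (Nat.le_of_dvd h4 (h6.dvd_of_dvd_mul_right (h1.trans h5))).trans h3

end Cfsg.Agent.S4423
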