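import Cfsg.Statements.S4425
import Cfsg.Agent.Lib.Small.Subsec
import Cfsg.Agent.Lib.Block2.Frob

set_option autoImplicit false
open Cfsg

namespace Cfsg.Agent.S4425

open Cfsg.Lib.Small Cfsg.Lib.Char Cfsg.Lib.Block Cfsg.Lib.Block2

/-- Let χ be an irreducible character of the finite group G, p a prime, p^a the p-part of the order of G and p^b the p-part of the degree χ(1). Let χ̃ be the class function equal to p^a · χ on p-regular elements and zero on p-singular elements. Then p^(−b) · χ̃ is a generalized character of G, while p^(−(b+1)) · χ̃ is not. -/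
theorem result {G : Type*} [Group G] [Finite G] (p : ℕ) [Fact p.Prime] (χ : Cfsg.IrrCharacter G) : Cfsg.IsGeneralizedCharacter G (fun x : G => if p ∣ orderOf x then (0 : ℂ) else ((p ^ ((Nat.card G).factorization p - (Cfsg.charDegree (χ : G → ℂ)).factorization p) : ℕ) : ℂ) * (χ : G → ℂ) x) ∧ ¬ Cfsg.IsGeneralizedCharacter G (fun x : G => if p ∣ orderOf x then (0 : ℂ) else ((p ^ (Nat.card G).factorization p : ℕ) : ℂ) / ((p ^ ((Cfsg.charDegree (χ : G → ℂ)).factorization p + 1) : ℕ) : ℂ) * (χ : G → ℂ) x) := by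
  haveI := Fintype.ofFinite G
  have hp : p.Prime := Fact.out
  obtain ⟨M, hM⟩ := exists_isPModular hp
  haveI := hM.2.1
  have h0 : (p : ℂ) ≠ 0 := Nat.cast_ne_zero.2 hp.ne_zero
  have e : ∀ c : ℂ, (fun x : G => if p ∣ orderOf x then (0 : ℂ) else c * χ.1 x) = c • reg p χ.1 :=
    fun c => funext fun x => by by_cases h : p ∣ orderOf x <;> simp [reg, h]
  have key : ∀ (ψ : IrrCharacter G) (n : ℤ), (n : ℂ) = (p : ℂ) ^ (Nat.card G).factorization p *
      classInner (reg p ψ.1) χ.1 → (n : ℂ) = (p : ℂ) ^ (Nat.card G).factorization p *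
      classInner (reg p χ.1) ψ.1 := fun ψ n h => by
    rw [← map_intCast (starRingEnd ℂ), h, map_mul, conj_classInner_reg]; simp
  rw [e, e]
  refine ⟨((isClassFunction_reg χ.2.isClassFunction).smul _).isGeneralizedCharacter_of_classInner
    fun ψ hψ => ?_, fun h => ?_⟩
  · obtain ⟨n, h1, ⟨m, rfl⟩, -⟩ := exists_int_reg hM hψ.isCharacter χ
    refine ⟨m, mul_left_cancel₀ (pow_ne_zero ((charDegree χ.1).factorization p) h0) ?_⟩
    have := key ⟨ψ, hψ⟩ _ h1
    push_cast at this ⊢
    rw [this, classInner_smul_left, ← mul_assoc, ← pow_add,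
      Nat.add_sub_cancel' (factorization_deg_le p χ.2)]
  · obtain ⟨ψ, h1, h2⟩ := exists_height_zero p (isPBlock_blockOf (M := M) χ).nonempty
    obtain ⟨n, h3, -, h4⟩ := exists_int_reg hM ψ.2.isCharacter χ
    obtain ⟨m, hm⟩ := h.classInner_int ψ.2.isGeneralizedCharacter
    refine lam_zReg_ne_zero hM (isPBlock_blockOf χ) h1 h2 (mem_blockOf_self χ) (h4.1 ⟨m, ?_⟩)
    apply Int.cast_injective (α := ℂ)
    rw [key ψ _ h3]
    push_cast
    rw [← hm, classInner_smul_left]
    push_cast
    field_simp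

end Cfsg.Agent.S4425
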