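import Cfsg.Statements.S4430
import Cfsg.Agent.Lib.Small.Subsec

set_option autoImplicit false
open Cfsg

namespace Cfsg.Agent.S4430

open Cfsg.Lib.Small Cfsg.Lib.Char Cfsg.Lib.Block Cfsg.Lib.Block2

/-- Let H be a subgroup of the finite group G, b a block of H whose induced block B₀ in G is defined (relative to a maximal ideal M of the algebraic integers containing p), and ξ ∈ b. For a block B of G let n_B be the value at 1 of the B-part of the induced character ξ^G (a natural number: the sum over χ ∈ B of the multiplicity of χ in ξ^G times χ(1)). Then for B = B₀ the exact power of p dividing n_B equals the exact power of p dividing ξ^G(1), while for every other block B either n_B = 0 or n_B is divisible by a strictly higher power of p than ξ^G(1). -/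
theorem result {G : Type*} [Group G] [Fintype G] (p : ℕ) [Fact p.Prime] (M : Ideal Cfsg.AlgInt) (hM : Cfsg.IsPModular p M) (H : Subgroup G) [Fintype H] (b : Set (Cfsg.IrrCharacter H)) (B₀ : Set (Cfsg.IrrCharacter G)) (hind : Cfsg.IsInducedBlock M H b B₀) (ξ : Cfsg.IrrCharacter H) (hξ : ξ ∈ b) : (∃ n : ℕ, Cfsg.blockPart B₀ (Cfsg.indFun H (ξ : H → ℂ)) 1 = (n : ℂ) ∧ n ≠ 0 ∧ n.factorization p = (Cfsg.charDegree (Cfsg.indFun H (ξ : H → ℂ))).factorization p) ∧ ∀ B : Set (Cfsg.IrrCharacter G), Cfsg.IsPBlock M B → B ≠ B₀ → ∃ n : ℕ, Cfsg.blockPart B (Cfsg.indFun H (ξ : H → ℂ)) 1 = (n : ℂ) ∧ (n = 0 ∨ (Cfsg.charDegree (Cfsg.indFun H (ξ : H → ℂ))).factorization p < n.factorization p) := by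
  classical
  haveI := hM.2.1
  have hi := ξ.2.isCharacter.indFun (G := G)
  have hd : charDegree (indFun H ξ.1) ≠ 0 := fun h => by
    have := cast_deg hi
    rw [h, indFun_one, Nat.cast_zero, eq_comm, mul_eq_zero] at this
    exact this.elim (Nat.cast_ne_zero.2 Subgroup.index_ne_zero_of_finite) ξ.2.apply_one_ne_zero
  have key : ∀ B, IsPBlock M B → ∃ n : ℕ, blockPart B (indFun H ξ.1) 1 = n ∧
      (MemLocalIdeal M ((n : ℂ) / (charDegree (indFun H ξ.1) : ℕ)) ↔
        lam M ξ.1 (res H (eB M B)) = 0) ∧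
      MemLocalRing M ((n : ℂ) / (charDegree (indFun H ξ.1) : ℕ)) := fun B hB => by
    obtain ⟨a, ha, -⟩ := hi.exists_nat_coeffs
    have h1 : blockPart B (indFun H ξ.1) 1 = (∑ χ with χ ∈ B, a χ * charDegree χ.1 : ℕ) := by
      simp [blockPart_eq, ha, irr_cast_deg]
    have h2 : omega ξ.1 (res H (idem B)) = ((∑ χ with χ ∈ B, a χ * charDegree χ.1 : ℕ) : ℂ) /
        (charDegree (indFun H ξ.1) : ℕ) := by
      rw [← omega_indFun _ (isCen_idem B), omega_apply, cast_deg hi, ← h1, charExt_idem, blockPart_eq,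
        Cfsg.Lib.Block2.finsum_mem_irr]
      simp
    have h3 := ξ.2.memLocalRing_omega ((isCen_idem B).res H) (hB.isInt_idem.res H)
    refine ⟨_, h1, ?_, h2 ▸ h3⟩
    rw [← h2, ← red_eq_zero_iff h3, ← ξ.2.lam_redA ((isCen_idem B).res H) (hB.isInt_idem.res H),
      redA_res]
    rfl
  refine ⟨?_, fun B hB hne => ?_⟩
  · obtain ⟨n, h1, h2, h3⟩ := key B₀ hind.2.1
    rw [hind.lam_res_eB hξ, iff_false_intro one_ne_zero, iff_false] at h2
    have hn : n ≠ 0 := fun e => h2 (by simpa [e] using memLocalIdeal_zero)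
    rw [memLocalIdeal_natDiv_iff hM hn hd] at h2
    rw [memLocalRing_natDiv_iff hM hn hd] at h3
    exact ⟨n, h1, hn, by omega⟩
  · obtain ⟨n, h1, h2, -⟩ := key B hB
    have := h2.2 (not_not.1 fun h => hne (hind.eq_of_lam_res_eB hB hξ h).symm)
    exact ⟨n, h1, or_iff_not_imp_left.2 fun hn => (memLocalIdeal_natDiv_iff hM hn hd).1 this⟩

end Cfsg.Agent.S4430
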