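import Cfsg.Statements.S4431
import Cfsg.Agent.Lib.Small.Subsec

set_option autoImplicit false
open Cfsg

namespace Cfsg.Agent.S4431

open Cfsg.Lib.Small Cfsg.Lib.Char Cfsg.Lib.Block Cfsg.Lib.Block2

/-- Let H be a subgroup of the finite group G and b a block of H whose induced block B₀ in G is defined (relative to a maximal ideal M of the algebraic integers containing p). Let χ be an irreducible character of G, ψ ∈ b, and let η be the class function on H equal to p^a · χ on the p-regular elements of H and zero elsewhere, p^a being the p-part of the order of H. Then (a) if χ ∉ B₀, the number [η, ψ]/ψ(1) lies in the local ideal at M; (b) if χ ∈ B₀ has height zero, it does not. -/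
theorem result {G : Type*} [Group G] [Fintype G] (p : ℕ) [Fact p.Prime] (M : Ideal Cfsg.AlgInt) (hM : Cfsg.IsPModular p M) (H : Subgroup G) [Fintype H] (b : Set (Cfsg.IrrCharacter H)) (B₀ : Set (Cfsg.IrrCharacter G)) (hind : Cfsg.IsInducedBlock M H b B₀) (χ : Cfsg.IrrCharacter G) (ψ : Cfsg.IrrCharacter H) (hψ : ψ ∈ b) : (χ ∉ B₀ → Cfsg.MemLocalIdeal M (Cfsg.classInner (fun h : H => if p ∣ orderOf h then (0 : ℂ) else ((p ^ (Nat.card H).factorization p : ℕ) : ℂ) * (χ : G → ℂ) h) (ψ : H → ℂ) / (ψ : H → ℂ) 1)) ∧ (χ ∈ B₀ → Cfsg.blockHeight p B₀ (χ : G → ℂ) = 0 → ¬ Cfsg.MemLocalIdeal M (Cfsg.classInner (fun h : H => if p ∣ orderOf h then (0 : ℂ) else ((p ^ (Nat.card H).factorization p : ℕ) : ℂ) * (χ : G → ℂ) h) (ψ : H → ℂ) / (ψ : H → ℂ) 1)) := by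
  haveI := hM.2.1
  have hp : p.Prime := Fact.out
  have e : ∀ c : ℂ, (fun x : H => if p ∣ orderOf x then (0 : ℂ) else c * χ.1 x) =
      c • reg p fun x : H => χ.1 x :=
    fun c => funext fun x => by by_cases h : p ∣ orderOf x <;> simp [reg, h]
  obtain ⟨χ₀, h₀⟩ := hind.2.1.nonempty
  have h1 := lam_zReg_ne_zero_iff (χ := χ) hM hind.2.1 h₀
  have hr := χ.2.isCharacter.restrict H
  have hw := ψ.2.memLocalRing_omega (M := M) (isCen_zReg (p := p) hr.isClassFunction) hr.isInt_zReg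
  rw [← hind.lam_zReg hψ h₀ χ.2.isClassFunction, ψ.2.lam_zReg hr, Ne, red_eq_zero_iff hw] at h1
  obtain ⟨g', hg, hg'⟩ : ∃ g', Nat.card H = p ^ (Nat.card H).factorization p * g' ∧ ¬ p ∣ g' :=
    ⟨_, (Nat.ordProj_mul_ordCompl_eq_self _ p).symm, Nat.not_dvd_ordCompl hp Nat.card_pos.ne'⟩
  have hg0 : (g' : ℂ) ≠ 0 := Nat.cast_ne_zero.2 fun h => hg' (h ▸ dvd_zero p)
  have h2 : omega ψ.1 (zReg p fun x : H => χ.1 x) = g' * (classInner
      (((p ^ (Nat.card H).factorization p : ℕ) : ℂ) • reg p fun x : H => χ.1 x) ψ.1 / ψ.1 1) := by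
    rw [omega_apply, charExt_zReg_eq_classInner _ ψ.2.isGeneralizedCharacter, classInner_smul_left]
    nth_rewrite 1 [hg]
    push_cast
    ring
  rw [e]
  refine ⟨fun h => ?_, fun h h' hm => h1.2 ⟨h, h'⟩ (h2 ▸ hm.mul_left (memLocalRing_natCast _))⟩
  have := (not_not.1 fun hm => h (h1.1 hm).1).mul_left (memLocalRing_inv_natCast hM hg')
  rwa [h2, inv_mul_cancel_left₀ hg0] at this

end Cfsg.Agent.S4431
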