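import Cfsg.Statements.S4432
import Cfsg.Agent.Lib.Block2.Cover

set_option autoImplicit false
open Cfsg

namespace Cfsg.Agent.S4432

/-- Let N be a normal subgroup of the finite group G, b a block of N and B a block of G (relative to a maximal ideal M of the algebraic integers containing p) such that B covers b: some member of B has a constituent in b on restriction to N. Then every θ ∈ b is a constituent of the restriction of some χ ∈ B. -/
theorem result {G : Type*} [Group G] [Fintype G] (p : ℕ) [Fact p.Prime] (M : Ideal Cfsg.AlgInt) (hM : Cfsg.IsPModular p M) (N : Subgroup G) [hN : N.Normal] [Fintype N] (B : Set (Cfsg.IrrCharacter G)) (hB : Cfsg.IsPBlock M B) (b : Set (Cfsg.IrrCharacter N)) (hb : Cfsg.IsPBlock M b) (hcov : (∃ χ ∈ B, ∃ θ ∈ b, Cfsg.classInner (fun n : N => (χ : G → ℂ) n) (θ : N → ℂ) ≠ 0)) (θ : Cfsg.IrrCharacter N) (hθ : θ ∈ b) : ∃ χ ∈ B, Cfsg.classInner (fun n : N => (χ : G → ℂ) n) (θ : N → ℂ) ≠ 0 := by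
  open Cfsg.Lib.Block Cfsg.Lib.Block2 Cfsg.Lib.Char Cfsg.Lib.Amalg in
  have := hM.2.1
  classical
  have h0 := (covers_iff hB.isBlockUnion hb.isBlockUnion).1 hcov
  obtain ⟨c, hc, -, h1⟩ := (blk_top_eB hB).exists_lamE_mul_cover (blk_EB hb) le_top
    Subgroup.le_normalizer_of_normal h0
  by_contra hn
  have h2 : idem B * IB {θ} = 0 := by
    by_contra h
    obtain ⟨χ, hχ, θ', e, h⟩ := (idem_mul_push_ne_zero_iff N.subtype B {θ}).1 h
    rw [Set.mem_singleton_iff.1 e] at h
    exact hn ⟨χ, hχ, (over_iff (f := N.subtype)).1 h⟩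
  apply h1
  have hw : IsFixed N (secA M c * idem B) := hc.secA.mul ((isCen_idem B).isFixed N)
  have hi : IsInt M (secA M c * idem B) := (isInt_secA c).mul hB.isInt_idem
  have e : c * eB M B = redA M (secA M c * idem B) := by
    rw [redA_mul (isInt_secA c) hB.isInt_idem, redA_secA]; rfl
  rw [lamE_EB hb hθ, e, ← redA_res, θ.2.lam_redA hw.res (hi.res N)]
  have e2 : res N (secA M c * idem B) * idem {θ} = 0 := by
    rw [← res_mul_incl, mul_assoc]
    change res N (secA M c * (idem B * IB {θ})) = 0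
    rw [h2, mul_zero, map_zero]
  rw [hw.res.mul_idem_singleton] at e2
  rcases smul_eq_zero.1 e2 with h | h
  · rw [h, red_zero]
  · have := omega_idem_of_mem (B := {θ}) (ψ := θ) rfl
    rw [h, map_zero] at this
    exact absurd this zero_ne_one

end Cfsg.Agent.S4432
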