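import Cfsg.Statements.S4437
import Cfsg.Agent.Lib.Block2.PairsB

set_option autoImplicit false
open Cfsg

namespace Cfsg.Agent.S4437

/-- Let P be a p-subgroup of the finite group G, H = P·C_G(P), and b a block of H (relative to a maximal ideal M of the algebraic integers containing p) having P as a defect group; let B be the block of G induced by b. Let T be the stabilizer of b in N_G(P): the elements g of N_G(P) such that the g-conjugate of every member of b is again a member of b. Then B has defect group P if and only if p does not divide the index of H in T. -/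
theorem result {G : Type*} [Group G] [Fintype G] (p : ℕ) [Fact p.Prime] (M : Ideal Cfsg.AlgInt) (hM : Cfsg.IsPModular p M) (P : Subgroup G) (hP : IsPGroup p P) (H : Subgroup G) [Fintype H] (hH : H = P ⊔ Subgroup.centralizer (P : Set G)) (b : Set (Cfsg.IrrCharacter H)) (hb : Cfsg.IsPBlock M b) (hbP : Cfsg.IsDefectGroup p M b (P.subgroupOf H)) (B : Set (Cfsg.IrrCharacter G)) (hind : Cfsg.IsInducedBlock M H b B) (T : Subgroup G) (hT : ∀ g : G, g ∈ T ↔ (g ∈ Subgroup.normalizer (P : Set G) ∧ ∀ θ ∈ b, ∀ θ' : Cfsg.IrrCharacter H, (∀ h h' : H, (h' : G) = g * h * g⁻¹ → (θ' : H → ℂ) h' = (θ : H → ℂ) h) → θ' ∈ b)) : Cfsg.IsDefectGroup p M B P ↔ ¬ p ∣ H.relIndex T := by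
  open Cfsg.Lib.Block Cfsg.Lib.Block2 Cfsg.Lib.Char Cfsg.Lib.Amalg in
  have := hM.2.1
  have hH' : H = P ⊔ ⊤ ⊓ Subgroup.centralizer (P : Set G) := by rw [top_inf_eq, hH]
  have h := bpo_of_ind_sup hM hP le_top (by rw [← hH']; exact hind.ind)
  have h1 := (isDefectGroup_subgroupOf_iff hM hb (hH ▸ le_sup_left)).1 hbP
  have hT' : T = stabP ⊤ P (EB M b) := Subgroup.ext fun g => by
    rw [hT, mem_stabP, and_iff_right (Subgroup.mem_top g)]
    refine and_congr_right fun hg => stab_iff_EB ?_ hb.isBlockUnion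
    rw [hH, cj_sup, cj_centralizer, cj_of_mem_normalizer hg]
  rw [isDefectGroup_iff_defG_top hM hind.2.1, h.defG_iff hM, ← hH', ← hT', and_iff_right h1]

end Cfsg.Agent.S4437
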