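import Cfsg.Statements.S4440
import Cfsg.Agent.Lib.Block2.Har

set_option autoImplicit false
open Cfsg

namespace Cfsg.Agent.S4440

/-- Let G be a finite p-solvable group and fix a maximal ideal M of the algebraic integers containing p. Let U be a set of irreducible characters of G such that the class function Σ_{χ ∈ U} χ(1)·χ vanishes at every p-singular element of G. Then U is a union of p-blocks: if χ ∈ U and ψ lies in the same block as χ, then ψ ∈ U. -/
theorem result {G : Type*} [Group G] [Finite G] (p : ℕ) [Fact p.Prime] (M : Ideal Cfsg.AlgInt) (hM : Cfsg.IsPModular p M) (hsolv : Cfsg.IsPSolvable p G) (U : Set (Cfsg.IrrCharacter G)) (hU : ∀ x : G, p ∣ orderOf x → ∑ᶠ χ ∈ U, (χ : G → ℂ) 1 * (χ : G → ℂ) x = 0) (χ : Cfsg.IrrCharacter G) (hχ : χ ∈ U) (ψ : Cfsg.IrrCharacter G) (hψ : Cfsg.SameBlock M (χ : G → ℂ) (ψ : G → ℂ)) : ψ ∈ U := by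
  open Cfsg.Lib Cfsg.Lib.Block Cfsg.Lib.Block2 Cfsg.Lib.Char Cfsg.Lib.Amalg in
  have := hM.2.1
  refine isBlockUnion_of_isInt_idem (har_of_pSolvable hM _ G ⊥ hsolv (by simpa using hM.1.ne_one) rfl U
    fun g hg => ?_) χ hχ ψ hψ
  have h := congrArg (starRingEnd ℂ) (hU g hg)
  rw [finsum_mem_eq_finite_toFinset_sum _ (Set.toFinite _), map_sum, map_zero] at h
  rw [blockCoeff, finsum_mem_eq_finite_toFinset_sum _ (Set.toFinite _), ← mul_zero _, ← h]
  refine congrArg _ (Finset.sum_congr rfl fun ξ _ => ?_)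
  rw [map_mul, ← cast_deg ξ.2.isCharacter, map_natCast]

end Cfsg.Agent.S4440
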