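import Cfsg.Statements.S4442
import Cfsg.Agent.Lib.Small.DefOne

set_option autoImplicit false
open Cfsg

namespace Cfsg.Agent.S4442

open Cfsg.Lib.Small Cfsg.Lib.Char Cfsg.Lib.Block

/-- Blocks of defect one. Let p be an odd prime and G a finite group whose Sylow p-subgroup P has order p; let C = C_G(P) and N = N_G(P), and fix a maximal ideal M of the algebraic integers containing p. Let B be a block of G with defect group P, b a block of C inducing B, and θ the member of b having P in its kernel (there is exactly one). Let T be the stabilizer of θ in N (the elements g ∈ N with θ(g c g⁻¹) = θ(c) for all c ∈ C) and e the index of C in T. Then e divides p − 1 and B contains exactly e + (p − 1)/e irreducible characters. Moreover B is the disjoint union of a set X of e characters and a set Y of (p − 1)/e characters such that, with f the index of C in N: every χ ∈ X has χ(1) ≡ ±(f/e)·θ(1) (mod p), there is one sign ε with ψ(1) ≡ ε f θ(1) (mod p) for all ψ ∈ Y, and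 all members of Y agree on the p-regular elements of G. -/
theorem result {G : Type*} [Group G] [Finite G] (p : ℕ) [Fact p.Prime] (M : Ideal Cfsg.AlgInt) (hM : Cfsg.IsPModular p M) (hodd : p ≠ 2) (P : Sylow p G) (hP : Nat.card P = p) (B : Set (Cfsg.IrrCharacter G)) (hB : Cfsg.IsPBlock M B) (hBP : Cfsg.IsDefectGroup p M B P) (b : Set (Cfsg.IrrCharacter (Subgroup.centralizer ((P : Subgroup G) : Set G)))) (hind : Cfsg.IsInducedBlock M (Subgroup.centralizer ((P : Subgroup G) : Set G)) b B) (θ : Cfsg.IrrCharacter (Subgroup.centralizer ((P : Subgroup G) : Set G))) (hθ : θ ∈ b) (hθP : ∀ x : Subgroup.centralizer ((P : Subgroup G) : Set G), (x : G) ∈ (P : Subgroup G) → (θ : Subgroup.centralizer ((P : Subgroup G) : Set G) → ℂ) x = (θ : Subgroup.centralizer ((P : Subgroup G) : Set G) → ℂ) 1) (T : Subgroup G) (hT : ∀ g : G, g ∈ T ↔ (g ∈ Subgroup.normalizer ((P : Subgroup G) : Set G) ∧ ∀ c c' : Subgroup.centralizer ((P : Subgroup G) : Set G), (c' : G) = g * c * g⁻¹ → (θ :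 Subgroup.centralizer ((P : Subgroup G) : Set G) → ℂ) c' = (θ : Subgroup.centralizer ((P : Subgroup G) : Set G) → ℂ) c)) (e f : ℕ) (he : (Subgroup.centralizer ((P : Subgroup G) : Set G)).relIndex T = e) (hf : (Subgroup.centralizer ((P : Subgroup G) : Set G)).relIndex (Subgroup.normalizer ((P : Subgroup G) : Set G)) = f) : e ∣ p - 1 ∧ Nat.card B = e + (p - 1) / e ∧ ∃ X Y : Set (Cfsg.IrrCharacter G), B = X ∪ Y ∧ Disjoint X Y ∧ Nat.card X = e ∧ Nat.card Y = (p - 1) / e ∧ (∀ χ ∈ X, (Cfsg.charDegree (χ : G → ℂ) : ℤ) ≡ ((f / e * Cfsg.charDegree (θ : Subgroup.centralizer ((P : Subgroup G) : Set G) → ℂ) : ℕ) : ℤ) [ZMOD p] ∨ (Cfsg.charDegree (χ : G → ℂ) : ℤ) ≡ -((f / e * Cfsg.charDegree (θ : Subgroup.centralizer ((P : Subgroup G) : Set G) → ℂ) : ℕ) : ℤ) [ZMOD p]) ∧ (∃ ε : ℤ, (ε = 1 ∨ ε = -1) ∧ ∀ ψ ∈ Y, (Cfsg.charDegree (ψ : G → ℂ) : ℤ) ≡ ε * ((f * Cfsg.charDegree (θ : Subgroup.centralizer ((P : Subgroup G) : Set G) → ℂ) : ℕ) : ℤ) [ZMOD p]) ∧ ∀ ψ ∈ Y, ∀ ψ' ∈ Y, ∀ g : G,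 ¬ p ∣ orderOf g → (ψ : G → ℂ) g = (ψ' : G → ℂ) g := by
  classical
  haveI := Fintype.ofFinite G
  haveI := hM.2.1
  obtain ⟨D⟩ := exists_dOne hP P.not_dvd_index
  rw [hind.1.eq_blockOf hθ] at hind
  obtain ⟨X, Y, κ, c, H⟩ := D.exists_tree hM (θ := θ) hθP hind
  have h1 : Nat.card D.a.range = f := D.card_range_a.trans hf
  have hTN : T ≤ Subgroup.normalizer ((P : Subgroup G) : Set G) := fun g hg => ((hT g).1 hg).1
  have hS : MulAction.stabilizer (Subgroup.normalizer ((P : Subgroup G) : Set G)) θ =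
      T.subgroupOf _ := by
    ext n
    rw [← inv_mem_iff, MulAction.mem_stabilizer_iff, Subgroup.mem_subgroupOf, hT]
    refine ⟨fun h => ⟨n.2, fun c c' e => ?_⟩, fun h => Subtype.ext (funext fun c => ?_)⟩
    · conv_rhs => rw [← h, cjAct_apply, inv_inv]
      exact congrArg _ (Subtype.ext e)
    · rw [cjAct_apply, inv_inv]
      exact h.2 _ _ rfl
  have hCT : Subgroup.centralizer ((P : Subgroup G) : Set G) ≤ T := fun g hg => by
    have := D.ker_le_stab θ ((D.a_eq_one_iff ⟨g, Subgroup.centralizer_le_normalizer _ hg⟩).2 hg)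
    rwa [hS] at this
  have h2 : Nat.card (D.E θ) = e := by
    have := D.card_map_a (D.ker_le_stab θ)
    rw [← DOne.E, hS, Nat.card_congr (Subgroup.subgroupOfEquivOfLe hTN).toEquiv,
      ← (Subgroup.subgroupOf (Subgroup.centralizer ((P : Subgroup G) : Set G)) T).card_mul_index,
      Nat.card_congr (Subgroup.subgroupOfEquivOfLe hCT).toEquiv] at this
    exact (Nat.eq_of_mul_eq_mul_left Nat.card_pos this).symm.trans he
  have he0 : (e : ZMod p) ≠ 0 := by
    rw [Ne, ZMod.natCast_eq_zero_iff, ← h2]; exact DOne.not_dvd_card_units _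
  have hY : Y.card = (p - 1) / e := by
    rw [← H.card_Y, h2, Nat.mul_div_cancel _ (h2 ▸ Nat.card_pos)]
  have hBe : B = (X : Set _) ∪ Y := Set.ext H.mem
  refine ⟨⟨Y.card, by rw [← H.card_Y, h2, mul_comm]⟩, ?_, X, Y, hBe, Finset.disjoint_coe.2 H.disj,
    by rw [← h2, ← H.card_X]; simp, by simp [hY], fun χ hχ => ?_,
    ⟨κ, H.sign, fun ψ hψ => by simpa only [h1, Nat.cast_mul, mul_comm] using H.deg_Y ψ hψ⟩, H.regular⟩
  · rw [hBe, ← Finset.coe_union, ← hY, ← h2, ← H.card_X, ← Finset.card_union_of_disjoint H.disj]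
    simp
  · have := H.deg_X χ hχ
    obtain ⟨k, hk⟩ := D.card_E_dvd θ
    rw [h1, h2] at hk
    rw [h1, h2, ← ZMod.intCast_eq_intCast_iff] at this
    rw [← ZMod.intCast_eq_intCast_iff, ← ZMod.intCast_eq_intCast_iff, hk,
      Nat.mul_div_cancel_left _ (h2 ▸ Nat.card_pos)]
    rw [hk] at this
    rcases H.sign_c χ hχ with a | a
    · right
      apply mul_left_cancel₀ he0
      rw [a] at this
      push_cast at this ⊢
      rw [this]; ring
    · left
      apply mul_left_cancel₀ he0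
      rw [a] at this
      push_cast at this ⊢
      rw [this]; ring

end Cfsg.Agent.S4442
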