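import Cfsg.Statements.S4443
import Cfsg.Agent.Lib.Block2.Num

set_option autoImplicit false
open Cfsg

namespace Cfsg.Agent.S4443

/-- Let D be a normal p-subgroup of the finite group G, of order p^d, let p^a be the p-part of the order of G, and fix a Sylow p-subgroup S and a maximal ideal M of the algebraic integers containing p. Index by a finite type ι (via an injective map K) exactly the conjugacy classes of p-regular elements x of G for which D is a Sylow p-subgroup of C_G(x). For classes K_i, K_j let ω(i, j) be the number of pairs (y, z) ∈ K_i × K_j with z y⁻¹ ∈ S; this number is divisible by p^(a−d). Then the number of p-blocks of G having D as a defect group equals the rank over ℤ/pℤ of the matrix with (i, j) entry ω(i, j)/p^(a−d) reduced modulo p. -/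
theorem result {G : Type*} [Group G] [Finite G] (p : ℕ) [Fact p.Prime] (M : Ideal Cfsg.AlgInt) (hM : Cfsg.IsPModular p M) (D : Subgroup G) [D.Normal] (hD : IsPGroup p D) (S : Sylow p G) {ι : Type*} [Fintype ι] [DecidableEq ι] (K : ι → ConjClasses G) (hKinj : Function.Injective K) (hK : ∀ C : ConjClasses G, (∃ i, K i = C) ↔ ∃ x ∈ C.carrier, ¬ p ∣ orderOf x ∧ ∃ Q : Sylow p (Subgroup.centralizer ({x} : Set G)), (Q : Subgroup (Subgroup.centralizer ({x} : Set G))).map (Subgroup.centralizer ({x} : Set G)).subtype = D) : Nat.card {B : Set (Cfsg.IrrCharacter G) // Cfsg.IsPBlock M B ∧ Cfsg.IsDefectGroup p M B D} = (Matrix.of fun i j : ι => ((Nat.card {yz : G × G // yz.1 ∈ (K i).carrier ∧ yz.2 ∈ (K j).carrier ∧ yz.2 * yz.1⁻¹ ∈ (S : Subgroup G)} / p ^ ((Nat.card G).factorization p - (Nat.card D).factorization p) : ℕ) : ZMod p)).rank := by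
  open Cfsg.Lib Cfsg.Lib.Block Cfsg.Lib.Block2 Cfsg.Lib.Char Cfsg.Lib.Amalg in
  have := hM.2.1
  classical
  haveI := charP_resField hM
  haveI := Fintype.ofFinite (ConjClasses G)
  have hK' : ∀ i, ¬ p ∣ orderOf (rep (K i)) ∧ Syl p D (Subgroup.centralizer {rep (K i)}) := by
    intro i
    obtain ⟨x, hx, h1, h2⟩ := (hK (K i)).1 ⟨i, rfl⟩
    obtain ⟨c, hc⟩ := isConj_iff.1
      ((isConj_rep_iff _ x).2 (ConjClasses.mem_carrier_iff_mk_eq.1 hx).symm).symm
    have h3 := (syl_iff_exists_sylow.2 h2).conj c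
    rw [cj_normal, cj_centralizer_singleton, hc] at h3
    exact ⟨hc ▸ (not_dvd_orderOf_conj_iff c x).2 h1, h3⟩
  choose u hu0 hu using fun i => cast_card_pairs_div hM (syl_top S) (hK' i).1
  let E : Matrix ι {B // IsPBlock M B ∧ IsDefectGroup p M B D} (resField M) :=
    Matrix.of fun i B => (eB M B.1).coeff (rep (K i))
  let L : Matrix {B // IsPBlock M B ∧ IsDefectGroup p M B D} ι (resField M) :=
    Matrix.of fun B j => lamB M B.1 (classSum (resField M) (rep (K j)))
  have hLE : L * E = 1 := by
    ext B B'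
    rw [Matrix.mul_apply, Matrix.one_apply]
    simp only [Subtype.ext_iff]
    rw [← lamB_eB B.2.1 B'.2.1, linearMap_eq_sum_classSum _ (isCen_eB _)]
    refine Finset.sum_of_injOn K hKinj.injOn (by simp) (fun C _ hC => ?_) fun _ _ => rfl
    by_contra h
    have h1 := right_ne_zero_of_mul h
    refine hC ((hK C).2 ⟨rep C, ConjClasses.mem_carrier_iff_mk_eq.2 (mk_rep C),
      not_dvd_orderOf_of_coeff hM B'.2.1.isBlockUnion h1, syl_iff_exists_sylow.1 ?_⟩ |>.imp
        fun i hi => ⟨by simp, hi⟩)
    have h2 := ((isDefectGroup_iff_defG_top hM B'.2.1).1 B'.2.2).syl_of_coeff hM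
      (blk_top_eB B'.2.1) Subgroup.le_normalizer_of_normal h1
    rwa [top_inf_eq] at h2
  rw [← rank_map_field (ZMod.castHom (dvd_refl p) (resField M)), Nat.card_eq_fintype_card,
    ← rank_mul_eq_card E L hLE, ← Matrix.rank_mul_eq_right_of_det_ne_zero (Matrix.diagonal u) _
      (by rw [Matrix.det_diagonal]; exact Finset.prod_ne_zero_iff.2 fun i _ => hu0 i)]
  congr 1
  ext i j
  have h1 : (Nat.card D).factorization p =
      (Nat.card (Subgroup.centralizer ({rep (K i)} : Set G))).factorization p := by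
    rw [(hK' i).2.card_eq_pow, hM.1.factorization_pow, Finsupp.single_eq_same]
  rw [Matrix.diagonal_mul, Matrix.map_apply, Matrix.of_apply, map_natCast, h1]
  simp only [ConjClasses.mem_carrier_iff_mk_eq, eq_comm (b := K _), ← isConj_rep_iff]
  rw [hu, Matrix.mul_apply]
  congr 1
  rw [← sum_subtype_of_ne_zero (fun B : {B // IsPBlock M B} => IsDefectGroup p M B.1 D) _
    fun B h => isDefectGroup_of_lam_of_brauer hM B.2 (right_ne_zero_of_mul h) (hK' j).2
      (brauer_ne_zero_iff.2 ⟨_, (hK' i).2.le, left_ne_zero_of_mul h⟩)]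
  exact (Fintype.sum_equiv (Equiv.subtypeSubtypeEquivSubtypeInter _ fun B => IsDefectGroup p M B D)
    _ _ fun _ => rfl).symm

end Cfsg.Agent.S4443
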