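import Cfsg.Statements.S4444
import Cfsg.Agent.Lib.Coprime.Glaub2

set_option autoImplicit false
open Cfsg

namespace Cfsg.Agent.S4444

open Cfsg.Lib.Clifford Cfsg.Lib.Coprime

theorem key {Γ : Type*} [Group Γ] [Finite Γ] {G C : Subgroup Γ} [Fintype C] (hCG : C ≤ G)
    {φ β : Γ → ℂ} {m : ℕ} (h : Cfsg.classInner (fun c : C => res G φ ⟨c, hCG c.2⟩) (res C β) = m) :
    mult C φ β = m := mult_of_eq ((dot_eq_classInner C φ β).trans h)

theorem key' {Γ : Type*} [Group Γ] [Finite Γ] {G C : Subgroup Γ} [Fintype C] (hCG : C ≤ G)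
    {φ β : Γ → ℂ} (hφ : φ ∈ Irr G) (hβ : β ∈ Irr C) :
    Cfsg.classInner (fun c : C => res G φ ⟨c, hCG c.2⟩) (res C β) = mult C φ β :=
  (dot_eq_classInner C φ β).symm.trans
    (((irrOn_of_mem hφ).charOn.mono hCG).dot_eq_mult (irrOn_of_mem hβ).charOn)


/-- The Glauberman correspondence for a p-group of operators. Inside a finite group Γ let S normalise G with the orders of G and S coprime, S a p-group, and let C = G ⊓ C(S) be the fixed points. Call an irreducible character χ of G S-invariant when χ(s g s⁻¹) = χ(g) for s ∈ S, g ∈ G. Then: (i) for every S-invariant χ there is exactly one irreducible character β of C whose multiplicity [χ_C, β] in the restriction of χ is not divisible by p; (ii) that multiplicity is ≡ 1 or ≡ −1 (mod p); (iii) distinct S-invariant χ give distinct β; (iv) every irreducible character of C arises in this way. So χ ↦ β is a bijection from the S-invariant irreducible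 characters of G onto the irreducible characters of C. -/
theorem result {Γ : Type*} [Group Γ] [Fintype Γ] (G S : Subgroup Γ) [Fintype G] (hnorm : ∀ s ∈ S, ∀ g ∈ G, s * g * s⁻¹ ∈ G) (hcop : (Nat.card G).Coprime (Nat.card S)) (p : ℕ) (hp : p.Prime) (hS : IsPGroup p S) (C : Subgroup Γ) [Fintype C] (hC : C = G ⊓ Subgroup.centralizer (S : Set Γ)) (hCG : C ≤ G) : (∀ χ : Cfsg.IrrCharacter G, (∀ s ∈ S, ∀ g g' : G, (g' : Γ) = s * g * s⁻¹ → (χ : G → ℂ) g' = (χ : G → ℂ) g) → ∃! β : Cfsg.IrrCharacter C, ∃ m : ℕ, Cfsg.classInner (fun c : C => (χ : G → ℂ) ⟨c, hCG c.2⟩) (β : C → ℂ) = (m : ℂ) ∧ ¬ p ∣ m) ∧ (∀ χ : Cfsg.IrrCharacter G, (∀ s ∈ S, ∀ g g' : G, (g' : Γ) = s * g * s⁻¹ → (χ : G → ℂ) g' = (χ : G → ℂ) g) → ∀ β : Cfsg.IrrCharacter C, ∀ m : ℕ, Cfsg.classInner (fun c : C => (χ : G → ℂ) ⟨c, hCG c.2⟩) (β : C → ℂ) = (m : ℂ) → ¬ p ∣ m → ((m : ℤ) ≡ 1 [ZMOD p] ∨ (m : ℤ) ≡ -1 [ZMOD p])) ∧ (∀ χ χ' : Cfsg.IrrCharacter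 G, (∀ s ∈ S, ∀ g g' : G, (g' : Γ) = s * g * s⁻¹ → (χ : G → ℂ) g' = (χ : G → ℂ) g) → (∀ s ∈ S, ∀ g g' : G, (g' : Γ) = s * g * s⁻¹ → (χ' : G → ℂ) g' = (χ' : G → ℂ) g) → ∀ β : Cfsg.IrrCharacter C, ∀ m m' : ℕ, Cfsg.classInner (fun c : C => (χ : G → ℂ) ⟨c, hCG c.2⟩) (β : C → ℂ) = (m : ℂ) → ¬ p ∣ m → Cfsg.classInner (fun c : C => (χ' : G → ℂ) ⟨c, hCG c.2⟩) (β : C → ℂ) = (m' : ℂ) → ¬ p ∣ m' → χ = χ') ∧ (∀ β : Cfsg.IrrCharacter C, ∃ χ : Cfsg.IrrCharacter G, (∀ s ∈ S, ∀ g g' : G, (g' : Γ) = s * g * s⁻¹ → (χ : G → ℂ) g' = (χ : G → ℂ) g) ∧ ∃ m : ℕ, Cfsg.classInner (fun c : C => (χ : G → ℂ) ⟨c, hCG c.2⟩) (β : C → ℂ) = (m : ℂ) ∧ ¬ p ∣ m) := by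
  have := Fact.mk hp
  have g : Glaub p G S C := by
    by_cases hS1 : S = ⊥
    · subst hS1
      rw [hC, inf_eq_left.2 (Subgroup.le_centralizer_iff.1 bot_le)]
      exact glaub_refl bot_le
    · exact hC ▸ glaub_pgroup hS hnorm fun hd => hp.one_lt.ne' (Nat.eq_one_of_dvd_coprimes hcop hd
        (Cfsg.Lib.Amalg.dvd_card_of_isPGroup_ne_bot hS hS1))
  refine ⟨fun χ => ?_, fun χ => ?_, fun χ χ' => ?_, fun β => ?_⟩
  · induction χ using irrCharacter_ind with | h φ hφ =>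
    intro hi
    have hi := (invOn_iff_subtype hnorm).1 hi
    obtain ⟨β, hβ, h1⟩ := g.exists (irrOn_of_mem hφ) hi
    refine ⟨⟨res C β, irrOn_of_mem hβ⟩, ⟨_, key' hCG hφ hβ, h1⟩, fun γ => ?_⟩
    induction γ using irrCharacter_ind with | h γ hγ =>
    rintro ⟨m, h2, h3⟩
    obtain rfl := g.unique (irrOn_of_mem hφ) hi hβ hγ h1 (key hCG h2 ▸ h3)
    rfl
  · induction χ using irrCharacter_ind with | h φ hφ =>
    intro hi β
    have hi := (invOn_iff_subtype hnorm).1 hi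
    induction β using irrCharacter_ind with | h β hβ =>
    intro m h1 h2
    have := g.sign (irrOn_of_mem hφ) hi hβ (key hCG h1 ▸ h2)
    rw [key hCG h1] at this
    simpa [← ZMod.intCast_eq_intCast_iff] using this
  · induction χ using irrCharacter_ind with | h φ hφ =>
    induction χ' using irrCharacter_ind with | h φ' hφ' =>
    intro hi hi' β
    induction β using irrCharacter_ind with | h β hβ =>
    intro m m' h1 h2 h3 h4
    obtain rfl := g.inj φ hφ φ' hφ' ((invOn_iff_subtype hnorm).1 hi)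
      ((invOn_iff_subtype hnorm).1 hi') β hβ (key hCG h1 ▸ h2) (key hCG h3 ▸ h4)
    rfl
  · induction β using irrCharacter_ind with | h β hβ =>
    obtain ⟨φ, hφ, h1, h2⟩ := g.surj β hβ
    exact ⟨⟨res G φ, irrOn_of_mem hφ⟩, (invOn_iff_subtype hnorm).2 h1, _, key' hCG hφ hβ, h2⟩

end Cfsg.Agent.S4444
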