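import Cfsg.Statements.S4445
import Cfsg.Agent.Lib.Coprime.Glaub2

set_option autoImplicit false
open Cfsg

namespace Cfsg.Agent.S4445

open Cfsg.Lib.Clifford Cfsg.Lib.Coprime


/-- Inside a finite group Γ let the solvable subgroup S normalise G with the orders of G and S coprime. Then the number of S-invariant irreducible characters of G (χ(s g s⁻¹) = χ(g) for all s ∈ S, g ∈ G) equals the number of conjugacy classes of G mapped to themselves by conjugation by every element of S. -/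
theorem result {Γ : Type*} [Group Γ] [Fintype Γ] (G S : Subgroup Γ) [Fintype G] (hnorm : ∀ s ∈ S, ∀ g ∈ G, s * g * s⁻¹ ∈ G) (hcop : (Nat.card G).Coprime (Nat.card S)) (hsolv : Group.IsSolvable S) : Nat.card {χ : Cfsg.IrrCharacter G // (∀ s ∈ S, ∀ g g' : G, (g' : Γ) = s * g * s⁻¹ → (χ : G → ℂ) g' = (χ : G → ℂ) g)} = Nat.card {K : ConjClasses G // ∀ s ∈ S, ∀ g g' : G, (g' : Γ) = s * g * s⁻¹ → ConjClasses.mk g = K → ConjClasses.mk g' = K} := by
  classical
  refine (card_irrCharacter_subtype _ (InvOn S G) fun φ hφ => invOn_iff_subtype hnorm).trans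
    (Eq.trans ?_ (card_conjClasses_invariant hnorm hcop (Or.inl hsolv) _ (fun _ => True)
      (fun g h s hs => ?_) fun c => ⟨fun _ => trivial, fun _ s hs g g' e h => ?_⟩).symm)
  · refine (card_IrrInv_of_solvable hsolv hnorm hcop).trans ?_
    rw [card_Irr_eq_card_conjClasses]
    exact Nat.card_congr (Equiv.Set.univ _).symm
  · obtain ⟨k, hk⟩ := isConj_iff.1 (ConjClasses.mk_eq_mk_iff_isConj.1
      (h s hs g ⟨_, hnorm s hs g g.2⟩ rfl rfl).symm)
    exact ⟨k, k.2, (congrArg Subtype.val hk).symm⟩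
  · obtain ⟨k, hk⟩ := isConj_iff.1 (ConjClasses.mk_eq_mk_iff_isConj.1 h.symm)
    refine ConjClasses.mk_eq_mk_iff_isConj.2 (IsConj.symm (isConj_iff.2
      ⟨⟨_, hnorm s hs k k.2⟩, Subtype.ext ?_⟩))
    have h1 : (k : Γ) * c * (k : Γ)⁻¹ = g := congrArg Subtype.val hk
    have h2 := c.2.2 s⁻¹ (S.inv_mem hs)
    simp only [Subgroup.coe_mul, Subgroup.coe_inv, e, ← h1]
    calc s * k * s⁻¹ * c * (s * k * s⁻¹)⁻¹ = s * k * (s⁻¹ * c) * (s * k * s⁻¹)⁻¹ := by group
      _ = s * (k * c * (k : Γ)⁻¹) * s⁻¹ := by rw [h2]; group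

end Cfsg.Agent.S4445
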