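import Cfsg.Statements.S4446
import Cfsg.Agent.Lib.Coprime.Glaub2

set_option autoImplicit false
open Cfsg

namespace Cfsg.Agent.S4446

open Cfsg.Lib.Clifford Cfsg.Lib.Coprime Subgroup

theorem canon_of {Γ : Type*} [Group Γ] [Finite Γ] {G S : Subgroup Γ} (hN : Nrm S G)
    (hcop : (Nat.card G).Coprime (Nat.card S)) (htop : G ⊔ S = ⊤) (χ : IrrCharacter G)
    (η : IrrCharacter Γ) (h1 : ∀ g : G, (η : Γ → ℂ) g = (χ : G → ℂ) g)
    (h2 : (detOrder (η : Γ → ℂ)).Coprime (Nat.card S)) : Canon G ⊤ η := by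
  have hc : CharOn ⊤ (η : Γ → ℂ) := (irrOn_top.2 η.2).charOn
  refine ⟨hc, by have := χ.2; rwa [← show res G η = χ from funext h1] at this, ?_⟩
  have h3 := (linOn_detOn ⊤ (η : Γ → ℂ)).ordOn_dvd_card
  rw [← htop, card_sup_of_disjoint' hN.le_normalizer (inf_eq_bot_of_coprime_card hcop.symm),
    htop] at h3
  refine Nat.Coprime.dvd_of_dvd_mul_right ?_ h3
  rwa [detOn_top (charOn_top.1 hc), ordOn_top]

theorem gen {Γ : Type*} [Group Γ] [Finite Γ] {G L : Subgroup Γ} {η : Γ → ℂ} (h : Canon G L η)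
    (hGL : G ≤ L) (hN : Nrm L G) {s t : Γ} (hs : s ∈ L) (hc : (orderOf s).Coprime (Nat.card G))
    (e : zpowers t = zpowers s) {c : Γ} (hcG : c ∈ G ⊓ centralizer {s}) :
    η (c * t) = η (c * s) := by
  obtain ⟨k, rfl⟩ := (mem_powers_iff_mem_zpowers.2 (e ▸ mem_zpowers t) : t ∈ Submonoid.powers s)
  refine h.apply_mul_pow hGL hN hs hc ?_ hcG.1 (mem_centralizer_singleton_iff.1 hcG.2)
  have h1 : orderOf (s ^ k) = orderOf s := by rw [← Nat.card_zpowers, e, Nat.card_zpowers]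
  rw [orderOf_pow, Nat.div_eq_self] at h1
  exact Nat.Coprime.symm (h1.resolve_left (orderOf_pos s).ne')


/-- Let the finite group Γ be generated by a normal subgroup G and a cyclic subgroup S of coprime orders, C = G ⊓ C(S), and let χ be an S-invariant irreducible character of G with canonical extension χ̂ to Γ (the extension whose determinantal order is coprime to the order of S). Then there are exactly one irreducible character β of C and one sign ε such that χ̂(c s) = ε β(c) for every c ∈ C and every generator s of S; this β is a constituent of the restriction of χ to C; distinct S-invariant χ give distinct β; and every irreducible character of C arises in this way. -/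
theorem result {Γ : Type*} [Group Γ] [Fintype Γ] (G S : Subgroup Γ) [Fintype G] (hnorm : ∀ s ∈ S, ∀ g ∈ G, s * g * s⁻¹ ∈ G) (hcop : (Nat.card G).Coprime (Nat.card S)) (htop : G ⊔ S = ⊤) (hcyc : IsCyclic S) (C : Subgroup Γ) [Fintype C] (hC : C = G ⊓ Subgroup.centralizer (S : Set Γ)) (hCG : C ≤ G) : (∀ (χ : Cfsg.IrrCharacter G) (χh : Cfsg.IrrCharacter Γ), (∀ s ∈ S, ∀ g g' : G, (g' : Γ) = s * g * s⁻¹ → (χ : G → ℂ) g' = (χ : G → ℂ) g) → (∀ g : G, (χh : Γ → ℂ) g = (χ : G → ℂ) g) → (Cfsg.detOrder (χh : Γ → ℂ)).Coprime (Nat.card S) → (∃! βε : Cfsg.IrrCharacter C × ℤ, (βε.2 = 1 ∨ βε.2 = -1) ∧ ∀ c : C, ∀ s : Γ, Subgroup.zpowers s = S → (χh : Γ → ℂ) ((c : Γ) * s) = (βε.2 : ℂ) * (βε.1 : C → ℂ) c) ∧ ∀ β : Cfsg.IrrCharacter C, ∀ ε : ℤ, (ε = 1 ∨ ε = -1) → (∀ c : C, ∀ s : Γ, Subgroup.zpowers s = S → (χh : Γ → ℂ) ((c : Γ) * s) = (ε : ℂ) * (β : C → ℂ) c) → Cfsg.classInner (fun c : C => (χ : G → ℂ) ⟨c,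 hCG c.2⟩) (β : C → ℂ) ≠ 0) ∧ (∀ (χ χ' : Cfsg.IrrCharacter G) (χh χh' : Cfsg.IrrCharacter Γ), (∀ s ∈ S, ∀ g g' : G, (g' : Γ) = s * g * s⁻¹ → (χ : G → ℂ) g' = (χ : G → ℂ) g) → (∀ s ∈ S, ∀ g g' : G, (g' : Γ) = s * g * s⁻¹ → (χ' : G → ℂ) g' = (χ' : G → ℂ) g) → (∀ g : G, (χh : Γ → ℂ) g = (χ : G → ℂ) g) → (∀ g : G, (χh' : Γ → ℂ) g = (χ' : G → ℂ) g) → (Cfsg.detOrder (χh : Γ → ℂ)).Coprime (Nat.card S) → (Cfsg.detOrder (χh' : Γ → ℂ)).Coprime (Nat.card S) → ∀ β : Cfsg.IrrCharacter C, ∀ ε ε' : ℤ, (ε = 1 ∨ ε = -1) → (ε' = 1 ∨ ε' = -1) → (∀ c : C, ∀ s : Γ, Subgroup.zpowers s = S → (χh : Γ → ℂ) ((c : Γ) * s) = (ε : ℂ) * (β : C → ℂ) c) → (∀ c : C, ∀ s : Γ, Subgroup.zpowers s = S → (χh' : Γ → ℂ) ((c : Γ) * s) = (ε' : ℂ) * (β : C → ℂ) c) → χ = χ') ∧ (∀ β : Cfsg.IrrCharacter C, ∃ (χ : Cfsg.IrrCharacter G) (χh : Cfsg.IrrCharacter Γ) (ε : ℤ), (∀ s ∈ S, ∀ g g' : G, (g' : Γ) = s * g * s⁻¹ → (χ : G → ℂ) g'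 = (χ : G → ℂ) g) ∧ (∀ g : G, (χh : Γ → ℂ) g = (χ : G → ℂ) g) ∧ (Cfsg.detOrder (χh : Γ → ℂ)).Coprime (Nat.card S) ∧ (ε = 1 ∨ ε = -1) ∧ ∀ c : C, ∀ s : Γ, Subgroup.zpowers s = S → (χh : Γ → ℂ) ((c : Γ) * s) = (ε : ℂ) * (β : C → ℂ) c) := by
  obtain ⟨s, rfl⟩ := (Subgroup.isCyclic_iff_exists_zpowers_eq_top S).1 hcyc
  rw [centralizer_zpowers] at hC
  subst hC
  have hN : Nrm ⊤ G := htop ▸ nrm_sup_zpowers (hnorm s (mem_zpowers s))
  have hc : (orderOf s).Coprime (Nat.card G) := by rw [← Nat.card_zpowers]; exact hcop.symm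
  have hne : ∀ {ε : ℤ}, ε = 1 ∨ ε = -1 → (ε : ℂ) ≠ 0 := by rintro _ (rfl | rfl) <;> simp
  refine ⟨fun χ η _ h1 h2 => ⟨?_, fun β ε h3 h4 => ?_⟩,
    fun χ χ' η η' _ _ h1 h1' h2 h2' β ε ε' h3 h3' h4 h4' => ?_, fun β => ?_⟩
  · have h := canon_of hnorm hcop htop χ η h1 h2
    obtain ⟨β, hβ, ε, h3, h4⟩ := h.exists_sign le_top hN trivial hc
    refine ⟨⟨⟨res _ β, irrOn_of_mem hβ⟩, ε⟩, ⟨h3, fun c t e =>
      (gen h le_top hN trivial hc e c.2).trans (h4 c c.2)⟩, ?_⟩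
    rintro ⟨γ, ε'⟩ ⟨h5, h6⟩
    induction γ using irrCharacter_ind with | h γ hγ =>
    have e1 := slice_of_eq h4 γ
    rw [slice_of_eq (β := γ) (fun c hc => h6 ⟨c, hc⟩ s rfl), (irrOn_of_mem hγ).dot_self,
      dot_irr hβ hγ] at e1
    split_ifs at e1 with e2
    · subst e2
      obtain rfl : ε' = ε := by simpa using e1
      rfl
    · exact (hne h5 (by simpa using e1)).elim
  · induction β using irrCharacter_ind with | h β hβ =>
    have := dot_ne_zero_of_sign (L := ⊤) (C := G ⊓ centralizer {s}) (irrOn_top.2 η.2).charOn le_top trivial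
      (fun c hc => mem_centralizer_singleton_iff.1 hc.2) (irrOn_of_mem hβ) (hne h3)
      fun c hc => h4 ⟨c, hc⟩ s rfl
    rw [dot_eq_classInner] at this
    convert this using 2
    exact funext fun c => (h1 ⟨c, c.2.1⟩).symm
  · induction β using irrCharacter_ind with | h β hβ =>
    have h := canon_of hnorm hcop htop χ η h1 h2
    have h' := canon_of hnorm hcop htop χ' η' h1' h2'
    have := eq_of_sign_eq le_top hN h.charOn h.irr h'.charOn h'.irr trivial hc (irrOn_of_mem hβ)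
      (hne h3) (hne h3') (fun c hc => h4 ⟨c, hc⟩ s rfl) fun c hc => h4' ⟨c, hc⟩ s rfl
    exact Subtype.ext (funext fun g => by rw [← h1, ← h1', this g g.2])
  · induction β using irrCharacter_ind with | h β hβ =>
    obtain ⟨η, h1, h2, ε, h3, h4⟩ := exists_canon_of_irr le_top hN htop.ge trivial hc hβ
    refine ⟨⟨res G η, h2.irr⟩, ⟨η, mem_Irr_top.1 h1⟩, ε, (invOn_iff_subtype hnorm).2
      (h2.charOn.classOn.mono le_top le_top), fun _ => rfl, ?_, h3, fun c t e =>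
      (gen h2 le_top hN trivial hc e c.2).trans (h4 c c.2)⟩
    have := h2.det
    rw [detOn_top (charOn_top.1 h2.charOn), ordOn_top] at this
    exact hcop.coprime_dvd_left this

end Cfsg.Agent.S4446
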