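import Cfsg.Statements.S4450
import Cfsg.Agent.Lib.Coprime.Glaub3

set_option autoImplicit false
open Cfsg

namespace Cfsg.Agent.S4450

open Cfsg.Lib.Clifford Cfsg.Lib.Coprime

/-- Let N ≤ G be normal subgroups of the finite group Γ with the index of G in Γ coprime to the index of N in G, and Γ/G or G/N solvable. Then for every irreducible character ϑ of N invariant under conjugation by Γ, the induced character ϑ^G has an irreducible constituent invariant under conjugation by Γ. -/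
theorem result {Γ : Type*} [Group Γ] [Fintype Γ] (G N : Subgroup Γ) [hG : G.Normal] [hN : N.Normal] [Fintype G] [Fintype N] (hNG : N ≤ G) (hcop : (G.index).Coprime (N.relIndex G)) (hsolv : Group.IsSolvable (Γ ⧸ G) ∨ Group.IsSolvable (G ⧸ N.subgroupOf G)) (θ : Cfsg.IrrCharacter N) (hinv : ∀ (x : Γ) (n : N), (θ : N → ℂ) ⟨x * n * x⁻¹, hN.conj_mem n n.2 x⟩ = (θ : N → ℂ) n) : ∃ χ : Cfsg.IrrCharacter G, Cfsg.classInner (fun n : N => (χ : G → ℂ) ⟨n, hNG n.2⟩) (θ : N → ℂ) ≠ 0 ∧ ∀ (x : Γ) (g : G), (χ : G → ℂ) ⟨x * g * x⁻¹, hG.conj_mem g g.2 x⟩ = (χ : G → ℂ) g := by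
  induction θ using irrCharacter_ind with | h θ hθ =>
  have hi : InvOn ⊤ N θ := fun x _ n hn => hinv x ⟨n, hn⟩
  suffices h : ∃ χ ∈ Irr G, dot N χ θ ≠ 0 ∧ InvOn ⊤ G χ by
    obtain ⟨χ, h1, h2, h3⟩ := h
    exact ⟨⟨res G χ, irrOn_of_mem h1⟩, by rwa [dot_eq_classInner] at h2,
      fun x g => h3 x trivial g g.2⟩
  rcases hsolv with h | h
  · exact exists_invOn_over_of_top (QuotientGroup.mk' G) (QuotientGroup.ker_mk' G) hNG hcop
      (irrOn_of_mem hθ) hi
  · obtain ⟨S, h1, -, h2⟩ := exists_supplement_coprime G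
    obtain ⟨χ, h3, h4, h5⟩ := exists_invOn_over_of_quo (S := S) (nrm_of_normal _ G)
      (nrm_of_normal _ N) hNG (nrm_of_normal _ N) (isSolvable_quo_of_quotient hNG h)
      (h2 _ hcop.symm) (irrOn_of_mem hθ) (hi.mono le_top le_rfl)
    exact ⟨χ, h3, h4, h1 ▸ invOn_sup (nrm_self G) (nrm_of_normal _ G) (irrOn_of_mem h3).classOn h5⟩

end Cfsg.Agent.S4450
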