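import Cfsg.Statements.S4451
import Cfsg.Agent.Lib.Coprime.Glaub5
import Cfsg.Agent.S4446

set_option autoImplicit false
open Cfsg

namespace Cfsg.Agent.S4451

open Cfsg.Lib.Clifford Cfsg.Lib.Coprime Subgroup

/-- Let the finite group Γ be generated by a normal subgroup G and a cyclic subgroup S of coprime orders such that every non-identity element of S has the same centraliser C = G ⊓ C(S) in G. Let χ be an S-invariant irreducible character of G, χ̂ its canonical extension to Γ (determinantal order coprime to the order of S), and β the irreducible character of C with χ̂(c s) = ε₀ β(c) for c ∈ C and generators s of S (ε₀ = ±1). Then there are a sign ε = ±1, which may differ from ε₀, and a linear character μ of S with μ² = 1, such that: (a) χ̂(c x) = ε β(c) μ(x) for all c ∈ C and all x ∈ S other than 1; (b) the restriction of χ to C equals |S|·ϑ + ε β for some character ϑ of C or ϑ = 0;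 (c) |S| divides χ(1) − ε β(1). -/
theorem result {Γ : Type*} [Group Γ] [Fintype Γ] (G S : Subgroup Γ) [Fintype G] (hnorm : ∀ s ∈ S, ∀ g ∈ G, s * g * s⁻¹ ∈ G) (hcop : (Nat.card G).Coprime (Nat.card S)) (htop : G ⊔ S = ⊤) (hcyc : IsCyclic S) (C : Subgroup Γ) [Fintype C] (hC : C = G ⊓ Subgroup.centralizer (S : Set Γ)) (hCG : C ≤ G) (hfpf : ∀ x ∈ S, x ≠ 1 → G ⊓ Subgroup.centralizer ({x} : Set Γ) = C) (χ : Cfsg.IrrCharacter G) (hinv : (∀ s ∈ S, ∀ g g' : G, (g' : Γ) = s * g * s⁻¹ → (χ : G → ℂ) g' = (χ : G → ℂ) g)) (χh : Cfsg.IrrCharacter Γ) (hext : (∀ g : G, (χh : Γ → ℂ) g = (χ : G → ℂ) g)) (hdet : (Cfsg.detOrder (χh : Γ → ℂ)).Coprime (Nat.card S)) (β : Cfsg.IrrCharacter C) (ε₀ : ℤ) (hε₀ : ε₀ = 1 ∨ ε₀ = -1) (hβ : ∀ c : C, ∀ s : Γ, Subgroup.zpowers s = S → (χh : Γ → ℂ) ((c : Γ) * s) = (ε₀ : ℂ) * (β : C → ℂ) c) : ∃ ε : ℤ, (ε = 1 ∨ ε = -1) ∧ (∃ μ : S → ℂ, Cfsg.IsCharacter S μ ∧ μ 1 = 1 ∧ (∀ x :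 S, μ x * μ x = 1) ∧ ∀ c : C, ∀ x : S, x ≠ 1 → (χh : Γ → ℂ) ((c : Γ) * x) = (ε : ℂ) * (β : C → ℂ) c * μ x) ∧ (∃ ϑ : C → ℂ, Cfsg.IsCharacter C ϑ ∧ (fun c : C => (χ : G → ℂ) ⟨c, hCG c.2⟩) = fun c => (Nat.card S : ℂ) * ϑ c + (ε : ℂ) * (β : C → ℂ) c) ∧ (Nat.card S : ℤ) ∣ (Cfsg.charDegree (χ : G → ℂ) : ℤ) - ε * (Cfsg.charDegree (β : C → ℂ) : ℤ) := by
  classical
  induction β using irrCharacter_ind with | h β hβ' =>
  have h := S4446.canon_of hnorm hcop htop χ χh hext hdet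
  have hd : charDegree (χ : G → ℂ) = charDegree (χh : Γ → ℂ) :=
    charDegree_of_eq ((hext 1).symm.trans h.charOn.one_eq)
  simp only [← hext, hd, charDegree_res]
  set η : Γ → ℂ := χh.1
  have hβ₀ := irrOn_of_mem hβ'
  suffices key : ∃ ε : ℤ, (ε = 1 ∨ ε = -1) ∧ (∃ μ, LinOn S μ ∧ (∀ x ∈ S, μ x * μ x = 1) ∧
      ∀ c ∈ C, ∀ x ∈ S, x ≠ 1 → η (c * x) = ε * β c * μ x) ∧
      ∃ ϑ, CharOn C ϑ ∧ ∀ c ∈ C, η c = Nat.card S * ϑ c + ε * β c by
    obtain ⟨ε, h1, ⟨μ, h2, h3, h4⟩, ϑ, h5, h6⟩ := key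
    refine ⟨ε, h1, ⟨res S μ, h2.1, h2.2, fun x => h3 x x.2, fun c x hx => h4 c c.2 x x.2
      fun e => hx (Subtype.ext e)⟩, ⟨res C ϑ, h5, funext fun c => h6 c c.2⟩, charDegree ϑ, ?_⟩
    have := h6 1 (one_mem C)
    rw [h.charOn.one_eq, h5.one_eq, hβ₀.one_eq, ← sub_eq_iff_eq_add] at this
    exact_mod_cast this
  obtain ⟨s, rfl⟩ := (Subgroup.isCyclic_iff_exists_zpowers_eq_top S).1 hcyc
  have hs : ∀ c ∈ C, η (c * s) = ε₀ * β c := fun c hc => hβ ⟨c, hc⟩ s rfl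
  by_cases h1 : s = 1
  · subst h1
    exact ⟨ε₀, hε₀, ⟨1, linOn_one _, by simp, fun c _ x hx h => (h (by simpa using hx)).elim⟩,
      0, charOn_zero C, fun c hc => by simpa using hs c hc⟩
  have hN : Nrm ⊤ G := htop ▸ nrm_sup_zpowers (hnorm s (mem_zpowers s))
  have hc : (orderOf s).Coprime (Nat.card G) := by rw [← Nat.card_zpowers]; exact hcop.symm
  have h2 : ∀ x ∈ zpowers s, x ≠ 1 → ∃ ε : ℤ, (ε = 1 ∨ ε = -1) ∧ ∀ c ∈ C, η (c * x) = ε * β c :=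
    fun x hx hx1 => by
      obtain ⟨k, rfl⟩ := mem_powers_iff_mem_zpowers.2 hx
      exact h.sign_pow le_top hN trivial hc hfpf hβ' ⟨ε₀, hε₀, hs⟩ k hx1
  have h3 : ∀ γ ∈ Irr C, CharOn (zpowers s) (slice C η γ) := fun γ hγ =>
    charOn_slice h.charOn le_top le_top (fun c hc t ht => ((hC.le hc).2 t ht).symm)
      (irrOn_of_mem hγ).charOn
  obtain ⟨μ, hμ, c, ε, a1, a2, a3⟩ := exists_almost_regular bot_le
    (commutator_le.2 fun a ha b hb => commutatorElement_eq_one_iff_mul_comm.2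
      (mul_comm_of_mem ha hb)) (h3 β hβ') (triv_bot _) fun x hx hx1 => by
      obtain ⟨ε, b1, b2⟩ := h2 x hx hx1
      rw [slice_of_eq b2, hβ₀.dot_self]
      rcases b1 with rfl | rfl <;> simp
  have hμ' := (irrOn_of_mem (IrrKer_subset hμ)).linOn_of_comm fun a ha b hb => mul_comm_of_mem ha hb
  have a4 : ∀ x ∈ zpowers s, x ≠ 1 → μ x * μ x = 1 ∧ ∀ c ∈ C, η (c * x) = ε * β c * μ x :=
    fun x hx hx1 => by
      obtain ⟨ε', b1, b2⟩ := h2 x hx hx1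
      have := a3 x hx hx1
      rw [slice_of_eq b2, hβ₀.dot_self, mul_one] at this
      refine ⟨?_, fun c hc => by rw [b2 c hc, this]; ring⟩
      have b3 := congrArg (· ^ 2) this
      rcases a1 with rfl | rfl <;> rcases b1 with rfl | rfl <;> simpa [sq] using b3.symm
  refine ⟨ε, a1, ⟨μ, hμ', fun x hx => ?_, fun c hc x hx hx1 => (a4 x hx hx1).2 c hc⟩, ?_⟩
  · by_cases hx1 : x = 1
    · rw [hx1, hμ'.2, mul_one]
    · exact (a4 x hx hx1).1
  have hS := Lib.Clifford.card_ne_zero (zpowers s)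
  refine ⟨(Nat.card (zpowers s) : ℂ)⁻¹ • (η - (ε : ℂ) • β), InvOn.charOn_of_dot
    (((h.charOn.mono le_top).classOn.sub (hβ₀.classOn.smul _)).smul _) fun γ hγ => ?_,
    fun c _ => by simp only [Pi.smul_apply, Pi.sub_apply, smul_eq_mul]; field_simp; ring⟩
  rw [dot_smul_left, dot_sub_left, dot_smul_left, dot_irr hβ' hγ, ← slice_one]
  split_ifs with e
  · subst e
    rw [relIndex_bot_left] at a2
    have b1 : 1 < Nat.card (zpowers s) := (one_lt_card_iff_ne_bot _).2 (zpowers_ne_bot.2 h1)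
    obtain ⟨n, rfl⟩ := Int.eq_ofNat_of_zero_le (a := c) (by
      by_contra b2
      rcases a1 with rfl | rfl <;> nlinarith [Int.natCast_nonneg (charDegree (slice C η β))])
    refine ⟨n, ?_⟩
    have b2 : (charDegree (slice C η β) : ℂ) = Nat.card (zpowers s) * n + ε := by exact_mod_cast a2
    rw [(h3 β hβ').one_eq, b2]
    field_simp; ring
  · obtain ⟨n, hn⟩ := (h3 γ hγ).dot_nat (charOn_one _)
    refine ⟨n, ?_⟩
    rw [← hn, dot, Finset.sum_eq_single_of_mem 1 (mem_elems.2 (one_mem _)) fun x hx hx1 => by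
      obtain ⟨ε', -, b2⟩ := h2 x (mem_elems.1 hx) hx1
      rw [slice_of_eq b2, dot_irr_of_ne hβ' hγ e]; simp]
    simp

end Cfsg.Agent.S4451
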