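import Cfsg.Statements.S4452
import Cfsg.Agent.Lib.Coprime.Glaub3

set_option autoImplicit false
open Cfsg

namespace Cfsg.Agent.S4452

open Cfsg.Lib.Clifford Cfsg.Lib.Coprime Subgroup

/-- Let the finite group G be the product of a normal subgroup K and a solvable subgroup H of coprime orders, and let N = N_G(H). Then the number of irreducible characters of G of degree coprime to the order of H equals the number of irreducible characters of N of degree coprime to the order of H. (The two sets are in fact in a canonical bijection; only the equality of their sizes is stated here.) -/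
theorem result {G : Type*} [Group G] [Finite G] (K H : Subgroup G) [K.Normal] (hKH : K ⊔ H = ⊤) (hcop : (Nat.card K).Coprime (Nat.card H)) (hsolv : Group.IsSolvable H) : Nat.card {χ : Cfsg.IrrCharacter G // (Cfsg.charDegree (χ : G → ℂ)).Coprime (Nat.card H)} = Nat.card {η : Cfsg.IrrCharacter (Subgroup.normalizer (H : Set G)) // (Cfsg.charDegree (η : Subgroup.normalizer (H : Set G) → ℂ)).Coprime (Nat.card H)} := by
  classical
  have e : normalizer (H : Set G) = (K ⊓ centralizer (H : Set G)) ⊔ H := by
    refine le_antisymm (fun g hg => ?_) (sup_le (inf_le_right.trans (centralizer_le_normalizer _))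
      le_normalizer)
    obtain ⟨k, hk, h, hh, rfl⟩ := mem_sup_of_normal_left.1 (hKH.ge (mem_top g))
    refine mul_mem (mem_sup_left ⟨hk, fun x hx => ?_⟩) (mem_sup_right hh)
    have h1 : k ∈ normalizer (H : Set G) := (mul_mem_cancel_right (le_normalizer hh)).1 hg
    have h2 : x⁻¹ * (k * x * k⁻¹) ∈ K ⊓ H := ⟨by
      have := mul_mem (nrm_of_normal ⊤ K x⁻¹ trivial k hk) (K.inv_mem hk)
      simpa [mul_assoc] using this, H.mul_mem (H.inv_mem hx) ((mem_normalizer_iff.1 h1 x).1 hx)⟩
    rw [inf_eq_bot_of_coprime_card hcop.symm, mem_bot] at h2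
    calc x * k = x * (x⁻¹ * (k * x * k⁻¹)) * k := by rw [h2, mul_one]
      _ = k * x := by group
  have h1 := card_irr_coprime_degree (nrm_of_normal H K) hcop
  have h2 := card_irr_coprime_degree (H := H) (K := K ⊓ centralizer (H : Set G))
    (nrm_inf_centralizer (nrm_of_normal H K) (nrm_self H))
    (hcop.coprime_dvd_left (card_dvd_of_le inf_le_left))
  rw [IrrInv_of_le_centralizer (le_centralizer_iff.1 inf_le_right), ← e,
    ← card_IrrInv_of_solvable hsolv (nrm_of_normal H K) hcop, ← h1, hKH] at h2
  have h3 := card_irrCharacter_subtype (G := normalizer (H : Set G))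
    (fun η => (charDegree (η : normalizer (H : Set G) → ℂ)).Coprime (Nat.card H))
    (fun χ => (charDegree χ).Coprime (Nat.card H)) fun φ hφ => by
      rw [← charDegree_res (normalizer (H : Set G))]
  rw [Finset.filter_congr_decidable] at h3
  rw [h3, h2, ← Nat.card_eq_finsetCard]
  exact Nat.card_congr ⟨fun χ => ⟨χ.1, Finset.mem_filter.2 ⟨mem_Irr_top.2 χ.1.2, χ.2⟩⟩,
    fun χ => ⟨⟨χ.1, mem_Irr_top.1 (Finset.mem_filter.1 χ.2).1⟩, (Finset.mem_filter.1 χ.2).2⟩,
    fun _ => rfl, fun _ => rfl⟩

end Cfsg.Agent.S4452
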