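import Cfsg.Statements.S4914
import Cfsg.Agent.Lib.Coprime.Glaub4

set_option autoImplicit false
open Cfsg

namespace Cfsg.Agent.S4914

open Cfsg.Lib.Clifford Cfsg.Lib.Coprime Subgroup

theorem bijOn_ext {Γ : Type*} [Group Γ] [Finite Γ] {S K : Subgroup Γ} (hN : Nrm S K) :
    Set.BijOn (fun χ : IrrCharacter K => extendByZero K χ)
      {χ | ∀ s ∈ S, ∀ g g' : K, (g' : Γ) = s * g * s⁻¹ → (χ : K → ℂ) g' = (χ : K → ℂ) g}
      (IrrInv S K : Set (Γ → ℂ)) := by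
  refine ⟨fun χ hχ => mem_IrrInv.2 ⟨mem_Irr.2 ⟨irrOn_extendByZero.2 χ.2, fun x hx =>
    extendByZero_of_notMem _ hx⟩, (invOn_iff_subtype hN).1 (by rwa [res_extendByZero])⟩,
    fun χ _ ψ _ e => Subtype.ext ?_, fun φ hφ => ⟨⟨res K φ, irrOn_of_mem (mem_IrrInv.1 hφ).1⟩,
      (invOn_iff_subtype hN).2 (mem_IrrInv.1 hφ).2,
      (extendByZero_res K φ).trans (cut_of_mem_Irr (mem_IrrInv.1 hφ).1)⟩⟩
  have := congrArg (res K) e
  rwa [res_extendByZero, res_extendByZero] at this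


/-- Let P and K be subgroups of a finite group G with P a p-group normalizing K, and suppose K has a normal Sylow p-subgroup Q. Let C be the subgroup of those k ∈ K whose commutator with every element of P lies in Q (so that C/Q is the fixed-point subgroup of P on K/Q). Then there is a bijection f from the P-invariant irreducible complex characters of K onto the P-invariant irreducible complex characters of C such that, for every P-invariant irreducible character χ of K, the multiplicity of f(χ) in the restriction of χ to C is a natural number congruent to 1 or to −1 modulo p, every other P-invariant irreducible character of C occurs in that restriction with multiplicity divisible by p, and the degrees of χ and f(χ) are congruent modulo p up to sign. -/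
theorem result {G : Type*} [Group G] [Finite G] (p : ℕ) [Fact p.Prime] (P K Q C : Subgroup G) (hP : IsPGroup p ↥P) (hPK : P ≤ Subgroup.normalizer (K : Set G)) (hQK : Q ≤ K) (hQn : ∀ k ∈ K, ∀ q ∈ Q, k * q * k⁻¹ ∈ Q) (hQp : ∃ a : ℕ, Nat.card ↥Q = p ^ a) (hQsyl : ¬ p ∣ Q.relIndex K) (hCK : C ≤ K) (hC : ∀ k : G, k ∈ C ↔ (k ∈ K ∧ ∀ x ∈ P, x * k * x⁻¹ * k⁻¹ ∈ Q)) : ∃ f : {χ : Cfsg.IrrCharacter ↥K // (∀ x ∈ P, ∀ k k' : ↥K, (k' : G) = x * (k : G) * x⁻¹ → (χ : ↥K → ℂ) k' = (χ : ↥K → ℂ) k)} → {ξ : Cfsg.IrrCharacter ↥C // (∀ x ∈ P, ∀ k k' : ↥C, (k' : G) = x * (k : G) * x⁻¹ → (ξ : ↥C → ℂ) k' = (ξ : ↥C → ℂ) k)}, Function.Bijective f ∧ ∀ χ, (∀ ξ : {ξ : Cfsg.IrrCharacter ↥C // (∀ x ∈ P, ∀ k k' : ↥C, (k' : G) = x * (k : G) * x⁻¹ → (ξ : ↥C → ℂ) k' = (ξ : ↥C → ℂ) k)}, ∃ m : ℕ, (Nat.card ↥C : ℂ)⁻¹ * ∑ᶠ c : ↥C, (χ.1 : ↥K → ℂ) (Subgroup.inclusion hCK c) * (starRingEnd ℂ) ((ξ.1 : ↥C → ℂ) c) = (m : ℂ) ∧ (ξ = f χ → ((m : ZMod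 p) = 1 ∨ (m : ZMod p) = -1)) ∧ (ξ ≠ f χ → p ∣ m)) ∧ ((Cfsg.charDegree ((f χ).1 : ↥C → ℂ) : ZMod p) = (Cfsg.charDegree (χ.1 : ↥K → ℂ) : ZMod p) ∨ (Cfsg.charDegree ((f χ).1 : ↥C → ℂ) : ZMod p) = -(Cfsg.charDegree (χ.1 : ↥K → ℂ) : ZMod p)) := by
  classical
  have hp : p.Prime := Fact.out
  have hN := nrm_of_le_normalizer hPK
  obtain ⟨a, ha⟩ := hQp
  have hPQ : Nrm P Q := fun x hx q hq => by
    have h1 := hN x hx q (hQK hq)
    have := Nrm.normal_subgroupOf hQn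
    have h2 : (x * q * x⁻¹) ^ Q.relIndex K ∈ Q := (Q.subgroupOf K).pow_index_mem ⟨_, h1⟩
    have h3 : (x * q * x⁻¹) ^ p ^ a = 1 := by
      rw [conj_pow, ← ha, show q ^ Nat.card Q = 1 from congrArg Subtype.val
        (pow_card_eq_one' (x := (⟨q, hq⟩ : Q))), mul_one, mul_inv_cancel]
    obtain ⟨_, ⟨m, rfl⟩, hm⟩ := Lib.PF.exists_exp_coprime
      ((hp.coprime_iff_not_dvd.2 hQsyl).symm.pow_right a)
    have := pow_mem h2 m
    rwa [← pow_mul, pow_eq_pow_of_modEq hm h3, pow_one] at this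
  have hPC : Nrm P C := fun x hx k hk => by
    have h1 := ((hC k).1 hk).2 x hx
    have h2 : x * k * x⁻¹ * k⁻¹ ∈ C := (hC _).2 ⟨hQK h1, fun y hy =>
      mul_mem (hPQ y hy _ h1) (inv_mem h1)⟩
    simpa using mul_mem h2 hk
  have hm := match_fix' hP hN hQK hQn hPQ (IsPGroup.of_card ha) hQsyl hC
  obtain ⟨f, h1, h2⟩ := (hm.pull (bijOn_ext hN) (bijOn_ext hPC) fun _ _ _ _ => rfl).exists_bijective
  refine ⟨f, h1, fun χ => ⟨fun ξ => ⟨mult C (extendByZero K χ.1) (extendByZero C ξ.1), ?_,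
    fun e => e ▸ (h2 χ).1, fun e => (h2 χ).2 ξ.1 ξ.2 fun e' => e (Subtype.ext e')⟩, ?_⟩⟩
  · have := Fintype.ofFinite C
    rw [← ((irrOn_extendByZero.2 χ.1.2).charOn.mono hCK).dot_eq_mult
      (irrOn_extendByZero.2 ξ.1.2).charOn, dot_eq_classInner, res_extendByZero, classInner,
      finsum_eq_sum_of_fintype, Nat.card_eq_fintype_card]
    congr 1
    exact Finset.sum_congr rfl fun c _ => by
      rw [res, extendByZero_of_mem _ (hCK c.2)]; rfl
  · have a1 := (bijOn_ext hN).mapsTo χ.2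
    have a2 := (bijOn_ext hPC).mapsTo (f χ).2
    obtain ⟨b1, b2⟩ := mem_IrrInv.1 a1
    have e := congrArg (Nat.cast : ℕ → ZMod p)
      ((irrOn_of_mem b1).charOn.mono hCK).deg_eq_sum
    rw [Nat.cast_sum, sum_irr_eq_sum_invOn hP hPC _ fun φ hφ u hu => by
      rw [← mult_cj hPC hu _ φ, cj_eq_of_invOn hN b1 b2 hu, charDegree_of_eq
        ((cj_at_one u φ).trans (irrOn_of_mem hφ).one_eq)],
      Finset.sum_eq_single_of_mem _ a2 fun φ hφ hne => by
        obtain ⟨ξ, hξ, rfl⟩ := (bijOn_ext hPC).surjOn hφ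
        rw [Nat.cast_mul, (ZMod.natCast_eq_zero_iff _ _).2
          ((h2 χ).2 ξ hξ fun e => hne (e ▸ rfl)), zero_mul], Nat.cast_mul,
      ← charDegree_res K, ← charDegree_res C (extendByZero C _), res_extendByZero,
      res_extendByZero] at e
    rcases (h2 χ).1 with h | h <;> rw [e, h] <;> simp

end Cfsg.Agent.S4914
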