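import Cfsg.Statements.S4453
import Cfsg.Agent.Lib.Coprime.Isaacs
import Cfsg.Agent.S4914

set_option autoImplicit false
open Cfsg

namespace Cfsg.Agent.S4453

open Cfsg.Lib.Clifford Cfsg.Lib.Coprime Subgroup

/-- Inside a finite group Γ let S normalise the solvable subgroup G of odd order with the orders of G and S coprime, let C = G ⊓ C(S), and let L ≤ K be S-invariant normal subgroups of G with K/L abelian, G = KC and H = LC (so C ≤ H ≤ G). Then for each S-invariant irreducible character χ of G there is exactly one S-invariant irreducible character ψ of H whose multiplicity in the restriction of χ to H is odd, and χ ↦ ψ is a bijection from the S-invariant irreducible characters of G onto those of H (distinct χ give distinct ψ, and every S-invariant ψ arises). -/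
theorem result {Γ : Type*} [Group Γ] [Fintype Γ] (G S : Subgroup Γ) [Fintype G] (hnorm : ∀ s ∈ S, ∀ g ∈ G, s * g * s⁻¹ ∈ G) (hcop : (Nat.card G).Coprime (Nat.card S)) (hGsolv : Group.IsSolvable G) (hodd : Odd (Nat.card G)) (C : Subgroup Γ) [Fintype C] (hC : C = G ⊓ Subgroup.centralizer (S : Set Γ)) (hCG : C ≤ G) (K L H : Subgroup Γ) [Fintype H] (hLK : L ≤ K) (hKG : K ≤ G) (hKn : ∀ g ∈ G, ∀ k ∈ K, g * k * g⁻¹ ∈ K) (hLn : ∀ g ∈ G, ∀ l ∈ L, g * l * g⁻¹ ∈ L) (hKS : ∀ s ∈ S, ∀ k ∈ K, s * k * s⁻¹ ∈ K) (hLS : ∀ s ∈ S, ∀ l ∈ L, s * l * s⁻¹ ∈ L) (hab : ∀ a ∈ K, ∀ b ∈ K, a * b * a⁻¹ * b⁻¹ ∈ L) (hGKC : K ⊔ C = G) (hH : H = L ⊔ C) (hHG : H ≤ G) : (∀ χ : Cfsg.IrrCharacter G, (∀ s ∈ S, ∀ g g' : G, (g' : Γ) = s * g * s⁻¹ → (χ : G → ℂ) g' = (χ : G → ℂ) g) → ∃! ψ : Cfsg.IrrCharacter H, (∀ s ∈ S, ∀ g g' : H, (g' : Γ) = s * g * s⁻¹ → (ψ : H →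 ℂ) g' = (ψ : H → ℂ) g) ∧ ∃ m : ℕ, Cfsg.classInner (fun h : H => (χ : G → ℂ) ⟨h, hHG h.2⟩) (ψ : H → ℂ) = (m : ℂ) ∧ Odd m) ∧ (∀ χ χ' : Cfsg.IrrCharacter G, (∀ s ∈ S, ∀ g g' : G, (g' : Γ) = s * g * s⁻¹ → (χ : G → ℂ) g' = (χ : G → ℂ) g) → (∀ s ∈ S, ∀ g g' : G, (g' : Γ) = s * g * s⁻¹ → (χ' : G → ℂ) g' = (χ' : G → ℂ) g) → ∀ ψ : Cfsg.IrrCharacter H, (∀ s ∈ S, ∀ g g' : H, (g' : Γ) = s * g * s⁻¹ → (ψ : H → ℂ) g' = (ψ : H → ℂ) g) → ∀ m m' : ℕ, Cfsg.classInner (fun h : H => (χ : G → ℂ) ⟨h, hHG h.2⟩) (ψ : H → ℂ) = (m : ℂ) → Odd m → Cfsg.classInner (fun h : H => (χ' : G → ℂ) ⟨h, hHG h.2⟩) (ψ : H → ℂ) = (m' : ℂ) → Odd m' → χ = χ') ∧ (∀ ψ : Cfsg.IrrCharacter H, (∀ s ∈ S, ∀ g g' : H, (g' : Γ) = s * g * s⁻¹ → (ψ : H → ℂ) g' = (ψ : H → ℂ) g) → ∃ χ : Cfsg.IrrCharacter G, (∀ s ∈ S, ∀ g g' : G, (g' : Γ) = s * g * s⁻¹ → (χ : G → ℂ) g' = (χ : G →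 ℂ) g) ∧ ∃ m : ℕ, Cfsg.classInner (fun h : H => (χ : G → ℂ) ⟨h, hHG h.2⟩) (ψ : H → ℂ) = (m : ℂ) ∧ Odd m) := by
  have hSH : Nrm S H := hH ▸ hC ▸ Nrm.sup hLS (nrm_inf_centralizer hnorm (nrm_self S))
  have hm := match_isaacs hnorm hcop hodd hLK hKG hKn hLn hKS hLS (commutator_le.2 hab) hGsolv
    (hC ▸ hGKC)
  rw [← hC, ← hH] at hm
  replace hm := hm.pull (S4914.bijOn_ext hnorm) (S4914.bijOn_ext hSH) fun _ _ _ _ => rfl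
  have e : ∀ (χ : IrrCharacter G) (ψ : IrrCharacter H), classInner (fun h : H => (χ : G → ℂ)
      ⟨h, hHG h.2⟩) (ψ : H → ℂ) = mult H (extendByZero G χ) (extendByZero H ψ) := fun χ ψ => by
    rw [← ((irrOn_extendByZero.2 χ.2).charOn.mono hHG).dot_eq_mult
      (irrOn_extendByZero.2 ψ.2).charOn, dot_eq_classInner, res_extendByZero]
    congr 1
    exact funext fun c => by rw [res, extendByZero_of_mem _ (hHG c.2)]
  simp only [e, Nat.cast_inj, exists_eq_left', ← Nat.not_even_iff_odd, even_iff_two_dvd]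
  refine ⟨fun χ hχ => ?_, fun χ χ' h h' ψ hψ m m' e1 o1 e2 o2 =>
    hm.inj χ h χ' h' ψ hψ (e1 ▸ o1) (e2 ▸ o2), fun ψ hψ => hm.surj ψ hψ⟩
  obtain ⟨ψ, h1, h2, h3⟩ := hm.ex χ hχ
  exact ⟨ψ, ⟨h1, not_dvd_of_sign h2⟩, fun ξ hξ => by_contra fun hne => hξ.2 (h3 ξ hξ.1 hne)⟩

end Cfsg.Agent.S4453
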