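import Cfsg.Statements.S4455
import Cfsg.Agent.Lib.Clifford.Thompson

set_option autoImplicit false
open Cfsg

namespace Cfsg.Agent.S4455

open Cfsg.Lib Cfsg.Lib.Clifford Cfsg.Lib.Char Finset Cfsg.Lib.Transfer

/-- Fix a prime p and a finite group G. Let s be the sum of χ(1)² over the irreducible characters χ of G whose degree is not divisible by p and whose determinantal order o(χ) is not divisible by p. Then the order of O^p(G), the subgroup generated by the elements of order prime to p, is congruent to s modulo p. -/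
theorem result {G : Type*} [Group G] [Finite G] (p : ℕ) (hp : p.Prime) : (Nat.card (Cfsg.pResidual p G) : ℤ) ≡ (∑ᶠ χ ∈ {χ : Cfsg.IrrCharacter G | ¬ p ∣ Cfsg.charDegree (χ : G → ℂ) ∧ ¬ p ∣ Cfsg.detOrder (χ : G → ℂ)}, (Cfsg.charDegree (χ : G → ℂ) : ℤ) ^ 2) [ZMOD p] := by
  classical
  have := Fact.mk hp
  obtain ⟨T, hT⟩ := exists_sylowIn (p := p) (⊤ : Subgroup G)
  obtain ⟨n, hn⟩ := relIndex_resOf (p := p) (⊤ : Subgroup G)
  have hN := nrm_resOf (p := p) (⊤ : Subgroup G)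
  have h1 := Coprime.sum_irr_eq_sum_invOn hT.isPGroup (hN.mono hT.le)
    (fun θ => (charDegree θ : ZMod p) ^ 2) fun φ _ u _ => by rw [charDegree_cj]
  rw [finsum_mem_def, finsum_irr_top (fun χ : G → ℂ =>
    if ¬ p ∣ charDegree χ ∧ ¬ p ∣ detOrder χ then (charDegree χ : ℤ) ^ 2 else 0) |>.symm.trans
      (finsum_congr fun χ => by rw [Set.indicator_apply]; rfl) |>.symm, ← ZMod.intCast_eq_intCast_iff,
    ← resOf_top, ← sum_deg_sq, ← sum_filter]
  push_cast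
  rw [h1, ← sum_filter_add_sum_filter_not _ (fun θ => p ∣ charDegree θ), sum_eq_zero fun θ hθ => by
    rw [(ZMod.natCast_eq_zero_iff _ _).2 (mem_filter.1 hθ).2]; simp, zero_add]
  have ho : ∀ χ ∈ Irr (⊤ : Subgroup G), ordOn ⊤ (detOn ⊤ χ) = detOrder χ := fun χ hχ => by
    rw [ordOn_top, detOn_top (mem_Irr_top.1 hχ).isCharacter]; rfl
  have hc : ∀ m, ¬ p ∣ m → ((resOf p (⊤ : Subgroup G)).relIndex ⊤).Coprime m := fun m hm =>
    hn ▸ (hp.coprime_iff_not_dvd.2 hm).pow_left n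
  have hd : ∀ χ : G → ℂ, charDegree (cut (resOf p ⊤) χ) = charDegree χ := fun χ => by
    simp only [charDegree, cut_of_mem χ (one_mem _)]
  symm
  refine sum_bij (fun χ _ => cut (resOf p ⊤) χ) (fun χ hχ => ?_) (fun χ hχ ψ hψ e => ?_)
    (fun θ hθ => ?_) fun χ _ => by rw [hd]
  · obtain ⟨hχ, h2, -⟩ := mem_filter.1 hχ
    have hχ := irrOn_of_mem hχ
    refine mem_filter.2 ⟨Coprime.mem_IrrInv.2 ⟨(hχ.res_of_coprime le_top hN (hc _ h2).symm).cut_mem,
      ?_⟩, by rwa [hd]⟩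
    exact ((hχ.classOn.mono le_rfl le_top).cut' hN _).mono le_top le_rfl
  · obtain ⟨hχ, h2, h3⟩ := mem_filter.1 hχ
    obtain ⟨hψ, -, h4⟩ := mem_filter.1 hψ
    refine eq_of_mem_Irr hχ hψ (ext_unique_of_coprime le_top hN (irrOn_of_mem hψ).charOn ?_ ?_
      (irrOn_of_mem hχ).charOn (fun x hx => ?_) (hc _ (ho χ hχ ▸ h3)) (hc _ (ho ψ hψ ▸ h4)))
    · rw [← irrOn_cut, ← e, irrOn_cut]
      exact (irrOn_of_mem hχ).res_of_coprime le_top hN (hc _ h2).symm
    · rw [← hd, ← e, hd]; exact hc _ h2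
    · rw [← cut_of_mem χ hx, e, cut_of_mem ψ hx]
  · obtain ⟨hθ, h2⟩ := mem_filter.1 hθ
    obtain ⟨hθ, hi⟩ := Coprime.mem_IrrInv.1 hθ
    have hθ' := irrOn_of_mem hθ
    obtain ⟨χ, hχ, e, h3⟩ := exists_ext_resOf hθ' (invOn_of_sylowIn hT hθ'.classOn hi) h2
    have e' : cut (resOf p ⊤) χ = θ := by rw [cut_congr e, cut_of_mem_Irr hθ]
    exact ⟨χ, mem_filter.2 ⟨hχ, by rwa [← hd, e'], ho χ hχ ▸ hp.coprime_iff_not_dvd.1 h3⟩, e'⟩

end Cfsg.Agent.S4455
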