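import Cfsg.Statements.S4459
import Cfsg.Agent.Lib.Clifford.Cd
import Cfsg.Agent.Lib.Core.Nilpotent
import Cfsg.Agent.Lib.Coprime.Frobenius

set_option autoImplicit false
open Cfsg

namespace Cfsg.Agent.S4459

open Cfsg.Lib Cfsg.Lib.Clifford Cfsg.Lib.Char Finset Subgroup
open scoped commutatorElement

variable {G : Type*} [Group G] [Finite G] {p : ℕ}

theorem dvd_of_lt (hp : p.Prime) {X Y : Subgroup G} {k : ℕ} (h : X < Y) (hX : X.index ∣ p ^ (k + 1)) :
    Y.index ∣ p ^ k := by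
  obtain ⟨i, hi, e⟩ := (Nat.dvd_prime_pow hp).1 hX
  obtain ⟨j, hj, e'⟩ := (Nat.dvd_prime_pow hp).1 (e ▸ index_dvd_of_le h.le)
  have : j ≠ i := fun e'' => h.not_ge (relIndex_eq_one.1 ((mul_eq_right₀ index_ne_zero_of_finite).1
    ((relIndex_mul_index h.le).trans (by rw [e, e', e'']))))
  exact e' ▸ pow_dvd_pow p (by omega)

theorem eq_top_of_lt (hp : p.Prime) {Z A B : Subgroup G} (hZ : Z.index = p ^ 2) (h1 : Z < A) (h2 : A < B) :
    B = ⊤ := index_eq_one.1 (by simpa using dvd_of_lt hp h2 (dvd_of_lt hp h1 hZ.dvd))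

theorem core (hp : p.Prime) (Z : Subgroup G) [hn : Z.Normal] (hab : ∀ a ∈ Z, ∀ b ∈ Z, a * b = b * a)
    (hZ : Z.index = p ^ 2) (hP : IsPGroup p (commutator G))
    (hI : ∀ θ ∈ Irr Z, (inertia ⊤ Z θ).index = 1 ∨ (inertia ⊤ Z θ).index = p)
    (hne : ∀ g ∉ Z, ∃ z ∈ Z, g * z ≠ z * g) : (center G).index = p ^ 3 := by
  classical
  have := Fact.mk hp
  let f : G → Z →* G := fun g => MonoidHom.mk' (fun z => g * z * g⁻¹ * (z : G)⁻¹) fun a b => by
    have e := hab _ (Z.inv_mem a.2) _ (Z.mul_mem (hn.conj_mem _ b.2 g) (Z.inv_mem b.2))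
    rw [mul_assoc _ (a : G)⁻¹, e]; simp [mul_assoc]
  have hf : ∀ g (z : Z), f g z = 1 ↔ g * z = z * g := fun g z => by
    simp [f, mul_inv_eq_iff_eq_mul]
  have hD : ∀ g, (f g).range ≤ Z := by
    rintro g _ ⟨z, rfl⟩; exact Z.mul_mem (hn.conj_mem _ z.2 g) (Z.inv_mem z.2)
  have hZZ : ⁅Z, Z⁆ = ⊥ := Amalg.comm_eq_bot_iff.2 fun a ha => Amalg.mem_centralizer_comm.2 fun b hb => hab b hb a ha
  have hK : ∀ D ≤ Z, (IrrKer Z D).card * Nat.card D = Nat.card Z := fun D h => by
    rw [card_IrrKer_of_abelian h (nrm_of_commutator_le h (hZZ ▸ bot_le)) (hZZ ▸ bot_le), mul_comm,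
      card_mul_relIndex h]
  have hT : ∀ θ ∈ Irr Z, ∀ g, g ∈ inertia ⊤ Z θ ↔ Triv (f g).range θ := fun θ hθ g => by
    have hl := (irrOn_of_mem hθ).linOn_of_comm hab
    have e : ∀ z : Z, θ (f g z) = θ 1 ↔ θ (g * z * g⁻¹) = θ z := fun z => by
      rw [hl.2, ← mul_inv_eq_one₀ (hl.ne_zero z.2), ← hl.map_inv z.2,
        ← hl.map_mul (hn.conj_mem _ z.2 g) (Z.inv_mem z.2)]; rfl
    rw [mem_inertia (nrm_of_normal ⊤ Z), and_iff_right (mem_top g)]
    exact ⟨by rintro h _ ⟨z, rfl⟩; exact (e z).2 (h z z.2), fun h z hz => (e ⟨z, hz⟩).1 (h _ ⟨_, rfl⟩)⟩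
  have hd : ∀ g ∉ Z, ∃ k, Nat.card (f g).range = p ^ (k + 1) := fun g hg => by
    obtain ⟨k, hk⟩ := (hP.to_le (show (f g).range ≤ commutator G by
      rintro _ ⟨z, rfl⟩; exact commutator_mem_commutator (mem_top g) (mem_top (z : G)))).exists_card_eq
    obtain ⟨z, hz, h⟩ := hne g hg
    cases k with
    | zero => exact absurd ((hf g ⟨z, hz⟩).1 (mem_bot.1 ((eq_bot_of_card_eq _ hk).le ⟨_, rfl⟩))) h
    | succ k => exact ⟨k, hk⟩
  set U := (Irr Z).filter fun θ => inertia ⊤ Z θ = ⊤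
  have hU : ∀ g h, Z ⊔ zpowers g ⊔ zpowers h = ⊤ → U = IrrKer Z ((f g).range ⊔ (f h).range) := fun g h e => by
    ext θ
    rw [mem_filter, mem_IrrKer]
    refine and_congr_right fun hθ => ⟨fun a => (irrOn_of_mem hθ).charOn.triv_sup (hD g) (hD h)
      ((hT θ hθ g).1 (a.ge trivial)) ((hT θ hθ h).1 (a.ge trivial)), fun a => top_le_iff.1 (e.ge.trans
      (sup_le (sup_le (le_inertia le_top (nrm_of_normal ⊤ Z) (irrOn_of_mem hθ).classOn) ?_) ?_))⟩
    exacts [zpowers_le.2 ((hT θ hθ g).2 (a.mono le_sup_left)), zpowers_le.2 ((hT θ hθ h).2 (a.mono le_sup_right))]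
  obtain ⟨r, rfl⟩ : ∃ r, p = r + 1 := ⟨p - 1, (Nat.sub_add_cancel hp.pos).symm⟩
  have hr : 0 < r := Nat.lt_of_succ_lt_succ hp.one_lt
  have hz : 0 < Nat.card Z := Nat.card_pos
  have hG : Nat.card G = Nat.card Z * (r + 1) ^ 2 := by rw [← hZ, card_mul_index]
  have hind : ∀ (A : Subgroup G) (c : ℕ), ∑ g ∈ elems ⊤, (if g ∈ A then c else 0) = Nat.card A * c :=
    fun A c => by
      rw [← sum_filter, sum_const, ← card_elems, smul_eq_mul]
      congr 2; ext; simp [mem_elems]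
  have hsum : ∑ g ∈ elems ⊤, (IrrKer Z (f g).range).card =
      Nat.card Z * (Nat.card Z * (r + 1)) + U.card * (Nat.card Z * (r + 1) * r) := by
    have e1 : (Irr Z).card = Nat.card Z := by
      rw [← hK ⊥ bot_le, card_bot, mul_one]
      congr 1; ext θ; exact (mem_IrrKer.trans (and_iff_left (triv_bot θ))).symm
    rw [← e1, ← smul_eq_mul (Irr Z).card, ← sum_const, ← smul_eq_mul U.card, ← sum_const, sum_filter,
      ← sum_add_distrib, sum_congr rfl (g := fun g => ∑ θ ∈ Irr Z, if g ∈ inertia ⊤ Z θ then 1 else 0)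
      fun g _ => by
        rw [← card_filter]; congr 1; ext θ
        rw [mem_filter, mem_IrrKer]; exact and_congr_right fun h => (hT θ h g).symm, sum_comm]
    refine sum_congr rfl fun θ hθ => ?_
    have e2 := (inertia ⊤ Z θ).card_mul_index
    rw [hind, mul_one, e1]
    split_ifs with h
    · rw [h, card_top, hG]; ring
    · rw [(hI θ hθ).resolve_left (index_eq_one.not.2 h), hG, pow_two, ← mul_assoc] at e2
      exact Nat.eq_of_mul_eq_mul_right hp.pos e2
  have hc : ∀ g, (IrrKer Z (f g).range).card ≤ Nat.card Z := fun g =>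
    hK _ (hD g) ▸ Nat.le_mul_of_pos_right _ Nat.card_pos
  have hc1 : ∀ g ∉ Z, (IrrKer Z (f g).range).card * (r + 1) ≤ Nat.card Z := fun g hg => by
    obtain ⟨k, hk⟩ := hd g hg
    rw [← hK _ (hD g), hk]
    exact Nat.mul_le_mul_left _ (Nat.le_self_pow k.succ_ne_zero _)
  have hU0 : 0 < U.card := card_pos.2 ⟨_, mem_filter.2 ⟨cut_one_mem Z, by
    rw [inertia_cut, inertia_eq_iff (nrm_of_normal ⊤ Z)]; exact invOn_one _ _⟩⟩
  obtain ⟨g, h, h1, h2, h3⟩ : ∃ g h, Nat.card (f g).range = r + 1 ∧ Nat.card (f h).range = r + 1 ∧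
      Z ⊔ zpowers g ⊔ zpowers h = ⊤ := by
    by_contra h0
    obtain ⟨A, h1, h2, h3⟩ : ∃ A, Z ≤ A ∧ A ≠ ⊤ ∧ ∀ g ∉ A, Nat.card (f g).range ≠ r + 1 := by
      by_cases h1 : ∃ g ∉ Z, Nat.card (f g).range = r + 1
      · obtain ⟨g, hg, e⟩ := h1
        refine ⟨Z ⊔ zpowers g, le_sup_left, fun a => h0 ⟨g, g, e, e, by rw [a, top_sup_eq]⟩,
          fun h hh e' => h0 ⟨g, h, e, e', eq_top_of_lt hp hZ (left_lt_sup.2 (zpowers_le.not.2 hg))
            (left_lt_sup.2 (zpowers_le.not.2 hh))⟩⟩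
      · exact ⟨Z, le_rfl, fun e => hp.one_lt.ne' (Nat.eq_one_of_mul_eq_one_left
          ((pow_two _).symm.trans (hZ.symm.trans (index_eq_one.2 e)))), fun g hg e => h1 ⟨g, hg, e⟩⟩
    have h4 : Nat.card A * (r + 1) ≤ Nat.card Z * (r + 1) ^ 2 := by
      rw [← hG, ← A.card_mul_index]
      obtain ⟨i, -, e⟩ := (Nat.dvd_prime_pow hp).1 (hZ ▸ index_dvd_of_le h1)
      refine Nat.mul_le_mul_left _ (e ▸ Nat.le_self_pow ?_ _)
      rintro rfl
      exact h2 (index_eq_one.1 e)
    have h5 : ∑ g ∈ elems ⊤, (IrrKer Z (f g).range).card * (r + 1) ^ 2 ≤ ∑ g ∈ elems ⊤, (Nat.card Z +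
        (if g ∈ A then r * Nat.card Z else 0) + if g ∈ Z then (r + 1) * r * Nat.card Z else 0) :=
      sum_le_sum fun g _ => by
        by_cases a : g ∈ Z
        · have := hc g
          rw [if_pos a, if_pos (h1 a)]; nlinarith
        rw [if_neg a]
        split_ifs with b
        · have := hc1 g a; nlinarith
        obtain ⟨k, hk⟩ := hd g a
        rw [← hK _ (hD g), hk]
        refine Nat.mul_le_mul_left _ (Nat.pow_le_pow_right hp.pos ?_)
        have : k ≠ 0 := by rintro rfl; exact h3 g b (by simpa using hk)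
        omega
    rw [← sum_mul, hsum, sum_add_distrib, sum_add_distrib, hind, hind, sum_const, card_elems, card_top,
      hG, smul_eq_mul] at h5
    have h6 : Nat.card A ≤ Nat.card Z * (r + 1) := Nat.le_of_mul_le_mul_right (by nlinarith) hp.pos
    have h7 := Nat.mul_le_mul_right (r * Nat.card Z) h6
    have h8 : 0 < U.card * (Nat.card Z * (r + 1) * r) * (r + 1) ^ 2 := by positivity
    have h9 : Nat.card Z * Nat.card Z * (r + 1) * r * 1 ≤ Nat.card Z * Nat.card Z * (r + 1) * r * r :=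
      Nat.mul_le_mul_left _ hr
    nlinarith
  have h4 : Nat.card Z ≤ U.card * (r + 1) ^ 2 := by
    rw [← hK _ (sup_le (hD g) (hD h)), ← hU g h h3, pow_two]
    refine Nat.mul_le_mul_left _ (Nat.le_of_dvd (by positivity) ?_)
    have := Core.card_sup_mul_card_inf (H := (f g).range) (K := (f h).range)
      ((hD g).trans (nrm_of_commutator_le (hD h) (hZZ ▸ bot_le)).le_normalizer)
    exact Dvd.intro _ (by rw [this, h1, h2])
  have h5 : ∀ g ∈ elems ⊤, (IrrKer Z (f g).range).card * (r + 1) ≤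
      Nat.card Z + if g ∈ Z then r * Nat.card Z else 0 := fun g _ => by
    split_ifs with a
    · have := hc g; nlinarith
    · exact hc1 g a
  have h6 := sum_le_sum h5
  have h7 := sum_eq_sum_iff_of_le h5
  rw [← sum_mul, hsum, sum_add_distrib, hind, sum_const, card_elems, card_top, hG, smul_eq_mul] at h6 h7
  have h8 : U.card * (r + 1) ^ 2 = Nat.card Z := le_antisymm
    (Nat.le_of_mul_le_mul_right (c := Nat.card Z * r) (by nlinarith) (by positivity)) h4
  have h9 : ∀ g ∉ Z, Nat.card (f g).range = r + 1 := fun g hg => by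
    have a := h7.1 (by rw [← h8]; ring) g (mem_elems.2 trivial)
    rw [if_neg hg, add_zero, ← hK _ (hD g)] at a
    refine (Nat.eq_of_mul_eq_mul_left (Nat.pos_of_ne_zero fun e => ?_) a).symm
    have := hK _ (hD g)
    rw [e, zero_mul] at this
    omega
  obtain ⟨x, hx⟩ : ∃ x, x ∉ Z := by
    by_contra! e
    rw [(eq_bot_iff_forall (f g).range).2 fun y hy => ?_, card_bot] at h1
    · omega
    · obtain ⟨z, rfl⟩ := hy; exact (hf g z).2 (hab _ (e g) _ z.2)
  have h10 : center G = (f x).ker.map Z.subtype := by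
    ext y
    constructor
    · intro hy
      have : y ∈ Z := by
        by_contra a
        obtain ⟨z, -, b⟩ := hne y a
        exact b (mem_center_iff.1 hy z).symm
      exact ⟨⟨y, this⟩, (hf x _).2 (mem_center_iff.1 hy x), rfl⟩
    rintro ⟨y, hy, rfl⟩
    have hy := (hf x y).1 hy
    refine mem_center_iff.2 fun w => not_not.1 fun a => ?_
    have b : w ∉ Z ⊔ zpowers x := fun b => a ((sup_le (fun z hz => mem_centralizer_singleton_iff.2
      (hab z hz y y.2)) (zpowers_le.2 (mem_centralizer_singleton_iff.2 hy)) :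
        _ ≤ centralizer {(y : G)}) b |> mem_centralizer_singleton_iff.1)
    have c : w * x ∉ Z := fun c => b (by
      simpa using mul_mem (mem_sup_left c) (inv_mem (mem_sup_right (mem_zpowers x))))
    have d : w ∉ Z := fun d => b (mem_sup_left d)
    have e : (f w).range = (f (w * x)).range := by
      have e1 : f (w * x) y = f w y := by
        simp only [f, MonoidHom.mk'_apply, mul_assoc w, hy]; group
      rw [← Coprime.zpowers_eq_of_card_prime (R := (f w).range) (h9 w d ▸ hp) ⟨y, rfl⟩ ((hf w y).not.2 a),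
        ← Coprime.zpowers_eq_of_card_prime (R := (f (w * x)).range) (h9 _ c ▸ hp) ⟨y, e1⟩ ((hf w y).not.2 a)]
    have e2 := hK _ (hD w)
    rw [h9 w d, ← sup_idem (f w).range, ← h8] at e2
    nth_rw 2 [e] at e2
    rw [← hU w (w * x) (top_le_iff.1 ((eq_top_of_lt hp hZ (left_lt_sup.2 (zpowers_le.not.2 hx))
      (left_lt_sup.2 (zpowers_le.not.2 b))).ge.trans (sup_le (sup_le (le_sup_of_le_left le_sup_left)
        (zpowers_le.2 ?_)) (le_sup_of_le_left le_sup_right))))] at e2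
    · nlinarith
    · simpa using mul_mem (inv_mem (mem_sup_left (mem_sup_right (mem_zpowers w))))
        (mem_sup_right (mem_zpowers (w * x)))
  rw [h10, index_map_subtype, index_ker, h9 x hx, hZ, ← pow_succ']

/-- Let G be a non-abelian finite group and p a prime. Then the irreducible character degrees of G are exactly 1 and p if and only if either G has an abelian normal subgroup of index p or the centre of G has index p³. -/
theorem result {G : Type*} [Group G] [Finite G] (hG : ∃ a b : G, a * b ≠ b * a) (p : ℕ) (hp : p.Prime) : ((∀ χ : Cfsg.IrrCharacter G, Cfsg.charDegree (χ : G → ℂ) = 1 ∨ Cfsg.charDegree (χ : G → ℂ) = p) ∧ ∃ χ : Cfsg.IrrCharacter G, Cfsg.charDegree (χ : G → ℂ) = p) ↔ ((∃ A : Subgroup G, A.Normal ∧ (∀ a ∈ A, ∀ b ∈ A, a * b = b * a) ∧ A.index = p) ∨ (Subgroup.center G).index = p ^ 3) := by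
  have hne : ∃ χ ∈ Irr (⊤ : Subgroup G), charDegree χ ≠ 1 := by
    by_contra! h
    obtain ⟨a, b, e⟩ := hG
    exact e (comm_of_forall_deg h a trivial b trivial)
  constructor
  swap
  · intro h
    have h1 : ∀ χ ∈ Irr (⊤ : Subgroup G), charDegree χ = 1 ∨ charDegree χ = p := fun χ hχ => by
      have hi := irrOn_of_mem hχ
      rcases h with ⟨A, _, h1, h2⟩ | h
      · exact (Nat.dvd_prime hp).1 (h2 ▸ relIndex_top_right A ▸
          hi.deg_dvd_relIndex_of_comm le_top (nrm_of_normal ⊤ A) h1)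
      have h1 := (mem_Irr_top.1 hχ).degree_sq_le_index (mem_Irr_top.1 hχ).center_le_charCenter hi.one_eq
      obtain ⟨i, -, e⟩ := (Nat.dvd_prime_pow hp).1
        (h ▸ (mem_Irr_top.1 hχ).degree_dvd_index (mem_Irr_top.1 hχ).center_le_charCenter hi.one_eq)
      rw [h, e, ← pow_mul, Nat.pow_le_pow_iff_right hp.one_lt] at h1
      obtain rfl | rfl : i = 0 ∨ i = 1 := by omega
      exacts [.inl e, .inr (e.trans (pow_one p))]
    obtain ⟨χ, a, b⟩ := hne
    exact ⟨fun χ => h1 _ (mem_Irr_top.2 χ.2), ⟨χ, mem_Irr_top.1 a⟩, (h1 χ a).resolve_left b⟩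
  rintro ⟨hcd, χ, hχ⟩
  have h : ∀ χ ∈ Irr (⊤ : Subgroup G), charDegree χ = 1 ∨ charDegree χ = p :=
    fun χ h => hcd ⟨χ, mem_Irr_top.1 h⟩
  refine or_iff_not_imp_left.2 fun h0 => ?_
  obtain ⟨q, e, hq, he, P, A, _, _, h1, h2, -, h3⟩ :=
    (cd_two h ⟨χ, mem_Irr_top.2 χ.2, hχ⟩ hp.ne_one).resolve_left h0
  obtain rfl : p = q := (Nat.prime_dvd_prime_iff_eq hp hq).1 (hp.dvd_of_dvd_pow he.dvd)
  have := Fact.mk hp
  have := h1.isNilpotent
  have : IsMulCommutative A := ⟨⟨fun x y => Subtype.ext (h2 x x.2 y y.2)⟩⟩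
  have := Core.isNilpotent_of_isMulCommutative A
  have : Group.IsNilpotent G := Group.isNilpotent_top.1 (h3 ▸ Core.isNilpotent_sup_of_normal P A)
  obtain ⟨x, hx, hx'⟩ := SetLike.exists_of_lt (Core.commutator_top_lt_of_nilpotent (commutator G) fun e => by
    obtain ⟨a, b, c⟩ := hG
    exact c (commutatorElement_eq_one_iff_mul_comm.1 (mem_bot.1 (e.le
      (commutator_mem_commutator trivial trivial)))))
  obtain ⟨β, hβ, hb⟩ := exists_IrrKer_ne le_top (nrm_of_normal ⊤ _) hx'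
  obtain ⟨hβ, ht⟩ := mem_IrrKer.1 hβ
  have hi := irrOn_of_mem hβ
  have hi' := mem_Irr_top.1 hβ
  have hd := (h β hβ).resolve_left fun e => hb (hi.linOn_iff.1 (hi.charOn.linOn_of_deg e) x hx)
  have hle : commutator G ≤ charCenter β := fun z hz => hi'.mem_charCenter_iff_commutator.2 fun y =>
    hi'.mem_charKer.2 (ht _ (commutator_mem_commutator hz trivial))
  have := (classOn_top.1 hi.classOn).charCenter_normal
  have hn := nrm_of_normal ⊤ (charCenter β)
  have hZ : (charCenter β).index = p ^ 2 := by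
    rw [← Nat.cast_inj (R := ℂ), ← (hi'.degree_sq_eq_index_iff le_rfl).2 fun g hg => ?_, hi.one_eq, hd,
      Nat.cast_pow]
    obtain ⟨y, hy⟩ := not_forall.1 (hi'.mem_charCenter_iff_commutator.not.1 hg)
    obtain ⟨c, hc⟩ := mem_charCenter_def.1 (hle (commutator_mem_commutator (mem_top g) (mem_top y)))
    by_contra h4
    have h5 := hc (y * g * y⁻¹)
    rw [hi.classOn y trivial g trivial, show ⁅g, y⁆ * (y * g * y⁻¹) = g by
      simp [commutatorElement_def, mul_assoc], right_eq_mul₀ h4] at h5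
    exact hy (mem_charKer_def.2 fun w => by rw [hc, h5, one_mul])
  obtain ⟨lam, hlam⟩ := exists_linear_charCenter (φ := β) hi.one_ne_zero
  have hl : LinOn (charCenter β) (extendByZero _ fun z => (lam z : ℂ)) :=
    linOn_of_hom lam fun z => Clifford.extendByZero_of_mem _ z.2
  have h4 : ∀ z ∈ charCenter β, β z = β 1 * extendByZero _ (fun z => (lam z : ℂ)) z := fun z hz => by
    rw [Clifford.extendByZero_of_mem _ hz, mul_comm, ← hlam, mul_one]
  have hab := comm_of_forall_deg (N := charCenter β) fun θ hθ => by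
    have hθ := irrOn_of_mem hθ
    obtain ⟨ψ, a, b⟩ := hθ.exists_over le_top
    have c := deg_dvd_of_dot le_top hn (irrOn_of_mem a) hθ b
    by_contra d
    have e1 := (h ψ a).resolve_left fun e => d (Nat.dvd_one.1 (e ▸ c))
    have e2 := ((Nat.dvd_prime hp).1 (e1 ▸ c)).resolve_left d
    have e3 := gallagher_irrOn le_top hn (irrOn_of_mem a).charOn hl.irrOn
      (invOn_of_eq_mul le_top hn hi.classOn hi.one_ne_zero h4) ((hθ.congr fun z hz =>
        (((irrOn_of_mem a).charOn.mono le_top).eq_of_dot_of_deg hθ b (by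
          rw [hθ.one_eq, (irrOn_of_mem a).one_eq, e1, e2]) z hz).symm).lin_mul hl) hi (by
      rw [dot_congr_left (φ' := β 1 • _) h4, dot_smul_left, hl.irrOn.dot_self, mul_one]
      exact hi.one_ne_zero)
    have e4 := h _ (mem_Irr_top.2 (irrOn_top.1 e3))
    rw [charDegree_of_eq (n := p * p) (by
      rw [Pi.mul_apply, hi.one_eq, (irrOn_of_mem a).one_eq, hd, e1, Nat.cast_mul])] at e4
    have := hp.one_lt
    rcases e4 with e4 | e4 <;> nlinarith
  refine core hp _ hab hZ (h1.to_le (commutator_le_of_sup h2 ((sup_comm _ _).trans h3) (nrm_of_normal ⊤ P)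
    (nrm_of_normal ⊤ P) fun g _ x hx => P.mul_mem (Normal.conj_mem ‹_› x hx g) (P.inv_mem hx)))
    (fun θ hθ => ?_) fun g hg => ?_
  · obtain ⟨ψ, a, b⟩ := (irrOn_of_mem hθ).exists_over le_top
    have c := clifford_deg le_top hn (irrOn_of_mem a) (irrOn_of_mem hθ) b
    rw [relIndex_top_right] at c
    have d : (inertia ⊤ (charCenter β) θ).index ∣ charDegree ψ := c ▸ (dvd_mul_right _ _).mul_left _
    rcases h ψ a with e | e <;> rw [e] at d
    exacts [.inl (Nat.dvd_one.1 d), (Nat.dvd_prime hp).1 d]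
  by_contra! h5
  have : IsMulCommutative (charCenter β) := ⟨⟨fun x y => Subtype.ext (hab x x.2 y y.2)⟩⟩
  have h6 := Core.isMulCommutative_sup_of_le_centralizer (H := zpowers g) (K := charCenter β)
    (zpowers_le.2 (Amalg.mem_centralizer_comm.2 fun z hz => (h5 z hz).symm))
  have h7 : ∀ a ∈ zpowers g ⊔ charCenter β, ∀ b ∈ zpowers g ⊔ charCenter β, a * b = b * a :=
    fun a ha b hb => Coprime.mul_comm_of_mem ha hb
  refine h0 ⟨_, (nrm_of_commutator_le le_top (hle.trans le_sup_right)).normal, h7,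
    ((Nat.dvd_prime hp).1 (pow_one p ▸ dvd_of_lt hp (right_lt_sup.2 (zpowers_le.not.2 hg)) hZ.dvd)).resolve_left
      fun e => ?_⟩
  obtain ⟨a, b, c⟩ := hG
  exact c (h7 a ((index_eq_one.1 e).ge trivial) b ((index_eq_one.1 e).ge trivial))

end Cfsg.Agent.S4459
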