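import Cfsg.Statements.S4460
import Cfsg.Agent.Lib.Clifford.Cd3

set_option autoImplicit false
open Cfsg

namespace Cfsg.Agent.S4460

open Cfsg.Lib Cfsg.Lib.Clifford Cfsg.Lib.Char Finset Subgroup
open scoped commutatorElement

/-- A finite group with exactly three distinct irreducible character degrees is solvable of derived length at most 3: its third derived subgroup is trivial. -/
theorem result {G : Type*} [Group G] [Finite G] (hcd : Nat.card {n : ℕ // ∃ χ : Cfsg.IrrCharacter G, Cfsg.charDegree (χ : G → ℂ) = n} = 3) : derivedSeries G 3 = ⊥ := by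
---
  obtain ⟨a, b, c, -, -, -, h⟩ := Set.ncard_eq_three.1
    (show {n : ℕ | ∃ χ : IrrCharacter G, charDegree (χ : G → ℂ) = n}.ncard = 3 from hcd)
  have h1 : ∀ d, IsCd (⊤ : Subgroup G) d → d = a ∨ d = b ∨ d = c := fun d hd => h.le (isCd_top.1 hd)
  rcases h1 1 ((linOn_one (⊤ : Subgroup G)).deg ▸ (irrOn_one ⊤).isCd) with rfl | rfl | rfl
  exacts [dl_three h1, dl_three (m := a) (n := c) fun d hd => by have := h1 d hd; omega,
    dl_three (m := a) (n := b) fun d hd => by have := h1 d hd; omega]

end Cfsg.Agent.S4460
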