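import Cfsg.Statements.S4461
import Cfsg.Agent.Lib.Clifford.PBlk
import Cfsg.Agent.Lib.Core.Fitting
import Cfsg.Agent.Lib.Amalg.Ops

set_option autoImplicit false
open Cfsg

namespace Cfsg.Agent.S4461

open Cfsg.Lib Cfsg.Lib.Clifford Cfsg.Lib.Char Finset Subgroup
open scoped commutatorElement

theorem key {G : Type*} [Group G] [Finite G] {χ : G → ℂ} (hχ : IrrOn ⊤ χ) {K H : Subgroup G} [K.Normal]
    (hK : ∀ g, g ∈ K ↔ χ g = χ 1) (hH : IsCoatom H) (h : ¬ K ≤ H)
    (h0 : ∀ ψ ∈ Irr (⊤ : Subgroup G), charDegree χ < charDegree ψ → ¬ kerOn ⊤ ψ < K) :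
    K ⊔ H = ⊤ ∧ ∀ x ∈ H, χ x ≠ 0 → x ∈ H.normalCore := by
  have hs : ∀ L, ¬ L ≤ H → L ⊔ H = ⊤ := fun L hL => hH.2 _ (right_lt_sup.2 hL)
  have hi := hχ.res_of_triv_sup K (fun x hx => (hK x).1 hx) (hs K h)
  have h1 : ∀ ψ ∈ Irr (⊤ : Subgroup G), dot H χ ψ ≠ 0 → ∀ x ∈ H, ψ x = χ x := fun ψ hψ hd => by
    have hc := (irrOn_of_mem hψ).charOn
    have hd := dot_eq_zero_comm.not.1 hd
    by_contra h1
    have := hc.classOn.nrm_kerOn.normal
    have h2 : kerOn ⊤ ψ ≤ H := by
      by_contra h2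
      exact h1 (((irrOn_of_mem hψ).res_of_triv_sup _ triv_kerOn (hs _ h2)).eq_of_dot_ne_zero hi hd)
    refine h0 ψ hψ (lt_of_le_of_ne ((hc.mono le_top).deg_le_of_dot hi hd) fun e => h1
      ((hc.mono le_top).eq_of_dot_of_deg hi hd (by rw [hc.one_eq, hχ.one_eq, e])))
      (lt_of_le_of_ne (fun x hx => (hK x).2 ?_) fun e => h (e ▸ h2))
    exact (hc.mono le_top).eq_of_dot hi hd (h2 hx) (triv_kerOn x hx)
  refine ⟨hs K h, fun x hx hx0 => ?_⟩
  have h2 : ∀ y ∈ H, ind H ⊤ 1 y * χ y = (∑ ψ ∈ Irr ⊤, dot H χ ψ) * χ y := fun y hy => by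
    rw [← Pi.mul_apply, ← ind_of_classOn le_top hχ.classOn, ind_eq_sum le_top, Finset.sum_apply, sum_mul]
    refine sum_congr rfl fun ψ hψ => ?_
    rcases eq_or_ne (dot H χ ψ) 0 with e | e
    · simp [e]
    · rw [Pi.smul_apply, h1 ψ hψ e y hy, smul_eq_mul]
  have hc := (charOn_one H).ind (le_top : H ≤ ⊤)
  have := hc.classOn.nrm_kerOn.normal
  exact normal_le_normalCore.2 (((charOn_one H).kerOn_ind_le one_ne_zero).trans kerOn_le)
    (hc.mem_kerOn.2 ⟨trivial, (mul_right_cancel₀ hx0 (h2 x hx)).trans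
      (mul_right_cancel₀ hχ.one_ne_zero (h2 1 H.one_mem)).symm⟩)

/-- Let χ be an irreducible character of the finite group G and K its kernel (the elements where χ takes the value χ(1)). Suppose either that K is not contained in the Fitting subgroup F(G), or that K = F(G) with G/K solvable and K ≠ G. Then there is an irreducible character ψ of G with ψ(1) > χ(1) whose kernel is properly contained in K. -/
theorem result {G : Type*} [Group G] [Finite G] (χ : Cfsg.IrrCharacter G) (K : Subgroup G) [K.Normal] (hK : (∀ g : G, g ∈ K ↔ (χ : G → ℂ) g = (χ : G → ℂ) 1)) (h : ¬ K ≤ Cfsg.fittingSubgroup G ∨ (K = Cfsg.fittingSubgroup G ∧ Group.IsSolvable (G ⧸ K) ∧ K ≠ ⊤)) : ∃ ψ : Cfsg.IrrCharacter G, Cfsg.charDegree (χ : G → ℂ) < Cfsg.charDegree (ψ : G → ℂ) ∧ ∃ L : Subgroup G, (∀ g : G, g ∈ L ↔ (ψ : G → ℂ) g = (ψ : G → ℂ) 1) ∧ L < K := by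
  classical
  have hχ := irrOn_top.2 χ.2
  by_contra hn
  have h0 : ∀ ψ ∈ Irr (⊤ : Subgroup G), charDegree χ.1 < charDegree ψ → ¬ kerOn ⊤ ψ < K :=
    fun ψ hψ h1 h2 => hn ⟨⟨ψ, mem_Irr_top.1 hψ⟩, h1, _, fun g => by
      rw [(irrOn_of_mem hψ).charOn.mem_kerOn, and_iff_right (mem_top g)], h2⟩
  rcases h with h | ⟨rfl, h1, h2⟩
  · refine h (Core.le_fitting (Core.isNilpotent_iff_sylow_normal.2 fun p _ P => ?_))
    have hP := Amalg.syl_of_sylow P
    by_contra h1
    obtain ⟨H, hH, h2⟩ := (eq_top_or_exists_le_coatom (normalizer ((P : Subgroup K).map K.subtype : Set G))).resolve_left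
      fun e => h1 (by
        have := (normalizer_eq_top_iff.1 e).subgroupOf K
        rwa [Amalg.map_subtype_subgroupOf] at this)
    have h3 := hP.frattini le_top Amalg.le_normalizer_of_normal'
    rw [top_inf_eq] at h3
    have h4 : ¬ K ≤ H := fun h4 => hH.1 (top_le_iff.1 (h3 ▸ sup_le h4 h2))
    have h5 := (key hχ hK hH h4 h0).2
    have h6 := (hP.of_le (le_inf hP.le fun x hx => h5 x (h2 (le_normalizer hx))
      (((hK x).1 (hP.le hx)).trans_ne hχ.one_ne_zero)) inf_le_left).frattini le_top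
      Amalg.le_normalizer_of_normal'
    exact hH.1 (top_le_iff.1 (h6 ▸ sup_le (inf_le_right.trans H.normalCore_le) (inf_le_right.trans h2)))
  · have := Core.isNilpotent_fitting G
    have := Core.isSolvable_of_normal_of_quotient (fittingSubgroup G)
    have h3 : ⁅fittingSubgroup G, fittingSubgroup G⁆ ≤ frattini G := by
      rw [← map_subtype_commutator]
      exact (map_mono Core.commutator_le_frattini_of_nilpotent).trans (Core.frattiniOf_le_frattini _)
    have h4 : ∀ x, χ.1 x ≠ 0 → x ∈ fittingSubgroup G := fun x hx => by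
      rw [← Core.comap_fitting_quotient_of_le_frattini (frattini G) le_rfl]
      refine Core.centralizer_fitting_le (Amalg.mem_centralizer_comm.2 fun y hy => ?_)
      rw [← Core.map_fitting_quotient_of_le_frattini (frattini G) le_rfl] at hy
      obtain ⟨y, hy, rfl⟩ := hy
      rw [← commutatorElement_eq_one_iff_mul_comm, ← map_commutatorElement, QuotientGroup.mk'_apply,
        QuotientGroup.eq_one_iff, Core.mem_frattini_iff]
      intro H hH
      by_cases h4 : fittingSubgroup G ≤ H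
      · exact h4 (commutator_le_left _ ⊤ (commutator_mem_commutator hy trivial))
      obtain ⟨h5, h6⟩ := key hχ hK hH h4 h0
      obtain ⟨k, hk, a, ha, rfl⟩ := (Amalg.mem_sup_of_le_normalizer' Amalg.le_normalizer_of_normal').1
        (h5 ▸ mem_top x)
      rw [Triv.mul_left (fun z hz => (hK z).1 hz) hχ.charOn le_top hk trivial] at hx
      rw [show ⁅y, k * a⁆ = ⁅y, k⁆ * (k * ⁅y, a⁆ * k⁻¹) by simp [commutatorElement_def, mul_assoc]]
      exact H.mul_mem (Core.mem_frattini_iff.1 (h3 (commutator_mem_commutator hy hk)) H hH)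
        (H.normalCore_le (H.normalCore_normal.conj_mem _ (commutator_le_right ⊤ _
          (commutator_mem_commutator trivial (h6 a ha hx))) k))
    have h5 := dot_of_supp (le_top : fittingSubgroup G ≤ ⊤) (fun x _ hx => not_not.1 (mt (h4 x) hx)) 1
    rw [Triv.dot_one fun z hz => (hK z).1 hz] at h5
    have h6 := hχ.eq_of_dot_ne_zero (irrOn_one ⊤) fun e => hχ.one_ne_zero (by rw [h5, e, mul_zero])
    exact h2 (eq_top_iff.2 fun x _ => h4 x ((h6 x trivial).trans_ne one_ne_zero))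

end Cfsg.Agent.S4461
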