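import Cfsg.Statements.S4462
import Cfsg.Agent.S4461

set_option autoImplicit false
open Cfsg

namespace Cfsg.Agent.S4462

open Cfsg.Lib Cfsg.Lib.Clifford Cfsg.Lib.Char Finset Subgroup
open scoped commutatorElement

open Classical in
theorem aux.{u} (n : ℕ) : ∀ (G : Type u) [Group G] [Finite G] [Group.IsSolvable G],
    ((Irr (⊤ : Subgroup G)).image charDegree).card ≤ n ∨ Subsingleton G →
    ∃ N : ℕ → Subgroup G, N 0 = ⊥ ∧ N n = ⊤ ∧ Monotone N ∧ (∀ i, (N i).Normal) ∧
      ∀ i, ∃ c, (N (i + 1)).lowerCentralSeries c ≤ N i := by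
  induction n with
  | zero =>
    intro G _ _ _ h
    have := h.resolve_left fun h => (card_pos.2 (Nonempty.image ⟨_, cut_one_mem ⊤⟩ _)).not_ge h
    exact ⟨fun _ => ⊥, rfl, Subsingleton.elim _ _, monotone_const, fun _ => inferInstance, fun _ => ⟨0, le_rfl⟩⟩
  | succ n ih =>
    intro G _ _ _ h
    have := Core.fitting_normal G
    have hf := QuotientGroup.mk'_surjective (fittingSubgroup G)
    obtain ⟨N, h0, h1, h2, h3, h4⟩ := ih (G ⧸ fittingSubgroup G) (by
      rcases eq_or_ne (fittingSubgroup G) ⊤ with e | e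
      · exact .inr (QuotientGroup.subsingleton_iff.2 e)
      obtain ⟨β, hβ, hb⟩ := exists_max_image (Irr (⊤ : Subgroup G)) charDegree ⟨_, cut_one_mem ⊤⟩
      have h := h.resolve_right fun _ => e (Subsingleton.elim _ _)
      refine .inl (Nat.lt_succ_iff.1 ((card_lt_card ⟨fun d hd => ?_, fun hs => ?_⟩).trans_le h))
      · obtain ⟨χ, hχ, rfl⟩ := mem_image.1 hd
        exact mem_image.2 ⟨_, mem_Irr_top.2
          ((mem_Irr_top.1 hχ).comp _ hf), by simp [charDegree]⟩
      obtain ⟨χ, hχ, e1⟩ := mem_image.1 (hs (mem_image_of_mem _ hβ))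
      have hi := (mem_Irr_top.1 hχ).comp _ hf
      have := (irrOn_top.2 hi).classOn.nrm_kerOn.normal
      obtain ⟨ψ, h1, -⟩ := S4461.result ⟨_, hi⟩ (kerOn ⊤ _) (fun g => by
        rw [(irrOn_top.2 hi).charOn.mem_kerOn, and_iff_right (mem_top g)]) (or_iff_not_imp_left.2 fun h1 => by
          have e2 := le_antisymm (not_not.1 h1) fun x hx => (irrOn_top.2 hi).charOn.mem_kerOn.2
            ⟨trivial, by simp [(QuotientGroup.eq_one_iff x).2 hx]⟩
          exact ⟨e2, inferInstance, e2.trans_ne e⟩)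
      refine (hb _ (mem_Irr_top.2 ψ.2)).not_gt (e1 ▸ ?_)
      simpa [charDegree] using h1)
    refine ⟨fun i => Nat.casesOn i ⊥ fun j => (N j).comap (QuotientGroup.mk' _), rfl, by simp [h1],
      monotone_nat_of_le_succ fun i => ?_, fun i => ?_, fun i => ?_⟩
    · cases i
      exacts [bot_le, comap_mono (h2 (Nat.le_succ _))]
    · cases i
      exacts [normal_bot, (h3 _).comap _]
    · cases i with
      | zero =>
        obtain ⟨c, hc⟩ := (isNilpotent_iff_lowerCentralSeries _).1 (Core.isNilpotent_fitting G)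
        exact ⟨c, by simp [h0, hc]⟩
      | succ i =>
        obtain ⟨c, hc⟩ := h4 i
        exact ⟨c, map_le_iff_le_comap.1 (by
          rwa [map_lowerCentralSeries, map_comap_eq_self_of_surjective hf])⟩

/-- Let G be a finite solvable group with exactly n distinct irreducible character degrees. Then G has normal subgroups 1 = N₀ ≤ N₁ ≤ ⋯ ≤ Nₙ = G with every quotient N_{i+1}/N_i nilpotent (the nilpotent length of G is at most n). -/
theorem result {G : Type*} [Group G] [Finite G] (hsolv : Group.IsSolvable G) (n : ℕ) (hcd : Nat.card {d : ℕ // ∃ χ : Cfsg.IrrCharacter G, Cfsg.charDegree (χ : G → ℂ) = d} = n) : ∃ N : Fin (n + 1) → Subgroup G, N 0 = ⊥ ∧ N (Fin.last n) = ⊤ ∧ Monotone N ∧ (∀ i, (N i).Normal) ∧ ∀ i : Fin n, ∀ h : (N i.castSucc).subgroupOf (N i.succ) |>.Normal, Group.IsNilpotent (↥(N i.succ) ⧸ (N i.castSucc).subgroupOf (N i.succ)) := by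
  classical
  obtain ⟨N, h0, h1, h2, h3, h4⟩ := aux n G (.inl (by
    rw [← hcd, ← Nat.card_eq_finsetCard]
    exact (Nat.card_congr (Equiv.subtypeEquivRight fun d => by
      simp only [mem_image, mem_Irr_top]
      exact ⟨fun ⟨χ, a, b⟩ => ⟨⟨χ, a⟩, b⟩, fun ⟨χ, b⟩ => ⟨χ.1, χ.2, b⟩⟩)).le))
  refine ⟨fun i => N i, h0, h1, fun i j h => h2 h, fun i => h3 i, fun i _ => ?_⟩
  obtain ⟨c, hc⟩ := h4 i
  refine Subgroup.nilpotent_iff_lowerCentralSeries.2 ⟨c, ?_⟩
  rw [← map_top_of_surjective _ (QuotientGroup.mk'_surjective _), ← map_lowerCentralSeries,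
    Subgroup.map_eq_bot_iff, QuotientGroup.ker_mk', subgroupOf, ← map_le_iff_le_comap, top_subtype_lowerCentralSeries]
  exact hc

end Cfsg.Agent.S4462
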