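import Cfsg.Statements.S4464
import Cfsg.Agent.Lib.Clifford.Thompson
import Cfsg.Agent.Lib.Amalg.Syl

set_option autoImplicit false
open Cfsg

namespace Cfsg.Agent.S4464

open Cfsg.Lib Cfsg.Lib.Clifford Cfsg.Lib.Char Finset

theorem card_mul_mult {G : Type*} [Group G] [Finite G] (P N : Subgroup G) :
    Nat.card N * Nat.card P * mult P (ind N ⊤ 1) 1 =
      ∑ g ∈ elems ⊤, Nat.card (P ⊓ Transfer.cj g N : Subgroup G) := by
  classical
  rw [← Nat.cast_inj (R := ℂ)]
  push_cast
  rw [← (((charOn_one N).ind le_top).mono le_top).dot_eq_mult (charOn_one P), dot, mul_assoc,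
    mul_inv_cancel_left₀ (Clifford.card_ne_zero P), mul_sum]
  simp only [ind_apply, Pi.one_apply, map_one, mul_one, mul_inv_cancel_left₀ (Clifford.card_ne_zero N)]
  rw [sum_comm]
  refine sum_congr rfl fun g _ => ?_
  rw [← card_elems, show elems (P ⊓ Transfer.cj g N) = (elems P).filter (· ∈ Transfer.cj g N) by
    ext; simp [mem_elems], card_filter]
  push_cast
  refine sum_congr rfl fun x _ => ?_
  split_ifs with h
  · exact cut_of_mem _ (Amalg.mem_cj.1 h)
  · exact cut_of_notMem _ (Amalg.mem_cj.not.1 h)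

/-- Let p be a prime and G a finite group all of whose irreducible character degrees are less than p. Then G has a normal abelian Sylow p-subgroup. -/
theorem result {G : Type*} [Group G] [Finite G] (p : ℕ) (hp : p.Prime) (hb : ∀ χ : Cfsg.IrrCharacter G, Cfsg.charDegree (χ : G → ℂ) < p) : ∃ P : Subgroup G, P.Normal ∧ (∀ x ∈ P, ∀ y ∈ P, x * y = y * x) ∧ IsPGroup p P ∧ ¬ p ∣ P.index := by
  classical
  have := Fact.mk hp
  obtain ⟨P, hP⟩ := Amalg.exists_syl p (⊤ : Subgroup G)
  have hd : ∀ χ ∈ Irr (⊤ : Subgroup G), charDegree χ < p := fun χ h => hb ⟨χ, mem_Irr_top.1 h⟩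
  have hn : P.Normal := by
    set N := Subgroup.normalizer (P : Set G)
    have hπ := (charOn_one N).ind (le_top : N ≤ ⊤)
    have hρ := (charOn_one P).ind (le_top : P ≤ ⊤)
    have h1 : mult ⊤ (ind N ⊤ 1) (cut ⊤ 1) = 1 := mult_of_eq (by
      rw [dot_cut_right, dot_ind_left le_top _ (classOn_one _), (irrOn_one N).dot_self, Nat.cast_one])
    have h2 : p * (Nat.card N * Nat.card P * mult P (ind N ⊤ 1) 1) + Nat.card N * Nat.card P ≤
        p * (Nat.card N * Nat.card P) + Nat.card N * N.index * Nat.card P := by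
      have e1 : (elems ⊤ \ elems N).card + Nat.card N = Nat.card N * N.index := by
        rw [← card_elems, card_sdiff_add_card_eq_card (elems_mono le_top), card_elems, card_elems,
          Subgroup.card_top, N.card_mul_index]
      have e2 : ∑ g ∈ elems ⊤ \ elems N, p * Nat.card (P ⊓ Transfer.cj g N : Subgroup G) ≤
          (elems ⊤ \ elems N).card * Nat.card P := sum_le_card_nsmul _ _ _ fun g hg => by
        obtain ⟨a, ha⟩ := hP.isPGroup.index ((P ⊓ Transfer.cj g N).subgroupOf P)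
        rw [← card_mul_relIndex (inf_le_left : P ⊓ Transfer.cj g N ≤ P), mul_comm, Subgroup.relIndex, ha]
        refine Nat.mul_le_mul_left _ (Nat.le_self_pow ?_ p)
        rintro rfl
        refine (mem_sdiff.1 hg).2 (mem_elems.2 (Amalg.cj_eq_self_iff.1 (hP.eq_of_le _
          ((hP.conj_top g).le_of_le_normalizer' hP.isPGroup le_top ?_) le_top (hP.conj_top g).isPGroup)))
        rw [← Amalg.cj_normalizer]
        exact (Subgroup.subgroupOf_eq_top.1 (Subgroup.index_eq_one.1 ha)).trans inf_le_right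
      have e3 : ∑ g ∈ elems N, p * Nat.card (P ⊓ Transfer.cj g N : Subgroup G) ≤
          (elems N).card * (p * Nat.card P) := sum_le_card_nsmul _ _ _ fun g _ =>
        Nat.mul_le_mul_left _ (Subgroup.card_le_of_le inf_le_left)
      rw [card_mul_mult, mul_sum, ← sum_sdiff (elems_mono (le_top : N ≤ ⊤)), ← e1]
      rw [card_elems] at e3
      nlinarith
    have h3 : ∑ χ ∈ Irr ⊤, mult ⊤ (ind N ⊤ 1) χ ≤ mult P (ind N ⊤ 1) 1 := by
      rw [← mult_of_eq (H := ⊤) (φ := ind N ⊤ 1) (ψ := ind P ⊤ 1) (n := mult P (ind N ⊤ 1) 1) (by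
        rw [dot_ind_right le_top hπ.classOn, (hπ.mono le_top).dot_eq_mult (charOn_one P)]),
        hπ.mult_eq_sum hρ]
      refine sum_le_sum fun χ hχ => ?_
      have hc := (irrOn_of_mem hχ).charOn
      rcases eq_or_ne (mult ⊤ (ind N ⊤ 1) χ) 0 with h | h
      · simp [h]
      refine Nat.le_mul_of_pos_right _ (Nat.pos_of_ne_zero ((hρ.mult_ne_zero hc).2 ?_))
      rw [hπ.mult_ne_zero hc, dot_ind_left le_top _ hc.classOn] at h
      rw [dot_ind_left le_top _ hc.classOn]
      exact dot_eq_zero_comm.not.1 ((hc.mono le_top).dot_ne_zero_trans Subgroup.le_normalizer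
        (irrOn_one N) (charOn_one P) (dot_eq_zero_comm.not.1 h)
        (by rw [(irrOn_one P).dot_self]; exact one_ne_zero))
    have h4 := hπ.deg_eq_sum
    rw [(charOn_one N).deg_ind le_top, (linOn_one N).deg, mul_one, Subgroup.relIndex_top_right,
      ← add_sum_erase _ _ (cut_one_mem ⊤), h1, (linOn_cut.2 (linOn_one ⊤)).deg] at h4
    rw [← add_sum_erase _ _ (cut_one_mem ⊤), h1] at h3
    have h5 : ∑ χ ∈ (Irr ⊤).erase (cut ⊤ 1), mult ⊤ (ind N ⊤ 1) χ * charDegree χ +
        ∑ χ ∈ (Irr ⊤).erase (cut ⊤ 1), mult ⊤ (ind N ⊤ 1) χ ≤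
        p * ∑ χ ∈ (Irr ⊤).erase (cut ⊤ 1), mult ⊤ (ind N ⊤ 1) χ := by
      rw [← sum_add_distrib, mul_sum]
      refine sum_le_sum fun χ hχ => ?_
      have := hd χ (mem_erase.1 hχ).2
      nlinarith
    have h6 : p * mult P (ind N ⊤ 1) 1 + 1 ≤ p + N.index := by
      refine Nat.le_of_mul_le_mul_left (c := Nat.card N * Nat.card P) ?_ (Nat.mul_pos Nat.card_pos Nat.card_pos)
      nlinarith
    have h7 : ∑ χ ∈ (Irr ⊤).erase (cut ⊤ 1), mult ⊤ (ind N ⊤ 1) χ = 0 := by
      have := Nat.mul_le_mul_left p h3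
      rw [mul_add] at this
      omega
    rw [h7] at h5
    exact Subgroup.normalizer_eq_top_iff.1 (Subgroup.index_eq_one.1 (by omega : N.index = 1))
  exact ⟨P, hn, comm_of_not_dvd_deg hP.isPGroup fun θ hθ => not_dvd_deg_of_nrm le_top
    (nrm_of_normal ⊤ P) (fun χ hχ => Nat.not_dvd_of_pos_of_lt (irrOn_of_mem hχ).deg_pos (hd χ hχ))
    (irrOn_of_mem hθ), hP.isPGroup, hP.not_dvd_index⟩

end Cfsg.Agent.S4464
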