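import Cfsg.Statements.S4466
import Cfsg.Agent.Lib.Clifford.JustNab
import Cfsg.Agent.S4441
import Cfsg.Agent.Lib.Block2.Frob

set_option autoImplicit false
open Cfsg

namespace Cfsg.Agent.S4466

open Cfsg.Lib Cfsg.Lib.Clifford Cfsg.Lib.Char Finset Subgroup
open scoped commutatorElement

theorem syl {G : Type*} [Group G] [Finite G] (hZ : center G = ⊥) {χ : G → ℂ} (hχ : IsIrrCharacter G χ)
    (hf : charKer χ = ⊥) {q : ℕ} [hq : Fact q.Prime] (hd : charDegree χ = q) (P : Sylow q G) : Nat.card P = q := by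
  have hi := irrOn_top.2 hχ
  have hc := hi.charOn.mono (le_top (a := (P : Subgroup G)))
  have h0 : ∀ z ∈ (P : Subgroup G), (∀ y ∈ (P : Subgroup G), y * z = z * y) → z ≠ 1 → χ z = 0 := fun z h1 h2 h3 =>
    (hχ.eq_zero_or_norm_eq_of_coprime (hd ▸ hi.one_eq) ((Nat.Prime.coprime_iff_not_dvd hq.out).2 fun h =>
      P.not_dvd_index (h.trans (index_dvd_of_le fun y hy => mem_centralizer_singleton_iff.2 (h2 y hy))))).resolve_right
      fun h => h3 (mem_bot.1 (hZ.le ((hχ.charCenter_eq_center hf).le (hχ.mem_charCenter.2 h))))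
  have hP : q ∣ Nat.card P := P.dvd_card_of_dvd_card (hd ▸ hχ.charDegree_dvd_card)
  have hab : ∀ a ∈ (P : Subgroup G), ∀ b ∈ (P : Subgroup G), a * b = b * a := fun a ha b hb => by
    refine commutatorElement_eq_one_iff_mul_comm.1 (mem_bot.1 (hf.le (hχ.mem_charKer.2 (hc.classOn.eq_of_forall
      (Clifford.commutator_le_self _ (commutator_mem_commutator ha hb)) fun θ h1 h2 => ?_))))
    have h1 := irrOn_of_mem h1
    obtain ⟨k, hk⟩ := P.isPGroup'.exists_card_eq
    obtain ⟨_ | j, -, e⟩ := (Nat.dvd_prime_pow hq.out).1 (hk ▸ h1.deg_dvd_card)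
    · exact h1.linOn_iff.1 (h1.charOn.linOn_of_deg e) _ (commutator_mem_commutator ha hb)
    have h3 := hc.eq_of_dot_of_deg h1 h2 (by
      rw [hi.one_eq, h1.one_eq, (hc.deg_le_of_dot h1 h2).antisymm (by
        rw [hd, e]; exact Nat.le_self_pow j.succ_ne_zero q)])
    have : Nontrivial P := Finite.one_lt_card_iff_nontrivial.1 (hq.out.one_lt.trans_le (Nat.le_of_dvd Nat.card_pos hP))
    obtain ⟨⟨z, h4⟩, h5⟩ := @exists_ne _ P.isPGroup'.center_nontrivial 1
    have h7 : IsIrrCharacter P (res P θ) := h1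
    have h6 := h7.mem_charCenter.1 (h7.center_le_charCenter h4)
    change ‖θ z‖ = ‖θ 1‖ at h6
    rw [← h3 _ z.2, h0 _ z.2 (fun y hy => congrArg Subtype.val (mem_center_iff.1 h4 ⟨y, hy⟩))
      fun e => h5 (Subtype.ext (Subtype.ext e)), norm_zero, eq_comm, norm_eq_zero] at h6
    exact (h1.one_ne_zero h6).elim
  have h1 := dot_of_supp (H := ⊥) (K := P) bot_le (fun x hx h => h0 x hx (fun y hy => hab y hy x hx) h) 1
  rw [dot_bot, relIndex_bot_left, hc.dot_eq_mult (charOn_one _), hi.one_eq, hd, Pi.one_apply, map_one, mul_one] at h1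
  exact Nat.dvd_antisymm ⟨mult P χ 1, by exact_mod_cast h1⟩ hP

theorem aux {G : Type*} [Group G] [Finite G] [IsSimpleGroup G]
    (h : ∀ χ, IsIrrCharacter G χ → charDegree χ ≠ 1 → (charDegree χ).Prime) : commutator G = ⊥ := by
  by_contra hn
  have hG := (inferInstance : (commutator G).Normal).eq_bot_or_eq_top.resolve_left hn
  have hZ : center G = ⊥ := (inferInstance : (center G).Normal).eq_bot_or_eq_top.resolve_right fun e =>
    hn ((commutator_eq_bot_iff_center_eq_top G).2 e)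
  have h1 : ∀ χ, IsIrrCharacter G χ → charDegree χ = 1 → χ = fun _ => 1 := fun χ hχ e =>
    hχ.charKer_eq_top_iff.1 (top_unique (hG ▸ hχ.degree_eq_one_iff.1 (by rw [← hχ.coe_charDegree, e, Nat.cast_one])))
  have hf : ∀ χ, IsIrrCharacter G χ → charDegree χ ≠ 1 → charKer χ = ⊥ := fun χ hχ e =>
    hχ.charKer_normal.eq_bot_or_eq_top.resolve_right fun e' => e (by
      rw [hχ.charKer_eq_top_iff.1 e']; exact charDegree_of_eq Nat.cast_one.symm)
  have key : ∀ χ, IsIrrCharacter G χ → ∀ q [Fact q.Prime], charDegree χ = q → ∀ P : Sylow q G,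
      ¬ normalizer ((P : Subgroup G) : Set G) ≤ centralizer (P : Set G) := fun χ hχ q hq e P hP => by
    have h2 := syl hZ hχ (hf χ hχ (e ▸ hq.out.ne_one)) e P
    have h3 := MonoidHom.ker_transferSylow_isComplement' P hP
    rcases (inferInstance : (MonoidHom.transferSylow P hP).ker.Normal).eq_bot_or_eq_top with e | e
    · rw [e, isComplement'_bot_left] at h3
      have := isCyclic_of_prime_card (α := G) (p := q) (by rw [← h2, h3, card_top])
      exact hn ((commutator_eq_bot_iff _).2 IsCyclic.isMulCommutative)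
    · rw [e, isComplement'_top_left] at h3
      exact hq.out.ne_one (by rw [← h2, h3, card_bot])
  have h2 : ∀ χ, IsIrrCharacter G χ → charDegree χ ≠ 2 := fun χ hχ e => by
    obtain ⟨P⟩ : Nonempty (Sylow 2 G) := inferInstance
    have h2 := syl hZ hχ (hf χ hχ (by omega)) e P
    have := isCyclic_of_prime_card h2
    have h3 : (Nat.card G).minFac = 2 := (Nat.minFac_eq_two_iff _).2 (h2 ▸ card_subgroup_dvd_card (P : Subgroup G))
    exact key χ hχ 2 e P (IsCyclic.normalizer_le_centralizer h3 this)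
  obtain ⟨χ, h3, h4⟩ := (Irr (⊤ : Subgroup G)).exists_max_image charDegree ⟨_, cut_one_mem _⟩
  have hχ := mem_Irr_top.1 h3
  have h5 : charDegree χ ≠ 1 := fun e => hn ((commutator_eq_bot_iff _).2 ⟨⟨fun a b => comm_of_forall_deg (N := ⊤)
    (fun θ hθ => (e ▸ h4 θ hθ).antisymm (irrOn_of_mem hθ).deg_pos) a trivial b trivial⟩⟩)
  have hp := Fact.mk (h χ hχ h5)
  obtain ⟨M, hM⟩ := Block2.exists_isPModular hp.out
  obtain ⟨P⟩ : Nonempty (Sylow (charDegree χ) G) := inferInstance
  have := Fintype.ofFinite G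
  obtain ⟨X, -, -, -, h6, -, ε, -, h7, -⟩ := S4441.result _ M hM (h2 χ hχ) P (syl hZ hχ (hf χ hχ h5) rfl P) _ rfl
  have h8 : ∀ ψ ∈ X, (ψ : G → ℂ) = fun _ => 1 := fun ψ hψ => h1 _ ψ.2 (by_contra fun e => by
    obtain ⟨a, b, -⟩ := h7 ψ hψ
    have c := h4 _ (mem_Irr_top.2 ψ.2)
    have d := (h _ ψ.2 e).two_le
    have f := (h _ ψ.2 e).eq_two_or_odd.resolve_left (h2 _ ψ.2)
    have g := hp.out.eq_two_or_odd.resolve_left (h2 _ hχ)
    obtain ⟨k, hk⟩ := b.dvd
    have : k = -1 := by rcases a with a | a <;> rw [a] at hk <;> nlinarith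
    rcases a with a | a <;> rw [a, this] at hk <;> omega)
  have : Subsingleton X := ⟨fun a b => Subtype.ext (Subtype.ext ((h8 _ a.2).trans (h8 _ b.2).symm))⟩
  have h9 := Finite.card_le_one_iff_subsingleton.2 this
  have := relIndex_ne_zero (centralizer ((P : Subgroup G) : Set G)) (normalizer ((P : Subgroup G) : Set G))
  exact key χ hχ _ rfl P (relIndex_eq_one.1 ((h6 ▸ h9).antisymm (Nat.pos_of_ne_zero this)))

/-- If every irreducible character of the finite group G of degree greater than one has prime degree, then G is solvable. -/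
theorem result {G : Type*} [Group G] [Finite G] (h : ∀ χ : Cfsg.IrrCharacter G, Cfsg.charDegree (χ : G → ℂ) ≠ 1 → (Cfsg.charDegree (χ : G → ℂ)).Prime) : Group.IsSolvable G := by
  replace h : ∀ χ, IsIrrCharacter G χ → charDegree χ ≠ 1 → (charDegree χ).Prime := fun χ hχ => h ⟨χ, hχ⟩
  induction hc : Nat.card G using Nat.strong_induction_on generalizing G with
  | _ n ih =>
  by_cases hs : ∀ N : Subgroup G, N.Normal → N = ⊥ ∨ N = ⊤
  · rcases subsingleton_or_nontrivial G with _ | _
    · infer_instance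
    have : IsSimpleGroup G := ⟨hs⟩
    exact ⟨1, aux h⟩
  push Not at hs
  obtain ⟨N, _, h1, h2⟩ := hs
  have : Group.IsSolvable N := ih _ (hc ▸ Core.card_lt_of_ne_top h2) (fun θ hθ e => by
    have hi := irrOn_extendByZero.2 hθ
    obtain ⟨χ, h3, h4⟩ := hi.exists_over le_top
    have h5 := deg_dvd_of_dot le_top (nrm_of_normal _ _) (irrOn_of_mem h3) hi h4
    rw [← charDegree_res N, res_extendByZero] at h5
    by_cases h6 : charDegree χ = 1
    · exact (e (Nat.dvd_one.1 (h6 ▸ h5))).elim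
    · have := h χ (mem_Irr_top.1 h3) h6
      rwa [((Nat.dvd_prime this).1 h5).resolve_left e]) rfl
  have : Group.IsSolvable (G ⧸ N) := ih _ (hc ▸ Core.card_quotient_lt h1) (fun ψ hψ => h _ hψ.inflate) rfl
  exact Core.isSolvable_of_normal_of_quotient N

end Cfsg.Agent.S4466
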