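import Cfsg.Statements.S4467
import Cfsg.Agent.Lib.Clifford.PSolLin
import Cfsg.Agent.Lib.Clifford.Berger
import Cfsg.Agent.Lib.Coprime.Glaub
import Cfsg.Agent.Lib.Hall.SylNum
import Cfsg.Agent.Lib.FG.ExtraChar

set_option autoImplicit false
open Cfsg

namespace Cfsg.Agent.S4467

open Cfsg.Lib Cfsg.Lib.Clifford Cfsg.Lib.Char Finset Subgroup
open scoped commutatorElement

variable {Γ : Type*} [Group Γ] [Finite Γ] {p : ℕ} [hp : Fact p.Prime]

theorem glaub_deg {Q T : Subgroup Γ} {θ : Γ → ℂ} {r : ℕ} (hr : r.Prime) (hrp : r ≠ p) (hQ : IsPGroup r Q)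
    (hT : IsPGroup p T) (hn : Nrm T Q) (hθ : IrrOn Q θ) (hi : InvOn T Q θ) (hf : ∀ x ∈ Q, θ x = θ 1 → x = 1)
    (h : ¬ T ≤ centralizer (Q : Set Γ)) :
    ∃ q : ℕ, IsPrimePow q ∧ q ∣ charDegree θ ∧ ((q : ZMod p) = -1 ∨ (q : ZMod p) = 1) := by
  have := Fact.mk hr
  obtain ⟨a, ha⟩ := IsPGroup.iff_card.1 hQ
  have h0 : ¬ p ∣ r := fun h => hrp ((Nat.prime_dvd_prime_iff_eq hp.out hr).1 h).symm
  have h1 : ¬ p ∣ Nat.card Q := fun h => h0 (hp.out.dvd_of_dvd_pow (ha ▸ h))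
  set C := Q ⊓ centralizer (T : Set Γ)
  obtain ⟨β, hβ, h2, h3⟩ := (Coprime.glaub_pgroup hT hn h1).ex θ hθ hi
  have hc := hθ.charOn.mono (inf_le_left : C ≤ Q)
  have hb := irrOn_of_mem hβ
  have h4 : (charDegree θ : ZMod p) = mult C θ β * charDegree β := by
    rw [hc.deg_eq_sum, Nat.cast_sum, sum_eq_single_of_mem β hβ fun γ hγ e => ?_, Nat.cast_mul]
    exact (ZMod.natCast_eq_zero_iff _ _).2 ((h3 γ hγ e).mul_right _)
  have h5 := (hc.mult_ne_zero hb.charOn).1 fun e => Coprime.not_dvd_of_sign h2 (e ▸ dvd_zero p)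
  obtain ⟨i, -, hi'⟩ := (Nat.dvd_prime_pow hr).1 (ha ▸ hθ.deg_dvd_card)
  obtain ⟨j, -, hj⟩ := (Nat.dvd_prime_pow hr).1 (hb.deg_dvd_card.trans (ha ▸ card_dvd_of_le inf_le_left))
  obtain ⟨k, rfl⟩ := Nat.exists_eq_add_of_le ((Nat.pow_le_pow_iff_right hr.one_lt).1
    (hi' ▸ hj ▸ hc.deg_le_of_dot hb h5))
  refine ⟨r ^ k, (isPrimePow_nat_iff _).2 ⟨r, k, hr, Nat.pos_of_ne_zero ?_, rfl⟩, hi' ▸ pow_dvd_pow r le_add_self, ?_⟩
  · rintro rfl
    have h6 := hb.congr fun x hx => (hc.eq_of_dot_of_deg hb h5 (by rw [hθ.one_eq, hb.one_eq, hi', hj]; rfl) x hx).symm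
    obtain ⟨b, e⟩ := BG1.relIndex_sup_eq_pow hp.out hT hn.le_normalizer
    have hN := (nrm_self Q).le_normalizer
    obtain ⟨η, h7, h8⟩ := exists_ext_of_hall le_sup_left (nrm_of_le_normalizer (sup_le hN hn.le_normalizer)) hθ
      (Coprime.invOn_sup (nrm_self Q) hn hθ.classOn hi) (e ▸ ((Nat.Prime.coprime_iff_not_dvd hp.out).2 h1).pow_left b)
    have h9 := (irrOn_of_mem h7).charOn
    refine h fun t ht y hy => ?_
    have hle : C ⊔ zpowers t ≤ Q ⊔ T := sup_le_sup inf_le_left (zpowers_le_of_mem ht)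
    obtain ⟨c, c1, c2⟩ := FG.irr_central ((h9.mono hle).irrOn_of_res le_sup_left (h6.congr fun x hx =>
      (h8 x hx.1).symm)) (mem_sup_right (mem_zpowers t)) (le_centralizer_iff.1 (sup_le (fun x hx z hz => by
        obtain ⟨m, rfl⟩ := hz; exact hx.2 _ (zpow_mem ht m)) (le_centralizer _)) (mem_zpowers t))
    have c3 := Cfsg.IsCharacter.commutator_mem_charKer h9 ((Cfsg.IsCharacter.mem_charCenter h9
      (x := ⟨t, mem_sup_right ht⟩)).2 (show ‖η t‖ = ‖η 1‖ by simpa [c1] using congrArg norm (c2 1 (one_mem _)))) ⟨y, mem_sup_left hy⟩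
    have c4 : t * y * t⁻¹ * y⁻¹ ∈ Q := mul_mem (hn t ht y hy) (inv_mem hy)
    refine (mul_inv_eq_iff_eq_mul.1 (mul_inv_eq_one.1 (hf _ c4 ?_))).symm
    rw [← h8 _ c4, ← h8 1 (one_mem _)]
    exact (congrArg _ (mul_one _)).symm.trans (c3 1)
  · rw [hi', hj, pow_add, Nat.cast_mul, mul_comm, mul_left_inj' (by
      rw [Ne, ZMod.natCast_eq_zero_iff]; exact fun h => h0 (hp.out.dvd_of_dvd_pow h))] at h4
    exact h4 ▸ h2.symm

theorem aux [Group.IsSolvable Γ] {χ : Γ → ℂ} (hχ : IrrOn ⊤ χ) (hf : ∀ x, χ x = χ 1 → x = 1)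
    (hd : ¬ p ∣ charDegree χ) (hg : pElementClosure p (⊤ : Subgroup Γ) = ⊤) (hp' : ¬ IsPGroup p Γ) :
    ∃ q : ℕ, IsPrimePow q ∧ q ∣ charDegree χ ∧ ((q : ZMod p) = -1 ∨ (q : ZMod p) = 1) := by
  have key : ∀ {P N : Subgroup Γ}, Amalg.Syl p P ⊤ → P ≤ N → N.Normal → N = ⊤ := fun hP h _ =>
    top_unique (hg.ge.trans (hP.pec_le h Amalg.le_normalizer_of_normal'))
  by_cases h : IndFrom ⊥ ⊤ χ
  · obtain ⟨H, -, h1, h2, ψ, h3, h4⟩ := h.exists_maximal hχ
    obtain ⟨C, K, -, c1, c2, -, c3, c4, c5⟩ := exists_core_chief bot_le (nrm_of_normal _ _) h1 h2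
      (solvMod_of_isSolvable _ _)
    have := c2.nL.normal
    have := c2.nK.normal
    obtain ⟨r, hr, -, k, -, hk⟩ := c2.exists_prime c5
    have h5 : Nat.card (K.map (QuotientGroup.mk' C)) ∣ charDegree χ := by
      rw [Hall.card_map_mk', ← c4, inf_relIndex_right, ← charDegree_of_eq ((congrFun (h4.trans (cut_top χ)) 1).trans
        hχ.one_eq), (irrOn_of_mem h3).charOn.deg_ind le_top, ← c3, sup_comm,
        Hall.relIndex_sup_eq le_rfl Amalg.le_normalizer_of_normal']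
      exact dvd_mul_right _ _
    obtain ⟨P, hP⟩ := Amalg.exists_syl p H
    have hP' := hP.of_le_of_not_dvd le_top fun h => hd (h.trans (by
      rw [← charDegree_of_eq ((congrFun (h4.trans (cut_top χ)) 1).trans hχ.one_eq),
        (irrOn_of_mem h3).charOn.deg_ind le_top]; exact dvd_mul_right _ _))
    have h6 := Hall.relIndex_centralizer_modEq (hP.isPGroup.map (QuotientGroup.mk' C))
      Amalg.le_normalizer_of_normal' fun h => hd (h.trans h5)
    have h7 := relIndex_dvd_card (centralizer (P.map (QuotientGroup.mk' C) : Set (Γ ⧸ C))) (K.map (QuotientGroup.mk' C))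
    obtain ⟨j, -, hj⟩ := (Nat.dvd_prime_pow hr).1 (hk ▸ Hall.card_map_mk' K C ▸ h7)
    refine ⟨_, (isPrimePow_nat_iff _).2 ⟨r, j, hr, Nat.pos_of_ne_zero ?_, hj.symm⟩, h7.trans h5,
      .inr ((ZMod.natCast_eq_natCast_iff _ _ _).2 h6 |>.trans Nat.cast_one)⟩
    rintro rfl
    have h8 := key hP' (map_le_iff_le_comap.1 (le_centralizer_iff.1 (relIndex_eq_one.1 hj))) inferInstance
    refine h1.ne (key hP' hP.le (normalizer_eq_top_iff.1 (top_unique (c3.ge.trans (sup_le le_normalizer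
      (Nrm.le_normalizer fun k hk x hx => ?_))))))
    have h9 : x⁻¹ * (k * x * k⁻¹) ∈ C := QuotientGroup.eq.1 (by
      simpa [eq_mul_inv_iff_mul_eq] using (h8.ge (mem_top x) _ (mem_map_of_mem _ hk)).symm)
    simpa using mul_mem hx (c1 h9)
  have hom : ∀ N : Subgroup Γ, N.Normal → ∃ θ, IrrOn N θ ∧ InvOn ⊤ N θ ∧ (∀ x ∈ N, θ x = θ 1 → x = 1) ∧
      charDegree θ ∣ charDegree χ := fun N _ => by
    obtain ⟨θ, h1, e, h2⟩ : Homog N χ := by_contra fun h' =>
      h ((hχ.indFrom_of_not_homog le_top (nrm_of_normal _ _) h').mono bot_le)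
    refine ⟨θ, irrOn_of_mem h1, invOn_of_eq_mul le_top (nrm_of_normal _ _) hχ.classOn (fun e0 => hχ.one_ne_zero
      (by rw [h2 1 (one_mem _), e0, zero_mul])) h2, fun x hx e => hf x (by rw [h2 x hx, h2 1 (one_mem _), e]),
      Dvd.intro_left e (charDegree_of_eq ?_).symm⟩
    rw [h2 1 (one_mem _), (irrOn_of_mem h1).one_eq, Nat.cast_mul]
  obtain ⟨P, hP⟩ := Amalg.exists_syl p (⊤ : Subgroup Γ)
  by_contra h0
  refine hp' (IsPGroup.of_surjective (H := Γ) (key hP (Core.le_pCore_of_le_fitting hp.out hP.isPGroup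
    ((le_centralizer_iff.1 (Core.fitting_le_of_forall_pCore_le fun r hr => ?_)).trans Core.centralizer_fitting_le))
    inferInstance ▸ Core.isPGroup_pCore p Γ) (⊤ : Subgroup Γ).subtype fun x => ⟨⟨x, trivial⟩, rfl⟩)
  obtain ⟨θ, h1, h2, h3, h4⟩ := hom (pCore r Γ) inferInstance
  rcases eq_or_ne r p with rfl | hrp
  · obtain ⟨a, ha⟩ := IsPGroup.iff_card.1 (Core.isPGroup_pCore r Γ)
    obtain ⟨_ | i, -, hi⟩ := (Nat.dvd_prime_pow hr).1 (ha ▸ h1.deg_dvd_card)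
    · have hl := h1.charOn.linOn_of_deg hi
      exact fun x hx y _ => mul_inv_eq_iff_eq_mul.1 (mul_inv_eq_one.1 (h3 _ (kerOn_le (hl.commutator_mem
        (nrm_of_normal _ _) h2 (mem_top y) hx)) (triv_kerOn _ (hl.commutator_mem (nrm_of_normal _ _) h2
          (mem_top y) hx))))
    · exact absurd ((hi ▸ dvd_pow_self r i.succ_ne_zero).trans h4) hd
  · refine le_centralizer_iff.1 (by_contra fun h5 => ?_)
    obtain ⟨q, a, b, c⟩ := glaub_deg hr hrp (Core.isPGroup_pCore r Γ) hP.isPGroup (nrm_of_normal _ _) h1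
      (h2.mono le_top le_rfl) h3 h5
    exact h0 ⟨q, a, b.trans h4, c⟩

/-- Let the finite solvable group G have a faithful irreducible character of degree n, and suppose that for the prime p a Sylow p-subgroup of G is not normal. Then n is divisible by a prime power q > 1 with q congruent to −1, 0 or 1 modulo p. -/
theorem result {G : Type*} [Group G] [Finite G] (χ : Cfsg.IrrCharacter G) (hfaith : ∀ g : G, (χ : G → ℂ) g = (χ : G → ℂ) 1 → g = 1) (n : ℕ) (hn : Cfsg.charDegree (χ : G → ℂ) = n) (hsolv : Group.IsSolvable G) (p : ℕ) (hp : p.Prime) (P : Sylow p G) (hP : ¬ (P : Subgroup G).Normal) : ∃ q : ℕ, IsPrimePow q ∧ q ∣ n ∧ ((q : ℤ) ≡ -1 [ZMOD p] ∨ (q : ℤ) ≡ 0 [ZMOD p] ∨ (q : ℤ) ≡ 1 [ZMOD p]) := by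
  have := Fact.mk hp
  subst hn
  by_cases hd : p ∣ charDegree χ.1
  · exact ⟨p, hp.isPrimePow, hd, .inr (.inl (Int.modEq_zero_iff_dvd.2 dvd_rfl))⟩
  set E := pElementClosure p (⊤ : Subgroup G)
  have hE : E.Normal := Amalg.pec_normal ⊤
  have hχ := irrOn_top.2 χ.2
  obtain ⟨θ, h1, h2⟩ := hχ.exists_under (le_top : E ≤ ⊤)
  have hθ := irrOn_of_mem h1
  have hθ' : IsIrrCharacter E (res E θ) := hθ
  have := hθ'.isCharacter.isClassFunction.charKer_normal
  have hs := QuotientGroup.mk'_surjective (charKer (res E θ))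
  obtain ⟨φ, h3, h4⟩ := (irrOn_top.2 hθ').exists_comp (QuotientGroup.mk' (charKer (res E θ))) fun x hx =>
    (hθ'.isCharacter.mem_charKer).1 ((QuotientGroup.ker_mk' _).le hx.2)
  rw [map_top_of_surjective _ hs] at h3
  have h5 : charDegree φ ∣ charDegree χ.1 := by
    rw [charDegree_of_eq ((h4 1 trivial).symm.trans hθ.one_eq)]
    exact deg_dvd_of_dot le_top (nrm_of_normal _ _) hχ hθ h2
  obtain ⟨q, a, b, c⟩ := aux (p := p) (irrOn_of_mem h3) (fun x hx => by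
      obtain ⟨x, rfl⟩ := hs x
      exact (QuotientGroup.eq_one_iff x).2 (hθ'.isCharacter.mem_charKer.2
        ((h4 x trivial).trans (hx.trans (h4 1 trivial).symm))))
    (fun h => hd (h.trans h5)) (by
      rw [← map_top_of_surjective _ hs, ← Amalg.map_pec, ← subgroupOf_self, Amalg.pec_subgroupOf le_rfl,
        Amalg.pec_pec]) fun h => hP (by
      obtain ⟨k, hk⟩ := IsPGroup.iff_card.1 h
      have h6 : ∀ x ∈ E, θ (x ^ p ^ k) = θ 1 := fun x hx => hθ'.isCharacter.mem_charKer.1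
        ((QuotientGroup.eq_one_iff ((⟨x, hx⟩ : E) ^ p ^ k)).1 (by rw [QuotientGroup.mk_pow, ← hk, pow_card_eq_one']))
      have h7 : IsPGroup p E := fun x => ⟨k, Subtype.ext (hfaith _ (by
        rw [clifford_apply le_top (nrm_of_normal _ _) hχ hθ h2 (x ^ p ^ k).2,
          clifford_apply le_top (nrm_of_normal _ _) hχ hθ h2 (one_mem _)]
        refine congrArg _ (sum_congr rfl fun ψ hψ => ?_)
        obtain ⟨g, -, rfl⟩ := mem_orb.1 hψ
        rw [cut_of_mem_Irr h1, cj_at_one, cj_apply, Subgroup.coe_pow, ← conj_pow]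
        exact h6 _ (hE.conj_mem _ x.2 g)))⟩
      rwa [(Amalg.syl_top P).pec.eq_of_isPGroup h7])
  refine ⟨q, a, b.trans h5, c.imp (fun e => ?_) fun e => .inr ?_⟩ <;>
    exact (ZMod.intCast_eq_intCast_iff _ _ _).1 (by simpa using e)

end Cfsg.Agent.S4467
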