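import Cfsg.Statements.S4471
import Cfsg.Agent.Lib.Coprime.Jordan
import Cfsg.Agent.Lib.Coprime.Blichfeldt

set_option autoImplicit false
open Cfsg

namespace Cfsg.Agent.S4471

open Cfsg.Lib Cfsg.Lib.Char Cfsg.Lib.Clifford Cfsg.Lib.Coprime Subgroup
open scoped ComplexConjugate commutatorElement

variable {G : Type*} [Group G] [Finite G] {χ : G → ℂ} {p : ℕ}

theorem comm_conj (hχ : IsCharacter G χ) (hf : ∀ g : G, χ g = χ 1 → g = 1) {H : Subgroup G}
    (hH : ∀ x ∈ H, ∀ y ∈ H, x * y = y * x) {w : G} (hw : w ∈ H) {c : ℂ}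
    (h : ∀ lam, LinOn H lam → dot H χ lam ≠ 0 → ‖lam w - c‖ < 1 / 2) (g : G) :
    w * (g * w * g⁻¹) = g * w * g⁻¹ * w := by
  obtain ⟨n, ρ, rfl⟩ := hχ
  obtain ⟨E, _, _, _, X, e, h1, h2⟩ := exists_unitary ρ
  have hi : Function.Injective X := (injective_iff_map_eq_one X).2 fun g hg => hf g (by
    have : ρ g = 1 := LinearMap.ext fun v => e.injective (by rw [← h2, hg]; rfl)
    simp [Representation.character, this])
  have h3 : ‖X w - algebraMap ℂ _ c‖ < 1 / 2 := norm_sub_lt h1 hH hw (by norm_num) fun v hv lam hl => by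
    have hl' : LinOn H (extendByZero H lam) := linOn_of_map_mul (by
      rw [Clifford.extendByZero_of_mem _ H.one_mem]
      exact smul_left_injective ℂ hv ((hl 1).symm.trans (by simp))) fun x hx y hy => by
        rw [Clifford.extendByZero_of_mem _ hx, Clifford.extendByZero_of_mem _ hy, Clifford.extendByZero_of_mem _ (mul_mem hx hy)]
        refine smul_left_injective ℂ hv ?_
        refine (hl ⟨x * y, mul_mem hx hy⟩).symm.trans ?_
        rw [map_mul, mul_apply_eq_comp, hl ⟨y, hy⟩, map_smul, hl ⟨x, hx⟩, smul_smul, mul_comm]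
    obtain ⟨f, hf⟩ := hl'.exists_hom
    rw [← Clifford.extendByZero_of_mem lam hw]
    refine h _ hl' fun h0 => ?_
    have := Fintype.ofFinite H
    have h4 := classInner_character_one (twistRep f⁻¹ (ρ.comp H.subtype))
    rw [classInner_one_right, Finset.sum_congr rfl fun x _ => twistRep_character _ _ x] at h4
    rw [dot, sum_elems, Finset.sum_congr rfl (g := fun x : H => ((f⁻¹ x : ℂˣ) : ℂ) * ρ.character x)
      fun x _ => by rw [hl'.conj_eq_inv x.2, hf, mul_comm]; simp] at h0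
    have h5 := Submodule.finrank_eq_zero.1 (Nat.cast_eq_zero.1 (h4.symm.trans h0))
    refine hv (e.symm.map_eq_zero_iff.1 (h5.le fun x => e.injective ?_))
    have h6 : lam x = f x := by rw [← hf, Clifford.extendByZero_of_mem _ x.2]
    simp [twistRep_apply, ← h2, hl, h6, smul_smul]
  refine comm_of_small h1 hi h3 (d := c) (lt_of_le_of_lt ?_ (h3.trans (by norm_num)))
  refine ContinuousLinearMap.opNorm_le_bound _ (norm_nonneg _) fun v => ?_
  have h4 : (X (g * w * g⁻¹) - algebraMap ℂ _ c) v = X g ((X w - algebraMap ℂ _ c) (X g⁻¹ v)) := by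
    have : X g (X g⁻¹ v) = v := by rw [← mul_apply_eq_comp, ← map_mul]; simp
    simp [this]
  rw [h4, h1, ← h1 g⁻¹ v]
  exact ContinuousLinearMap.le_opNorm _ _

theorem exists_quad [hp : Fact p.Prime] (hχ : IsCharacter G χ) (hf : ∀ g : G, χ g = χ 1 → g = 1)
    (hn : charDegree χ < 2 * p) {P : Subgroup G} (hP : IsPGroup p P) (h : ⁅P, P⁆ ≠ ⊥) :
    ∃ (w : G) (μ : G → ℂ) (a : ℂ), w ^ p = 1 ∧ LinOn (zpowers w) μ ∧
      μ w = Complex.exp (2 * Real.pi * Complex.I / p) ∧ p ≤ charDegree χ ∧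
      ∀ x ∈ zpowers w, χ x = a + p * μ x := by
  have hle : ⁅P, P⁆ ≤ P := Clifford.commutator_le_self P
  obtain ⟨⟨z, hz⟩, ho⟩ := exists_prime_orderOf_dvd_card' p (Amalg.dvd_card_of_isPGroup_ne_bot
    (hP.to_le (inf_le_left.trans hle)) (Amalg.inf_center_ne_bot hP hle
      (nrm_commutator P).le_normalizer h))
  rw [Subgroup.orderOf_mk] at ho
  have hz1 : z ≠ 1 := fun e => hp.out.ne_one (by rw [← ho, e, orderOf_one])
  have hc := charOn_of_isCharacter hχ P
  have lin : ∀ φ, CharOn P φ → (∀ ψ ∈ Irr P, dot P φ ψ ≠ 0 → charDegree ψ < p) → Triv ⁅P, P⁆ φ :=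
    fun φ hφ h x hx => hφ.classOn.eq_of_forall (hle hx) fun ψ hψ h1 => by
      obtain ⟨k, hk⟩ := hP.exists_card_eq
      obtain ⟨j, -, hj⟩ := (Nat.dvd_prime_pow hp.out).1 (hk ▸ (irrOn_of_mem hψ).deg_dvd_card)
      refine (irrOn_of_mem hψ).linOn_iff.1 ((irrOn_of_mem hψ).charOn.linOn_of_deg ?_) x hx
      have := h ψ hψ h1
      rcases j with _ | j
      · simpa using hj
      · exact absurd (hj ▸ this) (not_lt.2 (Nat.le_self_pow j.succ_ne_zero p))
  obtain ⟨ψ, hψ, h1, h2⟩ : ∃ ψ ∈ Irr P, dot P χ ψ ≠ 0 ∧ p ≤ charDegree ψ := by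
    by_contra! h1
    exact hz1 (hf z (lin χ hc h1 z hz.1))
  have hψ' := irrOn_of_mem hψ
  have h3 := hc.deg_le_of_dot hψ' h1
  have h4 : charDegree ψ = p := by
    obtain ⟨k, hk⟩ := hP.exists_card_eq
    obtain ⟨j, -, hj⟩ := (Nat.dvd_prime_pow hp.out).1 (hk ▸ hψ'.deg_dvd_card)
    have := hp.out.two_le
    rcases j with _ | _ | j
    · rw [pow_zero] at hj; omega
    · simpa using hj
    · have : p * p ≤ p ^ (j + 1 + 1) := by rw [← sq]; exact Nat.pow_le_pow_right (by omega) (by omega)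
      nlinarith
  have h5 := hc.sub_irr hψ' h1
  have h6 := lin _ h5 fun φ hφ h => by
    have a1 := h5.deg_le_of_dot (irrOn_of_mem hφ) h
    have a2 : (charDegree (χ - ψ) : ℂ) + charDegree ψ = charDegree χ := by
      rw [← h5.one_eq, ← hc.one_eq, ← hψ'.one_eq]; simp
    have a3 : charDegree (χ - ψ) + charDegree ψ = charDegree χ := by exact_mod_cast a2
    omega
  have hZ : zpowers z ≤ ⁅P, P⁆ ⊓ centralizer (P : Set G) := zpowers_le.2 hz
  have c1 : ∀ g ∈ P, ∀ x ∈ zpowers z, g * x * g⁻¹ = x := fun g hg x hx => by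
    rw [(hZ hx).2 g hg, mul_inv_cancel_right]
  have hZP := hZ.trans (inf_le_left.trans hle)
  obtain ⟨μ, hμ, h7⟩ := hψ'.exists_under hZP
  have hμ' := (irrOn_of_mem hμ).linOn_of_comm fun a ha b hb => (hZ hb).2 a (hZP ha)
  have nZ : Nrm P (zpowers z) := fun g hg x hx => (c1 g hg x hx).symm ▸ hx
  have iZ : InvOn P (zpowers z) μ := fun g hg x hx => by rw [c1 g hg x hx]
  have h8 : ∀ x ∈ zpowers z, χ x = (χ - ψ) 1 + p * μ x := fun x hx => by
    rw [← h6 x (hZ hx).1, Pi.sub_apply, clifford_invOn hZP nZ hψ' hμ'.irrOn iZ h7 hx, ← h4,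
      clifford_invOn_deg hZP nZ hψ' hμ'.irrOn iZ h7, hμ'.deg]
    simp
  have h9 : IsPrimitiveRoot (μ z) p := by
    refine isPrimitiveRoot_of_mem_nthRootsFinset hp.out ((Polynomial.mem_nthRootsFinset hp.out.pos 1).2
      (by rw [← hμ'.map_pow (mem_zpowers z), ← ho, pow_orderOf_eq_one, hμ'.2])) fun e => hz1 (hf z ?_)
    rw [h8 z (mem_zpowers z), h8 1 (one_mem _), e, hμ'.2]
  obtain ⟨j, -, hj⟩ := h9.eq_pow_of_pow_eq_one (Complex.isPrimitiveRoot_exp p hp.out.ne_zero).pow_eq_one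
  have hw : zpowers (z ^ j) ≤ zpowers z := zpowers_le.2 (npow_mem_zpowers z j)
  exact ⟨z ^ j, μ, _, by rw [← pow_mul, mul_comm, pow_mul, ← ho, pow_orderOf_eq_one, one_pow],
    hμ'.mono hw, by rw [hμ'.map_pow (mem_zpowers z), hj], h2.trans h3, fun x hx => h8 x (hw hx)⟩

theorem main [hp : Fact p.Prime] (hχ : IrrOn ⊤ χ) (hf : ∀ g : G, χ g = χ 1 → g = 1) (h7 : 7 ≤ p)
    (hn : charDegree χ < 2 * p) (hnp : charDegree χ ≠ p) {P : Subgroup G} (hP : IsPGroup p P)
    (h : ⁅P, P⁆ ≠ ⊥) : ¬ p ^ 2 ∣ (pCore p G).index := by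
  have hc := charOn_top.1 hχ.charOn
  obtain ⟨w, μ, a, h1, hμ, h2, h3, h4⟩ := exists_quad hc hf hn hP h
  have h5 : μ w ≠ 1 := h2 ▸ (Complex.isPrimitiveRoot_exp p hp.out.ne_zero).ne_one hp.out.one_lt
  have h6 : ∀ lam, dot (zpowers w) χ lam = a * dot (zpowers w) 1 lam + p * dot (zpowers w) μ lam :=
    fun lam => by
      rw [← dot_smul_left, ← dot_smul_left, ← dot_add_left]
      exact dot_congr_left (fun x hx => by simp [h4 x hx]) _
  have h8 : ‖μ w - 1‖ < 1 := by
    have a1 : (7 : ℝ) ≤ p := by exact_mod_cast h7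
    rw [h2, show 2 * Real.pi * Complex.I / p = Complex.I * (2 * Real.pi / p : ℝ) by push_cast; ring]
    refine Real.norm_exp_I_mul_ofReal_sub_one_le.trans_lt ?_
    rw [Real.norm_of_nonneg (by positivity), div_lt_one (by positivity)]
    linarith [Real.pi_lt_d2]
  have h9 := comm_conj hc hf (H := zpowers w) (fun x hx y hy => setLike_mul_comm hx hy) (mem_zpowers w)
    (c := (1 + μ w) / 2) fun lam hl h0 => by
      by_cases e : dot (zpowers w) 1 lam = 0
      · rw [h6, e, mul_zero, zero_add] at h0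
        rw [← hμ.irrOn.eq_of_dot_ne_zero hl.irrOn (right_ne_zero_of_mul h0) w (mem_zpowers w),
          show μ w - (1 + μ w) / 2 = (μ w - 1) / 2 by ring, norm_div]
        rw [Complex.norm_two]; linarith
      · rw [← (irrOn_one _).eq_of_dot_ne_zero hl.irrOn e w (mem_zpowers w), Pi.one_apply,
          show 1 - (1 + μ w) / 2 = -(μ w - 1) / 2 by ring, norm_div, norm_neg]
        rw [Complex.norm_two]; linarith
  obtain ⟨A, hA⟩ : ∃ A, A = normalClosure ({w} : Set G) := ⟨_, rfl⟩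
  have : A.Normal := hA ▸ inferInstance
  have hAc : ∀ x ∈ A, ∀ y ∈ A, x * y = y * x := by
    have b1 : A ≤ centralizer {w} := hA ▸ (closure_le _).2 fun x hx => by
      obtain ⟨y, rfl, hy⟩ := Group.mem_conjugatesOfSet_iff.1 hx
      obtain ⟨g, rfl⟩ := isConj_iff.1 hy
      exact mem_centralizer_singleton_iff.2 (h9 g).symm
    have b2 : A ≤ centralizer (A : Set G) := hA.le.trans (normalClosure_le_normal (by
      rintro _ rfl x hx
      exact mem_centralizer_singleton_iff.1 (b1 hx)))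
    exact fun x hx y hy => b2 hy x hx
  have hwA : zpowers w ≤ A := zpowers_le.2 (hA ▸ subset_normalClosure rfl)
  have nA := nrm_of_normal ⊤ A
  obtain ⟨lam, hl, b3⟩ := hχ.exists_under (le_top : A ≤ ⊤)
  have hl' := (irrOn_of_mem hl).linOn_of_comm hAc
  have b4 := clifford_deg le_top nA hχ hl'.irrOn b3
  have b5 : p = mult A χ lam * ∑ φ ∈ orb ⊤ A lam, mult (zpowers w) φ μ := by
    have := h6 μ
    rw [(irrOn_one _).dot_eq_zero hμ.irrOn fun e => h5 (e w (mem_zpowers w)).symm, hμ.irrOn.dot_self,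
      dot_congr_left (φ' := (mult A χ lam : ℂ) • ∑ φ ∈ orb ⊤ A lam, φ) fun x hx => by
        simpa using clifford_apply le_top nA hχ hl'.irrOn b3 (hwA hx), dot_smul_left, dot_sum_left,
      Finset.sum_congr rfl fun φ hφ => ((irrOn_of_mem (orb_subset nA hl'.irrOn hφ)).charOn.mono
        hwA).dot_eq_mult hμ.charOn] at this
    rw [mul_zero, zero_add, mul_one] at this
    exact_mod_cast this.symm
  have b6 : mult A χ lam = 1 := ((Nat.dvd_prime hp.out).1 (Dvd.intro _ b5.symm)).resolve_right fun e => by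
    obtain ⟨k, hk⟩ : p ∣ charDegree χ := e ▸ Dvd.intro _ b4.symm
    rw [hk] at hn hnp h3
    rcases k with _ | _ | k
    · have := hp.out.pos; omega
    · omega
    · nlinarith
  obtain ⟨ψ, hψ, b7, b8, b9⟩ := exists_ind_inertia le_top nA hl'.irrOn hχ b3
  rw [b6, hl'.deg, one_mul, mul_one, relIndex_top_right] at b4
  have hψ' : LinOn (inertia ⊤ A lam) ψ := (irrOn_of_mem hψ).charOn.linOn_of_deg (by
    have := (irrOn_of_mem hψ).charOn.deg_ind (le_top : _ ≤ ⊤)
    rw [b8, cut_top, relIndex_top_right, ← b4] at this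
    exact (Nat.mul_eq_left hχ.deg_pos.ne').1 this.symm)
  obtain ⟨K, hK⟩ : ∃ K, K = (inertia ⊤ A lam).normalCore := ⟨_, rfl⟩
  have : K.Normal := hK ▸ inferInstance
  have hKT : K ≤ inertia ⊤ A lam := hK ▸ normalCore_le _
  have c1 : Triv ⁅K, K⁆ χ := by
    have := ((hψ'.irrOn.linOn_iff.1 hψ').mono (commutator_mono hKT hKT)).ind
      ((Clifford.commutator_le_self K).trans hKT) (nrm_of_normal ⊤ _)
    rwa [b8, cut_top] at this
  obtain ⟨R, hR⟩ := Amalg.exists_syl p K
  have c2 : K ≤ normalizer (R : Set G) := fun k hk => centralizer_le_normalizer _ fun r hr =>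
    commutatorElement_eq_one_iff_mul_comm.1 (hf _ (c1 _ (commutator_mem_commutator (hR.le hr) hk)))
  have : R.Normal := normalizer_eq_top_iff.1 (eq_top_iff.2 fun g _ => by
    obtain ⟨k, hk, a, ha, rfl⟩ := hR.frattini_mem (le_normalizer_of_normal (mem_top g))
    exact mul_mem (c2 hk) ha)
  intro c3
  have c4 := c3.trans (index_dvd_of_le (Core.le_pCore hR.isPGroup))
  rw [← relIndex_mul_index hR.le] at c4
  have c5 := (((Nat.Prime.coprime_iff_not_dvd hp.out).2 hR.not_dvd_relIndex).pow_left 2).dvd_of_dvd_mul_left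
    c4
  rw [hK] at c5
  have c6 := (hp.out.pow_dvd_factorial_iff (b := 2) (Nat.log_lt_of_lt_pow hχ.deg_pos.ne'
    (by nlinarith))).1 (b4 ▸ c5.trans (index_normalCore_dvd _))
  simp only [Nat.Ico_succ_singleton, Finset.sum_singleton, pow_one] at c6
  exact absurd ((Nat.le_div_iff_mul_le hp.out.pos).1 c6) (by omega)


/-- Let p ≥ 7 be a prime and let the finite group G have a faithful irreducible character of degree n with n < 2p and n ≠ p. If the Sylow p-subgroups of G are non-abelian then p² does not divide the index of O_p(G) in G; consequently, in every case G/O_p(G) has abelian Sylow p-subgroups. -/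
theorem result {G : Type*} [Group G] [Finite G] (χ : Cfsg.IrrCharacter G) (hfaith : ∀ g : G, (χ : G → ℂ) g = (χ : G → ℂ) 1 → g = 1) (n : ℕ) (hn : Cfsg.charDegree (χ : G → ℂ) = n) (p : ℕ) (hp : p.Prime) (h7 : 7 ≤ p) (hn2 : n < 2 * p) (hnp : n ≠ p) : ((∃ P : Sylow p G, ∃ x ∈ (P : Subgroup G), ∃ y ∈ (P : Subgroup G), x * y ≠ y * x) → ¬ p ^ 2 ∣ (Cfsg.pCore p G).index) ∧ ∀ Q : Sylow p (G ⧸ Cfsg.pCore p G), ∀ x ∈ (Q : Subgroup (G ⧸ Cfsg.pCore p G)), ∀ y ∈ (Q : Subgroup (G ⧸ Cfsg.pCore p G)), x * y = y * x := by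
  have := Fact.mk hp
  subst hn
  have key : ∀ P : Subgroup G, IsPGroup p P → (∃ x ∈ P, ∃ y ∈ P, x * y ≠ y * x) →
      ¬ p ^ 2 ∣ (pCore p G).index := fun P hP ⟨x, hx, y, hy, h⟩ =>
    main (irrOn_top.2 χ.2) hfaith h7 hn2 hnp hP fun e => h (commutatorElement_eq_one_iff_mul_comm.1
      (mem_bot.1 (e.le (commutator_mem_commutator hx hy))))
  refine ⟨fun ⟨P, h⟩ => key P P.isPGroup' h, fun Q x hx y hy => ?_⟩
  by_contra h
  obtain ⟨x, rfl⟩ := QuotientGroup.mk'_surjective _ x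
  obtain ⟨y, rfl⟩ := QuotientGroup.mk'_surjective _ y
  have h1 := key _ (Q.isPGroup'.comap_of_ker_isPGroup (QuotientGroup.mk' _)
    (by rw [QuotientGroup.ker_mk']; exact Core.isPGroup_pCore p G))
    ⟨x, hx, y, hy, fun e => h (by rw [← map_mul, e, map_mul])⟩
  obtain ⟨k, hk⟩ := Q.isPGroup'.exists_card_eq
  have h2 : k ≤ 1 := by
    by_contra! h2
    exact h1 ((pow_dvd_pow p h2).trans (hk ▸ card_subgroup_dvd_card _))
  have : IsCyclic Q := isCyclic_of_card_dvd_prime (hk ▸ (pow_dvd_pow p h2).trans (pow_one p).dvd)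
  exact h (setLike_mul_comm hx hy)

end Cfsg.Agent.S4471
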