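import Cfsg.Statements.S4473
import Cfsg.Agent.Lib.Small.Realize
import Cfsg.Agent.Lib.Linear.DicksonCount
import Cfsg.Agent.Lib.Clifford.Count

set_option autoImplicit false
open Cfsg

namespace Cfsg.Agent.S4473

open Cfsg.Lib Cfsg.Lib.Clifford Cfsg.Lib.Char Cfsg.Lib.Linear Subgroup Matrix

/-- Let the finite group G have a faithful irreducible character χ of degree 2 that is primitive: χ is not induced from a character of any proper subgroup. Then the centre of G has index 12, 24 or 60. -/
theorem result {G : Type*} [Group G] [Fintype G] (χ : Cfsg.IrrCharacter G) (hfaith : ∀ g : G, (χ : G → ℂ) g = (χ : G → ℂ) 1 → g = 1) (h2 : Cfsg.charDegree (χ : G → ℂ) = 2) (hprim : ∀ H : Subgroup G, H ≠ ⊤ → ∀ θ : H → ℂ, Cfsg.IsCharacter H θ → (χ : G → ℂ) ≠ Cfsg.indFun H θ) : (Subgroup.center G).index = 12 ∨ (Subgroup.center G).index = 24 ∨ (Subgroup.center G).index = 60 := by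
---
  obtain ⟨n, _, ρ, h1, h3⟩ := Small.exists_mat_of_isIrrCharacter χ.2
  have h0 : (χ : G → ℂ) 1 = 2 := by rw [← χ.2.coe_charDegree, h2]; rfl
  obtain rfl : n = 2 := by
    have := h1 1
    rw [map_one, trace_one, Fintype.card_fin, h0] at this
    exact_mod_cast this
  let π := ProjGenLinGroup.mk.comp ρ.toHomUnits
  have hk : π.ker = center G := by
    ext g
    rw [MonoidHom.mem_ker, MonoidHom.comp_apply, ProjGenLinGroup.mk_eq_one, mem_center_iff, mem_center_iff]
    refine ⟨fun h y => mul_inv_eq_one.1 (hfaith _ ?_), fun h y => Units.ext ?_⟩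
    · have : ρ (y * g) = ρ (g * y) := by simpa using congrArg Units.val (h (ρ.toHomUnits y))
      rw [← h1, ← h1, map_mul, this, ← map_mul, mul_inv_cancel]
    · have : (y : Matrix (Fin 2) (Fin 2) ℂ) ∈ Submodule.span ℂ (Set.range ρ) := h3 ▸ Submodule.mem_top
      change (y : Matrix (Fin 2) (Fin 2) ℂ) * ρ g = ρ g * y
      generalize (y : Matrix (Fin 2) (Fin 2) ℂ) = y at this
      induction this using Submodule.span_induction with
      | mem x hx => obtain ⟨x, rfl⟩ := hx; rw [← map_mul, ← map_mul, h]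
      | zero => simp
      | add x y _ _ a b => rw [add_mul, mul_add, a, b]
      | smul c x _ a => rw [smul_mul_assoc, mul_smul_comm, a]
  have ht : ∀ x, π.range ⊓ unip x = ⊥ := fun x => eq_bot_iff.2 fun g hg => by_contra fun e => by
    obtain ⟨⟨y, rfl⟩, h⟩ := hg
    exact Nat.cast_ne_zero.2 (orderOf_pos y).ne' ((pow_eq_one_iff_of_mem_unip h e _).1
      (by rw [← map_pow, pow_orderOf_eq_one, map_one]))
  have key : ∀ a : PL ℂ, 2 < ((MulAction.stabilizer (PGL2 ℂ) a).comap π).index := fun a => by_contra fun e => by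
    generalize hT : (MulAction.stabilizer (PGL2 ℂ) a).comap π = T at e
    have : Finite (π.comp T.subtype).range := .of_surjective _ (MonoidHom.rangeRestrict_surjective _)
    have : IsCyclic (π.comp T.subtype).range := isCyclic_of_le_stabilizer (x := a)
      (by rintro _ ⟨y, rfl⟩; exact hT.ge y.2) (eq_bot_iff.2 ((ht a).le.trans' (inf_le_inf_right _ (by
        rintro _ ⟨y, rfl⟩; exact ⟨y, rfl⟩))))
    have hc := ((π.comp T.subtype).rangeRestrict.isMulCommutative_of_isCyclic_of_ker_le_center fun y hy =>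
      mem_center_iff.2 fun z => Subtype.ext (mem_center_iff.1 (hk.le (congrArg Subtype.val hy)) z)).is_comm.comm
    have hχ := irrOn_top.2 χ.2
    obtain ⟨θ, a1, a2⟩ := (hχ.charOn.mono (le_top (a := T))).exists_constituent hχ.one_ne_zero
    have a3 := (irrOn_of_mem a1).linOn_of_comm fun x hx y hy => congrArg Subtype.val (hc ⟨x, hx⟩ ⟨y, hy⟩)
    have a4 := hχ.ind_eq_of_deg_le le_top a3.charOn a2 (by rw [a3.deg, relIndex_top_right, h2]; omega)
    refine hprim T (fun e => ?_) (res T θ) a3.charOn (funext fun g => by rw [indFun_res, a4 g trivial])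
    have := (hχ.linOn_of_comm fun x _ y _ => congrArg Subtype.val (hc ⟨x, e.ge trivial⟩ ⟨y, e.ge trivial⟩)).deg
    omega
  rw [← hk, index_ker]
  have : Finite π.range := .of_surjective _ (MonoidHom.rangeRestrict_surjective _)
  rcases dickson_tame ht with ⟨x, h⟩ | ⟨a, b, -, h⟩ | h
  · have := key x
    rw [(eq_top_iff' _).2 fun g => show g ∈ comap π (MulAction.stabilizer _ x) from h _ ⟨g, rfl⟩, index_top] at this
    omega
  · refine absurd (key a) (not_lt.2 ?_)
    rw [index_comap]
    change (MulAction.stabilizer π.range a).index ≤ 2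
    rw [MulAction.index_stabilizer]
    refine (Set.ncard_le_ncard (t := {a, b}) ?_).trans (Set.ncard_insert_le _ _ |>.trans (by simp))
    rintro _ ⟨g, rfl⟩
    exact (h g g.2).imp And.left And.left
  · exact h.2

end Cfsg.Agent.S4473
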