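import Cfsg.Statements.S4474
import Cfsg.Agent.Lib.Hall.FS
import Mathlib

set_option autoImplicit false
open Cfsg

namespace Cfsg.Agent.S4474

open scoped Pointwise
open Cfsg.Lib Cfsg.Lib.Hall

open Matrix Cfsg.Lib.Char
open scoped ComplexConjugate ComplexOrder

theorem exists_conj_intertwiner {G : Type*} [Group G] [Fintype G] {n : ℕ}
    (ρ : Representation ℂ G (Fin n → ℂ)) [hρ : ρ.IsIrreducible] {M : Matrix (Fin n) (Fin n) ℂ}
    (h0 : M ≠ 0) (hs : Mᵀ = M) (hM : ∀ g, (repMat ρ g)ᵀ * M * repMat ρ g = M) :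
    ∃ P : Matrix (Fin n) (Fin n) ℂ, P * P.map conj = 1 ∧
      ∀ g, P * (repMat ρ g).map conj = repMat ρ g * P := by
  set X := repMat ρ with hX
  let H : Matrix (Fin n) (Fin n) ℂ := ∑ g, (X g)ᴴ * X g
  have hinv : ∀ g, X g * X g⁻¹ = 1 := fun g => by rw [← map_mul]; simp
  have hH : H.PosDef := by
    refine Matrix.posDef_sum Finset.univ_nonempty fun g _ => ?_
    refine Matrix.PosDef.conjTranspose_mul_self _ ?_
    exact Matrix.mulVec_injective_of_isUnit (IsUnit.of_mul_eq_one _ (hinv g))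
  have hHX : ∀ g, (X g)ᴴ * H * X g = H := fun g => by
    simp only [H, Matrix.mul_sum, Matrix.sum_mul]
    refine Fintype.sum_equiv (Equiv.mulRight g) _ _ fun a => ?_
    simp [Matrix.mul_assoc]
  have hHu : IsUnit H.det := (Matrix.isUnit_iff_isUnit_det H).1 hH.isUnit
  let P₀ := H⁻¹ * M.map conj
  have hHP : H * P₀ = M.map conj := Matrix.mul_nonsing_inv_cancel_left _ _ hHu
  have hP₀ : ∀ g, P₀ * (X g).map conj = X g * P₀ := fun g => by
    have h1 : (X g)ᴴ * M.map conj * (X g).map conj = M.map conj := by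
      conv_rhs => rw [← hM g]
      rw [Matrix.map_mul, Matrix.map_mul]; rfl
    have h2 : H * X g⁻¹ = (X g)ᴴ * H := by
      conv_lhs => rw [← hHX g]
      rw [Matrix.mul_assoc, hinv, Matrix.mul_one]
    have h3 : H * (X g⁻¹ * (P₀ * (X g).map conj)) = H * P₀ := by
      rw [← Matrix.mul_assoc, h2, Matrix.mul_assoc, ← Matrix.mul_assoc H, hHP, ← Matrix.mul_assoc, h1]
    have h4 := hH.isUnit.mul_left_cancel h3
    conv_rhs => rw [← h4]
    rw [← Matrix.mul_assoc, hinv, Matrix.one_mul]
  have hcc : ∀ A : Matrix (Fin n) (Fin n) ℂ, (A.map conj).map conj = A := fun A => by ext; simp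
  have hP₁ : ∀ g, P₀.map conj * X g = (X g).map conj * P₀.map conj := fun g => by
    have := congrArg (fun A : Matrix (Fin n) (Fin n) ℂ => A.map conj) (hP₀ g)
    simpa only [Matrix.map_mul, hcc] using this
  obtain ⟨c, hc⟩ := exists_eq_smul_id_of_commute ρ (Matrix.toLin' (P₀ * P₀.map conj)) (fun g v => by
    rw [← LinearMap.toMatrix'_mulVec (ρ g), ← LinearMap.toMatrix'_mulVec (ρ g), ← repMat_apply,
      Matrix.toLin'_apply, Matrix.toLin'_apply, Matrix.mulVec_mulVec, Matrix.mulVec_mulVec, ← hX,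
      Matrix.mul_assoc, hP₁, ← Matrix.mul_assoc, hP₀, Matrix.mul_assoc])
  have hc' : P₀ * P₀.map conj = c • (1 : Matrix (Fin n) (Fin n) ℂ) := by
    apply Matrix.toLin'.injective
    rw [hc, map_smul, Matrix.toLin'_one]
  have hMu : IsUnit (M.map conj) := by
    have := (Matrix.isUnit_iff_isUnit_det M).2 (det_ne_zero_of_invariant ρ h0 hM).isUnit
    exact this.map (RingHom.mapMatrix (starRingEnd ℂ))
  have hP₀u : IsUnit P₀ := (Matrix.isUnit_nonsing_inv_iff.2 hH.isUnit).mul hMu
  have hP₁u : IsUnit (P₀.map conj) := hP₀u.map (RingHom.mapMatrix (starRingEnd ℂ))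
  have hpos : (c • H).PosDef := by
    have e : c • H = (P₀.map conj)ᴴ * Hᵀ * P₀.map conj := by
      have e1 : (P₀.map conj)ᴴ = P₀ᵀ := by ext; simp
      have e2 : (M.map conj)ᵀ = M.map conj := by rw [← Matrix.transpose_map, hs]
      rw [e1, ← transpose_mul, hHP, e2, ← hHP, Matrix.mul_assoc, hc']; simp
    rw [e]
    exact hH.transpose.conjTranspose_mul_mul_same (Matrix.mulVec_injective_of_isUnit hP₁u)
  haveI := nontrivial_of_isIrreducible ρ
  obtain ⟨i⟩ : Nonempty (Fin n) := by
    by_contra h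
    rw [not_nonempty_iff] at h
    exact not_subsingleton (Fin n → ℂ) inferInstance
  have hc0 : 0 < c := by
    have h1 := hpos.diag_pos (i := i)
    have h2 := hH.diag_pos (i := i)
    rw [Matrix.smul_apply, smul_eq_mul] at h1
    have := mul_pos h1 (inv_pos.2 h2)
    rwa [mul_inv_cancel_right₀ h2.ne'] at this
  obtain ⟨r, hr, rfl⟩ : ∃ r : ℝ, 0 < r ∧ (r : ℂ) = c :=
    ⟨c.re, (Complex.lt_def.1 hc0).1, Complex.ext rfl (Complex.lt_def.1 hc0).2⟩
  refine ⟨((Real.sqrt r)⁻¹ : ℝ) • P₀, ?_, fun g => by simp [hP₀]⟩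
  have : (((Real.sqrt r)⁻¹ : ℝ) • P₀).map conj = ((Real.sqrt r)⁻¹ : ℝ) • P₀.map conj := by
    ext; simp
  rw [this, Matrix.smul_mul, Matrix.mul_smul, hc', smul_smul, ← mul_inv, Real.mul_self_sqrt hr.le,
    ← Complex.coe_smul, smul_smul]
  simp [hr.ne']

theorem exists_hilbert90 {n : ℕ} {P : Matrix (Fin n) (Fin n) ℂ} (hP : P * P.map conj = 1) :
    ∃ Q : Matrix (Fin n) (Fin n) ℂ, IsUnit Q ∧ P * Q.map conj = Q := by
  let f : ℝ → ℂ := fun t => -((1 - t * Complex.I) / (1 + t * Complex.I))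
  have hne : ∀ t : ℝ, (1 + t * Complex.I : ℂ) ≠ 0 := fun t h => by
    simpa using congrArg Complex.re h
  have hf : Function.Injective f := fun s t h => by
    simp only [f, neg_inj, div_eq_div_iff (hne s) (hne t)] at h
    have := congrArg Complex.im h
    simp at this
    linarith
  obtain ⟨_, ⟨t, rfl⟩, ht⟩ := (Set.infinite_range_of_injective hf).exists_notMem_finite
    P.finite_spectrum
  rw [spectrum.notMem_iff] at ht
  refine ⟨(1 - t * Complex.I : ℂ) • (1 : Matrix (Fin n) (Fin n) ℂ) + (1 + t * Complex.I : ℂ) • P, ?_, ?_⟩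
  · have e : (1 - t * Complex.I : ℂ) • (1 : Matrix (Fin n) (Fin n) ℂ) + (1 + t * Complex.I : ℂ) • P =
        algebraMap ℂ _ (-(1 + t * Complex.I : ℂ)) * (algebraMap ℂ _ (f t) - P) := by
      rw [mul_sub, ← map_mul, Algebra.algebraMap_eq_smul_one, Algebra.algebraMap_eq_smul_one]
      have : -(1 + t * Complex.I : ℂ) * f t = 1 - t * Complex.I := by
        simp only [f]; field_simp [hne t]
      rw [this, Matrix.smul_mul, Matrix.one_mul, neg_smul, sub_neg_eq_add]
    rw [e]
    exact ((neg_ne_zero.2 (hne t)).isUnit.map _).mul ht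
  · have : ((1 - t * Complex.I : ℂ) • (1 : Matrix (Fin n) (Fin n) ℂ) +
        (1 + t * Complex.I : ℂ) • P).map conj = (1 + t * Complex.I : ℂ) • (1 : Matrix (Fin n) (Fin n) ℂ) +
        (1 - t * Complex.I : ℂ) • P.map conj := by
      ext i j
      by_cases h : i = j <;> simp [Matrix.one_apply, h, sub_eq_add_neg]
    rw [this, Matrix.mul_add, Matrix.mul_smul, Matrix.mul_smul, hP, Matrix.mul_one, add_comm]

/-- Let χ be an irreducible character of the finite group G. Then the Frobenius–Schur indicator of χ (the average over s ∈ G of χ(s²)) equals 1 if and only if χ is afforded by a real representation: there is a representation of G on a real coordinate space whose trace function, viewed in ℂ, is χ. -/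
theorem result {G : Type*} [Group G] [Fintype G] (χ : Cfsg.IrrCharacter G) : ((Nat.card G : ℂ)⁻¹ * ∑ s : G, (χ : G → ℂ) (s * s)) = 1 ↔ ∃ (n : ℕ) (ρ : Representation ℝ G (Fin n → ℝ)), ∀ g : G, ((LinearMap.trace ℝ (Fin n → ℝ) (ρ g) : ℝ) : ℂ) = (χ : G → ℂ) g := by
  constructor
  · intro h1
    have hreal : ∀ g, ((χ : G → ℂ) g).im = 0 := by
      by_contra h
      have := χ.2.fs_of_not_real h
      exact one_ne_zero (h1.symm.trans this)
    obtain ⟨χ, n, ρ, hρ, rfl⟩ := χ
    have e : (fun g => (repMat ρ g).trace) = ρ.character := funext (trace_repMat ρ)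
    have h : IsIrrCharacter G fun g => (repMat ρ g).trace := e ▸ Char.isIrrCharacter_character ρ
    have hr : ∀ g, ((repMat ρ g).trace).im = 0 := fun g => by rw [trace_repMat]; exact hreal g
    obtain ⟨M, h2, h3, h4⟩ := exists_form_of_fs _ h hr
    rw [e, show fs ρ.character = 1 from h1, one_smul] at h3
    obtain ⟨P, hP, hPX⟩ := exists_conj_intertwiner ρ h2 h3 h4
    obtain ⟨Q, ⟨Q, rfl⟩, hQ⟩ := exists_hilbert90 hP
    let Y : G → Matrix (Fin n) (Fin n) ℂ := fun g => (↑Q⁻¹ : Matrix (Fin n) (Fin n) ℂ) * repMat ρ g * (↑Q : Matrix (Fin n) (Fin n) ℂ)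
    have hY : ∀ g, (Y g).map conj = Y g := fun g => by
      have h5 : (Q : Matrix (Fin n) (Fin n) ℂ) * ((↑Q⁻¹ : Matrix (Fin n) (Fin n) ℂ).map conj) = P := by
        conv_lhs => rw [← hQ]
        rw [Matrix.mul_assoc, ← Matrix.map_mul, Units.mul_inv]; simp
      apply Q.isUnit.mul_left_cancel
      simp only [Y, Matrix.map_mul, ← Matrix.mul_assoc, h5, hPX, Units.mul_inv, Matrix.one_mul]
      rw [Matrix.mul_assoc, hQ]
    have hY' : ∀ g, ((Y g).map Complex.re).map Complex.ofRealHom = Y g := fun g => by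
      ext i j
      exact Complex.conj_eq_iff_re.1 (congrFun (congrFun (hY g) i) j)
    have hinj : Function.Injective fun A : Matrix (Fin n) (Fin n) ℝ => A.map Complex.ofRealHom :=
      Matrix.map_injective Complex.ofReal_injective
    let Z : G →* Matrix (Fin n) (Fin n) ℝ :=
      { toFun := fun g => (Y g).map Complex.re
        map_one' := hinj (by simp only [hY']; simp [Y])
        map_mul' := fun a b => hinj (by
          simp only [Matrix.map_mul, hY']; simp [Y, Matrix.mul_assoc]) }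
    refine ⟨n, (Matrix.toLinAlgEquiv' (R := ℝ) (n := Fin n)).toMulEquiv.toMonoidHom.comp Z, fun g => ?_⟩
    have h6 : LinearMap.trace ℝ _ (((Matrix.toLinAlgEquiv' (R := ℝ) (n := Fin n)).toMulEquiv.toMonoidHom.comp Z) g)
        = (Z g).trace := Matrix.trace_toLin'_eq (Z g)
    rw [h6]
    have h7 : (((Z g).trace : ℝ) : ℂ) = ((Z g).map Complex.ofRealHom).trace := by
      simp [Matrix.trace]
    rw [h7]
    show (((Y g).map Complex.re).map Complex.ofRealHom).trace = ρ.character g
    rw [hY', ← trace_repMat, Matrix.trace_mul_cycle, Units.mul_inv, Matrix.one_mul]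
  · rintro ⟨n, ρ, hρ⟩
    let Z : G →* Matrix (Fin n) (Fin n) ℝ :=
      (LinearMap.toMatrixAlgEquiv' (R := ℝ) (n := Fin n)).toMulEquiv.toMonoidHom.comp ρ
    let X : G →* Matrix (Fin n) (Fin n) ℂ := (RingHom.mapMatrix Complex.ofRealHom).toMonoidHom.comp Z
    have e : (fun g => (X g).trace) = (χ : G → ℂ) := funext fun g => by
      rw [← hρ, LinearMap.trace_eq_matrix_trace ℝ (Pi.basisFun ℝ _), LinearMap.toMatrix_eq_toMatrix']
      simp [X, Z, Matrix.trace]
    have hreal : ∀ g, ((χ : G → ℂ) g).im = 0 := fun g => by rw [← hρ]; simp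
    refine (χ.2.fs_of_real hreal).resolve_right fun h1 => ?_
    have hinv : ∀ g, Z g * Z g⁻¹ = 1 := fun g => by rw [← map_mul]; simp
    have hH : (∑ g, (Z g)ᴴ * Z g).PosDef := by
      refine Matrix.posDef_sum Finset.univ_nonempty fun g _ => ?_
      refine Matrix.PosDef.conjTranspose_mul_self _ ?_
      exact Matrix.mulVec_injective_of_isUnit (IsUnit.of_mul_eq_one _ (hinv g))
    refine (exists_form_iff X (ε := 1) (by simp)).1 ⟨∑ g, (X g)ᵀ * X g, fun h0 => ?_, ?_, fun g => ?_⟩ ?_
    · rcases n with _ | n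
      · exact χ.2.apply_one_ne_zero (by rw [← e]; simp)
      · have h2 := hH.diag_pos (i := 0)
        have h3 : (∑ g, (Z g)ᴴ * Z g).map Complex.ofRealHom = ∑ g, (X g)ᵀ * X g := by
          ext i j; simp [X, Matrix.sum_apply, Matrix.mul_apply]
        have h4 := congrFun (congrFun (h3.trans h0) 0) 0
        simp only [Matrix.map_apply, Complex.ofRealHom_eq_coe, Matrix.zero_apply,
          Complex.ofReal_eq_zero] at h4
        exact h2.ne' h4
    · simp [Matrix.transpose_sum]
    · simp only [Matrix.mul_sum, Matrix.sum_mul]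
      refine Fintype.sum_equiv (Equiv.mulRight g) _ _ fun a => ?_
      simp [Matrix.mul_assoc]
    · simp only [fun g => congrFun e g]
      rw [χ.2.classInner_conj_of_real hreal, h1]; simp

end Cfsg.Agent.S4474
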