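import Cfsg.Statements.S4476
import Cfsg.Agent.Lib.Hall.FS
import Mathlib.Algebra.Order.Chebyshev
import Cfsg.Agent.Lib.Clifford.Count
import Cfsg.Agent.Lib.Char.Integral

set_option autoImplicit false
open Cfsg

namespace Cfsg.Agent.S4476

open Cfsg.Lib Cfsg.Lib.Clifford Cfsg.Lib.Char Cfsg.Lib.Hall Finset
open scoped ComplexConjugate

theorem card_sq_eq_one {G : Type*} [Group G] [Finite G] :
    Nat.card {s : G // s * s = 1} = Nat.card {x : G // orderOf x = 2} + 1 := by
  classical
  have := Fintype.ofFinite G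
  have h : univ.filter (fun s : G => s * s = 1) = insert 1 (univ.filter fun x : G => orderOf x = 2) := by
    ext s
    simp only [mem_filter, mem_univ, true_and, mem_insert]
    constructor
    · intro h
      by_cases h1 : s = 1
      · exact Or.inl h1
      · exact Or.inr (orderOf_eq_prime (by rw [sq, h]) h1)
    · rintro (rfl | h)
      · simp
      · rw [← sq, ← h, pow_orderOf_eq_one]
  rw [Nat.card_eq_fintype_card, Nat.card_eq_fintype_card, Fintype.card_subtype, Fintype.card_subtype, h,
    card_insert_of_notMem (by simp)]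

/-- Let G be a finite group of even order g with exactly t involutions, and put α = (g − 1)/t (a rational number). Then (a) some non-identity element x of G has at most α² conjugates; and (b) some non-principal real-valued irreducible character of G has degree at most α. -/
theorem result {G : Type*} [Group G] [Fintype G] (heven : Even (Nat.card G)) (t : ℕ) (ht : Nat.card {x : G // orderOf x = 2} = t) : (∃ x : G, x ≠ 1 ∧ ((Subgroup.centralizer ({x} : Set G)).index : ℚ) ≤ (((Nat.card G : ℚ) - 1) / t) ^ 2) ∧ ∃ χ : Cfsg.IrrCharacter G, (χ : G → ℂ) ≠ (fun _ => 1) ∧ (∀ g : G, ((χ : G → ℂ) g).im = 0) ∧ (Cfsg.charDegree (χ : G → ℂ) : ℚ) ≤ ((Nat.card G : ℚ) - 1) / t := by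
  classical
  have := Fact.mk Nat.prime_two
  have ht0 : 0 < t := by
    obtain ⟨x, hx⟩ := exists_prime_orderOf_dvd_card' (G := G) 2 heven.two_dvd
    have : Nonempty {x : G // orderOf x = 2} := ⟨⟨x, hx⟩⟩
    exact ht ▸ Nat.card_pos
  have ht' : (0 : ℚ) < t := by exact_mod_cast ht0
  obtain ⟨S, hS⟩ : ∃ S, S = (univ.erase (principalIrr G)).filter
    fun χ : IrrCharacter G => ∀ g, ((χ : G → ℂ) g).im = 0 := ⟨_, rfl⟩
  obtain ⟨d, hd⟩ : ∃ d : IrrCharacter G → ℕ, d = fun χ : IrrCharacter G => charDegree (χ : G → ℂ) := ⟨_, rfl⟩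
  have hd1 : ∀ χ : IrrCharacter G, (χ : G → ℂ) 1 = d χ := fun χ => by
    rw [hd]; exact (show IsIrrCharacter G χ from χ.2).coe_charDegree.symm
  have h1 : (t : ℚ) ≤ ∑ χ ∈ S, (d χ : ℚ) := by
    have h := congrArg Complex.re (card_sq_eq_sum_fs (1 : G))
    rw [card_sq_eq_one, ht, ← add_sum_erase _ _ (mem_univ (principalIrr G))] at h
    have e : fs (principalIrr G : G → ℂ) * conj ((principalIrr G : G → ℂ) 1) = 1 := by
      have : (principalIrr G : G → ℂ) = fun _ => 1 := rfl
      simp [this, fs]
    rw [e, Complex.add_re, Complex.re_sum] at h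
    have h2 : ∑ χ ∈ univ.erase (principalIrr G), (fs (χ : G → ℂ) * conj ((χ : G → ℂ) 1)).re ≤
        ∑ χ ∈ S, (d χ : ℝ) := by
      rw [hS, sum_filter]
      refine sum_le_sum fun χ _ => ?_
      have hχ : IsIrrCharacter G χ := χ.2
      split_ifs with hr
      · rcases hχ.fs_of_real hr with h | h <;> simp [h, hd1]
      · simp [hχ.fs_of_not_real hr]
    have h3 : (t : ℝ) ≤ ∑ χ ∈ S, (d χ : ℝ) := by
      simp only [Complex.natCast_re, Complex.one_re] at h
      push_cast at h
      linarith
    exact_mod_cast h3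
  have h2 : ∑ χ ∈ S, (d χ : ℚ) ^ 2 ≤ (Nat.card G : ℚ) - 1 := by
    have h := sum_degree_sq (G := G)
    simp only [hd1] at h
    have h' : ∑ χ, (d χ : ℚ) ^ 2 = Nat.card G := by exact_mod_cast h
    have e : d (principalIrr G) = 1 := by
      have : (1 : ℂ) = _ := hd1 (principalIrr G)
      exact_mod_cast this.symm
    rw [← add_sum_erase _ _ (mem_univ (principalIrr G)), e] at h'
    have := sum_le_sum_of_subset_of_nonneg (f := fun χ => (d χ : ℚ) ^ 2)
      (hS ▸ filter_subset _ _ : S ⊆ univ.erase (principalIrr G)) fun _ _ _ => by positivity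
    push_cast at h'
    linarith
  constructor
  · by_contra h
    push Not at h
    have := Fintype.ofFinite (ConjClasses G)
    have h3 := (isClassFunction_one (G := G)).sum_eq_sum_conjClasses
    simp only [Pi.one_apply, sum_const, card_univ, nsmul_eq_mul, mul_one] at h3
    have h4 : (Nat.card G : ℚ) = ∑ C : ConjClasses G,
        ((Subgroup.centralizer ({C.out} : Set G)).index : ℚ) := by
      rw [Nat.card_eq_fintype_card]
      exact_mod_cast h3
    have h5 : ∀ C : ConjClasses G, C.out = 1 ↔ C = 1 := fun C => by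
      constructor
      · intro e
        rw [← Quotient.out_eq C, e]
        rfl
      · rintro rfl
        exact isConj_one_left.1 (ConjClasses.mk_eq_mk_iff_isConj.1 (Quotient.out_eq _))
    rw [← add_sum_erase _ _ (mem_univ 1), (h5 1).2 rfl, Subgroup.centralizer_eq_top_iff_subset.2
      (by simp), Subgroup.index_top] at h4
    have h6 : S.card ≤ (univ.erase (1 : ConjClasses G)).card := by
      rw [card_erase_of_mem (mem_univ _), card_univ, ← Nat.card_eq_fintype_card,
        ← card_irr_eq_card_conjClasses, Nat.card_eq_fintype_card, ← card_univ,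
        ← card_erase_of_mem (mem_univ (principalIrr G)), hS]
      exact card_filter_le _ _
    have hne : (univ.erase (1 : ConjClasses G)).Nonempty := by
      rw [← card_pos]
      refine lt_of_lt_of_le (card_pos.2 ?_) h6
      by_contra h0
      rw [not_nonempty_iff_eq_empty.1 h0, sum_empty] at h1
      linarith
    have h7 := sum_lt_sum_of_nonempty hne (f := fun _ => (((Nat.card G : ℚ) - 1) / t) ^ 2)
      fun C hC => h C.out ((h5 C).not.2 (ne_of_mem_erase hC))
    rw [sum_const, nsmul_eq_mul] at h7
    have h8 := sq_sum_le_card_mul_sum_sq (s := S) (f := fun χ => (d χ : ℚ))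
    have h9 : (S.card : ℚ) ≤ (univ.erase (1 : ConjClasses G)).card := by exact_mod_cast h6
    obtain ⟨g, hg⟩ : ∃ g : ℚ, g = (Nat.card G : ℚ) - 1 := ⟨_, rfl⟩
    rw [← hg] at h2 h7
    have hg0 : 0 ≤ g := le_trans (sum_nonneg fun _ _ => by positivity) h2
    have h10 : (t : ℚ) ^ 2 ≤ (univ.erase (1 : ConjClasses G)).card * g :=
      (pow_le_pow_left₀ ht'.le h1 2).trans (h8.trans (mul_le_mul h9 h2
        (sum_nonneg fun _ _ => by positivity) (by positivity)))
    have h11 : ((univ.erase (1 : ConjClasses G)).card : ℚ) * (g / t) ^ 2 < g := by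
      push_cast at h4
      linarith
    rw [div_pow, ← mul_div_assoc, div_lt_iff₀ (by positivity)] at h11
    nlinarith
  · by_contra h
    push Not at h
    have hne : S.Nonempty := by
      by_contra h0
      rw [not_nonempty_iff_eq_empty.1 h0, sum_empty] at h1
      linarith
    have h3 := sum_lt_sum_of_nonempty hne (f := fun χ => ((Nat.card G : ℚ) - 1) / t * d χ)
      (g := fun χ => (d χ : ℚ) ^ 2) fun χ hχ => by
        rw [hS, mem_filter] at hχ
        have h4 := h χ (fun e => ne_of_mem_erase hχ.1 (Subtype.ext e)) hχ.2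
        have h5 : (0 : ℚ) < d χ := by
          rw [hd]; exact_mod_cast (show IsIrrCharacter G χ from χ.2).charDegree_pos
        rw [sq]
        exact mul_lt_mul_of_pos_right (by rw [hd]; exact h4) h5
    rw [← mul_sum] at h3
    have hg0 : 0 ≤ (Nat.card G : ℚ) - 1 := le_trans (sum_nonneg fun _ _ => by positivity) h2
    have h4 := mul_le_mul_of_nonneg_left h1 (div_nonneg hg0 ht'.le)
    rw [div_mul_cancel₀ _ ht'.ne'] at h4
    linarith

end Cfsg.Agent.S4476
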