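import Cfsg.Statements.S4477
import Cfsg.Agent.S4476
import Cfsg.Agent.Lib.PGrp.TwoMax
import Cfsg.Agent.Lib.Clifford.Real
import Cfsg.Agent.Lib.Clifford.Orbits
import Cfsg.Agent.Lib.Clifford.Cd3

set_option autoImplicit false
open Cfsg

namespace Cfsg.Agent.S4477

open Cfsg.Lib Cfsg.Lib.Clifford Cfsg.Lib.Char Finset Subgroup
open scoped commutatorElement ComplexConjugate

/-- The central elements of order at most two. -/
def V (G : Type*) [Group G] : Subgroup G where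
  carrier := {x | x ∈ center G ∧ x * x = 1}
  one_mem' := ⟨one_mem _, one_mul 1⟩
  mul_mem' := fun {a b} ha hb => ⟨mul_mem ha.1 hb.1, by
    rw [mul_assoc, ← mul_assoc b, mem_center_iff.1 ha.1 b, mul_assoc, hb.2, mul_one, ha.2]⟩
  inv_mem' := fun h => ⟨inv_mem h.1, by rw [← mul_inv_rev, h.2, inv_one]⟩

theorem card_V_dvd (G : Type*) [Group G] [Finite G] : Nat.card (V G) ∣ Nat.card {s : G // s * s = 1} :=
  dvd_ncard_of_act (fun (v : V G) (s : G) => v * s) (fun x => one_mul x) (fun a b x => mul_assoc _ _ _)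
    {s | s * s = 1} (Set.toFinite _) (fun a x hx => by
      change a * x * (a * x) = 1
      rw [mul_assoc, ← mul_assoc x, mem_center_iff.1 a.2.1 x, mul_assoc, hx, mul_one, a.2.2]) _
    fun x _ => ⟨⊥, index_bot, fun a => by simp⟩

theorem odd_card {G : Type*} [Group G] [Finite G] (hG : IsPGroup 2 G) {z : G} (hz : z ∈ center G) (h2 : orderOf z = 2)
    (hz' : z ∈ commutator G) [(zpowers z).Normal] (h : Nat.card {s : G // s * s = 1} % 4 = 2)
    (h' : 4 ∣ Nat.card {s : G ⧸ zpowers z // s * s = 1}) :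
    Odd {χ | χ ∈ Irr (⊤ : Subgroup G) ∧ χ z ≠ χ 1 ∧ RealOn ⊤ χ ∧ charDegree χ = 2}.ncard := by
  classical
  have := Fintype.ofFinite G
  have hzz : z * z = 1 := by rw [← sq, ← h2, pow_orderOf_eq_one]
  have hz1 : z ≠ 1 := by rintro rfl; simp at h2
  have e1 : Nat.card {s : G // s * s = 1} + Nat.card {s : G // s * s = z} =
      2 * Nat.card {s : G ⧸ zpowers z // s * s = 1} := by
    rw [← h2, ← Nat.card_zpowers, ← Nat.card_prod]
    refine Eq.trans ?_ (Nat.card_congr (QuotientGroup.preimageMkEquivSubgroupProdSet _ {s | s * s = 1}))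
    rw [← Nat.card_sum]
    refine Nat.card_congr ((subtypeOrEquiv _ _ (Set.disjoint_left.2 fun s a b => hz1 (b.symm.trans a))).symm.trans
      (Equiv.subtypeEquivRight fun s => ?_))
    change _ ↔ ((s * s : G) : G ⧸ zpowers z) = 1
    rw [QuotientGroup.eq_one_iff, mem_zpowers_iff_mem_range_orderOf, h2]
    simp [Finset.range_add_one, or_comm, eq_comm]
  have hv : ∀ χ ∈ Irr (⊤ : Subgroup G), χ z ≠ χ 1 → χ z = -χ 1 := fun χ hχ e => by
    have hχ := mem_Irr_top.1 hχ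
    obtain ⟨c, hc⟩ := hχ.center_le_charCenter hz
    have a := hc 1
    have b := hc z
    rw [hzz, mul_one z] at *
    rw [a, ← mul_assoc, eq_comm, mul_eq_right₀ (irrOn_top.2 hχ).one_ne_zero, mul_self_eq_one_iff] at b
    rcases b with b | b <;> simp_all
  set X := (Irr (⊤ : Subgroup G)).filter fun χ => χ z ≠ χ 1 ∧ RealOn ⊤ χ ∧ charDegree χ = 2
  have : ∀ χ ∈ Irr (⊤ : Subgroup G), ∃ k : ℤ, fsOn ⊤ χ * conj (χ 1) - fsOn ⊤ χ * conj (χ z) =
      8 * k + if χ ∈ X then 4 else 0 := fun χ hχ => by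
    have hi := irrOn_of_mem hχ
    simp only [X, mem_filter, hχ, true_and]
    by_cases a : χ z = χ 1
    · exact ⟨0, by simp [a]⟩
    by_cases b : RealOn ⊤ χ
    swap
    · exact ⟨0, by simp [b, hi.fsOn_of_not_real b]⟩
    obtain ⟨k, hk⟩ := hG.exists_card_eq
    obtain ⟨_ | _ | j, -, c⟩ := (Nat.dvd_prime_pow Nat.prime_two).1 (hk ▸ (mem_Irr_top.1 hχ).charDegree_dvd_card)
    · exact (a (hi.triv_of_deg c z hz')).elim
    · rw [if_pos ⟨a, b, c⟩, hv χ hχ a, hi.one_eq, map_neg, map_natCast, c]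
      rcases hi.fsOn_of_real b with d | d <;> rw [d]
      exacts [⟨0, by norm_num⟩, ⟨-1, by norm_num⟩]
    · rw [if_neg fun e => by have := c ▸ e.2.2; omega, hv χ hχ a, hi.one_eq, map_neg, map_natCast, c]
      rcases hi.fsOn_of_real b with d | d <;> rw [d]
      exacts [⟨2 ^ j, by push_cast; ring⟩, ⟨-2 ^ j, by push_cast; ring⟩]
  choose! k hk using this
  have e2 : ∀ g : G, (Nat.card {s : G // s * s = g} : ℂ) = ∑ χ ∈ Irr (⊤ : Subgroup G), fsOn ⊤ χ * conj (χ g) := fun g => by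
    rw [Hall.card_sq_eq_sum_fs, ← finsum_eq_sum_of_fintype, finsum_irr_top fun χ => Hall.fs χ * conj (χ g)]
    exact sum_congr rfl fun χ _ => by rw [fsOn_top]; simp [Hall.fs]
  have e3 := sum_congr rfl hk
  rw [sum_sub_distrib, ← e2, ← e2, sum_add_distrib, ← mul_sum, sum_ite_mem, inter_eq_right.2 (filter_subset _ _),
    sum_const, nsmul_eq_mul] at e3
  have e4 : (Nat.card {s : G // s * s = 1} : ℤ) - Nat.card {s : G // s * s = z} =
    8 * (∑ χ ∈ Irr (⊤ : Subgroup G), k χ) + X.card * 4 := by exact_mod_cast e3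
  rw [show {χ | χ ∈ Irr (⊤ : Subgroup G) ∧ χ z ≠ χ 1 ∧ RealOn ⊤ χ ∧ charDegree χ = 2} = X by ext; simp [X],
    Set.ncard_coe_finset, Nat.odd_iff]
  omega

theorem exists_vanish {G : Type*} [Group G] [Finite G] {z : G} (hz' : z ∈ commutator G)
    (h : Odd {χ | χ ∈ Irr (⊤ : Subgroup G) ∧ χ z ≠ χ 1 ∧ RealOn ⊤ χ ∧ charDegree χ = 2}.ncard) :
    ∃ χ ∈ Irr (⊤ : Subgroup G), χ z ≠ χ 1 ∧ RealOn ⊤ χ ∧ charDegree χ = 2 ∧
      ∀ M : Subgroup G, M.index = 2 → ∀ x ∉ M, χ x = 0 := by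
  have hl : ∀ l : G →* ℤˣ, LinOn ⊤ fun g => ((l g : ℤ) : ℂ) := fun l =>
    linOn_of_map_mul (by simp) fun x _ y _ => by simp
  let := subAction (fun (l : G →* ℤˣ) (χ : G → ℂ) => χ * fun g => ((l g : ℤ) : ℂ)) (fun χ => by ext; simp)
    (fun a b χ => by ext; simp; ring) {χ | χ ∈ Irr (⊤ : Subgroup G) ∧ χ z ≠ χ 1 ∧ RealOn ⊤ χ ∧ charDegree χ = 2}
    fun l χ ⟨a, b, c, d⟩ => ⟨mul_lin_mem_Irr a (hl l), by
      have : ((l z : ℤ) : ℂ) = 1 := ((hl l).irrOn.triv_of_deg (hl l).deg z hz').trans (hl l).2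
      simpa [this],
      fun x hx => by rw [Pi.mul_apply, map_mul, c x hx, map_intCast],
      by rw [(irrOn_of_mem a).charOn.deg_mul (hl l).charOn, d, (hl l).deg]⟩
  obtain ⟨⟨χ, a, b, c, d⟩, e⟩ := IsPGroup.nonempty_fixed_point_of_prime_not_dvd_card (p := 2) (G := G →* ℤˣ)
    (fun l => ⟨1, by ext; simp⟩) {χ | χ ∈ Irr (⊤ : Subgroup G) ∧ χ z ≠ χ 1 ∧ RealOn ⊤ χ ∧ charDegree χ = 2}
    h.not_two_dvd_nat
  refine ⟨χ, a, b, c, d, fun M hM x hx => ?_⟩
  have := normal_of_index_eq_two hM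
  let f : G ⧸ M ≃* ℤˣ := mulEquivOfPrimeCardEq (p := 2) hM (by simp)
  have h1 : χ x * ((f x : ℤ) : ℂ) = χ x := congrFun (congrArg Subtype.val (e (f.toMonoidHom.comp (QuotientGroup.mk' M)))) x
  rw [(Int.units_eq_one_or (f x)).resolve_left (by rwa [map_eq_one_iff f f.injective, QuotientGroup.eq_one_iff])] at h1
  simpa [neg_eq_iff_add_eq_zero] using h1

/-- Let G be a finite 2-group whose number of involutions is congruent to 1 modulo 4. Then G is cyclic or its commutator subgroup has index 4. -/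
theorem result {G : Type*} [Group G] [Finite G] (hG : IsPGroup 2 G) (ht : Nat.card {x : G // orderOf x = 2} % 4 = 1) : IsCyclic G ∨ (commutator G).index = 4 := by
  replace ht : Nat.card {s : G // s * s = 1} % 4 = 2 := by rw [S4476.card_sq_eq_one]; omega
  induction hc : Nat.card G using Nat.strong_induction_on generalizing G with
  | _ n ih =>
  have hV : Nat.card (V G) ≤ 2 := PGrp.card_le_pow_of_lt (k := 1) (hG.to_subgroup _) (by_contra fun h => by
    obtain ⟨k, hk⟩ := PGrp.exists_card_eq_pow hG (V G)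
    have := (pow_dvd_pow 2 ((Nat.pow_le_pow_iff_right one_lt_two).1 (hk ▸ not_lt.1 h))).trans (hk ▸ card_V_dvd G)
    omega)
  have hZ : IsCyclic (center G) := PGrp.isCyclic_of_comm_of_card_omegaOne_le (hG.to_subgroup _) inferInstance
    ((card_le_of_le (PGrp.omegaOne_le_iff.2 fun x h1 h2 => (⟨h1, sq x ▸ h2⟩ : x ∈ V G))).trans hV)
  refine or_iff_not_imp_left.2 fun hn => ?_
  have h0 : commutator G ≠ ⊥ := fun e => hn (by
    rwa [(commutator_eq_bot_iff_center_eq_top G).1 e, PGrp.isCyclic_top_iff] at hZ)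
  obtain ⟨z, h1, h2, h3⟩ := PGrp.exists_central_orderOf_eq hG _ h0
  have hz : zpowers z ≤ center G := zpowers_le.2 h2
  have := PGrp.normal_of_le_center hz
  have h4 : ¬ IsCyclic (G ⧸ zpowers z) := fun h => by
    obtain ⟨b, hb⟩ := (PGrp.isCyclic_quotient_iff _).1 h
    exact h0 ((commutator_eq_bot_iff G).2 ⟨⟨PGrp.comm_of_sup_zpowers_eq_top hz hb⟩⟩)
  have hQ := hG.to_quotient (zpowers z)
  by_cases h5 : Nat.card {s : G ⧸ zpowers z // s * s = 1} % 4 = 2
  · have := (ih _ (hc ▸ Core.card_quotient_lt (zpowers_ne_bot.2 (by rintro rfl; simp at h3))) hQ h5 rfl).resolve_left h4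
    rwa [← index_comap_of_surjective _ (QuotientGroup.mk'_surjective _), _root_.commutator_def (G ⧸ _),
      ← MonoidHom.range_eq_top.2 (QuotientGroup.mk'_surjective _), ← map_commutator_eq, Core.comap_map_mk',
      sup_eq_right.2 (zpowers_le.2 h1)] at this
  have h6 : 2 ∣ Nat.card {s : G ⧸ zpowers z // s * s = 1} := by
    obtain ⟨y, -, a, b⟩ := PGrp.exists_central_orderOf_eq hQ ⊤ fun e => h4 (by
      have := Subgroup.subsingleton_iff.1 (subsingleton_of_bot_eq_top e.symm); infer_instance)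
    exact (b ▸ (V _).orderOf_dvd_natCard ⟨a, by rw [← sq, ← b, pow_orderOf_eq_one]⟩).trans (card_V_dvd _)
  obtain ⟨χ, a, b, c, d, e⟩ := exists_vanish h1 (odd_card hG h2 h3 h1 ht (by omega))
  have hχ := mem_Irr_top.1 a
  have := hχ.charKer_normal
  have hf : charKer χ = ⊥ := by_contra fun h => by
    obtain ⟨y, h7, h8, h9⟩ := PGrp.exists_central_orderOf_eq hG _ h
    exact b (apply_eq_of_mem_charKer (zpowers_le.2 h7 (PGrp.mem_zpowers_of_pow_eq_one hZ h2 h8
      (by rw [h9, ← h3, pow_orderOf_eq_one]))))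
  obtain ⟨M, -, hM, _⟩ := PGrp.exists_index_eq_of_ne_top hG (H := zpowers z) fun e => hn (PGrp.isCyclic_top_iff.1
    (e ▸ inferInstance))
  obtain ⟨g, -, hg⟩ := SetLike.exists_of_lt (show M < ⊤ from lt_top_iff_ne_top.2 fun e => by simp [e] at hM)
  obtain ⟨L, hg', hL, _⟩ := PGrp.exists_index_eq_of_ne_top hG (H := zpowers g) fun e => hn (PGrp.isCyclic_top_iff.1
    (e ▸ inferInstance))
  have h7 : (M ⊓ L).index = 4 := by
    have h7 : M.relIndex L ∣ 2 := hM ▸ relIndex_dvd_index_of_normal M L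
    rw [← relIndex_mul_index inf_le_right, inf_relIndex_right, hL,
      ((Nat.dvd_prime Nat.prime_two).1 h7).resolve_left fun e => hg (relIndex_eq_one.1 e (hg' (mem_zpowers g)))]
  have h8 : M ⊓ L ≤ center G := hχ.charCenter_eq_center hf ▸ fun x hx => hχ.mem_charCenter.2 (by
    have h8 := dot_of_supp (H := M ⊓ L) (K := ⊤) le_top (fun x _ hx => (not_and_or.1 hx).elim (e M hM x) (e L hL x)) χ
    have hi := irrOn_of_mem a
    rw [hi.dot_self, relIndex_top_right, h7, dot_self_eq, mul_one] at h8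
    have h9 : ∑ x ∈ elems (M ⊓ L), ‖χ x‖ ^ 2 = ∑ x ∈ elems (M ⊓ L), ‖χ 1‖ ^ 2 := by
      rw [sum_const, card_elems, hi.one_eq, d, nsmul_eq_mul, ← inv_mul_eq_iff_eq_mul₀ (Nat.cast_ne_zero.2 Nat.card_pos.ne')]
      norm_num
      exact_mod_cast h8
    exact (pow_left_inj₀ (norm_nonneg _) (norm_nonneg _) two_ne_zero).1 ((sum_eq_sum_iff_of_le fun x _ => by
      gcongr; exact hi.charOn.norm_le trivial).1 h9 x (mem_elems.2 hx)))
  have h9 : M ⊓ L ≤ V G := fun x hx => ⟨h8 hx, mem_bot.1 (hf.le fun y => by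
    obtain ⟨u, hu⟩ := hχ.center_le_charCenter (h8 hx)
    have h9 := hu x⁻¹
    rw [mul_inv_cancel, (irrOn_of_mem a).charOn.apply_inv trivial, c x trivial] at h9
    have h10 := hu 1
    rw [mul_one] at h10
    rw [h10, ← mul_assoc, eq_comm, mul_eq_right₀ (irrOn_of_mem a).one_ne_zero] at h9
    rw [mul_assoc, hu, hu, ← mul_assoc, h9, one_mul])⟩
  have h10 : commutator G ≤ M ⊓ L := le_inf (PGrp.commutator_le_and_pow_mem_of_index_eq M hM).1
    (PGrp.commutator_le_and_pow_mem_of_index_eq L hL).1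
  rwa [PGrp.eq_of_le_of_card_le h10 ((card_le_of_le h9).trans (hV.trans ((one_lt_card_iff_ne_bot _).2 h0)))]

end Cfsg.Agent.S4477
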