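import Cfsg.Statements.S4478
import Cfsg.Agent.Lib.Hall.FS
import Cfsg.Agent.Lib.Clifford.DefZero

set_option autoImplicit false
open Cfsg

namespace Cfsg.Agent.S4478

open Cfsg.Lib Cfsg.Lib.Clifford Cfsg.Lib.Char Cfsg.Lib.Hall Finset
open scoped ComplexConjugate

/-- Let G be a finite group of even order and χ an irreducible character of G whose degree x is divisible by the full power of 2 dividing the order of G and, for every odd prime p such that G has an element of order 2p, by the full power of p dividing the order of G. Then all involutions of G are conjugate, the centralizer of every involution has order exactly x with x coprime to its index, and the Frobenius–Schur indicator of χ equals 1. -/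
theorem result {G : Type*} [Group G] [Fintype G] (heven : Even (Nat.card G)) (χ : Cfsg.IrrCharacter G) (h2 : 2 ^ (Nat.card G).factorization 2 ∣ Cfsg.charDegree (χ : G → ℂ)) (hp : ∀ p : ℕ, p.Prime → p ≠ 2 → (∃ g : G, orderOf g = 2 * p) → p ^ (Nat.card G).factorization p ∣ Cfsg.charDegree (χ : G → ℂ)) : (∀ s t : G, orderOf s = 2 → orderOf t = 2 → IsConj s t) ∧ (∀ s : G, orderOf s = 2 → Nat.card (Subgroup.centralizer ({s} : Set G)) = Cfsg.charDegree (χ : G → ℂ) ∧ (Nat.card (Subgroup.centralizer ({s} : Set G))).Coprime (Subgroup.centralizer ({s} : Set G)).index) ∧ (Nat.card G : ℂ)⁻¹ * ∑ g : G, (χ : G → ℂ) (g * g) = 1 := by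
  classical
  have := Fact.mk Nat.prime_two
  have hχ : IsIrrCharacter G χ := χ.2
  have h0 : Nat.card G ≠ 0 := Nat.card_pos.ne'
  have hz2 : ∀ g : G, 2 ∣ orderOf g → (χ : G → ℂ) g = 0 := fun g hg =>
    apply_eq_zero_of_defZero Nat.prime_two hχ (defZero_of_pow_dvd Nat.prime_two hχ h2) hg
  have hpow : ∀ (g : G) (m : ℕ), m ∣ orderOf g → ∃ h : G, orderOf h = m := fun g m hm =>
    ⟨g ^ (orderOf g / m), orderOf_pow_orderOf_div (orderOf_pos g).ne' hm⟩
  have hsq : ∀ g : G, (χ : G → ℂ) (g * g) = (if 2 ∣ orderOf g then 0 else (χ : G → ℂ) (g * g)) +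
      if orderOf g = 2 then (χ : G → ℂ) 1 else 0 := by
    intro g
    by_cases h1 : orderOf g = 2
    · have : g * g = 1 := by rw [← sq, ← h1, pow_orderOf_eq_one]
      simp [h1, this]
    · by_cases h3 : 2 ∣ orderOf g
      · simp only [h1, h3, if_true, if_false, add_zero]
        obtain ⟨m, hm⟩ := h3
        have hm1 : m ≠ 1 := fun e => h1 (by rw [hm, e])
        have ho : orderOf (g * g) = m := by
          rw [← sq, orderOf_pow, hm, Nat.gcd_mul_right_left, Nat.mul_div_cancel_left _ two_pos]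
        obtain ⟨q, hq, hqm⟩ := Nat.exists_prime_and_dvd hm1
        by_cases hq2 : q = 2
        · exact hz2 _ (by rw [ho, ← hq2]; exact hqm)
        · exact apply_eq_zero_of_defZero hq hχ (defZero_of_pow_dvd hq hχ
            (hp q hq hq2 (hpow g _ (hm ▸ Nat.mul_dvd_mul_left 2 hqm)))) (ho ▸ hqm)
      · simp [h1, h3]
  have hev : 2 ∣ charDegree (χ : G → ℂ) :=
    (dvd_pow_self 2 (Nat.prime_two.factorization_pos_of_dvd h0 heven.two_dvd).ne').trans h2
  have hne : (χ : G → ℂ) ≠ fun _ => 1 := fun e => by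
    rw [charDegree_eq_of_eq (n := 1) (by rw [e]; simp)] at hev
    omega
  have hodd : ∑ g : G, (if 2 ∣ orderOf g then 0 else (χ : G → ℂ) (g * g)) = 0 := by
    refine Eq.trans ?_ (hχ.sum_eq_zero hne)
    rw [← sum_filter_add_sum_filter_not univ (fun g : G => 2 ∣ orderOf g)
      (χ : G → ℂ), sum_eq_zero fun g hg => hz2 g (mem_filter.1 hg).2, zero_add,
      ← sum_filter_add_sum_filter_not univ (fun g : G => 2 ∣ orderOf g),
      sum_eq_zero fun g hg => if_pos (mem_filter.1 hg).2, zero_add]
    have hc : ∀ g : G, ¬ 2 ∣ orderOf g → orderOf (g * g) = orderOf g := fun g hg => by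
      rw [← sq]
      exact Nat.Coprime.orderOf_pow ((Nat.prime_two.coprime_iff_not_dvd.2 hg).symm)
    refine sum_bij (fun g _ => g * g) (fun g hg => ?_) (fun a ha b hb e => ?_) ?_
      fun g hg => if_neg (mem_filter.1 hg).2
    · rw [mem_filter] at hg ⊢
      exact ⟨mem_univ _, by rw [hc g hg.2]; exact hg.2⟩
    · have h1 := (mem_filter.1 ha).2
      have h3 : orderOf a = orderOf b := by rw [← hc a h1, e, hc b (mem_filter.1 hb).2]
      obtain ⟨k, hk⟩ := Nat.not_even_iff_odd.1 (even_iff_two_dvd.not.2 h1)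
      have : ∀ c : G, orderOf c = 2 * k + 1 → (c * c) ^ (k + 1) = c := fun c hc => by
        rw [← sq, ← pow_mul, show 2 * (k + 1) = 2 * k + 1 + 1 by ring, pow_succ, ← hc,
          pow_orderOf_eq_one, one_mul]
      rw [← this a hk, e, this b (h3 ▸ hk)]
    · intro b hb
      have h1 := (mem_filter.1 hb).2
      obtain ⟨k, hk⟩ := Nat.not_even_iff_odd.1 (even_iff_two_dvd.not.2 h1)
      refine ⟨b ^ (k + 1), mem_filter.2 ⟨mem_univ _, fun h => h1 (h.trans (orderOf_pow_dvd _))⟩, ?_⟩
      rw [← pow_add, show k + 1 + (k + 1) = 2 * k + 1 + 1 by ring, pow_succ, ← hk,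
        pow_orderOf_eq_one, one_mul]
  obtain ⟨T, hT⟩ : ∃ T, T = univ.filter fun g : G => orderOf g = 2 := ⟨_, rfl⟩
  have hsum : ∑ g : G, (χ : G → ℂ) (g * g) = ((T.card * charDegree (χ : G → ℂ) : ℕ) : ℂ) := by
    rw [sum_congr rfl fun g _ => hsq g, sum_add_distrib, hodd, zero_add, ← sum_filter, ← hT,
      sum_const, nsmul_eq_mul, Nat.cast_mul, hχ.coe_charDegree]
  have hT0 : 0 < T.card := by
    obtain ⟨x, hx⟩ := exists_prime_orderOf_dvd_card' (G := G) 2 heven.two_dvd
    exact card_pos.2 ⟨x, by simp [hT, hx]⟩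
  have hpos := Nat.mul_pos hT0 hχ.charDegree_pos
  have hfs : fs (χ : G → ℂ) = (Nat.card G : ℂ)⁻¹ * ∑ g : G, (χ : G → ℂ) (g * g) := by
    simp [fs]
  have hc0 := Char.card_ne_zero G
  have hone : (Nat.card G : ℂ)⁻¹ * ∑ g : G, (χ : G → ℂ) (g * g) = 1 := by
    by_cases hr : ∀ g, ((χ : G → ℂ) g).im = 0
    · rcases hχ.fs_of_real hr with h | h
      · rw [← hfs, h]
      · rw [hfs, hsum, inv_mul_eq_iff_eq_mul₀ hc0, mul_neg, mul_one, eq_neg_iff_add_eq_zero] at h
        have : T.card * charDegree (χ : G → ℂ) + Nat.card G = 0 := by exact_mod_cast h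
        omega
    · have h := hχ.fs_of_not_real hr
      rw [hfs, hsum, mul_eq_zero, inv_eq_zero, Nat.cast_eq_zero, Nat.cast_eq_zero] at h
      omega
  have hcard : Nat.card G = T.card * charDegree (χ : G → ℂ) := by
    rw [hsum, inv_mul_eq_one₀ hc0] at hone
    exact_mod_cast hone
  have hprime : ∀ s : G, orderOf s = 2 → ∀ q : ℕ, q.Prime →
      q ∣ Nat.card (Subgroup.centralizer ({s} : Set G)) →
      q ^ (Nat.card G).factorization q ∣ charDegree (χ : G → ℂ) := by
    intro s hs q hq hd
    by_cases hq2 : q = 2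
    · rw [hq2]; exact h2
    · have := Fact.mk hq
      obtain ⟨y, hy⟩ := exists_prime_orderOf_dvd_card' q hd
      rw [← Subgroup.orderOf_coe] at hy
      refine hp q hq hq2 ⟨s * y, ?_⟩
      have hc : Commute s y := (Subgroup.mem_centralizer_singleton_iff.1 y.2).symm
      rw [hc.orderOf_mul_eq_mul_orderOf_of_coprime, hs, hy]
      rw [hs, hy]
      exact (Nat.coprime_primes Nat.prime_two hq).2 (Ne.symm hq2)
  have key : ∀ s : G, orderOf s = 2 → univ.filter (IsConj s) = T ∧
      Nat.card (Subgroup.centralizer ({s} : Set G)) = charDegree (χ : G → ℂ) := by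
    intro s hs
    have h1 : Nat.card (Subgroup.centralizer ({s} : Set G)) ∣ charDegree (χ : G → ℂ) := by
      refine (Nat.dvd_iff_prime_pow_dvd_dvd _ _).2 fun q k hq hk => ?_
      rcases k with _ | k
      · simp
      · refine (pow_dvd_pow q ((hq.pow_dvd_iff_le_factorization h0).1
          (hk.trans (Subgroup.card_subgroup_dvd_card _)))).trans
          (hprime s hs q hq ((dvd_pow_self q k.succ_ne_zero).trans hk))
    have h3 : univ.filter (IsConj s) ⊆ T := fun y hy => by
      obtain ⟨c, rfl⟩ := isConj_iff.1 (mem_filter.1 hy).2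
      rw [hT, mem_filter, ← hs]
      exact ⟨mem_univ _, (MulAut.conj c).orderOf_eq s⟩
    have h4 := card_le_card h3
    have h5 := Nat.le_of_dvd hχ.charDegree_pos h1
    have h6 := (Subgroup.centralizer ({s} : Set G)).index_mul_card
    rw [← card_filter_isConj, hcard] at h6
    have h7 : T.card ≤ (univ.filter (IsConj s)).card := by
      by_contra h
      have := Nat.mul_lt_mul_of_lt_of_le (not_le.1 h) h5 hχ.charDegree_pos
      omega
    have h8 := eq_of_subset_of_card_le h3 h7
    rw [h8] at h6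
    exact ⟨h8, Nat.eq_of_mul_eq_mul_left hT0 h6⟩
  refine ⟨fun s t hs ht => ?_, fun s hs => ⟨(key s hs).2, ?_⟩, hone⟩
  · have : t ∈ univ.filter (IsConj s) := by rw [(key s hs).1]; simp [hT, ht]
    exact (mem_filter.1 this).2
  · refine Nat.coprime_of_dvd fun q hq h1 h3 => ?_
    have h4 := hprime s hs q hq h1
    rw [← (key s hs).2] at h4
    have h5 := Nat.mul_dvd_mul h4 h3
    rw [Subgroup.card_mul_index, ← pow_succ, hq.pow_dvd_iff_le_factorization h0] at h5
    omega

end Cfsg.Agent.S4478
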