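import Cfsg.Statements.S4479
import Cfsg.Agent.Lib.Block.KleinB

set_option autoImplicit false
open Cfsg

namespace Cfsg.Agent.S4479

open Cfsg.Lib.Block Cfsg.Lib.Char Cfsg.Lib.Amalg
set_option linter.style.haveILetI false

theorem alg {g c d x y w a b e : ℚ} (ha : a * a = 1) (hb : b * b = 1) (he : e * e = 1)
    (hx : x ≠ 0) (hy : y ≠ 0) (hw : w ≠ 0) (hc : c ≠ 0) (hd : d ≠ 0)
    (h1 : 1 + x * a + y * b + w * e = 0)
    (h2 : g * (1 + a ^ 3 / x + b ^ 3 / y + e ^ 3 / w) * d ^ 2 = 8 * c ^ 3) :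
    g = 8 * ((x * y * w) / ((x + a) * (y + b) * (w + e))) * c ^ 3 / d ^ 2 := by
  have h3 : (1 + a ^ 3 / x + b ^ 3 / y + e ^ 3 / w) * (x * y * w) = (x + a) * (y + b) * (w + e) := by
    field_simp
    linear_combination (a * y * w + b * e * x) * ha + (b * x * w + a * e * y) * hb +
      (e * x * y + a * b * w) * he - a * b * e * h1
  have h4 : (1 + a ^ 3 / x + b ^ 3 / y + e ^ 3 / w) ≠ 0 := fun h => by
    rw [h] at h2
    exact hc (pow_eq_zero_iff three_ne_zero |>.1 (by linarith))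
  rw [← h3]
  generalize (1 + a ^ 3 / x + b ^ 3 / y + e ^ 3 / w) = S at h2 h4
  field_simp
  linear_combination h2

/-- An order formula from the principal 2-block. Let G be a finite group of order 4·g₀ with g₀ odd having no normal 2-complement (no normal subgroup of order g₀); let P be a Sylow 2-subgroup, J an involution of P, and fix a maximal ideal M of the algebraic integers containing 2. Suppose the principal 2-block consists of the principal character and three further distinct characters χ₁, χ₂, χ₃ of degrees x₁, x₂, x₃, with χ_i(J) = ε_i = ±1. Then, writing c(J) and c(P) for the orders of the centralizers of J and of P, the order of G equals 8·α·c(J)³/c(P)² with α = x₁x₂x₃ / ((x₁ + ε₁)(x₂ + ε₂)(x₃ + ε₃)). -/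
theorem result {G : Type*} [Group G] [Finite G] (M : Ideal Cfsg.AlgInt) (hM : Cfsg.IsPModular 2 M) (g₀ : ℕ) (hg₀ : Odd g₀) (hG : Nat.card G = 4 * g₀) (hnc : ¬ ∃ N : Subgroup G, N.Normal ∧ Nat.card N = g₀) (P : Sylow 2 G) (J : G) (hJ : J ∈ (P : Subgroup G)) (hJ2 : orderOf J = 2) (χ₁ χ₂ χ₃ : Cfsg.IrrCharacter G) (ε₁ ε₂ ε₃ : ℤ) (hB : Cfsg.principalBlock M G = {χ : Cfsg.IrrCharacter G | (χ : G → ℂ) = (fun _ => 1) ∨ χ = χ₁ ∨ χ = χ₂ ∨ χ = χ₃}) (hdist : (χ₁ : G → ℂ) ≠ (fun _ => 1) ∧ (χ₂ : G → ℂ) ≠ (fun _ => 1) ∧ (χ₃ : G → ℂ) ≠ (fun _ => 1) ∧ χ₁ ≠ χ₂ ∧ χ₁ ≠ χ₃ ∧ χ₂ ≠ χ₃) (hε : (ε₁ = 1 ∨ ε₁ = -1) ∧ (ε₂ = 1 ∨ ε₂ = -1) ∧ (ε₃ = 1 ∨ ε₃ = -1)) (hval : (χ₁ : G → ℂ) J = ε₁ ∧ (χ₂ : G → ℂ) J = ε₂ ∧ (χ₃ : G → ℂ) J = ε₃) : (Nat.card G : ℚ) = 8 * (((Cfsg.charDegree (χ₁ : G → ℂ) : ℚ) * Cfsg.charDegree (χ₂ : G → ℂ) * Cfsg.charDegree (χ₃ : G → ℂ)) / ((Cfsg.charDegree (χ₁ : G → ℂ) + ε₁)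 * (Cfsg.charDegree (χ₂ : G → ℂ) + ε₂) * (Cfsg.charDegree (χ₃ : G → ℂ) + ε₃))) * (Nat.card (Subgroup.centralizer ({J} : Set G)) : ℚ) ^ 3 / (Nat.card (Subgroup.centralizer ((P : Subgroup G) : Set G)) : ℚ) ^ 2 := by
  classical
  haveI := hM.2.1
  haveI : Fact (Nat.Prime 2) := ⟨Nat.prime_two⟩
  haveI := Fintype.ofFinite (Cfsg.principalBlock M G)
  obtain ⟨hV, hone⟩ := klein_of_card_four P hg₀ hG hnc
  have h1 := klein_order hM P hV hone hJ hJ2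
  have h2 := ker_eq_zero hM (Lib.Block2.isPPart_one_iff.2 (by simp : ¬ 2 ∣ orderOf (1 : G)))
    (Lib.Block2.isPPart_self Nat.prime_two ⟨1, hJ2⟩)
    fun h => Lib.Invol.ne_one_of_two hJ2 (isConj_one_right.1 h)
  rw [sum_eq_of_four hB hdist fun χ => χ.1 J ^ 3 / χ.1 1] at h1
  rw [sum_eq_of_four hB hdist fun χ => χ.1 1 * (starRingEnd ℂ) (χ.1 J)] at h2
  simp only [hval.1, hval.2.1, hval.2.2, principalIrr, map_intCast, map_one, one_pow, div_one,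
    mul_one] at h1 h2
  simp only [← Lib.Block2.irr_cast_deg] at h1 h2
  have hs : ∀ e : ℤ, e = 1 ∨ e = -1 → (e : ℚ) * e = 1 := by rintro _ (rfl | rfl) <;> simp
  exact alg (hs _ hε.1) (hs _ hε.2.1) (hs _ hε.2.2) (Nat.cast_ne_zero.2 χ₁.2.charDegree_pos.ne')
    (Nat.cast_ne_zero.2 χ₂.2.charDegree_pos.ne') (Nat.cast_ne_zero.2 χ₃.2.charDegree_pos.ne')
    (Nat.cast_ne_zero.2 Nat.card_pos.ne') (Nat.cast_ne_zero.2 Nat.card_pos.ne')
    (by exact_mod_cast h2) (by exact_mod_cast h1)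

end Cfsg.Agent.S4479
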