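import Cfsg.Statements.S4480
import Cfsg.Agent.Lib.Block.KleinB
import Cfsg.Agent.S4479
import Cfsg.Agent.S0895
import Cfsg.Agent.Lib.Hall.FS

set_option autoImplicit false
open Cfsg

namespace Cfsg.Agent.S4480

open Cfsg.Lib.Block Cfsg.Lib.Block2 Cfsg.Lib.Char Cfsg.Lib.Amalg
set_option linter.style.haveILetI false

theorem arith {g c d x : ℕ} (hx : 4 ∣ x + 3) (hd : 0 < d) (h1 : d ∣ c) (h2 : c ∣ g)
    (h : (g : ℚ) = 8 * ((x * x * (2 * x + 1 : ℕ)) / ((x + 1) * (x + 1) * ((2 * x + 1 : ℕ) + -1)))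
      * c ^ 3 / d ^ 2) :
    ∃ m : ℕ, 4 * c = m * d * (2 * x + 1 + 1) ∧ 8 * g = m ^ 3 * d * ((2 * x + 1) ^ 3 - (2 * x + 1)) := by
  obtain ⟨u, rfl⟩ := h1
  obtain ⟨k, rfl⟩ := h2
  obtain ⟨w, rfl⟩ : ∃ w, x = 2 * w + 1 := ⟨x / 2, by omega⟩
  have hw : Nat.Coprime (w + 1) (2 * w + 1) := by
    rw [show 2 * w + 1 = w + 1 * (w + 1) by ring, Nat.coprime_add_mul_right_right]; simp
  have hw' : Nat.Coprime (w + 1) (4 * w + 3) := by
    rw [show 4 * w + 3 = w + 3 * (w + 1) by ring, Nat.coprime_add_mul_right_right]; simp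
  have h3 : u * ((w + 1) ^ 2 * k) = u * ((2 * w + 1) * (4 * w + 3) * u ^ 2) := by
    have : (d : ℚ) ≠ 0 := Nat.cast_ne_zero.2 hd.ne'
    have h4 : (u : ℚ) * ((w + 1) ^ 2 * k) = u * ((2 * w + 1) * (4 * w + 3) * u ^ 2) := by
      push_cast at h
      rw [show (2 * (2 * (w : ℚ) + 1) + 1 + -1) = 2 * (2 * w + 1) by ring] at h
      field_simp at h
      linear_combination h / 8
    exact_mod_cast h4
  rcases Nat.eq_zero_or_pos u with rfl | hu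
  · exact ⟨0, by simp, by simp⟩
  have h4 := Nat.eq_of_mul_eq_mul_left hu h3
  obtain ⟨m, rfl⟩ : w + 1 ∣ u := (Nat.pow_dvd_pow_iff two_ne_zero).1
    (((hw.mul_right hw').pow_left 2).dvd_of_dvd_mul_left ⟨k, h4.symm⟩)
  refine ⟨m, by ring, ?_⟩
  have h5 : k = (2 * w + 1) * (4 * w + 3) * m ^ 2 :=
    Nat.eq_of_mul_eq_mul_left (by positivity : 0 < (w + 1) ^ 2) (by rw [h4]; ring)
  rw [h5, show (2 * (2 * w + 1) + 1) ^ 3 = 8 * ((2 * w + 1) * (4 * w + 3) * (w + 1)) +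
    (2 * (2 * w + 1) + 1) by ring, Nat.add_sub_cancel]
  ring

/-- Same setting as the Klein-four order formula: G of order 4·g₀ (g₀ odd) with no normal 2-complement, P a Sylow 2-subgroup, J an involution of P, M over 2, principal 2-block {1, χ₁, χ₂, χ₃} with χ_i(J) = ε_i = ±1. Suppose ε₁ε₂ε₃ = −1 and ε₃ = −1, and put q = x₃ = χ₃(1). Then there is a natural number m with 4·c(J) = m·c(P)·(q + 1), and the order of G equals (m³·c(P)/4)·(q³ − q)/2, that is 8·#G = m³·c(P)·(q³ − q). -/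
theorem result {G : Type*} [Group G] [Finite G] (M : Ideal Cfsg.AlgInt) (hM : Cfsg.IsPModular 2 M) (g₀ : ℕ) (hg₀ : Odd g₀) (hG : Nat.card G = 4 * g₀) (hnc : ¬ ∃ N : Subgroup G, N.Normal ∧ Nat.card N = g₀) (P : Sylow 2 G) (J : G) (hJ : J ∈ (P : Subgroup G)) (hJ2 : orderOf J = 2) (χ₁ χ₂ χ₃ : Cfsg.IrrCharacter G) (ε₁ ε₂ ε₃ : ℤ) (hB : Cfsg.principalBlock M G = {χ : Cfsg.IrrCharacter G | (χ : G → ℂ) = (fun _ => 1) ∨ χ = χ₁ ∨ χ = χ₂ ∨ χ = χ₃}) (hdist : (χ₁ : G → ℂ) ≠ (fun _ => 1) ∧ (χ₂ : G → ℂ) ≠ (fun _ => 1) ∧ (χ₃ : G → ℂ) ≠ (fun _ => 1) ∧ χ₁ ≠ χ₂ ∧ χ₁ ≠ χ₃ ∧ χ₂ ≠ χ₃) (hε : (ε₁ = 1 ∨ ε₁ = -1) ∧ (ε₂ = 1 ∨ ε₂ = -1) ∧ (ε₃ = 1 ∨ ε₃ = -1)) (hval : (χ₁ : G → ℂ) J = ε₁ ∧ (χ₂ : G → ℂ) J = ε₂ ∧ (χ₃ : G → ℂ) J = ε₃) (hprod : ε₁ * ε₂ * ε₃ = -1) (hε₃ : ε₃ = -1) : ∃ m : ℕ, 4 * Nat.card (Subgroup.centralizer ({J} : Set G)) = m * Nat.card (Subgroup.centralizer ((P : Subgroup G) : Set G)) * (Cfsg.charDegree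 (χ₃ : G → ℂ) + 1) ∧ 8 * Nat.card G = m ^ 3 * Nat.card (Subgroup.centralizer ((P : Subgroup G) : Set G)) * (Cfsg.charDegree (χ₃ : G → ℂ) ^ 3 - Cfsg.charDegree (χ₃ : G → ℂ)) := by
  classical
  haveI := hM.2.1
  haveI : Fact (Nat.Prime 2) := ⟨Nat.prime_two⟩
  haveI := Fintype.ofFinite G
  haveI := Fintype.ofFinite (Cfsg.principalBlock M G)
  obtain ⟨hV, hone⟩ := klein_of_card_four P hg₀ hG hnc
  have h0 := S4479.result M hM g₀ hg₀ hG hnc P J hJ hJ2 χ₁ χ₂ χ₃ ε₁ ε₂ ε₃ hB hdist hε hval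
  have hJp := Lib.Block2.isPPart_self Nat.prime_two ⟨1, hJ2⟩
  have h2 := ker_eq_zero hM (Lib.Block2.isPPart_one_iff.2 (by simp : ¬ 2 ∣ orderOf (1 : G))) hJp
    fun h => Lib.Invol.ne_one_of_two hJ2 (isConj_one_right.1 h)
  rw [sum_eq_of_four hB hdist fun χ => χ.1 1 * (starRingEnd ℂ) (χ.1 J)] at h2
  simp only [hval.1, hval.2.1, hval.2.2, principalIrr, map_intCast, map_one, mul_one] at h2
  simp only [← Lib.Block2.irr_cast_deg] at h2
  have h2' : 1 + Cfsg.charDegree χ₁.1 * ε₁ + Cfsg.charDegree χ₂.1 * ε₂ +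
    Cfsg.charDegree χ₃.1 * ε₃ = 0 := by exact_mod_cast h2
  have p1 := χ₁.2.charDegree_pos
  have p2 := χ₂.2.charDegree_pos
  have p3 := χ₃.2.charDegree_pos
  subst hε₃
  obtain ⟨rfl, rfl⟩ : ε₁ = 1 ∧ ε₂ = 1 := by
    rcases hε.1 with rfl | rfl <;> rcases hε.2.1 with rfl | rfl <;> omega
  have hd : ∀ (χ : Cfsg.IrrCharacter G) (a : ℤ), χ.1 J = a → (4 : ℤ) ∣ Cfsg.charDegree χ.1 - a :=
    fun χ a h => by
      have := card_dvd_of_const χ.2.isCharacter (P := P) (a := a) fun y hy h1 =>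
        (χ.2.isClassFunction.eq_of_isConj (hone _ _ (Lib.Invol.klein_two hV hy h1) hJ2)).trans h
      rwa [hV.card_four] at this
  have d1 := hd _ _ hval.1
  have d2 := hd _ _ hval.2.1
  have d3 := hd _ _ hval.2.2
  have hconj : ∀ χ : Cfsg.IrrCharacter G, χ ∈ Cfsg.principalBlock M G → ∃ ψ : Cfsg.IrrCharacter G,
      (ψ.1 = (fun _ => 1) ∨ ψ = χ₁ ∨ ψ = χ₂ ∨ ψ = χ₃) ∧ ψ.1 J = χ.1 J ∧
      Cfsg.charDegree ψ.1 = Cfsg.charDegree χ.1 ∧ (ψ.1 = (fun _ => 1) → χ.1 = fun _ => 1) ∧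
      (ψ = χ → ∀ g, (χ.1 g).im = 0) := fun χ h => by
    have := hB.le (conj_mem_principalBlock hM ⟨χ, h⟩)
    refine ⟨_, this, χ.2.isCharacter.conj_apply_of_two (Lib.Invol.mul_self_of_two hJ2), ?_,
      fun e => funext fun g => ?_, fun e => Lib.Hall.eq_conj_iff_im.1 (congrArg Subtype.val e).symm⟩
    · unfold Cfsg.charDegree
      simp only [Lib.Block2.conj_apply_one χ.2.isCharacter]
    · simpa using congrArg (starRingEnd ℂ) (congrFun e g)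
  have hx : Cfsg.charDegree χ₂.1 = Cfsg.charDegree χ₁.1 := by
    by_contra hne
    have hne1 : (1 : ℂ) ≠ -1 := by norm_num
    have r1 : ∀ g, (χ₁.1 g).im = 0 := by
      obtain ⟨ψ, h3, h4, h5, h6, h7⟩ := hconj χ₁ (by simp [hB])
      rcases h3 with h | rfl | rfl | rfl
      exacts [absurd (h6 h) hdist.1, h7 rfl, absurd h5 hne,
        absurd (by simpa [hval.1, hval.2.2] using h4.symm) hne1]
    have r2 : ∀ g, (χ₂.1 g).im = 0 := by
      obtain ⟨ψ, h3, h4, h5, h6, h7⟩ := hconj χ₂ (by simp [hB])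
      rcases h3 with h | rfl | rfl | rfl
      exacts [absurd (h6 h) hdist.2.1, absurd h5.symm hne, h7 rfl,
        absurd (by simpa [hval.2.1, hval.2.2] using h4.symm) hne1]
    have r3 : ∀ g, (χ₃.1 g).im = 0 := by
      obtain ⟨ψ, h3, h4, h5, h6, h7⟩ := hconj χ₃ (by simp [hB])
      rcases h3 with h | rfl | rfl | rfl
      exacts [absurd (h6 h) hdist.2.2.1, absurd (by simpa [hval.1, hval.2.2] using h4) hne1,
        absurd (by simpa [hval.2.1, hval.2.2] using h4) hne1, h7 rfl]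
    have f1 := S0895.result _ χ₁.2 r1 _ (Lib.Block2.irr_cast_deg χ₁).symm (Nat.odd_iff.2 (by omega))
    have f2 := S0895.result _ χ₂.2 r2 _ (Lib.Block2.irr_cast_deg χ₂).symm (Nat.odd_iff.2 (by omega))
    have f3 := S0895.result _ χ₃.2 r3 _ (Lib.Block2.irr_cast_deg χ₃).symm (Nat.odd_iff.2 (by omega))
    have h3 : ∑ s : G, ∑ χ : Cfsg.principalBlock M G,
        χ.1.1 (s * s) * (starRingEnd ℂ) (χ.1.1 J) = 0 := Finset.sum_eq_zero fun s _ => by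
      obtain ⟨z, hz⟩ := Lib.Block2.exists_isPPart Nat.prime_two s
      obtain ⟨k, hk⟩ := hz.orderOf_eq
      obtain ⟨c, hc⟩ := Lib.Invol.exists_conj_mem_sylow P (x := z) (k := k)
        (hk ▸ pow_orderOf_eq_one z)
      have hz2 : z * z = 1 := by
        have := Lib.Invol.klein_mul_self hV hc
        rw [conj_mul] at this
        simpa using this
      obtain ⟨v, rfl, hcv, -, hv⟩ := hz
      refine ker_eq_zero hM (Lib.Block2.isPPart_one_iff.2 fun h => hv ?_) hJp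
        fun h => Lib.Invol.ne_one_of_two hJ2 (isConj_one_right.1 h)
      rw [mul_assoc, ← mul_assoc v, ← hcv.eq, mul_assoc, ← mul_assoc, hz2, one_mul, ← sq] at h
      exact h.trans (orderOf_pow_dvd 2)
    rw [Finset.sum_comm] at h3
    simp only [← Finset.sum_mul] at h3
    rw [sum_eq_of_four hB hdist fun χ => (∑ s, χ.1 (s * s)) * (starRingEnd ℂ) (χ.1 J)] at h3
    have := card_ne_zero G
    rw [inv_mul_eq_iff_eq_mul₀ this] at f1 f2 f3
    simp only [f1, f2, f3, hval.1, hval.2.1, hval.2.2, principalIrr, map_intCast, map_one, mul_one,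
      Finset.sum_const, Finset.card_univ, ← Nat.card_eq_fintype_card, nsmul_eq_mul] at h3
    push_cast at h3
    exact this (by linear_combination h3 / 2)
  have hq : Cfsg.charDegree χ₃.1 = 2 * Cfsg.charDegree χ₁.1 + 1 := by omega
  rw [hq, hx] at h0
  rw [hq]
  exact arith (by omega) Nat.card_pos
    (Subgroup.card_dvd_of_le (Subgroup.centralizer_le (Set.singleton_subset_iff.2 hJ)))
    (Subgroup.card_subgroup_dvd_card _) (by exact_mod_cast h0)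

end Cfsg.Agent.S4480
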