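import Cfsg.Statements.S4484
import Cfsg.Agent.Lib.Small.Blich

set_option autoImplicit false
open Cfsg

namespace Cfsg.Agent.S4484

open Cfsg.Lib Cfsg.Lib.Small Cfsg.Lib.Char Cfsg.Lib.Block Cfsg.Lib.Amalg Subgroup

/-- A refinement of Burnside's result on simple groups of order divisible by only two primes. Let G be a finite simple group of order p^a · q^b · g₀ with p, q distinct primes, a > 0, g₀ coprime to p and q, and the order of G different from p. Then g₀ − 1 > log p / log 6, that is 6^(g₀ − 1) > p. -/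
theorem result {G : Type*} [Group G] [Finite G] [IsSimpleGroup G] (p q a b g₀ : ℕ) (hp : p.Prime) (hq : q.Prime) (hpq : p ≠ q) (ha : 0 < a) (hg : Nat.card G = p ^ a * q ^ b * g₀) (hcop : ¬ p ∣ g₀) (hcoq : ¬ q ∣ g₀) (hne : Nat.card G ≠ p) : p < 6 ^ (g₀ - 1) := by
  classical
  haveI := Fact.mk hp
  have hd : p ∣ Nat.card G := hg ▸ ((dvd_pow_self p ha.ne').mul_right _).mul_right _
  have hG := not_isMulCommutative_of_not_prime (G := G) fun h =>
    hne ((Nat.prime_dvd_prime_iff_eq hp h).1 hd).symm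
  have h0 : 0 < g₀ := Nat.pos_of_ne_zero (by rintro rfl; simp at hcop)
  by_contra! h6
  have h1 : g₀ < p := lt_of_le_of_ne (by
    have := Nat.lt_pow_self (n := g₀ - 1) (show 1 < 6 by omega); omega) fun e => hcop (e ▸ dvd_rfl)
  refine absurd (le_antisymm h6 ?_) fun e => ?_
  swap
  · have h2 : ∀ r, r.Prime → r ∣ 6 → r = p := fun r hr h => (Nat.prime_dvd_prime_iff_eq hr hp).1
      (e ▸ h.trans (dvd_pow_self 6 fun h => hp.ne_one (by rw [← e, h, pow_zero])))
    have := h2 2 Nat.prime_two (by omega)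
    have := h2 3 Nat.prime_three (by omega)
    omega
  obtain ⟨P⟩ : Nonempty (Sylow p G) := inferInstance
  have hP := syl_top_iff.2 ⟨P, rfl⟩
  obtain ⟨y, y1, y2, y3⟩ := exists_mem_center_syl hd hP
  obtain ⟨k, hk⟩ := IsPGroup.iff_orderOf.1 P.isPGroup' ⟨y, y1⟩
  rw [← orderOf_coe] at hk
  have y4 : p ∣ orderOf y := hk ▸ dvd_pow_self p (by rintro rfl; exact y2 (orderOf_eq_one_iff.1 hk))
  have hz := orderOf_pow_orderOf_div (orderOf_pos y).ne' y4
  replace y3 := pow_mem y3 (orderOf y / p)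
  generalize y ^ (orderOf y / p) = z at hz y3
  obtain ⟨M, hM⟩ := Block2.exists_isPModular hp
  haveI := hM.2.1
  obtain ⟨χ, h2, h3, h4, -⟩ := exists_principal_not_dvd hM hq hz.symm.dvd
  refine le_six_pow hG h3 hz h1 fun m h5 h7 => ?_
  have hc := χ.2.apply_one_ne_zero
  have h8 : ∀ j : ℕ, IsIntegral ℤ (g₀ * χ.1 (z ^ j) / χ.1 1) ∧
      MemLocalIdeal M (g₀ * χ.1 (z ^ j) / χ.1 1 - g₀) := fun j => by
    have a1 := not_dvd_index_centralizer hP (pow_mem y3 j)
    obtain ⟨c, a2⟩ : (centralizer {z ^ j}).index ∣ q ^ b * g₀ :=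
      ((hp.coprime_iff_not_dvd.2 a1).symm.pow_right a).dvd_of_dvd_mul_left
        (by rw [← mul_assoc, ← hg]; exact index_dvd_card _)
    obtain ⟨u, v, a3⟩ := Nat.isCoprime_iff_coprime.2 ((hq.coprime_iff_not_dvd.2 h4).pow_left b)
    refine ⟨?_, ?_⟩
    · refine Eq.subst (motive := IsIntegral ℤ) ?_ (((isIntegral_intCast u).mul ((isIntegral_natCast c).mul
        (Lib.Char.Cfsg.IsIrrCharacter.isIntegral_centralChar χ.2 (z ^ j)))).add ((isIntegral_intCast v).mul
          ((isIntegral_natCast g₀).mul (Lib.Char.Cfsg.IsCharacter.isIntegral χ.2.isCharacter (z ^ j)))))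
      replace a2 := congrArg (Nat.cast (R := ℂ)) a2
      replace a3 := congrArg (Int.cast (R := ℂ)) a3
      push_cast [coe_deg] at a2 a3
      simp only [centralChar]
      field_simp
      linear_combination (g₀ * χ.1 (z ^ j)) * a3 - (u * χ.1 (z ^ j)) * a2
    · convert (((h2 (z ^ j)).sub_symm.div (memLocalRing_natCast _)
        (mt (memLocalIdeal_natCast_iff hM _).1 a1)).mul_left (memLocalRing_natCast g₀)) using 1
      have : ((centralizer {z ^ j}).index : ℂ) ≠ 0 := Nat.cast_ne_zero.2 index_ne_zero_of_finite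
      simp only [centralChar]
      field_simp
  have h9 : ∀ i, charDegree χ.1 ∣ g₀ * m i := fun i => by
    have a1 : ((p * (g₀ * m i) : ℕ) : ℂ) / charDegree χ.1 =
        ∑ j, ZMod.stdAddChar (i * j) * (g₀ * χ.1 (z ^ j.val) / χ.1 1) := by
      simp only [coe_deg, ← mul_div_assoc, ← Finset.sum_div, mul_left_comm _ (g₀ : ℂ), ← Finset.mul_sum, h5]
      push_cast; ring
    have a0 : ∀ a : ZMod p, IsIntegral ℤ (ZMod.stdAddChar a : ℂ) := fun a =>
      .of_pow hp.pos (psi_pow_p a ▸ isIntegral_one)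
    obtain ⟨N, hN⟩ := dvd_of_isIntegral_div (deg_pos χ).ne' (a1 ▸ IsIntegral.sum _ fun j _ =>
      (a0 _).mul (h8 _).1)
    obtain ⟨N, rfl⟩ : p ∣ N := (memLocalIdeal_natCast_iff hM _).1 (by
      convert (memLocalIdeal_sum (s := Finset.univ) fun (j : ZMod p) _ =>
        ((h8 j.val).2.mul_left (memLocalRing_of_isIntegral (a0 (i * j)))).add
          ((memLocalIdeal_sub_one_of_pow_prime_pow hM (k := 1) (by rw [pow_one, psi_pow_p (i * j)])).mul_right
            (memLocalRing_natCast g₀))).add ((memLocalIdeal_prime hM).mul_right (memLocalRing_natCast g₀))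
      rw [hN, Nat.cast_mul, mul_div_cancel_left₀ _ (coe_deg χ ▸ hc)] at a1
      simp [a1, mul_sub, sub_mul, Finset.sum_sub_distrib])
    exact ⟨N, Nat.eq_of_mul_eq_mul_left hp.pos (by rw [hN]; ring)⟩
  refine Nat.le_of_mul_le_mul_right ?_ (deg_pos χ)
  rw [← smul_eq_mul, mul_comm g₀, ← h7, Finset.sum_mul, h7]
  exact (Finset.card_nsmul_le_sum _ _ _ fun i hi => Nat.le_of_dvd (by
    have := (Finset.mem_filter.1 hi).2; positivity) (mul_comm g₀ _ ▸ h9 i)).trans
      (Finset.sum_le_sum_of_subset (Finset.filter_subset _ _))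

end Cfsg.Agent.S4484
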