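import Cfsg.Statements.S4485
import Cfsg.Agent.Lib.Clifford.Leonard

set_option autoImplicit false
open Cfsg

namespace Cfsg.Agent.S4485

open Cfsg.Lib Cfsg.Lib.Clifford Cfsg.Lib.Char Cfsg.Lib.Transfer Subgroup

/-- Let G be a finite group and p a prime dividing its order such that every non-identity element of a Sylow p-subgroup P has the same centralizer as P itself (so P is abelian); let p^n be the order of P. If G has a faithful character of degree x with x² < p^n − 1, then P is normal in G. -/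
theorem result {G : Type*} [Group G] [Finite G] (p : ℕ) (hp : p.Prime) (hpG : p ∣ Nat.card G) (P : Sylow p G) (hstar : ∀ x ∈ (P : Subgroup G), x ≠ 1 → Subgroup.centralizer ({x} : Set G) = Subgroup.centralizer ((P : Subgroup G) : Set G)) (n : ℕ) (hn : Nat.card P = p ^ n) (χ : G → ℂ) (hχ : Cfsg.IsCharacter G χ) (hfaith : ∀ g : G, χ g = χ 1 → g = 1) (hdeg : Cfsg.charDegree χ ^ 2 + 1 < p ^ n) : (P : Subgroup G).Normal := by
  have := Fact.mk hp
  set H := normalClosure ((P : Subgroup G) : Set G)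
  have hPH : (P : Subgroup G) ≤ H := le_normalClosure
  have hT := sylowIn_of_le P hPH
  have hU : UniC p ((P : Subgroup G).subgroupOf H) := ⟨sylowIn_top hT.toSylow, fun x hx h1 => by
    ext y
    have := SetLike.ext_iff.1 (hstar x hx (by simpa using h1)) (y : G)
    rw [mem_centralizer_singleton_iff] at this ⊢
    rw [Subtype.ext_iff, coe_mul, coe_mul, this]
    exact ⟨fun h z hz => Subtype.ext (h z hz), fun h z hz => congrArg Subtype.val (h ⟨z, hPH hz⟩ hz)⟩⟩
  have hgen : ∀ K : Subgroup H, K.Normal → (P : Subgroup G).subgroupOf H ≤ K → K = ⊤ := fun K hK h => by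
    have h1 : ∀ g : G, Transfer.cj g P ≤ K.map H.subtype := fun g => by
      have h2 := hT.cj g
      rw [cj_eq_of_normal g H] at h2
      obtain ⟨h, hh, e⟩ := hT.exists_cj_eq h2
      rw [← e, cj_le_iff]
      exact fun x hx => ⟨_, hK.conj_mem ⟨x, hPH hx⟩ (‹_ ≤ K› hx) ⟨h, hh⟩, rfl⟩
    have h2 : H ≤ K.map H.subtype := (closure_le _).2 fun x hx => by
      obtain ⟨a, ha, e⟩ := Group.mem_conjugatesOfSet_iff.1 hx
      obtain ⟨g, rfl⟩ := isConj_iff.1 e
      exact h1 g (conj_mem_cj.2 ha)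
    exact top_le_iff.1 fun x _ => by
      obtain ⟨y, hy, e⟩ := h2 x.2
      rwa [← Subtype.ext e]
  have hc : CharOn ⊤ (χ ∘ H.subtype) := (charOn_top.2 hχ).comp _ fun _ _ => trivial
  have hab : ∀ a ∈ H, ∀ b ∈ H, a * b = b * a := fun a ha b hb => by
    rw [← mul_inv_eq_iff_eq_mul, ← mul_inv_eq_one]
    refine hfaith _ (hc.classOn.eq_of_forall (x := (⟨a, ha⟩ * ⟨b, hb⟩ * ⟨a, ha⟩⁻¹ * ⟨b, hb⟩⁻¹ : H))
      trivial fun θ hθ hd => ?_ :)
    have h1 := irrOn_of_mem hθ
    have h2 : charDegree θ ≤ charDegree χ := hc.deg_le_of_dot h1 hd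
    rcases hU.deg_eq_one hgen h1 (by
      rw [Nat.card_congr (subgroupOfEquivOfLe hPH).toEquiv, hn]
      exact lt_of_le_of_lt (Nat.succ_le_succ (Nat.pow_le_pow_left h2 2)) hdeg) with h | ⟨h, -⟩
    · rw [h, h]
    · rw [(h1.charOn.linOn_of_deg h).map_commutator trivial trivial, h1.one_eq, h, Nat.cast_one]
  refine ⟨fun x hx g => ?_⟩
  have h2 := hT.cj g
  rw [cj_eq_of_normal g H] at h2
  obtain ⟨h, hh, e⟩ := hT.exists_cj_eq h2
  have : _ ∈ Transfer.cj h P := e ▸ (conj_mem_cj (g := g)).2 hx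
  rwa [mem_cj, mul_assoc, hab _ (normalClosure_normal.conj_mem _ (hPH hx) g) h hh,
    inv_mul_cancel_left] at this

end Cfsg.Agent.S4485
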