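import Cfsg.Statements.S4488
import Cfsg.Agent.Lib.Clifford.Schur
import Cfsg.Agent.Lib.Clifford.Amb

set_option autoImplicit false
open Cfsg

namespace Cfsg.Agent.S4488

open Cfsg.Lib Cfsg.Lib.Clifford Cfsg.Lib.Char Finset Subgroup
open scoped commutatorElement

/-- Let the finite group G have a faithful p-rational character χ of degree n (all values of χ lie in the field generated over ℚ by a root of unity of order prime to p), and let p^a be the order of a Sylow p-subgroup of G. Then a ≤ Σ_{i ≥ 0} ⌊n / ((p − 1)·p^i)⌋ (a finite sum; the terms vanish once (p − 1)p^i > n). -/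
theorem result {G : Type*} [Group G] [Finite G] (p : ℕ) (hp : p.Prime) (χ : G → ℂ) (hχ : Cfsg.IsCharacter G χ) (hfaith : ∀ g : G, χ g = χ 1 → g = 1) (hrat : (∃ r : ℕ, 0 < r ∧ ¬ p ∣ r ∧ ∀ g : G, χ g ∈ IntermediateField.adjoin ℚ ({Complex.exp (2 * Real.pi * Complex.I / r)} : Set ℂ))) (n : ℕ) (hn : Cfsg.charDegree χ = n) : (Nat.card G).factorization p ≤ ∑ i ∈ Finset.range (n + 1), n / ((p - 1) * p ^ i) := by
---
  have := Fact.mk hp
  obtain ⟨P⟩ : Nonempty (Sylow p G) := inferInstance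
  obtain ⟨r, hr, hpr, h⟩ := hrat
  have hc := charOn_of_isCharacter hχ (P : Subgroup G)
  have h1 := schur_bound hp P.isPGroup' hc fun g hg k hk => by
    obtain ⟨s, hs⟩ := P.isPGroup' ⟨g, hg⟩
    have hs : g ^ p ^ s = 1 := congrArg Subtype.val hs
    have co : (p ^ s).Coprime r := ((Nat.Prime.coprime_iff_not_dvd hp).2 hpr).pow_left s
    obtain ⟨j, h1, h2⟩ := Nat.chineseRemainder co k 1
    obtain ⟨σ, hσ⟩ := exists_ringEquiv_pow (n := p ^ s * r) (k := j) (by have := hp.pos; positivity)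
      (Nat.Coprime.mul_right (by rw [Nat.Coprime, h1.gcd_eq]; exact
        (((Nat.Prime.coprime_iff_not_dvd hp).2 hk).symm.pow_right s)) (by rw [Nat.Coprime, h2.gcd_eq]; simp))
    have h3 := (Complex.isPrimitiveRoot_exp r hr.ne').pow_eq_one
    rw [← pow_eq_pow_iff_modEq.2 (h1.of_dvd (orderOf_dvd_of_pow_eq_one hs)), ← hc.genOn.map_eq_apply_pow
      σ.toRingHom hσ hg (by rw [pow_mul, hs, one_pow])]
    refine Block2.map_eq_of_mem_adjoin σ ?_ (h g)
    rw [hσ _ (by rw [mul_comm (p ^ s), pow_mul, h3, one_pow]),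
      pow_eq_pow_of_modEq h2 h3, pow_one]
  rw [show kerOn (P : Subgroup G) χ = ⊥ from eq_bot_iff.2 fun x hx => hfaith x (hc.mem_kerOn.1 hx).2,
    relIndex_bot_left, P.card_eq_multiplicity, hn] at h1
  simpa [hp.factorization_pow] using factorization_le_of_dvd_schur hp h1

end Cfsg.Agent.S4488
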