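import Cfsg.Statements.S4489
import Cfsg.Agent.Lib.Clifford.PBlk


set_option autoImplicit false
open Cfsg

namespace Cfsg.Agent.S4489

open Cfsg.Lib Cfsg.Lib.Clifford Cfsg.Lib.Char Subgroup Finset

variable {Γ : Type*} [Group Γ] [Finite Γ] {H K : Subgroup Γ} {φ χ ψ : Γ → ℂ}

open Classical in
/-- the Galois conjugates of `χ` -/
noncomputable def gal (K : Subgroup Γ) (χ : Γ → ℂ) : Finset (Γ → ℂ) :=
  (Irr K).filter fun η => ∃ σ : ℂ ≃+* ℂ, (fun x => σ (χ x)) = η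

theorem mem_gal (h : χ ∈ Irr K) : φ ∈ gal K χ ↔ ∃ σ : ℂ ≃+* ℂ, (fun x => σ (χ x)) = φ := by
  classical
  rw [gal, mem_filter, and_iff_right_iff_imp]
  rintro ⟨σ, rfl⟩
  exact map_mem_Irr h σ

theorem ind_map (σ : ℂ ≃+* ℂ) : ind H K (fun x => σ (φ x)) = fun x => σ (ind H K φ x) := by
  ext x
  rw [ind_apply, ind_apply, map_mul, map_inv₀, map_natCast, map_sum]
  refine congrArg _ (sum_congr rfl fun y _ => ?_)
  by_cases h : y⁻¹ * x * y ∈ H <;> simp [h]

theorem mem_orb_of_ind (hHK : H ≤ K) (hN : Nrm K H) (h : φ ∈ Irr H) (h' : ψ ∈ Irr H) (hχ : IrrOn K (ind H K φ))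
    (e : ind H K ψ = ind H K φ) : ψ ∈ orb K H φ := by
  have : ∀ ψ, ind H K ψ = ind H K φ → dot H (ind H K φ) ψ ≠ 0 := fun ψ e => by
    rw [← dot_ind_right hHK hχ.classOn, e, hχ.dot_self]; exact one_ne_zero
  exact cut_of_mem_Irr h' ▸ mem_orb_of_dot hHK hN hχ (irrOn_of_mem h) (irrOn_of_mem h') (this _ rfl) (this _ e)

theorem lin {q t : ℕ} (hp : (q + 1).Prime) (hΓ : IsPGroup (q + 1) Γ) (h : χ ∈ Irr K) (hl : LinOn K χ)
    (ht : (gal K χ).card ≤ q * (q + 1) ^ t) : (kerOn K χ).relIndex K ≤ (q + 1) ^ (t + 1) := by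
  classical
  have := Fact.mk hp
  obtain ⟨f, hf⟩ := hl.exists_hom
  have : Finite f.range := Finite.of_surjective _ f.rangeRestrict_surjective
  have := isCyclic_subgroup_units f.range
  obtain ⟨⟨_, x, rfl⟩, hx⟩ := IsCyclic.exists_ofOrder_eq_natCard (α := f.range)
  obtain ⟨a, ha⟩ := (hΓ.to_subgroup K).of_surjective _ f.rangeRestrict_surjective |>.exists_card_eq
  rw [relIndex, show (kerOn K χ).subgroupOf K = f.ker from Subgroup.ext fun y => by
    simp [mem_subgroupOf, hl.mem_kerOn, hf], index_ker, ha]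
  have h1 : IsPrimitiveRoot (χ x) ((q + 1) ^ a) := by
    rw [hf, IsPrimitiveRoot.coe_units_iff, ← ha, ← hx, ← Subgroup.orderOf_coe]
    exact IsPrimitiveRoot.orderOf _
  have h2 : (primitiveRoots ((q + 1) ^ a) ℂ).card ≤ (gal K χ).card := card_le_card_of_surjOn (fun η => η x) fun z hz => by
    have hz := (mem_primitiveRoots (by positivity)).1 hz
    obtain ⟨k, -, rfl⟩ := h1.eq_pow_of_pow_eq_one hz.pow_eq_one
    obtain ⟨σ, e⟩ := exists_ringEquiv_pow (by positivity) ((h1.pow_iff_coprime (by positivity) k).1 hz)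
    exact ⟨_, (mem_gal h).2 ⟨σ, rfl⟩, e _ h1.pow_eq_one⟩
  rw [h1.card_primitiveRoots] at h2
  rcases a with _ | a
  · exact Nat.pow_le_pow_right q.succ_pos (by omega)
  rw [Nat.totient_prime_pow_succ hp, mul_comm] at h2
  rw [pow_succ, pow_succ]
  exact Nat.mul_le_mul_right _ (Nat.le_of_mul_le_mul_left (h2.trans ht) (by have := hp.two_le; omega))

theorem main {q : ℕ} (hp : (q + 1).Prime) (hΓ : IsPGroup (q + 1) Γ) (K : Subgroup Γ) : ∀ χ ∈ Irr K, ∀ t,
    (gal K χ).card ≤ q * (q + 1) ^ t →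
    (kerOn K χ).relIndex K ^ q * (q + 1) ≤ (q + 1) ^ (charDegree χ + q * (t + 1) * charDegree χ) := by
  classical
  have := Fact.mk hp
  induction K using WellFoundedLT.induction with
  | _ K ih =>
  intro χ h t ht
  have hχ := irrOn_of_mem h
  have := (hΓ.to_subgroup K).isNilpotent
  obtain ⟨H, h1, l, h2, h3⟩ := hχ.exists_lin_of_nilpotent
  rcases h1.eq_or_lt with rfl | h1
  · rw [ind_self h2.classOn] at h3
    have hl := h2.congr fun x hx => (cut_of_mem _ hx).symm.trans ((congrFun h3 x).trans (cut_of_mem _ hx))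
    rw [hl.deg, mul_one, add_comm 1, pow_succ, mul_comm q, pow_mul]
    gcongr
    exact lin hp hΓ h hl ht
  obtain ⟨T, -, h4, h5, ψ, hψ, h6⟩ := (indFrom_of_charOn hχ bot_le h1 h2.charOn h3).exists_maximal hχ
  rw [cut_of_mem_Irr h] at h6
  subst h6
  obtain ⟨n, hn⟩ := (hΓ.to_subgroup K).exists_card_eq
  have h6 : ∀ g ∈ K, g ∉ T → ∀ D : Subgroup Γ, Nrm T D → (∀ x ∈ D, g * x * g⁻¹ ∈ D) → Nrm K D := fun g a b D c d =>
    nrm_of_le_normalizer (((h5 (K ⊓ normalizer (D : Set Γ)) (le_inf h4.le c.le_normalizer) inf_le_left).resolve_left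
      fun e => b (e.le ⟨a, mem_normalizer_fintype (S := (D : Set Γ)) d⟩)).ge.trans inf_le_right)
  obtain ⟨g, g1, g2, g3⟩ := exists_normalizer_of_relIndex_pow hp (L := ⊥) (nrm_of_normal _ _) bot_le h4
    ((relIndex_bot_left _).trans hn)
  have hN := h6 g g1 g2 T (nrm_self _) g3
  have h7 : T.relIndex K = q + 1 := (Nat.prime_dvd_prime_iff_eq (Chief.prime_of_nilpotent
    ⟨h4, le_rfl, nrm_self _, hN, fun M a b _ => h5 M a b⟩) hp).1 (((Chief.prime_of_nilpotent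
    ⟨h4, le_rfl, nrm_self _, hN, fun M a b _ => h5 M a b⟩).dvd_of_dvd_pow (hn ▸ relIndex_dvd_card _ _)))
  have h8 : ∀ φ ∈ Irr T, IrrOn K (ind T K φ) → (orb K T φ).card = q + 1 := fun φ a b => by
    rw [card_orb, le_antisymm ((irrOn_ind_iff h4.le hN (irrOn_of_mem a)).1 b)
      (le_inertia h4.le hN (irrOn_of_mem a).classOn), h7]
  have h9 := orb_subset hN (irrOn_of_mem hψ)
  have h10 : ∀ D ≤ T, (∀ φ ∈ orb K T ψ, D ≤ kerOn T φ) → (kerOn K (ind T K ψ)).relIndex K ≤ D.relIndex T * (q + 1) :=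
    fun D a b => by
      rw [← h7, relIndex_mul_relIndex _ _ _ a h4.le]
      refine relIndex_le_of_le_left (fun x hx => hχ.charOn.mem_kerOn.2 ⟨h4.le (a hx), ?_⟩) (relIndex_ne_zero _ _)
      simp only [ind_nrm h4.le hN (irrOn_of_mem hψ).classOn, Pi.smul_apply, Finset.sum_apply]
      exact congrArg _ (sum_congr rfl fun φ c => ((irrOn_of_mem (h9 c)).charOn.mem_kerOn.1 (b φ c hx)).2)
  have h11 : ∀ φ ∈ orb K T ψ, Set.MapsTo (ind T K) (gal T φ) (gal K (ind T K ψ)) := fun φ a η b => by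
    obtain ⟨σ, rfl⟩ := (mem_gal (h9 a)).1 b
    exact (mem_gal h).2 ⟨σ, by rw [ind_map, ind_eq_of_mem_orb hN a]⟩
  rw [(irrOn_of_mem hψ).charOn.deg_ind h4.le, h7]
  have h12 : ∀ φ ∈ orb K T ψ, charDegree φ = charDegree ψ := fun φ a =>
    charDegree_of_eq ((orb_one a).trans (irrOn_of_mem hψ).one_eq)
  by_cases h13 : ∀ φ ∈ orb K T ψ, Set.InjOn (ind T K) (gal T φ)
  · have a := (h10 (⨅ φ : orb K T ψ, kerOn T φ.1) ((iInf_le _ ⟨ψ, mem_orb.2 ⟨1, one_mem _, (cj_one _).trans (cut_of_mem_Irr hψ)⟩⟩).trans kerOn_le)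
      fun φ b => iInf_le (fun φ : orb K T ψ => kerOn T φ.1) ⟨φ, b⟩).trans (Nat.mul_le_mul_right _ (relIndex_iInf_le _))
    have b := prod_le_pow_card univ (fun φ : orb K T ψ => (kerOn T φ.1).relIndex T ^ q * (q + 1)) _ fun φ _ =>
      h12 _ φ.2 ▸ ih T h4 _ (h9 φ.2) t ((card_le_card_of_injOn _ (h11 _ φ.2) (h13 _ φ.2)).trans ht)
    rw [prod_mul_distrib, prod_pow, prod_const, card_univ, Fintype.card_coe, h8 ψ hψ hχ, ← pow_mul] at b
    refine (Nat.mul_le_mul_right _ (Nat.pow_le_pow_left a q)).trans (le_trans (le_of_eq ?_) (b.trans_eq ?_))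
    · rw [mul_pow, mul_assoc, ← pow_succ]
    · congr 1; ring
  simp only [Set.InjOn, not_forall] at h13
  obtain ⟨φ, a, η, b, ζ, c, d, e⟩ := h13
  have hφ := h9 a
  obtain ⟨σ, rfl⟩ := (mem_gal hφ).1 b
  obtain ⟨τ, rfl⟩ := (mem_gal hφ).1 c
  have h14 := ind_eq_of_mem_orb hN a
  obtain ⟨u, u1, u2⟩ := mem_orb.1 (mem_orb_of_ind h4.le hN hφ (map_mem_Irr hφ (σ.trans τ.symm)) (h14 ▸ hχ) (by
    rw [ind_map, ind_map] at d
    rw [ind_map]
    exact funext fun x => τ.symm_apply_eq.2 (congrFun d x)))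
  rw [cut_of_mem_Irr hφ] at u2
  have h15 := h6 u u1 (fun b => e (funext fun x => by
    rw [eq_of_mem_Irr (cj_mem_Irr (nrm_self T) hφ b) hφ fun x hx => (irrOn_of_mem hφ).classOn u b x hx] at u2
    exact τ.symm_apply_eq.1 (congrFun u2 x).symm)) (kerOn T φ) (irrOn_of_mem hφ).classOn.nrm_kerOn fun x hx => by
      rw [(irrOn_of_mem hφ).charOn.mem_kerOn] at hx ⊢
      refine ⟨hN u u1 x hx.1, (congrFun u2 x).trans ?_⟩
      simpa [hx.2, cj_at_one] using (congrFun u2 1).symm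
  have h16 := h10 (kerOn T φ) kerOn_le fun η b x hx => by
    obtain ⟨w, w1, rfl⟩ := mem_orb.1 ((orb_eq_of_mem hN a).ge b)
    rw [cut_of_mem_Irr hφ, ((irrOn_of_mem hφ).charOn.cj hN w1).mem_kerOn, cj_at_one]
    exact ⟨kerOn_le hx, ((irrOn_of_mem hφ).charOn.mem_kerOn.1 (h15 w w1 x hx)).2⟩
  have h17 := ih T h4 φ hφ (t + 1) ((card_le_mul_card_image_of_maps_to (h11 φ a) (q + 1) fun β b => ?_).trans
    ((Nat.mul_le_mul_left _ ht).trans_eq (by ring)))
  · rw [h12 φ a] at h17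
    refine (Nat.mul_le_mul_right _ (Nat.pow_le_pow_left h16 q)).trans ?_
    rw [mul_pow, mul_right_comm]
    refine (Nat.mul_le_mul_right _ h17).trans ((pow_add _ _ _).ge.trans (Nat.pow_le_pow_right q.succ_pos ?_))
    have := (irrOn_of_mem hψ).deg_pos
    have : 1 ≤ q := by simpa using hp.two_le
    generalize charDegree ψ = f at *
    have : q * (t + 1 + 1) * f ≤ q * (t + 1) * ((q + 1) * f) := by
      rw [← mul_assoc, mul_assoc q (t + 1)]; gcongr; nlinarith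
    nlinarith
  rcases ((gal T φ).filter fun η => ind T K η = β).eq_empty_or_nonempty with e | ⟨η, e⟩
  · simp [e]
  obtain ⟨e1, rfl⟩ := mem_filter.1 e
  have e2 := irrOn_of_mem (filter_subset _ _ b)
  exact (card_le_card fun ζ c => mem_orb_of_ind h4.le hN (filter_subset _ _ e1)
    (filter_subset _ _ (mem_filter.1 c).1) e2 (mem_filter.1 c).2).trans_eq (h8 η (filter_subset _ _ e1) e2)

/-- Let P be a finite p-group of order p^a with a > 0, and χ a faithful irreducible character of P of degree f whose field of values ℚ(χ) has degree (p − 1)·p^t over ℚ. Then a ≤ (f − 1)/(p − 1) + (t + 1)·f; in integer form, (p − 1)·a ≤ (f − 1) + (p − 1)(t + 1)·f. -/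
theorem result {P : Type*} [Group P] [Finite P] (p a : ℕ) (hp : p.Prime) (ha : 0 < a) (hP : Nat.card P = p ^ a) (χ : Cfsg.IrrCharacter P) (hfaith : ∀ g : P, (χ : P → ℂ) g = (χ : P → ℂ) 1 → g = 1) (f t : ℕ) (hf : Cfsg.charDegree (χ : P → ℂ) = f) (hfield : Module.finrank ℚ (IntermediateField.adjoin ℚ (Set.range (χ : P → ℂ))) = (p - 1) * p ^ t) : (p - 1) * a ≤ (f - 1) + (p - 1) * (t + 1) * f := by
  obtain ⟨q, rfl⟩ := Nat.exists_eq_add_one_of_ne_zero hp.ne_zero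
  have h := mem_Irr_top.2 χ.2
  have : FiniteDimensional ℚ (IntermediateField.adjoin ℚ (Set.range (χ : P → ℂ))) :=
    Module.finite_of_finrank_pos (hfield ▸ by have := hp.two_le; exact mul_pos (by omega) (by positivity))
  have h1 := main hp (IsPGroup.of_card hP) ⊤ _ h t (by
    refine le_trans ?_ ((card_algHom_le_finrank ℚ _ ℂ).trans_eq hfield)
    classical
    have := Fintype.ofFinite (IntermediateField.adjoin ℚ (Set.range (χ : P → ℂ)) →ₐ[ℚ] ℂ)
    rw [Nat.card_eq_fintype_card]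
    refine card_le_card_of_surjOn (fun τ x => τ ⟨_, IntermediateField.subset_adjoin _ _ ⟨x, rfl⟩⟩) fun η a => ?_
    obtain ⟨σ, rfl⟩ := (mem_gal h).1 a
    exact ⟨σ.toRingHom.toRatAlgHom.comp (IntermediateField.val _), mem_univ _, rfl⟩)
  rw [kerOn_top, show charKer χ.1 = ⊥ from eq_bot_iff.2 fun g hg => hfaith g (χ.2.isCharacter.mem_charKer.1 hg),
    relIndex_bot_left, card_top, hP,
    ← pow_mul, ← pow_succ, Nat.pow_le_pow_iff_right hp.one_lt] at h1
  have := (irrOn_of_mem h).deg_pos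
  simp only [Nat.add_sub_cancel]
  change charDegree χ.1 = f at hf
  rw [hf] at h1 this
  rw [mul_comm q a]
  omega

end Cfsg.Agent.S4489
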