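import Cfsg.Statements.S4490
import Cfsg.Agent.Lib.Block2.Num

set_option autoImplicit false
open Cfsg

namespace Cfsg.Agent.S4490

/-- Let G be a finite group and M a maximal ideal of the algebraic integers containing 2. Every 2-block B of G whose defect groups are the Sylow 2-subgroups of G (a block of full defect) and which is not the principal block is different from its complex-conjugate block, the block formed by the complex conjugates of the members of B. -/
theorem result {G : Type*} [Group G] [Finite G] (M : Ideal Cfsg.AlgInt) (hM : Cfsg.IsPModular 2 M) (B : Set (Cfsg.IrrCharacter G)) (hB : Cfsg.IsPBlock M B) (P : Sylow 2 G) (hfull : Cfsg.IsDefectGroup 2 M B (P : Subgroup G)) (hnp : B ≠ Cfsg.principalBlock M G) : {ψ : Cfsg.IrrCharacter G | ∃ χ ∈ B, (ψ : G → ℂ) = fun g => (starRingEnd ℂ) ((χ : G → ℂ) g)} ≠ B := by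
  open Cfsg.Lib Cfsg.Lib.Block Cfsg.Lib.Block2 Cfsg.Lib.Char Cfsg.Lib.Amalg in
  have := hM.2.1
  intro h
  obtain ⟨χ, hχ, h1⟩ := exists_minVal_eq 2 hB.nonempty
  rw [(hB.isDefectGroup_syl_iff hM (syl_top P)).1 hfull] at h1
  have h2 : (⟨_, χ.2.conj⟩ : IrrCharacter G) ∈ B := h ▸ ⟨χ, hχ, rfl⟩
  refine hnp (hB.eq_of_mem isPBlock_principalBlock hχ (mem_principalBlock_of_inv hM
    (hB.sameBlock hχ h2) (fun h3 => ?_) fun x _ => (χ.2.isCharacter.apply_inv x).symm))
  exact (Nat.prime_two.factorization_pos_of_dvd (deg_ne_zero χ.2) h3).ne' h1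

end Cfsg.Agent.S4490
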