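import Cfsg.Statements.S4491
import Cfsg.Agent.Lib.Block2.Num

set_option autoImplicit false
open Cfsg

namespace Cfsg.Agent.S4491

/-- Let B be a p-block of defect d of the finite group G (relative to a maximal ideal M of the algebraic integers containing p), and let p^a be the p-part of the order of G. Then the exact power of p dividing the sum of the squares of the degrees of the irreducible characters in B is p^(2a − d). -/
theorem result {G : Type*} [Group G] [Finite G] (p : ℕ) [Fact p.Prime] (M : Ideal Cfsg.AlgInt) (hM : Cfsg.IsPModular p M) (B : Set (Cfsg.IrrCharacter G)) (hB : Cfsg.IsPBlock M B) : (∑ᶠ χ ∈ B, Cfsg.charDegree (χ : G → ℂ) ^ 2).factorization p = 2 * (Nat.card G).factorization p - Cfsg.blockDefect p B := by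
  open Cfsg.Lib Cfsg.Lib.Block Cfsg.Lib.Block2 Cfsg.Lib.Char Cfsg.Lib.Amalg in
  have := hM.2.1
  classical
  obtain ⟨c, hc, h⟩ := exists_idem_eq_sum_zReg hM G
  obtain ⟨χ₀, h₀, hh⟩ := exists_blockHeight_eq_zero p hB.nonempty
  have h1 := h B hB.isBlockUnion
  have hd : ∀ χ ∈ B, MemLocalRing M ((charDegree (χ : G → ℂ) : ℂ) / (charDegree (χ₀ : G → ℂ) : ℂ)) :=
    fun χ hχ => memLocalRing_natDiv hM (deg_ne_zero χ.2) (deg_ne_zero χ₀.2)
      (((Block.blockHeight_eq_zero_iff_eq h₀).1 hh).le.trans (Block.minVal_le hχ))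
  have h2 : blockCoeff B 1 / charDegree (χ₀ : G → ℂ) = ∑ χ ∈ Finset.univ.filter (· ∈ B),
      c χ * ((charDegree (χ : G → ℂ) : ℂ) / (charDegree (χ₀ : G → ℂ) : ℂ)) := by
    rw [← coeff_idem, h1, coeff_sum', Finset.sum_div]
    refine Finset.sum_congr rfl fun χ _ => ?_
    rw [coeff_smul', coeff_zReg_of_reg _ not_dvd_orderOf_one, inv_one, irr_cast_deg χ, mul_div_assoc]
  have h3 : MemLocalRing M (blockCoeff B 1 / charDegree (χ₀ : G → ℂ)) := by
    rw [h2]; exact memLocalRing_sum fun χ hχ => (hc χ).mul (hd χ (by simpa using hχ))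
  have h4 : ¬ MemLocalIdeal M (blockCoeff B 1 / charDegree (χ₀ : G → ℂ)) := fun h4 => by
    have h5 := hB.isBlockUnion.lam_eB_of_mem h₀
    have h6 := h4.red_eq_zero
    rw [h2, red_sum fun χ hχ => (hc χ).mul (hd χ (by simpa using hχ))] at h6
    rw [eB, h1, redA_sum fun χ _ => χ.2.isCharacter.isInt_zReg.smul (hc χ), map_sum,
      Finset.sum_congr rfl fun χ hχ => by
        rw [redA_smul χ.2.isCharacter.isInt_zReg (hc χ), map_smul, smul_eq_mul,
          lam_zReg_eq_mul hM hB h₀ hh (by simpa using hχ) h₀, mul_left_comm,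
          ← red_mul (hc χ) (hd χ (by simpa using hχ))], ← Finset.mul_sum, h6, mul_zero] at h5
    exact zero_ne_one h5
  have h5 : blockCoeff B 1 / charDegree (χ₀ : G → ℂ) =
      ((∑ᶠ χ ∈ B, charDegree (χ : G → ℂ) ^ 2 : ℕ) : ℂ) /
        ((Nat.card G * charDegree (χ₀ : G → ℂ) : ℕ) : ℂ) := by
    rw [blockCoeff, Block.finsum_mem_irr, Block.finsum_mem_irr]
    push_cast
    simp only [fun χ : IrrCharacter G => conj_apply_one χ.2.isCharacter, ← sq, irr_cast_deg]
    field_simp
  have h6 : Nat.card G * charDegree (χ₀ : G → ℂ) ≠ 0 :=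
    mul_ne_zero Nat.card_pos.ne' (deg_ne_zero χ₀.2)
  have h7 : ∑ᶠ χ ∈ B, charDegree (χ : G → ℂ) ^ 2 ≠ 0 := fun h7 =>
    h4 (by rw [h5, h7, Nat.cast_zero, zero_div]; exact memLocalIdeal_zero)
  rw [h5, memLocalRing_natDiv_iff hM h7 h6] at h3
  rw [h5, memLocalIdeal_natDiv_iff hM h7 h6] at h4
  rw [Nat.factorization_mul Nat.card_pos.ne' (deg_ne_zero χ₀.2), Finsupp.add_apply] at h3 h4
  have h8 := factorization_deg_add_defect p h₀
  omega

end Cfsg.Agent.S4491
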