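import Cfsg.Statements.S4497
import Cfsg.Agent.Lib.Small.SelfC2

set_option autoImplicit false
open Cfsg

namespace Cfsg.Agent.S4497

open Subgroup Cfsg.Lib Cfsg.Lib.Small Cfsg.Lib.Amalg Cfsg.Lib.Char Cfsg.Lib.Clifford

/-- Let the finite group G contain an element x of prime order p with C_G(x) = ⟨x⟩, let t be the number of conjugacy classes of elements of order p, and let S* = O_{p′}(G) be the largest normal subgroup of order prime to p. Then S* ≤ G′; if t ≠ p − 1 the quotient G′/S* is simple (in particular non-trivial); if t = p − 1 then G′ = S*. -/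
theorem result {G : Type*} [Group G] [Finite G] (p : ℕ) (hp : p.Prime) (x : G) (hx : orderOf x = p) (hC : Subgroup.centralizer ({x} : Set G) = Subgroup.zpowers x) (t : ℕ) (ht : Nat.card {C : ConjClasses G // ∃ g ∈ C.carrier, orderOf g = p} = t) : Cfsg.pPrimeCore p G ≤ commutator G ∧ (t ≠ p - 1 → ∀ h : ((Cfsg.pPrimeCore p G).subgroupOf (commutator G)).Normal, IsSimpleGroup (↥(commutator G) ⧸ (Cfsg.pPrimeCore p G).subgroupOf (commutator G))) ∧ (t = p - 1 → commutator G = Cfsg.pPrimeCore p G) := by
  have := Fact.mk hp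
  have h : SC p x := ⟨hx, hC⟩
  have hn := Core.pPrimeCore_characteristic p G
  have h1 : x ∉ pPrimeCore p G := fun e => Core.not_dvd_card_pPrimeCore hp (h.mem_iff.1 e)
  have h0 : ∀ (S : Subgroup G) [S.Normal], x ∉ S → S ≤ pPrimeCore p G := fun S _ e =>
    Core.le_pPrimeCore ((Core.coprime_iff_not_dvd hp).2 (mt h.mem_iff.2 e))
  refine ⟨h.le_commutator h1, fun h2 hN => ?_, fun h2 => le_antisymm (h0 _ fun e => (h.mem_commutator_iff' ht).1 e h2)
    (h.le_commutator h1)⟩
  have h3 := (h.mem_commutator_iff' ht).2 h2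
  have h4 := h.subgroup h3
  have h5 := h4.quot (S := (pPrimeCore p G).subgroupOf _) h1
  by_cases h6 : x ∈ ⁅commutator G, commutator G⁆
  · have : Nontrivial (commutator G ⧸ (pPrimeCore p G).subgroupOf (commutator G)) := ⟨_, _, h5.ne_one⟩
    refine ⟨fun K hK => ?_⟩
    have := hK.comap (QuotientGroup.mk' _)
    rw [← map_comap_eq_self_of_surjective (QuotientGroup.mk'_surjective _) K]
    by_cases h7 : (⟨x, h3⟩ : commutator G) ∈ K.comap (QuotientGroup.mk' _)
    · have h8 := Subgroup.map_mono (f := (commutator G).subtype) (h4.commutator_le h7)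
      rw [map_subtype_commutator] at h8
      refine Or.inr ?_
      rw [(K.comap _).eq_top_iff'.2 fun g => by simpa using (h.commutator_le h6).trans h8 g.2, ← MonoidHom.range_eq_map,
        QuotientGroup.range_mk']
    · refine Or.inl ((Subgroup.map_eq_bot_iff _).2 ?_)
      rw [QuotientGroup.ker_mk']
      exact (Core.le_pPrimeCore ((Core.coprime_iff_not_dvd hp).2 (mt h4.mem_iff.2 h7))).trans
        (Core.pPrimeCore_subgroupOf_eq _).ge
  · refine isSimpleGroup_of_prime_card (h5.card_eq_of_comm (Normal.quotient_commutative_iff_commutator_le.2 ?_).1.1)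
    rw [subgroupOf, ← map_le_iff_le_comap, map_subtype_commutator]
    exact h0 _ h6

end Cfsg.Agent.S4497
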