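import Cfsg.Statements.S4498
import Cfsg.Agent.Lib.Small.BT

set_option autoImplicit false
open Cfsg

namespace Cfsg.Agent.S4498

open Cfsg.Lib.Small Cfsg.Lib.Char Cfsg.Lib.Block Cfsg.Lib.Block2

/-- Let p and q be distinct primes dividing the order of the finite group G, and suppose G has no element of order p·q. Fix maximal ideals M_p over p and M_q over q of the algebraic integers. Then the principal p-block and the principal q-block of G have a non-principal irreducible character in common. -/
theorem result {G : Type*} [Group G] [Finite G] (p q : ℕ) [Fact p.Prime] [Fact q.Prime] (hpq : p ≠ q) (hp : p ∣ Nat.card G) (hq : q ∣ Nat.card G) (hno : ∀ g : G, orderOf g ≠ p * q) (Mp Mq : Ideal Cfsg.AlgInt) (hMp : Cfsg.IsPModular p Mp) (hMq : Cfsg.IsPModular q Mq) : ∃ χ : Cfsg.IrrCharacter G, (χ : G → ℂ) ≠ (fun _ => 1) ∧ χ ∈ Cfsg.principalBlock Mp G ∧ χ ∈ Cfsg.principalBlock Mq G := by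
  classical
  haveI := hMp.2.1
  haveI := hMq.2.1
  obtain ⟨y, hy⟩ := exists_prime_orderOf_dvd_card' p hp
  obtain ⟨w, h1, h2⟩ := exists_sum_inter hMp hMq hpq hno isPBlock_principalBlock.isBlockUnion
    isPBlock_principalBlock.isBlockUnion (y := y) (hy ▸ dvd_rfl)
  obtain ⟨χ, h3, h4, -⟩ := exists_ne_not_dvd hMq (g := y)
    (s := Finset.univ.filter (· ∈ principalBlock Mp G ∩ principalBlock Mq G))
    (by simpa using ⟨principalIrr_mem, principalIrr_mem⟩) (by
      rw [h2]
      refine Cfsg.Lib.Block.Cfsg.MemLocalIdeal.mul_right ?_ (memLocalRing_of_isIntegral h1)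
      rw [← Nat.cast_pow, memLocalIdeal_natCast_iff hMq]
      exact dvd_pow_self _ (hMq.1.factorization_pos_of_dvd Nat.card_pos.ne' hq).ne')
  exact ⟨χ, fun e => h4 (Subtype.ext e), by simpa using h3⟩

end Cfsg.Agent.S4498
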