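import Cfsg.Statements.S4500
import Cfsg.Agent.Lib.Small.BT
import Cfsg.Agent.S0144

set_option autoImplicit false
open Cfsg

namespace Cfsg.Agent.S4500

open Cfsg.Lib.Small Cfsg.Lib.Char Cfsg.Lib.Block Cfsg.Lib.Block2

theorem aux {G : Type*} [Group G] [Finite G] [Nontrivial G] (p q r a b c : ℕ) (hp : p.Prime) (hq : q.Prime) (hr : r.Prime) (hpq : p ≠ q) (hpr : p ≠ r) (ha : a ≤ 2) (hG : Nat.card G = p ^ a * q ^ b * r ^ c) : (∃ χ : Cfsg.IrrCharacter G, (χ : G → ℂ) ≠ (fun _ => 1) ∧ ∃ k : ℕ, Cfsg.charDegree (χ : G → ℂ) = q ^ k) := by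
  by_cases hc : commutator G = ⊤
  swap
  · obtain ⟨g, hg⟩ : ∃ g, g ∉ commutator G := by
      by_contra! h; exact hc (eq_top_iff.2 fun g _ => h g)
    by_contra! h
    refine hg (mem_of_forall_irr_le_charKer _ fun χ h1 h2 => ?_)
    by_cases e : χ = fun _ => 1
    · rw [e]
    · exact absurd (deg_eq_of_apply_one (n := 1) (by simpa using h1.degree_eq_one_iff.2 h2))
        (h ⟨χ, h1⟩ e 0)
  rcases a with - | a
  · haveI := Cfsg.Agent.S0144.result q r b c hq hr (by simpa using hG)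
    exact absurd hc (Group.IsSolvable.commutator_lt_top_of_nontrivial G).ne
  haveI := Fact.mk hp
  obtain ⟨y, hy⟩ := exists_prime_orderOf_dvd_card' (G := G) p
    (hG ▸ ((dvd_pow_self p a.succ_ne_zero).mul_right _).mul_right _)
  obtain ⟨M, hM⟩ := exists_isPModular hp
  haveI := hM.2.1
  obtain ⟨χ, h1, h2, h3, -⟩ := exists_principal_not_dvd hM hr (g := y) (hy ▸ dvd_rfl)
  have h4 := not_dvd_deg_of_principal hM (by
    rw [hG, mul_assoc]
    intro h
    have := (Nat.pow_dvd_pow_iff_le_right hp.one_lt).1 (Nat.Coprime.dvd_of_dvd_mul_right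
      (Nat.Coprime.pow_left _ (Nat.Coprime.mul_right
        (((Nat.coprime_primes hp hq).2 hpq).pow_right _)
        (((Nat.coprime_primes hp hr).2 hpr).pow_right _))) h)
    omega) h1
  refine ⟨χ, fun e => h2 (Subtype.ext e), eq_pow_of_forall_prime (deg_ne_zero χ.2) fun s h5 h6 => ?_⟩
  have := h6.trans (deg_dvd_card χ.2)
  rw [hG, h5.dvd_mul, h5.dvd_mul] at this
  rcases this with (h | h) | h
  · exact absurd ((Nat.prime_dvd_prime_iff_eq h5 hp).1 (h5.dvd_of_dvd_pow h) ▸ h6) h4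
  · exact (Nat.prime_dvd_prime_iff_eq h5 hq).1 (h5.dvd_of_dvd_pow h)
  · exact absurd ((Nat.prime_dvd_prime_iff_eq h5 hr).1 (h5.dvd_of_dvd_pow h) ▸ h6) h3

/-- Let G be a non-trivial finite group of order p^a · q^b · r^c with p, q, r distinct primes and a ≤ 2. Then G has a non-principal irreducible character whose degree is a power of q, and a non-principal irreducible character whose degree is a power of r; the power may be the zeroth, so a non-principal linear character serves for both. -/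
theorem result {G : Type*} [Group G] [Finite G] [Nontrivial G] (p q r a b c : ℕ) (hp : p.Prime) (hq : q.Prime) (hr : r.Prime) (hpq : p ≠ q) (hpr : p ≠ r) (hqr : q ≠ r) (ha : a ≤ 2) (hG : Nat.card G = p ^ a * q ^ b * r ^ c) : (∃ χ : Cfsg.IrrCharacter G, (χ : G → ℂ) ≠ (fun _ => 1) ∧ ∃ k : ℕ, Cfsg.charDegree (χ : G → ℂ) = q ^ k) ∧ ∃ χ : Cfsg.IrrCharacter G, (χ : G → ℂ) ≠ (fun _ => 1) ∧ ∃ k : ℕ, Cfsg.charDegree (χ : G → ℂ) = r ^ k := by
  exact ⟨aux p q r a b c hp hq hr hpq hpr ha hG,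
    aux p r q a c b hp hr hq hpr hpq ha (by rw [hG]; ring)⟩

end Cfsg.Agent.S4500
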