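import Cfsg.Statements.S4635
import Cfsg.Agent.Lib.Small.DadeH

set_option autoImplicit false
open Cfsg

namespace Cfsg.Agent.S4635

open Cfsg.Lib Cfsg.Lib.Block Cfsg.Lib.Block2 Cfsg.Lib.Char Cfsg.Lib.Amalg Cfsg.Lib.Small

/-- Let B be a block of the finite group G relative to a maximal ideal M of the algebraic integers containing the prime p, with a nontrivial cyclic defect group P; let Z be the subgroup of order p of P and H = N_G(Z), which contains N_G(P). Let c be the block of H with defect group P that induces B. Then B and c contain the same number of irreducible characters, have the same p-regular rank, and there is a perfect isometry from c onto B. -/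
theorem result {G : Type*} [Group G] [Finite G] (p : ℕ) [Fact p.Prime] (M : Ideal Cfsg.AlgInt) (hM : Cfsg.IsPModular p M) (B : Set (Cfsg.IrrCharacter G)) (hB : Cfsg.IsPBlock M B) (P : Subgroup G) (hPD : Cfsg.IsDefectGroup p M B P) (hP1 : P ≠ ⊥) (hcyc : IsCyclic P) (Z : Subgroup G) (hZ : Z ≤ P) (hZcard : Nat.card Z = p) (H : Subgroup G) (hH : H = Subgroup.normalizer (Z : Set G)) (c : Set (Cfsg.IrrCharacter H)) (hcD : Cfsg.IsDefectGroup p M c (P.subgroupOf H)) (hc : Cfsg.IsInducedBlock M H c B) : Nat.card c = Nat.card B ∧ Cfsg.blockRank p c = Cfsg.blockRank p B ∧ ∃ (I : Cfsg.IrrCharacter H → Cfsg.IrrCharacter G) (ε : Cfsg.IrrCharacter H → ℤ), Cfsg.IsPerfectIsometry p M c B I ε := by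
  have := hM.2.1
  haveI := Fintype.ofFinite P
  haveI := Fintype.ofFinite (P.subgroupOf H)
  have hN : 𝐍 P ≤ H := hH ▸ PGrp.normalizer_le_normalizer_of_isCyclic hcyc hZ
  have hP : P ≤ H := Subgroup.le_normalizer.trans hN
  have hC : 𝐂 P ≤ H := (Subgroup.centralizer_le_normalizer _).trans hN
  let j := Subgroup.subgroupOfEquivOfLe hP
  have e1 : (P.subgroupOf H).map H.subtype = P := by rw [Subgroup.subgroupOf_map_subtype, inf_eq_left.2 hP]
  have h1 : P.subgroupOf H ≠ ⊥ := fun e => hP1 (by rw [← e1, e, Subgroup.map_bot])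
  haveI := (Subgroup.nontrivial_iff_ne_bot _).2 h1
  haveI := (Subgroup.nontrivial_iff_ne_bot _).2 hP1
  have hcyc' : IsCyclic (P.subgroupOf H) := j.isCyclic.2 hcyc
  obtain ⟨ε, hm⟩ := (hcD.defG_top hM hc.1).exists_maxP hM (blk_top_eB hc.1)
  have h2 := (bpo_push_iff H.subtype_injective).2 hm.bpo
  rw [e1, map_subtype_top, push_subtype] at h2
  have h3 := (h2.ind hM).trans hc.ind
  rw [inf_eq_right.2 hC, ← top_inf_eq (𝐂 P)] at h3
  have hm' : MaxP p ⊤ (eB M B) P (push H.subtype ε) :=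
    ⟨(h2.bp.of_ge (inf_le_right.trans hC) le_top).bpo_of_ind hM h3, hPD.defG_top hM hB⟩
  have h4 : Nat.card (inE (P.subgroupOf H) ε) = Nat.card (inE P (push H.subtype ε)) := by
    rw [card_inE, card_inE, ← Subgroup.relIndex_map_map_of_injective _ _ H.subtype_injective,
      map_stabP H.subtype_injective, ← top_inf_eq (𝐂 (P.subgroupOf H)), map_inf_cent H.subtype_injective, e1,
      map_subtype_top, inf_eq_right.2 hC]
    exact congrArg _ (Subgroup.ext fun g => by
      rw [mem_stabP, mem_stabP]; exact ⟨fun h => ⟨trivial, h.2⟩, fun h => ⟨hN h.2.1, h.2⟩⟩)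
  obtain ⟨a1, a2, c, rfl, d', X', Y', δ', δ₀', μ', h'⟩ := exists_DD' hM hc.1 h1 hcyc' hm
  obtain ⟨b1, -, B, rfl, d, X, Y, δ, δ₀, μ, h⟩ := exists_DD' hM hB hP1 hcyc hm'
  obtain ⟨I, ε', hI, -⟩ := h.perfect' hM h' hcyc hcyc' hcD.isPGroup (Nat.card_congr j.toEquiv) h4 a2
  refine ⟨Nat.card_congr hI.1.equiv, ?_, I, ε', hI⟩
  rw [h.rank b1 hcyc.isMulCommutative.is_comm.comm, h'.rank a1 hcyc'.isMulCommutative.is_comm.comm, h4]

end Cfsg.Agent.S4635
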