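import Cfsg.Statements.S4502
import Cfsg.Agent.S4635

set_option autoImplicit false
open Cfsg

namespace Cfsg.Agent.S4502

open Cfsg.Lib Cfsg.Lib.Block Cfsg.Lib.Block2 Cfsg.Lib.Char Cfsg.Lib.Amalg Subgroup

/-- Let G be a finite group whose order is divisible by the prime p exactly once, and let P be a Sylow p-subgroup. Then the number of irreducible characters of G of degree not divisible by p equals the number of conjugacy classes of the normalizer of P. -/
theorem result {G : Type*} [Group G] [Finite G] (p : ℕ) [Fact p.Prime] (hdiv : p ∣ Nat.card G) (hsq : ¬ p ^ 2 ∣ Nat.card G) (P : Sylow p G) : Nat.card {χ : Cfsg.IrrCharacter G // ¬ p ∣ Cfsg.charDegree (χ : G → ℂ)} = Nat.card (ConjClasses (Subgroup.normalizer ((P : Subgroup G) : Set G))) := by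
  have hp : p.Prime := Fact.out
  obtain ⟨M, hM⟩ := exists_isPModular hp
  have := hM.2.1
  have h1 : (Nat.card G).factorization p = 1 := by
    have := (hp.dvd_iff_one_le_factorization Nat.card_pos.ne').1 hdiv
    have := mt (hp.pow_dvd_iff_le_factorization Nat.card_pos.ne').2 hsq
    omega
  have hP : Nat.card P = p := by rw [P.card_eq_multiplicity, h1, pow_one]
  have hP1 : (P : Subgroup G) ≠ ⊥ := fun e => hp.ne_one (by rw [← hP, e, card_bot])
  have h2 : ∀ χ : IrrCharacter G, ¬ p ∣ charDegree χ.1 ↔ IsDefectGroup p M (blockOf M χ.1) P := fun χ => by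
    have hB := χ.2.isPBlock_blockOf (M := M)
    have a1 := blockDefect_eq_zero_iff hM hB (mem_blockOf_self χ)
    have a2 := factorization_deg_le p χ.2
    have a3 := blockDefect_add_minVal p hB.nonempty
    rw [hp.dvd_iff_one_le_factorization (deg_ne_zero χ.2)]
    refine ⟨fun h => ?_, fun h => by have := (blockDefect_eq_zero_iff_bot hM hB h).not.2 hP1; omega⟩
    obtain ⟨D, hD⟩ := hB.exists_isDefectGroup p
    obtain ⟨x, hx⟩ := MulAction.exists_smul_eq G
      (Sylow.ofCard D ((card_defectGroup hM hB hD).trans (by congr 1; omega))) P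
    exact hx ▸ hD.conj x
  have h3 : ∀ ξ : IrrCharacter (𝐍 (P : Subgroup G)),
      IsDefectGroup p M (blockOf M ξ.1) ((P : Subgroup G).subgroupOf _) := fun ξ => by
    have hb := ξ.2.isPBlock_blockOf (M := M)
    obtain ⟨D, hD⟩ := hb.exists_isDefectGroup p
    haveI : ((P : Subgroup G).subgroupOf (𝐍 (P : Subgroup G))).Normal := normal_in_normalizer
    rwa [(P.subtype le_normalizer).3 hD.isPGroup (hD.normal_le (P := (P : Subgroup G).subgroupOf _)
      hM hb (P.subtype le_normalizer).2)] at hD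
  have h4 : ∀ b, IsPBlock M b → IsDefectGroup p M b ((P : Subgroup G).subgroupOf _) →
      ∃ B I, IsInducedBlock M (𝐍 (P : Subgroup G)) b B ∧ Set.BijOn I b B := fun b hb hD => by
    obtain ⟨B, hB⟩ := hb.inducedBlockDefined hM P.2 le_normalizer (centralizer_le_normalizer _) le_rfl
    obtain ⟨-, -, I, _, h⟩ := S4635.result p M hM B hB.2.1 P (hB.isDefectGroup_of_normalizer hM hD) hP1
      (isCyclic_of_prime_card hP) P le_rfl hP _ rfl b hD hB
    exact ⟨B, I, hB, h.1⟩
  haveI : Nonempty (IrrCharacter G) := ⟨⟨_, isIrrCharacter_one⟩⟩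
  choose! B I h5 h6 using h4
  replace h5 := fun ξ : IrrCharacter _ => h5 _ ξ.2.isPBlock_blockOf (h3 ξ)
  replace h6 := fun ξ : IrrCharacter _ => h6 _ ξ.2.isPBlock_blockOf (h3 ξ)
  have h7 := fun ξ => (h5 ξ).2.1.eq_blockOf ((h6 ξ).1 (mem_blockOf_self ξ))
  rw [← card_irr_eq_card_conjClasses]
  refine (Nat.card_eq_of_bijective (fun ξ => ⟨I (blockOf M ξ.1) ξ, (h2 _).2
    (h7 ξ ▸ (h5 ξ).isDefectGroup_of_normalizer hM (h3 ξ))⟩) ⟨fun ξ η e => ?_, fun ⟨χ, hχ⟩ => ?_⟩).symm
  · replace e := congrArg Subtype.val e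
    have := (h5 ξ).eq_of_normalizer hM (((h7 ξ).trans (by rw [show I _ ξ = _ from e, ← h7 η])) ▸ h5 η) (h3 ξ)
    exact (h6 ξ).2.1 (mem_blockOf_self ξ) (this ▸ mem_blockOf_self η) (e.trans (by rw [this]))
  · obtain ⟨b, a1, -⟩ := ((h2 χ).1 hχ).exists_brauerCorrespondent hM χ.2.isPBlock_blockOf
    obtain ⟨ξ, hξ⟩ := a1.1.nonempty
    obtain rfl := a1.1.eq_blockOf hξ
    obtain ⟨η, a2, a3⟩ := (h6 ξ).2.2 ((h5 ξ).unique a1 ▸ mem_blockOf_self χ)
    exact ⟨η, Subtype.ext ((congrArg (I · η) (a1.1.eq_blockOf a2)).symm.trans a3)⟩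

end Cfsg.Agent.S4502
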