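import Cfsg.Statements.S4504
import Cfsg.Agent.Lib.Small.BrII

set_option autoImplicit false
open Cfsg

namespace Cfsg.Agent.S4504

open Cfsg.Lib.Small Cfsg.Lib.Char Subgroup

/-- Let G be a finite group whose order is divisible by the prime p exactly once and which has no normal subgroup of order p. If G has a faithful character of degree exactly (p − 1)/2, then G modulo its centre is isomorphic to PSL(2, p). -/
theorem result {G : Type*} [Group G] [Finite G] (p : ℕ) (hp : p.Prime) (hdiv : p ∣ Nat.card G) (hsq : ¬ p ^ 2 ∣ Nat.card G) (hnn : ∀ H : Subgroup G, H.Normal → Nat.card H ≠ p) (χ : G → ℂ) (hχ : Cfsg.IsCharacter G χ) (hfaith : ∀ g : G, χ g = χ 1 → g = 1) (hdeg : 2 * Cfsg.charDegree χ + 1 = p) : Nonempty ((G ⧸ Subgroup.center G) ≃* Matrix.ProjectiveSpecialLinearGroup (Fin 2) (ZMod p)) := by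
  haveI := Fact.mk hp
  obtain ⟨P⟩ := (inferInstance : Nonempty (Sylow p G))
  have hn := fun h => hnn _ h (card_sylow_of_not_sq hdiv hsq P)
  have hf : charKer χ = ⊥ := eq_bot_iff.2 fun g h => hfaith g (hχ.mem_charKer.1 h)
  obtain ⟨ψ, h1, h2, h3⟩ := exists_constituent hsq hn hχ hf
  obtain ⟨n, hn'⟩ := h3.exists_nat_degree
  have := coe_deg ⟨ψ, h1⟩
  rw [charDegree, show χ 1 = (n + charDegree ψ : ℕ) by rw [Nat.cast_add, this, ← hn']; simp,
    Complex.natCast_re, Nat.floor_natCast] at hdeg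
  obtain rfl : n = 0 := by omega
  obtain rfl := sub_eq_zero.1 (h3.eq_zero_of_apply_one (by simpa using hn'))
  obtain ⟨D⟩ := exists_dOne (card_sylow_of_not_sq hdiv hsq P) P.not_dvd_index
  refine (brauer_psl D hn ⟨χ, .of_restrict hχ _ h1⟩ hf (le_of_eq_of_le (by simp [charDegree]) hdeg.le)
    fun v hv => hχ.charCenter_le_center hf ?_).2
  have h4 : normalClosure (P : Set G) ≤ centralizer {v} := (closure_le _).2 fun y hy => by
    obtain ⟨u, hu, h⟩ := Group.mem_conjugatesOfSet_iff.1 hy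
    obtain ⟨k, rfl⟩ := isConj_iff.1 h
    obtain ⟨j, rfl⟩ := (D.zpowers_eq D.x_mem D.x_ne_one).ge hu
    rw [← conj_zpow]
    exact zpow_mem (mem_centralizer_singleton_iff.2 (hv k).symm) j
  have h5 := Lib.Char.Cfsg.IsIrrCharacter.of_comp (hχ.restrict (centralizer {v})) (inclusion h4) h1
  exact hχ.mem_charCenter.2 (h5.mem_charCenter.1 (h5.center_le_charCenter (x := ⟨v, mem_centralizer_singleton_iff.2 rfl⟩)
    (mem_center_iff.2 fun g => Subtype.ext (mem_centralizer_singleton_iff.1 g.2))))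

end Cfsg.Agent.S4504
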