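import Cfsg.Statements.S4506
import Cfsg.Agent.Lib.Clifford.PBlk
import Cfsg.Agent.Lib.Block.BrauerInd
import Cfsg.Agent.Lib.Clifford.DefZero

set_option autoImplicit false
open Cfsg

namespace Cfsg.Agent.S4506

open Cfsg.Lib Cfsg.Lib.Clifford Cfsg.Lib.Char Finset
open scoped ComplexConjugate

/-- Let G be a finite group, p a prime, p^a the p-part of the order of G and g′ its p′-part. Call two irreducible characters p-conjugate when one is obtained from the other by applying a field automorphism of ℂ that fixes the g′-th roots of unity, and let r be the number of characters p-conjugate to the irreducible character χ (χ included). Then the exponent of p in r·χ(1) is at most a; and if p^a divides r·χ(1) then p^a already divides χ(1). -/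
theorem result {G : Type*} [Group G] [Finite G] (p : ℕ) (hp : p.Prime) (χ : Cfsg.IrrCharacter G) (r : ℕ) (hr : Nat.card {ψ : Cfsg.IrrCharacter G // ∃ σ : ℂ ≃+* ℂ, σ (Complex.exp (2 * Real.pi * Complex.I / ((Nat.card G / p ^ (Nat.card G).factorization p) : ℕ))) = Complex.exp (2 * Real.pi * Complex.I / ((Nat.card G / p ^ (Nat.card G).factorization p) : ℕ)) ∧ (ψ : G → ℂ) = fun g => σ ((χ : G → ℂ) g)} = r) : (r * Cfsg.charDegree (χ : G → ℂ)).factorization p ≤ (Nat.card G).factorization p ∧ (p ^ (Nat.card G).factorization p ∣ r * Cfsg.charDegree (χ : G → ℂ) → p ^ (Nat.card G).factorization p ∣ Cfsg.charDegree (χ : G → ℂ)) := by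
---
  classical
  have := Fact.mk hp
  have := Fintype.ofFinite G
  obtain ⟨χ, hχ⟩ := χ
  have hi := irrOn_top.2 hχ
  dsimp only at hr ⊢
  set ζ := Complex.exp (2 * Real.pi * Complex.I / (ordCompl[p] (Nat.card G) : ℕ))
  rw [card_irr_filter fun ψ : G → ℂ => ∃ σ : ℂ ≃+* ℂ, σ ζ = ζ ∧ ψ = fun g => σ (χ g)] at hr
  set S := filter (fun ψ : G → ℂ => ∃ σ : ℂ ≃+* ℂ, σ ζ = ζ ∧ ψ = fun g => σ (χ g)) (Irr (⊤ : Subgroup G))
  have hS : S ⊆ Irr ⊤ := filter_subset _ _
  have hχS : χ ∈ S := mem_filter.2 ⟨mem_Irr_top.2 hχ, RingEquiv.refl _, rfl, rfl⟩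
  have hm : ordCompl[p] (Nat.card G) ≠ 0 := (Nat.ordCompl_pos p Nat.card_pos.ne').ne'
  have hreg : ∀ ψ ∈ S, ∀ g, ¬ p ∣ orderOf g → ψ g = χ g := fun ψ hψ g hg => by
    obtain ⟨σ, h1, rfl⟩ := (mem_filter.1 hψ).2
    have := hi.genOn.map_eq_apply_pow (σ : ℂ →+* ℂ) (n := ordCompl[p] (Nat.card G)) (k := 1)
      (fun z hz => by
        have := NeZero.mk hm
        obtain ⟨i, -, rfl⟩ := (Complex.isPrimitiveRoot_exp _ hm).eq_pow_of_pow_eq_one hz
        rw [pow_one, map_pow]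
        exact congrArg (· ^ i) h1) (g := g) trivial (orderOf_dvd_iff_pow_eq_one.1 (by
        refine (((Nat.Prime.coprime_iff_not_dvd hp).2 hg).symm.pow_right
          ((Nat.card G).factorization p)).dvd_of_dvd_mul_left ?_
        rw [Nat.ordProj_mul_ordCompl_eq_self]
        exact orderOf_dvd_natCard g))
    simpa using this
  set f : G → ℂ := {g : G | ¬ p ∣ orderOf g}.indicator χ with hf
  have hf1 : ∀ g, ¬ p ∣ orderOf g → f g = χ g := fun g hg => Set.indicator_of_mem hg _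
  have hf0 : ∀ g, p ∣ orderOf g → f g = 0 := fun g hg => Set.indicator_of_notMem (not_not.2 hg) _
  have hd : ∀ ψ : G → ℂ, (∀ g, ¬ p ∣ orderOf g → ψ g = χ g) → dot ⊤ f ψ = dot ⊤ f χ := fun ψ h => by
    unfold dot
    refine congrArg _ (sum_congr rfl fun g _ => ?_)
    by_cases hg : p ∣ orderOf g
    · simp [hf0 g hg]
    · rw [h g hg]
  obtain ⟨k, hk⟩ := hi.deg_dvd_card
  rw [Subgroup.card_top] at hk
  have hk0 : k ≠ 0 := by rintro rfl; exact Nat.card_pos.ne' (hk.trans (mul_zero _))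
  obtain ⟨n₁, h1⟩ := Block.exists_int_classInner_regular (p := p) hχ.isGeneralizedCharacter
    hχ.isGeneralizedCharacter
  rw [← dot_top, ← hf] at h1
  have hp0 : ((p ^ (Nat.card G).factorization p : ℕ) : ℂ) ≠ 0 := by simp [hp.ne_zero]
  obtain ⟨n₂, h2⟩ : ∃ n : ℤ, k * dot ⊤ f χ = n := by
    refine exists_int_of_isIntegral_of_rat ?_ ⟨k * n₁ / (p ^ (Nat.card G).factorization p : ℕ), by
      rw [Rat.cast_div, Rat.cast_natCast, eq_div_iff hp0, mul_assoc, mul_comm (dot _ _ _), h1]; simp⟩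
    convert hi.star.isIntegral_sum_div (f := χ * regInd p G) (hi.classOn.mul (invOn_regInd ⊤ ⊤))
      fun g _ => (hi.genOn.isIntegral trivial).mul (by
        unfold regInd; split_ifs; exacts [isIntegral_zero, isIntegral_one]) using 1
    rw [dot, Subgroup.card_top, hk, Pi.star_apply, hi.one_eq, sum_congr rfl
      (g := fun g => (χ * regInd p G) g * star χ g) fun g _ => by
        by_cases hg : p ∣ orderOf g <;> simp [regInd, hg, hf0, hf1]]
    have : (charDegree χ : ℂ) ≠ 0 := Nat.cast_ne_zero.2 hi.deg_pos.ne'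
    have : (k : ℂ) ≠ 0 := Nat.cast_ne_zero.2 hk0
    simp only [star_natCast]
    push_cast
    field_simp
  obtain ⟨j, hj, hg⟩ := (Nat.dvd_prime_pow hp).1 (Nat.gcd_dvd_right k (p ^ (Nat.card G).factorization p))
  have hjk : j ≤ k.factorization p :=
    (hp.pow_dvd_iff_le_factorization hk0).1 (hg ▸ Nat.gcd_dvd_left _ _)
  obtain ⟨c, hc⟩ : ∃ c : ℤ, ((p ^ j : ℕ) : ℂ) * dot ⊤ f χ = c := ⟨n₂ * Nat.gcdA k _ + n₁ * Nat.gcdB k _, by
    have := congrArg (Int.cast : ℤ → ℂ) (Nat.gcd_eq_gcd_ab k (p ^ (Nat.card G).factorization p))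
    rw [hg, Int.cast_natCast] at this
    rw [this, Int.cast_add, Int.cast_add, Int.cast_mul, Int.cast_mul, Int.cast_mul, Int.cast_mul, ← h1, ← h2,
      Int.cast_natCast, Int.cast_natCast]
    ring⟩
  have hT : dot ⊤ f (∑ ψ ∈ S, ψ) = r * dot ⊤ f χ := by
    rw [dot_sum_right, sum_congr rfl fun ψ hψ => hd ψ (hreg ψ hψ), sum_const, hr, nsmul_eq_mul]
  have hTT : dot ⊤ (∑ ψ ∈ S, ψ) (∑ ψ ∈ S, ψ) = r := by
    rw [dot_sum_right, sum_congr rfl (g := fun _ => (1 : ℂ)) fun ψ hψ => by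
      rw [dot_sum_irr hS (hS hψ), if_pos hψ], sum_const, hr, nsmul_eq_mul, mul_one]
  have ha : conj (dot ⊤ f χ) = dot ⊤ f χ := by rw [← hd f hf1, dot_conj]
  have hF : dot ⊤ (((p ^ j : ℕ) : ℂ) • f - (c : ℂ) • ∑ ψ ∈ S, ψ) (((p ^ j : ℕ) : ℂ) • f -
      (c : ℂ) • ∑ ψ ∈ S, ψ) = (c * (p ^ j - c * r) : ℤ) := by
    simp only [dot_sub_left, dot_sub_right, dot_smul_left, dot_smul_right, hT, hTT, hd f hf1,
      ← dot_conj ⊤ f (∑ ψ ∈ S, ψ), map_mul, ha, map_natCast, map_intCast]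
    push_cast at hc ⊢
    linear_combination (p ^ j - 2 * c * r) * hc
  have hc0 : 0 < c := by
    have h3 := hc
    rw [← hd f hf1] at h3
    have h4 : c ≠ 0 := by
      rintro rfl
      rw [Int.cast_zero, mul_eq_zero, or_iff_right (by simp [hp.ne_zero]), dot_self_eq_zero] at h3
      exact hi.one_ne_zero ((hf1 1 (by simp [hp.ne_one])).symm.trans (h3 1 trivial))
    rw [dot_self_eq] at h3
    norm_cast at h3
    refine lt_of_le_of_ne (Int.cast_nonneg_iff (R := ℝ).1 (h3 ▸ ?_)) h4.symm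
    positivity
  have hle : c * r ≤ p ^ j := by
    rw [dot_self_eq] at hF
    rw [← Complex.ofReal_intCast (c * _), Complex.ofReal_inj] at hF
    have : 0 ≤ c * (p ^ j - c * r) := Int.cast_nonneg_iff (R := ℝ).1 (hF ▸ by positivity)
    exact sub_nonneg.1 (nonneg_of_mul_nonneg_right this hc0 |> id)
  have hr0 : r ≠ 0 := hr ▸ card_ne_zero.2 ⟨_, hχS⟩
  have hrj : r ≤ p ^ j := by zify; nlinarith
  have e1 : (Nat.card G).factorization p = (charDegree χ).factorization p + k.factorization p := by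
    rw [hk, Nat.factorization_mul hi.deg_pos.ne' hk0, Finsupp.add_apply]
  have e2 : (r * charDegree χ).factorization p = r.factorization p + (charDegree χ).factorization p := by
    rw [Nat.factorization_mul hr0 hi.deg_pos.ne', Finsupp.add_apply]
  have e3 : r.factorization p ≤ j :=
    (Nat.pow_le_pow_iff_right hp.one_lt).1 ((Nat.ordProj_le p hr0).trans hrj)
  refine ⟨by omega, fun h => ?_⟩
  rw [hp.pow_dvd_iff_le_factorization (mul_ne_zero hr0 hi.deg_pos.ne')] at h
  have e4 : r = p ^ j := le_antisymm hrj (Nat.le_of_dvd (Nat.pos_of_ne_zero hr0)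
    ((hp.pow_dvd_iff_le_factorization hr0).2 (by omega)))
  obtain rfl : c = 1 := by
    have : (0 : ℤ) < p ^ j := by have := hp.pos; positivity
    rw [e4] at hle; push_cast at hle; nlinarith
  rw [e4, show (1 * ((p : ℤ) ^ j - 1 * (p ^ j : ℕ)) : ℤ) = 0 by simp, Int.cast_zero, dot_self_eq_zero] at hF
  obtain ⟨P, hP⟩ := Amalg.exists_syl p (⊤ : Subgroup G)
  obtain ⟨m, hm⟩ := (hi.charOn.mono (le_top : P ≤ ⊤)).dot_nat (charOn_one P)
  have h5 := dot_congr_left (H := P) (φ := ((p ^ j : ℕ) : ℂ) • f) (φ' := ∑ ψ ∈ S, ψ)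
    (fun x _ => by simpa [sub_eq_zero] using hF x trivial) 1
  rw [dot_smul_left, dot_sum_left, sum_congr rfl (g := fun _ => (m : ℂ)) fun ψ hψ => by
    obtain ⟨σ, -, rfl⟩ := (mem_filter.1 hψ).2
    rw [← map_natCast σ, ← hm]
    simp [dot, map_sum], sum_const, hr, e4, nsmul_eq_mul, mul_right_inj' (by simp [hp.ne_zero]), dot,
    sum_eq_single 1 (fun x hx h1 => by
      obtain ⟨a, ha⟩ := exists_orderOf_eq_pow hP.isPGroup (mem_elems.1 hx)
      rw [hf0 x (dvd_orderOf_of_eq_pow h1 ha), zero_mul]) (fun h => (h (mem_elems.2 P.one_mem)).elim),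
    hf1 1 (by simp [hp.ne_one]), inv_mul_eq_iff_eq_mul₀ (Clifford.card_ne_zero P), hi.one_eq,
    hP.card_eq_pow, Subgroup.card_top] at h5
  rw [Pi.one_apply, map_one, mul_one] at h5
  exact ⟨m, by exact_mod_cast h5⟩

end Cfsg.Agent.S4506
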