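import Cfsg.Statements.S4507
import Cfsg.Agent.Lib.Small.DefOne

set_option autoImplicit false
open Cfsg

namespace Cfsg.Agent.S4507

open Cfsg.Lib.Small Cfsg.Lib.Char Cfsg.Lib.Block

/-- Let G be a finite group whose order g is divisible by the prime p exactly once, g′ = g/p, and fix a maximal ideal M of the algebraic integers containing p. Call two irreducible characters p-conjugate when a field automorphism of ℂ fixing the g′-th roots of unity carries one to the other. Let B be a p-block of positive defect (its defect group is a Sylow p-subgroup). Then B contains a subset Y (the exceptional family) such that: Y is a full p-conjugacy class (its members are pairwise p-conjugate and every p-conjugate of a member of Y lies in Y); every member of B outside Y is p-conjugate only to itself; the size t of Y divides p − 1 and B has exactly t + (p − 1)/t members; and there are signs δ_χ = ±1 (χ ∈ B) such that for every p-regular element x and every θ ∈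 Y, Σ_{χ ∈ B ∖ Y} δ_χ χ(x) + δ_θ θ(x) = 0. -/
theorem result {G : Type*} [Group G] [Finite G] (p : ℕ) [Fact p.Prime] (M : Ideal Cfsg.AlgInt) (hM : Cfsg.IsPModular p M) (hdiv : p ∣ Nat.card G) (hsq : ¬ p ^ 2 ∣ Nat.card G) (B : Set (Cfsg.IrrCharacter G)) (hB : Cfsg.IsPBlock M B) (hd : 0 < Cfsg.blockDefect p B) : ∃ Y : Set (Cfsg.IrrCharacter G), Y ⊆ B ∧ Y.Nonempty ∧ (∀ θ ∈ Y, ∀ ψ : Cfsg.IrrCharacter G, (∃ σ : ℂ ≃+* ℂ, σ (Complex.exp (2 * Real.pi * Complex.I / ((Nat.card G / p ^ (Nat.card G).factorization p) : ℕ))) = Complex.exp (2 * Real.pi * Complex.I / ((Nat.card G / p ^ (Nat.card G).factorization p) : ℕ)) ∧ (ψ : G → ℂ) = fun g => σ ((θ : G → ℂ) g)) ↔ ψ ∈ Y) ∧ (∀ χ ∈ B, χ ∉ Y → ∀ ψ : Cfsg.IrrCharacter G, (∃ σ : ℂ ≃+* ℂ, σ (Complex.exp (2 * Real.pi * Complex.I / ((Nat.card G / p ^ (Nat.card G).factorization p) : ℕ))) = Complex.exp (2 * Real.pi * Complex.I / ((Nat.card G / p ^ (Nat.card G).factorization p) : ℕ)) ∧ (ψ : G → ℂ) = fun g => σ ((χ : G →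 ℂ) g)) → ψ = χ) ∧ Nat.card Y ∣ p - 1 ∧ Nat.card B = Nat.card Y + (p - 1) / Nat.card Y ∧ ∃ δ : Cfsg.IrrCharacter G → ℤ, (∀ χ ∈ B, δ χ = 1 ∨ δ χ = -1) ∧ ∀ x : G, ¬ p ∣ orderOf x → ∀ θ ∈ Y, (∑ᶠ χ ∈ B \ Y, (δ χ : ℂ) * (χ : G → ℂ) x) + (δ θ : ℂ) * (θ : G → ℂ) x = 0 := by
  classical
  haveI := Fintype.ofFinite G
  haveI := hM.2.1
  have hp : p.Prime := Fact.out
  obtain ⟨P⟩ : Nonempty (Sylow p G) := inferInstance
  have hf : (Nat.card G).factorization p = 1 := by
    have h1 := (hp.dvd_iff_one_le_factorization Nat.card_pos.ne').1 hdiv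
    have h2 := mt (hp.pow_dvd_iff_le_factorization (k := 2) (Nat.card_pos (α := G)).ne').2 hsq
    omega
  have hP : Nat.card P = p := by rw [P.card_eq_multiplicity, hf, pow_one]
  obtain ⟨D⟩ := exists_dOne hP P.not_dvd_index
  have hm : Nat.card G / p ^ (Nat.card G).factorization p = (P : Subgroup G).index := by
    rw [hf, pow_one, D.card_G, Nat.mul_div_cancel_left _ hp.pos]
  have hm0 : (P : Subgroup G).index ≠ 0 := Subgroup.index_ne_zero_of_finite
  have hζ := Complex.isPrimitiveRoot_exp _ hm0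
  have hτ : ∀ τ : ℂ ≃+* ℂ, τ (Complex.exp (2 * Real.pi * Complex.I / (P : Subgroup G).index)) =
      Complex.exp (2 * Real.pi * Complex.I / (P : Subgroup G).index) ↔
      ∀ z : ℂ, z ^ (P : Subgroup G).index = 1 → τ z = z := fun τ => by
    refine ⟨fun h z hz => ?_, fun h => h _ hζ.pow_eq_one⟩
    haveI : NeZero (P : Subgroup G).index := ⟨hm0⟩
    obtain ⟨i, -, rfl⟩ := hζ.eq_pow_of_pow_eq_one hz
    rw [map_pow, h]
  obtain ⟨θ, hθ, hind⟩ := D.exists_kerP hM hB (by
    obtain ⟨χ, hχ, e⟩ := exists_minVal_eq p hB.nonempty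
    refine ⟨χ, hχ, fun h => ?_⟩
    have := (hp.dvd_iff_one_le_factorization (deg_pos χ).ne').1 h
    rw [blockDefect_eq] at hd
    omega)
  obtain ⟨X, Y, κ, c, H⟩ := D.exists_tree hM hθ hind
  have hY : 0 < Y.card := Nat.pos_of_mul_pos_right (H.card_Y ▸ Nat.sub_pos_of_lt hp.one_lt)
  have hBe : B = (X : Set _) ∪ Y := Set.ext H.mem
  have hX : B \ Y = X := by
    rw [hBe, Set.union_sdiff_cancel_right (Finset.disjoint_coe.2 H.disj).le_bot]
  simp only [hm, hτ]
  refine ⟨Y, fun χ h => (H.mem χ).2 (Or.inr h), Finset.card_pos.1 hY,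
    fun θ h ψ => (H.orbit θ h ψ).symm, fun χ h h' ψ ⟨τ, h1, h2⟩ => Subtype.ext
      (h2.trans (funext (H.fixed χ (((H.mem χ).1 h).resolve_right h') τ h1))),
    ⟨Nat.card (D.E θ), by rw [← H.card_Y]; simp⟩, ?_, fun χ => if χ ∈ Y then κ else c χ, fun χ h => ?_,
    fun x hx θ h => ?_⟩
  · rw [hBe, ← Finset.coe_union, ← H.card_Y, ← H.card_X]
    simp only [Finset.coe_sort_coe, Nat.card_eq_fintype_card, Fintype.card_coe]
    rw [Nat.mul_div_cancel_left _ hY, Finset.card_union_of_disjoint H.disj, add_comm]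
  · dsimp only
    split_ifs with h'
    exacts [H.sign, H.sign_c χ (((H.mem χ).1 h).resolve_right h')]
  · rw [hX, finsum_mem_coe_finset, ← H.rel θ h x hx, add_comm]
    simp only [Finset.mem_coe.1 h, if_true]
    congr 1
    exact Finset.sum_congr rfl fun χ hχ => by rw [if_neg (Finset.disjoint_left.1 H.disj hχ)]

end Cfsg.Agent.S4507
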