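import Cfsg.Statements.S4508
import Cfsg.Agent.Lib.Small.SelfC2

set_option autoImplicit false
open Cfsg

namespace Cfsg.Agent.S4508

open Subgroup Cfsg.Lib Cfsg.Lib.Small Cfsg.Lib.Amalg Cfsg.Lib.Char Cfsg.Lib.Clifford

/-- Let the finite group G contain an element x of prime order p with C_G(x) = ⟨x⟩, and let t be the number of conjugacy classes of elements of order p. If G has an irreducible character of degree p − 1, then t is even or the commutator subgroup has even index. -/
theorem result {G : Type*} [Group G] [Finite G] (p : ℕ) (hp : p.Prime) (x : G) (hx : orderOf x = p) (hC : Subgroup.centralizer ({x} : Set G) = Subgroup.zpowers x) (t : ℕ) (ht : Nat.card {C : ConjClasses G // ∃ g ∈ C.carrier, orderOf g = p} = t) (χ : Cfsg.IrrCharacter G) (hχ : Cfsg.charDegree (χ : G → ℂ) + 1 = p) : Even t ∨ Even (commutator G).index := by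
  have := Fact.mk hp
  have h : SC p x := ⟨hx, hC⟩
  obtain ⟨D⟩ := h.dOne
  obtain ⟨e, t', X, Y, κ, ε, H⟩ := exists_PB h.card D.ndvd
  have h1 := h.classes ht
  have h2 := H.mul
  have h3 := H.e_pos
  have h4 := H.t_pos
  have h5 := hp.two_le
  rw [H.he] at h1
  obtain rfl : t = t' := Nat.eq_of_mul_eq_mul_right h3 (by omega)
  by_contra! hne
  simp only [Nat.not_even_iff_odd] at hne
  rcases (show e = 1 ∨ 1 < e by omega) with rfl | he
  · rw [h.index_commutator fun e => (h.mem_commutator_iff' ht).1 e (by omega), ← h2, mul_one] at hne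
    exact Nat.not_even_iff_odd.2 hne.2 hne.1.add_one
  have h6 : e < p := by nlinarith
  have h0 : av (zpowers x) χ.1 = 0 := by
    by_contra h0
    have h7 : (p : ℤ) * 1 ≤ p * av (zpowers x) χ.1 := by gcongr; omega
    have h8 : ¬ p * av (zpowers x) χ.1 < (p : ℤ) * 2 := fun e => by
      have : av (zpowers x) χ.1 = 1 := by have := lt_of_mul_lt_mul_left e (by positivity); omega
      rw [this] at e h7
      by_cases hX : χ ∈ X
      · have := H.av_X hX
        rcases H.sign_ε χ hX with e | e <;> rw [e, ‹av _ _ = 1›] at this <;> omega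
      by_cases hY : χ ∈ Y
      · have := H.av_Y hY
        rcases H.sign with e | e <;> rw [e, ‹av _ _ = 1›] at this <;> omega
      · have := Nat.le_of_dvd (by omega) (H.out h.hC χ hX hY); omega
    by_cases hX : χ ∈ X
    · have := H.av_X hX
      rcases H.sign_ε χ hX with e | e <;> rw [e] at this <;> omega
    by_cases hY : χ ∈ Y
    · have := H.av_Y hY
      rcases H.sign with e | e <;> rw [e] at this <;> omega
    · have := Nat.le_of_dvd (by omega) (H.out h.hC χ hX hY); omega
  obtain ⟨z, hz⟩ := D.exists_det h.hC χ.2.isCharacter h0 (t := t) H.he he (by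
    rw [← coe_deg, show charDegree χ.1 = t * e by omega, Nat.cast_mul])
  have h7 : Even e := (Nat.even_mul.1 (Nat.odd_add_one.1 (h2 ▸ hp.odd_of_ne_two (by omega)) |>
    Nat.not_odd_iff_even.1)).resolve_left (Nat.not_even_iff_odd.2 hne.1)
  rw [(h7.add_one.mul hne.1).neg_one_pow] at hz
  let f : G →* ℂ := ⟨⟨detChar χ.1, detChar_one _⟩, detChar_mul _⟩
  have h8 := detChar_of_mem_commutator χ.1 ((commutator G).pow_index_mem z)
  change f _ = 1 at h8
  rw [map_pow, show f z = -1 from hz, hne.2.neg_one_pow] at h8
  norm_num at h8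

end Cfsg.Agent.S4508
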