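import Cfsg.Statements.S4509
import Cfsg.Agent.Lib.Small.SelfC2

set_option autoImplicit false
open Cfsg

namespace Cfsg.Agent.S4509

open Subgroup Cfsg.Lib Cfsg.Lib.Small Cfsg.Lib.Amalg Cfsg.Lib.Char Cfsg.Lib.Clifford

/-- Let the finite group G contain an element x of prime order p with C_G(x) = ⟨x⟩; let t be the number of conjugacy classes of elements of order p and 1 + n·p the number of subgroups of order p. Then G has a normal subgroup of order 1 + n·p if and only if either t = p − 1, or t < p − 1 and G″ ≠ G′. Moreover, if t = p − 1 then G′ has order 1 + n·p and G/G′ is cyclic of order p; and if t < p − 1 and G″ ≠ G′ then G″ has order 1 + n·p and G′ has order p·(1 + n·p). -/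
theorem result {G : Type*} [Group G] [Finite G] (p : ℕ) (hp : p.Prime) (x : G) (hx : orderOf x = p) (hC : Subgroup.centralizer ({x} : Set G) = Subgroup.zpowers x) (t : ℕ) (ht : Nat.card {C : ConjClasses G // ∃ g ∈ C.carrier, orderOf g = p} = t) (n : ℕ) (hn : Nat.card {H : Subgroup G // Nat.card H = p} = 1 + n * p) : ((∃ S : Subgroup G, S.Normal ∧ Nat.card S = 1 + n * p) ↔ (t = p - 1 ∨ (t < p - 1 ∧ derivedSeries G 2 ≠ derivedSeries G 1))) ∧ (t = p - 1 → Nat.card (commutator G) = 1 + n * p ∧ IsCyclic (G ⧸ commutator G) ∧ (commutator G).index = p) ∧ (t < p - 1 → derivedSeries G 2 ≠ derivedSeries G 1 → Nat.card (derivedSeries G 2) = 1 + n * p ∧ Nat.card (commutator G) = p * (1 + n * p)) := by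
  have := Fact.mk hp
  have h : SC p x := ⟨hx, hC⟩
  obtain ⟨D⟩ := h.dOne
  rw [h.card_sub] at hn
  have h1 := h.classes ht
  have h2 := card_mul_index (𝐍 (zpowers x))
  rw [D.card_N h.hC, hn] at h2
  have h3 := h.mem_commutator_iff' ht
  have h5 := hp.two_le
  have h6 : t ≤ p - 1 := by
    have := Nat.le_mul_of_pos_right t (Nat.pos_of_ne_zero (index_ne_zero_of_finite
      (H := (𝐂 (zpowers x)).subgroupOf (𝐍 (zpowers x)))) : 0 < (𝐂 (zpowers x)).relIndex (𝐍 (zpowers x)))
    omega
  have hd : derivedSeries G 2 = ⁅commutator G, commutator G⁆ := rfl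
  have hd1 : derivedSeries G 1 = commutator G := rfl
  have A : t = p - 1 → Nat.card (commutator G) = 1 + n * p ∧ IsCyclic (G ⧸ commutator G) ∧ (commutator G).index = p :=
    fun e => by
    have h7 := h.index_commutator fun h7 => h3.1 h7 e
    refine ⟨Nat.eq_of_mul_eq_mul_left hp.pos ?_, isCyclic_of_prime_card h7, h7⟩
    rw [not_not.1 (mt h.mem_commutator_iff.2 fun h7 => h3.1 h7 e), mul_one] at h2
    rw [h2, ← index_mul_card (commutator G), h7]
  have B : t < p - 1 → derivedSeries G 2 ≠ derivedSeries G 1 → Nat.card (derivedSeries G 2) = 1 + n * p ∧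
      Nat.card (commutator G) = p * (1 + n * p) := fun e hne => by
    have h7 := h3.2 e.ne
    rw [hd, hd1] at *
    have h8 : x ∉ ⁅commutator G, commutator G⁆ := fun h8 =>
      hne (le_antisymm (commutator_le_right _ _) (h.commutator_le h8))
    have h9 := (h.subgroup h7).index_commutator fun h9 => h8 (map_subtype_commutator (commutator G) ▸ mem_map_of_mem _ h9)
    have h10 := index_mul_card (commutator (commutator G))
    rw [h9, ← card_map_of_injective (subtype_injective _), map_subtype_commutator] at h10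
    have h11 : zpowers x ⊔ ⁅commutator G, commutator G⁆ = commutator G :=
      eq_of_le_of_card_ge (sup_le (zpowers_le.2 h7) (commutator_le_right _ _)) (by
        rw [Core.card_sup_of_disjoint (by rw [normalizer_eq_top]; exact le_top)
          (eq_bot_iff.2 ((inf_le_inf_right _ le_normalizer).trans (h.inf_eq_bot h8).le)), h.card, h10])
    have h12 := Core.card_sup_of_disjoint (le_top.trans (normalizer_eq_top _).ge) (h.inf_eq_bot h8)
    rw [← sup_of_le_left (le_normalizer (H := zpowers x)), sup_assoc, h11, h.sup_eq_top h7, card_top,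
      sup_of_le_left le_normalizer, ← card_mul_index (𝐍 (zpowers x)), hn] at h12
    have h13 := Nat.eq_of_mul_eq_mul_left Nat.card_pos h12
    exact ⟨h13.symm, by rw [← h10, h13]⟩
  refine ⟨⟨fun ⟨S, hS, e⟩ => ?_, ?_⟩, A, B⟩
  · refine h6.eq_or_lt.imp_right fun h7 => ⟨h7, fun h8 => ?_⟩
    have h9 : x ∉ S := fun h9 => hp.one_lt.ne' (Nat.dvd_one.1 ((Nat.dvd_add_left (dvd_mul_left p n)).1 (e ▸ h.mem_iff.1 h9)))
    have h10 : 𝐍 (zpowers x) ⊔ S = ⊤ := eq_top_of_card_eq _ (by
      rw [Core.card_sup_of_disjoint (by rw [S.normalizer_eq_top]; exact le_top) (h.inf_eq_bot h9), e, ← hn,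
        card_mul_index])
    have h11 := (SC.commutator_le_sup h10).trans (sup_le_sup_right h.commutator_N S)
    have h12 : derivedSeries G 1 ≤ S := by
      rw [← h8, hd, ← QuotientGroup.ker_mk' S, ← Subgroup.map_eq_bot_iff, map_commutator, commutator_eq_bot_iff_le_centralizer]
      have h13 := Subgroup.map_mono (f := QuotientGroup.mk' S) h11
      rw [Subgroup.map_sup, (Subgroup.map_eq_bot_iff S).2 (QuotientGroup.ker_mk' S).ge, sup_bot_eq, MonoidHom.map_zpowers] at h13
      exact h13.trans ((le_centralizer _).trans (centralizer_le h13))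
    exact h9 (h12 (h3.2 h7.ne))
  · rintro (e | ⟨e1, e2⟩)
    · exact ⟨_, inferInstance, (A e).1⟩
    · exact ⟨_, derivedSeries_normal G 2, (B e1 e2).1⟩

end Cfsg.Agent.S4509
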