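import Cfsg.Statements.S4510
import Cfsg.Agent.Lib.Block2.Num

set_option autoImplicit false
open Cfsg

namespace Cfsg.Agent.S4510

/-- Let G be a finite group, p a prime, M a maximal ideal of the algebraic integers containing p, and call the defect of a conjugacy class the exponent of p in the order of the centralizer of its elements. Two irreducible characters lying in p-blocks of defect exactly d lie in the same block if and only if their central characters (class size times χ(x)/χ(1)) agree modulo the local ideal at M at every p-regular element x whose class has defect exactly d. -/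
theorem result {G : Type*} [Group G] [Finite G] (p : ℕ) [Fact p.Prime] (M : Ideal Cfsg.AlgInt) (hM : Cfsg.IsPModular p M) (d : ℕ) (χ ψ : Cfsg.IrrCharacter G) (hχ : Cfsg.blockDefect p (Cfsg.blockOf M (χ : G → ℂ)) = d) (hψ : Cfsg.blockDefect p (Cfsg.blockOf M (ψ : G → ℂ)) = d) : Cfsg.SameBlock M (χ : G → ℂ) (ψ : G → ℂ) ↔ ∀ x : G, ¬ p ∣ orderOf x → (Nat.card (Subgroup.centralizer ({x} : Set G))).factorization p = d → Cfsg.MemLocalIdeal M (Cfsg.centralChar (χ : G → ℂ) x - Cfsg.centralChar (ψ : G → ℂ) x) := by
  open Cfsg.Lib Cfsg.Lib.Block Cfsg.Lib.Block2 Cfsg.Lib.Char Cfsg.Lib.Amalg in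
  have := hM.2.1
  refine ⟨fun h x _ _ => h x, fun h => mem_blockOf.1 (mem_of_forall_coeff
    (isPBlock_blockOf χ).isBlockUnion (mem_blockOf_self χ) fun g hg => ?_)⟩
  rcases (le_blockDefect_of_coeff hM (isPBlock_blockOf χ) hg).lt_or_eq with h1 | h1
  · have h2 : ∀ θ : IrrCharacter G, blockDefect p (blockOf M (θ : G → ℂ)) = d →
        lam M (θ : G → ℂ) (classSum (resField M) g) = 0 := fun θ hθ => by
      by_contra h3
      have := blockDefect_le_of_lam hM (isPBlock_blockOf θ) (mem_blockOf_self θ) h3
      omega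
    rw [h2 χ hχ, h2 ψ hψ]
  · rw [χ.2.lam_classSum, ψ.2.lam_classSum, eq_comm,
      red_eq_red_iff (χ.2.memLocalRing_centralChar g) (ψ.2.memLocalRing_centralChar g)]
    exact h g (not_dvd_orderOf_of_coeff hM (isPBlock_blockOf χ).isBlockUnion hg) (h1.trans hχ)

end Cfsg.Agent.S4510
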