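import Cfsg.Statements.S4512
import Cfsg.Agent.Lib.Block.KleinB
import Cfsg.Agent.Lib.Small.Subsec

set_option autoImplicit false
open Cfsg

namespace Cfsg.Agent.S4512

open Cfsg.Lib.Block Cfsg.Lib.Char Cfsg.Lib.Amalg
set_option linter.style.haveILetI false

/-- If G is a finite group with a Sylow 2-subgroup that is a Klein four-group and a single conjugacy class of involutions, then its principal 2-block (relative to a maximal ideal M of the algebraic integers containing 2) has 2-regular rank 3: the restrictions of its irreducible characters to the elements of odd order span a space of dimension 3 (it has three irreducible Brauer characters). -/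
theorem result {G : Type*} [Group G] [Finite G] (M : Ideal Cfsg.AlgInt) (hM : Cfsg.IsPModular 2 M) (P : Sylow 2 G)
    (hP : Nat.card P = 4) (hexp : ∀ x : P, x * x = 1)
    (hone : ∀ s t : G, orderOf s = 2 → orderOf t = 2 → IsConj s t) :
    Cfsg.blockRank 2 (Cfsg.principalBlock M G) = 3 := by
  classical
  haveI := hM.2.1
  haveI : Fact (Nat.Prime 2) := ⟨Nat.prime_two⟩
  haveI := Fintype.ofFinite G
  haveI := Fintype.ofFinite (Cfsg.principalBlock M G)
  obtain ⟨ε, hε, ho, h4, hv, -, hr⟩ := exists_kleinB hM P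
    (Lib.Invol.isKleinFour_of_card hP fun x hx => congrArg Subtype.val (hexp ⟨x, hx⟩)) hone
  have hε2 : ∀ χ, (ε χ : ℂ) * ε χ = 1 := fun χ => by rcases hε χ with e | e <;> simp [e]
  set S : ℂ := ∑ g : G, if 2 ∣ orderOf g then 1 else 0 with hS
  have h1 : 4 * S = Nat.card G := by
    have e : ∀ g : G, ∑ χ, ε χ * χ.1.1 g = 4 * if 2 ∣ orderOf g then (1 : ℂ) else 0 := fun g => by
      split_ifs with h
      · simp [hv _ g h, hε2, h4]
      · rw [hr g h, mul_zero]
    rw [hS, Finset.mul_sum, ← Finset.sum_congr rfl fun g _ => e g, Finset.sum_comm,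
      Finset.sum_eq_single (oneB M G) (fun χ _ h => by
        rw [← Finset.mul_sum, χ.1.2.sum_eq_zero fun e => h (eq_oneB_iff.2 e), mul_zero]) (by simp)]
    simp [ho]
  have h2 : ∀ χ : Cfsg.principalBlock M G,
      Cfsg.classInner (Lib.Small.reg 2 χ.1.1) χ.1.1 = 3 / 4 := fun χ => by
    have h3 := card_mul_classInner χ.1.1 χ.1.1
    rw [χ.1.2.classInner_self] at h3
    have h5 : ∑ g, Lib.Small.reg 2 χ.1.1 g * (starRingEnd ℂ) (χ.1.1 g) + S
        = ∑ g, χ.1.1 g * (starRingEnd ℂ) (χ.1.1 g) := by
      rw [hS, ← Finset.sum_add_distrib]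
      refine Finset.sum_congr rfl fun g _ => ?_
      split_ifs with h
      · rw [Lib.Small.reg_of_dvd _ h, hv χ g h, map_intCast, hε2, zero_mul, zero_add]
      · rw [Lib.Small.reg_of_not_dvd _ h, add_zero]
    refine mul_left_cancel₀ (card_ne_zero G) ?_
    rw [card_mul_classInner]
    linear_combination h5 - h3 - h1 / 4
  have h3 := Lib.Small.sum_inner_reg_eq_rank hM (isPBlock_principalBlock (M := M) (G := G)).isBlockUnion
  rw [← Lib.Block.finsum_mem_irr, finsum_mem_eq_sum_coe] at h3
  simp only [h2, Finset.sum_const, Finset.card_univ, h4] at h3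
  norm_num at h3
  exact_mod_cast h3.symm

end Cfsg.Agent.S4512
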