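import Cfsg.Statements.S4513
import Cfsg.Agent.Lib.Block2.Canon

set_option autoImplicit false
open Cfsg

namespace Cfsg.Agent.S4513

/-- Blocks of defect one for p = 2. Let M be a maximal ideal of the algebraic integers containing 2, B a 2-block of the finite group G whose defect group is the subgroup generated by an involution x, C = C_G(x), b a block of C inducing B and θ a member of b taking the same value at x as at 1 (there is exactly one). Then B consists of exactly two irreducible characters, which agree on every element of odd order, and they can be labelled χ₁, χ₂ with signs ε₁, ε₂ = ±1, ε₁ε₂ = −1, such that χᵢ(x y) = εᵢ θ(y) for every element y of C of odd order. -/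
theorem result {G : Type*} [Group G] [Finite G] (M : Ideal Cfsg.AlgInt) (hM : Cfsg.IsPModular 2 M) (x : G) (hx : orderOf x = 2)
    (B : Set (Cfsg.IrrCharacter G)) (hB : Cfsg.IsPBlock M B) (hBD : Cfsg.IsDefectGroup 2 M B (Subgroup.zpowers x))
    (b : Set (Cfsg.IrrCharacter ↥(Subgroup.centralizer ({x} : Set G)))) (hb : Cfsg.IsInducedBlock M (Subgroup.centralizer ({x} : Set G)) b B)
    (θ : Cfsg.IrrCharacter ↥(Subgroup.centralizer ({x} : Set G))) (hθ : θ ∈ b)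
    (hθx : ∀ z : ↥(Subgroup.centralizer ({x} : Set G)), (z : G) = x → (θ : ↥(Subgroup.centralizer ({x} : Set G)) → ℂ) z = (θ : ↥(Subgroup.centralizer ({x} : Set G)) → ℂ) 1) :
    Nat.card B = 2 ∧ (∀ χ ∈ B, ∀ ψ ∈ B, ∀ g : G, ¬ 2 ∣ orderOf g → (χ : G → ℂ) g = (ψ : G → ℂ) g) ∧
      ∃ χ₁ ∈ B, ∃ χ₂ ∈ B, χ₁ ≠ χ₂ ∧ ∃ ε₁ ε₂ : ℤ, (ε₁ = 1 ∨ ε₁ = -1) ∧ (ε₂ = 1 ∨ ε₂ = -1) ∧ ε₁ * ε₂ = -1 ∧
        ∀ y : ↥(Subgroup.centralizer ({x} : Set G)), ¬ 2 ∣ orderOf y →
          (χ₁ : G → ℂ) (x * y) = (ε₁ : ℂ) * (θ : ↥(Subgroup.centralizer ({x} : Set G)) → ℂ) y ∧ (χ₂ : G → ℂ) (x * y) = (ε₂ : ℂ) * (θ : ↥(Subgroup.centralizer ({x} : Set G)) → ℂ) y := by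
  open Cfsg.Lib Cfsg.Lib.Block Cfsg.Lib.Block2 Cfsg.Lib.Char Cfsg.Lib.Amalg in
  have := hM.2.1
  classical
  haveI := Fintype.ofFinite G
  revert b θ
  generalize hC : Subgroup.centralizer ({x} : Set G) = C
  intro b hb θ hθ hθx
  replace hC := hC.symm
  haveI := Fintype.ofFinite C
  have hmem : ∀ {g}, g ∈ C ↔ g * x = x * g := hC ▸ Subgroup.mem_centralizer_singleton_iff
  have hxC : x ∈ C := hmem.2 rfl
  have hx1 : x ≠ 1 := fun h => by rw [h, orderOf_one] at hx; omega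
  have hx2 : ∃ k, orderOf x = 2 ^ k := ⟨1, hx⟩
  have hD : ∀ u ∈ Subgroup.zpowers x, u = 1 ∨ u = x := fun u hu => by
    obtain ⟨n, hn, rfl⟩ := Finset.mem_image.1 (mem_zpowers_iff_mem_range_orderOf.1 hu)
    rw [hx, Finset.mem_range] at hn
    interval_cases n <;> simp
  have hN : ⊤ ⊓ Subgroup.normalizer (Subgroup.zpowers x : Set G) ≤ C := fun g hg =>
    hmem.2 (mul_inv_eq_iff_eq_mul.1
      ((hD _ ((Subgroup.mem_normalizer_iff.1 hg.2 x).1 (Subgroup.mem_zpowers x))).resolve_left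
        (by simpa using hx1)))
  have hle : Subgroup.zpowers x ≤ C := Subgroup.zpowers_le.2 hxC
  have hdef : ∀ b', IsInducedBlock M C b' B → IsDefectGroup 2 M b' ((Subgroup.zpowers x).subgroupOf C) :=
    fun b' h => h.isDefectGroup_subgroupOf hM hle
      (hC ▸ centralizer_zpowers_eq x ▸ Subgroup.centralizer_le_normalizer _) hBD
  have hA : AllInd M C := hC ▸ allInd_centralizer_singleton hM hx2
  have hu : under M C B = b := by
    ext ξ
    rw [hA.mem_under_iff hB]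
    refine ⟨fun h => ?_, fun h => hb.1.eq_blockOf h ▸ hb⟩
    rw [← EB_inj h.1.isBlockUnion hb.1.isBlockUnion (h.ind.eq_of_norm_le hM hb.ind
      ((isDefectGroup_subgroupOf_iff hM h.1 hle).1 (hdef _ h))
      ((isDefectGroup_subgroupOf_iff hM hb.1 hle).1 (hdef _ hb)) hN)]
    exact mem_blockOf_self ξ
  have hZ : (Subgroup.zpowers x).subgroupOf C ≤ Subgroup.center C := fun z hz =>
    Subgroup.mem_center_iff.2 fun g => Subtype.ext ((hD _ hz).elim (fun h => by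
      rw [Subgroup.coe_mul, Subgroup.coe_mul, show (z : G) = 1 from h, mul_one, one_mul]) fun h => by
      rw [Subgroup.coe_mul, Subgroup.coe_mul, show (z : G) = x from h, hmem.1 g.2])
  haveI := normal_of_sup_cent (sup_cent_of_le_center hZ)
  have hk : (Subgroup.zpowers x).subgroupOf C ≤ charKer (θ : C → ℂ) := fun z hz =>
    θ.2.mem_charKer.2 ((hD _ hz).elim (fun h => by rw [show z = 1 from Subtype.ext h]) (hθx z))
  have h0 := θ.2.apply_one_ne_zero
  have hd : ∀ χ ∈ B, ∃ d : ℤ, ∀ y : C, ¬ 2 ∣ orderOf y → (χ : G → ℂ) (x * y) = d * (θ : C → ℂ) y := by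
    intro χ hχ
    have h1 : ∀ ξ ∈ b, ∃ s : ℤ, ∀ y : C, ¬ 2 ∣ orderOf y →
        (ξ : C → ℂ) (⟨x, hxC⟩ * y) = s * (θ : C → ℂ) y := fun ξ hξ => by
      obtain ⟨ζ, h⟩ := exists_canon_apply hM (sup_cent_of_le_center hZ) hb.1 (hdef b hb) hθ hk hξ
      have h2 : ∀ y : C, ¬ 2 ∣ orderOf y → (ξ : C → ℂ) (⟨x, hxC⟩ * y) =
        ζ.1 ⟨⟨x, hxC⟩, Subgroup.mem_zpowers x⟩ * (θ : C → ℂ) y := h ⟨_, Subgroup.mem_zpowers x⟩
      obtain ⟨l, hl⟩ := ζ.2.exists_linear_of_comm fun a b => Subtype.ext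
        (Subgroup.mem_center_iff.1 (hZ b.2) a)
      have h3 : (⟨⟨x, hxC⟩, Subgroup.mem_zpowers x⟩ : (Subgroup.zpowers x).subgroupOf C) ^ 2 = 1 :=
        Subtype.ext (Subtype.ext (by simp [← hx]))
      have h4 : ζ.1 ⟨⟨x, hxC⟩, Subgroup.mem_zpowers x⟩ ^ 2 = 1 := by
        rw [hl, ← Units.val_pow_eq_pow_val, ← map_pow, h3, map_one, Units.val_one]
      rcases sq_eq_one_iff.1 h4 with h5 | h5
      · exact ⟨1, fun y hy => by rw [h2 y hy, h5, Int.cast_one]⟩
      · exact ⟨-1, fun y hy => by rw [h2 y hy, h5, Int.cast_neg, Int.cast_one]⟩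
    choose! s hs using h1
    obtain ⟨a, ha, -⟩ := (χ.2.isCharacter.restrict C).exists_nat_coeffs
    refine ⟨∑ ξ with ξ ∈ b, a ξ * s ξ, fun y hy => ?_⟩
    have h2 := hA.blockPart_eq hM hB.isBlockUnion (h := ⟨x, hxC⟩ * y) (x := x) (isPPart_mul
      (hmem.1 y.2).symm hx2 (by rwa [Subgroup.orderOf_coe])) hC.ge
      χ.2.isClassFunction
    rw [blockPart_irr_of_mem hχ, hu, blockPart_eq, Finset.sum_apply] at h2
    push_cast
    rw [Finset.sum_mul]
    refine h2.trans (Finset.sum_congr rfl fun ξ hξ => ?_)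
    rw [Pi.smul_apply, smul_eq_mul, ha, hs ξ (by simpa using hξ) y hy, mul_assoc]
  choose! d hd using hd
  have hdx : ∀ χ ∈ B, (χ : G → ℂ) x = d χ * (θ : C → ℂ) 1 := fun χ hχ => by
    simpa using hd χ hχ 1 not_dvd_orderOf_one
  have hd0 : ∀ χ ∈ B, d χ ≠ 0 := fun χ hχ h => by
    have h1 := (blockDefect_eq_zero_iff_bot hM hB hBD).1 ((blockDefect_eq_zero_iff hM hB hχ).2
      (defectZero_of_vanish hM.1 χ.2 fun u hu hu1 => by_contra fun h2 => by
        obtain ⟨c, hc⟩ := exists_conj_mem_defectGroup hM hB hBD hχ (isPPart_self hM.1 hu) h2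
        rw [← χ.2.isClassFunction.conj_eq u c, (hD _ hc).resolve_left (by simpa using hu1), hdx χ hχ,
          h] at h2
        simp at h2))
    exact hx1 (by simpa using h1)
  have hs : ∑ χ with χ ∈ B, d χ ^ 2 = 2 := by
    have h1 := Small.kernel_subsec hM hB.isBlockUnion hC hx2 (c := 1) (c' := 1) not_dvd_orderOf_one
      not_dvd_orderOf_one
    obtain ⟨θ', -, -, -, h2⟩ := exists_canon hM (pquo_cent_of_le_center hZ) hb.1 (hdef b hb)
    rw [hu, finsum_mul_conj_eq_of_cent hM hb.1.isBlockUnion (hdef b hb).isPGroup not_dvd_orderOf_one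
      not_dvd_orderOf_one (Subgroup.one_mem _), show b ∩ {χ | (Subgroup.zpowers x).subgroupOf C ≤ charKer χ.1} = {θ} from Set.eq_singleton_iff_unique_mem.2
        ⟨⟨hθ, hk⟩, fun ξ h => (h2 ξ h.1 h.2).trans (h2 θ hθ hk).symm⟩, finsum_mem_singleton,
      Nat.card_congr (Subgroup.subgroupOfEquivOfLe hle).toEquiv, Nat.card_zpowers, hx,
      Block.finsum_mem_irr] at h1
    rw [← Int.cast_inj (α := ℂ)]
    refine mul_right_cancel₀ (mul_ne_zero h0 ((map_ne_zero (starRingEnd ℂ)).2 h0)) ?_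
    push_cast at h1 ⊢
    rw [← h1, Finset.sum_mul]
    refine Finset.sum_congr rfl fun χ hχ => ?_
    rw [mul_one, hdx χ (by simpa using hχ), map_mul, map_intCast]; ring
  have h1 : ∀ χ ∈ Finset.univ.filter (· ∈ B), 1 ≤ d χ ^ 2 := fun χ hχ =>
    sq_pos_of_ne_zero (hd0 χ (by simpa using hχ))
  have hc : (Finset.univ.filter (· ∈ B)).card = 2 := by
    have h2 := Finset.card_nsmul_le_sum _ _ _ h1
    rw [hs, nsmul_one] at h2
    obtain ⟨χ, hχ⟩ := hB.nonempty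
    have h3 := Finset.card_pos.2 ⟨χ, (by simpa using hχ : χ ∈ Finset.univ.filter (· ∈ B))⟩
    by_contra h4
    obtain ⟨ψ, h5⟩ := Finset.card_eq_one.1 (show (Finset.univ.filter (· ∈ B)).card = 1 by omega)
    rw [h5, Finset.sum_singleton] at hs
    have : d ψ ≤ 1 := by nlinarith
    have : -1 ≤ d ψ := by nlinarith
    interval_cases d ψ <;> simp at hs
  obtain ⟨χ₁, χ₂, hne, he⟩ := Finset.card_eq_two.1 hc
  have hm : ∀ χ, χ ∈ B ↔ χ = χ₁ ∨ χ = χ₂ := fun χ => by simpa using Finset.ext_iff.1 he χ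
  have m1 := (hm χ₁).2 (.inl rfl)
  have m2 := (hm χ₂).2 (.inr rfl)
  have a1 := h1 χ₁ (by simpa using m1)
  have a2 := h1 χ₂ (by simpa using m2)
  rw [he, Finset.sum_pair hne] at hs
  have e1 := sq_eq_one_iff.1 (show d χ₁ ^ 2 = 1 by omega)
  have e2 := sq_eq_one_iff.1 (show d χ₂ ^ 2 = 1 by omega)
  have hw : ∀ g, ¬ 2 ∣ orderOf g → (χ₁ : G → ℂ) g * d χ₁ + (χ₂ : G → ℂ) g * d χ₂ = 0 := fun g hg => by
    have h2 := weak_orthogonality_of_int hM hB.memLocalRing_blockCoeff hg hx.symm.dvd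
    rw [Block.finsum_mem_irr, he, Finset.sum_pair hne, hdx _ m1, hdx _ m2, map_mul, map_mul,
      map_intCast, map_intCast] at h2
    exact mul_right_cancel₀ ((map_ne_zero (starRingEnd ℂ)).2 h0) (by linear_combination h2)
  have e3 : d χ₁ * d χ₂ = -1 := by
    have h2 := hw 1 not_dvd_orderOf_one
    have h3 := deg_ne_zero χ₁.2
    rw [← irr_cast_deg, ← irr_cast_deg] at h2
    rcases e1 with e1 | e1 <;> rcases e2 with e2 | e2 <;> rw [e1, e2] at h2 ⊢ <;> norm_cast at h2 <;>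
      omega
  have e4 : ∀ g, ¬ 2 ∣ orderOf g → (χ₁ : G → ℂ) g = (χ₂ : G → ℂ) g := fun g hg => by
    have h2 := hw g hg
    rcases e1 with e1 | e1 <;> rcases e2 with e2 | e2 <;> rw [e1, e2] at h2 e3 <;> norm_num at e3 <;>
      push_cast at h2 <;> first | linear_combination h2 | linear_combination -h2
  refine ⟨by rw [Small.card_block_eq, hc], fun χ hχ ψ hψ g hg => ?_, χ₁, m1, χ₂, m2, hne, _, _, e1, e2,
    e3, fun y hy => ⟨hd _ m1 y hy, hd _ m2 y hy⟩⟩
  rcases (hm χ).1 hχ with rfl | rfl <;> rcases (hm ψ).1 hψ with rfl | rfl <;> simp [e4 g hg]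

end Cfsg.Agent.S4513
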