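import Cfsg.Statements.S4514
import Cfsg.Agent.Lib.Small.AbD

set_option autoImplicit false
open Cfsg

namespace Cfsg.Agent.S4514

open Subgroup Cfsg.Lib Cfsg.Lib.Block Cfsg.Lib.Block2 Cfsg.Lib.Amalg Cfsg.Lib.AbS
set_option linter.style.haveILetI false

/-- Let G be a finite group, u an element of G, and fix a maximal ideal M of the algebraic integers containing 2 (defining the 2-blocks). There is a complex number k with χ(1) − χ(u) = k for every non-principal irreducible character χ in the principal 2-block if and only if one of the following holds: u lies in O(G); or G/O(G) has order 2 and u ∉ O(G); or G/O(G) ≅ PSL(2, 2ⁿ) for some n ≥ 2, u ∉ O(G) and u² ∈ O(G). -/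
theorem result {G : Type*} [Group G] [Finite G] (M : Ideal Cfsg.AlgInt) (hM : Cfsg.IsPModular 2 M) (u : G) :
    (∃ k : ℂ, ∀ χ : Cfsg.IrrCharacter G, χ ∈ Cfsg.principalBlock M G → (χ : G → ℂ) ≠ (fun _ => 1) →
        (χ : G → ℂ) 1 - (χ : G → ℂ) u = k) ↔
      (u ∈ Cfsg.oddCore G ∨ (Nat.card (G ⧸ Cfsg.oddCore G) = 2 ∧ u ∉ Cfsg.oddCore G) ∨
        (∃ (F : Type) (_ : Field F) (_ : Fintype F) (n : ℕ), 2 ≤ n ∧ Fintype.card F = 2 ^ n ∧
          Nonempty (G ⧸ Cfsg.oddCore G ≃* Matrix.ProjectiveSpecialLinearGroup (Fin 2) F) ∧ u ∉ Cfsg.oddCore G ∧ u ^ 2 ∈ Cfsg.oddCore G)) := by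
  haveI := hM.2.1
  have hf := QuotientGroup.mk'_surjective (pPrimeCore 2 G)
  obtain ⟨q1, q2, -⟩ := principal_quot hM hf Layer.not_dvd_card_ker_core
  have q3 : ∀ ψ : IrrCharacter (G ⧸ pPrimeCore 2 G), (infl _ hf ψ).1 = (fun _ => 1) ↔ ψ.1 = fun _ => 1 := fun ψ =>
    ⟨fun e => funext fun g => by obtain ⟨a, rfl⟩ := hf g; exact congrFun e a, fun e => funext fun g => congrFun e _⟩
  have q4 : ∀ k, (∀ χ ∈ principalBlock M G, χ.1 ≠ (fun _ => 1) → χ.1 1 - χ.1 u = k) ↔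
      ∀ χ ∈ principalBlock M (G ⧸ pPrimeCore 2 G), χ.1 ≠ (fun _ => 1) → χ.1 1 - χ.1 u = k := fun k =>
    ⟨fun h ψ h1 h2 => h (infl _ hf ψ) (q1.ge h1) fun e => h2 ((q3 ψ).1 e), fun h χ h1 h2 => by
      obtain ⟨ψ, h3, rfl⟩ := q2 χ h1
      exact h ψ h3 fun e => h2 ((q3 ψ).2 e)⟩
  have hO := Core.pPrimeCore_quotient_pPrimeCore (p := 2) (G := G)
  simp only [q4, ← QuotientGroup.eq_one_iff, QuotientGroup.mk_pow]
  generalize (u : G ⧸ pPrimeCore 2 G) = u
  haveI := Fintype.ofFinite (principalBlock M (G ⧸ pPrimeCore 2 G))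
  constructor
  · rintro ⟨c, h⟩
    refine or_iff_not_imp_left.2 fun u1 => ?_
    have h0 : c ≠ 0 := fun e => u1 (mem_bot.1 (hO.le ((bKer_principalBlock hM).le (mem_bKer.2 fun χ hχ => by
      by_cases h1 : χ.1 = fun _ => 1
      · rw [h1]
      · exact (sub_eq_zero.1 ((h χ hχ h1).trans e)).symm))))
    rcases harada hM h0 h hO u1 with h1 | ⟨⟨F, _, _, ⟨n, h1, h2⟩, h3⟩, h4⟩
    · exact .inl ⟨h1, u1⟩
    · exact .inr ⟨F, _, _, n, h1, h2, h3, u1, (sq u).trans h4⟩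
  · rintro (rfl | ⟨h1, h2⟩ | ⟨F, _, _, n, h1, h2, h3, h4, h5⟩)
    · exact ⟨0, fun _ _ _ => sub_self _⟩
    · refine ⟨2, fun χ _ h => ?_⟩
      obtain ⟨y, -, hy⟩ := (Nat.card_eq_two_iff' 1).1 h1
      have h3 : ∀ g, g = 1 ∨ g = u := fun g => or_iff_not_imp_left.2 fun e => (hy g e).trans (hy u h2).symm
      have h4 := (Clifford.irrOn_top.2 χ.2).linOn_of_comm fun a _ b _ => by
        rcases h3 a with rfl | rfl <;> rcases h3 b with rfl | rfl <;> simp
      have h5 := h4.map_mul (mem_top u) (mem_top u)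
      rw [(h3 (u * u)).resolve_right fun e => h2 (mul_eq_left.1 e), h4.2, eq_comm, mul_self_eq_one_iff] at h5
      rw [h4.2, h5.resolve_left fun e => h (funext fun g => by rcases h3 g with rfl | rfl; exacts [h4.2, e])]
      norm_num
    · obtain ⟨P, hP⟩ := exists_syl 2 (⊤ : Subgroup (G ⧸ pPrimeCore 2 G))
      exact ⟨_, fun χ a b => (l2e_vals hM ⟨F, _, _, ⟨n, h1, h2⟩, h3⟩ hP).2 χ a b u (orderOf_eq_prime h5 h4)⟩

end Cfsg.Agent.S4514
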