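import Cfsg.Statements.S4519
import Cfsg.Agent.Lib.Clifford.Pw

set_option autoImplicit false
open Cfsg

namespace Cfsg.Agent.S4519

open Cfsg.Lib Cfsg.Lib.Clifford Cfsg.Lib.Char Finset

/-- Let N be a normal subgroup of odd index in the finite group G, and let k be coprime to the order of G with k ^ (2 ^ e) ≡ 1 modulo the order of G for some e and g ^ k = g⁻¹ for every element g of odd order (so g ↦ g ^ k induces a field automorphism of 2-power order inverting the roots of unity of odd order). If an irreducible character θ of N satisfies θ (n ^ k) = θ n for all n, then there is exactly one irreducible character χ of G with θ a constituent of its restriction to N and χ (g ^ k) = χ g for all g; moreover, if θ is invariant under conjugation by G, that χ restricts to θ. -/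
theorem result {G : Type*} [Group G] [Fintype G] (N : Subgroup G) [hN : N.Normal] [Fintype N] (hidx : Odd N.index) (k e : ℕ) (hk : Nat.Coprime k (Nat.card G)) (hke : k ^ (2 ^ e) ≡ 1 [MOD Nat.card G]) (hk₂ : ∀ g : G, Odd (orderOf g) → g ^ k = g⁻¹) (θ : Cfsg.IrrCharacter N) (hθ : ∀ n : N, (θ : N → ℂ) (n ^ k) = (θ : N → ℂ) n) : ∃ χ : Cfsg.IrrCharacter G, (Cfsg.classInner (fun n : N => (χ : G → ℂ) n) (θ : N → ℂ) ≠ 0 ∧ (∀ g : G, (χ : G → ℂ) (g ^ k) = (χ : G → ℂ) g) ∧ ((∀ g : G, ∀ n : N, (θ : N → ℂ) ⟨g * n * g⁻¹, hN.conj_mem n n.2 g⟩ = (θ : N → ℂ) n) → ∀ n : N, (χ : G → ℂ) n = (θ : N → ℂ) n)) ∧ ∀ χ' : Cfsg.IrrCharacter G, Cfsg.classInner (fun n : N => (χ' : G → ℂ) n) (θ : N → ℂ) ≠ 0 → (∀ g : G, (χ' : G → ℂ) (g ^ k) = (χ' : G → ℂ) g) → χ' = χ := by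
---
  obtain ⟨φ, e, -⟩ := exists_res N θ.1
  have hφ : IrrOn N φ := by have := θ.2; rwa [e] at this
  have h := pow_pow_eq_of_modEq hke
  have ho : Odd (N.relIndex ⊤) := by rwa [Subgroup.relIndex_top_right]
  have hn := nrm_of_normal ⊤ N
  rw [e] at hθ ⊢
  have hr : ∀ x ∈ N, φ (x ^ k) = φ x := fun x hx => hθ ⟨x, hx⟩
  obtain ⟨χ, h1, h2, h3⟩ := exists_pw_over_of_odd h le_top hn ho hφ hr
  have key : ∀ ψ, IrrOn ⊤ ψ → dot N ψ φ ≠ 0 → (∀ x, ψ (x ^ k) = ψ x) → ψ = χ := fun ψ a b c =>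
    funext fun x => eq_of_pw_of_odd h hk₂ le_top hn ho a (irrOn_of_mem h1) hφ b h2 (fun y _ => c y)
      (fun y _ => congrFun h3 y) x trivial
  refine ⟨⟨χ, mem_Irr_top.1 h1⟩, ⟨by rwa [dot_eq_classInner] at h2, congrFun h3, fun hi n => ?_⟩,
    fun χ' a b => Subtype.ext (key _ (irrOn_top.2 χ'.2) (by rwa [dot_eq_classInner]) b)⟩
  obtain ⟨ψ, a, b, c⟩ := exists_pw_ext_of_odd h hk₂ le_top hn ho hφ (fun g _ x hx => hi g ⟨x, hx⟩) hr
  show χ n = _
  rw [← key ψ (irrOn_of_mem a) (by rw [dot_congr_left b, hφ.dot_self]; exact one_ne_zero) (congrFun c)]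
  exact b n n.2

end Cfsg.Agent.S4519
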