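import Cfsg.Statements.S4520
import Cfsg.Agent.Lib.Block2.Num

set_option autoImplicit false
open Cfsg

namespace Cfsg.Agent.S4520

/-- Let N be a normal subgroup of odd index in the finite group G, M a maximal ideal of the algebraic integers containing 2, and k coprime to the order of G with k ^ (2 ^ e) ≡ 1 modulo the order of G for some e and g ^ k = g⁻¹ for every element g of odd order. Let θ be an irreducible character of N and χ an irreducible character of G over θ, both unchanged by composing with g ↦ g ^ k. Then χ lies in the principal 2-block of G if and only if θ lies in the principal 2-block of N. -/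
theorem result {G : Type*} [Group G] [Fintype G] (M : Ideal Cfsg.AlgInt) (hM : Cfsg.IsPModular 2 M) (N : Subgroup G) [N.Normal] [Fintype N] (hidx : Odd N.index) (k e : ℕ) (hk : Nat.Coprime k (Nat.card G)) (hke : k ^ (2 ^ e) ≡ 1 [MOD Nat.card G]) (hk₂ : ∀ g : G, Odd (orderOf g) → g ^ k = g⁻¹) (θ : Cfsg.IrrCharacter N) (hθ : ∀ n : N, (θ : N → ℂ) (n ^ k) = (θ : N → ℂ) n) (χ : Cfsg.IrrCharacter G) (hχ : ∀ g : G, (χ : G → ℂ) (g ^ k) = (χ : G → ℂ) g) (hover : Cfsg.classInner (fun n : N => (χ : G → ℂ) n) (θ : N → ℂ) ≠ 0) : χ ∈ Cfsg.principalBlock M G ↔ θ ∈ Cfsg.principalBlock M N := by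
  open Cfsg.Lib Cfsg.Lib.Block Cfsg.Lib.Block2 Cfsg.Lib.Char Cfsg.Lib.Amalg in
  have := hM.2.1
  have ho : Over N.subtype (χ : G → ℂ) (θ : N → ℂ) := over_subtype_iff.2 hover
  have hG := isPBlock_principalBlock (M := M) (G := G)
  have hN := isPBlock_principalBlock (M := M) (G := N)
  constructor
  · intro h
    refine ho.mem_of_eB_mul_eq hG.isBlockUnion hN.isBlockUnion ?_ h
    refine (blk_top_eB hG).mul_eq_of_fixed (blk_EB hN) le_top
      (isFixed_iff_cjA.2 fun x _ => ?_) ((covers_iff hG.isBlockUnion hN.isBlockUnion).1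
        ⟨_, principalIrr_mem, _, principalIrr_mem, ?_⟩)
    · rw [← EB_conjSet (cj_normal x N), conjSet_eq (cj_normal x N), image_principalBlock]
    · exact (principalIrr N).2.classInner_self.trans_ne one_ne_zero
  · intro h
    have hB := isPBlock_blockOf (M := M) χ
    obtain ⟨χ', h1, h2⟩ := exists_over_of_covered hB hN
      (ho.eB_mul_EB hB.isBlockUnion hN.isBlockUnion (mem_blockOf_self χ) h) principalIrr_mem
    have h3 : N ≤ charKer (χ' : G → ℂ) := by
      refine χ'.2.le_charKer_of_omega_avgN fun h3 => over_subtype_iff.1 h2 ?_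
      rw [omega_apply, div_eq_zero_iff, or_iff_left χ'.2.apply_one_ne_zero, charExt_avgN] at h3
      exact (classInner_one_right _).trans h3
    have h4 : ¬ 2 ∣ charDegree (χ' : G → ℂ) := fun h4 =>
      (Nat.not_even_iff_odd.2 hidx) (even_iff_two_dvd.2 (h4.trans (χ'.2.degree_dvd_index
        (h3.trans (charKer_le_charCenter _)) (irr_cast_deg χ').symm)))
    have h5 := sameBlock_comp_pow (mem_blockOf.1 h1) hk
    simp only [hχ] at h5
    have h6 := mem_principalBlock_of_inv hM (χ := χ') (ψ := ⟨_, χ'.2.comp_pow hk⟩)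
      ((mem_blockOf.1 h1).symm.trans h5) h4 fun x hx => by
        simp only [hk₂ x (Nat.odd_iff.2 (Nat.two_dvd_ne_zero.1 hx))]
    exact hG.mem_of_sameBlock h6 (mem_blockOf.1 h1).symm

end Cfsg.Agent.S4520
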