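import Cfsg.Statements.S4521
import Cfsg.Agent.Lib.Block2.Num
import Cfsg.Agent.Lib.Char.Prod

set_option autoImplicit false
open Cfsg

namespace Cfsg.Agent.S4521

/-- Let the finite group G be generated by subgroups U₁ and U₂ that commute elementwise and whose intersection is a p-group, and let M be a maximal ideal of the algebraic integers containing the prime p. If the irreducible character χ of G has the irreducible constituents ψ₁ on U₁ and ψ₂ on U₂, then χ lies in the principal block of G if and only if ψ₁ and ψ₂ lie in the principal blocks of U₁ and U₂. -/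
theorem result {G : Type*} [Group G] [Fintype G] (p : ℕ) [Fact p.Prime] (M : Ideal Cfsg.AlgInt) (hM : Cfsg.IsPModular p M) (U₁ U₂ : Subgroup G) [Fintype U₁] [Fintype U₂] (hcomm : ∀ u ∈ U₁, ∀ v ∈ U₂, u * v = v * u) (hgen : U₁ ⊔ U₂ = ⊤) (hZ : IsPGroup p ↥(U₁ ⊓ U₂)) (χ : Cfsg.IrrCharacter G) (ψ₁ : Cfsg.IrrCharacter U₁) (ψ₂ : Cfsg.IrrCharacter U₂) (h₁ : Cfsg.classInner (fun u : U₁ => (χ : G → ℂ) u) (ψ₁ : U₁ → ℂ) ≠ 0) (h₂ : Cfsg.classInner (fun u : U₂ => (χ : G → ℂ) u) (ψ₂ : U₂ → ℂ) ≠ 0) : χ ∈ Cfsg.principalBlock M G ↔ (ψ₁ ∈ Cfsg.principalBlock M U₁ ∧ ψ₂ ∈ Cfsg.principalBlock M U₂) := by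
  open Cfsg.Lib Cfsg.Lib.Block Cfsg.Lib.Block2 Cfsg.Lib.Char Cfsg.Lib.Amalg in
  have := hM.2.1
  classical
  have hn : U₂ ≤ Subgroup.normalizer (U₁ : Set G) := fun v hv =>
    Subgroup.centralizer_le_normalizer _ fun u hu => hcomm u hu v hv
  have hAB : ∀ g : G, ∃ a ∈ U₁, ∃ b ∈ U₂, g = a * b := fun g => by
    obtain ⟨a, ha, b, hb, h⟩ := (mem_sup_of_le_normalizer' hn).1 (hgen ▸ Subgroup.mem_top g)
    exact ⟨a, ha, b, hb, h.symm⟩
  obtain ⟨φ₁, φ₂, hφ₁, hφ₂, h⟩ := χ.2.exists_mul_of_commute U₁ U₂ hcomm hAB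
  have e1 : φ₁ = ψ₁ := by
    refine hφ₁.eq_of_classInner_ne_zero ψ₁.2 fun h0 => h₁ ?_
    rw [show (fun u : U₁ => (χ : G → ℂ) u) = φ₂ 1 • φ₁ from funext fun u => by
      simpa [mul_comm] using h u 1, classInner_smul_left, h0, mul_zero]
  have e2 : φ₂ = ψ₂ := by
    refine hφ₂.eq_of_classInner_ne_zero ψ₂.2 fun h0 => h₂ ?_
    rw [show (fun u : U₂ => (χ : G → ℂ) u) = φ₁ 1 • φ₂ from funext fun u => by
      simpa using h 1 u, classInner_smul_left, h0, mul_zero]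
  rw [mem_principalBlock_iff_sum hM, mem_principalBlock_iff_sum hM, mem_principalBlock_iff_sum hM,
    ← mul_ne_zero_iff, ← e1, ← e2]
  simp only [← ite_not (p ∣ orderOf _), ← Finset.sum_filter]
  rw [Finset.sum_mul_sum, ← Finset.sum_product']
  refine not_congr (Eq.congr_left (Eq.symm ?_))
  refine Finset.sum_bij (fun x _ => (x.1 : G) * x.2) ?_ ?_ ?_ fun x _ => (h x.1 x.2).symm
  · intro x hx
    simp only [Finset.mem_product, Finset.mem_filter, Finset.mem_univ, true_and] at hx ⊢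
    intro h0
    have := h0.trans (Commute.orderOf_mul_dvd_mul_orderOf (hcomm _ x.1.2 _ x.2.2))
    rw [Subgroup.orderOf_coe, Subgroup.orderOf_coe] at this
    exact (hM.1.dvd_mul.1 this).elim hx.1 hx.2
  · rintro ⟨a, b⟩ hx ⟨c, d⟩ hy e
    simp only [Finset.mem_product, Finset.mem_filter, Finset.mem_univ, true_and] at hx hy e
    have h1 : (c : G)⁻¹ * a = d * (b : G)⁻¹ := by
      rw [inv_mul_eq_iff_eq_mul, ← mul_assoc, ← e, mul_inv_cancel_right]
    have h2 : (c : G)⁻¹ * a ∈ U₁ ⊓ U₂ := Subgroup.mem_inf.2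
      ⟨mul_mem (inv_mem c.2) a.2, h1 ▸ mul_mem d.2 (inv_mem b.2)⟩
    have h3 : IsPPart p ((c : G)⁻¹ * a * c) ((c : G)⁻¹ * a) := isPPart_mul
      (hcomm _ c.2 _ h2.2).symm (exists_orderOf_of_mem_isPGroup hM.1 hZ h2)
      (by rw [Subgroup.orderOf_coe]; exact hy.1)
    have h4 := (h3.eq_one_iff hM.1).2 (by
      have := (not_dvd_orderOf_conj_iff (p := p) (c : G)⁻¹ a).2
        (by rw [Subgroup.orderOf_coe]; exact hx.1)
      rwa [inv_inv] at this)
    have h5 : c = a := Subtype.ext (inv_mul_eq_one.1 h4)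
    subst h5
    rw [show b = d from Subtype.ext (mul_left_cancel e)]
  · intro g hg
    simp only [Finset.mem_filter, Finset.mem_univ, true_and] at hg
    obtain ⟨a, ha, b, hb, rfl⟩ := hAB g
    have h1 : ∀ {U : Subgroup G} (y : U), ¬ p ∣ orderOf
        (y ^ p ^ ((orderOf (a * b)).totient * (Nat.card G).factorization p)) := fun y h0 => by
      refine Nat.not_dvd_ordCompl hM.1 (Nat.card_pos (α := G)).ne' (h0.trans ?_)
      obtain ⟨t, ht⟩ : p ^ (Nat.card G).factorization p ∣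
          p ^ ((orderOf (a * b)).totient * (Nat.card G).factorization p) :=
        pow_dvd_pow _ (Nat.le_mul_of_pos_left _ (Nat.totient_pos.2 (orderOf_pos _)))
      rw [← Subgroup.orderOf_coe, orderOf_dvd_iff_pow_eq_one, Subgroup.coe_pow, ← pow_mul, ht,
        mul_right_comm, Nat.ordProj_mul_ordCompl_eq_self, pow_mul, pow_card_eq_one', one_pow]
    refine ⟨(⟨a, ha⟩ ^ _, ⟨b, hb⟩ ^ _), Finset.mem_product.2
      ⟨Finset.mem_filter.2 ⟨Finset.mem_univ _, h1 _⟩, Finset.mem_filter.2 ⟨Finset.mem_univ _, h1 _⟩⟩,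
      ?_⟩
    simp only [Subgroup.coe_pow]
    rw [← Commute.mul_pow (hcomm a ha b hb)]
    refine pow_eq_self_of_modEq_one dvd_rfl ?_
    rw [pow_mul]
    simpa using (Nat.ModEq.pow_totient ((Nat.Prime.coprime_iff_not_dvd hM.1).2 hg)).pow _

end Cfsg.Agent.S4521
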