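import Cfsg.Statements.S4523
import Cfsg.Agent.Lib.Block.RealAb

set_option autoImplicit false
open Cfsg

namespace Cfsg.Agent.S4523

open Cfsg.Lib Cfsg.Lib.Block Cfsg.Lib.Char Cfsg.Lib.Amalg Subgroup
set_option linter.style.haveILetI false

/-- Let S be a non-abelian finite simple group with commutative Sylow 2-subgroups and M a maximal ideal of the algebraic integers containing 2. Let k be a natural number with g ^ k = g for every 2-element g and g ^ k = g⁻¹ for every element g of odd order. Then S has an irreducible character χ₁ of even degree with χ₁ (g ^ k) = χ₁ g for all g, and its principal 2-block contains a character χ₂ other than the principal character with χ₂ (g ^ k) = χ₂ g for all g. -/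
theorem result {S : Type*} [Group S] [Finite S] [IsSimpleGroup S] (hna : ¬ IsMulCommutative S) (P : Sylow 2 S) (hP : IsMulCommutative P) (M : Ideal Cfsg.AlgInt) (hM : Cfsg.IsPModular 2 M) (k : ℕ) (hk₁ : ∀ g : S, (∃ j : ℕ, orderOf g = 2 ^ j) → g ^ k = g) (hk₂ : ∀ g : S, Odd (orderOf g) → g ^ k = g⁻¹) : (∃ χ₁ : Cfsg.IrrCharacter S, Even (Cfsg.charDegree (χ₁ : S → ℂ)) ∧ ∀ g : S, (χ₁ : S → ℂ) (g ^ k) = (χ₁ : S → ℂ) g) ∧ ∃ χ₂ ∈ Cfsg.principalBlock M S, (χ₂ : S → ℂ) ≠ (fun _ => 1) ∧ ∀ g : S, (χ₂ : S → ℂ) (g ^ k) = (χ₂ : S → ℂ) g := by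
  haveI := hM.2.1
  have e := pow_eq_inv_of_el (Wal.gd_of_comm hna (syl_top P) hP).el hk₁ hk₂
  have r : ∀ χ : IrrCharacter S, cjI χ = χ → ∀ g, χ.1 (g ^ k) = χ.1 g := fun χ h g => by
    rw [e, χ.2.isCharacter.apply_inv]; exact congrArg (·.1 g) h
  obtain ⟨χ, h1, h2, h3⟩ := exists_real_principal hM (FT.even_card_of_simple S fun h => hna ⟨⟨h⟩⟩)
  exact ⟨(exists_real_even_of_comm hM hna (syl_top P) hP).imp fun χ h => ⟨h.1, r χ h.2⟩, χ, h1, fun e => h2 (Subtype.ext e), r χ h3⟩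

end Cfsg.Agent.S4523
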