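import Cfsg.Statements.S4528
import Cfsg.Agent.Lib.Block2.Tame7

set_option autoImplicit false
open Cfsg

namespace Cfsg.Agent.S4528

open Cfsg.Lib Cfsg.Lib.Block Cfsg.Lib.Block2 Cfsg.Lib.Small


/-- Let B be a 2-block of the finite group G (relative to a maximal ideal M of the algebraic integers containing 2) whose defect group D is dihedral of order 2 ^ n with n ≥ 3. Then B contains exactly 2 ^ (n - 2) + 3 irreducible characters, its 2-regular rank (the number of irreducible Brauer characters) is between 1 and 3, exactly four of its members have height zero, and every member has height at most one. -/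
theorem result {G : Type*} [Group G] [Finite G] (M : Ideal Cfsg.AlgInt) (hM : Cfsg.IsPModular 2 M) (B : Set (Cfsg.IrrCharacter G)) (hB : Cfsg.IsPBlock M B) (D : Subgroup G) (hD : Cfsg.IsDefectGroup 2 M B D) (n : ℕ) (hn : 3 ≤ n) (hdih : Nonempty (D ≃* DihedralGroup (2 ^ (n - 1)))) : Nat.card B = 2 ^ (n - 2) + 3 ∧ 1 ≤ Cfsg.blockRank 2 B ∧ Cfsg.blockRank 2 B ≤ 3 ∧ Nat.card {χ : Cfsg.IrrCharacter G // χ ∈ B ∧ Cfsg.blockHeight 2 B (χ : G → ℂ) = 0} = 4 ∧ ∀ χ ∈ B, Cfsg.blockHeight 2 B (χ : G → ℂ) ≤ 1 := by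
  classical
  haveI := hM.2.1
  haveI := Fintype.ofFinite G
  obtain ⟨k, rfl⟩ : ∃ k, n = k + 2 := ⟨n - 2, by omega⟩
  obtain ⟨x, z, h, hd⟩ := Tame.mc_of_dihedral (k := k) hdih.some
  obtain ⟨ε, hm⟩ := (hD.defG_top hM hB).exists_maxP hM (blk_top_eB hB)
  obtain ⟨h1, h2⟩ := h.dih_count hM hB hm hd
  obtain ⟨w, v, t, H⟩ := Tame.exists_DH hM hB hD h hd
  refine ⟨h1, Nat.pos_of_ne_zero (blockRank_ne_zero hM hB), by omega, ?_, fun χ hχ => ?_⟩
  · rw [← H.four, ← Nat.card_eq_finsetCard]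
    exact Nat.card_congr (Equiv.subtypeEquivRight fun _ => Tame.mem_H0.symm)
  · by_cases e : blockHeight 2 B χ.1 = 0
    · omega
    · exact (H.ht χ (Tame.mem_H1.2 ⟨hχ, e⟩)).1.le

end Cfsg.Agent.S4528
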