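import Cfsg.Statements.S4531
import Cfsg.Agent.Lib.Block2.Tame12

set_option autoImplicit false
open Cfsg

namespace Cfsg.Agent.S4531

open Cfsg.Lib Cfsg.Lib.Block Cfsg.Lib.Block2 Cfsg.Lib.Small


/-- Let the finite group G have a 2-block B (relative to a maximal ideal M of the algebraic integers containing 2) of 2-regular rank three (three irreducible Brauer characters) whose defect group D is dihedral of order 2 ^ n with n ≥ 3 or semidihedral. Then the centre of G has odd order and G is not solvable. -/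
theorem result {G : Type*} [Group G] [Finite G] (M : Ideal Cfsg.AlgInt) (hM : Cfsg.IsPModular 2 M) (B : Set (Cfsg.IrrCharacter G)) (hB : Cfsg.IsPBlock M B) (D : Subgroup G) (hD : Cfsg.IsDefectGroup 2 M B D) (hD' : (∃ n : ℕ, 3 ≤ n ∧ Nonempty (D ≃* DihedralGroup (2 ^ (n - 1)))) ∨ Cfsg.IsQuasiDihedral D) (hl : Cfsg.blockRank 2 B = 3) : Odd (Nat.card (Subgroup.center G)) ∧ ¬ Group.IsSolvable G := by
  classical
  haveI := hM.2.1
  haveI := Fintype.ofFinite G
  have h : Tame.TM D := by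
    rcases hD' with ⟨n, hn, ⟨e⟩⟩ | hsd
    · obtain ⟨k, rfl⟩ : ∃ k, n = k + 1 + 1 + 1 := ⟨n - 3, by omega⟩
      obtain ⟨x, z, h, hd⟩ := Tame.mc_of_dihedral (k := k + 1) e
      exact ⟨x, z, k, h, .inl hd⟩
    · obtain ⟨x, y, z, k, h, hk, hy, h1, h2, h3⟩ := Tame.mc_of_quasi hsd
      obtain ⟨k, rfl⟩ : ∃ j, k = j + 1 := ⟨k - 1, by omega⟩
      exact ⟨x, z, k, h, .inr ⟨by omega, y, hy, h1, h2, h3⟩⟩
  exact ⟨h.odd hM hB hD hl, fun hs =>
    Tame.not_solvable hM _ rfl (Core.isPSolvable_of_isSolvable Nat.prime_two) hB hD h hl⟩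

end Cfsg.Agent.S4531
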