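import Cfsg.Statements.S4539
import Cfsg.Agent.Lib.Small.Lat

set_option autoImplicit false
open Cfsg

namespace Cfsg.Agent.S4539

open Cfsg.Lib.Small Cfsg.Lib.Char Cfsg.Lib.Block
open scoped ComplexConjugate

/-- totally nonnegative, nonzero algebraic integers -/
def TN (β : ℂ) : Prop := IsIntegral ℤ β ∧ β ≠ 0 ∧ ∀ σ : ℂ ≃+* ℂ, ∃ r : ℝ, 0 ≤ r ∧ σ β = r

theorem tn_one : TN 1 := ⟨isIntegral_one, one_ne_zero, fun σ => ⟨1, zero_le_one, by simp⟩⟩

theorem nn {x : ℂ} (h : x ∈ cyc) (σ : ℂ ≃+* ℂ) : ∃ r : ℝ, 0 ≤ r ∧ σ (x * conj x) = r :=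
  exists_nonneg_mul_conj (fun τ => map_conj_of_mem_cyc τ.toRingHom h) σ

theorem tn {x : ℂ} (h : x ∈ cyc) (h0 : x ≠ 0) : TN (x * conj x) :=
  ⟨isIntegral_of_mem_cyc (mul_mem h (conj_mem_cyc h)), mul_ne_zero h0 (by simpa), nn h⟩

def Ge (n : ℕ) (γ : ℂ) : Prop := ∃ (w : Fin 2 → ℕ) (β : Fin 2 → ℂ), n ≤ w 0 + w 1 ∧
  (∀ i, TN (β i)) ∧ ∀ σ : ℂ ≃+* ℂ, (σ (w 0 * β 0 + w 1 * β 1)).re ≤ (σ γ).re

theorem card_le {ι : Type*} (s : Finset ι) (n : ℕ) (γ : ι → ℂ) (h : ∀ i ∈ s, Ge n (γ i)) {N : ℕ}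
    (hN : ∑ i ∈ s, γ i = N) : s.card * n ≤ N := by
  choose! w β h1 h2 h3 using h
  have := sum_le_of_totally_nonneg (s ×ˢ Finset.univ) (fun i => w i.1 i.2) (fun i => β i.1 i.2)
    (fun i hi => (h2 _ (Finset.mem_product.1 hi).1 _).1)
    (fun i hi => (h2 _ (Finset.mem_product.1 hi).1 _).2.1)
    (fun σ i hi => (h2 _ (Finset.mem_product.1 hi).1 _).2.2 σ) (N := N) fun σ => by
      have := congrArg (fun z => (σ z).re) hN
      simp only [map_natCast, Complex.natCast_re, map_sum, Complex.re_sum] at this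
      simp only [Finset.sum_product, Fin.sum_univ_two, map_sum, Complex.re_sum, ← this]
      exact Finset.sum_le_sum fun i hi => h3 i hi σ
  rw [Finset.sum_product, Nat.cast_le] at this
  refine le_trans ?_ this
  rw [← smul_eq_mul, ← Finset.sum_const]
  exact Finset.sum_le_sum fun i hi => by simpa using h1 i hi

theorem ge_of {n w₀ w₁ w₂ : ℕ} {x y z : ℂ} (hx : TN x) (hy : TN y) (h : n ≤ w₀ + w₁)
    (hz : ∀ σ : ℂ ≃+* ℂ, ∃ r : ℝ, 0 ≤ r ∧ σ z = r) : Ge n (w₀ * x + w₁ * y + w₂ * z) :=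
  ⟨![w₀, w₁], ![x, y], h, fun i => by fin_cases i <;> assumption, fun σ => by
    obtain ⟨r, hr, e⟩ := hz σ
    rw [map_add σ _ (w₂ * z : ℂ), Complex.add_re, map_mul σ _ z, e, map_natCast]
    simpa using mul_nonneg w₂.cast_nonneg hr⟩

/-- Let B be a p-block of the finite group G (relative to a maximal ideal M of the algebraic integers containing p) of defect d with defect group D. Let z be an element of D commuting with every element of D, and let b be a block of the centralizer C of z with defect group D that induces B (a major subsection (z, b)). If b has p-regular rank at most two, then B contains at most p ^ d irreducible characters. -/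
theorem result {G : Type*} [Group G] [Finite G] (p : ℕ) [Fact p.Prime] (M : Ideal Cfsg.AlgInt) (hM : Cfsg.IsPModular p M) (B : Set (Cfsg.IrrCharacter G)) (hB : Cfsg.IsPBlock M B) (D : Subgroup G) (hD : Cfsg.IsDefectGroup p M B D) (z : G) (hzD : z ∈ D) (hzc : ∀ d ∈ D, d * z = z * d) (b : Set (Cfsg.IrrCharacter ↥(Subgroup.centralizer ({z} : Set G)))) (hb : Cfsg.IsInducedBlock M (Subgroup.centralizer ({z} : Set G)) b B) (hbD : Cfsg.IsDefectGroup p M b (D.subgroupOf (Subgroup.centralizer ({z} : Set G)))) (hl : Cfsg.blockRank p b ≤ 2) : Nat.card B ≤ p ^ Cfsg.blockDefect p B := by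
  classical
  haveI := hM.2.1
  haveI := Fintype.ofFinite G
  have hp : p.Prime := Fact.out
  obtain ⟨hz, hd⟩ := major_defect hM hD hzD hzc hb hbD
  obtain ⟨χ₁, h₁, h₁'⟩ := exists_blockHeight_eq_zero (p := p) hB.nonempty
  have hN : (p : ℂ) ^ blockDefect p b ≠ 0 := pow_ne_zero _ (Nat.cast_ne_zero.2 hp.ne_zero)
  have hs := sum_ctr_self hM rfl hz hb
  have hc := ctr_mem_cyc hM rfl hb
  have hnn : ∀ χ (σ : ℂ ≃+* ℂ), ∃ r : ℝ, 0 ≤ r ∧ σ (ctr p b z χ χ) = r := fun χ σ => by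
    choose r h1 h2 using fun ψ => nn (hc χ ψ) σ
    refine ⟨(∑ ψ with ψ ∈ B, r ψ) / p ^ blockDefect p b,
      div_nonneg (Finset.sum_nonneg fun _ _ => h1 _) (by positivity), ?_⟩
    have := congrArg σ (sum_ctr_mul hM rfl hz hb χ χ)
    simp only [conj_ctr] at h2
    simp only [map_sum, h2, map_mul σ (_ ^ _), map_pow, map_natCast] at this
    push_cast
    rw [this, mul_div_cancel_left₀ _ hN]
  have hne : ∀ χ ∈ B, ctr p b z χ χ ≠ 0 := fun χ hχ h => (ctr_major_ne hM rfl hz hb hd h₁ hχ h₁').1 (by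
    rw [ctr, mul_eq_zero, classInner_self_eq_zero] at h
    rw [ctr, h.resolve_left hN, classInner_zero_right, mul_zero])
  rw [card_block_eq, ← hd]
  rcases hl.lt_or_eq with hl | hl
  · have := card_le (Finset.univ.filter (· ∈ B)) 1 (fun χ => ctr p b z χ χ) (fun χ hχ => by
      simpa using ge_of (n := 1) (w₀ := 1) (w₁ := 0) (w₂ := 0)
        ⟨isIntegral_of_mem_cyc (hc χ χ), hne χ (by simpa using hχ), hnn χ⟩ tn_one le_rfl tn_one.2.2)
      (N := p ^ blockDefect p b * blockRank p b) (by rw [hs]; simp)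
    rw [mul_one] at this
    exact this.trans (mul_le_of_le_one_right' (by omega))
  obtain ⟨φ, α, β, γ, h1, e0, e1, e2, e3, h2, h3, h4, h5⟩ := exists_reduced hM hb.1 hl
  choose c h6 h7 using exists_fsub_coord rfl h1
  have h8 : ∀ χ ψ, ctr p b z χ ψ = α * (c χ 0 * conj (c ψ 0)) + γ * (c χ 1 * conj (c ψ 1)) +
      β * (c χ 0 * conj (c ψ 1) + c χ 1 * conj (c ψ 0)) := fun χ ψ => by
    simp only [ctr, h7, Fin.sum_univ_two, classInner_add_left, classInner_add_right,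
      classInner_smul_left, classInner_smul_right, ← e0, ← e3]
    linear_combination c χ 0 * conj (c ψ 1) * e1 + c χ 1 * conj (c ψ 0) * e2
  by_cases h9 : α = 1 ∧ ∃ χ ∈ B, blockHeight p B χ.1 = 0 ∧ c χ 1 = 0
  · obtain ⟨rfl, χ, hχ, h10, h11⟩ := h9
    obtain rfl : β = 0 := by omega
    have h12 : ∀ ψ, ctr p b z χ ψ = c χ 0 * conj (c ψ 0) := fun ψ => by simp [h8, h11]
    have := card_le (Finset.univ.filter (· ∈ B)) 1 (fun ψ => c ψ 0 * conj (c ψ 0)) (fun ψ hψ => by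
      simpa using ge_of (n := 1) (w₀ := 1) (w₁ := 0) (w₂ := 0) (tn (h6 ψ 0) fun h =>
        (ctr_major_ne hM rfl hz hb hd hχ (by simpa using hψ) h10).1 (by simp [h12, h]))
        tn_one le_rfl tn_one.2.2) (N := p ^ blockDefect p b) (by
      apply mul_left_cancel₀ (hne χ hχ)
      rw [Nat.cast_pow, mul_comm _ (_ ^ _), ← sum_ctr_mul hM rfl hz hb, Finset.mul_sum]
      refine Finset.sum_congr rfl fun ψ _ => ?_
      rw [← conj_ctr χ ψ, h12, h12, map_mul, Complex.conj_conj]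
      ring)
    rwa [mul_one] at this
  have := card_le (Finset.univ.filter (· ∈ B)) 2 (fun χ => ctr p b z χ χ) (fun χ hχ => ?_)
    (N := p ^ blockDefect p b * 2) (by rw [hs, hl]; simp)
  · omega
  have hχ : χ ∈ B := by simpa using hχ
  by_cases hy : c χ 1 = 0
  · rcases (show α = 1 ∨ 2 ≤ α by omega) with h | h
    · have h10 : blockHeight p B χ.1 ≠ 0 := fun h0 => h9 ⟨h, χ, hχ, h0, hy⟩
      have hp0 : (p : ℂ) ≠ 0 := Nat.cast_ne_zero.2 hp.ne_zero
      have := ge_of (n := 2) (w₀ := p) (w₁ := 0) (w₂ := 0) (x := ctr p b z χ χ / p)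
        ⟨?_, div_ne_zero (hne χ hχ) hp0, fun σ => ?_⟩ tn_one hp.two_le tn_one.2.2
      · simpa [mul_div_cancel₀ _ hp0] using this
      · obtain ⟨k, hk⟩ := Nat.exists_eq_succ_of_ne_zero h10
        have := (ctr_major hM rfl hz hb hd hχ hχ).1.mul ((isIntegral_natCast (B := ℂ) p).pow k)
        rwa [hk, pow_succ, div_mul_eq_mul_div, mul_comm _ (_ ^ k), mul_div_mul_left _ _
          (pow_ne_zero _ hp0)] at this
      · obtain ⟨r, hr, e⟩ := hnn χ σ
        exact ⟨r / p, by positivity, by simp [e]⟩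
    · have h10 : c χ 0 ≠ 0 := fun h0 => hne χ hχ (by simp [h8, h0, hy])
      simpa [h8, hy] using ge_of (n := 2) (w₁ := 0) (w₂ := 0) (tn (h6 χ 0) h10) tn_one h tn_one.2.2
  have h10 : 2 ≤ γ := by have := hp.two_le; omega
  by_cases hx : c χ 0 = 0
  · simpa [h8, hx] using ge_of (n := 2) (w₁ := 0) (w₂ := 0) (tn (h6 χ 1) hy) tn_one h10 tn_one.2.2
  have := ge_of (n := 2) (w₀ := α - β) (w₁ := γ - β) (w₂ := β) (tn (h6 χ 0) hx) (tn (h6 χ 1) hy)
    (by omega) (nn (add_mem (h6 χ 0) (h6 χ 1)))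
  convert this using 1
  rw [h8, Nat.cast_sub (by omega), Nat.cast_sub (by omega), map_add]
  ring

end Cfsg.Agent.S4539
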