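import Cfsg.Statements.S4540
import Cfsg.Agent.Lib.Small.TwoAvg

set_option autoImplicit false
open Cfsg

namespace Cfsg.Agent.S4540

open Cfsg.Lib.Small Cfsg.Lib.Char Cfsg.Lib.Block

theorem pos_of_mul_pos_of_pos_left' {n : ℕ} {y : ℤ} (h : 0 < 2 ^ n * y) : 0 < y :=
  (mul_pos_iff_of_pos_left (by positivity)).1 h

/-- Let B be a 2-block of the finite group G (relative to a maximal ideal M of the algebraic integers containing 2) of defect d with defect group D. Let z be an element of D commuting with every element of D, and let b be a block of the centralizer C of z with defect group D that induces B (a major subsection (z, b)). If b has 2-regular rank at most three, then 3·k(B) ≤ 3·k₀(B) + 2·Σ 2 ^ h(χ), where k(B) is the number of members of B, k₀(B) the number of members of height zero, and the sum runs over the members χ of B of positive height h(χ); this bound is at most 3·2 ^ d, so in particular B contains at most 2 ^ d irreducible characters.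 -/
theorem result {G : Type*} [Group G] [Finite G] (M : Ideal Cfsg.AlgInt) (hM : Cfsg.IsPModular 2 M) (B : Set (Cfsg.IrrCharacter G)) (hB : Cfsg.IsPBlock M B) (D : Subgroup G) (hD : Cfsg.IsDefectGroup 2 M B D) (z : G) (hzD : z ∈ D) (hzc : ∀ d ∈ D, d * z = z * d) (b : Set (Cfsg.IrrCharacter ↥(Subgroup.centralizer ({z} : Set G)))) (hb : Cfsg.IsInducedBlock M (Subgroup.centralizer ({z} : Set G)) b B) (hbD : Cfsg.IsDefectGroup 2 M b (D.subgroupOf (Subgroup.centralizer ({z} : Set G)))) (hl : Cfsg.blockRank 2 b ≤ 3) : 3 * Nat.card B ≤ 3 * Nat.card {χ : Cfsg.IrrCharacter G // χ ∈ B ∧ Cfsg.blockHeight 2 B (χ : G → ℂ) = 0} + 2 * (∑ᶠ χ ∈ {χ : Cfsg.IrrCharacter G | χ ∈ B ∧ 1 ≤ Cfsg.blockHeight 2 B (χ : G → ℂ)}, 2 ^ Cfsg.blockHeight 2 B (χ : G → ℂ)) ∧ 3 * Nat.card {χ : Cfsg.IrrCharacter G // χ ∈ B ∧ Cfsg.blockHeight 2 B (χ : G → ℂ) = 0} + 2 * (∑ᶠ χ ∈ {χ : Cfsg.IrrCharacter G | χ ∈ B ∧ 1 ≤ Cfsg.blockHeight 2 B (χ : G → ℂ)}, 2 ^ Cfsg.blockHeight 2 B (χ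 : G → ℂ)) ≤ 3 * 2 ^ Cfsg.blockDefect 2 B := by
  classical
  haveI := hM.2.1
  haveI := Fintype.ofFinite G
  obtain ⟨hz, hd⟩ := major_defect hM hD hzD hzc hb hbD
  obtain ⟨y, h1, h2, h3, -, h4⟩ := exists_two_avg hM rfl hz hb
  have hk : 3 * Nat.card {χ : IrrCharacter G // χ ∈ B ∧ blockHeight 2 B χ.1 = 0} +
      2 * (∑ᶠ χ ∈ {χ : IrrCharacter G | χ ∈ B ∧ 1 ≤ blockHeight 2 B χ.1}, 2 ^ blockHeight 2 B χ.1) =
      ∑ χ with χ ∈ B, if blockHeight 2 B χ.1 = 0 then 3 else 2 ^ (blockHeight 2 B χ.1 + 1) := by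
    rw [Nat.card_eq_fintype_card, Fintype.card_subtype, Finset.sum_ite, Finset.filter_filter,
      Finset.filter_filter, Finset.sum_const, smul_eq_mul, mul_comm, finsum_mem_eq_toFinset_sum,
      Finset.mul_sum]
    congr 1
    exact Finset.sum_congr (by ext; simp [Nat.one_le_iff_ne_zero]) fun _ _ => (pow_succ' _ _).symm
  rw [hk, card_block_eq]
  rw [hd] at h1 h3
  refine ⟨?_, ?_⟩
  · rw [mul_comm, ← smul_eq_mul, ← Finset.sum_const]
    refine Finset.sum_le_sum fun χ _ => ?_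
    split_ifs with h
    · rfl
    · exact le_trans (by norm_num) (Nat.pow_le_pow_right two_pos (show 2 ≤ _ by omega))
  by_cases h : ∃ χ ∈ B, blockHeight 2 B χ.1 = 0 ∧ y χ = 1
  · obtain ⟨χ, hχ, h0, h5⟩ := h
    have := h3 χ _ subset_rfl (fun ψ => 2 ^ blockHeight 2 B ψ.1) fun ψ hψ => by
      have hψ := (Finset.mem_filter.1 hψ).2
      exact ⟨by simpa using (ctr_major hM rfl hz hb hd hχ hψ).1,
        (ctr_major_ne hM rfl hz hb hd hχ hψ h0).1, by positivity⟩
    rw [h5, mul_one] at this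
    refine le_trans ?_ (Nat.mul_le_mul_left 3 (by exact_mod_cast this))
    rw [Finset.mul_sum]
    refine Finset.sum_le_sum fun χ _ => ?_
    split_ifs with h
    · simp [h]
    · have : 1 ≤ 2 ^ blockHeight 2 B χ.1 := Nat.one_le_two_pow
      rw [pow_succ]; nlinarith
  · push Not at h
    obtain ⟨χ₁, h₁, h₁'⟩ := exists_blockHeight_eq_zero (p := 2) hB.nonempty
    have h5 : ∀ χ ∈ B, 0 < y χ := fun χ hχ => by
      have := h3 χ {χ₁} (by simpa using h₁) (fun _ => 1) fun ψ hψ => by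
        rw [Finset.mem_singleton.1 hψ]
        exact ⟨by simpa using isIntegral_of_mem_cyc (ctr_mem_cyc hM rfl hb _ _),
          (ctr_major_ne hM rfl hz hb hd h₁ hχ h₁').2, one_ne_zero⟩
      exact pos_of_mul_pos_of_pos_left' (lt_of_lt_of_le (by simp) this)
    have h6 : ((∑ χ with χ ∈ B, if blockHeight 2 B χ.1 = 0 then 3 else
        2 ^ (blockHeight 2 B χ.1 + 1) : ℕ) : ℤ) ≤ ∑ χ with χ ∈ B, y χ := by
      push_cast
      refine Finset.sum_le_sum fun χ hχ => ?_
      have hχ := (Finset.mem_filter.1 hχ).2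
      split_ifs with h0
      · obtain ⟨c, hc⟩ := h2 χ hχ h0
        have := h χ hχ h0
        have := h5 χ hχ
        omega
      · exact Int.le_of_dvd (h5 χ hχ) (h4 hd χ hχ h0)
    rw [h1] at h6
    have h7 : (2 : ℤ) ^ blockDefect 2 B * blockRank 2 b ≤ 3 * 2 ^ blockDefect 2 B := by
      rw [mul_comm]; gcongr; exact_mod_cast hl
    exact_mod_cast h6.trans h7

end Cfsg.Agent.S4540
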