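import Cfsg.Statements.S4541
import Cfsg.Agent.Lib.Small.TwoAvg

set_option autoImplicit false
open Cfsg

namespace Cfsg.Agent.S4541

open Cfsg.Lib.Small Cfsg.Lib.Char Cfsg.Lib.Block

theorem aux {k q l x : ℤ} {s : ℕ} (hq : 0 ≤ q) (hk : 0 ≤ k) (hx : Odd x) (h1 : k ≤ q * x)
    (h2 : k * x ≤ q * l) (h3 : s * s ≤ l) (h4 : l < (s + 1) * (s + 1)) :
    (Odd s → k ≤ s * q) ∧ (¬ Odd s → (s + 1) * k ≤ l * q) := by
  obtain ⟨c, rfl⟩ := hx
  refine ⟨fun ⟨r, hr⟩ => ?_, fun hs => ?_⟩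
  · have hr' : (s : ℤ) = 2 * r + 1 := by exact_mod_cast hr
    rcases le_or_gt c r with h | h
    · nlinarith
    · have : k * (s + 2) ≤ (s * q) * (s + 2) := by nlinarith
      exact le_of_mul_le_mul_right this (by positivity)
  · obtain ⟨r, hr⟩ := Nat.not_odd_iff_even.1 hs
    have hr' : (s : ℤ) = r + r := by exact_mod_cast hr
    rcases le_or_gt (r : ℤ) c with h | h
    · nlinarith
    · have : k ≤ q * (s - 1) := by nlinarith
      nlinarith

/-- Let B be a 2-block of the finite group G (relative to a maximal ideal M of the algebraic integers containing 2), u a 2-element, and b a block of the centralizer of u inducing B (a subsection (u, b)), of defect q and 2-regular rank l; write s for the integer square root of l and k₀(B) for the number of members of B of height zero. If s is odd then k₀(B) ≤ s·2 ^ q, and otherwise (s + 1)·k₀(B) ≤ l·2 ^ q; in particular k₀(B) ≤ 2 ^ q when l ≤ 3. -/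
theorem result {G : Type*} [Group G] [Finite G] (M : Ideal Cfsg.AlgInt) (hM : Cfsg.IsPModular 2 M) (B : Set (Cfsg.IrrCharacter G)) (hB : Cfsg.IsPBlock M B) (u : G) (hu : ∃ j : ℕ, orderOf u = 2 ^ j) (b : Set (Cfsg.IrrCharacter ↥(Subgroup.centralizer ({u} : Set G)))) (hb : Cfsg.IsInducedBlock M (Subgroup.centralizer ({u} : Set G)) b B) : (Odd (Nat.sqrt (Cfsg.blockRank 2 b)) → Nat.card {χ : Cfsg.IrrCharacter G // χ ∈ B ∧ Cfsg.blockHeight 2 B (χ : G → ℂ) = 0} ≤ Nat.sqrt (Cfsg.blockRank 2 b) * 2 ^ Cfsg.blockDefect 2 b) ∧ (¬ Odd (Nat.sqrt (Cfsg.blockRank 2 b)) → (Nat.sqrt (Cfsg.blockRank 2 b) + 1) * Nat.card {χ : Cfsg.IrrCharacter G // χ ∈ B ∧ Cfsg.blockHeight 2 B (χ : G → ℂ) = 0} ≤ Cfsg.blockRank 2 b * 2 ^ Cfsg.blockDefect 2 b) ∧ (Cfsg.blockRank 2 b ≤ 3 → Nat.card {χ : Cfsg.IrrCharacter G // χ ∈ B ∧ Cfsg.blockHeight 2 B (χ : G → ℂ) = 0} ≤ 2 ^ Cfsg.blockDefect 2 b) := by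
  classical
  haveI := hM.2.1
  haveI := Fintype.ofFinite G
  obtain ⟨y, h1, h2, h3, -⟩ := exists_two_avg hM rfl hu hb
  set t := Finset.univ.filter fun χ : IrrCharacter G => χ ∈ B ∧ blockHeight 2 B χ.1 = 0
  have ht : t ⊆ Finset.univ.filter (· ∈ B) := fun χ => by simp +contextual [t]
  have hk : Nat.card {χ : IrrCharacter G // χ ∈ B ∧ blockHeight 2 B χ.1 = 0} = t.card := by
    rw [Nat.card_eq_fintype_card, Fintype.card_subtype]
  obtain ⟨χ₁, h₁⟩ := exists_blockHeight_eq_zero (p := 2) hB.nonempty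
  obtain ⟨χ, hχ, hmin⟩ := t.exists_min_image y ⟨χ₁, by simpa [t] using h₁⟩
  simp only [t, Finset.mem_filter, Finset.mem_univ, true_and] at hχ
  have h4 := h3 χ t ht (fun _ => 1) fun ψ hψ => by
    simp only [t, Finset.mem_filter, Finset.mem_univ, true_and] at hψ
    exact ⟨by simpa using isIntegral_of_mem_cyc (ctr_mem_cyc hM rfl hb _ _),
      ne_zero_of_not_memLocalIdeal (ctr_notMem hM rfl hu hb hχ.1 hψ.1 hχ.2 hψ.2), one_ne_zero⟩
  have h5 : t.card * y χ ≤ 2 ^ blockDefect 2 b * blockRank 2 b := by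
    rw [← h1, ← nsmul_eq_mul, ← Finset.sum_const]
    refine (Finset.sum_le_sum hmin).trans (Finset.sum_le_sum_of_subset_of_nonneg ht fun ψ _ _ => ?_)
    simpa using h3 ψ ∅ (Finset.empty_subset _) (fun _ => 1) (by simp)
  simp only [one_pow, Finset.sum_const, smul_eq_mul, mul_one] at h4
  obtain ⟨h6, h7⟩ := aux (s := (blockRank 2 b).sqrt) (by positivity) (by positivity)
    (h2 χ hχ.1 hχ.2) h4 h5 (by exact_mod_cast Nat.sqrt_le _) (by exact_mod_cast Nat.lt_succ_sqrt _)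
  rw [hk]
  refine ⟨fun h => by exact_mod_cast h6 h, fun h => by exact_mod_cast h7 h, fun h => ?_⟩
  generalize blockRank 2 b = l at *
  interval_cases l
  · have := h7 (by simp)
    simp only [Nat.sqrt_zero, Nat.cast_zero, zero_add, one_mul, zero_mul] at this
    exact le_trans (by exact_mod_cast this) (Nat.zero_le _)
  all_goals
    have := h6 (by norm_num [Nat.sqrt])
    norm_num [Nat.sqrt] at this
    exact_mod_cast this

end Cfsg.Agent.S4541
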