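import Cfsg.Statements.S4550
import Cfsg.Agent.Lib.Clifford.Pw

set_option autoImplicit false
open Cfsg

namespace Cfsg.Agent.S4550

open Cfsg.Lib Cfsg.Lib.Clifford Cfsg.Lib.Char Finset

/-- Let G be a finite group of even order and M a maximal ideal of the algebraic integers containing 2. Let k be a natural number with g ^ k = g ^ 3 for every 2-element g and g ^ k = g for every element g of odd order (such k exist); an irreducible character χ is unchanged by g ↦ g ^ k exactly when it is fixed by the field automorphism that cubes the 2-power roots of unity and fixes the roots of unity of odd order. Then the number of members χ of the principal 2-block of odd degree with χ (g ^ k) = χ g for all g is even. -/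
theorem result {G : Type*} [Group G] [Finite G] (M : Ideal Cfsg.AlgInt) (hM : Cfsg.IsPModular 2 M) (hev : Even (Nat.card G)) (k : ℕ) (hk₁ : ∀ g : G, (∃ j : ℕ, orderOf g = 2 ^ j) → g ^ k = g ^ 3) (hk₂ : ∀ g : G, Odd (orderOf g) → g ^ k = g) : Even (Nat.card {χ : Cfsg.IrrCharacter G // χ ∈ Cfsg.principalBlock M G ∧ Odd (Cfsg.charDegree (χ : G → ℂ)) ∧ ∀ g : G, (χ : G → ℂ) (g ^ k) = (χ : G → ℂ) g}) := by
---
  classical
  have := hM.2.1
  have := Fact.mk Nat.prime_two
  obtain ⟨e, h⟩ := exists_pow_pow_eq (k := k) Nat.prime_two hk₁ fun g hg =>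
    hk₂ g (Nat.not_even_iff_odd.1 (even_iff_two_dvd.not.2 hg))
  have hk := coprime_of_pow_pow (pow_ne_zero e two_ne_zero) h
  simp only [mem_principalBlock_iff_B0 hM]
  rw [card_irr_filter fun φ : G → ℂ => φ ∈ B0 2 ⊤ ∧ Odd (charDegree φ) ∧ ∀ g, φ (g ^ k) = φ g]
  have h1 := card_modEq_filter_pw h (s := (B0 2 ⊤).filter fun φ => Odd (charDegree φ)) fun φ hφ => by
    obtain ⟨a, b⟩ := mem_filter.1 hφ
    obtain ⟨a1, a2⟩ := mem_B0.1 a
    exact mem_filter.2 ⟨mem_B0.2 ⟨pw_mem_Irr a1 hk, by rwa [regSum_pw hk]⟩, by rwa [charDegree_pw]⟩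
  have h2 := dvd_sum_B0_sq (p := 2) (K := (⊤ : Subgroup G))
    (by rw [Subgroup.card_top]; exact even_iff_two_dvd.1 hev)
  rw [← even_iff_two_dvd, even_sum_iff_even_card_odd] at h2
  simp only [Nat.odd_pow_iff two_ne_zero] at h2
  rw [even_iff_two_dvd] at h2 ⊢
  refine ((h1.dvd_iff dvd_rfl).1 h2).trans (dvd_of_eq (congrArg _ ?_))
  ext φ
  simp only [mem_filter, funext_iff, pw_apply, and_assoc]
  exact (and_iff_right_of_imp fun a => B0_subset a.1).symm

end Cfsg.Agent.S4550
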