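import Cfsg.Statements.S4551
import Cfsg.Agent.Lib.Block2.Dade

set_option autoImplicit false
open Cfsg

namespace Cfsg.Agent.S4551

/-- Let N be a normal subgroup of the finite group G of index prime to p, P a Sylow p-subgroup of G with G = N·C_G(P), and M a maximal ideal of the algebraic integers containing p. Then restriction to N is a bijection from the principal p-block of G onto the principal p-block of N: every member of the principal block of G restricts to a member of the principal block of N, and every member of the principal block of N is the restriction of exactly one member of the principal block of G. -/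
theorem result {G : Type*} [Group G] [Finite G] (p : ℕ) [Fact p.Prime] (M : Ideal Cfsg.AlgInt) (hM : Cfsg.IsPModular p M) (N : Subgroup G) [N.Normal] (hidx : ¬ p ∣ N.index) (P : Sylow p G) (hsup : N ⊔ Subgroup.centralizer ((P : Subgroup G) : Set G) = ⊤) : (∀ χ ∈ Cfsg.principalBlock M G, ∃ θ ∈ Cfsg.principalBlock M ↥N, ∀ n : N, (χ : G → ℂ) n = (θ : N → ℂ) n) ∧ ∀ θ ∈ Cfsg.principalBlock M ↥N, ∃! χ : Cfsg.IrrCharacter G, χ ∈ Cfsg.principalBlock M G ∧ ∀ n : N, (χ : G → ℂ) n = (θ : N → ℂ) n := by
  open Cfsg.Lib Cfsg.Lib.Block Cfsg.Lib.Block2 Cfsg.Lib.Char Cfsg.Lib.Amalg in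
  have := hM.2.1
  have hP := syl_top P
  have hle : (P : Subgroup G) ≤ N := by
    have h1 := hP.inf_normal_top N
    exact inf_eq_left.1 ((h1.of_le_of_not_dvd le_top (by rwa [Subgroup.relIndex_top_right])).eq_of_le
      _ inf_le_left le_top hP.isPGroup).symm
  have key : ∀ θ ∈ principalBlock M N, ∃ χ ∈ principalBlock M G, ∀ n : N, χ.1 n = θ.1 n :=
    fun θ hθ => by
    obtain ⟨ψ, h1, h2⟩ := exists_ext_of_principal hM (hP.of_le hle le_top) hsup hidx hθ
    obtain ⟨χ, h3, h4, -⟩ := exists_principal_ext hM (hP.of_le hle le_top) hsup hθ h1 h2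
    exact ⟨χ, h3, h4⟩
  refine ⟨fun χ hχ => ?_, fun θ hθ => ?_⟩
  · obtain ⟨θ, hθ, ho⟩ := exists_over_of_cover isPBlock_principalBlock isPBlock_principalBlock
      ((over_of_res (θ := principalIrr N) (χ := (principalIrr G).1) fun _ => rfl).eB_mul_EB
        isPBlock_principalBlock.isBlockUnion isPBlock_principalBlock.isBlockUnion
        principalIrr_mem principalIrr_mem) hχ
    obtain ⟨χ', h1, h2⟩ := key θ hθ
    exact ⟨θ, hθ, eq_of_principal_over hM hP hsup hidx h1 hχ h2 ho ▸ h2⟩
  · obtain ⟨χ, h1, h2⟩ := key θ hθ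
    exact ⟨χ, ⟨h1, h2⟩, fun χ' h => eq_of_principal_over hM hP hsup hidx h1 h.1 h2 (over_of_res h.2)⟩

end Cfsg.Agent.S4551
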