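import Cfsg.Statements.S4552
import Cfsg.Agent.Lib.Small.Glue2

set_option autoImplicit false
open Cfsg

namespace Cfsg.Agent.S4552

open Cfsg.Lib Cfsg.Lib.Block Cfsg.Lib.Block2 Cfsg.Lib.Char Cfsg.Lib.Amalg Cfsg.Lib.Small Subgroup

theorem eq_one {A : Type*} [CommGroup A] [Finite A] (hA : IsPGroup 2 A) {α : MulAut A} {n : ℕ} (hn : Odd n)
    (h1 : α ^ n = 1) (h2 : ∀ z, z ^ 2 = 1 → α z = z) : α = 1 := by
  have : ∀ k x, x ^ 2 ^ k = 1 → α x = x := fun k => by
    induction k with
    | zero => intro x hx; simp at hx; simp [hx]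
    | succ k ih =>
      intro x hx
      have h3 : (α x * x⁻¹) ^ 2 = 1 := by
        rw [mul_pow, ← map_pow, ih (x ^ 2) (by rwa [← pow_mul, ← pow_succ']), inv_pow, mul_inv_cancel]
      have h4 : ∀ j, (α ^ j) x = (α x * x⁻¹) ^ j * x := fun j => by
        induction j with
        | zero => simp
        | succ j ih => rw [pow_succ', MulAut.mul_apply, ih, map_mul, map_pow, h2 _ h3, pow_succ,
            mul_assoc, inv_mul_cancel_right]
      have h5 := h4 n
      obtain ⟨j, rfl⟩ := hn
      rw [h1, pow_succ, pow_mul, h3, one_pow, one_mul, inv_mul_cancel_right] at h5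
      exact h5.symm
  exact MulEquiv.ext fun x => (hA x).elim fun k => this k x

theorem free {A : Type*} [CommGroup A] [Fintype A] (hA : IsPGroup 2 A) {E : Subgroup (MulAut A)}
    (hE : ¬ 2 ∣ Nat.card E) (h4 : Nat.card (powMonoidHom 2 : A →* A).ker = 4) : Nat.card E ∣ 3 ∧ Free E := by
  have ho : Odd (Nat.card E) := by rwa [← Nat.not_even_iff_odd, even_iff_two_dvd]
  have h1 : ∀ α ∈ E, (∀ z, z ^ 2 = 1 → α z = z) → α = 1 := fun α hα =>
    eq_one hA ho (congrArg Subtype.val (pow_card_eq_one' (x := (⟨α, hα⟩ : E))))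
  let f : E →* Equiv.Perm (powMonoidHom 2 : A →* A).ker :=
    ⟨⟨fun α => Equiv.Perm.subtypePerm α.1.toEquiv fun x => by
      simp [MonoidHom.mem_ker, ← map_pow], rfl⟩, fun _ _ => rfl⟩
  have h2 := card_dvd_of_injective f ((injective_iff_map_eq_one f).2 fun α h => Subtype.ext
    (h1 _ α.2 fun z hz => congrArg Subtype.val (DFunLike.congr_fun h (⟨z, hz⟩ : (powMonoidHom 2 : A →* A).ker))))
  rw [Nat.card_perm, h4] at h2
  have h3 := (((Nat.prime_two.coprime_iff_not_dvd.2 hE).symm.pow_right 3).dvd_mul_left (n := 3)).1 h2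
  refine ⟨h3, fun α hα u hu e => h1 α hα fun w hw => by_contra fun a => ?_⟩
  haveI : IsKleinFour (powMonoidHom 2 : A →* A).ker := ⟨h4, by
    haveI := Finite.one_lt_card_iff_nontrivial.1 (h4 ▸ (by norm_num : 1 < 4))
    exact (Monoid.exponent_eq_prime_iff Nat.prime_two).2 fun g hg =>
      orderOf_eq_prime (Subtype.ext g.2) hg⟩
  obtain ⟨z, h5, h6⟩ : ∃ z ∈ zpowers u, orderOf z = 2 := by
    obtain ⟨z, hz⟩ := exists_prime_orderOf_dvd_card' 2
      (dvd_card_of_isPGroup_ne_bot (hA.to_subgroup (zpowers u)) (by simpa using hu))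
    exact ⟨z, z.2, (orderOf_coe z).trans hz⟩
  have h7 : α z = z := by obtain ⟨k, rfl⟩ := h5; rw [map_zpow, e]
  have h8 : z ^ 2 = 1 := h6 ▸ pow_orderOf_eq_one z
  have h9 : α w = z * w := congrArg Subtype.val (IsKleinFour.eq_mul_of_ne_all
    (G := (powMonoidHom 2 : A →* A).ker) (x := ⟨z, h8⟩) (y := ⟨w, hw⟩) (z := f ⟨α, hα⟩ ⟨w, hw⟩)
    (fun b => by simp [show z = 1 from congrArg Subtype.val b] at h6)
    (fun b => a (by simp [show w = 1 from congrArg Subtype.val b]))
    (fun b => a ((show z = w from congrArg Subtype.val b) ▸ h7))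
    (fun b => a (by simp [show w = 1 from (map_eq_one_iff α α.injective).1 (congrArg Subtype.val b)]))
    (fun b => a ((show z = w from α.injective (h7.trans (congrArg Subtype.val b).symm)) ▸ h7))
    fun b => a (congrArg Subtype.val b))
  have h10 : α ^ 3 = 1 := congrArg Subtype.val
    (orderOf_dvd_iff_pow_eq_one.1 ((_root_.orderOf_dvd_natCard (⟨α, hα⟩ : E)).trans h3))
  have h11 : α (α (α w)) = w := DFunLike.congr_fun h10 w
  rw [h9, map_mul, h7, h9, ← mul_assoc, ← sq, h8, one_mul] at h11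
  exact a h11

/-- Let B be a 2-block of the finite group G (relative to a maximal ideal M of the algebraic integers containing 2) whose defect group D is the direct product of two cyclic groups of the same order 2 ^ m, m ≥ 2. Then either B has 2-regular rank one and exactly 4 ^ m irreducible characters, or B has 2-regular rank three and exactly (4 ^ m + 8) / 3 irreducible characters. -/
theorem result {G : Type*} [Group G] [Finite G] (M : Ideal Cfsg.AlgInt) (hM : Cfsg.IsPModular 2 M) (B : Set (Cfsg.IrrCharacter G)) (hB : Cfsg.IsPBlock M B) (D : Subgroup G) (hD : Cfsg.IsDefectGroup 2 M B D) (m : ℕ) (hm : 2 ≤ m) (hiso : Nonempty (D ≃* Multiplicative (ZMod (2 ^ m) × ZMod (2 ^ m)))) : (Cfsg.blockRank 2 B = 1 ∧ Nat.card B = 4 ^ m) ∨ (Cfsg.blockRank 2 B = 3 ∧ 3 * Nat.card B = 4 ^ m + 8) := by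
  have := hM.2.1
  obtain ⟨B, rfl⟩ := (Set.toFinite B).exists_finset_coe
  obtain ⟨ε, h⟩ := (hD.defG_top hM hB).exists_maxP hM (blk_top_eB hB)
  obtain ⟨j⟩ := hiso
  haveI := Fintype.ofFinite D
  have ab : ∀ u v : D, u * v = v * u := fun u v => j.injective (by rw [map_mul, mul_comm, map_mul])
  have hP : D ≤ 𝐂 D := fun x hx y hy => congrArg Subtype.val (ab ⟨y, hy⟩ ⟨x, hx⟩)
  have h1 : Nat.card D = 4 ^ m := by
    rw [Nat.card_congr (j.toEquiv.trans Multiplicative.toAdd), Nat.card_prod, Nat.card_zmod, ← mul_pow]; rfl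
  letI : CommGroup D := { (inferInstance : Group D) with mul_comm := ab }
  obtain ⟨h2, h3⟩ := free (E := inE D ε) h.bp.isPGroup (by
    simpa only [card_inE, top_inf_eq, sup_eq_right.2 hP] using h.not_dvd hM) (by
      have := IsAddCyclic.card_nsmulAddMonoidHom_ker (ZMod (2 ^ m)) 2
      rw [Nat.card_zmod, Nat.gcd_eq_right (dvd_pow_self 2 (by omega))] at this
      refine (Nat.card_congr (((j.toEquiv.trans Multiplicative.toAdd).subtypeEquiv fun x => ?_).trans
        Equiv.subtypeProdEquivProd)).trans ((Nat.card_prod _ _).trans (congrArg₂ (· * ·) this this))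
      rw [MonoidHom.mem_ker, powMonoidHom_apply, ← map_eq_one_iff j j.injective, map_pow]
      exact Prod.ext_iff)
  obtain ⟨t, h4, h5, -, h6⟩ := frob_count hM hB h (fun e => by
    rw [e, card_bot] at h1
    exact (Nat.one_lt_pow (by omega) (by norm_num)).ne h1) hP h3
  rw [Nat.card_coe_set_eq, Set.ncard_coe_finset, ← h1]
  rcases (Nat.dvd_prime Nat.prime_three).1 h2 with e | e <;> rw [e] at h4 h6 <;> omega

end Cfsg.Agent.S4552
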