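import Cfsg.Statements.S4553
import Cfsg.Agent.Lib.Clifford.Pw
import Cfsg.Agent.Lib.Block2.Dade2

set_option autoImplicit false
open Cfsg

namespace Cfsg.Agent.S4553

open Cfsg.Lib Cfsg.Lib.Clifford Cfsg.Lib.Char Cfsg.Lib.Block2 Finset

theorem card_sub {G : Type*} [Group G] [Finite G] (N : Subgroup G) (Q : IrrCharacter N → Prop)
    (s : Finset (G → ℂ)) (hs : s ⊆ Irr N) (h : ∀ φ (hφ : IrrOn N φ), φ ∈ Irr N → (φ ∈ s ↔ Q ⟨res N φ, hφ⟩)) :
    Nat.card {θ // Q θ} = s.card := by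
  rw [← Nat.card_eq_finsetCard]
  exact (Nat.card_congr (((Equiv.subtypeSubtypeEquivSubtype (p := (· ∈ Irr N)) (q := (· ∈ s))
    fun h => hs h).symm).trans ((irrEquiv N).subtypeEquiv fun φ => h φ.1 _ φ.2))).symm

/-- Let G be a finite group, p a prime, P a Sylow p-subgroup, N the p-residual of G (the subgroup generated by the elements of order prime to p, the smallest normal subgroup with G/N a p-group), and M a maximal ideal of the algebraic integers containing p; suppose G/N is cyclic and nontrivial. Let k be a natural number with g ^ k = g ^ (1 + p) for every p-element g and g ^ k = g for every element g of order prime to p (so that χ (g ^ k) is the image of χ g under the field automorphism that raises p-power roots of unity to the power 1 + p and fixes the roots of unity of order prime to p). Then the number of members χ of the principal block of G of degree prime to p with χ (g ^ k) = χ g for all g equals p times the number of members θ of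 the principal block of N of degree prime to p that are invariant under conjugation by P and satisfy θ (n ^ k) = θ n for all n. -/
theorem result {G : Type*} [Group G] [Finite G] (p : ℕ) [Fact p.Prime] (M : Ideal Cfsg.AlgInt) (hM : Cfsg.IsPModular p M) (P : Sylow p G) (N : Subgroup G) [hN : N.Normal] (hNres : N = Cfsg.pResidual p G) (hcyc : IsCyclic (G ⧸ N)) (hnt : N ≠ ⊤) (k : ℕ) (hk₁ : ∀ g : G, (∃ j : ℕ, orderOf g = p ^ j) → g ^ k = g ^ (1 + p)) (hk₂ : ∀ g : G, Nat.Coprime (orderOf g) p → g ^ k = g) : Nat.card {χ : Cfsg.IrrCharacter G // χ ∈ Cfsg.principalBlock M G ∧ ¬ p ∣ Cfsg.charDegree (χ : G → ℂ) ∧ ∀ g : G, (χ : G → ℂ) (g ^ k) = (χ : G → ℂ) g} = p * Nat.card {θ : Cfsg.IrrCharacter ↥N // θ ∈ Cfsg.principalBlock M ↥N ∧ ¬ p ∣ Cfsg.charDegree (θ : ↥N → ℂ) ∧ (∀ x ∈ (P : Subgroup G), ∀ n : ↥N, (θ : ↥N → ℂ) ⟨x * n * x⁻¹, hN.conj_mem n n.2 x⟩ = (θ : ↥N → ℂ) n) ∧ ∀ n : ↥N, (θ : ↥N → ℂ) (n ^ k) = (θ : ↥N → ℂ) n} := by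
  classical
  have := hM.2.1
  have hp : p.Prime := Fact.out
  have hk₂' : ∀ g : G, ¬ p ∣ orderOf g → g ^ k = g := fun g hg =>
    hk₂ g ((Nat.Prime.coprime_iff_not_dvd hp).2 hg).symm
  obtain ⟨e, h⟩ := exists_pow_pow_eq (k := k) hp hk₁ hk₂'
  have hk := coprime_of_pow_pow (pow_ne_zero e hp.ne_zero) h
  have hn := nrm_of_normal ⊤ N
  have hR : N = Transfer.resOf p ⊤ := hNres.trans Transfer.resOf_top.symm
  obtain ⟨a, ha⟩ : ∃ a, N.relIndex ⊤ = p ^ a := hR ▸ Transfer.relIndex_resOf ⊤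
  let := hcyc.commGroup
  let D : Subgroup G := (powMonoidHom p : G ⧸ N →* G ⧸ N).range.comap (QuotientGroup.mk' N)
  have hND : N ≤ D := fun x hx => ⟨1, by simp [(QuotientGroup.eq_one_iff x).2 hx]⟩
  have hab : ⁅(⊤ : Subgroup G), ⊤⁆ ≤ N := Subgroup.commutator_le.2 fun x _ y _ => by
    rw [← QuotientGroup.eq_one_iff, ← QuotientGroup.mk'_apply, map_commutatorElement,
      commutatorElement_eq_one_iff_mul_comm, mul_comm]
  have hD : (IrrKer ⊤ D).card = p := by
    rw [card_IrrKer_of_abelian le_top (nrm_of_commutator_le le_top (hab.trans hND)) (hab.trans hND),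
      Subgroup.relIndex_top_right, Subgroup.index_comap_of_surjective _ (QuotientGroup.mk'_surjective N),
      IsCyclic.index_powMonoidHom_range, ← Subgroup.index_eq_card, ← Subgroup.relIndex_top_right, ha]
    refine Nat.gcd_eq_right (dvd_pow_self p ?_)
    rintro rfl
    exact hnt (Subgroup.index_eq_one.1 (by rw [← Subgroup.relIndex_top_right, ha, pow_zero]))
  have hlam : ∀ β ∈ IrrKer ⊤ N, ∀ x, β (x ^ k) = β x * β (x ^ p) := fun β hβ x => by
    have hl := linOn_of_mem_IrrKer hab hβ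
    obtain ⟨u, hu⟩ := exists_isPPart hp x
    have hv : β (u⁻¹ * x) = 1 := ((mem_IrrKer.1 hβ).2 _ (hR ▸ Transfer.mem_resOf trivial
      ((Nat.Prime.coprime_iff_not_dvd hp).2 hu.not_dvd_orderOf).symm)).trans hl.2
    have e1 : β x = β u := by
      rw [← mul_inv_cancel_left u x, hl.map_mul trivial trivial, hv, mul_one]
    rw [hl.map_pow trivial, hl.map_pow trivial, e1, ← hl.map_pow trivial, hk₁ u hu.orderOf_eq,
      hl.map_pow trivial, pow_add, pow_one]
  simp only [mem_principalBlock_iff_B0 (Γ := G) hM]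
  rw [card_irr_filter fun φ : G → ℂ => φ ∈ B0 p ⊤ ∧ ¬ p ∣ charDegree φ ∧ ∀ g, φ (g ^ k) = φ g,
    card_sub N _ ((B0 p N).filter fun φ => ¬ p ∣ charDegree φ ∧ InvOn P N φ ∧ ∀ x ∈ N, φ (x ^ k) = φ x)
      ((filter_subset _ _).trans B0_subset) fun φ hφ h1 => by
        rw [mem_filter, mem_B0, hφ.res_mem_principalBlock_iff hM, and_iff_right h1]
        exact and_congr_right fun _ => and_congr Iff.rfl (and_congr
          ⟨fun a x hx n => a x hx n n.2, fun a x hx n hn => a x hx ⟨n, hn⟩⟩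
          ⟨fun a n => a n n.2, fun a n hn => a ⟨n, hn⟩⟩),
    card_eq_sum_card_fiberwise (f := cut N) (t := (B0 p N).filter fun φ =>
      ¬ p ∣ charDegree φ ∧ InvOn P N φ ∧ ∀ x ∈ N, φ (x ^ k) = φ x) fun χ hχ => ?_,
    sum_const_nat (m := p) fun θ hθ => ?_, mul_comm]
  · obtain ⟨⟨h1, h2⟩, h3, h4, h5⟩ := mem_filter.1 hθ |>.imp_left mem_B0.1
    have hi := irrOn_of_mem h1
    obtain ⟨χ, c1, c2, c3⟩ := exists_ext_resOf (K := ⊤) (hR ▸ hi) (invOn_of_sylowIn
      (Transfer.sylowIn_top P) (hR ▸ hi.classOn) (hR ▸ h4)) h3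
    rw [← hR] at c2
    have c4 := (irrOn_of_mem c1).charOn
    have c5 : IrrOn N χ := hi.congr fun x hx => (c2 x hx).symm
    have c6 : charDegree χ = charDegree θ := by simp only [charDegree, c2 1 N.one_mem]
    have c7 : ∀ x, χ (x ^ k) = χ x := fun x => ext_unique_of_coprime le_top hn c4 c5
      (by rw [ha, c6]; exact ((Nat.Prime.coprime_iff_not_dvd hp).2 h3).pow_left a) (c4.pw hk)
      (fun n hn => by rw [pw_apply, c2 _ (N.pow_mem hn k), h5 n hn, c2 n hn])
      (by
        rw [ha]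
        refine (c3.of_dvd_right (ordOn_dvd_iff.2 fun y _ => ?_)).pow_left a
        rw [detOn_top (charOn_top.1 (c4.pw hk)), detChar_of_pow (charOn_top.1 c4)
          (charOn_top.1 (c4.pw hk)) (k := k) fun _ _ => rfl, ← detOn_top (charOn_top.1 c4)]
        exact pow_ordOn trivial)
      (by rw [ha]; exact c3.pow_left a) x trivial
    refine Eq.trans ?_ ((card_image_of_injOn
      ((mul_ext_injOn le_top hn c4 c5).mono (IrrKer_mono hND))).trans hD)
    congr 1
    ext ψ
    simp only [mem_filter, mem_image]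
    constructor
    · rintro ⟨⟨d1, -, -, d2⟩, d3⟩
      obtain ⟨β, hβ, e1⟩ := exists_mul_ext le_top hn c4 c5 (irrOn_of_mem d1) (by
        rw [dot_congr_left (φ' := χ) fun x hx => by rw [c2 x hx, ← d3, cut_of_mem _ hx], c5.dot_self]
        exact one_ne_zero)
      have hl := linOn_of_mem_IrrKer hab hβ
      refine ⟨β, mem_IrrKer.2 ⟨(mem_IrrKer.1 hβ).1, ?_⟩, (funext fun x => e1 x trivial).symm⟩
      have e2 : ∀ x, β (x ^ k) = β x := fun x => mul_ext_inj le_top hn c4 c5 (hl.irrOn.pw hk) hl.irrOn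
        (fun x hx => by simp [pw, (mem_IrrKer.1 hβ).2 _ (N.pow_mem hx k)]) (mem_IrrKer.1 hβ).2
        (fun x _ => by rw [pw_apply, ← c7 x, ← e1 _ trivial, d2, e1 _ trivial, c7]) x trivial
      rintro x ⟨y, hy⟩
      obtain ⟨y, rfl⟩ := QuotientGroup.mk_surjective y
      have e3 : (y ^ p)⁻¹ * x ∈ N := QuotientGroup.eq.1 hy
      rw [← mul_inv_cancel_left (y ^ p) x, hl.map_mul trivial trivial, (mem_IrrKer.1 hβ).2 _ e3,
        (mul_eq_left₀ (hl.ne_zero trivial)).1 ((hlam β hβ y).symm.trans (e2 y)), one_mul]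
    · rintro ⟨β, hβ, rfl⟩
      have hβ' := IrrKer_mono hND hβ
      have hl := linOn_of_mem_IrrKer hab hβ'
      have d1 : β * χ ∈ Irr ⊤ := mem_Irr_top.2 (irrOn_top.1 ((irrOn_of_mem c1).lin_mul hl))
      have d2 : ∀ x ∈ N, (β * χ) x = θ x := fun x hx => by
        rw [Pi.mul_apply, (mem_IrrKer.1 hβ').2 x hx, hl.2, one_mul, c2 x hx]
      refine ⟨⟨d1, mem_B0_of_over le_top hn ha d1 (mem_B0.2 ⟨h1, h2⟩) ?_, ?_, fun x => ?_⟩,
        (cut_congr d2).trans (cut_of_mem_Irr h1)⟩
      · rw [dot_congr_left d2, hi.dot_self]; exact one_ne_zero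
      · simpa only [charDegree, d2 1 N.one_mem] using h3
      · rw [Pi.mul_apply, Pi.mul_apply, c7, hlam β hβ', (mem_IrrKer.1 hβ).2 (x ^ p) ⟨x, rfl⟩, hl.2,
          mul_one]
  · obtain ⟨h1, h2, h3, h4⟩ := mem_filter.1 hχ
    have hi := (irrOn_of_mem h1).res_of_coprime le_top hn
      (by rw [ha]; exact ((Nat.Prime.coprime_iff_not_dvd hp).2 h3).symm.pow_right a)
    refine mem_filter.2 ⟨B0_under le_top hn h2 hi.cut_mem ?_, ?_, ?_, fun x hx => ?_⟩
    · rw [dot_cut_right, hi.dot_self]; exact one_ne_zero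
    · simpa only [charDegree, cut_of_mem _ N.one_mem] using h3
    · exact (((irrOn_of_mem h1).classOn.mono le_rfl le_top).cut' hn N).mono le_top le_rfl
    · rw [cut_of_mem _ hx, cut_of_mem _ (N.pow_mem hx k), h4]

end Cfsg.Agent.S4553
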