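import Cfsg.Statements.S4560
import Cfsg.Agent.Lib.Clifford.Four
import Mathlib.GroupTheory.Perm.Cycle.PossibleTypes

set_option autoImplicit false
open Cfsg

namespace Cfsg.Agent.S4560

open Cfsg.Lib.Char Cfsg.Lib.Clifford MulAction Equiv Equiv.Perm

theorem tw_eq_zero {n : ℕ} {σ : Perm (Fin n)} (h : 2 ∉ σ.cycleType) : tw (Fin n) σ = 0 := by
  rw [tw, Nat.card_eq_zero]
  refine Or.inl ⟨fun ⟨x, h1, h2⟩ => h ?_⟩
  have hc := isCycle_cycleOf σ h1
  have h3 : σ.cycleOf x ^ 2 = 1 := (hc.pow_eq_one_iff' (x := x) (by rwa [cycleOf_apply_self])).2 (by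
    rw [cycleOf_pow_apply_self, pow_two]; exact h2)
  have h4 := Nat.le_of_dvd two_pos (hc.orderOf ▸ orderOf_dvd_of_pow_eq_one h3)
  rw [cycleType_def, Multiset.mem_map]
  exact ⟨σ.cycleOf x, Finset.mem_def.1 (cycleOf_mem_cycleFactorsFinset_iff.2 (mem_support.2 h1)),
    le_antisymm h4 hc.two_le_card_support⟩

theorem key {n : ℕ} (hn : 7 ≤ n) (m : Multiset ℕ) (a : ℕ) (hs : m.sum + a = n) (h2 : ∀ r ∈ m, 2 ≤ r)
    (he : Even (m.sum + m.card)) (ha : a = 1 ∨ 2 ∉ m ∧ (a = 0 ∨ a = 2)) :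
    ∃ χ : Cfsg.IrrCharacter (alternatingGroup (Fin n)), (∃ x : alternatingGroup (Fin n), orderOf x = m.lcm ∧
      (χ : alternatingGroup (Fin n) → ℂ) x = 0) ∧ ∃ ψ : Cfsg.IrrCharacter (Equiv.Perm (Fin n)),
      ∀ x : alternatingGroup (Fin n), (ψ : Equiv.Perm (Fin n) → ℂ) x = (χ : alternatingGroup (Fin n) → ℂ) x := by
  obtain ⟨σ, rfl⟩ := (exists_with_cycleType_iff (Fin n)).2 ⟨by rw [Fintype.card_fin]; omega, h2⟩
  have hσ : σ ∈ alternatingGroup (Fin n) := by rw [mem_alternatingGroup, sign_of_cycleType, he.neg_one_pow]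
  have hf : fx (Fin n) σ = a := by
    have := σ.card_fixedPoints
    rw [Fintype.card_fin, ← Nat.card_eq_fintype_card] at this
    exact (show fx (Fin n) σ = _ from this).trans (by omega)
  have ho : orderOf (⟨σ, hσ⟩ : alternatingGroup (Fin n)) = σ.cycleType.lcm := by
    rw [lcm_cycleType, ← Subgroup.orderOf_coe]
  have := alternatingGroup.isMultiplyPretransitive (Fin n)
  have : IsMultiplyPretransitive (alternatingGroup (Fin n)) (Fin n) 4 :=
    isMultiplyPretransitive_of_le (n := Nat.card (Fin n) - 2) (by simp; omega) (by simp)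
  have := Equiv.Perm.isMultiplyPretransitive (Fin n) 4
  obtain ⟨a1, a2, a3⟩ := irr_of_four (G := alternatingGroup (Fin n)) (X := Fin n) (by simp; omega)
  obtain ⟨s1, s2, s3⟩ := irr_of_four (G := Perm (Fin n)) (X := Fin n) (by simp; omega)
  have hf' : fx (Fin n) (⟨σ, hσ⟩ : alternatingGroup (Fin n)) = a := hf
  rcases ha with rfl | ⟨h, rfl | rfl⟩
  · exact ⟨⟨_, a1⟩, ⟨_, ho, by simp [hf']⟩, ⟨_, s1⟩, fun x => rfl⟩
  · have ht : tw (Fin n) (⟨σ, hσ⟩ : alternatingGroup (Fin n)) = 0 := tw_eq_zero h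
    exact ⟨⟨_, a2⟩, ⟨_, ho, by simp [hf', ht]⟩, ⟨_, s2⟩, fun x => rfl⟩
  · have ht : tw (Fin n) (⟨σ, hσ⟩ : alternatingGroup (Fin n)) = 0 := tw_eq_zero h
    exact ⟨⟨_, a3⟩, ⟨_, ho, by simp [hf', ht]⟩, ⟨_, s3⟩, fun x => rfl⟩

/-- For n ≥ 7 the alternating group on n letters has an irreducible character that vanishes at some 2-element and is the restriction of an irreducible character of the symmetric group, and an irreducible character that vanishes at some element of order 3 and is the restriction of an irreducible character of the symmetric group. -/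
theorem result (n : ℕ) (hn : 7 ≤ n) : (∃ χ : Cfsg.IrrCharacter (alternatingGroup (Fin n)), (∃ x : alternatingGroup (Fin n), (∃ j : ℕ, orderOf x = 2 ^ j) ∧ (χ : alternatingGroup (Fin n) → ℂ) x = 0) ∧ ∃ ψ : Cfsg.IrrCharacter (Equiv.Perm (Fin n)), ∀ x : alternatingGroup (Fin n), (ψ : Equiv.Perm (Fin n) → ℂ) x = (χ : alternatingGroup (Fin n) → ℂ) x) ∧ (∃ χ : Cfsg.IrrCharacter (alternatingGroup (Fin n)), (∃ y : alternatingGroup (Fin n), orderOf y = 3 ∧ (χ : alternatingGroup (Fin n) → ℂ) y = 0) ∧ ∃ ψ : Cfsg.IrrCharacter (Equiv.Perm (Fin n)), ∀ x : alternatingGroup (Fin n), (ψ : Equiv.Perm (Fin n) → ℂ) x = (χ : alternatingGroup (Fin n) → ℂ) x) := by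
  constructor
  · have : ∃ i j k a : ℕ, 2 * i + 4 * j + 8 * k + a = n ∧ (i + j + k) % 2 = 0 ∧ (a = 1 ∨ i = 0 ∧ (a = 0 ∨ a = 2)) := by
      have : n % 4 = 1 ∨ n % 4 = 3 ∨ n % 8 = 0 ∨ n % 8 = 2 ∨ n % 8 = 4 ∨ n % 8 = 6 := by omega
      rcases this with h | h | h | h | h | h
      · exact ⟨n / 2, 0, 0, 1, by omega⟩
      · exact ⟨n / 2 - 2, 1, 0, 1, by omega⟩
      · exact ⟨0, n / 4, 0, 0, by omega⟩
      · exact ⟨0, n / 4, 0, 2, by omega⟩
      · exact ⟨0, n / 4 - 2, 1, 0, by omega⟩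
      · exact ⟨0, n / 4 - 2, 1, 2, by omega⟩
    obtain ⟨i, j, k, a, h1, h2, h3⟩ := this
    obtain ⟨χ, ⟨x, hx, h0⟩, h⟩ := key hn (Multiset.replicate i 2 + Multiset.replicate j 4 + Multiset.replicate k 8) a
      (by simp; omega) (by simp [Multiset.mem_replicate]; omega) (by simp [Nat.even_iff]; omega)
      (h3.imp_right fun h => ⟨by simp [Multiset.mem_replicate, h.1], h.2⟩)
    obtain ⟨l, -, hl⟩ := (Nat.dvd_prime_pow Nat.prime_two (m := 3)).1 (show orderOf x ∣ 2 ^ 3 by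
      rw [hx, Multiset.lcm_dvd]; simp only [Multiset.mem_add, Multiset.mem_replicate]
      rintro b ((⟨-, rfl⟩ | ⟨-, rfl⟩) | ⟨-, rfl⟩) <;> norm_num)
    exact ⟨χ, ⟨x, ⟨l, hl⟩, h0⟩, h⟩
  · obtain ⟨χ, ⟨x, hx, h0⟩, h⟩ := key hn (Multiset.replicate (n / 3) 3) (n % 3) (by simp; omega)
      (by simp [Multiset.mem_replicate]) (by simp [Nat.even_iff]; omega) (by simp [Multiset.mem_replicate]; omega)
    refine ⟨χ, ⟨x, ?_, h0⟩, h⟩
    rw [hx]
    refine Nat.dvd_antisymm (Multiset.lcm_dvd.2 ?_) (Multiset.dvd_lcm ?_) <;> simp [Multiset.mem_replicate]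
    omega

end Cfsg.Agent.S4560
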