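import Cfsg.Statements.S4561
import Cfsg.Agent.Lib.Clifford.Wreath
import Mathlib.RingTheory.Radical.NatInt
import Mathlib.GroupTheory.FiniteAbelian.Duality


set_option autoImplicit false
universe u
open Cfsg

namespace Cfsg.Agent.S4561

open Cfsg.Lib Cfsg.Lib.Clifford Cfsg.Lib.Char Subgroup RegularWreathProduct Finset

/-- a normalized nondegenerate cocycle -/
structure Coc {A Γ : Type*} [CommGroup A] [Group Γ] (α : Γ → Γ → A) : Prop where
  l : ∀ g, α 1 g = 1
  r : ∀ g, α g 1 = 1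
  c : ∀ a b c, α a b * α (a * b) c = α b c * α a (b * c)
  nd : ∀ g ≠ 1, ∃ w, w * g = g * w ∧ α w g ≠ α g w

variable {A Γ : Type*} [CommGroup A] [Group Γ] {α : Γ → Γ → A}

theorem Coc.wreath (h : Coc α) {Q : Type*} [Group Q] [Fintype Q] (hQ : ∀ a ≠ 1, ∃ s : Q →* A, s a ≠ 1) :
    Coc fun x y : (Γ ≀ᵣ Q) × (Q →* A) => (∏ q, α (x.1.left q) (y.1.left (x.1.right⁻¹ * q))) * x.2 y.1.right := by
  classical
  refine ⟨by simp [h.l], by simp [h.r], fun a b c => ?_, fun ⟨x, s⟩ e => ?_⟩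
  · rw [← Equiv.prod_comp (Equiv.mulLeft a.1.right⁻¹) fun q => α (b.1.left q) _, mul_mul_mul_comm, ← prod_mul_distrib,
      mul_mul_mul_comm (∏ _, _), ← prod_mul_distrib]
    congr 1
    · exact prod_congr rfl fun q _ => by simpa [mul_assoc] using h.c _ _ _
    · simp [mul_comm, mul_left_comm]
  by_cases h1 : x.right = 1
  swap
  · obtain ⟨t, a⟩ := hQ _ h1
    exact ⟨(1, t), by simp [mul_comm], by simpa [h.l, h.r] using a⟩
  by_cases h2 : x.left = 1
  · obtain rfl : x = 1 := RegularWreathProduct.ext h2 h1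
    obtain ⟨a, b⟩ := DFunLike.ne_iff.1 (show s ≠ 1 from fun b => e (by simp [b]))
    exact ⟨(inl a, 1), by simp, by simpa [h.l, h.r, eq_comm] using b⟩
  obtain ⟨q, a⟩ := Function.ne_iff.1 h2
  obtain ⟨w, b, c⟩ := h.nd _ a
  refine ⟨(⟨Pi.mulSingle q w, 1⟩, 1), Prod.ext (RegularWreathProduct.ext (funext fun i => ?_) (by simp)) (by simp), ?_⟩
  · by_cases d : i = q <;> simp [h1, d, b]
  · simp only [h1, inv_one, one_mul, map_one, mul_one]
    rwa [prod_eq_single q (fun i _ d => by simp [d, h.l]) (by simp),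
      prod_eq_single q (fun i _ d => by simp [d, h.r]) (by simp), Pi.mulSingle_eq_same]

theorem aux (n : ℕ) [NeZero n] (m : ℕ) : ∀ (G : Type u) [Group G] [Finite G] [Group.IsSolvable G], Nat.card G = m →
    (∀ p, p.Prime → p ∣ m → p ∣ n) → ∃ (Γ : Type u) (_ : Group Γ) (_ : Finite Γ) (α : Γ → Γ → rootsOfUnity n ℂ),
    Coc α ∧ (∀ p, p.Prime → p ∣ Nat.card Γ → p ∣ n) ∧ ∃ f : G →* Γ, Function.Injective f := by
  induction m using Nat.strong_induction_on with
  | _ m ih =>
  intro G _ _ _ hm hn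
  subst hm
  rcases subsingleton_or_nontrivial G with h | h
  · exact ⟨G, _, ‹_›, 1, ⟨fun _ => rfl, fun _ => rfl, fun _ _ _ => rfl, fun _ e => (e (Subsingleton.elim _ _)).elim⟩, hn,
      MonoidHom.id G, fun _ _ e => e⟩
  obtain ⟨N, h1, h2⟩ := (eq_top_or_exists_le_coatom (commutator G)).resolve_left
    (Group.IsSolvable.commutator_lt_top_of_nontrivial G).ne
  have : N.Normal := Normal.of_commutator_le _ h2
  obtain ⟨Γ, _, _, α, h3, h4, f, h5⟩ := ih _ (Core.card_lt_of_ne_top h1.1) N rfl fun p a b =>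
    hn p a (b.trans (card_subgroup_dvd_card _))
  have := Fintype.ofFinite (G ⧸ N)
  have hp : (Nat.card (G ⧸ N)).Prime := Core.prime_index_of_isCoatom_of_normal h1
  have h6 := hn _ hp N.index_dvd_card
  have : Finite (G ⧸ N →* rootsOfUnity n ℂ) := Finite.of_injective _ DFunLike.coe_injective
  obtain ⟨F, hF⟩ := exists_wreath_embedding N f h5
  refine ⟨_, _, inferInstance, _, h3.wreath (Q := G ⧸ N) fun a b => ?_, fun p a b => ?_, (MonoidHom.inl _ _).comp F,
    fun x y e => hF (congrArg Prod.fst e)⟩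
  · have := Fact.mk hp
    have := isCyclic_of_prime_card (α := G ⧸ N) rfl
    let _ := IsCyclic.commGroup (α := G ⧸ N)
    obtain ⟨s, c⟩ := CommGroup.exists_apply_ne_one_of_hasEnoughRootsOfUnity (G ⧸ N) ℂ b
    exact ⟨s.codRestrict _ fun x => (mem_rootsOfUnity _ _).2 (by
      rw [← map_pow, orderOf_dvd_iff_pow_eq_one.1 ((orderOf_dvd_natCard x).trans h6), map_one]),
      fun e => c (congrArg Subtype.val e)⟩
  rw [Nat.card_prod, RegularWreathProduct.card, a.dvd_mul, a.dvd_mul] at b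
  rcases b with (b | b) | b
  · exact h4 p a (a.dvd_of_dvd_pow b)
  · exact b.trans h6
  · have := Fact.mk a
    obtain ⟨s, rfl⟩ := exists_prime_orderOf_dvd_card' p b
    exact orderOf_dvd_of_pow_eq_one (MonoidHom.ext fun x => Subtype.ext ((mem_rootsOfUnity _ _).1 (s x).2))

/-- the central extension given by a cocycle -/
@[ext] structure Ex (h : Coc α) where
  a : A
  g : Γ

variable {h : Coc α}

instance : Mul (Ex h) := ⟨fun x y => ⟨x.a * y.a * α x.g y.g, x.g * y.g⟩⟩
instance : One (Ex h) := ⟨⟨1, 1⟩⟩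
instance : Inv (Ex h) := ⟨fun x => ⟨(x.a * α x.g⁻¹ x.g)⁻¹, x.g⁻¹⟩⟩
@[simp] theorem mul_a (x y : Ex h) : (x * y).a = x.a * y.a * α x.g y.g := rfl
@[simp] theorem mul_g (x y : Ex h) : (x * y).g = x.g * y.g := rfl
@[simp] theorem one_a : (1 : Ex h).a = 1 := rfl
@[simp] theorem one_g : (1 : Ex h).g = 1 := rfl

instance : Group (Ex h) := Group.ofLeftAxioms
  (fun x y z => Ex.ext (by
    simp only [mul_a, mul_g, mul_assoc, mul_left_comm (α x.g y.g), h.c]) (mul_assoc _ _ _))
  (fun x => Ex.ext (by simp [h.l]) (one_mul _)) fun x => Ex.ext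
    ((mul_assoc _ _ _).trans (inv_mul_cancel _)) (inv_mul_cancel _)

def equivEx : Ex h ≃ A × Γ := ⟨fun x => (x.a, x.g), fun x => ⟨x.1, x.2⟩, fun _ => rfl, fun _ => rfl⟩

def prj : Ex h →* Γ := ⟨⟨Ex.g, rfl⟩, fun _ _ => rfl⟩

theorem center_eq : center (Ex h) = prj.ker := Subgroup.ext fun x => mem_center_iff.trans
  ⟨fun e => by_contra fun a => by
    obtain ⟨w, -, b⟩ := h.nd x.g a
    exact b (by simpa using congrArg Ex.a (e ⟨1, w⟩)),
  fun (e : x.g = 1) y => Ex.ext (by simp [e, h.l, h.r, mul_comm]) (by simp [e])⟩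

/-- For every finite solvable group G there is a finite group H with a faithful irreducible character χ whose degree squared equals the index of the centre Z(H) (so χ is fully ramified over the centre), such that G is isomorphic to a subgroup of H/Z(H), the primes dividing the orders of H, of Z(H) and of G are the same, and the order of Z(H) is squarefree. -/
theorem result {G : Type u} [Group G] [Finite G] (hsolv : Group.IsSolvable G) : ∃ (H : Type u) (_ : Group H) (_ : Finite H) (χ : Cfsg.IrrCharacter H), (∀ h : H, (χ : H → ℂ) h = (χ : H → ℂ) 1 → h = 1) ∧ (Cfsg.charDegree (χ : H → ℂ)) ^ 2 = (Subgroup.center H).index ∧ (∃ f : G →* H ⧸ Subgroup.center H, Function.Injective f) ∧ (∀ p : ℕ, p.Prime → ((p ∣ Nat.card H ↔ p ∣ Nat.card G) ∧ (p ∣ Nat.card (Subgroup.center H) ↔ p ∣ Nat.card G))) ∧ Squarefree (Nat.card (Subgroup.center H)) := by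
  have : NeZero (UniqueFactorizationMonoid.radical (Nat.card G)) := ⟨UniqueFactorizationMonoid.radical_ne_zero⟩
  have h1 : ∀ p : ℕ, p.Prime → (p ∣ UniqueFactorizationMonoid.radical (Nat.card G) ↔ p ∣ Nat.card G) := fun p a =>
    UniqueFactorizationMonoid.dvd_radical_iff_of_irreducible a.prime.irreducible Nat.card_pos.ne'
  have h2 := UniqueFactorizationMonoid.squarefree_radical (a := Nat.card G)
  generalize UniqueFactorizationMonoid.radical (Nat.card G) = n at *
  obtain ⟨Γ, _, _, α, h, h3, f, h4⟩ := aux n _ G rfl fun p a => (h1 p a).2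
  have := Finite.of_equiv _ (equivEx (h := h)).symm
  have hs : Function.Surjective (prj (h := h)) := fun g => ⟨⟨1, g⟩, rfl⟩
  have h5 : Nat.card (Ex h) = n * Nat.card Γ := by
    rw [Nat.card_congr equivEx, Nat.card_prod, Complex.card_rootsOfUnity]
  have h6 : Nat.card (center (Ex h)) = n := by
    refine Nat.eq_of_mul_eq_mul_right (Nat.card_pos (α := Γ)) ?_
    rw [← h5, ← card_mul_index (center (Ex h)), center_eq, index_ker, MonoidHom.range_eq_top.2 hs, card_top]
  have hZ : ∀ x : Ex h, x ∈ center _ ↔ x.g = 1 := fun x => center_eq (h := h) ▸ Iff.rfl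
  have hl : LinOn (center (Ex h)) fun x => (x.a : ℂˣ) := linOn_of_map_mul (by simp) fun x hx y _ => by
    simp [(hZ x).1 hx, h.l]
  obtain ⟨χ, hχ, h7⟩ := hl.irrOn.exists_over le_top
  have h8 := mem_Irr_top.1 hχ
  have h9 : ∀ z ∈ center _, ∀ y, χ (z * y) = (z.a : ℂˣ) * χ y := fun z hz y => by
    have := fun z (hz : z ∈ center _) => clifford_invOn le_top (nrm_of_normal _ _) (irrOn_of_mem hχ) hl.irrOn
      (fun g _ x hx => by rw [mem_center_iff.1 hx g, mul_inv_cancel_right]) h7 hz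
    obtain ⟨t, e⟩ := h8.center_le_charCenter hz
    have a := e 1
    rw [mul_one, this z hz, mul_comm, show ((mult (center _) χ fun x => (x.a : ℂˣ)) : ℂ) = χ 1 by
      simp [this 1 (one_mem _)], mul_left_inj' (irrOn_of_mem hχ).one_ne_zero] at a
    rw [e, a]
  have h10 : ∀ x ∉ center _, χ x = 0 := fun x hx => by
    obtain ⟨w, a, b⟩ := h.nd _ (mt (hZ x).2 hx)
    have c := h9 ⟨α w x.g / α x.g w, 1⟩ ((hZ _).2 rfl) x
    rw [eq_mul_inv_of_mul_eq (show _ * x * ⟨1, w⟩ = (⟨1, w⟩ * x : Ex h) from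
      Ex.ext (by simp [h.l, mul_comm, mul_left_comm]) (by simp [a])), h8.isClassFunction.conj_eq] at c
    by_contra d
    exact b (div_eq_one.1 (Subtype.ext (Units.val_eq_one.1 ((mul_eq_right₀ d).1 c.symm))))
  refine ⟨Ex h, _, this, ⟨χ, h8⟩, fun x (e : χ x = χ 1) => ?_, ?_, ⟨((QuotientGroup.quotientMulEquivOfEq center_eq).trans
    (QuotientGroup.quotientKerEquivOfSurjective _ hs)).symm.toMonoidHom.comp f, fun _ _ e => h4 (by simpa using e)⟩,
    fun p a => ⟨?_, h6.symm ▸ h1 p a⟩, h6.symm ▸ h2⟩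
  · have a : x ∈ center _ := by_contra fun a => (irrOn_of_mem hχ).one_ne_zero (e.symm.trans (h10 x a))
    have b := h9 x a 1
    rw [mul_one, e, eq_comm, mul_eq_right₀ (irrOn_of_mem hχ).one_ne_zero] at b
    exact Ex.ext (Subtype.ext (Units.val_eq_one.1 b)) ((hZ x).1 a)
  · have := (h8.degree_sq_eq_index_iff h8.center_le_charCenter).2 h10
    rw [(irrOn_of_mem hχ).one_eq] at this
    exact_mod_cast this
  · rw [h5, a.dvd_mul, ← h1 p a]
    exact or_iff_left_of_imp (h3 p a)

end Cfsg.Agent.S4561
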