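import Cfsg.Statements.S4562
import Cfsg.Agent.Lib.Block2.Gg6D

set_option autoImplicit false
open Cfsg

namespace Cfsg.Agent.S4562

/-- Let χ be an irreducible character of the finite group H that is fully ramified over the normal subgroup Z: the restriction of χ to Z is e times an irreducible character of Z with e ^ 2 equal to the index of Z. If for every prime p with p ^ 6 dividing the index of Z the Sylow p-subgroups of H/Z are commutative, then H/Z is solvable. -/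
theorem result {H : Type*} [Group H] [Finite H] (Z : Subgroup H) [Z.Normal] (χ : Cfsg.IrrCharacter H) (hfr : ∃ (θ : Cfsg.IrrCharacter ↥Z) (e : ℕ), e ^ 2 = Z.index ∧ ∀ z : ↥Z, (χ : H → ℂ) z = (e : ℂ) * (θ : ↥Z → ℂ) z) (hab : ∀ p : ℕ, p.Prime → p ^ 6 ∣ Z.index → ∀ P : Sylow p (H ⧸ Z), IsMulCommutative P) : Group.IsSolvable (H ⧸ Z) := by
  obtain ⟨θ, h1, h2, -, h3, -⟩ := Cfsg.Lib.Clifford.fram_top χ hfr
  refine Cfsg.Lib.Gg6.solvable_of_sm (Cfsg.Lib.Gg6.FD.solvMod _ (θ := θ) ⟨le_top,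
    Cfsg.Lib.Clifford.nrm_of_normal _ _, h1, h2, ⟨_, h3⟩, fun p hp h6 P _ hP => ?_⟩ rfl)
  haveI : Fact p.Prime := ⟨hp⟩
  rw [Subgroup.relIndex_top_right] at h6
  obtain ⟨Q, hQ⟩ := (hP.map (QuotientGroup.mk' Z)).exists_le_sylow
  have h4 := hab p hp h6 Q
  refine (Cfsg.Lib.Gg6.comm_map_iff Z P).1 ⟨⟨fun a b => Subtype.ext ?_⟩⟩
  exact congrArg (fun x : (Q : Subgroup (H ⧸ Z)) => (x : H ⧸ Z)) (h4.is_comm.comm ⟨a, hQ a.2⟩ ⟨b, hQ b.2⟩)

end Cfsg.Agent.S4562
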