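import Cfsg.Statements.S4563
import Cfsg.Agent.Lib.Clifford.FRam
import Cfsg.Agent.Lib.Hall.SolvCrit
import Cfsg.Agent.Lib.Hall.HallSep
import Cfsg.Agent.Lib.Hall.Prim

set_option autoImplicit false
open Cfsg

namespace Cfsg.Agent.S4563

open Cfsg.Lib Cfsg.Lib.Clifford Cfsg.Lib.Char Finset Subgroup
open scoped commutatorElement

/-- Let χ be an irreducible character of the finite group H that is fully ramified over the normal subgroup Z: the restriction of χ to Z is e times an irreducible character of Z with e ^ 2 equal to the index of Z. If K is a proper normal subgroup of H containing Z and χ is induced from a character of K, then H/K is solvable; in particular, if K is solvable then so is H. -/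
theorem result {H : Type*} [Group H] [Fintype H] (Z : Subgroup H) [Z.Normal] (χ : Cfsg.IrrCharacter H) (hfr : ∃ (θ : Cfsg.IrrCharacter ↥Z) (e : ℕ), e ^ 2 = Z.index ∧ ∀ z : ↥Z, (χ : H → ℂ) z = (e : ℂ) * (θ : ↥Z → ℂ) z) (K : Subgroup H) [K.Normal] [Fintype K] (hZK : Z ≤ K) (hK : K ≠ ⊤) (φ : ↥K → ℂ) (hφ : Cfsg.IsCharacter ↥K φ) (hind : Cfsg.indFun K φ = (χ : H → ℂ)) : Group.IsSolvable (H ⧸ K) ∧ (Group.IsSolvable ↥K → Group.IsSolvable H) := by
---
  obtain ⟨θ, hθ, hinv, -, h, -⟩ := fram_top χ hfr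
  rw [indFun_eq_ind] at hind
  have hc := charOn_extendByZero.2 hφ
  have hχ : IrrOn ⊤ (ind K ⊤ (extendByZero K φ)) := hind ▸ irrOn_top.2 χ.2
  have hi := hc.irrOn_of_ind le_top hχ
  have h1 : cut K (extendByZero K φ) ∈ IrrOver K Z θ := hi.cut_mem_IrrOver hZK (by
    obtain ⟨η, h1, h2⟩ := hi.exists_under hZK
    have h3 : dot K χ.1 (extendByZero K φ) ≠ 0 := by
      rw [← dot_ind_right le_top (irrOn_top.2 χ.2).classOn, hind, (irrOn_top.2 χ.2).dot_self]; exact one_ne_zero
    have h4 := mem_orb_of_dot le_top (nrm_of_normal _ _) (irrOn_top.2 χ.2) hθ (irrOn_of_mem h1)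
      (mem_IrrOver.1 (h.ge (mem_singleton_self _))).2 (((irrOn_top.2 χ.2).charOn.mono le_top).dot_ne_zero_trans hZK
        hi (irrOn_of_mem h1).charOn h3 h2)
    rw [orb_of_invOn (nrm_of_normal _ _) hinv, mem_singleton] at h4
    rwa [← dot_cut_right, ← h4, dot_cut_right])
  have h2 := inertia_cut.le.trans ((irrOn_ind_iff le_top (nrm_of_normal _ _) hi).1 hχ)
  have h3 : Group.IsSolvable (H ⧸ K) := Hall.isSolvable_of_forall_isPiHall_compl fun p hp => by
    have := Fact.mk hp
    obtain ⟨P⟩ : Nonempty (Sylow p H) := inferInstance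
    have hP := Amalg.syl_top P
    have e : K ⊓ (Z ⊔ P) = Z ⊔ P ⊓ K := by rw [inf_comm, Hall.sup_inf_of_normal_le hZK]
    obtain ⟨T, hT⟩ := fram_compl hZK hθ hinv h hP fun ξ hξ ψ hψ => by
      rw [← e] at hψ ⊢
      refine inertia_le_of_ind hZK hθ hinv h h1 h2 le_sup_left hξ ?_ hψ
      obtain ⟨a, ha⟩ := BG1.relIndex_sup_eq_pow hp hP.isPGroup (K := Z) Amalg.le_normalizer_of_normal'
      refine Nat.Coprime.coprime_dvd_left (ha ▸ relIndex_dvd_of_le_left _ hZK) (Nat.Coprime.pow_left _ ?_)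
      rw [e]
      exact (Nat.Prime.coprime_iff_not_dvd hp).2 ((hP.inf_normal_top K).not_dvd_relIndex_of_le le_sup_right)
    exact ⟨T, (Hall.isPiHall_compl_singleton_iff hp).2 hT⟩
  exact ⟨h3, fun _ => Hall.isSolvable_of_normal_quotient K⟩

end Cfsg.Agent.S4563
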