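import Cfsg.Statements.S4564
import Cfsg.Agent.Lib.Clifford.FRam
import Cfsg.Agent.Lib.Hall.HallSep

set_option autoImplicit false
open Cfsg

namespace Cfsg.Agent.S4564

open Cfsg.Lib Cfsg.Lib.Clifford Cfsg.Lib.Char Finset Subgroup
open scoped commutatorElement

/-- Let χ be an irreducible character of the finite group H that is fully ramified over the normal subgroup Z: the restriction of χ to Z is e times an irreducible character of Z with e ^ 2 equal to the index of Z. Let K be a normal subgroup of H containing Z and P a cyclic Sylow p-subgroup of H/K. Then P has a complement in H/K: a subgroup meeting P trivially whose product with P is the whole group. -/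
theorem result {H : Type*} [Group H] [Finite H] (Z : Subgroup H) [Z.Normal] (χ : Cfsg.IrrCharacter H) (hfr : ∃ (θ : Cfsg.IrrCharacter ↥Z) (e : ℕ), e ^ 2 = Z.index ∧ ∀ z : ↥Z, (χ : H → ℂ) z = (e : ℂ) * (θ : ↥Z → ℂ) z) (K : Subgroup H) [K.Normal] (hZK : Z ≤ K) (p : ℕ) [Fact p.Prime] (P : Sylow p (H ⧸ K)) (hcyc : IsCyclic P) : ∃ M : Subgroup (H ⧸ K), M.IsComplement' (P : Subgroup (H ⧸ K)) := by
---
  obtain ⟨θ, hθ, hinv, -, h, -⟩ := fram_top χ hfr
  obtain ⟨Q, rfl⟩ := Sylow.mapSurjective_surjective (QuotientGroup.mk'_surjective K) p P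
  obtain ⟨⟨_, g, hg, rfl⟩, h1⟩ := hcyc.exists_zpow_surjective
  have e : zpowers g ⊔ (Z ⊔ Q ⊓ K) = Z ⊔ Q := le_antisymm (sup_le ((zpowers_le_of_mem hg).trans le_sup_right)
    (sup_le_sup_left inf_le_left _)) (sup_le (le_sup_left.trans le_sup_right) fun x hx => by
      obtain ⟨k, hk⟩ := h1 ⟨_, x, hx, rfl⟩
      rw [← mul_inv_cancel_left (g ^ k) x]
      refine mul_mem_sup (zpow_mem_zpowers g k) (mem_sup_right ⟨Q.1.mul_mem (Q.1.inv_mem (Q.1.zpow_mem hg k)) hx, ?_⟩)
      exact QuotientGroup.eq.1 (congrArg Subtype.val hk))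
  obtain ⟨T, hT⟩ := fram_compl hZK hθ hinv h (Amalg.syl_top Q) fun ξ hξ ψ hψ =>
    inertia_le_of_cyclic e (nrm_of_le_normalizer (sup_le (le_sup_left.trans le_normalizer)
      ((Core.le_normalizer_inf le_normalizer Amalg.le_normalizer_of_normal').trans
        (Core.le_normalizer_sup Amalg.le_normalizer_of_normal' le_rfl)))) (irrOn_of_mem (mem_IrrOver.1 hψ).1)
      ((card_le_card (IrrOver_subset_of_mem le_sup_left (sup_le_sup_left inf_le_left _) hθ hψ)).trans
        (by rw [hξ, card_singleton]))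
  have h2 := (Hall.isPiHall_compl_singleton_iff_index Fact.out).1 ((Hall.isPiHall_compl_singleton_iff Fact.out).2 hT)
  refine ⟨T, isComplement'_of_coprime ?_ ?_⟩ <;> rw [Sylow.card_eq_multiplicity]
  · rw [← h2, card_mul_index]
  · exact ((Nat.Prime.coprime_iff_not_dvd Fact.out).2 hT.1).symm.pow_right _

end Cfsg.Agent.S4564
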