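import Cfsg.Statements.S4565
import Cfsg.Agent.Lib.Clifford.FRam
import Cfsg.Agent.Lib.Clifford.TI
import Cfsg.Agent.Lib.Clifford.Mono

set_option autoImplicit false
open Cfsg

namespace Cfsg.Agent.S4565

open Cfsg.Lib Cfsg.Lib.Clifford Cfsg.Lib.Char Finset Subgroup
open scoped commutatorElement ComplexConjugate

/-- Let χ be an irreducible character of the finite group H that is fully ramified over the normal subgroup Z: the restriction of χ to Z is e times an irreducible character of Z with e ^ 2 equal to the index of Z. If Z ≠ H, then H/Z has no cyclic subgroup that is its own centralizer. -/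
theorem result {H : Type*} [Group H] [Finite H] (Z : Subgroup H) [Z.Normal] (χ : Cfsg.IrrCharacter H) (hfr : ∃ (θ : Cfsg.IrrCharacter ↥Z) (e : ℕ), e ^ 2 = Z.index ∧ ∀ z : ↥Z, (χ : H → ℂ) z = (e : ℂ) * (θ : ↥Z → ℂ) z) (hZ : Z ≠ ⊤) (C : Subgroup (H ⧸ Z)) (hC : IsCyclic C) : Subgroup.centralizer (C : Set (H ⧸ Z)) ≠ C := by
---
  classical
  intro hc
  obtain ⟨θ, hθ, hinv, -, h, h0⟩ := fram_top χ hfr
  obtain ⟨g, rfl⟩ := C.isCyclic_iff_exists_zpowers_eq_top.1 hC
  obtain ⟨g, rfl⟩ := QuotientGroup.mk_surjective g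
  have hL : ∀ x, x ∈ zpowers g ⊔ Z ↔ g⁻¹ * (x * g * x⁻¹) ∈ Z := fun x => by
    have := comap_map_eq (QuotientGroup.mk' Z) (zpowers g)
    rw [QuotientGroup.ker_mk'] at this
    rw [← QuotientGroup.eq, ← this, MonoidHom.map_zpowers, mem_comap,
      QuotientGroup.mk'_apply, QuotientGroup.mk'_apply, ← hc, zpowers_eq_closure, centralizer_closure,
      mem_centralizer_singleton_iff]
    simp only [QuotientGroup.mk_mul, QuotientGroup.mk_inv, eq_mul_inv_iff_mul_eq]
    exact eq_comm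
  have hg : g ∉ Z := fun hg => hZ (eq_top_iff.2 fun x _ => sup_le (zpowers_le_of_mem hg) le_rfl
    ((hL x).2 (mul_mem (inv_mem hg) (Normal.conj_mem inferInstance g hg x))))
  set L := zpowers g ⊔ Z with e
  have hn := nrm_of_normal L Z
  have hgL : g ∈ L := mem_sup_left (mem_zpowers g)
  have hab : ⁅L, L⁆ ≤ Z := (commutator_sup_le le_sup_left hn).trans
    (sup_le ((commutator_eq_bot_iff_le_centralizer.2 (le_centralizer _)).le.trans bot_le) le_rfl)
  obtain ⟨η, h1, h2⟩ := exists_ext_of_zpowers e.symm hn hθ (hinv.mono le_top le_rfl)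
  have hη := (irrOn_of_mem h1).charOn
  have hηZ := hθ.congr fun n hn => (h2 n hn).symm
  have hi : ∀ β ∈ IrrKer L Z, IrrOn L (β * η) := fun β hβ =>
    (irrOn_of_mem (mem_IrrKer.1 hβ).1).mul_ext (mem_IrrKer.1 hβ).2 le_sup_right hn hη hηZ
  set f := ∑ β ∈ IrrKer L Z, conj (β g) • (β * η)
  have h3 : ∀ x ∈ L, g⁻¹ * x ∉ Z → f x = 0 := fun x hx hx' => by
    have := sum_IrrKer_mul_apply le_sup_right hn (g⁻¹ * x)
    rw [if_neg hx'] at this
    rw [← zero_mul (η x), ← this, sum_mul]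
    refine (Finset.sum_apply ..).trans ?_
    refine sum_congr rfl fun β hβ => ?_
    have hl := linOn_of_mem_IrrKer hab hβ
    simp [hl.2, hl.map_mul (inv_mem hgL) hx, hl.charOn.apply_inv hgL, mul_assoc]
  have h4 : ∀ x ∈ L, f x = 0 := fun x hx => by
    by_cases hx' : g⁻¹ * x ∈ Z
    swap
    · exact h3 x hx hx'
    rw [← ind_apply_of_ti le_top (ψ := f) (invOn_sum _ fun β hβ => (hi β hβ).classOn.smul _) hx fun y _ hy hy' =>
      h3 _ hy' fun h5 => hy ((hL y).2 ?_), ind_sum, Finset.sum_apply]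
    · refine sum_eq_zero fun β hβ => ?_
      rw [ind_smul, ind_eq_sum le_top, Pi.smul_apply, Finset.sum_apply, sum_eq_zero fun ψ hψ => ?_, smul_zero]
      rcases eq_or_ne (dot L (β * η) ψ) 0 with e | e
      · simp [e]
      rw [mem_singleton.1 (h.le (mem_IrrOver.2 ⟨hψ, ((irrOn_of_mem hψ).charOn.mono le_top).dot_ne_zero_trans
        le_sup_right (hi β hβ) hθ.charOn (mt dot_eq_zero_comm.1 e) ?_⟩)), Pi.smul_apply, h0 x fun h6 => hg
          (inv_mem_iff.1 ((mul_mem_cancel_right h6).1 hx')), smul_zero]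
      rw [← dot_congr_right _ h2, (mem_IrrKer.1 hβ).2.dot_mul_ext hηZ]
      exact (irrOn_of_mem (mem_IrrKer.1 hβ).1).one_ne_zero
    · convert mul_mem h5 (inv_mem (Normal.conj_mem inferInstance _ hx' y)) using 1
      group
  have h5 : dot L f (cut L 1 * η) = 1 := by
    have hm := cut_one_mem_IrrKer (le_sup_right : Z ≤ L)
    rw [dot_sum_left, sum_eq_single_of_mem _ hm fun β hβ hne => ?_, dot_smul_left, (hi _ hm).dot_self,
      cut_of_mem _ hgL]
    · simp
    rw [dot_smul_left, dot_mul_ext le_sup_right hn hη hηZ (irrOn_of_mem (mem_IrrKer.1 hβ).1)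
      (irrOn_of_mem (mem_IrrKer.1 hm).1) (mem_IrrKer.1 hβ).2 (mem_IrrKer.1 hm).2,
      dot_irr_of_ne (mem_IrrKer.1 hβ).1 (mem_IrrKer.1 hm).1 hne, mul_zero]
  rw [dot_congr_left (φ' := 0) h4, dot_zero_left] at h5
  exact zero_ne_one h5

end Cfsg.Agent.S4565
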