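import Cfsg.Statements.S4566
import Cfsg.Agent.Lib.Char.Center

set_option autoImplicit false
open Cfsg

namespace Cfsg.Agent.S4566

open Cfsg.Lib Cfsg.Lib.Char Finset

/-- Let N be a central subgroup of the finite group G, ψ a faithful irreducible (hence degree-one) character of N, and χ an irreducible character of G whose restriction to N contains ψ. If g ∈ G and some x ∈ G has commutator x⁻¹ g⁻¹ x g in N but different from 1, then χ g = 0. -/
theorem result {G : Type*} [Group G] [Fintype G] (N : Subgroup G) [Fintype N] (hN : N ≤ Subgroup.center G) (ψ : Cfsg.IrrCharacter ↥N) (hfaith : ∀ n : ↥N, (ψ : ↥N → ℂ) n = (ψ : ↥N → ℂ) 1 → n = 1) (χ : Cfsg.IrrCharacter G) (hover : Cfsg.classInner (fun n : ↥N => (χ : G → ℂ) n) (ψ : ↥N → ℂ) ≠ 0) (g x : G) (hcomm : x⁻¹ * g⁻¹ * x * g ∈ N) (hne : x⁻¹ * g⁻¹ * x * g ≠ 1) : (χ : G → ℂ) g = 0 := by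
  have hχ : IsIrrCharacter G χ := χ.2
  obtain ⟨lam, hlam⟩ := hχ.exists_linear_of_le_center hN
  have h1 : ∀ n : N, (χ : G → ℂ) n = lam n * (χ : G → ℂ) 1 := fun n => by
    simpa using hlam n 1
  have h2 : (fun n : N => (χ : G → ℂ) n) = (χ : G → ℂ) 1 • fun n : N => (lam n : ℂ) := by
    funext n
    simp [h1 n, mul_comm]
  rw [h2, classInner_smul_left] at hover
  have h3 := (isIrrCharacter_linear lam).eq_of_classInner_ne_zero ψ.2 (right_ne_zero_of_mul hover)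
  have h4 := hlam ⟨(x⁻¹ * g⁻¹ * x * g)⁻¹, N.inv_mem hcomm⟩ g
  have h5 : (x⁻¹ * g⁻¹ * x * g)⁻¹ * g = g⁻¹ * (x⁻¹ * g * x) * g := by group
  simp only [h5] at h4
  rw [hχ.isClassFunction.conj_eq', hχ.isClassFunction.conj_eq'] at h4
  by_contra h0
  have h6 : (lam ⟨(x⁻¹ * g⁻¹ * x * g)⁻¹, N.inv_mem hcomm⟩ : ℂ) = 1 :=
    mul_right_cancel₀ h0 (by rw [one_mul]; exact h4.symm)
  have h7 := hfaith ⟨(x⁻¹ * g⁻¹ * x * g)⁻¹, N.inv_mem hcomm⟩ (by
    rw [← h3]
    simp only [h6, map_one, Units.val_one])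
  exact hne (inv_eq_one.1 (congrArg Subtype.val h7))

end Cfsg.Agent.S4566
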