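import Cfsg.Statements.S4567
import Cfsg.Agent.Lib.Clifford.Berger
import Cfsg.Agent.Lib.Clifford.Real
import Cfsg.Agent.Lib.Clifford.Column

set_option autoImplicit false
open Cfsg

namespace Cfsg.Agent.S4567

open Cfsg.Lib Cfsg.Lib.Clifford Cfsg.Lib.Char Finset Subgroup
open scoped commutatorElement ComplexConjugate

theorem over_mul {G : Type*} [Group G] [Finite G] {N : Subgroup G} [N.Normal] (hN : N ≤ center G) {χ l : G → ℂ}
    (hl : IrrOn N l) (hχ : χ ∈ IrrOver ⊤ N l) (y : G) {n : G} (hn : n ∈ N) : χ (y * n) = χ y * l n := by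
  obtain ⟨h1, h2⟩ := mem_IrrOver.1 hχ
  have hinv : InvOn ⊤ N l := fun g _ n hn => by rw [mem_center_iff.1 (hN hn) g, mul_inv_cancel_right]
  have hll := hl.linOn_of_comm fun a _ b hb => mem_center_iff.1 (hN hb) a
  have h3 := fun n (hn : n ∈ N) => clifford_invOn le_top (nrm_of_normal _ _) (irrOn_of_mem h1) hl hinv h2 hn
  exact (irrOn_of_mem h1).charOn.mul_of_lin le_top hll (fun x hx => by rw [h3 x hx, h3 1 (one_mem _), hll.2, mul_one])
    hn trivial

theorem sum_over {G : Type*} [Group G] [Finite G] {N : Subgroup G} [N.Normal] (hN : N ≤ center G) {l : G → ℂ}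
    (hl : IrrOn N l) (g : G) : (Nat.card N : ℂ) * ∑ χ ∈ IrrOver ⊤ N l, χ g * conj (χ g) =
      ∑ n ∈ elems N, conjCount ⊤ g (g * n) * conj (l n) := by
  simp_rw [← sum_irr_mul_conj (mem_top g), sum_mul]
  have key : ∀ {χ m : G → ℂ}, IrrOn N m → χ ∈ IrrOver ⊤ N m →
      ∑ n ∈ elems N, χ (g * n) * conj (χ g) * conj (l n) = Nat.card N * (χ g * conj (χ g)) * dot N m l := by
    intro χ m hm hχ
    rw [dot, mul_mul_mul_comm, mul_inv_cancel₀ (Clifford.card_ne_zero N), one_mul, mul_sum]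
    exact sum_congr rfl fun n hn => by rw [over_mul hN hm hχ g (mem_elems.1 hn)]; ring
  rw [sum_comm, mul_sum, ← sum_subset IrrOver_subset fun χ h1 h2 => ?_]
  · exact sum_congr rfl fun χ hχ => by rw [key hl hχ, hl.dot_self, mul_one]
  · obtain ⟨m, h3, h4⟩ := (irrOn_of_mem h1).exists_under (le_top : N ≤ ⊤)
    rw [key (irrOn_of_mem h3) (mem_IrrOver.2 ⟨h1, h4⟩), (irrOn_of_mem h3).dot_eq_zero hl fun e =>
      h2 (mem_IrrOver.2 ⟨h1, by rwa [← dot_congr_right _ e]⟩), mul_zero]

/-- Let N be a central subgroup of the finite group G and ψ a faithful irreducible (hence degree-one) character of N. Call a coset g N special when every x ∈ G whose commutator x⁻¹ g⁻¹ x g lies in N actually commutes with g (this depends only on the coset). Then the number of irreducible characters of G whose restriction to N contains ψ equals the number of conjugacy classes of G/N consisting of special cosets. -/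
theorem result {G : Type*} [Group G] [Fintype G] (N : Subgroup G) [N.Normal] [Fintype N] (hN : N ≤ Subgroup.center G) (ψ : Cfsg.IrrCharacter ↥N) (hfaith : ∀ n : ↥N, (ψ : ↥N → ℂ) n = (ψ : ↥N → ℂ) 1 → n = 1) : Nat.card {χ : Cfsg.IrrCharacter G // Cfsg.classInner (fun n : ↥N => (χ : G → ℂ) n) (ψ : ↥N → ℂ) ≠ 0} = Nat.card {C : ConjClasses (G ⧸ N) // ∃ g : G, ConjClasses.mk (g : G ⧸ N) = C ∧ ∀ x : G, x⁻¹ * g⁻¹ * x * g ∈ N → x * g = g * x} := by
  classical
  have hl := irrOn_extendByZero.2 ψ.2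
  have hll := hl.linOn_of_comm fun a _ b hb => mem_center_iff.1 (hN hb) a
  set P := fun C : ConjClasses (G ⧸ N) => ∃ g : G, ConjClasses.mk (g : G ⧸ N) = C ∧
    ∀ x : G, x⁻¹ * g⁻¹ * x * g ∈ N → x * g = g * x
  have hq : ∀ x g : G, x⁻¹ * g⁻¹ * x * g ∈ N ↔ (x : G ⧸ N) * g = g * x := fun x g => by
    rw [eq_comm, ← QuotientGroup.mk_mul, ← QuotientGroup.mk_mul, QuotientGroup.eq, mul_inv_rev, ← mul_assoc]
  have hP : ∀ g : G, P (ConjClasses.mk (g : G ⧸ N)) → ∀ x : G, (x : G ⧸ N) * g = g * x → x * g = g * x := by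
    rintro g ⟨a, h1, h2⟩ x hx
    obtain ⟨c, hc⟩ := isConj_iff.1 (ConjClasses.mk_eq_mk_iff_isConj.1 h1)
    obtain ⟨c, rfl⟩ := QuotientGroup.mk_surjective c
    have h3 := h2 (c⁻¹ * x * c) ((hq _ _).2 (by
      rw [← hc] at hx
      simp only [QuotientGroup.mk_mul, QuotientGroup.mk_inv]
      calc _ = (c : G ⧸ N)⁻¹ * (x * (c * a * (c : G ⧸ N)⁻¹)) * c := by group
        _ = _ := by rw [hx]; group))
    obtain ⟨n, hn, rfl⟩ : ∃ n ∈ N, g = c * a * c⁻¹ * n :=
      ⟨_, QuotientGroup.eq.1 hc, (mul_inv_cancel_left _ _).symm⟩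
    rw [mul_assoc _ n, ← mem_center_iff.1 (hN hn) x, ← mul_assoc, ← mul_assoc _ x n]
    congr 1
    calc _ = c * (c⁻¹ * x * c * a) * c⁻¹ := by group
      _ = _ := by rw [h3]; group
  have key : ∀ g : G, ∑ χ ∈ IrrOver ⊤ N (extendByZero N ψ), χ g * conj (χ g) =
      if P (ConjClasses.mk (g : G ⧸ N)) then (Nat.card (centralizer ({(g : G ⧸ N)} : Set (G ⧸ N))) : ℂ) else 0 := by
    intro g
    split_ifs with h
    · refine mul_left_cancel₀ (Clifford.card_ne_zero N) ?_
      have e : centralizer {g} = (centralizer {(g : G ⧸ N)}).comap (QuotientGroup.mk' N) := by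
        ext x
        simp only [mem_comap, mem_centralizer_singleton_iff, QuotientGroup.mk'_apply]
        exact ⟨fun e => by rw [← QuotientGroup.mk_mul, e, QuotientGroup.mk_mul], hP g h x⟩
      rw [sum_over hN hl, sum_eq_single_of_mem 1 (mem_elems.2 (one_mem N)) fun n hn h1 => ?_, mul_one, hll.2,
        conjCount_top_of_isConj (IsConj.refl g), map_one, mul_one, ← Nat.cast_mul, card_eq_card_inf_ker_mul
          (QuotientGroup.mk' N) (centralizer {g}), QuotientGroup.ker_mk', inf_of_le_right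
          (hN.trans (center_le_centralizer _)), e, map_comap_eq_self_of_surjective (QuotientGroup.mk'_surjective N)]
      rw [conjCount_eq_zero fun x _ e => h1 ?_, Nat.cast_zero, zero_mul]
      have := hP g h x (by rw [← QuotientGroup.mk_mul, mul_inv_eq_iff_eq_mul.1 e, QuotientGroup.mk_mul,
        QuotientGroup.mk_mul_of_mem _ (mem_elems.1 hn)])
      rwa [this, mul_inv_cancel_right, left_eq_mul] at e
    · obtain ⟨x, h1, h2⟩ : ∃ x, x⁻¹ * g⁻¹ * x * g ∈ N ∧ x * g ≠ g * x := by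
        by_contra h'
        exact h ⟨g, rfl, fun x hx => by_contra fun e => h' ⟨x, hx, e⟩⟩
      refine sum_eq_zero fun χ hχ => mul_eq_zero_of_left (by_contra fun h0 => h2 ?_) _
      have h3 := over_mul hN hl hχ (x⁻¹ * g * x) h1
      rw [(irrOn_of_mem (mem_IrrOver.1 hχ).1).classOn.conj' trivial trivial, Clifford.extendByZero_of_mem _ h1,
        show x⁻¹ * g * x * (x⁻¹ * g⁻¹ * x * g) = g by group, left_eq_mul₀ h0] at h3
      have h4 := congrArg Subtype.val (hfaith _ (h3.trans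
        (hll.2.symm.trans (Clifford.extendByZero_of_mem _ (one_mem N)))))
      calc _ = g * x * (x⁻¹ * g⁻¹ * x * g) := by group
        _ = _ := by rw [show x⁻¹ * g⁻¹ * x * g = 1 from h4, mul_one]
  have h1 := sum_congr (rfl : elems (⊤ : Subgroup G) = _) fun g _ => key g
  rw [sum_comm, sum_congr rfl fun χ hχ => (mul_inv_cancel_left₀ (Clifford.card_ne_zero ⊤) _).symm.trans
    (congrArg _ (irrOn_of_mem (mem_IrrOver.1 hχ).1).dot_self), sum_const, mul_one, nsmul_eq_mul] at h1
  have h2 := sum_elems_comp (QuotientGroup.mk' N) ⊤ fun y =>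
    if P (ConjClasses.mk y) then (Nat.card (centralizer ({y} : Set (G ⧸ N))) : ℂ) else 0
  rw [map_top_of_surjective _ (QuotientGroup.mk'_surjective N), ← sum_filter, ← sum_filter, ← Nat.cast_sum,
    ← Nat.cast_sum, show ∑ x ∈ elems ⊤ with P (ConjClasses.mk x), Nat.card (centralizer ({x} : Set (G ⧸ N))) =
      Nat.card {C // P C} * Nat.card (G ⧸ N) by convert sum_card_centralizer P, QuotientGroup.ker_mk', top_inf_eq] at h2
  rw [← sum_filter, ← Nat.cast_sum] at h1
  have h3 := h1.trans h2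
  rw [card_top, card_eq_card_quotient_mul_card_subgroup N, mul_comm (Nat.card N : ℂ), Nat.cast_mul, Nat.cast_mul,
    mul_assoc, mul_left_inj' (mul_ne_zero (Nat.cast_ne_zero.2 Nat.card_pos.ne') (Clifford.card_ne_zero N)),
    Nat.cast_inj] at h3
  rw [← h3, card_irr_filter fun χ : G → ℂ => classInner (fun n : N => χ n) (ψ : N → ℂ) ≠ 0]
  congr 1
  ext χ
  rw [mem_filter, mem_IrrOver, dot_eq_classInner, res_extendByZero]

end Cfsg.Agent.S4567
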