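import Cfsg.Statements.S4569
import Cfsg.Agent.Lib.Small.AbC

set_option autoImplicit false
open Cfsg

namespace Cfsg.Agent.S4569

open Subgroup MulAction Cfsg.Lib Cfsg.Lib.Block Cfsg.Lib.Block2 Cfsg.Lib.BG1 Cfsg.Lib.Gold Cfsg.Lib.AbS Finset
open Cfsg.Lib.Amalg hiding le_cent_symm op_top
open Cfsg.Lib.Transfer (PNil hasNormalPComplement_iff)
set_option linter.style.haveILetI false

theorem card_split {X : Type*} [Fintype X] {f : X → ℕ} (h : ∀ x, f x ∣ 9) : Fintype.card X =
    (univ.filter (f · = 1)).card + (univ.filter (f · = 3)).card + (univ.filter (f · = 9)).card := by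
  rw [← card_univ, card_eq_sum_card_fiberwise (f := f) (t := {1, 3, 9}) fun x _ => by
    have := Nat.mem_divisors.2 ⟨h x, by norm_num⟩
    rwa [show Nat.divisors 9 = {1, 3, 9} by decide] at this]
  simp [add_assoc]

variable {G : Type*} [Group G] [Finite G] {P : Subgroup G}

theorem fix_le (hP : Syl 2 P ⊤) (hc : IsMulCommutative P) (hcard : Nat.card P = 16) (hel : ∀ x ∈ P, x * x = 1)
    (n : 𝐍(P)) (hn : (n : G) ∉ 𝐂(P)) : Nat.card (fixedBy P n) ≤ 4 := by
  let F : Subgroup P := (𝐂[(n : G)]).subgroupOf P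
  have hF : ∀ x : P, x ∈ F ↔ (n : G) * x * (n : G)⁻¹ = x := fun x => by
    rw [mul_inv_eq_iff_eq_mul, eq_comm]; exact mem_centralizer_singleton_iff
  rw [show Nat.card (fixedBy P n) = Nat.card F from Nat.card_congr (Equiv.subtypeEquivRight fun x => by
    rw [hF, mem_fixedBy, Subtype.ext_iff, coe_normalizer_smul])]
  have h1 := F.card_mul_index
  have h2 : F.index ≠ 1 := fun e => hn fun x hx => by
    exact (mul_inv_eq_iff_eq_mul.1 ((hF ⟨x, hx⟩).1 (index_eq_one.1 e ▸ mem_top _))).symm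
  have h3 : F.index ≠ 2 := fun e => hn fun x hx => by
    suffices n * x * (n : G)⁻¹ = x from (mul_inv_eq_iff_eq_mul.1 this).symm
    refine conj_eq_of_sq hP hc n.2 hx ?_
    have h4 : (⟨x, hx⟩ : P)⁻¹ * n • (⟨x, hx⟩ : P) ∈ F := (mul_mem_iff_of_index_two e).2 (by
      rw [inv_mem_iff, hF, hF, coe_normalizer_smul, mul_left_inj, mul_right_inj])
    have h5 : n * (x⁻¹ * (n * x * (n : G)⁻¹)) * (n : G)⁻¹ = x⁻¹ * (n * x * (n : G)⁻¹) := (hF _).1 h4
    have h6 := hel _ ((n.2 x).1 hx)
    calc n * n * x * ((n : G) * n)⁻¹ = n * x * (n : G)⁻¹ * (n * (x⁻¹ * (n * x * (n : G)⁻¹)) * (n : G)⁻¹) := by group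
      _ = x := by
        rw [h5, PGrp.comm_of_mem hc (inv_mem hx) ((n.2 x).1 hx), ← mul_assoc, h6, one_mul, inv_eq_of_mul_eq_one_left (hel x hx)]
  rw [hcard] at h1
  have h4 : F.index ∣ 2 ^ 4 := Dvd.intro_left _ h1
  obtain ⟨k, -, hk⟩ := (Nat.dvd_prime_pow Nat.prime_two).1 h4
  rcases k with _ | _ | k
  · exact absurd hk h2
  · exact absurd hk h3
  · have := Nat.one_le_two_pow (n := k)
    rw [hk, pow_add, pow_add] at h1
    nlinarith

theorem card_orbits (hP : Syl 2 P ⊤) (hc : IsMulCommutative P) (hcard : Nat.card P = 16) (hel : ∀ x ∈ P, x * x = 1)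
    (he : (𝐂(P)).relIndex 𝐍(P) = 9) [Fintype (orbitRel.Quotient 𝐍(P) P)] : Fintype.card (orbitRel.Quotient 𝐍(P) P) ≤ 5 := by
  classical
  haveI := Fintype.ofFinite 𝐍(P)
  haveI := Fintype.ofFinite P
  have h1 := sum_card_fixedBy_eq_card_orbits_mul_card_group 𝐍(P) P
  have h2 : ∑ n : 𝐍(P), Fintype.card (fixedBy P n) ≤ ∑ n : 𝐍(P), (4 + if n ∈ (𝐂(P)).subgroupOf 𝐍(P) then 12 else 0) :=
    sum_le_sum fun n _ => by
      split_ifs with h
      · exact (Fintype.card_subtype_le _).trans (by rw [← Nat.card_eq_fintype_card, hcard])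
      · exact Nat.card_eq_fintype_card.symm.trans_le (fix_le hP hc hcard hel n h)
  have h3 := ((𝐂(P)).subgroupOf 𝐍(P)).card_mul_index
  rw [h1, sum_add_distrib, ← sum_filter, sum_const, sum_const, ← Fintype.card_subtype, card_univ,
    ← Nat.card_eq_fintype_card (α := 𝐍(P)), ← Nat.card_eq_fintype_card (α := {n // n ∈ _}), ← h3,
    show index _ = 9 from he, smul_eq_mul, smul_eq_mul] at h2
  have := Nat.card_pos (α := (𝐂(P)).subgroupOf 𝐍(P))
  nlinarith

theorem rank_cent {M : Ideal AlgInt} [M.IsMaximal] (hM : IsPModular 2 M) (hP : Syl 2 P ⊤) (hc : IsMulCommutative P)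
    (he : (𝐂(P)).relIndex 𝐍(P) = 9) {u : G} (hu : u ∈ P) (h : (𝐂[u]).relIndex 𝐍(P) = 3) :
    blockRank 2 (principalBlock M 𝐂[u]) = 3 := by
  have h1 := syl_cent hP hc hu
  have h2 : (𝐂(P.subgroupOf 𝐂[u])).relIndex 𝐍(P.subgroupOf 𝐂[u]) = 3 := by
    have h3 := relIndex_mul_relIndex 𝐂(P) (𝐂[u] ⊓ 𝐍(P)) 𝐍(P)
      (le_inf (fun _ h => Invol.mem_cent.2 (h u hu).symm) (centralizer_le_normalizer _)) inf_le_right
    rw [inf_relIndex_right, h, he] at h3
    rw [← subgroupOf_normalizer_eq h1.le, ← inf_subgroupOf_left 𝐍(P), Core.centralizer_subgroupOf h1.le,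
      relIndex_subgroupOf inf_le_left]
    omega
  rw [rank_eq hM _ _ h1.subgroupOf_top (comm_subgroupOf hc _) (h2 ▸ Nat.prime_three), h2]

/-- Let G be a finite group whose Sylow 2-subgroup P is elementary abelian of order 16, suppose the centralizer of P has index 9 in its normalizer, and let M be a maximal ideal of the algebraic integers containing 2. Then the principal 2-block contains exactly 16 irreducible characters and has 2-regular rank 9. -/
theorem result {G : Type*} [Group G] [Finite G] (M : Ideal Cfsg.AlgInt) (hM : Cfsg.IsPModular 2 M) (P : Sylow 2 G) (hcard : Nat.card P = 16) (hel : ∀ x : P, x ^ 2 = 1) (he : (Subgroup.centralizer ((P : Subgroup G) : Set G)).relIndex (Subgroup.normalizer ((P : Subgroup G) : Set G)) = 9) : Nat.card (Cfsg.principalBlock M G) = 16 ∧ Cfsg.blockRank 2 (Cfsg.principalBlock M G) = 9 := by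
  classical
  haveI := hM.2.1
  have hP := syl_top P
  replace hel : ∀ x ∈ (P : Subgroup G), x * x = 1 := fun x hx => (sq x).symm.trans (congrArg Subtype.val (hel ⟨x, hx⟩))
  change Nat.card (P : Subgroup G) = 16 at hcard
  generalize (P : Subgroup G) = P at *
  have hc := R2.comm_of_sq hel
  haveI := Fintype.ofFinite P
  haveI := Fintype.ofFinite (orbitRel.Quotient 𝐍(P) P)
  let o : P → ℕ := fun u => (𝐂[(u : G)]).relIndex 𝐍(P)
  have o9 : ∀ u, o u ∣ 9 := fun u => he ▸ relIndex_dvd_of_le_left _ fun _ h => Invol.mem_cent.2 (h _ u.2).symm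
  have cnt : ∀ d, d ≠ 0 → (univ.filter (o · = d)).card =
      d * (univ.filter fun q : orbitRel.Quotient 𝐍(P) P => o q.out = d).card := fun d hd => by
    have := sum_orbit (N := 𝐍(P)) (fun u : P => if o u = d then 1 else 0) fun n u => by
      simp only [o, ← ncard_orbit, orbit_smul]
    rw [sum_congr rfl (g := fun u => if o u = d then (d : ℚ)⁻¹ else 0) fun u _ => by
      rw [ncard_orbit]; split_ifs with h; exacts [by rw [← h, one_div], zero_div _], sum_boole, ← sum_filter, sum_const, nsmul_eq_mul,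
      eq_mul_inv_iff_mul_eq₀ (Nat.cast_ne_zero.2 hd), mul_comm] at this
    exact_mod_cast this.symm
  have h1 := card_split o9
  have h2 := card_split fun q : orbitRel.Quotient 𝐍(P) P => o9 q.out
  have h3 := card_orbits hP hc hcard hel he
  have e1 : 𝐂[((1 : P) : G)] = ⊤ := eq_top_iff.2 fun g _ => Invol.mem_cent.2 (Commute.one_right g)
  have h4 : (1 : P) ∈ univ.filter (o · = 1) := by simp only [o, mem_filter, mem_univ, e1, relIndex_top_left, and_self]
  have h5 := card_pos.2 ⟨_, h4⟩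
  have c1 := cnt 1 one_ne_zero
  have c3 := cnt 3 three_ne_zero
  have c9 := cnt 9 (by norm_num)
  rw [← Nat.card_eq_fintype_card, hcard] at h1
  have hn : ∀ u, o u = 9 → PNil 2 𝐂[(u : G)] := fun u h => pnil_centralizer_of_frob (syl_iff_sylowIn.1 hP)
    (fun a b => mul_comm' a b) u.2 (by
      have h3 := relIndex_mul_relIndex 𝐂(P) (𝐂[(u : G)] ⊓ 𝐍(P)) 𝐍(P)
        (le_inf (fun _ h => Invol.mem_cent.2 (h u u.2).symm) (centralizer_le_normalizer _)) inf_le_right
      rw [inf_relIndex_right, show relIndex _ _ = 9 from h, he] at h3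
      exact relIndex_eq_one.1 (by omega))
  have h6 := card_eq_sum hM hP hc
  rw [sum_congr rfl (g := fun u => (if u = 1 then (blockRank 2 (principalBlock M G) : ℚ) else 0) +
    (if o u = 3 then 1 else 0) + if o u = 9 then 9⁻¹ else 0) fun u _ => ?_, sum_add_distrib, sum_add_distrib,
    sum_ite_eq', if_pos (mem_univ _), sum_boole, ← sum_filter, sum_const, show #{u | o u = 3} = 6 by omega,
    show #{u | o u = 9} = 9 by omega] at h6
  · obtain ⟨t, ht⟩ := card_pos.1 (show 0 < #{u | o u = 9} by omega)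
    replace ht := (mem_filter.1 ht).2
    have h7 := card_mod hM hP hc t.2 (orderOf_eq_prime ((sq _).trans (hel _ t.2)) fun e => by
      rw [show t = 1 from Subtype.ext e, (mem_filter.1 h4).2] at ht; omega) (hn t ht)
    have h8 : Nat.card (principalBlock M G) = blockRank 2 (principalBlock M G) + 7 := by
      apply Nat.cast_injective (R := ℚ)
      rw [h6]; push_cast; norm_num; ring
    have h9 : blockRank 2 (principalBlock M G) ≠ 1 := fun e => by
      have h := Transfer.hasNormalPComplement_iff_top.1 ((blockRank_principal_eq_one_iff hM).1 e)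
      rw [relIndex_eq_one.2 fun n hn => ?_] at he
      · omega
      obtain ⟨w, hw, u, hu, rfl⟩ := (syl_iff_sylowIn.1 hP).exists_resOf_mul (mem_top n)
      exact mul_mem (h.mem_centralizer hP.isPGroup le_top hw ((mul_mem_cancel_right (le_normalizer hu)).1 hn))
        fun y hy => PGrp.comm_of_mem hc hy hu
    omega
  have := Nat.mem_divisors.2 ⟨o9 u, by norm_num⟩
  rw [show Nat.divisors 9 = {1, 3, 9} by decide, mem_insert, mem_insert, mem_singleton] at this
  change _ / (o u : ℚ) = _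
  rcases this with h | h | h
  · obtain rfl := card_le_one.1 (show #{u | o u = 1} ≤ 1 by omega) u (mem_filter.2 ⟨mem_univ _, h⟩) 1 h4
    rw [← (principal_equiv hM ((MulEquiv.subgroupCongr e1).trans topEquiv)).2, h]
    simp
  · rw [rank_cent hM hP hc he u.2 h, h, if_neg fun e => by rw [e, (mem_filter.1 h4).2] at h; omega]
    simp
  · rw [(blockRank_principal_eq_one_iff hM).2 (hasNormalPComplement_iff.2 (hn u h)), h,
      if_neg fun e => by rw [e, (mem_filter.1 h4).2] at h; omega]
    simp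

end Cfsg.Agent.S4569
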