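import Cfsg.Statements.S4570
import Cfsg.Agent.Lib.Small.AbB

set_option autoImplicit false
open Cfsg

namespace Cfsg.Agent.S4570

open Cfsg.Lib Cfsg.Lib.Block2 Cfsg.Lib.Amalg Cfsg.Lib.Transfer Subgroup

/-- Let G be a finite group with a commutative Sylow 2-subgroup P and M a maximal ideal of the algebraic integers containing 2, and suppose some involution x of G has the property that the principal 2-block of its centralizer has 2-regular rank one. If P has order 8 then the principal 2-block of G contains exactly 8 irreducible characters, and if P has order 16 it contains 8 or 16. -/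
theorem result {G : Type*} [Group G] [Finite G] (M : Ideal Cfsg.AlgInt) (hM : Cfsg.IsPModular 2 M) (P : Sylow 2 G) (hab : IsMulCommutative P) (x : G) (hx : orderOf x = 2) (hl : Cfsg.blockRank 2 (Cfsg.principalBlock M ↥(Subgroup.centralizer ({x} : Set G))) = 1) : (Nat.card P = 8 → Nat.card (Cfsg.principalBlock M G) = 8) ∧ (Nat.card P = 16 → Nat.card (Cfsg.principalBlock M G) = 8 ∨ Nat.card (Cfsg.principalBlock M G) = 16) := by
  haveI := hM.2.1
  obtain ⟨g, hg⟩ := Wal.exists_conj_mem (syl_top P) (GW.Two.of_two hx)
  have h1 := (hasNormalPComplement_iff.1 ((blockRank_principal_eq_one_iff hM).1 hl)).cj g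
  have := AbS.card_mod hM (syl_top P) hab hg (by rw [Invol.orderOf_conj, hx])
    (by rw [← cj_centralizer_singleton]; exact h1)
  omega

end Cfsg.Agent.S4570
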