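import Cfsg.Statements.S4573
import Cfsg.Agent.Lib.Clifford.Wreath


set_option autoImplicit false
universe u
open Cfsg

namespace Cfsg.Agent.S4573

open Cfsg.Lib Cfsg.Lib.Clifford Subgroup

theorem aux (n : ℕ) : ∀ (G : Type u) [Group G] [Finite G] [Group.IsSolvable G], Nat.card G = n →
    ∃ (M : Type u) (_ : Group M) (_ : Finite M), MGrp M ∧ ∃ f : G →* M, Function.Injective f := by
  induction n using Nat.strong_induction_on with
  | _ n ih =>
  intro G _ _ _ hn
  rcases subsingleton_or_nontrivial G with h | h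
  · refine ⟨G, _, ‹_›, fun χ hχ => ⟨⊤, χ, (irrOn_of_mem hχ).linOn_of_comm fun _ _ _ _ => Subsingleton.elim _ _,
      (ind_self (irrOn_of_mem hχ).classOn).trans (cut_top _)⟩, MonoidHom.id G, fun _ _ e => e⟩
  obtain ⟨N, h1, h2⟩ := (eq_top_or_exists_le_coatom (commutator G)).resolve_left
    (Group.IsSolvable.commutator_lt_top_of_nontrivial G).ne
  have : N.Normal := Normal.of_commutator_le _ h2
  obtain ⟨M, _, _, h3, f, h4⟩ := ih _ (hn ▸ Core.card_lt_of_ne_top h1.1) N rfl
  have := Fintype.ofFinite (G ⧸ N)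
  exact ⟨_, _, inferInstance, h3.wreath (Core.prime_index_of_isCoatom_of_normal h1), exists_wreath_embedding N f h4⟩

/-- Every finite solvable group is isomorphic to a subgroup of a finite M-group, a group each of whose irreducible characters is induced from a homomorphism of some subgroup into ℂˣ. -/
theorem result {G : Type u} [Group G] [Finite G] (hsolv : Group.IsSolvable G) : ∃ (M : Type u) (_ : Group M) (_ : Fintype M), (∀ χ : M → ℂ, Cfsg.IsIrrCharacter M χ → (∃ (H : Subgroup M) (lam : ↥H →* ℂˣ), χ = Cfsg.indFun H (fun h => (lam h : ℂ)))) ∧ ∃ f : G →* M, Function.Injective f := by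
  obtain ⟨M, _, _, h, f⟩ := aux _ G rfl
  have := Fintype.ofFinite M
  refine ⟨M, _, this, fun χ hχ => ?_, f⟩
  obtain ⟨H, l, a, rfl⟩ := h χ (mem_Irr_top.2 hχ)
  obtain ⟨μ, e⟩ := a.exists_hom
  exact ⟨H, μ, (indFun_res H l).symm.trans (congrArg _ (funext e))⟩

end Cfsg.Agent.S4573
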