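import Cfsg.Statements.S4574
import Cfsg.Agent.Lib.Clifford.AmGm
import Cfsg.Agent.Lib.Char.Integral
import Cfsg.Agent.Lib.Transfer.PNilp

set_option autoImplicit false
open Cfsg

namespace Cfsg.Agent.S4574

open Cfsg.Lib Cfsg.Lib.Clifford Cfsg.Lib.Char Finset

/-- Let χ be an irreducible character of the finite group G, of degree d, and let Z(χ) be the set of elements g with |χ g| = d (the centre of χ). Then χ vanishes on at least (d ^ 2 - 1) · |Z(χ)| elements of G, with equality when every value |χ g| is 0, 1 or d. -/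
theorem result {G : Type*} [Group G] [Fintype G] [DecidableEq G] (χ : G → ℂ) (hχ : Cfsg.IsIrrCharacter G χ) : (Cfsg.charDegree χ ^ 2 - 1) * (Finset.univ.filter (fun g : G => ‖χ g‖ = (Cfsg.charDegree χ : ℝ))).card ≤ (Finset.univ.filter (fun g : G => χ g = 0)).card ∧ ((∀ g : G, ‖χ g‖ = 0 ∨ ‖χ g‖ = 1 ∨ ‖χ g‖ = (Cfsg.charDegree χ : ℝ)) → (Cfsg.charDegree χ ^ 2 - 1) * (Finset.univ.filter (fun g : G => ‖χ g‖ = (Cfsg.charDegree χ : ℝ))).card = (Finset.univ.filter (fun g : G => χ g = 0)).card) := by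
  classical
  obtain ⟨d, hd⟩ : ∃ d, d = charDegree χ := ⟨_, rfl⟩
  rw [← hd]
  have hd0 : 0 < d := hd ▸ hχ.charDegree_pos
  have h1 : ‖χ 1‖ = d := by rw [← hχ.coe_charDegree, ← hd, Complex.norm_natCast]
  obtain ⟨S, hS⟩ : ∃ S, S = univ.filter fun g : G => ¬ ‖χ g‖ = d ∧ χ g ≠ 0 := ⟨_, rfl⟩
  have h2 := (card_le_sum_normSq_elts hχ.isGeneralizedCharacter S (fun k hk g hg => by
    obtain ⟨σ, hσ⟩ := exists_ringEquiv_map_char G hk
    rw [hS, mem_filter] at hg ⊢
    refine ⟨mem_univ _, fun h => hg.2.1 ?_, ?_⟩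
    · rw [← h1, ← hχ.mem_charCenter] at h ⊢
      exact Transfer.mem_of_pow_mem_of_coprime
        (Nat.Coprime.coprime_dvd_left (orderOf_dvd_natCard g) hk.symm) h
    · rw [← hσ χ hχ.isGeneralizedCharacter]
      simpa using hg.2.2) (fun g hg => by rw [hS] at hg; exact (mem_filter.1 hg).2.2)).1
  have h3 : ∀ F : G → ℝ, ∑ g, F g = ∑ g ∈ univ.filter (fun g : G => ‖χ g‖ = d), F g +
      (∑ g ∈ univ.filter (fun g : G => χ g = 0), F g + ∑ g ∈ S, F g) := by
    intro F
    rw [hS, sum_filter, sum_filter, sum_filter, ← sum_add_distrib, ← sum_add_distrib]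
    refine sum_congr rfl fun g _ => ?_
    by_cases h0 : χ g = 0
    · have : ¬ (0 : ℝ) = d := by exact_mod_cast hd0.ne
      simp [h0, this]
    · by_cases h : ‖χ g‖ = d <;> simp [h0, h]
  have h4 := h3 fun g => ‖χ g‖ ^ 2
  have h5 := h3 fun _ => 1
  rw [hχ.sum_norm_sq, sum_congr rfl (g := fun _ => (d : ℝ) ^ 2) fun g hg => by
    rw [(mem_filter.1 hg).2], sum_eq_zero (s := univ.filter (fun g : G => χ g = 0)) fun g hg => by
    simp [(mem_filter.1 hg).2]] at h4
  simp only [sum_const, nsmul_eq_mul, mul_one, card_univ, ← Nat.card_eq_fintype_card] at h4 h5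
  have h6 : 1 ≤ d ^ 2 := Nat.one_le_pow _ _ hd0
  constructor
  · have : (((d ^ 2 - 1) * (univ.filter fun g : G => ‖χ g‖ = d).card : ℕ) : ℝ) ≤
        (univ.filter fun g : G => χ g = 0).card := by
      push_cast [h6]
      linarith
    exact_mod_cast this
  · intro h
    have h7 : ∑ g ∈ S, ‖χ g‖ ^ 2 = S.card := by
      rw [sum_congr rfl (g := fun _ => 1) fun g hg => ?_]
      · simp
      · rw [hS, mem_filter] at hg
        rcases h g with h | h | h
        · exact absurd (norm_eq_zero.1 h) hg.2.2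
        · rw [h, one_pow]
        · exact absurd h hg.2.1
    have : (((d ^ 2 - 1) * (univ.filter fun g : G => ‖χ g‖ = d).card : ℕ) : ℝ) =
        (univ.filter fun g : G => χ g = 0).card := by
      push_cast [h6]
      linarith
    exact_mod_cast this

end Cfsg.Agent.S4574
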