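import Cfsg.Statements.S4575
import Cfsg.Agent.Lib.Small.TwoAvg

set_option autoImplicit false
open Cfsg

namespace Cfsg.Agent.S4575

open Cfsg.Lib.Small Cfsg.Lib.Char Cfsg.Lib.Block

/-- Let B be a 2-block of the finite group G (relative to a maximal ideal M of the algebraic integers containing 2) of defect d with defect group D. Let z be an element of D commuting with every element of D, and let b be a block of the centralizer of z with defect group D that induces B (a major subsection (z, b)). If the number of irreducible characters in B exceeds the 2-regular rank of b by at most three, then B contains at most 2 ^ d irreducible characters. -/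
theorem result {G : Type*} [Group G] [Finite G] (M : Ideal Cfsg.AlgInt) (hM : Cfsg.IsPModular 2 M) (B : Set (Cfsg.IrrCharacter G)) (hB : Cfsg.IsPBlock M B) (D : Subgroup G) (hD : Cfsg.IsDefectGroup 2 M B D) (z : G) (hzD : z ∈ D) (hzc : ∀ d ∈ D, d * z = z * d) (b : Set (Cfsg.IrrCharacter ↥(Subgroup.centralizer ({z} : Set G)))) (hb : Cfsg.IsInducedBlock M (Subgroup.centralizer ({z} : Set G)) b B) (hbD : Cfsg.IsDefectGroup 2 M b (D.subgroupOf (Subgroup.centralizer ({z} : Set G)))) (h : Nat.card B ≤ Cfsg.blockRank 2 b + 3) : Nat.card B ≤ 2 ^ Cfsg.blockDefect 2 B := by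
  classical
  haveI := hM.2.1
  haveI := Fintype.ofFinite G
  obtain ⟨hz, hd⟩ := major_defect hM hD hzD hzc hb hbD
  obtain ⟨y, h1, h2, -, h3, h4⟩ := exists_two_avg hM rfl hz hb
  rw [card_block_eq] at h ⊢
  rw [hd] at h1 h3
  rcases Nat.eq_zero_or_pos (blockDefect 2 B) with h0 | h0
  · have := sum_pow_height_le hM hB
    have h5 : (Finset.univ.filter (· ∈ B)).card ≤ ∑ χ with χ ∈ B, 2 ^ (2 * blockHeight 2 B χ.1) := by
      rw [Finset.card_eq_sum_ones]
      exact Finset.sum_le_sum fun _ _ => Nat.one_le_two_pow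
    rw [h0] at this ⊢
    omega
  have h5 : ∀ χ ∈ B, blockHeight 2 B χ.1 = 0 →
      ((Finset.univ.filter (· ∈ B)).card : ℤ) ≤ 2 ^ blockDefect 2 B * (2 ^ blockDefect 2 B - y χ) :=
    fun χ hχ h6 => h3 χ hχ _ subset_rfl
      (fun ψ hψ _ => (ctr_major_ne hM rfl hz hb hd hχ (Finset.mem_filter.1 hψ).2 h6).1)
      fun _ h7 => ctr_notMem hM rfl hz hb hχ hχ h6 h6 (by
        rw [h7]
        exact_mod_cast (memLocalIdeal_intCast_iff hM (2 ^ blockDefect 2 B)).2
          (dvd_pow_self _ h0.ne'))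
  by_cases h6 : ∃ χ ∈ B, blockHeight 2 B χ.1 = 0 ∧ 2 ^ blockDefect 2 B - y χ = 1
  · obtain ⟨χ, hχ, h7, h8⟩ := h6
    have := h5 χ hχ h7
    rw [h8, mul_one] at this
    exact_mod_cast this
  push Not at h6
  obtain ⟨χ₁, h₁, h₁'⟩ := exists_blockHeight_eq_zero (p := 2) hB.nonempty
  have h7 : ∑ χ with χ ∈ B, (3 : ℤ) ≤ ∑ χ with χ ∈ B, (2 ^ blockDefect 2 B - y χ) := by
    refine Finset.sum_le_sum fun χ hχ => ?_
    have hχ := (Finset.mem_filter.1 hχ).2
    have h8 : 0 < 2 ^ blockDefect 2 B - y χ := by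
      refine (mul_pos_iff_of_pos_left (by positivity : (0 : ℤ) < 2 ^ blockDefect 2 B)).1
        (lt_of_lt_of_le one_pos ?_)
      by_cases h9 : blockHeight 2 B χ.1 = 0
      · refine le_trans ?_ (h5 χ hχ h9)
        exact_mod_cast Finset.card_pos.2 ⟨χ, by simpa using hχ⟩
      · simpa using h3 χ hχ {χ₁} (by simpa using h₁) (fun ψ hψ _ => by
          rw [Finset.mem_singleton.1 hψ]
          exact (ctr_major_ne hM rfl hz hb hd h₁ hχ h₁').2)
          fun h => absurd (Finset.mem_singleton.1 h ▸ h₁') h9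
    by_cases h9 : blockHeight 2 B χ.1 = 0
    · obtain ⟨c, hc⟩ := h2 χ hχ h9
      obtain ⟨r, hr⟩ : (2 : ℤ) ∣ 2 ^ blockDefect 2 B := dvd_pow_self _ h0.ne'
      have := h6 χ hχ h9
      omega
    · have := height_add_two_le hM hB hχ h9
      have h10 : (2 : ℤ) ^ 2 ∣ 2 ^ blockDefect 2 B - y χ :=
        (pow_dvd_pow _ (by omega)).sub ((pow_dvd_pow _ (by omega)).trans (h4 hd χ hχ h9))
      have := Int.le_of_dvd h8 h10
      omega
  rw [Finset.sum_sub_distrib, h1, Finset.sum_const, Finset.sum_const, nsmul_eq_mul,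
    nsmul_eq_mul] at h7
  have h8 : ((Finset.univ.filter (· ∈ B)).card : ℤ) ≤ blockRank 2 b + 3 := by exact_mod_cast h
  have h9 : (0 : ℤ) < 2 ^ blockDefect 2 B := by positivity
  have : ((Finset.univ.filter (· ∈ B)).card : ℤ) ≤ 2 ^ blockDefect 2 B := by nlinarith
  exact_mod_cast this

end Cfsg.Agent.S4575
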