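import Cfsg.Statements.S4580
import Cfsg.Agent.Lib.Block.Principal
import Cfsg.Agent.Lib.Clifford.Gallagher

set_option autoImplicit false
open Cfsg

namespace Cfsg.Agent.S4580

open Cfsg.Lib.Clifford Cfsg.Lib.Block Subgroup
open scoped ComplexConjugate

theorem mem_principal {G : Type*} [Group G] [Finite G] {M : Ideal AlgInt} (hM : IsPModular 2 M)
    (χ : IrrCharacter G) (ho : Odd (charDegree (χ : G → ℂ)))
    (h : ∀ y, ¬ 2 ∣ orderOf y → (χ : G → ℂ) y⁻¹ = (χ : G → ℂ) y) : χ ∈ principalBlock M G := by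
  classical
  have := hM.2.1
  have : Fact (Nat.Prime 2) := ⟨Nat.prime_two⟩
  have := Fintype.ofFinite G
  have := charP_resField hM
  have hχ := irrOn_top.2 χ.2
  have h1 : ¬ MemLocalIdeal M ((χ : G → ℂ) 1) := by
    rw [hχ.one_eq, memLocalIdeal_natCast_iff hM]
    exact ho.not_two_dvd_nat
  have h2 : ∀ y, MemLocalRing M (if 2 ∣ orderOf y then 0 else (χ : G → ℂ) y) := fun y => by
    split_ifs
    exacts [memLocalRing_zero, memLocalRing_of_isIntegral (hχ.genOn.isIntegral trivial)]
  rw [mem_principalBlock_iff hM]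
  intro h3
  have h4 := h3.mul_right (memLocalRing_of_isIntegral (hχ.genOn.isIntegral (x := 1) trivial))
  rw [div_mul_cancel₀ _ hχ.one_ne_zero, ← red_eq_zero_iff (memLocalRing_sum fun y _ => h2 y),
    red_sum fun y _ => h2 y, ← Finset.add_sum_erase _ _ (Finset.mem_univ 1),
    Finset.sum_involution (fun y _ => y⁻¹) (fun y _ => ?_) (fun y hy h0 e => h0 ?_)
      (fun y hy => by simpa using hy) fun y _ => inv_inv y, add_zero, red_eq_zero_iff (h2 1)] at h4
  · exact h1 (by simpa using h4)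
  · rw [orderOf_inv]
    split_ifs with e
    exacts [by simp [red_zero], by rw [h y e, CharTwo.add_self_eq_zero]]
  · rw [orderOf_eq_prime (p := 2) (by rw [sq, ← inv_eq_iff_mul_eq_one, e])
      (Finset.ne_of_mem_erase hy), if_pos dvd_rfl, red_zero]

/-- Let N be a normal subgroup of the finite group G, M a maximal ideal of the algebraic integers containing 2, and θ a real-valued irreducible character of N of odd degree that extends to G (some irreducible character of G restricts to θ). Then θ has an extension to G lying in the principal 2-block of G. -/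
theorem result {G : Type*} [Group G] [Finite G] (N : Subgroup G) [N.Normal] (M : Ideal Cfsg.AlgInt) (hM : Cfsg.IsPModular 2 M) (θ : Cfsg.IrrCharacter N) (hreal : ∀ n : N, ((θ : N → ℂ) n).im = 0) (hodd : Odd (Cfsg.charDegree (θ : N → ℂ))) (hext : ∃ η : Cfsg.IrrCharacter G, ∀ n : N, (η : G → ℂ) n = (θ : N → ℂ) n) :
    ∃ η : Cfsg.IrrCharacter G, (∀ n : N, (η : G → ℂ) n = (θ : N → ℂ) n) ∧ η ∈ Cfsg.principalBlock M G := by
  obtain ⟨η, hη⟩ := hext
  have h1 := irrOn_top.2 η.2
  have h2 : IrrOn N η := show IsIrrCharacter N _ from (funext hη : res N η = θ) ▸ θ.2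
  obtain ⟨β, a, b, c⟩ := exists_lin_of_ext le_top (nrm_of_normal ⊤ N) h1.charOn h2 h1.charOn.star
    fun n hn => Complex.conj_eq_iff_im.2 (hη ⟨n, hn⟩ ▸ hreal _)
  obtain ⟨k, hk⟩ : Odd (ordCompl[2] (Nat.card G)) :=
    (Nat.coprime_ordCompl Nat.prime_two Nat.card_pos.ne').odd_of_left
  have h3 := h1.mul_lin (a.pow (k + 1))
  have h4 : ∀ n : N, (η.1 * β ^ (k + 1)) n = (θ : N → ℂ) n := fun n => by simp [b n n.2, ← hη n]
  refine ⟨⟨_, irrOn_top.1 h3⟩, h4, mem_principal hM _ ?_ fun y hy => ?_⟩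
  · rwa [charDegree_of_eq ((h4 1).trans (irrOn_top.2 θ.2).one_eq)]
  have h5 : β y ^ (2 * k + 1) = 1 := by
    rw [← a.map_pow trivial, ← hk, orderOf_dvd_iff_pow_eq_one.1, a.2]
    exact (Nat.Coprime.dvd_mul_left ((Nat.prime_two.coprime_iff_not_dvd.2 hy).symm.pow_right _)).1
      (by rw [Nat.ordProj_mul_ordCompl_eq_self]; exact orderOf_dvd_natCard y)
  have h6 := a.ne_zero (x := y) trivial
  simp only [Pi.mul_apply, Pi.pow_apply]
  rw [h1.charOn.apply_inv trivial, show conj (η.1 y) = _ from c y trivial, a.map_inv trivial,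
    inv_pow]
  field_simp
  linear_combination (-η.1 y * β y) * h5

end Cfsg.Agent.S4580
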