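import Cfsg.Statements.S4581
import Cfsg.Agent.Lib.Block2.RealO

set_option autoImplicit false
open Cfsg

namespace Cfsg.Agent.S4581

open Cfsg.Lib Cfsg.Lib.Block2.RP


/-- Let G be a finite solvable group, P a Sylow 2-subgroup and N its normalizer. Then G and N have the same number of real-valued irreducible characters of odd degree; and every odd-degree irreducible character of G is real-valued exactly when the derived subgroup of P equals the Frattini subgroup of P and P is its own normalizer in G. -/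
theorem result {G : Type*} [Group G] [Finite G] [Group.IsSolvable G] (P : Sylow 2 G) :
    Nat.card {χ : Cfsg.IrrCharacter G // (∀ g : G, ((χ : G → ℂ) g).im = 0) ∧ Odd (Cfsg.charDegree (χ : G → ℂ))} =
      Nat.card {ψ : Cfsg.IrrCharacter (Subgroup.normalizer ((P : Subgroup G) : Set G)) // (∀ g, ((ψ : Subgroup.normalizer ((P : Subgroup G) : Set G) → ℂ) g).im = 0) ∧ Odd (Cfsg.charDegree (ψ : Subgroup.normalizer ((P : Subgroup G) : Set G) → ℂ))} ∧
    ((∀ χ : Cfsg.IrrCharacter G, Odd (Cfsg.charDegree (χ : G → ℂ)) → ∀ g : G, ((χ : G → ℂ) g).im = 0) ↔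
      (commutator (P : Subgroup G) = frattini (P : Subgroup G) ∧ Subgroup.normalizer ((P : Subgroup G) : Set G) = (P : Subgroup G))) := by
  classical
  have := Fact.mk Nat.prime_two
  have hP := Amalg.syl_top P
  obtain ⟨h1, h2⟩ := reduce ⊤ hP
  rw [top_inf_eq] at h1 h2
  have odd : ∀ n : ℕ, Odd n ↔ ¬ 2 ∣ n := fun n => by rw [← Nat.not_even_iff_odd, even_iff_two_dvd]
  refine ⟨?_, ?_⟩
  · rw [Clifford.card_irr_filter (fun χ : G → ℂ => (∀ g, (χ g).im = 0) ∧ Odd (charDegree χ)),
      Coprime.card_irrCharacter_subtype _ (fun χ => Clifford.RealOn _ χ ∧ ¬ 2 ∣ charDegree χ)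
        fun φ _ => and_congr Clifford.realOn_iff_im.symm (odd _)]
    unfold XO at h1
    convert h1 using 2
    · ext χ
      simp only [Finset.mem_filter, Clifford.realOn_top, odd]
    · ext χ
      simp only [Finset.mem_filter]
  · rw [← allR_iff (hP.of_le Subgroup.le_normalizer le_top) (Clifford.nrm_of_le_normalizer le_rfl),
      ← h2]
    exact ⟨fun h χ hχ hd => Clifford.realOn_top.2 (h ⟨χ, Clifford.mem_Irr_top.1 hχ⟩ ((odd _).2 hd)),
      fun h χ hd => Clifford.realOn_top.1 (h χ (Clifford.mem_Irr_top.2 χ.2) ((odd _).1 hd))⟩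

end Cfsg.Agent.S4581
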