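import Cfsg.Statements.S4582
import Cfsg.Agent.Lib.Invol.Focal
import Cfsg.Agent.Lib.Transfer.Tate
import Cfsg.Agent.Lib.Amalg.Ops

set_option autoImplicit false
open Cfsg

namespace Cfsg.Agent.S4582

open Cfsg.Lib Cfsg.Lib.Amalg Subgroup
open scoped commutatorElement Pointwise

/-- Let N be a normal subgroup of the finite group G, P a Sylow 2-subgroup of G and Q = P ∩ N. Suppose that P/QP' and Q/Q' are elementary abelian (every square of an element of P lies in the subgroup generated by Q and the derived subgroup of P, and every square of an element of Q lies in the derived subgroup of Q), and that the commutator factor group N/N' has odd order. Then P/P' is elementary abelian. -/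
theorem result {G : Type*} [Group G] [Finite G] (N : Subgroup G) [N.Normal] (P : Sylow 2 G)
    (hP : ∀ x ∈ (P : Subgroup G), x ^ 2 ∈ ((P : Subgroup G) ⊓ N) ⊔ ⁅(P : Subgroup G), (P : Subgroup G)⁆)
    (hQ : ∀ x ∈ (P : Subgroup G) ⊓ N, x ^ 2 ∈ ⁅(P : Subgroup G) ⊓ N, (P : Subgroup G) ⊓ N⁆)
    (hodd : Odd (Nat.card (Abelianization N))) :
    ∀ x ∈ (P : Subgroup G), x ^ 2 ∈ ⁅(P : Subgroup G), (P : Subgroup G)⁆ := by
---
  have h1 : Transfer.resOf 2 N = N := by
    rw [← Transfer.map_pResidual, Invol.pResidual_two_eq_top_iff.2 fun H hH => ?_, map_subtype_top]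
    have := normal_of_index_eq_two hH
    have := isCyclic_of_prime_card (p := 2) (α := N ⧸ H) hH
    let := IsCyclic.commGroup (α := N ⧸ H)
    refine Nat.not_even_iff_odd.2 hodd (even_iff_two_dvd.2 (hH ▸ index_dvd_of_le ?_))
    simpa using Abelianization.commutator_subset_ker (QuotientGroup.mk' H)
  obtain ⟨M, h2, h3, h4, h5⟩ := Transfer.exists_tate_ker P N h1
  intro x hx
  have hn : (P : Subgroup G) ≤ 𝐍 ((P : Subgroup G) ⊓ N) :=
    Core.le_normalizer_inf le_normalizer le_normalizer_of_normal'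
  obtain ⟨m, hm, q, hq, rfl⟩ := (mem_sup_of_le_normalizer (h2.trans hn)).1 (h3 hx)
  have h6 : m ^ 2 ∈ ⁅(P : Subgroup G), (P : Subgroup G)⁆ := by
    obtain ⟨a, ha, b, hb, e⟩ := (mem_sup_of_le_normalizer' ((comm_le_left le_normalizer).trans hn)).1
      (hP m (h2 hm))
    rw [← e]
    refine mul_mem (commutator_mono inf_le_left le_rfl (h4 ⟨?_, ha.2⟩)) hb
    rw [eq_mul_inv_of_mul_eq e]
    exact M.mul_mem (M.pow_mem hm 2) (M.inv_mem (h5 hb))
  rw [show (m * q) ^ 2 = m ^ 2 * ⁅m⁻¹, q⁆ * q ^ 2 by simp [commutatorElement_def, pow_two, mul_assoc]]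
  exact mul_mem (mul_mem h6 (commutator_mem_commutator (inv_mem (h2 hm)) hq.1))
    (commutator_mono inf_le_left inf_le_left (hQ q hq))

end Cfsg.Agent.S4582
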