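import Cfsg.Statements.S4583
import Cfsg.Agent.Lib.Block2.Num

set_option autoImplicit false
open Cfsg

namespace Cfsg.Agent.S4583

/-- Let N be a normal subgroup of the finite group G, p a prime, M a maximal ideal of the algebraic integers containing p, and P a Sylow p-subgroup of G. Let θ be an irreducible character of N of degree prime to p lying in the principal p-block of N, and suppose θ extends to the subgroup NP (some irreducible character of NP restricts to θ). Then some irreducible character χ of G of degree prime to p in the principal p-block of G lies over θ (θ is a constituent of the restriction of χ to N). -/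
theorem result {G : Type*} [Group G] [Finite G] (N : Subgroup G) [N.Normal] (p : ℕ) [Fact p.Prime] (M : Ideal Cfsg.AlgInt) (hM : Cfsg.IsPModular p M) (P : Sylow p G)
    (θ : Cfsg.IrrCharacter N) (hθ : θ ∈ Cfsg.principalBlock M N) (hdeg : ¬ p ∣ Cfsg.charDegree (θ : N → ℂ))
    (hext : ∃ η : Cfsg.IrrCharacter ↥(N ⊔ (P : Subgroup G)), ∀ n : N, (η : ↥(N ⊔ (P : Subgroup G)) → ℂ) (Subgroup.inclusion le_sup_left n) = (θ : N → ℂ) n) :
    ∃ χ : Cfsg.IrrCharacter G, χ ∈ Cfsg.principalBlock M G ∧ ¬ p ∣ Cfsg.charDegree (χ : G → ℂ) ∧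
      haveI := Fintype.ofFinite N; Cfsg.classInner (fun n : N => (χ : G → ℂ) n) (θ : N → ℂ) ≠ 0 := by
  open Cfsg.Lib Cfsg.Lib.Block Cfsg.Lib.Block2 Cfsg.Lib.Char Cfsg.Lib.Amalg in
  have := hM.2.1
  classical
  haveI := Fintype.ofFinite G
  obtain ⟨η, hη⟩ := hext
  have hq := (pquo_of_isPGroup P.isPGroup' N).sup
    (Subgroup.le_normalizer_of_normal (H := N) (K := (P : Subgroup G)))
  have hP : (P : Subgroup G) ≤ N ⊔ (P : Subgroup G) := le_sup_right
  generalize_proofs hle at hη
  revert hle η
  generalize N ⊔ (P : Subgroup G) = H at hq hP ⊢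
  intro η hle hη
  haveI := Fintype.ofFinite H
  have hN := isPBlock_principalBlock (M := M) (G := N)
  have ho : Over (Subgroup.inclusion hle) (η : H → ℂ) (θ : N → ℂ) := by
    letI := Fintype.ofFinite N
    rw [over_iff, funext hη]; exact θ.2.classInner_self.trans_ne one_ne_zero
  have key : ∀ b : Set (IrrCharacter H), IsPBlock M b →
      EB M b * EB M (principalBlock M N) ≠ 0 →
      EB M b = orbSum H N (EB M (principalBlock M N)) := fun b hb h =>
    (blk_EB hb).eq_orbSum_of_pquo hM (blk_EB hN) hle Subgroup.le_normalizer_of_normal hq h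
  have h1 : η ∈ principalBlock M H := by
    have hb := isPBlock_blockOf (M := M) η
    have h0 := isPBlock_principalBlock (M := M) (G := H)
    have h2 : Over (Subgroup.inclusion hle) (principalIrr H : H → ℂ) (principalIrr N : N → ℂ) := by
      letI := Fintype.ofFinite N
      exact over_iff.2 ((principalIrr N).2.classInner_self.trans_ne one_ne_zero)
    rw [← EB_inj hb.isBlockUnion h0.isBlockUnion ((key _ hb (ho.EB_mul_EB hle
      hb.isBlockUnion hN.isBlockUnion (mem_blockOf_self η) hθ)).trans (key _ h0
        (h2.EB_mul_EB hle h0.isBlockUnion hN.isBlockUnion principalIrr_mem principalIrr_mem)).symm)]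
    exact mem_blockOf_self η
  have h2 : (H.index * charDegree (η : H → ℂ)).factorization p = 0 := by
    refine Nat.factorization_eq_zero_of_not_dvd fun h => (hM.1.dvd_mul.1 h).elim (fun h => ?_) ?_
    · exact P.not_dvd_index (h.trans (Subgroup.index_dvd_of_le hP))
    · rwa [deg_eq_of_apply_one ((hη 1).trans (irr_cast_deg θ).symm)]
  obtain ⟨χ, hχ, h3, a, h4, h5⟩ := exists_constituent_of_lam_res hM
    isPBlock_principalBlock.isBlockUnion
    (lam_res_principal_ne_zero hM (syl_top P) hP h1) fun χ _ => h2 ▸ Nat.zero_le _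
  refine ⟨χ, hχ, fun h => (hM.1.factorization_pos_of_dvd (deg_ne_zero χ.2) h).ne' (h3.trans h2), ?_⟩
  have h6 : Over H.subtype (χ : G → ℂ) (η : H → ℂ) := by
    rw [over_subtype_iff, ← classInner_indFun_right _ χ.2.isClassFunction, Ne,
      classInner_eq_zero_comm, h4, Nat.cast_eq_zero]
    rintro rfl
    exact h5 (dvd_zero p)
  have h7 := h6.trans χ.2.isCharacter ho
  rw [Subgroup.subtype_comp_inclusion] at h7
  letI := Fintype.ofFinite N
  exact over_subtype_iff.1 h7

end Cfsg.Agent.S4583
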