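import Cfsg.Statements.S4584
import Cfsg.Agent.Lib.PGrp.MaxClass

set_option autoImplicit false
open Cfsg

namespace Cfsg.Agent.S4584

open Cfsg.Lib Cfsg.Lib.PGrp Subgroup
open scoped commutatorElement Pointwise

/-- Let p be a prime and P a group of order p^4. Then the derived subgroup P' has order p if and only if the centre Z(P) has index p^2 in P. -/
theorem result {P : Type*} [Group P] [Finite P] (p : ℕ) [Fact p.Prime] (hP : Nat.card P = p ^ 4) :
    Nat.card (commutator P) = p ↔ (Subgroup.center P).index = p ^ 2 := by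
  have hp : p.Prime := Fact.out
  have hG : IsPGroup p P := IsPGroup.of_card hP
  constructor
  · intro h
    obtain ⟨k, hk, hZ⟩ := (Nat.dvd_prime_pow hp).1 (hP ▸ (center P).index_dvd_card)
    have hna : ¬ ∀ x y : P, x * y = y * x := fun hc => by
      have : _root_.commutator P = ⊥ := by
        rw [_root_.commutator_def, commutator_eq_bot_iff_le_centralizer]
        intro x _ y _
        exact hc y x
      rw [this, card_bot] at h
      exact hp.one_lt.ne h
    have h2 : 2 ≤ k := by
      by_contra h2
      rcases eq_top_or_index_eq hG (H := center P) (hZ ▸ by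
        calc p ^ k ≤ p ^ 1 := Nat.pow_le_pow_right hp.pos (by omega)
          _ = p := pow_one p) with h3 | h3
      · exact hna fun x y => (mem_center_iff.1 (h3 ▸ mem_top y : y ∈ center P) x)
      · have := isCyclic_of_prime_card (α := P ⧸ center P) (p := p) h3
        obtain ⟨b, hb⟩ := (isCyclic_quotient_iff _).1 this
        exact hna (comm_of_sup_zpowers_eq_top le_rfl hb)
    rw [hZ]
    congr 1
    by_contra h3
    -- the centre has order at most `p`
    have hZc : Nat.card (center P) ≤ p := by
      have := (center P).card_mul_index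
      rw [hZ, hP] at this
      have h4 : Nat.card (center P) * p ^ 3 ≤ p * p ^ 3 := by
        calc _ ≤ Nat.card (center P) * p ^ k :=
            Nat.mul_le_mul_left _ (Nat.pow_le_pow_right hp.pos (by omega))
          _ = p * p ^ 3 := by rw [this]; ring
      exact Nat.le_of_mul_le_mul_right h4 (pow_pos hp.pos 3)
    obtain ⟨N, hN, -, hNc⟩ := exists_normal_le_card_eq hG ⊤ 2 (by
      rw [card_top, hP]; exact Nat.pow_le_pow_right hp.pos (by omega))
    obtain ⟨A, hA, hAc, hNA, hC⟩ := exists_normal_self_centralizing hG N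
      (isMulCommutative_of_card_le_sq (hG.to_subgroup N) hNc.le)
    have hZA : center P ≤ A := hC ▸ center_le_centralizer _
    have hAt : A ≠ ⊤ := fun e => hna fun x y => comm_of_mem hAc (e ▸ mem_top x) (e ▸ mem_top y)
    obtain ⟨x, hx⟩ : ∃ x, x ∉ A := by
      by_contra h4
      push Not at h4
      exact hAt (eq_top_iff.2 fun x _ => h4 x)
    have hA3 : Nat.card A ≤ p ^ 3 :=
      card_le_pow_of_lt (hG.to_subgroup A) (hP ▸ card_lt_of_ne_top hAt)
    by_cases hA2 : Nat.card A ≤ p ^ 2
    · have h5 := index_centralizer_le_of_card_le_sq hG A hA2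
      rw [hC] at h5
      have := A.card_mul_index
      rw [hP] at this
      have h6 : p ^ 4 ≤ p ^ (2 + 1) := this.ge.trans (Nat.mul_le_mul hA2 h5)
      exact absurd h6 (not_le.2 (Nat.pow_lt_pow_right hp.one_lt (by omega)))
    · have hA4 : Nat.card A = p ^ 3 :=
        le_antisymm hA3 (pow_succ_le_card_of_lt (hG.to_subgroup A) (not_le.1 hA2))
      have hi : A.index = p := by
        have := A.card_mul_index
        rw [hA4, hP, pow_succ p 3] at this
        exact Nat.eq_of_mul_eq_mul_left (pow_pos hp.pos 3) this
      have hs : A ⊔ zpowers x = ⊤ :=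
        ((isCoatom_iff_index_eq hG).2 hi).2 _ (left_lt_sup.2 fun h => hx (zpowers_le.1 h))
      have h5 := card_commutator_mul hAc hs
      have h6 : A ⊓ centralizer {x} ≤ center P := by
        rintro a ⟨h1, h2⟩
        rw [← centralizer_univ, ← coe_top, ← hs, centralizer_sup', centralizer_zpowers]
        exact ⟨hC.ge h1, h2⟩
      have h7 := (card_le_of_le h6).trans hZc
      rw [h, hA4] at h5
      have h8 : p ^ 3 ≤ p * p := h5 ▸ Nat.mul_le_mul_left _ h7
      have h9 : p ^ 2 < p ^ 3 := Nat.pow_lt_pow_right hp.one_lt (by omega)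
      rw [← sq] at h8
      omega
  · intro h
    obtain ⟨A, hZA, hA, hAn⟩ := exists_index_eq_of_ne_top hG (H := center P) (fun e => by
      rw [e, index_top] at h
      exact (Nat.one_lt_pow two_ne_zero hp.one_lt).ne h)
    have hr : (center P).relIndex A = p := by
      have := relIndex_mul_index hZA
      rw [hA, h, sq] at this
      exact Nat.eq_of_mul_eq_mul_right hp.pos this
    have hAc : IsMulCommutative A := by
      have := isCyclic_of_prime_card (α := A ⧸ (center P).subgroupOf A) (p := p) hr
      obtain ⟨b, hb⟩ := (isCyclic_quotient_iff _).1 this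
      exact ⟨⟨comm_of_sup_zpowers_eq_top (fun z hz => mem_center_iff.2 fun y =>
        Subtype.ext (mem_center_iff.1 (mem_subgroupOf.1 hz) y)) hb⟩⟩
    obtain ⟨x, hx⟩ : ∃ x, x ∉ A := by
      by_contra h4
      push Not at h4
      rw [show A = ⊤ from eq_top_iff.2 fun x _ => h4 x, index_top] at hA
      exact hp.one_lt.ne hA
    have hs : A ⊔ zpowers x = ⊤ :=
      ((isCoatom_iff_index_eq hG).2 hA).2 _ (left_lt_sup.2 fun h => hx (zpowers_le.1 h))
    have h5 := card_commutator_mul hAc hs
    have h6 : A ⊓ centralizer {x} = center P := by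
      refine le_antisymm ?_ (le_inf hZA (center_le_centralizer _))
      rintro a ⟨h1, h2⟩
      rw [← centralizer_univ, ← coe_top, ← hs, centralizer_sup', centralizer_zpowers]
      exact ⟨fun y hy => comm_of_mem hAc hy h1, h2⟩
    rw [h6, ← card_mul_relIndex_of_le hZA, hr, mul_comm] at h5
    exact Nat.eq_of_mul_eq_mul_left Nat.card_pos h5

end Cfsg.Agent.S4584
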