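import Cfsg.Statements.S4585
import Cfsg.Agent.Lib.PGrp.MaxClass

set_option autoImplicit false
open Cfsg

namespace Cfsg.Agent.S4585

open Cfsg.Lib Cfsg.Lib.PGrp Subgroup
open scoped commutatorElement Pointwise

/-- Let p be a prime and P a group of order p^4. Then P' has index p^2 in P if and only if P has maximal nilpotency class, that is, nilpotency class exactly 3. -/
theorem result {P : Type*} [Group P] [Finite P] (p : ℕ) [Fact p.Prime] (hP : Nat.card P = p ^ 4) :
    (commutator P).index = p ^ 2 ↔ Group.nilpotencyClass P = 3 := by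
  have hp : p.Prime := Fact.out
  have hG : IsPGroup p P := IsPGroup.of_card hP
  refine ⟨fun h => ?_, fun h => index_commutator_of_maxClass hP h (by omega)⟩
  have := hG.isNilpotent
  have h1 : Group.nilpotencyClass P ≤ 3 :=
    Subgroup.lowerCentralSeries_eq_bot_iff_nilpotencyClass_le.1 (lcs_eq_bot_of_card_le hG (k := 2) hP.le)
  by_contra h2
  have h3 : (⊤ : Subgroup P).lowerCentralSeries 2 = ⊥ :=
    Subgroup.lowerCentralSeries_eq_bot_iff_nilpotencyClass_le.2 (by omega)
  have h4 : _root_.commutator P ≤ center P :=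
    commutator_le_center_iff.2 (commutator_commutator_top_eq_bot_iff.1 h3)
  have hc : Nat.card (_root_.commutator P) = p ^ 2 := by
    have := (_root_.commutator P).card_mul_index
    rw [h, hP, show p ^ 4 = p ^ 2 * p ^ 2 by ring] at this
    exact Nat.eq_of_mul_eq_mul_right (pow_pos hp.pos 2) this
  obtain ⟨A, hZA, hA, hAn⟩ := exists_index_eq_of_ne_top hG (H := _root_.commutator P) (fun e => by
    rw [e, index_top] at h
    exact (Nat.one_lt_pow two_ne_zero hp.one_lt).ne h)
  have hr : (_root_.commutator P).relIndex A = p := by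
    have := relIndex_mul_index hZA
    rw [hA, h, sq] at this
    exact Nat.eq_of_mul_eq_mul_right hp.pos this
  have hAc : IsMulCommutative A := by
    have := isCyclic_of_prime_card (α := A ⧸ (_root_.commutator P).subgroupOf A) (p := p) hr
    obtain ⟨b, hb⟩ := (isCyclic_quotient_iff _).1 this
    exact ⟨⟨comm_of_sup_zpowers_eq_top (fun z hz => mem_center_iff.2 fun y =>
      Subtype.ext (mem_center_iff.1 (h4 (mem_subgroupOf.1 hz)) y)) hb⟩⟩
  obtain ⟨x, hx⟩ : ∃ x, x ∉ A := by
    by_contra h4
    push Not at h4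
    rw [show A = ⊤ from eq_top_iff.2 fun x _ => h4 x, index_top] at hA
    exact hp.one_lt.ne hA
  have hs : A ⊔ zpowers x = ⊤ :=
    ((isCoatom_iff_index_eq hG).2 hA).2 _ (left_lt_sup.2 fun h => hx (zpowers_le.1 h))
  have h5 := card_commutator_mul hAc hs
  have h6 := card_le_of_le (le_inf hZA (h4.trans (center_le_centralizer {x})))
  rw [← card_mul_relIndex_of_le hZA, hr] at h5
  rw [Nat.eq_of_mul_eq_mul_left Nat.card_pos h5, hc] at h6
  nlinarith [hp.one_lt]

end Cfsg.Agent.S4585
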