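import Cfsg.Statements.S4586
import Cfsg.Agent.Lib.PGrp.MaxClass

set_option autoImplicit false
open Cfsg

namespace Cfsg.Agent.S4586

open Cfsg.Lib Cfsg.Lib.PGrp Subgroup
open scoped commutatorElement Pointwise

/-- Let p be a prime, P a finite p-group and N a normal subgroup of P of index p. For x ∈ P write c(x) for the number of elements n of N whose commutator x n x⁻¹ n⁻¹ lies in the derived subgroup N' (so c(x)/#N' is the order of the centralizer of x acting on N/N'). Then [P : P'] = p² if and only if c(x) = p·#N' for every x ∈ P outside N, and also if and only if c(x) = p·#N' for some x ∈ P outside N. -/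
theorem result {P : Type*} [Group P] [Finite P] (p : ℕ) [Fact p.Prime] (hP : IsPGroup p P) (N : Subgroup P) [N.Normal] (hN : N.index = p) :
    ((commutator P).index = p ^ 2 ↔ ∀ x : P, x ∉ N →
        Nat.card {n : N // x * n * x⁻¹ * (n : P)⁻¹ ∈ (commutator N).map N.subtype} = p * Nat.card (commutator N)) ∧
    ((commutator P).index = p ^ 2 ↔ ∃ x : P, x ∉ N ∧
        Nat.card {n : N // x * n * x⁻¹ * (n : P)⁻¹ ∈ (commutator N).map N.subtype} = p * Nat.card (commutator N)) := by
  have hp : p.Prime := Fact.out
  obtain ⟨D, hD⟩ : ∃ D, D = (_root_.commutator N).map N.subtype := ⟨_, rfl⟩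
  have hDN : D ≤ N := hD ▸ map_subtype_le _
  have hDn : D.Normal := hD ▸ inferInstance
  have hDc : Nat.card D = Nat.card (_root_.commutator N) := by
    rw [hD, card_map_of_injective N.subtype_injective]
  have hD' : D = ⁅N, N⁆ := by
    rw [hD, _root_.commutator_def, map_commutator, ← MonoidHom.range_eq_map, range_subtype]
  have hDP : D ≤ _root_.commutator P := hD' ▸ commutator_mono le_top le_top
  rw [← hD, ← hDc]
  have key : ∀ x : P, x ∉ N → Nat.card (_root_.commutator P) *
      Nat.card {n : N // x * n * x⁻¹ * (n : P)⁻¹ ∈ D} = Nat.card D * Nat.card N := by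
    intro x hx
    have hs : N ⊔ zpowers x = ⊤ :=
      ((isCoatom_iff_index_eq hP).2 hN).2 _ (left_lt_sup.2 fun h => hx (zpowers_le.1 h))
    have hA : IsMulCommutative (N.map (QuotientGroup.mk' D)) := by
      rw [isMulCommutative_iff_forall]
      rintro _ ⟨a, ha, rfl⟩ _ ⟨b, hb, rfl⟩
      rw [← commutatorElement_eq_one_iff_mul_comm, ← map_commutatorElement, QuotientGroup.mk'_apply,
        QuotientGroup.eq_one_iff, hD']
      exact commutator_mem_commutator ha hb
    have := (inferInstance : N.Normal).map _ (QuotientGroup.mk'_surjective D)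
    have h1 := card_commutator_mul hA (x := QuotientGroup.mk' D x) (by
      rw [← MonoidHom.map_zpowers, ← Subgroup.map_sup, hs, map_top_of_surjective _
        (QuotientGroup.mk'_surjective D)])
    have h2 : _root_.commutator (P ⧸ D) = (_root_.commutator P).map (QuotientGroup.mk' D) := by
      rw [_root_.commutator_def, _root_.commutator_def, map_commutator, map_top_of_surjective _
        (QuotientGroup.mk'_surjective D)]
    have h3 := card_comap_mk' D (N.map (QuotientGroup.mk' D) ⊓
      centralizer {QuotientGroup.mk' D x})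
    have h4 : Nat.card ((N.map (QuotientGroup.mk' D) ⊓
        centralizer {QuotientGroup.mk' D x}).comap (QuotientGroup.mk' D)) =
        Nat.card {n : N // x * n * x⁻¹ * (n : P)⁻¹ ∈ D} := by
      rw [comap_inf, comap_map_eq, QuotientGroup.ker_mk', sup_of_le_left hDN]
      have h5 : ∀ n : P, n ∈ (centralizer {QuotientGroup.mk' D x}).comap (QuotientGroup.mk' D) ↔
          x * n * x⁻¹ * n⁻¹ ∈ D := by
        intro n
        rw [mem_comap, mem_centralizer_singleton_iff, eq_comm, ← commutatorElement_eq_one_iff_mul_comm,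
          ← map_commutatorElement, QuotientGroup.mk'_apply, QuotientGroup.eq_one_iff]
        rfl
      exact Nat.card_congr ⟨fun n => ⟨⟨n.1, n.2.1⟩, (h5 _).1 n.2.2⟩,
        fun n => ⟨n.1, n.1.2, (h5 _).2 n.2⟩, fun _ => rfl, fun _ => rfl⟩
    rw [h2, card_map_mk', card_map_mk'] at h1
    rw [← h4, h3, ← card_mul_relIndex_of_le hDP, ← card_mul_relIndex_of_le hDN, ← h1]
    ring
  have key2 : ∀ x : P, x ∉ N → ((_root_.commutator P).index = p ^ 2 ↔
      Nat.card {n : N // x * n * x⁻¹ * (n : P)⁻¹ ∈ D} = p * Nat.card D) := by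
    intro x hx
    have h1 := key x hx
    have h2 := (_root_.commutator P).card_mul_index
    rw [← N.card_mul_index, hN] at h2
    have h3 : 0 < Nat.card (_root_.commutator P) := Nat.card_pos
    have h4 : 0 < Nat.card D := Nat.card_pos
    have h5 : Nat.card {n : N // x * n * x⁻¹ * (n : P)⁻¹ ∈ D} * p =
        Nat.card D * (_root_.commutator P).index :=
      Nat.eq_of_mul_eq_mul_left h3 (by rw [← mul_assoc, h1, mul_left_comm, h2]; ring)
    constructor
    · intro h
      exact Nat.eq_of_mul_eq_mul_right hp.pos (by rw [h5, h]; ring)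
    · intro h
      exact Nat.eq_of_mul_eq_mul_left h4 (by rw [← h5, h]; ring)
  obtain ⟨x, hx⟩ : ∃ x, x ∉ N := by
    by_contra h4
    push Not at h4
    rw [show N = ⊤ from eq_top_iff.2 fun x _ => h4 x, index_top] at hN
    exact hp.one_lt.ne hN
  exact ⟨⟨fun h y hy => (key2 y hy).1 h, fun h => (key2 x hx).2 (h x hx)⟩,
    ⟨fun h => ⟨x, hx, (key2 x hx).1 h⟩, fun ⟨y, hy, h⟩ => (key2 y hy).2 h⟩⟩

end Cfsg.Agent.S4586
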