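import Cfsg.Statements.S4588
import Cfsg.Agent.Lib.Small.Cartan

set_option autoImplicit false
open Cfsg

namespace Cfsg.Agent.S4588

open Cfsg.Lib Cfsg.Lib.Block Cfsg.Lib.Block2 Cfsg.Lib.Char Cfsg.Lib.Amalg Cfsg.Lib.Small Subgroup

/-- Let G be a finite group, p a prime and M a maximal ideal of the algebraic integers containing p. If some p-element x of G (possibly x = 1) has centralizer whose order has p-part at most p², then the principal p-block of G contains at most p² irreducible characters of degree prime to p. -/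
theorem result {G : Type*} [Group G] [Finite G] (p : ℕ) [Fact p.Prime] (M : Ideal Cfsg.AlgInt) (hM : Cfsg.IsPModular p M)
    (hx : ∃ x : G, (∃ k : ℕ, orderOf x = p ^ k) ∧ (Nat.card (Subgroup.centralizer ({x} : Set G))).factorization p ≤ 2) :
    Nat.card {χ : Cfsg.IrrCharacter G // χ ∈ Cfsg.principalBlock M G ∧ ¬ p ∣ Cfsg.charDegree (χ : G → ℂ)} ≤ p ^ 2 := by
  classical
  have := hM.2.1
  haveI := Fintype.ofFinite G
  obtain ⟨x, hx, h⟩ := hx
  obtain ⟨D, hD, h1⟩ := exists_syl_ge (p := p) (P := zpowers x) (H := centralizer {x}) (isPGroup_zpowers hx)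
    (zpowers_le.2 (mem_centralizer_singleton_iff.2 rfl))
  have h2 : Nat.card D ∣ p ^ 2 := hD.card_eq_pow ▸ pow_dvd_pow _ h
  refine le_trans ?_ (Nat.le_of_dvd (pow_pos hM.1.pos _) h2)
  by_cases h3 : x = 1
  · rw [h3, show centralizer {(1 : G)} = ⊤ by simp] at hD
    exact le_trans (Nat.card_le_card_of_injective (fun χ => (⟨χ.1, χ.2.1⟩ : principalBlock M G))
      fun _ _ e => Subtype.ext (congrArg (·.1) e))
      (card_le_of_dvd_sq hM isPBlock_principalBlock (isDefectGroup_principalBlock hM hD) h2)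
  obtain ⟨y, hy⟩ := exists_two_gen h2 (h1 (mem_zpowers x)) h3
  have h4 := (isInducedBlock_cent_iff hM (isPGroup_zpowers hx) isPBlock_principalBlock
    isPBlock_principalBlock).2 (bpo_principal hM (isPGroup_zpowers hx))
  rw [centralizer_zpowers_eq] at h4
  rw [Nat.card_eq_fintype_card, Fintype.card_subtype]
  refine card_le_of_two_gen hM h4 hD.le (isDefectGroup_principalBlock hM hD.subgroupOf_top) hy fun χ hχ => ?_
  obtain ⟨h5, h6⟩ := (Finset.mem_filter.1 hχ).2
  have h7 := blockHeight_eq_zero_of_not_dvd (B := principalBlock M G) h6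
  exact ⟨h5, fun e => ne_zero_of_not_memLocalIdeal (ctr_notMem hM rfl hx h4 h5 h5 h7 h7)
    (by rw [ctr, e, classInner_zero_right, mul_zero])⟩

end Cfsg.Agent.S4588
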