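import Cfsg.Statements.S4594
import Cfsg.Agent.Lib.SCl.FusCore
import Cfsg.Agent.Lib.Mult.Hopf
import Cfsg.Agent.S2116

set_option autoImplicit false
open Cfsg Cfsg.Lib Cfsg.Lib.SCl Cfsg.Lib.Amalg Cfsg.Lib.Invol Subgroup
open QuotientGroup (mk' mk'_surjective ker_mk')
open scoped commutatorElement

namespace Cfsg.Agent.S4594

/-- Let G be a finite quasisimple group with a non-abelian Sylow 2-subgroup P whose centre has index 4 in P. Then P has order 8, and G is isomorphic to the alternating group on 7 letters, or G has centre of order 3 with central quotient isomorphic to the alternating group on 7 letters, or the central quotient of G is isomorphic to PSL(2, F) for some finite field F of odd order. -/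
theorem result {G : Type*} [Group G] [Finite G] (hq : Cfsg.IsQuasisimple G) (P : Sylow 2 G) (hna : ¬ IsMulCommutative (P : Subgroup G)) (hZ : (Subgroup.center (P : Subgroup G)).index = 4) :
    Nat.card (P : Subgroup G) = 8 ∧
      (Nonempty (G ≃* alternatingGroup (Fin 7)) ∨
       (Nat.card (Subgroup.center G) = 3 ∧ Nonempty (G ⧸ Subgroup.center G ≃* alternatingGroup (Fin 7))) ∨
       ∃ (F : Type) (_ : Field F) (_ : Fintype F), Odd (Fintype.card F) ∧ Nonempty (G ⧸ Subgroup.center G ≃* Matrix.ProjectiveSpecialLinearGroup (Fin 2) F)) := by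
  have : Fact (Nat.Prime 2) := ⟨Nat.prime_two⟩
  have := hq.2
  have hp : commutator G = ⊤ := hq.1.commutator_eq_top
  have hS := syl_top P
  generalize (P : Subgroup G) = S at *
  have hG : ¬ IsMulCommutative (G ⧸ center G) := fun h => hna ⟨⟨fun a b => Subtype.ext (mem_center_iff.1 ((top_le_iff.2 hp).trans
    (Normal.quotient_commutative_iff_commutator_le.1 h) (mem_top (b : G))) a)⟩⟩
  have hS' := hS.map_top (mk'_surjective (center G))
  have hD := card_comm_two hS.isPGroup hna hZ.le
  have h1 : S ⊓ center G ≤ ⁅S, S⁆ := by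
    obtain ⟨k, hk⟩ := IsPGroup.iff_card.1 hS.isPGroup
    have := Transfer.inf_commutator_inf_center_le S (((Nat.Prime.coprime_iff_not_dvd Nat.prime_two).2 hS.not_dvd_index).symm.pow_right
      k |>.coprime_dvd_right (hk ▸ relIndex_dvd_card _ _))
    rwa [hp, inf_top_eq] at this
  have h2 : Nat.card (S.map (mk' (center G))) * Nat.card (S ⊓ center G : Subgroup G) = Nat.card S := by
    rw [← relIndex_ker, ker_mk', mul_comm, ← card_mul_index ((center G).subgroupOf S), ← card_map_of_injective S.subtype_injective,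
      subgroupOf_map_subtype, inf_comm]; rfl
  have a7 : Nat.card (alternatingGroup (Fin 7)) = 2520 := by rw [nat_card_alternatingGroup]; simp [Nat.factorial]
  by_cases h3 : ⁅S, S⁆ ≤ center G
  · have hc : IsMulCommutative (S.map (mk' (center G))) := ⟨⟨by
      rintro ⟨_, a, ha, rfl⟩ ⟨_, b, hb, rfl⟩
      exact Subtype.ext (commutatorElement_eq_one_iff_mul_comm.1 ((map_commutatorElement _ _ _).symm.trans
        ((QuotientGroup.eq_one_iff _).2 (h3 (commutator_mem_commutator ha hb)))))⟩⟩
    have g := Wal.gd_of_comm hG hS' hc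
    have t : ∀ s ∈ S, s ∉ center G → orderOf (mk' (center G) s) = 2 := fun s hs e =>
      two_of_mul_self (g.el _ ((GW.Two.of_mem hS.isPGroup hs).map _)) fun e' => e ((QuotientGroup.eq_one_iff _).1 e')
    have h4 : (center S).map S.subtype = S ⊓ center G := le_antisymm (by
      rintro _ ⟨z, hz, rfl⟩
      refine ⟨z.2, by_contra fun e => hna ⟨⟨fun a b => Subtype.ext ?_⟩⟩⟩
      by_cases e' : (b : G) ∈ center G
      · exact mem_center_iff.1 e' a
      exact comm_of_cen hS (fun s hs => congrArg Subtype.val (mem_center_iff.1 hz ⟨s, hs⟩)) (g.one _ _ (t z z.2 e) (t b b.2 e'))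
        (GW.Two.of_mem hS.isPGroup a.2) (h3 (commutator_mem_commutator a.2 b.2)))
      fun z hz => ⟨⟨z, hz.1⟩, mem_center_iff.2 fun a => Subtype.ext (mem_center_iff.1 hz.2 a), rfl⟩
    have h5 : Nat.card (S ⊓ center G : Subgroup G) = 2 := by rw [le_antisymm h1 (le_inf (commutator_le_self S) h3), hD]
    have h6 : Nat.card S = 8 := by
      rw [← (center S).card_mul_index, hZ, ← card_map_of_injective S.subtype_injective, h4, h5]
    have h7 : Nat.card (S.map (mk' (center G))) = 4 := by rw [h5] at h2; omega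
    refine ⟨h6, Or.inr (Or.inr ?_)⟩
    rcases GW.known_of_simple _ hG (Exc.dc2_of_card_four hS'.sylowIn h7) with ⟨F, _, _, h, -, e⟩ | ⟨⟨e⟩⟩
    · exact ⟨F, _, _, h, e⟩
    · have k := card_mul_index (S.map (mk' (center G)))
      have := hS'.not_dvd_index
      rw [h7, Nat.card_congr e.toEquiv, a7] at k
      omega
  have h4 : S ⊓ center G = ⊥ := by
    by_contra e
    exact h3 ((eq_of_le_of_card_ge h1 (hD.trans_le (one_lt_card_iff_ne_bot _ |>.2 e))).ge.trans inf_le_right)
  have f : S ≃* S.map (mk' (center G)) := MulEquiv.ofBijective ((mk' (center G)).subgroupMap S) ⟨(injective_iff_map_eq_one _).2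
    fun a ha => Subtype.ext (h4.le ⟨a.2, (QuotientGroup.eq_one_iff _).1 (congrArg Subtype.val ha)⟩), MonoidHom.subgroupMap_surjective _ _⟩
  obtain ⟨e⟩ := d8_of_index hG hS' (fun h => hna ⟨⟨fun a b => f.injective (by rw [map_mul, map_mul, h.1.1])⟩⟩) (by
    rw [← index_comap_of_surjective _ (f := f.toMonoidHom) f.surjective]
    refine le_trans (index_antitone fun a ha => mem_center_iff.2 fun b => ?_) hZ.le
    obtain ⟨b, rfl⟩ := f.surjective b
    exact (map_mul f _ _).symm.trans ((congrArg f (mem_center_iff.1 ha b)).trans (map_mul f _ _)))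
  refine ⟨by rw [Nat.card_congr (f.trans e).toEquiv, DihedralGroup.nat_card], ?_⟩
  rcases GW.known_of_simple _ hG (GW.dc2_of_dihedral hS'.toSylowTop e) with ⟨F, _, _, h, -, e⟩ | ⟨⟨e⟩⟩
  · exact Or.inr (Or.inr ⟨F, _, _, h, e⟩)
  have k : (e.toMonoidHom.comp (mk' (center G))).ker = center G := by ext; simp
  obtain ⟨π, hπ⟩ := Mult.surj_of_stem (Agent.S2116.result 7 (Or.inr rfl)) (σ := e.toMonoidHom.comp (mk' _))
    ⟨e.surjective.comp (mk'_surjective _), k.le, hp ▸ le_top⟩
  have h5 : Nat.card (center G) ∣ 6 := by simpa [k] using card_dvd_of_surjective π hπ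
  have h6 := (hS.inf_normal_top (center G)).eq_bot_iff.1 h4
  have h7 := Nat.le_of_dvd (by norm_num) h5
  rcases (by interval_cases Nat.card (center G) <;> omega : Nat.card (center G) = 1 ∨ Nat.card (center G) = 3) with h | h
  · exact Or.inl ⟨MulEquiv.ofBijective (e.toMonoidHom.comp (mk' _)) ⟨(MonoidHom.ker_eq_bot_iff _).1 (k.trans (card_eq_one.1 h)),
      e.surjective.comp (mk'_surjective _)⟩⟩
  · exact Or.inr (Or.inl ⟨h, ⟨e⟩⟩)

end Cfsg.Agent.S4594
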