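import Cfsg.Statements.S4601
import Cfsg.Agent.Lib.Core.PSolvable
import Cfsg.Agent.Lib.Coprime.Sylow
import Cfsg.Agent.Lib.Amalg.Bridge
import Cfsg.Agent.Lib.Hall.SylNum
import Cfsg.Agent.Lib.Hall.ClassSize

set_option autoImplicit false
open Cfsg

namespace Cfsg.Agent.S4601

open Cfsg.Lib Cfsg.Lib.Amalg Subgroup
open scoped commutatorElement Pointwise

theorem aux.{u} (p q : ℕ) [hp : Fact p.Prime] [hq : Fact q.Prime] (hpq : p ≠ q) (n : ℕ) :
    ∀ (G : Type u) [Group G] [Finite G], Nat.card G = n → IsPSolvable p G ∨ IsPSolvable q G →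
    (∀ y : G, IsPGroup q (zpowers y) → ¬ p ∣ (centralizer ({y} : Set G)).index) →
    ∃ Q : Subgroup G, Syl q Q ⊤ ∧ ¬ p ∣ (normalizer (Q : Set G)).index := by
  induction n using Nat.strong_induction_on with | _ n ih => ?_
  rintro G _ _ rfl hs h
  rcases subsingleton_or_nontrivial G with _ | _
  · obtain ⟨Q, hQ⟩ := exists_syl q (⊤ : Subgroup G)
    exact ⟨Q, hQ, by rw [Subsingleton.elim (normalizer _) ⊤, index_top]; exact hp.out.not_dvd_one⟩
  obtain ⟨N, hN, h0, hmin⟩ := Hall.exists_minNormal (G := G)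
  have hf := QuotientGroup.mk'_surjective N
  obtain ⟨R, hR, h1⟩ := ih _ (Hall.card_quotient_lt h0) (G ⧸ N) rfl
    (hs.imp (Core.isPSolvable_quotient hp.out · N) (Core.isPSolvable_quotient hq.out · N)) fun y hy => by
      obtain ⟨x, rfl, hx⟩ := Hall.exists_lift_isPGroup hf hq.out hy
      exact fun hd => h x hx (hd.trans (Hall.cs_map_dvd hf x))
  set L := R.comap (QuotientGroup.mk' N)
  obtain ⟨Q, hQ⟩ := exists_syl q L
  have hNL : N ≤ L := fun x hx => by simp [L, (QuotientGroup.eq_one_iff x).2 hx]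
  have hL : N ⊔ Q = L := by
    have h2 := (hQ.map (QuotientGroup.mk' N)).eq_of_isPGroup (by
      rw [map_comap_eq_self_of_surjective hf]; exact hR.isPGroup)
    rw [← QuotientGroup.comap_map_mk' N, h2, QuotientGroup.comap_map_mk', sup_eq_right.2 hNL]
  refine ⟨Q, hQ.of_le_of_not_dvd le_top (by
    rw [relIndex_top_right, Hall.index_comap_mk']; exact hR.not_dvd_index), fun hd => ?_⟩
  have h2 : ¬ p ∣ (normalizer (L : Set G)).index := fun hd => h1 (by
    rw [← Hall.index_comap_mk']
    exact hd.trans (index_dvd_of_le (le_normalizer_comap _)))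
  have h3 : (normalizer (Q : Set G)).relIndex (normalizer (L : Set G)) =
      (normalizer (Q : Set G)).relIndex N := by
    rw [← hQ.frattini le_normalizer le_rfl, Hall.relIndex_sup_eq inf_le_right inf_le_left, ← hL,
      Hall.relIndex_sup_eq le_normalizer le_normalizer_of_normal']
  have h4 := hd.trans (index_dvd_of_le (inf_le_left (b := normalizer (L : Set G))))
  rw [← relIndex_mul_index inf_le_right, inf_relIndex_right, h3, hp.out.dvd_mul, or_iff_left h2] at h4
  have h5 : (Nat.card N).Coprime q := by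
    have hpN : ¬ (Nat.card N).Coprime p := fun hc =>
      (Nat.Prime.coprime_iff_not_dvd hp.out).1 hc.symm (h4.trans (relIndex_dvd_card _ _))
    rcases hs with hs | hs
    · rcases Core.isPGroup_or_coprime_of_minimal_normal hp.out N
        (Core.isPSolvable_subgroup hp.out hs N) hmin with h5 | h5
      · exact Core.coprime_card_of_isPGroup hp.out h5 ((Nat.coprime_primes hq.out hp.out).2 hpq.symm)
      · exact absurd h5 hpN
    · exact (Core.isPGroup_or_coprime_of_minimal_normal hq.out N
        (Core.isPSolvable_subgroup hq.out hs N) hmin).resolve_left fun h5 =>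
        hpN (Core.coprime_card_of_isPGroup hq.out h5 ((Nat.coprime_primes hp.out hq.out).2 hpq))
  have hc := Core.coprime_card_of_isPGroup hq.out hQ.isPGroup h5
  obtain ⟨S, hS, h6⟩ := Coprime.exists_invariant_sylowIn (A := Q) (K := N) le_normalizer_of_normal' hc
    (.inl (Coprime.isSolvable_of_isPGroup hQ.isPGroup)) p
  refine (syl_of_sylowIn hS).not_dvd_relIndex_of_le ((le_cent_symm fun y hy => ?_).trans
    (cent_le_norm Q)) h4
  have hz := zpowers_le.2 hy
  have h7 := syl_of_sylowIn (Coprime.sylowIn_inf_centralizer (A := zpowers y) le_normalizer_of_normal'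
    (Coprime.coprime_card_of_le hc hz le_rfl) (.inl (Coprime.isSolvable_zpowers y)) hS (hz.trans h6))
  rw [zpowers_eq_closure, centralizer_closure] at h7
  have h8 := h7.of_le_of_not_dvd inf_le_left (by
    rw [inf_comm, inf_relIndex_right]
    exact fun hd => h y (hQ.isPGroup.to_le hz) (hd.trans (Hall.relIndex_dvd_index_of_normal_right _ N)))
  exact Hall.le_cent_iff.1 (inf_eq_left.1 (h8.eq_of_le _ inf_le_left hS.1 hS.2).symm)

/-- Let p and q be primes and G a finite group that is p-solvable or q-solvable, in which no q-element has conjugacy class size divisible by p. Then some Sylow p-subgroup of G normalizes some Sylow q-subgroup of G. -/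
theorem result {G : Type*} [Group G] [Finite G] (p q : ℕ) [Fact p.Prime] [Fact q.Prime] (hsolv : Cfsg.IsPSolvable p G ∨ Cfsg.IsPSolvable q G)
    (h : ∀ y : G, (∃ k : ℕ, orderOf y = q ^ k) → ¬ p ∣ (Subgroup.centralizer ({y} : Set G)).index) :
    ∃ (P : Sylow p G) (Q : Sylow q G), (P : Subgroup G) ≤ Subgroup.normalizer ((Q : Subgroup G) : Set G) := by
  rcases eq_or_ne p q with rfl | hpq
  · exact ⟨default, default, le_normalizer⟩
  obtain ⟨Q, h1, h2⟩ := aux p q hpq _ G rfl hsolv fun y hy => h y ((Hall.isPGroup_zpowers_iff Fact.out).1 hy)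
  obtain ⟨P, hP⟩ := Hall.exists_sylow_le_of_not_dvd_index h2
  exact ⟨P, h1.toSylowTop, hP⟩

end Cfsg.Agent.S4601
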