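import Cfsg.Statements.S4602
import Cfsg.Agent.Lib.Core.PSolvable
import Cfsg.Agent.Lib.Coprime.Sylow
import Cfsg.Agent.Lib.Amalg.Bridge

set_option autoImplicit false
open Cfsg

namespace Cfsg.Agent.S4602

open Cfsg.Lib Cfsg.Lib.Amalg Subgroup
open scoped commutatorElement Pointwise

/-- Let G be a finite p-solvable group and q a prime different from p. Some Sylow p-subgroup of G normalizes some Sylow q-subgroup of G if and only if q does not divide the order of G/O_{p'}(G), the quotient by the largest normal subgroup of order prime to p. -/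
theorem result {G : Type*} [Group G] [Finite G] (p q : ℕ) [Fact p.Prime] [Fact q.Prime] (hpq : p ≠ q) (hsolv : Cfsg.IsPSolvable p G) :
    (∃ (P : Sylow p G) (Q : Sylow q G), (P : Subgroup G) ≤ Subgroup.normalizer ((Q : Subgroup G) : Set G)) ↔ ¬ q ∣ (Cfsg.pPrimeCore p G).index := by
---
  have hp : p.Prime := Fact.out
  have hq : q.Prime := Fact.out
  constructor
  · rintro ⟨P, Q, h⟩
    let f := QuotientGroup.mk' (pPrimeCore p G)
    have hP := (syl_top P).map_top (f := f) (QuotientGroup.mk'_surjective _)
    have hQ := (syl_top Q).map_top (f := f) (QuotientGroup.mk'_surjective _)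
    have h1 := hP.pCore_le
    have h2 : pCore p _ ≤ normalizer ((Q : Subgroup G).map f : Set _) :=
      h1.trans ((map_mono h).trans (le_normalizer_map _))
    have h3 : ∀ R : Subgroup _, IsPGroup p R → R ⊓ (Q : Subgroup G).map f = ⊥ := fun R hR =>
      (IsPGroup.disjoint_of_ne p q hpq _ _ hR hQ.isPGroup).eq_bot
    have h4 : (Q : Subgroup G).map f ≤ pCore p _ := (comm_eq_bot_iff'.1 (le_bot_iff.1
      ((comm_le_inf le_normalizer_of_normal' h2).trans (h3 _ (Core.isPGroup_pCore p _)).le))).trans
      (Core.centralizer_pCore_le_of_isPSolvable hp (Core.isPSolvable_quotient hp hsolv _)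
        Core.pPrimeCore_quotient_pPrimeCore)
    rw [index_eq_card, ← card_top, ← hQ.eq_bot_iff, ← inf_eq_right.2 h4]
    exact h3 _ (Core.isPGroup_pCore p _)
  · intro h
    obtain ⟨P⟩ := (inferInstance : Nonempty (Sylow p G))
    have := P.isPGroup'.isNilpotent
    obtain ⟨Q, h1, h2⟩ := Coprime.exists_invariant_sylowIn (A := P) (K := pPrimeCore p G)
      le_normalizer_of_normal' (Core.coprime_card_of_isPGroup hp P.isPGroup'
        (Core.coprime_card_pPrimeCore p G)) (.inl inferInstance) q
    exact ⟨P, ((syl_of_sylowIn h1).of_le_of_not_dvd le_top (by rwa [relIndex_top_right])).toSylowTop, h2⟩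

end Cfsg.Agent.S4602
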