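import Cfsg.Statements.S4604
import Cfsg.Agent.Lib.Clifford.BrSuz

set_option autoImplicit false
open Cfsg

namespace Cfsg.Agent.S4604

open Cfsg.Lib Cfsg.Lib.Clifford Cfsg.Lib.Char Cfsg.Lib.Block Cfsg.Lib.Block2 Finset

theorem sum_pow_prime_pow {R : Type*} [CommRing R] {p : ℕ} (hp : p.Prime) (a : ℕ) (s : Multiset R) :
    ∃ r, s.sum ^ p ^ a = (s.map (· ^ p ^ a)).sum + p * r := by
  induction s using Multiset.induction_on with
  | empty => exact ⟨0, by simp [hp.ne_zero]⟩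
  | cons x s ih =>
    obtain ⟨r, hr⟩ := ih
    obtain ⟨t, ht⟩ := exists_add_pow_prime_pow_eq hp x s.sum a
    exact ⟨r + x * s.sum * t, by rw [Multiset.sum_cons, ht, hr]; simp; ring⟩

theorem char_pow {G : Type*} [Group G] [Finite G] {p : ℕ} (hp : p.Prime) (a : ℕ) {χ : G → ℂ}
    (hχ : IsCharacter G χ) (x : G) : ∃ γ : AlgInt, χ x ^ p ^ a = χ (x ^ p ^ a) + p * (γ : ℂ) := by
  obtain ⟨s, -, h1, h2, h3⟩ := hχ.exists_eigenvalues x
  have h4 : ∀ z ∈ s, z ∈ AlgInt := fun z hz =>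
    IsIntegral.of_pow (orderOf_pos x) (by rw [h1 z hz]; exact isIntegral_one)
  lift s to Multiset AlgInt using h4
  obtain ⟨r, hr⟩ := sum_pow_prime_pow hp a s
  refine ⟨r, ?_⟩
  have h5 := h3 (p ^ a : ℕ)
  simp only [zpow_natCast] at h5
  rw [h5, h2]
  have := congrArg AlgInt.val hr
  simpa [map_multiset_sum] using this

/-- Let G be a finite group, p a prime and p^a the p-part of the order of G. Let x, y ∈ G and let x′, y′ be their p-regular parts: x′ has order prime to p, commutes with x·x′⁻¹, and x·x′⁻¹ has p-power order (likewise for y). Then x′ and y′ are conjugate in G if and only if for every irreducible character χ of G the algebraic integer χ(x)^(p^a) − χ(y)^(p^a) is p times an algebraic integer. -/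
theorem result {G : Type*} [Group G] [Finite G] (p : ℕ) [Fact p.Prime] (x y x' y' : G)
    (hx : (∃ k : ℕ, orderOf (x * x'⁻¹) = p ^ k) ∧ Commute (x * x'⁻¹) x' ∧ ¬ p ∣ orderOf x')
    (hy : (∃ k : ℕ, orderOf (y * y'⁻¹) = p ^ k) ∧ Commute (y * y'⁻¹) y' ∧ ¬ p ∣ orderOf y') :
    IsConj x' y' ↔ ∀ χ : Cfsg.IrrCharacter G, ∃ γ : Cfsg.AlgInt,
      (χ : G → ℂ) x ^ (p ^ (Nat.card G).factorization p) - (χ : G → ℂ) y ^ (p ^ (Nat.card G).factorization p) = (p : ℂ) * (γ : ℂ) := by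
  have hp : p.Prime := Fact.out
  have hpart : ∀ {x x' : G}, (∃ k : ℕ, orderOf (x * x'⁻¹) = p ^ k) ∧ Commute (x * x'⁻¹) x' ∧
      ¬ p ∣ orderOf x' → IsPPart p x (x * x'⁻¹) ∧ (x * x'⁻¹)⁻¹ * x = x' ∧
        x ^ p ^ (Nat.card G).factorization p = x' ^ p ^ (Nat.card G).factorization p := by
    rintro x x' ⟨⟨k, hk⟩, h2, h3⟩
    refine ⟨by simpa using isPPart_mul h2 ⟨k, hk⟩ h3, by group, ?_⟩
    have : (x * x'⁻¹) ^ p ^ (Nat.card G).factorization p = 1 := by
      rw [← orderOf_dvd_iff_pow_eq_one, hk]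
      exact pow_dvd_pow _ ((hp.pow_dvd_iff_le_factorization Nat.card_pos.ne').1
        (hk ▸ orderOf_dvd_natCard _))
    rw [← one_mul (x' ^ _), ← this, ← h2.mul_pow, inv_mul_cancel_right]
  obtain ⟨h1, h2, h3⟩ := hpart hx
  obtain ⟨h4, h5, h6⟩ := hpart hy
  constructor
  · intro h χ
    have hχ : IsIrrCharacter G χ := χ.2
    obtain ⟨a, ha⟩ := char_pow hp ((Nat.card G).factorization p) hχ.isCharacter x
    obtain ⟨b, hb⟩ := char_pow hp ((Nat.card G).factorization p) hχ.isCharacter y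
    refine ⟨a - b, ?_⟩
    rw [ha, hb, h3, h6, hχ.isClassFunction.eq_of_isConj (h.pow _)]
    push_cast
    ring
  · intro h
    obtain ⟨M, hM⟩ := exists_isPModular hp
    have := hM.2.1
    rw [← h2, ← h5, isConj_iff_sub_mem hM h1 h4]
    intro χ
    have hχ : IsIrrCharacter G χ := χ.2
    obtain ⟨γ, hγ⟩ := h χ
    have hx' := memLocalRing_of_isIntegral (M := M) (hχ.isCharacter.isIntegral x)
    have hy' := memLocalRing_of_isIntegral (M := M) (hχ.isCharacter.isIntegral y)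
    have h7 : MemLocalIdeal M ((p : ℂ) * γ) := (memLocalIdeal_prime hM).mul_right (memLocalRing_coe γ)
    rw [← hγ, ← red_eq_red_iff (hx'.pow _) (hy'.pow _), red_pow hx', red_pow hy'] at h7
    have := charP_resField hM
    rw [← red_eq_red_iff hx' hy']
    rw [← sub_eq_zero, ← sub_pow_char_pow] at h7
    exact sub_eq_zero.1 (pow_eq_zero_iff (pow_ne_zero _ hp.ne_zero) |>.1 h7)

end Cfsg.Agent.S4604
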