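import Cfsg.Statements.S4607
import Cfsg.Agent.Lib.Block2.Few
import Cfsg.Agent.S4733

set_option autoImplicit false
open Cfsg

namespace Cfsg.Agent.S4607

/-- Let G be a finite group, p a prime, M a maximal ideal of the algebraic integers containing p, and B a p-block of G with defect group D. Then B contains exactly two irreducible characters if and only if D has order 2. -/
theorem result {G : Type*} [Group G] [Finite G] (p : ℕ) [Fact p.Prime] (M : Ideal Cfsg.AlgInt) (hM : Cfsg.IsPModular p M) (B : Set (Cfsg.IrrCharacter G)) (hB : Cfsg.IsPBlock M B) (D : Subgroup G) (hD : Cfsg.IsDefectGroup p M B D) : Nat.card B = 2 ↔ Nat.card D = 2 := by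
  open Cfsg.Lib Cfsg.Lib.Block Cfsg.Lib.Block2 Cfsg.Lib.Char Cfsg.Lib.Amalg in
  have := hM.2.1
  obtain ⟨h1, h2, h3⟩ := Cfsg.Agent.S4733.result p M hM B hB
  refine ⟨fun h => ?_, fun h => ?_⟩
  · have h4 := blockRank_ne_zero hM hB
    have h5 : blockRank p B = 1 := by
      by_contra h5
      have := h2.1 (h3.2 (by omega))
      omega
    obtain ⟨m, hm⟩ := exists_deg_of_le_four hM hB h5.le (by omega)
    rw [← card_eq_of_deg hM hB hD h5 hm, h]
  · obtain ⟨ε, hm⟩ := (hD.defG_top hM hB).exists_maxP hM (blk_top_eB hB)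
    have e : Subgroup.centralizer ((⊥ : Subgroup G) : Set G) = ⊤ :=
      eq_top_iff.2 fun x _ y hy => by rw [Subgroup.mem_bot.1 hy]; simp
    have hn := hm.nilB_cent_of_card_le hM (Q := ⊥) (e ▸ le_top) ((bpo_iff_sle_bot hM).1 hm.bpo)
      (by simp [h])
    rw [← h, ← NilB.card_eq_of_comm hM hB (by rwa [e, inf_idem] at hn) hm
      (le_cent_self_of_card_le_four (by omega))]

end Cfsg.Agent.S4607
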