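import Cfsg.Statements.S4611
import Cfsg.Agent.Lib.Clifford.PBlk

set_option autoImplicit false
open Cfsg

namespace Cfsg.Agent.S4611

open Cfsg.Lib Cfsg.Lib.Clifford Cfsg.Lib.Char Finset

/-- Let G be a finite solvable group and π a nonempty set of primes, each dividing the order of G; fix for each p in π a maximal ideal M p of the algebraic integers containing p. Then the only irreducible character lying in the principal p-block for every p in π is the principal character if and only if G is generated by the subgroups O_{p'}(G), p in π (the largest normal subgroups of order prime to p). -/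
theorem result {G : Type*} [Group G] [Finite G] [Group.IsSolvable G] (π : Set ℕ) (hπ : ∀ p ∈ π, p.Prime ∧ p ∣ Nat.card G) (hne : π.Nonempty) (M : ℕ → Ideal Cfsg.AlgInt) (hM : ∀ p ∈ π, Cfsg.IsPModular p (M p)) :
    (∀ χ : Cfsg.IrrCharacter G, (∀ p ∈ π, χ ∈ Cfsg.principalBlock (M p) G) → (χ : G → ℂ) = fun _ => 1) ↔
      ⨆ p ∈ π, Cfsg.pPrimeCore p G = ⊤ := by
  have key : ∀ χ : IrrCharacter G, (∀ p ∈ π, χ ∈ principalBlock (M p) G) ↔
      ⨆ p ∈ π, pPrimeCore p G ≤ charKer (χ : G → ℂ) := by
    intro χ
    have hχ : IsIrrCharacter G χ := χ.2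
    rw [iSup₂_le_iff]
    refine forall₂_congr fun p hp => ?_
    have := Fact.mk (hπ p hp).1
    have := (hM p hp).2.1
    rw [mem_principalBlock_iff_B0 (hM p hp), mem_B0_top_iff_of_isPSolvable
      (Core.isPSolvable_of_isSolvable (hπ p hp).1) (mem_Irr_top.2 hχ), ← kerOn_top,
      (charOn_top.2 hχ.isCharacter).le_kerOn le_top]
  simp only [key]
  constructor
  · intro h
    have : (⨆ p ∈ π, pPrimeCore p G).Normal :=
      inferInstance
    rw [eq_top_iff]
    intro g _
    refine mem_of_forall_irr_le_charKer _ fun χ hχ hk => ?_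
    have : χ = fun _ => 1 := h ⟨χ, hχ⟩ hk
    rw [this]
  · intro h χ hk
    exact (show IsIrrCharacter G χ from χ.2).charKer_eq_top_iff.1 (top_le_iff.1 (h ▸ hk))

end Cfsg.Agent.S4611
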