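import Cfsg.Statements.S4620
import Cfsg.Agent.Lib.Core.PCore
import Cfsg.Agent.Lib.Amalg.Ops
import Cfsg.Agent.Lib.Hall.MinNormal

set_option autoImplicit false
open scoped Pointwise
open Cfsg

namespace Cfsg.Agent.S4620

open Cfsg.Lib Cfsg.Lib.Amalg Subgroup
open scoped commutatorElement Pointwise

variable {G : Type*} [Group G] [Finite G] {p : ℕ} [hp : Fact p.Prime]

theorem ne_bot (hO : pPrimeCore p G = ⊥) {P N : Subgroup G} [N.Normal] (hP : Syl p P N) (h : N ≠ ⊥) :
    P ≠ ⊥ := hP.ne_bot (by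
  by_contra hd
  exact h (Core.eq_bot_of_pPrimeCore_eq_bot hO ((Nat.Prime.coprime_iff_not_dvd hp.out).2 hd).symm))

theorem cent (hO : pCore p G = ⊥) (hO' : pPrimeCore p G = ⊥) {P : Subgroup G} (hP : Syl p P ⊤)
    (hTI : ∀ g ∉ normalizer (P : Set G), P ⊓ cj g P = ⊥) (N : Subgroup G) [N.Normal]
    (h : N ≠ ⊥) : centralizer (N : Set G) = ⊥ := by
  by_contra hc
  have h1 : N ≤ normalizer (P : Set G) := fun n hn => by
    by_contra h1
    refine ne_bot hO' (hP.inf_normal_top _) hc (le_bot_iff.1 (le_of_le_of_eq (le_inf inf_le_left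
      fun x hx => mem_cj.2 ?_) (hTI n h1)))
    rw [mem_centralizer_comm.1 hx.2 _ (N.inv_mem hn), inv_mul_cancel_right]
    exact hx.1
  have h2 := hP.inf_normal_top N
  refine ne_bot hO' h2 h ((h2.eq_op (Core.le_normalizer_inf h1 le_normalizer)).trans (le_bot_iff.1 ?_))
  exact hO ▸ op_le_pCore N

theorem exists_min (h : ∀ N : Subgroup G, N.Normal → N ≠ ⊥ → centralizer (N : Set G) = ⊥)
    [Nontrivial G] : ∃ N : Subgroup G, N.Normal ∧ N ≠ ⊥ ∧ ∀ K : Subgroup G, K.Normal → K ≠ ⊥ → N ≤ K := by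
  obtain ⟨N, hN, h0, hmin⟩ := Hall.exists_minNormal (G := G)
  refine ⟨N, hN, h0, fun K hK h1 => inf_eq_right.1 ((hmin _ inferInstance inf_le_right).resolve_left
    fun h2 => h1 (le_bot_iff.1 (le_of_le_of_eq (comm_eq_bot_iff.1 (le_bot_iff.1 ?_)) (h N hN h0))))⟩
  exact h2 ▸ commutator_le_inf K N

/-- Let H be a finite group with no nontrivial normal p-subgroup and no nontrivial normal subgroup of order prime to p, whose Sylow p-subgroup P is nontrivial and a trivial-intersection set (P meets its conjugates by elements outside N_H(P) trivially). Then H has a unique minimal normal subgroup N; N is non-abelian simple with trivial centralizer in H (so H embeds in Aut(N)), and a Sylow p-subgroup of N is again a nontrivial trivial-intersection set in N. -/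
theorem result {H : Type*} [Group H] [Finite H] (p : ℕ) [Fact p.Prime] (hOp : Cfsg.pCore p H = ⊥) (hOp' : Cfsg.pPrimeCore p H = ⊥) (P : Sylow p H) (hP1 : (P : Subgroup H) ≠ ⊥)
    (hTI : ∀ g : H, g ∉ Subgroup.normalizer ((P : Subgroup H) : Set H) → (P : Subgroup H) ⊓ (MulAut.conj g • (P : Subgroup H)) = ⊥) :
    ∃ N : Subgroup H, N.Normal ∧ N ≠ ⊥ ∧ (∀ K : Subgroup H, K.Normal → K ≠ ⊥ → N ≤ K) ∧
      IsSimpleGroup N ∧ ¬ IsMulCommutative N ∧ Subgroup.centralizer (N : Set H) = ⊥ ∧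
      ∀ Q : Sylow p N, (Q : Subgroup N) ≠ ⊥ ∧
        ∀ n : N, n ∉ Subgroup.normalizer ((Q : Subgroup N) : Set N) → (Q : Subgroup N) ⊓ (MulAut.conj n • (Q : Subgroup N)) = ⊥ := by
  have hC := fun (N : Subgroup H) (_ : N.Normal) => cent hOp hOp' (syl_top P) (hTI) N
  have : Nontrivial H := (Subgroup.nontrivial_iff (G := H)).1 (nontrivial_of_ne _ _ hP1)
  obtain ⟨N, hN, h0, hmin⟩ := exists_min hC
  have hO := Core.pPrimeCore_eq_bot_of_normal hOp' N
  have : Nontrivial N := (nontrivial_iff_ne_bot N).2 h0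
  have key : ∀ Q : Subgroup N, Syl p Q ⊤ → ∀ n ∉ normalizer (Q : Set N), Q ⊓ cj n Q = ⊥ := by
    intro Q hQ n hn
    obtain ⟨g, -, hg⟩ := (syl_top P).exists_le_conj (hQ.isPGroup.map N.subtype) le_top
    have h1 : Q = (cj g P).subgroupOf N := (hQ.eq_of_le _ (map_le_iff_le_comap.1 hg) le_top
      (isPGroup_subgroupOf (isPGroup_cj g P.isPGroup') N)).symm
    have h2 := hTI (g⁻¹ * n * g) fun h => hn (by
      rw [← cj_eq_self_iff, h1, cj_subgroupOf, cj_eq_self_iff.2 (by rwa [← cj_normalizer, mem_cj])])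
    rw [Core.conj_smul_eq_map, ← cj_eq_bot_iff (g := g), cj_inf, ← cj_mul, ← mul_assoc, ← mul_assoc,
      mul_inv_cancel, one_mul, cj_mul] at h2
    rw [h1, cj_subgroupOf, subgroupOf, subgroupOf, ← comap_inf, h2, MonoidHom.comap_bot, ker_subtype]
  refine ⟨N, hN, h0, hmin, ?_, fun hc => h0 (le_bot_iff.1 (le_of_le_of_eq
    (le_centralizer_iff_isMulCommutative.2 hc) (hC N hN h0))), hC N hN h0, fun Q =>
    ⟨ne_bot hO (syl_top Q) top_ne_bot, key _ (syl_top Q)⟩⟩
  obtain ⟨Q, hQ⟩ := exists_syl p (⊤ : Subgroup N)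
  obtain ⟨M, hM, h1, h2⟩ := exists_min fun K _ =>
    cent (Core.pCore_eq_bot_of_normal hOp N) hO hQ (key Q hQ) K
  have : M.Characteristic := characteristic_iff_le_comap.2 fun e => h2 _ inferInstance fun h3 => h1 (by
    rwa [← map_eq_bot_iff_of_injective _ (f := e.toMonoidHom) e.injective,
      map_comap_eq_self_of_surjective e.surjective] at h3)
  obtain rfl := (Hall.char_eq_bot_or_top_of_minNormal (fun K hK h3 => (eq_or_ne K ⊥).imp_right
    fun h4 => le_antisymm h3 (hmin K hK h4)) M).resolve_left h1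
  exact ⟨fun K hK => (eq_or_ne K ⊥).imp_right fun h3 => top_le_iff.1 (h2 K hK h3)⟩

end Cfsg.Agent.S4620
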