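import Cfsg.Statements.S4634
import Cfsg.Agent.Lib.Small.DadeH
import Cfsg.Agent.Lib.Block2.Puig

set_option autoImplicit false
open Cfsg

namespace Cfsg.Agent.S4634

open Cfsg.Lib Cfsg.Lib.Block Cfsg.Lib.Block2 Cfsg.Lib.Char Cfsg.Lib.Amalg Cfsg.Lib.Small Subgroup

theorem sign_eq {G : Type*} [Group G] [Finite G] {p : ℕ} [Fact p.Prime] {M : Ideal AlgInt} [M.IsMaximal]
    (hM : IsPModular p M) {B X Y : Finset (IrrCharacter G)} {A : Type*} [Group A] [Fintype A] [Nontrivial A]
    {E : Subgroup (MulAut A)} {d δ δ₀ μ} (h : DD p M B E d X Y δ δ₀ μ) (hE : Free E)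
    (ab : ∀ u v : A, u * v = v * u) (he : Nat.card E = 1) {χ} (hχ : χ ∈ X) : δ χ = -δ₀ := by
  have h1 := h.cardY hE ab
  have h2 := Finite.one_lt_card (α := A)
  obtain ⟨ψ, hψ⟩ := Finset.card_pos.1 (show 0 < Y.card by rw [he] at h1; omega)
  obtain ⟨χ, rfl⟩ := Finset.card_eq_one.1 (h.cardX.trans he)
  obtain rfl := Finset.mem_singleton.1 hχ
  have h3 := h.reg ψ hψ 1 (by simpa using hM.1.ne_one)
  rw [Finset.sum_singleton, ← Char.Cfsg.IsIrrCharacter.coe_charDegree ψ.2,
    ← Char.Cfsg.IsIrrCharacter.coe_charDegree χ.2] at h3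
  have := Char.Cfsg.IsIrrCharacter.charDegree_pos ψ.2
  norm_cast at h3
  rcases h.s0 with e | e <;> rcases h.sX χ hχ with e' | e' <;> rw [e, e'] at h3 ⊢ <;> omega

/-- Let B be a block of the finite group G relative to a maximal ideal M of the algebraic integers containing the prime p, with a nontrivial cyclic defect group P, let c be a block of C_G(P) inducing B, T the stabilizer of c in N_G(P) and e the index of C_G(P) in T. Let F be any finite group of order #P · e having a cyclic subgroup Q of order #P that is its own centralizer (F is then the semidirect product of Q by a cyclic group of order e acting faithfully). Then there is a perfect isometry from the set of all irreducible characters of F onto B whose signs agree on all the characters of F that do not contain Q in their kernel. -/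
theorem result {G : Type*} [Group G] [Finite G] (p : ℕ) [Fact p.Prime] (M : Ideal Cfsg.AlgInt) (hM : Cfsg.IsPModular p M) (B : Set (Cfsg.IrrCharacter G)) (hB : Cfsg.IsPBlock M B) (P : Subgroup G) (hPD : Cfsg.IsDefectGroup p M B P) (hP1 : P ≠ ⊥) (hcyc : IsCyclic P) (c : Set (Cfsg.IrrCharacter (Subgroup.centralizer (P : Set G)))) (hc : Cfsg.IsInducedBlock M (Subgroup.centralizer (P : Set G)) c B) (T : Subgroup G) (hT : ∀ g : G, g ∈ T ↔ (g ∈ Subgroup.normalizer (P : Set G) ∧ Cfsg.StabilizesBlock (Subgroup.centralizer (P : Set G)) c g)) (e : ℕ) (he : (Subgroup.centralizer (P : Set G)).relIndex T = e) (F : Type*) [Group F] [Finite F] (hF : Nat.card F = Nat.card P * e) (Q : Subgroup F) (hQ : IsCyclic Q) (hQcard : Nat.card Q = Nat.card P) (hQC : Subgroup.centralizer (Q : Set F) = Q) : ∃ (I : Cfsg.IrrCharacter F → Cfsg.IrrCharacter G) (ε : Cfsg.IrrCharacter F → ℤ), Cfsg.IsPerfectIsometry p M (Set.univ : Set (Cfsg.IrrCharacter F)) B I ε ∧ ∀ η η' : Cfsg.IrrCharacter F, (∃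 x ∈ Q, (η : F → ℂ) x ≠ (η : F → ℂ) 1) → (∃ x ∈ Q, (η' : F → ℂ) x ≠ (η' : F → ℂ) 1) → ε η = ε η' := by
  classical
  have := hM.2.1
  haveI := Fintype.ofFinite P
  haveI := Fintype.ofFinite Q
  haveI := Fintype.ofFinite (IrrCharacter F)
  obtain rfl := eq_stabP_of_forall hc.1 hT
  obtain ⟨b1, b2, B, rfl, d, X, Y, δ, δ₀, μ, h⟩ := exists_DD' hM hB hP1 hcyc (hc.maxP hM hPD)
  have he' := (card_inE _ _).trans he
  rw [he'] at b2
  have hp2 := hM.1.two_le
  have he0 : 0 < e := he' ▸ Nat.card_pos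
  have hep : e < p := by have := Nat.le_of_dvd (by omega) b2; omega
  have hi : Q.index = e := Nat.eq_of_mul_eq_mul_left Nat.card_pos (by rw [card_mul_index, hF, hQcard])
  have hQp : IsPGroup p Q := by
    obtain ⟨n, hn⟩ := IsPGroup.iff_card.1 hPD.isPGroup
    exact .of_card (hQcard.trans hn)
  have hS : Syl p Q ⊤ := syl_of_not_dvd le_top hQp (by
    rw [relIndex_top_right, hi]; exact Nat.not_dvd_of_pos_of_lt he0 hep)
  have hN : 𝐍 Q = ⊤ := by
    have h1 := Nat.le_of_dvd (hi ▸ he0) hS.toSylowTop.card_dvd_index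
    have h2 := (card_sylow_modEq_one p F).eq_of_lt_of_lt (h1.trans_lt (hi ▸ hep)) hM.1.one_lt
    exact index_eq_one.1 (hS.toSylowTop.card_eq_index_normalizer.symm.trans h2)
  haveI : Q.Normal := normalizer_eq_top_iff.1 hN
  have hQ1 : Q ≠ ⊥ := fun e => hP1 (by rw [← card_eq_one, ← hQcard, e, card_bot])
  have hU : principalBlock M F = Set.univ :=
    Set.eq_univ_of_forall fun χ => sameBlock_of_cent_le hM hQp hQC.le ⟨_, isIrrCharacter_one⟩ χ
  obtain ⟨a1, a2, c', hc', d', X', Y', δ', δ₀', μ', h'⟩ :=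
    exists_DD' hM isPBlock_principalBlock hQ1 hQ (maxP_principal hM hS)
  have a3 : Nat.card (inE Q (EB M (principalBlock M (𝐂 Q)))) = e := by
    rw [card_inE, stabP_principal, hN, hQC, relIndex_top_right, hi]
  obtain ⟨I, ε, hI, s1, s2⟩ := h.perfect' hM h' hcyc hQ hQp hQcard (a3.trans he'.symm) a2
  refine ⟨I, ε, by rwa [← hU, hc'], fun η η' hη hη' => ?_⟩
  have hcov : ∀ χ, χ ∈ X' ∨ χ ∈ Y' := fun χ => (h'.cover χ).1 (by
    rw [← Finset.mem_coe, ← hc', hU]; trivial)
  have hr : ¬ p ∣ orderOf (1 : F) := by simpa using hM.1.ne_one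
  haveI := (nontrivial_iff_ne_bot _).2 hQ1
  haveI := (nontrivial_iff_ne_bot _).2 hP1
  have hab := hQ.isMulCommutative.is_comm.comm
  by_cases h1 : e = 1
  · have key : ∀ χ, ε χ = δ₀ * δ₀' := fun χ => (hcov χ).elim (fun hχ => by
      obtain ⟨ψ, h2, h3⟩ := s1 χ hχ
      rw [h3, sign_eq hM h b1 hcyc.isMulCommutative.is_comm.comm (he'.trans h1) h2,
        sign_eq hM h' a1 hab (a3.trans h1) hχ, neg_mul_neg]) (s2 χ)
    rw [key, key]
  have hcomm : commutator F ≤ Q := by

    have := Abelianization.commutator_subset_ker (G := F) (A := (ZMod (Nat.card Q))ˣ)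
      ((IsCyclic.mulAutMulEquiv Q).toMonoidHom.comp (MulAut.conjNormal (H := Q)))
    refine this.trans (le_trans (fun g hg => ?_) hQC.le)
    have h2 : MulAut.conjNormal (H := Q) g = 1 := (IsCyclic.mulAutMulEquiv Q).map_eq_one_iff.1 hg
    exact fun u hu => (mul_inv_eq_iff_eq_mul.1
      ((MulAut.conjNormal_apply g ⟨u, hu⟩).symm.trans (by rw [h2]; rfl))).symm
  let L : linK Q → IrrCharacter F := fun l => ⟨linF l.1, isIrrCharacter_linear l.1⟩
  have hL : Function.Injective L := fun _ _ e => Subtype.ext (linF_injective (congrArg Subtype.val e))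
  haveI := Fintype.ofFinite (linK Q)
  have hK : (Finset.univ.image L).card = X'.card := by
    rw [Finset.card_image_of_injective _ hL, Finset.card_univ, ← Nat.card_eq_fintype_card, card_linK hcomm,
      hi, h'.cardX, a3]
  have hn : ∀ χ : IrrCharacter F, (∃ x ∈ Q, χ.1 x ≠ χ.1 1) → χ ∉ Finset.univ.image L := by
    rintro _ ⟨x, hx, h2⟩ h3
    obtain ⟨l, -, rfl⟩ := Finset.mem_image.1 h3
    exact h2 (by simp [L, linF, mem_linK.1 l.2 x hx])
  by_cases h2 : Finset.univ.image L ⊆ X'
  · rw [Finset.eq_of_subset_of_card_le h2 hK.ge] at hn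
    rw [s2 η ((hcov η).resolve_left (hn η hη)), s2 η' ((hcov η').resolve_left (hn η' hη'))]
  obtain ⟨_, h3, h4⟩ := Finset.not_subset.1 h2
  obtain ⟨l, -, rfl⟩ := Finset.mem_image.1 h3
  have h5 := (hcov _).resolve_left h4
  have hY : Y' ⊆ {L l} := fun ψ hψ => by
    have h6 : ∀ x, ¬ p ∣ orderOf x → ψ.1 x = l.1 x := fun x hx =>
      mul_left_cancel₀ (a := (δ₀' : ℂ)) (by rcases h'.s0 with e | e <;> simp [e])
        (add_right_cancel ((h'.reg ψ hψ x hx).trans (h'.reg _ h5 x hx).symm))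
    obtain ⟨k, hk⟩ := ψ.2.isCharacter.exists_linear_of_degree_one (by simpa using h6 1 hr)
    have h7 : k.domRestrict Q = 1 := by
      by_contra h8
      refine h1 (a3.symm.trans (card_eq_one.2 (eq_bot_iff.2 fun α hα => a1.eq_one hα h8 ?_)))
      obtain ⟨t, -, ht⟩ := mem_inE.1 hα
      refine MonoidHom.ext fun u => ?_
      show k (α u) = k u
      rw [ht, map_mul, map_mul, map_inv, mul_inv_cancel_comm]
    refine Finset.mem_singleton.2 (Subtype.ext (funext fun x => ?_))
    obtain ⟨u, hu⟩ := exists_isPPart hM.1 x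
    have h8 : u ∈ Q := hS.le_of_normal_syl hN.ge (isPGroup_zpowers hu.orderOf_eq) le_top (mem_zpowers u)
    have h9 := h6 _ hu.not_dvd_orderOf
    rw [hk] at h9 ⊢
    simpa [L, linF, mem_linK.1 l.2 u h8, show k u = 1 from DFunLike.congr_fun h7 ⟨u, h8⟩] using h9
  have h6 : (Finset.univ.image L)ᶜ.card ≤ 1 := by
    have : (Finset.univ : Finset (IrrCharacter F)) ⊆ X' ∪ Y' := fun χ _ => Finset.mem_union.2 (hcov χ)
    have := (Finset.card_le_card this).trans (Finset.card_union_le _ _)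
    have := Finset.card_le_card hY
    rw [Finset.card_compl, hK, ← Finset.card_univ]
    simp only [Finset.card_singleton] at this
    omega
  rw [Finset.card_le_one.1 h6 η (Finset.mem_compl.2 (hn η hη)) η' (Finset.mem_compl.2 (hn η' hη'))]

end Cfsg.Agent.S4634
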