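import Cfsg.Statements.S4636
import Cfsg.Agent.Lib.PGrp.Cyclic

set_option autoImplicit false
open scoped Pointwise
open Cfsg

namespace Cfsg.Agent.S4636

open Cfsg.Lib Cfsg.Lib.PGrp Subgroup
open scoped commutatorElement Pointwise

/-- Let P be a nontrivial cyclic p-subgroup of the finite group G and Z its subgroup of order p. For every x outside N_G(Z), P meets its conjugate xPx⁻¹ trivially; consequently N_G(Q) ≤ N_G(Z) for every nontrivial subgroup Q of P. -/
theorem result {G : Type*} [Group G] [Finite G] (p : ℕ) [Fact p.Prime] (P : Subgroup G) (hP : IsPGroup p P) (hP1 : P ≠ ⊥) (hcyc : IsCyclic P) (Z : Subgroup G) (hZ : Z ≤ P) (hZcard : Nat.card Z = p) : (∀ x : G, x ∉ Subgroup.normalizer (Z : Set G) → P ⊓ MulAut.conj x • P = ⊥) ∧ ∀ Q : Subgroup G, Q ≤ P → Q ≠ ⊥ → Subgroup.normalizer (Q : Set G) ≤ Subgroup.normalizer (Z : Set G) := by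
  have hq : p.Prime := Fact.out
  have key : ∀ Q : Subgroup G, Q ≤ P → Q ≠ ⊥ → Z ≤ Q := by
    intro Q hQ hQ1
    refine le_of_card_dvd_of_isCyclic hcyc hZ hQ ?_
    obtain ⟨k, hk⟩ := (hP.to_le hQ).exists_card_eq
    rw [hZcard, hk]
    refine dvd_pow_self _ ?_
    rintro rfl
    exact hQ1 (card_eq_one.1 (by simpa using hk))
  refine ⟨fun x hx => ?_, fun Q hQ hQ1 =>
    normalizer_le_normalizer_of_isCyclic (isCyclic_of_le' hcyc hQ) (key Q hQ hQ1)⟩
  by_contra h
  apply hx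
  have h1 := key _ inf_le_left h
  have h2 : (MulAut.conj x)⁻¹ • Z ≤ P := by
    intro z hz
    rw [mem_inv_pointwise_smul_iff] at hz
    exact smul_mem_pointwise_smul_iff.1 (mem_inf.1 (h1 hz)).2
  have h3 : (MulAut.conj x)⁻¹ • Z = Z :=
    eq_of_card_eq_of_isCyclic hcyc h2 hZ (Nat.card_congr (Subgroup.equivSMul _ Z).toEquiv).symm
  rw [mem_normalizer_iff]
  intro z
  conv_lhs => rw [← h3, mem_inv_pointwise_smul_iff]
  simp

end Cfsg.Agent.S4636
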