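import Cfsg.Statements.S4638
import Cfsg.Agent.Lib.Small.Klein

set_option autoImplicit false
open Cfsg

namespace Cfsg.Agent.S4638

open Cfsg.Lib Cfsg.Lib.Block Cfsg.Lib.Block2 Cfsg.Lib.Char Cfsg.Lib.Amalg Cfsg.Lib.Small Subgroup

/-- Let B be a block of the finite group G relative to a maximal ideal M of the algebraic integers containing 2, with a Klein four defect group P, and let c be its Brauer correspondent: the block of N_G(P) with defect group P that induces B. Then there is a perfect isometry from c onto B. -/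
theorem result {G : Type*} [Group G] [Finite G] (M : Ideal Cfsg.AlgInt) (hM : Cfsg.IsPModular 2 M) (B : Set (Cfsg.IrrCharacter G)) (hB : Cfsg.IsPBlock M B) (P : Subgroup G) (hPD : Cfsg.IsDefectGroup 2 M B P) (hV : IsKleinFour P) (c : Set (Cfsg.IrrCharacter (Subgroup.normalizer (P : Set G)))) (hcD : Cfsg.IsDefectGroup 2 M c (P.subgroupOf (Subgroup.normalizer (P : Set G)))) (hc : Cfsg.IsInducedBlock M (Subgroup.normalizer (P : Set G)) c B) : ∃ (I : Cfsg.IrrCharacter (Subgroup.normalizer (P : Set G)) → Cfsg.IrrCharacter G) (ε : Cfsg.IrrCharacter (Subgroup.normalizer (P : Set G)) → ℤ), Cfsg.IsPerfectIsometry 2 M c B I ε := by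
  have := hM.2.1
  haveI := Fintype.ofFinite P
  haveI := Fintype.ofFinite (P.subgroupOf (𝐍 P))
  let j := subgroupOfEquivOfLe (le_normalizer (H := P))
  have hV' : IsKleinFour (P.subgroupOf (𝐍 P)) :=
    ⟨(Nat.card_congr j.toEquiv).trans hV.card_four, (Monoid.exponent_eq_of_mulEquiv j).trans hV.exponent_two⟩
  obtain ⟨ε, hm⟩ := (hcD.defG_top hM hc.1).exists_maxP hM (blk_top_eB hc.1)
  obtain ⟨B, rfl⟩ := (Set.toFinite B).exists_finset_coe
  obtain ⟨c, rfl⟩ := (Set.toFinite c).exists_finset_coe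
  obtain ⟨-, -, d', X', Y', δ', δ₀', μ', h'⟩ := exists_DD_klein hM hc.1 hV' hm
  obtain ⟨-, -, d, X, Y, δ, δ₀, μ, h⟩ := exists_DD_klein hM hB hV (maxP_push_of_ind hM le_rfl hc hPD hm)
  rw [inE_push le_rfl] at h'
  obtain ⟨I, ε', h1, -⟩ := (h.comp j).perfect hM h'
  exact ⟨I, ε', h1⟩

end Cfsg.Agent.S4638
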