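import Cfsg.Statements.S4641
import Cfsg.Agent.Lib.Small.PIM

set_option autoImplicit false
open Cfsg

namespace Cfsg.Agent.S4641

open Cfsg.Lib Cfsg.Lib.Block Cfsg.Lib.Block2 Cfsg.Lib.Char Cfsg.Lib.Small
open scoped ComplexConjugate

theorem dvd_deg {G : Type*} [Group G] [Finite G] {p : ℕ} [hp : Fact p.Prime] {θ : G → ℂ}
    (h : IsGeneralizedCharacter G θ) (h0 : ∀ g, p ∣ orderOf g → θ g = 0) :
    ∃ n : ℤ, θ 1 = (p : ℂ) ^ (Nat.card G).factorization p * n := by
  obtain ⟨P⟩ : Nonempty (Sylow p G) := inferInstance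
  haveI := Fintype.ofFinite P
  obtain ⟨n, hn⟩ := exists_sum_subgroup_int h P
  rw [sum_isPGroup_eq hp.out P.2 fun y _ => h0 y, P.card_eq_multiplicity] at hn
  exact ⟨n, by exact_mod_cast hn⟩

theorem not_dvd {G : Type*} [Group G] [Fintype G] {p : ℕ} [hp : Fact p.Prime] {M : Ideal AlgInt}
    [M.IsMaximal] (hM : IsPModular p M) {B : Set (IrrCharacter G)} [DecidablePred (· ∈ B)]
    (hB : IsPBlock M B) {w : ℕ} (hw : p ^ blockDefect p B * ∑ χ with χ ∈ B, charDegree χ.1 ^ 2 =
      p ^ (2 * (Nat.card G).factorization p) * w) : ¬ p ∣ w := fun hd => by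
  obtain ⟨φ, Φ, h1, -, h2, h3, -⟩ := exists_dual_basic hM hB
  obtain ⟨A, μ, κ, hA⟩ := exists_form hM hB
  obtain ⟨χ₀, h₀, h0⟩ := exists_minVal p hB.nonempty
  have hq : (p : ℂ) ≠ 0 := Nat.cast_ne_zero.2 hp.out.ne_zero
  obtain ⟨η, hη⟩ : ∃ η, η = ∑ χ with χ ∈ B,
    (charDegree χ.1 / (p : ℂ) ^ (Nat.card G).factorization p) • χ.1 := ⟨_, rfl⟩
  have h4 : η ∈ VB p B := by
    have : reg p η = η := funext fun g => by
      by_cases hg : p ∣ orderOf g
      · have := congrArg conj (weak_orthogonality_of_int hM hB.memLocalRing_blockCoeff (x := 1)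
          (by simpa using hp.out.ne_one) hg)
        simp only [Block2.finsum_mem_irr, map_sum, map_mul, ← irr_cast_deg, map_natCast,
          Complex.conj_conj, map_zero] at this
        simp [reg_of_dvd _ hg, hη, div_mul_eq_mul_div, ← Finset.sum_div, this]
      · exact reg_of_not_dvd _ hg
    rw [← this, hη, reg_sum_smul]
    exact Submodule.sum_mem _ fun χ hχ => Submodule.smul_mem _ _ (reg_mem_VB (by simpa using hχ))
  have h5 : ∀ θ ∈ VB p B, classInner θ η = θ 1 / p ^ (Nat.card G).factorization p := fun θ hθ => by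
    obtain ⟨-, e2, e3⟩ := VB_spec hM hB.isBlockUnion hθ
    rw [e2.apply_eq_sum 1, ← Finset.sum_filter_of_ne (p := (· ∈ B))
      fun χ _ h => by_contra fun hχ => h (by rw [e3 χ hχ, zero_mul])]
    simp [hη, classInner_sum_right, classInner_smul_right, Finset.sum_div, ← irr_cast_deg, mul_comm,
      mul_div_assoc]
  have h6 : η ∈ LB p B := by
    rw [h3 η h4]
    refine Submodule.sum_mem _ fun i _ => ?_
    obtain ⟨n, hn⟩ := dvd_deg (p := p) (h2 i).1 fun g hg => by
      rw [← (VB_spec hM hB.isBlockUnion (h2 i).2).1, reg_of_dvd _ hg]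
    rw [← conj_classInner, h5 _ (h2 i).2, hn, mul_div_cancel_left₀ _ (pow_ne_zero _ hq), map_intCast,
      Int.cast_smul_eq_zsmul]
    exact Submodule.smul_mem _ _ (h1 i)
  haveI := charP_resField hM
  have h7 : A η η = w := by
    have := (hA η h6 η h6).1
    rw [h5 η h4, hη, Finset.sum_apply] at this
    replace hw := congrArg (Nat.cast (R := ℂ)) hw
    simp only [Pi.smul_apply, smul_eq_mul, ← irr_cast_deg, div_mul_eq_mul_div, ← Finset.sum_div, ← sq] at this
    push_cast at hw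
    rw [← hη, ← mul_div_assoc, ← mul_div_assoc, hw, two_mul, pow_add, mul_assoc,
      mul_div_cancel_left₀ _ (pow_ne_zero _ hq), mul_div_cancel_left₀ _ (pow_ne_zero _ hq)] at this
    exact_mod_cast this
  have h8 := (hA η h6 η h6).2
  rw [h7, Int.cast_natCast, (CharP.cast_eq_zero_iff _ p _).2 hd, eq_comm, mul_assoc] at h8
  have h9 := hA _ (reg_mem_LB h₀) η h6
  obtain ⟨m, hm⟩ := (CharP.intCast_eq_zero_iff (resField M) p _).1 (h9.2.trans (by
    rcases mul_eq_zero.1 h8 with e | e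
    · simp [e]
    · simp [mul_self_eq_zero.1 e]))
  have h10 := h9.1
  rw [h5 _ (reg_mem_VB h₀), reg_of_not_dvd _ (by simpa using hp.out.ne_one), ← irr_cast_deg, hm,
    ← blockDefect_add_minVal p hB.nonempty, pow_add, ← mul_div_assoc, mul_div_mul_left _ _ (pow_ne_zero _ hq),
    eq_div_iff (pow_ne_zero _ hq)] at h10
  have h11 : (p : ℤ) ^ (Block2.minVal p B + 1) ∣ charDegree χ₀.1 :=
    ⟨m, by exact_mod_cast (show (charDegree χ₀.1 : ℂ) = p ^ (Block2.minVal p B + 1) * m by
      rw [← h10]; push_cast; ring)⟩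
  rw [← Nat.cast_pow, Int.natCast_dvd_natCast, hp.out.pow_dvd_iff_le_factorization (deg_ne_zero χ₀.2)] at h11
  omega

/-- Let B be a block of the finite group G relative to a maximal ideal M of the algebraic integers containing the prime p, let p^a be the p-part of the order of G and p^d the order of a defect group D of B, and let g be the greatest common divisor of the degrees of the members of B. Then the p-part of g is exactly p^(a−d), and writing g = p^(a−d)·u there is a positive integer v, prime to p and at least the p-regular rank of B (its number of irreducible Brauer characters), with Σ_{χ ∈ B} χ(1)² = p^(2a−d)·u²·v. -/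
theorem result {G : Type*} [Group G] [Finite G] (p : ℕ) [Fact p.Prime] (M : Ideal Cfsg.AlgInt) (hM : Cfsg.IsPModular p M) (B : Set (Cfsg.IrrCharacter G)) (hB : Cfsg.IsPBlock M B) (D : Subgroup G) (hD : Cfsg.IsDefectGroup p M B D) (a d : ℕ) (ha : (Nat.card G).factorization p = a) (hd : Nat.card D = p ^ d) (g : ℕ) (hg1 : ∀ χ ∈ B, g ∣ Cfsg.charDegree (χ : G → ℂ)) (hg2 : ∀ g' : ℕ, (∀ χ ∈ B, g' ∣ Cfsg.charDegree (χ : G → ℂ)) → g' ∣ g) : g.factorization p = a - d ∧ ∃ v : ℕ, 0 < v ∧ ¬ p ∣ v ∧ Cfsg.blockRank p B ≤ v ∧ ∑ᶠ χ ∈ B, Cfsg.charDegree (χ : G → ℂ) ^ 2 = p ^ (2 * a - d) * (g / p ^ (a - d)) ^ 2 * v := by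
  classical
  have := hM.2.1
  haveI := Fintype.ofFinite G
  have hp : p.Prime := Fact.out
  obtain rfl : blockDefect p B = d :=
    Nat.pow_right_injective hp.two_le ((card_defectGroup hM hB hD).symm.trans hd)
  have h1 := blockDefect_add_minVal p hB.nonempty
  obtain ⟨χ₀, h₀, h0⟩ := exists_minVal p hB.nonempty
  have hg0 : g ≠ 0 := ne_zero_of_dvd_ne_zero (deg_ne_zero χ₀.2) (hg1 χ₀ h₀)
  have h2 : g.factorization p = a - blockDefect p B := by
    have a1 := (Nat.factorization_le_iff_dvd hg0 (deg_ne_zero χ₀.2)).2 (hg1 χ₀ h₀) p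
    have a2 := (hp.pow_dvd_iff_le_factorization hg0).1 (hg2 _ fun χ hχ =>
      (hp.pow_dvd_iff_le_factorization (deg_ne_zero χ.2)).2 (Block2.minVal_le hχ))
    omega
  refine ⟨h2, ?_⟩
  have h3 := Nat.ordProj_mul_ordCompl_eq_self g p
  have h4 := Nat.coprime_ordCompl hp hg0
  rw [h2] at h3 h4
  generalize g / p ^ (a - blockDefect p B) = u at *
  obtain ⟨W⟩ := nonempty_wed M G
  obtain ⟨m, hm0, hm⟩ := W.exists_deg
  have hT := fun {χ s} => W.mem_iff_of_dec (χ := χ) (s := s) hB.isBlockUnion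
  have hgC : (g : ℂ) ≠ 0 := Nat.cast_ne_zero.2 hg0
  have e1 : ∀ χ : IrrCharacter G, (((if χ ∈ B then charDegree χ.1 / g else 0 : ℕ) : ℤ) : ℂ) =
      (if χ ∈ B then charDegree χ.1 else 0) / g := fun χ => by
    split_ifs with h
    · rw [Int.cast_natCast, Nat.cast_div (hg1 χ h) hgC]
    · simp
  obtain ⟨n, hn⟩ := W.exists_int_of_PSp (mem_PSp hM (isGeneralizedCharacter_sum_irr
    fun χ => (if χ ∈ B then charDegree χ.1 / g else 0 : ℕ)) fun x hx => by
      have := congrArg conj (weak_orthogonality_of_int hM hB.memLocalRing_blockCoeff (x := 1)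
        (by simpa using hp.ne_one) hx)
      simp only [Block2.finsum_mem_irr, map_sum, map_mul, ← irr_cast_deg, map_natCast,
        Complex.conj_conj, map_zero] at this
      simp only [e1, Finset.sum_apply, Pi.smul_apply, smul_eq_mul, div_mul_eq_mul_div, ← Finset.sum_div]
      simp [← Finset.sum_filter, this])
  simp only [classInner_sum_irr, e1, div_eq_iff hgC] at hn
  have h5 : ∀ s ∈ W.T B, ∃ k, m s = g * k := fun s hs => by
    have := Fintype.linearIndependent_iff.1 W.linearIndependent_dec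
      (fun s => (if s ∈ W.T B then (m s : ℂ) else 0) - g * n s) (funext fun χ => by
        simp only [Finset.sum_apply, Pi.smul_apply, smul_eq_mul, sub_mul, Finset.sum_sub_distrib,
          mul_assoc, ← Finset.mul_sum, Pi.zero_apply, sub_eq_zero]
        rw [mul_comm (g : ℂ), ← hn, hm χ, ← Finset.sum_const_zero (s := (Finset.univ : Finset (Fin W.n)))
          (M := ℕ), ← Finset.sum_ite_irrel, Nat.cast_sum]
        refine Finset.sum_congr rfl fun t _ => ?_
        by_cases h : W.dec χ t = 0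
        · simp [h]
        · simp [hT h]) s
    rw [if_pos hs, sub_eq_zero] at this
    exact Int.natCast_dvd_natCast.1 ⟨n s, by exact_mod_cast this⟩
  have h6 : ∀ s ∈ W.T B, ∃ k, ∑ χ with χ ∈ B, W.dec χ s * charDegree χ.1 = p ^ a * u * k ∧ k ≠ 0 :=
    fun s hs => by
    have a0 : ∑ χ with χ ∈ B, W.dec χ s * charDegree χ.1 = ∑ χ, W.dec χ s * charDegree χ.1 :=
      Finset.sum_filter_of_ne fun χ _ h => (hT (left_ne_zero_of_mul h)).2 hs
    obtain ⟨k, hk⟩ := (h4.pow_left a).mul_dvd_of_dvd_of_dvd (show p ^ a ∣ ∑ χ with χ ∈ B, _ by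
      obtain ⟨j, hj⟩ := dvd_deg (p := p) (isCharacter_sum_irr fun χ => W.dec χ s).isGeneralizedCharacter
        fun x hx => by
          simpa only [pchar_eq_sum, W.charExt_i] using pchar_eq_zero hM (W.isInt_i s) (W.i_mul_i s) hx
      simp only [Finset.sum_apply, Pi.smul_apply, smul_eq_mul, ← irr_cast_deg, ha] at hj
      exact a0 ▸ Int.natCast_dvd_natCast.1 ⟨j, by exact_mod_cast hj⟩)
      (Finset.dvd_sum fun χ hχ => ((Dvd.intro_left _ h3).trans
        (hg1 χ (Finset.mem_filter.1 hχ).2)).mul_left (W.dec χ s))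
    refine ⟨k, hk, fun e => ?_⟩
    obtain ⟨χ, hχ⟩ := W.exists_dec_ne_zero s
    rw [e, mul_zero, a0, Finset.sum_eq_zero_iff] at hk
    exact mul_ne_zero hχ (deg_ne_zero χ.2) (hk χ (Finset.mem_univ _))
  choose! k h7 using h5
  choose! j h8 h9 using h6
  have h10 : ∑ χ with χ ∈ B, charDegree χ.1 ^ 2 =
      p ^ (2 * a - blockDefect p B) * u ^ 2 * ∑ s with s ∈ W.T B, k s * j s := by
    rw [Finset.sum_congr rfl fun χ hχ => show _ = ∑ s with s ∈ W.T B, m s * (W.dec χ s * charDegree χ.1) by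
      rw [Finset.sum_filter_of_ne fun s _ h => (hT (left_ne_zero_of_mul (right_ne_zero_of_mul h))).1
        (Finset.mem_filter.1 hχ).2]
      simp only [← mul_assoc, ← Finset.sum_mul, ← hm, sq], Finset.sum_comm, Finset.mul_sum]
    refine Finset.sum_congr rfl fun s hs => ?_
    rw [← Finset.mul_sum, h7 s (Finset.mem_filter.1 hs).2, h8 s (Finset.mem_filter.1 hs).2, ← h3,
      show 2 * a - blockDefect p B = a - blockDefect p B + a by omega]
    ring
  have h11 := not_dvd hM hB (w := u ^ 2 * ∑ s with s ∈ W.T B, k s * j s) (by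
    rw [h10, ← mul_assoc, ← mul_assoc, ← pow_add, ha, mul_assoc]
    congr 2
    omega)
  refine ⟨_, Nat.pos_of_ne_zero fun e => h11 (by simp [e]), fun h => h11 (h.mul_left _), ?_,
    (Block2.finsum_mem_irr _ _).trans h10⟩
  rw [← card_T_eq W hM hB.isBlockUnion, Finset.card_eq_sum_ones]
  exact Finset.sum_le_sum fun s hs => Nat.pos_of_ne_zero (mul_ne_zero (right_ne_zero_of_mul
    (h7 s (Finset.mem_filter.1 hs).2 ▸ hm0 s)) (h9 s (Finset.mem_filter.1 hs).2))

end Cfsg.Agent.S4641
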