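import Cfsg.Statements.S4642
import Cfsg.Agent.Lib.Block2.PSol

set_option autoImplicit false
open Cfsg

namespace Cfsg.Agent.S4642

/-- Let G be a finite group, p a prime, M a maximal ideal of the algebraic integers containing p, K the largest normal subgroup of G of order prime to p, and L the preimage in G of the largest normal p-subgroup of G/K. Let Q be a Sylow p-subgroup of L and suppose C_G(Q) ≤ L. Let θ be an irreducible character of K invariant under conjugation by every element of G, and let B be the set of irreducible characters of G whose restriction to K contains θ. Then B is a block of G, every Sylow p-subgroup of G is a defect group of B, and B is of principal type: for every p-subgroup R of G exactly one block of C_G(R) induces B. -/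
theorem result {G : Type*} [Group G] [Fintype G] (p : ℕ) [Fact p.Prime] (M : Ideal Cfsg.AlgInt) (hM : Cfsg.IsPModular p M) (K : Subgroup G) (hK : K = Cfsg.pPrimeCore p G) [Fintype K] (L : Subgroup G) (hL : L = Cfsg.pPrimePCore p G) (Q : Subgroup G) (hQL : Q ≤ L) (hQp : IsPGroup p Q) (hQS : ¬ p ∣ Q.relIndex L) (hCQ : Subgroup.centralizer (Q : Set G) ≤ L) (θ : Cfsg.IrrCharacter K) (hθ : ∀ g : G, Cfsg.IsConjCharOf K g (θ : K → ℂ) (θ : K → ℂ)) (B : Set (Cfsg.IrrCharacter G)) (hBdef : ∀ χ : Cfsg.IrrCharacter G, χ ∈ B ↔ Cfsg.classInner (fun k : K => (χ : G → ℂ) k) (θ : K → ℂ) ≠ 0) : Cfsg.IsPBlock M B ∧ (∀ S : Sylow p G, Cfsg.IsDefectGroup p M B S) ∧ ∀ R : Subgroup G, IsPGroup p R → ∃! f : Set (Cfsg.IrrCharacter (Subgroup.centralizer (R : Set G))), Cfsg.IsInducedBlock M (Subgroup.centralizer (R : Set G)) f B := by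
  open Cfsg.Lib Cfsg.Lib.Block Cfsg.Lib.Block2 Cfsg.Lib.Char Cfsg.Lib.Amalg in
  have := hM.2.1
  have hn : K.Normal := hK ▸ inferInstance
  obtain ⟨h1, -, h2, h3⟩ := block_over_invariant hM
    (isPConstrained_of_syl (hL ▸ syl_of_not_dvd hQL hQp hQS) (hL ▸ hCQ)) hK
    (fun g n => hθ g n _ rfl) (B := B) fun χ => (hBdef χ).trans over_subtype_iff.symm
  refine ⟨h1, fun P => (isDefectGroup_iff_defG_top hM h1).2 (h2 _ (syl_top P)), fun R hR => ?_⟩
  obtain ⟨f, hf, e⟩ := (h3 R hR).exists_eq
  refine ⟨f, (isInducedBlock_cent_iff hM hR h1 hf).2 ⟨blk_top_eB h1, hf.bp hR, ?_⟩, fun g hg => ?_⟩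
  · rw [e]; exact (blk_EB hf).idem
  · refine EB_inj hg.1.isBlockUnion hf.isBlockUnion ((blk_EB hf).eq_of_mul_ne_zero (blk_EB hg.1) ?_).symm
    rw [← e, (hg.bpo hM hR).eq]
    exact (blk_EB hg.1).ne_zero

end Cfsg.Agent.S4642
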