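import Cfsg.Statements.S4644
import Cfsg.Agent.Lib.Block2.Wat

set_option autoImplicit false
open Cfsg

namespace Cfsg.Agent.S4644

/-- Let B be a block of the finite group G relative to a maximal ideal M of the algebraic integers containing the prime p, with a commutative defect group P; let c be a block of C_G(P) inducing B and T the stabilizer of c in N_G(P). Let u be an element of P fixed under conjugation by every element of T, H = C_G(u) (so C_G(P) ≤ H), and f the block of H induced by c inside H. Then B and f have the same p-regular rank and the same number of irreducible characters. -/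
theorem result {G : Type*} [Group G] [Finite G] (p : ℕ) [Fact p.Prime] (M : Ideal Cfsg.AlgInt) (hM : Cfsg.IsPModular p M) (B : Set (Cfsg.IrrCharacter G)) (hB : Cfsg.IsPBlock M B) (P : Subgroup G) (hPD : Cfsg.IsDefectGroup p M B P) (hPab : ∀ x ∈ P, ∀ y ∈ P, x * y = y * x) (c : Set (Cfsg.IrrCharacter (Subgroup.centralizer (P : Set G)))) (hc : Cfsg.IsInducedBlock M (Subgroup.centralizer (P : Set G)) c B) (T : Subgroup G) (hT : ∀ g : G, g ∈ T ↔ (g ∈ Subgroup.normalizer (P : Set G) ∧ Cfsg.StabilizesBlock (Subgroup.centralizer (P : Set G)) c g)) (u : G) (hu : u ∈ P) (huT : ∀ g ∈ T, g * u * g⁻¹ = u) (H : Subgroup G) (hH : H = Subgroup.centralizer ({u} : Set G)) (f : Set (Cfsg.IrrCharacter H)) (hf : Cfsg.IsInducedBlockIn M H (Subgroup.centralizer (P : Set G)) c f) : Cfsg.blockRank p B = Cfsg.blockRank p f ∧ Nat.card B = Nat.card f := by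
  open Cfsg.Lib Cfsg.Lib.Block Cfsg.Lib.Block2 Cfsg.Lib.Char Cfsg.Lib.Amalg in
  have := hM.2.1
  have hm := hc.maxP hM hPD
  have hP := le_cent_self_of_comm hPab
  obtain rfl := eq_stabP_of_forall hc.1 hT
  obtain rfl : H = Subgroup.centralizer (Subgroup.zpowers u : Set G) := by
    rw [hH, Subgroup.zpowers_eq_closure, Subgroup.centralizer_closure]
  have hz : Subgroup.zpowers u ≤ P := Subgroup.zpowers_le.2 hu
  have h1 := (ind_cent_iff_sle hM (hP.trans (Subgroup.centralizer_le hz)) hz hm.bp
    (hf.2.1.bp (hm.bp.isPGroup.to_le hz))).1 (by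
      simpa using hf.ind (Subgroup.centralizer_le hz))
  have h2 : u ∈ Subgroup.centralizer (stabP ⊤ P (EB M c) : Set G) := fun g hg =>
    mul_inv_eq_iff_eq_mul.1 (huT g hg)
  have h3 := hm.rkQ_eq_of_fixed hM hP hu h2
  have h4 := hm.card_eq_of_fixed hM hP h1 h2
  rw [h1.rkQ_eq hM] at h3
  rw [top_inf_eq, bset_EB hf.2.1.isBlockUnion, bset_top hB.isBlockUnion] at h3 h4
  rw [blockRank_irrCongr] at h3
  rw [card_irrCongr_image] at h4
  exact ⟨h3.symm, h4.symm⟩

end Cfsg.Agent.S4644
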