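import Cfsg.Statements.S4645
import Cfsg.Agent.Lib.Block2.Puig
import Cfsg.Agent.S4633

set_option autoImplicit false
open Cfsg

namespace Cfsg.Agent.S4645

/-- Let B be a block of the finite group G relative to a maximal ideal M of the algebraic integers containing the prime p, with a nontrivial cyclic defect group P; let c be a block of C_G(P) inducing B and T the stabilizer of c in N_G(P). Let Q be a nontrivial subgroup of P (so C_G(P) ≤ C_G(Q)), f the block of C_G(Q) induced by c inside C_G(Q), and T' the stabilizer of f in N_G(Q). Then T' = T·C_G(Q), the index of C_G(Q) in T' equals the index of C_G(P) in T, f has p-regular rank 1, and f is a nilpotent block of C_G(Q). -/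
theorem result {G : Type*} [Group G] [Finite G] (p : ℕ) [Fact p.Prime] (M : Ideal Cfsg.AlgInt) (hM : Cfsg.IsPModular p M) (B : Set (Cfsg.IrrCharacter G)) (hB : Cfsg.IsPBlock M B) (P : Subgroup G) (hPD : Cfsg.IsDefectGroup p M B P) (hP1 : P ≠ ⊥) (hcyc : IsCyclic P) (c : Set (Cfsg.IrrCharacter (Subgroup.centralizer (P : Set G)))) (hc : Cfsg.IsInducedBlock M (Subgroup.centralizer (P : Set G)) c B) (T : Subgroup G) (hT : ∀ g : G, g ∈ T ↔ (g ∈ Subgroup.normalizer (P : Set G) ∧ Cfsg.StabilizesBlock (Subgroup.centralizer (P : Set G)) c g)) (Q : Subgroup G) (hQP : Q ≤ P) (hQ1 : Q ≠ ⊥) (f : Set (Cfsg.IrrCharacter (Subgroup.centralizer (Q : Set G)))) (hf : Cfsg.IsInducedBlockIn M (Subgroup.centralizer (Q : Set G)) (Subgroup.centralizer (P : Set G)) c f) (T' : Subgroup G) (hT' : ∀ g : G, g ∈ T' ↔ (g ∈ Subgroup.normalizer (Q : Set G) ∧ Cfsg.StabilizesBlock (Subgroup.centralizer (Q : Set G)) f g)) : T' = T ⊔ Subgroup.centralizer (Q : Set G) ∧ (Subgroup.centralizer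 (Q : Set G)).relIndex T' = (Subgroup.centralizer (P : Set G)).relIndex T ∧ Cfsg.blockRank p f = 1 ∧ Cfsg.IsNilpotentBlock p M f := by
  open Cfsg.Lib Cfsg.Lib.Block Cfsg.Lib.Block2 Cfsg.Lib.Char Cfsg.Lib.Amalg in
  have := hM.2.1
  have hP := hPD.isPGroup
  have hm := hc.maxP hM hPD
  haveI := PGrp.isMulCommutative_of_isCyclic hcyc
  have hPC : P ≤ Subgroup.centralizer (P : Set G) := Subgroup.le_centralizer P
  have hCQ : Subgroup.centralizer (P : Set G) ≤ Subgroup.centralizer (Q : Set G) :=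
    Subgroup.centralizer_le (SetLike.coe_mono hQP)
  have e := eq_stabP_of_forall hc.1 hT
  haveI : ((Subgroup.centralizer (P : Set G)).subgroupOf T).Normal :=
    Subgroup.normal_subgroupOf_of_le_normalizer (e ▸ stabP_le_norm.trans norm_le_norm_cent)
  have key := (S4633.result p M hM B hB P hPD hP1 hcyc c hc T hT).2.2
  obtain rfl := eq_stabP_of_forall hf.2.1 hT'
  subst e
  have hs : SLE p ⊤ Q (EB M f) P (EB M c) := (ind_cent_iff_sle hM (hPC.trans hCQ) hQP hm.bp
    (hf.2.1.bp (hP.to_le hQP))).1 (by simpa only [top_inf_eq] using hf.ind hCQ)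
  have hN : stabP ⊤ P (EB M c) ≤ Subgroup.normalizer (Q : Set G) :=
    stabP_le_norm.trans (PGrp.normalizer_le_normalizer_of_isCyclic hcyc hQP)
  obtain ⟨⟨x, hx⟩, hx1⟩ := Subgroup.ne_bot_iff_exists_ne_one.1 hQ1
  have h1 : ∀ g ∈ stabP ⊤ P (EB M c), g ∈ Subgroup.centralizer (Q : Set G) →
      g ∈ Subgroup.centralizer (P : Set G) := fun g hg h =>
    key g hg x (hQP hx) (fun h => hx1 (Subtype.ext h)) (mul_inv_eq_iff_eq_mul.2 (h x hx).symm)
  have h2 := hm.stabP_eq_of_comm hM (hPC.trans hCQ) hs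
  rw [inf_eq_left.2 hN, top_inf_eq] at h2
  have h3 := ((hm.cent_of_comm hM (hPC.trans hCQ) hs).nilB_iff_of_comm hM hPC).2 fun g hg =>
    h1 g (mem_stabP.2 ⟨Subgroup.mem_top _, (mem_stabP.1 hg).2⟩) (mem_stabP.1 hg).1.2
  rw [top_inf_eq, ← isNilpotentBlock_iff hM hf.2.1] at h3
  refine ⟨h2, ?_, h3.blockRank_eq hM, h3⟩
  rw [h2, Core.relIndex_sup_of_le_normalizer (hN.trans norm_le_norm_cent), ← Subgroup.inf_relIndex_right,
    ← Subgroup.inf_relIndex_right (Subgroup.centralizer (P : Set G))]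
  congr 1
  exact Subgroup.ext fun g => ⟨fun h => ⟨h1 g h.2 h.1, h.2⟩, fun h => ⟨hCQ h.1, h.2⟩⟩

end Cfsg.Agent.S4645
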