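import Cfsg.Statements.S4648
import Cfsg.Agent.Lib.Block2.Few

set_option autoImplicit false
open Cfsg

namespace Cfsg.Agent.S4648

/-- Let B be a block of the finite group G relative to a maximal ideal M of the algebraic integers containing the prime p, with a nontrivial defect group D. If B has p-regular rank 1 and at most four irreducible characters, then B is nilpotent, D has exactly as many elements as B has irreducible characters, and p is 2 or 3. -/
theorem result {G : Type*} [Group G] [Finite G] (p : ℕ) [Fact p.Prime] (M : Ideal Cfsg.AlgInt) (hM : Cfsg.IsPModular p M) (B : Set (Cfsg.IrrCharacter G)) (hB : Cfsg.IsPBlock M B) (D : Subgroup G) (hD : Cfsg.IsDefectGroup p M B D) (hD1 : D ≠ ⊥) (hl : Cfsg.blockRank p B = 1) (hk : Nat.card B ≤ 4) : Cfsg.IsNilpotentBlock p M B ∧ Nat.card D = Nat.card B ∧ (p = 2 ∨ p = 3) := by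
  open Cfsg.Lib Cfsg.Lib.Block Cfsg.Lib.Block2 Cfsg.Lib.Char Cfsg.Lib.Amalg in
  have := hM.2.1
  obtain ⟨m, hm⟩ := exists_deg_of_le_four hM hB hl.le hk
  have h := card_eq_of_deg hM hB hD hl hm
  obtain ⟨ε, hm⟩ := (hD.defG_top hM hB).exists_maxP hM (blk_top_eB hB)
  refine ⟨(isNilpotentBlock_iff_top hM hB).2 (hm.nilB_of_card_le_four hM hB hl (by omega) h.ge),
    h.symm, ?_⟩
  have hp : p.Prime := Fact.out
  have h1 := hD.card_eq_pow hM hB
  have h2 : p ∣ Nat.card D := h1 ▸ dvd_pow_self p fun e => hD1 (by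
    rwa [e, pow_zero, Subgroup.card_eq_one] at h1)
  have h3 := Nat.le_of_dvd Nat.card_pos h2
  have h4 := hp.two_le
  obtain rfl | rfl | rfl : p = 2 ∨ p = 3 ∨ p = 4 := by omega
  exacts [.inl rfl, .inr rfl, absurd hp (by norm_num)]

end Cfsg.Agent.S4648
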