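import Cfsg.Statements.S4649
import Cfsg.Agent.Lib.Small.DadeH
import Cfsg.Agent.Lib.Block2.Canon

set_option autoImplicit false
open Cfsg

namespace Cfsg.Agent.S4649

open Cfsg.Lib Cfsg.Lib.Block Cfsg.Lib.Block2 Cfsg.Lib.Char Cfsg.Lib.Amalg Cfsg.Lib.Small

/-- A block with cyclic defect group, of a finite group relative to a maximal ideal M of the algebraic integers containing the prime p, is nilpotent if and only if its p-regular rank is 1 (it has a unique irreducible Brauer character). -/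
theorem result {G : Type*} [Group G] [Finite G] (p : ℕ) [Fact p.Prime] (M : Ideal Cfsg.AlgInt) (hM : Cfsg.IsPModular p M) (B : Set (Cfsg.IrrCharacter G)) (hB : Cfsg.IsPBlock M B) (P : Subgroup G) (hPD : Cfsg.IsDefectGroup p M B P) (hcyc : IsCyclic P) : Cfsg.IsNilpotentBlock p M B ↔ Cfsg.blockRank p B = 1 := by
  have := hM.2.1
  haveI := Fintype.ofFinite P
  obtain ⟨ε, hm⟩ := (hPD.defG_top hM hB).exists_maxP hM (blk_top_eB hB)
  haveI := PGrp.isMulCommutative_of_isCyclic hcyc
  rw [isNilpotentBlock_iff_top hM hB, hm.nilB_iff_of_comm hM (Subgroup.le_centralizer P)]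
  by_cases h1 : P = ⊥
  · subst h1
    have e : Subgroup.centralizer ((⊥ : Subgroup G) : Set G) = ⊤ := by simp
    exact iff_of_true (le_top.trans e.ge)
      (blockRank_eq_one_of_normal hM (fun x _ => ⟨0, e.ge (Subgroup.mem_top _)⟩) hB hPD)
  haveI := (Subgroup.nontrivial_iff_ne_bot P).2 h1
  obtain ⟨h2, -, B, rfl, d, X, Y, δ, δ₀, μ, h⟩ := exists_DD' hM hB h1 hcyc hm
  rw [h.rank h2 hcyc.isMulCommutative.is_comm.comm, card_inE, Subgroup.relIndex_eq_one]

end Cfsg.Agent.S4649
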