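import Cfsg.Statements.S4650
import Cfsg.Agent.Lib.Block2.Nil

set_option autoImplicit false
open Cfsg

namespace Cfsg.Agent.S4650

/-- Let B be a block of the finite group G relative to a maximal ideal M of the algebraic integers containing the prime p, with a nontrivial commutative defect group P; let c be a block of C_G(P) inducing B and T the stabilizer of c in N_G(P). Then T/C_G(P) acts freely on the non-identity elements of P (an element of T fixing a non-identity element of P under conjugation lies in C_G(P)) if and only if, for every nontrivial subgroup Q of P, the block of C_G(Q) induced by c inside C_G(Q) is a nilpotent block of C_G(Q). -/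
theorem result {G : Type*} [Group G] [Finite G] (p : ℕ) [Fact p.Prime] (M : Ideal Cfsg.AlgInt) (hM : Cfsg.IsPModular p M) (B : Set (Cfsg.IrrCharacter G)) (hB : Cfsg.IsPBlock M B) (P : Subgroup G) (hPD : Cfsg.IsDefectGroup p M B P) (hPab : ∀ x ∈ P, ∀ y ∈ P, x * y = y * x) (hP1 : P ≠ ⊥) (c : Set (Cfsg.IrrCharacter (Subgroup.centralizer (P : Set G)))) (hc : Cfsg.IsInducedBlock M (Subgroup.centralizer (P : Set G)) c B) (T : Subgroup G) (hT : ∀ g : G, g ∈ T ↔ (g ∈ Subgroup.normalizer (P : Set G) ∧ Cfsg.StabilizesBlock (Subgroup.centralizer (P : Set G)) c g)) : (∀ g ∈ T, ∀ x ∈ P, x ≠ 1 → g * x * g⁻¹ = x → g ∈ Subgroup.centralizer (P : Set G)) ↔ ∀ Q : Subgroup G, Q ≤ P → Q ≠ ⊥ → ∀ f : Set (Cfsg.IrrCharacter (Subgroup.centralizer (Q : Set G))), Cfsg.IsInducedBlockIn M (Subgroup.centralizer (Q : Set G)) (Subgroup.centralizer (P : Set G)) c f → Cfsg.IsNilpotentBlock p M f := by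
  open Cfsg.Lib.Block Cfsg.Lib.Block2 Cfsg.Lib.Char Cfsg.Lib.Amalg in
  have := hM.2.1
  have hm := Cfsg.IsInducedBlock.maxP hM hc hPD
  obtain rfl := eq_stabP_of_forall hc.1 hT
  have hP := le_cent_self_of_comm hPab
  have key : ∀ Q φ, SLE p ⊤ Q φ P (EB M c) → (NilB p (⊤ ⊓ Subgroup.centralizer (Q : Set G)) φ ↔
      stabP ⊤ P (EB M c) ⊓ Subgroup.centralizer (Q : Set G) ≤ Subgroup.centralizer (P : Set G)) := by
    intro Q φ h
    rw [(hm.cent_of_comm hM (hP.trans (Subgroup.centralizer_le h.le)) h).nilB_iff_of_comm hM hP]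
    refine ⟨fun h x hx => h (mem_stabP.2 ⟨⟨trivial, hx.2⟩, (mem_stabP.1 hx.1).2⟩),
      fun h x hx => h ⟨mem_stabP.2 ⟨trivial, (mem_stabP.1 hx).2⟩, (stabP_le hx).2⟩⟩
  constructor
  · intro h Q hQ hQ1 f hf
    have h1 := (ind_cent_iff_sle hM (hP.trans (Subgroup.centralizer_le hQ)) hQ hm.bp
      (Cfsg.IsPBlock.bp hf.2.1 (hm.bp.isPGroup.to_le hQ))).1 (by
        rw [top_inf_eq, top_inf_eq]; exact hf.ind (Subgroup.centralizer_le hQ))
    obtain ⟨x, hx, hx1⟩ := (Subgroup.bot_or_exists_ne_one Q).resolve_left hQ1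
    have := (key Q _ h1).2 fun g hg =>
      h g hg.1 x (hQ hx) hx1 (Lib.Fus.conj_eq_of_mem_centralizer hg.2 hx)
    rwa [top_inf_eq, ← isNilpotentBlock_iff hM hf.2.1] at this
  · intro h g hg x hx hx1 e
    have hQ : Subgroup.zpowers x ≤ P := (Subgroup.zpowers_le).2 hx
    obtain ⟨φ, h1⟩ := hm.bp.exists_sle hM hQ
    obtain ⟨f, hf, rfl⟩ := h1.bp.exists_eq
    have h2 := (ind_cent_iff_sle hM (hP.trans (Subgroup.centralizer_le hQ)) hQ hm.bp h1.bp).2 h1
    rw [top_inf_eq, top_inf_eq] at h2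
    have h3 := (isNilpotentBlock_iff hM hf).1
      (h _ hQ (by rwa [Ne, Subgroup.zpowers_eq_bot]) f (h2.isInducedBlockIn hc.1 hf))
    refine (key _ _ h1).1 (by rwa [top_inf_eq]) ⟨hg, ?_⟩
    rw [centralizer_zpowers_eq]
    exact Subgroup.mem_centralizer_singleton_iff.2 (mul_inv_eq_iff_eq_mul.1 e)

end Cfsg.Agent.S4650
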