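import Cfsg.Statements.S4651
import Cfsg.Agent.Lib.Block2.KR

set_option autoImplicit false
open Cfsg

namespace Cfsg.Agent.S4651

/-- An alternating-sum identity over chains of p-subgroups (the character-count form behind the chain reformulation of Alperin's weight conjecture, which holds unconditionally for the difference k − l). Let b be a block of the finite group G relative to a maximal ideal M of the algebraic integers containing the prime p. Consider the nonempty chains s = {Q_0 < Q_1 < ⋯ < Q_m} of nontrivial p-subgroups of G in which every member is normal in the largest member; let N_G(s) be the intersection of the normalizers of the members (the stabilizer of the chain), and let b_s be the set of irreducible characters of N_G(s) lying in blocks of N_G(s) that induce b. Then #G · (k(b) − l(b)) equals the sum over all such chains s of (−1)^m · #N_G(s) · (k(b_s) − l(b_s)), where k counts irreducible characters and l is the p-regular rank; equivalently, k(b) −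 l(b) is the alternating sum of k(b_s) − l(b_s) over representatives of the conjugacy classes of such chains. -/
theorem result {G : Type*} [Group G] [Finite G] (p : ℕ) [Fact p.Prime] (M : Ideal Cfsg.AlgInt) (hM : Cfsg.IsPModular p M) (b : Set (Cfsg.IrrCharacter G)) (hb : Cfsg.IsPBlock M b) : (Nat.card G : ℤ) * ((Nat.card b : ℤ) - (Cfsg.blockRank p b : ℤ)) = ∑ᶠ s ∈ {s : Finset (Subgroup G) | s.Nonempty ∧ (∀ Q ∈ s, ∀ R ∈ s, Q ≤ R ∨ R ≤ Q) ∧ (∀ Q ∈ s, Q ≠ ⊥ ∧ IsPGroup p Q) ∧ ∃ T ∈ s, ∀ Q ∈ s, Q ≤ T ∧ T ≤ Subgroup.normalizer ((Q : Subgroup G) : Set G)}, (-1 : ℤ) ^ (s.card - 1) * (Nat.card (((⨅ Q ∈ s, Subgroup.normalizer ((Q : Subgroup G) : Set G) : Subgroup G))) : ℤ) * ((Nat.card {ψ : Cfsg.IrrCharacter (((⨅ Q ∈ s, Subgroup.normalizer ((Q : Subgroup G) : Set G) : Subgroup G))) | ∃ β : Set (Cfsg.IrrCharacter (((⨅ Q ∈ s, Subgroup.normalizer ((Q : Subgroup G) : Set G) : Subgroup G)))), ψ ∈ β ∧ Cfsg.IsInducedBlock M (((⨅ Q ∈ s, Subgroup.normalizer ((Q : Subgroup G) : Set G)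 : Subgroup G))) β b} : ℤ) - (Cfsg.blockRank p {ψ : Cfsg.IrrCharacter (((⨅ Q ∈ s, Subgroup.normalizer ((Q : Subgroup G) : Set G) : Subgroup G))) | ∃ β : Set (Cfsg.IrrCharacter (((⨅ Q ∈ s, Subgroup.normalizer ((Q : Subgroup G) : Set G) : Subgroup G)))), ψ ∈ β ∧ Cfsg.IsInducedBlock M (((⨅ Q ∈ s, Subgroup.normalizer ((Q : Subgroup G) : Set G) : Subgroup G))) β b} : ℤ)) := by
  open Cfsg.Lib Cfsg.Lib.Block Cfsg.Lib.Block2 Cfsg.Lib.Char Cfsg.Lib.Amalg in
  have := hM.2.1
  classical
  have key : ∀ s : Finset (Subgroup G), NCh p s →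
      {ψ : IrrCharacter (nch s) | ∃ β, ψ ∈ β ∧ IsInducedBlock M (nch s) β b} =
        bset (nch s) (eB M b) := fun s h => by
    have hA : AllInd M (nch s) := allInd_of_le hM h.isPGroup h.tp_le'
      (fun g hg => mem_nch.2 fun Q hQ => cent_le_norm _
        (Subgroup.centralizer_le (show Q ≤ s.sup id from Finset.le_sup (f := id) hQ) hg))
      (nch_le_norm_sup subset_rfl)
    ext ψ
    refine Iff.trans ⟨fun ⟨β, h1, h2⟩ => ?_, fun h => ⟨_, mem_blockOf_self ψ, h⟩⟩
      (hA.mem_under_iff hb).symm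
    rwa [← h2.1.eq_blockOf h1]
  have hfin : {s : Finset (Subgroup G) | NCh p s}.Finite := Set.toFinite _
  have h0 := sum_nch_rank hM (isCen_eB b) (blk_top_eB hb).idem hfin.toFinset (by simp)
  have hE : (∅ : Finset (Subgroup G)) ∈ hfin.toFinset := by
    simpa using (⟨by simp, by simp, by simp⟩ : NCh p (∅ : Finset (Subgroup G)))
  have hT : nch (∅ : Finset (Subgroup G)) = ⊤ := by simp [nch]
  rw [← Finset.add_sum_erase _ _ hE, hT, bset_top hb.isBlockUnion, card_irrCongr_image,
    blockRank_irrCongr, Subgroup.card_top, Finset.card_empty, pow_zero, one_mul,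
    add_eq_zero_iff_eq_neg, ← Finset.sum_neg_distrib] at h0
  rw [finsum_mem_eq_finite_toFinset_sum _ (Set.toFinite _)]
  apply Int.cast_injective (α := ℂ)
  push_cast
  rw [h0]
  refine Finset.sum_congr (Finset.ext fun s => ?_) fun s hs => ?_
  · simp only [Finset.mem_erase, Set.Finite.mem_toFinset, Set.mem_ofPred_eq,
      ← Finset.nonempty_iff_ne_empty]
    refine and_congr_right fun hne => ⟨fun h => ⟨h.chain, h.ne, s.sup id, ?_,
      fun Q hQ => ⟨Finset.le_sup (f := id) hQ, h.norm Q hQ⟩⟩, fun ⟨h1, h2, T, hT, h3⟩ =>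
      ⟨h1, h2, fun Q hQ => (Finset.sup_le fun R hR => (h3 R hR).1).trans (h3 Q hQ).2⟩⟩
    refine (sup_mem_of_chain h.chain).resolve_left fun e => ?_
    obtain ⟨Q, hQ⟩ := hne
    exact (h.ne Q hQ).1 (le_bot_iff.1 (e ▸ Finset.le_sup (f := id) hQ))
  · simp only [Set.Finite.mem_toFinset, Set.mem_ofPred_eq] at hs
    obtain ⟨hne, h1, h2, T, hT, h3⟩ := hs
    rw [← key s ⟨h1, h2, fun Q hQ => (Finset.sup_le fun R hR => (h3 R hR).1).trans (h3 Q hQ).2⟩]
    obtain ⟨k, hk⟩ := Nat.exists_eq_add_one_of_ne_zero (Finset.card_ne_zero.2 hne)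
    rw [hk, Nat.add_sub_cancel, pow_succ]
    rw [mul_neg_one, neg_mul, neg_neg, mul_assoc]
    rfl

end Cfsg.Agent.S4651
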