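import Cfsg.Statements.S4654
import Cfsg.Agent.Lib.Block2.PairsB

set_option autoImplicit false
open Cfsg

namespace Cfsg.Agent.S4654

/-- Fix a prime p and a maximal ideal M of the algebraic integers containing p. Let P be a normal p-subgroup of the finite group G, B a p-block of G and e a p-block of C_G(P) such that (P, e) is a Brauer pair of B (as P is normal, this says that e occurs in the idempotent of B, which is supported on C_G(P)). Let T be the stabilizer of e in G under conjugation. Then the idempotent of e is a block idempotent of T: some block E of T has, at every element of T, the same idempotent coefficient as e (zero off C_G(P)); and the idempotent of B is the sum of the distinct G-conjugates of the idempotent of e: its coefficient at g is the sum over all x in G of the coefficient of e at x⁻¹ g x, divided by the order of T. -/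
theorem result {G : Type*} [Group G] [Fintype G] (p : ℕ) [Fact p.Prime] (M : Ideal Cfsg.AlgInt) (hM : Cfsg.IsPModular p M) (P : Subgroup G) [P.Normal] (hP : IsPGroup p P) (B : Set (Cfsg.IrrCharacter G)) (e : Set (Cfsg.IrrCharacter (Subgroup.centralizer (P : Set G)))) (hBe : Cfsg.IsBrauerPairOf p M B P e) (T : Subgroup G) (hT : ∀ x : G, x ∈ T ↔ Cfsg.StabilizesBlock (Subgroup.centralizer (P : Set G)) e x) : (∃ E : Set (Cfsg.IrrCharacter T), Cfsg.IsPBlock M E ∧ ∀ t : T, Cfsg.blockCoeff E t = Cfsg.subgroupBlockCoeff (Subgroup.centralizer (P : Set G)) e (t : G)) ∧ ∀ g : G, Cfsg.blockCoeff B g = (Nat.card T : ℂ)⁻¹ * ∑ x : G, Cfsg.subgroupBlockCoeff (Subgroup.centralizer (P : Set G)) e (x⁻¹ * g * x) := by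
  open Cfsg.Lib.Block Cfsg.Lib.Block2 Cfsg.Lib.Char Cfsg.Lib.Amalg in
  have := hM.2.1
  have h := Cfsg.IsBrauerPairOf.bpo hM hBe
  have he := hBe.1.2
  have hB := hBe.2.1
  have hT' : T = stabP ⊤ P (EB M e) := eq_stabP_of_forall he fun x => by
    rw [hT, and_iff_right (Subgroup.le_normalizer_of_normal (Subgroup.mem_top x))]
  constructor
  · obtain ⟨F, hF, -, h2⟩ := (hT' ▸ h.bp.blk_stabP hM).exists_blockCoeff_eq he
      (hT' ▸ le_trans (le_inf le_top le_rfl) h.bp.cent_le_stabP)
    exact ⟨F, hF, h2⟩
  · intro g
    have h1 := hB.isBlockUnion.brauer_eB hM hP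
    have h2 := idem_eq_orbA hB he (h1 ▸ supp_brauer P _) (by
      have := h.eq
      rw [h1] at this
      rw [this]
      exact h.bp.ne_zero)
    have h3 : stabA (IB e) = T := Subgroup.ext fun x => by
      rw [hT, stabilizesBlock_iff_IB, mem_stabA,
        and_iff_right (Subgroup.le_normalizer_of_normal (Subgroup.mem_top x))]
    have h4 := congrArg (fun a : MonoidAlgebra ℂ G => a.coeff g) (sum_cjA_eq (IB e))
    simp only [coeff_sum', coeff_cjA, coeff_IB, h3, ← h2] at h4
    rw [h4, ← Nat.cast_smul_eq_nsmul ℂ, coeff_smul', coeff_idem, ← mul_assoc,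
      inv_mul_cancel₀ (Nat.cast_ne_zero.2 Nat.card_pos.ne'), one_mul]

end Cfsg.Agent.S4654
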