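import Cfsg.Statements.S4661
import Cfsg.Agent.Lib.Block2.PairsB

set_option autoImplicit false
open Cfsg

namespace Cfsg.Agent.S4661

/-- Fix a prime p and a maximal ideal M of the algebraic integers containing p. Let (P, e) be a maximal Brauer pair of the p-block B of the finite group G, Q ≤ P, and f the p-block of C_G(Q) with (Q, f) ≤ (P, e). Then C_P(Q) is contained in a defect group of f (as a block of the group C_G(Q)); and for some x in G the conjugate pair (x Q x⁻¹, conjugate of f) again lies below (P, e) and C_P(x Q x⁻¹) is a defect group of the conjugate of f in C_G(x Q x⁻¹). -/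
theorem result {G : Type*} [Group G] [Fintype G] (p : ℕ) [Fact p.Prime] (M : Ideal Cfsg.AlgInt) (hM : Cfsg.IsPModular p M) (B : Set (Cfsg.IrrCharacter G)) (P Q : Subgroup G) (e : Set (Cfsg.IrrCharacter (Subgroup.centralizer (P : Set G)))) (f : Set (Cfsg.IrrCharacter (Subgroup.centralizer (Q : Set G)))) (hmax : Cfsg.IsMaximalBrauerPair p M B P e) (hQP : Q ≤ P) (hf : Cfsg.IsPBlock M f) (hle : Cfsg.SubpairLE p M Q f P e) : (∃ D : Subgroup (Subgroup.centralizer (Q : Set G)), Cfsg.IsDefectGroup p M f D ∧ (P ⊓ Subgroup.centralizer (Q : Set G)).subgroupOf (Subgroup.centralizer (Q : Set G)) ≤ D) ∧ ∃ x : G, Cfsg.SubpairLE p M (Q.map (MulAut.conj x).toMonoidHom) (Cfsg.conjBlock Q x f) P e ∧ Cfsg.IsDefectGroup p M (Cfsg.conjBlock Q x f) ((P ⊓ Subgroup.centralizer ((Q.map (MulAut.conj x).toMonoidHom) : Set G)).subgroupOf (Subgroup.centralizer ((Q.map (MulAut.conj x).toMonoidHom) : Set G))) := by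
  open Cfsg.Lib.Block Cfsg.Lib.Block2 Cfsg.Lib.Char Cfsg.Lib.Amalg in
  have := hM.2.1
  have hm := Cfsg.IsMaximalBrauerPair.maxP hM hmax
  have h := Cfsg.SubpairLE.sle hM hle hmax.1.1
  obtain ⟨D, hD, hle'⟩ := h.exists_defG_ge hM h.bp.blk_top (Subgroup.centralizer_le_normalizer _)
  refine ⟨⟨D.subgroupOf _, (isDefectGroup_subgroupOf_iff hM hf hD.le).2 hD,
    Subgroup.comap_mono hle'⟩, ?_⟩
  obtain ⟨x, -, h1, h2⟩ := hm.exists_conj_defG hM (hm.bpo.of_sle hM h)
    (le_trans (le_inf le_top le_rfl) h.bp.cent_le_stabP) hD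
  refine ⟨x, h1.subpairLE_conj hM hf hmax.1.1.2,
    (isDefectGroup_subgroupOf_iff hM (Cfsg.IsPBlock.conjBlock hf x) inf_le_right).2 ?_⟩
  rw [EB_conjBlock, ← cj_centralizer, h2]
  exact hD.cjA x

end Cfsg.Agent.S4661
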