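import Cfsg.Statements.S4662
import Cfsg.Agent.Lib.Block2.PairsB

set_option autoImplicit false
open Cfsg

namespace Cfsg.Agent.S4662

/-- Fix a prime p and a maximal ideal M of the algebraic integers containing p. Let (P, e) be a maximal Brauer pair of the p-block B of the finite group G, Q ≤ P, and f the p-block of C_G(Q) with (Q, f) ≤ (P, e). Let T be the stabilizer of f in N_G(Q). Then the idempotent of f is a block idempotent of T, and N_P(Q) is contained in a defect group of that block of T; moreover for some x in G the conjugate pair (x Q x⁻¹, conjugate of f) again lies below (P, e) and, with T' the stabilizer of the conjugate of f in N_G(x Q x⁻¹), N_P(x Q x⁻¹) is a defect group of the block of T' whose idempotent is that of the conjugate of f. -/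
theorem result {G : Type*} [Group G] [Fintype G] (p : ℕ) [Fact p.Prime] (M : Ideal Cfsg.AlgInt) (hM : Cfsg.IsPModular p M) (B : Set (Cfsg.IrrCharacter G)) (P Q : Subgroup G) (e : Set (Cfsg.IrrCharacter (Subgroup.centralizer (P : Set G)))) (f : Set (Cfsg.IrrCharacter (Subgroup.centralizer (Q : Set G)))) (hmax : Cfsg.IsMaximalBrauerPair p M B P e) (hQP : Q ≤ P) (hf : Cfsg.IsPBlock M f) (hle : Cfsg.SubpairLE p M Q f P e) (T : Subgroup G) (hT : ∀ y : G, y ∈ T ↔ y ∈ Subgroup.normalizer (Q : Set G) ∧ Cfsg.StabilizesBlock (Subgroup.centralizer (Q : Set G)) f y) : (∃ F : Set (Cfsg.IrrCharacter T), Cfsg.IsPBlock M F ∧ (∀ t : T, Cfsg.blockCoeff F t = Cfsg.subgroupBlockCoeff (Subgroup.centralizer (Q : Set G)) f (t : G)) ∧ ∃ D : Subgroup T, Cfsg.IsDefectGroup p M F D ∧ (P ⊓ Subgroup.normalizer (Q : Set G)).subgroupOf T ≤ D) ∧ ∃ x : G, Cfsg.SubpairLE p M (Q.map (MulAut.conj x).toMonoidHom) (Cfsg.conjBlock Q x f) P e ∧ ∀ (T' : Subgroup G), (∀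 y : G, y ∈ T' ↔ y ∈ Subgroup.normalizer ((Q.map (MulAut.conj x).toMonoidHom) : Set G) ∧ Cfsg.StabilizesBlock (Subgroup.centralizer ((Q.map (MulAut.conj x).toMonoidHom) : Set G)) (Cfsg.conjBlock Q x f) y) → ∃ F' : Set (Cfsg.IrrCharacter T'), Cfsg.IsPBlock M F' ∧ (∀ t : T', Cfsg.blockCoeff F' t = Cfsg.subgroupBlockCoeff (Subgroup.centralizer ((Q.map (MulAut.conj x).toMonoidHom) : Set G)) (Cfsg.conjBlock Q x f) (t : G)) ∧ Cfsg.IsDefectGroup p M F' ((P ⊓ Subgroup.normalizer ((Q.map (MulAut.conj x).toMonoidHom) : Set G)).subgroupOf T') := by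
  open Cfsg.Lib.Block Cfsg.Lib.Block2 Cfsg.Lib.Char Cfsg.Lib.Amalg in
  have := hM.2.1
  have hm := Cfsg.IsMaximalBrauerPair.maxP hM hmax
  have h := Cfsg.SubpairLE.sle hM hle hmax.1.1
  obtain rfl := eq_stabP_of_forall hf hT
  obtain ⟨D, hD, hle'⟩ := h.exists_defG_ge hM (h.bp.blk_stabP hM) stabP_le_norm
  obtain ⟨F, hF, e1, e2⟩ := (h.bp.blk_stabP hM).exists_blockCoeff_eq hf
    (le_trans (le_inf le_top le_rfl) h.bp.cent_le_stabP)
  rw [h.inf_stabP hM] at hle'
  refine ⟨⟨F, hF, e2, D.subgroupOf _, (isDefectGroup_subgroupOf_iff hM hF hD.le).2 (by rw [e1]; exact hD),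
    Subgroup.comap_mono hle'⟩, ?_⟩
  obtain ⟨x, hx, h1, h2⟩ := hm.exists_conj_defG hM (hm.bpo.of_sle hM h) le_rfl hD
  refine ⟨x, h1.subpairLE_conj hM hf hmax.1.1.2, fun T' hT' => ?_⟩
  have hf' := Cfsg.IsPBlock.conjBlock hf x
  obtain rfl := eq_stabP_of_forall hf' hT'
  have h3 := hD.cjA x
  rw [← h2, cj_stabP_of_mem hx, h1.inf_stabP hM, ← EB_conjBlock] at h3
  rw [← EB_conjBlock] at h1
  obtain ⟨F', hF', e3, e4⟩ := (h1.bp.blk_stabP hM).exists_blockCoeff_eq hf'
    (le_trans (le_inf le_top le_rfl) h1.bp.cent_le_stabP)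
  exact ⟨F', hF', e4, (isDefectGroup_subgroupOf_iff hM hF' h3.le).2 (by rw [e3]; exact h3)⟩

end Cfsg.Agent.S4662
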