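import Cfsg.Statements.S4664
import Cfsg.Agent.Lib.Block2.Num

set_option autoImplicit false
open Cfsg

namespace Cfsg.Agent.S4664

/-- Fix a prime p and a maximal ideal M of the algebraic integers containing p, and let B be a p-block of the finite group G. Let m be the p'-part of the order of G and η = exp(2πi/m). Then every coefficient of the idempotent of B lies in the cyclotomic field ℚ(η). -/
theorem result {G : Type*} [Group G] [Fintype G] (p : ℕ) [Fact p.Prime] (M : Ideal Cfsg.AlgInt) (hM : Cfsg.IsPModular p M) (B : Set (Cfsg.IrrCharacter G)) (hB : Cfsg.IsPBlock M B) (g : G) : Cfsg.blockCoeff B g ∈ IntermediateField.adjoin ℚ ({Complex.exp (2 * Real.pi * Complex.I / ((Nat.card G / p ^ (Nat.card G).factorization p : ℕ) : ℂ))} : Set ℂ) := by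
  open Cfsg.Lib Cfsg.Lib.Block Cfsg.Lib.Block2 Cfsg.Lib.Char Cfsg.Lib.Amalg in
  have := hM.2.1
  classical
  by_cases hg : p ∣ orderOf g
  · rw [blockCoeff_eq_zero hM hB.isBlockUnion hg]; exact zero_mem _
  obtain ⟨P, hP⟩ := exists_syl p (⊤ : Subgroup G)
  haveI := Fintype.ofFinite P
  rw [blockCoeff_eq_sum_isPGroup hM hB.isBlockUnion hP.isPGroup hg]
  refine mul_mem (inv_mem (natCast_mem _ _)) (sum_mem fun χ _ => mul_mem ?_ ?_)
  · obtain ⟨n, hn⟩ := exists_sum_subgroup χ.2.isCharacter P
    rw [hn]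
    exact mul_mem (natCast_mem _ _) (natCast_mem _ _)
  · obtain ⟨s, -, h1, h2, -⟩ := χ.2.isCharacter.exists_eigenvalues g⁻¹
    rw [h2]
    refine multiset_sum_mem _ fun z hz => ?_
    have hm : Nat.card G / p ^ (Nat.card G).factorization p ≠ 0 :=
      (Nat.ordCompl_pos p Nat.card_pos.ne').ne'
    haveI := NeZero.mk hm
    have h3 : orderOf g⁻¹ ∣ Nat.card G / p ^ (Nat.card G).factorization p := by
      rw [orderOf_inv]
      refine (((Nat.Prime.coprime_iff_not_dvd hM.1).2 hg).symm.pow_right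
        ((Nat.card G).factorization p)).dvd_of_dvd_mul_left ?_
      rw [Nat.ordProj_mul_ordCompl_eq_self]
      exact orderOf_dvd_natCard g
    obtain ⟨c, hc⟩ := h3
    obtain ⟨i, -, hi⟩ := (Complex.isPrimitiveRoot_exp _ hm).eq_pow_of_pow_eq_one
      (ξ := z) (by rw [hc, pow_mul, h1 z hz, one_pow])
    rw [← hi]
    exact pow_mem (IntermediateField.mem_adjoin_simple_self ℚ _) i

end Cfsg.Agent.S4664
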