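import Cfsg.Statements.S4666
import Cfsg.Agent.Lib.Block2.Num
import Cfsg.Agent.Lib.Small.BF

set_option autoImplicit false
open Cfsg

namespace Cfsg.Agent.S4666

/-- Fix a prime p and a maximal ideal M of the algebraic integers containing p, and a p-block B of the finite group G of defect d. For every integer combination χ of the irreducible characters in B, p^d times the function that agrees with χ on p-regular elements and vanishes elsewhere is again an integer combination of the irreducible characters in B. -/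
theorem result {G : Type*} [Group G] [Fintype G] (p : ℕ) [Fact p.Prime] (M : Ideal Cfsg.AlgInt) (hM : Cfsg.IsPModular p M) (B : Set (Cfsg.IrrCharacter G)) (hB : Cfsg.IsPBlock M B) (χ : G → ℂ) (hχ : (∃ n : Cfsg.IrrCharacter G → ℤ, ∀ g : G, χ g = ∑ᶠ ψ ∈ B, (n ψ : ℂ) * (ψ : G → ℂ) g)) : (∃ n : Cfsg.IrrCharacter G → ℤ, ∀ g : G, (p ^ Cfsg.blockDefect p B : ℂ) * Cfsg.pRegularPart p χ g = ∑ᶠ ψ ∈ B, (n ψ : ℂ) * (ψ : G → ℂ) g) := by
  open Cfsg.Lib Cfsg.Lib.Block Cfsg.Lib.Block2 Cfsg.Lib.Char Cfsg.Lib.Amalg in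
  have := hM.2.1
  classical
  obtain ⟨n, hn⟩ := hχ
  obtain ⟨a, ha, -⟩ := Small.exists_contrib hM hB
  have e : χ = ∑ ψ : IrrCharacter G with ψ ∈ B, (n ψ : ℂ) • (ψ : G → ℂ) := funext fun g => by
    rw [hn, Block.finsum_mem_irr, Finset.sum_apply]; rfl
  have h1 : ∀ ξ : IrrCharacter G,
      classInner ((p ^ blockDefect p B : ℂ) • Small.reg p χ) (ξ : G → ℂ) =
        ∑ ψ : IrrCharacter G with ψ ∈ B, n ψ * (p ^ blockDefect p B *
          classInner (Small.reg p (ψ : G → ℂ)) (ξ : G → ℂ)) := fun ξ => by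
    rw [e, Small.reg_sum_smul, classInner_smul_left, classInner_sum_left, Finset.mul_sum]
    exact Finset.sum_congr rfl fun ψ _ => by rw [classInner_smul_left]; ring
  refine (inSpan_iff (χ := (p ^ blockDefect p B : ℂ) • Small.reg p χ)).2 ⟨?_, fun ξ hξ => ?_⟩
  · refine ((Small.isClassFunction_reg (inSpan_iff.1 ⟨n, hn⟩).1.isClassFunction).smul
      _).isGeneralizedCharacter_of_classInner fun ξ hξ =>
        ⟨∑ ψ : IrrCharacter G with ψ ∈ B, n ψ * a ψ ⟨ξ, hξ⟩, ?_⟩
    rw [h1 ⟨ξ, hξ⟩]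
    push_cast
    exact Finset.sum_congr rfl fun ψ hψ => by rw [ha ψ (by simpa using hψ)]
  · rw [h1]
    exact Finset.sum_eq_zero fun ψ hψ => by
      rw [Small.classInner_reg_eq_zero hM hB (by simpa using hψ) hξ, mul_zero, mul_zero]

end Cfsg.Agent.S4666
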