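import Cfsg.Statements.S4668
import Cfsg.Agent.Lib.Block2.FRChar
import Cfsg.Agent.Lib.Amalg.CharP

set_option autoImplicit false
open Cfsg

namespace Cfsg.Agent.S4668

/-- Fix a prime p and a maximal ideal M of the algebraic integers containing p. Let Q₀ < Q₁ < ⋯ < Q_m be a strictly increasing chain of p-subgroups of the finite group G and N the intersection of their normalizers. Then every block idempotent of N is supported on C_G(Q_m): for every p-block E of N, the idempotent coefficient of E vanishes at every element of N outside C_G(Q_m). -/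
theorem result {G : Type*} [Group G] [Fintype G] (p : ℕ) [Fact p.Prime] (M : Ideal Cfsg.AlgInt) (hM : Cfsg.IsPModular p M) (m : ℕ) (Q : Fin (m + 1) → Subgroup G) (hQ : StrictMono Q) (hQp : ∀ i, IsPGroup p (Q i)) (N : Subgroup G) (hN : ∀ g : G, g ∈ N ↔ ∀ i, g ∈ Subgroup.normalizer (Q i : Set G)) (E : Set (Cfsg.IrrCharacter N)) (hE : Cfsg.IsPBlock M E) (n : N) (hn : (n : G) ∉ Subgroup.centralizer (Q (Fin.last m) : Set G)) : Cfsg.blockCoeff E n = 0 := by
  open Cfsg.Lib.Block Cfsg.Lib.Block2 Cfsg.Lib.Char Cfsg.Lib.Amalg in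
  have := hM.2.1
  have h := blk_EB hE
  have hNi : ∀ i, N ≤ 𝐍 (Q i) := fun i g hg => (hN g).1 hg i
  have hs := h.cen.supp_centralizer hM h.idem (P := N ⊓ Q (Fin.last m))
    ((hQp _).to_inf_right) inf_le_left
    (fun x hx => Subgroup.inf_normalizer_le_normalizer_inf ⟨Subgroup.le_normalizer hx, hNi _ hx⟩)
  have key : Supp (𝐂 (Q (Fin.last m))) (EB M E) := by
    intro x hx
    by_contra h0
    apply hx
    have hxN : Subgroup.zpowers x ≤ N := Subgroup.zpowers_le.2 (h.supp.mem h0)
    have hxC : Subgroup.zpowers x ≤ 𝐂 (N ⊓ Q (Fin.last m)) := Subgroup.zpowers_le.2 (hs.mem h0)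
    have hc : (Nat.card (Subgroup.zpowers x)).Coprime p :=
      coprime_card_zpowers ((Nat.Prime.coprime_iff_not_dvd hM.1).2
        (h.cen.not_dvd_orderOf hM h.idem h0)).symm
    have aux : ∀ (i : Fin (m + 1)) (U : Subgroup G), U ≤ Q i → (∀ j < i, U ≤ 𝐂 (Q j)) →
        U ≤ 𝐂 (Subgroup.zpowers x) := by
      intro i U h1 h2
      refine Subgroup.le_centralizer_iff.1 (hxC.trans (Subgroup.centralizer_le (le_inf ?_ ?_)))
      · intro u hu
        refine (hN u).2 fun j => ?_
        rcases lt_or_ge j i with hj | hj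
        · exact Subgroup.centralizer_le_normalizer _ (h2 j hj hu)
        · exact Subgroup.le_normalizer (hQ.monotone hj (h1 hu))
      · exact h1.trans (hQ.monotone (Fin.le_last i))
    have : ∀ i : Fin (m + 1), Subgroup.zpowers x ≤ 𝐂 (Q i) := by
      intro i
      induction i using Fin.induction with
      | zero => exact Subgroup.le_centralizer_iff.1 (aux 0 _ le_rfl fun j hj => absurd hj (Fin.not_lt_zero j))
      | succ i ih =>
        have hle : Q i.castSucc ≤ Q i.succ := hQ.monotone (Fin.castSucc_le_succ i)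
        refine thompson_PxQ hc (hQp _) (hQp _) ih (hxN.trans (hNi _))
          (hle.trans Subgroup.le_normalizer) (aux i.succ _ inf_le_left fun j hj => ?_)
        exact inf_le_right.trans (Subgroup.centralizer_le (hQ.monotone (Fin.le_castSucc_iff.2 hj)))
    exact this _ (Subgroup.mem_zpowers x)
  have := supp_IB_of_supp_EB hE.isBlockUnion key n hn
  rwa [coeff_IB_coe] at this

end Cfsg.Agent.S4668
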