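import Cfsg.Statements.S4670
import Cfsg.Agent.Lib.Block2.FRChar

set_option autoImplicit false
open Cfsg

namespace Cfsg.Agent.S4670

/-- Fix a prime p and a maximal ideal M of the algebraic integers containing p. Let P be a p-subgroup of the finite group G and H a subgroup containing N_G(P). For every p-block B of G with defect group P there is exactly one p-block c of H with defect group P whose idempotent agrees with that of B, modulo the local ideal at M, at every element of C_G(P) (their Brauer-map images at P coincide); and every p-block c of H with defect group P arises in this way from exactly one such B. This is the Brauer correspondence over H. -/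
theorem result {G : Type*} [Group G] [Fintype G] (p : ℕ) [Fact p.Prime] (M : Ideal Cfsg.AlgInt) (hM : Cfsg.IsPModular p M) (P H : Subgroup G) (hP : IsPGroup p P) (hH : Subgroup.normalizer (P : Set G) ≤ H) : (∀ B : Set (Cfsg.IrrCharacter G), Cfsg.IsPBlock M B → Cfsg.IsDefectGroup p M B P → ∃! c : Set (Cfsg.IrrCharacter H), Cfsg.IsPBlock M c ∧ Cfsg.IsDefectGroup p M c (P.subgroupOf H) ∧ ∀ x : G, x ∈ Subgroup.centralizer (P : Set G) → Cfsg.MemLocalIdeal M (Cfsg.blockCoeff B x - Cfsg.subgroupBlockCoeff H c x)) ∧ (∀ c : Set (Cfsg.IrrCharacter H), Cfsg.IsPBlock M c → Cfsg.IsDefectGroup p M c (P.subgroupOf H) → ∃! B : Set (Cfsg.IrrCharacter G), Cfsg.IsPBlock M B ∧ Cfsg.IsDefectGroup p M B P ∧ ∀ x : G, x ∈ Subgroup.centralizer (P : Set G) → Cfsg.MemLocalIdeal M (Cfsg.blockCoeff B x - Cfsg.subgroupBlockCoeff H c x)) := by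
  open Cfsg.Lib.Block Cfsg.Lib.Block2 Cfsg.Lib.Char Cfsg.Lib.Amalg in
  have := hM.2.1
  have hPH : P ≤ H := Subgroup.le_normalizer.trans hH
  have key : ∀ B c, IsPBlock M B → IsPBlock M c →
      ((∀ x : G, x ∈ Subgroup.centralizer (P : Set G) →
        MemLocalIdeal M (blockCoeff B x - subgroupBlockCoeff H c x)) ↔
        brauer P (eB M B) = brauer P (EB M c)) := by
    intro B c hB hc
    have h1 : ∀ x, MemLocalIdeal M (blockCoeff B x - subgroupBlockCoeff H c x) ↔
        (eB M B).coeff x = (EB M c).coeff x := fun x => by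
      rw [coeff_eB, coeff_EB, red_eq_red_iff (hB.memLocalRing_blockCoeff x)
        (by rw [← coeff_IB]; exact hc.isBlockUnion.isInt_IB x)]
    simp only [h1]
    constructor
    · intro h
      refine ga_ext fun x => ?_
      by_cases hx : x ∈ Subgroup.centralizer (P : Set G)
      · rw [coeff_trunc_of_mem _ hx, coeff_trunc_of_mem _ hx, h x hx]
      · rw [coeff_trunc_of_notMem _ hx, coeff_trunc_of_notMem _ hx]
    · intro h x hx
      rw [← coeff_trunc_of_mem (eB M B) hx, ← coeff_trunc_of_mem (EB M c) hx]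
      exact congrArg (fun a => a.coeff x) h
  have e1 : H ⊓ 𝐍 P = 𝐍 P := inf_eq_right.2 hH
  have e2 : ⊤ ⊓ 𝐍 P = 𝐍 P := top_inf_eq _
  have lH : LocalAt p P (H ⊓ 𝐍 P) H := localAt_normalizer hP hPH
  have lG : LocalAt p P (⊤ ⊓ 𝐍 P) ⊤ := localAt_normalizer hP le_top
  refine ⟨fun B hB hD => ?_, fun c hc hD => ?_⟩
  · obtain ⟨hi, hd⟩ := (hD.defG_top hM hB).ind_brauer hM (blk_top_eB hB)
    rw [e2, ← e1] at hi hd
    obtain ⟨η, hη⟩ := lH.exists_ind hM hi.blk
    obtain ⟨c, hc, rfl⟩ := hη.blk'.exists_eq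
    have e := hη.brauer_eq hM hd
    refine ⟨c, ⟨hc, (isDefectGroup_subgroupOf_iff hM hc hPH).2 (hη.defG_of_normalizer hM hd),
      (key B c hB hc).2 e.symm⟩, ?_⟩
    rintro c' ⟨hc', -, h⟩
    rw [key B c' hB hc'] at h
    refine EB_inj hc'.isBlockUnion hc.isBlockUnion
      (DefG.eq_of_brauer_mul_ne_zero hM (blk_EB hc') (blk_EB hc) hP hPH ?_)
    rw [← h, e, hi.blk.idem]
    exact hi.blk.ne_zero
  · obtain ⟨hi, hd⟩ := ((isDefectGroup_subgroupOf_iff hM hc hPH).1 hD).ind_brauer hM (blk_EB hc)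
    rw [e1, ← e2] at hi hd
    obtain ⟨η, hη⟩ := lG.exists_ind hM hi.blk
    obtain ⟨B, hB, rfl⟩ := hη.blk'.exists_eq_top
    have e := hη.brauer_eq hM hd
    refine ⟨B, ⟨hB, (isDefectGroup_iff_defG_top hM hB).2 (hη.defG_of_normalizer hM hd),
      (key B c hB hc).2 e⟩, ?_⟩
    rintro B' ⟨hB', -, h⟩
    rw [key B' c hB' hc] at h
    refine eB_inj hB'.isBlockUnion hB.isBlockUnion
      (DefG.eq_of_brauer_mul_ne_zero hM (blk_top_eB hB') (blk_top_eB hB) hP le_top ?_)
    rw [h, e, hi.blk.idem]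
    exact hi.blk.ne_zero

end Cfsg.Agent.S4670
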