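import Cfsg.Statements.S4671
import Cfsg.Agent.Lib.Block2.Cover

set_option autoImplicit false
open Cfsg

namespace Cfsg.Agent.S4671

/-- Fix a prime p and a maximal ideal M of the algebraic integers containing p. Let N be a normal subgroup of the finite group G, B a p-block of G and P a defect group of B. Then there is a p-block c of N, stable under conjugation by P and covered by B (some member of B has a constituent in c on restriction to N), such that P ∩ N is a defect group of c. -/
theorem result {G : Type*} [Group G] [Fintype G] (p : ℕ) [Fact p.Prime] (M : Ideal Cfsg.AlgInt) (hM : Cfsg.IsPModular p M) (N : Subgroup G) [N.Normal] [Fintype N] (B : Set (Cfsg.IrrCharacter G)) (hB : Cfsg.IsPBlock M B) (P : Subgroup G) (hP : Cfsg.IsDefectGroup p M B P) : ∃ c : Set (Cfsg.IrrCharacter N), Cfsg.IsPBlock M c ∧ (∀ x ∈ P, Cfsg.StabilizesBlock N c x) ∧ (∃ χ ∈ B, ∃ θ ∈ c, Cfsg.classInner (fun n : N => (χ : G → ℂ) n) (θ : N → ℂ) ≠ 0) ∧ Cfsg.IsDefectGroup p M c ((P ⊓ N).subgroupOf N) := by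
  open Cfsg.Lib.Block Cfsg.Lib.Block2 Cfsg.Lib.Char Cfsg.Lib.Amalg in
  have := hM.2.1
  obtain ⟨ε, hε, h0⟩ := (blk_top_eB hB).exists_covered (N := N) le_top
  obtain ⟨x, -, hf, -, hD⟩ := (hP.defG_top hM hB).exists_stable_cover hM (blk_top_eB hB) hε le_top
    Subgroup.le_normalizer_of_normal h0
  have hx := hε.cjA_of_mem_normalizer (x := x) (Subgroup.le_normalizer_of_normal (Subgroup.mem_top x))
  have h0x := (blk_top_eB hB).cover_cjA (Subgroup.mem_top x) h0
  obtain ⟨c, hc, e⟩ := hx.exists_eq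
  rw [e] at hf hD h0x
  refine ⟨c, hc, fun y hy => ?_, (covers_iff hB.isBlockUnion hc.isBlockUnion).2 h0x,
    (isDefectGroup_subgroupOf_iff hM hc inf_le_right).2 hD⟩
  exact (stabilizesBlock_iff hc.isBlockUnion).2
    ⟨Subgroup.le_normalizer_of_normal (Subgroup.mem_top y), hf.cjA_eq hy⟩

end Cfsg.Agent.S4671
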