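import Cfsg.Statements.S4672
import Cfsg.Agent.Lib.Block2.Cover

set_option autoImplicit false
open Cfsg

namespace Cfsg.Agent.S4672

/-- Fix a prime p and a maximal ideal M of the algebraic integers containing p. Let N be a normal subgroup of the finite group G of p-power index and c a p-block of N stable under conjugation by G. Then the idempotent of c is a block idempotent of G: there is a p-block B of G whose idempotent coefficients agree with those of c on N and vanish off N; and for every defect group P of such a block B, G = NP and P ∩ N is a defect group of c. -/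
theorem result {G : Type*} [Group G] [Fintype G] (p : ℕ) [Fact p.Prime] (M : Ideal Cfsg.AlgInt) (hM : Cfsg.IsPModular p M) (N : Subgroup G) [N.Normal] (hN : ∃ k : ℕ, N.index = p ^ k) (c : Set (Cfsg.IrrCharacter N)) (hc : Cfsg.IsPBlock M c) (hst : ∀ x : G, Cfsg.StabilizesBlock N c x) : (∃ B : Set (Cfsg.IrrCharacter G), Cfsg.IsPBlock M B ∧ ∀ g : G, Cfsg.blockCoeff B g = Cfsg.subgroupBlockCoeff N c g) ∧ ∀ B : Set (Cfsg.IrrCharacter G), Cfsg.IsPBlock M B → (∀ g : G, Cfsg.blockCoeff B g = Cfsg.subgroupBlockCoeff N c g) → ∀ P : Subgroup G, Cfsg.IsDefectGroup p M B P → N ⊔ P = ⊤ ∧ Cfsg.IsDefectGroup p M c ((P ⊓ N).subgroupOf N) := by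
  open Cfsg.Lib.Block Cfsg.Lib.Block2 Cfsg.Lib.Char Cfsg.Lib.Amalg in
  have := hM.2.1
  have hf : IsFixed ⊤ (EB M c) := isFixed_iff_cjA.2 fun x _ =>
    ((stabilizesBlock_iff hc.isBlockUnion).1 (hst x)).2
  have hp : PQuo p N ⊤ := pquo_top_iff.2 hN
  have hT : Blk ⊤ (EB M c) := (blk_EB hc).of_pquo hM le_top hp hf
  refine ⟨?_, fun B hB h P hP => ?_⟩
  · obtain ⟨B, hB, e⟩ := hT.exists_eq_top
    exact ⟨B, hB, blockCoeff_eq_of_eB_eq hB.isBlockUnion hc.isBlockUnion e.symm⟩
  · have e : eB M B = EB M c := eB_eq_of_blockCoeff_eq h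
    have hD := hP.defG_top hM hB
    rw [e] at hD
    exact ⟨hD.sup_eq_of_pquo hM (blk_EB hc) hf le_top Subgroup.le_normalizer_of_normal hp,
      (isDefectGroup_subgroupOf_iff hM hc inf_le_right).2
        (hD.of_blk_normal hM (blk_EB hc) hf le_top Subgroup.le_normalizer_of_normal).2⟩

end Cfsg.Agent.S4672
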