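import Cfsg.Statements.S4673
import Cfsg.Agent.Lib.Block2.Cover

set_option autoImplicit false
open Cfsg

namespace Cfsg.Agent.S4673

/-- Fix a prime p and a maximal ideal M of the algebraic integers containing p. Let N ≤ L be normal subgroups of the finite group G with L/N a p-group, let B be a p-block of G covering the p-block c of N (some member of B has a constituent in c on restriction to N), and suppose that N contains a defect group of B. Then the stabilizer T of c in G satisfies T ∩ L = N. -/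
theorem result {G : Type*} [Group G] [Fintype G] (p : ℕ) [Fact p.Prime] (M : Ideal Cfsg.AlgInt) (hM : Cfsg.IsPModular p M) (N L : Subgroup G) [N.Normal] [L.Normal] [Fintype N] (hNL : N ≤ L) (hLN : ∃ k : ℕ, (N.subgroupOf L).index = p ^ k) (B : Set (Cfsg.IrrCharacter G)) (hB : Cfsg.IsPBlock M B) (c : Set (Cfsg.IrrCharacter N)) (hc : Cfsg.IsPBlock M c) (hcov : (∃ χ ∈ B, ∃ θ ∈ c, Cfsg.classInner (fun n : N => (χ : G → ℂ) n) (θ : N → ℂ) ≠ 0)) (hD : ∃ D : Subgroup G, Cfsg.IsDefectGroup p M B D ∧ D ≤ N) (T : Subgroup G) (hT : ∀ x : G, x ∈ T ↔ Cfsg.StabilizesBlock N c x) : T ⊓ L = N := by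
  open Cfsg.Lib.Block Cfsg.Lib.Block2 Cfsg.Lib.Char Cfsg.Lib.Amalg in
  have := hM.2.1
  have h0 := (covers_iff hB.isBlockUnion hc.isBlockUnion).1 hcov
  have fr := (blk_EB hc).fr (H := ⊤) le_top Subgroup.le_normalizer_of_normal
  have eT : T = ⊤ ⊓ stabA (EB M c) := by
    ext x
    rw [hT, stabilizesBlock_iff hc.isBlockUnion, Subgroup.mem_inf, mem_stabA]
    exact ⟨fun h => ⟨trivial, h.2⟩, fun h => ⟨Subgroup.le_normalizer_of_normal (Subgroup.mem_top x), h.2⟩⟩
  rw [← eT] at fr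
  obtain ⟨β, hβ0, hi⟩ := fr.exists_ind_of_cover (blk_top_eB hB) h0
  have hNK : N ≤ T ⊓ L := le_inf fr.le_T hNL
  have hp : PQuo p N (T ⊓ L) :=
    ((pquo_iff_relIndex Subgroup.le_normalizer_of_normal).2 hLN).mono inf_le_right
  have hf : IsFixed (T ⊓ L) (EB M c) := fr.fixed.mono inf_le_left
  have hK : Blk (T ⊓ L) (EB M c) := (blk_EB hc).of_pquo hM hNK hp hf
  obtain ⟨R, hR⟩ := hK.exists_defG hM
  have e := hR.sup_eq_of_pquo hM (blk_EB hc) hf hNK Subgroup.le_normalizer_of_normal hp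
  obtain ⟨P, hP, eP⟩ := hR.exists_inf_eq hM hi.blk hK inf_le_left
    (fun x hx => Subgroup.inf_normalizer_le_normalizer_inf
      ⟨Subgroup.le_normalizer hx, Subgroup.le_normalizer_of_normal (Subgroup.mem_top x)⟩) hβ0
  obtain ⟨D, hD, hDN⟩ := hD
  obtain ⟨x, -, ex⟩ := (hD.defG_top hM hB).exists_cj_eq (fr.defG hM hβ0 hi hP)
  have hPN : P ≤ N := by
    rw [← ex, ← cj_normal x N]
    exact cj_mono x hDN
  rw [← e]
  exact sup_eq_left.2 (by rw [← eP]; exact inf_le_left.trans hPN)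

end Cfsg.Agent.S4673
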