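import Cfsg.Statements.S4674
import Cfsg.Agent.Lib.Block2.Cover2

set_option autoImplicit false
open Cfsg

namespace Cfsg.Agent.S4674

/-- Fix a prime p and a maximal ideal M of the algebraic integers containing p. Let N be a normal subgroup of the finite group G, Q a p-subgroup of N, H = N_G(Q) and L = H ∩ N = N_N(Q). Let d be a p-block of N with defect group Q and e the p-block of L with defect group Q that induces d inside N (its Brauer correspondent). Then block induction from H to G is a bijection from the p-blocks of H covering e onto the p-blocks of G covering d: every block of H covering e induces exactly one block of G, and that block covers d; and every block of G covering d is induced by exactly one block of H covering e. -/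
theorem result {G : Type*} [Group G] [Fintype G] (p : ℕ) [Fact p.Prime] (M : Ideal Cfsg.AlgInt) (hM : Cfsg.IsPModular p M) (N : Subgroup G) [N.Normal] [Fintype N] (Q : Subgroup G) (hQ : IsPGroup p Q) (hQN : Q ≤ N) [Fintype ↥(Subgroup.normalizer (Q : Set G) ⊓ N)] (d : Set (Cfsg.IrrCharacter N)) (hd : Cfsg.IsPBlock M d) (hdQ : Cfsg.IsDefectGroup p M d (Q.subgroupOf N)) (e : Set (Cfsg.IrrCharacter ↥(Subgroup.normalizer (Q : Set G) ⊓ N))) (he : Cfsg.IsPBlock M e) (heQ : Cfsg.IsDefectGroup p M e (Q.subgroupOf (Subgroup.normalizer (Q : Set G) ⊓ N))) (hed : Cfsg.IsInducedBlockIn M N (Subgroup.normalizer (Q : Set G) ⊓ N) e d) : (∀ c : Set (Cfsg.IrrCharacter ↥(Subgroup.normalizer (Q : Set G))), Cfsg.IsPBlock M c → (∃ ψ ∈ c, ∃ ξ ∈ e, Cfsg.classInner (fun l : ↥(Subgroup.normalizer (Q : Set G) ⊓ N) => (ψ : ↥(Subgroup.normalizer (Q : Set G)) → ℂ) (Subgroup.inclusion inf_le_left l)) (ξ : ↥(Subgroup.normalizer (Q : Set G) ⊓ N) →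 ℂ) ≠ 0) → ∃! B : Set (Cfsg.IrrCharacter G), Cfsg.IsInducedBlock M (Subgroup.normalizer (Q : Set G)) c B ∧ (∃ χ ∈ B, ∃ θ ∈ d, Cfsg.classInner (fun n : N => (χ : G → ℂ) n) (θ : N → ℂ) ≠ 0)) ∧ (∀ B : Set (Cfsg.IrrCharacter G), Cfsg.IsPBlock M B → (∃ χ ∈ B, ∃ θ ∈ d, Cfsg.classInner (fun n : N => (χ : G → ℂ) n) (θ : N → ℂ) ≠ 0) → ∃! c : Set (Cfsg.IrrCharacter ↥(Subgroup.normalizer (Q : Set G))), (Cfsg.IsPBlock M c ∧ ∃ ψ ∈ c, ∃ ξ ∈ e, Cfsg.classInner (fun l : ↥(Subgroup.normalizer (Q : Set G) ⊓ N) => (ψ : ↥(Subgroup.normalizer (Q : Set G)) → ℂ) (Subgroup.inclusion inf_le_left l)) (ξ : ↥(Subgroup.normalizer (Q : Set G) ⊓ N) → ℂ) ≠ 0) ∧ Cfsg.IsInducedBlock M (Subgroup.normalizer (Q : Set G)) c B) := by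
  open Cfsg.Lib.Block Cfsg.Lib.Block2 Cfsg.Lib.Char Cfsg.Lib.Amalg in
  have := hM.2.1
  have e0 : 𝐍 Q ⊓ N = N ⊓ 𝐍 Q := inf_comm _ _
  have e1 : ⊤ ⊓ 𝐍 Q = 𝐍 Q := top_inf_eq _
  have hi : Ind (N ⊓ 𝐍 Q) (EB M e) N (EB M d) := e0 ▸ hed.ind inf_le_right
  have hD : DefG p (N ⊓ 𝐍 Q) (EB M e) Q :=
    e0 ▸ (isDefectGroup_subgroupOf_iff hM he (le_inf Subgroup.le_normalizer hQN)).1 heQ
  refine ⟨fun c hc hcov => ?_, fun B hB hcov => ?_⟩
  · have h0 := (coversIn_iff inf_le_left hc.isBlockUnion he.isBlockUnion).1 hcov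
    obtain ⟨B, hB⟩ := hc.inducedBlockDefined hM hQ Subgroup.le_normalizer
      (Subgroup.centralizer_le_normalizer _) le_rfl
    refine ⟨B, ⟨hB, (covers_iff hB.2.1.isBlockUnion hd.isBlockUnion).2 ?_⟩,
      fun B' h => h.1.unique hB⟩
    exact hi.cover_of_local hM hQ hQN le_top Subgroup.le_normalizer_of_normal h0 (e1.symm ▸ hB.ind)
  · obtain ⟨γ, h0, h⟩ := hi.exists_local_of_cover hM hQ hQN le_top Subgroup.le_normalizer_of_normal
      (blk_top_eB hB) ((covers_iff hB.isBlockUnion hd.isBlockUnion).1 hcov)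
    have h' := h
    rw [e1] at h'
    obtain ⟨c, hc, rfl⟩ := h'.blk.exists_eq
    refine ⟨c, ⟨⟨hc, (coversIn_iff inf_le_left hc.isBlockUnion he.isBlockUnion).2 h0⟩,
      h'.isInducedBlock hc hB⟩, ?_⟩
    rintro c' ⟨⟨hc', hcov'⟩, h2⟩
    refine EB_inj hc'.isBlockUnion hc.isBlockUnion (Ind.eq_of_cover_local hM hi.blk hD le_top
      Subgroup.le_normalizer_of_normal
      ((coversIn_iff inf_le_left hc'.isBlockUnion he.isBlockUnion).1 hcov') h0
      (e1.symm ▸ h2.ind) h)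

end Cfsg.Agent.S4674
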