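import Cfsg.Statements.S4682
import Cfsg.Agent.Lib.Block2.Nil

set_option autoImplicit false
open Cfsg

namespace Cfsg.Agent.S4682

/-- Fix a prime p and a maximal ideal M of the algebraic integers containing p, a p-block B of the finite group G with maximal Brauer pair (P, e), P abelian, and a Brauer pair (Q, f) ≤ (P, e). Let T_Q be the stabilizer of f in N_G(Q) and T_P the stabilizer of e in N_G(P). Then every element of T_Q is a product of an element of T_P and an element of C_G(Q); and the index of C_G(Q) in T_Q equals the index of T_P ∩ C_G(Q) in T_P ∩ N_G(Q). -/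
theorem result {G : Type*} [Group G] [Fintype G] (p : ℕ) [Fact p.Prime] (M : Ideal Cfsg.AlgInt) (hM : Cfsg.IsPModular p M) (B : Set (Cfsg.IrrCharacter G)) (P : Subgroup G) (e : Set (Cfsg.IrrCharacter (Subgroup.centralizer (P : Set G)))) (hmax : Cfsg.IsMaximalBrauerPair p M B P e) (hab : ∀ x ∈ P, ∀ y ∈ P, x * y = y * x) (Q : Subgroup G) (f : Set (Cfsg.IrrCharacter (Subgroup.centralizer (Q : Set G)))) (hQP : Q ≤ P) (hf : Cfsg.IsPBlock M f) (hle : Cfsg.SubpairLE p M Q f P e) (TQ : Subgroup G) (hTQ : ∀ y : G, y ∈ TQ ↔ y ∈ Subgroup.normalizer (Q : Set G) ∧ Cfsg.StabilizesBlock (Subgroup.centralizer (Q : Set G)) f y) (TP : Subgroup G) (hTP : ∀ y : G, y ∈ TP ↔ y ∈ Subgroup.normalizer (P : Set G) ∧ Cfsg.StabilizesBlock (Subgroup.centralizer (P : Set G)) e y) : (∀ x ∈ TQ, ∃ y ∈ TP, ∃ c ∈ Subgroup.centralizer (Q : Set G), x = y * c) ∧ ((Subgroup.centralizer (Q : Set G)).subgroupOf TQ).index = ((TP ⊓ Subgroup.centralizer (Q : Set G)).subgroupOf (TP ⊓ Subgroup.normalizer (Q : Set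 G))).index := by
  open Cfsg.Lib.Block Cfsg.Lib.Block2 Cfsg.Lib.Char Cfsg.Lib.Amalg in
  have := hM.2.1
  have hm := Cfsg.IsMaximalBrauerPair.maxP hM hmax
  have h := Cfsg.SubpairLE.sle hM hle hmax.1.1
  obtain rfl := eq_stabP_of_forall hf hTQ
  obtain rfl := eq_stabP_of_forall hmax.1.1.2 hTP
  have hP := (le_cent_self_of_comm hab).trans (Subgroup.centralizer_le hQP)
  constructor
  · intro x hx
    obtain ⟨y, hy, c, hc, e⟩ := hm.exists_mul_of_comm hM hP h hx
    exact ⟨y, hy, c, hc.2, e⟩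
  · change Subgroup.relIndex _ _ = Subgroup.relIndex _ _
    rw [hm.stabP_eq_of_comm hM hP h, top_inf_eq,
      Lib.Core.relIndex_sup_of_le_normalizer (inf_le_right.trans norm_le_norm_cent),
      ← Subgroup.inf_relIndex_right (stabP ⊤ P (EB M e) ⊓ _), ← Subgroup.inf_relIndex_right (Subgroup.centralizer _)]
    congr 1
    exact le_antisymm (le_inf (le_inf (inf_le_right.trans inf_le_left) inf_le_left) inf_le_right)
      (inf_le_inf_right _ inf_le_right)

end Cfsg.Agent.S4682
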