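import Cfsg.Statements.S4683
import Cfsg.Agent.Lib.Small.Subsec

set_option autoImplicit false
open Cfsg

namespace Cfsg.Agent.S4683

open Cfsg.Lib.Small Cfsg.Lib.Char Cfsg.Lib.Block Cfsg.Lib.Block2 Subgroup
open scoped ComplexConjugate

theorem aux {G : Type*} [Group G] [Fintype G] {H : Subgroup G} {u : G} (hH : H = centralizer {u})
    (e : Set (IrrCharacter H)) {χ : G → ℂ} (hχ : IsCharacter G χ) (s : H) :
    blockPart e (fun c : H => χ (u⁻¹ * c)) s⁻¹ = conj (blockPart e (fun c : H => χ (u * c)) s) := by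
  classical
  haveI := Fintype.ofFinite H
  obtain ⟨l, h1, h2⟩ := exists_scalar hH
  simp only [blockPart_eq, Finset.sum_apply, map_sum, Pi.smul_apply, smul_eq_mul, map_mul]
  refine Finset.sum_congr rfl fun ξ _ => ?_
  rw [ξ.2.isCharacter.apply_inv]
  congr 1
  obtain ⟨n, hn⟩ := (hχ.restrict H).classInner_nat ξ.2.isCharacter
  have h3 := h2 (fun g => χ (u⁻¹ * g)) ξ
  simp only [inv_mul_cancel_left] at h3
  rw [h2, hn, map_mul, map_natCast, conj_eq_inv_of_pow (orderOf_pos u).ne' (h1 ξ), ← hn, h3,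
    mul_inv_cancel_right₀]
  intro h
  have := h1 ξ
  rw [h, zero_pow (orderOf_pos u).ne'] at this
  exact zero_ne_one this

/-- Fix a prime p and a maximal ideal M of the algebraic integers containing p, a p-block B of the finite group G, a p-element u and a p-block e of C = C_G(u) such that (⟨u⟩, e) is a Brauer pair of B (a Brauer element of B). For χ ∈ B let χ_u be the e-part of the class function c ↦ χ(u c) on C and χ_u' the e-part of c ↦ χ(u⁻¹ c). Then the sum over χ ∈ B and over the p-regular elements s of C of χ_u(s)·χ_u'(s⁻¹) equals the order of C times the p-regular rank of e (the number of irreducible Brauer characters of e). -/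
theorem result {G : Type*} [Group G] [Fintype G] (p : ℕ) [Fact p.Prime] (M : Ideal Cfsg.AlgInt) (hM : Cfsg.IsPModular p M) (B : Set (Cfsg.IrrCharacter G)) (u : G) (hu : ∃ k : ℕ, orderOf u = p ^ k) (e : Set (Cfsg.IrrCharacter (Subgroup.centralizer (Subgroup.zpowers u : Set G)))) (hBe : Cfsg.IsBrauerPairOf p M B (Subgroup.zpowers u) e) : ∑ᶠ χ ∈ B, ∑ᶠ s : Subgroup.centralizer (Subgroup.zpowers u : Set G), Cfsg.pRegularPart p (Cfsg.blockPart e (fun c : Subgroup.centralizer (Subgroup.zpowers u : Set G) => (χ : G → ℂ) (u * c))) s * Cfsg.blockPart e (fun c : Subgroup.centralizer (Subgroup.zpowers u : Set G) => (χ : G → ℂ) (u⁻¹ * c)) s⁻¹ = (Nat.card (Subgroup.centralizer (Subgroup.zpowers u : Set G)) : ℂ) * (Cfsg.blockRank p e : ℂ) := by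
  classical
  haveI := hM.2.1
  have hH := centralizer_zpowers_eq u
  have hu' : e ⊆ under M _ B := fun ξ hξ => by
    have h1 := hBe.2.2 ξ hξ
    have h3 := ξ.2.memLocalRing_omega (M := M) ((isCen_idem B).res _) (hBe.2.1.isInt_idem.res _)
    have h2 : brauerOmega (zpowers u) (blockCoeff B) ξ.1 = omega ξ.1 (res _ (idem B)) := by
      rw [omega_apply_sum, brauerOmega, finsum_eq_sum_of_fintype]; rfl
    rw [h2, ← red_eq_red_iff h3 memLocalRing_one,
      ← ξ.2.lam_redA ((isCen_idem B).res _) (hBe.2.1.isInt_idem.res _), redA_res, red_one] at h1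
    exact h1
  rw [← trace_subsec hM hBe.2.1.isBlockUnion hH hu hBe.1.2.isBlockUnion hu',
    Cfsg.Lib.Block2.finsum_mem_irr, Finset.mul_sum]
  refine Finset.sum_congr rfl fun χ _ => ?_
  rw [fsub, classInner_reg_reg, card_mul_classInner, finsum_eq_sum_of_fintype]
  exact Finset.sum_congr rfl fun s _ => by rw [aux hH e χ.2.isCharacter, pRegularPart_eq]

end Cfsg.Agent.S4683
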