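import Cfsg.Statements.S4684
import Cfsg.Agent.Lib.Block2.Puig

set_option autoImplicit false
open Cfsg

namespace Cfsg.Agent.S4684

/-- Fix a prime p and a maximal ideal M of the algebraic integers containing p, a p-block B of the finite group G with maximal Brauer pair (P, e) and fusion system F on P. Then the number of irreducible characters of height zero in B is divisible by the index in P of the focal subgroup of F. -/
theorem result {G : Type*} [Group G] [Fintype G] (p : ℕ) [Fact p.Prime] (M : Ideal Cfsg.AlgInt) (hM : Cfsg.IsPModular p M) (B : Set (Cfsg.IrrCharacter G)) (P : Subgroup G) (e : Set (Cfsg.IrrCharacter (Subgroup.centralizer (P : Set G)))) (hmax : Cfsg.IsMaximalBrauerPair p M B P e) (F : Cfsg.FusionSystem P) (hF : Cfsg.IsBlockFusionSystemOn p M B P e F) : (F.focalSubgroup.subgroupOf P).index ∣ Nat.card {χ : Cfsg.IrrCharacter G // χ ∈ B ∧ Cfsg.blockHeight p B (χ : G → ℂ) = 0} := by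
  open Cfsg.Lib Cfsg.Lib.Block Cfsg.Lib.Block2 Cfsg.Lib.Char Cfsg.Lib.Amalg in
  have := hM.2.1
  have hF' := hF.isBF hM
  have hm := hmax.maxP hM
  have hB := hmax.1.2.1
  rw [← card_linK (hF'.commutator_le hM hm.bp), ← Subgroup.relIndex_bot_left]
  refine hm.relIndex_dvd_card hM hB (fun l hl => hF'.fSt_linear hl) 0 fun χ hχ h0 l hl e =>
    Subgroup.mem_bot.2 (MonoidHom.ext fun u => Units.ext ?_)
  have h1 := hm.bp.sle_sp hM u.2
  have := (hF'.fSt_linear hl).apply_eq_one hM h1 ((hm.bpo.of_sle hM h1).con_ne_zero hM hB hχ hχ h0 h0) e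
  rwa [extendByZero_coe] at this

end Cfsg.Agent.S4684
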