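import Cfsg.Statements.S4685
import Cfsg.Agent.Lib.Block2.Puig

set_option autoImplicit false
open Cfsg

namespace Cfsg.Agent.S4685

/-- Fix a prime p and a maximal ideal M of the algebraic integers containing p, a p-block B of the finite group G with maximal Brauer pair (P, e) and fusion system F on P. Then for every h the number of irreducible characters of height h in B is divisible by the index of Z(P) ∩ foc(F) in Z(P), where foc(F) is the focal subgroup of F. -/
theorem result {G : Type*} [Group G] [Fintype G] (p : ℕ) [Fact p.Prime] (M : Ideal Cfsg.AlgInt) (hM : Cfsg.IsPModular p M) (B : Set (Cfsg.IrrCharacter G)) (P : Subgroup G) (e : Set (Cfsg.IrrCharacter (Subgroup.centralizer (P : Set G)))) (hmax : Cfsg.IsMaximalBrauerPair p M B P e) (F : Cfsg.FusionSystem P) (hF : Cfsg.IsBlockFusionSystemOn p M B P e F) (h : ℕ) : ((P ⊓ Subgroup.centralizer (P : Set G) ⊓ F.focalSubgroup).subgroupOf (P ⊓ Subgroup.centralizer (P : Set G))).index ∣ Nat.card {χ : Cfsg.IrrCharacter G // χ ∈ B ∧ Cfsg.blockHeight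 p B (χ : G → ℂ) = h} := by
  open Cfsg.Lib Cfsg.Lib.Block Cfsg.Lib.Block2 Cfsg.Lib.Char Cfsg.Lib.Amalg in
  have := hM.2.1
  have hF' := hF.isBF hM
  have hm := hmax.maxP hM
  have hB := hmax.1.2.1
  obtain ⟨χ₀, h₀, h0⟩ := exists_blockHeight_eq_zero (p := p) hB.nonempty
  have h2 := relIndex_linK (hF'.commutator_le hM hm.bp)
    ((P ⊓ Subgroup.centralizer (P : Set G)).subgroupOf P)
  rw [Subgroup.relIndex_subgroupOf inf_le_left] at h2
  refine ((Subgroup.inf_relIndex_left _ _).trans h2.symm).dvd.trans <| hm.relIndex_dvd_card hM hB (fun l hl => hF'.fSt_linear hl) h fun χ hχ _ l hl e =>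
    mem_linK.2 fun u hu => Units.ext ?_
  have h1 := hm.bp.sle_sp hM u.2
  have := (hF'.fSt_linear hl).apply_eq_one hM h1 (hm.con_ne_zero_of_major hM hB h1 hu.2 hχ h₀ h0) e
  rwa [extendByZero_coe] at this

end Cfsg.Agent.S4685
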