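import Cfsg.Statements.S4690
import Cfsg.Agent.Lib.Block2.Puig

set_option autoImplicit false
open Cfsg

namespace Cfsg.Agent.S4690

/-- Fix a prime p and a maximal ideal M of the algebraic integers containing p, and a nilpotent p-block B of the finite group G with defect group P. Then there is a bijection from B onto the irreducible characters of P carrying the height of each χ ∈ B to the exponent of p in the degree of its image. -/
theorem result {G : Type*} [Group G] [Fintype G] (p : ℕ) [Fact p.Prime] (M : Ideal Cfsg.AlgInt) (hM : Cfsg.IsPModular p M) (B : Set (Cfsg.IrrCharacter G)) (hnil : Cfsg.IsNilpotentBlock p M B) (P : Subgroup G) (hP : Cfsg.IsDefectGroup p M B P) : ∃ Φ : B ≃ Cfsg.IrrCharacter P, ∀ χ : B, Cfsg.blockHeight p B ((χ : Cfsg.IrrCharacter G) : G → ℂ) = (Cfsg.charDegree ((Φ χ : Cfsg.IrrCharacter P) : P → ℂ)).factorization p := by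
  open Cfsg.Lib Cfsg.Lib.Block Cfsg.Lib.Block2 Cfsg.Lib.Char Cfsg.Lib.Amalg in
  have := hM.2.1
  have hB := hnil.1
  obtain ⟨χ₀, h₀, h0⟩ := exists_blockHeight_eq_zero (p := p) hB.nonempty
  have hn := (isNilpotentBlock_iff_top hM hB).1 hnil
  obtain ⟨ε, hm⟩ := (hP.defG_top hM hB).exists_maxP hM hn.blk
  obtain ⟨Φ, h⟩ := hn.exists_equiv hM hB hm h₀ h0
  refine ⟨Φ.symm, fun χ => ?_⟩
  obtain ⟨θ, rfl⟩ := Φ.surjective χ
  rw [Φ.symm_apply_apply, Block.blockHeight_eq, (h θ).2, Nat.factorization_mul θ.2.charDegree_ne_zero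
    χ₀.2.charDegree_ne_zero, Finsupp.add_apply, (blockHeight_eq_zero_iff_eq h₀).1 h0, Nat.add_sub_cancel]

end Cfsg.Agent.S4690
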