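import Cfsg.Statements.S4693
import Cfsg.Agent.Lib.Block2.Nil

set_option autoImplicit false
open Cfsg

namespace Cfsg.Agent.S4693

/-- Fix a prime p and a maximal ideal M of the algebraic integers containing p, a p-block B of the finite group G with maximal Brauer pair (P, e) and fusion system F on P, and a Brauer pair (Q, f) ≤ (P, e) with Q centric in F. Suppose every element of G normalizes Q and stabilizes f. Then the idempotent of B agrees with that of f modulo M at every element of G, and f is the idempotent of a nilpotent block of Q·C_G(Q): some p-block of Q·C_G(Q) has the idempotent coefficients of f and is nilpotent. -/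
theorem result {G : Type*} [Group G] [Fintype G] (p : ℕ) [Fact p.Prime] (M : Ideal Cfsg.AlgInt) (hM : Cfsg.IsPModular p M) (B : Set (Cfsg.IrrCharacter G)) (P : Subgroup G) (e : Set (Cfsg.IrrCharacter (Subgroup.centralizer (P : Set G)))) (hmax : Cfsg.IsMaximalBrauerPair p M B P e) (F : Cfsg.FusionSystem P) (hF : Cfsg.IsBlockFusionSystemOn p M B P e F) (Q : Subgroup G) (f : Set (Cfsg.IrrCharacter (Subgroup.centralizer (Q : Set G)))) (hQP : Q ≤ P) (hf : Cfsg.IsPBlock M f) (hle : Cfsg.SubpairLE p M Q f P e) (hcen : F.IsCentric Q) (hG : ∀ x : G, x ∈ Subgroup.normalizer (Q : Set G) ∧ Cfsg.StabilizesBlock (Subgroup.centralizer (Q : Set G)) f x) : (∀ g : G, Cfsg.MemLocalIdeal M (Cfsg.blockCoeff B g - Cfsg.subgroupBlockCoeff (Subgroup.centralizer (Q : Set G)) f g)) ∧ ∃ F' : Set (Cfsg.IrrCharacter ↥(Q ⊔ Subgroup.centralizer (Q : Set G))), Cfsg.IsPBlock M F' ∧ (∀ t : ↥(Q ⊔ Subgroup.centralizer (Q : Set G)), Cfsg.blockCoeff F' t = Cfsg.subgroupBlockCoeff (Subgroup.centralizer (Q : Set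 G)) f (t : G)) ∧ Cfsg.IsNilpotentBlock p M F' := by
  open Cfsg.Lib.Block Cfsg.Lib.Block2 Cfsg.Lib.Char Cfsg.Lib.Amalg in
  have := hM.2.1
  have hm := Cfsg.IsMaximalBrauerPair.maxP hM hmax
  have h := Cfsg.SubpairLE.sle hM hle hmax.1.1
  have hT : ⊤ = stabP ⊤ Q (EB M f) := eq_stabP_of_forall hf fun x =>
    iff_of_true (Subgroup.mem_top x) (hG x)
  constructor
  · have h1 := (hm.bpo.of_sle hM h).unique hM (h.bp.bpo_self hM le_top hT.le)
    intro g
    rw [blockCoeff_eq_of_eB_eq hmax.1.2.1.isBlockUnion hf.isBlockUnion h1, sub_self]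
    exact memLocalIdeal_zero
  · have h1 := (h.bp.defG_sup_iff hM).2
      (((Cfsg.IsBlockFusionSystemOn.isBF hM hF).centric_iff hM hm h).1 hcen)
    have h2 := h.bp.blk_sup hM
    rw [top_inf_eq] at h1 h2
    obtain ⟨F', hF', e1, e2⟩ := h2.exists_blockCoeff_eq hf le_sup_right
    exact ⟨F', hF', e2, (isNilpotentBlock_iff hM hF').2
      (by rw [e1]; exact h1.nilB_of_le_sup hM h2 le_rfl)⟩

end Cfsg.Agent.S4693
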