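import Cfsg.Statements.S4694
import Cfsg.Agent.Lib.Block2.Canon

set_option autoImplicit false
open Cfsg

namespace Cfsg.Agent.S4694

/-- Fix a prime p and a maximal ideal M of the algebraic integers containing p, a p-block B of the finite group G and a Brauer pair (Q, e) of B. Let T be the stabilizer of e in N_G(Q) and suppose that (Q, e) carries a weight: the block of T whose idempotent is that of e contains an irreducible character χ that is constant on the cosets of Q and whose degree has p-part equal to the p-part of the index of Q in T. Then Z(Q) is a defect group of e as a block of C_G(Q), and Q is the largest normal p-subgroup of T: every p-subgroup of T normalized by T lies in Q. -/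
theorem result {G : Type*} [Group G] [Fintype G] (p : ℕ) [Fact p.Prime] (M : Ideal Cfsg.AlgInt) (hM : Cfsg.IsPModular p M) (B : Set (Cfsg.IrrCharacter G)) (Q : Subgroup G) (e : Set (Cfsg.IrrCharacter (Subgroup.centralizer (Q : Set G)))) (hQe : Cfsg.IsBrauerPairOf p M B Q e) (T : Subgroup G) (hT : ∀ y : G, y ∈ T ↔ y ∈ Subgroup.normalizer (Q : Set G) ∧ Cfsg.StabilizesBlock (Subgroup.centralizer (Q : Set G)) e y) (F' : Set (Cfsg.IrrCharacter T)) (hF' : Cfsg.IsPBlock M F') (hF'e : ∀ t : T, Cfsg.blockCoeff F' t = Cfsg.subgroupBlockCoeff (Subgroup.centralizer (Q : Set G)) e (t : G)) (χ : Cfsg.IrrCharacter T) (hχ : χ ∈ F') (hχQ : ∀ q : G, q ∈ Q → ∀ t : T, ∀ t' : T, (t' : G) = q * (t : G) → (χ : T → ℂ) t' = (χ : T → ℂ) t) (hdeg : (Cfsg.charDegree (χ : T → ℂ)).factorization p + (Nat.card Q).factorization p = (Nat.card T).factorization p) : Cfsg.IsDefectGroup p M e ((Q ⊓ Subgroup.centralizer (Q : Set G)).subgroupOf (Subgroup.centralizer (Q : Set G))) ∧ ∀ R : Subgroup G, R ≤ T → IsPGroup p R → (∀ t ∈ T, t ∈ Subgroup.normalizer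 (R : Set G)) → R ≤ Q := by
  open Cfsg.Lib Cfsg.Lib.Block Cfsg.Lib.Block2 Cfsg.Lib.Char Cfsg.Lib.Amalg in
  have := hM.2.1
  have he := hQe.1
  have hbp := he.bp
  obtain rfl := eq_stabP_of_forall he.2 hT
  have hQT := hbp.le_stabP
  have hCT : Subgroup.centralizer (Q : Set G) ≤ stabP ⊤ Q (EB M e) :=
    le_trans (le_inf le_top le_rfl) hbp.cent_le_stabP
  haveI : (Q.subgroupOf (stabP ⊤ Q (EB M e))).Normal :=
    Subgroup.normal_subgroupOf_of_le_normalizer stabP_le_norm
  have hf := QuotientGroup.mk'_surjective (Q.subgroupOf (stabP ⊤ Q (EB M e)))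
  obtain ⟨ψ, rfl⟩ := exists_infl hf (χ := χ) (by
    rw [QuotientGroup.ker_mk']
    exact fun q hq t => hχQ q hq t _ rfl)
  have h0 : (charDegree ψ.1).factorization p =
      (Nat.card (stabP ⊤ Q (EB M e) ⧸ Q.subgroupOf (stabP ⊤ Q (EB M e)))).factorization p := by
    have hi := factorization_index_add (p := p) (Q.subgroupOf (stabP ⊤ Q (EB M e)))
    rw [Nat.card_congr (Subgroup.subgroupOfEquivOfLe hQT).toEquiv] at hi
    rw [charDegree_infl] at hdeg
    rw [← Subgroup.index]
    omega
  constructor
  · let g := (QuotientGroup.mk' (Q.subgroupOf (stabP ⊤ Q (EB M e)))).comp (Subgroup.inclusion hCT)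
    have hk : g.rangeRestrict.ker = (Q ⊓ Subgroup.centralizer (Q : Set G)).subgroupOf _ := by
      rw [MonoidHom.ker_rangeRestrict, ← MonoidHom.comap_ker, QuotientGroup.ker_mk',
        Subgroup.inf_subgroupOf_right]
      rfl
    haveI : g.range.Normal := by
      rw [MonoidHom.range_comp, Subgroup.inclusion_range]
      exact (Subgroup.normal_subgroupOf_of_le_normalizer
        (stabP_le_norm.trans norm_le_norm_cent)).map _ hf
    obtain ⟨θ, h1⟩ := exists_lying_under' g.range.subtype ψ
    rw [← hk]
    refine isDefectGroup_ker_of_infl g.rangeRestrict_surjective hM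
      (hk ▸ (he.1.to_inf_left).comap_subtype)
      (hk ▸ pquo_cent_of_le_center (inf_cent_subgroupOf_le_center Q)) he.2
      (Over.mem_of_mul_eq hCT hF'.isBlockUnion he.2.isBlockUnion ?_ ?_ hχ) (h1.defectZero hM h0)
    · exact (congrArg _ (EB_eq_of_blockCoeff_eq hCT hF'e).symm).trans (blk_EB hF').idem
    · haveI := Fintype.ofFinite g.range
      haveI := Fintype.ofFinite (Subgroup.centralizer (Q : Set G))
      rw [over_subtype_iff, ← classInner_comp_surjective _ g.rangeRestrict_surjective] at h1
      exact over_iff.2 h1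
  · intro R hR hp hn
    haveI : (R.subgroupOf (stabP ⊤ Q (EB M e))).Normal :=
      Subgroup.normal_subgroupOf_of_le_normalizer hn
    haveI := (this.map _ hf)
    have h1 := (isDefectGroup_singleton_bot hM h0).normal_le hM
      (P := (R.subgroupOf _).map (QuotientGroup.mk' (Q.subgroupOf (stabP ⊤ Q (EB M e)))))
      (isPBlock_singleton_of_defectZero hM h0) ((hp.comap_subtype (K := stabP ⊤ Q (EB M e))).map
        (QuotientGroup.mk' (Q.subgroupOf (stabP ⊤ Q (EB M e)))))
    rw [le_bot_iff, Subgroup.map_eq_bot_iff, QuotientGroup.ker_mk'] at h1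
    exact fun r hr => h1 (show (⟨r, hR hr⟩ : stabP ⊤ Q (EB M e)) ∈ _ from hr)

end Cfsg.Agent.S4694
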