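import Cfsg.Statements.S4696
import Cfsg.Agent.Lib.Small.DadeH

set_option autoImplicit false
open Cfsg

namespace Cfsg.Agent.S4696

open Cfsg.Lib Cfsg.Lib.Block Cfsg.Lib.Block2 Cfsg.Lib.Char Cfsg.Lib.Amalg Cfsg.Lib.Small

/-- Let p be a prime, M a maximal ideal of the algebraic integers containing p, and B a p-block of the finite group G whose defect group D is cyclic of order p^a with a ≥ 1. Let C = C_G(D), let b be a block of C inducing B, let T be the stabilizer of b in N_G(D) (the elements g of N_G(D) such that the g-conjugate of every member of b is again in b), and let e be the index of C in T (the inertial index of B). Then e divides p − 1, every irreducible character in B has height zero, and B is the disjoint union of a set X of e characters and a set Y of (p^a − 1)/e characters, the members of Y agreeing on p-regular elements, for which there are signs δ_χ = ±1 (χ ∈ X) and δ₀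 = ±1 such that: for every ψ ∈ Y and every p-regular g, δ₀ ψ(g) + Σ_{χ ∈ X} δ_χ χ(g) = 0; for all χ, χ' ∈ X the integers δ_χ χ(1) and δ_χ' χ'(1) are congruent modulo p^a; and for ψ ∈ Y and χ ∈ X, ψ(1) ≡ −e δ₀ δ_χ χ(1) modulo p^a. -/
theorem result {G : Type*} [Group G] [Finite G] (p : ℕ) [Fact p.Prime] (M : Ideal Cfsg.AlgInt) (hM : Cfsg.IsPModular p M) (D : Subgroup G) (hD : IsCyclic D) (a : ℕ) (ha : 1 ≤ a) (hDa : Nat.card D = p ^ a) (B : Set (Cfsg.IrrCharacter G)) (hB : Cfsg.IsPBlock M B) (hBD : Cfsg.IsDefectGroup p M B D) (b : Set (Cfsg.IrrCharacter (Subgroup.centralizer (D : Set G)))) (hind : Cfsg.IsInducedBlock M (Subgroup.centralizer (D : Set G)) b B) (T : Subgroup G) (hT : ∀ g : G, g ∈ T ↔ (g ∈ Subgroup.normalizer (D : Set G) ∧ ∀ θ ∈ b, ∀ θ' : Cfsg.IrrCharacter (Subgroup.centralizer (D : Set G)), (∀ h h' : Subgroup.centralizer (D : Set G), (h' : G) = g * h * g⁻¹ → (θ' : Subgroup.centralizer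 (D : Set G) → ℂ) h' = (θ : Subgroup.centralizer (D : Set G) → ℂ) h) → θ' ∈ b)) (e : ℕ) (he : (Subgroup.centralizer (D : Set G)).relIndex T = e) : e ∣ p - 1 ∧ (∀ χ ∈ B, Cfsg.blockHeight p B (χ : G → ℂ) = 0) ∧ ∃ X Y : Set (Cfsg.IrrCharacter G), B = X ∪ Y ∧ Disjoint X Y ∧ Nat.card X = e ∧ Nat.card Y = (p ^ a - 1) / e ∧ (∀ ψ ∈ Y, ∀ ψ' ∈ Y, ∀ g : G, ¬ p ∣ orderOf g → (ψ : G → ℂ) g = (ψ' : G → ℂ) g) ∧ ∃ (δ : Cfsg.IrrCharacter G → ℤ) (δ₀ : ℤ), (∀ χ ∈ X, δ χ = 1 ∨ δ χ = -1) ∧ (δ₀ = 1 ∨ δ₀ = -1) ∧ (∀ ψ ∈ Y, ∀ g : G, ¬ p ∣ orderOf g → (δ₀ : ℂ) * (ψ : G → ℂ) g + ∑ᶠ χ ∈ X, (δ χ : ℂ) * (χ : G → ℂ) g = 0) ∧ (∀ χ ∈ X, ∀ χ' ∈ X, δ χ * (Cfsg.charDegree (χ : G → ℂ) : ℤ) ≡ δ χ' * (Cfsg.charDegree (χ' : G → ℂ) : ℤ) [ZMOD (p : ℤ) ^ a]) ∧ (∀ ψ ∈ Y, ∀ χ ∈ X, (Cfsg.charDegree (ψ : G → ℂ) : ℤ) ≡ -((e : ℤ) * δ₀ * δ χ * (Cfsg.charDegree (χ : G → ℂ) : ℤ)) [ZMOD (p : ℤ) ^ a]) := by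
  have := hM.2.1
  haveI := Fintype.ofFinite D
  have h1 : D ≠ ⊥ := fun e => by
    rw [e, Subgroup.card_bot] at hDa
    exact (Nat.one_lt_pow (by omega) hM.1.one_lt).ne hDa
  obtain rfl : T = stabP ⊤ D (EB M b) := Subgroup.ext fun g => by
    rw [hT, mem_stabP, and_iff_right (Subgroup.mem_top g)]
    exact and_congr_right fun hg =>
      stab_iff_EB (cj_of_mem_normalizer (norm_le_norm_cent hg)) hind.1.isBlockUnion
  obtain ⟨h2, h3, B, rfl, d, X, Y, δ, δ₀, μ, h⟩ := exists_DD' hM hB h1 hD (hind.maxP hM hBD)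
  obtain rfl : Nat.card (inE D (EB M b)) = e := (card_inE _ _).trans he
  have hd : (p : ℤ) ^ a ∣ p ^ (Nat.card G).factorization p := pow_dvd_pow _
    ((hM.1.pow_dvd_iff_le_factorization Nat.card_pos.ne').1 (hDa ▸ D.card_subgroup_dvd_card))
  refine ⟨h3, fun χ hχ => h.height hM (fun e => ?_) (mt (blockDefect_eq_zero_iff_bot hM hB hBD).1 h1) hχ,
    X, Y, Set.ext fun χ => h.cover χ, Finset.disjoint_coe.2 h.disj, by simpa using h.cardX, ?_,
    fun ψ hψ ψ' hψ' g hg => ?_, δ, δ₀, h.sX, h.s0, fun ψ hψ g hg => ?_,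
    fun χ hχ χ' hχ' => (h.cong hM hχ hχ').of_dvd hd, fun ψ hψ χ hχ => (h.congY hM hψ hχ).of_dvd hd⟩
  · have := hM.1.two_le
    have := Nat.le_of_dvd (by omega) (e.trans h3)
    omega
  · rw [← hDa, ← h.cardY h2 hD.isMulCommutative.is_comm.comm, Nat.add_sub_cancel,
      Nat.mul_div_cancel _ Nat.card_pos]
    simp
  · refine mul_left_cancel₀ (a := (δ₀ : ℂ)) (by rcases h.s0 with e | e <;> simp [e]) ?_
    exact add_right_cancel ((h.reg ψ hψ g hg).trans (h.reg ψ' hψ' g hg).symm)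
  · rw [finsum_mem_coe_finset]
    exact h.reg ψ hψ g hg

end Cfsg.Agent.S4696
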