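import Cfsg.Statements.S4697
import Cfsg.Agent.Lib.Small.Cartan

set_option autoImplicit false
open Cfsg

namespace Cfsg.Agent.S4697

open Cfsg.Lib Cfsg.Lib.Block Cfsg.Lib.Block2 Cfsg.Lib.Char Cfsg.Lib.Amalg Cfsg.Lib.Small Subgroup

theorem card_sup_le {G : Type*} [Group G] [Finite G] {A B : Subgroup G} (h : ∀ a ∈ A, ∀ b ∈ B, Commute a b) :
    Nat.card (A ⊔ B : Subgroup G) ≤ Nat.card A * Nat.card B := by
  rw [← Nat.card_prod]
  refine Nat.card_le_card_of_surjective (fun x : A × B => ⟨x.1 * x.2, mul_mem_sup x.1.2 x.2.2⟩) fun g => ?_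
  obtain ⟨a, ha, b, hb, e⟩ := (mem_sup_of_le_normalizer' ((le_centralizer_iff.1
    fun a ha b hb => (h a ha b hb).eq.symm).trans (centralizer_le_normalizer _))).1 g.2
  exact ⟨(⟨a, ha⟩, ⟨b, hb⟩), Subtype.ext e⟩

theorem aux {G : Type*} [Group G] [Finite G] {p : ℕ} [Fact p.Prime] {M : Ideal AlgInt} [M.IsMaximal]
    (hM : IsPModular p M) {B : Set (IrrCharacter G)} (hB : IsPBlock M B) {D : Subgroup G}
    (hD : IsDefectGroup p M B D) (hab : ∀ a ∈ D, ∀ b ∈ D, Commute a b) {x y z : G} (h : D = closure {x, y, z})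
    (hy : orderOf y ≤ orderOf x) (hz : orderOf z ≤ orderOf x) : Nat.card B ^ 3 ≤ Nat.card D ^ 5 := by
  haveI := Fintype.ofFinite G
  have hx : x ∈ D := h.ge (subset_closure (by simp))
  have hy' : y ∈ D := h.ge (subset_closure (by simp))
  have hz' : z ∈ D := h.ge (subset_closure (by simp))
  have hc : D ≤ centralizer {x} := fun g hg => mem_centralizer_singleton_iff.2 (hab g hg x hx)
  haveI := Fintype.ofFinite (centralizer ({x} : Set G))
  obtain ⟨b, h1, h2⟩ := exists_major hM hB hD hx hc
  obtain ⟨h3, h4⟩ := major_defect hM hD hx (fun d hd => hab d hd x hx) h1 h2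
  have h5 := card_le_mul_rank hM rfl h3 h1 h4
  obtain ⟨K, _, _, f, hf, -, -, h6, h7, h8, h9, -, h10⟩ := exists_quot hM h1.1 hx hc h2
  have h11 := (blockRank_le_card (p := p) _).trans (card_le_of_comm_two hM h7 h8 (x := f ⟨y, hc hy'⟩) (y := f ⟨z, hc hz'⟩)
    (Commute.map (Subtype.ext (hab y hy' z hz').eq) f) (le_antisymm ?_ ((closure_le _).2 ?_)))
  · have h12 : Nat.card D ≤ orderOf x ^ 3 := by
      have e : D = zpowers x ⊔ (zpowers y ⊔ zpowers z) := by
        simp only [zpowers_eq_closure, ← Subgroup.closure_union, h]; rfl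
      have a1 := zpowers_le.2 hy'
      have a2 := zpowers_le.2 hz'
      rw [e, pow_succ', sq]
      refine (card_sup_le fun a ha b hb => hab a (zpowers_le.2 hx ha) b (sup_le a1 a2 hb)).trans ?_
      rw [Nat.card_zpowers]
      refine Nat.mul_le_mul_left _ ((card_sup_le fun a ha b hb => hab a (a1 ha) b (a2 hb)).trans ?_)
      rw [Nat.card_zpowers, Nat.card_zpowers]
      exact Nat.mul_le_mul hy hz
    rw [h4, ← card_defectGroup hM hB hD, ← h9] at h5
    have h13 := Nat.pow_le_pow_left (h5.trans (Nat.mul_le_mul_left _ h11)) 3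
    have h14 := Nat.mul_le_mul_right (Nat.card ((D.subgroupOf _).map f) ^ 3) h12
    rw [← mul_pow, h10, pow_succ' (Nat.card D) 2] at h14
    have := Nat.mul_le_mul_left (Nat.card D ^ 3) (Nat.le_of_mul_le_mul_left h14 Nat.card_pos)
    rw [← mul_pow, ← pow_add] at this
    exact h13.trans this
  · rintro _ ⟨⟨g, hg⟩, h9, rfl⟩
    replace h9 : g ∈ closure {x, y, z} := h.le h9
    induction h9 using closure_induction with
    | mem g h =>
      rcases h with rfl | rfl | rfl
      · exact h6.symm ▸ one_mem _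
      all_goals exact subset_closure (by simp)
    | one => exact (map_one f).symm ▸ one_mem _
    | mul a b ha hb h1 h' => exact (map_mul f ⟨a, hc (h.ge ha)⟩ ⟨b, hc (h.ge hb)⟩) ▸ mul_mem (h1 _) (h' _)
    | inv a ha h1 => exact (map_inv f ⟨a, hc (h.ge ha)⟩) ▸ inv_mem (h1 _)
  · rintro _ (rfl | rfl)
    exacts [mem_map_of_mem _ hy', mem_map_of_mem _ hz']

/-- Let p be a prime, M a maximal ideal of the algebraic integers containing p, and B a p-block of the finite group G with an abelian defect group D of order p^d. If D has rank 2 (its least number of generators is 2) then B contains at most p^d irreducible characters; if D has rank 3 then the number k of irreducible characters in B satisfies k^3 ≤ p^(5d). -/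
theorem result {G : Type*} [Group G] [Finite G] (p : ℕ) [Fact p.Prime] (M : Ideal Cfsg.AlgInt) (hM : Cfsg.IsPModular p M) (B : Set (Cfsg.IrrCharacter G)) (hB : Cfsg.IsPBlock M B) (D : Subgroup G) (hBD : Cfsg.IsDefectGroup p M B D) (hab : IsMulCommutative D) (d : ℕ) (hDd : Nat.card D = p ^ d) : (Group.rank D = 2 → Nat.card B ≤ p ^ d) ∧ (Group.rank D = 3 → Nat.card B ^ 3 ≤ p ^ (5 * d)) := by
  classical
  have := hM.2.1
  have hc : ∀ a ∈ D, ∀ b ∈ D, Commute a b := fun a ha b hb =>
    congrArg Subtype.val (hab.is_comm.comm (⟨a, ha⟩ : D) ⟨b, hb⟩)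
  obtain ⟨S, h1, h2⟩ := Group.rank_spec D
  have h3 : D = closure (D.subtype '' S) := by
    rw [← MonoidHom.map_closure, h2, ← MonoidHom.range_eq_map, range_subtype]
  refine ⟨fun h => ?_, fun h => ?_⟩
  · obtain ⟨x, y, -, rfl⟩ := Finset.card_eq_two.1 (h1.trans h)
    exact hDd ▸ card_le_of_comm_two hM hB hBD (hc _ x.2 _ y.2) (by simpa [Set.image_pair] using h3)
  · obtain ⟨x, y, z, -, -, -, rfl⟩ := Finset.card_eq_three.1 (h1.trans h)
    replace h3 : D = closure {(x : G), (y : G), (z : G)} := by simpa [Set.image_insert_eq] using h3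
    rw [mul_comm, pow_mul, ← hDd]
    rcases le_total (orderOf (x : G)) (orderOf (y : G)) with a | a
    · rcases le_total (orderOf (y : G)) (orderOf (z : G)) with b | b
      · exact aux hM hB hBD hc (h3.trans (by rw [Set.pair_comm, Set.insert_comm])) (a.trans b) b
      · exact aux hM hB hBD hc (h3.trans (by rw [Set.insert_comm])) a b
    · rcases le_total (orderOf (x : G)) (orderOf (z : G)) with b | b
      · exact aux hM hB hBD hc (h3.trans (by rw [Set.pair_comm, Set.insert_comm])) b (a.trans b)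
      · exact aux hM hB hBD hc h3 a b

end Cfsg.Agent.S4697
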