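import Cfsg.Statements.S4716
import Cfsg.Agent.Lib.Small.Subsec

set_option autoImplicit false
open Cfsg

namespace Cfsg.Agent.S4716

open Cfsg.Lib.Small Cfsg.Lib.Char Cfsg.Lib.Block

/-- Let p be a prime, M a maximal ideal of the algebraic integers containing p, and B a p-block of defect d of the finite group G all of whose irreducible characters have height zero. Let y be a p-element, C = C_G(y), and b a block of C inducing B and having the same defect d (a major subsection). Then k(B)^2 ≤ p^(2d)·l(b), where k(B) is the number of irreducible characters in B and l(b) the p-regular rank of b (its number of irreducible Brauer characters); in particular (y = 1) k(B)^2 ≤ p^(2d)·l(B). -/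
theorem result {G : Type*} [Group G] [Finite G] (p : ℕ) [Fact p.Prime] (M : Ideal Cfsg.AlgInt) (hM : Cfsg.IsPModular p M) (B : Set (Cfsg.IrrCharacter G)) (hB : Cfsg.IsPBlock M B) (d : ℕ) (hd : Cfsg.blockDefect p B = d) (hh : ∀ χ ∈ B, Cfsg.blockHeight p B (χ : G → ℂ) = 0) (y : G) (hy : ∃ k : ℕ, orderOf y = p ^ k) (b : Set (Cfsg.IrrCharacter ↥(Subgroup.centralizer ({y} : Set G)))) (hind : Cfsg.IsInducedBlock M (Subgroup.centralizer ({y} : Set G)) b B) (hbd : Cfsg.blockDefect p b = d) : Nat.card B ^ 2 ≤ p ^ (2 * d) * Cfsg.blockRank p b := by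
  classical
  haveI := hM.2.1
  haveI := Fintype.ofFinite G
  subst hbd
  have := sum_le_of_sum_mul_conj (Finset.univ.filter (· ∈ B) ×ˢ Finset.univ.filter (· ∈ B)) _
    subset_rfl (fun _ => 1) (fun i => ctr p b y i.1 i.2)
    (fun i _ => isIntegral_of_mem_cyc (ctr_mem_cyc hM rfl hind _ _))
    (fun i hi => by
      simp only [Finset.mem_product, Finset.mem_filter, Finset.mem_univ, true_and] at hi
      exact ne_zero_of_not_memLocalIdeal (ctr_notMem hM rfl hy hind hi.1 hi.2 (hh _ hi.1) (hh _ hi.2)))
    (fun σ i _ => map_conj_of_mem_cyc σ.toRingHom (ctr_mem_cyc hM rfl hind _ _))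
    (N := p ^ (2 * blockDefect p b) * blockRank p b) (by
      simp only [Finset.sum_product, conj_ctr, Nat.cast_one, one_mul, sum_ctr_mul hM rfl hy hind,
        ← Finset.mul_sum, sum_ctr_self hM rfl hy hind]
      push_cast; ring)
  rwa [← Finset.card_eq_sum_ones, Finset.card_product, ← card_block_eq, ← sq] at this

end Cfsg.Agent.S4716
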