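import Cfsg.Statements.S4698
import Cfsg.Agent.Lib.Small.Cartan
import Cfsg.Agent.S4716

set_option autoImplicit false
open Cfsg

namespace Cfsg.Agent.S4698

open Cfsg.Lib Cfsg.Lib.Block Cfsg.Lib.Block2 Cfsg.Lib.Char Cfsg.Lib.Amalg Cfsg.Lib.Small Subgroup

/-- Let p be a prime, M a maximal ideal of the algebraic integers containing p, and B a p-block of defect d of the finite group G, containing k irreducible characters. Then k ≤ p^d when d ≤ 2, and k ≤ p^(2d − 2) when d ≥ 3. -/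
theorem result {G : Type*} [Group G] [Finite G] (p : ℕ) [Fact p.Prime] (M : Ideal Cfsg.AlgInt) (hM : Cfsg.IsPModular p M) (B : Set (Cfsg.IrrCharacter G)) (hB : Cfsg.IsPBlock M B) (d : ℕ) (hd : Cfsg.blockDefect p B = d) : (d ≤ 2 → Nat.card B ≤ p ^ d) ∧ (3 ≤ d → Nat.card B ≤ p ^ (2 * d - 2)) := by
  have := hM.2.1
  induction d generalizing G with
  | zero =>
    obtain ⟨D, hD⟩ := hB.exists_isDefectGroup p
    have h1 := card_defectGroup hM hB hD
    exact ⟨fun _ => (card_le_of_dvd_sq hM hB hD (by simp [h1, hd])).trans (by rw [h1, hd]), by omega⟩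
  | succ d ih =>
  obtain ⟨D, hD⟩ := hB.exists_isDefectGroup p
  have h1 := card_defectGroup hM hB hD
  rw [hd] at h1
  refine ⟨fun h => (card_le_of_dvd_sq hM hB hD (h1 ▸ pow_dvd_pow _ h)).trans h1.le, fun h => ?_⟩
  by_cases h0 : ∀ χ ∈ B, blockHeight p B χ.1 = 0
  swap
  · push Not at h0
    obtain ⟨χ, h2, h3⟩ := h0
    haveI := Fintype.ofFinite G
    have := two_mul_card_le_of_height hM hB h2 h3
    rw [hd] at this
    omega
  have hD1 : D ≠ ⊥ := mt (blockDefect_eq_zero_iff_bot hM hB hD).2 (by omega)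
  obtain ⟨z, hz⟩ := exists_prime_orderOf_dvd_card' p (dvd_card_of_isPGroup_ne_bot
    (hD.isPGroup.to_le inf_le_left) (inf_center_ne_bot hD.isPGroup le_rfl le_normalizer hD1))
  have hc : D ≤ centralizer {(z : G)} := fun g hg => mem_centralizer_singleton_iff.2 (z.2.2 g hg)
  obtain ⟨b, h2, h3⟩ := exists_major hM hB hD z.2.1 hc
  have h4 := S4716.result p M hM B hB _ hd h0 z ⟨1, by simpa using hz⟩ b h2
    ((major_defect hM hD z.2.1 (fun g hg => z.2.2 g hg) h2 h3).2.trans hd)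
  obtain ⟨K, _, _, f, hf, -, -, -, h5, h6, h7, -, h8⟩ := exists_quot hM h2.1 z.2.1 hc h3
  rw [card_defectGroup hM h5 h6, orderOf_coe, hz, h1, ← pow_succ'] at h8
  obtain ⟨h9, h10⟩ := ih _ h5 (Nat.succ_injective (Nat.pow_right_injective hM.1.two_le h8))
  have h11 : blockRank p b ≤ p ^ (2 * d - 2) := h7 ▸ (blockRank_le_card _).trans
    ((show d = 2 ∨ 3 ≤ d by omega).elim (fun e => by simpa [e] using h9 e.le) h10)
  refine (Nat.pow_le_pow_iff_left two_ne_zero).1 (h4.trans ((Nat.mul_le_mul_left _ h11).trans_eq ?_))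
  rw [← pow_add, ← pow_mul]
  congr 1; omega

end Cfsg.Agent.S4698
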