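import Cfsg.Statements.S4699
import Cfsg.Agent.Lib.Small.TITr

set_option autoImplicit false
open Cfsg

namespace Cfsg.Agent.S4699

open Cfsg.Lib.Small Subgroup Polynomial Module

/-- Let p be a prime and G a finite group whose Sylow p-subgroup P is cyclic of order p^n with n ≥ 2 and meets every other Sylow p-subgroup trivially. Then every faithful irreducible representation of G on a finite-dimensional space over a finite field of characteristic p has dimension at least p^n − (p − 1). -/
theorem result {G : Type*} [Group G] [Finite G] (p : ℕ) [Fact p.Prime] (P : Sylow p G) (hcyc : IsCyclic P) (n : ℕ) (hn : 2 ≤ n) (hPn : Nat.card P = p ^ n) (hTI : ∀ Q : Sylow p G, Q ≠ P → (P : Subgroup G) ⊓ (Q : Subgroup G) = ⊥) (F : Type*) [Field F] [Finite F] [CharP F p] (V : Type*) [AddCommGroup V] [Module F V] [FiniteDimensional F V] (ρ : Representation F G V) (hfaith : Function.Injective ρ) (hirr : ρ.IsIrreducible) : p ^ n - (p - 1) ≤ Module.finrank F V := by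
  classical
  have hp : p.Prime := Fact.out
  haveI := Fintype.ofFinite P
  by_contra! hd
  obtain ⟨x, hx⟩ := hcyc.exists_generator
  have ho : orderOf x = p ^ n := by rw [orderOf_eq_card_of_forall_mem_zpowers hx, hPn]
  have hx1 : ρ x ^ p ^ (n - 1) ≠ 1 := fun e => by
    rw [← map_pow, ← map_one ρ, hfaith.eq_iff, ← Subgroup.coe_pow, OneMemClass.coe_eq_one,
      ← orderOf_dvd_iff_pow_eq_one, ho, Nat.pow_dvd_pow_iff_le_right hp.one_lt] at e
    omega
  haveI : Nontrivial (End F V) := nontrivial_of_ne _ _ hx1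
  haveI : CharP (End F V) p := charP_of_injective_algebraMap (algebraMap F _).injective p
  have hN : IsNilpotent (ρ x - 1) := ⟨p ^ n, by
    rw [sub_pow_char_pow_of_commute _ _ (Commute.one_right _), ← map_pow, ← Subgroup.coe_pow, ← ho,
      pow_orderOf_eq_one]
    simp⟩
  have hY : (ρ x - 1) ^ finrank F V = 0 := by
    have := LinearMap.aeval_self_charpoly (ρ x - 1)
    rwa [hN.charpoly_eq_X_pow_finrank, map_pow, aeval_X] at this
  let f := normalizerMonoidHom (P : Subgroup G)
  haveI := Fintype.ofFinite f.range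
  have he : (Fintype.card f.range : F) ≠ 0 := fun e => P.not_dvd_index <| by
    rw [CharP.cast_eq_zero_iff F p, ← Nat.card_eq_fintype_card, ← index_ker,
      normalizerMonoidHom_ker] at e
    haveI := hcyc.isMulCommutative
    exact e.trans ((relIndex_dvd_of_le_left _ (le_centralizer _)).trans
      (relIndex_dvd_index_of_le le_normalizer))
  choose a ha using fun α : f.range => mem_powers_iff_mem_zpowers.2 (hx (α.1 x))
  have ha' : ∀ α, (a α : F) ^ (p - 1) = 1 := fun α => by
    have h1 : ¬ p ∣ a α := fun ⟨k, hk⟩ => hx1 (by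
      have := pow_orderOf_eq_one (α.1 x)
      rw [← map_pow, ← map_one ρ, hfaith.eq_iff, ← Subgroup.coe_pow, OneMemClass.coe_eq_one,
        ← α.1.map_eq_one_iff, map_pow, ← ha α, hk, ← pow_mul, mul_right_comm, ← pow_succ',
        Nat.sub_add_cancel (by omega), pow_mul, ← ho, pow_orderOf_eq_one, one_pow])
    rw [← Nat.cast_pow, ← Nat.cast_one (R := F), CharP.natCast_eq_natCast F p, ← Nat.totient_prime hp]
    exact Nat.ModEq.pow_totient (hp.coprime_iff_not_dvd.2 h1).symm
  obtain ⟨hq, hk⟩ := rootMultiplicity_le (κ := F) Finset.univ a (e := p - 1)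
    (Nat.sub_pos_of_lt hp.one_lt) (by simpa [ha'] using he) (Fintype.card f.range)
  obtain ⟨u, hu, -, hu', -⟩ := exists_aeval_eq hN hq
  have hk0 := (rootMultiplicity_pos hq (x := 1)).2 (by simp [eval_finsetSum])
  generalize rootMultiplicity (1 : F) _ = k at hk hu' hk0
  simp only [map_sub, map_sum, map_pow, aeval_X, add_sub_cancel, aeval_C, map_natCast] at hu'
  obtain ⟨z, hz, hc, -⟩ := exists_transfer (κ := F) P hTI ρ (s := ∑ α, ρ x ^ a α) fun t ht => by
    simp only [← map_pow, ← Subgroup.coe_pow, ha, Finset.mul_sum, Finset.sum_mul, ← map_mul]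
    refine Fintype.sum_equiv (Equiv.mulLeft ⟨f ⟨t, ht⟩, _, rfl⟩) _ _ fun α => congrArg ρ ?_
    exact (inv_mul_cancel_right _ t).symm
  obtain ⟨⟨v, hv⟩, -⟩ := tr_eq_mul (ρ.comp (P : Subgroup G).subtype) hx ho hY hz
  change z = (ρ x - 1) ^ _ * v at hv
  have hpn : p ≤ p ^ (n - 1) := Nat.le_self_pow (by omega) p
  obtain ⟨m, hm⟩ := Nat.exists_eq_add_of_le (show k + 1 ≤ p ^ n - finrank F V by omega)
  have h0 : ∑ α, ρ x ^ a α + z - Fintype.card f.range = 0 := by
    refine (Representation.IsIrreducible.bijective_or_eq_zero (ρ := ρ) (σ := ρ)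
      ⟨∑ α, ρ x ^ a α + z - Fintype.card f.range, fun g => ?_⟩).elim (fun h => ?_)
      fun h => congrArg (·.toLinearMap) h
    · rw [← End.mul_eq_comp, ← End.mul_eq_comp, sub_mul, mul_sub, hc, (Nat.cast_commute _ _).eq]
    · have h1 := (End.isUnit_iff _).2 h
      obtain ⟨k, rfl⟩ := Nat.exists_eq_succ_of_ne_zero hk0.ne'
      change IsUnit (_ + z - _) at h1
      rw [add_sub_right_comm, hu', hv, hm, add_right_comm, pow_succ', pow_succ' _ (_ + m), mul_assoc,
        mul_assoc, ← mul_add] at h1
      exact (hN.not_isUnit (isUnit_of_mul_isUnit_left h1)).elim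
  obtain ⟨w, hw⟩ := hu.exists_right_inv
  have h1 := eq_zero_of_eq_mul hN (k := k) (w := -((ρ x - 1) ^ m * v * w)) (by
    rw [add_sub_right_comm, hu', hv, hm, pow_add, add_eq_zero_iff_eq_neg] at h0
    have := congrArg (· * w) h0
    rw [add_sub_cancel] at hw
    simpa [mul_assoc, hw] using this)
  have := sub_pow_char_pow_of_commute p (n - 1) (Commute.one_right (ρ x))
  rw [pow_eq_zero_of_le (by omega) h1, one_pow] at this
  exact hx1 (sub_eq_zero.1 this.symm)

end Cfsg.Agent.S4699
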