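import Cfsg.Statements.S4701
import Cfsg.Agent.Lib.Small.Brauer

set_option autoImplicit false
open Cfsg

namespace Cfsg.Agent.S4701

open Cfsg.Lib.Small Cfsg.Lib.Linear

/-- Let G be a finite perfect group and p a prime dividing the order of G with p^3 larger than the order of G. Suppose a Sylow p-subgroup of G is not normal and G has no normal subgroup of order 2. Then p > 3 and G is isomorphic to PSL(2, p), or to SL(2, 2^m) with p = 2^m + 1. -/
theorem result {G : Type*} [Group G] [Finite G] (hperf : commutator G = ⊤) (p : ℕ) [Fact p.Prime] (hdvd : p ∣ Nat.card G) (hbig : Nat.card G < p ^ 3) (P : Sylow p G) (hP : ¬ (P : Subgroup G).Normal) (h2 : ∀ N : Subgroup G, N.Normal → Nat.card N ≠ 2) : (∃ (F : Type) (_ : Field F) (_ : Fintype F), Fintype.card F = p ∧ 3 < p ∧ Nonempty (G ≃* Matrix.ProjectiveSpecialLinearGroup (Fin 2) F)) ∨ (∃ (m : ℕ) (F : Type) (_ : Field F) (_ : Fintype F), Fintype.card F = 2 ^ m ∧ p = 2 ^ m + 1 ∧ 3 < p ∧ Nonempty (G ≃* Matrix.SpecialLinearGroup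 (Fin 2) F)) := by
  have hP' := card_sylow_of_lt_cube hdvd hbig P hP
  obtain ⟨n, hn⟩ := exists_card_sylow_eq (G := G) (p := p)
  have hH : 3 * Nat.card (G ⧸ pPrimeCore p G) ≥ p ^ 3 → Nonempty (G ≃* G ⧸ pPrimeCore p G) := fun h => by
    have h1 := (pPrimeCore p G).card_mul_index
    have h3 := h2 (pPrimeCore p G) inferInstance
    have h4 : 0 < Nat.card (pPrimeCore p G) := Nat.card_pos
    have h5 : Nat.card (pPrimeCore p G) < 3 := by
      by_contra h5
      have := Nat.mul_le_mul_right (pPrimeCore p G).index (not_lt.1 h5)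
      rw [Subgroup.index] at this h1
      omega
    exact ⟨((QuotientGroup.quotientMulEquivOfEq (Subgroup.card_eq_one.1 (by omega))).trans
      QuotientGroup.quotientBot).symm⟩
  rcases brauer_quot hperf P hP' hn (onlyDiv_of_lt_cube hperf hbig P hP' hn) with ⟨h, -, ⟨e⟩⟩ |
    ⟨m, F, _, _, h1, h3, h4, ⟨e⟩⟩
  · have := card_PSL_two_of_odd (F := ZMod p) (by
      rw [Nat.card_zmod]; exact (Fact.out : p.Prime).odd_of_ne_two (by omega))
    rw [← Nat.card_congr e.toEquiv, Nat.card_zmod] at this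
    obtain ⟨e'⟩ := hH (by
      obtain ⟨q, rfl⟩ : ∃ q, p = q + 1 := ⟨p - 1, by omega⟩
      rw [Nat.add_sub_cancel] at this
      nlinarith [Nat.mul_le_mul h.le h.le])
    exact Or.inl ⟨ZMod p, inferInstance, inferInstance, ZMod.card p, h, ⟨e'.trans e⟩⟩
  · have he : Even (Nat.card F) := by
      rw [Nat.card_eq_fintype_card, h1, Nat.even_pow]; exact ⟨even_two, by rintro rfl; omega⟩
    obtain ⟨e''⟩ := nonempty_sl_equiv_psl he
    have := card_PSL_two_of_even he
    rw [← Nat.card_congr e.toEquiv, Nat.card_eq_fintype_card (α := F), h1] at this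
    obtain ⟨e'⟩ := hH (by
      obtain ⟨k, hk⟩ := he
      rw [Nat.card_eq_fintype_card, h1] at hk
      obtain ⟨q, hq⟩ : ∃ q, 2 ^ m = q + 4 := ⟨2 ^ m - 4, by omega⟩
      rw [this, h3, hq, show q + 4 - 1 = q + 3 by omega]
      nlinarith [Nat.zero_le (q ^ 3), Nat.zero_le (q ^ 2)])
    exact Or.inr ⟨m, F, inferInstance, inferInstance, h1, h3, h4, ⟨(e'.trans e).trans e''.symm⟩⟩

end Cfsg.Agent.S4701
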