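import Cfsg.Statements.S4702
import Cfsg.Agent.Lib.Small.TIZ

set_option autoImplicit false
open Cfsg

namespace Cfsg.Agent.S4702

open Cfsg.Lib.Small Cfsg.Lib.BN MulAction

/-- Let G be a triply transitive permutation group on a finite set of odd size m ≥ 3 in which only the identity fixes three or more points. Then m = 2^a + 1 for some a ≥ 1 and G is isomorphic to SL(2, 2^a). -/
theorem result {α : Type*} [Fintype α] [DecidableEq α] (hm : 3 ≤ Fintype.card α) (hodd : Odd (Fintype.card α)) (G : Subgroup (Equiv.Perm α)) (h3 : MulAction.IsMultiplyPretransitive G α 3) (hfix : ∀ g : G, 3 ≤ Nat.card (MulAction.fixedBy α g) → g = 1) : ∃ a : ℕ, 1 ≤ a ∧ Fintype.card α = 2 ^ a + 1 ∧ ∃ (F : Type) (_ : Field F) (_ : Fintype F), Fintype.card F = 2 ^ a ∧ Nonempty (G ≃* Matrix.SpecialLinearGroup (Fin 2) F) := by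
  rw [← Nat.card_eq_fintype_card] at hm hodd ⊢
  obtain ⟨a, b, c, hab, hac, hbc⟩ := exists_three_of_card hm
  have h := z3_of_sharp h3 (fun x => by
    rw [Subgroup.eq_bot_iff_forall]
    intro g hg
    refine hfix g ?_
    have hg' : ∀ i, g • x i = x i := fun i => congrArg (fun y : Fin 3 ↪ α => y i) hg
    let f : Fin 3 → fixedBy α g := fun i => ⟨x i, hg' i⟩
    simpa using Nat.card_le_card_of_injective f fun i j e => x.injective (congrArg Subtype.val e)) hab hac hbc
  have h1 := h.card_G hab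
  have h2 := h.card_K a
  rw [h.card_of_three h3 hab hac hbc] at h1
  have he : Even (Nat.card (h.K a)) := by
    rw [← h2] at hodd
    exact (Nat.odd_add_one.1 hodd |> Nat.not_odd_iff_even.1)
  obtain ⟨F, _, _, hF, ⟨e⟩⟩ := psl_of_z3_even h h2.symm he h1
  obtain ⟨m, hm1, hm2⟩ := exists_pow_of_even (F := F) (hF ▸ he)
  obtain ⟨e'⟩ := nonempty_sl_equiv_psl (F := F) (by rw [Nat.card_eq_fintype_card, hF]; exact he)
  exact ⟨m, hm1, by omega, F, inferInstance, inferInstance, hm2, ⟨e.trans e'.symm⟩⟩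

end Cfsg.Agent.S4702
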