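import Cfsg.Statements.S4708
import Cfsg.Agent.Lib.Block2.Num

set_option autoImplicit false
open Cfsg

namespace Cfsg.Agent.S4708

/-- Let p be a prime, M a maximal ideal of the algebraic integers containing p, G a finite group and H a normal subgroup. Write λ(X) for the sum of the squares of the degrees of the irreducible characters in the principal p-block of a group X. Then λ(H) ≤ λ(G) ≤ [G : H]·λ(H). -/
theorem result {G : Type*} [Group G] [Finite G] (p : ℕ) [Fact p.Prime] (M : Ideal Cfsg.AlgInt) (hM : Cfsg.IsPModular p M) (H : Subgroup G) [H.Normal] : (∑ᶠ θ ∈ Cfsg.principalBlock M H, Cfsg.charDegree (θ : H → ℂ) ^ 2) ≤ (∑ᶠ χ ∈ Cfsg.principalBlock M G, Cfsg.charDegree (χ : G → ℂ) ^ 2) ∧ (∑ᶠ χ ∈ Cfsg.principalBlock M G, Cfsg.charDegree (χ : G → ℂ) ^ 2) ≤ H.index * ∑ᶠ θ ∈ Cfsg.principalBlock M H, Cfsg.charDegree (θ : H → ℂ) ^ 2 := by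
  open Cfsg.Lib Cfsg.Lib.Block Cfsg.Lib.Block2 Cfsg.Lib.Char Cfsg.Lib.Amalg in
  have := hM.2.1
  classical
  haveI := Fintype.ofFinite G
  haveI := Fintype.ofFinite H
  have hG := isPBlock_principalBlock (M := M) (G := G)
  have hN := isPBlock_principalBlock (M := M) (G := H)
  have h0 : eB M (principalBlock M G) * EB M (principalBlock M H) ≠ 0 :=
    (covers_iff hG.isBlockUnion hN.isBlockUnion).1 ⟨_, principalIrr_mem, _, principalIrr_mem,
      (principalIrr H).2.classInner_self.trans_ne one_ne_zero⟩
  choose a ha1 ha2 using fun χ : IrrCharacter G => (χ.2.isCharacter.restrict H).exists_nat_coeffs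
  have hdeg : ∀ χ : IrrCharacter G, charDegree (χ : G → ℂ) =
      ∑ θ : IrrCharacter H, a χ θ * charDegree (θ : H → ℂ) := fun χ => by
    have := congrFun (ha2 χ) 1
    rw [Finset.sum_apply] at this
    simp only [Pi.smul_apply, smul_eq_mul, OneMemClass.coe_one, ← irr_cast_deg] at this
    exact_mod_cast this
  rw [Block.finsum_mem_irr, Block.finsum_mem_irr]
  constructor
  · calc ∑ θ with θ ∈ principalBlock M H, charDegree (θ : H → ℂ) ^ 2
        ≤ ∑ θ with θ ∈ principalBlock M H, ∑ χ with χ ∈ principalBlock M G,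
          (a χ θ * charDegree (θ : H → ℂ)) ^ 2 := Finset.sum_le_sum fun θ hθ => by
          obtain ⟨χ, h1, h2⟩ := exists_over_of_covered hG hN h0 (θ := θ) (by simpa using hθ)
          rw [over_subtype_iff, ha1, Nat.cast_ne_zero] at h2
          refine le_trans ?_ (Finset.single_le_sum (f := fun χ =>
            (a χ θ * charDegree (θ : H → ℂ)) ^ 2) (fun _ _ => Nat.zero_le _) (by simpa using h1))
          exact Nat.pow_le_pow_left (Nat.le_mul_of_pos_left _ (Nat.pos_of_ne_zero h2)) 2
      _ ≤ _ := by
          rw [Finset.sum_comm]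
          refine Finset.sum_le_sum fun χ _ => ?_
          rw [hdeg χ]
          exact (Finset.sum_le_sum_of_subset (Finset.subset_univ _)).trans
            (Finset.sum_sq_le_sq_sum_of_nonneg fun _ _ => Nat.zero_le _)
  · have h1 := (blk_top_eB hG).mul_eq_of_fixed (blk_EB hN) le_top (isFixed_iff_cjA.2 fun x _ => by
      rw [← EB_conjSet (cj_normal x H), conjSet_eq (cj_normal x H), image_principalBlock]) h0
    have h2 : ∀ θ : IrrCharacter H, ∑ χ : IrrCharacter G, a χ θ * charDegree (χ : G → ℂ) =
        H.index * charDegree (θ : H → ℂ) := fun θ => by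
      have := (isClassFunction_indFun (θ : H → ℂ)).apply_eq_sum 1
      simp only [indFun_one, ← irr_cast_deg, fun χ : IrrCharacter G =>
        θ.2.isCharacter.indFun.classInner_comm χ.2.isCharacter, fun χ : IrrCharacter G =>
        classInner_indFun_right (θ : H → ℂ) χ.2.isClassFunction, ha1] at this
      exact_mod_cast this.symm
    calc ∑ χ with χ ∈ principalBlock M G, charDegree (χ : G → ℂ) ^ 2
        = ∑ χ with χ ∈ principalBlock M G, ∑ θ with θ ∈ principalBlock M H,
          a χ θ * charDegree (χ : G → ℂ) * charDegree (θ : H → ℂ) :=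
          Finset.sum_congr rfl fun χ hχ => by
            simp only [mul_right_comm _ (charDegree (χ : G → ℂ)), ← Finset.sum_mul]
            rw [sq, Finset.sum_filter_of_ne, ← hdeg]
            intro θ _ h
            refine Over.mem_of_eB_mul_eq hG.isBlockUnion hN.isBlockUnion h1 (χ := χ) ?_
              (by simpa using hχ)
            rw [over_subtype_iff, ha1, Nat.cast_ne_zero]
            exact left_ne_zero_of_mul h
      _ ≤ _ := by
          rw [Finset.sum_comm, Finset.mul_sum]
          refine Finset.sum_le_sum fun θ _ => ?_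
          rw [← Finset.sum_mul, sq, ← mul_assoc, ← h2]
          exact Nat.mul_le_mul_right _ (Finset.sum_le_sum_of_subset (Finset.subset_univ _))

end Cfsg.Agent.S4708
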