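import Cfsg.Statements.S4709
import Cfsg.Agent.Lib.Block.AbThree

set_option autoImplicit false
open Cfsg

namespace Cfsg.Agent.S4709

open Cfsg.Lib.Block Cfsg.Lib.Char Cfsg.Lib.Amalg
set_option linter.style.haveILetI false

/-- Let p be a prime, M a maximal ideal of the algebraic integers containing p, and G a finite group with a nontrivial abelian Sylow p-subgroup P; put N = N_G(P), C = C_G(P). Suppose N/C is cyclic of order m with 1 < m < #P − 1 (C has index m in N and N is generated by C and one element), and C_G(y) ∩ N = C for every non-identity y ∈ P. Put r = (#P − 1)/m. Then there is s ≤ m such that the principal p-block is the disjoint union of a set X of s characters containing the principal character and a set Y of r characters, with integers a_χ ≠ 0 (χ ∈ X), d and a sign δ = ±1, such that: every χ ∈ X takes the value a_χ at every element whose p-part is a non-identity element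 of P; there is a map ζ from the non-principal linear characters ψ of P onto Y, constant on N-conjugacy classes, with ζ_ψ(z) = d + δ·Σ ψ'(y) for every z whose p-part y is a non-identity element of P, the sum running over the N-conjugates ψ' of ψ; (d − δ)^2 + (r − 1) d^2 + Σ_{χ ∈ X} a_χ^2 = m + 1; all members of Y agree on p-regular elements; and (r d − δ) η(g) + Σ_{χ ∈ X} a_χ χ(g) = 0 for every η ∈ Y and every p-regular g. -/
theorem result {G : Type*} [Group G] [Finite G] (p : ℕ) [Fact p.Prime] (M : Ideal Cfsg.AlgInt) (hM : Cfsg.IsPModular p M) (P : Sylow p G) (hab : IsMulCommutative P) (hP1 : Nat.card P ≠ 1) (m : ℕ) (hm1 : 1 < m) (hm2 : m + 1 < Nat.card P) (hCN : (Subgroup.centralizer ((P : Subgroup G) : Set G)).relIndex (Subgroup.normalizer ((P : Subgroup G) : Set G)) = m) (hcyc : ∃ g : G, g ∈ Subgroup.normalizer ((P : Subgroup G) : Set G) ∧ Subgroup.centralizer ((P : Subgroup G) :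 Set G) ⊔ Subgroup.zpowers g = Subgroup.normalizer ((P : Subgroup G) : Set G)) (hfrob : ∀ y : G, y ∈ (P : Subgroup G) → y ≠ 1 → Subgroup.centralizer ({y} : Set G) ⊓ Subgroup.normalizer ((P : Subgroup G) : Set G) = Subgroup.centralizer ((P : Subgroup G) : Set G)) : ∃ (s : ℕ) (X Y : Set (Cfsg.IrrCharacter G)), s ≤ m ∧ Cfsg.principalBlock M G = X ∪ Y ∧ Disjoint X Y ∧ Nat.card X = s ∧ Nat.card Y = (Nat.card P - 1) / m ∧ (∃ χ₁ ∈ X, (χ₁ : G → ℂ) = fun _ => 1) ∧ ∃ (a : Cfsg.IrrCharacter G → ℤ) (d δ : ℤ) (ζ : (↥(P : Subgroup G) →* ℂˣ) → Cfsg.IrrCharacter G), (δ = 1 ∨ δ = -1) ∧ (∀ χ ∈ X, a χ ≠ 0 ∧ ∀ z y : G, Cfsg.IsPPart p z y → y ∈ (P : Subgroup G) → y ≠ 1 → (χ : G → ℂ) z = (a χ : ℂ)) ∧ (∀ ψ : ↥(P : Subgroup G) →* ℂˣ, ψ ≠ 1 → ζ ψ ∈ Y) ∧ (∀ η ∈ Y, ∃ ψ : ↥(P : Subgroup G) →* ℂˣ, ψ ≠ 1 ∧ ζ ψ = η) ∧ (∀ ψ ψ' : ↥(P : Subgroup G) →* ℂˣ, ψ ≠ 1 → (∃ n : G, n ∈ Subgroup.normalizer ((P : Subgroup G) : Set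 G) ∧ ∀ w w' : ↥(P : Subgroup G), (w' : G) = n * w * n⁻¹ → ψ' w' = ψ w) → ζ ψ' = ζ ψ) ∧ (∀ ψ : ↥(P : Subgroup G) →* ℂˣ, ψ ≠ 1 → ∀ (z : G) (y : ↥(P : Subgroup G)), Cfsg.IsPPart p z (y : G) → (y : G) ≠ 1 → (ζ ψ : G → ℂ) z = (d : ℂ) + (δ : ℂ) * ∑ᶠ ψ' ∈ {ψ' : ↥(P : Subgroup G) →* ℂˣ | ∃ n : G, n ∈ Subgroup.normalizer ((P : Subgroup G) : Set G) ∧ ∀ w w' : ↥(P : Subgroup G), (w' : G) = n * w * n⁻¹ → ψ' w' = ψ w}, ((ψ' y : ℂˣ) : ℂ)) ∧ ((d - δ) ^ 2 + ((Nat.card P - 1) / m - 1 : ℤ) * d ^ 2 + ∑ᶠ χ ∈ X, a χ ^ 2 = (m : ℤ) + 1) ∧ (∀ η ∈ Y, ∀ η' ∈ Y, ∀ g : G, ¬ p ∣ orderOf g → (η : G → ℂ) g = (η' : G → ℂ) g) ∧ (∀ η ∈ Y, ∀ g : G, ¬ p ∣ orderOf g → ((((Nat.card P - 1) / m : ℕ) : ℂ) * d - δ) * (η : G → ℂ) g + ∑ᶠ χ ∈ X, (a χ : ℂ) * (χ : G → ℂ) g = 0) := by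
  classical
  haveI := hM.2.1
  haveI := Fintype.ofFinite (Cfsg.principalBlock M G)
  have hA : ∀ a b : (P : Subgroup G), a * b = b * a := fun a b => hab.1.1 a b
  have hP := Lib.Transfer.sylowIn_top P
  have hfrob' := fun y hy h1 => (hfrob y hy h1).le
  obtain ⟨δ, d, a, ζ, Y, hδ, hY, hc, ho, ha, hζ, hcol, hX, hv, hn, -⟩ :=
    exists_abFrob hM hP hA hfrob' hCN hm2
  have hc' : (Nat.card P - 1) / m = Y.card := by
    rw [show Nat.card P = Y.card * m + 1 from hc.symm, Nat.add_sub_cancel,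
      Nat.mul_div_cancel _ (by omega)]
  have hc2 : ((Nat.card P : ℤ) - 1) / m = Y.card := by
    rw [show Nat.card P = Y.card * m + 1 from hc.symm]
    push_cast
    rw [add_sub_cancel_right, Int.mul_ediv_cancel _ (by omega)]
  have hsec : ∀ (χ : Cfsg.principalBlock M G) z y, Cfsg.IsPPart p z y → y ∈ (P : Subgroup G) →
      y ≠ 1 → χ.1.1 z = χ.1.1 y := fun χ z y hz hy h1 =>
    apply_eq_of_pnil hM hz (pnil_centralizer_of_frob hP hA hy (hfrob' y hy h1)) χ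
  have hreg := fun g hg => abFrob_regular hM hP.2 hδ hY hcol (g := g) hg
  refine ⟨Yᶜ.card, Subtype.val '' ((Yᶜ : Finset _) : Set (Cfsg.principalBlock M G)),
    Subtype.val '' (Y : Set (Cfsg.principalBlock M G)), ?_, image_val_compl_union Y,
    disjoint_image_val_compl Y, card_image_val _, (card_image_val _).trans hc'.symm,
    ⟨(oneB M G).1, ⟨_, Finset.mem_compl.2 ho, rfl⟩, rfl⟩, extB a, d, δ, fun ψ => (ζ ψ).1, hδ,
    ?_, fun ψ hψ => ⟨_, (hY _).2 ⟨ψ, hψ, rfl⟩, rfl⟩, ?_, fun ψ φ hψ h => ?_,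
    fun ψ hψ z y hz hy => ?_, ?_, ?_, ?_⟩
  · have hS : (Yᶜ.card : ℤ) ≤ ∑ χ ∈ Yᶜ, a χ ^ 2 := by
      rw [Finset.card_eq_sum_ones, Nat.cast_sum]
      exact Finset.sum_le_sum fun χ h => sq_pos_of_ne_zero (hX χ (Finset.mem_compl.1 h)).1
    have hr : (2 : ℤ) ≤ Y.card := by
      by_contra h
      have : Y.card * m ≤ 1 * m := Nat.mul_le_mul_right m (by omega)
      change m + 1 < Nat.card (P : Subgroup G) at hm2
      omega
    have h0 : d ^ 2 ≤ (Y.card - 1) * d ^ 2 := by nlinarith [sq_nonneg d]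
    have h1 : 1 ≤ (d - δ) ^ 2 + d ^ 2 := by
      by_cases hd : d = 0
      · rcases hδ with rfl | rfl <;> simp [hd]
      · have : 0 < d ^ 2 := sq_pos_of_ne_zero hd
        nlinarith [sq_nonneg (d - δ)]
    omega
  · rintro _ ⟨χ, hχ, rfl⟩
    have := hX χ (Finset.mem_compl.1 hχ)
    rw [extB_val]
    exact ⟨this.1, fun z y hz hy h1 => (hsec χ z y hz hy h1).trans (this.2 y hy h1)⟩
  · rintro _ ⟨χ, hχ, rfl⟩
    obtain ⟨ψ, hψ, rfl⟩ := (hY χ).1 hχ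
    exact ⟨ψ, hψ, rfl⟩
  · have h' : φ ∈ MulAction.orbit (Subgroup.normalizer ((P : Subgroup G) : Set G)) ψ := by
      rw [orbit_dual_eq]; exact h
    exact congrArg Subtype.val ((hζ ψ φ hψ (ne_one_of_mem_orbit hψ h')).2 h')
  · rw [hsec _ z y hz y.2 hy, hv ψ hψ y fun e => hy (congrArg Subtype.val e), orbit_dual_eq]
  · rw [finsum_image_val, hc2]
    simpa using hn
  · rintro _ ⟨η, hη, rfl⟩ _ ⟨η', hη', rfl⟩ g hg
    exact (hreg g hg).1 η hη η' hη'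
  · rintro _ ⟨η, hη, rfl⟩ g hg
    rw [finsum_image_val, hc']
    simpa using (hreg g hg).2 η hη

end Cfsg.Agent.S4709
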