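import Cfsg.Statements.S4711
import Cfsg.Agent.Lib.Clifford.PBlk
import Cfsg.Agent.Lib.BG1.PLength
import Cfsg.Agent.Lib.Core.UpperP

set_option autoImplicit false
open Cfsg

namespace Cfsg.Agent.S4711

open Cfsg.Lib Cfsg.Lib.Clifford Cfsg.Lib.Char Cfsg.Lib.Block Cfsg.Lib.Block2 Finset Subgroup
open scoped commutatorElement

/-- Let p be a prime, M a maximal ideal of the algebraic integers containing p, G a finite group, P a Sylow p-subgroup and N = N_G(P). Then G has p-length 1 (G = O_{p',p,p'}(G)) if and only if every irreducible character in the principal p-block of G restricts to an irreducible character of N. -/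
theorem result {G : Type*} [Group G] [Finite G] (p : ℕ) [Fact p.Prime] (M : Ideal Cfsg.AlgInt) (hM : Cfsg.IsPModular p M) (P : Sylow p G) : Cfsg.PLengthLE p 1 G ↔ ∀ χ ∈ Cfsg.principalBlock M G, Cfsg.IsIrrCharacter ↥(Subgroup.normalizer ((P : Subgroup G) : Set G)) (fun n : ↥(Subgroup.normalizer ((P : Subgroup G) : Set G)) => (χ : G → ℂ) n) := by
  classical
  have := hM.2.1
  rw [BG1.plength1_iff_index hM.1, ← hM.1.coprime_iff_not_dvd, Nat.coprime_comm,
    ← Core.sylow_le_pPrimePCore_iff_coprime P]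
  constructor
  · intro h χ hχ
    have h1 := Core.pPrimeCore_sup_normalizer_sylow_inf P
    rw [inf_eq_left.2 h] at h1
    rw [mem_principalBlock_iff_B0 hM] at hχ
    exact (irrOn_of_mem (B0_subset hχ)).res_of_triv_sup _
      (triv_of_B0 le_top (nrm_of_normal _ _) (Core.not_dvd_card_pPrimeCore hM.1) hχ) h1
  · intro h
    rw [Core.sylow_le_pPrimePCore_iff]
    obtain ⟨T, hT⟩ : ∃ T, T = (P : Subgroup G) := ⟨_, rfl⟩
    have hTs : Transfer.SylowIn p T ⊤ := hT ▸ Transfer.sylowIn_top P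
    obtain ⟨N, hN⟩ : ∃ N, N = normalizer (T : Set G) := ⟨_, rfl⟩
    rw [← hT, ← hN] at h
    have hTN : T ≤ N := hN ▸ le_normalizer
    have hn : Nrm N T := nrm_of_le_normalizer hN.le
    have h' : ∀ χ ∈ B0 p (⊤ : Subgroup G), IrrOn N χ := fun χ hχ =>
      h ⟨χ, mem_Irr_top.1 (B0_subset hχ)⟩ ((mem_principalBlock_iff_B0 hM _).2 hχ)
    have h1 : ∀ lam ∈ IrrKer T ⁅T, T⁆, ∃ χ ∈ Irr (⊤ : Subgroup G), IrrOn N χ ∧ dot T χ lam ≠ 0 := by
      intro lam hl
      have hl' := linOn_of_mem_IrrKer le_rfl hl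
      obtain ⟨χ, hχ, hd, -⟩ := exists_B0_over_lin hTs hl'.charOn
        (by rw [hl'.deg]; exact hM.1.not_dvd_one)
      exact ⟨χ, B0_subset hχ, h' χ hχ, mt dot_eq_zero_comm.1 hd⟩
    obtain ⟨L, hL, hL1, hL2⟩ := exists_ker_inf_sylow hTN hn h1
    have hCN : centralizer (T : Set G) ≤ N := hN ▸ centralizer_le_normalizer _
    have h2 : ∀ θ ∈ IrrKer N (T ⊔ centralizer (T : Set G)),
        ∃ χ ∈ Irr (⊤ : Subgroup G), ∀ x ∈ N, χ x = θ x := by
      intro θ hθ
      have h3 := mem_B0_of_triv_cent hTs.2 hTN hn (IrrKer_subset hθ)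
        ((mem_IrrKer.1 hθ).2.mono (inf_le_right.trans le_sup_right))
      obtain ⟨χ, hχ, hd⟩ := exists_B0_over (K := ⊤) le_top (mem_B0.1 h3).2
      exact ⟨χ, B0_subset hχ, fun x hx =>
        ((irrOn_of_mem (IrrKer_subset hθ)).eq_of_dot_ne_zero (h' χ hχ) hd x hx).symm⟩
    obtain ⟨M₀, hM₀, hM1, hM2⟩ := exists_ker_of_ext (sup_le hTN hCN) (hn.sup
      (nrm_of_le_normalizer (hN ▸ Coprime.normalizer_le_normalizer_centralizer_set (T : Set G)))) h2
    have hM3 : T ≤ M₀ := le_sup_left.trans hM1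
    have h3 := pnil_of_kernels P M₀ L (hT ▸ hM3) (by
      rw [← hT, ← hN]; exact hM2) (hT ▸ hL1) (hT ▸ hL2)
    have := Transfer.resOf_normal (p := p) M₀
    have h4 := Core.le_pPrimeCore h3.coprime
    have h5 : pPrimeCore p G ⊔ T = pPrimeCore p G ⊔ M₀ := by
      rw [← (hTs.mono hM3 le_top).resOf_sup, ← sup_assoc, sup_eq_left.2 h4]
    rw [← hT, h5]
    infer_instance

end Cfsg.Agent.S4711
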