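import Cfsg.Statements.S4712
import Cfsg.Agent.Lib.Small.PIM

set_option autoImplicit false
open Cfsg

namespace Cfsg.Agent.S4712

open Cfsg.Lib Cfsg.Lib.Block Cfsg.Lib.Small

/-- Let p be an odd prime, M a maximal ideal of the algebraic integers containing p, G a finite group of order n with p-part p^a, and B a p-block of G. Call an irreducible character χ p-rational when χ(g^k) = χ(g) for every g and every k coprime to n with k ≡ 1 modulo n/p^a (χ is fixed by the Galois automorphisms fixing the roots of unity of order prime to p). Then the number of p-rational irreducible characters in B is at least the p-regular rank of B (the number of irreducible Brauer characters in B). -/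
theorem result {G : Type*} [Group G] [Finite G] (p : ℕ) [Fact p.Prime] (hodd : p ≠ 2) (M : Ideal Cfsg.AlgInt) (hM : Cfsg.IsPModular p M) (B : Set (Cfsg.IrrCharacter G)) (hB : Cfsg.IsPBlock M B) : Cfsg.blockRank p B ≤ Nat.card {χ : Cfsg.IrrCharacter G // χ ∈ B ∧ ∀ k : ℕ, Nat.Coprime k (Nat.card G) → k ≡ 1 [MOD Nat.card G / p ^ (Nat.card G).factorization p] → ∀ g : G, (χ : G → ℂ) (g ^ k) = (χ : G → ℂ) g} := by
  classical
  have := hM.2.1
  haveI := Fintype.ofFinite G
  have hp : p.Prime := Fact.out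
  obtain ⟨a, ha⟩ : ∃ a, (Nat.card G).factorization p = a := ⟨_, rfl⟩
  have h0 := Nat.ordProj_mul_ordCompl_eq_self (Nat.card G) p
  have h1 := (Nat.coprime_ordCompl hp (Nat.card_pos (α := G)).ne').pow_left a
  rw [ha] at h0 h1 ⊢
  generalize Nat.card G / p ^ a = m at *
  haveI : NeZero (p ^ a) := ⟨pow_ne_zero _ hp.ne_zero⟩
  obtain ⟨u, hu⟩ := (ZMod.isCyclic_units_of_prime_pow p hp hodd a).exists_monoid_generator
  obtain ⟨k, h2, h3⟩ := Nat.chineseRemainder h1 (u : ZMod (p ^ a)).val 1
  have h4 : k.Coprime (Nat.card G) := h0 ▸ Nat.Coprime.mul_right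
    (h2.gcd_eq.trans (ZMod.val_coe_unit_coprime u)) (h3.gcd_eq.trans (Nat.gcd_one_left _))
  refine (le_card_fixed hM hB.isBlockUnion h4 fun g hg => ?_).trans (Nat.card_le_card_of_injective
    (Subtype.map id fun χ h => ⟨h.1, fun j h5 h6 g => ?_⟩) (Subtype.map_injective _ Function.injective_id))
  · rw [← pow_one g, ← pow_mul, one_mul, pow_eq_pow_iff_modEq]
    exact h3.of_dvd (((hp.coprime_iff_not_dvd.2 hg).symm.pow_right a).dvd_of_dvd_mul_left
      (h0 ▸ orderOf_dvd_natCard g))
  obtain ⟨i, hi⟩ := hu (ZMod.unitOfCoprime j (h5.coprime_dvd_right ⟨m, h0.symm⟩))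
  have h7 : j ≡ k ^ i [MOD Nat.card G] := by
    rw [← h0, ← Nat.modEq_and_modEq_iff_modEq_mul h1]
    refine ⟨(ZMod.natCast_eq_natCast_iff _ _ _).1 ?_, h6.trans (by simpa using (h3.pow i).symm)⟩
    rw [Nat.cast_pow, (ZMod.natCast_eq_natCast_iff _ _ _).2 h2, ZMod.natCast_zmod_val, ← Units.val_pow_eq_pow_val]
    exact (congrArg Units.val hi).symm
  rw [pow_eq_pow_iff_modEq.2 (h7.of_dvd (orderOf_dvd_natCard g))]
  clear hi h7
  induction i with
  | zero => simp
  | succ i ih => rw [pow_succ, pow_mul]; exact (h.2 _).trans ih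

end Cfsg.Agent.S4712
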