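import Cfsg.Statements.S4714
import Cfsg.Agent.Lib.Block2.Canon

set_option autoImplicit false
open Cfsg

namespace Cfsg.Agent.S4714

/-- Let p be a prime, M a maximal ideal of the algebraic integers containing p, D a p-subgroup of the finite group G with G = D·C_G(D), and B a p-block with defect group D. Let χ be a member of B having D in its kernel (there is exactly one, the canonical character of B). Then the irreducible characters in B are exactly the functions θ on G for which there is an irreducible character ζ of D such that θ(yx) = ζ(y)χ(x) whenever y ∈ D, x has order prime to p and x commutes with y, and θ(z) = 0 whenever the p-part of z does not lie in D. -/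
theorem result {G : Type*} [Group G] [Finite G] (p : ℕ) [Fact p.Prime] (M : Ideal Cfsg.AlgInt) (hM : Cfsg.IsPModular p M) (D : Subgroup G) (hD : IsPGroup p D) (hG : D ⊔ Subgroup.centralizer (D : Set G) = ⊤) (B : Set (Cfsg.IrrCharacter G)) (hB : Cfsg.IsPBlock M B) (hBD : Cfsg.IsDefectGroup p M B D) (χ : Cfsg.IrrCharacter G) (hχ : χ ∈ B) (hχD : ∀ y ∈ D, (χ : G → ℂ) y = (χ : G → ℂ) 1) : (∀ θ : Cfsg.IrrCharacter G, θ ∈ B ↔ ∃ ζ : Cfsg.IrrCharacter D, (∀ (y : D) (x : G), ¬ p ∣ orderOf x → Commute (y : G) x → (θ : G → ℂ) ((y : G) * x) = (ζ : D → ℂ) y * (χ : G → ℂ) x) ∧ (∀ z : G, (∀ y : G, Cfsg.IsPPart p z y → y ∉ D) → (θ : G → ℂ) z = 0)) ∧ ∀ ζ : Cfsg.IrrCharacter D, ∃ θ ∈ B, (∀ (y : D) (x : G), ¬ p ∣ orderOf x → Commute (y : G) x → (θ : G → ℂ) ((y : G) * x) = (ζ : D → ℂ) y * (χ : G → ℂ) x) ∧ (∀ z : G, (∀ y : G, Cfsg.IsPPart p z y → y ∉ D) → (θ : G → ℂ) z = 0) := by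
  open Cfsg.Lib Cfsg.Lib.Block Cfsg.Lib.Block2 Cfsg.Lib.Char Cfsg.Lib.Amalg in
  have := hM.2.1
  haveI := normal_of_sup_cent hG
  have hk : D ≤ charKer (χ : G → ℂ) := fun x hx => χ.2.mem_charKer.2 (hχD x hx)
  have h0 : ∀ θ ∈ B, ∀ z : G, (∀ y : G, IsPPart p z y → y ∉ D) → (θ : G → ℂ) z = 0 :=
    fun θ hθ z h => by
      obtain ⟨u, hu⟩ := exists_isPPart hM.1 z
      exact by_contra fun h0 => h u hu (mem_normal_defectGroup hM hB hBD hθ hu h0)
  have h1 : ∀ {θ : G → ℂ}, (∀ z : G, (∀ y : G, IsPPart p z y → y ∉ D) → θ z = 0) →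
      ∀ g u, IsPPart p g u → u ∉ D → θ g = 0 := fun h g u hu hD =>
    h g fun y hy => hu.unique hM.1 hy ▸ hD
  refine ⟨fun θ => ⟨fun hθ => ?_, fun ⟨ζ, h2, h3⟩ => ?_⟩, fun ζ => ?_⟩
  · obtain ⟨ζ, h⟩ := exists_canon_apply hM hG hB hBD hχ hk hθ
    exact ⟨ζ, fun y x hx _ => h y x hx, h0 θ hθ⟩
  · obtain ⟨ψ, hψ, h⟩ := exists_canon_of_irr hM hG hB hBD hχ hk ζ
    rwa [show θ = ψ from Subtype.ext (eq_of_canon_apply (h1 h3) (h1 (h0 ψ hψ)) fun y x hx hc => by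
      rw [h2 y x hx hc, h y x hx])]
  · obtain ⟨ψ, hψ, h⟩ := exists_canon_of_irr hM hG hB hBD hχ hk ζ
    exact ⟨ψ, hψ, fun y x hx _ => h y x hx, h0 ψ hψ⟩

end Cfsg.Agent.S4714
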