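import Cfsg.Statements.S4715
import Cfsg.Agent.Lib.Block2.Major

set_option autoImplicit false
open Cfsg

namespace Cfsg.Agent.S4715

/-- Let p be a prime, M a maximal ideal of the algebraic integers containing p, B a p-block of the finite group G with defect group D of order p^d, H = D·C_G(D), b a block of H inducing B, T the stabilizer of b in N_G(D) and e = [T : H] the inertial index of B; let n be the integer with p^n ≤ e < p^(n+1) and p^c the order of the centre of D. Then every irreducible character in B has height h with h + c ≤ n + d. -/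
theorem result {G : Type*} [Group G] [Finite G] (p : ℕ) [Fact p.Prime] (M : Ideal Cfsg.AlgInt) (hM : Cfsg.IsPModular p M) (B : Set (Cfsg.IrrCharacter G)) (hB : Cfsg.IsPBlock M B) (D : Subgroup G) (hBD : Cfsg.IsDefectGroup p M B D) (d : ℕ) (hDd : Nat.card D = p ^ d) (H : Subgroup G) (hH : H = D ⊔ Subgroup.centralizer (D : Set G)) (b : Set (Cfsg.IrrCharacter H)) (hind : Cfsg.IsInducedBlock M H b B) (T : Subgroup G) (hT : ∀ g : G, g ∈ T ↔ (g ∈ Subgroup.normalizer (D : Set G) ∧ ∀ θ ∈ b, ∀ θ' : Cfsg.IrrCharacter H, (∀ h h' : H, (h' : G) = g * h * g⁻¹ → (θ' : H → ℂ) h' = (θ : H → ℂ) h) → θ' ∈ b)) (e : ℕ) (he : H.relIndex T = e) (n : ℕ) (hn : p ^ n ≤ e ∧ e < p ^ (n + 1)) (c : ℕ) (hc : Nat.card (Subgroup.center D) = p ^ c) : ∀ χ ∈ B, Cfsg.blockHeight p B (χ : G → ℂ) + c ≤ n + d := by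
  open Cfsg.Lib Cfsg.Lib.Block Cfsg.Lib.Block2 Cfsg.Lib.Char Cfsg.Lib.Amalg in
  have := hM.2.1
  intro χ hχ
  haveI := Fintype.ofFinite G
  subst hH
  have hB := hind.2.1
  have hd := hBD.defG_top hM hB
  have hm : MaxP p ⊤ (eB M B) D (EB M b) :=
    ⟨bpo_of_ind_sup hM hd.isPGroup le_top (by rw [top_inf_eq]; exact hind.ind), hd⟩
  obtain rfl : T = stabP ⊤ D (EB M b) := Subgroup.ext fun g => by
    rw [hT, Lib.Block2.mem_stabP]
    refine ⟨fun h => ⟨trivial, h.1, ?_⟩, fun h => ⟨h.2.1, ?_⟩⟩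
    · exact (stab_iff_EB (by rw [cj_sup, cj_centralizer, cj_of_mem_normalizer h.1])
        hind.1.isBlockUnion).1 h.2
    · exact (stab_iff_EB (by rw [cj_sup, cj_centralizer, cj_of_mem_normalizer h.2.1])
        hind.1.isBlockUnion).2 h.2.2
  have h := hm.card_center_mul_le hM hB hχ
  have h1 := D.card_mul_index
  rw [he, hDd, show Nat.card (D ⊓ Subgroup.centralizer (D : Set G) : Subgroup G) = p ^ c by
    rw [← hc, ← Subgroup.card_map_of_injective D.subtype_injective]
    congr 3
    ext x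
    simp [Subgroup.mem_centralizer_iff, Subgroup.mem_center_iff, Subtype.ext_iff, and_comm]] at h
  have := h.trans_lt (Nat.mul_lt_mul_of_pos_right hn.2 (pow_pos hM.1.pos d))
  rw [← pow_add, ← pow_add, Nat.pow_lt_pow_iff_right hM.1.one_lt] at this
  omega

end Cfsg.Agent.S4715
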