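import Cfsg.Statements.S4717
import Cfsg.Agent.Lib.Block2.Nil
import Cfsg.Agent.Lib.Block.Principal

set_option autoImplicit false
open Cfsg

namespace Cfsg.Agent.S4717

/-- Let p be a prime, M a maximal ideal of the algebraic integers containing p, and r a natural number; say that a finite group X has deficiency class r when X has no non-principal p-block of defect ≥ r. If G has deficiency class r then so does the centralizer of every p-element of G; conversely, if r > 0 and the centralizer of every element of order p has deficiency class r, then G has deficiency class r. -/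
theorem result {G : Type*} [Group G] [Finite G] (p : ℕ) [Fact p.Prime] (M : Ideal Cfsg.AlgInt) (hM : Cfsg.IsPModular p M) (r : ℕ) : ((∀ B' : Set (Cfsg.IrrCharacter G), Cfsg.IsPBlock M B' → B' ≠ Cfsg.principalBlock M G → Cfsg.blockDefect p B' < r) → ∀ y : G, (∃ k : ℕ, orderOf y = p ^ k) → (∀ B' : Set (Cfsg.IrrCharacter ↥(Subgroup.centralizer ({y} : Set G))), Cfsg.IsPBlock M B' → B' ≠ Cfsg.principalBlock M ↥(Subgroup.centralizer ({y} : Set G)) → Cfsg.blockDefect p B' < r)) ∧ (0 < r → (∀ y : G, orderOf y = p → (∀ B' : Set (Cfsg.IrrCharacter ↥(Subgroup.centralizer ({y} : Set G))), Cfsg.IsPBlock M B' → B' ≠ Cfsg.principalBlock M ↥(Subgroup.centralizer ({y} : Set G)) → Cfsg.blockDefect p B' < r)) → (∀ B' : Set (Cfsg.IrrCharacter G), Cfsg.IsPBlock M B' → B' ≠ Cfsg.principalBlock M G → Cfsg.blockDefect p B' < r)) := by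
  open Cfsg.Lib.Block Cfsg.Lib.Block2 Cfsg.Lib.Char Cfsg.Lib.Amalg in
  have := hM.2.1
  have hp := hM.1
  constructor
  · intro h y hy b hb hne
    obtain ⟨B, hB⟩ := allInd_centralizer_singleton hM hy b hb
    obtain ⟨D, hD⟩ := hb.exists_isDefectGroup p
    obtain ⟨E, hE⟩ := hB.2.1.exists_isDefectGroup p
    have h1 := hB.card_le hM hD hE
    rw [hD.card_eq_pow hM hb, hE.card_eq_pow hM hB.2.1, Nat.pow_le_pow_iff_right hp.one_lt] at h1
    exact h1.trans_lt (h B hB.2.1 fun e => hne ((hB.eq_principalBlock_iff hM).1 e))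
  · intro hr h B hB hne
    obtain ⟨D, ε, hm⟩ := (blk_top_eB hB).exists_maxP hM
    have hD := (isDefectGroup_iff_defG_top hM hB).2 hm.defG
    by_cases hD1 : D = ⊥
    · rwa [(blockDefect_eq_zero_iff_bot hM hB hD).2 hD1]
    have h1 := inf_center_ne_bot hm.bp.isPGroup le_rfl Subgroup.le_normalizer hD1
    obtain ⟨⟨y, hy⟩, hy1⟩ := exists_prime_orderOf_dvd_card' p
      (dvd_card_of_isPGroup_ne_bot (hm.bp.isPGroup.to_le inf_le_left) h1)
    rw [← Subgroup.orderOf_coe] at hy1
    obtain ⟨φ, h2⟩ := hm.bp.exists_sle hM (Subgroup.zpowers_le.2 hy.1)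
    have h3 := hm.cent_of_comm hM (by
      rw [centralizer_zpowers_eq]; exact le_centralizer_singleton_iff.2 hy.2) h2
    have h4 := (hm.bpo.of_sle hM h2).ind hM
    have h5 := h3.defG
    rw [top_inf_eq, centralizer_zpowers_eq] at h4 h5
    obtain ⟨b, hb, rfl⟩ := h4.blk.exists_eq
    have h6 := h y hy1 b hb fun e => hne (((h4.isInducedBlock hb hB).eq_principalBlock_iff hM).2 e)
    rwa [← ((isDefectGroup_subgroupOf_iff hM hb h5.le).2 h5).factorization_card hM hb,
      Nat.card_congr (Subgroup.subgroupOfEquivOfLe h5.le).toEquiv, hD.factorization_card hM hB] at h6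

end Cfsg.Agent.S4717
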