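import Cfsg.Statements.S4719
import Cfsg.Agent.S4718
import Cfsg.Agent.S4717
import Cfsg.Agent.Lib.Block2.Quot

set_option autoImplicit false
universe u
open Cfsg

namespace Cfsg.Agent.S4719

open Cfsg.Lib Cfsg.Lib.Clifford Cfsg.Lib.Char Cfsg.Lib.Block Cfsg.Lib.Block2 Finset

theorem quot {G : Type*} [Group G] [Finite G] {M : Ideal AlgInt} (hM : IsPModular 2 M) {r : ℕ} {y : G}
    (hy : orderOf y = 2) (Z : Subgroup G) [Z.Normal] (hZ : Z = Subgroup.zpowers y) (hc : y ∈ Subgroup.center G)
    (h : ∀ B : Set (IrrCharacter G), IsPBlock M B → B ≠ principalBlock M G → blockDefect 2 B < r + 1)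
    (b : Set (IrrCharacter (G ⧸ Z))) (hb : IsPBlock M b) (hne : b ≠ principalBlock M (G ⧸ Z)) :
    blockDefect 2 b < r := by
  have := hM.2.1
  have hf := QuotientGroup.mk'_surjective Z
  obtain ⟨χ, hχ, h1⟩ := Block2.exists_minVal 2 hb.nonempty
  have hB := isPBlock_blockOf (M := M) (infl _ hf χ)
  have h2 := h _ hB fun e => hne (hb.eq_principalBlock (hb.mem_of_sameBlock hχ
    (sameBlock_of_infl_of_pquo hf hM ?_ (pquo_of_le fun g _ z hz => ?_)
      (hB.sameBlock (mem_blockOf_self _) (by rw [e, infl_principalIrr]; exact principalIrr_mem)))))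
  · have h3 := Block2.blockDefect_add_minVal 2 hB.nonempty
    have h4 := Block2.blockDefect_add_minVal 2 hb.nonempty
    have h5 := Block2.minVal_le (p := 2) (mem_blockOf_self (M := M) (infl _ hf χ))
    have h6 := factorization_card_add_index 2 Z
    rw [charDegree_infl, h1] at h5
    rw [show Nat.card Z = 2 by rw [hZ, Nat.card_zpowers, hy], Nat.prime_two.factorization_self,
      Subgroup.index] at h6
    omega
  · rw [QuotientGroup.ker_mk', hZ]
    exact isPGroup_zpowers ⟨1, by simpa using hy⟩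
  · rw [QuotientGroup.ker_mk', hZ] at hz
    exact (Subgroup.mem_center_iff.1 (Subgroup.zpowers_le.2 hc hz) g).symm

theorem main (r : ℕ) : ∀ a : ℕ, ∃ N : ℕ, ∀ (G : Type u) [Group G] [Finite G] (M : Ideal AlgInt),
    IsPModular 2 M → (Nat.card G).factorization 2 ≤ a → (∀ B : Set (IrrCharacter G), IsPBlock M B →
      B ≠ principalBlock M G → blockDefect 2 B < r) → ∀ E : Subgroup G, (∀ x ∈ E, x * x = 1) →
      2 ^ (r + 1) ≤ Nat.card E → Nat.card G ≤ N := by
  induction r with
  | zero =>
    intro a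
    choose N hN using S4718.result.{u} 2
    refine ⟨(range (a + 1)).sup N, fun G _ _ M hM ha h _ _ _ => (hN _ G M hM rfl fun B hB => ?_).trans
      (le_sup (mem_range.2 (Nat.lt_succ_of_le ha)))⟩
    by_contra e
    simpa using h B hB e
  | succ r ih =>
    intro a
    obtain ⟨c, hc⟩ := ih a
    obtain ⟨N, hN⟩ := exists_bound_of_four_group.{u} (2 * c) (a + 1)
    refine ⟨N, fun G _ _ M hM ha h E hE hcard => ?_⟩
    have hab : ∀ x ∈ E, ∀ y ∈ E, Commute x y := fun x hx y hy => by
      have := hE _ (E.mul_mem hx hy)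
      rwa [mul_eq_one_iff_eq_inv, mul_inv_rev, ← mul_eq_one_iff_eq_inv.1 (hE x hx),
        ← mul_eq_one_iff_eq_inv.1 (hE y hy)] at this
    have key : ∀ y ∈ E, y ≠ 1 → Nat.card (Subgroup.centralizer ({y} : Set G)) ≤ 2 * c := fun y hy h1 => by
      set C := Subgroup.centralizer ({y} : Set G)
      have hEC : E ≤ C := fun x hx => Subgroup.mem_centralizer_singleton_iff.2 (hab x hx y hy)
      have hy2 := Invol.two_of_mul_self (hE y hy) h1
      let z : C := ⟨y, hEC hy⟩
      have hz2 : orderOf z = 2 := by rwa [← Subgroup.orderOf_coe]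
      have hz : z ∈ Subgroup.center C := Subgroup.mem_center_iff.2 fun g =>
        Subtype.ext (Subgroup.mem_centralizer_singleton_iff.1 g.2)
      have : (Subgroup.zpowers z).Normal := ⟨fun n hn g => by
        rwa [Subgroup.mem_center_iff.1 (Subgroup.zpowers_le.2 hz hn) g, mul_inv_cancel_right]⟩
      have hZ : Nat.card (Subgroup.zpowers z) = 2 := by rw [Nat.card_zpowers, hz2]
      rw [← (Subgroup.zpowers z).card_mul_index, hZ]
      refine Nat.mul_le_mul_left 2 (hc (C ⧸ Subgroup.zpowers z) M hM ?_ (quot hM hz2 _ rfl hz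
        ((S4717.result 2 M hM (r + 1)).1 h y ⟨1, by simpa using hy2⟩))
        ((E.subgroupOf C).map (QuotientGroup.mk' _)) ?_ ?_)
      · exact (Nat.factorization_le_factorization_of_dvd_right ((Subgroup.card_quotient_dvd_card _).trans
          (Subgroup.card_subgroup_dvd_card C)) Nat.card_pos.ne' Nat.card_pos.ne').trans ha
      · rintro _ ⟨x, hx, rfl⟩
        rw [← map_mul, show x * x = 1 from Subtype.ext (hE _ hx), map_one]
      · have h2 := card_eq_card_inf_ker_mul (QuotientGroup.mk' (Subgroup.zpowers z)) (E.subgroupOf C)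
        have h3 := Subgroup.card_le_of_le (inf_le_right : E.subgroupOf C ⊓
          (QuotientGroup.mk' (Subgroup.zpowers z)).ker ≤ _)
        rw [Nat.card_congr (Subgroup.subgroupOfEquivOfLe hEC).toEquiv] at h2
        conv_rhs at h3 => rw [QuotientGroup.ker_mk', hZ]
        rw [h2, pow_succ'] at hcard
        exact Nat.le_of_mul_le_mul_left (hcard.trans (Nat.mul_le_mul_right _ h3)) two_pos
    have h4 : 2 < Nat.card E := lt_of_lt_of_le (by
      rw [pow_succ, pow_succ]; have := Nat.two_pow_pos r; omega) hcard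
    have := Fintype.ofFinite E
    rw [Nat.card_eq_fintype_card, Fintype.two_lt_card_iff] at h4
    obtain ⟨x, y, hx, hy, hxy⟩ : ∃ x y : E, x ≠ 1 ∧ y ≠ 1 ∧ x ≠ y := by
      obtain ⟨x, y, z, h1, h2, h3⟩ := h4
      exact ⟨x⁻¹ * y, x⁻¹ * z, by simpa [inv_mul_eq_one] using h1, by simpa [inv_mul_eq_one] using h2,
        by simpa using h3⟩
    have hx' : (x : G) ≠ 1 := by simpa using hx
    have hy' : (y : G) ≠ 1 := by simpa using hy
    have hxy' : (x : G) ≠ y := by simpa using hxy
    have ox := Invol.two_of_mul_self (hE x x.2) hx'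
    have oy := Invol.two_of_mul_self (hE y y.2) hy'
    exact hN G (Nat.lt_succ_of_le ha) x y ox oy hxy' (hab x x.2 y y.2) (key x x.2 hx') (key y y.2 hy')
      (key _ (E.mul_mem x.2 y.2) (Invol.ne_one_of_two (Invol.two_mul_of_commute ox oy hxy' (hab x x.2 y y.2))))

/-- For every natural number a there is a bound N with the following property. Let G be a finite group with Sylow 2-subgroups of order 2^a and r ≥ 0 such that G has no non-principal 2-block (relative to a maximal ideal of the algebraic integers containing 2) of defect ≥ r, and suppose a Sylow 2-subgroup of G contains an elementary abelian subgroup of order 2^(r+1). Then the order of G is at most N. -/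
theorem result (a : ℕ) : ∃ N : ℕ, ∀ (G : Type u) [Group G] [Finite G] (M : Ideal Cfsg.AlgInt) (r : ℕ) (P : Sylow 2 G), Cfsg.IsPModular 2 M → Nat.card P = 2 ^ a → (∀ B : Set (Cfsg.IrrCharacter G), Cfsg.IsPBlock M B → B ≠ Cfsg.principalBlock M G → Cfsg.blockDefect 2 B < r) → (∃ E : Subgroup G, E ≤ (P : Subgroup G) ∧ IsMulCommutative E ∧ (∀ x ∈ E, x * x = 1) ∧ Nat.card E = 2 ^ (r + 1)) → Nat.card G ≤ N := by
  choose N hN using fun r => main.{u} r a
  refine ⟨(range a).sup N, fun G _ _ M r P hM hP h ⟨E, hEP, _, hE, hc⟩ => (hN r G M hM ?_ h E hE hc.ge).trans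
    (le_sup (mem_range.2 ?_))⟩
  · rw [P.card_eq_multiplicity] at hP
    exact (Nat.pow_right_injective le_rfl hP).le
  · have := Subgroup.card_le_of_le hEP
    rwa [hP, hc, Nat.pow_le_pow_iff_right one_lt_two] at this

end Cfsg.Agent.S4719
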