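import Cfsg.Statements.S4720
import Cfsg.Agent.Lib.Block.Column
import Cfsg.Agent.Lib.Char.Induce

set_option autoImplicit false
open Cfsg

namespace Cfsg.Agent.S4720

open Cfsg.Lib.Block Cfsg.Lib.Char Cfsg.Lib.Amalg
set_option linter.style.haveILetI false

/-- Let p be a prime, M a maximal ideal of the algebraic integers containing p, P a p-subgroup of the finite group G, N a subgroup with P ≤ N ≤ N_G(P), and U a nonempty subset of P normalized by N such that an element of U and an element of P that are conjugate in G are already conjugate in N, and such that λ(C_G(y)) = w·#C_N(y) for every y ∈ U with one rational number w, where λ(X) denotes the sum of the squares of the degrees of the irreducible characters in the principal p-block of X. For a complex function θ on P and χ in the principal block of G put a_χ(θ) = #P⁻¹ Σ_{y ∈ P} χ(y) θ(y⁻¹). Then for generalized characters θ, η of P with θ vanishing outside U, Σ_χ a_χ(θ)·conj(a_χ(η))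 = (w/#P²)·Σ_{y ∈ P} θ(y)·conj(Σ_{x ∈ N} η(x y x⁻¹)) (η extended by zero off P; the conjugates lie in P), the first sum over the principal p-block of G. -/
theorem result {G : Type*} [Group G] [Finite G] (p : ℕ) [Fact p.Prime] (M : Ideal Cfsg.AlgInt) (hM : Cfsg.IsPModular p M) (P : Subgroup G) (hP : IsPGroup p P) (N : Subgroup G) (hPN : P ≤ N) (hNN : N ≤ Subgroup.normalizer (P : Set G)) (U : Set G) (hUne : U.Nonempty) (hUP : U ⊆ (P : Set G)) (hUN : ∀ n ∈ N, ∀ u ∈ U, n * u * n⁻¹ ∈ U) (hfus : ∀ u ∈ U, ∀ g : G, g * u * g⁻¹ ∈ (P : Set G) → ∃ n ∈ N, n * u * n⁻¹ = g * u * g⁻¹) (w : ℚ) (hw : ∀ y ∈ U, ((∑ᶠ ψ ∈ Cfsg.principalBlock M ↥(Subgroup.centralizer ({y} : Set G)), Cfsg.charDegree (ψ : ↥(Subgroup.centralizer ({y} : Set G)) → ℂ) ^ 2) : ℚ) = w * Nat.card ↥(N ⊓ Subgroup.centralizer ({y} : Set G))) (θ η : ↥P → ℂ) (hθ : Cfsg.IsGeneralizedCharacter ↥P θ) (hη : Cfsg.IsGeneralizedCharacter ↥P η) (hθU : ∀ y : ↥P, (y : G) ∉ U → θ y =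 0) : ∑ᶠ χ ∈ Cfsg.principalBlock M G, ((Nat.card ↥P : ℂ)⁻¹ * ∑ᶠ y : ↥P, (χ : G → ℂ) (y : G) * θ y⁻¹) * (starRingEnd ℂ) ((Nat.card ↥P : ℂ)⁻¹ * ∑ᶠ y : ↥P, (χ : G → ℂ) (y : G) * η y⁻¹) = ((w : ℂ) / ((Nat.card ↥P : ℂ) ^ 2)) * ∑ᶠ y : ↥P, θ y * (starRingEnd ℂ) (∑ᶠ x : ↥N, Cfsg.extendByZero P η ((x : G) * (y : G) * (x : G)⁻¹)) := by
  classical
  haveI := hM.2.1
  haveI := Fintype.ofFinite P
  haveI := Fintype.ofFinite N
  haveI := Fintype.ofFinite (Cfsg.principalBlock M G)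
  rw [finsum_mem_eq_sum_coe, finsum_eq_sum_of_fintype (α := P)]
  refine (sum_col_mul_conj_col_eq hM hP θ η).trans ?_
  rw [Finset.mul_sum, Finset.mul_sum]
  refine Finset.sum_congr rfl fun y _ => ?_
  by_cases hy : (y : G) ∈ U
  swap
  · simp [hθU y hy]
  have h1 : ((∑ᶠ ψ ∈ Cfsg.principalBlock M (Subgroup.centralizer ({(y : G)} : Set G)),
      Cfsg.charDegree (ψ : Subgroup.centralizer ({(y : G)} : Set G) → ℂ) ^ 2 : ℕ) : ℂ)
      = w * Nat.card (N ⊓ Subgroup.centralizer ({(y : G)} : Set G) : Subgroup G) := by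
    have := hw y hy
    rw [Cfsg.Lib.Block.finsum_mem_irr] at this ⊢
    exact_mod_cast congrArg (fun q : ℚ => (q : ℂ)) this
  have hyN : (y : G) ∈ N := hPN y.2
  have h2 := sum_conj_eq (⟨y, hyN⟩ : N) (fun x : N => Cfsg.extendByZero P η x)
  have h3 : Nat.card (Subgroup.centralizer ({(⟨y, hyN⟩ : N)} : Set N))
      = Nat.card (N ⊓ Subgroup.centralizer ({(y : G)} : Set G) : Subgroup G) := by
    refine Lib.Invol.card_eq_of_bij (fun x : N => (x : G)) (fun a ha => ⟨a.2, ?_⟩)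
      (fun a b _ _ e => Subtype.ext e) fun b hb => ⟨⟨b, hb.1⟩, ?_, rfl⟩
    · exact Subgroup.mem_centralizer_singleton_iff.2
        (congrArg Subtype.val (Subgroup.mem_centralizer_singleton_iff.1 ha))
    · exact Subgroup.mem_centralizer_singleton_iff.2
        (Subtype.ext (Subgroup.mem_centralizer_singleton_iff.1 hb.2))
  have h4 : ∑ x ∈ Finset.univ.filter (IsConj (⟨y, hyN⟩ : N)), Cfsg.extendByZero P η x
      = ∑ v ∈ Finset.univ.filter (fun v : P => IsConj (y : G) v), η v := by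
    symm
    refine Finset.sum_bij (fun v _ => (⟨v, hPN v.2⟩ : N)) (fun v hv => ?_)
      (fun a _ b _ e => Subtype.ext (congrArg (fun x : N => (x : G)) e)) (fun x hx => ?_)
      fun v _ => (extendByZero_coe η v).symm
    · obtain ⟨g, hg⟩ := isConj_iff.1 (Finset.mem_filter.1 hv).2
      obtain ⟨n, hn, e⟩ := hfus y hy g (hg ▸ v.2)
      exact Finset.mem_filter.2 ⟨Finset.mem_univ _,
        isConj_iff.2 ⟨⟨n, hn⟩, Subtype.ext (e.trans hg)⟩⟩
    · obtain ⟨n, rfl⟩ := isConj_iff.1 (Finset.mem_filter.1 hx).2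
      exact ⟨⟨n * y * (n : G)⁻¹, Lib.Transfer.conj_mem_of_mem_normalizer (hNN n.2) y.2⟩,
        Finset.mem_filter.2 ⟨Finset.mem_univ _, Lib.Invol.isConj_conj _ _⟩, rfl⟩
  rw [ker_self_eq hM (orderOf_eq_pow_of_mem hP y.2), h1, finsum_eq_sum_of_fintype]
  rw [h3, h4] at h2
  simp only [Subgroup.coe_mul, Subgroup.coe_inv] at h2
  rw [h2, nsmul_eq_mul, map_mul, map_natCast, map_sum]
  ring

end Cfsg.Agent.S4720
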