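import Cfsg.Statements.S4721
import Cfsg.Agent.Lib.Block.AbThree

set_option autoImplicit false
open Cfsg

namespace Cfsg.Agent.S4721

open Cfsg.Lib.Block Cfsg.Lib.Char Cfsg.Lib.Amalg
set_option linter.style.haveILetI false

/-- Let p be a prime, M a maximal ideal of the algebraic integers containing p, and G a finite group with a nontrivial abelian Sylow p-subgroup P, N = N_G(P), C = C_G(P), such that N/C is cyclic of order 3, #P > 4, and C_G(y) ∩ N = C for every non-identity y ∈ P. Then the principal p-block is the disjoint union of a set X of exactly 3 characters containing the principal character and a set Y of (#P − 1)/3 characters, with signs a_χ = ±1 (χ ∈ X, a = 1 at the principal character) and δ = ±1 such that every χ ∈ X takes the value a_χ at every element whose p-part is a non-identity element of P, and there is a map ζ from the non-principal linear characters of P onto Y, constant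 on N-conjugacy classes, with ζ_ψ(z) = δ·Σ ψ'(y) over the N-orbit of ψ, for z with p-part y ≠ 1 in P. If moreover G has an involution lying in no proper normal subgroup of G, then exactly two of the three numbers −δ and a_χ (χ ∈ X non-principal) equal −1, and the product of the degrees of the two non-principal members of X and of any member of Y is a perfect square. -/
theorem result {G : Type*} [Group G] [Finite G] (p : ℕ) [Fact p.Prime] (M : Ideal Cfsg.AlgInt) (hM : Cfsg.IsPModular p M) (P : Sylow p G) (hab : IsMulCommutative P) (hP1 : Nat.card P ≠ 1) (hCN : (Subgroup.centralizer ((P : Subgroup G) : Set G)).relIndex (Subgroup.normalizer ((P : Subgroup G) : Set G)) = 3) (hcyc : ∃ g : G, g ∈ Subgroup.normalizer ((P : Subgroup G) : Set G) ∧ Subgroup.centralizer ((P : Subgroup G) : Set G) ⊔ Subgroup.zpowers g = Subgroup.normalizer ((P : Subgroup G) : Set G)) (hm2 : 3 + 1 < Nat.card P) (hfrob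 : ∀ y : G, y ∈ (P : Subgroup G) → y ≠ 1 → Subgroup.centralizer ({y} : Set G) ⊓ Subgroup.normalizer ((P : Subgroup G) : Set G) = Subgroup.centralizer ((P : Subgroup G) : Set G)) : ∃ (X Y : Set (Cfsg.IrrCharacter G)), Cfsg.principalBlock M G = X ∪ Y ∧ Disjoint X Y ∧ Nat.card X = 3 ∧ Nat.card Y = (Nat.card P - 1) / 3 ∧ (∃ χ₁ ∈ X, (χ₁ : G → ℂ) = fun _ => 1) ∧ ∃ (a : Cfsg.IrrCharacter G → ℤ) (δ : ℤ) (ζ : (↥(P : Subgroup G) →* ℂˣ) → Cfsg.IrrCharacter G), (δ = 1 ∨ δ = -1) ∧ (∀ χ ∈ X, (a χ = 1 ∨ a χ = -1) ∧ ∀ z y : G, Cfsg.IsPPart p z y → y ∈ (P : Subgroup G) → y ≠ 1 → (χ : G → ℂ) z = (a χ : ℂ)) ∧ (∀ ψ : ↥(P : Subgroup G) →* ℂˣ, ψ ≠ 1 → ζ ψ ∈ Y) ∧ (∀ η ∈ Y, ∃ ψ : ↥(P : Subgroup G) →* ℂˣ, ψ ≠ 1 ∧ ζ ψ = η) ∧ (∀ ψ ψ' : ↥(P : Subgroup G) →* ℂˣ, ψ ≠ 1 → (∃ n : G, n ∈ Subgroup.normalizer ((P : Subgroup G) : Set G) ∧ ∀ w w' : ↥(P : Subgroup G), (w' : G) = n * w * n⁻¹ → ψ' w' = ψ w) → ζ ψ' = ζ ψ) ∧ (∀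 ψ : ↥(P : Subgroup G) →* ℂˣ, ψ ≠ 1 → ∀ (z : G) (y : ↥(P : Subgroup G)), Cfsg.IsPPart p z (y : G) → (y : G) ≠ 1 → (ζ ψ : G → ℂ) z = (δ : ℂ) * ∑ᶠ ψ' ∈ {ψ' : ↥(P : Subgroup G) →* ℂˣ | ∃ n : G, n ∈ Subgroup.normalizer ((P : Subgroup G) : Set G) ∧ ∀ w w' : ↥(P : Subgroup G), (w' : G) = n * w * n⁻¹ → ψ' w' = ψ w}, ((ψ' y : ℂˣ) : ℂ)) ∧ ((∃ t : G, orderOf t = 2 ∧ ∀ K : Subgroup G, K.Normal → t ∈ K → K = ⊤) → Nat.card {χ : Cfsg.IrrCharacter G // χ ∈ X ∧ (χ : G → ℂ) ≠ (fun _ => 1) ∧ a χ = -1} + (if δ = 1 then 1 else 0) = 2 ∧ ∀ η ∈ Y, IsSquare (Cfsg.charDegree (η : G → ℂ) * ∏ᶠ χ ∈ {χ : Cfsg.IrrCharacter G | χ ∈ X ∧ (χ : G → ℂ) ≠ fun _ => 1}, Cfsg.charDegree (χ : G → ℂ))) := by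
  classical
  haveI := hM.2.1
  haveI := Fintype.ofFinite (Cfsg.principalBlock M G)
  have hA : ∀ a b : (P : Subgroup G), a * b = b * a := fun a b => hab.1.1 a b
  have hP := Lib.Transfer.sylowIn_top P
  have hfrob' := fun y hy h1 => (hfrob y hy h1).le
  obtain ⟨δ, a, ζ, Y, χ₁, χ₂, hδ, hY, hc, h1, h2, h12, hYc, ha, hζ, hcol, hX, hv⟩ :=
    exists_abThree hM hP hA hfrob' hCN hm2
  have hc' : (Nat.card P - 1) / 3 = Y.card := by
    rw [show Nat.card P = Y.card * 3 + 1 from hc.symm, Nat.add_sub_cancel,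
      Nat.mul_div_cancel _ (by omega)]
  have hsec : ∀ (χ : Cfsg.principalBlock M G) z y, Cfsg.IsPPart p z y → y ∈ (P : Subgroup G) →
      y ≠ 1 → χ.1.1 z = χ.1.1 y := fun χ z y hz hy h1 =>
    apply_eq_of_pnil hM hz (pnil_centralizer_of_frob hP hA hy (hfrob' y hy h1)) χ
  have hreg := fun g hg => abFrob_regular hM hP.2 hδ hY hcol (g := g) hg
  have hm1 : χ₁ ∉ Y := Finset.mem_compl.1 (by simp [hYc])
  have hm2' : χ₂ ∉ Y := Finset.mem_compl.1 (by simp [hYc])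
  refine ⟨Subtype.val '' ((Yᶜ : Finset _) : Set (Cfsg.principalBlock M G)),
    Subtype.val '' (Y : Set (Cfsg.principalBlock M G)), image_val_compl_union Y,
    disjoint_image_val_compl Y, ?_, (card_image_val _).trans hc'.symm,
    ⟨(oneB M G).1, ⟨_, by simp [hYc], rfl⟩, rfl⟩, extB a, δ, fun ψ => (ζ ψ).1, hδ,
    ?_, fun ψ hψ => ⟨_, (hY _).2 ⟨ψ, hψ, rfl⟩, rfl⟩, ?_, fun ψ φ hψ h => ?_,
    fun ψ hψ z y hz hy => ?_, ?_⟩
  · rw [card_image_val, hYc, Finset.card_insert_of_notMem (by simp [h1.symm, h2.symm]),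
      Finset.card_pair h12]
  · rintro _ ⟨χ, hχ, rfl⟩
    have := hX χ (Finset.mem_compl.1 hχ)
    rw [extB_val]
    exact ⟨this.1, fun z y hz hy h1 => (hsec χ z y hz hy h1).trans (this.2 y hy h1)⟩
  · rintro _ ⟨χ, hχ, rfl⟩
    obtain ⟨ψ, hψ, rfl⟩ := (hY χ).1 hχ
    exact ⟨ψ, hψ, rfl⟩
  · have h' : φ ∈ MulAction.orbit (Subgroup.normalizer ((P : Subgroup G) : Set G)) ψ := by
      rw [orbit_dual_eq]; exact h
    exact congrArg Subtype.val ((hζ ψ φ hψ (ne_one_of_mem_orbit hψ h')).2 h')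
  · rw [hsec _ z y hz y.2 hy, hv ψ hψ y fun e => hy (congrArg Subtype.val e), orbit_dual_eq]
  rintro ⟨t, ht, hK⟩
  obtain ⟨η, hη, e1, e2, e3⟩ :=
    abThree_involution hM hP hA hfrob' hCN hm2 hY hc h1 h2 h12 hYc ha hcol ht
  have hne : ∀ χ : Cfsg.principalBlock M G, χ ≠ oneB M G → χ.1.1 t ≠ χ.1.1 1 := fun χ h e =>
    h (eq_oneB_iff.2 (χ.1.2.charKer_eq_top_iff.1
      (hK _ χ.1.2.charKer_normal (χ.1.2.mem_charKer.2 e))))
  have ht2 := Lib.Invol.mul_self_of_two ht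
  obtain ⟨s, hs⟩ := χ₁.1.2.isCharacter.exists_int_of_two ht2
  obtain ⟨u, hu⟩ := χ₂.1.2.isCharacter.exists_int_of_two ht2
  obtain ⟨v, hv'⟩ := η.1.2.isCharacter.exists_int_of_two ht2
  have n1 := hne χ₁ h1
  have n2 := hne χ₂ h2
  simp only [hs, hu, hv', ← Lib.Block2.irr_cast_deg] at e1 e2 e3 n1 n2
  obtain ⟨hsg, hsq⟩ := four_signs (c := -δ) (s := s) (u := u) (v := v) (hX χ₁ hm1).1
    (hX χ₂ hm2').1 (by omega) (Int.natCast_pos.2 χ₁.1.2.charDegree_pos)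
    (Int.natCast_pos.2 χ₂.1.2.charDegree_pos) (Int.natCast_pos.2 η.1.2.charDegree_pos)
    (by rw [neg_mul, ← sub_eq_add_neg]; exact_mod_cast e1)
    (by rw [neg_mul, ← sub_eq_add_neg]; exact_mod_cast e2)
    (by rw [Int.cast_neg, neg_mul, ← sub_eq_add_neg]; exact_mod_cast e3)
    (by exact_mod_cast n1) (by exact_mod_cast n2)
  have hset : ∀ χ : Cfsg.IrrCharacter G, (χ ∈ Subtype.val '' ((Yᶜ : Finset _) :
      Set (Cfsg.principalBlock M G)) ∧ (χ : G → ℂ) ≠ fun _ => 1) ↔ χ = χ₁ ∨ χ = χ₂ := fun χ => by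
    constructor
    · rintro ⟨⟨χ, hχ, rfl⟩, h⟩
      simp only [hYc, Finset.coe_insert, Finset.coe_singleton, Set.mem_insert_iff,
        Set.mem_singleton_iff] at hχ
      rcases hχ with rfl | rfl | rfl
      exacts [absurd rfl h, Or.inl rfl, Or.inr rfl]
    · rintro (rfl | rfl)
      exacts [⟨⟨_, Finset.mem_compl.2 hm1, rfl⟩, fun h => h1 (eq_oneB_iff.2 h)⟩,
        ⟨⟨_, Finset.mem_compl.2 hm2', rfl⟩, fun h => h2 (eq_oneB_iff.2 h)⟩]
  have h12' : χ₁.1 ≠ χ₂.1 := fun e => h12 (Subtype.ext e)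
  refine ⟨?_, ?_⟩
  · rw [Lib.Invol.card_congr_iff (q := fun χ => (χ = χ₁.1 ∧ a χ₁ = -1) ∨ (χ = χ₂.1 ∧ a χ₂ = -1))
      fun χ => by
        rw [← and_assoc, hset, or_and_right]
        exact or_congr (and_congr_right fun e => by rw [e, extB_val])
          (and_congr_right fun e => by rw [e, extB_val]),
      Lib.Invol.card_or_of_disjoint _ _ fun χ h h' => h12' (h.1.symm.trans h'.1)]
    rcases hsg with ⟨h3, h4, h5⟩ | ⟨h3, h4, h5⟩ | ⟨h3, h4, h5⟩ <;>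
      simp [h3, h4, neg_eq_iff_eq_neg.1 h5]
  · rintro _ ⟨η', hη', rfl⟩
    have e : Cfsg.charDegree η'.1.1 = Cfsg.charDegree η.1.1 := by
      unfold Cfsg.charDegree
      rw [(hreg 1 (by simpa using (Fact.out : p.Prime).one_lt.ne')).1 η' hη' η hη]
    rw [show {χ : Cfsg.IrrCharacter G | χ ∈ Subtype.val '' ((Yᶜ : Finset _) :
      Set (Cfsg.principalBlock M G)) ∧ (χ : G → ℂ) ≠ fun _ => 1} = {χ₁.1, χ₂.1} from
      Set.ext hset, finprod_mem_pair h12', e, mul_comm]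
    exact_mod_cast hsq

end Cfsg.Agent.S4721
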