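import Cfsg.Statements.S4722
import Cfsg.Agent.Lib.Block.ColComb

set_option autoImplicit false
open Cfsg

namespace Cfsg.Agent.S4722

open Cfsg.Lib.Block Cfsg.Lib.Char Cfsg.Lib.Amalg
set_option linter.style.haveILetI false

/-- Let M be a maximal ideal of the algebraic integers containing 2, P a 2-subgroup of the finite group G, U a subset of P, and t an involution of G such that no element of U is inverted by any conjugate of t. Let θ be a generalized character of P vanishing outside U, and for χ in the principal 2-block B₀ put a_χ = #P⁻¹ Σ_{y ∈ P} χ(y) θ(y⁻¹). Then Σ_{χ ∈ B₀} a_χ χ(t)^2/χ(1) = 0, Σ_{χ ∈ B₀} a_χ χ(1) = 0 and Σ_{χ ∈ B₀} a_χ χ(t) = 0. If moreover #P⁻¹ Σ_{y ∈ P} θ(y) ≠ 0, then either at least two of the a_χ have positive real part and at least two have negative real part, or G has a proper normal subgroup containing O_2'(G) and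 t. -/
theorem result {G : Type*} [Group G] [Finite G] (M : Ideal Cfsg.AlgInt) (hM : Cfsg.IsPModular 2 M) (P : Subgroup G) (hP : IsPGroup 2 P) (U : Set G) (hUP : U ⊆ (P : Set G)) (t : G) (ht : orderOf t = 2) (hinv : ∀ u ∈ U, ∀ g : G, (g * t * g⁻¹) * u * (g * t * g⁻¹)⁻¹ ≠ u⁻¹) (θ : ↥P → ℂ) (hθ : Cfsg.IsGeneralizedCharacter ↥P θ) (hθU : ∀ y : ↥P, (y : G) ∉ U → θ y = 0) : (∑ᶠ χ ∈ Cfsg.principalBlock M G, ((Nat.card ↥P : ℂ)⁻¹ * ∑ᶠ y : ↥P, (χ : G → ℂ) (y : G) * θ y⁻¹) * (χ : G → ℂ) t ^ 2 / (χ : G → ℂ) 1 = 0) ∧ (∑ᶠ χ ∈ Cfsg.principalBlock M G, ((Nat.card ↥P : ℂ)⁻¹ * ∑ᶠ y : ↥P, (χ : G → ℂ) (y : G) * θ y⁻¹) * (χ : G → ℂ) 1 = 0) ∧ (∑ᶠ χ ∈ Cfsg.principalBlock M G, ((Nat.card ↥P : ℂ)⁻¹ * ∑ᶠ y : ↥P, (χ : G → ℂ) (y : G) * θ y⁻¹) * (χ : G → ℂ) t = 0) ∧ ((Nat.card ↥P : ℂ)⁻¹ * ∑ᶠ y : ↥P, θ y ≠ 0 → (2 ≤ Nat.card {χ : Cfsg.IrrCharacter G // χ ∈ Cfsg.principalBlock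 M G ∧ 0 < (((Nat.card ↥P : ℂ)⁻¹ * ∑ᶠ y : ↥P, (χ : G → ℂ) (y : G) * θ y⁻¹)).re} ∧ 2 ≤ Nat.card {χ : Cfsg.IrrCharacter G // χ ∈ Cfsg.principalBlock M G ∧ (((Nat.card ↥P : ℂ)⁻¹ * ∑ᶠ y : ↥P, (χ : G → ℂ) (y : G) * θ y⁻¹)).re < 0}) ∨ ∃ K : Subgroup G, K.Normal ∧ K ≠ ⊤ ∧ Cfsg.pPrimeCore 2 G ≤ K ∧ t ∈ K) := by
  classical
  haveI := hM.2.1
  haveI : Fact (Nat.Prime 2) := ⟨Nat.prime_two⟩
  haveI := Fintype.ofFinite (Cfsg.principalBlock M G)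
  have ht2 := Lib.Invol.mul_self_of_two ht
  have hU : ∀ y : P, θ y ≠ 0 → ∀ x, IsConj t x → x * y * x⁻¹ ≠ (y : G)⁻¹ := fun y hy x hx => by
    obtain ⟨g, rfl⟩ := isConj_iff.1 hx
    exact hinv y (by_contra fun h => hy (hθU y h)) g
  have hsq : ∀ x, IsConj t x → x * x = 1 := fun x hx =>
    Lib.Invol.mul_self_of_two ((Lib.Invol.orderOf_of_isConj hx).symm.trans ht)
  have h1 : ∑ χ : Cfsg.principalBlock M G, col P θ χ.1.1 * (χ.1.1 t * χ.1.1 t / χ.1.1 1) = 0 :=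
    sum_col_pair_eq_zero hM hP fun u hu x y hx hy h =>
      hU u hu x hx (h.inverted (hsq x hx) (hsq y hy)).1
  have h2 : ∑ χ : Cfsg.principalBlock M G, col P θ χ.1.1 * χ.1.1 1 = 0 :=
    sum_col_mul_regular hM hP (by_contra fun h => hU 1 h t (IsConj.refl t) (by simp)) (by simp)
  have h3 : ∑ χ : Cfsg.principalBlock M G, col P θ χ.1.1 * χ.1.1 t = 0 :=
    sum_col_mul_apply_eq_zero hM hP (Lib.Block2.isPPart_self Nat.prime_two ⟨1, ht⟩)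
      fun y hy hc => hU y hy y hc (by
        rw [mul_inv_cancel_right, inv_eq_of_mul_eq_one_right (hsq y hc)])
  refine ⟨?_, ?_, ?_, fun h0 => ?_⟩
  · rw [finsum_mem_eq_sum_coe, ← h1]
    exact Finset.sum_congr rfl fun χ _ => by rw [mul_div_assoc, sq]; rfl
  · rw [finsum_mem_eq_sum_coe, ← h2]; rfl
  · rw [finsum_mem_eq_sum_coe, ← h3]; rfl
  obtain ⟨a, ha⟩ := exists_int_col (G := G) hθ
  simp only [← ha] at h1 h2 h3
  have ho : a (oneB M G).1 ≠ 0 := by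
    haveI := Fintype.ofFinite P
    rw [← Int.cast_ne_zero (α := ℂ), ha, col_eq_sum]
    simpa [finsum_eq_sum_of_fintype] using h0
  rcases two_pos_two_neg_char (χ := fun χ : Cfsg.principalBlock M G => χ.1.1) (fun χ => χ.1.2)
    (a := fun χ => a χ.1) ho ht2 rfl h2 h3 h1 with ⟨h4, h5⟩ | ⟨χ, h4, -, h5⟩
  · have e : ∀ χ : Cfsg.IrrCharacter G, ((Nat.card P : ℂ)⁻¹ *
        ∑ᶠ y : P, (χ : G → ℂ) (y : G) * θ y⁻¹) = a χ := fun χ => (ha χ).symm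
    simp only [e, Complex.intCast_re, Int.cast_pos, Int.cast_lt_zero]
    exact Or.inl ⟨h4.trans (Lib.Invol.card_le_of_inj Subtype.val (fun χ h => ⟨χ.2, h⟩)
      fun _ _ _ _ e => Subtype.ext e), h5.trans (Lib.Invol.card_le_of_inj Subtype.val
      (fun χ h => ⟨χ.2, h⟩) fun _ _ _ _ e => Subtype.ext e)⟩
  · exact Or.inr ⟨charKer χ.1.1, χ.1.2.charKer_normal,
      fun h => h4 (eq_oneB_iff.2 (χ.1.2.charKer_eq_top_iff.1 h)),
      pPrimeCore_le_charKer hM χ.2, χ.1.2.mem_charKer.2 h5⟩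

end Cfsg.Agent.S4722
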