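import Cfsg.Statements.S4726
import Cfsg.Agent.Lib.Block2.Nil

set_option autoImplicit false
open Cfsg

namespace Cfsg.Agent.S4726

/-- Let p be a prime, M a maximal ideal of the algebraic integers containing p, H a subgroup of the finite group G and b a p-block of H with defect group D₀ such that C_G(D₀) ≤ H. Then b induces a block of G, and for every block B of G induced by b there is a defect group D of B with Z(D) ≤ Z(D₀) ≤ D₀ ≤ D (as subgroups of G). In particular, if the defect groups of B are abelian then D₀ is a defect group of B. -/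
theorem result {G : Type*} [Group G] [Finite G] (p : ℕ) [Fact p.Prime] (M : Ideal Cfsg.AlgInt) (hM : Cfsg.IsPModular p M) (H : Subgroup G) (b : Set (Cfsg.IrrCharacter ↥H)) (hb : Cfsg.IsPBlock M b) (D₀ : Subgroup ↥H) (hD₀ : Cfsg.IsDefectGroup p M b D₀) (hC : Subgroup.centralizer ((D₀.map H.subtype : Subgroup G) : Set G) ≤ H) : Cfsg.InducedBlockDefined M H b ∧ ∀ B : Set (Cfsg.IrrCharacter G), Cfsg.IsInducedBlock M H b B → (∃ D : Subgroup G, Cfsg.IsDefectGroup p M B D ∧ (Subgroup.center ↥D).map D.subtype ≤ ((Subgroup.center ↥D₀).map D₀.subtype).map H.subtype ∧ ((Subgroup.center ↥D₀).map D₀.subtype).map H.subtype ≤ D₀.map H.subtype ∧ D₀.map H.subtype ≤ D) ∧ (∀ D : Subgroup G, Cfsg.IsDefectGroup p M B D → IsMulCommutative ↥D → Cfsg.IsDefectGroup p M B (D₀.map H.subtype)) := by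
  open Cfsg.Lib.Block Cfsg.Lib.Block2 Cfsg.Lib.Char Cfsg.Lib.Amalg in
  have := hM.2.1
  have hD := hD₀.defG hM hb
  have hC' : ⊤ ⊓ Subgroup.centralizer ((D₀.map H.subtype : Subgroup G) : Set G) ≤ H :=
    inf_le_right.trans hC
  constructor
  · obtain ⟨η, h⟩ := hD.exists_ind hM (blk_EB hb) le_top hC'
    obtain ⟨B, hB, rfl⟩ := h.blk'.exists_eq_top
    exact ⟨B, h.isInducedBlock hb hB⟩
  intro B hB
  obtain ⟨β, hm⟩ := hD.exists_maxP hM (blk_EB hb)
  have e : H ⊓ Subgroup.centralizer ((D₀.map H.subtype : Subgroup G) : Set G) =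
      ⊤ ⊓ Subgroup.centralizer ((D₀.map H.subtype : Subgroup G) : Set G) := by
    rw [top_inf_eq, inf_eq_right.2 hC]
  have h1 := (hm.bp.of_ge hC' le_top).bpo_of_ind hM (e ▸ (hm.bpo.ind hM).trans hB.ind)
  obtain ⟨D, δ, h2, h3⟩ := h1.exists_maxP_ge hM
  have h4 := h3.inf_eq_of_le hM (e ▸ hm.defG_cent hM)
    (inf_le_right.trans (Subgroup.centralizer_le_normalizer _)) (inf_le_left.trans h3.le)
  have h5 := (isDefectGroup_iff_defG_top hM hB.2.1).2 h2.defG
  constructor
  · refine ⟨D, h5, ?_, Subgroup.map_mono (Subgroup.map_subtype_le _), h3.le⟩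
    rintro _ ⟨z, hz, rfl⟩
    have h6 : (z : G) ∈ D₀.map H.subtype ⊓
        Subgroup.centralizer ((D₀.map H.subtype : Subgroup G) : Set G) := by
      rw [← h4]
      exact ⟨z.2, trivial, mem_centralizer_comm.2 fun y hy =>
        congrArg Subtype.val (Subgroup.mem_center_iff.1 hz ⟨y, h3.le hy⟩)⟩
    obtain ⟨⟨w, hw, e1⟩, h7⟩ := h6
    refine ⟨w, ⟨⟨w, hw⟩, Subgroup.mem_center_iff.2 fun y => Subtype.ext (Subtype.ext ?_), rfl⟩, e1⟩
    rw [← e1] at h7
    exact mem_centralizer_comm.1 h7 _ (Subgroup.mem_map_of_mem _ y.2)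
  · intro D' hD' hc
    obtain ⟨x, rfl⟩ := hD'.exists_cj_eq hM hB.2.1 h5
    have hc' := isMulCommutative_cj x hc
    have h6 : cj x D' ≤ D₀.map H.subtype := fun z hz => by
      have : z ∈ D₀.map H.subtype ⊓
          Subgroup.centralizer ((D₀.map H.subtype : Subgroup G) : Set G) := by
        rw [← h4]
        exact ⟨hz, trivial, mem_centralizer_comm.2 fun y hy =>
          congrArg Subtype.val (hc'.is_comm.comm ⟨y, h3.le hy⟩ ⟨z, hz⟩)⟩
      exact this.1
    rwa [← le_antisymm h6 h3.le]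

end Cfsg.Agent.S4726
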