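import Cfsg.Statements.S4727
import Cfsg.Agent.Lib.Block2.PiKer

set_option autoImplicit false
open Cfsg

namespace Cfsg.Agent.S4727

/-- Let p be a prime, π a set of primes containing p, M a maximal ideal of the algebraic integers containing p, and B a p-block of the finite group G with defect group D; let B₁ be the block of N_G(D) with defect group D that induces B (the Brauer correspondent of B). Suppose every element of O_π'(N_G(D)), the largest normal subgroup of N_G(D) whose order has no prime divisor in π, lies in the kernel of every member of B₁. If y is a p-element whose centralizer C has a normal Hall π'-subgroup (every element of C whose order has no prime divisor in π lies in O_π'(C)), then χ(y x) = χ(y) for every χ ∈ B and every x ∈ C whose order has no prime divisor in π. -/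
theorem result {G : Type*} [Group G] [Finite G] (p : ℕ) [Fact p.Prime] (M : Ideal Cfsg.AlgInt) (hM : Cfsg.IsPModular p M) (π : Set ℕ) (hpπ : p ∈ π) (B : Set (Cfsg.IrrCharacter G)) (hB : Cfsg.IsPBlock M B) (D : Subgroup G) (hBD : Cfsg.IsDefectGroup p M B D) (B₁ : Set (Cfsg.IrrCharacter ↥(Subgroup.normalizer (D : Set G)))) (hB₁ : Cfsg.IsInducedBlock M (Subgroup.normalizer (D : Set G)) B₁ B) (hB₁D : Cfsg.IsDefectGroup p M B₁ (D.subgroupOf (Subgroup.normalizer (D : Set G)))) (hker : ∀ n : ↥(Subgroup.normalizer (D : Set G)), n ∈ Cfsg.piCore {q | q ∉ π} ↥(Subgroup.normalizer (D : Set G)) → n ∈ Cfsg.blockKer B₁) (y : G) (hy : ∃ k : ℕ, orderOf y = p ^ k) (hC : ∀ x : ↥(Subgroup.centralizer ({y} : Set G)), (∀ q : ℕ, q.Prime → q ∣ orderOf x → q ∉ π) → x ∈ Cfsg.piCore {q | q ∉ π} ↥(Subgroup.centralizer ({y} : Set G))) : ∀ χ ∈ B, ∀ x : G, x ∈ Subgroup.centralizer ({y} : Set G) → (∀ q : ℕ, q.Prime → q ∣ orderOf x → q ∉ π) → (χ : G → ℂ) (y * x) = (χ : G → ℂ) y := by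
  open Cfsg.Lib Cfsg.Lib.Block Cfsg.Lib.Block2 Cfsg.Lib.Char Cfsg.Lib.Amalg in
  have := hM.2.1
  have hσ : p ∉ {q | q ∉ π} := fun h => h hpπ
  obtain ⟨ε, hm⟩ := (hBD.defG_top hM hB).exists_maxP hM (blk_top_eB hB)
  have e := (hm.blockKer_iff hM hσ hB₁ hB₁D).1 hker
  intro χ hχ x hx hx'
  have hxp : ¬ p ∣ orderOf x := fun h => hx' p Fact.out h hpπ
  have hc : Commute y x := Subgroup.mem_centralizer_iff.1 hx y rfl
  have h1 : pp p (y * x) = y := pp_mul hc hy hxp
  have h2 : pp p y = y := by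
    simpa using pp_mul (Commute.one_right y) hy not_dvd_orderOf_one
  rw [← sum_bp (M := M) (Subgroup.centralizer {y}) χ.1 (y * x),
    ← sum_bp (M := M) (Subgroup.centralizer {y}) χ.1 y]
  refine Finset.sum_congr rfl fun φ hφ => ?_
  rw [mem_blks] at hφ
  by_cases h : BPO p ⊤ (eB M B) (Subgroup.zpowers y) φ
  · have h3 := hm.eK_of_bpo hM hσ e h
    rw [centralizer_zpowers_eq] at h3
    have h4 := lft_mul_single_of_eK hM (not_dvd_card_piCoreOf hσ _) (Core.piCoreOf_le _)
      (Core.le_normalizer_piCoreOf _) hφ h3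
      (x := x) ⟨⟨x, hx⟩, hC ⟨x, hx⟩ (by rw [← Subgroup.orderOf_coe]; exact hx'), rfl⟩
    rw [bp, bp, hc.eq, ← one_mul (1 : ℂ), ← MonoidAlgebra.single_mul_single, ← mul_assoc, h4,
      one_mul]
  · rw [bp_eq_zero hM hB hχ hφ h h1, bp_eq_zero hM hB hχ hφ h h2]

end Cfsg.Agent.S4727
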