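import Cfsg.Statements.S4728
import Cfsg.Agent.Lib.Block2.PiKer

set_option autoImplicit false
open Cfsg

namespace Cfsg.Agent.S4728

/-- Let p be a prime, π a set of primes containing p, M a maximal ideal of the algebraic integers containing p, B a p-block of the finite group G with defect group D, and B₁ the block of N_G(D) with defect group D inducing B. Let D₀ be a p-subgroup, H₀ = D₀·C_G(D₀), and b a block of H₀ inducing B. Write O_π'(X) for the largest normal subgroup of X whose order has no prime divisor in π. Suppose that O_π'(C_G(D₀)) is a normal Hall π'-subgroup of C_G(D₀) (it contains every element of C_G(D₀) whose order has no prime divisor in π) and that every element of it lies in the kernel of every member of b. Then every element of O_π'(N_G(D)) lies in the kernel of every member of B₁. -/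
theorem result {G : Type*} [Group G] [Finite G] (p : ℕ) [Fact p.Prime] (M : Ideal Cfsg.AlgInt) (hM : Cfsg.IsPModular p M) (π : Set ℕ) (hpπ : p ∈ π) (B : Set (Cfsg.IrrCharacter G)) (hB : Cfsg.IsPBlock M B) (D : Subgroup G) (hBD : Cfsg.IsDefectGroup p M B D) (B₁ : Set (Cfsg.IrrCharacter ↥(Subgroup.normalizer (D : Set G)))) (hB₁ : Cfsg.IsInducedBlock M (Subgroup.normalizer (D : Set G)) B₁ B) (hB₁D : Cfsg.IsDefectGroup p M B₁ (D.subgroupOf (Subgroup.normalizer (D : Set G)))) (D₀ : Subgroup G) (hD₀ : IsPGroup p D₀) (H₀ : Subgroup G) (hH₀ : H₀ = D₀ ⊔ Subgroup.centralizer (D₀ : Set G)) (b : Set (Cfsg.IrrCharacter ↥H₀)) (hb : Cfsg.IsInducedBlock M H₀ b B) (hcompl : ∀ x : ↥(Subgroup.centralizer (D₀ : Set G)), (∀ q : ℕ, q.Prime → q ∣ orderOf x → q ∉ π) → x ∈ Cfsg.piCore {q | q ∉ π} ↥(Subgroup.centralizer (D₀ : Set G))) (hkerb : ∀ x : ↥(Subgroup.centralizer (D₀ : Set G)), x ∈ Cfsg.piCore {q | q ∉ π} ↥(Subgroup.centralizer (D₀ : Set G))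 → ∀ θ ∈ b, ∀ h : ↥H₀, (h : G) = (x : G) → (θ : ↥H₀ → ℂ) h = (θ : ↥H₀ → ℂ) 1) : ∀ n : ↥(Subgroup.normalizer (D : Set G)), n ∈ Cfsg.piCore {q | q ∉ π} ↥(Subgroup.normalizer (D : Set G)) → n ∈ Cfsg.blockKer B₁ := by
  open Cfsg.Lib Cfsg.Lib.Block Cfsg.Lib.Block2 Cfsg.Lib.Char Cfsg.Lib.Amalg in
  have := hM.2.1
  have hσ : p ∉ {q | q ∉ π} := fun h => h hpπ
  obtain ⟨ε, hm⟩ := (hBD.defG_top hM hB).exists_maxP hM (blk_top_eB hB)
  rw [hm.blockKer_iff hM hσ hB₁ hB₁D]
  subst hH₀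
  have h1 : BPO p ⊤ (eB M B) D₀ (EB M b) :=
    bpo_of_ind_sup hM hD₀ le_top (by rw [top_inf_eq]; exact hb.ind)
  refine hm.eK_of_bpo_up hM hσ h1 (fun x hx hx' => ⟨⟨x, hx⟩, hcompl ⟨x, hx⟩ ?_, rfl⟩) ?_
  · rw [← Subgroup.orderOf_coe]; exact hx'
  · have hn : D₀ ⊔ Subgroup.centralizer (D₀ : Set G) ≤ Subgroup.normalizer (D₀ : Set G) :=
      sup_le Subgroup.le_normalizer (Subgroup.centralizer_le_normalizer _)
    rw [eK_mul_EB_iff hM (not_dvd_card_piCoreOf hσ _) ((Core.piCoreOf_le _).trans le_sup_right)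
      (hn.trans (norm_le_norm_cent.trans (Core.normalizer_le_normalizer_piCoreOf _)))
      hb.1.isBlockUnion]
    rintro χ hχ h ⟨x, hx, e⟩
    exact χ.2.mem_charKer.2 (hkerb x hx χ hχ h e.symm)

end Cfsg.Agent.S4728
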