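import Cfsg.Statements.S4729
import Cfsg.Agent.Lib.Clifford.PBlk

set_option autoImplicit false
open Cfsg

namespace Cfsg.Agent.S4729

open Cfsg.Lib Cfsg.Lib.Clifford Cfsg.Lib.Char Cfsg.Lib.Block Cfsg.Lib.Block2 Finset Subgroup ComplexConjugate
open scoped commutatorElement

/-- Let p be a prime, M a maximal ideal of the algebraic integers containing p, G a finite perfect group and P a Sylow p-subgroup. If the principal p-block of G contains a faithful irreducible character of degree less than 2p, then the centralizer of P is a p-group. -/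
theorem result {G : Type*} [Group G] [Finite G] (p : ℕ) [Fact p.Prime] (M : Ideal Cfsg.AlgInt) (hM : Cfsg.IsPModular p M) (hperf : commutator G = ⊤) (P : Sylow p G) (χ : Cfsg.IrrCharacter G) (hχ : χ ∈ Cfsg.principalBlock M G) (hfaith : ∀ g : G, (χ : G → ℂ) g = (χ : G → ℂ) 1 → g = 1) (hdeg : Cfsg.charDegree (χ : G → ℂ) < 2 * p) : IsPGroup p ↥(Subgroup.centralizer ((P : Subgroup G) : Set G)) := by
  classical
  have := hM.2.1
  intro g
  obtain ⟨k, hk⟩ := Transfer.exists_pow_coprime_orderOf (p := p) (g : G)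
  refine ⟨k, Subtype.ext ?_⟩
  obtain ⟨y, hy⟩ : ∃ y, y = (g : G) ^ p ^ k := ⟨_, rfl⟩
  have hyC : y ∈ centralizer ((P : Subgroup G) : Set G) := hy ▸ Subgroup.pow_mem _ g.2 _
  rw [Subgroup.coe_pow, ← hy, Subgroup.coe_one]
  rw [← hy] at hk
  by_contra hy1
  have hi := irrOn_top.2 χ.2
  have hA := hi.charOn.mono (le_top (a := zpowers y))
  have hyA := mem_zpowers y
  have hlin : ∀ θ ∈ Irr (zpowers y), LinOn (zpowers y) θ := fun θ hθ =>
    (irrOn_of_mem hθ).linOn_of_comm (by rintro _ ⟨i, rfl⟩ _ ⟨j, rfl⟩; exact zpow_mul_comm y i j)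
  have h1 : ∀ x ∈ zpowers y, MemLocalIdeal M (χ.1 x - χ.1 1) := by
    intro x hx
    have h2 : ¬ p ∣ (centralizer ({x} : Set G)).index := fun h =>
      P.not_dvd_index (h.trans (index_dvd_of_le fun u hu => mem_centralizer_singleton_iff.2
        (zpowers_le.2 hyC hx u hu)))
    have h3 := (hχ x).neg
    have h4 : -(centralChar (fun _ : G => (1 : ℂ)) x - centralChar χ.1 x) * χ.1 1 =
        (centralizer ({x} : Set G)).index * (χ.1 x - χ.1 1) := by
      simp only [centralChar]
      field_simp [hi.one_ne_zero]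
      ring
    have h5 := h3.mul_right (hi.one_eq ▸ memLocalRing_natCast (charDegree χ.1))
    rw [h4] at h5
    exact (h5.mem_or_mem (memLocalRing_natCast _)).resolve_left
      (mt (memLocalIdeal_natCast_iff hM _).1 h2)
  have h2 : ∀ θ ∈ Irr (zpowers y), θ ≠ cut (zpowers y) 1 → p ∣ mult (zpowers y) χ.1 θ := by
    intro θ hθ hne
    have h3 : ((Nat.card (zpowers y) * mult (zpowers y) χ.1 θ : ℕ) : ℂ) =
        ∑ x ∈ elems (zpowers y), (χ.1 x - χ.1 1) * conj (θ x) := by
      have h4 := dot_irr_of_ne (cut_one_mem _) hθ hne.symm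
      rw [dot_cut_left, dot, mul_eq_zero, inv_eq_zero] at h4
      have h5 := h4.resolve_left (Clifford.card_ne_zero _)
      simp only [Pi.one_apply, one_mul] at h5
      push_cast
      rw [← hA.dot_eq_mult (hlin θ hθ).charOn, dot, mul_inv_cancel_left₀ (Clifford.card_ne_zero _)]
      simp only [sub_mul, sum_sub_distrib, ← mul_sum, h5, mul_zero, sub_zero]
    have h4 : MemLocalIdeal M ((Nat.card (zpowers y) * mult (zpowers y) χ.1 θ : ℕ) : ℂ) :=
      h3 ▸ memLocalIdeal_sum fun x hx => (h1 x (mem_elems.1 hx)).mul_right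
        (memLocalRing_of_isIntegral ((hlin θ hθ).charOn.genOn.star.isIntegral (mem_elems.1 hx)))
    rw [memLocalIdeal_natCast_iff hM, Nat.card_zpowers] at h4
    exact hk.symm.dvd_of_dvd_mul_left h4
  have hone : cut (zpowers y) (1 : G → ℂ) y = 1 := cut_of_mem _ hyA
  obtain ⟨θ, hθ, h3, h4⟩ : ∃ θ ∈ Irr (zpowers y), dot (zpowers y) χ.1 θ ≠ 0 ∧ θ y ≠ θ 1 := by
    by_contra hc
    push Not at hc
    exact hy1 (hfaith y (hA.classOn.eq_of_forall hyA hc))
  have hne : θ ≠ cut (zpowers y) 1 := by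
    rintro rfl
    exact h4 (hone.trans (cut_of_mem (1 : G → ℂ) (Subgroup.one_mem _)).symm)
  have h5 := (hA.mult_ne_zero (hlin θ hθ).charOn).2 h3
  have h6 : ∑ η ∈ Irr (zpowers y), mult (zpowers y) χ.1 η < 2 * p := by
    have h6 := hA.deg_eq_sum
    rw [sum_congr rfl fun η hη => by rw [(hlin η hη).deg, mul_one]] at h6
    exact h6 ▸ hdeg
  have h7 := Nat.le_of_dvd (Nat.pos_of_ne_zero h5) (h2 θ hθ hne)
  have h8 : ∀ η ∈ Irr (zpowers y), η ≠ θ → η ≠ cut (zpowers y) 1 → mult (zpowers y) χ.1 η = 0 := by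
    intro η hη h9 h10
    have := (add_le_sum (f := mult (zpowers y) χ.1) (fun _ _ => Nat.zero_le _) hη hθ h9).trans_lt h6
    exact Nat.eq_zero_of_dvd_of_lt (h2 η hη h10) (by omega)
  have h9 : mult (zpowers y) χ.1 θ = p := by
    have := (single_le_sum (f := mult (zpowers y) χ.1) (fun _ _ => Nat.zero_le _) hθ).trans_lt h6
    obtain ⟨c, hc⟩ := h2 θ hθ hne
    have : c = 1 := by
      have : c < 2 := by by_contra; nlinarith
      have : c ≠ 0 := by rintro rfl; omega
      omega
    rw [hc, this, mul_one]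
  have h10 : detOn ⊤ χ.1 y = θ y ^ p := by
    rw [← hi.charOn.detOn_mono le_top hyA, detOn_congr (ψ := ∑ η ∈ Irr (zpowers y),
      (mult (zpowers y) χ.1 η : ℂ) • η) fun x hx => by
        rw [hA.classOn.eq_sum hx, Finset.sum_apply]
        exact sum_congr rfl fun η hη => by rw [hA.dot_eq_mult (hlin η hη).charOn]; rfl,
      detOn_sum _ (fun η hη => (hlin η hη).charOn.smul _) hyA,
      prod_eq_single_of_mem θ hθ fun η hη h => ?_, (hlin θ hθ).charOn.detOn_smul _ hyA,
      (hlin θ hθ).detOn_eq hyA, h9]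
    rw [(hlin η hη).charOn.detOn_smul _ hyA, (hlin η hη).detOn_eq hyA]
    by_cases h' : η = cut (zpowers y) 1
    · rw [h', hone, one_pow]
    · rw [h8 η hη h h', pow_zero]
  have h11 := ((linOn_detOn ⊤ χ.1).mem_kerOn.1 ((linOn_detOn ⊤ χ.1).commutator_le
    (show y ∈ _root_.commutator G from hperf ▸ Subgroup.mem_top y))).2
  apply h4
  rw [(hlin θ hθ).2]
  exact eq_one_of_pow_of_coprime hk (by rw [← (hlin θ hθ).map_pow hyA, pow_orderOf_eq_one, (hlin θ hθ).2])
    (h10 ▸ h11)

end Cfsg.Agent.S4729
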