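import Cfsg.Statements.S4730
import Cfsg.Agent.Lib.Small.BT

set_option autoImplicit false
open Cfsg

namespace Cfsg.Agent.S4730

open Cfsg.Lib.Small Cfsg.Lib.Char Cfsg.Lib.Block Cfsg.Lib.Block2 Cfsg.Lib.Amalg Subgroup

/-- Let p be a prime, M a maximal ideal of the algebraic integers containing p, and G a finite group with trivial centre, Sylow p-subgroup P of order p^a and centre Z(P) of order p^b. If χ is a faithful irreducible character of G whose degree is a power of p, then the p-block of χ has defect at most a − b; in particular, if P is abelian then χ lies in a block of defect zero. -/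
theorem result {G : Type*} [Group G] [Finite G] (p : ℕ) [Fact p.Prime] (M : Ideal Cfsg.AlgInt) (hM : Cfsg.IsPModular p M) (hZ : Subgroup.center G = ⊥) (P : Sylow p G) (a b : ℕ) (ha : Nat.card P = p ^ a) (hb : Nat.card (Subgroup.center ↥(P : Subgroup G)) = p ^ b) (χ : Cfsg.IrrCharacter G) (hfaith : ∀ g : G, (χ : G → ℂ) g = (χ : G → ℂ) 1 → g = 1) (n : ℕ) (hdeg : Cfsg.charDegree (χ : G → ℂ) = p ^ n) : Cfsg.blockDefect p (Cfsg.blockOf M (χ : G → ℂ)) ≤ a - b ∧ (IsMulCommutative ↥(P : Subgroup G) → Cfsg.blockDefect p (Cfsg.blockOf M (χ : G → ℂ)) = 0) := by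
  haveI := hM.2.1
  have hk : charKer χ.1 = ⊥ := eq_bot_iff.2 fun g hg => hfaith g (χ.2.mem_charKer.1 hg)
  have hB := isPBlock_blockOf (M := M) χ
  have h1 : blockDefect p (blockOf M χ.1) ≤ a - b := by
    obtain ⟨ψ, hψ, h2⟩ := Cfsg.Lib.Block2.exists_minVal p hB.nonempty
    have h3 := blockDefect_add_minVal p hB.nonempty
    have h4 := card_dvd_deg_of_sameBlock hM hψ (Z := (center P).map (P : Subgroup G).subtype) (b := b)
      (by rw [card_map_of_injective (subtype_injective _), hb]) (by
        rintro _ ⟨z, hz, rfl⟩ h1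
        have hi := not_dvd_index_centralizer (syl_top P) (z := z)
          fun s hs => congrArg Subtype.val (mem_center_iff.1 hz ⟨s, hs⟩)
        exact ⟨apply_eq_zero_of_degree_pow hM.1 hk hdeg (by rwa [hZ, mem_bot]) hi, hi⟩)
    have h5 := (syl_top P).card_eq_pow
    rw [card_top, ha] at h5
    have := Nat.pow_right_injective hM.1.two_le h5
    omega
  refine ⟨h1, fun h => ?_⟩
  rw [center_eq_top_iff.2 h, card_top, ha] at hb
  have := Nat.pow_right_injective hM.1.two_le hb
  omega

end Cfsg.Agent.S4730
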