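import Cfsg.Statements.S4734
import Cfsg.Agent.Lib.Block2.PiKer

set_option autoImplicit false
open Cfsg

namespace Cfsg.Agent.S4734

/-- Let p be a prime, π a set of primes containing p, M a maximal ideal of the algebraic integers containing p, B a p-block of the finite group G with defect group D, and B₁ the block of N_G(D) with defect group D inducing B. Write O_π'(X) for the largest normal subgroup of X whose order has no prime divisor in π, and suppose every element of O_π'(N_G(D)) lies in the kernel of every member of B₁. Let G₀ be a subgroup and B₀ a block of G₀ with defect group D₀ such that C_G(D₀) ≤ G₀ and B₀ induces B. Then every element of O_π'(G₀) lies in the kernel of every member of B₀. -/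
theorem result {G : Type*} [Group G] [Finite G] (p : ℕ) [Fact p.Prime] (M : Ideal Cfsg.AlgInt) (hM : Cfsg.IsPModular p M) (π : Set ℕ) (hpπ : p ∈ π) (B : Set (Cfsg.IrrCharacter G)) (hB : Cfsg.IsPBlock M B) (D : Subgroup G) (hBD : Cfsg.IsDefectGroup p M B D) (B₁ : Set (Cfsg.IrrCharacter ↥(Subgroup.normalizer (D : Set G)))) (hB₁ : Cfsg.IsInducedBlock M (Subgroup.normalizer (D : Set G)) B₁ B) (hB₁D : Cfsg.IsDefectGroup p M B₁ (D.subgroupOf (Subgroup.normalizer (D : Set G)))) (hker : ∀ n : ↥(Subgroup.normalizer (D : Set G)), n ∈ Cfsg.piCore {q | q ∉ π} ↥(Subgroup.normalizer (D : Set G)) → n ∈ Cfsg.blockKer B₁) (G₀ : Subgroup G) (B₀ : Set (Cfsg.IrrCharacter ↥G₀)) (hB₀ : Cfsg.IsInducedBlock M G₀ B₀ B) (D₀ : Subgroup ↥G₀) (hD₀ : Cfsg.IsDefectGroup p M B₀ D₀) (hC : Subgroup.centralizer ((D₀.map G₀.subtype : Subgroup G) : Set G) ≤ G₀) : ∀ x : ↥G₀, x ∈ Cfsg.piCore {q | q ∉ π} ↥G₀ → x ∈ Cfsg.blockKer B₀ := by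
  open Cfsg.Lib Cfsg.Lib.Block Cfsg.Lib.Block2 Cfsg.Lib.Char Cfsg.Lib.Amalg in
  have := hM.2.1
  have hσ : p ∉ {q | q ∉ π} := fun h => h hpπ
  obtain ⟨ε, hm⟩ := (hBD.defG_top hM hB).exists_maxP hM (blk_top_eB hB)
  have e := (hm.blockKer_iff hM hσ hB₁ hB₁D).1 hker
  obtain ⟨φ, hφ⟩ := (hD₀.defG hM hB₀.1).exists_maxP hM (blk_EB hB₀.1)
  have h1 : BPO p ⊤ (eB M B) (D₀.map G₀.subtype) φ := by
    refine (hφ.bp.of_ge (inf_le_right.trans hC) le_top).bpo_of_ind hM ?_
    have := (hφ.bpo.ind hM).trans hB₀.ind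
    rwa [inf_eq_right.2 hC, ← top_inf_eq (Subgroup.centralizer _)] at this
  rw [← eK_piCoreOf_mul_EB_iff hM hσ hB₀.1.isBlockUnion,
    hφ.bpo.eK_mul_iff hM (not_dvd_card_piCoreOf hσ _) (Core.piCoreOf_le _)
      (Core.le_normalizer_piCoreOf _)]
  exact eK_mul_of_le hM (not_dvd_card_piCoreOf hσ _) (Core.piCoreOf_inf_le hC)
    (hm.eK_of_bpo hM hσ e h1)

end Cfsg.Agent.S4734
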