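import Cfsg.Statements.S4735
import Cfsg.Agent.Lib.Block2.Ker

set_option autoImplicit false
open Cfsg

namespace Cfsg.Agent.S4735

/-- Let p be a prime, M a maximal ideal of the algebraic integers containing p, G a finite group, H = O_p'(G) and Ḡ = G/H. For x ∈ G write λ(G, x) for the sum of |χ(x)|^2 over the irreducible characters χ in the principal p-block of G. Then λ(G, x) is a positive integer, λ(G, x) = λ(Ḡ, x̄) where x̄ is the image of x, and λ(G, x) ≤ #C_Ḡ(x̄). Moreover λ(G, 1) = [G : H] if and only if the principal block is the only p-block of Ḡ. -/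
theorem result {G : Type*} [Group G] [Finite G] (p : ℕ) [Fact p.Prime] (M : Ideal Cfsg.AlgInt) (hM : Cfsg.IsPModular p M) (x : G) : (∃ n : ℕ, 0 < n ∧ ∑ᶠ χ ∈ Cfsg.principalBlock M G, Complex.normSq ((χ : G → ℂ) x) = n) ∧ ∑ᶠ χ ∈ Cfsg.principalBlock M G, Complex.normSq ((χ : G → ℂ) x) = ∑ᶠ ψ ∈ Cfsg.principalBlock M (G ⧸ Cfsg.pPrimeCore p G), Complex.normSq ((ψ : G ⧸ Cfsg.pPrimeCore p G → ℂ) (QuotientGroup.mk x)) ∧ ∑ᶠ χ ∈ Cfsg.principalBlock M G, Complex.normSq ((χ : G → ℂ) x) ≤ (Nat.card ↥(Subgroup.centralizer ({(QuotientGroup.mk x : G ⧸ Cfsg.pPrimeCore p G)} : Set (G ⧸ Cfsg.pPrimeCore p G))) : ℝ) ∧ ((∑ᶠ χ ∈ Cfsg.principalBlock M G, Cfsg.charDegree (χ : G → ℂ) ^ 2) = (Cfsg.pPrimeCore p G).index ↔ ∀ B : Set (Cfsg.IrrCharacter (G ⧸ Cfsg.pPrimeCore p G)), Cfsg.IsPBlock M B → B = Cfsg.principalBlock M (G ⧸ Cfsg.pPrimeCore p G)) := by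
  open Cfsg.Lib Cfsg.Lib.Block Cfsg.Lib.Block2 Cfsg.Lib.Char Cfsg.Lib.Amalg in
  have := hM.2.1
  classical
  haveI := Fintype.ofFinite G
  have hf := QuotientGroup.mk'_surjective (pPrimeCore p G)
  have hk : ¬ p ∣ Nat.card (QuotientGroup.mk' (pPrimeCore p G)).ker := by
    rw [QuotientGroup.ker_mk']
    exact (Nat.Prime.coprime_iff_not_dvd hM.1).1 (Core.coprime_card_pPrimeCore p G).symm
  have hker : ∀ χ ∈ principalBlock M G,
      (QuotientGroup.mk' (pPrimeCore p G)).ker ≤ charKer (χ : G → ℂ) := fun χ hχ => by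
    rw [QuotientGroup.ker_mk']; exact pPrimeCore_le_charKer hM hχ
  have hpre := preimage_infl_principalBlock (M := M) hf (isPBlock_preimage_infl_of_not_dvd hf hM hk
    isPBlock_principalBlock ⟨_, principalBlock_subset_preimage_infl hf principalIrr_mem⟩)
  have e2 : ∑ᶠ χ ∈ principalBlock M G, Complex.normSq ((χ : G → ℂ) x) =
      ∑ᶠ ψ ∈ principalBlock M (G ⧸ pPrimeCore p G),
        Complex.normSq ((ψ : G ⧸ pPrimeCore p G → ℂ) (QuotientGroup.mk x)) := by
    rw [finsum_preimage_infl hf hker, hpre]; rfl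
  refine ⟨?_, e2, ?_, ?_⟩
  · have h1 : ((∑ᶠ χ ∈ principalBlock M G, Complex.normSq ((χ : G → ℂ) x) : ℝ) : ℂ) =
        ∑ᶠ χ ∈ principalBlock M G, (χ : G → ℂ) x * (starRingEnd ℂ) ((χ : G → ℂ) x) := by
      rw [← finsum_norm_sq_eq]
      simp only [Complex.normSq_eq_norm_sq]
    obtain ⟨n, hn⟩ := exists_int_of_forall_ringEquiv (α := ∑ᶠ χ ∈ principalBlock M G,
        (χ : G → ℂ) x * (starRingEnd ℂ) ((χ : G → ℂ) x)) (by
        rw [Block.finsum_mem_irr]
        exact IsIntegral.sum _ fun χ _ => (χ.2.isCharacter.isIntegral x).mul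
          (χ.2.isCharacter.conj.isIntegral x))
      fun σ => map_finsum_of_stable σ (galIrr_mem_principalBlock hM σ) _ fun χ _ => by
        rw [map_mul, map_conj_irr]; rfl
    have h2 := finsum_mul_conj_ne_zero (principalIrr_mem (M := M) (G := G)) (g := x) one_ne_zero
    have h3 : (0 : ℝ) ≤ ∑ᶠ χ ∈ principalBlock M G, Complex.normSq ((χ : G → ℂ) x) :=
      finsum_nonneg fun χ => finsum_nonneg fun _ => Complex.normSq_nonneg _
    have h4 : ∑ᶠ χ ∈ principalBlock M G, Complex.normSq ((χ : G → ℂ) x) = n := by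
      rw [← h1] at hn; exact_mod_cast hn
    rw [hn] at h2
    rw [h4] at h3 ⊢
    have h5 : 0 ≤ n := by exact_mod_cast h3
    have h6 : n ≠ 0 := by exact_mod_cast h2
    lift n to ℕ using h5
    exact ⟨n, by omega, by simp⟩
  · rw [e2, ← sum_norm_sq_eq_card_centralizer, Block.finsum_mem_irr]
    simp only [Complex.normSq_eq_norm_sq]
    exact Finset.sum_le_sum_of_subset_of_nonneg (Finset.filter_subset _ _)
      fun _ _ _ => by positivity
  · have h1 : ∑ ψ : IrrCharacter (G ⧸ pPrimeCore p G),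
        charDegree (ψ : G ⧸ pPrimeCore p G → ℂ) ^ 2 = (pPrimeCore p G).index := by
      have := sum_degree_sq (G := G ⧸ pPrimeCore p G)
      simp only [← irr_cast_deg] at this
      exact_mod_cast this
    rw [finsum_preimage_infl hf hker, hpre, ← h1, Block.finsum_mem_irr]
    simp only [charDegree_infl]
    constructor
    · intro h B hB
      obtain ⟨ψ, hψ⟩ := hB.nonempty
      refine hB.eq_of_mem isPBlock_principalBlock hψ ?_
      by_contra h2
      exact (Finset.sum_lt_sum_of_subset (Finset.filter_subset _ _) (Finset.mem_univ ψ)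
        (by simpa using h2) (pow_pos (Nat.pos_of_ne_zero (deg_ne_zero ψ.2)) 2)
        fun _ _ _ => Nat.zero_le _).ne h
    · intro h
      rw [Finset.filter_true_of_mem fun ψ _ => h _ (isPBlock_blockOf ψ) ▸ mem_blockOf_self ψ]

end Cfsg.Agent.S4735
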