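import Cfsg.Statements.S4736
import Cfsg.Agent.Lib.Block2.Num
import Cfsg.Agent.Lib.Clifford.Thompson
import Cfsg.Agent.Lib.Core.UpperP

set_option autoImplicit false
open Cfsg

namespace Cfsg.Agent.S4736

/-- Let p be a prime, M a maximal ideal of the algebraic integers containing p, and G a finite p-solvable group with Sylow p-subgroup P. Then P is abelian if and only if every irreducible character in the principal p-block of G has height zero. -/
theorem result {G : Type*} [Group G] [Finite G] (p : ℕ) [Fact p.Prime] (M : Ideal Cfsg.AlgInt) (hM : Cfsg.IsPModular p M) (hsolv : Cfsg.IsPSolvable p G) (P : Sylow p G) : IsMulCommutative P ↔ ∀ χ ∈ Cfsg.principalBlock M G, Cfsg.blockHeight p (Cfsg.principalBlock M G) (χ : G → ℂ) = 0 := by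
  open Cfsg.Lib Cfsg.Lib.Block Cfsg.Lib.Block2 Cfsg.Lib.Char Cfsg.Lib.Amalg in
  have := hM.2.1
  have hf := QuotientGroup.mk'_surjective (pPrimeCore p G)
  have hk := Core.coprime_card_pPrimeCore p G
  have hs := Core.isPSolvable_quotient hM.1 hsolv (pPrimeCore p G)
  have hC := Core.centralizer_pCore_le_of_isPSolvable hM.1 hs Core.pPrimeCore_quotient_pPrimeCore
  have hS := (syl_top P).map_top hf
  have h1 := Clifford.ito_pSolvable hs hS.toSylowTop
  rw [hS.coe_toSylowTop] at h1
  have h2 : (∀ χ ∈ principalBlock M G, blockHeight p (principalBlock M G) (χ : G → ℂ) = 0) ↔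
      ∀ χ, IsIrrCharacter (G ⧸ pPrimeCore p G) χ → ¬ p ∣ charDegree χ := by
    constructor
    · intro h χ hχ h3
      have h4 := h _ (principalBlock_subset_preimage_infl hf (mem_blockOf.2
        (sameBlock_of_cent_le hM (Core.isPGroup_pCore p _) hC (principalIrr _) ⟨χ, hχ⟩)))
      rw [Block.blockHeight_eq_zero_iff, minVal_principalBlock, charDegree_infl] at h4
      exact (hM.1.factorization_pos_of_dvd (deg_ne_zero hχ) h3).not_ge h4
    · intro h χ hχ
      obtain ⟨ψ, rfl⟩ := exists_infl hf (χ := χ)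
        (by rw [QuotientGroup.ker_mk']; exact pPrimeCore_le_charKer hM hχ)
      exact blockHeight_eq_zero_of_not_dvd (h ψ ψ.2)
  rw [h2, ← h1]
  constructor
  · intro h
    have h3 : ∀ a ∈ (P : Subgroup G).map (QuotientGroup.mk' (pPrimeCore p G)),
        ∀ b ∈ (P : Subgroup G).map (QuotientGroup.mk' (pPrimeCore p G)), a * b = b * a := by
      rintro _ ⟨a, ha, rfl⟩ _ ⟨b, hb, rfl⟩
      rw [← map_mul, ← map_mul, Coprime.mul_comm_of_mem ha hb]
    refine ⟨?_, h3⟩
    have h4 := hS.le_of_normal (Core.isPGroup_pCore p _) le_top Subgroup.le_normalizer_of_normal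
    rw [le_antisymm (le_trans (fun a ha b hb => h3 b (h4 hb) a ha) hC) h4]
    infer_instance
  · rintro ⟨-, h⟩
    refine ⟨⟨fun a b => ?_⟩⟩
    have h3 := h _ ⟨a, a.2, rfl⟩ _ ⟨b, b.2, rfl⟩
    rw [← map_mul, ← map_mul, QuotientGroup.mk'_apply, QuotientGroup.mk'_apply, QuotientGroup.eq]
      at h3
    have h4 : ((a : G) * b)⁻¹ * (b * a) ∈ pPrimeCore p G ⊓ (P : Subgroup G) :=
      ⟨h3, (P : Subgroup G).mul_mem ((P : Subgroup G).inv_mem ((P : Subgroup G).mul_mem a.2 b.2))
        ((P : Subgroup G).mul_mem b.2 a.2)⟩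
    rw [Coprime.inf_eq_bot_of_coprime_card (Coprime.coprime_card_of_isPGroup P.isPGroup' hk).symm,
      Subgroup.mem_bot, inv_mul_eq_one] at h4
    exact Subtype.ext h4

end Cfsg.Agent.S4736
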