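import Cfsg.Statements.S4741
import Cfsg.Agent.Lib.Block2.Num

set_option autoImplicit false
open Cfsg

namespace Cfsg.Agent.S4741

/-- Let p be a prime, M a maximal ideal of the algebraic integers containing p, and D a subgroup of the finite group G. Let x₁, …, x_r be pairwise non-conjugate elements of G such that D is a Sylow p-subgroup of the centralizer of each xᵢ, and such that for any conjugates g of some xᵢ and h of some xⱼ the element g h⁻¹ is never a non-identity p-element. Then there are r distinct p-blocks B₁, …, B_r of G, each having D as a defect group, such that for every choice of characters χᵢ ∈ Bᵢ of height zero the determinant of the r × r matrix (χᵢ(xⱼ)) does not lie in the local ideal at M. -/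
theorem result {G : Type*} [Group G] [Finite G] (p : ℕ) [Fact p.Prime] (M : Ideal Cfsg.AlgInt) (hM : Cfsg.IsPModular p M) (D : Subgroup G) {r : ℕ} (x : Fin r → G) (hx : ∀ i j : Fin r, IsConj (x i) (x j) → i = j) (hD : ∀ i : Fin r, ∃ S : Sylow p ↥(Subgroup.centralizer ({x i} : Set G)), (S : Subgroup ↥(Subgroup.centralizer ({x i} : Set G))).map (Subgroup.centralizer ({x i} : Set G)).subtype = D) (hsep : ∀ i j : Fin r, ∀ g h : G, IsConj (x i) g → IsConj (x j) h → ∀ k : ℕ, 0 < k → orderOf (g * h⁻¹) ≠ p ^ k) : ∃ B : Fin r → Set (Cfsg.IrrCharacter G), Function.Injective B ∧ (∀ i : Fin r, Cfsg.IsPBlock M (B i) ∧ Cfsg.IsDefectGroup p M (B i) D) ∧ ∀ χ : Fin r → Cfsg.IrrCharacter G, (∀ i : Fin r, χ i ∈ B i ∧ Cfsg.blockHeight p (B i) (χ i : G → ℂ) = 0) → ¬ Cfsg.MemLocalIdeal M (Matrix.det (Matrix.of fun i j : Fin r => (χ i : G → ℂ) (x j))) := by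
  open Cfsg.Lib Cfsg.Lib.Block Cfsg.Lib.Block2 Cfsg.Lib.Char Cfsg.Lib.Amalg in
  have := hM.2.1
  classical
  have hD' : ∀ i, Syl p D (Subgroup.centralizer {x i}) := fun i => syl_iff_exists_sylow.2 (hD i)
  let Gp := setSum (resField M) {x : G | ∃ k, orderOf x = p ^ k}
  have hGp : IsCen Gp := isCen_setSum fun x g => pElement_conj_iff x g
  obtain ⟨a, ha, hdet⟩ := exists_rows_det_ne_zero
    (ι := {B : {B // IsPBlock M B} // IsDefectGroup p M B.1 D})
    (fun i B => (Gp * eB M B.1.1).coeff (x i))
    (fun B j => lamB M B.1.1 (classSum (resField M) (x j))) fun i j => by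
      rw [sum_subtype_of_ne_zero (fun B : {B // IsPBlock M B} => IsDefectGroup p M B.1 D)
        (fun B => (Gp * eB M B.1).coeff (x i) * lamB M B.1 (classSum (resField M) (x j)))
        fun B h => isDefectGroup_of_lam_of_brauer hM B.2 (right_ne_zero_of_mul h) (hD' j)
          (brauer_eB_ne_zero_of_mul hM (hD' i).isPGroup hGp
            (le_centralizer_singleton_iff.1 (hD' i).le) (left_ne_zero_of_mul h))]
      have h3 := congrArg (fun a => a.coeff (x i))
        (setSum_pElements_mul_eq_sum hM (isCen_classSum (S := resField M) (x j)))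
      simp only [coeff_sum', coeff_smul'] at h3
      simp only [mul_comm _ (lamB M _ _)]
      rw [← h3, coeff_setSum_pElements_mul, coeff_classSum]
      · exact if_congr ⟨fun h => (hx _ _ h).symm, fun h => h ▸ IsConj.refl _⟩ rfl rfl
      · rintro u ⟨k, hk⟩ hu1
        refine coeff_classSum_of_not_isConj fun h => hsep i j _ _ (IsConj.refl _) h k
          (Nat.pos_of_ne_zero fun h0 => hu1 (by rwa [h0, pow_zero, orderOf_eq_one_iff] at hk)) ?_
        rw [← hk, mul_inv_rev, inv_inv, mul_inv_cancel_left]
  refine ⟨fun i => (a i).1.1, fun i j h => ha (Subtype.ext (Subtype.ext h)),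
    fun i => ⟨(a i).1.2, (a i).2⟩, fun χ hχ => ?_⟩
  have hi : ∀ i j, MemLocalRing M ((χ i : G → ℂ) (x j)) := fun i j =>
    (χ i).2.isCharacter.memLocalRing _
  let A : Matrix (Fin r) (Fin r) (locRing M) := Matrix.of fun i j => ⟨_, hi i j⟩
  have h1 : (Matrix.of fun i j => (χ i : G → ℂ) (x j)).det = (A.det : ℂ) :=
    ((locRing M).subtype.map_det A).symm
  rw [h1, ← resHom_eq_zero_iff, RingHom.map_det]
  have hm : ∀ j, (Subgroup.centralizer ({x j} : Set G)).index.factorization p =
      (p ^ D.index.factorization p).factorization p := fun j => by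
    have h2 := factorization_index_add (p := p) D
    have h3 := factorization_index_add (p := p) (Subgroup.centralizer ({x j} : Set G))
    rw [(hD' j).card_eq_pow, hM.1.factorization_pow, Finsupp.single_eq_same] at h2
    rw [hM.1.factorization_pow, Finsupp.single_eq_same]
    omega
  have hd : ∀ i, (charDegree (χ i : G → ℂ)).factorization p =
      (p ^ D.index.factorization p).factorization p := fun i => by
    rw [hM.1.factorization_pow, Finsupp.single_eq_same, ← (a i).2.minVal_eq hM (a i).1.2]
    exact (Block.blockHeight_eq_zero_iff_eq (hχ i).1).1 (hχ i).2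
  have hp : p ^ D.index.factorization p ≠ 0 := pow_ne_zero _ hM.1.ne_zero
  have hc : ∀ j, (Subgroup.centralizer ({x j} : Set G)).index ≠ 0 := fun j =>
    Subgroup.index_ne_zero_of_finite
  have h2 : (resHom M).mapMatrix A = Matrix.diagonal (fun i => red M
      ((charDegree (χ i : G → ℂ) : ℂ) / (p ^ D.index.factorization p : ℕ))) *
      (Matrix.of fun i j => lamB M (a i).1.1 (classSum (resField M) (x j))) *
      Matrix.diagonal (fun j => red M (((p ^ D.index.factorization p : ℕ) : ℂ) /
        (Subgroup.centralizer ({x j} : Set G)).index)) := by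
    ext i j
    have h3 := memLocalRing_natDiv hM (deg_ne_zero (χ i).2) hp (hd i).ge
    have h4 := (χ i).2.memLocalRing_centralChar (M := M) (x j)
    rw [Matrix.mul_diagonal, Matrix.diagonal_mul, Matrix.of_apply,
      lamB_eq (a i).1.2 (hχ i).1 (isCen_classSum _), (χ i).2.lam_classSum, ← red_mul h3 h4,
      ← red_mul (h3.mul h4) (memLocalRing_natDiv hM hp (hc j) (hm j).le)]
    refine (red_eq_resHom (hi i j)).symm.trans (congrArg _ ?_)
    have : ((p ^ D.index.factorization p : ℕ) : ℂ) ≠ 0 := Nat.cast_ne_zero.2 hp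
    rw [apply_eq_centralChar_mul (χ i).2]
    field_simp
  rw [h2, Matrix.det_mul, Matrix.det_mul, Matrix.det_diagonal, Matrix.det_diagonal]
  refine mul_ne_zero (mul_ne_zero (Finset.prod_ne_zero_iff.2 fun i _ => ?_) hdet)
    (Finset.prod_ne_zero_iff.2 fun j _ => ?_)
  · rw [Ne, red_eq_zero_iff (memLocalRing_natDiv hM (deg_ne_zero (χ i).2) hp (hd i).ge),
      memLocalIdeal_natDiv_iff hM (deg_ne_zero (χ i).2) hp, hd]
    exact lt_irrefl _
  · rw [Ne, red_eq_zero_iff (memLocalRing_natDiv hM hp (hc j) (hm j).le),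
      memLocalIdeal_natDiv_iff hM hp (hc j), hm]
    exact lt_irrefl _

end Cfsg.Agent.S4741
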