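import Cfsg.Statements.S4743
import Cfsg.Agent.Lib.Clifford.DefZero
import Cfsg.Agent.Lib.Core.PSolvable

set_option autoImplicit false
open Cfsg

namespace Cfsg.Agent.S4743

open Cfsg.Lib Cfsg.Lib.Clifford Cfsg.Lib.Char Finset

theorem aux {G : Type*} [Group G] [Finite G] {p q : ℕ} (hp : p.Prime) (hq : q.Prime) (hpq : p ≠ q)
    (hpG : p ∣ Nat.card G) (h : ∀ g : G, orderOf g ≠ p * q)
    (h0 : ¬ ∃ χ : IrrCharacter G, DefZero p (χ : G → ℂ))
    (h1 : ¬ ∃ χ : IrrCharacter G, DefZero q (χ : G → ℂ)) : ¬ IsPSolvable p G := fun hs => by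
  have := Fact.mk hp
  have h2 := Core.not_dvd_card_pPrimeCore (G := G) hp
  have h3 : ¬ q ∣ Nat.card (pPrimeCore p G) := fun e => h2 (dvd_card_of_normal hp hq hpq h h0 _ e)
  have h4 := ((Core.isPSolvable_iff_quotient hp).1 hs (pPrimeCore p G) fun e => h2 (by
    rwa [e, Subgroup.card_top])).resolve_right fun e => e Core.pPrimeCore_quotient_pPrimeCore
  have h5 := Core.isPGroup_pCore p (G ⧸ pPrimeCore p G)
  refine (Nat.Prime.coprime_iff_not_dvd hq).1 (Core.coprime_comap_mk' _ ((Nat.Prime.coprime_iff_not_dvd hq).2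
    h3).symm (Core.coprime_card_of_isPGroup hp h5 ((Nat.coprime_primes hq hp).2 hpq.symm))).symm
    (dvd_card_of_normal hq hp hpq.symm (by simpa [mul_comm] using h) h1 _ ?_)
  refine (Core.dvd_card_of_isPGroup_of_ne_bot hp h5 h4).trans ?_
  conv_lhs => rw [← Subgroup.map_comap_eq_self_of_surjective (QuotientGroup.mk'_surjective _)
    (pCore p (G ⧸ pPrimeCore p G))]
  exact Subgroup.card_map_dvd _ _

/-- Let p ≠ q be primes dividing the order of the finite group G, suppose the centralizer of every non-identity p-element has order prime to q, and suppose G is p-solvable or q-solvable. Then G has an irreducible character of p-defect zero or an irreducible character of q-defect zero. -/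
theorem result {G : Type*} [Group G] [Finite G] (p q : ℕ) [Fact p.Prime] [Fact q.Prime] (hppq : p ≠ q) (hpG : p ∣ Nat.card G) (hqG : q ∣ Nat.card G) (hC : ∀ g : G, g ≠ 1 → (∃ k : ℕ, orderOf g = p ^ k) → ¬ q ∣ Nat.card ↥(Subgroup.centralizer ({g} : Set G))) (hsolv : Cfsg.IsPSolvable p G ∨ Cfsg.IsPSolvable q G) : (∃ χ : Cfsg.IrrCharacter G, (Cfsg.charDegree (χ : G → ℂ)).factorization p = (Nat.card G).factorization p) ∨ (∃ χ : Cfsg.IrrCharacter G, (Cfsg.charDegree (χ : G → ℂ)).factorization q = (Nat.card G).factorization q) := by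
  by_contra hc
  obtain ⟨h0, h1⟩ := not_or.1 hc
  have h := orderOf_ne_mul Fact.out Fact.out hC
  exact hsolv.elim (aux Fact.out Fact.out hppq hpG h h0 h1)
    (aux Fact.out Fact.out hppq.symm hqG (by simpa [mul_comm] using h) h1 h0)

end Cfsg.Agent.S4743
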