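import Cfsg.Statements.S4744
import Cfsg.Agent.Lib.Clifford.DefZero

set_option autoImplicit false
open Cfsg

namespace Cfsg.Agent.S4744

open Cfsg.Lib Cfsg.Lib.Clifford Cfsg.Lib.Char Finset

/-- Let p be an odd prime and G a finite group of even order divisible by p in which the centralizer of every non-identity p-element has odd order. Then either G has an irreducible character of p-defect zero, or the normalizer of every Sylow p-subgroup P of G has even order and P is abelian. -/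
theorem result {G : Type*} [Group G] [Finite G] (p : ℕ) [Fact p.Prime] (hp2 : p ≠ 2) (hpG : p ∣ Nat.card G) (h2G : 2 ∣ Nat.card G) (hC : ∀ g : G, g ≠ 1 → (∃ k : ℕ, orderOf g = p ^ k) → Odd (Nat.card ↥(Subgroup.centralizer ({g} : Set G)))) : (∃ χ : Cfsg.IrrCharacter G, (Cfsg.charDegree (χ : G → ℂ)).factorization p = (Nat.card G).factorization p) ∨ ∀ P : Sylow p G, Even (Nat.card ↥(Subgroup.normalizer ((P : Subgroup G) : Set G))) ∧ IsMulCommutative ↥(P : Subgroup G) := by
  refine or_iff_not_imp_left.2 fun h0 P => ?_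
  obtain ⟨t, ht⟩ := exists_prime_orderOf_dvd_card' (G := G) 2 h2G
  obtain ⟨Q, hQ, hi⟩ := exists_sylow_inverted hp2 (fun g => mul_comm p 2 ▸ orderOf_ne_mul Fact.out
    Nat.prime_two (fun g h1 h2 => by
      rw [← even_iff_two_dvd, Nat.not_even_iff_odd]; exact hC g h1 h2) g) h0 ht
  obtain ⟨g, rfl⟩ := MulAction.exists_smul_eq G Q P
  have hi' : ∀ x ∈ ((g • Q : Sylow p G) : Subgroup G), g * t * g⁻¹ * x * (g * t * g⁻¹)⁻¹ = x⁻¹ :=
    fun x hx => by
      rw [show g * t * g⁻¹ * x * (g * t * g⁻¹)⁻¹ = g * (t * (g⁻¹ * x * g) * t⁻¹) * g⁻¹ by group,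
        hi _ (Transfer.mem_cj.1 hx)]
      group
  refine ⟨even_iff_two_dvd.2 ?_, ⟨⟨fun a b => Subtype.ext ?_⟩⟩⟩
  · rw [← ht, ← Invol.orderOf_conj g t]
    refine Subgroup.orderOf_dvd_natCard _ (Transfer.mem_normalizer_of_cj_le (Transfer.cj_le_iff.2
      fun x hx => ?_))
    rw [hi' x hx]
    exact Subgroup.inv_mem _ hx
  · have := hi' _ (Subgroup.mul_mem _ a.2 b.2)
    rw [← conj_mul, hi' a a.2, hi' b b.2, ← mul_inv_rev, inv_inj] at this
    exact this.symm

end Cfsg.Agent.S4744
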