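import Cfsg.Statements.S4745
import Cfsg.Agent.Lib.Block.TrP
import Cfsg.Agent.S4743

set_option autoImplicit false
open Cfsg

namespace Cfsg.Agent.S4745

open Subgroup Cfsg.Lib.Core Cfsg.Lib.BS Cfsg.Lib.Clifford Cfsg.Lib.Char MulAction Cfsg.Lib
set_option linter.style.haveILetI false

/-- Let p be an odd prime and G a finite group of even order divisible by p in which the centralizer of every non-identity p-element has odd order, and suppose G acts faithfully and transitively on a set with p ^ r elements, r ≥ 1. Then either G has an irreducible character of p-defect zero, or G is p-solvable and has an irreducible character of 2-defect zero. -/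
theorem result {G Ω : Type*} [Group G] [Finite G] [MulAction G Ω] [FaithfulSMul G Ω] [Fintype Ω] (htr : MulAction.IsPretransitive G Ω) (p : ℕ) [Fact p.Prime] (hp2 : p ≠ 2) (hpG : p ∣ Nat.card G) (h2G : 2 ∣ Nat.card G) (hC : ∀ g : G, g ≠ 1 → (∃ k : ℕ, orderOf g = p ^ k) → Odd (Nat.card ↥(Subgroup.centralizer ({g} : Set G)))) (r : ℕ) (hr : 1 ≤ r) (hΩ : Fintype.card Ω = p ^ r) : (∃ χ : Cfsg.IrrCharacter G, (Cfsg.charDegree (χ : G → ℂ)).factorization p = (Nat.card G).factorization p) ∨ (Cfsg.IsPSolvable p G ∧ ∃ χ : Cfsg.IrrCharacter G, (Cfsg.charDegree (χ : G → ℂ)).factorization 2 = (Nat.card G).factorization 2) := by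
  have hp : p.Prime := Fact.out
  refine or_iff_not_imp_left.2 fun h0 => ?_
  have h2p : ∀ g : G, orderOf g ≠ 2 * p := fun g => mul_comm p 2 ▸ orderOf_ne_mul Fact.out
    Nat.prime_two (fun g h1 h2 => by
      rw [← even_iff_two_dvd, Nat.not_even_iff_odd]; exact hC g h1 h2) g
  have hΩ' : Nat.card Ω = p ^ r := by rw [Nat.card_eq_fintype_card, hΩ]
  have hreg : ∀ P : Sylow p G, (∀ x ∈ (P : Subgroup G), ∀ y ∈ (P : Subgroup G), x * y = y * x) →
      ∀ u ∈ (P : Subgroup G), ∀ a : Ω, u • a = a → u = 1 := fun P hc u hu a e => by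
    have := Perm.sylow_transitive_of_prime_pow_degree hΩ' P
    refine eq_of_smul_eq_smul (M := G) (α := Ω) fun b => ?_
    obtain ⟨v, rfl⟩ := exists_smul_eq (P : Subgroup G) a b
    rw [one_smul, Subgroup.smul_def, smul_smul, hc u hu v v.2, mul_smul, e]
  have hcomm : ∀ (t : G) (P : Sylow p G), (∀ x ∈ (P : Subgroup G), t * x * t⁻¹ = x⁻¹) →
      ∀ x ∈ (P : Subgroup G), ∀ y ∈ (P : Subgroup G), x * y = y * x := fun t P hi x hx y hy => by
    have := hi _ (mul_mem hy hx)
    rw [← conj_mul, hi x hx, hi y hy, ← mul_inv_rev, inv_inj] at this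
    exact this
  have hfix : ∀ t : G, orderOf t = 2 → ∀ a b : Ω, t • a = a → t • b = b → a = b :=
    fun t ht a b ha hb => by
      obtain ⟨P, -, hi⟩ := exists_sylow_inverted hp2 h2p h0 ht
      have := Perm.sylow_transitive_of_prime_pow_degree hΩ' P
      obtain ⟨u, rfl⟩ := exists_smul_eq (P : Subgroup G) a b
      rw [Subgroup.smul_def] at hb ⊢
      have h1 : (u * u : G) • a = a := by
        rw [mul_smul, ← hb, smul_smul, smul_smul, show (u : G) * t * u = u * (t * u * t⁻¹) * t by group,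
          hi u u.2, mul_inv_cancel, one_mul, ha]
      obtain ⟨i, hi'⟩ := IsPGroup.iff_orderOf.1 P.isPGroup' u
      rw [← orderOf_coe] at hi'
      rw [eq_one_of_mul_self (hi' ▸ (hp.odd_of_ne_two hp2).pow)
        (hreg P (hcomm t P hi) _ (mul_mem u.2 u.2) a h1), one_smul]
  obtain ⟨t, ht⟩ := exists_prime_orderOf_dvd_card' (G := G) 2 h2G
  obtain ⟨P, -, hi⟩ := exists_sylow_inverted hp2 h2p h0 ht
  have htr' := Perm.sylow_transitive_of_prime_pow_degree hΩ' P
  obtain ⟨a, ha⟩ := IsPGroup.nonempty_fixed_point_of_prime_not_dvd_card (p := 2) (G := zpowers t)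
    (IsPGroup.of_card (n := 1) (by rw [Nat.card_zpowers, ht, pow_one])) Ω (by
      rw [hΩ', ← even_iff_two_dvd, Nat.not_even_iff_odd]; exact (hp.odd_of_ne_two hp2).pow)
  have hta : t • a = a := ha ⟨t, mem_zpowers t⟩
  have hidx : (stabilizer G a).index = p ^ r := by rw [index_stabilizer_of_transitive, hΩ']
  have hP : Nat.card (P : Subgroup G) = p ^ r := by
    rw [← hΩ', ← index_stabilizer_of_transitive (P : Subgroup G) a,
      show stabilizer (P : Subgroup G) a = ⊥ from eq_bot_iff.2 fun u hu =>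
        Subtype.ext (hreg P (hcomm t P hi) u u.2 a hu), index_bot]
  have hr' : (Nat.card G).factorization p = r :=
    Nat.pow_right_injective hp.two_le (by simpa using (P.card_eq_multiplicity.symm.trans hP))
  have hH : IsStronglyEmbedded (stabilizer G a) := by
    refine ⟨fun e => ?_, even_iff_two_dvd.2 (ht ▸ orderOf_dvd_natCard _ hta), fun g hg => ?_⟩
    · rw [e, index_top] at hidx
      exact (Nat.one_lt_pow (by omega) hp.one_lt).ne hidx
    · refine Invol.odd_card_iff.2 fun s hs h2 => hg ?_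
      obtain ⟨h3, x, hx, rfl⟩ := hs
      refine (hfix _ h2 a (g • a) h3 ?_).symm
      change (g * x * g⁻¹) • g • a = g • a
      rw [smul_smul, inv_mul_cancel_right, mul_smul, mem_stabilizer_iff.1 hx]
  by_cases h2 : R2 (⊤ : Subgroup G)
  · have hO : oddCore G = ⊥ := eq_bot_iff.2 fun x hx => by
      refine eq_of_smul_eq_smul (M := G) (α := Ω) fun b => ?_
      obtain ⟨g, rfl⟩ := exists_smul_eq G a b
      have := oddCore_le_of_r2 hH h2 ((inferInstance : (oddCore G).Normal).conj_mem x hx g⁻¹)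
      rw [mem_stabilizer_iff, inv_inv, mul_smul, mul_smul, inv_smul_eq_iff] at this
      rw [this, one_smul]
    obtain ⟨Q, s, h⟩ := bro G _ hH h2 hO
    obtain ⟨χ, hχ, hd⟩ := Block.exists_irr_index_dvd h h2
    refine (h0 ⟨⟨χ, hχ⟩, le_antisymm ?_ ?_⟩).elim
    · exact (Nat.factorization_le_iff_dvd (irrOn_top.2 hχ).deg_pos.ne' Nat.card_pos.ne').2
        hχ.charDegree_dvd_card p
    · rw [hr']
      exact (hp.pow_dvd_iff_le_factorization (irrOn_top.2 hχ).deg_pos.ne').1 (hidx ▸ hd)
  have hs : IsPSolvable p G := by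
    haveI := FT.odd_order_solvable _ (odd_card_oddCore G)
    rw [← isPSolvable_top_iff hp, ← oddCore_sup_se hH h2]
    refine isPSolvable_sup_of_normal hp _ (isPSolvable_of_isSolvable hp)
      (isPSolvable_of_coprime hp (hp.coprime_iff_not_dvd.2 fun hd => ?_).symm)
    have h3 : p ^ (r + 1) ∣ Nat.card G := by
      rw [← (stabilizer G a).card_mul_index, hidx, pow_succ']
      exact Nat.mul_dvd_mul_right hd _
    have := (hp.pow_dvd_iff_le_factorization Nat.card_pos.ne').1 h3
    omega
  haveI : Fact (Nat.Prime 2) := ⟨Nat.prime_two⟩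
  exact ⟨hs, (S4743.result p 2 hp2 hpG h2G (fun g h1 h2 => by
      rw [← even_iff_two_dvd, Nat.not_even_iff_odd]; exact hC g h1 h2) (Or.inl hs)).resolve_left h0⟩

end Cfsg.Agent.S4745
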