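import Cfsg.Statements.S4746
import Cfsg.Agent.Lib.Clifford.DefZero

set_option autoImplicit false
open Cfsg

namespace Cfsg.Agent.S4746

open Cfsg.Lib Cfsg.Lib.Clifford Cfsg.Lib.Char Finset

/-- Let p be an odd prime and G a finite group of even order divisible by p in which the centralizer of every non-identity p-element has odd order. Then G has an irreducible character of p-defect zero or an irreducible character of even degree. -/
theorem result {G : Type*} [Group G] [Finite G] (p : ℕ) [Fact p.Prime] (hp2 : p ≠ 2) (hpG : p ∣ Nat.card G) (h2G : 2 ∣ Nat.card G) (hC : ∀ g : G, g ≠ 1 → (∃ k : ℕ, orderOf g = p ^ k) → Odd (Nat.card ↥(Subgroup.centralizer ({g} : Set G)))) : (∃ χ : Cfsg.IrrCharacter G, (Cfsg.charDegree (χ : G → ℂ)).factorization p = (Nat.card G).factorization p) ∨ ∃ χ : Cfsg.IrrCharacter G, Even (Cfsg.charDegree (χ : G → ℂ)) := by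
  refine or_iff_not_imp_left.2 fun h0 => ?_
  obtain ⟨t, ht⟩ := exists_prime_orderOf_dvd_card' (G := G) 2 h2G
  obtain ⟨Q, hQ, hi⟩ := exists_sylow_inverted hp2 (fun g => mul_comm p 2 ▸ orderOf_ne_mul Fact.out
    Nat.prime_two (fun g h1 h2 => by
      rw [← even_iff_two_dvd, Nat.not_even_iff_odd]; exact hC g h1 h2) g) h0 ht
  obtain ⟨y, hy⟩ := exists_prime_orderOf_dvd_card' p (Amalg.dvd_card_of_isPGroup_ne_bot Q.2 hQ)
  rw [← Subgroup.orderOf_coe] at hy
  have h1 : (y : G) ≠ 1 := fun e => (Fact.out : p.Prime).one_lt.ne' (by rw [← hy, e, orderOf_one])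
  exact exists_even_deg h1 (isConj_iff.2 ⟨t, hi y y.2⟩) (hC y h1 ⟨1, by rw [hy, pow_one]⟩)

end Cfsg.Agent.S4746
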