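import Cfsg.Statements.S4748
import Cfsg.Agent.Lib.Clifford.TISylow
import Cfsg.Agent.Lib.Core.PSolvable
import Cfsg.Agent.Lib.Char.Center

set_option autoImplicit false
open scoped Pointwise
open Cfsg

namespace Cfsg.Agent.S4748

open Cfsg.Lib Cfsg.Lib.Clifford Cfsg.Lib.Char Cfsg.Lib.Transfer Cfsg.Lib.Core Subgroup

/-- Let G be a finite p-solvable group whose Sylow p-subgroup P meets each conjugate g P g⁻¹ with g outside N_G(P) trivially, and let χ be a faithful character of G (χ g = χ 1 only for g = 1) whose degree d satisfies d² ≤ |P|. Then P is normal in G. -/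
theorem result {G : Type*} [Group G] [Finite G] (p : ℕ) [Fact p.Prime] (hsolv : Cfsg.IsPSolvable p G) (P : Sylow p G) (hTI : ∀ g : G, g ∉ Subgroup.normalizer ((P : Subgroup G) : Set G) → (P : Subgroup G) ⊓ (MulAut.conj g • (P : Subgroup G)) = ⊥) (χ : G → ℂ) (hχ : Cfsg.IsCharacter G χ) (hfaith : ∀ g : G, χ g = χ 1 → g = 1) (hdeg : Cfsg.charDegree χ ^ 2 ≤ Nat.card ↥(P : Subgroup G)) : (P : Subgroup G).Normal := by
  have hp : p.Prime := Fact.out
  have hTI' : ∀ g, g ∉ normalizer ((P : Subgroup G) : Set G) → (P : Subgroup G) ⊓ Transfer.cj g P = ⊥ :=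
    fun g hg => by rw [cj_eq_smul]; exact hTI g hg
  by_contra hn
  obtain ⟨g, hg⟩ : ∃ g, g ∉ normalizer ((P : Subgroup G) : Set G) := by
    by_contra h
    exact hn (normalizer_eq_top_iff.1 (eq_top_iff.2 fun g _ => not_not.1 fun e => h ⟨g, e⟩))
  have hO : pCore p G = ⊥ := le_bot_iff.1 (hTI' g hg ▸ le_inf (pCore_le_sylow P)
    (coe_sylow_smul g P ▸ pCore_le_sylow _))
  have : Nontrivial (P : Subgroup G) := (nontrivial_iff_ne_bot _).2 fun e => hn (e ▸ inferInstance)
  have := P.2.center_nontrivial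
  obtain ⟨⟨⟨z, hz⟩, hz'⟩, h1⟩ := exists_ne (1 : center (P : Subgroup G))
  have hc : ∀ u ∈ (P : Subgroup G), u * z = z * u := fun u hu =>
    congrArg Subtype.val (mem_center_iff.1 hz' ⟨u, hu⟩)
  set K := pPrimeCore p G
  have hK : K ⊓ P = ⊥ := disjoint_iff.1 <| disjoint_of_coprime_natCard (by
    obtain ⟨n, hn⟩ := P.2.exists_card_eq
    rw [hn]; exact (coprime_card_pPrimeCore p G).pow_right n)
  set L := (P : Subgroup G) ⊔ K
  have hPL : (P : Subgroup G) ≤ L := le_sup_left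
  have hT := sylowIn_top (sylowIn_of_le P hPL).toSylow
  rw [SylowIn.coe_toSylow] at hT
  set z' : L := ⟨z, hPL hz⟩
  have hN : normalizer (((P : Subgroup G).subgroupOf L : Subgroup L) : Set L) ≤ centralizer {z'} := by
    rintro ⟨x, hx⟩ h
    obtain ⟨k, hk, u, hu, rfl⟩ := exists_mul_of_mem_sup_nrm' (nrm_of_normal (P : Subgroup G) K) hx
    have h2 : k * u * z * (k * u)⁻¹ ∈ (P : Subgroup G) := (mem_normalizer_iff.1 h z').1 hz
    have h3 : k * u * z * (k * u)⁻¹ * z⁻¹ ∈ K ⊓ (P : Subgroup G) := ⟨by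
      rw [mul_assoc k, hc u hu, show k * (z * u) * (k * u)⁻¹ * z⁻¹ = k * (z * k⁻¹ * z⁻¹) by group]
      exact mul_mem hk (Normal.conj_mem inferInstance _ (inv_mem hk) z), (P : Subgroup G).mul_mem h2 (inv_mem hz)⟩
    rw [hK, mem_bot, mul_inv_eq_one, mul_inv_eq_iff_eq_mul] at h3
    exact mem_centralizer_singleton_iff.2 (Subtype.ext h3)
  have hχ' : CharOn ⊤ (χ ∘ L.subtype) := (charOn_top.2 hχ).comp _ fun _ _ => trivial
  have h2 : z ∈ centralizer (K : Set G) := fun k hk => by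
    rw [← mul_inv_eq_iff_eq_mul, ← mul_inv_eq_one]
    refine hfaith _ (hχ'.classOn.eq_of_forall (x := (⟨k, le_sup_right (b := K) hk⟩ * z' *
      ⟨k, le_sup_right (b := K) hk⟩⁻¹ * z'⁻¹ : L)) trivial fun θ hθ hd => ?_ :)
    have h1 := irrOn_of_mem hθ
    have h2 : charDegree θ ≤ charDegree χ := hχ'.deg_le_of_dot h1 hd
    have h3 := h1.charOn.dot_self_eq_of_free hT.2 (H := centralizer {z'}) (by
      rw [Nat.card_congr (subgroupOfEquivOfLe hPL).toEquiv]
      exact (Nat.pow_le_pow_left h2 2).trans hdeg) (free_of_ti hT (fun g hg => ?_) hN)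
      (le_normalizer.trans hN)
    · have h4 := (h1.charOn.mono le_top).irrOn_of_dot_self (h3.trans h1.dot_self)
      replace h4 : IsIrrCharacter _ (res _ θ) := h4
      have h5 : (⟨z', mem_centralizer_singleton_iff.2 rfl⟩ : centralizer {z'}) ∈ charCenter (res _ θ) :=
        h4.center_le_charCenter (mem_center_iff.2 fun y =>
          Subtype.ext (mem_centralizer_singleton_iff.1 y.2))
      rw [h4.mem_charCenter] at h5
      have h6 := ((irrOn_top.1 h1).mem_charCenter_iff_commutator.1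
        ((irrOn_top.1 h1).mem_charCenter.2 h5) ⟨k, le_sup_right (b := K) hk⟩)
      rw [← kerOn_top, ← inv_mem_iff, commutatorElement_inv] at h6
      exact (h1.charOn.mem_kerOn.1 h6).2
    · refine eq_bot_iff.2 fun x hx => Subtype.ext (mem_bot.1 (hTI' g (fun e => hg ?_) ▸ ⟨hx.1, mem_cj.2 ?_⟩))
      · exact mem_normalizer_iff.2 fun y => mem_normalizer_iff.1 e y
      · exact mem_cj (H := (P : Subgroup G).subgroupOf L) |>.1 hx.2
  exact h1 (Subtype.ext (Subtype.ext (mem_bot.1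
    (hK ▸ ⟨centralizer_pPrimeCore_le_of_isPSolvable hp hsolv hO h2, hz⟩))))

end Cfsg.Agent.S4748
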