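import Cfsg.Statements.S4754
import Cfsg.Agent.Lib.Clifford.Count

set_option autoImplicit false
open Cfsg

namespace Cfsg.Agent.S4754

open Cfsg.Lib Cfsg.Lib.Clifford Cfsg.Lib.Char Finset

/-- For elements x, y of a finite group G, the conjugacy class of x y equals the set of all products of a conjugate of x with a conjugate of y if and only if χ(1) χ(a x a⁻¹ b y b⁻¹) = χ(x) χ(y) for all a, b ∈ G and every irreducible character χ. -/
theorem result {G : Type*} [Group G] [Finite G] (x y : G) : (∀ z : G, IsConj (x * y) z ↔ ∃ a b : G, z = a * x * a⁻¹ * (b * y * b⁻¹)) ↔ ∀ (a b : G) (χ : Cfsg.IrrCharacter G), (χ : G → ℂ) 1 * (χ : G → ℂ) (a * x * a⁻¹ * (b * y * b⁻¹)) = (χ : G → ℂ) x * (χ : G → ℂ) y := by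
  have := Fintype.ofFinite G
  constructor
  · intro h a b χ
    have h1 : ∀ a b : G, (χ : G → ℂ) (a * x * a⁻¹ * (b * y * b⁻¹)) = (χ : G → ℂ) (x * y) := fun a b =>
      (χ.2.isClassFunction.eq_of_isConj ((h _).2 ⟨a, b, rfl⟩)).symm
    have h2 := sum_conj_mul_conj χ.2 x y
    simp_rw [h1] at h2
    simp only [sum_const, card_univ, nsmul_eq_mul, ← Nat.card_eq_fintype_card] at h2
    have h3 := Cfsg.Lib.Char.card_ne_zero G
    have h4 := χ.2.apply_one_ne_zero
    rw [h1]
    field_simp at h2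
    linear_combination h2
  · intro h z
    constructor
    · intro hz
      obtain ⟨c, rfl⟩ := isConj_iff.1 hz
      exact ⟨c, c, by group⟩
    · rintro ⟨a, b, rfl⟩
      refine (isConj_iff_irr _ _).2 fun χ => mul_left_cancel₀ χ.2.apply_one_ne_zero ?_
      rw [h, ← h 1 1]; simp

end Cfsg.Agent.S4754
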