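import Cfsg.Statements.S4755
import Cfsg.Agent.Lib.Clifford.Count

set_option autoImplicit false
open Cfsg

namespace Cfsg.Agent.S4755

open Cfsg.Lib Cfsg.Lib.Clifford Cfsg.Lib.Char Finset

/-- Let x, y be non-identity elements of the finite group G such that χ(x' y') = χ(x') χ(y') for all conjugates x' of x, y' of y and every irreducible character χ. Then the conjugacy class of x y is the set of all products of a conjugate of x with a conjugate of y; every irreducible character of degree greater than 1 vanishes at x y; and the conjugacy class of x y is the coset of the commutator subgroup containing x y. -/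
theorem result {G : Type*} [Group G] [Finite G] (x y : G) (hx : x ≠ 1) (hy : y ≠ 1) (h : ∀ (a b : G) (χ : Cfsg.IrrCharacter G), (χ : G → ℂ) (a * x * a⁻¹ * (b * y * b⁻¹)) = (χ : G → ℂ) (a * x * a⁻¹) * (χ : G → ℂ) (b * y * b⁻¹)) : (∀ z : G, IsConj (x * y) z ↔ ∃ a b : G, z = a * x * a⁻¹ * (b * y * b⁻¹)) ∧ (∀ χ : Cfsg.IrrCharacter G, (χ : G → ℂ) 1 ≠ 1 → (χ : G → ℂ) (x * y) = 0) ∧ (∀ z : G, IsConj (x * y) z ↔ (x * y)⁻¹ * z ∈ commutator G) := by
  have := Fintype.ofFinite G
  have h0 : ∀ (a b : G) (χ : IrrCharacter G), (χ : G → ℂ) (a * x * a⁻¹ * (b * y * b⁻¹)) =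
      (χ : G → ℂ) x * (χ : G → ℂ) y := fun a b χ => by
    rw [h, χ.2.isClassFunction.conj_eq, χ.2.isClassFunction.conj_eq]
  have h0' : ∀ χ : IrrCharacter G, (χ : G → ℂ) (x * y) = (χ : G → ℂ) x * (χ : G → ℂ) y := fun χ => by
    simpa using h0 1 1 χ
  have h2 : ∀ χ : Cfsg.IrrCharacter G, (χ : G → ℂ) 1 ≠ 1 → (χ : G → ℂ) (x * y) = 0 := fun χ h1 => by
    have h2 := sum_conj_mul_conj χ.2 x y
    simp_rw [h0] at h2
    simp only [sum_const, card_univ, nsmul_eq_mul, ← Nat.card_eq_fintype_card] at h2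
    have h3 := Cfsg.Lib.Char.card_ne_zero G
    have h4 := χ.2.apply_one_ne_zero
    rw [← h0', ← mul_assoc, ← sq, mul_right_inj' (pow_ne_zero _ h3), eq_div_iff h4] at h2
    by_contra h5
    exact h1 (mul_left_cancel₀ h5 (by rw [h2, mul_one]))
  refine ⟨fun z => ⟨fun hz => ?_, ?_⟩, h2, fun z => ⟨fun hz => ?_, fun hz => ?_⟩⟩
  · obtain ⟨c, rfl⟩ := isConj_iff.1 hz
    exact ⟨c, c, by group⟩
  · rintro ⟨a, b, rfl⟩
    exact (isConj_iff_irr _ _).2 fun χ => by rw [h0, h0']
  · obtain ⟨c, rfl⟩ := isConj_iff.1 hz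
    have := Subgroup.commutator_mem_commutator (Subgroup.mem_top (x * y)⁻¹) (Subgroup.mem_top c)
    rw [commutatorElement_def, inv_inv] at this
    simpa only [mul_assoc, commutator_def] using this
  · refine isConj_of_forall_irr fun χ hχ => ?_
    by_cases h1 : χ 1 = 1
    · right
      have h3 := hχ.degree_eq_one_iff.1 h1 hz
      have := mem_charKer_def.1 h3 (x * y)
      rw [← this, hχ.isClassFunction.mul_comm _ (x * y), mul_inv_cancel_left]
    · exact Or.inl (h2 ⟨χ, hχ⟩ h1)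

end Cfsg.Agent.S4755
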