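import Cfsg.Statements.S4756
import Cfsg.Agent.Lib.Clifford.Count
import Cfsg.Agent.Lib.Coprime.Frobenius
import Mathlib.GroupTheory.SchurZassenhaus

set_option autoImplicit false
set_option linter.unusedSectionVars false
open Cfsg

namespace Cfsg.Agent.S4756

open Cfsg.Lib.Char Cfsg.Lib.Clifford Cfsg.Lib.Coprime Subgroup
open scoped commutatorElement

section
variable {G : Type*} [Group G] [Finite G]

theorem lin_mul {χ : G → ℂ} (h : IsIrrCharacter G χ) (h1 : χ 1 = 1) (x y : G) : χ (x * y) = χ x * χ y := by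
  obtain ⟨lam, rfl⟩ := h.isCharacter.exists_linear_of_degree_one h1
  simp

theorem lin_comm {χ : G → ℂ} (h : IsIrrCharacter G χ) (h1 : χ 1 = 1) {d : G} (hd : d ∈ commutator G) (g : G) :
    χ (d * g) = χ g := by
  obtain ⟨lam, rfl⟩ := h.isCharacter.exists_linear_of_degree_one h1
  have : d ∈ lam.ker := Abelianization.commutator_subset_ker lam hd
  simp [MonoidHom.mem_ker.1 this]

theorem vanish {χ : G → ℂ} (h : IsIrrCharacter G χ) (h1 : χ 1 ≠ 1) {g : G}
    (hg : ∀ d ∈ commutator G, IsConj g (d * g)) : χ g = 0 := by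
  have := Fintype.ofFinite G
  have e := sum_commutator_mul h g
  have e2 : ∀ x y : G, χ (y * x * y⁻¹ * x⁻¹ * g) = χ g := fun x y =>
    (h.isClassFunction.eq_of_isConj (hg _ (commutator_mem_commutator (mem_top y) (mem_top x)))).symm
  simp only [e2, Finset.sum_const, Finset.card_univ, nsmul_eq_mul, ← Nat.card_eq_fintype_card] at e
  obtain ⟨n, hn⟩ := h.isCharacter.exists_nat_degree
  have h0 := h.apply_one_ne_zero
  have hG : (Nat.card G : ℂ) ≠ 0 := Nat.cast_ne_zero.2 Nat.card_pos.ne'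
  by_contra hne
  have : χ 1 ^ 2 = 1 := by
    field_simp at e
    linear_combination e
  rw [hn] at this h1
  have h3 : n ^ 2 = 1 := by exact_mod_cast this
  have h4 : n = 1 := by nlinarith [Nat.zero_le n]
  exact h1 (by simp [h4])

/-- The hypothesis of the statement. -/
def Hyp (G : Type*) [Group G] : Prop := ∀ (x y : G) (χ : Cfsg.IrrCharacter G), x ≠ 1 → y ≠ 1 →
  (∃ p q a b : ℕ, p.Prime ∧ q.Prime ∧ p ≠ q ∧ orderOf x = p ^ a ∧ orderOf y = q ^ b) →
  (χ : G → ℂ) (x * y) = (χ : G → ℂ) x * (χ : G → ℂ) y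

theorem Hyp.isConj (H : Hyp G) {x y : G} (hx : x ≠ 1) (hy : y ≠ 1) {p q a b : ℕ} (hp : p.Prime) (hq : q.Prime)
    (hpq : p ≠ q) (ha : orderOf x = p ^ a) (hb : orderOf y = q ^ b) {d : G} (hd : d ∈ commutator G) :
    IsConj (x * y) (d * (x * y)) := by
  have := Fintype.ofFinite G
  refine isConj_of_forall_irr fun χ hχ => ?_
  by_cases h1 : χ 1 = 1
  · exact Or.inr (lin_comm hχ h1 hd _)
  left
  have e := hχ.sum_conj_mul x y
  have e2 : ∀ g : G, χ (g * x * g⁻¹ * y) = χ x * χ y := fun g => by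
    have := H (g * x * g⁻¹) y ⟨χ, hχ⟩ (fun h => hx (by simpa using h)) hy
      ⟨p, q, a, b, hp, hq, hpq, by rw [← ha]; exact (MulAut.conj g).orderOf_eq x, hb⟩
    simpa [hχ.isClassFunction.conj_eq] using this
  simp only [e2, Finset.sum_const, Finset.card_univ, nsmul_eq_mul, ← Nat.card_eq_fintype_card] at e
  have h0 := hχ.apply_one_ne_zero
  have hG : (Nat.card G : ℂ) ≠ 0 := Nat.cast_ne_zero.2 Nat.card_pos.ne'
  have e3 := e2 1
  simp only [one_mul, inv_one, mul_one] at e3
  rw [e3]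
  by_contra hne
  apply h1
  rw [mul_assoc (Nat.card G : ℂ), eq_div_iff h0] at e
  exact mul_left_cancel₀ (mul_ne_zero hG hne) (by rw [e, mul_one])

theorem ne_one_of_prime {x : G} {p : ℕ} (hp : p.Prime) (h : orderOf x = p) : x ≠ 1 := by
  rintro rfl
  exact hp.one_lt.ne (by simpa using h)

theorem Hyp.isPGroup (H : Hyp G) {p : ℕ} (hp : p.Prime) (hd : p ∣ Nat.card (commutator G)) :
    IsPGroup p (commutator G) := by
  have := Fact.mk hp
  rw [IsPGroup.iff_card]
  refine ⟨_, Nat.eq_prime_pow_of_unique_prime_dvd Nat.card_pos.ne' fun {q} hq hqd => ?_⟩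
  by_contra hne
  have := Fact.mk hq
  obtain ⟨x, hx⟩ := exists_prime_orderOf_dvd_card' p hd
  obtain ⟨y, hy⟩ := exists_prime_orderOf_dvd_card' q hqd
  rw [← Subgroup.orderOf_coe] at hx hy
  have h := H.isConj (ne_one_of_prime hp hx) (ne_one_of_prime hq hy) hp hq (Ne.symm hne) (a := 1) (b := 1)
    (by simpa using hx) (by simpa using hy) (inv_mem (mul_mem x.2 y.2))
  rw [inv_mul_cancel, isConj_one_left, mul_eq_one_iff_eq_inv] at h
  apply hne
  rw [← hx, ← hy, h, orderOf_inv]

theorem Hyp.fpf (H : Hyp G) {p : ℕ} (hp : p.Prime) (hD : IsPGroup p (commutator G)) {A : Subgroup G}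
    (hA : (Nat.card A).Coprime p) : Fpf (commutator G) A := by
  have := Fact.mk hp
  rw [fpf_iff]
  intro a ha ha1 d hd e
  by_contra hd1
  have ho : orderOf a ≠ 1 := fun h => ha1 (orderOf_eq_one_iff.1 h)
  obtain ⟨q, hq, hqa⟩ := Nat.exists_prime_and_dvd ho
  have hb : orderOf (a ^ (orderOf a / q)) = q := orderOf_pow_orderOf_div (orderOf_pos a).ne' hqa
  set b := a ^ (orderOf a / q) with hbdef
  have hc : Commute d b := (Commute.pow_left e _).symm
  have hpq : p ≠ q := by
    rintro rfl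
    have := hqa.trans (A.orderOf_dvd_natCard ha)
    exact hp.one_lt.ne' (Nat.Coprime.eq_one_of_dvd hA.symm this)
  obtain ⟨k, hk⟩ := IsPGroup.iff_orderOf.1 hD ⟨d, hd⟩
  rw [← Subgroup.orderOf_coe] at hk
  have h := H.isConj hd1 (ne_one_of_prime hq hb) hp hq hpq hk (b := 1) (by simpa using hb) (inv_mem hd)
  rw [inv_mul_cancel_left] at h
  have h2 : orderOf (d * b) = orderOf b := by
    obtain ⟨c, hc⟩ := isConj_iff.1 h
    rw [← hc, hc]; exact ((MulAut.conj c).orderOf_eq _).symm.trans (congrArg orderOf hc)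
  have hcop : (orderOf d).Coprime (orderOf b) := by
    rw [show orderOf d = p ^ k from hk, hb]
    exact ((Nat.coprime_primes hp hq).2 hpq).pow_left _
  rw [hc.orderOf_mul_eq_mul_orderOf_of_coprime hcop] at h2
  exact hd1 (orderOf_eq_one_iff.1 (Nat.eq_of_mul_eq_mul_right (orderOf_pos b) (by simpa using h2)))

theorem conv {p : ℕ} [hp : Fact p.Prime] (P : Sylow p G) (A : Subgroup G)
    (hA : IsCyclic A) (hc : (Nat.card A).Coprime p) (ht : A ⊔ (P : Subgroup G) = ⊤)
    (hC : IsMulCommutative ↥((P : Subgroup G) ⊓ centralizer (A : Set G))) (hD : (⁅A, (P : Subgroup G)⁆).Normal)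
    (hCD : ((P : Subgroup G) ⊓ centralizer (A : Set G)) ⊔ ⁅A, (P : Subgroup G)⁆ = (P : Subgroup G))
    (hf : ∀ a ∈ A, a ≠ 1 → ∀ d ∈ ⁅A, (P : Subgroup G)⁆, a * d = d * a → d = 1) {g : G} (hg : g ∉ (P : Subgroup G))
    {d : G} (hd : d ∈ commutator G) : IsConj g (d * g) := by
  set D := ⁅A, (P : Subgroup G)⁆ with hDdef
  set C := (P : Subgroup G) ⊓ centralizer (A : Set G) with hCdef
  have hAC : ∀ a ∈ A, ∀ c ∈ C, a * c = c * a := fun a ha c hc => hc.2 a ha
  have hn : C ≤ normalizer (A : Set G) := inf_le_right.trans (centralizer_le_normalizer _)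
  have dec : ∀ g : G, ∃ e ∈ D, ∃ a ∈ A, ∃ c ∈ C, g = e * (a * c) := fun g => by
    have h1 : g ∈ ((A ⊔ C) ⊔ D : Subgroup G) := by rw [sup_assoc, hCD, ht]; trivial
    rw [sup_comm] at h1
    obtain ⟨e, he, u, hu, rfl⟩ := mem_sup_of_normal_left.1 h1
    obtain ⟨a, ha, c, hc, rfl⟩ := (mem_sup_iff_of_le_normalizer hn).1 hu
    exact ⟨e, he, a, ha, c, hc, rfl⟩
  have hAA : ∀ a ∈ A, ∀ b ∈ A, a * b = b * a := fun a ha b hb =>
    congrArg Subtype.val (hA.isMulCommutative.is_comm.comm (⟨a, ha⟩ : A) ⟨b, hb⟩)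
  have hCC : ∀ a ∈ C, ∀ b ∈ C, a * b = b * a := fun a ha b hb =>
    congrArg Subtype.val (hC.is_comm.comm (⟨a, ha⟩ : C) ⟨b, hb⟩)
  have hGD : commutator G ≤ D := by
    rw [_root_.commutator_def, commutator_le]
    intro x _ y _
    obtain ⟨e, he, a, ha, c, hc, rfl⟩ := dec x
    obtain ⟨e', he', a', ha', c', hc', rfl⟩ := dec y
    rw [← QuotientGroup.eq_one_iff, ← QuotientGroup.mk'_apply, map_commutatorElement,
      commutatorElement_eq_one_iff_mul_comm]
    have h1 : QuotientGroup.mk' D e = 1 := (QuotientGroup.eq_one_iff _).2 he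
    have h2 : QuotientGroup.mk' D e' = 1 := (QuotientGroup.eq_one_iff _).2 he'
    rw [map_mul _ e, map_mul _ e', h1, h2, one_mul, one_mul, ← map_mul, ← map_mul]
    congr 1
    have k1 : Commute a a' := hAA a ha a' ha'
    have k2 : Commute a c' := hAC a ha c' hc'
    have k3 : Commute c a' := (hAC a' ha' c hc).symm
    have k4 : Commute c c' := hCC c hc c' hc'
    exact (k1.mul_right k2).mul_left (k3.mul_right k4)
  obtain ⟨e, he, a, ha, c, hc', rfl⟩ := dec g
  have hDP : D ≤ P := hCD ▸ le_sup_right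
  have ha1 : a ≠ 1 := by
    rintro rfl
    exact hg (mul_mem (hDP he) (by rw [one_mul]; exact hc'.1))
  have hcop : (orderOf a).Coprime (orderOf c) := by
    obtain ⟨k, hk⟩ := IsPGroup.iff_orderOf.1 P.isPGroup' ⟨c, hc'.1⟩
    rw [← Subgroup.orderOf_coe] at hk
    rw [show orderOf c = p ^ k from hk]
    exact (hc.coprime_dvd_left (A.orderOf_dvd_natCard ha)).pow_right _
  have hcm : Commute a c := hAC a ha c hc'
  have hfp : D ⊓ centralizer ({a * c} : Set G) = ⊥ := by
    rw [inf_centralizer_singleton_eq_bot_iff]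
    intro k hk ek
    have k1 : Commute ((a * c) ^ orderOf c) k := Commute.pow_left ek _
    rw [hcm.mul_pow, pow_orderOf_eq_one, mul_one] at k1
    refine hf _ (pow_mem ha (orderOf c)) (fun h => ha1 ?_) k hk k1
    exact orderOf_eq_one_iff.1 (hcop.eq_one_of_dvd (orderOf_dvd_of_pow_eq_one h))
  have hN : a * c ∈ normalizer (D : Set G) := by rw [normalizer_eq_top]; trivial
  obtain ⟨x, -, hx⟩ := exists_mul_eq_conj_of_fpf hN hfp he
  obtain ⟨y, -, hy⟩ := exists_mul_eq_conj_of_fpf hN hfp (mul_mem (hGD hd) he)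
  rw [← mul_assoc d, hx, hy]
  exact (isConj_iff.2 ⟨x, rfl⟩).symm.trans (isConj_iff.2 ⟨y, rfl⟩)

end

/-- For a finite group G the following are equivalent. (1) χ(x y) = χ(x) χ(y) for every irreducible character χ and all non-identity elements x, y of prime power orders for two different primes. (2) G is a p-group for some prime p, or G is abelian, or for some prime p: G = A P with P a normal Sylow p-subgroup and A a nontrivial cyclic subgroup of order prime to p such that, with C = C_P(A) and D = [A, P], one has P = C D, C abelian, D normal in G, C ∩ D = 1, and A acts fixed-point-freely on D (no non-identity element of A centralizes a non-identity element of D). -/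
theorem result {G : Type*} [Group G] [Finite G] : (∀ (x y : G) (χ : Cfsg.IrrCharacter G), x ≠ 1 → y ≠ 1 → (∃ p q a b : ℕ, p.Prime ∧ q.Prime ∧ p ≠ q ∧ orderOf x = p ^ a ∧ orderOf y = q ^ b) → (χ : G → ℂ) (x * y) = (χ : G → ℂ) x * (χ : G → ℂ) y) ↔ ((∃ p : ℕ, p.Prime ∧ IsPGroup p G) ∨ IsMulCommutative G ∨ ∃ (p : ℕ) (_ : Fact p.Prime) (P : Sylow p G) (A : Subgroup G), (P : Subgroup G).Normal ∧ IsCyclic ↥A ∧ A ≠ ⊥ ∧ (Nat.card ↥A).Coprime p ∧ A ⊔ (P : Subgroup G) = ⊤ ∧ IsMulCommutative ↥((P : Subgroup G) ⊓ Subgroup.centralizer (A : Set G)) ∧ (⁅A, (P : Subgroup G)⁆).Normal ∧ ((P : Subgroup G) ⊓ Subgroup.centralizer (A : Set G)) ⊔ ⁅A, (P : Subgroup G)⁆ = (P : Subgroup G) ∧ ((P : Subgroup G) ⊓ Subgroup.centralizer (A : Set G)) ⊓ ⁅A, (P : Subgroup G)⁆ = ⊥ ∧ ∀ a ∈ A, a ≠ 1 → ∀ d ∈ ⁅A, (P : Subgroup G)⁆, a * d = d * a → d = 1) := by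
  constructor
  · intro H
    have H : Hyp G := H
    by_cases h1 : ∃ p : ℕ, p.Prime ∧ IsPGroup p G
    · exact Or.inl h1
    by_cases h2 : IsMulCommutative G
    · exact Or.inr (Or.inl h2)
    refine Or.inr (Or.inr ?_)
    have hD0 : commutator G ≠ ⊥ := fun h => h2 ⟨⟨fun a b => by
      rw [← commutatorElement_eq_one_iff_mul_comm, ← mem_bot, ← h]
      exact commutator_mem_commutator (mem_top a) (mem_top b)⟩⟩
    obtain ⟨p, hp, hpd⟩ := Nat.exists_prime_and_dvd (fun h => hD0 (Subgroup.card_eq_one.1 h))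
    have := Fact.mk hp
    have hD := H.isPGroup hp hpd
    obtain ⟨P, hP⟩ := hD.exists_le_sylow
    have hPn : (P : Subgroup G).Normal := Normal.of_commutator_le _ hP
    obtain ⟨A, hA⟩ := exists_right_complement'_of_coprime (N := (P : Subgroup G)) P.card_coprime_index
    have hc : (Nat.card A).Coprime p := by
      rw [hA.symm.index_eq_card.symm]
      exact ((Nat.Prime.coprime_iff_not_dvd hp).2 P.not_dvd_index).symm
    have hf := H.fpf hp hD hc
    have hA0 : A ≠ ⊥ := by
      rintro rfl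
      have := hA.sup_eq_top
      rw [sup_bot_eq] at this
      exact h1 ⟨p, hp, P.isPGroup'.of_equiv ((MulEquiv.subgroupCongr this).trans topEquiv)⟩
    have hcm : IsMulCommutative A := ⟨⟨fun a b => Subtype.ext <| by
      have : ⁅(a : G), (b : G)⁆ ∈ (P : Subgroup G) ⊓ A :=
        mem_inf.2 ⟨hP (commutator_mem_commutator (mem_top _) (mem_top _)),
          mul_mem (mul_mem (mul_mem a.2 b.2) (inv_mem a.2)) (inv_mem b.2)⟩
      rw [hA.disjoint.eq_bot, mem_bot, commutatorElement_eq_one_iff_mul_comm] at this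
      exact this⟩⟩
    have hn : A ≤ normalizer (commutator G : Set G) := by rw [normalizer_eq_top]; exact le_top
    have hcy : IsCyclic A := hf.isCyclic_of_comm hn hD0
    have hDe : ⁅A, (P : Subgroup G)⁆ = commutator G := by
      refine le_antisymm (commutator_mono le_top le_top) ?_
      rw [← hf.commutator_eq hn hA0, Subgroup.commutator_comm]
      exact commutator_mono le_rfl hP
    have hb : ((P : Subgroup G) ⊓ centralizer (A : Set G)) ⊓ commutator G = ⊥ := by
      rw [eq_bot_iff, ← hf.inf_centralizer_eq_bot hA0]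
      exact le_inf inf_le_right (inf_le_left.trans inf_le_right)
    refine ⟨p, this, P, A, hPn, hcy, hA0, hc, by rw [sup_comm, hA.sup_eq_top], ?_, ?_, ?_, ?_, ?_⟩
    · refine ⟨⟨fun a b => Subtype.ext ?_⟩⟩
      have : ⁅(a : G), (b : G)⁆ ∈ ((P : Subgroup G) ⊓ centralizer (A : Set G)) ⊓ commutator G :=
        mem_inf.2 ⟨mul_mem (mul_mem (mul_mem a.2 b.2) (inv_mem a.2)) (inv_mem b.2),
          commutator_mem_commutator (mem_top _) (mem_top _)⟩
      rw [hb, mem_bot, commutatorElement_eq_one_iff_mul_comm] at this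
      exact this
    · rw [hDe]; infer_instance
    · rw [hDe]
      refine le_antisymm (sup_le inf_le_left hP) fun x hx => ?_
      obtain ⟨⟨a, ha⟩, hg⟩ := hcy.exists_generator
      have ha1 : a ≠ 1 := by
        rintro rfl
        refine hA0 (eq_bot_iff.2 fun b hb => ?_)
        obtain ⟨k, hk⟩ := hg ⟨b, hb⟩
        simpa using (congrArg Subtype.val hk).symm
      obtain ⟨d, hd, e⟩ := exists_eq_commutator_of_fpf (hn ha) (hf a ha ha1)
        (commutator_mem_commutator (mem_top x) (mem_top a))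
      have h3 : Commute a (d⁻¹ * x) := by
        rw [commutatorElement_def, mul_left_inj] at e
        have : a * (d⁻¹ * x) = d⁻¹ * (d * a * d⁻¹) * x := by group
        rw [Commute, SemiconjBy, this, ← e]; group
      have h4 : d⁻¹ * x ∈ (P : Subgroup G) ⊓ centralizer (A : Set G) := by
        refine mem_inf.2 ⟨mul_mem (inv_mem (hP hd)) hx, fun b hb => ?_⟩
        obtain ⟨k, hk⟩ := hg ⟨b, hb⟩
        have : b = a ^ k := by simpa using (congrArg Subtype.val hk).symm
        rw [this]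
        exact h3.zpow_left k
      have : x = d * (d⁻¹ * x) := by group
      rw [this]
      exact mul_mem (mem_sup_right hd) (mem_sup_left h4)
    · rw [hDe]; exact hb
    · rw [hDe]; exact fpf_iff.1 hf
  · rintro (⟨r, hr, hG⟩ | hG | ⟨r, hr, P, A, hP, hA, -, hc, ht, hC, hD, hCD, -, hf⟩) x y χ hx hy
      ⟨p, q, a, b, hp, hq, hpq, ha, hb⟩
    · have := Fact.mk hr
      have key : ∀ {x : G} {p a : ℕ}, x ≠ 1 → p.Prime → orderOf x = p ^ a → p = r := fun {x p a} hx hp ha => by
        obtain ⟨k, hk⟩ := IsPGroup.iff_orderOf.1 hG x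
        have : a ≠ 0 := by rintro rfl; exact hx (orderOf_eq_one_iff.1 (by simpa using ha))
        exact (Nat.prime_dvd_prime_iff_eq hp hr).1 (hp.dvd_of_dvd_pow (hk ▸ ha ▸ dvd_pow_self p this))
      exact absurd ((key hx hp ha).trans (key hy hq hb).symm) hpq
    · refine lin_mul χ.2 (χ.2.degree_eq_one_iff.2 ?_) x y
      rw [_root_.commutator_def, commutator_le]
      intro a _ b _
      rw [commutatorElement_eq_one_iff_mul_comm.2 (hG.is_comm.comm a b)]
      exact one_mem _
    · by_cases h1 : (χ : G → ℂ) 1 = 1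
      · exact lin_mul χ.2 h1 x y
      have hv : ∀ g, g ∉ (P : Subgroup G) → (χ : G → ℂ) g = 0 := fun g hg =>
        vanish χ.2 h1 fun d hd => conv P A hA hc ht hC hD hCD hf hg hd
      have key : ∀ {x : G} {p a : ℕ}, x ≠ 1 → p.Prime → orderOf x = p ^ a → x ∈ (P : Subgroup G) → p = r :=
        fun {x p a} hx hp ha hm => by
        obtain ⟨k, hk⟩ := IsPGroup.iff_orderOf.1 P.isPGroup' ⟨x, hm⟩
        rw [← Subgroup.orderOf_coe] at hk
        have : a ≠ 0 := by rintro rfl; exact hx (orderOf_eq_one_iff.1 (by simpa using ha))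
        have h3 : p ∣ r ^ k := by rw [← hk]; exact ha ▸ dvd_pow_self p this
        exact (Nat.prime_dvd_prime_iff_eq hp hr.out).1 (hp.dvd_of_dvd_pow h3)
      have hnb : ¬ (x ∈ (P : Subgroup G) ∧ y ∈ (P : Subgroup G)) := fun h =>
        hpq ((key hx hp ha h.1).trans (key hy hq hb h.2).symm)
      have hxy : x * y ∉ (P : Subgroup G) := fun h => by
        have e : QuotientGroup.mk' (P : Subgroup G) x = (QuotientGroup.mk' (P : Subgroup G) y)⁻¹ := by
          rw [← mul_eq_one_iff_eq_inv, ← map_mul]; exact (QuotientGroup.eq_one_iff _).2 h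
        have d1 := orderOf_map_dvd (QuotientGroup.mk' (P : Subgroup G)) x
        have d2 := orderOf_map_dvd (QuotientGroup.mk' (P : Subgroup G)) y
        rw [← orderOf_inv, ← e, hb] at d2
        rw [ha] at d1
        have e1 := orderOf_eq_one_iff.1 (Nat.eq_one_of_dvd_coprimes
          (((Nat.coprime_primes hp hq).2 hpq).pow a b) d1 d2)
        have hx' : x ∈ (P : Subgroup G) := (QuotientGroup.eq_one_iff _).1 e1
        exact hnb ⟨hx', by simpa using mul_mem (inv_mem hx') h⟩
      rw [hv _ hxy]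
      by_cases hx' : x ∈ (P : Subgroup G)
      · rw [hv y fun h => hnb ⟨hx', h⟩, mul_zero]
      · rw [hv x hx', zero_mul]

end Cfsg.Agent.S4756
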