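import Cfsg.Statements.S4757
import Cfsg.Agent.Lib.Clifford.PBlk

set_option autoImplicit false
open Cfsg

namespace Cfsg.Agent.S4757

open Cfsg.Lib Cfsg.Lib.Clifford Cfsg.Lib.Char Finset Subgroup ComplexConjugate
open scoped commutatorElement

/-- Let u ≠ 1 be an element of the finite group G and c a complex number such that every non-principal irreducible character χ satisfies χ(1) − χ(u) = c or χ(u) = 0. Then the following are equivalent: (a) u has order 2, G is generated by u together with O(G), the largest normal subgroup of G of odd order, and the centralizer of u is {1, u}; (b) G is not perfect; (c) c = 2. -/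
theorem result {G : Type*} [Group G] [Finite G] (u : G) (hu : u ≠ 1) (c : ℂ) (hyp : ∀ χ : Cfsg.IrrCharacter G, (χ : G → ℂ) ≠ (fun _ => (1 : ℂ)) → ((χ : G → ℂ) 1 - (χ : G → ℂ) u = c ∨ (χ : G → ℂ) u = 0)) : ((orderOf u = 2 ∧ Subgroup.zpowers u ⊔ Cfsg.oddCore G = ⊤ ∧ Subgroup.centralizer ({u} : Set G) = Subgroup.zpowers u) ↔ commutator G ≠ ⊤) ∧ (commutator G ≠ ⊤ ↔ c = 2) := by
  classical
  have h1 : (1 : G → ℂ) ∈ Irr (⊤ : Subgroup G) := by simpa [cut_top] using cut_one_mem (⊤ : Subgroup G)
  obtain ⟨S, hS⟩ : ∃ S : Finset (G → ℂ), ∀ χ, χ ∈ S ↔ χ ∈ Irr (⊤ : Subgroup G) ∧ χ ≠ 1 ∧ χ u ≠ 0 :=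
    ⟨(Irr ⊤).filter fun χ => χ ≠ 1 ∧ χ u ≠ 0, by simp⟩
  have hv : ∀ χ ∈ S, χ u = charDegree χ - c := fun χ hχ => by
    obtain ⟨h2, h3, h4⟩ := (hS χ).1 hχ
    rcases hyp ⟨χ, mem_Irr_top.1 h2⟩ h3 with h | h
    · rw [← h, ← (irrOn_of_mem h2).one_eq]; simp
    · exact absurd h h4
  have hsum : ∀ {A : Type} [AddCommMonoid A] (f : (G → ℂ) → A), (∀ χ, χ u = 0 → f χ = 0) →
      ∑ χ ∈ Irr (⊤ : Subgroup G), f χ = f 1 + ∑ χ ∈ S, f χ := by
    intro A _ f hf
    rw [← sum_insert (f := f) (fun h => ((hS _).1 h).2.1 rfl)]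
    refine (sum_subset (fun χ hχ => ?_) fun χ hχ h => hf χ ?_).symm
    · rcases Finset.mem_insert.1 hχ with rfl | h
      · exact h1
      · exact ((hS χ).1 h).1
    · by_contra h0
      rw [Finset.mem_insert, hS] at h
      tauto
  have hpos : ∀ χ ∈ S, 0 < charDegree χ := fun χ hχ => (irrOn_of_mem ((hS χ).1 hχ).1).deg_pos
  have h0 : 1 + ∑ χ ∈ S, (charDegree χ : ℂ) * (charDegree χ - c) = 0 := by
    have := sum_deg_mul_apply (⊤ : Subgroup G) u
    rw [if_neg hu, hsum _ fun χ h => by rw [h, mul_zero]] at this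
    rw [← this]
    simp only [Pi.one_apply, mul_one]
    congr 1
    exact sum_congr rfl fun χ hχ => by rw [hv χ hχ, (irrOn_of_mem ((hS χ).1 hχ).1).one_eq]
  have hcard := card_IrrKer_of_abelian (K := ⊤) (N := _root_.commutator G) le_top
    (nrm_of_normal _ _) le_rfl
  rw [relIndex_top_right] at hcard
  have hlin : ∀ χ, χ ∈ IrrKer ⊤ (_root_.commutator G) ↔ χ ∈ Irr (⊤ : Subgroup G) ∧ LinOn ⊤ χ :=
    fun χ => by
      rw [mem_IrrKer]
      exact and_congr_right fun h => (irrOn_of_mem h).linOn_iff.symm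
  have h1' : (1 : G → ℂ) ∈ IrrKer ⊤ (_root_.commutator G) := (hlin _).2 ⟨h1, linOn_one _⟩
  have hb : _root_.commutator G ≠ ⊤ ↔ ∃ lam ∈ IrrKer ⊤ (_root_.commutator G), lam ≠ 1 := by
    rw [Ne, ← index_eq_one, ← hcard, card_eq_one]
    constructor
    · intro h
      by_contra hc
      push Not at hc
      exact h ⟨1, eq_singleton_iff_unique_mem.2 ⟨h1', hc⟩⟩
    · rintro ⟨lam, h, h2⟩ ⟨a, ha⟩
      rw [ha, Finset.mem_singleton] at h h1'
      exact h2 (h.trans h1'.symm)
  have hlS : ∀ lam ∈ IrrKer ⊤ (_root_.commutator G), lam ≠ 1 → lam ∈ S ∧ lam u = 1 - c := by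
    intro lam h h2
    obtain ⟨h3, h4⟩ := (hlin _).1 h
    have := (hS _).2 ⟨h3, h2, h4.ne_zero (Subgroup.mem_top u)⟩
    exact ⟨this, by rw [hv _ this, h4.deg, Nat.cast_one]⟩
  have hbc : _root_.commutator G ≠ ⊤ → c = 2 := by
    intro h
    obtain ⟨lam, h2, h3⟩ := hb.1 h
    obtain ⟨h4, h5⟩ := hlS lam h2 h3
    have h6 := ((hlin _).1 h2).2.mul_conj (Subgroup.mem_top u)
    have h7 : c * ((∑ χ ∈ S, charDegree χ : ℕ) : ℂ) = ((1 + ∑ χ ∈ S, charDegree χ ^ 2 : ℕ) : ℂ) := by
      push_cast
      simp only [mul_sub, sum_sub_distrib, ← sum_mul, ← sq] at h0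
      linear_combination -h0
    have h8 : ((∑ χ ∈ S, charDegree χ : ℕ) : ℂ) ≠ 0 := Nat.cast_ne_zero.2 (sum_pos hpos ⟨_, h4⟩).ne'
    have h9 : conj c = c := by
      rw [eq_div_of_mul_eq h8 h7, map_div₀, map_natCast, map_natCast]
    have h10 : c ≠ 0 := by
      rintro rfl
      rw [zero_mul, eq_comm, Nat.cast_eq_zero] at h7
      omega
    rw [h5, map_sub, map_one, h9] at h6
    apply mul_left_cancel₀ h10
    linear_combination h6
  have hc2 : c = 2 → (1 : ℤ) + ∑ χ ∈ S, (charDegree χ : ℤ) * (charDegree χ - 2) = 0 := by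
    rintro rfl
    exact_mod_cast h0
  have hcb : c = 2 → _root_.commutator G ≠ ⊤ := by
    intro h
    rw [hb]
    by_contra hc
    push Not at hc
    have h2 := hc2 h
    have : 0 ≤ ∑ χ ∈ S, (charDegree χ : ℤ) * (charDegree χ - 2) := sum_nonneg fun χ hχ => by
      obtain ⟨h3, h4, -⟩ := (hS χ).1 hχ
      have h5 : charDegree χ ≠ 1 := fun h5 =>
        h4 (hc χ ((hlin _).2 ⟨h3, (irrOn_of_mem h3).charOn.linOn_of_deg h5⟩))
      have := hpos χ hχ
      exact mul_nonneg (by positivity) (by omega)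
    omega
  refine ⟨⟨?_, fun h => ?_⟩, hbc, hcb⟩
  · rintro ⟨h2, h3, -⟩ h4
    have h5 : _root_.commutator G ≤ oddCore G := by
      refine commutator_le_of_sup (K := ⊤) (A := zpowers u) (N := oddCore G) ?_ h3
        (nrm_of_normal _ _) (nrm_of_normal _ _) fun g _ x hx =>
          Subgroup.mul_mem _ (Normal.conj_mem inferInstance x hx g) (Subgroup.inv_mem _ hx)
      rintro _ ⟨i, rfl⟩ _ ⟨j, rfl⟩
      exact zpow_mul_comm u i j
    have h6 := Core.odd_card_oddCore G
    rw [h4, top_le_iff] at h5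
    rw [h5, Subgroup.card_top] at h6
    exact (Nat.not_even_iff_odd.2 h6) (even_iff_two_dvd.2 (h2 ▸ orderOf_dvd_natCard u))
  · have hc := hbc h
    obtain ⟨lam, h2, h3⟩ := hb.1 h
    have hl := ((hlin _).1 h2).2
    obtain ⟨h4, h5⟩ := hlS lam h2 h3
    have h6 : IrrKer ⊤ (_root_.commutator G) = {1, lam} := by
      ext μ
      rw [Finset.mem_insert, Finset.mem_singleton]
      refine ⟨fun hμ => ?_, by rintro (rfl | rfl) <;> assumption⟩
      by_contra hne
      rw [not_or] at hne
      have hm := ((hlin _).1 hμ).2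
      have h7 := (hlS _ ((hlin _).2 ⟨mul_lin_mem_Irr ((hlin _).1 hμ).1 hl.star, hm.mul hl.star⟩)
        (fun e => hne.2 (funext fun x => by
          have := congrFun e x
          have h8 := hl.mul_conj (Subgroup.mem_top x)
          simp only [Pi.mul_apply, Pi.star_apply, Pi.one_apply, Complex.star_def] at this
          apply mul_right_cancel₀ (right_ne_zero_of_mul (h8 ▸ one_ne_zero))
          rw [this, h8]))).2
      simp only [Pi.mul_apply, Pi.star_apply, Complex.star_def, (hlS μ hμ hne.1).2, h5, hc] at h7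
      norm_num at h7
    rw [h6, card_pair h3.symm] at hcard
    have h7 : S = {lam} := by
      refine eq_singleton_iff_unique_mem.2 ⟨h4, fun χ hχ => ?_⟩
      by_contra hne
      have h8 := hc2 hc
      rw [← add_sum_erase _ _ h4, hl.deg] at h8
      have h9 : ∀ χ ∈ S.erase lam, 2 < charDegree χ := fun χ hχ => by
        obtain ⟨h10, h11⟩ := mem_erase.1 hχ
        obtain ⟨h12, h13, h14⟩ := (hS χ).1 h11
        have h5 : charDegree χ ≠ 1 := fun h5 => by
          have := (hlin _).2 ⟨h12, (irrOn_of_mem h12).charOn.linOn_of_deg h5⟩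
          rw [h6, Finset.mem_insert, Finset.mem_singleton] at this
          tauto
        have h15 : charDegree χ ≠ 2 := fun e => h14 (by rw [hv χ h11, e, hc]; simp)
        have := hpos χ h11
        omega
      have : 0 < ∑ χ ∈ S.erase lam, (charDegree χ : ℤ) * (charDegree χ - 2) :=
        sum_pos (fun χ hχ => by have := h9 χ hχ; exact mul_pos (by omega) (by omega))
          ⟨χ, mem_erase.2 ⟨hne, hχ⟩⟩
      omega
    have h8 := sum_irr_normSq (H := ⊤) (Subgroup.mem_top u)
    rw [hsum _ (fun χ h => by rw [h]; simp), h7, sum_singleton, hl.norm_eq (Subgroup.mem_top u),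
      top_inf_eq] at h8
    have h9 : Nat.card (centralizer ({u} : Set G)) = 2 := by
      have : ((2 : ℕ) : ℝ) = Nat.card (centralizer ({u} : Set G)) := by rw [← h8]; norm_num
      exact_mod_cast this.symm
    have h10 : zpowers u ≤ centralizer ({u} : Set G) :=
      zpowers_le.2 (mem_centralizer_singleton_iff.2 rfl)
    have h11 : orderOf u = 2 := by
      have := Subgroup.card_dvd_of_le h10
      rw [Nat.card_zpowers, h9, Nat.dvd_prime Nat.prime_two, orderOf_eq_one_iff] at this
      tauto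
    have h12 : centralizer ({u} : Set G) = zpowers u :=
      (Subgroup.eq_of_le_of_card_ge h10 (by rw [Nat.card_zpowers, h9, h11])).symm
    refine ⟨h11, ?_, h12⟩
    have : Fact (Nat.Prime 2) := ⟨Nat.prime_two⟩
    have h13 : IsPGroup 2 (zpowers u) := IsPGroup.of_card (n := 1) (by rw [Nat.card_zpowers, h11, pow_one])
    have h14 : Transfer.SylowIn 2 (zpowers u) ⊤ := by
      refine Transfer.sylowIn_of_maximal le_top h13 fun Q hQ h14 _ => ?_
      by_contra hc
      obtain ⟨x, hx, hx'⟩ := SetLike.exists_of_lt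
        (Transfer.lt_inf_normalizer hQ (lt_of_le_not_ge h14 hc))
      apply hx'
      rw [← h12, mem_centralizer_singleton_iff]
      have h15 := Transfer.conj_mem_of_mem_normalizer hx.2 (mem_zpowers u)
      rw [← mul_inv_eq_iff_eq_mul]
      have h16 : x * u * x⁻¹ = 1 ∨ x * u * x⁻¹ = u := by
        rw [mem_zpowers_iff_mem_range_orderOf, h11] at h15
        obtain ⟨i, hi, e⟩ := Finset.mem_image.1 h15
        rw [Finset.mem_range] at hi
        interval_cases i
        · exact Or.inl (by rw [← e, pow_zero])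
        · exact Or.inr (by rw [← e, pow_one])
      rcases h16 with h | h
      · exact absurd (by simpa using h) hu
      · exact h
    have hu' : u ∉ _root_.commutator G := fun hu' => by
      have := (mem_IrrKer.1 h2).2 u hu'
      rw [h5, hl.2, hc] at this
      norm_num at this
    have h15 : Odd (Nat.card (_root_.commutator G)) := by
      have h16 := h14.card_eq_pow
      rw [Nat.card_zpowers, h11, Subgroup.card_top, ← card_mul_index (_root_.commutator G), ← hcard,
        Nat.factorization_mul Nat.card_pos.ne' two_ne_zero] at h16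
      rw [← Nat.not_even_iff_odd, even_iff_two_dvd]
      intro h17
      have h18 := Nat.prime_two.factorization_pos_of_dvd Nat.card_pos.ne' h17
      simp only [Finsupp.coe_add, Pi.add_apply, Nat.prime_two.factorization_self] at h16
      have := Nat.pow_right_injective le_rfl (h16.symm.trans (pow_one 2).symm)
      omega
    rw [eq_top_iff]
    intro g _
    have h16 := Core.le_oddCore h15
    by_cases hg : g ∈ _root_.commutator G
    · exact Subgroup.mem_sup_right (h16 hg)
    · have := (Subgroup.mul_mem_iff_of_index_two hcard.symm (a := u⁻¹) (b := g)).2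
        (by rw [Subgroup.inv_mem_iff]; tauto)
      rw [← mul_inv_cancel_left u g]
      exact Subgroup.mul_mem_sup (mem_zpowers u) (h16 this)

end Cfsg.Agent.S4757
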