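import Cfsg.Statements.S4758
import Cfsg.Agent.Lib.Small.FourU
import Cfsg.Agent.Lib.Hall.FC6
import Cfsg.Agent.Lib.Coprime.FrobCompl

set_option autoImplicit false
open Cfsg

namespace Cfsg.Agent.S4758

open Cfsg.Lib Cfsg.Lib.Char Cfsg.Lib.Small.F4 Cfsg.Lib.Transfer Subgroup
open scoped ComplexConjugate

abbrev A5 := alternatingGroup (Fin 5)

theorem a5_conj : ∀ x y : A5, x * x = 1 → x ≠ 1 → y * y = 1 → y ≠ 1 → ∃ g, g * x * g⁻¹ = y := by decide +kernel

variable {G : Type*} [Group G] [Fintype G] {u : G}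

theorem core_A5 (h : Core u) (hu : u ≠ 1) : Nonempty (G ≃* A5) := by
  classical
  obtain ⟨α, β, ω, hα, hβ, hn, hω, d, v, hT⟩ := h.exists_five hu
  have S := h.hy.sum_eq hu hα hβ hn hω d v hT
  have h4 : Nat.card (centralizer ({u} : Set G)) = 4 := by
    have := (column_orthogonality_of_isConj (IsConj.refl u)).symm.trans (S fun χ => χ u)
    simp only [hα.v, hβ.v, v] at this
    exact_mod_cast (show (Nat.card (centralizer ({u} : Set G)) : ℂ) = (4 : ℕ) by rw [this]; simp; norm_num)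
  have hs : ¬ Group.IsSolvable G := fun _ => by
    haveI : Nontrivial G := ⟨_, _, hu⟩
    refine (Group.IsSolvable.commutator_lt_top_of_nontrivial G).ne (eq_top_iff.2 fun g _ =>
      mem_of_forall_irr_le_charKer _ fun χ h1 h2 => ?_)
    by_contra k
    obtain ⟨d, -, e, -, h3, -⟩ := h.hy.exists_dv h1 fun k' => k (by simp [k'])
    rw [h1.degree_eq_one_iff.2 h2] at e
    have : d = 1 := by exact_mod_cast e.symm
    omega
  set X := Finset.univ.filter fun x : G => IsConj (x * u * x⁻¹ * u) u with hX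
  have h1 : X.card ≤ 4 * ((Finset.univ.filter (· ∈ centralizer ({u} : Set G))) \ {1, u}).card := by
    refine Finset.card_le_mul_card_image_of_maps_to (f := fun x => x * u * x⁻¹) (fun x hx => ?_) 4 fun y _ => ?_
    · obtain ⟨c, hc⟩ := isConj_iff.1 (Finset.mem_filter.1 hx).2.symm
      have k1 : x * u * x⁻¹ * u * (x * u * x⁻¹ * u) = 1 := by
        rw [← hc, conj_mul, h.sq, mul_one, mul_inv_cancel]
      have k2 : x * u * x⁻¹ * (x * u * x⁻¹) = 1 := by rw [conj_mul, h.sq, mul_one, mul_inv_cancel]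
      simp only [Finset.mem_sdiff, Finset.mem_filter, Finset.mem_univ, true_and, mem_centralizer_singleton_iff,
        Finset.mem_insert, Finset.mem_singleton, not_or, conj_eq_one_iff]
      refine ⟨?_, hu, fun k => hu ?_⟩
      · rw [← inv_eq_of_mul_eq_one_right k1, mul_inv_rev, inv_eq_of_mul_eq_one_right k2,
          inv_eq_of_mul_eq_one_right h.sq]
      · rwa [k, h.sq, conj_eq_one_iff] at hc
    · by_cases k : IsConj u y
      · rw [← h4, ← card_conjugators k, Nat.card_eq_fintype_card, Fintype.card_subtype]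
        exact Finset.card_le_card fun x hx => by simpa using (Finset.mem_filter.1 hx).2
      · rw [Finset.card_eq_zero.2 (Finset.filter_eq_empty_iff.2 fun x _ e => k (isConj_iff.2 ⟨x, e⟩))]
        omega
  rw [Finset.card_sdiff_of_subset (by simp [Finset.subset_iff, mem_centralizer_singleton_iff]), Finset.card_pair hu.symm,
    show (Finset.univ.filter (· ∈ centralizer ({u} : Set G))).card = 4 by
      rw [← Fintype.card_subtype, ← Nat.card_eq_fintype_card, h4]] at h1
  have h2 : ∑ x : G, ∑ χ : IrrCharacter G, χ.1 (x * u * x⁻¹ * u) * conj (χ.1 u) = X.card * 4 := by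
    rw [hX, Finset.card_filter, Nat.cast_sum, Finset.sum_mul]
    refine Finset.sum_congr rfl fun x _ => ?_
    split_ifs with k
    · rw [column_orthogonality_of_isConj k, card_centralizer_eq_of_isConj k, h4]; simp
    · rw [column_orthogonality_of_not_isConj k]; simp
  rw [Finset.sum_comm] at h2
  simp only [← Finset.sum_mul, fun χ : IrrCharacter G => χ.2.sum_conj_mul u u] at h2
  rw [S fun χ => Nat.card G * χ u * χ u / χ 1] at h2
  simp only [hα.v, hβ.v, v, hα.d, hβ.d, d, Pi.one_apply] at h2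
  have h3 : 2 * Nat.card G = 15 * X.card := by
    exact_mod_cast (show 2 * (Nat.card G : ℂ) = 15 * X.card by push_cast at h2; linear_combination 15 / 4 * h2)
  refine Hall.equiv_A5_of_not_solvable ?_ hs
  by_contra k
  exact hs (Hall.solvable_of_card_lt_sixty _ G rfl (by omega))

theorem exists_pi (h : Hy u) (hu : u ≠ 1) : ∃ π : G →* A5, Function.Surjective π ∧ π.ker = normalClosure {u * u} ∧
    π u ≠ 1 ∧ Nat.card (centralizer ({u} : Set G)) = 4 ∧ ∀ n ∈ π.ker, IsConj (n * u) u := by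
  set N := normalClosure ({u * u} : Set G) with hN
  have h1 : ∀ θ, T u θ → N ≤ charKer θ := fun θ hθ => by
    haveI := hθ.irr.charKer_normal
    refine normalClosure_le_normal (Set.singleton_subset_iff.2 (hθ.irr.mem_charKer.2 ?_))
    rw [h.sq3 hθ.irr.isCharacter (by simpa using hθ.d)]
    simp [hθ.d, hθ.v]; norm_num
  obtain ⟨θ, hθ⟩ := h.exists_T hu
  have h2 : (u : G ⧸ N) ≠ 1 := fun k => by
    have := hθ.irr.mem_charKer.1 (h1 θ hθ ((QuotientGroup.eq_one_iff u).1 k))
    rw [hθ.d, hθ.v] at this; norm_cast at this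
  haveI := Fintype.ofFinite (G ⧸ N)
  have hc : Core (u : G ⧸ N) := ⟨fun ψ h3 h4 => h _ h3.inflate fun k => h4 (funext fun x => by
    obtain ⟨x, rfl⟩ := QuotientGroup.mk_surjective x
    exact congrFun k x), (QuotientGroup.eq_one_iff (u * u)).2 (subset_normalClosure rfl)⟩
  obtain ⟨e⟩ := core_A5 hc h2
  obtain ⟨α, β, ω, hα, hβ, hn, hω, d, v, hT⟩ := hc.exists_five h2
  have S := h.sum_eq hu (α := fun g => α g) (β := fun g => β g) (ω := fun g => ω g) ⟨hα.irr.inflate, hα.d, hα.v⟩
    ⟨hβ.irr.inflate, hβ.d, hβ.v⟩ (fun k => hn (funext fun x => by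
      obtain ⟨x, rfl⟩ := QuotientGroup.mk_surjective x
      exact congrFun k x)) hω.inflate d v fun τ hτ => by
    obtain ⟨ψ, h3, rfl⟩ := hτ.irr.exists_quotient N (h1 τ hτ)
    rcases hT ψ ⟨h3, hτ.d, hτ.v⟩ with rfl | rfl <;> simp
  have hk : (e.toMonoidHom.comp (QuotientGroup.mk' N)).ker = N := by
    rw [← MonoidHom.comap_ker, (MonoidHom.ker_eq_bot_iff _).2 e.injective, MonoidHom.comap_bot, QuotientGroup.ker_mk']
  have h5 : ∀ n ∈ N, ∑ χ : IrrCharacter G, χ.1 (n * u) * conj (χ.1 u) = (4 : ℕ) := fun n hn => by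
    rw [S fun χ => χ (n * u)]
    simp only [QuotientGroup.mk_mul, (QuotientGroup.eq_one_iff n).2 hn, one_mul, hα.v, hβ.v, v]
    simp; norm_num
  refine ⟨_, e.surjective.comp (QuotientGroup.mk'_surjective N), hk, by simpa using h2, ?_, fun n hn => ?_⟩
  · have := h5 1 (one_mem _)
    rw [one_mul, column_orthogonality_of_isConj (IsConj.refl u)] at this
    exact_mod_cast this
  · by_contra k
    have := h5 n (hk ▸ hn)
    rw [column_orthogonality_of_not_isConj k] at this
    norm_num at this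

theorem eq_sq {s c : G} (hs : orderOf s = 4) (hc : c ∈ zpowers s) (h2 : c * c = 1) : c = 1 ∨ c = s * s := by
  classical
  have h1 : s ^ 2 ≠ 1 := pow_ne_one_of_lt_orderOf (by norm_num) (by omega)
  have h4 : s ^ 4 = 1 := hs ▸ pow_orderOf_eq_one s
  obtain ⟨k, hk, rfl⟩ := Finset.mem_image.1 (mem_zpowers_iff_mem_range_orderOf.1 hc)
  rw [hs, Finset.mem_range] at hk
  interval_cases k
  · simp
  · exact (h1 (by simpa [sq] using h2)).elim
  · simp [sq]
  · exact (h1 (by rw [← h2, ← pow_add, show 3 + 3 = 4 + 2 from rfl, pow_add, h4, one_mul])).elim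

theorem odd_sq {k : G} (hk : k ∈ oddCore G) {n : ℕ} (h : k ^ 2 ^ n = 1) : k = 1 := by
  have h1 : orderOf k ∣ Nat.card (oddCore G) := by
    rw [← orderOf_mk k hk]; exact orderOf_dvd_natCard _
  exact orderOf_eq_one_iff.1 (Nat.eq_one_of_dvd_coprimes
    ((Nat.coprime_two_right.2 (Core.odd_card_oddCore G)).pow_right n) h1 (orderOf_dvd_of_pow_eq_one h))

theorem four (π : G →* A5) (hs : Function.Surjective π) (hO : oddCore G ≤ π.ker) (huu : π u * π u = 1)
    (hπ : π u ≠ 1) (h4 : Nat.card (centralizer ({u} : Set G)) = 4) (hc : ∀ n ∈ π.ker, IsConj (n * u) u)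
    (h2 : u * u ≠ 1) :
    IsMulCommutative (oddCore G) ∧ Nonempty (G ⧸ oddCore G ≃* Hall.SL25) ∧ orderOf u = 4 := by
  have c1 : ∀ g, π g * π g = 1 → π g ≠ 1 → IsConj g u := fun g k1 k2 => by
    obtain ⟨y, hy⟩ := a5_conj _ _ k1 k2 huu hπ
    obtain ⟨x, rfl⟩ := hs y
    have := hc (x * g * x⁻¹ * u⁻¹) (by simp [MonoidHom.mem_ker, hy])
    rw [inv_mul_cancel_right] at this
    exact (isConj_iff.2 ⟨x, rfl⟩).trans this
  have zc : ∀ g : G, zpowers g ≤ centralizer {g} := fun g => zpowers_le.2 (mem_centralizer_singleton_iff.2 rfl)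
  have ou : orderOf u = 4 := by
    have := card_dvd_of_le (zc u)
    rw [Nat.card_zpowers, h4] at this
    obtain ⟨i, hi, e⟩ := (Nat.dvd_prime_pow Nat.prime_two (m := 2)).1 this
    have k := pow_orderOf_eq_one u
    interval_cases i
    · exact (hπ (by rw [orderOf_eq_one_iff.1 e, map_one])).elim
    · exact (h2 (by rwa [e, pow_one, sq] at k)).elim
    · exact e
  have c2 : ∀ g, π g * π g = 1 → π g ≠ 1 → orderOf g = 4 ∧ centralizer {g} = zpowers g := fun g k1 k2 => by
    obtain ⟨x, hx⟩ := isConj_iff.1 (c1 g k1 k2)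
    have : orderOf g = 4 := by rw [← ou, ← hx]; exact ((MulAut.conj x).orderOf_eq g).symm
    exact ⟨this, (eq_of_le_of_card_ge (zc g) (by
      rw [card_centralizer_eq_of_isConj (c1 g k1 k2), h4, Nat.card_zpowers, this])).symm⟩
  obtain ⟨P, hP, hT⟩ := exists_sylowIn_ge (p := 2) (Q := zpowers u) (IsPGroup.of_card (n := 2) (by rw [Nat.card_zpowers, ou]; rfl)) le_top
  have uP := zpowers_le.1 hP
  have c3 : ∀ t ∈ P, π t * π t = 1 := fun t ht => by
    obtain ⟨k, hk⟩ := hT.isPGroup ⟨t, ht⟩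
    have k1 : π t ^ 2 ^ k = 1 := by rw [← map_pow, show t ^ 2 ^ k = 1 from congrArg Subtype.val hk, map_one]
    have k2 : ∀ n, n.Coprime 2 → π t ^ n = 1 → π t * π t = 1 := fun n hn e => by
      rw [orderOf_eq_one_iff.1 (Nat.eq_one_of_dvd_coprimes (hn.pow_right k) (orderOf_dvd_of_pow_eq_one e)
        (orderOf_dvd_of_pow_eq_one k1)), mul_one]
    rcases Linear.A5_pow (π t) with e | e | e
    exacts [sq (π t) ▸ e, k2 3 (by norm_num) e, k2 5 (by norm_num) e]
  obtain ⟨t, tP, t1, t2⟩ : ∃ t ∈ P, π t ≠ 1 ∧ π (u * t) ≠ 1 := by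
    by_contra! k
    have k1 : P.map π ≤ zpowers (π u) := by
      rintro _ ⟨t, ht, rfl⟩
      by_cases e : π t = 1
      · simp [e]
      · rw [← inv_eq_of_mul_eq_one_right ((map_mul π u t).symm.trans (k t ht e))]; simp
    have k2 := card_dvd_of_le k1
    have k3 := (hT.map π).card_eq_pow
    rw [map_top_of_surjective _ hs, card_top, Linear.card_A5] at k3
    rw [k3, Nat.card_zpowers, orderOf_eq_prime (p := 2) (by rw [sq, huu]) hπ,
      show Nat.factorization 60 2 = 2 by
        rw [show 60 = 2 ^ 2 * 15 from rfl, Nat.factorization_mul (by norm_num) (by norm_num), Nat.prime_two.factorization_pow]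
        simp [Nat.factorization_eq_zero_of_not_dvd]] at k2
    norm_num at k2
  obtain ⟨c, hc'⟩ : ∃ c : center P, orderOf c = 2 := by
    haveI : Nontrivial P := ⟨⟨u, uP⟩, 1, fun e => h2 (by rw [show u = 1 from congrArg Subtype.val e, mul_one])⟩
    haveI := hT.isPGroup.center_nontrivial
    obtain ⟨n, hn, e⟩ := (hT.isPGroup.to_subgroup (center P)).nontrivial_iff_card.1 inferInstance
    exact exists_prime_orderOf_dvd_card' 2 (e ▸ dvd_pow_self 2 hn.ne')
  have cc : ∀ s ∈ P, s * c.1.1 = c.1.1 * s := fun s hs => congrArg Subtype.val (mem_center_iff.1 c.2 ⟨s, hs⟩)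
  have oc : orderOf c.1.1 = 2 := by rw [orderOf_coe, orderOf_coe, hc']
  generalize c.1.1 = z at cc oc
  have z2 : z * z = 1 := by rw [← sq, ← oc, pow_orderOf_eq_one]
  have z1 : z ≠ 1 := fun e => by simp [e] at oc
  have c4 : ∀ s ∈ P, π s ≠ 1 → s * s = z := fun s hs k =>
    ((eq_sq (c2 s (c3 s hs) k).1 ((c2 s (c3 s hs) k).2 ▸ mem_centralizer_singleton_iff.2 (cc s hs).symm) z2).resolve_left
      z1).symm
  have c5 : ∀ a ∈ P ⊓ π.ker, a = 1 ∨ a = z := fun a ha => by
    have k : ∀ s ∈ P, π s ≠ 1 → a * s = s * a⁻¹ := fun s hs k => by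
      have := (c4 (s * a) (mul_mem hs ha.1) (by simpa [show π a = 1 from ha.2] using k)).trans (c4 s hs k).symm
      rw [eq_mul_inv_iff_mul_eq, ← mul_right_inj s, ← this]; group
    have k1 : a⁻¹ = a := by
      have e := k _ (mul_mem uP tP) t2
      rw [← mul_assoc, k u uP hπ, mul_assoc, mul_assoc, mul_right_inj, ← k t tP t1] at e
      exact mul_right_cancel e
    rw [← c4 u uP hπ]
    exact eq_sq ou ((c2 u huu hπ).2 ▸ mem_centralizer_singleton_iff.2 (by rw [k u uP hπ, k1]))
      (mul_eq_one_iff_inv_eq.2 k1)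
  have hT' := hT.inf_of_le (N := π.ker) (by rw [normalizer_eq_top]) le_top
  have c6 : resOf 2 π.ker ≤ oddCore G := by
    haveI := resOf_normal (p := 2) π.ker
    refine Core.le_oddCore (Nat.coprime_two_right.1 (hT'.pnil_of_no_fusion fun x hx g _ k => ⟨1, one_mem _, ?_⟩).coprime)
    rcases c5 x hx with rfl | e
    · simp
    · rcases c5 _ k with k | k
      · exact (z1 (e ▸ conj_eq_one_iff.1 k)).elim
      · rw [k, e]; simp
  have zO : z ∉ oddCore G := fun k => z1 (odd_sq k (n := 1) (by simp [sq, z2]))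
  refine ⟨Coprime.isMulCommutative_of_fpf_involution (s := z) (by rw [normalizer_eq_top]; trivial) z2 ?_, ?_, ou⟩
  · have k : ∀ s ∈ P, π s ≠ 1 → ∀ k ∈ oddCore G ⊓ centralizer {z}, s * k * s⁻¹ = k⁻¹ := fun s hs e k hk => by
      obtain ⟨x, hx, rfl⟩ := Coprime.exists_eq_commutator_of_fpf (r := s) (inf_normalizer_le_normalizer_inf ⟨by
        rw [normalizer_eq_top]; trivial, le_normalizer (mem_centralizer_singleton_iff.2 (cc s hs))⟩)
        (eq_bot_iff.2 fun x hx => odd_sq hx.1.1 (n := 2) (by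
          obtain ⟨i, rfl⟩ := (c2 s (c3 s hs) e).2 ▸ hx.2
          rw [← zpow_natCast, ← zpow_mul, mul_comm, zpow_mul, zpow_natCast, show 2 ^ 2 = 4 from rfl,
            ← (c2 s (c3 s hs) e).1, pow_orderOf_eq_one, one_zpow])) hk
      have := mem_centralizer_singleton_iff.1 hx.2
      rw [← c4 s hs e] at this
      calc _ = s * x * s⁻¹ * (s * s * x⁻¹) * (s * s)⁻¹ := by group
        _ = s * x * s⁻¹ * (x⁻¹ * (s * s)) * (s * s)⁻¹ := by rw [(show Commute x (s * s) from this).inv_left.eq]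
        _ = _ := by group
    refine eq_bot_iff.2 fun a ha => odd_sq ha.1 (n := 1) ?_
    have e := k _ (mul_mem uP tP) t2 a ha
    rw [show u * t * a * (u * t)⁻¹ = u * (t * a * t⁻¹) * u⁻¹ by group, k t tP t1 a ha, k u uP hπ _ (inv_mem ha),
      inv_inv] at e
    rw [pow_one, sq]
    exact mul_eq_one_iff_eq_inv.2 e
  have hk : ∀ g : G, π g = 1 → (g : G ⧸ oddCore G) = 1 ∨ (g : G ⧸ oddCore G) = z := fun g hg => by
    obtain ⟨w, hw, v, hv, rfl⟩ := hT'.exists_resOf_mul hg
    rw [QuotientGroup.mk_mul, (QuotientGroup.eq_one_iff w).2 (c6 hw), one_mul]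
    rcases c5 v hv with rfl | rfl <;> simp
  refine Hall.equiv_SL25_of_quotient (z := (z : G ⧸ oddCore G)) (orderOf_eq_prime (by
    rw [sq, ← QuotientGroup.mk_mul, z2]; rfl) (mt (QuotientGroup.eq_one_iff z).1 zO)) (fun s hs => ?_)
    (QuotientGroup.lift _ π hO) (fun y => (hs y).imp' QuotientGroup.mk fun _ e => e) (le_antisymm (fun s hs => ?_) ?_)
  · obtain ⟨g, rfl⟩ := QuotientGroup.mk_surjective s
    have k : g * g ∈ oddCore G := by
      rw [← QuotientGroup.eq_one_iff, QuotientGroup.mk_mul, ← sq]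
      exact orderOf_dvd_iff_pow_eq_one.1 hs.dvd
    by_cases e : π g = 1
    · exact (hk g e).resolve_left fun e' => by simp [e'] at hs
    have k1 := (c2 g ((map_mul π g g).symm.trans (hO k)) e).1
    exact (pow_ne_one_of_lt_orderOf (x := g) (n := 2) (by norm_num) (by omega) (by
      rw [sq]; exact odd_sq k (n := 1) (by rw [← sq, ← pow_mul, show 2 * 2 ^ 1 = 4 from rfl, ← k1, pow_orderOf_eq_one]))).elim
  · obtain ⟨g, rfl⟩ := QuotientGroup.mk_surjective s
    rcases hk g hs with e | e <;> simp [e]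
  · exact zpowers_le.2 (show π z = 1 by rw [← c4 u uP hπ, map_mul, huu])

/-- Let u ≠ 1 be an element of the finite group G such that every non-principal irreducible character χ satisfies χ(1) − χ(u) = 4 or χ(u) = 0. Then O(G), the largest normal subgroup of odd order, is abelian, and either G ⧸ O(G) ≅ PSL₂(5) and u is an involution, or G ⧸ O(G) ≅ SL₂(5) and u has order 4. -/
theorem result {G : Type*} [Group G] [Finite G] (u : G) (hu : u ≠ 1) (hyp : ∀ χ : Cfsg.IrrCharacter G, (χ : G → ℂ) ≠ (fun _ => (1 : ℂ)) → ((χ : G → ℂ) 1 - (χ : G → ℂ) u = 4 ∨ (χ : G → ℂ) u = 0)) : IsMulCommutative ↥(Cfsg.oddCore G) ∧ ((Nonempty (G ⧸ Cfsg.oddCore G ≃* Matrix.ProjectiveSpecialLinearGroup (Fin 2) (ZMod 5)) ∧ orderOf u = 2) ∨ (Nonempty (G ⧸ Cfsg.oddCore G ≃* Matrix.SpecialLinearGroup (Fin 2) (ZMod 5)) ∧ orderOf u = 4)) := by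
  haveI := Fintype.ofFinite G
  obtain ⟨π, hs, hk, hπ, h4, hc⟩ := exists_pi (fun χ h1 h2 => hyp ⟨χ, h1⟩ h2) hu
  have hO : oddCore G ≤ π.ker := by
    refine (Subgroup.map_eq_bot_iff _).1 ((((inferInstance : (oddCore G).Normal).map π hs).eq_bot_or_eq_top).resolve_right
      fun e => ?_)
    have := (Core.odd_card_oddCore G).of_dvd_nat (card_map_dvd _ π)
    rw [e, card_top, Linear.card_A5] at this
    exact absurd this (by decide)
  by_cases h2 : u * u = 1
  · have h5 : normalClosure ({1} : Set G) = ⊥ := eq_bot_iff.2 (normalClosure_le_normal (by simp))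
    have h3 : oddCore G = π.ker := le_antisymm hO (by rw [hk, h2, h5]; simp)
    obtain ⟨π', s', k'⟩ := Hall.exists_SL25_A5
    refine ⟨?_, Or.inl ⟨⟨((QuotientGroup.quotientMulEquivOfEq h3).trans
      (QuotientGroup.quotientKerEquivOfSurjective π hs)).trans ((QuotientGroup.quotientMulEquivOfEq k'.symm).trans
      (QuotientGroup.quotientKerEquivOfSurjective π' s')).symm⟩, orderOf_eq_prime (by rw [sq, h2]) hu⟩⟩
    rw [h3, hk, h2, h5]
    infer_instance
  · exact (four π hs hO ((map_mul π u u).symm.trans (show u * u ∈ π.ker from hk ▸ subset_normalClosure rfl)) hπ h4 hc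
      h2).imp_right Or.inr

end Cfsg.Agent.S4758
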