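import Cfsg.Statements.S4762
import Cfsg.Agent.Lib.Clifford.XSChar
import Cfsg.Agent.Lib.Transfer.Frobenius
import Cfsg.Agent.Lib.PGrp.Comm

set_option autoImplicit false
open Cfsg

namespace Cfsg.Agent.S4762

open Cfsg.Lib Cfsg.Lib.Clifford Cfsg.Lib.Char Cfsg.Lib.FG Cfsg.Lib.Transfer Finset Subgroup
open scoped commutatorElement

theorem dvd_iff {G : Type*} [Group G] [Finite G] {p : ℕ} [hp : Fact p.Prime] {N : Subgroup G} {k : ℕ}
    (hk : N.index = p ^ k) {χ : G → ℂ} (hχ : IrrOn ⊤ χ) (ht : Triv N χ) :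
    p ∣ charDegree χ ↔ ¬ Triv (commutator G) χ := by
  have h1 := hχ.deg_dvd_relIndex_of_lin le_top (linOn_one N) fun x hx => by rw [ht x hx, Pi.one_apply, mul_one]
  rw [relIndex_top_right, hk] at h1
  obtain ⟨j, -, hj⟩ := (Nat.dvd_prime_pow hp.out).1 h1
  rw [_root_.commutator, ← hχ.linOn_iff]
  constructor
  · intro h hl
    rw [hl.deg] at h
    exact hp.out.not_dvd_one h
  · intro h
    rcases j with _ | j
    · exact absurd (hχ.charOn.linOn_of_deg (by simpa using hj)) h
    · rw [hj]; exact dvd_pow_self p j.succ_ne_zero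

/-- Let p be a prime and G a finite nilpotent group. Then G has exactly one irreducible complex character of degree divisible by p if and only if p = 2 and G is an extraspecial 2-group. -/
theorem result {G : Type*} [Group G] [Finite G] [Group.IsNilpotent G] (p : ℕ) [Fact p.Prime] : Nat.card {χ : Cfsg.IrrCharacter G // p ∣ Cfsg.charDegree (χ : G → ℂ)} = 1 ↔ (p = 2 ∧ Cfsg.IsExtraspecial 2 G) := by
  classical
  have hp : p.Prime := Fact.out
  rw [card_irr_filter (fun χ : G → ℂ => p ∣ charDegree χ)]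
  have key : IsPGroup p G → (Irr (⊤ : Subgroup G)).filter (fun χ => p ∣ charDegree χ) =
      Irr ⊤ \ IrrKer ⊤ (commutator G) := fun hG => by
    obtain ⟨k, hk⟩ := IsPGroup.iff_card.1 hG
    ext χ
    rw [mem_filter, mem_sdiff, mem_IrrKer]
    refine and_congr_right fun hχ => ?_
    rw [dvd_iff (N := ⊥) (by rw [index_bot, hk]) (irrOn_of_mem hχ) (triv_bot χ), not_and]
    exact ⟨fun h _ => h, fun h => h hχ⟩
  constructor
  · intro h
    obtain ⟨χ, hχ⟩ := card_eq_one.1 h
    have hu : ∀ ψ ∈ Irr (⊤ : Subgroup G), p ∣ charDegree ψ → ψ = χ := fun ψ a b =>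
      Finset.mem_singleton.1 (hχ ▸ mem_filter.2 ⟨a, b⟩)
    obtain ⟨hχ1, hχ2⟩ := mem_filter.1 (hχ.ge (mem_singleton_self χ))
    obtain ⟨P⟩ : Nonempty (Sylow p G) := inferInstance
    have hPn : (P : Subgroup G).Normal := inferInstance
    have hP := sylowIn_top P
    have hnil : Group.IsNilpotent (⊤ : Subgroup G) := inferInstance
    have hN := pnil_of_isNilpotent (p := p) hnil
    have := resOf_normal (p := p) (⊤ : Subgroup G)
    obtain ⟨k, hk⟩ := relIndex_resOf (p := p) (⊤ : Subgroup G)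
    rw [relIndex_top_right] at hk
    have hG : IsPGroup p G := by
      have h1 : ¬ commutator G ≤ resOf p ⊤ := fun e => by
        have h2 := (irrOn_of_mem hχ1).deg_dvd_relIndex_of_comm le_top (nrm_of_normal ⊤ P) fun a ha b hb => by
          have : ⁅a, b⁆ ∈ (P : Subgroup G) ⊓ resOf p ⊤ :=
            ⟨(P : Subgroup G).mul_mem ((P : Subgroup G).mul_mem ((P : Subgroup G).mul_mem ha hb) ((P : Subgroup G).inv_mem ha)) ((P : Subgroup G).inv_mem hb), e (commutator_mem_commutator trivial trivial)⟩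
          rwa [hN.disjoint P.isPGroup', mem_bot, commutatorElement_eq_one_iff_mul_comm] at this
        exact hP.3 (hχ2.trans h2)
      obtain ⟨x, hx, hx'⟩ := SetLike.not_le_iff_exists.1 h1
      obtain ⟨β, hβ, h3⟩ := exists_IrrKer_ne le_top (nrm_of_normal ⊤ _) hx'
      obtain ⟨hβ1, hβ2⟩ := mem_IrrKer.1 hβ
      have h4 := (dvd_iff hk (irrOn_of_mem hβ1) hβ2).2 fun e => h3 (e x hx)
      have h5 : resOf p (⊤ : Subgroup G) ≤ (P : Subgroup G) ⊔ commutator G := fun y hy => by
        by_contra h6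
        obtain ⟨l, hl, h7⟩ := exists_IrrKer_ne le_top (nrm_of_normal ⊤ _) h6
        have h8 := linOn_of_mem_IrrKer le_sup_right hl
        have h9 := hu _ (mul_lin_mem_Irr hβ1 h8) (by
          rwa [charDegree_of_eq (n := charDegree β) (by rw [Pi.mul_apply, h8.2, mul_one, (irrOn_of_mem hβ1).one_eq])])
        have h10 := congrFun (h9.trans (hu _ hβ1 h4).symm) y
        rw [Pi.mul_apply, hβ2 y hy, mul_eq_left₀ (irrOn_of_mem hβ1).one_ne_zero] at h10
        exact h7 (h10.trans h8.2.symm)
      have h6 : (⊤ : Subgroup G) ≤ P := le_of_le_commutator_sup hnil le_rfl le_normalizer_of_normal (by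
        rw [← hP.resOf_sup, sup_comm (a := ⁅_, _⁆), hP.resOf_sup]
        exact hP.resOf_sup.ge.trans (sup_le h5 le_sup_left))
      exact Core.isPGroup_top_iff.1 (P.isPGroup'.to_le h6)
    have h1 := sum_sdiff_IrrKer (K := ⊤) (N := commutator G) le_top (nrm_of_normal _ _)
    rw [← key hG, hχ, sum_singleton, relIndex_top_right, card_top, ← (commutator G).card_mul_index] at h1
    obtain ⟨a, ha⟩ := PGrp.exists_card_eq_pow hG (commutator G)
    obtain ⟨n, hn⟩ := IsPGroup.iff_card.1 hG
    obtain ⟨c, -, hc⟩ := (Nat.dvd_prime_pow hp).1 (hn ▸ (mem_Irr_top.1 hχ1).charDegree_dvd_card)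
    have hi : 0 < (commutator G).index := Nat.pos_of_ne_zero index_ne_zero_of_finite
    have h2 : charDegree χ ^ 2 = (p ^ a - 1) * (commutator G).index := by
      rw [Nat.sub_mul, ← ha, ← h1, one_mul, Nat.add_sub_cancel]
    have h3 : p ^ a - 1 ∣ p ^ (c * 2) := by rw [pow_mul, ← hc, h2]; exact dvd_mul_right _ _
    obtain ⟨j, -, hj⟩ := (Nat.dvd_prime_pow hp).1 h3
    have h4 : p ^ a = p ^ j + 1 := by have := pow_pos hp.pos a; have := pow_pos hp.pos j; omega
    have ha0 : a ≠ 0 := by rintro rfl; have := pow_pos hp.pos j; rw [pow_zero] at h4; omega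
    have hj0 : j = 0 := by
      by_contra h0
      exact hp.not_dvd_one ((Nat.dvd_add_right (dvd_pow_self p h0)).1 (h4 ▸ dvd_pow_self p ha0))
    subst hj0
    have h5 : p = 2 := (Nat.prime_dvd_prime_iff_eq hp Nat.prime_two).1 (by
      have := dvd_pow_self p ha0
      rwa [h4] at this)
    subst h5
    rw [h4] at ha h2
    have h6 := PGrp.le_center_of_card_eq hG (commutator G) ha
    have h7 := (mem_Irr_top.1 hχ1).degree_sq_le_index (mem_Irr_top.1 hχ1).center_le_charCenter
      (irrOn_of_mem hχ1).one_eq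
    rw [h2] at h7
    have h8 : commutator G = center G := PGrp.eq_of_le_of_card_le h6 (by
      have e1 := (commutator G).card_mul_index
      have e2 := (center G).card_mul_index
      have : Nat.card (center G) * (commutator G).index ≤ Nat.card (commutator G) * (commutator G).index := by
        rw [e1, ← e2]; exact Nat.mul_le_mul_left _ (by simpa using h7)
      exact Nat.le_of_mul_le_mul_right this hi)
    refine ⟨rfl, ⟨hG, le_antisymm (PGrp.frattini_le hG _ h6 fun x => mem_center_iff.2 fun y => ?_)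
      (h8.ge.trans (PGrp.commutator_le_frattini hG)), h8⟩, h8 ▸ ha⟩
    have h9 : ⁅y, x⁆ ∈ commutator G := commutator_mem_commutator trivial trivial
    have h10 := mem_center_iff.1 (h6 h9)
    have h11 : ⁅y, x⁆ ^ 2 = 1 := by
      have := pow_card_eq_one' (G := commutator G) (x := ⟨_, h9⟩)
      rw [ha] at this
      exact congrArg Subtype.val this
    have h12 : y * x = ⁅y, x⁆ * (x * y) := by rw [commutatorElement_def]; group
    calc y * x ^ 2 = (y * x) * x := by rw [pow_two, mul_assoc]
      _ = ⁅y, x⁆ * (x * (y * x)) := by rw [h12]; group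
      _ = ⁅y, x⁆ ^ 2 * (x ^ 2 * y) := by rw [h12, ← mul_assoc x, h10 x, pow_two, pow_two]; simp only [mul_assoc]
      _ = x ^ 2 * y := by rw [h11, one_mul]
  · rintro ⟨rfl, h⟩
    rw [key h.1.1, h.1.2.2, (xs_top h).card_sdiff hp]

end Cfsg.Agent.S4762
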