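import Cfsg.Statements.S4763
import Cfsg.Agent.Lib.Coprime.Glaub3
import Cfsg.Agent.Lib.Known.Classes
import Cfsg.Agent.Lib.Clifford.Real
import Cfsg.Agent.Lib.Transfer.Frobenius

set_option autoImplicit false
open Cfsg

namespace Cfsg.Agent.S4763

open Cfsg.Lib Cfsg.Lib.Clifford Cfsg.Lib.Char Cfsg.Lib.Transfer Finset Subgroup
open scoped commutatorElement

theorem classes {G : Type*} [Group G] [Finite G] {p : ℕ} [hp : Fact p.Prime] (P : Sylow p G)
    (h : normalizer ((P : Subgroup G) : Set G) ≤ centralizer ((P : Subgroup G) : Set G)) :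
    Nat.card {C : ConjClasses G // ¬ p ∣ Nat.card C.carrier} =
      Nat.card (ConjClasses (centralizer ((P : Subgroup G) : Set G))) := by
  have hP := sylowIn_top P
  refine (Nat.card_eq_of_bijective (fun c : ConjClasses (centralizer ((P : Subgroup G) : Set G)) =>
    (⟨ConjClasses.map (Subgroup.subtype _) c, ?_⟩ : {C : ConjClasses G // ¬ p ∣ Nat.card C.carrier})) ⟨?_, ?_⟩).symm
  · obtain ⟨x, rfl⟩ := ConjClasses.mk_surjective c
    show ¬ p ∣ Nat.card (ConjClasses.mk (x : G)).carrier
    rw [Known.card_class_eq_index]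
    exact fun e => P.not_dvd_index (e.trans (index_dvd_of_le fun y hy => mem_centralizer_singleton_iff.2 (x.2 y hy)))
  · intro c d e
    obtain ⟨x, rfl⟩ := ConjClasses.mk_surjective c
    obtain ⟨y, rfl⟩ := ConjClasses.mk_surjective d
    obtain ⟨g, hg⟩ := isConj_iff.1 (ConjClasses.mk_eq_mk_iff_isConj.1 (congrArg Subtype.val e :
      ConjClasses.mk (x : G) = ConjClasses.mk (y : G)))
    obtain ⟨n, hn, e'⟩ := hP.exists_normalizer_conj_eq (mem_top g) x.2 (hg ▸ y.2)
    exact ConjClasses.mk_eq_mk_iff_isConj.2 (isConj_iff.2 ⟨⟨n, h hn.2⟩, Subtype.ext (e'.trans hg)⟩)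
  · rintro ⟨c, hc⟩
    obtain ⟨x, rfl⟩ := ConjClasses.mk_surjective c
    rw [Known.card_class_eq_index] at hc
    obtain ⟨T, hT⟩ := exists_sylowIn (p := p) (centralizer ({x} : Set G))
    have hT' : SylowIn p T ⊤ := ⟨le_top, hT.2, by
      rw [relIndex_top_right, ← relIndex_mul_index hT.1]
      exact fun e => ((Nat.Prime.dvd_mul hp.out).1 e).elim hT.3 hc⟩
    obtain ⟨g, -, hg⟩ := hT'.exists_cj_eq hP
    refine ⟨ConjClasses.mk ⟨g * x * g⁻¹, fun y hy => ?_⟩, Subtype.ext
      (ConjClasses.mk_eq_mk_iff_isConj.2 (isConj_iff.2 ⟨g, rfl⟩).symm)⟩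
    have := mem_centralizer_singleton_iff.1 (hT.1 (Transfer.mem_cj.1 (hg.ge hy)))
    calc y * (g * x * g⁻¹) = g * (g⁻¹ * y * g * x) * g⁻¹ := by group
      _ = g * x * g⁻¹ * y := by rw [this]; group

/-- Let p be a prime and G a finite group that is not nilpotent and has a normal p-complement (a normal subgroup of order prime to p and index a power of p). If G has exactly one irreducible complex character of degree divisible by p, then G has exactly one conjugacy class whose size is divisible by p. -/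
theorem result {G : Type*} [Group G] [Finite G] (p : ℕ) [Fact p.Prime] (hnil : ¬ Group.IsNilpotent G) (N : Subgroup G) [N.Normal] (hN : (Nat.card N).Coprime p) (hidx : ∃ k : ℕ, N.index = p ^ k) (hone : Nat.card {χ : Cfsg.IrrCharacter G // p ∣ Cfsg.charDegree (χ : G → ℂ)} = 1) : Nat.card {C : ConjClasses G // p ∣ Nat.card C.carrier} = 1 := by
  classical
  have hp : p.Prime := Fact.out
  obtain ⟨k, hk⟩ := hidx
  rw [card_irr_filter (fun χ : G → ℂ => p ∣ charDegree χ)] at hone
  obtain ⟨χ, hχ⟩ := card_eq_one.1 hone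
  have hu : ∀ ψ ∈ Irr (⊤ : Subgroup G), p ∣ charDegree ψ → ψ = χ := fun ψ a b =>
    Finset.mem_singleton.1 (hχ ▸ mem_filter.2 ⟨a, b⟩)
  obtain ⟨P⟩ : Nonempty (Sylow p G) := inferInstance
  have hP := sylowIn_top P
  have hcop := Coprime.coprime_card_of_isPGroup P.isPGroup' hN
  have hd : N ⊓ P = ⊥ := Coprime.inf_eq_bot_of_coprime_card hcop.symm
  have hNP : N ⊔ P = ⊤ := hP.sup_eq_of_relIndex le_top (by rw [relIndex_top_right, hk])
  have h1 : commutator G ≤ N := by
    by_contra h1
    obtain ⟨x, hx, hx'⟩ := SetLike.not_le_iff_exists.1 h1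
    obtain ⟨β, hβ, h3⟩ := exists_IrrKer_ne le_top (nrm_of_normal ⊤ _) hx'
    obtain ⟨hβ1, hβ2⟩ := mem_IrrKer.1 hβ
    have hi := irrOn_of_mem hβ1
    have h4 : p ∣ charDegree β := by
      have h1 := hi.deg_dvd_relIndex_of_lin le_top (linOn_one N) fun x hx => by rw [hβ2 x hx, Pi.one_apply, mul_one]
      rw [relIndex_top_right, hk] at h1
      obtain ⟨j, -, hj⟩ := (Nat.dvd_prime_pow hp).1 h1
      rcases j with _ | j
      · exact absurd (hi.linOn_iff.1 (hi.charOn.linOn_of_deg (by simpa using hj)) x hx) h3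
      · rw [hj]; exact dvd_pow_self p j.succ_ne_zero
    have h5 : N = ⊥ := eq_bot_iff.2 fun y hy => by
      by_contra h6
      obtain ⟨ψ, hψ, h7⟩ := exists_IrrKer_ne (bot_le (a := (⊤ : Subgroup G))) (nrm_of_normal ⊤ _) h6
      have hψ1 := IrrKer_subset hψ
      have hψ2 := irrOn_of_mem hψ1
      have h8 : ¬ p ∣ charDegree ψ := fun e => h7 (by rw [hu _ hψ1 e, ← hu _ hβ1 h4]; exact hβ2 y hy)
      have h9 := hψ2.res_of_coprime le_top (nrm_of_normal ⊤ N) (by
        rw [relIndex_top_right, hk]; exact ((hp.coprime_iff_not_dvd.2 h8).symm).pow_right k)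
      have h10 := hu _ (mul_mem_Irr hβ1 (hi.mul_ext hβ2 le_top (nrm_of_normal ⊤ N) hψ2.charOn h9)) (by
        rw [charDegree_of_eq (n := charDegree β * charDegree ψ) (by rw [Pi.mul_apply, hi.one_eq, hψ2.one_eq, Nat.cast_mul])]
        exact h4.mul_right _)
      rw [← hu _ hβ1 h4] at h10
      have e1 := congrFun h10 y
      have e2 := congrFun h10 1
      rw [Pi.mul_apply, hβ2 y hy, mul_eq_left₀ hi.one_ne_zero] at e1
      rw [Pi.mul_apply, mul_eq_left₀ hi.one_ne_zero] at e2
      exact h7 (e1.trans e2.symm)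
    rw [h5, index_bot] at hk
    exact hnil (IsPGroup.of_card hk).isNilpotent
  have hNC : normalizer ((P : Subgroup G) : Set G) ≤ centralizer ((P : Subgroup G) : Set G) := fun g hg y hy => by
    have : ⁅g, y⁆ ∈ N ⊓ P := ⟨h1 (commutator_mem_commutator trivial trivial),
      (P : Subgroup G).mul_mem (Transfer.conj_mem_of_mem_normalizer hg hy) ((P : Subgroup G).inv_mem hy)⟩
    rw [hd, mem_bot, commutatorElement_eq_one_iff_mul_comm] at this
    exact this.symm
  have hPC := le_normalizer.trans hNC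
  obtain ⟨D, hD⟩ : ∃ D, D = N ⊓ centralizer ((P : Subgroup G) : Set G) := ⟨_, rfl⟩
  have hDP : D ⊔ P = centralizer ((P : Subgroup G) : Set G) := by
    rw [hD, sup_comm, ← Core.sup_inf_assoc_of_le_normalizer le_normalizer_of_normal hPC, sup_comm, hNP, top_inf_eq]
  have hPD : (P : Subgroup G) ≤ centralizer (D : Set G) := le_centralizer_iff.1 (hD ▸ inf_le_right)
  have e1 := Coprime.card_irr_coprime_degree (nrm_of_normal (P : Subgroup G) N) hcop
  have e2 := Coprime.card_irr_coprime_degree (H := P) (K := D) (fun g hg d hd' => by rwa [← hPD hg d hd', mul_inv_cancel_right])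
    (hcop.coprime_dvd_left (card_dvd_of_le (hD ▸ inf_le_left)))
  rw [Coprime.card_IrrInv_of_solvable (Coprime.isSolvable_of_isPGroup P.isPGroup') (nrm_of_normal _ N) hcop, ← hD, hNP] at e1
  rw [Coprime.IrrInv_of_le_centralizer hPD, hDP, ← e1, filter_true_of_mem fun ψ hψ => ?_, card_Irr_eq_card_conjClasses,
    ← classes P hNC] at e2
  · have e3 := card_filter_add_card_filter_not (s := Irr (⊤ : Subgroup G)) fun χ => p ∣ charDegree χ
    rw [hone, card_Irr_top, card_irrCharacter_eq, ← Nat.card_congr (Equiv.sumCompl fun C : ConjClasses G => p ∣ Nat.card C.carrier),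
      Nat.card_sum, e2] at e3
    have e4 : (Irr (⊤ : Subgroup G)).filter (fun χ => ¬ p ∣ charDegree χ) =
        (Irr (⊤ : Subgroup G)).filter fun χ => (charDegree χ).Coprime (Nat.card P) := filter_congr fun ψ hψ => by
      refine ⟨fun e => Coprime.coprime_card_of_isPGroup P.isPGroup' (hp.coprime_iff_not_dvd.2 e).symm, fun e e' => ?_⟩
      have : p ∣ Nat.card P := by
        rw [hP.card_eq_pow, card_top]
        exact dvd_pow_self p (hp.factorization_pos_of_dvd Nat.card_pos.ne' (e'.trans (mem_Irr_top.1 hψ).charDegree_dvd_card)).ne'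
      exact hp.not_dvd_one (e ▸ Nat.dvd_gcd e' this)
    rw [e4] at e3
    omega
  · refine Coprime.coprime_card_of_isPGroup P.isPGroup' (hp.coprime_iff_not_dvd.2 fun e => ?_).symm
    have := (irrOn_of_mem hψ).deg_dvd_relIndex_of_comm hPC (fun g hg y hy => by rwa [← hg y hy, mul_inv_cancel_right])
      fun a ha b hb => hPC hb a ha
    exact (hP.mono hPC le_top).3 (e.trans this)

end Cfsg.Agent.S4763
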