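import Cfsg.Statements.S4765
import Cfsg.Agent.Lib.Known.PSL2Char

set_option autoImplicit false
open Cfsg

namespace Cfsg.Agent.S4765

open Cfsg.Lib.Known

open Cfsg.Lib.Char

/-- Let F be a finite field of characteristic p with at least 4 elements. Then PSL(2,F) has exactly one irreducible complex character of degree divisible by p, and its degree is the order of F. -/
theorem result (p : ℕ) [Fact p.Prime] (F : Type*) [Field F] [Fintype F] [CharP F p] (hF : 4 ≤ Fintype.card F) : Nat.card {χ : Cfsg.IrrCharacter (Matrix.ProjectiveSpecialLinearGroup (Fin 2) F) // p ∣ Cfsg.charDegree (χ : Matrix.ProjectiveSpecialLinearGroup (Fin 2) F → ℂ)} = 1 ∧ ∀ χ : Cfsg.IrrCharacter (Matrix.ProjectiveSpecialLinearGroup (Fin 2) F), p ∣ Cfsg.charDegree (χ : Matrix.ProjectiveSpecialLinearGroup (Fin 2) F → ℂ) → Cfsg.charDegree (χ : Matrix.ProjectiveSpecialLinearGroup (Fin 2) F → ℂ) = Fintype.card F := by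
  classical
  rw [← Nat.card_eq_fintype_card]
  have hpp : p.Prime := Fact.out
  have h1 := char_dvd_natCard (F := F) p
  have key : ∀ ψ, IsIrrCharacter (Cfsg.Lib.Linear.PSL2 F) ψ → p ∣ charDegree ψ →
      (fun g => ψ (pmk F g)) = StS F := by
    intro ψ hψ h
    have h2 : charDegree (fun g => ψ (pmk F g)) = charDegree ψ := by simp [charDegree]
    rcases SL2_degree_cases (hψ.comp _ pmk_surjective) with k | k | k
    · exact k
    · exact absurd (Nat.dvd_one.1 ((Nat.dvd_add_right h1).1 (h.trans (h2 ▸ k)))) hpp.one_lt.ne'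
    · have := Nat.dvd_sub h1 (h.trans (h2 ▸ k))
      rw [Nat.sub_sub_self Nat.card_pos] at this
      exact absurd (Nat.dvd_one.1 this) hpp.one_lt.ne'
  have key2 : ∀ ψ : Cfsg.Lib.Linear.PSL2 F → ℂ, (fun g => ψ (pmk F g)) = StS F →
      charDegree ψ = Nat.card F := fun ψ h =>
    charDegree_eq_of_eq (by rw [← StS_apply_one, ← h]; simp only [map_one])
  refine ⟨?_, fun χ h => key2 _ (key _ χ.2 h)⟩
  obtain ⟨ψ, hψ, h⟩ := exists_PSL2_irr (F := F) isIrr_StS StS_neg_one
  refine card_irr_eq_one (fun χ => p ∣ charDegree χ) ψ fun χ => ⟨fun ⟨k1, k2⟩ => ?_, ?_⟩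
  · funext x
    obtain ⟨g, rfl⟩ := pmk_surjective x
    exact congrFun ((key χ k1 k2).trans h) g
  · rintro rfl
    exact ⟨hψ, key2 _ h.symm ▸ h1⟩

end Cfsg.Agent.S4765
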