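import Cfsg.Statements.S4768
import Cfsg.Agent.Lib.Clifford.PBlk

set_option autoImplicit false
open Cfsg

namespace Cfsg.Agent.S4768

open Cfsg.Lib Cfsg.Lib.Clifford Cfsg.Lib.Char Finset Subgroup ComplexConjugate
open scoped commutatorElement

def D {G : Type*} [Group G] (n : ℕ) (H : Subgroup G) : Subgroup G := (fun X : Subgroup G => ⁅X, X⁆)^[n] H

theorem D_succ {G : Type*} [Group G] (n : ℕ) (H : Subgroup G) : D (n + 1) H = ⁅D n H, D n H⁆ :=
  Function.iterate_succ_apply' _ _ _

theorem map_D {G G' : Type*} [Group G] [Group G'] (f : G →* G') (n : ℕ) (H : Subgroup G) :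
    (D n H).map f = D n (H.map f) := by
  induction n with
  | zero => rfl
  | succ n ih => rw [D_succ, D_succ, map_commutator, ih]

theorem D_anti {G : Type*} [Group G] (H : Subgroup G) : Antitone fun n => D n H :=
  antitone_nat_of_succ_le fun n => by rw [D_succ]; exact Subgroup.commutator_le_self _

theorem comm_le {G : Type*} [Group G] [Finite G] {p : ℕ} [hp : Fact p.Prime] (hG : IsPSolvable p G)
    {T : Subgroup G} (hT : Transfer.SylowIn p T ⊤) (N : Subgroup G) [N.Normal]
    (h : ∀ χ ∈ IrrKer (⊤ : Subgroup G) N, ¬ p ∣ charDegree χ) : ⁅T, T⁆ ≤ N := by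
  obtain ⟨P, hP⟩ := (show Transfer.SylowIn p (T.map (QuotientGroup.mk' N)) ⊤ from
    Subgroup.map_top_of_surjective _ (QuotientGroup.mk'_surjective N) ▸ hT.map _).exists_sylow_top
  have h1 := ((ito_pSolvable (Core.isPSolvable_quotient hp.out hG N) P).2 fun χ hχ =>
    h (χ ∘ QuotientGroup.mk' N) (mem_IrrKer.2 ⟨mem_Irr_top.2 (hχ.comp _ (QuotientGroup.mk'_surjective N)),
      fun x hx => by simp [(QuotientGroup.eq_one_iff x).2 hx]⟩)).2
  rw [hP] at h1
  refine commutator_le.2 fun a ha b hb => ?_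
  rw [← QuotientGroup.eq_one_iff, ← QuotientGroup.mk'_apply, map_commutatorElement,
    commutatorElement_eq_one_iff_mul_comm]
  exact h1 _ (Subgroup.mem_map_of_mem _ ha) _ (Subgroup.mem_map_of_mem _ hb)

theorem comm_le' {G : Type*} [Group G] [Finite G] {p : ℕ} [hp : Fact p.Prime] (hG : IsPSolvable p G)
    {T N : Subgroup G} (hT : Transfer.SylowIn p T ⊤) [N.Normal] (hNp : IsPGroup p N) (h1 : N ≠ ⊥)
    (hab : ∀ a ∈ N, ∀ b ∈ N, a * b = b * a)
    (h : ∀ χ ∈ Irr (⊤ : Subgroup G), ¬ Triv N χ → ¬ p ∣ charDegree χ) : ⁅T, T⁆ ≤ N := by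
  have hN := nrm_of_normal ⊤ N
  obtain ⟨x, hx, hx1⟩ := (Subgroup.nontrivial_iff_exists_ne_one N).1
    ((Subgroup.nontrivial_iff_ne_bot N).2 h1)
  obtain ⟨lam, hl, hlx⟩ := exists_IrrKer_ne (K := N) (N := ⊥) bot_le (nrm_of_normal _ _) hx1
  have hl' := (irrOn_of_mem (IrrKer_subset hl)).linOn_of_comm hab
  have hNI := le_inertia le_top hN hl'.classOn
  have h2 : ∀ ψ, IrrOn (inertia ⊤ N lam) ψ → dot N ψ lam ≠ 0 →
      ¬ p ∣ (inertia ⊤ N lam).relIndex ⊤ * charDegree ψ := fun ψ hψ hd => by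
    have h3 := irrOn_ind_inertia le_top hN hl'.irrOn hψ hd
    rw [← hψ.charOn.deg_ind le_top]
    refine h _ (mem_Irr_top.2 (irrOn_top.1 h3)) fun ht => hlx ?_
    exact (triv_iff_of_dot le_top le_rfl hN h3 hl'.irrOn
      (by rwa [dot_ind_inertia le_top hN hl'.irrOn hψ hd])).1 ht x hx
  have hinv := invOn_inertia (θ := lam) hN
  obtain ⟨I, hI⟩ : ∃ I, I = inertia ⊤ N lam := ⟨_, rfl⟩
  rw [← hI] at hNI h2 hinv
  have hNI' : Nrm I N := hN.mono le_top
  obtain ⟨ψ, hψ, hd⟩ := hl'.irrOn.exists_over hNI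
  have h3 := h2 ψ (irrOn_of_mem hψ) hd
  obtain ⟨S, hNS, hS⟩ := Transfer.exists_sylowIn_ge hNp hNI
  have hS' : Transfer.SylowIn p S ⊤ := ⟨le_top, hS.2, by
    rw [← relIndex_mul_relIndex S I ⊤ hS.1 le_top, hp.out.dvd_mul]
    exact not_or.2 ⟨hS.3, fun h => h3 (h.mul_right _)⟩⟩
  obtain ⟨μ, hμ, e⟩ := hl'.exists_ext_of_sylow hNI hNI' hinv fun q hq h4 _ => by
    obtain ⟨k, hk⟩ := IsPGroup.iff_card.1 hNp
    obtain rfl : q = p := (Nat.prime_dvd_prime_iff_eq hq hp.out).1
      (hq.dvd_of_dvd_pow (hk ▸ h4.trans hl'.ordOn_dvd_card))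
    obtain ⟨ν, hν, h5, h6⟩ := CharOn.exists_deg_le_of_pgroup (b := 0) hq hS.2
      ((irrOn_of_mem hψ).charOn.mono hS.1) (by simpa using fun h => h3 (h.mul_left _))
    have h7 := (irrOn_of_mem hν).charOn.linOn_of_deg (by simpa using h6)
    refine ⟨S, hNS, hS.1, hS.3, ν, h7, ?_⟩
    have h8 := ((irrOn_of_mem hψ).charOn.mono hS.1).dot_ne_zero_trans hNS h7.irrOn
      (h7.mono hNS).charOn h5 (by rw [(h7.mono hNS).irrOn.dot_self]; exact one_ne_zero)
    rw [dot_congr_left (φ' := (mult N ψ lam : ℂ) • lam) fun n hn =>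
      clifford_invOn hNI hNI' (irrOn_of_mem hψ) hl'.irrOn hinv hd hn, dot_smul_left] at h8
    exact fun x hx => (hl'.irrOn.eq_of_dot_ne_zero (h7.mono hNS).irrOn
      (right_ne_zero_of_mul h8) x hx).symm
  have := hNI'.normal_subgroupOf
  have h4 := comm_le (Core.isPSolvable_subgroup hp.out hG I) (T := S.subgroupOf I)
    (hS.coe_toSylow ▸ Transfer.sylowIn_top hS.toSylow) (N.subgroupOf I) fun β hβ h4 => by
      obtain ⟨hβ1, hβ2⟩ := mem_IrrKer.1 hβ
      obtain ⟨η, rfl, -⟩ := exists_res I β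
      have hη : IrrOn I η := mem_Irr_top.1 hβ1
      have ht : Triv N η := fun n hn => hβ2 ⟨n, hNI hn⟩ hn
      have hμN := (hμ.mono hNI).irrOn
      refine h2 _ (hη.mul_ext ht hNI hNI' hμ.charOn hμN) ?_ (Dvd.dvd.mul_left ?_ _)
      · rw [← dot_congr_right _ e, ht.dot_mul_ext hμN]; exact hη.one_ne_zero
      · rwa [charDegree_of_eq (n := charDegree η) (by rw [Pi.mul_apply, hμ.2, mul_one, hη.one_eq])]
  have h5 : ⁅S, S⁆ ≤ N := by
    have := Subgroup.map_mono (f := I.subtype) h4
    rwa [map_commutator, map_subtype_subgroupOf hS.1, map_subtype_subgroupOf hNI] at this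
  obtain ⟨g, -, rfl⟩ := hS'.exists_cj_eq hT
  rw [← Transfer.cj_commutator, ← Transfer.cj_eq_of_normal g N]
  exact Transfer.cj_mono g h5

open Classical in
theorem aux {p : ℕ} [hp : Fact p.Prime] (n : ℕ) : ∀ {G : Type*} [Group G] [Finite G], Nat.card G = n →
    IsPSolvable p G → ∀ T : Subgroup G, Transfer.SylowIn p T ⊤ →
    D (((Irr (⊤ : Subgroup G)).filter fun χ => p ∣ charDegree χ).card + 1) T = ⊥ := by
  induction n using Nat.strong_induction_on with
  | _ n ih =>
  intro G _ _ hn hG T hT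
  have key : ∀ N : Subgroup G, N.Normal → N ≠ ⊥ →
      D (((IrrKer (⊤ : Subgroup G) N).filter fun χ => p ∣ charDegree χ).card + 1) T ≤ N := by
    intro N _ h1
    have h2 := ih _ (by
      rw [← hn, ← N.card_mul_index]
      exact lt_mul_of_one_lt_left Nat.card_pos (N.one_lt_card_iff_ne_bot.2 h1)) rfl
      (Core.isPSolvable_quotient hp.out hG N) (T.map (QuotientGroup.mk' N))
      (Subgroup.map_top_of_surjective _ (QuotientGroup.mk'_surjective N) ▸ hT.map _)
    have h3 := sum_IrrKer_eq (QuotientGroup.mk' N) ⊤ fun χ => if p ∣ charDegree χ then 1 else 0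
    rw [QuotientGroup.ker_mk', top_inf_eq,
      Subgroup.map_top_of_surjective _ (QuotientGroup.mk'_surjective N)] at h3
    simp only [cut_top] at h3
    rw [card_filter, h3]
    rwa [← map_D, Subgroup.map_eq_bot_iff, QuotientGroup.ker_mk', card_filter] at h2
  have hsub : ∀ N : Subgroup G, ((IrrKer (⊤ : Subgroup G) N).filter fun χ => p ∣ charDegree χ) ⊆
    (Irr (⊤ : Subgroup G)).filter fun χ => p ∣ charDegree χ := fun N => filter_subset_filter _ IrrKer_subset
  rcases subsingleton_or_nontrivial G with h | h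
  · exact Subsingleton.elim _ _
  rcases Core.pCore_ne_bot_or_of_isPSolvable hp.out hG with h1 | h1
  · obtain ⟨N, hN⟩ : ∃ N, N = (center (pCore p G)).map (pCore p G).subtype := ⟨_, rfl⟩
    have : N.Normal := hN ▸ inferInstance
    have hNp : IsPGroup p N := hN ▸ ((Core.isPGroup_pCore p G).to_subgroup _).map _
    have hN1 : N ≠ ⊥ := by
      have := (Subgroup.nontrivial_iff_ne_bot _).2 h1
      rw [hN, Ne, Subgroup.map_eq_bot_iff_of_injective _ (subtype_injective _),
        ← Ne, ← Subgroup.nontrivial_iff_ne_bot]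
      exact (Core.isPGroup_pCore p G).center_nontrivial
    have hab : ∀ a ∈ N, ∀ b ∈ N, a * b = b * a := by
      rw [hN]
      rintro _ ⟨a, ha, rfl⟩ _ ⟨b, hb, rfl⟩
      exact congrArg Subtype.val (mem_center_iff.1 hb a)
    have hc : ∀ k, D k T ≤ N → D (k + 1) T = ⊥ := fun k hk => by
      rw [D_succ, commutator_eq_bot_iff_le_centralizer]
      exact fun a ha b hb => hab b (hk hb) a (hk ha)
    rcases (hsub N).eq_or_ssubset with h2 | h2
    · have h3 : ∀ χ ∈ Irr (⊤ : Subgroup G), ¬ Triv N χ → ¬ p ∣ charDegree χ := fun χ hχ ht hd =>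
        ht (mem_IrrKer.1 (mem_filter.1 (h2 ▸ mem_filter.2 ⟨hχ, hd⟩)).1).2
      rcases Nat.eq_zero_or_pos ((Irr (⊤ : Subgroup G)).filter fun χ => p ∣ charDegree χ).card
        with h4 | h4
      · rw [h4, eq_bot_iff]
        refine comm_le hG hT ⊥ fun χ hχ hd => ?_
        rw [Finset.card_eq_zero, filter_eq_empty_iff] at h4
        exact h4 (IrrKer_subset hχ) hd
      · exact hc _ ((D_anti T h4).trans (comm_le' hG hT hNp hN1 hab h3))
    · exact hc _ ((D_anti T (card_lt_card h2)).trans (key N this hN1))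
  · have h2 := (D_anti T (Nat.succ_le_succ (card_le_card (hsub _)))).trans (key _ inferInstance h1)
    rw [eq_bot_iff, ← Coprime.inf_eq_bot_of_coprime_card (Coprime.coprime_card_of_isPGroup hT.2
      (hp.out.coprime_iff_not_dvd.2 (Core.not_dvd_card_pPrimeCore hp.out)).symm)]
    exact le_inf (D_anti T (Nat.zero_le _)) h2

/-- Let p be a prime, G a finite p-solvable group and P a Sylow p-subgroup of G. If n is the number of irreducible complex characters of G whose degree is divisible by p, then the (n+1)-st term of the derived series of P is trivial. (The p-solvable case has a direct inductive proof.) -/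
theorem result {G : Type*} [Group G] [Finite G] (p : ℕ) [Fact p.Prime] (hG : Cfsg.IsPSolvable p G) (P : Sylow p G) : derivedSeries ↥(P : Subgroup G) (Nat.card {χ : Cfsg.IrrCharacter G // p ∣ Cfsg.charDegree (χ : G → ℂ)} + 1) = ⊥ := by
  classical
  have h := aux _ rfl hG P (Transfer.sylowIn_top P)
  rw [card_irr_filter fun χ => p ∣ charDegree χ, ← iterate_commutator_top,
    ← Subgroup.map_eq_bot_iff_of_injective _ (subtype_injective _)]
  have := map_D (P : Subgroup G).subtype
    (((Irr (⊤ : Subgroup G)).filter fun χ => p ∣ charDegree χ).card + 1) ⊤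
  rw [← MonoidHom.range_eq_map, range_subtype] at this
  exact this.trans h

end Cfsg.Agent.S4768
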