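import Cfsg.Statements.S4775
import Cfsg.Agent.Lib.BN.SzChar3
import Cfsg.Agent.Lib.Known.PSL2Char

set_option autoImplicit false
open Cfsg

namespace Cfsg.Agent.S4775

open Cfsg.Lib.BN.Sz Cfsg.Lib.Known Cfsg.Lib.Char

theorem degs (F : Type*) [Field F] (m : ℕ) [SzField F m] : charDegrees (Cfsg.Sz F m) =
    {1, (2 ^ (2 * m + 1)) ^ 2, 2 ^ m * (2 ^ (2 * m + 1) - 1), (2 ^ (2 * m + 1)) ^ 2 + 1,
      (2 ^ (2 * m + 1) - 2 ^ (m + 1) + 1) * (2 ^ (2 * m + 1) - 1),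
      (2 ^ (2 * m + 1) + 2 ^ (m + 1) + 1) * (2 ^ (2 * m + 1) - 1)} := by
  obtain ⟨T₁, T₂, S, W, ω, h⟩ := exists_tab F m
  have hr := (r_lt_q (F := F) m).le
  have e1 : (((2 ^ (2 * m + 1)) ^ 2 : ℕ) : ℂ) = (2 * (2 ^ m) ^ 2) ^ 2 := by push_cast; ring
  have e2 : ((2 ^ m * (2 ^ (2 * m + 1) - 1) : ℕ) : ℂ) = 2 ^ m * (2 * (2 ^ m) ^ 2 - 1) := by
    rw [Nat.cast_mul, cast_q_sub]; simp
  have e3 : (((2 ^ (2 * m + 1)) ^ 2 + 1 : ℕ) : ℂ) = (2 * (2 ^ m) ^ 2) ^ 2 + 1 := by push_cast; ring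
  have e4 : (((2 ^ (2 * m + 1) - 2 ^ (m + 1) + 1) * (2 ^ (2 * m + 1) - 1) : ℕ) : ℂ) =
      (2 * (2 ^ m) ^ 2 - 2 * 2 ^ m + 1) * (2 * (2 ^ m) ^ 2 - 1) := by
    rw [Nat.cast_mul, cast_q_sub]; push_cast [hr]; ring
  have e5 : (((2 ^ (2 * m + 1) + 2 ^ (m + 1) + 1) * (2 ^ (2 * m + 1) - 1) : ℕ) : ℂ) =
      (2 * (2 ^ m) ^ 2 + 2 * 2 ^ m + 1) * (2 * (2 ^ m) ^ 2 - 1) := by
    rw [Nat.cast_mul, cast_q_sub]; push_cast; ring
  ext d
  simp only [Set.mem_insert_iff, Set.mem_singleton_iff]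
  constructor
  · rintro ⟨⟨χ, hχ⟩, rfl⟩
    rcases h.cases χ hχ with rfl | rfl | rfl | rfl | e | e | e
    · exact Or.inl (charDegree_eq_of_eq (by simp))
    · exact Or.inr (Or.inl (charDegree_eq_of_eq (h.valS.one.trans e1.symm)))
    · exact Or.inr (Or.inr (Or.inl (charDegree_eq_of_eq (h.valW.one.trans e2.symm))))
    · exact Or.inr (Or.inr (Or.inl (charDegree_eq_of_eq (by simp only [h.valW.one, ← e2, map_natCast]))))
    · exact Or.inr (Or.inr (Or.inr (Or.inl (charDegree_eq_of_eq (e.val.one.trans e3.symm)))))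
    · exact Or.inr (Or.inr (Or.inr (Or.inr (Or.inl (charDegree_eq_of_eq (e.val.one.trans e4.symm))))))
    · exact Or.inr (Or.inr (Or.inr (Or.inr (Or.inr (charDegree_eq_of_eq (e.val.one.trans e5.symm))))))
  · obtain ⟨_, x0⟩ := h.ex0
    obtain ⟨_, x1⟩ := h.ex1
    obtain ⟨_, x2⟩ := h.ex2
    rintro (rfl | rfl | rfl | rfl | rfl | rfl)
    exacts [mem_charDegrees isIrrCharacter_one (by simp), mem_charDegrees h.irrS (h.valS.one.trans e1.symm),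
      mem_charDegrees h.irrW (h.valW.one.trans e2.symm), mem_charDegrees x0.irr (x0.val.one.trans e3.symm),
      mem_charDegrees x1.irr (x1.val.one.trans e4.symm), mem_charDegrees x2.irr (x2.val.one.trans e5.symm)]


/-- Let F be a finite field with q = 2^(2m+1) ≥ 8 elements and let S be isomorphic to the Suzuki group over F. Then the vertices of the character degree graph of S are 2 and the primes dividing (q − 1)(q² + 1); the primes dividing (q − 1)(q² + 1) are pairwise adjacent, and 2 is adjacent exactly to the primes dividing q − 1. -/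
theorem result (F : Type*) [Field F] [Fintype F] (m : ℕ) (hm : 1 ≤ m) (q : ℕ) (hq : Fintype.card F = q) (hqm : q = 2 ^ (2 * m + 1)) {S : Type*} [Group S] [Finite S] (hS : Nonempty (S ≃* ↥(Cfsg.Lie.Sz F (2 ^ (m + 1))))) : Cfsg.degreePrimes S = {r : ℕ | r.Prime ∧ (r = 2 ∨ r ∣ (q - 1) * (q ^ 2 + 1))} ∧ ∀ r s : ℕ, (Cfsg.degreeGraph S).Adj r s ↔ (r ≠ s ∧ r.Prime ∧ s.Prime ∧ ((r ∣ (q - 1) * (q ^ 2 + 1) ∧ s ∣ (q - 1) * (q ^ 2 + 1)) ∨ (r = 2 ∧ s ∣ q - 1) ∨ (s = 2 ∧ r ∣ q - 1))) := by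
  subst hqm
  have := szField_of_card hm hq
  obtain ⟨e⟩ := hS
  have hd : charDegrees S = _ := ((charDegrees_congr e).trans (charDegrees_congr (szEquiv m)).symm).trans (degs F m)
  have h1 := q_sq_add_one_eq (F := F) m
  have h2 := odd_q_sub_one m
  have h3 := odd_q_sq_add_one m
  have h4 : ∀ r : ℕ, r.Prime → (r ∣ 2 ^ m ↔ r = 2) := fun r hr =>
    ⟨fun h => (Nat.prime_dvd_prime_iff_eq hr Nat.prime_two).1 (hr.dvd_of_dvd_pow h), by
      rintro rfl; exact dvd_pow_self 2 (by omega)⟩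
  have h5 : ∀ r : ℕ, r.Prime → (r ∣ (2 ^ (2 * m + 1)) ^ 2 ↔ r = 2) := fun r hr =>
    ⟨fun h => (Nat.prime_dvd_prime_iff_eq hr Nat.prime_two).1 (hr.dvd_of_dvd_pow (hr.dvd_of_dvd_pow h)), by
      rintro rfl; exact dvd_pow (dvd_pow_self 2 (by omega)) two_ne_zero⟩
  have h6 : ∀ r s d : ℕ, r ≠ s → r.Prime → s.Prime → (r * s ∣ d ↔ r ∣ d ∧ s ∣ d) := fun r s d h hr hs =>
    ⟨fun e => ⟨(dvd_mul_right r s).trans e, (dvd_mul_left s r).trans e⟩,
      fun e => ((Nat.coprime_primes hr hs).2 h).mul_dvd_of_dvd_of_dvd e.1 e.2⟩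
  rw [h1] at hd h3 ⊢
  generalize 2 ^ (2 * m + 1) - 1 = a at *
  generalize 2 ^ (2 * m + 1) + 2 ^ (m + 1) + 1 = b at *
  generalize 2 ^ (2 * m + 1) - 2 ^ (m + 1) + 1 = c at *
  generalize (2 ^ (2 * m + 1)) ^ 2 = u at *
  generalize 2 ^ m = v at *
  have h7 : ¬ 2 ∣ a := h2.not_two_dvd_nat
  have h8 : ¬ 2 ∣ b := (Nat.odd_mul.1 h3).1.not_two_dvd_nat
  have h9 : ¬ 2 ∣ c := (Nat.odd_mul.1 h3).2.not_two_dvd_nat
  refine ⟨Set.ext fun r => and_congr_right fun hr => ?_, fun r s => and_congr_right fun hrs => and_congr_right fun hr =>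
    and_congr_right fun hs => ?_⟩
  · simp only [hd, Set.mem_insert_iff, Set.mem_singleton_iff, exists_eq_or_imp, exists_eq_left, hr.dvd_mul, h4 r hr, h5 r hr,
      Nat.dvd_one, hr.ne_one]
    tauto
  · simp only [hd, Set.mem_insert_iff, Set.mem_singleton_iff, exists_eq_or_imp, exists_eq_left, h6 r s _ hrs hr hs,
      hr.dvd_mul, hs.dvd_mul, h4 r hr, h5 r hr, h4 s hs, h5 s hs, Nat.dvd_one, hr.ne_one]
    by_cases e1 : r = 2
    · subst e1; simp [h7, h8, h9, hrs.symm]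
    by_cases e2 : s = 2
    · subst e2; simp [h7, h8, h9, e1]
    simp only [e1, e2]
    generalize (r ∣ a) = p1, (r ∣ b) = p2, (r ∣ c) = p3, (s ∣ a) = p4, (s ∣ b) = p5, (s ∣ c) = p6
    grind

end Cfsg.Agent.S4775
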