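import Cfsg.Statements.S4779
import Cfsg.Agent.Lib.Hall.RelDeg2

set_option autoImplicit false
open Cfsg

namespace Cfsg.Agent.S4779

open scoped Pointwise commutatorElement
open Cfsg.Lib Cfsg.Lib.Hall

/-- Let N be a solvable normal subgroup of the finite group G contained in the derived subgroup of G, and consider the common-divisor graph on the relative degree set cd(G|N) (degrees of irreducible complex characters of G whose kernel does not contain N, two distinct degrees adjacent when not coprime). If this graph has two vertices that are not joined by any path, then there is a vertex a₀ such that any two distinct vertices in the component of a₀ are adjacent, and any two distinct vertices outside that component are adjacent or have a common neighbour (one component is complete, the other has diameter at most 2). -/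
theorem result {G : Type*} [Group G] [Finite G] (N : Subgroup G) [N.Normal] [Group.IsSolvable N] (hNG : N ≤ commutator G) (hdisc : ¬ (Cfsg.commonDivisorGraph.induce (Cfsg.relCharDegrees N)).Preconnected) : ∃ a₀ : ↥(Cfsg.relCharDegrees N), (∀ b c : ↥(Cfsg.relCharDegrees N), (Cfsg.commonDivisorGraph.induce (Cfsg.relCharDegrees N)).Reachable a₀ b → (Cfsg.commonDivisorGraph.induce (Cfsg.relCharDegrees N)).Reachable a₀ c → b ≠ c → (Cfsg.commonDivisorGraph.induce (Cfsg.relCharDegrees N)).Adj b c) ∧ (∀ b c : ↥(Cfsg.relCharDegrees N), ¬ (Cfsg.commonDivisorGraph.induce (Cfsg.relCharDegrees N)).Reachable a₀ b → ¬ (Cfsg.commonDivisorGraph.induce (Cfsg.relCharDegrees N)).Reachable a₀ c → b ≠ c → (Cfsg.commonDivisorGraph.induce (Cfsg.relCharDegrees N)).Adj b c ∨ ∃ d : ↥(Cfsg.relCharDegrees N), (Cfsg.commonDivisorGraph.induce (Cfsg.relCharDegrees N)).Adj b d ∧ (Cfsg.commonDivisorGraph.induce (Cfsg.relCharDegrees N)).Adj d c) := by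
  rw [SimpleGraph.Preconnected] at hdisc
  push Not at hdisc
  obtain ⟨u, v, huv⟩ := hdisc
  obtain ⟨p, hp, hp1⟩ := RD.exists_prime (RD.lt_of_mem u.2)
  obtain ⟨a, y, h1, h2⟩ : ∃ a y : relCharDegrees N, ¬ RD.Cn N a y ∧ (y : ℕ).Coprime (⁅N, N⁆.relIndex N) := by
    rcases RD.split hNG u.2 v.2 (fun ⟨_, _, h'⟩ => huv h') with h | h
    · exact ⟨v, u, fun ⟨_, _, h'⟩ => huv h'.symm, h.1⟩
    · exact ⟨u, v, fun ⟨_, _, h'⟩ => huv h', h.1⟩
  have h3 : ∀ b : relCharDegrees N, (commonDivisorGraph.induce (relCharDegrees N)).Reachable a b → p ∣ b := fun b hb =>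
    ((RD.split hNG b.2 y.2 fun h => h1 (RD.Cn.trans ⟨_, _, hb⟩ h)).resolve_left fun h => RD.nc hp (h.2 p hp hp1) hp1 h2).2 p hp hp1
  refine ⟨a, fun b c hb hc hne => RD.adj_of b.2 c.2 (RD.nc hp (h3 b hb) (h3 c hc)) fun e => hne (Subtype.ext e),
    fun b c hb hc hne => ?_⟩
  have hne' : (b : ℕ) ≠ c := fun e => hne (Subtype.ext e)
  rcases RD.diam_two N hNG b.2 c.2 a.2 (fun ⟨_, _, h'⟩ => hb h'.symm) (fun ⟨_, _, h'⟩ => hc h'.symm) with h | ⟨d, hd, h, h'⟩
  · exact .inl (RD.adj_of b.2 c.2 h hne')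
  · by_cases e : (b : ℕ) = d
    · exact .inl (RD.adj_of b.2 c.2 (e ▸ h') hne')
    by_cases e' : d = c
    · exact .inl (RD.adj_of b.2 c.2 (e' ▸ h) hne')
    exact .inr ⟨⟨d, hd⟩, RD.adj_of b.2 hd h e, RD.adj_of hd c.2 h' e'⟩

end Cfsg.Agent.S4779
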