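import Cfsg.Statements.S4784
import Cfsg.Agent.Lib.Clifford.Real

set_option autoImplicit false
open Cfsg

namespace Cfsg.Agent.S4784

open Cfsg.Lib Cfsg.Lib.Clifford Cfsg.Lib.Char Finset

/-- Let H be a subgroup of the finite group G and consider the permutation character of G on the cosets of H (the function induced from the principal character of H). Then exactly one irreducible constituent of it is real-valued with Frobenius–Schur indicator +1 (namely the principal character) if and only if the normal core of H has odd index in G. -/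
theorem result {G : Type*} [Group G] [Fintype G] (H : Subgroup G) : Nat.card {χ : Cfsg.IrrCharacter G // Cfsg.classInner (Cfsg.indFun H (fun _ : H => (1 : ℂ))) (χ : G → ℂ) ≠ 0 ∧ (∀ g : G, (starRingEnd ℂ) ((χ : G → ℂ) g) = (χ : G → ℂ) g) ∧ (Nat.card G : ℂ)⁻¹ * ∑ g : G, (χ : G → ℂ) (g * g) = 1} = 1 ↔ Odd H.normalCore.index := by
  classical
  have e : ∀ χ : G → ℂ, IsIrrCharacter G χ →
      Cfsg.classInner (Cfsg.indFun H (fun _ : H => (1 : ℂ))) χ = dot H 1 χ := fun χ hχ => by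
    rw [← dot_top, show (fun _ : H => (1 : ℂ)) = res H (1 : G → ℂ) from rfl, indFun_res,
      dot_ind_left le_top _ (irrOn_top.2 hχ).classOn]
  have h1 : IsIrrCharacter G 1 := irrOn_top.1 (irrOn_one ⊤)
  have hd : dot H (1 : G → ℂ) 1 = 1 := (irrOn_one H).dot_self
  let o : {χ : Cfsg.IrrCharacter G // Cfsg.classInner (Cfsg.indFun H (fun _ : H => (1 : ℂ))) (χ : G → ℂ) ≠ 0 ∧ (∀ g : G, (starRingEnd ℂ) ((χ : G → ℂ) g) = (χ : G → ℂ) g) ∧ (Nat.card G : ℂ)⁻¹ * ∑ g : G, (χ : G → ℂ) (g * g) = 1} :=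
    ⟨⟨1, h1⟩, by rw [e _ h1, hd]; simp, by simp, by rw [← fsOn_top, fsOn_one]⟩
  rw [Nat.card_eq_one_iff_unique]
  refine ⟨fun ⟨hs, _⟩ => ?_, fun ho => ⟨⟨fun a b => ?_⟩, ⟨o⟩⟩⟩
  · have h2 := fsOn_ind H ⊤ (1 : G → ℂ)
    rw [(ind_classOn H ⊤ 1).fsOn_eq_sum, ← add_sum_erase _ _ (mem_Irr_top.2 h1), fsOn_one,
      dot_ind_left le_top _ (classOn_one ⊤), hd, elems_top,
      sum_congr (s₁ := univ) rfl (g := fun g : G => if g * g ∈ H then 1 else 0) fun g _ => by
        split_ifs with h; exacts [cut_of_mem _ h, cut_of_notMem _ h], sum_boole] at h2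
    have h3 : (∑ χ ∈ (Irr ⊤).erase 1, dot ⊤ (ind H ⊤ (1 : G → ℂ)) χ * fsOn ⊤ χ).re ≤ 0 := by
      rw [Complex.re_sum]
      refine sum_nonpos fun χ hχ => ?_
      obtain ⟨hne, hχ⟩ := mem_erase.1 hχ
      have hi := irrOn_of_mem hχ
      obtain ⟨n, hn⟩ := ((charOn_one H).ind le_top).dot_nat hi.charOn
      by_cases h0 : n = 0
      · simp [hn, h0]
      rcases hi.fsOn_cases with h | h | h
      · refine absurd (congrArg (fun a => a.1.1) (hs.allEq ⟨⟨χ, mem_Irr_top.1 hχ⟩, ?_, fun g =>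
          hi.realOn_of_fsOn (by simp [h]) g trivial, by rw [← fsOn_top, h]⟩ o)) hne
        rw [e _ (mem_Irr_top.1 hχ), ← dot_ind_left le_top _ hi.classOn, hn]
        simpa using h0
      · simp [hn, h]
      · simp [h]
    have h4 : (univ.filter fun g : G => g * g ∈ H).card ≤ (elems H).card := by
      have h5 := congrArg Complex.re (congrArg ((Nat.card H : ℂ) * ·) h2)
      simp only [mul_inv_cancel_left₀ (Clifford.card_ne_zero H), mul_add, Complex.add_re, mul_one,
        Complex.natCast_re, Complex.mul_re, Complex.natCast_im, zero_mul, sub_zero] at h5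
      rw [card_elems, ← Nat.cast_le (α := ℝ), ← h5]
      nlinarith [(Nat.cast_nonneg (Nat.card H) : (0 : ℝ) ≤ _)]
    have h5 := eq_of_subset_of_card_le (s := elems H) (fun x hx => mem_filter.2 ⟨mem_univ _,
      H.mul_mem (mem_elems.1 hx) (mem_elems.1 hx)⟩) h4
    have h6 : ∀ g, g * g ∈ H → g ∈ H := fun g hg => mem_elems.1 (h5 ▸ mem_filter.2 ⟨mem_univ _, hg⟩)
    rw [← Nat.not_even_iff_odd, even_iff_two_dvd]
    intro h7
    obtain ⟨x, hx⟩ := exists_prime_orderOf_dvd_card' (G := G ⧸ H.normalCore) 2 h7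
    obtain ⟨x, rfl⟩ := QuotientGroup.mk_surjective x
    have h8 : x * x ∈ H.normalCore := by
      rw [← QuotientGroup.eq_one_iff, QuotientGroup.mk_mul, ← sq, ← hx, pow_orderOf_eq_one]
    have h9 : x ∈ H.normalCore := fun b => h6 _ (by simpa [conj_mul] using h8 b)
    rw [(QuotientGroup.eq_one_iff x).2 h9] at hx
    simp at hx
  · have key : ∀ a : {χ : Cfsg.IrrCharacter G // Cfsg.classInner (Cfsg.indFun H (fun _ : H => (1 : ℂ))) (χ : G → ℂ) ≠ 0 ∧ (∀ g : G, (starRingEnd ℂ) ((χ : G → ℂ) g) = (χ : G → ℂ) g) ∧ (Nat.card G : ℂ)⁻¹ * ∑ g : G, (χ : G → ℂ) (g * g) = 1}, a = o := by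
      rintro ⟨⟨χ, hχ⟩, h2, h3, -⟩
      have hi := irrOn_top.2 hχ
      rw [e _ hχ, Ne, dot_eq_zero_comm] at h2
      refine Subtype.ext (Subtype.ext (funext fun x => hi.eq_one_of_real_of_triv
        (nrm_of_normal ⊤ H.normalCore) (by rwa [Subgroup.relIndex_top_right]) ?_ (fun g _ => h3 g) x trivial))
      rw [hi.triv_iff le_top (nrm_of_normal ⊤ H.normalCore)]
      exact (hi.charOn.mono le_top).dot_ne_zero_trans H.normalCore_le (irrOn_one H) (charOn_one _) h2
        (by rw [(irrOn_one _).dot_self]; simp)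
    rw [key a, key b]

end Cfsg.Agent.S4784
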