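import Cfsg.Statements.S4796
import Cfsg.Agent.Lib.Clifford.Count
import Cfsg.Agent.Lib.Coprime.FrobKernel

set_option autoImplicit false
open Cfsg

namespace Cfsg.Agent.S4796

open Cfsg.Lib Cfsg.Lib.Clifford Cfsg.Lib.Char Finset

/-- Let G be a finite group with a faithful irreducible complex character χ whose codegree #G / χ(1) is a prime p (for a faithful character the kernel is trivial, so the codegree is #G / χ(1)). Then either G is cyclic of order p, or G is a Frobenius group whose Frobenius kernel has order p: some proper non-trivial subgroup H satisfies H ∩ gHg⁻¹ = 1 for every element g outside H, and the set of elements lying in no conjugate of H, together with the identity, has exactly p elements. -/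
theorem result {G : Type*} [Group G] [Finite G] (χ : Cfsg.IrrCharacter G) (hfaith : ∀ g : G, (χ : G → ℂ) g = (χ : G → ℂ) 1 → g = 1) (p : ℕ) (hp : p.Prime) (hcod : Nat.card G = p * Cfsg.charDegree (χ : G → ℂ)) : (IsCyclic G ∧ Nat.card G = p) ∨ ∃ H : Subgroup G, Cfsg.IsFrobeniusComplement H ∧ Nat.card ↥(Cfsg.frobeniusKernel H) = p := by
  obtain ⟨P, hn, hP, hi, hlt, hC⟩ := exists_normal_of_card_eq_prime_mul χ.2
    ((charKer_eq_bot_iff χ.2.isCharacter).2 hfaith) hp hcod
  have := Fact.mk hp
  by_cases h1 : charDegree (χ : G → ℂ) = 1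
  · rw [h1, mul_one] at hcod
    exact Or.inl ⟨isCyclic_of_prime_card hcod, hcod⟩
  right
  obtain ⟨H, hH⟩ := Subgroup.exists_right_complement'_of_coprime (N := P) (by
    rw [hP, hi]
    exact hp.coprime_iff_not_dvd.2 (Nat.not_dvd_of_pos_of_lt (irrOn_top.2 χ.2).deg_pos hlt))
  have hf : Coprime.Fpf P H := (Coprime.fpf_of_card_prime (K := H) (hP ▸ hp)
    (le_bot_iff.1 ((inf_le_inf_left H hC).trans hH.disjoint.symm.le_bot))).symm
  have hP0 : P ≠ ⊥ := fun e => by
    rw [e, Subgroup.card_bot] at hP; exact hp.one_lt.ne hP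
  have hH0 : H ≠ ⊥ := fun e => by
    have := hH.symm.index_eq_card
    rw [e, Subgroup.card_bot, hi] at this; exact h1 this
  refine ⟨H, Coprime.isFrobeniusComplement_of_fpf hf hH.sup_eq_top hP0 hH0, ?_⟩
  rw [← Coprime.coe_eq_frobeniusKernel_of_fpf hf hH.sup_eq_top]
  exact hP

end Cfsg.Agent.S4796
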