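import Cfsg.Statements.S4797
import Cfsg.Agent.Lib.Clifford.Count
import Cfsg.Agent.Lib.Core.Frattini

set_option autoImplicit false
open Cfsg

namespace Cfsg.Agent.S4797

open Cfsg.Lib Cfsg.Lib.Clifford Cfsg.Lib.Char Finset

/-- The codegree of an irreducible complex character χ of a finite group G is [G : ker χ] / χ(1), where ker χ is the set of elements at which χ takes the value χ(1). A non-trivial finite group is perfect if and only if no irreducible complex character of it has prime codegree. -/
theorem result {G : Type*} [Group G] [Finite G] [Nontrivial G] : commutator G = ⊤ ↔ ∀ χ : Cfsg.IrrCharacter G, ¬ ((Nat.card G / (Nat.card {g : G // (χ : G → ℂ) g = (χ : G → ℂ) 1} * Cfsg.charDegree (χ : G → ℂ)))).Prime := by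
  constructor
  · intro h χ hp
    change (cod (χ : G → ℂ)).Prime at hp
    have hn := χ.2.charKer_normal
    obtain ⟨ψ, hψ, e⟩ := χ.2.exists_quotient (charKer (χ : G → ℂ)) le_rfl
    have hk : charKer ψ = ⊥ := by
      rw [charKer_eq_bot_iff hψ.isCharacter]
      intro g hg
      obtain ⟨g, rfl⟩ := QuotientGroup.mk_surjective g
      refine (QuotientGroup.eq_one_iff g).2 (χ.2.mem_charKer.2 ?_)
      exact (congrFun e g).trans (hg.trans (congrFun e 1).symm)
    have hd : charDegree ψ = charDegree (χ : G → ℂ) := by
      rw [charDegree_of_eq (φ := ψ) (n := charDegree (χ : G → ℂ))]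
      rw [← (irrOn_top.2 χ.2).one_eq]; exact (congrFun e 1).symm
    obtain ⟨P, hPn, hP, -, -, hC⟩ := exists_normal_of_card_eq_prime_mul hψ hk hp
      (by rw [hd, cod_mul_deg χ.2]; rfl)
    have := Fact.mk hp
    have hcyc : IsCyclic P := isCyclic_of_prime_card hP
    have hperf : commutator (G ⧸ charKer (χ : G → ℂ)) = ⊤ := by
      have := Subgroup.map_commutator (⊤ : Subgroup G) ⊤ (QuotientGroup.mk' (charKer (χ : G → ℂ)))
      rw [← commutator_def, h, Subgroup.map_top_of_surjective _ (QuotientGroup.mk'_surjective _)] at this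
      exact this.symm
    have h1 : commutator (G ⧸ charKer (χ : G → ℂ)) ≤ Subgroup.centralizer P := by
      refine le_trans (Abelianization.commutator_subset_ker
        ((IsCyclic.mulAutMulEquiv P).toMonoidHom.comp (MulAut.conjNormal (H := P)))) ?_
      intro g hg x hx
      have hg : MulAut.conjNormal (H := P) g = 1 := by simpa using hg
      have := congrArg Subtype.val (DFunLike.congr_fun hg ⟨x, hx⟩)
      simp only [MulAut.conjNormal_apply, MulAut.one_apply] at this
      exact (mul_inv_eq_iff_eq_mul.1 this).symm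
    have h2 : P = ⊤ := top_le_iff.1 (hperf ▸ h1.trans hC)
    rw [hperf, h2] at h1
    have h3 : commutator (G ⧸ charKer (χ : G → ℂ)) = ⊥ := by
      rw [commutator_def, Subgroup.commutator_eq_bot_iff_le_centralizer]; exact h1
    rw [h2, ← hperf, h3, Subgroup.card_bot] at hP
    exact hp.one_lt.ne hP
  · intro h
    by_contra hne
    obtain ⟨M, hM, hle⟩ := (eq_top_or_exists_le_coatom (commutator G)).resolve_left hne
    have hN := nrm_of_commutator_le (K := ⊤) le_top hle
    have := hN.normal
    obtain ⟨x, -, hx⟩ := SetLike.exists_of_lt hM.lt_top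
    obtain ⟨β, hβ, hβx⟩ := exists_IrrKer_ne le_top hN hx
    have hl := linOn_of_mem_IrrKer hle hβ
    obtain ⟨hβ, ht⟩ := mem_IrrKer.1 hβ
    have hi := mem_Irr_top.1 hβ
    have hk : charKer β = M := (hM.le_iff.1 ((irr_le_charKer_iff' hβ le_top).2 ht)).resolve_left
      fun e => hβx (hi.mem_charKer.1 (e ▸ Subgroup.mem_top x))
    have h1 := cod_mul_deg hi
    rw [hl.deg, mul_one, hk] at h1
    exact h ⟨β, hi⟩ (show (cod β).Prime from h1 ▸ Core.prime_index_of_isCoatom_of_normal hM)

end Cfsg.Agent.S4797
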