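import Cfsg.Statements.S4798
import Cfsg.Agent.Lib.Clifford.Count

set_option autoImplicit false
open Cfsg

namespace Cfsg.Agent.S4798

open Cfsg.Lib Cfsg.Lib.Clifford Cfsg.Lib.Char Finset

/-- Let p be a prime and χ a faithful irreducible complex character of the finite group G (χ(g) = χ(1) only for g = 1), so that its codegree is #G / χ(1). Then #G / χ(1) is a power of p if and only if χ is induced from a character of a Sylow p-subgroup of G. -/
theorem result {G : Type*} [Group G] [Fintype G] (p : ℕ) [Fact p.Prime] (χ : Cfsg.IrrCharacter G) (hfaith : ∀ g : G, (χ : G → ℂ) g = (χ : G → ℂ) 1 → g = 1) : (∃ k : ℕ, Nat.card G = p ^ k * Cfsg.charDegree (χ : G → ℂ)) ↔ ∃ (P : Sylow p G) (θ : ↥(P : Subgroup G) → ℂ), Cfsg.IsCharacter ↥(P : Subgroup G) θ ∧ (χ : G → ℂ) = Cfsg.indFun (P : Subgroup G) θ := by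
  have hp : p.Prime := Fact.out
  have hχ := irrOn_top.2 χ.2
  constructor
  · rintro ⟨k, hk⟩
    obtain ⟨P⟩ : Nonempty (Sylow p G) := inferInstance
    have hd := hχ.deg_pos.ne'
    obtain ⟨θ, hθ, h0, hθd⟩ := CharOn.exists_deg_le_of_pgroup hp P.2 (hχ.charOn.mono le_top)
      (Nat.pow_succ_factorization_not_dvd hd hp)
    refine ⟨P, res _ θ, (irrOn_of_mem hθ).charOn, ?_⟩
    rw [indFun_res]
    funext x
    refine (hχ.ind_eq_of_deg_le le_top (irrOn_of_mem hθ).charOn h0 ?_ x trivial).symm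
    rw [Subgroup.relIndex_top_right]
    refine Nat.le_of_dvd hχ.deg_pos (Nat.Coprime.mul_dvd_of_dvd_of_dvd ?_ ?_ ?_)
    · exact (Nat.Coprime.pow_right _ (hp.coprime_iff_not_dvd.2 P.not_dvd_index).symm).of_dvd_right hθd
    · exact (Nat.Coprime.pow_right k (hp.coprime_iff_not_dvd.2 P.not_dvd_index).symm).dvd_of_dvd_mul_left
        (hk ▸ (P : Subgroup G).index_dvd_card)
    · exact hθd.trans (Nat.ordProj_dvd _ _)
  · rintro ⟨P, θ, hθ, e⟩
    obtain ⟨φ, rfl, -⟩ := exists_res _ θ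
    rw [indFun_res] at e
    have hφ : CharOn P φ := hθ
    have h1 := hφ.irrOn_of_ind le_top (e ▸ hχ)
    obtain ⟨c, hc⟩ := h1.deg_dvd_card
    obtain ⟨a, ha⟩ := P.2.exists_card_eq
    obtain ⟨j, -, hj⟩ := (Nat.dvd_prime_pow hp).1 (ha ▸ Dvd.intro_left _ hc.symm)
    refine ⟨j, ?_⟩
    rw [e, hφ.deg_ind le_top, Subgroup.relIndex_top_right, ← (P : Subgroup G).card_mul_index, hc, hj]
    ring

end Cfsg.Agent.S4798
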