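import Cfsg.Statements.S4801
import Cfsg.Agent.Lib.Clifford.Count

set_option autoImplicit false
open Cfsg

namespace Cfsg.Agent.S4801

open Cfsg.Lib Cfsg.Lib.Clifford Cfsg.Lib.Char Finset

/-- The codegree of an irreducible complex character χ of a finite group G is [G : ker χ] / χ(1), where ker χ is the set of elements at which χ takes the value χ(1). Let S be a finite simple group and G a finite group such that every codegree of an irreducible character of S is a codegree of an irreducible character of G. Then the order of S divides the order of G. -/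
theorem result {S : Type*} [Group S] [Finite S] (hS : IsSimpleGroup S) {G : Type*} [Group G] [Finite G] (hsub : ∀ χ : Cfsg.IrrCharacter S, ∃ ψ : Cfsg.IrrCharacter G, (Nat.card S / (Nat.card {g : S // (χ : S → ℂ) g = (χ : S → ℂ) 1} * Cfsg.charDegree (χ : S → ℂ))) = (Nat.card G / (Nat.card {g : G // (ψ : G → ℂ) g = (ψ : G → ℂ) 1} * Cfsg.charDegree (ψ : G → ℂ)))) : Nat.card S ∣ Nat.card G := by
  classical
  refine (Nat.dvd_iff_prime_pow_dvd_dvd _ _).2 fun p k hp hk => ?_
  rcases k with _ | k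
  · simp
  have hp' : p ∣ Nat.card S := (dvd_pow_self p k.succ_ne_zero).trans hk
  have h1 := sum_deg_sq (⊤ : Subgroup S)
  rw [← add_sum_erase _ _ (cut_one_mem ⊤), Subgroup.card_top,
    charDegree_of_eq (φ := cut ⊤ (1 : S → ℂ)) (n := 1) (by rw [cut_top]; simp)] at h1
  obtain ⟨χ, hχ, hd⟩ : ∃ χ ∈ (Irr (⊤ : Subgroup S)).erase (cut ⊤ 1), ¬ p ∣ charDegree χ := by
    by_contra hc
    push Not at hc
    refine hp.one_lt.ne' (Nat.dvd_one.1 ((Nat.dvd_add_left ?_).1 (by simpa using h1 ▸ hp')))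
    exact dvd_sum fun χ hχ => (hc χ hχ).pow two_ne_zero
  obtain ⟨hne, hχ⟩ := mem_erase.1 hχ
  have hχ := mem_Irr_top.1 hχ
  have hk0 : charKer χ = ⊥ := (hS.eq_bot_or_eq_top_of_normal _ hχ.charKer_normal).resolve_right
    fun e => hne (by rw [hχ.charKer_eq_top_iff.1 e, cut_top]; rfl)
  obtain ⟨ψ, hψ⟩ := hsub ⟨χ, hχ⟩
  have h2 := cod_mul_deg hχ
  rw [hk0, Subgroup.index_bot] at h2
  rw [← h2] at hk
  have h3 : p ^ (k + 1) ∣ cod χ :=
    (Nat.Coprime.pow_left _ (hp.coprime_iff_not_dvd.2 hd)).dvd_of_dvd_mul_right hk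
  exact h3.trans ((dvd_of_eq hψ).trans (cod_dvd_card ψ.2))

end Cfsg.Agent.S4801
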