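import Cfsg.Statements.S4802
import Cfsg.Agent.Lib.Clifford.Count

set_option autoImplicit false
open Cfsg

namespace Cfsg.Agent.S4802

open Cfsg.Lib Cfsg.Lib.Clifford Cfsg.Lib.Char Finset

/-- Let N < M be normal subgroups of the finite group G and g ∈ M ∖ N. Then the conjugacy class of g is exactly M ∖ N if and only if every irreducible complex character of G whose kernel contains N takes the same value at all elements of M ∖ N, and every irreducible complex character of G whose kernel does not contain N vanishes at g. -/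
theorem result {G : Type*} [Group G] [Finite G] (N M : Subgroup G) [N.Normal] [M.Normal] (hNM : N < M) (g : G) (hgM : g ∈ M) (hgN : g ∉ N) : {h : G | IsConj g h} = (M : Set G) \ (N : Set G) ↔ ((∀ χ : Cfsg.IrrCharacter G, (∀ x ∈ N, (χ : G → ℂ) x = (χ : G → ℂ) 1) → ∀ x ∈ M, x ∉ N → ∀ y ∈ M, y ∉ N → (χ : G → ℂ) x = (χ : G → ℂ) y) ∧ (∀ χ : Cfsg.IrrCharacter G, (∃ x ∈ N, (χ : G → ℂ) x ≠ (χ : G → ℂ) 1) → (χ : G → ℂ) g = 0)) := by
  constructor
  · intro h
    have h1 : ∀ x ∈ M, x ∉ N → IsConj g x := fun x hx hx' => by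
      have : x ∈ (M : Set G) \ (N : Set G) := ⟨hx, hx'⟩
      rw [← h] at this
      exact this
    refine ⟨fun χ _ x hx hx' y hy hy' => ?_, fun χ ⟨x, hx, hx'⟩ => ?_⟩
    · exact χ.2.isClassFunction.eq_of_isConj ((h1 x hx hx').symm.trans (h1 y hy hy'))
    · have h2 := (irrOn_top.2 χ.2).sum_coset_eq_zero le_top (nrm_of_normal ⊤ N)
        (fun ht => hx' (ht x hx)) (Subgroup.mem_top g)
      rw [sum_congr rfl (g := fun _ => (χ : G → ℂ) g) fun n hn => by
        have hn := mem_elems.1 hn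
        exact (χ.2.isClassFunction.eq_of_isConj (h1 _ (M.mul_mem (hNM.le hn) hgM)
          fun e => hgN ((N.mul_mem_cancel_left hn).1 e))).symm, sum_const, card_elems, nsmul_eq_mul] at h2
      exact (mul_eq_zero.1 h2).resolve_left (Clifford.card_ne_zero N)
  · rintro ⟨h1, h2⟩
    ext x
    constructor
    · intro hx
      obtain ⟨c, rfl⟩ := isConj_iff.1 hx
      refine ⟨‹M.Normal›.conj_mem _ hgM c, fun e => hgN ?_⟩
      simpa [mul_assoc] using ‹N.Normal›.conj_mem _ e c⁻¹
    · rintro ⟨hx, hx'⟩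
      refine isConj_of_forall_irr fun χ hχ => ?_
      by_cases ht : ∀ x ∈ N, χ x = χ 1
      · exact Or.inr (h1 ⟨χ, hχ⟩ ht x hx hx' g hgM hgN)
      · push Not at ht
        exact Or.inl (h2 ⟨χ, hχ⟩ ht)

end Cfsg.Agent.S4802
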