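import Cfsg.Statements.S4807
import Cfsg.Agent.Lib.Block2.OW3

set_option autoImplicit false
open Cfsg

namespace Cfsg.Agent.S4807

open Cfsg.Lib Cfsg.Lib.Block2.OW

/-- Let p be a prime and G a finite p-solvable group, L a normal subgroup of G, S a Sylow p-subgroup of G and P the subgroup generated by L and S (so P/L is a Sylow p-subgroup of G/L), and let ν be an irreducible complex character of L that is invariant under conjugation by every element of P. Let N be the normalizer of P in G (it contains L). Then the number of irreducible characters of G of degree prime to p lying over ν (restriction to L not orthogonal to ν) equals the number of irreducible characters of N of degree prime to p lying over ν. -/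
theorem result {G : Type*} [Group G] [Finite G] (p : ℕ) [Fact p.Prime] (hG : Cfsg.IsPSolvable p G) (L : Subgroup G) [L.Normal] (S : Sylow p G) (P : Subgroup G) (hP : P = L ⊔ (S : Subgroup G)) (hLN : L ≤ (Subgroup.normalizer ((P : Subgroup G) : Set G))) (ν : Cfsg.IrrCharacter ↥L) (hν : ∀ x ∈ P, Cfsg.IsConjCharOf L x (ν : ↥L → ℂ) (ν : ↥L → ℂ)) : Nat.card {χ : Cfsg.IrrCharacter G // ¬ p ∣ Cfsg.charDegree (χ : G → ℂ) ∧ (∑ᶠ l : ↥L, (χ : G → ℂ) (l : G) * (starRingEnd ℂ) ((ν : ↥L → ℂ) l)) ≠ 0} = Nat.card {ψ : Cfsg.IrrCharacter ↥(Subgroup.normalizer ((P : Subgroup G) : Set G)) // ¬ p ∣ Cfsg.charDegree (ψ : ↥(Subgroup.normalizer ((P : Subgroup G) : Set G)) → ℂ) ∧ (∑ᶠ l : ↥L, (ψ : ↥(Subgroup.normalizer ((P : Subgroup G) : Set G)) → ℂ) (Subgroup.inclusion hLN l) * (starRingEnd ℂ) ((ν : ↥L → ℂ) l)) ≠ 0} := by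
  classical
  subst hP
  revert ν
  refine Coprime.irrCharacter_ind fun φ hφ hν => ?_
  have hi : Clifford.InvOn (S : Subgroup G) L φ := fun s hs x hx =>
    hν s (Subgroup.mem_sup_right hs) ⟨x, hx⟩ ⟨_, Clifford.nrm_of_normal ⊤ L s (Subgroup.mem_top s) x hx⟩ rfl
  have h := mckay hG S _ ⊤ L φ rfl le_top (Clifford.nrm_of_normal ⊤ L) (Amalg.syl_top S)
    (Clifford.irrOn_of_mem hφ) hi
  rw [top_inf_eq] at h
  have := Fintype.ofFinite L
  have e : ∀ χ : G → ℂ, (∑ᶠ l : L, χ l * (starRingEnd ℂ) (φ l)) ≠ 0 ↔ Clifford.dot L χ φ ≠ 0 :=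
    fun χ => by
      rw [finsum_eq_sum_of_fintype, Clifford.dot, Clifford.sum_elems, mul_ne_zero_iff]
      simp [Nat.card_pos.ne']
  rw [Clifford.card_irr_filter (fun χ : G → ℂ => ¬ p ∣ charDegree χ ∧
      (∑ᶠ l : L, χ l * (starRingEnd ℂ) (φ l)) ≠ 0),
    Coprime.card_irrCharacter_subtype _ (fun χ => ¬ p ∣ charDegree χ ∧ Clifford.dot L χ φ ≠ 0)
      fun χ _ => and_congr Iff.rfl (e χ)]
  unfold cnt at h
  convert h using 2
  · ext χ
    simp only [Finset.mem_filter, Clifford.mem_IrrOver, e]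
    tauto
  · ext χ
    simp only [Finset.mem_filter, Clifford.mem_IrrOver]
    tauto

end Cfsg.Agent.S4807
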