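import Cfsg.Statements.S4811
import Cfsg.Agent.Lib.Clifford.JustNab

set_option autoImplicit false
open Cfsg

namespace Cfsg.Agent.S4811

open Cfsg.Lib Cfsg.Lib.Clifford Cfsg.Lib.Char Finset Subgroup
open scoped commutatorElement

/-- For every finite solvable group G the character degree graph of G (vertices: the primes dividing some irreducible complex character degree; edges: distinct primes whose product divides some degree) has at most two connected components. -/
theorem result {G : Type*} [Group G] [Finite G] [Group.IsSolvable G] : Nat.card ((Cfsg.degreeGraph G).induce (Cfsg.degreePrimes G)).ConnectedComponent ≤ 2 := by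
---
  classical
  have mem : ∀ {q d}, q.Prime → IsCd (⊤ : Subgroup G) d → q ∣ d → q ∈ degreePrimes G :=
    fun h1 h2 h3 => ⟨h1, _, isCd_top.1 h2, h3⟩
  suffices h : ∃ a b : ℕ, ∀ q d, q.Prime → IsCd (⊤ : Subgroup G) d → q ∣ d →
      ∃ r e, (r = a ∨ r = b) ∧ r.Prime ∧ IsCd (⊤ : Subgroup G) e ∧ q ∣ e ∧ r ∣ e by
    obtain ⟨a, b, h⟩ := h
    have : ∀ c : ((degreeGraph G).induce (degreePrimes G)).ConnectedComponent, ∃ w, (w.1 = a ∨ w.1 = b) ∧
        ((degreeGraph G).induce (degreePrimes G)).connectedComponentMk w = c := by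
      rintro ⟨q, hq, d, h1, h2⟩
      obtain ⟨r, e, h3, h4, h5, h6, h7⟩ := h q d hq (isCd_top.2 h1) h2
      refine ⟨⟨r, mem h4 h5 h7⟩, h3, ?_⟩
      by_cases h8 : r = q
      · subst h8; rfl
      · exact SimpleGraph.ConnectedComponent.sound (SimpleGraph.Adj.reachable ⟨h8, h4, hq, e, isCd_top.1 h5,
          ((Nat.coprime_primes h4 hq).2 h8).mul_dvd_of_dvd_of_dvd h7 h6⟩)
    choose w h1 h2 using this
    refine (Nat.card_le_card_of_injective (fun c => decide ((w c).1 = a)) fun c c' e => ?_).trans (by simp)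
    rw [← h2 c, ← h2 c']
    have := h1 c
    have := h1 c'
    exact congrArg _ (Subtype.ext (by grind))
  by_cases hn : commutator G = ⊥
  · refine ⟨0, 0, fun q d hq ⟨χ, h1, h2⟩ h3 => (hq.not_dvd_one ?_).elim⟩
    rwa [← h2, ((irrOn_of_mem h1).linOn_of_triv hn.le (triv_bot _)).deg] at h3
  obtain ⟨p, hp, ⟨k, h⟩ | ⟨N, _, -, h1, h2, h⟩⟩ := cd_just ‹_› hn
  · refine ⟨p, p, fun q d hq h1 h2 => ?_⟩
    by_cases h3 : p ∣ d
    · exact ⟨p, d, .inl rfl, hp, h1, h2, h3⟩
    · exact ⟨p, _, .inl rfl, hp, h d h1 h3, h2.mul_left _, (dvd_pow_self p k.succ_ne_zero).mul_right _⟩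
  have hr := Nat.minFac_prime (index_eq_one.not.2 h1)
  refine ⟨p, N.index.minFac, fun q d hq ⟨χ, h3, h4⟩ h5 => ?_⟩
  have hχ := irrOn_of_mem h3
  obtain ⟨ψ, h6, h7⟩ := hχ.exists_under (H := N) le_top
  have hψ := irrOn_of_mem h6
  by_cases h8 : p ∣ charDegree ψ
  · exact ⟨p, d, .inl rfl, hp, ⟨χ, h3, h4⟩, h5, h4 ▸ h8.trans (deg_dvd_of_dot le_top (nrm_of_normal _ _) hχ hψ h7)⟩
  · refine ⟨_, _, .inr rfl, hr, h _ hψ.isCd h8, h5.trans ?_, (Nat.minFac_dvd _).mul_right _⟩
    rw [← h4, ← relIndex_top_right]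
    exact deg_dvd_relIndex_mul le_top (nrm_of_normal _ _) hχ hψ h7

end Cfsg.Agent.S4811
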