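import Cfsg.Statements.S4813
import Cfsg.Agent.S4466

set_option autoImplicit false
open Cfsg

namespace Cfsg.Agent.S4813

open Cfsg.Lib Cfsg.Lib.Clifford Cfsg.Lib.Char Finset Subgroup
open scoped commutatorElement

/-- If every irreducible complex character of the finite group G of degree greater than one has prime degree, then G has at most three distinct irreducible character degrees. -/
theorem result {G : Type*} [Group G] [Finite G] (hprime : ∀ d ∈ Cfsg.charDegrees G, d = 1 ∨ d.Prime) : Nat.card ↥(Cfsg.charDegrees G) ≤ 3 := by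
---
  suffices h : ∃ p q, charDegrees G ⊆ {1, p, q} by
    obtain ⟨p, q, h⟩ := h
    refine (Nat.card_mono (Set.toFinite _) h).trans ((Set.ncard_insert_le _ _).trans (Nat.succ_le_succ
      ((Set.ncard_insert_le _ _).trans (by simp))))
  have h : ∀ d, IsCd (⊤ : Subgroup G) d → d = 1 ∨ d.Prime := fun d hd => hprime d (isCd_top.1 hd)
  have h' : ∀ {a d}, a ≠ 1 → IsCd (⊤ : Subgroup G) (a * d) → d = 1 := fun h1 h2 =>
    (h _ h2).elim (fun e => (h1 (Nat.eq_one_of_mul_eq_one_right e)).elim) fun e => by_contra fun h3 =>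
      Nat.not_prime_mul h1 h3 e
  by_cases hn : commutator G = ⊥
  · exact ⟨0, 0, fun d ⟨χ, e⟩ => .inl (e ▸ ((irrOn_top.2 χ.2).linOn_of_triv hn.le (triv_bot _)).deg)⟩
  obtain ⟨p, hp, ⟨k, h1⟩ | ⟨N, _, -, h1, h2, h3⟩⟩ := cd_just
    (S4466.result fun χ e => (hprime _ ⟨χ, rfl⟩).resolve_left e) hn
  · refine ⟨p, p, fun d hd => ?_⟩
    have hd := isCd_top.2 hd
    by_cases h2 : p ∣ d
    · exact (h d hd).imp_right fun e => .inl ((Nat.prime_dvd_prime_iff_eq hp e).1 h2).symm
    · exact .inl (h' (Nat.one_lt_pow k.succ_ne_zero hp.one_lt).ne' (h1 d hd h2))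
  refine ⟨p, N.index, fun d ⟨χ, e⟩ => (h d (isCd_top.2 ⟨χ, e⟩)).imp_right fun hd => ?_⟩
  have hχ := irrOn_top.2 χ.2
  obtain ⟨ψ, h6, h7⟩ := hχ.exists_under (H := N) le_top
  have hψ := irrOn_of_mem h6
  have h1 := index_eq_one.not.2 h1
  by_cases h8 : p ∣ charDegree ψ
  · exact .inl ((Nat.prime_dvd_prime_iff_eq hp hd).1
      (e ▸ h8.trans (deg_dvd_of_dot le_top (nrm_of_normal _ _) hχ hψ h7))).symm
  have h9 := h3 _ hψ.isCd h8
  have := deg_dvd_relIndex_mul le_top (nrm_of_normal _ _) hχ hψ h7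
  rw [e, relIndex_top_right] at this
  have h10 := h' h1 h9
  rw [h10, mul_one] at h9 this
  exact .inr ((Nat.prime_dvd_prime_iff_eq hd ((h _ h9).resolve_left h1)).1 this)

end Cfsg.Agent.S4813
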