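import Cfsg.Statements.S4814
import Cfsg.Agent.Lib.Clifford.Count

set_option autoImplicit false
open Cfsg

namespace Cfsg.Agent.S4814

open Cfsg.Lib Cfsg.Lib.Clifford Cfsg.Lib.Char Finset

/-- Let G be a finite group such that the sum, over the irreducible complex characters χ of G, of 1/χ(1)² is less than 2. Then every element of G is a product of two commutators. -/
theorem result {G : Type*} [Group G] [Finite G]
    (h : ∑ᶠ χ : Cfsg.IrrCharacter G, 1 / ‖(χ : G → ℂ) 1‖ ^ 2 < (2 : ℝ)) (g : G) :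
    ∃ a b c d : G, (a * b * a⁻¹ * b⁻¹) * (c * d * c⁻¹ * d⁻¹) = g := by
  classical
  have := Fintype.ofFinite G
  by_contra hc
  push Not at hc
  have h1 := card_mul_card_fiber (fun x : (G × G) × G × G =>
    (x.1.1 * x.1.2 * x.1.1⁻¹ * x.1.2⁻¹) * (x.2.1 * x.2.2 * x.2.1⁻¹ * x.2.2⁻¹)) g
  have he : IsEmpty {x : (G × G) × G × G //
      (x.1.1 * x.1.2 * x.1.1⁻¹ * x.1.2⁻¹) * (x.2.1 * x.2.2 * x.2.1⁻¹ * x.2.2⁻¹) = g} :=
    ⟨fun x => hc _ _ _ _ x.2⟩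
  rw [@Nat.card_of_isEmpty _ he, Nat.cast_zero, mul_zero] at h1
  have h2 : ∀ χ : IrrCharacter G, (χ : G → ℂ) 1 * ∑ x : (G × G) × G × G, (χ : G → ℂ)
      (((x.1.1 * x.1.2 * x.1.1⁻¹ * x.1.2⁻¹) * (x.2.1 * x.2.2 * x.2.1⁻¹ * x.2.2⁻¹))⁻¹ * g) =
      (Nat.card G : ℂ) ^ 4 * ((χ : G → ℂ) g / (χ : G → ℂ) 1 ^ 3) := fun χ => by
    rw [Fintype.sum_prod_type]
    have h3 : ∀ a : G × G, ∑ b : G × G, (χ : G → ℂ)
        (((a.1 * a.2 * a.1⁻¹ * a.2⁻¹) * (b.1 * b.2 * b.1⁻¹ * b.2⁻¹))⁻¹ * g) =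
        (Nat.card G : ℂ) ^ 2 / (χ : G → ℂ) 1 ^ 2 * (χ : G → ℂ) (a.2 * a.1 * a.2⁻¹ * a.1⁻¹ * g) :=
      fun a => by
        rw [Fintype.sum_prod_type, ← sum_commutator_mul χ.2]
        refine sum_congr rfl fun _ _ => sum_congr rfl fun _ _ => ?_
        congr 1; group
    simp_rw [h3]
    rw [← mul_sum, Fintype.sum_prod_type, sum_commutator_mul χ.2]
    have := χ.2.apply_one_ne_zero
    field_simp
  simp_rw [h2] at h1
  rw [← mul_sum, eq_comm, mul_eq_zero, or_iff_right (pow_ne_zero _ (Cfsg.Lib.Char.card_ne_zero G)),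
    ← add_sum_erase _ _ (mem_univ (principalIrr G))] at h1
  rw [finsum_eq_sum_of_fintype, ← add_sum_erase _ _ (mem_univ (principalIrr G))] at h
  have e1 : ∀ x, (principalIrr G : G → ℂ) x = 1 := fun _ => rfl
  simp only [e1, one_pow, div_one, norm_one] at h h1
  have h4 : ‖∑ χ ∈ univ.erase (principalIrr G), (χ : G → ℂ) g / (χ : G → ℂ) 1 ^ 3‖ = 1 := by
    rw [eq_neg_of_add_eq_zero_right h1]; simp
  have h5 := norm_sum_le (univ.erase (principalIrr G))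
    fun χ : IrrCharacter G => (χ : G → ℂ) g / (χ : G → ℂ) 1 ^ 3
  have h6 : ∑ χ ∈ univ.erase (principalIrr G), ‖(χ : G → ℂ) g / (χ : G → ℂ) 1 ^ 3‖ ≤
      ∑ χ ∈ univ.erase (principalIrr G), 1 / ‖(χ : G → ℂ) 1‖ ^ 2 := sum_le_sum fun χ _ => by
    have h7 := χ.2.isCharacter.norm_le g
    have h8 := norm_pos_iff.2 χ.2.apply_one_ne_zero
    rw [norm_div, norm_pow, div_le_div_iff₀ (by positivity) (by positivity)]
    nlinarith [pow_pos h8 2]
  linarith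

end Cfsg.Agent.S4814
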