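import Cfsg.Statements.S4825
import Cfsg.Agent.Lib.Clifford.PBlk

set_option autoImplicit false
open Cfsg

namespace Cfsg.Agent.S4825

open Cfsg.Lib Cfsg.Lib.Clifford Cfsg.Lib.Char Cfsg.Lib.Block Cfsg.Lib.Block2 Finset Subgroup ComplexConjugate
open scoped commutatorElement

/-- Let p be a prime, G a finite group with Sylow p-subgroup P, M a maximal ideal of the algebraic integers containing p, and B a p-block of G with defect group P. Let N be a normal subgroup of G not containing P and θ an irreducible character of N. Then the number of irreducible characters in B of degree prime to p lying over θ (having θ as a constituent on restriction to N) is either 0 or at least 2, and when p ≤ 3 it is divisible by p. -/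
theorem result {G : Type*} [Group G] [Fintype G] (p : ℕ) [Fact p.Prime] (P : Sylow p G) (M : Ideal Cfsg.AlgInt) (hM : Cfsg.IsPModular p M) (B : Set (Cfsg.IrrCharacter G)) (hB : Cfsg.IsPBlock M B) (hBP : Cfsg.IsDefectGroup p M B P) (N : Subgroup G) [N.Normal] [Fintype N] (hPN : ¬ (P : Subgroup G) ≤ N) (θ : Cfsg.IrrCharacter N) :
    (Nat.card {χ : Cfsg.IrrCharacter G // χ ∈ B ∧ ¬ p ∣ Cfsg.charDegree (χ : G → ℂ) ∧ Cfsg.classInner (fun n : N => (χ : G → ℂ) n) (θ : N → ℂ) ≠ 0} = 0 ∨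
      2 ≤ Nat.card {χ : Cfsg.IrrCharacter G // χ ∈ B ∧ ¬ p ∣ Cfsg.charDegree (χ : G → ℂ) ∧ Cfsg.classInner (fun n : N => (χ : G → ℂ) n) (θ : N → ℂ) ≠ 0}) ∧
    (p ≤ 3 → p ∣ Nat.card {χ : Cfsg.IrrCharacter G // χ ∈ B ∧ ¬ p ∣ Cfsg.charDegree (χ : G → ℂ) ∧ Cfsg.classInner (fun n : N => (χ : G → ℂ) n) (θ : N → ℂ) ≠ 0}) := by
  classical
  have := hM.2.1
  obtain ⟨x, hxP, hxN⟩ := SetLike.not_le_iff_exists.1 hPN
  have hx := exists_orderOf_eq_pow P.isPGroup' hxP
  obtain ⟨τ, hτ⟩ : ∃ τ, τ = extendByZero N θ.1 := ⟨_, rfl⟩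
  have hτi : IrrOn N τ := hτ ▸ irrOn_extendByZero.2 θ.2
  have hN := nrm_of_normal ⊤ N
  have e0 : ∀ χ : G → ℂ, classInner (fun n : N => χ n) θ.1 = dot N χ τ := fun χ => by
    rw [dot_eq_classInner, hτ, res_extendByZero]
  obtain ⟨s, hs⟩ : ∃ s : Finset (IrrCharacter G), ∀ χ, χ ∈ s ↔ χ ∈ B ∧ dot N χ.1 τ ≠ 0 :=
    ⟨univ.filter fun χ => χ ∈ B ∧ dot N χ.1 τ ≠ 0, by simp⟩
  have e1 : Nat.card {χ : Cfsg.IrrCharacter G // χ ∈ B ∧ ¬ p ∣ Cfsg.charDegree (χ : G → ℂ) ∧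
      Cfsg.classInner (fun n : N => (χ : G → ℂ) n) (θ : N → ℂ) ≠ 0} =
      (s.filter fun χ => ¬ p ∣ charDegree χ.1).card := by
    rw [← Nat.card_eq_finsetCard]
    refine Nat.card_congr (Equiv.subtypeEquivRight fun χ => ?_)
    rw [mem_filter, hs, e0]; tauto
  rw [e1]
  obtain ⟨Θ, hΘ⟩ : ∃ Θ, Θ = ind N ⊤ τ := ⟨_, rfl⟩
  have hΘi : InvOn ⊤ N Θ := hΘ ▸ (ind_classOn N ⊤ τ).mono le_rfl le_top
  obtain ⟨c, hc0, hc⟩ : ∃ c : ℂ, c ≠ 0 ∧ ∀ χ : IrrCharacter G,
      ∑ n ∈ elems N, Θ n * χ.1 (n⁻¹ * x) = if dot N χ.1 τ ≠ 0 then c * χ.1 x else 0 := by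
    refine ⟨Nat.card N * (N.relIndex (inertia ⊤ N τ) / charDegree τ), mul_ne_zero (Clifford.card_ne_zero N)
      (div_ne_zero (Nat.cast_ne_zero.2 (relIndex_ne_zero _ _)) (Nat.cast_ne_zero.2 hτi.deg_pos.ne')),
      fun χ => ?_⟩
    have hi := irrOn_top.2 χ.2
    rw [hi.sum_coset le_top hN hΘi (Subgroup.mem_top x), hΘ, ind_nrm le_top hN hτi.classOn,
      dot_smul_left, dot_sum_left]
    have h1 : ∀ φ ∈ orb ⊤ N τ, dot N φ χ.1 = mult N χ.1 τ := fun φ hφ => by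
      apply dot_comm_of_nat
      rw [dot_of_mem_orb le_top hN hi.classOn hφ, (hi.charOn.mono le_top).dot_eq_mult hτi.charOn]
    rw [sum_congr rfl h1, sum_const, card_orb, nsmul_eq_mul]
    split_ifs with h
    · have h2 := clifford_deg le_top hN hi hτi h
      have h3 := ((hi.charOn.mono le_top).mult_ne_zero hτi.charOn).2 h
      rw [hi.one_eq, h2]
      have h4 : (mult N χ.1 τ : ℂ) ≠ 0 := Nat.cast_ne_zero.2 h3
      have h5 : ((inertia ⊤ N τ).relIndex ⊤ : ℂ) ≠ 0 := Nat.cast_ne_zero.2 (relIndex_ne_zero _ _)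
      have h6 : (charDegree τ : ℂ) ≠ 0 := Nat.cast_ne_zero.2 hτi.deg_pos.ne'
      push_cast
      field_simp
    · rw [not_not, (hi.charOn.mono le_top).dot_eq_mult hτi.charOn] at h
      rw [h]; simp
  have h0 : ∀ n ∈ elems N, ∑ χ with χ ∈ B, χ.1 1 * χ.1 (n⁻¹ * x) = 0 := by
    intro n hn
    have h1 := weak_orthogonality_of_int hM hB.memLocalRing_blockCoeff (x := 1)
      (y := (n⁻¹ * x)⁻¹) Block2.not_dvd_orderOf_one (by
        rw [orderOf_inv]
        by_contra hc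
        obtain ⟨k, hk⟩ := hx
        have h2 : orderOf (QuotientGroup.mk' N (n⁻¹ * x)) ∣ orderOf (n⁻¹ * x) := orderOf_map_dvd _ _
        have h3 : QuotientGroup.mk' N (n⁻¹ * x) = QuotientGroup.mk' N x := by
          rw [map_mul, map_inv, QuotientGroup.mk'_apply N n,
            (QuotientGroup.eq_one_iff n).2 (mem_elems.1 hn), inv_one, one_mul]
        rw [h3] at h2
        have h4 : orderOf (QuotientGroup.mk' N x) ∣ p ^ k := hk ▸ orderOf_map_dvd _ _
        have h5 := Nat.eq_one_of_dvd_coprimes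
          ((hM.1.coprime_iff_not_dvd.2 hc).pow_left k) h4 h2
        exact hxN ((QuotientGroup.eq_one_iff x).1 (orderOf_eq_one_iff.1 h5)))
    rw [Block.finsum_mem_irr] at h1
    rw [← h1]
    refine sum_congr rfl fun χ _ => ?_
    rw [(irrOn_top.2 χ.2).charOn.apply_inv (Subgroup.mem_top _), Complex.conj_conj]
  have h1 : ∑ χ ∈ s, χ.1 1 * χ.1 x = 0 := by
    have h2 : ∑ n ∈ elems N, Θ n * ∑ χ with χ ∈ B, χ.1 1 * χ.1 (n⁻¹ * x) = 0 :=
      sum_eq_zero fun n hn => by rw [h0 n hn, mul_zero]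
    simp only [mul_sum] at h2
    rw [sum_comm] at h2
    apply mul_left_cancel₀ hc0
    rw [mul_zero, ← h2, mul_sum]
    have h3 : s = (univ.filter (· ∈ B)).filter fun χ => dot N χ.1 τ ≠ 0 := by
      ext χ; simp [hs]
    rw [h3, sum_filter]
    refine sum_congr rfl fun χ _ => ?_
    have := hc χ
    simp only [mul_left_comm (Θ _), ← mul_sum, this]
    split_ifs <;> ring
  have h2 : p ∣ ∑ χ ∈ s, charDegree χ.1 ^ 2 := by
    have := dvd_sum_sq (K := ⊤) (s := s.map ⟨Subtype.val, Subtype.val_injective⟩) (fun χ hχ => by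
      obtain ⟨ψ, -, rfl⟩ := Finset.mem_map.1 hχ
      exact (irrOn_top.2 ψ.2).charOn) (Subgroup.mem_top x) hx (by rw [sum_map]; exact h1)
    rwa [sum_map] at this
  rw [← sum_filter_add_sum_filter_not s (fun χ => p ∣ charDegree χ.1)] at h2
  have h3 := (Nat.dvd_add_right (dvd_sum fun χ hχ =>
    (mem_filter.1 hχ).2.trans (dvd_pow_self _ two_ne_zero))).1 h2
  constructor
  · by_contra hc
    have h4 : (s.filter fun χ => ¬ p ∣ charDegree χ.1).card = 1 := by omega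
    obtain ⟨χ, hχ⟩ := card_eq_one.1 h4
    have h5 : χ ∈ s.filter fun χ => ¬ p ∣ charDegree χ.1 := hχ ▸ Finset.mem_singleton_self χ
    rw [hχ, sum_singleton] at h3
    exact (mem_filter.1 h5).2 (hM.1.dvd_of_dvd_pow h3)
  · intro hp3
    rw [← ZMod.natCast_eq_zero_iff] at h3 ⊢
    rw [← h3, card_eq_sum_ones]
    push_cast
    refine sum_congr rfl fun χ hχ => ?_
    have h4 := mt (ZMod.natCast_eq_zero_iff _ _).1 (mem_filter.1 hχ).2
    have h5 := ZMod.pow_card_sub_one_eq_one h4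
    have := hM.1.two_le
    obtain rfl | rfl : p = 2 ∨ p = 3 := by omega
    · rw [show (2 : ℕ) - 1 = 1 from rfl, pow_one] at h5; rw [h5, one_pow]
    · exact h5.symm

end Cfsg.Agent.S4825
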