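import Cfsg.Statements.S4828
import Cfsg.Agent.Lib.Block2.Canon

set_option autoImplicit false
open Cfsg

namespace Cfsg.Agent.S4828

/-- Let p be a prime, M a maximal ideal of the algebraic integers containing p, and (Q, e) a Brauer pair of the finite group G (Q a p-subgroup, e a block of C_G(Q)). Then (Q, e) is a maximal Brauer pair of some block of G if and only if e contains an irreducible character θ such that θ takes the value θ(1) at every element of Z(Q) = Q ∩ C_G(Q), the p-part of θ(1) times the p-part of the order of Z(Q) equals the p-part of the order of C_G(Q) (θ has defect zero as a character of C_G(Q)/Z(Q)), and every element of N_G(Q) of p-power order that stabilizes e lies in Q·C_G(Q) (the stabilizer of e in N_G(Q) has index prime to p over Q·C_G(Q)). -/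
theorem result {G : Type*} [Group G] [Finite G] (p : ℕ) [Fact p.Prime] (M : Ideal Cfsg.AlgInt) (hM : Cfsg.IsPModular p M) (Q : Subgroup G) (e : Set (Cfsg.IrrCharacter (Subgroup.centralizer (Q : Set G)))) (he : Cfsg.IsBrauerPair p M Q e) :
    (∃ B : Set (Cfsg.IrrCharacter G), Cfsg.IsMaximalBrauerPair p M B Q e) ↔
      ∃ θ ∈ e, (∀ z : Subgroup.centralizer (Q : Set G), (z : G) ∈ Q → (θ : Subgroup.centralizer (Q : Set G) → ℂ) z = (θ : Subgroup.centralizer (Q : Set G) → ℂ) 1) ∧
        (Cfsg.charDegree (θ : Subgroup.centralizer (Q : Set G) → ℂ)).factorization p + (Nat.card ↥(Q ⊓ Subgroup.centralizer (Q : Set G))).factorization p = (Nat.card (Subgroup.centralizer (Q : Set G))).factorization p ∧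
        (∀ g : G, g ∈ Subgroup.normalizer (Q : Set G) → Cfsg.StabilizesBlock (Subgroup.centralizer (Q : Set G)) e g → (∃ k : ℕ, orderOf g = p ^ k) → g ∈ Q ⊔ Subgroup.centralizer (Q : Set G)) := by
  open Cfsg.Lib Cfsg.Lib.Block Cfsg.Lib.Block2 Cfsg.Lib.Char Cfsg.Lib.Amalg in
  have := hM.2.1
  have hZ := inf_cent_subgroupOf_le_center Q
  haveI := normal_of_sup_cent (sup_cent_of_le_center hZ)
  have hC := pquo_cent_of_le_center (p := p) hZ
  have hbp := he.bp
  have hi := factorization_index_add (p := p)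
    ((Q ⊓ Subgroup.centralizer (Q : Set G)).subgroupOf (Subgroup.centralizer (Q : Set G)))
  rw [Nat.card_congr (Subgroup.subgroupOfEquivOfLe inf_le_right).toEquiv] at hi
  have hT : stabP ⊤ Q (EB M e) ≤
      Subgroup.normalizer ((Q ⊔ ⊤ ⊓ Subgroup.centralizer (Q : Set G) : Subgroup G) : Set G) := by
    rw [top_inf_eq]
    exact stabP_le_norm.trans (le_trans (le_inf le_rfl norm_le_norm_cent) norm_inf_norm_le_norm_sup)
  constructor
  · rintro ⟨B, hB⟩
    have hm := hB.maxP hM
    have h1 := hm.defG_cent hM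
    rw [top_inf_eq, ← isDefectGroup_subgroupOf_iff hM he.2 inf_le_right] at h1
    obtain ⟨θ, hθ, hk, hd, -⟩ := exists_canon hM hC he.2 h1
    refine ⟨θ, hθ, fun z hz => θ.2.mem_charKer.1 (hk ⟨hz, z.2⟩), by omega, fun g h2 h3 h4 => ?_⟩
    have := le_of_not_dvd_relIndex (isPGroup_zpowers h4) (Subgroup.zpowers_le.2
      ((mem_stabP_top_iff he.2).2 ⟨h2, h3⟩)) hbp.sup_le_stabP hT (hm.not_dvd hM)
      (Subgroup.mem_zpowers g)
    rwa [top_inf_eq] at this
  · rintro ⟨θ, hθ, hk, hd, h⟩
    have h1 := isDefectGroup_of_charKer (D := (Q ⊓ Subgroup.centralizer (Q : Set G)).subgroupOf _)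
      hM ((he.1.to_inf_left).comap_subtype) hC he.2 hθ
      (fun z hz => θ.2.mem_charKer.2 (hk z hz.1)) (by omega)
    obtain ⟨η, hη⟩ := hbp.exists_bpo hM
    obtain ⟨B, hB, rfl⟩ := hη.blk'.exists_eq_top
    refine ⟨B, (isMaximalBrauerPair_iff hM hB he.2).2 ⟨hη, (hη.defG_iff hM).2
      ⟨(hbp.defG_sup_iff hM).2 ?_, ?_⟩⟩⟩
    · rwa [top_inf_eq, ← isDefectGroup_subgroupOf_iff hM he.2 inf_le_right]
    · obtain ⟨S, hS⟩ := exists_syl p (stabP ⊤ Q (EB M e))
      refine hS.not_dvd_relIndex_of_le fun g hg => ?_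
      rw [top_inf_eq]
      have h2 := (mem_stabP_top_iff he.2).1 (hS.le hg)
      exact h g h2.1 h2.2 (exists_orderOf_of_mem_isPGroup hM.1 hS.isPGroup hg)

end Cfsg.Agent.S4828
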