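import Cfsg.Statements.S4837
import Cfsg.Agent.Lib.Clifford.Gagola

set_option autoImplicit false
open Cfsg

namespace Cfsg.Agent.S4837

open Cfsg.Lib Cfsg.Lib.Clifford Cfsg.Lib.Char Finset

/-- Let G be a finite group of order greater than 2 with an irreducible character χ nonzero on exactly two conjugacy classes, and let N be the set of elements where χ is nonzero, given as a nontrivial normal p-subgroup of G for the prime p. Then for every nonidentity x in N the centralizer C_G(x) is a Sylow p-subgroup of G, and for every irreducible character λ ≠ 1 of N the stabilizer of λ in G (its inertia group) is a Sylow p-subgroup of G. -/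
theorem result {G : Type*} [Group G] [Finite G] (hG : 2 < Nat.card G) (χ : Cfsg.IrrCharacter G) (hχ : Nat.card {C : ConjClasses G // ∃ g ∈ C.carrier, (χ : G → ℂ) g ≠ 0} = 2) (p : ℕ) [Fact p.Prime] (N : Subgroup G) [N.Normal] (hN : ∀ g : G, g ∈ N ↔ (χ : G → ℂ) g ≠ 0) (hNp : IsPGroup p N) (hN1 : N ≠ ⊥) :
    (∀ x ∈ N, x ≠ 1 → ∃ P : Sylow p G, Subgroup.centralizer ({x} : Set G) = P) ∧
      (∀ μ : Cfsg.IrrCharacter N, (μ : N → ℂ) ≠ (fun _ => (1 : ℂ)) → ∃ P : Sylow p G, ∀ g : G, g ∈ (P : Subgroup G) ↔ ∀ n n' : N, (n' : G) = g * n * g⁻¹ → (μ : N → ℂ) n' = (μ : N → ℂ) n) := by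
  obtain ⟨x, h⟩ := exists_gag hG χ.2 hχ
  constructor
  · intro y hy hy1
    have h' := h.of_isConj (h.isConj hN hy hy1)
    exact ⟨(h'.isPGroup_centralizer hN hNp).toSylow (h'.not_dvd_index hN hNp), rfl⟩
  · rintro ⟨μ, hμ⟩ h1
    obtain ⟨φ, rfl, h0⟩ := exists_res N μ
    have hφ : φ ∈ Irr N := mem_Irr.2 ⟨hμ, h0⟩
    have hi := h.index_inertia hN hφ fun e => h1 (show res N φ = _ by rw [e, res_cut]; rfl)
    have hc : Nat.card (inertia ⊤ N φ) = Nat.card (Subgroup.centralizer ({x} : Set G)) := by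
      have := (inertia ⊤ N φ).card_mul_index
      rw [hi, ← (Subgroup.centralizer ({x} : Set G)).card_mul_index] at this
      exact Nat.eq_of_mul_eq_mul_right (Nat.pos_of_ne_zero Subgroup.index_ne_zero_of_finite) this
    obtain ⟨a, ha⟩ := (h.isPGroup_centralizer hN hNp).exists_card_eq
    refine ⟨(IsPGroup.of_card (hc.trans ha)).toSylow (hi ▸ h.not_dvd_index hN hNp), fun g => ?_⟩
    rw [IsPGroup.toSylow_coe, mem_inertia (nrm_of_normal ⊤ N)]
    refine ⟨fun hg n n' e => ?_, fun hg => ⟨trivial, fun n hn => ?_⟩⟩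
    · change φ n' = φ n
      rw [e, hg.2 n n.2]
    · exact hg ⟨n, hn⟩ ⟨_, ‹N.Normal›.conj_mem n hn g⟩ rfl

end Cfsg.Agent.S4837
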