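import Cfsg.Statements.S4838
import Cfsg.Agent.Lib.Clifford.Gagola

set_option autoImplicit false
open Cfsg

namespace Cfsg.Agent.S4838

open Cfsg.Lib Cfsg.Lib.Clifford Cfsg.Lib.Char Finset

/-- Let G be a finite group of order greater than 2 with an irreducible character χ nonzero on exactly two conjugacy classes, N the normal p-subgroup of elements where χ is nonzero, and P a Sylow p-subgroup of G. Then (a) for every x outside N the centralizer of x in G has the same order as the centralizer of xN in G/N; (b) the centre of P lies in N, and equals N exactly when P is normal in G; (c) N, viewed inside P, is a term of the upper central series of P. -/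
theorem result {G : Type*} [Group G] [Finite G] (hG : 2 < Nat.card G) (χ : Cfsg.IrrCharacter G) (hχ : Nat.card {C : ConjClasses G // ∃ g ∈ C.carrier, (χ : G → ℂ) g ≠ 0} = 2) (p : ℕ) [Fact p.Prime] (N : Subgroup G) [N.Normal] (hN : ∀ g : G, g ∈ N ↔ (χ : G → ℂ) g ≠ 0) (hNp : IsPGroup p N) (hN1 : N ≠ ⊥) (P : Sylow p G) :
    (∀ x : G, x ∉ N → Nat.card (Subgroup.centralizer ({x} : Set G)) = Nat.card (Subgroup.centralizer ({(x : G ⧸ N)} : Set (G ⧸ N)))) ∧
      ((Subgroup.center ↥(P : Subgroup G)).map (P : Subgroup G).subtype ≤ N ∧
        ((Subgroup.center ↥(P : Subgroup G)).map (P : Subgroup G).subtype = N ↔ (P : Subgroup G).Normal)) ∧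
      (∃ i : ℕ, Subgroup.upperCentralSeries ↥(P : Subgroup G) i = N.subgroupOf (P : Subgroup G)) := by
  classical
  obtain ⟨x, h⟩ := exists_gag hG χ.2 hχ
  have hp : p.Prime := Fact.out
  have hNP : N ≤ P := hNp.le_sylow_of_normal P
  -- a subgroup of `P` centralizing an element outside `N` has order at most `|P : N|`
  have key : ∀ z ∉ N, ∀ D : Subgroup G, D ≤ P → D ≤ Subgroup.centralizer {z} →
      Nat.card D * Nat.card N ≤ Nat.card P := fun z hz D hD hDz => by
    have h1 : Nat.card D ∣ N.index :=
      (Subgroup.card_dvd_of_le hDz).trans (h.card_centralizer_quotient hN hz ▸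
        Subgroup.card_subgroup_dvd_card _)
    have h2 : Nat.card D * Nat.card N ∣ Nat.card G := by
      rw [← N.index_mul_card]; exact mul_dvd_mul_right h1 _
    obtain ⟨a, ha⟩ := (P.2.to_le hD).exists_card_eq
    obtain ⟨b, hb⟩ := hNp.exists_card_eq
    rw [ha, hb, ← pow_add] at h2 ⊢
    rw [P.card_eq_multiplicity]
    exact Nat.pow_le_pow_right hp.pos ((hp.pow_dvd_iff_le_factorization Nat.card_pos.ne').1 h2)
  have hN2 : 1 < Nat.card N := (Subgroup.one_lt_card_iff_ne_bot N).2 hN1
  have hZ : (Subgroup.center ↥(P : Subgroup G)).map (P : Subgroup G).subtype ≤ N := by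
    rw [Core.map_subtype_center]
    intro z hz
    by_contra hzN
    have := key z hzN P le_rfl fun y hy => Subgroup.mem_centralizer_singleton_iff.2
      (Subgroup.mem_centralizer_iff.1 hz.2 y hy)
    nlinarith [Nat.card_pos (α := (P : Subgroup G))]
  refine ⟨fun z hz => h.card_centralizer_quotient hN hz, ⟨hZ, fun e => ?_, fun hn => ?_⟩, ?_⟩
  · rw [Core.map_subtype_center] at e
    have h1 : (P : Subgroup G) ≤ Subgroup.centralizer N :=
      Subgroup.le_centralizer_iff.1 (e.ge.trans inf_le_right)
    have h2 : IsPGroup p (Subgroup.centralizer (N : Set G)) := (h.isPGroup_centralizer hN hNp).to_le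
      (Subgroup.centralizer_le (Set.singleton_subset_iff.2 (h.mem hN)))
    rw [← P.3 h2 h1]
    infer_instance
  · refine le_antisymm hZ ?_
    have := Core.normal_map_subtype_of_characteristic (Subgroup.center (P : Subgroup G))
    refine h.le_of_normal hN _ ?_
    rw [Core.map_subtype_center]
    exact Core.inf_centralizer_ne_bot_of_isPGroup P.2 P.2 Subgroup.le_normalizer
      fun e => hN1 (le_bot_iff.1 (e ▸ hNP))
  · by_contra hc
    push Not at hc
    have h1 : ∀ i, Subgroup.upperCentralSeries ↥(P : Subgroup G) i ≤ N.subgroupOf P := by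
      intro i
      induction i with
      | zero => simp
      | succ i ih =>
        intro z hz
        by_contra hzN
        have h2 := key z hzN ((Subgroup.centralizer {z}).map (P : Subgroup G).subtype)
          (Subgroup.map_subtype_le _) (by
            rintro _ ⟨y, hy, rfl⟩
            exact Subgroup.mem_centralizer_singleton_iff.2
              (congrArg Subtype.val (Subgroup.mem_centralizer_singleton_iff.1 hy)))
        rw [Core.card_map_subtype, ← (Subgroup.centralizer {z}).card_mul_index,
          ← card_isConj] at h2
        have h3 := Nat.le_of_mul_le_mul_left h2 Nat.card_pos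
        have h4 : Nat.card {y // IsConj z y} ≤
            Nat.card (Subgroup.upperCentralSeries ↥(P : Subgroup G) i) := by
          refine Nat.card_le_card_of_injective (fun y => ⟨z * y.1⁻¹, ?_⟩) fun a b e => ?_
          · obtain ⟨c, hc⟩ := isConj_iff.1 y.2
            have := Subgroup.mem_upperCentralSeries_succ_iff.1 hz c
            rw [← hc]
            convert this using 1
            group
          · exact Subtype.ext (inv_injective (mul_left_cancel (congrArg Subtype.val e)))
        have h5 := Core.card_lt_of_lt (lt_of_le_of_ne ih (hc i))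
        rw [Core.card_subgroupOf_of_le hNP] at h5
        omega
    have : Group.IsNilpotent (P : Subgroup G) := P.2.isNilpotent
    obtain ⟨i, hi⟩ := this.nilpotent'
    exact hc i (le_antisymm (h1 i) (le_top.trans hi.ge))

end Cfsg.Agent.S4838
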