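import Cfsg.Statements.S4839
import Cfsg.Agent.Lib.Clifford.Gagola
import Cfsg.Agent.Lib.Coprime.FrobKernel
import Cfsg.Agent.Lib.Amalg.Sidki

set_option autoImplicit false
open Cfsg

namespace Cfsg.Agent.S4839

open Cfsg.Lib Cfsg.Lib.Clifford Cfsg.Lib.Char Subgroup

theorem surj_iff {G : Type*} [Group G] [Finite G] (N : Subgroup G) [hN : N.Normal] (a : G) :
    (∀ m ∈ N, m * a = a * m → m = 1) ↔ ∀ n ∈ N, ∃ m ∈ N, m * a * m⁻¹ = n * a := by
  let F : N → N := fun m => ⟨m * (a * (m : G)⁻¹ * a⁻¹), mul_mem m.2 (hN.conj_mem _ (inv_mem m.2) a)⟩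
  have h1 : (∀ m ∈ N, m * a = a * m → m = 1) ↔ Function.Injective F := by
    refine ⟨fun h m m' e => Subtype.ext (inv_mul_eq_one.1 (h _ (mul_mem (inv_mem m.2) m'.2) ?_)),
      fun h m hm e => congrArg Subtype.val (@h ⟨m, hm⟩ 1 (Subtype.ext ?_))⟩
    · have e' : (m : G) * (a * (m : G)⁻¹ * a⁻¹) = m' * (a * (m' : G)⁻¹ * a⁻¹) := congrArg Subtype.val e
      calc (m : G)⁻¹ * m' * a = (m : G)⁻¹ * (m' * (a * (m' : G)⁻¹ * a⁻¹)) * a * m' := by group
        _ = _ := by rw [← e']; group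
    · show m * (a * m⁻¹ * a⁻¹) = 1 * (a * 1⁻¹ * a⁻¹)
      rw [← mul_assoc, ← mul_assoc, e]; group
  rw [h1, Finite.injective_iff_surjective]
  refine ⟨fun h n hn => ?_, fun h n => ?_⟩
  · obtain ⟨m, e⟩ := h ⟨n, hn⟩
    exact ⟨m, m.2, by rw [← show (m : G) * (a * (m : G)⁻¹ * a⁻¹) = n from congrArg Subtype.val e]; group⟩
  · obtain ⟨m, hm, e⟩ := h n n.2
    exact ⟨⟨m, hm⟩, Subtype.ext (by show m * (a * m⁻¹ * a⁻¹) = n; rw [← mul_assoc, ← mul_assoc, e]; group)⟩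

theorem not_dvd {G : Type*} [Group G] [Finite G] {p : ℕ} [hp : Fact p.Prime] {N : Subgroup G} [hn : N.Normal]
    (hNp : IsPGroup p N) (hN1 : N ≠ ⊥) (hO : N = pCore p G) (hc : ∀ a ∈ N, ∀ b ∈ N, a * b = b * a) (he : ∀ a ∈ N, a ^ p = 1)
    (hC : ∀ y ∈ N, y ≠ 1 → IsPGroup p (centralizer ({y} : Set G))) (hcam : ∀ g ∉ N, ∀ n ∈ N, IsConj g (n * g))
    (h2 : p ≠ 2 → 2 ∣ Nat.card G) : ¬ p ∣ N.index := fun hd => by
  let π := QuotientGroup.mk' N
  have k0 : ∀ g, π g = 1 ↔ g ∈ N := fun g => QuotientGroup.eq_one_iff g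
  have k1 : ∀ g, (∀ y ∈ N, y * g = g * y) → g ∈ N := fun g hg => by
    obtain ⟨⟨y, hy⟩, y1⟩ := ne_bot_iff_exists_ne_one.1 hN1
    exact hO ▸ Core.le_pCore (N := centralizer (N : Set G)) ((hC y hy fun e => y1 (Subtype.ext e)).to_le
      (centralizer_le (Set.singleton_subset_iff.2 hy))) (mem_centralizer_iff.2 hg)
  have k2 : ∀ a : G, a ≠ 1 → (orderOf a).Coprime p → ∀ m ∈ N, m * a = a * m → m = 1 := fun a a1 ha m hm e => by
    by_contra m1
    obtain ⟨k, hk⟩ := hC m hm m1 ⟨a, mem_centralizer_singleton_iff.2 e.symm⟩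
    exact a1 (orderOf_eq_one_iff.1 ((ha.pow_right k).eq_one_of_dvd (orderOf_dvd_of_pow_eq_one (congrArg Subtype.val hk))))
  obtain ⟨v, hv⟩ := exists_prime_orderOf_dvd_card' (G := G ⧸ N) p hd
  have v1 : v ≠ 1 := fun e => hp.out.one_lt.ne (by rw [← hv, e, orderOf_one])
  obtain ⟨u, rfl⟩ := QuotientGroup.mk'_surjective N v
  by_cases hp2 : p = 2
  · subst hp2
    have h3 : π u * π u = 1 := by rw [← sq, ← hv]; exact pow_orderOf_eq_one _
    obtain ⟨b, -, b1, b2, b3⟩ := Amalg.exists_inverted_of_not_mem_op h3 (mem_top _) fun h => v1 (by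
      rwa [show pCoreOf 2 (⊤ : Subgroup (G ⧸ N)) = ⊥ from
        Core.pCoreOf_top.trans (Core.pCore_quotient_eq_bot_of_eq N hO)] at h)
    obtain ⟨b, rfl⟩ := QuotientGroup.mk'_surjective N b
    obtain ⟨k, hk⟩ := Amalg.exists_odd_two_pow b
    set a := b ^ 2 ^ k with ha
    have a1 : a ≠ 1 := fun e => b1 (orderOf_eq_one_iff.1 (((Nat.coprime_two_right.2 b2).pow_right k).eq_one_of_dvd
      (orderOf_dvd_of_pow_eq_one (by rw [← map_pow, ← ha, e, map_one]))))
    have h4 := k2 a a1 (Nat.coprime_two_right.2 hk)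
    obtain ⟨m, hm, e⟩ := (surj_iff N a⁻¹).1 (fun m hm e => h4 m hm (Commute.inv_right_iff.1 e)) (u * a * u⁻¹ * a)
      ((k0 _).1 (by rw [map_mul, map_mul, map_mul, map_inv, ha, map_pow, ← conj_pow, b3, inv_pow, inv_mul_cancel]))
    have h5 : m⁻¹ * u * a * (m⁻¹ * u)⁻¹ = a⁻¹ := by
      calc _ = m⁻¹ * (u * a * u⁻¹ * a * a⁻¹) * m := by group
        _ = _ := by rw [← e]; group
    have h6 : π (m⁻¹ * u) = π u := by rw [map_mul, (k0 _).2 (inv_mem hm), one_mul]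
    generalize m⁻¹ * u = s at h5 h6
    have h7 : s * s = 1 := h4 _ ((k0 _).1 (by rw [map_mul, h6, h3])) (by
      calc s * s * a = s * (s * a * s⁻¹) * s := by group
        _ = (s * a * s⁻¹)⁻¹ * (s * s) := by nth_rewrite 1 [h5]; group
        _ = _ := by rw [h5, inv_inv])
    have h8 : s ∉ N := fun h => v1 (h6 ▸ (k0 s).2 h)
    refine h8 (k1 s fun y hy => ?_)
    obtain ⟨c, hc⟩ := isConj_iff.1 (hcam s h8 y hy)
    have h9 : y * s * (y * s) = 1 := by rw [← hc, conj_mul, h7]; group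
    have h10 : y * y = 1 := by rw [← sq, he y hy]
    calc y * s = (y * s)⁻¹ := eq_inv_of_mul_eq_one_left h9
      _ = s * y := by rw [mul_inv_rev, inv_eq_of_mul_eq_one_left h7, inv_eq_of_mul_eq_one_left h10]
  obtain ⟨t, ht⟩ := exists_prime_orderOf_dvd_card' 2 (h2 hp2)
  have k3 : ∀ s : G, orderOf s = 2 → ∀ m ∈ N, m * s = s * m → m = 1 := fun s hs =>
    k2 s (fun e => by simp [e] at hs) (hs ▸ (Nat.coprime_primes Nat.prime_two hp.out).2 (Ne.symm hp2))
  have k4 : ∀ s : G, orderOf s = 2 → ∀ y ∈ N, s * y * s⁻¹ = y⁻¹ := fun s hs y hy => by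
    have e : s * s = 1 := by rw [← sq, ← hs, pow_orderOf_eq_one]
    refine eq_inv_of_mul_eq_one_right (k3 s hs _ (mul_mem hy (hn.conj_mem y hy s)) ?_)
    rw [hc y hy _ (hn.conj_mem y hy s), inv_eq_of_mul_eq_one_left e]
    calc s * y * s * y * s = s * (y * (s * y * s)) := by group
      _ = _ := by rw [← hc y hy (s * y * s) (by simpa [inv_eq_of_mul_eq_one_left e] using hn.conj_mem y hy s)]
  have k5 : ∀ g : G, ∃ m ∈ N, m⁻¹ * g * t = t * (m⁻¹ * g) := fun g => by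
    obtain ⟨m, hm, e⟩ := (surj_iff N t).1 (k3 t ht) (g * t * g⁻¹ * t⁻¹) (k1 _ fun y hy => by
      have h1 := k4 (g * t * g⁻¹) (by rw [← ht]; exact (MulAut.conj g).orderOf_eq t) y⁻¹ (inv_mem hy)
      have h2 := k4 t ht y⁻¹ (inv_mem hy)
      rw [inv_inv] at h1 h2
      calc y * (g * t * g⁻¹ * t⁻¹) = g * t * g⁻¹ * y⁻¹ * t⁻¹ := by nth_rewrite 1 [← h1]; group
        _ = g * t * g⁻¹ * t⁻¹ * (t * y⁻¹ * t⁻¹) := by group
        _ = _ := by rw [h2])
    refine ⟨m, hm, ?_⟩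
    calc m⁻¹ * g * t = m⁻¹ * (g * t * g⁻¹ * t⁻¹ * t) * g := by group
      _ = _ := by rw [← e]; group
  obtain ⟨m, hm, e⟩ := k5 u
  have h6 : π (m⁻¹ * u) = π u := by rw [map_mul, (k0 _).2 (inv_mem hm), one_mul]
  generalize m⁻¹ * u = w at e h6
  have h7 : w ^ p = 1 := k3 t ht _ ((k0 _).1 (by rw [map_pow, h6, ← hv]; exact pow_orderOf_eq_one _))
    (Commute.pow_left e p)
  have h8 : w ∉ N := fun h => v1 (h6 ▸ (k0 w).2 h)
  refine Core.inf_centralizer_ne_bot_of_isPGroup hNp (P := zpowers w) (IsPGroup.of_card (n := 1) (by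
    rw [Nat.card_zpowers, pow_one, orderOf_eq_prime h7 fun e => h8 (e ▸ one_mem N)])) le_normalizer_of_normal hN1
    (eq_bot_iff.2 fun y hy => (surj_iff N w).2 (fun n hn' => ?_) y hy.1
      (mem_centralizer_iff.1 hy.2 w (mem_zpowers w)).symm)
  obtain ⟨c, hc⟩ := isConj_iff.1 (hcam w h8 n hn')
  obtain ⟨m, hm, e'⟩ := k5 c
  have h9 : m⁻¹ * c * w * (m⁻¹ * c)⁻¹ * w⁻¹ = 1 := k3 t ht _ (by
      rw [show m⁻¹ * c * w * (m⁻¹ * c)⁻¹ * w⁻¹ = m⁻¹ * (c * w * c⁻¹ * w⁻¹) * (w * m * w⁻¹) by group, hc,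
        mul_inv_cancel_right]
      exact mul_mem (mul_mem (inv_mem hm) hn') (hn.conj_mem m hm w))
    (((Commute.mul_left e' e).mul_left (Commute.inv_left e')).mul_left (Commute.inv_left e))
  refine ⟨m, hm, ?_⟩
  calc m * w * m⁻¹ = m * (m⁻¹ * c * w * (m⁻¹ * c)⁻¹ * w⁻¹ * w) * m⁻¹ := by rw [h9, one_mul]
    _ = _ := by rw [← hc]; group

/-- Let G be a finite group of order greater than 2 with an irreducible character χ nonzero on exactly two conjugacy classes, and let N be the normal p-subgroup of elements where χ is nonzero. Then N is the whole p-core O_p(G) if and only if G is a doubly transitive Frobenius group with kernel N: G has a Frobenius complement H whose Frobenius kernel is N and whose order is one less than that of N. -/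
theorem result {G : Type*} [Group G] [Finite G] (hG : 2 < Nat.card G) (χ : Cfsg.IrrCharacter G) (hχ : Nat.card {C : ConjClasses G // ∃ g ∈ C.carrier, (χ : G → ℂ) g ≠ 0} = 2) (p : ℕ) [Fact p.Prime] (N : Subgroup G) [N.Normal] (hN : ∀ g : G, g ∈ N ↔ (χ : G → ℂ) g ≠ 0) (hNp : IsPGroup p N) (hN1 : N ≠ ⊥) :
    N = Cfsg.pCore p G ↔ ∃ H : Subgroup G, Cfsg.IsFrobeniusComplement H ∧ Cfsg.frobeniusKernel H = (N : Set G) ∧ Nat.card H + 1 = Nat.card N := by
  obtain ⟨x, h⟩ := exists_gag hG χ.2 hχ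
  have hp : p.Prime := Fact.out
  have hd : p ∣ Nat.card N := by
    obtain ⟨k, hk⟩ := hNp.exists_card_eq
    rcases k with _ | k
    · exact absurd (card_eq_one.1 hk) hN1
    · exact hk ▸ dvd_pow_self p k.succ_ne_zero
  have hC : ∀ y ∈ N, y ≠ 1 → IsPGroup p (centralizer ({y} : Set G)) := fun y hy y1 =>
    (h.of_isConj (h.isConj hN hy y1)).isPGroup_centralizer hN hNp
  have hi := h.index_centralizer hN
  refine ⟨fun hO => ?_, fun ⟨H, _, h2, h3⟩ => le_antisymm (Core.le_pCore hNp) fun y hy => ?_⟩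
  · obtain ⟨q, hq, hc, he⟩ := h.exists_prime hN
    have hc' : ∀ a ∈ N, ∀ b ∈ N, a * b = b * a := fun a ha b hb =>
      congrArg Subtype.val (hc.is_comm.comm (⟨a, ha⟩ : N) ⟨b, hb⟩)
    obtain rfl : p = q := by
      obtain ⟨y, hy⟩ := exists_prime_orderOf_dvd_card' (G := N) p hd
      exact (Nat.prime_dvd_prime_iff_eq hp hq).1 (hy ▸ orderOf_dvd_of_pow_eq_one (Subtype.ext (he y y.2)))
    have h1 := not_dvd hNp hN1 hO hc' he hC (fun g hg n hn => isConj_of_forall_irr fun ψ hψ => by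
      by_cases e : ψ = χ
      · exact Or.inl (by_contra fun e' => hg ((hN g).2 (e ▸ e')))
      · exact Or.inr (h.le_charKer hN hψ e hn g)) fun e => by
        obtain ⟨k, hk⟩ := hNp.exists_card_eq
        have : Odd (Nat.card N) := hk ▸ (hp.odd_of_ne_two e).pow
        rw [← hi, Nat.odd_add_one, Nat.not_odd_iff_even] at this
        exact this.two_dvd.trans (index_dvd_card _)
    have h2 : centralizer ({x} : Set G) = N := ((hNp.toSylow h1).3 (hC x (h.mem hN) h.ne)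
      fun y hy => mem_centralizer_singleton_iff.2 (hc' y hy x (h.mem hN)))
    obtain ⟨H, hH⟩ := exists_right_complement'_of_coprime (N := N) (hNp.toSylow h1).card_coprime_index
    have h3 : Nat.card H + 1 = Nat.card N := by rw [← hi, h2, hH.symm.index_eq_card]
    have h4 : Coprime.Fpf N H := Coprime.fpf_iff.2 fun r hr r1 k hk e => by_contra fun k1 => by
      obtain ⟨j, hj⟩ := hC k hk k1 ⟨r, mem_centralizer_singleton_iff.2 e⟩
      refine r1 (orderOf_eq_one_iff.1 (Nat.eq_one_of_dvd_coprimes ((hp.coprime_iff_not_dvd.2 h1).pow_left j)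
        (orderOf_dvd_of_pow_eq_one (congrArg Subtype.val hj)) ?_))
      rw [hH.symm.index_eq_card]
      exact H.orderOf_dvd_natCard hr
    refine ⟨H, Coprime.isFrobeniusComplement_of_fpf h4 hH.sup_eq_top hN1 fun e => ?_,
      (Coprime.coe_eq_frobeniusKernel_of_fpf h4 hH.sup_eq_top).symm, h3⟩
    have := hH.card_mul_card
    rw [← h3, e, card_bot] at this
    omega
  · by_contra hyN
    have h4 : y ∉ frobeniusKernel H := by rwa [h2]
    simp only [frobeniusKernel, Set.mem_ofPred_eq, not_or, not_forall, not_not] at h4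
    obtain ⟨y1, g, hg⟩ := h4
    obtain ⟨j, hj⟩ := Core.isPGroup_pCore p G ⟨y, hy⟩
    have h5 : ¬ p ∣ Nat.card H := fun e => hp.one_lt.ne' (Nat.dvd_one.1 ((Nat.dvd_add_right e).1 (h3 ▸ hd)))
    refine y1 (orderOf_eq_one_iff.1 (Nat.eq_one_of_dvd_coprimes ((hp.coprime_iff_not_dvd.2 h5).pow_left j)
      (orderOf_dvd_of_pow_eq_one (congrArg Subtype.val hj)) ?_))
    have := H.orderOf_dvd_natCard (Coprime.mem_conj_smul_iff'.1 hg)
    rwa [show g⁻¹ * y * g = MulAut.conj g⁻¹ y by simp, MulEquiv.orderOf_eq] at this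

end Cfsg.Agent.S4839
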