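import Cfsg.Statements.S4840
import Cfsg.Agent.Lib.Clifford.Gagola
import Cfsg.Agent.Lib.Hall.FC6
import Cfsg.Agent.Lib.Hall.Supersolvable
import Cfsg.Agent.Lib.Small.Zsigmondy

set_option autoImplicit false
open Cfsg

namespace Cfsg.Agent.S4840

open Cfsg.Lib.Char Cfsg.Lib.Clifford Cfsg.Lib.Core Cfsg.Lib.Hall Cfsg.Lib.Small Cfsg.Lib.Transfer Subgroup
open scoped commutatorElement

theorem no_ppd {V : Type*} [CommGroup V] [Finite V] {n r : ℕ} (hc : Nat.card V = 3 ^ n) (hn : 0 < n)
    (h3 : ∀ v : V, v ^ 3 = 1) (ψ : QuaternionGroup 2 →* MulAut V) (hz : ∀ v, ψ (.a 2) v = v → v = 1)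
    (y : MulAut V) (hy : y ^ r = 1) (hf : ∀ v, y v = v → v = 1) (hcm : ∀ q v, y (ψ q v) = ψ q (y v))
    (hr : IsPPD r 3 n) : False := by
  classical
  have m : ∀ a b v, ψ a (ψ b v) = ψ (a * b) v := fun a b v => by rw [map_mul]; rfl
  have inv : ∀ v, ψ (.a 2) v = v⁻¹ := fun v => by
    have : ψ (.a 2) (ψ (.a 2) v * v) = ψ (.a 2) v * v := by
      rw [map_mul, m, show (.a 2 * .a 2 : QuaternionGroup 2) = 1 by decide, map_one, mul_comm]; rfl
    exact eq_inv_of_mul_eq_one_left (hz _ this)
  have neg : ∀ a v, ψ (a * .a 2) v = (ψ a v)⁻¹ := fun a v => by rw [← m, inv, map_inv]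
  have two : ∀ v : V, v = v⁻¹ → v = 1 := fun v h => by
    have := h3 v
    rw [pow_succ, pow_two] at this
    nth_rewrite 1 [h] at this
    simpa using this
  let u : V →* V := (ψ (.a 1)).toMonoidHom * (ψ (.xa 0)).toMonoidHom
  have hu : ∀ v, u v = ψ (.a 1) v * ψ (.xa 0) v := fun v => rfl
  have uu : ∀ v, u (u v) = v := fun v => by
    rw [hu, hu, map_mul, map_mul, m, m, m, m, show (.a 1 * .a 1 : QuaternionGroup 2) = .a 2 by decide,
      show (.xa 0 * .xa 0 : QuaternionGroup 2) = .a 2 by decide,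
      show (.a 1 * .xa 0 : QuaternionGroup 2) = .xa 0 * .a 1 * .a 2 by decide, neg, inv]
    have : v = v⁻¹ * v⁻¹ := by
      rw [← mul_inv, eq_inv_iff_mul_eq_one, ← h3 v, pow_succ', pow_two]
    nth_rewrite 5 [this]
    simp [mul_assoc]
  have uk : ∀ v, u (ψ (.xa 1) v) = (ψ (.xa 1) (u v))⁻¹ := fun v => by
    rw [hu, hu, map_mul, m, m, m, m, mul_inv, ← neg, ← neg]
    congr 1
  let W : Subgroup V := u.eqLocus (MonoidHom.id V)
  have hW : ∀ v, v ∈ W ↔ u v = v := fun v => Iff.rfl
  have hyW : ∀ v ∈ W, y v ∈ W := fun v hv => by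
    rw [hW, hu, ← hcm, ← hcm, ← map_mul, ← hu, (hW v).1 hv]
  obtain ⟨k, hk, e⟩ := (Nat.dvd_prime_pow Nat.prime_three).1 (hc ▸ W.card_subgroup_dvd_card)
  have := Fact.mk hr.1
  have := Fintype.ofFinite W
  let f : Function.End W := fun w => ⟨y w, hyW w w.2⟩
  have hfk : ∀ (j : ℕ) (w : W), ((f ^ j) w : V) = (y ^ j) w := fun j => by
    induction j with
    | zero => intro w; rfl
    | succ j ih => intro w; rw [pow_succ, pow_succ]; exact ih (f w)
  have hmod := Equiv.Perm.card_fixedPoints_modEq (f := f) (p := r) (n := 1) (by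
    funext w; apply Subtype.ext; rw [pow_one, hfk, hy]; rfl)
  have h1 : Fintype.card f.fixedPoints = 1 := by
    rw [Fintype.card_eq_one_iff]
    refine ⟨⟨1, Subtype.ext (map_one y)⟩, fun w => Subtype.ext (Subtype.ext (hf _ (congrArg Subtype.val w.2)))⟩
  rw [h1, ← Nat.card_eq_fintype_card, e] at hmod
  have hd : n ∣ k := (hr.dvd_iff (by norm_num) hn k).1
    ((Nat.modEq_iff_dvd' (Nat.one_le_pow _ _ (by norm_num))).1 hmod.symm)
  have : Nontrivial V := Finite.one_lt_card_iff_nontrivial.1 (by rw [hc]; exact Nat.one_lt_pow hn.ne' (by norm_num))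
  obtain ⟨v, hv⟩ := exists_ne (1 : V)
  apply hv
  apply (ψ (.xa 1)).injective
  rw [map_one]
  apply two
  rcases Nat.eq_zero_or_pos k with rfl | hk0
  · have hb : W = ⊥ := Subgroup.card_eq_one.1 (by simpa using e)
    have h4 : ∀ v, u v = v⁻¹ := fun v => by
      have : u v * v ∈ W := by rw [hW, map_mul, uu, mul_comm]
      rw [hb, mem_bot] at this
      exact eq_inv_of_mul_eq_one_left this
    have := uk v
    rw [h4, h4, map_inv, inv_inv] at this
    exact this.symm
  · have ht : W = ⊤ := Subgroup.eq_top_of_card_eq _ (by rw [e, hc, le_antisymm hk (Nat.le_of_dvd hk0 hd)])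
    have h4 : ∀ v, u v = v := fun v => (hW v).1 (ht ▸ mem_top v)
    have := uk v
    rwa [h4, h4] at this

theorem of_comm {H : Type*} [Group H] [Finite H] {p : ℕ} [hp : Fact p.Prime] (D : Subgroup H) [D.Normal]
    (hD : ¬ p ∣ Nat.card D) (h : commutator H ≤ D) :
    HasNormalPComplement p H ∧ ∀ Q : Sylow p H, IsMulCommutative (Q : Subgroup H) := by
  constructor
  · refine hasNormalPComplement_of_quotient D hD ?_
    have : IsMulCommutative (H ⧸ D) := Normal.quotient_commutative_iff_commutator_le.2 h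
    let _ : CommGroup (H ⧸ D) := { (inferInstance : Group (H ⧸ D)) with mul_comm := this.is_comm.comm }
    exact hasNormalPComplement_of_isNilpotent
  · intro Q
    refine ⟨⟨fun a b => Subtype.ext ?_⟩⟩
    have h1 : ⁅(a : H), (b : H)⁆ ∈ (Q : Subgroup H) ⊓ D :=
      mem_inf.2 ⟨mul_mem (mul_mem (mul_mem a.2 b.2) (inv_mem a.2)) (inv_mem b.2),
        h (commutator_mem_commutator (mem_top _) (mem_top _))⟩
    have h2 : (Q : Subgroup H) ⊓ D = ⊥ := by
      obtain ⟨k, hk⟩ := IsPGroup.iff_card.1 Q.isPGroup'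
      exact inf_eq_bot_of_coprime (by rw [hk]; exact ((Nat.Prime.coprime_iff_not_dvd hp.out).2 hD).pow_left k)
    rw [h2, mem_bot, commutatorElement_eq_one_iff_mul_comm] at h1
    exact h1

theorem main {H V : Type*} [Group H] [Finite H] [Group.IsSolvable H] [CommGroup V] [Finite V] [Nontrivial V]
    {p : ℕ} [hp : Fact p.Prime] (hV : ∀ v : V, v ^ p = 1) (φ : H →* MulAut V)
    (hf : ∀ h v, v ≠ 1 → φ h v = v → ∃ k, orderOf h = p ^ k) (hO : pCore p H = ⊥) {k : ℕ}
    (hc : Nat.card H = (Nat.card V - 1) * p ^ k) :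
    HasNormalPComplement p H ∧ ∀ Q : Sylow p H, IsMulCommutative (Q : Subgroup H) := by
  have hf' : ∀ h : H, h ≠ 1 → (orderOf h).Coprime p → ∀ v, φ h v = v → v = 1 := fun h h1 hh v e => by
    by_contra hv
    obtain ⟨k, hk⟩ := hf h v hv e
    exact h1 (orderOf_eq_one_iff.1 ((hh.pow_right k).eq_one_of_dvd hk.dvd))
  have fc : ∀ K : Subgroup H, (Nat.card K).Coprime p → FC K := fun K hK =>
    FC.of_act (φ.comp K.subtype) fun g hg v e => hf' g (fun h => hg (Subtype.ext h))
      (hK.coprime_dvd_left (K.orderOf_dvd_natCard g.2)) v e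
  have cop : ∀ q : ℕ, q.Prime → (Nat.card (pCore q H)).Coprime p := fun q hq => by
    by_cases e : q = p
    · rw [e, hO]; simp
    have := Fact.mk hq
    obtain ⟨k, hk⟩ := IsPGroup.iff_card.1 (isPGroup_pCore q H)
    rw [hk]; exact ((Nat.coprime_primes hq hp.out).2 e).pow_left k
  have hn : ∀ q : ℕ, ∀ g : H, g ∈ normalizer (pCore q H : Set H) := fun q g => by
    have := pCore_normal q H
    rw [normalizer_eq_top]; trivial
  have cF : ∀ y : H, (∀ q : ℕ, q.Prime → y ∈ centralizer (pCore q H : Set H)) → IsPGroup p (zpowers y) → y = 1 :=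
    fun y hy hyp => by
    have h1 : fittingSubgroup H ≤ centralizer ({y} : Set H) := fitting_le_of_forall_pCore_le fun q hq x hx => by
      rw [mem_centralizer_singleton_iff]; exact hy q hq x hx
    have h2 : y ∈ fittingSubgroup H := centralizer_fitting_le fun x hx => mem_centralizer_singleton_iff.1 (h1 hx)
    have h3 := le_pCore_of_le_fitting hp.out hyp (zpowers_le.2 h2)
    rw [hO] at h3
    exact mem_bot.1 (h3 (mem_zpowers y))
  have hu : ∀ s ∈ pCore 2 H, ∀ t ∈ pCore 2 H, orderOf s = 2 → orderOf t = 2 → s = t := fun s hs t ht os ot =>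
    congrArg Subtype.val ((fc _ (cop 2 Nat.prime_two)).inv_unique (s := ⟨t, ht⟩) (t := ⟨s, hs⟩)
      (by rw [← Subgroup.orderOf_coe]; exact ot) (by rw [← Subgroup.orderOf_coe]; exact os))
  by_cases hA : ∀ y : H, orderOf y = p → y ∈ centralizer (pCore 2 H : Set H)
  · let D : Subgroup H := ⨅ q : {q : ℕ // q.Prime ∧ q ≠ 2}, centralizer (pCore q H : Set H)
    have : D.Normal := normal_iInf_normal fun q => by have := pCore_normal q H; infer_instance
    refine of_comm D (fun hd => ?_) (le_iInf fun q => ?_)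
    · obtain ⟨y, hy⟩ := exists_prime_orderOf_dvd_card' p hd
      rw [← Subgroup.orderOf_coe] at hy
      have := cF y (fun q hq => if e : q = 2 then e ▸ hA y hy else mem_iInf.1 y.2 ⟨q, hq, e⟩)
        (IsPGroup.of_card (n := 1) (by rw [Nat.card_zpowers, hy, pow_one]))
      rw [this, orderOf_one] at hy
      exact hp.out.one_lt.ne hy
    · have := Fact.mk q.2.1
      have h1 : IsCyclic (⊤ : Subgroup (pCore q H)) :=
        (fc _ (cop q q.2.1)).isCyclic_of_isPGroup q.2.2 ((isPGroup_pCore q H).to_subgroup _)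
      have : IsCyclic (pCore q H) := isCyclic_of_surjective _ topEquiv.surjective
      exact commutator_le_centralizer_of_isCyclic fun g _ => hn q g
  push Not at hA
  obtain ⟨y, hy, hyc⟩ := hA
  have hp2 : p ≠ 2 := by
    rintro rfl
    rw [hO] at hyc
    exact hyc fun x hx => by rw [mem_bot.1 hx]; simp
  obtain ⟨⟨e⟩, h3⟩ := (two_subgroup_cent (isPGroup_pCore 2 H) hu (hn 2 y)
    (hy ▸ hp.out.odd_of_ne_two hp2)).resolve_left hyc
  obtain rfl : 3 = p := (Nat.prime_dvd_prime_iff_eq Nat.prime_three hp.out).1 (hy ▸ h3)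
  obtain ⟨n, hVn⟩ := IsPGroup.iff_card.1 (show IsPGroup 3 V from fun v => ⟨1, by rw [pow_one, hV]⟩)
  have hT : Nat.card (pCore 2 H) = 8 := by
    rw [Nat.card_congr e.toEquiv, Nat.card_eq_fintype_card, QuaternionGroup.card]
  have h8 : 8 ∣ 3 ^ n - 1 := by
    have := (pCore 2 H).card_subgroup_dvd_card
    rw [hT, hc, hVn] at this
    exact Nat.Coprime.dvd_of_dvd_mul_right (Nat.Coprime.pow_right k (by norm_num)) this
  have hn0 : n ≠ 0 := by
    rintro rfl
    exact Finite.one_lt_card.ne' hVn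
  have hn1 : n ≠ 1 := by rintro rfl; norm_num at h8
  have := pCore_normal 2 H
  by_cases hn2 : n = 2
  · subst hn2
    rw [hVn] at hc
    have hi : (pCore 2 H).index = 3 ^ k := by
      have := (pCore 2 H).card_mul_index
      rw [hT, hc] at this
      omega
    refine ⟨hasNormalPComplement_of_normal (N := pCore 2 H) (by rw [hT]; norm_num) hi, fun Q => ?_⟩
    let f : Q →* MulAut (pCore 2 H) := MulAut.conjNormal.comp (Q : Subgroup H).subtype
    have hfi : Function.Injective f := by
      rw [injective_iff_map_eq_one]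
      intro a ha
      refine Subtype.ext (cF a (fun q hq => ?_) (Q.isPGroup'.to_le (zpowers_le.2 a.2)))
      by_cases e2 : q = 2
      · subst e2
        intro x hx
        have := congrArg (fun s : MulAut (pCore 2 H) => ((s ⟨x, hx⟩ : pCore 2 H) : H)) ha
        simp only [f, MonoidHom.comp_apply, coe_subtype, MulAut.conjNormal_apply, MulAut.one_apply] at this
        exact (mul_inv_eq_iff_eq_mul.1 this).symm
      · have : pCore q H = ⊥ := by
          have := Fact.mk hq
          obtain ⟨j, hj⟩ := IsPGroup.iff_card.1 (isPGroup_pCore q H)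
          have d1 := (pCore q H).card_subgroup_dvd_card
          rw [hc] at d1
          have d2 := ((cop q hq).pow_right k).dvd_of_dvd_mul_right d1
          refine Subgroup.card_eq_one.1 (Nat.Coprime.eq_one_of_dvd ?_ d2)
          rw [hj]
          exact ((Nat.coprime_primes hq Nat.prime_two).2 e2).pow j 3
        rw [this]
        intro x hx
        rw [mem_bot.1 hx]; simp
    have h24 : Nat.card Q ≤ 24 := (Nat.card_le_card_of_injective f hfi).trans
      ((Nat.card_congr (MulAut.congr e).toEquiv).trans_le card_quat_aut_le)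
    obtain ⟨j, hj⟩ := IsPGroup.iff_card.1 Q.isPGroup'
    have hj2 : j < 3 := (Nat.pow_lt_pow_iff_right (a := 3) (by norm_num)).1 (by omega)
    interval_cases j
    · have : Subsingleton Q := (Nat.card_eq_one_iff_unique.1 hj).1
      exact ⟨⟨fun a b => Subsingleton.elim _ _⟩⟩
    · exact (isCyclic_of_prime_card (p := 3) hj).isMulCommutative
    · exact IsPGroup.isMulCommutative_of_card_eq_prime_sq (p := 3) hj
  exfalso
  obtain ⟨r, hr⟩ := zsigmondy (a := 3) (n := n) (by norm_num) (by omega) (by omega) (by omega)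
  have hrn := hr.lt (by norm_num) (by omega)
  have := Fact.mk hr.1
  obtain ⟨w, hw⟩ := exists_prime_orderOf_dvd_card' (G := H) r (by rw [hc, hVn]; exact hr.2.1.mul_right _)
  have hr3 : r.Coprime 3 := (Nat.coprime_primes hr.1 Nat.prime_three).2 (by omega)
  have hwc := (two_subgroup_cent (isPGroup_pCore 2 H) hu (hn 2 w)
    (hw ▸ hr.1.odd_of_ne_two (by omega))).resolve_right fun h => by
      have := (Nat.prime_dvd_prime_iff_eq Nat.prime_three hr.1).1 (hw ▸ h.2)
      omega
  refine no_ppd hVn (by omega) hV ((φ.comp (pCore 2 H).subtype).comp e.symm.toMonoidHom) (fun v hv => ?_) (φ w)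
    (by rw [← map_pow, ← hw, pow_orderOf_eq_one, map_one]) (hf' w ?_ (hw ▸ hr3)) (fun q v => ?_) hr
  · refine hf' (e.symm (.a 2) : pCore 2 H) (fun h => ?_)
      ((cop 2 Nat.prime_two).coprime_dvd_left ((pCore 2 H).orderOf_dvd_natCard (e.symm (.a 2)).2)) v hv
    have : e.symm (.a 2) = 1 := Subtype.ext h
    rw [MulEquiv.map_eq_one_iff] at this
    exact absurd this (by decide)
  · rintro rfl
    rw [orderOf_one] at hw
    omega
  · have := hwc _ (e.symm q).2
    change (φ w * φ (e.symm q : pCore 2 H)) v = (φ (e.symm q : pCore 2 H) * φ w) v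
    rw [← map_mul, ← map_mul, this]

/-- Let G be a finite solvable group of order greater than 2 with an irreducible character nonzero on exactly two conjugacy classes. Then there is exactly one prime p with O_p(G) ≠ 1, and the quotient G/O_p(G) has a normal p-complement and commutative Sylow p-subgroups. -/
theorem result {G : Type*} [Group G] [Finite G] [hs : Group.IsSolvable G] (hG : 2 < Nat.card G) (χ : Cfsg.IrrCharacter G) (hχ : Nat.card {C : ConjClasses G // ∃ g ∈ C.carrier, (χ : G → ℂ) g ≠ 0} = 2) :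
    ∃ p : ℕ, p.Prime ∧ (∀ q : ℕ, q.Prime → (Cfsg.pCore q G ≠ ⊥ ↔ q = p)) ∧
      Cfsg.HasNormalPComplement p (G ⧸ Cfsg.pCore p G) ∧ ∀ Q : Sylow p (G ⧸ Cfsg.pCore p G), IsMulCommutative (Q : Subgroup (G ⧸ Cfsg.pCore p G)) := by
  obtain ⟨x, h⟩ := exists_gag hG χ.2 hχ
  obtain ⟨N, hNn, hN⟩ := h.exists_subgroup
  obtain ⟨p, hp, hNc, hNp⟩ := h.exists_prime hN
  have := Fact.mk hp
  have hNP : IsPGroup p N := fun v => ⟨1, Subtype.ext (by simpa using hNp v v.2)⟩
  have hN0 : N ≠ ⊥ := fun e => h.ne (mem_bot.1 (e ▸ h.mem hN))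
  have hOn := pCore_normal p G
  refine ⟨p, hp, fun q hq => ⟨fun h0 => ?_, fun e h0 => ?_⟩, ?_⟩
  · have := pCore_normal q G
    have := Fact.mk hq
    by_contra hne
    exact hN0 ((IsPGroup.disjoint_of_ne q p hne _ _ (isPGroup_pCore q G) hNP).eq_bot_of_ge (h.le_of_normal hN _ h0))
  · rw [e] at h0
    exact hN0 (eq_bot_iff.2 (h0 ▸ le_pCore hNP))
  have hC : N ≤ centralizer (pCore p G : Set G) := by
    refine (h.le_of_normal hN (N ⊓ centralizer (pCore p G : Set G)) ?_).trans inf_le_right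
    exact inf_centralizer_ne_bot_of_isPGroup hNP (isPGroup_pCore p G) (by rw [normalizer_eq_top]; exact le_top) hN0
  let _ : CommGroup N := { (inferInstance : Group N) with mul_comm := hNc.is_comm.comm }
  have : Nontrivial N := (nontrivial_iff_ne_bot N).2 hN0
  let φ : G ⧸ pCore p G →* MulAut N := QuotientGroup.lift _ MulAut.conjNormal fun g hg => by
    rw [MonoidHom.mem_ker]
    ext v
    simp only [MulAut.conjNormal_apply, MulAut.one_apply]
    rw [hC v.2 g hg]; simp
  obtain ⟨a, ha⟩ := IsPGroup.iff_card.1 (h.isPGroup_centralizer hN hNP)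
  obtain ⟨b, hb⟩ := IsPGroup.iff_card.1 (isPGroup_pCore p G)
  have hle : pCore p G ≤ centralizer ({x} : Set G) := fun g hg =>
    mem_centralizer_singleton_iff.2 (hC (h.mem hN) g hg)
  have hba : b ≤ a := (Nat.pow_dvd_pow_iff_le_right hp.one_lt).1 (ha ▸ hb ▸ card_dvd_of_le hle)
  refine main (V := N) (fun v => Subtype.ext (by simpa using hNp v v.2)) φ (fun g v hv e => ?_)
    pCore_quotient_pCore (k := a - b) ?_
  · obtain ⟨g, rfl⟩ := QuotientGroup.mk_surjective g
    have h1 := (h.of_isConj (h.isConj hN v.2 fun e => hv (Subtype.ext e))).isPGroup_centralizer hN hNP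
    have h2 : g ∈ centralizer ({(v : G)} : Set G) := by
      have := congrArg Subtype.val e
      simp only [φ, QuotientGroup.lift_mk, MulAut.conjNormal_apply] at this
      exact mem_centralizer_singleton_iff.2 (mul_inv_eq_iff_eq_mul.1 this)
    obtain ⟨k, hk⟩ := IsPGroup.iff_orderOf.1 h1 ⟨g, h2⟩
    rw [← Subgroup.orderOf_coe] at hk
    obtain ⟨j, -, hj⟩ := (Nat.dvd_prime_pow hp).1 (hk ▸ orderOf_map_dvd (QuotientGroup.mk' (pCore p G)) g)
    exact ⟨j, hj⟩
  · have e1 := (centralizer ({x} : Set G)).card_mul_index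
    have e2 := (pCore p G).card_mul_index
    have e3 := h.index_centralizer hN
    rw [← index_eq_card, ← e3, Nat.add_sub_cancel]
    refine Nat.eq_of_mul_eq_mul_left (Nat.pow_pos hp.pos : 0 < p ^ b) ?_
    rw [← hb, e2, ← e1, ha, hb, mul_comm _ (p ^ (a - b)), ← mul_assoc, ← pow_add, Nat.add_sub_cancel' hba]

end Cfsg.Agent.S4840
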