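import Cfsg.Statements.S4843
import Cfsg.Agent.Lib.Clifford.Weil
import Cfsg.Agent.Lib.Clifford.Amb
import Cfsg.Agent.Lib.Core.Fitting


set_option autoImplicit false
open Cfsg

namespace Cfsg.Agent.S4843

open Cfsg.Lib Cfsg.Lib.Clifford Cfsg.Lib.Char Cfsg.Lib.Core Subgroup Finset

/-- Let G be a finite group with a faithful irreducible character χ (taking the value χ(1) only at the identity) and let k be prime to the order of G, so that g ↦ χ(g^k) is a Galois conjugate of χ. If the pointwise product g ↦ χ(g)·χ(g^k) is again an irreducible character, then the Fitting subgroup of G equals its centre. -/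
theorem result {G : Type*} [Group G] [Finite G] (χ : Cfsg.IrrCharacter G) (hfaith : ∀ g : G, (χ : G → ℂ) g = (χ : G → ℂ) 1 → g = 1) (k : ℕ) (hk : Nat.Coprime k (Nat.card G)) (hirr : Cfsg.IsIrrCharacter G (fun g => (χ : G → ℂ) g * (χ : G → ℂ) (g ^ k))) : Cfsg.fittingSubgroup G = Subgroup.center G := by
  obtain ⟨χ, hχ⟩ := χ
  change ∀ g, χ g = χ 1 → g = 1 at hfaith
  have h0 : IrrOn ⊤ χ := irrOn_top.2 hχ
  replace hirr : IrrOn ⊤ (χ * pw k χ) := irrOn_top.2 hirr
  have hK : charKer χ = ⊥ := eq_bot_iff.2 fun g hg => hfaith g (hχ.isCharacter.mem_charKer.1 hg)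
  have hA : ∀ A : Subgroup G, A.Normal → (∀ a ∈ A, ∀ b ∈ A, a * b = b * a) → A ≤ center G := fun A _ hab => by
    obtain ⟨θ, hθ, h1⟩ := h0.exists_under (H := A) le_top
    replace hθ := irrOn_of_mem hθ
    have hN := nrm_of_normal ⊤ A
    obtain ⟨ξ, hξ, -, h2, -⟩ := exists_ind_inertia le_top hN hθ h0 h1
    replace hξ := irrOn_of_mem hξ
    rw [cut_top] at h2
    have d1 := (h0.charOn.mono le_top).sub_irr hξ (by rw [← dot_ind_right le_top h0.classOn, h2, h0.dot_self]; simp)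
    have d2 := hξ.charOn.mul (hξ.charOn.pw hk)
    have d3 := hirr.deg_le_of_dot_res le_top d2 (d2.dot_ne_zero_of_sub (((d1.mul ((h0.charOn.pw hk).mono le_top)).add
      (hξ.charOn.mul (d1.pw hk))).congr fun x _ => by simp [pw_apply]; ring) d2
      (mt dot_self_eq_zero.1 fun h => by simpa [pw_apply, hξ.one_ne_zero] using h 1 (one_mem _)))
    have d4 := hξ.charOn.deg_ind le_top
    rw [h2] at d4
    rw [charDegree_of_eq (n := charDegree χ * charDegree χ) (by simp [pw_apply, h0.one_eq]),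
      charDegree_of_eq (φ := ξ * pw k ξ) (n := charDegree ξ * charDegree ξ) (by simp [pw_apply, hξ.one_eq]), d4] at d3
    have d5 : (inertia ⊤ A θ).relIndex ⊤ = 1 := by
      have := mul_pos hξ.deg_pos hξ.deg_pos
      have := Nat.pos_of_ne_zero (relIndex_ne_zero (inertia ⊤ A θ) ⊤)
      nlinarith [mul_pos this ‹0 < _ * _›]
    have d6 := fun a (ha : a ∈ A) => clifford_invOn le_top hN h0 hθ ((inertia_eq_iff hN).1
      (top_unique (relIndex_eq_one.1 d5))) h1 ha
    have := hθ.linOn_of_comm hab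
    exact fun a ha => hχ.charCenter_eq_center hK ▸ hχ.mem_charCenter.2 (by
      rw [d6 a ha, d6 1 (one_mem _), norm_mul, norm_mul, this.norm_eq ha, this.norm_eq (one_mem _)])
  refine le_antisymm (by_contra fun hF => ?_) center_le_fitting
  have := fitting_normal (G ⧸ center G)
  have := isNilpotent_fitting (G ⧸ center G)
  have h1 := inf_centralizer_ne_bot_of_nilpotent (L := fittingSubgroup (G ⧸ center G)) le_rfl le_rfl le_normalizer
    fun e => hF (by rwa [← map_fitting_quotient_of_le_center _ le_rfl, Subgroup.map_eq_bot_iff, QuotientGroup.ker_mk'] at e)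
  have h2 : ∀ a ∈ fittingSubgroup (G ⧸ center G) ⊓ centralizer (fittingSubgroup (G ⧸ center G)),
      ∀ b ∈ fittingSubgroup (G ⧸ center G) ⊓ centralizer (fittingSubgroup (G ⧸ center G)), a * b = b * a :=
    fun a ha b hb => hb.2 a ha.1
  have : (fittingSubgroup (G ⧸ center G) ⊓ centralizer (fittingSubgroup (G ⧸ center G) : Set _)).Normal := inferInstance
  generalize fittingSubgroup (G ⧸ center G) ⊓ centralizer (fittingSubgroup (G ⧸ center G) : Set _) = C at *
  obtain ⟨p, hp, h3⟩ := Nat.exists_prime_and_dvd (mt Subgroup.card_eq_one.1 h1)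
  have := Fact.mk hp
  obtain ⟨⟨x, hx⟩, h4⟩ := exists_prime_orderOf_dvd_card' p h3
  obtain ⟨x, rfl⟩ := QuotientGroup.mk_surjective x
  rw [← Subgroup.orderOf_coe] at h4
  obtain ⟨l, hl⟩ := hχ.exists_linear_of_le_center le_rfl
  have h5 : ∀ u : G, (u : G ⧸ center G) ∈ C → u ∉ center G → χ u = 0 := fun u hu h => by
    obtain ⟨w, hw, e⟩ : ∃ w ∈ C.comap (QuotientGroup.mk' _), w * u ≠ u * w := by
      by_contra! a
      exact h (hA (C.comap (QuotientGroup.mk' _) ⊓ centralizer (C.comap (QuotientGroup.mk' _))) inferInstance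
        (fun a ha b hb => hb.2 a ha.1) ⟨hu, a⟩)
    have a : w * u * w⁻¹ * u⁻¹ ∈ center G := (QuotientGroup.eq_one_iff _).1 (by simp [h2 (w : G ⧸ center G) hw _ hu])
    have b := hl ⟨_, a⟩ u
    have c := hl ⟨_, a⟩ 1
    rw [inv_mul_cancel_right, hχ.isClassFunction.conj_eq] at b
    by_contra d
    rw [(mul_eq_right₀ d).1 b.symm, one_mul, mul_one] at c
    exact e (by simpa [mul_inv_eq_iff_eq_mul] using hfaith _ c)
  have h6 : ¬ p ∣ k := fun e => hp.one_lt.ne' (Nat.eq_one_of_dvd_coprimes hk e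
    (h3.trans ((card_subgroup_dvd_card _).trans (card_quotient_dvd_card _))))
  obtain ⟨m, h7⟩ : ∃ m, p ∣ m * k + 1 := ⟨(-(k : ZMod p)⁻¹).val, (ZMod.natCast_eq_zero_iff _ _).1 (by
    simp [mt (ZMod.natCast_eq_zero_iff _ _).1 h6])⟩
  have h8 : x ∉ center G := fun e => hp.one_lt.ne' (by simp [← h4, (QuotientGroup.eq_one_iff _).2 e])
  let f : G →* G × G := (MonoidHom.id G).prod (MonoidHom.id G)
  have h9 : CharOn ⊤ (χ ∘ MonoidHom.fst G G * pw k χ ∘ MonoidHom.snd G G) :=
    (h0.charOn.comp _ fun _ _ => trivial).mul ((h0.charOn.pw hk).comp _ fun _ _ => trivial)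
  have h10 := CharOn.sum_conj_mul (charOn_top.1 h9) (((h9.mono le_top).irrOn_comp_iff (f := f) (L := ⊤)).1 hirr)
    (x, x ^ m)⁻¹ (x, x ^ m)
  classical
  rw [sum_congr rfl (g := fun e => if x⁻¹ * (e.1 * x * e.1⁻¹) ∈ center G then χ 1 ^ 2 else 0) ?_, ← sum_filter] at h10
  · simp [h5 x hx h8, h0.one_ne_zero, pw_apply, filter_eq_empty_iff] at h10
    exact h10 1 1 (mem_elems.2 (one_mem _)) (by simp)
  rintro _ he
  obtain ⟨g, -, rfl⟩ := mem_elems.1 he
  change χ (x⁻¹ * (g * x * g⁻¹)) * χ (((x ^ m)⁻¹ * (g * x ^ m * g⁻¹)) ^ k) = if x⁻¹ * (g * x * g⁻¹) ∈ _ then _ else _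
  by_cases a : x⁻¹ * (g * x * g⁻¹) ∈ center G
  swap
  · refine Eq.trans ?_ (if_neg a).symm
    rw [h5 _ (mul_mem (inv_mem hx) (Normal.conj_mem ‹_› _ hx (g : G ⧸ center G))) a, zero_mul]
  obtain ⟨z, hz⟩ : ∃ z : center G, g * x * g⁻¹ = x * z := ⟨⟨_, a⟩, by simp⟩
  have b : ∀ n, g * x ^ n * g⁻¹ = x ^ n * z ^ n := fun n => by
    rw [← conj_pow, hz, Commute.mul_pow (mem_center_iff.1 z.2 x)]
  have c : z ^ p = 1 := by
    have := b p
    rw [mem_center_iff.1 ((QuotientGroup.eq_one_iff (x ^ p)).1 (by simp [← h4])) g, mul_inv_cancel_right] at this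
    exact Subtype.ext (left_eq_mul.1 this)
  refine Eq.trans ?_ (if_pos a).symm
  rw [hz, b, inv_mul_cancel_left, inv_mul_cancel_left, ← pow_mul, ← Subgroup.coe_pow, ← mul_one (z : G),
    ← mul_one ((z ^ (m * k) : center G) : G), hl, hl, mul_mul_mul_comm, ← Units.val_mul, ← map_mul, ← pow_succ',
    orderOf_dvd_iff_pow_eq_one.1 ((orderOf_dvd_of_pow_eq_one c).trans h7), map_one, Units.val_one, one_mul, sq]

end Cfsg.Agent.S4843
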