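import Cfsg.Statements.S4845
import Cfsg.Agent.Lib.PGrp.Cyclic
import Cfsg.Agent.Lib.Clifford.Cd3
import Cfsg.Agent.Lib.Clifford.XSChar
import Cfsg.Agent.Lib.Clifford.Pw

set_option autoImplicit false
open Cfsg

namespace Cfsg.Agent.S4845

open Cfsg.Lib Cfsg.Lib.Clifford Cfsg.Lib.Char Finset Subgroup
open scoped commutatorElement ComplexConjugate

def Gal (P : Type*) [Group P] : Prop := ∀ χ ψ : P → ℂ, IsIrrCharacter P χ → IsIrrCharacter P ψ → charDegree χ ≠ 1 →
  charDegree χ = charDegree ψ → ∃ k : ℕ, k.Coprime (Nat.card P) ∧ ∀ g, ψ g = χ (g ^ k)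

variable {P : Type*} [Group P] [Finite P] {p : ℕ} [hp : Fact p.Prime] {χ ψ : P → ℂ}

omit [Finite P] in
theorem Gal.quo (h : Gal P) (N : Subgroup P) [N.Normal] : Gal (P ⧸ N) := fun χ ψ a b c d => by
  obtain ⟨k, h1, h2⟩ := h _ _ a.inflate b.inflate c d
  exact ⟨k, h1.coprime_dvd_right N.index_dvd_card, fun g => g.inductionOn' h2⟩

omit [Finite P] in
theorem Gal.triv (h : Gal P) (a : IsIrrCharacter P χ) (b : IsIrrCharacter P ψ) (c : charDegree χ ≠ 1)
    (d : charDegree χ = charDegree ψ) {N : Subgroup P} (ht : Triv N χ) : Triv N ψ := fun x hx => by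
  obtain ⟨k, -, h2⟩ := h _ _ a b c d
  rw [h2, h2, one_pow, ht _ (pow_mem hx k)]

theorem inf_ker (h : Nat.card (commutator P) = p) (a : IsIrrCharacter P χ) (c : charDegree χ ≠ 1) :
    ∀ x ∈ commutator P, x ∈ charKer χ → x = 1 := fun x h1 h2 => by_contra fun h3 => c (by
  have : zpowers x = commutator P := PGrp.eq_of_le_of_card_le (zpowers_le.2 h1) (by
    rw [h, Nat.card_zpowers, orderOf_eq_prime (h ▸ orderOf_dvd_iff_pow_eq_one.1 (orderOf_dvd_natCard _ h1)) h3])
  exact charDegree_of_eq ((a.degree_eq_one_iff.2 (this ▸ zpowers_le.2 h2)).trans Nat.cast_one.symm))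

theorem vanish (hP : IsPGroup p P) (h : Nat.card (commutator P) = p) (a : IsIrrCharacter P χ) (c : charDegree χ ≠ 1)
    {x : P} (hx : x ∉ center P) : χ x = 0 := by_contra fun e => hx (mem_center_iff.2 fun y => by
  have h1 : ⁅y, x⁆ ∈ commutator P := commutator_mem_commutator (mem_top y) (mem_top x)
  obtain ⟨u, hu⟩ := a.center_le_charCenter (PGrp.le_center_of_card_eq hP _ h h1)
  have h2 := hu x
  rw [commutatorElement_def, inv_mul_cancel_right, (irrOn_top.2 a).classOn y trivial x trivial, eq_comm,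
    mul_eq_right₀ e] at h2
  exact commutatorElement_eq_one_iff_mul_comm.1 (inf_ker h a c _ h1 fun y => by rw [hu, h2, one_mul]))

theorem exists_nonlin (h : commutator P ≠ ⊥) : ∃ χ, IsIrrCharacter P χ ∧ charDegree χ ≠ 1 := by
  by_contra! e
  exact h ((commutator_eq_bot_iff P).2 ⟨⟨fun a b => comm_of_forall_deg (N := ⊤)
    (fun θ hθ => e θ (mem_Irr_top.1 hθ)) a trivial b trivial⟩⟩)

theorem Gal.cyc (h : Gal P) (h1 : Nat.card (commutator P) = p) : IsCyclic (center P) := by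
  obtain ⟨χ, a, c⟩ := exists_nonlin (P := P) fun e => hp.out.ne_one (by rw [← h1, e, card_bot])
  refine a.isCyclic_center (eq_bot_iff.2 fun x hx => inf_ker h1 a c x (by_contra fun e => ?_) hx)
  obtain ⟨l, h2, h3⟩ := exists_IrrKer_ne (K := ⊤) le_top (nrm_of_normal _ _) e
  have hl := linOn_of_mem_IrrKer le_rfl h2
  have hi := irrOn_top.2 a
  have := h.triv a (irrOn_top.1 (hi.mul_lin hl)) c (by rw [hi.charOn.deg_mul hl.charOn, hl.deg, mul_one])
    (N := charKer χ) (fun y hy => apply_eq_of_mem_charKer hy) x hx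
  rw [Pi.mul_apply, Pi.mul_apply, apply_eq_of_mem_charKer hx] at this
  exact h3 (mul_left_cancel₀ hi.one_ne_zero this)

omit [Finite P] hp in
theorem pow_mem_center {N : Subgroup P} (hN : N ≤ center P) (h : Nat.card N = p) {w : P} (hw : ∀ g, ⁅w, g⁆ ∈ N) :
    w ^ p ∈ center P := mem_center_iff.2 fun g => by
  have h1 : g * w * g⁻¹ = ⁅w, g⁆⁻¹ * w := by rw [commutatorElement_def]; group
  have h2 : ⁅w, g⁆ ^ p = 1 := h ▸ orderOf_dvd_iff_pow_eq_one.1 (N.orderOf_dvd_natCard (hw g))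
  rw [← mul_inv_eq_iff_eq_mul, ← conj_pow, h1, Commute.mul_pow (mem_center_iff.1 (hN (inv_mem (hw g))) w).symm,
    inv_pow, h2, inv_one, one_mul]

omit [Finite P] in
theorem card_comm_quo (N : Subgroup P) [N.Normal] (h : N ≤ commutator P) :
    Nat.card N * Nat.card (commutator (P ⧸ N)) = Nat.card (commutator P) := by
  rw [_root_.commutator_def (P ⧸ N), ← MonoidHom.range_eq_top.2 (QuotientGroup.mk'_surjective N), ← map_commutator_eq,
    Core.card_map_mk'_eq_relIndex, card_mul_relIndex h]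

theorem Gal.not_sq (h : Gal P) (hP : IsPGroup p P) (h1 : Nat.card (commutator P) = p ^ 2) : False := by
  classical
  obtain ⟨N, _, h2, h3⟩ := PGrp.exists_normal_le_card_eq hP (commutator P) 1 (h1 ▸ pow_le_pow_right₀ hp.out.pos one_le_two)
  rw [pow_one] at h3
  have hN := PGrp.le_center_of_card_eq hP N h3
  have hQ := hP.to_quotient N
  have h4 : Nat.card (commutator (P ⧸ N)) = p := mul_left_cancel₀ hp.out.ne_zero (by
    rw [← sq, ← h1, ← card_comm_quo N h2, h3])
  obtain ⟨w, hw⟩ := PGrp.exists_zpowers_eq_of_isCyclic ((h.quo N).cyc h4)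
  obtain ⟨w, rfl⟩ := QuotientGroup.mk_surjective w
  obtain ⟨β, a, c⟩ := exists_nonlin (P := P ⧸ N) fun e => hp.out.ne_one (by rw [← h4, e, card_bot])
  have h5 := (a.degree_sq_eq_index_iff a.center_le_charCenter).2 fun g => vanish hQ h4 a c
  obtain ⟨n, hn⟩ := hP.exists_card_eq
  have pw' : ∀ {χ}, IsIrrCharacter P χ → ∃ i, charDegree χ = p ^ i := fun a =>
    ((Nat.dvd_prime_pow hp.out).1 (hn ▸ a.charDegree_dvd_card)).imp fun _ => And.right
  obtain ⟨d, hd⟩ := pw' a.inflate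
  change charDegree β = _ at hd
  replace h5 : (center (P ⧸ N)).index = (p ^ d) ^ 2 := by rw [← a.coe_charDegree, hd] at h5; exact_mod_cast h5.symm
  obtain ⟨j, hj⟩ := PGrp.exists_card_eq_pow hQ (center _)
  have h6 : (center P).index ≤ p * (p ^ d) ^ 2 := by
    have e : (center (P ⧸ N)).comap (QuotientGroup.mk' N) = N ⊔ zpowers w := by
      rw [← hw, ← Core.comap_map_mk', MonoidHom.map_zpowers]; rfl
    have e' : center P ⊔ zpowers w = N ⊔ zpowers w := le_antisymm (sup_le (e ▸ fun x hx =>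
      (PGrp.mk_mem_center_iff N x).2 fun g => by
        rw [commutatorElement_eq_one_iff_mul_comm.2 (mem_center_iff.1 hx g).symm]; exact one_mem _) le_sup_right)
      (sup_le_sup_right hN _)
    rw [← h5, ← index_comap_of_surjective _ (QuotientGroup.mk'_surjective N), e, ← e',
      ← relIndex_mul_index (le_sup_left (b := zpowers w))]
    refine Nat.mul_le_mul_right _ ?_
    by_cases h6 : w ∈ center P
    · rw [relIndex_eq_one.2 (sup_le le_rfl (zpowers_le.2 h6))]; exact hp.out.pos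
    · exact (PGrp.relIndex_sup_zpowers h6 (pow_mem_center hN h3 ((PGrp.mk_mem_center_iff N w).1
        (hw ▸ mem_zpowers _)))).le
  have h7 : ∀ x : P, x ^ p ^ (j + 2) = 1 := fun x => by
    have := pow_mem_center (PGrp.le_center_of_card_eq hQ _ h4) h4 (w := (x : P ⧸ N))
      fun g => commutator_mem_commutator (mem_top _) (mem_top _)
    have := orderOf_dvd_iff_pow_eq_one.1 (orderOf_dvd_natCard _ this)
    rw [hj, ← QuotientGroup.mk_pow, ← QuotientGroup.mk_pow, QuotientGroup.eq_one_iff] at this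
    have := orderOf_dvd_iff_pow_eq_one.1 (orderOf_dvd_natCard _ this)
    rwa [h3, ← pow_mul, ← pow_mul, show p * (p ^ j * p) = p ^ (j + 2) by ring] at this
  have h8 : ∀ χ ∈ Irr ⊤ \ IrrKer ⊤ N, ∃ i < d, charDegree χ = p ^ i := fun χ hχ => by
    obtain ⟨b, e⟩ := mem_sdiff.1 hχ
    have b' := mem_Irr_top.1 b
    obtain ⟨i, hi⟩ := pw' b'
    refine ⟨i, lt_of_le_of_ne ?_ fun e' => e (mem_IrrKer.2 ⟨b, h.triv a.inflate b' c (hd.trans (e' ▸ hi.symm))
      fun x hx => congrArg β ((QuotientGroup.eq_one_iff x).2 hx)⟩), hi⟩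
    have := (b'.degree_sq_le_index b'.center_le_charCenter b'.coe_charDegree.symm).trans h6
    rw [hi, ← pow_mul, ← pow_mul, ← pow_succ', Nat.pow_le_pow_iff_right hp.out.one_lt] at this
    omega
  have h9 := sum_sdiff_IrrKer (K := ⊤) le_top (nrm_of_normal ⊤ N)
  rw [card_top, ← N.card_mul_index, relIndex_top_right, h3, index_eq_card, ← (center (P ⧸ N)).card_mul_index, hj, h5]
    at h9
  have h10 : ∑ χ ∈ Irr ⊤ \ IrrKer ⊤ N, charDegree χ ^ 2 ≤ ∑ i ∈ range d, p ^ (j + 1) * (p - 1) * (p ^ i) ^ 2 := by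
    choose! f h10 h11 using h8
    rw [← sum_fiberwise_of_maps_to (g := f) (t := range d) fun χ hχ => mem_range.2 (h10 χ hχ)]
    refine sum_le_sum fun i _ => ?_
    rw [sum_congr rfl fun χ hχ => by rw [h11 χ (mem_filter.1 hχ).1, (mem_filter.1 hχ).2], sum_const, smul_eq_mul]
    refine Nat.mul_le_mul_right _ ?_
    rcases eq_empty_or_nonempty ((Irr ⊤ \ IrrKer ⊤ N).filter fun χ => f χ = i) with e | ⟨χ, hχ⟩
    · simp [e]
    rw [← Nat.totient_prime_pow_succ hp.out, Nat.totient_eq_card_coprime]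
    refine (card_le_card fun ψ hψ => ?_).trans (card_image_le (f := fun k => pw k χ))
    obtain ⟨a1, a2⟩ := mem_filter.1 hχ
    obtain ⟨b1, b2⟩ := mem_filter.1 hψ
    obtain ⟨a3, a4⟩ := mem_sdiff.1 a1
    obtain ⟨k, c1, c2⟩ := h χ ψ (mem_Irr_top.1 a3) (mem_Irr_top.1 (mem_sdiff.1 b1).1) (fun e => a4 (mem_IrrKer.2
      ⟨a3, ((irrOn_of_mem a3).triv_of_deg e).mono h2⟩)) (by rw [h11 χ a1, h11 ψ b1, a2, b2])
    refine mem_image.2 ⟨k % p ^ (j + 2), mem_filter.2 ⟨mem_range.2 (Nat.mod_lt _ (pow_pos hp.out.pos _)), ?_⟩,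
      funext fun g => by rw [pw_apply, ← pow_eq_pow_mod _ (h7 g), c2]⟩
    rw [Nat.Coprime, Nat.gcd_comm, ← Nat.gcd_rec]
    exact (c1.coprime_dvd_right (h3 ▸ N.card_subgroup_dvd_card)).symm.pow_left _
  have h11 : ∀ d, p * ∑ i ∈ range d, (p ^ i) ^ 2 < (p ^ d) ^ 2 := fun d => by
    induction d with
    | zero => simp
    | succ d ih =>
      have := Nat.mul_le_mul_right ((p ^ d) ^ 2) (show p + 1 ≤ p * p by nlinarith [hp.out.two_le])
      rw [sum_range_succ, pow_succ p, mul_pow]; nlinarith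
  obtain ⟨r, rfl⟩ := Nat.exists_eq_add_of_lt hp.out.one_lt
  rw [← mul_sum] at h10
  have := Nat.mul_lt_mul_of_pos_left (h11 d) (show 0 < (1 + r + 1) ^ j * (1 + r) by positivity)
  rw [Nat.add_sub_cancel, pow_succ] at h10
  nlinarith

/-- Let p be a prime and P a finite non-commutative p-group. Then every two irreducible characters of P of the same degree greater than 1 are Galois conjugate (one is obtained from the other by composing with g ↦ g^k for some k prime to the order of P) if and only if the centre of P is cyclic and the derived subgroup of P has order p. -/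
theorem result {P : Type*} [Group P] [Finite P] (p : ℕ) [Fact p.Prime] (hP : IsPGroup p P) (hna : ¬ IsMulCommutative P) :
    (∀ χ ψ : Cfsg.IrrCharacter P, Cfsg.charDegree (χ : P → ℂ) ≠ 1 → Cfsg.charDegree (χ : P → ℂ) = Cfsg.charDegree (ψ : P → ℂ) → ∃ k : ℕ, Nat.Coprime k (Nat.card P) ∧ ∀ g : P, (ψ : P → ℂ) g = (χ : P → ℂ) (g ^ k)) ↔
      (IsCyclic (Subgroup.center P) ∧ Nat.card (commutator P) = p) := by
  have h0 : commutator P ≠ ⊥ := fun e => hna ((commutator_eq_bot_iff P).1 e)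
  refine ⟨fun h => ?_, fun ⟨h1, h2⟩ χ ψ a b => ?_⟩
  · have h : Gal P := fun χ ψ a b => h ⟨χ, a⟩ ⟨ψ, b⟩
    obtain ⟨_ | _ | k, hk⟩ := PGrp.exists_card_eq_pow hP (commutator P)
    · exact (h0 (card_eq_one.1 hk)).elim
    · exact ⟨h.cyc (hk.trans (pow_one p)), hk.trans (pow_one p)⟩
    obtain ⟨N, _, h1, h2⟩ := PGrp.exists_normal_le_card_eq hP (commutator P) k
      (hk ▸ pow_le_pow_right₀ (Fact.out : p.Prime).pos (by omega))
    exact ((h.quo N).not_sq (hP.to_quotient N) (mul_left_cancel₀ (pow_pos (Fact.out : p.Prime).pos k).ne' (by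
      rw [← h2, card_comm_quo N h1, hk, h2]; ring))).elim
  obtain ⟨z, hz⟩ := PGrp.exists_zpowers_eq_of_isCyclic h1
  have hz' : z ∈ center P := hz ▸ mem_zpowers z
  have key : ∀ χ, IsIrrCharacter P χ → charDegree χ ≠ 1 → ∃ u : ℂ, IsPrimitiveRoot u (orderOf z) ∧
      ∀ i : ℕ, χ (z ^ i) = u ^ i * charDegree χ := fun χ a b => by
    obtain ⟨u, hu⟩ := a.center_le_charCenter hz'
    have h3 : ∀ i : ℕ, χ (z ^ i) = u ^ i * charDegree χ := fun i => by
      induction i with
      | zero => simp [a.coe_charDegree]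
      | succ i ih => rw [pow_succ', hu, ih, pow_succ', mul_assoc]
    have h4 := (irrOn_top.2 a).one_ne_zero
    refine ⟨u, ⟨mul_right_cancel₀ h4 (by rw [← a.coe_charDegree, ← h3, pow_orderOf_eq_one, one_mul, a.coe_charDegree]),
      fun l hl => orderOf_dvd_of_pow_eq_one (by_contra fun e => ?_)⟩, h3⟩
    have := a.charKer_normal
    obtain ⟨y, c1, c2, c3⟩ := PGrp.exists_central_orderOf_eq hP (charKer χ) fun e' => e (mem_bot.1 (e'.le
      (a.mem_charKer.2 (by rw [h3, hl, one_mul, a.coe_charDegree]))))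
    exact (Fact.out : p.Prime).ne_one (by rw [← c3, inf_ker h2 a b y (PGrp.le_of_card_dvd_of_isCyclic h1
      (zpowers_le.2 c2) (PGrp.le_center_of_card_eq hP _ h2) (by rw [Nat.card_zpowers, c3, h2]) (mem_zpowers y)) c1,
      orderOf_one])
  obtain ⟨u, c1, c2⟩ := key χ χ.2 a
  obtain ⟨v, c3, c4⟩ := key ψ ψ.2 (b ▸ a)
  have : NeZero (orderOf z) := ⟨(orderOf_pos z).ne'⟩
  obtain ⟨k, -, c5, rfl⟩ := c1.isPrimitiveRoot_iff.1 c3
  obtain ⟨n, hn⟩ := hP.exists_card_eq
  have hk : k.Coprime (Nat.card P) := hn ▸ (c5.coprime_dvd_right (by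
    rw [← h2, ← Nat.card_zpowers, hz]; exact card_dvd_of_le (PGrp.le_center_of_card_eq hP _ h2))).pow_right n
  refine ⟨k, hk, fun g => ?_⟩
  by_cases hg : g ∈ center P
  · obtain ⟨i, rfl⟩ := mem_powers_iff_mem_zpowers.2 (hz.ge hg)
    simp only [← pow_mul, c2, c4, b, mul_comm i]
  · rw [vanish hP h2 ψ.2 (b ▸ a) hg, vanish hP h2 χ.2 a (mt (pow_mem_iff_of_coprime hk).1 hg)]

end Cfsg.Agent.S4845
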