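import Cfsg.Statements.S4850
import Cfsg.Agent.Lib.Hall.NV

set_option autoImplicit false
open Cfsg

namespace Cfsg.Agent.S4850

open scoped Pointwise commutatorElement
open Cfsg.Lib Cfsg.Lib.Hall

/-- Let p be a prime and G a finite solvable group whose vanishing elements (elements at which some irreducible character is zero) of order divisible by p all have the same order, with at least one such element. Let P be a Sylow p-subgroup of G. Then the derived subgroup of P is subnormal in G and the image of P in G/O_p(G) is cyclic. -/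
theorem result {G : Type*} [Group G] [Finite G] [hs : Group.IsSolvable G] (p : ℕ) [Fact p.Prime] (b : ℕ) (hvo : {n : ℕ | p ∣ n ∧ ∃ (g : G) (χ : Cfsg.IrrCharacter G), orderOf g = n ∧ (χ : G → ℂ) g = 0} = {b}) (P : Sylow p G) :
    ((commutator ↥(P : Subgroup G)).map (P : Subgroup G).subtype).IsSubnormal ∧ IsCyclic ↥((P : Subgroup G).map (QuotientGroup.mk' (Cfsg.pCore p G))) := by
  have hp : p.Prime := Fact.out
  have key : ∀ x : G, NV.Van x → p ∣ orderOf x → orderOf x = b := by
    intro x ⟨χ, hχ⟩ hx
    rw [← Set.mem_singleton_iff, ← hvo]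
    exact ⟨hx, x, χ, rfl, hχ⟩
  have hQ : NV.Q p G := NV.Q.of_eq hp fun x y hx hy h1 h2 => (key x hx h1).trans (key y hy h2).symm
  have h2 := NV.rel_dvd hp hQ P.isPGroup'
  haveI : IsCyclic ((P : Subgroup G).map (QuotientGroup.mk' (pCore p G))) := by
    refine isCyclic_of_card_dvd_prime (p := p) ?_
    rwa [← Subgroup.relIndex_ker, QuotientGroup.ker_mk']
  refine ⟨Core.isSubnormal_of_le_pCore hp ?_, this⟩
  rw [commutator_def, Subgroup.map_commutator, Subgroup.commutator_le]
  rintro _ ⟨a, -, rfl⟩ _ ⟨c, -, rfl⟩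
  rw [← QuotientGroup.eq_one_iff]
  change QuotientGroup.mk' _ _ = 1
  rw [map_commutatorElement, commutatorElement_eq_one_iff_mul_comm]
  exact congrArg Subtype.val (IsCyclic.isMulCommutative.is_comm.comm
    (⟨_, Subgroup.mem_map_of_mem _ a.2⟩ : (P : Subgroup G).map (QuotientGroup.mk' (pCore p G))) ⟨_, Subgroup.mem_map_of_mem _ c.2⟩)

end Cfsg.Agent.S4850
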