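import Cfsg.Statements.S4856
import Cfsg.Agent.Lib.Clifford.Count

set_option autoImplicit false
open Cfsg

namespace Cfsg.Agent.S4856

open Cfsg.Lib Cfsg.Lib.Clifford Cfsg.Lib.Char Finset

/-- For an element z of a finite group G, the number of pairs (x, y) of elements with x y x⁻¹ y⁻¹ = z equals the order of G times the sum over the irreducible characters χ of χ(z)/χ(1). -/
theorem result {G : Type*} [Group G] [Finite G] (z : G) : (Nat.card {xy : G × G // xy.1 * xy.2 * xy.1⁻¹ * xy.2⁻¹ = z} : ℂ) = (Nat.card G : ℂ) * ∑ᶠ χ : Cfsg.IrrCharacter G, (χ : G → ℂ) z / (χ : G → ℂ) 1 := by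
  have := Fintype.ofFinite G
  have h := card_mul_card_fiber (fun xy : G × G => xy.1 * xy.2 * xy.1⁻¹ * xy.2⁻¹) z
  apply mul_left_cancel₀ (Cfsg.Lib.Char.card_ne_zero G)
  rw [h, finsum_eq_sum_of_fintype, mul_sum, mul_sum]
  refine sum_congr rfl fun χ _ => ?_
  rw [Fintype.sum_prod_type]
  simp only [mul_inv_rev, inv_inv, ← mul_assoc]
  rw [sum_commutator_mul χ.2]
  have := χ.2.apply_one_ne_zero
  field_simp

end Cfsg.Agent.S4856
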