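import Cfsg.Statements.S4866
import Cfsg.Agent.Lib.Clifford.PBlk

set_option autoImplicit false
open Cfsg

namespace Cfsg.Agent.S4866

open Cfsg.Lib Cfsg.Lib.Clifford Cfsg.Lib.Char Finset Subgroup ComplexConjugate
open scoped commutatorElement

theorem card_quot_mul {G X : Type*} [Group G] [Fintype G] [Finite X] [MulAction G X]
    (r : X → X → Prop) (hr : ∀ a b, r a b ↔ ∃ g : G, g • a = b) :
    Nat.card (Quot r) * Nat.card G = ∑ g : G, Nat.card {x : X // g • x = x} := by
  have e : Quot r ≃ MulAction.orbitRel.Quotient G X := Quot.congrRight fun a b => by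
    rw [hr]
    exact ⟨fun ⟨g, h⟩ => (MulAction.orbitRel G X).symm ⟨g, h⟩,
      fun h => (MulAction.orbitRel G X).symm h⟩
  rw [Nat.card_congr e, ← Nat.card_prod,
    ← Nat.card_congr (MulAction.sigmaFixedByEquivOrbitsProdGroup G X), Nat.card_sigma]
  rfl

theorem mem_of_sq {G : Type*} [Group G] {K I : Subgroup G} [K.Normal] (hodd : Odd K.index)
    (h : K ≤ I) {g : G} (hg : g * g ∈ I) : g ∈ I := by
  obtain ⟨m, hm⟩ := hodd
  have h1 := h (K.pow_index_mem g)
  rw [hm, pow_succ, pow_mul, sq] at h1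
  exact (I.mul_mem_cancel_left (I.pow_mem hg m)).1 h1

/-- Let K be a normal subgroup of odd index in the finite group G. Then G has as many orbits on the real-valued irreducible complex characters of K (acting by conjugation) as it has orbits on the conjugacy classes of K that are real in K; equivalently, the number of G-orbits of real-valued irreducible characters of K equals the number of G-conjugacy classes of elements of K that are conjugate in K to their inverses. -/
theorem result {G : Type*} [Group G] [Finite G] (K : Subgroup G) [K.Normal] (hodd : Odd K.index) : Nat.card (Quot (fun θ η : {θ : Cfsg.IrrCharacter ↥K // (∀ k : ↥K, ((θ : ↥K → ℂ) k).im = 0)} => ∃ g : G, ∀ k k' : ↥K, (k' : G) = g * (k : G) * g⁻¹ → (η.1 : ↥K → ℂ) k' = (θ.1 : ↥K → ℂ) k)) = Nat.card (Quot (fun x y : {x : ↥K // IsConj x x⁻¹} => ∃ g : G, (y.1 : G) = g * x.1 * g⁻¹)) := by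
  classical
  have := Fintype.ofFinite G
  have hN := nrm_of_normal ⊤ K
  let c : G → K →* K := fun g => (MulAut.conjNormal g : MulAut K).toMonoidHom
  have hc : ∀ g (v : K), (c g v : G) = g * v * g⁻¹ := fun g v => rfl
  have hcs : ∀ g, Function.Surjective (c g) := fun g => (MulAut.conjNormal g : MulAut K).surjective
  let i1 : MulAction G {θ : Cfsg.IrrCharacter ↥K // (∀ k : ↥K, ((θ : ↥K → ℂ) k).im = 0)} :=
    { smul := fun g θ => ⟨⟨fun k => θ.1.1 (c g⁻¹ k), θ.1.2.comp _ (hcs _)⟩, fun k => θ.2 _⟩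
      one_smul := fun θ => Subtype.ext (Subtype.ext (funext fun k => congrArg θ.1.1
        (Subtype.ext (by simp [hc]))))
      mul_smul := fun g h θ => Subtype.ext (Subtype.ext (funext fun k => congrArg θ.1.1
        (Subtype.ext (by simp [hc, mul_assoc])))) }
  have s1 : ∀ (g : G) (θ : {θ : Cfsg.IrrCharacter ↥K // (∀ k : ↥K, ((θ : ↥K → ℂ) k).im = 0)}) k,
    (g • θ).1.1 k = θ.1.1 (c g⁻¹ k) := fun _ _ _ => rfl
  let i2 : MulAction G {x : ↥K // IsConj x x⁻¹} :=
    { smul := fun g x => ⟨c g x.1, by simpa using (c g).map_isConj x.2⟩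
      one_smul := fun x => Subtype.ext (Subtype.ext (show (c 1 x.1 : G) = _ by simp [hc]))
      mul_smul := fun g h x => Subtype.ext (Subtype.ext
        (show (c (g * h) x.1 : G) = c g (c h x.1) by simp [hc, mul_assoc])) }
  have s2 : ∀ (g : G) (x : {x : ↥K // IsConj x x⁻¹}), ((g • x).1 : G) = g * x.1 * g⁻¹ :=
    fun _ _ => rfl
  refine Nat.eq_of_mul_eq_mul_right (Nat.card_pos (α := G)) ?_
  rw [card_quot_mul, card_quot_mul]
  rotate_left
  · intro x y
    exact exists_congr fun g => ⟨fun h => Subtype.ext (Subtype.ext h.symm), fun h => h ▸ s2 g x⟩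
  · intro θ η
    refine exists_congr fun g => ⟨fun h => Subtype.ext (Subtype.ext (funext fun k => ?_)),
      fun h k k' e => ?_⟩
    · exact (h _ k (by simp [hc, mul_assoc])).symm
    · rw [← h, s1]
      exact congrArg θ.1.1 (Subtype.ext (by simp [hc, e, mul_assoc]))
  refine Nat.eq_of_mul_eq_mul_right (Nat.card_pos (α := K)) ?_
  have h1 : ∀ g : G, Nat.card {θ : {θ : Cfsg.IrrCharacter ↥K // (∀ k : ↥K, ((θ : ↥K → ℂ) k).im = 0)}
      // g • θ = θ} * Nat.card K = ∑ x ∈ elems K, conjCount K x (g⁻¹ * x⁻¹ * g) := by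
    intro g
    rw [← card_fixed_irr_mul (fun x => g⁻¹ * x⁻¹ * g) fun φ hφ =>
      ((irrOn_of_mem hφ).cj hN (Subgroup.mem_top g⁻¹)).star.congr fun x hx => by
        rw [Pi.star_apply, Complex.star_def,
          ← ((irrOn_of_mem hφ).cj hN (Subgroup.mem_top g⁻¹)).charOn.apply_inv hx, cj_apply, inv_inv]
        rfl]
    congr 1
    rw [← Coprime.card_irrCharacter_subtype (fun θ => (∀ k, (θ.1 k).im = 0) ∧
      ∀ k, θ.1 (c g⁻¹ k) = θ.1 k)]
    · refine Nat.card_congr ((Equiv.subtypeEquivRight fun θ => ?_).trans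
        (Equiv.subtypeSubtypeEquivSubtypeInter _ (fun θ : IrrCharacter K => ∀ k, θ.1 (c g⁻¹ k) = θ.1 k)))
      rw [Subtype.ext_iff, Subtype.ext_iff, funext_iff]
      rfl
    · intro φ hφ
      have hi := (irrOn_of_mem hφ).charOn
      have hm : ∀ x ∈ K, g⁻¹ * x * g ∈ K := fun x hx => (hN.mem_iff' (Subgroup.mem_top g) x).2 hx
      simp only [res, hc, inv_inv, Subtype.forall]
      constructor
      · rintro ⟨h1, h2⟩ x hx
        rw [h2 _ (K.inv_mem hx), hi.apply_inv hx, Complex.conj_eq_iff_im.2 (h1 x hx)]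
      · intro h
        have h2 : g⁻¹ ∈ inertia ⊤ K φ := by
          refine mem_of_sq hodd (le_inertia le_top hN hi.classOn)
            ((mem_inertia hN).2 ⟨Subgroup.mem_top _, fun x hx => ?_⟩)
          rw [← h x hx, ← h _ (hm _ (K.inv_mem hx))]
          congr 1; simp [mul_assoc]
        have h3 := ((mem_inertia hN).1 h2).2
        simp only [inv_inv] at h3
        refine ⟨fun x hx => ?_, h3⟩
        rw [← Complex.conj_eq_iff_im, ← hi.apply_inv hx, ← h3 _ (K.inv_mem hx), h x hx]
  have h2 : ∀ x ∈ elems K, ∑ g : G, conjCount K x (g⁻¹ * x⁻¹ * g) =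
      conjCount ⊤ x x⁻¹ * Nat.card K := by
    intro x _
    simp only [conjCount, card_filter]
    rw [sum_comm, ← card_elems, mul_comm, ← smul_eq_mul, ← sum_const, elems_top]
    refine sum_congr rfl fun k _ => ?_
    refine Fintype.sum_equiv (Equiv.mulRight k) _ _ fun g => if_congr ?_ rfl rfl
    rw [← mul_left_inj g⁻¹, ← mul_right_inj g]
    simp [mul_assoc]
  rw [sum_mul, sum_congr rfl fun g _ => h1 g, sum_comm, sum_congr rfl h2, ← sum_mul]
  congr 1
  have h3 : ∀ g : G, Nat.card {x : {x : ↥K // IsConj x x⁻¹} // g • x = x} =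
      ∑ x : K, if IsConj x x⁻¹ then (if g * x * g⁻¹ = x then 1 else 0) else 0 := by
    intro g
    simp only [← ite_and]
    rw [sum_boole, Nat.cast_id, ← Fintype.card_subtype, ← Nat.card_eq_fintype_card]
    refine Nat.card_congr ((Equiv.subtypeEquivRight fun θ => ?_).trans
        (Equiv.subtypeSubtypeEquivSubtypeInter _ (fun x : K => g * x * g⁻¹ = x)))
    rw [Subtype.ext_iff, Subtype.ext_iff, s2]
  rw [sum_congr rfl fun g _ => h3 g, sum_comm, sum_elems]
  refine sum_congr rfl fun x _ => ?_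
  split_ifs with h
  · rw [conjCount_top_of_isConj (by simpa using K.subtype.map_isConj h), ← top_inf_eq (centralizer _),
      ← conjCount_self, conjCount, card_filter, elems_top]
  · rw [sum_const_zero, conjCount_eq_zero]
    intro g _ e
    apply h
    obtain ⟨m, hm⟩ := hodd
    have h4 : g * g ∈ centralizer {(x : G)} := by
      rw [mem_centralizer_singleton_iff, ← mul_inv_eq_iff_eq_mul]
      calc g * g * x * (g * g)⁻¹ = g * (g * x * g⁻¹) * g⁻¹ := by simp [mul_assoc]
        _ = (g * x * g⁻¹)⁻¹ := by nth_rewrite 1 [e]; simp [mul_assoc]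
        _ = x := by rw [e, inv_inv]
    have h5 := mem_centralizer_singleton_iff.1 (Subgroup.pow_mem _ h4 m)
    refine isConj_iff.2 ⟨⟨_, K.pow_index_mem g⟩, Subtype.ext ?_⟩
    show g ^ K.index * x * (g ^ K.index)⁻¹ = (x : G)⁻¹
    rw [hm, pow_succ', pow_mul, sq, mul_assoc g, h5, ← e]
    group

end Cfsg.Agent.S4866
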