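import Cfsg.Statements.S4870
import Cfsg.Agent.Lib.Clifford.Real

set_option autoImplicit false
open Cfsg

namespace Cfsg.Agent.S4870

open Cfsg.Lib Cfsg.Lib.Clifford Cfsg.Lib.Char Finset

/-- Let G be a finite group with a non-abelian minimal normal subgroup N, and let φ be an irreducible complex character of N with stabilizer I in G (the elements g with φ(g n g⁻¹) = φ(n) for all n ∈ N) such that φ extends to an irreducible character of I. Put d = φ(1)·[G : I]. Then the number of linear characters of G is at most [G : I] times the number of irreducible characters of G of degree d. -/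
theorem result {G : Type*} [Group G] [Finite G] (N : Subgroup G) (hN : N.Normal) (hN1 : N ≠ ⊥) (hmin : ∀ M : Subgroup G, M.Normal → M ≤ N → M = ⊥ ∨ M = N) (hna : ¬ IsMulCommutative ↥N) (φ : Cfsg.IrrCharacter ↥N) (I : Subgroup G) (hI : ∀ g : G, g ∈ I ↔ ∀ n n' : ↥N, (n' : G) = g * (n : G) * g⁻¹ → (φ : ↥N → ℂ) n' = (φ : ↥N → ℂ) n) (hNI : N ≤ I) (hext : ∃ ψ : Cfsg.IrrCharacter ↥I, ∀ n : ↥N, (ψ : ↥I → ℂ) (Subgroup.inclusion hNI n) = (φ : ↥N → ℂ) n) : Nat.card {χ : Cfsg.IrrCharacter G // Cfsg.charDegree (χ : G → ℂ) = 1} ≤ I.index * Nat.card {χ : Cfsg.IrrCharacter G // Cfsg.charDegree (χ : G → ℂ) = Cfsg.charDegree (φ : ↥N → ℂ) * I.index} := by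
  classical
  obtain ⟨φ, hφ⟩ := φ
  obtain ⟨⟨ψ, hψ⟩, he⟩ := hext
  obtain ⟨η, rfl, -⟩ := exists_res I ψ
  obtain rfl : φ = res N η := funext fun n => (he n).symm
  have hη : IrrOn I η := hψ
  have hN' := nrm_of_normal ⊤ N
  have hc : N ≤ ⁅(⊤ : Subgroup G), ⊤⁆ := by
    rcases hmin ⁅N, N⁆ inferInstance (commutator_le_self N) with h | h
    · exact absurd (Subgroup.le_centralizer_iff_isMulCommutative.1
        (Subgroup.commutator_eq_bot_iff_le_centralizer.1 h)) hna
    · exact h ▸ Subgroup.commutator_mono le_top le_top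
  rw [card_irr_filter fun χ => charDegree χ = 1,
    card_irr_filter fun χ => charDegree χ = charDegree (res N η) * I.index, ← Subgroup.relIndex_top_right]
  refine card_lin_le hN' hNI le_top hη.charOn hφ (fun g hg => (hI g).2 fun n n' e => ?_)
    (fun lam h => ?_) fun lam h h' => mem_filter.2 ⟨h', ?_⟩
  · exact (congrArg η e).trans (((mem_inertia hN').1 hg).2 n n.2)
  · obtain ⟨h1, h2⟩ := mem_filter.1 h
    have hl := (irrOn_of_mem h1).charOn.linOn_of_deg h2
    exact ⟨h1, hl, (triv_kerOn.mono hl.commutator_le).mono hc⟩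
  · obtain ⟨h1, h2⟩ := mem_filter.1 h
    refine charDegree_of_eq ?_
    rw [Pi.mul_apply, (irrOn_of_mem h1).one_eq, h2, ind_one le_top, charDegree_res, hη.one_eq]
    simp [mul_comm]

end Cfsg.Agent.S4870
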