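import Cfsg.Statements.S4871
import Cfsg.Agent.Lib.Clifford.PBlk

set_option autoImplicit false
open Cfsg

namespace Cfsg.Agent.S4871

open Cfsg.Lib Cfsg.Lib.Clifford Cfsg.Lib.Char Finset Subgroup ComplexConjugate
open scoped commutatorElement

theorem finsum_irr_filter {G : Type*} [Group G] [Finite G] (P : (G → ℂ) → Prop) [DecidablePred P]
    (f : (G → ℂ) → ℕ) : ∑ᶠ χ : {χ : IrrCharacter G // P χ}, f χ.1 =
      ∑ χ ∈ (Irr (⊤ : Subgroup G)).filter P, f χ := by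
  rw [finsum_subtype_eq_finsum_cond (f := fun χ : IrrCharacter G => f χ.1) (p := fun χ => P χ.1), sum_filter,
    ← finsum_irr_top (fun χ => if P χ then f χ else 0)]
  exact finsum_congr fun χ => finsum_eq_if

/-- Let G be a finite group that is the semidirect product of a normal elementary abelian subgroup N of odd order by a non-trivial 2-subgroup P, with N the unique minimal normal subgroup of G. Consider the strongly real irreducible complex characters of G (Frobenius–Schur indicator +1) whose degree is 1 or even. Then their average degree is at least 4/3: four times their number is at most three times the sum of their degrees. -/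
theorem result {G : Type*} [Group G] [Finite G] (N P : Subgroup G) (hN : N.Normal) (q : ℕ) [Fact q.Prime] (hq : q ≠ 2) (hNel : Cfsg.IsElementaryAbelian q N) (hP : IsPGroup 2 ↥P) (hP1 : P ≠ ⊥) (hdisj : N ⊓ P = ⊥) (hprod : N ⊔ P = ⊤) (hmin : N ≠ ⊥ ∧ ∀ M : Subgroup G, M.Normal → M ≠ ⊥ → N ≤ M) : 4 * Nat.card {χ : Cfsg.IrrCharacter G // (Cfsg.charDegree (χ : G → ℂ) = 1 ∨ 2 ∣ Cfsg.charDegree (χ : G → ℂ)) ∧ (Nat.card G : ℂ)⁻¹ * ∑ᶠ g : G, (χ : G → ℂ) (g * g) = 1} ≤ 3 * (∑ᶠ χ : {χ : Cfsg.IrrCharacter G // (Cfsg.charDegree (χ : G → ℂ) = 1 ∨ 2 ∣ Cfsg.charDegree (χ : G → ℂ)) ∧ (Nat.card G : ℂ)⁻¹ * ∑ᶠ g : G, (χ : G → ℂ) (g * g) = 1}, Cfsg.charDegree (χ.1 : G → ℂ)) := by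
  classical
  rw [card_irr_filter fun χ => (charDegree χ = 1 ∨ 2 ∣ charDegree χ) ∧
    (Nat.card G : ℂ)⁻¹ * ∑ᶠ g : G, χ (g * g) = 1,
    finsum_irr_filter (fun χ => (charDegree χ = 1 ∨ 2 ∣ charDegree χ) ∧
    (Nat.card G : ℂ)⁻¹ * ∑ᶠ g : G, χ (g * g) = 1)]
  simp only [← fsOn_top']
  obtain ⟨A, hA⟩ : ∃ A, A = (Irr (⊤ : Subgroup G)).filter fun χ =>
    (charDegree χ = 1 ∨ 2 ∣ charDegree χ) ∧ fsOn ⊤ χ = 1 := ⟨_, rfl⟩
  rw [← hA]
  have hA' : ∀ χ, χ ∈ A ↔ χ ∈ Irr (⊤ : Subgroup G) ∧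
    (charDegree χ = 1 ∨ 2 ∣ charDegree χ) ∧ fsOn ⊤ χ = 1 := fun χ => by rw [hA, mem_filter]
  have : Fact (Nat.Prime 2) := ⟨Nat.prime_two⟩
  have hab : ∀ a ∈ N, ∀ b ∈ N, a * b = b * a := fun a ha b hb =>
    congrArg Subtype.val (hNel.1.is_comm.comm ⟨a, ha⟩ ⟨b, hb⟩)
  have hN' := nrm_of_normal ⊤ N
  have hdec : ∀ g : G, ∃ n ∈ N, ∃ t ∈ P, g = n * t := fun g =>
    exists_mul_of_mem_sup_nrm' (nrm_of_normal P N) (by rw [sup_comm, hprod]; trivial)
  have hnot : ∀ M : Subgroup G, M.Normal → M ≤ P → M = ⊥ := fun M hM h => by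
    by_contra hc
    exact hmin.1 (eq_bot_iff.2 (hdisj ▸ le_inf le_rfl ((hmin.2 M hM hc).trans h)))
  -- a central involution of `P`
  obtain ⟨z, hzP, hz1, hz2, hzc⟩ : ∃ z ∈ P, z ≠ 1 ∧ z * z = 1 ∧ ∀ t ∈ P, t * z = z * t := by
    have := (Subgroup.nontrivial_iff_ne_bot P).2 hP1
    have h1 := hP.center_nontrivial
    have h2 : 2 ∣ Nat.card (center P) := by
      obtain ⟨n, hn, e⟩ := (hP.to_subgroup (center P)).nontrivial_iff_card.1 h1
      exact e ▸ dvd_pow_self 2 hn.ne'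
    obtain ⟨x, hx⟩ := exists_prime_orderOf_dvd_card' 2 h2
    refine ⟨x.1.1, x.1.2, fun h => ?_, ?_, fun t ht => ?_⟩
    · rw [show x = 1 from Subtype.ext (Subtype.ext h), orderOf_one] at hx; omega
    · have := pow_orderOf_eq_one x
      rw [hx, sq] at this
      exact congrArg (fun y : center P => y.1.1) this
    · exact congrArg Subtype.val (mem_center_iff.1 x.2 ⟨t, ht⟩)
  have hzi : z⁻¹ = z := inv_eq_of_mul_eq_one_left hz2
  have hC : N ⊓ centralizer {z} = ⊥ := by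
    by_contra hc
    have h1 := hmin.2 _ ⟨fun x hx g => by
      obtain ⟨n, hn, t, ht, rfl⟩ := hdec g
      have h2 : t * x * t⁻¹ ∈ N := hN.conj_mem x hx.1 t
      have : n * t * x * (n * t)⁻¹ = t * x * t⁻¹ := by
        rw [mul_inv_rev, ← mul_assoc, mul_assoc n, mul_assoc n, hab n hn _ h2, mul_inv_cancel_right]
      rw [this]
      refine ⟨h2, Subgroup.mul_mem _ (Subgroup.mul_mem _ ?_ hx.2) (Subgroup.inv_mem _ ?_)⟩ <;>
        exact mem_centralizer_singleton_iff.2 (hzc t ht)⟩ hc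
    have h2 : z ∈ center G := mem_center_iff.2 fun g => by
      obtain ⟨n, hn, t, ht, rfl⟩ := hdec g
      rw [mul_assoc, hzc t ht, ← mul_assoc, mem_centralizer_singleton_iff.1 (h1 hn).2, mul_assoc]
    exact hz1 (zpowers_eq_bot.1 (hnot _ ⟨fun y hy g => by
      rwa [mem_center_iff.1 (zpowers_le.2 h2 hy) g, mul_inv_cancel_right]⟩ (zpowers_le.2 hzP)))
  have hinv : ∀ n ∈ N, z * n * z⁻¹ = n⁻¹ := fun n hn => by
    have h1 := hN.conj_mem n hn z
    have h2 : n * (z * n * z⁻¹) ∈ N ⊓ centralizer {z} := ⟨N.mul_mem hn h1,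
      mem_centralizer_singleton_iff.2 (by
        calc n * (z * n * z⁻¹) * z = n * z * n := by group
          _ = z * ((z * n * z⁻¹) * n) := by rw [hzi, ← mul_assoc, ← mul_assoc, ← mul_assoc, hz2, one_mul]
          _ = _ := by rw [hab _ h1 n hn])⟩
    rw [hC, Subgroup.mem_bot] at h2
    exact eq_inv_of_mul_eq_one_right h2
  have hq' : ∀ n ∈ N, n ^ q = 1 := hNel.2
  have hqo : Nat.Coprime 2 q := (Nat.coprime_primes Nat.prime_two Fact.out).2 hq.symm
  have hNc : N ≤ ⁅(⊤ : Subgroup G), (⊤ : Subgroup G)⁆ := fun n hn => by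
    have h1 : n ^ 2 ∈ ⁅(⊤ : Subgroup G), (⊤ : Subgroup G)⁆ := by
      have := commutator_mem_commutator (Subgroup.mem_top n) (Subgroup.mem_top z)
      rwa [commutatorElement_def, mul_assoc, mul_assoc, ← mul_assoc z, hinv _ (N.inv_mem hn),
        inv_inv, ← sq] at this
    exact Transfer.mem_of_pow_mem_of_coprime
      (hqo.symm.coprime_dvd_left (orderOf_dvd_of_pow_eq_one (hq' n hn))) h1
  obtain ⟨x, hx, hx1⟩ := (Subgroup.nontrivial_iff_exists_ne_one N).1
    ((Subgroup.nontrivial_iff_ne_bot N).2 hmin.1)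
  obtain ⟨lam, hl, hlx⟩ := exists_IrrKer_ne (K := N) (N := ⊥) bot_le (nrm_of_normal _ _) hx1
  have hl' := (irrOn_of_mem (IrrKer_subset hl)).linOn_of_comm hab
  obtain ⟨I, hI⟩ : ∃ I, I = inertia ⊤ N lam := ⟨_, rfl⟩
  have hNI : N ≤ I := hI ▸ le_inertia le_top hN' hl'.classOn
  obtain ⟨e, he⟩ := IsPGroup.iff_card.1 hP
  have hidx : N.index = 2 ^ e := by
    rw [← he, ← relIndex_top_right, ← hprod, sup_comm, relIndex_sup_right, ← inf_relIndex_right,
      hdisj, relIndex_bot_left]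
  have ho : ordOn N lam ∣ q := ordOn_dvd_iff.2 fun x hx => by rw [← hl'.map_pow hx, hq' x hx, hl'.2]
  obtain ⟨ψ, hψ, hψN, hψo⟩ := hl'.exists_ext_of_coprime hNI (hN'.mono le_top)
    (hI ▸ invOn_inertia hN') (by
      refine Nat.Coprime.coprime_dvd_right ho (Nat.Coprime.coprime_dvd_left ?_ (hqo.pow_left e))
      rw [← hidx]; exact relIndex_dvd_index_of_normal N I)
  have hψP : ∀ t ∈ I ⊓ P, ψ t = 1 := fun t ht => by
    refine eq_one_of_pow_of_coprime (hqo.pow_left e) ?_ (ordOn_dvd_iff.1 (hψo ▸ ho) t ht.1)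
    rw [← hψ.map_pow ht.1, ← he, show t ^ Nat.card P = 1 from
      congrArg Subtype.val (pow_card_eq_one' (x := (⟨t, ht.2⟩ : P))), hψ.2]
  have hzI : z ∉ I := fun h => by
    rw [hI, mem_inertia hN'] at h
    apply hlx
    rw [hl'.2]
    refine eq_one_of_pow_of_coprime hqo ?_ (ordOn_dvd_iff.1 ho x hx)
    have := h.2 x hx
    rw [hinv x hx, hl'.map_inv hx] at this
    rw [sq]
    nth_rewrite 1 [← this]
    exact inv_mul_cancel₀ (hl'.ne_zero hx)
  have hψN' : IrrOn N ψ := hl'.irrOn.congr fun x hx => (hψN x hx).symm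
  have hI' : inertia ⊤ N ψ ≤ I := by rw [hI, inertia_congr hψN]
  have hχ : IrrOn ⊤ (ind I ⊤ ψ) := irrOn_ind_of_inertia_le le_top hN' hψN' le_top hI' hψ.irrOn
    (by rw [hψN'.dot_self]; exact one_ne_zero)
  have hdec' : ∀ g ∈ I, ∃ n ∈ N, ∃ t ∈ I ⊓ P, g = n * t := fun g hg => by
    obtain ⟨n, hn, t, ht, rfl⟩ := hdec g
    exact ⟨n, hn, t, ⟨(I.mul_mem_cancel_left (hNI hn)).1 hg, ht⟩, rfl⟩
  have hzz : ∀ n ∈ N, ∀ t ∈ P, z * (n * t) * z⁻¹ = n⁻¹ * t := fun n hn t ht => by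
    rw [← hinv n hn, mul_assoc (z * n), ← mul_assoc z, mul_assoc (z * n), hzi, hzc t ht]
  have hzN : ∀ g ∈ I, z * g * z⁻¹ ∈ I := fun g hg => by
    obtain ⟨n, hn, t, ht, rfl⟩ := hdec' g hg
    rw [hzz n hn t ht.2]
    exact I.mul_mem (I.inv_mem (hNI hn)) ht.1
  have hr : RealOn ⊤ (ind I ⊤ ψ) := by
    have : star (ind I ⊤ ψ) = ind I ⊤ ψ := by
      rw [← ind_star, ← ind_cj (Subgroup.mem_top z) (fun g => ⟨fun h => by
        have := hzN _ h
        rwa [hzi, ← mul_assoc, ← mul_assoc, hz2, one_mul, mul_assoc, hz2, mul_one] at this,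
        hzN g⟩) ψ]
      refine ind_congr _ fun g hg => ?_
      obtain ⟨n, hn, t, ht, rfl⟩ := hdec' g hg
      rw [cj_apply, hzz n hn t ht.2, Pi.star_apply, hψ.map_mul (hNI hn) ht.1,
        hψ.map_mul (I.inv_mem (hNI hn)) ht.1, hψP t ht, mul_one, mul_one,
        hψ.charOn.apply_inv (hNI hn)]
      rfl
    exact fun x _ => congrFun this x
  have hf : fsOn ⊤ (ind I ⊤ ψ) = 1 := by
    refine (hχ.fsOn_of_real hr).resolve_right fun h => ?_
    have h1 := even_mult_one_of_fsOn (irrOn_top.1 hχ) h P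
    rw [mult_of_eq (n := 1) (by
      rw [dot_congr_left fun x hx => ind_mackey le_top le_top (fun g _ => by
        obtain ⟨n, hn, t, ht, rfl⟩ := hdec g
        exact ⟨n, hNI hn, t, ht, rfl⟩) hψ.classOn hx,
        dot_ind_left inf_le_right _ (classOn_one _), dot_congr_left (φ' := 1) hψP,
        (irrOn_one _).dot_self, Nat.cast_one])] at h1
    exact Nat.not_even_one h1
  obtain ⟨k, hk⟩ : ∃ k, k = I.relIndex ⊤ := ⟨_, rfl⟩
  have hk2 : 2 ∣ k := by
    have h1 : k ∣ 2 ^ e := by rw [hk, relIndex_top_right, ← hidx]; exact index_dvd_of_le hNI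
    obtain ⟨j, -, hj⟩ := (Nat.dvd_prime_pow Nat.prime_two).1 h1
    rcases j with _ | j
    · rw [pow_zero, hk, relIndex_top_right, index_eq_one] at hj
      exact absurd (hj ▸ Subgroup.mem_top z) hzI
    · exact hj ▸ dvd_pow_self 2 j.succ_ne_zero
  have hk0 : k ≠ 0 := hk ▸ relIndex_ne_zero _ _
  have key := card_lin_le hN' hNI le_top hψ.charOn hψN' hI'
    (s := A.filter fun χ => charDegree χ = 1) (t := A.filter fun χ => charDegree χ = k)
    (fun μ h => by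
      obtain ⟨h1, h2⟩ := mem_filter.1 h
      have h3 := ((hA' _).1 h1).1
      have hl := (irrOn_of_mem h3).charOn.linOn_of_deg h2
      exact ⟨h3, hl, (triv_kerOn.mono hl.commutator_le).mono hNc⟩)
    (fun μ h h' => by
      obtain ⟨h1, h2⟩ := mem_filter.1 h
      obtain ⟨h3, -, h4⟩ := (hA' _).1 h1
      have hl := (irrOn_of_mem h3).charOn.linOn_of_deg h2
      have h5 : charDegree (μ * ind I ⊤ ψ) = k := charDegree_of_eq (by
        rw [Pi.mul_apply, hl.2, ind_one le_top, hψ.2, hk, one_mul, mul_one])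
      refine mem_filter.2 ⟨(hA' _).2 ⟨h', Or.inr (h5 ▸ hk2), ?_⟩, h5⟩
      rw [hl.fsOn_mul (hl.irrOn.realOn_of_fsOn (h4 ▸ one_ne_zero)), hf])
  rw [← hk] at key
  have h1 : ∑ χ ∈ A, ((if charDegree χ = k then (3 * k - 4 : ℤ) else 0) -
      (if charDegree χ = 1 then 1 else 0)) ≤ ∑ χ ∈ A, (3 * charDegree χ - 4 : ℤ) :=
    sum_le_sum fun χ hχ => by
      have := (irrOn_of_mem ((hA' χ).1 hχ).1).deg_pos
      split_ifs <;> omega
  simp only [sum_sub_distrib, ← sum_filter, sum_const, nsmul_eq_mul, ← mul_sum] at h1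
  generalize (A.filter fun χ => charDegree χ = k).card = a at key h1
  generalize (A.filter fun χ => charDegree χ = 1).card = b at key h1
  zify at key ⊢
  have h2 : (2 : ℤ) ≤ k := by omega
  nlinarith [Int.natCast_nonneg a]

end Cfsg.Agent.S4871
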