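import Cfsg.Statements.S4872
import Cfsg.Agent.Lib.Clifford.DefZero

set_option autoImplicit false
open Cfsg

namespace Cfsg.Agent.S4872

open Cfsg.Lib Cfsg.Lib.Clifford Cfsg.Lib.Char Finset

/-- Let N be a normal subgroup of the finite group G with G/N a 2-group, and let φ be an irreducible complex character of N of 2-defect zero (the 2-part of #N divides φ(1)) whose complex conjugate is G-conjugate to φ. Then some irreducible character of G with Frobenius–Schur indicator +1 contains φ with multiplicity exactly one on restriction to N. -/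
theorem result {G : Type*} [Group G] [Finite G] (N : Subgroup G) [N.Normal] (h2 : IsPGroup 2 (G ⧸ N)) (φ : Cfsg.IrrCharacter ↥N) (hdef : 2 ^ (Nat.card ↥N).factorization 2 ∣ Cfsg.charDegree (φ : ↥N → ℂ)) (hconj : ∃ g : G, ∀ n n' : ↥N, (n' : G) = g * (n : G) * g⁻¹ → (φ : ↥N → ℂ) n' = (starRingEnd ℂ) ((φ : ↥N → ℂ) n)) : ∃ χ : Cfsg.IrrCharacter G, (Nat.card G : ℂ)⁻¹ * ∑ᶠ g : G, (χ : G → ℂ) (g * g) = 1 ∧ (Nat.card ↥N : ℂ)⁻¹ * ∑ᶠ n : ↥N, (χ : G → ℂ) n * (starRingEnd ℂ) ((φ : ↥N → ℂ) n) = 1 := by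
  classical
  obtain ⟨φ, hφ⟩ := φ
  obtain ⟨θ, rfl, -⟩ := exists_res N φ
  have hθ : IrrOn N θ := hφ
  have := Fintype.ofFinite N
  have hN := nrm_of_normal ⊤ N
  obtain ⟨g, hg⟩ := hconj
  have hs : ∀ χ ∈ Irr (⊤ : Subgroup G), dot N (star χ) θ = dot N χ θ := fun χ hχ => by
    have hi := irrOn_of_mem hχ
    rw [← star_star θ, dot_star, star_star, dot_congr_left (φ' := cj g θ) fun x hx =>
      (hg ⟨x, hx⟩ ⟨_, hN g trivial x hx⟩ rfl).symm,
      (hθ.charOn.cj hN (Subgroup.mem_top g)).dot_comm (hi.charOn.mono le_top),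
      dot_cj_right le_top hN hi.classOn trivial]
  obtain ⟨S⟩ : Nonempty (Sylow 2 G) := inferInstance
  obtain ⟨k, hk⟩ := IsPGroup.iff_card.1 h2
  have hQ := Transfer.sylowIn_inf_normal S N
  have hSN : ∀ x ∈ (⊤ : Subgroup G), ∃ n ∈ N, ∃ s ∈ (S : Subgroup G), x = n * s := fun x _ =>
    exists_mul_of_mem_sup_nrm' (nrm_of_normal _ N) (by
      rw [sup_comm, Core.sup_sylow_eq_top_of_isPGroup_quotient N h2 S]; trivial)
  have hd : charDegree θ = Nat.card ↥(N ⊓ S) * mult S (ind N ⊤ θ) 1 := by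
    rw [← Nat.cast_inj (R := ℂ), Nat.cast_mul,
      ← ((hθ.charOn.ind le_top).mono le_top).dot_eq_mult (charOn_one _),
      dot_congr_left fun x hx => ind_mackey le_top le_top hSN hθ.classOn hx,
      dot_ind_left inf_le_right _ (classOn_one _), dot, mul_inv_cancel_left₀ (Clifford.card_ne_zero _),
      sum_eq_single_of_mem 1 (mem_elems.2 (Subgroup.one_mem _)) fun x hx h1 => ?_, hθ.one_eq]
    · simp
    obtain ⟨j, hj⟩ := IsPGroup.iff_orderOf.1 S.2 ⟨x, (mem_elems.1 hx).2⟩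
    rw [hθ.eq_zero_of_defZero Nat.prime_two hdef (mem_elems.1 hx).1
      (dvd_orderOf_of_eq_pow h1 (by rw [← hj, Subgroup.orderOf_mk])), zero_mul]
  have ho : ¬ 2 ∣ mult S (ind N ⊤ θ) 1 := fun h => hQ.not_dvd (h.trans (by
    have := hθ.deg_dvd_card
    rwa [hd, ← card_mul_relIndex (inf_le_left : N ⊓ S ≤ N), Nat.mul_dvd_mul_iff_left Nat.card_pos,
      inf_comm] at this))
  have h1 : mult S (ind N ⊤ θ) 1 = ∑ χ ∈ Irr ⊤, mult N χ θ * mult S χ 1 := by
    rw [← Nat.cast_inj (R := ℂ), ← ((hθ.charOn.ind le_top).mono le_top).dot_eq_mult (charOn_one _),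
      ind_eq_sum le_top, dot_sum_left]
    push_cast
    refine sum_congr rfl fun χ hχ => ?_
    have hc := (irrOn_of_mem hχ).charOn
    rw [dot_smul_left, hθ.charOn.dot_comm (hc.mono le_top), (hc.mono le_top).dot_eq_mult hθ.charOn,
      (hc.mono le_top).dot_eq_mult (charOn_one _)]
  obtain ⟨χ, hχ, hr, h3⟩ : ∃ χ ∈ Irr (⊤ : Subgroup G), star χ = χ ∧ ¬ 2 ∣ mult N χ θ * mult S χ 1 := by
    by_contra hc
    push Not at hc
    apply ho
    rw [h1, ← ZMod.natCast_eq_zero_iff, Nat.cast_sum]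
    refine sum_involution (fun χ _ => star χ) (fun χ hχ => ?_)
      (fun χ hχ h e => h ((ZMod.natCast_eq_zero_iff _ _).2 (hc χ hχ e))) (fun χ hχ => star_mem_Irr hχ)
      fun χ _ => star_star χ
    have hc := (irrOn_of_mem hχ).charOn
    have e : mult S (star χ) 1 = mult S χ 1 := by
      rw [mult, ← star_one, dot_star, star_one, (charOn_one _).dot_comm (hc.mono le_top), mult]
    rw [e, mult.eq_1 N (star χ), hs χ hχ, ← mult, ← two_mul]
    exact mul_eq_zero_of_left rfl _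
  have hi := irrOn_of_mem hχ
  have h4 : dot N χ θ ≠ 0 := ((hi.charOn.mono le_top).mult_ne_zero hθ.charOn).1 fun e => h3 (by simp [e])
  have h5 : mult N χ θ = 1 := by
    have h6 := (mult_dvd le_top hN hi hθ h4).trans (Core.relIndex_dvd_relIndex_of_le_right N le_top)
    rw [Subgroup.relIndex_top_right, Subgroup.index, hk] at h6
    obtain ⟨j, -, hj⟩ := (Nat.dvd_prime_pow Nat.prime_two).1 h6
    rcases j with _ | j
    · simpa using hj
    · exact absurd (by rw [hj, pow_succ', mul_assoc]; exact dvd_mul_right _ _) h3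
  refine ⟨⟨χ, mem_Irr_top.1 hχ⟩, ?_, ?_⟩
  · rw [← fsOn_top']
    refine (hi.fsOn_of_real ((star_eq_iff hχ).1 hr)).resolve_right fun e => h3 ?_
    exact (even_iff_two_dvd.1 (even_mult_one_of_fsOn (mem_Irr_top.1 hχ) e S)).mul_left _
  · have := (hi.charOn.mono le_top).dot_eq_mult hθ.charOn
    rw [h5, dot, sum_elems, Nat.cast_one] at this
    rw [finsum_eq_sum_of_fintype]
    exact this

end Cfsg.Agent.S4872
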