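import Cfsg.Statements.S4873
import Cfsg.Agent.Lib.Clifford.Real

set_option autoImplicit false
open Cfsg

namespace Cfsg.Agent.S4873

open Cfsg.Lib Cfsg.Lib.Clifford Cfsg.Lib.Char Finset

/-- Let N be a normal subgroup of odd index in the finite group G. Then every irreducible complex character of N with Frobenius–Schur indicator +1 lies under exactly one irreducible character of G with Frobenius–Schur indicator +1. -/
theorem result {G : Type*} [Group G] [Finite G] (N : Subgroup G) [N.Normal] (hodd : Odd N.index) (φ : Cfsg.IrrCharacter ↥N) (hφ : (Nat.card ↥N : ℂ)⁻¹ * ∑ᶠ g : ↥N, (φ : ↥N → ℂ) (g * g) = 1) : ∃! χ : Cfsg.IrrCharacter G, (Nat.card G : ℂ)⁻¹ * ∑ᶠ g : G, (χ : G → ℂ) (g * g) = 1 ∧ (∑ᶠ n : ↥N, (χ : G → ℂ) n * (starRingEnd ℂ) ((φ : ↥N → ℂ) n)) ≠ 0 := by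
  obtain ⟨φ, hφi⟩ := φ
  obtain ⟨θ, rfl, -⟩ := exists_res N φ
  have hθ : IrrOn N θ := hφi
  have := Fintype.ofFinite N
  have hN := nrm_of_normal ⊤ N
  have ho : Odd (N.relIndex ⊤) := by rwa [Subgroup.relIndex_top_right]
  have h1 : fsOn N θ = 1 := by rw [fsOn_eq_finsum]; exact hφ
  have e : ∀ χ : G → ℂ, (∑ᶠ n : N, χ n * (starRingEnd ℂ) (res N θ n)) ≠ 0 ↔ dot N χ θ ≠ 0 := fun χ => by
    rw [dot, sum_elems, finsum_eq_sum_of_fintype]
    simp [Clifford.card_ne_zero N]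
  obtain ⟨χ, hχ, r, hd, hf⟩ := exists_real_over_of_odd le_top hN ho hθ (hθ.realOn_of_fsOn (by simp [h1]))
  refine ⟨⟨χ, mem_Irr_top.1 hχ⟩, ⟨by rw [← fsOn_top', hf, h1], (e χ).2 (by simp [hd])⟩, ?_⟩
  rintro ⟨ψ, hψ⟩ ⟨h2, h3⟩
  have hψ' := irrOn_top.2 hψ
  refine Subtype.ext (funext fun x => eq_of_real_of_odd le_top hN ho hψ' (irrOn_of_mem hχ) hθ ((e ψ).1 h3)
    (by simp [hd]) (hψ'.realOn_of_fsOn ?_) r x trivial)
  rw [fsOn_top']
  exact h2 ▸ one_ne_zero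

end Cfsg.Agent.S4873
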