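import Cfsg.Statements.S4885
import Cfsg.Agent.Lib.Clifford.PBlk

set_option autoImplicit false
open Cfsg

namespace Cfsg.Agent.S4885

open Cfsg.Lib Cfsg.Lib.Clifford Cfsg.Lib.Char Cfsg.Lib.Block Cfsg.Lib.Block2 Finset Subgroup
open scoped commutatorElement

theorem aux {G : Type*} [Group G] [Finite G] {p : ℕ} [hp : Fact p.Prime] (P : Sylow p G)
    {X : Set (G → ℂ)} (hX : ∀ χ, χ ∈ X ↔ χ ∈ B0 p (⊤ : Subgroup G) ∧ ¬ p ∣ charDegree χ)
    {K : Subgroup G} [K.Normal] (hK : K = ⨅ χ : X, kerOn ⊤ χ.1) :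
    K ⊓ P ≤ ⁅(P : Subgroup G), (P : Subgroup G)⁆ ∧ pPrimeCore p (G ⧸ K) = ⊥ := by
  have h1 : K ⊓ P ≤ ⁅(P : Subgroup G), (P : Subgroup G)⁆ := by
    intro x hx
    by_contra hc
    obtain ⟨lam, hl, h3⟩ := exists_IrrKer_ne (Clifford.commutator_le_self _) (nrm_commutator _) hc
    have hl' := linOn_of_mem_IrrKer le_rfl hl
    obtain ⟨χ, hχ, hd, h4⟩ := exists_B0_over_lin (Transfer.sylowIn_top P) hl'.charOn
        (by rw [hl'.deg]; exact hp.out.not_dvd_one)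
    have hi := irrOn_of_mem (B0_subset hχ)
    have h5 := (hi.charOn.mem_kerOn.1
      (Subgroup.mem_iInf.1 (hK ▸ hx.1) ⟨χ, (hX χ).2 ⟨hχ, h4⟩⟩)).2
    exact h3 ((hi.charOn.mono le_top).eq_of_dot hl'.irrOn (mt dot_eq_zero_comm.1 hd) hx.2 h5)
  refine ⟨h1, pPrimeCore_quotient_eq_bot P K
    (h1.trans (Transfer.commutator_le_frattiniOf P.isPGroup')) ?_⟩
  rw [hK]
  refine le_iInf fun χ => ?_
  have hχ := ((hX χ).1 χ.2).1
  rw [(irrOn_of_mem (B0_subset hχ)).charOn.le_kerOn le_top]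
  exact triv_of_B0 le_top (nrm_of_normal _ _) (Core.not_dvd_card_pPrimeCore hp.out) hχ

/-- Let p and q be primes dividing the order of the finite group G, and suppose G is p-solvable and q-solvable. Fix maximal ideals of the algebraic integers containing p and q, defining the principal p-block and the principal q-block. If the irreducible characters of degree prime to p in the principal p-block are exactly the irreducible characters of degree prime to q in the principal q-block, then p = q. -/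
theorem result {G : Type*} [Group G] [Finite G] (p q : ℕ) [Fact p.Prime] [Fact q.Prime] (hp : p ∣ Nat.card G) (hq : q ∣ Nat.card G) (hps : Cfsg.IsPSolvable p G) (hqs : Cfsg.IsPSolvable q G) (Mp Mq : Ideal Cfsg.AlgInt) (hMp : Cfsg.IsPModular p Mp) (hMq : Cfsg.IsPModular q Mq) (h : ∀ χ : Cfsg.IrrCharacter G, (χ ∈ Cfsg.principalBlock Mp G ∧ ¬ p ∣ Cfsg.charDegree (χ : G → ℂ)) ↔ (χ ∈ Cfsg.principalBlock Mq G ∧ ¬ q ∣ Cfsg.charDegree (χ : G → ℂ))) : p = q := by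
  have := hMp.2.1
  have := hMq.2.1
  by_contra hne
  obtain ⟨X, hX⟩ : ∃ X : Set (G → ℂ), ∀ χ, χ ∈ X ↔ χ ∈ B0 p (⊤ : Subgroup G) ∧ ¬ p ∣ charDegree χ :=
    ⟨{χ | χ ∈ B0 p (⊤ : Subgroup G) ∧ ¬ p ∣ charDegree χ}, fun _ => Iff.rfl⟩
  have hX' : ∀ χ, χ ∈ X ↔ χ ∈ B0 q (⊤ : Subgroup G) ∧ ¬ q ∣ charDegree χ := by
    intro χ
    rw [hX]
    by_cases hχ : IsIrrCharacter G χ
    · have := h ⟨χ, hχ⟩
      rwa [mem_principalBlock_iff_B0 hMp, mem_principalBlock_iff_B0 hMq] at this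
    · exact ⟨fun h => absurd (mem_Irr_top.1 (B0_subset h.1)) hχ,
        fun h => absurd (mem_Irr_top.1 (B0_subset h.1)) hχ⟩
  obtain ⟨K, hK⟩ : ∃ K, K = ⨅ χ : X, kerOn ⊤ χ.1 := ⟨_, rfl⟩
  have : K.Normal := hK ▸ normal_iInf_normal fun χ =>
    (irrOn_of_mem (B0_subset ((hX χ).1 χ.2).1)).classOn.nrm_kerOn.normal
  obtain ⟨P⟩ := Sylow.nonempty (p := p) (G := G)
  obtain ⟨Q⟩ := Sylow.nonempty (p := q) (G := G)
  obtain ⟨h1, h2⟩ := aux P hX hK
  obtain ⟨-, h3⟩ := aux Q hX' hK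
  rcases subsingleton_or_nontrivial (G ⧸ K) with h4 | h4
  · rw [QuotientGroup.subsingleton_iff.1 h4, top_inf_eq] at h1
    have h5 := h1.trans (Transfer.commutator_le_frattiniOf P.isPGroup')
    have h6 : frattini P = ⊤ := by
      rw [eq_top_iff]
      intro x _
      obtain ⟨y, hy, e⟩ := h5 x.2
      rwa [← Subtype.ext e]
    have h7 : (⊥ : Subgroup P) = ⊤ := frattini_nongenerating (by rw [h6, sup_top_eq])
    have h8 : (P : Subgroup G) = ⊥ := by
      rw [eq_bot_iff]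
      intro x hx
      have : (⟨x, hx⟩ : P) ∈ (⊥ : Subgroup P) := h7 ▸ Subgroup.mem_top _
      exact congrArg Subtype.val (Subgroup.mem_bot.1 this)
    exact (Transfer.sylowIn_top P).eq_bot_iff.1 h8 (by rwa [Subgroup.card_top])
  · rcases Core.pCore_ne_bot_or_of_isPSolvable hMp.1 (Core.isPSolvable_quotient hMp.1 hps K)
      with h5 | h5
    · exact h5 (eq_bot_iff.2 (h3 ▸ Core.pCore_le_pPrimeCore_of_ne hMq.1 hMp.1 hne))
    · exact h5 h2

end Cfsg.Agent.S4885
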