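import Cfsg.Statements.S4886
import Cfsg.Agent.Lib.Block2.NW
import Cfsg.Agent.Lib.Clifford.PBlk

set_option autoImplicit false
open Cfsg

namespace Cfsg.Agent.S4886

open Cfsg.Lib Cfsg.Lib.Block2.NW

/-- Let p ≠ q be primes and G a finite group that is p-solvable and q-solvable. Fix maximal ideals of the algebraic integers containing p and q, defining the principal p-block and the principal q-block. Then every irreducible character of degree prime to p in the principal p-block has degree prime to q and every irreducible character of degree prime to q in the principal q-block has degree prime to p, if and only if some Sylow p-subgroup of G commutes elementwise with some Sylow q-subgroup. -/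
theorem result {G : Type*} [Group G] [Finite G] (p q : ℕ) [Fact p.Prime] [Fact q.Prime] (hpq : p ≠ q) (Mp Mq : Ideal Cfsg.AlgInt) (hMp : Cfsg.IsPModular p Mp) (hMq : Cfsg.IsPModular q Mq) (hps : Cfsg.IsPSolvable p G) (hqs : Cfsg.IsPSolvable q G) : ((∀ χ : Cfsg.IrrCharacter G, χ ∈ Cfsg.principalBlock Mp G → ¬ p ∣ Cfsg.charDegree (χ : G → ℂ) → ¬ q ∣ Cfsg.charDegree (χ : G → ℂ)) ∧ (∀ χ : Cfsg.IrrCharacter G, χ ∈ Cfsg.principalBlock Mq G → ¬ q ∣ Cfsg.charDegree (χ : G → ℂ) → ¬ p ∣ Cfsg.charDegree (χ : G → ℂ))) ↔ ∃ (P : Sylow p G) (Q : Sylow q G), ∀ x ∈ (P : Subgroup G), ∀ y ∈ (Q : Subgroup G), x * y = y * x := by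
  have := hMp.2.1
  have := hMq.2.1
  have key : ∀ {p : ℕ} [Fact p.Prime] {M : Ideal AlgInt} [M.IsMaximal], IsPModular p M →
      IsPSolvable p G → ∀ χ : IrrCharacter G, χ ∈ principalBlock M G ↔
        Clifford.Triv (pPrimeCore p G) χ.1 := fun hM hs χ =>
    (Clifford.mem_principalBlock_iff_B0 hM χ).trans
      (Clifford.mem_B0_top_iff_of_isPSolvable hs (Clifford.mem_Irr_top.2 χ.2))
  constructor
  · rintro ⟨h1, h2⟩
    have a1 := not_dvd_index hpq hps hqs fun χ hχ ht =>
      h1 ⟨χ, Clifford.irrOn_top.1 hχ⟩ ((key hMp hps _).2 ht)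
    have a2 := not_dvd_index hpq.symm hqs hps fun χ hχ ht =>
      h2 ⟨χ, Clifford.irrOn_top.1 hχ⟩ ((key hMq hqs _).2 ht)
    obtain ⟨P, hP⟩ := Amalg.exists_syl p (pPrimeCore q G)
    obtain ⟨Q, hQ', hn⟩ := Coprime.exists_invariant_sylowIn (A := P) (K := pPrimeCore p G)
      Subgroup.le_normalizer_of_normal (Coprime.coprime_card_of_isPGroup hP.isPGroup
        (Core.coprime_card_pPrimeCore p G)).symm (Or.inl (Coprime.isSolvable_of_isPGroup hP.isPGroup)) q
    have hQ := Amalg.syl_of_sylowIn hQ'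
    refine ⟨(hP.of_le_of_not_dvd le_top (by rwa [Subgroup.relIndex_top_right])).toSylowTop,
      (hQ.of_le_of_not_dvd le_top (by rwa [Subgroup.relIndex_top_right])).toSylowTop,
      fun x hx y hy => ?_⟩
    have h3 : x * y * x⁻¹ * y⁻¹ ∈ pPrimeCore q G ⊓ Q := Subgroup.mem_inf.2 ⟨by
      rw [mul_assoc, mul_assoc, ← mul_assoc y]
      exact mul_mem (hP.le hx) (Subgroup.Normal.conj_mem inferInstance _ (inv_mem (hP.le hx)) y),
      mul_mem (Coprime.conj_mem hn hx hy) (inv_mem hy)⟩
    rwa [Coprime.inf_eq_bot_of_coprime_card (Coprime.coprime_card_of_isPGroup hQ.isPGroup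
      (Core.coprime_card_pPrimeCore q G)).symm, Subgroup.mem_bot, mul_inv_eq_one,
      mul_inv_eq_iff_eq_mul] at h3
  · rintro ⟨P, Q, h⟩
    exact ⟨fun χ hχ _ => not_dvd_of_comm hpq hps (Amalg.syl_top P) (Amalg.syl_top Q) h
      (Clifford.irrOn_top.2 χ.2) ((key hMp hps χ).1 hχ),
      fun χ hχ _ => not_dvd_of_comm hpq.symm hqs (Amalg.syl_top Q) (Amalg.syl_top P)
        (fun x hx y hy => (h y hy x hx).symm) (Clifford.irrOn_top.2 χ.2) ((key hMq hqs χ).1 hχ)⟩

end Cfsg.Agent.S4886
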