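import Cfsg.Statements.S4888
import Cfsg.Agent.Lib.Clifford.PBlk

set_option autoImplicit false
open Cfsg

namespace Cfsg.Agent.S4888

open Cfsg.Lib Cfsg.Lib.Clifford Cfsg.Lib.Char Cfsg.Lib.Block Cfsg.Lib.Block2 Finset Subgroup
open scoped commutatorElement

/-- Let G be a finite group, p a prime and M a maximal ideal of the algebraic integers containing p. Then all height-zero irreducible characters of the principal p-block of G (equivalently, all its characters of degree prime to p) have the same degree if and only if G has a normal p-complement. -/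
theorem result {G : Type*} [Group G] [Finite G] (p : ℕ) [Fact p.Prime] (M : Ideal Cfsg.AlgInt) (hM : Cfsg.IsPModular p M) : (∃ d : ℕ, ∀ χ : Cfsg.IrrCharacter G, χ ∈ (Cfsg.principalBlock M G) → Cfsg.blockHeight p (Cfsg.principalBlock M G) (χ : G → ℂ) = 0 → Cfsg.charDegree (χ : G → ℂ) = d) ↔ Cfsg.HasNormalPComplement p G := by
  have := hM.2.1
  have key : ∀ χ : IrrCharacter G, blockHeight p (principalBlock M G) χ.1 = 0 ↔
      ¬ p ∣ charDegree χ.1 := fun χ => ⟨fun h h3 => by
    rw [Block.blockHeight_eq_zero_iff, minVal_principalBlock] at h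
    exact (hM.1.factorization_pos_of_dvd (χ.2.charDegree_ne_zero) h3).not_ge h,
    blockHeight_eq_zero_of_not_dvd⟩
  rw [Transfer.hasNormalPComplement_iff_top]
  constructor
  · rintro ⟨d, h⟩
    have h1 := h _ principalIrr_mem (blockHeight_one _)
    rw [show (principalIrr G).1 = fun _ => 1 from rfl, charDegree_one] at h1
    refine pnil_of_B0 fun χ hχ hd => ?_
    have h2 := mem_Irr_top.1 (B0_subset hχ)
    rw [h1]
    exact h ⟨χ, h2⟩ ((mem_principalBlock_iff_B0 hM _).2 hχ) ((key _).2 hd)
  · intro h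
    refine ⟨1, fun χ hχ h0 => ?_⟩
    rw [mem_principalBlock_iff_B0 hM] at hχ
    have h1 := triv_of_B0 le_top (nrm_resOf ⊤) h hχ
    have hi := irrOn_of_mem (B0_subset hχ)
    have h2 := deg_dvd_relIndex_mul le_top (nrm_resOf ⊤) hi (irrOn_one _)
      ((hi.triv_iff le_top (nrm_resOf ⊤)).1 h1)
    obtain ⟨n, hn⟩ := Transfer.relIndex_resOf (p := p) (⊤ : Subgroup G)
    rw [hn, (linOn_one ⊤).deg, mul_one] at h2
    obtain ⟨j, -, hj⟩ := (Nat.dvd_prime_pow hM.1).1 h2
    rcases j with _ | j
    · exact hj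
    · exact absurd (hj ▸ dvd_pow_self p j.succ_ne_zero) ((key χ).1 h0)

end Cfsg.Agent.S4888
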