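import Cfsg.Statements.S4889
import Cfsg.Agent.Lib.Block2.EqDeg

set_option autoImplicit false
open Cfsg

namespace Cfsg.Agent.S4889

/-- Let G be a finite group, p a prime, M a maximal ideal of the algebraic integers containing p, and B a p-block of G that has an abelian defect group and in which every irreducible character has height zero. Then all irreducible characters of B have the same degree if and only if B is a nilpotent block. -/
theorem result {G : Type*} [Group G] [Finite G] (p : ℕ) [Fact p.Prime] (M : Ideal Cfsg.AlgInt) (hM : Cfsg.IsPModular p M) (B : Set (Cfsg.IrrCharacter G)) (hB : Cfsg.IsPBlock M B) (D : Subgroup G) (hD : Cfsg.IsDefectGroup p M B D) (hDab : IsMulCommutative ↥D) (h0 : ∀ χ : Cfsg.IrrCharacter G, χ ∈ B → Cfsg.blockHeight p B (χ : G → ℂ) = 0) : (∃ d : ℕ, ∀ χ : Cfsg.IrrCharacter G, χ ∈ B → Cfsg.charDegree (χ : G → ℂ) = d) ↔ Cfsg.IsNilpotentBlock p M B := by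
  open Cfsg.Lib Cfsg.Lib.Block Cfsg.Lib.Block2 Cfsg.Lib.Char Cfsg.Lib.Amalg in
  have := hM.2.1
  haveI := Fintype.ofFinite G
  obtain ⟨ε, hm⟩ := (hD.defG_top hM hB).exists_maxP hM (blk_top_eB hB)
  rw [isNilpotentBlock_iff_top hM hB]
  refine ⟨fun ⟨d, hd⟩ => nilB_of_deg hM hB hm (Subgroup.le_centralizer D) hd, fun hn => ?_⟩
  obtain ⟨χ₀, h₀⟩ := hB.nonempty
  obtain ⟨Φ, hΦ⟩ := hn.exists_equiv hM hB hm h₀ (h0 _ h₀)
  refine ⟨charDegree χ₀.1, fun χ hχ => ?_⟩
  obtain ⟨θ, e⟩ := Φ.surjective ⟨χ, hχ⟩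
  have h1 := (hΦ θ).2
  rw [e] at h1
  have h2 := θ.2.degree_eq_one_of_comm hDab.1.1
  rw [← irr_cast_deg, Nat.cast_eq_one] at h2
  rw [h1, h2, one_mul]

end Cfsg.Agent.S4889
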