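import Cfsg.Statements.S4890
import Cfsg.Agent.Lib.Block2.NorDef

set_option autoImplicit false
open Cfsg

namespace Cfsg.Agent.S4890

/-- Let G be a finite group, p a prime, M a maximal ideal of the algebraic integers containing p, and B a p-block of G with a defect group that is normal in G. Then all height-zero irreducible characters of B have the same degree if and only if B is a nilpotent block. -/
theorem result {G : Type*} [Group G] [Finite G] (p : ℕ) [Fact p.Prime] (M : Ideal Cfsg.AlgInt) (hM : Cfsg.IsPModular p M) (B : Set (Cfsg.IrrCharacter G)) (hB : Cfsg.IsPBlock M B) (D : Subgroup G) (hD : Cfsg.IsDefectGroup p M B D) (hDn : D.Normal) : (∃ d : ℕ, ∀ χ : Cfsg.IrrCharacter G, χ ∈ B → Cfsg.blockHeight p B (χ : G → ℂ) = 0 → Cfsg.charDegree (χ : G → ℂ) = d) ↔ Cfsg.IsNilpotentBlock p M B := by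
  open Cfsg.Lib Cfsg.Lib.Block Cfsg.Lib.Block2 Cfsg.Lib.Char Cfsg.Lib.Amalg in
  have := hM.2.1
  haveI := Fintype.ofFinite G
  rw [isNilpotentBlock_iff_top hM hB]
  refine ⟨fun ⟨d, hd⟩ => nilB_of_deg_normal hM hB hD hd, fun hn => ?_⟩
  obtain ⟨ε, hm⟩ := (hD.defG_top hM hB).exists_maxP hM (blk_top_eB hB)
  obtain ⟨χ₀, h₀, h0⟩ := exists_height_zero p hB.nonempty
  obtain ⟨Φ, hΦ⟩ := hn.exists_equiv hM hB hm h₀ h0
  refine ⟨charDegree χ₀.1, fun χ hχ h => ?_⟩
  obtain ⟨θ, e⟩ := Φ.surjective ⟨χ, hχ⟩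
  have h1 := (hΦ θ).2
  rw [e] at h1
  obtain ⟨n, hn⟩ := IsPGroup.iff_card.1 hm.defG.isPGroup
  obtain ⟨k, -, hk⟩ := (Nat.dvd_prime_pow Fact.out).1 (hn ▸ deg_dvd_card θ.2)
  rw [blockHeight_eq_zero_iff_eq hχ, h1, hk, Nat.factorization_mul (pow_ne_zero _
    (Fact.out : p.Prime).ne_zero) (deg_ne_zero χ₀.2), (Fact.out : p.Prime).factorization_pow,
    Finsupp.add_apply, Finsupp.single_eq_same, (blockHeight_eq_zero_iff_eq h₀).1 h0] at h
  rw [h1, hk, show k = 0 by omega, pow_zero, one_mul]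

end Cfsg.Agent.S4890
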