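import Cfsg.Statements.S4911
import Cfsg.Agent.Lib.Coprime.Glaub3
import Cfsg.Agent.S0160

set_option autoImplicit false
open Cfsg

namespace Cfsg.Agent.S4911

open Cfsg.Lib.Clifford Cfsg.Lib.Coprime Subgroup

theorem real_iff {Γ : Type*} [Group Γ] [Finite Γ] {K : Subgroup Γ} {φ : Γ → ℂ} (hφ : φ ∈ Irr K) :
    (∀ k : K, (res K φ k).im = 0) ↔ star φ = φ := by
  refine ⟨fun h => funext fun x => ?_, fun h k => Complex.conj_eq_iff_im.1 (congrFun h k)⟩
  by_cases hx : x ∈ K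
  · exact Complex.conj_eq_iff_im.2 (h ⟨x, hx⟩)
  · simp [zero_of_mem_Irr hφ hx]

theorem mult_star {Γ : Type*} [Group Γ] [Finite Γ] {C : Subgroup Γ} {φ ψ : Γ → ℂ}
    (h : CharOn C φ) (h' : CharOn C ψ) : mult C (star φ) (star ψ) = mult C φ ψ :=
  mult_of_eq (by rw [dot_star, h'.dot_comm h, h.dot_eq_mult h'])

theorem isConj_inv_iff {G : Type*} [Group G] (g : G) :
    (∀ k : G, ConjClasses.mk k = ConjClasses.mk g → IsConj k k⁻¹) ↔ IsConj g g⁻¹ := by
  refine ⟨fun h => h _ rfl, fun h k hk => ?_⟩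
  have h4 : IsConj k g := ConjClasses.mk_eq_mk_iff_isConj.1 hk
  obtain ⟨c, hc⟩ := isConj_iff.1 h4
  exact h4.trans (h.trans (isConj_iff.2 ⟨c⁻¹, by rw [← hc]; group⟩))


/-- Let P and K be subgroups of a finite group with P a p-group normalizing K and K of order prime to p. Then the number of P-invariant real-valued irreducible complex characters of K equals the number of conjugacy classes of K that are real (closed under inversion) and P-invariant. Moreover, if every real-valued irreducible character of K is P-invariant, then every real element of K (one conjugate in K to its inverse) is conjugate in K to an element centralized by P. -/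
theorem result {G : Type*} [Group G] [Finite G] (p : ℕ) [Fact p.Prime] (P K : Subgroup G) (hP : IsPGroup p ↥P) (hK : ¬ p ∣ Nat.card ↥K) (hPK : P ≤ Subgroup.normalizer (K : Set G)) : Nat.card {θ : Cfsg.IrrCharacter ↥K // (∀ k : ↥K, ((θ : ↥K → ℂ) k).im = 0) ∧ (∀ x ∈ P, ∀ k k' : ↥K, (k' : G) = x * (k : G) * x⁻¹ → (θ : ↥K → ℂ) k' = (θ : ↥K → ℂ) k)} = Nat.card {c : ConjClasses ↥K // (∀ k : ↥K, ConjClasses.mk k = c → IsConj k k⁻¹) ∧ ∀ k : ↥K, ConjClasses.mk k = c → ∀ x ∈ P, ∀ k' : ↥K, (k' : G) = x * (k : G) * x⁻¹ → ConjClasses.mk k' = c} ∧ ((∀ θ : Cfsg.IrrCharacter ↥K, (∀ k : ↥K, ((θ : ↥K → ℂ) k).im = 0) → (∀ x ∈ P, ∀ k k' : ↥K, (k' : G) = x * (k : G) * x⁻¹ → (θ : ↥K → ℂ) k' = (θ : ↥K → ℂ) k)) → ∀ k : ↥K, IsConj k k⁻¹ → ∃ k' : ↥K, IsConj k k' ∧ ∀ x ∈ P, x * (k' : G) * x⁻¹ = (k' : G)) := by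
  classical
  have hN := nrm_of_le_normalizer hPK
  have hs : Group.IsSolvable P := by
    have := hP.isNilpotent
    infer_instance
  have hc : (Nat.card K).Coprime (Nat.card P) := by
    obtain ⟨n, hn⟩ := IsPGroup.iff_card.1 hP
    rw [hn]
    exact (((Fact.out : p.Prime).coprime_iff_not_dvd.2 hK).symm).pow_right n
  have hg := glaub_pgroup hP hN hK
  have h1 : Nat.card {θ : Cfsg.IrrCharacter ↥K // (∀ k : ↥K, ((θ : ↥K → ℂ) k).im = 0) ∧ (∀ x ∈ P, ∀ k k' : ↥K, (k' : G) = x * (k : G) * x⁻¹ → (θ : ↥K → ℂ) k' = (θ : ↥K → ℂ) k)} = Nat.card {c : ConjClasses ↥K // (∀ k : ↥K, ConjClasses.mk k = c → IsConj k k⁻¹) ∧ ∀ k : ↥K, ConjClasses.mk k = c → ∀ x ∈ P, ∀ k' : ↥K, (k' : G) = x * (k : G) * x⁻¹ → ConjClasses.mk k' = c} := by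
    refine (card_irrCharacter_subtype _ (fun φ => star φ = φ ∧ InvOn P K φ) fun φ hφ =>
      and_congr (real_iff hφ) (invOn_iff_subtype hN)).trans (Eq.trans ?_
        (card_conjClasses_invariant hN hc (Or.inl hs) _
          (fun C => ∀ g, ConjClasses.mk g = C → IsConj g g⁻¹) (fun g h s hs => ?_)
            fun c => ?_).symm)
    · rw [← S0160.result, card_irrCharacter_subtype _ (fun φ => star φ = φ) fun φ hφ => real_iff hφ]
      refine hg.card_filter _ _ (fun _ _ h => h.2) fun χ hχ hi β hβ hm => ?_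
      have hχ' := irrOn_of_mem hχ
      have e := mult_star (hχ'.charOn.mono inf_le_left) (irrOn_of_mem hβ).charOn
      refine ⟨fun h => hg.unique hχ' hi (star_mem_Irr hβ) hβ (by rwa [← h.1, e]) hm,
        fun h => ⟨hg.inj _ (star_mem_Irr hχ) _ hχ hi.star hi β hβ (by rwa [← h, e]) hm, hi⟩⟩
    · obtain ⟨k, hk⟩ := isConj_iff.1 (ConjClasses.mk_eq_mk_iff_isConj.1
        (h.2 g rfl s hs ⟨_, hN s hs g g.2⟩ rfl).symm)
      exact ⟨k, k.2, (congrArg Subtype.val hk).symm⟩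
    · rw [isConj_inv_iff, isConj_inv_iff]
      refine ⟨fun h => ?_, fun h => ⟨?_, fun g h s hs g' e => ?_⟩⟩
      · obtain ⟨k, hk⟩ := isConj_iff.1 h.1
        have hk' : (k : G) * c * (k : G)⁻¹ = (c⁻¹ : ↥(K ⊓ centralizer (P : Set G))) :=
          congrArg Subtype.val hk
        obtain ⟨x, hx, e'⟩ := exists_centralizer_conj hPK hc.symm (Or.inl hs) c.2.2 k.2
          (hk' ▸ (c⁻¹).2.2)
        exact isConj_iff.2 ⟨⟨x, hx⟩, Subtype.ext (e'.trans hk')⟩
      · exact (inclusion (inf_le_left : K ⊓ centralizer (P : Set G) ≤ K)).map_isConj h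
      · obtain ⟨k, hk⟩ := isConj_iff.1 (ConjClasses.mk_eq_mk_iff_isConj.1 h.symm)
        refine ConjClasses.mk_eq_mk_iff_isConj.2 (IsConj.symm (isConj_iff.2
          ⟨⟨_, hN s hs k k.2⟩, Subtype.ext ?_⟩))
        have h1 : (k : G) * c * (k : G)⁻¹ = g := congrArg Subtype.val hk
        have h2 := c.2.2 s⁻¹ (P.inv_mem hs)
        simp only [Subgroup.coe_mul, Subgroup.coe_inv, e, ← h1]
        calc s * k * s⁻¹ * c * (s * k * s⁻¹)⁻¹ = s * k * (s⁻¹ * c) * (s * k * s⁻¹)⁻¹ := by group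
          _ = s * (k * c * (k : G)⁻¹) * s⁻¹ := by rw [h2]; group
  refine ⟨h1, fun h g hg => ?_⟩
  rw [Nat.card_congr (Equiv.subtypeEquivRight fun θ => and_iff_left_of_imp (h θ)),
    S0160.result] at h1
  have h2 := (Nat.bijective_iff_injective_and_card (Subtype.map id fun _ h => h.1 :
    {c : ConjClasses ↥K // (∀ k : ↥K, ConjClasses.mk k = c → IsConj k k⁻¹) ∧ ∀ k : ↥K, ConjClasses.mk k = c → ∀ x ∈ P, ∀ k' : ↥K, (k' : G) = x * (k : G) * x⁻¹ → ConjClasses.mk k' = c} → {c : ConjClasses ↥K // ∀ k : ↥K, ConjClasses.mk k = c → IsConj k k⁻¹})).2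
      ⟨Subtype.map_injective _ Function.injective_id, h1.symm⟩
  obtain ⟨⟨c, h3⟩, h4⟩ := h2.2 ⟨ConjClasses.mk g, (isConj_inv_iff g).2 hg⟩
  obtain rfl : c = ConjClasses.mk g := congrArg Subtype.val h4
  obtain ⟨k, hk, h1⟩ := exists_conj_mem_of_le_mul hPK hc.symm (Or.inl hs)
    (centralizer {(g : G)}) fun s hs => by
      obtain ⟨k, e⟩ := isConj_iff.1 (ConjClasses.mk_eq_mk_iff_isConj.1
        (h3.2 g rfl s hs ⟨_, hN s hs g g.2⟩ rfl).symm)
      have e : (k : G) * g * (k : G)⁻¹ = s * g * s⁻¹ := congrArg Subtype.val e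
      refine ⟨k, k.2, Lib.PF.mem_cent'.2 ?_⟩
      calc (k : G)⁻¹ * s * g * ((k : G)⁻¹ * s)⁻¹ = (k : G)⁻¹ * (s * g * s⁻¹) * k := by group
        _ = g := by rw [← e]; group
  refine ⟨⟨k, hk⟩ * g * ⟨k, hk⟩⁻¹, isConj_iff.2 ⟨_, rfl⟩, fun s hs => ?_⟩
  have := Lib.PF.mem_cent.1 (h1 s hs)
  simp only [Subgroup.coe_mul, Subgroup.coe_inv]
  calc s * (k * g * k⁻¹) * s⁻¹ = k * (k⁻¹ * s * k * g) * k⁻¹ * s⁻¹ := by group
    _ = k * g * k⁻¹ := by rw [this]; group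

end Cfsg.Agent.S4911
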