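import Cfsg.Statements.S4916
import Cfsg.Agent.Lib.Small.BT
import Cfsg.Agent.Lib.Block2.Ker

set_option autoImplicit false
open Cfsg

namespace Cfsg.Agent.S4916

open Cfsg.Lib Cfsg.Lib.Clifford Cfsg.Lib.Char Cfsg.Lib.Block Cfsg.Lib.Block2 Finset Subgroup
open scoped commutatorElement

/-- Let G be a finite group, p a prime and M a maximal ideal of the algebraic integers containing p. Then the principal character is the only irreducible character of degree prime to p in the principal p-block of G if and only if p does not divide the order of G. -/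
theorem result {G : Type*} [Group G] [Finite G] (p : ℕ) [Fact p.Prime] (M : Ideal Cfsg.AlgInt) (hM : Cfsg.IsPModular p M) : (∀ χ : Cfsg.IrrCharacter G, χ ∈ Cfsg.principalBlock M G → ¬ p ∣ Cfsg.charDegree (χ : G → ℂ) → (χ : G → ℂ) = fun _ => (1 : ℂ)) ↔ ¬ p ∣ Nat.card G := by
  have := hM.2.1
  constructor
  · intro h hd
    obtain ⟨g, hg⟩ := exists_prime_orderOf_dvd_card' p hd
    obtain ⟨χ, h1, h2, h3, -⟩ := Small.exists_principal_not_dvd hM hM.1 (g := g) (by rw [hg])
    exact h2 (Subtype.ext (h χ h1 h3))
  · intro h χ hχ _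
    have h1 := blockOf_eq_singleton_of_not_dvd hM h (principalIrr G)
    have h2 : χ ∈ blockOf M (principalIrr G).1 := hχ
    rw [h1] at h2
    exact congrArg Subtype.val h2

end Cfsg.Agent.S4916
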