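import Cfsg.Statements.S4923
import Cfsg.Agent.Lib.Clifford.Count
import Cfsg.Agent.Lib.Char.Galois
import Cfsg.Agent.Lib.PGrp.TwoMax

set_option autoImplicit false
set_option linter.unusedSectionVars false
open Cfsg

namespace Cfsg.Agent.S4923

open Cfsg.Lib.Char Cfsg.Lib.Clifford Cfsg.Lib.PGrp Subgroup
open scoped IntermediateField

theorem mem_of_fixed (F : IntermediateField ℚ ℂ) [Algebra.IsAlgebraic ℚ F] {α : ℂ} (hα : IsIntegral ℚ α)
    (h : ∀ σ : ℂ ≃+* ℂ, (∀ x ∈ F, σ x = x) → σ α = α) : α ∈ F := by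
  classical
  have hα' : IsIntegral F α := hα.tower_top
  have := IntermediateField.adjoin.finiteDimensional hα'
  have : Algebra.IsAlgebraic ℚ F⟮α⟯ := Algebra.IsAlgebraic.trans ℚ F _
  have hdeg : (minpoly F α).natDegree ≤ 1 := by
    rw [← Polynomial.card_rootSet_eq_natDegree (K := ℂ) (minpoly.irreducible hα').separable
      (IsAlgClosed.splits _), Fintype.card_le_one_iff]
    have key : ∀ x : (minpoly F α).rootSet ℂ, (x : ℂ) = α := fun x => by
      have hβ : x.1 ∈ (minpoly F α).aroots ℂ := by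
        rw [Polynomial.mem_aroots]
        exact ⟨minpoly.ne_zero hα', Polynomial.aeval_eq_zero_of_mem_rootSet x.2⟩
      set φ := (IntermediateField.algHomAdjoinIntegralEquiv F hα').symm ⟨_, hβ⟩
      obtain ⟨σ, hσ⟩ := exists_ringEquiv_extend (algebraMap F⟮α⟯ ℂ) φ.toRingHom
      refine Eq.trans ?_ (h σ fun y hy => (hσ (algebraMap F _ ⟨y, hy⟩)).trans (φ.commutes _))
      exact ((hσ (IntermediateField.AdjoinSimple.gen F α)).trans
        (IntermediateField.algHomAdjoinIntegralEquiv_symm_apply_gen F hα' ⟨_, hβ⟩)).symm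
    exact fun a b => Subtype.ext ((key a).trans (key b).symm)
  obtain ⟨q, hq⟩ := minpoly.natDegree_eq_one_iff.1 (le_antisymm hdeg (minpoly.natDegree_pos hα'))
  exact hq ▸ q.2

theorem map_eq_of_mem {S : Set ℂ} {α : ℂ} (σ : ℂ ≃+* ℂ) (h : ∀ s ∈ S, σ s = s)
    (hα : α ∈ IntermediateField.adjoin ℚ S) : σ α = α := by
  induction hα using IntermediateField.adjoin_induction with
  | mem x hx => exact h x hx
  | algebraMap x => exact map_ratCast σ x
  | add x y _ _ hx hy => rw [map_add, hx, hy]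
  | inv x _ hx => rw [map_inv₀, hx]
  | mul x y _ _ hx hy => rw [map_mul, hx, hy]

theorem adjoin_le {S T : Set ℂ} (hS : ∀ s ∈ S, IsIntegral ℚ s) (hT : ∀ s ∈ T, IsIntegral ℚ s)
    (h : ∀ σ : ℂ ≃+* ℂ, (∀ t ∈ T, σ t = t) → ∀ s ∈ S, σ s = s) :
    IntermediateField.adjoin ℚ S ≤ IntermediateField.adjoin ℚ T := by
  have := IntermediateField.isAlgebraic_adjoin hT
  rw [IntermediateField.adjoin_le_iff]
  exact fun s hs => @mem_of_fixed _ (by convert this; exacts [rfl, Subsingleton.elim _ _]) _ (hS s hs) fun σ hσ =>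
    h σ (fun t ht => hσ t (IntermediateField.subset_adjoin ℚ T ht)) s hs

section
variable {G : Type*} [Group G] [Finite G]

theorem fix_iff {g : G} {m k : ℕ} (hg : g ^ m = 1) (σ : ℂ ≃+* ℂ) (hσ : ∀ z : ℂ, z ^ m = 1 → σ z = z ^ k) :
    (∀ z ∈ {z : ℂ | ∃ χ : Cfsg.IrrCharacter G, (χ : G → ℂ) g = z}, σ z = z) ↔ IsConj g (g ^ k) := by
  have key : ∀ χ, IsIrrCharacter G χ → σ (χ g) = χ (g ^ k) := fun χ hχ =>
    hχ.isCharacter.isGeneralizedCharacter.map_eq_apply_pow (σ : ℂ →+* ℂ) hσ hg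
  constructor
  · exact fun h => isConj_of_forall_irr fun χ hχ => Or.inr ((key χ hχ).symm.trans (h _ ⟨⟨χ, hχ⟩, rfl⟩))
  · rintro h _ ⟨χ, rfl⟩
    rw [key _ χ.2, χ.2.isClassFunction.eq_of_isConj h]

theorem relIndex_two {a b : G} {m : ℕ} (ha : orderOf a = 2 ^ (m + 2)) (hG : ¬ 2 ^ (m + 4) ∣ Nat.card G)
    (hb : b ∈ normalizer (zpowers a : Set G)) (hb' : b ∉ centralizer (zpowers a : Set G)) :
    (centralizer (zpowers a : Set G)).relIndex (normalizer (zpowers a : Set G)) = 2 := by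
  have h1 : (centralizer (zpowers a : Set G)).relIndex (normalizer (zpowers a : Set G)) ∣ 2 ^ (m + 1) := by
    rw [relIndex, ← normalizerMonoidHom_ker, index_ker]
    refine (card_subgroup_dvd_card _).trans ?_
    rw [IsCyclic.card_mulAut, Nat.card_zpowers, ha, Nat.totient_prime_pow_succ Nat.prime_two]
    simp
  obtain ⟨j, -, hj⟩ := (Nat.dvd_prime_pow Nat.prime_two).1 h1
  have h2 : zpowers a ≤ centralizer (zpowers a : Set G) := le_centralizer _
  have h3 := card_dvd_of_le h2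
  rw [Nat.card_zpowers, ha] at h3
  have h4 := (centralizer (zpowers a : Set G)).relIndex_mul_index (centralizer_le_normalizer _)
  have h5 := (centralizer (zpowers a : Set G)).card_mul_index
  have h6 : 2 ^ (m + 2 + j) ∣ Nat.card G := by
    rw [← h5, ← h4, hj, pow_add]
    exact mul_dvd_mul h3 (dvd_mul_right _ _)
  have h7 : j ≤ 1 := by
    by_contra! h
    exact hG ((pow_dvd_pow 2 (by omega)).trans h6)
  have h8 : j ≠ 0 := by
    rintro rfl
    exact hb' (relIndex_eq_one.1 hj hb)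
  rw [hj, show j = 1 by omega, pow_one]

theorem mem_norm {a x : G} {k : ℕ} (h : x * a * x⁻¹ = a ^ k) : x ∈ normalizer (zpowers a : Set G) := by
  refine mem_normalizer_fintype fun y hy => ?_
  obtain ⟨i, rfl⟩ := mem_zpowers_iff.1 hy
  rw [← conj_zpow, h]
  exact zpow_mem (pow_mem (mem_zpowers a) k) i

theorem mem_cent {a x : G} : x ∈ centralizer (zpowers a : Set G) ↔ x * a * x⁻¹ = a := by
  rw [zpowers_eq_closure, centralizer_closure, mem_centralizer_singleton_iff, mul_inv_eq_iff_eq_mul]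

theorem fwd {a b : G} {m r : ℕ} (ha : orderOf a = 2 ^ (m + 2)) (hG : ¬ 2 ^ (m + 4) ∣ Nat.card G)
    (hb : b * a * b⁻¹ = a ^ r) (hne : a ^ r ≠ a) {ζ ε : ℂ} (hζ : IsPrimitiveRoot ζ (2 ^ (m + 2)))
    (hε : ε ^ 2 = 1) (hr : ζ ^ r = ε * ζ⁻¹) : 2 ∣ (centralizer ({a} : Set G)).index ∧
    IntermediateField.adjoin ℚ {z : ℂ | ∃ χ : Cfsg.IrrCharacter G, (χ : G → ℂ) a = z} =
      IntermediateField.adjoin ℚ ({ζ + ε * ζ⁻¹} : Set ℂ) := by
  have h2 := relIndex_two ha hG (mem_norm hb) (fun h => hne (hb.symm.trans (mem_cent.1 h)))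
  have hz0 : ζ ≠ 0 := hζ.ne_zero (by positivity)
  refine ⟨?_, ?_⟩
  · rw [← centralizer_closure, ← zpowers_eq_closure, ← relIndex_mul_index (centralizer_le_normalizer _), h2]
    exact dvd_mul_right _ _
  have powi : ∀ i j : ℕ, a ^ i = a ^ j ↔ ζ ^ i = ζ ^ j := fun i j => by
    rw [pow_eq_pow_iff_modEq, ha, hζ.eq_orderOf]
    exact (isOfFinOrder_iff_pow_eq_one.2 ⟨2 ^ (m + 2), by positivity, hζ.pow_eq_one⟩).pow_eq_pow_iff_modEq.symm
  have key : ∀ σ : ℂ ≃+* ℂ, (∀ z ∈ {z : ℂ | ∃ χ : Cfsg.IrrCharacter G, (χ : G → ℂ) a = z}, σ z = z) ↔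
      ∀ z ∈ ({ζ + ε * ζ⁻¹} : Set ℂ), σ z = z := fun σ => by
    obtain ⟨k, -, hk⟩ := exists_pow_of_ringHom (σ : ℂ →+* ℂ) (n := 2 ^ (m + 2)) (by positivity)
    have e1 : σ ζ = ζ ^ k := hk ζ hζ.pow_eq_one
    have e2 : σ ε = ε := by
      rcases sq_eq_one_iff.1 hε with rfl | rfl <;> simp
    have hk0 : ζ ^ k ≠ 0 := pow_ne_zero _ hz0
    rw [fix_iff (by rw [← ha, pow_orderOf_eq_one]) σ hk]
    simp only [Set.mem_singleton_iff, forall_eq, map_add, map_mul, map_inv₀, e1, e2]
    trans ζ ^ k = ζ ∨ ζ ^ k = ε * ζ⁻¹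
    · rw [← hr, ← powi, ← pow_one ζ, ← pow_mul, one_mul, ← powi, pow_one]
      constructor
      · intro h
        obtain ⟨x, hx⟩ := isConj_iff.1 h
        by_cases hc : x ∈ centralizer (zpowers a : Set G)
        · exact Or.inl (hx.symm.trans (mem_cent.1 hc))
        · have := (mul_mem_iff_of_index_two h2 (a := ⟨b, mem_norm hb⟩⁻¹) (b := ⟨x, mem_norm hx⟩)).2 (by
            rw [inv_mem_iff, mem_subgroupOf, mem_subgroupOf]
            exact iff_of_false (fun h => hne (hb.symm.trans (mem_cent.1 h))) hc)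
          have h3 : b⁻¹ * x * a * (b⁻¹ * x)⁻¹ = a := mem_cent.1 this
          right
          rw [← hx, ← hb]
          nth_rewrite 2 [← h3]
          group
      · rintro (h | h)
        · rw [h]
        · rw [h, ← hb]; exact isConj_iff.2 ⟨b, rfl⟩
    · constructor
      · rintro (h | h)
        · rw [h]
        · rw [h, mul_inv, inv_inv, ← mul_assoc, mul_inv_cancel₀ (by rintro rfl; simp at hε), one_mul, add_comm]
      · intro h
        have : (ζ ^ k - ζ) * (ζ ^ k - ε * ζ⁻¹) = 0 := by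
          field_simp at h ⊢
          linear_combination h
        simpa [sub_eq_zero] using this
  have i1 : ∀ z ∈ {z : ℂ | ∃ χ : Cfsg.IrrCharacter G, (χ : G → ℂ) a = z}, IsIntegral ℚ z := by
    rintro _ ⟨χ, rfl⟩
    exact (χ.2.isCharacter.isIntegral a).tower_top
  have i2 : ∀ z ∈ ({ζ + ε * ζ⁻¹} : Set ℂ), IsIntegral ℚ z := by
    rintro _ rfl
    have := (hζ.isIntegral (by positivity)).tower_top (A := ℚ)
    rw [← hr]
    exact this.add (this.pow r)
  exact le_antisymm (adjoin_le i1 i2 fun σ => (key σ).2) (adjoin_le i2 i1 fun σ => (key σ).1)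

end

/-- Let G be a finite group with Sylow 2-subgroup P of order 2^n ≥ 8, and let ζ be a primitive 2^(n−1)-th root of unity in ℂ. Then the commutator subgroup of P has index 4 in P if and only if there is an element g of P whose conjugacy class in G has even size and such that the field generated over ℚ by the values at g of all irreducible complex characters of G equals ℚ(ζ + ζ⁻¹) or ℚ(ζ − ζ⁻¹). -/
theorem result {G : Type*} [Group G] [Finite G] (P : Sylow 2 G) (n : ℕ) (hn : 3 ≤ n) (hP : Nat.card P = 2 ^ n) (ζ : ℂ) (hζ : IsPrimitiveRoot ζ (2 ^ (n - 1))) :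
    (commutator ↥P).index = 4 ↔
      ∃ g : G, g ∈ (P : Subgroup G) ∧ 2 ∣ (Subgroup.centralizer ({g} : Set G)).index ∧
        (IntermediateField.adjoin ℚ {z : ℂ | ∃ χ : Cfsg.IrrCharacter G, (χ : G → ℂ) g = z} = IntermediateField.adjoin ℚ ({ζ + ζ⁻¹} : Set ℂ) ∨
          IntermediateField.adjoin ℚ {z : ℂ | ∃ χ : Cfsg.IrrCharacter G, (χ : G → ℂ) g = z} = IntermediateField.adjoin ℚ ({ζ - ζ⁻¹} : Set ℂ)) := by
  obtain ⟨m, rfl⟩ : ∃ m, n = m + 3 := ⟨n - 3, by omega⟩
  rw [show m + 3 - 1 = m + 2 from rfl] at hζ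
  have hz0 : ζ ≠ 0 := hζ.ne_zero (by positivity)
  have hh : ζ ^ 2 ^ (m + 1) = -1 := (hζ.pow (by positivity) (pow_succ 2 (m + 1))).eq_neg_one_of_two_right
  constructor
  · intro h
    obtain ⟨a, b, H⟩ := exists_max2_of_index_commutator hP h
    have ha : orderOf (a : G) = 2 ^ (m + 2) := by rw [Subgroup.orderOf_coe, H.ord]
    have hG : ¬ 2 ^ (m + 4) ∣ Nat.card G := fun hd => P.not_dvd_index (by
      rw [← (P : Subgroup G).card_mul_index, show Nat.card (P : Subgroup G) = 2 ^ (m + 3) from hP, pow_succ] at hd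
      exact Nat.dvd_of_mul_dvd_mul_left (by positivity) hd)
    have hm : 4 ≤ 2 ^ (m + 2) := Nat.pow_le_pow_right (n := 2) (i := 2) (by norm_num) (by omega)
    have c1 : b * a * b⁻¹ = a⁻¹ → 2 ∣ (centralizer ({(a : G)} : Set G)).index ∧
        IntermediateField.adjoin ℚ {z : ℂ | ∃ χ : Cfsg.IrrCharacter G, (χ : G → ℂ) a = z} =
          IntermediateField.adjoin ℚ ({ζ + ζ⁻¹} : Set ℂ) := fun e => by
      have e1 : (a : G) ^ (2 ^ (m + 2) - 1) = (a : G)⁻¹ := by
        rw [eq_inv_iff_mul_eq_one, ← pow_succ, Nat.sub_add_cancel (by omega), ← ha, pow_orderOf_eq_one]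
      have := fwd (b := (b : G)) (r := 2 ^ (m + 2) - 1) ha hG ((congrArg Subtype.val e).trans e1.symm) (fun e2 => by
        have := pow_injOn_Iio_orderOf (x := (a : G)) (x₁ := 2 ^ (m + 2) - 1) (x₂ := 1)
          (by rw [ha, Set.mem_Iio]; omega) (by rw [ha, Set.mem_Iio]; omega) (by simpa using e2)
        omega) hζ (ε := 1) (by simp) (by
          rw [eq_mul_inv_iff_mul_eq₀ hz0, ← pow_succ, Nat.sub_add_cancel (by omega), hζ.pow_eq_one])
      rwa [one_mul] at this
    rcases H.rel with ⟨-, e⟩ | ⟨-, e⟩ | ⟨h1, -, e⟩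
    · exact ⟨a, a.2, (c1 e).1, Or.inl (c1 e).2⟩
    · exact ⟨a, a.2, (c1 e).1, Or.inl (c1 e).2⟩
    · have hm2 : 4 ≤ 2 ^ (m + 1) := Nat.pow_le_pow_right (n := 2) (i := 2) (by norm_num) (by omega)
      have := fwd (b := (b : G)) (r := 2 ^ (m + 1) - 1) ha hG (congrArg Subtype.val e) (fun e2 => by
        have := pow_injOn_Iio_orderOf (x := (a : G)) (x₁ := 2 ^ (m + 1) - 1) (x₂ := 1)
          (by rw [ha, Set.mem_Iio, pow_succ 2 (m + 1)]; omega) (by rw [ha, Set.mem_Iio]; omega) (by simpa using e2)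
        omega) hζ (ε := -1) (by simp) (by
          rw [eq_mul_inv_iff_mul_eq₀ hz0, ← pow_succ, Nat.sub_add_cancel (by omega), hh])
      rw [neg_one_mul, ← sub_eq_add_neg] at this
      exact ⟨a, a.2, this.1, Or.inr this.2⟩
  · rintro ⟨g, hg, h2, hF⟩
    have hna : ¬ (P : Subgroup G) ≤ centralizer ({g} : Set G) := fun h =>
      P.not_dvd_index (h2.trans (index_dvd_of_le h))
    have hna' : ∃ x y : (P : Subgroup G), x * y ≠ y * x := by
      by_contra! h
      exact hna fun x hx => mem_centralizer_singleton_iff.2 (congrArg Subtype.val (h ⟨x, hx⟩ ⟨g, hg⟩))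
    have hord : ∀ x : (P : Subgroup G), ∃ j ≤ m + 2, orderOf x = 2 ^ j := fun x => by
      obtain ⟨j, hj, e⟩ := (Nat.dvd_prime_pow Nat.prime_two).1 (hP ▸ orderOf_dvd_natCard x)
      refine ⟨j, Nat.le_of_lt_succ (hj.lt_of_ne ?_), e⟩
      rintro rfl
      have := isCyclic_of_orderOf_eq_card x (e.trans hP.symm)
      obtain ⟨u, v, huv⟩ := hna'
      exact huv (this.isMulCommutative.is_comm.comm u v)
    have hidx : ∀ x : (P : Subgroup G), orderOf x = 2 ^ (m + 2) → (zpowers x).index = 2 := fun x hx => by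
      have := (zpowers x).card_mul_index
      rw [Nat.card_zpowers, hx, hP, pow_succ 2 (m + 2)] at this
      exact Nat.eq_of_mul_eq_mul_left (by positivity) this
    rcases Nat.eq_zero_or_pos m with rfl | hm
    · have : ∃ x : (P : Subgroup G), x * x ≠ 1 := by
        by_contra! h
        obtain ⟨u, v, huv⟩ := hna'
        apply huv
        rw [eq_inv_of_mul_eq_one_left (h (u * v)), mul_inv_rev, ← eq_inv_of_mul_eq_one_left (h u),
          ← eq_inv_of_mul_eq_one_left (h v)]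
      obtain ⟨x, hx⟩ := this
      obtain ⟨j, hj, e⟩ := hord x
      have hj2 : j = 2 := by
        by_contra hne
        exact hx (by rw [← pow_two, ← orderOf_dvd_iff_pow_eq_one, e]; exact pow_dvd_pow 2 (by omega : j ≤ 1))
      subst hj2
      obtain ⟨b, H | H⟩ := cyclic_index_two (m := 0) e (hidx x e) hna'
      · exact H.index_commutator
      · omega
    obtain ⟨j, hj, e⟩ := hord ⟨g, hg⟩
    have hgm : g ^ 2 ^ (m + 2) = 1 := by
      rw [← orderOf_dvd_iff_pow_eq_one, show orderOf g = 2 ^ j from (Subgroup.orderOf_coe (⟨g, hg⟩ : (P : Subgroup G))).trans e]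
      exact pow_dvd_pow 2 hj
    obtain ⟨σ, hσ⟩ := exists_ringEquiv_pow (n := 2 ^ (m + 2)) (k := 1 + 2 ^ (m + 1)) (by positivity)
      (Nat.Coprime.pow_right _ (Nat.coprime_two_right.2 (odd_one.add_even (Nat.even_pow.2 ⟨even_two, by omega⟩))))
    have hs : σ ζ = -ζ := by rw [hσ ζ hζ.pow_eq_one, pow_add, hh]; ring
    have h4 : ζ ^ 4 ≠ 1 := fun h => by
      have := Nat.le_of_dvd (by norm_num) (hζ.dvd_of_pow_eq_one 4 h)
      have h8 : 8 ≤ 2 ^ (m + 2) := Nat.pow_le_pow_right (n := 2) (i := 3) (by norm_num) (by omega)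
      omega
    have hnc : ¬ IsConj g (g ^ (1 + 2 ^ (m + 1))) := fun hc => by
      have hfix := (fix_iff hgm σ hσ).2 hc
      rcases hF with hF | hF
      · have := map_eq_of_mem σ hfix (hF ▸ IntermediateField.subset_adjoin ℚ _ rfl : ζ + ζ⁻¹ ∈ _)
        rw [map_add, map_inv₀, hs] at this
        apply h4
        field_simp at this
        linear_combination (-(ζ ^ 2 - 1) / 2) * this
      · have := map_eq_of_mem σ hfix (hF ▸ IntermediateField.subset_adjoin ℚ _ rfl : ζ - ζ⁻¹ ∈ _)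
        rw [map_sub, map_inv₀, hs] at this
        apply h4
        field_simp at this
        linear_combination (-(ζ ^ 2 + 1) / 2) * this
    have hj2 : j = m + 2 := by
      by_contra hne
      apply hnc
      have : g ^ 2 ^ (m + 1) = 1 := by
        rw [← orderOf_dvd_iff_pow_eq_one, show orderOf g = 2 ^ j from (Subgroup.orderOf_coe (⟨g, hg⟩ : (P : Subgroup G))).trans e]
        exact pow_dvd_pow 2 (by omega)
      rw [pow_add, this, pow_one, mul_one]
    subst hj2
    obtain ⟨b, H | H⟩ := cyclic_index_two e (hidx _ e) hna'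
    · exact H.index_commutator
    · exact absurd (isConj_iff.2 ⟨(b : G), congrArg Subtype.val H.2.2.2⟩) hnc

end Cfsg.Agent.S4923
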