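import Cfsg.Statements.S4931
import Cfsg.Agent.Lib.Clifford.PBlk

set_option autoImplicit false
open Cfsg

namespace Cfsg.Agent.S4931

open Cfsg.Lib Cfsg.Lib.Clifford Cfsg.Lib.Char Cfsg.Lib.Block Cfsg.Lib.Block2 Finset Subgroup
open scoped commutatorElement

/-- Let G be a finite group, p a prime and P a Sylow p-subgroup of G with normalizer N. Then every irreducible complex character of N of degree not divisible by p is the restriction of an irreducible character of G if and only if there is a normal subgroup K of G with KN = G and K ∩ N = 1. -/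
theorem result {G : Type*} [Group G] [Finite G] (p : ℕ) [Fact p.Prime] (P : Sylow p G) :
    (∀ θ : Cfsg.IrrCharacter ↥(Subgroup.normalizer ((P : Subgroup G) : Set G)), ¬ p ∣ Cfsg.charDegree (θ : ↥(Subgroup.normalizer ((P : Subgroup G) : Set G)) → ℂ) →
        ∃ χ : Cfsg.IrrCharacter G, ∀ x : ↥(Subgroup.normalizer ((P : Subgroup G) : Set G)), (χ : G → ℂ) x = (θ : ↥(Subgroup.normalizer ((P : Subgroup G) : Set G)) → ℂ) x) ↔
      ∃ K : Subgroup G, K.Normal ∧ K ⊔ Subgroup.normalizer ((P : Subgroup G) : Set G) = ⊤ ∧ K ⊓ Subgroup.normalizer ((P : Subgroup G) : Set G) = ⊥ := by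
  classical
  obtain ⟨T, hT⟩ : ∃ T, T = (P : Subgroup G) := ⟨_, rfl⟩
  have hTs : Transfer.SylowIn p T ⊤ := hT ▸ Transfer.sylowIn_top P
  obtain ⟨N, hN⟩ : ∃ N, N = normalizer (T : Set G) := ⟨_, rfl⟩
  rw [← hT, ← hN]
  have hTN : T ≤ N := hN ▸ le_normalizer
  have hn : Nrm N T := nrm_of_le_normalizer hN.le
  have hi : ¬ p ∣ T.relIndex N := (hTs.mono hTN le_top).3
  constructor
  · intro h
    have h' : ∀ θ ∈ Irr N, ¬ p ∣ charDegree θ → ∃ χ ∈ Irr (⊤ : Subgroup G), ∀ x ∈ N, χ x = θ x := by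
      intro θ hθ hd
      obtain ⟨χ, e⟩ := h ⟨res N θ, irrOn_of_mem hθ⟩ hd
      exact ⟨χ.1, mem_Irr_top.2 χ.2, fun x hx => e ⟨x, hx⟩⟩
    have h1 : ∀ lam ∈ IrrKer T ⁅T, T⁆, ∃ χ ∈ Irr (⊤ : Subgroup G), IrrOn N χ ∧ dot T χ lam ≠ 0 := by
      intro lam hl
      have hl' := linOn_of_mem_IrrKer le_rfl hl
      obtain ⟨θ, hθ, hd⟩ := hl'.irrOn.exists_over hTN
      have h2 := deg_dvd_relIndex_mul hTN hn (irrOn_of_mem hθ) hl'.irrOn hd
      rw [hl'.deg, mul_one] at h2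
      obtain ⟨χ, hχ, e⟩ := h' θ hθ fun h => hi (h.trans h2)
      exact ⟨χ, hχ, (irrOn_of_mem hθ).congr fun x hx => (e x hx).symm,
        by rwa [dot_congr_left fun x hx => e x (hTN hx)]⟩
    obtain ⟨L, hL, hL1, hL2⟩ := exists_ker_inf_sylow hTN hn h1
    have h2 : ∀ θ ∈ IrrKer N T, ∃ χ ∈ Irr (⊤ : Subgroup G), ∀ x ∈ N, χ x = θ x := by
      intro θ hθ
      have hθ' := irrOn_of_mem (IrrKer_subset hθ)
      have h2 := deg_dvd_relIndex_mul hTN hn hθ' (irrOn_one _)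
        ((hθ'.triv_iff hTN hn).1 (mem_IrrKer.1 hθ).2)
      rw [(linOn_one ⊤).deg, mul_one] at h2
      exact h' θ (IrrKer_subset hθ) fun h => hi (h.trans h2)
    obtain ⟨M₀, hM, hM1, hM2⟩ := exists_ker_of_ext hTN hn h2
    have h3 := pnil_of_kernels P M₀ L (hT ▸ hM1) (by
      rw [← hT, ← hN]; exact hM2.trans le_sup_left) (hT ▸ hL1) (hT ▸ hL2)
    have := Transfer.resOf_normal (p := p) M₀
    refine ⟨_, this, ?_, ?_⟩
    · have h4 := (hTs.mono hM1 le_top).frattini_sup le_top le_normalizer_of_normal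
      rw [top_inf_eq, ← hN, ← (hTs.mono hM1 le_top).resOf_sup, sup_assoc, sup_eq_right.2 hTN] at h4
      exact h4
    · rw [eq_bot_iff, ← h3.disjoint hTs.isPGroup]
      exact fun x hx => ⟨hM2 ⟨Transfer.resOf_le _ hx.1, hx.2⟩, hx.1⟩
  · rintro ⟨K, hK, h1, h2⟩ θ -
    have hc : K.IsComplement' N := Subgroup.isComplement'_of_disjoint_and_mul_eq_univ
      (disjoint_iff.2 h2) (by rw [← Subgroup.normal_mul, h1]; rfl)
    let f : G →* N := hc.symm.QuotientMulEquiv.toMonoidHom.comp (QuotientGroup.mk' K)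
    have hf : ∀ x : N, f x = x := fun x => hc.symm.QuotientMulEquiv.apply_symm_apply x
    exact ⟨⟨fun g => θ.1 (f g), θ.2.comp f fun x => ⟨x, hf x⟩⟩, fun x => by simp only [hf]⟩

end Cfsg.Agent.S4931
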