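import Cfsg.Statements.S4955
import Cfsg.Agent.Lib.Clifford.PBlk

set_option autoImplicit false
open Cfsg

namespace Cfsg.Agent.S4955

open Cfsg.Lib Cfsg.Lib.Clifford Cfsg.Lib.Char Cfsg.Lib.Block Cfsg.Lib.Block2 Finset Subgroup
open scoped commutatorElement

/-- Let X be a finite group with an abelian normal Sylow p-subgroup V (a normal p-subgroup of index prime to p in which any two elements commute), and let G be a complement to V in X. Then for every v in V, writing C for the centralizer of v in G, the number k(X) of conjugacy classes of X satisfies k(X) ≤ (order of C)·(order of V) − ((order of G) − k(G)); the statement is written with the subtracted term moved to the left. In particular, if some v in V is centralized by no nonidentity element of G, then k(X) is at most the order of V. -/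
theorem result {X : Type*} [Group X] [Finite X] (p : ℕ) [Fact p.Prime] (V : Subgroup X) [V.Normal] (hVp : IsPGroup p V) (hidx : ¬ p ∣ V.index) (hab : ∀ a ∈ V, ∀ b ∈ V, a * b = b * a) (G : Subgroup X) (hGV : Subgroup.IsComplement' V G) (v : X) (hv : v ∈ V) : Nat.card (ConjClasses X) + Nat.card G ≤ Nat.card ↥(G ⊓ Subgroup.centralizer ({v} : Set X)) * Nat.card V + Nat.card (ConjClasses G) := by
  classical
  have hN := nrm_of_normal ⊤ V
  have h1 := sum_irr_normSq (H := ⊤) (Subgroup.mem_top v)
  have h2 : Nat.card ↥(⊤ ⊓ centralizer ({v} : Set X)) =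
      Nat.card ↥(G ⊓ centralizer ({v} : Set X)) * Nat.card V := by
    have hV : V ≤ centralizer ({v} : Set X) := fun a ha =>
      mem_centralizer_singleton_iff.2 (hab a ha v hv)
    have := card_mul_card_of_prod (H := V) (M := G ⊓ centralizer ({v} : Set X))
      (K := centralizer ({v} : Set X)) hV inf_le_right fun k hk => by
        obtain ⟨⟨a, b⟩, e⟩ := hGV.2 k
        refine ⟨a, a.2, b, ⟨b.2, ?_⟩, e.symm⟩
        have := Subgroup.mul_mem _ (Subgroup.inv_mem _ (hV a.2)) hk
        rwa [← e, inv_mul_cancel_left] at this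
    rw [← inf_assoc, hGV.disjoint.eq_bot, bot_inf_eq, Subgroup.card_bot, one_mul] at this
    rw [top_inf_eq, ← this, mul_comm]
  have h3 : (IrrKer ⊤ V).card = Nat.card (ConjClasses G) := by
    rw [card_IrrKer_top, card_conjClasses_congr hGV.symm.QuotientMulEquiv]
  have h4 : ∑ χ ∈ IrrKer ⊤ V, ‖χ v‖ ^ 2 = Nat.card G := by
    rw [← hGV.symm.index_eq_card, ← relIndex_top_right, ← sum_IrrKer_deg_sq le_top hN]
    push_cast
    refine sum_congr rfl fun χ hχ => ?_
    rw [(mem_IrrKer.1 hχ).2 v hv, (irrOn_of_mem (IrrKer_subset hχ)).one_eq, Complex.norm_natCast]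
  have h5 := (card_le_sum_normSq_irr (s := Irr ⊤ \ IrrKer ⊤ V) sdiff_subset (fun σ χ hχ => by
    rw [Finset.mem_sdiff, mem_IrrKer] at hχ ⊢
    exact ⟨map_mem_Irr hχ.1 σ, fun h => hχ.2 ⟨hχ.1, (triv_map_iff σ).1 h.2⟩⟩)
    (Subgroup.mem_top v) (fun χ hχ => by
      have hi := irrOn_of_mem (Finset.mem_sdiff.1 hχ).1
      refine hi.charOn.apply_ne_zero_of_not_dvd (p := p) (fun h => hidx (h.trans ?_))
        (Subgroup.mem_top v) (exists_orderOf_eq_pow hVp hv)
      rw [← relIndex_top_right]
      exact hi.deg_dvd_relIndex_of_comm le_top hN hab)).1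
  rw [← sum_sdiff (IrrKer_subset (N := V)), h2, h4] at h1
  have h6 := card_sdiff_add_card_eq_card (IrrKer_subset (K := ⊤) (N := V))
  rw [card_Irr_top, card_irrCharacter_eq, h3] at h6
  rw [← h6]
  have : ((Irr ⊤ \ IrrKer ⊤ V).card + Nat.card G : ℝ) ≤
    (Nat.card ↥(G ⊓ centralizer ({v} : Set X)) * Nat.card V : ℕ) := by linarith
  have h7 : (Irr ⊤ \ IrrKer ⊤ V).card + Nat.card G ≤
    Nat.card ↥(G ⊓ centralizer ({v} : Set X)) * Nat.card V := by exact_mod_cast this
  omega

end Cfsg.Agent.S4955
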