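import Cfsg.Statements.S4956
import Cfsg.Agent.Lib.Clifford.Fixed
import Cfsg.Agent.Lib.Clifford.PBlk
import Cfsg.Agent.Lib.Coprime.Basic

set_option autoImplicit false
open Cfsg

namespace Cfsg.Agent.S4956

open Cfsg.Lib Cfsg.Lib.Clifford Cfsg.Lib.Char Finset Subgroup ComplexConjugate
open scoped commutatorElement IsMulCommutative

open Classical in
theorem card_sol {X : Type*} [Group X] [Finite X] (V : Subgroup X) [hV : V.Normal]
    (hab : ∀ a ∈ V, ∀ b ∈ V, a * b = b * a) {G : Subgroup X}
    (hcop : (Nat.card V).Coprime (Nat.card G)) {a b : X} (ha : a ∈ G) (hb : b ∈ G) :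
    ∑ u ∈ elems V, ∑ w ∈ elems V, (if u * (a * w * a⁻¹) = w * (b * u * b⁻¹) then 1 else 0 : ℕ) =
      Nat.card V * Nat.card ↥(V ⊓ (centralizer {a} ⊓ centralizer {b})) := by
  have : IsMulCommutative V := ⟨⟨fun x y => Subtype.ext (hab _ x.2 _ y.2)⟩⟩
  have := Fintype.ofFinite V
  let c : X → V →* V := fun g => (MulAut.conjNormal g : MulAut V).toMonoidHom
  let f : V × V →* V := ((MonoidHom.id V / c b).coprod (c a / MonoidHom.id V))
  have hf : ∀ u w : V, f (u, w) = u / c b u * (c a w / w) := fun u w => rfl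
  have hc : ∀ g (v : V), (c g v : X) = g * v * g⁻¹ := fun g v => rfl
  have hmul : ∀ g h (v : V), c (g * h) v = c g (c h v) := fun g h v =>
    Subtype.ext (by simp [hc, mul_assoc])
  have h1 : ∑ u ∈ elems V, ∑ w ∈ elems V,
      (if u * (a * w * a⁻¹) = w * (b * u * b⁻¹) then 1 else 0 : ℕ) = Nat.card f.ker := by
    simp only [sum_elems]
    rw [← Fintype.sum_prod_type', sum_boole, Nat.cast_id, ← Fintype.card_subtype,
      ← Nat.card_eq_fintype_card]
    refine Nat.card_congr (Equiv.subtypeEquivRight fun p => ?_)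
    rw [MonoidHom.mem_ker, hf, div_mul_div_comm, div_eq_one, mul_comm (c b p.1), Subtype.ext_iff]
    rfl
  obtain ⟨A, hA⟩ : ∃ A, A = closure ({a, b} : Set X) := ⟨_, rfl⟩
  have hAG : A ≤ G := by
    rw [hA, closure_le]
    rintro _ (rfl | rfl) <;> assumption
  have h2 := Coprime.card_eq_card_centralizer_mul_card_commutator (A := A) (V := V)
    le_normalizer_of_normal (hcop.symm.coprime_dvd_left (card_dvd_of_le hAG))
  have h3 : centralizer (A : Set X) = centralizer {a} ⊓ centralizer {b} := by
    rw [hA, centralizer_closure]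
    ext x
    simp [mem_centralizer_iff]
  have hmem : ∀ g (v : V), ((v / c g v : V) : X) = ⁅(v : X), g⁆ := fun g v => by
    simp [hc, commutatorElement_def, div_eq_mul_inv, mul_assoc]
  have h4 : f.range.map V.subtype = ⁅V, A⁆ := by
    refine le_antisymm ?_ (commutator_le.2 fun v hv g hg => ?_)
    · rintro _ ⟨_, ⟨⟨u, w⟩, rfl⟩, rfl⟩
      rw [hf, ← inv_div w, Subgroup.coe_subtype, Subgroup.coe_mul, Subgroup.coe_inv, hmem, hmem]
      exact Subgroup.mul_mem _ (commutator_mem_commutator u.2 (hA ▸ subset_closure (by simp)))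
        (Subgroup.inv_mem _ (commutator_mem_commutator w.2 (hA ▸ subset_closure (by simp))))
    · suffices h : ∀ v : V, v / c g v ∈ f.range from ⟨_, h ⟨v, hv⟩, hmem g _⟩
      rw [hA] at hg
      induction hg using closure_induction with
      | mem x hx =>
        rcases hx with rfl | rfl
        · exact fun v => ⟨(1, v⁻¹), by rw [hf]; simp [div_eq_mul_inv, mul_comm]⟩
        · exact fun v => ⟨(v, 1), by rw [hf]; simp⟩
      | one =>
        intro v
        rw [show c 1 v = v from Subtype.ext (by simp [hc]), div_self']; exact f.range.one_mem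
      | mul x y _ _ hx hy =>
        intro v
        rw [hmul, ← div_mul_div_cancel v (c y v)]; exact f.range.mul_mem (hy v) (hx _)
      | inv x _ hx =>
        intro v
        have := f.range.inv_mem (hx (c x⁻¹ v))
        rwa [inv_div, ← hmul, mul_inv_cancel, show c 1 v = v from Subtype.ext (by simp [hc])]
          at this
  have h5 := f.ker.card_mul_index
  rw [Subgroup.index_ker, Nat.card_prod, ← Subgroup.card_map_of_injective V.subtype_injective
    (K := f.range), h4] at h5
  rw [h1, ← h3]
  refine Nat.eq_of_mul_eq_mul_right (Nat.card_pos (α := (⁅V, A⁆ : Subgroup X))) ?_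
  rw [h5, mul_assoc, ← h2]

/-- Let X be a finite group, V an abelian normal subgroup of X (any two elements of V commute) and G a complement to V in X whose order is coprime to that of V. Let S be a set of representatives of the orbits of G on V under conjugation: S lies in V and every element of V is conjugate under G to exactly one member of S. Then the number of conjugacy classes of X equals the sum, over s in S, of the number of conjugacy classes of the centralizer of s in G. -/
theorem result {X : Type*} [Group X] [Finite X] (V : Subgroup X) [V.Normal] (hab : ∀ a ∈ V, ∀ b ∈ V, a * b = b * a) (G : Subgroup X) (hGV : Subgroup.IsComplement' V G) (hcop : (Nat.card V).Coprime (Nat.card G)) (S : Finset X) (hSV : ∀ s ∈ S, s ∈ V) (hrep : ∀ v ∈ V, ∃! s, s ∈ S ∧ ∃ g ∈ G, g * v * g⁻¹ = s) : Nat.card (ConjClasses X) = ∑ s ∈ S, Nat.card (ConjClasses ↥(G ⊓ Subgroup.centralizer ({s} : Set X))) := by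
  classical
  have hV := nrm_of_normal G V
  have e0 : ∀ (N : Subgroup X) (Q : Subgroup X), Nat.card ↥(N ⊓ Q) =
      ∑ y ∈ elems N, if y ∈ Q then 1 else 0 := fun N Q => by
    rw [sum_boole, Nat.cast_id, ← card_elems]
    congr 1; ext y; simp [mem_elems]
  have e1 : ∀ f : X → ℕ, ∑ x ∈ elems ⊤, f x = ∑ u ∈ elems V, ∑ a ∈ elems G, f (u * a) := fun f => by
    have := sum_elems_prod (K := ⊤) (H := V) (M := G) le_top le_top (fun k _ => by
      obtain ⟨⟨a, b⟩, e⟩ := hGV.2 k
      exact ⟨a, a.2, b, b.2, e.symm⟩) (fun x => f x)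
    rw [hGV.disjoint.eq_bot, Subgroup.card_bot, Nat.cast_one, one_mul] at this
    exact_mod_cast this.symm
  obtain ⟨T, hT⟩ : ∃ T, T = ∑ a ∈ elems G, ∑ b ∈ elems G, if b * a = a * b then
    Nat.card ↥(V ⊓ (centralizer {a} ⊓ centralizer {b})) else 0 := ⟨_, rfl⟩
  have h1 : Nat.card (ConjClasses X) * Nat.card X = Nat.card V * T := by
    have := card_Irr_mul (⊤ : Subgroup X)
    rw [card_Irr_top, card_irrCharacter_eq, Subgroup.card_top] at this
    rw [this, e1, sum_comm, hT, mul_sum]
    refine sum_congr rfl fun a ha => ?_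
    simp only [e0 ⊤, e1, mem_centralizer_singleton_iff]
    rw [mul_sum, sum_congr rfl fun u _ => sum_comm, sum_comm]
    refine sum_congr rfl fun b hb => ?_
    rw [mem_elems] at ha hb
    split_ifs with h
    · rw [← card_sol V hab hcop ha hb]
      refine sum_congr rfl fun u _ => sum_congr rfl fun w _ => if_congr ?_ rfl rfl
      rw [eq_comm, ← mul_left_inj (a * b)⁻¹]
      nth_rewrite 2 [← h]
      simp [mul_assoc]
    · rw [mul_zero]
      refine sum_eq_zero fun u hu => sum_eq_zero fun w hw => if_neg fun e => h ?_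
      rw [mem_elems] at hu hw
      have h2 : (b * a) * (a * b)⁻¹ ∈ V ⊓ G := ⟨by
        rw [show b * a * (a * b)⁻¹ = (w * (b * u * b⁻¹))⁻¹ * (w * b * (u * a)) * (a * b)⁻¹ by group,
          e, show (w * (b * u * b⁻¹))⁻¹ * (u * a * (w * b)) * (a * b)⁻¹ =
            (w * (b * u * b⁻¹))⁻¹ * (u * (a * w * a⁻¹)) by group]
        exact V.mul_mem (V.inv_mem (V.mul_mem hw (hV b hb u hu))) (V.mul_mem hu (hV a ha w hw)),
        G.mul_mem (G.mul_mem hb ha) (G.inv_mem (G.mul_mem ha hb))⟩
      rwa [hGV.disjoint.eq_bot, Subgroup.mem_bot, mul_inv_eq_one] at h2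
  have h2 : T = ∑ v ∈ elems V, Nat.card ↥(G ⊓ centralizer {v}) *
      Nat.card (ConjClasses ↥(G ⊓ centralizer {v})) := by
    have : ∀ v : X, Nat.card ↥(G ⊓ centralizer {v}) * Nat.card (ConjClasses ↥(G ⊓ centralizer {v})) =
        ∑ a ∈ elems G, ∑ b ∈ elems G, if b * a = a * b then
          (if v ∈ centralizer {a} ⊓ centralizer {b} then 1 else 0) else 0 := fun v => by
      rw [mul_comm, ← card_Irr_eq_card_conjClasses, card_Irr_mul]
      have : elems (G ⊓ centralizer {v}) = (elems G).filter fun a => a * v = v * a := by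
        ext; simp [mem_elems, mem_centralizer_singleton_iff]
      rw [this, sum_filter]
      refine sum_congr rfl fun a _ => ?_
      rw [inf_assoc, e0]
      simp only [Subgroup.mem_inf, mem_centralizer_singleton_iff]
      split_ifs with h
      · refine sum_congr rfl fun b _ => ?_
        simp only [h, true_and, eq_comm (a := v * b)]
        split_ifs <;> tauto
      · exact (sum_eq_zero fun b _ => by simp [Ne.symm h]).symm
    simp only [this]
    rw [hT, sum_comm (s := elems V)]
    refine sum_congr rfl fun a _ => ?_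
    rw [sum_comm (s := elems V)]
    refine sum_congr rfl fun b _ => ?_
    rw [e0]
    split_ifs <;> simp
  have hk : ∀ g ∈ G, ∀ v : X, Nat.card (ConjClasses ↥(G ⊓ centralizer {g * v * g⁻¹})) =
      Nat.card (ConjClasses ↥(G ⊓ centralizer {v})) := by
    intro g hg v
    have : G ⊓ centralizer {g * v * g⁻¹} = (G ⊓ centralizer {v}).map (MulAut.conj g).toMonoidHom := by
      rw [← Transfer.cj_def, Transfer.cj_inf, Transfer.cj_eq_of_mem hg]
      congr 1
      ext y
      rw [Transfer.mem_cj, mem_centralizer_singleton_iff, mem_centralizer_singleton_iff,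
        ← mul_left_inj g, ← mul_right_inj g⁻¹]
      simp [mul_assoc]
    rw [this]
    exact (card_conjClasses_congr ((MulAut.conj g).subgroupMap _)).symm
  have h3 : T = Nat.card G * ∑ s ∈ S, Nat.card (ConjClasses ↥(G ⊓ centralizer {s})) := by
    have h4 : ∀ s ∈ S, Nat.card G * Nat.card (ConjClasses ↥(G ⊓ centralizer {s})) =
        ∑ v ∈ elems V, conjCount G s v * Nat.card (ConjClasses ↥(G ⊓ centralizer {v})) := by
      intro s hs
      have := sum_conjCount_smul (H := G) (x := s) (s := elems V)
        (fun h hh => mem_elems.2 (hV h hh s (hSV s hs)))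
        (fun v => Nat.card (ConjClasses ↥(G ⊓ centralizer {v})))
      simp only [smul_eq_mul] at this
      rw [this, sum_congr rfl fun g hg => hk g (mem_elems.1 hg) s, sum_const, card_elems, smul_eq_mul]
    rw [mul_sum, sum_congr rfl h4, sum_comm, h2]
    refine sum_congr rfl fun v hv => ?_
    obtain ⟨s, ⟨hs, g, hg, rfl⟩, hu⟩ := hrep v (mem_elems.1 hv)
    rw [← sum_mul, sum_eq_single_of_mem _ hs fun t ht hne => conjCount_eq_zero fun h hh e =>
      hne (hu t ⟨ht, h⁻¹, G.inv_mem hh, by rw [← e]; group⟩), conjCount_conj_left hg, conjCount_self]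
  refine Nat.eq_of_mul_eq_mul_right (Nat.card_pos (α := X)) ?_
  rw [h1, h3, ← hGV.card_mul_card]
  ring

end Cfsg.Agent.S4956
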