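import Cfsg.Statements.S4959
import Cfsg.Agent.Lib.Clifford.Weil


set_option autoImplicit false
open Cfsg

namespace Cfsg.Agent.S4959

open Cfsg.Lib Cfsg.Lib.Clifford Cfsg.Lib.BG1 Subgroup

/-- Let X be a finite group and V a normal subgroup of X in which every element has order dividing the prime p, whose index in X is prime to p and which is its own centralizer in X; so V is an elementary abelian normal Sylow p-subgroup, and any complement G to V in X is a group of order prime to p acting faithfully on the vector space V by conjugation (the coprime linear setting of the k(GV) problem). Let G be a complement to V in X, let v be in V and let H be the centralizer of v in G. Suppose there is a subgroup U of V normalized by H, on which H acts faithfully, and carrying an H-invariant bi-additive pairing β with values in the integers modulo p that is nondegenerate on U (equivalently: the restriction of the module V to H has a faithful self-dual submodule; such a v is called a real vector for G). Then the number of conjugacy classes of X is at most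 the order of V (the real-vector criterion for the k(GV) problem). The pairing is given as a function on X whose relevant values are those on pairs from U. -/
theorem result {X : Type*} [Group X] [Finite X] (p : ℕ) [Fact p.Prime] (V : Subgroup X) [V.Normal] (hVexp : ∀ v ∈ V, v ^ p = 1) (hidx : ¬ p ∣ V.index) (hself : Subgroup.centralizer (V : Set X) = V) (G : Subgroup X) (hGV : Subgroup.IsComplement' V G) (v : X) (hv : v ∈ V) (U : Subgroup X) (hUV : U ≤ V) (hUinv : ∀ h ∈ G, h * v * h⁻¹ = v → ∀ u ∈ U, h * u * h⁻¹ ∈ U) (hUfaith : ∀ h ∈ G, h * v * h⁻¹ = v → (∀ u ∈ U, h * u * h⁻¹ = u) → h = 1) (β : X → X → ZMod p) (hβl : ∀ u ∈ U, ∀ u' ∈ U, ∀ w ∈ U, β (u * u') w = β u w + β u' w) (hβr : ∀ u ∈ U, ∀ w ∈ U, ∀ w' ∈ U, β u (w * w') = β u w + β u w') (hβinv : ∀ h ∈ G, h * v * h⁻¹ = v → ∀ u ∈ U, ∀ w ∈ U, β (h * u * h⁻¹) (h * w * h⁻¹) = β u w) (hβnd : ∀ u ∈ U, (∀ w ∈ U, β u w = 0) → u = 1) : Nat.card (ConjClasses X) ≤ Nat.card V := by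
  have : Fact (IsElementaryAbelian p U) :=
    ⟨⟨⟨⟨fun a b => Subtype.ext (hself.ge (hUV b.2) a (hUV a.2))⟩⟩, fun a ha => hVexp a (hUV ha)⟩⟩
  have h1 : ∀ h ∈ G ⊓ centralizer {v}, h * v * h⁻¹ = v := fun h a =>
    mul_inv_eq_of_eq_mul (mem_centralizer_singleton_iff.1 a.2)
  refine knorr_amb V hVexp hidx hself hGV hv hUV (fun h a => mem_normalizer_fintype (S := (U : Set X)) (hUinv h a.1 (h1 h a)))
    (fun h a b => hUfaith h a.1 (h1 h a) fun u hu => mul_inv_eq_of_eq_mul (b u hu).symm) fun h M _ hM => ?_
  let c : LinearMap.BilinForm (ZMod p) (EV p U) := (AddMonoidHom.mk' (fun x : EV p U => (AddMonoidHom.mk'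
    (fun y : EV p U => β x.val y.val) fun a b => hβr _ x.val_mem _ a.val_mem _ b.val_mem).toZModLinearMap p)
    fun a b => LinearMap.ext fun y => hβl _ a.val_mem _ b.val_mem _ y.val_mem).toZModLinearMap p
  exact kf_dual hM h (c := c) (.ofSeparatingLeft fun x hx => EV.val_eq_one.1 (hβnd _ x.val_mem fun w hw =>
    hx (EV.mk p ⟨w, hw⟩))) fun g x y => hβinv _ g.2.1 (h1 _ g.2) _ x.val_mem _ y.val_mem

end Cfsg.Agent.S4959
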