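import Cfsg.Statements.S4964
import Cfsg.Agent.Lib.Block2.Ker
import Cfsg.Agent.Lib.Coprime.Basic
import Cfsg.Agent.Lib.PGrp.Basic

set_option autoImplicit false
open Cfsg

namespace Cfsg.Agent.S4964

/-- Let D be a normal p-subgroup of the finite group G, let D′ be its commutator subgroup (normal in G), and fix a maximal ideal M of the algebraic integers containing p. Then (i) two irreducible characters of G ⧸ D′ lie in the same p-block if and only if their inflations to G do, and (ii) every p-block of G contains the inflation of some irreducible character of G ⧸ D′; so inflation induces a bijection between the p-blocks of G ⧸ D′ and the p-blocks of G. -/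
theorem result {G : Type*} [Group G] [Finite G] (p : ℕ) [Fact p.Prime] (M : Ideal Cfsg.AlgInt) (hM : Cfsg.IsPModular p M) (D : Subgroup G) [D.Normal] (hD : IsPGroup p D) : (∀ χ ψ : Cfsg.IrrCharacter (G ⧸ ⁅D, D⁆), Cfsg.SameBlock M (χ : G ⧸ ⁅D, D⁆ → ℂ) (ψ : G ⧸ ⁅D, D⁆ → ℂ) ↔ Cfsg.SameBlock M ((χ : G ⧸ ⁅D, D⁆ → ℂ) ∘ QuotientGroup.mk) ((ψ : G ⧸ ⁅D, D⁆ → ℂ) ∘ QuotientGroup.mk)) ∧ ∀ B : Set (Cfsg.IrrCharacter G), Cfsg.IsPBlock M B → ∃ χ : Cfsg.IrrCharacter (G ⧸ ⁅D, D⁆), ∃ θ ∈ B, (θ : G → ℂ) = (χ : G ⧸ ⁅D, D⁆ → ℂ) ∘ QuotientGroup.mk := by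
  open Cfsg.Lib Cfsg.Lib.Block Cfsg.Lib.Block2 Cfsg.Lib.Char Cfsg.Lib.Amalg in
  have := hM.2.1
  have hf := QuotientGroup.mk'_surjective ⁅D, D⁆
  have hle : ⁅D, D⁆ ≤ D := Subgroup.commutator_le_left D D
  have hk : IsPGroup p (QuotientGroup.mk' ⁅D, D⁆).ker := by
    rw [QuotientGroup.ker_mk']; exact hD.to_le hle
  refine ⟨fun χ ψ => ⟨fun h => sameBlock_infl hf h, fun h => ?_⟩, fun B hB => ?_⟩
  · refine sameBlock_of_infl hf hM hk (fun x hx h0 => ?_) h
    have hB := (isPBlock_blockOf (M := M) χ).isBlockUnion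
    haveI : (D.map (QuotientGroup.mk' ⁅D, D⁆)).Normal := Subgroup.Normal.map inferInstance _ hf
    have h1 := (supp_eB_of_normal hM hB (hD.map (QuotientGroup.mk' ⁅D, D⁆)) fun _ h _ => h).mem h0
    have h2 : Subgroup.zpowers x ≤ Subgroup.centralizer (D : Set G) := by
      refine Coprime.le_centralizer_of_commutator_le_frattini Subgroup.le_normalizer_of_normal ?_ ?_
      · obtain ⟨k, hk⟩ := IsPGroup.iff_card.1 (hD.to_subgroup (frattini D))
        rw [hk, Nat.card_zpowers]
        exact ((Nat.Prime.coprime_iff_not_dvd hM.1).2 hx).symm.pow_right k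
      · refine le_trans ?_ (?_ : ⁅D, D⁆ ≤ _)
        · rw [← QuotientGroup.ker_mk' ⁅D, D⁆, ← Subgroup.map_eq_bot_iff, Subgroup.map_commutator,
            Subgroup.commutator_eq_bot_iff_le_centralizer, Subgroup.le_centralizer_iff,
            MonoidHom.map_zpowers, Subgroup.zpowers_le]
          exact h1
        · rw [← Subgroup.map_subtype_commutator]
          exact Subgroup.map_mono (PGrp.commutator_le_frattini hD)
    rw [QuotientGroup.ker_mk']
    exact Subgroup.centralizer_le (SetLike.coe_subset_coe.2 hle) (h2 (Subgroup.mem_zpowers x))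
  · obtain ⟨χ, h⟩ := nonempty_preimage_infl hf hM hk hB
    exact ⟨χ, _, h, rfl⟩

end Cfsg.Agent.S4964
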