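import Cfsg.Statements.S4965


import Mathlib

set_option autoImplicit false
open Cfsg

namespace Cfsg.Agent.S4965

/-- Let X be a finite group with an abelian normal subgroup V (any two elements of V commute), and let φ be the action of X ⧸ V on V induced by conjugation (well defined because V is abelian; the hypothesis hφ says that the class of x acts as conjugation by x). Then X has at most as many conjugacy classes as the semidirect product of V by X ⧸ V formed with this action: the split extension has the largest class number among extensions with the given action. -/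
theorem result {X : Type*} [Group X] [Finite X] (V : Subgroup X) [V.Normal] (hab : ∀ a ∈ V, ∀ b ∈ V, a * b = b * a) (φ : X ⧸ V →* MulAut ↥V) (hφ : ∀ (x : X) (v : ↥V), ((φ (QuotientGroup.mk x) v : ↥V) : X) = x * v * x⁻¹) : Nat.card (ConjClasses X) ≤ Nat.card (ConjClasses (SemidirectProduct ↥V (X ⧸ V) φ)) := by
  classical
  have h1 := card_comm_eq_card_conjClasses_mul_card X
  have h2 := card_comm_eq_card_conjClasses_mul_card (SemidirectProduct ↥V (X ⧸ V) φ)
  have : Finite (SemidirectProduct ↥V (X ⧸ V) φ) :=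
    Finite.of_equiv _ SemidirectProduct.equivProd.symm
  have h3 : Nat.card (SemidirectProduct ↥V (X ⧸ V) φ) = Nat.card X := by
    rw [SemidirectProduct.card, mul_comm, ← Subgroup.card_eq_card_quotient_mul_card_subgroup]
  rw [h3] at h2
  refine Nat.le_of_mul_le_mul_right ?_ (Nat.card_pos (α := X))
  rw [← h1, ← h2]
  have h4 : ∀ a b : X ⧸ V, ∃ p : X × X, (∃ x y : X, (x : X ⧸ V) = a ∧ (y : X ⧸ V) = b ∧ Commute x y) →
      (p.1 : X ⧸ V) = a ∧ (p.2 : X ⧸ V) = b ∧ Commute p.1 p.2 := fun a b => by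
    by_cases h : ∃ x y : X, (x : X ⧸ V) = a ∧ (y : X ⧸ V) = b ∧ Commute x y
    · obtain ⟨x, y, h⟩ := h
      exact ⟨(x, y), fun _ => h⟩
    · exact ⟨(1, 1), fun h' => absurd h' h⟩
  choose B hB using h4
  have hB' : ∀ p : {p : X × X // Commute p.1 p.2}, _ := fun p =>
    hB p.1.1 p.1.2 ⟨p.1.1, p.1.2, rfl, rfl, p.2⟩
  have hm : ∀ {x y : X}, (y : X ⧸ V) = x → x * y⁻¹ ∈ V := fun {x y} h => by
    have := QuotientGroup.eq.1 h
    simpa [mul_assoc] using ‹V.Normal›.conj_mem _ this y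
  refine Nat.card_le_card_of_injective (fun p => ⟨(⟨⟨p.1.1 * (B p.1.1 p.1.2).1⁻¹, hm (hB' p).1⟩, p.1.1⟩,
    ⟨⟨p.1.2 * (B p.1.1 p.1.2).2⁻¹, hm (hB' p).2.1⟩, p.1.2⟩), ?_⟩) ?_
  · obtain ⟨⟨x, y⟩, hxy⟩ := p
    obtain ⟨e1, e2, e3⟩ := hB' ⟨(x, y), hxy⟩
    simp only at e1 e2 e3 hxy ⊢
    refine SemidirectProduct.ext (Subtype.ext ?_) ?_
    · simp only [SemidirectProduct.mul_left, Subgroup.coe_mul]
      have hφ' : ∀ (a : X ⧸ V) (z : X), (z : X ⧸ V) = a → ∀ v : V, (φ a v : X) = z * v * z⁻¹ := by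
        rintro _ z rfl v; exact hφ z v
      rw [hφ' _ _ e1, hφ' _ _ e2]
      simp only [mul_assoc, inv_mul_cancel_left]
      rw [← mul_assoc, ← mul_assoc y x, hxy.eq, ← mul_inv_rev, ← mul_inv_rev, e3.eq]
    · simp only [SemidirectProduct.mul_right]
      rw [← QuotientGroup.mk_mul, ← QuotientGroup.mk_mul, hxy.eq]
  · rintro ⟨⟨x, y⟩, h⟩ ⟨⟨x', y'⟩, h'⟩ e
    simp only [Subtype.mk.injEq, Prod.mk.injEq, SemidirectProduct.ext_iff] at e ⊢
    obtain ⟨⟨e1, e2⟩, e3, e4⟩ := e
    rw [e2, e4] at e1 e3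
    exact ⟨mul_right_cancel e1, mul_right_cancel e3⟩

end Cfsg.Agent.S4965
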