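import Cfsg.Statements.S4969
import Cfsg.Agent.Lib.Clifford.Count
import Mathlib.Algebra.Order.Chebyshev

set_option autoImplicit false
open Cfsg

namespace Cfsg.Agent.S4969

open Cfsg.Lib Cfsg.Lib.Clifford Cfsg.Lib.Char Finset

/-- Let G be a finite group with k conjugacy classes, g ∈ G, and N > 0. Then the sum over the irreducible complex characters χ of G with χ(1) ≥ N of |χ(g)|/χ(1) is at most √(k · #C_G(g)) / N. -/
theorem result {G : Type*} [Group G] [Finite G] (g : G) (N : ℝ) (hN : 0 < N) :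
    ∑ᶠ χ : Cfsg.IrrCharacter G, (if N ≤ ‖(χ : G → ℂ) 1‖ then ‖(χ : G → ℂ) g‖ / ‖(χ : G → ℂ) 1‖ else 0) ≤
      Real.sqrt ((Nat.card (ConjClasses G) : ℝ) * (Nat.card ↥(Subgroup.centralizer ({g} : Set G)) : ℝ)) / N := by
  rw [finsum_eq_sum_of_fintype, le_div_iff₀ hN]
  refine Real.le_sqrt_of_sq_le ?_
  have h1 : (∑ χ : IrrCharacter G, if N ≤ ‖(χ : G → ℂ) 1‖ then ‖(χ : G → ℂ) g‖ / ‖(χ : G → ℂ) 1‖ else 0) * N
      ≤ ∑ χ : IrrCharacter G, ‖(χ : G → ℂ) g‖ := by
    rw [sum_mul]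
    refine sum_le_sum fun χ _ => ?_
    split_ifs with h
    · rw [div_mul_eq_mul_div, div_le_iff₀ (hN.trans_le h)]
      exact mul_le_mul_of_nonneg_left h (norm_nonneg _)
    · simp
  refine (pow_le_pow_left₀ (mul_nonneg (sum_nonneg fun χ _ => by split_ifs <;> positivity) hN.le)
    h1 2).trans ?_
  rw [← sum_norm_sq_eq_card_centralizer, ← card_irr_eq_card_conjClasses, Nat.card_eq_fintype_card]
  exact sq_sum_le_card_mul_sum_sq

end Cfsg.Agent.S4969
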