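import Cfsg.Statements.S4989
import Cfsg.Agent.Lib.Clifford.Count

set_option autoImplicit false
open Cfsg

namespace Cfsg.Agent.S4989

open Cfsg.Lib Cfsg.Lib.Clifford Cfsg.Lib.Char Finset

/-- Let H be a subgroup of the finite group G and χ an irreducible complex character of G. Then the inner product of the restriction of χ to H with itself, (1/#H)·Σ_{h ∈ H} |χ(h)|², is at most 1 + #(Z ∖ H)/#H, where Z is the set of zeros of χ in G. -/
theorem result {G : Type*} [Group G] [Finite G] (H : Subgroup G) (χ : Cfsg.IrrCharacter G) : (Nat.card ↥H : ℝ)⁻¹ * ∑ᶠ h : ↥H, ‖(χ : G → ℂ) h‖ ^ 2 ≤ 1 + (Set.ncard ({x : G | (χ : G → ℂ) x = 0} \ (H : Set G)) : ℝ) / (Nat.card ↥H : ℝ) := by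
  classical
  have := Fintype.ofFinite G
  have hH : (0 : ℝ) < Nat.card H := by exact_mod_cast Nat.card_pos
  have h1 := (card_le_sum_normSq_elts χ.2.isGeneralizedCharacter
    (univ.filter fun g => g ∉ H ∧ (χ : G → ℂ) g ≠ 0) (fun k hk g hg => by
      simp only [mem_filter, mem_univ, true_and] at hg ⊢
      obtain ⟨σ, hσ⟩ := exists_ringEquiv_map_char G hk
      refine ⟨fun e => hg.1 ?_, by rw [← hσ _ χ.2.isGeneralizedCharacter]; simpa using hg.2⟩
      obtain ⟨m, hm⟩ := exists_pow_eq_self_of_coprime (hk.of_dvd_right (orderOf_dvd_natCard g))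
      exact hm ▸ H.pow_mem e m) (fun g hg => (mem_filter.1 hg).2.2)).1
  have h2 := χ.2.sum_norm_sq
  rw [← sum_filter_add_sum_filter_not _ (fun g => g ∈ H),
    ← sum_filter_add_sum_filter_not (univ.filter fun g => g ∉ H) (fun g => (χ : G → ℂ) g = 0),
    filter_filter, filter_filter, sum_eq_zero (s := univ.filter fun g => g ∉ H ∧ (χ : G → ℂ) g = 0)
      (fun g hg => by rw [(mem_filter.1 hg).2.2]; simp), zero_add] at h2
  have h3 : Nat.card G = Nat.card H + ((univ.filter fun g => g ∉ H ∧ (χ : G → ℂ) g = 0).card +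
      (univ.filter fun g => g ∉ H ∧ (χ : G → ℂ) g ≠ 0).card) := by
    rw [← filter_filter, ← filter_filter, card_filter_add_card_filter_not, Nat.card_eq_fintype_card,
      Nat.card_eq_fintype_card, Fintype.card_subtype, card_filter_add_card_filter_not, card_univ]
  have h4 : Set.ncard ({x : G | (χ : G → ℂ) x = 0} \ (H : Set G)) =
      (univ.filter fun g => g ∉ H ∧ (χ : G → ℂ) g = 0).card := by
    rw [← Set.ncard_coe_finset]; congr 1; ext x; simp [and_comm]
  rw [finsum_eq_sum_of_fintype, h4, ← sum_subtype (univ.filter fun g => g ∈ H) (by simp)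
    fun g => ‖(χ : G → ℂ) g‖ ^ 2, inv_mul_le_iff₀ hH, mul_add, mul_div_cancel₀ _ hH.ne']
  have h5 := congrArg (Nat.cast : ℕ → ℝ) h3
  push_cast at h5
  linarith

end Cfsg.Agent.S4989
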