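import Cfsg.Statements.S4991
import Cfsg.Agent.Lib.Coprime.FixAvg
import Cfsg.Agent.Lib.FT.Sec14d
import Cfsg.Agent.Lib.Core.Basic

set_option autoImplicit false
open Cfsg

namespace Cfsg.Agent.S4991

open Cfsg.Lib.Clifford Cfsg.Lib.Coprime Subgroup QuotientGroup

variable {G : Type*} [Group G] [Fintype G]

theorem relIndex_dvd {K L : Subgroup G} [L.Normal] (h : L ≤ K) (g : G) :
    (centralizer {g}).relIndex L * (centralizer {mk' L g}).relIndex (K.map (mk' L)) ∣
      (centralizer {g}).relIndex K := by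
  obtain ⟨m, hm⟩ := card_dvd_of_le (H := (centralizer {g} ⊓ K).map (mk' L))
    (K := centralizer {mk' L g} ⊓ K.map (mk' L)) (le_inf (by
      rintro _ ⟨x, hx, rfl⟩
      rw [mem_centralizer_singleton_iff, ← map_mul, mem_centralizer_singleton_iff.1 hx.1, map_mul])
      (map_mono inf_le_right))
  have h1 := Lib.Core.card_map_mk'_mul L K
  have h2 := Lib.Core.card_map_mk'_mul L (centralizer {g} ⊓ K)
  rw [inf_eq_left.2 h, ← Lib.Core.card_inf_mul_relIndex (centralizer {g}) L,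
    ← Lib.Core.card_inf_mul_relIndex (centralizer {g}) K,
    ← Lib.Core.card_inf_mul_relIndex (centralizer {mk' L g}) (K.map _), hm, ← h2, inf_left_comm,
    inf_eq_left.2 h] at h1
  refine ⟨m, Nat.eq_of_mul_eq_mul_left (Nat.mul_pos Nat.card_pos Nat.card_pos) (h1.symm.trans ?_)⟩
  ring

theorem dvd_prod [Group.IsSolvable G] {K L : Subgroup G} [L.Normal] (h : Chief ⊤ K L) {e : ℕ}
    (he : e ^ 2 = L.relIndex K) : e ^ Nat.card G ∣
      ∏ g, (centralizer {mk' L g}).relIndex (K.map (mk' L)) := by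
  set V := K.map (mk' L)
  have hc : ∀ M : Subgroup (G ⧸ L), L ≤ M.comap (mk' L) := fun M => le_comap_mk' L M
  have hK : V.comap (mk' L) = K := by rw [comap_map_mk', sup_eq_right.2 h.lt.le]
  have := h.nK.normal
  have hV : Chief ⊤ V ⊥ := ⟨bot_lt_iff_ne_bot.2 fun e => h.lt.not_ge (by
    rwa [Subgroup.map_eq_bot_iff, ker_mk'] at e), le_top, nrm_of_normal _ _, nrm_of_normal _ _,
    fun M _ h2 h3 => by
      have := h3.normal
      refine (h.max _ (hc M) (hK ▸ comap_mono h2) (nrm_of_normal _ _)).imp (fun e => ?_) fun e => ?_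
      · exact comap_injective (mk'_surjective L) (by rw [e, MonoidHom.comap_bot, ker_mk'])
      · exact comap_injective (mk'_surjective L) (by rw [e, hK])⟩
  obtain ⟨r, hr, h1, k, -, h2⟩ := hV.exists_prime (hV.abelian (solvMod_of_isSolvable _ _))
  replace he : e ^ 2 = Nat.card V := by rwa [Lib.Core.card_map_mk'_eq_relIndex]
  rw [relIndex_bot_left] at h2
  have h3 := prod_fx_chief (mk'_surjective L) hV fun hz => by
    obtain ⟨x, hx, hx1⟩ := SetLike.exists_of_lt hV.lt
    have : Fact r.Prime := ⟨hr⟩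
    rcases hV.max (zpowers x) bot_le (zpowers_le.2 hx) (fun g _ y hy => by
      rwa [← hz.ge (mem_top g) y (zpowers_le.2 hx hy), mul_inv_cancel_right]) with e | e
    · exact hx1 (e.le (mem_zpowers x))
    · rw [← e, Nat.card_zpowers, orderOf_eq_prime (h1 x hx) hx1] at he
      exact hr.prime.not_isSquare ⟨_, he.symm.trans (sq _)⟩
  have h4 : (∏ g, fx V (mk' L g)) * ∏ g, (centralizer {mk' L g}).relIndex V =
      Nat.card V ^ Nat.card G := by
    rw [← Finset.prod_mul_distrib, Nat.card_eq_fintype_card (α := G), ← Finset.card_univ,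
      ← Finset.prod_const]
    exact Finset.prod_congr rfl fun g _ => by rw [fx, inf_comm, Lib.Core.card_inf_mul_relIndex]
  rw [Finset.prod_pow, ← he, ← pow_mul, mul_comm, pow_mul,
    Nat.pow_le_pow_iff_left two_ne_zero] at h3
  obtain ⟨a, -, rfl⟩ := (Nat.dvd_prime_pow hr).1 (h2 ▸ he ▸ dvd_pow_self e two_ne_zero)
  obtain ⟨b, -, hb⟩ := (Nat.dvd_prime_pow hr).1 (pow_mul r k _ ▸ h2 ▸ Dvd.intro_left _ h4)
  rw [← he, ← pow_mul, mul_comm 2, pow_mul, sq] at h4
  have h5 := Nat.le_of_mul_le_mul_left (h4.ge.trans (Nat.mul_le_mul_right _ h3))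
    (pow_pos (pow_pos hr.pos _) _)
  rw [hb, ← pow_mul] at h5 ⊢
  exact pow_dvd_pow _ ((Nat.pow_le_pow_iff_right hr.one_lt).1 h5)

theorem deg_pow_dvd [Group.IsSolvable G] {χ : G → ℂ} (hχ : IrrOn ⊤ χ) (hp : ¬ IndFrom ⊥ ⊤ χ)
    (K : Subgroup G) (hK : Nrm ⊤ K) {θ : G → ℂ} (hθ : IrrOn K θ) (hd : dot K χ θ ≠ 0) :
    charDegree θ ^ Nat.card G ∣ ∏ g, (centralizer {g}).relIndex K := by
  induction K using WellFoundedLT.induction generalizing θ with | ind K ih =>
  rcases eq_or_ne K ⊥ with rfl | hK0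
  · rw [(IrrOn.linOn_of_irrOn_bot hθ.charOn hθ).deg, one_pow]
    exact one_dvd _
  have hom : ∀ N, Nrm ⊤ N → Homog N χ := fun N hN => by_contra fun h =>
    hp ((hχ.indFrom_of_not_homog le_top hN h).mono bot_le)
  obtain ⟨L, -, hL⟩ := exists_chief_below hK0.bot_lt le_top hK (nrm_of_normal _ _)
  have := hL.nL.normal
  obtain ⟨n, h1, h2⟩ := (hom K hK).eq_of_dot hθ hd
  have h3 : ∀ {φ}, dot L θ φ ≠ 0 → dot L χ φ ≠ 0 := fun h => by
    rw [dot_congr_left (φ' := (n : ℂ) • θ) fun x hx => h2 x (hL.lt.le hx), dot_smul_left]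
    exact mul_ne_zero (h1 ▸ hd) h
  refine Dvd.dvd.trans ?_ (Finset.prod_dvd_prod_of_dvd _ _ fun g _ => relIndex_dvd hL.lt.le g)
  rw [Finset.prod_mul_distrib]
  rcases going_down hL (hL.abelian (solvMod_of_isSolvable _ _)) hθ
    ((hχ.homog_iff le_top hK hθ hd).1 (hom K hK)) with h | ⟨φ, hφ, e, h, he⟩ | ⟨φ, hφ, h, he⟩
  · exact (ih L hL.lt hL.nL h (h3 (h.dot_self ▸ one_ne_zero))).mul_right _
  · have hφ' := irrOn_of_mem hφ
    have h4 : θ 1 = (charDegree φ * e : ℕ) := by rw [h 1 L.one_mem, hφ'.one_eq]; push_cast; ring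
    rw [charDegree_of_eq h4, mul_pow]
    refine mul_dvd_mul (ih L hL.lt hL.nL hφ' (h3 ?_)) (dvd_prod hL he)
    rw [dot_congr_left (φ' := (e : ℂ) • φ) h, dot_smul_left, hφ'.dot_self, mul_one]
    intro e0
    exact hθ.one_ne_zero (by rw [h 1 L.one_mem, e0, zero_mul])
  · have hφ' := irrOn_of_mem hφ
    refine (hL.lt.ne (he.symm.trans ((inertia_eq_iff (hL.nL.mono le_top)).2
      (((hχ.homog_iff le_top hL.nL hφ' (h3 ?_)).1 (hom L hL.nL)).mono le_top le_rfl)))).elim
    rw [← dot_ind_right hL.lt.le hθ.classOn, h, dot_cut_right, hθ.dot_self]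
    exact one_ne_zero

/-- Let G be a group of odd order, χ an irreducible complex character of G that is primitive (not induced from a character of any proper subgroup), and p a prime dividing the order of G. Then there is an element g of G such that the p-part of χ(1) divides the p-part of the size of the conjugacy class of g. -/
theorem result {G : Type*} [Group G] [Fintype G] (hodd : Odd (Nat.card G)) (χ : Cfsg.IrrCharacter G) (hprim : ¬ ∃ (H : Subgroup G), H ≠ ⊤ ∧ ∃ θ : ↥H → ℂ, Cfsg.IsCharacter ↥H θ ∧ Cfsg.indFun H θ = (χ : G → ℂ)) (p : ℕ) [Fact p.Prime] (hp : p ∣ Nat.card G) : ∃ g : G, (Cfsg.charDegree (χ : G → ℂ)).factorization p ≤ ((Subgroup.centralizer ({g} : Set G)).index).factorization p := by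
  have := Lib.FT.odd_order_solvable G hodd
  have hχ := irrOn_top.2 χ.2
  have h := deg_pow_dvd hχ (fun ⟨T, _, hT, ψ, hψ, e⟩ => hprim ⟨T, hT.ne, res T ψ,
    (irrOn_of_mem hψ).charOn, by rw [indFun_res, e, cut_top]⟩) ⊤ (nrm_self _) hχ
    (hχ.dot_self ▸ one_ne_zero)
  simp only [relIndex_top_right] at h
  have h0 : ∀ g ∈ Finset.univ, (centralizer ({g} : Set G)).index ≠ 0 := fun g _ =>
    FiniteIndex.index_ne_zero
  have h1 := (Nat.factorization_le_iff_dvd (pow_pos hχ.deg_pos _).ne'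
    (Finset.prod_ne_zero_iff.2 h0)).2 h p
  rw [Nat.factorization_prod h0, Nat.factorization_pow, Finsupp.smul_apply, Finset.sum_apply',
    Nat.card_eq_fintype_card, ← Finset.card_univ, ← Finset.sum_const] at h1
  obtain ⟨g, -, hg⟩ := Finset.exists_le_of_sum_le Finset.univ_nonempty h1
  exact ⟨g, hg⟩

end Cfsg.Agent.S4991
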