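import Cfsg.Statements.S4993
import Cfsg.Agent.S4991
import Cfsg.Agent.Lib.Hall.Prim
import Cfsg.Agent.Lib.Clifford.Cover

set_option autoImplicit false
open Cfsg

namespace Cfsg.Agent.S4993

open Cfsg.Lib Cfsg.Lib.Clifford Cfsg.Lib.Coprime Subgroup QuotientGroup S4991

theorem cent_of_ppow {Γ : Type*} [Group Γ] [Finite Γ] {V N : Subgroup Γ} [V.Normal] [N.Normal]
    (hmin : ∀ K : Subgroup Γ, K.Normal → K ≤ V → K = ⊥ ∨ K = V) {p : ℕ} [Fact p.Prime] (hp : p ∣ Nat.card V)
    (h : ∀ g ∈ N, ∃ k, g ^ p ^ k ∈ centralizer (V : Set Γ)) : V ≤ centralizer (N : Set Γ) := by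
  set φ : Γ →* MulAut V := MulAut.conjNormal
  have hQ : IsPGroup p (N.map φ) := by
    rintro ⟨_, g, hg, rfl⟩
    obtain ⟨k, hk⟩ := h g hg
    refine ⟨k, Subtype.ext (MulEquiv.ext fun v => Subtype.ext ?_)⟩
    change (((φ g) ^ p ^ k) v : Γ) = v
    rw [← map_pow]
    change g ^ p ^ k * v * (g ^ p ^ k)⁻¹ = v
    rw [← hk v v.2, mul_inv_cancel_right]
  obtain ⟨b, hb, hb1⟩ := hQ.exists_fixed_point_of_prime_dvd_card_of_fixed_point V hp (a := 1) (fun σ => smul_one σ)
  rcases hmin (V ⊓ centralizer (N : Set Γ)) inferInstance inf_le_left with e | e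
  · refine absurd (Subtype.ext (mem_bot.1 (e ▸ ⟨b.2, fun g hg => ?_⟩))).symm hb1
    have : g * b * g⁻¹ = b := congrArg Subtype.val (hb ⟨_, g, hg, rfl⟩)
    rw [← mul_inv_eq_iff_eq_mul]; exact this
  · exact e.ge.trans inf_le_right

variable {G : Type*} [Group G] [Fintype G]

theorem exists_fun [Group.IsSolvable G] {χ : G → ℂ} (hχ : IrrOn ⊤ χ) (hp : ¬ IndFrom ⊥ ⊤ χ) (p : ℕ) [Fact p.Prime]
    (N : Subgroup G) [N.Normal] (hN : ∀ g ∈ N, ∃ k, g ^ p ^ k ∈ fittingSubgroup G)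
    (K : Subgroup G) (hK : Nrm ⊤ K) {θ : G → ℂ} (hθ : IrrOn K θ) (hd : dot K χ θ ≠ 0) :
    ∃ a : G → ℕ, (∀ g, a g ∣ (centralizer {g}).relIndex K) ∧ (∀ g, ∀ n ∈ N, a (g * n) = a g) ∧
      (p ^ (charDegree θ).factorization p) ^ Nat.card G ∣ ∏ g, a g := by
  induction K using WellFoundedLT.induction generalizing θ with | ind K ih =>
  rcases eq_or_ne K ⊥ with rfl | hK0
  · refine ⟨fun _ => 1, fun _ => one_dvd _, fun _ _ _ => rfl, ?_⟩
    rw [(IrrOn.linOn_of_irrOn_bot hθ.charOn hθ).deg]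
    simp
  have hom : ∀ N, Nrm ⊤ N → Homog N χ := fun N hN => by_contra fun h =>
    hp ((hχ.indFrom_of_not_homog le_top hN h).mono bot_le)
  obtain ⟨L, -, hL⟩ := exists_chief_below hK0.bot_lt le_top hK (nrm_of_normal _ _)
  have := hL.nL.normal
  have := hK.normal
  obtain ⟨n, h1, h2⟩ := (hom K hK).eq_of_dot hθ hd
  have h3 : ∀ {φ}, dot L θ φ ≠ 0 → dot L χ φ ≠ 0 := fun h => by
    rw [dot_congr_left (φ' := (n : ℂ) • θ) fun x hx => h2 x (hL.lt.le hx), dot_smul_left]
    exact mul_ne_zero (h1 ▸ hd) h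
  rcases going_down hL (hL.abelian (solvMod_of_isSolvable _ _)) hθ
    ((hχ.homog_iff le_top hK hθ hd).1 (hom K hK)) with h | ⟨φ, hφ, e, h, he⟩ | ⟨φ, hφ, h, he⟩
  · obtain ⟨a, a1, a2, a3⟩ := ih L hL.lt hL.nL h (h3 (h.dot_self ▸ one_ne_zero))
    exact ⟨a, fun g => ((a1 g).mul_right _).trans (relIndex_dvd hL.lt.le g), a2, a3⟩
  · have hφ' := irrOn_of_mem hφ
    have h4 : θ 1 = (charDegree φ * e : ℕ) := by rw [h 1 L.one_mem, hφ'.one_eq]; push_cast; ring
    have e0 : e ≠ 0 := fun e0 => hθ.one_ne_zero (by rw [h 1 L.one_mem, e0, Nat.cast_zero, zero_mul])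
    obtain ⟨a, a1, a2, a3⟩ := ih L hL.lt hL.nL hφ' (h3 (by
      rw [dot_congr_left (φ' := (e : ℂ) • φ) h, dot_smul_left, hφ'.dot_self, mul_one]
      exact Nat.cast_ne_zero.2 e0))
    rw [charDegree_of_eq h4, Nat.factorization_mul hφ'.deg_pos.ne' e0, Finsupp.add_apply, pow_add, mul_pow]
    by_cases hpe : p ∣ e
    · refine ⟨fun g => a g * (centralizer {mk' L g}).relIndex (K.map (mk' L)),
        fun g => (mul_dvd_mul_right (a1 g) _).trans (relIndex_dvd hL.lt.le g), fun g x hx => ?_, ?_⟩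
      · have hc : ∀ M : Subgroup (G ⧸ L), L ≤ M.comap (mk' L) := fun M => le_comap_mk' L M
        have hK' : (K.map (mk' L)).comap (mk' L) = K := by rw [comap_map_mk', sup_eq_right.2 hL.lt.le]
        have hmin : ∀ M : Subgroup (G ⧸ L), M.Normal → M ≤ K.map (mk' L) → M = ⊥ ∨ M = K.map (mk' L) := fun M _ h2 =>
          (hL.max _ (hc M) (hK' ▸ comap_mono h2) (nrm_of_normal _ _)).imp
            (fun e => comap_injective (mk'_surjective L) (by rw [e, MonoidHom.comap_bot, ker_mk']))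
            fun e => comap_injective (mk'_surjective L) (by rw [e, hK'])
        haveI : (N.map (mk' L)).Normal := Normal.map inferInstance _ (mk'_surjective L)
        have h5 := cent_of_ppow (N := N.map (mk' L)) hmin (p := p)
          (by rw [Lib.Core.card_map_mk'_eq_relIndex, ← he]; exact hpe.trans (dvd_pow_self e two_ne_zero)) (by
            rintro _ ⟨y, hy, rfl⟩
            obtain ⟨k, hk⟩ := hN y hy
            exact ⟨k, Hall.fitting_le_centralizer_of_minNormal hmin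
              (Core.map_fitting_le_of_surjective (mk'_surjective L) ⟨_, hk, map_pow _ _ _⟩)⟩)
        have h6 : centralizer {mk' L (g * x)} ⊓ K.map (mk' L) = centralizer {mk' L g} ⊓ K.map (mk' L) := by
          ext v
          simp only [mem_inf, mem_centralizer_singleton_iff]
          refine and_congr_left fun hv => ?_
          have := h5 hv _ ⟨x, hx, rfl⟩
          rw [map_mul, mul_assoc, this, ← mul_assoc, ← mul_assoc, mul_left_inj]
        beta_reduce
        rw [a2 g x hx, ← inf_relIndex_right, h6, inf_relIndex_right]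
      · rw [Finset.prod_mul_distrib]
        exact mul_dvd_mul a3 ((pow_dvd_pow_of_dvd (Nat.ordProj_dvd e p) _).trans (dvd_prod hL he))
    · refine ⟨a, fun g => ((a1 g).mul_right _).trans (relIndex_dvd hL.lt.le g), a2, ?_⟩
      rwa [Nat.factorization_eq_zero_of_not_dvd hpe, pow_zero, one_pow, mul_one]
  · have hφ' := irrOn_of_mem hφ
    refine (hL.lt.ne (he.symm.trans ((inertia_eq_iff (hL.nL.mono le_top)).2
      (((hχ.homog_iff le_top hL.nL hφ' (h3 ?_)).1 (hom L hL.nL)).mono le_top le_rfl)))).elim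
    rw [← dot_ind_right hL.lt.le hθ.classOn, h, dot_cut_right, hθ.dot_self]
    exact one_ne_zero

theorem exists_coset [Group.IsSolvable G] {χ : G → ℂ} (hχ : IrrOn ⊤ χ) (hp : ¬ IndFrom ⊥ ⊤ χ) (p : ℕ) [Fact p.Prime]
    (N : Subgroup G) [N.Normal] (hN : ∀ g ∈ N, ∃ k, g ^ p ^ k ∈ fittingSubgroup G) :
    ∃ g : G, ∀ n ∈ N, (charDegree χ).factorization p ≤ ((centralizer {g * n}).index).factorization p := by
  obtain ⟨a, a1, a2, h⟩ := exists_fun hχ hp p N hN ⊤ (nrm_self _) hχ (hχ.dot_self ▸ one_ne_zero)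
  simp only [relIndex_top_right] at a1
  have h0 : ∀ g ∈ Finset.univ, a g ≠ 0 := fun g _ => ne_zero_of_dvd_ne_zero FiniteIndex.index_ne_zero (a1 g)
  have h1 := (Nat.factorization_le_iff_dvd (pow_pos (pow_pos (Fact.out : p.Prime).pos _) _).ne'
    (Finset.prod_ne_zero_iff.2 h0)).2 h p
  rw [Nat.factorization_prod h0, Nat.factorization_pow, Finsupp.smul_apply, Finset.sum_apply',
    Nat.card_eq_fintype_card, ← Finset.card_univ, ← Finset.sum_const] at h1
  obtain ⟨g, -, hg⟩ := Finset.exists_le_of_sum_le Finset.univ_nonempty h1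
  rw [(Fact.out : p.Prime).factorization_pow, Finsupp.single_eq_same] at hg
  refine ⟨g, fun n hn => hg.trans ?_⟩
  rw [← a2 g n hn]
  exact (Nat.factorization_le_iff_dvd (h0 _ (Finset.mem_univ _)) FiniteIndex.index_ne_zero).2 (a1 _) p

/-- Let G be a group of odd order whose order has exactly two prime divisors and whose quotient by its Fitting subgroup is nilpotent (G is metanilpotent), and let χ be a primitive irreducible complex character of G (not induced from a character of any proper subgroup). Then χ(1) divides the size of some conjugacy class of G. -/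
theorem result {G : Type*} [Group G] [Fintype G] (hodd : Odd (Nat.card G)) (h2 : (Nat.card G).primeFactors.card = 2) [hF : (Cfsg.fittingSubgroup G).Normal] (hmeta : Group.IsNilpotent (G ⧸ Cfsg.fittingSubgroup G)) (χ : Cfsg.IrrCharacter G) (hprim : ¬ ∃ (H : Subgroup G), H ≠ ⊤ ∧ ∃ θ : ↥H → ℂ, Cfsg.IsCharacter ↥H θ ∧ Cfsg.indFun H θ = (χ : G → ℂ)) : ∃ g : G, Cfsg.charDegree (χ : G → ℂ) ∣ (Subgroup.centralizer ({g} : Set G)).index := by
  haveI := Lib.FT.odd_order_solvable G hodd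
  have hχ := irrOn_top.2 χ.2
  have hp : ¬ IndFrom ⊥ ⊤ (χ : G → ℂ) := fun ⟨T, _, hT, ψ, hψ, e⟩ => hprim ⟨T, hT.ne, res T ψ,
    (irrOn_of_mem hψ).charOn, by rw [indFun_res, e, cut_top]⟩
  obtain ⟨p, q, hpq, e⟩ := Finset.card_eq_two.1 h2
  haveI : Fact p.Prime := ⟨Nat.prime_of_mem_primeFactors (n := Nat.card G) (by rw [e]; simp)⟩
  haveI : Fact q.Prime := ⟨Nat.prime_of_mem_primeFactors (n := Nat.card G) (by rw [e]; simp)⟩
  set F := fittingSubgroup G
  have hN : ∀ r : ℕ, ∀ g ∈ (pCore r (G ⧸ F)).comap (mk' F), ∃ k, g ^ r ^ k ∈ F := fun r g hg => by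
    obtain ⟨k, hk⟩ := Core.isPGroup_pCore r (G ⧸ F) ⟨_, hg⟩
    exact ⟨k, (eq_one_iff _).1 (congrArg Subtype.val hk)⟩
  obtain ⟨x, hx⟩ := exists_coset hχ hp p _ (hN p)
  obtain ⟨y, hy⟩ := exists_coset hχ hp q _ (hN q)
  have hs : pCore p (G ⧸ F) ⊔ pCore q (G ⧸ F) = ⊤ := by
    rw [eq_top_iff, ← Core.fitting_eq_top_iff.2 hmeta, Core.fitting_eq_iSup_pCore]
    refine iSup_le fun r => ?_
    by_cases h0 : pCore (r : ℕ) (G ⧸ F) = ⊥
    · rw [h0]; exact bot_le
    · haveI := Fact.mk r.2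
      haveI := (nontrivial_iff_ne_bot _).2 h0
      obtain ⟨n, hn, e'⟩ := (Core.isPGroup_pCore r (G ⧸ F)).nontrivial_iff_card.1 inferInstance
      have : (r : ℕ) ∈ (Nat.card G).primeFactors := r.2.mem_primeFactors ((e' ▸ dvd_pow_self _ hn.ne').trans
        ((card_subgroup_dvd_card _).trans (card_quotient_dvd_card F))) Nat.card_pos.ne'
      rw [e, Finset.mem_insert, Finset.mem_singleton] at this
      rcases this with h | h <;> rw [h]
      · exact le_sup_left
      · exact le_sup_right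
  obtain ⟨u, hu, v, hv, e'⟩ := mem_sup_of_normal_right.1 (hs ▸ mem_top (mk' F (x⁻¹ * y)))
  obtain ⟨u, rfl⟩ := mk'_surjective F u
  have hv' : y⁻¹ * (x * u) ∈ (pCore q (G ⧸ F)).comap (mk' F) := by
    rw [mem_comap, ← inv_mem_iff]
    convert hv using 1
    rw [← mul_right_inj (mk' F u), e', ← map_inv, ← map_mul]; congr 1; group
  refine ⟨x * u, (Nat.factorization_prime_le_iff_dvd hχ.deg_pos.ne' FiniteIndex.index_ne_zero).1 fun r hr => ?_⟩
  by_cases hd : r ∣ charDegree (χ : G → ℂ)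
  · have : r ∈ (Nat.card G).primeFactors := hr.mem_primeFactors (hd.trans (card_top (G := G) ▸ hχ.deg_dvd_card)) Nat.card_pos.ne'
    rw [e, Finset.mem_insert, Finset.mem_singleton] at this
    rcases this with rfl | rfl
    · exact hx u hu
    · have := hy _ hv'
      rwa [mul_inv_cancel_left] at this
  · rw [Nat.factorization_eq_zero_of_not_dvd hd]; exact Nat.zero_le _

end Cfsg.Agent.S4993
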