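import Cfsg.Statements.S4994
import Cfsg.Agent.S4991

set_option autoImplicit false
open Cfsg

namespace Cfsg.Agent.S4994

open Cfsg.Lib.Clifford Cfsg.Lib.Coprime Subgroup

/-- Let G be a finite solvable group, χ a primitive irreducible complex character of G (not induced from a character of any proper subgroup) and p a prime dividing the order of G. Then there is an element g of G such that the p-part of χ(1) divides the cube of the p-part of the size of the conjugacy class of g. -/
theorem result {G : Type*} [Group G] [Fintype G] (hsolv : Group.IsSolvable G) (χ : Cfsg.IrrCharacter G) (hprim : ¬ ∃ (H : Subgroup G), H ≠ ⊤ ∧ ∃ θ : ↥H → ℂ, Cfsg.IsCharacter ↥H θ ∧ Cfsg.indFun H θ = (χ : G → ℂ)) (p : ℕ) [Fact p.Prime] (hp : p ∣ Nat.card G) : ∃ g : G, (Cfsg.charDegree (χ : G → ℂ)).factorization p ≤ 3 * ((Subgroup.centralizer ({g} : Set G)).index).factorization p := by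
  have hχ := irrOn_top.2 χ.2
  have h := S4991.deg_pow_dvd hχ (fun ⟨T, _, hT, ψ, hψ, e⟩ => hprim ⟨T, hT.ne, res T ψ,
    (irrOn_of_mem hψ).charOn, by rw [indFun_res, e, cut_top]⟩) ⊤ (nrm_self _) hχ
    (hχ.dot_self ▸ one_ne_zero)
  simp only [relIndex_top_right] at h
  have h0 : ∀ g ∈ Finset.univ, (centralizer ({g} : Set G)).index ≠ 0 := fun g _ =>
    FiniteIndex.index_ne_zero
  have h1 := (Nat.factorization_le_iff_dvd (pow_pos hχ.deg_pos _).ne'
    (Finset.prod_ne_zero_iff.2 h0)).2 h p
  rw [Nat.factorization_prod h0, Nat.factorization_pow, Finsupp.smul_apply, Finset.sum_apply',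
    Nat.card_eq_fintype_card, ← Finset.card_univ, ← Finset.sum_const] at h1
  obtain ⟨g, -, hg⟩ := Finset.exists_le_of_sum_le Finset.univ_nonempty h1
  exact ⟨g, hg.trans (by omega)⟩

end Cfsg.Agent.S4994
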