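import Cfsg.Statements.S4996
import Cfsg.Agent.Lib.Clifford.Count

set_option autoImplicit false
open Cfsg

namespace Cfsg.Agent.S4996

open Cfsg.Lib Cfsg.Lib.Clifford Cfsg.Lib.Char Finset

/-- Let N be a normal subgroup of the finite group G and χ an irreducible complex character of G. Then the restriction of χ to N is not irreducible if and only if χ vanishes on some whole coset Nx of N in G. -/
theorem result {G : Type*} [Group G] [Finite G] (N : Subgroup G) [N.Normal] (χ : Cfsg.IrrCharacter G) : ¬ Cfsg.IsIrrCharacter ↥N (fun n : ↥N => (χ : G → ℂ) n) ↔ ∃ x : G, ∀ n : ↥N, (χ : G → ℂ) ((n : G) * x) = 0 := by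
  classical
  have := Fintype.ofFinite G
  have hχ := irrOn_top.2 χ.2
  have hN := nrm_of_normal ⊤ N
  have hc := hχ.charOn.mul hχ.charOn.star
  have h1 := fun x => hc.classOn.avg_coset le_top hN (Subgroup.mem_top x)
  have h2 : ∀ x, (Nat.card N : ℂ)⁻¹ * ∑ n ∈ elems N, ((χ : G → ℂ) * star (χ : G → ℂ)) (n * x) =
      (((Nat.card N : ℝ)⁻¹ * ∑ n ∈ elems N, ‖(χ : G → ℂ) (n * x)‖ ^ 2 : ℝ) : ℂ) := fun x => by
    push_cast
    congr 1
    exact sum_congr rfl fun n _ => Complex.mul_conj' _
  have hN0 : (0 : ℝ) < Nat.card N := by exact_mod_cast Nat.card_pos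
  constructor
  · intro h
    by_contra hz
    push Not at hz
    refine h ?_
    have hg : IsGeneralizedCharacter G
        (∑ β ∈ IrrKer ⊤ N, dot ⊤ ((χ : G → ℂ) * star (χ : G → ℂ)) β • β) := by
      refine genOn_top.1 (genOn_sum _ fun β hβ => ?_)
      have hβ := irrOn_of_mem (IrrKer_subset hβ)
      rw [hc.genOn.dot_eq_coef hβ.genOn]
      exact hβ.genOn.smul _
    have h3 := eq_one_of_pos_of_sum hg
      (fun x => (Nat.card N : ℝ)⁻¹ * ∑ n ∈ elems N, ‖(χ : G → ℂ) (n * x)‖ ^ 2)
      (fun x => by rw [← h2, h1]; simp) (fun x => by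
        obtain ⟨n, hn⟩ := hz x
        exact mul_pos (inv_pos.2 hN0) (sum_pos' (fun _ _ => by positivity)
          ⟨n, mem_elems.2 n.2, by positivity⟩)) (by
        rw [← mul_sum, sum_comm, sum_congr rfl (g := fun _ => (Nat.card G : ℝ)) fun n _ => by
          rw [← χ.2.sum_norm_sq]
          exact Fintype.sum_equiv (Equiv.mulLeft n) _ _ fun _ => rfl]
        rw [sum_const, card_elems, nsmul_eq_mul, ← mul_assoc, inv_mul_cancel₀ hN0.ne', one_mul,
          Nat.card_eq_fintype_card]) 1
    refine (hχ.charOn.mono le_top : CharOn N _).irrOn_of_dot_self ?_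
    rw [dot_self_eq, ← h3]
    have := h2 1
    simp only [mul_one] at this
    rw [← this]
    have := h1 1
    simp only [mul_one] at this
    rw [this]; simp
  · rintro ⟨x, hx⟩ h
    have hi : IrrOn N (χ : G → ℂ) := h
    have h3 := h1 x
    rw [sum_eq_zero fun n hn => by simp [hx ⟨n, mem_elems.1 hn⟩], mul_zero,
      sum_eq_single_of_mem (cut ⊤ 1) (cut_one_mem_IrrKer le_top)] at h3
    · rw [cut_top, dot_mul_left] at h3
      simp [hχ.dot_self] at h3
    · intro β hβ hne
      obtain ⟨hβ, ht⟩ := mem_IrrKer.1 hβ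
      have h4 := dot_mul_ext le_top hN hχ.charOn hi (irrOn_one ⊤) (irrOn_of_mem hβ) (triv_one N) ht
      rw [one_mul, ← dot_cut_left ⊤ 1, dot_irr_of_ne (cut_one_mem ⊤) hβ hne.symm] at h4
      rw [dot_mul_left, star_star, h4, zero_mul]

end Cfsg.Agent.S4996
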