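import Cfsg.Statements.S4997
import Cfsg.Agent.Lib.Hall.NV

set_option autoImplicit false
open Cfsg

namespace Cfsg.Agent.S4997

open scoped Pointwise commutatorElement
open Cfsg.Lib Cfsg.Lib.Hall

/-- Let p be an odd prime and G a finite solvable group with exactly one conjugacy class consisting of vanishing elements (elements at which some irreducible complex character is zero) of order divisible by p. Let P be a Sylow p-subgroup of G. Then the order of P is at most p times the order of the largest normal p-subgroup of G. -/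
theorem result {G : Type*} [Group G] [Finite G] (hsolv : Group.IsSolvable G) (p : ℕ) [Fact p.Prime] (hp : p ≠ 2) (h1 : Set.ncard {C : ConjClasses G | (∀ g ∈ C.carrier, ∃ χ : Cfsg.IrrCharacter G, (χ : G → ℂ) g = 0) ∧ ∃ g ∈ C.carrier, p ∣ orderOf g} = 1) (P : Sylow p G) : Nat.card ↥(P : Subgroup G) ≤ p * Nat.card ↥(Cfsg.pCore p G) := by
  obtain ⟨C, hC⟩ := Set.ncard_eq_one.1 h1
  have hp : p.Prime := Fact.out
  have key : ∀ x : G, NV.Van x → p ∣ orderOf x → ConjClasses.mk x = C := by
    intro x ⟨χ, hχ⟩ hx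
    rw [← Set.mem_singleton_iff, ← hC]
    refine ⟨fun g hg => ⟨χ, ?_⟩, x, ConjClasses.mem_carrier_mk, hx⟩
    rw [ConjClasses.mem_carrier_iff_mk_eq, ConjClasses.mk_eq_mk_iff_isConj] at hg
    rw [Char.Cfsg.IsClassFunction.eq_of_isConj (Char.Cfsg.IsIrrCharacter.isClassFunction χ.2) hg, hχ]
  have hQ : NV.Q p G := NV.Q.of_eq hp fun x y hx hy h1 h2 => by
    obtain ⟨c, rfl⟩ := isConj_iff.1 (ConjClasses.mk_eq_mk_iff_isConj.1 ((key x hx h1).trans (key y hy h2).symm))
    exact ((MulAut.conj c).orderOf_eq x).symm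
  have h2 := NV.rel_dvd hp hQ P.isPGroup'
  rw [← ((pCore p G).subgroupOf P).card_mul_index, Nat.card_congr (Subgroup.subgroupOfEquivOfLe (Core.pCore_le_sylow P)).toEquiv,
    mul_comm]
  exact Nat.mul_le_mul_right _ (Nat.le_of_dvd hp.pos h2)

end Cfsg.Agent.S4997
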