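import Cfsg.Statements.S5001
import Cfsg.Agent.Lib.Block2.Num

set_option autoImplicit false
open Cfsg

namespace Cfsg.Agent.S5001

/-- Let p be a prime, G a finite group and B a p-block of G (relative to a maximal ideal M of the algebraic integers containing p) with defect group D. Let Z be a central p-subgroup of G contained in D and λ a linear character of Z (a homomorphism to the nonzero complex numbers). Say an irreducible character χ of G lies over λ when χ(z) = χ(1)λ(z) for all z ∈ Z. If some irreducible character in B lying over λ has height zero, then λ extends to a linear character of D. -/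
theorem result {G : Type*} [Group G] [Finite G] (p : ℕ) [Fact p.Prime] (M : Ideal Cfsg.AlgInt) (hM : Cfsg.IsPModular p M) (B : Set (Cfsg.IrrCharacter G)) (hB : Cfsg.IsPBlock M B) (D : Subgroup G) (hD : Cfsg.IsDefectGroup p M B D) (Z : Subgroup G) (hZc : Z ≤ Subgroup.center G) (hZp : IsPGroup p ↥Z) (hZD : Z ≤ D) (lam : ↥Z →* ℂˣ) (χ : Cfsg.IrrCharacter G) (hχ : χ ∈ B) (hover : (∀ z : ↥Z, (χ : G → ℂ) z = (χ : G → ℂ) 1 * (lam z : ℂ))) (h0 : Cfsg.blockHeight p B (χ : G → ℂ) = 0) : (∃ μ : ↥D →* ℂˣ, ∀ z : ↥Z, μ ⟨(z : G), hZD z.2⟩ = lam z) := by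
  open Cfsg.Lib Cfsg.Lib.Block Cfsg.Lib.Block2 Cfsg.Lib.Char Cfsg.Lib.Amalg in
  have := hM.2.1
  obtain ⟨y, hy, hD'⟩ := isDefectGroup_iff.1 hD
  have hyC : y ∈ Subgroup.centralizer ({y} : Set G) := Subgroup.mem_centralizer_singleton_iff.2 rfl
  obtain ⟨ξ, h1, h2⟩ := exists_over_not_dvd hM (Subgroup.centralizer ({y} : Set G)).subtype
    χ.2.isCharacter (k := ⟨y, hyC⟩) (Subgroup.mem_center_iff.2 fun g => Subtype.ext
      (Subgroup.mem_centralizer_singleton_iff.1 g.2)) ((height_zero_iff_notMem hM hB hy hχ).1 h0)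
  obtain ⟨μ, h3, h4⟩ := exists_over_not_dvd hM (Subgroup.inclusion hD'.le) ξ.2.isCharacter
    (Subgroup.one_mem _) (by rwa [map_one, ← irr_cast_deg, memLocalIdeal_natCast_iff hM])
  have h5 := degree_eq_one_of_isPGroup hD'.isPGroup h4
  obtain ⟨ν, hν⟩ := μ.2.isCharacter.exists_linear_of_degree_one h5
  refine ⟨ν, fun z => Units.ext ?_⟩
  have h6 := (h1.trans χ.2.isCharacter h3).apply_eq_of_center (k := ⟨z, hZD z.2⟩)
    (Subgroup.mem_center_iff.2 fun g => Subtype.ext (Subgroup.mem_center_iff.1 (hZc z.2) g))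
    (hZc z.2)
  rw [h5, div_one, hν] at h6
  exact h6.symm.trans
    ((congrArg (· / _) (hover z)).trans (mul_div_cancel_left₀ _ χ.2.apply_one_ne_zero))

end Cfsg.Agent.S5001
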