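import Cfsg.Statements.S5011
import Cfsg.Agent.Lib.Char.Center

set_option autoImplicit false
open Cfsg

namespace Cfsg.Agent.S5011

open Cfsg.Lib Cfsg.Lib.Char

/-- Let G be a finite non-abelian simple group and ρ an irreducible complex representation of G on a space of dimension greater than one (irreducible in the sense that the only subspaces invariant under every ρ(x) are 0 and the whole space). Then for every non-identity element g of G, the centralizer of g does not act irreducibly: there is a non-zero proper subspace invariant under ρ(c) for every c commuting with g. -/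
theorem result {G : Type*} [Group G] [Finite G] [IsSimpleGroup G]
    (hG : ¬ IsMulCommutative G) {V : Type*} [AddCommGroup V] [Module ℂ V] [FiniteDimensional ℂ V]
    (ρ : Representation ℂ G V)
    (hirr : ∀ W : Submodule ℂ V, (∀ x : G, ∀ v ∈ W, ρ x v ∈ W) → W = ⊥ ∨ W = ⊤)
    (hdim : 1 < Module.finrank ℂ V) (g : G) (hg : g ≠ 1) :
    ∃ W : Submodule ℂ V, W ≠ ⊥ ∧ W ≠ ⊤ ∧ ∀ c ∈ Subgroup.centralizer ({g} : Set G), ∀ v ∈ W, ρ c v ∈ W := by
  have : Nontrivial V := Module.nontrivial_of_finrank_pos (by omega : 0 < Module.finrank ℂ V)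
  obtain ⟨c, hc⟩ := Module.End.exists_eigenvalue (ρ g)
  refine ⟨Module.End.eigenspace (ρ g) c, hc, fun ht => ?_, fun x hx v hv => ?_⟩
  · have h1 : g ∈ charCenter ρ.character := (mem_charCenter_character ρ).2 ⟨c, LinearMap.ext fun v =>
      Module.End.mem_eigenspace_iff.1 (ht ▸ Submodule.mem_top)⟩
    have h2 := ((isCharacter_character ρ).isClassFunction.charCenter_normal.eq_bot_or_eq_top).resolve_left
      fun e => hg (Subgroup.mem_bot.1 (e ▸ h1))
    obtain ⟨v, hv⟩ := exists_ne (0 : V)
    rcases hirr (Submodule.span ℂ {v}) (fun x w hw => by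
      obtain ⟨ω, hω⟩ := (mem_charCenter_character ρ).1 (h2 ▸ Subgroup.mem_top x)
      rw [hω]; exact Submodule.smul_mem _ _ hw) with e | e
    · exact hv (Submodule.span_singleton_eq_bot.1 e)
    · have := finrank_span_singleton (K := ℂ) hv
      rw [e, finrank_top] at this
      omega
  · rw [Module.End.mem_eigenspace_iff] at hv ⊢
    rw [← Module.End.mul_apply, ← map_mul, ← Subgroup.mem_centralizer_singleton_iff.1 hx, map_mul,
      Module.End.mul_apply, hv, map_smul]

end Cfsg.Agent.S5011
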