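import Cfsg.Statements.S5014
import Cfsg.Agent.Lib.Root.RankOne

set_option autoImplicit false
open Cfsg

namespace Cfsg.Agent.S5014

open Cfsg.Lib.Root Cfsg.Lib.Transfer

/-- Let X = ⟨A, B⟩ be a rank one group with unipotent subgroups A and B and let Ω be the set of conjugates of A under X. Then Ω has at least three members, X acts doubly transitively on Ω by conjugation (any two ordered pairs of distinct members are carried to one another by a single element of X), and A acts regularly on Ω with A removed: for C, D in Ω different from A there is exactly one element of A conjugating C to D. -/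
theorem result {G : Type*} [Group G] {A B : Subgroup G} (h : Cfsg.IsRankOnePair A B) :
    (∃ C₁ ∈ Cfsg.unipotentSubgroups A B, ∃ C₂ ∈ Cfsg.unipotentSubgroups A B, ∃ C₃ ∈ Cfsg.unipotentSubgroups A B,
      C₁ ≠ C₂ ∧ C₁ ≠ C₃ ∧ C₂ ≠ C₃) ∧
    (∀ C₁ ∈ Cfsg.unipotentSubgroups A B, ∀ C₂ ∈ Cfsg.unipotentSubgroups A B, ∀ D₁ ∈ Cfsg.unipotentSubgroups A B,
      ∀ D₂ ∈ Cfsg.unipotentSubgroups A B, C₁ ≠ C₂ → D₁ ≠ D₂ →
        ∃ x ∈ A ⊔ B, Cfsg.conjBy C₁ x = D₁ ∧ Cfsg.conjBy C₂ x = D₂) ∧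
    (∀ C ∈ Cfsg.unipotentSubgroups A B, ∀ D ∈ Cfsg.unipotentSubgroups A B, C ≠ A → D ≠ A →
      ∃! a : G, a ∈ A ∧ Cfsg.conjBy C a = D) := by
  refine ⟨?_, fun C₁ h1 C₂ h2 D₁ h3 D₂ h4 hc hd => ?_, fun C hC D hD h1 h2 => ?_⟩
  · obtain ⟨a, ha, h1⟩ := h.exists_ne_one
    exact ⟨A, IsRankOnePair.left_mem, B, h.right_mem, _, IsRankOnePair.cj_mem (Subgroup.mem_sup_left ha) h.right_mem,
      h.ne, fun e => h.ne (cj_inj.1 ((cj_eq_of_mem ha).trans e)), (h.cj_right ha h1).1.ne⟩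
  · obtain ⟨x, hx, rfl, rfl⟩ := h.two h1 h2 hc
    obtain ⟨y, hy, rfl, rfl⟩ := h.two h3 h4 hd
    exact ⟨y * x⁻¹, mul_mem hy (inv_mem hx), by simp only [conjBy_eq, cj_mul, cj_inv_cj, and_self]⟩
  · obtain ⟨c, hc, rfl⟩ := (h.mem_iff.1 hC).resolve_left h1
    obtain ⟨d, hd, rfl⟩ := (h.mem_iff.1 hD).resolve_left h2
    exact ⟨d * c⁻¹, ⟨mul_mem hd (inv_mem hc), by simp only [conjBy_eq, cj_mul, cj_inv_cj]⟩, fun a ha =>
      eq_mul_inv_of_mul_eq (h.inj (mul_mem ha.1 hc) hd ((cj_mul _ _ _).trans ha.2))⟩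

end Cfsg.Agent.S5014
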