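import Cfsg.Statements.S5020
import Cfsg.Agent.Lib.Root.SL2

set_option autoImplicit false
open Cfsg

namespace Cfsg.Agent.S5020

open Cfsg.Lib.Root Cfsg.Lib.Transfer Subgroup

/-- Let X be a special rank one group with abelian unipotent subgroups A and B, and H = N(A) ∩ N(B) its diagonal subgroup. Then either A has at most three elements and X is isomorphic to SL₂(2), SL₂(3) or PSL₂(3); or X = X' A with the commutator subgroup X' quasisimple and the commutator subgroup ⁅A, H⁆ having more than three elements. -/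
theorem result {X : Type*} [Group X] {A B : Subgroup X} (h : Cfsg.IsRankOneGroup X A B)
    (hs : Cfsg.IsSpecialRankOnePair A B) (hab : Cfsg.HasAbelianUnipotents A B) :
    (ENat.card A ≤ 3 ∧ (Nonempty (X ≃* Matrix.SpecialLinearGroup (Fin 2) (ZMod 2)) ∨
        Nonempty (X ≃* Matrix.SpecialLinearGroup (Fin 2) (ZMod 3)) ∨
        Nonempty (X ≃* Matrix.ProjectiveSpecialLinearGroup (Fin 2) (ZMod 3)))) ∨
    (commutator X ⊔ A = ⊤ ∧ Cfsg.IsQuasisimple (commutator X) ∧
      3 < ENat.card ↥(⁅A, Cfsg.rankOneDiagonal A B⁆ : Subgroup X)) := by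
  have := hab.1
  have H := sp_iff.1 hs
  refine (le_or_gt (ENat.card A) 3).imp (fun h3 => ⟨h3, ?_⟩) fun h3 => ?_
  · have : Finite A := ENat.card_lt_top.1 (h3.trans_lt (by decide))
    obtain ⟨a, ha, h1⟩ := h.2.exists_ne_one
    obtain ⟨b, q⟩ := h.2.exists_pt ha h1
    obtain ⟨p, hp, hA⟩ := H.elem_or.resolve_right fun e => e a ha h1
      (Submonoid.isOfFinOrder_coe.2 (isOfFinOrder_of_finite (⟨a, ha⟩ : A)))
    have := Fact.mk hp
    have h4 : Nat.card A ≤ 3 := by rwa [ENat.card_eq_coe_natCard, Nat.cast_le_ofNat] at h3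
    have key : ∀ {C : Subgroup X} {c}, c ∈ C → c ≠ 1 → c ^ p = 1 → Nat.card C = Nat.card A → zpowers c = C ∧ p ≤ 3 := by
      intro C c hc h1 h2 h5
      have : Finite C := Nat.finite_of_card_ne_zero (h5 ▸ Nat.card_pos.ne')
      have h6 := card_dvd_of_le (zpowers_le.2 hc)
      have h7 := Nat.card_zpowers c
      rw [orderOf_eq_prime h2 h1] at h7
      have := Nat.le_of_dvd Nat.card_pos h6
      have := hp.two_le
      refine ⟨eq_of_le_of_card_ge (zpowers_le.2 hc) ?_, by omega⟩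
      obtain ⟨k, hk⟩ := h6
      rw [h7] at hk ⊢
      obtain _ | _ | k := k <;> nlinarith
    obtain ⟨w, -, hw⟩ := h.2.exists_cj
    have e := iso_of_psl2 (H.psl2_prime hA q)
    obtain ⟨e1, h5⟩ := key ha h1 (hA a ha) rfl
    rw [e1, (key q.r (q.symm.ne_one h.2.ne.symm) (H.pow_eq_one q (hA a ha)) (hw ▸ card_cj _ _)).1, h.1] at e
    obtain rfl | rfl : p = 2 ∨ p = 3 := by have := hp.two_le; omega
    · obtain ⟨e⟩ := e.resolve_right fun e => e.1 rfl
      exact Or.inl ⟨topEquiv.symm.trans e⟩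
    · exact Or.inr (e.imp (fun ⟨e⟩ => ⟨topEquiv.symm.trans e⟩) fun ⟨_, ⟨e⟩⟩ => ⟨topEquiv.symm.trans e⟩)
  · have e : commutator X = ⊤ := by
      have := H.sup_le_commutator h3
      rwa [h.1, top_le_iff] at this
    refine ⟨by rw [e, top_sup_eq], ?_, h3.trans_le (Set.encard_le_encard (H.le_commutator h3))⟩
    rw [e]
    exact Lib.Layer.IsQuasisimple.of_mulEquiv (h.2.isQuasisimple h.1 ⟨e⟩) topEquiv.symm

end Cfsg.Agent.S5020
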