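import Cfsg.Statements.S5023
import Cfsg.Agent.Lib.Root.RankOne

set_option autoImplicit false
open Cfsg

namespace Cfsg.Agent.S5023

open Cfsg.Lib.Root Cfsg.Lib.Transfer

/-- Let X be a rank one group with unipotent subgroups A and B that acts faithfully on an abelian group V (written additively) with A acting quadratically: a' • (a • v − v) = a • v − v for all a, a' in A and v in V. Then A is either torsion-free or an elementary abelian p-group for some prime p. -/
theorem result {X : Type*} [Group X] {A B : Subgroup X} (h : Cfsg.IsRankOneGroup X A B)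
    {V : Type*} [AddCommGroup V] [DistribMulAction X V] (hf : ∀ x : X, (∀ v : V, x • v = v) → x = 1)
    (hq : ∀ a ∈ A, ∀ a' ∈ A, ∀ v : V, a' • (a • v - v) = a • v - v) :
    (∀ a ∈ A, a ≠ 1 → ¬ IsOfFinOrder a) ∨ ∃ p : ℕ, p.Prime ∧ Cfsg.IsElementaryAbelian p A := by
  have key : ∀ x y : X, (∀ v : V, y • (x • v - v) = x • v - v) → (∀ v : V, x • (y • v - v) = y • v - v) →
      x * y = y * x := fun x y h1 h2 => mul_inv_eq_one.1 (hf _ fun v => by
    rw [mul_smul, ← smul_inv_smul (y * x) v, inv_smul_smul, mul_smul, mul_smul, sub_eq_iff_eq_add.1 ((smul_sub _ _ _).symm.trans (h1 _)),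
      sub_eq_iff_eq_add.1 ((smul_sub _ _ _).symm.trans (h2 _))]
    abel)
  have : IsMulCommutative A := ⟨⟨fun a b => Subtype.ext (key _ _ (hq _ a.2 _ b.2) (hq _ b.2 _ a.2))⟩⟩
  refine ((sp_of_module (V := V) h.2 h.1 (fun a ha v a' ha' => hq a ha a' ha' v) ?_).elem_or.imp_left
    fun ⟨p, hp, h⟩ => ⟨p, hp, this, h⟩).symm
  by_contra! hn
  exact h.2.comm_ne_bot (comm_bot_iff.2 fun a _ b _ => key a b (hn a b) (hn b a))

end Cfsg.Agent.S5023
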