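import Cfsg.Statements.S5024
import Cfsg.Agent.Lib.Root.Sets

set_option autoImplicit false
open Cfsg

namespace Cfsg.Agent.S5024

open Cfsg.Lib.Root Cfsg.Lib.Transfer Subgroup

/-- Let S be a set of abstract root subgroups of G, A and C members of S, B a rank one partner of A in S and D a rank one partner of C in S. If the rank one group ⟨A, B⟩ is contained in ⟨C, D⟩ then the two coincide, and C and D are conjugates of A inside ⟨A, B⟩. -/
theorem result {G : Type*} [Group G] {S : Set (Subgroup G)} (hS : Cfsg.IsRootSubgroupSet S)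
    {A B C D : Subgroup G} (hA : A ∈ S) (hC : C ∈ S) (hB : B ∈ Cfsg.rankOnePartners S A) (hD : D ∈ Cfsg.rankOnePartners S C)
    (hle : A ⊔ B ≤ C ⊔ D) : A ⊔ B = C ⊔ D ∧ C ∈ Cfsg.unipotentSubgroups A B ∧ D ∈ Cfsg.unipotentSubgroups A B := by
  obtain ⟨a, ha, h1⟩ := hB.2.exists_ne_one
  obtain ⟨b, hb, h2⟩ := hB.2.symm.exists_ne_one
  have h3 := hB.2.not_commute ha h1 hb h2
  have h4 := hS.mem_unip hD.2 hC hA (le_sup_left.trans hle) ha (hle (mem_sup_right hb)) h3.symm
  have h5 := hS.mem_unip hD.2 hC hB.1 (le_sup_right.trans hle) hb (hle (mem_sup_left ha)) h3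
  rw [hD.2.unip_eq h4 h5 hB.2.ne]
  exact ⟨(hD.2.of_mem h4 h5 hB.2.ne).2, IsRankOnePair.left_mem, hD.2.right_mem⟩

end Cfsg.Agent.S5024
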