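import Cfsg.Statements.S5026
import Cfsg.Agent.Lib.Root.Sets

set_option autoImplicit false
open Cfsg

namespace Cfsg.Agent.S5026

open Cfsg.Lib.Root Cfsg.Lib.Transfer Subgroup

/-- Let S be a degenerate set of abstract root subgroups of G (a set of abstract transvection groups) and let a, b be commuting non-identity elements of members of S with a b ≠ 1. Then the members of S centralizing a b are exactly those centralizing both a and b. -/
theorem result {G : Type*} [Group G] {S : Set (Subgroup G)} (hS : Cfsg.IsRootSubgroupSet S) (hdeg : Cfsg.IsDegenerateRootSet S)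
    {a b : G} (ha : a ∈ Cfsg.rootElements S) (hb : b ∈ Cfsg.rootElements S) (hab : a * b = b * a) (hab1 : a * b ≠ 1) :
    Cfsg.centralizingMembers S (Subgroup.zpowers (a * b)) =
      Cfsg.centralizingMembers S (Subgroup.zpowers a) ∩ Cfsg.centralizingMembers S (Subgroup.zpowers b) := by
  have key : ∀ {a b : G} {E}, a ∈ rootElements S → b ∈ rootElements S → a * b = b * a → a * b ≠ 1 → E ∈ S →
      (∀ e ∈ E, a * b * e = e * (a * b)) → ∀ e ∈ E, a * e = e * a := by
    rintro a b E ⟨h1, A, hA, ha⟩ ⟨h2, B, hB, hb⟩ hab hab1 hE h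
    obtain h3 | h3 | h3 := hS.pair A hA E hE
    · exact comm_bot_iff.1 h3 a ha
    · have h4 := ((hS.pair A hA B hB).resolve_right fun e => e.elim (fun e => e.not_commute ha h1 hb h2 hab) (hdeg A hA B hB))
      refine absurd (mul_eq_one_iff_inv_eq'.2 (hS.eq_of_cj h3 hE hB (inv_mem hb) ha h1 ?_
        (cj_eq_of_commute fun a ha => (comm_bot_iff.1 h4 a ha _ (inv_mem hb)).symm)).2) hab1
      rw [eq_comm, cj_eq_cj_iff, inv_inv, ← hab, cj_eq_of_commute h]
    · exact absurd h3 (hdeg A hA E hE)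
  have e : ∀ {x : G} {E : Subgroup G}, E ≤ centralizer (zpowers x : Set G) ↔ ∀ e ∈ E, x * e = e * x := fun {x E} => by
    rw [le_centralizer_iff, zpowers_le, mem_centralizer_iff]
    exact ⟨fun h e he => (h e he).symm, fun h e he => (h e he).symm⟩
  refine Set.ext fun E => ⟨fun ⟨hE, h⟩ => ⟨⟨hE, e.2 (key ha hb hab hab1 hE (e.1 h))⟩,
    hE, e.2 (key hb ha hab.symm (hab ▸ hab1) hE (hab ▸ e.1 h))⟩, fun ⟨⟨hE, h1⟩, _, h2⟩ => ⟨hE, e.2 fun x hx => ?_⟩⟩
  rw [mul_assoc, e.1 h2 x hx, ← mul_assoc, e.1 h1 x hx, mul_assoc]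

end Cfsg.Agent.S5026
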