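import Cfsg.Statements.S5030
import Cfsg.Agent.Lib.Root.Chain

set_option autoImplicit false
open Cfsg

namespace Cfsg.Agent.S5030

open Cfsg.Lib.Root Cfsg.Lib.Transfer Subgroup Cfsg.Lib.Layer
open scoped commutatorElement

/-- Let S be a set of abstract root subgroups of G and A, B, C ∈ S with ⁅A, B⁆ ∈ S and ⁅B, C⁆ ∈ S, where A and C are different and commute. For a non-identity b ∈ B put X = ⟨A, b⁻¹ C b⟩ and Y = ⟨b⁻¹ A b, C⟩ and R = ⟨A, B, C⟩. Then X and Y are either both abelian or both nilpotent of class exactly two; X and Y commute elementwise; XY is normal in R with R = (XY) B; and R is nilpotent. -/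
theorem result {G : Type*} [Group G] {S : Set (Subgroup G)} (hS : Cfsg.IsRootSubgroupSet S)
    {A B C : Subgroup G} (hA : A ∈ S) (hB : B ∈ S) (hC : C ∈ S) (hAB : ⁅A, B⁆ ∈ S) (hBC : ⁅B, C⁆ ∈ S)
    (hAC : C ∈ Cfsg.commutingPartners S A)
    {b : G} (hb : b ∈ B) (hb1 : b ≠ 1) :
    ((IsMulCommutative ↥(A ⊔ Cfsg.conjBy C b⁻¹) ∧ IsMulCommutative ↥(Cfsg.conjBy A b⁻¹ ⊔ C)) ∨
      ((¬ IsMulCommutative ↥(A ⊔ Cfsg.conjBy C b⁻¹) ∧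
          ⁅⁅A ⊔ Cfsg.conjBy C b⁻¹, A ⊔ Cfsg.conjBy C b⁻¹⁆, A ⊔ Cfsg.conjBy C b⁻¹⁆ = ⊥) ∧
        (¬ IsMulCommutative ↥(Cfsg.conjBy A b⁻¹ ⊔ C) ∧
          ⁅⁅Cfsg.conjBy A b⁻¹ ⊔ C, Cfsg.conjBy A b⁻¹ ⊔ C⁆, Cfsg.conjBy A b⁻¹ ⊔ C⁆ = ⊥))) ∧
    ⁅A ⊔ Cfsg.conjBy C b⁻¹, Cfsg.conjBy A b⁻¹ ⊔ C⁆ = ⊥ ∧
    (∀ r ∈ A ⊔ B ⊔ C, Cfsg.conjBy ((A ⊔ Cfsg.conjBy C b⁻¹) ⊔ (Cfsg.conjBy A b⁻¹ ⊔ C)) r =
      (A ⊔ Cfsg.conjBy C b⁻¹) ⊔ (Cfsg.conjBy A b⁻¹ ⊔ C)) ∧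
    ((A ⊔ Cfsg.conjBy C b⁻¹) ⊔ (Cfsg.conjBy A b⁻¹ ⊔ C)) ⊔ B = A ⊔ B ⊔ C ∧
    Group.IsNilpotent ↥(A ⊔ B ⊔ C) := by
  have H := hS.cm hA hB hAB
  have H' := (hS.cm hB hC hBC).symm
  have h := hAC.2.2
  replace hb := inv_mem hb
  replace hb1 := inv_ne_one.2 hb1
  simp only [conjBy_eq]
  generalize b⁻¹ = b at hb hb1
  have s := @commutator_eq_bot_symm G _
  have n1 := class_two hS hA (hS.cj_mem hC b) (not_rk_chain hS hA hB hC H h hb hb1)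
  have n2 := class_two hS (hS.cj_mem hA b) hC fun e => not_rk_chain hS hC hB hA H' (s h) hb hb1 e.symm
  have e1 : ∀ b ∈ B, b ≠ 1 → (⁅A, cj b C⁆ = ⊥ ↔ ⁅A, C ⊔ ⁅C, B⁆⁆ = ⊥) := fun b hb hb1 => H'.sup_cj hb hb1 ▸
    ⟨fun e => s (commutator_sup_eq_bot (s h) (s e)), fun e => commutator_eq_bot_mono e le_rfl le_sup_right⟩
  have e2 : ⁅A, cj b C⁆ = ⊥ ↔ ⁅cj b A, C⁆ = ⊥ := by
    rw [e1 b hb hb1, ← e1 _ (inv_mem hb) (inv_ne_one.2 hb1), ← cj_eq_bot (g := b), cj_commutator, cj_cj_inv]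
  have e3 : ∀ P ∈ S, ∀ Q ∈ S, IsMulCommutative ↥(P ⊔ Q) ↔ ⁅P, Q⁆ = ⊥ := fun P hP Q hQ =>
    have := hS.commutative P hP
    have := hS.commutative Q hQ
    ⟨fun _ => comm_bot_iff.2 fun _ h _ h' => setLike_mul_comm (mem_sup_left h) (mem_sup_right h'),
      fun e => ⟨⟨fun x y => Subtype.ext (comm_sup_of_comm e x.2 y.2)⟩⟩⟩
  have e4 : ⁅A ⊔ cj b C, cj b A ⊔ C⁆ = ⊥ := commutator_sup_eq_bot
    (s (commutator_sup_eq_bot (s (hS.cj_comm hA hB (hS.not_rk_of_cm hA hB H) hb)) (s h)))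
    (s (commutator_sup_eq_bot (by rw [← cj_commutator, h, cj_bot]) (hS.cj_comm hC hB (hS.not_rk_of_cm hC hB H') hb)))
  have e5 : A ⊔ cj b C ⊔ (cj b A ⊔ C) = A ⊔ ⁅A, B⁆ ⊔ (C ⊔ ⁅C, B⁆) := by
    rw [← H.sup_cj hb hb1, ← H'.sup_cj hb hb1]; ac_rfl
  have e6 : ⁅⁅A ⊔ cj b C ⊔ (cj b A ⊔ C), A ⊔ cj b C ⊔ (cj b A ⊔ C)⁆, A ⊔ cj b C ⊔ (cj b A ⊔ C)⁆ = ⊥ :=
    commutator_eq_bot_iff_le_centralizer.2 (comm_sup_sup_le (fun x hx w hw => by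
      have := conj_mem_cj (g := x).2 hw
      rwa [cj_centralizer, cj_eq_of_mem hx] at this)
      (commutator_eq_bot_iff_le_centralizer.1 (s (commutator_sup_eq_bot (s n1)
        (commutator_eq_bot_mono (s e4) le_rfl (commutator_le_self _))))) (e4 ▸ bot_le)
      (commutator_eq_bot_iff_le_centralizer.1 (s (commutator_sup_eq_bot
        (commutator_eq_bot_mono e4 le_rfl (commutator_le_self _)) (s n2)))))
  have hb' : b ∈ A ⊔ B ⊔ C := mem_sup_left (mem_sup_right hb)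
  have l1 : A ≤ A ⊔ B ⊔ C := le_sup_left.trans le_sup_left
  refine ⟨?_, e4, fun r hr => ?_, le_antisymm (sup_le (sup_le (sup_le l1 ((cj_mono b le_sup_right).trans (cj_eq_of_mem hb').le))
    (sup_le ((cj_mono b l1).trans (cj_eq_of_mem hb').le) le_sup_right)) (le_sup_right.trans le_sup_left))
    (sup_le (sup_le (le_sup_left.trans (le_sup_left.trans le_sup_left)) le_sup_right)
      (le_sup_right.trans (le_sup_right.trans le_sup_left))), nil_of_uc (n := 4) ?_⟩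
  · have k1 := e3 _ hA _ (hS.cj_mem hC b)
    have k2 := (e3 _ (hS.cj_mem hA b) _ hC).trans e2.symm
    exact (em _).imp (fun e => ⟨k1.2 e, k2.2 e⟩) fun e => ⟨⟨mt k1.1 e, n1⟩, mt k2.1 e, n2⟩
  · have m : ∀ x y, cj x (A ⊔ cj b C ⊔ (cj b A ⊔ C)) = A ⊔ cj b C ⊔ (cj b A ⊔ C) →
        cj y (A ⊔ cj b C ⊔ (cj b A ⊔ C)) = A ⊔ cj b C ⊔ (cj b A ⊔ C) → _ := fun x y hx hy =>
      (cj_mul x y _).trans ((congrArg _ hy).trans hx)
    exact sup_ind hr (fun a ha => sup_ind ha (fun a ha => cj_eq_of_mem (mem_sup_left (mem_sup_left ha)))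
      (fun a ha => by rw [e5, cj_sup, H.cj_sup ha, H'.cj_sup ha]) m) (fun a ha => cj_eq_of_mem (mem_sup_right (mem_sup_right ha))) m
  · have u1 := chain_uc H H' e5.ge e6
    have u2 := chain_uc H' H ((sup_comm _ _).trans e5.symm).le e6
    rw [show C ⊔ B ⊔ A = A ⊔ B ⊔ C by ac_rfl] at u2
    have c : ∀ P ∈ S, ∀ x ∈ P, ∀ y ∈ P, ⁅x, y⁆ ∈ uc (A ⊔ B ⊔ C) 3 := fun P hP x hx y hy =>
      comm_eq_one.2 (hS.comm hP hx hy) ▸ one_mem _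
    exact sup_le (sup_le (fun x hx => mem_uc_sup (l1 hx) (c A hA x hx) (fun y hy => u1 (commutator_mem_commutator hx hy))
        fun y hy => comm_eq_one.2 (comm_bot_iff.1 h x hx y hy) ▸ one_mem _)
      fun x hx => mem_uc_sup (mem_sup_left (mem_sup_right hx)) (fun y hy => u1 (commutator_comm B A ▸ commutator_mem_commutator hx hy))
        (c B hB x hx) fun y hy => u2 (commutator_comm B C ▸ commutator_mem_commutator hx hy))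
      fun x hx => mem_uc_sup (mem_sup_right hx) (fun y hy => comm_eq_one.2 (comm_bot_iff.1 h y hy x hx).symm ▸ one_mem _)
        (fun y hy => u2 (commutator_mem_commutator hx hy)) (c C hC x hx)

end Cfsg.Agent.S5030
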