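import Cfsg.Statements.S5031
import Cfsg.Agent.Lib.Root.Lines

set_option autoImplicit false
open Cfsg

namespace Cfsg.Agent.S5031

open Cfsg.Lib.Root Cfsg.Lib.Transfer Subgroup

/-- Let S be a set of abstract root subgroups of G and let A, B ∈ S lie in different connected components of the graph of rank one pairs on S, each component having more than one member. Then B is not a line partner of A. -/
theorem result {G : Type*} [Group G] {S : Set (Subgroup G)} (hS : Cfsg.IsRootSubgroupSet S)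
    {A B : Subgroup G} (hA : A ∈ S) (hB : B ∈ S)
    (hne : Cfsg.componentOf (Cfsg.FAdj S) S A ≠ Cfsg.componentOf (Cfsg.FAdj S) S B)
    (hA2 : ∃ A' ∈ Cfsg.componentOf (Cfsg.FAdj S) S A, A' ≠ A) (hB2 : ∃ B' ∈ Cfsg.componentOf (Cfsg.FAdj S) S B, B' ≠ B) :
    B ∉ Cfsg.linePartners S A := by
  intro h
  obtain ⟨_, h1, h2⟩ := hA2
  obtain ⟨_, h3, h4⟩ := hB2
  obtain ⟨F, hF, h1⟩ := Cn.ni h1.2 h2.symm
  obtain ⟨F', hF', h2⟩ := Cn.ni h3.2 h4.symm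
  have key : ¬ Cn S A B := fun e => hne (Set.ext fun C => ⟨fun h => ⟨h.1, e.symm.trans h.2⟩, fun h => ⟨h.1, e.trans h.2⟩⟩)
  obtain ⟨a, ha, h3⟩ := hS.exists_ne_one hA
  obtain ⟨b, hb, h4⟩ := hS.exists_ne_one hB
  obtain ⟨R, hR, e⟩ := h.2.2.1 _ (mul_mem (mem_sup_right hb) (mem_sup_left ha)) fun e => h.1.2.1
    (Ln.eq h ⟨hB, le_sup_right⟩ ⟨hA, le_sup_left⟩ hb (eq_inv_of_mul_eq_one_left e ▸ inv_mem ha) h4)
  have h5 := hS.rk_of_mul hF hB hR.1 h1 (fun e => key (.tail (.single ⟨hA, hF, h1⟩) ⟨hF, hB, e.symm⟩)) ha h3 hb e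
  have h6 := hS.rk_of_mul hF' hA hR.1 h2 (fun e => key (.tail (.single ⟨hA, hF', e⟩) ⟨hF', hB, h2.symm⟩)) hb h4 ha
    (comm_bot_iff.1 h.1.2.2 a ha b hb ▸ e)
  exact key (.tail (.tail (.tail (.single ⟨hA, hF, h1⟩) ⟨hF, hR.1, h5.symm⟩) ⟨hR.1, hF', h6⟩) ⟨hF', hB, h2.symm⟩)

end Cfsg.Agent.S5031
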