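import Cfsg.Statements.S5033
import Cfsg.Agent.Lib.Root.Chain
import Cfsg.Agent.Lib.Root.Class

set_option autoImplicit false
open Cfsg

namespace Cfsg.Agent.S5033

open Cfsg.Lib.Root Cfsg.Lib.Transfer Subgroup Cfsg.Lib.Layer
open scoped commutatorElement

/-- Quasisimplicity criterion for groups generated by abstract root subgroups. Let S be a set of abstract root subgroups of G with more than one member such that: the graph of rank one pairs on S is connected; no two different members of S have the same set of commuting members of S; if S is degenerate then every member of S has more than three elements; and every rank one pair in S is special. Then for every A ∈ S one has G = G' A with A ∩ G' ≠ 1, and the commutator subgroup G' is quasisimple. Moreover G is perfect if S is non-degenerate, or if some rank one pair A, B in S generates a perfect group. -/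
theorem result {G : Type*} [Group G] {S : Set (Subgroup G)} (hS : Cfsg.IsRootSubgroupSet S) (h2 : ∃ A ∈ S, ∃ B ∈ S, A ≠ B)
    (h1 : Cfsg.IsConnectedFamily (Cfsg.FAdj S) S)
    (h2' : ∀ A ∈ S, ∀ C ∈ S, A ≠ C → Cfsg.centralizingMembers S A ≠ Cfsg.centralizingMembers S C)
    (h3 : Cfsg.IsDegenerateRootSet S → ∀ A ∈ S, 3 < ENat.card A)
    (h4 : ∀ A ∈ S, ∀ B ∈ Cfsg.rankOnePartners S A, Cfsg.IsSpecialRankOnePair A B) :
    (∀ A ∈ S, commutator G ⊔ A = ⊤ ∧ A ⊓ commutator G ≠ ⊥) ∧ Cfsg.IsQuasisimple ↥(commutator G) ∧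
    (Cfsg.IsNondegenerateRootSet S → commutator G = ⊤) ∧
    ((∃ A ∈ S, ∃ B ∈ Cfsg.rankOnePartners S A, Group.IsPerfect ↥(A ⊔ B)) → commutator G = ⊤) := by
  obtain ⟨A, hA, B, hB, hne⟩ := h2
  have hn : ∀ C ∈ S, NI S C := fun C hC =>
    let ⟨g, e⟩ := Cn.exists_cj (h1 A hA C hC)
    e ▸ (Cn.ni (h1 A hA B hB) hne).conj hS g
  have k1 : ∀ (N : Subgroup G) [N.Normal], ∀ C ∈ S, C ≤ N → N = ⊤ := fun N _ C hC h => hS.eq_top fun D hD =>
    let ⟨g, e⟩ := Cn.exists_cj (h1 C hC D hD)
    e ▸ (cj_mono g h).trans (cj_eq_of_normal g N).le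
  have k2 : ∀ (N : Subgroup G) [N.Normal], ∀ C ∈ S, ∀ D ∈ S, RK C D → ⁅C, D⁆ ≤ N → N = ⊤ := fun N hN C hC D hD h hle => by
    have := hS.commutative C hC
    have e : ∀ A ∈ S, ⁅A, A⁆ ≤ N := fun A hA => commutator_self_eq_bot_iff.2 (hS.commutative A hA) ▸ bot_le
    have h5 := comm_sup_sup_le (fun x _ w hw => hN.conj_mem w hw x) (e C hC) hle (e D hD)
    by_cases hd : IsDegenerateRootSet S
    · exact k1 N C hC (le_sup_left.trans (((sp_iff.1 (h4 C hC D ⟨hD, h⟩)).sup_le_commutator (h3 hd C hC)).trans h5))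
    simp only [IsDegenerateRootSet, not_forall, not_not] at hd
    obtain ⟨P, hP, Q, -, H⟩ := hd
    obtain ⟨E, hE⟩ := (nd_of_cm hS hn h1 hP (cm_iff.1 H)).line C hC
    obtain ⟨F, h6, -, H, -⟩ := hS.exists_line_cm hC hD h hE
    refine k1 N _ H.mem (commutator_le.2 fun f hf d hd => ?_)
    obtain ⟨w, hw, rfl⟩ := h.exists_cj
    have h7 := h5 (commutator_mem_commutator hw (mem_sup_left (mem_cj.1 hd)))
    have : d = ⁅w, w⁻¹ * d * w⁆ * (w⁻¹ * d * w) := by rw [← conj_eq_comm]; group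
    rw [this, comm_mul_right, comm_eq_one.2 (comm_bot_iff.1 h6.1.2.2 _ (mem_cj.1 hd) f hf).symm, mul_one, mul_inv_cancel, mul_one]
    exact commutator_le_right ⊤ N (commutator_mem_commutator trivial h7)
  obtain ⟨D, hD, h⟩ := hn A hA
  have hp : commutator G = ⊤ := k2 _ A hA D hD h (commutator_mono le_top le_top)
  refine ⟨fun A hA => by rw [hp, top_sup_eq, inf_top_eq]; exact ⟨rfl, hS.ne_bot A hA⟩, ?_, fun _ => hp, fun _ => hp⟩
  have := h.nontrivial
  rw [hp]
  refine IsQuasisimple.of_mulEquiv (isQuasisimple_of_normal ⟨hp⟩ fun N hN => or_iff_not_imp_left.2 fun h5 n hn' =>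
    mem_center_iff.2 fun x => hS.ind x (fun A hA a ha => by_contra fun h6 => h5 ?_) (by simp)
      fun x y hx hy => by rw [mul_assoc, hy, ← mul_assoc, hx, mul_assoc]) topEquiv.symm
  by_cases e : cj n A = A
  · obtain ⟨B, hB, h⟩ := hn A hA
    have h7 : ⁅n, a⁆ ∈ A := mul_mem (e.le (conj_mem_cj.2 ha)) (inv_mem ha)
    have h8 : ⁅n, a⁆ ∈ N := commutator_le_left N ⊤ (commutator_mem_commutator hn' trivial)
    obtain ⟨b, hb, h9⟩ := h.symm.exists_ne_one
    have h10 := (h.le_sup_or (N := N ⊓ (A ⊔ B)) inf_le_right fun x hx y hy =>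
      ⟨hN.conj_mem _ hy.1 x, (A ⊔ B).mul_mem (mul_mem hx hy.2) (inv_mem hx)⟩).resolve_right fun k =>
        h.not_commute h7 (fun e => h6 (comm_eq_one.1 e).symm) hb h9 (k _ ⟨h8, mem_sup_left h7⟩ b (mem_sup_right hb)).symm
    refine k2 N A hA B hB h ((commutator_mono le_rfl (h10.trans (sup_le_sup_right inf_le_left _))).trans
      (comm_sup_le (fun x _ w hw => hN.conj_mem w hw x) (commutator_le_right _ _) ?_))
    exact commutator_self_eq_bot_iff.2 (hS.commutative A hA) ▸ bot_le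
  obtain ⟨E, hE, h7⟩ := Set.not_subset.1 fun k => h2' A hA _ (hS.cj_mem hA n) (Ne.symm e)
    (k.antisymm (cent_symm hS hA (hS.cj_mem hA n) ((hn A hA).conj hS n) k))
  have h8 : ⁅E, cj n A⁆ ≤ N := commutator_le.2 fun x hx y hy => by
    have : y = ⁅n, n⁻¹ * y * n⁆ * (n⁻¹ * y * n) := by rw [← conj_eq_comm]; group
    rw [this, comm_mul_right, comm_eq_one.2 (comm_bot_iff.1 (mem_cent.1 hE).2 x hx _ (mem_cj.1 hy)), mul_one, mul_inv_cancel, mul_one]
    exact commutator_le_right ⊤ N (commutator_mem_commutator trivial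
      (commutator_le_left N ⊤ (commutator_mem_commutator hn' trivial)))
  obtain H | H | H := hS.tri hE.1 (hS.cj_mem hA n)
  · exact absurd (mem_cent.2 ⟨hE.1, H⟩) h7
  · exact k2 N _ hE.1 _ (hS.cj_mem hA n) H h8
  · exact k1 N _ H.mem h8

end Cfsg.Agent.S5033
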