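import Cfsg.Statements.S5035
import Cfsg.Agent.Lib.Root.Lines

set_option autoImplicit false
open Cfsg

namespace Cfsg.Agent.S5035

open Cfsg.Lib.Root Cfsg.Lib.Transfer Subgroup
open scoped commutatorElement

/-- Let S be a set of abstract root subgroups of G whose graph of rank one pairs is connected, and f a homomorphism from G onto a group H. Then either the images of the members of S form a set of abstract root subgroups of H whose graph of rank one pairs is again connected, or H equals the image of a member of S. -/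
theorem result {G H : Type*} [Group G] [Group H] {S : Set (Subgroup G)} (hS : Cfsg.IsRootSubgroupSet S)
    (hc : Cfsg.IsConnectedFamily (Cfsg.FAdj S) S) (f : G →* H) (hf : Function.Surjective f) :
    (Cfsg.IsRootSubgroupSet ((fun A : Subgroup G => A.map f) '' S) ∧
      Cfsg.IsConnectedFamily (Cfsg.FAdj ((fun A : Subgroup G => A.map f) '' S)) ((fun A : Subgroup G => A.map f) '' S)) ∨
    ∃ A ∈ S, A.map f = ⊤ := by
  refine or_iff_not_imp_right.2 fun hn => ⟨⟨?_, ?_, ?_, ?_, ?_⟩, ?_⟩
  · rintro _ ⟨A, hA, rfl⟩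
    have := hS.commutative A hA
    infer_instance
  · rintro _ ⟨A, hA, rfl⟩ e
    refine hn ⟨A, hA, top_le_iff.1 ((map_top_of_surjective f hf).ge.trans (map_le_iff_le_comap.2 (hS.eq_top fun B hB => ?_).ge))⟩
    obtain ⟨g, rfl⟩ := Cn.exists_cj (hc A hA B hB)
    rw [← map_le_iff_le_comap, map_cj, show A.map f = ⊥ from e, cj_bot]
  · rw [iSup_image, eq_top_iff, ← map_top_of_surjective f hf, map_le_iff_le_comap, top_le_iff]
    exact hS.eq_top fun A hA => map_le_iff_le_comap.1 (le_iSup₂_of_le A hA le_rfl)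
  · rintro _ ⟨A, hA, rfl⟩ g
    obtain ⟨g, rfl⟩ := hf g
    exact ⟨_, hS.cj_mem hA g, map_cj f g A⟩
  · rintro _ ⟨A, hA, rfl⟩ _ ⟨B, hB, rfl⟩
    obtain h | h | h := hS.tri hA hB
    · exact Or.inl (by rw [← map_commutator, h, Subgroup.map_bot])
    · by_cases e : A.map f = B.map f
      · have := hS.commutative A hA
        exact Or.inl (by simp only [← e]; exact commutator_self_eq_bot_iff.2 inferInstance)
      · exact Or.inr (Or.inl (h.map f e))
    refine Or.inr (Or.inr (cm_iff.2 ⟨⟨_, h.mem, map_commutator _ _ _⟩, fun hc hx => ?_, ?_, ?_⟩))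
    · rw [← map_commutator] at hc
      rw [← Subgroup.map_sup] at hx
      obtain ⟨c, hc, rfl⟩ := hc
      obtain ⟨x, hx, rfl⟩ := hx
      rw [← map_mul, h.cen hc hx, map_mul]
    all_goals
      rintro _ c ⟨a, ha, rfl⟩ h1 hc
      rw [← map_commutator] at hc
      obtain ⟨c, hc, rfl⟩ := hc
    · obtain ⟨b, hb, rfl⟩ := h.sl ha (fun e => h1 (by rw [e, map_one])) hc
      exact ⟨_, mem_map_of_mem f hb, (map_commutatorElement _ _ _).symm⟩
    · obtain ⟨b, hb, rfl⟩ := h.sr ha (fun e => h1 (by rw [e, map_one])) hc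
      exact ⟨_, mem_map_of_mem f hb, (map_commutatorElement _ _ _).symm⟩
  · rintro _ ⟨A, hA, rfl⟩ _ ⟨B, hB, rfl⟩
    have := hc A hA B hB
    clear hB
    induction this with
    | refl => exact .refl
    | @tail B C _ h ih =>
      by_cases e : B.map f = C.map f
      · simpa only [e] using ih
      · exact ih.tail ⟨⟨_, h.1, rfl⟩, ⟨_, h.2.1, rfl⟩, h.2.2.map f e⟩

end Cfsg.Agent.S5035
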