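import Cfsg.Statements.S5036
import Cfsg.Agent.Lib.Root.Lines

set_option autoImplicit false
open Cfsg

namespace Cfsg.Agent.S5036

open Cfsg.Lib.Root Cfsg.Lib.Transfer Subgroup

/-- Let S be a set of abstract root subgroups of G, A, B ∈ S with C = ⁅A, B⁆ ∈ S, and D ∈ S with ⁅D, C⁆ = A. Put X = ⟨B, D⟩ and N = AC. Then B, D form a rank one pair; the conjugates of A under X are the conjugates of C under X, namely the conjugates of A by elements of B together with C, equally the conjugates of C by elements of D together with A, and they partition N; and the centralizer of N in X is central in X. -/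
theorem result {G : Type*} [Group G] {S : Set (Subgroup G)} (hS : Cfsg.IsRootSubgroupSet S)
    {A B D : Subgroup G} (hA : A ∈ S) (hB : B ∈ S) (hC : ⁅A, B⁆ ∈ S) (hD : D ∈ S) (hDC : ⁅D, ⁅A, B⁆⁆ = A) :
    Cfsg.IsRankOnePair B D ∧
    {E | ∃ x ∈ B ⊔ D, E = Cfsg.conjBy A x} = {E | ∃ x ∈ B ⊔ D, E = Cfsg.conjBy ⁅A, B⁆ x} ∧
    {E | ∃ x ∈ B ⊔ D, E = Cfsg.conjBy A x} = (fun b : G => Cfsg.conjBy A b) '' (B : Set G) ∪ {⁅A, B⁆} ∧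
    {E | ∃ x ∈ B ⊔ D, E = Cfsg.conjBy A x} = (fun d : G => Cfsg.conjBy ⁅A, B⁆ d) '' (D : Set G) ∪ {A} ∧
    Cfsg.IsSubgroupPartition (A ⊔ ⁅A, B⁆) {E | ∃ x ∈ B ⊔ D, E = Cfsg.conjBy A x} ∧
    ∀ x ∈ (B ⊔ D) ⊓ Subgroup.centralizer ((A ⊔ ⁅A, B⁆ : Subgroup G) : Set G), ∀ y ∈ B ⊔ D, x * y = y * x := by
  rw [commutator_comm] at hDC
  have H := hS.cm hA hB hC
  have H' := hS.cm hC hD (hDC.symm ▸ hA)
  have h := hS.rk_of_opp hB hD H H' hDC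
  have e1 := hS.inf_cent hB H
  have e2 := hS.inf_cent hD H'
  have e3 := fun d => H'.cj_sup (b := d)
  rw [hDC, sup_comm] at e2 e3
  have hN : ∀ x ∈ B ⊔ D, cj x (A ⊔ ⁅A, B⁆) = A ⊔ ⁅A, B⁆ := fun x hx =>
    sup_ind hx (fun _ => H.cj_sup) e3 fun x y hx hy => by rw [cj_mul, hy, hx]
  have h0 : A ⊓ ⁅A, B⁆ = ⊥ := eq_bot_iff.2 fun a ha => by_contra fun h1 => by
    obtain ⟨c, hc, h2⟩ := hS.exists_ne_one hC
    obtain ⟨b, hb, rfl⟩ := H.sl ha.1 h1 hc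
    exact h2 (comm_eq_one.2 (H.cr ha.2 hb))
  have hp := fun x (hx : x ∈ A ⊔ ⁅A, B⁆) => (mem_sup_of_comm H.comm_l hx).imp fun c h => h.imp_right fun h =>
    h.imp fun a k => k.imp_right fun k => And.intro k (H.exists_cj (a := a) (c := c))
  obtain ⟨φ, hφ, eB, eD⟩ : ∃ φ : Subgroup G → Subgroup G, (∀ x ∈ B ⊔ D, ∀ E, cj x (φ E) = φ (cj x E)) ∧
      φ B = ⁅A, B⁆ ∧ φ D = A :=
    ⟨fun E => (A ⊔ ⁅A, B⁆) ⊓ centralizer (E : Set G), fun x hx E => by rw [cj_inf, cj_centralizer, hN x hx], e1, e2⟩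
  have o1 : {E | ∃ x ∈ B ⊔ D, E = Cfsg.conjBy ⁅A, B⁆ x} = φ '' unipotentSubgroups B D := Set.ext fun E =>
    ⟨fun ⟨x, hx, e⟩ => ⟨_, ⟨x, hx, rfl⟩, by rw [e, conjBy_eq, conjBy_eq, ← hφ x hx, eB]⟩, by
      rintro ⟨_, ⟨x, hx, rfl⟩, rfl⟩; exact ⟨x, hx, by rw [conjBy_eq, conjBy_eq, ← hφ x hx, eB]⟩⟩
  have u := h.unip_eq h.right_mem IsRankOnePair.left_mem h.ne.symm
  have o2 : {E | ∃ x ∈ B ⊔ D, E = Cfsg.conjBy A x} = φ '' unipotentSubgroups B D := Set.ext fun E => by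
    rw [← u, sup_comm]
    exact ⟨fun ⟨x, hx, e⟩ => ⟨_, ⟨x, hx, rfl⟩, by rw [e, conjBy_eq, conjBy_eq, ← hφ x (sup_comm D B ▸ hx), eD]⟩, by
      rintro ⟨_, ⟨x, hx, rfl⟩, rfl⟩; exact ⟨x, hx, by rw [conjBy_eq, conjBy_eq, ← hφ x (sup_comm D B ▸ hx), eD]⟩⟩
  have inj : ∀ P ∈ unipotentSubgroups B D, ∀ Q ∈ unipotentSubgroups B D, P ≠ Q → φ P ⊓ φ Q = ⊥ := fun P hP Q hQ hne => by
    obtain ⟨x, hx, rfl, rfl⟩ := h.two hP hQ hne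
    rw [← hφ x hx, ← hφ x hx, ← cj_inf, eB, eD, inf_comm, h0, cj_bot]
  have o3 : {E | ∃ x ∈ B ⊔ D, E = Cfsg.conjBy A x} = (fun b : G => Cfsg.conjBy A b) '' (B : Set G) ∪ {⁅A, B⁆} := by
    refine Set.ext fun E => ⟨fun hE => ?_, ?_⟩
    · obtain ⟨F, hF, rfl⟩ := o2.le hE
      obtain rfl | ⟨b, hb, rfl⟩ := h.mem_iff.1 hF
      exacts [Or.inr eB, Or.inl ⟨b, hb, by rw [← hφ b (mem_sup_left hb), eD]; rfl⟩]
    · rintro (⟨b, hb, rfl⟩ | rfl)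
      exacts [⟨b, mem_sup_left hb, rfl⟩, o2.ge ⟨B, IsRankOnePair.left_mem, eB⟩]
  refine ⟨h, o2.trans o1.symm, o3, Set.ext fun E => ⟨fun hE => ?_, ?_⟩, ⟨?_, fun x hx h1 => ?_, ?_⟩, fun x hx y hy => ?_⟩
  · obtain ⟨F, hF, rfl⟩ := o2.le hE
    obtain rfl | ⟨b, hb, rfl⟩ := h.symm.mem_iff.1 (u ▸ hF)
    exacts [Or.inr eD, Or.inl ⟨b, hb, by rw [← hφ b (mem_sup_right hb), eB]; rfl⟩]
  · rintro (⟨b, hb, rfl⟩ | rfl)
    exacts [o2.ge (o1.le ⟨b, mem_sup_right hb, rfl⟩), ⟨1, one_mem _, (cj_one _).symm⟩]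
  · rintro _ ⟨x, hx, rfl⟩
    exact hN x hx ▸ cj_mono x le_sup_left
  · obtain ⟨c, hc, a, ha, rfl, k⟩ := hp x hx
    by_cases h2 : a = 1
    · exact ⟨_, o3.ge (Or.inr rfl), by rwa [h2, mul_one]⟩
    · obtain ⟨b, hb, e⟩ := k hc ha h2
      exact ⟨_, ⟨b, mem_sup_left hb, rfl⟩, e ▸ conj_mem_cj.2 ha⟩
  · rw [o2]
    rintro _ ⟨P, hP, rfl⟩ _ ⟨Q, hQ, rfl⟩ hne
    exact inj P hP Q hQ fun e => hne (e ▸ rfl)
  · refine (h.central_of_norm (N := (B ⊔ D) ⊓ centralizer ((A ⊔ ⁅A, B⁆ : Subgroup G) : Set G)) (fun x hx n hn => ?_)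
      (fun n hn => by_contra fun e => hS.ne_bot _ hC ?_) hx hy).symm
    · have := conj_mem_cj (g := x).2 hn
      rwa [cj_inf, cj_centralizer, hN x hx, cj_eq_of_mem hx] at this
    · have := inj _ (IsRankOnePair.cj_mem hn.1 IsRankOnePair.left_mem) _ IsRankOnePair.left_mem e
      rwa [← hφ n hn.1, eB, cj_eq_of_commute fun c hc => (hn.2 c (mem_sup_right hc)).symm, inf_idem] at this

end Cfsg.Agent.S5036
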