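import Cfsg.Statements.S5037
import Cfsg.Agent.Lib.Root.Class

set_option autoImplicit false
open Cfsg

namespace Cfsg.Agent.S5037

open Cfsg.Lib.Root Cfsg.Lib.Transfer Subgroup

/-- Let S be a class of abstract root subgroups of G that is either degenerate or non-degenerate (so either the commutator case never occurs, or all three cases occur), and A ≠ C members of S. If every member of S commuting with A commutes with C, then A and C have the same commuting members of S; and if every rank one partner of A is a rank one partner of C, then A and C commute and have the same rank one partners. -/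
theorem result {G : Type*} [Group G] {S : Set (Subgroup G)} (hS : Cfsg.IsRootSubgroupClass S)
    (hdn : Cfsg.IsDegenerateRootSet S ∨ Cfsg.IsNondegenerateRootSet S)
    {A C : Subgroup G} (hA : A ∈ S) (hC : C ∈ S) (hAC : A ≠ C) :
    (Cfsg.centralizingMembers S A ⊆ Cfsg.centralizingMembers S C →
      Cfsg.centralizingMembers S A = Cfsg.centralizingMembers S C) ∧
    (Cfsg.rankOnePartners S A ⊆ Cfsg.rankOnePartners S C →
      ⁅A, C⁆ = ⊥ ∧ Cfsg.rankOnePartners S A = Cfsg.rankOnePartners S C) := by
  by_cases hn : ∃ B ∈ S, NI S B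
  · obtain ⟨B, hB, hn⟩ := hn
    replace hn := ni_of_class hS hB hn
    exact ⟨fun h => h.antisymm (cent_symm hS.1 hA hC (hn C hC) h), fun h =>
      (partners_symm hS.1 hn hA hC h).imp_right h.antisymm⟩
  have hd := hdn.resolve_right fun ⟨_, ⟨B, hB, h⟩, _⟩ => hn ⟨B, hB, h⟩
  have k : ∀ P ∈ S, ∀ Q ∈ S, ⁅P, Q⁆ = ⊥ := fun P hP Q hQ => (hS.1.pair P hP Q hQ).resolve_right fun h =>
    h.elim (fun h => hn ⟨P, hP, Q, hQ, h⟩) (hd P hP Q hQ)
  exact ⟨fun h => h.antisymm fun E hE => mem_cent.2 ⟨hE.1, k E hE.1 A hA⟩, fun h =>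
    ⟨k A hA C hC, h.antisymm fun E hE => (hn ⟨C, hC, E, hE⟩).elim⟩⟩

end Cfsg.Agent.S5037
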