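import Cfsg.Statements.S5038
import Cfsg.Agent.Lib.Root.Lines

set_option autoImplicit false
open Cfsg

namespace Cfsg.Agent.S5038

open Cfsg.Lib.Root Cfsg.Lib.Transfer Subgroup

/-- Let S be a set of abstract root subgroups of G in which every member has a rank one partner, A ∈ S and B a line partner of A. Then the subgroup generated by the members of S normalizing AB permutes the members of S inside AB doubly transitively by conjugation. -/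
theorem result {G : Type*} [Group G] {S : Set (Subgroup G)} (hS : Cfsg.IsRootSubgroupSet S)
    (hF : ∀ A ∈ S, ¬ Cfsg.IsIsolatedIn (Cfsg.FAdj S) S A) {A B : Subgroup G} (hA : A ∈ S) (hB : B ∈ Cfsg.linePartners S A) :
    ∀ C₁ ∈ Cfsg.membersIn S (A ⊔ B), ∀ C₂ ∈ Cfsg.membersIn S (A ⊔ B), ∀ D₁ ∈ Cfsg.membersIn S (A ⊔ B),
      ∀ D₂ ∈ Cfsg.membersIn S (A ⊔ B), C₁ ≠ C₂ → D₁ ≠ D₂ →
        ∃ x ∈ ⨆ E ∈ Cfsg.normalizingMembers S (A ⊔ B), E, Cfsg.conjBy C₁ x = D₁ ∧ Cfsg.conjBy C₂ x = D₂ := by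
  have hn := fun A hA => (ni_iff hA).1 (hF A hA)
  have m : ∀ {P Q R}, P ∈ membersIn S (A ⊔ B) → Q ∈ membersIn S (A ⊔ B) → R ∈ membersIn S (A ⊔ B) → P ≠ R → Q ≠ R →
      ∃ x ∈ ⨆ E ∈ normalizingMembers S (A ⊔ B), E, cj x (A ⊔ B) = A ⊔ B ∧ cj x R = R ∧ cj x P = Q := fun hP hQ hR h1 h2 =>
    let ⟨E, hE, h3, h4, e, he, h5⟩ := hS.exists_move hn hA hB hP hQ hR h1 h2
    ⟨e, (le_iSup₂_of_le E ⟨hE, fun x hx => cj_eq_iff.1 (h4 x hx)⟩ le_rfl : E ≤ _) he, h4 e he,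
      cj_eq_of_commute fun a ha => (comm_bot_iff.1 h3 a ha e he).symm, h5⟩
  intro C₁ h1 C₂ h2 D₁ h3 D₂ h4 hc hd
  obtain ⟨x, hx, e1, rfl⟩ : ∃ x ∈ ⨆ E ∈ normalizingMembers S (A ⊔ B), E, cj x (A ⊔ B) = A ⊔ B ∧ cj x C₁ = D₁ := by
    by_cases e : C₁ = D₁
    · exact ⟨1, one_mem _, cj_one _, e ▸ cj_one _⟩
    obtain ⟨e1, h5⟩ := hS.line_of_mem hn hA hB h1 h3 e
    obtain ⟨c, hc, h6⟩ := hS.exists_ne_one h1.1
    obtain ⟨d, hd, h7⟩ := hS.exists_ne_one h3.1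
    obtain ⟨R, hR, h8⟩ := hB.2.2.1 _ (mul_mem (h1.2 hc) (h3.2 hd)) fun e' =>
      e (Ln.eq hB h1 h3 hc (eq_inv_of_mul_eq_one_left e' ▸ inv_mem hd) h6)
    obtain ⟨x, hx, e2, -, e3⟩ := m h1 h3 hR (fun e' => e (Ln.eq hB h1 h3 ((mul_mem_cancel_left hc).1 (e' ▸ h8)) hd h7))
      fun e' => e (Ln.eq hB h1 h3 hc ((mul_mem_cancel_right hd).1 (e' ▸ h8)) h6)
    exact ⟨x, hx, e2, e3⟩
  obtain ⟨y, hy, -, e2, e3⟩ := m ⟨hS.cj_mem h2.1 x, e1 ▸ cj_mono x h2.2⟩ h4 h3 (cj_inj.not.2 hc.symm) hd.symm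
  exact ⟨y * x, mul_mem hy hx, (cj_mul _ _ _).trans e2, (cj_mul _ _ _).trans e3⟩

end Cfsg.Agent.S5038
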