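import Cfsg.Statements.S5039
import Cfsg.Agent.Lib.Root.Triangle
import Cfsg.Agent.Lib.Root.SL2

set_option autoImplicit false
universe u
open Cfsg

namespace Cfsg.Agent.S5039

open Cfsg.Lib.Root Cfsg.Lib.Transfer Subgroup Cfsg.Lib.Chev.PreSys
open scoped commutatorElement

/-- Let S be a class of abstract root subgroups of G containing two different commuting members. Suppose that, in case S is degenerate and every element of every member of S has order at most 3, the following holds: for every A ∈ S and every rank one partner B of A there are subgroups A₀ ≤ A and B₀ ≤ B generating an image of SL₂(k) with central kernel, k a field with at least four elements, A₀ and B₀ being the images of the unitriangular subgroups. Then every rank one pair A, B in S is special. -/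
theorem result {G : Type u} [Group G] {S : Set (Subgroup G)} (hS : Cfsg.IsRootSubgroupClass S)
    (hcomm : ∃ A ∈ S, ∃ C ∈ S, A ≠ C ∧ ⁅A, C⁆ = ⊥)
    (hH : Cfsg.IsDegenerateRootSet S → (∀ A ∈ S, ∀ a ∈ A, 0 < orderOf a ∧ orderOf a ≤ 3) →
      ∀ A ∈ S, ∀ B ∈ Cfsg.rankOnePartners S A, ∃ A₀ B₀ : Subgroup G, A₀ ≤ A ∧ B₀ ≤ B ∧
        ∃ (k : Type u) (_ : Field k), 3 < ENat.card k ∧ Cfsg.IsPSL2PairOver k A₀ B₀)
    {A B : Subgroup G} (hA : A ∈ S) (hB : B ∈ Cfsg.rankOnePartners S A) : Cfsg.IsSpecialRankOnePair A B := by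
  have hn := ni_of_class hS hA ⟨B, hB⟩
  have hc : ∀ A ∈ S, ∀ B ∈ S, Cn S A B := fun A hA B hB =>
    let ⟨g, e⟩ := hS.2.2 A hA B hB
    e ▸ hS.1.cn_cj hA (hn A hA) g
  rw [sp_iff]
  by_cases hd : IsDegenerateRootSet S
  swap
  · simp only [IsDegenerateRootSet, not_forall, not_not] at hd
    obtain ⟨P, hP, Q, -, H⟩ := hd
    exact (nd_of_cm hS.1 hn hc hP (cm_iff.1 H)).sp hA hB.1 hB.2
  have tri : ∀ P ∈ S, ∀ Q ∈ S, ⁅P, Q⁆ = ⊥ ∨ RK P Q := fun P hP Q hQ =>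
    (hS.1.pair P hP Q hQ).imp_right fun h => h.resolve_right (hd P hP Q hQ)
  by_contra hs
  have hΔ : ∀ C ∈ S, C ≠ A → ⁅A, C⁆ = ⊥ → C ≤ centralizer (B : Set G) := fun C hC h1 h2 =>
    commutator_eq_bot_iff_le_centralizer.1 ((tri C hC B hB.1).resolve_right fun h =>
      let ⟨_, H, h3⟩ := exists_tw hS.1 hA hB.1 hC hB.2 h h2 h1
      hs (H.sp hS.1 hA hB.1 h3))
  obtain ⟨E, hE, u, H, h1⟩ : ∃ E ∈ S, ∃ u, Tw A E u ∧ cj u E ≠ E := by
    obtain ⟨P, hP, Q, hQ, h1, h2⟩ := hcomm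
    obtain ⟨g, rfl⟩ := hS.2.2 P hP A hA
    by_contra! hx
    suffices ∀ E, Cn S (cj g Q) E → E ≠ cj g P ∧ ⁅cj g P, E⁆ = ⊥ from (this _ (hc _ (hS.1.cj_mem hQ g) _ hA)).1 rfl
    intro E h
    induction h with
    | refl => exact ⟨cj_inj.not.2 h1.symm, by rw [← cj_commutator, h2, cj_bot]⟩
    | tail _ h ih =>
      refine ⟨fun e => h.2.2.symm.comm_ne_bot (e ▸ ih.2), (tri _ hA _ h.2.1).resolve_right fun k => ?_⟩
      obtain ⟨u, H, h3⟩ := exists_tw hS.1 hA h.2.1 h.1 k h.2.2 ih.2 ih.1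
      exact h3 (hx _ h.2.1 u H)
  have key : ∀ P ∈ S, ∀ x ∈ P, ∀ y ∈ P, ∀ z ∈ P, x ≠ 1 → y ≠ 1 → z ≠ 1 → y * x ≠ 1 → z * x ≠ 1 → z * y ≠ 1 → z * (y * x) = 1 := by
    intro P hP x hx y hy z hz n1 n2 n3 n4 n5 n6
    obtain ⟨g, rfl⟩ := hS.2.2 P hP E hE
    obtain ⟨a, ha, h2⟩ := hB.2.exists_ne_one
    obtain ⟨b, hb, h3⟩ := hB.2.symm.exists_ne_one
    by_contra n7
    refine hB.2.not_commute ha h2 hb h3 (H.cube h1 (fun C ⟨g, e⟩ => hΔ C (e ▸ hS.1.cj_mem hA g)) ha (conj_mem_cj.2 hx)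
      (conj_mem_cj.2 hy) (conj_mem_cj.2 hz) ?_ ?_ ?_ ?_ ?_ ?_ ?_ b hb).symm
    all_goals simpa only [conj_mul, Ne, conj_eq_one_iff]
  obtain ⟨A₀, B₀, h2, h3, k, _, h4, h5⟩ := hH hd (fun P hP x hx => by
    by_contra h
    have : ∀ n : ℕ, 0 < n → n ≤ 3 → x ^ n ≠ 1 := fun n h1 h2 e =>
      h ⟨(isOfFinOrder_iff_pow_eq_one.2 ⟨n, h1, e⟩).orderOf_pos, (orderOf_le_of_pow_eq_one h1 e).trans h2⟩
    have e1 := pow_one x ▸ this 1 one_pos (by decide)
    have e2 := pow_two x ▸ this 2 two_pos (by decide)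
    exact this 3 three_pos le_rfl ((pow_three x).trans (key P hP x hx x hx x hx e1 e1 e1 e2 e2 e2))) A hA B hB
  have e : ∀ P ∈ S, ∀ P₀ ≤ P, 3 < ENat.card P₀ → P₀ = P := fun P hP P₀ hle h => hle.antisymm fun z hz => by_contra fun hz' => by
    obtain ⟨x, hx, n1, -⟩ := exists_ne_three h 1 1 1
    obtain ⟨y, hy, n2, n3, -⟩ := exists_ne_three h 1 x⁻¹ 1
    have m : ∀ w ∈ P₀, z * w ≠ 1 := fun w hw e => hz' (eq_inv_of_mul_eq_one_left e ▸ inv_mem hw)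
    exact m _ (mul_mem hy hx) (key P hP x (hle hx) y (hle hy) z hz n1 n2 (fun e => hz' (e ▸ one_mem _))
      (fun e => n3 (eq_inv_of_mul_eq_one_left e)) (m x hx) (m y hy))
  have H5 := sp_of_psl2 h5
  obtain ⟨w, -, hw⟩ := H5.rk.exists_cj
  have h6 : 3 < ENat.card A₀ := by
    obtain ⟨φ, -, hk, rfl, -⟩ := h5
    refine h4.trans_le (ENat.card_le_card_of_injective (f := fun t => ⟨φ ((sl2 k).x true t),
      mem_map_of_mem φ (mem_upper.2 ⟨t, rfl⟩)⟩) fun t s e => ?_)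
    have h7 : (sl2 k).x true (t - s) ∈ φ.ker := by
      rw [MonoidHom.mem_ker, sub_eq_add_neg, x_add, x_neg, map_mul, map_inv, mul_inv_eq_one]; exact congrArg Subtype.val e
    have := sl2_sp.rk.eq_one_of_cj (mem_upper.2 ⟨_, rfl⟩) (cj_eq_of_commute fun x _ => (mem_center_iff.1 (hk h7) x).symm)
    simpa [sl2_true, sub_eq_zero] using congrArg (fun g => g.1 0 1) this
  exact hs (e A hA A₀ h2 h6 ▸ e B hB.1 B₀ h3 (hw ▸ h6.trans_eq (ENat.card_congr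
    (A₀.equivMapOfInjective _ (MulAut.conj w).injective).toEquiv)) ▸ H5)

end Cfsg.Agent.S5039
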