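import Cfsg.Statements.S5040
import Cfsg.Agent.Lib.Root.Class

set_option autoImplicit false
open Cfsg

namespace Cfsg.Agent.S5040

open Cfsg.Lib.Root Cfsg.Lib.Transfer Subgroup

/-- Let S be a non-degenerate class of abstract root subgroups of G and Δ a weak TI-subset of S. Then the members of Δ commute with one another elementwise. -/
theorem result {G : Type*} [Group G] {S : Set (Subgroup G)} (hS : Cfsg.IsRootSubgroupClass S) (hnd : Cfsg.IsNondegenerateRootSet S)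
    {Δ : Set (Subgroup G)} (hΔ : Cfsg.IsWeakTISubset S Δ) : Cfsg.IsAbelianFamily Δ := by
  have h := nd_of hS hnd
  obtain ⟨h1, -, h2, h3⟩ := hΔ
  let N : Subgroup G :=
    { carrier := {g | ∀ A, cj g A ∈ Δ ↔ A ∈ Δ}
      mul_mem' := fun hx hy A => by rw [cj_mul, hx, hy]
      one_mem' := fun A => by rw [cj_one]
      inv_mem' := fun hx A => by rw [← hx, cj_cj_inv] }
  have k : ∀ E ∈ S, ∀ P ∈ Δ, ⁅P, E⁆ = ⊥ → E ≤ N := fun E hE P hP e x hx A => by
    by_cases h4 : x = 1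
    · rw [h4, cj_one]
    have := (h3 x ⟨h4, E, hE, hx⟩).resolve_right fun d => Set.disjoint_left.1 d
      ⟨P, hP, cj_eq_of_commute fun a ha => (comm_bot_iff.1 e a ha x hx).symm⟩ hP
    exact ⟨fun hA => let ⟨B, hB, e⟩ := this.ge hA; cj_inj.1 e ▸ hB, fun hA => this.le ⟨A, hA, rfl⟩⟩
  have k' : ∀ P ∈ Δ, P ≤ N := fun P hP => k P (h1 hP) P hP (commutator_self_eq_bot_iff.2 (hS.1.commutative P (h1 hP)))
  have key : ∀ P ∈ Δ, ∀ E ∈ S, E ≤ N → ¬ RK P E := fun P hP E hE hle e => h2 (h1.antisymm fun B hB => by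
    obtain ⟨g, rfl⟩ := hS.2.2 P (h1 hP) B hB
    exact ((h.eq_top (h1 hP) hE e (fun C hC => k C hC.1.1 P hP hC.1.2.2) hle).ge (mem_top g) P).2 hP)
  intro P hP Q hQ
  refine comm_bot_iff.1 ((hS.1.tri' (h1 hP) (h1 hQ) (key P hP Q (h1 hQ) (k' Q hQ))).resolve_right fun H => ?_)
  obtain ⟨E, hE, H', e⟩ := hS.1.exists_comm_eq h.ni H.mem (hS.1.line_comm (h1 hP) (h.ni P (h1 hP)) H)
  exact key Q hQ E hE (k E hE P hP (e ▸ Lib.Layer.commutator_eq_bot_symm H'.comm_r)) (hS.1.rk_of_opp (h1 hQ) hE H H' e)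

end Cfsg.Agent.S5040
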