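import Cfsg.Statements.S5041
import Cfsg.Agent.Lib.Root.Class

set_option autoImplicit false
open Cfsg

namespace Cfsg.Agent.S5041

open Cfsg.Lib.Root Cfsg.Lib.Transfer Subgroup

/-- Let S be a non-degenerate class of abstract root subgroups of G. Then the graph on S joining A to its line partners, and the commuting graph on S, are both connected. -/
theorem result {G : Type*} [Group G] {S : Set (Subgroup G)} (hS : Cfsg.IsRootSubgroupClass S) (hnd : Cfsg.IsNondegenerateRootSet S) :
    Cfsg.IsConnectedFamily (Cfsg.EAdj S S) S ∧ Cfsg.IsConnectedFamily (Cfsg.DAdj S) S := by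
  have h := nd_of hS hnd
  have key : ∀ r : Subgroup G → Subgroup G → Prop, (∀ P ∈ S, ∀ Q, Ln S P Q → r P Q) → IsConnectedFamily r S :=
    fun r hr A hA B hB => hS.1.line_gen h.ni h.line h.cn hA (T := Relation.ReflTransGen r A) .refl
      (fun P hP Q h1 h2 => h1.tail (hr P hP Q h2)) hB
  exact ⟨key _ fun P hP Q h => ⟨hP, h.1.1, h⟩, key _ fun P hP Q h => ⟨hP, h.1.1, h.1.2.1.symm, h.1.2.2⟩⟩

end Cfsg.Agent.S5041
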