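import Cfsg.Statements.S5043
import Cfsg.Agent.Lib.Root.Ex2

set_option autoImplicit false
open Matrix
open Cfsg

namespace Cfsg.Agent.S5043

open Cfsg.Lib.Root Cfsg.Lib.Linear

/-- Let k be a field and n a natural number. In SL_{n+3}(k) (so in every dimension at least 3) the conjugates of the root subgroup of elementary transvections 1 + c E₁₂ (c ∈ k) — that is, the groups of transvections attached to an incident point–hyperplane pair — form a non-degenerate class of abstract k-root subgroups of SL_{n+3}(k) whose graph of rank one pairs is connected. -/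
theorem result (k : Type*) [Field k] (n : ℕ) :
    Cfsg.IsRootSubgroupClass {A : Subgroup (Matrix.SpecialLinearGroup (Fin (n + 3)) k) |
        ∃ g : Matrix.SpecialLinearGroup (Fin (n + 3)) k,
          A = Cfsg.conjBy (Subgroup.closure {t : Matrix.SpecialLinearGroup (Fin (n + 3)) k |
            ∃ c : k, (t : Matrix (Fin (n + 3)) (Fin (n + 3)) k) = Matrix.transvection 0 1 c}) g} ∧
    Cfsg.IsNondegenerateRootSet {A : Subgroup (Matrix.SpecialLinearGroup (Fin (n + 3)) k) |
        ∃ g : Matrix.SpecialLinearGroup (Fin (n + 3)) k,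
          A = Cfsg.conjBy (Subgroup.closure {t : Matrix.SpecialLinearGroup (Fin (n + 3)) k |
            ∃ c : k, (t : Matrix (Fin (n + 3)) (Fin (n + 3)) k) = Matrix.transvection 0 1 c}) g} ∧
    Cfsg.IsKRootSubgroupSet k {A : Subgroup (Matrix.SpecialLinearGroup (Fin (n + 3)) k) |
        ∃ g : Matrix.SpecialLinearGroup (Fin (n + 3)) k,
          A = Cfsg.conjBy (Subgroup.closure {t : Matrix.SpecialLinearGroup (Fin (n + 3)) k |
            ∃ c : k, (t : Matrix (Fin (n + 3)) (Fin (n + 3)) k) = Matrix.transvection 0 1 c}) g} ∧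
    Cfsg.IsConnectedFamily (Cfsg.FAdj {A : Subgroup (Matrix.SpecialLinearGroup (Fin (n + 3)) k) |
        ∃ g : Matrix.SpecialLinearGroup (Fin (n + 3)) k,
          A = Cfsg.conjBy (Subgroup.closure {t : Matrix.SpecialLinearGroup (Fin (n + 3)) k |
            ∃ c : k, (t : Matrix (Fin (n + 3)) (Fin (n + 3)) k) = Matrix.transvection 0 1 c}) g})
      {A : Subgroup (Matrix.SpecialLinearGroup (Fin (n + 3)) k) |
        ∃ g : Matrix.SpecialLinearGroup (Fin (n + 3)) k,
          A = Cfsg.conjBy (Subgroup.closure {t : Matrix.SpecialLinearGroup (Fin (n + 3)) k |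
            ∃ c : k, (t : Matrix (Fin (n + 3)) (Fin (n + 3)) k) = Matrix.transvection 0 1 c}) g} := by
  have h01 : (0 : Fin (n + 3)) ≠ 1 := Fin.zero_ne_one
  have h12 : (1 : Fin (n + 3)) ≠ 2 := fun e => by simpa [Nat.mod_eq_of_lt] using congrArg Fin.val e
  have h02 : (0 : Fin (n + 3)) ≠ 2 := fun e => by simpa [Nat.mod_eq_of_lt] using congrArg Fin.val e
  have hι : 3 ≤ Fintype.card (Fin (n + 3)) := by simp
  have T := sl_tf (k := k) (ι := Fin (n + 3))
  have hS := T.rs sl_gn
  have hc : IsConnectedFamily (FAdj (Ax k Matrix.SpecialLinearGroup.coeMonoidHom '' slX k (Fin (n + 3)))) (Ax k Matrix.SpecialLinearGroup.coeMonoidHom '' slX k (Fin (n + 3))) := fun A hA B hB => by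
    have h1 := hA
    rw [← sl_eq hι h01] at h1 hB
    obtain ⟨g, rfl⟩ := h1
    obtain ⟨g', rfl⟩ := hB
    have := T.pr.cn_cj hA (sl_gn.ge (Subgroup.mem_top (g' * g⁻¹)))
    rwa [show ∀ A, conjBy A g = Cfsg.Lib.Transfer.cj g A from fun _ => rfl, ← Cfsg.Lib.Transfer.cj_mul, inv_mul_cancel_right] at this
  rw [sl_eq hι h01]
  have H := (T.cm (single_mem h01) (single_mem h12) (by simp [h02.symm]) (by simp [h02.symm]) (by simpa [h02.symm] using single_mem h02)).2
  obtain ⟨B, hB, h⟩ := T.pr.ni _ ⟨_, single_mem h01, rfl⟩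
  exact ⟨cls_of_conn hS ⟨_, _, single_mem h01, rfl⟩ hc, ⟨⟨_, ⟨_, single_mem h01, rfl⟩, _, H.mem, (hS.ne_comm H).symm, H.comm_l⟩,
    ⟨_, ⟨_, single_mem h01, rfl⟩, B, hB, h⟩, _, ⟨_, single_mem h01, rfl⟩, _, ⟨_, single_mem h12, rfl⟩, cm_iff.2 H⟩, T.krs sl_gn, hc⟩

end Cfsg.Agent.S5043
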