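import Cfsg.Statements.S5045
import Cfsg.Agent.Lib.Root.Inv

set_option autoImplicit false
open Cfsg

namespace Cfsg.Agent.S5045

open Cfsg.Lib.RInv Cfsg.Lib Subgroup

/-- Let G be a finite group generated by a set D of root involutions, and W the set of members of D whose product with every other member of D has even order or is trivial (the isolated vertices of the odd-order-product graph on D). Then W is conjugation-invariant and generates a normal 2-subgroup of G meeting D in exactly W; the commutator of two members of D lying in different connected components of that graph, each with more than one member, lies in the subgroup generated by W; and for a in such a component, every member of D commuting with a, different from a and with product with a in D, lies in that component or in W. -/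
theorem result {G : Type*} [Group G] [Finite G] {D : Set G} (hD : Cfsg.IsRootInvolutionSet D) :
    (∀ w ∈ {w | Cfsg.IsIsolatedElem (Cfsg.OddAdj D) D w}, ∀ g : G, g * w * g⁻¹ ∈ {w | Cfsg.IsIsolatedElem (Cfsg.OddAdj D) D w}) ∧
    (Subgroup.closure {w | Cfsg.IsIsolatedElem (Cfsg.OddAdj D) D w}).Normal ∧
    IsPGroup 2 ↥(Subgroup.closure {w | Cfsg.IsIsolatedElem (Cfsg.OddAdj D) D w}) ∧
    (Subgroup.closure {w | Cfsg.IsIsolatedElem (Cfsg.OddAdj D) D w} : Set G) ∩ D = {w | Cfsg.IsIsolatedElem (Cfsg.OddAdj D) D w} ∧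
    (∀ a ∈ D, ∀ b ∈ D, (∃ a' ∈ Cfsg.elemComponentOf (Cfsg.OddAdj D) D a, a' ≠ a) →
      (∃ b' ∈ Cfsg.elemComponentOf (Cfsg.OddAdj D) D b, b' ≠ b) →
      Cfsg.elemComponentOf (Cfsg.OddAdj D) D a ≠ Cfsg.elemComponentOf (Cfsg.OddAdj D) D b →
        a * b * a⁻¹ * b⁻¹ ∈ Subgroup.closure {w | Cfsg.IsIsolatedElem (Cfsg.OddAdj D) D w}) ∧
    (∀ a ∈ D, (∃ a' ∈ Cfsg.elemComponentOf (Cfsg.OddAdj D) D a, a' ≠ a) →
      Cfsg.productPartners D a ⊆ Cfsg.elemComponentOf (Cfsg.OddAdj D) D a ∪ {w | Cfsg.IsIsolatedElem (Cfsg.OddAdj D) D w}) := by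
  have h := ri hD
  rw [show {w | IsIsolatedElem (OddAdj D) D w} = {w | w ∈ D ∧ ∀ x ∈ D, ¬ Od w x} from Set.ext fun _ => isolated_iff]
  have h1 : ∀ w ∈ {w | w ∈ D ∧ ∀ x ∈ D, ¬ Od w x}, ∀ g : G, g * w * g⁻¹ ∈ {w | w ∈ D ∧ ∀ x ∈ D, ¬ Od w x} := fun w hw g =>
    ⟨hD.3 w hw.1 g, fun x hx k => hw.2 _ (hD.3 x hx g⁻¹) (by simpa [mul_assoc] using k.conj g⁻¹)⟩
  have h2 : (closure {w | w ∈ D ∧ ∀ x ∈ D, ¬ Od w x}).Normal := ⟨fun n hn g => by
    have := mem_map_of_mem (MulAut.conj g).toMonoidHom hn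
    rw [MonoidHom.map_closure] at this
    exact closure_mono (by rintro _ ⟨y, hy, rfl⟩; exact h1 y hy g) this⟩
  have h3 := h.isPGroup_closure (S := {w | w ∈ D ∧ ∀ x ∈ D, ¬ Od w x}) (fun _ h => h.1)
    (fun x hx y hy => by simpa only [h.inv hy.1] using h1 x hx y) fun x hx y hy => hx.2 y hy.1
  have h4 : ∀ a ∈ D, (∃ a' ∈ elemComponentOf (OddAdj D) D a, a' ≠ a) →
      productPartners D a ⊆ elemComponentOf (OddAdj D) D a ∪ {w | w ∈ D ∧ ∀ x ∈ D, ¬ Od w x} := by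
    rintro a ha ⟨a', h5, h6⟩ e he
    obtain e1 | ⟨x, hx, -⟩ := h5.2.cases_head
    · exact absurd e1.symm h6
    by_cases k : ∀ x ∈ D, ¬ Od e x
    · exact .inr ⟨he.1.1, k⟩
    push Not at k
    obtain ⟨y, hy, k⟩ := k
    exact .inl ⟨he.1.1, h.oc_of_prod ha he.1.1 (he.1.2.1 ▸ he.2) hx.2.1 hx.2.2 hy k⟩
  refine ⟨h1, h2, h3, Set.ext fun w => ⟨fun k => ⟨k.2, fun x hx => h.not_od_of_mem h3 k.2 hx k.1⟩, fun k => ⟨subset_closure k, k.1⟩⟩,
    fun a ha b hb h5 h6 h7 => ?_, h4⟩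
  have h8 : ∀ z, z ∈ elemComponentOf (OddAdj D) D a → z ∉ elemComponentOf (OddAdj D) D b := fun z k1 k2 =>
    h7 (Set.ext fun u => and_congr_right' ⟨(k2.2.trans (oc_symm k1.2)).trans, (k1.2.trans (oc_symm k2.2)).trans⟩)
  have h9 : ¬ Od a b := fun k => h8 b ⟨hb, .single ⟨ha, hb, k⟩⟩ ⟨hb, .refl⟩
  rw [h.inv ha, h.inv hb]
  by_cases k : a * b = b * a
  · rw [mul_assoc a, ← k, cn (h.sq ha), h.sq hb]; exact one_mem _
  have h10 := (h.mem ha hb h9 k).2
  have h11 : ∀ u ∈ D, u * (a * b * a * b) = a * b * a * b * u → u * (a * b * a * b) ∈ D → a * b * a * b ∈ productPartners D u :=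
    fun u hu k1 k2 => ⟨⟨h10, k1.symm, fun e => h.ne k2 (by rw [e, h.sq hu])⟩, k1 ▸ k2⟩
  obtain k1 | k1 := h4 a ha h5 (h11 a ha (h.c1 ha hb h9) (by simpa only [mul_assoc, cn (h.sq ha)] using h.cj' ha hb))
  obtain k2 | k2 := h4 b hb h6 (h11 b hb (h.c2 ha hb h9) (by
    rw [h.c2 ha hb h9, mul_assoc, h.sq hb, mul_one]; exact h.cj' hb ha))
  exacts [absurd k2 (h8 _ k1), subset_closure k2, subset_closure k1]

end Cfsg.Agent.S5045
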