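import Cfsg.Statements.S5046
import Cfsg.Agent.Lib.Root.Inv

set_option autoImplicit false
open Cfsg

namespace Cfsg.Agent.S5046

open Cfsg.Lib.RInv Cfsg.Lib Subgroup

/-- Let G be a finite group generated by a set D of root involutions whose odd-order-product graph is connected, and d ∈ D. Then the members e of D with the same commuting members as d are exactly those for which the union of the commuting members of d and the members whose product with d has order 4 equals the corresponding union for e. -/
theorem result {G : Type*} [Group G] [Finite G] {D : Set G} (hD : Cfsg.IsRootInvolutionSet D)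
    (hc : Cfsg.IsConnectedSet (Cfsg.OddAdj D) D) {d : G} (hd : d ∈ D) :
    Cfsg.sameCommutingClass D d =
      {e | e ∈ D ∧ Cfsg.commutingMembers D d ∪ Cfsg.fourPartners D d = Cfsg.commutingMembers D e ∪ Cfsg.fourPartners D e} := by
  have h := ri hD
  have k : ∀ d ∈ D, ∀ x, x ∈ commutingMembers D d ∪ fourPartners D d ↔ x ∈ D ∧ ¬ Od d x := fun d hd x =>
    ⟨fun k => k.elim (fun k => ⟨k.1, h.no hd k.1 k.2.symm⟩) fun k => ⟨k.1, h.not_od_of_four hd k.2⟩, fun k => by
      by_cases e : x * d = d * x
      exacts [.inl ⟨k.1, e⟩, .inr ⟨k.1, (h.mem hd k.1 k.2 (Ne.symm e)).1⟩]⟩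
  ext e
  rw [same_iff]
  refine and_congr_right fun he => ?_
  simp only [Set.ext_iff, k d hd, k e he, and_congr_right_iff, not_iff_not]
  refine ⟨fun h1 x hx => ⟨h.od_of_cent he hd hx fun y hy => (h1 y hy).2, h.od_of_cent hd he hx fun y hy => (h1 y hy).1⟩, fun h1 y hy => ?_⟩
  by_cases e1 : d = e
  · rw [e1]
  have c := h.cl_of_conn hc hd he e1
  exact ⟨c.cent_of_same hd he h1 hy, c.cent_of_same he hd (fun x hx => (h1 x hx).symm) hy⟩

end Cfsg.Agent.S5046
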