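import Cfsg.Statements.S5049
import Cfsg.Agent.Lib.Root.Inv

set_option autoImplicit false
open Cfsg

namespace Cfsg.Agent.S5049

open Cfsg.Lib.RInv Cfsg.Lib Subgroup

/-- Let G be a finite group generated by a set D of odd transpositions (root involutions with no product of order 4), Q = O₂(G), and for a ∈ D let Q_a be the commutator subgroup of Q with a. Then every member of D commuting with a centralizes Q_a; and for b ∈ D with ab of odd order greater than 1, the centralizer of ab in Q is the intersection of the centralizers of a and b in Q. -/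
theorem result {G : Type*} [Group G] [Finite G] {D : Set G} (hD : Cfsg.IsOddTranspositionSet D) {a : G} (ha : a ∈ D) :
    (∀ e ∈ Cfsg.commutingMembers D a, ∀ q ∈ ⁅Cfsg.pCore 2 G, Subgroup.zpowers a⁆, e * q = q * e) ∧
    (∀ b ∈ Cfsg.oddPartners D a,
      Cfsg.pCore 2 G ⊓ Subgroup.centralizer {a * b} = Cfsg.pCore 2 G ⊓ Subgroup.centralizer {a} ⊓ Subgroup.centralizer {b}) := by
  have h := ri hD.1
  have hP := Core.isPGroup_pCore 2 G
  have k : ∀ e ∈ D, ∀ a ∈ D, e * a = a * e → ∀ q ∈ pCore 2 G, e * (q * a * q⁻¹) = q * a * q⁻¹ * e := fun e he a ha h1 q hq => by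
    by_contra h2
    refine hD.2 e he _ (hD.1.3 a ha q) (h.mem he (hD.1.3 a ha q) (fun h3 => ?_) h2).1
    refine h.not_od_of_pgroup hP he ?_ (h.od_cj he (hD.1.3 a ha q) h3)
    rw [← QuotientGroup.eq_one_iff] at hq ⊢
    simp only [QuotientGroup.mk_mul, QuotientGroup.mk_inv, hq, one_mul, inv_one, mul_one]
    simp only [← QuotientGroup.mk_mul, ← h1, mul_assoc, h.sq ha, mul_one, h.sq he, QuotientGroup.mk_one]
  refine ⟨fun e he q hq => ?_, fun b hb => le_antisymm (fun q hq => ?_) fun q hq => ⟨hq.1.1, ?_⟩⟩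
  · refine (mem_centralizer_singleton_iff.1 (commutator_le.2 (fun q hq x hx => mem_centralizer_singleton_iff.2 ?_) hq)).symm
    obtain ⟨n, rfl⟩ := mem_zpowers_iff.1 hx
    have h1 : Commute e (q * a * q⁻¹) := k e he.1 a ha he.2 q hq
    rw [commutatorElement_def, ← conj_zpow]
    exact ((h1.zpow_right n).mul_right (Commute.zpow_right he.2 n).inv_right).symm
  · have h1 := mem_centralizer_singleton_iff.1 (mem_inf.1 hq).2
    have h2 := k a ha a ha rfl q hq.1
    have h3 := k b hb.1 b hb.1 rfl q hq.1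
    have h4 : q * a * q⁻¹ * (q * b * q⁻¹) = a * b := by rw [conj_mul, h1, mul_inv_cancel_right]
    have h5 : a * (q * a * q⁻¹) = b * (q * b * q⁻¹) := by
      rw [h2, h3, ← mul_left_inj b, ← mul_right_inj (q * a * q⁻¹), mul_assoc _ b, h.sq hb.1, mul_one, h4, mul_assoc (q * a * q⁻¹) a,
        cn (h.sq (hD.1.3 a ha q))]
    have h6 : a * (q * a * q⁻¹) = 1 := by_contra fun e => h.K hb.1 (h.sq ha) (by rw [cn (h.sq ha)]; exact hD.1.3 a ha q) e
      (by rw [h5, mul_assoc, h3]) (by rw [mul_assoc, h2]) (Od.symm ⟨hb.2.1.symm, hb.2.2⟩)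
    have h7 : ∀ a ∈ D, a * (q * a * q⁻¹) = 1 → q ∈ centralizer {a} := fun a ha e => mem_centralizer_singleton_iff.2 (by
      rw [← mul_inv_eq_iff_eq_mul, ← cn (h.sq ha) (q * a * q⁻¹), e, mul_one])
    exact ⟨⟨hq.1, h7 a ha h6⟩, h7 b hb.1 (h5 ▸ h6)⟩
  · exact mem_centralizer_singleton_iff.2 (Commute.mul_right (mem_centralizer_singleton_iff.1 hq.1.2) (mem_centralizer_singleton_iff.1 hq.2))

end Cfsg.Agent.S5049
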