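import Cfsg.Statements.S5052
import Cfsg.Agent.Lib.Layer.OTg

set_option autoImplicit false
open Cfsg

namespace Cfsg.Agent.S5052

open Cfsg.Lib.Layer.OTr Cfsg.Lib.RInv Subgroup

/-- Let G be a finite group with O₂(G) = 1 and trivial centre, generated by a class D of odd transpositions whose commuting graph is connected, with some product of two different commuting members again in D. Then for each d ∈ D the members of D with the same commuting members as d, together with 1, form a subgroup E(d); and for every x ∈ D with dx of odd order greater than 1, the subgroup generated by E(d) and x is isomorphic to L₂(q) where q is the order of E(d). -/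
theorem result {G : Type*} [Group G] [Finite G] {D : Set G} (hD : Cfsg.IsOddTranspositionSet D) (hcl : Cfsg.IsRootInvolutionClass D)
    (hO : Cfsg.pCore 2 G = ⊥) (hZ : Subgroup.center G = ⊥) (hDD : (D ∩ Cfsg.commutingProducts D).Nonempty)
    (hc : Cfsg.IsConnectedSet (Cfsg.CommAdj D) D) {d : G} (hd : d ∈ D) :
    (Cfsg.sameCommutingSubgroup D d : Set G) = Cfsg.sameCommutingClass D d ∪ {1} ∧
    ∀ x ∈ Cfsg.oddPartners D d, ∃ (F : Type) (_ : Field F) (_ : Fintype F),
      Fintype.card F = Nat.card ↥(Cfsg.sameCommutingSubgroup D d) ∧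
      Nonempty (↥(Subgroup.closure (Cfsg.sameCommutingClass D d ∪ {x})) ≃* Matrix.ProjectiveSpecialLinearGroup (Fin 2) F) := by
  have h := ot hD
  obtain ⟨x, hx, k⟩ : ∃ x ∈ D, ¬ Commute d x := by
    by_contra! k
    exact h.ri.ne hd (mem_bot.1 (hZ ▸ mem_center_iff.2 fun g => (cent_closure k (hD.1.2.ge (mem_top g))).symm))
  have c := cl_of_class hcl hd hx (h.od hd hx k)
  have z : twoZCore G = ⊥ := eq_bot_iff.2 fun z hz => hZ ▸ mem_center_iff.2 fun g => by
    have := mem_center_iff.1 hz (g : G ⧸ pCore 2 G)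
    rw [← mul_inv_eq_one, ← mem_bot, ← hO, ← QuotientGroup.eq_one_iff]
    exact mul_inv_eq_one.2 this
  have H : GS D := ⟨⟨h, c, exists_four hDD⟩, hD.1.2, fun N _ hN => eq_bot_iff.2 (z ▸ c.le_twoZCore hD.1.2 (exists_four hDD) hN),
    h.conn hc⟩
  refine ⟨Set.Subset.antisymm (fun w hw => (H.a5 hd hw).symm) ?_, fun y hy =>
    H.psl hd hy.1 fun k => (h.od_iff hd hy.1).1 ⟨hy.2.1.symm, hy.2.2⟩ k.symm⟩
  rintro _ (k | rfl)
  exacts [subset_closure k, one_mem _]

end Cfsg.Agent.S5052
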