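import Cfsg.Statements.S5057

set_option autoImplicit false
open Cfsg

namespace Cfsg.Agent.S5057

open Equiv

theorem h5 : ∀ σ : Perm (Fin 6), Perm.sign σ = 1 → σ ^ 4 = 1 ∨ σ ^ 3 = 1 ∨ σ ^ 5 = 1 := by decide +kernel
theorem h6 : ∀ σ : Perm (Fin 6), Perm.sign σ = 1 → σ ^ 2 = 1 → σ = 1 ∨ σ.support.card = 4 := by decide +kernel

theorem h7 (g : alternatingGroup (Fin 6)) : orderOf g = 1 ∨ orderOf g = 2 ∨ orderOf g = 4 ∨ orderOf g = 3 ∨ orderOf g = 5 := by
  rcases h5 g g.2 with h | h | h
  · have h1 : orderOf g ∣ 4 := orderOf_dvd_of_pow_eq_one (Subtype.ext h)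
    have h2 := Nat.le_of_dvd (by norm_num) h1
    interval_cases orderOf g <;> simp_all
  · have := (Nat.dvd_prime Nat.prime_three).1 (orderOf_dvd_of_pow_eq_one (x := g) (Subtype.ext h))
    omega
  · have := (Nat.dvd_prime Nat.prime_five).1 (orderOf_dvd_of_pow_eq_one (x := g) (Subtype.ext h))
    omega

theorem h8 {g : alternatingGroup (Fin 6)} (h : orderOf g = 2) : g.1.support.card = 4 ∧ g.1.cycleType = {2, 2} := by
  have h1 : g.1 ^ 2 = 1 := by rw [← Subgroup.coe_pow, ← h, pow_orderOf_eq_one, Subgroup.coe_one]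
  have h4 := (h6 g g.2 h1).resolve_left fun e => by simp [show g = 1 from Subtype.ext e] at h
  have h5 := Perm.cycleType_of_pow_prime_eq_one h1
  have h6 := g.1.sum_cycleType
  rw [h5, Multiset.sum_replicate, h4, smul_eq_mul] at h6
  exact ⟨h4, by rw [h5, show g.1.cycleType.card = 2 by omega]; rfl⟩

/-- The involutions of the alternating group of degree 6 form a class of root involutions (a single conjugacy class of involutions generating the group, any two of which commute, have product of odd order, or have product of order 4 whose square is again an involution of the class), and the product of any two of them has order at most 5. -/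
theorem result :
    Cfsg.IsRootInvolutionClass {g : ↥(alternatingGroup (Fin 6)) | orderOf g = 2} ∧
    ∀ d ∈ {g : ↥(alternatingGroup (Fin 6)) | orderOf g = 2}, ∀ e ∈ {g : ↥(alternatingGroup (Fin 6)) | orderOf g = 2},
      orderOf (d * e) ≤ 5 := by
  let a : alternatingGroup (Fin 6) := ⟨swap 0 1 * swap 2 3, Perm.mem_alternatingGroup.2 (by decide)⟩
  have ha : orderOf a = 2 := orderOf_eq_prime (by decide) (by decide)
  have hc : ∀ d ∈ {g : alternatingGroup (Fin 6) | orderOf g = 2}, ∀ g, g * d * g⁻¹ ∈ {g : alternatingGroup (Fin 6) | orderOf g = 2} :=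
    fun d hd g => ((MulAut.conj g).orderOf_eq d).trans hd
  have := alternatingGroup.isSimpleGroup (α := Fin 6) (by simp)
  refine ⟨⟨⟨fun _ h => h, ?_, hc, fun x hx y hy => ?_⟩, ⟨a, ha⟩, fun x hx y hy => ?_⟩, fun d _ e _ => by have := h7 (d * e); omega⟩
  · have hN : (Subgroup.closure {g : alternatingGroup (Fin 6) | orderOf g = 2}).Normal := ⟨fun n hn g => by
      induction hn using Subgroup.closure_induction with
      | mem x hx => exact Subgroup.subset_closure (hc x hx g)
      | one => simp
      | mul x y _ _ h1 h2 => simpa [mul_assoc] using mul_mem h1 h2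
      | inv x _ h1 => simpa [mul_assoc] using inv_mem h1⟩
    exact hN.eq_bot_or_eq_top.resolve_left fun e => by
      simp [Subgroup.mem_bot.1 (e.le (Subgroup.subset_closure (show a ∈ {g : alternatingGroup (Fin 6) | orderOf g = 2} from ha)))] at ha
  · have k : ∀ z : alternatingGroup (Fin 6), orderOf z ∣ 2 → z⁻¹ = z := fun z h =>
      inv_eq_of_mul_eq_one_right (by rw [← pow_two]; exact orderOf_dvd_iff_pow_eq_one.1 h)
    have k' : orderOf (x * y) ∣ 2 → x * y = y * x := fun h => by
      rw [← k _ h, _root_.mul_inv_rev, k x (by rw [hx]), k y (by rw [hy])]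
    rcases h7 (x * y) with h | h | h | h | h
    · exact .inl (k' (by simp [h]))
    · exact .inl (k' (by simp [h]))
    · exact .inr (.inr ⟨h, by rw [Set.mem_ofPred_eq, orderOf_pow, h]; rfl⟩)
    · exact .inr (.inl (by rw [h]; decide))
    · exact .inr (.inl (by rw [h]; decide))
  · obtain ⟨g, hg⟩ := isConj_iff.1 (alternatingGroup.isConj_of (Perm.isConj_of_cycleType_eq ((h8 hx).2.trans (h8 hy).2.symm))
      (by simp [(h8 hx).1]))
    exact ⟨g, hg.symm⟩

end Cfsg.Agent.S5057
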