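import Cfsg.Statements.S5058
import Cfsg.Agent.Lib.Root.Ex2

set_option autoImplicit false
open Matrix
open Cfsg

namespace Cfsg.Agent.S5058

open Cfsg.Lib.Root Cfsg.Lib.Linear

/-- Let F be a finite field of characteristic 2 and n a natural number. Then the transvections of SL_{n+3}(F) (so in every dimension at least 3) (the conjugates of the elementary matrices 1 + c E₁₂, c ≠ 0) form a class of root involutions of SL_{n+3}(F); when F has two elements they form a class of {3,4}⁺-transpositions (every product of odd order has order 1 or 3). -/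
theorem result (F : Type*) [Field F] [Fintype F] [CharP F 2] (n : ℕ) :
    Cfsg.IsRootInvolutionClass {t : Matrix.SpecialLinearGroup (Fin (n + 3)) F | ∃ c : F, c ≠ 0 ∧
        ∃ g : Matrix.SpecialLinearGroup (Fin (n + 3)) F, ((g⁻¹ * t * g : Matrix.SpecialLinearGroup (Fin (n + 3)) F) :
          Matrix (Fin (n + 3)) (Fin (n + 3)) F) = Matrix.transvection 0 1 c} ∧
    (Fintype.card F = 2 → Cfsg.IsThreeFourPlusTranspositionSet {t : Matrix.SpecialLinearGroup (Fin (n + 3)) F | ∃ c : F, c ≠ 0 ∧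
        ∃ g : Matrix.SpecialLinearGroup (Fin (n + 3)) F, ((g⁻¹ * t * g : Matrix.SpecialLinearGroup (Fin (n + 3)) F) :
          Matrix (Fin (n + 3)) (Fin (n + 3)) F) = Matrix.transvection 0 1 c}) := by
  have h01 : (0 : Fin (n + 3)) ≠ 1 := Fin.zero_ne_one
  have hι : 3 ≤ Fintype.card (Fin (n + 3)) := by simp
  have T := sl_tf (k := F) (ι := Fin (n + 3))
  have hD := T.ris sl_gn
  have h1 : ∀ a ∈ rootElements (Ax F Matrix.SpecialLinearGroup.coeMonoidHom '' slX F (Fin (n + 3))), IsTv a := by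
    rintro a ⟨-, _, ⟨_, ⟨v, φ, h1, h2, h3, rfl⟩, rfl⟩, ha⟩
    obtain ⟨c, ha⟩ := (mem_Ax (T.sq _ ⟨v, φ, h1, h2, h3, rfl⟩)).1 ha
    exact isTv_of_coe_eq (v := v) (φ := c • φ) (by rw [vecMulVec_smul]; exact ha)
  rw [sl_eq' hι h01]
  refine ⟨⟨hD, ?_, fun a ha b hb => ?_⟩, fun h => ⟨hD, fun a ha b hb ho => ?_⟩⟩
  · obtain ⟨a, ha, h⟩ := (T.rs sl_gn).exists_ne_one ⟨_, single_mem h01, rfl⟩
    exact ⟨a, h, _, ⟨_, single_mem h01, rfl⟩, ha⟩
  · obtain ⟨g, hg⟩ := isConj_iff.1 ((h1 a ha).isConj hι (h1 b hb) ha.1 hb.1)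
    exact ⟨g, hg.symm⟩
  · have h3 : (a * b) ^ 3 = 1 := by
      rcases T.tri' sl_gn ha hb with e | e | e
      · have h2 : (a * b) ^ 2 = 1 := by
          rw [Commute.mul_pow e, ← hD.1 a ha, pow_orderOf_eq_one, hD.1 a ha, ← hD.1 b hb, pow_orderOf_eq_one, mul_one]
        rw [orderOf_eq_one_iff.1 (Nat.eq_one_of_dvd_coprimes (Nat.coprime_two_right.2 ho) dvd_rfl (orderOf_dvd_of_pow_eq_one h2)), one_pow]
      · exact e.2 (by rw [Nat.card_eq_fintype_card, h])
      · rw [e.1] at ho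
        exact absurd ho (by decide)
    exact (Nat.dvd_prime Nat.prime_three).1 (orderOf_dvd_of_pow_eq_one h3)

end Cfsg.Agent.S5058
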