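import Cfsg.Statements.S5060
import Cfsg.Agent.Lib.Root.Pade

set_option autoImplicit false
open Cfsg

namespace Cfsg.Agent.S5060

open Cfsg.Lib.Root Matrix

/-- Let k ⊆ K be fields with the characteristic of k not 2 and k not of order 3, and let α ∈ K be a non-zero element algebraic over k. Then the subgroup of SL₂(K) generated by the upper unitriangular matrices with entry c and the lower unitriangular matrices with entry cα, c ranging over k, is exactly the group of matrices of SL₂(K) with all entries in k(α). -/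
theorem result {k K : Type*} [Field k] [Field K] [Algebra k K] (hk2 : ringChar k ≠ 2) (hk3 : Nat.card k ≠ 3)
    (α : K) (hα : IsAlgebraic k α) (hα0 : α ≠ 0) :
    (Subgroup.closure ({g : Matrix.SpecialLinearGroup (Fin 2) K | ∃ c : k, (g : Matrix (Fin 2) (Fin 2) K) = !![1, algebraMap k K c; 0, 1]} ∪
        {g : Matrix.SpecialLinearGroup (Fin 2) K | ∃ c : k, (g : Matrix (Fin 2) (Fin 2) K) = !![1, 0; algebraMap k K c * α, 1]}) :
      Set (Matrix.SpecialLinearGroup (Fin 2) K)) =
    {g : Matrix.SpecialLinearGroup (Fin 2) K | ∀ i j : Fin 2, (g : Matrix (Fin 2) (Fin 2) K) i j ∈ IntermediateField.adjoin k ({α} : Set K)} := by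
  let F := IntermediateField.adjoin k ({α} : Set K)
  let ν : F := IntermediateField.AdjoinSimple.gen k α
  let θ : SpecialLinearGroup (Fin 2) F →* SpecialLinearGroup (Fin 2) K := SpecialLinearGroup.map (algebraMap F K)
  have h1 := dk_eq_top (fun e => hk2 (CharP.ringChar_of_prime_eq_zero Nat.prime_two e)) hk3 (IntermediateField.isAlgebraic_iff.2 hα)
    (fun h => hα0 (congrArg Subtype.val h) : ν ≠ 0) (IntermediateField.adjoin.powerBasis hα.isIntegral).adjoin_gen_eq_top
  have h2 : (dk k ν).map θ = dk k α := by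
    simp only [dk, MonoidHom.map_closure, Set.image_union]
    congr 2 <;> ext g <;> constructor
    · rintro ⟨g, ⟨c, e⟩, rfl⟩
      exact ⟨c, by ext i j; fin_cases i <;> fin_cases j <;> simp [θ, e]⟩
    · rintro ⟨c, e⟩
      exact ⟨⟨_, by simp⟩, ⟨c, rfl⟩, Subtype.ext (by rw [e]; ext i j; fin_cases i <;> fin_cases j <;> rfl)⟩
    · rintro ⟨g, ⟨c, e⟩, rfl⟩
      exact ⟨c, by ext i j; fin_cases i <;> fin_cases j <;> simp [θ, e, ν]⟩
    · rintro ⟨c, e⟩
      exact ⟨⟨_, by simp⟩, ⟨c, rfl⟩, Subtype.ext (by rw [e]; ext i j; fin_cases i <;> fin_cases j <;> rfl)⟩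
  change SetLike.coe (dk k α) = _
  rw [← h2, h1]
  ext g
  refine ⟨by rintro ⟨g, -, rfl⟩ i j; exact (g i j).2, fun h => ⟨⟨Matrix.of fun i j => ⟨_, h i j⟩, Subtype.ext ?_⟩, trivial, rfl⟩⟩
  simpa [det_fin_two] using det_fin_two g.1 ▸ g.det_coe

end Cfsg.Agent.S5060
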