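import Cfsg.Statements.S5063
import Cfsg.Agent.Lib.Quad.Comp

set_option autoImplicit false
universe u
open Cfsg

namespace Cfsg.Agent.S5063

open Cfsg.Lib.Quad Cfsg.Lib.Root Cfsg.Lib.Transfer Subgroup Module

variable {k M : Type u} [Field k] [AddCommGroup M] [Module k M] [FiniteDimensional k M] {G : Subgroup (End k M)ˣ}
  (h2 : (2 : k) ≠ 0) (h3 : Nat.card k ≠ 3)
include h2 h3

theorem mem_or (hG : IC G) (h : closure (quadraticElements G) = G) {x : End k M} (hx : Q G x) :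
    ux hx.sq ∈ centralizer (gn (quadraticRootSubgroups G)) ∨
      ∃ A ∈ quadraticRootSubgroups G, ux hx.sq ∈ gn (cp (quadraticRootSubgroups G) A) := by
  induction e : rk x using Nat.strong_induction_on generalizing x with | _ n ih => ?_
  obtain h4 | ⟨y, hy, h4, h5, h6⟩ := hG.split h2 h3 hx
  · exact Or.inl (mem_cent_roots _ h4)
  have hA := mem_roots.2 ⟨y, hy, rfl⟩
  have h7 : ∀ v (hv : v ∈ Es G y), ux hv.1.sq ∈ gn (cp (quadraticRootSubgroups G) (Eg G y)) := fun v hv => le_gn (mem_cp hA) (ux_mem_Eg hv)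
  refine Or.inr ⟨_, hA, ?_⟩
  rw [show ux hx.sq = ux h4.sq * ux hy.q.sq from
    Units.ext (by simp only [Units.val_mul, ux_val, mul_add, add_mul, h5, mul_one, one_mul]; abel)]
  refine mul_mem (by_contra fun hn => hn ?_) (h7 y hy.q.mem_Es)
  have h8 : ux h4.sq ∈ centralizer (gn (cp (quadraticRootSubgroups G) (Eg G y))) := by
    obtain h8 | ⟨B, hB, h8⟩ := ih _ (e ▸ h6) h4 rfl
    · exact centralizer_le (iSup₂_le fun _ h => le_gn h.1 : gn (cp _ _) ≤ _) h8
    · exact commutator_eq_bot_iff_le_centralizer.1 ((hG.pr h2 h3).comm_gn fun e => hn (e ▸ h8)) h8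
  rw [not_not.1 (mt (ux_ne_one h4.sq).1 (not_not.2 ((hG.cp h2 h3 h (Eg G y)).eq_zero
    ⟨hy.q.sq, fun c => mem_gm.2 (h7 _ (Submodule.smul_mem _ c hy.q.mem_Es))⟩ hy.ne (fun g hg => ?_) h5)))]
  · exact one_mem _
  · simpa only [Units.val_mul, ux_val, add_mul, mul_add, one_mul, mul_one, add_right_inj] using congrArg Units.val (h8 g hg).symm

theorem main (hG : IC G) (h : closure (quadraticElements G) = G) : ∃ T : Set (Subgroup (End k M)ˣ), T.Finite ∧
    (∀ H ∈ T, H ≤ G ∧ G ≤ H ⊔ centralizer H ∧ IsQuasisimple H ∧ closure (quadraticElements G ∩ H) = H) ∧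
    (∀ H ∈ T, ∀ L ∈ T, H ≠ L → ⁅H, L⁆ = ⊥) ∧ ∀ σ ∈ quadraticElements G, ∃ H ∈ T, σ ∈ H := by
  induction e : finrank k (Submodule.span k {x | Q G x}) using Nat.strong_induction_on generalizing G with | _ n ih => ?_
  by_cases! h0 : ∀ x, Q G x → x = 0
  · exact ⟨∅, by simp, by simp, by simp, fun σ hσ => absurd (h0 _ (q_iff.1 hσ).1) (q_iff.1 hσ).2⟩
  obtain ⟨x, hx, h0⟩ := h0
  obtain ⟨x, hx⟩ := exists_qd hx h0
  let G' := closure (quadraticElements G ∩ centralizer (gn (quadraticRootSubgroups G) : Set (End k M)ˣ))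
  have g1 : G' ≤ G := (Subgroup.closure_mono Set.inter_subset_left).trans h.le
  have g2 : G' ≤ centralizer (gn (quadraticRootSubgroups G)) := (closure_le _).2 Set.inter_subset_right
  have g3 : ∀ σ ∈ quadraticElements G, σ ∈ centralizer (gn (quadraticRootSubgroups G) : Set (End k M)ˣ) → σ ∈ quadraticElements G' :=
    fun σ hσ hc => ⟨subset_closure ⟨hσ, hc⟩, hσ.2.1, fun τ ⟨c, e⟩ => by
      by_cases e' : τ = 1
      · exact e' ▸ one_mem G'
      refine subset_closure ⟨q_iff.2 ⟨by simpa [e] using (q_iff.1 hσ).1.smul c, fun e => e' (Units.ext (sub_eq_zero.1 e))⟩, fun g hg => Units.ext ?_⟩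
      have := congrArg Units.val (hc g hg)
      simp only [Units.val_mul, e, mul_add, add_mul, mul_smul_comm, smul_mul_assoc, mul_sub, sub_mul, mul_one, one_mul] at this ⊢
      rw [this]⟩
  have g4 : G ≤ gn (quadraticRootSubgroups G) ⊔ G' := h.ge.trans ((closure_le _).2 fun σ hσ => by
    obtain e | ⟨A, -, e⟩ := (Units.ext (by simp) : ux (q_iff.1 hσ).1.sq = σ) ▸ mem_or h2 h3 hG h (q_iff.1 hσ).1
    · exact mem_sup_right (subset_closure ⟨hσ, e⟩)
    · exact mem_sup_left ((iSup₂_le fun _ h => le_gn h.1 : gn (cp _ _) ≤ _) e))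
  have g5 : quadraticElements G' ⊆ quadraticElements G := fun σ hσ => ⟨g1 hσ.1, hσ.2.1, hσ.2.2.trans g1⟩
  obtain ⟨T, t1, t2, t3, t4⟩ := ih _ (e ▸ Submodule.finrank_lt_finrank_of_lt (lt_of_le_not_ge (Submodule.span_mono fun y hy => Q.mono hy g1) fun e => by
    obtain ⟨y, hy, h4⟩ := hG.exists_opp h2 hx
    refine h4 ?_
    have : x ∈ (Subalgebra.centralizer k {y}).toSubmodule := Submodule.span_le (p := (Subalgebra.centralizer k {y}).toSubmodule).2 (fun z (hz : Q G' z) _ e => by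
      have := congrArg Units.val (g2 hz.ux_mem _ (le_gn (mem_roots.2 ⟨y, hy, rfl⟩) (ux_mem_Eg hy.q.mem_Es)))
      simp only [Units.val_mul, ux_val] at this
      rw [e]; linear_combination (norm := noncomm_ring) this) (e (Submodule.subset_span hx.q))
    rw [mul_assoc, this y rfl, sq_s hx.q.sq]))
    (hG.of_le g1 (g4.trans (sup_le (le_sup_of_le_right (le_centralizer_iff.1 g2)) le_sup_left)))
    (((closure_le _).2 fun σ hσ => hσ.1).antisymm (Subgroup.closure_mono fun σ hσ => g3 σ hσ.1 hσ.2)) rfl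
  have g6 : ∀ A, gn (cp (quadraticRootSubgroups G) A) ≤ gn (quadraticRootSubgroups G) := fun A => iSup₂_le fun _ h => le_gn h.1
  have g7 : ∀ H ∈ T, ∀ A, ⁅H, gn (cp (quadraticRootSubgroups G) A)⁆ = ⊥ := fun H hH A =>
    commutator_eq_bot_iff_le_centralizer.2 ((t2 H hH).1.trans (g2.trans (centralizer_le (g6 A))))
  refine ⟨T ∪ gn '' (cp (quadraticRootSubgroups G) '' quadraticRootSubgroups G), t1.union ((hG.finite h2 h3).image _), ?_, ?_, fun σ hσ => ?_⟩
  · rintro H (hH | ⟨_, ⟨A, hA, rfl⟩, rfl⟩)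
    · exact ⟨(t2 H hH).1.trans g1, g4.trans (sup_le (le_sup_of_le_right (le_centralizer_iff.1 ((t2 H hH).1.trans g2))) (t2 H hH).2.1),
        (t2 H hH).2.2.1, ((closure_le _).2 Set.inter_subset_right).antisymm
          ((t2 H hH).2.2.2.ge.trans (Subgroup.closure_mono (Set.inter_subset_inter_left _ g5)))⟩
    · refine ⟨(g6 A).trans gn_roots_le, hG.le_cp h2 h3 h A, hG.qs h2 h3 h hA, ((closure_le _).2 Set.inter_subset_right).antisymm
        (iSup₂_le fun B hB σ hσ => ?_)⟩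
      by_cases e : σ = 1
      · exact e ▸ one_mem _
      obtain ⟨y, hy, rfl⟩ := mem_roots.1 hB.1
      exact subset_closure ⟨q_iff.2 ⟨hσ.1, fun e' => e (Units.ext (sub_eq_zero.1 e'))⟩, le_gn hB hσ⟩
  · rintro H (hH | ⟨_, ⟨A, hA, rfl⟩, rfl⟩) L (hL | ⟨_, ⟨B, hB, rfl⟩, rfl⟩) hne
    · exact t3 H hH L hL hne
    · exact g7 H hH B
    · exact (Subgroup.commutator_comm _ _).trans (g7 L hL A)
    · exact (hG.pr h2 h3).comm_gn fun e => hne (congrArg gn e)
  · obtain e | ⟨A, hA, e⟩ := (Units.ext (by simp) : ux (q_iff.1 hσ).1.sq = σ) ▸ mem_or h2 h3 hG h (q_iff.1 hσ).1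
    · exact let ⟨H, h4, h5⟩ := t4 σ (g3 σ hσ e); ⟨H, Or.inl h4, h5⟩
    · exact ⟨_, Or.inr ⟨_, ⟨A, hA, rfl⟩, rfl⟩, e⟩

omit h2 h3

/-- Let k be a field of characteristic not 2 with k not of order 3, M a finite-dimensional k-vector space and G ≤ GL(M) such that (G, M) is a quadratic pair (M irreducible for G, and G generated by its quadratically acting elements σ whose scalar family 1 + c(σ − 1), c ∈ k, lies in G). Write 𝒬_d for the quadratic elements of G of minimal commutator rank, E(σ) for the subgroup generated by the members of 𝒬_d with the same fixed space and commutator space as σ, and Σ for the set of these subgroups. Then G is a central product of finitely many quasisimple normal subgroups G₁, …, G_s (pairwise commuting and together generating G), each generated by the quadratic elements of G it contains, and every quadratic element of G lies in one of them. -/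
theorem result {k : Type u} [Field k] (hk2 : ringChar k ≠ 2) (hk3 : Nat.card k ≠ 3)
    {M : Type u} [AddCommGroup M] [Module k M] [FiniteDimensional k M]
    {G : Subgroup (LinearMap.GeneralLinearGroup k M)} (hG : Cfsg.IsQuadraticPair G) :
    ∃ (s : ℕ) (Gi : Fin s → Subgroup (LinearMap.GeneralLinearGroup k M)),
      (∀ i, Gi i ≤ G ∧ ∀ g ∈ G, Cfsg.conjBy (Gi i) g = Gi i) ∧ (∀ i j, i ≠ j → ⁅Gi i, Gi j⁆ = ⊥) ∧ (⨆ i, Gi i) = G ∧
      (∀ i, Cfsg.IsQuasisimple ↥(Gi i) ∧ Subgroup.closure (Cfsg.quadraticElements G ∩ (Gi i : Set (LinearMap.GeneralLinearGroup k M))) = Gi i) ∧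
      Cfsg.quadraticElements G ⊆ ⋃ i, (Gi i : Set (LinearMap.GeneralLinearGroup k M)) := by
  obtain ⟨T, t1, t2, t3, t4⟩ := main (two_ne hk2) hk3 (ic_of hG) hG.2
  have := t1.to_subtype
  obtain ⟨r, ⟨e⟩⟩ := Finite.exists_equiv_fin T
  have h : ∀ σ ∈ quadraticElements G, ∃ i, σ ∈ (e.symm i).1 := fun σ hσ =>
    let ⟨H, h1, h2⟩ := t4 σ hσ; ⟨e ⟨H, h1⟩, by rwa [e.symm_apply_apply]⟩
  exact ⟨r, fun i => e.symm i, fun i => ⟨(t2 _ (e.symm i).2).1, fun g hg => cj_eq_iff.2
    (sup_le le_normalizer (centralizer_le_normalizer _) ((t2 _ (e.symm i).2).2.1 hg))⟩,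
    fun i j hij => t3 _ (e.symm i).2 _ (e.symm j).2 fun e' => hij (e.symm.injective (Subtype.ext e')),
    (iSup_le fun i => (t2 _ (e.symm i).2).1).antisymm (hG.2.ge.trans ((closure_le _).2 fun σ hσ =>
      let ⟨i, hi⟩ := h σ hσ; mem_iSup_of_mem i hi)), fun i => (t2 _ (e.symm i).2).2.2, fun σ hσ => Set.mem_iUnion.2 (h σ hσ)⟩

end Cfsg.Agent.S5063
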