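import Cfsg.Statements.S5064
import Cfsg.Agent.Lib.Quad.Sigma

set_option autoImplicit false
universe u
open Cfsg

namespace Cfsg.Agent.S5064

open Cfsg.Lib.Quad Cfsg.Lib.Root Cfsg.Lib.Transfer Polynomial Module

theorem aux {k M R : Type u} [Field k] [AddCommGroup M] [Module k M] [FiniteDimensional k M] {G : Subgroup (End k M)ˣ}
    [CommRing R] [Algebra k R] [Module R (End k M)] [IsScalarTower R (End k M) (End k M)] [IsScalarTower k R (End k M)] [Module.Finite k R]
    (h2 : (2 : k) ≠ 0) (hk3 : Nat.card k ≠ 3) {σ τ : (End k M)ˣ} {ζ : R} (hσ : Qd G (σ.1 - 1)) (hτ : Qd G (τ.1 - 1))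
    (h : Pr (σ.1 - 1) (τ.1 - 1) ζ) (ht : Algebra.adjoin k {ζ} = ⊤) (hn : ¬ IsNilpotent ζ) :
    ∃ (K : Type u) (_ : Field K) (_ : Algebra k K) (lam : K), IsAlgebraic k lam ∧
      IntermediateField.adjoin k ({lam} : Set K) = ⊤ ∧
      Nonempty (↥(Subgroup.closure (Cfsg.scalarFamily σ ∪ Cfsg.scalarFamily τ)) ≃* Matrix.SpecialLinearGroup (Fin 2) K) := by
  have := IsArtinianRing.of_finite k R
  obtain ⟨P, hP, hζ⟩ := not_forall₂.1 (mt nilpotent_iff_mem_prime.2 hn)
  letI := Ideal.Quotient.field P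
  have h3 := (h.all h2 hk3 hσ hτ.q ht hζ).2
  obtain ⟨s, e⟩ := (h.symm.rg h2 hk3 hτ hσ.q hn).exists_inv
  have h4 := ((h.symm.all h2 hk3 hτ hσ.q ht hζ).2 (s * ζ - 1)).1 (by rw [sub_smul, e, one_smul, sub_self])
  have h5 := (h3 _).2 h4
  rw [sub_smul, one_smul, sub_eq_zero] at h5
  obtain ⟨φ, h6, h7⟩ := exists_sl2 (y := s • (τ.1 - 1)) (Ideal.Quotient.mk P) Ideal.Quotient.mk_surjective h.xx
    (by simp only [smul_mul_assoc, h.sm, smul_zero]) (by simp only [smul_mul_assoc, mul_assoc, h.sm, smul_smul, h5])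
    (by simp only [smul_mul_assoc, mul_assoc, h.sm]; rw [← mul_smul s ζ, e]) h.cx (h.cy.smul s)
    fun r => (h3 r).trans Ideal.Quotient.eq_zero_iff_mem.symm
  have h8 : Algebra.adjoin k {Ideal.Quotient.mk P ζ} = ⊤ := by
    have := Algebra.adjoin_image k (Ideal.Quotient.mkₐ k P) {ζ}
    rwa [ht, Set.image_singleton, Algebra.map_top, (AlgHom.range_eq_top _).2 (Ideal.Quotient.mkₐ_surjective k P)] at this
  refine ⟨_, inferInstance, inferInstance, Ideal.Quotient.mk P ζ, IsAlgebraic.of_finite k _,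
    IntermediateField.adjoin_eq_top_of_algebra _ _ h8, ⟨(MulEquiv.subgroupCongr ?_).trans (MonoidHom.ofInjective h6).symm⟩⟩
  rw [MonoidHom.range_eq_map, ← dk_eq_top h2 hk3 (IsAlgebraic.of_finite k _) (mt Ideal.Quotient.eq_zero_iff_mem.1 hζ) h8, dk,
    MonoidHom.map_closure, Set.image_union]
  have h9 : ∀ c : k, (algebraMap k _ c * ζ) • s • (τ.1 - 1) = c • (τ.1 - 1) := fun c => by
    rw [mul_smul, smul_smul ζ, mul_comm, e, algebraMap_smul]
  congr 2 <;> ext g <;> constructor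
  · rintro ⟨c, e⟩
    exact ⟨⟨_, by simp⟩, ⟨c, rfl⟩, Units.ext (((h7 (algebraMap k _ c) _).1 rfl).trans (by rw [e, algebraMap_smul]))⟩
  · rintro ⟨g, ⟨c, e⟩, rfl⟩
    exact ⟨c, ((h7 (algebraMap k _ c) _).1 e).trans (by rw [algebraMap_smul])⟩
  · rintro ⟨c, e⟩
    exact ⟨⟨_, by simp⟩, ⟨c, rfl⟩, Units.ext (((h7 (algebraMap k _ c * ζ) _).2 rfl).trans (by rw [e, h9]))⟩
  · rintro ⟨g, ⟨c, e⟩, rfl⟩
    exact ⟨c, ((h7 (algebraMap k _ c * ζ) _).2 e).trans (by rw [h9])⟩

open scoped IsMulCommutative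

/-- Let k be a field of characteristic not 2 with k not of order 3, M a finite-dimensional k-vector space and G ≤ GL(M) such that (G, M) is a quadratic pair (M irreducible for G, and G generated by its quadratically acting elements σ whose scalar family 1 + c(σ − 1), c ∈ k, lies in G). Write 𝒬_d for the quadratic elements of G of minimal commutator rank, E(σ) for the subgroup generated by the members of 𝒬_d with the same fixed space and commutator space as σ, and Σ for the set of these subgroups. If σ, τ ∈ 𝒬_d and the subgroup H generated by their two scalar families does not act unipotently on M, then H is isomorphic to SL₂ over a simple algebraic extension k(λ) of k. -/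
theorem result {k : Type u} [Field k] (hk2 : ringChar k ≠ 2) (hk3 : Nat.card k ≠ 3)
    {M : Type u} [AddCommGroup M] [Module k M] [FiniteDimensional k M]
    {G : Subgroup (LinearMap.GeneralLinearGroup k M)} (hG : Cfsg.IsQuadraticPair G)
    {σ τ : LinearMap.GeneralLinearGroup k M} (hσ : σ ∈ Cfsg.minimalQuadraticElements G) (hτ : τ ∈ Cfsg.minimalQuadraticElements G)
    (hH : ¬ Cfsg.IsUnipotentOn (Subgroup.closure (Cfsg.scalarFamily σ ∪ Cfsg.scalarFamily τ))) :
    ∃ (K : Type u) (_ : Field K) (_ : Algebra k K) (lam : K), IsAlgebraic k lam ∧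
      IntermediateField.adjoin k ({lam} : Set K) = ⊤ ∧
      Nonempty (↥(Subgroup.closure (Cfsg.scalarFamily σ ∪ Cfsg.scalarFamily τ)) ≃* Matrix.SpecialLinearGroup (Fin 2) K) := by
  rw [qd_iff] at hσ hτ
  have h2 := two_ne hk2
  have h1 : ∀ σ : (Module.End k M)ˣ, Q G (σ.1 - 1) → scalarFamily σ ⊆ Eg G (σ.1 - 1) := fun σ h τ ⟨c, e⟩ => by
    rw [SetLike.mem_coe, mem_Eg, e, add_sub_cancel_left]; exact Submodule.smul_mem _ c h.mem_Es
  obtain ⟨h, ht⟩ := pr_adjoin hσ.q.sq hτ.q.sq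
  exact aux h2 hk3 hσ hτ h ht (mt (h.smul_eq_zero h2 hσ hτ.q) fun e => hH (un_iff.2 ((hσ.un h2 hτ (by rw [mul_assoc, h.xyx, e])).mono
    (by rw [Subgroup.closure_union]; exact sup_le_sup ((Subgroup.closure_le _).2 (h1 σ hσ.q)) ((Subgroup.closure_le _).2 (h1 τ hτ.q))))))

end Cfsg.Agent.S5064
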