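import Cfsg.Statements.S5065
import Cfsg.Agent.Lib.Quad.Sigma

set_option autoImplicit false
universe u
open Cfsg

namespace Cfsg.Agent.S5065

open Cfsg.Lib.Quad Cfsg.Lib.Root Cfsg.Lib.Transfer LinearMap

/-- Let k be a field of characteristic not 2 with k not of order 3, M a finite-dimensional k-vector space and G ≤ GL(M) such that (G, M) is a quadratic pair (M irreducible for G, and G generated by its quadratically acting elements σ whose scalar family 1 + c(σ − 1), c ∈ k, lies in G). Write 𝒬_d for the quadratic elements of G of minimal commutator rank, E(σ) for the subgroup generated by the members of 𝒬_d with the same fixed space and commutator space as σ, and Σ for the set of these subgroups. For σ, τ ∈ 𝒬_d put A = E(σ), B = E(τ) and X = ⟨A, B⟩. Then either X acts unipotently on M, or A and B are the unipotent subgroups of a special rank one group X; in the latter case X contains exactly one central involution acting as −1 on the commutator space [M, X] and trivially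 on the fixed space C_M(X), and M is the direct sum of C_M(X) and [M, X]. -/
theorem result {k : Type u} [Field k] (hk2 : ringChar k ≠ 2) (hk3 : Nat.card k ≠ 3)
    {M : Type u} [AddCommGroup M] [Module k M] [FiniteDimensional k M]
    {G : Subgroup (LinearMap.GeneralLinearGroup k M)} (hG : Cfsg.IsQuadraticPair G)
    {σ τ : LinearMap.GeneralLinearGroup k M} (hσ : σ ∈ Cfsg.minimalQuadraticElements G) (hτ : τ ∈ Cfsg.minimalQuadraticElements G) :
    Cfsg.IsUnipotentOn (Cfsg.sameActionSubgroup G σ ⊔ Cfsg.sameActionSubgroup G τ) ∨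
    (Cfsg.IsSpecialRankOnePair (Cfsg.sameActionSubgroup G σ) (Cfsg.sameActionSubgroup G τ) ∧
      (∃! i : LinearMap.GeneralLinearGroup k M, i ∈ Cfsg.sameActionSubgroup G σ ⊔ Cfsg.sameActionSubgroup G τ ∧ i ≠ 1 ∧ i * i = 1 ∧
        (∀ x ∈ Cfsg.sameActionSubgroup G σ ⊔ Cfsg.sameActionSubgroup G τ, i * x = x * i) ∧
        (∀ m ∈ Cfsg.commutatorSubmodule (Cfsg.sameActionSubgroup G σ ⊔ Cfsg.sameActionSubgroup G τ), (i : M →ₗ[k] M) m = -m) ∧
        (∀ m ∈ Cfsg.fixedSubmodule (Cfsg.sameActionSubgroup G σ ⊔ Cfsg.sameActionSubgroup G τ), (i : M →ₗ[k] M) m = m)) ∧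
      IsCompl (Cfsg.fixedSubmodule (Cfsg.sameActionSubgroup G σ ⊔ Cfsg.sameActionSubgroup G τ))
        (Cfsg.commutatorSubmodule (Cfsg.sameActionSubgroup G σ ⊔ Cfsg.sameActionSubgroup G τ))) := by
  rw [same_eq hσ, same_eq hτ]
  rw [qd_iff] at hσ hτ
  generalize σ.1 - 1 = x, τ.1 - 1 = y at hσ hτ ⊢
  have h2 := two_ne hk2
  refine (em _).imp (fun h => un_iff.2 (hσ.un h2 hτ h)) fun h => ⟨sp_iff.2 (hσ.sp h2 hk3 hτ h), ?_⟩
  obtain ⟨u, hu, e1, e2⟩ := hσ.partner h2 hk3 hτ h hσ.q.mem_Es hσ.ne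
  rw [← hτ.Eg_eq hu fun e => hσ.ne (by rw [← e1, e, mul_zero, zero_mul])]
  replace hu := (hτ.of_Es hu fun e => hσ.ne (by rw [← e1, e, mul_zero, zero_mul])).1
  have s := And.intro (tri_s e1) (And.intro (tri_s e2) (And.intro (sq_s hσ.q.sq) (And.intro (sq_s hu.q.sq) (And.intro hσ.q.sq hu.q.sq))))
  let N : Submodule k (Module.End k M) :=
    { carrier := {t | t * (1 - (x * u + u * x)) = 0 ∧ (1 - (x * u + u * x)) * t = 0}
      zero_mem' := by simp
      add_mem' := fun h h' => ⟨by rw [add_mul, h.1, h'.1, add_zero], by rw [mul_add, h.2, h'.2, add_zero]⟩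
      smul_mem' := fun c _ h => ⟨by rw [smul_mul_assoc, h.1, smul_zero], by rw [mul_smul_comm, h.2, smul_zero]⟩ }
  have h1 : nl k (Eg G x ⊔ Eg G u) ≤ N := nl_sup_le
    (Submodule.mul_le.2 fun a ha b hb => ⟨by rw [mul_assoc, hb.1, mul_zero], by rw [← mul_assoc, ha.2, zero_mul]⟩)
    (nl_Eg.le.trans fun v hv => ⟨Es_r hv (by simp [mul_sub, mul_add, s]), Es_l hv (by simp [sub_mul, add_mul, mul_assoc, s])⟩)
    (nl_Eg.le.trans fun v hv => ⟨Es_r hv (by simp [mul_sub, mul_add, s]), Es_l hv (by simp [sub_mul, add_mul, mul_assoc, s])⟩)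
  have h3 : IsIdempotentElem (x * u + u * x) := by simp [IsIdempotentElem, mul_add, add_mul, mul_assoc, s]
  have ha := Subgroup.mem_sup_left (T := Eg G u) (ux_mem_Eg hσ.q.mem_Es)
  have hb := Subgroup.mem_sup_right (S := Eg G x) (ux_mem_Eg hu.q.mem_Es)
  have h4 : fixedSubmodule (Eg G x ⊔ Eg G u) = ker (x * u + u * x) := by
    refine le_antisymm (fun m hm => ?_) (le_iInf₂ fun g hg m hm => ?_)
    · have h5 : x m = 0 := by simpa using iInf₂_le (f := fun (g : (Module.End k M)ˣ) _ => ker (g.1 - 1)) _ ha hm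
      have h6 : u m = 0 := by simpa using iInf₂_le (f := fun (g : (Module.End k M)ˣ) _ => ker (g.1 - 1)) _ hb hm
      simp [h5, h6]
    · have := DFunLike.congr_fun (h1 (mem_nl hg)).1 m
      rwa [Module.End.mul_apply, LinearMap.sub_apply 1, mem_ker.1 hm, sub_zero] at this
  have h5 : commutatorSubmodule (Eg G x ⊔ Eg G u) = range (x * u + u * x) := by
    refine le_antisymm (iSup₂_le fun g hg => ?_) (range_add_le.trans (sup_le (range_mul_le.trans ?_) (range_mul_le.trans ?_)))
    · have := (h1 (mem_nl hg)).2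
      rw [sub_mul, one_mul, sub_eq_zero] at this
      exact this ▸ range_mul_le
    · exact le_iSup₂_of_le _ ha (by simp)
    · exact le_iSup₂_of_le _ hb (by simp)
  have h6 : (((ux hσ.q.sq)⁻¹ * ux hu.q.sq * (ux hσ.q.sq)⁻¹) ^ 2).1 = 1 - (2 : k) • (x * u + u * x) := by
    simp only [sq, Units.val_mul, ux_val, ux_inv, mul_add, add_mul, mul_sub, sub_mul, mul_assoc, s, mul_one, one_mul, mul_zero]; module
  rw [h4, h5]
  refine ⟨⟨_, ⟨pow_mem (mul_mem (mul_mem (inv_mem ha) hb) (inv_mem ha)) 2, fun e => hσ.ne ?_, Units.ext ?_, fun g hg => Units.ext ?_, ?_,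
    fun m hm => ?_⟩, fun j hj => Units.ext (LinearMap.ext fun m => ?_)⟩, (IsIdempotentElem.isCompl h3).symm⟩
  · simpa [sub_mul, add_mul, mul_assoc, s, h2] using congrArg (· * x) (h6.symm.trans (congrArg Units.val e))
  · rw [Units.val_mul, h6]
    simp only [mul_sub, sub_mul, smul_mul_assoc, mul_smul_comm, h3.eq, mul_one, one_mul, Units.val_one]; module
  · rw [Units.val_mul, Units.val_mul, h6]
    have := h1 (mem_nl hg)
    simp only [mul_sub, sub_mul, smul_mul_assoc, mul_smul_comm, mul_one, one_mul, N, Submodule.mem_mk, AddSubmonoid.mem_mk,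
      AddSubsemigroup.mem_mk, Set.mem_ofPred_eq] at this ⊢
    linear_combination (norm := module) (2 : k) • (this.2 - this.1)
  · rintro _ ⟨m, rfl⟩
    rw [h6, LinearMap.sub_apply, LinearMap.smul_apply, Module.End.one_apply, ← Module.End.mul_apply, h3.eq]; module
  · rw [h6, LinearMap.sub_apply, LinearMap.smul_apply, mem_ker.1 hm]; simp
  · have := hj.2.2.2.2.2 (m - (x * u + u * x) m) (by rw [mem_ker, map_sub, ← Module.End.mul_apply, h3.eq, sub_self])
    rw [map_sub, hj.2.2.2.2.1 _ ⟨m, rfl⟩] at this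
    rw [h6, LinearMap.sub_apply, LinearMap.smul_apply, Module.End.one_apply]
    linear_combination (norm := module) this

end Cfsg.Agent.S5065
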