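import Cfsg.Statements.S5067
import Cfsg.Agent.Lib.Root.Chain

set_option autoImplicit false
open Cfsg

namespace Cfsg.Agent.S5067

open Cfsg.Lib.Root Subgroup

/-- Let P be a non-abelian nilpotent p-group (every element of p-power order; P possibly infinite) generated by two abelian subgroups E and F. Then the normal closure of E in P, and likewise that of F, has nilpotency class strictly smaller than that of P. -/
theorem result {P : Type*} [Group P] {p : ℕ} [Fact p.Prime] (hP : IsPGroup p P) [Group.IsNilpotent P]
    (hna : ¬ IsMulCommutative P) {E F : Subgroup P} (hE : IsMulCommutative ↥E) (hF : IsMulCommutative ↥F) (hgen : E ⊔ F = ⊤) :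
    Group.nilpotencyClass ↥(Subgroup.normalClosure (E : Set P)) < Group.nilpotencyClass P ∧
    Group.nilpotencyClass ↥(Subgroup.normalClosure (F : Set P)) < Group.nilpotencyClass P := by
  have key : ∀ E : Subgroup P, IsMulCommutative E → Group.nilpotencyClass ↥(normalClosure (E : Set P)) < Group.nilpotencyClass P := fun E hE => by
    have h1 : ∀ j, (normalClosure (E : Set P)).lowerCentralSeries (j + 1) ≤ (⊤ : Subgroup P).lowerCentralSeries (j + 2) := fun j => by
      induction j with
      | zero =>
        have : (E ⊔ commutator P).Normal := Normal.of_commutator_le _ le_sup_right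
        have h2 : normalClosure (E : Set P) ≤ E ⊔ commutator P := normalClosure_le_normal (le_sup_left (a := E))
        change ⁅_, _⁆ ≤ ⁅commutator P, ⊤⁆
        exact (commutator_mono h2 h2).trans (comm_sup_sup_le (fun x _ w hw => Normal.conj_mem inferInstance w hw x)
          ((commutator_self_eq_bot_iff.2 hE).le.trans bot_le) ((Subgroup.commutator_comm _ _).le.trans (commutator_mono le_rfl le_top))
          (commutator_mono le_rfl le_top))
      | succ j ih => exact commutator_mono ih le_top
    obtain ⟨j, hj⟩ : ∃ j, Group.nilpotencyClass P = j + 2 := Nat.exists_eq_add_of_le' (not_le.1 fun h => hna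
      (lowerCentralSeries_one_eq_bot_iff.1 (Subgroup.lowerCentralSeries_eq_bot_iff_nilpotencyClass_le.2 h)))
    rw [hj, Nat.lt_succ_iff, ← Subgroup.lowerCentralSeries_eq_bot_iff_nilpotencyClass_le, ← map_eq_bot_iff_of_injective _ (subtype_injective _),
      top_subtype_lowerCentralSeries]
    exact le_bot_iff.1 ((h1 j).trans (Subgroup.lowerCentralSeries_eq_bot_iff_nilpotencyClass_le.2 hj.le).le)
  exact ⟨key E hE, key F hF⟩

end Cfsg.Agent.S5067
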