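import Cfsg.Statements.S5069
import Cfsg.Agent.Lib.Quad.Comp

set_option autoImplicit false
universe u
open Cfsg

namespace Cfsg.Agent.S5069

open Cfsg.Lib.Quad Cfsg.Lib.Root

/-- Let k be a field of characteristic not 2 with k not of order 3, M a finite-dimensional k-vector space and G ≤ GL(M) such that (G, M) is a quadratic pair (M irreducible for G, and G generated by its quadratically acting elements σ whose scalar family 1 + c(σ − 1), c ∈ k, lies in G). Write 𝒬_d for the quadratic elements of G of minimal commutator rank, E(σ) for the subgroup generated by the members of 𝒬_d with the same fixed space and commutator space as σ, and Σ for the set of these subgroups. Then Σ is a disjoint union of finitely many parts Σ₁, …, Σ_r such that the subgroups G_i generated by the Σ_i commute pairwise, each G_i is quasisimple, and inside G_i the members of Σ_i form a class of abstract root subgroups in which every rank one pair A, B contains subgroups A₀ ≤ A, B₀ ≤ B generating an image of SL₂(k₁) with central kernel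 on unitriangular subgroups for some field k₁ with at least four elements. -/
theorem result {k : Type u} [Field k] (hk2 : ringChar k ≠ 2) (hk3 : Nat.card k ≠ 3)
    {M : Type u} [AddCommGroup M] [Module k M] [FiniteDimensional k M]
    {G : Subgroup (LinearMap.GeneralLinearGroup k M)} (hG : Cfsg.IsQuadraticPair G) :
    ∃ (r : ℕ) (part : Fin r → Set (Subgroup (LinearMap.GeneralLinearGroup k M))),
      (⋃ i, part i) = Cfsg.quadraticRootSubgroups G ∧ (∀ i j, i ≠ j → Disjoint (part i) (part j)) ∧ (∀ i, (part i).Nonempty) ∧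
      (∀ i j, i ≠ j → ⁅(⨆ A ∈ part i, A), (⨆ A ∈ part j, A)⁆ = ⊥) ∧
      (∀ i, Cfsg.IsQuasisimple ↥(⨆ A ∈ part i, A) ∧
        Cfsg.IsRootSubgroupClass ((fun A : Subgroup (LinearMap.GeneralLinearGroup k M) => A.subgroupOf (⨆ B ∈ part i, B)) '' (part i)) ∧
        ∀ A ∈ part i, ∀ B ∈ Cfsg.rankOnePartners (part i) A, ∃ A₀ B₀ : Subgroup (LinearMap.GeneralLinearGroup k M), A₀ ≤ A ∧ B₀ ≤ B ∧
          ∃ (k₁ : Type u) (_ : Field k₁), 3 < ENat.card k₁ ∧ Cfsg.IsPSL2PairOver k₁ A₀ B₀) := by
  have h2 := two_ne hk2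
  have hI := ic_of hG
  have h := hI.pr h2 hk3
  have := (hI.finite h2 hk3).to_subtype
  obtain ⟨r, ⟨e⟩⟩ := Finite.exists_equiv_fin (cp (quadraticRootSubgroups G) '' quadraticRootSubgroups G)
  choose A hA h4 using fun i => (e.symm i).2
  have h5 : ∀ i j, i ≠ j → cp (quadraticRootSubgroups G) (A i) ≠ cp (quadraticRootSubgroups G) (A j) := fun i j hij e' =>
    hij (e.symm.injective (Subtype.ext ((h4 i).symm.trans (e'.trans (h4 j)))))
  refine ⟨r, fun i => cp (quadraticRootSubgroups G) (A i), (Set.iUnion_subset fun i _ h => h.1).antisymm fun B hB =>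
    Set.mem_iUnion.2 ⟨e ⟨_, B, hB, rfl⟩, ?_⟩, fun i j hij => Set.disjoint_left.2 fun B h1 h3 => h5 i j hij ((cp_eq h1).symm.trans (cp_eq h3)),
    fun i => ⟨_, mem_cp (hA i)⟩, fun i j hij => h.comm_gn (h5 i j hij), fun i => ⟨hI.qs h2 hk3 hG.2 (hA i), h.cls (hA i),
      fun B hB C hC => hI.psl2 h2 hk3 hB.1 hC.1.1 hC.2⟩⟩
  rw [h4, e.symm_apply_apply]
  exact mem_cp hB

end Cfsg.Agent.S5069
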