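import Cfsg.Statements.S5070
import Cfsg.Agent.Lib.Root.Ex3

set_option autoImplicit false
open Matrix
open Cfsg

namespace Cfsg.Agent.S5070

open Cfsg.Lib.Root Cfsg.Lib.Forms

/-- Let F be a field, m a natural number and V = F^{2(m+1)} with the standard non-degenerate alternating form f(u, v) = uᵀ J v. For a non-zero vector p let T(p) be the group of symplectic transvections v ↦ v + c f(v, p) p, c ∈ F. Then the subgroups T(p), p ≠ 0, generate the symplectic group Sp_{2(m+1)}(F) and form a degenerate class of abstract F-root subgroups of it (any two of them either commute elementwise or are the unipotent subgroups of a rank one group that is an image of SL₂(F) with central kernel, never the commutator case), and their graph of rank one pairs is connected. -/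
theorem result (F : Type*) [Field F] (m : ℕ) :
    Cfsg.IsRootSubgroupClass {A : Subgroup ↥(Matrix.symplecticGroup (Fin (m + 1)) F) | ∃ p : Fin (m + 1) ⊕ Fin (m + 1) → F, p ≠ 0 ∧
        A = Subgroup.closure {g : ↥(Matrix.symplecticGroup (Fin (m + 1)) F) | ∃ c : F, ∀ v : Fin (m + 1) ⊕ Fin (m + 1) → F,
          (g : Matrix (Fin (m + 1) ⊕ Fin (m + 1)) (Fin (m + 1) ⊕ Fin (m + 1)) F) *ᵥ v =
            v + (c * (v ⬝ᵥ (Matrix.J (Fin (m + 1)) F *ᵥ p))) • p}} ∧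
    Cfsg.IsDegenerateRootSet {A : Subgroup ↥(Matrix.symplecticGroup (Fin (m + 1)) F) | ∃ p : Fin (m + 1) ⊕ Fin (m + 1) → F, p ≠ 0 ∧
        A = Subgroup.closure {g : ↥(Matrix.symplecticGroup (Fin (m + 1)) F) | ∃ c : F, ∀ v : Fin (m + 1) ⊕ Fin (m + 1) → F,
          (g : Matrix (Fin (m + 1) ⊕ Fin (m + 1)) (Fin (m + 1) ⊕ Fin (m + 1)) F) *ᵥ v =
            v + (c * (v ⬝ᵥ (Matrix.J (Fin (m + 1)) F *ᵥ p))) • p}} ∧
    Cfsg.IsKRootSubgroupSet F {A : Subgroup ↥(Matrix.symplecticGroup (Fin (m + 1)) F) | ∃ p : Fin (m + 1) ⊕ Fin (m + 1) → F, p ≠ 0 ∧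
        A = Subgroup.closure {g : ↥(Matrix.symplecticGroup (Fin (m + 1)) F) | ∃ c : F, ∀ v : Fin (m + 1) ⊕ Fin (m + 1) → F,
          (g : Matrix (Fin (m + 1) ⊕ Fin (m + 1)) (Fin (m + 1) ⊕ Fin (m + 1)) F) *ᵥ v =
            v + (c * (v ⬝ᵥ (Matrix.J (Fin (m + 1)) F *ᵥ p))) • p}} ∧
    Cfsg.IsConnectedFamily (Cfsg.FAdj {A : Subgroup ↥(Matrix.symplecticGroup (Fin (m + 1)) F) | ∃ p : Fin (m + 1) ⊕ Fin (m + 1) → F, p ≠ 0 ∧
        A = Subgroup.closure {g : ↥(Matrix.symplecticGroup (Fin (m + 1)) F) | ∃ c : F, ∀ v : Fin (m + 1) ⊕ Fin (m + 1) → F,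
          (g : Matrix (Fin (m + 1) ⊕ Fin (m + 1)) (Fin (m + 1) ⊕ Fin (m + 1)) F) *ᵥ v =
            v + (c * (v ⬝ᵥ (Matrix.J (Fin (m + 1)) F *ᵥ p))) • p}})
      {A : Subgroup ↥(Matrix.symplecticGroup (Fin (m + 1)) F) | ∃ p : Fin (m + 1) ⊕ Fin (m + 1) → F, p ≠ 0 ∧
        A = Subgroup.closure {g : ↥(Matrix.symplecticGroup (Fin (m + 1)) F) | ∃ c : F, ∀ v : Fin (m + 1) ⊕ Fin (m + 1) → F,
          (g : Matrix (Fin (m + 1) ⊕ Fin (m + 1)) (Fin (m + 1) ⊕ Fin (m + 1)) F) *ᵥ v =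
            v + (c * (v ⬝ᵥ (Matrix.J (Fin (m + 1)) F *ᵥ p))) • p}} := by
  have hD := fSymp_nondeg (F := F) (m + 1)
  have hθ : (-1 : F) ≠ 0 := by simp
  have T : TF F (act (spEquiv F (m + 1)).toMonoidHom) (tX (fSymp F (m + 1)) (-1)) :=
    tx_tf hD hθ (spEquiv F _).injective (fun _ _ _ _ => (spEquiv F _).surjective _) (fun _ => rfl) fun a => ⟨_, rfl⟩
  have hg : gn (Ax F (act (spEquiv F (m + 1)).toMonoidHom) '' tX (fSymp F (m + 1)) (-1)) = ⊤ := by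
    refine Subgroup.map_injective (f := (spEquiv F (m + 1)).toMonoidHom) (spEquiv F _).injective ?_
    rw [Subgroup.map_top_of_surjective _ (spEquiv F _).surjective]
    refine Symp.eq_top_of_tv hD _ fun p c => ?_
    by_cases hp : p = 0
    · simp [hp]
    have hx : tx (fSymp F (m + 1)) (-1) p ∈ tX (fSymp F (m + 1)) (-1) := ⟨p, ⟨hp, rfl⟩, rfl⟩
    obtain ⟨g, hg⟩ := T.ex _ hx (-c)
    refine ⟨g, le_gn (Set.mem_image_of_mem _ hx) ((mem_Ax (T.sq _ hx)).2 ⟨_, hg⟩), Form.isom_ext fun v => ?_⟩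
    rw [← act_apply, hg]
    simp [tx_apply, Symp.tv_apply, smul_smul]
  have hc := T.cn2 (tx_cn hD hθ rfl)
  have e : ∀ p : Fin (m + 1) ⊕ Fin (m + 1) → F, Subgroup.closure {g : ↥(Matrix.symplecticGroup (Fin (m + 1)) F) | ∃ c : F,
      ∀ v : Fin (m + 1) ⊕ Fin (m + 1) → F, (g : Matrix (Fin (m + 1) ⊕ Fin (m + 1)) (Fin (m + 1) ⊕ Fin (m + 1)) F) *ᵥ v =
        v + (c * (v ⬝ᵥ (Matrix.J (Fin (m + 1)) F *ᵥ p))) • p} =
      Ax F (act (spEquiv F (m + 1)).toMonoidHom) (tx (fSymp F (m + 1)) (-1) p) := fun p => by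
    refine congrArg _ (Set.ext fun g => exists_congr fun c => ?_)
    rw [LinearMap.ext_iff]
    refine forall_congr' fun v => ?_
    rw [LinearMap.add_apply, LinearMap.smul_apply, tx_apply, smul_smul, neg_one_mul, ← Symp.B_symm, fSymp_B]
    rfl
  simp only [e]
  rw [show {A | ∃ p, p ≠ 0 ∧ A = Ax F (act (spEquiv F (m + 1)).toMonoidHom) (tx (fSymp F (m + 1)) (-1) p)} =
    Ax F (act (spEquiv F (m + 1)).toMonoidHom) '' tX (fSymp F (m + 1)) (-1) from Set.ext fun A =>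
      ⟨fun ⟨p, h, e⟩ => ⟨_, ⟨p, ⟨h, rfl⟩, rfl⟩, e.symm⟩, fun ⟨_, ⟨p, h, e⟩, e'⟩ => ⟨p, h.1, e'.symm.trans (e ▸ rfl)⟩⟩]
  exact ⟨cls_of_conn (T.rs hg) ⟨_, _, ⟨1, ⟨one_ne_zero, rfl⟩, rfl⟩, rfl⟩ hc, T.degenerate hg (tx_deg hD hθ), T.krs hg, hc⟩

end Cfsg.Agent.S5070
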