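import Cfsg.Statements.S5071
import Cfsg.Agent.Lib.Root.Ex3

set_option autoImplicit false
open Matrix
open Cfsg

namespace Cfsg.Agent.S5071

open Cfsg.Lib.Root Cfsg.Lib.Forms

/-- Let F be a finite field with q² elements, n a natural number, and h the Hermitian form Σ uᵢ vᵢ^q on F^{n+2}. For a non-zero isotropic vector p let T(p) be the group of unitary transvections with centre ⟨p⟩: the elements of SU_{n+2}(q) moving every vector by a multiple of p and fixing every vector perpendicular to p. Let Σ be the set of these T(p) and G₀ the subgroup they generate. Then, viewed inside G₀, the members of Σ form a degenerate class of abstract k-root subgroups of G₀ for some field k with q elements (any two commute or are the unipotent subgroups of a rank one group that is an image of SL₂(k) with central kernel, never the commutator case), and their graph of rank one pairs is connected. -/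
theorem result (F : Type*) [Field F] [Fintype F] (q n : ℕ) (hF : Fintype.card F = q ^ 2) :
    Cfsg.IsRootSubgroupClass ((fun A : Subgroup ↥(Cfsg.SU (n + 2) F q) => A.subgroupOf (⨆ B ∈ {A : Subgroup ↥(Cfsg.SU (n + 2) F q) | ∃ p : Fin (n + 2) → F, p ≠ 0 ∧ Cfsg.hermForm (n + 2) F q p p = 0 ∧
          A = Subgroup.closure {g : ↥(Cfsg.SU (n + 2) F q) |
            (∀ v : Fin (n + 2) → F, ∃ c : F, ((g : Matrix.SpecialLinearGroup (Fin (n + 2)) F) : Matrix (Fin (n + 2)) (Fin (n + 2)) F) *ᵥ v = v + c • p) ∧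
            ∀ v : Fin (n + 2) → F, Cfsg.hermForm (n + 2) F q v p = 0 →
              ((g : Matrix.SpecialLinearGroup (Fin (n + 2)) F) : Matrix (Fin (n + 2)) (Fin (n + 2)) F) *ᵥ v = v}}, B)) ''
      {A : Subgroup ↥(Cfsg.SU (n + 2) F q) | ∃ p : Fin (n + 2) → F, p ≠ 0 ∧ Cfsg.hermForm (n + 2) F q p p = 0 ∧
          A = Subgroup.closure {g : ↥(Cfsg.SU (n + 2) F q) |
            (∀ v : Fin (n + 2) → F, ∃ c : F, ((g : Matrix.SpecialLinearGroup (Fin (n + 2)) F) : Matrix (Fin (n + 2)) (Fin (n + 2)) F) *ᵥ v = v + c • p) ∧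
            ∀ v : Fin (n + 2) → F, Cfsg.hermForm (n + 2) F q v p = 0 →
              ((g : Matrix.SpecialLinearGroup (Fin (n + 2)) F) : Matrix (Fin (n + 2)) (Fin (n + 2)) F) *ᵥ v = v}}) ∧
    Cfsg.IsDegenerateRootSet ((fun A : Subgroup ↥(Cfsg.SU (n + 2) F q) => A.subgroupOf (⨆ B ∈ {A : Subgroup ↥(Cfsg.SU (n + 2) F q) | ∃ p : Fin (n + 2) → F, p ≠ 0 ∧ Cfsg.hermForm (n + 2) F q p p = 0 ∧
          A = Subgroup.closure {g : ↥(Cfsg.SU (n + 2) F q) |
            (∀ v : Fin (n + 2) → F, ∃ c : F, ((g : Matrix.SpecialLinearGroup (Fin (n + 2)) F) : Matrix (Fin (n + 2)) (Fin (n + 2)) F) *ᵥ v = v + c • p) ∧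
            ∀ v : Fin (n + 2) → F, Cfsg.hermForm (n + 2) F q v p = 0 →
              ((g : Matrix.SpecialLinearGroup (Fin (n + 2)) F) : Matrix (Fin (n + 2)) (Fin (n + 2)) F) *ᵥ v = v}}, B)) ''
      {A : Subgroup ↥(Cfsg.SU (n + 2) F q) | ∃ p : Fin (n + 2) → F, p ≠ 0 ∧ Cfsg.hermForm (n + 2) F q p p = 0 ∧
          A = Subgroup.closure {g : ↥(Cfsg.SU (n + 2) F q) |
            (∀ v : Fin (n + 2) → F, ∃ c : F, ((g : Matrix.SpecialLinearGroup (Fin (n + 2)) F) : Matrix (Fin (n + 2)) (Fin (n + 2)) F) *ᵥ v = v + c • p) ∧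
            ∀ v : Fin (n + 2) → F, Cfsg.hermForm (n + 2) F q v p = 0 →
              ((g : Matrix.SpecialLinearGroup (Fin (n + 2)) F) : Matrix (Fin (n + 2)) (Fin (n + 2)) F) *ᵥ v = v}}) ∧
    (∃ (L : Type) (_ : Field L) (_ : Fintype L), Fintype.card L = q ∧ Cfsg.IsKRootSubgroupSet L ((fun A : Subgroup ↥(Cfsg.SU (n + 2) F q) => A.subgroupOf (⨆ B ∈ {A : Subgroup ↥(Cfsg.SU (n + 2) F q) | ∃ p : Fin (n + 2) → F, p ≠ 0 ∧ Cfsg.hermForm (n + 2) F q p p = 0 ∧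
          A = Subgroup.closure {g : ↥(Cfsg.SU (n + 2) F q) |
            (∀ v : Fin (n + 2) → F, ∃ c : F, ((g : Matrix.SpecialLinearGroup (Fin (n + 2)) F) : Matrix (Fin (n + 2)) (Fin (n + 2)) F) *ᵥ v = v + c • p) ∧
            ∀ v : Fin (n + 2) → F, Cfsg.hermForm (n + 2) F q v p = 0 →
              ((g : Matrix.SpecialLinearGroup (Fin (n + 2)) F) : Matrix (Fin (n + 2)) (Fin (n + 2)) F) *ᵥ v = v}}, B)) ''
      {A : Subgroup ↥(Cfsg.SU (n + 2) F q) | ∃ p : Fin (n + 2) → F, p ≠ 0 ∧ Cfsg.hermForm (n + 2) F q p p = 0 ∧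
          A = Subgroup.closure {g : ↥(Cfsg.SU (n + 2) F q) |
            (∀ v : Fin (n + 2) → F, ∃ c : F, ((g : Matrix.SpecialLinearGroup (Fin (n + 2)) F) : Matrix (Fin (n + 2)) (Fin (n + 2)) F) *ᵥ v = v + c • p) ∧
            ∀ v : Fin (n + 2) → F, Cfsg.hermForm (n + 2) F q v p = 0 →
              ((g : Matrix.SpecialLinearGroup (Fin (n + 2)) F) : Matrix (Fin (n + 2)) (Fin (n + 2)) F) *ᵥ v = v}})) ∧
    Cfsg.IsConnectedFamily (Cfsg.FAdj ((fun A : Subgroup ↥(Cfsg.SU (n + 2) F q) => A.subgroupOf (⨆ B ∈ {A : Subgroup ↥(Cfsg.SU (n + 2) F q) | ∃ p : Fin (n + 2) → F, p ≠ 0 ∧ Cfsg.hermForm (n + 2) F q p p = 0 ∧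
          A = Subgroup.closure {g : ↥(Cfsg.SU (n + 2) F q) |
            (∀ v : Fin (n + 2) → F, ∃ c : F, ((g : Matrix.SpecialLinearGroup (Fin (n + 2)) F) : Matrix (Fin (n + 2)) (Fin (n + 2)) F) *ᵥ v = v + c • p) ∧
            ∀ v : Fin (n + 2) → F, Cfsg.hermForm (n + 2) F q v p = 0 →
              ((g : Matrix.SpecialLinearGroup (Fin (n + 2)) F) : Matrix (Fin (n + 2)) (Fin (n + 2)) F) *ᵥ v = v}}, B)) ''
      {A : Subgroup ↥(Cfsg.SU (n + 2) F q) | ∃ p : Fin (n + 2) → F, p ≠ 0 ∧ Cfsg.hermForm (n + 2) F q p p = 0 ∧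
          A = Subgroup.closure {g : ↥(Cfsg.SU (n + 2) F q) |
            (∀ v : Fin (n + 2) → F, ∃ c : F, ((g : Matrix.SpecialLinearGroup (Fin (n + 2)) F) : Matrix (Fin (n + 2)) (Fin (n + 2)) F) *ᵥ v = v + c • p) ∧
            ∀ v : Fin (n + 2) → F, Cfsg.hermForm (n + 2) F q v p = 0 →
              ((g : Matrix.SpecialLinearGroup (Fin (n + 2)) F) : Matrix (Fin (n + 2)) (Fin (n + 2)) F) *ᵥ v = v}})) ((fun A : Subgroup ↥(Cfsg.SU (n + 2) F q) => A.subgroupOf (⨆ B ∈ {A : Subgroup ↥(Cfsg.SU (n + 2) F q) | ∃ p : Fin (n + 2) → F, p ≠ 0 ∧ Cfsg.hermForm (n + 2) F q p p = 0 ∧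
          A = Subgroup.closure {g : ↥(Cfsg.SU (n + 2) F q) |
            (∀ v : Fin (n + 2) → F, ∃ c : F, ((g : Matrix.SpecialLinearGroup (Fin (n + 2)) F) : Matrix (Fin (n + 2)) (Fin (n + 2)) F) *ᵥ v = v + c • p) ∧
            ∀ v : Fin (n + 2) → F, Cfsg.hermForm (n + 2) F q v p = 0 →
              ((g : Matrix.SpecialLinearGroup (Fin (n + 2)) F) : Matrix (Fin (n + 2)) (Fin (n + 2)) F) *ᵥ v = v}}, B)) ''
      {A : Subgroup ↥(Cfsg.SU (n + 2) F q) | ∃ p : Fin (n + 2) → F, p ≠ 0 ∧ Cfsg.hermForm (n + 2) F q p p = 0 ∧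
          A = Subgroup.closure {g : ↥(Cfsg.SU (n + 2) F q) |
            (∀ v : Fin (n + 2) → F, ∃ c : F, ((g : Matrix.SpecialLinearGroup (Fin (n + 2)) F) : Matrix (Fin (n + 2)) (Fin (n + 2)) F) *ᵥ v = v + c • p) ∧
            ∀ v : Fin (n + 2) → F, Cfsg.hermForm (n + 2) F q v p = 0 →
              ((g : Matrix.SpecialLinearGroup (Fin (n + 2)) F) : Matrix (Fin (n + 2)) (Fin (n + 2)) F) *ᵥ v = v}}) := by
  obtain ⟨σ, h⟩ := isConj_of_card hF
  obtain ⟨θ, hθ, hθ'⟩ := h.exists_trace_zero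
  have hσ : σ θ = -θ := eq_neg_of_add_eq_zero_right hθ'
  let ι : Shrink.{0} (σ.eqLocusField (RingHom.id F)) →+* F := (Subfield.subtype _).comp (Shrink.ringEquiv _).toRingHom
  have h1 : ∀ c, σ (ι c) = ι c := fun c => (Shrink.ringEquiv _ c).2
  have h2 : ∀ a, σ a = a → ∃ c, ι c = a := fun a ha => ⟨(Shrink.ringEquiv _).symm ⟨a, ha⟩, by simp [ι]⟩
  let := ι.toAlgebra
  have hD := stdHerm_nondeg h (Fin (n + 2))
  let π : SU (n + 2) F q →* (stdHerm h (Fin (n + 2))).isom := (Subgroup.subtype _).comp (suEquiv h (n + 2)).toMonoidHom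
  have T : TF (Shrink.{0} (σ.eqLocusField (RingHom.id F))) (act π) (tX (stdHerm h (Fin (n + 2))) θ) :=
    tx_tf hD hθ ((Subgroup.subtype_injective _).comp (suEquiv h _).injective) (fun p c H hp => by
      obtain ⟨g, hg⟩ := (suEquiv h (n + 2)).surjective ⟨_, Form.E_le_ker_det (Form.rk1_mem_E H hp)⟩
      exact ⟨g, congrArg Subtype.val hg⟩) (fun c => by simp [RingHom.algebraMap_toAlgebra, h1, hσ])
      fun a => h2 _ (by simp [hσ, h.σσ, mul_comm])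
  have hc := T.sub.cn2 (tx_cn hD hθ (by simp [hσ]))
  have e : ∀ {p}, p ≠ 0 → hermForm (n + 2) F q p p = 0 → Subgroup.closure {g : SU (n + 2) F q |
      (∀ v, ∃ c : F, g.1.1 *ᵥ v = v + c • p) ∧ ∀ v, hermForm (n + 2) F q v p = 0 → g.1.1 *ᵥ v = v} =
      Ax (Shrink.{0} (σ.eqLocusField (RingHom.id F))) (act π) (tx (stdHerm h (Fin (n + 2))) θ p) := fun h3 h4 => by
    simp only [hermForm_eq h]
    refine congrArg _ (Set.ext fun g => tx_iff (π := π) hD h3 ((hermForm_self h _ _).symm.trans h4) (fun c hc => ?_) g)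
    obtain ⟨l, hl⟩ := h2 (c * θ⁻¹) (by
      rw [map_mul, map_inv₀, hσ, eq_neg_of_add_eq_zero_right (show c + σ c = 0 by simpa using hc), inv_neg, neg_mul_neg])
    exact ⟨l, by rw [RingHom.algebraMap_toAlgebra, hl, inv_mul_cancel_right₀ hθ]⟩
  rw [show {A | ∃ p, p ≠ 0 ∧ hermForm (n + 2) F q p p = 0 ∧ A = Subgroup.closure {g : SU (n + 2) F q |
      (∀ v, ∃ c : F, g.1.1 *ᵥ v = v + c • p) ∧ ∀ v, hermForm (n + 2) F q v p = 0 → g.1.1 *ᵥ v = v}} =
      Ax (Shrink.{0} (σ.eqLocusField (RingHom.id F))) (act π) '' tX (stdHerm h (Fin (n + 2))) θ from Set.ext fun A =>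
    ⟨fun ⟨p, h1, h2, e'⟩ => ⟨_, ⟨p, ⟨h1, (hermForm_self h _ _).symm.trans h2⟩, rfl⟩, (e'.trans (e h1 h2)).symm⟩,
      fun ⟨_, ⟨p, h1, e1⟩, e'⟩ => let h2 := (hermForm_self h _ _).trans h1.2; ⟨p, h1.1, h2, by rw [e h1.1 h2, e1, e']⟩⟩]
  have E := T.so_eq
  simp only [so, gn] at E
  rw [E]
  obtain ⟨p, r, H⟩ := Herm.exists_isHyp hD (by simp)
  refine ⟨cls_of_conn (T.sub.rs T.gn_sub) ⟨_, _, ⟨p, ⟨H.e_ne_zero, H.Q_e⟩, rfl⟩, rfl⟩ hc, T.sub.degenerate T.gn_sub (tx_deg hD hθ),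
    ⟨_, inferInstance, Fintype.ofFinite _, ?_, T.sub.krs T.gn_sub⟩, hc⟩
  rw [← @Nat.card_eq_fintype_card _ (_), ← Nat.card_congr (equivShrink _), ← h.card_fixed]
  rfl

end Cfsg.Agent.S5071
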