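import Cfsg.Statements.S5072
import Cfsg.Agent.Lib.Root.Ex3

set_option autoImplicit false
open Matrix
open Cfsg

namespace Cfsg.Agent.S5072

open Cfsg.Lib.Root Cfsg.Lib.Forms

/-- Let F be a field, m a natural number and V = F^{2(m+3)} with the hyperbolic quadratic form q(x, y) = Σ xᵢ yᵢ (non-degenerate, Witt index m + 3 ≥ 3). For a singular line ℓ (a 2-dimensional subspace on which q vanishes) let T(ℓ) be the group of isometries of q fixing every vector of ℓ^⊥ (the Siegel transvection group of ℓ), let Σ be the set of these groups and G₀ the subgroup they generate. Then, viewed inside G₀, the members of Σ form a set of abstract F-root subgroups of G₀ (any two commute, or are the unipotent subgroups of a rank one group that is an image of SL₂(F) with central kernel, or satisfy the commutator case), and their graph of rank one pairs is connected. -/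
theorem result (F : Type*) [Field F] (m : ℕ) :
    Cfsg.IsKRootSubgroupSet F ((fun A : Subgroup ↥(Cfsg.isometryGroup F (Cfsg.quadFormPlus (m + 3) F)) => A.subgroupOf (⨆ B ∈ {A : Subgroup ↥(Cfsg.isometryGroup F (Cfsg.quadFormPlus (m + 3) F)) | ∃ p r : Fin (m + 3) ⊕ Fin (m + 3) → F, LinearIndependent F ![p, r] ∧
          Cfsg.quadFormPlus (m + 3) F p = 0 ∧ Cfsg.quadFormPlus (m + 3) F r = 0 ∧
          Cfsg.quadFormPlus (m + 3) F (p + r) = 0 ∧
          A = Subgroup.closure {σ : ↥(Cfsg.isometryGroup F (Cfsg.quadFormPlus (m + 3) F)) | ∀ v : Fin (m + 3) ⊕ Fin (m + 3) → F,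
            Cfsg.quadFormPlus (m + 3) F (v + p) - Cfsg.quadFormPlus (m + 3) F v - Cfsg.quadFormPlus (m + 3) F p = 0 →
            Cfsg.quadFormPlus (m + 3) F (v + r) - Cfsg.quadFormPlus (m + 3) F v - Cfsg.quadFormPlus (m + 3) F r = 0 →
              ((σ : Matrix.GeneralLinearGroup (Fin (m + 3) ⊕ Fin (m + 3)) F) : Matrix (Fin (m + 3) ⊕ Fin (m + 3)) (Fin (m + 3) ⊕ Fin (m + 3)) F) *ᵥ v = v}}, B)) ''
      {A : Subgroup ↥(Cfsg.isometryGroup F (Cfsg.quadFormPlus (m + 3) F)) | ∃ p r : Fin (m + 3) ⊕ Fin (m + 3) → F, LinearIndependent F ![p, r] ∧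
          Cfsg.quadFormPlus (m + 3) F p = 0 ∧ Cfsg.quadFormPlus (m + 3) F r = 0 ∧
          Cfsg.quadFormPlus (m + 3) F (p + r) = 0 ∧
          A = Subgroup.closure {σ : ↥(Cfsg.isometryGroup F (Cfsg.quadFormPlus (m + 3) F)) | ∀ v : Fin (m + 3) ⊕ Fin (m + 3) → F,
            Cfsg.quadFormPlus (m + 3) F (v + p) - Cfsg.quadFormPlus (m + 3) F v - Cfsg.quadFormPlus (m + 3) F p = 0 →
            Cfsg.quadFormPlus (m + 3) F (v + r) - Cfsg.quadFormPlus (m + 3) F v - Cfsg.quadFormPlus (m + 3) F r = 0 →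
              ((σ : Matrix.GeneralLinearGroup (Fin (m + 3) ⊕ Fin (m + 3)) F) : Matrix (Fin (m + 3) ⊕ Fin (m + 3)) (Fin (m + 3) ⊕ Fin (m + 3)) F) *ᵥ v = v}}) ∧
    Cfsg.IsConnectedFamily (Cfsg.FAdj {A : Subgroup ↥(Cfsg.isometryGroup F (Cfsg.quadFormPlus (m + 3) F)) | ∃ p r : Fin (m + 3) ⊕ Fin (m + 3) → F, LinearIndependent F ![p, r] ∧
          Cfsg.quadFormPlus (m + 3) F p = 0 ∧ Cfsg.quadFormPlus (m + 3) F r = 0 ∧
          Cfsg.quadFormPlus (m + 3) F (p + r) = 0 ∧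
          A = Subgroup.closure {σ : ↥(Cfsg.isometryGroup F (Cfsg.quadFormPlus (m + 3) F)) | ∀ v : Fin (m + 3) ⊕ Fin (m + 3) → F,
            Cfsg.quadFormPlus (m + 3) F (v + p) - Cfsg.quadFormPlus (m + 3) F v - Cfsg.quadFormPlus (m + 3) F p = 0 →
            Cfsg.quadFormPlus (m + 3) F (v + r) - Cfsg.quadFormPlus (m + 3) F v - Cfsg.quadFormPlus (m + 3) F r = 0 →
              ((σ : Matrix.GeneralLinearGroup (Fin (m + 3) ⊕ Fin (m + 3)) F) : Matrix (Fin (m + 3) ⊕ Fin (m + 3)) (Fin (m + 3) ⊕ Fin (m + 3)) F) *ᵥ v = v}})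
      {A : Subgroup ↥(Cfsg.isometryGroup F (Cfsg.quadFormPlus (m + 3) F)) | ∃ p r : Fin (m + 3) ⊕ Fin (m + 3) → F, LinearIndependent F ![p, r] ∧
          Cfsg.quadFormPlus (m + 3) F p = 0 ∧ Cfsg.quadFormPlus (m + 3) F r = 0 ∧
          Cfsg.quadFormPlus (m + 3) F (p + r) = 0 ∧
          A = Subgroup.closure {σ : ↥(Cfsg.isometryGroup F (Cfsg.quadFormPlus (m + 3) F)) | ∀ v : Fin (m + 3) ⊕ Fin (m + 3) → F,
            Cfsg.quadFormPlus (m + 3) F (v + p) - Cfsg.quadFormPlus (m + 3) F v - Cfsg.quadFormPlus (m + 3) F p = 0 →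
            Cfsg.quadFormPlus (m + 3) F (v + r) - Cfsg.quadFormPlus (m + 3) F v - Cfsg.quadFormPlus (m + 3) F r = 0 →
              ((σ : Matrix.GeneralLinearGroup (Fin (m + 3) ⊕ Fin (m + 3)) F) : Matrix (Fin (m + 3) ⊕ Fin (m + 3)) (Fin (m + 3) ⊕ Fin (m + 3)) F) *ᵥ v = v}} := by
  have hD := fPlus_nondeg (F := F) (m + 3)
  have hπ : Function.Bijective (oEquiv (fPlus F (m + 3))).toMonoidHom := (oEquiv _).bijective
  have T := wx_tf hD hπ
  have k : ∀ p v, quadFormPlus (m + 3) F (v + p) - quadFormPlus (m + 3) F v - quadFormPlus (m + 3) F p = (fPlus F (m + 3)).B p v :=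
    fun p v => by rw [quad_symm, quad_B_eq]; rfl
  have k' : ∀ p r, SLn (fPlus F (m + 3)) p r ↔ LinearIndependent F ![p, r] ∧ quadFormPlus (m + 3) F p = 0 ∧
      quadFormPlus (m + 3) F r = 0 ∧ quadFormPlus (m + 3) F (p + r) = 0 := fun p r =>
    ⟨fun h => ⟨linearIndependent_fin2.2 ⟨h.symm.p_ne, fun a e => h.symm.not_mem (Submodule.mem_span_singleton.2 ⟨a, e⟩)⟩, h.p0, h.r0,
      by simpa [fPlus_Q] using h.Q_comb 1 1⟩, fun ⟨h0, h1, h2, h3⟩ => ⟨h1, h2, by rw [quad_symm, ← k, h1, h2, h3]; simp, by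
        rw [wx_neg]
        exact smul_ne_zero (by simp) (wx_ne hD (linearIndependent_fin2.1 h0).1 fun e =>
          let ⟨a, e⟩ := Submodule.mem_span_singleton.1 e; (linearIndependent_fin2.1 h0).2 a e)⟩⟩
  have e : ∀ {p r}, SLn (fPlus F (m + 3)) p r → Subgroup.closure {σ : isometryGroup F (quadFormPlus (m + 3) F) | ∀ v,
      quadFormPlus (m + 3) F (v + p) - quadFormPlus (m + 3) F v - quadFormPlus (m + 3) F p = 0 →
      quadFormPlus (m + 3) F (v + r) - quadFormPlus (m + 3) F v - quadFormPlus (m + 3) F r = 0 → σ.1.1 *ᵥ v = v} =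
      Ax F (act (oEquiv (fPlus F (m + 3))).toMonoidHom) (wx (fPlus F (m + 3)) p r) := fun h => by
    simp only [k]
    exact congrArg _ (Set.ext fun g => wx_iff (π := (oEquiv (fPlus F (m + 3))).toMonoidHom) hD h g)
  rw [show {A | ∃ p r, LinearIndependent F ![p, r] ∧ quadFormPlus (m + 3) F p = 0 ∧ quadFormPlus (m + 3) F r = 0 ∧
      quadFormPlus (m + 3) F (p + r) = 0 ∧ A = Subgroup.closure {σ : isometryGroup F (quadFormPlus (m + 3) F) | ∀ v,
      quadFormPlus (m + 3) F (v + p) - quadFormPlus (m + 3) F v - quadFormPlus (m + 3) F p = 0 →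
      quadFormPlus (m + 3) F (v + r) - quadFormPlus (m + 3) F v - quadFormPlus (m + 3) F r = 0 → σ.1.1 *ᵥ v = v}} =
      Ax F (act (oEquiv (fPlus F (m + 3))).toMonoidHom) '' wX (fPlus F (m + 3)) from Set.ext fun A =>
    ⟨fun ⟨p, r, h1, h2, h3, h4, e'⟩ => let h := (k' p r).2 ⟨h1, h2, h3, h4⟩; ⟨_, h.mem, (e'.trans (e h)).symm⟩,
      fun ⟨_, ⟨p, r, h, e1⟩, e'⟩ => let ⟨h1, h2, h3, h4⟩ := (k' p r).1 h; ⟨p, r, h1, h2, h3, h4, by rw [e h, ← e1, e']⟩⟩]
  exact ⟨(congrArg (IsKRootSubgroupSet F) T.so_eq).mpr (T.sub.krs T.gn_sub), wx_cn hD hπ ((fPlus_hasTS _).mono (by omega))⟩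

end Cfsg.Agent.S5072
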