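import Cfsg.Statements.S5073
import Cfsg.Agent.Lib.Quad.Sigma

set_option autoImplicit false
universe u
open Cfsg

namespace Cfsg.Agent.S5073

open Cfsg.Lib.Quad Cfsg.Lib.Root Cfsg.Lib.Transfer

/-- Let k be a field of characteristic not 2 with k not of order 3, M a finite-dimensional k-vector space and G ≤ GL(M) such that (G, M) is a quadratic pair (M irreducible for G, and G generated by its quadratically acting elements σ whose scalar family 1 + c(σ − 1), c ∈ k, lies in G). Write 𝒬_d for the quadratic elements of G of minimal commutator rank, E(σ) for the subgroup generated by the members of 𝒬_d with the same fixed space and commutator space as σ, and Σ for the set of these subgroups. Let E, F ∈ Σ. If some non-identity element of E commutes with some non-identity element of F, or some non-identity element of E normalizes F, then E and F commute elementwise. -/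
theorem result {k : Type u} [Field k] (hk2 : ringChar k ≠ 2) (hk3 : Nat.card k ≠ 3)
    {M : Type u} [AddCommGroup M] [Module k M] [FiniteDimensional k M]
    {G : Subgroup (LinearMap.GeneralLinearGroup k M)} (hG : Cfsg.IsQuadraticPair G)
    {E F : Subgroup (LinearMap.GeneralLinearGroup k M)} (hE : E ∈ Cfsg.quadraticRootSubgroups G) (hF : F ∈ Cfsg.quadraticRootSubgroups G)
    (h : (∃ e ∈ E, e ≠ 1 ∧ ∃ f ∈ F, f ≠ 1 ∧ e * f = f * e) ∨ E ⊓ Subgroup.normalizer (F : Set (LinearMap.GeneralLinearGroup k M)) ≠ ⊥) :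
    ⁅E, F⁆ = ⊥ := by
  obtain ⟨x, hx, rfl⟩ := mem_roots.1 hE
  obtain ⟨y, hy, rfl⟩ := mem_roots.1 hF
  suffices ∃ e ∈ Eg G x, e ≠ 1 ∧ cj e (Eg G y) = Eg G y by
    obtain ⟨e, he, h⟩ := this
    exact forall_Eg (P := fun e => e ≠ 1 ∧ cj e (Eg G y) = Eg G y → _).2 (fun v hv h => comm_Eg_bot fun _ h1 _ h4 =>
      hx.commute (two_ne hk2) hk3 hy hv ((ux_ne_one _).1 h.1) h.2 h1 h4) e he h
  obtain ⟨e, he, h0, f, hf, h1, h⟩ | h := h
  · refine ⟨e, he, h0, ?_⟩
    rw [← hy.Eg_eq hf fun e => h1 (Units.ext (sub_eq_zero.1 e)), cj_Eg (Eg_le he), mul_sub, sub_mul, ← Units.val_mul, h]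
    simp
  · obtain ⟨e, he⟩ := Subgroup.ne_bot_iff_exists_ne_one.1 h
    exact ⟨e, e.2.1, fun e' => he (Subtype.ext e'), cj_eq_iff.2 e.2.2⟩

end Cfsg.Agent.S5073
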