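import Cfsg.Statements.S5075
import Cfsg.Agent.Lib.Linear.McL3
import Cfsg.Agent.Lib.Core.PCore

set_option autoImplicit false
open Cfsg

namespace Cfsg.Agent.S5075

open Cfsg.Lib.Linear.McL Module in

/-- Let p be an odd prime, V a finite-dimensional vector space over the field with p elements, and H a group of linear automorphisms of V generated by transvections (elements of order p fixing a hyperplane pointwise) and having no nontrivial normal p-subgroup. Then for some n ≥ 1 there are a decomposition V = V₀ ⊕ V₁ ⊕ ⋯ ⊕ Vₙ into H-invariant subspaces and a decomposition of H as the internal direct product of normal subgroups H₁, …, Hₙ such that Hⱼ acts trivially on every Vᵢ with i ≠ j, and Hⱼ induces on Vⱼ exactly the special linear group of Vⱼ or exactly the isometry group of a non-degenerate alternating form on Vⱼ. -/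
theorem result {p : ℕ} [Fact p.Prime] (hp : Odd p) {V : Type*} [AddCommGroup V] [Module (ZMod p) V] [Finite V]
    (H : Subgroup (V ≃ₗ[ZMod p] V)) (T : Set (V ≃ₗ[ZMod p] V)) (hHT : H = Subgroup.closure T)
    (hT : ∀ t ∈ T, orderOf t = p ∧
      Module.finrank (ZMod p) ↥(LinearMap.ker ((t : V →ₗ[ZMod p] V) - LinearMap.id)) + 1 =
        Module.finrank (ZMod p) V)
    (hOp : Cfsg.pCore p ↥H = ⊥) :
    ∃ (n : ℕ) (W : Fin (n + 1) → Submodule (ZMod p) V) (K : Fin n → Subgroup (V ≃ₗ[ZMod p] V)),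
      1 ≤ n ∧ DirectSum.IsInternal W ∧
      (∀ h ∈ H, ∀ i, (W i).map (h : V →ₗ[ZMod p] V) = W i) ∧
      (∀ j, K j ≤ H ∧ ((K j).subgroupOf H).Normal) ∧ ⨆ j, K j = H ∧
      (∀ j, K j ⊓ (⨆ j' ∈ {j' : Fin n | j' ≠ j}, K j') = ⊥) ∧
      (∀ j j', j ≠ j' → ∀ a ∈ K j, ∀ b ∈ K j', a * b = b * a) ∧
      (∀ j, ∀ h ∈ K j, ∀ i : Fin (n + 1), i ≠ j.succ → ∀ v ∈ W i, h v = v) ∧
      (∀ j, ∃ ρ : ↥(K j) →* (↥(W j.succ) ≃ₗ[ZMod p] ↥(W j.succ)),
        (∀ (h : ↥(K j)) (v : ↥(W j.succ)), ((ρ h v : ↥(W j.succ)) : V) = (h : V ≃ₗ[ZMod p] V) (v : V)) ∧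
        ((ρ.range : Set (↥(W j.succ) ≃ₗ[ZMod p] ↥(W j.succ))) =
            {f : ↥(W j.succ) ≃ₗ[ZMod p] ↥(W j.succ) | LinearMap.det (f : ↥(W j.succ) →ₗ[ZMod p] ↥(W j.succ)) = 1} ∨
          ∃ B : LinearMap.BilinForm (ZMod p) ↥(W j.succ), B.IsAlt ∧ B.Nondegenerate ∧
            (ρ.range : Set (↥(W j.succ) ≃ₗ[ZMod p] ↥(W j.succ))) = {f : ↥(W j.succ) ≃ₗ[ZMod p] ↥(W j.succ) | ∀ x y, B (f x) (f y) = B x y})) := by
  classical
  haveI : FiniteDimensional (ZMod p) V := Module.Finite.of_finite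
  have pw : ∀ (g : V ≃ₗ[ZMod p] V) (x : V), g (g x - x) = g x - x → ∀ k : ℕ, (g ^ k) x = x + (k : ZMod p) • (g x - x) :=
    fun g x h k => by
      induction k with
      | zero => simp
      | succ k ih => rw [pow_succ', LinearEquiv.mul_apply, ih, map_add, map_smul, h]; push_cast; module
  have hH : H ≤ rtG H ⊤ := hHT.le.trans ((Subgroup.closure_le _).2 fun t ht => by
    obtain ⟨f, v, e⟩ := (LinearEquiv.mem_dilatransvections_iff_finrank (e := t)).2 (by
      have := LinearMap.finrank_range_add_finrank_ker ((t : V →ₗ[ZMod p] V) - LinearMap.id)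
      have := (hT t ht).2
      omega)
    replace e : ∀ x, t x = x + f x • v := LinearMap.congr_fun e
    have k1 : ∀ k : ℕ, (t ^ k) v = (1 + f v) ^ k • v := fun k => by
      induction k with
      | zero => simp
      | succ k ih => rw [pow_succ', LinearEquiv.mul_apply, ih, map_smul, e, pow_succ]; module
    have k2 : f v = 0 := by
      have := k1 p
      rw [show t ^ p = 1 from orderOf_dvd_iff_pow_eq_one.1 (hT t ht).1.dvd, ZMod.pow_card, add_smul, one_smul] at this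
      by_cases c : v = 0 <;> simp_all
    exact Subgroup.subset_closure ⟨v, trivial, f, ⟨k2, fun c => ⟨t ^ c.val, pow_mem (hHT ▸ Subgroup.subset_closure ht) _,
      fun x => by rw [pw t x (by simp [e, k2])]; simp [e, mul_smul]⟩⟩, e⟩)
  have np : ∀ r ζ, Rt H r ζ → r ≠ 0 → ζ ≠ 0 → ∃ h ∈ H, ζ (h r) ≠ 0 := fun r ζ a b c => by
    by_contra d
    push Not at d
    have e : orb H r ≤ LinearMap.ker ζ := Submodule.span_le.2 fun _ ⟨k, i, j⟩ => j ▸ d k i
    let K : Subgroup H :=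
      { carrier := {h | (∀ x, h.1 x - x ∈ orb H r) ∧ ∀ x ∈ orb H r, h.1 x = x}
        one_mem' := by simp
        mul_mem' := fun {g k} a b => ⟨fun x => by simpa using add_mem (a.1 (k.1 x)) (b.1 x), fun x c => by simp [a.2, b.2, c]⟩
        inv_mem' := fun {g} a => ⟨fun x => by simpa using neg_mem (a.1 (g.1⁻¹ x)), fun x c => g.1.symm_apply_eq.2 (a.2 x c).symm⟩ }
    haveI : K.Normal := ⟨fun g a k => ⟨fun x => by simpa using orb_inv r k.1 k.2 _ (a.1 (k.1⁻¹ x)), fun x c => by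
      simpa using congrArg k.1 (a.2 _ (orb_inv r _ (inv_mem k.2) x c))⟩⟩
    have := (Cfsg.Lib.Core.le_pCore (N := K) fun g => ⟨1, Subtype.ext (Subtype.ext (LinearEquiv.ext fun x => by
      simpa using pw g.1.1 x (g.2.2 _ (g.2.1 x)) p))⟩).trans hOp.le
    obtain ⟨g, i, j⟩ := a.2 1
    have k := this (show (⟨g, i⟩ : H) ∈ K from ⟨fun x => by simpa [j] using (orb H r).smul_mem _ (self_mem_orb r),
      fun x l => by simp [j, show ζ x = 0 from e l]⟩)
    exact c (LinearMap.ext fun x => by simpa [b, show g = 1 from congrArg Subtype.val k] using j x)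
  let S : Set (Submodule (ZMod p) V) := {M | M = ⊥ ∨ ∃ r ζ, Rt H r ζ ∧ r ≠ 0 ∧ ζ ≠ 0 ∧ M = orb H r}
  have cp : ∀ M ∈ S, Cp H M := by
    rintro _ (rfl | ⟨r, ζ, a, -, c, rfl⟩)
    exacts [cp_bot, cp_orb hH np a c]
  have h2 : (2 : ZMod p) ≠ 0 := fun h => by
    have := (Nat.prime_dvd_prime_iff_eq Fact.out Nat.prime_two).1 ((ZMod.natCast_eq_zero_iff 2 p).1 h)
    subst this; exact absurd hp (by decide)
  have di := fun M (h : M ∈ S) => (cp M h).dich h2 (fun e => one_ne_zero (by linear_combination e : (1 : ZMod p) = 0))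
    (h.imp id fun ⟨r, ζ, a, b, c, d⟩ => ⟨(r, ζ), d ▸ self_mem_orb r, a, b, c⟩)
  have st := fun M (h : M ∈ S) => (cp M h).inv.stable hH
  have eqM : ∀ M ∈ S, ∀ y ∈ M, y ≠ 0 → ∀ η, Rt H y η → η ≠ 0 → M = orb H y := fun M a y b c η d e =>
    ((cp M a).irr _ (orb_le (st M a) b) (inv_of (orb_inv y)) y (self_mem_orb y) ((cp M a).np y b η d c e).1).antisymm
      (orb_le (st M a) b)
  have kill : ∀ M ∈ S, ∀ M' ∈ S, M ≠ M' → ∀ x ∈ M', ∀ y ∈ M, y ≠ 0 → ∀ η, Rt H y η → η x = 0 :=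
    fun M a M' b c x d y e f η g => by_contra fun i => have j : η ≠ 0 := by rintro rfl; simp at i
      c ((eqM M a y e f η g j).trans (eqM M' b y ((cp M' b).inv y η x g d i) f η g j).symm)
  let C : Submodule (ZMod p) V :=
    { carrier := {x | ∀ y, y ≠ 0 → ∀ η, Rt H y η → η x = 0}
      add_mem' := fun a b y c η d => by simp [a y c η d, b y c η d]
      zero_mem' := by simp
      smul_mem' := fun s x a y c η d => by simp [a y c η d] }
  obtain ⟨n, W, W0, W1, W2, W3⟩ : ∃ (n : ℕ) (W : Fin (n + 1) → Submodule (ZMod p) V), W 0 = C ∧ (∀ j : Fin n, W j.succ ∈ S) ∧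
      (∀ j j' : Fin n, W j.succ = W j'.succ → j = j') ∧ ∀ M ∈ S, ∃ j : Fin n, W j.succ = M := by
    let e := (Finite.equivFin S).symm
    exact ⟨_, Fin.cons C fun j => e j, rfl, fun j => (e j).2, fun j j' h => e.injective (Subtype.ext h),
      fun M a => ⟨e.symm ⟨M, a⟩, congrArg Subtype.val (e.apply_symm_apply ⟨M, a⟩)⟩⟩
  have fix : ∀ j : Fin n, ∀ i, i ≠ j.succ → ∀ x ∈ W i, ∀ y ∈ W j.succ, y ≠ 0 → ∀ η, Rt H y η → η x = 0 := fun j i => by
    induction i using Fin.cases with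
    | zero => exact fun _ x a y _ => (W0 ▸ a : x ∈ C) y
    | succ i => exact fun a => kill _ (W1 j) _ (W1 i) fun b => a (by rw [W2 _ _ b])
  have ctr : ∀ y, y ≠ 0 → ∀ η, Rt H y η → η ≠ 0 → ∃ j : Fin n, y ∈ W j.succ := fun y a η b c =>
    let ⟨j, d⟩ := W3 _ (.inr ⟨y, η, b, a, c, rfl⟩); ⟨j, d ▸ self_mem_orb y⟩
  have stW : ∀ h ∈ H, ∀ i, ∀ x ∈ W i, h x ∈ W i := fun h a i => by
    induction i using Fin.cases with
    | zero => exact fun x b => by rwa [rtG_fix (hH a) fun y _ => (W0 ▸ b : x ∈ C) y]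
    | succ i => exact st _ (W1 i) h a
  have fixK : ∀ j : Fin n, ∀ h ∈ rtG H (W j.succ), ∀ i, i ≠ j.succ → ∀ v ∈ W i, h v = v :=
    fun j h a i b v c => rtG_fix a (fix j i b v c)
  obtain ⟨j₀, -⟩ := W3 ⊥ (.inl rfl)
  refine ⟨n, W, fun j => rtG H (W j.succ), j₀.pos, (DirectSum.isInternal_submodule_iff_iSupIndep_and_iSup_eq_top _).2 ⟨?_, ?_⟩,
    fun h a i => le_antisymm (by rintro _ ⟨x, b, rfl⟩; exact stW h a i x b) fun x b =>
      ⟨h⁻¹ x, stW _ (inv_mem a) i x b, by simp⟩,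
    fun j => ⟨rtG_le, (Subgroup.normal_subgroupOf_iff rtG_le).2 fun g k a b => ?_⟩, le_antisymm (iSup_le fun _ => rtG_le)
      (hH.trans ((Subgroup.closure_le _).2 ?_)), fun j => eq_bot_iff.2 fun g a => LinearEquiv.ext fun x => ?_,
    fun j j' a g b k c => LinearEquiv.ext fun x => ?_, fixK, fun j => ⟨resH _ fun k a => st _ (W1 j) k (rtG_le a), fun _ _ => rfl, ?_⟩⟩
  · refine (iSupIndep_iff_finsetSum_eq_zero_imp_eq_zero _).2 fun s v a b => ?_
    have key : ∀ j : Fin n, j.succ ∈ s → v j.succ = 0 := fun j c => by_contra fun d => by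
      obtain ⟨y, η, e, f, g⟩ := (di _ (W1 j)).1 _ (a _ c) d
      have := congrArg η b
      rw [map_sum, Finset.sum_eq_single_of_mem _ c fun i k l =>
        fix j i l _ (a i k) y ((cp _ (W1 j)).inv y η _ f (a _ c) g) e η f, map_zero] at this
      exact g this
    intro i c
    induction i using Fin.cases with
    | zero =>
      rwa [Finset.sum_eq_single_of_mem _ c fun i k l => by
        obtain ⟨i, rfl⟩ := Fin.exists_succ_eq.2 l; exact key i k] at b
    | succ i => exact key i c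
  · refine eq_top_iff.2 fun x _ => ?_
    choose m a b using fun j => (di _ (W1 j)).2.1 x
    rw [← sub_add_cancel x (∑ j, m j)]
    refine add_mem (Submodule.mem_iSup_of_mem 0 (W0 ▸ fun y c η d => by_contra fun e => ?_))
      (sum_mem fun j _ => Submodule.mem_iSup_of_mem _ (a j))
    obtain ⟨j, f⟩ := ctr y c η d (by rintro rfl; simp at e)
    rw [map_sub, map_sum, Finset.sum_eq_single j (fun i _ k => fix j i.succ (by simpa) _ (a i) y f c η d) (by simp),
      ← map_sub] at e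
    exact e (b j y f c η d)
  · refine (Subgroup.map_le_iff_le_comap.1 (?_ : (rtG H (W j.succ)).map (MulAut.conj k).toMonoidHom ≤ rtG H (W j.succ))) a
    rw [rtG, MonoidHom.map_closure]
    refine Subgroup.closure_mono ?_
    rintro _ ⟨g, ⟨y, c, η, d, e⟩, rfl⟩
    exact ⟨k y, stW k b _ y c, _, d.conj b, fun x => by simp [e]⟩
  · rintro g ⟨y, -, η, a, b⟩
    by_cases c : y = 0 ∨ η = 0
    · rw [show g = 1 from LinearEquiv.ext fun x => by rcases c with c | c <;> simp [b, c]]; exact one_mem _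
    push Not at c
    obtain ⟨j, d⟩ := ctr y c.1 η a c.2
    exact Subgroup.mem_iSup_of_mem j (Subgroup.subset_closure ⟨y, d, η, a, b⟩)
  · obtain ⟨m, b, c⟩ := (di _ (W1 j)).2.1 x
    have d : g m = m := (iSup₂_le fun j' e h f => fixK j' h f j.succ (by simpa using Ne.symm e) m b :
      _ ≤ MulAction.stabilizer (V ≃ₗ[ZMod p] V) m) a.2
    simpa [d] using rtG_fix a.1 c
  · have d := fixK j g b j'.succ (by simpa using a.symm) _ (rtG_sub c x)
    have e := fixK j' k c j.succ (by simpa using a) _ (rtG_sub b x)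
    rw [map_sub] at d e
    simp only [LinearEquiv.mul_apply]
    linear_combination (norm := module) d - e
  let ρ := resH (rtG H (W j.succ)) fun k a => st _ (W1 j) k (rtG_le a)
  have gen : ∀ (G : Subgroup (W j.succ ≃ₗ[ZMod p] W j.succ)), (∀ (y : W j.succ) η, Rt H y η → ∀ g : W j.succ ≃ₗ[ZMod p] W j.succ,
      (∀ x, g x = x + η x • y) → g ∈ G) → ρ.range ≤ G := by
    rintro G a _ ⟨⟨g, b⟩, rfl⟩
    induction b using Subgroup.closure_induction with
    | mem g b => obtain ⟨y, c, η, d, e⟩ := b; exact a ⟨y, c⟩ η d _ fun x => Subtype.ext (e x)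
    | one => exact (map_one ρ).symm ▸ one_mem G
    | mul g k c d e f => exact (map_mul ρ ⟨g, c⟩ ⟨k, d⟩).symm ▸ mul_mem e f
    | inv g c e => exact (map_inv ρ ⟨g, c⟩).symm ▸ inv_mem e
  have tv : ∀ (v : W j.succ) φ, Rt H v φ → ∀ c : ZMod p, ∃ g ∈ ρ.range,
      ∀ x, g x = x + (c * φ x) • v := fun v φ a c =>
    let ⟨g, _, d⟩ := a.2 c
    ⟨_, ⟨⟨g, Subgroup.subset_closure ⟨v, v.2, c • φ, a.smul_right c, d⟩⟩, rfl⟩, fun x => Subtype.ext (d x)⟩
  rcases (di _ (W1 j)).2.2 with a | ⟨B, a, b, c, d⟩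
  · refine .inl (Set.ext fun f => ⟨fun b => ?_, mem_of_det fun v ψ b => ?_⟩)
    · have := gen LinearEquiv.det.ker (fun y η c g d => Units.ext ?_) b
      · simpa using congrArg Units.val this
      rw [LinearEquiv.coe_det, show (g : _ →ₗ[ZMod p] _) = LinearMap.transvection (η ∘ₗ (W j.succ).subtype) y from LinearMap.ext d]
      simp [c.1]
    · obtain ⟨φ, c, d⟩ := a v ψ b
      simpa [d] using tv v φ c 1
  · refine .inr ⟨B, a, b, Set.ext fun f => ⟨fun e => ?_, mem_of_isom a b fun v s => ?_⟩⟩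
    · refine Cfsg.Lib.Forms.Symp.mem_isom.1 (gen (Cfsg.Lib.Forms.ofAlt B a).isom (fun y η c g e =>
        Cfsg.Lib.Forms.Symp.mem_isom.2 fun x z => ?_) e)
      by_cases f : y = 0
      · simp [e, f]
      obtain ⟨s, i⟩ := d y f η c
      simp [e, i, a.self_eq_zero, ← a.neg_eq y x]; ring
    · obtain ⟨φ, e, f⟩ := c v
      simpa [f] using tv v φ e s

end Cfsg.Agent.S5075
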