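import Cfsg.Statements.S5081
import Cfsg.Agent.Lib.Fus.Normal
-- import your own Cfsg.Agent.* helpers here

set_option autoImplicit false
open Cfsg

namespace Cfsg.Agent.S5081

open Cfsg.FusionSystem Cfsg.Lib.Fus Equiv

/-- Let F be a saturated fusion system over a finite p-group S, P a proper subgroup of S that is fully normalized, and H the subgroup of Aut_F(P) generated by the automorphisms that extend to maps of the system defined on strictly larger subgroups of S. Then either P is not essential and H is all of Aut_F(P), or P is essential and the image of H in Out_F(P) = Aut_F(P)/Inn(P) is strongly p-embedded there. -/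
theorem result {Ω : Type*} [Group Ω] {S : Subgroup Ω} [Finite S] (p : ℕ) [Fact p.Prime] (hS : IsPGroup p S) (F : Cfsg.FusionSystem S) (hF : F.IsSaturated p) (P : Subgroup Ω) (hPS : P < S) (hPn : F.IsFullyNormalized P) (H : Subgroup (MulAut P)) (hH : H = Subgroup.closure {α : MulAut P | ∃ (Q : Subgroup Ω) (hPQ : P < Q) (φ : Q →* Ω), φ ∈ F.Hom Q ∧ ∀ x : P, φ (Subgroup.inclusion hPQ.le x) = α x}) : (¬ F.IsEssential p P ∧ H = F.autGroup P) ∨ (F.IsEssential p P ∧ ∃ _ : ((Cfsg.Inn P).subgroupOf (F.autGroup P)).Normal, Cfsg.IsStronglyPEmbedded p ((H.subgroupOf (F.autGroup P)).map (QuotientGroup.mk' ((Cfsg.Inn P).subgroupOf (F.autGroup P))))) := by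
  have h0 : Sat p F := ⟨hS, hF⟩
  have h1 : H ≤ F.autGroup P := by
    rw [hH, Subgroup.closure_le]
    rintro α ⟨Q, hPQ, φ, hφ, e⟩
    obtain ⟨σ, hσ, e'⟩ := exists_perm hφ
    exact (mem_autGroup_iff_hom hPS.le).mpr ((hσ.mono hPQ.le).hom_mem _ fun x => by
      rw [show σ x = φ (Subgroup.inclusion hPQ.le x) from (e' (Subgroup.inclusion hPQ.le x)).symm, e]; rfl)
  have h2 : liftAut H = extAut F P := by
    apply le_antisymm
    · have : H ≤ downAut P (extAut F P) := by
        rw [hH, Subgroup.closure_le]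
        rintro α ⟨Q, hPQ, φ, hφ, e⟩
        obtain ⟨σ, hσ, e'⟩ := exists_perm hφ
        have e2 : ∀ x : P, (α x : Ω) = σ x := fun x => by rw [← e x, e']; rfl
        exact mem_downAut.mpr ⟨σ, mem_extAut ⟨hσ.mono hPQ.le, (mem_autAll_of_eq α e2).2⟩ hPQ hσ fun _ _ => rfl, e2⟩
      refine (liftAut_le_iff.mpr this).trans (liftAut_downAut ?_ ?_).le
      · exact (fixP_le_autS S P).trans (autS_le_extAut F hPS)
      · exact (extAut_le F P).trans (autP_le_autAll F P)
    · refine (Subgroup.closure_le _).mpr ?_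
      rintro σ ⟨hσ, Q, τ, hQ, hτ, e⟩
      obtain ⟨α, -, e'⟩ := hσ.exists_aut
      refine mem_liftAut.mpr ⟨α, ?_, e'⟩
      rw [hH]
      exact Subgroup.subset_closure ⟨Q, hQ, _, hτ.toHom_mem, fun x => by rw [e']; exact e x x.2⟩
  by_cases he : F.IsEssential p P
  · refine Or.inr ⟨he, inn_subgroupOf_normal F P, ?_⟩
    have := inn_subgroupOf_normal F P
    refine (spe_out_iff hPS.le ?_ h1).mpr (h2 ▸ h0.spe_extAut hPS hPn he.1 (essential_not_le_extAut hS he))
    rw [← liftAut_le_iff, h2, liftAut_inn]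
    exact (autS_mono hPS.le P).trans (autS_le_extAut F hPS)
  · refine Or.inl ⟨he, le_antisymm h1 ?_⟩
    rw [← liftAut_le_iff, h2]; exact h0.autP_le_extAut hPS hPn he

end Cfsg.Agent.S5081
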