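import Cfsg.Statements.S5087
import Cfsg.Agent.Lib.Fus.Normal
-- import your own Cfsg.Agent.* helpers here

set_option autoImplicit false
open Cfsg

namespace Cfsg.Agent.S5087

open Cfsg.FusionSystem Cfsg.Lib.Fus Equiv

/-- In a saturated fusion system over a finite p-group S, a subgroup Q is normal in the system if and only if every subgroup P that equals S or is essential contains Q and every element of Aut_F(P) maps Q onto itself. -/
theorem result {Ω : Type*} [Group Ω] {S : Subgroup Ω} [Finite S] (p : ℕ) [Fact p.Prime] (hS : IsPGroup p S) (F : Cfsg.FusionSystem S) (hF : F.IsSaturated p) (Q : Subgroup Ω) : F.IsNormal Q ↔ ∀ P : Subgroup Ω, (P = S ∨ F.IsEssential p P) → (Q ≤ P ∧ ∀ α ∈ F.autGroup P, (Q.subgroupOf P).map α.toMonoidHom = Q.subgroupOf P) := by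
  have h0 : Sat p F := ⟨hS, hF⟩
  constructor
  · intro h P hP
    have hQP := h0.normal_le h hP
    have hPS := (h0.cr_of_top_or_essential hP).1.1
    refine ⟨hQP, fun α hα => ?_⟩
    have h1 := ((mem_autGroup_iff hPS).mp hα).mor.iso_of_wc (wc_of_sc (sc_of_normal h)) hQP
    ext x
    rw [Subgroup.mem_map_equiv, Subgroup.mem_subgroupOf, Subgroup.mem_subgroupOf, ← h1.mem_iff, autPerm_apply,
      MulEquiv.apply_symm_apply]
  · intro h
    refine h0.normal_of_invariant fun R hR => ⟨(h R hR).1, fun τ hτ x hx => ?_⟩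
    obtain ⟨α, hα, e⟩ := hτ.exists_aut
    have : α ⟨x, (h R hR).1 hx⟩ ∈ Q.subgroupOf R := ((h R hR).2 α hα).le ⟨_, hx, rfl⟩
    rwa [Subgroup.mem_subgroupOf, e] at this

end Cfsg.Agent.S5087
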