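import Cfsg.Statements.S5088
import Cfsg.Agent.Lib.Fus.Normal
-- import your own Cfsg.Agent.* helpers here

set_option autoImplicit false
open Cfsg

namespace Cfsg.Agent.S5088

open Cfsg.FusionSystem Cfsg.Lib.Fus Equiv

/-- In a saturated fusion system over a finite p-group, a subgroup Q is normal in the system if and only if there is a chain of subgroups 1 = Q₀ ≤ Q₁ ≤ ⋯ ≤ Qₙ = Q such that each Qᵢ with i ≥ 1 is strongly closed in the system and [Q, Qᵢ] ≤ Qᵢ₋₁. -/
theorem result {Ω : Type*} [Group Ω] {S : Subgroup Ω} [Finite S] (p : ℕ) [Fact p.Prime] (hS : IsPGroup p S) (F : Cfsg.FusionSystem S) (hF : F.IsSaturated p) (Q : Subgroup Ω) : F.IsNormal Q ↔ ∃ (n : ℕ) (Qs : Fin (n + 1) → Subgroup Ω), Qs 0 = ⊥ ∧ Qs (Fin.last n) = Q ∧ Monotone Qs ∧ ∀ i : Fin n, F.StronglyClosed (Qs i.succ) ∧ ⁅Q, Qs i.succ⁆ ≤ Qs (Fin.castSucc i) := by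
  have h0 : Sat p F := ⟨hS, hF⟩
  constructor
  · intro h
    have : Finite Q := finite_of_le h.1
    have := (hS.to_le h.1).isNilpotent
    obtain ⟨n, hn⟩ := (Subgroup.isNilpotent_iff_lowerCentralSeries Q).mp this
    refine ⟨n, fun i => Q.lowerCentralSeries (n - i), by simpa using hn, by simp, fun i j hij => ?_, fun i => ⟨?_, ?_⟩⟩
    · exact Q.lowerCentralSeries_antitone (Nat.sub_le_sub_left hij n)
    · have := normal_of_characteristic h ((⊤ : Subgroup Q).lowerCentralSeries (n - i.succ))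
      rw [Subgroup.map_lowerCentralSeries, ← MonoidHom.range_eq_map, Subgroup.range_subtype] at this
      exact sc_of_normal this
    · have : n - (i.castSucc : ℕ) = n - (i.succ : ℕ) + 1 := by
        have := i.2; simp only [Fin.val_castSucc, Fin.val_succ]; omega
      simp only [this, Subgroup.lowerCentralSeries_succ]
      rw [Subgroup.commutator_comm]
  · rintro ⟨n, Qs, h1, h2, h3, h4⟩
    refine h0.normal_of_chain (fun i => Qs ⟨min i n, by omega⟩) n (by simpa using h1) (by rw [← h2]; exact congrArg Qs (Fin.ext (by simp)))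
      (fun i => h3 (Fin.mk_le_mk.mpr (by omega))) (fun i => ?_) fun i hi => ?_
    · rcases Nat.eq_zero_or_pos (min i n) with h5 | h5
      · simp only [h5]
        rw [show (⟨0, _⟩ : Fin (n + 1)) = 0 from rfl, h1]; exact sc_bot F
      · have := (h4 ⟨min i n - 1, by omega⟩).1
        rwa [show (⟨min i n - 1, by omega⟩ : Fin n).succ = ⟨min i n, by omega⟩ from Fin.ext (by simp; omega)] at this
    · have := (h4 ⟨i, hi⟩).2
      rwa [show (⟨i, hi⟩ : Fin n).succ = ⟨min (i + 1) n, by omega⟩ from Fin.ext (by simp; omega),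
        show (⟨i, hi⟩ : Fin n).castSucc = ⟨min i n, by omega⟩ from Fin.ext (by simp; omega)] at this

end Cfsg.Agent.S5088
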