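import Cfsg.Statements.S5089
import Cfsg.Agent.Lib.Fus.Normal
-- import your own Cfsg.Agent.* helpers here

set_option autoImplicit false
open Cfsg

namespace Cfsg.Agent.S5089

open Cfsg.FusionSystem Cfsg.Lib.Fus Equiv

/-- A saturated fusion system over a finite p-group has a nontrivial subgroup that is normal in the system (O_p(F) ≠ 1) if and only if some nontrivial abelian subgroup is strongly closed in the system. -/
theorem result {Ω : Type*} [Group Ω] {S : Subgroup Ω} [Finite S] (p : ℕ) [Fact p.Prime] (hS : IsPGroup p S) (F : Cfsg.FusionSystem S) (hF : F.IsSaturated p) : F.core ≠ ⊥ ↔ ∃ Q : Subgroup Ω, Q ≠ ⊥ ∧ IsMulCommutative Q ∧ F.StronglyClosed Q := by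
  constructor
  · intro h
    refine ⟨centralizerIn F.core F.core, centralizerIn_self_ne_bot hS (core_le F) h, ⟨⟨fun x y => Subtype.ext ?_⟩⟩,
      sc_of_normal (normal_centralizerIn (normal_core F) (normal_core F))⟩
    exact y.2.2 x x.2.1
  · rintro ⟨Q, hQ, hc, hsc⟩ e
    refine hQ (le_bot_iff.mp (e ▸ le_core (Sat.normal_of_sc_of_comm ⟨hS, hF⟩ hsc fun x hx y hy => ?_)))
    exact congrArg Subtype.val (hc.is_comm.comm ⟨y, hy⟩ ⟨x, hx⟩)

end Cfsg.Agent.S5089
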