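import Cfsg.Statements.S5094
import Cfsg.Agent.Lib.Block.IsoElt
import Cfsg.Agent.Lib.Fus.Normal
import Cfsg.Agent.Lib.Fus2.GroupFus

set_option autoImplicit false
open Cfsg

namespace Cfsg.Agent.S5094

open Cfsg.Lib.Block Cfsg.Lib.Char Cfsg.Lib.Amalg
set_option linter.style.haveILetI false

/-- Glauberman's Z*-Theorem in fusion language: for a finite group G with Sylow 2-subgroup S, the centre of the fusion system of G on S is the set of elements of S whose image in G/O(G) is central, O(G) being the largest normal subgroup of odd order. -/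
theorem result {G : Type*} [Group G] [Finite G] (S : Sylow 2 G) : (Cfsg.groupFusionSystem (S : Subgroup G)).center = (S : Subgroup G) ⊓ (Subgroup.center (G ⧸ Cfsg.oddCore G)).comap (QuotientGroup.mk' (Cfsg.oddCore G)) := by
  haveI : Fact (Nat.Prime 2) := ⟨Nat.prime_two⟩
  ext x
  rw [Lib.Fus.Sat.mem_center_iff ⟨S.2, Lib.Fus2.isSaturated_group S⟩, Subgroup.mem_inf,
    Subgroup.mem_comap, QuotientGroup.mk'_apply, ← inZStar_iff]
  refine and_congr_right fun hx => ?_
  obtain ⟨k, hk⟩ := Lib.Invol.pow_eq_one_of_mem S.2 hx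
  refine ⟨fun h => z_star_elt hk (isIsolated_of_sylow S hx fun g hg => ?_), ?_⟩
  · refine h (Subgroup.zpowers x) (MulAut.conj g).toEquiv
      ⟨(MulAut.conj g).toMonoidHom.comp (Subgroup.subtype _),
        ⟨Subgroup.zpowers_le_of_mem hx, ?_, g, fun _ => rfl⟩, fun _ => rfl⟩ (Subgroup.mem_zpowers x)
    rintro ⟨_, n, rfl⟩
    change g * x ^ n * g⁻¹ ∈ (S : Subgroup G)
    rw [← conj_zpow]
    exact zpow_mem hg n
  · rintro h P σ ⟨φ, ⟨-, h1, g, h2⟩, h3⟩ hxP
    have h4 := h1 ⟨x, hxP⟩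
    rw [← h3 ⟨x, hxP⟩, h2] at *
    exact (h.isIsolated hk).eq_of_mem S.2 hx h4 (Lib.Invol.isConj_conj g x)

end Cfsg.Agent.S5094
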