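import Cfsg.Statements.S5096
import Cfsg.Agent.Lib.Fus.Direct
-- import your own Cfsg.Agent.* helpers here

set_option autoImplicit false
open Cfsg

namespace Cfsg.Agent.S5096

open Cfsg.FusionSystem Cfsg.Lib.Fus Equiv

/-- For any fusion system over a subgroup S and any Q ≤ S, the maps of the normalizer system N_F(Q) — those maps between subgroups of N_S(Q) that extend to the subgroup generated with Q carrying Q onto Q — form a fusion system over N_S(Q). -/
theorem result {Ω : Type*} [Group Ω] {S : Subgroup Ω} (F : Cfsg.FusionSystem S) (Q : Subgroup Ω) (hQ : Q ≤ S) : ∃ E : Cfsg.FusionSystem (Cfsg.FusionSystem.normalizerIn S Q), F.IsNormalizerSystem Q E := by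
  refine exists_localSystem F hQ _ inf_le_left (fun P ψ => (Q.subgroupOf (P ⊔ Q)).map ψ = Q) (fun _ _ h => h)
    (fun P g hg => ?_) (fun P R ψ χ h h' hm => ?_) fun P R ψ χ h e => ?_
  · rw [conjHom, ← Subgroup.map_map, Subgroup.map_subgroupOf_eq_of_le le_sup_right]
    exact Subgroup.mem_normalizer_iff_map_conj_eq.mp hg.2
  · rw [← Subgroup.map_map]
    convert h' using 2
    ext y
    constructor
    · rintro ⟨x, hx, rfl⟩; exact h.le ⟨x, hx, rfl⟩
    · intro hy
      obtain ⟨x, hx, e⟩ := h.ge hy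
      exact ⟨x, hx, Subtype.ext e⟩
  · ext x
    constructor
    · rintro ⟨y, hy, rfl⟩
      obtain ⟨x, hx, e'⟩ := h.ge hy
      rw [e x y e']; exact hx
    · intro hx
      have h1 : ψ ⟨x, Subgroup.mem_sup_right hx⟩ ∈ Q := h.le ⟨_, hx, rfl⟩
      exact ⟨⟨_, Subgroup.mem_sup_right h1⟩, h1, e ⟨x, Subgroup.mem_sup_right hx⟩ _ rfl⟩

end Cfsg.Agent.S5096
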