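import Cfsg.Statements.S5097
import Cfsg.Agent.Lib.Fus.Direct
-- import your own Cfsg.Agent.* helpers here

set_option autoImplicit false
open Cfsg

namespace Cfsg.Agent.S5097

open Cfsg.FusionSystem Cfsg.Lib.Fus Equiv

/-- For any fusion system over a subgroup S and any Q ≤ S, the maps of the centralizer system C_F(Q) — those maps between subgroups of C_S(Q) that extend to the subgroup generated with Q fixing Q elementwise — form a fusion system over C_S(Q). -/
theorem result {Ω : Type*} [Group Ω] {S : Subgroup Ω} (F : Cfsg.FusionSystem S) (Q : Subgroup Ω) (hQ : Q ≤ S) : ∃ E : Cfsg.FusionSystem (Cfsg.FusionSystem.centralizerIn S Q), F.IsCentralizerSystem Q E := by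
  refine exists_localSystem F hQ _ inf_le_left (fun P ψ => ∀ x : Q, ψ (Subgroup.inclusion le_sup_right x) = x)
    (fun P ψ h => ?_) (fun P g hg x => ?_) (fun P R ψ χ h h' hm x => ?_) fun P R ψ χ h e x => ?_
  · rw [map_subgroupOf_eq_range (φ := Q.subtype) ψ le_sup_right h, Subgroup.range_subtype]
  · show g * x * g⁻¹ = x
    rw [← hg.2 x x.2, mul_inv_cancel_right]
  · rw [MonoidHom.comp_apply, ← h' x]
    congr 1
    exact Subtype.ext (h x)
  · exact e (Subgroup.inclusion le_sup_right x) (Subgroup.inclusion le_sup_right x) (h x)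

end Cfsg.Agent.S5097
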