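import Cfsg.Statements.S5107
import Cfsg.Agent.Lib.Fus.Misc
import Cfsg.Agent.Lib.Fus2.GroupFus
-- import your own Cfsg.Agent.* helpers here

set_option autoImplicit false
open Cfsg

namespace Cfsg.Agent.S5107

open Cfsg.FusionSystem Cfsg.Lib.Fus Equiv

/-- If a Sylow p-subgroup S of a finite group G has nilpotency class at most two and its centre is strongly closed in S with respect to G, then every map of the fusion system of G on S is conjugation by an element of N_G(S), and S is the largest subgroup normal in that fusion system. -/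
theorem result {G : Type*} [Group G] [Finite G] (p : ℕ) [Fact p.Prime] (S : Sylow p G) (hcl : ⁅(S : Subgroup G), (S : Subgroup G)⁆ ≤ (S : Subgroup G) ⊓ Subgroup.centralizer ((S : Subgroup G) : Set G)) (hZ : Cfsg.IsStronglyClosed ((S : Subgroup G) ⊓ Subgroup.centralizer ((S : Subgroup G) : Set G)) (S : Subgroup G)) : (∀ (P : Subgroup G) (φ : P →* G), φ ∈ (Cfsg.groupFusionSystem (S : Subgroup G)).Hom P → ∃ g ∈ Subgroup.normalizer ((S : Subgroup G) : Set G), ∀ x : P, φ x = g * (x : G) * g⁻¹) ∧ (Cfsg.groupFusionSystem (S : Subgroup G)).core = S := by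
  have hsat : Sat p (groupFusionSystem (S : Subgroup G)) := ⟨S.isPGroup', Cfsg.Lib.Fus2.isSaturated_group S⟩
  have hsc : (groupFusionSystem (S : Subgroup G)).StronglyClosed
      ((S : Subgroup G) ⊓ Subgroup.centralizer ((S : Subgroup G) : Set G)) :=
    stronglyClosed_iff.mpr ⟨inf_le_left, fun R σ hσ x hx hx' => by
      obtain ⟨-, h1, g, e⟩ := mor_group_iff.mp hσ
      rw [e x hx]; exact hZ.2 x hx' g (e x hx ▸ h1 x hx)⟩
  have hn : (groupFusionSystem (S : Subgroup G)).IsNormal S := by
    refine hsat.normal_of_sc_of_le (sc_top _) fun R hR => le_of_radical hsat.pg (centric_centralizerIn_le hR.1)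
      (radical_of_essential hsat.pg hR) le_rfl (hR.1.1.trans Subgroup.le_normalizer) fun g hg hn => ?_
    exact mem_opP_of_trivMod_sc hsat.pg (iso_cj _ hR.1.1 hg hn) hsc
      (fun x hx => hcl (inv_mul_conj_mem_commutator hg (hR.1.1 hx)))
      (fixP_le_opP p _ _ fun x hx => by rw [cj_apply, hx.2.2 g hg, mul_inv_cancel_right])
  refine ⟨fun P φ hφ => ?_, le_antisymm (core_le _) (le_core hn)⟩
  obtain ⟨σ, hσ, e⟩ := exists_perm hφ
  obtain ⟨τ, h1, h2⟩ := normal_top_iff.mp hn P σ hσ
  obtain ⟨-, h3, g, e'⟩ := mor_group_iff.mp h1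
  exact ⟨g, mem_normalizer_of_conj_mem_finite fun x hx => e' x hx ▸ h3 x hx,
    fun x => by rw [e, ← h2 x x.2, e' x (hσ.le x.2)]⟩

end Cfsg.Agent.S5107
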