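import Cfsg.Statements.S5110
import Cfsg.Agent.Lib.Fus.Above
-- import your own Cfsg.Agent.* helpers here

set_option autoImplicit false
open Cfsg

namespace Cfsg.Agent.S5110

open Cfsg.FusionSystem Cfsg.Lib.Fus Equiv

/-- Saturation criterion: let F be a fusion system over a finite p-group S and H a family of subgroups of S closed under conjugacy in F, such that every conjugacy class inside H contains a fully automized receptive member, F is the smallest fusion system over S containing all its maps with source in H, and every centric subgroup outside H is conjugate in F to some P for which Aut_S(P) ∩ O_p(Aut_F(P)) is not contained in Inn(P). Then F is saturated. -/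
theorem result {Ω : Type*} [Group Ω] {S : Subgroup Ω} [Finite S] (p : ℕ) [Fact p.Prime] (hS : IsPGroup p S) (F : Cfsg.FusionSystem S) (ℋ : Set (Subgroup Ω)) (hℋS : ∀ P ∈ ℋ, P ≤ S) (hℋconj : ∀ P ∈ ℋ, ∀ Q, F.IsConj P Q → Q ∈ ℋ) (hsat : ∀ P ∈ ℋ, ∃ Q, F.IsConj P Q ∧ F.IsFullyAutomized p Q ∧ F.IsReceptive Q) (hgen : ∀ E : Cfsg.FusionSystem S, (∀ P ∈ ℋ, F.Hom P ⊆ E.Hom P) → F ≤ E) (hstar : ∀ P : Subgroup Ω, F.IsCentric P → P ∉ ℋ → ∃ Q, F.IsConj P Q ∧ ¬ (Cfsg.autInducedBy S Q ⊓ (Cfsg.pCore p ↥(F.autGroup Q)).map (F.autGroup Q).subtype ≤ Cfsg.Inn Q)) : F.IsSaturated p := by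
  have hS' : S ∈ ℋ := by
    by_contra h
    obtain ⟨Q, h1, h2⟩ := hstar S (centric_top F) h
    obtain ⟨σ, hσ⟩ := isConj_iff_iso.mp h1
    have e := hσ.symm.eq_top
    subst e
    exact h2 (inf_le_left.trans (autInducedBy_self Q).le)
  refine (sat_of_family hS (ℋ := fun P => P ∈ ℋ) (fun P Q σ h1 h2 => hℋconj P h1 Q h2.isConj) (fun P hP => ?_)
    (fun Q σ hσ => ?_) fun P hc hP => ?_).sat
  · obtain ⟨Q, h1, h2⟩ := hsat P hP
    obtain ⟨σ, hσ⟩ := isConj_iff_iso.mp h1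
    exact ⟨Q, σ, hσ, h2⟩
  · have hB : GenData S fun Q τ => Q ∈ ℋ ∧ Mor F Q τ :=
      ⟨fun h _ hx => h.2.mem hx, fun h => h.2.homOn,
        fun g hg => Gen.of_base ⟨hS', mor_cj F le_rfl hg⟩ le_rfl le_rfl,
        fun h => Gen.of_base ⟨hℋconj _ h.1 _ h.2.isConj, h.2.inv⟩ le_rfl h.2.img_le⟩
    obtain ⟨E, hE⟩ := hB.exists_fs
    exact (hE _ _).mp (fs_le_iff.mp (hgen E fun P hP => hom_subset_iff.mpr fun τ hτ =>
      (hE _ _).mpr (Gen.of_base ⟨hP, hτ⟩ le_rfl hτ.le)) Q σ hσ)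
  · obtain ⟨Q, h1, h2⟩ := hstar P hc hP
    obtain ⟨σ, hσ⟩ := isConj_iff_iso.mp h1
    rw [← liftAut_le_iff, liftAut_inf, liftAut_inn] at h2
    obtain ⟨α, ⟨a1, a2⟩, a3⟩ := SetLike.not_le_iff_exists.mp h2
    obtain ⟨g, hg, -, e⟩ := mem_autS.mp a1
    exact ⟨Q, σ, g, hg, hσ, fun h => a3 (mem_autS_self.mpr ⟨g, h, e⟩),
      mem_of_eqOn (fixP_le_opP p F Q) a2 fun x hx => (e x hx).symm⟩

end Cfsg.Agent.S5110
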