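import Cfsg.Statements.S5112
import Cfsg.Agent.Lib.Fus.SSol
import Cfsg.Agent.Lib.Fus3.MetaAut
-- import your own Cfsg.Agent.* helpers here

set_option autoImplicit false
open Cfsg

namespace Cfsg.Agent.S5112

open Cfsg.FusionSystem Cfsg.Lib.Fus Equiv

theorem aux {X : Type*} [Group X] {n : ℕ} (hc : Nat.card X = 2 ^ (n + 4)) {a b : X} (ha : orderOf a = 2 ^ (n + 3))
    (h : a * b ≠ b * a) : IsPGroup 2 (MulAut X) := by
  haveI : Finite X := Nat.finite_of_card_ne_zero (by rw [hc]; positivity)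
  have hi : (Subgroup.zpowers a).index = 2 := by
    have := (Subgroup.zpowers a).card_mul_index
    rw [Nat.card_zpowers, ha, hc, pow_succ 2 (n + 3)] at this
    exact Nat.eq_of_mul_eq_mul_left (by positivity) this
  by_contra hA
  have hb : b ∉ Subgroup.zpowers a := by
    rintro ⟨k, rfl⟩
    exact h (Commute.self_zpow a k)
  rcases metacyclic_two_aut (IsPGroup.of_card hc) (Subgroup.normal_of_index_eq_two hi)
    (Cfsg.Lib.PGrp.sup_zpowers_eq_top_of_index_two hi hb) hA with ⟨c, h1, -⟩ | ⟨m, -, -, ⟨e⟩⟩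
  · have := Nat.pow_right_injective le_rfl (h1.ord.symm.trans ha)
    omega
  · exact h (e.injective (by rw [map_mul, map_mul, mul_comm]))

/-- If S is a dihedral or generalized quaternion 2-group of order at least 16, then in every saturated fusion system over S (at the prime 2) the automorphism group Aut_F(S) consists of the inner automorphisms of S. -/
theorem result {Ω : Type*} [Group Ω] {S : Subgroup Ω} [Finite S] (n : ℕ) (hn : 4 ≤ n) (hshape : Nonempty (S ≃* DihedralGroup (2 ^ (n - 1))) ∨ Nonempty (S ≃* QuaternionGroup (2 ^ (n - 2)))) (F : Cfsg.FusionSystem S) (hF : F.IsSaturated 2) : F.autGroup S = Cfsg.Inn S := by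
  haveI : Fact (Nat.Prime 2) := ⟨Nat.prime_two⟩
  obtain ⟨n, rfl⟩ : ∃ m, n = m + 4 := ⟨n - 4, by omega⟩
  have key : Nat.card S = 2 ^ (n + 4) ∧ IsPGroup 2 (MulAut S) := by
    rcases hshape with ⟨⟨e⟩⟩ | ⟨⟨e⟩⟩
    · have hc : Nat.card (DihedralGroup (2 ^ (n + 4 - 1))) = 2 ^ (n + 4) := by
        rw [DihedralGroup.nat_card, show n + 4 - 1 = n + 3 from rfl, ← pow_succ']
      refine ⟨(Nat.card_congr e.toEquiv).trans hc, (aux hc (a := DihedralGroup.r 1) (b := DihedralGroup.sr 0)
        DihedralGroup.orderOf_r_one fun h => ?_).of_equiv (MulAut.congr e).symm⟩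
      rw [DihedralGroup.r_mul_sr, DihedralGroup.sr_mul_r, DihedralGroup.sr.injEq] at h
      have h2 : ((2 : ℕ) : ZMod (2 ^ (n + 4 - 1))) = 0 := by rw [Nat.cast_ofNat]; linear_combination -h
      have := Nat.le_of_dvd two_pos ((ZMod.natCast_eq_zero_iff _ _).mp h2)
      rw [show n + 4 - 1 = n + 3 from rfl, pow_add] at this
      have := Nat.one_le_two_pow (n := n)
      omega
    · haveI : NeZero (2 ^ (n + 4 - 2)) := ⟨by positivity⟩
      have hc : Nat.card (QuaternionGroup (2 ^ (n + 4 - 2))) = 2 ^ (n + 4) := by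
        rw [Nat.card_eq_fintype_card, QuaternionGroup.card, show n + 4 - 2 = n + 2 from rfl]; ring
      refine ⟨(Nat.card_congr e.toEquiv).trans hc, (aux hc (a := QuaternionGroup.a 1) (b := QuaternionGroup.xa 0)
        (by rw [QuaternionGroup.orderOf_a_one, show n + 4 - 2 = n + 2 from rfl]; ring)
        fun h => ?_).of_equiv (MulAut.congr e).symm⟩
      rw [QuaternionGroup.a_mul_xa, QuaternionGroup.xa_mul_a, QuaternionGroup.xa.injEq] at h
      have h2 : ((2 : ℕ) : ZMod (2 * 2 ^ (n + 4 - 2))) = 0 := by rw [Nat.cast_ofNat]; linear_combination -h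
      have := Nat.le_of_dvd two_pos ((ZMod.natCast_eq_zero_iff _ _).mp h2)
      rw [show n + 4 - 2 = n + 2 from rfl, pow_add] at this
      have := Nat.one_le_two_pow (n := n)
      omega
  have hF' : Sat 2 F := ⟨IsPGroup.of_card key.1, hF⟩
  have h := hF'.autP_top_le_of_pMod ((pMod_autAll_iff.mpr key.2).mono (autP_le_autAll F S))
  refine liftAut_inj.mp (le_antisymm ?_ ?_) <;> rw [liftAut_inn]
  · exact h
  · exact autS_le_autP F le_rfl le_rfl

end Cfsg.Agent.S5112
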