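import Cfsg.Statements.S5115
import Cfsg.Agent.Lib.Fus2.Real2
import Cfsg.Agent.Lib.Fus2.GroupNormal
import Cfsg.Agent.Lib.Fus.Misc

set_option autoImplicit false
open Cfsg

namespace Cfsg.Agent.S5115

open Subgroup Cfsg.Lib Cfsg.Lib.Amalg Cfsg.Lib.Fus2

/-- If the 2-fusion system of a finite group G on a Sylow 2-subgroup S is constrained, then for every subnormal subgroup H of G the 2-fusion system of H on S ∩ H is constrained. -/
theorem result {G : Type*} [Group G] [Finite G] (S : Sylow 2 G) (hF : (Cfsg.groupFusionSystem (S : Subgroup G)).IsConstrained 2) (H : Subgroup G) (hH : H.IsSubnormal) : (Cfsg.groupFusionSystem ((S : Subgroup G).subgroupOf H)).IsConstrained 2 := by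
  have key : ∀ W (h : W ≤ H), W = ↑S ⊓ H → Syl 2 W H ∧ (fusionSystemOfSubgroup H W h).IsConstrained 2 := by
    induction hH with
    | top =>
      rintro W h e
      obtain rfl : W = S := e.trans (inf_top_eq _)
      exact ⟨syl_top S, group_eq_subgroup_top (S : Subgroup G) ▸ hF⟩
    | step H K h1 _ h2 ih =>
      rintro W h e
      obtain rfl : W = ↑S ⊓ K ⊓ H := by rw [e, inf_assoc, inf_eq_right.2 h1]
      have h3 := le_normalizer_of_normal_subgroupOf h1
      obtain ⟨a, b⟩ := ih _ inf_le_right rfl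
      have h4 := a.inf_normal h1 h3
      exact ⟨h4, Fus.Sat.isConstrained_of_sc ⟨a.isPGroup, b.1⟩ b ⟨h4.isPGroup, isSaturated_subgroup h4⟩
        (isSubsystemOf_subgroup inf_le_left h1) (stronglyClosed_inf_normal h3)⟩
  obtain ⟨I, -, -, -, h⟩ := exists_fIso_subtype (H := H) (W := S ⊓ H) inf_le_right
  exact inf_subgroupOf_right (S : Subgroup G) H ▸ h.symm.isConstrained (key _ _ rfl).2

end Cfsg.Agent.S5115
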