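import Cfsg.Statements.S5121
import Cfsg.Agent.Lib.Fus.Meet
import Cfsg.Agent.Lib.Fus.Misc
import Cfsg.Agent.Lib.Fus2.GroupNormal
import Cfsg.Agent.Lib.Amalg.CharP
import Cfsg.Agent.Lib.Amalg.Bridge

set_option autoImplicit false
open Cfsg

namespace Cfsg.Agent.S5121

open Subgroup Cfsg.Lib Cfsg.Lib.Amalg Equiv

theorem wn_sub {Ω : Type*} [Group Ω] {S T : Subgroup Ω} [Finite S] {p : ℕ} [Fact p.Prime] {F : FusionSystem S}
    {E E' : FusionSystem T} (h : Fus.WN p E F) (h' : Fus.WN p E' F)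
    (ht : ∀ α, Fus.Iso E T T α → Fus.PP p T α → Fus.Iso E' T T α) : E.IsSubsystemOf E' := by
  have := h.toInv.finite
  obtain ⟨D, hD⟩ := h.satE.exists_isPPrimeResidual
  have h1 := h.sub_of_isPPrimeResidual' hD h'
  have h2 : Fus.autP E T ≤ Fus.autP E' T :=
    Fus.le_of_pp (Fus.fixP_le_autP E T) (Fus.autP_le_autAll E T) (h.satE.fa_of_iso (Fus.isFullyNormalized_top E))
      (inf_le_left.trans (Fus.autS_le_autP E' le_rfl le_rfl)) fun σ a b =>
        (Fus.mem_autP le_rfl).2 (ht σ ((Fus.mem_autP le_rfl).1 a) b)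
  refine Fus.isSubsystemOf_iff.2 fun P σ hσ => ?_
  obtain ⟨α, σ₀, a, b, c⟩ := (h.wn_of_isPPrimeResidual hD).2.frat hσ.le hσ
  exact ((b.of_sub h1).comp ((Fus.mem_autP le_rfl).1 (h2 ((Fus.mem_autP le_rfl).2 a))).mor fun _ hx => b.mem hx).congr c

variable {G : Type*} [Group G] [Finite G] {p : ℕ} [Fact p.Prime] {S T Q R H H' : Subgroup G} {E : FusionSystem T}

/-- the elements centralizing `Q / R` -/
def KO (Q R : Subgroup G) : Subgroup G := (Fus.trivMod Q R).comap Fus.cj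

omit [Finite G] in
theorem mem_KO [Q.Normal] {g : G} : g ∈ KO Q R ↔ ∀ x ∈ Q, x⁻¹ * (g * x * g⁻¹) ∈ R :=
  ⟨fun h => h.2, Fus.cj_mem_trivMod (le_normalizer_of_normal (mem_top g))⟩

instance [Q.Normal] [hR : R.Normal] : (KO Q R).Normal := ⟨fun g hg u => by
  rw [KO, mem_comap, map_mul, map_mul, map_inv]
  exact Fus.conj_mem_trivMod (Fus.cj_mem_autAll (le_normalizer_of_normal (mem_top u)))
    (fun x _ hx => hR.conj_mem x hx u) hg⟩

theorem KO_inf_le (hG : 𝐂 (pCore p G) ≤ pCore p G) [R.Normal] (hR : R ≤ pCore p G) :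
    KO (pCore p G) R ⊓ 𝐂 R ≤ pCore p G := by
  have hQ : IsPGroup p (pCore p G) := Core.isPGroup_pCore p G
  refine (le_op le_top le_normalizer_of_normal (isPGroup_iff_mem.2 fun g hg => ?_)).trans Amalg.op_top.le
  obtain ⟨k, hk⟩ := Fus.pMod_trivMod (hQ.to_le hR) hR (Fus.cj g) ⟨hg.1, Fus.cj_mem_fixP.2 hg.2⟩
  rw [← map_pow, Fus.cj_mem_fixP] at hk
  obtain ⟨m, hm⟩ := isPGroup_iff_mem.1 hQ _ (hG hk)
  exact ⟨k + m, by rw [pow_add, pow_mul, hm]⟩

omit [Finite G] in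
theorem le_KO [H.Normal] (hT : Syl p T H) : H ≤ KO (pCore p G) (pCore p G ⊓ T) := fun g hg => mem_KO.2 fun x hx => by
  have hQ : IsPGroup p (pCore p G) := Core.isPGroup_pCore p G
  have h1 : x⁻¹ * (g * x * g⁻¹) ∈ pCore p G := mul_mem (inv_mem hx) (Normal.conj_mem inferInstance x hx g)
  have h2 : x⁻¹ * (g * x * g⁻¹) ∈ H := by
    have := mul_mem (Normal.conj_mem' inferInstance g hg x) (inv_mem hg)
    simpa [mul_assoc] using this
  exact ⟨h1, hT.le_of_normal (P := pCore p G ⊓ H) (hQ.to_le inf_le_left) inf_le_right le_normalizer_of_normal ⟨h1, h2⟩⟩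

theorem uniq (hG : 𝐂 (pCore p G) ≤ pCore p G) [H.Normal] [H'.Normal] (hT : Syl p T H) (hT' : Syl p T H')
    (h : ∀ P, (fusionSystemOfSubgroup H T hT.le).Hom P = (fusionSystemOfSubgroup H' T hT'.le).Hom P) : H ≤ H' := by
  have hQ : IsPGroup p (pCore p G) := Core.isPGroup_pCore p G
  have e : pCore p G ⊓ T = pCore p G ⊓ H := le_antisymm (inf_le_inf_left _ hT.le)
    (le_inf inf_le_left (hT.le_of_normal (hQ.to_le inf_le_left) inf_le_right le_normalizer_of_normal))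
  have hn : (pCore p G ⊓ T).Normal := e ▸ inferInstance
  rw [← hT.res_sup]
  refine sup_le (res_le_of_le_sup hQ le_normalizer_of_normal fun g hg => ?_) hT'.le
  have h1 : Fus.Mor (fusionSystemOfSubgroup H T hT.le) (pCore p G ⊓ T) (Fus.cj g) :=
    (Fus.mor_ofSubgroup_iff _).2 ⟨inf_le_right, fun x hx => (hn.conj_mem x hx g).2, g, hg, fun _ _ => rfl⟩
  obtain ⟨-, -, u, h2, h3⟩ := (Fus.mor_ofSubgroup_iff _).1 ((Fus.mor_congr_of_hom_eq (h _)).1 h1)
  have h4 : u⁻¹ * g ∈ pCore p G := KO_inf_le hG inf_le_left ⟨mul_mem ((KO _ _).inv_mem (le_KO hT' h2)) (le_KO hT hg),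
    Fus.mem_centralizer_of_conj_eq fun x hx => by
      have := h3 x hx
      rw [Fus.cj_apply] at this
      calc u⁻¹ * g * x * (u⁻¹ * g)⁻¹ = u⁻¹ * (g * x * g⁻¹) * u := by group
        _ = x := by rw [this]; group⟩
  simpa using mul_mem_sup h2 h4

theorem main (hG : 𝐂 (pCore p G) ≤ pCore p G) (hS : Syl p S ⊤) (h : Fus.Nrm p E (groupFusionSystem S)) :
    ∃ H : Subgroup G, ∃ hT : Syl p T H, H.Normal ∧ E = fusionSystemOfSubgroup H T hT.le := by
  set Q := pCore p G with hQe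
  have hQ : IsPGroup p Q := Core.isPGroup_pCore p G
  have hQS : Q ≤ S := hS.pCore_le
  have hTS := h.toInv.le
  have mor : ∀ {P g}, P ≤ S → (∀ x ∈ P, g * x * g⁻¹ ∈ S) → Fus.Mor (groupFusionSystem S) P (Fus.cj g) := fun a b =>
    Fus.mor_group_iff.2 ⟨a, b, _, fun _ _ => rfl⟩
  have sc : ∀ x ∈ T, ∀ g, g * x * g⁻¹ ∈ S → g * x * g⁻¹ ∈ T := fun x hx g hg =>
    (mor (zpowers_le.2 (hTS hx)) fun y hy => cj_le_iff'.1 (cj_zpowers g x ▸ zpowers_le.2 hg) y hy).mem_of_sc h.sc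
      (mem_zpowers x) hx
  have hST : S ≤ 𝐍 T := Fus.sc_le_normalizer h.sc
  have hn : (Q ⊓ T).Normal := ⟨fun x hx g =>
    have := Normal.conj_mem inferInstance x hx.1 g
    ⟨this, sc x hx.2 g (hQS this)⟩⟩
  have hTK : T ≤ KO Q (Q ⊓ T) := fun g hg => mem_KO.2 fun x hx =>
    ⟨Q.mul_mem (Q.inv_mem hx) (Normal.conj_mem inferInstance x hx g), show _ ∈ T by
      have := mul_mem (Fus.conj_mem_of_mem_normalizer (inv_mem (hST (hQS hx))) hg) (inv_mem hg)
      simpa [mul_assoc] using this⟩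
  have hC := KO_inf_le hG (R := Q ⊓ T) inf_le_left
  have hQF : (groupFusionSystem S).IsNormal Q := Fus2.isNormal_group_of_normal hQS
  have hcen : E.IsCentric (Q ⊓ T) := by
    have := h.toInv.finite
    exact Fus.centric_of_normal (h.satE.normal_inf h.sub h.sc hQF) fun x hx => ⟨hC ⟨hTK hx.1, hx.2⟩, hx.1⟩
  have iso0 : ∀ g, Fus.Iso (groupFusionSystem S) (Q ⊓ T) (Q ⊓ T) (Fus.cj g) := fun g =>
    (mor (inf_le_left.trans hQS) fun x hx => hQS (hn.conj_mem x hx g).1).iso_self fun x hx => hn.conj_mem x hx g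
  let K := (Fus.autP E (Q ⊓ T)).comap Fus.cj ⊓ KO Q (Q ⊓ T)
  have hK1 : ((Fus.autP E (Q ⊓ T)).comap (Fus.cj (Ω := G))).Normal := ⟨fun g hg u => by
    rw [mem_comap, map_mul, map_mul, map_inv]
    exact (h.toInv.conj_mem_autP (iso0 u) inf_le_right).2 hg⟩
  have hKn : K.Normal := inferInstance
  have hTK' : T ≤ K := le_inf (fun g hg => (Fus.mem_autP inf_le_right).2
    (Fus.iso_cj E inf_le_right hg (le_normalizer_of_normal (mem_top g)))) hTK
  have hW : Syl p (S ⊓ K) K := hS.inf_normal_top K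
  have dec : ∀ x ∈ S ⊓ K, ∃ t ∈ T, ∃ c ∈ Q, x = t * c := fun x hx => by
    have := h.toWN.mem_sup_of_cj inf_le_right (h.satF.fc_of_fn (Fus.isFullyNormalized_of_normal _ (inf_le_left.trans hQS)
      le_normalizer_of_normal)) hx.1 hx.2.1
    obtain ⟨t, ht, c, hc, e⟩ := (mem_sup_of_le_normalizer' (inf_le_left.trans hST)).1 this
    refine ⟨t, ht, c, hC ⟨?_, hc.2⟩, e.symm⟩
    have := mul_mem (inv_mem (hTK ht)) hx.2.2
    rwa [← e, inv_mul_cancel_left] at this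
  have hyp : S ⊓ K ⊓ pResidualOf p K ≤ T := by
    rw [← resOf_eq_res, ← Fus2.hyp_subgroup (hWH := inf_le_right) hW]
    refine (Fus2.hyp_le_focal _ _).trans (Fus2.focal_le_iff.2 fun P f hf x hx => ?_)
    obtain ⟨a, b, k, hk, e⟩ := Fus2.mor_subgroup_iff.1 hf
    obtain ⟨t, ht, c, hc, rfl⟩ := dec x (a hx)
    have h1 := (b _ hx).1
    rw [e _ hx] at h1 ⊢
    have h2 := Normal.conj_mem inferInstance c hc k
    have h3 : k * t * k⁻¹ ∈ T := sc t ht k (by
      have := S.mul_mem h1 (S.inv_mem (hQS h2))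
      simpa [mul_assoc] using this)
    have := mul_mem (Fus.conj_mem_of_mem_normalizer (inv_mem (hST (hQS hc))) (mul_mem (inv_mem ht) h3))
      (mem_KO.1 hk.2 c hc).2
    simpa [mul_assoc] using this
  have hrn := res_normal (p := p) K
  have hHK : pResidualOf p K ⊔ T ≤ K := sup_le (res_le K) hTK'
  have hHn : (pResidualOf p K ⊔ T).Normal := normal_of_top_le_normalizer fun g _ => by
    obtain ⟨k, hk, n, hn', rfl⟩ := hW.frattini_mem (le_normalizer_of_normal (mem_top g))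
    obtain ⟨r, hr, s, hs, rfl⟩ := hW.mem_res_mul hk
    have a : ∀ u ∈ 𝐍 T, u ∈ 𝐍 (pResidualOf p K ⊔ T) := fun u hu =>
      Amalg.mem_normalizer_of_cj_le (by
        rw [cj_sup, cj_eq_self_iff.2 hu, cj_eq_self_iff.2 (le_normalizer_of_normal (mem_top u))])
    refine mul_mem (mul_mem (le_normalizer (mem_sup_left hr)) (a s (hST hs.1))) (a n ?_)
    exact Amalg.mem_normalizer_of_cj_le (cj_le_iff'.2 fun x hx =>
      sc x hx n (Fus.conj_mem_of_mem_normalizer hn' ⟨hTS hx, hTK' hx⟩).1)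
  have eT : T = S ⊓ (pResidualOf p K ⊔ T) := le_antisymm (le_inf hTS le_sup_right) fun x hx => by
    obtain ⟨r, hr, t, ht, rfl⟩ := (mem_sup_of_le_normalizer' le_normalizer_of_normal).1 hx.2
    refine mul_mem (hyp ⟨⟨?_, res_le K hr⟩, hr⟩) ht
    simpa using S.mul_mem hx.1 (S.inv_mem (hTS ht))
  have hT : Syl p T (pResidualOf p K ⊔ T) := by
    have := hS.inf_normal_top (pResidualOf p K ⊔ T)
    rwa [← eT] at this
  have h' : Fus.Nrm p (fusionSystemOfSubgroup _ T hT.le) (groupFusionSystem S) := by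
    have : ∀ (T' : Subgroup G) (a : T' ≤ pResidualOf p K ⊔ T), T' = S ⊓ (pResidualOf p K ⊔ T) →
        (fusionSystemOfSubgroup _ T' a).IsNormalIn (groupFusionSystem S) p := by
      rintro _ _ rfl; exact Fus2.isNormalIn_group hS _
    exact (Fus.isNormalIn_iff hS.isPGroup).1 (this T _ eT)
  refine ⟨_, hT, hHn, Fus.fs_eq_of_sub (wn_sub h.toWN h'.toWN fun α a b => ?_) (wn_sub h'.toWN h.toWN fun α a b => ?_)⟩
  · obtain ⟨β, c1, c2, c3⟩ := h.ext a
    obtain ⟨-, -, g, c4⟩ := Fus.mor_group_iff.1 c1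
    have d0 := c1.iso_sup_centralizerIn ((a.of_sub h.sub).congr c2)
    have d1 : Fus.Iso E T T (Fus.cj g) := a.congr fun x hx => (c4 x (mem_sup_left hx)).symm.trans (c2 x hx)
    have d2 : Fus.cj g ∈ Fus.trivMod (Fus.hat S T) T :=
      Fus.mem_trivMod_hat (Fus.autP_le_autAll _ _ ((Fus.mem_autP (Fus.hat_le hTS)).2 (d0.congr fun x hx => (c4 x hx).symm)))
        (fun _ hx => d1.mem hx) fun c hc => by rw [Fus.cj_apply, ← c4 c (mem_sup_right hc)]; exact c3 c hc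
    have d3 : Fus.PP p T (Fus.cj g) := b.congr (fun _ hx => a.mem hx) fun x hx => (c4 x (mem_sup_left hx)).symm.trans (c2 x hx)
    obtain ⟨k, d4, d5⟩ := d3.exists_pow (R := Q) (Fus.cj_mem_autAll (le_normalizer_of_normal (mem_top g)))
    have d6 := d1.pow k
    have d7 := pow_mem d2 k
    have d8 := d3.pow k
    rw [← map_pow] at d4 d5 d6 d7 d8
    refine Fus.Iso.congr (σ := Fus.cj (g ^ k)) ?_ fun x hx => ((d5 x hx).trans ((c4 x (mem_sup_left hx)).symm.trans (c2 x hx))).symm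
    generalize g ^ k = u at *
    have e1 : Fus.cj u ∈ Fus.trivMod Q (Q ⊓ Fus.hat S T) :=
      Fus.cj_mem_trivMod (le_normalizer_of_normal (mem_top u)) fun x hx => by
        have f1 : x⁻¹ * (u * x * u⁻¹) ∈ Q := mul_mem (inv_mem hx) (Normal.conj_mem inferInstance x hx u)
        refine ⟨f1, h.toWN.mem_sup_of_cj le_rfl (h.satF.fc_of_fn (Fus.isFullyNormalized_of_normal _ hTS hST)) (hQS f1) ?_⟩
        have f2 := (Fus.mem_autP le_rfl).2 d6
        have f3 := mul_mem ((h.toInv.conj_mem_autP (Fus.iso_cj _ hTS (inv_mem (hQS hx)) (inv_mem (hST (hQS hx)))) le_rfl).2 f2)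
          (inv_mem f2)
        simpa only [← map_inv, ← map_mul, inv_inv, mul_assoc] using f3
    have e2 : u ∈ K := ⟨(Fus.mem_autP inf_le_right).2 ((d6.mor.mono inf_le_right).iso_self fun x hx => hn.conj_mem x hx u),
      d4.trivMod_trans (hQ.to_le inf_le_left) inf_le_left e1 fun x hx => ⟨e1.2 x hx.1 |>.1, d7.2 x hx.2⟩⟩
    obtain ⟨m, hm⟩ := exists_pow_mem_res (p := p) e2
    refine (Fus.mem_autP le_rfl).1 (d8.mem_of_pow (Fus.fixP_le_autP _ _) (k := m) ((Fus.mem_autP le_rfl).2 ?_))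
    rw [← map_pow]
    have e3 := d6.pow (p ^ m)
    rw [← map_pow] at e3
    exact ⟨(Fus.mor_ofSubgroup_iff _).2 ⟨le_rfl, fun _ hx => e3.mem hx, _, mem_sup_left hm, fun _ _ => rfl⟩, e3.mem_iff⟩
  · obtain ⟨-, -, u, c1, c2⟩ := (Fus.mor_ofSubgroup_iff _).1 a.mor
    exact h.toWN.iso_of_centric (a.of_sub h'.sub) b le_rfl _ inf_le_right hcen
      (((Fus.mem_autP inf_le_right).1 (hHK c1).1).congr fun x hx => c2 x hx.2)

/-- Let G be a finite group with Sylow p-subgroup S and C_G(O_p(G)) ≤ O_p(G). For every subgroup T ≤ S and every normal subsystem E over T of the fusion system of G on S there is exactly one normal subgroup H of G containing T as a Sylow p-subgroup whose fusion system on T is E. -/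
theorem result {G : Type*} [Group G] [Finite G] (p : ℕ) [Fact p.Prime] (S : Sylow p G) (hG : Subgroup.centralizer ((Cfsg.pCore p G : Subgroup G) : Set G) ≤ Cfsg.pCore p G) (T : Subgroup G) (hTS : T ≤ S) (E : Cfsg.FusionSystem T) (hE : E.IsNormalIn (Cfsg.groupFusionSystem (S : Subgroup G)) p) : ∃ H : Subgroup G, (∃ hTH : T ≤ H, H.Normal ∧ (∃ R : Sylow p H, (R : Subgroup H) = T.subgroupOf H) ∧ ∀ P : Subgroup G, E.Hom P = (Cfsg.fusionSystemOfSubgroup H T hTH).Hom P) ∧ ∀ H' : Subgroup G, (∃ hTH' : T ≤ H', H'.Normal ∧ (∃ R : Sylow p H', (R : Subgroup H') = T.subgroupOf H') ∧ ∀ P : Subgroup G, E.Hom P = (Cfsg.fusionSystemOfSubgroup H' T hTH').Hom P) → H' = H := by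
  obtain ⟨H, hT, hn, rfl⟩ := main hG (syl_top S) ((Fus.isNormalIn_iff S.isPGroup').1 hE)
  refine ⟨H, ⟨hT.le, hn, hT.exists_sylow', fun _ => rfl⟩, ?_⟩
  rintro H' ⟨h1, h2, ⟨R, h3⟩, h4⟩
  have h5 := syl_of_sylow_eq_subgroupOf h1 R h3
  exact le_antisymm (uniq hG h5 hT fun P => (h4 P).symm) (uniq hG hT h5 h4)

end Cfsg.Agent.S5121
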