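import Cfsg.Statements.S5122
import Cfsg.Agent.Lib.Fus2.GroupFus

set_option autoImplicit false
open Cfsg

namespace Cfsg.Agent.S5122

open Cfsg.Lib.Fus2 Cfsg.Lib.Amalg Subgroup

/-- Let G be a finite group with Sylow p-subgroup S. Every subgroup P of S has a G-conjugate Q ≤ S such that N_S(Q) is a Sylow p-subgroup of N_G(Q); and for any Q ≤ S with that property, C_S(Q) is a Sylow p-subgroup of C_G(Q) and the automorphisms of Q induced by N_S(Q) form a Sylow p-subgroup of those induced by N_G(Q). -/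
theorem result {G : Type*} [Group G] [Finite G] (p : ℕ) [Fact p.Prime] (S : Sylow p G) : (∀ P : Subgroup G, P ≤ S → ∃ g : G, P.map (MulAut.conj g).toMonoidHom ≤ S ∧ (∃ R : Sylow p ↥(Subgroup.normalizer ((P.map (MulAut.conj g).toMonoidHom : Subgroup G) : Set G)), (R : Subgroup ↥(Subgroup.normalizer ((P.map (MulAut.conj g).toMonoidHom : Subgroup G) : Set G))) = (Cfsg.FusionSystem.normalizerIn (S : Subgroup G) (P.map (MulAut.conj g).toMonoidHom)).subgroupOf (Subgroup.normalizer ((P.map (MulAut.conj g).toMonoidHom : Subgroup G) : Set G)))) ∧ ∀ Q : Subgroup G, Q ≤ S → (∃ R : Sylow p ↥(Subgroup.normalizer (Q : Set G)), (R : Subgroup ↥(Subgroup.normalizer (Q : Set G))) = (Cfsg.FusionSystem.normalizerIn (S : Subgroup G) Q).subgroupOf (Subgroup.normalizer (Q : Set G))) → (∃ R : Sylow p ↥(Subgroup.centralizer (Q : Set G)), (R : Subgroup ↥(Subgroup.centralizer (Q : Set G))) = (Cfsg.FusionSystem.centralizerIn (S : Subgroup G) Q).subgroupOf (Subgroup.centralizer (Q : Set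 G))) ∧ (∃ R : Sylow p ↥(Cfsg.autInducedBy ⊤ Q), (R : Subgroup ↥(Cfsg.autInducedBy ⊤ Q)) = (Cfsg.autInducedBy (S : Subgroup G) Q).subgroupOf (Cfsg.autInducedBy ⊤ Q)) := by
  refine ⟨fun P hP => ?_, fun Q hQ h => ?_⟩
  · have hp := S.isPGroup'.to_le hP
    obtain ⟨a, -, h1, -, h2⟩ := exists_cj_syl_normalizer (syl_top S) hp le_top hp le_top le_normalizer
    rw [top_inf_eq] at h2
    exact ⟨a, h1, (exists_sylow_eq_subgroupOf_iff inf_le_right).2 h2⟩
  · have h1 := (exists_sylow_eq_subgroupOf_iff inf_le_right).1 h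
    have h2 : Syl p ((S : Subgroup G) ⊓ normalizer (Q : Set G)) (⊤ ⊓ normalizer (Q : Set G)) := by
      rwa [top_inf_eq]
    have h3 := syl_centralizer_of_syl_normalizer h2
    rw [top_inf_eq] at h3
    exact ⟨(exists_sylow_eq_subgroupOf_iff inf_le_right).2 h3,
      (exists_sylow_eq_subgroupOf_iff (autInducedBy_mono le_top Q)).2 (syl_autInducedBy h2)⟩

end Cfsg.Agent.S5122
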