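import Cfsg.Statements.S5129
import Cfsg.Agent.Lib.Fus.Meet
-- import your own Cfsg.Agent.* helpers here

set_option autoImplicit false
open Cfsg

namespace Cfsg.Agent.S5129

open Cfsg.FusionSystem Cfsg.Lib.Fus Equiv

/-- Let F be a saturated fusion system over a finite p-group S and E₁, E₂ normal subsystems over T₁, T₂. Then there is a normal subsystem of F over T₁ ∩ T₂ that is normal in E₁ and in E₂ and contains every other such subsystem. -/
theorem result {Ω : Type*} [Group Ω] {S : Subgroup Ω} [Finite S] (p : ℕ) [Fact p.Prime] (hS : IsPGroup p S) (F : Cfsg.FusionSystem S) (hF : F.IsSaturated p) {T₁ T₂ : Subgroup Ω} (E₁ : Cfsg.FusionSystem T₁) (E₂ : Cfsg.FusionSystem T₂) (h₁ : E₁.IsNormalIn F p) (h₂ : E₂.IsNormalIn F p) : ∃ D : Cfsg.FusionSystem (T₁ ⊓ T₂), (D.IsNormalIn F p ∧ D.IsNormalIn E₁ p ∧ D.IsNormalIn E₂ p) ∧ ∀ D' : Cfsg.FusionSystem (T₁ ⊓ T₂), D'.IsNormalIn F p → D'.IsNormalIn E₁ p → D'.IsNormalIn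 E₂ p → D'.IsSubsystemOf D := by
  have h₁ := (isNormalIn_iff hS).mp h₁
  have h₂ := (isNormalIn_iff hS).mp h₂
  have := h₁.finite
  have := h₂.finite
  obtain ⟨D, d1, d2, d3, d4⟩ := exists_meet_max h₁.toWN h₂.toWN rfl
  exact ⟨D, ⟨(isNormalIn_iff hS).mpr d1, (isNormalIn_iff h₁.satE.pg).mpr d2, (isNormalIn_iff h₂.satE.pg).mpr d3⟩,
    fun D' k1 k2 k3 => d4 D' ((isNormalIn_iff hS).mp k1) ((isNormalIn_iff h₁.satE.pg).mp k2)
      ((isNormalIn_iff h₂.satE.pg).mp k3)⟩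

end Cfsg.Agent.S5129
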