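import Cfsg.Statements.S5130
import Cfsg.Agent.Lib.Fus.CProd
-- import your own Cfsg.Agent.* helpers here

set_option autoImplicit false
open Cfsg

namespace Cfsg.Agent.S5130

open Cfsg.FusionSystem Cfsg.Lib.Fus Equiv

/-- Let F be a saturated fusion system over a finite p-group S that is the direct product of two subgroups S₁ and S₂, each strongly closed in F. Let R be the full subsystem of F over S₁ (all maps of F between subgroups of S₁) and R′ the subsystem over S₁ of those maps that extend to the subgroup generated with S₂ fixing S₂ elementwise. Then R and R′ are saturated, R′ is normal in F and in R, and R is weakly normal in F. -/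
theorem result {Ω : Type*} [Group Ω] {S : Subgroup Ω} [Finite S] (p : ℕ) [Fact p.Prime] (hS : IsPGroup p S) (F : Cfsg.FusionSystem S) (hF : F.IsSaturated p) (S₁ S₂ : Subgroup Ω) (hprod : Cfsg.IsInternalDirectProduct S₁ S₂ S) (h₁ : F.StronglyClosed S₁) (h₂ : F.StronglyClosed S₂) (R R' : Cfsg.FusionSystem S₁) (hR : ∀ P : Subgroup Ω, P ≤ S₁ → R.Hom P = F.Hom P) (hR' : ∀ P : Subgroup Ω, P ≤ S₁ → R'.Hom P = F.centralizerHom S₂ P) : R.IsSaturated p ∧ R'.IsSaturated p ∧ R'.IsNormalIn F p ∧ R'.IsNormalIn R p ∧ R.IsWeaklyNormalIn F p := by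
  obtain ⟨hS₁, hS₂, hc, hi, hs⟩ := hprod
  have hF' : Sat p F := ⟨hS, hF⟩
  have : Finite S₁ := finite_of_le hS₁
  have hR1 : ∀ {P σ}, P ≤ S₁ → (Mor R P σ ↔ Mor F P σ) := fun h => mor_congr_of_hom_eq (hR _ h)
  have hR2 : ∀ {P σ}, P ≤ S₁ → (Mor R' P σ ↔ MorK F S₂ (fixP S₂) P σ) := fun {P σ} h =>
    (hom_eq_iff_of_mem_iff (fun φ hφ => by
      have : Finite P := finite_of_le h
      obtain ⟨τ, k, e⟩ := exists_perm' (D := R') ((hR' P h).ge hφ)
      exact ((mem_centralizerHom_iff φ e).mp hφ).mor.hom_mem φ e) (fun σ k => k.mor.homOn)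
      fun φ σ e => mem_centralizerHom_iff φ e).mp (hR' P h) σ
  have hsub : R.IsSubsystemOf F := isSubsystemOf_iff.mpr fun P σ h => (hR1 h.le).mp h
  have hC : S₂ ≤ centralizerIn S S₁ := fun b hb => ⟨hS₂ hb, fun a ha => hc a ha b hb⟩
  have hdec : ∀ g ∈ S, ∃ a ∈ S₁, ∃ b ∈ S₂, a * b = g := fun g hg =>
    (mem_sup_of_le_normalizer' (hC.trans (centralizerIn_le_normalizer S S₁))).mp (hs ▸ hg)
  have hcj : ∀ a ∈ S₁, ∀ b ∈ S₂, ∀ x ∈ S₁, a * b * x * (a * b)⁻¹ = a * x * a⁻¹ := fun a _ b hb x hx => by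
    rw [mul_assoc a, ← hc x hx b hb]; group
  have hinv : Inv R F := inv_of_full hsub fun P σ h => (hR1 inf_le_right).mpr (h.mono inf_le_left)
  have hsat : Sat p R := sat_of_satAt (hS.to_le hS₁) fun P hP => by
    obtain ⟨Q, σ, k1, k2, k3⟩ := hF'.exists_iso (hP.trans hS₁)
    have hQ := k1.le_of_sc h₁ hP
    refine ⟨Q, σ, ⟨(hR1 hP).mpr k1.mor, k1.mem_iff⟩, (isFullyAutomized_iff (hS.to_le hS₁)).mpr ⟨hQ, ?_⟩,
      isReceptive_iff.mpr ⟨hQ, fun P' τ hτ => ?_⟩⟩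
    · refine not_dvd_relIndex_of_le_left (fun α hα => ?_) (not_dvd_relIndex_of_le_right (autS_le_autP R hQ le_rfl |>
        fun _ => fun α (hα : α ∈ autS S Q) => Iso.mem_autP ⟨(hR1 hQ).mpr ((mem_autP k1.le').mp
          (autS_le_autP F k1.le' le_rfl hα)).mor, (autS_le_autAll S Q hα).2⟩) (autP_le_of_sub hsub hQ)
          (fa_not_dvd hS k2))
      obtain ⟨g, hg, hn, e⟩ := mem_autS.mp hα
      obtain ⟨a, ha, b, hb, rfl⟩ := hdec g hg
      exact mem_autS.mpr ⟨a, ha, (Subgroup.mul_mem_cancel_right _ (centralizerIn_le_normalizer S Q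
        (centralizerIn_anti S hQ (hC hb)))).mp hn, fun x hx => (e x hx).trans (hcj a ha b hb x (hQ hx))⟩
    · obtain ⟨ρ, k4, e⟩ := receptive_extend k3 (hτ.of_sub hsub)
      exact ⟨ρ, (hR1 (extP_le S₁ P' τ)).mpr (k4.mono fun g hg =>
        let ⟨a1, a2, k, a3, a4⟩ := mem_extP.mp hg; mem_extP.mpr ⟨hS₁ a1, a2, k, hS₁ a3, a4⟩), e⟩
  have hwn : WN p R F := ⟨hinv, hsat, hF'⟩
  obtain ⟨D, d1, d2, d3, d4⟩ := hwn.exists_nrm
  have hhat : ∀ Q, R.IsCentric Q → hat S Q = Q ⊔ S₂ := fun Q hQ => le_antisymm (sup_le le_sup_left fun c hc' => by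
    obtain ⟨a, ha, b, hb, rfl⟩ := hdec c hc'.1
    exact Subgroup.mul_mem_sup (centric_centralizerIn_le hQ ⟨ha, (Subgroup.mul_mem_cancel_right _
      (centralizerIn_anti S hQ.1 (hC hb)).2).mp hc'.2⟩) hb) (sup_le_sup_left (hC.trans (centralizerIn_anti S hQ.1)) Q)
  have hD1 : D.IsSubsystemOf R' := d1.satE.mor_of_pp le_rfl fun Q σ k1 _ _ k2 _ => by
    have k3 := hinv.tc_iff.mp (d1.tc_iff.mpr k1)
    obtain ⟨γ, a1, a2, e⟩ := d3 Q σ k3 k2
    rw [hhat Q k3] at a1 a2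
    refine (hR2 k1.1).mpr ⟨by rw [normK_fixP]; exact k1.1.trans (le_centralizerIn_comm hS₁ hC), γ, a1.mor, e,
      fun b hb => ?_⟩
    have : b⁻¹ * γ b ∈ S₁ ⊓ S₂ := ⟨k1.1 ((mem_trivMod.mp a2).2 b (Subgroup.mem_sup_right hb)),
      mul_mem (S₂.inv_mem hb) (a1.mor.mem_of_sc h₂ (Subgroup.mem_sup_right hb) hb)⟩
    rw [hi, Subgroup.mem_bot, inv_mul_eq_one] at this
    exact this.symm
  obtain ⟨G, hG⟩ := exists_centFs F hS₂
  have hGs := hF'.centralizer (sc_fc hF' h₂) hG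
  have hsc := sc_of_sub hG.sub h₁ (le_centralizerIn_comm hS₁ hC)
  obtain ⟨G', hG'⟩ := exists_subsystem G (centralizerIn S S₂) (fun P σ => Mor G P σ ∧ Mor D (P ⊓ S₁) σ) (fun h => h.1)
    (fun h => h.1.le) (fun h _ => h.1.mem) (fun h e => ⟨h.1.congr e, h.2.congr fun x hx => e x hx.1⟩)
    (fun {P g} hP hg => ⟨mor_cj G hP hg, by
      obtain ⟨a, ha, b, hb, rfl⟩ := hdec g hg.1
      exact (mor_cj D inf_le_right ha).congr fun x hx => hcj a ha b hb x hx.2⟩)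
    (fun h h' hm => ⟨h.1.comp h'.1 hm, h.2.comp h'.2 fun x hx => ⟨hm x hx.1, h.2.mem hx⟩⟩)
    fun h => ⟨h.1.inv, h.1.img_inf_sc hsc ▸ h.2.inv⟩
  have hG2 : G.IsSubsystemOf G' := hGs.mor_of_pp le_rfl fun Q σ k1 _ _ k2 k3 => (hG' Q σ).mpr ⟨k2.mor, by
    have k4 := hG.centric_sup hF' (fkn_fixP (sc_fc hF' h₂)) k1
    have k5 : Q ⊔ S₂ = Q ⊓ S₁ ⊔ S₂ := le_antisymm (sup_le (fun x hx => by
      obtain ⟨a, ha, b, hb, rfl⟩ := hdec x (k1.1 hx).1
      have hb' : b ∈ centralizerIn S S₂ := (Subgroup.mul_mem_cancel_left _ (le_centralizerIn_comm hS₁ hC ha)).mp (k1.1 hx)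
      have hbQ : b ∈ Q := centric_centralizerIn_le k1 ⟨hb', fun y hy => ((k1.1 hy).2 b hb).symm⟩
      exact Subgroup.mul_mem_sup ⟨(Q.mul_mem_cancel_right hbQ).mp hx, ha⟩ hb) le_sup_right)
      (sup_le_sup_right inf_le_left _)
    have key : ∀ Q' ρ, Iso F (Q ⊓ S₁) Q' ρ → ∃ τ, Iso F (Q ⊓ S₁ ⊔ S₂) (Q' ⊔ S₂) τ ∧ ∀ x ∈ Q ⊓ S₁, τ x = ρ x :=
      fun Q' ρ hρ => by
        obtain ⟨τ, a1, a2⟩ := hF'.exists_lift h₂ hρ.mor
        have e : ∀ x ∈ Q ⊓ S₁, τ x = ρ x := fun x hx => by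
          have : (ρ x)⁻¹ * τ x ∈ S₁ ⊓ S₂ := ⟨mul_mem (S₁.inv_mem (hρ.mor.mem_of_sc h₁ hx hx.2))
            (a1.mem_of_sc h₁ (Subgroup.mem_sup_left hx) hx.2), a2 x hx⟩
          rw [hi, Subgroup.mem_bot, inv_mul_eq_one] at this
          exact this.symm
        have a3 := a1.iso
        rw [a1.homOn.img_sup, (hρ.congr e).img_eq, (a1.iso_of_wc (wc_of_sc h₂) le_sup_right).img_eq] at a3
        exact ⟨τ, a3, e⟩
    have k6 : R.IsCentric (Q ⊓ S₁) := hinv.tc_iff.mp ⟨inf_le_right, fun Q' ρ hρ c hc' => by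
      obtain ⟨τ, a1, -⟩ := key Q' ρ hρ
      have hQ' := hρ.le_of_sc h₁ inf_le_right
      obtain ⟨a, ha, b, hb, rfl⟩ := (mem_sup_of_le_normalizer' ((hC.trans (centralizerIn_anti S hQ')).trans
        (centralizerIn_le_normalizer S Q'))).mp (centric_centralizerIn_le (a1.isCentric (k5 ▸ k4)) ⟨hS₁ hc'.1,
          (Subgroup.le_centralizer_iff.mp (sup_le (Subgroup.le_centralizer_iff.mp (Subgroup.zpowers_le.mpr hc'.2))
            fun b hb => Subgroup.le_centralizer_iff.mp (Subgroup.zpowers_le.mpr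
              (le_centralizerIn_comm hS₁ hC hc'.1).2) hb)) (Subgroup.mem_zpowers c)⟩)
      have : b ∈ S₁ ⊓ S₂ := ⟨(S₁.mul_mem_cancel_left (hQ' ha)).mp hc'.1, hb⟩
      rw [hi, Subgroup.mem_bot] at this
      rwa [this, mul_one]⟩
    have k7 : F.IsFullyCentralized (Q ⊓ S₁) := isFullyCentralized_iff.mpr ⟨inf_le_right.trans hS₁, fun Q' ρ hρ => by
      obtain ⟨τ, a1, e⟩ := key Q' ρ hρ
      have a2 : centralizerIn S Q' ≤ Q' ⊔ S₂ := hhat Q' (hinv.centric_iso k6 hρ) ▸ le_sup_right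
      exact (a1.symm.homOn.mono a2).card_le_of_mapsTo fun c hc' => (hρ.congr e).symm.img_eq ▸
        a1.symm.mor.mem_centralizerIn_img le_sup_left (a2 hc') hc'.2⟩
    obtain ⟨τ, a1, a2, a3⟩ := hG.ext_iso k2
    rw [k5, ← hhat _ k6] at a1
    have a4 := (k2.inf_sc hsc).of_sub hG.sub
    have e : ∀ x ∈ Q ⊓ S₁, τ x = σ x := fun x hx => a2 x hx.1
    refine (d4 _ τ k6 k7 a1 ?_ ⟨(hR1 inf_le_right).mpr (a4.congr e).mor, (a4.congr e).mem_iff⟩
      ((k3.anti inf_le_left).congr (fun _ => a4.mem) e)).mor.congr fun x hx => (e x hx).symm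
    have hn := (hC.trans (centralizerIn_anti S (inf_le_right : Q ⊓ S₁ ≤ S₁))).trans (centralizerIn_le_normalizer S _)
    rw [hhat _ k6] at a1 ⊢
    exact mem_trivMod_sup a1.mem_autAll hn hn (fun x hx => mul_mem (Subgroup.inv_mem _ hx) ((a4.congr e).mem hx))
      fun b hb => by rw [a3 b hb, inv_mul_cancel]; exact Subgroup.one_mem _⟩
  obtain rfl : R' = D := fs_eq_of_sub (isSubsystemOf_iff.mpr fun P σ h =>
    ((hG' P σ).mp (((hG.mor_iff P σ).mpr ((hR2 h.le).mp h)).of_sub hG2)).2.mono (le_inf le_rfl h.le)) hD1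
  exact ⟨hsat.sat, d1.satE.sat, (isNormalIn_iff hS).mpr d1, (isNormalIn_iff hsat.pg).mpr d2,
    (isWeaklyNormalIn_iff hS).mpr hwn⟩

end Cfsg.Agent.S5130
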