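import Cfsg.Statements.S5138
import Cfsg.Agent.Lib.Fus.CProd
-- import your own Cfsg.Agent.* helpers here

set_option autoImplicit false
open Cfsg

namespace Cfsg.Agent.S5138

open Cfsg.FusionSystem Cfsg.Lib.Fus Equiv

/-- Let F be a saturated fusion system over a finite p-group S and E₁, E₂ normal subsystems over T₁, T₂ with [T₁, T₂] = 1. Then there is a normal subsystem of F over T₁T₂ which, if moreover T₁ ∩ T₂ lies in the centre of E₁ and in the centre of E₂, is a central product of E₁ and E₂ (the factor system of a direct product of E₁ and E₂ modulo a subgroup of its centre meeting both factors trivially). -/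
theorem result {Ω : Type*} [Group Ω] {S : Subgroup Ω} [Finite S] (p : ℕ) [Fact p.Prime] (hS : IsPGroup p S) (F : Cfsg.FusionSystem S) (hF : F.IsSaturated p) {T₁ T₂ : Subgroup Ω} (E₁ : Cfsg.FusionSystem T₁) (E₂ : Cfsg.FusionSystem T₂) (hE₁ : E₁.IsNormalIn F p) (hE₂ : E₂.IsNormalIn F p) (hc : ⁅T₁, T₂⁆ = ⊥) : ∃ D : Cfsg.FusionSystem (T₁ ⊔ T₂), D.IsNormalIn F p ∧ (T₁ ⊓ T₂ ≤ E₁.center → T₁ ⊓ T₂ ≤ E₂.center → Cfsg.FusionSystem.IsCentralProductOf E₁ E₂ D) := by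
  have h₁ := (isNormalIn_iff hS).mp hE₁
  have h₂ := (isNormalIn_iff hS).mp hE₂
  have := h₁.finite
  have := h₂.finite
  have hc' : ∀ a ∈ T₁, ∀ b ∈ T₂, a * b = b * a := fun a ha b hb =>
    ((Subgroup.commutator_eq_bot_iff_le_centralizer.mp hc) ha b hb).symm
  by_cases h : T₁ ⊓ T₂ ≤ E₁.center ∧ T₁ ⊓ T₂ ≤ E₂.center
  · obtain ⟨D, d1, d2⟩ := exists_cp_nrm h₁ h₂ hc' (central_iff_le_center.mpr h.1) (central_iff_le_center.mpr h.2) rfl
    exact ⟨D, (isNormalIn_iff hS).mpr d2, fun _ _ => isCentralProductOf_iff.mpr d1⟩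
  obtain ⟨D₁, d₁⟩ := h₁.satE.exists_isPPrimeResidual
  obtain ⟨D₂, d₂⟩ := h₂.satE.exists_isPPrimeResidual
  have hsc := sc_inf h₁.sc h₂.sc
  obtain ⟨D, -, d2⟩ := exists_cp_nrm (h₁.toWN.nrm_of_isPPrimeResidual d₁) (h₂.toWN.nrm_of_isPPrimeResidual d₂) hc'
    (h₁.satE.central_of_isPPrimeResidual (sc_of_sub h₁.sub hsc inf_le_left)
      (fun a ha => ⟨ha, fun b hb => (hc' a ha b hb.2).symm⟩) d₁)
    (h₂.satE.central_of_isPPrimeResidual (sc_of_sub h₂.sub hsc inf_le_right)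
      (fun a ha => ⟨ha, fun b hb => hc' b hb.1 a ha⟩) d₂) rfl
  exact ⟨D, (isNormalIn_iff hS).mpr d2, fun k1 k2 => absurd ⟨k1, k2⟩ h⟩

end Cfsg.Agent.S5138
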