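import Cfsg.Statements.S5139
import Cfsg.Agent.Lib.Fus2.OpSub

set_option autoImplicit false
open Cfsg

namespace Cfsg.Agent.S5139

open Cfsg.Lib.Fus2 Cfsg.Lib.Amalg Subgroup Cfsg.FusionSystem Cfsg.Lib

/-- Let G be a finite group with Sylow p-subgroup S and O^p(G) the subgroup generated by the elements of order prime to p. Then the p-residual subsystem of the fusion system of G on S — the saturated subsystem of p-power index over the hyperfocal subgroup — is the fusion system of O^p(G) on S ∩ O^p(G): its maps are exactly the conjugation maps by elements of O^p(G) between subgroups of S ∩ O^p(G). -/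
theorem result {G : Type*} [Group G] [Finite G] (p : ℕ) [Fact p.Prime] (S : Sylow p G) (E : Cfsg.FusionSystem ((Cfsg.groupFusionSystem (S : Subgroup G)).hyperfocalSubgroup p)) (hE : (Cfsg.groupFusionSystem (S : Subgroup G)).IsPResidual p E) : ∃ h : (S : Subgroup G) ⊓ Cfsg.pResidual p G ≤ Cfsg.pResidual p G, ∀ P : Subgroup G, E.Hom P = (Cfsg.fusionSystemOfSubgroup (Cfsg.pResidual p G) ((S : Subgroup G) ⊓ Cfsg.pResidual p G) h).Hom P := by
  refine ⟨inf_le_right, fun P => hom_eq_iff.2 fun f => ?_⟩
  have hS := syl_top S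
  have e := hyp_group hS
  have : (pResidual p G).Normal := Transfer.resOf_top (p := p) (G := G) ▸ Transfer.resOf_normal ⊤
  have hT := hS.inf_normal_top (pResidual p G)
  refine ⟨fun h => h.of_sub (sub_of_cop ⟨hT.isPGroup.to_le e.le, hE.1⟩ e.le fun P f h1 h2 h3 => ?_),
    fun h => h.of_sub (sub_of_index ⟨hT.isPGroup, isSaturated_subgroup hT⟩ ?_ hE.2 e.ge)⟩
  · have h4 := h1.of_sub hE.2.1
    refine (resOf_le_autGroup_iff h4.le (h1.le.trans e.le)).1 ?_ f h4 h2 h3
    rw [autGroup_group h4.le, autGroup_subgroup (h1.le.trans e.le), resOf_autInducedBy]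
    exact autInducedBy_mono ((Transfer.resOf_mono le_top).trans Transfer.resOf_top.le) P
  · rw [group_eq_subgroup_top]; exact isSubsystemOf_subgroup inf_le_left le_top

end Cfsg.Agent.S5139
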