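import Cfsg.Statements.S5143
import Cfsg.Agent.Lib.Fus.Bal
-- import your own Cfsg.Agent.* helpers here

set_option autoImplicit false
open Cfsg

namespace Cfsg.Agent.S5143

open Cfsg.FusionSystem Cfsg.Lib.Fus Equiv

/-- Let F be a saturated fusion system over a finite p-group S, E a normal subsystem over T, and R a subgroup with T ≤ R ≤ S. Then there is exactly one saturated subsystem D of F over R (exactly one family of map sets) whose p-residual subsystem is that of E: the hyperfocal subgroups of D and E coincide and the p-residual subsystems of D and of E have the same maps. -/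
theorem result {Ω : Type*} [Group Ω] {S : Subgroup Ω} [Finite S] (p : ℕ) [Fact p.Prime] (hS : IsPGroup p S) (F : Cfsg.FusionSystem S) (hF : F.IsSaturated p) {T : Subgroup Ω} (E : Cfsg.FusionSystem T) (hE : E.IsNormalIn F p) (R : Subgroup Ω) (hTR : T ≤ R) (hRS : R ≤ S) : ∃ D : Cfsg.FusionSystem R, (D.IsSaturated p ∧ D.IsSubsystemOf F ∧ D.hyperfocalSubgroup p = E.hyperfocalSubgroup p ∧ ∀ (D₁ : Cfsg.FusionSystem (D.hyperfocalSubgroup p)) (E₁ : Cfsg.FusionSystem (E.hyperfocalSubgroup p)), D.IsPResidual p D₁ → E.IsPResidual p E₁ → ∀ P : Subgroup Ω, D₁.Hom P = E₁.Hom P) ∧ ∀ D' : Cfsg.FusionSystem R, D'.IsSaturated p → D'.IsSubsystemOf F → D'.hyperfocalSubgroup p = E.hyperfocalSubgroup p → (∀ (D₁ : Cfsg.FusionSystem (D'.hyperfocalSubgroup p)) (E₁ : Cfsg.FusionSystem (E.hyperfocalSubgroup p)), D'.IsPResidual p D₁ → E.IsPResidual p E₁ → ∀ P : Subgroup Ω, D₁.Hom P = E₁.Hom P) → ∀ P : Subgroup Ω, D'.Hom P = D.Hom P := by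
  have h := (isNormalIn_iff hS).mp hE
  have := h.finite
  have : Finite R := finite_of_le hRS
  have hF' := h.satF
  obtain ⟨E₁, e1, e2⟩ := h.satE.exists_op
  have := e2.finite
  have e3 := h.nrm_of_pIdx e1 (h.sc_of_invariant e2.sc fun α hα x hx => ((h.tr hα).hyp (p := p)).ge (apply_mem_img α hx))
  obtain ⟨G, g1, g2, g3, g4, g5⟩ := e3.exists_es
  have hR := (hyp_le E p).trans hTR
  obtain ⟨D, d1⟩ := g1.exists_pIdx hRS (g3.hyp.trans hR)
  have d2 : D.hyperfocalSubgroup p = E.hyperfocalSubgroup p := by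
    rw [d1.hyp_eq g1, ← g3.hyp_eq g1, e1.hyp_eq h.satE]
  have d3 : PIdx p E₁ D := g3.of_sub (d1.sub_of e1.sat g3.sub hR) d1.sub
  have key : ∀ {U : Subgroup Ω} (D₁ : FusionSystem U), U = E.hyperfocalSubgroup p → PIdx p D₁ D → ∀ P,
      D₁.Hom P = E₁.Hom P := by
    rintro _ D₁ rfl k P; rw [k.eq d3]
  refine ⟨D, ⟨d1.sat.sat, isSubsystemOf_trans d1.sub g2, d2, fun D₁ E₂ k1 k2 P => ?_⟩, fun D' k1 k2 k3 k4 P => ?_⟩
  · rw [((isPResidual_iff h.satE.pg).mp k2).eq e1]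
    exact key D₁ d2 ((isPResidual_iff d1.sat.pg).mp k1) P
  have hD' : Sat p D' := ⟨d1.sat.pg, k1⟩
  obtain ⟨D₁, a1, -⟩ := hD'.exists_op
  have a2 := k4 D₁ E₁ ((isPResidual_iff hD'.pg).mpr a1) ((isPResidual_iff h.satE.pg).mpr e1)
  have a3 : PIdx p E₁ D' := by
    revert D₁
    rw [k3]
    intro D₁ a1 a2
    rwa [← fs_ext a2]
  have hn := hRS.trans (sc_le_normalizer e3.sc)
  have a4 := a3.nrm hD' hn
  have a5 : D'.IsSubsystemOf D := d1.sub_of hD' (hD'.mor_of_pp hRS fun Q σ b1 b2 _ b3 b4 => g4 _ _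
    (ep_plus (b1.1.trans hRS) (a4.centric_inf_of_radical hD' b1 b2) ⟨⟨(b3.of_sub k2).mem_autP, b3.mem_autAll,
      fun x hx => a3.hyp (b3.inv_mul_mem_hyp' b4 hx)⟩,
      (a3.pp inf_le_right (b3.inf_sc a4.sc) (b4.anti inf_le_left)).mem_autP⟩ b4)) le_rfl
  rw [fs_eq_of_sub a5 ((d3.nrm d1.sat hn).sub_of_hyp_le d1.sat hD' a3.sub a5 d3)]

end Cfsg.Agent.S5143
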