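import Cfsg.Statements.S5148
import Cfsg.Agent.Lib.Fus.Misc
-- import your own Cfsg.Agent.* helpers here

set_option autoImplicit false
open Cfsg

namespace Cfsg.Agent.S5148

open Cfsg.FusionSystem Cfsg.Lib.Fus Equiv

/-- A quasisimple fusion system over a finite p-group S (saturated, equal to its p-residual subsystem, with simple — in particular nontrivial — factor system modulo its centre) has S nonabelian. -/
theorem result {Ω : Type*} [Group Ω] {S : Subgroup Ω} [Finite S] (p : ℕ) [Fact p.Prime] (hS : IsPGroup p S) (F : Cfsg.FusionSystem S) (hq : F.Quasisimple p) : ¬ IsMulCommutative S := by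
  intro hab
  obtain ⟨hF, hh, hs⟩ := hq
  have hsat : Sat p F := ⟨hS, hF⟩
  obtain ⟨E, hE⟩ := exists_fac F (QuotientGroup.mk' (F.center.subgroupOf S)) (imageAlong_mk' _)
  have hk := kerA_mk' F.center (center_le F)
  obtain ⟨-, h1, h2⟩ := hs E (isFactorSystem_iff.mpr ⟨hk, hE⟩)
  have := hE.finite
  have hc : S ≤ Subgroup.centralizer (S : Set Ω) := Subgroup.le_centralizer S
  have h3 := hE.normal_image (hsat.normal_of_sc_of_comm (sc_top F) hc)
  rw [hE.range] at h3
  obtain ⟨-, h4⟩ := (h2 _ _ ((isNormalIn_iff (hE.pg hS)).mpr ((hE.sat hsat).nrm_inner h3))).resolve_left h1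
  refine h1 ?_
  rw [← hE.range, imageAlong_eq_bot_iff le_rfl]
  refine hh.ge.trans ((hyp_le_focal F p).trans (focal_le_iff.mpr fun P σ hσ x hx => ?_))
  obtain ⟨σ', h5, h6⟩ := hE.exists_ind_of_sc hsat (hk.symm ▸ sc_of_normal (normal_of_central (central_center F))) hσ
  obtain ⟨-, g, hg, e⟩ := mor_inner_iff.mp ((mor_congr_of_hom_eq (h4 _)).mpr h5)
  obtain ⟨s, hs, rfl⟩ := hE.exists_ex hg
  rw [← ex_eq_iff (hσ.le hx) (hσ.mem hx), ← h6 x hx, e _ (ex_mem_imageAlong _ hx), ← ex_conj _ hs (hσ.le hx),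
    conj_eq_of_mem_centralizer (hc hs) (hσ.le hx)]

end Cfsg.Agent.S5148
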