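import Cfsg.Statements.S5152
import Cfsg.Agent.Lib.Fus.Loc
-- import your own Cfsg.Agent.* helpers here

set_option autoImplicit false
open Cfsg

namespace Cfsg.Agent.S5152

open Cfsg.FusionSystem Cfsg.Lib.Fus Equiv

/-- Dichotomy for saturated fusion systems: a saturated fusion system over a finite p-group is of characteristic p-type (the normalizer system of every nontrivial fully normalized subgroup is constrained) or of component type (the centralizer system of some fully normalized subgroup of order p has a component). -/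
theorem result {Ω : Type*} [Group Ω] {S : Subgroup Ω} [Finite S] (p : ℕ) [Fact p.Prime] (hS : IsPGroup p S) (F : Cfsg.FusionSystem S) (hF : F.IsSaturated p) : F.IsOfCharacteristicPType p ∨ F.IsOfComponentType p := by
  have hF' : Sat p F := ⟨hS, hF⟩
  refine or_iff_not_imp_right.mpr fun h U hU hUn N hN => ?_
  have hN' := isNormalizerSystem_iff.mp hN
  have hNs := hF'.normalizer hUn hN'
  refine hNs.constrained_iff.mpr fun V C c => h ?_
  obtain ⟨X, x1, x2, x3⟩ := exists_central_order_p hNs.pg (le_normalizerIn hUn.1) inf_le_right hU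
  obtain ⟨X', ψ, k1, k2, k3⟩ := hF'.exists_fn (x1.trans hUn.1)
  have k4 : normalizerIn S U ≤ normalizerIn S X := le_inf inf_le_left (x3.trans (Subgroup.centralizer_le_normalizer _))
  have k5 : U ≤ normalizerIn S X := (le_normalizerIn hUn.1).trans k4
  have k6 := k1.iso_of_le k5
  have k7 := (centralizerIn_le_normalizerIn S U).trans k4
  have k8 := k1.iso_centralizerIn k5 k7 (hF'.fc_of_fn hUn) k6
  have k9 := k1.fc_img k5 k7 (hF'.fc_of_fn hUn) k6
  obtain ⟨G, hG⟩ := exists_centFs F hUn.1
  obtain ⟨G', hG'⟩ := exists_centFs F k6.le'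
  obtain ⟨H, hH⟩ := exists_centFs F k3.1
  have t := hG.tr (E' := G') (by rwa [show cjS ψ (fixP U) = _ from map_fixP k6.mem_iff]) (k1.mono (sup_le k7 k5)) k6 k8.img_eq.symm
  have c1 := hN'.comp_centralizer hNs (le_normalizerIn hUn.1) hG c
  have := c1.finite
  obtain ⟨C', t'⟩ := exists_tr C (t.hom.mono c1.le) rfl
  have c2 := t'.comp_of t c1
  have hHs := hF'.centralizer (hF'.fc_of_fn k3) hH
  have l1 : X' ≤ img ψ U := k2.img_eq ▸ img_mono ψ x1
  have l2 : img ψ U ≤ centralizerIn S X' := img_le_iff.mpr fun u hu => k2.img_eq ▸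
    k1.mem_centralizerIn_img (le_normalizerIn k2.le) (k5 hu) (x3 (le_normalizerIn hUn.1 hu))
  have l3 : ∀ Q, X' ≤ Q → centralizerIn (centralizerIn S X') Q = centralizerIn S Q := fun Q hQ =>
    le_antisymm (inf_le_inf_right _ inf_le_left) (le_inf (centralizerIn_anti S hQ) inf_le_right)
  have l4 : H.IsFullyCentralized (img ψ U) := isFullyCentralized_iff.mpr ⟨l2, fun Q σ a => by
    obtain ⟨τ, -, e, a2⟩ := hH.ext a.mor
    rw [l3 _ l1, l3 Q fun x hx => ((e x (l1 hx)).symm.trans (a2 x hx)) ▸ a.mem (l1 hx)]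
    exact (isFullyCentralized_iff.mp k9).2 Q σ (a.of_sub hH.sub)⟩
  refine ⟨X', k2.card_eq.symm.trans x2, k3, H, isCentralizerSystem_iff.mpr hH, ?_⟩
  obtain ⟨T, D, d⟩ := hHs.exists_comp fun hc => c2.not_constrained (hS.to_le inf_le_left)
    ((hH.centralizer_of_le hG' l1 l2).constrained_centralizer hHs hc l4)
  exact ⟨T, D, (isComponentIn_iff hHs.pg).mpr d⟩

end Cfsg.Agent.S5152
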