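import Cfsg.Statements.S5154
import Cfsg.Agent.Lib.Fus.Comp
-- import your own Cfsg.Agent.* helpers here

set_option autoImplicit false
open Cfsg

namespace Cfsg.Agent.S5154

open Cfsg.FusionSystem Cfsg.Lib.Fus Equiv

/-- Let F be a saturated fusion system over a finite p-group S, C a component of F over T, and γ a map of F with source T. Then the image of C under γ — the fusion system over γ(T) whose maps are the homomorphisms induced along γ by the maps of C — is again a component of F. -/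
theorem result {Ω : Type*} [Group Ω] {S : Subgroup Ω} [Finite S] (p : ℕ) [Fact p.Prime] (hS : IsPGroup p S) (F : Cfsg.FusionSystem S) (hF : F.IsSaturated p) {T : Subgroup Ω} (C : Cfsg.FusionSystem T) (hC : C.IsComponentIn F p) (γ : T →* Ω) (hγ : γ ∈ F.Hom T) (E : Cfsg.FusionSystem γ.range) (hE : C.IsFactorSystem ⊥ γ E) : E.IsComponentIn F p := by
  have k := (isComponentIn_iff hS).mp hC
  have := k.finite
  obtain ⟨α, k1, e⟩ := exists_perm hγ
  obtain ⟨k2, k3⟩ := isFactorSystem_iff.mp hE
  have e1 : ∀ x ∈ T, ex γ x = α x := fun x hx => (ex_apply γ hx).trans (e _)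
  have e2 : ∀ P, P ≤ T → imageAlong γ P = img α P := fun P hP => by
    ext y
    rw [mem_imageAlong_of_le hP, (k1.homOn.mono hP).mem_img]
    exact exists_congr fun x => and_congr_right fun hx => by rw [e1 x (hP hx)]
  obtain ⟨E', t⟩ := exists_tr (T' := γ.range) C k1.homOn (range_eq_img γ e)
  have := t.finite
  have k4 : Fac C γ E' := by
    refine ⟨k3.range, fun P' σ' => ⟨fun a => ⟨a.le, _, (t.mor' a).mono
      fun x hx => ?_, fun x hx => ?_⟩, fun ⟨a1, σ, a2, a3⟩ => ?_⟩⟩
    · obtain ⟨a1, a2⟩ := mem_preimageAlong.mp hx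
      exact perm_inv_apply_self α x ▸ apply_mem_img α⁻¹ (e1 x a1 ▸ a2)
    · obtain ⟨a1, a2⟩ := mem_preimageAlong.mp hx
      have a3 : x ∈ img α⁻¹ P' := perm_inv_apply_self α x ▸ apply_mem_img α⁻¹ (e1 x a1 ▸ a2)
      rw [e1 _ ((t.mor' a).mem a3), e1 x a1]
      simp
    · have a4 := t.mor a2
      rw [← e2 _ a2.le, k3.image_preimage a1] at a4
      refine a4.congr fun y hy => ?_
      obtain ⟨x, hx, rfl⟩ := k3.exists_ex (a1 hy)
      have a5 := mem_preimageAlong.mpr ⟨hx, hy⟩
      rw [a3 x a5, e1 _ (a2.mem a5), e1 x hx]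
      simp
  obtain rfl : E = E' := fs_ext_mor fun P' σ' => k3.mor_congr k4
  exact (isComponentIn_iff hS).mpr (k.tr ⟨hS, hF⟩ k1 t)

end Cfsg.Agent.S5154
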