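import Cfsg.Statements.S5159
import Cfsg.Agent.Lib.Fus.Misc
-- import your own Cfsg.Agent.* helpers here

set_option autoImplicit false
open Cfsg

namespace Cfsg.Agent.S5159

open Cfsg.FusionSystem Cfsg.Lib.Fus Equiv

/-- Let F be a saturated fusion system over a finite p-group S, E a normal subsystem over T, and D the factor system of F modulo T (read through any homomorphism on S with kernel T). Then F is solvable if and only if E and D are solvable (solvable, for a system over a subgroup S: for every subgroup R other than S that is strongly closed in F, the factor system of F modulo R has a nontrivial subgroup normal in it). -/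
theorem result {Ω : Type*} [Group Ω] {S : Subgroup Ω} [Finite S] (p : ℕ) [Fact p.Prime] (hS : IsPGroup p S) (F : Cfsg.FusionSystem S) (hF : F.IsSaturated p) {T : Subgroup Ω} (E : Cfsg.FusionSystem T) (hE : E.IsNormalIn F p) {Ω' : Type*} [Group Ω'] {S' : Subgroup Ω'} (θ : S →* Ω') (D : Cfsg.FusionSystem S') (hD : F.IsFactorSystem T θ D) : F.IsSolvableSystem ↔ (E.IsSolvableSystem ∧ D.IsSolvableSystem) := by
  replace hE := (isNormalIn_iff hS).mp hE
  obtain ⟨hk, hD⟩ := isFactorSystem_iff.mp hD
  have := hE.finite
  have := hD.finite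
  have hsat := hE.satF
  refine ⟨fun h => ?_, fun h => hsat.isSolvableSystem_iff_down.mpr (SolvDown.of_inv_of_fac hsat hE.toInv hD hk
    (hE.satE.isSolvableSystem_iff_down.mp h.1) ((hD.sat hsat).isSolvableSystem_iff_down.mp h.2))⟩
  rw [hsat.isSolvableSystem_iff] at h
  exact ⟨hE.satE.isSolvableSystem_iff_down.mpr (h.down_of_sub hE.sub),
    (hD.sat hsat).isSolvableSystem_iff.mpr (h.fac hsat hD (hk ▸ hE.sc))⟩

end Cfsg.Agent.S5159
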