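import Cfsg.Statements.S5160
import Cfsg.Agent.Lib.Fus.Simple
-- import your own Cfsg.Agent.* helpers here

set_option autoImplicit false
open Cfsg

namespace Cfsg.Agent.S5160

open Cfsg.FusionSystem Cfsg.Lib.Fus Equiv

/-- Let G be a finite group with nontrivial Sylow p-subgroup S and F its fusion system on S. Suppose (a) no nontrivial proper subgroup of S is strongly closed in F, and (b) the automorphisms of S induced by G are generated by those induced, for R running over the fully normalized radical centric subgroups of F, by the subgroup of N_G(R) generated by its elements of p-power order. Then F is simple. -/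
theorem result {G : Type*} [Group G] [Finite G] (p : ℕ) [Fact p.Prime] (S : Sylow p G) (hS1 : (S : Subgroup G) ≠ ⊥) (ha : ∀ T : Subgroup G, (Cfsg.groupFusionSystem (S : Subgroup G)).StronglyClosed T → T = ⊥ ∨ T = (S : Subgroup G)) (hb : Cfsg.autInducedBy ⊤ (S : Subgroup G) = ⨆ (R : Subgroup G) (_ : (Cfsg.groupFusionSystem (S : Subgroup G)).IsFullyNormalized R ∧ (Cfsg.groupFusionSystem (S : Subgroup G)).IsRadical p R ∧ (Cfsg.groupFusionSystem (S : Subgroup G)).IsCentric R), Cfsg.autInducedBy (Subgroup.closure {g : G | g ∈ Subgroup.normalizer (R : Set G) ∧ ∃ k : ℕ, orderOf g = p ^ k}) (S : Subgroup G)) : (Cfsg.groupFusionSystem (S : Subgroup G)).IsSimple p := by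
  refine (sat_group S).simple_of hS1 ha fun E hE α hα => ?_
  have h1 : autInducedBy ⊤ (S : Subgroup G) ≤ E.autGroup S := by
    rw [hb]
    refine iSup₂_le fun R hR β hβ => ?_
    obtain ⟨g, hg, e⟩ := mem_autInducedBy.mp hβ
    refine (mem_autGroup_iff_of_eq (σ := cj g) le_rfl e).mpr (Mor.iso_top ?_)
    refine hE.mor_cj_of_closure hR.2.2 (Subgroup.closure_mono (fun g hg => ?_) hg) hR.1.1 le_rfl fun x hx => ?_
    · obtain ⟨h1, k, hk⟩ := hg
      exact ⟨h1, k, by rw [← hk, pow_orderOf_eq_one]⟩
    · rw [← e ⟨x, hx⟩]; exact (β ⟨x, hx⟩).2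
  obtain ⟨β, -, e⟩ := hα.exists_aut
  obtain ⟨-, -, g, hg⟩ := mor_group_iff.mp hα.mor
  exact ((mem_autGroup_iff_of_eq le_rfl e).mp (h1 (mem_autInducedBy.mpr ⟨g, Subgroup.mem_top g, fun x => by
    rw [e x, hg x x.2]⟩))).mor

end Cfsg.Agent.S5160
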