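import Cfsg.Statements.S5164
import Cfsg.Agent.Lib.Fus.AltW
import Cfsg.Agent.Lib.Linear.Simple
-- import your own Cfsg.Agent.* helpers here

set_option autoImplicit false
open Cfsg

namespace Cfsg.Agent.S5164

open Cfsg.FusionSystem Cfsg.Lib.Fus Equiv

open Equiv.Perm Subgroup Cfsg.Lib.Amalg in
theorem aux {ι ρ : Type} [Fintype ι] [DecidableEq ι] [Fintype ρ] [DecidableEq ρ] {p : ℕ} [hp : Fact p.Prime]
    (hι : 3 ≤ Fintype.card ι) {Q : Subgroup (Perm ι)} (hQ : IsPGroup p Q)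
    (h : ∀ x ∈ bwr ρ p Q ⊓ alternatingGroup _, ∀ y ∈ bwr ρ p Q ⊓ alternatingGroup _, x * y = y * x) : Q = ⊥ := by
  refine eq_bot_iff.mpr fun σ hσ => mem_bot.mpr (Equiv.ext fun i => by_contra fun hi => ?_)
  obtain ⟨k, k1, k2⟩ := Cfsg.Lib.Linear.exists_third_index hι i (σ i)
  obtain ⟨m, hm⟩ := isPGroup_iff_mem.mp hQ σ hσ
  have h1 : baff ρ 1 1 (Pi.single k 1) = baff ρ (swap i k) 1 0 * baff ρ 1 1 (Pi.single i (1 : ZMod p)) *
      (baff ρ (swap i k) 1 0)⁻¹ := by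
    rw [baff_conj_btr]
    exact congrArg _ (funext fun k => by simp [Pi.single_apply, swap_apply_eq_iff])
  have := congrArg (· (Sum.inl (i, 0))) (h (bphi ρ p σ) ⟨baff_mem_bwr hσ 0, by
    rcases eq_or_ne p 2 with rfl | h2
    · rw [SetLike.mem_coe, mem_toSubmonoid, mem_alternatingGroup, sign_bphi, Int.units_sq]
    · exact mem_alt_of_pow h2 (k := m) (by rw [← map_pow, hm, map_one])⟩
    (baff ρ 1 1 (Pi.single i 1 - Pi.single k 1)) ⟨baff_mem_bwr (one_mem Q) _, by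
      rw [SetLike.mem_coe, mem_toSubmonoid, mem_alternatingGroup, btr_sub, h1, map_mul, map_inv, map_mul, map_mul,
        map_inv, mul_inv_cancel_comm, mul_inv_cancel]⟩)
  simp [bphi_apply, k1.symm, k2.symm, show σ i ≠ i from hi] at this

/-- For n ≥ 6 and a prime p, a nontrivial Sylow p-subgroup of the alternating group of degree n is abelian if and only if n < p². -/
theorem result (n p : ℕ) (hn : 6 ≤ n) [Fact p.Prime] (S : Sylow p (alternatingGroup (Fin n))) (hS : (S : Subgroup (alternatingGroup (Fin n))) ≠ ⊥) : IsMulCommutative S ↔ n < p ^ 2 := by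
  obtain ⟨Q, hQ⟩ := Cfsg.Lib.Amalg.exists_syl p (⊤ : Subgroup (Perm (Fin (n / p))))
  have hp : p.Prime := Fact.out
  have h3 := (syl_bwr (ρ := Fin (n % p)) (by simpa using Nat.mod_lt n hp.pos) hQ).inf_normal_top (alternatingGroup _)
  let e : BPt (Fin (n / p)) (Fin (n % p)) p ≃ Fin n := Fintype.equivOfCardEq (by simp [ZMod.card, Nat.div_add_mod'])
  obtain ⟨f⟩ : Nonempty (S ≃* (bwr (Fin (n % p)) p Q ⊓ alternatingGroup _ : Subgroup _)) :=
    ⟨(Sylow.equiv S (h3.toSylow.mapSurjective (f := e.altCongrHom.toMonoidHom) e.altCongrHom.surjective)).trans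
      ((e.altCongrHom.subgroupMap _).symm.trans (Subgroup.subgroupOfEquivOfLe h3.le))⟩
  have h4 : Q = ⊥ ↔ n < p ^ 2 := by
    rw [hQ.eq_bot_iff, Subgroup.card_top, Nat.card_perm, hp.dvd_factorial, Nat.card_eq_fintype_card, Fintype.card_fin,
      Nat.le_div_iff_mul_le hp.pos, not_le, sq]
  refine ⟨fun h => by_contra fun h5 => h5 (h4.mp (aux (ρ := Fin (n % p)) ?_ hQ.isPGroup fun x hx y hy => ?_)),
    fun h => ⟨⟨fun x y => f.injective (Subtype.ext ?_)⟩⟩⟩
  · have h1 : p ≤ n / p := (Nat.le_div_iff_mul_le hp.pos).mpr (by rw [← sq]; omega)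
    rw [Fintype.card_fin]
    rcases hp.two_le.eq_or_lt with h | h
    · subst h; omega
    · omega
  · simpa using congrArg (fun z => (f z).1) (h.is_comm.comm (f.symm ⟨x, hx⟩) (f.symm ⟨y, hy⟩))
  · obtain rfl := h4.mpr h
    obtain ⟨μ, h1⟩ := mem_bwr_bot.mp (f x).2.1
    obtain ⟨ν, h2⟩ := mem_bwr_bot.mp (f y).2.1
    rw [map_mul, map_mul, Subgroup.coe_mul, Subgroup.coe_mul, h1, h2, ← btr_add, ← btr_add, add_comm]

end Cfsg.Agent.S5164
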