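import Cfsg.Statements.S5166
import Cfsg.Agent.Lib.Fus3.PermCert

set_option autoImplicit false
open Cfsg

namespace Cfsg.Agent.S5166

open Cfsg.Lib.Golay
set_option maxRecDepth 100000

/-- The 2-fusion system of the Mathieu group M₁₁ (as the explicit permutation group carved out of the automorphism group of the binary Golay code) on a Sylow 2-subgroup is simple: saturated, over a nontrivial 2-group, with no normal subsystem other than the trivial one and itself. -/
theorem result (S : Sylow 2 Cfsg.Spor.M11) : (Cfsg.groupFusionSystem (S : Subgroup Cfsg.Spor.M11)).IsSimple 2 := by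
  exact simple_of_cert (c := gc) S
    (T := [(0xb16150e0f0c070313140912170a0d081104050610020100, 0xb16150e0f0c070313140912170a0d081104050610020100, 268296),
      (0x150f0711160205120a1708100e13030c14040b060d090100, 0x150f0711160205120a1708100e13030c14040b060d090100, 132098)])
    (inH_M11 (by decide +kernel))
    (k := 3) (m := 495)
    (Coding.card_gen (valid_of_allL (by decide +kernel)) (M := 31) (d := 5) (a := 1) (by decide +kernel))
    card_M11 (by norm_num) [[1]]
    [[0], [1], [0, 1]]
    (us := [0x150f0711160205120a1708100e13030c14040b060d090100])
    (R := [0xb16150e0f0c070313140912170a0d081104050610020100,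
      0x150f0711160205120a1708100e13030c14040b060d090100,
      0x151311071602050c0a0b0803140f10120e061704090d0100])
    (by decide +kernel) (by decide +kernel) (z := 0x1116050e130d17030f141209070a0c020b06150410080100)
    (Coding.valid_of_isPerm (by decide +kernel)) (by decide +kernel)
    (fin := [[3, 1], [3, 1, 0]])
    (steps := [(0x1513161107030e0d0b170810050f020614090a0c12040100, [0], [0, 1, 1]),
      (0xb0f0507140211040a150801161310090e0d170c12060300, [0], [1, 0, 1]),
      (0x5130e070f0c15020a0b09031716100d1106140108120400, [0, 1], [0, 1])])
    (inH_M11 (by decide +kernel))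
    (by decide +kernel)

end Cfsg.Agent.S5166
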