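import Cfsg.Statements.S5167
import Cfsg.Agent.Lib.Fus3.PermCert

set_option autoImplicit false
open Cfsg

namespace Cfsg.Agent.S5167

open Cfsg.Lib.Golay
set_option maxRecDepth 100000

/-- The 2-fusion system of the Mathieu group M₁₂ (as the explicit permutation group carved out of the automorphism group of the binary Golay code) on a Sylow 2-subgroup is simple: saturated, over a nontrivial 2-group, with no normal subsystem other than the trivial one and itself. -/
theorem result (S : Sylow 2 Cfsg.Spor.M12) : (Cfsg.groupFusionSystem (S : Subgroup Cfsg.Spor.M12)).IsSimple 2 := by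
  exact simple_of_cert (c := gc) S
    (T := [(0x716150f13120a10140508040b11030d17020e0c09060100, 0x716150f13120a10140508040b11030d17020e0c09060100, 268296),
      (0x140e0b17051211060f160803150a090d071013040c000102, 0x140e0b17051211060f160803150a090d071013040c000102, 6152),
      (0x110e140a050407100b130301170f0d0c1502160812060900, 0xa131711160407020b0e0c12140f0d031510050801000906, 132098)])
    (inH_M12 (by decide +kernel))
    (k := 5) (m := 1485)
    (Coding.card_gen (valid_of_allL (by decide +kernel)) (M := 61) (d := 6) (a := 2) (by decide +kernel))
    card_M12 (by norm_num) [[2], [2, 1]]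
    [[1], [0], [2], [2, 1], [1, 0], [2, 0], [0, 2, 1]]
    (us := [0x110e140a050407100b130301170f0d0c1502160812060900,
      0xa131711160407020b0e0c12140f0d031510050801000906])
    (R := [0x140e0b17051211060f160803150a090d071013040c000102,
      0x716150f13120a10140508040b11030d17020e0c09060100,
      0x110e140a050407100b130301170f0d0c1502160812060900,
      0xa131711160407020b0e0c12140f0d031510050801000906,
      0x70e0b0f05120a0617130d0415110c081400160309100102,
      0x150e140b05040f100a160c0817071203110613010d020900,
      0x1113070a160c17060b0504120f14080915100e0d01000302])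
    (by decide +kernel) (by decide +kernel) (z := 0x14160b1713010a10070e08031511040d0f0605090c021200)
    (Coding.valid_of_isPerm (by decide +kernel)) (by decide +kernel)
    (fin := [[2, 0, 1, 2, 0], [1, 2, 1], [2, 1, 0, 2]])
    (steps := [(0x140711170b021304160f03010a0e060c050915001208100d, [0], [2, 0, 2, 1, 0]),
      (0xf05140711000a12170b040113150602160c0e090d081003, [0], [2, 1, 2, 1, 0]),
      (0x131115050a0d17010e0f0c000b1406031604071002090812, [1, 0], [2, 2, 0, 2])])
    (inH_M12 (by decide +kernel))
    (by decide +kernel)

end Cfsg.Agent.S5167
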