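import Cfsg.Statements.S5169
import Cfsg.Agent.Lib.Fus3.PermCert

set_option autoImplicit false
open Cfsg

namespace Cfsg.Agent.S5169

open Cfsg.Lib.Golay
set_option maxRecDepth 100000

/-- The 2-fusion system of the Mathieu group M₂₃ (as the explicit permutation group carved out of the automorphism group of the binary Golay code) on a Sylow 2-subgroup is simple: saturated, over a nontrivial 2-group, with no normal subsystem other than the trivial one and itself. -/
theorem result (S : Sylow 2 Cfsg.Spor.M23) : (Cfsg.groupFusionSystem (S : Subgroup Cfsg.Spor.M23)).IsSimple 2 := by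
  exact simple_of_cert (c := gc) S
    (T := [(0x171209060a16110c070e0b100d1315040f14050803020100, 0x171209060a16110c070e0b100d1315040f14050803020100, 530440),
      (0x1716070b0614030d0c1110090a12080f13150e0405010200, 0x1716070b0614030d0c1110090a12080f13150e0405010200, 133124),
      (0x1716060f070c0e1014110d1208090a0b1315030405020100, 0x17161308150f050d120e100a090c0b140706110403010200, 268296)])
    (inH_inf_pt (inH_of_allL (by decide +kernel)) 23 (by decide) (by decide +kernel))
    (k := 6) (m := 79695)
    (Coding.card_gen (valid_of_allL (by decide +kernel)) (M := 127) (d := 7) (a := 3) (by decide +kernel))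
    card_M23 (by norm_num) [[1], [0, 2], [1, 0]]
    [[1], [2], [0], [0, 2], [2, 1], [1, 0], [0, 1, 2]]
    (us := [0x1716070b0614030d0c1110090a12080f13150e0405010200,
      0x171214070f100e0c06110b160415130d0a09030805020100,
      0x171408151216030913110a0d100607040c0b0e0f05010200])
    (R := [0x1716070b0614030d0c1110090a12080f13150e0405010200,
      0x1716060f070c0e1014110d1208090a0b1315030405020100,
      0x171209060a16110c070e0b100d1315040f14050803020100,
      0x171214070f100e0c06110b160415130d0a09030805020100,
      0x17161308150f050d120e100a090c0b140706110403010200,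
      0x171408151216030913110a0d100607040c0b0e0f05010200,
      0x171209100a15110b0d030c0607041613140f05080e010200])
    (by decide +kernel) (by decide +kernel) (z := 0x1704130f1508110d140e100b0c090a120607051603020100)
    (Coding.valid_of_isPerm (by decide +kernel)) (by decide +kernel)
    (fin := [[0, 1, 0], [2, 0], [3, 0, 2, 0]])
    (steps := [(0x171009070f15081413010a1103050e0616040c0d02120b00, [0], [0, 2, 1, 1, 0]),
      (0x170a0f1209050814070b0d0111150c00161006041302030e, [0], [1, 2, 0, 1, 2]),
      (0x1713040a160c110312070e08090b140f02010515060d1000, [2], [0, 2, 1, 1, 0, 1])])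
    (inH_inf_pt (inH_of_allL (by decide +kernel)) 23 (by decide) (by decide +kernel))
    (by decide +kernel)

end Cfsg.Agent.S5169
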