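import Cfsg.Statements.S5170
import Cfsg.Agent.Lib.Fus3.PermCert

set_option autoImplicit false
open Cfsg

namespace Cfsg.Agent.S5170

open Cfsg.Lib.Golay
set_option maxRecDepth 100000

/-- The 2-fusion system of the Mathieu group M₂₄ (as the explicit permutation group of the 24 points preserving the binary Golay code) on a Sylow 2-subgroup is simple: saturated, over a nontrivial 2-group, with no normal subsystem other than the trivial one and itself. -/
theorem result (S : Sylow 2 Cfsg.M24) : (Cfsg.groupFusionSystem (S : Subgroup Cfsg.M24)).IsSimple 2 := by
  exact simple_of_cert (c := gc) S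
    (T := [(0x171209060a16110c070e0b100d1315040f14050803020100, 0x171209060a16110c070e0b100d1315040f14050803020100, 530440),
      (0x1716070b0614030d0c1110090a12080f13150e0405010200, 0x1716070b0614030d0c1110090a12080f13150e0405010200, 133124),
      (0xe161508130f021012170d090a0b0c140706010400110503, 0xe161508130f021012170d090a0b0c140706010400110503, 6144),
      (0x1112140d0f06020c10170b13150416070a090108000e0305, 0x1112140d0f06020c10170b13150416070a090108000e0305, 0)])
    (inH_of_allL (by decide +kernel))
    (k := 9) (m := 239085)
    (Coding.card_gen (valid_of_allL (by decide +kernel)) (M := 1021) (d := 10) (a := 17) (by decide +kernel))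
    card_M24 (by norm_num) [[1], [3], [2, 0], [1, 0], [1, 3]]
    [[1], [3], [0], [2], [2, 0], [0, 3], [1, 0], [2, 1], [3, 2], [1, 3], [0, 1, 3], [2, 3, 0], [1, 2, 0], [2, 1, 3], [3, 2, 1, 0]]
    (us := [0x1716070b0614030d0c1110090a12080f13150e0405010200,
      0x1112140d0f06020c10170b13150416070a090108000e0305,
      0xe0f0c060b16020907170a100d1315041208011400110503,
      0x171408151216030913110a0d100607040c0b0e0f05010200,
      0x3140b100c1501090d170a06070416131208020f0011050e])
    (R := [0x1716070b0614030d0c1110090a12080f13150e0405010200,
      0x1112140d0f06020c10170b13150416070a090108000e0305,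
      0x171209060a16110c070e0b100d1315040f14050803020100,
      0xe161508130f021012170d090a0b0c140706010400110503,
      0xe0f0c060b16020907170a100d1315041208011400110503,
      0x1116060b071402100c170d0a0908120f13150104000e0305,
      0x171408151216030913110a0d100607040c0b0e0f05010200,
      0xe16070a0608000d0902100c0b0f14121315170401051103,
      0x171214070f100e0c06110b160415130d0a09030805020100,
      0x3140b100c1501090d170a06070416131208020f0011050e,
      0x3060d0c100901150b1713140f08120a160402070011050e,
      0x206160c040f11130b0e15090a120814100d050703170001,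
      0x110c09150a1601081317120d10060704140f020b00030e05,
      0x80a100915050c0d0e0b06070416130f14111203020117,
      0x17070d14101205130f0e150b0c090a081604110603010200])
    (by decide +kernel) (by decide +kernel) (z := 0x1704130f1508110d140e100b0c090a120607051603020100)
    (Coding.valid_of_isPerm (by decide +kernel)) (by decide +kernel)
    (fin := [[2, 1, 3, 1, 2], [3, 0, 1, 2, 3], [1, 3, 2, 3, 1], [0, 1, 3, 2, 0]])
    (steps := [(0x41312140c060501090d021700080b070a0f10151116030e, [0], [2, 1, 1, 2]),
      (0x1108140b1604050c150213100a12060f090d0e0701031700, [1], [1, 0, 1, 1, 1]),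
      (0x8100d110615120e000b01170504131603020a070c140f09, [2], [0, 1, 1, 1, 2, 1, 0]),
      (0x170f0b140911060508010d0a120e04101603020c00071315, [1], [1, 1, 3, 2, 0]),
      (0x1011130e0d04030117140602161208050a0c0f0700150b09, [0], [2, 1, 3, 2, 1, 1, 0])])
    (inH_of_allL (by decide +kernel))
    (by decide +kernel)

end Cfsg.Agent.S5170
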