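import Cfsg.Statements.S5171
import Cfsg.Agent.Lib.Fus.ClassP2
-- import your own Cfsg.Agent.* helpers here

set_option autoImplicit false
open Cfsg

namespace Cfsg.Agent.S5171

open Cfsg.FusionSystem Cfsg.Lib.Fus Equiv

/-- For a finite field K of characteristic p and m ≥ 2, excluding the case m = 2 with K of two elements, the p-fusion system of the projective symplectic group PSp_{2m}(K) on a Sylow p-subgroup is simple. -/
theorem result {K : Type*} [Field K] [Fintype K] (p : ℕ) [Fact p.Prime] [CharP K p] (m : ℕ) (hm : 2 ≤ m) (hex : m = 2 → 3 ≤ Fintype.card K) (S : Sylow p (Cfsg.PSp m K)) : (Cfsg.groupFusionSystem (S : Subgroup (Cfsg.PSp m K))).IsSimple p := by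
  exact simple_of_equiv_E p (Cfsg.Lib.CAut.stdSp hm) (Cfsg.Lib.CAut.jSp K m)
    (simpleData_alt p (Cfsg.Lib.Forms.fSymp_nondeg m) (by simp; omega) (by
      rcases hm.eq_or_lt with h | h
      · exact Or.inr (Nat.card_eq_fintype_card (α := K) ▸ hex h.symm)
      · exact Or.inl (by simp; omega))) S

end Cfsg.Agent.S5171
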