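import Cfsg.Statements.S5178
import Cfsg.Agent.Lib.Fus3.AbIdx

set_option autoImplicit false
universe u
open Cfsg

namespace Cfsg.Agent.S5178

open Cfsg.Lib Cfsg.Lib.Fus Cfsg.FusionSystem Subgroup
open scoped commutatorElement

/-- Let p be an odd prime, S a finite p-group containing an extraspecial subgroup Q of index p, and F a saturated fusion system over S whose largest subgroup normal in F is trivial. Then the centre of S equals the centre of Q. -/
theorem result {Ω : Type u} [Group Ω] {S : Subgroup Ω} [Finite S] (p : ℕ) [Fact p.Prime] (hp : Odd p) (hS : IsPGroup p S)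
    (Q : Subgroup Ω) (hQS : Q ≤ S) (hQ : Cfsg.IsExtraspecial p ↥Q) (hQi : (Q.subgroupOf S).index = p)
    (F : Cfsg.FusionSystem S) (hF : F.IsSaturated p) (hO : F.core = ⊥) :
    S ⊓ Subgroup.centralizer (S : Set Ω) = Q ⊓ Subgroup.centralizer (Q : Set Ω) := by
  have hI := ip_of_relIndex hS hQS hQi
  have hF' : Sat p F := ⟨hS, hF⟩
  obtain ⟨h1, h2, h3, h4⟩ := extraspecial_facts hS hQS hI.norm hQ
  refine le_antisymm (fun c hc => ⟨by_contra fun hc' => ?_, fun g hg => hc.2 g (hQS hg)⟩) h3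
  have h5 : ⁅S, S⁆ ≤ centralizerIn Q Q := commutator_le.mpr fun g hg k hk => by
    obtain ⟨a, ha, i, rfl⟩ := hI.dec c hc.1 hc' g hg
    obtain ⟨b, hb, j, rfl⟩ := hI.dec c hc.1 hc' k hk
    have e1 : ∀ y ∈ S, ∀ i : ℤ, c ^ i * y = y * c ^ i := fun y hy i => ((center_comm hc hy).zpow_right i).symm
    have : ⁅a * c ^ i, b * c ^ j⁆ = ⁅a, b⁆ := by
      calc _ = a * (c ^ i * (b * c ^ j)) * (c ^ i)⁻¹ * a⁻¹ * (c ^ j)⁻¹ * b⁻¹ := by group
        _ = a * b * (c ^ j * a⁻¹) * (c ^ j)⁻¹ * b⁻¹ := by rw [e1 _ hk]; group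
        _ = _ := by rw [e1 _ (S.inv_mem (hQS ha))]; group
    exact this ▸ h1 ▸ commutator_mem_commutator ha hb
  have hna : ¬ IsMulCommutative S := fun h => h4 (PGrp.isMulCommutative_of_le h hQS)
  obtain ⟨R, hR⟩ : ∃ R, F.IsEssential p R := by_contra fun h =>
    hna ((eq_bot_iff.mpr (hO ▸ le_core (hF'.normal_top_of fun R hR => h ⟨R, hR⟩))).symm ▸ inferInstance)
  obtain ⟨h6, h7⟩ := hF'.ip_of_essential_le hR (hF'.essential_lt hR) le_rfl h3 h2 h5
  have h8 := h7.card
  rw [AI.card_eq ⟨h7, h6, hna⟩, ← map_center_eq, Core.card_map_subtype, ← (center S).index_mul_card, ← mul_assoc] at h8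
  have := finite_of_le ((centralizerIn_le Q Q).trans hQS)
  have h9 := (ci_of_index hS ((Nat.eq_of_mul_eq_mul_right Nat.card_pos h8).trans_le
    (pow_two p ▸ Nat.mul_le_mul_left p ((card_le_of_le h5).trans h2.le))) hna).center_eq_of_odd hF' hO hR
    (by rintro rfl; exact absurd hp (by decide))
  rw [PGrp.map_subtype_commutator'] at h9
  exact hc' (h5 (h9.le hc)).1

end Cfsg.Agent.S5178
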