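import Cfsg.Statements.S5179
import Cfsg.Agent.Lib.Fus3.AbIdx

set_option autoImplicit false
universe u
open Cfsg

namespace Cfsg.Agent.S5179

open Cfsg.Lib Cfsg.Lib.Fus Cfsg.FusionSystem Subgroup
open scoped commutatorElement

/-- Let p be an odd prime, S a finite p-group of order at least p⁶ containing an extraspecial subgroup Q of index p, and F a saturated fusion system over S whose largest subgroup normal in F is trivial. Then no proper subgroup of Q is essential in F: an essential subgroup of F contained in Q equals Q. -/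
theorem result {Ω : Type u} [Group Ω] {S : Subgroup Ω} [Finite S] (p : ℕ) [Fact p.Prime] (hp : Odd p) (hS : IsPGroup p S)
    (Q : Subgroup Ω) (hQS : Q ≤ S) (hQ : Cfsg.IsExtraspecial p ↥Q) (hQi : (Q.subgroupOf S).index = p)
    (h6 : p ^ 6 ≤ Nat.card S)
    (F : Cfsg.FusionSystem S) (hF : F.IsSaturated p) (hO : F.core = ⊥)
    (E : Subgroup Ω) (hEQ : E ≤ Q) (hE : F.IsEssential p E) : E = Q := by
  by_contra hne
  have hI := ip_of_relIndex hS hQS hQi
  obtain ⟨h1, h2, h3, h4⟩ := extraspecial_facts hS hQS hI.norm hQ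
  obtain ⟨h5, h7⟩ := Sat.ip_of_essential_le ⟨hS, hF⟩ hE (lt_of_le_of_ne hEQ hne) hQS h3 h2 h1.le
  have := finite_of_le hQS
  rw [hI.card, h7.card, AI.card_eq ⟨h7, h5, h4⟩, h1, h2, show p * (p * (p * p)) = p ^ 4 by ring] at h6
  exact absurd ((Nat.pow_le_pow_iff_right (Fact.out : p.Prime).one_lt).mp h6) (by norm_num)

end Cfsg.Agent.S5179
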