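import Cfsg.Statements.S5185
import Cfsg.Agent.Lib.Fus.SmallE
-- import your own Cfsg.Agent.* helpers here

set_option autoImplicit false
universe u
open Cfsg

namespace Cfsg.Agent.S5185

open Cfsg.FusionSystem Cfsg.Lib.Fus Equiv

/-- Let F be a saturated fusion system over a finite p-group S and H an essential subgroup of order p². Then H is elementary abelian (isomorphic to C_p × C_p) and its F-automorphism group contains a subgroup isomorphic to SL(2,p). -/
theorem result {Ω : Type u} [Group Ω] {S : Subgroup Ω} [Finite S] (p : ℕ) [Fact p.Prime] (hS : IsPGroup p S)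
    (F : Cfsg.FusionSystem S) (hF : F.IsSaturated p) (H : Subgroup Ω) (hH : F.IsEssential p H) (hcard : Nat.card H = p ^ 2) :
    Cfsg.IsElementaryAbelian p H ∧
      ∃ K : Subgroup ↥(F.autGroup H), Nonempty (↥K ≃* Matrix.SpecialLinearGroup (Fin 2) (ZMod p)) := by
  have hF' : Sat p F := ⟨hS, hF⟩
  have := finite_of_le (hH.1.1 : H ≤ S)
  have hX : IsPGroup p H := IsPGroup.of_card hcard
  have h := (Cfsg.Lib.Core.frattini_eq_bot_iff_of_isPGroup hX).1 ((Subgroup.card_le_one_iff_eq_bot _).1
    ((card_le_of_not_le hX _ (n := 0) (hcard ▸ (Sat.nf ⟨hS, hF⟩ hH).not_le)).trans_eq (pow_zero p)))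
  exact ⟨elemAb_of h, exists_sl_two hcard h.1 h.2 _ (hF'.not_isPGroup_pec hH)⟩

end Cfsg.Agent.S5185
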