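import Cfsg.Statements.S5186
import Cfsg.Agent.Lib.Fus.SmallE
-- import your own Cfsg.Agent.* helpers here

set_option autoImplicit false
universe u
open Cfsg

namespace Cfsg.Agent.S5186

open Cfsg.FusionSystem Cfsg.Lib.Fus Equiv

/-- Let F be a saturated fusion system over a finite p-group S and H an essential subgroup of order p³. Then H is elementary abelian, or p is odd and H is extraspecial of exponent p, or p = 2 and H is the quaternion group of order 8. -/
theorem result {Ω : Type u} [Group Ω] {S : Subgroup Ω} [Finite S] (p : ℕ) [Fact p.Prime] (hS : IsPGroup p S)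
    (F : Cfsg.FusionSystem S) (hF : F.IsSaturated p) (H : Subgroup Ω) (hH : F.IsEssential p H) (hcard : Nat.card H = p ^ 3) :
    Cfsg.IsElementaryAbelian p H ∨ (Odd p ∧ Cfsg.IsExtraspecial p ↥H ∧ ∀ x ∈ H, x ^ p = 1) ∨
      (p = 2 ∧ Nonempty (↥H ≃* QuaternionGroup 2)) := by
  have hF' : Sat p F := ⟨hS, hF⟩
  have := finite_of_le (hH.1.1 : H ≤ S)
  rcases (hF'.nf hH).cube hcard with h | ⟨hn, ⟨h1, h2⟩ | h⟩
  · exact Or.inl (elemAb_of h)
  · exact Or.inr (Or.inl ⟨(Fact.out : p.Prime).odd_of_ne_two h1, isExtraspecial_of_cube hcard hn,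
      fun x hx => congrArg Subtype.val (h2 ⟨x, hx⟩)⟩)
  · exact Or.inr (Or.inr h)

end Cfsg.Agent.S5186
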