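import Cfsg.Statements.S5187
import Cfsg.Agent.Lib.Fus.SmallE
-- import your own Cfsg.Agent.* helpers here

set_option autoImplicit false
universe u
open Cfsg

namespace Cfsg.Agent.S5187

open Cfsg.FusionSystem Cfsg.Lib.Fus Equiv

/-- Let F be a saturated fusion system over a finite p-group S and H an abelian essential subgroup that can be generated by two elements (its Frattini quotient has order at most p²). Then H is elementary abelian of order p², or p ≤ 3 and H is homocyclic of rank two, that is isomorphic to C_{pᵏ} × C_{pᵏ} for some k. -/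
theorem result {Ω : Type u} [Group Ω] {S : Subgroup Ω} [Finite S] (p : ℕ) [Fact p.Prime] (hS : IsPGroup p S)
    (F : Cfsg.FusionSystem S) (hF : F.IsSaturated p) (H : Subgroup Ω) (hH : F.IsEssential p H) (hab : IsMulCommutative ↥H) (hrk : (frattini ↥H).index ≤ p ^ 2) :
    (Cfsg.IsElementaryAbelian p H ∧ Nat.card H = p ^ 2) ∨
      (p ≤ 3 ∧ ∃ k : ℕ, Nonempty (↥H ≃* Multiplicative (ZMod (p ^ k) × ZMod (p ^ k)))) := by
  have hF' : Sat p F := ⟨hS, hF⟩
  have := finite_of_le (hH.1.1 : H ≤ S)
  have hX : IsPGroup p H := hS.to_le hH.1.1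
  have nf := hF'.nf hH
  have h2 : Nat.card H ≤ p ^ 2 * Nat.card (frattini H) := by
    rw [← (frattini H).index_mul_card]; exact Nat.mul_le_mul_right _ hrk
  by_cases h0 : frattini H = ⊥
  · have h1 := nf.not_le
    rw [h0, Subgroup.card_bot, mul_one] at h1 h2
    obtain ⟨k, hk⟩ := hX.exists_card_eq
    refine Or.inl ⟨elemAb_of ((Cfsg.Lib.Core.frattini_eq_bot_iff_of_isPGroup hX).1 h0), le_antisymm h2 ?_⟩
    rw [hk] at h1 ⊢
    exact Nat.pow_le_pow_right (Fact.out : p.Prime).pos (not_lt.1 fun e => h1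
      ((Nat.pow_le_pow_right (Fact.out : p.Prime).pos (by omega : k ≤ 1)).trans_eq (pow_one p)))
  · exact Or.inr ⟨hF'.le_three hH hab h2 h0, homocyclic_of_irr hX hab nf.not_le h2 fun N _ => nf.irr hX h2 N⟩

end Cfsg.Agent.S5187
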