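import Cfsg.Statements.S5188
import Cfsg.Agent.Lib.Fus.SmallE
-- import your own Cfsg.Agent.* helpers here

set_option autoImplicit false
universe u
open Cfsg

namespace Cfsg.Agent.S5188

open Cfsg.FusionSystem Cfsg.Lib.Fus Equiv

/-- Let F be a saturated fusion system over a finite p-group S and H an essential subgroup of order p⁴. Then H is isomorphic to one of: C_p⁴ or C_{p²} × C_p × C_p (any p); C_{p²} × C_{p²} with p ∈ {2, 3}; p^{1+2}_+ × C_p with p odd (the direct product of an extraspecial group of order p³ and exponent p with a group of order p); Q₈ × C₂ (p = 2); or the non-abelian group of order p⁴ of exponent p² whose centre is cyclic of order p² (the central product of an extraspecial group of order p³ with a cyclic group of order p²; for p = 2 this is D₈ ∘ C₄). -/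
theorem result {Ω : Type u} [Group Ω] {S : Subgroup Ω} [Finite S] (p : ℕ) [Fact p.Prime] (hS : IsPGroup p S)
    (F : Cfsg.FusionSystem S) (hF : F.IsSaturated p) (H : Subgroup Ω) (hH : F.IsEssential p H) (hcard : Nat.card H = p ^ 4) :
    Cfsg.IsElementaryAbelian p H ∨
      Nonempty (↥H ≃* Multiplicative (ZMod (p ^ 2) × ZMod p × ZMod p)) ∨
      ((p = 2 ∨ p = 3) ∧ Nonempty (↥H ≃* Multiplicative (ZMod (p ^ 2) × ZMod (p ^ 2)))) ∨
      (Odd p ∧ ∃ (E : Type) (_ : Group E) (_ : Finite E), Cfsg.IsExtraspecial p E ∧ Nat.card E = p ^ 3 ∧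
        (∀ x : E, x ^ p = 1) ∧ Nonempty (↥H ≃* E × Multiplicative (ZMod p))) ∨
      (p = 2 ∧ Nonempty (↥H ≃* QuaternionGroup 2 × Multiplicative (ZMod 2))) ∨
      (¬ IsMulCommutative ↥H ∧ (∀ x ∈ H, x ^ (p ^ 2) = 1) ∧ IsCyclic ↥(Subgroup.center ↥H) ∧
        Nat.card (Subgroup.center ↥H) = p ^ 2) := by
  have hF' : Sat p F := ⟨hS, hF⟩
  have hp : p.Prime := Fact.out
  have := finite_of_le (hH.1.1 : H ≤ S)
  have hX : IsPGroup p H := IsPGroup.of_card hcard
  have nf := hF'.nf hH
  have h1 := card_le_of_not_le hX _ (n := 2) (hcard ▸ nf.not_le)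
  obtain ⟨k, hk⟩ := (hX.to_subgroup (frattini H)).exists_card_eq
  rw [hk, Nat.pow_le_pow_iff_right hp.one_lt] at h1
  interval_cases k
  · exact Or.inl (elemAb_of ((Cfsg.Lib.Core.frattini_eq_bot_iff_of_isPGroup hX).1 (Subgroup.card_eq_one.1 hk)))
  · rw [pow_one] at hk
    by_cases hn : IsMulCommutative H
    · exact Or.inr (Or.inl (equiv_of_frattini_card hcard hn hk))
    refine Or.inr (Or.inr (Or.inr ?_))
    rcases nf.fourth hcard hk hn with ⟨h2, E, h3, h4, h5, ⟨f⟩⟩ | ⟨rfl, h⟩ | ⟨h2, h⟩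
    · let g : (⊤ : Subgroup (Shrink.{0} E)) ≃* E := Subgroup.topEquiv.trans Shrink.mulEquiv
      have : Finite (⊤ : Subgroup (Shrink.{0} E)) := Finite.of_equiv _ g.symm.toEquiv
      have h6 := (Nat.card_congr g.toEquiv).trans h4
      exact Or.inl ⟨hp.odd_of_ne_two h2, _, inferInstance, this, isExtraspecial_of_cube h6
        fun e => h3 ⟨⟨fun x y => g.symm.injective (by rw [map_mul, map_mul, e.1.1])⟩⟩, h6,
        fun x => g.injective (by rw [map_pow, h5, map_one]), ⟨f.trans (g.symm.prodCongr (MulEquiv.refl _))⟩⟩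
    · exact Or.inr (Or.inl ⟨rfl, h⟩)
    · exact Or.inr (Or.inr ⟨hn, fun x hx => congrArg Subtype.val (h2 ⟨x, hx⟩), h⟩)
  · have hab := nf.comm_of_fourth hcard hk
    have h2 : Nat.card H ≤ p ^ 2 * Nat.card (frattini H) := by rw [hk, hcard, ← pow_add]
    have h3 := hF'.le_three hH hab h2 fun e => by
      rw [e, Subgroup.card_bot] at hk; exact (Nat.one_lt_pow two_ne_zero hp.one_lt).ne hk
    obtain ⟨j, ⟨f⟩⟩ := homocyclic_of_irr hX hab nf.not_le h2 fun N _ => nf.irr hX h2 N
    obtain rfl : j = 2 := by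
      have := Nat.card_congr f.toEquiv
      rw [hcard, Nat.card_congr Multiplicative.toAdd, Nat.card_prod, Nat.card_zmod, ← pow_add,
        Nat.pow_right_inj hp.one_lt] at this
      omega
    exact Or.inr (Or.inr (Or.inl ⟨by have := hp.two_le; omega, ⟨f⟩⟩))

end Cfsg.Agent.S5188
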