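import Cfsg.Statements.S5191
import Cfsg.Agent.Lib.Fus2.Model

set_option autoImplicit false
open Cfsg

namespace Cfsg.Agent.S5191

open Cfsg.Lib.Fus2 Cfsg.Lib.Amalg Subgroup

/-- Fusion in a finite group G and in its quotient by O_{p'}(G) agree. Let S be a Sylow p-subgroup of G, N = O_{p'}(G) and P ≤ S. If an element of G/N conjugates the image of P into the image of S, then some element g of G conjugates P into S and induces the same map on P modulo N. (Together with the injectivity of S → G/N this says that g ↦ gN induces an isomorphism of the fusion system of G on S with that of G/N on SN/N.) -/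
theorem result {G : Type*} [Group G] [Finite G] {p : ℕ} [Fact p.Prime]
    [hN : (Cfsg.pPrimeCore p G).Normal] (S : Sylow p G) (P : Subgroup G) (hP : P ≤ (S : Subgroup G))
    (γ : G ⧸ Cfsg.pPrimeCore p G)
    (hγ : ∀ x ∈ P, γ * QuotientGroup.mk x * γ⁻¹ ∈ ((S : Subgroup G).map (QuotientGroup.mk' (Cfsg.pPrimeCore p G)))) :
    ∃ g : G, ∀ x ∈ P, g * x * g⁻¹ ∈ S ∧
      (QuotientGroup.mk (g * x * g⁻¹) : G ⧸ Cfsg.pPrimeCore p G) = γ * QuotientGroup.mk x * γ⁻¹ := by
  obtain ⟨g, rfl⟩ := QuotientGroup.mk'_surjective _ γ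
  obtain ⟨g', h1, h2⟩ := exists_lift_conj (syl_top S) (QuotientGroup.mk' (pPrimeCore p G)) (S.isPGroup'.to_le hP) g hγ
  refine ⟨g', fun x hx => ⟨h2 x hx, ?_⟩⟩
  rw [← h1]; rfl

end Cfsg.Agent.S5191
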