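import Cfsg.Statements.S5253
import Cfsg.Agent.Lib.Glaub.Min

set_option autoImplicit false
universe u
open Cfsg

namespace Cfsg.Agent.S5253

open Cfsg.Lib.Fus2 Cfsg.Lib.Amalg Subgroup Cfsg.FusionSystem Cfsg.Lib Cfsg.Lib.Glaub

/-- Let p be a prime and W a positive characteristic p-functor with Z(Q) ≤ W(Q): W assigns to every finite p-group Q (in a fixed universe) a subgroup W(Q), nontrivial when Q is, carried to W(R) by every isomorphism Q ≅ R, and containing the centre of Q. Suppose that for every finite group G with Sylow p-subgroup P in which W(P) is not normal there is g ∈ P outside O_p(G) with [Z(O_p(G)), g, g] = 1. Then for every saturated fusion system F over a finite p-group S and every normalizer fusion system N of W(S) in F, every p-th power of an element of Z(S) that lies in the centre of N lies in the centre of F. -/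
theorem result {p : ℕ} [Fact p.Prime] (W : ∀ (Q : Type u) [Group Q], Subgroup Q) (hW1 : ∀ (Q : Type u) [Group Q] [Finite Q], IsPGroup p Q → Nontrivial Q → W Q ≠ ⊥) (hW2 : ∀ (Q R : Type u) [Group Q] [Group R] [Finite Q], IsPGroup p Q → ∀ φ : Q ≃* R, (W Q).map φ.toMonoidHom = W R) (hWZ : ∀ (Q : Type u) [Group Q] [Finite Q], IsPGroup p Q → Subgroup.center Q ≤ W Q) (hq : ∀ (G : Type u) [Group G] [Finite G] (P : Sylow p G), ¬ (((W ↥(P : Subgroup G)).map (P : Subgroup G).subtype : Subgroup G)).Normal → ∃ g : G, g ∈ (P : Subgroup G) ∧ g ∉ Cfsg.pCore p G ∧ ⁅⁅Subgroup.center ↥(Cfsg.pCore p G) |>.map (Cfsg.pCore p G).subtype, Subgroup.zpowers g⁆, Subgroup.zpowers g⁆ = ⊥) {Ω : Type u} [Group Ω] {S : Subgroup Ω} [Finite S] (hS : IsPGroup p S) (F : Cfsg.FusionSystem S) (hF : F.IsSaturated p) (N : Cfsg.FusionSystem (Cfsg.FusionSystem.normalizerIn S ((W ↥S).map S.subtype))) (hN : F.IsNormalizerSystem ((W ↥S).map S.subtype) N) : Subgroup.closure ((fun z => z ^ p) '' ((S ⊓ Subgroup.centralizer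 (S : Set Ω) : Subgroup Ω) : Set Ω)) ⊓ N.center ≤ F.center := by
  have hW : Fct p W := ⟨hW1, hW2⟩
  have hs : Fus.Sat p F := ⟨hS, hF⟩
  have hn := hW.le_normalizer hS
  have hsN := sat_normalizer hs (isFullyNormalized_of_le_normalizer F (amb_le W S) hn) hN
  have := Fus2.finite_of_le (normalizerIn_le S (amb W S))
  rintro x ⟨h1, h2⟩
  obtain ⟨y, hy, rfl⟩ : ∃ y ∈ S ⊓ 𝐂 S, x = y ^ p := by
    simpa using (PGrp.mem_powerClosure_iff_of_comm (p := p) (n := 1) (isMulCommutative_inf_cent S)).1
      (closure_mono (by rintro _ ⟨z, hz, rfl⟩; exact ⟨z, hz, by simp⟩) h1)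
  refine center_control (fcls_true p) (.one hW) p (fun G _ _ P a1 _ y a2 a3 => ?_) hs trivial hy fun P f hf hP =>
    ((mem_center_iff' hsN).1 h2).2 P f ((mor_iff_nMor hN).2 ((Fam.gens_one hW).1 hf)) hP
  have a4 : y ∈ pCore p G := a1 fun x hx => a2.2 x (Core.pCore_le_sylow P hx)
  have := le_of_quad (W := amb W) (K := 𝐂 (zpowers (y ^ p))) (fun H T b1 b2 => ?_) (syl_top P) (zpowers_le.2
    ⟨op_top (p := p) (G := G) ▸ pow_mem a4 p, PGrp.pow_mem_powerClosure_one a2⟩) le_rfl (le_cent_symm (zpowers_le.2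
      fun g hg => mul_inv_eq_iff_eq_mul.1 (a3 g ((Fam.gGen_one hW).2 hg.2))))
  · exact mem_center_iff.2 fun g => (this (mem_top g) _ (mem_zpowers _)).symm
  obtain ⟨g, c1, c2, c3⟩ := hq H b1.toSylow fun e => b2 (by
    have : ((amb W T).subgroupOf H).Normal := hW.amb_subgroupOf b1.le b1.isPGroup ▸ e
    exact le_normalizer_of_normal_subgroupOf ((amb_le W T).trans b1.le))
  refine ⟨g, c1, mt mem_op_iff.1 c2, ?_⟩
  have := congrArg (map H.subtype) c3
  rwa [map_commutator, map_commutator, Subgroup.map_bot, MonoidHom.map_zpowers, Core.map_subtype_center,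
    map_inf _ _ _ H.subtype_injective, Core.map_subtype_centralizer, ← inf_assoc, inf_eq_left.2 (map_subtype_le _)] at this

end Cfsg.Agent.S5253
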