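import Cfsg.Statements.S5193
import Cfsg.Agent.Lib.Glaub.FF
import Cfsg.Agent.S5253

set_option autoImplicit false
open Cfsg

namespace Cfsg.Agent.S5193

open Cfsg.FusionSystem Cfsg.Lib.Fus2 Cfsg.Lib.Amalg Subgroup Cfsg.Lib Cfsg.Lib.Glaub Cfsg.Lib.Transfer

/-- Glauberman's Theorem for fusion systems. Let F be a saturated fusion system over a finite p-group S, let J(S) be the subgroup generated by the abelian subgroups of S of largest order, and let N be the normalizer fusion system of J(S) in F (a fusion system over N_S(J(S)) = S). Then every p-th power of an element of Z(S) that lies in the centre of N lies in the centre of F; and if p is odd, or if the symmetric group of degree 4 is not involved in any model of the normalizer system of a fully normalized F-centric subgroup (F is S₄-free), then the centre of N equals the centre of F. -/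
theorem result {Ω : Type*} [Group Ω] {S : Subgroup Ω} [Finite S] (p : ℕ) [Fact p.Prime] (hS : IsPGroup p S) (F : Cfsg.FusionSystem S) (hF : F.IsSaturated p) (N : Cfsg.FusionSystem (Cfsg.FusionSystem.normalizerIn S (Cfsg.thompsonSubgroupAOf S))) (hN : F.IsNormalizerSystem (Cfsg.thompsonSubgroupAOf S) N) : Subgroup.closure ((fun z : Ω => z ^ p) '' ((S ⊓ Subgroup.centralizer (S : Set Ω) : Subgroup Ω) : Set Ω)) ⊓ N.center ≤ F.center ∧ (p ≠ 2 ∨ F.IsSectionFree p (Equiv.Perm (Fin 4)) → N.center = F.center) := by
  revert N
  rw [jA_eq]
  refine fun N hN => ⟨S5253.result (jF 0) (fct_jF (p := p)).ne (fct_jF (p := p)).equiv (fun Q _ _ _ x hx =>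
    center_le_jA ⟨trivial, fun y _ => mem_center_iff.1 hx y⟩) (fun G _ _ P c => ?_) hS F hF N hN,
    fun hp => center_normalizer_jA ⟨hS, hF⟩ hp hN⟩
  have := jA_quad (syl_top P) fun e => c (amb_jF (P := P.1) ▸ normal_of_top_le_normalizer e :)
  rwa [Amalg.op_top, ← Core.map_subtype_center] at this

end Cfsg.Agent.S5193
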