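import Cfsg.Statements.S5195
import Cfsg.Agent.Lib.Glaub.FF

set_option autoImplicit false
open Cfsg

namespace Cfsg.Agent.S5195

open Cfsg.FusionSystem Cfsg.Lib.Fus2 Cfsg.Lib.Amalg Subgroup Cfsg.Lib Cfsg.Lib.Glaub Cfsg.Lib.Transfer

theorem pg_factor {Ω Ω' : Type*} [Group Ω] [Group Ω'] {S Q : Subgroup Ω} {S' P' : Subgroup Ω'} [Finite S] {p : ℕ}
    {F : FusionSystem S} {θ : S →* Ω'} {E : FusionSystem S'} (hE : F.IsFactorSystem Q θ E) (hP : P' ≤ S')
    (h : IsPGroup p (F.autGroup (preimageAlong θ P'))) : IsPGroup p (E.autGroup P') := fun α => by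
  have hf := mor_autFun hP α
  obtain ⟨f, h1, h2⟩ := IsFac.lift hE hf
  have h3 := IsFac.img_pre hE h1 hf.map_one h2 hP le_rfl
  rw [img_autFun] at h3
  obtain ⟨β, h4, h5⟩ := h1.exists_aut h3
  obtain ⟨k, hk⟩ := h ⟨β, h4⟩
  refine ⟨k, Subtype.ext (mulAut_ext_autFun fun y hy => ?_)⟩
  obtain ⟨x, hx, rfl⟩ := IsFac.exists_eq hE (hP hy)
  have hx' := mem_preimageAlong.2 ⟨hx, hy⟩
  rw [coe_pow, autFun_pow _ _ hy, (iterate_semiconj (fun x => autFun_mem β) (fun x hx => (h2 x hx).trans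
    (by rw [h5 x hx])) _ x hx').2, ← autFun_pow _ _ hx', show β ^ p ^ k = 1 from congrArg Subtype.val hk,
    autFun_one hx', coe_one, autFun_one hy]

/-- A strengthened Frobenius normal p-complement criterion for fusion systems. Let F be a saturated fusion system over a finite p-group S such that p is odd or F is S₄-free (the symmetric group of degree 4 is not involved in any model of the normalizer system of a fully normalized F-centric subgroup). If Aut_F(Q) is a p-group for every nontrivial characteristic subgroup Q of S, then F is the inner fusion system of S. -/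
theorem result {Ω : Type*} [Group Ω] {S : Subgroup Ω} [Finite S] (p : ℕ) [Fact p.Prime] (hS : IsPGroup p S) (F : Cfsg.FusionSystem S) (hF : F.IsSaturated p) (hp : p ≠ 2 ∨ F.IsSectionFree p (Equiv.Perm (Fin 4))) (h : ∀ Q : Subgroup Ω, Q ≤ S → Q ≠ ⊥ → (Q.subgroupOf S).Characteristic → IsPGroup p (F.autGroup Q)) : ∀ P : Subgroup Ω, F.Hom P = (Cfsg.innerFusionSystem S).Hom P := by
  refine (pAut_iff_inner ⟨hS, hF⟩).1 (fs_card_induction (C := fun Ω _ S _ F => Fus.Sat p F →
    Free (p ≠ 2) p (Equiv.Perm (Fin 4)) F → (∀ Q ≤ S, Q ≠ ⊥ → (Q.subgroupOf S).Characteristic →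
      IsPGroup p (F.autGroup Q)) → PAut p F) (fun Ω _ S _ F ih hF hp h => ?_) F ⟨hS, hF⟩ hp h)
  rcases eq_or_ne S ⊥ with rfl | h0
  · exact fun P f hf _ => ⟨0, fun x hx => by rw [mem_bot.1 (hf.le hx)]; simpa using hf.map_one⟩
  have key : ∀ R ≤ S, R ≠ ⊥ → (R.subgroupOf S).Characteristic → ∀ (T : Subgroup Ω) (N : FusionSystem T), T = S →
      Fus.Sat p N → Free (p ≠ 2) p (Equiv.Perm (Fin 4)) N → N.IsSubsystemOf F → N.IsNormal R → PAut p N := by
    rintro R a1 a2 a3 T N rfl b1 b2 b3 b4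
    have c : ∀ Q ≤ T, Q ≠ ⊥ → (Q.subgroupOf T).Characteristic → IsPGroup p (N.autGroup Q) := fun Q c1 c2 c3 =>
      (h Q c1 c2 c3).to_le fun α hα => (mem_autGroup_iff c1).2 (((mem_autGroup_iff c1).1 hα).of_sub b3)
    obtain ⟨E, hE⟩ := exists_factor_quotient N a1
    refine pAut_of_factor b1 b4 (c R a1 a2 a3) hE (ih _ _ E (IsFac.card_lt hE a2) (IsFac.sat hE b1)
      (b2.factor b1 b4 hE) fun Q _ c1 c2 => pg_factor hE le_top (c _ (map_subtype_le _)
        (fun e => a2 (le_bot_iff.1 ((IsFac.le_pre hE Q).trans e.le))) ?_))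
    rw [preimageAlong, subgroupOf, comap_map_eq_self_of_injective T.subtype_injective]
    exact Characteristic.comap_quotient_mk (PGrp.characteristic_of_forall_mem fun φ x hx =>
      PGrp.apply_mem_of_characteristic (hH := c2) ((topEquiv.trans φ).trans topEquiv.symm) (x := ⟨x, trivial⟩) hx)
  refine (pAut_inner hF.pg).of_sub (sub_of_jA hF hp le_rfl (pAut_inner hF.pg) fun P f hf => ?_)
  obtain ⟨R, a1, a2, a3, a4, a5⟩ := (nt_id fct_jF).gens hF.pg h0 hf
  obtain ⟨N, hN⟩ := exists_normalizerSystem F a1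
  have b := isFullyNormalized_of_le_normalizer F a1 a3
  have c := sat_normalizer hF b hN
  exact ((mor_iff_nMor hN).2 a4).of_sub (sub_of_pAut c (key R a1 a2 a5 _ N (normalizerIn_eq_of_le a3) c
    (hp.normalizer hF b hN) (sub_of_isNormalizerSystem hN) (isNormal_normalizerSystem hN)) inf_le_left)

end Cfsg.Agent.S5195
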