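import Cfsg.Statements.S5196
import Cfsg.Agent.Lib.Fus2.Ctl

set_option autoImplicit false
universe u
open Cfsg

namespace Cfsg.Agent.S5196

open Cfsg.Lib.Fus2 Cfsg.Lib.Amalg Subgroup Cfsg.FusionSystem Cfsg.Lib

/-- Let p be an odd prime and W a positive characteristic p-functor: W assigns to every finite p-group Q (in a fixed universe) a subgroup W(Q), nontrivial when Q is, carried to W(R) by every isomorphism Q ≅ R; assume also Z(Q) ≤ W(Q) for every finite p-group Q. Suppose W satisfies the local condition: for every finite group G with Sylow p-subgroup P, O_p(G) ∩ Z(G) = O_p(G) ∩ Z(N_G(W(P))). Then W controls weak closure of elements in every saturated fusion system F over a finite p-group S: the centre of the normalizer fusion system of W(S) in F equals the centre of F. (For p = 2 no functor satisfies the local condition, so p is taken odd.) -/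
theorem result {p : ℕ} [Fact p.Prime] (hp : p ≠ 2) (W : ∀ (Q : Type u) [Group Q], Subgroup Q) (hW1 : ∀ (Q : Type u) [Group Q] [Finite Q], IsPGroup p Q → Nontrivial Q → W Q ≠ ⊥) (hW2 : ∀ (Q R : Type u) [Group Q] [Group R] [Finite Q], IsPGroup p Q → ∀ φ : Q ≃* R, (W Q).map φ.toMonoidHom = W R) (hWZ : ∀ (Q : Type u) [Group Q] [Finite Q], IsPGroup p Q → Subgroup.center Q ≤ W Q) (hC : ∀ (G : Type u) [Group G] [Finite G] (P : Sylow p G), Cfsg.pCore p G ⊓ Subgroup.center G = Cfsg.pCore p G ⊓ (Subgroup.center ↥(Subgroup.normalizer (((W ↥(P : Subgroup G)).map (P : Subgroup G).subtype : Subgroup G) : Set G))).map (Subgroup.normalizer (((W ↥(P : Subgroup G)).map (P : Subgroup G).subtype : Subgroup G) : Set G)).subtype) {Ω : Type u} [Group Ω] {S : Subgroup Ω} [Finite S] (hS : IsPGroup p S) (F : Cfsg.FusionSystem S) (hF : F.IsSaturated p) (N : Cfsg.FusionSystem (Cfsg.FusionSystem.normalizerIn S ((W ↥S).map S.subtype))) (hN : F.IsNormalizerSystem ((W ↥S).map S.subtype) N) : N.center = F.center := by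
  have hW : Fct p W := ⟨hW1, hW2⟩
  have hs : Fus.Sat p F := ⟨hS, hF⟩
  have hn := hW.le_normalizer hS
  have hsN := sat_normalizer hs (isFullyNormalized_of_le_normalizer F (amb_le W S) hn) hN
  have e : normalizerIn S (amb W S) = S := normalizerIn_eq_of_le hn
  have := finite_of_le (normalizerIn_le S (amb W S))
  refine le_antisymm (fun y hy => ?_) fun y hy =>
    center_anti hsN (sub_of_isNormalizerSystem hN) ⟨hy, e.ge ((mem_center_iff' hs).1 hy).1⟩
  obtain ⟨h1, h2⟩ := (mem_center_iff' hsN).1 hy
  have h3 : y ∈ centralizerIn S S := ⟨h1.1, fun x hx => by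
    have := h2 _ _ (mor_conj N le_rfl (e.ge hx)) h1
    exact (mul_inv_eq_iff_eq_mul.1 this)⟩
  simpa using center_control (fcls_true p) (.one hW) 1 (fun G _ _ P a1 _ y a2 a3 => by
    have a4 : y ∈ pCore p G := a1 fun x hx => a2.2 x (Core.pCore_le_sylow P hx)
    have a5 : y ∈ normalizer (amb W (P : Subgroup G) : Set G) := hW.le_normalizer P.isPGroup' a2.1
    rw [pow_one] at a3 ⊢
    exact ((hC G P).ge ⟨a4, ⟨y, a5⟩, mem_center_iff.2 fun g => Subtype.ext
      (mul_inv_eq_iff_eq_mul.1 (a3 g ((Fam.gGen_one hW).2 g.2))), rfl⟩).2) hs trivial h3 fun P f hf hP => by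
        rw [pow_one] at hP ⊢
        exact h2 P f ((mor_iff_nMor hN).2 ((Fam.gens_one hW).1 hf)) hP

end Cfsg.Agent.S5196
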