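import Cfsg.Statements.S5198
import Cfsg.Agent.Lib.Fus2.OpSub

set_option autoImplicit false
open Cfsg

namespace Cfsg.Agent.S5198

open Cfsg.Lib.Fus2 Cfsg.Lib.Amalg Subgroup Cfsg.FusionSystem Cfsg.Lib

/-- Let F be a saturated fusion system over a finite p-group S and T a subgroup of S strongly closed in F (so T is normal in S). Then every element x of the hyperfocal subgroup of F acts on T by conjugation as an element of O^p(Aut_F(T))·Inn(T): there is an automorphism of T in the subgroup generated by the elements of Aut_F(T) of order prime to p together with the inner automorphisms of T that agrees with conjugation by x. -/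
theorem result {Ω : Type*} [Group Ω] {S : Subgroup Ω} [Finite S] (p : ℕ) [Fact p.Prime] (hS : IsPGroup p S) (F : Cfsg.FusionSystem S) (hF : F.IsSaturated p) (T : Subgroup Ω) (hT : F.StronglyClosed T) : ∀ x ∈ F.hyperfocalSubgroup p, ∃ α ∈ ((Cfsg.pResidual p ↥(F.autGroup T)).map (F.autGroup T).subtype ⊔ Cfsg.Inn ↥T : Subgroup (MulAut ↥T)), ∀ t : ↥T, ((α t : ↥T) : Ω) = x * (t : Ω) * x⁻¹ := by
  have hs : Fus.Sat p F := ⟨hS, hF⟩
  have hn := le_normalizer_of_stronglyClosed hT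
  have := finite_mulAut hT.1
  rw [map_pResidual_autGroup]
  let X : Subgroup Ω := ((Transfer.resOf p (F.autGroup T) ⊔ Inn T).comap T.normalizerMonoidHom).map
    (normalizer (T : Set Ω)).subtype ⊓ S
  have hX : ∀ x ∈ S, x ∈ X ↔ ∃ α ∈ Transfer.resOf p (F.autGroup T) ⊔ Inn T, ∀ t ∈ T, autFun α t = x * t * x⁻¹ :=
    fun x hx => ⟨fun ⟨⟨y, h, e⟩, _⟩ => ⟨_, h, fun t ht => e ▸ autFun_normalizerMonoidHom y ht⟩, fun ⟨α, h1, h2⟩ =>
      ⟨⟨⟨x, hn hx⟩, by
        rw [SetLike.mem_coe, mem_comap, mulAut_ext_autFun (α := T.normalizerMonoidHom ⟨x, hn hx⟩) (β := α) fun t ht => by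
          rw [autFun_normalizerMonoidHom _ ht, h2 t ht]; rfl]
        exact h1, rfl⟩, hx⟩⟩
  have hTX : T ≤ X := fun x hx => by
    obtain ⟨α, h1, h2⟩ := exists_autInducedBy hx (le_normalizer hx)
    exact (hX x (hT.1 hx)).2 ⟨α, mem_sup_right (inn_eq_autInducedBy T ▸ h1), h2⟩
  obtain ⟨Λ, _, _, θ, E, hE⟩ := exists_factor_univ F hT.1 hn
  have h1 : E.hyperfocalSubgroup p ≤ imageAlong θ X := IsFac.hyp_le hE fun P f a1 a2 a3 a4 x hx => by
    have a5 : ∀ t ∈ T, f t ∈ T := fun t ht => a2.mem_of_stronglyClosed hT (a1 ht) ht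
    obtain ⟨γ, b1, b2⟩ := (a2.mono a1).exists_aut' a5
    obtain ⟨u, b3, b4⟩ := exists_autInducedBy (a2.le hx) (hn (a2.le hx))
    have b5 := Transfer.mem_resOf b1 (cop_autFun.1 ((a4.mono a1).congr a5 b2))
    refine mem_imageAlong_of_mem θ ((hX _ (mul_mem (S.inv_mem (a2.le hx)) (a2.mem hx))).2 ⟨u⁻¹ * γ * u * γ⁻¹,
      mem_sup_left (mul_mem (Coprime.conj_mem' (Transfer.le_normalizer_resOf _) (autInducedBy_le_autGroup F hT.1 b3) b5)
        (Subgroup.inv_mem _ b5)), fun t ht => ?_⟩)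
    obtain ⟨t, ht', rfl⟩ : ∃ t' ∈ T, autFun γ t' = t := ⟨_, autFun_mem γ⁻¹ ht, autFun_autFun_inv γ ht⟩
    have b6 : autFun u⁻¹ (x * (x⁻¹ * f x * f t * (x⁻¹ * f x)⁻¹) * x⁻¹) = x⁻¹ * f x * f t * (x⁻¹ * f x)⁻¹ := by
      have := Coprime.conj_mem hn (mul_mem (S.inv_mem (a2.le hx)) (a2.mem hx)) (a5 t ht')
      rw [← b4 _ this, autFun_inv_autFun u this]
    rw [autFun_mul _ _ ht, autFun_inv_autFun γ ht', autFun_mul _ _ ht', autFun_mul _ _ (autFun_mem u ht'),
      b2 _ (autFun_mem u ht'), b4 t ht', a2.map_conj hx (a1 ht'), b2 t ht', ← b6]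
    congr 1; group
  intro x hx
  have hxS := hyperfocalSubgroup_le F p hx
  obtain ⟨α, h2, h3⟩ := (hX x hxS).1 ((IsFac.mem_image_iff hE inf_le_right hTX hxS).1
    (h1 (IsFac.hyp hE hs hT ▸ mem_imageAlong_of_mem θ hx)))
  exact ⟨α, h2, fun t => autFun_coe α t ▸ h3 t t.2⟩

end Cfsg.Agent.S5198
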