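import Cfsg.Statements.S5200
import Cfsg.Agent.Lib.Fus.ES
import Cfsg.Agent.Lib.Glaub.FF

set_option autoImplicit false
open Cfsg

namespace Cfsg.Agent.S5200

open Subgroup Cfsg.Lib Cfsg.Lib.Amalg Cfsg.Lib.Fus2 Cfsg.Lib.Glaub

open scoped commutatorElement

theorem norm_fixed {V Γ : Type*} [CommGroup V] [Group Γ] [Finite Γ] [MulDistribMulAction Γ V] (A : Subgroup Γ) (c : V)
    (hc : ∀ a ∈ A, a • c = c) (K : Subgroup V) (hK : ∀ γ : Γ, c⁻¹ * γ • c ∈ K) :
    ∃ d : V, (∀ γ : Γ, γ • d = d) ∧ (c ^ A.index)⁻¹ * d ∈ K := by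
  classical
  have := Fintype.ofFinite (Γ ⧸ A)
  let f : Γ ⧸ A → V := Quotient.lift (fun g => g • c) fun a b h => by
    have := hc _ (QuotientGroup.leftRel_apply.1 h)
    rw [mul_smul, inv_smul_eq_iff] at this
    exact this.symm
  refine ⟨∏ q, f q, fun γ => ?_, ?_⟩
  · rw [Finset.smul_prod', ← Equiv.prod_comp (MulAction.toPerm γ) f]
    refine Finset.prod_congr rfl fun q _ => ?_
    induction q using QuotientGroup.induction_on with
    | H g => exact (mul_smul γ g c).symm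
  · rw [index, Nat.card_eq_fintype_card, ← Finset.card_univ, ← Finset.prod_const, ← Finset.prod_inv_distrib,
      ← Finset.prod_mul_distrib]
    refine K.prod_mem fun q _ => ?_
    induction q using QuotientGroup.induction_on with
    | H g => exact hK g

variable {Ω : Type*} [Group Ω] {S T V : Subgroup Ω} [Finite S] {p : ℕ} [Fact p.Prime] {F : FusionSystem S} {c : Ω}

theorem exists_central_of_normal (hF : Fus.Sat p F) (hV : F.IsNormal V) (hc : V ≤ 𝐂 V) (h1 : c ∈ V) (h2 : c ∈ 𝐂 S) :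
    ∃ d ∈ F.center, ∃ n : ℕ, n.Coprime p ∧ (c ^ n)⁻¹ * d ∈ F.hyperfocalSubgroup p := by
  have := Fus2.finite_of_le hV.1
  have hA := (isFullyAutomized_iff.1 (hF.fa_of_fn (isFullyNormalized_of_le_normalizer F hV.1
    (le_normalizer_of_isNormal hV)))).2
  let : CommGroup V := { mul_comm := fun x y => Subtype.ext (hc y.2 x x.2) }
  have fx : ∀ a ∈ autInducedBy S V, autFun a c = c := fun a ha => by
    obtain ⟨g, hg, e⟩ := mem_autInducedBy_iff.1 ha
    rw [e c h1, h2 g hg, mul_inv_cancel_right]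
  obtain ⟨d, a, b⟩ := norm_fixed ((autInducedBy S V).subgroupOf (F.autGroup V)) (⟨c, h1⟩ : V)
    (fun a ha => Subtype.ext ((autFun_coe a.1 ⟨c, h1⟩).symm.trans (fx a ha))) ((F.hyperfocalSubgroup p).subgroupOf V)
    fun γ => by
      obtain ⟨r, hr, s, hs, e⟩ := hA.mem_res_mul γ.2
      have := inv_mul_mem_hyp (F := F) hV.1 ((resOf_eq_res (p := p) (F.autGroup V)).ge hr) h1
      rw [← fx s hs, ← autFun_mul _ _ h1, e, fx s hs] at this
      exact (autFun_coe γ.1 ⟨c, h1⟩ ▸ this :)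
  refine ⟨d, (mem_center_iff' hF).2 ⟨hV.1 d.2, fun P f hf hd => ?_⟩, _, ?_, b⟩
  · obtain ⟨g, h3, h4, h5⟩ := (isNormal_iff.1 hV).2 P f hf
    obtain ⟨α, h6, h7⟩ := (h3.mono le_sup_right).exists_aut h5
    rw [← h4 _ hd, ← h7 _ d.2, autFun_coe]
    exact congrArg _ (a ⟨α, h6⟩)
  · exact ((Nat.Prime.coprime_iff_not_dvd Fact.out).2 hA.not_dvd_relIndex).symm

theorem exists_central (hp : p ≠ 2) (hF : Fus.Sat p F) (h1 : c ∈ S) (h2 : c ∈ 𝐂 S) :
    ∃ d ∈ F.center, ∃ n : ℕ, n.Coprime p ∧ (c ^ n)⁻¹ * d ∈ F.hyperfocalSubgroup p := by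
  have hn := (fct_jF (p := p)).le_normalizer hF.pg
  obtain ⟨N, hN⟩ := Fus.exists_normalizerSystem F (amb_le (jF 0) S)
  have := Fus2.finite_of_le (normalizerIn_le S (amb (jF 0) S))
  have hs := sat_normalizer hF (isFullyNormalized_of_le_normalizer F (amb_le _ S) hn) hN
  have hJ := isNormal_normalizerSystem hN
  have hc : c ∈ amb (jF 0) S := ⟨⟨c, h1⟩, center_le_jA (G := S) ⟨trivial, fun y _ => Subtype.ext (h2 y y.2)⟩, rfl⟩
  obtain ⟨d, a, n, b, e⟩ := exists_central_of_normal (V := amb (jF 0) S ⊓ 𝐂 (amb (jF 0) S)) (c := c) hs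
    (Fus.normal_of_le_of_invariant hJ inf_le_left fun τ hτ x hx => ⟨hτ.mem hx.1, by
      have := (hτ.mor.mem_centralizerIn_img le_rfl hx.1 hx.2).2
      rwa [hτ.img_eq] at this⟩)
    (inf_le_right.trans (centralizer_le inf_le_left)) ⟨hc, centralizer_le (amb_le _ S) h2⟩
    (centralizer_le (normalizerIn_le _ _) h2)
  exact ⟨d, center_normalizer_jA hF (.inl hp) hN ▸ a, n, b, hyp_mono (sub_of_isNormalizerSystem hN) p e⟩

/-- Let F be a saturated fusion system over a finite p-group S and E a normal subsystem of F over T whose centralizer in S lies in T: every subgroup Y of C_S(T) such that E is contained in the centralizer fusion system of Y in F satisfies Y ≤ T. Then T·C_S(T)/T is abelian (the commutator subgroup of T·C_S(T) lies in T), and if p is odd then C_S(T) ≤ T. -/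
theorem result {Ω : Type*} [Group Ω] {S : Subgroup Ω} [Finite S] (p : ℕ) [Fact p.Prime] (hS : IsPGroup p S) (F : Cfsg.FusionSystem S) (hF : F.IsSaturated p) {T : Subgroup Ω} (E : Cfsg.FusionSystem T) (hE : E.IsNormalIn F p) (hCE : ∀ Y : Subgroup Ω, Y ≤ Cfsg.FusionSystem.centralizerIn S T → (∀ C : Cfsg.FusionSystem (Cfsg.FusionSystem.centralizerIn S Y), F.IsCentralizerSystem Y C → E.IsSubsystemOf C) → Y ≤ T) : ⁅T ⊔ Cfsg.FusionSystem.centralizerIn S T, T ⊔ Cfsg.FusionSystem.centralizerIn S T⁆ ≤ T ∧ (p ≠ 2 → Cfsg.FusionSystem.centralizerIn S T ≤ T) := by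
  have h := (Fus.isNormalIn_iff hS).1 hE
  have hT := h.toInv.le
  have key : ∀ Y, Fus.Cent F E Y → Y ≤ T := fun Y hY =>
    hCE Y hY.le fun C hC => (Fus.isCentralizerSystem_iff.1 hC).cent_iff.1 hY
  have hn : T ⊔ FusionSystem.centralizerIn S T ≤ 𝐍 T := Fus.hat_le_normalizer S T
  refine ⟨?_, fun hp c hc => ?_⟩
  · have h1 : ⁅T, T ⊔ FusionSystem.centralizerIn S T⁆ ≤ T := comm_le_left hn
    refine comm_sup_le h1 (comm_sup_le' (comm_le_right (le_sup_right.trans hn))
      (le_trans ?_ (key _ h.cent_centS)) le_normalizer (le_sup_right.trans hn)) le_normalizer (le_sup_right.trans hn)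
    refine commutator_le.2 fun x hx y hy => Fus.mem_centS.2 ⟨?_, fun R γ a1 a2 a3 a4 _ => ?_⟩
    · exact mul_mem (mul_mem (mul_mem hx hy) (inv_mem hx)) (inv_mem hy)
    have b : ∀ x ∈ FusionSystem.centralizerIn S T, x ∈ FusionSystem.centralizerIn S R ∧ x⁻¹ * γ x ∈ R ∧
        x⁻¹ * γ x ∈ 𝐂 R := fun x hx => by
      have b1 : x ∈ FusionSystem.centralizerIn S R := ⟨hx.1, centralizer_le a1.1 hx.2⟩
      have := (a2.mor.mem_centralizerIn_img le_sup_left (mem_sup_right b1) b1.2).2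
      rw [a4.img_eq] at this
      exact ⟨b1, a3.2 x (mem_sup_right b1), mul_mem (inv_mem b1.2) this⟩
    obtain ⟨b1, b2, b3⟩ := b x hx
    obtain ⟨c1, c2, c3⟩ := b y hy
    have e := a2.homOn
    have m1 := (mem_sup_right b1 : x ∈ Fus.hat S R)
    have m2 := (mem_sup_right c1 : y ∈ Fus.hat S R)
    rw [commutatorElement_def, e.map_mul (mul_mem (mul_mem m1 m2) (inv_mem m1)) (inv_mem m2),
      e.map_mul (mul_mem m1 m2) (inv_mem m1), e.map_mul m1 m2, e.map_inv m1, e.map_inv m2,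
      ← mul_inv_cancel_left x (γ x), ← mul_inv_cancel_left y (γ y)]
    generalize x⁻¹ * γ x = u at *
    generalize y⁻¹ * γ y = v at *
    have d1 : Commute u y := c1.2 u b2
    have d2 : Commute v x := b1.2 v c2
    have d3 : Commute u v := c3 u b2
    have d4 : Commute v y := c1.2 v c2
    calc x * u * (y * v) * (x * u)⁻¹ * (y * v)⁻¹ = x * (u * (y * v) * u⁻¹) * x⁻¹ * v⁻¹ * y⁻¹ := by group
      _ = x * y * (v * x⁻¹ * v⁻¹) * y⁻¹ := by rw [(d1.mul_right d3).eq]; group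
      _ = _ := by rw [d2.inv_right.eq]; group
  · obtain ⟨D, d1, d2, d3, -⟩ := h.exists_es
    have hle : T ⊔ zpowers c ≤ S := sup_le hT (zpowers_le.2 hc.1)
    have := Fus2.finite_of_le hle
    obtain ⟨F₀, f1⟩ := d1.exists_pIdx hle (d3.hyp.trans le_sup_left)
    have f2 := f1.sub_of h.satE d3.sub le_sup_left
    have f3 := Fus.isSubsystemOf_trans f1.sub d2
    obtain ⟨d, a, n, b, e⟩ := exists_central hp f1.sat (mem_sup_right (mem_zpowers c)) (le_cent_symm (sup_le
      (le_cent_symm (zpowers_le.2 hc.2)) (zpowers_le.2 (Core.centralizer_zpowers c ▸ mem_centralizer_singleton_iff.2 rfl))) (mem_zpowers c))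
    have a1 := Fus.central_iff_le_center.2 (zpowers_le.2 a)
    have a2 := key (zpowers d) (Fus.cent_of_ext (le_inf hT (le_sup_left.trans (Fus.central_le_centralizer a1)))
      fun P σ hσ => let ⟨τ, k1, k2, k3⟩ := (hσ.of_sub f2).ext_central a1; ⟨τ, k1.of_sub f3, k2, k3⟩) (mem_zpowers d)
    have a3 := (Fus.hyp_mono f1.sub).trans d3.hyp e
    obtain ⟨k, hk⟩ := isPGroup_iff_mem.1 hS c hc.1
    exact mem_of_coprime_pows (b.pow_right k) (by simpa using T.mul_mem a2 (T.inv_mem a3)) (hk ▸ one_mem T)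

end Cfsg.Agent.S5200
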