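import Cfsg.Statements.S5201
import Cfsg.Agent.Lib.Fus.Red
-- import your own Cfsg.Agent.* helpers here

set_option autoImplicit false
open Cfsg

namespace Cfsg.Agent.S5201

open Cfsg.FusionSystem Cfsg.Lib.Fus Equiv

/-- A reduction to normal subsystems. Let F be a saturated fusion system over a finite p-group S and E a normal subsystem of F over T whose centralizer in S lies in T (every subgroup Y of C_S(T) with E contained in the centralizer fusion system of Y in F satisfies Y ≤ T), and suppose Aut_F(T)/Aut_E(T) is p-solvable. Then F and E have the same residual limit: if F∞ is the residual limit of F (reached by alternately passing to the p-residual and the p'-residual subsystem until nothing changes) and E∞ that of E, then F∞ and E∞ have the same maps. -/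
theorem result {Ω : Type*} [Group Ω] {S : Subgroup Ω} [Finite S] (p : ℕ) [Fact p.Prime] (hS : IsPGroup p S) (F : Cfsg.FusionSystem S) (hF : F.IsSaturated p) {T : Subgroup Ω} (E : Cfsg.FusionSystem T) (hE : E.IsNormalIn F p) (hCE : ∀ Y : Subgroup Ω, Y ≤ Cfsg.FusionSystem.centralizerIn S T → (∀ C : Cfsg.FusionSystem (Cfsg.FusionSystem.centralizerIn S Y), F.IsCentralizerSystem Y C → E.IsSubsystemOf C) → Y ≤ T) [hn : ((E.autGroup T).subgroupOf (F.autGroup T)).Normal] (hsolv : Cfsg.IsPSolvable p (↥(F.autGroup T) ⧸ (E.autGroup T).subgroupOf (F.autGroup T))) {U V : Subgroup Ω} (Finf : Cfsg.FusionSystem U) (hFinf : Finf.IsResidualLimitOf F p) (Einf : Cfsg.FusionSystem V) (hEinf : Einf.IsResidualLimitOf E p) : ∀ P : Subgroup Ω, Finf.Hom P = Einf.Hom P := by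
  have h := (isNormalIn_iff hS).mp hE
  have := h.finite
  have hC : centS p F E ≤ T := hCE _ centS_le fun C hC =>
    (isCentralizerSystem_iff.mp hC).cent_iff.mp h.cent_centS
  obtain ⟨D, d1, d2, d3, d4⟩ := h.toWN.exists_envelope hsolv
  have := d1.finite
  obtain ⟨a1, -, a3, a4, -⟩ := h.satF.nrm_refl.residualLimit hFinf
  have k := d4 Finf a1.toWN a3 a4
  have hD := h.toWN.of_sub d1.satE d2 d1.sub
  have hTn := sc_le_normalizer h.sc
  have key : D.focalSubgroup ≤ T := focal_le_iff.mpr fun P σ k1 x hx => by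
    obtain ⟨β, α, b1, b2, e⟩ := hD.frat_plus hD.satF k1
    have b3 := b2.iso_of_wc (wc_of_sc hD.sc) le_sup_right
    obtain ⟨γ, c1, c2, c3⟩ := h.ext ((mem_autP le_rfl).mp (d3 b3.mem_autP))
    have c4 := c1.iso_sup_centralizerIn ((b3.of_sub d1.sub).congr c2)
    have c5 : Mor F (P ⊔ T) (γ⁻¹ * α) := (b2.of_sub d1.sub).comp c4.symm.mor fun _ => b2.mem
    have c6 : γ⁻¹ * α ∈ fixP T := inv_mul_mem_fixP.mpr fun y hy => (c2 y hy).symm
    have c7 : ∀ y ∈ P ⊔ T, y⁻¹ * α y ∈ T := fun y hy => by
      obtain ⟨t, ht, c, hc, rfl⟩ := mem_hat.mp (b2.le hy)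
      have hc' : c ∈ P ⊔ T := by simpa using mul_mem (inv_mem (Subgroup.mem_sup_right ht)) hy
      have e1 := hC (h.inv_mul_mem_centS c5 le_sup_right c6 hc' hc)
      have e2 : α c = γ c * γ (c⁻¹ * (γ⁻¹ * α) c) := by
        rw [← c1.homOn.map_mul (Subgroup.mem_sup_right hc) (Subgroup.mem_sup_left e1)]; simp
      rw [b2.homOn.map_mul (Subgroup.mem_sup_right ht) hc', e2]
      have := mul_mem (mul_mem (inv_conj_mem_of_mem_normalizer (hTn hc.1) (mul_mem (inv_mem ht) (b3.mem ht)))
        (c3 c hc)) (c1.mem_of_sc h.sc (Subgroup.mem_sup_left e1) e1)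
      convert this using 1; group
    have := mul_mem (b1.triv hD.toInv x hx) (c7 _ (b1.mem hD.toInv le_sup_right le_sup_left x hx))
    rw [e x hx]
    convert this using 1; group
  exact h.satF.nrm_refl.residualLimit_eq h hFinf hEinf (a3.ge.trans ((hyp_mono
    (a1.sub_of_le_of_opPrime a4 d1.toWN k)).trans ((hyp_le_focal D p).trans key))) (h.residualLimit hEinf).1.le

end Cfsg.Agent.S5201
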