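import Cfsg.Statements.S5203
import Cfsg.Agent.Lib.Fus2.OpSub

set_option autoImplicit false
open Cfsg

namespace Cfsg.Agent.S5203

open Cfsg.Lib.Fus2 Cfsg.Lib.Amalg Subgroup Cfsg.FusionSystem Cfsg.Lib

section
variable {Ω : Type*} [Group Ω] {S T U V : Subgroup Ω} {p : ℕ} {F : FusionSystem S}

theorem index_refl [Finite S] (F : FusionSystem S) : F.HasPPowerIndexIn F p :=
  hasPPowerIndexIn_iff.2 ⟨sub_refl F, hyperfocalSubgroup_le F p, fun _ _ _ h _ _ => h⟩

theorem res_unique {D D' : FusionSystem S} (h : F.IsPPrimeResidual p D) (h' : F.IsPPrimeResidual p D') : D = D' :=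
  fs_ext fun P => Set.Subset.antisymm (h.2.2 D' h'.1 h'.2.1 P) (h'.2.2 D h.1 h.2.1 P)

theorem lim_step {A : FusionSystem U} (h : A.IsResidualLimitOf F p) [Finite S] :
    ∃ (T : Subgroup Ω) (D D' : FusionSystem T), T = F.hyperfocalSubgroup p ∧ D.IsSaturated p ∧ D.HasPPowerIndexIn F p ∧
      D.IsPPrimeResidual p D' ∧ A.IsResidualLimitOf D' p := by
  cases h with
  | stable F p h1 h2 => exact ⟨_, F, F, h1.symm, h2.1, index_refl F, h2, .stable F p h1 h2⟩
  | step F p D D' h1 h2 h3 => exact ⟨_, D, D', rfl, h1.1, h1.2, h2, h3⟩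

theorem lim_of_stable {B : FusionSystem U} {F' : FusionSystem T} (hB : B.IsResidualLimitOf F' p) (hp : p.Prime)
    (e : T = S) (e' : ∀ P, F.Hom P = F'.Hom P) [Finite S] (hF : Fus.Sat p F) (h1 : F.hyperfocalSubgroup p = S)
    (h2 : F.IsPPrimeResidual p F) : ∀ P, F.Hom P = B.Hom P := by
  induction hB with
  | stable F' p _ _ => exact e'
  | @step S₁ _ F' p D D' a1 a2 _ ih =>
    subst e
    obtain rfl := fs_ext e'
    have := Fact.mk hp
    have key : ∀ (T : Subgroup Ω) (D D' : FusionSystem T), T = S₁ → D.IsSaturated p → D.HasPPowerIndexIn F p →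
        D.IsPPrimeResidual p D' → ∀ P, F.Hom P = D'.Hom P := by
      rintro _ D D' rfl b1 b2 b3
      obtain rfl := eq_of_index hF (index_refl F) ⟨hF.pg, b1⟩ b2
      obtain rfl := res_unique h2 b3
      exact fun _ => rfl
    exact ih hp h1 (key _ D D' h1 a1.1 a1.2 a2) hF h1 h2

theorem lim_unique {A : FusionSystem U} (hA : A.IsResidualLimitOf F p) (hp : p.Prime) (hS : Finite S)
    (hF : Fus.Sat p F) {B : FusionSystem V} (hB : B.IsResidualLimitOf F p) : ∀ P, A.Hom P = B.Hom P := by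
  induction hA with
  | stable F p h1 h2 => exact lim_of_stable hB hp rfl (fun _ => rfl) hF h1 h2
  | step F p D D' a1 a2 _ ih =>
    have := Fact.mk hp
    obtain ⟨_, D₂, D₂', rfl, b1, b2, b3, b4⟩ := lim_step hB
    have c1 := hyperfocalSubgroup_le F p
    have := finite_of_le c1
    obtain rfl := eq_of_index ⟨hF.pg.to_le c1, a1.1⟩ a1.2 ⟨hF.pg.to_le c1, b1⟩ b2
    obtain rfl := res_unique a2 b3
    exact ih hp this ⟨hF.pg.to_le c1, a2.1⟩ b4

end

/-- Let F be a saturated fusion system over a finite p-group S and E a normal subsystem of F over T that has p-power index in F. Then every residual limit of E has the same maps as every residual limit of F (the residual limit is reached by alternately passing to the p-residual and the p'-residual subsystem until nothing changes). -/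
theorem result {Ω : Type*} [Group Ω] {S : Subgroup Ω} [Finite S] (p : ℕ) [Fact p.Prime] (hS : IsPGroup p S) (F : Cfsg.FusionSystem S) (hF : F.IsSaturated p) {T : Subgroup Ω} (E : Cfsg.FusionSystem T) (hE : E.IsNormalIn F p) (hidx : E.HasPPowerIndexIn F p) {U V : Subgroup Ω} (Finf : Cfsg.FusionSystem U) (hFinf : Finf.IsResidualLimitOf F p) (Einf : Cfsg.FusionSystem V) (hEinf : Einf.IsResidualLimitOf E p) : ∀ P : Subgroup Ω, Finf.Hom P = Einf.Hom P := by
  have h1 : Fus.Sat p F := ⟨hS, hF⟩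
  have hT := le_of_isSubsystemOf hidx.1
  have := finite_of_le hT
  obtain ⟨_, D, D', rfl, a1, a2, a3, a4⟩ := lim_step hFinf
  obtain ⟨T₂, D₂, D₂', e, b1, b2, b3, b4⟩ := lim_step hEinf
  rw [hyp_eq_of_index h1 hidx] at e
  subst e
  have c1 := hyperfocalSubgroup_le F p
  have := finite_of_le c1
  obtain ⟨d1, d2, d3⟩ := hasPPowerIndexIn_iff.1 hidx
  obtain ⟨e1, e2, e3⟩ := hasPPowerIndexIn_iff.1 b2
  obtain rfl := eq_of_index ⟨hS.to_le c1, a1⟩ a2 ⟨hS.to_le c1, b1⟩ (hasPPowerIndexIn_iff.2 ⟨sub_trans e1 d1, le_rfl,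
    fun P f hP hf hm hc => e3 P f hP (d3 P f (hP.trans d2) hf hm hc) hm hc⟩)
  obtain rfl := res_unique a3 b3
  exact lim_unique a4 Fact.out this ⟨hS.to_le c1, a3.1⟩ b4

end Cfsg.Agent.S5203
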