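import Cfsg.Statements.S5212
import Cfsg.Agent.Lib.Fus3.MetaAut

set_option autoImplicit false
open Cfsg

namespace Cfsg.Agent.S5212

open Cfsg.Lib Cfsg.Lib.Fus

/-- Let S be a finite metacyclic 2-group that is not homocyclic abelian (a direct product of cyclic groups of one common order), not dihedral, not semidihedral and not generalized quaternion. Then every saturated fusion system over S is the inner fusion system of S. -/
theorem result {Ω : Type*} [Group Ω] {S : Subgroup Ω} [Finite S] (hS : IsPGroup 2 S) (F : Cfsg.FusionSystem S) (hF : F.IsSaturated 2) (hm : Cfsg.IsMetacyclic ↥S) (hh : ¬ ∃ n k : ℕ, Nonempty (↥S ≃* Multiplicative (Fin k → ZMod (2 ^ n)))) (hd : ¬ ∃ m : ℕ, Nonempty (↥S ≃* DihedralGroup m)) (hq : ¬ ∃ m : ℕ, Nonempty (↥S ≃* QuaternionGroup m)) (hsd : ¬ Cfsg.IsQuasiDihedral ↥S) : ∀ P : Subgroup Ω, F.Hom P = (Cfsg.innerFusionSystem S).Hom P := by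
  obtain ⟨a, b, hn, hs⟩ := PGrp.isMetacyclic_iff.mp hm
  refine hom_eq_inner_iff.mpr fun P σ h => Sat.inner_of_metacyclic ⟨hS, hF⟩ hn hs (fun _ _ h =>
    h.cases.elim (fun h => hd ⟨_, h⟩) fun h => h.elim (fun h => hq ⟨_, h⟩) hsd) (fun n _ _ ⟨e⟩ => hh ⟨n, 2, ⟨?_⟩⟩) h
  exact e.trans ((MulEquiv.prodMultiplicative _ _).symm.trans
    (AddEquiv.toMultiplicative (LinearEquiv.finTwoArrow ℤ (ZMod (2 ^ n))).symm.toAddEquiv))

end Cfsg.Agent.S5212
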