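import Cfsg.Statements.S5213
import Cfsg.Agent.Lib.R2.Fus

set_option autoImplicit false
open Cfsg

namespace Cfsg.Agent.S5213

open Cfsg.Lib
set_option linter.style.haveILetI false

/-- Let S be a finite 2-group of 2-rank 2 (it has an elementary abelian subgroup of order 4 and none of order 8) and F a saturated fusion system over S with trivial centre. Then S is dihedral, semidihedral, wreathed, homocyclic abelian (a direct product of cyclic groups of one common order), or isomorphic to a Sylow 2-subgroup of the projective special unitary group PSU₃(4) (realised over the field with 16 elements). -/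
theorem result {Ω : Type*} [Group Ω] {S : Subgroup Ω} [Finite S] (hS : IsPGroup 2 S) (F : Cfsg.FusionSystem S) (hF : F.IsSaturated 2) (hr : Cfsg.PRankAtLeast 2 2 ↥S ∧ ¬ Cfsg.PRankAtLeast 2 3 ↥S) (hZ : F.center = ⊥) {K : Type*} [Field K] [Fintype K] (hK : Fintype.card K = 16) : (∃ m : ℕ, Nonempty (↥S ≃* DihedralGroup m)) ∨ Cfsg.IsQuasiDihedral ↥S ∨ Cfsg.IsWreathed ↥S ∨ (∃ n k : ℕ, Nonempty (↥S ≃* Multiplicative (Fin k → ZMod (2 ^ n)))) ∨ ∃ T : Sylow 2 (Cfsg.PSU 3 K 4), Nonempty (↥S ≃* ↥(T : Subgroup (Cfsg.PSU 3 K 4))) := by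
  have : Fact (Nat.Prime 2) := ⟨Nat.prime_two⟩
  obtain ⟨σ, c⟩ := Forms.isConj_of_card (q := 4) hK
  obtain ⟨z, -, z2, hz⟩ := Invol.exists_central (hS.to_subgroup ⊤) fun e => by
    obtain ⟨A, -, -, h⟩ := hr.1
    have := Subgroup.card_le_of_le (le_top.trans e.le : A ≤ ⊥)
    rw [Subgroup.card_bot] at this; omega
  have h2 : R2.Rk2 S := fun E hE h => by
    by_contra h4
    refine hr.2 ⟨E.subgroupOf S, R2.comm_of_sq fun x hx => Subtype.ext (h _ hx), fun x hx => Subtype.ext ((sq _).trans (h _ hx)), ?_⟩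
    obtain ⟨k, hk⟩ := (hS.to_subgroup (E.subgroupOf S)).exists_card_eq
    rw [← Nat.card_congr (Subgroup.subgroupOfEquivOfLe hE).toEquiv, hk] at h4
    rw [hk]
    refine Nat.pow_le_pow_right two_pos (not_le.1 fun h => h4 (Nat.pow_le_pow_right two_pos h))
  rcases R2.fus_classify (F := F) c ⟨hS, hF⟩ h2 (z := (z : Ω)) ⟨z.2, fun x hx => congrArg Subtype.val (hz ⟨x, hx⟩ trivial).symm⟩
    (by rwa [Subgroup.orderOf_coe]) (fun e => Invol.ne_one_of_two z2 (Subtype.ext (Subgroup.mem_bot.1 (hZ ▸ e))))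
    with ⟨m, -, h⟩ | h | h | ⟨n, -, ⟨f⟩⟩ | ⟨⟨f⟩⟩
  · exact Or.inl ⟨m, h⟩
  · exact Or.inr (Or.inl h)
  · exact Or.inr (Or.inr (Or.inl h))
  · exact Or.inr (Or.inr (Or.inr (Or.inl ⟨n, 2, ⟨f.trans (AddEquiv.toMultiplicative (LinearEquiv.finTwoArrow ℤ _).symm.toAddEquiv)⟩⟩)))
  · obtain ⟨e⟩ := U3.sylow_psu c (p := 2) (k := 2) rfl default
    exact Or.inr (Or.inr (Or.inr (Or.inr ⟨_, ⟨f.trans e.symm⟩⟩)))

end Cfsg.Agent.S5213
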