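import Cfsg.Statements.S5214
import Cfsg.Agent.S1137
import Cfsg.Agent.S1138
import Cfsg.Agent.Lib.Fus.Normal

set_option autoImplicit false
open Cfsg

namespace Cfsg.Agent.S5214

open Cfsg.Lib Cfsg.Lib.Fus Subgroup
set_option linter.style.haveILetI false

/-- Let S be a Suzuki 2-group (a finite nonabelian 2-group with more than one involution admitting a cyclic group of automorphisms permuting its involutions regularly). Then S is normal in every saturated fusion system over S (such a group is resistant). -/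
theorem result {Ω : Type*} [Group Ω] {S : Subgroup Ω} [Finite S] (hS : IsPGroup 2 S) (F : Cfsg.FusionSystem S) (hF : F.IsSaturated 2) (hsz : Cfsg.IsSuzukiTwoGroup ↥S) : F.IsNormal S := by
  have : Fact (Nat.Prime 2) := ⟨Nat.prime_two⟩
  have h0 : Sat 2 F := ⟨hS, hF⟩
  obtain ⟨h1, h2⟩ := S1137.result hsz
  obtain ⟨-, h3, -⟩ := S1138.result hsz
  have key : ∀ x, x ∈ (center S).map S.subtype ↔ x ∈ S ∧ x * x = 1 := fun x => ⟨by
    rintro ⟨y, hy, rfl⟩
    exact ⟨y.2, congrArg Subtype.val (h2 y hy)⟩, fun ⟨a, b⟩ => ⟨⟨x, a⟩, (eq_or_ne (⟨x, a⟩ : S) 1).elim (fun e => e ▸ one_mem _)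
      fun e => ((h1 _).1 ⟨e, Subtype.ext b⟩).1, rfl⟩⟩
  refine h0.normal_of_chain (fun i => match i with | 0 => ⊥ | 1 => (center S).map S.subtype | _ + 2 => S) 2 rfl rfl
    (by rintro (_ | _ | i); exacts [bot_le, map_subtype_le _, le_rfl]) (by
      rintro (_ | _ | i)
      exacts [sc_bot F, stronglyClosed_iff.2 ⟨map_subtype_le _, fun R σ h x hx hz => (key _).2 ⟨h.mem hx, by
        rw [← h.homOn.map_mul hx hx, ((key x).1 hz).2, h.homOn.map_one]⟩⟩, sc_top F]) ?_
  rintro (_ | _ | i) hi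
  · refine commutator_le.2 fun g hg x hx => ?_
    obtain ⟨y, hy, rfl⟩ := hx
    exact mem_bot.2 (commutatorElement_eq_one_iff_mul_comm.2 (congrArg Subtype.val (mem_center_iff.1 hy ⟨g, hg⟩)))
  · exact commutator_le.2 fun g hg x hx => ⟨_, h3 ⟨g, hg⟩⁻¹ ⟨x, hx⟩⁻¹, by simp [commutatorElement_def]⟩
  · omega

end Cfsg.Agent.S5214
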