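import Cfsg.Statements.S5215
import Cfsg.Agent.Lib.Fus.RzF
-- import your own Cfsg.Agent.* helpers here

set_option autoImplicit false
open Cfsg

namespace Cfsg.Agent.S5215

open Cfsg.FusionSystem Cfsg.Lib.Fus Equiv

/-- Let S be a finite 2-group of 2-rank 2 (an elementary abelian subgroup of order 4, none of order 8) and F a simple saturated fusion system over S. Then S is dihedral, semidihedral or wreathed, and F is the fusion system of the projective special linear group PSL₂(q) for some odd prime power q ≡ ±1 (mod 8) or of PSL₃(q) for some odd prime power q: it is realized by an injective homomorphism of S into that group whose image is a Sylow 2-subgroup. -/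
theorem result {Ω : Type*} [Group Ω] {S : Subgroup Ω} [Finite S] (hS : IsPGroup 2 S) (F : Cfsg.FusionSystem S) (hF : F.IsSaturated 2) (hr : Cfsg.PRankAtLeast 2 2 ↥S ∧ ¬ Cfsg.PRankAtLeast 2 3 ↥S) (hsimple : F.IsSimple 2) : ((∃ m : ℕ, Nonempty (↥S ≃* DihedralGroup m)) ∨ Cfsg.IsQuasiDihedral ↥S ∨ Cfsg.IsWreathed ↥S) ∧ ∃ (K : Type) (_ : Field K) (_ : Fintype K) (q : ℕ), Fintype.card K = q ∧ Odd q ∧ (((q % 8 = 1 ∨ q % 8 = 7) ∧ ∃ ι : ↥S →* Matrix.ProjectiveSpecialLinearGroup (Fin 2) K, F.IsRealizedBy ι ∧ ∃ T : Sylow 2 (Matrix.ProjectiveSpecialLinearGroup (Fin 2) K), (T : Subgroup (Matrix.ProjectiveSpecialLinearGroup (Fin 2) K)) = ι.range) ∨ (∃ ι : ↥S →* Matrix.ProjectiveSpecialLinearGroup (Fin 3) K, F.IsRealizedBy ι ∧ ∃ T : Sylow 2 (Matrix.ProjectiveSpecialLinearGroup (Fin 3) K), (T : Subgroup (Matrix.ProjectiveSpecialLinearGroup (Fin 3) K)) = ι.range)) := by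
  have : Fact (Nat.Prime 2) := ⟨Nat.prime_two⟩
  have hF' : Sat 2 F := ⟨hS, hF⟩
  have hc : Nat.card S ≠ 2 := fun e => by
    obtain ⟨A, -, -, h⟩ := hr.1
    have := Subgroup.card_le_card_group A
    omega
  have h0 : ∀ Q, F.IsNormal Q → Q = ⊥ := fun Q => eq_bot_of_simple hF' hsimple hc
  have hf := le_focal_of_simple hF' hsimple hc
  rcases hF'.rank_two_cases hr (h0 _ (normal_of_central (central_center F))) with h | ⟨a, b, m, h, hd⟩ | hd | hd
  · exact absurd (h0 _ h) hsimple.2.1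
  · have ht : MType m (-1) 0 := Or.inl ⟨rfl, rfl⟩
    obtain ⟨K, _, _, c, hK⟩ := exists_sb (m + 1)
    obtain ⟨u, -, hu⟩ := hK.card
    have e : Fintype.card K % 8 = 1 := by
      rw [← Nat.card_eq_fintype_card, hu, show 2 ^ (m + 1 + 2) * u + 1 = 8 * (2 ^ m * u) + 1 by ring]; omega
    exact ⟨Or.inl hd, K, inferInstance, inferInstance, _, rfl, Nat.odd_iff.2 (by omega), Or.inl ⟨Or.inl e,
      h.realized_rd ht hF' hK.rd_PSL (iff_true_intro ((h.mx ht).act_of_focal hF' hf h.hb h.not_mem))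
        (iff_true_intro ((h.mx ht).act_of_focal hF' hf (mul_mem h.hb h.ha) h.not_mem'))⟩⟩
  · obtain ⟨a, b, m, hm, h⟩ := mr_of_qd hd
    have ht : MType m (2 ^ (m + 1) - 1) 0 := Or.inr (Or.inr ⟨hm, rfl, rfl⟩)
    obtain ⟨K, _, _, h3, u, hu, hK⟩ := exists_field_three m hm
    exact ⟨Or.inr (Or.inl hd), K, inferInstance, inferInstance, _, rfl,
      Nat.odd_iff.2 (by rw [← Nat.card_eq_fintype_card]; omega), Or.inr
      (h.realized_rd ht hF' (rd_PSL3 hm h3 hu hK) (iff_true_intro ((h.mx ht).act_of_focal hF' hf h.hb h.not_mem))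
        (iff_true_intro ((h.mx ht).act_of_focal hF' hf (mul_mem h.hb h.ha) h.not_mem')))⟩
  · obtain ⟨x, y, z, n, h⟩ := wr_of_isWreathed hd
    obtain ⟨K, _, _, c, hK⟩ := exists_sb n
    obtain ⟨u, -, hu⟩ := hK.card
    obtain ⟨k1, k2⟩ := h.ess_of_core hF' h0
    exact ⟨Or.inr (Or.inr hd), K, inferInstance, inferInstance, _, rfl, Nat.odd_iff.2 (by
      rw [← Nat.card_eq_fintype_card, hu, show 2 ^ (n + 2) * u + 1 = 2 * (2 ^ (n + 1) * u) + 1 by ring]; omega),
      Or.inr (h.realized_wd hF' hK.wd_PSL k1 (iff_true_intro k2))⟩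

end Cfsg.Agent.S5215
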