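import Cfsg.Statements.S5220
import Cfsg.Agent.Lib.Glaub.FF

set_option autoImplicit false
open Cfsg

namespace Cfsg.Agent.S5220

open Cfsg.FusionSystem Cfsg.Lib.Fus2 Cfsg.Lib.Amalg Subgroup Cfsg.Lib Cfsg.Lib.Glaub Cfsg.Lib.Transfer

/-- Let F be a saturated fusion system over a nontrivial finite p-group S, let J(S) be the subgroup generated by the abelian subgroups of S of largest order, and let V be the subgroup generated by the p-th powers of the elements of Z(S). Then F is generated by the centralizer fusion system of V and the normalizer fusion system of J(S): every fusion system over S containing the maps of both contains every map of F. -/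
theorem result {Ω : Type*} [Group Ω] {S : Subgroup Ω} [Finite S] (p : ℕ) [Fact p.Prime] (hS : IsPGroup p S) (F : Cfsg.FusionSystem S) (hF : F.IsSaturated p) (hS1 : S ≠ ⊥) (C : Cfsg.FusionSystem (Cfsg.FusionSystem.centralizerIn S (Cfsg.powerClosure p 1 (S ⊓ Subgroup.centralizer (S : Set Ω))))) (hC : F.IsCentralizerSystem (Cfsg.powerClosure p 1 (S ⊓ Subgroup.centralizer (S : Set Ω))) C) (N : Cfsg.FusionSystem (Cfsg.FusionSystem.normalizerIn S (Cfsg.thompsonSubgroupAOf S))) (hN : F.IsNormalizerSystem (Cfsg.thompsonSubgroupAOf S) N) (E : Cfsg.FusionSystem S) (hCE : C.IsSubsystemOf E) (hNE : N.IsSubsystemOf E) : F.IsSubsystemOf E := by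
  revert N
  rw [jA_eq]
  intro N hN hNE
  refine family_control (fcls_true p) (.two fct_jF (op_power p 1)) False (fun G _ _ P a _ D _ b => ?_) ⟨hS, hF⟩ trivial
    le_rfl False.elim fun P f hf => ((Fam.gens_two _ _).1 hf).elim (fun h => ((mor_iff_nMor hN).2 h).of_sub hNE)
      fun h => ((isCentralizerSystem_iff.1 hC _ _).2 h).of_sub hCE
  rw [gens_iff_gSub P.isPGroup', subs_two, amb_jF] at b
  exact gSub_top_iff.1 (gSub_of_jA (charP_top.2 a) (syl_top P) le_rfl (b _ (.inl rfl)) (b _ (.inr rfl)) ⊤ le_top)

end Cfsg.Agent.S5220
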