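import Cfsg.Statements.S5222
import Cfsg.Agent.Lib.Fus2.Tate

set_option autoImplicit false
open Cfsg

namespace Cfsg.Agent.S5222

open Cfsg.Lib.Fus2 Cfsg.Lib.Amalg Subgroup Cfsg.FusionSystem Cfsg.Lib

/-- Let F be a saturated fusion system over a finite p-group S whose normalizer fusion system of S is the inner fusion system of S (Aut_F(S) is a p-group). Then for every subgroup Q of S with [S, S] ≤ Q ≤ Φ(S), the normalizer fusion system of Q in F is the inner fusion system of N_S(Q) = S. -/
theorem result {Ω : Type*} [Group Ω] {S : Subgroup Ω} [Finite S] (p : ℕ) [Fact p.Prime] (hS : IsPGroup p S) (F : Cfsg.FusionSystem S) (hF : F.IsSaturated p) (hN : ∀ N : Cfsg.FusionSystem (Cfsg.FusionSystem.normalizerIn S S), F.IsNormalizerSystem S N → ∀ P : Subgroup Ω, N.Hom P = (Cfsg.innerFusionSystem (Cfsg.FusionSystem.normalizerIn S S)).Hom P) (Q : Subgroup Ω) (h1 : (commutator ↥S).map S.subtype ≤ Q) (h2 : Q ≤ (frattini ↥S).map S.subtype) : ∀ N : Cfsg.FusionSystem (Cfsg.FusionSystem.normalizerIn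 S Q), F.IsNormalizerSystem Q N → ∀ P : Subgroup Ω, N.Hom P = (Cfsg.innerFusionSystem (Cfsg.FusionSystem.normalizerIn S Q)).Hom P := by
  rw [map_commutator_subtype] at h1
  have hQ : Q ≤ S := h2.trans (Core.frattiniOf_le S)
  have hn : S ≤ normalizer (Q : Set Ω) :=
    le_normalizer_iff_commutator_le_left.2 ((commutator_mono hQ le_rfl).trans h1)
  have key : ∀ (T : Subgroup Ω) (N : FusionSystem T), T = S → Fus.Sat p N → N.IsSubsystemOf F → N.StronglyClosed Q →
      N.IsSubsystemOf (innerFusionSystem T) := by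
    rintro _ N rfl a1 a2 a3
    refine sub_of_sc_le_frattini a1 a3 h1 h2 (fun f hf => ?_) le_rfl
    obtain ⟨s, hs, e⟩ := conj_of_normalizer_inner le_rfl hN (hf.of_sub a2).nMor_top
    exact ⟨s, hs.1, e⟩
  intro N hN'
  exact inner_iff_sub.2 (key _ N (normalizerIn_eq_of_le hn)
    (sat_normalizer ⟨hS, hF⟩ (isFullyNormalized_of_le_normalizer F hQ hn) hN') (sub_of_isNormalizerSystem hN')
    (stronglyClosed_of_isNormal (isNormal_normalizerSystem hN')))

end Cfsg.Agent.S5222
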