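import Cfsg.Statements.S5223
import Cfsg.Agent.Lib.Fus.Misc
-- import your own Cfsg.Agent.* helpers here

set_option autoImplicit false
open Cfsg

namespace Cfsg.Agent.S5223

open Cfsg.FusionSystem Cfsg.Lib.Fus Equiv

/-- Let F be a saturated fusion system over a finite p-group S. Suppose there are subgroups Q₀ = S, Q₁, …, Qₙ = 1 (not required to be nested) such that for each i < n the focal subgroup of Qᵢ (generated by the elements x⁻¹φ(x), x ∈ Qᵢ, φ a map of F defined on the cyclic group generated by x) lies in Qᵢ₊₁. Then F is the inner fusion system of S. -/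
theorem result {Ω : Type*} [Group Ω] {S : Subgroup Ω} [Finite S] (p : ℕ) [Fact p.Prime] (hS : IsPGroup p S) (F : Cfsg.FusionSystem S) (hF : F.IsSaturated p) (n : ℕ) (Q : Fin (n + 1) → Subgroup Ω) (hQ0 : Q 0 = S) (hQn : Q (Fin.last n) = ⊥) (hstep : ∀ i : Fin n, Subgroup.closure {y : Ω | ∃ x ∈ Q i.castSucc, ∃ φ ∈ F.Hom (Subgroup.zpowers x), y = x⁻¹ * φ ⟨x, Subgroup.mem_zpowers x⟩} ≤ Q i.succ) : ∀ P : Subgroup Ω, F.Hom P = (Cfsg.innerFusionSystem S).Hom P := by
  have hsat : Sat p F := ⟨hS, hF⟩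
  let B : ℕ → Subgroup Ω := fun n => Nat.rec S
    (fun _ X => Subgroup.closure {y | ∃ x ∈ X, ∃ σ, Mor F (Subgroup.zpowers x) σ ∧ y = x⁻¹ * σ x}) n
  have hB : ∀ i, B (i + 1) =
    Subgroup.closure {y | ∃ x ∈ B i, ∃ σ, Mor F (Subgroup.zpowers x) σ ∧ y = x⁻¹ * σ x} := fun _ => rfl
  have h1 : ∀ i, B (i + 1) ≤ B i := by
    intro i
    induction i with
    | zero =>
      rw [hB, Subgroup.closure_le]
      rintro _ ⟨x, hx, σ, hσ, rfl⟩
      exact S.mul_mem (S.inv_mem hx) (hσ.mem (Subgroup.mem_zpowers x))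
    | succ i ih =>
      rw [hB (i + 1)]
      exact Subgroup.closure_mono fun y ⟨x, hx, h⟩ => ⟨x, ih hx, h⟩
  have h2 : ∀ i : Fin (n + 1), B i ≤ Q i := fun i => Fin.induction hQ0.ge (fun j ih => by
    refine le_trans ?_ (hstep j)
    rw [Fin.val_succ, hB]
    refine Subgroup.closure_mono ?_
    rintro _ ⟨x, hx, σ, hσ, rfl⟩
    exact ⟨x, ih hx, _, hσ.toHom_mem, rfl⟩) i
  have h3 : B n = ⊥ := le_bot_iff.mp (hQn ▸ h2 (Fin.last n))
  refine hom_eq_inner_iff.mpr fun P σ hσ => hsat.inner_of_pMod (fun R hR => ?_) hσ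
  have hRS := (hsat.cr_of_top_or_essential hR).1.1
  have h4 : ∀ i, ∀ τ ∈ autP F R, ∀ x ∈ R ⊓ B i, x⁻¹ * τ x ∈ R ⊓ B (i + 1) := fun i τ hτ x hx =>
    have hτ' := (mem_autP hRS).mp hτ
    ⟨R.mul_mem (R.inv_mem hx.1) (hτ'.mem hx.1), Subgroup.subset_closure
      ⟨x, hx.2, τ, hτ'.mor.mono (Subgroup.zpowers_le.mpr hx.1), rfl⟩⟩
  have key : ∀ k, k ≤ n → PMod p (fixP (R ⊓ B (n - k))) (autP F R) := by
    intro k
    induction k with
    | zero =>
      intro _
      rw [Nat.sub_zero, h3, inf_bot_eq]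
      exact pMod_of_le fun τ hτ x hx => by rw [Subgroup.mem_bot.mp hx, (autP_le_autAll F R hτ).1.map_one]
    | succ k ih =>
      intro hk
      have h5 := ih (by omega)
      rw [show n - k = n - (k + 1) + 1 by omega] at h5
      have : Finite ↥(R ⊓ B (n - (k + 1) + 1)) := finite_of_le (inf_le_left.trans hRS)
      refine PMod.of_trivMod (hS.to_le (inf_le_left.trans hRS)) (inf_le_inf_left R (h1 _)) (fun τ hτ => ?_) h5
      refine ⟨((((mem_autP hRS).mp hτ).mor.mono inf_le_left).iso_self fun x hx => ?_).mem_autAll, h4 _ τ hτ⟩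
      simpa using Subgroup.mul_mem _ hx (inf_le_inf_left R (h1 _) (h4 _ τ hτ x hx))
  have := key n le_rfl
  rwa [Nat.sub_self, show B 0 = S from rfl, inf_eq_left.mpr hRS] at this

end Cfsg.Agent.S5223
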