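import Cfsg.Statements.S5225
import Cfsg.Agent.Lib.Fus2.Yos

set_option autoImplicit false
open Cfsg

namespace Cfsg.Agent.S5225

open Cfsg.Lib.Fus2 Cfsg.Lib.Amalg Subgroup Cfsg.FusionSystem Cfsg.Lib

/-- Yoshida's Theorem for fusion systems. Let F be a saturated fusion system over a finite p-group S and N the normalizer fusion system of S in F. If the focal subgroups of F and N differ (N does not control transfer in F), then S has a quotient isomorphic to the wreath product C_p ≀ C_p (realised as a Sylow p-subgroup of the symmetric group of degree p²). -/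
theorem result {Ω : Type*} [Group Ω] {S : Subgroup Ω} [Finite S] (p : ℕ) [Fact p.Prime] (hS : IsPGroup p S) (F : Cfsg.FusionSystem S) (hF : F.IsSaturated p) (N : Cfsg.FusionSystem (Cfsg.FusionSystem.normalizerIn S S)) (hN : F.IsNormalizerSystem S N) (hne : N.focalSubgroup ≠ F.focalSubgroup) : ∃ (W : Sylow p (Equiv.Perm (Fin (p ^ 2)))) (f : ↥S →* ↥(W : Subgroup (Equiv.Perm (Fin (p ^ 2))))), Function.Surjective f := by
  have key : ∀ (T : Subgroup Ω) (N : FusionSystem T), T = S → Fus.Sat p N → N.IsSubsystemOf F →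
      (∀ f, Mor F S f → Mor N S f) → N.focalSubgroup ≠ F.focalSubgroup → WrQ p S := by
    rintro _ N rfl a1 a2 a3 a4
    exact yoshida ⟨hS, hF⟩ a1 a2 a3 a4
  exact key _ N (normalizerIn_self S) (sat_normalizer ⟨hS, hF⟩ (fn_top F) hN) (sub_of_isNormalizerSystem hN)
    (fun f hf => (mor_iff_nMor hN).2 hf.nMor_top) hne

end Cfsg.Agent.S5225
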