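import Cfsg.Statements.S5226
import Cfsg.Agent.Lib.Fus.Misc
import Cfsg.Agent.S5088
-- import your own Cfsg.Agent.* helpers here

set_option autoImplicit false
open Cfsg

namespace Cfsg.Agent.S5226

open Cfsg.FusionSystem Cfsg.Lib.Fus Equiv

/-- Let F be a saturated fusion system over a finite p-group S and Q a subgroup of S. Then Q is normal in F (F equals the normalizer system of Q) if and only if Q is strongly closed in F and admits a central series 1 = Q₀ ≤ Q₁ ≤ ⋯ ≤ Qₙ = Q ([Qᵢ₊₁, Q] ≤ Qᵢ) all of whose proper terms are weakly closed in F. -/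
theorem result {Ω : Type*} [Group Ω] {S : Subgroup Ω} [Finite S] (p : ℕ) [Fact p.Prime] (hS : IsPGroup p S) (F : Cfsg.FusionSystem S) (hF : F.IsSaturated p) (Q : Subgroup Ω) : F.IsNormal Q ↔ F.StronglyClosed Q ∧ ∃ (n : ℕ) (C : Fin (n + 1) → Subgroup Ω), C 0 = ⊥ ∧ C (Fin.last n) = Q ∧ Monotone C ∧ (∀ i : Fin n, ⁅C i.succ, Q⁆ ≤ C i.castSucc) ∧ ∀ i : Fin n, F.WeaklyClosed (C i.castSucc) := by
  have hsat : Sat p F := ⟨hS, hF⟩
  constructor
  · intro h
    obtain ⟨n, C, h1, h2, h3, h4⟩ := (Cfsg.Agent.S5088.result p hS F hF Q).mp h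
    refine ⟨sc_of_normal h, n, C, h1, h2, h3, fun i => by rw [Subgroup.commutator_comm]; exact (h4 i).2, fun i => ?_⟩
    refine wc_of_sc (Fin.induction (motive := fun j => F.StronglyClosed (C j)) (h1 ▸ sc_bot F) (fun j _ => (h4 j).1) _)
  · rintro ⟨hQ, n, C, h1, h2, h3, h4, h5⟩
    have hCQ : ∀ i, C i ≤ Q := fun i => h2 ▸ h3 (Fin.le_last i)
    have h6 : ∀ i, F.WeaklyClosed (C i) := fun i => Fin.lastCases (h2 ▸ wc_of_sc hQ) h5 i
    have h7 : ∀ i, ∀ g ∈ Q, cj g ∈ opP p F (C i) := fun i => Fin.induction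
      (fun g _ => fixP_le_opP p F _ fun x hx => by
        rw [h1, Subgroup.mem_bot] at hx; rw [hx, cj_apply, mul_one, mul_inv_cancel])
      (fun j ih g hg => mem_opP_of_trivMod hS (iso_cj F (h6 _).1 (hQ.1 hg) (wc_le_normalizer (h6 _) (hQ.1 hg)))
        (h3 (Fin.castSucc_le_succ j)) (fun τ hτ x => hτ.mor.mem_of_wc (h6 _) (h3 (Fin.castSucc_le_succ j)))
        (fun x hx => h4 j (by rw [Subgroup.commutator_comm]; exact inv_mul_conj_mem_commutator hg hx)) (ih g hg)) i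
    refine hsat.normal_of_sc_of_le hQ fun R hR => h2 ▸ Fin.induction (motive := fun j => C j ≤ R) (h1 ▸ bot_le)
      (fun j ih => ?_) (Fin.last n)
    refine le_of_radical hS (centric_centralizerIn_le hR.1) (radical_of_essential hS hR) (h6 _).1
      (hR.1.1.trans (wc_le_normalizer (h6 _))) fun g hg hn => ?_
    have hi := iso_cj F hR.1.1 ((h6 _).1 hg) hn
    refine mem_opP_of_trivMod_sc hS hi hQ (fun x hx => inv_mul_conj_mem (hCQ _ hg) (sc_le_normalizer hQ (hR.1.1 hx)))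
      (mem_opP_of_trivMod hS (hi.inf_sc hQ) (le_inf ih (hCQ _)) (fun τ hτ x => hτ.mor.mem_of_wc (h6 _)
        (le_inf ih (hCQ _))) (fun x hx => h4 j (inv_mul_conj_mem_commutator hg hx.2)) (h7 _ g (hCQ _ hg)))

end Cfsg.Agent.S5226
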