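import Cfsg.Statements.S5233
import Cfsg.Agent.Lib.Fus3.Transv
import Cfsg.Agent.Lib.PGrp.Extra
import Cfsg.Agent.Lib.Invol.Basic
import Cfsg.Agent.Lib.Fus.CI2

set_option autoImplicit false
open Cfsg

namespace Cfsg.Agent.S5233

open Cfsg.Lib Cfsg.Lib.Fus Subgroup
open scoped commutatorElement

theorem map_center {G H : Type*} [Group G] [Group H] (e : G ≃* H) : (center G).map (e : G →* H) = center H := by
  ext y
  obtain ⟨x, rfl⟩ := e.surjective y
  refine ⟨?_, fun h => ⟨x, mem_center_iff.mpr fun g => e.injective (by simpa using mem_center_iff.mp h (e g)), rfl⟩⟩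
  rintro ⟨z, hz, h⟩
  refine mem_center_iff.mpr fun g => ?_
  obtain ⟨k, rfl⟩ := e.surjective g
  rw [← h]; simpa using congrArg e (mem_center_iff.mp hz k)

theorem isExtraspecial_congr {p : ℕ} [Fact p.Prime] {G H : Type*} [Group G] [Group H] [Finite G] (e : G ≃* H)
    (h : IsExtraspecial p G) : IsExtraspecial p H := by
  obtain ⟨⟨h1, h2, h3⟩, h4⟩ := h
  refine ⟨⟨h1.of_equiv e, ?_, ?_⟩, (Nat.card_congr (centerCongr e).toEquiv).symm.trans h4⟩
  · rw [← PGrp.map_frattini_of_surjective h1 (e : G →* H) e.surjective, h2, map_center]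
  · rw [← map_center e, ← h3, map_commutator_eq, MonoidHom.range_eq_top.mpr e.surjective]; rfl

theorem equiv_prod {G : Type*} [Group G] {A B : Subgroup G} (hc : ∀ a ∈ A, ∀ b ∈ B, Commute a b) (hi : A ⊓ B = ⊥)
    (hs : A ⊔ B = ⊤) : Nonempty (G ≃* A × B) := by
  let f : A × B →* G := A.subtype.noncommCoprod B.subtype fun a b => hc a a.2 b b.2
  refine ⟨(MulEquiv.ofBijective f ⟨(injective_iff_map_eq_one _).2 fun x hx => ?_, ?_⟩).symm⟩
  · have h3 : (x.1 : G) * x.2 = 1 := hx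
    have h4 : (x.1 : G) = 1 := mem_bot.1 (hi ▸ mem_inf.2 ⟨x.1.2, eq_inv_of_mul_eq_one_left h3 ▸ inv_mem x.2.2⟩)
    rw [h4, one_mul] at h3
    exact Prod.ext (Subtype.ext h4) (Subtype.ext h3)
  · rw [← MonoidHom.range_eq_top]
    exact (MonoidHom.noncommCoprod_range _ _ _).trans (by rw [range_subtype, range_subtype, hs])

theorem split_of {p : ℕ} [hp : Fact p.Prime] {G : Type*} [Group G] [Finite G] (hG : IsPGroup p G) {Q : Subgroup G}
    (hQ : Ip p Q ⊤) (hQe : IsElementaryAbelian p Q) (hc : Nat.card (commutator G) = p)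
    (hpow : ∀ x : G, x ^ p ∈ commutator G) {x w : G} (hw : w ∈ Q) (hxw : ⁅x, w⁆ ≠ 1) :
    IsExtraspecial p (closure {w, x} : Subgroup G) ∧ Nat.card (closure {w, x} : Subgroup G) = p ^ 3 ∧
      ∃ (A : Type) (_ : CommGroup A), (∀ a : A, a ^ p = 1) ∧ Nonempty (G ≃* (closure {w, x} : Subgroup G) × A) := by
  obtain ⟨z, hz⟩ : ∃ z, z = ⁅x, w⁆ := ⟨_, rfl⟩
  have hzZ : zpowers z = commutator G := zpowers_eq_of_card hc (hz ▸ PGrp.commutator_mem x w) (hz ▸ hxw)
  have hzc : commutator G ≤ center G := PGrp.le_center_of_card_eq hG _ hc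
  have hzo : orderOf z = p := by rw [← Nat.card_zpowers, hzZ, hc]
  have hxQ : x ∉ Q := fun h => hxw (commutatorElement_eq_one_iff_mul_comm.mpr (PGrp.comm_of_mem hQe.1 h hw))
  have hQn : Q.Normal := normalizer_eq_top_iff.mp (top_le_iff.mp hQ.norm)
  have hZQ : zpowers z ≤ Q := hzZ ▸ PGrp.commutator_le_of_sup_zpowers_eq_top (hQ.eq_sup (mem_top x) hxQ).symm
  have hn : ∀ H : Subgroup G, zpowers z ≤ H → ∀ g, g ∈ normalizer (H : Set G) := fun H hH g =>
    haveI := Subgroup.Normal.of_commutator_le G (hzZ ▸ hH)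
    le_normalizer_of_normal (mem_top g)
  have hwZ : w ∉ center G := fun h => hxw (commutatorElement_eq_one_iff_mul_comm.mpr (mem_center_iff.mp h x))
  have i1 := ip_sup (fun h => hwZ (hzc (hzZ ▸ h))) (hn _ le_rfl w) (hzZ ▸ hpow w)
  have l1 : zpowers z ⊔ zpowers w ≤ Q := sup_le hZQ (zpowers_le.mpr hw)
  have i2 := ip_sup (fun h => hxQ (l1 h)) (hn _ le_sup_left x) (mem_sup_left (hzZ ▸ hpow x))
  have hE : (closure {w, x} : Subgroup G) = zpowers z ⊔ zpowers w ⊔ zpowers x := by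
    rw [PGrp.closure_pair_eq_sup]
    refine le_antisymm (sup_le_sup_right le_sup_right _) (sup_le (sup_le (zpowers_le.mpr ?_) le_sup_left) le_sup_right)
    rw [hz]
    exact commutator_le_sup _ _ ((commutator_comm _ _).le (commutator_mem_commutator (mem_zpowers x) (mem_zpowers w)))
  have hwE : w ∈ zpowers z ⊔ zpowers w ⊔ zpowers x := mem_sup_left (mem_sup_right (mem_zpowers w))
  have hxE : x ∈ zpowers z ⊔ zpowers w ⊔ zpowers x := mem_sup_right (mem_zpowers x)
  have key : ∀ u ∈ zpowers z ⊔ zpowers w ⊔ zpowers x, u * w = w * u → u * x = x * u → u ∈ zpowers z := fun u hu h1 h2 => by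
    have h3 : u ∈ zpowers z ⊔ zpowers w := by_contra fun h => hxw (commutatorElement_eq_one_iff_mul_comm.mpr
      (mem_centralizer_singleton_iff.mp (i2.le_of_mem hu h (H := centralizer {w})
        (fun v hv => mem_centralizer_singleton_iff.mpr (PGrp.comm_of_mem hQe.1 (l1 hv) hw))
        (mem_centralizer_singleton_iff.mpr h1) hxE)))
    exact by_contra fun h => hxw (commutatorElement_eq_one_iff_mul_comm.mpr
      (mem_centralizer_singleton_iff.mp (i1.le_of_mem h3 h (H := centralizer {x})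
        (fun v hv => mem_centralizer_singleton_iff.mpr (mem_center_iff.mp (hzc (hzZ ▸ hv)) x).symm)
        (mem_centralizer_singleton_iff.mpr h2) (mem_sup_right (mem_zpowers w)))).symm)
  have hzE : zpowers z ≤ zpowers z ⊔ zpowers w ⊔ zpowers x := le_sup_left.trans le_sup_left
  rw [hE]
  refine ⟨PGrp.isExtraspecial_of_le_zpowers hzo (hzE (mem_zpowers z)) (le_antisymm
      (fun u hu => key u hu.1 (hu.2 w hwE).symm (hu.2 x hxE).symm)
      (le_inf hzE fun u hu g _ => mem_center_iff.mp (hzc (hzZ ▸ hu)) g))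
    (fun a _ b _ => hzZ ▸ PGrp.commutator_mem a b) (fun a _ => hzZ ▸ hpow a) fun e => hxQ (hZQ (e ▸ hxE)),
    by rw [i2.card, i1.card, Nat.card_zpowers, hzo]; ring, ?_⟩
  have hzQ := hZQ (mem_zpowers z)
  obtain ⟨M, -, hM, hMi⟩ := PGrp.exists_index_eq_not_mem (p := p) (⊥ : Subgroup Q)
    (commutator_le.mpr fun a _ b _ => commutatorElement_eq_one_iff_mul_comm.mpr (hQe.1.is_comm.comm a b))
    (fun a => Subtype.ext (hQe.2 a a.2)) (x := ⟨z, hzQ⟩) (fun h => hxw (hz ▸ congrArg Subtype.val h))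
  have i3 : Ip p (M.map Q.subtype) Q := ip_of_card (hG.to_subgroup Q) (map_subtype_le M)
    (by rw [card_map_of_injective Q.subtype_injective, ← M.card_mul_index, hMi, mul_comm])
  have hzM : z ∉ M.map Q.subtype := fun ⟨y, hy, e⟩ => hM (by rwa [show y = ⟨z, hzQ⟩ from Subtype.ext e] at hy)
  have hzC : z ∈ Q ⊓ centralizer {x} :=
    ⟨hzQ, mem_centralizer_singleton_iff.mpr (mem_center_iff.mp (hzc (hzZ ▸ mem_zpowers z)) x).symm⟩
  have i4 := i3.inf (H := Q ⊓ centralizer {x}) inf_le_left fun h => hzM (h hzC)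
  have hwx : w ∉ centralizer {x} := fun h =>
    hxw (commutatorElement_eq_one_iff_mul_comm.mpr (mem_centralizer_singleton_iff.mp h).symm)
  have i5 : Ip p (Q ⊓ centralizer {x}) Q := ip_centralizer (S := ⊤) (hG.to_subgroup ⊤) le_top (Z := commutator G) le_top
    hc.le (mem_top x) (fun u _ => PGrp.commutator_mem u x) fun h => hwx (h hw)
  generalize hA : M.map Q.subtype ⊓ (Q ⊓ centralizer {x}) = A at i4
  have hAQ : A ≤ Q := i4.le.trans inf_le_left
  have hAc : A ≤ center G := fun a ha => mem_center_iff.mpr fun g => mem_centralizer_singleton_iff.mp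
    (hQ.le_of_mem (mem_top x) hxQ (H := centralizer {a})
      (fun v hv => mem_centralizer_singleton_iff.mpr (PGrp.comm_of_mem hQe.1 hv (hAQ ha)))
      (mem_centralizer_singleton_iff.mpr (mem_centralizer_singleton_iff.mp (i4.le ha).2).symm) (mem_top g))
  have hzA : z ∉ A := fun h => hzM (hA.ge h).1
  obtain ⟨e⟩ := equiv_prod (A := zpowers z ⊔ zpowers w ⊔ zpowers x) (B := A)
    (fun a _ b hb => mem_center_iff.mp (hAc hb) a)
    (eq_bot_iff.mpr fun u hu => by_contra fun h => hzA (zpowers_le.mpr hu.2 (mem_zpowers_of_ne_one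
      (hzo ▸ pow_orderOf_eq_one z) (key u hu.1 (mem_center_iff.mp (hAc hu.2) w).symm
        (mem_center_iff.mp (hAc hu.2) x).symm) h)))
    (top_le_iff.mp (hQ.le_of_mem (mem_top x) hxQ (i5.le_of_mem hw (fun h => hwx h.2)
      (i4.le_of_mem hzC hzA le_sup_right (mem_sup_left (hzE (mem_zpowers z)))) (mem_sup_left hwE)) (mem_sup_left hxE)))
  let _ : CommGroup A := { mul_comm := fun a b => Subtype.ext (PGrp.comm_of_mem hQe.1 (hAQ a.2) (hAQ b.2)) }
  exact ⟨Shrink.{0} A, inferInstance, fun a => Shrink.mulEquiv.injective (by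
    rw [map_pow, map_one]; exact Subtype.ext (hQe.2 _ (hAQ (Shrink.mulEquiv a).2))),
    ⟨e.trans ((MulEquiv.refl _).prodCongr Shrink.mulEquiv.symm)⟩⟩

/-- Let F be a saturated fusion system over a finite p-group S and P a subgroup of S strongly closed in F that is generalized extraspecial (its Frattini subgroup equals its commutator subgroup and has order p) and not isomorphic to E × A with A elementary abelian and E dihedral of order 8 (p = 2) or extraspecial of order p³ and exponent p (p odd). Then P is normal in F. -/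
theorem result {Ω : Type*} [Group Ω] {S : Subgroup Ω} [Finite S] (p : ℕ) [Fact p.Prime] (hS : IsPGroup p S) (F : Cfsg.FusionSystem S) (hF : F.IsSaturated p) (P : Subgroup Ω) (hP : F.StronglyClosed P) (hge : frattini ↥P = commutator ↥P ∧ Nat.card ↥(commutator ↥P) = p) (h2 : p = 2 → ¬ ∃ (A : Type) (_ : CommGroup A), (∀ a : A, a ^ 2 = 1) ∧ Nonempty (↥P ≃* DihedralGroup 4 × A)) (hodd : p ≠ 2 → ¬ ∃ (E : Type) (_ : Group E) (A : Type) (_ : CommGroup A), Cfsg.IsExtraspecial p E ∧ Nat.card E = p ^ 3 ∧ Monoid.exponent E = p ∧ (∀ a : A, a ^ p = 1) ∧ Nonempty (↥P ≃* E × A)) : F.IsNormal P := by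
  by_contra hn
  have hPS := (stronglyClosed_iff.mp hP).1
  have := finite_of_le hPS
  have hG := hS.to_le hPS
  have hp : p.Prime := Fact.out
  have hpow : ∀ x : P, x ^ p ∈ commutator P := fun x => hge.1 ▸ PGrp.pow_mem_frattini hG x
  obtain ⟨Q, x, w, hI, hQe, hw, hx, hxw, hxp⟩ := Sat.gen_extra ⟨hS, hF⟩ hP
    (by rw [← PGrp.map_subtype_commutator', card_map_of_injective P.subtype_injective, hge.2])
    (fun x hx => PGrp.map_subtype_commutator' P ▸ ⟨_, hpow ⟨x, hx⟩, rfl⟩) hn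
  have hI' : Ip p (Q.subgroupOf P) ⊤ := ip_of_card (hG.to_subgroup ⊤) le_top
    (by rw [card_top, Core.card_subgroupOf_of_le hI.le, hI.card])
  have key := fun (y : P) (h : ⁅y, (⟨w, hI.le hw⟩ : P)⁆ ≠ 1) =>
    split_of hG hI' (PGrp.isElementaryAbelian_subgroupOf hQe P) hge.2 hpow (w := ⟨w, hI.le hw⟩) hw h
  have hxw' : ⁅(⟨x, hx⟩ : P), (⟨w, hI.le hw⟩ : P)⁆ ≠ 1 := fun h => hxw (congrArg Subtype.val h)
  have hwp : (⟨w, hI.le hw⟩ : P) ^ p = 1 := Subtype.ext (hQe.2 w hw)
  have hxp' : p ≠ 2 → (⟨x, hx⟩ : P) ^ p = 1 := fun h => Subtype.ext (hxp h)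
  generalize (⟨x, hx⟩ : P) = x at hxw' hxp'
  generalize (⟨w, hI.le hw⟩ : P) = w at hxw' hwp key
  have hzc : commutator P ≤ center P := PGrp.le_center_of_card_eq hG _ hge.2
  by_cases hp2 : p = 2
  · subst hp2
    have hw2 : w * w = 1 := pow_two w ▸ hwp
    have hw3 : w⁻¹ = w := inv_eq_of_mul_eq_one_right hw2
    obtain ⟨y, h1, h3⟩ : ∃ y : P, ⁅y, w⁆ ≠ 1 ∧ y ^ 2 ≠ 1 := by
      by_cases h : x ^ 2 = 1
      · refine ⟨x * w, fun h' => hxw' (by rw [← h']; group), fun h' => hxw' ?_⟩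
        rw [commutatorElement_def, hw3, inv_eq_of_mul_eq_one_right (pow_two x ▸ h), ← h', pow_two, mul_assoc]
      · exact ⟨x, hxw', h⟩
    obtain ⟨-, -, A, _, hA, ⟨e⟩⟩ := key y h1
    have h4 := eq_of_card_two hge.2 (hpow y) h3 (PGrp.commutator_mem w y)
      (fun h => h1 (by rw [← commutatorElement_inv, h, inv_one]))
    have h5 : (y ^ 2) ^ 2 = 1 := pow_eq_one_of_card hge.2 (hpow y)
    obtain ⟨f⟩ := Invol.closure_mulEquiv_dihedral (n := 4) (r := y) hw2
      (by rw [← mul_inv_cancel_right (w * y * w⁻¹) y⁻¹, ← commutatorElement_def, h4, eq_inv_iff_mul_eq_one, ← h5]; group)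
      (orderOf_eq_prime_pow (p := 2) (n := 1) h3 (by rw [← h5]; group))
      (fun h => h1 (commutatorElement_eq_one_iff_mul_comm.mpr (comm_of_mem_zpowers (mem_zpowers y) h)))
    exact h2 rfl ⟨A, inferInstance, hA, ⟨e.trans (f.prodCongr (MulEquiv.refl _))⟩⟩
  obtain ⟨h1, h3, A, _, hA, ⟨e⟩⟩ := key x hxw'
  have h4 : ∀ u ∈ (closure {w, x} : Subgroup P), u ^ p = 1 := fun u hu =>
    PGrp.pow_eq_one_of_mem_omegaOne_of_class_two (hp.odd_of_ne_two hp2) (H := ⊤)
      (fun a _ b _ c _ => (mem_center_iff.mp (hzc (PGrp.commutator_mem a b)) c).symm) u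
      (PGrp.closure_pair_le (PGrp.mem_omegaOne_of_pow (mem_top w) hwp) (PGrp.mem_omegaOne_of_pow (mem_top x) (hxp' hp2)) hu)
  have : Nontrivial (closure {w, x} : Subgroup P) :=
    Finite.one_lt_card_iff_nontrivial.mp (h3 ▸ Nat.one_lt_pow (by norm_num) hp.one_lt)
  have f : (closure {w, x} : Subgroup P) ≃* Shrink.{0} (closure {w, x} : Subgroup P) := Shrink.mulEquiv.symm
  exact hodd hp2 ⟨Shrink.{0} (closure {w, x} : Subgroup P), inferInstance, A, inferInstance, isExtraspecial_congr f h1,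
    (Nat.card_congr f.toEquiv).symm.trans h3, (Monoid.exponent_eq_of_mulEquiv f).symm.trans
      ((Monoid.exponent_eq_prime_iff hp).mpr fun g hg => orderOf_eq_prime (Subtype.ext (h4 g g.2)) hg),
    hA, ⟨e.trans (f.prodCongr (MulEquiv.refl _))⟩⟩

end Cfsg.Agent.S5233
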