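import Cfsg.Statements.S5236
import Cfsg.Agent.Lib.Fus.PAut
-- import your own Cfsg.Agent.* helpers here

set_option autoImplicit false
open Cfsg

namespace Cfsg.Agent.S5236

open Cfsg.FusionSystem Cfsg.Lib.Fus Equiv

/-- Let p be an odd prime, F a saturated fusion system over a finite p-group S and P a subgroup of S strongly closed in F. Then P is normal in F if and only if Ω₁(P) (the subgroup generated by the elements of order p of P) has a chain of subgroups 1 = Q₀ ≤ Q₁ ≤ ⋯ ≤ Qₙ = Ω₁(P), each strongly closed in F, with [Qᵢ₊₁, P] ≤ Qᵢ for all i. -/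
theorem result {Ω : Type*} [Group Ω] {S : Subgroup Ω} [Finite S] (p : ℕ) [Fact p.Prime] (hS : IsPGroup p S) (F : Cfsg.FusionSystem S) (hF : F.IsSaturated p) (hp : p ≠ 2) (P : Subgroup Ω) (hP : F.StronglyClosed P) : F.IsNormal P ↔ ∃ (n : ℕ) (Q : Fin (n + 1) → Subgroup Ω), Q 0 = ⊥ ∧ Q (Fin.last n) = Cfsg.omegaOne p P ∧ Monotone Q ∧ (∀ i : Fin (n + 1), F.StronglyClosed (Q i)) ∧ ∀ i : Fin n, ⁅Q i.succ, P⁆ ≤ Q i.castSucc := by
  have hsat : Sat p F := ⟨hS, hF⟩
  have hΩ : omegaOne p P ≤ P := (Subgroup.closure_le _).mpr fun x hx => hx.1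
  constructor
  · intro h
    have : Finite P := finite_of_le h.1
    have := (hS.to_le h.1).isNilpotent
    obtain ⟨n, hn⟩ := (Subgroup.isNilpotent_iff_lowerCentralSeries P).mp this
    have h1 : F.IsNormal (omegaOne p P) := normal_of_le_of_invariant h hΩ fun τ hτ =>
      (hτ.homOn.mono hΩ).mapsTo_closure fun x hx => Subgroup.subset_closure ⟨hτ.mem hx.1, by
        rw [← hτ.homOn.map_pow hx.1, hx.2, hτ.homOn.map_one]⟩
    refine ⟨n, fun i => omegaOne p P ⊓ P.lowerCentralSeries (n - i), by simp [hn], by simpa using hΩ,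
      fun i j hij => inf_le_inf_left _ (P.lowerCentralSeries_antitone (Nat.sub_le_sub_left hij n)),
      fun i => sc_inf (sc_of_normal h1) ?_, fun i => le_inf ?_ ?_⟩
    · have := normal_of_characteristic h ((⊤ : Subgroup P).lowerCentralSeries (n - i))
      rw [Subgroup.map_lowerCentralSeries, ← MonoidHom.range_eq_map, Subgroup.range_subtype] at this
      exact sc_of_normal this
    · refine Subgroup.commutator_le.mpr fun x hx y hy => ?_
      rw [commutatorElement_def, mul_assoc, mul_assoc, ← mul_assoc y]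
      exact Subgroup.mul_mem _ hx.1 (conj_mem_of_mem_normalizer (normal_le_normalizer h1 (h.1 hy))
        (Subgroup.inv_mem _ hx.1))
    · have : n - (i.castSucc : ℕ) = n - (i.succ : ℕ) + 1 := by
        have := i.2; simp only [Fin.val_castSucc, Fin.val_succ]; omega
      simp only [this, Subgroup.lowerCentralSeries_succ]
      exact Subgroup.commutator_mono inf_le_right le_rfl
  · rintro ⟨n, Q, h1, h2, h3, h4, h5⟩
    refine hsat.normal_of_sc hP fun R hR g hg hn => ?_
    have hi := (iso_cj F hR.1.1 (hP.1 hg) hn).inf_sc hP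
    have key : ∀ i, cj g ∈ opP p F (R ⊓ P ⊓ Q i) := fun i => Fin.induction
      (fixP_le_opP p F _ fun x hx => by
        rw [h1, inf_bot_eq, Subgroup.mem_bot] at hx; rw [hx, cj_apply, mul_one, mul_inv_cancel])
      (fun j ih => mem_opP_of_trivMod_sc hS (hi.inf_sc (h4 _)) (h4 j.castSucc)
        (fun x hx => h5 j (by rw [Subgroup.commutator_comm]; exact inv_mul_conj_mem_commutator hg hx.2))
        (by rwa [inf_assoc, inf_eq_right.mpr (h3 (Fin.castSucc_le_succ j))])) i
    exact mem_opP_of_omega_one hp hS hi inf_le_left (fun τ hτ x => (hτ.inf_sc (h4 _)).mem)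
      (fun x hx hxp => ⟨hx, h2 ▸ Subgroup.subset_closure ⟨hx.2, hxp⟩⟩) (key (Fin.last n))

end Cfsg.Agent.S5236
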