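import Cfsg.Statements.S5237
import Cfsg.Agent.Lib.SF.WS

set_option autoImplicit false
open Cfsg

open Subgroup Cfsg.Lib
open scoped commutatorElement
open Cfsg.Lib Cfsg.Lib.Amalg
namespace Cfsg.Agent.S5237

/-- Let S be a nontrivial finite 2-group (p = 2). Then S has a nontrivial characteristic subgroup W that is normal in every saturated fusion system over S that is S₄-free (the symmetric group of degree 4 is not involved in any model of the normalizer system of a fully normalized centric subgroup). -/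
theorem result {Ω : Type*} [Group Ω] {S : Subgroup Ω} [Finite S] (hS : IsPGroup 2 S) (hS1 : S ≠ ⊥) : ∃ W : Subgroup Ω, W ≤ S ∧ W ≠ ⊥ ∧ (W.subgroupOf S).Characteristic ∧ ∀ F : Cfsg.FusionSystem S, F.IsSaturated 2 → F.IsSectionFree 2 (Equiv.Perm (Fin 4)) → F.IsNormal W := by
  refine ⟨Fus2.amb SF.WS S, Fus2.amb_le _ S, SF.fct_WS.amb_ne_bot hS hS1, ?_, fun F a b => ?_⟩
  · rw [Fus2.amb, map_subtype_subgroupOf]
    exact SF.WS_char hS
  · exact Fus2.isNormal_amb_of_free SF.fct_WS (b := False) (fun G _ _ P c d =>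
      SF.amb_WS_normal (syl_top P) (d.resolve_left id) (charP_top.2 c)) ⟨hS, a⟩ (Or.inr b)

end Cfsg.Agent.S5237
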