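import Cfsg.Statements.S5243
import Cfsg.Agent.Lib.Fus.OpPrime
-- import your own Cfsg.Agent.* helpers here

set_option autoImplicit false
open Cfsg

namespace Cfsg.Agent.S5243

open Cfsg.FusionSystem Cfsg.Lib.Fus Equiv

/-- Let F be a saturated fusion system over a finite p-group S, E a normal subsystem of F over T ≤ S, and χ a surjective homomorphism from Aut_F(T) onto a nontrivial finite group Δ of order prime to p whose kernel contains Aut_E(T). Then there is a proper normal subsystem F₀ of F over S containing E such that Aut_{F₀}(S) consists of those α ∈ Aut_F(S) whose restriction to T is an element of Aut_F(T) in the kernel of χ; moreover every p'-residual subsystem O^{p'}(F) of F is contained in F₀. -/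
theorem result {Ω : Type*} [Group Ω] {S : Subgroup Ω} [Finite S] (p : ℕ) [Fact p.Prime] (hS : IsPGroup p S) (F : Cfsg.FusionSystem S) (hF : F.IsSaturated p) {T : Subgroup Ω} (hTS : T ≤ S) (E : Cfsg.FusionSystem T) (hE : E.IsNormalIn F p) {Δ : Type*} [Group Δ] [Finite Δ] [Nontrivial Δ] (hΔ : (Nat.card Δ).Coprime p) (χ : ↥(F.autGroup T) →* Δ) (hχ : Function.Surjective χ) (hker : (E.autGroup T).subgroupOf (F.autGroup T) ≤ χ.ker) : ∃ F₀ : Cfsg.FusionSystem S, F₀.IsNormalIn F p ∧ ¬ (∀ P : Subgroup Ω, F₀.Hom P = F.Hom P) ∧ E.IsSubsystemOf F₀ ∧ (∀ α : MulAut ↥S, α ∈ F₀.autGroup S ↔ α ∈ F.autGroup S ∧ ∃ β : ↥(F.autGroup T), χ β = 1 ∧ ∀ t : ↥T, (((β : MulAut ↥T) t : ↥T) : Ω) = ((α ⟨(t : Ω), hTS t.2⟩ : ↥S) : Ω)) ∧ ∀ R : Cfsg.FusionSystem S, F.IsPPrimeResidual p R → R.IsSubsystemOf F₀ := by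
  have hE := (isNormalIn_iff hS).mp hE
  have hK : ∀ σ, σ ∈ liftAut (χ.ker.map (F.autGroup T).subtype) ↔
      ∃ β : F.autGroup T, χ β = 1 ∧ ∀ t : T, (((β : MulAut T) t : T) : Ω) = σ t := fun σ => by
    rw [mem_liftAut]
    exact ⟨fun ⟨_, ⟨β, h1, rfl⟩, h2⟩ => ⟨β, h1, h2⟩, fun ⟨β, h1, h2⟩ => ⟨_, ⟨β, h1, rfl⟩, h2⟩⟩
  have hχ' : (χ.ker.map (F.autGroup T).subtype).subgroupOf (F.autGroup T) = χ.ker :=
    Subgroup.comap_map_eq_self_of_injective (F.autGroup T).subtype_injective _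
  have : ((χ.ker.map (F.autGroup T).subtype).subgroupOf (F.autGroup T)).Normal := by rw [hχ']; infer_instance
  obtain ⟨F₀, h1, h2, h3, h4⟩ := hE.toWN.exists_theta (K := liftAut (χ.ker.map (F.autGroup T).subtype))
    (liftAut_le_iff.mpr fun α hα => ⟨⟨α, autGroup_le_of_sub hE.sub T hα⟩, hker hα, rfl⟩)
    (liftAut_le_normalizer_iff.mpr (Subgroup.le_normalizer_of_normal_subgroupOf (Subgroup.map_subtype_le _))) (by
      rw [show autP F T = liftAut (F.autGroup T) from rfl, relIndex_liftAut, Subgroup.relIndex,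
        hχ', Subgroup.index_ker, MonoidHom.range_eq_top.mpr hχ, Subgroup.card_top]
      exact (Nat.Prime.coprime_iff_not_dvd Fact.out).mp hΔ.symm)
  refine ⟨F₀, (isNormalIn_iff hS).mpr h1, fun h => ?_, h2, fun α => ?_, fun R hR => h1.toWN.sub_of_isPPrimeResidual hR⟩
  · obtain ⟨d, hd⟩ := exists_ne (1 : Δ)
    obtain ⟨β, rfl⟩ := hχ d
    have k1 := (mem_autGroup_iff hTS).mp β.2
    obtain ⟨τ, k2, e⟩ := hE.satF.extend_centralizerIn k1
      (hE.satF.fc_of_fn (isFullyNormalized_of_normal F hTS (sc_le_normalizer hE.sc)))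
    have k3 := k2.iso_sup_centralizerIn (k1.congr e)
    obtain ⟨β', k4, k5⟩ := (hK τ).mp (h3 _ τ le_sup_left ⟨(mor_congr_of_hom_eq (h _)).mpr k3.mor, k3.mem_iff⟩)
    refine hd (k4 ▸ congrArg χ (Subtype.ext (mulAut_eq_of_eq (fun x => ?_) k5)))
    rw [e _ x.2, autPerm_apply]
  · have e : ∀ t : T, autPerm S α t = α ⟨t, hTS t.2⟩ := fun t => autPerm_apply_of_mem α (hTS t.2)
    rw [mem_autGroup_iff le_rfl, mem_autGroup_iff le_rfl]
    simp only [← e, ← hK]
    exact ⟨fun h => ⟨h.of_sub h1.sub, h3 S _ hTS h⟩, fun h => h4 _ h.1 h.2⟩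

end Cfsg.Agent.S5243
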