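import Cfsg.Statements.S5244
import Cfsg.Agent.Lib.Fus3.AbIdx

set_option autoImplicit false
open Cfsg

namespace Cfsg.Agent.S5244

open Cfsg.Lib Cfsg.Lib.Fus Cfsg.FusionSystem Subgroup
open scoped commutatorElement

/-- Let p be an odd prime, S a finite nonabelian p-group with a unique abelian subgroup A of index p, and F a saturated fusion system over S with no nontrivial normal subgroup (O_p(F) = 1) in which A is not F-essential. Then some subgroup Z(S)⟨x⟩ with x ∈ S outside A is F-essential, the centre Z(S) is contained in the commutator subgroup of S, and S has maximal nilpotency class (if S has order pⁿ with n ≥ 3, the term of index n − 2 of its lower central series, counting S itself as the term of index 0, is nontrivial). -/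
theorem result {Ω : Type*} [Group Ω] {S : Subgroup Ω} [Finite S] (p : ℕ) [Fact p.Prime] (hS : IsPGroup p S) (F : Cfsg.FusionSystem S) (hF : F.IsSaturated p) (hp : p ≠ 2) (hna : ¬ IsMulCommutative ↥S) (A : Subgroup Ω) (hA : A ≤ S ∧ IsMulCommutative ↥A ∧ (A.subgroupOf S).index = p) (huniq : ∀ B : Subgroup Ω, B ≤ S → IsMulCommutative ↥B → (B.subgroupOf S).index = p → B = A) (hcore : F.core = ⊥) (hAe : ¬ F.IsEssential p A) : (∃ x ∈ S, x ∉ A ∧ F.IsEssential p ((S ⊓ Subgroup.centralizer (S : Set Ω)) ⊔ Subgroup.zpowers x)) ∧ (S ⊓ Subgroup.centralizer (S : Set Ω)) ≤ (commutator ↥S).map S.subtype ∧ ∀ n : ℕ, Nat.card S = p ^ n → 3 ≤ n → Subgroup.lowerCentralSeries S (n - 2) ≠ ⊥ := by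
  have h : AI p S A := ⟨ip_of_relIndex hS hA.1 hA.2.2, hA.2.1, hna⟩
  have hF' : Sat p F := ⟨hS, hF⟩
  have hne : ∀ {R}, F.IsEssential p R → R ≠ A := fun hR e => hAe (e ▸ hR)
  obtain ⟨P, hP, hc⟩ : ∃ P, F.IsEssential p P ∧ IsMulCommutative P := by
    by_contra hn
    push Not at hn
    refine centralizerIn_self_ne_bot hS le_rfl (fun e => hna (e ▸ inferInstance))
      (eq_bot_iff.mpr (hcore ▸ le_core (hF'.normal_of_invariant ?_)))
    rintro R (rfl | hR)
    · exact ⟨centralizerIn_le _ _, fun τ hτ z hz => hτ.mem_center_top hz⟩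
    obtain ⟨x, hx, hx'⟩ := h.exists_not_mem hR.1 (hne hR)
    exact ⟨center_le_of_centric hR.1, fun τ => h.invB hF' hR (hn R hR) hx hx'⟩
  obtain ⟨x, hx, hx'⟩ := h.exists_not_mem hP.1 (hne hP)
  have h1 := h.center_le_commutator hF' hp hcore hAe
  have h2 := h.card_inf (h.ip_twoH hF' hP hc hx hx')
  rw [inf_eq_left.mpr h1] at h2
  rw [PGrp.map_subtype_commutator']
  exact ⟨⟨x, hP.1.1 hx, hx', ((h.ipH hF' hP hc hx hx').eq_sup hx fun e => hx' (h.center_le e)) ▸ hP⟩, h1,
    fun n hn _ => h.lcs_ne_bot hS h2 hn (by omega)⟩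

end Cfsg.Agent.S5244
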