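import Cfsg.Statements.S5245
import Cfsg.Agent.Lib.Fus.PAut
-- import your own Cfsg.Agent.* helpers here

set_option autoImplicit false
open Cfsg

namespace Cfsg.Agent.S5245

open Cfsg.FusionSystem Cfsg.Lib.Fus Equiv

/-- Let F be an extremely sparse fusion system over a finite p-group S (saturated, not the inner system, and every saturated fusion system over any subgroup T of S contained in F is F itself or the inner system of T). Then S is normal in F, the focal and hyperfocal subgroups of F are both S, and Aut_F(S) is generated by the inner automorphisms of S together with a single automorphism of prime order q ≠ p (F is the fusion system of the semidirect product of S by a cyclic group of prime order). -/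
theorem result {Ω : Type*} [Group Ω] {S : Subgroup Ω} [Finite S] (p : ℕ) [Fact p.Prime] (hS : IsPGroup p S) (F : Cfsg.FusionSystem S) (hF : F.IsSaturated p) (hxs : ¬ (∀ P : Subgroup Ω, F.Hom P = (Cfsg.innerFusionSystem S).Hom P) ∧ ∀ (T : Subgroup Ω) (E : Cfsg.FusionSystem T), E.IsSaturated p → E.IsSubsystemOf F → (T = S ∧ ∀ P : Subgroup Ω, E.Hom P = F.Hom P) ∨ (∀ P : Subgroup Ω, E.Hom P = (Cfsg.innerFusionSystem T).Hom P)) : F.IsNormal S ∧ F.focalSubgroup = S ∧ F.hyperfocalSubgroup p = S ∧ ∃ (q : ℕ) (β : MulAut ↥S), q.Prime ∧ q ≠ p ∧ β ∈ F.autGroup S ∧ orderOf β = q ∧ (F.autGroup S : Subgroup (MulAut ↥S)) = Cfsg.Inn ↥S ⊔ Subgroup.zpowers β := by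
  have hsat : Sat p F := ⟨hS, hF⟩
  obtain ⟨hne, hxs⟩ := hxs
  -- an automorphism of prime order `q ≠ p` of `R` forces `R = S`
  have key : ∀ R, R ≤ S → ∀ β ∈ F.autGroup R, (orderOf β).Coprime p → β ≠ 1 →
      R = S ∧ F.IsNormal R ∧ F.autGroup R = Inn R ⊔ Subgroup.zpowers β := fun R hR β hβ hc h1 => by
    have : Finite R := finite_of_le hR
    have := finite_mulAut R
    have hI : IsPGroup p (Inn R) := autInducedBy_self R ▸ isPGroup_autInducedBy (hS.to_le hR) R
    have hn : (Inn R).Normal := by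
      rw [← Subgroup.normalizer_eq_top_iff, eq_top_iff, ← liftAut_le_normalizer_iff, liftAut_top, liftAut_inn]
      exact autAll_le_normalizer_inn R
    obtain ⟨E, h2, h3, h4, h5⟩ := exists_sat_resFs (hS.to_le hR) (H := liftAut (Inn R ⊔ Subgroup.zpowers β))
      (liftAut_inn R ▸ liftAut_le_iff.mpr le_sup_left) (liftAut_le_autAll _) (by
        rw [← liftAut_inn, relIndex_liftAut, Subgroup.relIndex_sup_left]
        exact fun h => (Nat.Prime.coprime_iff_not_dvd Fact.out).mp hc.symm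
          (h.trans (Nat.card_zpowers β ▸ Subgroup.relIndex_dvd_card _ _)))
    have h6 : Inn R ⊔ Subgroup.zpowers β ≤ F.autGroup R :=
      sup_le (autInducedBy_self R ▸ autInducedBy_le_autGroup F hR hR) (Subgroup.zpowers_le.mpr hβ)
    rcases hxs R E h2.sat (isSubsystemOf_iff.mpr fun P σ hσ =>
      let ⟨hP, τ, hτ, e⟩ := (h5 P σ).mp hσ
      (((mem_autP hR).mp (liftAut_le_iff.mpr h6 hτ)).mor.mono hP).congr e) with ⟨rfl, h⟩ | h
    · obtain rfl := fs_ext h
      exact ⟨rfl, h3, liftAut_inj.mp h4⟩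
    · rw [fs_ext h, autP_inner le_rfl, ← liftAut_inn, liftAut_inj] at h4
      obtain ⟨k, hk⟩ := hI.exists_orderOf_dvd_pow ⟨β, h4 ▸ Subgroup.mem_sup_right (Subgroup.mem_zpowers β)⟩
      rw [Subgroup.orderOf_mk] at hk
      exact absurd (orderOf_eq_one_iff.mp ((hc.pow_right k).eq_one_of_dvd hk)) h1
  obtain ⟨R, hR, σ, hσ, β, e, hc, h1⟩ : ∃ R, R ≤ S ∧ ∃ σ ∈ autP F R, ∃ β : MulAut R,
      (∀ x : R, (β x : Ω) = σ x) ∧ (orderOf β).Coprime p ∧ β ≠ 1 := by
    by_contra h
    push Not at h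
    refine hne (hom_eq_inner_iff.mpr fun P σ hσ => hsat.inner_of_pMod (fun R hR => ?_) hσ)
    have hRS := (hsat.cr_of_top_or_essential hR).1.1
    have : Finite R := finite_of_le hRS
    exact pMod_of_aut (autP_le_autAll F R) (h R hRS)
  have hβ : β ∈ F.autGroup R := (mem_liftAut_iff_of_eq e).mp hσ
  obtain ⟨rfl, hn, -⟩ := key R hR β hβ hc h1
  have := finite_mulAut R
  obtain ⟨q, hq, hd⟩ := Nat.exists_prime_and_dvd (fun h => h1 (orderOf_eq_one_iff.mp h))
  have h2 : orderOf (β ^ (orderOf β / q)) = q := orderOf_pow_orderOf_div (orderOf_pos β).ne' hd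
  have h3 : q.Coprime p := Nat.Coprime.coprime_dvd_left hd hc
  have h4 : β ^ (orderOf β / q) ≠ 1 := fun h => hq.ne_one (by rw [← h2, h, orderOf_one])
  have h5 : F.hyperfocalSubgroup p = R := by
    have hσ' := (mem_autP le_rfl).mp hσ
    have h6 : ∀ x ∈ R, x⁻¹ * σ x ∈ F.hyperfocalSubgroup p := fun x =>
      hσ'.inv_mul_mem_hyp hc ((pow_mem_fixP_iff e _).mpr (pow_orderOf_eq_one β))
    have hT := hyp_le F p
    have h7 : Iso F (F.hyperfocalSubgroup p) (F.hyperfocalSubgroup p) σ := (hσ'.mor.mono hT).iso_self fun x hx => by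
      simpa using Subgroup.mul_mem _ hx (h6 x (hT hx))
    obtain ⟨γ, hγ, e'⟩ := h7.exists_aut
    refine (key _ hT γ hγ (Nat.Coprime.coprime_dvd_left (orderOf_dvd_of_pow_eq_one ((pow_mem_fixP_iff e' _).mp
      (fixP_anti hT ((pow_mem_fixP_iff e _).mpr (pow_orderOf_eq_one β))))) hc) fun h => h1 ?_).1
    have : Finite (F.hyperfocalSubgroup p) := finite_of_le hT
    obtain ⟨k, hk⟩ := pMod_trivMod (hS.to_le hT) hT σ ⟨⟨hσ'.mem_autAll, h6⟩, by
      simpa using (pow_mem_fixP_iff e' 1).mpr (by simpa using h)⟩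
    exact orderOf_eq_one_iff.mp ((hc.pow_right k).eq_one_of_dvd (orderOf_dvd_of_pow_eq_one
      ((pow_mem_fixP_iff e _).mp hk)))
  exact ⟨hn, le_antisymm (focal_le F) (h5.ge.trans (hyp_le_focal F p)), h5, q, _, hq,
    (Nat.coprime_primes hq Fact.out).mp h3, Subgroup.pow_mem _ hβ _, h2,
    (key R le_rfl _ (Subgroup.pow_mem _ hβ _) (h2.symm ▸ h3) h4).2.2⟩

end Cfsg.Agent.S5245
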