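import Cfsg.Statements.S5247
import Cfsg.Agent.Lib.Glaub.PSt

set_option autoImplicit false
open Cfsg

namespace Cfsg.Agent.S5247

open Cfsg.FusionSystem Cfsg.Lib.Fus2 Cfsg.Lib.Amalg Subgroup Cfsg.Lib Cfsg.Lib.Glaub

/-- Let p be an odd prime and F a saturated fusion system over a finite p-group S. Call a fusion system E (over any subgroup) p-stable when, for every fully E-normalized subgroup Q and every χ ∈ Aut_E(Q) with χ(a⁻¹)·a·χ(a⁻¹)·χ(χ(a)) = 1 for all a ∈ Q (χ acts quadratically), χ lies in O_p(Aut_E(Q)). Then F is p-stable if and only if every normalizer fusion system N_F(R) of every non-cyclic fully F-normalized subgroup R of S is p-stable. -/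
theorem result {Ω : Type*} [Group Ω] {S : Subgroup Ω} [Finite S] (p : ℕ) [Fact p.Prime] (hS : IsPGroup p S) (F : Cfsg.FusionSystem S) (hF : F.IsSaturated p) (hp : p ≠ 2) : (∀ Q : Subgroup Ω, F.IsFullyNormalized Q → ∀ χ : MulAut ↥Q, χ ∈ F.autGroup Q → (∀ a : ↥Q, (χ a⁻¹) * a * (χ a⁻¹) * (χ (χ a)) = 1) → χ ∈ ((Cfsg.pCore p ↥(F.autGroup Q)).map (F.autGroup Q).subtype : Subgroup (MulAut ↥Q))) ↔ ∀ R : Subgroup Ω, F.IsFullyNormalized R → ¬ IsCyclic ↥R → ∀ N : Cfsg.FusionSystem (Cfsg.FusionSystem.normalizerIn S R), F.IsNormalizerSystem R N → (∀ Q : Subgroup Ω, N.IsFullyNormalized Q → ∀ χ : MulAut ↥Q, χ ∈ N.autGroup Q → (∀ a : ↥Q, (χ a⁻¹) * a * (χ a⁻¹) * (χ (χ a)) = 1) → χ ∈ ((Cfsg.pCore p ↥(N.autGroup Q)).map (N.autGroup Q).subtype : Subgroup (MulAut ↥Q))) := by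
  refine (not_cfg_iff hp hS).symm.trans ⟨fun h R _ _ N hN => (not_cfg_iff hp (hS.to_le (normalizerIn_le S R))).1
    fun c => h (c.mono (sub_of_isNormalizerSystem hN)), fun h ⟨U, h1⟩ => ?_⟩
  obtain ⟨V, h2, h3⟩ := exists_conj_fullyNormalized F h1.le
  obtain ⟨g, h4, rfl⟩ := isConj_iff_mor.1 h2
  replace h1 := h1.img h4
  generalize img U g = V at h1 h3
  obtain ⟨N, hN⟩ := exists_normalizerSystem F h3.1
  refine (not_cfg_iff hp (hS.to_le (normalizerIn_le S V))).2 (h V h3 (fun c => ?_) N hN) ⟨V, h1.mono inf_le_right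
    fun f a1 a2 => ⟨f, (mor_iff_nMor hN).2 (nMor_of_mor a1 le_rfl le_rfl le_normalizer (a1.img_eq_self le_rfl a2)),
      fun _ _ => rfl⟩⟩
  obtain ⟨π, a1, a2, -⟩ := h1
  obtain ⟨v, hv⟩ := (isCyclic_of_surjective (MonoidHom.mk' (fun u : V => π u) fun x y => a1 _ x.2 _ y.2)
    fun v => let ⟨x, hx, e⟩ := a2 v; ⟨⟨x, hx⟩, e⟩).exists_generator
  have := Nat.le_of_dvd (Fact.out : p.Prime).pos (orderOf_eq_card_of_forall_mem_zpowers hv ▸
    orderOf_dvd_of_pow_eq_one (v2_pow v))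
  have h5 := (Fact.out : p.Prime).two_le
  simp at this
  nlinarith

end Cfsg.Agent.S5247
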