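import Cfsg.Statements.S5248
import Cfsg.Agent.Lib.Fus.RzF
-- import your own Cfsg.Agent.* helpers here

set_option autoImplicit false
open Cfsg

namespace Cfsg.Agent.S5248

open Cfsg.FusionSystem Cfsg.Lib.Fus Equiv

/-- Let S be a finite 2-group that is dihedral of order at least 8, generalized quaternion of order at least 8, semidihedral, or wreathed, and let F be a saturated fusion system over S. Then F has at most two F-conjugacy classes of F-essential subgroups (among any three essential subgroups two are joined by a map of F), and F is realizable: it is the fusion system of a finite group on a Sylow 2-subgroup. -/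
theorem result {Ω : Type*} [Group Ω] {S : Subgroup Ω} [Finite S] (hS : IsPGroup 2 S) (F : Cfsg.FusionSystem S) (hF : F.IsSaturated 2) (hshape : ((∃ m : ℕ, 4 ≤ m ∧ Nonempty (↥S ≃* DihedralGroup m)) ∨ (∃ m : ℕ, 2 ≤ m ∧ Nonempty (↥S ≃* QuaternionGroup m)) ∨ Cfsg.IsQuasiDihedral ↥S ∨ Cfsg.IsWreathed ↥S)) : (∀ E₁ E₂ E₃ : Subgroup Ω, F.IsEssential 2 E₁ → F.IsEssential 2 E₂ → F.IsEssential 2 E₃ → (∃ φ ∈ F.Hom E₁, φ.range = E₂) ∨ (∃ φ ∈ F.Hom E₁, φ.range = E₃) ∨ (∃ φ ∈ F.Hom E₂, φ.range = E₃)) ∧ F.IsRealizable 2 := by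
  have : Fact (Nat.Prime 2) := ⟨Nat.prime_two⟩
  have hF' : Sat 2 F := ⟨hS, hF⟩
  have k : F.IsNormal S ∨ (∃ a b m k e, MR S a b m k e ∧ MType m k e) ∨ ∃ x y z n, WR S x y z n := by
    rcases hshape with ⟨m, hm, ⟨f⟩⟩ | ⟨m, hm, ⟨f⟩⟩ | h | h
    · obtain ⟨a, b, k, h⟩ := mr_of_dihedral hS (by omega) f
      exact Or.inr (Or.inl ⟨a, b, k, _, _, h, Or.inl ⟨rfl, rfl⟩⟩)
    · rcases hm.eq_or_lt with rfl | hm
      · exact Or.inl (hF'.normal_top_of_q8 f)
      · obtain ⟨a, b, k, h1, h⟩ := mr_of_quaternion hS hm f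
        exact Or.inr (Or.inl ⟨a, b, k, _, _, h, Or.inr (Or.inl ⟨h1, rfl, rfl⟩)⟩)
    · obtain ⟨a, b, k, h1, h⟩ := mr_of_qd h
      exact Or.inr (Or.inl ⟨a, b, k, _, _, h, Or.inr (Or.inr ⟨h1, rfl, rfl⟩)⟩)
    · exact Or.inr (Or.inr (wr_of_isWreathed h))
  rcases k with h | ⟨a, b, m, k, e, h, ht⟩ | ⟨x, y, z, n, h⟩
  · exact ⟨fun _ _ _ h1 => absurd h1 (hF'.not_essential_of_normal_top h), hF'.realizable_of_normal_top h⟩
  · exact ⟨fun _ _ _ => (h.mx ht).two_classes hF', h.realizable ht hF'⟩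
  · exact ⟨fun _ _ _ => h.two_classes hF', h.realizable hF'⟩

end Cfsg.Agent.S5248
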