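import Cfsg.Statements.S5251
import Cfsg.Agent.Lib.Fus.Misc
-- import your own Cfsg.Agent.* helpers here

set_option autoImplicit false
open Cfsg

namespace Cfsg.Agent.S5251

open Cfsg.FusionSystem Cfsg.Lib.Fus Equiv

/-- Let F be a saturated fusion system over a finite p-group S, E a normal subsystem of F over T, and P an F-centric subgroup of S such that P ∩ T is not E-centric. Then some F-conjugate P* of P satisfies Out_S(P*) ∩ O_p(Out_F(P*)) ≠ 1: there is an element of N_S(P*) outside P* whose conjugation action on P* lies in O_p(Aut_F(P*)). In particular P is not both centric and radical in F. -/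
theorem result {Ω : Type*} [Group Ω] {S : Subgroup Ω} [Finite S] (p : ℕ) [Fact p.Prime] (hS : IsPGroup p S) (F : Cfsg.FusionSystem S) (hF : F.IsSaturated p) {T : Subgroup Ω} (E : Cfsg.FusionSystem T) (hE : E.IsNormalIn F p) (P : Subgroup Ω) (hP : F.IsCentric P) (hPT : ¬ E.IsCentric (P ⊓ T)) : (∃ φ ∈ F.Hom P, ∃ x ∈ S ⊓ Subgroup.normalizer (φ.range : Set Ω), x ∉ φ.range ∧ ∃ α ∈ ((Cfsg.pCore p ↥(F.autGroup φ.range)).map (F.autGroup φ.range).subtype : Subgroup (MulAut ↥φ.range)), ∀ y : ↥φ.range, ((α y : ↥φ.range) : Ω) = x * (y : Ω) * x⁻¹) ∧ ¬ F.IsRadical p P := by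
  replace hE := (isNormalIn_iff hS).mp hE
  have := hE.finite
  have hsat := hE.satF
  have hn : P ≤ normalizerIn S (P ⊓ T) := fun x hx =>
    ⟨hP.1 hx, mem_normalizer_inf (Subgroup.le_normalizer hx) (sc_le_normalizer hE.sc (hP.1 hx))⟩
  obtain ⟨U, τ, h1, h2, h3⟩ := hsat.exists_fn (inf_le_left.trans hP.1 : P ⊓ T ≤ S)
  have h4 := h1.iso_of_le hn
  obtain rfl := (h4.inf_sc hE.sc).eq_of_eq h2
  have h5 : ¬ centralizerIn T (img τ P ⊓ T) ≤ img τ P := fun h => hPT <| by
    have h6 := centric_of_fc (hsat.fc_of_sub hE.sub hE.sc inf_le_right (hsat.fc_of_fn h3))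
      (le_inf h (centralizerIn_le _ _))
    obtain ⟨α, σ₀, h7, h8, h9⟩ := hE.frat inf_le_right h2.symm.mor
    refine isCentric_iff.mpr ⟨inf_le_right, fun Q ρ hρ g hg => ?_⟩
    have h10 : Iso F (img σ₀ (img τ P ⊓ T)) (P ⊓ T) α := by
      simpa using (h8.iso.symm.of_sub hE.sub).trans (h2.symm.congr (τ := α * σ₀) fun x hx => (h9 x hx).symm)
    have h11 := hE.conj_iso hρ h7.symm
    rw [h10.symm.img_eq] at h11
    have h12 := centric_centralizerIn_le ((h8.iso.trans h11).isCentric h6)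
      (((h7.symm.mem_centralizerIn_iff hρ.le' (h7.symm.mor.iso_of_le hρ.le') g)).mpr hg)
    exact (h7.symm.homOn.mono hρ.le').apply_mem_img_iff.mp h12
  obtain ⟨g, hg, hgP, hgn⟩ := exists_mem_normalizer_not_mem hS h4.le' ((centralizerIn_le _ _).trans hE.le)
    (fun x hx => mem_normalizer_centralizerIn (sc_le_normalizer hE.sc (h4.le' hx))
      (mem_normalizer_inf (Subgroup.le_normalizer hx) (sc_le_normalizer hE.sc (h4.le' hx)))) h5
  have h6 : cj g ∈ opP p F (img τ P) := mem_opP_of_trivMod_sc hS (iso_cj F h4.le' (hE.le hg.1) hgn) hE.sc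
    (fun x hx => inv_mul_conj_mem hg.1 (sc_le_normalizer hE.sc (h4.le' hx))) (fixP_le_opP p F _ (cj_mem_fixP.mpr hg.2))
  refine ⟨⟨_, h4.mor.toHom_mem, ?_⟩, fun hr => hgP (mem_of_cj_mem_inn (centric_centralizerIn_le (h4.isCentric hP))
    (hE.le hg.1) h4.le' (radical_opP_le (h4.isRadical hS hr) h6))⟩
  rw [← h4.homOn.img_eq_range]
  exact ⟨g, ⟨hE.le hg.1, hgn⟩, hgP, mem_liftAut.mp h6⟩

end Cfsg.Agent.S5251
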