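import Cfsg.Statements.S5257
import Cfsg.Agent.Lib.Fus3.AbIdx

set_option autoImplicit false
open Cfsg

namespace Cfsg.Agent.S5257

open Cfsg.Lib Cfsg.Lib.Fus Cfsg.FusionSystem
open Subgroup hiding upperCentralSeries normal_subgroupOf_of_le_normalizer
open scoped commutatorElement

/-- Let p be an odd prime, S a finite nonabelian p-group with a unique abelian subgroup A of index p, and F a saturated fusion system over S having an F-essential subgroup other than A. Then the second centre Z₂(S) lies in A; Z(S) ∩ [S, S] has order p; Z(S)[S, S] has index p in A; Z(S) has index p in Z₂(S); and S/Z(S) has maximal nilpotency class (if S/Z(S) has order pᵐ with m ≥ 3 then the term of index m − 2 of the lower central series of S, counting S as index 0, is not contained in Z(S)). -/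
theorem result {Ω : Type*} [Group Ω] {S : Subgroup Ω} [Finite S] (p : ℕ) [Fact p.Prime] (hS : IsPGroup p S) (F : Cfsg.FusionSystem S) (hF : F.IsSaturated p) (hp : p ≠ 2) (hna : ¬ IsMulCommutative ↥S) (A : Subgroup Ω) (hA : A ≤ S ∧ IsMulCommutative ↥A ∧ (A.subgroupOf S).index = p) (huniq : ∀ B : Subgroup Ω, B ≤ S → IsMulCommutative ↥B → (B.subgroupOf S).index = p → B = A) (P : Subgroup Ω) (hP : F.IsEssential p P) (hPA : P ≠ A) : ((upperCentralSeries ↥S 2).map S.subtype) ≤ A ∧ Nat.card ↥((S ⊓ Subgroup.centralizer (S : Set Ω)) ⊓ ((commutator ↥S).map S.subtype)) = p ∧ (((S ⊓ Subgroup.centralizer (S : Set Ω)) ⊔ ((commutator ↥S).map S.subtype)).subgroupOf A).index = p ∧ (((S ⊓ Subgroup.centralizer (S : Set Ω))).subgroupOf ((upperCentralSeries ↥S 2).map S.subtype)).index = p ∧ ∀ m : ℕ, ((S ⊓ Subgroup.centralizer (S : Set Ω)).subgroupOf S).index = p ^ m → 3 ≤ m → ¬ Subgroup.lowerCentralSeries S (m - 2) ≤ (S ⊓ Subgroup.centralizer (S : Set Ω)) := by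
  have h : AI p S A := ⟨ip_of_relIndex hS hA.1 hA.2.2, hA.2.1, hna⟩
  have h1 := h.ip_two ⟨hS, hF⟩ hP hPA
  have h2 := h.two_le hS huniq h1
  have h3 := h.card_inf h1
  have := finite_of_le hA.1
  have := finite_of_le (ucs_le S 2)
  have := finite_of_le (centralizerIn_le S S)
  rw [PGrp.map_subtype_commutator']
  refine ⟨h2, h3, ?_, (inf_eq_left.mpr h2 ▸ h1).relIndex, fun m hm _ => h.lcs_not_le hS h1 hm (by omega)⟩
  obtain ⟨x, hx, hx'⟩ := h.ip.exists_not_mem
  have l1 : ⁅S, S⁆ ≤ A := h.range_f hx hx' ▸ by rintro _ ⟨a, rfl⟩; exact h.f_mem hx a.2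
  have l2 := sup_le h.center_le l1
  have := finite_of_le l2
  refine (ip_of_card (hS.to_le hA.1) l2 ?_).relIndex
  have : ((centralizerIn S S).subgroupOf A).Normal :=
    normal_subgroupOf_of_le_normalizer fun a ha => norm_center (hA.1 ha)
  have h4 := PGrp.card_sup_mul_card_inf (⁅S, S⁆.subgroupOf A) ((centralizerIn S S).subgroupOf A)
  rw [← subgroupOf_sup l1 h.center_le, show ⁅S, S⁆.subgroupOf A ⊓ (centralizerIn S S).subgroupOf A =
    (centralizerIn S S ⊓ ⁅S, S⁆).subgroupOf A from inf_comm _ _, Core.card_subgroupOf_of_le (sup_le l1 h.center_le),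
    Core.card_subgroupOf_of_le (inf_le_right.trans l1), Core.card_subgroupOf_of_le l1,
    Core.card_subgroupOf_of_le h.center_le, h3, ← h.card_eq, sup_comm, mul_comm] at h4
  exact h4.symm

end Cfsg.Agent.S5257
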