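import Cfsg.Statements.S5270
import Cfsg.Agent.Lib.Fus3.MaxCl
-- import your own Cfsg.Agent.* helpers here

set_option autoImplicit false
open Cfsg

namespace Cfsg.Agent.S5270

open Cfsg.FusionSystem Cfsg.Lib.Fus Equiv

/-- Let p ≥ 5 be a prime, S a finite p-group of maximal class of order p^n with n ≥ 4, and F a saturated fusion system over S. If some map of F defined on the second centre Z₂(S) with image Z₂(S) does not carry Z(S) into itself, then the centralizer C_S(Z₂(S)) is an F-essential subgroup. -/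
theorem result {Ω : Type*} [Group Ω] {S : Subgroup Ω} [Finite S] (p : ℕ) [Fact p.Prime] (hS : IsPGroup p ↥S) (n : ℕ) (hn : Nat.card S = p ^ n) (h4 : 4 ≤ n) (hmax : Subgroup.lowerCentralSeries S (n - 2) ≠ ⊥) (F : Cfsg.FusionSystem S) (hF : F.IsSaturated p) (hp : 5 ≤ p) (φ : ↥((Subgroup.upperCentralSeries ↥S 2).map S.subtype) →* Ω) (hφ : φ ∈ F.Hom ((Subgroup.upperCentralSeries ↥S 2).map S.subtype)) (hφZ : φ.range = ((Subgroup.upperCentralSeries ↥S 2).map S.subtype)) (hmove : ∃ (z : Ω) (hz : z ∈ ((Subgroup.upperCentralSeries ↥S 2).map S.subtype)), z ∈ ((Subgroup.center ↥S).map S.subtype) ∧ φ ⟨z, hz⟩ ∉ ((Subgroup.center ↥S).map S.subtype)) : F.IsEssential p (S ⊓ Subgroup.centralizer (((Subgroup.upperCentralSeries ↥S 2).map S.subtype) : Set Ω)) := by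
  have hF' : Sat p F := ⟨hS, hF⟩
  obtain ⟨G, h, hb, -⟩ := exists_mxc hn h4 hmax
  change F.IsEssential p (centralizerIn S (ucs S 2))
  obtain ⟨σ, hσ, e⟩ := exists_perm hφ
  have hZ : S ≤ Subgroup.normalizer (ucs S 2 : Set Ω) := h.ucs_two_eq hb ▸ h.norm _
  have hi : Iso F (ucs S 2) (ucs S 2) σ := hσ.iso_self fun x hx => hφZ.le ⟨⟨x, hx⟩, e _⟩
  have hfc := hF'.fc_of_fn (isFullyNormalized_of_normal F (ucs_le S 2) hZ)
  obtain ⟨τ, hτ, e'⟩ := hF'.extend_centralizerIn hi hfc
  have hC := hτ.iso_centralizerIn le_sup_left le_sup_right hfc (hi.congr e')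
  have ip : Ip p (centralizerIn S (ucs S 2)) S := by
    have := h.ip_tw (i := n - 2) (by omega) (by omega)
    convert this using 1
    ext g
    rw [h.mem_tw, h.ucs_two_eq hb, show n - 2 + 2 = n by omega, hb]
    simp only [Subgroup.mem_bot, commutatorElement_eq_one_iff_mul_comm]
    rfl
  have hle : ucs S 2 ≤ centralizerIn S (ucs S 2) := by
    rw [h.ucs_two_eq hb]
    exact fun y hy => ⟨h.le _ hy, fun z hz => commutatorElement_eq_one_iff_mul_comm.1
      (Subgroup.mem_bot.1 (hb ▸ h.anti (by omega) (h.two_le_tw (n - 2) (h.anti (by omega) hy) |> h.mem_tw.1 |>.2 z hz)))⟩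
  by_contra he
  obtain ⟨α, hα, e''⟩ := exists_ext_top_of_mem_extAut ip.le (fun Q h1 h2 => (ip.eq_or_eq h1.le h2).resolve_left h1.ne')
    (hF'.autP_le_extAut ip.lt (isFullyNormalized_of_normal F ip.le ip.norm) he hC.mem_autP)
  obtain ⟨z, hz, h1, h2⟩ := hmove
  rw [map_center_eq] at h1 h2
  exact h2 (by rw [e, ← e' z hz, ← e'' z (hle hz)]; exact hα.mem_center_top h1)

end Cfsg.Agent.S5270
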