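import Cfsg.Statements.S5271
import Cfsg.Agent.Lib.Fus.WE
-- import your own Cfsg.Agent.* helpers here

set_option autoImplicit false
open Cfsg

namespace Cfsg.Agent.S5271

open Cfsg.FusionSystem Cfsg.Lib.Fus Equiv

/-- A nilpotency criterion for fusion systems. Let F be a saturated fusion system over a finite p-group S of order at least p². Call a subgroup Q of S weakly embedded in F when there is a subgroup P of S strongly closed in F such that both the product QP and the intersection Q ∩ P are strongly closed in F. Then F is the inner fusion system of S if and only if there is a subgroup D of S with 1 < D < S such that every subgroup of S of the same order as D is weakly embedded in F and, for every fully normalized subgroup H of S of that order, the normalizer fusion system of H in F is the inner fusion system of N_S(H). -/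
theorem result {Ω : Type*} [Group Ω] {S : Subgroup Ω} [Finite S] (p : ℕ) [Fact p.Prime] (hS : IsPGroup p ↥S) (F : Cfsg.FusionSystem S) (hF : F.IsSaturated p) (hcard : p ^ 2 ≤ Nat.card S) : (∀ P : Subgroup Ω, F.Hom P = (Cfsg.innerFusionSystem S).Hom P) ↔ ∃ D : Subgroup Ω, ⊥ < D ∧ D < S ∧ (∀ Q : Subgroup Ω, Q ≤ S → Nat.card ↥Q = Nat.card ↥D → ∃ P : Subgroup Ω, F.StronglyClosed P ∧ F.StronglyClosed (Q ⊔ P) ∧ F.StronglyClosed (Q ⊓ P)) ∧ (∀ H : Subgroup Ω, F.IsFullyNormalized H → Nat.card ↥H = Nat.card ↥D → ∀ N : Cfsg.FusionSystem (Cfsg.FusionSystem.normalizerIn S H), F.IsNormalizerSystem H N → ∀ P : Subgroup Ω, N.Hom P = (Cfsg.innerFusionSystem (Cfsg.FusionSystem.normalizerIn S H)).Hom P) := by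
  have hs : Sat p F := ⟨hS, hF⟩
  have hp : p.Prime := Fact.out
  constructor
  · intro h
    rw [hom_eq_inner_iff] at h
    obtain ⟨n, hn⟩ := IsPGroup.iff_card.1 hS
    rw [hn, Nat.pow_le_pow_iff_right hp.one_lt] at hcard
    obtain ⟨m, rfl⟩ := Nat.exists_eq_add_of_le' hcard
    have k1 : 1 < p ^ (m + 1) := Nat.one_lt_pow (by omega) hp.one_lt
    have k2 : p ^ (m + 1) < p ^ (m + 2) := Nat.pow_lt_pow_right hp.one_lt (by omega)
    obtain ⟨D, -, d1, d2⟩ := exists_between_pow hS bot_le (k := m + 1) (by rw [Subgroup.card_bot]; omega)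
      (by omega)
    refine ⟨D, bot_lt_iff_ne_bot.mpr ?_, lt_of_le_of_ne d1 ?_, fun Q q1 q2 => ⟨⊥, sc_bot F, ?_, ?_⟩,
      fun H h1 h2 N hN => ?_⟩
    · rintro rfl
      rw [Subgroup.card_bot] at d2
      omega
    · rintro rfl
      omega
    · have k3 : (Q.subgroupOf S).index = p := by
        have := (Q.subgroupOf S).card_mul_index
        rw [Nat.card_congr (Subgroup.subgroupOfEquivOfLe q1).toEquiv, q2, d2, hn, pow_succ p (m + 1)] at this
        exact Nat.eq_of_mul_eq_mul_left (by omega) this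
      have k4 := Cfsg.Lib.PGrp.normal_of_isCoatom hS ((Cfsg.Lib.PGrp.isCoatom_iff_index_eq hS).mpr k3)
      rw [sup_bot_eq]
      refine stronglyClosed_iff.mpr ⟨q1, fun R σ h1 x hx hxQ => ?_⟩
      obtain ⟨g, g1, g2⟩ := h R σ h1
      rw [g2 x hx]
      exact k4.conj_mem ⟨x, q1 hxQ⟩ hxQ ⟨g, g1⟩
    · rw [inf_bot_eq]
      exact sc_bot F
    · rw [isNormalizerSystem_iff] at hN
      refine hom_eq_inner_iff.mpr fun P σ h3 => ?_
      obtain ⟨τ, t1, t2, t3⟩ := hN.ext h3
      obtain ⟨g, g1, g2⟩ := h _ τ t1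
      have := finite_of_le hN.le
      refine ⟨g, ⟨g1, cj_mem_autAll_iff.mp (mem_autAll_of_mapsTo (mor_cj F hN.le g1).homOn le_rfl fun x hx => ?_)⟩,
        fun x hx => by rw [← t2 x hx, g2 x (Subgroup.mem_sup_left hx)]⟩
      rw [cj_apply, ← g2 x (Subgroup.mem_sup_right hx)]
      exact autAll_mem t3 hx
  · rintro ⟨D, d1, d2, ha, hb⟩
    have := finite_of_le d2.le
    obtain ⟨d, hd⟩ := IsPGroup.iff_card.1 (hS.to_le d2.le)
    rw [hd] at ha hb
    have h : WE p F d := by
      refine ⟨Nat.pos_of_ne_zero ?_, ?_, ha, fun H R σ h1 h2 h3 h4 h5 => ?_⟩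
      · rintro rfl
        exact d1.ne' (Subgroup.card_eq_one.mp hd)
      · rw [← hd]
        exact lt_of_le_of_ne (Subgroup.card_le_of_le d2.le) fun k => d2.ne (Subgroup.eq_of_le_of_card_ge d2.le k.ge)
      · obtain ⟨H', τ, t1, t2, t3⟩ := hs.exists_fn (h2.trans h4.le)
        obtain ⟨N, hN⟩ := exists_normalizerSystem F t2.le'
        have k := hom_eq_inner_iff.mp (hb H' t3 (t2.card_eq ▸ h1) N hN)
        rw [isNormalizerSystem_iff] at hN
        have r1 : R ≤ normalizerIn S H := le_inf h4.le h3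
        have r2 := t1.iso_of_le r1
        have r3 := r2.conj h4
        have r4 := t2.conj (h4.restrict h2 (mem_autAll.mp h5).2)
        have r5 : H' ≤ img τ R := fun y hy => by
          obtain ⟨x, hx, rfl⟩ := t2.exists_eq hy
          exact r2.mem (h2 hx)
        obtain ⟨g, g1, g2⟩ := k _ _ (hN.mor_of_mem r3.mor r5 r4.mem_autAll le_rfl fun y hy => by
          obtain ⟨x, hx, rfl⟩ := r2.exists_eq hy
          have := t1.mem_normalizerIn_img (le_normalizerIn t2.le) (r1 hx) (h3 hx)
          rwa [t2.img_eq] at this)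
        obtain ⟨j, hj⟩ := hS ⟨g, g1.1⟩
        have e1 : g ^ p ^ j = 1 := congrArg Subtype.val hj
        refine ⟨j, mem_fixP.mpr fun x hx => τ.injective ?_⟩
        have := pow_eqOn (σ := τ * σ * τ⁻¹) (τ := cj g) (fun _ => r3.mem) (fun y hy => (g2 y hy).symm) (p ^ j) _
          (r2.mem hx)
        rw [← map_pow, e1, map_one, conj_pow, Perm.mul_apply, Perm.mul_apply, perm_inv_apply_self] at this
        exact this.symm
    exact Cfsg.Lib.Fus2.inner_iff_sub.mpr
      (Cfsg.Lib.Fus2.sub_of_hyp_eq_bot hs (WE.hyp_eq_bot _ F d le_rfl hs h) le_rfl)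

end Cfsg.Agent.S5271
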