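import Cfsg.Statements.S5272
import Cfsg.Agent.Lib.Glaub.NPC

set_option autoImplicit false
open Cfsg

namespace Cfsg.Agent.S5272

open Cfsg.FusionSystem Cfsg.Lib.Fus2 Cfsg.Lib.Amalg Subgroup Cfsg.Lib Cfsg.Lib.Glaub Cfsg.Lib.Transfer

/-- An axiomatic Glauberman–Thompson nilpotency criterion for fusion systems. Let p be an odd prime, F a saturated fusion system over a finite p-group S, and 𝒜 a nonempty family of abelian subgroups of S. For Q ≤ S write I(Q) for the intersection of the members of 𝒜 contained in Q. Assume (invariance) that for every Q ≤ S containing a member of 𝒜, every F-automorphism of Q maps I(Q) into itself, and (replacement) that for every subgroup B of S of nilpotency class at most 2, if some member of 𝒜 contains [B,B] but not B, then B normalizes some member of 𝒜 that contains [B,B] but not B. Then F is the inner fusion system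 of S if and only if the normalizer fusion system of I(S) in F is the inner fusion system of N_S(I(S)). -/
theorem result {Ω : Type*} [Group Ω] {S : Subgroup Ω} [Finite S] (p : ℕ) [Fact p.Prime] (hS : IsPGroup p ↥S) (F : Cfsg.FusionSystem S) (hF : F.IsSaturated p) (hp : p ≠ 2) (𝒜 : Set (Subgroup Ω)) (h𝒜 : ∀ A ∈ 𝒜, A ≤ S ∧ IsMulCommutative ↥A) (hne : 𝒜.Nonempty) (hinv : ∀ Q : Subgroup Ω, Q ≤ S → (∃ A ∈ 𝒜, A ≤ Q) → ∀ α ∈ F.autGroup Q, ∀ x : ↥Q, (x : Ω) ∈ (⨅ A ∈ {A : Subgroup Ω | A ∈ 𝒜 ∧ A ≤ Q}, A) → (((α : MulAut ↥Q) x : ↥Q) : Ω) ∈ (⨅ A ∈ {A : Subgroup Ω | A ∈ 𝒜 ∧ A ≤ Q}, A)) (hrep : ∀ B : Subgroup Ω, B ≤ S → ⁅⁅B, B⁆, B⁆ = ⊥ → (∃ A ∈ 𝒜, ⁅B, B⁆ ≤ A ∧ ¬ B ≤ A) → ∃ A ∈ 𝒜, ⁅B, B⁆ ≤ A ∧ ¬ B ≤ A ∧ B ≤ Subgroup.normalizer (A : Set Ω)) : (∀ P : Subgroup Ω, F.Hom P = (Cfsg.innerFusionSystem S).Hom P) ↔ ∀ N : Cfsg.FusionSystem (Cfsg.FusionSystem.normalizerIn S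 (⨅ A ∈ 𝒜, A)), F.IsNormalizerSystem (⨅ A ∈ 𝒜, A) N → ∀ P : Subgroup Ω, N.Hom P = (Cfsg.innerFusionSystem (Cfsg.FusionSystem.normalizerIn S (⨅ A ∈ 𝒜, A))).Hom P := by
  have hs : Fus.Sat p F := ⟨hS, hF⟩
  simp only [← sInf_eq_iInf] at hinv
  rw [← sInf_eq_iInf]
  have i1 : ∀ Q ≤ S, (∃ A ∈ 𝒜, A ≤ Q) → ∀ f, Mor F Q f → (∀ x ∈ Q, f x ∈ Q) → ∀ x ∈ sInf {A ∈ 𝒜 | A ≤ Q},
      f x ∈ sInf {A ∈ 𝒜 | A ≤ Q} := fun Q a1 ⟨A, a2⟩ f a3 a4 x hx => by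
    obtain ⟨α, b1, b2⟩ := a3.exists_aut' a4
    have := hinv Q a1 ⟨A, a2⟩ α b1 ⟨x, a2.2 (mem_sInf.1 hx A a2)⟩ hx
    rwa [← autFun_of_mem, b2 _ (a2.2 (mem_sInf.1 hx A a2))] at this
  have i2 : ∀ {Ω' : Type _} [Group Ω'] {S' : Subgroup Ω'} (I : GIso S S') (s : Set (Subgroup Ω)), s.Nonempty →
      I.map (sInf s) = sInf (I.map '' s) := fun I s ⟨A, hA⟩ => le_antisymm
    (le_sInf (by rintro _ ⟨B, hB, rfl⟩; exact I.map_mono (sInf_le hB))) fun x hx => I.mem_map.2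
      ⟨I.map_le A (mem_sInf.1 hx _ ⟨A, hA, rfl⟩), mem_sInf.2 fun B hB => (I.mem_map.1 (mem_sInf.1 hx _ ⟨B, hB, rfl⟩)).2⟩
  obtain ⟨A₀, hA₀⟩ := id hne
  have z1 := (sInf_le hA₀).trans (h𝒜 _ hA₀).1
  have a := isFullyNormalized_of_le_normalizer F z1 fun s hs => mem_normalizer_of_conj_mem' z1 (by
    simpa only [Set.sep_eq_self_iff_mem_true.2 fun A a => (h𝒜 A a).1] using i1 S le_rfl ⟨A₀, hA₀, (h𝒜 _ hA₀).1⟩ _
      (mor_conj F le_rfl hs) fun x hx => mul_mem (mul_mem hs hx) (S.inv_mem hs))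
  obtain ⟨N, hN⟩ := exists_normalizerSystem F a.1
  rw [← pAut_iff_inner hs]
  refine ⟨fun h N hN => (pAut_iff_inner (sat_normalizer hs a hN)).1 (h.of_sub (sub_of_isNormalizerSystem hN)), fun h => ?_⟩
  by_contra c
  obtain ⟨E, a1, a2, a3, G, _, _, P, I, b1, b2⟩ := exists_minC hp hs c
  have : (I.map (sInf 𝒜)).Normal := by
    rw [i2 I _ hne]
    refine axiom_normal b2.syl ?_ (hne.image _) (fun Q' c1 ⟨_, ⟨A, c2, rfl⟩, c3⟩ g hg => ?_) (fun B' c1 c2 ⟨_, ⟨A, c3, rfl⟩, c4⟩ => ?_)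
      (fun V _ hV => stab_of_qd hp hV le_normalizer_of_normal fun c => b2.not_involves_qd hp (involves_of_subgroup c)) b2.charP
    · rintro _ ⟨A, c, rfl⟩
      exact ⟨I.map_le A, commutator_self_eq_bot_iff.1 (by
        rw [← I.map_commutator (h𝒜 A c).1 (h𝒜 A c).1, commutator_self_eq_bot_iff.2 (h𝒜 A c).2, I.map_bot])⟩
    · obtain ⟨Q, d1, rfl⟩ := b1.exists_eq_map c1
      replace c3 := (I.map_le_map_iff (h𝒜 A c2).1).1 c3
      have d2 : {A ∈ I.map '' 𝒜 | A ≤ I.map Q} = I.map '' {A ∈ 𝒜 | A ≤ Q} := Set.ext fun B => ⟨by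
        rintro ⟨⟨B, e1, rfl⟩, e2⟩; exact ⟨B, ⟨e1, (I.map_le_map_iff (h𝒜 B e1).1).1 e2⟩, rfl⟩, by
        rintro ⟨B, ⟨e1, e2⟩, rfl⟩; exact ⟨⟨B, e1, rfl⟩, I.map_mono e2⟩⟩
      obtain ⟨f, d3, d4⟩ := b1.exists_mor d1 (mor_group_conj c1 ((cj_of_mem_normalizer hg).le.trans c1))
      have d5 := (sInf_le (show A ∈ {A ∈ 𝒜 | A ≤ Q} from ⟨c2, c3⟩)).trans c3
      rw [d2, ← i2 I {A ∈ 𝒜 | A ≤ Q} ⟨A, c2, c3⟩]
      refine Core.mem_normalizer_of_conj_mem ((I.forall_mem_map (d5.trans d1)).2 fun x hx => ?_)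
      rw [← d4 x (d5 hx)]
      refine I.fw_mem_map (d5.trans d1) (i1 Q d1 ⟨A, c2, c3⟩ f (d3.of_sub a2) (fun y hy => ?_) x hx)
      rw [← I.fw_mem_map_iff (d3.mem hy), d4 y hy]
      exact Core.conj_mem_of_mem_normalizer hg (I.fw_mem_map d1 hy)
    · obtain ⟨B, d1, rfl⟩ := b1.exists_eq_map c1
      have d2 := (commutator_le_self B).trans d1
      simp only [← I.map_commutator d1 d1, ← I.map_commutator d2 d1, I.map_eq_bot_iff (comm_le_of_le d2 d1),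
        I.map_le_map_iff d1, I.map_le_map_iff d2] at c2 c4 ⊢
      obtain ⟨A', e1, e2, e3, e4⟩ := hrep B d1 c2 ⟨A, c3, c4⟩
      exact ⟨_, ⟨A', e1, rfl⟩, I.map_mono e2, fun e => e3 ((I.map_le_map_iff d1).1 e), (I.forall_mem_map d1).2 fun x hx =>
        I.fw_mem_normalizer (h𝒜 _ e1).1 (d1 hx) (e4 hx)⟩
  exact a3.1 (((pAut_iff_inner (sat_normalizer hs a hN)).2 (h N hN)).of_sub (isSubsystemOf_iff.2 fun Q f hf =>
    (mor_iff_nMor hN).2 ((nMor_of_isNormal ((b1.isNormal_iff z1).1 (isNormal_group_of_normal (I.map_le _))) hf).mono a2)))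

end Cfsg.Agent.S5272
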