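import Cfsg.Statements.S5274
import Cfsg.Agent.Lib.Fus.PAut
import Cfsg.Agent.Lib.Fus.Frat
import Cfsg.Agent.Lib.Fus.Small
import Cfsg.Agent.Lib.Fus.NormK
import Cfsg.Agent.Lib.Fus.Normal
import Cfsg.Agent.Lib.PGrp.Basic
-- import your own Cfsg.Agent.* helpers here

set_option autoImplicit false
open Cfsg

namespace Cfsg.Agent.S5274

open Cfsg.FusionSystem Cfsg.Lib.Fus Equiv

theorem mem_cz {Ω : Type*} [Group Ω] {S : Subgroup Ω} {x g : Ω} (hg : g ∈ S) (h : x * g = g * x) :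
    g ∈ centralizerIn S (Subgroup.zpowers x) :=
  ⟨hg, fun _ ⟨k, hk⟩ => hk ▸ ((show Commute x g from h).zpow_left k).eq⟩

theorem ext_central {Ω : Type*} [Group Ω] {S P : Subgroup Ω} [Finite S] {F : FusionSystem S} {p : ℕ}
    [Fact p.Prime] (hF : Sat p F) {σ : Perm Ω} (h : Mor F P σ) {x : Ω} (hx : x ∈ P)
    (hz : σ x ∈ centralizerIn S S) : ∃ τ, Mor F (centralizerIn S (Subgroup.zpowers x)) τ ∧ τ x = σ x := by
  have h1 := h.mono (Subgroup.zpowers_le.mpr hx)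
  have h2 := h1.iso
  rw [h1.homOn.img_zpowers] at h2
  have h3 : F.IsFullyCentralized (Subgroup.zpowers (σ x)) :=
    isFullyCentralized_iff.mpr ⟨h2.le', fun Q τ _ => Subgroup.card_le_of_le ((centralizerIn_le S Q).trans
      fun g hg => mem_cz hg (hz.2 g hg).symm)⟩
  obtain ⟨τ, t1, t2⟩ := hF.extend_centralizerIn h2 h3
  exact ⟨τ, t1.mono le_sup_right, t2 x (Subgroup.mem_zpowers x)⟩

/-- Let F be a saturated fusion system over a finite 2-group S. Suppose that every element of S is F-conjugate to an element of the centre Z(S) (some map of F defined on the cyclic subgroup it generates sends it into Z(S)). Then S is abelian. -/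
theorem result {Ω : Type*} [Group Ω] {S : Subgroup Ω} [Finite S] (hS : IsPGroup 2 ↥S) (F : Cfsg.FusionSystem S) (hF : F.IsSaturated 2) (h : ∀ x ∈ S, ∃ z ∈ S ⊓ Subgroup.centralizer (S : Set Ω), F.IsConjElt x z) : IsMulCommutative ↥S := by
  have hs : Sat 2 F := ⟨hS, hF⟩
  obtain ⟨Z, hZ⟩ : ∃ Z, Z = centralizerIn S S := ⟨_, rfl⟩
  have hZS : Z ≤ S := hZ ▸ centralizerIn_le S S
  have hZc : ∀ z ∈ Z, ∀ s ∈ S, s * z = z * s := fun z hz s hs => (hZ ▸ hz : z ∈ centralizerIn S S).2 s hs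
  have hA : ∀ x ∈ S, ∃ τ, Mor F (centralizerIn S (Subgroup.zpowers x)) τ ∧ τ x ∈ Z := fun x hx => by
    obtain ⟨z, hz, k⟩ := h x hx
    obtain ⟨σ, s1, rfl⟩ := isConjElt_iff.mp k
    obtain ⟨τ, t1, t2⟩ := ext_central hs s1 (Subgroup.mem_zpowers x) hz
    exact ⟨τ, t1, t2 ▸ hZ ▸ hz⟩
  have hB : ∀ τ, Iso F S S τ → ∀ x, τ x ∈ Z ↔ x ∈ Z := fun τ t x => hZ ▸ t.mem_centralizerIn_iff le_rfl t x
  have hC : ∀ P φ, Mor F P φ → ∀ z ∈ P, z ∈ Z → ∀ y ∈ S, φ z = y ^ 2 → ∃ c ∈ Z, z = c ^ 2 := by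
    intro P φ hφ z hzP hz y hy e
    obtain ⟨τ, t1, t2⟩ := hA y hy
    have y1 : y ∈ centralizerIn S (Subgroup.zpowers y) := mem_cz hy rfl
    have k1 : Mor F (Subgroup.zpowers z) (τ * φ) := (hφ.mono (Subgroup.zpowers_le.mpr hzP)).comp t1 (by
      rintro _ ⟨k, rfl⟩
      rw [hφ.homOn.map_zpow hzP, e]
      exact zpow_mem (pow_mem y1 2) k)
    have k2 : (τ * φ) z = τ y ^ 2 := by rw [Perm.mul_apply, e, t1.homOn.map_pow y1]
    obtain ⟨ρ, r1, r2⟩ := ext_central hs k1 (Subgroup.mem_zpowers z) (k2 ▸ hZ ▸ pow_mem t2 2)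
    have r3 := (r1.mono fun s hs => mem_cz hs (hZc z hz s hs).symm).iso_top
    refine ⟨ρ⁻¹ (τ y), (hB _ r3.symm _).mpr t2, ?_⟩
    rw [← r3.symm.homOn.map_pow (hZS t2), ← k2, ← r2, perm_inv_apply_self]
  by_contra hc
  let Bad : Subgroup Ω → Prop := fun R => F.IsEssential 2 R ∧ ∃ α, Iso F R R α ∧ ∃ z ∈ Z, α z ∉ Z
  have hD : ∀ x ∈ S, x ∉ Z → ∃ R, Bad R ∧ Nat.card (centralizerIn S (Subgroup.zpowers x)) ≤ Nat.card R := by
    intro x hx hxZ
    by_contra k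
    obtain ⟨τ, t1, t2⟩ := hA x hx
    refine hxZ (hs.alperin_ind (C := fun σ => σ x ∈ Z → x ∈ Z) id (fun σ τ h1 h2 h3 => h1 ?_)
      (fun σ R τ h1 h2 h3 h4 h5 h6 => h2 ?_) t1 t2)
    · rwa [← h2 x (mem_cz hx rfl)]
    · rcases h3 with rfl | h3
      · exact (hB τ h4 _).mp h6
      · by_contra k1
        have := finite_of_le h4.le
        refine k ⟨R, ⟨h3, τ⁻¹, h4.symm, _, h6, by rwa [Perm.mul_apply, perm_inv_apply_self]⟩, ?_⟩
        exact h1.homOn.card_le_of_mapsTo h5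
  obtain ⟨x, hx, hxZ⟩ : ∃ x ∈ S, x ∉ Z := by
    by_contra k
    push Not at k
    exact hc ⟨⟨fun a b => Subtype.ext (hZc b (k b b.2) a a.2)⟩⟩
  obtain ⟨Q, ⟨hQ, α, a1, z, hz, a2⟩, hmax⟩ : ∃ Q, Bad Q ∧ ∀ R, Bad R → Nat.card R ≤ Nat.card Q := by
    obtain ⟨R, hR, -⟩ := hD x hx hxZ
    obtain ⟨Q, h1, h2⟩ := Set.Finite.exists_maximalFor' (fun R : Subgroup Ω => Nat.card R) {R | Bad R}
      ((Set.finite_le_nat (Nat.card S)).subset (by
        rintro _ ⟨R, hR, rfl⟩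
        exact Subgroup.card_le_of_le hR.1.1.1)) ⟨R, hR⟩
    exact ⟨Q, h1, fun R hR => (le_total _ _).elim id (h2 hR)⟩
  have hQS : Q ≤ S := hQ.1.1
  have := finite_of_le hQS
  obtain ⟨V, hV⟩ : ∃ V, V = centralizerIn Q Q := ⟨_, rfl⟩
  have hVQ : V ≤ Q := hV ▸ centralizerIn_le Q Q
  have := finite_of_le hVQ
  have hVc : ∀ v ∈ V, ∀ s ∈ Q, s * v = v * s := fun z hz s hs => (hV ▸ hz : z ∈ centralizerIn Q Q).2 s hs
  have hZV : Z ≤ V := fun z hz => hV ▸ ⟨centric_centralizerIn_le hQ.1 ⟨hZS hz, fun s hs => hZc z hz s (hQS hs)⟩,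
    fun s hs => hZc z hz s (hQS hs)⟩
  have hVa : autP F Q ≤ autAll V := fun β hβ =>
    have k := (mem_autP hQS).mp hβ
    mem_autAll.mpr ⟨k.homOn.mono hVQ, fun x => hV ▸ k.mem_centralizerIn_iff le_rfl k x⟩
  obtain ⟨t, t1, t2, t3, t4⟩ := exists_mem_normalizer_pow_mem hS (hs.essential_lt hQ)
  have hE : ∀ v ∈ V, v * t = t * v → v ∈ Z := fun v hv e => by
    by_contra k
    obtain ⟨R, r1, r2⟩ := hD v (hQS (hVQ hv)) k
    have := Subgroup.eq_of_le_of_card_ge (H := Q) (K := centralizerIn S (Subgroup.zpowers v))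
      (fun s hs => mem_cz (hQS hs) (hVc v hv s hs).symm) (r2.trans (hmax R r1))
    exact t2 (this ▸ mem_cz t1 e)
  have hct : cj t ∈ autP F Q := (iso_cj F hQS t1 t3).mem_autP
  have hG : cj t ∈ trivMod V ((frattini V).map V.subtype) := by
    refine mem_trivMod.mpr ⟨hVa hct, fun v hv => ?_⟩
    have v1 : t * v * t⁻¹ ∈ V := autAll_mem (hVa hct) hv
    have vS := hQS (hVQ hv)
    have c1 := hVc v hv _ t4
    have c2 := hVc v hv _ (hVQ v1)
    have n1 : v * (t * v * t⁻¹) ∈ Z := hE _ (mul_mem hv v1) (by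
      calc v * (t * v * t⁻¹) * t = t * (t⁻¹ * (t * v * t⁻¹ * v) * t) := by rw [c2]; group
        _ = t * (v * t * (t ^ 2)⁻¹ * v * t ^ 2 * t⁻¹) := by group
        _ = _ := by rw [mul_assoc _ v, ← c1]; group)
    obtain ⟨φ, f1, f2⟩ := hA (t ^ 2) (pow_mem t1 2)
    have m1 : t ∈ centralizerIn S (Subgroup.zpowers (t ^ 2)) := mem_cz t1 (by group)
    have m2 : v ∈ centralizerIn S (Subgroup.zpowers (t ^ 2)) := mem_cz vS c1
    obtain ⟨c, hc1, hc2⟩ := hC S 1 (mor_one F le_rfl) _ (hZS f2) f2 (φ t) (f1.mem m1) (f1.homOn.map_pow m1 2)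
    have m3 := mul_mem m2 (mul_mem (mul_mem m1 m2) (inv_mem m1))
    obtain ⟨e, he1, he2⟩ := hC _ φ f1 _ m3 n1 (φ (v * t) * c⁻¹)
      (mul_mem (f1.mem (mul_mem m2 m1)) (inv_mem (hZS hc1))) (by
        rw [(show Commute (φ (v * t)) c⁻¹ from hZc _ (inv_mem hc1) _ (f1.mem (mul_mem m2 m1))).mul_pow,
          ← f1.homOn.map_pow (mul_mem m2 m1), show (v * t) ^ 2 = v * (t * v * t⁻¹) * t ^ 2 by
            rw [pow_two, pow_two]; group,
          f1.homOn.map_mul m3 (pow_mem m1 2), hc2]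
        group)
    have : v⁻¹ * cj t v = (v⁻¹ * e) ^ 2 := by
      rw [(show Commute v⁻¹ e from hZc e he1 _ (inv_mem vS)).mul_pow, ← he2, cj_apply, pow_two]
      group
    rw [this]
    exact ⟨⟨_, mul_mem (inv_mem hv) (hZV he1)⟩ ^ 2,
      Cfsg.Lib.PGrp.pow_mem_frattini (hS.to_le (hVQ.trans hQS)) _, rfl⟩
  have hX : ∀ β ∈ autP F Q, ∀ γ ∈ autP F Q ⊓ trivMod V ((frattini V).map V.subtype),
      β * γ * β⁻¹ ∈ autP F Q ⊓ trivMod V ((frattini V).map V.subtype) := fun β hβ γ hγ =>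
    ⟨(autP F Q).mul_mem (mul_mem hβ hγ.1) ((autP F Q).inv_mem hβ), conj_mem_trivMod (hVa hβ)
      (fun x _ hx => mem_map_of_characteristic (hVa hβ) _ x hx) hγ.2⟩
  have hH := PMod.le_of_normal (p := 2) (C := autP F Q ⊓ fixP V) (A := autP F Q ⊓ fixP Z) (H := autP F Q)
    (X := autP F Q ⊓ trivMod V ((frattini V).map V.subtype))
    (fun γ hγ => let ⟨k, hk⟩ := pMod_of_trivMod_frattini (hS.to_le (hVQ.trans hQS)) γ hγ.2
      ⟨k, pow_mem hγ.1 _, hk⟩) inf_le_left hX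
    (fun β hβ => mem_normalizer_inf (Subgroup.le_normalizer hβ) (autAll_le_normalizer V (hVa hβ)))
    (inf_le_inf_left _ (fixP_anti hZV))
    (not_dvd_relIndex_of_le_left (le_inf (autS_le_autP F hQS le_rfl) fun β hβ => by
      obtain ⟨g, g1, -, g3⟩ := mem_autS.mp hβ
      exact mem_fixP.mpr fun y hy => by rw [g3 y (hVQ (hZV hy)), hZc y hy g g1, mul_inv_cancel_right])
      (hs.fa_of_iso hQ.2.1))
  have k := mem_fixP.mp (hH (hX _ (inv_mem a1.mem_autP) _ ⟨hct, hG⟩)).2 z hz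
  rw [inv_inv, Perm.mul_apply, Perm.mul_apply, Perm.inv_eq_iff_eq, cj_apply] at k
  exact a2 (hE _ (autAll_mem (hVa a1.mem_autP) (hZV hz)) (mul_inv_eq_iff_eq_mul.mp k).symm)

end Cfsg.Agent.S5274
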