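import Cfsg.Statements.S5275
import Cfsg.Agent.Lib.Glaub.NPC

set_option autoImplicit false
open Cfsg

namespace Cfsg.Agent.S5275

open Cfsg.FusionSystem Cfsg.Lib.Fus2 Cfsg.Lib.Amalg Subgroup Cfsg.Lib Cfsg.Lib.Glaub Cfsg.Lib.Transfer

/-- A Glauberman–Thompson nilpotency criterion for fusion systems relative to a strongly closed subgroup. Let p be an odd prime, F a saturated fusion system over a finite p-group S, and D a subgroup of S that is strongly closed in F. Let Z(J(D)) be the centre of the subgroup of D generated by the abelian subgroups of D of largest order. Then F is the inner fusion system of S if and only if the normalizer fusion system of Z(J(D)) in F is the inner fusion system of N_S(Z(J(D))) = S. -/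
theorem result {Ω : Type*} [Group Ω] {S : Subgroup Ω} [Finite S] (p : ℕ) [Fact p.Prime] (hS : IsPGroup p ↥S) (F : Cfsg.FusionSystem S) (hF : F.IsSaturated p) (hp : p ≠ 2) (D : Subgroup Ω) (hD : F.StronglyClosed D) : (∀ P : Subgroup Ω, F.Hom P = (Cfsg.innerFusionSystem S).Hom P) ↔ ∀ N : Cfsg.FusionSystem (Cfsg.FusionSystem.normalizerIn S (Cfsg.centerThompsonAOf D)), F.IsNormalizerSystem (Cfsg.centerThompsonAOf D) N → ∀ P : Subgroup Ω, N.Hom P = (Cfsg.innerFusionSystem (Cfsg.FusionSystem.normalizerIn S (Cfsg.centerThompsonAOf D))).Hom P := by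
  have hs : Fus.Sat p F := ⟨hS, hF⟩
  rw [centerThompsonAOf_eq]
  have a := isFullyNormalized_of_le_normalizer F (zj_le.trans hD.1)
    ((le_normalizer_of_stronglyClosed hD).trans (norm_le_norm_zj (n := 0)))
  obtain ⟨N, hN⟩ := exists_normalizerSystem F a.1
  rw [← pAut_iff_inner hs]
  refine ⟨fun h N hN => (pAut_iff_inner (sat_normalizer hs a hN)).1 (h.of_sub (sub_of_isNormalizerSystem hN)), fun h => ?_⟩
  exact pAut_of_normal hp hs ((pAut_iff_inner (sat_normalizer hs a hN)).2 (h N hN))
    (fun E b1 b2 b3 => isNormal_zj_sc hp (.inl rfl) b1 (fun c => b3 c.weak) (stronglyClosed_iff.2 ⟨hD.1, fun P f hf =>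
      (stronglyClosed_iff.1 hD).2 P f (hf.of_sub b2)⟩)) fun P f => (mor_iff_nMor hN).2

end Cfsg.Agent.S5275
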