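import Cfsg.Statements.S5276
import Cfsg.Agent.Lib.Fus2.Tate

set_option autoImplicit false
open Cfsg

namespace Cfsg.Agent.S5276

open Cfsg.Lib.Fus2 Cfsg.Lib.Amalg Subgroup Cfsg.FusionSystem Cfsg.Lib

/-- Let p be a prime and F a saturated fusion system over a finite p-group S. Then F is the inner fusion system of S if and only if the normalizer fusion system of S itself in F is the inner fusion system (equivalently, Aut_F(S) is induced by S) and the Frattini subgroup Φ(S) is strongly closed in F. -/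
theorem result {Ω : Type*} [Group Ω] {S : Subgroup Ω} [Finite S] (p : ℕ) [Fact p.Prime] (hS : IsPGroup p ↥S) (F : Cfsg.FusionSystem S) (hF : F.IsSaturated p) : (∀ P : Subgroup Ω, F.Hom P = (Cfsg.innerFusionSystem S).Hom P) ↔ (∀ N : Cfsg.FusionSystem (Cfsg.FusionSystem.normalizerIn S S), F.IsNormalizerSystem S N → ∀ P : Subgroup Ω, N.Hom P = (Cfsg.innerFusionSystem (Cfsg.FusionSystem.normalizerIn S S)).Hom P) ∧ F.StronglyClosed ((frattini ↥S).map S.subtype) := by
  refine ⟨fun h => ⟨fun N hN => inner_iff_sub.2 (sub_of_pAut (sat_normalizer ⟨hS, hF⟩ (fn_top F) hN)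
    ((pAut_inner hS).of_sub (sub_trans (sub_of_isNormalizerSystem hN) (inner_iff_sub.1 h))) le_rfl),
    stronglyClosed_iff.2 ⟨Core.frattiniOf_le S, fun P f hf x hx hx' => ?_⟩⟩, fun h => inner_iff_sub.2 ?_⟩
  · obtain ⟨s, hs, e⟩ := hom_eq_inner_iff.1 h P f hf
    rw [e x hx]
    exact Core.conj_mem_of_mem_normalizer (Core.normalizer_le_normalizer_frattiniOf S (le_normalizer hs)) hx'
  · refine sub_of_sc_le_frattini ⟨hS, hF⟩ h.2 (commutator_le_frattini' hS) le_rfl (fun f hf => ?_) le_rfl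
    obtain ⟨s, hs, e⟩ := conj_of_normalizer_inner le_rfl h.1 hf.nMor_top
    exact ⟨s, hs.1, e⟩

end Cfsg.Agent.S5276
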