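import Cfsg.Statements.S5278
import Cfsg.Agent.Lib.Glaub.FF

set_option autoImplicit false
open Cfsg

namespace Cfsg.Agent.S5278

open Cfsg.FusionSystem Cfsg.Lib.Fus2 Cfsg.Lib.Amalg Subgroup Cfsg.Lib Cfsg.Lib.Glaub Cfsg.Lib.Transfer

def TA (p : ℕ) {T : Type*} [Group T] (X : Subgroup (MulAut T)) : Prop :=
  X ≠ ⊥ ∧ IsCyclic X ∧ (Nat.card X).Coprime p ∧ ∀ a b : T, a ∈ closure {y | ∃ ψ ∈ X, ∃ t, y = ψ t * t⁻¹} →
    b ∈ closure {y | ∃ ψ ∈ X, ∃ t, y = ψ t * t⁻¹} → a ≠ 1 → b ≠ 1 → ∃ ψ ∈ X, ψ a = b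

theorem ta_of_tor {p : ℕ} {T G : Type*} [Group T] [Finite T] [Group G] {j : T →* G} (hj : Function.Injective j)
    {α : MulAut T} {h : G} (e : ∀ t, j (α t) = h * j t * h⁻¹) (H : Tor p j.range h) : TA p (zpowers α) := by
  have e' : ∀ (k : ℕ) t, j ((α ^ k) t) = h ^ k * j t * (h ^ k)⁻¹ := fun k t => by
    induction k with
    | zero => simp
    | succ k ih => rw [pow_succ', MulAut.mul_apply, e, ih, pow_succ']; group
  have a : ∀ {x}, x ∈ closure {y | ∃ ψ ∈ zpowers α, ∃ t, y = ψ t * t⁻¹} → j x ∈ ⁅j.range, zpowers h⁆ := fun hx =>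
    (closure_le ((⁅j.range, zpowers h⁆).comap j)).2 (by
      rintro _ ⟨ψ, hψ, t, rfl⟩
      obtain ⟨k, rfl⟩ := mem_powers_iff_mem_zpowers.2 hψ
      rw [SetLike.mem_coe, mem_comap, map_mul, map_inv, e', Subgroup.commutator_comm]
      exact commutator_mem_commutator (npow_mem_zpowers h k) ⟨t, rfl⟩) hx
  obtain ⟨-, h1, ⟨m, h2, h3⟩, h4⟩ := H
  refine ⟨fun c => h1 ?_, inferInstance, Nat.card_zpowers α ▸ h2.coprime_dvd_left (orderOf_dvd_of_pow_eq_one
    (MulEquiv.ext fun t => hj ?_)), fun x y hx hy x1 y1 => ?_⟩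
  · rintro _ ⟨t, rfl⟩
    rw [zpowers_eq_bot.1 c] at e
    exact (eq_mul_inv_iff_mul_eq.1 (e t))
  · rw [e', ← h3 _ ⟨t, rfl⟩, mul_inv_cancel_right]; rfl
  obtain ⟨k, hk⟩ := h4 _ (a hx) _ (a hy) (mt (map_eq_one_iff j hj).1 x1) (mt (map_eq_one_iff j hj).1 y1)
  exact ⟨_, npow_mem_zpowers α k, hj ((e' k x).trans hk)⟩

theorem center_le_jF {Ω : Type*} [Group Ω] {S : Subgroup Ω} [Finite S] : S ⊓ 𝐂 S ≤ amb (jF 0) S := fun x hx =>
  ⟨⟨x, hx.1⟩, center_le_jA (S := ⊤) ⟨trivial, fun y _ => Subtype.ext (hx.2 y y.2)⟩, rfl⟩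

theorem con {Ω : Type*} [Group Ω] {S T : Subgroup Ω} [Finite S] {p : ℕ} [Fact p.Prime] {E : FusionSystem S}
    (hp : p ≠ 2) (hS : IsPGroup p S) (hc : E.IsConstrained p) (hT : T ≤ S ⊓ 𝐂 S)
    (h0 : ∀ f, NMor E (amb (jF 0) S) T f → img T f = T) : E.IsNormal T ∨ ∃ X ≤ E.autGroup T, TA p X := by
  obtain ⟨G, _, _, P, I, hI, h1, -⟩ := exists_group_model hS hc
  have a := hT.trans inf_le_left
  have := Fus2.finite_of_le a
  have b : I.map T ≤ 𝐂 (P : Subgroup G) := by
    have := I.map_mono hT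
    rw [I.map_inf_centralizer S le_rfl, I.map_self] at this
    exact this.trans inf_le_right
  have c : I.map T ≤ amb (jF 0) P := (le_inf (I.map_le T) b).trans center_le_jF
  rcases le_norm_or_tor hp (syl_top P) b (Amalg.op_top (p := p) (G := G) ▸ (b.trans (centralizer_le
    (Core.pCore_le_sylow P))).trans h1) (fun g hg => by
      have d : g ∈ 𝐍 (amb (jF 0) P.1) := amb_jF (P := P.1) ▸ hg.2
      have := h0 _ (by simpa only [← (fct_jF (p := p)).map_amb I.symm le_rfl P.isPGroup', I.symm_map_map a,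
        (fct_jF (p := p)).map_amb I.symm le_rfl P.isPGroup', I.symm.map_self] using hI.symm.nMor (nMor_group
          (amb_le _ _) ((fct_jF (p := p)).le_normalizer P.isPGroup') (I.map_le T) d
            fun x hx => amb_le _ _ ((mem_normalizer_iff.1 d x).1 (c hx))))
      refine mem_normalizer_of_conj_mem' (I.map_le T) ((I.forall_mem_map a).2 fun x hx => (I.mem_map.2
        ⟨amb_le _ _ ((mem_normalizer_iff.1 d _).1 (c (I.fw_mem_map a hx))), this.le (mem_img_of_mem _ hx)⟩))) with h | h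
  · have := normal_of_top_le_normalizer h
    exact .inl ((hI.isNormal_iff a).1 (isNormal_group_of_normal (I.map_le T)))
  obtain ⟨h, -, h2⟩ := h
  have d := fun x hx => (mem_normalizer_iff.1 h2.1 x).1 hx
  obtain ⟨f, d1, d2⟩ := hI.exists_mor a (mor_group_iff.2 ⟨I.map_le T, fun x hx => I.map_le T (d x hx), h, fun _ _ => rfl⟩)
  obtain ⟨α, d3, d4⟩ := d1.exists_aut' fun x hx => (I.fw_mem_map_iff (d1.mem hx)).1 (by
    rw [d2 x hx]; exact d _ (I.fw_mem_map a hx))
  refine .inr ⟨_, zpowers_le.2 d3, ta_of_tor (j := I.hom.comp (inclusion a)) (h := h)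
    (I.hom_injective.comp (inclusion_injective a)) (fun t => ?_) ?_⟩
  · exact (congrArg I.fw ((autFun_coe α t).symm.trans (d4 _ t.2))).trans (d2 _ t.2)
  rwa [MonoidHom.range_comp, inclusion_range, ← I.map_eq_map_hom]

theorem step {Ω : Type*} [Group Ω] {S T Q R : Subgroup Ω} [Finite S] {p : ℕ} [Fact p.Prime] {F : FusionSystem S}
    {D : FusionSystem (normalizerIn S T)} {N : FusionSystem R} (hp : p ≠ 2) (hD : F.IsNormalizerSystem T D) (b : S ≤ 𝐍 T)
    (hX : ¬ ∃ X ≤ F.autGroup T, TA p X) (d1 : Fus.Sat p N) (d2 : N.IsNormal Q) (d3 : N.IsSubsystemOf F) (h1 : T ≤ Q)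
    (d4 : T ≤ R ⊓ 𝐂 R) (h3 : ∀ f, NMor N (amb (jF 0) R) T f → img T f = T) : N.IsSubsystemOf D := by
  have := Fus2.finite_of_le (le_of_isSubsystemOf d3)
  have a := d4.trans inf_le_left
  refine sub_of_isNormal_gen d1 d2 (fun P f e1 e2 e3 => (mor_iff_nMor hD).2 (nMor_of_mor (e1.of_sub d3) le_rfl
    (h1.trans e2) ((e1.of_sub d3).le.trans b) (img_eq_self_of_forall fun x hx => e3 x (h1 hx)))) fun P f hf => ?_
  have e1 := le_normalizer_sup_centralizerIn (le_normalizer_of_isNormal d2)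
  obtain ⟨E, hE⟩ := exists_normalizerSystem N hf.le
  have e2 : centralizerIn R (Q ⊔ centralizerIn R Q) ≤ centralizerIn R Q := inf_le_inf_left _ (centralizer_le (le_sup_left : Q ≤ Q ⊔ centralizerIn R Q))
  have e3 := isConstrained_normalizer d1 (isFullyNormalized_of_le_normalizer N hf.le e1) (e2.trans le_sup_right) hE
  have e4 := sub_of_isNormalizerSystem hE
  have e5 := (mor_iff_nMor hE).2 hf
  have e6 := normalizerIn_eq_of_le e1
  clear hE
  generalize normalizerIn R (Q ⊔ centralizerIn R Q) = R' at E e3 e4 e5 e6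
  subst e6
  rcases con hp d1.pg e3 d4 fun g hg => h3 _ (hg.mono e4) with h | ⟨X, h4, h5⟩
  · exact e5.of_sub (sub_normalizerSystem_of_isNormal (sub_trans e4 d3) h hD)
  exact absurd ⟨X, fun α hα => (mem_autGroup_iff (a.trans (le_of_isSubsystemOf d3))).2 ((((mem_autGroup_iff a).1
    (h4 hα)).of_sub e4).of_sub d3), h5⟩ hX

/-- Let p be an odd prime, F a saturated fusion system over a finite p-group S, and T a subgroup of Z(S) such that the normalizer fusion system of J(S) in F is contained in the normalizer fusion system of T, J(S) being the subgroup generated by the abelian subgroups of S of largest order. Then either T is weakly closed in F, or Aut_F(T) has a nontrivial cyclic subgroup X of order prime to p that permutes transitively the non-identity elements of the commutator [T, X] (the subgroup of T generated by the elements ψ(t)·t⁻¹ with ψ in X and t in T). -/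
theorem result {Ω : Type*} [Group Ω] {S : Subgroup Ω} [Finite S] (p : ℕ) [Fact p.Prime] (hS : IsPGroup p ↥S) (F : Cfsg.FusionSystem S) (hF : F.IsSaturated p) (hp : p ≠ 2) (T : Subgroup Ω) (hT : T ≤ S ⊓ Subgroup.centralizer (S : Set Ω)) (hJT : ∀ NJ : Cfsg.FusionSystem (Cfsg.FusionSystem.normalizerIn S (Cfsg.thompsonSubgroupAOf S)), F.IsNormalizerSystem (Cfsg.thompsonSubgroupAOf S) NJ → ∀ NT : Cfsg.FusionSystem (Cfsg.FusionSystem.normalizerIn S T), F.IsNormalizerSystem T NT → NJ.IsSubsystemOf NT) : F.WeaklyClosed T ∨ ∃ X : Subgroup (MulAut ↥T), X ≤ F.autGroup T ∧ X ≠ ⊥ ∧ IsCyclic ↥X ∧ (Nat.card ↥X).Coprime p ∧ ∀ a b : ↥T, a ∈ Subgroup.closure {y : ↥T | ∃ ψ ∈ X, ∃ t : ↥T, y = ψ t * t⁻¹} → b ∈ Subgroup.closure {y : ↥T | ∃ ψ ∈ X, ∃ t : ↥T, y = ψ t * t⁻¹} → a ≠ 1 → b ≠ 1 → ∃ ψ ∈ X, ψ a = b := by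
  rw [jA_eq] at hJT
  have hs : Fus.Sat p F := ⟨hS, hF⟩
  have a := hT.trans inf_le_left
  refine or_iff_not_imp_right.2 fun hX => weaklyClosed_of_stronglyClosed (stronglyClosed_of_isNormal ?_)
  obtain ⟨D, hD⟩ := exists_normalizerSystem F a
  have b : S ≤ 𝐍 T := (le_cent_symm (hT.trans inf_le_right)).trans (cent_le_norm T)
  have c : ∀ {P f}, Mor D P f → T ≤ P → img T f = T := fun h h' =>
    let ⟨g, _, h1, h2⟩ := ((mor_iff_nMor hD).1 h).2.2; (img_congr fun x hx => h1 x (h' hx)).symm.trans h2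
  refine isNormal_of_sub_normalizerSystem hD a (sub_of_family hs (le_inf le_rfl b) {amb (jF 0)} (T ≤ ·)
    (by rintro _ rfl P _; exact amb_le _ P) (by rintro _ rfl; exact (fct_jF (p := p)).img_amb hS)
    (fun P _ h1 h2 => ⟨P, isConj_refl F h1.1, h1, fun _ _ _ _ => (le_inf a ((hT.trans inf_le_right).trans
      (centralizer_le h1.1))).trans (h2.2 P (isConj_refl F h1.1))⟩) ?_ ?_ fun Q h1 h2 N hN h3 => ?_)
  · rintro Q h1 h2 _ rfl
    have d : T ≤ amb (jF 0) (normalizerIn S Q) := (le_inf (h1.trans (le_normalizerIn h2.1))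
      ((hT.trans inf_le_right).trans (centralizer_le inf_le_left))).trans center_le_jF
    have e := (amb_le (jF 0) (normalizerIn S Q)).trans inf_le_left
    obtain ⟨V, d1, d2⟩ := exists_conj_fullyNormalized F e
    exact ⟨V, d1, d2, fun χ _ d3 d4 => d4 ▸ (c d3 (d.trans (le_normalizerIn e))).ge.trans (img_mono χ d)⟩
  · rintro _ rfl P f hf
    obtain ⟨N, hN⟩ := exists_normalizerSystem F hf.le
    exact ((mor_iff_nMor hN).2 hf).of_sub (hJT N hN D hD)
  exact step hp hD b hX (sat_normalizer hs h2 hN) (isNormal_normalizerSystem hN) (sub_of_isNormalizerSystem hN) h1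
    (le_inf (h1.trans (le_normalizerIn h2.1)) ((hT.trans inf_le_right).trans (centralizer_le inf_le_left)))
    fun f hf => c (h3 _ rfl _ f hf) le_rfl

end Cfsg.Agent.S5278
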