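import Cfsg.Statements.S5281
import Cfsg.Agent.Lib.Glaub.PSt

set_option autoImplicit false
open Cfsg

namespace Cfsg.Agent.S5281

open Cfsg.FusionSystem Cfsg.Lib.Fus2 Cfsg.Lib.Amalg Subgroup Cfsg.Lib Cfsg.Lib.Glaub

theorem emb {Ω : Type*} [Group Ω] {S T R R' : Subgroup Ω} [Finite S] {p : ℕ} [Fact p.Prime] {F : FusionSystem S}
    {E : FusionSystem T} (hF : Fus.Sat p F) (hsub : E.IsSubsystemOf F) (hR : E.IsNormal R) (hR' : F.IsConj R R')
    (hfn : F.IsFullyNormalized R') {N : FusionSystem (normalizerIn S R')} (hN : F.IsNormalizerSystem R' N)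
    (h : Cfg True p E) : Cfg True p N := by
  have hT := le_of_isSubsystemOf hsub
  obtain ⟨f, hf, rfl⟩ := exists_mor_normalizerIn hF hR' hfn
  obtain ⟨I, E', -, h2, h3, h4⟩ := (hf.mono (Q := T) fun x hx =>
    ⟨hT hx, le_normalizer_of_isNormal hR hx⟩).exists_transport hsub
  exact (h.fIso h3).mono (sub_normalizerSystem_of_isNormal h4 (h2 R hR.1 ▸ h3.isNormal hR) hN)

/-- Let p be an odd prime and F a saturated fusion system over a finite p-group S. Call a fusion system E (over any subgroup) p-stable when, for every fully E-normalized subgroup Q and every χ in Aut_E(Q) with χ(a⁻¹)·a·χ(a⁻¹)·χ(χ(a)) = 1 for all a in Q (χ acts quadratically), χ lies in O_p(Aut_E(Q)). Then F is p-stable if and only if the normalizer fusion system of R in F is p-stable for every fully F-normalized, F-centric, F-radical subgroup R of S. -/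
theorem result {Ω : Type*} [Group Ω] {S : Subgroup Ω} [Finite S] (p : ℕ) [Fact p.Prime] (hS : IsPGroup p ↥S) (F : Cfsg.FusionSystem S) (hF : F.IsSaturated p) (hp : p ≠ 2) : (∀ Q : Subgroup Ω, F.IsFullyNormalized Q → ∀ χ : MulAut ↥Q, χ ∈ F.autGroup Q → (∀ a : ↥Q, (χ a⁻¹) * a * (χ a⁻¹) * (χ (χ a)) = 1) → χ ∈ ((Cfsg.pCore p ↥(F.autGroup Q)).map (F.autGroup Q).subtype : Subgroup (MulAut ↥Q))) ↔ ∀ R : Subgroup Ω, F.IsFullyNormalized R → F.IsCentric R → F.IsRadical p R → ∀ N : Cfsg.FusionSystem (Cfsg.FusionSystem.normalizerIn S R), F.IsNormalizerSystem R N → (∀ Q : Subgroup Ω, N.IsFullyNormalized Q → ∀ χ : MulAut ↥Q, χ ∈ N.autGroup Q → (∀ a : ↥Q, (χ a⁻¹) * a * (χ a⁻¹) * (χ (χ a)) = 1) → χ ∈ ((Cfsg.pCore p ↥(N.autGroup Q)).map (N.autGroup Q).subtype : Subgroup (MulAut ↥Q))) := by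
  have hs : Fus.Sat p F := ⟨hS, hF⟩
  refine (not_cfg_iff hp hS).symm.trans ⟨fun h R _ _ _ N hN => (not_cfg_iff hp (hS.to_le (normalizerIn_le S R))).1
    fun c => h (c.mono (sub_of_isNormalizerSystem hN)), fun h ⟨U, h1⟩ => ?_⟩
  have key : ∀ Q ≤ S, F.IsCentric Q → ∀ N : FusionSystem (normalizerIn S Q), F.IsNormalizerSystem Q N →
      ¬ Cfg True p N := by
    refine Fus.induction_down fun Q hQS ih hc N hN c => ?_
    obtain ⟨Q', a1, a2⟩ := exists_conj_fullyNormalized F hQS
    obtain ⟨N', hN'⟩ := exists_normalizerSystem F a2.1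
    replace c := emb hs (sub_of_isNormalizerSystem hN) (isNormal_normalizerSystem hN) a1 a2 hN' c
    have a3 := isCentric_of_isConj hc a1
    have a4 := hS.to_le (normalizerIn_le S Q')
    rcases (Fus.le_core (isNormal_normalizerSystem hN')).eq_or_lt with e | hlt
    · refine (not_cfg_iff hp a4).2 (h Q' a2 a3 (isRadical_congr (autGroup_normalizerSystem hN' a2.1) a2.1 ?_) N' hN') c
      have := isRadical_core a4 (isConstrained_normalizer hs a2 (centralizerIn_le_of_isCentric a3) hN')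
      rwa [← e] at this
    · have hRS : N'.core ≤ S := (core_le N').trans (normalizerIn_le S Q')
      obtain ⟨M, hM⟩ := exists_normalizerSystem F hRS
      exact ih _ hRS (isConj_card a1 ▸ card_lt_of_lt' hRS hlt) (isCentric_of_le a3 hlt.le hRS) M hM (c.mono
        (sub_normalizerSystem_of_isNormal (sub_of_isNormalizerSystem hN') (Fus.normal_core N') hM))
  obtain ⟨V, h2, h3⟩ := exists_conj_fullyNormalized F h1.le
  obtain ⟨g, h4, rfl⟩ := isConj_iff_mor.1 h2
  replace h1 := h1.img h4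
  generalize img U g = V at h1 h3
  have h5 := hs.centric_sup_centralizerIn (hs.fc_of_fn h3)
  obtain ⟨N, hN⟩ := exists_normalizerSystem F h5.1
  refine key _ h5.1 h5 N hN ⟨V, h1.mono inf_le_right fun f a1 a2 => ?_⟩
  have a3 := a1.img_eq_self le_rfl a2
  obtain ⟨k, a4, a5⟩ := a1.extend hs (a3.symm ▸ hs.fc_of_fn h3) (centralizerIn_le_extSub S V f)
  have a6 : img V k = V := (img_congr a5).trans a3
  exact ⟨k, (mor_iff_nMor hN).2 (nMor_of_mor a4 le_sup_left le_rfl (le_sup_left.trans le_normalizer) (by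
    rw [a4.img_sup le_sup_left le_sup_right, a4.img_centralizerIn_of_fc (hs.fc_of_fn h3) le_sup_left le_sup_right, a6])), a5⟩

end Cfsg.Agent.S5281
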