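import Cfsg.Statements.S5286
import Cfsg.Agent.Lib.Fus.Tree
import Cfsg.Agent.Lib.Fus.Basic
import Cfsg.Agent.Lib.Fus.Hom
-- import your own Cfsg.Agent.* helpers here

set_option autoImplicit false
universe u
open Cfsg

namespace Cfsg.Agent.S5286

open Cfsg.FusionSystem Cfsg.Lib.Fus Equiv

/-- Every fusion system F over a finite p-group S, saturated or not, is realized by a possibly infinite group: there are a group G and an injective homomorphism ι of S into G such that the maps of F are exactly the conjugations by elements of G between subgroups of ι(S), every finite subgroup of G is conjugate to a subgroup of ι(S), and G has a free normal subgroup whose index divides (#S)!. -/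
theorem result {Ω : Type u} [Group Ω] {S : Subgroup Ω} [Finite S] (p : ℕ) [Fact p.Prime] (hS : IsPGroup p ↥S) (F : Cfsg.FusionSystem S) : ∃ (G : Type u) (_ : Group G) (ι : ↥S →* G), F.IsRealizedBy ι ∧ (∀ H : Subgroup G, Finite ↥H → ∃ g : G, ∀ h ∈ H, g * h * g⁻¹ ∈ ι.range) ∧ ∃ N : Subgroup G, N.Normal ∧ IsFreeGroup ↥N ∧ N.index ∣ (Nat.card ↥S).factorial := by
  classical
  let ρ : S →* Perm S := MulAction.toPermHom S S
  have hρ : Function.Injective ρ := MulAction.toPerm_injective
  let I := {i : Subgroup Ω × Perm Ω // Mor F i.1 i.2}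
  let a : ∀ i : I, i.1.1 →* S := fun i => Subgroup.inclusion i.2.le
  let b : ∀ i : I, i.1.1 →* S := fun i => i.2.homOn.toHom.codRestrict S fun x => i.2.mem x.2
  have hτ : ∀ i : I, ∃ τ : Perm S, ∀ x, τ * ρ (a i x) * τ⁻¹ = ρ (b i x) := fun i => by
    obtain ⟨τ, hτ⟩ := exists_perm_intertwine (a i) (b i) (Subgroup.inclusion_injective _)
      fun x y e => i.2.homOn.toHom_injective (congrArg Subtype.val e)
    refine ⟨τ, fun x => Equiv.ext fun s => ?_⟩
    have := hτ x (τ⁻¹ s)
    rw [show τ (τ⁻¹ s) = s from τ.apply_symm_apply s] at this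
    exact this
  choose τ hτ using hτ
  let t : I → Bool → Perm S := fun i c => if c then 1 else (τ i)⁻¹
  have hf : ∀ i c, ∃ f : Perm S ⧸ (ρ.comp (a i)).range → Perm S ⧸ ρ.range,
      ∀ k : Perm S, f (QuotientGroup.mk k) = QuotientGroup.mk (k * t i c) := fun i c => by
    refine exists_quot_map _ _ _ ?_
    rintro _ ⟨x, rfl⟩
    cases c
    · exact ⟨b i x, by rw [← hτ]; simp [t]⟩
    · exact ⟨a i x, by simp [t]⟩
  choose f hf using hf
  let E := Σ i : I, Perm S ⧸ (ρ.comp (a i)).range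
  let st : E → Bool → Perm S ⧸ ρ.range := fun e c => f e.1 c e.2
  have hst : ∀ (g : Perm S) e c, st (g • e) c = g • st e c := by
    rintro g ⟨i, q⟩ c
    obtain ⟨k, rfl⟩ := QuotientGroup.mk_surjective q
    change f i c (QuotientGroup.mk (g * k)) = g • f i c (QuotientGroup.mk k)
    rw [hf, hf, mul_assoc]
    rfl
  let v : Perm S ⧸ ρ.range := QuotientGroup.mk 1
  have hv : ∀ k : Perm S, k • v = QuotientGroup.mk k := fun k => by
    change QuotientGroup.mk (k * 1) = _
    rw [mul_one]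
  have hv' : ∀ k : Perm S, v = k • v ↔ k ∈ ρ.range := fun k => by
    rw [hv]
    exact QuotientGroup.eq.trans (by rw [inv_one, one_mul])
  let ι : S →* treeGrp hst v := (SemidirectProduct.inr.comp ρ).codRestrict _ fun s => (hv' _).mpr ⟨s, rfl⟩
  refine ⟨treeGrp hst v, inferInstance, ι, ⟨fun x y e => hρ (congrArg (fun z => z.1.right) e),
    fun P hP φ hφ => ⟨fun h => ?_, fun ⟨g, hg⟩ => ?_⟩⟩, fun H _ => ?_,
    (SemidirectProduct.rightHom.comp (treeGrp hst v).subtype).ker, inferInstance, treeGrp_free hst v, ?_⟩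
  · obtain ⟨σ, h1, h2⟩ := exists_perm h
    let i : I := ⟨(P, σ), h1⟩
    let e : E := ⟨i, QuotientGroup.mk 1⟩
    let g : treeGrp hst v := ⟨⟨FreeGroup.mk [(e, true)], (τ i)⁻¹⟩, by
      have := fw_single (st := st) (e, true)
      have e1 : st e true = v := (hf i true 1).trans (by simp [t, v])
      have e2 : st e false = (τ i)⁻¹ • v := (hf i false 1).trans (by simp [t, hv])
      change FW st (st e true) _ (st e false) at this
      rw [e1, e2] at this
      exact this⟩
    refine ⟨g⁻¹, fun x => ?_⟩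
    rw [inv_inv, mul_assoc, eq_inv_mul_iff_mul_eq]
    have e1 : (⟨φ x, hφ x⟩ : S) = b i x := Subtype.ext (h2 x)
    refine Subtype.ext (SemidirectProduct.ext ?_ ?_)
    · change FreeGroup.mk [(e, true)] * fgAct _ E (τ i)⁻¹ 1 =
        1 * FreeGroup.mk [(ρ (a i x) • e, true)]
      have : ρ (a i x) • e = e := by
        change (⟨i, QuotientGroup.mk (ρ (a i x) * 1)⟩ : E) = ⟨i, QuotientGroup.mk 1⟩
        congr 1
        exact QuotientGroup.eq.mpr ⟨x⁻¹, by simp⟩
      rw [this, map_one, mul_one, one_mul]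
    · change (τ i)⁻¹ * ρ ⟨φ x, hφ x⟩ = ρ (a i x) * (τ i)⁻¹
      rw [e1, ← hτ]
      group
  · let c : P → Perm S := fun x => ρ ⟨φ x, hφ x⟩
    let B : Perm S → Prop := fun k => ∃ σ, ∃ h : Mor F P σ, ∀ x : P, c x = k * ρ ⟨σ x, h.mem x.2⟩ * k⁻¹
    let A : Perm S ⧸ ρ.range → Prop := fun w => ∃ k : Perm S, QuotientGroup.mk k = w ∧ B k
    have hA : ∀ k, A (QuotientGroup.mk k) ↔ B k := fun k => ⟨fun ⟨l, e, (σ : Perm Ω), h, hσ⟩ => by
      obtain ⟨s, hs⟩ := QuotientGroup.eq.mp e.symm
      refine ⟨cj (s : Ω) * σ, h.comp_cj s.2, fun x => ?_⟩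
      rw [hσ, show (⟨(cj (s : Ω) * σ) x, (h.comp_cj s.2).mem x.2⟩ : S) = s * ⟨σ x, h.mem x.2⟩ * s⁻¹ from rfl,
        map_mul, map_mul, map_inv, hs]
      group, fun h => ⟨k, rfl, h⟩⟩
    have h1 : ∀ x : P, c x = g.1.right * ρ ⟨x, hP x.2⟩ * g.1.right⁻¹ := fun x =>
      congrArg (fun z => z.1.right) (hg x)
    have h2 : ∀ x : P, fgAct _ E (c x) g.1.left = g.1.left := fun x => by
      have := congrArg (fun z => z.1.left) (eq_mul_inv_iff_mul_eq.mp (hg x))
      change 1 * fgAct _ E (c x) g.1.left = g.1.left * fgAct _ E g.1.right 1 at this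
      rwa [map_one, one_mul, mul_one] at this
    have h3 : A v := by
      refine (Walk.iff (A := A) g.2 ?_).mpr ?_
      · rintro ⟨⟨i, q⟩, bb⟩ hx
        obtain ⟨m, rfl⟩ := QuotientGroup.mk_surjective q
        have k : ∀ x : P, ∃ y : i.1.1, c x = m * ρ (a i y) * m⁻¹ := fun x => by
          have k1 := fix_of_fgAct (h2 x) _ hx
          change (⟨i, QuotientGroup.mk (c x * m)⟩ : E) = ⟨i, QuotientGroup.mk m⟩ at k1
          obtain ⟨y, hy⟩ := QuotientGroup.eq.mp (eq_of_heq (Sigma.mk.inj_iff.mp k1).2).symm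
          refine ⟨y, ?_⟩
          rw [show ρ (a i y) = _ from hy]
          group
        change A (f i true _) ↔ A (f i false _)
        rw [hf, hf, hA, hA, show t i true = 1 from rfl, show t i false = (τ i)⁻¹ from rfl, mul_one]
        choose y hy using k
        constructor
        · rintro ⟨σ, h, hσ⟩
          have k1 : ∀ x : P, σ x = y x := fun x =>
            congrArg Subtype.val (hρ (mul_left_cancel (mul_right_cancel ((hσ x).symm.trans (hy x)))))
          refine ⟨i.1.2 * σ, h.comp i.2 fun x hx => k1 ⟨x, hx⟩ ▸ (y ⟨x, hx⟩).2, fun x => ?_⟩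
          rw [hy, show (⟨(i.1.2 * σ) x, _⟩ : S) = b i (y x) from Subtype.ext (congrArg i.1.2 (k1 x)), ← hτ]
          group
        · rintro ⟨σ, h, hσ⟩
          have k1 : ∀ x : P, σ x = i.1.2 (y x) := fun x => by
            have k2 : ρ ⟨σ x, h.mem x.2⟩ = ρ (b i (y x)) := by
              rw [← hτ, show ρ (a i (y x)) = m⁻¹ * c x * m by rw [hy]; group, hσ]
              group
            exact congrArg Subtype.val (hρ k2)
          refine ⟨i.1.2⁻¹ * σ, h.comp i.2.inv fun x hx => k1 ⟨x, hx⟩ ▸ i.2.iso.mem (y ⟨x, hx⟩).2, fun x => ?_⟩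
          rw [hy, show (⟨(i.1.2⁻¹ * σ) x, _⟩ : S) = a i (y x) from Subtype.ext (by
            change i.1.2⁻¹ (σ x) = y x
            rw [k1]
            exact i.1.2.symm_apply_apply _)]
      · rw [hv, hA]
        exact ⟨1, mor_one F hP, h1⟩
    obtain ⟨σ, h, hσ⟩ := (hA 1).mp h3
    refine h.hom_mem φ fun x => ?_
    have := hσ x
    rw [inv_one, one_mul, mul_one] at this
    exact congrArg Subtype.val (hρ this)
  · obtain ⟨g, hg⟩ := treeGrp_fixed hst (fun w => ⟨w.out, by rw [hv, QuotientGroup.out_eq']⟩) H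
    refine ⟨g, fun h hh => ?_⟩
    have k : FW st v (g * h * g⁻¹).1.left _ := (g * h * g⁻¹).2
    rw [hg h hh] at k
    obtain ⟨s, hs⟩ := (hv' _).mp k
    exact ⟨s, Subtype.ext (SemidirectProduct.ext (hg h hh).symm hs)⟩
  · rw [Subgroup.index_ker, ← Nat.card_perm]
    exact Subgroup.card_subgroup_dvd_card _

end Cfsg.Agent.S5286
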