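import Cfsg.Statements.S5287
import Cfsg.Agent.Lib.Fus.MetaS
-- import your own Cfsg.Agent.* helpers here

set_option autoImplicit false
open Cfsg

namespace Cfsg.Agent.S5287

open Cfsg.FusionSystem Cfsg.Lib.Fus Equiv

/-- Let S be a finite metacyclic p-group (an extension of a cyclic group by a cyclic group). Every saturated fusion system over S is supersoluble (S has a chain of F-strongly closed subgroups from 1 to S with cyclic steps) if and only if S is not homocyclic of rank two (isomorphic to Z/p^n × Z/p^n with n ≥ 1) and, when p = 2, S is not dihedral of order at least 4, not quasi-dihedral (semidihedral) and not generalized quaternion of order at least 8. -/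
theorem result {Ω : Type*} [Group Ω] {S : Subgroup Ω} [Finite S] (p : ℕ) [Fact p.Prime] (hS : IsPGroup p ↥S) (hm : Cfsg.IsMetacyclic ↥S) : (∀ F : Cfsg.FusionSystem S, F.IsSaturated p → (∃ (m : ℕ) (c : Fin (m + 1) → Subgroup Ω), c 0 = ⊥ ∧ c (Fin.last m) = S ∧ (∀ i : Fin (m + 1), F.StronglyClosed (c i)) ∧ ∀ i : Fin m, c i.castSucc ≤ c i.succ ∧ ∃ x ∈ S, c i.succ = c i.castSucc ⊔ Subgroup.zpowers x)) ↔ ¬ ((∃ n : ℕ, 0 < n ∧ Nonempty (↥S ≃* Multiplicative (ZMod (p ^ n)) × Multiplicative (ZMod (p ^ n)))) ∨ (p = 2 ∧ ((∃ n : ℕ, 2 ≤ n ∧ Nonempty (↥S ≃* DihedralGroup n)) ∨ Cfsg.IsQuasiDihedral ↥S ∨ (∃ n : ℕ, 2 ≤ n ∧ Nonempty (↥S ≃* QuaternionGroup n))))) := by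
  refine Iff.trans (b := ∀ F : Cfsg.FusionSystem S, Sat p F → SSol F)
    ⟨fun h F hF => h F hF.sat, fun h F hF => h F ⟨hS, hF⟩⟩ ((forall_sSol_iff hS).trans ⟨fun ⟨h1, h2⟩ => ?_, fun h => ?_⟩)
  · have k : ∀ n, 0 < n → ¬ Nonempty (↥S ≃* Multiplicative (ZMod (p ^ n)) × Multiplicative (ZMod (p ^ n))) :=
      fun n hn ⟨e⟩ => not_small_of_repeated hn (H := Unit) (e.trans MulEquiv.prodUnique.symm) h2
    have k' : ∀ {a b m k e}, MR S a b m k e → MType m k e → p ≠ 2 := fun h ht hp => by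
      subst hp
      obtain ⟨F, hF, hn⟩ := h.exists_not_normal ht
      exact hn (h1 F hF)
    rintro (⟨n, hn, e⟩ | ⟨rfl, ⟨n, hn, ⟨f⟩⟩ | h | ⟨n, hn, ⟨f⟩⟩⟩)
    · exact k n hn e
    · rcases hn.eq_or_lt with rfl | hn
      · have : IsKleinFour (Multiplicative (ZMod (2 ^ 1)) × Multiplicative (ZMod (2 ^ 1))) :=
          inferInstanceAs (IsKleinFour (Multiplicative (ZMod 2 × ZMod 2)))
        obtain ⟨g⟩ := IsKleinFour.nonempty_mulEquiv (G₁ := DihedralGroup 2)
          (G₂ := Multiplicative (ZMod (2 ^ 1)) × Multiplicative (ZMod (2 ^ 1)))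
        exact k 1 one_pos ⟨f.trans g⟩
      · obtain ⟨a, b, m, h⟩ := mr_of_dihedral hS hn f
        exact k' h (Or.inl ⟨rfl, rfl⟩) rfl
    · obtain ⟨a, b, m, hm, h⟩ := mr_of_qd h
      exact k' h (Or.inr (Or.inr ⟨hm, rfl, rfl⟩)) rfl
    · rcases hn.eq_or_lt with rfl | hn
      · have e : orderOf (MulAut.congr f.symm q8three) = 3 := by rw [MulEquiv.orderOf_eq, orderOf_q8three]
        have := (h2 (Subgroup.zpowers (MulAut.congr f.symm q8three)) (by rw [Nat.card_zpowers, e]; decide)).2 _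
          (Subgroup.mem_zpowers _)
        rw [← orderOf_dvd_iff_pow_eq_one, e] at this
        omega
      · obtain ⟨a, b, m, hm, h⟩ := mr_of_quaternion hS hn f
        exact k' h (Or.inr (Or.inl ⟨hm, rfl, rfl⟩)) rfl
  · have k : p = 2 → ∀ (a c : S) m, ¬ Cfsg.Lib.PGrp.Max2 a c m := fun hp a c m hc => h (Or.inr ⟨hp, by
      rcases hc.cases with e | e | e
      · exact Or.inl ⟨_, Nat.le_self_pow (by omega) 2, e⟩
      · exact Or.inr (Or.inr ⟨_, Nat.le_self_pow (by omega) 2, e⟩)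
      · exact Or.inr (Or.inl e)⟩)
    refine ⟨fun F hF => hF.normal_of_metacyclic (sc_top F) hm k, fun H hH => ?_⟩
    by_cases hp : p = 2
    · subst hp
      obtain ⟨a, y, ha, hs⟩ := Cfsg.Lib.PGrp.isMetacyclic_iff.mp hm
      have hA : IsPGroup 2 (MulAut S) := by_contra fun hA => by
        rcases metacyclic_two_aut hS ha hs hA with ⟨b, hb, -⟩ | ⟨n, hn, -, e⟩
        exacts [k rfl a b 0 hb, h (Or.inl ⟨n, hn, e⟩)]
      obtain ⟨j, hj⟩ := (hA.to_subgroup H).exists_card_eq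
      obtain rfl : H = ⊥ := Subgroup.card_eq_one.1 ((hH.pow_right j).eq_one_of_dvd hj.dvd)
      exact ⟨inferInstance, fun h hh => by rw [Subgroup.mem_bot.1 hh, one_pow]⟩
    · exact small_of_metacyclic hS hp hm (fun e => h (Or.inl e)) H hH

end Cfsg.Agent.S5287
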