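import Cfsg.Statements.S5291
import Cfsg.Agent.Lib.Fus.Misc
-- import your own Cfsg.Agent.* helpers here

set_option autoImplicit false
open Cfsg

namespace Cfsg.Agent.S5291

open Cfsg.FusionSystem Cfsg.Lib.Fus Equiv

/-- Let F be a saturated fusion system over a finite p-group S and E a weakly normal subsystem of F over a subgroup T. Suppose a subgroup R of T is normal in E (E = N_E(R)), and let R* be the subgroup of T generated by the images of R under all maps of F with source R. Then R* is normal in F (F = N_F(R*)). -/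
theorem result {Ω : Type*} [Group Ω] {S : Subgroup Ω} [Finite S] (p : ℕ) [Fact p.Prime] (hS : IsPGroup p S)
    (F : Cfsg.FusionSystem S) (hF : F.IsSaturated p)
    {T : Subgroup Ω} (E : Cfsg.FusionSystem T) (hE : E.IsWeaklyNormalIn F p)
    (R : Subgroup Ω) (hR : E.IsNormal R) :
    F.IsNormal (Subgroup.closure {x : Ω | ∃ φ ∈ F.Hom R, ∃ r : R, x = φ r}) := by
  replace hE := (isWeaklyNormalIn_iff hS).mp hE
  have := hE.finite
  have hRS := hR.1.trans hE.le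
  set A : Set (Subgroup Ω) := {X | E.IsNormal X ∧ X ≤ Subgroup.closure {x : Ω | ∃ φ ∈ F.Hom R, ∃ r : R, x = φ r}}
  have h1 : sSup A ∈ A := sSup_mem_of_sup_closed (fun Q hQ => hQ.1.1) ⟨normal_bot E, bot_le⟩
    fun Q hQ X hX => ⟨normal_sup hQ.1 hX.1, sup_le hQ.2 hX.2⟩
  have h2 : ∀ σ, Mor F R σ → ∀ x ∈ R, σ x ∈ Subgroup.closure {x : Ω | ∃ φ ∈ F.Hom R, ∃ r : R, x = φ r} :=
    fun σ hσ x hx => Subgroup.subset_closure ⟨_, hσ.toHom_mem, ⟨x, hx⟩, rfl⟩
  have h3 : Subgroup.closure {x : Ω | ∃ φ ∈ F.Hom R, ∃ r : R, x = φ r} = sSup A := by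
    refine le_antisymm ((Subgroup.closure_le _).mpr ?_) h1.2
    rintro _ ⟨φ, hφ, r, rfl⟩
    obtain ⟨σ, hσ, e⟩ := exists_perm hφ
    obtain ⟨α, σ₀, h4, h5, h6⟩ := hE.frat hR.1 hσ
    rw [e, h6 r r.2]
    exact le_sSup (s := A) ⟨hE.normal_img hR h4, img_le_iff.mpr (h2 α (h4.mor.mono hR.1))⟩
      (apply_mem_img α (h5.mem_of_sc (sc_of_normal hR) r.2 r.2))
  refine hE.normal_of_invariant hE.satF (h3 ▸ h1.1) fun α hα => ?_
  refine (hα.homOn.mono (h3 ▸ h1.1.1)).mapsTo_closure ?_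
  rintro _ ⟨φ, hφ, r, rfl⟩
  obtain ⟨σ, hσ, e⟩ := exists_perm hφ
  rw [e]
  exact h2 _ (hσ.comp hα.mor fun x hx => hσ.mem_of_sc hE.sc hx (hR.1 hx)) r r.2

end Cfsg.Agent.S5291
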