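import Cfsg.Statements.S5294
import Cfsg.Agent.Lib.Fus2.Yos

set_option autoImplicit false
universe u
open Cfsg

namespace Cfsg.Agent.S5294

open Cfsg.Lib.Fus2 Cfsg.Lib.Amalg Subgroup Cfsg.FusionSystem Cfsg.Lib

/-- Let F be a saturated fusion system over a finite p-group S whose centre Z(S) lies in the largest subgroup O_p(F) normal in F. Then the centre Z(F) of F is a direct factor of Z(S): there is a subgroup K of Z(S) with Z(F) ∩ K = 1 and Z(F)K = Z(S). -/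
theorem result {Ω : Type u} [Group Ω] {S : Subgroup Ω} [Finite S] (p : ℕ) [Fact p.Prime] (hS : IsPGroup p S)
    (F : Cfsg.FusionSystem S) (hF : F.IsSaturated p) (hZ : (S ⊓ Subgroup.centralizer (S : Set Ω)) ≤ F.core) :
    ∃ K : Subgroup Ω, K ≤ (S ⊓ Subgroup.centralizer (S : Set Ω)) ∧ F.center ⊓ K = ⊥ ∧ F.center ⊔ K = (S ⊓ Subgroup.centralizer (S : Set Ω)) := by
  have h1 : Fus.Sat p F := ⟨hS, hF⟩
  obtain ⟨n, t, a1, a2, a3, a4, -⟩ := exists_trace_center h1 (Fus.normal_core F)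
  have c1 : ∀ x ∈ S ⊓ centralizer (S : Set Ω), x ∈ centralizerIn F.core F.core := fun x hx =>
    ⟨hZ hx, Core.centralizer_anti (core_le F) hx.2⟩
  have c2 : F.center ≤ S ⊓ centralizer (S : Set Ω) := le_inf (center_le F) (center_le_centralizer F)
  have t1 : t 1 = 1 := by simpa using a2 1 (one_mem _) 1 (one_mem _)
  have tp : ∀ x ∈ S ⊓ centralizer (S : Set Ω), ∀ k : ℕ, t (x ^ k) = t x ^ k := fun x hx k => by
    induction k with
    | zero => simpa using t1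
    | succ k ih => rw [pow_succ, a2 _ (pow_mem (c1 x hx) k) _ (c1 x hx), ih, pow_succ]
  have ti : ∀ x ∈ S ⊓ centralizer (S : Set Ω), t x⁻¹ = (t x)⁻¹ := fun x hx => by
    rw [eq_inv_iff_mul_eq_one, ← a2 _ (Subgroup.inv_mem _ (c1 x hx)) _ (c1 x hx), inv_mul_cancel, t1]
  let K : Subgroup Ω :=
    { carrier := {x | x ∈ S ⊓ centralizer (S : Set Ω) ∧ t x = 1}
      one_mem' := ⟨one_mem _, t1⟩
      mul_mem' := fun {a b} ha hb => ⟨mul_mem ha.1 hb.1, by rw [a2 _ (c1 _ ha.1) _ (c1 _ hb.1), ha.2, hb.2, mul_one]⟩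
      inv_mem' := fun {a} ha => ⟨Subgroup.inv_mem _ ha.1, by rw [ti _ ha.1, ha.2, inv_one]⟩ }
  refine ⟨K, fun _ h => h.1, eq_bot_iff.2 fun x hx => ?_, le_antisymm (sup_le c2 fun _ h => h.1) fun x hx => ?_⟩
  · obtain ⟨k, hk⟩ := isPGroup_iff_mem.1 hS x hx.2.1.1
    exact pow_eq_one_of_not_dvd a1 ((a4 x ⟨hZ hx.2.1, hx.1⟩).symm.trans hx.2.2) hk
  have d1 := a3 x ⟨hZ hx, hx.2⟩
  have b2 : x ^ n ∈ F.center ⊔ K := by
    have := mul_mem (mem_sup_left (T := K) d1) (mem_sup_right (show (t x)⁻¹ * x ^ n ∈ K from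
      ⟨mul_mem (Subgroup.inv_mem _ (c2 d1)) (pow_mem hx n), by
        rw [a2 _ (Subgroup.inv_mem _ (c1 _ (c2 d1))) _ (pow_mem (c1 x hx) n), ti _ (c2 d1), tp x hx,
          a4 _ ⟨hZ (c2 d1), d1⟩, inv_mul_cancel]⟩))
    simpa using this
  obtain ⟨k, hk⟩ := isPGroup_iff_mem.1 hS x hx.1
  refine zpowers_le.2 b2 (mem_zpowers_pow_iff.2 ?_)
  exact ((Nat.Prime.coprime_iff_not_dvd Fact.out).2 a1).symm.pow_right k |>.coprime_dvd_right
    (orderOf_dvd_of_pow_eq_one hk)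

end Cfsg.Agent.S5294
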