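import Cfsg.Statements.S5295
import Cfsg.Agent.Lib.Glaub.FF
import Cfsg.Agent.S5278

set_option autoImplicit false
universe u
open Cfsg

namespace Cfsg.Agent.S5295

open Cfsg.FusionSystem Cfsg.Lib.Fus2 Cfsg.Lib.Amalg Subgroup Cfsg.Lib Cfsg.Lib.Glaub Cfsg.Lib.Transfer

theorem fix_split {A V : Type*} [Group A] [Finite A] [CommGroup V] {p : ℕ} [hp : Fact p.Prime] (hV : IsPGroup p V)
    (ρ : A →* MulAut V) {B : Subgroup A} (hB : ¬ p ∣ B.index) {Z Y : Subgroup V} (hZ : ∀ v, v ∈ Z ↔ ∀ a, ρ a v = v)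
    (hY : ∀ v, v ∈ Y ↔ ∀ b ∈ B, ρ b v = v) : ∃ K ≤ Y, Z ⊓ K = ⊥ ∧ Z ⊔ K = Y := by
  have := Fintype.ofFinite (A ⧸ B)
  let τ : V →* V := ∏ q : A ⧸ B, (ρ q.out).toMonoidHom
  have e : ∀ v, τ v = ∏ q : A ⧸ B, ρ q.out v := fun v => MonoidHom.finsetProd_apply _ _ _
  have h1 : ∀ z ∈ Z, τ z = z ^ B.index := fun z hz => by
    rw [e, Finset.prod_congr rfl fun q _ => (hZ z).1 hz _, Finset.prod_const, Finset.card_univ, index, Nat.card_eq_fintype_card]
  have h2 : ∀ y ∈ Y, τ y ∈ Z := fun y hy => (hZ _).2 fun a => by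
    rw [e, map_prod]
    refine (Finset.prod_congr rfl fun q _ => Eq.symm ?_).trans (Equiv.prod_comp (MulAction.toPerm a) _)
    obtain ⟨b, hb⟩ := QuotientGroup.mk_out_eq_mul B (a * q.out)
    rw [MulAction.toPerm_apply, ← MulAction.Quotient.mk_smul_out, smul_eq_mul, hb, map_mul, map_mul, MulAut.mul_apply,
      MulAut.mul_apply, (hY y).1 hy b b.2]
  have h3 : ∀ v : V, ∃ m, (v ^ B.index) ^ m = v := fun v => exists_pow_eq_self_of_coprime
    (let ⟨k, hk⟩ := (IsPGroup.iff_orderOf.1 hV v); hk ▸ ((hp.out.coprime_iff_not_dvd.2 hB).symm.pow_right k))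
  have h4 : Z ≤ Y := fun z hz => (hY z).2 fun b _ => (hZ z).1 hz b
  refine ⟨Y ⊓ τ.ker, inf_le_left, eq_bot_iff.2 fun z hz => ?_, (sup_le h4 inf_le_left).antisymm fun y hy => ?_⟩
  · obtain ⟨m, hm⟩ := h3 z
    rw [← hm, ← h1 z hz.1, show τ z = 1 from hz.2.2, one_pow]; exact one_mem _
  obtain ⟨m, hm⟩ := h3 (τ y)
  have h5 := pow_mem (h2 y hy) m
  rw [← mul_inv_cancel_left (τ y ^ m) y]
  refine mul_mem_sup h5 ⟨Y.mul_mem (Y.inv_mem (h4 h5)) hy, MonoidHom.mem_ker.2 ?_⟩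
  rw [map_mul, map_inv, h1 _ h5, ← pow_mul, mul_comm m, pow_mul, hm, inv_mul_cancel]

open scoped IsMulCommutative in
theorem con {Ω : Type*} [Group Ω] {S J : Subgroup Ω} [Finite S] {p : ℕ} [Fact p.Prime] {F : FusionSystem S}
    (hF : Fus.Sat p F) (hJ : F.IsNormal J) (hc : S ⊓ 𝐂 S ≤ J) :
    ∃ K ≤ S ⊓ 𝐂 S, F.center ⊓ K = ⊥ ∧ F.center ⊔ K = S ⊓ 𝐂 S := by
  have a : F.IsNormal (J ⊓ 𝐂 J) := isNormal_iff.2 ⟨inf_le_left.trans hJ.1, fun P f hf => by
    obtain ⟨g, h1, h2, h3⟩ := hf.ext_normal hJ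
    exact ⟨g, h1.mono (sup_le_sup_left inf_le_left P), h2, (h1.img_centralizerIn le_sup_right le_sup_right).trans
      (by rw [h3]; rfl)⟩⟩
  have b : S ⊓ 𝐂 S ≤ J ⊓ 𝐂 J := le_inf hc (inf_le_right.trans (centralizer_le hJ.1))
  have c := isMulCommutative_inf_cent J
  generalize J ⊓ 𝐂 J = V at a b c
  have := Fus2.finite_of_le a.1
  have d : F.center ≤ S ⊓ 𝐂 S := fun x hx => ⟨center_le F hx, fun s hs =>
    mul_inv_eq_iff_eq_mul.1 ((mor_conj F le_rfl hs).fix_of_mem_center (center_le F hx) hx)⟩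
  obtain ⟨K, h1, h2, h3⟩ := fix_split (hF.pg.to_le a.1) (F.autGroup V).subtype (syl_aut_of_fn hF
    (fn_of_isNormal a)).not_dvd_relIndex (Z := F.center.subgroupOf V) (Y := (S ⊓ 𝐂 S).subgroupOf V)
    (fun v => ⟨fun h α => Subtype.ext ((autFun_coe _ v).symm.trans ((mor_autFun a.1 α).fix_of_mem_center v.2 h)),
      fun h => (mem_center_iff' hF).2 ⟨a.1 v.2, fun P f hf hP => by
        obtain ⟨g, h1, h2, h3⟩ := hf.ext_normal a
        obtain ⟨α, h4, h5⟩ := (h1.mono le_sup_right).exists_aut h3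
        exact (h2 _ hP).symm.trans ((h5 _ v.2).symm.trans ((autFun_coe _ v).trans (congrArg Subtype.val (h ⟨α, h4⟩))))⟩⟩)
    fun v => ⟨fun h α hα => by
      obtain ⟨s, h1, h2⟩ := mem_autInducedBy_iff.1 hα
      exact Subtype.ext ((autFun_coe _ v).symm.trans ((h2 _ v.2).trans (mul_inv_eq_iff_eq_mul.2 (h.2 s h1)))),
      fun h => ⟨a.1 v.2, fun s hs => by
        obtain ⟨α, h1, h2⟩ := exists_autInducedBy hs (le_normalizer_of_isNormal a hs)
        exact mul_inv_eq_iff_eq_mul.1 ((h2 _ v.2).symm.trans ((autFun_coe _ v).trans (congrArg Subtype.val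
          (h ⟨α, (syl_aut_of_fn hF (fn_of_isNormal a)).le h1⟩ h1))))⟩⟩
  have e1 := congrArg (map V.subtype) h2
  have e2 := congrArg (map V.subtype) h3
  rw [map_inf _ _ _ V.subtype_injective, map_subgroupOf_eq_of_le (d.trans b), Subgroup.map_bot] at e1
  rw [Subgroup.map_sup, map_subgroupOf_eq_of_le (d.trans b), map_subgroupOf_eq_of_le b] at e2
  exact ⟨_, le_sup_right.trans e2.le, e1, e2⟩

/-- Let F be a saturated fusion system over a finite p-group S with p odd. Then the centre Z(F) of F is a direct factor of Z(S): there is a subgroup K of Z(S) with Z(F) ∩ K = 1 and Z(F)K = Z(S). (At the prime 2 this can fail.) -/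
theorem result {Ω : Type u} [Group Ω] {S : Subgroup Ω} [Finite S] (p : ℕ) [Fact p.Prime] (hp : p ≠ 2) (hS : IsPGroup p S)
    (F : Cfsg.FusionSystem S) (hF : F.IsSaturated p) :
    ∃ K : Subgroup Ω, K ≤ (S ⊓ Subgroup.centralizer (S : Set Ω)) ∧ F.center ⊓ K = ⊥ ∧ F.center ⊔ K = (S ⊓ Subgroup.centralizer (S : Set Ω)) := by
  obtain ⟨N, hN⟩ := exists_normalizerSystem F (amb_le (jF 0) S)
  have a := (fct_jF (p := p)).le_normalizer hS
  have e := normalizerIn_eq_of_le a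
  have := con (sat_normalizer ⟨hS, hF⟩ (isFullyNormalized_of_le_normalizer F (amb_le _ S) a) hN)
    (isNormal_normalizerSystem hN) (by rw [e]; exact S5278.center_le_jF)
  rwa [center_normalizer_jA ⟨hS, hF⟩ (.inl hp) hN, e] at this

end Cfsg.Agent.S5295
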