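import Cfsg.Statements.S5296
import Cfsg.Agent.Lib.Fus.Small
-- import your own Cfsg.Agent.* helpers here

set_option autoImplicit false
universe u
open Cfsg

namespace Cfsg.Agent.S5296

open Cfsg.FusionSystem Cfsg.Lib.Fus Equiv

/-- Small-exponent abelian subgroups of the hyperfocal subgroup control fusion. Let E and F be saturated fusion systems over the same finite p-group S with E contained in F. Suppose that E and F have the same maps between A and B for all subgroups A, B of the hyperfocal subgroup of F that are elementary abelian when p is odd, respectively abelian of exponent dividing 4 when p = 2. Then E = F. -/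
theorem result {Ω : Type u} [Group Ω] {S : Subgroup Ω} [Finite S] (p : ℕ) [Fact p.Prime] (hS : IsPGroup p S)
    (E F : Cfsg.FusionSystem S) (hE : E.IsSaturated p) (hF : F.IsSaturated p) (hEF : E.IsSubsystemOf F)
    (hodd : p ≠ 2 → ∀ A B : Subgroup Ω, A ≤ (F.hyperfocalSubgroup p) → B ≤ (F.hyperfocalSubgroup p) →
      Cfsg.IsElementaryAbelian p A → Cfsg.IsElementaryAbelian p B → E.homSet A B = F.homSet A B)
    (htwo : p = 2 → ∀ A B : Subgroup Ω, A ≤ (F.hyperfocalSubgroup p) → B ≤ (F.hyperfocalSubgroup p) →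
      IsMulCommutative ↥A → IsMulCommutative ↥B → (∀ a ∈ A, a ^ 4 = 1) → (∀ b ∈ B, b ^ 4 = 1) → E.homSet A B = F.homSet A B) :
    ∀ P : Subgroup Ω, E.Hom P = F.Hom P := by
  have hF' : Sat p F := ⟨hS, hF⟩
  refine fun P => Set.Subset.antisymm (hEF P) (hF'.sub_of_small ⟨hS, hE⟩ hEF (fun A σ h1 h2 h3 h4 => ?_) P)
  have k1 := h4.iso.le_of_sc hF'.sc_hyp h1
  have k2 := h4.iso.isMulCommutative h2
  have k3 := h4.iso.pow_eq_one h3
  refine mor_of_homSet_subset (fun φ hφ => ?_) h4
  rcases sme_cases p with ⟨a, b⟩ | ⟨a, b⟩ <;> rw [b] at h3 k3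
  · exact ((hodd a A _ h1 k1 ⟨h2, h3⟩ ⟨k2, k3⟩).ge hφ).1
  · exact ((htwo a A _ h1 k1 h2 k2 h3 k3).ge hφ).1

end Cfsg.Agent.S5296
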