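import Cfsg.Statements.S5298
import Cfsg.Agent.Lib.Fus.Small
-- import your own Cfsg.Agent.* helpers here

set_option autoImplicit false
universe u
open Cfsg

namespace Cfsg.Agent.S5298

open Cfsg.FusionSystem Cfsg.Lib.Fus Equiv

/-- Let F be a saturated fusion system over a finite p-group S. If every map of F between cyclic subgroups of the hyperfocal subgroup of F of order p or 4 is conjugation by an element of S, then F is the inner fusion system of S. -/
theorem result {Ω : Type u} [Group Ω] {S : Subgroup Ω} [Finite S] (p : ℕ) [Fact p.Prime] (hS : IsPGroup p S)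
    (F : Cfsg.FusionSystem S) (hF : F.IsSaturated p)
    (h : ∀ A B : Subgroup Ω, A ≤ (F.hyperfocalSubgroup p) → B ≤ (F.hyperfocalSubgroup p) → IsCyclic ↥A → (Nat.card ↥A = p ∨ Nat.card ↥A = 4) → IsCyclic ↥B → (Nat.card ↥B = p ∨ Nat.card ↥B = 4) →
      F.homSet A B ⊆ (Cfsg.innerFusionSystem S).Hom A) :
    ∀ P : Subgroup Ω, F.Hom P = (Cfsg.innerFusionSystem S).Hom P := by
  have hF' : Sat p F := ⟨hS, hF⟩
  refine hom_eq_inner_iff.mpr fun Q σ => hF'.inner_of_small fun P τ h1 x h2 h3 h4 => ?_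
  by_cases h0 : x = 1
  · exact ⟨1, one_mem _, by rw [h0, h1.homOn.map_one]; simp⟩
  have k1 := h1.iso_of_le (Subgroup.zpowers_le.mpr h2)
  have k2 := small_zpowers h4 h0
  obtain ⟨-, g, a1, a2⟩ := mor_inner_iff.mp (mor_of_homSet_subset (h _ _
    (Subgroup.zpowers_le.mpr h3) (k1.le_of_sc hF'.sc_hyp (Subgroup.zpowers_le.mpr h3)) inferInstance k2
    (by rw [k1.homOn.img_zpowers]; infer_instance) (k1.card_eq ▸ k2)) k1.mor)
  exact ⟨g, a1, a2 x (Subgroup.mem_zpowers x)⟩

end Cfsg.Agent.S5298
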