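import Cfsg.Statements.S5300
import Cfsg.Agent.Lib.Fus.Small
-- import your own Cfsg.Agent.* helpers here

set_option autoImplicit false
universe u
open Cfsg

namespace Cfsg.Agent.S5300

open Cfsg.FusionSystem Cfsg.Lib.Fus Equiv

/-- Let F be a saturated fusion system over a finite p-group S. If every cyclic subgroup of the focal subgroup of F of order p (of order 2 or 4 when p = 2) is normal in S, then S is normal in F. -/
theorem result {Ω : Type u} [Group Ω] {S : Subgroup Ω} [Finite S] (p : ℕ) [Fact p.Prime] (hS : IsPGroup p S)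
    (F : Cfsg.FusionSystem S) (hF : F.IsSaturated p)
    (hnorm : ∀ x ∈ F.focalSubgroup, (x ^ p = 1 ∨ (p = 2 ∧ x ^ 4 = 1)) → ∀ s ∈ S, s * x * s⁻¹ ∈ Subgroup.zpowers x) :
    F.IsNormal S := by
  have hF' : Sat p F := ⟨hS, hF⟩
  have k0 : ∀ x ∈ F.hyperfocalSubgroup p, x ^ p = 1 → ∀ s ∈ S, s * x * s⁻¹ = x := fun x h1 h2 s hs => by
    by_cases h0 : x = 1
    · simp [h0]
    have h3 := Subgroup.zpowers_le.mpr (hyp_le F p h1)
    have := finite_of_le h3
    obtain ⟨X, a1, a2, a3⟩ := exists_central_order_p hS h3 (le_normalizer_of_conj_mem fun g hg y hy =>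
      (img_le_iff.mp ((homOn_cj _ g).img_zpowers.le.trans (Subgroup.zpowers_le.mpr
        (hnorm x (hyp_le_focal F p h1) (Or.inl h2) g hg)))) y hy) (by simpa using h0)
    rw [Subgroup.eq_of_le_of_card_ge a1 (by rw [a2, Nat.card_zpowers, orderOf_eq_prime h2 h0])] at a3
    exact conj_eq_of_mem_centralizer (a3 hs) (Subgroup.mem_zpowers x)
  refine hF'.normal_top_of fun R k => hF'.not_essential_of_opP (fun g hg hn => ?_) k
  have hR := (hF'.essential_lt k).le
  obtain ⟨D, d1, d2, d3, d4, d5⟩ := hF'.exists_small_hyp hR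
  let D₁ : Subgroup Ω :=
    { carrier := {x | x ∈ D ∧ x ^ p = 1}
      one_mem' := ⟨one_mem _, one_pow _⟩
      inv_mem' := fun h => ⟨D.inv_mem h.1, by rw [inv_pow, h.2, inv_one]⟩
      mul_mem' := fun {x y} hx hy => ⟨D.mul_mem hx.1 hy.1, by
        rw [Commute.mul_pow (mul_inv_eq_iff_eq_mul.mp (k0 y (d2 hy.1) hy.2 x (hR (d1 hx.1)))), hx.2, hy.2, one_mul]⟩ }
  have h1 : D₁ ≤ D := fun _ h => h.1
  have hc := iso_cj F hR hg hn
  refine mem_opP_of_series hS (fun i => match i with | 0 => ⊥ | 1 => D₁ | _ => D) 2 rfl (fun i => ?_) (fun i => ?_)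
    (fun i τ a x hx => ?_) d5 hc fun i hi x hx => ?_
  · match i with
    | 0 => exact bot_le
    | 1 => exact h1
    | _ + 2 => exact le_rfl
  · match i with
    | 0 => exact bot_le
    | 1 => exact h1.trans d1
    | _ + 2 => exact d1
  · rcases i with _ | _ | i
    · rw [Subgroup.mem_bot.mp hx, a.homOn.map_one]; exact one_mem _
    · exact ⟨d3 τ a x hx.1, by rw [← a.homOn.map_pow (d1 hx.1), hx.2, a.homOn.map_one]⟩
    · exact d3 τ a x hx
  · interval_cases i
    · rw [cj_apply, k0 x (d2 hx.1) hx.2 g hg]; simp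
    · refine ⟨D.mul_mem (D.inv_mem hx) (d3 _ hc x hx), ?_⟩
      have e := d4 x hx
      rcases sme_cases p with ⟨-, b⟩ | ⟨rfl, b⟩ <;> rw [b] at e
      · rw [cj_apply, k0 x (d2 hx) e g hg]; simp
      · obtain ⟨m, hm⟩ := hnorm x (hyp_le_focal F 2 (d2 hx)) (Or.inr ⟨rfl, e⟩) g hg
        have : Commute x⁻¹ (g * x * g⁻¹) := hm ▸ ((Commute.refl x).zpow_right m).inv_left
        rw [cj_apply, this.mul_pow, conj_pow, k0 _ (pow_mem (d2 hx) 2) (by rw [← pow_mul]; exact e) g hg]
        simp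

end Cfsg.Agent.S5300
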