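import Cfsg.Statements.S5301
import Cfsg.Agent.Lib.Fus.Misc
-- import your own Cfsg.Agent.* helpers here

set_option autoImplicit false
universe u
open Cfsg

namespace Cfsg.Agent.S5301

open Cfsg.FusionSystem Cfsg.Lib.Fus Equiv

/-- Let F be a saturated fusion system over a finite p-group S. If for every subgroup P of S that is fully normalized, centric and radical in F the automorphism group that F induces on P has a normal Sylow p-subgroup, then S is normal in F. -/
theorem result {Ω : Type u} [Group Ω] {S : Subgroup Ω} [Finite S] (p : ℕ) [Fact p.Prime] (hS : IsPGroup p S)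
    (F : Cfsg.FusionSystem S) (hF : F.IsSaturated p)
    (hcl : ∀ P : Subgroup Ω, F.IsFullyNormalized P → F.IsCentric P → F.IsRadical p P →
      ∃ R : Sylow p ↥(F.autGroup P), (R : Subgroup ↥(F.autGroup P)).Normal) :
    F.IsNormal S := by
  have hsat : Sat p F := ⟨hS, hF⟩
  refine hsat.normal_top_of fun P hP => ?_
  obtain ⟨R, hR⟩ := hcl P hP.2.1 hP.1 (radical_of_essential hS hP)
  have h1 : liftAut ((R : Subgroup (F.autGroup P)).map (F.autGroup P).subtype) ≤ autS P P := by
    rw [← liftAut_inn, liftAut_le_iff, ← (radical_of_essential hS hP).2]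
    exact Subgroup.map_mono (le_sSup ⟨hR, R.isPGroup'⟩)
  refine (inn_lt_autS_of_centric hS (hsat.essential_lt hP) (centric_centralizerIn_le hP.1)).not_ge
    (le_trans ?_ h1)
  rw [autS, liftAut_le_iff]
  intro α hα
  have h2 := autInducedBy_le_autGroup F hP.1.1 le_rfl
  obtain ⟨R', hR'⟩ := ((isPGroup_autInducedBy hS P).comap_subtype (K := F.autGroup P)).exists_le_sylow
  have : Finite P := finite_of_le hP.1.1
  have := finite_mulAut P
  have := Sylow.unique_of_normal R hR
  exact ⟨⟨α, h2 hα⟩, Subsingleton.elim R' R ▸ hR' hα, rfl⟩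

end Cfsg.Agent.S5301
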