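import Cfsg.Statements.S5308
import Cfsg.Agent.Lib.Fus.Comp
-- import your own Cfsg.Agent.* helpers here

set_option autoImplicit false
open Cfsg

namespace Cfsg.Agent.S5308

open Cfsg.FusionSystem Cfsg.Lib.Fus Equiv

/-- A saturated fusion system F over a finite p-group S has a generalized Fitting subsystem — a central product of the inner fusion system of O_p(F) (the largest subgroup of S normal in F) with a layer of F — and every generalized Fitting subsystem of F is a normal subsystem of F. -/
theorem result {Ω : Type*} [Group Ω] {S : Subgroup Ω} [Finite S] (p : ℕ) [Fact p.Prime] (hS : IsPGroup p S) (F : Cfsg.FusionSystem S) (hF : F.IsSaturated p) :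
    (∃ (U : Subgroup Ω) (D : Cfsg.FusionSystem U), D.IsGeneralizedFittingOf F p) ∧
      ∀ (U : Subgroup Ω) (D : Cfsg.FusionSystem U), D.IsGeneralizedFittingOf F p → D.IsNormalIn F p := by
  have hF' : Sat p F := ⟨hS, hF⟩
  have hQ := hF'.nrm_inner (normal_core F)
  have := hQ.finite
  constructor
  · obtain ⟨T, E, h⟩ := hF'.exists_layer
    have := h.nrm.finite
    have k := h.cent_normal (normal_core F)
    obtain ⟨D, d1, -⟩ := exists_cp_nrm hQ h.nrm (fun a ha b hb => (k.comm hb ha).symm)
      (hQ.satE.central_of_fix inf_le_left fun P σ k1 x hx hx' => by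
        obtain ⟨-, g, hg, e⟩ := mor_inner_iff.mp k1
        rw [e x hx, ← k.comm hx'.2 hg, mul_inv_cancel_right])
      (k.central h.nrm.satE inf_le_left inf_le_right) rfl
    exact ⟨_, D, T, E, (isLayerOf_iff hS).mpr h, isCentralProductOf_iff.mpr d1⟩
  · rintro U D ⟨T, E, h, d⟩
    have k := (isLayerOf_iff hS).mp h
    have := k.nrm.finite
    exact (isNormalIn_iff hS).mpr ((isCentralProductOf_iff.mp d).nrm hQ k.nrm)

end Cfsg.Agent.S5308
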