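import Cfsg.Statements.S5309
import Cfsg.Agent.Lib.Fus.Comp
-- import your own Cfsg.Agent.* helpers here

set_option autoImplicit false
open Cfsg

namespace Cfsg.Agent.S5309

open Cfsg.FusionSystem Cfsg.Lib.Fus Equiv

/-- Self-centralizing property of the generalized Fitting subsystem. Let F be a saturated fusion system over a finite p-group S and D a generalized Fitting subsystem of F, over U. Then the centre of D is the largest subgroup Y of C_S(U) centralized by D in F, in the sense that every map of D extends to a map of F fixing Y elementwise: the centre of D is such a subgroup, and every such Y lies in the centre of D. -/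
theorem result {Ω : Type*} [Group Ω] {S : Subgroup Ω} [Finite S] (p : ℕ) [Fact p.Prime] (hS : IsPGroup p S) (F : Cfsg.FusionSystem S) (hF : F.IsSaturated p)
    {U : Subgroup Ω} (D : Cfsg.FusionSystem U) (hD : D.IsGeneralizedFittingOf F p) :
    (D.center ≤ Cfsg.FusionSystem.centralizerIn S U ∧ ∀ P : Subgroup Ω, D.Hom P ⊆ F.centralizerHom D.center P) ∧
      ∀ Y : Subgroup Ω, Y ≤ Cfsg.FusionSystem.centralizerIn S U →
        (∀ P : Subgroup Ω, D.Hom P ⊆ F.centralizerHom Y P) → Y ≤ D.center := by
  have hF' : Sat p F := ⟨hS, hF⟩
  have hQ := hF'.nrm_inner (normal_core F)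
  have := hQ.finite
  obtain ⟨T, E, h, d⟩ := hD
  have k := (isLayerOf_iff hS).mp h
  have := k.nrm.finite
  have d1 := isCentralProductOf_iff.mp d
  have d2 := d1.nrm hQ k.nrm
  have := d2.finite
  have k1 := (cent_of_central (central_center D)).of_sub' d2.sub
  refine ⟨⟨k1.le, cent_iff.mp k1⟩, fun Y _ hY => ?_⟩
  obtain ⟨Z, z1, -, -⟩ := d2.exists_centFs
  have := z1.finite
  have z2 : Z.IsConstrained p := z1.satE.constrained_iff.mpr fun V C c => by
    have := c.finite
    exact c.qs.not_comm (c.le.trans (centS_le.trans (inf_le_right.trans (Subgroup.centralizer_le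
      ((le_of_isSubsystemOf (k.sub (c.of_nrm z1))).trans d1.le₂)))))
  have z3 : Z.core ≤ U := (le_core (z1.normal_core hF')).trans d1.le₁
  have z4 : centS p F D ≤ U := (le_inf le_rfl (centS_le.trans (inf_le_right.trans (Subgroup.centralizer_le z3)))).trans
    ((isConstrained_iff.mp z2).2.trans z3)
  exact (d2.le_centS (cent_iff.mpr hY)).trans (le_center (d2.cent_centS.central d2.satE le_rfl z4))

end Cfsg.Agent.S5309
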