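import Cfsg.Statements.S5310
import Cfsg.Agent.Lib.Fus.Comp
-- import your own Cfsg.Agent.* helpers here

set_option autoImplicit false
open Cfsg

namespace Cfsg.Agent.S5310

open Cfsg.FusionSystem Cfsg.Lib.Fus Equiv

/-- A saturated fusion system F over a finite p-group S is constrained (its largest normal subgroup O_p(F) is centric) if and only if the inner fusion system of O_p(F) is itself a generalized Fitting subsystem of F (that is, F*(F) = O_p(F)). -/
theorem result {Ω : Type*} [Group Ω] {S : Subgroup Ω} [Finite S] (p : ℕ) [Fact p.Prime] (hS : IsPGroup p S) (F : Cfsg.FusionSystem S) (hF : F.IsSaturated p) :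
    F.IsConstrained p ↔ (Cfsg.innerFusionSystem F.core).IsGeneralizedFittingOf F p := by
  have hF' : Sat p F := ⟨hS, hF⟩
  have hQ := hF'.nrm_inner (normal_core F)
  have := hQ.finite
  rw [hF'.constrained_iff]
  constructor
  · intro h
    have k := hF'.nrm_inner (normal_bot F)
    refine ⟨⊥, _, (isLayerOf_iff hS).mpr ⟨k, fun c => (h _ _ c).elim, fun D _ _ => inner_isSubsystemOf D bot_le⟩,
      isCentralProductOf_iff.mpr ⟨(sup_bot_eq _).symm, by rw [inf_bot_eq]; exact central_bot _,
        by rw [inf_bot_eq]; exact central_bot _, cent_of_central (central_bot _), cent_of_ext bot_le fun P σ k1 =>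
          ⟨1, mor_one _ (sup_le (k1.le.trans bot_le) le_rfl), fun x hx => ?_, one_mem _⟩, fun {P σ} k1 =>
        ⟨P, ⊥, σ, le_sup_left, by rwa [sup_bot_eq], k1, mor_of_fix _ le_rfl fun x hx => by
          rw [Subgroup.mem_bot.mp hx, k1.homOn.map_one], fun _ _ => rfl⟩⟩⟩
    rw [Subgroup.mem_bot.mp (k1.le hx), k1.homOn.map_one]; rfl
  · rintro ⟨T, E, h, d⟩ V C c
    have k := (isLayerOf_iff hS).mp h
    have := k.nrm.finite
    have := c.finite
    exact c.qs.not_sub_inner hQ.satE.pg (isSubsystemOf_trans (k.sub c) (isCentralProductOf_iff.mp d).c₂.sub)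

end Cfsg.Agent.S5310
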