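import Cfsg.Statements.S5311
import Cfsg.Agent.Lib.Fus.Comp
-- import your own Cfsg.Agent.* helpers here

set_option autoImplicit false
open Cfsg

namespace Cfsg.Agent.S5311

open Cfsg.FusionSystem Cfsg.Lib.Fus Equiv

/-- The layer of a saturated fusion system F over a finite p-group S is characteristic in F: for every automorphism α of S that is an automorphism of F (α and its inverse are morphisms from F to F) and every layer E of F over T, α carries T onto T and, for every map φ of E with source P, the map induced by α on α(P) (that is, α ∘ φ ∘ α⁻¹) is a map of E. -/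
theorem result {Ω : Type*} [Group Ω] {S : Subgroup Ω} [Finite S] (p : ℕ) [Fact p.Prime] (hS : IsPGroup p S) (F : Cfsg.FusionSystem S) (hF : F.IsSaturated p)
    (α : ↥S ≃* ↥S) (hα : F.IsMorphism F (S.subtype.comp α.toMonoidHom))
    (hα' : F.IsMorphism F (S.subtype.comp α.symm.toMonoidHom))
    {T : Subgroup Ω} (E : Cfsg.FusionSystem T) (hE : E.IsLayerOf F p) :
    Cfsg.FusionSystem.imageAlong (S.subtype.comp α.toMonoidHom) T = T ∧
      ∀ (P : Subgroup Ω) (φ : ↥P →* Ω), φ ∈ E.Hom P →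
        ∀ φ' : ↥(Cfsg.FusionSystem.imageAlong (S.subtype.comp α.toMonoidHom) P) →* Ω,
          Cfsg.FusionSystem.InducedAlong (S.subtype.comp α.toMonoidHom) φ φ' →
            φ' ∈ E.Hom (Cfsg.FusionSystem.imageAlong (S.subtype.comp α.toMonoidHom) P) := by
  have k := (isLayerOf_iff hS).mp hE
  have := k.nrm.finite
  have key : ∀ (β : S ≃* S) (b : Perm Ω), (∀ x : S, (β x : Ω) = b x) →
      (∀ x ∈ S, ex (S.subtype.comp β.toMonoidHom) x = b x) ∧
      (∀ P, P ≤ S → imageAlong (S.subtype.comp β.toMonoidHom) P = img b P) ∧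
      (F.IsMorphism F (S.subtype.comp β.toMonoidHom) → ∀ {P σ}, Mor F P σ → Mor F (img b P) (b * σ * b⁻¹)) :=
    fun β b e => by
      have e1 : ∀ x ∈ S, ex (S.subtype.comp β.toMonoidHom) x = b x := fun x hx => (ex_apply _ hx).trans (e _)
      have hb := (mem_autAll_of_eq β e).1
      have e2 : ∀ P, P ≤ S → imageAlong (S.subtype.comp β.toMonoidHom) P = img b P := fun P hP => by
        ext y
        rw [mem_imageAlong_of_le hP, (hb.mono hP).mem_img]
        exact exists_congr fun x => and_congr_right fun hx => by rw [e1 x (hP hx)]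
      refine ⟨e1, e2, fun h P σ k1 => ?_⟩
      obtain ⟨σ', k2, k3⟩ := (isMorphism_iff.mp h).2 P σ k1
      rw [e2 P k1.le] at k2
      refine k2.congr fun y hy => ?_
      obtain ⟨x, hx, rfl⟩ := (hb.mono k1.le).mem_img.mp hy
      rw [← e1 x (k1.le hx), k3 x hx, e1 _ (k1.mem hx), e1 x (k1.le hx)]
      simp
  have ha := autPerm_mem_autAll (P := S) α
  obtain ⟨e1, e2, e3⟩ := key α (autPerm S α) fun x => (autPerm_apply α x).symm
  obtain ⟨-, -, e4⟩ := key α.symm (autPerm S α)⁻¹ fun x => by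
    rw [← map_inv]; exact (autPerm_apply α⁻¹ x).symm
  have t := k.tr (tr_self ha (e3 hα) fun h => by simpa using e4 hα' h)
  refine ⟨(e2 T k.nrm.le).trans t.eq.symm, fun P φ hφ φ' h => ?_⟩
  obtain ⟨σ, k1, e⟩ := exists_perm hφ
  have hP := k1.le.trans k.nrm.le
  have k2 := t.mor k1
  rw [← e2 P hP] at k2
  refine k2.hom_mem φ' fun ⟨y, hy⟩ => ?_
  obtain ⟨x, hx, rfl⟩ := (mem_imageAlong_of_le hP).mp hy
  obtain ⟨a1, a2, a3, a4⟩ := h
  have a5 := a4 ⟨x, hx⟩
  rw [← ex_apply _ (a2 ⟨x, hx⟩), e, e1 _ (k.nrm.le (k1.mem hx))] at a5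
  simp only [ex_apply _ (hP hx)] at hy ⊢
  rw [a5, ← ex_apply _ (hP hx), e1 x (hP hx)]
  simp

end Cfsg.Agent.S5311
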