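import Cfsg.Statements.S5312
import Cfsg.Agent.Lib.Fus.Comp
-- import your own Cfsg.Agent.* helpers here

set_option autoImplicit false
open Cfsg

namespace Cfsg.Agent.S5312

open Cfsg.FusionSystem Cfsg.Lib.Fus Equiv

/-- Let F be a saturated fusion system over a finite p-group S. Every component C of F is a normal subsystem of every generalized Fitting subsystem of F. -/
theorem result {Ω : Type*} [Group Ω] {S : Subgroup Ω} [Finite S] (p : ℕ) [Fact p.Prime] (hS : IsPGroup p S) (F : Cfsg.FusionSystem S) (hF : F.IsSaturated p)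
    {T : Subgroup Ω} (C : Cfsg.FusionSystem T) (hC : C.IsComponentIn F p)
    {U : Subgroup Ω} (D : Cfsg.FusionSystem U) (hD : D.IsGeneralizedFittingOf F p) : C.IsNormalIn D p := by
  have hF' : Sat p F := ⟨hS, hF⟩
  have hQ := hF'.nrm_inner (normal_core F)
  have := hQ.finite
  obtain ⟨V, E, h, d⟩ := hD
  have k := (isLayerOf_iff hS).mp h
  have := k.nrm.finite
  have d1 := isCentralProductOf_iff.mp d
  have d2 := d1.nrm hQ k.nrm
  have := d2.finite
  exact (isNormalIn_iff d2.satE.pg).mpr (d1.symm.nrm_of_nrm₁ d2.satE (((isComponentIn_iff hS).mp hC).nrm_layer k))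

end Cfsg.Agent.S5312
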