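import Cfsg.Statements.S5315
import Cfsg.Agent.Lib.Fus.Misc
-- import your own Cfsg.Agent.* helpers here

set_option autoImplicit false
open Cfsg

namespace Cfsg.Agent.S5315

open Cfsg.FusionSystem Cfsg.Lib.Fus Equiv

/-- An analogue of Grün's lemma for fusion systems. Let F be a saturated fusion system over a finite p-group S that is perfect in the sense that its hyperfocal subgroup is all of S (F coincides with its p-residual subsystem). Then the second centre of F equals its centre: every fusion system over S/(Z(F) ∩ S) that is the factor system of F modulo its centre Z(F), read through the quotient map, has trivial centre. -/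
theorem result {Ω : Type*} [Group Ω] {S : Subgroup Ω} [Finite S] (p : ℕ) [Fact p.Prime] (hS : IsPGroup p S) (F : Cfsg.FusionSystem S) (hF : F.IsSaturated p)
    (hperf : F.hyperfocalSubgroup p = S)
    (E : Cfsg.FusionSystem (⊤ : Subgroup (↥S ⧸ (F.center).subgroupOf S)))
    (hE : F.IsFactorSystem F.center (QuotientGroup.mk' ((F.center).subgroupOf S)) E) : E.center = ⊥ := by
  have hsat : Sat p F := ⟨hS, hF⟩
  obtain ⟨hk, hE⟩ := isFactorSystem_iff.mp hE
  have := hE.finite
  have hZ := central_center F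
  have hZ' := central_center E
  generalize QuotientGroup.mk' (F.center.subgroupOf S) = θ at hk hE
  have hsc : F.StronglyClosed (kerA θ) := hk.symm ▸ sc_of_normal (normal_of_central hZ)
  have hN := hE.normal_preimage_of_central hsat (hk.symm ▸ hZ) (normal_of_central hZ')
  set Y := preimageAlong θ E.center
  have hZY : F.center ≤ Y := hk ▸ kerA_le_preimageAlong θ _
  have h1 : ∀ P σ, Mor F P σ → ∀ y ∈ P, y ∈ Y → y⁻¹ * σ y ∈ F.center := fun P σ hσ y hy hY => by
    obtain ⟨σ', h2, h3⟩ := hE.exists_ind_of_sc hsat hsc hσ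
    rw [← hk, ← ex_eq_iff (hσ.le hy) (hσ.mem hy), ← h3 y hy,
      h2.fix_of_central hZ' (ex_mem_imageAlong θ hy) (mem_preimageAlong.mp hY).2]
  have h2 : S ≤ Subgroup.centralizer (Y : Set Ω) := by
    refine hperf.ge.trans ((hyp_le_focal F p).trans (focal_le_iff.mpr fun P σ hσ x hx => ?_))
    obtain ⟨τ, h3, h4, h5⟩ := hσ.ext_normal hN
    refine mem_centralizer_of_conj_eq fun y hy => ?_
    have hx' : x ∈ P ⊔ Y := Subgroup.mem_sup_left hx
    have hy' : y ∈ P ⊔ Y := Subgroup.mem_sup_right hy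
    have h6 := h1 S _ (mor_cj F le_rfl (hσ.le hx)) y (hN.1 hy) hy
    have h7 := h3.fix_of_central hZ (Subgroup.mem_sup_right (hZY h6)) h6
    have h8 := h1 _ τ h3 y hy' hy
    rw [cj_apply, h3.homOn.map_mul (Subgroup.inv_mem _ hy') (Subgroup.mul_mem _ (Subgroup.mul_mem _ hx' hy')
      (Subgroup.inv_mem _ hx')), h3.homOn.map_inv hy', h3.homOn.map_conj hx' hy', h4 x hx] at h7
    have h9 := conj_eq_of_mem_centralizer (central_le_centralizer hZ (hσ.mem hx)) h8
    have h10 : σ x * y * (σ x)⁻¹ = x * y * x⁻¹ := by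
      have e1 : σ x * τ y * (σ x)⁻¹ = σ x * y * (σ x)⁻¹ * (y⁻¹ * τ y) := by
        conv_rhs => rw [← h9]
        group
      have e2 := conj_eq_of_mem_centralizer (central_le_centralizer hZ (S.mul_mem (S.inv_mem (hN.1 hy))
        (S.mul_mem (S.mul_mem (hσ.mem hx) (hN.1 hy)) (S.inv_mem (hσ.mem hx))))) (F.center.inv_mem h8)
      rw [e1] at h7
      refine mul_left_cancel (a := y⁻¹) ?_
      rw [← h7, show (τ y)⁻¹ * (σ x * y * (σ x)⁻¹ * (y⁻¹ * τ y)) =
        (y⁻¹ * τ y)⁻¹ * (y⁻¹ * (σ x * y * (σ x)⁻¹)) * (y⁻¹ * τ y) by group, ← e2]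
      group
    rw [show x⁻¹ * σ x * y * (x⁻¹ * σ x)⁻¹ = x⁻¹ * (σ x * y * (σ x)⁻¹) * x by group, h10]; group
  have h3 : F.IsCentral Y := by
    refine central_of_normal_of_fix hN fun σ hσ y hy => ?_
    have : Finite F.center := finite_of_le hZ.1
    have h4 : PMod p (fixP Y) (autP F Y) := (pMod_trivMod (hS.to_le hZ.1) hZY).mono fun τ hτ =>
      have hτ' := (mem_autP hN.1).mp hτ
      ⟨⟨hτ'.mem_autAll, fun x hx => h1 _ τ hτ'.mor x hx hx⟩, fun x hx => hτ'.mor.fix_of_central hZ (hZY hx) hx⟩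
    obtain ⟨g, hg, -, e⟩ := mem_autS.mp (fa_le_autS hS (hsat.fa_of_fn (isFullyNormalized_of_normal F hN.1
      (normal_le_normalizer hN))) le_rfl h4 (fun α hα β hβ => ((mem_autP hN.1).mp hα).conj_mem_autP.mpr hβ) hσ)
    rw [e y hy, conj_eq_of_mem_centralizer (h2 hg) hy]
  rw [← hE.image_preimage hZ'.1, imageAlong_eq_bot_iff hN.1, hk]
  exact le_center h3

end Cfsg.Agent.S5315
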