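import Cfsg.Statements.S5317
import Cfsg.Agent.Lib.Fus3.Rank2Cl
import Cfsg.Agent.Lib.Linear.PSL2Klein
import Cfsg.Agent.Lib.Linear.PSL2Sub

set_option autoImplicit false
open Cfsg

namespace Cfsg.Agent.S5317

open Cfsg.Lib Cfsg.Lib.Fus Cfsg.Lib.Linear Cfsg.Lib.PGrp Subgroup

/-- Let F be a finite field of odd order q with q² ≡ 1 mod 16 (so that a Sylow 2-subgroup of PSL(2,q), dihedral of order the 2-part of (q²−1)/2, has order at least 8). Then the 2-fusion system of PSL(2,F) on a Sylow 2-subgroup is simple: saturated, over a nontrivial 2-group, with no normal subsystem other than the trivial one and itself. -/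
theorem result {F : Type*} [Field F] [Fintype F] (hodd : Fintype.card F % 2 = 1) (h16 : 16 ∣ Fintype.card F ^ 2 - 1)
    (S : Sylow 2 (Matrix.ProjectiveSpecialLinearGroup (Fin 2) F)) :
    (Cfsg.groupFusionSystem (S : Subgroup (Matrix.ProjectiveSpecialLinearGroup (Fin 2) F))).IsSimple 2 := by
  rw [← Nat.card_eq_fintype_card] at hodd h16
  have h2 : (2 : F) ≠ 0 := Forms.two_ne_zero_of_odd_card rfl (Nat.odd_iff.mpr (Nat.card_eq_fintype_card (α := F) ▸ hodd))
  have h8 : 8 ∣ Nat.card (PSL2 F) := (Nat.mul_dvd_mul_iff_left two_pos).mp (by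
    rw [card_PSL_two_of_odd (Nat.odd_iff.mpr hodd), mul_assoc, mul_comm (_ - 1), ← Nat.sq_sub_sq _ 1]
    exact h16.mul_left _)
  have := isSimpleGroup_PSL2 (F := F) (by
    by_contra h
    have := two_le_card_field (F := F)
    rw [show Nat.card F = 3 by omega] at h16
    omega)
  obtain ⟨⟨V, hV⟩⟩ : Nonempty {V : Subgroup (PSL2 F) // IsKleinFour V} := (Nat.card_pos_iff.mp (by
    have := card_klein_PSL2 h2
    have := Nat.card_pos (α := PSL2 F)
    omega)).1
  obtain ⟨P, hP⟩ := (IsPGroup.of_card (p := 2) (n := 2) hV.card_four).exists_le_sylow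
  obtain ⟨n, hn⟩ := IsPGroup.iff_card.mp P.isPGroup'
  obtain ⟨m, rfl⟩ := Nat.exists_eq_add_of_le' ((Nat.pow_dvd_pow_iff_le_right one_lt_two).mp
    (hn ▸ (P.pow_dvd_card_of_pow_dvd_card (n := 3) h8)))
  have hc : ∀ x ∈ V, ∀ y ∈ V, x * y = y * x := fun x hx y hy =>
    congrArg Subtype.val (hV.isMulCommutative.is_comm.comm ⟨x, hx⟩ ⟨y, hy⟩)
  have hcard : Nat.card (V.subgroupOf P) = 4 := (Nat.card_congr (subgroupOfEquivOfLe hP).toEquiv).trans hV.card_four
  obtain ⟨x, hx, hxc⟩ : ∃ x ∈ V.subgroupOf P, x ∉ center P := by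
    by_contra! h
    have : V.subgroupOf P = ⊤ := eq_top_iff.mpr fun g _ => centralizer_klein_le h2 hV fun v hv =>
      congrArg Subtype.val (mem_center_iff.mp (h ⟨v, hP hv⟩ hv) g).symm
    rw [this, card_top, hn, pow_add] at hcard
    have := Nat.one_le_two_pow (n := m)
    omega
  obtain ⟨z, hz, hz1⟩ : ∃ z ∈ center P, z ≠ 1 := by
    have : Nontrivial P := ⟨x, 1, fun e => hxc (e ▸ one_mem _)⟩
    have := P.isPGroup'.center_nontrivial
    obtain ⟨z, hz⟩ := exists_ne (1 : center P)
    exact ⟨z, z.2, fun e => hz (Subtype.ext e)⟩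
  have hzV : (z : PSL2 F) ∈ V := centralizer_klein_le h2 hV fun v hv =>
    congrArg Subtype.val (mem_center_iff.mp hz ⟨v, hP hv⟩)
  have hC : centralizer {x} = V.subgroupOf P := le_antisymm (fun g hg => centralizer_klein_le h2 hV fun v hv => by
    have := hV
    have h3 := mem_centralizer_singleton_iff.mp hg
    have h4 := mem_center_iff.mp hz g
    have h5 := IsKleinFour.eq_mul_of_ne_all (G := V) (x := ⟨x, hx⟩) (y := ⟨z, hzV⟩) (z := ⟨v, hv⟩)
      (fun e => hxc ((Subtype.ext (congrArg V.subtype e) : x = 1) ▸ one_mem _))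
      (fun e => hz1 (Subtype.ext (congrArg V.subtype e)))
      (fun e => hxc ((Subtype.ext (congrArg V.subtype e) : x = z) ▸ hz))
    have h6 : Commute (x : PSL2 F) g := congrArg Subtype.val h3.symm
    have h7 : Commute (z : PSL2 F) g := congrArg Subtype.val h4.symm
    by_cases e1 : v = 1
    · simp [e1]
    by_cases e2 : v = x
    · exact e2 ▸ h6
    by_cases e3 : v = z
    · exact e3 ▸ h7
    rw [show v = x * z from congrArg Subtype.val (h5 (fun e => e1 (congrArg Subtype.val e))
      (fun e => e2 (congrArg Subtype.val e)) fun e => e3 (congrArg Subtype.val e))]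
    exact h6.mul_left h7)
    fun g hg => mem_centralizer_singleton_iff.mpr (Subtype.ext (hc _ hg _ hx))
  obtain ⟨a, b, h⟩ := exists_max2_of_maxClass (by omega) hn (maxClass_of_centralizer hn (x := x) (by rw [hC, hcard]; rfl))
  have h4 := index_ne_two_of_simple ((by norm_num : 4 ∣ 8).trans h8)
  rcases h.rel with e | e | e
  · exact simple_of_max2 h4 P S h e.1
  · refine absurd (((h.quatData e.1 e.2).eq_z (by positivity) (mem_top x) (orderOf_eq_prime (Subtype.ext ?_)
      fun e => hxc (e ▸ one_mem _))) ▸ h.z_mem_center) hxc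
    have := hV
    exact (pow_two _).trans (congrArg Subtype.val (IsKleinFour.mul_self (G := V) ⟨x, hx⟩))
  · exact simple_of_max2 h4 P S h e.2.1

end Cfsg.Agent.S5317
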