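import Cfsg.Statements.S5322
import Cfsg.Agent.Lib.J3.Cent
import Cfsg.Agent.Lib.Comp.J3x.Mat
-- import your own Cfsg.Agent.* helpers here

set_option autoImplicit false
open Cfsg

namespace Cfsg.Agent.S5322

open Cfsg.Lib.J3 Cfsg.Lib.J2 Cfsg.Lib.Comp

/-- For a finite group G isomorphic to the third Janko group J₃, the 2-fusion system of G on a Sylow 2-subgroup is simple: saturated, over a nontrivial 2-group, with no normal subsystem other than the trivial one and itself. -/
theorem result {G : Type*} [Group G] [Finite G] (hG : Cfsg.Spor.IsoJ3 G) (S : Sylow 2 G) : (Cfsg.groupFusionSystem (S : Subgroup G)).IsSimple 2 := by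
  obtain ⟨F, _, _, ω, hF, hω, ⟨g⟩⟩ := hG
  obtain ⟨-, -, ⟨f⟩⟩ := J3x.three hF hω
  obtain ⟨h1, t, h2, ⟨e⟩⟩ := main (f.trans g.symm)
  obtain ⟨Q, _, a, b, -, ⟨K, c⟩, ⟨d⟩⟩ := str e
  exact simple_of_one_class (m := 392445) ((Nat.card_congr (f.trans g.symm).toEquiv).symm.trans J3x.card)
    (by norm_num) h1 h2 Q a b c d S

end Cfsg.Agent.S5322
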