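import Cfsg.Statements.S5323
import Cfsg.Agent.Lib.Golay.FusSub
import Cfsg.Agent.Lib.Leech.Simple

set_option autoImplicit false
open Cfsg

namespace Cfsg.Agent.S5323

open Cfsg.Lib.Golay Cfsg.Lib.Leech
set_option maxHeartbeats 400000

/-- For a finite group G isomorphic to the McLaughlin group, the 2-fusion system of G on a Sylow 2-subgroup is simple: saturated, over a nontrivial 2-group, with no normal subsystem other than the trivial one and itself. -/
theorem result {G : Type*} [Group G] [Finite G] (hG : Cfsg.Spor.IsoMcL G) (S : Sylow 2 G) : (Cfsg.groupFusionSystem (S : Subgroup G)).IsSimple 2 := by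

  obtain ⟨e⟩ := hG
  have h : prmSub Spor.M22 ≤ sMcL := prmSub_M22 ▸ inf_le_left
  exact simple_of_M22 ((mclEquiv.trans e.symm).toMonoidHom.comp ((Subgroup.inclusion h).comp
    (prmSubEquiv M22_le).toMonoidHom)) ((mclEquiv.trans e.symm).injective.comp
      ((Subgroup.inclusion_injective h).comp (prmSubEquiv M22_le).injective)) S (m := 7016625)
    (by rw [← Nat.card_congr (mclEquiv.trans e.symm).toEquiv, card_sMcL]; norm_num) (by norm_num)

end Cfsg.Agent.S5323
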