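import Cfsg.Statements.S5330
import Cfsg.Agent.Lib.Fus2.Yos

set_option autoImplicit false
open Cfsg

namespace Cfsg.Agent.S5330

open Cfsg.Lib.Fus2 Cfsg.Lib.Amalg Subgroup Cfsg.FusionSystem Cfsg.Lib

/-- Let F be a saturated fusion system over a finite abelian p-group S. Then S is the internal direct product of the centre of the system and the focal subgroup: Z(F) ∩ foc(F) = 1 and Z(F)·foc(F) = S. -/
theorem result {Ω : Type*} [Group Ω] {S : Subgroup Ω} [Finite S] (p : ℕ) [Fact p.Prime] (hS : IsPGroup p S) (F : Cfsg.FusionSystem S) (hF : F.IsSaturated p) (hab : ∀ x ∈ S, ∀ y ∈ S, x * y = y * x) : F.center ⊓ F.focalSubgroup = ⊥ ∧ F.center ⊔ F.focalSubgroup = S := by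
  have h1 : Fus.Sat p F := ⟨hS, hF⟩
  have h2 : ⁅S, S⁆ ≤ (⊥ : Subgroup Ω) := by
    rw [Subgroup.commutator_le]
    intro x hx y hy
    rw [mem_bot, commutatorElement_eq_one_iff_mul_comm]; exact hab x hx y hy
  have h3 := (focal_inf_center_le h1).trans h2
  rw [inf_comm] at h3
  have h4 : F.center ≤ S := center_le F
  have h5 : F.focalSubgroup ≤ S := Fus2.focalSubgroup_le F
  refine ⟨le_bot_iff.1 h3, le_antisymm (sup_le h4 h5) ?_⟩
  intro x hx
  obtain ⟨n, t, a1, -, a2, -, a3⟩ := exists_trace_center h1 (isNormal_top_of_comm h1 hab)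
  have b1 : x ∈ centralizer (S : Set Ω) := fun y hy => hab y hy x hx
  have b2 : x ^ n ∈ F.center ⊔ F.focalSubgroup := by
    have := (F.center ⊔ F.focalSubgroup).mul_mem (mem_sup_left (a2 x ⟨hx, b1⟩))
      (mem_sup_right (F.focalSubgroup.inv_mem (a3 x (mem_centralizerIn.2 ⟨hx, b1⟩))))
    rwa [mul_inv_rev, inv_inv, mul_inv_cancel_left] at this
  obtain ⟨k, hk⟩ := isPGroup_iff_mem.1 hS x hx
  refine (zpowers_le (H := F.center ⊔ F.focalSubgroup)).2 b2 (mem_zpowers_pow_iff.2 ?_)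
  exact ((Nat.Prime.coprime_iff_not_dvd Fact.out).2 a1).symm.pow_right k |>.coprime_dvd_right
    (orderOf_dvd_of_pow_eq_one hk)

end Cfsg.Agent.S5330
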