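import Cfsg.Statements.S5343
import Cfsg.Agent.Lib.Fus2.Real2

set_option autoImplicit false
universe u
open Cfsg

namespace Cfsg.Agent.S5343

open Cfsg.Lib.Fus2 Cfsg.Lib.Amalg Subgroup

/-- Let F be a simple saturated fusion system over a finite p-group S that is realized by some finite group on a Sylow p-subgroup. Then F is realized by a finite simple group on a Sylow p-subgroup. -/
theorem result {Ω : Type u} [Group Ω] {S : Subgroup Ω} [Finite S] (p : ℕ) [Fact p.Prime] (hS : IsPGroup p S) (F : Cfsg.FusionSystem S) (hsimple : F.IsSimple p) (hreal : F.IsRealizable p) : ∃ (G : Type u) (_ : Group G) (_ : Finite G) (_ : IsSimpleGroup G) (ι : ↥S →* G), F.IsRealizedBy ι ∧ ∃ T : Sylow p G, (T : Subgroup G) = ι.range := by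
  obtain ⟨G, _, _, ι, hι, hW⟩ := hreal
  replace hW := syl_top_iff.2 hW
  induction hn : Nat.card G using Nat.strong_induction_on generalizing G with
  | _ n ih =>
  subst hn
  by_cases hO : pPrimeCore p G = ⊥
  · by_cases hmin : ∀ (H : Subgroup G) (h : ι.range ≤ H), H ≠ ⊤ →
      ∃ P, (fusionSystemOfSubgroup H ι.range h).Hom P ≠ (groupFusionSystem ι.range).Hom P
    · exact ⟨G, _, inferInstance, isSimpleGroup_of_isSimple hW ((fIso_of_realized hι rfl).isSimple hsimple) hO hmin,
        ι, hι, syl_top_iff.1 hW⟩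
    · push Not at hmin
      obtain ⟨H, h, hH, h1⟩ := hmin
      refine ih _ (Lib.Core.card_lt_of_ne_top hH) H _ inferInstance _ (isRealizedBy_codRestrict hι h h1) ?_ rfl
      rw [range_codRestrict' ι h]
      exact (hW.of_le h le_top).subgroupOf_top
  · have := Lib.Core.pPrimeCore_characteristic p G
    obtain ⟨h1, h2⟩ := isRealizedBy_quotient_pPrimeCore hι hW
    exact ih _ (Lib.Core.card_quotient_lt hO) _ _ inferInstance _ h1 h2 rfl

end Cfsg.Agent.S5343
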