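import Cfsg.Statements.S5345
import Cfsg.Agent.Lib.Known2.ThreeTr

set_option autoImplicit false
open Cfsg

namespace Cfsg.Agent.S5345
open Cfsg.Lib.Known2

theorem two_group_closure {G : Type*} [Group G] {E : Set G} (h1 : ∀ a ∈ E, a * a = 1)
    (h2 : ∀ a ∈ E, ∀ b ∈ E, Commute a b) : IsPGroup 2 (Subgroup.closure E) := by
  have hc := Subgroup.isMulCommutative_closure (k := E) (fun a ha b hb => h2 a ha b hb)
  rintro ⟨x, hx⟩
  refine ⟨1, Subtype.ext ?_⟩
  show x ^ 2 ^ 1 = 1
  rw [pow_one]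
  induction hx using Subgroup.closure_induction with
  | mem y hy => rw [pow_two]; exact h1 y hy
  | one => simp
  | mul a b ha hb iha ihb =>
    have : Commute a b := congrArg Subtype.val (hc.is_comm.comm (⟨a, ha⟩ : Subgroup.closure E) ⟨b, hb⟩)
    rw [this.mul_pow, iha, ihb, one_mul]
  | inv a _ iha => rw [inv_pow, iha, inv_one]

/-- Let D be a conjugation-invariant generating set of 3-transpositions of a finite group G and T a Sylow 2-subgroup of G. Then the members of D lying in T generate an abelian subgroup, and their number is the width of D (the largest number of pairwise commuting members of D). -/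
theorem result {G : Type*} [Group G] [Finite G] {D : Set G} (hD : Cfsg.IsThreeTranspositionGroup D) (T : Sylow 2 G) : IsMulCommutative (Subgroup.closure {d : G | d ∈ D ∧ d ∈ T}) ∧ {d : G | d ∈ D ∧ d ∈ T}.ncard = Cfsg.commutingWidth D := by
  have : Fact (Nat.Prime 2) := ⟨Nat.prime_two⟩
  have hcomm : ∀ a ∈ {d : G | d ∈ D ∧ d ∈ T}, ∀ b ∈ {d : G | d ∈ D ∧ d ∈ T}, Commute a b := by
    rintro a ⟨ha, haT⟩ b ⟨hb, hbT⟩
    by_contra hn
    have h3 := tt_orderOf_mul hD.1 ha hb hn
    obtain ⟨k, hk⟩ := IsPGroup.iff_orderOf.1 T.isPGroup' ⟨a * b, T.1.mul_mem haT hbT⟩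
    rw [← Subgroup.orderOf_coe] at hk
    simp only at hk
    rw [h3] at hk
    have : (2 : ℕ) ∣ 3 ∨ k = 0 := by
      rcases k with _ | k
      · right; rfl
      · left; rw [hk]; exact dvd_pow_self 2 (by omega)
    rcases this with h | rfl
    · omega
    · omega
  refine ⟨Subgroup.isMulCommutative_closure (fun a ha b hb => hcomm a ha b hb), ?_⟩
  symm
  apply IsGreatest.csSup_eq
  refine ⟨⟨_, fun x hx => hx.1, Set.toFinite _, hcomm, rfl⟩, ?_⟩
  rintro n ⟨E, hE, -, hc, rfl⟩
  have hp := two_group_closure (fun a ha => tt_mul_self hD.1 (hE ha)) hc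
  obtain ⟨Q, hQ⟩ := hp.exists_le_sylow
  obtain ⟨g, hg⟩ := MulAction.exists_smul_eq G Q T
  refine Set.ncard_le_ncard_of_injOn (fun x => g * x * g⁻¹) (fun x hx => ⟨hD.2.1 g x (hE hx), ?_⟩)
    (fun x _ y _ h => by simpa using h) (Set.toFinite _)
  have hx' : x ∈ (Q : Subgroup G) := hQ (Subgroup.subset_closure hx)
  rw [← hg]
  exact Subgroup.smul_mem_pointwise_smul x (MulAut.conj g) _ hx'

end Cfsg.Agent.S5345
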