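import Cfsg.Statements.S5346
import Cfsg.Agent.Lib.Known2.TT3

set_option autoImplicit false
open Cfsg

namespace Cfsg.Agent.S5346
open Cfsg.Lib.Known2 Cfsg.Lib.Core

/-- Let D be a conjugation-invariant generating set of 3-transpositions of a finite group G and d a member of D. Then D has width 1 (no two different members of D commute) if and only if G is the product of the subgroup generated by d with the largest normal 3-subgroup of G. -/
theorem result {G : Type*} [Group G] [Finite G] {D : Set G} (hD : Cfsg.IsThreeTranspositionGroup D) {d : G} (hd : d ∈ D) : Cfsg.commutingWidth D = 1 ↔ Subgroup.zpowers d ⊔ Cfsg.pCore 3 G = ⊤ := by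
  have h := TT.of_group hD
  rw [width_eq_one_iff hd]
  constructor
  · intro hw
    rw [eq_top_iff, ← hD.2.2, Subgroup.closure_le]
    intro a ha
    have hm := h.mul_mem_pCoreOf_three hw hd ha
    rw [hD.2.2, pCoreOf_top] at hm
    rw [← h.cancel hd a]
    exact Subgroup.mul_mem_sup (Subgroup.mem_zpowers d) hm
  · intro ht
    have key : ∀ a ∈ D, RW D d a := by
      intro a ha
      have : a ∈ Subgroup.zpowers d ⊔ pCore 3 G := by rw [ht]; trivial
      obtain ⟨x, hx, y, hy, rfl⟩ := Subgroup.mem_sup_of_normal_right.1 this
      rcases (mem_zpowers_invol (h.sq hd)).1 hx with rfl | rfl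
      · rw [one_mul] at ha
        exact absurd (pCore_eq_one_of_pow (q := 2) (by norm_num) hy (by rw [pow_two, h.sq ha])) (h.ne_one ha)
      · exact (rw_iff_mem hD hd ha).2 (by rwa [h.cancel hd])
    exact fun a ha b hb hc => ((key a ha).symm.trans (key b hb)).eq_of_commute hb hc

end Cfsg.Agent.S5346
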