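import Cfsg.Statements.S5354
import Cfsg.Agent.Lib.Known2.TT5

set_option autoImplicit false
open Cfsg

namespace Cfsg.Agent.S5354
open Cfsg.Lib.Known2

/-- Let D be a conjugation-invariant generating set of 3-transpositions of the finite group G on which G acts primitively by conjugation, and suppose two different members of D commute (width at least 2). Then G has a quasisimple normal subgroup L of index at most 2 with the generalized Fitting subgroup of G equal to L times the centre, the commuting graph of D is connected, and for d in D the subgroup generated by the members of D commuting with d is a maximal D-subgroup: it is proper, and every subgroup generated by members of D that contains it is either it or G. -/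
theorem result {G : Type*} [Group G] [Finite G] {D : Set G} (hD : Cfsg.IsThreeTranspositionGroup D) (hprim : Cfsg.IsPrimitiveUnderConj D) (hw : ∃ a ∈ D, ∃ b ∈ D, a ≠ b ∧ Commute a b) : (∃ L : Subgroup G, L.Normal ∧ Cfsg.IsQuasisimple L ∧ L.index ≤ 2 ∧ Cfsg.generalizedFittingSubgroup G = L ⊔ Subgroup.center G) ∧ (Cfsg.commutingGraph D).Connected ∧ ∀ d ∈ D, Subgroup.closure {y : G | y ∈ D ∧ Commute d y} ≠ ⊤ ∧ ∀ H : Subgroup G, Cfsg.IsDSubgroup D H → Subgroup.closure {y : G | y ∈ D ∧ Commute d y} ≤ H → H = Subgroup.closure {y : G | y ∈ D ∧ Commute d y} ∨ H = ⊤ := by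
  have hP := Prim.mk' hD hprim hw
  obtain ⟨L, hL, hi, hF, -⟩ := hP.exists_comp
  refine ⟨⟨L, component_normal hP.cls hL, hL.2, hi, hF⟩, hP.connected, fun d hd => ⟨fun e => ?_, fun H hH hle => ?_⟩⟩
  · obtain ⟨x, hx, hn⟩ := hP.exists_nc hd
    have : Subgroup.closure {y : G | y ∈ D ∧ Commute d y} ≤ Subgroup.centralizer {d} :=
      (Subgroup.closure_le _).2 fun y hy => Subgroup.mem_centralizer_singleton_iff.2 hy.2.symm.eq
    rw [e] at this
    exact hn (Subgroup.mem_centralizer_singleton_iff.1 (this (Subgroup.mem_top x))).symm
  · by_cases h : ∀ a ∈ D, a ∈ H → Commute d a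
    · left
      refine le_antisymm ?_ hle
      rw [← hH]
      exact Subgroup.closure_mono fun a ha => ⟨ha.1, h a ha.1 ha.2⟩
    · right
      push Not at h
      obtain ⟨a, ha, haH, hn⟩ := h
      rw [eq_top_iff, ← hD.2.2, Subgroup.closure_le]
      intro y hy
      by_cases c : Commute d y
      · exact hle (Subgroup.subset_closure ⟨hy, c⟩)
      · obtain ⟨g, hg, rfl⟩ := hP.trans_nc hd ha hy hn c
        exact H.mul_mem (H.mul_mem (hle hg) haH) (H.inv_mem (hle hg))

end Cfsg.Agent.S5354
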