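import Cfsg.Statements.S5355
import Cfsg.Agent.Lib.Known2.TT2
import Cfsg.Agent.Lib.Linear.SymPres

set_option autoImplicit false
open Cfsg

namespace Cfsg.Agent.S5355

open Cfsg.Lib.Known2 Cfsg.Lib.Linear Equiv Subgroup

theorem s4 : ∀ σ : Perm (Fin 4), σ ≠ 1 → ∃ g k : Perm (Fin 4),
    g * σ * g⁻¹ * (k * σ * k⁻¹) = adjSwap 3 0 * adjSwap 3 2 := by decide +kernel

theorem main {G : Type*} [Group G] [Finite G] {D : Set G} (hD : Cfsg.IsThreeTranspositionClass D)
    (hD2 : ∃ a ∈ D, ∃ b ∈ D, a ≠ b) {d : G} (hd : d ∈ D) (hm : {y : G | y ∈ D ∧ Commute d y}.ncard = 2) :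
    Nonempty (G ≃* Equiv.Perm (Fin 4)) := by
  have h := TT.of_class hD
  have hG := (group_of_class hD).2.1
  obtain ⟨e0, he0, h0⟩ : ∃ e ∈ Dd D d, ∀ y ∈ Dd D d, y = e := by
    obtain ⟨x, y, hxy, e⟩ := Set.ncard_eq_two.1 hm
    have e' : ∀ z, z ∈ D ∧ Commute d z ↔ z = x ∨ z = y := fun z => Set.ext_iff.1 e z
    rcases (e' d).1 ⟨hd, Commute.refl d⟩ with rfl | rfl
    · exact ⟨y, ⟨((e' y).2 (.inr rfl)).1, hxy.symm, ((e' y).2 (.inr rfl)).2⟩,
        fun z hz => ((e' z).1 ⟨hz.1, hz.2.2⟩).resolve_left hz.2.1⟩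
    · exact ⟨x, ⟨((e' x).2 (.inl rfl)).1, hxy, ((e' x).2 (.inl rfl)).2⟩,
        fun z hz => ((e' z).1 ⟨hz.1, hz.2.2⟩).resolve_right hz.2.1⟩
  have : ∀ x, ∃ e, x ∈ D → e ∈ Dd D x ∧ ∀ y ∈ Dd D x, y = e := fun x => by
    by_cases hx : x ∈ D
    · obtain ⟨g, rfl⟩ := class_trans hD hd hx
      refine ⟨g * e0 * g⁻¹, fun _ => ⟨conj_mem_Dd (hG g) he0, fun y hy => ?_⟩⟩
      rw [← h0 (g⁻¹ * y * g⁻¹⁻¹) (by simpa [mul_assoc] using conj_mem_Dd (hG g⁻¹) hy)]; group
    · exact ⟨1, fun h => absurd h hx⟩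
  choose p hp using this
  have pp : ∀ x ∈ D, p (p x) = x := fun x hx => ((hp _ (hp x hx).1.1).2 x (mem_Dd_comm hx (hp x hx).1)).symm
  have pc : ∀ x ∈ D, ∀ y ∈ D, p (x * y * x) = x * p y * x := fun x hx y hy =>
    ((hp _ (h.conj x hx y hy)).2 _ (h.conj_Dd hx (hp y hy).1)).symm
  have cm : ∀ x ∈ D, ∀ y ∈ D, Commute x y → y = x ∨ y = p x := fun x hx y hy c =>
    (em _).imp_right fun e => (hp x hx).2 y ⟨hy, e, c⟩
  have np : ∀ x ∈ D, ∀ y ∈ D, ¬ Commute x y → ¬ Commute (p x) y := fun x hx y hy n c => by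
    rcases cm _ (hp x hx).1.1 y hy c with rfl | rfl
    · exact n (hp x hx).1.2.2
    · exact n (by rw [pp x hx])
  have key : ∀ x ∈ D, ∀ a ∈ D, ¬ Commute x a → p x * (x * a * x) * p x = p a := fun x hx a ha n => by
    have hx' := (hp x hx).1.1
    rw [h.braid hx ha n, ← pp x hx, ← pc a ha _ hx', pp x hx, ← h.braid hx' ha (np x hx a ha n), pc _ hx' a ha,
      h.conj_conj hx']
  obtain ⟨a, ha, n⟩ := exists_not_commute hD hD2 hd
  have he := (hp d hd).1
  have c := he.2.2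
  have hc := h.conj d hd a ha
  have k1 := key d hd a ha n
  have k2 : p (d * a * d) = p d * a * p d := by
    rw [pc d hd a ha, ← k1]
    simp only [← mul_assoc]
    rw [c.eq, h.cancel' hd, mul_assoc _ d (p d), c.eq, ← mul_assoc, h.cancel' hd]
  obtain ⟨φ, hφ⟩ := CoxA.exists_hom (s := fun i => if i = 0 then d else if i = 1 then a else p d) (n := 3)
    ⟨fun i hi => by interval_cases i <;> simp [h.sq hd, h.sq ha, h.sq he.1], fun i hi => by
      have : i < 2 := by omega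
      interval_cases i
      exacts [h.cube hd ha n, h.cube ha he.1 fun e => np d hd a ha n e.symm], fun i j h1 h2 => by
      obtain ⟨rfl, rfl⟩ : i = 0 ∧ j = 2 := by omega
      simp [c.mul_pow, sq, h.sq hd, h.sq he.1]⟩
  have m0 : d ∈ φ.range := ⟨_, hφ 0⟩
  have m1 : a ∈ φ.range := ⟨_, hφ 1⟩
  have m2 : p d ∈ φ.range := ⟨_, hφ 2⟩
  refine ⟨(MulEquiv.ofBijective φ ⟨(injective_iff_map_eq_one φ).2 fun σ hσ => by_contra fun h1 => ?_,
    MonoidHom.range_eq_top.1 (top_le_iff.1 (hD.2.2.ge.trans ((closure_le _).2 fun b hb => ?_)))⟩).symm⟩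
  · obtain ⟨g, k, e⟩ := s4 σ h1
    have := congrArg φ e
    simp only [map_mul, hσ, mul_one, map_inv, mul_inv_cancel, hφ] at this
    exact he.2.1 ((eq_inv_of_mul_eq_one_right this.symm).trans (h.inv hd))
  by_contra hb'
  have nc : ∀ x ∈ D, x ∈ φ.range → p x ∈ φ.range → ¬ Commute x b := fun x hx h1 h2 c => by
    rcases cm x hx b hb c with rfl | rfl
    exacts [hb' h1, hb' h2]
  have m3 := mul_mem (mul_mem m0 m1) m0
  have n1 := nc d hd m0 m2
  have e1 := key a ha b hb (nc a ha m1 (k1 ▸ mul_mem (mul_mem m2 m3) m2))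
  have e2 := key d hd _ (hp b hb).1.1 fun e => np b hb d hd (fun f => n1 f.symm) e.symm
  have e3 := key _ hc b hb (nc _ hc m3 (k2 ▸ mul_mem (mul_mem m2 m1) m2))
  have v : p d * d * (p a * a) = p (d * a * d) * (d * a * d) := by
    rw [← (hp _ hc).1.2.2.eq, k2, h.braid hd ha n, h.braid he.1 ha (np d hd a ha n), ← k1]
    simp only [← mul_assoc]
    rw [mul_assoc (p d) d (p d), c.eq, ← mul_assoc, h.sq he.1, one_mul, h.sq hd, one_mul, h.cancel' ha]
  refine (hp b hb).1.2.1 ?_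
  have inv : ∀ x ∈ D, x * p x = (p x * x)⁻¹ := fun x hx => by rw [mul_inv_rev, h.inv hx, h.inv (hp x hx).1.1]
  have cj : ∀ x ∈ D, ∀ y, p x * (x * y * x) * p x = p x * x * y * (p x * x)⁻¹ := fun x hx y => by
    rw [← inv x hx]; simp only [mul_assoc]
  rw [cj _ ha] at e1
  rw [cj _ hd, pp b hb, ← e1] at e2
  rw [← e3, cj _ hc, ← v]
  nth_rw 2 [← e2]
  group

/-- Let D be a conjugacy class of 3-transpositions generating the finite group G, with at least two members, and d a member of D. Suppose that every member of D commuting with d commutes with exactly the same members of D as d does, and that exactly one member of D other than d commutes with d. Then G is isomorphic to the symmetric group of degree 4. -/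
theorem result {G : Type*} [Group G] [Finite G] {D : Set G} (hD : Cfsg.IsThreeTranspositionClass D) (hD2 : ∃ a ∈ D, ∃ b ∈ D, a ≠ b) {d : G} (hd : d ∈ D) (hV : {y : G | y ∈ D ∧ Commute d y} = {v : G | v ∈ D ∧ ∀ e ∈ D, Commute v e ↔ Commute d e}) (hm : {y : G | y ∈ D ∧ Commute d y}.ncard = 2) : Nonempty (G ≃* Equiv.Perm (Fin 4)) := by
  exact main hD hD2 hd hm

end Cfsg.Agent.S5355
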