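import Cfsg.Statements.S5356
import Cfsg.Agent.Lib.Fis.O2

set_option autoImplicit false
open Cfsg

namespace Cfsg.Agent.S5356

open Cfsg.Lib.Known2 Cfsg.Lib.Fis

/-- Let D be a conjugacy class of 3-transpositions generating the finite group G, with at least two members, and d a member of D such that every member of D commuting with d commutes with exactly the same members of D as d. Then there is a Sylow 3-subgroup P of G normalized by d such that G is generated by d, P and the largest normal 2-subgroup of G. -/
theorem result {G : Type*} [Group G] [Finite G] {D : Set G} (hD : Cfsg.IsThreeTranspositionClass D) (hD2 : ∃ a ∈ D, ∃ b ∈ D, a ≠ b) {d : G} (hd : d ∈ D) (hV : {y : G | y ∈ D ∧ Commute d y} = {v : G | v ∈ D ∧ ∀ e ∈ D, Commute v e ↔ Commute d e}) : ∃ P : Sylow 3 G, d ∈ Subgroup.normalizer (P : Set G) ∧ Subgroup.zpowers d ⊔ (P : Subgroup G) ⊔ Cfsg.pCore 2 G = ⊤ := by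
  refine exists_sylow hD hD2 (fun a ha b hb hc => ?_) hd
  obtain ⟨g, rfl⟩ := class_trans hD hd ha
  have hG := group_of_class hD
  have h1 : g⁻¹ * b * g ∈ D := by simpa using hG.2.1 g⁻¹ b hb
  have h2 := (rv_iff_mem hG hd h1).1 fun e he => ((hV.subset ⟨h1, commute_conj_left_iff.1 hc⟩).2 e he).symm
  simpa [mul_assoc] using Subgroup.Normal.conj_mem inferInstance _ h2 g

end Cfsg.Agent.S5356
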