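import Cfsg.Statements.S5358
import Cfsg.Agent.Lib.Known2.O3

set_option autoImplicit false
open scoped MatrixGroups
open Cfsg

namespace Cfsg.Agent.S5358
open Cfsg.Lib.Known2 Cfsg.Lib.Forms

/-- Let Q be a non-degenerate quadratic form on the n-dimensional coordinate space over the field with three elements and u, v vectors of the same non-zero norm Q(u) = Q(v) spanning different lines (v ≠ u and v ≠ −u). Then the reflection matrices of u and v commute if and only if u and v are orthogonal for the polar form of Q. -/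
theorem result (n : ℕ) (Q : QuadraticForm (ZMod 3) (Fin n → ZMod 3)) (hQ : (QuadraticMap.polarBilin Q).Nondegenerate) (u v : Fin n → ZMod 3) (hu : Q u ≠ 0) (huv : Q u = Q v) (h1 : v ≠ u) (h2 : v ≠ -u) : Commute (Cfsg.reflectionMatrix (⇑Q) u) (Cfsg.reflectionMatrix (⇑Q) v) ↔ QuadraticMap.polar (⇑Q) u v = 0 := by
  have h := refl_commute_iff (ofQuad_nondeg hQ) (u := u) (v := v) hu (huv ▸ hu : Q v ≠ 0)
  simp only [h1, h2, false_or, ofQuad_B] at h
  rw [← h, ← coe_oIso_symm_refl _ (ofQuad_Q_eq Q), ← coe_oIso_symm_refl _ (ofQuad_Q_eq Q)]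
  refine ⟨fun k => (oIso _ (ofQuad_Q_eq Q)).symm.injective ?_, fun k => ?_⟩
  · rw [map_mul, map_mul]; exact Subtype.ext (Units.ext k)
  · exact congrArg (fun g : isometryGroup (ZMod 3) Q => (g.1 : Matrix (Fin n) (Fin n) (ZMod 3))) (k.map (oIso _ (ofQuad_Q_eq Q)).symm)

end Cfsg.Agent.S5358
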