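import Cfsg.Statements.S5361
import Cfsg.Agent.Lib.Known2.TT5

set_option autoImplicit false
open Cfsg

namespace Cfsg.Agent.S5361
open Cfsg.Lib.Known2

/-- Let D be a conjugacy class of 3-transpositions generating the finite group G, and suppose the centre of G is trivial and some two different members of D commute. Then the following are equivalent: (1) the commutator subgroup of G is simple (possibly of prime order); (2) G acts primitively on D by conjugation; (3) the largest normal 2-subgroup and the largest normal 3-subgroup of G are trivial and the commuting graph of D is connected. -/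
theorem result {G : Type*} [Group G] [Finite G] {D : Set G} (hD : Cfsg.IsThreeTranspositionClass D) (hZ : Subgroup.center G = ⊥) (hw : ∃ a ∈ D, ∃ b ∈ D, a ≠ b ∧ Commute a b) : (IsSimpleGroup (commutator G) ↔ Cfsg.IsPrimitiveUnderConj D) ∧ (Cfsg.IsPrimitiveUnderConj D ↔ (Cfsg.pCore 2 G = ⊥ ∧ Cfsg.pCore 3 G = ⊥ ∧ (Cfsg.commutingGraph D).Connected)) := by
  have h := TT.of_class hD
  have hD2 : ∃ a ∈ D, ∃ b ∈ D, a ≠ b := by
    obtain ⟨a, ha, b, hb, hne, -⟩ := hw
    exact ⟨a, ha, b, hb, hne⟩
  refine ⟨⟨fun hs => prim_of_simple hD hD2 hs fun hsol => ?_, fun hp => (Prim.mk hD hp hw).simple_commutator hZ⟩,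
    fun hp => ?_, fun ⟨h2, h3, hc⟩ => ?_⟩
  · obtain ⟨a, ha, b, hb, hne, hc⟩ := hw
    have hcomm := IsSimpleGroup.comm_iff_isSolvable.2 hsol
    have key : ∀ x ∈ D, ∀ y ∈ D, x * y ∈ commutator G := by
      intro x hx y hy
      obtain ⟨g, rfl⟩ := class_trans hD hy hx
      have := Subgroup.commutator_mem_commutator (Subgroup.mem_top g) (Subgroup.mem_top y)
      rwa [commutatorElement_def, h.inv hy] at this
    have hz : a * b ∈ Subgroup.center G := central_of_forall hD.2.2 fun e he => by
      have h1 : Commute (a * b) (a * e) := congrArg Subtype.val (hcomm ⟨_, key a ha b hb⟩ ⟨_, key a ha e he⟩)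
      have h2 : Commute (a * b) a := (Commute.refl a).mul_left hc.symm
      have := h2.mul_right h1
      rwa [h.cancel ha] at this
    exact hne (eq_of_mul_central hD hD2 ha hb hz)
  · have hP := Prim.mk hD hp hw
    exact ⟨le_bot_iff.1 (hZ ▸ hP.two_central), le_bot_iff.1 (hZ ▸ hP.three_central), hP.connected⟩
  · have h2' : pCore 2 G ≤ Subgroup.center G := by rw [h2]; exact bot_le
    have h3' : pCore 3 G ≤ Subgroup.center G := by rw [h3]; exact bot_le
    obtain ⟨L, hL, -⟩ := exists_component hD hD2 h2' h3'
    exact prim_of_index hD hD2 h2' h3' hL (index_of_connected hD hL hc)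

end Cfsg.Agent.S5361
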