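import Cfsg.Statements.S5363
import Cfsg.Agent.Lib.Known2.Invol

set_option autoImplicit false
open Cfsg

namespace Cfsg.Agent.S5363
open Cfsg.Lib.Known2

theorem aux {G : Type*} [Group G] {D : Set G} (hinv : ∀ d ∈ D, orderOf d = 2)
    (h : ∀ a ∈ D, ∀ b ∈ D, Odd (orderOf (a * b)) ∨ orderOf (a * b) = 2) {a b y : G} (ha : a ∈ D)
    (hb : b ∈ D) (hy : y ∈ D) (hab : b ≠ a) (hc : Commute a b) (hz : Commute (a * b) y) : Commute y a := by
  have haa := mul_self_of_orderOf_two (hinv a ha)
  have hbb := mul_self_of_orderOf_two (hinv b hb)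
  have hyy := mul_self_of_orderOf_two (hinv y hy)
  have hz2 : (a * b) ^ 2 = 1 := (commute_iff_sq_eq_one haa hbb).1 hc
  have hcz : Commute (y * a) (a * b) := hz.symm.mul_left ((Commute.refl a).mul_right hc)
  have hyb : y * b = (y * a) * (a * b) := by rw [mul_assoc, ← mul_assoc a, haa, one_mul]
  rw [commute_iff_sq_eq_one hyy haa]
  rcases h y hy b hb with h2 | h2
  · rcases h y hy a ha with h1 | h1
    · exfalso
      obtain ⟨m, hm⟩ := h1.mul h2
      have e1 : (y * a) ^ (2 * m + 1) = 1 := by rw [← hm, pow_mul, pow_orderOf_eq_one, one_pow]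
      have e2 : (y * b) ^ (2 * m + 1) = 1 := by rw [← hm, mul_comm, pow_mul, pow_orderOf_eq_one, one_pow]
      rw [hyb, hcz.mul_pow, e1, one_mul, pow_succ, pow_mul, hz2, one_pow, one_mul] at e2
      apply hab
      have := eq_inv_of_mul_eq_one_right e2
      rwa [inv_eq_of_mul_eq_one_right haa] at this
    · rw [← h1, pow_orderOf_eq_one]
  · have := pow_orderOf_eq_one (y * b)
    rwa [h2, hyb, hcz.mul_pow, hz2, mul_one] at this

/-- Let D be a conjugation-invariant set of involutions of a finite group G. Then every product of two members of D has odd order or order 2 if and only if, for every a in D and every b in D different from a and commuting with a, the members of D commuting with a b are exactly those commuting with both a and b. -/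
theorem result {G : Type*} [Group G] [Finite G] {D : Set G} (hinv : ∀ d ∈ D, orderOf d = 2) (hconj : ∀ g : G, ∀ d ∈ D, g * d * g⁻¹ ∈ D) : (∀ a ∈ D, ∀ b ∈ D, Odd (orderOf (a * b)) ∨ orderOf (a * b) = 2) ↔ ∀ a ∈ D, ∀ b ∈ D, b ≠ a → Commute a b → {y : G | y ∈ D ∧ Commute (a * b) y} = {y : G | y ∈ D ∧ Commute a y} ∩ {y : G | y ∈ D ∧ Commute b y} := by
  constructor
  · intro h a ha b hb hab hc
    ext y
    simp only [Set.mem_ofPred_eq, Set.mem_inter_iff]
    constructor
    · rintro ⟨hy, hz⟩
      exact ⟨⟨hy, (aux hinv h ha hb hy hab hc hz).symm⟩,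
        ⟨hy, (aux hinv h hb ha hy hab.symm hc.symm (hc.eq ▸ hz)).symm⟩⟩
    · rintro ⟨⟨hy, h1⟩, -, h2⟩
      exact ⟨hy, h1.mul_left h2⟩
  · intro h a ha b hb
    rcases Nat.even_or_odd (orderOf (a * b)) with he | ho
    · right
      have haa := mul_self_of_orderOf_two (hinv a ha)
      have hbb := mul_self_of_orderOf_two (hinv b hb)
      obtain ⟨m, hm⟩ := he
      have hpos := orderOf_pos (a * b)
      obtain ⟨k, rfl⟩ : ∃ k, m = k + 1 := ⟨m - 1, by omega⟩
      have h1 : (a * b) ^ (2 * (k + 1)) = 1 := by rw [two_mul, ← hm, pow_orderOf_eq_one]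
      have hz1 : (a * b) ^ (k + 1) ≠ 1 := pow_ne_one_of_lt_orderOf (by omega) (by omega)
      have ha' := palindrome_mem (fun d hd => mul_self_of_orderOf_two (hinv d hd)) hconj k a ha b hb
      have e : (a * b) ^ (k + 1) = a * (b * (a * b) ^ k) := by rw [pow_succ', mul_assoc]
      have e' : b * (a * b) ^ k = a * (a * b) ^ (k + 1) := by rw [e, ← mul_assoc, haa, one_mul]
      have c1 := commute_half_left haa hbb _ h1
      have c2 := commute_half_right haa hbb _ h1
      have hne : b * (a * b) ^ k ≠ a := by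
        intro h0; apply hz1; rw [e, h0, haa]
      have := h a ha _ ha' hne (by rw [e']; exact (Commute.refl a).mul_right c1)
      have hb' : b ∈ {y : G | y ∈ D ∧ Commute (a * (b * (a * b) ^ k)) y} := ⟨hb, e ▸ c2.symm⟩
      rw [this] at hb'
      have h2 : (a * b) ^ 2 = 1 := (commute_iff_sq_eq_one haa hbb).1 hb'.1.2
      have h3 := Nat.le_of_dvd (by norm_num) (orderOf_dvd_of_pow_eq_one h2)
      omega
    · left; exact ho

end Cfsg.Agent.S5363
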