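import Cfsg.Statements.S5364
import Cfsg.Agent.Lib.Known2.ThreeTr

set_option autoImplicit false
open Cfsg

namespace Cfsg.Agent.S5364
open Cfsg.Lib.Known2

/-- Let D be a conjugation-invariant set of involutions of a finite group G and t an involution in the centre of G such that d t does not lie in D for any d in D. If the images of the members of D in G modulo the subgroup generated by t satisfy the 3-transposition order conditions (each has order 2 and any two have product of order at most 3), then so do the members of D. -/
theorem result {G : Type*} [Group G] [Finite G] {D : Set G} (hinv : ∀ d ∈ D, orderOf d = 2) (hconj : ∀ g : G, ∀ d ∈ D, g * d * g⁻¹ ∈ D) (t : G) (ht : orderOf t = 2) (htZ : t ∈ Subgroup.center G) (hDt : ∀ d ∈ D, d * t ∉ D) [(Subgroup.zpowers t).Normal] (himg : Cfsg.IsThreeTranspositionSet ((QuotientGroup.mk : G → G ⧸ Subgroup.zpowers t) '' D)) : Cfsg.IsThreeTranspositionSet D := by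
  classical
  have hz : ∀ x : G, (QuotientGroup.mk x : G ⧸ Subgroup.zpowers t) = 1 → x = 1 ∨ x = t := by
    intro x hx
    rw [QuotientGroup.eq_one_iff, mem_zpowers_iff_mem_range_orderOf, ht] at hx
    simp only [Finset.mem_image, Finset.mem_range] at hx
    obtain ⟨i, hi, rfl⟩ := hx
    interval_cases i <;> simp
  refine ⟨hinv, fun d hd e he => ?_⟩
  have hdd := mul_self_of_orderOf_two (hinv d hd)
  have hee := mul_self_of_orderOf_two (hinv e he)
  have hc : ∀ x, x * t = t * x := Subgroup.mem_center_iff.1 htZ
  rcases himg.2 _ ⟨d, hd, rfl⟩ _ ⟨e, he, rfl⟩ with h | h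
  · rw [← QuotientGroup.mk_mul, ← QuotientGroup.mk_pow] at h
    rcases hz _ h with h | h
    · left; exact h
    · exfalso
      apply hDt e he
      have : e * t = d * e * d⁻¹ := by
        rw [hc, ← h, inv_eq_of_mul_eq_one_right hdd, pow_two]
        calc d * e * (d * e) * e = d * e * d * (e * e) := by group
          _ = _ := by rw [hee, mul_one]
      rw [this]; exact hconj _ _ he
  · rw [← QuotientGroup.mk_mul, ← QuotientGroup.mk_pow] at h
    rcases hz _ h with h | h
    · right; exact h
    · exfalso
      apply hDt _ (hconj e d hd)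
      have : e * d * e⁻¹ * t = d * e * d⁻¹ := by
        rw [hc, ← h, inv_eq_of_mul_eq_one_right hdd, inv_eq_of_mul_eq_one_right hee]
        calc (d * e) ^ 3 * (e * d * e) = d * e * d * (e * (d * (e * e) * d) * e) := by
              simp only [pow_succ, pow_zero, one_mul, mul_assoc]
          _ = _ := by rw [hee, mul_one, hdd, mul_one, hee, mul_one]
      rw [this]; exact hconj _ _ he

end Cfsg.Agent.S5364
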