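import Cfsg.Statements.S5365
import Cfsg.Agent.Lib.Known2.TT2
import Cfsg.Agent.Lib.Linear.SymPres

set_option autoImplicit false
open Cfsg

namespace Cfsg.Agent.S5365

open Cfsg.Lib Cfsg.Lib.Known2 Cfsg.Lib.Linear Equiv Subgroup

set_option synthInstance.maxSize 1024 in
theorem s3 : ∀ a b y : Perm (Fin 3), a * a = 1 ∧ a ≠ 1 → b * b = 1 ∧ b ≠ 1 → y * y = 1 ∧ y ≠ 1 → a ≠ b →
    a * b ≠ b * a ∧ (y = a ∨ y = b ∨ y = a * b * a) := by decide +kernel

theorem s3c : ∀ z : Perm (Fin 3), (∀ g, g * z = z * g) → z = 1 := by decide +kernel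

section
variable {G : Type*} [Group G] [Finite G] {D : Set G} (hD : IsThreeTranspositionSet D)
  (hG : ∀ g : G, ∀ d ∈ D, g * d * g⁻¹ ∈ D)

set_option linter.unusedSectionVars false

include hD hG

theorem rw_mem {a b : G} (ha : a ∈ D) (hb : b ∈ D) (hr : RW D a b) : a * b ∈ pCore 3 G := by
  have h := TT.of_conj hD hG
  have : Fact (Nat.Prime 3) := ⟨Nat.prime_three⟩
  refine mem_pCore_of_baer_suzuki fun g => ?_
  rw [← conj_mul]
  have hr' := hr.conj (g := g) (hG g) (fun e he => by simpa using hG g⁻¹ e he)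
  have hc := hG g a ha
  have hy := hG g b hb
  generalize g * a * g⁻¹ = c at hr' hc
  generalize g * b * g⁻¹ = y at hr' hy
  have cube : ∀ {a b : G}, a ∈ D → b ∈ D → RW D a b → (a * b) ^ 3 ^ 1 = 1 := by
    intro a b ha hb hr
    by_cases e : Commute a b
    · rw [← hr.eq_of_commute hb e, h.sq ha, one_pow]
    · exact h.cube ha hb e
  by_cases e1 : a = c
  · subst e1
    have hl : TT ({a} : Set G) := h.mono (by simpa using ha) (by simp [h.cancel' ha])
    obtain ⟨h1, h2⟩ := h.w_closure hl (by simpa using ha) (by simp)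
    exact h1.pair_isPGroup h2 ⟨ha, a, rfl, RW.refl _⟩ ⟨hb, a, rfl, hr.symm⟩ ⟨ha, a, rfl, RW.refl _⟩
      ⟨hy, a, rfl, hr'.symm⟩
  by_cases e2 : Commute a c
  · have m : c ∈ Dd D a := ⟨hc, fun e => e1 e.symm, e2⟩
    have c1 : Commute (a * b) (c * y) :=
      (e2.mul_right ((RW.refl a).mem_Dd hr' ha hy m).2.2).mul_left
        ((hr.mem m).2.2.mul_right (hr.mem_Dd hr' hb hy m).2.2)
    apply isPGroup_closure_of_pow_central
    · rintro x (rfl | rfl)
      · exact ⟨1, cube ha hb hr⟩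
      · exact ⟨1, cube hc hy hr'⟩
    · intro x hx
      refine ⟨0, fun w hw => ?_⟩
      have : closure {a * b, c * y} ≤ centralizer {w} := by
        rw [closure_le]
        rintro u (rfl | rfl) <;> rcases hw with rfl | rfl <;> refine mem_centralizer_singleton_iff.2 ?_
        · rfl
        · exact c1.eq
        · exact c1.symm.eq
        · rfl
      rw [pow_zero, pow_one]
      exact mem_centralizer_singleton_iff.1 (this hx)
  · obtain ⟨hl, hw⟩ := h.line ha hc e2
    obtain ⟨h1, h2⟩ := h.w_closure hl (by rintro x (rfl | rfl | rfl); exacts [ha, hc, h.conj _ ha _ hc]) hw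
    exact h1.pair_isPGroup h2 ⟨ha, a, by simp, RW.refl _⟩ ⟨hb, a, by simp, hr.symm⟩ ⟨hc, c, by simp, RW.refl _⟩
      ⟨hy, c, by simp, hr'.symm⟩

variable (hloc : ∀ d ∈ D, Nonempty (closure (Dd D d) ≃* Perm (Fin 3)) ∧
  Nat.card (pCore 3 (centralizer ({d} : Set G))) = 3)

include hloc

theorem L2 {d a b y : G} (hd : d ∈ D) (ha : a ∈ Dd D d) (hb : b ∈ Dd D d) (hy : y ∈ Dd D d) (hab : a ≠ b) :
    ¬ Commute a b ∧ (y = a ∨ y = b ∨ y = a * b * a) := by
  have h := TT.of_conj hD hG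
  obtain ⟨e⟩ := (hloc d hd).1
  have p : ∀ {a} (ha : a ∈ Dd D d), e ⟨a, subset_closure ha⟩ * e ⟨a, subset_closure ha⟩ = 1 ∧
      e ⟨a, subset_closure ha⟩ ≠ 1 := fun ha =>
    ⟨by rw [← map_mul, ← e.map_one]; exact congrArg e (Subtype.ext (h.sq ha.1)),
      fun f => h.ne_one ha.1 (congrArg Subtype.val (e.map_eq_one_iff.1 f))⟩
  have := s3 _ _ _ (p ha) (p hb) (p hy) fun f =>
    hab (congrArg Subtype.val (e.injective f))
  simp only [← map_mul, ne_eq, e.apply_eq_iff_eq, Subtype.ext_iff] at this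
  exact this

omit [Finite G] hD hG in
theorem L1 {d : G} (hd : d ∈ D) (a : G) : ∃ b ∈ Dd D d, b ≠ a := by
  obtain ⟨e⟩ := (hloc d hd).1
  by_contra! f
  have := isMulCommutative_closure (k := Dd D d) fun x hx y hy => by rw [f x hx, f y hy]
  have : ∀ x y : Perm (Fin 3), x * y = y * x := fun x y => e.symm.injective (by
    rw [map_mul, map_mul]; exact mul_comm' _ _)
  revert this; decide

theorem third {d a b : G} (ha : a ∈ Dd D d) (hb : b ∈ Dd D d) (hd : d ∈ D) (hab : a ≠ b) : a * b * a ∈ Dd D d := by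
  have h := TT.of_conj hD hG
  exact ⟨h.conj a ha.1 b hb.1, fun e => h.not_commute_third ha.1 (L2 hD hG hloc hd ha hb ha hab).1
    (e ▸ ha.2.2.symm), TT.commute_conj ha.2.2 hb.2.2⟩

theorem Leq {u v a b : G} (hu : u ∈ D) (hv : v ∈ D) (h1 : a ∈ Dd D u) (h2 : b ∈ Dd D u) (h3 : a ∈ Dd D v)
    (h4 : b ∈ Dd D v) (hab : a ≠ b) : RW D u v := by
  refine Set.Subset.antisymm (fun y hy => ?_) fun y hy => ?_
  · rcases (L2 hD hG hloc hu h1 h2 hy hab).2 with rfl | rfl | rfl
    exacts [h3, h4, third hD hG hloc h3 h4 hv hab]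
  · rcases (L2 hD hG hloc hv h3 h4 hy hab).2 with rfl | rfl | rfl
    exacts [h1, h2, third hD hG hloc h1 h2 hu hab]

theorem inverts {x y w : G} (hx : x ∈ D) (hy : y ∈ Dd D x) (hw : w ∈ pCore 3 G) (hc : Commute w x) :
    y * w * y = w⁻¹ := by
  have h := TT.of_conj hD hG
  obtain ⟨v, hv, hvy⟩ := L1 hloc hx y
  have n := (L2 hD hG hloc hx hy hv hy hvy.symm).1
  let r : centralizer ({x} : Set G) := ⟨y * v, mem_centralizer_singleton_iff.2 (hy.2.2.mul_right hv.2.2).symm⟩
  have r3 : orderOf r = 3 := by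
    have : Fact (Nat.Prime 3) := ⟨Nat.prime_three⟩
    exact orderOf_eq_prime (Subtype.ext (h.cube hy.1 hv.1 n)) fun e =>
      hvy ((eq_inv_of_mul_eq_one_right (congrArg Subtype.val e)).trans (h.inv hy.1))
  have m1 : y * v ∈ zpowers (y * v) := mem_zpowers _
  have m2 : v * y ∈ zpowers (y * v) := by simpa [h.inv hy.1, h.inv hv.1] using inv_mem m1
  have pr : ∀ a ∈ Dd D x, ∀ b ∈ Dd D x, a * b ∈ zpowers (y * v) := fun a ha b hb => by
    rcases (L2 hD hG hloc hx hy hv ha hvy.symm).2 with rfl | rfl | rfl <;>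
      rcases (L2 hD hG hloc hx hy hv hb hvy.symm).2 with rfl | rfl | rfl
    · rw [h.sq ha.1]; exact one_mem _
    · exact m1
    · rwa [mul_assoc, h.cancel ha.1]
    · exact m2
    · rw [h.sq ha.1]; exact one_mem _
    · simpa [mul_assoc] using mul_mem m2 m2
    · rwa [h.cancel' hy.1]
    · simpa [mul_assoc] using mul_mem m1 m1
    · rw [h.sq ha.1]; exact one_mem _
  have : (zpowers r).Normal := ⟨fun a ha g => by
    obtain ⟨k, rfl⟩ := ha
    rw [← conj_zpow]
    refine zpow_mem ?_ k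
    have c : ∀ a ∈ Dd D x, g.1 * a * g.1⁻¹ ∈ Dd D x := fun a ha => by
      have := conj_mem_Dd (hG g.1) ha
      rwa [conj_eq_self_iff.2 (mem_centralizer_singleton_iff.1 g.2)] at this
    obtain ⟨j, hj⟩ := pr _ (c y hy) _ (c v hv)
    exact ⟨j, Subtype.ext (by simpa [r, mul_assoc] using hj)⟩⟩
  have e : zpowers r = pCore 3 _ := eq_of_le_of_card_ge (Core.le_pCore (IsPGroup.of_card (n := 1)
    (by rw [Nat.card_zpowers, r3]; rfl))) (by rw [(hloc x hx).2, Nat.card_zpowers, r3])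
  obtain ⟨k, hk⟩ := e.ge (Core.le_pCore (N := (pCore 3 G).subgroupOf (centralizer {x}))
    ((Core.isPGroup_pCore 3 G).comap_subtype) (show (⟨w, mem_centralizer_singleton_iff.2 hc⟩ : centralizer {x}) ∈ _ from hw))
  obtain rfl : (y * v) ^ k = w := by simpa [r] using congrArg Subtype.val hk
  nth_rw 3 [← h.inv hy.1]
  rw [← conj_zpow, ← inv_zpow, mul_inv_rev, h.inv hy.1, h.inv hv.1, h.cancel hy.1]

theorem caseA {d x : G} (hd : d ∈ D) (hx : x ∈ D) (n : ¬ Commute x d) : ∃ a ∈ Dd D d, Commute x a := by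
  have h := TT.of_conj hD hG
  by_contra! na
  have T : ∀ {d a}, d ∈ D → a ∈ Dd D d → ¬ Commute x d → ¬ Commute x a → d * (a * x * a) * d ∈ Dd D x :=
    fun {d a} hd ha n n' => ⟨h.conj d hd _ (h.conj a ha.1 x hx), fun e => h.s4_ne ha.1 hx hd ha.2.1 n' n
      (by nth_rw 2 [← e]; rw [h.conj_conj hd]), h.s4b hd hx ha.1 ha.2.2 n n'⟩
  have Ti : ∀ a ∈ Dd D d, ∀ b ∈ Dd D d, a ≠ b → d * (a * x * a) * d ≠ d * (b * x * b) * d := fun a ha b hb hab e =>
    hab (h.third_inj hx ha.1 hb.1 (na a ha) (na b hb) (h.conj_inj hd e))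
  have R : ∀ a ∈ Dd D d, ∀ b ∈ Dd D d, a ≠ b → RW D a b := fun a ha b hb hab => by
    have hc := third hD hG hloc ha hb hd hab
    have nab := (L2 hD hG hloc hd ha hb ha hab).1
    have e : ∀ a ∈ Dd D d, ∀ u, a * (d * u * d) * a = d * (a * u * a) * d := fun a ha u => by
      simp only [← mul_assoc]; rw [← ha.2.2.eq, mul_assoc _ d a, ha.2.2.eq, ← mul_assoc]
    have m : ∀ a ∈ Dd D d, ∀ b ∈ Dd D d, d * (a * (b * x * b) * a) * d ∈ Dd D (a * x * a) := fun a ha b hb =>
      e a ha _ ▸ h.conj_Dd ha.1 (T hd hb n (na b hb))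
    have m1 := m a ha a ha
    have m2 := m b hb b hb
    have m3 := m b hb _ hc
    rw [h.conj_conj ha.1] at m1
    rw [h.conj_conj hb.1] at m2
    have e2 : b * (a * b * a * x * (a * b * a)) * b = a * (b * x * b) * a := by
      nth_rw 1 [h.braid ha.1 hb.1 nab, h.braid ha.1 hb.1 nab]
      simp only [← mul_assoc]; rw [h.sq hb.1, one_mul, h.cancel' hb.1]
    rw [e2] at m3
    have := h.rw_conj hx (Leq hD hG hloc (h.conj a ha.1 x hx) (h.conj b hb.1 x hx) m1 (m a ha b hb) m2 m3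
      fun f => Ti a ha b hb hab (by rw [← h.conj_conj ha.1 (b * x * b), ← h.conj_inj hd f]))
    rwa [← h.braid hx ha.1 (na a ha), ← h.braid hx hb.1 (na b hb), h.conj_conj hx, h.conj_conj hx] at this
  obtain ⟨a, ha, -⟩ := L1 hloc hd 1
  obtain ⟨b, hb, hab⟩ := L1 hloc hd a
  obtain ⟨e, he, hed⟩ := L1 hloc ha.1 d
  have r : RW D d e := Leq hD hG hloc hd he.1 ha hb (mem_Dd_comm ha.1 he)
    (mem_Dd_comm hb.1 ((R a ha b hb hab.symm).mem he)) hab.symm
  have ne : ¬ Commute x e := fun c => by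
    by_cases f : x = e
    · exact na a ha (f ▸ he.2.2.symm)
    · exact n (r.symm.mem ⟨hx, f, c.symm⟩).2.2.symm
  have t := T he.1 (r.mem ha) ne (na a ha)
  obtain ⟨c, hc, hca, f⟩ : ∃ c ∈ Dd D d, c ≠ a ∧ e * (a * x * a) * e = d * (c * x * c) * d := by
    have hc := third hD hG hloc ha hb hd hab.symm
    have nab := (L2 hD hG hloc hd ha hb ha hab.symm).1
    have ca : a * b * a ≠ a := fun f => h.not_commute_third ha.1 nab (by rw [f])
    have cb : a * b * a ≠ b := fun f => nab ((h.conj_eq_iff ha.1).1 f)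
    have T' := fun a ha => T hd ha n (na a ha)
    have nc : ∀ {d}, a ∈ Dd D d → ¬ Commute x d → ¬ Commute (a * x * a) d := fun ha n c =>
      n (by rwa [h.commute_conj_iff' ha.1, (h.conj_eq_iff ha.1).2 ha.2.2.symm] at c)
    rcases (L2 hD hG hloc hx (T' a ha) (T' b hb) t (Ti a ha b hb hab.symm)).2 with f | f | f
    · exact absurd (h.third_inj (h.conj a ha.1 x hx) he.1 hd (nc (r.mem ha) ne) (nc ha n) f) hed
    · exact ⟨b, hb, hab, f⟩
    · exact ⟨_, hc, ca, f.trans (((L2 hD hG hloc hx (T' a ha) (T' b hb) (T' _ hc)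
        (Ti a ha b hb hab.symm)).2.resolve_left (Ti _ hc a ha ca)).resolve_left (Ti _ hc b hb cb)).symm⟩
  have hw : e * d * (a * c) ∈ pCore 3 G :=
    mul_mem (rw_mem hD hG he.1 hd r.symm) (rw_mem hD hG ha.1 hc.1 (R a ha c hc hca.symm))
  have c1 : Commute a (e * d) := he.2.2.mul_right ha.2.2.symm
  have c2 : Commute c (e * d) := (r.mem hc).2.2.symm.mul_right hc.2.2.symm
  have w1 : Commute (e * d * (a * c)) x := by
    rw [← conj_eq_self_iff, ← mul_assoc, ← c1.eq]
    nth_rw 2 [← h.conj_conj ha.1 x]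
    rw [← h.conj_conj he.1 (a * x * a), f]
    simp only [mul_inv_rev, h.inv hd, h.inv he.1, h.inv ha.1, h.inv hc.1, mul_assoc]
  have w2 : d * a * (e * d * (a * c)) * (d * a)⁻¹ = (e * d * (a * c))⁻¹ := by
    rw [← conj_mul, ← (c1.mul_left c2).eq, mul_inv_rev (a * c)]
    congr 1
    · rw [mul_assoc d, c1.eq, mul_inv_rev, mul_inv_rev, h.inv hd, h.inv he.1]
      simp [mul_assoc, h.sq hd]
    · rw [mul_assoc d, h.cancel ha.1, hc.2.2.eq, mul_inv_rev, mul_inv_rev, h.inv ha.1, h.inv hc.1, mul_assoc,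
        ← mul_assoc d, ha.2.2.eq, mul_inv_cancel_right]
  have w3 := (commute_conj_conj_iff (g := d * a)).2 w1
  rw [w2, show d * a * x * (d * a)⁻¹ = d * (a * x * a) * d by
    simp only [mul_inv_rev, h.inv hd, h.inv ha.1, mul_assoc]] at w3
  have t' := T hd ha n (na a ha)
  have w4 := inverts hD hG hloc hx t' hw w1
  rw [← (Commute.inv_left_iff.1 w3).eq, h.cancel' t'.1] at w4
  have w5 := pCore_eq_one_of_pow (q := 2) (by decide) hw (by rw [sq]; exact mul_eq_one_iff_eq_inv.2 w4)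
  rw [eq_inv_of_mul_eq_one_left w5] at c1
  exact (L2 hD hG hloc hd ha hc ha hca.symm).1 
    (by simpa [h.cancel ha.1] using (Commute.refl a).mul_right (Commute.inv_right_iff.1 c1))

theorem main (hne : D.Nonempty) : Nonempty (closure D ≃* Perm (Fin 5)) ∨
    Nonempty (closure D ≃* Perm (Fin 3) × Perm (Fin 3)) := by
  have h := TT.of_conj hD hG
  obtain ⟨d, hd⟩ := hne
  obtain ⟨a, ha, -⟩ := L1 hloc hd 1
  obtain ⟨b, hb, hab⟩ := L1 hloc hd a
  have nab := (L2 hD hG hloc hd ha hb ha hab.symm).1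
  have cov : ∀ y ∈ D, y ∈ Dd D d ∨ y ∈ Dd D a ∨ y ∈ Dd D b ∨ y ∈ Dd D (a * b * a) := fun y hy => by
    by_cases c : Commute y d
    · by_cases e : y = d
      · exact .inr (.inl (e ▸ mem_Dd_comm hd ha))
      · exact .inl ⟨hy, e, c.symm⟩
    obtain ⟨u, hu, c'⟩ := caseA hD hG hloc hd hy c
    have : y ∈ Dd D u := ⟨hy, fun e => c (e ▸ hu.2.2.symm), c'.symm⟩
    rcases (L2 hD hG hloc hd ha hb hu hab.symm).2 with rfl | rfl | rfl <;> simp [this]
  obtain ⟨s, hs, hsd⟩ := L1 hloc hb.1 d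
  have hdb := mem_Dd_comm hd hb
  have nds := (L2 hD hG hloc hb.1 hdb hs hs hsd.symm).1
  by_cases c : Commute a s
  · have hs' : s ∈ Dd D a := ⟨hs.1, fun e => nds (e ▸ ha.2.2), c⟩
    have hda := mem_Dd_comm hd ha
    have hc := third hD hG hloc ha hb hd hab.symm
    have r1 := Leq hD hG hloc hb.1 ha.1 hdb hs hda hs' hsd.symm
    have r2 := Leq hD hG hloc hc.1 ha.1 (mem_Dd_comm hd hc) ⟨hs.1, fun e => nds (e ▸ hc.2.2),
      (TT.commute_conj c.symm hs.2.2.symm).symm⟩ hda hs' hsd.symm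
    have e : D = Dd D d ∪ Dd D a := Set.Subset.antisymm (fun y hy => by
      rcases cov y hy with f | f | f | f
      exacts [.inl f, .inr f, .inr (r1.mem f), .inr (r2.mem f)]) (Set.union_subset (fun _ h => h.1) fun _ h => h.1)
    have cm : ∀ u ∈ closure (Dd D d), ∀ v ∈ closure (Dd D a), Commute u v := fun u hu v hv => by
      refine (closure_le (centralizer _)).2 (fun v hv u hu => ?_) hv u hu
      refine (mem_centralizer_singleton_iff.1 ((closure_le (centralizer {v})).2 (fun u hu => ?_) hu))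
      refine mem_centralizer_singleton_iff.2 ?_
      rcases (L2 hD hG hloc hd ha hb hu hab.symm).2 with rfl | rfl | rfl
      exacts [hv.2.2, (r1.symm.mem hv).2.2, (r2.symm.mem hv).2.2]
    obtain ⟨e1⟩ := (hloc d hd).1
    obtain ⟨e2⟩ := (hloc a ha.1).1
    let ψ := (closure (Dd D d)).subtype.noncommCoprod (closure (Dd D a)).subtype fun u v => cm _ u.2 _ v.2
    have i : Function.Injective ψ := (MonoidHom.noncommCoprod_injective ..).2
      ⟨subtype_injective _, subtype_injective _, by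
        rw [range_subtype, range_subtype, disjoint_def]
        intro z h1 h2
        exact congrArg Subtype.val (e1.map_eq_one_iff.1 (s3c (e1 ⟨z, h1⟩) fun g => by
          obtain ⟨g, rfl⟩ := e1.surjective g
          rw [← map_mul, ← map_mul]; exact congrArg e1 (Subtype.ext (cm _ g.2 _ h2))))⟩
    have rg : closure D = ψ.range := by
      rw [show ψ.range = _ from MonoidHom.noncommCoprod_range .., range_subtype, range_subtype, ← Subgroup.closure_union, ← e]
    exact .inr ⟨(MulEquiv.subgroupCongr rg).trans ((MonoidHom.ofInjective i).symm.trans (e1.prodCongr e2))⟩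
  obtain ⟨φ, hφ⟩ := CoxA.exists_hom (s := fun i => if i = 0 then d else if i = 1 then s else if i = 2 then a else b)
    (n := 4) ⟨fun i hi => by interval_cases i <;> simp [h.sq hd, h.sq ha.1, h.sq hb.1, h.sq hs.1], fun i hi => by
      have : i < 3 := by omega
      interval_cases i
      exacts [h.cube hd hs.1 nds, h.cube hs.1 ha.1 fun e => c e.symm, h.cube ha.1 hb.1 nab], fun i j h1 h2 => by
      obtain ⟨rfl, rfl⟩ | ⟨rfl, rfl⟩ | ⟨rfl, rfl⟩ : i = 0 ∧ j = 2 ∨ i = 0 ∧ j = 3 ∨ i = 1 ∧ j = 3 := by omega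
      · simp [ha.2.2.mul_pow, sq, h.sq hd, h.sq ha.1]
      · simp [hb.2.2.mul_pow, sq, h.sq hd, h.sq hb.1]
      · simp [hs.2.2.symm.mul_pow, sq, h.sq hs.1, h.sq hb.1]⟩
  have m0 : d ∈ φ.range := ⟨_, hφ 0⟩
  have m1 : s ∈ φ.range := ⟨_, hφ 1⟩
  have m2 : a ∈ φ.range := ⟨_, hφ 2⟩
  have m3 : b ∈ φ.range := ⟨_, hφ 3⟩
  have i : Function.Injective φ := φ.ker_eq_bot_iff.1 (by_contra fun f => by
    have := Perm.alternatingGroup_le_of_normal (N := φ.ker) (by simp) ((nontrivial_iff_ne_bot _).2 f)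
      (show adjSwap 4 0 * adjSwap 4 2 ∈ _ from sign_swap_mul_swap (by decide) (by decide))
    rw [MonoidHom.mem_ker, map_mul, hφ, hφ] at this
    exact ha.2.1 ((eq_inv_of_mul_eq_one_right this).trans (h.inv hd)))
  have rb : ∀ y ∈ Dd D b, y ∈ φ.range := fun y hy => by
    rcases (L2 hD hG hloc hb.1 hdb hs hy hsd.symm).2 with rfl | rfl | rfl
    exacts [m0, m1, mul_mem (mul_mem m0 m1) m0]
  have rc : ∀ y ∈ Dd D (a * b * a), y ∈ φ.range := fun y hy => by
    have := h.conj_Dd ha.1 hy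
    rw [h.conj_conj ha.1] at this
    exact h.conj_conj ha.1 y ▸ mul_mem (mul_mem m2 (rb _ this)) m2
  have rg : closure D = φ.range := le_antisymm ((closure_le _).2 fun y hy => by
    rcases cov y hy with f | f | f | f
    · rcases (L2 hD hG hloc hd ha hb f hab.symm).2 with rfl | rfl | rfl
      exacts [m2, m3, mul_mem (mul_mem m2 m3) m2]
    · have := h.conj_Dd hb.1 f
      rw [← h.braid ha.1 hb.1 nab] at this
      exact h.conj_conj hb.1 y ▸ mul_mem (mul_mem m3 (rc _ this)) m3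
    exacts [rb y f, rc y f]) (by
    rw [MonoidHom.range_eq_map, ← closure_adjSwap, MonoidHom.map_closure]
    refine closure_mono ?_
    rintro _ ⟨_, ⟨i, rfl⟩, rfl⟩
    rw [hφ]
    split_ifs
    exacts [hd, hs.1, ha.1, hb.1])
  exact .inl ⟨(MulEquiv.subgroupCongr rg).trans (MonoidHom.ofInjective i).symm⟩

end

/-- Let D be a non-empty conjugation-invariant set of involutions of a finite group G satisfying the 3-transposition order conditions, and suppose that for every d in D the members of D other than d commuting with d generate a subgroup isomorphic to the symmetric group of degree 3, and the largest normal 3-subgroup of the centralizer of d has order 3. Then the subgroup generated by D is isomorphic to the symmetric group of degree 5 or to the direct product of two symmetric groups of degree 3. -/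
theorem result {G : Type*} [Group G] [Finite G] {D : Set G} (hD : Cfsg.IsThreeTranspositionSet D) (hconj : ∀ g : G, ∀ d ∈ D, g * d * g⁻¹ ∈ D) (hne : D.Nonempty) (hloc : ∀ d ∈ D, Nonempty (↥(Subgroup.closure {y : G | y ∈ D ∧ y ≠ d ∧ Commute d y}) ≃* Equiv.Perm (Fin 3)) ∧ Nat.card (Cfsg.pCore 3 ↥(Subgroup.centralizer ({d} : Set G))) = 3) : Nonempty (↥(Subgroup.closure D) ≃* Equiv.Perm (Fin 5)) ∨ Nonempty (↥(Subgroup.closure D) ≃* Equiv.Perm (Fin 3) × Equiv.Perm (Fin 3)) := by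
  exact main hD hconj hloc hne

end Cfsg.Agent.S5365
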