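import Cfsg.Statements.S5366
import Cfsg.Agent.Lib.Fis.Space

set_option autoImplicit false
open Cfsg

namespace Cfsg.Agent.S5366

open Cfsg.LineSystem Cfsg.Lib.Fis

/-- Let L be a nondegenerate Fischer space on the point type X (every point on a line). Then for every point x the map t(x) — sending a point collinear with x to the third point of their common line and fixing every other point — is a permutation of X of order 2 and an automorphism of the line system; and the set of all t(x) satisfies the 3-transposition order conditions in the permutation group of X (any two have product of order at most 3). -/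
theorem result {X : Type*} (L : Set (Set X)) (hL : Cfsg.IsFischerSpace L) (hnd : Cfsg.LineSystem.IsNondegenerate L) : (∀ x : X, ∃ σ : Equiv.Perm X, ⇑σ = Cfsg.LineSystem.lineMap L x ∧ orderOf σ = 2 ∧ Cfsg.LineSystem.IsIso L L σ) ∧ Cfsg.IsThreeTranspositionSet {σ : Equiv.Perm X | ∃ x : X, ⇑σ = Cfsg.LineSystem.lineMap L x} := by
  let t : X → Equiv.Perm X := fun x => Function.Involutive.toPerm _ (lineMap_invol hL.1 hL.2.1 x)
  have ht : ∀ x y, t x y = lineMap L x y := fun _ _ => rfl
  have h1 : ∀ x, t x * t x = 1 := fun x => Equiv.ext (lineMap_invol hL.1 hL.2.1 x)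
  have h2 : ∀ x, orderOf (t x) = 2 := fun x => by
    refine orderOf_eq_prime (by rw [sq, h1]) fun e => ?_
    obtain ⟨l, hl, hx⟩ := hnd x
    obtain ⟨y, hy, k⟩ : ∃ y ∈ l, y ≠ x := Set.exists_ne_of_one_lt_ncard (by rw [hL.2.1 l hl]; omega) x
    exact (lineMap_col hL.1 hL.2.1 ⟨k.symm, l, hl, hx, hy⟩).2.1 (by rw [← ht, e]; rfl)
  have h3 : ∀ x, IsIso L L (t x) := fun x l => ⟨image_mem hL x, fun k => by
    have := image_mem hL x k
    rwa [Set.image_image, Set.image_congr (f := fun y => lineMap L x (t x y)) (g := id)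
      fun y _ => lineMap_invol hL.1 hL.2.1 x y, Set.image_id] at this⟩
  have h4 : ∀ x y, t x * t y * t x = t (t x y) := fun x y => Equiv.ext fun w => by
    have := lineMap_iso hL.1 hL.2.1 (h3 x) y (t x w)
    rw [show t x (t x w) = w from lineMap_invol hL.1 hL.2.1 x w] at this
    exact this.symm
  have h5 : ∀ σ : Equiv.Perm X, (∃ x : X, ⇑σ = lineMap L x) → ∃ x, σ = t x := fun σ ⟨x, e⟩ =>
    ⟨x, Equiv.ext fun y => congrFun e y⟩
  refine ⟨fun x => ⟨t x, rfl, h2 x, h3 x⟩, fun σ k => ?_, fun σ k τ k' => ?_⟩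
  · obtain ⟨x, rfl⟩ := h5 σ k; exact h2 x
  obtain ⟨x, rfl⟩ := h5 σ k
  obtain ⟨y, rfl⟩ := h5 τ k'
  by_cases e : Collinear L x y
  · obtain ⟨k1, k2, k3⟩ := lineMap_col hL.1 hL.2.1 e
    have e1 : t y x = t x y := lineMap_eq hL.1 k2 k1 e.1.symm (by rwa [Set.insert_comm])
    refine Or.inr ?_
    calc (t x * t y) ^ 3 = (t x * t y * t x) * (t y * t x * t y) := by simp only [pow_succ, pow_zero, one_mul, mul_assoc]
      _ = 1 := by rw [h4, h4, e1, h1]
  · refine Or.inl ?_
    rw [sq, ← mul_assoc, h4, ht, lineMap_of_not e, h1]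

end Cfsg.Agent.S5366
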