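import Cfsg.Statements.S5367
import Cfsg.Agent.Lib.Fis.Space

set_option autoImplicit false
open Cfsg

namespace Cfsg.Agent.S5367

open Cfsg.LineSystem Cfsg.Lib.Fis Cfsg.Lib.Known2

def sw (s : DualAffinePoint) : Equiv.Perm (Fin 4) :=
  if s.1 = {0, 1} then Equiv.swap 0 1 else if s.1 = {0, 2} then Equiv.swap 0 2 else if s.1 = {0, 3} then Equiv.swap 0 3
  else if s.1 = {1, 2} then Equiv.swap 1 2 else if s.1 = {1, 3} then Equiv.swap 1 3 else Equiv.swap 2 3

def W (v : Fin 2 → ZMod 3) : List ℕ := (List.replicate (v 0).val [0, 1]).flatten ++ (List.replicate (v 1).val [0, 2]).flatten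

theorem sw_op : ∀ p q, sw (opD p q) = sw q * sw p * (sw q)⁻¹ := by decide +kernel
theorem sw_inj : ∀ p q, sw p = sw q → p = q := by decide +kernel
theorem sw_conj : ∀ p, ∃ q r, sw p = sw q * sw r * Equiv.swap 0 1 * (sw q * sw r)⁻¹ := by decide +kernel
theorem genD : ∀ y : DualAffinePoint, ∃ u v, (u = ⟨{0, 1}, rfl⟩ ∨ u = ⟨{1, 2}, rfl⟩ ∨ u = opD ⟨{0, 1}, rfl⟩ ⟨{1, 2}, rfl⟩) ∧
    (v = ⟨{2, 3}, rfl⟩ ∨ v = ⟨{1, 2}, rfl⟩ ∨ v = opD ⟨{2, 3}, rfl⟩ ⟨{1, 2}, rfl⟩) ∧ y = opD u v := by decide +kernel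
theorem genA : ∀ y : Fin 2 → ZMod 3, ∃ u v, (u = ![1, 0] ∨ u = 0 ∨ u = opA ![1, 0] 0) ∧
    (v = ![0, 1] ∨ v = 0 ∨ v = opA ![0, 1] 0) ∧ y = opA u v := by
  set_option synthInstance.maxSize 1000 in decide +kernel
theorem W_op : ∀ p q, (∀ s ∈ TC.cw (W (opA p q)) 0 ++ (TC.cw (W q) 0 ++ (TC.cw (W p) 0 ++ TC.cw (W q) 0)), s < 3) ∧
    TC.tr (TC.tab 3 TC.pl_ft) (TC.cw (W (opA p q)) 0 ++ (TC.cw (W q) 0 ++ (TC.cw (W p) 0 ++ TC.cw (W q) 0))) 0 = 0 := by
  decide +kernel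
abbrev R (p q : Fin 2 → ZMod 3) : Prop := ∃ w w', (opA (opA p w) w' = 0 ∧ (opA (opA q w) w' = ![1, 0] ∨
    opA (opA q w) w' = ![0, 1])) ∨ (opA (opA p w) w' = ![1, 0] ∧ (opA (opA q w) w' = ![0, 1] ∨
    opA (opA q w) w' = opA ![0, 1] 0))
theorem sep : ∀ p q : Fin 2 → ZMod 3, p ≠ q → R p q ∨ R q p := by
  set_option synthInstance.maxSize 2000 in decide +kernel

/-- Let D be a conjugation-invariant generating set of 3-transpositions of a finite group G. Then the line system on D whose lines are the triples {x, y, y x y⁻¹} for non-commuting members x, y of D is a Fischer space: two points lie on at most one line, lines have three points, and two different meeting lines generate a subspace isomorphic to the dual affine plane of order two or to the affine plane of order three. -/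
theorem result {G : Type*} [Group G] [Finite G] {D : Set G} (hD : Cfsg.IsThreeTranspositionGroup D) : Cfsg.IsFischerSpace (Cfsg.threeTranspositionLines D) := by
  have h := TT.of_group hD
  refine ⟨fun l hl m hm x y k k1 k2 k3 k4 => (ln_eq h hl k1 k2 k).2.trans (ln_eq h hm k3 k4 k).2.symm, ?_, ?_⟩
  · rintro _ ⟨x, y, hn, rfl⟩
    refine Set.ncard_eq_three.2 ⟨x, y, ⟨y * x * (y : G)⁻¹, hD.2.1 _ _ x.2⟩, fun e => hn (e ▸ Commute.refl _),
      fun e => hn ?_, fun e => hn ?_, by ext; simp [Subtype.ext_iff]⟩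
    · exact (mul_inv_eq_iff_eq_mul.1 (congrArg Subtype.val e).symm).symm
    · rw [show (x : G) = y by simpa [mul_assoc] using (mul_inv_eq_iff_eq_mul.1 (congrArg Subtype.val e).symm)]
  intro l hl m hm hlm ⟨a, ha, ha'⟩
  have two : ∀ {x}, x ∈ l → x ∈ m → x = a := fun hx hx' => by_contra fun k =>
    hlm ((ln_eq h hl hx ha k).2.trans (ln_eq h hm hx' ha' k).2.symm)
  by_cases k : ∃ b ∈ l, ∃ c ∈ m, b ≠ a ∧ c ≠ a ∧ Commute (b : G) c
  · obtain ⟨b, hb, c, hc, k1, k2, k3⟩ := k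
    obtain ⟨n1, rfl⟩ := ln_eq h hl hb ha k1
    obtain ⟨n2, rfl⟩ := ln_eq h hm hc ha' k2
    obtain ⟨φ, hi, e1, e2, e3⟩ := Cfsg.Agent.S5344.result hD.1 b.2 a.2 c.2
      (fun e => k1 (two hb (Subtype.ext e ▸ hc))) k3 n1 fun e => n2 e.symm
    let ψ : DualAffinePoint → D := fun s => ⟨φ (sw s), by
      obtain ⟨q, r, e⟩ := sw_conj s
      rw [e, map_mul, map_mul, map_inv, e1]; exact hD.2.1 _ _ b.2⟩
    have := iso_of h modD ψ (fun p q e => sw_inj p q (hi (congrArg Subtype.val e)))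
      (fun p q => by simp only [ψ, sw_op, map_mul, map_inv]) _ _ _ genD
    rw [show ψ ⟨{0, 1}, rfl⟩ = b from Subtype.ext e1, show ψ ⟨{1, 2}, rfl⟩ = a from Subtype.ext e2,
      show ψ ⟨{2, 3}, rfl⟩ = c from Subtype.ext e3] at this
    exact Or.inl this
  have ex : ∀ {l}, l ∈ threeTranspositionLines D → ∃ b ∈ l, b ≠ a := by
    rintro _ ⟨x, y, hn, rfl⟩
    by_cases e : x = a
    · exact ⟨y, Or.inr (Or.inl rfl), fun e' => hn (by rw [e, e'])⟩
    · exact ⟨x, Or.inl rfl, e⟩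
  obtain ⟨b, hb, k1⟩ := ex hl
  obtain ⟨c, hc, k2⟩ := ex hm
  obtain ⟨n1, rfl⟩ := ln_eq h hl hb ha k1
  obtain ⟨n2, rfl⟩ := ln_eq h hm hc ha' k2
  have n1' : ¬ Commute (a : G) b := fun e => n1 e.symm
  have n2' : ¬ Commute (a : G) c := fun e => n2 e.symm
  have n3 : ¬ Commute (b : G) c := fun e => k ⟨b, hb, c, hc, k1, k2, e⟩
  have n4 : ¬ Commute (a : G) (b * c * b) := fun e => k ⟨⟨a * b * a, h.conj _ a.2 _ b.2⟩,
    Or.inr (Or.inr (by rw [h.inv a.2])), c, hc, fun e => h.not_commute_third a.2 n1' (by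
      rw [show (a : G) * b * a = a from congrArg Subtype.val e]), k2, by
      rw [Subtype.coe_mk, h.braid a.2 b.2 n1', h.commute_conj_iff' b.2]; exact e⟩
  let g : ℕ → G := fun s => [(a : G), b, c].getD s a
  have hg : ∀ s, g s ∈ D := fun s => by rcases s with _ | _ | _ | s <;> simp [g]
  have hg' : ∀ s, g s * g s = 1 := fun s => h.sq (hg s)
  let ψ : (Fin 2 → ZMod 3) → D := fun v => ⟨TC.ev g (TC.cw (W v) 0), h.cw_mem hg _ _⟩
  have hop : ∀ p q, (ψ (opA p q) : G) = ψ q * ψ p * (ψ q : G)⁻¹ := fun p q => by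
    have := TC.word_eq_one TC.pl_check (by norm_num) g (fun s _ => (h.inv (hg s)).symm) (by
      have c1 := h.cube a.2 b.2 n1'
      have c2 := h.cube a.2 c.2 n2'
      have c3 := h.cube b.2 c.2 n3
      have c4 := h.cube a.2 (h.conj _ b.2 _ c.2) n4
      simp only [TC.pl_rels, List.mem_cons, List.not_mem_nil, or_false, forall_eq_or_imp, forall_eq]
      simp only [pow_succ, pow_zero, one_mul, mul_assoc] at c1 c2 c3 c4
      simp [g, h.sq a.2, h.sq b.2, h.sq c.2, *]) _ (W_op p q).1 (W_op p q).2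
    rw [TC.ev_append, TC.ev_append, TC.ev_append] at this
    rw [h.inv (ψ q).2, ← h.inv (h.conj _ (ψ q).2 _ (ψ p).2), mul_assoc]
    exact eq_inv_of_mul_eq_one_left this
  have e0 : ψ 0 = a := Subtype.ext (by change (a : G) * 1 = a; simp)
  have e1 : ψ ![1, 0] = b := Subtype.ext (by
    change (a : G) * (b * (a * (b * (a * 1)))) = b
    rw [mul_one, ← mul_assoc (a : G) b a, h.braid a.2 b.2 n1', mul_assoc, h.cancel b.2, ← mul_assoc, h.sq a.2,
      one_mul])
  have e2 : ψ ![0, 1] = c := Subtype.ext (by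
    change (a : G) * (c * (a * (c * (a * 1)))) = c
    rw [mul_one, ← mul_assoc (a : G) c a, h.braid a.2 c.2 n2', mul_assoc, h.cancel c.2, ← mul_assoc, h.sq a.2,
      one_mul])
  have hR : ∀ p q, ψ p = ψ q → ¬ R p q := fun p q e hne => by
    have e' : ∀ w w', ψ (opA (opA p w) w') = ψ (opA (opA q w) w') := fun w w' => Subtype.ext (by
      rw [hop, hop, hop, hop, e])
    obtain ⟨w, w', ⟨f1, f2 | f2⟩ | ⟨f1, f2 | f2⟩⟩ := hne
    · exact k1 (by rw [← e0, ← e1, ← f1, ← f2, e'])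
    · exact k2 (by rw [← e0, ← e2, ← f1, ← f2, e'])
    · exact k1 (two hb (by rw [← e1, ← f1, e', f2, e2]; exact hc))
    · exact k1 (two hb (by rw [← e1, ← f1, e', f2]; exact Or.inr (Or.inr (by rw [hop, e0, e2]))))
  have := iso_of h modA ψ (fun p q e => by_contra fun k => (sep p q k).elim (hR p q e) (hR q p e.symm)) hop _ _ _ genA
  rw [e0, e1, e2] at this
  exact Or.inr this

end Cfsg.Agent.S5367
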