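import Cfsg.Statements.S5380
import Cfsg.Agent.Lib.SuzT.C3

set_option autoImplicit false
open Cfsg

namespace Cfsg.Agent.S5380

open Cfsg.Lib.SuzT Subgroup

/-- Let G be a finite group of Suzuki sporadic type (involution z with generalized Fitting subgroup Q of its centralizer C extraspecial of order 2^7, C/Q the commutator subgroup of the isometry group of the elliptic quadratic form in dimension 6 over the field with two elements, z not weakly closed in Q), and let Y be a subgroup of C of order 3 whose commutator subgroup with Q is non-abelian of order 8 (a quaternion group). Then the centralizer of Y in G is quasisimple, its quotient by Y is isomorphic to the projective special unitary group of dimension 4 over the field with nine elements, and the centralizer of Y has index 2 in the normalizer of Y. -/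
theorem result {G : Type*} [Group G] [Finite G] (z : G) (hz : orderOf z = 2) (Q : Subgroup (Subgroup.centralizer ({z} : Set G))) [Q.Normal] (hF : Cfsg.generalizedFittingSubgroup (Subgroup.centralizer ({z} : Set G)) = Q) (hQ : Cfsg.IsExtraspecial 2 Q) (hcard : Nat.card Q = 2 ^ 7) (e : (Subgroup.centralizer ({z} : Set G)) ⧸ Q ≃* Cfsg.Omega (ZMod 2) (Cfsg.quadFormMinus 2 (ZMod 2) 1 1)) (hnwc : ∃ g : G, (∃ hq : g * z * g⁻¹ ∈ Subgroup.centralizer ({z} : Set G), (⟨g * z * g⁻¹, hq⟩ : Subgroup.centralizer ({z} : Set G)) ∈ Q) ∧ g * z * g⁻¹ ≠ z) (Y : Subgroup (Subgroup.centralizer ({z} : Set G))) (hY : Nat.card Y = 3) (hQY : Nat.card ↥⁅Q, Y⁆ = 8) (hQYna : ¬ IsMulCommutative ↥⁅Q, Y⁆) [((Y.map (Subgroup.subtype (Subgroup.centralizer ({z} : Set G)))).subgroupOf (Subgroup.centralizer ((Y.map (Subgroup.subtype (Subgroup.centralizer ({z} : Set G)))) : Set G))).Normal] (K : Type) [Field K] [Fintype K] (hK : Fintype.card K = 9) : Cfsg.IsQuasisimple ↥(Subgroup.centralizer ((Y.map (Subgroup.subtype (Subgroup.centralizer ({z}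 : Set G)))) : Set G)) ∧ Nonempty (↥(Subgroup.centralizer ((Y.map (Subgroup.subtype (Subgroup.centralizer ({z} : Set G)))) : Set G)) ⧸ (Y.map (Subgroup.subtype (Subgroup.centralizer ({z} : Set G)))).subgroupOf (Subgroup.centralizer ((Y.map (Subgroup.subtype (Subgroup.centralizer ({z} : Set G)))) : Set G)) ≃* Cfsg.PSU 4 K 3) ∧ (Subgroup.centralizer ((Y.map (Subgroup.subtype (Subgroup.centralizer ({z} : Set G)))) : Set G)).relIndex (Subgroup.normalizer ((Y.map (Subgroup.subtype (Subgroup.centralizer ({z} : Set G)))) : Set G)) = 2 := by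
  obtain ⟨ι, h⟩ := sz_of hz hF hQ hcard e hnwc
  obtain ⟨y, hy⟩ := exists_prime_orderOf_dvd_card' (G := Y) 3 hY.symm.dvd
  have y3 : orderOf (y : G) = 3 := (orderOf_coe _).trans ((orderOf_coe _).trans hy)
  have eY : Y.map (centralizer ({z} : Set G)).subtype = zpowers (y : G) := (eq_of_le_of_card_ge (zpowers_le.2 (mem_map_of_mem _ y.2))
    (by rw [card_map_of_injective (subtype_injective _), hY, Nat.card_zpowers]; exact y3.ge)).symm
  obtain ⟨ι', γ, m, b, h', L, e1⟩ := h.exY (mem_centralizer_singleton_iff.1 y.1.2) y3 (B := (⁅Q, Y⁆).map (Subgroup.subtype _))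
    ((card_map_of_injective (subtype_injective _)).trans hQY) (by
      rintro _ ⟨q, hq, rfl⟩; exact ⟨_, commutator_mem_commutator hq y.2, rfl⟩)
  rw [← e1] at eY
  generalize Y.map (centralizer ({z} : Set G)).subtype = Y' at *
  subst eY
  obtain ⟨a⟩ := L.U.iso
  obtain ⟨c⟩ := Lib.U43.isoU0 hK
  exact ⟨L.qs h', ⟨a.symm.trans c⟩, L.idx h'⟩

end Cfsg.Agent.S5380
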