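import Cfsg.Statements.S5381
import Cfsg.Agent.Lib.Small.CoD3
import Cfsg.Agent.Lib.SuzT.C3

set_option autoImplicit false
open Cfsg

namespace Cfsg.Agent.S5381

open Cfsg.Lib.Forms Subgroup Cfsg.Lib.Small.Co1Z Cfsg.Lib.Known2 Cfsg.Lib.Small.CoT Cfsg.Lib.Small.CoD
  Cfsg.Lib.Leech Cfsg.Lib.Core Cfsg.Lib

section
variable {G : Type*} [Group G] [Finite G] {Q : Subgroup G} {z : G} {ν : G → V8} {a : G → D8.isom} (F : FG Q z ν a)
  (hw : ∃ g, g * z * g⁻¹ ∈ Q ∧ g * z * g⁻¹ ≠ z)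
include F hw

theorem sz {x : centralizer ({z} : Set G)} (p3 : x ^ 3 = 1) (hY : A F x = Y3)
    [((zpowers (x : G)).subgroupOf (centralizer (zpowers (x : G) : Set G))).Normal] :
    ∃ ι, SuzT.SZ (qbar _ (zpowers (x : G)) (zH x)) ((qQ Q _ (zpowers (x : G)) (zH x)).map (Subgroup.subtype _)) ι := by
  have := qn F Nat.prime_three (by norm_num) p3
  obtain ⟨⟨a1, a2, a3, a4, a5⟩, ⟨e⟩⟩ := odd F Nat.prime_three (by norm_num) p3 (by rw [hY]; exact N3) hw pc6 (w := 3)
    (by simp)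
  exact SuzT.sz_of a1 a2 a3 a4 (e.trans (omegaIso D6 rfl).symm) a5

theorem mem_comm {x : centralizer ({z} : Set G)} (p3 : x ^ 3 = 1) (hY : A F x = Y3) {B : Subgroup G} (hB : B ≤ Q)
    (c : Nat.card B = 8) (hc : ∀ q ∈ Q, q * x * q⁻¹ * (x : G)⁻¹ ∈ B) (hr : ∀ b ∈ B, ∃ w, ν b = Y3.1 w + w) :
    (x : G) ∈ ⁅centralizer (zpowers (x : G) : Set G), centralizer (zpowers (x : G) : Set G)⁆ := by
  obtain ⟨y, b1, b2, b3, b4⟩ := exZ F p3 hY
  obtain ⟨g, hg⟩ := Z3_conj
  have : ((zpowers (y : G)).subgroupOf (centralizer (zpowers (y : G) : Set G))).Normal :=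
    ⟨fun n hn h => by rw [mem_subgroupOf, coe_mul, coe_mul, ← h.2 n hn, coe_inv, mul_inv_cancel_right]; exact hn⟩
  obtain ⟨ι, h⟩ := sz (tw F g) hw b1 (by rw [A_tw F, b2, hg])
  have hx := mcz.2 b3
  have hB' : B ≤ centralizer (zpowers (y : G) : Set G) := fun b hb => mcz.2 ((fix_iff F Nat.prime_three (by norm_num) b1
    (hB hb)).2 (by
      obtain ⟨w, e⟩ := hr b hb
      rw [e, b2, Z3_eq, Y3_eq]; clear e; revert w; decide +kernel))
  have := Fact.mk Nat.prime_three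
  obtain ⟨ι', γ, m, b, h', L, e1⟩ := h.exY (y := qbar _ (zpowers (y : G)) hx)
    (congrArg (QuotientGroup.mk (s := (zpowers (y : G)).subgroupOf _)) (Subtype.ext (mem_cent_single.1 x.2) :
      (⟨x, hx⟩ * ⟨z, zH y⟩ : centralizer (zpowers (y : G) : Set G)) = ⟨z, zH y⟩ * ⟨x, hx⟩))
    (orderOf_eq_prime (congrArg (QuotientGroup.mk (s := (zpowers (y : G)).subgroupOf _))
      (Subtype.ext (congrArg Subtype.val p3 :) : (⟨x, hx⟩ : centralizer (zpowers (y : G) : Set G)) ^ 3 = 1)) fun e => by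
        obtain ⟨n, e⟩ := (QuotientGroup.eq_one_iff _).1 e
        have := zpow_mem (K := D8.fix (Submodule.span _ {vv 68})) (x := A F y) (fun w hw => by
          obtain ⟨c, rfl⟩ := Submodule.mem_span_singleton.1 hw
          rw [map_smul, b2, Z3_eq]; congr 1; decide +kernel) n _ (Submodule.mem_span_singleton_self _)
        rw [← map_zpow, show y ^ n = x from Subtype.ext e, hY, Y3_eq] at this
        revert this; decide +kernel)
    (B := (B.subgroupOf _).map (QuotientGroup.mk' _)) (by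
      have := card_map_mul_card_inf_ker (QuotientGroup.mk' ((zpowers (y : G)).subgroupOf _))
        (B.subgroupOf (centralizer (zpowers (y : G) : Set G)))
      rwa [QuotientGroup.ker_mk', (Subgroup.eq_bot_iff_forall ((zpowers (y : G)).subgroupOf _ ⊓ B.subgroupOf _)).2 fun k hk =>
        Subtype.ext (inf_one F Nat.prime_three (by norm_num) (congrArg Subtype.val b1) hk.1 (hB hk.2)), card_bot, mul_one,
        card_subgroupOf_of_le hB', c] at this) (by
      rintro _ ⟨_, ⟨q, hq, rfl⟩, rfl⟩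
      exact ⟨⟨q, q.2.1⟩ * ⟨x, hx⟩ * ⟨q, q.2.1⟩⁻¹ * ⟨x, hx⟩⁻¹, hc q hq, rfl⟩)
  exact perf hx (e1 ▸ (L.qs h').1) b4

end

/-- Let G be a finite group of Conway type (involution z with generalized Fitting subgroup Q of its centralizer C extraspecial of order 2^9, C/Q the commutator subgroup of the isometry group of the hyperbolic quadratic form in dimension 8 over the field with two elements, z not weakly closed in Q), and let X be a subgroup of C of order 3 whose commutator subgroup with Q is non-abelian of order 8, contained in an elementary abelian subgroup Y of C of order 9 whose centralizer in Q is extraspecial of order 32 containing an elementary abelian subgroup of order 8. Then the centralizer of X in G is quasisimple and its quotient by X is isomorphic to the presented sporadic Suzuki group. -/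
theorem result {G : Type*} [Group G] [Finite G] (z : G) (hz : orderOf z = 2) (Q : Subgroup (Subgroup.centralizer ({z} : Set G))) [Q.Normal] (hF : Cfsg.generalizedFittingSubgroup (Subgroup.centralizer ({z} : Set G)) = Q) (hQ : Cfsg.IsExtraspecial 2 Q) (hcard : Nat.card Q = 2 ^ 9) (e : (Subgroup.centralizer ({z} : Set G)) ⧸ Q ≃* Cfsg.Omega (ZMod 2) (Cfsg.quadFormPlus 4 (ZMod 2))) (hnwc : ∃ g : G, (∃ hq : g * z * g⁻¹ ∈ Subgroup.centralizer ({z} : Set G), (⟨g * z * g⁻¹, hq⟩ : Subgroup.centralizer ({z} : Set G)) ∈ Q) ∧ g * z * g⁻¹ ≠ z) (X : Subgroup (Subgroup.centralizer ({z} : Set G))) (hX : Nat.card X = 3) (hQX : Nat.card ↥⁅Q, X⁆ = 8) (hQXna : ¬ IsMulCommutative ↥⁅Q, X⁆) (Y₉ : Subgroup (Subgroup.centralizer ({z} : Set G))) (hXY : X ≤ Y₉) (hY₉ : Nat.card Y₉ = 9) (hY₉e : ∀ y ∈ Y₉, y ^ 3 = 1) (hCQ₉ : Cfsg.IsExtraspecial 2 ↥(Q ⊓ Subgroup.centralizer (Y₉ : Set (Subgroup.centralizer ({z} : Set G))))) (hCQ₉c : Nat.card ↥(Q ⊓ Subgroup.centralizer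 (Y₉ : Set (Subgroup.centralizer ({z} : Set G)))) = 32) (hCQ₉p : ∃ A : Subgroup (Subgroup.centralizer ({z} : Set G)), A ≤ Q ⊓ Subgroup.centralizer (Y₉ : Set (Subgroup.centralizer ({z} : Set G))) ∧ Cfsg.IsElementaryAbelian 2 A ∧ Nat.card A = 8) [((X.map (Subgroup.subtype (Subgroup.centralizer ({z} : Set G)))).subgroupOf (Subgroup.centralizer ((X.map (Subgroup.subtype (Subgroup.centralizer ({z} : Set G)))) : Set G))).Normal] : Cfsg.IsQuasisimple ↥(Subgroup.centralizer ((X.map (Subgroup.subtype (Subgroup.centralizer ({z} : Set G)))) : Set G)) ∧ Cfsg.Spor.IsoSuz (↥(Subgroup.centralizer ((X.map (Subgroup.subtype (Subgroup.centralizer ({z} : Set G)))) : Set G)) ⧸ (X.map (Subgroup.subtype (Subgroup.centralizer ({z} : Set G)))).subgroupOf (Subgroup.centralizer ((X.map (Subgroup.subtype (Subgroup.centralizer ({z} : Set G)))) : Set G))) := by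
  obtain ⟨ν, a, F⟩ := exF (XT.of hz hF hQ hcard (e.trans (omegaIso D8 fPlus_Q)))
  have hw : ∃ g, g * z * g⁻¹ ∈ Q.map (Subgroup.subtype _) ∧ g * z * g⁻¹ ≠ z :=
    let ⟨g, ⟨h1, h2⟩, h3⟩ := hnwc; ⟨g, ⟨_, h2, rfl⟩, h3⟩
  have := Fact.mk Nat.prime_three
  obtain ⟨⟨x, hx⟩, h3⟩ := exists_prime_orderOf_dvd_card' (G := X) 3 hX.symm.dvd
  replace h3 : orderOf x = 3 := (orderOf_coe _).trans h3
  have eX : X.map (centralizer ({z} : Set G)).subtype = zpowers (x : G) := (eq_of_le_of_card_ge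
    (zpowers_le.2 (mem_map_of_mem _ hx)) (by rw [card_subtype, hX, Nat.card_zpowers]; exact ((orderOf_coe _).trans h3).ge)).symm
  have hB : ⁅Q, X⁆.map (centralizer ({z} : Set G)).subtype ≤ Q.map (Subgroup.subtype _) :=
    map_mono (commutator_le_left _ _)
  have c : Nat.card (⁅Q, X⁆.map (centralizer ({z} : Set G)).subtype) = 8 := by rw [card_subtype, hQX]
  have hc : ∀ q ∈ Q.map (Subgroup.subtype _), q * x * q⁻¹ * (x : G)⁻¹ ∈ ⁅Q, X⁆.map (centralizer ({z} : Set G)).subtype := by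
    rintro _ ⟨q, hq, rfl⟩; exact ⟨_, commutator_mem_commutator hq hx, rfl⟩
  obtain ⟨⟨g, hg⟩, hr⟩ := n3 F h3 hB c (by
    by_contra hn
    push Not at hn
    exact hQXna ⟨⟨fun s t => Subtype.ext (Subtype.ext (hn _ ⟨_, s.2, rfl⟩ _ ⟨_, t.2, rfl⟩))⟩⟩) hc
  generalize X.map (centralizer ({z} : Set G)).subtype = X' at *
  subst eX
  have p3 : x ^ 3 = 1 := h3 ▸ pow_orderOf_eq_one x
  obtain ⟨ι, h⟩ := sz (tw F g) hw p3 hg
  obtain ⟨γ, m, b, L⟩ := h.l3
  obtain ⟨i⟩ := L.iso h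
  have hm := mem_comm (tw F g) hw p3 hg hB c hc fun b hb => let ⟨w, e⟩ := hr b hb; ⟨g.1 w, by
    rw [e, map_add, ← hg]; simp⟩
  have := Comp.Suz.main.1
  have := i.isSimpleGroup
  have hX := Layer.isQuasisimple_of_isSimpleGroup fun hc => let ⟨g, _, e⟩ := h.nwc; e (by
    rw [hc.is_comm.comm g, mul_inv_cancel_right])
  refine ⟨Layer.isQuasisimple_of_ker_le_center (Group.isPerfect_def.2 (eq_top_iff.2 fun k _ => ?_)) _
    (QuotientGroup.mk'_surjective _) (fun k hk => mem_center_iff.2 fun l => Subtype.ext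
      (l.2 k ((QuotientGroup.eq_one_iff k).1 hk)).symm) hX, ⟨i⟩⟩
  obtain ⟨d, hd, e⟩ : QuotientGroup.mk' _ k ∈ (_root_.commutator _).map
      (QuotientGroup.mk' ((zpowers (x : G)).subgroupOf _)) := by
    rw [map_commutator_eq, MonoidHom.range_eq_top.2 (QuotientGroup.mk'_surjective _)]; exact hX.1.mem_commutator
  rw [← map_subtype_commutator] at hm
  exact (mul_mem_cancel_left (inv_mem hd)).1 ((mem_map_iff_mem (subtype_injective _)).1
    (zpowers_le.2 hm ((QuotientGroup.eq (s := (zpowers (x : G)).subgroupOf _)).1 e)))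

end Cfsg.Agent.S5381
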