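import Cfsg.Statements.S5387
import Cfsg.Agent.S2088
import Cfsg.Agent.Lib.MatB.Uniq

set_option autoImplicit false
open Cfsg

namespace Cfsg.Agent.S5387

open Cfsg.Lib.MatB

theorem idx : (powMonoidHom 2 : Multiplicative (ZMod 3 × ZMod 4 × ZMod 4) →* _).range.index ≤ 4 := by
  rw [Subgroup.index_range, Nat.card_eq_fintype_card]
  decide


/-- Up to isomorphism there is at most one quasisimple group whose centre is elementary abelian of order 4 and whose central quotient is isomorphic to the projective special linear group of dimension 3 over the field with four elements: any two such groups are isomorphic. -/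
theorem result {L₁ L₂ : Type*} [Group L₁] [Finite L₁] [Group L₂] [Finite L₂] (F : Type) [Field F] [Fintype F] (hF : Fintype.card F = 4) (h₁ : Cfsg.IsQuasisimple L₁) (h₂ : Cfsg.IsQuasisimple L₂) (hc₁ : Nat.card (Subgroup.center L₁) = 4) (hc₂ : Nat.card (Subgroup.center L₂) = 4) (he₁ : ∀ x ∈ Subgroup.center L₁, x * x = 1) (he₂ : ∀ x ∈ Subgroup.center L₂, x * x = 1) (e₁ : L₁ ⧸ Subgroup.center L₁ ≃* Matrix.ProjectiveSpecialLinearGroup (Fin 3) F) (e₂ : L₂ ⧸ Subgroup.center L₂ ≃* Matrix.ProjectiveSpecialLinearGroup (Fin 3) F) : Nonempty (L₁ ≃* L₂) := by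
  have k₁ : (e₁.toMonoidHom.comp (QuotientGroup.mk' _)).ker = Subgroup.center L₁ := by ext; simp
  have k₂ : (e₂.toMonoidHom.comp (QuotientGroup.mk' _)).ker = Subgroup.center L₂ := by ext; simp
  obtain ⟨e, -⟩ := stem_unique (S2088.result hF) (e₁.surjective.comp (QuotientGroup.mk'_surjective _) :
      Function.Surjective (e₁.toMonoidHom.comp (QuotientGroup.mk' _))) (e₂.surjective.comp (QuotientGroup.mk'_surjective _) :
      Function.Surjective (e₂.toMonoidHom.comp (QuotientGroup.mk' _))) k₁.le k₂.le h₁.1.commutator_eq_top h₂.1.commutator_eq_top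
    (p := 2) (n := 4) (fun x hx => by rw [pow_two, he₁ x (k₁ ▸ hx)]) (fun x hx => by rw [pow_two, he₂ x (k₂ ▸ hx)])
    (by rw [k₁, hc₁]) (by rw [k₂, hc₂]) idx
  exact ⟨e⟩

end Cfsg.Agent.S5387
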