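import Cfsg.Statements.S5389
import Cfsg.Agent.Lib.Small.CoS2
import Cfsg.Agent.S1719
import Cfsg.Agent.Lib.Comp.Suz.Main
-- import your own Cfsg.Agent.* helpers here

set_option autoImplicit false
open Cfsg

namespace Cfsg.Agent.S5389

open Cfsg.Lib.Small Cfsg.Lib.Leech Subgroup

/-- A simple section of the automorphism group of the Leech lattice satisfying the Suzuki-sporadic-type hypothesis (the group so obtained is the sporadic Suzuki group; that identification is not part of this statement): there is a subgroup A of order 3 of that automorphism group such that the centralizer of A modulo the subgroup generated by A and the centre of the automorphism group is a non-abelian simple group satisfying the large extraspecial hypothesis of minus type in dimension 6 — an involution whose centralizer has extraspecial generalized Fitting subgroup of order 2^7 with quotient the commutator subgroup of the isometry group of the elliptic quadratic form in dimension 6 over the field with two elements,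 the involution not weakly closed in that extraspecial group. -/
theorem result : ∃ A : Subgroup ↥Cfsg.Co0, Nat.card A = 3 ∧ ∃ (hn : ((A ⊔ Subgroup.center ↥Cfsg.Co0).subgroupOf (Subgroup.centralizer (A : Set ↥Cfsg.Co0))).Normal), ∃ (S : Type) (_ : Group S) (_ : Finite S), Nonempty (S ≃* ↥(Subgroup.centralizer (A : Set ↥Cfsg.Co0)) ⧸ (A ⊔ Subgroup.center ↥Cfsg.Co0).subgroupOf (Subgroup.centralizer (A : Set ↥Cfsg.Co0))) ∧ IsSimpleGroup S ∧ ¬ IsMulCommutative S ∧ ∃ z : S, orderOf z = 2 ∧ ∃ (Q : Subgroup (Subgroup.centralizer ({z} : Set S))) (_ : Q.Normal), Cfsg.generalizedFittingSubgroup (Subgroup.centralizer ({z} : Set S)) = Q ∧ Cfsg.IsExtraspecial 2 Q ∧ Nat.card Q = 2 ^ 7 ∧ Nonempty ((Subgroup.centralizer ({z} : Set S)) ⧸ Q ≃* Cfsg.Omega (ZMod 2) (Cfsg.quadFormMinus 2 (ZMod 2) 1 1)) ∧ ∃ g : S, (∃ hq : g * z * g⁻¹ ∈ Subgroup.centralizer ({z} : Set S), (⟨g * z * g⁻¹, hq⟩ : Subgroup.centralizer ({z} : Set S)) ∈ Q) ∧ g * z * g⁻¹ ≠ z := by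
  obtain ⟨b, hb, h⟩ := CoS.exists_b3
  have hn : ((zpowers (mk1 b)).subgroupOf (centralizer (zpowers (mk1 b) : Set Spor.Co1))).Normal :=
    ⟨fun n hn g => mem_subgroupOf.2 ((Lib.Known2.conj_eq_of_comm (g.2 n hn).symm).symm ▸ hn :
      g.1 * n.1 * g.1⁻¹ ∈ zpowers (mk1 b))⟩
  obtain ⟨z, R, h1, _, h2, h3, h4, ⟨e⟩, h5⟩ := h
  obtain ⟨hm, he⟩ := CoS.transfer (p := 3) (by decide) (hb ▸ pow_orderOf_eq_one b)
  obtain ⟨f⟩ := Cfsg.Agent.S1719.result z h1 R h2 h3 h4 e h5
  have := Lib.Comp.Suz.main.1
  have s := f.isSimpleGroup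
  refine ⟨zpowers b, (Nat.card_zpowers b).trans hb, hm, _, inferInstance, inferInstance, he, s, fun c => ?_,
    z, h1, R, _, h2, h3, h4, ⟨e⟩, h5⟩
  obtain ⟨g, -, hg⟩ := h5
  exact hg (by rw [c.is_comm.comm g z, mul_inv_cancel_right])

end Cfsg.Agent.S5389
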