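import Cfsg.Statements.S5392
import Cfsg.Agent.Lib.Leech.Quad

set_option autoImplicit false
open Cfsg

namespace Cfsg.Agent.S5392

open Cfsg.Lib.Leech

/-- The Leech lattice modulo twice itself is a faithful irreducible module for the first Conway group: an automorphism of the rank-24 lattice built from the length-24 code that moves every lattice vector only by twice a lattice vector lies in the centre of the automorphism group (the centre consists of ±1, which act trivially there, so the kernel is exactly the centre), and an additive subgroup lying between twice the lattice and the lattice that is invariant under all lattice automorphisms is one of the two. -/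
theorem result : (∀ g : ↥Cfsg.Co0, (∀ v : ↥Cfsg.leechLattice, ∃ w : ↥Cfsg.leechLattice, ((g • v : ↥Cfsg.leechLattice) : Cfsg.GolayPt → ℤ) - (v : Cfsg.GolayPt → ℤ) = 2 • (w : Cfsg.GolayPt → ℤ)) → g ∈ Subgroup.center ↥Cfsg.Co0) ∧ ∀ M : AddSubgroup (Cfsg.GolayPt → ℤ), (∀ v ∈ Cfsg.leechLattice, (2 : ℤ) • v ∈ M) → M ≤ Cfsg.leechLattice → (∀ g : ↥Cfsg.Co0, ∀ v : ↥Cfsg.leechLattice, (v : Cfsg.GolayPt → ℤ) ∈ M → ((g • v : ↥Cfsg.leechLattice) : Cfsg.GolayPt → ℤ) ∈ M) → (∀ x ∈ M, ∃ w ∈ Cfsg.leechLattice, x = (2 : ℤ) • w) ∨ M = Cfsg.leechLattice := by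
  constructor
  · intro g hg
    refine mem_center_iff.2 (eq_of_triv_mod_two fun v => ?_)
    obtain ⟨w, hw⟩ := hg v
    exact ⟨w, Subtype.ext hw⟩
  · intro M h2 hle hinv
    by_cases h : ∃ v ∈ M.addSubgroupOf Cfsg.leechLattice, ∀ z, v ≠ z + z
    · right
      have := eq_top_of_inv (M := M.addSubgroupOf Cfsg.leechLattice) (fun g v hv => hinv g v hv)
        (fun z => by
          have := h2 z z.2
          rw [two_smul] at this
          exact this) h
      exact le_antisymm hle (AddSubgroup.addSubgroupOf_eq_top.1 this)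
    · left
      push Not at h
      intro x hx
      obtain ⟨z, hz⟩ := h ⟨x, hle hx⟩ hx
      exact ⟨z, z.2, by rw [two_smul]; exact congrArg Subtype.val hz⟩

end Cfsg.Agent.S5392
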