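import Cfsg.Statements.S5394
import Cfsg.Agent.Lib.Golay.Cls

set_option autoImplicit false
open Cfsg

namespace Cfsg.Agent.S5394

open Cfsg.Lib.Golay
open scoped Pointwise
set_option maxRecDepth 100000
set_option linter.unusedSimpArgs false

/-- The automorphism group of the length-24 code built from the squares modulo 23 has exactly two conjugacy classes of involutions: an involution either fixes exactly the eight points of an octad or has no fixed points, both kinds occur, and any two involutions of the same kind are conjugate in the group. -/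
theorem result : (∀ g ∈ Cfsg.M24, orderOf g = 2 → (Finset.univ.filter fun p => g p = p) ∈ Cfsg.octads ∨ ∀ p, g p ≠ p) ∧ (∃ g ∈ Cfsg.M24, orderOf g = 2 ∧ (Finset.univ.filter fun p => g p = p) ∈ Cfsg.octads) ∧ (∃ g ∈ Cfsg.M24, orderOf g = 2 ∧ ∀ p, g p ≠ p) ∧ ∀ g ∈ Cfsg.M24, ∀ h ∈ Cfsg.M24, orderOf g = 2 → orderOf h = 2 → ((∀ p, g p ≠ p) ↔ (∀ p, h p ≠ p)) → ∃ k ∈ Cfsg.M24, k * g * k⁻¹ = h := by

  have hB : ∀ k : Equiv.Perm GolayPt, ∀ p, (k * gc.dec z2B * k⁻¹) p ≠ p := fun k =>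
    card_fix_eq_zero.mp (card_fix_conj k fix_z2B)
  refine ⟨fun g hg h => (M24_invol hg h).imp ?_ ?_, ⟨_, inH_z2A.2, orderOf_z2A, fix_z2A ▸ O0_mem⟩,
    ⟨_, inH_z2B.2, orderOf_z2B, by simpa using hB 1⟩, fun g hg h hh h1 h2 e => ?_⟩
  · rintro ⟨k, hk, rfl⟩
    rw [filter_fix_conj, fix_z2A, smul_mem_octads_iff hk]; exact O0_mem
  · rintro ⟨k, hk, rfl⟩; exact hB k
  by_cases h0 : ∀ p, g p ≠ p
  · obtain ⟨k, hk, rfl⟩ := std_2B hg h1 h0
    obtain ⟨l, hl, rfl⟩ := std_2B hh h2 (e.mp h0)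
    exact ⟨l * k⁻¹, mul_mem hl (inv_mem hk), by group⟩
  · obtain ⟨k, hk, rfl⟩ := std_2A hg h1 (card_fix_eq_zero.not.mpr h0)
    obtain ⟨l, hl, rfl⟩ := std_2A hh h2 (card_fix_eq_zero.not.mpr (e.not.mp h0))
    exact ⟨l * k⁻¹, mul_mem hl (inv_mem hk), by group⟩

end Cfsg.Agent.S5394
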