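import Cfsg.Statements.S5395
import Cfsg.Agent.Lib.PGrp.Extra

set_option autoImplicit false
open Cfsg

namespace Cfsg.Agent.S5395
open Cfsg.Lib.PGrp Subgroup

/-- For a finite extraspecial 2-group E, an automorphism of E that induces the identity on E modulo its centre is inner (so these automorphisms form exactly the inner automorphism group, an elementary abelian 2-group of order |E|/2). -/
theorem result {E : Type*} [Group E] [Finite E] (hE : Cfsg.IsExtraspecial 2 E) (φ : E ≃* E) (hφ : ∀ x : E, φ x * x⁻¹ ∈ Subgroup.center E) : ∃ g : E, ∀ x : E, φ x = g * x * g⁻¹ := by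
  have : Fact (Nat.Prime 2) := ⟨Nat.prime_two⟩
  obtain ⟨V, _, _, _, M, m, hN, hm⟩ := Cfsg.Lib.PGrp.IsExtraspecial.exists_cExt hE
  haveI : Nontrivial V := Module.nontrivial_of_finrank_pos (R := ZMod 2) (by omega)
  refine M.exists_conj_eq' hN φ.toMonoidHom fun x => ?_
  have : M.pr (φ x * x⁻¹) = 0 := M.pr_eq_zero'.2 (M.nondeg_iff.1 hN ▸ hφ x)
  rw [M.pr_mul, M.pr_inv, add_neg_eq_zero] at this
  exact this

end Cfsg.Agent.S5395
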