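import Cfsg.Statements.S5396
import Cfsg.Agent.Lib.PGrp.Extra

set_option autoImplicit false
open Cfsg

namespace Cfsg.Agent.S5396

open Cfsg.Lib.PGrp Cfsg.Lib.Forms Subgroup
open scoped commutatorElement

/-- For every n ≥ 1 there exist finite extraspecial 2-groups of order 2^(2n+1) whose 2-rank (the largest rank of an elementary abelian subgroup) is n, and ones whose 2-rank is n + 1 (so for each such order there are two non-isomorphic extraspecial 2-groups, told apart by their 2-rank). -/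
theorem result (n : ℕ) (hn : 1 ≤ n) : ∀ r ∈ ({n, n + 1} : Set ℕ), ∃ (E : Type) (_ : Group E) (_ : Finite E), Cfsg.IsExtraspecial 2 E ∧ Nat.card E = 2 ^ (2 * n + 1) ∧ sSup {k : ℕ | ∃ A : Subgroup E, Cfsg.IsElementaryAbelian 2 A ∧ Nat.card A = 2 ^ k} = r := by
  obtain ⟨m, rfl⟩ : ∃ m, n = m + 1 := ⟨n - 1, by omega⟩
  have key : ∀ (V : Type) [AddCommGroup V] [Module (ZMod 2) V] [Finite V] (D : Form (quadKind (ZMod 2)) V) (r : ℕ),
      D.Nondeg → Module.finrank (ZMod 2) V = 2 * (m + 1) → D.HasTS r → ¬ D.HasTS (r + 1) →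
      ∃ (E : Type) (_ : Group E) (_ : Finite E), Cfsg.IsExtraspecial 2 E ∧ Nat.card E = 2 ^ (2 * (m + 1) + 1) ∧
        sSup {k : ℕ | ∃ A : Subgroup E, Cfsg.IsElementaryAbelian 2 A ∧ Nat.card A = 2 ^ k} = r + 1 := by
    intro V _ _ _ D r hD hm h1 h2
    obtain ⟨E, _, _, M, hM, -⟩ := exists_cExt_of_quad D
    haveI : Nontrivial V := Module.nontrivial_of_finrank_pos (R := ZMod 2) (by omega)
    refine ⟨E, _, ‹_›, M.isExtraspecial (hM.symm.nondeg hD), hm ▸ M.card_eq_pow, IsGreatest.csSup_eq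
      ⟨not_pRankLE_iff.1 (M.hasTS_iff.1 (hM.hasTS_iff.2 h1)), fun k ⟨A, hA, hk⟩ => ?_⟩⟩
    have := not_not.1 (mt M.hasTS_iff.2 (mt hM.hasTS_iff.1 h2)) A hA.1 hA.2
    rwa [hk, Nat.pow_le_pow_iff_right one_lt_two] at this
  rintro r (rfl | rfl)
  · have h := fMinus_nondeg (F := ZMod 2) m (a := 1) (b := 1) (by decide)
    exact key _ _ m h (finrank_minus m) (Quad.hasTS_pred h (by rw [finrank_minus]; omega))
      (fMinus_not_hasTS m (by decide))
  · exact key _ _ _ (fPlus_nondeg _) (finrank_plus _) (fPlus_hasTS _) fun h => by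
      have := Form.HasTS.two_mul_le (fPlus_nondeg _) h
      rw [finrank_plus] at this
      omega

end Cfsg.Agent.S5396
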