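import Cfsg.Statements.S5400
import Cfsg.Agent.Lib.Fi.C24q

set_option autoImplicit false
open Cfsg

namespace Cfsg.Agent.S5400

open Cfsg.Lib.Fi

/-- Let G be a finite group with trivial centre generated by a conjugation-invariant set D of 3-transpositions on which it acts primitively, such that for some d in D the subgroup generated by the members of D other than d commuting with d has central largest normal 2- and 3-subgroups, and suppose G with D is of type M(24). Then G has exactly 4 conjugacy classes of involutions: every involution is a product of m distinct pairwise commuting members of D for some m between 1 and 4; for each such m these products form one non-empty conjugacy class; and the value of m is determined by the involution. -/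
theorem result {G : Type*} [Group G] [Finite G] {D : Set G} (hD : Cfsg.IsThreeTranspositionGroup D) (hprim : Cfsg.IsPrimitiveUnderConj D) (d : G) (hd : d ∈ D) (h3 : Cfsg.pCore 3 ↥(Subgroup.closure {y : G | y ∈ D ∧ y ≠ d ∧ Commute d y}) ≤ Subgroup.center ↥(Subgroup.closure {y : G | y ∈ D ∧ y ≠ d ∧ Commute d y})) (h2 : Cfsg.pCore 2 ↥(Subgroup.closure {y : G | y ∈ D ∧ y ≠ d ∧ Commute d y}) ≤ Subgroup.center ↥(Subgroup.closure {y : G | y ∈ D ∧ y ≠ d ∧ Commute d y})) (ht : Cfsg.IsOfTypeM24 G D) : (∀ x : G, orderOf x = 2 → ∃ m : ℕ, 1 ≤ m ∧ m ≤ 4 ∧ (∃ l : List G, l.Nodup ∧ l.length = m ∧ (∀ a ∈ l, a ∈ D) ∧ (∀ a ∈ l, ∀ b ∈ l, Commute a b) ∧ l.prod = x)) ∧ (∀ m : ℕ, 1 ≤ m → m ≤ 4 → (∃ x : G, orderOf x = 2 ∧ (∃ l : List G, l.Nodup ∧ l.length = m ∧ (∀ a ∈ l, a ∈ D) ∧ (∀ a ∈ l, ∀ b ∈ l, Commute a b) ∧ l.prod = x)) ∧ ∀ x y : G, (∃ l : List G, l.Nodup ∧ l.length =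 m ∧ (∀ a ∈ l, a ∈ D) ∧ (∀ a ∈ l, ∀ b ∈ l, Commute a b) ∧ l.prod = x) → (∃ l : List G, l.Nodup ∧ l.length = m ∧ (∀ a ∈ l, a ∈ D) ∧ (∀ a ∈ l, ∀ b ∈ l, Commute a b) ∧ l.prod = y) → IsConj x y) ∧ ∀ (m m' : ℕ) (x : G), 1 ≤ m → m ≤ 4 → 1 ≤ m' → m' ≤ 4 → (∃ l : List G, l.Nodup ∧ l.length = m ∧ (∀ a ∈ l, a ∈ D) ∧ (∀ a ∈ l, ∀ b ∈ l, Commute a b) ∧ l.prod = x) → (∃ l : List G, l.Nodup ∧ l.length = m' ∧ (∀ a ∈ l, a ∈ D) ∧ (∀ a ∈ l, ∀ b ∈ l, Commute a b) ∧ l.prod = x) → m = m' := by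
  obtain ⟨S, rfl⟩ := s24 hD hprim ht
  have f1 := S.a_fx
  have f2 := B24.j2_fx S.M
  have f3 := B24.j3_fx S.M
  have f4 := B24.j4_fx S.M
  refine S.M.invol_classes (fun m => [1, S.a, S.M.v B24.j2, S.M.v B24.j3, S.M.v B24.j4].getD m 1)
    (fun m => [[], [S.a], [S.a, S.b], [S.a, S.b, S.c], [S.a, S.b, S.c, S.d]].getD m []) (fun m a b => ?_)
    (fun m m' a b c => ?_) fun x hx => ?_
  · interval_cases m
    exacts [⟨S.M.fac1 _, S.M.ft1 _, S.ord (S.M.v_mem_D _)⟩,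
      ⟨S.M.fac2 B24.j2_fac, S.M.ft2 B24.t2, S.M.ord Nat.prime_two B24.j2_ord⟩,
      ⟨S.M.fac3 B24.j3_fac, S.M.ft3 B24.t2 B24.t3, S.M.ord Nat.prime_two B24.j3_ord⟩,
      ⟨S.M.fac4 B24.j4_fac, S.M.ft4 B24.t2 B24.t3 B24.t4, S.M.ord Nat.prime_two B24.j4_ord⟩]
  · obtain ⟨rfl, rfl⟩ | ⟨rfl, rfl⟩ | ⟨rfl, rfl⟩ | ⟨rfl, rfl⟩ | ⟨rfl, rfl⟩ | ⟨rfl, rfl⟩ : (m = 1 ∧ m' = 2) ∨ (m = 1 ∧ m' = 3) ∨
      (m = 1 ∧ m' = 4) ∨ (m = 2 ∧ m' = 3) ∨ (m = 2 ∧ m' = 4) ∨ (m = 3 ∧ m' = 4) := by omega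
    exacts [S.M.not_conj_pc f1 f2 B24.ne12, S.M.not_conj_pc f1 f3 B24.ne13, S.M.not_conj_pc f1 f4 B24.ne14,
      S.M.not_conj_pc f2 f3 B24.ne23, S.M.not_conj_pc f2 f4 B24.ne24, S.M.not_conj_pc f3 f4 B24.ne34]
  · rcases S.invol hx with h | h | h | h
    exacts [⟨1, le_rfl, by norm_num, h.symm⟩, ⟨2, by norm_num, by norm_num, h.symm⟩, ⟨3, by norm_num, by norm_num, h.symm⟩,
      ⟨4, by norm_num, le_rfl, h.symm⟩]

end Cfsg.Agent.S5400
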