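import Cfsg.Statements.S5403
import Cfsg.Agent.Lib.Small.CoJq
import Cfsg.Agent.Lib.Small.CoJ
import Cfsg.Agent.Lib.JT.Main

set_option autoImplicit false
open Cfsg

namespace Cfsg.Agent.S5403

open Cfsg.Lib Cfsg.Lib.Leech Cfsg.Spor Cfsg.Lib.Forms Subgroup Cfsg.Lib.Small Cfsg.Lib.Small.Co1Z
  Cfsg.Lib.Small.CoT Cfsg.Lib.Small.CoD Cfsg.Lib.Small.CoJq Cfsg.Lib.Small.CoU

theorem simple_of {G : Type} [Group G] [Finite G] {φ : JT.HH false →* G} (h : JT.JT φ) :
    IsSimpleGroup G := by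
  by_cases a : IsConj (φ JT.z0) (φ JT.a0)
  · obtain ⟨F, _, _, ω, hF, hω, ⟨e⟩⟩ := JT.isoJ3 h a
    have := (Cfsg.Agent.S1625.result F hF ω hω).2.2.2
    exact e.isSimpleGroup
  · obtain ⟨e⟩ := JT.isoJ2 h a
    have := Cfsg.Agent.S1620.result.1
    exact e.isSimpleGroup

theorem core4 : pCore 2 (commutator D4.isom) = ⊥ := by
  obtain ⟨h1, h2⟩ := JT.omega_facts (omegaIso D4 (fMinus_Q 1 1)).symm
  have : Finite (commutator D4.isom) := Nat.finite_of_card_ne_zero (by rw [h2]; norm_num)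
  refine ((inferInstance : (pCore 2 (commutator D4.isom)).Normal).eq_bot_or_eq_top).resolve_right
    fun h => ?_
  have := Fact.mk Nat.prime_two
  obtain ⟨n, h3⟩ := IsPGroup.iff_card.1 (Core.isPGroup_pCore 2 (commutator D4.isom))
  rw [h, card_top, h2] at h3
  have : 3 ∣ 2 ^ n := h3 ▸ by norm_num
  exact absurd (Nat.prime_three.dvd_of_dvd_pow this) (by norm_num)

/-- A simple section of the automorphism group of the Leech lattice satisfying the Hall–Janko-type hypothesis (the group so obtained is the Hall–Janko group; that identification is not part of this statement): there is a subgroup A of order 5 of that automorphism group such that the centralizer of A modulo the subgroup generated by A and the centre of the automorphism group is a non-abelian simple group satisfying the large extraspecial hypothesis of minus type in dimension 4 — an involution whose centralizer has extraspecial generalized Fitting subgroup of order 32 with quotient the commutator subgroup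 of the isometry group of the elliptic quadratic form in dimension 4 over the field with two elements (the alternating group of degree 5), the involution not weakly closed in that extraspecial group. -/
theorem result : ∃ A : Subgroup ↥Cfsg.Co0, Nat.card A = 5 ∧ ∃ (hn : ((A ⊔ Subgroup.center ↥Cfsg.Co0).subgroupOf (Subgroup.centralizer (A : Set ↥Cfsg.Co0))).Normal), ∃ (S : Type) (_ : Group S) (_ : Finite S), Nonempty (S ≃* ↥(Subgroup.centralizer (A : Set ↥Cfsg.Co0)) ⧸ (A ⊔ Subgroup.center ↥Cfsg.Co0).subgroupOf (Subgroup.centralizer (A : Set ↥Cfsg.Co0))) ∧ IsSimpleGroup S ∧ ¬ IsMulCommutative S ∧ ∃ z : S, orderOf z = 2 ∧ ∃ (Q : Subgroup (Subgroup.centralizer ({z} : Set S))) (_ : Q.Normal), Cfsg.generalizedFittingSubgroup (Subgroup.centralizer ({z} : Set S)) = Q ∧ Cfsg.IsExtraspecial 2 Q ∧ Nat.card Q = 2 ^ 5 ∧ Nonempty ((Subgroup.centralizer ({z} : Set S)) ⧸ Q ≃* Cfsg.Omega (ZMod 2) (Cfsg.quadFormMinus 1 (ZMod 2) 1 1)) ∧ ∃ g : S, (∃ hq : g * z * g⁻¹ ∈ Subgroup.centralizer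 ({z} : Set S), (⟨g * z * g⁻¹, hq⟩ : Subgroup.centralizer ({z} : Set S)) ∈ Q) ∧ g * z * g⁻¹ ≠ z := by
  have := Fact.mk Nat.prime_five
  obtain ⟨Q, ν, a, F, hq, hq0, hw⟩ := base
  have hb : mk1 (J5.G 6) ≠ 1 := J5.ne_one (by decide +kernel)
  have c1 : J5.G 6 * ep = ep * J5.G 6 := J5.G1 ▸ J5.comm (by decide +kernel)
  have c2 : J5.G 6 * sgn o2 S5388.G1.1 = sgn o2 S5388.G1.1 * J5.G 6 :=
    J5.G9 ▸ J5.comm (by decide +kernel)
  have b5 := J5.b_pow
  generalize J5.G 6 = b at hb c1 c2 b5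
  let y : centralizer ({mk1 ep} : Set Co1) :=
    ⟨mk1 b, mem_centralizer_singleton_iff.2 (by rw [← map_mul, c1, map_mul])⟩
  have hy : y ^ 5 = 1 := Subtype.ext (by
    show mk1 b ^ 5 = 1
    rw [← map_pow, b5, map_one])
  have h2 : ¬ 5 ∣ 2 := by norm_num
  obtain ⟨g, hg⟩ := nf5 (y := A F y) (by rw [← map_pow, hy, map_one])
    (fun e => hb (inf_one F Nat.prime_five h2 (congrArg Subtype.val hy) (mem_zpowers _)
      ((A_one F).1 e)))
    ⟨_, hq0, (fix_iff F Nat.prime_five h2 hy hq).1 (by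
      show mk1 _ * mk1 b = mk1 b * mk1 _
      rw [← map_mul, ← c2, map_mul])⟩
  have N := N5
  rw [← hg, ← A_tw] at N
  have i1 := normZ (y : Co1)
  have i2 := qn (tw F g) Nat.prime_five h2 hy
  obtain ⟨⟨s1, s2, s3, s4, s5⟩, ⟨e⟩⟩ := odd (tw F g) Nat.prime_five h2 hy N hw core4 (w := 2) (by simp)
  have e' := e.trans (omegaIso D4 (fMinus_Q 1 1)).symm
  obtain ⟨φ, hφ, -⟩ := JT.jt_of_omega s1 _ s2 s3 s4 e' s5
  have i3 := normS b
  refine ⟨zpowers b, ?_, i3, _, _, inferInstance, transfer (b := b) (p := 5) (by decide) b5,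
    simple_of hφ, fun h => ?_, _, s1, _, i2, s2, s3, s4, ⟨e'⟩, s5⟩
  · rw [Nat.card_zpowers]
    exact orderOf_eq_prime b5 fun e => hb (by rw [e, map_one])
  · obtain ⟨g, -, hg⟩ := s5
    exact hg (by rw [h.is_comm.comm g, mul_inv_cancel_right])

end Cfsg.Agent.S5403
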