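import Cfsg.Statements.S5405
import Cfsg.Agent.Lib.Forms.Bridge
import Cfsg.Agent.Lib.Forms.Std

set_option autoImplicit false
open scoped MatrixGroups
open Cfsg

namespace Cfsg.Agent.S5405

open Cfsg.Lib.Forms Matrix

section gen
variable {V : Type} [AddCommGroup V] [Module (ZMod 2) V] {D : Form (quadKind (ZMod 2)) V}

theorem z2 (a : ZMod 2) : a = 0 ∨ a = 1 := by revert a; decide

include D in
theorem aa (x : V) : x + x = 0 := by
  rw [← two_smul (ZMod 2), show (2 : ZMod 2) = 0 from rfl, zero_smul]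

theorem Bs (x : V) : D.B x x = 0 := by
  rw [quad_B_self, show (2 : ZMod 2) = 0 from rfl, zero_mul]

theorem rf {v : V} (hv : D.Q v = 1) (x : V) : (D.refl v).1 x = x + D.B v x • v := by
  rw [Form.refl_apply, hv, inv_one, one_mul, sub_eq_add_neg, neg_eq_of_add_eq_zero_left (aa (D := D) _)]

theorem tt {u v : V} (hu : D.Q u = 1) (hv : D.Q v = 1) (h : D.B u v = 1) (x : V) :
    (D.refl u * D.refl v).1 x = x + (D.B u x • u + D.B v x • (u + v)) := by
  rw [Form.isom_mul_apply, rf hu, rf hv, D.B_add_right, D.B_smul_right, h]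
  module

theorem cube {u v : V} (hu : D.Q u = 1) (hv : D.Q v = 1) (h : D.B u v = 1) :
    (D.refl u * D.refl v) * ((D.refl u * D.refl v) * (D.refl u * D.refl v)) = 1 := by
  have h1 := Form.conj_refl (D.refl u) v
  have h2 := Form.conj_refl (D.refl v) u
  rw [Form.refl_inv, rf hu, h, one_smul] at h1
  rw [Form.refl_inv, rf hv, quad_symm, h, one_smul, add_comm] at h2
  rw [← Form.refl_mul_self (D := D) (v + u)]
  nth_rw 1 [← h1]
  rw [← h2]
  group

variable [FiniteDimensional (ZMod 2) V] (hD : D.Nondeg) {F : D.isom → V}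
  (hF : ∀ g ∈ commutator D.isom, ∀ h ∈ commutator D.isom, F (g * h) = F g + g.1 (F h))
include hD

theorem rr {u v : V} (hu : D.Q u = 1) (hv : D.Q v = 1) : D.refl u * D.refl v ∈ commutator D.isom :=
  hD.refl_mul_refl_mem_commutator (by rw [hu]; exact one_ne_zero) one_ne_zero (by rw [hu, hv]; simp)

include hF

omit [FiniteDimensional (ZMod 2) V] hD in
theorem F1 : F 1 = 0 := by
  have := hF 1 (one_mem _) 1 (one_mem _)
  rw [mul_one, Form.isom_one_apply] at this
  exact left_eq_add.1 this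

omit [FiniteDimensional (ZMod 2) V] hD in
theorem Finv {g : D.isom} (hg : g ∈ commutator D.isom) {y : V} (h : F g = g.1 y - y) :
    F g⁻¹ = (g⁻¹).1 y - y := by
  have := hF g⁻¹ (inv_mem hg) g hg
  rw [inv_mul_cancel, F1 hF, h, map_sub, Form.isom_inv_apply] at this
  rw [eq_neg_of_add_eq_zero_left this.symm, neg_sub]

theorem lemA {u v : V} (hu : D.Q u = 1) (hv : D.Q v = 1) (h : D.B u v = 1) :
    ∃ y, F (D.refl u * D.refl v) = (D.refl u * D.refl v).1 y - y := by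
  have m := rr hD hu hv
  have h1 := hF _ m _ (mul_mem m m)
  rw [cube hu hv h, F1 hF, hF _ m _ m, map_add] at h1
  refine ⟨(D.refl u * D.refl v).1 (F (D.refl u * D.refl v)), ?_⟩
  generalize (D.refl u * D.refl v).1 ((D.refl u * D.refl v).1 (F (D.refl u * D.refl v))) = c at h1 ⊢
  generalize (D.refl u * D.refl v).1 (F (D.refl u * D.refl v)) = b at h1 ⊢
  rw [eq_neg_of_add_eq_zero_left h1.symm, neg_eq_of_add_eq_zero_left (aa (D := D) _), sub_eq_add_neg,
    neg_eq_of_add_eq_zero_left (aa (D := D) b), add_comm]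

theorem lemB {u v v' y y' : V} (hu : D.Q u = 1) (hv : D.Q v = 1) (hv' : D.Q v' = 1) (h : D.B u v = 1)
    (h' : D.B u v' = 1) (ho : D.B v v' = 0)
    (e : F (D.refl u * D.refl v) = (D.refl u * D.refl v).1 y - y)
    (e' : F (D.refl u * D.refl v') = (D.refl u * D.refl v').1 y' - y') : D.B u y = D.B u y' := by
  have hi : (D.refl u * D.refl v)⁻¹ = D.refl v * D.refl u := by
    rw [_root_.mul_inv_rev, Form.refl_inv, Form.refl_inv]
  have e1 := Finv hF (rr hD hu hv) e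
  rw [hi] at e1
  have hg : D.refl v * D.refl u * (D.refl u * D.refl v') = D.refl v * D.refl v' := by
    rw [mul_assoc, ← mul_assoc (D.refl u), Form.refl_mul_self, one_mul]
  have e2 := hF _ (rr hD hv hu) _ (rr hD hu hv')
  rw [e1, e', map_sub, ← Form.isom_mul_apply (D.refl v * D.refl u), hg] at e2
  have e3 : F (D.refl v * D.refl v') = ((D.refl v * D.refl u).1 (y - y') - (y - y')) +
      ((D.refl v * D.refl v').1 y' - y') := by rw [e2, map_sub]; abel
  rw [tt hv hu (by rw [quad_symm, h]), add_sub_cancel_left] at e3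
  by_cases hvv : v = v'
  · subst hvv
    rw [Form.refl_mul_self, F1 hF, Form.isom_one_apply, sub_self, add_zero] at e3
    have := congrArg (D.B v) e3
    rw [D.B_zero_right, D.B_add_right, D.B_smul_right, D.B_smul_right, D.B_add_right, Bs, quad_symm D v u, h,
      D.B_sub_right u] at this
    exact sub_eq_zero.1 (by simpa using this.symm)
  · have sq : D.refl v * D.refl v' * (D.refl v * D.refl v') = 1 := by
      rw [mul_assoc, ← mul_assoc (D.refl v'), ← Form.refl_comm ho, mul_assoc, Form.refl_mul_self,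
        mul_one, Form.refl_mul_self]
    have e4 := hF _ (rr hD hv hv') _ (rr hD hv hv')
    rw [sq, F1 hF, e3, map_add, map_sub (D.refl v * D.refl v').1, ← Form.isom_mul_apply _ _ y', sq,
      Form.isom_one_apply, map_add, map_smul, map_smul, map_add] at e4
    have g1 : (D.refl v * D.refl v').1 v = v := by
      rw [Form.isom_mul_apply, rf hv', quad_symm D v' v, ho, zero_smul, add_zero, rf hv, Bs, zero_smul,
        add_zero]
    have g2 : (D.refl v * D.refl v').1 u = u + v + v' := by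
      rw [Form.isom_mul_apply, rf hv', quad_symm D v' u, h', one_smul, rf hv, D.B_add_right,
        quad_symm D v u, h, ho, add_zero, one_smul]
      abel
    rw [g1, g2] at e4
    have e5 : D.B u (y - y') • (v + v') = 0 := by
      have a1 := aa (D := D) (D.B v (y - y') • v)
      have a2 := aa (D := D) (D.B u (y - y') • (v + u))
      linear_combination (norm := module) -e4 - a1 - a2
    rcases z2 (D.B u (y - y')) with h0 | h0
    · rw [D.B_sub_right] at h0; exact sub_eq_zero.1 h0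
    · rw [h0, one_smul] at e5
      exact absurd ((eq_neg_of_add_eq_zero_left e5).trans
        (neg_eq_of_add_eq_zero_left (aa (D := D) _))) hvv

theorem main (hG : D.Good) {n : ℕ} (b d : Fin (n + 1) → V) (rk : V → ℕ)
    (h1 : ∀ i, D.Q (b i) = 1) (h2 : ∀ i j, D.B (b i) (d j) = if i = j then 1 else 0)
    (h3 : ∀ i j k, D.B (b i) (b j) = 1 → D.B (b i) (b k) = 1 → D.B (b j) (b k) = 0)
    (h4 : ∀ i, ∃ j, D.B (b i) (b j) = 1) (h5 : ∀ i, i ≠ 0 → ∃ j < i, D.B (b j) (b i) = 1)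
    (h6 : ∀ x, D.Q x = 1 → (∃ i, x = b i) ∨ ∃ i, D.B (b i) x = 1 ∧ rk (x + b i) < rk x) :
    ∃ w, ∀ g ∈ commutator D.isom, F g = g.1 w - w := by
  choose nb hnb using h4
  choose y hy using fun i => lemA hD hF (h1 i) (h1 (nb i)) (hnb i)
  let w := ∑ j, D.B (b j) (y j) • d j
  have hw : ∀ i, D.B (b i) w = D.B (b i) (y i) := by
    intro i
    simp only [w, map_sum, map_smul, h2, smul_eq_mul, mul_ite, mul_one, mul_zero, Finset.sum_ite_eq,
      Finset.mem_univ, if_true]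
  let K : Subgroup D.isom :=
    { carrier := {g | g ∈ commutator D.isom ∧ F g = g.1 w - w}
      one_mem' := ⟨one_mem _, by rw [F1 hF, Form.isom_one_apply, sub_self]⟩
      mul_mem' := fun {g h} hg hh => ⟨mul_mem hg.1 hh.1, by
        rw [hF g hg.1 h hh.1, hg.2, hh.2, map_sub, Form.isom_mul_apply]; abel⟩
      inv_mem' := fun {g} hg => ⟨inv_mem hg.1, Finv hF hg.1 hg.2⟩ }
  have edge : ∀ i j, D.B (b i) (b j) = 1 → D.refl (b i) * D.refl (b j) ∈ K := by
    intro i j h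
    have h' : D.B (b j) (b i) = 1 := by rw [quad_symm, h]
    obtain ⟨z, hz⟩ := lemA hD hF (h1 i) (h1 j) h
    have hz' := Finv hF (rr hD (h1 i) (h1 j)) hz
    rw [_root_.mul_inv_rev, Form.refl_inv, Form.refl_inv] at hz'
    have a1 := lemB hD hF (h1 i) (h1 j) (h1 (nb i)) h (hnb i) (h3 _ _ _ h (hnb i)) hz (hy i)
    have a2 := lemB hD hF (h1 j) (h1 i) (h1 (nb j)) h' (hnb j) (h3 _ _ _ h' (hnb j)) hz' (hy j)
    refine ⟨rr hD (h1 i) (h1 j), ?_⟩
    rw [hz, tt (h1 i) (h1 j) h, tt (h1 i) (h1 j) h, hw, hw, a1, a2, add_sub_cancel_left,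
      add_sub_cancel_left]
  have conn : ∀ i, D.refl (b 0) * D.refl (b i) ∈ K := by
    intro i
    induction i using WellFoundedLT.induction with
    | _ i ih =>
      by_cases hi : i = 0
      · rw [hi, Form.refl_mul_self]; exact one_mem _
      · obtain ⟨j, hj, e⟩ := h5 i hi
        have := mul_mem (ih j hj) (edge j i e)
        rwa [mul_assoc, ← mul_assoc (D.refl (b j)), Form.refl_mul_self, one_mul] at this
  have gen : Subgroup.closure (Set.range fun i => D.refl (b i)) = ⊤ := by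
    refine hD.eq_top_of_refl hG _ fun v hv => ?_
    have hv1 : D.Q v = 1 := (z2 _).resolve_left hv
    clear hv
    induction hr : rk v using Nat.strong_induction_on generalizing v with
    | _ m ih =>
      rcases h6 v hv1 with ⟨i, rfl⟩ | ⟨i, e, lt⟩
      · exact Subgroup.subset_closure ⟨i, rfl⟩
      · have m1 : D.refl (b i) ∈ Subgroup.closure (Set.range fun i => D.refl (b i)) :=
          Subgroup.subset_closure ⟨i, rfl⟩
        have m2 := ih _ (hr ▸ lt) (v + b i) (by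
          rw [quad_Q_add, hv1, h1, quad_symm, e]; rfl) rfl
        have := mul_mem (mul_mem m1 m2) (inv_mem m1)
        rwa [Form.conj_refl, rf (h1 i), D.B_add_right, e, Bs, add_zero, one_smul, add_assoc,
          aa (D := D), add_zero] at this
  have all : ∀ g : D.isom, g ∈ K ∨ D.refl (b 0) * g ∈ K := by
    intro g
    have step : ∀ i (g : D.isom), (g ∈ K ∨ D.refl (b 0) * g ∈ K) →
        (D.refl (b i) * g ∈ K ∨ D.refl (b 0) * (D.refl (b i) * g) ∈ K) := by
      rintro i g (hg | hg)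
      · right; rw [← mul_assoc]; exact mul_mem (conn i) hg
      · left
        have := mul_mem (inv_mem (conn i)) hg
        rwa [_root_.mul_inv_rev, Form.refl_inv, Form.refl_inv, mul_assoc, ← mul_assoc (D.refl (b 0)),
          Form.refl_mul_self, one_mul] at this
    have hg : g ∈ Subgroup.closure (Set.range fun i => D.refl (b i)) := gen ▸ Subgroup.mem_top g
    induction hg using Subgroup.closure_induction_left with
    | one => exact Or.inl (one_mem _)
    | mul_left x hx g _ ih => obtain ⟨i, rfl⟩ := hx; exact step i g ih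
    | inv_mul_cancel x hx g _ ih => obtain ⟨i, rfl⟩ := hx; rw [Form.refl_inv]; exact step i g ih
  refine ⟨w, fun g hg => ?_⟩
  rcases all g with h | h
  · exact h.2
  · exfalso
    have m : D.refl (b 0) ∈ commutator D.isom := by simpa using mul_mem h.1 (inv_mem hg)
    have := Abelianization.commutator_subset_ker (Form.dickson hD) m
    rw [MonoidHom.mem_ker, Form.dickson_refl hD (by rw [h1]; exact one_ne_zero)] at this
    exact absurd this (by decide)

end gen

def Bq {ι : Type} (Q : (ι → ZMod 2) → ZMod 2) (x y : ι → ZMod 2) : ZMod 2 := Q (x + y) - Q x - Q y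

theorem main' {ι : Type} [Fintype ι] [DecidableEq ι] (D : Form (quadKind (ZMod 2)) (ι → ZMod 2))
    {Q : (ι → ZMod 2) → ZMod 2} (hQ : D.Q = Q) (hD : D.Nondeg) (hG : D.Good) {n : ℕ}
    (b d : Fin (n + 1) → ι → ZMod 2) (rk : (ι → ZMod 2) → ℕ)
    (h : (∀ i, Q (b i) = 1) ∧ (∀ i j, Bq Q (b i) (d j) = if i = j then 1 else 0) ∧
    (∀ i j k, Bq Q (b i) (b j) = 1 → Bq Q (b i) (b k) = 1 → Bq Q (b j) (b k) = 0) ∧
    (∀ i, ∃ j, Bq Q (b i) (b j) = 1) ∧ (∀ i, i ≠ 0 → ∃ j < i, Bq Q (b j) (b i) = 1))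
    (h6 : ∀ x, Q x = 1 → (∃ i, x = b i) ∨ ∃ i, Bq Q (b i) x = 1 ∧ rk (x + b i) < rk x)
    (f : Omega (ZMod 2) Q → ι → ZMod 2)
    (hf : ∀ g h : Omega (ZMod 2) Q, f (g * h) = f g +
      (((g : isometryGroup (ZMod 2) Q) : GL ι (ZMod 2)) : Matrix ι ι (ZMod 2)) *ᵥ f h) :
    ∃ v, ∀ g : Omega (ZMod 2) Q,
      f g = (((g : isometryGroup (ZMod 2) Q) : GL ι (ZMod 2)) : Matrix ι ι (ZMod 2)) *ᵥ v - v := by
  classical
  have hB : ∀ x y, Bq Q x y = D.B x y := fun x y => by rw [Bq, ← hQ, quad_B_eq]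
  simp only [hB, ← congrFun hQ] at h h6
  have mm : ∀ g ∈ commutator D.isom, (oIso D hQ).symm g ∈ Omega (ZMod 2) Q := fun g hg => by
    rw [mem_Omega_iff D hQ, MulEquiv.apply_symm_apply]; exact hg
  let F : D.isom → ι → ZMod 2 := fun g => if hg : g ∈ commutator D.isom then f ⟨_, mm g hg⟩ else 0
  obtain ⟨w, hw⟩ := main (F := F) hD (fun g hg k hk => by
    simp only [F, dif_pos hg, dif_pos hk, dif_pos (mul_mem hg hk)]
    rw [← mulVec_oIso_symm D hQ, ← hf ⟨_, mm g hg⟩ ⟨_, mm k hk⟩]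
    congr 1
    exact Subtype.ext (map_mul _ _ _)) hG b d rk h.1 h.2.1 h.2.2.1 h.2.2.2.1 h.2.2.2.2 h6
  refine ⟨w, fun g => ?_⟩
  have m := (mem_Omega_iff D hQ).1 g.2
  have := hw _ m
  simp only [F, dif_pos m, MulEquiv.symm_apply_apply] at this
  rw [← oIso_apply D hQ]
  exact this

def vec {ι : Type} (ix : ι → ℕ) (n : ℕ) : ι → ZMod 2 := fun j => if n.testBit (ix j) then 1 else 0
def rkT {ι : Type} [Fintype ι] (ix : ι → ℕ) (T : ℕ) (x : ι → ZMod 2) : ℕ :=
  (T >>> (8 * ∑ j, (x j).val * 2 ^ ix j)) % 256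
def ixP (m : ℕ) : Fin m ⊕ Fin m → ℕ := Sum.elim (fun i => i.val) fun i => m + i.val
def ixM (m : ℕ) : (Fin m ⊕ Fin m) ⊕ Fin 2 → ℕ := Sum.elim (ixP m) fun i => 2 * m + i.val

theorem an2 : ∀ z₁ z₂ : ZMod 2, z₁ ^ 2 + 1 * z₁ * z₂ + 1 * z₂ ^ 2 = 0 → z₁ = 0 ∧ z₂ = 0 := by decide

/-- Vanishing of first cohomology on the natural module for three small orthogonal groups over the field with two elements: for the commutator subgroup of the isometry group of the elliptic quadratic form in dimension 4, of the elliptic form in dimension 6, and of the hyperbolic form in dimension 8, every crossed homomorphism into the natural module (a map f with f(gh) = f(g) + g·f(h)) is principal (of the form g ↦ g·v − v). -/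
theorem result : (∀ f : ↥(Cfsg.Omega (ZMod 2) (Cfsg.quadFormMinus 1 (ZMod 2) 1 1)) → ((Fin 1 ⊕ Fin 1) ⊕ Fin 2 → ZMod 2), (∀ g h : ↥(Cfsg.Omega (ZMod 2) (Cfsg.quadFormMinus 1 (ZMod 2) 1 1)), f (g * h) = f g + Matrix.mulVec (((g : ↥(Cfsg.isometryGroup (ZMod 2) (Cfsg.quadFormMinus 1 (ZMod 2) 1 1))) : GL ((Fin 1 ⊕ Fin 1) ⊕ Fin 2) (ZMod 2)) : Matrix ((Fin 1 ⊕ Fin 1) ⊕ Fin 2) ((Fin 1 ⊕ Fin 1) ⊕ Fin 2) (ZMod 2)) (f h)) → ∃ v : (Fin 1 ⊕ Fin 1) ⊕ Fin 2 → ZMod 2, ∀ g : ↥(Cfsg.Omega (ZMod 2) (Cfsg.quadFormMinus 1 (ZMod 2) 1 1)), f g = Matrix.mulVec (((g : ↥(Cfsg.isometryGroup (ZMod 2) (Cfsg.quadFormMinus 1 (ZMod 2) 1 1))) : GL ((Fin 1 ⊕ Fin 1) ⊕ Fin 2) (ZMod 2)) : Matrix ((Fin 1 ⊕ Fin 1) ⊕ Fin 2) ((Fin 1 ⊕ Fin 1) ⊕ Fin 2) (ZMod 2)) v - v) ∧ (∀ f : ↥(Cfsg.Omega (ZMod 2) (Cfsg.quadFormMinus 2 (ZMod 2) 1 1)) → ((Fin 2 ⊕ Fin 2) ⊕ Fin 2 → ZMod 2), (∀ g h : ↥(Cfsg.Omega (ZMod 2) (Cfsg.quadFormMinus 2 (ZMod 2) 1 1)), f (g * h) = f g + Matrix.mulVec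 (((g : ↥(Cfsg.isometryGroup (ZMod 2) (Cfsg.quadFormMinus 2 (ZMod 2) 1 1))) : GL ((Fin 2 ⊕ Fin 2) ⊕ Fin 2) (ZMod 2)) : Matrix ((Fin 2 ⊕ Fin 2) ⊕ Fin 2) ((Fin 2 ⊕ Fin 2) ⊕ Fin 2) (ZMod 2)) (f h)) → ∃ v : (Fin 2 ⊕ Fin 2) ⊕ Fin 2 → ZMod 2, ∀ g : ↥(Cfsg.Omega (ZMod 2) (Cfsg.quadFormMinus 2 (ZMod 2) 1 1)), f g = Matrix.mulVec (((g : ↥(Cfsg.isometryGroup (ZMod 2) (Cfsg.quadFormMinus 2 (ZMod 2) 1 1))) : GL ((Fin 2 ⊕ Fin 2) ⊕ Fin 2) (ZMod 2)) : Matrix ((Fin 2 ⊕ Fin 2) ⊕ Fin 2) ((Fin 2 ⊕ Fin 2) ⊕ Fin 2) (ZMod 2)) v - v) ∧ (∀ f : ↥(Cfsg.Omega (ZMod 2) (Cfsg.quadFormPlus 4 (ZMod 2))) → (Fin 4 ⊕ Fin 4 → ZMod 2), (∀ g h : ↥(Cfsg.Omega (ZMod 2) (Cfsg.quadFormPlus 4 (ZMod 2))), f (g * h) = f g + Matrix.mulVec (((g : ↥(Cfsg.isometryGroup (ZMod 2) (Cfsg.quadFormPlus 4 (ZMod 2)))) : GL (Fin 4 ⊕ Fin 4) (ZMod 2)) : Matrix (Fin 4 ⊕ Fin 4) (Fin 4 ⊕ Fin 4) (ZMod 2)) (f h)) → ∃ v : Fin 4 ⊕ Fin 4 → ZMod 2, ∀ g : ↥(Cfsg.Omega (ZMod 2) (Cfsg.quadFormPlus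 4 (ZMod 2))), f g = Matrix.mulVec (((g : ↥(Cfsg.isometryGroup (ZMod 2) (Cfsg.quadFormPlus 4 (ZMod 2)))) : GL (Fin 4 ⊕ Fin 4) (ZMod 2)) : Matrix (Fin 4 ⊕ Fin 4) (Fin 4 ⊕ Fin 4) (ZMod 2)) v - v) := by
  refine ⟨main' (fMinus 1 1 1) (fMinus_Q 1 1) (fMinus_nondeg 1 an2) (Or.inr (Or.inr (fMinus_not_hasTS 1 an2)))
      (fun i => vec (ixM 1) (![3, 5, 8, 4] i)) (fun i => vec (ixM 1) (![1, 3, 4, 11] i))
      (rkT (ixM 1) 0x20101000302000001000000000000) (by decide +kernel) (by decide +kernel),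
    main' (fMinus 2 1 1) (fMinus_Q 1 1) (fMinus_nondeg 2 an2)
      (Form.good_of_finrank (by rw [finrank_minus]; norm_num))
      (fun i => vec (ixM 2) (![5, 11, 18, 10, 7, 32] i)) (fun i => vec (ixM 2) (![43, 5, 32, 7, 42, 16] i))
      (rkT (ixM 2) 0x3000003000002020004000403010509060000060000070700050005060804000200000200000101000300030200040a00010100000000000000000000000000)
      (by decide +kernel) (by decide +kernel),
    main' (fPlus (ZMod 2) 4) fPlus_Q (fPlus_nondeg 4)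
      (Form.good_of_finrank (by rw [finrank_plus]; norm_num))
      (fun i => vec (ixP 4) (![17, 35, 21, 68, 23, 34, 27, 238] i))
      (fun i => vec (ixP 4) (![205, 17, 238, 12, 170, 27, 136, 8] i))
      (rkT (ixP 4) 0x90900010000071700000900090d00080000000000080800000a0c081800000a000a0000060002000a00160c000a00000000000709030b0b0b150b00000000020000060600000600080e0000061a00000007070000050307190000070f000000050003000500050d0009001b0005000608040c0404041c00000000000000000400001200120e000e000004000202000000110f1303000000000303030d0000001100050f0011000005000f010001001010061000000000040210000000000000130d00001501000001010000010b0014020000140c0000020c0000000000000e00120000001600000000000a00000000000000000000000000000000000000)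
      (by decide +kernel) (by decide +kernel)⟩

end Cfsg.Agent.S5405
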