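import Cfsg.Statements.S5408
import Cfsg.Agent.Lib.Leech.MonT2

set_option autoImplicit false
open Cfsg

namespace Cfsg.Agent.S5408

open Cfsg.Lib.Leech

/-- Let G be a finite group of Monster type at the involution z with Q the extraspecial normal subgroup of order 2^25 of C = C_G(z) (so C/Q is identified with the first Conway group with Q modulo its centre the Leech lattice modulo 2, and z is not weakly closed in Q). Then Q is of plus type: it contains an elementary abelian subgroup of order 2^13. -/
theorem result {G : Type*} [Group G] [Finite G] (z : G) (Q : Subgroup (Subgroup.centralizer ({z} : Set G))) [Q.Normal] (hM : Cfsg.IsOfMonsterType z Q) : ∃ E : Subgroup Q, Cfsg.IsElementaryAbelian 2 E ∧ Nat.card E = 2 ^ 13 := by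
  obtain ⟨hS, e, ψ, hψ⟩ := hM
  have M := MT.of hS hψ
  obtain ⟨-, -, -, -, g, ⟨h1, h2⟩, h3⟩ := hS
  have hc := M.card_inf ⟨_, h2, rfl⟩ h3
  set A := Q.map (Subgroup.centralizer ({z} : Set G)).subtype ⊓ (Q.map
    (Subgroup.centralizer ({z} : Set G)).subtype).map (MulAut.conj g).toMonoidHom with hA
  let f := (Subgroup.centralizer ({z} : Set G)).subtype.comp Q.subtype
  have hf : Function.Injective f := Subtype.val_injective.comp Subtype.val_injective
  refine ⟨A.comap f, ⟨⟨⟨fun a b => Subtype.ext (hf ?_)⟩⟩, fun a ha => hf ?_⟩, ?_⟩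
  · exact M.comm_of_mem h3 a.2 b.2
  · rw [map_pow, map_one, pow_two]; exact M.sq_of_mem h3 ha
  · rw [← Subgroup.card_map_of_injective hf, Subgroup.map_comap_eq_self, hc]
    rintro _ ⟨⟨x, hx, rfl⟩, -⟩
    exact ⟨⟨x, hx⟩, rfl⟩

end Cfsg.Agent.S5408
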