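import Cfsg.Statements.S5411
import Cfsg.Agent.Lib.Leech.MonT2

set_option autoImplicit false
open Cfsg

namespace Cfsg.Agent.S5411

open Cfsg.Lib.Leech

/-- Let G be a finite group of Monster type at the involution z with Q the extraspecial normal subgroup of order 2^25 of C = C_G(z) (so C/Q is identified with the first Conway group with Q modulo its centre the Leech lattice modulo 2, and z is not weakly closed in Q). Then C acts transitively by conjugation on the involutions of Q that are not conjugate to z in G. -/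
theorem result {G : Type*} [Group G] [Finite G] (z : G) (Q : Subgroup (Subgroup.centralizer ({z} : Set G))) [Q.Normal] (hM : Cfsg.IsOfMonsterType z Q) (s t : G) (hsQ : ∃ hsc : s ∈ Subgroup.centralizer ({z} : Set G), (⟨s, hsc⟩ : Subgroup.centralizer ({z} : Set G)) ∈ Q) (htQ : ∃ htc : t ∈ Subgroup.centralizer ({z} : Set G), (⟨t, htc⟩ : Subgroup.centralizer ({z} : Set G)) ∈ Q) (hs2 : orderOf s = 2) (ht2 : orderOf t = 2) (hs : ¬ IsConj z s) (ht : ¬ IsConj z t) : ∃ h ∈ Subgroup.centralizer ({z} : Set G), h * s * h⁻¹ = t := by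
  obtain ⟨hS, e, ψ, hψ⟩ := hM
  have M := MT.of hS hψ
  obtain ⟨-, -, -, -, g, ⟨h1, h2⟩, h3⟩ := hS
  obtain ⟨v, hv, h⟩ := M.type_two ⟨_, h2, rfl⟩ h3 ⟨_, hsQ.2, rfl⟩ hs2 hs
  obtain ⟨w, hw, h'⟩ := M.type_two ⟨_, h2, rfl⟩ h3 ⟨_, htQ.2, rfl⟩ ht2 ht
  obtain ⟨k, rfl⟩ := trans32 h h'
  obtain ⟨c, hc, e⟩ := M.exists_conj hv hw (M.ne_of_short hv (Or.inl h)).1
    (M.ne_of_short hv (Or.inl h)).2
  exact ⟨c, hc.1, e⟩

end Cfsg.Agent.S5411
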