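import Cfsg.Statements.S5420
import Cfsg.Agent.Lib.Known2.LE

set_option autoImplicit false
open Cfsg

namespace Cfsg.Agent.S5420
open Cfsg.Lib.Known2 Cfsg.Lib.Amalg Cfsg.Lib.Core Subgroup

/-- Let Q be an extraspecial 2-subgroup of the finite group G whose centralizer in G is its centre Z and which is normal in the centralizer of Z. If Z lies in the largest normal 2-subgroup of G, then Q is a large extraspecial 2-subgroup of G: it normalizes no non-trivial subgroup of G of odd order. -/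
theorem result {G : Type*} [Group G] [Finite G] (Q : Subgroup G) (hL1 : Cfsg.IsExtraspecial 2 ↥Q) (hL2 : Subgroup.centralizer (Q : Set G) = ((Subgroup.center ↥Q).map Q.subtype)) (hL3 : Subgroup.centralizer (((Subgroup.center ↥Q).map Q.subtype) : Set G) ≤ Subgroup.normalizer (Q : Set G)) (hZ : ((Subgroup.center ↥Q).map Q.subtype) ≤ Cfsg.pCore 2 G) : Cfsg.IsLargeExtraspecial Q := by
  obtain ⟨z, hz, h⟩ := exists_LS hL1 hL2 hL3
  refine h.large fun K hK hn => ?_
  rw [eq_bot_iff]
  intro k hk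
  have hzO : z ∈ pCore 2 G := hZ (hz ▸ mem_zpowers z)
  have h1 : k * z * k⁻¹ * z⁻¹ ∈ pCore 2 G :=
    mul_mem (Normal.conj_mem inferInstance _ hzO _) (inv_mem hzO)
  obtain ⟨n, hn'⟩ := isPGroup_iff_mem.1 (isPGroup_pCore 2 G) _ h1
  have h2 : k * z * k⁻¹ * z⁻¹ ∈ K := by
    have := mul_mem hk ((mem_normalizer_iff.1 (hn h.mem) _).1 (inv_mem hk))
    simpa [mul_assoc] using this
  exact h.cent_odd hK hn hk (comm_of_conj_eq (mul_inv_eq_one.1 (eq_one_of_odd_of_two hK h2 hn')))

end Cfsg.Agent.S5420
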