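import Cfsg.Statements.S5421
import Cfsg.Agent.Lib.Known2.LE

set_option autoImplicit false
open Cfsg

namespace Cfsg.Agent.S5421
open Cfsg.Lib.Known2 Cfsg.Lib.Amalg Cfsg.Lib.Core Subgroup

/-- Let Q be an extraspecial 2-subgroup of the finite group G whose centralizer in G is its centre Z and which is normal in the centralizer of Z. If some involution b of Q outside Z has Z inside the largest normal 2-subgroup of the centralizer of b, then Q is a large extraspecial 2-subgroup of G. -/
theorem result {G : Type*} [Group G] [Finite G] (Q : Subgroup G) (hL1 : Cfsg.IsExtraspecial 2 ↥Q) (hL2 : Subgroup.centralizer (Q : Set G) = ((Subgroup.center ↥Q).map Q.subtype)) (hL3 : Subgroup.centralizer (((Subgroup.center ↥Q).map Q.subtype) : Set G) ≤ Subgroup.normalizer (Q : Set G)) (b : G) (hbQ : b ∈ Q) (hbZ : b ∉ ((Subgroup.center ↥Q).map Q.subtype)) (hb : orderOf b = 2) (hZ : ((Subgroup.center ↥Q).map Q.subtype) ≤ (Cfsg.pCore 2 ↥(Subgroup.centralizer ({b} : Set G))).map (Subgroup.centralizer ({b}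 : Set G)).subtype) : Cfsg.IsLargeExtraspecial Q := by
  obtain ⟨z, hz, h⟩ := exists_LS hL1 hL2 hL3
  rw [hz, h.toES.mem_zp, not_or] at hbZ
  refine h.large (h.odd_eq_bot hbQ hbZ.1 hbZ.2 (mul_self_of_orderOf_two hb) fun k hk => ?_)
  have hzO := hZ (hz ▸ mem_zpowers z)
  have h1 := mul_mem ((mem_normalizer_iff.1 (le_normalizer_pCoreOf (p := 2) _
    (mem_cent_single.2 hk)) _).1 hzO) (inv_mem hzO)
  exact isPGroup_iff_mem.1 (isPGroup_pCoreOf _) _ h1

end Cfsg.Agent.S5421
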