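import Cfsg.Statements.S5422
import Cfsg.Agent.Lib.Known2.LE2

set_option autoImplicit false
open Cfsg

namespace Cfsg.Agent.S5422
open Cfsg.Lib.Known2 Cfsg.Lib.Amalg Cfsg.Lib.Core Subgroup

/-- Let Q be an extraspecial 2-subgroup of the finite group G whose centralizer in G is its centre Z and which is normal in the centralizer of Z; suppose Q has width at least 2 (order 2^(2w+1) with w ≥ 2) and g is an element of G not normalizing Z with g Z g⁻¹ inside Q. Then Z lies inside g Q g⁻¹; writing V for the subgroup generated by Z and g Z g⁻¹ (a four-group), the normalizer of V induces on V its full automorphism group, that is, the centralizer of V has index 6 in the normalizer of V; and Q is a large extraspecial 2-subgroup of G. -/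
theorem result {G : Type*} [Group G] [Finite G] (Q : Subgroup G) (hL1 : Cfsg.IsExtraspecial 2 ↥Q) (hL2 : Subgroup.centralizer (Q : Set G) = ((Subgroup.center ↥Q).map Q.subtype)) (hL3 : Subgroup.centralizer (((Subgroup.center ↥Q).map Q.subtype) : Set G) ≤ Subgroup.normalizer (Q : Set G)) (w : ℕ) (hw : 2 ≤ w) (hcard : Nat.card ↥Q = 2 ^ (2 * w + 1)) (g : G) (hg : g ∉ Subgroup.normalizer (((Subgroup.center ↥Q).map Q.subtype) : Set G)) (hZg : (((Subgroup.center ↥Q).map Q.subtype)).map (MulAut.conj g).toMonoidHom ≤ Q) : ((Subgroup.center ↥Q).map Q.subtype) ≤ (Q).map (MulAut.conj g).toMonoidHom ∧ (Subgroup.centralizer ((((Subgroup.center ↥Q).map Q.subtype) ⊔ (((Subgroup.center ↥Q).map Q.subtype)).map (MulAut.conj g).toMonoidHom : Subgroup G) : Set G)).relIndex (Subgroup.normalizer ((((Subgroup.center ↥Q).map Q.subtype) ⊔ (((Subgroup.center ↥Q).map Q.subtype)).map (MulAut.conj g).toMonoidHom : Subgroup G) : Set G)) = 6 ∧ Cfsg.IsLargeExtraspecial Q := by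
  obtain ⟨z, hz, h⟩ := exists_LS hL1 hL2 hL3
  rw [hz] at hg hZg ⊢
  have hb : g * z * g⁻¹ ∈ Q := hZg (conj_mem_cj g (mem_zpowers z))
  have hne : g * z * g⁻¹ ≠ z := fun e => hg (cent_le_norm _ (mem_cent_zpowers.2 (comm_of_conj_eq e)))
  have hc : 8 < Nat.card Q := by
    rw [hcard]
    calc 8 < 2 ^ 5 := by norm_num
      _ ≤ _ := Nat.pow_le_pow_right (by norm_num) (by omega)
  have hp := h.lp hb hne hc
  refine ⟨zpowers_le_of_mem hp.zQ, ?_, h.large (h.odd_eq_bot hb hp.r.ne hne hp.r.sq fun k hk => ?_)⟩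
  · rw [cj_zpowers, zpowers_eq_closure, zpowers_eq_closure, ← Subgroup.closure_union, Set.singleton_union]
    exact hp.relIndex_six
  · exact ⟨2, hp.r.toES.pow_four (mul_mem (hp.r.norm k hk _ hp.zQ) (inv_mem hp.zQ))⟩

end Cfsg.Agent.S5422
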