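import Cfsg.Statements.S5424
import Cfsg.Agent.Lib.Small.Holo
import Cfsg.Agent.Lib.Linear.Tv

set_option autoImplicit false
open Cfsg

namespace Cfsg.Agent.S5424

open Subgroup Cfsg.Lib Cfsg.Lib.Known2 Cfsg.Lib.Small Cfsg.Lib.Linear Matrix

local notation "SL" => Matrix.SpecialLinearGroup
local notation "F" => ZMod 2

theorem zmod2 (a : F) (h : a ≠ 0) : a = 1 := by revert a; decide

theorem gl_sl (n : ℕ) : Nonempty (GL (Fin n) F ≃* SL (Fin n) F) :=
  ⟨(MulEquiv.ofBijective SpecialLinearGroup.toGL ⟨SpecialLinearGroup.toGL_injective, fun g =>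
    ⟨⟨g, zmod2 _ g.det_ne_zero⟩, Units.ext rfl⟩⟩).symm⟩

section
variable (n : ℕ)

abbrev v : Fin (n + 2) → F := Pi.single 0 1

theorem dv (φ : Fin (n + 2) → F) : φ ⬝ᵥ v n = φ 0 := by simp
theorem vd (φ : Fin (n + 2) → F) : v n ⬝ᵥ φ = φ 0 := by simp

theorem tmul {φ : Fin (n + 2) → F} (ψ : Fin (n + 2) → F) (h : φ 0 = 0) :
    (1 + vecMulVec (v n) φ) * (1 + vecMulVec (v n) ψ) = 1 + vecMulVec (v n) (φ + ψ) := by
  rw [add_mul, mul_add, mul_add, vecMulVec_mul_vecMulVec, dv, h, vecMulVec_add]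
  simp only [mul_one, one_mul, zero_smul, vecMulVec_zero, add_zero]
  abel

def U : Subgroup (SL (Fin (n + 2)) F) where
  carrier := {g | ∃ φ, (g : Matrix (Fin (n + 2)) (Fin (n + 2)) F) = 1 + vecMulVec (v n) φ}
  one_mem' := ⟨0, by simp⟩
  mul_mem' := by
    rintro g h ⟨φ, hφ⟩ ⟨ψ, hψ⟩
    exact ⟨φ + ψ, by rw [sl_coe_mul, hφ, hψ, tmul n ψ (dv n φ ▸ dotProduct_eq_zero_of_coe_eq hφ)]⟩
  inv_mem' := by
    rintro g ⟨φ, hφ⟩
    exact ⟨-φ, coe_inv_of_coe_eq hφ⟩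

def M : Subgroup (SL (Fin (n + 2)) F) where
  carrier := {g | (g : Matrix (Fin (n + 2)) (Fin (n + 2)) F) *ᵥ v n = v n ∧ v n ᵥ* (g : Matrix (Fin (n + 2)) (Fin (n + 2)) F) = v n}
  one_mem' := ⟨one_mulVec _, vecMul_one _⟩
  mul_mem' := by
    rintro g h ⟨h1, h2⟩ ⟨h3, h4⟩
    exact ⟨by rw [sl_coe_mul, ← mulVec_mulVec, h3, h1], by rw [sl_coe_mul, ← vecMul_vecMul, h2, h4]⟩
  inv_mem' := by
    rintro g ⟨h1, h2⟩
    constructor
    · conv_lhs => rw [← h1]
      rw [mulVec_mulVec, sl_coe_inv_mul, one_mulVec]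
    · conv_lhs => rw [← h2]
      rw [vecMul_vecMul, sl_coe_mul_inv, vecMul_one]

variable {n}

def vec (g : SL (Fin (n + 2)) F) : Fin (n + 2) → F := v n ᵥ* (g : Matrix (Fin (n + 2)) (Fin (n + 2)) F) - v n

theorem vec_eq {g : SL (Fin (n + 2)) F} {φ : Fin (n + 2) → F}
    (h : (g : Matrix (Fin (n + 2)) (Fin (n + 2)) F) = 1 + vecMulVec (v n) φ) : vec g = φ := by
  rw [vec, h, vecMul_add, vecMul_vecMulVec, vd]; simp

theorem coe_U {g : SL (Fin (n + 2)) F} (h : g ∈ U n) :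
    (g : Matrix (Fin (n + 2)) (Fin (n + 2)) F) = 1 + vecMulVec (v n) (vec g) := by
  obtain ⟨φ, hφ⟩ := h
  rw [vec_eq hφ, hφ]

theorem vec_zero {g : SL (Fin (n + 2)) F} (h : g ∈ U n) : vec g 0 = 0 :=
  (dv n _).symm.trans (dotProduct_eq_zero_of_coe_eq (coe_U h))

theorem vec_mul {g k : SL (Fin (n + 2)) F} (h : g ∈ U n) (hk : k ∈ U n) :
    vec (g * k) = vec g + vec k :=
  vec_eq (by rw [sl_coe_mul, coe_U h, coe_U hk, tmul n _ (vec_zero h)])

theorem vec_inj {g k : SL (Fin (n + 2)) F} (h : g ∈ U n) (hk : k ∈ U n) (e : vec g = vec k) : g = k :=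
  Subtype.ext (by rw [coe_U h, coe_U hk, e])

def tt (φ : Fin (n + 2) → F) : U n :=
  ⟨slTv (v n) (φ - φ 0 • v n) (by rw [dv]; simp), _, rfl⟩

theorem vec_tt (φ : Fin (n + 2) → F) : vec (tt φ : SL (Fin (n + 2)) F) = φ - φ 0 • v n := vec_eq rfl

theorem tt_vec (g : U n) : tt (vec (g : SL (Fin (n + 2)) F)) = g :=
  Subtype.ext (vec_inj (tt _).2 g.2 (by rw [vec_tt, vec_zero g.2, zero_smul, sub_zero]))

theorem tt_add (φ ψ : Fin (n + 2) → F) : tt (φ + ψ) = tt φ * tt ψ :=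
  Subtype.ext (vec_inj (tt _).2 (tt φ * tt ψ).2 (by
    rw [coe_mul, vec_mul (tt _).2 (tt _).2, vec_tt, vec_tt, vec_tt, Pi.add_apply, add_smul]; abel))

theorem conj_U {m g : SL (Fin (n + 2)) F} (hm : (m : Matrix (Fin (n + 2)) (Fin (n + 2)) F) *ᵥ v n = v n) (h : g ∈ U n) :
    ((m * g * m⁻¹ : SL (Fin (n + 2)) F) : Matrix (Fin (n + 2)) (Fin (n + 2)) F) =
      1 + vecMulVec (v n) (vec g ᵥ* ((m⁻¹ : SL (Fin (n + 2)) F) : Matrix (Fin (n + 2)) (Fin (n + 2)) F)) := by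
  rw [sl_coe_mul, sl_coe_mul, coe_conj_of_coe_eq (coe_U h) (sl_coe_mul_inv m), hm]

theorem card_U : Nat.card (U n) = 2 ^ (n + 1) := by
  have : Nat.card (U n) = Nat.card (Fin (n + 1) → F) :=
    Nat.card_congr
      { toFun := fun g => fun i => vec (g : SL (Fin (n + 2)) F) i.succ
        invFun := fun φ => tt (Fin.cons 0 φ)
        left_inv := fun g => by
          refine Eq.trans (congrArg tt ?_) (tt_vec g)
          funext i
          refine Fin.cases ?_ (fun i => ?_) i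
          · rw [Fin.cons_zero]; exact (vec_zero g.2).symm
          · rw [Fin.cons_succ]
        right_inv := fun φ => by
          funext i
          beta_reduce
          rw [vec_tt, Fin.cons_zero, zero_smul, sub_zero, Fin.cons_succ] }
  rw [this, Nat.card_fun, Nat.card_zmod, Nat.card_eq_fintype_card, Fintype.card_fin]

theorem full (Φ : U n ≃* U n) :
    ∃ m ∈ M n, ∀ u : U n, ((Φ u : U n) : SL (Fin (n + 2)) F) = m * u * m⁻¹ := by
  let a : (Fin (n + 2) → F) →+ (Fin (n + 2) → F) := AddMonoidHom.mk'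
    (fun φ => φ 0 • v n + vec (Φ (tt φ) : SL (Fin (n + 2)) F)) fun φ ψ => by
      rw [tt_add, map_mul, coe_mul, vec_mul (Φ _).2 (Φ _).2, Pi.add_apply, add_smul]; abel
  have ha : ∀ φ, a φ = φ 0 • v n + vec (Φ (tt φ) : SL (Fin (n + 2)) F) := fun _ => rfl
  have ha0 : ∀ φ, a φ 0 = φ 0 := fun φ => by rw [ha, Pi.add_apply, vec_zero (Φ _).2]; simp
  have h1 : vec (1 : SL (Fin (n + 2)) F) = 0 := vec_eq (by simp)
  let B : Matrix (Fin (n + 2)) (Fin (n + 2)) F := (LinearMap.toMatrix' (a.toZModLinearMap 2))ᵀ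
  have hB : ∀ φ, φ ᵥ* B = a φ := fun φ => by
    rw [vecMul_transpose, ← toLin'_apply, toLin'_toMatrix']; rfl
  have hdet : B.det = 1 := zmod2 _ fun h => by
    obtain ⟨φ, hφ, e⟩ := exists_vecMul_eq_zero_iff.2 h
    rw [hB] at e
    have e0 : φ 0 = 0 := by rw [← ha0 φ, e]; rfl
    rw [ha, e0, zero_smul, zero_add, ← h1] at e
    have e2 : tt φ = 1 := Φ.map_eq_one_iff.1 (Subtype.ext (vec_inj (Φ _).2 (one_mem _) e))
    have e3 := vec_tt φ
    rw [e2, e0, zero_smul, sub_zero] at e3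
    exact hφ (e3.symm.trans h1)
  obtain ⟨b, hb⟩ : ∃ b : SL (Fin (n + 2)) F, (b : Matrix (Fin (n + 2)) (Fin (n + 2)) F) = B :=
    ⟨⟨B, hdet⟩, rfl⟩
  have hm : b ∈ M n := by
    constructor <;> rw [hb]
    · ext i
      have := ha0 (Pi.single i 1)
      rw [← hB] at this
      simpa [Pi.single_apply, eq_comm] using this
    · have : tt (v n) = 1 := Subtype.ext (vec_inj (tt _).2 (one_mem _) (by rw [vec_tt, coe_one, h1]; simp))
      rw [hB, ha, this, map_one, coe_one, h1]; simp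
  refine ⟨_, inv_mem hm, fun u => Subtype.ext ((coe_U (Φ u).2).trans
    (Eq.trans ?_ (conj_U (inv_mem hm).1 u.2).symm))⟩
  rw [inv_inv, hb, hB, ha, vec_zero u.2, tt_vec, zero_smul, zero_add]

theorem hol (hn : 2 ≤ n) (z : SL (Fin (n + 2)) F) (hz : (z : Matrix (Fin (n + 2)) (Fin (n + 2)) F) = transvection 0 1 1) :
    Hol (U n) (M n) z n := by
  have hz' : (z : Matrix (Fin (n + 2)) (Fin (n + 2)) F) = 1 + vecMulVec (v n) (Pi.single 1 1) := by
    rw [hz, transvection, single_eq_vecMulVec]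
  have hv : v n ≠ 0 := by simp
  have h1 : (Pi.single 1 1 : Fin (n + 2) → F) ≠ 0 := by simp
  refine ⟨fun x hx y hy => (commute_of_coe_eq (coe_U hx) (coe_U hy) (by rw [dv, vec_zero hx])
    (by rw [dv, vec_zero hy])).eq, fun x hx => ?_, card_U, by omega,
    fun m hm u hu => ⟨_, conj_U hm.1 hu⟩, fun m hm h => ?_, full, ⟨_, hz'⟩, fun e => h1 ?_,
    fun c hc => ?_⟩
  · rw [← pow_two]; exact (isTv_of_coe_eq (coe_U hx)).pow_char
  · rw [← inv_eq_one]
    have hm' := (inv_mem hm).2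
    have key : ∀ φ, φ ᵥ* ((m⁻¹ : SL (Fin (n + 2)) F) : Matrix (Fin (n + 2)) (Fin (n + 2)) F) = φ := fun φ => by
      have e := vec_eq (conj_U hm.1 (tt φ).2)
      rw [h _ (tt φ).2, vec_tt, sub_vecMul, smul_vecMul, hm'] at e
      exact (sub_left_inj.1 e).symm
    ext i j
    have := congrFun (key (Pi.single i 1)) j
    simpa [Pi.single_apply, one_apply, eq_comm] using this
  · rw [← vec_eq hz', e]; exact vec_eq (by simp)
  · have e := coe_conj_of_coe_eq hz' (sl_coe_mul_inv c)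
    rw [← sl_coe_mul, ← sl_coe_mul, conj_eq_of_comm hc, hz', add_right_inj] at e
    have e1 : Pi.single 1 1 ᵥ* ((c⁻¹ : SL (Fin (n + 2)) F) : Matrix (Fin (n + 2)) (Fin (n + 2)) F) ≠ 0 := fun h => h1 (by
      have := congrArg (· ᵥ* (c : Matrix (Fin (n + 2)) (Fin (n + 2)) F)) h
      simpa only [vecMul_vecMul, sl_coe_inv_mul, vecMul_one, zero_vecMul] using this)
    obtain ⟨s, hs⟩ := exists_smul_of_vecMulVec_eq e e1
    have e2 : ((c⁻¹ : SL (Fin (n + 2)) F) : Matrix (Fin (n + 2)) (Fin (n + 2)) F) *ᵥ ((c : Matrix (Fin (n + 2)) (Fin (n + 2)) F) *ᵥ v n) = v n := by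
      rw [mulVec_mulVec, sl_coe_inv_mul, one_mulVec]
    have hs1 : s = 1 := zmod2 _ fun h => hv (by rw [← e2, hs, h, zero_smul, mulVec_zero])
    rw [hs1, one_smul] at hs
    rw [hs] at e2
    set χ := v n ᵥ* ((c⁻¹ : SL (Fin (n + 2)) F) : Matrix (Fin (n + 2)) (Fin (n + 2)) F) with hχ
    have hχ0 : χ 0 = 1 := by rw [← dv n χ, hχ, ← dotProduct_mulVec, e2, dv]; simp
    refine ⟨(tt χ)⁻¹, inv_mem (tt χ).2, tt χ * c, ⟨?_, ?_⟩, by group⟩
    · rw [sl_coe_mul, ← mulVec_mulVec, hs, coe_U (tt χ).2, add_mulVec, vecMulVec_mulVec, dv,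
        vec_zero (tt χ).2, one_mulVec]
      simp
    · rw [sl_coe_mul, ← vecMul_vecMul, ← sub_add_cancel (v n ᵥ* _) (v n)]
      change (vec _ + v n) ᵥ* _ = _
      rw [vec_tt, hχ0, one_smul, sub_add_cancel, hχ, vecMul_vecMul, sl_coe_inv_mul, vecMul_one]

end

/-- Let G be the special linear group of degree n + 2 over the field with two elements, n ≥ 2, let z be a transvection, and let Q be the largest normal 2-subgroup of the centralizer C of z. Then Q is extraspecial of order 2^(2n+1) with an elementary abelian subgroup of order 2^(n+1) (plus type), Q is a large extraspecial 2-subgroup of G, and C is the split extension of Q by the special linear group of degree n over the field with two elements. -/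
theorem result (n : ℕ) (hn : 2 ≤ n) (z : Matrix.SpecialLinearGroup (Fin (n + 2)) (ZMod 2)) (hz : (z : Matrix (Fin (n + 2)) (Fin (n + 2)) (ZMod 2)) = Matrix.transvection 0 1 1) (Q : Subgroup (Matrix.SpecialLinearGroup (Fin (n + 2)) (ZMod 2))) (hQ : Q = (Cfsg.pCore 2 ↥(Subgroup.centralizer ({z} : Set (Matrix.SpecialLinearGroup (Fin (n + 2)) (ZMod 2))))).map (Subgroup.centralizer ({z} : Set (Matrix.SpecialLinearGroup (Fin (n + 2)) (ZMod 2)))).subtype) : Cfsg.IsExtraspecial 2 ↥Q ∧ Nat.card ↥Q = 2 ^ (2 * n + 1) ∧ (∃ E : Subgroup (Matrix.SpecialLinearGroup (Fin (n + 2)) (ZMod 2)), E ≤ Q ∧ Cfsg.IsElementaryAbelian 2 E ∧ Nat.card ↥E = 2 ^ (n + 1)) ∧ Cfsg.IsLargeExtraspecial Q ∧ ∃ K : Subgroup (Matrix.SpecialLinearGroup (Fin (n + 2)) (ZMod 2)), K ≤ Subgroup.centralizer ({z} : Set (Matrix.SpecialLinearGroup (Fin (n + 2)) (ZMod 2))) ∧ Q ⊓ K = ⊥ ∧ Q ⊔ K = Subgroup.centralizer ({z} : Set (Matrix.SpecialLinearGroup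 (Fin (n + 2)) (ZMod 2))) ∧ Nonempty (↥K ≃* Matrix.SpecialLinearGroup (Fin n) (ZMod 2)) := by
  obtain ⟨h1, h2, h3, h4, K, h5, h6, h7, ⟨e⟩⟩ := (hol hn z hz).main hQ
  obtain ⟨e'⟩ := gl_sl n
  exact ⟨h1, h2, h3, h4, K, h5, h6, h7, ⟨e.trans e'⟩⟩

end Cfsg.Agent.S5424
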