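import Cfsg.Statements.S5425
import Cfsg.Agent.S5424
import Cfsg.Agent.Lib.Golay.Blk
import Cfsg.Agent.Lib.Golay.Label
import Mathlib.LinearAlgebra.Matrix.GeneralLinearGroup.Card

set_option autoImplicit false
open Cfsg

namespace Cfsg.Agent.S5425

open Subgroup Cfsg.Lib Cfsg.Lib.Small Cfsg.Lib.Golay
open scoped Pointwise
set_option maxRecDepth 100000

theorem hol_map {G : Type*} [Group G] {U M : Subgroup G} {z : G} {n : ℕ} (h : Hol U M z n)
    (e : G ≃* G) : Hol (U.map e.toMonoidHom) (M.map e.toMonoidHom) (e z) n := by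
  refine ⟨?_, ?_, ?_, h.pos, ?_, ?_, fun φ => ?_, ⟨z, h.zU, rfl⟩, fun h1 => h.ne (e.injective (by simpa using h1)), fun c hc => ?_⟩
  · rintro _ ⟨x, hx, rfl⟩ _ ⟨y, hy, rfl⟩
    rw [← map_mul, ← map_mul, h.comm x hx y hy]
  · rintro _ ⟨x, hx, rfl⟩
    rw [← map_mul, h.sq x hx, map_one]
  · rw [← h.card]; exact (Nat.card_congr (e.subgroupMap U).toEquiv).symm
  · rintro _ ⟨m, hm, rfl⟩ _ ⟨u, hu, rfl⟩
    exact ⟨_, h.norm m hm u hu, by simp⟩
  · rintro _ ⟨m, hm, rfl⟩ hf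
    rw [h.faith m hm fun u hu => e.injective (by simpa using hf _ ⟨u, hu, rfl⟩), map_one]
  · obtain ⟨m, hm, hf⟩ := h.full ((e.subgroupMap U).trans (φ.trans (e.subgroupMap U).symm))
    refine ⟨e m, ⟨m, hm, rfl⟩, fun u => ?_⟩
    obtain ⟨u, rfl⟩ := (e.subgroupMap U).surjective u
    have h1 := congrArg e (hf u)
    rw [map_mul, map_mul, map_inv] at h1
    refine Eq.trans ?_ h1
    have : ∀ v : U.map (e : G →* G), (v : G) = e ((e.subgroupMap U).symm v : U) := fun v => by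
      conv_lhs => rw [← (e.subgroupMap U).apply_symm_apply v]
      rfl
    exact this _
  · obtain ⟨u, hu, m, hm, e1⟩ := h.cen (e.symm c) (e.injective (by simpa using hc))
    exact ⟨e u, ⟨u, hu, rfl⟩, e m, ⟨m, hm, rfl⟩, by rw [← map_mul, ← e1, e.apply_symm_apply]⟩

theorem full_of_card {G : Type*} [Group G] [Finite G] {U M : Subgroup G}
    (norm : ∀ m ∈ M, ∀ u ∈ U, m * u * m⁻¹ ∈ U) (faith : ∀ m ∈ M, (∀ u ∈ U, m * u * m⁻¹ = u) → m = 1)
    (hc : Nat.card (MulAut U) ≤ Nat.card M) (φ : U ≃* U) :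
    ∃ m ∈ M, ∀ u : U, ((φ u : U) : G) = m * u * m⁻¹ := by
  have hle : M ≤ normalizer (U : Set G) := fun m hm => mem_normalizer_fintype (norm m hm)
  let f : M →* MulAut U := U.normalizerMonoidHom.comp (inclusion hle)
  have hf : ∀ (m : M) (u : U), ((f m u : U) : G) = m * u * (m : G)⁻¹ := fun _ _ => rfl
  have hi : Function.Injective f := (injective_iff_map_eq_one f).2 fun m h1 =>
    Subtype.ext (faith m m.2 fun u hu => by rw [← hf m ⟨u, hu⟩, h1]; rfl)
  haveI : Finite (MulAut U) := Finite.of_injective (fun e : MulAut U => e.toEquiv) MulEquiv.toEquiv_injective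
  obtain ⟨m, rfl⟩ := (hi.bijective_of_nat_card_le hc).2 φ
  exact ⟨m, m.2, hf m⟩

theorem hol0 {z : M24} (h1 : z ≠ 1) (hz : ∀ p, (z : Equiv.Perm GolayPt) p = p ↔ p ∈ om 0x82402f) :
    Hol (E16.subgroupOf M24) ((HO ⊓ MulAction.stabilizer (Equiv.Perm GolayPt) (gc.pt 4)).subgroupOf M24) z 3 := by
  have sq : ∀ x ∈ E16.subgroupOf M24, x * x = 1 := fun x hx => Subtype.ext (E16_sq hx)
  have comm : ∀ x ∈ E16.subgroupOf M24, ∀ y ∈ E16.subgroupOf M24, x * y = y * x := fun x hx y hy => by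
    have a := sq _ (mul_mem hx hy)
    rw [← inv_eq_of_mul_eq_one_right a, mul_inv_rev, inv_eq_of_mul_eq_one_right (sq x hx),
      inv_eq_of_mul_eq_one_right (sq y hy)]
  have card : Nat.card (E16.subgroupOf M24) = 2 ^ (3 + 1) := by
    rw [Nat.card_congr (subgroupOfEquivOfLe inf_le_left).toEquiv, card_E16]; rfl
  have norm : ∀ m ∈ (HO ⊓ MulAction.stabilizer (Equiv.Perm GolayPt) (gc.pt 4)).subgroupOf M24,
      ∀ u ∈ E16.subgroupOf M24, m * u * m⁻¹ ∈ E16.subgroupOf M24 := fun m hm u hu => by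
    refine mem_E16.2 ⟨(m * u * m⁻¹).2, fun p hp => ?_⟩
    have : (m : Equiv.Perm GolayPt)⁻¹ p ∈ om 0x82402f :=
      (apply_mem_iff_of_smul_eq (HO.inv_mem hm.1).2 _).2 hp
    show (m : Equiv.Perm GolayPt) ((u : Equiv.Perm GolayPt) ((m : Equiv.Perm GolayPt)⁻¹ p)) = p
    rw [show (u : Equiv.Perm GolayPt) _ = _ from (mem_E16.1 hu).2 _ this]; simp
  have faith : ∀ m ∈ (HO ⊓ MulAction.stabilizer (Equiv.Perm GolayPt) (gc.pt 4)).subgroupOf M24,
      (∀ u ∈ E16.subgroupOf M24, m * u * m⁻¹ = u) → m = 1 := fun m hm hf => by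
    refine Subtype.ext (eq_one_of_fix_off hm.1 fun p hp => ?_)
    obtain ⟨e, he, rfl⟩ := exists_E16 pt4_not_mem hp
    have a := congrArg (fun x : M24 => (x : Equiv.Perm GolayPt) ((m : Equiv.Perm GolayPt) (gc.pt 4)))
      (hf ⟨e, he.1⟩ he)
    have b : (m : Equiv.Perm GolayPt) (gc.pt 4) = gc.pt 4 := hm.2
    simp only [coe_mul, coe_inv, Equiv.Perm.mul_apply, Equiv.Perm.inv_def, Equiv.symm_apply_apply] at a
    rwa [b] at a
  refine ⟨comm, sq, card, by norm_num, norm, faith, full_of_card norm faith ?_,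
    mem_E16.2 ⟨z.2, fun p hp => (hz p).2 hp⟩, h1, fun c hc => ?_⟩
  · obtain ⟨e⟩ := mulAut_equiv_GL (W := E16.subgroupOf M24) (p := 2) (n := 4)
      (fun x y => Subtype.ext (comm _ x.2 _ y.2)) (fun x => Subtype.ext (by rw [pow_two]; exact sq _ x.2)) card
    rw [Nat.card_congr e.toEquiv, Matrix.card_GL_field,
      Nat.card_congr (subgroupOfEquivOfLe (inf_le_left.trans inf_le_left)).toEquiv,
      (stab_pt_cert gen_gHO inH_gHO 4 (by decide) (n := 16) (N := 20160) card_HO (by decide +kernel)).2]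
    simp [Fin.prod_univ_succ]
  · have hg : (c : Equiv.Perm GolayPt) ∈ HO := by
      refine ⟨c.2, Finset.eq_of_subset_of_card_le (fun x hx => ?_) (by rw [Finset.card_smul_finset])⟩
      obtain ⟨y, hy, rfl⟩ := Finset.mem_smul_finset.mp hx
      exact (hz _).1 (fix_of_comm (congrArg Subtype.val hc) ((hz y).2 hy))
    obtain ⟨e, he, h⟩ := exists_E16 pt4_not_mem ((apply_mem_iff_of_smul_eq hg.2 _).not.mpr pt4_not_mem)
    refine ⟨⟨e, he.1⟩, he, (⟨e, he.1⟩ : M24)⁻¹ * c, ⟨HO.mul_mem (HO.inv_mem (E16_le he)) hg, ?_⟩, by simp⟩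
    show e⁻¹ ((c : Equiv.Perm GolayPt) _) = _
    rw [← h]; simp

/-- In the Mathieu group of degree 24 (the automorphism group of the length-24 binary Golay code, acting on the 24 coordinates), let z be an involution whose fixed points form an octad (the support of a code word of weight 8), and let Q be the largest normal 2-subgroup of the centralizer C of z. Then Q is extraspecial of order 2^7 with an elementary abelian subgroup of order 16 (plus type), Q is a large extraspecial 2-subgroup, and C is the split extension of Q by the special linear group of degree 3 over the field with two elements. -/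
theorem result (z : ↥Cfsg.M24) (hz : orderOf z = 2) (hfix : (Finset.univ.filter fun p : Cfsg.GolayPt => (z : Equiv.Perm Cfsg.GolayPt) p = p) ∈ Cfsg.octads) (Q : Subgroup ↥Cfsg.M24) (hQ : Q = (Cfsg.pCore 2 ↥(Subgroup.centralizer ({z} : Set ↥Cfsg.M24))).map (Subgroup.centralizer ({z} : Set ↥Cfsg.M24)).subtype) : Cfsg.IsExtraspecial 2 ↥Q ∧ Nat.card ↥Q = 2 ^ 7 ∧ (∃ E : Subgroup ↥Cfsg.M24, E ≤ Q ∧ Cfsg.IsElementaryAbelian 2 E ∧ Nat.card ↥E = 2 ^ 4) ∧ Cfsg.IsLargeExtraspecial Q ∧ ∃ K : Subgroup ↥Cfsg.M24, K ≤ Subgroup.centralizer ({z} : Set ↥Cfsg.M24) ∧ Q ⊓ K = ⊥ ∧ Q ⊔ K = Subgroup.centralizer ({z} : Set ↥Cfsg.M24) ∧ Nonempty (↥K ≃* Matrix.SpecialLinearGroup (Fin 3) (ZMod 2)) := by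
  obtain ⟨σ, hσ, e⟩ := std_octad hfix
  have h1 : z ≠ 1 := by rintro rfl; simp at hz
  let s : M24 := ⟨σ, hσ⟩
  have h0 := hol0 (z := s⁻¹ * z * s) (fun h => h1 (by
    rw [show z = s * (s⁻¹ * z * s) * s⁻¹ by group, h]; group)) fun p => by
      rw [← smul_mem_smul' σ, ← e, Finset.mem_filter]
      simp only [Finset.mem_univ, true_and]
      show σ⁻¹ ((z : Equiv.Perm GolayPt) (σ p)) = p ↔ (z : Equiv.Perm GolayPt) (σ p) = σ p
      exact Equiv.Perm.inv_eq_iff_eq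
  have h2 := hol_map h0 (MulAut.conj s)
  rw [show MulAut.conj s (s⁻¹ * z * s) = z by rw [MulAut.conj_apply]; group] at h2
  obtain ⟨a, b, c, d, K, k1, k2, k3, ⟨k4⟩⟩ := h2.main hQ
  obtain ⟨f⟩ := S5424.gl_sl 3
  exact ⟨a, b, c, d, K, k1, k2, k3, ⟨k4.trans f⟩⟩

end Cfsg.Agent.S5425
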