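import Cfsg.Statements.S5427
import Cfsg.Agent.Lib.Known2.LE4

set_option autoImplicit false
open Cfsg

namespace Cfsg.Agent.S5427
open Cfsg.Lib.Known2 Cfsg.Lib.Amalg Cfsg.Lib.Core Subgroup

/-- Let z be an involution of the finite group G whose centralizer C has generalized Fitting subgroup Q, an extraspecial 2-group of width at least 2 (order 2^(2w+1), w ≥ 2). Let K be a subgroup of G such that the subgroup U generated by the K-conjugates of z is abelian and C is generated by the C-conjugates of U. Suppose that either some K-conjugate of z other than z lies in Q, or some element u of U ∩ Q outside the subgroup generated by z has z in the largest normal 2-subgroup of its centralizer. Then G is simple and Q is a large extraspecial 2-subgroup of G. -/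
theorem result {G : Type*} [Group G] [Finite G] (z : G) (hz : orderOf z = 2) (Q : Subgroup G) (hQC : Q ≤ Subgroup.centralizer ({z} : Set G)) (hF : (Cfsg.generalizedFittingSubgroup ↥(Subgroup.centralizer ({z} : Set G))).map (Subgroup.centralizer ({z} : Set G)).subtype = Q) (hQ : Cfsg.IsExtraspecial 2 ↥Q) (w : ℕ) (hw : 2 ≤ w) (hcard : Nat.card ↥Q = 2 ^ (2 * w + 1)) (K U : Subgroup G) (hU : U = Subgroup.closure {x : G | ∃ k ∈ K, x = k * z * k⁻¹}) (hUab : IsMulCommutative ↥U) (hgen : Subgroup.closure {x : G | ∃ c ∈ Subgroup.centralizer ({z} : Set G), ∃ u ∈ U, x = c * u * c⁻¹} = Subgroup.centralizer ({z} : Set G)) (h3 : (∃ k ∈ K, k * z * k⁻¹ ∈ Q ∧ k * z * k⁻¹ ≠ z) ∨ ∃ u ∈ U ⊓ Q, u ∉ Subgroup.zpowers z ∧ (∃ hz' : z ∈ Subgroup.centralizer ({u} : Set G), (⟨z, hz'⟩ : ↥(Subgroup.centralizer ({u} : Set G))) ∈ Cfsg.pCore 2 ↥(Subgroup.centralizer ({u} : Set G)))) : IsSimpleGroup G ∧ Cfsg.IsLargeExtraspecial Q := by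
  obtain ⟨h, hO⟩ := ls_of_fstar hz hF hQ
  have hc : 8 < Nat.card Q := by
    rw [hcard]
    calc 8 < 2 ^ 5 := by norm_num
      _ ≤ _ := Nat.pow_le_pow_right (by norm_num) (by omega)
  have hUM : U ≤ normalClosure ({z} : Set G) := by
    rw [hU, closure_le]
    rintro _ ⟨k, -, rfl⟩
    exact (normalClosure_normal (s := {z})).conj_mem z (subset_normalClosure (Set.mem_singleton z)) k
  have hK : ∀ K : Subgroup G, Odd (Nat.card K) → Q ≤ 𝐍 K → K = ⊥ := by
    rcases h3 with ⟨k, -, hb, hne⟩ | ⟨u, hu, hu1, hz', hu2⟩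
    · have h1 := h.conj k
      have hzQ := h.sym hb hc
      exact h.odd_eq_bot hb h1.ne hne h1.sq fun c hc =>
        ⟨2, h1.toES.pow_four (mul_mem (h1.norm c hc _ hzQ) (inv_mem hzQ))⟩
    · rw [h.toES.mem_zp, not_or] at hu1
      have huu : u * u = 1 := by
        have : ∀ x ∈ U, x * x = 1 := by
          intro x hx
          have hx' := hx
          rw [hU] at hx'
          induction hx' using closure_induction with
          | mem x hx2 => obtain ⟨k, -, rfl⟩ := hx2; exact h.conj_sq k
          | one => simp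
          | mul a b ha hb iha ihb =>
            rw [← hU] at ha hb
            have e : a * b = b * a := congrArg Subtype.val (hUab.1.1 ⟨a, ha⟩ ⟨b, hb⟩)
            rw [mul_assoc, ← mul_assoc b, ← e, mul_assoc, ihb hb, mul_one, iha ha]
          | inv a ha ih =>
            rw [← hU] at ha
            rw [← mul_inv_rev, ih ha, inv_one]
        exact this u hu.1
      refine h.odd_eq_bot hu.2 hu1.1 hu1.2 huu fun k hk => ?_
      have hzO : z ∈ pCoreOf 2 (centralizer ({u} : Set G)) := ⟨_, hu2, rfl⟩
      have h1 := mul_mem ((mem_normalizer_iff.1 (le_norm_op (p := 2) _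
        (mem_cent_single.2 hk)) _).1 hzO) (inv_mem hzO)
      exact isPGroup_iff_mem.1 (op_isPGroup _) _ h1
  refine ⟨h.simple hK hO ?_, h.large hK⟩
  rw [← hgen, closure_le]
  rintro _ ⟨c, -, u, hu, rfl⟩
  exact (normalClosure_normal (s := {z})).conj_mem u (hUM hu) c

end Cfsg.Agent.S5427
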