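import Cfsg.Statements.S5428
import Cfsg.Agent.Lib.Known2.LE5

set_option autoImplicit false
open Cfsg

namespace Cfsg.Agent.S5428
open Cfsg.Lib.Known2 Cfsg.Lib.Amalg Cfsg.Lib.Core Subgroup

theorem le_odd_sup {G : Type*} [Group G] [Finite G] {z : G} (hz : orderOf z = 2) (hc : z ∈ center G)
    (h4 : ¬ 4 ∣ Nat.card G) (x : G) : x ∈ oddCore G ∨ x * z ∈ oddCore G := by
  have : (zpowers z).Normal := ⟨fun n hn g => by
    rwa [mem_center_iff.1 (zpowers_le_of_mem hc hn) g, mul_inv_cancel_right]⟩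
  have hcard := card_mul_index (zpowers z)
  rw [Nat.card_zpowers, hz] at hcard
  have hodd : Odd (zpowers z).index := by
    by_contra ho
    obtain ⟨k, hk⟩ := Nat.not_odd_iff_even.1 ho
    exact h4 ⟨k, by omega⟩
  obtain ⟨K, hK⟩ := exists_right_complement'_of_coprime (N := zpowers z)
    (by rw [Nat.card_zpowers, hz]; exact Nat.coprime_two_left.2 hodd)
  have zz := mul_self_of_orderOf_two hz
  have dec : ∀ x : G, x ∈ K ∨ x * z ∈ K := by
    intro x
    obtain ⟨⟨a, k⟩, e, -⟩ := hK.existsUnique x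
    rcases (mem_zpowers_invol zz).1 a.2 with e' | e'
    · left; rw [← e]; simp [e']
    · right; rw [← e]; simp only [e']
      rw [mem_center_iff.1 hc, ← mul_assoc, zz, one_mul]; exact k.2
  have : K.Normal := ⟨fun k hk g => by
    rcases dec g with e | e
    · exact mul_mem (mul_mem e hk) (inv_mem e)
    · have := mul_mem (mul_mem e hk) (inv_mem e)
      rwa [mul_inv_rev, mul_assoc g, ← mem_center_iff.1 hc k, ← mul_assoc g, mul_assoc _ z,
        mul_inv_cancel_left] at this⟩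
  have hKO : K ≤ oddCore G := le_oddCore (by rw [← hK.symm.index_eq_card]; exact hodd)
  exact (dec x).imp (fun h => hKO h) (fun h => hKO h)

/-- Let z be an involution of the finite group G whose centralizer C has generalized Fitting subgroup Q extraspecial (as a 2-group), let A be a subgroup of C of odd order, and let R be the centralizer of A in Q; suppose R has order at least 32, the largest normal subgroup of odd order of the centralizer of the subgroup generated by A and R lies in A, the order of that centralizer is not divisible by 4, and g is an element of G with g z g⁻¹ in R but outside the centre Z of Q. Let M be the subgroup generated by A and the centralizer of A (A is normal in it). Then: the centralizer in M of the subgroup generated by R and A, joined with A, equals the subgroup generated by A and Z; the image of R in M/A is a large extraspecial 2-subgroup of M/A; and g z g⁻¹ is conjugate to z inside the subgroup generated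 by R and the centralizer of A in g Q g⁻¹. -/
theorem result {G : Type*} [Group G] [Finite G] (z : G) (hz : orderOf z = 2) (Q : Subgroup G) (hQC : Q ≤ Subgroup.centralizer ({z} : Set G)) (hF : (Cfsg.generalizedFittingSubgroup ↥(Subgroup.centralizer ({z} : Set G))).map (Subgroup.centralizer ({z} : Set G)).subtype = Q) (hQ : Cfsg.IsExtraspecial 2 ↥Q) (A : Subgroup G) (hA : A ≤ Subgroup.centralizer ({z} : Set G)) (hAodd : Odd (Nat.card ↥A)) (R : Subgroup G) (hR : R = Q ⊓ Subgroup.centralizer (A : Set G)) (hR32 : 32 ≤ Nat.card ↥R) (hO : (Cfsg.oddCore ↥(Subgroup.centralizer ((A ⊔ R : Subgroup G) : Set G))).map (Subgroup.centralizer ((A ⊔ R : Subgroup G) : Set G)).subtype ≤ A) (h4 : ¬ 4 ∣ Nat.card ↥(Subgroup.centralizer ((A ⊔ R : Subgroup G) : Set G))) (g : G) (hgR : g * z * g⁻¹ ∈ R) (hgZ : g * z * g⁻¹ ∉ ((Subgroup.center ↥Q).map Q.subtype)) (M : Subgroup G) (hM : M = Subgroup.centralizer (A : Set G) ⊔ A) [hn : (A.subgroupOf M).Normal] :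 (M ⊓ Subgroup.centralizer ((R ⊔ A : Subgroup G) : Set G)) ⊔ A = A ⊔ ((Subgroup.center ↥Q).map Q.subtype) ∧ Cfsg.IsLargeExtraspecial ((R.subgroupOf M).map (QuotientGroup.mk' (A.subgroupOf M))) ∧ ∃ x ∈ R ⊔ ((Q).map (MulAut.conj g).toMonoidHom ⊓ Subgroup.centralizer (A : Set G)), x * (g * z * g⁻¹) * x⁻¹ = z := by
  obtain ⟨h, -⟩ := ls_of_fstar hz hF hQ
  have hRQ : R ≤ Q := hR ▸ inf_le_left
  have hc : 8 < Nat.card Q := lt_of_lt_of_le (by omega) (card_le_of_le hRQ)
  rw [h.toES.center_eq] at hgZ ⊢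
  rw [h.toES.mem_zp, not_or] at hgZ
  have h1 := h.conj g
  have hgQ := hRQ hgR
  have hzQ := h.sym hgQ hc
  have hAN : A ≤ 𝐍 Q := hA.trans h.cent_le_norm
  have zA : z ∈ 𝐂 A := mem_centralizer_comm.2 fun a ha => mem_cent_single.1 (hA ha)
  have bA : g * z * g⁻¹ ∈ 𝐂 A := (hR ▸ hgR : _ ∈ Q ⊓ 𝐂 A).2
  have zR : z ∈ R := hR ▸ ⟨h.mem, zA⟩
  have hAN1 : A ≤ 𝐍 (cj g Q) := fun a ha => h1.mem_norm (mem_centralizer_comm.1 bA a ha)
  have hRA : R ≤ 𝐂 A := hR ▸ inf_le_right
  have zC : z ∈ 𝐂 (A ⊔ R : Subgroup G) := by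
    rw [mem_centralizer_comm]
    exact fun x hx => mem_cent_single.1 (sup_le hA (hRQ.trans h.toES.le_cent) hx)
  have hC0 : ∀ c ∈ 𝐂 (A ⊔ R : Subgroup G), c ∈ A ∨ c * z ∈ A := by
    intro c hc
    have := le_odd_sup (G := 𝐂 (A ⊔ R : Subgroup G)) (z := ⟨z, zC⟩) (by rw [← orderOf_coe]; exact hz)
      (mem_center_iff.2 fun y => Subtype.ext (mem_centralizer_comm.1 y.2 z (mem_sup_right zR)).symm) h4
      ⟨c, hc⟩
    exact this.imp (fun e => hO ⟨_, e, rfl⟩) (fun e => hO ⟨_, e, rfl⟩)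
  obtain ⟨y, hy, y2⟩ : ∃ y ∈ R, g * z * g⁻¹ * y ≠ y * (g * z * g⁻¹) := by
    by_contra hn
    push Not at hn
    rcases h.toES.cent_odd_center hAN hAodd (hR ▸ hgR) (hR ▸ hn) with e | e
    exacts [hgZ.1 e, hgZ.2 e]
  obtain ⟨x, hx, x2⟩ : ∃ x ∈ cj g Q ⊓ 𝐂 A, z * x ≠ x * z := by
    by_contra hn
    push Not at hn
    rcases h1.toES.cent_odd_center hAN1 hAodd ⟨hzQ, zA⟩ hn with e | e
    exacts [h.ne e, hgZ.2 e.symm]
  refine ⟨le_antisymm (sup_le ?_ le_sup_left) (sup_le le_sup_right (zpowers_le_of_mem (mem_sup_left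
    ⟨hM ▸ mem_sup_left zA, by rw [sup_comm]; exact zC⟩))), ?_, y * x * y,
    mul_mem (mul_mem (mem_sup_left hy) (mem_sup_right hx)) (mem_sup_left hy),
    (h.swap hgQ h1.sq (hRQ hy) (Ne.symm y2) (h1.cen x hx.1) (h1.toES.conj_anti hx.1 hzQ (Ne.symm x2))).2⟩
  · intro c hc
    rcases hC0 c (by rw [sup_comm]; exact hc.2) with e | e
    · exact mem_sup_left e
    · have := mul_mem_sup e (mem_zpowers z)
      rwa [mul_assoc, h.sq, mul_one] at this
  set π := QuotientGroup.mk' (A.subgroupOf M) with hπ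
  have hCM : 𝐂 A ≤ M := hM ▸ le_sup_left
  have ker : ∀ x : M, π x = 1 ↔ (x : G) ∈ A := fun x => QuotientGroup.eq_one_iff x
  have odd1 : ∀ a ∈ A, a ^ 2 ^ 2 = 1 → a = 1 := fun a ha e => eq_one_of_odd_of_two hAodd ha e
  have lift : ∀ k, ∃ c : M, (c : G) ∈ 𝐂 A ∧ π c = k := by
    intro k
    obtain ⟨⟨k, hk⟩, rfl⟩ := QuotientGroup.mk'_surjective _ k
    obtain ⟨c, hc, a, ha, rfl⟩ := (mem_sup_of_le_normalizer (cent_le_norm A)).1 (hM ▸ hk)
    refine ⟨⟨c, hCM hc⟩, hc, ?_⟩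
    have : (⟨c * a, hk⟩ : M) = ⟨c, hCM hc⟩ * ⟨a, hM ▸ mem_sup_right ha⟩ := rfl
    rw [← hπ, this, map_mul, (ker ⟨a, _⟩).2 ha, mul_one]
  -- commuting modulo `A` with an involution of `C(A)` means commuting
  have cjq : ∀ c x : M, (c : G) ∈ 𝐂 A → (x : G) ∈ 𝐂 A → (x : G) ^ 2 ^ 2 = 1 → π c * π x = π x * π c →
      (c : G) * x = x * c := by
    intro c x hc hx x4 e
    have m : (c : G) * x * (c : G)⁻¹ * (x : G)⁻¹ ∈ A :=
      (ker (c * x * c⁻¹ * x⁻¹)).1 (by simp only [map_mul, map_inv, e]; group)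
    have cm : Commute ((c : G) * x * (c : G)⁻¹) (x : G)⁻¹ := by
      have := mem_centralizer_comm.1 hx _ m
      have k : Commute ((c : G) * x * (c : G)⁻¹ * (x : G)⁻¹ * x) (x : G) :=
        (show Commute _ (x : G) from this).mul_left rfl
      rw [inv_mul_cancel_right] at k
      exact k.inv_right
    have := odd1 _ m (by rw [cm.mul_pow, conj_pow, inv_pow, x4]; group)
    exact comm_of_conj_eq (mul_inv_eq_one.1 this)
  have zM := hCM zA
  have e0 : ES ((R.subgroupOf M).map π) (π ⟨z, zM⟩) := by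
    refine es_map h.toES hRQ zR zM π ?_ ?_ ⟨⟨_, hCM bA⟩, hgR, ⟨y, hCM (hRA hy)⟩, hy, y2⟩
    · rw [Ne, ker]; exact fun e => h.ne (odd1 z e (h.toES.pow_four h.mem))
    · intro x hx H
      rcases h.toES.cent_odd_center hAN hAodd (hR ▸ hx) (fun y hy => H ⟨y, hCM hy.2⟩ (hR ▸ hy)) with e | e
      · left; rw [ker, e]; exact one_mem _
      · right; congr 1; exact Subtype.ext e
  have l0 : LS ((R.subgroupOf M).map π) (π ⟨z, zM⟩) := by
    refine ⟨e0, fun k hk => ?_, fun k hk x hx => ?_⟩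
    · obtain ⟨c, hc, rfl⟩ := lift k
      have : (c : G) ∈ 𝐂 (A ⊔ R : Subgroup G) := by
        refine le_cent_symm (H := A ⊔ R) (K := zpowers (c : G)) (sup_le (fun a ha => ?_) fun r hr => ?_)
          (mem_zpowers _) <;> rw [mem_cent_zpowers]
        · exact mem_centralizer_comm.1 hc a ha
        · exact (cjq c ⟨r, hCM (hRA hr)⟩ hc (hRA hr) (h.toES.pow_four (hRQ hr)) (hk _ ⟨_, hr, rfl⟩)).symm
      rcases hC0 c this with e | e
      · exact Or.inl ((ker c).2 e)
      · right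
        have := (ker (c * ⟨z, zM⟩)).2 e
        rw [map_mul] at this
        rw [eq_inv_of_mul_eq_one_left this, e0.inv_z]
    · obtain ⟨c, hc, rfl⟩ := lift k
      obtain ⟨x, hx, rfl⟩ := hx
      have hx' : (x : G) ∈ R := hx
      refine ⟨c * x * c⁻¹, ?_, by simp [hπ]⟩
      show (c : G) * x * (c : G)⁻¹ ∈ R
      rw [hR]
      exact ⟨h.norm c (cjq c ⟨z, zM⟩ hc zA (h.toES.pow_four h.mem) hk) x (hRQ hx'),
        (𝐂 A).mul_mem ((𝐂 A).mul_mem hc (hRA hx')) ((𝐂 A).inv_mem hc)⟩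
  refine l0.large (l0.odd_eq_bot (b := π ⟨_, hCM bA⟩) ⟨_, hgR, rfl⟩ ?_ ?_ ?_ ?_)
  · rw [Ne, ker]; exact fun e => h1.ne (odd1 _ e (h1.toES.pow_four h1.mem))
  · intro e
    have := (ker (⟨_, hCM bA⟩ * ⟨z, zM⟩)).1 (by rw [map_mul, e, e0.sq])
    have := odd1 _ this (h.toES.pow_four (mul_mem hgQ h.mem))
    exact hgZ.2 ((eq_inv_of_mul_eq_one_left this).trans h.toES.inv_z)
  · rw [← map_mul, ← map_one π]; congr 1; exact Subtype.ext h1.sq
  · intro k hk
    obtain ⟨c, hc, rfl⟩ := lift k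
    have hkb := cjq c ⟨_, hCM bA⟩ hc bA (h1.toES.pow_four h1.mem) hk
    refine ⟨2, ?_⟩
    rw [← map_inv, ← map_inv, ← map_mul, ← map_mul, ← map_mul, ← map_pow, ← map_one π]
    congr 1
    exact Subtype.ext (h1.toES.pow_four (mul_mem (h1.norm c hkb _ hzQ) (inv_mem hzQ)))

end Cfsg.Agent.S5428
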