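import Cfsg.Statements.S5429
import Cfsg.Agent.Lib.Known2.LE5
import Cfsg.Agent.Lib.Invol.Classes

set_option autoImplicit false
open Cfsg

namespace Cfsg.Agent.S5429
open Cfsg.Lib.Known2 Cfsg.Lib.Amalg Cfsg.Lib.Core Subgroup

/-- Let z be an involution of the finite group G with centralizer C whose generalized Fitting subgroup Q is extraspecial of width at least 3 (order 2^(2w+1), w ≥ 3); let g be an element of G with g z g⁻¹ in Q but outside the centre Z of Q, and t an involution lying in both Q and g Q g⁻¹ that is not conjugate to z; write P for the centralizer of t in Q and suppose that the elements of C acting trivially by conjugation on P modulo the subgroup generated by t and z are exactly the elements of Q. Then the image of P in the centralizer of t modulo the subgroup generated by t is a large extraspecial 2-subgroup there, and g z g⁻¹ is conjugate to z inside the subgroup generated by P and the centralizer of t in g Q g⁻¹. -/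
theorem result {G : Type*} [Group G] [Finite G] (z : G) (hz : orderOf z = 2) (Q : Subgroup G) (hQC : Q ≤ Subgroup.centralizer ({z} : Set G)) (hF : (Cfsg.generalizedFittingSubgroup ↥(Subgroup.centralizer ({z} : Set G))).map (Subgroup.centralizer ({z} : Set G)).subtype = Q) (hQ : Cfsg.IsExtraspecial 2 ↥Q) (w : ℕ) (hw : 3 ≤ w) (hcard : Nat.card ↥Q = 2 ^ (2 * w + 1)) (g : G) (hgQ : g * z * g⁻¹ ∈ Q) (hgZ : g * z * g⁻¹ ∉ ((Subgroup.center ↥Q).map Q.subtype)) (t : G) (ht : orderOf t = 2) (htQ : t ∈ Q ⊓ (Q).map (MulAut.conj g).toMonoidHom) (htz : ¬ IsConj z t) (P : Subgroup G) (hP : P = Q ⊓ Subgroup.centralizer ({t} : Set G)) (hCP : ∀ c ∈ Subgroup.centralizer ({z} : Set G), (∀ x ∈ P, ∃ y ∈ Subgroup.closure ({t, z} : Set G), c * x * c⁻¹ = x * y) ↔ c ∈ Q) [hn : ((Subgroup.zpowers t).subgroupOf (Subgroup.centralizer ({t} : Set G))).Normal] : Cfsg.IsLargeExtraspecial ((P.subgroupOf (Subgroup.centralizer ({t} : Set G))).map (QuotientGroup.mk' ((Subgroup.zpowers t).subgroupOf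 (Subgroup.centralizer ({t} : Set G))))) ∧ ∃ x ∈ P ⊔ ((Q).map (MulAut.conj g).toMonoidHom ⊓ Subgroup.centralizer ({t} : Set G)), x * (g * z * g⁻¹) * x⁻¹ = z := by
  obtain ⟨h, -⟩ := ls_of_fstar hz hF hQ
  have hc : 8 < Nat.card Q := by
    rw [hcard]
    calc 8 < 2 ^ 5 := by norm_num
      _ ≤ _ := Nat.pow_le_pow_right (by norm_num) (by omega)
  rw [h.toES.center_eq, h.toES.mem_zp, not_or] at hgZ
  have h1 := h.conj g
  have hzQ := h.sym hgQ hc
  have tt := mul_self_of_orderOf_two ht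
  have t1 := ne_one_of_orderOf_two ht
  have nt : ∀ k, k * z * k⁻¹ ≠ t := fun k e => htz (isConj_iff.2 ⟨k, e⟩)
  have tz : t ≠ z := fun e => nt 1 (by simp [e])
  have ntz : ∀ k, k * z * k⁻¹ ≠ t * z := by
    intro k e
    obtain ⟨y, hy, e'⟩ := h.toES.exists_anti htQ.1 t1 tz
    rw [← h.toES.conj_anti hy htQ.1 (Ne.symm e')] at e
    exact nt (y⁻¹ * k) (by
      calc _ = y⁻¹ * (k * z * k⁻¹) * y := by group
        _ = _ := by rw [e]; group)
  have ntb : ∀ k, k * z * k⁻¹ ≠ t * (g * z * g⁻¹) := by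
    intro k e
    obtain ⟨y, hy, e'⟩ := h1.toES.exists_anti htQ.2 t1 (nt g).symm
    rw [← h1.toES.conj_anti hy htQ.2 (Ne.symm e')] at e
    exact nt (y⁻¹ * k) (by
      calc _ = y⁻¹ * (k * z * k⁻¹) * y := by group
        _ = _ := by rw [e]; group)
  have hzt : z * t = t * z := (h.cen t htQ.1).symm
  have hbt : g * z * g⁻¹ * t = t * (g * z * g⁻¹) := (h1.cen t htQ.2).symm
  have mP : ∀ x, x ∈ P ↔ x ∈ Q ∧ x * t = t * x := fun x => by rw [hP, mem_inf, mem_cent_single]
  constructor
  · set π := QuotientGroup.mk' ((zpowers t).subgroupOf (centralizer ({t} : Set G))) with hπ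
    have ker : ∀ x y : centralizer ({t} : Set G), π x = π y ↔ (y : G) = x ∨ (y : G) = x * t := by
      intro x y
      rw [hπ, QuotientGroup.mk'_apply, QuotientGroup.mk'_apply, QuotientGroup.eq, mem_subgroupOf,
        mem_zpowers_invol tt, coe_mul, coe_inv, inv_mul_eq_iff_eq_mul, inv_mul_eq_iff_eq_mul, mul_one]
    have zH : z ∈ centralizer ({t} : Set G) := mem_cent_single.2 hzt
    have bH : g * z * g⁻¹ ∈ centralizer ({t} : Set G) := mem_cent_single.2 hbt
    have e0 : ES ((P.subgroupOf _).map π) (π ⟨z, zH⟩) := by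
      refine es_map h.toES (fun x hx => ((mP x).1 hx).1) ((mP z).2 ⟨h.mem, hzt⟩) zH π ?_ ?_ ?_
      · rw [← map_one π, ne_comm, Ne, ker]
        rintro (e | e)
        exacts [h.ne e, tz (by simpa using e.symm)]
      · intro x hx H
        rw [← map_one π, eq_comm, ker, eq_comm (a := π x), ker]
        have := h.toES.double_perp htQ.1 ((mP x).1 hx).1 fun y hy e =>
          H ⟨y, mem_cent_single.2 e.symm⟩ ((mP y).2 ⟨hy, e.symm⟩)
        simp only [coe_one, one_mul, hzt]
        tauto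
      · obtain ⟨a, ha, a', ha', e1, e2, e3⟩ := h.toES.exists_anti_cent hc htQ.1
        exact ⟨⟨a, mem_cent_single.2 e1.symm⟩, (mP a).2 ⟨ha, e1.symm⟩, ⟨a', mem_cent_single.2 e2.symm⟩,
          (mP a').2 ⟨ha', e2.symm⟩, e3⟩
    have cjq : ∀ k x : centralizer ({t} : Set G), π k * π x = π x * π k →
        (k : G) * x * (k : G)⁻¹ = x ∨ (k : G) * x * (k : G)⁻¹ = x * t := by
      intro k x e
      exact (ker x (k * x * k⁻¹)).1 (by rw [map_mul, map_mul, e, map_inv]; group)
    have cz : ∀ k : centralizer ({t} : Set G), π k * π ⟨z, zH⟩ = π ⟨z, zH⟩ * π k → (k : G) * z = z * k := by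
      intro k e
      rcases cjq k _ e with e | e
      · exact comm_of_conj_eq e
      · exact absurd (e.trans hzt) (ntz k)
    have l0 : LS ((P.subgroupOf _).map π) (π ⟨z, zH⟩) := by
      refine ⟨e0, fun k hk => ?_, fun k hk x hx => ?_⟩
      · obtain ⟨k, rfl⟩ := QuotientGroup.mk'_surjective _ k
        refine e0.of_cen _ ⟨k, (mP k).2 ⟨?_, mem_cent_single.1 k.2⟩, rfl⟩ hk
        refine (hCP k (mem_cent_single.2 (cz k (hk _ e0.mem)))).1 fun x hx => ?_
        rcases cjq k ⟨x, mem_cent_single.2 ((mP x).1 hx).2⟩ (hk _ ⟨_, hx, rfl⟩) with e | e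
        · exact ⟨1, one_mem _, by simpa using e⟩
        · exact ⟨t, subset_closure (by simp), e⟩
      · obtain ⟨k, rfl⟩ := QuotientGroup.mk'_surjective _ k
        obtain ⟨x, hx, rfl⟩ := hx
        refine ⟨k * x * k⁻¹, (mP _).2 ⟨h.norm k (cz k hk) x ((mP x).1 hx).1,
          mem_cent_single.1 (k * x * k⁻¹).2⟩, by simp [hπ]⟩
    refine l0.large (l0.odd_eq_bot (b := π ⟨_, bH⟩) ⟨_, (mP _).2 ⟨hgQ, hbt⟩, rfl⟩ ?_ ?_ ?_ ?_)
    · rw [← map_one π, ne_comm, Ne, ker]
      rintro (e | e)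
      exacts [hgZ.1 e, nt g (by simpa using e)]
    · rw [ne_comm, Ne, ker]
      rintro (e | e)
      exacts [hgZ.2 e, ntz g (e.trans hzt)]
    · rw [← map_mul, ← map_one π]; congr 1; exact Subtype.ext h1.sq
    · intro k hk
      obtain ⟨k, rfl⟩ := QuotientGroup.mk'_surjective _ k
      have hkb : (k : G) * (g * z * g⁻¹) = (g * z * g⁻¹) * k := by
        rcases cjq k _ hk with e | e
        · exact comm_of_conj_eq e
        · exact absurd (by rw [← hbt, ← e]; group) (ntb (k * g))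
      refine ⟨2, ?_⟩
      rw [← hπ, ← map_inv, ← map_inv, ← map_mul, ← map_mul, ← map_mul, ← map_pow, ← map_one π]
      congr 1
      exact Subtype.ext (h1.toES.pow_four (mul_mem (h1.norm k hkb _ hzQ) (inv_mem hzQ)))
  · obtain ⟨y, hy, y1, y2⟩ : ∃ y ∈ Q, t * y = y * t ∧ g * z * g⁻¹ * y ≠ y * (g * z * g⁻¹) := by
      by_contra hn
      push Not at hn
      rcases h.toES.double_perp htQ.1 hgQ hn with (e | e) | (e | e)
      exacts [hgZ.1 e, hgZ.2 e, nt g e, ntz g e]
    obtain ⟨x, hx, x1, x2⟩ : ∃ x ∈ cj g Q, t * x = x * t ∧ z * x ≠ x * z := by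
      by_contra hn
      push Not at hn
      rcases h1.toES.double_perp htQ.2 hzQ hn with (e | e) | (e | e)
      exacts [h.ne e, hgZ.2 e.symm, tz e.symm, ntb 1 (by simpa using e)]
    have my : y ∈ P := (mP y).2 ⟨hy, y1.symm⟩
    exact ⟨y * x * y, mul_mem (mul_mem (mem_sup_left my) (mem_sup_right ⟨hx, mem_cent_single.2 x1.symm⟩))
      (mem_sup_left my), (h.swap hgQ h1.sq hy (Ne.symm y2) (h1.cen x hx)
        (h1.toES.conj_anti hx hzQ (Ne.symm x2))).2⟩

end Cfsg.Agent.S5429
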