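import Cfsg.Statements.S5430
import Cfsg.Agent.Lib.Known2.LE2

set_option autoImplicit false
open Cfsg

namespace Cfsg.Agent.S5430
open Cfsg.Lib.Known2 Cfsg.Lib.Amalg Cfsg.Lib.Core Subgroup

theorem pCore_perm3 : pCore 2 (Equiv.Perm (Fin 3)) = ⊥ := by
  have : Fact (Nat.Prime 2) := ⟨Nat.prime_two⟩
  rw [eq_bot_iff]
  intro σ hσ
  by_contra hne
  rw [mem_bot] at hne
  have key : ∀ σ : Equiv.Perm (Fin 3), σ ≠ 1 → ∃ g : Equiv.Perm (Fin 3), ∃ k < 2,
      (g * σ * g⁻¹) ^ k * σ ≠ 1 ∧ ((g * σ * g⁻¹) ^ k * σ) ^ 3 = 1 := by decide +kernel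
  obtain ⟨g, k, -, h1, h2⟩ := key σ hne
  have hm : (g * σ * g⁻¹) ^ k * σ ∈ pCore 2 (Equiv.Perm (Fin 3)) :=
    mul_mem (pow_mem (Normal.conj_mem inferInstance _ hσ g) k) hσ
  obtain ⟨n, hn⟩ := isPGroup_iff_mem.1 (isPGroup_pCore 2 _) _ hm
  apply h1
  have := Nat.dvd_gcd (orderOf_dvd_of_pow_eq_one h2) (orderOf_dvd_of_pow_eq_one hn)
  rw [show Nat.gcd 3 (2 ^ n) = 1 from Nat.Coprime.pow_right n (by norm_num), Nat.dvd_one] at this
  exact orderOf_eq_one_iff.1 this

/-- Let Q be a large extraspecial 2-subgroup of the finite group G (extraspecial; centralizer equal to its centre; normal in the centralizer of its centre; normalizing no non-trivial subgroup of odd order) with centre generated by z, an involution, of width w ≥ 2 (order 2^(2w+1)); let g be an element outside the centralizer H of z with g z g⁻¹ in Q; write V for the subgroup generated by z and g z g⁻¹, X for the subgroup generated by Q and g Q g⁻¹, R for the subgroup generated by the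 centralizer of z in g Q g⁻¹ and the centralizer of g z g⁻¹ in Q, and E for the intersection of Q and g Q g⁻¹. Then R is the centralizer of V in X and is the largest normal 2-subgroup of X, and X/R is isomorphic to the symmetric group of degree 3; moreover the normalizer of V is the product of X and the centralizer of V in H, X is normal in it, and modulo R it is the direct product of X/R and of the centralizer of V in H modulo R. -/
theorem result {G : Type*} [Group G] [Finite G] (Q : Subgroup G) (hQ : Cfsg.IsLargeExtraspecial Q) (z : G) (hz : ((Subgroup.center ↥Q).map Q.subtype) = Subgroup.zpowers z) (hz2 : orderOf z = 2) (w : ℕ) (hw : 2 ≤ w) (hcard : Nat.card ↥Q = 2 ^ (2 * w + 1)) (g : G) (hgH : g ∉ Subgroup.centralizer ({z} : Set G)) (hgQ : g * z * g⁻¹ ∈ Q) (V X R E : Subgroup G) (hV : V = Subgroup.closure ({z, g * z * g⁻¹} : Set G)) (hX : X = Q ⊔ (Q).map (MulAut.conj g).toMonoidHom) (hR : R = ((Q).map (MulAut.conj g).toMonoidHom ⊓ Subgroup.centralizer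 ({z} : Set G)) ⊔ (Q ⊓ Subgroup.centralizer ({g * z * g⁻¹} : Set G))) (hE : E = Q ⊓ (Q).map (MulAut.conj g).toMonoidHom) : R = X ⊓ Subgroup.centralizer (V : Set G) ∧ R = (Cfsg.pCore 2 ↥X).map X.subtype ∧ (∃ h : (R.subgroupOf X).Normal, Nonempty (↥X ⧸ R.subgroupOf X ≃* Equiv.Perm (Fin 3))) ∧ Subgroup.normalizer (V : Set G) = X ⊔ (Subgroup.centralizer ({z} : Set G) ⊓ Subgroup.centralizer (V : Set G)) ∧ (∀ y ∈ Subgroup.normalizer (V : Set G), ∀ x ∈ X, y * x * y⁻¹ ∈ X) ∧ R ≤ Subgroup.centralizer ({z} : Set G) ⊓ Subgroup.centralizer (V : Set G) ∧ (∀ x ∈ X, ∀ c ∈ Subgroup.centralizer ({z} : Set G) ⊓ Subgroup.centralizer (V : Set G), x * c * x⁻¹ * c⁻¹ ∈ R) ∧ X ⊓ (Subgroup.centralizer ({z} : Set G) ⊓ Subgroup.centralizer (V : Set G)) = R := by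
  have h := LS.of hQ.1 hQ.2.1 hQ.2.2.1 hz
  have hne : g * z * g⁻¹ ≠ z := fun e => hgH (mem_cent_single.2 (comm_of_conj_eq e))
  have hc : 8 < Nat.card Q := by
    rw [hcard]
    calc 8 < 2 ^ 5 := by norm_num
      _ ≤ _ := Nat.pow_le_pow_right (by norm_num) (by omega)
  have hp := h.lp hgQ hne hc
  have hR' : R = hp.R := hR
  subst hV hX hR'
  obtain ⟨hn, ⟨e⟩, h1, h2⟩ := hp.main
  have hC : centralizer {z} ⊓ 𝐂 (closure ({z, g * z * g⁻¹} : Set G))
      = 𝐂 (closure ({z, g * z * g⁻¹} : Set G)) :=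
    inf_eq_right.2 fun x hx => mem_cent_single.2 (mem_cent_closure_pair.1 hx).1
  rw [hC]
  refine ⟨h1.symm, ?_, ⟨hn, ⟨e⟩⟩, ?_, ?_, hp.R_le_cent, fun x hx => hp.comm_mem_R hx, h1⟩
  · rw [← comap_pCore_quotient _ (Lib.Core.isPGroup_subgroupOf hp.isPGroup_R _),
      (pCore_eq_bot_iff_of_equiv e).2 pCore_perm3, MonoidHom.comap_bot, QuotientGroup.ker_mk',
      map_subgroupOf_of_le hp.R_le_X]
  · refine le_antisymm (fun n hn => ?_) (sup_le hp.X_le_norm (cent_le_norm _))
    obtain ⟨w, hw, e⟩ := h2 n hn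
    simpa using mul_mem_sup hw e
  · intro n hn x hx
    obtain ⟨w, hw, e⟩ := h2 n hn
    have e' := mem_cent_closure_pair.1 e
    have : w⁻¹ * n ∈ 𝐍 (Q ⊔ cj g Q : Subgroup G) :=
      le_normalizer_sup (A := zpowers (w⁻¹ * n)) (zpowers_le_of_mem (hp.l.mem_norm e'.1))
        (zpowers_le_of_mem (hp.r.mem_norm e'.2)) (mem_zpowers _)
    have := mul_mem (le_normalizer hw) this
    rw [mul_inv_cancel_left] at this
    exact (mem_normalizer_iff.1 this x).1 hx

end Cfsg.Agent.S5430
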