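import Cfsg.Statements.S5431
import Cfsg.Agent.Lib.Known2.LE2

set_option autoImplicit false
open Cfsg

namespace Cfsg.Agent.S5431
open Cfsg.Lib.Known2 Cfsg.Lib.Amalg Cfsg.Lib.Core Subgroup
open scoped commutatorElement

/-- Let Q be a large extraspecial 2-subgroup of the finite group G (extraspecial; centralizer equal to its centre; normal in the centralizer of its centre; normalizing no non-trivial subgroup of odd order) with centre generated by z, an involution, of width w ≥ 2 (order 2^(2w+1)); let g be an element outside the centralizer H of z with g z g⁻¹ in Q; write V for the subgroup generated by z and g z g⁻¹, X for the subgroup generated by Q and g Q g⁻¹, R for the subgroup generated by the centralizer of z in g Q g⁻¹ and the centralizer of g z g⁻¹ in Q, and E for the intersection of Q and g Q g⁻¹. Then V is the centre of R, E lies in the second centre of R, R is nilpotent of class at most 3, E and R/E are elementary abelian, R/E is the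 direct product of the images of the centralizer of g z g⁻¹ in Q and of the centralizer of z in g Q g⁻¹ (R is their product and they meet in E), and the commutator subgroup of X and E lies in V. -/
theorem result {G : Type*} [Group G] [Finite G] (Q : Subgroup G) (hQ : Cfsg.IsLargeExtraspecial Q) (z : G) (hz : ((Subgroup.center ↥Q).map Q.subtype) = Subgroup.zpowers z) (hz2 : orderOf z = 2) (w : ℕ) (hw : 2 ≤ w) (hcard : Nat.card ↥Q = 2 ^ (2 * w + 1)) (g : G) (hgH : g ∉ Subgroup.centralizer ({z} : Set G)) (hgQ : g * z * g⁻¹ ∈ Q) (V X R E : Subgroup G) (hV : V = Subgroup.closure ({z, g * z * g⁻¹} : Set G)) (hX : X = Q ⊔ (Q).map (MulAut.conj g).toMonoidHom) (hR : R = ((Q).map (MulAut.conj g).toMonoidHom ⊓ Subgroup.centralizer ({z} : Set G)) ⊔ (Q ⊓ Subgroup.centralizer ({g * z * g⁻¹} : Set G))) (hE : E = Q ⊓ (Q).map (MulAut.conj g).toMonoidHom) : (Subgroup.center ↥R).map R.subtype = V ∧ E ≤ (Subgroup.upperCentralSeries ↥R 2).map R.subtype ∧ Subgroup.upperCentralSeries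 ↥R 3 = ⊤ ∧ Cfsg.IsElementaryAbelian 2 E ∧ (∀ x ∈ R, ∀ y ∈ R, x * y * x⁻¹ * y⁻¹ ∈ E ∧ x ^ 2 ∈ E) ∧ ((Q).map (MulAut.conj g).toMonoidHom ⊓ Subgroup.centralizer ({z} : Set G)) ⊓ (Q ⊓ Subgroup.centralizer ({g * z * g⁻¹} : Set G)) = E ∧ ⁅X, E⁆ ≤ V := by
  have h := LS.of hQ.1 hQ.2.1 hQ.2.2.1 hz
  have hne : g * z * g⁻¹ ≠ z := fun e => hgH (mem_cent_single.2 (comm_of_conj_eq e))
  have hc : 8 < Nat.card Q := by
    rw [hcard]
    calc 8 < 2 ^ 5 := by norm_num
      _ ≤ _ := Nat.pow_le_pow_right (by norm_num) (by omega)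
  have hp := h.lp hgQ hne hc
  have hR' : R = hp.R := hR
  subst hV hX hR' hE
  generalize g * z * g⁻¹ = b at *
  generalize cj g Q = Q1 at *
  have zE : z ∈ Q ⊓ Q1 := ⟨hp.l.mem, hp.zQ⟩
  have bE : b ∈ Q ⊓ Q1 := ⟨hp.bQ, hp.r.mem⟩
  have zV : z ∈ closure ({z, b} : Set G) := subset_closure (by simp)
  have bV : b ∈ closure ({z, b} : Set G) := subset_closure (by simp)
  have hVE : closure ({z, b} : Set G) ≤ Q ⊓ Q1 := (closure_le _).2 (by
    rintro _ (rfl | rfl); exacts [zE, bE])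
  have hER : Q ⊓ Q1 ≤ hp.R := fun x hx => hp.mem_R hx.1 (hp.r.cen x hx.2)
  have hZ : (center hp.R).map hp.R.subtype = closure {z, b} := by
    rw [map_subtype_center]
    refine le_antisymm ?_ (le_inf (hVE.trans hER) (le_cent_symm hp.R_le_cent))
    rintro r ⟨hr1, hr2⟩
    have hr3 : ∀ p ∈ Q, b * p = p * b → r * p = p * r := fun p hp1 e =>
      (mem_centralizer_comm.1 hr2 p (hp.mem_R hp1 e.symm)).symm
    have hrQ := hp.mem_of_cent_P (mem_cent_closure_pair.1 (hp.R_le_cent hr1)).1 hr3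
    rw [hp.mem_V, hp.zb]
    have := hp.l.toES.double_perp hp.bQ hrQ hr3
    tauto
  have hXE : ⁅Q ⊔ Q1, Q ⊓ Q1⁆ ≤ closure {z, b} := by
    refine comm_sup_le ?_ ?_ hp.Q_le_norm (hp.V_symm ▸ hp.symm.Q_le_norm) <;> rw [commutator_le]
    · intro x hx y hy
      exact zpowers_le_of_mem zV (hp.l.toES.commutator_mem hx hy.1)
    · intro x hx y hy
      exact zpowers_le_of_mem bV (hp.r.toES.commutator_mem hx hy.2)
  have hRE : hp.R ≤ 𝐍 (Q ⊓ Q1 : Subgroup G) :=
    le_normalizer_inf (fun x hx => hp.l.mem_norm (mem_cent_closure_pair.1 (hp.R_le_cent hx)).1)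
      (fun x hx => hp.r.mem_norm (mem_cent_closure_pair.1 (hp.R_le_cent hx)).2)
  have c1 : ⁅Q1 ⊓ centralizer {z}, Q ⊓ centralizer {b}⁆ ≤ Q ⊓ Q1 := by
    rw [commutator_le]
    intro x hx y hy
    refine ⟨mul_mem (hp.l.norm x (mem_cent_single.1 hx.2) y hy.1) (Q.inv_mem hy.1), ?_⟩
    have hx1 : x ∈ Q1 := hx.1
    have := mul_mem hx1 (hp.r.norm y (mem_cent_single.1 hy.2) _ (inv_mem hx1))
    simpa [commutatorElement_def, mul_assoc] using this
  have hRR : ⁅hp.R, hp.R⁆ ≤ Q ⊓ Q1 := by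
    have n1 : Q1 ⊓ centralizer {z} ≤ 𝐍 (Q ⊓ Q1 : Subgroup G) := le_sup_left.trans hRE
    have n2 : Q ⊓ centralizer {b} ≤ 𝐍 (Q ⊓ Q1 : Subgroup G) := le_sup_right.trans hRE
    refine comm_sup_le (comm_sup_le' ?_ c1 n1 n2) (comm_sup_le' (by rw [Subgroup.commutator_comm]; exact c1) ?_ n1 n2)
      n1 n2 <;> rw [commutator_le]
    · intro x hx y hy
      exact zpowers_le_of_mem bE (hp.r.toES.commutator_mem hx.1 hy.1)
    · intro x hx y hy
      exact zpowers_le_of_mem zE (hp.l.toES.commutator_mem hx.1 hy.1)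
  have hE2 : ∀ x : hp.R, (x : G) ∈ Q ⊓ Q1 → x ∈ Subgroup.upperCentralSeries hp.R 2 := by
    intro x hx
    rw [Subgroup.mem_upperCentralSeries_succ_iff]
    intro y
    rw [Subgroup.upperCentralSeries_one]
    have : ((⁅x, y⁆ : hp.R) : G) ∈ closure ({z, b} : Set G) := by
      have := inv_mem (hXE (commutator_mem_commutator (hp.R_le_X y.2) hx))
      rwa [commutatorElement_inv] at this
    rw [← hZ] at this
    obtain ⟨u, hu, e⟩ := this
    exact (Subtype.ext e : u = _) ▸ hu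
  have hsq : ∀ x ∈ Q ⊓ Q1, x * x = 1 := by
    intro x hx
    rcases hp.l.sq_mem x hx.1 with e | e
    · exact e
    · rcases hp.r.sq_mem x hx.2 with e' | e'
      · exact e'
      · exact absurd (e'.symm.trans e) hp.ne
  refine ⟨hZ, fun x hx => ⟨⟨x, hER hx⟩, hE2 _ hx, rfl⟩, ?_, ⟨⟨⟨fun x y => Subtype.ext ?_⟩⟩,
    fun x hx => by rw [pow_two, hsq x hx]⟩, fun x hx y hy => ⟨hRR (commutator_mem_commutator hx hy), ?_⟩,
    ?_, hXE⟩
  · rw [eq_top_iff]
    intro x _
    rw [Subgroup.mem_upperCentralSeries_succ_iff]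
    intro y
    exact hE2 _ (hRR (commutator_mem_commutator x.2 y.2))
  · have := hsq _ (mul_mem x.2 y.2)
    show (x : G) * y = y * x
    rw [← inv_eq_of_mul_eq_one_right this, mul_inv_rev, inv_eq_of_mul_eq_one_right (hsq _ x.2),
      inv_eq_of_mul_eq_one_right (hsq _ y.2)]
  · obtain ⟨a, ha, c, hc, rfl⟩ := (mem_sup_of_le_normalizer hp.P1_le_norm).1 hx
    have m1 : a * a ∈ Q ⊓ Q1 := by
      rcases hp.r.sq_mem a ha.1 with e | e <;> rw [e]
      exacts [one_mem _, bE]
    have m2 : c * c ∈ Q ⊓ Q1 := by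
      rcases hp.l.sq_mem c hc.1 with e | e <;> rw [e]
      exacts [one_mem _, zE]
    have m3 := hRR (commutator_mem_commutator (inv_mem (mem_sup_left ha)) (mem_sup_right hc))
    have := mul_mem (mul_mem m1 m3) m2
    convert this using 1
    rw [commutatorElement_def, pow_two]; group
  · refine le_antisymm (fun x hx => ⟨hx.2.1, hx.1.1⟩) fun x hx =>
      ⟨⟨hx.2, mem_cent_single.2 (hp.l.cen x hx.1)⟩, hx.1, mem_cent_single.2 (hp.r.cen x hx.2)⟩

end Cfsg.Agent.S5431
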