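import Cfsg.Statements.S5432
import Cfsg.Agent.Lib.PGrp.Extra
import Cfsg.Agent.Lib.Forms.Bridge

set_option autoImplicit false
open Cfsg

namespace Cfsg.Agent.S5432

open Cfsg.Lib.PGrp Cfsg.Lib.Forms Subgroup
open scoped commutatorElement

/-- Let E be an extraspecial 2-group of order 2^(2n+1), n ≥ 1. If E contains an elementary abelian subgroup of order 2^(n+1) (plus type), then its outer automorphism group is isomorphic to the full isometry group of the hyperbolic quadratic form in dimension 2n over the field with two elements; otherwise (minus type) it is isomorphic to the full isometry group of the elliptic quadratic form in dimension 2n over that field. -/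
theorem result {E : Type*} [Group E] [Finite E] (hE : Cfsg.IsExtraspecial 2 E) (n : ℕ) (hn : 1 ≤ n) (hcard : Nat.card E = 2 ^ (2 * n + 1)) : ((∃ A : Subgroup E, Cfsg.IsElementaryAbelian 2 A ∧ Nat.card ↥A = 2 ^ (n + 1)) → Nonempty (Cfsg.Out E ≃* Cfsg.isometryGroup (ZMod 2) (Cfsg.quadFormPlus n (ZMod 2)))) ∧ ((¬ ∃ A : Subgroup E, Cfsg.IsElementaryAbelian 2 A ∧ Nat.card ↥A = 2 ^ (n + 1)) → Nonempty (Cfsg.Out E ≃* Cfsg.isometryGroup (ZMod 2) (Cfsg.quadFormMinus (n - 1) (ZMod 2) 1 1))) := by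
  obtain ⟨V, _, _, _, M, m, hN, hm⟩ := Cfsg.Lib.PGrp.IsExtraspecial.exists_cExt hE
  rw [M.card_eq_pow, Nat.pow_right_inj one_lt_two, Nat.succ_inj, hm] at hcard
  obtain rfl : n = m + 1 := by omega
  obtain ⟨e⟩ := M.nonempty_out_equiv hN
  rw [← not_pRankLE_iff, ← M.hasTS_iff]
  refine ⟨fun h => ?_, fun h => ?_⟩
  · obtain ⟨f⟩ := (Quad.iso_fPlus (M.quad_nondeg.2 hN) hm h).nonempty_isom
    exact ⟨(e.trans f).trans (oIso _ fPlus_Q).symm⟩
  · obtain ⟨f⟩ := (Quad.iso_fMinus (M.quad_nondeg.2 hN) hm h (a := 1) (b := 1) (by decide)).nonempty_isom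
    exact ⟨(e.trans f).trans (oIso _ (fMinus_Q 1 1)).symm⟩

end Cfsg.Agent.S5432
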