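import Cfsg.Statements.S5433
import Cfsg.Agent.Lib.Known2.LE

set_option autoImplicit false
open Cfsg

namespace Cfsg.Agent.S5433
open Cfsg.Lib.Known2 Cfsg.Lib.Amalg Cfsg.Lib.Core Subgroup

/-- Let Q be a large extraspecial 2-subgroup of the finite group G (extraspecial; centralizer equal to its centre; normal in the centralizer of its centre; normalizing no non-trivial subgroup of odd order), and L a normal subgroup of G containing Q. Then G is the product of L and the normalizer of Q. -/
theorem result {G : Type*} [Group G] [Finite G] (Q : Subgroup G) (hQ : Cfsg.IsLargeExtraspecial Q) (L : Subgroup G) [L.Normal] (hQL : Q ≤ L) : L ⊔ Subgroup.normalizer (Q : Set G) = ⊤ := by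
  have : Fact (Nat.Prime 2) := ⟨Nat.prime_two⟩
  obtain ⟨z, hz, h⟩ := exists_LS hQ.1 hQ.2.1 hQ.2.2.1
  obtain ⟨T, hT, hQT⟩ := exists_syl_ge h.toES.isPGroup hQL
  have hne := inf_center_ne_bot hT.isPGroup le_rfl le_normalizer
    (fun e => h.ne (mem_bot.1 (e ▸ hQT h.mem)))
  obtain ⟨⟨t, ht1, ht2⟩, ht⟩ := ne_bot_iff_exists_ne_one.1 hne
  have key : ∀ s ∈ 𝐂 T, s ≠ 1 → s = z := fun s hs h1 =>
    (h.selfc s fun x hx => (mem_centralizer_comm.1 hs x (hQT hx)).symm).resolve_left h1
  have e := key t ht2 (fun e => ht (Subtype.ext e))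
  rw [eq_top_iff]
  intro g _
  obtain ⟨n, hn, a, ha, rfl⟩ := hT.frattini_mem (g := g) (le_normalizer_of_normal (mem_top g))
  refine mul_mem_sup hn (h.mem_norm (comm_of_conj_eq (key _ ?_ (by simpa using h.ne))))
  rw [← cj_of_mem_normalizer ha, ← cj_centralizer]
  exact conj_mem_cj _ (e ▸ ht2)

end Cfsg.Agent.S5433
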