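import Cfsg.Statements.S5434
import Cfsg.Agent.Lib.Known2.LE
import Cfsg.Agent.Lib.Coprime.Basic

set_option autoImplicit false
open Cfsg

namespace Cfsg.Agent.S5434
open Cfsg.Lib.Known2 Cfsg.Lib.Amalg Cfsg.Lib.Core Subgroup
open scoped commutatorElement

theorem es_of {G : Type*} [Group G] {Q R S : Subgroup G} {z : G} (h : ES Q z) (hsup : S ⊔ R = Q)
    (hc : ∀ x ∈ S, ∀ y ∈ R, x * y = y * x) (hz : z ∈ R) (hne : ∃ x ∈ R, x ≠ 1 ∧ x ≠ z) : ES R z := by
  have hR : R ≤ Q := hsup ▸ le_sup_right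
  have key : ∀ x ∈ R, (∀ y ∈ R, x * y = y * x) → x = 1 ∨ x = z := by
    intro x hx H
    refine h.of_cen x (hR hx) fun y hy => ?_
    have : Q ≤ centralizer {x} := hsup ▸ sup_le (fun s hs => mem_cent_single.2 (hc s hs x hx))
      (fun s hs => mem_cent_single.2 (H s hs).symm)
    exact (mem_cent_single.1 (this hy)).symm
  refine ⟨hz, h.ne, h.sq, fun x hx => h.cen x (hR hx), key, fun x hx y hy => h.comm x (hR hx) y (hR hy),
    fun x hx => h.sq_mem x (hR hx), ?_⟩
  obtain ⟨x, hx, h1, h2⟩ := hne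
  by_contra hn
  push Not at hn
  rcases key x hx (hn x hx) with e | e
  exacts [h1 e, h2 e]

/-- Let Q be a large extraspecial 2-subgroup of the finite group G (extraspecial; centralizer equal to its centre; normal in the centralizer of its centre; normalizing no non-trivial subgroup of odd order), and A a non-trivial subgroup of odd order of the normalizer of Q. Then Q is the central product of the centralizer of A in Q and the commutator subgroup [Q, A] (they generate Q and commute elementwise), [Q, A] is extraspecial, and the centralizer of A in Q is either the centre of Q or extraspecial. -/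
theorem result {G : Type*} [Group G] [Finite G] (Q : Subgroup G) (hQ : Cfsg.IsLargeExtraspecial Q) (A : Subgroup G) (hA : A ≤ Subgroup.normalizer (Q : Set G)) (hAodd : Odd (Nat.card ↥A)) (hA1 : A ≠ ⊥) : (Q ⊓ Subgroup.centralizer (A : Set G)) ⊔ ⁅Q, A⁆ = Q ∧ (∀ x ∈ Q ⊓ Subgroup.centralizer (A : Set G), ∀ y ∈ ⁅Q, A⁆, x * y = y * x) ∧ Cfsg.IsExtraspecial 2 ↥⁅Q, A⁆ ∧ (Q ⊓ Subgroup.centralizer (A : Set G) = ((Subgroup.center ↥Q).map Q.subtype) ∨ Cfsg.IsExtraspecial 2 ↥(Q ⊓ Subgroup.centralizer (A : Set G))) := by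
  have : Fact (Nat.Prime 2) := ⟨Nat.prime_two⟩
  obtain ⟨z, hz, h⟩ := exists_LS hQ.1 hQ.2.1 hQ.2.2.1
  have hcop : (Nat.card A).Coprime (Nat.card Q) :=
    Lib.Coprime.coprime_card_of_isPGroup h.toES.isPGroup (Nat.coprime_two_right.2 hAodd)
  have hsup : (Q ⊓ 𝐂 A) ⊔ ⁅Q, A⁆ = Q := by
    rw [sup_comm]
    exact Lib.Coprime.commutator_sup_centralizer hA hcop
      (Or.inr (Lib.Coprime.isSolvable_of_isPGroup h.toES.isPGroup))
  have hc : ∀ x ∈ Q ⊓ 𝐂 A, ∀ y ∈ ⁅Q, A⁆, x * y = y * x := by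
    intro x hx
    have : ⁅Q, A⁆ ≤ centralizer {x} := by
      rw [commutator_le]
      intro q hq a ha
      rw [mem_cent_single, eq_comm, commutatorElement_def, mul_assoc, mul_assoc, ← mul_assoc a]
      have m : a * q⁻¹ * a⁻¹ ∈ Q := (mem_normalizer_iff.1 (hA ha) _).1 (inv_mem hq)
      rw [h.toES.mul_comm_iff hx.1 hq m]
      have k : x * q⁻¹ = q⁻¹ * x ↔ (a * x * a⁻¹) * (a * q⁻¹ * a⁻¹) = (a * q⁻¹ * a⁻¹) * (a * x * a⁻¹) := by
        simp only [conj_mul, mul_left_inj, mul_right_inj]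
      rw [conj_eq_of_comm (mem_centralizer_comm.1 hx.2 a ha)] at k
      rw [← k]
      exact ⟨fun e => ((show Commute x q from e).inv_right).eq,
        fun e => by simpa using ((show Commute x q⁻¹ from e).inv_right).eq⟩
    exact fun y hy => (mem_cent_single.1 (this hy)).symm
  have hzS : z ∈ Q ⊓ 𝐂 A := ⟨h.mem, mem_centralizer_comm.2 fun a ha => h.toES.comm_of_norm (hA ha)⟩
  have hne : ∃ x ∈ ⁅Q, A⁆, x ≠ 1 ∧ x ≠ z := by
    by_contra hn
    push Not at hn
    apply hA1
    have h1 : ⁅Q, A⁆ ≤ Q ⊓ 𝐂 A := fun x hx => by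
      by_cases e : x = 1
      · rw [e]; exact one_mem _
      · rw [hn x hx e]; exact hzS
    rw [sup_eq_left.2 h1] at hsup
    rw [eq_bot_iff]
    intro a ha
    rcases h.selfc a (fun x hx => mem_centralizer_comm.1 ((hsup.ge hx).2) a ha) with e | e
    · exact e
    · exact eq_one_of_odd_of_two hAodd ha (n := 1) (by rw [e, pow_one, pow_two, h.sq])
  have hzR : z ∈ ⁅Q, A⁆ := by
    refine h.mem_of_two (h.toES.isPGroup.to_le (comm_le_left hA)) (left_le_normalizer_comm _ _) ?_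
    obtain ⟨x, hx, h1, -⟩ := hne
    exact fun e => h1 (mem_bot.1 (e ▸ hx))
  refine ⟨hsup, hc, (es_of h.toES hsup hc hzR hne).isExtraspecial, ?_⟩
  by_cases e : ∃ x ∈ Q ⊓ 𝐂 A, x ≠ 1 ∧ x ≠ z
  · right
    exact (es_of h.toES (by rw [sup_comm]; exact hsup) (fun x hx y hy => (hc y hy x hx).symm) hzS e).isExtraspecial
  · left
    push Not at e
    rw [hz]
    refine le_antisymm (fun x hx => h.toES.mem_zp.2 ?_) (zpowers_le_of_mem hzS)
    by_cases e' : x = 1
    exacts [Or.inl e', Or.inr (e x hx e')]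

end Cfsg.Agent.S5434
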