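import Cfsg.Statements.S5435
import Cfsg.Agent.Lib.Known2.Hyper
import Cfsg.Agent.Lib.Block.ZStar
import Cfsg.Agent.Lib.Invol.Transfer2

set_option autoImplicit false
open Cfsg

namespace Cfsg.Agent.S5435
open Cfsg.Lib.Known2 Cfsg.Lib.Amalg Cfsg.Lib.Core Subgroup
open scoped commutatorElement

/-- Let L be a finite non-abelian simple group with an involution z whose centralizer R is a Sylow 2-subgroup of L whose Frattini subgroup is the subgroup generated by z. Then R is dihedral of order 8. -/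
theorem result {L : Type*} [Group L] [Finite L] [IsSimpleGroup L] (hL : ¬ IsMulCommutative L) (z : L) (hz : orderOf z = 2) (R : Sylow 2 L) (hR : (R : Subgroup L) = Subgroup.centralizer ({z} : Set L)) (hΦ : (frattini ↥(R : Subgroup L)).map (R : Subgroup L).subtype = Subgroup.zpowers z) : Nonempty (↥(R : Subgroup L) ≃* DihedralGroup 4) := by
  have : Fact (Nat.Prime 2) := ⟨Nat.prime_two⟩
  have zz := mul_self_of_orderOf_two hz
  have z1 := ne_one_of_orderOf_two hz
  have hS : Syl 2 (centralizer {z}) (⊤ : Subgroup L) := hR ▸ syl_top R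
  rw [hR] at hΦ ⊢
  obtain ⟨f1, f2⟩ := (frattiniOf_le_iff hS.isPGroup).1 hΦ.le
  have cc : ∀ g x y : L, x * (g * y * g⁻¹) = (g * y * g⁻¹) * x ↔ (g⁻¹ * x * g) * y = y * (g⁻¹ * x * g) := by
    intro g x y
    constructor <;> intro e
    · calc _ = g⁻¹ * (x * (g * y * g⁻¹)) * g := by group
        _ = _ := by rw [e]; group
    · calc _ = g * (g⁻¹ * x * g * y) * g⁻¹ := by group
        _ = _ := by rw [e]; group
  have un : ∀ g x y : L, g⁻¹ * x * g = y → x = g * y * g⁻¹ := fun g x y e => by rw [← e]; group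
  have bb : ∀ b, (∃ g, g * z * g⁻¹ = b) → b * b = 1 := by
    rintro _ ⟨g, rfl⟩; rw [conj_mul, zz]; group
  have b1 : ∀ b, (∃ g, g * z * g⁻¹ = b) → b ≠ 1 := by
    rintro _ ⟨g, rfl⟩; simpa using z1
  have cl : ∀ b g, (∃ g, g * z * g⁻¹ = b) → ∃ g', g' * z * g'⁻¹ = g * b * g⁻¹ := by
    rintro _ g ⟨k, rfl⟩; exact ⟨g * k, by group⟩
  have sq : ∀ b, (∃ g, g * z * g⁻¹ = b) → ∀ x, x * b = b * x → x * x = 1 ∨ x * x = b := by
    rintro _ ⟨g, rfl⟩ x hx
    have := (mem_zpowers_invol zz).1 (f2 _ (mem_cent_single.2 ((cc _ _ _).1 hx)))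
    have e : (g⁻¹ * x * g) ^ 2 = g⁻¹ * (x * x) * g := by rw [pow_two]; group
    rw [e] at this
    rcases this with e | e
    · left; simpa using un _ _ _ e
    · right; exact un _ _ _ e
  have cm : ∀ b, (∃ g, g * z * g⁻¹ = b) → ∀ x y, x * b = b * x → y * b = b * y → x * y ≠ y * x →
      x * y * x⁻¹ = y * b := by
    rintro _ ⟨g, rfl⟩ x y hx hy hn
    have := (mem_zpowers_invol zz).1 (f1 (commutator_mem_commutator
      (mem_cent_single.2 ((cc _ _ _).1 hx)) (mem_cent_single.2 ((cc _ _ _).1 hy))))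
    have e : ⁅g⁻¹ * x * g, g⁻¹ * y * g⁆ = g⁻¹ * (x * y * x⁻¹ * y⁻¹) * g := by
      rw [commutatorElement_def]; group
    rw [e] at this
    rcases this with e | e
    · exact absurd (comm_of_conj_eq (mul_inv_eq_one.1 (by simpa using un _ _ _ e))) hn
    · rw [hy, ← un _ _ _ e]; group
  have iso0 : ∀ g, (∀ x, x * z = z * x → x * (g * z * g⁻¹) = (g * z * g⁻¹) * x) → g * z * g⁻¹ = z := by
    intro g H
    have h1 : centralizer {z} = cj g (centralizer {z}) := by
      refine eq_of_le_of_card_le' ?_ (card_cj _ _).le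
      rw [cj_centralizer_singleton]
      exact fun x hx => mem_cent_single.2 (H x (mem_cent_single.1 hx))
    have h2 := normalizer_le_normalizer_frattiniOf _ (cj_eq_self_iff.1 h1.symm)
    rw [hΦ] at h2
    exact ((mem_zpowers_invol zz).1 ((mem_normalizer_iff.1 h2 z).1 (mem_zpowers z))).resolve_left
      (b1 _ ⟨g, rfl⟩)
  have iso : ∀ b b', (∃ g, g * z * g⁻¹ = b) → (∃ g, g * z * g⁻¹ = b') →
      (∀ x, x * b = b * x → x * b' = b' * x) → b' = b := by
    rintro _ _ ⟨g, rfl⟩ ⟨k, rfl⟩ H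
    have := iso0 (g⁻¹ * k) fun x hx => by
      have := H (g * x * g⁻¹) (by rw [conj_mul, conj_mul, hx])
      calc _ = g⁻¹ * (g * x * g⁻¹ * (k * z * k⁻¹)) * g := by group
        _ = _ := by rw [this]; group
    calc _ = g * (g⁻¹ * k * z * (g⁻¹ * k)⁻¹) * g⁻¹ := by group
      _ = _ := by rw [this]
  have anti : ∀ b b', (∃ g, g * z * g⁻¹ = b) → (∃ g, g * z * g⁻¹ = b') → b' * b = b * b' → b' ≠ b →
      ∃ y, y * b = b * y ∧ y * b' * y⁻¹ = b' * b := by
    intro b b' hb hb' e hne
    by_contra hn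
    push Not at hn
    refine hne (iso b b' hb hb' fun x hx => ?_)
    by_contra e'
    exact hn x hx (cm b hb x b' hx e e')
  have z0 : ∃ g, g * z * g⁻¹ = z := ⟨1, by group⟩
  have sqA : ∀ b, (∃ g, g * z * g⁻¹ = b) → b ≠ z → ∀ x, x * z = z * x → x * b = b * x → x * x = 1 := by
    intro b hb hne x h1 h2
    rcases sq z z0 x h1 with e | e
    · exact e
    · rcases sq b hb x h2 with e' | e'
      · exact e'
      · exact absurd (e'.symm.trans e) hne
  have cmul : ∀ x y t : L, x * t = t * x → y * t = t * y → x * y * t = t * (x * y) :=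
    fun x y t h1 h2 => ((show Commute x t from h1).mul_left h2).eq
  have cinv : ∀ x t : L, x * t = t * x → x⁻¹ * t = t * x⁻¹ :=
    fun x t h1 => ((show Commute x t from h1).inv_left).eq
  have cmA : ∀ b, (∃ g, g * z * g⁻¹ = b) → b ≠ z → ∀ x y, x * z = z * x → x * b = b * x →
      y * z = z * y → y * b = b * y → x * y = y * x := by
    intro b hb hne x y h1 h2 h3 h4
    rw [← inv_eq_of_mul_eq_one_right (sqA b hb hne _ (cmul _ _ _ h1 h3) (cmul _ _ _ h2 h4)), mul_inv_rev,
      inv_eq_of_mul_eq_one_right (sqA b hb hne _ h1 h2), inv_eq_of_mul_eq_one_right (sqA b hb hne _ h3 h4)]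
  have anti2 : ∀ x y t : L, x * z = z * x → y * z = z * y → t * z = z * t → x * t ≠ t * x →
      y * t ≠ t * y → x * y * t = t * (x * y) := by
    intro x y t h1 h2 h3 n1 n2
    apply comm_of_conj_eq
    calc _ = x * (y * t * y⁻¹) * x⁻¹ := by group
      _ = _ := by
        rw [cm z z0 y t h2 h3 n2, ← conj_mul, cm z z0 x t h1 h3 n1, conj_eq_of_comm h1, mul_assoc, zz,
          mul_one]
  have F2 : ∀ b b', (∃ g, g * z * g⁻¹ = b) → (∃ g, g * z * g⁻¹ = b') → b * z = z * b → b' * z = z * b' →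
      b ≠ z → b' ≠ z → b' * b = b * b' → b' = b ∨ b' = b * z := by
    intro b b' hb hb' h1 h2 n1 n2 e
    by_cases hne : b' = b
    · exact Or.inl hne
    right
    obtain ⟨y, -, hy⟩ := anti b b' hb hb' e hne
    have := iso z _ z0 (hy ▸ cl _ y hb') fun x hx => by
      by_cases k1 : x * b = b * x
      · exact (cmul _ _ _ (cmA b hb n1 x b' hx k1 h2 e).symm k1.symm).symm
      by_cases k2 : x * b' = b' * x
      · exact absurd (cmA b' hb' n2 x b hx k2 h1 e.symm) k1
      · exact (anti2 _ _ _ h2 h1 hx (Ne.symm k2) (Ne.symm k1)).symm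
    rw [h1, ← this, mul_assoc, bb b hb, mul_one]
  -- `z` is not isolated
  obtain ⟨c, hc, hcz, hc1⟩ : ∃ c, (∃ g, g * z * g⁻¹ = c) ∧ c * z = z * c ∧ c ≠ z := by
    by_contra hn
    push Not at hn
    have hO : oddCore L = ⊥ := by
      rcases (inferInstance : (oddCore L).Normal).eq_bot_or_eq_top with e | e
      · exact e
      · have := odd_card_oddCore L
        exact absurd (eq_one_of_odd_of_two this (e ▸ mem_top z) (n := 1) (by simpa [pow_two] using zz)) z1
    have hzc := Lib.Block.z_star_center hO (u := z) ⟨hz, fun g e => hn _ ⟨g, rfl⟩ e.symm⟩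
    rcases (inferInstance : (center L).Normal).eq_bot_or_eq_top with e | e
    · exact z1 (mem_bot.1 (e ▸ hzc))
    · exact hL ⟨⟨fun x y => mem_center_iff.1 (e ▸ mem_top y) x⟩⟩
  have hcc := bb c hc
  obtain ⟨s, hsz, hss, hsc, hs⟩ : ∃ s, s * z = z * s ∧ s * s = 1 ∧ s * c ≠ c * s ∧
      ∀ b, (∃ g, g * z * g⁻¹ = b) → b * z = z * b → b * c ≠ c * b → b = s ∨ b = s * z := by
    by_cases H : ∃ s, (∃ g, g * z * g⁻¹ = s) ∧ s * z = z * s ∧ s * c ≠ c * s
    · obtain ⟨s, h1, h2, h3⟩ := H
      refine ⟨s, h2, bb s h1, h3, fun b hb k1 k2 => F2 s b h1 hb h2 k1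
        (fun e => h3 (e ▸ hcz.symm)) (fun e => k2 (e ▸ hcz.symm)) ?_⟩
      have := sqA c hc hc1 _ (cmul _ _ _ k1 h2) (anti2 _ _ _ k1 h2 hcz k2 h3)
      rw [← inv_eq_of_mul_eq_one_right this, mul_inv_rev, inv_eq_of_mul_eq_one_right (bb b hb),
        inv_eq_of_mul_eq_one_right (bb s h1)]
    · push Not at H
      obtain ⟨y, y1, y2⟩ := anti z c z0 hc hcz hc1
      have y3 : y * c ≠ c * y := fun e => z1 (by simpa [conj_eq_of_comm e] using y2.symm)
      rcases sq z z0 y y1 with e | e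
      · exact ⟨y, y1, e, y3, fun b hb k1 k2 => absurd (H b hb k1) k2⟩
      · refine ⟨y * c, cmul _ _ _ y1 hcz, ?_, fun e' => y3 ?_, fun b hb k1 k2 => absurd (H b hb k1) k2⟩
        · calc y * c * (y * c) = (y * c * y⁻¹) * (y * y) * c := by group
            _ = 1 := by rw [y2, e, mul_assoc c, zz, mul_one, hcc]
        · rw [← mul_assoc] at e'; exact mul_right_cancel e'
  have hcs : c * s * (c * s) = z := by
    calc _ = (c * s * c⁻¹) * (c * c) * s := by group
      _ = z := by rw [cm z z0 c s hcz hsz (Ne.symm hsc), hcc, mul_one, hsz, mul_assoc, hss, mul_one]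
  set D := closure ({c, s} : Set L) with hD
  have cD : c ∈ D := subset_closure (by simp)
  have sD : s ∈ D := subset_closure (by simp)
  have zD : z ∈ D := hcs ▸ mul_mem (mul_mem cD sD) (mul_mem cD sD)
  have hDR : D ≤ centralizer {z} := (closure_le _).2 (by
    rintro _ (rfl | rfl); exacts [mem_cent_single.2 hcz, mem_cent_single.2 hsz])
  have clD : ∀ b, (∃ g, g * z * g⁻¹ = b) → b * z = z * b → b ∈ D := by
    intro b hb e
    by_cases k : b = z
    · exact k ▸ zD
    by_cases k1 : b * c = c * b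
    · rcases F2 c b hc hb hcz e hc1 k k1 with rfl | rfl
      exacts [cD, mul_mem cD zD]
    · rcases hs b hb e k1 with rfl | rfl
      exacts [sD, mul_mem sD zD]
  have hZ : ∀ u, (∀ x, x * z = z * x → x * u = u * x) → u ∈ D := by
    intro u hu
    by_contra huD
    have huz : u * z = z * u := (hu z rfl).symm
    have huu := sqA c hc hc1 u huz (hu c hcz).symm
    obtain ⟨M, m1, m2, m3, m4⟩ := exists_hyper hDR (fun y hy => by
      rcases sq z z0 y (mem_cent_single.1 hy) with e | e <;> rw [e]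
      exacts [one_mem _, zD]) (mem_cent_single.2 huz) huD
    obtain ⟨g, hg⟩ := Lib.Invol.thompson_transfer' (G := L) (fun K hK => by
      have := normal_of_index_eq_two hK
      rcases this.eq_bot_or_eq_top with e | e
      · rw [e, index_bot] at hK
        have := isCyclic_of_prime_card hK
        exact hL inferInstance
      · rw [e, index_top] at hK; omega) (Nat.odd_iff.2 (Nat.two_dvd_ne_zero.1 hS.not_dvd_index)) m4
        (orderOf_eq_two_of huu (fun e => huD (e ▸ one_mem _)))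
    apply m3
    have s1 : Syl 2 (cj g (centralizer {z})) (centralizer {g * u * g⁻¹}) :=
      (hS.conj_top g).of_le (by
        rw [← cj_centralizer_singleton]
        exact cj_mono g fun x hx => mem_cent_single.2 (hu x (mem_cent_single.1 hx))) le_top
    obtain ⟨k, hk, hk'⟩ := s1.exists_le_conj (hS.isPGroup.to_inf_left) (inf_le_right
      (a := centralizer {z}))
    rw [← cj_mul, cj_centralizer_singleton] at hk'
    have e1 : (k * g) * u * (k * g)⁻¹ = g * u * g⁻¹ := by
      rw [← conj_eq_of_comm (mem_cent_single.1 hk)]; group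
    rw [← e1] at hg hk'
    generalize k * g = a at *
    have hb : ∃ g, g * z * g⁻¹ = a * z * a⁻¹ := ⟨a, rfl⟩
    have hzb : z * (a * z * a⁻¹) = (a * z * a⁻¹) * z := mem_cent_single.1 (hk'
      ⟨mem_cent_single.2 rfl, mem_cent_single.2 (mem_cent_single.1 (m2 hg)).symm⟩)
    by_cases hne : a * z * a⁻¹ = z
    · rwa [conj_eq_of_comm (hu a (comm_of_conj_eq hne))] at hg
    obtain ⟨y, y1, y2⟩ := anti z _ z0 hb hzb.symm hne
    obtain ⟨y', y1', y2'⟩ := anti _ z hb z0 hzb (Ne.symm hne)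
    have e2 : (y * y') * z * (y * y')⁻¹ = a * z * a⁻¹ := by
      calc _ = y * (y' * z * y'⁻¹) * y⁻¹ := by group
        _ = _ := by rw [y2', ← conj_mul, conj_eq_of_comm y1, y2, ← hzb, ← mul_assoc, zz, one_mul]
    have e3 : a * u * a⁻¹ = y * (y' * u * y'⁻¹) * y⁻¹ := by
      have := conj_eq_of_comm (hu ((y * y')⁻¹ * a) (comm_of_conj_eq (by
        calc _ = (y * y')⁻¹ * (a * z * a⁻¹) * (y * y') := by group
          _ = z := by rw [← e2]; group)))
      calc _ = (y * y') * ((y * y')⁻¹ * a * u * ((y * y')⁻¹ * a)⁻¹) * (y * y')⁻¹ := by group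
        _ = _ := by rw [this]; group
    rw [e3] at hg
    by_cases k1 : y' * u = u * y'
    · rwa [conj_eq_of_comm k1, conj_eq_of_comm (hu y y1)] at hg
    · rw [cm _ hb y' u y1' (hu _ hzb.symm).symm k1, ← conj_mul, conj_eq_of_comm (hu y y1), y2] at hg
      exact (M.mul_mem_cancel_right (m1 (mul_mem (clD _ hb hzb.symm) zD))).1 hg
  have hRD : centralizer {z} = D := by
    refine le_antisymm ?_ hDR
    have k2 : ∀ x, x * z = z * x → x * c = c * x → x * s = s * x → x ∈ D := by
      intro x h1 h2 h3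
      refine hZ x fun y hy => ?_
      by_cases e : y * c = c * y
      · exact cmA c hc hc1 y x hy e h1 h2
      · have := cmA c hc hc1 _ x (cmul _ _ _ hy hsz) (anti2 _ _ _ hy hsz hcz e hsc) h1 h2
        rw [mul_assoc, ← h3, ← mul_assoc, ← mul_assoc] at this
        exact mul_right_cancel this
    have k1 : ∀ x, x * z = z * x → x * c = c * x → x ∈ D := by
      intro x h1 h2
      by_cases e : x * s = s * x
      · exact k2 x h1 h2 e
      · exact (D.mul_mem_cancel_right cD).1 (k2 _ (cmul _ _ _ h1 hcz) (cmul _ _ _ h2 rfl)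
          (anti2 _ _ _ h1 hcz hsz e (Ne.symm hsc)))
    intro x hx
    have h1 := mem_cent_single.1 hx
    by_cases e : x * c = c * x
    · exact k1 x h1 e
    · exact (D.mul_mem_cancel_right sD).1 (k1 _ (cmul _ _ _ h1 hsz) (anti2 _ _ _ h1 hsz hcz e hsc))
  rw [hRD, hD, Lib.Invol.closure_pair_eq]
  refine Lib.Invol.closure_mulEquiv_dihedral hcc (Lib.Invol.left_inverts hcc hss) ?_
    (Lib.Invol.left_not_mem_zpowers (orderOf_eq_two_of hcc (b1 c hc))
      (orderOf_eq_two_of hss (fun e => hsc (by simp [e]))))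
  refine (orderOf_eq_prime_pow (p := 2) (n := 1) ?_ ?_)
  · rw [pow_one, pow_two, hcs]; exact z1
  · rw [show 2 ^ (1 + 1) = 2 * 2 by norm_num, pow_mul, pow_two (c * s), hcs, pow_two, zz]

end Cfsg.Agent.S5435
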