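import Cfsg.Statements.S5436
import Cfsg.Agent.Lib.Known2.LE4

set_option autoImplicit false
open Cfsg

namespace Cfsg.Agent.S5436
open Cfsg.Lib.Known2 Cfsg.Lib.Amalg Cfsg.Lib.Core Subgroup

theorem isExtraspecial_map {G : Type*} [Group G] [Finite G] {H : Subgroup G} {Q : Subgroup H}
    (h : IsExtraspecial 2 Q) : IsExtraspecial 2 (Q.map H.subtype) := by
  obtain ⟨z, -, h⟩ := exists_ES h
  refine ES.isExtraspecial (z := z) ⟨⟨z, h.mem, rfl⟩, fun e => h.ne (Subtype.ext e),
    congrArg Subtype.val h.sq, ?_, ?_, ?_, ?_, ?_⟩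
  · rintro _ ⟨x, hx, rfl⟩; exact congrArg Subtype.val (h.cen x hx)
  · rintro _ ⟨x, hx, rfl⟩ H
    rcases h.of_cen x hx (fun y hy => Subtype.ext (H y ⟨y, hy, rfl⟩)) with e | e <;> simp [e]
  · rintro _ ⟨x, hx, rfl⟩ _ ⟨y, hy, rfl⟩
    rcases h.comm x hx y hy with e | e
    exacts [Or.inl (congrArg Subtype.val e), Or.inr (congrArg Subtype.val e)]
  · rintro _ ⟨x, hx, rfl⟩
    rcases h.sq_mem x hx with e | e
    exacts [Or.inl (congrArg Subtype.val e), Or.inr (congrArg Subtype.val e)]
  · obtain ⟨x, hx, y, hy, e⟩ := h.nonab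
    exact ⟨x, ⟨x, hx, rfl⟩, y, ⟨y, hy, rfl⟩, fun e' => e (Subtype.ext e')⟩

/-- Let z be an involution of the finite group G with centralizer H whose generalized Fitting subgroup Q is extraspecial of width at least 2 (order 2^(2w+1), w ≥ 2); suppose some conjugate of z other than z lies in Q, H/Q is a non-abelian simple group, H acts irreducibly by conjugation on Q modulo the subgroup generated by z (the only H-invariant subgroups of Q containing z are that subgroup and Q), and Q is not the subgroup generated by the conjugates of z lying in H. Then G is simple. -/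
theorem result {G : Type*} [Group G] [Finite G] (z : G) (hz : orderOf z = 2) (Q : Subgroup (Subgroup.centralizer ({z} : Set G))) [Q.Normal] (hF : Cfsg.generalizedFittingSubgroup ↥(Subgroup.centralizer ({z} : Set G)) = Q) (hQ : Cfsg.IsExtraspecial 2 ↥Q) (w : ℕ) (hw : 2 ≤ w) (hcard : Nat.card ↥Q = 2 ^ (2 * w + 1)) (hnwc : ∃ g : G, (∃ hq : g * z * g⁻¹ ∈ Subgroup.centralizer ({z} : Set G), (⟨g * z * g⁻¹, hq⟩ : Subgroup.centralizer ({z} : Set G)) ∈ Q) ∧ g * z * g⁻¹ ≠ z) (hsimp : IsSimpleGroup (↥(Subgroup.centralizer ({z} : Set G)) ⧸ Q)) (hna : ¬ IsMulCommutative (↥(Subgroup.centralizer ({z} : Set G)) ⧸ Q)) (hirr : ∀ W : Subgroup (Subgroup.centralizer ({z} : Set G)), W.Normal → W ≤ Q → (W = Q ∨ ∀ x ∈ W, (x : G) ∈ Subgroup.zpowers z)) (hwcl : Subgroup.closure {x : Subgroup.centralizer ({z} : Set G) | IsConj z (x : G)} ≠ Q) : IsSimpleGroup G := by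
  obtain ⟨h, hO⟩ := ls_of_fstar hz (Q := Q.map (centralizer ({z} : Set G)).subtype) (by rw [hF])
    (isExtraspecial_map hQ)
  have hc : 8 < Nat.card (Q.map (centralizer ({z} : Set G)).subtype) := by
    rw [card_map_subtype, hcard]
    calc 8 < 2 ^ 5 := by norm_num
      _ ≤ _ := Nat.pow_le_pow_right (by norm_num) (by omega)
  obtain ⟨g, ⟨hq, hg⟩, hne⟩ := hnwc
  have hb : g * z * g⁻¹ ∈ Q.map (centralizer ({z} : Set G)).subtype := ⟨_, hg, rfl⟩
  have h1 := h.conj g
  have hzQ := h.sym hb hc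
  refine h.simple (h.odd_eq_bot hb h1.ne hne h1.sq fun c hc =>
        ⟨2, h1.toES.pow_four (mul_mem (h1.norm c hc _ hzQ) (inv_mem hzQ))⟩) hO ?_
  set W := closure {x : centralizer ({z} : Set G) | IsConj z (x : G)} with hW
  have hWn : W.Normal := by
    refine normal_of_cj_le fun c => ?_
    rw [hW, cj_closure, closure_le]
    rintro _ ⟨x, hx, rfl⟩
    exact subset_closure (IsConj.trans hx (isConj_iff.2 ⟨c, rfl⟩))
  have hQW : Q ≤ W := by
    rcases hirr (W ⊓ Q) inferInstance inf_le_right with e | e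
    · exact e ▸ inf_le_left
    · have := e ⟨_, hq⟩ ⟨subset_closure (isConj_iff.2 ⟨g, rfl⟩), hg⟩
      rcases h.toES.mem_zp.1 this with e | e
      exacts [absurd e h1.ne, absurd e hne]
  have hWt : W = ⊤ := by
    rcases (hWn.map _ (QuotientGroup.mk'_surjective Q)).eq_bot_or_eq_top with e | e
    · rw [Subgroup.map_eq_bot_iff, QuotientGroup.ker_mk'] at e
      exact absurd (le_antisymm e hQW) hwcl
    · have := congrArg (comap (QuotientGroup.mk' Q)) e
      rwa [comap_map_eq, QuotientGroup.ker_mk', sup_eq_left.2 hQW, comap_top] at this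
  intro x hx
  have : W ≤ (normalClosure ({z} : Set G)).subgroupOf _ := by
    rw [hW, closure_le]
    intro y hy
    obtain ⟨c, e⟩ := isConj_iff.1 hy
    show (y : G) ∈ normalClosure ({z} : Set G)
    rw [← e]
    exact (normalClosure_normal (s := {z})).conj_mem z (subset_normalClosure (Set.mem_singleton z)) c
  exact this (x := ⟨x, hx⟩) (hWt ▸ mem_top _)

end Cfsg.Agent.S5436
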