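import Cfsg.Statements.S5437
import Cfsg.Agent.Lib.Core.Basic

set_option autoImplicit false
open Cfsg

namespace Cfsg.Agent.S5437
open Cfsg.Lib.Core

/-- Let I be a set of involutions of the finite group G closed under conjugation, and H a subgroup of G. The following are equivalent: (1) for every member x of I lying in H, the conjugates of x lying in H form a single H-class and the centralizer of x lies in H; (2) for every g outside H, no member of I lies in both H and g H g⁻¹; (3) every member of I lying in H fixes exactly one coset in the action of G on the cosets of H. -/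
theorem result {G : Type*} [Group G] [Finite G] (I : Set G) (hI : ∀ x ∈ I, orderOf x = 2) (hIc : ∀ g : G, ∀ x ∈ I, g * x * g⁻¹ ∈ I) (H : Subgroup G) : ((∀ x ∈ I, x ∈ H → (∀ g : G, g * x * g⁻¹ ∈ H → ∃ h ∈ H, h * x * h⁻¹ = g * x * g⁻¹) ∧ Subgroup.centralizer ({x} : Set G) ≤ H) ↔ (∀ g : G, g ∉ H → ∀ x ∈ I, ¬ (x ∈ H ∧ x ∈ (H : Subgroup G).map (MulAut.conj g).toMonoidHom))) ∧ ((∀ g : G, g ∉ H → ∀ x ∈ I, ¬ (x ∈ H ∧ x ∈ (H : Subgroup G).map (MulAut.conj g).toMonoidHom)) ↔ ∀ x ∈ I, x ∈ H → ∃! c : G ⧸ H, x • c = c) := by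
  have hfix : ∀ x g : G, x • (g : G ⧸ H) = (g : G ⧸ H) ↔ g⁻¹ * x * g ∈ H := by
    intro x g
    rw [MulAction.Quotient.smul_coe, smul_eq_mul, eq_comm, QuotientGroup.eq, mul_assoc]
  constructor
  · constructor
    · rintro h g hg x hx ⟨h1, h2⟩
      rw [mem_map_conj_iff] at h2
      obtain ⟨k, hk, e⟩ := (h x hx h1).1 g⁻¹ (by rwa [inv_inv])
      have : g * k ∈ Subgroup.centralizer ({x} : Set G) := by
        rw [Subgroup.mem_centralizer_singleton_iff]
        calc g * k * x = g * (k * x * k⁻¹) * k := by group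
          _ = x * (g * k) := by rw [e]; group
      apply hg
      have := H.mul_mem ((h x hx h1).2 this) (H.inv_mem hk)
      simpa using this
    · intro h x hx hxH
      constructor
      · intro g hg
        refine ⟨g, ?_, rfl⟩
        by_contra hn
        exact h g⁻¹ (fun h' => hn (by simpa using h')) x hx ⟨hxH, by rw [mem_map_conj_iff, inv_inv]; exact hg⟩
      · intro c hc
        rw [Subgroup.mem_centralizer_singleton_iff] at hc
        by_contra hn
        refine h c hn x hx ⟨hxH, ?_⟩
        rw [mem_map_conj_iff, mul_assoc, ← hc]; simpa using hxH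
  · constructor
    · intro h x hx hxH
      refine ⟨((1 : G) : G ⧸ H), (hfix x 1).2 (by simpa using hxH), fun c hc => ?_⟩
      obtain ⟨g, rfl⟩ := QuotientGroup.mk_surjective c
      rw [eq_comm, QuotientGroup.eq, inv_one, one_mul]
      by_contra hn
      exact h g hn x hx ⟨hxH, mem_map_conj_iff.2 ((hfix x g).1 hc)⟩
    · rintro h g hg x hx ⟨h1, h2⟩
      have := (h x hx h1).unique ((hfix x 1).2 (by simpa using h1)) ((hfix x g).2 (mem_map_conj_iff.1 h2))
      rw [QuotientGroup.eq, inv_one, one_mul] at this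
      exact hg this

end Cfsg.Agent.S5437
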