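import Cfsg.Statements.S5438
import Cfsg.Agent.Lib.Known2.Invol
import Cfsg.Agent.Lib.Amalg.Syl

set_option autoImplicit false
open Cfsg

namespace Cfsg.Agent.S5438
open Cfsg.Lib.Known2 Cfsg.Lib.Amalg Cfsg.Lib.Core

/-- Let z be a 2-central involution of the finite group G (an involution central in some Sylow 2-subgroup) and H a subgroup containing z such that the coset H is the only coset of H fixed by z (in the action of G on the cosets of H). Then H has odd index in G, and for every 2-element x of H the conjugates of x lying in H form a single H-class. -/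
theorem result {G : Type*} [Group G] [Finite G] (z : G) (hz : Cfsg.IsTwoCentralInvolution z) (H : Subgroup G) (hzH : z ∈ H) (hfix : ∀ g : G, g⁻¹ * z * g ∈ H → g ∈ H) : Odd H.index ∧ ∀ x ∈ H, (∃ k : ℕ, orderOf x = 2 ^ k) → ∀ g : G, g * x * g⁻¹ ∈ H → ∃ h ∈ H, h * x * h⁻¹ = g * x * g⁻¹ := by
  have : Fact (Nat.Prime 2) := ⟨Nat.prime_two⟩
  obtain ⟨hz2, P, hzP, hP⟩ := hz
  have hzz := mul_self_of_orderOf_two hz2
  have hfx : ∀ x g : G, x • (g : G ⧸ H) = (g : G ⧸ H) ↔ g⁻¹ * x * g ∈ H := by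
    intro x g
    rw [MulAction.Quotient.smul_coe, smul_eq_mul, eq_comm, QuotientGroup.eq, mul_assoc]
  have hPH : (P : Subgroup G) ≤ H := by
    intro x hx
    apply hfix
    rw [mul_assoc, ← hP x hx]; simpa using hzH
  constructor
  · rw [← Nat.not_even_iff_odd, even_iff_two_dvd]
    exact fun h => P.not_dvd_index (h.trans (Subgroup.index_dvd_of_le hPH))
  · have hS : Syl 2 (P : Subgroup G) H := (syl_top P).of_le hPH le_top
    have key : ∀ x ∈ H, (∃ k : ℕ, orderOf x = 2 ^ k) → ∃ h ∈ H, Commute x (h * z * h⁻¹) := by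
      rintro x hx ⟨k, hk⟩
      obtain ⟨h, hh, hle⟩ := hS.exists_le_conj (isPGroup_zpowers_of_orderOf hk)
        (Subgroup.zpowers_le_of_mem hx)
      refine ⟨h, hh, ?_⟩
      have := hP _ (mem_map_conj_iff.1 (hle (Subgroup.mem_zpowers x)))
      show x * (h * z * h⁻¹) = h * z * h⁻¹ * x
      calc x * (h * z * h⁻¹) = h * (h⁻¹ * x * h * z) * h⁻¹ := by group
        _ = _ := by rw [this]; group
    have hu : ∀ u : G, ∀ c : G ⧸ H, (u * z * u⁻¹) • c = c ↔ c = (u : G ⧸ H) := by
      intro u c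
      obtain ⟨g, rfl⟩ := QuotientGroup.mk_surjective c
      rw [hfx, eq_comm, QuotientGroup.eq]
      constructor
      · intro h
        apply hfix
        simpa [mul_assoc] using h
      · intro h
        have := H.mul_mem (H.mul_mem (H.inv_mem h) hzH) h
        simpa [mul_assoc] using this
    intro x hx hk g hg
    obtain ⟨h1, hh1, c1⟩ := key x hx hk
    obtain ⟨h2, hh2, c2⟩ := key _ hg (by
      obtain ⟨k, hk⟩ := hk
      exact ⟨k, by rw [← hk]; exact (MulAut.conj g).orderOf_eq x⟩)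
    have m1 : h1 * z * h1⁻¹ ∈ Subgroup.centralizer ({x} : Set G) :=
      Subgroup.mem_centralizer_singleton_iff.2 c1.symm
    have m2 : (g⁻¹ * h2) * z * (g⁻¹ * h2)⁻¹ ∈ Subgroup.centralizer ({x} : Set G) := by
      rw [Subgroup.mem_centralizer_singleton_iff]
      calc g⁻¹ * h2 * z * (g⁻¹ * h2)⁻¹ * x = g⁻¹ * ((h2 * z * h2⁻¹) * (g * x * g⁻¹)) * g := by group
        _ = _ := by rw [← c2.eq]; group
    have hsq : ∀ u : G, (u * z * u⁻¹) * (u * z * u⁻¹) = 1 := by
      intro u; rw [conj_mul, hzz]; group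
    obtain ⟨c, hc⟩ := exists_smul_eq_of_unique_fixed (G := Subgroup.centralizer ({x} : Set G)) (X := G ⧸ H)
      (a := ⟨_, m1⟩) (b := ⟨_, m2⟩) (Subtype.ext (hsq _)) (Subtype.ext (hsq _))
      (fun y hy => (hu h1 y).1 hy) (fun y => hu _ y)
    have hc' : (((c : G) * (g⁻¹ * h2) : G) : G ⧸ H) = (h1 : G ⧸ H) := hc
    rw [QuotientGroup.eq] at hc'
    have hcx : (c : G) * x = x * c := Subgroup.mem_centralizer_singleton_iff.1 c.2
    refine ⟨g * (c : G)⁻¹, ?_, ?_⟩
    · have := H.mul_mem (H.mul_mem hh2 hc') (H.inv_mem hh1)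
      simpa [mul_assoc] using this
    · calc g * (c : G)⁻¹ * x * (g * (c : G)⁻¹)⁻¹ = g * (c : G)⁻¹ * (x * c) * g⁻¹ := by group
        _ = _ := by rw [← hcx]; group

end Cfsg.Agent.S5438
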