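import Cfsg.Statements.S5439
import Cfsg.Agent.Lib.Known2.Invol

set_option autoImplicit false
open Cfsg

namespace Cfsg.Agent.S5439
open Cfsg.Lib.Known2

/-- Let I and J be two different conjugacy classes of involutions of the finite group G and H a subgroup such that every member of I ∪ J fixes exactly one coset in the action on the cosets of H, and such that for every a in I ∩ H and every b in (I ∪ J) ∩ H different from a and commuting with it, the centralizer of a b lies in H. Then H = G. -/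
theorem result {G : Type*} [Group G] [Finite G] (I J : Set G) (a₀ b₀ : G) (ha₀ : orderOf a₀ = 2) (hb₀ : orderOf b₀ = 2) (hI : I = {x | IsConj a₀ x}) (hJ : J = {x | IsConj b₀ x}) (hIJ : I ≠ J) (H : Subgroup G) (hfix : ∀ x ∈ I ∪ J, ∃! c : G ⧸ H, x • c = c) (hcent : ∀ a ∈ I, a ∈ H → ∀ b ∈ I ∪ J, b ∈ H → a ≠ b → a * b = b * a → Subgroup.centralizer ({a * b} : Set G) ≤ H) : H = ⊤ := by
  have hfx : ∀ x g : G, x • (g : G ⧸ H) = (g : G ⧸ H) ↔ g⁻¹ * x * g ∈ H := by
    intro x g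
    rw [MulAction.Quotient.smul_coe, smul_eq_mul, eq_comm, QuotientGroup.eq, mul_assoc]
  have hIc : ∀ g : G, ∀ d ∈ I, g * d * g⁻¹ ∈ I := by
    intro g d hd; rw [hI] at hd ⊢; exact hd.trans (isConj_iff.2 ⟨g, rfl⟩)
  have hJc : ∀ g : G, ∀ d ∈ J, g * d * g⁻¹ ∈ J := by
    intro g d hd; rw [hJ] at hd ⊢; exact hd.trans (isConj_iff.2 ⟨g, rfl⟩)
  have hUc : ∀ g : G, ∀ d ∈ I ∪ J, g * d * g⁻¹ ∈ I ∪ J := by
    rintro g d (hd | hd)
    · exact Or.inl (hIc g d hd)
    · exact Or.inr (hJc g d hd)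
  have hinv : ∀ d ∈ I ∪ J, d * d = 1 := by
    rintro d (hd | hd)
    · rw [hI] at hd
      obtain ⟨c, rfl⟩ := isConj_iff.1 hd
      rw [conj_mul, mul_self_of_orderOf_two ha₀]; group
    · rw [hJ] at hd
      obtain ⟨c, rfl⟩ := isConj_iff.1 hd
      rw [conj_mul, mul_self_of_orderOf_two hb₀]; group
  have hin : ∀ x ∈ I ∪ J, ∃ k : G, k⁻¹ * x * k ∈ H := by
    intro x hx
    obtain ⟨c, hc, -⟩ := hfix x hx
    obtain ⟨k, rfl⟩ := QuotientGroup.mk_surjective c
    exact ⟨k, (hfx x k).1 hc⟩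
  have huniq : ∀ x ∈ I ∪ J, x ∈ H → ∀ g : G, g⁻¹ * x * g ∈ H → g ∈ H := by
    intro x hx hxH g hg
    have := (hfix x hx).unique ((hfx x 1).2 (by simpa using hxH)) ((hfx x g).2 hg)
    rwa [QuotientGroup.eq, inv_one, one_mul] at this
  have ha0 : a₀ ∈ I := by rw [hI]; exact IsConj.refl _
  have hb0 : b₀ ∈ J := by rw [hJ]; exact IsConj.refl _
  obtain ⟨k, hk⟩ := hin a₀ (Or.inl ha0)
  obtain ⟨l, hl⟩ := hin b₀ (Or.inr hb0)
  have ha : k⁻¹ * a₀ * k ∈ I := by simpa using hIc k⁻¹ a₀ ha0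
  have hb' : l⁻¹ * b₀ * l ∈ J := by simpa using hJc l⁻¹ b₀ hb0
  generalize k⁻¹ * a₀ * k = a at hk ha
  generalize l⁻¹ * b₀ * l = b' at hl hb'
  rw [eq_top_iff]
  intro g _
  have hb : g * b' * g⁻¹ ∈ J := hJc g b' hb'
  suffices hs : g * b' * g⁻¹ ∈ H from huniq _ (Or.inr hb) hs g (by simpa [mul_assoc] using hl)
  generalize g * b' * g⁻¹ = b at hb
  have haa := hinv a (Or.inl ha)
  have hbb := hinv b (Or.inr hb)
  rcases Nat.even_or_odd (orderOf (a * b)) with he | ho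
  · obtain ⟨m, hm⟩ := he
    have hpos := orderOf_pos (a * b)
    obtain ⟨n, rfl⟩ : ∃ n, m = n + 1 := ⟨m - 1, by omega⟩
    have h1 : (a * b) ^ (2 * (n + 1)) = 1 := by rw [two_mul, ← hm, pow_orderOf_eq_one]
    have hz1 : (a * b) ^ (n + 1) ≠ 1 := pow_ne_one_of_lt_orderOf (by omega) (by omega)
    have ha' := palindrome_mem hinv hUc n a (Or.inl ha) b (Or.inr hb)
    have e : (a * b) ^ (n + 1) = a * (b * (a * b) ^ n) := by rw [pow_succ', mul_assoc]
    have e' : b * (a * b) ^ n = a * (a * b) ^ (n + 1) := by rw [e, ← mul_assoc, haa, one_mul]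
    have c1 := commute_half_left haa hbb _ h1
    have c2 := commute_half_right haa hbb _ h1
    have hne : a ≠ b * (a * b) ^ n := by
      intro h0; apply hz1; rw [e, ← h0, haa]
    have hw : (a * b) ^ (n + 1) ∈ H := by
      apply huniq a (Or.inl ha) hk
      rw [mul_assoc, c1.eq]; simpa using hk
    have := hcent a ha hk _ ha' (by rw [e']; exact H.mul_mem hk hw) hne
      (by rw [e']; exact ((Commute.refl a).mul_right c1).eq)
    apply this
    rw [Subgroup.mem_centralizer_singleton_iff, ← e]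
    exact c2.eq
  · exfalso
    obtain ⟨m, hm⟩ := conj_of_odd_orderOf haa hbb ho
    have haJ : a ∈ J := hm ▸ hJc _ b hb
    apply hIJ
    rw [hI] at ha
    rw [hJ] at haJ
    rw [hI, hJ]
    ext x
    exact ⟨fun hx => haJ.trans (ha.symm.trans hx), fun hx => ha.trans (haJ.symm.trans hx)⟩

end Cfsg.Agent.S5439
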