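import Cfsg.Statements.S5440
import Cfsg.Agent.Lib.Fi.Fr2

set_option autoImplicit false
open Cfsg

namespace Cfsg.Agent.S5440

open Cfsg.Lib.Fi

/-- Let G be a finite group of large Fischer type at the involution z: the generalized Fitting subgroup Q of H = C_G(z) is extraspecial of order 2^13, H has normal subgroups Q ≤ H₁ ≤ H₂ with H₁/Q of order 3, H₂/H₁ the projective special unitary group of dimension 4 over the field with nine elements and H₂ of index 2 in H, and some conjugate of z other than z lies in Q. Then H has exactly two orbits, under conjugation, on the involutions of Q other than z. -/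
theorem result {G : Type*} [Group G] [Finite G] (z : G) (Q : Subgroup (Subgroup.centralizer ({z} : Set G))) [Q.Normal] (hF : Cfsg.IsOfLargeFischerTypeAt z Q) : ∃ s t : Subgroup.centralizer ({z} : Set G), s ∈ Q ∧ t ∈ Q ∧ orderOf s = 2 ∧ orderOf t = 2 ∧ (s : G) ≠ z ∧ (t : G) ≠ z ∧ (¬ ∃ h : Subgroup.centralizer ({z} : Set G), h * s * h⁻¹ = t) ∧ ∀ x : Subgroup.centralizer ({z} : Set G), x ∈ Q → orderOf x = 2 → (x : G) ≠ z → (∃ h : Subgroup.centralizer ({z} : Set G), h * s * h⁻¹ = x) ∨ ∃ h : Subgroup.centralizer ({z} : Set G), h * t * h⁻¹ = x := by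
  obtain ⟨ν, ρ, F⟩ := FT.of hF
  have k : ∀ {a A m}, Orb ψ K1 a A m → a < 4096 ∧ q0 a = 0 ∧ a ≠ 0 → ∃ s ∈ Q, orderOf s = 2 ∧ s.1 ≠ z ∧ ν s = a ∧
      ∀ x ∈ Q, A.testBit (ν x) = true → ∃ h, h * s * h⁻¹ = x := fun {a A m} o ha => by
    obtain ⟨s, hs, rfl⟩ := F.sur a ha.1
    have n := (F.ne_zero hs).1 ha.2.2
    refine ⟨s, hs, orderOf_eq_prime ((pow_two s).trans ((F.sq hs).2 ha.2.1)) n.1, fun e => n.2 (Subtype.ext e), rfl, fun x hx e => ?_⟩
    obtain ⟨g, hg, e⟩ := (o.1 _).1 e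
    obtain ⟨g, rfl⟩ := F.k1 hg
    exact (F.exists_conj hs hx (fun c => ha.2.2 ((G12.inj _).1 (e.trans (c.trans (G12.zero _).symm)))) e).imp fun _ h => h.2
  obtain ⟨s, s1, s2, s3, s4, s5⟩ := k orb1 (by decide)
  obtain ⟨t, t1, t2, t3, t4, t5⟩ := k orb2 (by decide)
  refine ⟨s, t, s1, t1, s2, t2, s3, t3, fun ⟨h, e⟩ => ?_, fun x hx o n => (sing_iff.2 ⟨F.lt x, (F.sq hx).1 (by rw [← pow_two, ← o, pow_orderOf_eq_one]),
    (F.ne_zero hx).2 ⟨fun e => by simp [e] at o, fun e => n (congrArg Subtype.val e)⟩⟩).imp (s5 x hx) (t5 x hx)⟩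
  have := sst_bit (N0_eq.le (F.n0 ⟨h, rfl⟩)) (ν s)
  rw [← F.conj h s1, e, s4, t4] at this
  revert this; decide +kernel

end Cfsg.Agent.S5440
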