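import Cfsg.Statements.S5442
import Cfsg.Agent.Lib.Fi.Fr3
import Cfsg.Agent.Lib.Fi.Rep

set_option autoImplicit false
open Cfsg

namespace Cfsg.Agent.S5442

open Cfsg.Lib.Fi

/-- Let G be a finite group of large Fischer type at the involution z: the generalized Fitting subgroup Q of H = C_G(z) is extraspecial of order 2^13, H has normal subgroups Q ≤ H₁ ≤ H₂ with H₁/Q of order 3, H₂/H₁ the projective special unitary group of dimension 4 over the field with nine elements and H₂ of index 2 in H, and some conjugate of z other than z lies in Q. Let s = g z g⁻¹ be a conjugate of z lying in Q and different from z. Then the intersection of Q and g Q g⁻¹ (as subgroups of G) is elementary abelian of order 2^7; and in H/Q, writing X for the image of the centralizer of s in H and E for the image of the intersection of g Q g⁻¹ with H, E is a normal subgroup of X, elementary abelian of order 32, with X/E isomorphic to the alternating group of degree 6. -/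
theorem result {G : Type*} [Group G] [Finite G] (z : G) (Q : Subgroup (Subgroup.centralizer ({z} : Set G))) [Q.Normal] (hF : Cfsg.IsOfLargeFischerTypeAt z Q) (s : G) (hsQ : ∃ hsc : s ∈ Subgroup.centralizer ({z} : Set G), (⟨s, hsc⟩ : Subgroup.centralizer ({z} : Set G)) ∈ Q) (hs : IsConj z s) (hs1 : s ≠ z) (g : G) (hg : g * z * g⁻¹ = s) (X E : Subgroup ((Subgroup.centralizer ({z} : Set G)) ⧸ Q)) (hX : X = ((Subgroup.centralizer ({z} : Set G) ⊓ Subgroup.centralizer ({s} : Set G)).subgroupOf (Subgroup.centralizer ({z} : Set G))).map (QuotientGroup.mk' Q)) (hE : E = ((((Q.map (Subgroup.centralizer ({z} : Set G)).subtype)).map (MulAut.conj g).toMonoidHom ⊓ Subgroup.centralizer ({z} : Set G)).subgroupOf (Subgroup.centralizer ({z} : Set G))).map (QuotientGroup.mk' Q)) : Cfsg.IsElementaryAbelian 2 ((Q.map (Subgroup.centralizer ({z} : Set G)).subtype) ⊓ ((Q.map (Subgroup.centralizer ({z} : Set G)).subtype)).map (MulAut.conj g).toMonoidHom) ∧ Nat.card ↥((Q.map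 (Subgroup.centralizer ({z} : Set G)).subtype) ⊓ ((Q.map (Subgroup.centralizer ({z} : Set G)).subtype)).map (MulAut.conj g).toMonoidHom) = 2 ^ 7 ∧ E ≤ X ∧ (∀ x ∈ X, ∀ y ∈ E, x * y * x⁻¹ ∈ E) ∧ Cfsg.IsElementaryAbelian 2 E ∧ Nat.card E = 32 ∧ ∃ _ : (E.subgroupOf X).Normal, Nonempty (↥X ⧸ E.subgroupOf X ≃* alternatingGroup (Fin 6)) := by
  obtain ⟨ν, ρ, F, r, k⟩ := exists_FT0 hF
  obtain ⟨c, d⟩ := hsQ
  obtain ⟨ν, ρ, F, r', e⟩ := F.exists_std orb2 ((k _ d hs1).1 hs)
  obtain ⟨-, k1, k2⟩ := F.key d hg hs1 (.inr e)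
  obtain ⟨ι, a, b⟩ := F.lift
  have x : X.map ι = H0 ⊓ Lib.Comp.stab ψ 85 := by
    rw [hX, b, ← r, ← r', ← e, ← F.cent_map d (by omega), Subgroup.inf_subgroupOf_left]
    congr 1; ext y; simp [Subgroup.mem_subgroupOf, Subgroup.mem_centralizer_singleton_iff, Subtype.ext_iff]
  have y : E.map ι = Py 4 := by rw [hE, b, Subgroup.inf_subgroupOf_right, k1]
  have m : ∀ {S : Subgroup _} {u}, u ∈ S ↔ ι u ∈ S.map ι := (Subgroup.mem_map_iff_mem a).symm
  have l : Py 4 ≤ H0 ⊓ Lib.Comp.stab ψ 85 := le_inf ((PS_mono (by norm_num) le_rfl).trans T0_le) ((Py_le 4).trans inf_le_right)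
  have l2 := inf_le_inf_right (Lib.Comp.stab ψ 85) H0_N0
  have c5 : Nat.card (Py 4) = 32 := Py_card (by norm_num)
  have c6 : Nat.card ↥(H0 ⊓ Lib.Comp.stab ψ 85) = 360 * 32 := by have := card_stab85 K1_H0 H0_N0; rw [H0_card] at this; omega
  have cE : Nat.card E = 32 := by rw [← c5, ← y, Subgroup.card_map_of_injective a]
  have EX : E ≤ X := fun u hu => m.2 (x ▸ l (y ▸ m.1 hu))
  refine ⟨(F.lp d hg hs1).elem, k2, EX, fun u hu v hv => m.2 ?_, ⟨⟨⟨fun u v => Subtype.ext (a ?_)⟩⟩, fun u hu => a ?_⟩, cE, ?_⟩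
  · rw [y, map_mul, map_mul, map_inv]; exact (Subgroup.mem_normalizer_iff.1 (E0_norm (l2 (x ▸ m.1 hu))) _).1 (y ▸ m.1 hv)
  · simp only [Subgroup.coe_mul, map_mul]; exact congrArg Subtype.val (E0_ab.1.1.1 ⟨_, y ▸ m.1 u.2⟩ ⟨_, y ▸ m.1 v.2⟩)
  · rw [map_pow, map_one]; exact E0_ab.2 _ (y ▸ m.1 hu)
  obtain ⟨θ, -, t⟩ := exists_A6 l2 (inf_eq_left.2 l) (c6.trans (by rw [c5]))
  refine (iso_of_ker_le (θ.comp ((ι.comp X.subtype).codRestrict _ fun u => x ▸ m.1 u.2)) (Subgroup.ext fun u => ?_) ?_).2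
  · rw [← MonoidHom.comap_ker, t, ← y]; exact m.symm
  · rw [Lib.Core.card_subgroupOf_of_le EX, cE, ← Subgroup.card_map_of_injective (K := X) a, x, c6, nat_card_alternatingGroup]; simp [Nat.factorial]

end Cfsg.Agent.S5442
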