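import Cfsg.Statements.S5443
import Cfsg.Agent.Lib.Fi.Fr3

set_option autoImplicit false
open Cfsg

namespace Cfsg.Agent.S5443

open Cfsg.Lib.Fi

/-- Let G be a finite group of large Fischer type at the involution z: the generalized Fitting subgroup Q of H = C_G(z) is extraspecial of order 2^13, H has normal subgroups Q ≤ H₁ ≤ H₂ with H₁/Q of order 3, H₂/H₁ the projective special unitary group of dimension 4 over the field with nine elements and H₂ of index 2 in H, and some conjugate of z other than z lies in Q. Let t be an involution of Q not conjugate to z in G, and S the set of elements of H conjugating t to t or to t z (the stabilizer of the image of t in Q modulo its centre). Then the image of S in H/Q is isomorphic to the full isometry group of the elliptic quadratic form in dimension 6 over the field with two elements. -/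
theorem result {G : Type*} [Group G] [Finite G] (z : G) (Q : Subgroup (Subgroup.centralizer ({z} : Set G))) [Q.Normal] (hF : Cfsg.IsOfLargeFischerTypeAt z Q) (t : Subgroup.centralizer ({z} : Set G)) (htQ : t ∈ Q) (ht2 : orderOf t = 2) (ht : ¬ IsConj z (t : G)) (S : Subgroup (Subgroup.centralizer ({z} : Set G))) (hS : ∀ h : Subgroup.centralizer ({z} : Set G), h ∈ S ↔ (h * t * h⁻¹ = t ∨ ((h * t * h⁻¹ : Subgroup.centralizer ({z} : Set G)) : G) = t * z)) : Nonempty (↥(S.map (QuotientGroup.mk' Q)) ≃* Cfsg.isometryGroup (ZMod 2) (Cfsg.quadFormMinus 2 (ZMod 2) 1 1)) := by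
  obtain ⟨ν, ρ, F, r, k⟩ := exists_FT0 hF
  have n : t.1 ≠ z := fun e => ht (by rw [e])
  obtain ⟨ν, ρ, F, r', e⟩ := F.exists_std orb1 ((sing_iff.2 ⟨F.lt t, (F.sq htQ).1 (by rw [← pow_two, ← ht2, pow_orderOf_eq_one]),
    (F.ne_zero htQ).2 ⟨fun e => by simp [e] at ht2, fun e => n (congrArg Subtype.val e)⟩⟩).resolve_right fun h => ht ((k t htQ n).2 h))
  obtain ⟨ι, a, b⟩ := F.lift
  have m : ∀ h, h ∈ S ↔ ρ h ∈ Lib.Comp.stab ψ 5 := fun h => by
    rw [hS, Lib.Comp.mem_stab, ← e, F.fix htQ]; exact or_congr_right (Subtype.ext_iff (a2 := t * zc z)).symm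
  have c : S.map ρ = H0 ⊓ Lib.Comp.stab ψ 5 := by
    rw [← r, ← r']
    exact le_antisymm (fun _ ⟨g, hg, e⟩ => e ▸ ⟨⟨g, rfl⟩, (m g).1 hg⟩) fun _ ⟨⟨g, e⟩, hg⟩ => ⟨g, (m g).2 (e ▸ hg), e⟩
  exact ⟨(Subgroup.equivMapOfInjective _ ι a).trans ((MulEquiv.subgroupCongr ((b S).trans c)).trans X5_iso.some)⟩

end Cfsg.Agent.S5443
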