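import Cfsg.Statements.S5444
import Cfsg.Agent.Lib.Fi.Fr4

set_option autoImplicit false
open Cfsg

namespace Cfsg.Agent.S5444

open Cfsg.Lib.Fi

/-- Let G be a finite group of large Fischer type at the involution z: the generalized Fitting subgroup Q of H = C_G(z) is extraspecial of order 2^13, H has normal subgroups Q ≤ H₁ ≤ H₂ with H₁/Q of order 3, H₂/H₁ the projective special unitary group of dimension 4 over the field with nine elements and H₂ of index 2 in H, and some conjugate of z other than z lies in Q. Let T be a Sylow 2-subgroup of H. Then T has exactly one elementary abelian subgroup A of largest order; A has order 2^11, it meets Q in a subgroup of order 2^7, and its image in H/Q has order 16. -/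
theorem result {G : Type*} [Group G] [Finite G] (z : G) (Q : Subgroup (Subgroup.centralizer ({z} : Set G))) [Q.Normal] (hF : Cfsg.IsOfLargeFischerTypeAt z Q) (T : Sylow 2 ↥(Subgroup.centralizer ({z} : Set G))) : ∃ A : Subgroup ↥(T : Subgroup (Subgroup.centralizer ({z} : Set G))), Cfsg.maxElementaryAbelianSubgroups 2 ↥(T : Subgroup (Subgroup.centralizer ({z} : Set G))) = {A} ∧ Nat.card A = 2 ^ 11 ∧ Nat.card ↥(A.map (T : Subgroup (Subgroup.centralizer ({z} : Set G))).subtype ⊓ Q) = 2 ^ 7 ∧ Nat.card ↥((A.map (T : Subgroup (Subgroup.centralizer ({z} : Set G))).subtype).map (QuotientGroup.mk' Q)) = 16 := by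
  obtain ⟨ν, ρ, k, F, -⟩ := exists_FA hF
  obtain ⟨x, a, b⟩ := F.exists_x
  obtain ⟨s, f, F⟩ := k x a b
  obtain ⟨g, -, e⟩ := F.T_syl.exists_conj (Lib.Amalg.syl_top T)
  have l := (Lib.Amalg.cj_mono g F.A_le).trans_eq e
  have m := Subgroup.map_subgroupOf_eq_of_le l
  have c := (Lib.Core.card_subgroupOf_of_le l).trans ((Lib.Amalg.card_cj _ _).trans F.A_card)
  have u : ∀ B : Subgroup (T : Subgroup (Subgroup.centralizer ({z} : Set G))), IsElementaryAbelian 2 B → 2 ^ 11 ≤ Nat.card B → B = _ := fun B h1 h2 =>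
    Subgroup.map_injective (Subgroup.subtype_injective _) (((Lib.Amalg.cj_cj_inv g _).symm.trans (congrArg _ (F.uniq
      (Lib.Amalg.le_cj_iff.1 ((Subgroup.map_subtype_le B).trans_eq e.symm)) (Lib.Amalg.elemAb_map (Lib.Amalg.elemAb_map h1 _) _)
      (by rwa [Lib.Amalg.card_cj, Subgroup.card_map_of_injective (Subgroup.subtype_injective _)])))).trans m.symm)
  have el := elem_of_sq (A := (Subgroup.map (MulAut.conj g).toMonoidHom _).subgroupOf T) fun a ha =>
    Subtype.ext ((pow_two a.1).symm.trans ((Lib.Amalg.elemAb_map F.A_elem _).2 _ ha))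
  have c1 : Nat.card ↥(Subgroup.map (MulAut.conj g).toMonoidHom (Subgroup.centralizer (Wh Q ν)) ⊓ Q) = 2 ^ 7 := by
    rw [← F.A_Q, ← Lib.Amalg.card_cj g (Subgroup.centralizer _ ⊓ Q), Lib.Amalg.cj_inf, Lib.Amalg.cj_normal g Q]
  obtain ⟨ι, i1, i2⟩ := F.lift
  refine ⟨_, Set.eq_singleton_iff_unique_mem.2 ⟨⟨el, fun B hB => ?_⟩, fun B hB => u B hB.1 (c.ge.trans (hB.2 _ el))⟩, c, m.symm ▸ c1, ?_⟩
  · by_contra n
    exact n (u B hB (by omega) ▸ le_rfl)
  · rw [m, ← Subgroup.card_map_of_injective i1, i2, Lib.Amalg.map_cj, Lib.Amalg.card_cj, F.A_map, Bg_card]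

end Cfsg.Agent.S5444
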