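import Cfsg.Statements.S5448
import Cfsg.Agent.Lib.Fi.Fr6

set_option autoImplicit false
open scoped Pointwise
open Cfsg

namespace Cfsg.Agent.S5448

open Cfsg.Lib.Fi

/-- Let G be a finite group of large Fischer type at the involution z: the generalized Fitting subgroup Q of H = C_G(z) is extraspecial of order 2^13, H has normal subgroups Q ≤ H₁ ≤ H₂ with H₁/Q of order 3, H₂/H₁ the projective special unitary group of dimension 4 over the field with nine elements and H₂ of index 2 in H, and some conjugate of z other than z lies in Q. Let T be a Sylow 2-subgroup of G, A its Thompson subgroup, M = N_G(A) its normalizer, and t an involution of A not conjugate to z in G. Then the centralizer of t in M, modulo A, is isomorphic to the setwise stabilizer of a two-element subset of the 24 points in the Mathieu group of degree 24 (the automorphism group of the smaller Mathieu group on 22 points). -/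
theorem result {G : Type*} [Group G] [Finite G] (z : G) (Q : Subgroup (Subgroup.centralizer ({z} : Set G))) [Q.Normal] (hF : Cfsg.IsOfLargeFischerTypeAt z Q) (T : Sylow 2 G) (A M : Subgroup G) (hA : A = Cfsg.thompsonSubgroupOf 2 (T : Subgroup G)) (hM : M = Subgroup.normalizer (A : Set G)) (t : G) (htA : t ∈ A) (ht2 : orderOf t = 2) (ht : ¬ IsConj z t) : ∃ _ : (A.subgroupOf (M ⊓ Subgroup.centralizer ({t} : Set G))).Normal, Nonempty (↥(M ⊓ Subgroup.centralizer ({t} : Set G)) ⧸ A.subgroupOf (M ⊓ Subgroup.centralizer ({t} : Set G)) ≃* ↥(Cfsg.M24 ⊓ MulAction.stabilizer (Equiv.Perm Cfsg.GolayPt) ({none, some 0} : Set Cfsg.GolayPt))) := by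
  obtain ⟨μ, h⟩ := exists_TA hF T
  subst hM
  rw [← hA] at h
  obtain ⟨θ, a, b, c⟩ := h.exists_θ
  have d := (h.hD _).2 ⟨none, some 0, by simp, rfl⟩
  obtain ⟨m, hm, e⟩ := h.fus t htA _ d.1 (h.tr t htA _ d.1 (fun e => by simp [e] at ht2) ht d.2.1 d.2.2)
  have k : ∀ g : Subgroup.normalizer (A : Set G), θ g ∈ MulAction.stabilizer (Equiv.Perm GolayPt) ({none, some 0} : Set GolayPt) ↔
      g.1 * (m * t * m⁻¹) * g.1⁻¹ = m * t * m⁻¹ := fun g => by
    rw [e, c, MulAction.mem_stabilizer_iff, Set.smul_set_insert, Set.smul_set_singleton, Set.pair_eq_pair_iff]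
    refine ⟨fun k => ?_, h.w3 _ _ _ _ ((θ g).injective.ne (by simp))⟩
    rcases k with ⟨u, v⟩ | ⟨u, v⟩ <;> rw [show θ g none = _ from u, show θ g (some 0) = _ from v]
    exact Lib.Amalg.elemAb_le_cent h.elem (h.all _) _ (h.all _)
  let η := (θ.comp (MulAut.conj (⟨m, hm⟩ : Subgroup.normalizer (A : Set G))).toMonoidHom).comp
    (Subgroup.inclusion (inf_le_left (b := Subgroup.centralizer {t})))
  have k1 : η.ker = A.subgroupOf _ := Subgroup.ext fun g => (SetLike.ext_iff.1 b _).trans (Subgroup.mem_normalizer_iff.1 hm g.1).symm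
  have k2 : η.range = M24 ⊓ MulAction.stabilizer (Equiv.Perm GolayPt) ({none, some 0} : Set GolayPt) := by
    refine le_antisymm ?_ fun σ hσ => ?_
    · rintro _ ⟨g, rfl⟩
      refine ⟨a.le ⟨_, rfl⟩, (k _).2 ?_⟩
      calc _ = m * g.1 * m⁻¹ * (m * t * m⁻¹) * (m * g.1 * m⁻¹)⁻¹ := rfl
        _ = m * (g.1 * t * g.1⁻¹) * m⁻¹ := by group
        _ = _ := by rw [Lib.Known2.conj_eq_of_comm (Lib.Known2.mem_cent_single.1 g.2.2)]
    · obtain ⟨g, rfl⟩ := a.ge hσ.1
      refine ⟨⟨m⁻¹ * g * m, Subgroup.mul_mem _ (Subgroup.mul_mem _ (Subgroup.inv_mem _ hm) g.2) hm, Lib.Known2.mem_cent_single.2 (Lib.Known2.comm_of_conj_eq ?_)⟩,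
        congrArg θ (Subtype.ext (by simp [mul_assoc]))⟩
      calc _ = m⁻¹ * (g.1 * (m * t * m⁻¹) * g.1⁻¹) * m := by group
        _ = _ := by rw [(k g).1 hσ.2]; group
  have : (A.subgroupOf (Subgroup.normalizer (A : Set G) ⊓ Subgroup.centralizer {t})).Normal := k1 ▸ η.normal_ker
  exact ⟨this, ⟨((QuotientGroup.quotientMulEquivOfEq k1.symm).trans (QuotientGroup.quotientKerEquivRange η)).trans
    (MulEquiv.subgroupCongr k2)⟩⟩

end Cfsg.Agent.S5448
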