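import Cfsg.Statements.S5449
import Cfsg.Agent.Lib.Fi.Fr10
import Cfsg.Agent.Lib.Fi.Fr19
-- import your own Cfsg.Agent.* helpers here

set_option autoImplicit false
open Cfsg Cfsg.Lib.Fi

namespace Cfsg.Agent.S5449

/-- Let G be a finite group of large Fischer type at the involution z: the generalized Fitting subgroup Q of H = C_G(z) is extraspecial of order 2^13, H has normal subgroups Q ≤ H₁ ≤ H₂ with H₁/Q of order 3, H₂/H₁ the projective special unitary group of dimension 4 over the field with nine elements and H₂ of index 2 in H, and some conjugate of z other than z lies in Q. Then Q contains a four-group E, not containing z and containing an involution not conjugate to z in G, whose centralizer in G is quasisimple with quotient by E isomorphic to the projective special unitary group of dimension 6 over the field with four elements. -/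
theorem result {G : Type*} [Group G] [Finite G] (z : G) (Q : Subgroup (Subgroup.centralizer ({z} : Set G))) [Q.Normal] (hF : Cfsg.IsOfLargeFischerTypeAt z Q) : ∃ E : Subgroup G, E ≤ (Q.map (Subgroup.centralizer ({z} : Set G)).subtype) ∧ Cfsg.IsElementaryAbelian 2 E ∧ Nat.card E = 4 ∧ z ∉ E ∧ (∃ t ∈ E, orderOf t = 2 ∧ ¬ IsConj z t) ∧ Cfsg.IsQuasisimple ↥(Subgroup.centralizer (E : Set G)) ∧ ∃ (_ : (E.subgroupOf (Subgroup.centralizer (E : Set G))).Normal) (K : Type) (_ : Field K) (_ : Fintype K), Fintype.card K = 4 ∧ Nonempty (↥(Subgroup.centralizer (E : Set G)) ⧸ E.subgroupOf (Subgroup.centralizer (E : Set G)) ≃* Cfsg.PSU 6 K 2) := by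
  obtain ⟨A, μ, h, m1, m2, -⟩ := exists_BS' hF
  have : Fact (Nat.Prime 2) := ⟨Nat.prime_two⟩
  let := Fintype.ofFinite (GaloisField 2 2)
  have hK : Fintype.card (GaloisField 2 2) = 4 := by rw [← Nat.card_eq_fintype_card, GaloisField.card 2 2 (by norm_num)]; rfl
  have := normal_E (μ 1) (μ 2)
  have p2 := fun y => (QuotientGroup.eq_one_iff (N := (Subgroup.closure {μ 1, μ 2}).subgroupOf (YE (μ 1) (μ 2))) y).trans Subgroup.mem_subgroupOf
  obtain ⟨e⟩ := h.psu _ hK (QuotientGroup.mk' _) (QuotientGroup.mk'_surjective _) p2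
  have d := fun c hc => h.dd (c := c) ((by decide : ∀ c ∈ [1, 2, 3], c < 2048) c hc) ((by decide +kernel : ∀ c ∈ [1, 2, 3], DL A12.chi c = true) c hc)
  refine ⟨Subgroup.closure {μ 1, μ 2}, (Subgroup.closure_le _).2 (by rintro _ (rfl | rfl); exacts [m1, m2]), elem_of_sq fun a ha => ?_, h.E_card, fun c => ?_,
    ⟨μ 1, Subgroup.subset_closure (by simp), orderOf_eq_prime ((pow_two _).trans (h.sq 1)) (d 1 (by simp)).1, (d 1 (by simp)).2⟩,
    h.perfect _ (QuotientGroup.mk'_surjective _) p2 (Lib.Layer.IsQuasisimple.of_mulEquiv (qs_psu6 _ hK) e.symm), this, _, _, _, hK, ⟨e⟩⟩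
  · rcases h.mem_E.1 ha with rfl | rfl | rfl | rfl
    exacts [mul_one _, h.sq _, h.sq _, h.sq _]
  · rcases h.mem_E.1 c with c | c | c | c
    exacts [h.z_ne c, (d 1 (by simp)).2 (by rw [c]), (d 2 (by simp)).2 (by rw [c]), (d 3 (by simp)).2 (by rw [c])]

end Cfsg.Agent.S5449
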