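import Cfsg.Statements.S5451
import Cfsg.Agent.Lib.Fi.Fr7

set_option autoImplicit false
open Cfsg

namespace Cfsg.Agent.S5451

open Cfsg.Lib.Fi

/-- Let G be a finite group of large Fischer type at the involution z: the generalized Fitting subgroup Q of H = C_G(z) is extraspecial of order 2^13, H has normal subgroups Q ≤ H₁ ≤ H₂ with H₁/Q of order 3, H₂/H₁ the projective special unitary group of dimension 4 over the field with nine elements and H₂ of index 2 in H, and some conjugate of z other than z lies in Q. Let X be a subgroup of H of order 3 whose product with Q is normal in H (X maps onto the normal subgroup of order 3 of H/Q). Then the centralizer of X in H is quasisimple with cyclic centre of order 6 and central quotient isomorphic to the projective special unitary group of dimension 4 over the field with nine elements. -/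
theorem result {G : Type*} [Group G] [Finite G] (z : G) (Q : Subgroup (Subgroup.centralizer ({z} : Set G))) [Q.Normal] (hF : Cfsg.IsOfLargeFischerTypeAt z Q) (X : Subgroup (Subgroup.centralizer ({z} : Set G))) (hX : Nat.card X = 3) (hXQ : (X ⊔ Q).Normal) : Cfsg.IsQuasisimple ↥(Subgroup.centralizer ((X : Subgroup (Subgroup.centralizer ({z} : Set G))) : Set (Subgroup.centralizer ({z} : Set G)))) ∧ IsCyclic ↥(Subgroup.center ↥(Subgroup.centralizer ((X : Subgroup (Subgroup.centralizer ({z} : Set G))) : Set (Subgroup.centralizer ({z} : Set G))))) ∧ Nat.card ↥(Subgroup.center ↥(Subgroup.centralizer ((X : Subgroup (Subgroup.centralizer ({z} : Set G))) : Set (Subgroup.centralizer ({z} : Set G))))) = 6 ∧ ∃ (K : Type) (_ : Field K) (_ : Fintype K), Fintype.card K = 9 ∧ Nonempty (↥(Subgroup.centralizer ((X : Subgroup (Subgroup.centralizer ({z} : Set G))) : Set (Subgroup.centralizer ({z} : Set G)))) ⧸ Subgroup.center ↥(Subgroup.centralizer ((X : Subgroup (Subgroup.centralizer ({z} : Set G))) : Set (Subgroup.centralizer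 ({z} : Set G)))) ≃* Cfsg.PSU 4 K 3) := by
  obtain ⟨ν, ρ, F, k⟩ := exists_FG hF
  obtain ⟨-, -, -, -, -, -, -, -, ⟨K, i1, i2, hK, -⟩, -⟩ := hF
  have c := F.card_map (B := X)
  rw [hX, Subgroup.card_eq_one.2 (Subgroup.inf_eq_bot_of_coprime (by rw [hX, F.card]; norm_num)), mul_one] at c
  obtain ⟨x, a, b⟩ := F.exists_x
  obtain ⟨s, f, F, -⟩ := k x a b
  have e := eq_X0 (F.r0 ▸ Subgroup.map_le_range _ X) (by
    rw [show X.map ρ = (X ⊔ Q).map ρ by rw [Subgroup.map_sup, (Subgroup.map_eq_bot_iff _).2 F.ker.ge, sup_bot_eq], ← F.r0, MonoidHom.range_eq_map,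
      ← Subgroup.normalizer_eq_top (X ⊔ Q)]
    exact Subgroup.le_normalizer_map _) c.symm
  obtain ⟨x, a, b⟩ := e.ge (Subgroup.mem_zpowers X0)
  have x3 : x ^ 3 = 1 := by simpa [hX, Subtype.ext_iff] using pow_card_eq_one' (G := X) (x := ⟨x, a⟩)
  obtain ⟨s, f, F, h⟩ := k x b x3
  obtain rfl : Subgroup.zpowers x = X := Subgroup.eq_of_le_of_card_ge (Subgroup.zpowers_le.2 a) (by
    rw [hX, Nat.card_zpowers, ← X0_ord, ← b]; exact Nat.le_of_dvd (orderOf_pos _) (orderOf_map_dvd _ _))
  rw [show Subgroup.centralizer (Subgroup.zpowers x : Set (Subgroup.centralizer ({z} : Set G))) = Subgroup.centralizer {x} from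
    Subgroup.ext fun _ => Lib.Known2.mem_cent_zpowers.trans Lib.Known2.mem_cent_single.symm]
  obtain ⟨c, ⟨e⟩⟩ := F.D_cov.cen fun d hd => Lib.Known2.mem_cent_zpowers.2 (Commute.mul_right (Lib.Known2.mem_cent_single.1 hd) (F.cen d))
  have := Lib.Comp.U43x.simple
  obtain ⟨e'⟩ := Lib.Comp.U43x.iso hK
  refine ⟨⟨F.perfect h, e.isSimpleGroup⟩, ?_, ?_, K, i1, i2, hK, ⟨e.trans e'⟩⟩ <;> rw [c]
  exacts [(Subgroup.subgroupOfEquivOfLe F.D_cov.1).isCyclic.2 inferInstance, by rw [Lib.Core.card_subgroupOf_of_le F.D_cov.1, Nat.card_zpowers, F.xz_ord]]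

end Cfsg.Agent.S5451
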