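import Cfsg.Statements.S5459
import Cfsg.Agent.Lib.Known2.LE4

set_option autoImplicit false
open Cfsg

namespace Cfsg.Agent.S5459
open Cfsg.Lib.Known2 Cfsg.Lib.Amalg Cfsg.Lib.Core Subgroup
open scoped commutatorElement

/-- Let G be a finite group with a quasisimple normal subgroup L and an involution d such that G is generated by L and d, the centre of L has odd order, and d inverts every element of the centre of L. If the commuting graph on the conjugacy class of the image of d in G modulo the centre of L is connected, then the commuting graph on the conjugacy class of d is connected. -/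
theorem result {G : Type*} [Group G] [Finite G] (L : Subgroup G) [L.Normal] (hL : Cfsg.IsQuasisimple ↥L) (d : G) (hd : orderOf d = 2) (hgen : L ⊔ Subgroup.zpowers d = ⊤) (hodd : Odd (Nat.card ↥(Subgroup.center ↥L))) (hinv : ∀ c ∈ (Subgroup.center ↥L).map L.subtype, d * c * d⁻¹ = c⁻¹) [hn : ((Subgroup.center ↥L).map L.subtype).Normal] (hconn : (Cfsg.commutingGraph (conjugatesOf (QuotientGroup.mk d : G ⧸ (Subgroup.center ↥L).map L.subtype))).Connected) : (Cfsg.commutingGraph (conjugatesOf d)).Connected := by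
  set Z := (center L).map L.subtype with hZ
  have hcl : ∀ g y : G, y ∈ conjugatesOf d → g * y * g⁻¹ ∈ conjugatesOf d := by
    intro g y hy
    obtain ⟨h, rfl⟩ := mem_conjugatesOf_iff.1 hy
    exact mem_conjugatesOf_iff.2 ⟨g * h, by group⟩
  have hd0 : d ∈ conjugatesOf d := mem_conjugatesOf_self
  have dd := mul_self_of_orderOf_two hd
  have hinv' : ∀ a ∈ conjugatesOf d, ∀ c ∈ Z, a * c * a⁻¹ = c⁻¹ := by
    intro a ha c hc
    obtain ⟨g, rfl⟩ := mem_conjugatesOf_iff.1 ha
    have := hinv _ (hn.conj_mem c hc g⁻¹)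
    calc _ = g * (d * (g⁻¹ * c * g⁻¹⁻¹) * d⁻¹) * g⁻¹ := by group
      _ = _ := by rw [this]; group
  have root : ∀ c ∈ Z, ∃ w ∈ Z, w * w = c := by
    intro c hc
    obtain ⟨k, hk⟩ := hodd
    rw [← card_map_subtype] at hk
    have : c ^ (2 * k + 1) = 1 := by
      rw [← hk]; exact orderOf_dvd_iff_pow_eq_one.1 (Subgroup.orderOf_dvd_natCard _ hc)
    refine ⟨c ^ (k + 1), pow_mem hc _, ?_⟩
    rw [← pow_add, show k + 1 + (k + 1) = 2 * k + 1 + 1 by ring, pow_succ, this, one_mul]
  have cos : ∀ a ∈ conjugatesOf d, ∀ c ∈ Z, ∃ w ∈ Z, a * c = w * a * w⁻¹ := by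
    intro a ha c hc
    obtain ⟨w, hw, rfl⟩ := root c hc
    refine ⟨w⁻¹, inv_mem hw, ?_⟩
    rw [inv_inv, ← hinv' a ha w hw]; group
  let R : G → G → Prop := Relation.ReflTransGen
    (fun a b => a ∈ conjugatesOf d ∧ b ∈ conjugatesOf d ∧ Commute a b)
  have Rc : ∀ g x y, R x y → R (g * x * g⁻¹) (g * y * g⁻¹) := by
    intro g x y h
    induction h with
    | refl => exact Relation.ReflTransGen.refl
    | tail _ h ih => exact ih.tail ⟨hcl _ _ h.1, hcl _ _ h.2.1, by
        show _ * _ = _ * _; rw [conj_mul, conj_mul, h.2.2.eq]⟩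
  have Rs : ∀ x y, R x y → R y x := fun x y h => by
    induction h with
    | refl => exact Relation.ReflTransGen.refl
    | tail _ h ih => exact Relation.ReflTransGen.head ⟨h.2.1, h.1, h.2.2.symm⟩ ih
  let H : Subgroup G :=
    { carrier := {g | R d (g * d * g⁻¹)}
      one_mem' := by simpa using Relation.ReflTransGen.refl
      mul_mem' := by
        intro a b ha hb
        have := Relation.ReflTransGen.trans ha (Rc a _ _ hb)
        show R _ _
        convert this using 1; group
      inv_mem' := by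
        intro a ha
        have := Rs _ _ (Rc a⁻¹ _ _ ha)
        show R _ _
        convert this using 1; group }
  have lift : ∀ y : conjugatesOf (QuotientGroup.mk d : G ⧸ Z), ∃ e ∈ conjugatesOf d,
      (QuotientGroup.mk e : G ⧸ Z) = y ∧ R d e := by
    intro y
    have := (SimpleGraph.reachable_iff_reflTransGen _ _).1 (hconn ⟨_, mem_conjugatesOf_self⟩ y)
    induction this with
    | refl => exact ⟨d, hd0, rfl, Relation.ReflTransGen.refl⟩
    | @tail u v _ h ih =>
      obtain ⟨a, ha, e, hR⟩ := ih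
      obtain ⟨v, hv⟩ := v
      obtain ⟨g, rfl⟩ := mem_conjugatesOf_iff.1 hv
      obtain ⟨g, rfl⟩ := QuotientGroup.mk_surjective g
      have hb := hcl g d hd0
      have hc : Commute (QuotientGroup.mk a : G ⧸ Z) (QuotientGroup.mk (g * d * g⁻¹)) := by
        rw [e]
        rcases ((SimpleGraph.fromRel_adj _ _ _).1 h).2 with h | h
        exacts [h, h.symm]
      generalize hbe : g * d * g⁻¹ = b at hb hc
      have m : b⁻¹ * (a * b * a⁻¹) ∈ Z := by
        rw [← QuotientGroup.eq]
        simp only [QuotientGroup.mk_mul, QuotientGroup.mk_inv, hc.eq]; group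
      obtain ⟨w, hw, e1⟩ := root _ m
      obtain ⟨w', -, e2⟩ := cos b hb w hw
      refine ⟨b * w, e2 ▸ hcl _ _ hb, ?_, hR.tail ⟨ha, e2 ▸ hcl _ _ hb, comm_of_conj_eq ?_⟩⟩
      · rw [QuotientGroup.mk_mul, (QuotientGroup.eq_one_iff w).2 hw, mul_one, ← hbe]; rfl
      · calc _ = b * (b⁻¹ * (a * b * a⁻¹)) * (a * w * a⁻¹) := by group
          _ = _ := by rw [← e1, hinv' a ha w hw]; group
  have dec : ∀ g : G, ∃ w ∈ Z, w⁻¹ * g ∈ H := by
    intro g
    obtain ⟨e, he, e1, hR⟩ := lift ⟨QuotientGroup.mk (g * d * g⁻¹), mem_conjugatesOf_iff.2 ⟨QuotientGroup.mk g, rfl⟩⟩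
    obtain ⟨w, hw, e2⟩ := cos e he _ (QuotientGroup.eq.1 e1)
    refine ⟨w, hw, ?_⟩
    show R _ _
    convert hR using 1
    calc _ = w⁻¹ * (e * (e⁻¹ * (g * d * g⁻¹))) * w := by group
      _ = _ := by rw [e2]; group
  have hZL : Z ≤ L := map_subtype_le _
  have hZc : ∀ w ∈ Z, ∀ x ∈ L, x * w = w * x := by
    intro w hw
    rw [hZ, Lib.Core.map_subtype_center] at hw
    exact mem_centralizer_comm.1 hw.2
  have hLH : L ≤ H := by
    rw [← Lib.Layer.IsQuasisimple.commutator_self hL, commutator_le]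
    intro x hx y hy
    obtain ⟨w, hw, h1⟩ := dec x
    obtain ⟨v, hv, h2⟩ := dec y
    have := mul_mem (mul_mem (mul_mem h1 h2) (inv_mem h1)) (inv_mem h2)
    convert this using 1
    have k1 := conj_eq_of_comm (hZc _ (inv_mem hw) _ (commutator_le_self L
      (commutator_mem_commutator hx hy))).symm
    have k2 := conj_eq_of_comm (hZc _ (inv_mem hv) _ hx)
    have k3 := conj_eq_of_comm (hZc _ hw _ (inv_mem hy))
    have k4 := conj_eq_of_comm (hZc _ hv _ (mul_mem (commutator_le_self L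
      (commutator_mem_commutator hx hy)) (hZL hw))).symm
    calc ⁅x, y⁆ = w⁻¹ * ⁅x, y⁆ * w⁻¹⁻¹ := k1.symm
      _ = w⁻¹ * (v⁻¹ * (v * (⁅x, y⁆ * w) * v⁻¹) * v) := by group
      _ = w⁻¹ * ((x * v⁻¹ * x⁻¹) * (⁅x, y⁆ * (y * (y⁻¹ * w * y⁻¹⁻¹) * y⁻¹)) * v) := by
        rw [k4, k2]; group
      _ = _ := by rw [k3, commutatorElement_def]; group
  have all : ∀ x : conjugatesOf d, (commutingGraph (conjugatesOf d)).Reachable ⟨d, hd0⟩ x := by
    rintro ⟨x, hx⟩
    obtain ⟨g, rfl⟩ := mem_conjugatesOf_iff.1 hx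
    obtain ⟨w, hw, h⟩ := dec g
    have h1 : R d (g * d * g⁻¹) := by
      have := mul_mem (hLH (hZL hw)) h
      rwa [mul_inv_cancel_left] at this
    generalize g * d * g⁻¹ = y at hx h1
    induction h1 with
    | refl => rfl
    | @tail u v _ h ih =>
      by_cases e : u = v
      · subst e; exact ih hx
      · exact (ih h.1).trans (SimpleGraph.Adj.reachable ((SimpleGraph.fromRel_adj _ _ _).2
          ⟨fun e' => e (congrArg Subtype.val e'), Or.inl h.2.2⟩))
  have : Nonempty (conjugatesOf d) := ⟨⟨d, hd0⟩⟩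
  exact ⟨fun x y => (all x).symm.trans (all y)⟩

end Cfsg.Agent.S5459
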