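import Cfsg.Statements.S5462
import Cfsg.Agent.Lib.Fi.V22

set_option autoImplicit false
open Cfsg

namespace Cfsg.Agent.S5462

open Cfsg.Lib.Fi

/-- Let G be a finite group with trivial centre generated by a conjugation-invariant set D of 3-transpositions on which it acts primitively, such that for some d in D the subgroup generated by the members of D other than d commuting with d has central largest normal 2- and 3-subgroups, and suppose G with D is of type M(22). Then every automorphism of G of order 2 fixes some member of D. -/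
theorem result {G : Type*} [Group G] [Finite G] {D : Set G} (hD : Cfsg.IsThreeTranspositionGroup D) (hprim : Cfsg.IsPrimitiveUnderConj D) (d₀ : G) (hd₀ : d₀ ∈ D) (h3 : Cfsg.pCore 3 ↥(Subgroup.closure {y : G | y ∈ D ∧ y ≠ d₀ ∧ Commute d₀ y}) ≤ Subgroup.center ↥(Subgroup.closure {y : G | y ∈ D ∧ y ≠ d₀ ∧ Commute d₀ y})) (h2 : Cfsg.pCore 2 ↥(Subgroup.closure {y : G | y ∈ D ∧ y ≠ d₀ ∧ Commute d₀ y}) ≤ Subgroup.center ↥(Subgroup.closure {y : G | y ∈ D ∧ y ≠ d₀ ∧ Commute d₀ y})) (h22 : Cfsg.IsOfTypeM22 G D) (φ : MulAut G) (hφ : orderOf φ = 2) : ∃ d ∈ D, φ d = d := by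
  obtain ⟨S, rfl⟩ := s22 hD hprim h22
  obtain ⟨e, he, h⟩ := S.classA hφ
  obtain ⟨g, hg⟩ := isConj_iff.1 h
  have c := S.A.cp_le_cent T22.r_a List.mem_cons_self (S.A.mem_cp he)
  obtain ⟨x, hx, e⟩ := S.X.D (by decide +kernel) (by decide +kernel) (by decide +kernel) (S.A.conj_mem_D g⁻¹ (S.A.v_mem_D B22.Ua))
  refine ⟨x, hx, (mem_comap_conj S.X.inj).1 (Subgroup.mem_centralizer_singleton_iff.2 ?_)⟩
  rw [← hg, Subgroup.mem_centralizer_singleton_iff] at c
  rw [e]
  calc _ = g⁻¹ * (S.A.v (B22.Ua, 0) * (g * φ * g⁻¹)) * g := by group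
    _ = _ := by rw [← c]; group

end Cfsg.Agent.S5462
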