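import Cfsg.Statements.S5464
import Cfsg.Agent.Lib.Fi.C24
import Cfsg.Agent.Lib.Fi.B24c

set_option autoImplicit false
open Cfsg

namespace Cfsg.Agent.S5464

open Cfsg.Lib.Fi

/-- Let G be a finite group with trivial centre generated by a conjugation-invariant set D of 3-transpositions on which it acts primitively, such that for some d in D the subgroup generated by the members of D other than d commuting with d has central largest normal 2- and 3-subgroups, and suppose G with D is of type M(23) or of type M(24). Then for m ≤ 3, a product of m distinct pairwise commuting members of D determines the set of factors: any two m-element sets of pairwise commuting members of D with the same product coincide. -/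
theorem result {G : Type*} [Group G] [Finite G] {D : Set G} (hD : Cfsg.IsThreeTranspositionGroup D) (hprim : Cfsg.IsPrimitiveUnderConj D) (d₀ : G) (hd₀ : d₀ ∈ D) (h3 : Cfsg.pCore 3 ↥(Subgroup.closure {y : G | y ∈ D ∧ y ≠ d₀ ∧ Commute d₀ y}) ≤ Subgroup.center ↥(Subgroup.closure {y : G | y ∈ D ∧ y ≠ d₀ ∧ Commute d₀ y})) (h2 : Cfsg.pCore 2 ↥(Subgroup.closure {y : G | y ∈ D ∧ y ≠ d₀ ∧ Commute d₀ y}) ≤ Subgroup.center ↥(Subgroup.closure {y : G | y ∈ D ∧ y ≠ d₀ ∧ Commute d₀ y})) (h : Cfsg.IsOfTypeM23 G D ∨ Cfsg.IsOfTypeM24 G D) (m : ℕ) (hm : m ≤ 3) (j : G) (l l' : List G) (hl : (l.Nodup ∧ l.length = m ∧ (∀ a ∈ l, a ∈ D) ∧ (∀ a ∈ l, ∀ b ∈ l, Commute a b) ∧ l.prod = j)) (hl' : (l'.Nodup ∧ l'.length = m ∧ (∀ a ∈ l', a ∈ D) ∧ (∀ a ∈ l', ∀ b ∈ l', Commute a b) ∧ l'.prod = j)) : (∀ x : G, x ∈ l ↔ x ∈ l') := by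
  have k : ∀ {P : Par} (M : Md G P), m ≤ 1 → Fac M.D m j l → Fac M.D m j l' → ∀ x, x ∈ l ↔ x ∈ l' := fun M h a b x => by
    interval_cases m
    · rw [List.length_eq_zero_iff.1 a.2.1, List.length_eq_zero_iff.1 b.2.1]
    · obtain ⟨y, rfl⟩ := List.length_eq_one_iff.1 a.2.1
      obtain ⟨z, rfl⟩ := List.length_eq_one_iff.1 b.2.1
      have := a.2.2.2.2.trans b.2.2.2.2.symm
      simp only [List.prod_singleton] at this
      rw [this]
  rcases h with h | h
  · obtain ⟨S, rfl⟩ := s23 hD hprim h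
    have a2 := S.M.fac2 B23.j2_fac
    have a3 := S.M.fac3 B23.j3_fac
    obtain h | rfl | rfl : m ≤ 1 ∨ m = 2 ∨ m = 3 := by omega
    exacts [k S.M h hl hl', S.M.fac_unique (L := [_, _]) (S.M.ft2 B23.t2)
      (a2.2.2.2.2 ▸ (B23.j2_c S).cent (S.M.fixIs B23.j2_fix)) B23.j2_un hl hl',
      S.M.fac_unique (L := [_, _, _]) (S.M.ft3 B23.t2 B23.t3)
      (a3.2.2.2.2 ▸ (B23.j3_c S).cent (S.M.fixIs B23.j3_fix)) B23.j3_un hl hl']
  · obtain ⟨S, rfl⟩ := s24 hD hprim h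
    have a2 := S.M.fac2 B24.j2_fac
    have a3 := S.M.fac3 B24.j3_fac
    obtain h | rfl | rfl : m ≤ 1 ∨ m = 2 ∨ m = 3 := by omega
    exacts [k S.M h hl hl', S.M.fac_unique (L := [_, _]) (S.M.ft2 B24.t2)
      (a2.2.2.2.2 ▸ (B24.j2_c S).cent (B24.j2_fx S.M)) B24.j2_un hl hl',
      S.M.fac_unique (L := [_, _, _]) (S.M.ft3 B24.t2 B24.t3)
      (a3.2.2.2.2 ▸ (B24.j3_c S).cent (B24.j3_fx S.M)) B24.j3_un hl hl']

end Cfsg.Agent.S5464
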