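import Cfsg.Statements.S5465
import Cfsg.Agent.Lib.Fi.C24b

set_option autoImplicit false
open Cfsg

namespace Cfsg.Agent.S5465

open Cfsg.Lib.Fi

/-- Let G be a finite group with trivial centre generated by a conjugation-invariant set D of 3-transpositions on which it acts primitively, such that for some d in D the subgroup generated by the members of D other than d commuting with d has central largest normal 2- and 3-subgroups, and suppose G with D is of type M(24), and let L be the commutator subgroup of G. Let d₁, d₂ be distinct commuting members of D and j = d₁ d₂. Then K, the joint centralizer of d₁ and d₂ in L, is quasisimple, is the generalized Fitting subgroup of the centralizer of j in L, has index 2 in it and contains j, and the centralizer of j in L modulo the subgroup generated by j is isomorphic to the full automorphism group of the Fischer group Fi₂₂ (as presented). -/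
theorem result {G : Type*} [Group G] [Finite G] {D : Set G} (hD : Cfsg.IsThreeTranspositionGroup D) (hprim : Cfsg.IsPrimitiveUnderConj D) (d₀ : G) (hd₀ : d₀ ∈ D) (h3 : Cfsg.pCore 3 ↥(Subgroup.closure {y : G | y ∈ D ∧ y ≠ d₀ ∧ Commute d₀ y}) ≤ Subgroup.center ↥(Subgroup.closure {y : G | y ∈ D ∧ y ≠ d₀ ∧ Commute d₀ y})) (h2 : Cfsg.pCore 2 ↥(Subgroup.closure {y : G | y ∈ D ∧ y ≠ d₀ ∧ Commute d₀ y}) ≤ Subgroup.center ↥(Subgroup.closure {y : G | y ∈ D ∧ y ≠ d₀ ∧ Commute d₀ y})) (h24 : Cfsg.IsOfTypeM24 G D) (L : Subgroup G) (hL : L = commutator G) (d₁ d₂ : G) (h₁ : d₁ ∈ D) (h₂ : d₂ ∈ D) (hne : d₁ ≠ d₂) (hc : Commute d₁ d₂) (K CL : Subgroup G) (hK : K = L ⊓ Subgroup.centralizer ({d₁, d₂} : Set G)) (hCL : CL = L ⊓ Subgroup.centralizer ({d₁ * d₂} : Set G)) [hn : ((Subgroup.zpowers (d₁ * d₂)).subgroupOf CL).Normal] : Cfsg.IsQuasisimple ↥K ∧ K = (Cfsg.generalizedFittingSubgroup ↥CL).map CL.subtype ∧ K ≤ CL ∧ (K.subgroupOf CL).index = 2 ∧ d₁ * d₂ ∈ K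 ∧ Nonempty (↥CL ⧸ (Subgroup.zpowers (d₁ * d₂)).subgroupOf CL ≃* MulAut Cfsg.Spor.Fi22) := by
  obtain ⟨S, rfl⟩ := s24 hD hprim h24
  obtain ⟨T, e, rfl, rfl⟩ := S.pt2 h₁ h₂ hne hc
  have hX := (T.t24.2 _ (T.M.v_mem_D B24.Ua)).2 _ T.abc.1
  have ha := T.a_mem (T := {T.a, T.b}) (by simp [hc.symm]) (by simp)
  obtain ⟨p1, p2, ⟨p3⟩⟩ := T.even_part (fun x hx => hx.1.1) hX.1.tr hX.1.ne T.cl_ab.1 (T.M.v_mem_D _) ha
  obtain ⟨q⟩ := quot22 hX
  have q' := (p3.trans (quot_center_congr T.cl_ab.1.symm)).trans q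
  have hab : T.a * T.b ∈ commutator G ⊓ Subgroup.centralizer {T.a, T.b} :=
    ⟨T.mul_mem_comm (T.M.v_mem_D _) (T.M.v_mem_D _), by
      rintro _ (rfl | rfl)
      exacts [(Commute.refl _).mul_right hc, hc.symm.mul_right (Commute.refl _)]⟩
  have hle : Subgroup.centralizer {T.a, T.b} ≤ Subgroup.centralizer {T.a * T.b} := fun g hg =>
    Subgroup.mem_centralizer_singleton_iff.2 (Commute.mul_left (hg _ (by simp)) (hg _ (by simp))).symm
  subst hL hK hCL
  have hq : IsQuasisimple ↥(commutator G ⊓ Subgroup.centralizer {T.a, T.b}) :=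
    ⟨p1, have := Cfsg.Lib.Comp.Fi22.main.1; q'.isSimpleGroup⟩
  have pm := fun g (hg : g ∈ commutator G ⊓ Subgroup.centralizer {T.a * T.b}) =>
    T.perm2 (T.M.v_mem_D _) T.abc.1 (Subgroup.mem_centralizer_singleton_iff.1 hg.2)
  have hn : commutator G ⊓ Subgroup.centralizer {T.a * T.b} ≤
      Subgroup.normalizer ((commutator G ⊓ Subgroup.centralizer {T.a, T.b} : Subgroup G) : Set G) := fun g hg =>
    Cfsg.Lib.Core.mem_normalizer_of_conj_mem fun x hx => ⟨Subgroup.Normal.conj_mem inferInstance _ hx.1 g, fun y hy => by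
      have c1 := (conj_comm (g := g)).2 (hx.2 T.a (by simp))
      have c2 := (conj_comm (g := g)).2 (hx.2 T.b (by simp))
      rcases pm g hg with ⟨a, b⟩ | ⟨a, b⟩ <;> rw [a] at c1 <;> rw [b] at c2 <;> rcases hy with rfl | rfl <;> assumption⟩
  have hZ : (commutator G ⊓ Subgroup.centralizer {T.a * T.b}) ⊓ Subgroup.centralizer
      ((commutator G ⊓ Subgroup.centralizer {T.a, T.b} : Subgroup G) : Set G) = Subgroup.zpowers (T.a * T.b) := by
    refine le_antisymm (fun g hg => ?_) (Subgroup.zpowers_le.2 ⟨⟨hab.1, hle hab.2⟩, fun x hx =>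
      Subgroup.mem_centralizer_singleton_iff.1 (hle hx.2)⟩)
    have : g ∈ Subgroup.centralizer {T.a, T.b} := by
      rcases pm g hg.1 with ⟨a, b⟩ | ⟨a, b⟩
      · rintro _ (rfl | rfl)
        exacts [(mul_inv_eq_iff_eq_mul.1 a).symm, (mul_inv_eq_iff_eq_mul.1 b).symm]
      · obtain ⟨x, hx⟩ := hX.1.ne
        have := hg.2 (T.a * x) ⟨T.mul_mem_comm (T.M.v_mem_D _) hx.1.1, mul_mem ha.1 (T.cl_ab.1.le (Subgroup.subset_closure hx))⟩
        have h1 := Md.Fac.conj (T.fac_pair (T.M.v_mem_D _) hx.1) g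
        rw [← this, mul_inv_cancel_right] at h1
        have := (T.un2 h1 (T.fac_pair (T.M.v_mem_D _) hx.1) _).1 List.mem_cons_self
        simp only [MulAut.conj_apply, a, List.mem_cons, List.not_mem_nil, or_false] at this
        exact (this.elim hne.symm hx.2.1.symm).elim
    refine T.even_le (T := {T.a, T.b}) ?_ (fun x hx => ?_) (Subgroup.zpowers_le.2 hab.1)
      ⟨hg.1.1, S24.cent_K T.cl_ab ⟨this, p2 ⟨this, hg.2⟩⟩⟩
    · rintro _ (rfl | rfl)
      exacts [T.sq (T.M.v_mem_D _) ▸ one_mem _, Subgroup.mem_zpowers _]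
    · exact (Subgroup.zpowers_le.2 hab.2 hx) _ (by simp)
  have c1 := T.card_inf_comm (T.M.v_mem_D B24.Ua) ha.1
  have c2 := T.card_inf_comm (T.M.v_mem_D B24.Ua) (hle ha.1)
  rw [T.card_K2] at c1
  rw [T.card_ab] at c2
  refine ⟨hq, (fstar_qs (inf_le_inf_left _ hle) hn hq (hZ.le.trans (Subgroup.zpowers_le.2 hab))).symm,
    inf_le_inf_left _ hle, (eq_of_index_two le_rfl (inf_le_inf_left _ hle) (fun e => ?_) (by omega)).2, hab,
    quot_aut_iso hn p1 hZ q' ?_⟩
  · rw [e] at c1; omega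
  · rw [card_aut22, Nat.card_zpowers, ← T.j2_eq, T.M.ord Nat.prime_two B24.j2_ord, T.j2_eq]; omega

end Cfsg.Agent.S5465
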