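import Cfsg.Statements.S5466
import Cfsg.Agent.Lib.Fi.C24b
import Cfsg.Agent.S0815

set_option autoImplicit false
open Cfsg

namespace Cfsg.Agent.S5466

open Cfsg.Lib.Fi

/-- Let G be a finite group with trivial centre generated by a conjugation-invariant set D of 3-transpositions on which it acts primitively, such that for some d in D the subgroup generated by the members of D other than d commuting with d has central largest normal 2- and 3-subgroups, and suppose G with D is of type M(24), and let L be the commutator subgroup of G. Let d₁, d₂, d₃ be distinct pairwise commuting members of D, j their product, E the subgroup generated by d₁ d₂ and d₁ d₃ (a four-group lying in L), CL the centralizer of j in L and K its generalized Fitting subgroup. Then K is quasisimple with centre E, K is the centralizer of E in L, K modulo E is isomorphic to the projective special unitary group of dimension 6 over the field with four elements,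 CL/K is isomorphic to the symmetric group of degree 3, and CL modulo E is isomorphic to the full automorphism group of that unitary group. -/
theorem result {G : Type*} [Group G] [Finite G] {D : Set G} (hD : Cfsg.IsThreeTranspositionGroup D) (hprim : Cfsg.IsPrimitiveUnderConj D) (d₀ : G) (hd₀ : d₀ ∈ D) (h3 : Cfsg.pCore 3 ↥(Subgroup.closure {y : G | y ∈ D ∧ y ≠ d₀ ∧ Commute d₀ y}) ≤ Subgroup.center ↥(Subgroup.closure {y : G | y ∈ D ∧ y ≠ d₀ ∧ Commute d₀ y})) (h2 : Cfsg.pCore 2 ↥(Subgroup.closure {y : G | y ∈ D ∧ y ≠ d₀ ∧ Commute d₀ y}) ≤ Subgroup.center ↥(Subgroup.closure {y : G | y ∈ D ∧ y ≠ d₀ ∧ Commute d₀ y})) (h24 : Cfsg.IsOfTypeM24 G D) (L : Subgroup G) (hL : L = commutator G) (d₁ d₂ d₃ : G) (h₁ : d₁ ∈ D) (h₂ : d₂ ∈ D) (h₃ : d₃ ∈ D) (h12 : d₁ ≠ d₂) (h13 : d₁ ≠ d₃) (h23 : d₂ ≠ d₃) (c12 : Commute d₁ d₂) (c13 : Commute d₁ d₃) (c23 : Commute d₂ d₃) (E CL K : Subgroup G) (hE : E = Subgroup.closure ({d₁ * d₂, d₁ * d₃} : Set G))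 (hCL : CL = L ⊓ Subgroup.centralizer ({d₁ * d₂ * d₃} : Set G)) (hK : K = (Cfsg.generalizedFittingSubgroup ↥CL).map CL.subtype) : Cfsg.IsQuasisimple ↥K ∧ (Subgroup.center ↥K).map K.subtype = E ∧ K = L ⊓ Subgroup.centralizer (E : Set G) ∧ (∃ (_ : (E.subgroupOf K).Normal) (F : Type) (_ : Field F) (_ : Fintype F), Fintype.card F = 4 ∧ Nonempty (↥K ⧸ E.subgroupOf K ≃* Cfsg.PSU 6 F 2)) ∧ ∃ _ : (K.subgroupOf CL).Normal, Nonempty (↥CL ⧸ K.subgroupOf CL ≃* Equiv.Perm (Fin 3)) ∧ E ≤ CL ∧ ∃ (_ : (E.subgroupOf CL).Normal) (F : Type) (_ : Field F) (_ : Fintype F), Fintype.card F = 4 ∧ Nonempty (↥CL ⧸ E.subgroupOf CL ≃* MulAut (Cfsg.PSU 6 F 2)) := by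
  obtain ⟨S, rfl⟩ := s24 hD hprim h24
  obtain ⟨T, e, rfl, rfl, rfl⟩ := S.pt3 h₁ h₂ h₃ h12 h13 h23 c12 c13 c23
  have hX := ((T.t24.2 _ (T.M.v_mem_D B24.Ua)).2 _ T.abc.1).2 _ T.abc.2
  obtain ⟨t, ht⟩ := hX.cm
  have ha := T.a_mem (T := {T.a, T.b, T.c}) (by simp [c12.symm, c13.symm]) (by simp)
  obtain ⟨p1, p2, ⟨p3⟩⟩ := T.even_part (fun x hx => hx.1.1.1) (fun _ a _ b => ht.tr a b) hX.vw.ne T.cl_abc.1
    (T.M.v_mem_D _) ha
  obtain ⟨F, i1, i2, hF, ⟨q⟩⟩ := hX.psu
  have q' := (p3.trans (quot_center_congr T.cl_abc.1.symm)).trans q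
  have hle : Subgroup.centralizer {T.a, T.b, T.c} ≤ Subgroup.centralizer {T.a * T.b * T.c} := fun g hg =>
    Subgroup.mem_centralizer_singleton_iff.2 (Commute.mul_left (Commute.mul_left (hg _ (by simp)) (hg _ (by simp)))
      (hg _ (by simp))).symm
  generalize hK0 : commutator G ⊓ Subgroup.centralizer {T.a, T.b, T.c} = K0 at p1 p2 q'
  have hE1 : E ≤ K0 := by
    rw [hE, ← hK0, Subgroup.closure_le]
    rintro _ (rfl | rfl) <;> refine ⟨T.mul_mem_comm (T.M.v_mem_D _) (T.M.v_mem_D _), ?_⟩ <;> rintro _ (rfl | rfl | rfl)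
    exacts [(Commute.refl _).mul_right c12, c12.symm.mul_right (Commute.refl _), c13.symm.mul_right c23.symm,
      (Commute.refl _).mul_right c13, c12.symm.mul_right c23, c13.symm.mul_right (Commute.refl _)]
  have hE2 : L ⊓ Subgroup.centralizer (E : Set G) = K0 := by
    rw [hE, Subgroup.centralizer_closure, hL, ← hK0]
    refine le_antisymm (fun g hg => ⟨hg.1, ?_⟩) (inf_le_inf_left _ fun g hg => ?_)
    · rintro _ (rfl | rfl)
      exacts [Commute.mul_left (hg _ (by simp)) (hg _ (by simp)), Commute.mul_left (hg _ (by simp)) (hg _ (by simp))]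
    · have a1 := T.perm2 (g := g) (T.M.v_mem_D _) T.abc.1 (hg.2 _ (by simp)).symm
      have a2 := T.perm2 (g := g) (T.M.v_mem_D _) T.abc.2.1 (hg.2 _ (by simp)).symm
      obtain ⟨a, b⟩ := a1.resolve_right fun a => a2.elim (fun b => h12 (b.1.symm.trans a.1)) fun b => h23 (a.1.symm.trans b.1)
      obtain ⟨-, c⟩ := a2.resolve_right fun c => h13 (a.symm.trans c.1)
      rintro _ (rfl | rfl | rfl)
      exacts [(mul_inv_eq_iff_eq_mul.1 a).symm, (mul_inv_eq_iff_eq_mul.1 b).symm, (mul_inv_eq_iff_eq_mul.1 c).symm]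
  have hq : IsQuasisimple K0 := ⟨p1,
    have := Cfsg.Agent.S0283.result (q := 2) hF 6 (by norm_num) (by norm_num); q'.isSimpleGroup⟩
  have pm : ∀ g ∈ CL, ∀ x ∈ ({T.a, T.b, T.c} : Set G), g * x * g⁻¹ ∈ ({T.a, T.b, T.c} : Set G) := fun g hg x hx => by
    have h0 := T.M.fac3 B24.j3_fac
    have h1 := Md.Fac.conj h0 g
    rw [hCL, hL, ← T.j3_eq] at hg
    rw [Subgroup.mem_centralizer_singleton_iff.1 hg.2, mul_inv_cancel_right] at h1
    simpa using (T.un3 h1 h0 (g * x * g⁻¹)).1 (List.mem_map.2 ⟨x, by simpa using hx, rfl⟩)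
  have hKC : K0 ≤ CL := by rw [← hK0, hCL, hL]; exact inf_le_inf_left _ hle
  have hn : CL ≤ Subgroup.normalizer (K0 : Set G) := fun g hg => by
    rw [← hK0]
    refine Cfsg.Lib.Core.mem_normalizer_of_conj_mem fun x hx => ⟨Subgroup.Normal.conj_mem inferInstance _ hx.1 g, fun y hy => ?_⟩
    have := (conj_comm (g := g)).2 (hx.2 _ (pm _ (inv_mem hg) y hy))
    rwa [show g * (g⁻¹ * y * g⁻¹⁻¹) * g⁻¹ = y by group] at this
  have hZ0 : K0 ⊓ Subgroup.centralizer (K0 : Set G) = E := by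
    refine le_antisymm (fun g hg => ?_) (le_inf hE1 (Subgroup.le_centralizer_iff.1 (hE2.ge.trans inf_le_right)))
    have h := hK0.ge hg.1
    refine T.even_le (T := {T.a, T.b, T.c}) ?_ (fun x hx => (hK0.ge (hE1 hx)).2 _ (by simp)) (fun x hx => (hK0.ge (hE1 hx)).1)
      ⟨h.1, S24.cent_K T.cl_abc ⟨h.2, p2 ⟨h.2, hg.2⟩⟩⟩
    rintro _ (rfl | rfl | rfl)
    exacts [T.sq (T.M.v_mem_D _) ▸ one_mem _, hE ▸ Subgroup.subset_closure (by simp), hE ▸ Subgroup.subset_closure (by simp)]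
  have hZ1 : CL ⊓ Subgroup.centralizer (K0 : Set G) ≤ K0 := fun g hg =>
    hE2.le ⟨(hCL.le hg.1).1, Subgroup.centralizer_le hE1 hg.2⟩
  have hZ : CL ⊓ Subgroup.centralizer (K0 : Set G) = E :=
    le_antisymm ((le_inf hZ1 inf_le_right).trans hZ0.le) (hZ0.ge.trans (inf_le_inf_right _ hKC))
  rw [fstar_qs hKC hn hq hZ1] at hK
  subst hK
  have c1 := T.card_inf_comm (T.M.v_mem_D B24.Ua) ha.1
  have c2 := T.card_inf_comm (T.M.v_mem_D B24.Ua) (hle ha.1)
  rw [T.card_K3, hK0] at c1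
  rw [T.card_abc, ← hL, ← hCL] at c2
  have hc : Subgroup.center K = E.subgroupOf K := by
    rw [← hZ0, Subgroup.inf_subgroupOf_left]; exact center_eq rfl
  have c3 : Nat.card E = 4 := by
    have := Subgroup.card_eq_card_quotient_mul_card_subgroup (Subgroup.center K)
    rw [Nat.card_congr q'.toEquiv, card_psu6 hF, hc, Cfsg.Lib.Core.card_subgroupOf_of_le hE1] at this
    omega
  have e1 : (Subgroup.centralizer {T.a, T.b, T.c}).subgroupOf CL = K.subgroupOf CL := by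
    rw [← hK0, ← hL]; ext x; exact ⟨fun h => ⟨(hCL.le x.2).1, h⟩, fun h => h.2⟩
  obtain ⟨n1, ⟨f⟩, -⟩ := quot_perm (m := 3) (Set.ncard_eq_three.2 ⟨_, _, _, h12, h13, h23, rfl⟩) pm (by
    rw [show Subgroup.centralizer {T.a, T.b, T.c} ⊓ CL = K from le_antisymm (fun x hx => hK0.le ⟨hL ▸ (hCL.le hx.2).1, hx.1⟩)
      (le_inf (hK0.ge.trans inf_le_right) hKC)]
    change _ = 6 * _
    omega)
  have n2 : (E.subgroupOf CL).Normal := normal_of_le_norm (hZ ▸ le_trans (le_inf Subgroup.le_normalizer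
    (hn.trans (Cfsg.Lib.Core.normalizer_le_normalizer_centralizer _))) Subgroup.inf_normalizer_le_normalizer_inf)
  have n3 : (E.subgroupOf K).Normal := hc ▸ inferInstance
  have n4 := normal_of_le_norm hn
  refine ⟨hq, by rw [hc, Subgroup.subgroupOf_map_subtype, inf_eq_left.2 hE1], hE2.symm,
    ⟨n3, F, i1, i2, hF, ⟨(QuotientGroup.quotientMulEquivOfEq hc.symm).trans q'⟩⟩, n4,
    ⟨(QuotientGroup.quotientMulEquivOfEq e1.symm).trans f⟩, hE1.trans hKC, n2, F, i1, i2, hF, quot_aut_iso hn p1 hZ q' ?_⟩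
  have := Fact.mk Nat.prime_two
  rw [Cfsg.Agent.S0815.result 2 1 le_rfl (q := 2) rfl hF 6 (by norm_num) (by norm_num), card_psu6 hF, c3]
  norm_num
  omega

end Cfsg.Agent.S5466
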