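import Cfsg.Statements.S5467
import Cfsg.Agent.Lib.Fi.Z24b
import Cfsg.Agent.Lib.Fi.Z24c
import Cfsg.Agent.Lib.Fi.C24b
import Cfsg.Agent.Lib.Fi.Two2
import Cfsg.Agent.Lib.Fi.O6

set_option autoImplicit false
open Cfsg

namespace Cfsg.Agent.S5467

open Cfsg.Lib.Fi

open Lib.Comp Subgroup B24 Z24 in
theorem cq {G : Type*} [Group G] [Finite G] (S : S24 G) : Nat.card (centralizer (PS (S.M.d pA) 22 9 : Set G)) ≤ 2 := by
  have h := S.M.le_of_leA j_le
  rw [← (op S).2] at h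
  have k : ∀ g ∈ centralizer (PS (S.M.d pA) 22 9 : Set G), Commute g S.a := fun g hg => by
    have h1 := S.perm2 (g := g) (S.M.v_mem_D Ua) S.abc.1 (S.j2_eq ▸ (hg _ (h (S.M.mem_cp (by simp)))).symm)
    have h2 := S.perm2 (g := g) (S.M.v_mem_D Ua) S.abc.2.1 (S.M.eq_mul jc_mul ▸ (hg _ (h (S.M.mem_cp (by simp)))).symm)
    exact mul_inv_eq_iff_eq_mul.1 (h1.elim (·.1) fun a => h2.elim (·.1) fun b => absurd (b.1.symm.trans a.1) S.abc.2.2.1)
  refine (card_le_of_le fun g hg => ?_).trans (cy S).2.le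
  rw [S.M.st_nil, ← S.M.T_ptS (cnd_tt.1 Y_in).1]
  intro x hx
  obtain ⟨u, hu, rfl⟩ := S.M.orb orb (S.M.T_mono (cnd_tt.1 Y_in).2 hx)
  have := k _ (Lib.Core.conj_inv_mem_of_mem_normalizer (Lib.Core.normalizer_le_normalizer_centralizer _
    ((op S).1 ▸ Lib.Core.le_normalizer_pCoreOf _ ((ke S).1.ge hu))) hg)
  calc _ = u * (S.a * (u⁻¹ * g * u)) * u⁻¹ := by group
    _ = _ := by rw [← this.eq]; group

/-- Let G be a finite group with trivial centre generated by a conjugation-invariant set D of 3-transpositions on which it acts primitively, such that for some d in D the subgroup generated by the members of D other than d commuting with d has central largest normal 2- and 3-subgroups, and suppose G with D is of type M(24), and let L be the commutator subgroup of G. Let z be the product of four distinct pairwise commuting members of D (an involution of L) and C its centralizer in L. Then the generalized Fitting subgroup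 Q of C is extraspecial of order 2^13, and C has normal subgroups Q ≤ N ≤ M with N/Q of order 3, M/N isomorphic to the projective special unitary group of dimension 4 over the field with nine elements, and M of index 2 in C. -/
theorem result {G : Type*} [Group G] [Finite G] {D : Set G} (hD : Cfsg.IsThreeTranspositionGroup D) (hprim : Cfsg.IsPrimitiveUnderConj D) (d₀ : G) (hd₀ : d₀ ∈ D) (h3 : Cfsg.pCore 3 ↥(Subgroup.closure {y : G | y ∈ D ∧ y ≠ d₀ ∧ Commute d₀ y}) ≤ Subgroup.center ↥(Subgroup.closure {y : G | y ∈ D ∧ y ≠ d₀ ∧ Commute d₀ y})) (h2 : Cfsg.pCore 2 ↥(Subgroup.closure {y : G | y ∈ D ∧ y ≠ d₀ ∧ Commute d₀ y}) ≤ Subgroup.center ↥(Subgroup.closure {y : G | y ∈ D ∧ y ≠ d₀ ∧ Commute d₀ y})) (h24 : Cfsg.IsOfTypeM24 G D) (L : Subgroup G) (hL : L = commutator G) (z : G) (l : List G) (hl : (l.Nodup ∧ l.length = 4 ∧ (∀ a ∈ l, a ∈ D) ∧ (∀ a ∈ l, ∀ b ∈ l, Commute a b) ∧ l.prod = z)) (C : Subgroup G) (hC : C = L ⊓ Subgroup.centralizer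 ({z} : Set G)) : ∃ (Q : Subgroup ↥C) (_ : Q.Normal), Cfsg.generalizedFittingSubgroup ↥C = Q ∧ Cfsg.IsExtraspecial 2 ↥Q ∧ Nat.card Q = 2 ^ 13 ∧ ∃ (N M : Subgroup ↥C) (_ : N.Normal) (_ : M.Normal), Q ≤ N ∧ N ≤ M ∧ Nat.card N = 3 * Nat.card Q ∧ (∃ (K : Type) (_ : Field K) (_ : Fintype K), Fintype.card K = 9 ∧ Nonempty (↥M ⧸ N.subgroupOf M ≃* Cfsg.PSU 4 K 3)) ∧ M.index = 2 := by
  obtain ⟨T, rfl⟩ := s24 hD hprim h24
  obtain ⟨g, hg⟩ := isConj_iff.1 ((T.M.ft4 B24.t2 B24.t3 B24.t4).conj hl)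
  rw [(T.M.fac4 B24.j4_fac).2.2.2.2, ← T.M.cjM_v] at hg
  obtain ⟨S, rfl⟩ : ∃ S : S24 G, S.M.v B24.j4 = z := ⟨T.cj g, hg⟩
  subst hL hC
  have o := Z24.op S
  have cQ := (Z24.pPc S.M).card (i := 9) (by norm_num)
  obtain ⟨x1, x2, x3⟩ := S.M.xs' (Z24.pPc S.M) (by decide +kernel) Z24.p_le rfl (cq S) (by norm_num) Z24.ab
  have l := S.M.cp_le_cent Z24.q_n List.mem_cons_self
  have nN := (Z24.ke S).1.le.trans (S.M.le_norm Z24.n_n)
  have nQ := o.1 ▸ Lib.Core.le_normalizer_pCoreOf (p := 2) (Subgroup.centralizer {S.M.v B24.j4})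
  have ht := S.M.ord Nat.prime_three Z24.t_ord
  have cN : Nat.card (S.M.cp (Z24.t :: List.drop 9 Z24.pA)) = 3 * 2 ^ 13 := by
    rw [S.M.cp_cons, ← o.2, Lib.Core.card_sup_of_disjoint (Subgroup.zpowers_le.2 (nQ (l (S.M.mem_cp (by simp)))))
      (inf_eq_bot_of_cop (by rw [Nat.card_zpowers, ht, cQ]; norm_num)), Nat.card_zpowers, ht, cQ]
  have k := (Z24.X_lb S.M).ke Lib.Comp.U43x.pk Lib.Comp.U43x.ord (l.trans nN) (Z24.q_r S.M) Z24.q_w (by rw [cN]; norm_num)
  have hM := le_inf (k.1.le.trans (S.M.cp_le.2 fun e he => S.odd_mem_comm (Odd.of_dvd_nat (by decide)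
    (orderOf_dvd_of_pow_eq_one (S.M.pow_eq_one (Lib.Comp.allL_iff.1 Z24.X_o e he)))))) l
  have hNM := S.M.cp_mono (W := Z24.t :: List.drop 9 Z24.pA) fun _ => List.mem_append_right Z24.qE
  have hQN : PS (S.M.d Z24.pA) 22 9 ≤ _ := o.2 ▸ S.M.cp_mono fun _ => List.mem_cons_of_mem Z24.t
  have hQ := hQN.trans (hNM.trans hM)
  have o' := pCoreOf_eq o.1 inf_le_right (le_norm_inf _ _) hQ
  have c := S.card_inf_comm (K := Subgroup.centralizer {S.M.v B24.j4}) (S.M.v_mem_D B24.Ua) (by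
    rw [← (S.M.fac4 B24.j4_fac).2.2.2.2, Subgroup.mem_centralizer_singleton_iff]
    exact Commute.list_prod_right _ _ ((S.M.fac4 B24.j4_fac).2.2.2.1 _ (by simp)))
  have i := ((S.M.cp (Z24.qE ++ Z24.t :: List.drop 9 Z24.pA)).subgroupOf
    (commutator G ⊓ Subgroup.centralizer {S.M.v B24.j4})).card_mul_index
  rw [Lib.Core.card_subgroupOf_of_le hM, k.2] at i
  rw [(Z24.ke S).2] at c
  replace i : ((S.M.cp (Z24.qE ++ Z24.t :: List.drop 9 Z24.pA)).subgroupOf
    (commutator G ⊓ Subgroup.centralizer {S.M.v B24.j4})).index = 2 := by omega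
  have n1 := normal_of_le_norm (inf_le_right.trans nN : commutator G ⊓ _ ≤ _)
  have n2 := normal_of_le_norm (l.trans nN)
  obtain ⟨F, i1, i2, hF⟩ := exists_field 3 2 (by norm_num)
  refine ⟨_, normal_of_le_norm (inf_le_right.trans nQ), (fstar_of_map Nat.prime_two o'
    (inf_le_right.trans (x2.le.trans x3))).trans (pCore_eq_of_map o'),
    xs_equiv (Subgroup.subgroupOfEquivOfLe hQ).symm x1, (Lib.Core.card_subgroupOf_of_le hQ).trans cQ, _, _, n1,
    Subgroup.normal_of_index_eq_two i, Subgroup.comap_mono hQN, Subgroup.comap_mono hNM,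
    by rw [Lib.Core.card_subgroupOf_of_le hQ, Lib.Core.card_subgroupOf_of_le (hNM.trans hM), cN, cQ],
    ⟨F, i1, i2, hF, ⟨(quot_subgroupOf hM).some.trans ((k.quot Lib.Comp.U43x.pk Lib.Comp.U43x.ord le_rfl (Z24.q_r S.M) Z24.q_w
      (by rw [cN]; norm_num)).some.trans (Lib.Comp.U43x.iso hF).some)⟩⟩, i⟩

end Cfsg.Agent.S5467
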