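import Cfsg.Statements.S5468
import Cfsg.Agent.Lib.Fi.C23

set_option autoImplicit false
open Cfsg

namespace Cfsg.Agent.S5468

open Cfsg.Lib.Fi

/-- Let G be a finite group with trivial centre generated by a conjugation-invariant set D of 3-transpositions on which it acts primitively, such that for some d in D the subgroup generated by the members of D other than d commuting with d has central largest normal 2- and 3-subgroups, and suppose G with D is of type M(23). Let d₁, d₂ be distinct commuting members of D, j = d₁ d₂, K the joint centralizer of d₁ and d₂ and C the centralizer of j. Then K has index 2 in C, the centre of K is the subgroup generated by d₁ and d₂, K is quasisimple with K modulo its centre isomorphic to the projective special unitary group of dimension 6 over the field with four elements, and C modulo the subgroup generated by d₁ and d₂ has trivial centre (so it is that unitary group extended by an outer involution). -/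
theorem result {G : Type*} [Group G] [Finite G] {D : Set G} (hD : Cfsg.IsThreeTranspositionGroup D) (hprim : Cfsg.IsPrimitiveUnderConj D) (d₀ : G) (hd₀ : d₀ ∈ D) (h3 : Cfsg.pCore 3 ↥(Subgroup.closure {y : G | y ∈ D ∧ y ≠ d₀ ∧ Commute d₀ y}) ≤ Subgroup.center ↥(Subgroup.closure {y : G | y ∈ D ∧ y ≠ d₀ ∧ Commute d₀ y})) (h2 : Cfsg.pCore 2 ↥(Subgroup.closure {y : G | y ∈ D ∧ y ≠ d₀ ∧ Commute d₀ y}) ≤ Subgroup.center ↥(Subgroup.closure {y : G | y ∈ D ∧ y ≠ d₀ ∧ Commute d₀ y})) (h23 : Cfsg.IsOfTypeM23 G D) (d₁ d₂ : G) (h₁ : d₁ ∈ D) (h₂ : d₂ ∈ D) (hne : d₁ ≠ d₂) (hc : Commute d₁ d₂) (K C V : Subgroup G) (hK : K = Subgroup.centralizer ({d₁, d₂} : Set G)) (hC : C = Subgroup.centralizer ({d₁ * d₂} : Set G)) (hV : V = Subgroup.closure ({d₁, d₂} : Set G)) [hn : (V.subgroupOf C).Normal] : K ≤ C ∧ (K.subgroupOf C).index = 2 ∧ (Subgroup.center ↥K).map K.subtype = V ∧ Cfsg.IsQuasisimple ↥K ∧ (∃ (F : Type) (_ : Field F) (_ : Fintype F), Fintype.card F = 4 ∧ Nonempty (↥K ⧸ Subgroup.center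 ↥K ≃* Cfsg.PSU 6 F 2)) ∧ Subgroup.center (↥C ⧸ V.subgroupOf C) = ⊥ := by
  obtain ⟨S, rfl⟩ := s23 hD hprim h23
  obtain ⟨T, e, rfl, rfl⟩ := S.pt2 h₁ h₂ hne hc
  have hK' : K ≤ C := by
    rw [hK, hC]
    exact fun x hx => Subgroup.mem_centralizer_singleton_iff.2
      (Commute.mul_left (hx _ (by simp)) (hx _ (by simp))).symm
  have c := (B23.j2_c T).cent (T.M.fixIs B23.j2_fix)
  rw [T.j2_eq, ← hC] at c
  rw [T.cent_ab] at hK
  subst hK hV
  obtain ⟨F, _, _, h1, ⟨f⟩⟩ := T.quot_X2 (e ▸ hD) (e ▸ h23)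
  have := Cfsg.Agent.S0283.result (q := 2) h1 6 (by norm_num) (by norm_num)
  have p := (T.M.perfect hI23 B23.perf2).2
  have i2 : ((T.M.cp B23.X2).subgroupOf C).index = 2 := by
    have := Cfsg.Lib.Core.card_mul_relIndex hK'
    rw [c.2, T.card_X2] at this
    exact Nat.eq_of_mul_eq_mul_left (by norm_num : 0 < 36787322880) this
  refine ⟨hK', i2, by rw [T.center_X2, Subgroup.subgroupOf_map_subtype, inf_eq_left.2 T.V_le], ⟨p, f.isSimpleGroup⟩,
    ⟨F, _, _, h1, ⟨f⟩⟩, eq_bot_iff.2 fun x hx => ?_⟩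
  obtain ⟨x, rfl⟩ := QuotientGroup.mk_surjective x
  rw [Subgroup.mem_bot, QuotientGroup.eq_one_iff, Subgroup.mem_subgroupOf, ← T.cent_X2]
  refine cent_of_perfect p fun k hk => ?_
  rw [T.cent_X2, inf_eq_right.2 T.V_le]
  have := Subgroup.mem_center_iff.1 hx (QuotientGroup.mk ⟨k, hK' hk⟩)
  rw [← QuotientGroup.mk_mul, ← QuotientGroup.mk_mul, QuotientGroup.eq] at this
  simpa [Subgroup.mem_subgroupOf, mul_assoc] using hn.conj_mem _ this (⟨k, hK' hk⟩ * x)

end Cfsg.Agent.S5468
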