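import Cfsg.Statements.S5469
import Cfsg.Agent.Lib.Fi.U22

set_option autoImplicit false
open Cfsg

namespace Cfsg.Agent.S5469

open Cfsg.Lib.Fi

/-- Let G be a finite group with trivial centre generated by a conjugation-invariant set D of 3-transpositions on which it acts primitively, such that for some d in D the subgroup generated by the members of D other than d commuting with d has central largest normal 2- and 3-subgroups, and suppose G with D is of type M(22). Let d₁, d₂ be distinct commuting members of D, j = d₁ d₂, K the joint centralizer of d₁ and d₂, C the centralizer of j and V the subgroup generated by d₁ and d₂. Then K has index 2 in C, V is the centre of K, and C has a normal subgroup E containing V with E/V elementary abelian of order 2^8 and C/E isomorphic to the full automorphism group of the projective special unitary group of dimension 4 over the field with four elements. -/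
theorem result {G : Type*} [Group G] [Finite G] {D : Set G} (hD : Cfsg.IsThreeTranspositionGroup D) (hprim : Cfsg.IsPrimitiveUnderConj D) (d₀ : G) (hd₀ : d₀ ∈ D) (h3 : Cfsg.pCore 3 ↥(Subgroup.closure {y : G | y ∈ D ∧ y ≠ d₀ ∧ Commute d₀ y}) ≤ Subgroup.center ↥(Subgroup.closure {y : G | y ∈ D ∧ y ≠ d₀ ∧ Commute d₀ y})) (h2 : Cfsg.pCore 2 ↥(Subgroup.closure {y : G | y ∈ D ∧ y ≠ d₀ ∧ Commute d₀ y}) ≤ Subgroup.center ↥(Subgroup.closure {y : G | y ∈ D ∧ y ≠ d₀ ∧ Commute d₀ y})) (h22 : Cfsg.IsOfTypeM22 G D) (d₁ d₂ : G) (h₁ : d₁ ∈ D) (h₂ : d₂ ∈ D) (hne : d₁ ≠ d₂) (hc : Commute d₁ d₂) (K C V : Subgroup G) (hK : K = Subgroup.centralizer ({d₁, d₂} : Set G)) (hC : C = Subgroup.centralizer ({d₁ * d₂} : Set G)) (hV : V = Subgroup.closure ({d₁, d₂} : Set G)) : K ≤ C ∧ (K.subgroupOf C).index = 2 ∧ (Subgroup.center ↥K).map K.subtype = V ∧ ∃ E : Subgroup G, V ≤ E ∧ E ≤ C ∧ (∀ c ∈ C, ∀ x ∈ E, c * x * c⁻¹ ∈ E) ∧ Nat.card E = 2 ^ 10 ∧ (∀ x ∈ E, ∀ y ∈ E, x * y * x⁻¹ * y⁻¹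 ∈ V ∧ x ^ 2 ∈ V) ∧ ∃ (_ : (E.subgroupOf C).Normal) (F : Type) (_ : Field F) (_ : Fintype F), Fintype.card F = 4 ∧ Nonempty (↥C ⧸ E.subgroupOf C ≃* MulAut (Cfsg.PSU 4 F 2)) := by
  obtain ⟨S, rfl⟩ := s22 hD hprim h22
  obtain ⟨T, -, rfl, rfl⟩ := S.pt2 h₁ h₂ hne hc
  have hKC : K ≤ C := by
    rw [hK, hC]
    exact fun x hx => Subgroup.mem_centralizer_singleton_iff.2
      ((Commute.mul_left (hx _ (by simp)) (hx _ (by simp))).symm)
  have hVK : V ≤ K ⊓ Subgroup.centralizer (K : Set G) := by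
    rw [hK, hV, ← Subgroup.centralizer_closure]
    refine le_inf (Subgroup.le_centralizer_iff_isMulCommutative.2 ?_) (Subgroup.le_centralizer_iff.1 le_rfl)
    exact (elemAb_closure (p := 2) (by simpa [Commute.refl, hc] using hc.symm) (by
      simpa using ⟨T.sq2 _ (by simp), T.M.ord_D hO22 (T.M.v_mem_D _) ▸ pow_orderOf_eq_one _⟩)).1
  rw [← T.j2_eq] at hC
  have hQ : PS (T.M.d T22.eA) 10 0 ≤ K := by
    rw [hK, ← Subgroup.centralizer_closure, ← Subgroup.le_centralizer_iff, T.cent_q.1]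
  have ab := (T22.ePc T.M).ab (T.M.relT _) (by norm_num) T22.ab0
  have hz : PS (T.M.d T22.eA) 10 9 ≤ V := by
    rw [T.e9, hV]
    exact Subgroup.zpowers_le.2 (mul_mem (Subgroup.subset_closure (by simp)) (Subgroup.subset_closure (by simp)))
  subst hC
  have e := pCore_eq_of_map T.op2
  obtain ⟨F, i1, i2, hF⟩ := exists_field 2 2 (by norm_num)
  have hn : ((PS (T.M.d T22.eA) 10 0).subgroupOf (Subgroup.centralizer {T.M.v B22.j2})).Normal := e ▸ inferInstance
  refine ⟨hKC, ?_, ?_, _, hV ▸ T.v_le, hQ.trans hKC, fun c hc x => T.op2 ▸ Lib.Core.conj_mem_of_mem_normalizer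
    (Lib.Core.le_normalizer_pCoreOf _ hc), (T22.ePc T.M).card (by norm_num), fun x hx y hy => ⟨hz (ab.1 x hx y hy), hz (ab.2 x hx)⟩,
    hn, F, i1, i2, hF,
    ⟨(QuotientGroup.quotientMulEquivOfEq e.symm).trans (T.quot_j2.some.trans (O6_aut hF).some)⟩⟩
  · have := (K.subgroupOf (Subgroup.centralizer {T.M.v B22.j2})).card_mul_index
    rw [Lib.Core.card_subgroupOf_of_le hKC, (T22.ke T).2, show Nat.card K = 26542080 by
      rw [hK, ← T.M.st_pt2, (B22.K2 T).2]] at this
    omega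
  · rw [map_center_subtype]
    exact le_antisymm (inf_le_right.trans ((Subgroup.centralizer_le hQ).trans (hV ▸ T.cent_q.1.le))) hVK

end Cfsg.Agent.S5469
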