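import Cfsg.Statements.S5471
import Cfsg.Agent.Lib.Fi.C23

set_option autoImplicit false
open Cfsg

namespace Cfsg.Agent.S5471

open Cfsg.Lib.Fi

/-- Let G be a finite group with trivial centre generated by a conjugation-invariant set D of 3-transpositions on which it acts primitively, such that for some d in D the subgroup generated by the members of D other than d commuting with d has central largest normal 2- and 3-subgroups, and suppose G with D is of type M(23). Let d₁, d₂, d₃ be distinct pairwise commuting members of D and j their product. Then the joint centralizer of d₁, d₂, d₃ is normal in the centralizer of j with quotient isomorphic to the symmetric group of degree 3. -/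
theorem result {G : Type*} [Group G] [Finite G] {D : Set G} (hD : Cfsg.IsThreeTranspositionGroup D) (hprim : Cfsg.IsPrimitiveUnderConj D) (d₀ : G) (hd₀ : d₀ ∈ D) (h3 : Cfsg.pCore 3 ↥(Subgroup.closure {y : G | y ∈ D ∧ y ≠ d₀ ∧ Commute d₀ y}) ≤ Subgroup.center ↥(Subgroup.closure {y : G | y ∈ D ∧ y ≠ d₀ ∧ Commute d₀ y})) (h2 : Cfsg.pCore 2 ↥(Subgroup.closure {y : G | y ∈ D ∧ y ≠ d₀ ∧ Commute d₀ y}) ≤ Subgroup.center ↥(Subgroup.closure {y : G | y ∈ D ∧ y ≠ d₀ ∧ Commute d₀ y})) (h23 : Cfsg.IsOfTypeM23 G D) (d₁ d₂ d₃ : G) (h₁ : d₁ ∈ D) (h₂ : d₂ ∈ D) (h₃ : d₃ ∈ D) (h12 : d₁ ≠ d₂) (h13 : d₁ ≠ d₃) (h23 : d₂ ≠ d₃) (c12 : Commute d₁ d₂) (c13 : Commute d₁ d₃) (c23 : Commute d₂ d₃) (K C : Subgroup G) (hK : K = Subgroup.centralizer ({d₁, d₂, d₃} : Set G)) (hC : C = Subgroup.centralizer ({d₁ * d₂ * d₃} : Set G)) : K ≤ C ∧ ∃ _ : (K.subgroupOf C).Normal, Nonempty (↥C ⧸ K.subgroupOf C ≃* Equiv.Perm (Fin 3)) :=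 by
  obtain ⟨S, rfl⟩ := s23 hD hprim ‹_›
  have h23 : d₂ ≠ d₃ := ‹_›
  obtain ⟨T, -, rfl, rfl, rfl⟩ := S.pt3 h₁ h₂ h₃ h12 h13 h23 c12 c13 c23
  have hK' : K ≤ C := by
    rw [hK, hC]
    exact fun x hx => Subgroup.mem_centralizer_singleton_iff.2
      (((Commute.mul_left (hx _ (by simp)) (hx _ (by simp))).mul_left (hx _ (by simp))).symm)
  have c := (B23.j3_c T).cent (T.M.fixIs B23.j3_fix)
  rw [T.j3_eq, ← hC] at c
  have u := Cfsg.Lib.Comp.cnd_tt.1 B23.j3_un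
  have e : T.M.T (ptS par23 [(B23.Ua, 0), (B23.Ub, 0), (B23.Uc, 0)]) = {T.a, T.b, T.c} := by
    rw [T.M.T_ptS u.1]; ext; simp [eq_comm]
  obtain ⟨h, i, -⟩ := quot_perm (C := C) (E := {T.a, T.b, T.c}) (m := 3) (Set.ncard_eq_three.2 ⟨_, _, _, h12, h13, h23, rfl⟩)
    (fun g hg x hx => e ▸ T.M.rs_T ((T.M.mem_st_iff.1 (T.M.le_st u.2 (c.1 ▸ hg))).2 _ List.mem_cons_self) (e ▸ hx))
    (by rw [← hK, inf_eq_left.2 hK', c.2, hK, ← T.M.st_pt3, (B23.K3 T).2]; rfl)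
  exact ⟨hK', hK ▸ ⟨h, i⟩⟩

end Cfsg.Agent.S5471
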