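import Cfsg.Statements.S5472
import Cfsg.Agent.Lib.Fi.V22
import Cfsg.Agent.Lib.Fi.T22e
import Cfsg.Agent.Lib.Fi.T22f
import Cfsg.Agent.Lib.Comp.We6.Iso

set_option autoImplicit false
open Cfsg

namespace Cfsg.Agent.S5472

open Cfsg.Lib.Fi

/-- Let G be a finite group with trivial centre generated by a conjugation-invariant set D of 3-transpositions on which it acts primitively, such that for some d in D the subgroup generated by the members of D other than d commuting with d has central largest normal 2- and 3-subgroups, and suppose G with D is of type M(22). Then G has a non-inner automorphism s of order 2 whose fixed-point subgroup is isomorphic to the full automorphism group of Ω⁺(8, 2) (the commutator subgroup of the isometry group of the hyperbolic quadratic form in dimension 8 over the field with two elements), together with distinct commuting members a, b of D fixed by s such that: s, s composed with conjugation by a, and s composed with conjugation by a b represent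 the three classes (under the automorphism group) of non-inner automorphisms of order 2; the elements fixed by the automorphism s composed with conjugation by a are exactly those fixed by s and commuting with a, and they form a group isomorphic to the direct product of a group of order 2 and the symplectic group of dimension 6 over the field with two elements; and the elements fixed by the automorphism s composed with conjugation by a b form a group whose largest normal 2-subgroup is elementary abelian of order 64 with quotient isomorphic to the full isometry group of the elliptic quadratic form in dimension 6 over the field with two elements. -/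
theorem result {G : Type*} [Group G] [Finite G] {D : Set G} (hD : Cfsg.IsThreeTranspositionGroup D) (hprim : Cfsg.IsPrimitiveUnderConj D) (d₀ : G) (hd₀ : d₀ ∈ D) (h3 : Cfsg.pCore 3 ↥(Subgroup.closure {y : G | y ∈ D ∧ y ≠ d₀ ∧ Commute d₀ y}) ≤ Subgroup.center ↥(Subgroup.closure {y : G | y ∈ D ∧ y ≠ d₀ ∧ Commute d₀ y})) (h2 : Cfsg.pCore 2 ↥(Subgroup.closure {y : G | y ∈ D ∧ y ≠ d₀ ∧ Commute d₀ y}) ≤ Subgroup.center ↥(Subgroup.closure {y : G | y ∈ D ∧ y ≠ d₀ ∧ Commute d₀ y})) (h22 : Cfsg.IsOfTypeM22 G D) : ∃ (s : MulAut G) (a b : G) (Cs : Subgroup G), orderOf s = 2 ∧ s ∉ (MulAut.conj : G →* MulAut G).range ∧ (∀ g : G, g ∈ Cs ↔ s g = g) ∧ Nonempty (↥Cs ≃* MulAut (Cfsg.Omega (ZMod 2) (Cfsg.quadFormPlus 4 (ZMod 2)))) ∧ a ∈ D ∧ b ∈ D ∧ a ≠ b ∧ Commute a b ∧ s a = a ∧ s b = b ∧ (∀ t : MulAut G, orderOf t = 2 → t ∉ (MulAut.conj : G →* MulAut G).range → (IsConj t s ∨ IsConj t (s * MulAut.conj a) ∨ IsConj t (s * MulAut.conj (a * b)))) ∧ ¬ IsConj s (s * MulAut.conj a) ∧ ¬ IsConj s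 (s * MulAut.conj (a * b)) ∧ ¬ IsConj (s * MulAut.conj a) (s * MulAut.conj (a * b)) ∧ (∀ g : G, (s * MulAut.conj a) g = g ↔ g ∈ Cs ⊓ Subgroup.centralizer ({a} : Set G)) ∧ Nonempty (↥(Cs ⊓ Subgroup.centralizer ({a} : Set G)) ≃* Multiplicative (ZMod 2) × Cfsg.PSp 3 (ZMod 2)) ∧ ∃ Csab O : Subgroup G, (∀ g : G, g ∈ Csab ↔ (s * MulAut.conj (a * b)) g = g) ∧ O = (Cfsg.pCore 2 ↥Csab).map Csab.subtype ∧ Cfsg.IsElementaryAbelian 2 O ∧ Nat.card O = 64 ∧ ∃ _ : (O.subgroupOf Csab).Normal, Nonempty (↥Csab ⧸ O.subgroupOf Csab ≃* Cfsg.isometryGroup (ZMod 2) (Cfsg.quadFormMinus 2 (ZMod 2) 1 1)) := by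
  obtain ⟨S, rfl⟩ := s22 hD hprim h22
  have fr := fun e he => S.X.v (Lib.Comp.allL_iff.1 T22.free e he)
  have f := S.M.fac2 T22.jb_fac
  have e1 : S.A.v T22.s * MulAut.conj S.a = S.A.v T22.sa := by rw [S.A.eq_mul T22.sa_mul, fr (B22.Ua, 0) (by simp)]
  have e2 : S.A.v T22.s * MulAut.conj (S.a * S.M.v (T22.Vb, 0)) = S.A.v T22.sb := by
    rw [S.A.eq_mul T22.sb_mul, fr T22.jb (by simp), ← f.2.2.2.2]; simp
  have m := fun s g => mem_comap_conj S.X.inj (s := s) (g := g)
  have l := S.X.le_comap T22.ab_le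
  have k : (Subgroup.centralizer {S.A.v T22.s}).comap MulAut.conj ⊓ Subgroup.centralizer {S.a} = S.M.cp T22.W1 :=
    le_antisymm (fun g hg => (T22.K1 S).1.le ((m _ _).2 (by
      rw [← e1, MulAut.mul_apply, MulAut.conj_apply, ← Subgroup.mem_centralizer_singleton_iff.1 hg.2,
        mul_inv_cancel_right, (m _ _).1 hg.1])))
      (le_inf (S.X.le_comap T22.W1_s) (S.M.cp_le_cent T22.W1_a List.mem_cons_self))
  have o := T22.opK S
  have e := pCore_eq_of_map o.1
  have hn : ((PS (S.M.d T22.tA) 13 7).subgroupOf ((Subgroup.centralizer {S.A.v T22.sb}).comap MulAut.conj)).Normal :=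
    e ▸ inferInstance
  refine ⟨S.A.v T22.s, S.a, S.M.v (T22.Vb, 0), _, S.A.ord Nat.prime_two T22.s_ord,
    S.X.odd_e (Lib.Comp.allL_iff.1 T22.odd _ (by simp)), m _, (T22.Cs S).1 ▸ S.cs_iso, S.M.v_mem_D _, S.M.v_mem_D _,
    by simpa using f.1, f.2.2.2.1 _ (by simp) _ (by simp), (m _ _).1 (l (S.M.mem_cp (by simp))),
    (m _ _).1 (l (S.M.mem_cp (by simp))), ?_⟩
  rw [e1, e2, k]
  refine ⟨fun t ht hi => ?_, S.A.not_conj_pc (S.A.fixIs T22.s_fix) (S.A.fixIs T22.sa_fix) T22.ne1,
    S.A.not_conj_pc (S.A.fixIs T22.s_fix) (S.A.fixIs T22.sb_fix) T22.ne2,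
    S.A.not_conj_pc (S.A.fixIs T22.sa_fix) (S.A.fixIs T22.sb_fix) T22.ne3, fun g => (T22.K1 S).1 ▸ (m _ g).symm, ?_,
    _, _, m _, o.1.symm, o.2 ▸ S.M.elemAb T22.o_ea, (T22.tPc S.M).card (by norm_num), hn,
    ⟨(QuotientGroup.quotientMulEquivOfEq e.symm).trans ((T22.quot2 S).some.trans Lib.Comp.We6.iso.some)⟩⟩
  · obtain ⟨e, he, h⟩ := S.classA ht
    have n := Subgroup.normal_of_index_eq_two S.X.idx
    have i : ∀ e ∈ [(B22.Ua, 0), B22.j2, B22.j3], ¬ IsConj t (S.A.v e) := fun e he h => by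
      obtain ⟨g, hg⟩ := isConj_iff.1 h.symm
      exact hi (hg ▸ n.conj_mem _ ⟨_, (fr e (by simp at he ⊢; tauto)).symm⟩ g)
    simp only [List.mem_cons, List.not_mem_nil, or_false] at he i
    rcases he with rfl | rfl | rfl | rfl | rfl | rfl <;> simp_all
  · obtain ⟨e⟩ := T22.k_iso S.M
    exact two_prod_iso (K := S.M.cp T22.W1) (S.M.ord_D hO22 (S.M.v_mem_D B22.Ua)) ((S.M.cp_mono fun _ => List.mem_cons_of_mem _).trans
      (S.M.cp_le_cent T22.W1_a List.mem_cons_self)) (S.M.cp_cons _ _)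
      (by rw [← (T22.K1 S).1, (T22.K1 S).2, Nat.card_congr e.toEquiv, Lib.Comp.Sp6x.card])
      (e.trans (Lib.Comp.Sp6x.iso (ZMod.card 2)).some)

end Cfsg.Agent.S5472
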