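import Cfsg.Statements.S5473
import Cfsg.Agent.Lib.Fi.T22b
import Cfsg.Agent.Lib.Comp.We6.Iso
import Cfsg.Agent.S5422

set_option autoImplicit false
open Cfsg

namespace Cfsg.Agent.S5473

open Cfsg.Lib.Fi

/-- Let G be a finite group with trivial centre generated by a conjugation-invariant set D of 3-transpositions on which it acts primitively, such that for some d in D the subgroup generated by the members of D other than d commuting with d has central largest normal 2- and 3-subgroups, and suppose G with D is of type M(22), and let A be the automorphism group of G. Let d₁, d₂ be distinct commuting members of D and j the inner automorphism of their product. Then the generalized Fitting subgroup Q of the centralizer of j in A is a large extraspecial 2-subgroup of A of order 2^11 (extraspecial; centralizer equal to its centre; normal in the centralizer of its centre; normalizing no non-trivial odd-order subgroup), and the centralizer of j modulo Q is isomorphic to the full automorphism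 group of the projective special unitary group of dimension 4 over the field with four elements. -/
theorem result {G : Type*} [Group G] [Finite G] {D : Set G} (hD : Cfsg.IsThreeTranspositionGroup D) (hprim : Cfsg.IsPrimitiveUnderConj D) (d₀ : G) (hd₀ : d₀ ∈ D) (h3 : Cfsg.pCore 3 ↥(Subgroup.closure {y : G | y ∈ D ∧ y ≠ d₀ ∧ Commute d₀ y}) ≤ Subgroup.center ↥(Subgroup.closure {y : G | y ∈ D ∧ y ≠ d₀ ∧ Commute d₀ y})) (h2 : Cfsg.pCore 2 ↥(Subgroup.closure {y : G | y ∈ D ∧ y ≠ d₀ ∧ Commute d₀ y}) ≤ Subgroup.center ↥(Subgroup.closure {y : G | y ∈ D ∧ y ≠ d₀ ∧ Commute d₀ y})) (h22 : Cfsg.IsOfTypeM22 G D) (d₁ d₂ : G) (h₁ : d₁ ∈ D) (h₂ : d₂ ∈ D) (hne : d₁ ≠ d₂) (hc : Commute d₁ d₂) (j : MulAut G) (hj : j = MulAut.conj (d₁ * d₂)) (Q : Subgroup (MulAut G)) (hQ : Q = (Cfsg.generalizedFittingSubgroup ↥(Subgroup.centralizer ({j} : Set (MulAut G)))).map (Subgroup.centralizer ({j} : Set (MulAut G))).subtype) : Cfsg.IsLargeExtraspecial Q ∧ Nat.card Q = 2 ^ 11 ∧ Q ≤ Subgroup.centralizer ({j}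 : Set (MulAut G)) ∧ ∃ (_ : (Q.subgroupOf (Subgroup.centralizer ({j} : Set (MulAut G)))).Normal) (F : Type) (_ : Field F) (_ : Fintype F), Fintype.card F = 4 ∧ Nonempty (↥(Subgroup.centralizer ({j} : Set (MulAut G))) ⧸ Q.subgroupOf (Subgroup.centralizer ({j} : Set (MulAut G))) ≃* MulAut (Cfsg.PSU 4 F 2)) := by
  obtain ⟨S, rfl⟩ := s22 hD hprim h22
  obtain ⟨T, -, rfl, rfl⟩ := S.pt2 h₁ h₂ hne hc
  rw [← T.j2_eq, ← T.X.v (Lib.Comp.allL_iff.1 T22.free _ (by simp))] at hj
  subst hj
  have : Finite (MulAut G) := Finite.of_injective _ MulEquiv.toEquiv_injective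
  have o := T22.opA T.A
  obtain ⟨x1, x2, x3⟩ := T.A.xs (T22.rPc T.A) (by decide +kernel) T22.r_le rfl o.2 (T.A.fixIs T22.j2_fixA) T22.j2_mem
    (T22.cqA T.A) (by norm_num) T22.abA
  rw [fstar_of_map Nat.prime_two o.1 (inf_le_right.trans (x2.le.trans x3)), o.1] at hQ
  subst hQ
  have e := pCore_eq_of_map o.1
  have hn : ((PS (T.A.d T22.rA) 18 7).subgroupOf (Subgroup.centralizer {T.A.v B22.j2})).Normal := e ▸ inferInstance
  have hz := (map_center_subtype _).trans ((congrArg _ x2).trans (inf_eq_right.2 x3))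
  have c := (T22.rPc T.A).card (i := 7) (by norm_num)
  obtain ⟨t1, t2⟩ := Lib.Comp.cnd_tt.1 T22.tq_b
  obtain ⟨t2, t3⟩ := Lib.Comp.cnd_tt.1 t2
  obtain ⟨F, i1, i2, hF⟩ := exists_field 2 2 (by norm_num)
  refine ⟨(Cfsg.Agent.S5422.result _ x1 (x2.trans hz.symm) ?_ 5 (by norm_num) c (T.A.v T22.hq) ?_ ?_).2.2, c,
    o.1 ▸ Subgroup.map_subtype_le _, hn, F, i1, i2, hF, ⟨(QuotientGroup.quotientMulEquivOfEq e.symm).trans
      ((T22.quotA T.A).some.trans (Lib.Comp.We6.iso.some.trans (O6_aut hF).some))⟩⟩ <;> erw [hz]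
  · rw [Lib.Core.centralizer_zpowers]
    exact o.1 ▸ Lib.Core.le_normalizer_pCoreOf _
  · exact fun h => T.A.not_mem_of_outP t3 (by
      rw [T.A.cp_one, ← T.A.cj t1]; exact Lib.Core.conj_mem_of_mem_normalizer h (Subgroup.mem_zpowers _))
  · rw [map_conj_zpowers, T.A.cj t1, Subgroup.zpowers_le]
    exact o.2.ge (T.A.mem_of_memB t2)

end Cfsg.Agent.S5473
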