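import Cfsg.Statements.S5514
import Cfsg.Agent.Lib.Fi.C8

set_option autoImplicit false
open Cfsg

namespace Cfsg.Agent.S5514

open Cfsg.Lib.Fi

theorem two {X : Type*} [Group X] {k : ℕ} (h : Cls (⊤ : Subgroup (Multiplicative (ZMod 2) × X)) ⊤ 3 k) :
    Cls (⊤ : Subgroup X) ⊤ 3 k := by
  refine h.comap (f := MonoidHom.inr _ _) (fun _ _ e => congrArg Prod.snd e) (fun Y _ hY => ?_) fun g _ =>
    ⟨g.2, trivial, fun x => by ext <;> simp⟩
  obtain ⟨x, hx, rfl⟩ := eq_zpowers_of_card Nat.prime_three hY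
  exact Subgroup.zpowers_le.2 ⟨x.2, Prod.ext ((by decide : ∀ a : Multiplicative (ZMod 2), a ^ 3 = 1 → 1 = a) _
    (congrArg Prod.fst (hx ▸ pow_orderOf_eq_one x : x ^ 3 = 1))) rfl⟩

/-- The commutator subgroup of the isometry group of a non-degenerate 7-dimensional quadratic form over the field with three elements, modulo its (trivial) centre — the simple group Ω(7, 3) — has exactly seven conjugacy classes of subgroups of order 3. -/
theorem result : ∃ Y : Fin 7 → Subgroup (Cfsg.POmega (ZMod 3) (Cfsg.quadFormOdd 3 (ZMod 3))), (∀ i, Nat.card (Y i) = 3) ∧ (∀ i j, (∃ g : Cfsg.POmega (ZMod 3) (Cfsg.quadFormOdd 3 (ZMod 3)), (Y i).map (MulAut.conj g).toMonoidHom = Y j) → i = j) ∧ (∀ X : Subgroup (Cfsg.POmega (ZMod 3) (Cfsg.quadFormOdd 3 (ZMod 3))), Nat.card X = 3 → ∃ i, ∃ g : Cfsg.POmega (ZMod 3) (Cfsg.quadFormOdd 3 (ZMod 3)), X.map (MulAut.conj g).toMonoidHom = Y i) := by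
  obtain ⟨H, _, _, M, -, -, -, -, -, ⟨e⟩⟩ := exists_m8
  exact (two ((M.st_pt _ ▸ cls7 M).iso e)).top'

end Cfsg.Agent.S5514
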