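import Cfsg.Statements.S5515
import Cfsg.Agent.S2608
import Cfsg.Agent.Lib.Known2.Ty
import Cfsg.Agent.Lib.Layer.FStar
import Cfsg.Agent.Lib.Core.Basic

set_option autoImplicit false
open Cfsg

namespace Cfsg.Agent.S5515



open Subgroup Cfsg.Lib

theorem s4_a (H : Subgroup (Equiv.Perm (Fin 4))) (h : Nat.card H = 6) : ∃ x : Equiv.Perm (Fin 4), x ^ 3 = 1 ∧ x ≠ 1 ∧
    ∀ g, g ∈ H ↔ (g * x = x * g ∨ g * x = x * x * g) := by
  have : Fact (Nat.Prime 3) := ⟨Nat.prime_three⟩
  obtain ⟨x, hx⟩ := exists_prime_orderOf_dvd_card' (G := H) 3 (by rw [h]; norm_num)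
  have h3 : (x : Equiv.Perm (Fin 4)) ^ 3 = 1 := by rw [← coe_pow, ← hx, pow_orderOf_eq_one]; rfl
  have h1 : (x : Equiv.Perm (Fin 4)) ≠ 1 := fun e => by
    rw [show x = 1 from Subtype.ext e, orderOf_one] at hx; omega
  have hn : (zpowers x).Normal := normal_of_index_eq_two (by
    have := (zpowers x).card_mul_index
    rw [Nat.card_zpowers, hx, h] at this; omega)
  have k : ∀ x : Equiv.Perm (Fin 4), x ^ 3 = 1 → x ≠ 1 →
      (Finset.univ.filter fun g => g * x = x * g ∨ g * x = x * x * g).card ≤ 6 := by decide +kernel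
  have s : (H : Set (Equiv.Perm (Fin 4))) ⊆
      ↑(Finset.univ.filter fun g : Equiv.Perm (Fin 4) => g * x = x * g ∨ g * x = x * x * g) := fun g hg => by
    obtain ⟨n, e⟩ := mem_powers_iff_mem_zpowers.2 (hn.conj_mem x (mem_zpowers x) ⟨g, hg⟩)
    have e' : (x : Equiv.Perm (Fin 4)) ^ (n % 3) * g = g * x := by
      rw [← pow_eq_pow_mod _ h3, eq_comm, ← mul_inv_eq_iff_eq_mul]; exact (congrArg Subtype.val e).symm
    simp only [Finset.coe_filter, Finset.mem_univ, true_and, Set.mem_ofPred_eq]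
    have : n % 3 < 3 := Nat.mod_lt _ (by norm_num)
    generalize n % 3 = m at *
    interval_cases m
    · exact absurd (by simpa using e'.symm) h1
    · exact Or.inl (by simpa using e'.symm)
    · exact Or.inr (by simpa [pow_two] using e'.symm)
  have e := Set.eq_of_subset_of_ncard_le s (by
    rw [Set.ncard_coe_finset, ← Nat.card_coe_set_eq]; exact (k _ h3 h1).trans h.ge)
  exact ⟨x, h3, h1, fun g => by simpa using Set.ext_iff.1 e g⟩

theorem s4_b (H K : Subgroup (Equiv.Perm (Fin 4))) (h : Nat.card H = 6) (h' : Nat.card K = 6) :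
    ∃ c, H.map (MulAut.conj c).toMonoidHom = K := by
  obtain ⟨x, a1, a2, a3⟩ := s4_a H h
  obtain ⟨y, b1, b2, b3⟩ := s4_a K h'
  obtain ⟨c, rfl⟩ := (by decide +kernel : ∀ x y : Equiv.Perm (Fin 4), x ^ 3 = 1 → x ≠ 1 → y ^ 3 = 1 → y ≠ 1 →
    ∃ c, c * x * c⁻¹ = y) x y a1 a2 b1 b2
  refine ⟨c, eq_of_le_of_card_ge ?_ (by rw [Core.card_map_conj, h, h'])⟩
  rintro _ ⟨g, hg, rfl⟩
  refine (b3 _).2 (((a3 g).1 hg).imp (fun e => ?_) fun e => ?_) <;>
    simpa only [map_mul, MulAut.conj_apply, MulEquiv.coe_toMonoidHom] using congrArg (MulAut.conj c) e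

variable {P : Type*} [Group P] (hz : center P = ⊥)
include hz

theorem emb {G : Type*} [Group G] [Finite G] (hF : Nonempty (generalizedFittingSubgroup G ≃* P))
    [(generalizedFittingSubgroup G).Normal] (hq : Nonempty (G ⧸ generalizedFittingSubgroup G ≃* Equiv.Perm (Fin 3))) :
    ∃ A : Subgroup (Out P), Nat.card A = 6 ∧ Nonempty (G ≃* A.comap (QuotientGroup.mk' (Inn P))) := by
  obtain ⟨e⟩ := hF
  obtain ⟨q⟩ := hq
  have : Finite P := Finite.of_equiv _ e.toEquiv
  let f := (MulAut.congr e).toMonoidHom.comp (MulAut.conjNormal (H := generalizedFittingSubgroup G))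
  have hf : Function.Injective f := (injective_iff_map_eq_one f).2 fun g hg => by
    have h1 : g ∈ centralizer (generalizedFittingSubgroup G : Set G) := fun h hh => by
      have := congrArg Subtype.val (DFunLike.congr_fun ((MulAut.congr e).map_eq_one_iff.1 hg) ⟨h, hh⟩)
      exact (mul_inv_eq_iff_eq_mul.1 this).symm
    have h2 : e ⟨g, Layer.centralizer_fstar_le h1⟩ ∈ center P := mem_center_iff.2 fun y => by
      obtain ⟨y, rfl⟩ := e.surjective y
      rw [← map_mul, ← map_mul]
      exact congrArg e (Subtype.ext (h1 _ y.2))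
    rw [hz, mem_bot, e.map_eq_one_iff] at h2
    exact congrArg Subtype.val h2
  have hi : Inn P ≤ f.range := by
    rintro _ ⟨y, rfl⟩
    obtain ⟨y, rfl⟩ := e.surjective y
    refine ⟨y, MulEquiv.ext fun z => ?_⟩
    obtain ⟨z, rfl⟩ := e.surjective z
    simp only [f, MulAut.conj_apply, ← map_inv, ← map_mul]
    exact congrArg e (congrArg (MulAut.conjNormal (y : G)) (e.symm_apply_apply z))
  refine ⟨f.range.map (QuotientGroup.mk' _), ?_, ⟨(MonoidHom.ofInjective hf).trans (MulEquiv.subgroupCongr ?_)⟩⟩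
  · have h1 := Core.card_map_mk'_mul (Inn P) f.range
    have h2 := card_eq_card_quotient_mul_card_subgroup (generalizedFittingSubgroup G)
    have h3 : Nat.card (Inn P) = Nat.card P := (Nat.card_congr (MonoidHom.ofInjective
      ((injective_iff_map_eq_one _).2 fun z h => by
        rw [← mem_bot, ← hz, mem_center_iff]
        exact fun y => (mul_inv_eq_iff_eq_mul.1 (DFunLike.congr_fun h y)).symm)).toEquiv).symm
    rw [inf_eq_left.2 hi, h3, ← Nat.card_congr (MonoidHom.ofInjective hf).toEquiv, h2,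
      Nat.card_congr q.toEquiv, Nat.card_congr e.toEquiv, Nat.card_perm, Nat.card_fin] at h1
    exact Nat.eq_of_mul_eq_mul_right Nat.card_pos h1
  · rw [comap_map_eq, QuotientGroup.ker_mk', sup_eq_left.2 hi]

omit hz in
theorem conj6 (ψ : Out P ≃* Equiv.Perm (Fin 4)) {A B : Subgroup (Out P)} (a : Nat.card A = 6) (b : Nat.card B = 6) :
    Nonempty (A.comap (QuotientGroup.mk' (Inn P)) ≃* B.comap (QuotientGroup.mk' (Inn P))) := by
  obtain ⟨c, hc⟩ := s4_b (A.map ψ.toMonoidHom) (B.map ψ.toMonoidHom) (by rw [card_map_of_injective ψ.injective, a])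
    (by rw [card_map_of_injective ψ.injective, b])
  obtain ⟨c, rfl⟩ := ψ.surjective c
  obtain ⟨c, rfl⟩ := QuotientGroup.mk'_surjective _ c
  refine ⟨((MulAut.conj c).subgroupMap _).trans (MulEquiv.subgroupCongr ?_)⟩
  ext x
  refine Core.mem_map_conj_iff.trans ?_
  rw [mem_comap, mem_comap, ← mem_map_iff_mem (f := ψ.toMonoidHom) ψ.injective,
    ← mem_map_iff_mem (f := ψ.toMonoidHom) ψ.injective, ← hc, Core.mem_map_conj_iff]
  simp

omit hz in

/-- Let G and G′ be finite groups whose generalized Fitting subgroups are isomorphic to PΩ⁺(8, 3) (the commutator subgroup of the isometry group of the hyperbolic quadratic form in dimension 8 over the field with three elements, modulo its centre) with quotients isomorphic to the symmetric group of degree 3. Then G and G′ are isomorphic. -/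
theorem result {G G' : Type*} [Group G] [Finite G] [Group G'] [Finite G'] (hF : Nonempty (↥(Cfsg.generalizedFittingSubgroup G) ≃* Cfsg.POmega (ZMod 3) (Cfsg.quadFormPlus 4 (ZMod 3)))) (hF' : Nonempty (↥(Cfsg.generalizedFittingSubgroup G') ≃* Cfsg.POmega (ZMod 3) (Cfsg.quadFormPlus 4 (ZMod 3)))) [hn : (Cfsg.generalizedFittingSubgroup G).Normal] [hn' : (Cfsg.generalizedFittingSubgroup G').Normal] (hq : Nonempty (G ⧸ Cfsg.generalizedFittingSubgroup G ≃* Equiv.Perm (Fin 3))) (hq' : Nonempty (G' ⧸ Cfsg.generalizedFittingSubgroup G' ≃* Equiv.Perm (Fin 3))) : Nonempty (G ≃* G') := by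
  have := Known2.simple_o8
  have : Finite _ := Finite.of_equiv _ hF.some.toEquiv
  have hz := Comp.center_eq_bot (Γ := POmega (ZMod 3) (quadFormPlus 4 (ZMod 3))) (by rw [Known2.card_o8]; norm_num)
  obtain ⟨A, a, ⟨e⟩⟩ := emb hz hF hq
  obtain ⟨B, b, ⟨e'⟩⟩ := emb hz hF' hq'
  have h := S2608.result (F := ZMod 3) (p := 3) (f := 1) (m := 4) le_rfl (ZMod.card 3) (by decide) le_rfl
  rw [if_pos rfl] at h
  have : Unique (Multiplicative (ZMod 1)) := inferInstanceAs (Unique (Multiplicative (Fin 1)))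
  exact ⟨e.trans ((conj6 (h.some.trans MulEquiv.prodUnique) a b).some.trans e'.symm)⟩

end Cfsg.Agent.S5515
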