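import Cfsg.Statements.S5518
import Cfsg.Agent.Lib.Fi.H24
import Cfsg.Agent.Lib.Fi.G24c
import Cfsg.Agent.Lib.Fi.G24d

set_option autoImplicit false
open Cfsg

namespace Cfsg.Agent.S5518

open Cfsg.Lib.Fi

open Subgroup Cfsg.Lib.Core B24 G24

theorem zp_sub {G : Type*} [Group G] {K : Subgroup G} (x : K) : zpowers x = (zpowers (x : G)).subgroupOf K := by
  ext y
  simp only [mem_zpowers_iff, mem_subgroupOf, Subtype.ext_iff, SubgroupClass.coe_zpow]

theorem core {G : Type*} [Group G] [Finite G] (S : S24 G) {T K X : Subgroup G}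
    (hT : T = S.M.cp [(Vd, 0), (Vb, 0), (Un, 0), (Ua, 0)]) (hK : K = centralizer T) (hX : X = zpowers (S.M.v x)) :
    normalizer (X : Set G) ≤ normalizer (K : Set G) ∧ Nat.card ↥(K ⊓ normalizer (X : Set G)) = 78 ∧
      K ⊓ centralizer (X : Set G) = X ∧ (((K ⊓ normalizer (X : Set G)) ⊔ T).subgroupOf (normalizer (X : Set G))).index = 2 := by
  have hx := S.M.ord (by norm_num) x_ord
  have hA := S.M.fixIs x_fix
  have hc := ((x_c S).cent hA).2
  have eK : K = S.M.st [(Vd, 0), (Vb, 0), (Un, 0), (Ua, 0)] [] := by rw [hK, hT, S.M.cent_cp]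
  have cK : Nat.card K = 4245696 := eK ▸ (G24.K2 S).2
  have l := eK ▸ S.M.le_st k_p
  have xK : S.M.v x ∈ K := l (S.M.mem_cp (by simp))
  have eT : closure (S.M.D ∩ (centralizer (X : Set G) : Subgroup G)) = T := by rw [hX, hA.inter, S.M.cl_T x_cl, hT]
  have TC : T ≤ centralizer (X : Set G) := eT ▸ (closure_le _).2 Set.inter_subset_right
  have NT : normalizer (X : Set G) ≤ normalizer (T : Set G) := fun g hg => by
    rw [mem_normalizer_iff_map_conj_eq] at hg ⊢
    have := S.M.inter_cent_map X g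
    erw [hg] at this
    rw [← eT, MonoidHom.map_closure]
    exact congrArg _ this.symm
  have c13 : Nat.card ↥(centralizer (X : Set G) ⊓ K) = 13 := by
    have := (cx S).2
    rwa [S.M.st_app, S.M.cp_one, ← hX, ← eK] at this
  have cX : Nat.card X = 13 := by rw [hX, Nat.card_zpowers, hx]
  have XC : X ≤ centralizer (X : Set G) := by rw [hX]; exact le_centralizer _
  have e3 : K ⊓ centralizer (X : Set G) = X :=
    (eq_of_le_of_card_ge (le_inf (hX ▸ zpowers_le.2 xK) XC) (by rw [inf_comm, c13, cX])).symm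
  have c78 : Nat.card ↥(K ⊓ normalizer (X : Set G)) = 78 := by
    have z := zp_sub (⟨_, xK⟩ : K)
    have c : Nat.card (centralizer {(⟨_, xK⟩ : K)} : Subgroup K) = 13 := by
      rw [← c13, ← card_subgroupOf_eq_card_inf, hX, centralizer_zpowers]
      congr 2; ext y
      simp [mem_centralizer_singleton_iff, mem_subgroupOf, Subtype.ext_iff]
    have := (norm_syl (m := 6) (x := (⟨_, xK⟩ : K)) (h := ⟨_, l (S.M.mem_cp (e := k) (by simp))⟩)
      ((orderOf_mk _ _).trans hx) (by norm_num) (Subtype.ext (S.M.pw k_pw)) (by decide) cK (by norm_num) c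
      (by decide +kernel)).1
    rw [c, z, ← subgroupOf_normalizer_eq (zpowers_le.2 xK), card_subgroupOf_eq_card_inf, ← hX, inf_comm] at this
    exact this
  have xT : S.M.v x ∉ T := fun h => by
    have : K ≤ centralizer (X : Set G) := by
      rw [hK]; exact centralizer_le (hX ▸ zpowers_le.2 h)
    rw [inf_eq_right.2 this, cK] at c13
    norm_num at c13
  have d := hX ▸ zpowers_inf_eq_bot hx (by norm_num) xT
  have KT : K ≤ normalizer (T : Set G) := hK ▸ centralizer_le_normalizer _
  have cT : Nat.card T = 36 := le_antisymm (by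
    have := card_le_of_le (sup_le XC TC)
    rw [card_sup_of_disjoint ((hX ▸ zpowers_le.2 xK).trans KT) d, cX, hX, centralizer_zpowers, hc] at this
    omega) (hT ▸ t_lb S.M)
  refine ⟨NT.trans (hK ▸ normalizer_le_normalizer_centralizer T), c78, e3, ?_⟩
  have := card_mul_relIndex (sup_le (inf_le_right : K ⊓ normalizer (X : Set G) ≤ _) (TC.trans (centralizer_le_normalizer _)))
  rw [card_sup_of_disjoint (inf_le_left.trans KT) (eq_bot_iff.2 (d ▸ le_inf
    (e3 ▸ inf_le_inf inf_le_left TC) inf_le_right)), c78, cT] at this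
  have n := (norm_full hx (by norm_num) (S.M.pw h_pw) (by decide)).1
  rw [hc, ← hX, ← this] at n
  unfold relIndex at n
  omega

/-- Let G be a finite group with trivial centre generated by a conjugation-invariant set D of 3-transpositions on which it acts primitively, such that for some d in D the subgroup generated by the members of D other than d commuting with d has central largest normal 2- and 3-subgroups, and suppose G with D is of type M(24). Then any two subgroups of order 13 are conjugate; and there are members a, b, c, d of D generating the direct product T of two symmetric groups of degree 3 (a, d non-commuting; b, c non-commuting; b and c commuting with a and d) whose centralizer K is isomorphic to the Chevalley group G₂(3), such that for every subgroup B of K of order 13: the normalizer of B lies in the normalizer of K, the normalizer F of B in K is a Frobenius group of order 78 with kernel B (order 78, centralizer of B in it equal to B), and the subgroup generated by F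 and T has index 2 in the normalizer of B. -/
theorem result {G : Type*} [Group G] [Finite G] {D : Set G} (hD : Cfsg.IsThreeTranspositionGroup D) (hprim : Cfsg.IsPrimitiveUnderConj D) (d₀ : G) (hd₀ : d₀ ∈ D) (h3 : Cfsg.pCore 3 ↥(Subgroup.closure {y : G | y ∈ D ∧ y ≠ d₀ ∧ Commute d₀ y}) ≤ Subgroup.center ↥(Subgroup.closure {y : G | y ∈ D ∧ y ≠ d₀ ∧ Commute d₀ y})) (h2 : Cfsg.pCore 2 ↥(Subgroup.closure {y : G | y ∈ D ∧ y ≠ d₀ ∧ Commute d₀ y}) ≤ Subgroup.center ↥(Subgroup.closure {y : G | y ∈ D ∧ y ≠ d₀ ∧ Commute d₀ y})) (h24 : Cfsg.IsOfTypeM24 G D) : (∀ X Y : Subgroup G, Nat.card X = 13 → Nat.card Y = 13 → ∃ g : G, X.map (MulAut.conj g).toMonoidHom = Y) ∧ ∃ (a b c d : G) (T K : Subgroup G), (∀ x ∈ [a, b, c, d], x ∈ D) ∧ ¬ Commute a d ∧ ¬ Commute b c ∧ Commute a b ∧ Commute a c ∧ Commute d b ∧ Commute d c ∧ T = Subgroup.closure ({a, b, c, d} : Set G) ∧ K = Subgroup.centralizer (T : Set G) ∧ Nonempty (↥K ≃* ↥(Cfsg.Lie.chevG2.group (ZMod 3))) ∧ ∀ B : Subgroup G, B ≤ K → Nat.card B = 13 → Subgroup.normalizer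 ((B : Subgroup G) : Set G) ≤ Subgroup.normalizer ((K : Subgroup G) : Set G) ∧ Nat.card ↥(K ⊓ Subgroup.normalizer ((B : Subgroup G) : Set G)) = 78 ∧ K ⊓ Subgroup.centralizer ((B : Subgroup G) : Set G) = B ∧ (((K ⊓ Subgroup.normalizer ((B : Subgroup G) : Set G)) ⊔ T).subgroupOf (Subgroup.normalizer ((B : Subgroup G) : Set G))).index = 2 := by
  obtain ⟨S, rfl⟩ := s24 hD hprim h24
  have hx := S.M.ord (by norm_num) x_ord
  have p := S.pp1
  simp only [List.forall_mem_cons] at p
  have e : closure {S.a, S.vb, S.vd, S.n} = S.M.cp [(Vd, 0), (Vb, 0), (Un, 0), (Ua, 0)] := by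
    unfold Md.cp; congr 1; ext; simp [eq_comm]; tauto
  have eK := S.M.cent_cp [(Vd, 0), (Vb, 0), (Un, 0), (Ua, 0)]
  refine ⟨conj_all (one_class hx (by norm_num) S.card (by norm_num)), S.a, S.vb, S.vd, S.n, _, _, ?_, S.nc_an, S.pp2.2,
    p.1.2.1, p.2.2.1.2.1, p.1.2.2, p.2.2.1.2.2, rfl, rfl, ?_, fun B hB cB => ?_⟩
  · simp only [List.forall_mem_cons]
    exact ⟨S.M.v_mem_D _, p.1.1, p.2.2.1.1, S.M.v_mem_D _, by simp⟩
  · rw [e, eK]
    exact ⟨(G24.g2 S).some.trans (Lib.Comp.G23x.iso (ZMod.card 3)).some⟩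
  · rw [e] at hB ⊢
    have xK : S.M.v x ∈ centralizer (S.M.cp [(Vd, 0), (Vb, 0), (Un, 0), (Ua, 0)] : Set G) :=
      eK ▸ S.M.le_st k_p (S.M.mem_cp (by simp))
    obtain ⟨g, hg⟩ := one_class (n := 4245696) ((orderOf_mk _ xK).trans hx) (by norm_num) (by rw [eK]; exact (G24.K2 S).2)
      (by norm_num) (B.subgroupOf _) ((card_subgroupOf_of_le hB).trans cB)
    refine core (S.cj g⁻¹) ?_ rfl ?_
    · exact ((S.M.cjM_cp _ _).trans (mem_normalizer_iff_map_conj_eq.1 (centralizer_le_normalizer _ (g⁻¹).2))).symm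
    · have := congrArg (Subgroup.map (Subgroup.subtype _)) (eq_map_inv hg)
      rw [map_subgroupOf_eq_of_le hB, map_conj_zpowers, MonoidHom.map_zpowers] at this
      exact this.trans (congrArg _ (S.M.cjM_v _ _).symm)

end Cfsg.Agent.S5518
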