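import Cfsg.Statements.S5519
import Cfsg.Agent.Lib.Fi.U22

set_option autoImplicit false
open Cfsg

namespace Cfsg.Agent.S5519

open Cfsg.Lib.Fi

/-- Let G be a finite group with trivial centre generated by a conjugation-invariant set D of 3-transpositions on which it acts primitively, such that for some d in D the subgroup generated by the members of D other than d commuting with d has central largest normal 2- and 3-subgroups, and suppose G with D is of type M(22). Let d₁, d₂ be distinct commuting members of D and C the centralizer of their product. Then the generalized Fitting subgroup of C is the direct product of a group of order 2 and an extraspecial 2-group of order 2^9, and C modulo it is isomorphic to the full isometry group of the elliptic quadratic form in dimension 6 over the field with two elements. -/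
theorem result {G : Type*} [Group G] [Finite G] {D : Set G} (hD : Cfsg.IsThreeTranspositionGroup D) (hprim : Cfsg.IsPrimitiveUnderConj D) (d₀ : G) (hd₀ : d₀ ∈ D) (h3 : Cfsg.pCore 3 ↥(Subgroup.closure {y : G | y ∈ D ∧ y ≠ d₀ ∧ Commute d₀ y}) ≤ Subgroup.center ↥(Subgroup.closure {y : G | y ∈ D ∧ y ≠ d₀ ∧ Commute d₀ y})) (h2 : Cfsg.pCore 2 ↥(Subgroup.closure {y : G | y ∈ D ∧ y ≠ d₀ ∧ Commute d₀ y}) ≤ Subgroup.center ↥(Subgroup.closure {y : G | y ∈ D ∧ y ≠ d₀ ∧ Commute d₀ y})) (h22 : Cfsg.IsOfTypeM22 G D) (d₁ d₂ : G) (h₁ : d₁ ∈ D) (h₂ : d₂ ∈ D) (hne : d₁ ≠ d₂) (hc : Commute d₁ d₂) (C : Subgroup G) (hC : C = Subgroup.centralizer ({d₁ * d₂} : Set G)) [hn : (Cfsg.generalizedFittingSubgroup ↥C).Normal] : (∃ (E : Type) (_ : Group E) (_ : Finite E), Cfsg.IsExtraspecial 2 E ∧ Nat.card E = 2 ^ 9 ∧ Nonempty (↥(Cfsg.generalizedFittingSubgroup ↥C) ≃* Multiplicative (ZMod 2) × E)) ∧ Nonempty (↥C ⧸ Cfsg.generalizedFittingSubgroup ↥C ≃* Cfsg.isometryGroup (ZMod 2) (Cfsg.quadFormMinus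 2 (ZMod 2) 1 1)) := by
  obtain ⟨S, rfl⟩ := s22 hD hprim h22
  obtain ⟨T, -, rfl, rfl⟩ := S.pt2 h₁ h₂ hne hc
  rw [← T.j2_eq] at hC
  subst hC
  have e := fstar_of_map Nat.prime_two T.op2 (inf_le_right.trans (T.cent_q.1.le.trans T.v_le))
  refine ⟨?_, ⟨(QuotientGroup.quotientMulEquivOfEq e).trans T.quot_j2.some⟩⟩
  obtain ⟨E, i1, i2, ⟨f⟩⟩ := exists_small (PS (T.M.d T22.eA) 10 1)
  have h := T22.ePc T.M
  obtain ⟨g⟩ := two_prod_iso (T.M.ord_D hO22 (T.M.v_mem_D B22.Ua)) (K := PS (T.M.d T22.eA) 10 0)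
    (fun x hx => Subgroup.mem_centralizer_singleton_iff.2
      (T.cent_q.1.ge (Subgroup.subset_closure (by simp)) x (PS_mono (by norm_num) le_rfl hx)))
    (by rw [PS_succ _ (by norm_num), T.e1]) (by rw [h.card (by norm_num), h.card (by norm_num)]; norm_num) f
  exact ⟨E, i1, i2, xs_equiv f T.xs_e, by rw [← Nat.card_congr f.toEquiv, h.card (by norm_num)],
    ⟨((MulEquiv.subgroupCongr (e.trans (pCore_eq_of_map T.op2))).trans
      (Subgroup.subgroupOfEquivOfLe (T.op2 ▸ Subgroup.map_subtype_le _))).trans g⟩⟩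

end Cfsg.Agent.S5519
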