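import Cfsg.Statements.S5520
import Cfsg.Agent.Lib.Fi.O12d

set_option autoImplicit false
open Cfsg

namespace Cfsg.Agent.S5520

open Cfsg.Lib.Fi

/-- In the special unitary group of dimension 6 over the field with four elements (determinant-one matrices preserving the standard Hermitian form), the subgroups K whose centre has order 3 with K modulo its centre isomorphic to the projective special unitary group of dimension 4 over the field with nine elements fall into exactly three conjugacy classes. -/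
theorem result (F : Type) [Field F] [Fintype F] (hF : Fintype.card F = 4) (F9 : Type) [Field F9] [Fintype F9] (hF9 : Fintype.card F9 = 9) : ∃ K₁ K₂ K₃ : Subgroup ↥(Cfsg.SU 6 F 2), (∀ K ∈ [K₁, K₂, K₃], Nat.card ↥(Subgroup.center ↥K) = 3 ∧ Nonempty (↥K ⧸ Subgroup.center ↥K ≃* Cfsg.PSU 4 F9 3)) ∧ (¬ ∃ g : ↥(Cfsg.SU 6 F 2), K₁.map (MulAut.conj g).toMonoidHom = K₂) ∧ (¬ ∃ g : ↥(Cfsg.SU 6 F 2), K₁.map (MulAut.conj g).toMonoidHom = K₃) ∧ (¬ ∃ g : ↥(Cfsg.SU 6 F 2), K₂.map (MulAut.conj g).toMonoidHom = K₃) ∧ ∀ K : Subgroup ↥(Cfsg.SU 6 F 2), Nat.card ↥(Subgroup.center ↥K) = 3 → Nonempty (↥K ⧸ Subgroup.center ↥K ≃* Cfsg.PSU 4 F9 3) → ∃ g : ↥(Cfsg.SU 6 F 2), K.map (MulAut.conj g).toMonoidHom = K₁ ∨ K.map (MulAut.conj g).toMonoidHom = K₂ ∨ K.map (MulAut.conj g).toMonoidHom = K₃ := by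
  obtain ⟨e⟩ := (su_iso F hF).2
  obtain ⟨u⟩ := Lib.Comp.U43x.iso hF9
  let ι : SU 6 F 2 →* G12 := SU0.subtype.comp e.symm.toMonoidHom
  have hi : Function.Injective ι := Subtype.val_injective.comp e.symm.injective
  have hr : ι.range = SU0 := by rw [MonoidHom.range_comp, MonoidHom.range_eq_top.2 e.symm.surjective, ← MonoidHom.range_eq_map, Subgroup.range_subtype]
  have q : ∀ K : Subgroup (SU 6 F 2), Nat.card (Subgroup.center K) = Nat.card (Subgroup.center (K.map ι)) ∧
      Nonempty (K ⧸ Subgroup.center K ≃* K.map ι ⧸ Subgroup.center _) := fun K =>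
    have m := map_center_eqv (K.equivMapOfInjective ι hi)
    ⟨by rw [← m, Subgroup.card_map_of_injective (MulEquiv.injective _)], ⟨QuotientGroup.congr _ _ _ m⟩⟩
  have c : ∀ (K : Subgroup (SU 6 F 2)) a, (K.map (MulAut.conj a).toMonoidHom).map ι = (K.map ι).map (MulAut.conj (ι a)).toMonoidHom :=
    fun X a => by rw [Subgroup.map_map, Subgroup.map_map]; congr 1; ext; simp
  have cc : ∀ (K : Subgroup G12) a b, (K.map (MulAut.conj a).toMonoidHom).map (MulAut.conj b).toMonoidHom =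
      K.map (MulAut.conj (b * a)).toMonoidHom := fun K a b => by rw [Subgroup.map_map, map_mul]; rfl
  let L : ℕ → Subgroup G12 := fun i => K1.map (MulAut.conj (D0 ^ i)).toMonoidHom
  have d := fun i : ℕ => pow_mem D0_mem i
  have l : ∀ i, L i ≤ SU0 := by
    rintro i _ ⟨y, hy, rfl⟩; exact (Subgroup.mem_normalizer_iff.1 (SU0_norm (d i)) y).1 (KW_le (K1_le hy))
  have m : ∀ i, ((L i).comap ι).map ι = L i := fun i => Subgroup.map_comap_eq_self (hr ▸ l i)
  have n : ∀ i < 3, ∀ j < i, ¬ ∃ g : SU 6 F 2, ((L j).comap ι).map (MulAut.conj g).toMonoidHom = (L i).comap ι := by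
    rintro i hi j hj ⟨g, hg⟩
    have := congrArg (fun K => (K.map ι).map (MulAut.conj (D0 ^ i)⁻¹).toMonoidHom) hg
    simp only [c, m, L, cc, inv_mul_cancel] at this
    rw [map_one, show (1 : MulAut G12).toMonoidHom = MonoidHom.id _ from rfl, Subgroup.map_id] at this
    have g0 : ι g ∈ SU0 := hr ▸ ⟨g, rfl⟩
    have k : (D0 ^ i)⁻¹ * (ι g * D0 ^ j) ∈ SU0 := KW_le (N0_GU.le (Subgroup.mem_inf.2 ⟨norm_K1.le
      (Lib.Core.mem_normalizer_of_conj_mem fun y hy => this.le ⟨y, hy, rfl⟩), mul_mem (inv_mem (d i)) (mul_mem (SU0_le g0) (d j))⟩))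
    have k2 : D0 ^ (i - j) ∈ SU0 := by
      have := mul_mem (inv_mem ((Subgroup.mem_normalizer_iff.1 (SU0_norm (d i)) _).1 k)) g0
      have := (Subgroup.mem_normalizer_iff''.1 (SU0_norm (SU0_le g0)) _).1 (mul_mem g0 (mul_mem this (inv_mem g0)))
      rw [pow_sub _ hj.le]; convert this using 1; group
    exact D0_not (mem_of_pow_mem (p := 3) (by interval_cases i <;> interval_cases j <;> norm_num)
      ((D0_ord ▸ pow_orderOf_eq_one D0).symm ▸ one_mem _) k2)
  refine ⟨(L 0).comap ι, (L 1).comap ι, (L 2).comap ι, fun K hK => ?_, n 1 (by norm_num) 0 one_pos, n 2 (by norm_num) 0 two_pos,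
    n 2 (by norm_num) 1 one_lt_two, fun K h3 ⟨v⟩ => ?_⟩
  · obtain ⟨i, rfl⟩ : ∃ i, K = (L i).comap ι := by simp only [List.mem_cons, List.not_mem_nil, or_false] at hK; rcases hK with h | h | h <;> exact ⟨_, h⟩
    have := q ((L i).comap ι)
    rw [m] at this
    have k := K1_cov.conj (d i)
    obtain ⟨a, ⟨b⟩⟩ := k.cen (Lib.Core.centralizer_zpowers X0 ▸ (l i).trans SU0_le)
    exact ⟨by rw [this.1, a, Lib.Core.card_subgroupOf_of_le k.1, Nat.card_zpowers, X0_ord], ⟨this.2.some.trans (b.trans u)⟩⟩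
  have hS : K.map ι ≤ SU0 := hr ▸ Subgroup.map_le_range _ _
  obtain ⟨a, ⟨b⟩⟩ := q K
  rw [h3] at a
  have s : _ = ((Subgroup.center (K.map ι)).map (K.map ι).subtype).subgroupOf (K.map ι) :=
    (Subgroup.comap_map_eq_self_of_injective (K.map ι).subtype_injective (Subgroup.center _)).symm
  have : (((Subgroup.center (K.map ι)).map (K.map ι).subtype).subgroupOf (K.map ι)).Normal := by rw [← s]; infer_instance
  have k := Cov43.of (Subgroup.map_subtype_le _) ((QuotientGroup.quotientMulEquivOfEq s).symm.trans (b.symm.trans (v.trans u.symm)))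
  have z := (Subgroup.card_map_of_injective (K := Subgroup.center (K.map ι)) (K.map ι).subtype_injective).trans a.symm
  obtain ⟨T, hT⟩ := Sylow.exists_subgroup_card_pow_prime 3 (G := K.map ι) (n := 7) (by rw [k.card, z]; norm_num)
  have x : Subgroup.zpowers X0 ≤ K.map ι := (le_sylow_of_norm (r := 12615680) Nat.prime_three ke_SU0.2 (by norm_num)
    ((Subgroup.map_subtype_le T).trans hS) ((Subgroup.card_map_of_injective (Subgroup.subtype_injective _)).trans hT)
    (Subgroup.zpowers_le.2 X0_SU0) (SU0_le.trans (cent_le_norm_zpowers _)) (.of_card (n := 1) (by rw [Nat.card_zpowers, X0_ord]; rfl))).trans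
    (Subgroup.map_subtype_le T)
  rw [← Subgroup.eq_of_le_of_card_ge (H := Subgroup.zpowers X0) (K := (Subgroup.center (K.map ι)).map (K.map ι).subtype) (Subgroup.zpowers_le.2 ⟨⟨X0, x (Subgroup.mem_zpowers _)⟩, Subgroup.mem_center_iff.2 fun y =>
    Subtype.ext (Subgroup.mem_centralizer_singleton_iff.1 (SU0_le (hS y.2))), rfl⟩) (by rw [z, Nat.card_zpowers, X0_ord])] at k
  obtain ⟨g, hg, k⟩ := cls43 k (hS.trans SU0_le)
  obtain ⟨i, hi', g'⟩ := GU0_dec hg
  obtain ⟨w, hw⟩ : D0 ^ i * g ∈ ι.range := hr ▸ g'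
  have : K.map (MulAut.conj w).toMonoidHom = (L i).comap ι := Subgroup.map_injective hi (by rw [m, c, hw, ← cc, k])
  refine ⟨w, ?_⟩
  interval_cases i
  exacts [.inl this, .inr (.inl this), .inr (.inr this)]

end Cfsg.Agent.S5520
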