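import Cfsg.Statements.S5521
import Cfsg.Agent.Lib.Golay.M12

set_option autoImplicit false
open Cfsg

namespace Cfsg.Agent.S5521

open Cfsg.Lib.Golay
open scoped Pointwise
set_option maxRecDepth 100000
set_option linter.unusedSimpArgs false

/-- The Mathieu group M₂₄ in its natural action on the 24 coordinate positions of the binary Golay code has minimal base size exactly 7: every set of at most 6 positions is fixed pointwise by some non-identity element of M₂₄, while some set of 7 positions is fixed pointwise only by the identity. -/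
theorem result :
    (∀ B : Finset Cfsg.GolayPt, B.card ≤ 6 → ∃ g ∈ Cfsg.M24, g ≠ 1 ∧ ∀ b ∈ B, g b = b) ∧
    (∃ B : Finset Cfsg.GolayPt, B.card = 7 ∧ ∀ g ∈ Cfsg.M24, (∀ b ∈ B, g b = b) → g = 1) := by
  refine ⟨fun B hB => ?_, om 127, by rw [card_om]; decide, fun g hg h => eq_one_of_fix_base hg
    fun i hi => h _ ((pt_mem_om (by omega)).mpr (by revert i; decide))⟩
  obtain ⟨E, hBE, -, hE⟩ := Finset.exists_subsuperset_card_eq (Finset.subset_univ B) hB
    (by rw [Finset.card_univ, card_golayPt]; norm_num)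
  have key : ∀ m c : ℕ, inM24 c = true → c ≠ idN 24 → (∀ i < 24, tb m i = true → app c i = i) →
      ∀ σ ∈ M24, E = σ • om m → ∃ g ∈ M24, g ≠ 1 ∧ ∀ b ∈ B, g b = b := by
    rintro m c h1 h2 h3 σ hσ rfl
    have hc := inH_of_inM24 h1
    refine ⟨σ * gc.dec c * σ⁻¹, mul_mem (mul_mem hσ hc.2) (inv_mem hσ), ?_, fun b hb => ?_⟩
    · rw [Ne, conj_eq_one_iff, hc.1.dec_eq_one_iff]; exact h2
    · obtain ⟨x, hx, rfl⟩ := Finset.mem_smul_finset.mp (hBE hb)
      obtain ⟨i, hi, rfl⟩ := gc.exists_pt x
      rw [conj_apply_smul, hc.1.dec_pt hi, h3 i hi ((pt_mem_om hi).mp hx)]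
  rcases std_six hE with ⟨-, σ, hσ, e⟩ | ⟨-, σ, hσ, e⟩
  · exact key _ 0x17140b160c06110a040e091315100d070812050f03020100 (by decide +kernel) (by decide +kernel)
      (by decide +kernel) σ hσ e
  · exact key _ 0x1710090b1406050d12111607130c08150a0f0e0403020100 (by decide +kernel) (by decide +kernel)
      (by decide +kernel) σ hσ e

end Cfsg.Agent.S5521
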