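import Cfsg.Statements.S5522
import Cfsg.Agent.Lib.Golay.Cls

set_option autoImplicit false
open Cfsg

namespace Cfsg.Agent.S5522

open Cfsg.Lib.Golay
open scoped Pointwise
set_option maxRecDepth 100000
set_option linter.unusedSimpArgs false
set_option maxHeartbeats 400000

/-- The Mathieu group M₁₁, realised as the stabiliser of one point of the dodecad of squares inside the stabiliser M₁₂ of that dodecad in M₂₄, acts on the twelve coordinate positions outside the dodecad of squares (its 3-transitive action of degree 12); in this action every element of prime order fixes a point, i.e. the action is elusive. -/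
theorem result (g : Equiv.Perm Cfsg.GolayPt) (hg : g ∈ Cfsg.Spor.M11) (hord : (orderOf g).Prime) :
    ∃ x : Cfsg.GolayPt, x ∉ Cfsg.Spor.squareDodecad ∧ g x = x := by

  rw [squareDodecad_eq]
  have key : ∀ (p m n : ℕ) (ss : List ℕ), orderOf g = p → (∀ g ∈ ss, gc.InH Spor.M11 g) → 7920 = n * m → ¬ p ∣ n →
      bfsH 31 5 (mapL (mulN 24) ss) 1 (idN 24) (fun _ L => band (Nat.beq (lenL L) m) (allL L fun y =>
        bimp (Nat.beq (powN 24 y p) (idN 24)) (anyN 24 fun i => band (bnot (tb 0x5335f i)) (Nat.beq (app y i) i)))) = true →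
      ∃ x, x ∉ om 0x5335f ∧ g x = x := by
    intro p m n ss hp hss hn hpn h
    obtain ⟨mem, t, L, h1, h2, -⟩ := Coding.enum_gen (fun g hg => (hss g hg).1) h
    rw [band_iff, allL_iff, beq_iff, ← h2.ncard] at h1
    obtain ⟨k, hk, e⟩ := exists_conj_mem (hp ▸ hord) (Coding.gen_le hss) (n := n) (by rw [card_M11, hn, ← h1.1]; rfl)
      hpn hg (k := 1) (by rw [pow_one, ← hp, pow_orderOf_eq_one])
    obtain ⟨y, hy, e'⟩ := h2.surj _ e
    have hv : gc.Valid y := h2.valid y hy
    have e' : gc.dec y = k⁻¹ * g * k := e'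
    obtain ⟨i, hi, h3⟩ := anyN_iff.mp (bimp_iff.mp (h1.2 y hy) (beq_iff.mpr ((hv.pow_eq_one_iff p).mp (by
      rw [e', ← hp, ← orderOf_conj' k⁻¹, inv_inv, pow_orderOf_eq_one]))))
    rw [band_iff, bnot_iff, beq_iff, ← pt_mem_om hi] at h3
    refine ⟨k (gc.pt i), (M12_apply_mem_iff hk.1 _).not.mpr h3.1, ?_⟩
    have := hv.dec_pt hi
    rw [h3.2, e'] at this
    simpa [Equiv.symm_apply_eq] using this
  have h1 : orderOf g ∣ 2 ^ 4 * 3 ^ 2 * 5 * 11 := by
    have := orderOf_dvd_natCard (⟨g, hg⟩ : Spor.M11)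
    rwa [card_M11, ← Subgroup.orderOf_coe] at this
  simp only [hord.dvd_mul] at h1
  rcases h1 with ((h | h) | h) | h
  · exact key 2 16 495 gS16 ((Nat.prime_dvd_prime_iff_eq hord Nat.prime_two).mp (hord.dvd_of_dvd_pow h)) inH_gS16
      rfl (by norm_num) (by decide +kernel)
  · exact key 3 9 880 [0x171105150f100b090e130602160a120d0708140c03040100, 0x71605150e04110c130f100d0b1702120a09140803060100]
      ((Nat.prime_dvd_prime_iff_eq hord Nat.prime_three).mp (hord.dvd_of_dvd_pow h))
      (inH_M11 (by decide +kernel)) rfl (by norm_num) (by decide +kernel)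
  · exact key 5 5 1584 [0x70f0516130d0a10171509010b0e0312140c110208060400]
      ((Nat.prime_dvd_prime_iff_eq hord Nat.prime_five).mp h)
      (inH_M11 (by decide +kernel)) rfl (by norm_num) (by decide +kernel)
  · exact key 11 11 720 [0x714131517010f03051108060b0e02120a0916100c0d0400]
      ((Nat.prime_dvd_prime_iff_eq hord (by norm_num)).mp h)
      (inH_M11 (by decide +kernel)) rfl (by norm_num) (by decide +kernel)

end Cfsg.Agent.S5522
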