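import Cfsg.Statements.S5529
import Cfsg.Agent.S1643
import Mathlib.Analysis.InnerProductSpace.PiL2
import Mathlib.GroupTheory.GroupAction.Quotient

set_option autoImplicit false
open Cfsg

namespace Cfsg.Agent.S5529

open Subgroup MulAction Module Cfsg.Lib.Small Cfsg.Lib.Golay Cfsg.Spor Cfsg.Agent.S1643
set_option maxRecDepth 100000

section ree
variable {α : Type*} [Fintype α] [DecidableEq α]

/-- the functions invariant under a permutation. -/
def Fx (g : Equiv.Perm α) : Submodule ℝ (EuclideanSpace ℝ α) where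
  carrier := {v | ∀ a, v (g a) = v a}
  add_mem' hv hw a := by simp [hv a, hw a]
  zero_mem' a := rfl
  smul_mem' c v hv a := by simp [hv a]

omit [DecidableEq α] in
theorem ree (x y : Equiv.Perm α) :
    finrank ℝ (Fx x) + finrank ℝ (Fx y) + finrank ℝ (Fx (x * y)) ≤ Fintype.card α + 2 * finrank ℝ ↥(Fx x ⊓ Fx y) := by
  let T : Fx (x * y) →ₗ[ℝ] EuclideanSpace ℝ α :=
    { toFun := fun v => WithLp.toLp 2 fun a => v.1 (x a) - v.1 a
      map_add' := fun v w => by ext a; simp; ring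
      map_smul' := fun c v => by ext a; simp; ring }
  have key : ∀ (g : Equiv.Perm α) (u : EuclideanSpace ℝ α) (w : α → ℝ), u ∈ Fx g →
      ∑ a, (w (g a) - w a) * u a = 0 := fun g u w hu => by
    simp only [sub_mul, Finset.sum_sub_distrib]
    rw [← Equiv.sum_comp g (fun a => w a * u a), sub_eq_zero]
    exact Finset.sum_congr rfl fun a _ => by rw [hu a]
  have h1 : LinearMap.range T ≤ (Fx x ⊔ Fx y)ᗮ := by
    rintro _ ⟨v, rfl⟩
    rw [← Submodule.inf_orthogonal]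
    refine ⟨(Submodule.mem_orthogonal _ _).2 fun u hu => ?_, (Submodule.mem_orthogonal _ _).2 fun u hu => ?_⟩
    · simpa [PiLp.inner_apply, T] using key x u v.1 hu
    · have := key y u (fun a => v.1 (x a)) hu
      have e : ∀ a, v.1 (x (y a)) = v.1 a := v.2
      simp only [e] at this
      simp only [PiLp.inner_apply, T, LinearMap.coe_mk, AddHom.coe_mk, RCLike.inner_apply, conj_trivial]
      rw [← neg_eq_zero, ← Finset.sum_neg_distrib, ← this]
      exact Finset.sum_congr rfl fun a _ => by ring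
  have h2 : (LinearMap.ker T).map (Fx (x * y)).subtype ≤ Fx x ⊓ Fx y := by
    rintro _ ⟨v, hv, rfl⟩
    have e : ∀ a, v.1 (x a) = v.1 a := fun a => sub_eq_zero.1 (congrArg (fun w : EuclideanSpace ℝ α => w a) hv)
    exact ⟨e, fun a => (e _).symm.trans (v.2 a)⟩
  have h3 := LinearMap.finrank_range_add_finrank_ker T
  have h4 := Submodule.finrank_mono h1
  have h5 := Submodule.finrank_mono h2
  rw [Submodule.finrank_map_subtype_eq] at h5
  have h6 := Submodule.finrank_add_finrank_orthogonal (Fx x ⊔ Fx y)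
  have h7 := Submodule.finrank_sup_add_finrank_inf_eq (Fx x) (Fx y)
  rw [finrank_euclideanSpace] at h6
  omega

theorem fx_ge (g : Equiv.Perm α) : Fintype.card α + (orderOf g - 1) * (Finset.univ.filter fun a => g a = a).card ≤
    finrank ℝ (Fx g) * orderOf g := by
  classical
  have h1 := sum_card_fixedBy_eq_card_orbits_mul_card_group (zpowers g) α
  rw [Fintype.card_zpowers, ← Finset.add_sum_erase _ _ (Finset.mem_univ 1)] at h1
  have h2 : Fintype.card (Quotient (orbitRel (zpowers g) α)) ≤ finrank ℝ (Fx g) := by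
    let T : (Quotient (orbitRel (zpowers g) α) → ℝ) →ₗ[ℝ] Fx g :=
      { toFun := fun f => ⟨WithLp.toLp 2 fun a => f (Quotient.mk _ a), fun a => congrArg f
          (Quotient.sound ⟨⟨g, mem_zpowers g⟩, rfl⟩)⟩
        map_add' := fun _ _ => rfl
        map_smul' := fun _ _ => rfl }
    rw [← finrank_fintype_fun_eq_card ℝ]
    exact LinearMap.finrank_le_finrank_of_injective (f := T) fun f f' e => funext fun q => by
      obtain ⟨a, rfl⟩ := Quotient.exists_rep q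
      exact congrArg (fun w : Fx g => w.1 a) e
  refine le_trans ?_ (h1.le.trans (Nat.mul_le_mul_right _ h2))
  refine add_le_add (by simp) ?_
  rw [← Fintype.card_zpowers, ← Finset.card_univ, ← Finset.card_erase_of_mem (Finset.mem_univ 1), ← smul_eq_mul]
  refine Finset.card_nsmul_le_sum _ _ _ fun h _ => ?_
  rw [← Fintype.card_subtype]
  refine Fintype.card_le_of_injective (fun a => ⟨a.1, ?_⟩) fun _ _ e => Subtype.ext (Subtype.ext_iff.1 e :)
  obtain ⟨_, k, rfl⟩ := h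
  exact Equiv.Perm.zpow_apply_eq_self_of_apply_eq_self a.2 k

end ree

theorem fx_M23 {g : Equiv.Perm GolayPt} (hg : g ∈ M23) : 1 ≤ finrank ℝ (Fx g) ∧ (orderOf g = 2 → 16 ≤ finrank ℝ (Fx g)) ∧
    (orderOf g = 3 → 12 ≤ finrank ℝ (Fx g)) ∧ (orderOf g = 5 → 8 ≤ finrank ℝ (Fx g)) ∧
    (orderOf g = 7 → 6 ≤ finrank ℝ (Fx g)) := by
  have h := fx_ge g
  have h0 : (Finset.univ.filter fun a => g a = a).card ≠ 0 :=
    Finset.card_ne_zero.2 ⟨none, Finset.mem_filter.2 ⟨Finset.mem_univ _, (mem_M23.1 hg).2⟩⟩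
  have hm := fun p hp (e : orderOf g = p) => card_mod_fix hp e (A := Finset.univ) fun _ _ => Finset.mem_univ _
  rw [card_golayPt] at h
  rw [Finset.card_univ, card_golayPt] at hm
  refine ⟨Nat.pos_of_ne_zero fun e => by rw [e] at h; omega, fun e => ?_, fun e => ?_, fun e => ?_, fun e => ?_⟩
  · obtain ⟨k, -, rfl⟩ := std_2A (M23_le hg) e h0
    rw [card_fix_conj k fix_z2A, e, show pop24 0x82402f = 8 by decide +kernel] at h; omega
  · obtain ⟨k, -, rfl⟩ := std_3A (M23_le hg) e h0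
    rw [card_fix_conj k fix_z3A, e, show pop24 0x2840c2 = 6 by decide +kernel] at h; omega
  · have := hm 5 (by norm_num) e
    rw [e] at h; unfold Nat.ModEq at this; omega
  · have := hm 7 (by norm_num) e
    rw [e] at h; unfold Nat.ModEq at this; omega

theorem fx_inf {x y : M23} (h : closure {x, y} = ⊤) :
    finrank ℝ ↥(Fx (x : Equiv.Perm GolayPt) ⊓ Fx (y : Equiv.Perm GolayPt)) ≤ 2 := by
  let T : ↥(Fx (x : Equiv.Perm GolayPt) ⊓ Fx (y : Equiv.Perm GolayPt)) →ₗ[ℝ] ℝ × ℝ :=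
    { toFun := fun v => (v.1 none, v.1 (some 0))
      map_add' := fun _ _ => rfl
      map_smul' := fun _ _ => rfl }
  refine (LinearMap.finrank_le_finrank_of_injective (f := T) ((injective_iff_map_eq_zero T).2
    fun v e => ?_)).trans (by simp)
  have h1 : ∀ g : M23, v.1 ∈ Fx (g : Equiv.Perm GolayPt) := fun g => by
    refine closure_induction (p := fun g : M23 => fun _ => v.1 ∈ Fx (g : Equiv.Perm GolayPt)) ?_ (fun _ => rfl)
      (fun a b _ _ ha hb c => (ha _).trans (hb c)) (fun a _ ha c => ?_) (h ▸ mem_top g : g ∈ closure {x, y})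
    · rintro _ (rfl | rfl)
      · exact v.2.1
      · exact v.2.2
    · rw [← ha]; simp
  ext a
  by_cases ha : a = none
  · rw [ha]; exact congrArg Prod.fst e
  · obtain ⟨σ, hσ, e1, e2⟩ := exists_M24_two (a := none) (b := some 0) (a' := none) (b' := a) (by simp) (Ne.symm ha)
    rw [← e2]
    exact (h1 ⟨σ, mem_M23.2 ⟨hσ, e1⟩⟩ _).trans (congrArg Prod.snd e)

theorem arith {n n1 n2 c d : ℕ} (h3 : n ∣ 10200960) (a : 7 ∣ n) (b : 11 ∣ n) (e : 23 ∣ n) (a1 : n1 % 23 = 1)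
    (a3 : n = n1 * c) (a4 : c ∣ 253) (b1 : n2 % 11 = 1) (b3 : n = n2 * d) (b4 : d ∣ 55) : n = 10200960 := by
  obtain ⟨k, hk⟩ : 1771 ∣ n := by omega
  have h4 : k ∣ 5760 := Nat.dvd_of_mul_dvd_mul_left (by norm_num : 0 < 1771) (hk ▸ h3)
  have h5 := (by decide +kernel : ∀ k ∈ Nat.divisors 5760, ∀ c ∈ Nat.divisors 253, 1771 * k / c % 23 = 1 →
    ∀ d ∈ Nat.divisors 55, 1771 * k / d % 11 = 1 → 1771 * k % d = 0 → k = 5760) k
    (Nat.mem_divisors.2 ⟨h4, by norm_num⟩) c (Nat.mem_divisors.2 ⟨a4, by norm_num⟩) (by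
      rw [← hk, a3, Nat.mul_div_cancel _ (Nat.pos_of_dvd_of_pos a4 (by norm_num)), a1])
    d (Nat.mem_divisors.2 ⟨b4, by norm_num⟩) (by
      rw [← hk, b3, Nat.mul_div_cancel _ (Nat.pos_of_dvd_of_pos b4 (by norm_num)), b1])
    (by rw [← hk, b3, Nat.mul_mod_left])
  omega

theorem full' {G : Type*} [Group G] [Finite G] {H M : Subgroup G} (h2 : H ≤ M) (cM : Nat.card M = 10200960)
    (na : ∀ a ∈ M, orderOf a = 23 → Nat.card ↥(M ⊓ normalizer (zpowers a : Set G)) = 253)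
    (nu : ∀ a ∈ M, orderOf a = 11 → Nat.card ↥(M ⊓ normalizer (zpowers a : Set G)) = 55)
    (a : 7 ∣ Nat.card H) (b : 11 ∣ Nat.card H) (e : 23 ∣ Nat.card H) : H = M := by
  have h3 := card_dvd_of_le h2
  rw [cM] at h3
  obtain ⟨n1, a1, a2⟩ := syl_cnt H (p := 23) (by norm_num) fun h => absurd (h.trans h3) (by norm_num)
  obtain ⟨n2, b1, b2⟩ := syl_cnt H (p := 11) (by norm_num) fun h => absurd (h.trans h3) (by norm_num)
  obtain ⟨x, hx, ox⟩ := exists_order (by norm_num) e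
  obtain ⟨y, hy, oy⟩ := exists_order (by norm_num) b
  exact eq_of_le_of_card_ge h2 (cM.trans (arith h3 a b e a1 (a2 x hx ox)
    ((card_dvd_of_le (inf_le_inf_right _ h2)).trans (na x (h2 hx) ox).dvd) b1 (b2 y hy oy)
    ((card_dvd_of_le (inf_le_inf_right _ h2)).trans (nu y (h2 hy) oy).dvd)).symm).le

theorem full {H : Subgroup (Equiv.Perm GolayPt)} (h2 : H ≤ M23) (a : 7 ∣ Nat.card H) (b : 11 ∣ Nat.card H)
    (e : 23 ∣ Nat.card H) : H = M23 :=
  full' h2 card_M23 (fun _ hx ox => nrm hA (by norm_num) oA (by decide +kernel) (by norm_num) (by decide +kernel) hx ox)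
    (fun _ hx ox => nrm h0 (p := 11) (by norm_num) (h0.1.orderOf_eq (by norm_num) (by decide +kernel))
      (by decide +kernel) (by norm_num) (by decide +kernel) hx ox) a b e

def tab : List (ℕ × ℕ × ℕ × ℕ × ℕ × List ℕ × List ℕ × List ℕ) :=
  [(2, 5, 11, 0x1710151408030a160607000c09110b130e0f05041202010d, 0x1702010d050b0e1413161215100a090c080f031106040700, [0, 1, 1, 0, 1, 1], [0, 1], [0, 1, 0, 1, 1, 1]),
  (2, 5, 23, 0x170a020c06100b120f0d0e14111603080713050409150100, 0x170c01130009140204110508150a16120f06070d030b100e, [0, 1, 0, 1, 0, 1, 1, 1], [0, 1, 1], [0, 1]),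
  (2, 7, 7, 0x1709051401120d020f0e1106040716080a0c150b03101300, 0x1701050611160312080d150b130f0910070c020014040a0e, [1], [0, 1, 0, 1, 1, 1, 1, 1], [0, 1, 1]),
  (2, 7, 11, 0x171215100a1601140b0507060f1309080d0c0e0403021100, 0x1713091115100a0004010d0c07060312160f0e020b140805, [1], [0, 1], [0, 1, 1]),
  (2, 7, 23, 0x17151614051211030a0b08060e0f010d070c130410020900, 0x1716130311140d0c0b12060f001015090408070e050a0102, [1], [0, 1, 0, 1, 1, 1], [0, 1]),
  (2, 11, 11, 0x17160a060912030d070e100b0c1513080f14050411020001, 0x171102030c10150807010b1405160609130f0a0d120e0400, [0, 1, 0, 1, 1], [1], [0, 1, 0, 1, 0, 1, 1]),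
  (2, 11, 23, 0x1716150e130109100a14060c000f1108040d03070502120b, 0x1715020d0e11050010040f16120107140306090a0c0b0813, [0, 1, 1, 1, 1, 1], [1], [0, 1]),
  (2, 23, 23, 0x170b0c131412110304060215160a0908010e050f100d0700, 0x17060515070e0a0c140209010d04100b110f130800031216, [0, 1, 1, 0, 1, 1], [0, 1, 1, 1, 1, 1], [1]),
  (3, 3, 11, 0x1704150a03120b0010160c0907060d081114050e0102130f, 0x17160715100b11031202050c0f0e000d14060809130a0104, [0, 1, 0, 1, 1], [0, 1], [0, 0, 1, 0, 1, 0, 1]),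
  (3, 3, 23, 0x170211101612060d0109140e0b0a0c0704150f0803130500, 0x170415140c0d1100160e050b130203100a09120f06070108, [0, 0, 1, 0, 1, 0, 1, 1], [0, 0, 1, 0, 1], [0, 1]),
  (3, 5, 5, 0x170c1502140e11120f10040008050b090d0a060703130116, 0x171604130b03070811021001090a0015120c050d0f060e14, [0, 0, 1, 1, 0, 1, 1], [0, 0, 1, 0, 1], [0, 0, 1]),
  (3, 5, 7, 0x17080a0c130011140f150d10070e0503060b020416091201, 0x170e04140d010c0f13050212000a08070b06151611100309, [0, 1], [0, 0, 1, 0, 1, 1, 1], [0, 0, 1, 0, 1]),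
  (3, 5, 11, 0x17160214070d040c110e03090b08100506130a0f12000115, 0x1713060b11121409020c0415160f030810050e0a010d0700, [0, 0, 1, 1, 0, 1, 1], [0, 1], [0, 0, 1]),
  (3, 5, 23, 0x171615030c140e1007060108050f0b130a1109041202000d, 0x17050209060e11150714080d0b100016040f0c130a030112, [0, 0, 1, 1], [0, 0, 1], [0, 1]),
  (3, 7, 7, 0x17001404080d110f05130c120b0a090e0702101506031601, 0x17141510110216090f13080405010e0a12030c070d0b0006, [1], [0, 0, 1], [0, 1, 1, 1]),
  (3, 7, 11, 0x171615000508100d0f1411060b040c030a0901071202130e, 0x17100107130f001115040803140d0e161209050c02060b0a, [1], [0, 1], [0, 1, 1, 0, 1, 1, 1]),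
  (3, 7, 23, 0x1703090d130b111015070c1405020f0a001612040608010e, 0x170e09150d060701021204110b16130a0f00050314100c08, [1], [0, 0, 1, 0, 1], [0, 1]),
  (3, 11, 11, 0x171600061507110e120d10020c0901140f080504030b0a13, 0x170c12000507160f14080d0e020313091110150a0601040b, [0, 0, 1, 1], [1], [0, 1, 1, 1, 1]),
  (3, 11, 23, 0x1709011015120b070211040c0e0f060814160500030a130d, 0x17091113150f010a0e000d1410060304050712160c0b0802, [0, 0, 1], [1], [0, 1]),
  (3, 23, 23, 0x170d0e0f151011040013080c0b020a160603051207090114, 0x17060201150e14160410130d09000f030b11120a0c050708, [0, 0, 1, 1, 1], [0, 0, 1], [1]),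
  (5, 5, 5, 0x1716131203090810150702110c0a0e06140b0f0d05010004, 0x17000601150d0908140f070c0b1312051104160a030e0210, [0, 0, 1, 1], [0, 0, 0, 1, 1], [0, 0, 0, 1]),
  (5, 5, 7, 0x1703161113080c150f0d010b001012070204050e0a090614, 0x17060c16020904120b150e05140a0013100f0d0803110107, [0, 1], [0, 0, 0, 1, 1], [0, 1, 1]),
  (5, 5, 11, 0x170b110d051614100e090301070a08040206000f1512130c, 0x1702160f1004141500010e0c0b030608120d110a07130905, [0, 0, 1, 0, 1, 1], [0, 1], [0, 1, 1]),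
  (5, 5, 23, 0x1714040207081610150e120603110c010913050b0f0a000d, 0x17130401021412000609080c1011050e07160d0b030f0a15, [0, 0, 1, 0, 0, 1], [0, 0, 0, 1], [0, 1]),
  (5, 7, 7, 0x17120c031311090a02051008040f070e16061514010d0b00, 0x170e0d050402080c0a14130912060f160703000b10150111, [1], [0, 0, 1, 1, 1], [0, 0, 1]),
  (5, 7, 11, 0x171608120f0e06040b070103150a1413090c1102050d1000, 0x17120106150003160e0a0d020b0c07110f04080514091013, [1], [0, 1], [0, 0, 1, 0, 1]),
  (5, 7, 23, 0x17140b0316150408020e0f13100609120100050d0c110a07, 0x17010002140703150c0d0f11160a1208050e0b1306100904, [1], [0, 0, 0, 1], [0, 1]),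
  (5, 11, 11, 0x17000b0a111205100315160208010e0904060c140d13070f, 0x170d0702150e0116060b09120f100c08050a041113001403, [0, 0, 0, 1], [1], [0, 0, 0, 1, 1]),
  (5, 11, 23, 0x1713140d060c00100f0107051603090b02080e110415120a, 0x1703080f071605130114150c12060b110a02090d0400100e, [0, 0, 1, 0, 1], [1], [0, 1]),
  (5, 23, 23, 0x170e02140b0805110313000f0115040a07060d0c09121610, 0x170c000f12030b15040d071410060e131105020116090a08, [0, 0, 1, 1, 0, 1], [0, 0, 1, 0, 1], [1]),
  (7, 7, 7, 0x170009010302110a0815120c0507130e060416140f0b100d, 0x171601020b040c0d0815050e110f07030a06141000121309, [0], [0, 0, 1], [0, 1, 1, 1, 1]),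
  (7, 7, 11, 0x170912010e08130d10150506160c07000a0b030414020f11, 0x1713120c070f0d100902160a050400150e0814030b110106, [0], [0, 1], [0, 1, 1, 1]),
  (7, 7, 23, 0x171601120b06070515080e13100309020c041100140f0d0a, 0x1706160908131114070a0c0e1512010d0b050f0204100300, [0], [0, 0, 0, 1], [0, 1]),
  (7, 11, 11, 0x171214100e0f07060300130c0d02150405081609110b010a, 0x170313080f0c0a110b120d140516060209100e0700150401, [0], [1], [0, 0, 0, 0, 0, 1]),
  (7, 11, 23, 0x170410140702110f03050a0d000115120c1316080b0e0609, 0x170e060213051514010d0311090b0c0a1004160f07000812, [0], [1], [0, 1]),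
  (7, 23, 23, 0x170f101401090a110413030c000d0b020e15081206070516, 0x170d1408060a01070c050e120010150304090b110f131602, [0], [0, 0, 0, 1, 0, 1], [1]),
  (11, 11, 11, 0x170f15160e050a09030b12070d13010002040c1408110610, 0x17050d020b0309060a130c0f141007120411011516080e00, [0, 0, 1, 1], [0], [0, 0, 0, 0, 1]),
  (11, 11, 23, 0x1702120811060f140c050d071610010009130b0a1504030e, 0x17020d01071300090e111210060a081504160f030c14050b, [0, 0, 1, 1, 1], [0], [0, 1]),
  (11, 23, 23, 0x1715050312000614100f130d0b010c11160209070a0e0804, 0x1702100b06050a0e080907150012140403010f0d0c111613, [0, 0, 0, 0, 0, 1], [0], [1]),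
  (23, 23, 23, 0x170e1607010b020f0312101109050004130d060c0814150a, 0x1707000d08060211140912030416010c0f0b0e100513150a, [0, 0, 0, 0, 1], [0, 1, 1, 1, 1], [0])]

theorem cover : ∀ p ∈ [2, 3, 5, 7, 11, 23],
      ∀ q ∈ [2, 3, 5, 7, 11, 23], ∀ r ∈ [2, 3, 5, 7, 11, 23], p ≤ q → q ≤ r → ¬ (p = 2 ∧ q = 2) →
      ¬ ((p = 2 ∧ q = 3) ∨ (p = 2 ∧ q = 5 ∧ r = 5) ∨ (p = 2 ∧ q = 5 ∧ r = 7) ∨ (p = 3 ∧ q = 3 ∧ r ≤ 7)) →
      ∃ t ∈ tab, t.1 = p ∧ t.2.1 = q ∧ t.2.2.1 = r := by decide +kernel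

theorem fin {i j k l p q r : ℕ} (h1 : i + j + k ≤ 24 + 2 * l) (h2 : l ≤ 2)
    (a : 1 ≤ i ∧ (p = 2 → 16 ≤ i) ∧ (p = 3 → 12 ≤ i) ∧ (p = 5 → 8 ≤ i) ∧ (p = 7 → 6 ≤ i))
    (b : 1 ≤ j ∧ (q = 2 → 16 ≤ j) ∧ (q = 3 → 12 ≤ j) ∧ (q = 5 → 8 ≤ j) ∧ (q = 7 → 6 ≤ j))
    (c : 1 ≤ k ∧ (r = 2 → 16 ≤ k) ∧ (r = 3 → 12 ≤ k) ∧ (r = 5 → 8 ≤ k) ∧ (r = 7 → 6 ≤ k)) (hqr : q ≤ r) (hr : r.Prime)
    (hn : (p = 2 ∧ q = 3) ∨ (p = 2 ∧ q = 5 ∧ r = 5) ∨ (p = 2 ∧ q = 5 ∧ r = 7) ∨ (p = 3 ∧ q = 3 ∧ r ≤ 7)) : False := by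
  have h4 : r ≠ 4 := by rintro rfl; norm_num at hr
  have h6 : r ≠ 6 := by rintro rfl; norm_num at hr
  omega

noncomputable def ord (g p : ℕ) : Bool :=
  forceN g fun g => band (Nat.beq (powN gc.n g p) (idN gc.n)) (bnot (Nat.beq g (idN gc.n)))

theorem ord_eq {g p : ℕ} (hg : gc.Valid g) (hp : p.Prime) (h : ord g p = true) : orderOf (gc.dec g) = p :=
  hg.orderOf_eq hp (by rwa [ord, forceN_eq] at h)

theorem gen {p q r : ℕ} (hp : p.Prime) (hq : q.Prime) (hr : r.Prime) {a b : ℕ} {u v w : List ℕ}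
    (h : (p, q, r, a, b, u, v, w) ∈ tab) : ∃ x y z : M23, orderOf x = p ∧ orderOf y = q ∧ orderOf z = r ∧
      x * y * z = 1 ∧ closure {x, y} = ⊤ := by
  obtain ⟨h1, h2, h3, h4, h5, h6, h7, h8⟩ := (by decide +kernel : ∀ t ∈ tab,
    allL [t.2.2.2.1, t.2.2.2.2.1] inM24 = true ∧
    allL [t.2.2.2.1, t.2.2.2.2.1] (fun g => Nat.beq (app g 23) 23) = true ∧ ord t.2.2.2.1 t.1 = true ∧
    ord t.2.2.2.2.1 t.2.1 = true ∧ ord (mulN gc.n t.2.2.2.1 t.2.2.2.2.1) t.2.2.1 = true ∧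
    ord (wordN gc.n [t.2.2.2.1, t.2.2.2.2.1] t.2.2.2.2.2.1) 7 = true ∧
    ord (wordN gc.n [t.2.2.2.1, t.2.2.2.2.1] t.2.2.2.2.2.2.1) 11 = true ∧
    ord (wordN gc.n [t.2.2.2.1, t.2.2.2.2.1] t.2.2.2.2.2.2.2) 23 = true) _ h
  have hM := inH_M23 h1 h2
  have ha := hM a List.mem_cons_self
  have hb := hM b (List.mem_cons_of_mem _ List.mem_cons_self)
  have hg := Coding.inH_gen fun g hg => (hM g hg).1
  have o : ∀ w p, p.Prime → ord (wordN gc.n [a, b] w) p = true → p ∣ Nat.card (gc.gen [a, b]) := fun w p hp h =>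
    ord_eq (Coding.inH_wordN hg w).1 hp h ▸ order_dvd (Coding.inH_wordN hg w).2
  have e := full (Coding.gen_le hM) (o _ _ (by norm_num) h6) (o _ _ (by norm_num) h7) (o _ _ (by norm_num) h8)
  refine ⟨⟨_, ha.2⟩, ⟨_, hb.2⟩, (⟨_, ha.2⟩ * ⟨_, hb.2⟩)⁻¹, by rw [← orderOf_coe, ord_eq ha.1 hp h3],
    by rw [← orderOf_coe, ord_eq hb.1 hq h4], by
      rw [orderOf_inv, ← orderOf_coe, coe_mul, ← ha.1.dec_mul hb.1, ord_eq (ha.1.mul hb.1) hr h5],
    mul_inv_cancel _, map_injective M23.subtype_injective ?_⟩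
  rw [MonoidHom.map_closure, ← MonoidHom.range_eq_map, range_subtype]
  refine Eq.trans ?_ e
  congr 1
  ext σ; simp [eq_comm]

/-- Generation of the Mathieu group M₂₃ (the stabiliser of a point in the Mathieu group M₂₄ acting on 24 points) by triples of prime orders. Let p ≤ q ≤ r be primes dividing |M₂₃| = 10200960 = 2⁷·3²·5·7·11·23, not both p and q equal to 2. Then M₂₃ contains elements x, y, z of orders p, q, r with xyz = 1 and ⟨x, y⟩ = M₂₃ if and only if (p, q, r) is none of: (2, 3, r) for any r, (2, 5, 5), (2, 5, 7), (3, 3, 3), (3, 3, 5), (3, 3, 7). -/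
theorem result (p q r : ℕ) (hp : p.Prime) (hq : q.Prime)
    (hr : r.Prime) (hpq : p ≤ q) (hqr : q ≤ r) (hp2 : ¬ (p = 2 ∧ q = 2))
    (hdvd : p ∣ 10200960 ∧ q ∣ 10200960 ∧ r ∣ 10200960) :
    (∃ x y z : Cfsg.Spor.M23, orderOf x = p ∧ orderOf y = q ∧ orderOf z = r ∧ x * y * z = 1 ∧
        Subgroup.closure {x, y} = ⊤) ↔
      ¬ ((p = 2 ∧ q = 3) ∨ (p = 2 ∧ q = 5 ∧ r = 5) ∨ (p = 2 ∧ q = 5 ∧ r = 7) ∨ (p = 3 ∧ q = 3 ∧ r ≤ 7)) := by
  have hl : ∀ p : ℕ, p.Prime → p ∣ 10200960 → p ∈ [2, 3, 5, 7, 11, 23] := fun p hp h => by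
    have := (Nat.mem_primeFactorsList (by norm_num)).2 ⟨hp, h⟩
    simp at this ⊢; tauto
  constructor
  · rintro ⟨x, y, z, hx, hy, hz, e, h⟩ hn
    have h1 := ree (x : Equiv.Perm GolayPt) y
    have h2 := fx_inf h
    have a := fx_M23 x.2
    have b := fx_M23 y.2
    have c := fx_M23 (x * y).2
    rw [orderOf_coe, hx] at a
    rw [orderOf_coe, hy] at b
    rw [orderOf_coe, ← orderOf_inv, inv_eq_of_mul_eq_one_right e, hz, coe_mul] at c
    rw [card_golayPt] at h1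
    exact fin h1 h2 a b c hqr hr hn
  · intro hn
    obtain ⟨⟨p', q', r', a, b, u, v, w⟩, h, e1, e2, e3⟩ := cover p (hl p hp hdvd.1) q (hl q hq hdvd.2.1) r
      (hl r hr hdvd.2.2) hpq hqr hp2 hn
    dsimp only at e1 e2 e3
    subst e1 e2 e3
    exact gen hp hq hr h

end Cfsg.Agent.S5529
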