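import Cfsg.Statements.S5541
-- import your own Cfsg.Agent.* helpers here

set_option autoImplicit false
open Cfsg

namespace Cfsg.Agent.S5541


/-- Let ρ be a representation of a group H on a finite-dimensional real vector space U whose only ρ-invariant subspaces are the zero subspace and U, and suppose U carries a non-zero ρ-invariant symmetric bilinear form. Then the following are equivalent: (1) there is a non-zero ρ-equivariant commutative bilinear product on U of which every ρ-equivariant bilinear product is a scalar multiple; (2) there is a non-zero ρ-invariant trilinear form on U that is symmetric under all permutations of its arguments and of which every ρ-invariant trilinear form is a scalar multiple. -/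
theorem result {H : Type*} [Group H] {U : Type*} [AddCommGroup U] [Module ℝ U] [FiniteDimensional ℝ U] (ρ : Representation ℝ H U) (hirr : ∀ W : Submodule ℝ U, (∀ g : H, W.map (ρ g) ≤ W) → W = ⊥ ∨ W = ⊤) (B : LinearMap.BilinForm ℝ U) (hB0 : B ≠ 0) (hBs : ∀ u v, B u v = B v u) (hBi : ∀ (g : H) (u v : U), B (ρ g u) (ρ g v) = B u v) : (∃ m : U →ₗ[ℝ] U →ₗ[ℝ] U, m ≠ 0 ∧ (∀ u v, m u v = m v u) ∧ (∀ (g : H) (u v : U), m (ρ g u) (ρ g v) = ρ g (m u v)) ∧ ∀ m' : U →ₗ[ℝ] U →ₗ[ℝ] U, (∀ (g : H) (u v : U), m' (ρ g u) (ρ g v) = ρ g (m' u v)) → ∃ c : ℝ, m' = c • m) ↔ (∃ t : U →ₗ[ℝ] U →ₗ[ℝ] U →ₗ[ℝ] ℝ, t ≠ 0 ∧ (∀ u v w, t u v w = t v u w ∧ t u v w = t u w v) ∧ (∀ (g : H) (u v w : U), t (ρ g u) (ρ g v) (ρ g w) = t u v w) ∧ ∀ t' : U →ₗ[ℝ] U →ₗ[ℝ] U →ₗ[ℝ] ℝ, (∀ (g : H) (u v w : U), t' (ρ g u) (ρ g v) (ρ g w) = t' u v w) → ∃ c : ℝ, t' = c • t) := by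
  have hnd : B.Nondegenerate := by
    have hs : B.IsSymm := ⟨fun u v => hBs u v⟩
    refine hs.isRefl.nondegenerate_iff_separatingLeft.2 fun u hu => ?_
    rcases hirr (LinearMap.ker B) (by
      rintro g _ ⟨x, hx, rfl⟩
      rw [LinearMap.mem_ker]
      ext v
      have : v = ρ g (ρ g⁻¹ v) := by simp
      rw [this, hBi, LinearMap.mem_ker.1 hx]; rfl) with h | h
    · have : u ∈ LinearMap.ker B := by rw [LinearMap.mem_ker]; ext v; exact hu v
      rwa [h, Submodule.mem_bot] at this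
    · exact absurd (LinearMap.ker_eq_top.1 h) hB0
  let e := B.toDual hnd
  have he : ∀ u v, e u v = B u v := fun u v => rfl
  let T : (U →ₗ[ℝ] U →ₗ[ℝ] U) → (U →ₗ[ℝ] U →ₗ[ℝ] U →ₗ[ℝ] ℝ) := fun m => m.compr₂ B
  let M : (U →ₗ[ℝ] U →ₗ[ℝ] U →ₗ[ℝ] ℝ) → (U →ₗ[ℝ] U →ₗ[ℝ] U) := fun t => t.compr₂ e.symm.toLinearMap
  have hT : ∀ m u v w, T m u v w = B (m u v) w := fun _ _ _ _ => rfl
  have hM : ∀ t u v w, B (M t u v) w = t u v w := fun t u v w => by
    rw [← he]; show e (e.symm (t u v)) w = _; rw [e.apply_symm_apply]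
  have ext : ∀ x y, (∀ w, B x w = B y w) → x = y := fun x y h => e.injective (LinearMap.ext h)
  have Ti : ∀ m : U →ₗ[ℝ] U →ₗ[ℝ] U, (∀ (g : H) (u v : U), m (ρ g u) (ρ g v) = ρ g (m u v)) →
      ∀ (g : H) (u v w : U), T m (ρ g u) (ρ g v) (ρ g w) = T m u v w := fun m h g u v w => by
    rw [hT, hT, h, hBi]
  have Mi : ∀ t : U →ₗ[ℝ] U →ₗ[ℝ] U →ₗ[ℝ] ℝ, (∀ (g : H) (u v w : U), t (ρ g u) (ρ g v) (ρ g w) = t u v w) →
      ∀ (g : H) (u v : U), M t (ρ g u) (ρ g v) = ρ g (M t u v) := fun t h g u v => ext _ _ fun w => by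
    have : w = ρ g (ρ g⁻¹ w) := by simp
    rw [this, hBi, hM, hM, h]
  constructor
  · rintro ⟨m, h0, hc, hi, hu⟩
    have uniq : ∀ t' : U →ₗ[ℝ] U →ₗ[ℝ] U →ₗ[ℝ] ℝ,
        (∀ (g : H) (u v w : U), t' (ρ g u) (ρ g v) (ρ g w) = t' u v w) → ∃ c : ℝ, t' = c • T m := by
      intro t' h
      obtain ⟨c, hc⟩ := hu _ (Mi t' h)
      refine ⟨c, ?_⟩
      ext u v w
      rw [← hM, hc]; simp [hT]
    have t0 : T m ≠ 0 := fun h => h0 (by
      ext u v
      exact ext _ _ fun w => by rw [← hT, h]; simp)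
    refine ⟨T m, t0, fun u v w => ⟨by rw [hT, hT, hc], ?_⟩, Ti m hi, uniq⟩
    obtain ⟨c, hc'⟩ := uniq ((T m).compr₂ LinearMap.id |>.flip.flip |> fun t =>
      (LinearMap.lflip (R := ℝ)).toLinearMap ∘ₗ t) (fun g u v w => Ti m hi g u w v)
    have k : ∀ u v w, T m u w v = c * T m u v w := fun u v w =>
      LinearMap.congr_fun (LinearMap.congr_fun (LinearMap.congr_fun hc' u) v) w
    have s : ∀ u v w, T m u v w = T m v u w := fun u v w => by rw [hT, hT, hc]
    have c2 : ∀ u v w, T m u v w = c * c * T m u v w := fun u v w => by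
      rw [mul_assoc, ← k, ← k]
    have c3 : ∀ u v w, T m u v w = c * c * c * T m u v w := fun u v w => by
      calc T m u v w = T m v u w := s _ _ _
        _ = c * T m v w u := k _ _ _
        _ = c * T m w v u := by rw [s]
        _ = c * (c * T m w u v) := by rw [k w u v]
        _ = c * (c * T m u w v) := by rw [s w]
        _ = _ := by rw [k u v w]; ring
    rw [k u v w, c3 u v w, c2 u v w]
    have := c2 u v w
    have := c3 u v w
    grind
  · rintro ⟨t, h0, hs, hi, hu⟩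
    refine ⟨M t, fun h => h0 ?_, fun u v => ext _ _ fun w => by rw [hM, hM, (hs u v w).1], Mi t hi,
      fun m' h => ?_⟩
    · ext u v w
      rw [← hM, h]; simp
    · obtain ⟨c, hc⟩ := hu _ (Ti m' h)
      refine ⟨c, ?_⟩
      ext u v
      exact ext _ _ fun w => by rw [← hT, hc]; simp [hM]

end Cfsg.Agent.S5541
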