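import Cfsg.Statements.S5543
import Cfsg.Agent.Lib.Known2.Maj

set_option autoImplicit false
open Cfsg

namespace Cfsg.Agent.S5543
open Cfsg.Lib.Known2.Maj

/-- Let V be a finite-dimensional real vector space with a commutative bilinear product and a positive-definite symmetric bilinear form that associates with the product and satisfies the Norton inequality (the Majorana setting of the definitions). Let X be a group of linear automorphisms of V in which every element squares to the identity, and suppose every non-identity element x of X is a Majorana involution with an axial vector a(x) of squared length 1, such that for any two distinct non-identity x, y the product a(x) ∘ a(y) equals (1/8)(a(x) + a(y) − a(xy)) (the dihedral subalgebra of type 2A whose third axis belongs to the involution xy). Then X has order at most 4. -/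
theorem result {V : Type*} [AddCommGroup V] [Module ℝ V] [FiniteDimensional ℝ V] (mul : V →ₗ[ℝ] V →ₗ[ℝ] V) (B : LinearMap.BilinForm ℝ V) (hV : Cfsg.Axial.IsMajoranaAmbient mul B) (X : Subgroup (V ≃ₗ[ℝ] V)) (hX : ∀ x ∈ X, x * x = 1) (ax : (V ≃ₗ[ℝ] V) → V) (hax : ∀ x ∈ X, x ≠ 1 → Cfsg.Axial.IsMajoranaPair mul B x (ax x)) (h1 : ∀ x ∈ X, x ≠ 1 → B (ax x) (ax x) = 1) (h2A : ∀ x ∈ X, ∀ y ∈ X, x ≠ 1 → y ≠ 1 → x ≠ y → mul (ax x) (ax y) = (1 / 8 : ℝ) • (ax x + ax y - ax (x * y))) : Nat.card ↥X ≤ 4 := by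
  by_contra hn
  push Not at hn
  have hfin : Finite X ∨ Infinite X := finite_or_infinite X
  have comm : ∀ x ∈ X, ∀ y ∈ X, x * y = y * x := by
    intro x hx y hy
    rw [← inv_eq_of_mul_eq_one_right (hX _ (X.mul_mem hx hy)), mul_inv_rev,
      inv_eq_of_mul_eq_one_right (hX _ hx), inv_eq_of_mul_eq_one_right (hX _ hy)]
  have ex : ∀ s : Finset (V ≃ₗ[ℝ] V), s.card ≤ 4 → ∃ x ∈ X, x ∉ s := by
    intro s hs
    by_contra h
    push Not at h
    have := Set.ncard_le_ncard (show (X : Set (V ≃ₗ[ℝ] V)) ⊆ s from h) s.finite_toSet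
    rw [Set.ncard_coe_finset] at this
    have h3 : (X : Set (V ≃ₗ[ℝ] V)).ncard = Nat.card X := rfl
    omega
  classical
  obtain ⟨x, hx, n1⟩ := ex {1} (by simp)
  obtain ⟨y, hy, n2⟩ := ex {1, x} (Finset.card_le_two.trans (by norm_num))
  obtain ⟨z, hz, n3⟩ := ex {1, x, y, x * y} Finset.card_le_four
  simp only [Finset.mem_insert, Finset.mem_singleton, not_or] at n1 n2 n3
  have xx := hX x hx
  have c1 : ∀ u, x * (x * u) = u := fun u => by rw [← mul_assoc, xx, one_mul]
  have ne1 : ∀ u v, v ∈ X → u ≠ v → u * v ≠ 1 := fun u v hv h e =>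
    h (by rw [eq_inv_of_mul_eq_one_left e, inv_eq_of_mul_eq_one_right (hX v hv)])
  have mxy := X.mul_mem hx hy
  have mxz := X.mul_mem hx hz
  have myz := X.mul_mem hy hz
  have xy1 := ne1 x y hy (Ne.symm n2.2)
  have xz1 := ne1 x z hz (Ne.symm n3.2.1)
  have yz1 := ne1 y z hz (Ne.symm n3.2.2.1)
  have nyxz : y ≠ x * z := fun e => n3.2.2.2 (by rw [e, c1])
  have nxyz : x ≠ y * z := fun e => nyxz (by rw [e, mul_assoc, hX z hz, mul_one])
  have xyz1 := ne1 x _ myz nxyz
  have A := ax_of hV (hax x hx n1) (h1 x hx n1)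
  have four : ∀ u ∈ X, u ≠ 1 → x ≠ u →
      mul (ax x) (ax u - ax (x * u)) = (1 / 4 : ℝ) • (ax u - ax (x * u)) := by
    intro u hu u1 h
    rw [map_sub, h2A x hx u hu n1 u1 h, h2A x hx _ (X.mul_mem hx hu) n1 (ne1 x u hu h)
      (fun e => u1 (by simpa using e.symm)), c1]
    module
  have k := A.f44 _ _ (four y hy n2.1 (Ne.symm n2.2)) (four z hz n3.1 (Ne.symm n3.2.1))
  have e : mul (ax y - ax (x * y)) (ax z - ax (x * z)) = (-1 / 4 : ℝ) • (ax (y * z) - ax (x * (y * z))) := by
    simp only [map_sub, LinearMap.sub_apply]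
    rw [h2A y hy z hz n2.1 n3.1 (Ne.symm n3.2.2.1), h2A _ mxy z hz xy1 n3.1 (Ne.symm n3.2.2.2),
      h2A y hy _ mxz n2.1 xz1 nyxz, h2A _ mxy _ mxz xy1 xz1 (fun e => n3.2.2.1 (by simpa using e.symm)),
      show y * (x * z) = x * (y * z) by rw [← mul_assoc, comm y hy x hx, mul_assoc],
      show x * y * (x * z) = y * z by rw [comm x hx y hy, mul_assoc, c1], mul_assoc]
    module
  have f := four _ myz yz1 nxyz
  rw [e] at k
  generalize B (ax x) _ = c at k
  have k2 := congrArg (mul (ax x)) k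
  simp only [map_smul, f, A.idem] at k k2
  have : ax (y * z) = ax (x * (y * z)) := by
    linear_combination (norm := module) (64 / 3 : ℝ) • (k2 - k)
  have := (ax_of hV (hax _ myz yz1) (h1 _ myz yz1)).uniq
    (this ▸ ax_of hV (hax _ (X.mul_mem hx myz) xyz1) (h1 _ (X.mul_mem hx myz) xyz1))
  exact n1 (by simpa using this.symm)

end Cfsg.Agent.S5543
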