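import Cfsg.Statements.S5544
import Cfsg.Agent.Lib.Known2.Sak

set_option autoImplicit false
open Cfsg

namespace Cfsg.Agent.S5544

open Cfsg.Lib.Known2.Maj Cfsg.Lib.Known2.Sak

/-- Let V be a finite-dimensional real vector space with a commutative bilinear product and a positive-definite symmetric bilinear form that associates with the product and satisfies the Norton inequality (the Majorana setting of the definitions). Let μ₀ and μ₁ be Majorana involutions with axial vectors a₀ and a₁ of squared length 1, each involution having no other axial vector. Then the product μ₀μ₁ has order at most 6: some power (μ₀μ₁)^n with 1 ≤ n ≤ 6 is the identity (so the two involutions generate a dihedral group of order at most 12). This is the 6-transposition property of Majorana involutions. -/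
theorem result {V : Type*} [AddCommGroup V] [Module ℝ V] [FiniteDimensional ℝ V] (mul : V →ₗ[ℝ] V →ₗ[ℝ] V) (B : LinearMap.BilinForm ℝ V) (hV : Cfsg.Axial.IsMajoranaAmbient mul B) (μ₀ μ₁ : V ≃ₗ[ℝ] V) (a₀ a₁ : V) (h₀ : Cfsg.Axial.IsMajoranaPair mul B μ₀ a₀) (h₁ : Cfsg.Axial.IsMajoranaPair mul B μ₁ a₁) (hu₀ : ∀ a : V, Cfsg.Axial.IsMajoranaPair mul B μ₀ a → a = a₀) (hu₁ : ∀ a : V, Cfsg.Axial.IsMajoranaPair mul B μ₁ a → a = a₁) (hn₀ : B a₀ a₀ = 1) (hn₁ : B a₁ a₁ = 1) : ∃ n : ℕ, 1 ≤ n ∧ n ≤ 6 ∧ (μ₀ * μ₁) ^ n = 1 := by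
  have A0 := ax_of hV h₀ hn₀
  have A1 := ax_of hV h₁ hn₁
  have fix : ∀ {μ : V ≃ₗ[ℝ] V} {a : V}, Ax mul B μ a → μ a = a := by
    intro μ a h
    have := (h.comp a).1
    have e : mul a (μ a) = (1 / 32 : ℝ) • μ a + (31 / 32 : ℝ) • a := by
      rw [map_sub, h.idem] at this
      linear_combination (norm := module) (-1 : ℝ) • this
    obtain ⟨x', y', z', h1', h2', h3', h4', h5'⟩ := h.dec a
    have e1 := congrArg (mul a) h4'
    simp only [map_add, map_smul, h1', h2', h3', h.idem, h.len] at e1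
    have e2 := congrArg (mul a) e1
    simp only [map_add, map_smul, map_zero, h2', h3', h.idem] at e2
    rw [h.len] at h4' h5'
    linear_combination (norm := module) h5' - h4' - (2048 / 7 : ℝ) • (e2 - (1 / 4 : ℝ) • e1)
  have q0 : μ₀ * μ₀ = 1 := LinearEquiv.ext fun v => A0.sq v
  have q1 : μ₁ * μ₁ = 1 := LinearEquiv.ext fun v => A1.sq v
  let H : Subgroup (V ≃ₗ[ℝ] V) :=
    { carrier := {φ | (∀ u v, φ (mul u v) = mul (φ u) (φ v)) ∧ ∀ u v, B (φ u) (φ v) = B u v}
      one_mem' := ⟨fun _ _ => rfl, fun _ _ => rfl⟩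
      mul_mem' := fun {f g} hf hg => ⟨fun u v => by
        show f (g _) = mul (f (g u)) (f (g v))
        rw [hg.1, hf.1], fun u v => by
        show B (f (g u)) (f (g v)) = _
        rw [hf.2, hg.2]⟩
      inv_mem' := fun {f} hf => ⟨fun u v => f.injective (by
        show f (f.symm _) = f (mul (f.symm u) (f.symm v))
        simp [hf.1]), fun u v => by
        show B (f.symm u) (f.symm v) = _
        rw [← hf.2]; simp⟩ }
  set ρ := μ₁ * μ₀ with hρ
  have hρH : ρ ∈ H := H.mul_mem (show μ₁ ∈ H from ⟨A1.hmul, A1.hB⟩) (show μ₀ ∈ H from ⟨A0.hmul, A0.hB⟩)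
  have hinv : ρ⁻¹ = μ₀ * μ₁ := by
    rw [inv_eq_iff_mul_eq_one, hρ, mul_assoc, ← mul_assoc μ₀, q0, one_mul, q1]
  have sc : SemiconjBy μ₀ ρ ρ⁻¹ := by
    rw [hinv, hρ, SemiconjBy, mul_assoc]
  have sw : ∀ k : ℤ, μ₀ * ρ ^ k = ρ ^ (-k) * μ₀ := fun k => by
    rw [(sc.zpow_right k).eq, inv_zpow']
  have m1 : μ₁ = ρ * μ₀ := by rw [hρ, mul_assoc, q0, mul_one]
  have conj : ∀ (k : ℤ) {μ : V ≃ₗ[ℝ] V} {a : V}, Cfsg.Axial.IsMajoranaPair mul B μ a → B a a = 1 →
      Ax mul B (ρ ^ k * μ * (ρ ^ k)⁻¹) ((ρ ^ k) a) := fun k μ a h hn =>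
    ax_of hV (pair_conj h (H.zpow_mem hρH k).1 (H.zpow_mem hρH k).2) (by rw [(H.zpow_mem hρH k).2, hn])
  have ap : ∀ (f g : V ≃ₗ[ℝ] V) v, f (g v) = (f * g) v := fun _ _ _ => rfl
  have S : Sq mul B (fun i => ρ ^ i * μ₀) (fun i => (ρ ^ (i / 2)) (if i % 2 = 0 then a₀ else a₁)) := by
    refine ⟨hV.1, hV.2.1, hV.2.2.2.1, fun i => ?_, fun i j => ?_⟩
    · rcases Int.emod_two_eq_zero_or_one i with hi | hi
      · have := conj (i / 2) h₀ hn₀
        rw [← zpow_neg, mul_assoc, sw, neg_neg, ← mul_assoc, ← zpow_add,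
          show i / 2 + i / 2 = i by omega] at this
        simpa only [hi, if_true] using this
      · have := conj (i / 2) h₁ hn₁
        rw [← zpow_neg, m1, mul_assoc, mul_assoc, sw, neg_neg, ← mul_assoc, ← mul_assoc, ← zpow_add_one,
          ← zpow_add, show i / 2 + 1 + i / 2 = i by omega] at this
        simpa only [hi, one_ne_zero, if_false] using this
    · rw [ap, mul_assoc, sw, ← mul_assoc, ← zpow_add, ← ap]
      rcases Int.emod_two_eq_zero_or_one j with hj | hj
      · have : (2 * i - j) % 2 = 0 := by omega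
        simp only [hj, this, if_true, fix A0]
        rw [show i + -(j / 2) = (2 * i - j) / 2 by omega]
      · have : (2 * i - j) % 2 = 1 := by omega
        simp only [hj, this, one_ne_zero, if_false]
        rw [show i + -(j / 2) = (2 * i - j) / 2 + 1 by omega, zpow_add_one, ap, mul_assoc, ← m1, ← ap,
          fix A1]
  obtain ⟨n, h1, h6, e⟩ := S.period hV.2.2.1
  refine ⟨n, h1, h6, ?_⟩
  simp only [zpow_zero, zpow_natCast, mul_left_inj] at e
  rw [← hinv, inv_pow, e, inv_one]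

end Cfsg.Agent.S5544
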