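import Cfsg.Statements.S5545
import Cfsg.Agent.Lib.Known2.Maj

set_option autoImplicit false
open Cfsg

namespace Cfsg.Agent.S5545
open Cfsg.Lib.Known2.Maj

theorem key {V : Type*} [AddCommGroup V] [Module ℝ V] {mul : V →ₗ[ℝ] V →ₗ[ℝ] V}
    {B : LinearMap.BilinForm ℝ V} (hV : Cfsg.Axial.IsMajoranaAmbient mul B) {μ : V ≃ₗ[ℝ] V} {a b : V}
    (A : Ax mul B μ a) (hb : mul b b = b) (hb1 : B b b = 1) (h : μ b = b) :
    mul a (mul a b) = (3 / 4 * B a b) • a + (1 / 4 : ℝ) • mul a b ∧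
    B (mul a b) (mul a b) = 3 / 4 * B a b ^ 2 + B a b / 4 ∧
    (16 : ℝ) • mul (mul a b) (mul a b) + (4 : ℝ) • mul b (mul a b) = (8 : ℝ) • mul b (mul a b) +
      (4 * B a b - 2) • mul a b + (8 * B a b ^ 2 + 2 * B a b) • a := by
  obtain ⟨hc, hsym, -, hass, -⟩ := hV
  obtain ⟨-, h0, h4⟩ := A.comp b
  rw [h, sub_self, smul_zero] at h0 h4
  rw [add_zero] at h0
  rw [sub_zero] at h4
  have e1 : mul a (mul a b) = (3 / 4 * B a b) • a + (1 / 4 : ℝ) • mul a b := by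
    simp only [map_sub, map_smul, A.idem] at h4
    linear_combination (norm := module) (1 / 4 : ℝ) • h4
  have e2 : B a (mul a b) = B a b := by rw [hass, A.idem]
  have e3 : B b (mul a b) = B a b := by rw [hc a b, hass, hb, hsym]
  have e4 : B (mul a b) (mul a b) = 3 / 4 * B a b ^ 2 + B a b / 4 := by
    rw [hc a b, ← hass, hc b a, e1]
    simp only [map_add, map_smul, smul_eq_mul, e3, hsym b a]; ring
  refine ⟨e1, e4, ?_⟩
  have f0 := A.f00 _ _ h0 h0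
  have f1 := A.f04 _ _ h0 h4
  have f2 := A.f44 _ _ h4 h4
  have f3 : B a (mul ((4 : ℝ) • mul a b - (4 * B a b) • a) ((4 : ℝ) • mul a b - (4 * B a b) • a))
      = B a b - B a b ^ 2 := by
    rw [hass, h4]
    simp only [map_sub, map_smul, smul_eq_mul, LinearMap.sub_apply, LinearMap.smul_apply, e4, e2,
      hsym (mul a b) a, A.len]
    ring
  rw [f3] at f2
  simp only [map_sub, map_add, map_smul, LinearMap.sub_apply, LinearMap.add_apply,
    LinearMap.smul_apply, A.idem, hb, hc b a, hc (mul a b) a, hc (mul a b) b, e1] at f0 f1 f2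
  linear_combination (norm := module) (2 : ℝ) • (f0 + (2 : ℝ) • f1 + f2)

/-- Let V be a finite-dimensional real vector space with a commutative bilinear product and a positive-definite symmetric bilinear form that associates with the product and satisfies the Norton inequality (the Majorana setting of the definitions). Let μ₀, μ₁ be commuting Majorana involutions with distinct axial vectors a₀ ≠ a₁ of squared length 1, each involution having no other axial vector. Then either a₀ and a₁ are orthogonal with a₀ ∘ a₁ = 0 (type 2B), or their inner product is 1/8 and, with a₂ = a₀ + a₁ − 8 a₀ ∘ a₁, the vector a₂ is an idempotent and a₀ ∘ a₂ = (1/8)(a₀ + a₂ − a₁), a₁ ∘ a₂ = (1/8)(a₁ + a₂ − a₀) (type 2A: the three idempotents span a subalgebra with aᵢ ∘ aⱼ = (1/8)(aᵢ + aⱼ − aₖ)). -/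
theorem result {V : Type*} [AddCommGroup V] [Module ℝ V] [FiniteDimensional ℝ V] (mul : V →ₗ[ℝ] V →ₗ[ℝ] V) (B : LinearMap.BilinForm ℝ V) (hV : Cfsg.Axial.IsMajoranaAmbient mul B) (μ₀ μ₁ : V ≃ₗ[ℝ] V) (a₀ a₁ : V) (h₀ : Cfsg.Axial.IsMajoranaPair mul B μ₀ a₀) (h₁ : Cfsg.Axial.IsMajoranaPair mul B μ₁ a₁) (hu₀ : ∀ a : V, Cfsg.Axial.IsMajoranaPair mul B μ₀ a → a = a₀) (hu₁ : ∀ a : V, Cfsg.Axial.IsMajoranaPair mul B μ₁ a → a = a₁) (hn₀ : B a₀ a₀ = 1) (hn₁ : B a₁ a₁ = 1) (hc : μ₀ * μ₁ = μ₁ * μ₀) (hne : a₀ ≠ a₁) : (B a₀ a₁ = 0 ∧ mul a₀ a₁ = 0) ∨ (B a₀ a₁ = 1 / 8 ∧ mul (a₀ + a₁ - (8 : ℝ) • mul a₀ a₁) (a₀ + a₁ - (8 : ℝ) • mul a₀ a₁) = a₀ + a₁ - (8 : ℝ) • mul a₀ a₁ ∧ mul a₀ (a₀ + a₁ - (8 : ℝ) • mul a₀ a₁) = (1 / 8 : ℝ) • (a₀ + (a₀ + a₁ - (8 : ℝ) • mul a₀ a₁) - a₁) ∧ mul a₁ (a₀ + a₁ - (8 : ℝ) • mul a₀ a₁) = (1 / 8 : ℝ) • (a₁ + (a₀ + a₁ - (8 : ℝ) • mul a₀ a₁) - a₀)) := by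
  have A0 := ax_of hV h₀ hn₀
  have A1 := ax_of hV h₁ hn₁
  have e0 : μ₀ a₁ = a₁ := hu₁ _ (by
    have := pair_conj h₁ A0.hmul A0.hB
    rwa [hc, mul_inv_cancel_right] at this)
  have e1 : μ₁ a₀ = a₀ := hu₀ _ (by
    have := pair_conj h₀ A1.hmul A1.hB
    rwa [← hc, mul_inv_cancel_right] at this)
  obtain ⟨k1, k2, k3⟩ := key hV A0 A1.idem A1.len e0
  obtain ⟨l1, -, l3⟩ := key hV A1 A0.idem A0.len e1
  obtain ⟨hc, hsym, hpos, hass, -⟩ := hV
  rw [hc a₁ a₀, hsym a₁ a₀] at l1 l3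
  rw [l1] at k3
  rw [k1] at l3
  have : (8 * B a₀ a₁ ^ 2 - B a₀ a₁) • (a₀ - a₁) = 0 := by
    linear_combination (norm := module) l3 - k3
  rw [smul_eq_zero, sub_eq_zero (a := a₀)] at this
  have := this.resolve_right hne
  have : B a₀ a₁ = 0 ∨ B a₀ a₁ = 1 / 8 := by
    have : B a₀ a₁ * (8 * B a₀ a₁ - 1) = 0 := by linarith
    rcases mul_eq_zero.1 this with h | h
    · exact Or.inl h
    · right; linarith
  rcases this with h | h
  · refine Or.inl ⟨h, ?_⟩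
    by_contra hn
    have := hpos _ hn
    rw [k2, h] at this
    norm_num at this
  · rw [h] at k1 k3 l1
    refine Or.inr ⟨h, ?_, ?_, ?_⟩ <;>
      simp only [map_sub, map_add, map_smul, LinearMap.sub_apply, LinearMap.add_apply,
        LinearMap.smul_apply, A0.idem, A1.idem, hc a₁ a₀, hc (mul a₀ a₁) a₀, hc (mul a₀ a₁) a₁, k1, l1]
    · linear_combination (norm := module) (4 : ℝ) • k3
    · module
    · module

end Cfsg.Agent.S5545
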