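import Cfsg.Statements.S5546
import Cfsg.Agent.Lib.Leech.Pairs

set_option autoImplicit false
open Cfsg

namespace Cfsg.Agent.S5546

open Cfsg.Lib.Leech Cfsg.Spor

instance fact13 : Fact (Nat.Prime 13) := ⟨by norm_num⟩

abbrev V := GolayPt → ZMod 13

def cst (v : leechLattice) : V := fun i => (((v : GolayPt → ℤ) i : ℤ) : ZMod 13)

noncomputable def lin (g : Co0) : V →ₗ[ZMod 13] V :=
  Matrix.toLin' (Matrix.of fun j i => 5 * cst (g • e8 i) j)

theorem lin_cst (g : Co0) (v : leechLattice) : lin g (cst v) = cst (g • v) := by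
  funext j
  have h := congrArg (fun z : ℤ => (z : ZMod 13)) (eight_mul_smul g v j)
  simp only [Int.cast_mul, Int.cast_sum] at h
  have h5 : (5 : ZMod 13) * ((8 : ℤ) : ZMod 13) = 1 := by decide
  simp only [lin, Matrix.toLin'_apply, Matrix.mulVec, dotProduct, Matrix.of_apply, cst]
  calc ∑ i, 5 * (((g • e8 i : leechLattice) : GolayPt → ℤ) j : ZMod 13) * ((v : GolayPt → ℤ) i : ZMod 13)
      = 5 * ∑ i, ((v : GolayPt → ℤ) i : ZMod 13) * (((g • e8 i : leechLattice) : GolayPt → ℤ) j : ZMod 13) := by
        rw [Finset.mul_sum]; refine Finset.sum_congr rfl fun i _ => by ring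
    _ = _ := by rw [← h, ← mul_assoc, h5, one_mul]

theorem ext8 {f g : V →ₗ[ZMod 13] V} (h : ∀ i, f (cst (e8 i)) = g (cst (e8 i))) : f = g := by
  refine (Pi.basisFun (ZMod 13) GolayPt).ext fun i => ?_
  have e : (Pi.basisFun (ZMod 13) GolayPt) i = (5 : ZMod 13) • cst (e8 i) := by
    funext j
    simp only [Pi.basisFun_apply, Pi.smul_apply, cst, e8_apply, smul_eq_mul, Pi.single_apply]
    split_ifs
    · decide
    · simp
  rw [e, map_smul, map_smul, h]

noncomputable def rho : Co0 →* (V →ₗ[ZMod 13] V) where
  toFun := lin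
  map_one' := ext8 fun i => by rw [lin_cst, one_smul]; rfl
  map_mul' g h := ext8 fun i => by
    rw [lin_cst, Module.End.mul_apply, lin_cst, lin_cst, mul_smul]

theorem rho_apply (g : Co0) : rho g = lin g := rfl

noncomputable def U : Submodule (ZMod 13) V := Submodule.span (ZMod 13) {cst leechU}

theorem cstU_ne : cst leechU ≠ 0 := by
  intro h
  have := congrFun h none
  revert this
  simp only [cst, leechU, vecU]
  decide

theorem finrank_Q : Module.finrank (ZMod 13) (V ⧸ U) = 23 := by
  have h1 := Submodule.finrank_quotient_add_finrank U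
  have h2 : Module.finrank (ZMod 13) U = 1 := finrank_span_singleton cstU_ne
  have h3 : Module.finrank (ZMod 13) V = 24 := by
    rw [Module.finrank_fintype_fun_eq_card, card_golayPt]
  omega

def inc : Co2 →* Co0 := Subgroup.inclusion inf_le_left

theorem inc_fix (g : Co2) : inc g • leechU = leechU := g.2.2

theorem le_comap (g : Co2) : U ≤ U.comap (rho (inc g)) := by
  rw [U, Submodule.span_le, Set.singleton_subset_iff]
  rw [SetLike.mem_coe, Submodule.mem_comap, rho_apply, lin_cst, inc_fix]
  exact Submodule.subset_span rfl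

noncomputable def rq : Co2 →* ((V ⧸ U) →ₗ[ZMod 13] (V ⧸ U)) where
  toFun g := U.mapQ U (rho (inc g)) (le_comap g)
  map_one' := by
    refine Submodule.linearMap_qext _ (LinearMap.ext fun x => ?_)
    simp
  map_mul' g h := by
    refine Submodule.linearMap_qext _ (LinearMap.ext fun x => ?_)
    simp

theorem rq_inj (g : Co2) (h : rq g = 1) : g = 1 := by
  have key : ∀ i, inc g • e8 i = (1 : Co0) • e8 i := by
    intro i
    rw [one_smul]
    have h1 : cst (inc g • e8 i) - cst (e8 i) ∈ U := by
      rw [← Submodule.Quotient.eq, ← lin_cst]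
      have := LinearMap.congr_fun h (Submodule.Quotient.mk (cst (e8 i)))
      exact this
    obtain ⟨c, hc⟩ := Submodule.mem_span_singleton.1 h1
    have hd := dot_smul (inc g) (e8 i) leechU
    rw [inc_fix, dot_leechU, dot_leechU] at hd
    have hd' := congrArg (fun z : ℤ => (z : ZMod 13)) hd
    simp only [Int.cast_mul, Int.cast_add] at hd'
    have a1 := congrFun hc none
    have a2 := congrFun hc (some 0)
    simp only [cst, leechU, vecU, Pi.smul_apply, Pi.sub_apply, smul_eq_mul, true_or, or_true,
      if_true] at a1 a2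
    have hc0 : c = 0 := by
      have : c * 32 = 0 := by
        push_cast at a1 a2 hd' ⊢
        linear_combination 4 * a1 + 4 * a2 + hd'
      rcases mul_eq_zero.1 this with h0 | h0
      · exact h0
      · exact absurd h0 (by decide)
    rw [hc0, zero_smul] at hc
    set w : leechLattice := inc g • e8 i - e8 i with hw
    have hdv : ∀ j, (13 : ℤ) ∣ (w : GolayPt → ℤ) j := by
      intro j
      have := congrFun hc j
      simp only [cst, Pi.zero_apply, Pi.sub_apply] at this
      have e : (((w : GolayPt → ℤ) j : ℤ) : ZMod 13) = 0 := by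
        rw [hw]; push_cast; simp only [Pi.sub_apply]; push_cast; exact this.symm
      exact (ZMod.intCast_zmod_eq_zero_iff_dvd _ 13).1 e
    choose y hy using hdv
    have ey : (w : GolayPt → ℤ) = (13 : ℤ) • y := funext fun j => by rw [hy]; simp
    have n1 : sqNorm (w : GolayPt → ℤ) = 13 ^ 2 * sqNorm y := by rw [ey, sqNorm_zsmul]
    have n2 := sixteen_dvd_sqNorm w.2
    have n3 : sqNorm (w : GolayPt → ℤ) ≤ 256 := by
      have s1 := sqNorm_sub ((inc g • e8 i : leechLattice) : GolayPt → ℤ) (e8 i : GolayPt → ℤ)
      have s2 := sqNorm_add ((inc g • e8 i : leechLattice) : GolayPt → ℤ) (e8 i : GolayPt → ℤ)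
      have s3 := sqNorm_nonneg (((inc g • e8 i : leechLattice) : GolayPt → ℤ) + (e8 i : GolayPt → ℤ))
      rw [sqNorm_smul, sqNorm_e8] at s1 s2
      have : (w : GolayPt → ℤ) = ((inc g • e8 i : leechLattice) : GolayPt → ℤ) - (e8 i : GolayPt → ℤ) := by
        rw [hw]; rfl
      rw [this]; omega
    have n4 := sqNorm_nonneg y
    have n5 : sqNorm (w : GolayPt → ℤ) = 0 := by omega
    have : w = 0 := Subtype.ext (sqNorm_eq_zero n5)
    exact sub_eq_zero.1 this
  have := co0_ext_e8 key
  exact Subgroup.inclusion_injective inf_le_left (this.trans (map_one _).symm)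

/-- The second Conway group (the stabilizer in the Leech lattice automorphism group of the short vector fixed in the definitions) is isomorphic to a subgroup of the general linear group of degree 23 over the field with 13 elements: there is an injective homomorphism into it. -/
theorem result : ∃ f : ↥Cfsg.Spor.Co2 →* GL (Fin 23) (ZMod 13), Function.Injective f := by
  let b := Module.finBasisOfFinrankEq (ZMod 13) (V ⧸ U) finrank_Q
  let e := LinearMap.toMatrixAlgEquiv b
  refine ⟨MonoidHom.toHomUnits ((e.toRingEquiv.toMulEquiv.toMonoidHom).comp rq), ?_⟩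
  rw [injective_iff_map_eq_one]
  intro g hg
  apply rq_inj
  have := congrArg Units.val hg
  apply e.injective
  rw [map_one]
  exact this

end Cfsg.Agent.S5546
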