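import Cfsg.Statements.S5548
import Cfsg.Agent.Lib.Golay.Coset

set_option autoImplicit false
open Cfsg

namespace Cfsg.Agent.S5548

open Cfsg.Lib.Golay
open scoped Pointwise symmDiff
set_option maxRecDepth 100000
set_option linter.unusedSimpArgs false
set_option maxHeartbeats 400000

/-- For the automorphism group of the length-24 binary Golay code of the definitions (the Mathieu group of degree 24) acting on binary words of length 24 by permuting coordinates, the only invariant subspaces of the space of all words are: zero, the span of the all-ones word, the code itself, the even-weight words, and the whole space. (So the permutation module has a unique composition series.) -/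
theorem result (W : Submodule (ZMod 2) (Cfsg.GolayPt → ZMod 2)) (hW : ∀ σ ∈ Cfsg.M24, ∀ w ∈ W, (fun p => w (σ.symm p)) ∈ W) : W = ⊥ ∨ W = Submodule.span (ZMod 2) {fun _ => (1 : ZMod 2)} ∨ W = Cfsg.golayCode ∨ (W : Set (Cfsg.GolayPt → ZMod 2)) = {w | ∑ p, w p = 0} ∨ W = ⊤ := by

  by_cases hle : W ≤ golayCode
  · obtain h | h := le_span_one_or hW hle
    · by_cases h1 : (fun _ => 1) ∈ W
      · refine Or.inr (Or.inl (le_antisymm (fun w hw => ?_) (by simpa)))
        rcases h w hw with rfl | rfl
        exacts [zero_mem _, Submodule.mem_span_singleton_self _]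
      · exact Or.inl (eq_bot_iff.mpr fun w hw => (h w hw).resolve_right fun e => h1 (e ▸ hw))
    · exact Or.inr (Or.inr (Or.inl h))
  obtain ⟨w, hw, h0⟩ := SetLike.not_le_iff_exists.mp hle
  rw [← support₂_mem_cw_iff] at h0
  rw [← SetLike.mem_coe, ← support₂_mem_supports_iff] at hw
  generalize support₂ w = s at hw h0
  obtain ⟨u, h1, h2⟩ := exists_leader_cw s
  obtain ⟨a, ha⟩ : u.Nonempty := Finset.nonempty_iff_ne_empty.mpr (by
    rintro rfl; exact h0 (by rwa [symmDiff_comm, symmDiff_empty'] at h2))
  obtain ⟨b, hb⟩ : uᶜ.Nonempty := by rw [← Finset.card_pos, Finset.card_compl, card_golayPt]; omega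
  rw [Finset.mem_compl] at hb
  obtain ⟨g, hg, e⟩ := exists_M24_finset (s := u) (t := Equiv.swap a b • u)
    (Finset.card_smul_finset _ _).symm (by omega)
  have hab : a ≠ b := fun e => hb (e ▸ ha)
  rw [Equiv.swap_comm, swap_smul_eq hb (Or.inr ha)] at e
  have h3 : ({b} ∆ {a}) ∆ ((g • s) ∆ s) ∈ cw := by
    have := symmDiff_mem_cw ((smul_mem_cw_iff hg).mpr h2) h2
    rw [smul_symmDiff, e] at this
    rwa [symmDiff_symmDiff_symmDiff_comm, symmDiff_symmDiff_self'] at this
  have h4 := symmDiff_mem_supports (smul_mem_supports hW hg hw) hw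
  generalize (g • s) ∆ s = v at h3 h4
  obtain ⟨σ, hσ, rfl, rfl⟩ := std_two_pts hab
  obtain ⟨v, rfl⟩ := exists_eq_smul σ v
  rw [← Finset.smul_finset_singleton (a := σ) (b := some 0), ← Finset.smul_finset_singleton (a := σ) (b := none),
    ← smul_symmDiff, ← smul_symmDiff,
    smul_mem_cw_iff hσ, show ({some 0} : Finset GolayPt) ∆ {none} = om 0x800001 by decide +kernel] at h3
  replace h4 : v ∈ supports (W : Set (GolayPt → ZMod 2)) := by
    simpa using smul_mem_supports hW (inv_mem hσ) h4
  have h5 : ∃ t : Finset GolayPt, t.card = 2 ∧ t ∈ supports (W : Set (GolayPt → ZMod 2)) := by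
    obtain ⟨m, hm, e⟩ := exists_isCw h3
    obtain rfl : v = om (0x800001 ^^^ m) := by rw [om_xor, e, symmDiff_symmDiff_cancel_left]
    have := allCw (q := fun m => bor (Nat.beq m 0) (bor (Nat.beq m 16777215) (anyL gM22 fun g =>
      forceN (Nat.xor (imgT g m) m) fun x => band (bnot (Nat.beq x 0)) (bnot (Nat.beq x 16777215)))))
      (by decide +kernel) hm
    simp only [bor_iff, anyL_iff, bnot_iff, beq_iff, band_iff, forceN_eq] at this
    rcases this with rfl | rfl | ⟨g, hg, h6, h7⟩
    · exact ⟨_, by decide +kernel, h4⟩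
    · obtain ⟨τ, hτ, e⟩ := exists_M24_finset (s := om 0x800001) (t := om 0x800002) (by decide +kernel)
        (by decide +kernel)
      refine ⟨_, ?_, symmDiff_mem_supports h4 (smul_mem_supports hW hτ h4)⟩
      rw [show om (0x800001 ^^^ 16777215) = (om 0x800001)ᶜ from om_compl _, smul_compl, e]
      decide +kernel
    · have h8 := inH_gM22 g hg
      have h9 : gc.dec g • om (0x800001 ^^^ m) = om (0x800001 ^^^ imgT g m) := by
        rw [om_xor, om_xor, smul_symmDiff, h8.1.smul_om m, (h8.mono (K := HD2) fun g hg =>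
          ⟨M22_le hg, smul_eq_of_fix fun p hp => by
            rcases (by simp [F2_eq, F1_eq] : ∀ p, p ∈ om 0x800001 ↔ p = some 0 ∨ p = none) p |>.mp hp
              with rfl | rfl
            exacts [hg.2, hg.1.2]⟩).2.2]
      have h10 := symmDiff_mem_supports (smul_mem_supports hW (M22_le h8.2) h4) h4
      rw [h9, ← om_xor, Nat.xor_comm _ (imgT g m), Nat.xor_assoc, Nat.xor_xor_cancel_left] at h10
      have h11 := Nat.xor_lt_two_pow (h8.1.imgT_lt m) (isCw_lt hm)
      have := golay_le_of_inv hW h10 (by
        rw [om_xor, ← h8.1.smul_om]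
        exact symmDiff_mem_cw ((smul_mem_cw_iff (M22_le h8.2)).mpr (om_mem_cw hm)) (om_mem_cw hm))
        (fun e => h6 ((om_inj h11 (by norm_num)).mp (e.trans gc.ofMask_zero.symm)))
        (fun e => h7 ((om_inj h11 (by norm_num)).mp (e.trans om_full.symm)))
      refine ⟨om 0x800001, by decide +kernel, ?_⟩
      have := symmDiff_mem_supports h4 (Set.image_mono this (om_mem_cw hm))
      rwa [← om_xor, Nat.xor_xor_cancel_right] at this
  obtain ⟨t, ht, h5⟩ := h5
  have h6 : ∀ p q, Pi.single p 1 + Pi.single q 1 ∈ W := fun p q => by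
    by_cases e : p = q
    · rw [e, ← sub_eq_add₂, sub_self]; exact zero_mem _
    obtain ⟨τ, hτ, e'⟩ := exists_M24_finset (s := t) (t := {p} ∆ {q}) (by
      have := card_symmDiff_add {p} {q}
      rw [Finset.singleton_inter_of_notMem (by simpa)] at this
      simp at this; omega) (by omega)
    have := mem_supports_iff.mp (e' ▸ smul_mem_supports hW hτ h5)
    rw [ind_symmDiff] at this
    have h : ∀ p : GolayPt, ind {p} = Pi.single p 1 := fun p => by
      funext x; simp [ind, Pi.single_apply]
    rwa [h, h] at this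
  have h7 : ∀ w : GolayPt → ZMod 2, w + Pi.single none (∑ p, w p) ∈ W := fun w => by
    have : w + Pi.single none (∑ p, w p) = ∑ p, w p • (Pi.single p 1 + Pi.single none 1) := by
      funext x; simp [Pi.single_apply, mul_add, Finset.sum_add_distrib]
    rw [this]; exact W.sum_mem fun p _ => W.smul_mem _ (h6 _ _)
  refine Or.inr (Or.inr (Or.inr (or_iff_not_imp_left.mpr fun h => eq_top_iff.mpr fun w _ => ?_)))
  obtain ⟨x, hx, h8⟩ : ∃ x ∈ W, ∑ p, x p = 1 := by
    by_contra! h8
    exact h (Set.ext fun x => ⟨fun hx => (zmod2_cases _).resolve_right (h8 x hx), fun hx => by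
      have := h7 x; rwa [show ∑ p, x p = 0 from hx, Pi.single_zero, add_zero] at this⟩)
  have h9 := (W.add_mem_iff_right hx).mp (h8 ▸ h7 x)
  have := h7 w
  rcases zmod2_cases (∑ p, w p) with e | e <;> rw [e] at this
  · simpa using this
  · exact (W.add_mem_iff_left h9).mp this

end Cfsg.Agent.S5548
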