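import Cfsg.Statements.S5549
import Cfsg.Agent.Lib.Golay.Coset

set_option autoImplicit false
open Cfsg

namespace Cfsg.Agent.S5549

open Cfsg.Lib.Golay
open scoped Pointwise symmDiff
set_option maxRecDepth 100000
set_option linter.unusedSimpArgs false
set_option maxHeartbeats 400000

/-- equality modulo the all-ones word. -/
def E (s t : Finset GolayPt) : Prop := s = t ∨ s = tᶜ

theorem E_iff {v w : GolayPt → ZMod 2} : (v = w ∨ v = w + fun _ => 1) ↔ E (support₂ v) (support₂ w) := by
  rw [E, show (support₂ w)ᶜ = support₂ w ∆ support₂ (ind Finset.univ) by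
      rw [support₂_ind]; exact (symmDiff_top _).symm,
    ← support₂_add, support₂_injective.eq_iff, support₂_injective.eq_iff, ind_univ]; rfl

theorem E.symmDiff {a b c d : Finset GolayPt} (h : E a b) (h' : E c d) : E (a ∆ c) (b ∆ d) := by
  have h1 : ∀ s t : Finset GolayPt, sᶜ ∆ t = (s ∆ t)ᶜ := fun s t => by
    ext p; simp only [Finset.mem_symmDiff, Finset.mem_compl]; tauto
  rcases h with rfl | rfl <;> rcases h' with rfl | rfl
  exacts [Or.inl rfl, Or.inr (by rw [symmDiff_comm, h1, symmDiff_comm]), Or.inr (h1 _ _),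
    Or.inl (compl_symmDiff_compl _ _)]

theorem E.smul {a b : Finset GolayPt} (h : E a b) (g : Equiv.Perm GolayPt) : E (g • a) (g • b) := by
  rcases h with rfl | rfl; exacts [Or.inl rfl, Or.inr (smul_compl _ _)]

theorem E.card {a b : Finset GolayPt} (h : E a b) : a.card = b.card ∨ a.card + b.card = 24 := by
  rcases h with rfl | rfl
  exacts [Or.inl rfl, Or.inr (by rw [add_comm, Finset.card_add_card_compl, card_golayPt])]

/-- linear maps of the code preserving the weights modulo the all-ones word. -/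
structure Lin (x : Finset GolayPt → Finset GolayPt) : Prop where
  mem : ∀ s ∈ cw, x s ∈ cw
  add : ∀ s ∈ cw, ∀ t ∈ cw, x (s ∆ t) = x s ∆ x t
  ty : ∀ s ∈ cw, (x s).card = s.card ∨ (x s).card + s.card = 24

theorem Lin.zero {x : Finset GolayPt → Finset GolayPt} (h : Lin x) : E (x (om 0)) (om 0) := by
  have := h.add _ empty_mem_cw _ empty_mem_cw
  rw [symmDiff_self, symmDiff_self] at this
  rw [show om 0 = ∅ from gc.ofMask_zero]; exact Or.inl this

theorem forceN_eq' (x : ℕ) (k : ℕ → Bool) : forceN x k = k x := (forceN_eq x k).trans rfl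

/-- evaluate a list. -/
noncomputable def forceL (l : List ℕ) : (List ℕ → Bool) → Bool :=
  List.rec (fun k => k []) (fun x _ r k => forceN x fun y => r fun t => k (y :: t)) l

theorem forceL_eq (l : List ℕ) (k : List ℕ → Bool) : forceL l k = k l := by
  induction l generalizing k with
  | nil => rfl
  | cons x l ih => exact ih _

/-- extend a span by one vector. -/
noncomputable def ext (b : ℕ) (L M : List ℕ) : List ℕ := List.rec L (fun u _ t => Nat.xor b u :: t) M

theorem mem_ext {b : ℕ} {L M : List ℕ} : ∀ u ∈ ext b L M, u ∈ L ∨ ∃ a ∈ M, b ^^^ a = u := by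
  induction M with
  | nil => exact fun _ => Or.inl
  | cons a M ih => exact List.forall_mem_cons.mpr ⟨Or.inr ⟨a, by simp, rfl⟩, fun u hu =>
      (ih u hu).imp_right fun ⟨c, hc, e⟩ => ⟨c, by simp [hc], e⟩⟩

/-- the chain of checks. -/
noncomputable def chk (lv : List (ℕ × List ℕ)) : List ℕ → Bool :=
  List.rec (fun L => allN 11 fun t => anyL L fun u => bor (Nat.beq u (qrM t))
      (Nat.beq (Nat.xor u 16777215) (qrM t)))
    (fun l _ r L => band (isOct l.1) (band (allL l.2 fun g => band (inM24 g)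
      (allL L fun u => Nat.beq (imgT g u) u))
      (band (bfs (fun m => Nat.mod m 4096) (mapL imgT l.2) 0 64 l.1 fun t _ => allN 4096 fun i =>
        forceN (cwN i) fun y => bimp (isOct y) (bimp (allL L fun u =>
          forceN (pop24 (Nat.xor y u)) fun a => forceN (pop24 (Nat.xor l.1 u)) fun b =>
            bor (Nat.beq a b) (Nat.beq (Nat.add a b) 24)) (t.mem (Nat.mod y 4096))))
      (forceL (ext l.1 L L) r)))) lv

theorem chk_sound (lv : List (ℕ × List ℕ)) {L : List ℕ} (h : chk lv L = true)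
    {x : Finset GolayPt → Finset GolayPt} (hx : Lin x)
    (hL : ∀ u ∈ L, isCw u = true ∧ E (x (om u)) (om u)) : ∃ σ ∈ M24, ∀ s ∈ cw, E (x s) (σ • s) := by
  have hxor : ∀ {x : Finset GolayPt → Finset GolayPt}, Lin x → ∀ a b,
      isCw a = true ∧ E (x (om a)) (om a) → isCw b = true ∧ E (x (om b)) (om b) →
      isCw (a ^^^ b) = true ∧ E (x (om (a ^^^ b))) (om (a ^^^ b)) := fun hx a b ha hb =>
    ⟨isCw_xor ha.1 hb.1, by
      rw [om_xor, hx.add _ (om_mem_cw ha.1) _ (om_mem_cw hb.1)]; exact ha.2.symmDiff hb.2⟩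
  induction lv generalizing L x with
  | nil =>
    refine ⟨1, one_mem _, fun s hs => ?_⟩
    obtain ⟨m, hm, rfl⟩ := exists_isCw hs
    rw [one_smul]
    have h1 : isCw 16777215 = true ∧ E (x (om 16777215)) (om 16777215) := ⟨by decide, by
      have := hx.ty _ univ_mem_cw
      rw [Finset.card_univ, card_golayPt] at this
      rw [om_full, E, Finset.compl_univ, ← Finset.card_eq_zero, ← Finset.card_eq_iff_eq_univ, card_golayPt]
      omega⟩
    refine (isCw_induction (P := fun m => isCw m = true ∧ E (x (om m)) (om m)) ⟨by decide, hx.zero⟩ h1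
      (fun t ht => ?_) (hxor hx) hm).2
    obtain ⟨u, hu, h2⟩ := anyL_iff.mp ((allN_iff (n := 11) (f := fun t => anyL L fun u =>
      bor (Nat.beq u (qrM t)) (Nat.beq (Nat.xor u 16777215) (qrM t)))).mp h t ht)
    rw [bor_iff, beq_iff, beq_iff] at h2
    rcases h2 with e | e <;> rw [← e]
    exacts [hL u hu, hxor hx _ _ (hL u hu) h1]
  | cons l lv ih =>
    obtain ⟨b, gs⟩ := l
    obtain ⟨h1, h⟩ := band_iff.mp h
    obtain ⟨h2, h⟩ := band_iff.mp h
    obtain ⟨h3, h4⟩ := band_iff.mp h
    dsimp only at h1 h2 h3 h4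
    clear * - h1 h2 h3 h4 hx hL ih hxor
    simp only [allL_iff, band_iff, beq_iff] at h2
    have hb := om_mem_octads h1
    have hg : ∀ g ∈ gs, gc.InH M24 g := fun g hg => inH_of_inM24 (h2 g hg).1
    obtain ⟨t, L', h5, h6⟩ := Coding.bfs_gen cwCode imgT (fun g h => (hg g h).impl_cw le_rfl)
      (isOct_iff.mp h1).1 h3
    obtain ⟨y, hy, e⟩ : ∃ y, isOct y = true ∧ E (x (om b)) (om y) := by
      have h7 := hx.ty _ hb.1
      rw [hb.2] at h7
      rcases h7 with h7 | h7
      · obtain ⟨y, hy, e⟩ := exists_isOct ⟨hx.mem _ hb.1, h7⟩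
        exact ⟨y, hy, Or.inl e.symm⟩
      · obtain ⟨y, hy, e⟩ := exists_isOct ⟨compl_mem_cw (hx.mem _ hb.1), by
          rw [Finset.card_compl, card_golayPt]; omega⟩
        exact ⟨y, hy, Or.inr (by rw [e, compl_compl])⟩
    have h7 := allCw h5 (isOct_iff.mp hy).1
    simp only [bimp_iff, allL_iff, forceN_eq', bor_iff, beq_iff] at h7
    obtain ⟨g, hg1, hg2⟩ := mem_orbit_subgroup.mp ((h6.mem y (isOct_iff.mp hy).1).mp (h7 hy fun u hu => by
      have a1 := hx.ty _ (symmDiff_mem_cw hb.1 (om_mem_cw (hL u hu).1))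
      rw [hx.add _ hb.1 _ (om_mem_cw (hL u hu).1)] at a1
      have a2 := (e.symmDiff (hL u hu).2).card
      rw [← om_xor, card_om] at a1 a2
      show pop24 (y ^^^ u) = pop24 (b ^^^ u) ∨ pop24 (y ^^^ u) + pop24 (b ^^^ u) = 24
      omega))
    have hg3 : g ∈ M24 := Coding.gen_le hg hg1
    have hx' : Lin fun s => g⁻¹ • x s :=
      { mem := fun s hs => (smul_mem_cw_iff (inv_mem hg3)).mpr (hx.mem s hs)
        add := fun s hs t ht => by rw [hx.add s hs t ht, smul_symmDiff]
        ty := fun s hs => by rw [Finset.card_smul_finset]; exact hx.ty s hs }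
    have hL' : ∀ u ∈ L, isCw u = true ∧ E (g⁻¹ • x (om u)) (om u) := fun u hu => ⟨(hL u hu).1, by
      have := (hL u hu).2.smul g⁻¹
      rwa [show g⁻¹ • om u = om u from inv_mem (Coding.gen_le (H := MulAction.stabilizer _ (om u))
        (fun k hk => ⟨(hg k hk).1, (hg k hk).1.mem_stab_om ((h2 k hk).2 u hu)⟩) hg1)] at this⟩
    have hb' : isCw b = true ∧ E (g⁻¹ • x (om b)) (om b) := ⟨(isOct_iff.mp h1).1, by
      have := e.smul g⁻¹
      rwa [show om y = g • om b from hg2.symm, inv_smul_smul] at this⟩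
    obtain ⟨σ, hσ, h8⟩ := ih ((forceL_eq _ _).symm.trans h4) hx' fun u hu => by
      obtain h | ⟨a, ha, rfl⟩ := mem_ext u hu
      exacts [hL' u h, hxor hx' _ _ hb' (hL' a ha)]
    exact ⟨g * σ, mul_mem hg3 hσ, fun s hs => by simpa [mul_smul] using (h8 s hs).smul g⟩

/-- Let X be a group of linear automorphisms of the length-24 binary Golay code of the definitions that fix the all-ones word, containing the coordinate-permutation action of every element of the code's automorphism group (the Mathieu group of degree 24), and such that every element of X sends each codeword into its orbit under that Mathieu group up to adding the all-ones word (X has the same orbits as the Mathieu group on the code modulo the all-ones word). Then every element of X agrees, modulo the all-ones word, with the action of a single element of the Mathieu group: X induces exactly the Mathieu group on the code modulo the all-ones word. -/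
theorem result (X : Subgroup (↥Cfsg.golayCode ≃ₗ[ZMod 2] ↥Cfsg.golayCode)) (h1 : ∀ x ∈ X, ∀ e : ↥Cfsg.golayCode, (e : (Cfsg.GolayPt → ZMod 2)) = (fun _ => (1 : ZMod 2)) → x e = e) (hM : ∀ σ ∈ Cfsg.M24, ∃ x ∈ X, ∀ c : ↥Cfsg.golayCode, ((x c : ↥Cfsg.golayCode) : (Cfsg.GolayPt → ZMod 2)) = fun p => (c : (Cfsg.GolayPt → ZMod 2)) (σ.symm p)) (horb : ∀ x ∈ X, ∀ c : ↥Cfsg.golayCode, ∃ σ ∈ Cfsg.M24, ((x c : ↥Cfsg.golayCode) : (Cfsg.GolayPt → ZMod 2)) = (fun p => (c : (Cfsg.GolayPt → ZMod 2)) (σ.symm p)) ∨ ((x c : ↥Cfsg.golayCode) : (Cfsg.GolayPt → ZMod 2)) = (fun p => (c : (Cfsg.GolayPt → ZMod 2)) (σ.symm p)) + fun _ => (1 : ZMod 2)) (x : ↥Cfsg.golayCode ≃ₗ[ZMod 2] ↥Cfsg.golayCode) (hx : x ∈ X) : ∃ σ ∈ Cfsg.M24, ∀ c : ↥Cfsg.golayCode, ((x c : ↥Cfsg.golayCode) : (Cfsg.GolayPt → ZMod 2)) = (fun p => (c : (Cfsg.GolayPt → ZMod 2)) (σ.symm p)) ∨ ((x c : ↥Cfsg.golayCode) : (Cfsg.GolayPt → ZMod 2)) = (fun p => (c : (Cfsg.GolayPt → ZMod 2)) (σ.symm p)) + fun _ => (1 : ZMod 2) := by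

  classical
  have h : Lin fun s => if h : ind s ∈ golayCode then support₂ (x ⟨ind s, h⟩ : GolayPt → ZMod 2) else ∅ :=
    { mem := fun s hs => by rw [dif_pos (mem_cw_iff.mp hs)]; exact support₂_mem_cw_iff.mpr (Subtype.prop _)
      add := fun s hs t ht => by
        rw [dif_pos (mem_cw_iff.mp hs), dif_pos (mem_cw_iff.mp ht),
          dif_pos (mem_cw_iff.mp (symmDiff_mem_cw hs ht)), ← support₂_add, ← Submodule.coe_add, ← map_add]
        congr 3; exact Subtype.ext (ind_symmDiff s t)
      ty := fun s hs => by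
        rw [dif_pos (mem_cw_iff.mp hs)]
        obtain ⟨σ, -, h⟩ := horb x hx ⟨ind s, mem_cw_iff.mp hs⟩
        have := (E_iff.mp h).card
        rwa [support₂_perm, support₂_ind, Finset.card_smul_finset] at this }
  obtain ⟨σ, hσ, h1⟩ := chk_sound [(0xc75001, gM24p),
    (0xba800c, [0x120c140107100e00051702160a060d0b1508130f04030911, 0xc110501090e161013000b17070a0f03080d041406150212]),
    (0x64a032, [0x170c02131410111603000b12040a010d05060908150f070e, 0x110c140f1512170e02100900080d0a04050b060713030116]),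
    (0x2b2026, [0x111215131416170c0f0004100806090b070a050d0302010e, 0x17120f141316110c150e0410080a070b0906010d02030500]),
    (0xa2209a, []), (0x13021e, []), (0x51440b, []), (0x108a72, []), (0xc10929, []), (0x86cc04, []),
    (0xa84a5, [])] (L := [0]) (by decide +kernel) h (by
      simp only [List.mem_singleton, forall_eq]; exact ⟨by decide, h.zero⟩)
  refine ⟨σ, hσ, fun c => E_iff.mpr ?_⟩
  have := h1 _ (support₂_mem_cw_iff.mpr c.2)
  simp only [ind_support₂, c.2, dite_true] at this
  rwa [support₂_perm]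

end Cfsg.Agent.S5549
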