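import Cfsg.Statements.S5550
import Cfsg.Agent.Lib.Golay.Coset

set_option autoImplicit false
open Cfsg

namespace Cfsg.Agent.S5550

open Cfsg.Lib.Golay
open scoped Pointwise symmDiff
set_option maxRecDepth 100000
set_option linter.unusedSimpArgs false
set_option maxHeartbeats 400000

/-- Let u be a word of the length-24 binary Golay code of the definitions (possibly zero or all-ones) and w any binary word of length 24 outside the code. Then some automorphism of the code (a coordinate permutation preserving it) fixes u but moves w to a word not congruent to w modulo the code: the stabilizer of a codeword fixes no non-zero element of the quotient of the space of all words by the code. -/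
theorem result (u : (Cfsg.GolayPt → ZMod 2)) (hu : u ∈ Cfsg.golayCode) (w : (Cfsg.GolayPt → ZMod 2)) (hw : w ∉ Cfsg.golayCode) : ∃ σ ∈ Cfsg.M24, (fun p => u (σ.symm p)) = u ∧ (fun p => w (σ.symm p)) - w ∉ Cfsg.golayCode := by

  have key : ∀ (m : ℕ) (gs : List ℕ), (∀ g ∈ gs, gc.InH (M24 ⊓ MulAction.stabilizer _ (om m)) g) →
      allN 4096 (fun s => bor (Nat.beq s 0) (anyL gs fun g => bnot (Nat.beq (sxAct g s) s))) = true →
      ∀ w ∉ cw, ∀ σ ∈ M24, ∃ g ∈ M24, g • σ • om m = σ • om m ∧ (g • w) ∆ w ∉ cw := by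
    intro m gs hg h w hw σ hσ
    obtain ⟨w, rfl⟩ := exists_eq_smul σ w
    obtain ⟨x, hx, rfl⟩ := exists_om w
    have h1 : om x ∆ om (syn x <<< 12) ∈ cw := om_xor _ _ ▸ om_mem_cw (isCw_xor_shl.mpr rfl)
    simp only [allN_iff, bor_iff, anyL_iff, bnot_iff, beq_iff] at h
    obtain h0 | ⟨g, h2, h3⟩ := h _ (syn_lt hx)
    · rw [h0, Nat.zero_shiftLeft, show om 0 = ∅ from gc.ofMask_zero, symmDiff_empty'] at h1
      exact absurd ((smul_mem_cw_iff hσ).mpr h1) hw
    have h4 := hg g h2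
    refine ⟨σ * gc.dec g * σ⁻¹, mul_mem (mul_mem hσ h4.2.1) (inv_mem hσ), by
      rw [conj_smul_smul, show gc.dec g • om m = om m from h4.2.2], fun h5 => h3 ?_⟩
    rw [conj_smul_smul, ← smul_symmDiff, smul_mem_cw_iff hσ] at h5
    have h6 := (smul_mem_cw_iff h4.2.1).mpr h1
    rw [smul_symmDiff, symmDiff_comm] at h6
    have h7 := symmDiff_mem_cw (symmDiff_mem_cw h6 h5) h1
    rw [symmDiff_assoc _ (gc.dec g • om x), symmDiff_symmDiff_cancel_left, symmDiff_assoc,
      symmDiff_symmDiff_cancel_left, h4.1.smul_om, ← om_xor,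
      om_mem_cw_iff (Nat.xor_lt_two_pow (h4.1.imgT_lt _) (shl12_lt (syn_lt hx)))] at h7
    exact isCw_xor_shl.mp h7
  have hO := key _ _ inH_gHO (by decide +kernel) _ (support₂_mem_cw_iff.not.mpr hw)
  suffices ∃ g ∈ M24, g • support₂ u = support₂ u ∧ (g • support₂ w) ∆ support₂ w ∉ cw by
    obtain ⟨g, hg, h1, h2⟩ := this
    exact ⟨g, hg, support₂_injective (by rw [support₂_perm, h1]), by
      rwa [sub_mem_code_iff, support₂_perm]⟩
  have hc := support₂_mem_cw_iff.mpr hu
  rcases card_cw hc with h | h | h | h | h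
  · obtain ⟨g, hg, -, h2⟩ := hO 1 (one_mem _)
    exact ⟨g, hg, by simp [Finset.card_eq_zero.mp h], h2⟩
  · obtain ⟨σ, hσ, e⟩ := std_octad ⟨hc, h⟩
    rw [e]; exact hO σ hσ
  · obtain ⟨σ, hσ, e⟩ := std_dodecad ⟨hc, h⟩
    rw [e]; exact key _ _ (M12_eq ▸ inH_gM12) (by decide +kernel) _ (support₂_mem_cw_iff.not.mpr hw) σ hσ
  · obtain ⟨σ, hσ, e⟩ := std_octad ⟨compl_mem_cw hc, by rw [Finset.card_compl, h, card_golayPt]⟩
    obtain ⟨g, hg, h1, h2⟩ := hO σ hσ
    exact ⟨g, hg, by rwa [← e, smul_compl, compl_inj_iff] at h1, h2⟩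
  · obtain ⟨g, hg, -, h2⟩ := hO 1 (one_mem _)
    exact ⟨g, hg, by simp [Finset.eq_univ_of_card _ (h.trans card_golayPt.symm)], h2⟩

end Cfsg.Agent.S5550
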