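import Cfsg.Statements.S5562
import Cfsg.Agent.Lib.Known2.Odd

set_option autoImplicit false
open Cfsg

namespace Cfsg.Agent.S5562
open Cfsg.Lib.Known2

theorem inv_pow_conj {G : Type*} [Group G] {g u : G} (h : g * u * g⁻¹ = u⁻¹) (k : ℕ) :
    g ^ (2 * k + 1) * u * (g ^ (2 * k + 1))⁻¹ = u⁻¹ := by
  have h2 : g * u⁻¹ * g⁻¹ = u := by
    have : g * u⁻¹ * g⁻¹ = (g * u * g⁻¹)⁻¹ := by group
    rw [this, h, inv_inv]
  induction k with
  | zero => simpa using h
  | succ k ih =>
    have : g ^ (2 * (k + 1) + 1) * u * (g ^ (2 * (k + 1) + 1))⁻¹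
        = g * (g * (g ^ (2 * k + 1) * u * (g ^ (2 * k + 1))⁻¹) * g⁻¹) * g⁻¹ := by group
    rw [this, ih, h2, h]

theorem eq_one_of_sq_odd {G : Type*} [Group G] {u : G} (h : u * u = 1) (ho : Odd (orderOf u)) :
    u = 1 := by
  obtain ⟨k, hk⟩ := ho
  have h1 : u ^ (2 * k + 1) = 1 := by rw [← hk]; exact pow_orderOf_eq_one u
  rwa [pow_succ, pow_mul, pow_two, h, one_pow, one_mul] at h1

/-- Let G be a finite group, d an involution of G whose conjugates pairwise have products of odd order, and x any involution of G. Then the conjugacy class of d is the disjoint union, over the conjugates a of d commuting with x, of the sets of conjugates of d commuting with ax: every conjugate of d commutes with ax for exactly one conjugate a of d that commutes with x. -/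
theorem result {G : Type*} [Group G] [Finite G] (d : G) (hd : orderOf d = 2)
    (hodd : ∀ a ∈ conjugatesOf d, ∀ b ∈ conjugatesOf d, Odd (orderOf (a * b)))
    (x : G) (hx : orderOf x = 2) :
    ∀ e ∈ conjugatesOf d,
      ∃! a : G, a ∈ conjugatesOf d ∧ Commute a x ∧ Commute e (a * x) := by
  intro e he
  have hd2 : d * d = 1 := by rw [← pow_two, ← hd]; exact pow_orderOf_eq_one d
  have hx2 : x * x = 1 := by rw [← pow_two, ← hx]; exact pow_orderOf_eq_one x
  have he2 : e * e = 1 := sq_of_mem_conjugatesOf hd2 he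
  have hcl : ∀ g y : G, y ∈ conjugatesOf d → g * y * g⁻¹ ∈ conjugatesOf d := by
    intro g y hy
    obtain ⟨h, rfl⟩ := mem_conjugatesOf_iff.1 hy
    exact mem_conjugatesOf_iff.2 ⟨g * h, by group⟩
  refine existsUnique_of_exists_of_unique ?_ ?_
  · rcases Nat.even_or_odd (orderOf (e * x)) with ⟨m, hm⟩ | ho
    · have hpos : 0 < orderOf (e * x) := orderOf_pos _
      have h2m : (e * x) ^ (2 * m) = 1 := by
        rw [two_mul, ← hm]; exact pow_orderOf_eq_one _
      have hz1 : (e * x) ^ m ≠ 1 := by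
        apply pow_ne_one_of_lt_orderOf <;> omega
      have hzz : (e * x) ^ m * (e * x) ^ m = 1 := by rw [← pow_add, ← two_mul, h2m]
      have hce := commute_half_left he2 hx2 m h2m
      have hcx := commute_half_right he2 hx2 m h2m
      rcases Nat.even_or_odd m with ⟨k, hk⟩ | ⟨k, hk⟩
      · exfalso
        have h1 : e * (e * x) ^ m = ((e * x) ^ k)⁻¹ * e * ((e * x) ^ k)⁻¹⁻¹ := by
          rw [hk, pow_add, ← mul_assoc, invol_mul_pow he2 hx2, inv_inv]
        have h2 := hodd e he _ (hcl ((e * x) ^ k)⁻¹ e he)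
        rw [← h1, ← mul_assoc, he2, one_mul] at h2
        exact hz1 (eq_one_of_sq_odd hzz h2)
      · refine ⟨x * (e * x) ^ m, ?_, ?_, ?_⟩
        · have h0 : x * (e * x) * x⁻¹ = (e * x)⁻¹ := by
            rw [mul_inv_rev, inv_eq_of_mul_eq_one_right hx2, inv_eq_of_mul_eq_one_right he2,
              mul_assoc, mul_assoc, hx2, mul_one]
          have h1 : x * (e * x) ^ k * x⁻¹ = ((e * x) ^ k)⁻¹ := by
            rw [← conj_pow, h0, inv_pow]
          have h2 : x * (e * x) ^ m
              = (((e * x) ^ k)⁻¹ * x) * e * (((e * x) ^ k)⁻¹ * x)⁻¹ := by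
            have h3 : (e * x) ^ m = (e * x) ^ k * (e * x) * (e * x) ^ k := by
              rw [hk, ← pow_succ, ← pow_add]; congr 1; ring
            rw [h3, ← h1, mul_inv_rev, h1, inv_inv, ← h1,
              inv_eq_of_mul_eq_one_right hx2]
            simp only [mul_assoc]
            rw [← mul_assoc x x (e * _), hx2, one_mul]
          rw [h2]; exact hcl _ _ he
        · exact (Commute.refl x).mul_left hcx.symm
        · have : x * (e * x) ^ m * x = (e * x) ^ m := by
            rw [hcx.eq, mul_assoc, hx2, mul_one]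
          rw [this]; exact hce
    · obtain ⟨m, hm⟩ := conj_of_odd_orderOf he2 hx2 ho
      refine ⟨x, ?_, Commute.refl x, ?_⟩
      · have : x = ((e * x) ^ m)⁻¹ * ((e * x) ^ m * x * ((e * x) ^ m)⁻¹) * ((e * x) ^ m)⁻¹⁻¹ := by
          group
        rw [this, hm]; exact hcl _ _ he
      · rw [hx2]; exact Commute.one_right e
  · rintro a a' ⟨ha, hax, hea⟩ ⟨ha', hax', hea'⟩
    have ha2 : a * a = 1 := sq_of_mem_conjugatesOf hd2 ha
    have ha2' : a' * a' = 1 := sq_of_mem_conjugatesOf hd2 ha'
    have hu : a * x * (a' * x) = a * a' := by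
      rw [hax'.eq, mul_assoc, ← mul_assoc x x, hx2, one_mul]
    have heu : Commute e (a * a') := by rw [← hu]; exact hea.mul_right hea'
    have hinv : (e * a) * (a * a') * (e * a)⁻¹ = (a * a')⁻¹ := by
      have h1 : a * (a * a') * a⁻¹ = (a * a')⁻¹ := by
        rw [← mul_assoc, ha2, one_mul, mul_inv_rev, inv_eq_of_mul_eq_one_right ha2']
      have h2 : (e * a) * (a * a') * (e * a)⁻¹ = e * (a * (a * a') * a⁻¹) * e⁻¹ := by group
      rw [h2, h1, heu.inv_right.eq, mul_assoc, mul_inv_cancel, mul_one]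
    obtain ⟨k, hk⟩ := hodd e he a ha
    have h3 := inv_pow_conj hinv k
    rw [← hk, pow_orderOf_eq_one] at h3
    have h4 : (a * a') * (a * a') = 1 := by
      have : a * a' = (a * a')⁻¹ := by simpa using h3
      nth_rewrite 2 [this]; exact mul_inv_cancel _
    have h5 := eq_one_of_sq_odd h4 (hodd a ha a' ha')
    calc a = a * (a * a') := by rw [h5, mul_one]
      _ = a' := by rw [← mul_assoc, ha2, one_mul]

end Cfsg.Agent.S5562
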