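import Cfsg.Statements.S5574
import Cfsg.Agent.S5572
import Cfsg.Agent.S5573
import Cfsg.Agent.Lib.Block2.JHy
import Cfsg.Agent.Lib.Block2.JPc
import Cfsg.Agent.Lib.Block2.JPd
import Cfsg.Agent.Lib.Block2.JPe
import Cfsg.Agent.Lib.Block2.JPf
import Cfsg.Agent.Lib.Block2.JPi
import Cfsg.Agent.Lib.Block2.JPk
import Cfsg.Agent.Lib.Block2.JPs
-- import your own Cfsg.Agent.* helpers here

set_option autoImplicit false
open Cfsg

namespace Cfsg.Agent.S5574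

open Cfsg.Lib.JF Cfsg.Lib.Amalg

/-- Let G be a finite non-abelian simple group of Janko-four type (an involution z whose centralizer H has an extraspecial largest normal 2-subgroup E of order 2^13 containing its centralizer in H, a normal subgroup N ≥ E of H with N/E of order 3 and H/N the automorphism group of M₂₂, and a subgroup P ≤ N of order 3 with C_E(P) = ⟨z⟩, N_H(P) ≠ C_H(P) and P ≤ C_H(P)′). Then G has a special 2-subgroup L of order 2^15 with centre of order 8 whose normalizer M satisfies: M/L is isomorphic to the direct product of the symmetric group of degree 5 and L₃(2); L has no complement in M; M nevertheless contains subgroups isomorphic to the symmetric group of degree 5 and to L₃(2); and M contains the normalizer of some Sylow 5-subgroup and of some Sylow 7-subgroup of G. -/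
theorem result {G : Type*} [Group G] [Finite G] [IsSimpleGroup G] (hG : ¬ IsMulCommutative G) (hJ : Cfsg.IsOfJankoFourType G) :
    ∃ L : Subgroup G, Cfsg.IsSpecial 2 ↥L ∧ Nat.card ↥L = 2 ^ 15 ∧ Nat.card ↥(Subgroup.center ↥L) = 8 ∧
    Nonempty (↥(Subgroup.normalizer (L : Set G)) ⧸ L.subgroupOf (Subgroup.normalizer (L : Set G)) ≃* Equiv.Perm (Fin 5) × Matrix.SpecialLinearGroup (Fin 3) (ZMod 2)) ∧
    (∀ K : Subgroup ↥(Subgroup.normalizer (L : Set G)), ¬ (L.subgroupOf (Subgroup.normalizer (L : Set G))).IsComplement' K) ∧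
    (∃ K₁ : Subgroup G, K₁ ≤ Subgroup.normalizer (L : Set G) ∧ Nonempty (↥K₁ ≃* Equiv.Perm (Fin 5))) ∧
    (∃ K₂ : Subgroup G, K₂ ≤ Subgroup.normalizer (L : Set G) ∧ Nonempty (↥K₂ ≃* Matrix.SpecialLinearGroup (Fin 3) (ZMod 2))) ∧
    (∃ Q : Sylow 5 G, Subgroup.normalizer ((Q : Subgroup G) : Set G) ≤ Subgroup.normalizer (L : Set G)) ∧
    (∃ S : Sylow 7 G, Subgroup.normalizer ((S : Subgroup G) : Set G) ≤ Subgroup.normalizer (L : Set G)) := by
  obtain ⟨z, P, hJ⟩ := hJ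
  obtain ⟨p, φ, q, -, -, A⟩ := exists_allD hG hJ
  have h := A.js
  obtain ⟨L, hL⟩ : ∃ L : Subgroup G, ∀ g, g ∈ L ↔ g ∈ 𝐂 (pZ (twoCoreOfCentralizer z) φ) ∧
      ∀ i, g ∈ 𝐍 (V0 (twoCoreOfCentralizer z) φ (pB i)) :=
    ⟨𝐂 _ ⊓ ⨅ i, 𝐍 (V0 (twoCoreOfCentralizer z) φ (pB i)), fun g => by rw [Subgroup.mem_inf, Subgroup.mem_iInf]⟩
  have dec := fun g => (hL g).trans ⟨fun k => h.memPL2 k.1 k.2, fun ⟨_, he, _, ha, e⟩ => e ▸ h.memPL1 he ha⟩
  have D : PD _ L _ := ⟨h.sqW, h.cardW, h.infW, h.cardZ, fun _ hg => h.permZ hg, h.fullZ, h.autZ A.cenD, hL,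
    h.cPL dec, h.cenPL dec⟩
  obtain ⟨s1, s2, s3, s4, ⟨e⟩⟩ := D.struct
  obtain ⟨f1, f2, f3, f4⟩ := penF D.cL D.cZ s3 (fun g hg => ((hL g).1 hg).1) s4 h.zZ e
    (S5572.result hG z ⟨P, hJ⟩) (S5573.result hG z ⟨P, hJ⟩) (by rw [card_H hJ]; norm_num)
  obtain ⟨ε, θ, T⟩ := A.gd.exists_TM
  obtain ⟨K, k1, k2, k3, -⟩ := A.split
  obtain ⟨g, g1, g2, g3⟩ := h.g3Z
  obtain ⟨K2, a, b⟩ := T.l32 k1 k2 k3 inf_le_left D.cZ (fun _ => h.pureZ A.cenD) g1 g2 g3
  exact ⟨L, s1, D.cL, s2, ⟨e⟩, f1, f2, ⟨K2, a.trans s4.ge, b⟩, f3, f4⟩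

end Cfsg.Agent.S5574
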