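import Cfsg.Statements.S5588
import Cfsg.Agent.Lib.Comp.Y5.Arm

set_option autoImplicit false
open Cfsg

namespace Cfsg.Agent.S5588

open Cfsg.Lib.Comp

/-- In the group presented by the sixteen involutions of the Y₅₅₅ Coxeter diagram subject only to the Coxeter relations and the single spider relation (a b₁ c₁ a b₂ c₂ a b₃ c₃)^10 = 1, each of the further relators used in the definitions' presentation of the Bimonster (each end node equals the ninth power of the Coxeter element of a sub-diagram of type E₇) already holds. Equivalently, the Y₅₅₅ diagram with the spider relation alone presents the Bimonster. -/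
theorem result :
    ∀ r ∈ Cfsg.Spor.Bimonster.extra,
      (PresentedGroup.mk (Cfsg.Spor.coxRelators Cfsg.Spor.Bimonster.edges ∪ {r' | r' ∈ [(Cfsg.Spor.Bimonster.a * Cfsg.Spor.Bimonster.b1 * Cfsg.Spor.Bimonster.c1 * Cfsg.Spor.Bimonster.a * Cfsg.Spor.Bimonster.b2 * Cfsg.Spor.Bimonster.c2 * Cfsg.Spor.Bimonster.a * Cfsg.Spor.Bimonster.b3 * Cfsg.Spor.Bimonster.c3) ^ 10]}) r) = 1 := by
  open Cfsg.Lib.Comp.Y5 Cfsg.Spor Cfsg.Spor.Bimonster in
  set T := coxRelators edges ∪ {r' | r' ∈ [(a * b1 * c1 * a * b2 * c2 * a * b3 * c3) ^ 10]} with hT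
  let S : Gen → PresentedGroup T := PresentedGroup.of
  have h : Cox S := fun x y => by
    have := PresentedGroup.one_of_mem (rels := T) (x := (FreeGroup.of x * FreeGroup.of y) ^ coxLabel edges x y)
      (Or.inl ⟨x, by cases x <;> decide, y, by cases y <;> decide, rfl⟩)
    rwa [map_pow, map_mul] at this
  have hs0 := PresentedGroup.one_of_mem (rels := T) (x := (a * b1 * c1 * a * b2 * c2 * a * b3 * c3) ^ 10)
    (Or.inr (by simp))
  have hs : E S sp1 ^ 10 = 1 := by
    rw [← hs0]; simp only [map_pow, map_mul, E, sp1, List.map, List.prod_cons, List.prod_nil, mul_one, mul_assoc]; rfl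
  let π : PresentedGroup T →* ℤˣ := PresentedGroup.toGroup (f := fun _ => -1) (by
    rintro r (⟨x, -, y, -, rfl⟩ | hr)
    · simp
    · simp only [Set.mem_setOf_eq, List.mem_singleton] at hr
      subst hr; simp; decide)
  have hπ : ∀ x, π (S x) = -1 := fun x => PresentedGroup.toGroup.of _
  have k1 := arm h hs π hπ
  have k2 := arm h.rot (sp_rot' hs) π fun x => hπ _
  have k3 := arm h.rot.rot (sp_rot' (sp_rot' hs)) π fun x => hπ _
  simp only [E, List.map, List.prod_cons, List.prod_nil, mul_one, Function.comp, rot] at k1 k2 k3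
  simp only [extra, List.forall_mem_cons, map_mul, map_inv, map_pow, mul_inv_eq_one, mul_assoc]
  refine ⟨?_, k1.1, k1.2, k2.2, k2.1, k3.1, k3.2, by simp⟩
  simpa only [map_mul, map_pow, mul_assoc] using hs0

end Cfsg.Agent.S5588
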