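import Cfsg.Statements.S5594
import Cfsg.Agent.Lib.Leech.Imag

set_option autoImplicit false
open Cfsg

namespace Cfsg.Agent.S5594

open Cfsg.Lib.Leech

/-- The automorphism group of the Leech lattice contains the negation map, and the subgroup of order 2 it generates has no complement: the automorphism group is a non-split extension of its quotient by that subgroup (it is not the direct product of a group of order 2 with the first Conway group). -/
theorem result :
    ∃ n : ↥Cfsg.Co0, (∀ v : ↥Cfsg.leechLattice, ((n • v : ↥Cfsg.leechLattice) : Cfsg.GolayPt → ℤ) = -(v : Cfsg.GolayPt → ℤ)) ∧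
    ∀ K : Subgroup ↥Cfsg.Co0, ¬ (Subgroup.zpowers n).IsComplement' K := by
  refine ⟨negOne, fun v => by rw [negOne_smul]; rfl, fun K hK => ?_⟩
  obtain ⟨i, hi⟩ := exists_imag
  have ho : orderOf negOne = 2 :=
    orderOf_eq_prime (by rw [sq, negOne_mul_self]) negOne_ne_one
  have h2 : K.index = 2 := by rw [hK.index_eq_card, Nat.card_zpowers, ho]
  have h3 := K.mul_self_mem_of_index_two h2 i
  rw [hi] at h3
  exact negOne_ne_one ((Subgroup.disjoint_def.1 hK.disjoint) (Subgroup.mem_zpowers _) h3)

end Cfsg.Agent.S5594
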