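import Cfsg.Statements.S5595
import Cfsg.Agent.Lib.Known2.LE3

set_option autoImplicit false
open Cfsg

namespace Cfsg.Agent.S5595
open Cfsg.Lib.Known2 Cfsg.Lib.Amalg Cfsg.Lib.Core Subgroup

/-- Setting: `z` is an involution of the finite group `G`; for each element `x`, `Q x` denotes the largest normal 2-subgroup of the centralizer of `x`; `Q z` is extraspecial and contains its own centralizer in `G` (a large extraspecial 2-subgroup in this sense). Call the conjugates of `z` singular, and say that singular `x` is orthogonal to singular `y` when `x ∈ Q y`. Then orthogonality is symmetric: if a conjugate `x` of `z` lies in `Q z`, then `z` lies in `Q x`. -/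
theorem result {G : Type*} [Group G] [Finite G]
    (Q : G → Subgroup G)
    (hQ : ∀ x : G, Q x = (Cfsg.pCore 2 ↥(Subgroup.centralizer ({x} : Set G))).map (Subgroup.centralizer ({x} : Set G)).subtype)
    (z : G) (hz : orderOf z = 2) (hE : Cfsg.IsExtraspecial 2 ↥(Q z))
    (hC : Subgroup.centralizer ((Q z : Subgroup G) : Set G) ≤ Q z)
    (g : G) (hx : g * z * g⁻¹ ∈ Q z) : z ∈ Q (g * z * g⁻¹) := by
  have hQ' : ∀ x, Q x = pCoreOf 2 (centralizer {x}) := hQ
  rw [hQ'] at hE hC hx ⊢
  have h := ls_of_op hz hE hC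
  rw [← cj_Qc]
  by_cases hc : ∃ a ∈ pCoreOf 2 (centralizer ({z} : Set G)), ∃ a' ∈ pCoreOf 2 (centralizer ({z} : Set G)),
    g * z * g⁻¹ * a = a * (g * z * g⁻¹) ∧ g * z * g⁻¹ * a' = a' * (g * z * g⁻¹) ∧ a * a' ≠ a' * a
  · exact h.sym' hx hc
  by_cases hne : g * z * g⁻¹ = z
  · have := (h.conj g).mem
    rwa [hne] at this
  push Not at hc
  have h1 := h.conj g
  suffices H : IsPGroup 2 (centralizer ({z} : Set G)) by
    rw [op_eq_self H, cj_centralizer_singleton, mem_cent_single]
    exact (h.cen _ hx).symm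
  have hb1 := h1.ne
  have hbb := h1.sq
  clear h1
  generalize g * z * g⁻¹ = b at *
  generalize pCoreOf 2 (centralizer ({z} : Set G)) = R at *
  have key : ∀ x ∈ R, b * x = x * b → (x = 1 ∨ x = z) ∨ (x = b ∨ x = b * z) :=
    fun x hx' e => h.toES.double_perp hx hx' fun y hy e' => hc x hx' y hy e e'
  have hyb : ∀ y ∈ R, b * y ≠ y * b → y * b * (y * b) = y * y * z := by
    intro y hy e
    calc y * b * (y * b) = y * (b * y) * b := by group
      _ = y * y * (b * z * b) := by rw [h.toES.anti hx hy e]; group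
      _ = _ := by rw [h.cen b hx, mul_assoc z, hbb, mul_one]
  obtain ⟨r, hr, hbr, hrr⟩ : ∃ r ∈ R, b * r ≠ r * b ∧ r * r = z := by
    obtain ⟨y, hy, e⟩ := h.toES.exists_anti hx hb1 hne
    rcases h.sq_mem y hy with e' | e'
    · refine ⟨y * b, mul_mem hy hx, fun e2 => e ?_, by rw [hyb y hy e, e', one_mul]⟩
      rw [← mul_assoc] at e2; exact mul_right_cancel e2
    · exact ⟨y, hy, e, e'⟩
  have zz : ∀ u, u * z * z = u := fun u => by rw [mul_assoc, h.sq, mul_one]
  have sqz : ∀ u ∈ R, u * z * (u * z) = u * u := fun u hu => by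
    rw [mul_assoc, ← mul_assoc z, ← h.cen u hu, mul_assoc u, h.sq, mul_one]
  have key2 : ∀ x ∈ R, b * x ≠ x * b → (x = r ∨ x = r * z) ∨ (x = r * b ∨ x = r * b * z) := by
    intro x hx' e
    have e2 : b * r⁻¹ ≠ r⁻¹ * b := fun e3 =>
      hbr (by simpa using ((show Commute b r⁻¹ from e3).inv_right).eq)
    have := key (r⁻¹ * x) (mul_mem (inv_mem hr) hx')
      ((h.toES.mul_comm_iff hx (inv_mem hr) hx').2 (by tauto))
    simp only [inv_mul_eq_iff_eq_mul, mul_one, ← mul_assoc] at this
    exact this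
  have hrb : r * b * (r * b) = 1 := by rw [hyb r hr hbr, hrr, h.sq]
  have hz1 := h.ne
  rw [isPGroup_iff_mem]
  intro c hc'
  have hcz := mem_cent_single.1 hc'
  have cz : c * z * c⁻¹ = z := conj_eq_of_comm hcz
  have cr : c * r * c⁻¹ = r ∨ c * r * c⁻¹ = r * z := by
    have m := h.norm c hcz r hr
    have sq : (c * r * c⁻¹) * (c * r * c⁻¹) = z := by rw [conj_mul, hrr, cz]
    by_cases e : b * (c * r * c⁻¹) = (c * r * c⁻¹) * b
    · exfalso
      rcases key _ m e with (e' | e') | (e' | e') <;> rw [e'] at sq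
      · exact hz1 (by simpa using sq.symm)
      · exact hz1 (sq.symm.trans h.sq)
      · exact hz1 (sq.symm.trans hbb)
      · rw [sqz b hx] at sq; exact hz1 (sq.symm.trans hbb)
    · rcases key2 _ m e with e' | (e' | e')
      · exact e'
      · rw [e'] at sq; exact absurd (sq.symm.trans hrb) hz1
      · rw [e', sqz _ (mul_mem hr hx)] at sq; exact absurd (sq.symm.trans hrb) hz1
  have cb : (c * b * c⁻¹ = b ∨ c * b * c⁻¹ = b * z) ∨ (c * b * c⁻¹ = r * b ∨ c * b * c⁻¹ = r * b * z) := by
    have m := h.norm c hcz b hx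
    have sq : (c * b * c⁻¹) * (c * b * c⁻¹) = 1 := by rw [conj_mul, hbb]; group
    by_cases e : b * (c * b * c⁻¹) = (c * b * c⁻¹) * b
    · rcases key _ m e with (e' | e') | e'
      · exact absurd (by simpa using e') hb1
      · rw [← cz] at e'; exact absurd (by simpa using e') hne
      · exact Or.inl e'
    · rcases key2 _ m e with (e' | e') | e'
      · rw [e', hrr] at sq; exact absurd sq hz1
      · rw [e', sqz r hr, hrr] at sq; exact absurd sq hz1
      · exact Or.inr e'
  have c2 : ∀ u : G, (c * c) * u * (c * c)⁻¹ = c * (c * u * c⁻¹) * c⁻¹ := fun u => by group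
  have zr : ∀ u, u * z * r = u * r * z := fun u => by rw [mul_assoc, ← h.cen r hr, mul_assoc]
  have zb : ∀ u, u * z * b = u * b * z := fun u => by rw [mul_assoc, ← h.cen b hx, mul_assoc]
  have zb' : z * b = b * z := (h.cen b hx).symm
  have d1 : (c * c) * r * (c * c)⁻¹ = r := by
    rw [c2]; rcases cr with e | e
    · rw [e, e]
    · rw [e, ← conj_mul, e, cz, zz]
  have d2 : (c * c) * b * (c * c)⁻¹ = b ∨ (c * c) * b * (c * c)⁻¹ = b * z := by
    rw [c2]
    rcases cb with (e | e) | (e | e)
    · rw [e, e]; exact Or.inl rfl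
    · rw [e, ← conj_mul, e, cz, zz]; exact Or.inl rfl
    · rw [e, ← conj_mul, e]
      rcases cr with e' | e' <;> rw [e'] <;>
        simp only [← mul_assoc, zr, zb, zz, hrr, zb', true_or, or_true]
    · rw [e, ← conj_mul, ← conj_mul (a := r), e, cz]
      rcases cr with e' | e' <;> rw [e'] <;>
        simp only [← mul_assoc, zr, zb, zz, hrr, zb', true_or, or_true]
  have d3 : (c * c) * z * (c * c)⁻¹ = z := by rw [c2, cz, cz]
  have : c * c ∈ R := by
    apply h.mem_of_inner (comm_of_conj_eq d3)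
    intro x hx'
    by_cases e : b * x = x * b
    · rcases key x hx' e with (rfl | rfl) | (rfl | rfl)
      · left; group
      · left; exact d3
      · exact d2
      · rw [← conj_mul, d3]; rcases d2 with e | e <;> rw [e] <;> simp
    · rcases key2 x hx' e with (rfl | rfl) | (rfl | rfl)
      · left; exact d1
      · left; rw [← conj_mul, d1, d3]
      · rw [← conj_mul, d1]; rcases d2 with e | e <;> rw [e] <;> simp [mul_assoc]
      · rw [← conj_mul, ← conj_mul (a := r), d1, d3]; rcases d2 with e | e <;> rw [e] <;> simp [mul_assoc]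
  refine ⟨3, ?_⟩
  rw [show 2 ^ 3 = 2 * 2 ^ 2 by norm_num, pow_mul, pow_two c]
  exact h.toES.pow_four this

end Cfsg.Agent.S5595
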