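import Cfsg.Statements.S5596
import Cfsg.Agent.Lib.Known2.LE3

set_option autoImplicit false
open Cfsg

namespace Cfsg.Agent.S5596
open Cfsg.Lib.Known2 Cfsg.Lib.Amalg Cfsg.Lib.Core Subgroup

/-- Setting: `z` is an involution of the finite group `G`; for each element `x`, `Q x` is the largest normal 2-subgroup of the centralizer of `x`; `Q z` is extraspecial and contains its own centralizer in `G`. A subgroup `U` is singular when it is elementary abelian, every non-identity element of `U` is conjugate to `z`, and any two non-identity elements `u`, `v` of `U` are orthogonal (`v ∈ Q u`). Write `QU` for the intersection of the `Q u` and `LU` for the join of the `Q u` over the non-identity `u` in `U`. If `U` is singular of order `2 ^ n` with `n ≥ 2`, then `U ≤ QU ≤ LU`, `LU` normalizes `U`, and `LU` induces on `U` its full automorphism group (the general linear group of dimension `n` over the field with two elements): every automorphism of `U` is conjugation by some element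 of `LU`. -/
theorem result {G : Type*} [Group G] [Finite G]
    (Q : G → Subgroup G)
    (hQ : ∀ x : G, Q x = (Cfsg.pCore 2 ↥(Subgroup.centralizer ({x} : Set G))).map (Subgroup.centralizer ({x} : Set G)).subtype)
    (z : G) (hz : orderOf z = 2) (hE : Cfsg.IsExtraspecial 2 ↥(Q z))
    (hC : Subgroup.centralizer ((Q z : Subgroup G) : Set G) ≤ Q z)
    (U : Subgroup G) (hU2 : ∀ u ∈ U, u * u = 1)
    (hS : ∀ u ∈ U, u ≠ 1 → ∃ g : G, g * z * g⁻¹ = u)
    (hO : ∀ u ∈ U, ∀ v ∈ U, u ≠ 1 → v ≠ 1 → v ∈ Q u)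
    (QU LU : Subgroup G) (hQU : QU = ⨅ u ∈ ((U : Set G) \ {1}), Q u) (hLU : LU = ⨆ u ∈ ((U : Set G) \ {1}), Q u)
    (n : ℕ) (hn : 2 ≤ n) (hcard : Nat.card ↥U = 2 ^ n) :
    U ≤ QU ∧ QU ≤ LU ∧ LU ≤ Subgroup.normalizer (U : Set G) ∧
      ∀ φ : ↥U ≃* ↥U, ∃ g ∈ LU, ∀ u : ↥U, g * (u : G) * g⁻¹ = ((φ u : ↥U) : G) := by
  have hQ' : ∀ x, Q x = pCoreOf 2 (centralizer {x}) := hQ
  have hL : ∀ u ∈ U, u ≠ 1 → LS (Q u) u := fun u hu h1 => by
    rw [hQ'] at hE hC ⊢; exact ls_of_op_conj hz hE hC (hS u hu h1)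
  have hUQ : ∀ u ∈ U, u ≠ 1 → U ≤ Q u := fun u hu h1 v hv => by
    by_cases e : v = 1
    · rw [e]; exact one_mem _
    · exact hO u hu v hv h1 e
  have hQL : ∀ u ∈ U, u ≠ 1 → Q u ≤ LU := fun u hu h1 => by
    rw [hLU]; exact le_iSup₂_of_le u ⟨hu, h1⟩ le_rfl
  have hcomm : ∀ u ∈ U, ∀ v ∈ U, u * v = v * u := by
    intro u hu v hv
    rw [← inv_eq_of_mul_eq_one_right (hU2 _ (mul_mem hu hv)), mul_inv_rev,
      inv_eq_of_mul_eq_one_right (hU2 _ hu), inv_eq_of_mul_eq_one_right (hU2 _ hv)]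
  have hN : LU ≤ 𝐍 U := by
    rw [hLU]
    refine iSup₂_le fun u hu => le_normalizer_of_cj_le fun q hq => cj_le_iff'.2 fun v hv => ?_
    rcases (hL u hu.1 hu.2).toES.conj_eq hq (hUQ u hu.1 hu.2 hv) with e | e <;> rw [e]
    · exact hv
    · exact mul_mem hv hu.1
  refine ⟨?_, ?_, hN, ?_⟩
  · rw [hQU]; exact le_iInf₂ fun u hu => hUQ u hu.1 hu.2
  · have : U ≠ ⊥ := by
      intro e
      rw [e, card_bot] at hcard
      have := Nat.one_lt_two_pow (n := n) (by omega)
      omega
    obtain ⟨⟨u, hu⟩, h1⟩ := ne_bot_iff_exists_ne_one.1 this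
    have h1' : u ≠ 1 := fun e => h1 (Subtype.ext e)
    rw [hQU]
    exact (iInf₂_le u ⟨hu, h1'⟩).trans (hQL u hu h1')
  · intro φ
    suffices H : ∀ k : ℕ, ∀ g ∈ LU, {u : U | g * (u : G) * g⁻¹ ≠ φ u}.ncard ≤ k →
        ∃ g ∈ LU, ∀ u : U, g * (u : G) * g⁻¹ = φ u from H _ 1 (one_mem _) le_rfl
    intro k
    induction k with
    | zero =>
      intro g hg hk
      refine ⟨g, hg, fun u => ?_⟩
      by_contra hne
      have := (Set.ncard_pos (Set.toFinite _)).2 (⟨u, hne⟩ : {u : U | g * (u : G) * g⁻¹ ≠ φ u}.Nonempty)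
      omega
    | succ k ih =>
      intro g hg hk
      by_cases hall : ∀ u : U, g * (u : G) * g⁻¹ = φ u
      · exact ⟨g, hg, hall⟩
      push Not at hall
      obtain ⟨x, hx⟩ := hall
      have my : ∀ v : U, g * (v : G) * g⁻¹ ∈ U := fun v => (mem_normalizer_iff.1 (hN hg) _).1 v.2
      obtain ⟨y, hy⟩ : ∃ y, y = g * (x : G) * g⁻¹ := ⟨_, rfl⟩
      have myx : y ∈ U := hy ▸ my x
      rw [← hy] at hx
      have mu : y * φ x ∈ U := mul_mem myx (φ x).2
      have u1 : y * φ x ≠ 1 := fun e => hx (by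
        rw [← inv_eq_of_mul_eq_one_left e, inv_eq_of_mul_eq_one_right (hU2 _ (φ x).2)])
      have l := hL _ mu u1
      let A : Subgroup G :=
        { carrier := {w | ∃ v : U, g * (v : G) * g⁻¹ = φ v ∧ (w = φ v ∨ w = φ v * (y * φ x))}
          one_mem' := ⟨1, by simp, Or.inl (by simp)⟩
          mul_mem' := by
            rintro a b ⟨v, e, ha⟩ ⟨v', e', hb⟩
            refine ⟨v * v', by rw [map_mul, coe_mul, coe_mul, ← conj_mul, e, e'], ?_⟩
            rw [map_mul, coe_mul]
            rcases ha with rfl | rfl <;> rcases hb with rfl | rfl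
            · left; rfl
            · right; rw [← mul_assoc]
            · right; rw [mul_assoc, hcomm _ mu _ (φ v').2, ← mul_assoc]
            · left
              rw [mul_assoc, ← mul_assoc (y * φ x), hcomm _ mu _ (φ v').2, mul_assoc _ (y * φ x),
                hU2 _ mu, mul_one]
          inv_mem' := by
            rintro a ⟨v, e, ha⟩
            have : a ∈ U := by
              rcases ha with rfl | rfl
              exacts [(φ v).2, mul_mem (φ v).2 mu]
            rw [inv_eq_of_mul_eq_one_right (hU2 _ this)]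
            exact ⟨v, e, ha⟩ }
      have hAU : A ≤ U := by
        rintro a ⟨v, e, rfl | rfl⟩
        exacts [(φ v).2, mul_mem (φ v).2 mu]
      have hyA : y ∉ A := by
        rintro ⟨v, e, h1 | h1⟩
        · rw [← e, hy, mul_left_inj, mul_right_inj] at h1
          rw [← Subtype.ext h1, ← hy] at e
          exact hx e
        · have : (φ v : G) = φ x := by
            rw [hcomm _ (φ v).2 _ mu, mul_assoc, left_eq_mul] at h1
            rw [← inv_eq_of_mul_eq_one_right h1, inv_eq_of_mul_eq_one_right (hU2 _ (φ x).2)]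
          rw [φ.injective (Subtype.ext this), ← hy] at e
          exact hx e
      obtain ⟨q, hq, q1, q2⟩ := l.toES.exists_sep (hAU.trans (hUQ _ mu u1))
        ⟨1, by simp, Or.inr (by simp)⟩ (hUQ _ mu u1 myx) hyA
      have q3 : q * y * q⁻¹ = φ x := by
        rw [l.toES.conj_anti hq (hUQ _ mu u1 myx) q2, ← mul_assoc, hU2 _ myx, one_mul]
      refine ih (q * g) (mul_mem (hQL _ mu u1 hq) hg) (Nat.le_of_lt_succ (lt_of_lt_of_le ?_ hk))
      have c2 : ∀ t : G, (q * g) * t * (q * g)⁻¹ = q * (g * t * g⁻¹) * q⁻¹ := fun t => by group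
      refine Set.ncard_lt_ncard ⟨fun v hv e => hv ?_, fun H => H (show x ∈ _ from fun e => hx (hy.trans e)) ?_⟩
      · rw [c2, e]; exact conj_eq_of_comm (q1 _ ⟨v, e, Or.inl rfl⟩)
      · rw [c2, ← hy]; exact q3

end Cfsg.Agent.S5596
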