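import Cfsg.Statements.S5597
import Cfsg.Agent.Lib.Known2.LE3

set_option autoImplicit false
open Cfsg

namespace Cfsg.Agent.S5597
open Cfsg.Lib.Known2 Cfsg.Lib.Amalg Cfsg.Lib.Core Subgroup

/-- Setting: `z` is an involution of the finite group `G`; for each element `x`, `Q x` is the largest normal 2-subgroup of the centralizer of `x`; `Q z` is extraspecial and contains its own centralizer in `G`. A subgroup `U` is singular when it is elementary abelian, every non-identity element of `U` is conjugate to `z`, and any two non-identity elements `u`, `v` of `U` are orthogonal (`v ∈ Q u`). Write `QU` for the intersection of the `Q u` and `LU` for the join of the `Q u` over the non-identity `u` in `U`. If `U` is a non-trivial singular subgroup, then `LU` acts trivially on `QU / U` (every commutator of an element of `LU` with an element of `QU` lies in `U`), and for every `x` in `QU` outside `U` the centralizer of `U` in `LU` permutes the coset `x U` transitively: each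 `x u` with `u ∈ U` is a conjugate of `x` by an element of `LU` centralizing `U`. -/
theorem result {G : Type*} [Group G] [Finite G]
    (Q : G → Subgroup G)
    (hQ : ∀ x : G, Q x = (Cfsg.pCore 2 ↥(Subgroup.centralizer ({x} : Set G))).map (Subgroup.centralizer ({x} : Set G)).subtype)
    (z : G) (hz : orderOf z = 2) (hE : Cfsg.IsExtraspecial 2 ↥(Q z))
    (hC : Subgroup.centralizer ((Q z : Subgroup G) : Set G) ≤ Q z)
    (U : Subgroup G) (hU2 : ∀ u ∈ U, u * u = 1)
    (hS : ∀ u ∈ U, u ≠ 1 → ∃ g : G, g * z * g⁻¹ = u)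
    (hO : ∀ u ∈ U, ∀ v ∈ U, u ≠ 1 → v ≠ 1 → v ∈ Q u)
    (QU LU : Subgroup G) (hQU : QU = ⨅ u ∈ ((U : Set G) \ {1}), Q u) (hLU : LU = ⨆ u ∈ ((U : Set G) \ {1}), Q u)
    (hU : U ≠ ⊥) :
    (∀ g ∈ LU, ∀ x ∈ QU, g * x * g⁻¹ * x⁻¹ ∈ U) ∧
      ∀ x ∈ QU, x ∉ U → ∀ u ∈ U, ∃ g ∈ LU ⊓ Subgroup.centralizer (U : Set G), g * x * g⁻¹ = x * u := by
  have hQ' : ∀ x, Q x = pCoreOf 2 (centralizer {x}) := hQ
  have hL : ∀ u ∈ U, u ≠ 1 → LS (Q u) u := fun u hu h1 => by
    rw [hQ'] at hE hC ⊢; exact ls_of_op_conj hz hE hC (hS u hu h1)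
  have hUQ : ∀ u ∈ U, u ≠ 1 → U ≤ Q u := fun u hu h1 v hv => by
    by_cases e : v = 1
    · rw [e]; exact one_mem _
    · exact hO u hu v hv h1 e
  have hQL : ∀ u ∈ U, u ≠ 1 → Q u ≤ LU := fun u hu h1 => by
    rw [hLU]; exact le_iSup₂_of_le u ⟨hu, h1⟩ le_rfl
  have hQQ : ∀ u ∈ U, u ≠ 1 → QU ≤ Q u := fun u hu h1 => by
    rw [hQU]; exact iInf₂_le u ⟨hu, h1⟩
  constructor
  · let S : Subgroup G :=
      { carrier := {g | g ∈ 𝐍 U ∧ ∀ x ∈ QU, g * x * g⁻¹ * x⁻¹ ∈ U}
        one_mem' := ⟨one_mem _, by simp⟩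
        mul_mem' := by
          rintro a b ⟨ha, ha'⟩ ⟨hb, hb'⟩
          refine ⟨mul_mem ha hb, fun x hx => ?_⟩
          have := mul_mem ((mem_normalizer_iff.1 ha _).1 (hb' x hx)) (ha' x hx)
          convert this using 1; group
        inv_mem' := by
          rintro a ⟨ha, ha'⟩
          refine ⟨inv_mem ha, fun x hx => ?_⟩
          have := (mem_normalizer_iff.1 (inv_mem ha) _).1 (inv_mem (ha' x hx))
          convert this using 1; group }
    have : LU ≤ S := by
      rw [hLU]
      refine iSup₂_le fun u hu q hq => ⟨?_, fun x hx => ?_⟩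
      · refine le_normalizer_of_cj_le (K := Q u) (fun q hq => cj_le_iff'.2 fun v hv => ?_) hq
        rcases (hL u hu.1 hu.2).toES.conj_eq hq (hUQ u hu.1 hu.2 hv) with e | e <;> rw [e]
        · exact hv
        · exact mul_mem hv hu.1
      · exact zpowers_le_of_mem hu.1 ((hL u hu.1 hu.2).toES.commutator_mem hq (hQQ u hu.1 hu.2 hx))
    exact fun g hg => (this hg).2
  · intro x hx hxU u hu
    by_cases h1 : u = 1
    · exact ⟨1, one_mem _, by simp [h1]⟩
    obtain ⟨q, hq, q1, q2⟩ := (hL u hu h1).toES.exists_sep (hUQ u hu h1) hu (hQQ u hu h1 hx) hxU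
    exact ⟨q, ⟨hQL u hu h1 hq, mem_centralizer_comm.2 fun v hv => (q1 v hv).symm⟩,
      (hL u hu h1).toES.conj_anti hq (hQQ u hu h1 hx) q2⟩

end Cfsg.Agent.S5597
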