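import Cfsg.Statements.S5598
import Cfsg.Agent.Lib.Known2.LE3

set_option autoImplicit false
open Cfsg

namespace Cfsg.Agent.S5598
open Cfsg.Lib.Known2 Cfsg.Lib.Amalg Cfsg.Lib.Core Subgroup

/-- Setting: `z` is an involution of the finite group `G`; for each element `x`, `Q x` is the largest normal 2-subgroup of the centralizer of `x`; `Q z` is extraspecial and contains its own centralizer in `G`. A subgroup `U` is singular when it is elementary abelian, every non-identity element of `U` is conjugate to `z`, and any two non-identity elements `u`, `v` of `U` are orthogonal (`v ∈ Q u`). Write `QU` for the intersection of the `Q u` and `LU` for the join of the `Q u` over the non-identity `u` in `U`. If the singular subgroup `U` is generated by a set `T` of non-identity elements, then `QU` is already the intersection of the `Q t` over `t ∈ T`. -/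
theorem result {G : Type*} [Group G] [Finite G]
    (Q : G → Subgroup G)
    (hQ : ∀ x : G, Q x = (Cfsg.pCore 2 ↥(Subgroup.centralizer ({x} : Set G))).map (Subgroup.centralizer ({x} : Set G)).subtype)
    (z : G) (hz : orderOf z = 2) (hE : Cfsg.IsExtraspecial 2 ↥(Q z))
    (hC : Subgroup.centralizer ((Q z : Subgroup G) : Set G) ≤ Q z)
    (U : Subgroup G) (hU2 : ∀ u ∈ U, u * u = 1)
    (hS : ∀ u ∈ U, u ≠ 1 → ∃ g : G, g * z * g⁻¹ = u)
    (hO : ∀ u ∈ U, ∀ v ∈ U, u ≠ 1 → v ≠ 1 → v ∈ Q u)
    (QU LU : Subgroup G) (hQU : QU = ⨅ u ∈ ((U : Set G) \ {1}), Q u) (hLU : LU = ⨆ u ∈ ((U : Set G) \ {1}), Q u)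
    (T : Set G) (hT : Subgroup.closure T = U) (hT1 : (1 : G) ∉ T) :
    QU = ⨅ t ∈ T, Q t := by
  have hQ' : ∀ x, Q x = pCoreOf 2 (centralizer {x}) := hQ
  have hL : ∀ u ∈ U, u ≠ 1 → LS (Q u) u := fun u hu h1 => by
    rw [hQ'] at hE hC ⊢; exact ls_of_op_conj hz hE hC (hS u hu h1)
  rw [hQU]
  refine le_antisymm (le_iInf₂ fun t ht => iInf₂_le t ⟨hT ▸ subset_closure ht, fun e => hT1 (e ▸ ht)⟩) ?_
  intro x hx
  rw [mem_iInf] at hx ⊢
  simp only [mem_iInf] at hx ⊢
  suffices H : ∀ u ∈ closure T, u ≠ 1 → x ∈ Q u from fun u hu => H u (hT ▸ hu.1) hu.2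
  intro u hu
  induction hu using closure_induction with
  | mem t ht => exact fun _ => hx t ht
  | one => exact fun h => absurd rfl h
  | inv a ha ih =>
    rw [hT] at ha
    rw [inv_eq_of_mul_eq_one_right (hU2 a ha)]; exact ih
  | mul s t hs ht ihs iht =>
    rw [hT] at hs ht
    intro h1
    by_cases s1 : s = 1
    · subst s1; rw [one_mul] at h1 ⊢; exact iht h1
    by_cases t1 : t = 1
    · subst t1; rw [mul_one] at h1 ⊢; exact ihs h1
    have l := hL s hs s1
    have hts : t ∈ Q s := hO s hs t ht s1 t1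
    obtain ⟨y, hy, e⟩ := l.toES.exists_anti hts t1 (fun e => h1 (by rw [e, hU2 s hs]))
    have e1 : y * t * y⁻¹ = s * t := by rw [l.toES.conj_anti hy hts (Ne.symm e), l.cen t hts]
    have m : y * x * y⁻¹ ∈ Q (s * t) := by
      rw [← e1, hQ', ← cj_Qc, ← hQ']; exact conj_mem_cj _ (iht t1)
    rcases l.toES.conj_eq hy (ihs s1) with e2 | e2 <;> rw [e2] at m
    · exact m
    · have := mul_mem m (inv_mem (hO _ (mul_mem hs ht) s hs h1 s1))
      simpa using this

end Cfsg.Agent.S5598
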