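import Cfsg.Statements.S5599
import Cfsg.Agent.Lib.Golay.Trio

set_option autoImplicit false
open scoped Pointwise
open Cfsg

namespace Cfsg.Agent.S5599

open Cfsg.Lib.Golay
open scoped Pointwise
set_option maxRecDepth 100000
set_option linter.unusedSimpArgs false

/-- In the automorphism group of the length-24 code, the two-point Mathieu group (permutations of the code's group fixing the extra point and the residue 0) has index 2 in the setwise stabiliser of that pair of points, and an element of the code's group interchanging the two points normalises the two-point group and induces on it, by conjugation, an automorphism that is not inner. -/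
theorem result (g : Equiv.Perm Cfsg.GolayPt) (hg : g ∈ Cfsg.M24) (h₁ : g none = some 0) (h₂ : g (some 0) = none) : Cfsg.Spor.M22.relIndex (Cfsg.M24 ⊓ MulAction.stabilizer (Equiv.Perm Cfsg.GolayPt) ({none, some 0} : Finset Cfsg.GolayPt)) = 2 ∧ (∀ x ∈ Cfsg.Spor.M22, g * x * g⁻¹ ∈ Cfsg.Spor.M22) ∧ ¬ ∃ h ∈ Cfsg.Spor.M22, ∀ x ∈ Cfsg.Spor.M22, g * x * g⁻¹ = h * x * h⁻¹ := by
  have e : ({none, some 0} : Finset GolayPt) = om 0x800001 := by decide +kernel
  have hn : ∀ x ∈ Spor.M22, g * x * g⁻¹ ∈ Spor.M22 := fun x hx => by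
    rw [mem_M22] at hx ⊢
    refine ⟨mul_mem (mul_mem hg hx.1) (inv_mem hg), ?_, ?_⟩
    · rw [Equiv.Perm.mul_apply, Equiv.Perm.mul_apply, show g⁻¹ none = some 0 from
        Equiv.Perm.inv_eq_iff_eq.mpr h₂.symm, hx.2.2, h₂]
    · rw [Equiv.Perm.mul_apply, Equiv.Perm.mul_apply, show g⁻¹ (some 0) = none from
        Equiv.Perm.inv_eq_iff_eq.mpr h₁.symm, hx.2.1, h₁]
  refine ⟨?_, hn, ?_⟩
  · have hle : Spor.M22 ≤ HD2 := fun x hx => by
      rw [mem_M22] at hx
      refine ⟨hx.1, smul_eq_of_fix ?_⟩
      rw [← e]; simp [hx.2.1, hx.2.2]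
    rw [e, Subgroup.relIndex]
    have := (Spor.M22.subgroupOf HD2).index_mul_card
    rw [card_subgroupOf, inf_eq_right.mpr hle, card_M22, HD2_aux.2] at this
    exact Nat.eq_of_mul_eq_mul_right (by norm_num : 0 < 443520) this
  rintro ⟨h, hh, hc⟩
  rw [mem_M22] at hh
  have hcm : h⁻¹ * g ∈ M24 := mul_mem (inv_mem hh.1) hg
  have c1 : (h⁻¹ * g) none = some 0 := by simp [h₁, Equiv.symm_apply_eq, hh.2.2]
  have c2 : (h⁻¹ * g) (some 0) = none := by simp [h₂, Equiv.symm_apply_eq, hh.2.1]
  have c3 : ∀ x ∈ Spor.M22, (h⁻¹ * g) * x = x * (h⁻¹ * g) := fun x hx => by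
    calc h⁻¹ * g * x = h⁻¹ * (g * x * g⁻¹) * g := by group
      _ = _ := by rw [hc x hx]; group
  generalize h⁻¹ * g = c at hcm c1 c2 c3
  have c4 : ∀ x, x ≠ none → x ≠ some 0 → c x = x := fun x x1 x2 => by
    by_contra x3
    have y1 : c x ≠ none := fun e => x2 (c.injective (e.trans c2.symm))
    have y2 : c x ≠ some 0 := fun e => x1 (c.injective (e.trans c1.symm))
    obtain ⟨z, hz⟩ : ∃ z, z ∉ ({none, some 0, x, c x} : Finset GolayPt) := by
      by_contra! h
      have := (Finset.card_le_card (show Finset.univ ⊆ _ from fun x _ => h x)).trans Finset.card_le_four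
      rw [Finset.card_univ, card_golayPt] at this; omega
    simp only [Finset.mem_insert, Finset.mem_singleton, not_or] at hz
    obtain ⟨m, hm, m1, m2, m3, m4⟩ := exists_M24_four (a := none) (b := some 0) (c := x) (d := c x)
      (a' := none) (b' := some 0) (c' := x) (d' := z)
      (by simp [x1.symm, x2.symm, y1.symm, y2.symm, Ne.symm x3])
      (by simp [x1.symm, x2.symm, Ne.symm hz.1, Ne.symm hz.2.1, Ne.symm hz.2.2.1])
    have := congrArg (fun f : Equiv.Perm GolayPt => f x) (c3 m (mem_M22.mpr ⟨hm, m1, m2⟩))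
    simp only [Equiv.Perm.mul_apply, m3, m4] at this
    exact hz.2.2.2 this.symm
  have c5 := smul_octad_eq hcm (o := om 0xd4b004) (F := om 0x54b004) (om_mem_octads (by decide +kernel))
    (fun p hp => c4 p (by rintro rfl; revert hp; decide +kernel) (by rintro rfl; revert hp; decide +kernel))
    (by rw [card_om_inter]; decide)
  have c6 := apply_mem_iff_of_smul_eq c5 none
  rw [c1, none_mem_om, zero_mem_om] at c6
  revert c6; decide

end Cfsg.Agent.S5599
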