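import Cfsg.Statements.S5600
import Cfsg.Agent.Lib.Golay.M12

set_option autoImplicit false
open scoped Pointwise
open Cfsg

namespace Cfsg.Agent.S5600

open Cfsg.Lib.Golay
open scoped Pointwise
set_option maxRecDepth 100000
set_option linter.unusedSimpArgs false

/-- Although the group of the length-24 code is only 5-transitive on the 24 points, it induces the full symmetric group on every 6-element subset: every permutation of a 6-set E is the restriction of an element of the group mapping E to itself. The pointwise stabiliser of E has order 16 when E lies in an octad and order 3 otherwise; in the latter case the setwise stabiliser of E has order 2160. -/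
theorem result (E : Finset Cfsg.GolayPt) (hE : E.card = 6) : (∀ σ : Equiv.Perm ↥E, ∃ g ∈ Cfsg.M24, ∀ p : ↥E, g p = σ p) ∧ ((∃ o ∈ Cfsg.octads, E ⊆ o) → Nat.card {g : Equiv.Perm Cfsg.GolayPt // g ∈ Cfsg.M24 ∧ ∀ p ∈ E, g p = p} = 16) ∧ ((¬ ∃ o ∈ Cfsg.octads, E ⊆ o) → Nat.card {g : Equiv.Perm Cfsg.GolayPt // g ∈ Cfsg.M24 ∧ ∀ p ∈ E, g p = p} = 3 ∧ Nat.card ↥(MulAction.stabilizer Cfsg.M24 E) = 2160) := by
  have hfix : Nat.card {g : Equiv.Perm Cfsg.GolayPt // g ∈ Cfsg.M24 ∧ ∀ p ∈ E, g p = p} =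
      Nat.card ↥(M24 ⊓ MulAction.stabilizer (Equiv.Perm GolayPt) E ⊓
        fixingSubgroup (Equiv.Perm GolayPt) (E : Set GolayPt)) := by
    rw [← card_subtype_fixing]
    exact Nat.card_congr (Equiv.subtypeEquivRight fun g =>
      ⟨fun h => ⟨⟨h.1, smul_eq_of_fix h.2⟩, h.2⟩, fun h => ⟨h.1.1, h.2⟩⟩)
  have key : ∀ m b : ℕ, ∀ σ ∈ M24, E = σ • om m →
      Nat.card ↥(M24 ⊓ MulAction.stabilizer (Equiv.Perm GolayPt) (om m) ⊓
        fixingSubgroup (Equiv.Perm GolayPt) (om m : Set GolayPt)) ≤ b →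
      720 * b ≤ Nat.card ↥(M24 ⊓ MulAction.stabilizer (Equiv.Perm GolayPt) (om m)) →
      (∀ σ : Equiv.Perm ↥E, ∃ g ∈ Cfsg.M24, ∀ p : ↥E, g p = σ p) ∧
      Nat.card {g : Equiv.Perm Cfsg.GolayPt // g ∈ Cfsg.M24 ∧ ∀ p ∈ E, g p = p} = b ∧
      Nat.card ↥(MulAction.stabilizer Cfsg.M24 E) = 720 * b := by
    intro m b σ hσ e h1 h2
    have c1 := (ConjA.base hσ).inf_stab (om m)
    have c2 := c1.inf (ConjA.fixing σ (om m : Set GolayPt))
    rw [← Finset.coe_smul_finset, ← e] at c2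
    rw [← e] at c1
    obtain ⟨a1, a2, a3⟩ := restrict_cert (H := M24 ⊓ MulAction.stabilizer (Equiv.Perm GolayPt) E) (E := E) (fun g hg x hx => stab_inv_finset hg.2 hx)
      (c2.card_eq.trans_le h1) (by rw [hE, c1.card_eq]; exact h2)
    refine ⟨fun s => ?_, hfix.trans a2, ?_⟩
    · obtain ⟨g, hg, h⟩ := a1 s; exact ⟨g, hg.1, h⟩
    · rw [card_of_map_subtype _ (map_subtype_stabilizer M24 E), a3, hE]; rfl
  rcases std_six hE with ⟨h, σ, hσ, e⟩ | ⟨h, σ, hσ, e⟩
  · obtain ⟨a1, a2, -⟩ := key _ 16 σ hσ e (card_le_sixteen (fun g hg => ⟨hg.1.1,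
        smul_octad_eq hg.1.1 O0_mem ((mem_fixingSubgroup_iff _).mp hg.2) (by rw [card_om_inter]; decide)⟩)
        fun g hg i hi => (mem_fixingSubgroup_iff _).mp hg.2 _ (by revert i; decide +kernel))
      (Coding.chain_le [(0, 6, [[0], [1, 1]]), (1, 5, [[0, 1, 0, 1], [1, 0, 1, 1]]), (2, 4, [[0, 1, 0], [1, 0, 0]]), (3, 3, [[0], [1, 1], [1, 0, 0, 1]]), (5, 2, [[1], [2], [0, 0], [0, 2, 0]]), (23, 1, [[0], [1], [2], [3]]), (4, 16, [])]
        (gs := [0x1090d080f140e121511130b070a1610060c030417020500, 0x7130c12090e0f06110d15081014040a16050b01030217])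
        (inH_inf_om (inH_of_allL (by decide +kernel)) _ (by decide +kernel)) (by decide +kernel))
    exact ⟨a1, fun _ => a2, fun h' => absurd h h'⟩
  · obtain ⟨a1, a2, a3⟩ := key _ 3 σ hσ e (Coding.chain_exact
        [(23, 24, [[1, 0, 1], [0, 1, 0, 0]]), (0, 23, [[0, 1, 1, 0], [0, 0, 1, 1, 1]]), (1, 22, [[0, 1, 1], [1, 0, 1]]), (2, 21, [[1, 1, 0, 1], [0, 0, 1, 1, 0]]), (3, 20, [[1, 1, 1, 0, 1], [0, 1, 1, 0, 0, 1], [1, 0, 0, 1, 1, 0, 0]]), (4, 16, [[1, 2]])] [(5, 3, [])]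
        inH_gM24p (by decide +kernel) (le_of_eq card_M24) (inf_le_left.trans inf_le_left)
        fun g hg l hl => (mem_fixingSubgroup_iff _).mp hg.2 _ (by revert l; decide +kernel))
      (Coding.chain_le [(0, 6, [[0, 0, 1], [1, 0, 1, 0, 1]]), (1, 5, [[0, 0, 0, 1], [0, 0, 1, 0], [0, 1, 0, 0, 0]]), (2, 4, [[0], [1, 2], [2, 1]]), (3, 3, [[1], [2, 0]]), (4, 2, [[0, 1]]), (23, 1, [[0]]), (5, 3, [])]
        (gs := [0x170b150e11160614100f130a050c0809070d120002040103, 0x30e12070a1408050b1511100c0d0f061613090104170002])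
        (inH_inf_om (inH_of_allL (by decide +kernel)) _ (by decide +kernel)) (by decide +kernel))
    exact ⟨a1, fun h' => absurd h' h, fun _ => ⟨a2, a3⟩⟩

end Cfsg.Agent.S5600
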