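import Cfsg.Statements.S5601
import Cfsg.Agent.Lib.Golay.Cls

set_option autoImplicit false
open scoped Pointwise
open Cfsg

namespace Cfsg.Agent.S5601

open Cfsg.Lib.Golay
open scoped Pointwise
set_option maxRecDepth 100000
set_option linter.unusedSimpArgs false

/-- The group of the length-24 code has exactly two conjugacy classes of subgroups of order 3: a subgroup of order 3 fixes either exactly 6 of the 24 points or none of them, both cases occur, and two subgroups of order 3 with the same number of fixed points are conjugate. -/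
theorem result : (∀ X : Subgroup ↥Cfsg.M24, Nat.card X = 3 → {p : Cfsg.GolayPt | ∀ x ∈ X, ((x : ↥Cfsg.M24) : Equiv.Perm Cfsg.GolayPt) p = p}.ncard = 6 ∨ {p : Cfsg.GolayPt | ∀ x ∈ X, ((x : ↥Cfsg.M24) : Equiv.Perm Cfsg.GolayPt) p = p}.ncard = 0) ∧ (∃ X : Subgroup ↥Cfsg.M24, Nat.card X = 3 ∧ {p : Cfsg.GolayPt | ∀ x ∈ X, ((x : ↥Cfsg.M24) : Equiv.Perm Cfsg.GolayPt) p = p}.ncard = 6) ∧ (∃ X : Subgroup ↥Cfsg.M24, Nat.card X = 3 ∧ {p : Cfsg.GolayPt | ∀ x ∈ X, ((x : ↥Cfsg.M24) : Equiv.Perm Cfsg.GolayPt) p = p}.ncard = 0) ∧ ∀ X Y : Subgroup ↥Cfsg.M24, Nat.card X = 3 → Nat.card Y = 3 → {p : Cfsg.GolayPt | ∀ x ∈ X, ((x : ↥Cfsg.M24) : Equiv.Perm Cfsg.GolayPt) p = p}.ncard = {p : Cfsg.GolayPt | ∀ x ∈ Y, ((x : ↥Cfsg.M24) : Equiv.Perm Cfsg.GolayPt) p = p}.ncard → ∃ k : ↥Cfsg.M24, MulAut.conj k • X = Y := by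

  have : Fact (Nat.Prime 3) := ⟨Nat.prime_three⟩
  have hfix : ∀ x : M24, {p : GolayPt | ∀ y ∈ Subgroup.zpowers x, ((y : M24) : Equiv.Perm GolayPt) p = p}.ncard =
      (Finset.univ.filter fun p => (x : Equiv.Perm GolayPt) p = p).card := fun x => by
    rw [← Set.ncard_coe_finset]; congr 1; ext p
    simp only [Set.mem_ofPred_eq, Finset.coe_filter, Finset.mem_univ, true_and]
    exact ⟨fun h => h x (Subgroup.mem_zpowers x), fun h =>
      show Subgroup.zpowers x ≤ MulAction.stabilizer M24 p from Subgroup.zpowers_le_of_mem h⟩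
  have hgen : ∀ X : Subgroup M24, Nat.card X = 3 → ∃ x : M24, X = Subgroup.zpowers x ∧
      orderOf (x : Equiv.Perm GolayPt) = 3 := fun X hX => by
    obtain ⟨x, hx⟩ := exists_prime_orderOf_dvd_card' (G := X) 3 (by rw [hX])
    rw [← Subgroup.orderOf_coe] at hx
    exact ⟨x, (Subgroup.eq_of_le_of_card_ge (Subgroup.zpowers_le_of_mem x.2) (by
      rw [Nat.card_zpowers, hx, hX])).symm, by rwa [Subgroup.orderOf_coe]⟩
  have hc : ∀ (x y : M24) (z k l : Equiv.Perm GolayPt), k ∈ M24 → l ∈ M24 → x = k * z * k⁻¹ → y = l * z * l⁻¹ →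
      ∃ m : M24, MulAut.conj m • Subgroup.zpowers x = Subgroup.zpowers y := fun x y z k l hk hl e1 e2 =>
    ⟨⟨l * k⁻¹, mul_mem hl (inv_mem hk)⟩, by
      refine (MonoidHom.map_zpowers _ _).trans ?_; congr 1
      exact Subtype.ext (by
        show l * k⁻¹ * x * (l * k⁻¹)⁻¹ = y
        rw [e1, e2]; group)⟩
  refine ⟨fun X hX => ?_, ⟨Subgroup.zpowers ⟨_, inH_z3A.2⟩, ?_, ?_⟩,
    ⟨Subgroup.zpowers ⟨_, inH_z3B.2⟩, ?_, ?_⟩, fun X Y hX hY e => ?_⟩
  · obtain ⟨x, rfl, hx⟩ := hgen X hX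
    rw [hfix]
    exact (M24_three x.2 hx).imp (fun ⟨k, _, e⟩ => by rw [e]; exact card_fix_conj k fix_z3A)
      fun ⟨k, _, e⟩ => by rw [e]; exact card_fix_conj k fix_z3B
  · rw [Nat.card_zpowers, ← Subgroup.orderOf_coe]; exact orderOf_z3A
  · rw [hfix, fix_z3A, card_om]; decide
  · rw [Nat.card_zpowers, ← Subgroup.orderOf_coe]; exact orderOf_z3B
  · rw [hfix, fix_z3B, card_om]; decide
  obtain ⟨x, rfl, hx⟩ := hgen X hX
  obtain ⟨y, rfl, hy⟩ := hgen Y hY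
  rw [hfix, hfix] at e
  by_cases h0 : (Finset.univ.filter fun p => (x : Equiv.Perm GolayPt) p = p).card = 0
  · obtain ⟨k, hk, e1⟩ := std_3B x.2 hx (card_fix_eq_zero.mp h0)
    obtain ⟨l, hl, e2⟩ := std_3B y.2 hy (card_fix_eq_zero.mp (e ▸ h0))
    exact hc _ _ _ _ _ hk hl e1 e2
  · obtain ⟨k, hk, e1⟩ := std_3A x.2 hx h0
    obtain ⟨l, hl, e2⟩ := std_3A y.2 hy (e ▸ h0)
    exact hc _ _ _ _ _ hk hl e1 e2

end Cfsg.Agent.S5601
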