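import Cfsg.Statements.S5604
import Cfsg.Agent.Lib.Golay.Fix

set_option autoImplicit false
open scoped Pointwise
open Cfsg

namespace Cfsg.Agent.S5604

open Cfsg.Lib.Golay
open scoped Pointwise
set_option maxRecDepth 100000
set_option linter.unusedSimpArgs false
set_option maxHeartbeats 400000

/-- an element of order 7. -/
def z7 : ℕ := 0x5130d0907120310081106140c0b0f0a15040116170e0200

/-- For a subgroup S of order 7 of the group of the length-24 code (a Sylow 7-subgroup): the normaliser of S has order 126, the centraliser of S has order 42 and is non-abelian, and the whole normaliser leaves some trio invariant. (These are the orders of a Frobenius group of order 21 times a symmetric group of degree 3; the isomorphism type itself is not asserted here.) -/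
theorem result (S : Subgroup ↥Cfsg.M24) (hS : Nat.card S = 7) : Nat.card ↥(Subgroup.normalizer (S : Set ↥Cfsg.M24)) = 126 ∧ Nat.card ↥(Subgroup.centralizer (S : Set ↥Cfsg.M24)) = 42 ∧ (∃ x ∈ Subgroup.centralizer (S : Set ↥Cfsg.M24), ∃ y ∈ Subgroup.centralizer (S : Set ↥Cfsg.M24), x * y ≠ y * x) ∧ ∃ T ∈ Cfsg.trios, ∀ n ∈ Subgroup.normalizer (S : Set ↥Cfsg.M24), ((n : ↥Cfsg.M24) : Equiv.Perm Cfsg.GolayPt) • T = T := by

  have hz : gc.InH HT3 z7 := inH_inf_fam (gs := [z7]) (inH_of_allL (by decide +kernel)) 3 _ T0_spec.1 (by decide +kernel) _ (by simp)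
  have ho : orderOf (gc.dec z7) = 7 := hz.1.orderOf_eq (by norm_num) (by decide +kernel)
  have e1 : gc.gen [z7] = Subgroup.zpowers (gc.dec z7) := by
    rw [Subgroup.zpowers_eq_closure, Coding.gen]; simp
  have hle : gc.gen [z7] ≤ M24 := (Coding.gen_le (by simpa using hz)).trans inf_le_left
  obtain ⟨σ, c⟩ := conjTo_of_card (A := S) hle (p := 7) (k := 1) (m := 34974720) (by norm_num)
    (by rw [e1, Nat.card_zpowers, ho]; rfl) card_M24 (by norm_num) hS
  have hN : M24 ⊓ Subgroup.normalizer (gc.gen [z7] : Set (Equiv.Perm GolayPt)) ≤ HT3 := fun g hg => ⟨hg.1, by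
    have k : ∀ o, o ∈ tr 0x82402f6920d0149f00 ↔ o ∈ octads ∧ ∀ k ∈ gc.gen [z7], k • o = o := fun o => by
      constructor
      · intro h
        obtain ⟨m, hm, rfl⟩ := mem_famL.mp h
        exact ⟨T0_spec.2.2.1 _ h, (gc.setCode.gen_fix_iff imgT (gs := [z7]) (by simpa using hz.1.impl_setT)
          (lt_of_mem_unp hm)).mpr (by revert m; decide +kernel)⟩
      · rintro ⟨h1, h2⟩
        obtain ⟨m, hm, rfl⟩ := exists_isOct h1
        have hm' := isOct_iff.mp hm
        have := allCw (q := fun m => bimp (Nat.beq (pop24 m) 8) (bimp (Nat.beq (imgT z7 m) m)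
          (anyL (unp 3 0x82402f6920d0149f00) (Nat.beq m)))) (by decide +kernel) hm'.1
        simp only [bimp_iff, anyL_iff] at this
        obtain ⟨x, hx, e⟩ := this (beq_iff.mpr hm'.2) ((cwCode.smul_eq_iff (hz.impl_cw inf_le_left) hm'.1).mp
          (h2 _ (Subgroup.subset_closure ⟨z7, by simp, rfl⟩)))
        exact mem_famL.mpr ⟨x, hx, by rw [beq_iff.mp e]⟩
    refine Finset.eq_of_subset_of_card_le (fun o ho => ?_) (by rw [Finset.card_smul_finset])
    obtain ⟨o, h, rfl⟩ := Finset.mem_smul_finset.mp ho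
    rw [k] at h ⊢
    refine ⟨(smul_mem_octads_iff hg.1).mpr h.1, fun x hx => ?_⟩
    have := h.2 _ ((Subgroup.mem_normalizer_iff''.mp hg.2 x).mp hx)
    rwa [mul_smul, mul_smul, inv_smul_eq_iff] at this⟩
  have hCN : Subgroup.centralizer {gc.dec z7} ≤ Subgroup.normalizer (gc.gen [z7] : Set (Equiv.Perm GolayPt)) := by
    rw [← Subgroup.centralizer_closure, ← Subgroup.zpowers_eq_closure, ← e1]; exact Subgroup.centralizer_le_normalizer _
  have eC : M24 ⊓ Subgroup.centralizer (gc.gen [z7] : Set (Equiv.Perm GolayPt)) = HT3 ⊓ Subgroup.centralizer {gc.dec z7} := by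
    rw [e1, Subgroup.zpowers_eq_closure, Subgroup.centralizer_closure]
    exact le_antisymm (le_inf ((inf_le_inf_left _ hCN).trans hN) inf_le_right) (inf_le_inf_right _ inf_le_left)
  obtain ⟨mem, t, L, h1, h2, h3⟩ := Coding.bfsH_gen gc.conjCode (conjN 24) (fun g hg => (inH_gHT3 g hg).1.impl_conj) hz.1
    (M := 1021) (d := 10) (a := 25) (k := fun mem L => band (Nat.beq (lenL L) 1536)
      (allL [0, 3, 5, 6] fun i => bnot (mem (powN 24 z7 i)))) (by decide +kernel)
  rw [band_iff, beq_iff, ← h2.ncard, gen_gHT3, allL_iff] at h1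
  rw [gen_gHT3] at h3
  have cC : Nat.card ↥(HT3 ⊓ Subgroup.centralizer {gc.dec z7}) = 42 := by
    rw [← stabilizer_toCj]; exact card_stab_of_ncard_orbit h1.1 card_HT3
  refine ⟨?_, by rw [c.centralizer.card_eq, eC, cC], ?_, σ • tr 0x82402f6920d0149f00, smul_mem_trios c.mem T0_spec.2,
    fun n hn => (conj_mem_stabilizer_iff' σ n _).mp (hN ((c.normalizer.iff n).mp hn)).2⟩
  · rw [c.normalizer.card_eq, card_eq_orbit_mul _ (toCj (gc.dec z7)), stabilizer_toCj,
      show M24 ⊓ Subgroup.normalizer (gc.gen [z7] : Set (Equiv.Perm GolayPt)) ⊓ Subgroup.centralizer {gc.dec z7} =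
        HT3 ⊓ Subgroup.centralizer {gc.dec z7} from le_antisymm (inf_le_inf_right _ hN)
          (le_inf (inf_le_inf inf_le_left hCN) inf_le_right), cC]
    have hn : gc.InH M24 0x7140c030f0006120215090e011705110a080d0b16130410 := inH_of_inM24 (by decide +kernel)
    have hn2 := (hn.1.conj hz.1).2
    rw [show conjN gc.n 0x7140c030f0006120215090e011705110a080d0b16130410 z7 = powN gc.n z7 2 by decide +kernel,
      (hz.1.powN 2).2] at hn2
    have hn' := hn.2
    generalize gc.dec 0x7140c030f0006120215090e011705110a080d0b16130410 = n at hn2 hn'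
    have hnN : n ∈ M24 ⊓ Subgroup.normalizer (gc.gen [z7] : Set (Equiv.Perm GolayPt)) :=
      ⟨hn', Subgroup.mem_normalizer_fintype fun x hx => by
        rw [e1] at hx ⊢
        obtain ⟨i, rfl⟩ := hx
        rw [← conj_zpow, ← hn2]; exact Subgroup.zpow_mem _ (Subgroup.pow_mem _ (Subgroup.mem_zpowers _) _) _⟩
    have : MulAction.orbit ↥(M24 ⊓ Subgroup.normalizer (gc.gen [z7] : Set (Equiv.Perm GolayPt))) (toCj (gc.dec z7)) =
        {toCj (gc.dec z7 ^ 1), toCj (gc.dec z7 ^ 2), toCj (gc.dec z7 ^ 4)} := by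
      refine Set.Subset.antisymm ?_ ?_
      · rintro _ ⟨⟨g, hg⟩, rfl⟩
        have a1 := (Subgroup.mem_normalizer_iff.mp hg.2 _).mp (show gc.dec z7 ∈ gc.gen [z7] from e1 ▸ Subgroup.mem_zpowers _)
        rw [e1, ← mem_powers_iff_mem_zpowers, mem_powers_iff_mem_range_orderOf, ho, Finset.mem_image] at a1
        obtain ⟨i, hi, e⟩ := a1
        have a2 : i ∉ [0, 3, 5, 6] := fun h => bnot_iff.mp (h1.2 i h) ((h3 _ (hz.1.powN i).1).mpr
          ((mem_orbit_toCj (x := gc.dec z7) (y := gc.dec _)).mpr ⟨g, hN hg, by rw [(hz.1.powN i).2, e]⟩))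
        show toCj (g * gc.dec z7 * g⁻¹) ∈ _
        rw [← e]
        have : i = 1 ∨ i = 2 ∨ i = 4 := by simp at hi a2; omega
        rcases this with rfl | rfl | rfl <;> simp
      · rintro _ (rfl | rfl | rfl)
        · rw [pow_one]; exact MulAction.mem_orbit_self _
        · exact mem_orbit_toCj.mpr ⟨n, hnN, hn2.symm⟩
        · exact mem_orbit_toCj.mpr ⟨n * n, mul_mem hnN hnN, by
            rw [show n * n * gc.dec z7 * (n * n)⁻¹ = n * (n * gc.dec z7 * n⁻¹) * n⁻¹ by group, ← hn2, ← conj_pow, ← hn2, ← pow_mul]⟩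
    have inj : ∀ i < 7, ∀ j < 7, toCj (gc.dec z7 ^ i) = toCj (gc.dec z7 ^ j) → i = j := fun i hi j hj e =>
      pow_injOn_Iio_orderOf (x := gc.dec z7) (by rwa [ho]) (by rwa [ho]) e
    rw [this, Set.ncard_eq_three.mpr ⟨_, _, _, fun e => absurd (inj _ (by norm_num) _ (by norm_num) e) (by norm_num),
      fun e => absurd (inj _ (by norm_num) _ (by norm_num) e) (by norm_num),
      fun e => absurd (inj _ (by norm_num) _ (by norm_num) e) (by norm_num), rfl⟩]
  have hg : ∀ g ∈ [0x9050e0401100c00130b11060d15160702030f17140a0812, 0xc1504170d000a1001081603110e0502061314070b0f0912],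
      gc.InH (HT3 ⊓ Subgroup.centralizer {gc.dec z7}) g :=
    inH_inf_cent (inH_inf_fam (inH_of_allL (by decide +kernel)) 3 _ T0_spec.1 (by decide +kernel)) hz.1 (by decide +kernel)
  rw [← eC] at hg
  have a := hg _ List.mem_cons_self
  have b := hg _ (List.mem_cons_of_mem _ List.mem_cons_self)
  refine ⟨_, c.centralizer.conj_mem a.2, _, c.centralizer.conj_mem b.2, fun e => ?_⟩
  have e' := congrArg Subtype.val e
  simp only [Subgroup.coe_mul, conj_mul, mul_left_inj, mul_right_inj] at e'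
  rw [← a.1.dec_mul b.1, ← b.1.dec_mul a.1, (a.1.mul b.1).dec_inj (b.1.mul a.1)] at e'
  revert e'; decide +kernel

end Cfsg.Agent.S5604
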