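import Cfsg.Statements.S5607
import Cfsg.Agent.Lib.Golay.C2

set_option autoImplicit false
open scoped Pointwise
open Cfsg

namespace Cfsg.Agent.S5607

open Cfsg.Lib.Golay
open scoped Pointwise
set_option maxRecDepth 100000
set_option linter.unusedSimpArgs false

/-- For a fixed-point-free involution t of the group of the length-24 code: its centraliser in that group has order 7680, is transitive on the 24 points, and is contained, together with t, in the stabiliser of some sextet. -/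
theorem result (t : Equiv.Perm Cfsg.GolayPt) (ht : t ∈ Cfsg.M24) (h₂ : orderOf t = 2) (h₀ : ∀ p, t p ≠ p) : Nat.card {c : Equiv.Perm Cfsg.GolayPt // c ∈ Cfsg.M24 ∧ c * t = t * c} = 7680 ∧ (∀ p q : Cfsg.GolayPt, ∃ c ∈ Cfsg.M24, c * t = t * c ∧ c p = q) ∧ ∃ S ∈ Cfsg.sextets, t • S = S ∧ ∀ c ∈ Cfsg.M24, c * t = t * c → c • S = S := by

  obtain ⟨k, hk, rfl⟩ := std_2B ht h₂ h₀
  have c : ConjA k (M24 ⊓ Subgroup.centralizer {k * gc.dec z2B * k⁻¹}) C2B := by
    have := (ConjA.base hk).inf_stab (toCj (gc.dec z2B))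
    rwa [smul_toCj, stabilizer_toCj, stabilizer_toCj] at this
  have hm : ∀ g, g ∈ M24 ∧ g * (k * gc.dec z2B * k⁻¹) = k * gc.dec z2B * k⁻¹ * g ↔ k⁻¹ * g * k ∈ C2B := fun g => by
    rw [← c g, Subgroup.mem_inf, Subgroup.mem_centralizer_singleton_iff]
  have hS : ∀ g ∈ M24, g * (k * gc.dec z2B * k⁻¹) = k * gc.dec z2B * k⁻¹ * g → g • k • sx 0xda1 = k • sx 0xda1 :=
    fun g hg h => (conj_mem_stabilizer_iff' k g _).mp (Coding.gen_le (inH_inf_sx inf_le_left inH_gC2B 0xda1
      (by decide +kernel)) (gen_gC2B ▸ (hm g).mp ⟨hg, h⟩)).2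
  refine ⟨?_, fun p q => ?_, k • sx 0xda1, smul_mem_sextets hk S0_V.2, hS _ ht rfl, hS⟩
  · rw [← card_C2B, ← c.card_eq]
    exact Nat.card_congr (Equiv.subtypeEquivRight fun g => (hm g).trans (c g).symm)
  · obtain ⟨g, hg, e⟩ := pts_class inH_gC2B 0 (by decide) 0xffffff (by decide +kernel) (a := k⁻¹ p) (b := k⁻¹ q)
      (by generalize k⁻¹ p = x; revert x; decide +kernel) (by generalize k⁻¹ q = x; revert x; decide +kernel)
    have := (hm (k * g * k⁻¹)).mpr (by simpa [mul_assoc] using hg)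
    exact ⟨_, this.1, this.2, by simp only [Equiv.Perm.mul_apply]; rw [e]; simp⟩

end Cfsg.Agent.S5607
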