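import Cfsg.Statements.S5608
import Cfsg.Agent.Lib.Golay.C2

set_option autoImplicit false
open scoped Pointwise
open Cfsg

namespace Cfsg.Agent.S5608

open Cfsg.Lib.Golay
open scoped Pointwise
set_option maxRecDepth 100000
set_option linter.unusedSimpArgs false
set_option maxHeartbeats 400000

/-- If an element of order 3 and an involution of the group of the length-24 code commute, then either the element of order 3 has exactly 6 fixed points and the involution exactly 8, or both are fixed-point-free. -/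
theorem result (x s : Equiv.Perm Cfsg.GolayPt) (hx : x ∈ Cfsg.M24) (hs : s ∈ Cfsg.M24) (h₃ : orderOf x = 3) (h₂ : orderOf s = 2) (hc : Commute x s) : ((Finset.univ.filter fun p => x p = p).card = 6 ∧ (Finset.univ.filter fun p => s p = p).card = 8) ∨ ((Finset.univ.filter fun p => x p = p).card = 0 ∧ (Finset.univ.filter fun p => s p = p).card = 0) := by

  have key : ∀ (z y y' n m : ℕ) (k : Equiv.Perm GolayPt), k ∈ M24 → s = k * gc.dec z * k⁻¹ →
      gc.InH (M24 ⊓ Subgroup.centralizer {gc.dec z}) y → gc.Valid y' →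
      Nat.card ↥(M24 ⊓ Subgroup.centralizer {gc.dec z}) = n * 3 → ¬ 3 ∣ n → orderOf (gc.dec y) = 3 →
      clsCert gc.n [y] (fun y => band (Nat.beq (powN gc.n y 3) (idN gc.n)) (bnot (Nat.beq y (idN gc.n))))
        [(idN gc.n, y), (idN gc.n, y')] = true →
      (Finset.univ.filter fun p => gc.dec y p = p) = om m → (Finset.univ.filter fun p => gc.dec y' p = p) = om m →
      (Finset.univ.filter fun p => x p = p).card = pop24 m := by
    intro z y y' n m k hk e hy hy' hn h3 ho hcl f1 f2
    have e1 : gc.gen [y] = Subgroup.zpowers (gc.dec y) := by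
      rw [Subgroup.zpowers_eq_closure, Coding.gen]; simp
    obtain ⟨w, hw, l, -, e2⟩ := Coding.prime_classes (H := M24 ⊓ Subgroup.centralizer {gc.dec z}) (ss := [y]) (by simpa using hy) Nat.prime_three
      (by rw [hn, e1, Nat.card_zpowers, ho]) h3 (T := [(idN gc.n, y), (idN gc.n, y')])
      (fun g hg => by
        obtain rfl : g = idN gc.n := by simpa only [mapL_eq, List.map_cons, List.map_nil, List.mem_cons, List.not_mem_nil, or_false, or_self] using hg
        exact Coding.inH_one (c := gc) _) (Z := [y, y']) (by simp [hy.1, hy'])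
      (List.forall_mem_cons.mpr ⟨by simp, List.forall_mem_cons.mpr ⟨by simp, by simp⟩⟩) hcl
      (g := k⁻¹ * x * k) ⟨M24.mul_mem (M24.mul_mem (M24.inv_mem hk) hx) hk, by
        refine Subgroup.mem_centralizer_singleton_iff.mpr ?_
        calc k⁻¹ * x * k * gc.dec z = k⁻¹ * (x * s) * k := by rw [e]; group
          _ = _ := by rw [hc.eq, e]; group⟩
      (by rw [← h₃, ← orderOf_conj' k⁻¹, inv_inv]; exact pow_orderOf_eq_one _)
      (fun h => by rw [← orderOf_conj' k⁻¹, inv_inv, h] at h₃; simp at h₃)
    rw [show x = (k * l) * gc.dec w * (k * l)⁻¹ by rw [show x = k * (k⁻¹ * x * k) * k⁻¹ by group, e2]; group]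
    simp only [List.mem_cons, List.not_mem_nil, or_false] at hw
    rcases hw with rfl | rfl
    exacts [card_fix_conj _ f1, card_fix_conj _ f2]
  rcases M24_invol hs h₂ with ⟨k, hk, e⟩ | ⟨k, hk, e⟩
  · exact Or.inl ⟨key z2A z3A (invN 24 z3A) 7168 _ k hk e (inH_inf_cent (gs := [z3A]) (inH_of_allL (by decide +kernel)) inH_z2A.1
      (by decide +kernel) _ (by simp)) inH_z3A.1.inv.1 card_C2A (by norm_num) orderOf_z3A (by decide +kernel) fix_z3A
      (inH_z3A.1.inv.1.filter_fix (by decide +kernel)), e ▸ card_fix_conj k fix_z2A⟩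
  · exact Or.inr ⟨key z2B z3B (invN 24 z3B) 2560 _ k hk e (inH_inf_cent (gs := [z3B]) (inH_of_allL (by decide +kernel)) inH_z2B.1
      (by decide +kernel) _ (by simp)) inH_z3B.1.inv.1 card_C2B (by norm_num) orderOf_z3B (by decide +kernel) fix_z3B
      (inH_z3B.1.inv.1.filter_fix (by decide +kernel)), e ▸ card_fix_conj k fix_z2B⟩

end Cfsg.Agent.S5608
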