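import Cfsg.Statements.S5609
import Cfsg.Agent.Lib.Golay.Oct

set_option autoImplicit false
open scoped Pointwise
open Cfsg

namespace Cfsg.Agent.S5609

open Cfsg.Lib.Golay
open scoped Pointwise
set_option maxRecDepth 100000
set_option linter.unusedSimpArgs false

/-- In the graph on the 759 octads of the length-24 code in which two octads are adjacent when they are disjoint, the graph is connected (of diameter 3) and two distinct octads are at distance 1, 2 or 3 exactly when they meet in 0, 4 or 2 points respectively. -/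
theorem result (o o' : Finset Cfsg.GolayPt) (ho : o ∈ Cfsg.octads) (ho' : o' ∈ Cfsg.octads) (hne : o ≠ o') : (Cfsg.blockGraph Cfsg.octads).Connected ∧ ((Cfsg.blockGraph Cfsg.octads).dist ⟨o, ho⟩ ⟨o', ho'⟩ = 1 ↔ (o ∩ o').card = 0) ∧ ((Cfsg.blockGraph Cfsg.octads).dist ⟨o, ho⟩ ⟨o', ho'⟩ = 2 ↔ (o ∩ o').card = 4) ∧ ((Cfsg.blockGraph Cfsg.octads).dist ⟨o, ho⟩ ⟨o', ho'⟩ = 3 ↔ (o ∩ o').card = 2) := by
  have adj : ∀ a b : octads, (blockGraph octads).Adj a b ↔ ((a : Finset GolayPt) ∩ b).card = 0 := by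
    intro a b
    rw [blockGraph, SimpleGraph.fromRel_adj, disjoint_comm (a := (b : Finset GolayPt)), or_self,
      Finset.card_eq_zero, Finset.disjoint_iff_inter_eq_empty]
    refine and_iff_right_of_imp fun h e => ?_
    rw [e, Finset.inter_self] at h
    have := b.2.2
    rw [h] at this; simp at this
  have nf : ∀ (a b : octads) (r s k : ℕ), isOct r = true → isOct s = true →
      ((a : Finset GolayPt) ∩ b).card = pop24 (Nat.land 0x82402f r) → pop24 (Nat.land 0x82402f s) = 0 →
      pop24 (Nat.land s r) = k →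
      ∃ c : octads, (blockGraph octads).Adj a c ∧ ((c : Finset GolayPt) ∩ b).card = k := by
    rintro ⟨a, ha⟩ ⟨b, hb⟩ r s k hr hs h h0 hk
    obtain ⟨σ, hσ, rfl⟩ := std_octad ha
    obtain ⟨b, rfl⟩ := exists_eq_smul σ b
    rw [card_smul_inter, ← card_om_inter] at h
    obtain ⟨g, hg, rfl⟩ := exists_HO_octad (om_mem_octads hr) ((smul_mem_octads_iff hσ).mp hb) h.symm
    refine ⟨⟨σ • g • om s, (smul_mem_octads_iff hσ).mpr ((smul_mem_octads_iff hg.1).mpr (om_mem_octads hs))⟩, ?_, ?_⟩
    · rw [adj]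
      show (σ • om 0x82402f ∩ σ • g • om s).card = 0
      rw [card_smul_inter, ← show g • om 0x82402f = om 0x82402f from hg.2, card_smul_inter, card_om_inter, h0]
    · show (σ • g • om s ∩ σ • g • om r).card = k
      rw [card_smul_inter, card_smul_inter, card_om_inter, hk]
  have h4 : ∀ a b : octads, ((a : Finset GolayPt) ∩ b).card = 4 → (blockGraph octads).edist a b = 2 := by
    intro a b h
    obtain ⟨c, h1, h2⟩ := nf a b 0x841907 0x6920d0 0 (by decide +kernel) (by decide +kernel) h (by decide) (by decide)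
    refine SimpleGraph.edist_eq_two_iff.mpr ⟨fun e => ?_, by rw [adj]; omega, c, h1, ((adj c b).mpr h2).symm⟩
    rw [e, Finset.inter_self, b.2.2] at h; omega
  have h2 : ∀ a b : octads, ((a : Finset GolayPt) ∩ b).card = 2 → (blockGraph octads).edist a b = 3 := by
    intro a b h
    obtain ⟨c, h1, h2⟩ := nf a b 0xd4b004 0x3da100 4 (by decide +kernel) (by decide +kernel) h (by decide) (by decide)
    refine le_antisymm ((SimpleGraph.edist_triangle (v := c)).trans ?_) (Order.add_one_le_of_lt
      (SimpleGraph.two_lt_edist_iff.mpr ⟨fun e => ?_, by rw [adj]; omega, ?_⟩))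
    · rw [SimpleGraph.edist_eq_one_iff_adj.mpr h1, h4 c b h2]; rfl
    · rw [e, Finset.inter_self, b.2.2] at h; omega
    · rw [Set.eq_empty_iff_forall_notMem]
      rintro ⟨c, hc⟩ ⟨c1, c2⟩
      rw [SimpleGraph.mem_neighborSet, adj, Finset.card_eq_zero, ← Finset.disjoint_iff_inter_eq_empty] at c1 c2
      have e1 := card_symmDiff_add (a : Finset GolayPt) b
      have e2 := card_symmDiff_add (symmDiff (a : Finset GolayPt) b) c
      have e3 := card_cw (symmDiff_mem_cw (symmDiff_mem_cw a.2.1 b.2.1) hc.1)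
      have e4 : (symmDiff (a : Finset GolayPt) b ∩ c).card = 0 := by
        rw [Finset.card_eq_zero, ← Finset.disjoint_iff_inter_eq_empty]
        exact (Finset.disjoint_union_left.mpr ⟨c1, c2⟩).mono_left Finset.symmDiff_subset_union
      rw [a.2.2, b.2.2, hc.2] at *
      omega
  have tri : ∀ a b : octads, a = b ∨ ((a : Finset GolayPt) ∩ b).card = 0 ∨
      ((a : Finset GolayPt) ∩ b).card = 2 ∨ ((a : Finset GolayPt) ∩ b).card = 4 := by
    intro a b
    have h1 := even_card_inter a.2.1 b.2.1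
    by_cases h : 5 ≤ ((a : Finset GolayPt) ∩ b).card
    · exact Or.inl (Subtype.ext (octad_eq_of_card_inter a.2 b.2 h))
    · rw [Nat.even_iff] at h1; omega
  have hne' : (⟨o, ho⟩ : octads) ≠ ⟨o', ho'⟩ := fun e => hne (congrArg Subtype.val e)
  refine ⟨?_, ?_⟩
  · have : Nonempty octads := ⟨⟨o, ho⟩⟩
    refine ⟨fun a b => SimpleGraph.reachable_of_edist_ne_top ?_⟩
    rcases tri a b with h | h | h | h
    · rw [h, SimpleGraph.edist_self]; simp
    · rw [SimpleGraph.edist_eq_one_iff_adj.mpr ((adj a b).mpr h)]; simp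
    · rw [h2 a b h]; simp
    · rw [h4 a b h]; simp
  rcases (tri _ _).resolve_left hne' with h | h | h
  · have := SimpleGraph.dist_eq_one_iff_adj.mpr ((adj _ _).mpr h)
    rw [this, show (o ∩ o').card = 0 from h]; simp
  · have : (blockGraph octads).dist ⟨o, ho⟩ ⟨o', ho'⟩ = 3 := by rw [SimpleGraph.dist, h2 _ _ h]; rfl
    rw [this, show (o ∩ o').card = 2 from h]; simp
  · have : (blockGraph octads).dist ⟨o, ho⟩ ⟨o', ho'⟩ = 2 := by rw [SimpleGraph.dist, h4 _ _ h]; rfl
    rw [this, show (o ∩ o').card = 4 from h]; simp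

end Cfsg.Agent.S5609
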