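import Cfsg.Statements.S5610
import Cfsg.Agent.Lib.Golay.Trio

set_option autoImplicit false
open scoped Pointwise
open Cfsg

namespace Cfsg.Agent.S5610

open Cfsg.Lib.Golay
open scoped Pointwise
set_option maxRecDepth 100000
set_option linter.unusedSimpArgs false

/-- The stabiliser of an octad in the group of the length-24 code has exactly three orbits on the 3795 trios, of sizes 15, 420 and 3360, and exactly three orbits on the 1771 sextets, of sizes 35, 840 and 896. -/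
theorem result (o : Finset Cfsg.GolayPt) (ho : o ∈ Cfsg.octads) : (∃ X₁ ∈ Cfsg.trios, ∃ X₂ ∈ Cfsg.trios, ∃ X₃ ∈ Cfsg.trios, (MulAction.orbit ↥(MulAction.stabilizer Cfsg.M24 o) X₁).ncard = 15 ∧ (MulAction.orbit ↥(MulAction.stabilizer Cfsg.M24 o) X₂).ncard = 420 ∧ (MulAction.orbit ↥(MulAction.stabilizer Cfsg.M24 o) X₃).ncard = 3360 ∧ Cfsg.trios = MulAction.orbit ↥(MulAction.stabilizer Cfsg.M24 o) X₁ ∪ MulAction.orbit ↥(MulAction.stabilizer Cfsg.M24 o) X₂ ∪ MulAction.orbit ↥(MulAction.stabilizer Cfsg.M24 o) X₃) ∧ (∃ Y₁ ∈ Cfsg.sextets, ∃ Y₂ ∈ Cfsg.sextets, ∃ Y₃ ∈ Cfsg.sextets, (MulAction.orbit ↥(MulAction.stabilizer Cfsg.M24 o) Y₁).ncard = 35 ∧ (MulAction.orbit ↥(MulAction.stabilizer Cfsg.M24 o) Y₂).ncard = 840 ∧ (MulAction.orbit ↥(MulAction.stabilizer Cfsg.M24 o) Y₃).ncard = 896 ∧ Cfsg.sextets = MulAction.orbit ↥(MulAction.stabilizer Cfsg.M24 o) Y₁ ∪ MulAction.orbit ↥(MulAction.stabilizer Cfsg.M24 o) Y₂ ∪ MulAction.orbit ↥(MulAction.stabilizer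 Cfsg.M24 o) Y₃) := by
  obtain ⟨σ, hσ, rfl⟩ := std_octad ho
  constructor
  · obtain ⟨h1, h2, h3⟩ := orbits_trio inf_le_left inH_gHO gen_gHO [(0x82402f6920d0149f00, 15), (0x84805e5241a1293e00, 420), (0xc48a1131412c0a34c2, 3360)]
      (by decide +kernel) (by decide) (by decide)
    have hc := ConjTo.stab hσ (om 0x82402f)
    refine ⟨σ • tr 0x82402f6920d0149f00, (smul_mem_trios_iff hσ).mpr (h1 (0x82402f6920d0149f00, 15) (by decide)), σ • tr 0x84805e5241a1293e00, (smul_mem_trios_iff hσ).mpr (h1 (0x84805e5241a1293e00, 420) (by decide)), σ • tr 0xc48a1131412c0a34c2, (smul_mem_trios_iff hσ).mpr (h1 (0xc48a1131412c0a34c2, 3360) (by decide)),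
      (hc.ncard_orbit _).trans (h2 (0x82402f6920d0149f00, 15) (by decide)), (hc.ncard_orbit _).trans (h2 (0x84805e5241a1293e00, 420) (by decide)), (hc.ncard_orbit _).trans (h2 (0xc48a1131412c0a34c2, 3360) (by decide)), ?_⟩
    · ext y
      rw [hc.mem_iff_orbits (fun g hg x => smul_mem_trios_iff hg) h1 h3]
      simp only [List.mem_cons, List.not_mem_nil, or_false, exists_eq_or_imp, exists_eq_left, Set.mem_union, or_assoc]
  · obtain ⟨h1, h2, h3⟩ := orbits_sx inf_le_left inH_gHO gen_gHO [(0xda1, 35), (0xe4f, 840), (0xa1b, 896)]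
      (by decide +kernel) (by decide) (by decide)
    have hc := ConjTo.stab hσ (om 0x82402f)
    refine ⟨σ • sx 0xda1, (smul_mem_sextets_iff hσ).mpr (h1 (0xda1, 35) (by decide)), σ • sx 0xe4f, (smul_mem_sextets_iff hσ).mpr (h1 (0xe4f, 840) (by decide)), σ • sx 0xa1b, (smul_mem_sextets_iff hσ).mpr (h1 (0xa1b, 896) (by decide)),
      (hc.ncard_orbit _).trans (h2 (0xda1, 35) (by decide)), (hc.ncard_orbit _).trans (h2 (0xe4f, 840) (by decide)), (hc.ncard_orbit _).trans (h2 (0xa1b, 896) (by decide)), ?_⟩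
    · ext y
      rw [hc.mem_iff_orbits (fun g hg x => smul_mem_sextets_iff hg) h1 h3]
      simp only [List.mem_cons, List.not_mem_nil, or_false, exists_eq_or_imp, exists_eq_left, Set.mem_union, or_assoc]

end Cfsg.Agent.S5610
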