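import Cfsg.Statements.S5611
import Cfsg.Agent.Lib.Golay.Trio

set_option autoImplicit false
open scoped Pointwise
open Cfsg

namespace Cfsg.Agent.S5611

open Cfsg.Lib.Golay
open scoped Pointwise
set_option maxRecDepth 100000
set_option linter.unusedSimpArgs false

/-- The stabiliser of a sextet in the group of the length-24 code has exactly three orbits on the 759 octads, of sizes 15, 360 and 384, and exactly four orbits on the 3795 trios, of sizes 15, 180, 720 and 2880. -/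
theorem result (S : Finset (Finset Cfsg.GolayPt)) (hS : S ∈ Cfsg.sextets) : (∃ X₁ ∈ Cfsg.octads, ∃ X₂ ∈ Cfsg.octads, ∃ X₃ ∈ Cfsg.octads, (MulAction.orbit ↥(MulAction.stabilizer Cfsg.M24 S) X₁).ncard = 15 ∧ (MulAction.orbit ↥(MulAction.stabilizer Cfsg.M24 S) X₂).ncard = 360 ∧ (MulAction.orbit ↥(MulAction.stabilizer Cfsg.M24 S) X₃).ncard = 384 ∧ Cfsg.octads = MulAction.orbit ↥(MulAction.stabilizer Cfsg.M24 S) X₁ ∪ MulAction.orbit ↥(MulAction.stabilizer Cfsg.M24 S) X₂ ∪ MulAction.orbit ↥(MulAction.stabilizer Cfsg.M24 S) X₃) ∧ (∃ Y₁ ∈ Cfsg.trios, ∃ Y₂ ∈ Cfsg.trios, ∃ Y₃ ∈ Cfsg.trios, ∃ Y₄ ∈ Cfsg.trios, (MulAction.orbit ↥(MulAction.stabilizer Cfsg.M24 S) Y₁).ncard = 15 ∧ (MulAction.orbit ↥(MulAction.stabilizer Cfsg.M24 S) Y₂).ncard = 180 ∧ (MulAction.orbit ↥(MulAction.stabilizer Cfsg.M24 S) Y₃).ncard = 720 ∧ (MulAction.orbit ↥(MulAction.stabilizer Cfsg.M24 S) Y₄).ncard = 2880 ∧ Cfsg.trios = MulAction.orbit ↥(MulAction.stabilizer Cfsg.M24 S)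 Y₁ ∪ MulAction.orbit ↥(MulAction.stabilizer Cfsg.M24 S) Y₂ ∪ MulAction.orbit ↥(MulAction.stabilizer Cfsg.M24 S) Y₃ ∪ MulAction.orbit ↥(MulAction.stabilizer Cfsg.M24 S) Y₄) := by
  obtain ⟨σ, hσ, rfl⟩ := std_sextet hS
  constructor
  · obtain ⟨h1, h2, h3⟩ := orbits_oct inf_le_left inH_gHS6 gen_gHS6 [(0xc12017, 15), (0xc75001, 360), (0x49f002, 384)]
      (by decide +kernel) (by decide) (by decide)
    have hc := ConjTo.stab hσ (sx 0xda1)
    refine ⟨σ • om 0xc12017, (smul_mem_octads_iff hσ).mpr (h1 (0xc12017, 15) (by decide)), σ • om 0xc75001, (smul_mem_octads_iff hσ).mpr (h1 (0xc75001, 360) (by decide)), σ • om 0x49f002, (smul_mem_octads_iff hσ).mpr (h1 (0x49f002, 384) (by decide)),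
      (hc.ncard_orbit _).trans (h2 (0xc12017, 15) (by decide)), (hc.ncard_orbit _).trans (h2 (0xc75001, 360) (by decide)), (hc.ncard_orbit _).trans (h2 (0x49f002, 384) (by decide)), ?_⟩
    · ext y
      rw [hc.mem_iff_orbits (fun g hg x => smul_mem_octads_iff hg) h1 h3]
      simp only [List.mem_cons, List.not_mem_nil, or_false, exists_eq_or_imp, exists_eq_left, Set.mem_union, or_assoc]
  · obtain ⟨h1, h2, h3⟩ := orbits_trio inf_le_left inH_gHS6 gen_gHS6 [(0x82402f6920d0149f00, 15), (0xc040d92b2026149f00, 180), (0xa60849506226099590, 720), (0x84805e5241a1293e00, 2880)]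
      (by decide +kernel) (by decide) (by decide)
    have hc := ConjTo.stab hσ (sx 0xda1)
    refine ⟨σ • tr 0x82402f6920d0149f00, (smul_mem_trios_iff hσ).mpr (h1 (0x82402f6920d0149f00, 15) (by decide)), σ • tr 0xc040d92b2026149f00, (smul_mem_trios_iff hσ).mpr (h1 (0xc040d92b2026149f00, 180) (by decide)), σ • tr 0xa60849506226099590, (smul_mem_trios_iff hσ).mpr (h1 (0xa60849506226099590, 720) (by decide)), σ • tr 0x84805e5241a1293e00, (smul_mem_trios_iff hσ).mpr (h1 (0x84805e5241a1293e00, 2880) (by decide)),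
      (hc.ncard_orbit _).trans (h2 (0x82402f6920d0149f00, 15) (by decide)), (hc.ncard_orbit _).trans (h2 (0xc040d92b2026149f00, 180) (by decide)), (hc.ncard_orbit _).trans (h2 (0xa60849506226099590, 720) (by decide)), (hc.ncard_orbit _).trans (h2 (0x84805e5241a1293e00, 2880) (by decide)), ?_⟩
    · ext y
      rw [hc.mem_iff_orbits (fun g hg x => smul_mem_trios_iff hg) h1 h3]
      simp only [List.mem_cons, List.not_mem_nil, or_false, exists_eq_or_imp, exists_eq_left, Set.mem_union, or_assoc]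

end Cfsg.Agent.S5611
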