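import Cfsg.Statements.S5612
import Cfsg.Agent.Lib.Golay.Trio

set_option autoImplicit false
open scoped Pointwise
open Cfsg

namespace Cfsg.Agent.S5612

open Cfsg.Lib.Golay
open scoped Pointwise
set_option maxRecDepth 100000
set_option linter.unusedSimpArgs false

/-- The stabiliser of a trio in the group of the length-24 code has exactly three orbits on the 759 octads, of sizes 3, 84 and 672, and exactly four orbits on the 1771 sextets, of sizes 7, 84, 336 and 1344. -/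
theorem result (T : Finset (Finset Cfsg.GolayPt)) (hT : T ∈ Cfsg.trios) : (∃ X₁ ∈ Cfsg.octads, ∃ X₂ ∈ Cfsg.octads, ∃ X₃ ∈ Cfsg.octads, (MulAction.orbit ↥(MulAction.stabilizer Cfsg.M24 T) X₁).ncard = 3 ∧ (MulAction.orbit ↥(MulAction.stabilizer Cfsg.M24 T) X₂).ncard = 84 ∧ (MulAction.orbit ↥(MulAction.stabilizer Cfsg.M24 T) X₃).ncard = 672 ∧ Cfsg.octads = MulAction.orbit ↥(MulAction.stabilizer Cfsg.M24 T) X₁ ∪ MulAction.orbit ↥(MulAction.stabilizer Cfsg.M24 T) X₂ ∪ MulAction.orbit ↥(MulAction.stabilizer Cfsg.M24 T) X₃) ∧ (∃ Y₁ ∈ Cfsg.sextets, ∃ Y₂ ∈ Cfsg.sextets, ∃ Y₃ ∈ Cfsg.sextets, ∃ Y₄ ∈ Cfsg.sextets, (MulAction.orbit ↥(MulAction.stabilizer Cfsg.M24 T) Y₁).ncard = 7 ∧ (MulAction.orbit ↥(MulAction.stabilizer Cfsg.M24 T) Y₂).ncard = 84 ∧ (MulAction.orbit ↥(MulAction.stabilizer Cfsg.M24 T) Y₃).ncard = 336 ∧ (MulAction.orbit ↥(MulAction.stabilizer Cfsg.M24 T) Y₄).ncard = 1344 ∧ Cfsg.sextets = MulAction.orbit ↥(MulAction.stabilizer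 Cfsg.M24 T) Y₁ ∪ MulAction.orbit ↥(MulAction.stabilizer Cfsg.M24 T) Y₂ ∪ MulAction.orbit ↥(MulAction.stabilizer Cfsg.M24 T) Y₃ ∪ MulAction.orbit ↥(MulAction.stabilizer Cfsg.M24 T) Y₄) := by
  obtain ⟨σ, hσ, rfl⟩ := std_trio hT
  constructor
  · obtain ⟨h1, h2, h3⟩ := orbits_oct inf_le_left inH_gHT3 gen_gHT3 [(0x82402f, 3), (0xa96009, 84), (0xc75001, 672)]
      (by decide +kernel) (by decide) (by decide)
    have hc := ConjTo.stab hσ (tr 0x82402f6920d0149f00)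
    refine ⟨σ • om 0x82402f, (smul_mem_octads_iff hσ).mpr (h1 (0x82402f, 3) (by decide)), σ • om 0xa96009, (smul_mem_octads_iff hσ).mpr (h1 (0xa96009, 84) (by decide)), σ • om 0xc75001, (smul_mem_octads_iff hσ).mpr (h1 (0xc75001, 672) (by decide)),
      (hc.ncard_orbit _).trans (h2 (0x82402f, 3) (by decide)), (hc.ncard_orbit _).trans (h2 (0xa96009, 84) (by decide)), (hc.ncard_orbit _).trans (h2 (0xc75001, 672) (by decide)), ?_⟩
    · ext y
      rw [hc.mem_iff_orbits (fun g hg x => smul_mem_octads_iff hg) h1 h3]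
      simp only [List.mem_cons, List.not_mem_nil, or_false, exists_eq_or_imp, exists_eq_left, Set.mem_union, or_assoc]
  · obtain ⟨h1, h2, h3⟩ := orbits_sx inf_le_left inH_gHT3 gen_gHT3 [(0xda1, 7), (0x737, 84), (0xdf2, 336), (0xe4f, 1344)]
      (by decide +kernel) (by decide) (by decide)
    have hc := ConjTo.stab hσ (tr 0x82402f6920d0149f00)
    refine ⟨σ • sx 0xda1, (smul_mem_sextets_iff hσ).mpr (h1 (0xda1, 7) (by decide)), σ • sx 0x737, (smul_mem_sextets_iff hσ).mpr (h1 (0x737, 84) (by decide)), σ • sx 0xdf2, (smul_mem_sextets_iff hσ).mpr (h1 (0xdf2, 336) (by decide)), σ • sx 0xe4f, (smul_mem_sextets_iff hσ).mpr (h1 (0xe4f, 1344) (by decide)),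
      (hc.ncard_orbit _).trans (h2 (0xda1, 7) (by decide)), (hc.ncard_orbit _).trans (h2 (0x737, 84) (by decide)), (hc.ncard_orbit _).trans (h2 (0xdf2, 336) (by decide)), (hc.ncard_orbit _).trans (h2 (0xe4f, 1344) (by decide)), ?_⟩
    · ext y
      rw [hc.mem_iff_orbits (fun g hg x => smul_mem_sextets_iff hg) h1 h3]
      simp only [List.mem_cons, List.not_mem_nil, or_false, exists_eq_or_imp, exists_eq_left, Set.mem_union, or_assoc]

end Cfsg.Agent.S5612
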