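import Cfsg.Statements.S5613
import Cfsg.Agent.Lib.Golay.Oct

set_option autoImplicit false
open scoped Pointwise
open Cfsg

namespace Cfsg.Agent.S5613

open Cfsg.Lib.Golay
open scoped Pointwise
set_option maxRecDepth 100000
set_option linter.unusedSimpArgs false

/-- In the group of the length-24 code, the joint stabiliser of two octads has order 10752, 1152 or 720 according as the octads meet in 0, 4 or 2 points. -/
theorem result (o o' : Finset Cfsg.GolayPt) (ho : o ∈ Cfsg.octads) (ho' : o' ∈ Cfsg.octads) : ((o ∩ o').card = 0 → Nat.card ↥(MulAction.stabilizer Cfsg.M24 o ⊓ MulAction.stabilizer Cfsg.M24 o') = 10752) ∧ ((o ∩ o').card = 4 → Nat.card ↥(MulAction.stabilizer Cfsg.M24 o ⊓ MulAction.stabilizer Cfsg.M24 o') = 1152) ∧ ((o ∩ o').card = 2 → Nat.card ↥(MulAction.stabilizer Cfsg.M24 o ⊓ MulAction.stabilizer Cfsg.M24 o') = 720) := by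
  obtain ⟨σ, hσ, rfl⟩ := std_octad ho
  obtain ⟨o', rfl⟩ := exists_eq_smul σ o'
  rw [smul_mem_octads_iff hσ] at ho'
  rw [card_smul_inter]
  refine ⟨fun h => ?_, fun h => ?_, fun h => ?_⟩
  · obtain ⟨g, hg, rfl⟩ := exists_HO_octad (o := om 0x149f00) (om_mem_octads (by decide +kernel)) ho'
      (by rw [h, card_om_inter]; decide)
    have := ((ConjTo.stab (mul_mem hσ hg.1) (om 0x82402f)).inf_stab (om 0x149f00)).card_eq
    rw [mul_smul, mul_smul, hg.2] at this
    exact this.trans (stab_cw_cert inf_le_left gen_gHO inH_gHO _ (by decide +kernel) (n := 30) card_HO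
      (by decide +kernel)).2
  · obtain ⟨g, hg, rfl⟩ := exists_HO_octad (o := om 0x841907) (om_mem_octads (by decide +kernel)) ho'
      (by rw [h, card_om_inter]; decide)
    have := ((ConjTo.stab (mul_mem hσ hg.1) (om 0x82402f)).inf_stab (om 0x841907)).card_eq
    rw [mul_smul, mul_smul, hg.2] at this
    exact this.trans (stab_cw_cert inf_le_left gen_gHO inH_gHO _ (by decide +kernel) (n := 280) card_HO
      (by decide +kernel)).2
  · obtain ⟨g, hg, rfl⟩ := exists_HO_octad (o := om 0xd4b004) (om_mem_octads (by decide +kernel)) ho'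
      (by rw [h, card_om_inter]; decide)
    have := ((ConjTo.stab (mul_mem hσ hg.1) (om 0x82402f)).inf_stab (om 0xd4b004)).card_eq
    rw [mul_smul, mul_smul, hg.2] at this
    exact this.trans (stab_cw_cert inf_le_left gen_gHO inH_gHO _ (by decide +kernel) (n := 448) card_HO
      (by decide +kernel)).2

end Cfsg.Agent.S5613
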