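import Cfsg.Statements.S5614
import Cfsg.Agent.Lib.Golay.Label

set_option autoImplicit false
open scoped Pointwise
open Cfsg

namespace Cfsg.Agent.S5614

open Cfsg.Lib.Golay
open scoped Pointwise
set_option maxRecDepth 100000
set_option linter.unusedSimpArgs false

/-- In the group of the length-24 code, the joint stabiliser of two octads meeting in exactly two points is isomorphic to the symmetric group of degree 6. -/
theorem result (o o' : Finset Cfsg.GolayPt) (ho : o ∈ Cfsg.octads) (ho' : o' ∈ Cfsg.octads) (h₂ : (o ∩ o').card = 2) : Nonempty (↥(MulAction.stabilizer Cfsg.M24 o ⊓ MulAction.stabilizer Cfsg.M24 o') ≃* Equiv.Perm (Fin 6)) := by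

  obtain ⟨σ, hσ, rfl⟩ := std_octad ho
  obtain ⟨o', rfl⟩ := exists_eq_smul σ o'
  rw [card_smul_inter] at h₂
  obtain ⟨g, hg, rfl⟩ := exists_HO_octad (om_mem_octads (m := 0xd4b004) (by decide +kernel))
    ((smul_mem_octads_iff hσ).mp ho') (by rw [h₂, card_om_inter]; decide)
  have c := (ConjTo.stab (mul_mem hσ hg.1) (om 0x82402f)).inf_stab (om 0xd4b004)
  rw [mul_smul, mul_smul, show g • om 0x82402f = om 0x82402f from hg.2] at c
  have h1 := (stab_cw_cert inf_le_left gen_gHO inH_gHO 0xd4b004 (by decide +kernel) (n := 448) (N := 720)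
    card_HO (by decide +kernel)).2
  obtain ⟨e⟩ := equiv_perm_of_faithful (H := HO ⊓ MulAction.stabilizer (Equiv.Perm GolayPt) (om 0xd4b004))
    (E := om 0x82402f \ om 0xd4b004) (fun g hg x hx => stab_inv_finset
      (show g • _ = _ by rw [← smul_sdiff', hg.1.2, hg.2]) hx)
    (fun g hg h => Coding.chain_base [(0, 6, [[0, 1, 0], [0, 0, 0, 1]]), (1, 5, [[0, 1], [1, 0], [1, 1, 1]]), (3, 4, [[1, 0], [1, 2]]), (5, 3, [[0, 1]]), (14, 2, [])]
      (gs := [0x1712070c09140008160e0d0f150b0413060a011005021103, 0x20c071613120e0a0d000f140906150b0410010811170305])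
      (inH_inf_om (inH_inf_om (inH_of_allL (by decide +kernel)) _ (by decide +kernel)) _ (by decide +kernel))
      (by decide +kernel) h1.le hg fun l hl => h _ (by revert l; decide +kernel))
    (n := 6) (by decide +kernel) h1
  exact ⟨c.equiv.trans e⟩

end Cfsg.Agent.S5614
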