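import Cfsg.Statements.S5615
import Cfsg.Agent.Lib.Golay.Trio
import Cfsg.Agent.Lib.Golay.Label

set_option autoImplicit false
open scoped Pointwise
open Cfsg

namespace Cfsg.Agent.S5615

open Cfsg.Lib.Golay
open scoped Pointwise
set_option maxRecDepth 100000
set_option linter.unusedSimpArgs false

/-- An octad of the length-24 code lies in exactly 15 trios; the stabiliser of the octad in the code's group acts doubly transitively on these 15 trios, and the kernel of this action is the pointwise stabiliser of the octad. -/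
theorem result (o : Finset Cfsg.GolayPt) (ho : o ∈ Cfsg.octads) : {T : Finset (Finset Cfsg.GolayPt) | T ∈ Cfsg.trios ∧ o ∈ T}.ncard = 15 ∧ (∀ T₁ T₂ T₁' T₂' : Finset (Finset Cfsg.GolayPt), T₁ ∈ Cfsg.trios → T₂ ∈ Cfsg.trios → T₁' ∈ Cfsg.trios → T₂' ∈ Cfsg.trios → o ∈ T₁ → o ∈ T₂ → o ∈ T₁' → o ∈ T₂' → T₁ ≠ T₂ → T₁' ≠ T₂' → ∃ g ∈ Cfsg.M24, g • o = o ∧ g • T₁ = T₁' ∧ g • T₂ = T₂') ∧ ∀ g ∈ Cfsg.M24, g • o = o → ((∀ T ∈ Cfsg.trios, o ∈ T → g • T = T) ↔ ∀ p ∈ o, g p = p) := by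
  have h15 : {T | T ∈ trios ∧ om 0x82402f ∈ T} = MulAction.orbit HO (tr 0x82402f6920d0149f00) := by
    ext T; rw [mem_orbit_subgroup]
    constructor
    · rintro ⟨h1, h2⟩
      obtain ⟨σ, hσ, e1, e2⟩ := std_trio_one h1 h2
      exact ⟨σ, ⟨hσ, e2.symm⟩, e1.symm⟩
    · rintro ⟨g, hg, rfl⟩
      refine ⟨smul_mem_trios hg.1 T0_spec.2, ?_⟩
      rw [← show g • om 0x82402f = om 0x82402f from hg.2]
      exact Finset.smul_mem_smul_finset (om_mem_T0 (by decide))
  have n15 : {T | T ∈ trios ∧ om 0x82402f ∈ T}.ncard = 15 := by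
    rw [h15]
    exact Coding.ncard_orbitH (famCode 3) (famAct 3) gen_gHO (fun g hg => (inH_gHO g hg).1.impl_fam 3)
      T0_spec.1 (M := 13) (d := 4) (a := 1) (by decide +kernel)
  have T1 := isTrio_spec (x := 0x82402f659280182d50) (by decide +kernel)
  have nf : ∀ T₁ T₂ : Finset (Finset GolayPt), T₁ ∈ trios → T₂ ∈ trios → o ∈ T₁ → o ∈ T₂ → T₁ ≠ T₂ →
      ∃ σ ∈ M24, σ • om 0x82402f = o ∧ σ • tr 0x82402f6920d0149f00 = T₁ ∧ σ • tr 0x82402f659280182d50 = T₂ := by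
    intro T₁ T₂ h1 h2 h3 h4 hne
    obtain ⟨σ, hσ, rfl, rfl⟩ := std_trio_one h1 h3
    obtain ⟨T₂, rfl⟩ := exists_eq_smul σ T₂
    rw [smul_mem_trios_iff hσ] at h2
    rw [Finset.smul_mem_smul_finset_iff] at h4
    have hK : ∀ g ∈ [0x140b060913010f160508150d0704100c0a11120203170e, 0x110c12040b15050f10020a160d130706091403081701000e],
        gc.InH (HO ⊓ MulAction.stabilizer (Equiv.Perm GolayPt) (tr 0x82402f6920d0149f00)) g :=
      inH_inf_fam (inH_inf_om (inH_of_allL (by decide +kernel)) _ (by decide +kernel)) 3 _ T0_spec.1 (by decide +kernel)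
    have n14 := Coding.ncard_orbitH (famCode 3) (famAct 3) rfl (fun g hg => (hK g hg).1.impl_fam 3)
      T1.1 (n := 14) (M := 13) (d := 4) (a := 1) (by decide +kernel)
    have hT1 : tr 0x82402f659280182d50 ∈ {T | T ∈ trios ∧ om 0x82402f ∈ T} :=
      ⟨T1.2, mem_famL.mpr ⟨_, by decide +kernel, rfl⟩⟩
    have e := Set.eq_of_subset_of_ncard_le (t := {T | T ∈ trios ∧ om 0x82402f ∈ T} \ {tr 0x82402f6920d0149f00})
      (s := MulAction.orbit (gc.gen [0x140b060913010f160508150d0704100c0a11120203170e, 0x110c12040b15050f10020a160d130706091403081701000e]) (tr 0x82402f659280182d50))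
      (by
        rintro _ ⟨⟨g, hg⟩, rfl⟩
        have hg' := Coding.gen_le hK hg
        refine ⟨?_, fun e => ?_⟩
        · rw [h15] at hT1 ⊢; exact MulAction.mapsTo_smul_orbit (⟨g, hg'.1⟩ : HO) _ hT1
        · have e' : g • tr 0x82402f659280182d50 = g • tr 0x82402f6920d0149f00 := e.trans hg'.2.symm
          have := (famCode 3).dec_inj _ _ T1.1 T0_spec.1 (smul_left_cancel g e')
          exact absurd this (by decide))
      (by rw [Set.ncard_diff_singleton_of_mem (by exact ⟨T0_spec.2, om_mem_T0 (by decide)⟩), n15]; exact n14.ge)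
      (finite_set_fam _)
    obtain ⟨g, hg, e'⟩ := mem_orbit_subgroup.mp (e.ge ⟨⟨h2, h4⟩, fun e => hne (by rw [e])⟩ : T₂ ∈ _)
    have hg' := Coding.gen_le hK hg
    exact ⟨σ * g, mul_mem hσ hg'.1.1, by rw [mul_smul, hg'.1.2], by rw [mul_smul, hg'.2], by rw [mul_smul, e']⟩
  refine ⟨?_, fun T₁ T₂ T₁' T₂' a1 a2 b1 b2 a3 a4 b3 b4 a5 b5 => ?_, fun g hg hgo => ?_⟩
  · obtain ⟨σ, hσ, rfl⟩ := std_octad ho
    rw [ncard_setOf_smul σ]
    simpa only [smul_mem_trios_iff hσ, Finset.smul_mem_smul_finset_iff] using n15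
  · obtain ⟨σ, hσ, e1, rfl, rfl⟩ := nf _ _ a1 a2 a3 a4 a5
    obtain ⟨τ, hτ, e2, rfl, rfl⟩ := nf _ _ b1 b2 b3 b4 b5
    refine ⟨τ * σ⁻¹, mul_mem hτ (inv_mem hσ), ?_, by simp [mul_smul], by simp [mul_smul]⟩
    rw [mul_smul, ← e1, inv_smul_smul, e1, e2]
  obtain ⟨σ, hσ, rfl⟩ := std_octad ho
  let K : Subgroup (Equiv.Perm GolayPt) :=
    HO ⊓ fixingSubgroup (Equiv.Perm GolayPt) {T | T ∈ trios ∧ om 0x82402f ∈ T}
  have hE : E16 ≤ K := fun x hx => ⟨E16_le hx, by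
    refine (mem_fixingSubgroup_iff _).mpr ?_
    rw [h15]
    rintro _ ⟨⟨h, hh⟩, rfl⟩
    have a1 : h⁻¹ * x * h ∈ E16 := by
      have := ((ConjA.base hh.1).inf (ConjA.fixing h (om 0x82402f : Set GolayPt))) x
      rw [← Finset.coe_smul_finset, show h • om 0x82402f = om 0x82402f from hh.2] at this
      exact this.mp hx
    rw [← gen_gE16] at a1
    exact (conj_mem_stabilizer_iff' h x _).mp (Coding.gen_le
      (inH_inf_fam inH_gE16 3 _ T0_spec.1 (by decide +kernel)) a1).2⟩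
  have hv : ∀ x ∈ [0x82402f6920d0149f00, 0x82402f659280182d50, 0x82402f5481d0293e00, 0x82402f60b5401d0a90],
      (famCode 3).V x ∧ tr x ∈ trios ∧ om 0x82402f ∈ tr x := fun x hx =>
    ⟨(isTrio_spec (by revert x; decide +kernel)).1, (isTrio_spec (by revert x; decide +kernel)).2,
      mem_famL.mpr ⟨_, by revert x; decide +kernel, rfl⟩⟩
  have hK := Coding.chainO_le (famCode 3) (famAct 3) (G := ⊤) (fun g hg => hg.1.impl_fam 3)
    [(0x82402f6920d0149f00, 15, [[1, 0], [0, 0, 1, 0, 1]]), (0x82402f659280182d50, 14, [[0, 1, 1, 0], [1, 1, 0, 0], [1, 1, 1, 0, 1, 1]]), (0x82402f5481d0293e00, 12, [[1], [0, 0], [0, 1, 0], [2, 1, 2, 1, 2], [2, 2, 1, 2, 2], [2, 1, 0, 2, 1, 2]]), (0x82402f60b5401d0a90, 8, [])]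
    (fun l hl => (hv l.1 (by revert l; decide)).1) le_top inH_gHO (by decide +kernel) (K := K) inf_le_left
    fun x hx l hl => (mem_fixingSubgroup_iff _).mp hx.2 _ (hv l.1 (by revert l; decide)).2
  rw [card_HO, show chainProd _ = 20160 from rfl] at hK
  have hKE : E16 = K := Subgroup.eq_of_le_of_card_ge hE (by rw [card_E16]; omega)
  have c1 := (ConjA.base hσ).inf (ConjA.fixing σ (om 0x82402f : Set GolayPt)) g
  have c2 := ((ConjA.base hσ).inf_stab (om 0x82402f)).inf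
    (ConjA.fixing σ {T | T ∈ trios ∧ om 0x82402f ∈ T}) g
  rw [show M24 ⊓ fixingSubgroup (Equiv.Perm GolayPt) (om 0x82402f : Set GolayPt) = K from hKE, ← c2,
    ← Finset.coe_smul_finset] at c1
  simp only [Subgroup.mem_inf, mem_fixingSubgroup_iff, MulAction.mem_stabilizer_iff, hg, hgo, true_and] at c1
  rw [show (∀ p ∈ σ • om 0x82402f, g p = p) ↔ _ from c1]
  refine forall_congr' fun T => ?_
  obtain ⟨T, rfl⟩ := exists_eq_smul σ T
  simp only [smul_mem_trios_iff hσ, Finset.smul_mem_smul_finset_iff, Set.smul_mem_smul_set_iff,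
    Set.mem_ofPred_eq, and_imp]

end Cfsg.Agent.S5615
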