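import Cfsg.Statements.S5616
import Cfsg.Agent.Lib.Golay.Trio
import Cfsg.Agent.Lib.Golay.Label

set_option autoImplicit false
open scoped Pointwise
open Cfsg

namespace Cfsg.Agent.S5616

open Cfsg.Lib.Golay
open scoped Pointwise
set_option maxRecDepth 100000
set_option linter.unusedSimpArgs false

/-- Let Y be a set of 3 of the 24 points. The sextets of the length-24 code whose tetrads meeting Y number 1, 2 or 3 are respectively 21, 630 and 1120 in number, and two sextets with the same number of tetrads meeting Y are conjugate under the setwise stabiliser of Y in the code's group. -/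
theorem result (Y : Finset Cfsg.GolayPt) (hY : Y.card = 3) : {S : Finset (Finset Cfsg.GolayPt) | S ∈ Cfsg.sextets ∧ (S.filter fun t => (t ∩ Y).Nonempty).card = 1}.ncard = 21 ∧ {S : Finset (Finset Cfsg.GolayPt) | S ∈ Cfsg.sextets ∧ (S.filter fun t => (t ∩ Y).Nonempty).card = 2}.ncard = 630 ∧ {S : Finset (Finset Cfsg.GolayPt) | S ∈ Cfsg.sextets ∧ (S.filter fun t => (t ∩ Y).Nonempty).card = 3}.ncard = 1120 ∧ ∀ S S' : Finset (Finset Cfsg.GolayPt), S ∈ Cfsg.sextets → S' ∈ Cfsg.sextets → (S.filter fun t => (t ∩ Y).Nonempty).card = (S'.filter fun t => (t ∩ Y).Nonempty).card → ∃ g ∈ Cfsg.M24, g • Y = Y ∧ g • S = S' := by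
  obtain ⟨σ, hσ, rfl⟩ := std_finset 0x800003 (hY.trans (by decide)) (by decide)
  let F : Finset (Finset GolayPt) → ℕ := fun S => (S.filter fun t => (t ∩ om 0x800003).Nonempty).card
  have hF : ∀ (g : Equiv.Perm GolayPt) (S : Finset (Finset GolayPt)),
      ((g • S).filter fun t => (t ∩ g • om 0x800003).Nonempty).card = F S := fun g S =>
    card_filter_smul g S _ _ fun t => by rw [smul_inter', Finset.smul_finset_nonempty]
  obtain ⟨h1, h2, h3⟩ := orbits_sx inf_le_left inH_gHD3 gen_gHD3 [(0xda1, 21), (0x737, 630), (0xa1b, 1120)]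
    (by decide +kernel) (by decide) (by decide)
  have hv : ∀ (s : ℕ) (l : List ℕ) (k : ℕ), isSx s = true → l.Nodup → l.length = 6 →
      allL l (fun m => band (Nat.ble m 16777215) (band (Nat.beq (pop24 m) 4) (Nat.beq (syn m) s))) = true →
      countL l (fun m => bnot (Nat.beq (Nat.land m 0x800003) 0)) = k → F (sx s) = k := by
    intro s l k a1 a2 a3 a4 a5
    have a6 : ∀ m ∈ l, m < 2 ^ 24 := fun m hm =>
      Nat.lt_succ_of_le (ble_iff.mp (band_iff.mp (allL_iff.mp a4 m hm)).1)
    rw [sx_eq_famL (isSx_spec a1) a2 a3 a4, ← a5]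
    exact card_filter_famL a6 a2 _ _ fun m hm => by
      rw [← Finset.not_disjoint_iff_nonempty_inter, om_disjoint_iff (a6 m hm), bnot_iff, beq_iff]
  have f1 := hv 0xda1 [0x24028, 0x41900, 0x108600, 0x2800c0, 0x412010, 0x800007] 1 (by decide +kernel)
    (by decide) rfl (by decide +kernel) (by decide +kernel)
  have f2 := hv 0x737 [0x24021, 0x48050, 0x83200, 0x210c00, 0x500180, 0x80000e] 2 (by decide +kernel)
    (by decide) rfl (by decide +kernel) (by decide +kernel)
  have f3 := hv 0xa1b [0x48042, 0x900a0, 0x106400, 0x200301, 0x421800, 0x80001c] 3 (by decide +kernel)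
    (by decide) rfl (by decide +kernel) (by decide +kernel)
  have hF' : ∀ g ∈ HD3, ∀ S, F (g • S) = F S := fun g hg S => by
    rw [← hF g S, show g • om 0x800003 = om 0x800003 from hg.2]
  have key : ∀ r ∈ [(0xda1, 21), (0x737, 630), (0xa1b, 1120)],
      {S | S ∈ sextets ∧ F S = F (sx r.1)} = MulAction.orbit HD3 (sx r.1) := fun r hr =>
    class_eq_orbit F hF' (fun g hg x hx => smul_mem_sextets hg.1 hx) h1 h3 hr (by
      revert r
      simp only [List.mem_cons, List.not_mem_nil, or_false, forall_eq_or_imp, forall_eq, f1, f2, f3]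
      decide)
  refine ⟨?_, ?_, ?_, fun S S' hS hS' h => ?_⟩
  · rw [ncard_setOf_smul σ]
    simp only [hF, smul_mem_sextets_iff hσ]
    rw [← f1, key (0xda1, 21) (by decide)]; exact h2 (0xda1, 21) (by decide)
  · rw [ncard_setOf_smul σ]
    simp only [hF, smul_mem_sextets_iff hσ]
    rw [← f2, key (0x737, 630) (by decide)]; exact h2 (0x737, 630) (by decide)
  · rw [ncard_setOf_smul σ]
    simp only [hF, smul_mem_sextets_iff hσ]
    rw [← f3, key (0xa1b, 1120) (by decide)]; exact h2 (0xa1b, 1120) (by decide)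
  obtain ⟨S, rfl⟩ := exists_eq_smul σ S
  obtain ⟨S', rfl⟩ := exists_eq_smul σ S'
  rw [smul_mem_sextets_iff hσ] at hS hS'
  rw [hF, hF] at h
  obtain ⟨r, hr, e⟩ := h3 S hS
  have e1 := e
  rw [← key r hr] at e1
  have e2 : S' ∈ MulAction.orbit HD3 (sx r.1) := by rw [← key r hr]; exact ⟨hS', h ▸ e1.2⟩
  obtain ⟨g, hg, e3⟩ := exists_smul_of_mem_orbit e e2
  exact ⟨σ * g * σ⁻¹, mul_mem (mul_mem hσ hg.1) (inv_mem hσ), by rw [conj_smul_smul, hg.2],
    by rw [conj_smul_smul, e3]⟩

end Cfsg.Agent.S5616
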