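import Cfsg.Statements.S5617
import Cfsg.Agent.Lib.Golay.Trio

set_option autoImplicit false
open scoped Pointwise
open Cfsg

namespace Cfsg.Agent.S5617

open Cfsg.Lib.Golay
open scoped Pointwise
set_option maxRecDepth 100000
set_option linter.unusedSimpArgs false

/-- The setwise stabiliser, in the group of the length-24 code, of a complementary pair of dodecads has exactly three orbits on the 1771 sextets, of sizes 396, 495 and 880. -/
theorem result (d : Finset Cfsg.GolayPt) (hd : d ∈ Cfsg.dodecads) : ∃ X₁ ∈ Cfsg.sextets, ∃ X₂ ∈ Cfsg.sextets, ∃ X₃ ∈ Cfsg.sextets, (MulAction.orbit ↥(MulAction.stabilizer Cfsg.M24 ({d, Finset.univ \ d} : Finset (Finset Cfsg.GolayPt))) X₁).ncard = 396 ∧ (MulAction.orbit ↥(MulAction.stabilizer Cfsg.M24 ({d, Finset.univ \ d} : Finset (Finset Cfsg.GolayPt))) X₂).ncard = 495 ∧ (MulAction.orbit ↥(MulAction.stabilizer Cfsg.M24 ({d, Finset.univ \ d} : Finset (Finset Cfsg.GolayPt))) X₃).ncard = 880 ∧ Cfsg.sextets = MulAction.orbit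 ↥(MulAction.stabilizer Cfsg.M24 ({d, Finset.univ \ d} : Finset (Finset Cfsg.GolayPt))) X₁ ∪ MulAction.orbit ↥(MulAction.stabilizer Cfsg.M24 ({d, Finset.univ \ d} : Finset (Finset Cfsg.GolayPt))) X₂ ∪ MulAction.orbit ↥(MulAction.stabilizer Cfsg.M24 ({d, Finset.univ \ d} : Finset (Finset Cfsg.GolayPt))) X₃ := by
  obtain ⟨σ, hσ, rfl⟩ := std_dodecad hd
  rw [← Finset.compl_eq_univ_sdiff, smul_P0]
  obtain ⟨h1, h2, h3⟩ := orbits_sx inf_le_left inH_gHP2 gen_gHP2 [(0x791, 396), (0xc36, 495), (0xda1, 880)]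
    (by decide +kernel) (by decide) (by decide)
  have hc := ConjTo.stab hσ (famL (unp 2 0xfacca005335f))
  refine ⟨σ • sx 0x791, (smul_mem_sextets_iff hσ).mpr (h1 (0x791, 396) (by decide)), σ • sx 0xc36, (smul_mem_sextets_iff hσ).mpr (h1 (0xc36, 495) (by decide)), σ • sx 0xda1, (smul_mem_sextets_iff hσ).mpr (h1 (0xda1, 880) (by decide)),
    (hc.ncard_orbit _).trans (h2 (0x791, 396) (by decide)), (hc.ncard_orbit _).trans (h2 (0xc36, 495) (by decide)), (hc.ncard_orbit _).trans (h2 (0xda1, 880) (by decide)), ?_⟩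
  · ext y
    rw [hc.mem_iff_orbits (fun g hg x => smul_mem_sextets_iff hg) h1 h3]
    simp only [List.mem_cons, List.not_mem_nil, or_false, exists_eq_or_imp, exists_eq_left, Set.mem_union, or_assoc]

end Cfsg.Agent.S5617
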