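import Cfsg.Statements.S5618
import Cfsg.Agent.Lib.Golay.M12

set_option autoImplicit false
open scoped Pointwise
open Cfsg

namespace Cfsg.Agent.S5618

open Cfsg.Lib.Golay
open scoped Pointwise
set_option maxRecDepth 100000
set_option linter.unusedSimpArgs false

/-- For a dodecad d of the length-24 code and a hexad C on it (a 6-point intersection of d with an octad): the joint stabiliser of d and C in the code's group is isomorphic to the symmetric group of degree 6, and it acts faithfully both on the six points of C and on the six points of d outside C. -/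
theorem result (d : Finset Cfsg.GolayPt) (hd : d ∈ Cfsg.dodecads) (C : Finset Cfsg.GolayPt) (hC : C ∈ Cfsg.hexadsOn d) : Nonempty (↥(MulAction.stabilizer Cfsg.M24 d ⊓ MulAction.stabilizer Cfsg.M24 C) ≃* Equiv.Perm (Fin 6)) ∧ (∀ g ∈ MulAction.stabilizer Cfsg.M24 d ⊓ MulAction.stabilizer Cfsg.M24 C, (∀ p ∈ C, ((g : ↥Cfsg.M24) : Equiv.Perm Cfsg.GolayPt) p = p) → g = 1) ∧ ∀ g ∈ MulAction.stabilizer Cfsg.M24 d ⊓ MulAction.stabilizer Cfsg.M24 C, (∀ p ∈ d \ C, ((g : ↥Cfsg.M24) : Equiv.Perm Cfsg.GolayPt) p = p) → g = 1 := by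

  have h5 : ∀ {g : Equiv.Perm GolayPt}, g ∈ Spor.M12 → ∀ E : Finset GolayPt, E.card = 6 → E ⊆ om 0x5335f →
      (∀ p ∈ E, g p = p) → g = 1 := fun {g} hg E hE hs h =>
    M12_eq_one_of_fix_emb hg ((Fin.castLEEmb (by norm_num)).trans
      ((E.equivFinOfCardEq hE).symm.toEmbedding.trans (Function.Embedding.subtype _)))
      (fun i => hs (Subtype.prop _)) fun i => h _ (Subtype.prop _)
  have hs : C ⊆ d := by obtain ⟨-, o, -, e⟩ := hC; rw [← e]; exact Finset.inter_subset_right
  obtain ⟨F, hF, h5F⟩ := Finset.exists_subset_card_eq (show 5 ≤ C.card by rw [hC.1]; norm_num)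
  obtain ⟨σ, hσ, rfl, e⟩ := std_dodecad_list hd (l := [0, 1, 2, 3, 4].map gc.pt) (l' := F.toList) (by decide)
    F.nodup_toList (by simp [h5F]) (by simp) (by decide +kernel) fun a ha => hs (hF (Finset.mem_toList.mp ha))
  have H0 : om 0x101f ∈ hexadsOn (om 0x5335f) := (om_mem_hexadsOn (by norm_num)).mpr (by decide +kernel)
  obtain rfl : C = σ • om 0x101f := hexad_eq hC ((smul_mem_hexadsOn hσ).mpr H0) (h5F ▸ Finset.card_le_card
    (Finset.subset_inter hF fun a ha => by
      rw [← Finset.mem_toList, e] at ha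
      obtain ⟨b, hb, rfl⟩ := List.mem_map.mp ha
      exact Finset.smul_mem_smul_finset (by clear ha; revert b; decide +kernel)))
  have c := (conjTo_M12 hσ).inf_stab (om 0x101f)
  have k : ∀ E : Finset GolayPt, E.card = 6 → E ⊆ om 0x5335f → ∀ g ∈ MulAction.stabilizer M24 (σ • om 0x5335f) ⊓
      MulAction.stabilizer M24 (σ • om 0x101f), (∀ p ∈ σ • E, ((g : M24) : Equiv.Perm GolayPt) p = p) → g = 1 := by
    intro E hE hs g hg h
    have := h5 ((c.iff g).mp hg).1 E hE hs fun p hp => by
      have := h _ (Finset.smul_mem_smul_finset (a := σ) hp)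
      simpa [Equiv.symm_apply_eq] using this
    exact Subtype.ext (by rw [show (g : Equiv.Perm GolayPt) = σ * (σ⁻¹ * g * σ) * σ⁻¹ by group, this]; simp)
  refine ⟨?_, k _ H0.1 (by decide +kernel), ?_⟩
  · obtain ⟨e⟩ := equiv_perm_of_faithful (H := Spor.M12 ⊓ MulAction.stabilizer (Equiv.Perm GolayPt) (om 0x101f))
      (E := om 0x101f) (fun g hg x hx => stab_inv_finset hg.2 hx)
      (fun g hg h => h5 hg.1 _ H0.1 (by decide +kernel) h) H0.1
      (stab_set_cert gen_gM12 inH_gM12 0x101f (by norm_num) (n := 132) card_M12 (by decide +kernel)).2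
    exact ⟨c.equiv.trans e⟩
  · rw [smul_sdiff']; exact k _ (by decide +kernel) Finset.sdiff_subset

end Cfsg.Agent.S5618
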