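import Cfsg.Statements.S5619
import Cfsg.Agent.Lib.Golay.Cls
import Mathlib.GroupTheory.SpecificGroups.Quaternion

set_option autoImplicit false
open scoped Pointwise
open Cfsg

namespace Cfsg.Agent.S5619

open Cfsg.Lib.Golay
open scoped Pointwise
set_option maxRecDepth 100000
set_option linter.unusedSimpArgs false
set_option maxHeartbeats 400000

/-- In the group of the length-24 code, the subgroup fixing a dodecad setwise and three of its points individually (a group of order 72) has a normal Sylow 3-subgroup that is elementary abelian of order 9, and its Sylow 2-subgroups are quaternion of order 8. -/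
theorem result (d : Finset Cfsg.GolayPt) (hd : d ∈ Cfsg.dodecads) (p q r : Cfsg.GolayPt) (hp : p ∈ d) (hq : q ∈ d) (hr : r ∈ d) (hpq : p ≠ q) (hpr : p ≠ r) (hqr : q ≠ r) : (∀ Q : Sylow 3 ↥(MulAction.stabilizer Cfsg.M24 d ⊓ MulAction.stabilizer Cfsg.M24 p ⊓ MulAction.stabilizer Cfsg.M24 q ⊓ MulAction.stabilizer Cfsg.M24 r), (Q : Subgroup ↥(MulAction.stabilizer Cfsg.M24 d ⊓ MulAction.stabilizer Cfsg.M24 p ⊓ MulAction.stabilizer Cfsg.M24 q ⊓ MulAction.stabilizer Cfsg.M24 r)).Normal ∧ Nat.card ↥Q = 9 ∧ ∀ x ∈ (Q : Subgroup ↥(MulAction.stabilizer Cfsg.M24 d ⊓ MulAction.stabilizer Cfsg.M24 p ⊓ MulAction.stabilizer Cfsg.M24 q ⊓ MulAction.stabilizer Cfsg.M24 r)), x ^ 3 = 1) ∧ ∀ P : Sylow 2 ↥(MulAction.stabilizer Cfsg.M24 d ⊓ MulAction.stabilizer Cfsg.M24 p ⊓ MulAction.stabilizer Cfsg.M24 q ⊓ MulAction.stabilizer Cfsg.M24 r), Nonempty (↥P ≃* QuaternionGroup 2) := by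

  obtain ⟨σ, hσ, rfl, e⟩ := std_dodecad_list hd (l := [some 0, gc.pt 1, gc.pt 2]) (l' := [p, q, r]) (by decide)
    (by simp [*]) rfl (by simp) (by decide +kernel) (by simp [*])
  simp only [List.map_cons, List.map_nil, List.cons.injEq, and_true] at e
  obtain ⟨rfl, rfl, rfl⟩ := e
  have c := ((conjTo_M11 hσ).inf_stab (gc.pt 1)).inf_stab (gc.pt 2)
  refine ⟨fun Q => ?_, fun P => ?_⟩
  · have hn : ∀ g ∈ [0x160b0e150f10110605140904170a080d071213030c020100, 0x17160e15050c0a04131410080b07061211030f0d09020100],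
        gc.InH M9 g := inH_inf_pt (inH_inf_pt (inH_M11 (by decide +kernel)) 1 (by decide) (by decide +kernel)) 2
      (by decide) (by decide +kernel)
    obtain ⟨h1, h2, h3⟩ := Coding.normal_cert (fun g hg => (inH_gM9 g hg).1) (fun g hg => (hn g hg).1)
      (M := 13) (d := 4) (a := 1) (n := 9) (q := fun y => Nat.beq (powN 24 y 3) (idN 24)) (by decide +kernel)
    rw [gen_gM9] at h3
    obtain ⟨P, ⟨i⟩, hP⟩ := exists_sylow_transport (p := 3) (k := 2) (m := 8) c.equiv (Coding.gen_le hn) h1 card_M9 (by norm_num)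
    have hN := normal_of_transport c.equiv hP h3
    have := Sylow.unique_of_normal P hN
    obtain rfl : Q = P := Subsingleton.elim _ _
    refine ⟨hN, (Nat.card_congr i.toEquiv).trans h1, fun x hx => ?_⟩
    obtain ⟨y, hy, e, h⟩ := h2 _ ((hP x).mp hx)
    apply c.equiv.injective
    rw [map_pow, map_one]
    exact Subtype.ext (by rw [Subgroup.coe_pow, ← e]; exact (hy.pow_eq_one_iff 3).mpr (beq_iff.mp h))
  have h1 := (stab_pt_cert gen_gM9 inH_gM9 3 (by decide) (n := 9) (N := 8) card_M9 (by decide +kernel)).2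
  have hg : ∀ g ∈ [0xe14160b070905040a17061015130d0c0f12110803020100, 0x110a130f1408171215051009070b040d160c0e0603020100],
      gc.InH (M9 ⊓ MulAction.stabilizer (Equiv.Perm GolayPt) (gc.pt 3)) g :=
    inH_inf_pt (inH_inf_pt (inH_inf_pt (inH_M11 (by decide +kernel)) 1 (by decide) (by decide +kernel)) 2
      (by decide) (by decide +kernel)) 3 (by decide) (by decide +kernel)
  have h2 := Coding.gen_eq_of_chain [(4, 8, [])] hg (by decide +kernel) h1.le
  have hL : Nat.card (QuaternionGroup 2) = 8 := by rw [Nat.card_eq_fintype_card, QuaternionGroup.card]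
  obtain ⟨φ, h3, -⟩ := Coding.label_hom gc.ptCode app h2 (fun g hg => hg.1.impl_pt) hg
    (fun (l v : QuaternionGroup 2) => l * v) one_mul mul_assoc
    (fun v => match v with
      | .a i => getL [4, 8, 12, 16] 0 i.val
      | .xa i => getL [6, 13, 9, 18] 0 i.val)
    (fun v => show _ < 24 by revert v; decide +kernel)
    (fun l h => by have := h 1; clear h; revert l; decide +kernel)
    [.a 1, .xa 0] (by decide +kernel) [(4, 8, [])] (by decide +kernel) (by decide +kernel) hL.le
  obtain ⟨e⟩ := nonempty_equiv_of_surj φ h3 (by rw [h1]; exact hL.ge)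
  obtain ⟨P', ⟨i⟩, -⟩ := exists_sylow_transport (p := 2) (k := 3) (m := 9) c.equiv inf_le_left h1 card_M9 (by norm_num)
  exact ⟨((Sylow.equiv P P').trans i).trans e⟩

end Cfsg.Agent.S5619
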