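import Cfsg.Statements.S5620
import Cfsg.Agent.Lib.Golay.Oct

set_option autoImplicit false
open scoped Pointwise
open Cfsg

namespace Cfsg.Agent.S5620

open Cfsg.Lib.Golay
open scoped Pointwise
set_option maxRecDepth 100000
set_option linter.unusedSimpArgs false

/-- Inside the stabiliser of the dodecad of squares (a Mathieu group of degree 12), the stabiliser of the residue 0 (a point of the dodecad) and the stabiliser of the extra point (a point outside the dodecad) are isomorphic but not conjugate; conjugation by a suitable element of the code's group that maps the dodecad of squares onto its complement carries the first onto the second. -/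
theorem result : Nonempty (↥(Cfsg.Spor.M12 ⊓ MulAction.stabilizer (Equiv.Perm Cfsg.GolayPt) (none : Cfsg.GolayPt)) ≃* ↥Cfsg.Spor.M11) ∧ (¬ ∃ k ∈ Cfsg.Spor.M12, MulAut.conj k • Cfsg.Spor.M11 = Cfsg.Spor.M12 ⊓ MulAction.stabilizer (Equiv.Perm Cfsg.GolayPt) (none : Cfsg.GolayPt)) ∧ ∃ g ∈ Cfsg.M24, g • Cfsg.Spor.squareDodecad = Finset.univ \ Cfsg.Spor.squareDodecad ∧ MulAut.conj g • Cfsg.Spor.M11 = Cfsg.Spor.M12 ⊓ MulAction.stabilizer (Equiv.Perm Cfsg.GolayPt) (none : Cfsg.GolayPt) := by
  have hg : gc.InH M24 0x80c0104021100070603161310090a050d15120b140e0f17 := inH_of_inM24 (by decide +kernel)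
  have h1 : gc.dec 0x80c0104021100070603161310090a050d15120b140e0f17 • om 0x5335f = (om 0x5335f)ᶜ := by
    rw [hg.1.smul_om, ← om_compl]; exact congrArg om (by decide +kernel)
  have h2 : gc.dec 0x80c0104021100070603161310090a050d15120b140e0f17 • (some 0 : GolayPt) = none :=
    hg.1.dec_pt (i := 0) (by decide)
  have hg' := hg.2
  generalize gc.dec 0x80c0104021100070603161310090a050d15120b140e0f17 = g at h1 h2 hg'
  have hc : ConjA g (Spor.M12 ⊓ MulAction.stabilizer (Equiv.Perm GolayPt) (none : GolayPt)) Spor.M11 := by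
    have := ((ConjA.base hg').inf_stab (om 0x5335f)).inf_stab (some 0 : GolayPt)
    have e : MulAction.stabilizer (Equiv.Perm GolayPt) (om 0x5335f)ᶜ =
        MulAction.stabilizer (Equiv.Perm GolayPt) (om 0x5335f) := by
      ext x; simp only [MulAction.mem_stabilizer_iff, smul_compl, compl_inj_iff]
    rw [h1, h2, e, ← M12_eq] at this
    exact this
  refine ⟨⟨hc.equiv⟩, ?_, g, hg', by rw [squareDodecad_eq, h1, Finset.compl_eq_univ_sdiff],
    hc.eq_map.symm⟩
  rintro ⟨k, hk, e⟩
  have h3 : ∀ x ∈ Spor.M12 ⊓ MulAction.stabilizer (Equiv.Perm GolayPt) (none : GolayPt),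
      x (k (some 0)) = k (some 0) := by
    rw [← e]
    rintro _ ⟨y, hy, rfl⟩
    simpa using (mem_M11.mp hy).2.2
  have h4 : ∀ g ∈ [0x171316070f010e040b05100d0a140903110215120c080006, 0x170a071115031609140512010e130d080b000f02060c1004],
      gc.InH (Spor.M12 ⊓ MulAction.stabilizer (Equiv.Perm GolayPt) (none : GolayPt)) g := by
    refine inH_inf_pt ?_ 23 (by decide) (by decide +kernel)
    rw [M12_eq]; exact inH_inf_om (inH_of_allL (by decide +kernel)) _ (by decide +kernel)
  have h5 := (M12_apply_mem_iff hk _).mpr zero_mem_D0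
  obtain ⟨i, hi, ei⟩ := gc.exists_pt (k (some 0))
  rw [← ei] at h3 h5
  have a1 := h4 _ List.mem_cons_self
  have a2 := h4 _ (List.mem_cons_of_mem _ List.mem_cons_self)
  have b1 := h3 _ a1.2
  have b2 := h3 _ a2.2
  rw [a1.1.dec_pt hi, gc.pt_inj (a1.1.app_lt hi) hi] at b1
  rw [a2.1.dec_pt hi, gc.pt_inj (a2.1.app_lt hi) hi] at b2
  rw [pt_mem_om hi] at h5
  exact (by decide +kernel : ∀ i < 24, tb 0x5335f i = true → app _ i = i → app _ i = i → False) i hi h5 b1 b2

end Cfsg.Agent.S5620
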