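import Cfsg.Statements.S5624
import Cfsg.Agent.Lib.Golay.Coset

set_option autoImplicit false
open Cfsg

namespace Cfsg.Agent.S5624

open Cfsg.Lib.Golay
open scoped Pointwise symmDiff
set_option maxRecDepth 100000
set_option linter.unusedSimpArgs false
set_option maxHeartbeats 400000

/-- Let C be a self-dual binary code of length 24 with minimum weight at least 8 (a 12-dimensional subspace of the 24-dimensional space over the field with two elements, any two of whose words have dot product zero, with no non-zero word of weight below 8 — an abstract extended binary Golay code). Then C is spanned, as a vector space over the field with two elements, by its words of weight 8. -/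
theorem result (C : Submodule (ZMod 2) (Fin 24 → ZMod 2)) (hdim : Module.finrank (ZMod 2) C = 12) (horth : ∀ v ∈ C, ∀ w ∈ C, ∑ i, v i * w i = 0) (hmin : ∀ w ∈ C, w ≠ 0 → 8 ≤ hammingNorm w) : Submodule.span (ZMod 2) {w : Fin 24 → ZMod 2 | w ∈ C ∧ hammingNorm w = 8} = C := by

  obtain ⟨e, he⟩ := code_unique (by simp) hdim horth hmin
  refine le_antisymm (Submodule.span_le.mpr fun w hw => hw.1) fun w hw => ?_
  have := cw_induction (P := fun s => s.map e.symm.toEmbedding ∈ supports (Submodule.span (ZMod 2)
    {w : Fin 24 → ZMod 2 | w ∈ C ∧ hammingNorm w = 8} : Set (Fin 24 → ZMod 2))) (fun o ho =>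
      mem_supports_iff.mpr (Submodule.subset_span ⟨mem_supports_iff.mp ((he _).mpr (by
        rw [Finset.map_map]; simpa using ho.1)), by
        rw [hammingNorm_eq_card, support₂_ind, Finset.card_map, ho.2]⟩)) (fun s t hs ht => by
      simp only [Finset.map_eq_image] at *
      rw [Finset.image_symmDiff _ _ e.symm.toEmbedding.injective]
      exact symmDiff_mem_supports hs ht) ((he _).mp (support₂_mem_supports_iff.mpr hw))
  rw [Finset.map_map] at this
  exact support₂_mem_supports_iff.mp (by simpa using this)

end Cfsg.Agent.S5624
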