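import Cfsg.Statements.S5625
import Cfsg.Agent.Lib.Golay.Steiner

set_option autoImplicit false
open Cfsg

namespace Cfsg.Agent.S5625

open Cfsg.Lib.Golay

/-- In any Steiner system S(5, 8, 24) and for any set Y of three points, the blocks meeting Y in exactly 3, 2, 1 and 0 points number 21, 168, 360 and 210 respectively (so there are 759 blocks in all). -/
theorem result (α : Type*) [Fintype α] [DecidableEq α] (hα : Fintype.card α = 24) (B : Set (Finset α)) (hB : Cfsg.IsSteinerSystem 5 8 B) (Y : Finset α) (hY : Y.card = 3) : {b : Finset α | b ∈ B ∧ (b ∩ Y).card = 3}.ncard = 21 ∧ {b : Finset α | b ∈ B ∧ (b ∩ Y).card = 2}.ncard = 168 ∧ {b : Finset α | b ∈ B ∧ (b ∩ Y).card = 1}.ncard = 360 ∧ {b : Finset α | b ∈ B ∧ (b ∩ Y).card = 0}.ncard = 210 := by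
  have key : ∀ i n : ℕ, tri (lam 5 8 24) (3 - i) i = n →
      {b : Finset α | b ∈ B ∧ (b ∩ Y).card = i}.ncard = Nat.choose 3 i * n := by
    intro i n h
    simp only [Finset.inter_comm _ Y]
    rw [← hY]
    refine ncard_card_inter B Y i n fun s hs hi => ?_
    have h1 := cnt_small hB (by norm_num) (I := s) (J := Y \ s) Finset.disjoint_sdiff
      (by rw [Finset.card_sdiff_of_subset hs]; have := Finset.card_le_card hs; omega)
    rw [Finset.card_sdiff_of_subset hs, hα, hY, hi, h] at h1
    rw [setOf_inter_eq B hs]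
    exact_mod_cast h1
  exact ⟨key 3 21 (by decide), key 2 56 (by decide), key 1 120 (by decide), key 0 210 (by decide)⟩

end Cfsg.Agent.S5625
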