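import Cfsg.Statements.S5628
import Cfsg.Agent.Lib.Small.Plane4

set_option autoImplicit false
open Cfsg

namespace Cfsg.Agent.S5628

open Cfsg.Lib.Small.P4
open scoped Pointwise

/-- In a projective plane of order 4 (a Steiner system S(2, 5, 21)), every permutation of the six points of a hyperoval (a 6-set met by no line in more than two points) is the restriction of exactly one automorphism of the plane. In particular the stabiliser of a hyperoval in the automorphism group is isomorphic to the symmetric group of degree 6 acting faithfully on the hyperoval. -/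
theorem result {α : Type*} [Fintype α] [DecidableEq α] (hα : Fintype.card α = 21) (L : Set (Finset α)) (hL : Cfsg.IsSteinerSystem 2 5 L) (H : Finset α) (hH : (H.card = 6 ∧ ∀ l ∈ L, (l ∩ H).card ≤ 2)) (σ : Equiv.Perm ↥H) : ∃! g : Equiv.Perm α, g ∈ Cfsg.setSystemAut L ∧ ∀ p : ↥H, g p = σ p := by
  obtain ⟨c, h⟩ := exists_md hα hL
  obtain ⟨k, hk, hkH⟩ := h.exists_smul H hH
  have hm : ∀ x ∈ H, k⁻¹ x ∈ c.ofMask 525327 := fun x hx => by
    rw [← hkH] at hx; exact Finset.inv_smul_mem_iff.2 hx
  refine existsUnique_of_exists_of_unique ?_ ?_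
  · induction σ using Equiv.Perm.swap_induction_on with
    | one => exact ⟨1, one_mem _, fun p => rfl⟩
    | swap_mul f a b hab ih =>
      obtain ⟨g, hg, hgf⟩ := ih
      obtain ⟨s, hs, hs'⟩ := h.exists_swap (hm a a.2) (hm b b.2)
        (fun e => hab (Subtype.ext (k⁻¹.injective e)))
      refine ⟨k * s * k⁻¹ * g, mul_mem (mul_mem (mul_mem hk hs) (inv_mem hk)) hg, fun p => ?_⟩
      simp only [Equiv.Perm.mul_apply]
      rw [hgf, hs' _ (hm _ (f p).2), ← Function.Injective.map_swap k⁻¹.injective,
        Function.Injective.map_swap Subtype.val_injective]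
      simp
  · rintro g g' ⟨hg, e⟩ ⟨hg', e'⟩
    have := h.eq_one hL (g := k⁻¹ * (g⁻¹ * g') * k)
      (mul_mem (mul_mem (inv_mem hk) (mul_mem (inv_mem hg) hg')) hk) fun x hx => by
        have hx' : k x ∈ H := hkH ▸ Finset.smul_mem_smul_finset hx
        simp only [Equiv.Perm.mul_apply]
        rw [show g' (k x) = g (k x) from (e' ⟨_, hx'⟩).trans (e ⟨_, hx'⟩).symm]
        simp
    rw [← inv_mul_eq_one]
    calc g⁻¹ * g' = k * (k⁻¹ * (g⁻¹ * g') * k) * k⁻¹ := by group
      _ = 1 := by rw [this]; group

end Cfsg.Agent.S5628
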