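import Cfsg.Statements.S5632
import Cfsg.Agent.Lib.Max.SL

set_option autoImplicit false
open Cfsg

namespace Cfsg.Agent.S5632

open Cfsg.Lib.Forms Cfsg.Lib.Forms.Form Module



/-- For a finite field F and subspaces 0 < W < U of F^n with dim W + dim U = n, the elements of SL_n(F) stabilising both W and U form a subgroup that is not maximal in SL_n(F): some subgroup lies strictly between it and SL_n(F). -/
theorem result {F : Type*} [Field F] [Fintype F] (n : ℕ) (W U : Submodule F (Fin n → F)) (hW0 : W ≠ ⊥) (hWU : W < U) (hdim : Module.finrank F W + Module.finrank F U = n) : ∃ K : Subgroup (Matrix.GeneralLinearGroup (Fin n) F), Cfsg.Geo.subspaceStabilizer W ⊓ Cfsg.Geo.subspaceStabilizer U ⊓ Cfsg.Geo.specialLinear (Fin n) F < K ∧ K < Cfsg.Geo.specialLinear (Fin n) F := by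
  have hU : U ≠ ⊤ := by
    rintro rfl
    have := Submodule.one_le_finrank_iff.2 hW0
    have h2 : finrank F (Fin n → F) = n := by simp
    rw [finrank_top] at hdim; omega
  refine exists_between_map ofLin_injective specialLinear_eq
    (by rw [Subgroup.comap_inf, comap_subspaceStabilizer', comap_subspaceStabilizer']) (stabL W)
    (inf_le_right.trans inf_le_left) (fun H => hU (eq_top_of_fix hWU fun g hg hg' x hx => ?_))
    (not_slV_le_stabL hW0 (hWU.trans_le le_top).ne)
  exact stabL_mem (H ⟨hg, mem_stabL_of_mapsTo fun x hx => by rwa [hg' x hx]⟩).2 hx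

end Cfsg.Agent.S5632
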