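import Cfsg.Statements.S5633
import Cfsg.Agent.Lib.Max.SL

set_option autoImplicit false
open Cfsg

namespace Cfsg.Agent.S5633

open Cfsg.Lib.Forms Cfsg.Lib.Forms.Form Module



/-- For a finite field F and complementary non-zero subspaces W ⊕ U = F^n with dim W < dim U, the elements of SL_n(F) stabilising both W and U form a subgroup that is not maximal in SL_n(F): some subgroup lies strictly between it and SL_n(F). -/
theorem result {F : Type*} [Field F] [Fintype F] (n : ℕ) (W U : Submodule F (Fin n → F)) (hW0 : W ≠ ⊥) (hWU : W ⊓ U = ⊥) (hWU' : W ⊔ U = ⊤) (hdim : Module.finrank F W < Module.finrank F U) : ∃ K : Subgroup (Matrix.GeneralLinearGroup (Fin n) F), Cfsg.Geo.subspaceStabilizer W ⊓ Cfsg.Geo.subspaceStabilizer U ⊓ Cfsg.Geo.specialLinear (Fin n) F < K ∧ K < Cfsg.Geo.specialLinear (Fin n) F := by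
  obtain ⟨s, hs, hsW⟩ := exists_not_mem_of_finrank_lt hdim
  obtain ⟨u, hu, hu0⟩ := Submodule.exists_mem_ne_zero_of_ne_bot hW0
  obtain ⟨g, hg, h1, h2, -⟩ := exists_sl_fix (W := W) (s := s) (u := u)
    (by rwa [sup_eq_left.2 ((Submodule.span_singleton_le_iff_mem _ _).2 hu)])
  refine exists_between_map ofLin_injective specialLinear_eq
    (by rw [Subgroup.comap_inf, comap_subspaceStabilizer', comap_subspaceStabilizer']) (stabL W)
    (inf_le_right.trans inf_le_left) (fun H => hu0 ?_)
    (not_slV_le_stabL hW0 fun h => hsW (h ▸ trivial))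
  have := stabL_mem (H ⟨hg, mem_stabL_of_mapsTo fun x hx => by rwa [h1 x hx]⟩).2 hs
  rw [← Submodule.mem_bot F, ← hWU]
  exact ⟨hu, by simpa [h2] using sub_mem this hs⟩

end Cfsg.Agent.S5633
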