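import Cfsg.Statements.S5646
import Cfsg.Agent.Lib.Max.C1

set_option autoImplicit false
open Cfsg

namespace Cfsg.Agent.S5646

open Cfsg.Lib.Forms Cfsg.Lib.Forms.Form Module



/-- For a finite field F and m ≥ 7, in the symplectic group Sp_2m(F) of the standard alternating form on F^(2m), the stabiliser of any non-zero subspace W on which the form is non-degenerate and with dim W < m is a maximal subgroup. -/
theorem result {F : Type*} [Field F] [Fintype F] (m : ℕ) (hm : 7 ≤ m) (W : Submodule F (Fin m ⊕ Fin m → F)) (hW0 : W ≠ ⊥) (hW : Cfsg.Geo.IsNondegenerateOn (Cfsg.sympForm m F) W) (hdim : Module.finrank F W < m) : Cfsg.Geo.IsMaximalIn (Cfsg.spGL m F) (Cfsg.Geo.subspaceStabilizer W ⊓ Cfsg.spGL m F) := by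
  have hD := fSymp_nondeg (F := F) m
  have hW' := (rep_symp m).nondeg.1 hW
  have hf := hD.finrank_perp W
  rw [finrank_plus] at hf
  refine isMaximalIn_map (spGL_eq m) (comap_subspaceStabilizer W) (Symp.not_E_le_stab hD hW0 ?_)
    fun X => E_le_of_nondeg hD (Symp.trans hD) hW' (Symp.irr ((fSymp F m).nondeg_restrict_iff.2 hW'))
      (Symp.big ((wide_self (hD.disjoint_perp hW')).mono le_rfl (by omega))) (Symp.univ _)
      (not_map_perp_le (by omega) (by omega))
  rintro rfl
  rw [finrank_top, finrank_plus] at hdim; omega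

end Cfsg.Agent.S5646
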