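import Cfsg.Statements.S5649
import Cfsg.Agent.Lib.Max.C1

set_option autoImplicit false
open Cfsg

namespace Cfsg.Agent.S5649

open Cfsg.Lib.Forms Cfsg.Lib.Forms.Form Module



/-- For a finite field F of odd order and m ≥ 7, let D be a decomposition of F^(2m) into two complementary subspaces of dimension m on each of which the standard alternating form vanishes identically. Then the elements of Sp_2m(F) preserving or interchanging the two subspaces form a maximal subgroup of Sp_2m(F). -/
theorem result {F : Type*} [Field F] [Fintype F] (m : ℕ) (hm : 7 ≤ m) (hodd : Odd (Fintype.card F)) (D : Fin 2 → Submodule F (Fin m ⊕ Fin m → F)) (hD : Cfsg.Geo.IsMDecomposition m D) (hts : ∀ i, Cfsg.Geo.IsTotallySingularFor (Cfsg.sympForm m F) (D i)) : Cfsg.Geo.IsMaximalIn (Cfsg.spGL m F) (Cfsg.Geo.decompositionStabilizer D ⊓ Cfsg.spGL m F) := by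
  have hN := fSymp_nondeg (F := F) m
  obtain ⟨h1, h2, h3⟩ := isDual_of_dec hN hD fun i => Symp.isTS ((rep_symp m).ts.1 (hts i))
  have h0 := hD.finrank_eq 0
  refine isMaximalIn_map (spGL_eq m) (comap_decompositionStabilizer D)
    ((Symp.trans hN).not_E_le_dec (Symp.sing _) hD.indep (i := 0)
      (fun h => by rw [h] at h0; simp at h0; omega) (by rw [finrank_plus]; omega)) fun X => ?_
  rw [← h3]
  obtain ⟨g, hg⟩ := h1.exists_swap hN
  exact h1.E_le h2 hN (Symp.comm (two_ne_zero_of_odd_card rfl hodd)) (by omega)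
    ⟨g, by simp [Symp.E_eq_top hN], hg⟩

end Cfsg.Agent.S5649
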