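import Cfsg.Statements.S5654
import Cfsg.Agent.Lib.Max.C1

set_option autoImplicit false
open Cfsg

namespace Cfsg.Agent.S5654

open Cfsg.Lib.Forms Cfsg.Lib.Forms.Form Module



/-- Let F be the field with q² elements and n ≥ 13. In SU_n(q) (determinant-one isometries of the standard unitary form on F^n) the stabiliser of a non-zero subspace W on which the form is non-degenerate and with 2 dim W < n is a maximal subgroup. -/
theorem result {F : Type*} [Field F] [Fintype F] (n q : ℕ) (hF : Fintype.card F = q ^ 2) (hn : 13 ≤ n) (W : Submodule F (Fin n → F)) (hW0 : W ≠ ⊥) (hW : Cfsg.Geo.IsNondegenerateOn (Cfsg.hermForm n F q) W) (hdim : 2 * Module.finrank F W < n) : Cfsg.Geo.IsMaximalIn (Cfsg.GU n F q ⊓ Cfsg.Geo.specialLinear (Fin n) F) (Cfsg.Geo.subspaceStabilizer W ⊓ (Cfsg.GU n F q ⊓ Cfsg.Geo.specialLinear (Fin n) F)) := by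
  obtain ⟨σ, h⟩ := isConj_of_card hF
  have hD := stdHerm_nondeg h (Fin n)
  have hW' := (rep_herm h n).nondeg.1 hW
  have hf := hD.finrank_perp W
  have hn' : finrank F (Fin n → F) = n := by simp
  have hw := wide_self (hD.disjoint_perp hW')
  refine isMaximalIn_map (su_eq h (by omega)) (comap_subspaceStabilizer W)
    (Herm.not_E_le_stab hD (by omega) hW0 ?_)
    fun X => E_le_of_nondeg hD (Herm.trans hD (by omega)) hW'
      (Herm.irr ((stdHerm h (Fin n)).nondeg_restrict_iff.2 hW'))
      (Herm.big (hw.mono le_rfl (by omega))) (Herm.univ (hw.mono le_rfl (by omega)))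
      (not_map_perp_le (by omega) (by omega))
  rintro rfl
  rw [finrank_top] at hdim; omega

end Cfsg.Agent.S5654
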