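import Cfsg.Statements.S5657
import Cfsg.Agent.Lib.Max.C1

set_option autoImplicit false
open Cfsg

namespace Cfsg.Agent.S5657

open Cfsg.Lib.Forms Cfsg.Lib.Forms.Form Module



/-- Let F be the field with q² elements and n = 2k ≥ 13. Let D be a decomposition of F^n into two complementary subspaces of dimension k on each of which the standard unitary form vanishes identically. Then the elements of SU_n(q) preserving or interchanging the two subspaces form a maximal subgroup of SU_n(q). -/
theorem result {F : Type*} [Field F] [Fintype F] (n q : ℕ) (hF : Fintype.card F = q ^ 2) (hn : 13 ≤ n) (k : ℕ) (hk : 2 * k = n) (D : Fin 2 → Submodule F (Fin n → F)) (hD : Cfsg.Geo.IsMDecomposition k D) (hts : ∀ i, Cfsg.Geo.IsTotallySingularFor (Cfsg.hermForm n F q) (D i)) : Cfsg.Geo.IsMaximalIn (Cfsg.GU n F q ⊓ Cfsg.Geo.specialLinear (Fin n) F) (Cfsg.Geo.decompositionStabilizer D ⊓ (Cfsg.GU n F q ⊓ Cfsg.Geo.specialLinear (Fin n) F)) := by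
  obtain ⟨σ, h⟩ := isConj_of_card hF
  have hN := stdHerm_nondeg h (Fin n)
  have hn' : finrank F (Fin n → F) = n := by simp
  obtain ⟨h1, h2, h3⟩ := isDual_of_dec hN hD fun i => Herm.isTS ((rep_herm h n).ts.1 (hts i))
  have h0 := hD.finrank_eq 0
  have h4 : D 0 ≠ ⊥ := fun h => by rw [h] at h0; simp at h0; omega
  refine isMaximalIn_map (su_eq h (by omega)) (comap_decompositionStabilizer D)
    ((Herm.trans hN (by omega)).not_E_le_dec (Herm.sing _) hD.indep h4 (by omega)) fun X => ?_
  rw [← h3]
  exact h1.E_le h2 hN Herm.comm (by omega) (Herm.exists_swap hN (by omega) h1 h4)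

end Cfsg.Agent.S5657
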