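import Cfsg.Statements.S5658
import Cfsg.Agent.Lib.Max.C5b

set_option autoImplicit false
open Cfsg

namespace Cfsg.Agent.S5658

open Cfsg.Lib.Forms Cfsg.Lib.Forms.Form Module



/-- Let F be the field with q² elements, n ≥ 13, and F₀ a subfield with |F| = |F₀| ^ r for an odd prime r. Let P be an invertible matrix such that the standard unitary form takes values in F₀ on the F₀-span of the columns of P. Then the elements of SU_n(q) lying in the subfield group of P (the conjugate by P of the product of GL_n(F₀) with the scalars) form a maximal subgroup of SU_n(q). -/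
theorem result {F : Type*} [Field F] [Fintype F] (n q : ℕ) (hF : Fintype.card F = q ^ 2) (hn : 13 ≤ n) (F₀ : Subfield F) (r : ℕ) (hr : r.Prime) (hro : Odd r) (hcard : Fintype.card F = Nat.card F₀ ^ r) (P : Matrix.GeneralLinearGroup (Fin n) F) (hP : Cfsg.Geo.IsFormRationalStructure (Cfsg.hermForm n F q) F₀ 1 P) : Cfsg.Geo.IsMaximalIn (Cfsg.GU n F q ⊓ Cfsg.Geo.specialLinear (Fin n) F) (Cfsg.Geo.subfieldSubgroup F₀ P ⊓ (Cfsg.GU n F q ⊓ Cfsg.Geo.specialLinear (Fin n) F)) := by
  obtain ⟨σ, hc⟩ := isConj_of_card hF
  have hn' : finrank F (Fin n → F) = n := by simp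
  have hr' : (finrank F₀ F).Prime := (finrank_of_card hcard).symm ▸ hr
  have h := Herm.ratF (b := colBasis P) (stdHerm_nondeg hc (Fin n)) (fun x hx y hy => by
    obtain ⟨u, hu, rfl⟩ := (mem_rat_colBasis _ _).1 hx
    obtain ⟨v, hv, rfl⟩ := (mem_rat_colBasis _ _).1 hy
    exact hermForm_eq hc n _ _ ▸ hP v u hv hu) hr' (by omega) (Or.inr (by
      by_contra! H
      rcases subring_prime hr' (RingHom.eqLocus σ (RingHom.id F)) H with h | h
      · have : Nat.card F₀ = q := hc.card_fixed ▸ Nat.card_congr
          (Equiv.subtypeEquivRight fun x => ⟨H x, h x⟩)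
        rw [this, hF] at hcard
        have := Nat.pow_right_injective hc.two_le hcard
        exact absurd hro (by rw [← (this : 2 = r)]; decide)
      · exact hc.ne_id (RingHom.ext h)))
  exact isMaximalIn_map (su_eq hc (by omega)) (comap_subfieldSubgroup' _ _ _) h.not_E_le
    (Herm.E_le_rat h (by omega))

end Cfsg.Agent.S5658
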