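import Cfsg.Statements.S5660
import Cfsg.Agent.Lib.Max.C5b

set_option autoImplicit false
open Cfsg

namespace Cfsg.Agent.S5660

open Cfsg.Lib.Forms Cfsg.Lib.Forms.Form Module



/-- Let F be the field with q² elements, n ≥ 13 even, and F₀ the subfield with q elements. Let ζ be a non-zero element with ζ + ζ^q = 0 and P an invertible matrix such that ζ times the standard unitary form takes values in F₀ on the F₀-span of the columns of P and the form vanishes on every pair (u, u) of that span (so ζ times the form restricts to a non-degenerate alternating form there). Then the elements of SU_n(q) lying in the subfield group of P form a maximal subgroup of SU_n(q). -/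
theorem result {F : Type*} [Field F] [Fintype F] (n q : ℕ) (hF : Fintype.card F = q ^ 2) (hn : 13 ≤ n) (heven : Even n) (F₀ : Subfield F) (hcard : Fintype.card F = Nat.card F₀ ^ 2) (ζ : F) (hζ0 : ζ ≠ 0) (hζ : ζ + ζ ^ q = 0) (P : Matrix.GeneralLinearGroup (Fin n) F) (hP : Cfsg.Geo.IsFormRationalStructure (Cfsg.hermForm n F q) F₀ ζ P) (halt : ∀ u : Fin n → F, (∀ i, u i ∈ F₀) → Cfsg.hermForm n F q (Matrix.mulVec (P : Matrix (Fin n) (Fin n) F) u) (Matrix.mulVec (P : Matrix (Fin n) (Fin n) F) u) = 0) : Cfsg.Geo.IsMaximalIn (Cfsg.GU n F q ⊓ Cfsg.Geo.specialLinear (Fin n) F) (Cfsg.Geo.subfieldSubgroup F₀ P ⊓ (Cfsg.GU n F q ⊓ Cfsg.Geo.specialLinear (Fin n) F)) := by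
  obtain ⟨σ, hc⟩ := isConj_of_card hF
  have hn' : finrank F (Fin n → F) = n := by simp
  have hQ : ∀ x ∈ rat F₀ (colBasis P), (stdHerm hc (Fin n)).Q x = 0 := fun x hx => by
    obtain ⟨u, hu, rfl⟩ := (mem_rat_colBasis _ _).1 hx
    exact hermForm_self hc n _ ▸ halt u hu
  have h : (stdHerm hc (Fin n)).RatF F₀ (colBasis P) ζ := ⟨stdHerm_nondeg hc (Fin n), hζ0,
    fun x hx y hy => by
      obtain ⟨u, hu, rfl⟩ := (mem_rat_colBasis _ _).1 hx
      obtain ⟨v, hv, rfl⟩ := (mem_rat_colBasis _ _).1 hy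
      exact hermForm_eq hc n _ _ ▸ hP v u hv hu,
    fun a ha => hc.apply a ▸ pow_mem ha q,
    by rw [hc.apply, eq_neg_of_add_eq_zero_right hζ, neg_div, div_self hζ0]; simp,
    fun x hx => ⟨0, by simp, by simp [hQ x hx]⟩,
    fun U hU h3 => by
      obtain ⟨e, h1, h2, h4⟩ := hU.exists_not_mem (W := ⊥) fun H => by
        rw [le_bot_iff.1 H] at h3; simp at h3
      exact ⟨e, h1, h2, by simpa using h4, hQ e h2⟩,
    (finrank_of_card hcard).symm ▸ Nat.prime_two, by omega⟩
  exact isMaximalIn_map (su_eq hc (by omega)) (comap_subfieldSubgroup' _ _ _) h.not_E_le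
    (Herm.E_le_rat h (by omega))

end Cfsg.Agent.S5660
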