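import Cfsg.Statements.S5662
import Cfsg.Agent.Lib.Asch.Sp

set_option autoImplicit false
open Cfsg

namespace Cfsg.Agent.S5662

/-- Subgroup structure of the finite symplectic groups. Let F be a finite field and m ≥ 2 with (m, |F|) ≠ (2, 2), and let Sp_2m(F) be the group of invertible matrices preserving the standard alternating form on F^(2m). Let H be a subgroup of Sp_2m(F) whose product with the scalar matrices ±1 is not all of Sp_2m(F) (H does not cover PSp_2m(F)). Then either H is contained in a member of one of the eight geometric classes of subgroups of Sp_2m(F) (with the conditions built into InSymplecticClass), or H is in the residual class: modulo scalars it is almost simple, and the perfect preimage of its socle acts absolutely irreducibly, is realisable over no proper subfield, and fixes no non-degenerate quadratic form and no non-degenerate unitary form on F^(2m). -/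
theorem result {F : Type*} [Field F] [Fintype F] (m : ℕ) (hm : 2 ≤ m) (hex : ¬ (m = 2 ∧ Fintype.card F = 2)) (H : Subgroup (Matrix.GeneralLinearGroup (Fin m ⊕ Fin m) F)) (hH : H ≤ Cfsg.spGL m F) (hproper : H ⊔ (Cfsg.Geo.scalars (Fin m ⊕ Fin m) F ⊓ Cfsg.spGL m F) ≠ Cfsg.spGL m F) : (∃ M : Subgroup (Matrix.GeneralLinearGroup (Fin m ⊕ Fin m) F), Cfsg.Geo.InSymplecticClass m F M ∧ H ≤ M) ∨ Cfsg.Geo.InSymplecticResidualClass H := by
  have : 2 ≤ Fintype.card F := Fintype.one_lt_card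
  rcases Lib.Asch.spCase (by omega) hH with ⟨W, h0, h1, h⟩ | ⟨W, h0, h1, h2, h⟩ |
    ⟨t, k, -, -, -, -, D, hD, h⟩ | ⟨k, hn, ho, -, D, hD, h1, h⟩ | ⟨r, hr, -, K, hK, h1, h2, h⟩ |
    ⟨ho, -, K, hK, h1, h2, h⟩ | ⟨n₁, n₂, -, -, h3, ho, -, e, P, f₁, f₂, h1, h2, -, hs, h⟩ |
    ⟨F₀, r, P, ζ, hr, hc, h0, h1, h⟩ | ⟨k, -, hp, ho, R, h1, h2, h3, h4, h5, h6, h⟩ |
    ⟨k, t, -, -, ho, ht, h3, h5, e, P, f₁, h1, hs, h⟩ | ⟨he, Q, h1, h2, h⟩ | h
  · exact .inl ⟨_, .inl <| .inl ⟨W, h0, h1, rfl⟩, h.le hH⟩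
  · exact .inl ⟨_, .inl <| .inr <| .inl ⟨W, h0, h1, by simp at h2; omega, rfl⟩, h.le hH⟩
  · exact .inl ⟨_, .inl <| .inr <| .inr <| .inl ⟨t, k, D, hD, rfl⟩, h.le hH⟩
  · obtain rfl : k = m := by simp at hn; omega
    exact .inl ⟨_, .inl <| .inr <| .inr <| .inr <| .inl ⟨D, ho, hD, h1, rfl⟩, h.le hH⟩
  · exact .inl ⟨_, .inr <| .inl ⟨r, K, hr, hK, h1, h2, rfl⟩, h.le hH⟩
  · exact .inl ⟨_, .inr <| .inr <| .inl ⟨K, ho, hK, h1, h2, rfl⟩, h.le hH⟩
  · exact .inl ⟨_, .inr <| .inr <| .inr <| .inl ⟨n₁, n₂, e, P, f₁, f₂, ho, h3, h1, h2, hs, rfl⟩, h.le hH⟩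
  · exact .inl ⟨_, .inl <| .inr <| .inr <| .inr <| .inr <| .inl ⟨F₀, r, P, ζ, hr, hc, h0, h1, rfl⟩, h.le hH⟩
  · exact .inl ⟨_, .inl <| .inr <| .inr <| .inr <| .inr <| .inr <| .inl
      ⟨R, _, k, h1, h2, h3, hp, ho, rfl, h4, h5, h6, rfl⟩, h.le hH⟩
  · exact .inl ⟨_, .inr <| .inr <| .inr <| .inr ⟨k, t, e, P, f₁, ho, ht, h3, h5, h1, hs, rfl⟩, h.le hH⟩
  · exact .inl ⟨_, .inl <| .inr <| .inr <| .inr <| .inr <| .inr <| .inr ⟨Q, he, h1, h2, rfl⟩, h.le hH⟩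
  · exact .inr h

end Cfsg.Agent.S5662
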