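import Cfsg.Statements.S5663
import Cfsg.Agent.Lib.Asch.SU

set_option autoImplicit false
open Cfsg

namespace Cfsg.Agent.S5663

/-- Subgroup structure of the finite unitary groups. Let F be the field with q² elements and n ≥ 3 with (n, q) ≠ (3, 2), and let SU_n(q) be the group of matrices of determinant one preserving the standard unitary form Σ u_i v_i^q on F^n. Let H be a subgroup of SU_n(q) whose product with the scalar matrices in SU_n(q) is not all of SU_n(q) (H does not cover PSU_n(q)). Then either H is contained in a member of one of the geometric classes of subgroups of the unitary group GU_n(q) (with the conditions built into InUnitaryClass), or H is in the residual class: modulo scalars it is almost simple, and the perfect preimage of its socle acts absolutely irreducibly, is realisable over no proper subfield of F, and fixes no non-degenerate quadratic form and no non-degenerate symplectic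 form on F^n. -/
theorem result {F : Type*} [Field F] [Fintype F] (n q : ℕ) (hF : Fintype.card F = q ^ 2) (hn : 3 ≤ n) (hex : ¬ (n = 3 ∧ q = 2)) (H : Subgroup (Matrix.GeneralLinearGroup (Fin n) F)) (hH : H ≤ (Cfsg.GU n F q ⊓ Cfsg.Geo.specialLinear (Fin n) F)) (hproper : H ⊔ (Cfsg.Geo.scalars (Fin n) F ⊓ (Cfsg.GU n F q ⊓ Cfsg.Geo.specialLinear (Fin n) F)) ≠ (Cfsg.GU n F q ⊓ Cfsg.Geo.specialLinear (Fin n) F)) : (∃ M : Subgroup (Matrix.GeneralLinearGroup (Fin n) F), Cfsg.Geo.InUnitaryClass n F q M ∧ H ≤ M) ∨ Cfsg.Geo.InUnitaryResidualClass H := by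
  have hI := hH.trans inf_le_left
  rcases Lib.Asch.suCase hF hn hex hH with ⟨W, h0, h1, h⟩ | ⟨W, h0, h1, h2, h⟩ |
    ⟨t, k, ht, hn', h1, h2, D, hD, h⟩ | ⟨k, hn', h4, D, hD, h1, h⟩ | ⟨r, hr, ho, hn', K, hK, h1, h⟩ |
    ⟨n₁, n₂, hn', h1, h2, h3, e, P, f₁, f₂, h4, h5, hs, h⟩ | ⟨F₀, r, P, hr, ho, hc, h1, h⟩ |
    ⟨ho, F₀, P, hc, h1, h⟩ | ⟨he, F₀, P, ζ, hc, h0, h1, h2, h3, h⟩ |
    ⟨r, k, p, e, hn', R, h1, h2, h3, h4, h5, h6, h⟩ | ⟨k, t, hn', hk, ht, h5, e, P, f₁, h1, hs, h⟩ | h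
  · exact .inl ⟨_, .inl <| .inl ⟨W, h0, h1, rfl⟩, h.le hI⟩
  · exact .inl ⟨_, .inl <| .inr <| .inl ⟨W, h0, h1, by simpa using h2, rfl⟩, h.le hI⟩
  · exact .inl ⟨_, .inl <| .inr <| .inr <| .inl ⟨t, k, D, hD, rfl⟩, h.le hI⟩
  · exact .inl ⟨_, .inl <| .inr <| .inr <| .inr <| .inl ⟨k, D, by simpa using hn', hD, h1, rfl⟩, h.le hI⟩
  · exact .inl ⟨_, .inr <| .inl ⟨r, K, hr, ho, hK, h1, rfl⟩, h.le hI⟩
  · exact .inl ⟨_, .inr <| .inr <| .inl ⟨n₁, n₂, e, P, f₁, f₂, h1, h2, h4, h5, hs, rfl⟩, h.le hI⟩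
  · exact .inl ⟨_, .inl <| .inr <| .inr <| .inr <| .inr <| .inl ⟨F₀, r, P, hr, ho, hc, h1, rfl⟩, h.le hI⟩
  · exact .inl ⟨_, .inl <| .inr <| .inr <| .inr <| .inr <| .inr <| .inl ⟨F₀, P, ho, hc, h1, rfl⟩, h.le hI⟩
  · exact .inl ⟨_, .inl <| .inr <| .inr <| .inr <| .inr <| .inr <| .inr <| .inl
      ⟨F₀, P, ζ, by simpa using he, hc, h0, h1, h2, h3, rfl⟩, h.le hI⟩
  · exact .inl ⟨_, .inl <| .inr <| .inr <| .inr <| .inr <| .inr <| .inr <| .inr
      ⟨r, R, p, e, k, h1, h2, h3.trans Lib.Asch.isoG_le_sim, h4, h5, h6, rfl⟩, h.le hI⟩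
  · exact .inl ⟨_, .inr <| .inr <| .inr ⟨k, t, e, P, f₁, hk, ht, h5, h1, hs, rfl⟩, h.le hI⟩
  · exact .inr h

end Cfsg.Agent.S5663
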