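import Cfsg.Statements.S5664
import Cfsg.Agent.Lib.Max.C3G

set_option autoImplicit false
open Cfsg

namespace Cfsg.Agent.S5664

open Cfsg.Lib.Forms Cfsg.Lib.Forms.Form Module



/-- For a finite field F and m ≥ 7, let K be a subfield of the algebra of 2m × 2m matrices over F containing the scalars, of prime degree r over F, whose elements k are self-adjoint for the standard alternating form f on F^(2m) (f(k u, v) = f(u, k v)) and satisfy f(k v, v) = 0 for all v. Then the elements of Sp_2m(F) normalising K form a maximal subgroup of Sp_2m(F). -/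
theorem result {F : Type*} [Field F] [Fintype F] (m : ℕ) (hm : 7 ≤ m) (r : ℕ) (hr : r.Prime) (K : Subalgebra F (Matrix (Fin m ⊕ Fin m) (Fin m ⊕ Fin m) F)) (hK : Cfsg.Geo.IsFieldSubalgebra r K) (hsa : Cfsg.Geo.IsSelfAdjointFor (Cfsg.sympForm m F) K) (halt : ∀ k ∈ K, ∀ v : (Fin m ⊕ Fin m → F), Cfsg.sympForm m F (Matrix.mulVec k v) v = 0) : Cfsg.Geo.IsMaximalIn (Cfsg.spGL m F) (Cfsg.Geo.subalgebraNormalizer K ⊓ Cfsg.spGL m F) := by
  have : NeZero m := ⟨by omega⟩
  obtain ⟨E, _, _, _, _, _, _, e, h1, h2, h4, -, h5, h3⟩ := exists_field hK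
  have hD := fSymp_nondeg (F := F) m
  have hn : 5 ≤ finrank F (Fin m ⊕ Fin m → F) := by simp; omega
  obtain ⟨μ, D', m0, hD', hB⟩ := exists_altForm (K := E) hD
    (fun a u v => by rw [h5, h5, fSymp_B, fSymp_B, hsa _ (h4 a)])
    (fun a u => by rw [h5, fSymp_B, halt _ (h4 a)])
  refine isMaximalIn_map (spGL_eq m) (S := (nK F E _).comap (fSymp F m).isom.subtype)
    (by rw [← h3]; rfl) (not_E_le_nK hD (Symp.sing _) (by omega) hn (h1 ▸ hr.one_lt))
    fun X h6 h7 => ?_
  rw [Symp.E_eq_top hD] at h6 ⊢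
  exact (C3.symp_symp hD hD' hn (h1 ▸ hr) m0 hB (fun g hg => h6 ⟨trivial, hg.mem_nK⟩) h7).ge

end Cfsg.Agent.S5664
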