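import Cfsg.Statements.S5665
import Cfsg.Agent.Lib.Max.C3G

set_option autoImplicit false
open Cfsg

namespace Cfsg.Agent.S5665

open Cfsg.Lib.Forms Cfsg.Lib.Forms.Form Module



/-- For a finite field F of odd order and m ≥ 7, let K be a subfield of the algebra of 2m × 2m matrices over F containing the scalars, of degree 2 over F, that is closed under adjoints for the standard alternating form on F^(2m) but whose elements are not all self-adjoint (so the adjoint map induces the automorphism of order two of K). Then the elements of Sp_2m(F) normalising K form a maximal subgroup of Sp_2m(F). -/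
theorem result {F : Type*} [Field F] [Fintype F] (m : ℕ) (hm : 7 ≤ m) (hodd : Odd (Fintype.card F)) (K : Subalgebra F (Matrix (Fin m ⊕ Fin m) (Fin m ⊕ Fin m) F)) (hK : Cfsg.Geo.IsFieldSubalgebra 2 K) (hac : Cfsg.Geo.IsAdjointClosedFor (Cfsg.sympForm m F) K) (hnsa : ¬ Cfsg.Geo.IsSelfAdjointFor (Cfsg.sympForm m F) K) : Cfsg.Geo.IsMaximalIn (Cfsg.spGL m F) (Cfsg.Geo.subalgebraNormalizer K ⊓ Cfsg.spGL m F) := by
  have : NeZero m := ⟨by omega⟩
  obtain ⟨E, _, _, _, _, _, _, e, h1, h2, h4, h4', h5, h3⟩ := exists_field hK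
  have hD := fSymp_nondeg (F := F) m
  have hn : 5 ≤ finrank F (Fin m ⊕ Fin m → F) := by simp; omega
  have f2 : (2 : F) ≠ 0 := two_ne_zero_of_odd_card rfl hodd
  obtain ⟨σ, h, hσ⟩ := exists_adj (K := E) hD h1 (fun a => by
      obtain ⟨k, hk, h6⟩ := hac _ (h4 a)
      obtain ⟨b, rfl⟩ := h4' k hk
      exact ⟨b, fun u v => by rw [h5, h5, fSymp_B, fSymp_B, h6]⟩) fun H => hnsa fun k hk u v => by
    obtain ⟨b, rfl⟩ := h4' k hk
    rw [← h5, ← h5, ← fSymp_B, ← fSymp_B, H]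
  obtain ⟨ρ, hρ⟩ := exists_retraction F E
  obtain ⟨θ, θ0, hθ⟩ := h.exists_trace_zero
  obtain ⟨ξ, hξ⟩ := h.exists_not_fixed
  have hq := Nat.card_eq_fintype_card (α := F)
  let μ : E →ₗ[F] F := ρ ∘ₗ LinearMap.mul F E θ ∘ₗ (LinearMap.id - h.lin hq)
  have hμ : ∀ a, μ a = ρ (θ * (a - σ a)) := fun _ => rfl
  have m0 : μ ≠ 0 := fun h0 => by
    obtain ⟨c, hc⟩ := (h.fixed_iff_mem_range hq (x := θ * (ξ - σ ξ))).1 (by
      rw [map_mul, map_sub, h.σσ]; linear_combination (σ ξ - ξ) * hθ)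
    have := hμ ξ
    rw [h0, ← hc, hρ, LinearMap.zero_apply] at this
    rw [← this, map_zero] at hc
    exact mul_ne_zero θ0 (sub_ne_zero.2 (Ne.symm hξ)) hc.symm
  have m1 : ∀ a, μ (σ a) = -μ a := fun a => by rw [hμ, hμ, h.σσ, ← map_neg]; ring_nf
  obtain ⟨D', hD', hB⟩ := exists_hermForm hD h hσ m0 (by simp [m1])
  refine isMaximalIn_map (spGL_eq m) (S := (nK F E _).comap (fSymp F m).isom.subtype)
    (by rw [← h3]; rfl) (not_E_le_nK hD (Symp.sing _) (by omega) hn (by omega))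
    fun X h6 h7 => ?_
  rw [Symp.E_eq_top hD] at h6 ⊢
  simp only [Fintype.card_sum, Fintype.card_fin] at h2
  exact (C3.herm_symp hD hD' (by omega) h1 f2 m0 m1 hB
    (fun g hg => h6 ⟨trivial, hg.mem_nK⟩) h7).ge

end Cfsg.Agent.S5665
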