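import Cfsg.Statements.S5667
import Cfsg.Agent.Lib.Asch.NM3

set_option autoImplicit false
open Cfsg

namespace Cfsg.Agent.S5667

open Cfsg.Lib.Asch Cfsg.Lib.Forms

/-- Over the field with 3 elements and for m ≥ 7, suppose the standard alternating form on F^(2m) is similar, through P and e, to the tensor product of a non-degenerate symplectic form f₁ on F^(n₁) and a non-degenerate symmetric bilinear form f₂ on F^3. Then the elements of Sp_2m(3) in the stabiliser of this tensor decomposition form a subgroup that is not maximal: some subgroup lies strictly between it and Sp_2m(3). -/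
theorem result {F : Type*} [Field F] [Fintype F] (m : ℕ) (hm : 7 ≤ m) (hq : Fintype.card F = 3) (n₁ : ℕ) (e : (Fin m ⊕ Fin m) ≃ Fin n₁ × Fin 3) (P : Matrix.GeneralLinearGroup (Fin m ⊕ Fin m) F) (f₁ : (Fin n₁ → F) → (Fin n₁ → F) → F) (f₂ : (Fin 3 → F) → (Fin 3 → F) → F) (hf₁ : Cfsg.Geo.IsSymplecticForm f₁) (hf₂ : Cfsg.Geo.IsSymmetricForm f₂) (hT : Cfsg.Geo.IsTensorFormStructure id (Cfsg.sympForm m F) f₁ f₂ e P) : ∃ K : Subgroup (Matrix.GeneralLinearGroup (Fin m ⊕ Fin m) F), Cfsg.Geo.tensorProductSubgroup n₁ 3 e P ⊓ Cfsg.spGL m F < K ∧ K < Cfsg.spGL m F := by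
  have := Fintype.card_congr e
  have : Nonempty (Fin m ⊕ Fin m) := ⟨.inl ⟨0, by omega⟩⟩
  have h₁ := IsSymplecticForm.hm hf₁
  have h₂ := IsSymmetricForm.hm hf₂
  obtain ⟨c, hc, h⟩ := ts_of h₁.toIsSesq h₂.toIsSesq hT
  obtain ⟨D, h4, h5⟩ := h₂.frame_three hq
  obtain ⟨U, hU, hU'⟩ := Symp.hasTS ((h₁.br_sForm hf₁.alternating).nondeg h₁) (m := 2) (by simp at *; omega)
  exact h.swap.nm_frame hc (hm_sympForm m).toIsSesq h₂ h₁ (cl_sp (.inl (by omega))) le_rfl
    ((hm_sympForm m).sg.mono inf_le_left)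
    (fun g hg => let ⟨a, b, h⟩ := (mem_tensorProductSubgroup_iff ..).1 hg; ⟨b, a, h.trans (tr_swap ..).symm⟩)
    h4 h5 hU fun u hu w hw => hU'.B_eq w hw u hu

end Cfsg.Agent.S5667
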