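import Cfsg.Statements.S5673
import Cfsg.Agent.Lib.Asch.O

set_option autoImplicit false
open Cfsg

namespace Cfsg.Agent.S5673

/-- Subgroup structure of the odd-dimensional orthogonal groups. Let F be a finite field of odd order and m ≥ 3, let Q be the standard quadratic form x₀² + Σ x_i y_i on F^(2m+1), and let Ω be the commutator subgroup of its isometry group, viewed inside GL_(2m+1)(F). Let H be a subgroup of Ω whose product with the scalar matrices in Ω is not all of Ω. Then either H is contained in a member of one of the geometric classes of subgroups of the isometry group (with the conditions built into InOrthogonalOddClass), or H is in the residual class: modulo scalars it is almost simple, and the perfect preimage of its socle acts absolutely irreducibly, is realisable over no proper subfield, and fixes no non-degenerate unitary form. -/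
theorem result {F : Type*} [Field F] [Fintype F] (hodd : Odd (Fintype.card F)) (m : ℕ) (hm : 3 ≤ m) (H : Subgroup (Matrix.GeneralLinearGroup (Unit ⊕ (Fin m ⊕ Fin m)) F)) (hH : H ≤ Cfsg.Geo.omegaGL (Cfsg.quadFormOdd m F)) (hproper : H ⊔ (Cfsg.Geo.scalars (Unit ⊕ (Fin m ⊕ Fin m)) F ⊓ Cfsg.Geo.omegaGL (Cfsg.quadFormOdd m F)) ≠ Cfsg.Geo.omegaGL (Cfsg.quadFormOdd m F)) : (∃ M : Subgroup (Matrix.GeneralLinearGroup (Unit ⊕ (Fin m ⊕ Fin m)) F), Cfsg.Geo.InOrthogonalOddClass m F M ∧ H ≤ M) ∨ Cfsg.Geo.InOrthogonalResidualClass H := by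
  have hQ := Lib.Asch.nq_odd (Lib.Asch.two_ne_zero_of_odd hodd) m (F := F)
  have hN : Fintype.card (Unit ⊕ (Fin m ⊕ Fin m)) = 2 * m + 1 := by simp; omega
  have hO : Odd (Fintype.card (Unit ⊕ (Fin m ⊕ Fin m))) := ⟨m, hN⟩
  have hE := Nat.not_even_iff_odd.2 hO
  have hI := hH.trans Lib.Asch.omegaGL_le
  rcases Lib.Asch.oCase hQ (by omega) hH with ⟨W, h0, h1, h2, h⟩ | ⟨W, h0, ht, h1, h2, h3, h4, h5, h⟩ |
    ⟨k, hn, hk, ho, hp, D, hD, h1, h⟩ | ⟨he, v, h0, h⟩ |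
    ⟨t, k, ht, hn, D, hD, ho, h1, h2, h2', h3, h4, h⟩ | ⟨k, hn, hk, hp, D, hD, h1, h⟩ |
    ⟨r, hr, hn, h1, h2, h3, K, hK, h4, h⟩ | ⟨he, hp, K, hK, h1, h2, h3, h⟩ |
    ⟨n₁, n₂, hn, ho, h3, hle, he, h5, e, P, f₁, f₂, h1, h2, hm', hs, h⟩ |
    ⟨n₁, n₂, hn, he₁, he₂, h3, hle, hp, e, P, f₁, f₂, h1, h2, hs, h0, h⟩ |
    ⟨F₀, r, P, ζ, hr, hc, h0, h1, hp, h⟩ | ⟨k, hn, hp⟩ |
    ⟨k, t, hn, hk, hk', ht, ho, h5, e, P, f₁, h1, hs, h⟩ | ⟨k, t, hn, hk, ht, hp⟩ | h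
  · exact .inl ⟨_, .inl ⟨W, h0, h1, rfl⟩, h.le hI⟩
  · exact .inl ⟨_, .inr <| .inl ⟨W, h0, ht, h1, rfl⟩, h.le hI⟩
  · omega
  · exact absurd hodd he
  · have := hD.decomp.decomp.pos
    obtain rfl | hk : 1 = k ∨ 1 < k := by omega
    · exact .inl ⟨_, .inr <| .inr <| .inr <| .inl ⟨t, D, h1 rfl, hD, rfl⟩, h.le hI⟩
    · exact .inl ⟨_, .inr <| .inr <| .inl ⟨t, k, D, hk, hD, rfl⟩, h.le hI⟩
  · omega
  · exact .inl ⟨_, .inr <| .inr <| .inr <| .inr <| .inl ⟨r, K, hr, by omega, hK, h4, rfl⟩, h.le hI⟩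
  · exact absurd he hE
  · exact .inl ⟨_, .inr <| .inr <| .inr <| .inr <| .inr <| .inl ⟨n₁, n₂, e, P, f₁, f₂, h3,
      hle.lt_of_ne fun h6 => hE (hn ▸ (he h6).mul_right _), h1, h2, hs, rfl⟩, h.le hI⟩
  · exact absurd (hn ▸ he₁.mul_right _) hE
  · obtain ⟨P', h2, h3⟩ := hQ.rational_one hO (Lib.Asch.gram_odd_mem _ F₀) h0 h1
    exact .inl ⟨_, .inr <| .inr <| .inr <| .inr <| .inr <| .inr <| .inl ⟨F₀, r, P', hr, hc, h2, rfl⟩,
      h3 ▸ h.le hI⟩
  · exact absurd (hn ▸ even_two.pow_of_ne_zero (by rintro rfl; omega)) hE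
  · exact .inl ⟨_, .inr <| .inr <| .inr <| .inr <| .inr <| .inr <| .inr ⟨k, t, e, P, f₁, hk, ht, h5, h1, hs, rfl⟩,
      h.le hI⟩
  · exact absurd (hn ▸ hk.pow_of_ne_zero (by omega)) hE
  · exact .inr h

end Cfsg.Agent.S5673
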