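import Cfsg.Statements.S5681
import Cfsg.Agent.Lib.Max.TQ

set_option autoImplicit false
open Cfsg

namespace Cfsg.Agent.S5681

open Cfsg.Lib.Forms Cfsg.Lib.Forms.Form Module



/-- Let F be a finite field of odd order q, m ≥ 6, Q the standard quadratic form on F^(2m+1) and Ω the commutator subgroup of its isometry group. Suppose the polar form of Q is similar, through a change of basis P and a bijection of index sets e, to the tensor product of non-degenerate symmetric bilinear forms f₁ on F^(n₁) and f₂ on F^(n₂) with 3 ≤ n₁ < n₂. Unless q = 3 and n₁ = 3, the elements of Ω in the stabiliser of this tensor decomposition form a maximal subgroup of Ω. -/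
theorem result {F : Type*} [Field F] [Fintype F] (hodd : Odd (Fintype.card F)) (m : ℕ) (hm : 6 ≤ m) (n₁ n₂ : ℕ) (h1 : 3 ≤ n₁) (h12 : n₁ < n₂) (hex : ¬ (Fintype.card F = 3 ∧ n₁ = 3)) (e : (Unit ⊕ (Fin m ⊕ Fin m)) ≃ Fin n₁ × Fin n₂) (P : Matrix.GeneralLinearGroup (Unit ⊕ (Fin m ⊕ Fin m)) F) (f₁ : (Fin n₁ → F) → (Fin n₁ → F) → F) (f₂ : (Fin n₂ → F) → (Fin n₂ → F) → F) (hf₁ : Cfsg.Geo.IsSymmetricForm f₁) (hf₂ : Cfsg.Geo.IsSymmetricForm f₂) (hT : Cfsg.Geo.IsTensorFormStructure id (QuadraticMap.polar (Cfsg.quadFormOdd m F)) f₁ f₂ e P) : Cfsg.Geo.IsMaximalIn (Cfsg.Geo.omegaGL (Cfsg.quadFormOdd m F)) (Cfsg.Geo.tensorProductSubgroup n₁ n₂ e P ⊓ Cfsg.Geo.omegaGL (Cfsg.quadFormOdd m F)) := by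
  have hD := fOdd_nondeg (two_ne_zero_of_odd_card rfl hodd) m
  have h : QuadraticMap.polar (fOdd F m).Q = fun x y => (fOdd F m).B x y :=
    funext₂ fun x y => polar_toQuad (fOdd F m) x y
  have e1 := Fintype.card_congr e
  simp only [Fintype.card_sum, Fintype.card_fin, Fintype.card_prod, Fintype.card_unit] at e1
  have e2 : Odd (n₁ * n₂) := ⟨m, by omega⟩
  obtain ⟨a, ha⟩ := (Nat.odd_mul.1 e2).1
  obtain ⟨b, hb⟩ := (Nat.odd_mul.1 e2).2
  refine TF.oo_max_tensor hodd ⟨quad_Q_smul (fOdd F m), ?_, ?_⟩ h1 (by omega) h12.ne (by omega) (by omega)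
    hex e P hf₁ hf₂ (Or.inl (by omega)) hT
  · rw [h]; constructor <;> simp
  · rw [h]
    intro v hv
    obtain ⟨x, hx⟩ := hD.exists_ne_zero hv
    exact ⟨⟨x, (fOdd F m).ne_zero_symm hx⟩, x, hx⟩

end Cfsg.Agent.S5681
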