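import Cfsg.Statements.S5691
import Cfsg.Agent.Lib.Max.C1

set_option autoImplicit false
open Cfsg

namespace Cfsg.Agent.S5691

open Cfsg.Lib.Forms Cfsg.Lib.Forms.Form Module



/-- Let F be a finite field with q elements, n ≥ 13 even, Q a non-degenerate quadratic form on F^n (of either type), and Ω the commutator subgroup of the isometry group of Q, viewed inside GL_n(F). Suppose q is even and v is a vector with Q(v) ≠ 0. Then the elements of Ω stabilising the line spanned by v form a maximal subgroup of Ω. -/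
theorem result {F : Type*} [Field F] [Fintype F] {n : ℕ} (hn : 13 ≤ n) (heven : Even n) (Q : (Fin n → F) → F) (hQ : Cfsg.Geo.IsNondegenerateQuadraticForm Q) (hchar : ¬ Odd (Fintype.card F)) (v : (Fin n → F)) (hv : Q v ≠ 0) : Cfsg.Geo.IsMaximalIn (Cfsg.Geo.omegaGL Q) (Cfsg.Geo.subspaceStabilizer (Submodule.span F {v}) ⊓ Cfsg.Geo.omegaGL Q) := by
  obtain ⟨D, rfl, hD⟩ := exists_form_of_quad hQ
  have hn' : finrank F (Fin n → F) = n := by simp
  have h0 : v ≠ 0 := by rintro rfl; simp at hv
  have h1 := finrank_span_singleton (K := F) h0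
  have hf := hD.finrank_perp (F ∙ v)
  refine isMaximalIn_map (omegaGL_eq hD (by omega)) (comap_subspaceStabilizer _)
    (Quad.not_E_le_stab hD (by omega) (by simpa using h0) fun h => ?_) fun X => ?_
  · rw [h, finrank_top] at h1; omega
  rw [← hD.stab_perp]
  refine E_le_of_hyperplane hD (Quad.big ?_) (by omega)
  have h2 : (2 : F) = 0 := by
    rw [← ringChar_eq_two_iff, FiniteField.even_card_iff_char_two]
    exact Nat.even_iff.1 (Nat.not_odd_iff_even.1 hchar)
  obtain ⟨f, hf⟩ := Symp.exists_isHyp' (hD.polarAlt h2) h0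
  refine ⟨(D.polarAlt h2).hp v f, D.perp_anti (Submodule.span_mono (by simp)),
    (D.polarAlt h2).nondeg_restrict_iff.1 (hf.nondeg_hp (hD.polarAlt h2)), ?_⟩
  have := hf.finrank_hp
  omega

end Cfsg.Agent.S5691
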