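import Cfsg.Statements.S5697
import Cfsg.Agent.Lib.Max.C1

set_option autoImplicit false
open Cfsg

namespace Cfsg.Agent.S5697

open Cfsg.Lib.Forms Cfsg.Lib.Forms.Form Module



/-- Let F be a finite field with q elements, n ≥ 13 even, Q a non-degenerate quadratic form on F^n of plus type (some subspace of dimension n/2 is totally singular), and Ω the commutator subgroup of the isometry group of Q, viewed inside GL_n(F). Suppose n/2 is even and let D be a decomposition of F^n into two complementary subspaces of dimension n/2 on each of which Q vanishes. Then the elements of Ω preserving or interchanging the two subspaces form a maximal subgroup of Ω. -/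
theorem result {F : Type*} [Field F] [Fintype F] {n : ℕ} (hn : 13 ≤ n) (heven : Even n) (Q : (Fin n → F) → F) (hQ : Cfsg.Geo.IsNondegenerateQuadraticForm Q) (hplus : Cfsg.Geo.IsPlusTypeOn Q ⊤) (k : ℕ) (hk : 2 * k = n) (hke : Even k) (D : Fin 2 → Submodule F (Fin n → F)) (hD : Cfsg.Geo.IsMDecomposition k D) (hts : ∀ i, Cfsg.Geo.IsTotallySingularQuad Q (D i)) : Cfsg.Geo.IsMaximalIn (Cfsg.Geo.omegaGL Q) (Cfsg.Geo.decompositionStabilizer D ⊓ Cfsg.Geo.omegaGL Q) := by
  obtain ⟨E, rfl, hN⟩ := exists_form_of_quad hQ
  have hn' : finrank F (Fin n → F) = n := by simp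
  obtain ⟨h1, h2, h3⟩ := isDual_of_dec hN hD fun i => isTS_iff_quad.1 (hts i)
  have h0 := hD.finrank_eq 0
  have h4 : D 0 ≠ ⊥ := fun h => by rw [h] at h0; simp at h0; omega
  refine isMaximalIn_map (omegaGL_eq hN (by omega)) (comap_decompositionStabilizer D)
    ((Quad.trans hN (by omega)).not_E_le_dec (Quad.sing _) hD.indep h4 (by omega)) fun X => ?_
  rw [← h3]
  exact h1.E_le h2 hN Quad.comm (by omega) (Quad.exists_swap hN (by omega) h1 h2 (h0 ▸ hke))

end Cfsg.Agent.S5697
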