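import Cfsg.Statements.S5699
import Cfsg.Agent.Lib.Max.C1

set_option autoImplicit false
open Cfsg

namespace Cfsg.Agent.S5699

open Cfsg.Lib.Forms Cfsg.Lib.Forms.Form Module



/-- Let F be a finite field with q elements, n ≥ 13 even, Q a non-degenerate quadratic form on F^n (of either type), and Ω the commutator subgroup of the isometry group of Q, viewed inside GL_n(F). Let D be a decomposition of F^n into two orthogonal subspaces of odd dimension n/2 on which the polar form is non-degenerate and which are not Q-isometric to each other. Then the elements of Ω permuting (necessarily fixing) the two subspaces form a maximal subgroup of Ω. -/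
theorem result {F : Type*} [Field F] [Fintype F] {n : ℕ} (hn : 13 ≤ n) (heven : Even n) (Q : (Fin n → F) → F) (hQ : Cfsg.Geo.IsNondegenerateQuadraticForm Q) (k : ℕ) (hk : 2 * k = n) (hko : Odd k) (D : Fin 2 → Submodule F (Fin n → F)) (hD : Cfsg.Geo.IsNondegenerateMDecomposition (QuadraticMap.polar Q) k D) (hni : ¬ Cfsg.Geo.AreIsometricFor Q (D 0) (D 1)) : Cfsg.Geo.IsMaximalIn (Cfsg.Geo.omegaGL Q) (Cfsg.Geo.decompositionStabilizer D ⊓ Cfsg.Geo.omegaGL Q) := by
  obtain ⟨E, rfl, hN⟩ := exists_form_of_quad hQ
  have hn' : finrank F (Fin n → F) = n := by simp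
  have hO := (rep_quad E).isOrth hD
  have h0 := hD.decomp.finrank_eq 0
  have h1 := hD.decomp.finrank_eq 1
  have hf := hN.finrank_perp (D 0)
  have hp : E.perp (D 0) = D 1 :=
    (Submodule.eq_of_le_of_finrank_eq (hO.orth 1 0 (by simp)) (by omega)).symm
  rw [areIsometricFor_iff] at hni
  obtain ⟨l, hl⟩ := hko
  have hs : E.dec D = E.stab (D 0) := by
    refine le_antisymm ?_ fun g hg => mem_dec_of_stab (Fin.forall_fin_two.2
      ⟨hg, hp ▸ E.stab_le_stab_perp _ hg⟩)
    rintro g ⟨π, hπ⟩
    have h2 := hπ 0
    generalize π 0 = j at h2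
    fin_cases j
    · exact E.mem_stab_iff_map.2 h2
    · exact (hni (iso_of_map h2)).elim
  refine isMaximalIn_map (omegaGL_eq hN (by omega)) ((comap_decompositionStabilizer D).trans hs)
    (Quad.not_E_le_stab hN (by omega) (fun h => ?_) fun h => ?_)
    (Quad.E_le_of_nondeg hN (by omega) (hO.disjoint hN 0) (fun _ => hp ▸ hni) (by omega) (by omega))
  · rw [h] at h0; simp at h0; omega
  · rw [h, finrank_top] at h0; omega

end Cfsg.Agent.S5699
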