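import Cfsg.Statements.S5944


set_option autoImplicit false
open Cfsg

namespace Cfsg.Agent.S5944

open Equiv MulAction

theorem faithful {α : Type*} [Fintype α] [DecidableEq α] (h5 : 5 ≤ Fintype.card α)
    (H : Subgroup (Perm α)) (hH : H ≠ ⊤) (hA : H ≠ alternatingGroup α) :
    Function.Injective (toPermHom (Perm α) (Perm α ⧸ H)) := by
  rw [← MonoidHom.ker_eq_bot_iff, ← Subgroup.normalCore_eq_ker]
  by_contra h
  haveI : Nontrivial H.normalCore := (Subgroup.nontrivial_iff_ne_bot _).2 h
  have h1 := (Perm.alternatingGroup_le_of_normal (by rwa [Nat.card_eq_fintype_card]) this).trans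
    H.normalCore_le
  haveI : Nontrivial α := Fintype.one_lt_card_iff_nontrivial.1 (by omega)
  have h2 := Subgroup.index_dvd_of_le h1
  rw [alternatingGroup.index_eq_two] at h2
  rcases (Nat.dvd_prime Nat.prime_two).1 h2 with h | h
  · exact hH (Subgroup.index_eq_one.1 h)
  · exact hA (Perm.eq_alternatingGroup_of_index_eq_two h)

/-- For n ≠ 4, every proper subgroup of the symmetric group S_n other than the alternating group A_n has index at least n. -/
theorem result (n : ℕ) (hn : n ≠ 4) (H : Subgroup (Equiv.Perm (Fin n))) (hH : H ≠ ⊤) (hA : H ≠ alternatingGroup (Fin n)) : n ≤ H.index := by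
  classical
  have h0 : H.index ≠ 0 := Subgroup.index_ne_zero_of_finite
  have h1 : H.index ≠ 1 := fun h => hH (Subgroup.index_eq_one.1 h)
  have h2 : H.index ≠ 2 := fun h => hA (Perm.eq_alternatingGroup_of_index_eq_two h)
  by_cases h5 : 5 ≤ n
  · have hi := faithful (by simpa using h5) H hH hA
    have := Nat.card_le_card_of_injective _ hi
    rw [Nat.card_perm, Nat.card_perm, Nat.card_eq_fintype_card, Fintype.card_fin, ← Subgroup.index] at this
    by_contra h
    exact absurd this (not_le.2 ((Nat.factorial_lt (by omega)).2 (by omega)))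
  · omega

end Cfsg.Agent.S5944
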