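import Cfsg.Statements.S5911
import Cfsg.Agent.S5944
import Cfsg.Agent.Lib.Linear.AutAlt

set_option autoImplicit false
open Cfsg

namespace Cfsg.Agent.S5911

open Equiv MulAction

theorem aut_inner {α : Type*} [Fintype α] [DecidableEq α] (h4 : 4 ≤ Fintype.card α) (h6 : Fintype.card α ≠ 6)
    (φ : MulAut (Perm α)) : ∃ g, ∀ x, φ x = g * x * g⁻¹ := by
  haveI : Nontrivial α := Fintype.one_lt_card_iff_nontrivial.1 (by omega)
  have hA : (alternatingGroup α).comap φ.toMonoidHom = alternatingGroup α :=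
    Perm.eq_alternatingGroup_of_index_eq_two (by
      rw [Subgroup.index_comap_of_surjective _ φ.surjective, alternatingGroup.index_eq_two])
  have hm : ∀ x, φ x ∈ alternatingGroup α ↔ x ∈ alternatingGroup α := fun x => by
    conv_rhs => rw [← hA]
    rfl
  let ψ : MulAut (alternatingGroup α) :=
    { toFun := fun x => ⟨φ x, (hm _).2 x.2⟩
      invFun := fun x => ⟨φ.symm x, (hm _).1 (by simp)⟩
      left_inv := fun x => by simp
      right_inv := fun x => by simp
      map_mul' := fun x y => by simp }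
  obtain ⟨g, hg⟩ := Cfsg.Lib.Linear.conjNormal_alt_surjective h4 h6 ψ
  have h1 : ∀ a ∈ alternatingGroup α, φ a = g * a * g⁻¹ := fun a ha =>
    (congrArg (fun χ : MulAut (alternatingGroup α) => (χ ⟨a, ha⟩).1) hg).symm
  refine ⟨g, fun x => Cfsg.Lib.Linear.conjNormal_alt_injective h4 ?_⟩
  ext1 ⟨a, ha⟩
  apply Subtype.ext
  have ha' : g⁻¹ * a * g ∈ alternatingGroup α := by
    simpa using (inferInstance : (alternatingGroup α).Normal).conj_mem a ha g⁻¹
  have e1 : a = φ (g⁻¹ * a * g) := by rw [h1 _ ha']; group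
  have e2 := h1 _ ((inferInstance : (alternatingGroup α).Normal).conj_mem _ ha' x)
  simp only [MulAut.conjNormal_apply]
  conv_lhs => rw [e1, ← map_inv, ← map_mul, ← map_mul, e2]
  group

/-- a subgroup of index `n` is the preimage of a point stabiliser under an automorphism -/
theorem exists_aut {α : Type*} [Fintype α] [DecidableEq α] (h5 : 5 ≤ Fintype.card α)
    (H : Subgroup (Perm α)) (hH : H.index = Fintype.card α) :
    ∃ (φ : MulAut (Perm α)) (x : α), H = (stabilizer (Perm α) x).comap φ.toMonoidHom := by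
  classical
  haveI : Nontrivial α := Fintype.one_lt_card_iff_nontrivial.1 (by omega)
  have hi := S5944.faithful h5 H (fun h => by rw [h, Subgroup.index_top] at hH; omega)
    (fun h => by rw [h, alternatingGroup.index_eq_two] at hH; omega)
  obtain ⟨e⟩ : Nonempty ((Perm α ⧸ H) ≃ α) := Finite.card_eq.1 (hH.trans Nat.card_eq_fintype_card.symm)
  let f : Perm α →* Perm α := e.permCongrHom.toMonoidHom.comp (toPermHom (Perm α) (Perm α ⧸ H))
  have hf : Function.Injective f := e.permCongrHom.injective.comp hi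
  refine ⟨MulEquiv.ofBijective f (Finite.injective_iff_bijective.1 hf), e ((1 : Perm α) : Perm α ⧸ H), ?_⟩
  ext g
  simp [f, QuotientGroup.eq]

theorem eq_of_fix {α : Type*} [Fintype α] [DecidableEq α] (H : Subgroup (Perm α))
    (hH : H.index = Fintype.card α) (x : α) (h : ∀ g ∈ H, g x = x) : H = stabilizer (Perm α) x := by
  apply Subgroup.eq_of_le_of_card_ge h
  have h1 := H.index_mul_card
  have h2 := (stabilizer (Perm α) x).index_mul_card
  rw [index_stabilizer_of_transitive, Nat.card_eq_fintype_card, ← h1, hH] at h2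
  exact (Nat.eq_of_mul_eq_mul_left (Fintype.card_pos_iff.2 ⟨x⟩) h2).le

/-- Let Ω be a finite set whose size n is not 6. Then every subgroup of the symmetric group on Ω of index n is the stabilizer of a point. -/
theorem result {Ω : Type*} [Fintype Ω] [DecidableEq Ω] (h6 : Fintype.card Ω ≠ 6)
    (H : Subgroup (Equiv.Perm Ω)) (hH : H.index = Fintype.card Ω) :
    ∃ x : Ω, H = MulAction.stabilizer (Equiv.Perm Ω) x := by
  by_cases h5 : 5 ≤ Fintype.card Ω
  · obtain ⟨φ, x, rfl⟩ := exists_aut h5 H hH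
    obtain ⟨g, hg⟩ := aut_inner (by omega) h6 φ
    refine ⟨g⁻¹ x, eq_of_fix _ hH _ fun k hk => ?_⟩
    have : φ k x = x := hk
    rw [hg] at this
    exact Perm.eq_inv_iff_eq.2 this
  have h0 : H.index ≠ 0 := Subgroup.index_ne_zero_of_finite
  have h1 := H.index_mul_card
  rw [Nat.card_perm, Nat.card_eq_fintype_card (α := Ω), hH] at h1
  suffices ∃ x, ∀ g ∈ H, g x = x by
    obtain ⟨x, hx⟩ := this
    exact ⟨x, eq_of_fix H hH x hx⟩
  have h2 : Fintype.card Ω = 1 ∨ Fintype.card Ω = 2 ∨ Fintype.card Ω = 3 ∨ Fintype.card Ω = 4 := by omega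
  have hone : Nat.card H = 1 → ∃ x, ∀ g ∈ H, g x = x := fun h => by
    obtain ⟨x⟩ : Nonempty Ω := Fintype.card_pos_iff.1 (by omega)
    rw [Subgroup.card_eq_one] at h
    exact ⟨x, fun g hg => by rw [h, Subgroup.mem_bot] at hg; simp [hg]⟩
  rcases h2 with h | h | h | h <;> rw [h] at h1 <;> simp only [Nat.factorial] at h1
  · exact hone (by omega)
  · exact hone (by omega)
  · have hp : IsPGroup 2 H := IsPGroup.of_card (n := 1) (by omega)
    obtain ⟨x, hx⟩ := hp.nonempty_fixed_point_of_prime_not_dvd_card Ω (by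
      rw [Nat.card_eq_fintype_card, h]; norm_num)
    exact ⟨x, fun g hg => hx ⟨g, hg⟩⟩
  · haveI : Fact (Nat.Prime 3) := ⟨Nat.prime_three⟩
    obtain ⟨c, hc⟩ := exists_prime_orderOf_dvd_card' (G := H) 3 (by omega)
    have hi : (Subgroup.zpowers c).index = 2 := by
      have := (Subgroup.zpowers c).index_mul_card
      rw [Nat.card_zpowers, hc] at this; omega
    have hn := Subgroup.normal_of_index_eq_two hi
    have hc3 : c.1.IsThreeCycle := by
      have := Perm.isCycle_of_prime_order' (σ := c.1) (by rw [Subgroup.orderOf_coe, hc]; exact Nat.prime_three)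
        (by rw [Subgroup.orderOf_coe, hc, h]; norm_num)
      rw [Perm.IsThreeCycle, this.cycleType, ← this.orderOf, Subgroup.orderOf_coe, hc]
    have hs : (c.1.supportᶜ).card = 1 := by rw [Finset.card_compl, hc3.card_support, h]
    obtain ⟨x, hx⟩ := Finset.card_eq_one.1 hs
    have hx' : ∀ y, c.1 y = y ↔ y = x := fun y => by
      rw [← Finset.mem_singleton (a := x), ← hx, Finset.mem_compl, Perm.notMem_support]
    refine ⟨x, fun g hg => (hx' _).1 ?_⟩
    obtain ⟨k, hk⟩ := hn.conj_mem c (Subgroup.mem_zpowers c) ⟨g, hg⟩⁻¹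
    have h3 : (c.1 ^ k) x = x := Perm.zpow_apply_eq_self_of_apply_eq_self ((hx' x).2 rfl) k
    have h4 : c.1 ^ k = g⁻¹ * c.1 * g := by simpa using congrArg Subtype.val hk
    rw [h4] at h3
    exact Perm.inv_eq_iff_eq.1 h3

end Cfsg.Agent.S5911
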