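import Cfsg.Statements.S5712
import Cfsg.Agent.Lib.Linear.SpTwo2
import Cfsg.Agent.Lib.Linear.RegForm
import Cfsg.Agent.Lib.Forms.Bridge
import Cfsg.Agent.Lib.Forms.More
import Cfsg.Agent.S5911
import Cfsg.Agent.S0247

set_option autoImplicit false
open Cfsg

namespace Cfsg.Agent.S5712

open Cfsg.Lib.Linear.EG Cfsg.Lib.Forms Cfsg.Lib.Forms.Form Module Matrix

theorem perm_six (M : Subgroup (Equiv.Perm (Fin 6))) (h : 120 ≤ Nat.card M) : M = ⊤ ∨
    Nonempty (M ≃* alternatingGroup (Fin 6)) ∨ Nonempty (M ≃* Equiv.Perm (Fin 5)) := by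
  by_cases h1 : M = ⊤
  · exact Or.inl h1
  by_cases h2 : M = alternatingGroup _
  · exact Or.inr (Or.inl ⟨MulEquiv.subgroupCongr h2⟩)
  have h3 := Subgroup.card_dvd_of_injective _ (S5944.faithful (by simp) M h1 h2)
  have h4 := M.index_mul_card
  rw [Nat.card_perm, Nat.card_fin] at h4
  rw [Nat.card_perm, Nat.card_perm, Nat.card_fin, ← Subgroup.index_eq_card] at h3
  have h5 : M.index ≤ 6 := by
    by_contra h5
    have := Nat.mul_le_mul (not_le.1 h5) h
    simp [Nat.factorial] at h4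
    omega
  have h6 : M.index = 6 := by
    generalize M.index = k at h3 h5
    interval_cases k <;> simp_all [Nat.factorial]
  obtain ⟨φ, x, rfl⟩ := S5911.exists_aut (by simp) M (by simp [h6])
  let ρ : Equiv.Perm (Fin 5) →* Equiv.Perm (Fin 6) :=
    Equiv.Perm.extendDomainHom (finSuccAboveEquiv x)
  have h7 : ρ.range = MulAction.stabilizer _ x := by
    refine Subgroup.eq_of_le_of_card_ge ?_ ?_
    · rintro _ ⟨g, rfl⟩
      exact Equiv.Perm.extendDomain_apply_not_subtype _ _ (by simp)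
    · have h8 := (MulAction.stabilizer (Equiv.Perm (Fin 6)) x).index_mul_card
      rw [MulAction.index_stabilizer_of_transitive, Nat.card_perm, Nat.card_fin] at h8
      rw [← Nat.card_congr (ρ.ofInjective (Equiv.Perm.extendDomainHom_injective _)).toEquiv,
        Nat.card_perm, Nat.card_fin]
      simp [Nat.factorial] at h8 ⊢
      omega
  exact Or.inr (Or.inr ⟨(subgroupEquivOfIff φ _ _ fun _ => Iff.rfl).trans
    ((MulEquiv.subgroupCongr h7).symm.trans
      (ρ.ofInjective (Equiv.Perm.extendDomainHom_injective _)).symm)⟩)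

variable {F V : Type*} [Field F] [AddCommGroup V] [Module F V] [FiniteDimensional F V]
  {D : Form (altKind F) V}

theorem exists_eich {a b : V} (h : D.B a b = 1) (g : D.isom) (h1 : g.1 a = a)
    (h2 : ∀ x, D.B a x = 0 → g.1 x - x ∈ F ∙ a) :
    ∃ w ∈ D.hp a b, ∃ d h, g = D.eich a w d h := by
  have hy := Symp.isHyp h
  obtain ⟨d, h', h3⟩ := D.exists_eich_map (x := b) (y := g.1 b) hy.Q_e
    (by nth_rewrite 2 [← h1]; rw [B_isom]) (by simp [h]) (by rw [alt_Q, alt_Q])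
  obtain ⟨w, hw, d', h'', h4⟩ := hy.exists_eich_eq h'
  refine ⟨w, hw, d', h'', isom_ext fun x => ?_⟩
  rw [h4] at h3
  obtain ⟨v, hv, h5⟩ := hy.exists_comb x
  obtain ⟨v1, v2⟩ := D.mem_hp.1 hv
  obtain ⟨t, ht⟩ := Submodule.mem_span_singleton.1 (h2 v v1)
  have h6 : g.1 v = v + t • a := by rw [ht]; abel
  have h7 := B_isom g b v
  have h8 := B_isom (D.eich a w d' h'') b v
  rw [h3, eich_apply_of_perp _ h'' v1] at h8
  rw [h6] at h7
  have h9 : D.B (g.1 b) a ≠ 0 := by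
    nth_rewrite 1 [← h1]; rw [B_isom]; exact D.ne_zero_symm (by simp [h])
  have h10 : t = D.B w v := mul_right_cancel₀ h9 (by
    simp only [D.B_lin] at h7 h8; linear_combination h7 - h8)
  rw [h5]
  simp only [map_add, map_smul, h1, h3, h6, eich_apply_self, eich_apply_of_perp _ h'' v1, h10]

theorem triv [Finite F] (hD : D.Nondeg) (two : (2 : F) = 0) (hn : 3 ≤ finrank F V) {a b : V}
    (h : D.B a b = 1) {Γ : Type*} [Group Γ] (ρ : Γ →* D.isom) (h1 : ∀ g, (ρ g).1 a = a)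
    (h2 : ∀ k : D.isom, k.1 a = a → ∃ g, ρ g = k) (N : Subgroup Γ) [hN : N.Normal]
    (hp : IsPGroup 2 N) {g : Γ} (hg : g ∈ N) (x : V) (hx : D.B a x = 0) :
    (ρ g).1 x - x ∈ F ∙ a := by
  have hy := Symp.isHyp h
  have h' : D.B b a = -1 := by rw [Symp.B_symm, h]
  have h3 : ∀ g x, D.B a ((ρ g).1 x) = D.B a x := fun g x => by
    nth_rewrite 1 [← h1 g]; rw [B_isom]
  letI : MulAction N (D.hp a b) :=
    { smul := fun g w => ⟨(ρ g).1 w + D.B b ((ρ g).1 w) • a, D.mem_hp.2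
        ⟨by simp [h3, (D.mem_hp.1 w.2).1, Symp.B_self], by simp [h']⟩⟩
      one_smul := fun w => Subtype.ext (by
        change (ρ 1).1 w + D.B b ((ρ 1).1 w) • a = w
        simp [isom_one_apply, (D.mem_hp.1 w.2).2])
      mul_smul := fun g k w => Subtype.ext (by
        change (ρ (g * k)).1 w + D.B b ((ρ (g * k)).1 w) • a =
          (ρ g).1 ((ρ k).1 w + D.B b ((ρ k).1 w) • a) +
            D.B b ((ρ g).1 ((ρ k).1 w + D.B b ((ρ k).1 w) • a)) • a
        simp only [map_mul, isom_mul_apply, map_add, map_smul, h1, h', smul_eq_mul]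
        module) }
  have hs : ∀ (g : N) (w : D.hp a b), (g • w).1 = (ρ g).1 w + D.B b ((ρ g).1 w) • a :=
    fun _ _ => rfl
  haveI : Finite V := Module.finite_of_finite F
  haveI : Fact (Nat.Prime 2) := ⟨Nat.prime_two⟩
  obtain ⟨w, hw, w0⟩ := hp.exists_fixed_point_of_prime_dvd_card_of_fixed_point (D.hp a b)
    (a := 0) (by
      have := hy.finrank_hp
      have h4 : 2 ∣ Nat.card F := by
        cases nonempty_fintype F
        haveI : CharP F 2 := (CharP.charP_iff_prime_eq_zero Nat.prime_two).2 two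
        obtain ⟨m, -, hm⟩ := FiniteField.card F 2
        rw [Nat.card_eq_fintype_card, hm]
        exact dvd_pow_self _ m.ne_zero
      rw [Module.natCard_eq_pow_finrank (K := F)]
      exact h4.trans (dvd_pow_self _ (by omega)))
    fun g => Subtype.ext (by simp [hs])
  by_cases h4 : x ∈ F ∙ a
  · obtain ⟨t, rfl⟩ := Submodule.mem_span_singleton.1 h4
    simp [h1]
  obtain ⟨w1, w2⟩ := D.mem_hp.1 w.2
  obtain ⟨k, k1, k2⟩ := hD.exists_fix_map_top (F ∙ a) (a := w) (b := x) (fun h5 => by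
      obtain ⟨t, ht⟩ := Submodule.mem_span_singleton.1 h5
      rw [← ht, D.B_smul_right, h'] at w2
      exact w0 (Subtype.ext (by rw [← ht, show t = 0 by simpa using w2]; simp))) h4
    (fun y hy => by
      obtain ⟨t, rfl⟩ := Submodule.mem_span_singleton.1 hy
      rw [D.B_smul_left, D.B_smul_left, w1, hx]) (by rw [alt_Q, alt_Q])
  obtain ⟨γ, rfl⟩ := h2 k (k1 a (Submodule.mem_span_singleton_self a))
  have h5 := congrArg (fun v : D.hp a b => (ρ γ).1 v) (hw ⟨_, hN.conj_mem' g hg γ⟩)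
  simp only [hs, map_add, map_smul, h1, map_mul, isom_mul_apply, map_inv, isom_apply_inv, k2] at h5
  exact Submodule.mem_span_singleton.2 ⟨-_, by rw [neg_smul, neg_eq_iff_eq_neg, neg_sub,
    eq_sub_iff_add_eq', h5]⟩

/-- Let F be a finite field of characteristic two, n ≥ 2, V = F^{2n} with the non-degenerate alternating form f(u, v) = Σ (u_i v_{n+i} + u_{n+i} v_i), and G the group of invertible matrices preserving f. Let a ≠ 0 be a vector, H its stabilizer in G, and X a subgroup of O₂(H) of order |F|^{2n−2} no element of which is a transvection (no element g has g − 1 of rank one). If L is a subgroup of G containing X that acts irreducibly on V (no proper non-zero L-invariant subspace), then L = G, or, for some quadratic form Q on V whose polar form is f, L is the isometry group of Q or its subgroup of the isometries g for which g − 1 has even rank, or |F| = 2, n = 2 and L is isomorphic to the alternating group of degree 6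 or to the symmetric group of degree 5. -/
theorem result {F : Type*} [Field F] [Fintype F] [CharP F 2] {n : ℕ} (hn : 2 ≤ n) (a : (Fin n ⊕ Fin n → F)) (ha : a ≠ 0)
    (X : Subgroup (GL (Fin n ⊕ Fin n) F)) (hXG : X ≤ Cfsg.preserving (Units.coeHom (Matrix (Fin n ⊕ Fin n) (Fin n ⊕ Fin n) F)) (fun u v : (Fin n ⊕ Fin n → F) => ∑ i : Fin n, (u (Sum.inl i) * v (Sum.inr i) + u (Sum.inr i) * v (Sum.inl i))))
    (hXO : ∀ H : Subgroup (GL (Fin n ⊕ Fin n) F),
      (∀ g : GL (Fin n ⊕ Fin n) F, g ∈ H ↔ (g ∈ Cfsg.preserving (Units.coeHom (Matrix (Fin n ⊕ Fin n) (Fin n ⊕ Fin n) F)) (fun u v : (Fin n ⊕ Fin n → F) => ∑ i : Fin n, (u (Sum.inl i) * v (Sum.inr i) + u (Sum.inr i) * v (Sum.inl i))) ∧ Matrix.mulVec (g : Matrix (Fin n ⊕ Fin n) (Fin n ⊕ Fin n) F) a = a)) →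
      X ≤ (Cfsg.pCore 2 ↥H).map H.subtype)
    (hcard : Nat.card ↥X = Fintype.card F ^ (2 * n - 2))
    (hntv : ∀ x ∈ X, ((x : Matrix (Fin n ⊕ Fin n) (Fin n ⊕ Fin n) F) - 1).rank ≠ 1)
    (L : Subgroup (GL (Fin n ⊕ Fin n) F)) (hXL : X ≤ L) (hLG : L ≤ Cfsg.preserving (Units.coeHom (Matrix (Fin n ⊕ Fin n) (Fin n ⊕ Fin n) F)) (fun u v : (Fin n ⊕ Fin n → F) => ∑ i : Fin n, (u (Sum.inl i) * v (Sum.inr i) + u (Sum.inr i) * v (Sum.inl i))))
    (hirr : ∀ W : Submodule F (Fin n ⊕ Fin n → F), (∀ g ∈ L, ∀ w ∈ W, Matrix.mulVec (g : Matrix (Fin n ⊕ Fin n) (Fin n ⊕ Fin n) F) w ∈ W) → W = ⊥ ∨ W = ⊤) :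
    L = Cfsg.preserving (Units.coeHom (Matrix (Fin n ⊕ Fin n) (Fin n ⊕ Fin n) F)) (fun u v : (Fin n ⊕ Fin n → F) => ∑ i : Fin n, (u (Sum.inl i) * v (Sum.inr i) + u (Sum.inr i) * v (Sum.inl i))) ∨
    (∃ Q : QuadraticForm F (Fin n ⊕ Fin n → F), (∀ u v, QuadraticMap.polar ⇑Q u v = (fun u v : (Fin n ⊕ Fin n → F) => ∑ i : Fin n, (u (Sum.inl i) * v (Sum.inr i) + u (Sum.inr i) * v (Sum.inl i))) u v) ∧
      (L = Cfsg.isometryGroup F ⇑Q ∨
        ∀ g : GL (Fin n ⊕ Fin n) F, g ∈ L ↔ (g ∈ Cfsg.isometryGroup F ⇑Q ∧ Even ((g : Matrix (Fin n ⊕ Fin n) (Fin n ⊕ Fin n) F) - 1).rank))) ∨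
    (Fintype.card F = 2 ∧ n = 2 ∧ (Nonempty (↥L ≃* ↥(alternatingGroup (Fin 6))) ∨ Nonempty (↥L ≃* Equiv.Perm (Fin 5)))) := by
  classical
  have two : (2 : F) = 0 := CharP.ofNat_eq_zero F 2
  set G := Cfsg.preserving (Units.coeHom (Matrix (Fin n ⊕ Fin n) (Fin n ⊕ Fin n) F)) (fun u v : (Fin n ⊕ Fin n → F) => ∑ i : Fin n, (u (Sum.inl i) * v (Sum.inr i) + u (Sum.inr i) * v (Sum.inl i))) with hG
  set D := fSymp F n with hD
  have hN : D.Nondeg := fSymp_nondeg n
  have hB : ∀ u v, D.B u v = ∑ i : Fin n, (u (Sum.inl i) * v (Sum.inr i) + u (Sum.inr i) * v (Sum.inl i)) :=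
    fun u v => by
      rw [hD, fSymp_B']
      exact Finset.sum_congr rfl fun i _ => by linear_combination -u (.inl i) * v (.inr i) * two
  have hG' : ∀ g, g ∈ G ↔ glEquiv _ F g ∈ D.isom := fun g => by
    rw [Symp.mem_isom]; simp only [hB]; rfl
  obtain ⟨e, he⟩ : ∃ e : G ≃* D.isom, ∀ g v, (e g).1 v = g.1.val *ᵥ v :=
    ⟨toIsom D G hG', toIsom_apply D G hG'⟩
  have rk : ∀ g : G, (g.1.val - 1).rank =
      finrank F (LinearMap.range ((e g).1.toLinearMap - 1)) := fun g => by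
    rw [Matrix.rank, show (g.1.val - 1).mulVecLin = (e g).1.toLinearMap - 1 from
      LinearMap.ext fun v => by simp [he, sub_mulVec]]
  let L' : Subgroup D.isom := (L.subgroupOf G).map (e : G →* D.isom)
  have hL : ∀ g : G, e g ∈ L' ↔ g.1 ∈ L := fun g => mem_map_equiv_iff e
  have hd : finrank F (Fin n ⊕ Fin n → F) = 2 * n := by simp; omega
  obtain ⟨b, hb⟩ := Symp.exists_isHyp' hN ha
  have hX : ∀ x : X, ∃ w ∈ D.hp a b, ∃ d h, e ⟨x, hXG x.2⟩ = D.eich a w d h := fun x => by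
    let H : Subgroup (GL (Fin n ⊕ Fin n) F) :=
      { carrier := {g | g ∈ G ∧ g.val *ᵥ a = a}
        mul_mem' := fun h h' => ⟨G.mul_mem h.1 h'.1, by
          rw [Units.val_mul, ← mulVec_mulVec, h'.2, h.2]⟩
        one_mem' := ⟨G.one_mem, by simp⟩
        inv_mem' := fun {g} h => ⟨G.inv_mem h.1, by
          nth_rewrite 1 [← h.2]; rw [mulVec_mulVec, Units.inv_mul, one_mulVec]⟩ }
    let ρ : H →* D.isom := (e : G →* D.isom).comp (Subgroup.inclusion fun _ h => h.1)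
    have r1 : ∀ g, (ρ g).1 a = a := fun g => (he _ _).trans g.2.2
    let K : Subgroup H :=
      { carrier := {g | ∀ x, D.B a x = 0 → (ρ g).1 x - x ∈ F ∙ a}
        mul_mem' := fun {g k} h h' x hx => by
          have := Submodule.add_mem _ (h ((ρ k).1 x) (by rw [← r1 k, B_isom, hx])) (h' x hx)
          rwa [sub_add_sub_cancel, ← isom_mul_apply, ← map_mul] at this
        one_mem' := fun x _ => by simp [isom_one_apply]
        inv_mem' := fun {g} h x hx => by
          have := Submodule.neg_mem _ (h ((ρ g⁻¹).1 x) (by rw [← r1 g⁻¹, B_isom, hx]))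
          rwa [map_inv, isom_apply_inv, neg_sub, ← map_inv] at this }
    have hK : pCore 2 H ≤ K := sSup_le fun N hN' g hg => by
      haveI := hN'.1
      refine triv hN two (by omega) hb.B_ef ρ r1 (fun k hk => ?_) N hN'.2 hg
      obtain ⟨g, rfl⟩ := e.surjective k
      exact ⟨⟨g.1, g.2, (he _ _).symm.trans hk⟩, rfl⟩
    obtain ⟨y, hy, h⟩ := hXO H (fun _ => Iff.rfl) x.2
    have : e ⟨x, hXG x.2⟩ = ρ y := congrArg e (Subtype.ext h.symm)
    rw [this]
    exact exists_eich hb.B_ef _ (r1 y) (hK hy)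
  choose w hw d hd' hx using hX
  have hw' : Function.Surjective fun x : X => (⟨w x, hw x⟩ : D.hp a b) := by
    refine (Function.Injective.bijective_of_nat_card_le (fun x y h => ?_) ?_).2
    · have h1 : w x = w y := congrArg Subtype.val h
      have h2 : Is (e ⟨x, hXG x.2⟩) a (w x) (d x) := ⟨_, hx x⟩
      have h3 : Is (e ⟨y, hXG y.2⟩) a (w x) (d y) := h1 ▸ ⟨_, hx y⟩
      obtain ⟨h4, h5⟩ := (h2.inv.mul h3).congr rfl (neg_add_cancel _) rfl
      rw [← map_inv, ← map_mul, Symp.eich_zero_eq_tv] at h5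
      by_contra h6
      have h7 := rk (⟨x, hXG x.2⟩⁻¹ * ⟨y, hXG y.2⟩)
      rw [Subgroup.coe_mul, Subgroup.coe_inv] at h7
      refine hntv _ (X.mul_mem (X.inv_mem x.2) y.2) (h7.trans ?_)
      clear h7
      rw [h5, ← Symp.rk1_eq_tv _ _ (Symp.isRk1 D _ _)]
      refine hN.finrank_range_rk1 _ (fun h7 => h6 ?_) ha
      rw [h7, Symp.tv_zero, map_eq_one_iff _ e.injective, inv_mul_eq_one] at h5
      exact Subtype.ext (Subtype.mk.inj h5)
    · have := hb.finrank_hp
      rw [hcard, Module.natCard_eq_pow_finrank (K := F), Nat.card_eq_fintype_card,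
        show finrank F (D.hp a b) = 2 * n - 2 by omega]
  have C : Cov L' a := ⟨two, hN, ha, fun z hz => by
      obtain ⟨v, hv, h⟩ := hb.exists_comb z
      obtain ⟨x, rfl⟩ : ∃ x, w x = v := (hw' ⟨v, hv⟩).imp fun _ h => congrArg Subtype.val h
      rw [hz, zero_smul, add_zero, add_comm] at h
      exact ⟨_, (In.add_smul _ ⟨hd' x, hx x ▸ (hL _).2 (hXL x.2)⟩).congr rfl h.symm rfl⟩,
    fun W hW => hirr W fun g hg v hv => by
      have := hW _ ((hL ⟨g, hLG hg⟩).2 hg) v hv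
      rwa [he] at this, by omega⟩
  have top : L' = ⊤ → L = G := fun h => le_antisymm hLG fun g hg => (hL ⟨g, hg⟩).1 (h ▸ trivial)
  rcases C.main (by omega) with h | ⟨Q, h1, h⟩ | ⟨h1, h2, h⟩
  · exact Or.inl (top h)
  · have h2 : ∀ g : GL _ F, g ∈ isometryGroup F (toQuad Q) → g ∈ G := fun g hg => by
      rw [hG', Symp.mem_isom]
      rw [mem_isometryGroup] at hg
      simp only [toQuad_apply] at hg
      intro x y
      simp only [← h1, quad_B_eq, glEquiv_apply, ← mulVec_add, hg]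
    have h3 : ∀ g : G, (∀ x, Q.Q ((e g).1 x) = Q.Q x) ↔ g.1 ∈ isometryGroup F (toQuad Q) :=
      fun g => by simp only [mem_isometryGroup, he, toQuad_apply]
    refine Or.inr (Or.inl ⟨toQuad Q, fun u v => by rw [polar_toQuad, h1, hB], h.imp
      (fun h => Subgroup.ext fun g => ⟨fun hg => ?_, fun hg => ?_⟩) fun h g =>
        ⟨fun hg => ?_, fun hg => ?_⟩⟩)
    · exact (h3 ⟨g, hLG hg⟩).1 ((h _).1 ((hL _).2 hg))
    · exact (hL ⟨g, h2 g hg⟩).1 ((h _).2 ((h3 _).2 hg))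
    · have := (h _).1 ((hL ⟨g, hLG hg⟩).2 hg)
      exact ⟨(h3 _).1 this.1, (rk ⟨g, hLG hg⟩) ▸ this.2⟩
    · exact (hL ⟨g, h2 g hg.1⟩).1 ((h _).2 ⟨(h3 _).2 hg.1, (rk ⟨g, h2 g hg.1⟩) ▸ hg.2⟩)
  · obtain rfl : n = 2 := by omega
    rw [Nat.card_eq_fintype_card] at h1
    obtain ⟨ψ⟩ := S0247.result h1
    let θ : D.isom ≃* Equiv.Perm (Fin 6) := (spEquiv F 2).symm.trans ψ
    let κ : L ≃* L'.map (θ : D.isom →* Equiv.Perm (Fin 6)) := ((Subgroup.subgroupOfEquivOfLe hLG).symm.trans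
      (e.subgroupMap _)).trans (θ.subgroupMap _)
    rcases perm_six (L'.map (θ : D.isom →* Equiv.Perm (Fin 6))) (by
      rwa [← Nat.card_congr (θ.subgroupMap _).toEquiv]) with h3 | h3
    · refine Or.inl (top (eq_top_iff.2 fun g _ => (mem_map_equiv_iff θ).1 (h3 ▸ trivial)))
    · exact Or.inr (Or.inr ⟨h1, rfl, h3.imp (fun ⟨f⟩ => ⟨κ.trans f⟩) fun ⟨f⟩ => ⟨κ.trans f⟩⟩)

end Cfsg.Agent.S5712
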