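import Cfsg.Statements.S5713
import Cfsg.Agent.Lib.FG.JSet
import Mathlib.GroupTheory.GroupAction.Jordan

set_option autoImplicit false
set_option linter.unusedSectionVars false
open Cfsg

namespace Cfsg.Agent.S5713

open MulAction Finset
open scoped Classical

section
variable {G Ω : Type*} [Group G] [Finite G] [MulAction G Ω] [Fintype Ω]

theorem rel_all (hp : IsPreprimitive G Ω) {R : Ω → Ω → Prop} (h1 : ∀ x, R x x) (h2 : ∀ x y z, R x y → R y z → R x z)
    (h3 : ∀ (k : G) x y, R x y → R (k • x) (k • y)) {a b : Ω} (hab : a ≠ b) (h : R a b) (x y : Ω) : R x y := by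
  have : Nontrivial Ω := ⟨a, b, hab⟩
  let M : Submonoid G :=
    { carrier := {k | R a (k • a)}
      one_mem' := by simpa using h1 a
      mul_mem' := fun {k l} hk hl => h2 _ _ _ hk (by rw [mul_smul]; exact h3 k _ _ hl) }
  let H : Subgroup G :=
    { M with
      inv_mem' := fun {k} hk => by
        have : k⁻¹ = k ^ (orderOf k - 1) := by
          rw [inv_eq_iff_mul_eq_one, ← pow_succ', Nat.sub_add_cancel (orderOf_pos k), pow_orderOf_eq_one]
        rw [this]; exact M.pow_mem hk _ }
  obtain ⟨k, rfl⟩ := exists_smul_eq G a b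
  have ht : H = ⊤ := (IsPreprimitive.isCoatom_stabilizer_of_isPreprimitive G a).2 H
    (lt_of_le_of_ne (fun l hl => show R a (l • a) by rw [show l • a = a from hl]; exact h1 a)
      fun e => hab (show k • a = a from (e ▸ h : k ∈ stabilizer G a)).symm)
  obtain ⟨l, rfl⟩ := exists_smul_eq G a x
  obtain ⟨m, rfl⟩ := exists_smul_eq G (l • a) y
  have : l⁻¹ * m * l ∈ H := ht ▸ trivial
  simpa [mul_smul] using h3 l _ _ this

variable (G) in
/-- `x` and `y` are conjugate under the stabilizer of `z`. -/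
def O (z x y : Ω) : Prop := ∃ k : G, k • z = z ∧ k • x = y

theorem O.refl (z x : Ω) : O G z x x := ⟨1, one_smul _ _, one_smul _ _⟩
theorem O.symm {z x y : Ω} : O G z x y → O G z y x := by
  rintro ⟨k, h, rfl⟩; exact ⟨k⁻¹, by rw [inv_smul_eq_iff, h], inv_smul_smul _ _⟩
theorem O.trans {z x y w : Ω} : O G z x y → O G z y w → O G z x w := by
  rintro ⟨k, h, rfl⟩ ⟨l, h', rfl⟩; exact ⟨l * k, by rw [mul_smul, h, h'], mul_smul _ _ _⟩
theorem O.smul {z x y : Ω} (g : G) : O G z x y → O G (g • z) (g • x) (g • y) := by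
  rintro ⟨k, h, rfl⟩; exact ⟨g * k * g⁻¹, by simp [mul_smul, h], by simp [mul_smul]⟩
theorem O.smul_iff {z x y : Ω} (g : G) : O G (g • z) (g • x) (g • y) ↔ O G z x y :=
  ⟨fun h => by simpa using h.smul g⁻¹, O.smul g⟩

theorem card_smul (g : G) (P Q : Ω → Prop) [DecidablePred P] [DecidablePred Q] (h : ∀ z, Q (g • z) ↔ P z) : #{z | P z} = #{z | Q z} :=
  card_bij (fun z _ => g • z) (fun z hz => by simpa [h] using hz) (fun _ _ _ _ e => smul_left_cancel g e)
    fun z hz => ⟨g⁻¹ • z, by simpa [← h] using hz, smul_inv_smul _ _⟩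

variable (G) in
/-- The number of points that discriminate between `x` and `y`. -/
noncomputable def D (x y : Ω) : ℕ := #{z | ¬ O G z x y}

theorem D_tri (x y w : Ω) : D G x w ≤ D G x y + D G y w :=
  le_trans (card_le_card fun z hz => by
    simp only [mem_filter, mem_univ, true_and, mem_union] at hz ⊢
    by_contra! h
    exact hz (h.1.trans h.2)) (card_union_le _ _)

variable (G) in
/-- The orbital graph. -/
def A (a b x y : Ω) : Prop := ∃ k : G, (k • a = x ∧ k • b = y) ∨ (k • a = y ∧ k • b = x)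

theorem A.symm {a b x y : Ω} : A G a b x y → A G a b y x := fun ⟨k, h⟩ => ⟨k, h.symm⟩
theorem A.smul {a b x y : Ω} (g : G) : A G a b x y → A G a b (g • x) (g • y) := by
  rintro ⟨k, ⟨rfl, rfl⟩ | ⟨rfl, rfl⟩⟩
  exacts [⟨g * k, Or.inl ⟨mul_smul _ _ _, mul_smul _ _ _⟩⟩, ⟨g * k, Or.inr ⟨mul_smul _ _ _, mul_smul _ _ _⟩⟩]
theorem A.D_eq {a b x y : Ω} : A G a b x y → D G x y = D G a b := by
  have e : ∀ k : G, D G (k • a) (k • b) = D G a b := fun k =>
    (card_smul k (fun z => ¬ O G z a b) (fun z => ¬ O G z (k • a) (k • b)) fun z => by rw [O.smul_iff]).symm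
  rintro ⟨k, ⟨rfl, rfl⟩ | ⟨rfl, rfl⟩⟩
  · exact e k
  · rw [← e k]; exact congrArg card (filter_congr fun z _ => not_congr ⟨O.symm, O.symm⟩)

theorem conn (hp : IsPreprimitive G Ω) {a b : Ω} (hab : a ≠ b) {S : Ω → Prop}
    (hS : ∀ x y, S x → A G a b x y → S y) {s : Ω} (hs : S s) (y : Ω) : S y := by
  have := rel_all hp (R := Relation.ReflTransGen (A G a b)) (fun _ => .refl) (fun _ _ _ => .trans)
    (fun k _ _ h => h.lift (k • ·) fun _ _ => A.smul k) hab (.single ⟨1, Or.inl (by simp)⟩) s y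
  induction this with
  | refl => exact hs
  | tail _ h ih => exact hS _ _ ih h

theorem orb_bound (hp : IsPreprimitive G Ω) {z x : Ω} (h : ∃ y, y ≠ z ∧ ¬ O G z x y) :
    Fintype.card Ω ≤ (#{y | ¬ O G z x y} + 1) ^ 2 := by
  by_cases hx : x = z
  · subst hx
    have : #{y | ¬ O G x x y} + 1 = Fintype.card Ω := by
      rw [← card_univ, ← card_erase_add_one (mem_univ x)]
      congr 2
      ext y
      simp only [mem_filter, mem_univ, true_and, mem_erase, and_true]
      exact not_congr ⟨fun ⟨k, h1, h2⟩ => h2.symm.trans h1, fun e => e ▸ O.refl _ _⟩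
    rw [this]; exact Nat.le_self_pow two_ne_zero _
  let E : Ω → Ω → Prop := fun u v => ¬ ∃ k : G, k • z = u ∧ k • x = v
  have hE : ∀ (k : G) u v, E (k • u) (k • v) ↔ E u v := fun k u v => not_congr
    ⟨fun ⟨l, h1, h2⟩ => ⟨k⁻¹ * l, by simp [mul_smul, h1], by simp [mul_smul, h2]⟩,
      fun ⟨l, h1, h2⟩ => ⟨k * l, by simp [mul_smul, h1], by simp [mul_smul, h2]⟩⟩
  have hc : ∀ u, #{v | E u v} = #{y | ¬ O G z x y} := fun u => by
    obtain ⟨k, rfl⟩ := exists_smul_eq G z u
    exact (card_smul k (fun y => ¬ O G z x y) _ fun v => hE k z v).symm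
  have h2 : ∀ y, ∃ w, E z w ∧ E w y := fun y => by
    have h0 : ∀ u, E u u := fun u ⟨k, h1, h2⟩ => hx (smul_left_cancel k (h2.trans h1.symm))
    by_contra! hn
    obtain ⟨y', hy', hO⟩ := h
    refine hn z (h0 z) (rel_all hp h0 (fun u v w h1 h2 ⟨k, e1, e2⟩ => ?_) (fun k u v => (hE k u v).2) hy'.symm hO z y)
    obtain ⟨l, e3, e4⟩ := not_not.1 (hn z (h0 z))
    refine hn ((l * k⁻¹) • v) ?_ ?_
    · rw [← hE (l * k⁻¹), ← e1] at h1
      simpa [mul_smul, e3] using h1
    · rw [← hE (l * k⁻¹), ← e2] at h2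
      simpa [mul_smul, e4] using h2
  calc Fintype.card Ω ≤ #(Finset.biUnion {w | E z w} fun w => ({y | E w y} : Finset Ω)) :=
        card_le_card fun y _ => by simpa using h2 y
    _ ≤ ∑ w with E z w, #{y | E w y} := card_biUnion_le
    _ ≤ _ := by simp only [hc, sum_const, smul_eq_mul]; nlinarith

theorem uni (hp : IsPreprimitive G Ω) (h : ∀ z x : Ω, ∃ y, y ≠ z ∧ ¬ O G z x y) {a b : Ω} (hab : a ≠ b) :
    Fintype.card Ω ≤ (2 * D G a b + 1) ^ 2 := by
  have hn : 0 < Fintype.card Ω := Fintype.card_pos_iff.2 ⟨a⟩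
  by_cases hA : ∀ u v w t, A G a b u v → A G a b v w → A G a b w t → ∃ s, A G a b u s ∧ A G a b s t
  · have h1 : ∀ y, D G a y ≤ 2 * D G a b := fun y => by
      have := conn hp hab (S := fun y => a = y ∨ A G a b a y ∨ ∃ s, A G a b a s ∧ A G a b s y) (by
        rintro x y (rfl | h | ⟨s, h1, h2⟩) h'
        exacts [Or.inr (Or.inl h'), Or.inr (Or.inr ⟨x, h, h'⟩), Or.inr (Or.inr (hA _ _ _ _ h1 h2 h'))])
        (Or.inl rfl) y
      rcases this with rfl | h | ⟨s, h1, h2⟩
      · simp [D, O.refl]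
      · rw [h.D_eq]; omega
      · have := D_tri (G := G) a s y
        rw [h1.D_eq, h2.D_eq] at this; omega
    by_contra! hc
    have h2 : ∀ z, 2 * D G a b + 1 ≤ #{y | ¬ O G z a y} := fun z => by
      have := lt_of_pow_lt_pow_left₀ 2 (Nat.zero_le _) (hc.trans_le (orb_bound hp (h z a)))
      omega
    have h3 : ∑ y, D G a y = ∑ z, #{y | ¬ O G z a y} := by simp only [D, card_filter]; exact sum_comm
    have h4 := sum_le_sum fun y (_ : y ∈ univ) => h1 y
    have h5 := sum_le_sum fun y (_ : y ∈ univ) => h2 y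
    simp only [sum_const, card_univ, smul_eq_mul] at h4 h5
    nlinarith
  push Not at hA
  obtain ⟨u, v, w, t, h1, h2, h3, h4⟩ := hA
  have hc : ∀ x, #{y | A G a b x y} = #{y | A G a b u y} := fun x => by
    obtain ⟨k, rfl⟩ := exists_smul_eq G u x
    exact (card_smul k _ _ fun v => ⟨fun h => by simpa using h.smul k⁻¹, A.smul k⟩).symm
  have k1 : #{y | A G a b u y} ≤ 3 * D G a b := by
    have e1 := D_tri (G := G) u v t
    have e2 := D_tri (G := G) v w t
    rw [h1.D_eq] at e1
    rw [h2.D_eq, h3.D_eq] at e2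
    refine le_trans (card_le_card fun z hz => ?_) (show D G u t ≤ _ by omega)
    simp only [mem_filter, mem_univ, true_and] at hz ⊢
    rintro ⟨k, e1, e2⟩
    exact h4 z hz (by simpa [e1, e2] using (hz.smul k).symm)
  have k2 : ∀ z x, x ≠ z → 1 ≤ #{y | A G a b x y ∧ ¬ O G z x y} := fun z x hx => by
    by_contra! h0
    have h5 : ∀ y, A G a b x y → O G z x y := by simpa using h0
    obtain ⟨k, e1, e2⟩ := conn hp hab (S := O G z x) (by
      rintro _ y ⟨k, e, rfl⟩ h'
      refine (show O G z x (k • x) from ⟨k, e, rfl⟩).trans ?_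
      simpa [e] using (h5 (k⁻¹ • y) (by simpa using h'.smul k⁻¹)).smul k) (O.refl z x) z
    exact hx (smul_left_cancel k (e2.trans e1.symm))
  have k3 : ∑ z, #{y | A G a b u y ∧ ¬ O G z u y} = #{y | A G a b u y} * D G a b := by
    rw [← smul_eq_mul, ← sum_const, sum_congr (s₁ := {y | A G a b u y}) rfl (g := fun y => D G u y) fun y hy =>
      (A.D_eq (mem_filter.1 hy).2).symm]
    simp only [D, card_filter, sum_filter]
    rw [sum_comm]
    refine sum_congr rfl fun y _ => ?_
    by_cases hy : A G a b u y <;> simp [hy]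
  have k4 := card_nsmul_le_sum (univ.erase u) _ 1 fun z hz => k2 z u (ne_of_mem_erase hz).symm
  have k5 := sum_le_sum_of_subset (f := fun z => #{y | A G a b u y ∧ ¬ O G z u y}) (erase_subset u univ)
  rw [card_erase_of_mem (mem_univ u), card_univ, smul_eq_mul] at k4
  have k6 := Nat.mul_le_mul_right (D G a b) k1
  have : Fintype.card Ω ≤ 3 * D G a b * D G a b + 1 := by omega
  nlinarith

theorem two (h : ∀ z x y : Ω, x ≠ z → y ≠ z → O G z x y) {S : Finset Ω} {a : Ω} (ha : a ∉ S)
    (hS : ∀ k : G, k • a = a → ∃ x ∈ S, k • x ∈ S) : Fintype.card Ω ≤ #S ^ 2 + 1 := by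
  have := Fintype.ofFinite G
  have k1 : ∀ x y, x ≠ a → y ≠ a → #{k : G | k • a = a ∧ k • x = y} * (Fintype.card Ω - 1) = #{k : G | k • a = a} :=
    fun x y hx hy => by
    have e : ∀ y, y ≠ a → ∀ y', y' ≠ a → #{k : G | k • a = a ∧ k • x = y} ≤ #{k : G | k • a = a ∧ k • x = y'} :=
      fun y hy y' hy' => by
      obtain ⟨l, e1, e2⟩ := h a y y' hy hy'
      exact card_le_card_of_injOn (l * ·) (fun k hk => by
        simp only [coe_filter, mem_univ, true_and, Set.mem_ofPred_eq] at hk ⊢
        simp [mul_smul, hk.1, hk.2, e1, e2]) fun _ _ _ _ e => mul_left_cancel e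
    rw [card_eq_sum_card_fiberwise (s := {k : G | k • a = a}) (t := univ.erase a) (f := fun k => k • x) (fun k hk => by
      simp only [coe_filter, mem_univ, true_and, Set.mem_ofPred_eq, coe_erase, coe_univ] at hk ⊢
      exact ⟨trivial, fun e => hx (smul_left_cancel k (e.trans hk.symm))⟩),
      sum_congr rfl (g := fun _ => #{k : G | k • a = a ∧ k • x = y}) fun y' hy' => by
        rw [filter_filter]; exact le_antisymm (e _ (ne_of_mem_erase hy') _ hy) (e _ hy _ (ne_of_mem_erase hy')),
      sum_const, card_erase_of_mem (mem_univ a), card_univ, smul_eq_mul, mul_comm]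
  have k2 : #{k : G | k • a = a} ≤ ∑ x ∈ S, ∑ y ∈ S, #{k : G | k • a = a ∧ k • x = y} := by
    refine le_trans (card_le_card fun k hk => ?_) (card_biUnion_le.trans (sum_le_sum fun x _ => card_biUnion_le))
    have := (mem_filter.1 hk).2
    simpa [this] using hS k this
  have k3 := Nat.mul_le_mul_right (Fintype.card Ω - 1) k2
  simp only [sum_mul] at k3
  rw [sum_congr rfl fun x hx => sum_congr rfl fun y hy => k1 x y (fun e => ha (e ▸ hx)) (fun e => ha (e ▸ hy)),
    sum_const, sum_const, smul_eq_mul, smul_eq_mul, ← mul_assoc, mul_comm] at k3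
  have := Nat.le_of_mul_le_mul_right k3 (card_pos.2 ⟨1, by simp⟩)
  rw [pow_two]; omega

end

/-- A classification-free minimal-degree bound. Let G be a finite group acting faithfully and primitively on a finite set Ω with n elements, and suppose that the image of G in the symmetric group on Ω does not contain the alternating group on Ω. Then every non-identity element of G moves at least (√n − 1)/2 points of Ω, that is, it fixes at most n − (√n − 1)/2 points. -/
theorem result {G Ω : Type*} [Group G] [Finite G] [MulAction G Ω] [FaithfulSMul G Ω] [Fintype Ω] [DecidableEq Ω]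
    (hprim : MulAction.IsPreprimitive G Ω)
    (hA : ¬ alternatingGroup Ω ≤ (MulAction.toPermHom G Ω).range)
    (g : G) (hg : g ≠ 1) :
    (Real.sqrt (Fintype.card Ω) - 1) / 2 ≤ (Fintype.card Ω : ℝ) - Nat.card (MulAction.fixedBy Ω g) := by
  obtain ⟨a, ha⟩ : ∃ a : Ω, g • a ≠ a := by
    by_contra! h
    exact hg (eq_of_smul_eq_smul (α := Ω) fun a => by rw [h, one_smul])
  have key : Fintype.card Ω ≤ (2 * #{z : Ω | g • z ≠ z} + 1) ^ 2 := by
    by_cases h : ∀ z x : Ω, ∃ y, y ≠ z ∧ ¬ O G z x y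
    · refine (uni hprim h ha.symm).trans (Nat.pow_le_pow_left ?_ 2)
      have : D G a (g • a) ≤ #{z : Ω | g • z ≠ z} := card_le_card fun z hz => by
        simp only [mem_filter, mem_univ, true_and] at hz ⊢
        exact fun e => hz ⟨g, e, rfl⟩
      omega
    push Not at h
    obtain ⟨z, x, h⟩ := h
    have h2 : ∀ z x y : Ω, x ≠ z → y ≠ z → O G z x y := fun z' x' y' hx hy => by
      obtain ⟨k, rfl⟩ := exists_smul_eq G z z'
      have e : ∀ u, u ≠ k • z → O G (k • z) (k • x) u := fun u hu => by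
        simpa using (h (k⁻¹ • u) fun e => hu (by rw [← e, smul_inv_smul])).smul k
      exact (e _ hx).symm.trans (e _ hy)
    have := two h2 (S := ({z : Ω | g • z ≠ z} : Finset Ω).erase a) (a := a) (notMem_erase _ _) fun k hk => by
      by_contra! hn
      have hp : IsPreprimitive (toPermHom G Ω).range Ω := IsPreprimitive.of_surjective
        (φ := (toPermHom G Ω).rangeRestrict) (f := ⟨id, fun _ _ => rfl⟩) Function.surjective_id
      refine hA (Equiv.Perm.alternatingGroup_le_of_isPreprimitive_of_isThreeCycle_mem hp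
        (Cfsg.Lib.FG.isThreeCycle_commutator (g := toPermHom G Ω g) (h := toPermHom G Ω (k⁻¹ * g * k)) (x := a) ha
          (fun e => ha ?_) fun y hy => ?_) ⟨g * (k⁻¹ * g * k) * g⁻¹ * (k⁻¹ * g * k)⁻¹, by simp only [map_mul, map_inv]⟩)
      · have : (k⁻¹ * g * k) • a = a := e
        rwa [mul_smul, mul_smul, hk, inv_smul_eq_iff, hk] at this
      · by_contra! h3
        refine hn y (by simpa [hy] using h3.1) ?_
        simp only [mem_erase, mem_filter, mem_univ, true_and]
        refine ⟨fun e => hy (smul_left_cancel k (e.trans hk.symm)), fun e => h3.2 ?_⟩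
        change (k⁻¹ * g * k) • y = y
        rw [mul_smul, mul_smul, e, inv_smul_smul]
    have h3 := card_erase_add_one (s := ({z : Ω | g • z ≠ z} : Finset Ω)) (a := a) (by simpa using ha)
    nlinarith
  have e : Nat.card (fixedBy Ω g) + #{z : Ω | g • z ≠ z} = Fintype.card Ω := by
    rw [Nat.card_eq_fintype_card, Fintype.card_subtype, ← card_univ]
    convert card_filter_add_card_filter_not (s := univ) fun z : Ω => g • z = z
    rfl
  have h1 : Real.sqrt (Fintype.card Ω) ≤ 2 * #{z : Ω | g • z ≠ z} + 1 :=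
    Real.sqrt_le_iff.2 ⟨by positivity, by exact_mod_cast key⟩
  rw [← e] at h1 ⊢
  push_cast at h1 ⊢
  linarith

end Cfsg.Agent.S5713
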