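import Cfsg.Statements.S5722
import Cfsg.Agent.Lib.Layer.CL3

set_option autoImplicit false
open Cfsg

namespace Cfsg.Agent.S5722

open Cfsg.Lib.Layer.CL

/-- If a finite group G acts faithfully on a finite set with n points and r orbits, then the composition length of G is at most 4(n − r)/3. Here the composition length is expressed through chains: the conclusion bounds the length l of every chain of subgroups 1 = H₀ < H₁ < ⋯ < H_l = G in which each term is normal in the next (the longest such chains are exactly the composition series). -/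
theorem result {G Ω : Type*} [Group G] [Finite G] [MulAction G Ω] [FaithfulSMul G Ω] [Fintype Ω]
    (l : ℕ) (H : Fin (l + 1) → Subgroup G) (h0 : H 0 = ⊥) (hl : H (Fin.last l) = ⊤)
    (hchain : ∀ i : Fin l, H i.castSucc < H i.succ ∧ ((H i.castSucc).subgroupOf (H i.succ)).Normal) :
    3 * l ≤ 4 * (Fintype.card Ω - Nat.card (Quotient (MulAction.orbitRel G Ω))) := by
  have h1 : ∀ (i : ℕ) (hi : i < l + 1), Ch (H ⟨i, hi⟩) i := by
    intro i
    induction i with
    | zero => intro hi; rw [show (⟨0, hi⟩ : Fin (l + 1)) = 0 from rfl, h0]; exact Ch.bot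
    | succ i ih =>
      intro hi
      obtain ⟨k1, k2⟩ := hchain ⟨i, by omega⟩
      exact (ih (by omega)).step k1 fun k hk h hh => (Subgroup.normal_subgroupOf_iff k1.le).mp k2 h k hh hk
  have h2 := (h1 l (Nat.lt_succ_self l)).le_cl
  rw [show (⟨l, Nat.lt_succ_self l⟩ : Fin (l + 1)) = Fin.last l from rfl, hl] at h2
  have h3 := main (G := G) (X := Ω)
  rw [orbs, Nat.card_eq_fintype_card (α := Ω)] at h3
  omega

end Cfsg.Agent.S5722
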