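import Cfsg.Statements.S5726
import Cfsg.Agent.Lib.Perm.Regular

set_option autoImplicit false
open Cfsg

namespace Cfsg.Agent.S5726

open MulAction



/-- If a finite group acts faithfully and transitively on a set with p^k elements, p a prime and k ≥ 1, then some element of order p fixes no point. -/
theorem result {G Ω : Type*} [Group G] [Finite G] [MulAction G Ω] [FaithfulSMul G Ω] [Fintype Ω] (htr : MulAction.IsPretransitive G Ω)
    (p k : ℕ) (hp : p.Prime) (hk : 1 ≤ k) (hΩ : Fintype.card Ω = p ^ k) :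
    ∃ g : G, orderOf g = p ∧ ∀ ω : Ω, g • ω ≠ ω := by
  haveI := Fact.mk hp
  obtain ⟨P⟩ : Nonempty (Sylow p G) := inferInstance
  have hΩ' : Nat.card Ω = p ^ k := by rw [Nat.card_eq_fintype_card, hΩ]
  haveI htP := Cfsg.Lib.Perm.sylow_transitive_of_prime_pow_degree hΩ' P
  have h2 : 1 < Nat.card Ω := by
    rw [hΩ']; exact Nat.one_lt_pow (by omega) hp.one_lt
  haveI : Nontrivial Ω := Finite.one_lt_card_iff_nontrivial.1 h2
  haveI : Nontrivial (P : Subgroup G) := by
    obtain ⟨a, b, hab⟩ := exists_pair_ne Ω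
    obtain ⟨g, hg⟩ := exists_smul_eq (P : Subgroup G) a b
    refine ⟨g, 1, fun h => hab ?_⟩
    rw [← hg, h, one_smul]
  haveI := P.isPGroup'.center_nontrivial
  have hc : p ∣ Nat.card (Subgroup.center (P : Subgroup G)) := by
    obtain ⟨n, hn, e⟩ := (P.isPGroup'.to_subgroup (Subgroup.center _)).nontrivial_iff_card.1 this
    rw [e]; exact dvd_pow_self p hn.ne'
  obtain ⟨z, hz⟩ := exists_prime_orderOf_dvd_card' p hc
  refine ⟨z.1.1, by rw [Subgroup.orderOf_coe, Subgroup.orderOf_coe, hz], fun ω h => ?_⟩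
  have : z.1.1 = 1 := by
    apply eq_of_smul_eq_smul (α := Ω)
    intro a
    obtain ⟨g, rfl⟩ := exists_smul_eq (P : Subgroup G) ω a
    have hc := congrArg Subtype.val (Subgroup.mem_center_iff.1 z.2 g)
    simp only [Subgroup.coe_mul] at hc
    rw [Subgroup.smul_def, one_smul, ← mul_smul, ← hc, mul_smul, h]
  have h1 : z = 1 := Subtype.ext (Subtype.ext this)
  rw [h1, orderOf_one] at hz
  exact hp.one_lt.ne hz

end Cfsg.Agent.S5726
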