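import Cfsg.Statements.S5727
import Cfsg.Agent.S5726

set_option autoImplicit false
open Cfsg

namespace Cfsg.Agent.S5727

open MulAction



/-- If a finite group acts faithfully and transitively on a set with m·p elements, where p is a prime and 1 ≤ m ≤ p, then some element of order p fixes no point. -/
theorem result {G Ω : Type*} [Group G] [Finite G] [MulAction G Ω] [FaithfulSMul G Ω] [Fintype Ω] (htr : MulAction.IsPretransitive G Ω)
    (p m : ℕ) (hp : p.Prime) (hm : 1 ≤ m) (hmp : m ≤ p) (hΩ : Fintype.card Ω = m * p) :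
    ∃ g : G, orderOf g = p ∧ ∀ ω : Ω, g • ω ≠ ω := by
  classical
  rcases hmp.eq_or_lt with rfl | hlt
  · exact S5726.result htr m 2 hp (by norm_num) (by rw [hΩ]; ring)
  haveI := Fact.mk hp
  obtain ⟨P⟩ : Nonempty (Sylow p G) := inferInstance
  let Q : Subgroup G := P
  haveI : Fintype Q := Fintype.ofFinite _
  have hst : ∀ ω : Ω, p * Nat.card (stabilizer Q ω) ≤ Nat.card Q := by
    intro ω
    have h1 : (stabilizer Q ω).index ≠ 1 := by
      intro h
      rw [Subgroup.index_eq_one] at h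
      have hle : Q ≤ stabilizer G ω := fun x hx =>
        (h ▸ Subgroup.mem_top (⟨x, hx⟩ : Q) : (⟨x, hx⟩ : Q) ∈ stabilizer Q ω)
      have := Subgroup.index_dvd_of_le hle
      rw [index_stabilizer_of_transitive, Nat.card_eq_fintype_card, hΩ] at this
      exact P.not_dvd_index ((Dvd.intro_left m rfl).trans this)
    obtain ⟨k, hk⟩ := P.isPGroup'.index (stabilizer Q ω)
    have h2 : p ≤ (stabilizer Q ω).index := by
      rw [hk] at h1 ⊢
      exact Nat.le_self_pow (by rintro rfl; simp at h1) p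
    rw [← (stabilizer Q ω).index_mul_card]
    exact Nat.mul_le_mul_right _ h2
  have hsum : ∑ g : Q, (Finset.univ.filter fun ω : Ω => g • ω = ω).card =
      ∑ ω : Ω, Nat.card (stabilizer Q ω) := by
    simp only [Finset.card_filter]
    rw [Finset.sum_comm]
    refine Finset.sum_congr rfl fun ω _ => ?_
    rw [← Finset.card_filter, Nat.card_eq_fintype_card, Fintype.card_subtype]
    rfl
  have hfix : ∀ g : Q, p ∣ (Finset.univ.filter fun ω : Ω => g • ω = ω).card := by
    intro g
    have h := (P.isPGroup'.to_subgroup (Subgroup.zpowers g)).card_modEq_card_fixedPoints Ω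
    have e : Nat.card (fixedPoints (Subgroup.zpowers g) Ω) =
        (Finset.univ.filter fun ω : Ω => g • ω = ω).card := by
      rw [← Fintype.card_subtype, ← Nat.card_eq_fintype_card]
      refine Nat.card_congr (Equiv.subtypeEquivRight fun ω => ?_)
      exact ⟨fun h => h ⟨g, Subgroup.mem_zpowers g⟩, fun h k =>
        (Subgroup.zpowers_le_of_mem (H := stabilizer Q ω) h k.2 : k.1 ∈ stabilizer Q ω)⟩
    rw [e, Nat.card_eq_fintype_card, hΩ] at h
    exact (Nat.modEq_zero_iff_dvd).1 (h.symm.trans ((Nat.modEq_zero_iff_dvd).2 (Dvd.intro_left m rfl)))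
  have hex : ∃ g : Q, ∀ ω : Ω, g • ω ≠ ω := by
    by_contra! h
    have h1 : ∑ g : Q, p ≤ ∑ g : Q, (Finset.univ.filter fun ω : Ω => g • ω = ω).card :=
      Finset.sum_le_sum fun g _ => Nat.le_of_dvd (Finset.card_pos.2 (by
        obtain ⟨ω, hω⟩ := h g
        exact ⟨ω, by simpa using hω⟩)) (hfix g)
    have h2 : p * ∑ ω : Ω, Nat.card (stabilizer Q ω) ≤ ∑ ω : Ω, Nat.card Q := by
      rw [Finset.mul_sum]
      exact Finset.sum_le_sum fun ω _ => hst ω
    rw [hsum] at h1
    simp only [Finset.sum_const, Finset.card_univ, smul_eq_mul, hΩ] at h1 h2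
    rw [← Nat.card_eq_fintype_card] at h1
    have h3 : 0 < Nat.card Q := Nat.card_pos
    have h4 : p * (Nat.card Q * p) ≤ m * p * Nat.card Q := (Nat.mul_le_mul_left _ h1).trans h2
    have h5 : m * (p * Nat.card Q) < p * (p * Nat.card Q) :=
      Nat.mul_lt_mul_of_pos_right hlt (Nat.mul_pos hp.pos h3)
    nlinarith
  obtain ⟨g, hg⟩ := hex
  have hpos : 0 < Fintype.card Ω := by rw [hΩ]; exact Nat.mul_pos hm hp.pos
  obtain ⟨ω₀⟩ := Fintype.card_pos_iff.1 hpos
  refine ⟨g, orderOf_eq_prime ?_ (fun h => hg ω₀ (by rw [Subgroup.smul_def, h, one_smul])), hg⟩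
  apply eq_of_smul_eq_smul (α := Ω)
  intro ω
  set Z := Subgroup.zpowers g
  obtain ⟨k, hk⟩ := (P.isPGroup'.to_subgroup Z).index (stabilizer Z ω)
  have hle : (stabilizer Z ω).index ≤ m * p := by
    rw [index_stabilizer, ← hΩ, ← Nat.card_eq_fintype_card]
    exact Set.ncard_le_card _
  have hk1 : k ≤ 1 := by
    by_contra h
    have : p ^ 2 ≤ p ^ k := Nat.pow_le_pow_right hp.pos (by omega)
    nlinarith [hp.pos]
  have hd : p ^ k ∣ p := by
    calc p ^ k ∣ p ^ 1 := pow_dvd_pow _ hk1
      _ = p := pow_one p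
  obtain ⟨c, hc⟩ := hd
  have := Subgroup.pow_index_mem (H := stabilizer Z ω) ⟨g, Subgroup.mem_zpowers g⟩
  have h2 := Subgroup.pow_mem _ this c
  rw [← pow_mul, hk, ← hc, mem_stabilizer_iff] at h2
  rw [one_smul]
  exact h2

end Cfsg.Agent.S5727
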