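import Cfsg.Statements.S5728


set_option autoImplicit false
open Cfsg

namespace Cfsg.Agent.S5728





/-- An elusive transitive action. Let p = 2^s − 1 be a prime and let F be the field with p² elements. Inside the group of affine maps x ↦ a·x + b of F (a ≠ 0), consider the subgroup of maps with both coefficients in the prime field. Then every element of prime order of the affine group is conjugate, within the affine group, to an element of that subgroup; equivalently, in the transitive action of the affine group on the cosets of that subgroup (of degree p(p + 1)) every element of prime order fixes a point. -/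
theorem result (p s : ℕ) [Fact p.Prime] (hs : p = 2 ^ s - 1)
    (g : Equiv.Perm (GaloisField p 2)) (hg : g ∈ Cfsg.affineGroup (GaloisField p 2)) (hord : (orderOf g).Prime) :
    ∃ x ∈ Cfsg.affineGroup (GaloisField p 2), ∃ a b : ZMod p, a ≠ 0 ∧
      ∀ y : GaloisField p 2, (x * g * x⁻¹) y = algebraMap (ZMod p) (GaloisField p 2) a * y + algebraMap (ZMod p) (GaloisField p 2) b := by
  have hp : p.Prime := Fact.out
  obtain ⟨a, b, hab⟩ := hg
  have hcard : Nat.card (GaloisField p 2) = p ^ 2 := GaloisField.card p 2 (by norm_num)
  by_cases ha : (a : GaloisField p 2) = 1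
  · by_cases hb : b = 0
    · exact ⟨1, Subgroup.one_mem _, 1, 0, one_ne_zero, fun y => by simp [hab, ha, hb]⟩
    · refine ⟨Equiv.mulLeft₀ b⁻¹ (inv_ne_zero hb), ⟨Units.mk0 b⁻¹ (inv_ne_zero hb), 0, fun x => by simp⟩,
        1, 1, one_ne_zero, fun y => ?_⟩
      simp only [Equiv.Perm.coe_mul, Function.comp_apply, hab, ha, map_one, one_mul]
      simp [Equiv.Perm.inv_def]
      field_simp
  · have hpow : ∀ m : ℕ, ∀ x, (g ^ m) x - b / (1 - a) = (a : GaloisField p 2) ^ m * (x - b / (1 - a)) := by
      intro m
      have h1 : (1 - (a : GaloisField p 2)) ≠ 0 := sub_ne_zero.2 (Ne.symm ha)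
      induction m with
      | zero => simp
      | succ m ih =>
        intro x
        rw [pow_succ', Equiv.Perm.mul_apply, hab, pow_succ', mul_assoc, ← ih]
        field_simp; ring
    have h1 : (a : GaloisField p 2) ^ orderOf g = 1 := by
      have := hpow (orderOf g) (1 + b / (1 - a))
      rw [pow_orderOf_eq_one] at this
      simpa using this.symm
    have hs2 : 2 ≤ s := by
      by_contra h
      have : s = 0 ∨ s = 1 := by omega
      rcases this with rfl | rfl <;> simp at hs <;> have := hp.two_le <;> omega
    have hp1 : p + 1 = 2 ^ s := by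
      have : 1 ≤ 2 ^ s := Nat.one_le_two_pow
      omega
    have hoa : orderOf a = orderOf g := by
      haveI := Fact.mk hord
      apply orderOf_eq_prime
      · exact Units.ext (by simpa using h1)
      · exact fun h => ha (by simp [h])
    have hdvd : orderOf g ∣ p - 1 := by
      have h2 : orderOf a ∣ p ^ 2 - 1 := by
        have := orderOf_dvd_natCard a
        rwa [Nat.card_units, hcard] at this
      have h3 : p ^ 2 - 1 = (p + 1) * (p - 1) := by
        have := Nat.sq_sub_sq p 1
        simpa using this
      rw [hoa, h3] at h2
      rcases (Nat.Prime.dvd_mul hord).1 h2 with h | h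
      · rw [hp1] at h
        have h4 : orderOf g = 2 := (Nat.prime_dvd_prime_iff_eq hord Nat.prime_two).1 (hord.dvd_of_dvd_pow h)
        rw [h4]
        have : 2 ∣ 2 ^ s := dvd_pow_self 2 (by omega)
        have := hp.two_le
        omega
      · exact h
    have hap : (a : GaloisField p 2) ^ p = a := by
      obtain ⟨c, hc⟩ := hdvd
      have : p = orderOf g * c + 1 := by have := hp.two_le; omega
      calc (a : GaloisField p 2) ^ p = (a : GaloisField p 2) ^ (orderOf g * c + 1) := by rw [← this]
        _ = a := by rw [pow_succ, pow_mul, h1]; simp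
    have hmem := (Subfield.mem_bot_iff_pow_eq_self (GaloisField p 2) p).2 hap
    have hle : (⊥ : Subfield (GaloisField p 2)) ≤ (algebraMap (ZMod p) (GaloisField p 2)).fieldRange := bot_le
    obtain ⟨a₀, ha₀⟩ := hle hmem
    refine ⟨Equiv.addRight (-(b / (1 - a))), ⟨1, -(b / (1 - a)), fun x => by simp⟩, a₀, 0, ?_, fun y => ?_⟩
    · rintro rfl
      exact a.ne_zero (by rw [← ha₀, map_zero])
    · have := hpow 1 (y + b / (1 - a))
      rw [pow_one, pow_one, add_sub_cancel_right] at this
      rw [map_zero, add_zero, ha₀, ← this]
      simp [Equiv.Perm.inv_def, sub_eq_add_neg]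

end Cfsg.Agent.S5728
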