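import Cfsg.Statements.S5729


set_option autoImplicit false
open Cfsg

namespace Cfsg.Agent.S5729

open MulAction



/-- Let a finite group G act faithfully and transitively on a set with n ≥ 3 points. Then either G is a Frobenius permutation group (Frobenius as a permutation group: transitive, some non-identity element fixes a point, and no non-identity element fixes two points) of order n(n − 1) and exactly |G|/n of its elements are derangements (fix no point), or the number of derangements is greater than |G|/n. -/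
theorem result {G Ω : Type*} [Group G] [Finite G] [MulAction G Ω] [FaithfulSMul G Ω] [Fintype Ω] (htr : MulAction.IsPretransitive G Ω) (hn : 3 ≤ Fintype.card Ω) :
    ((MulAction.IsPretransitive G Ω ∧ (∃ g : G, g ≠ 1 ∧ ∃ ω : Ω, g • ω = ω) ∧ ∀ g : G, g ≠ 1 → Nat.card (MulAction.fixedBy Ω g) ≤ 1) ∧ Nat.card G = Fintype.card Ω * (Fintype.card Ω - 1) ∧ Fintype.card Ω * Nat.card {g : G // ∀ ω : Ω, g • ω ≠ ω} = Nat.card G) ∨
    Nat.card G < Fintype.card Ω * Nat.card {g : G // ∀ ω : Ω, g • ω ≠ ω} := by
  classical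
  haveI : Fintype G := Fintype.ofFinite _
  set n := Fintype.card Ω with hn'
  let fx : G → ℕ := fun g => Fintype.card (fixedBy Ω g)
  haveI : Nonempty Ω := Fintype.card_pos_iff.1 (by omega)
  have h1 : ∑ g, fx g = Fintype.card G := by
    have h := sum_card_fixedBy_eq_card_orbits_mul_card_group G Ω
    haveI : Unique (Quotient (orbitRel G Ω)) := (pretransitive_iff_unique_quotient_of_nonempty G Ω).1 htr |>.some
    rw [Fintype.card_unique, one_mul] at h
    exact h
  have h2 : 2 * Fintype.card G ≤ ∑ g, fx g ^ 2 := by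
    have := sum_card_fixedBy_eq_card_orbits_mul_card_group G (Ω × Ω)
    have e : ∀ g : G, Fintype.card (fixedBy (Ω × Ω) g) = fx g ^ 2 := by
      intro g
      rw [sq, ← Fintype.card_prod]
      exact Fintype.card_congr
        { toFun := fun x => (⟨x.1.1, congrArg Prod.fst x.2⟩, ⟨x.1.2, congrArg Prod.snd x.2⟩)
          invFun := fun x => ⟨(x.1.1, x.2.1), Prod.ext x.1.2 x.2.2⟩
          left_inv := fun _ => rfl
          right_inv := fun _ => rfl }
    simp only [e] at this
    rw [this]
    apply Nat.mul_le_mul_right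
    obtain ⟨a, b, hab⟩ := Fintype.exists_pair_of_one_lt_card (α := Ω) (by omega)
    rw [Nat.succ_le_iff, Fintype.one_lt_card_iff]
    refine ⟨Quotient.mk _ (a, a), Quotient.mk _ (a, b), fun h => hab ?_⟩
    obtain ⟨g, hg⟩ := Quotient.exact h
    have h1 := congrArg Prod.fst hg
    have h2 := congrArg Prod.snd hg
    simp only [Prod.smul_mk] at h1 h2
    exact smul_left_cancel g (h1.trans h2.symm)
  have hle : ∀ g, fx g ≤ n := fun g => Fintype.card_subtype_le _
  have hD : (Nat.card {g : G // ∀ ω : Ω, g • ω ≠ ω} : ℤ) = ∑ g : G, if fx g = 0 then 1 else 0 := by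
    rw [Nat.card_eq_fintype_card, Fintype.card_subtype, Finset.card_filter]
    push_cast
    refine Finset.sum_congr rfl fun g _ => ?_
    have : (∀ ω : Ω, g • ω ≠ ω) ↔ fx g = 0 := by
      rw [Fintype.card_eq_zero_iff]
      exact ⟨fun h => ⟨fun x => h x.1 x.2⟩, fun h ω hω => h.elim ⟨ω, hω⟩⟩
    simp only [this]
  set D := Nat.card {g : G // ∀ ω : Ω, g • ω ≠ ω}
  rw [Nat.card_eq_fintype_card]
  by_cases hlt : Fintype.card G < n * D
  · exact Or.inr hlt
  left
  let t : G → ℤ := fun g => (n * if fx g = 0 then 1 else 0) - ((fx g : ℤ) - 1) * (fx g - n)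
  have ht : ∀ g, 0 ≤ t g := fun g => by
    simp only [t]
    split_ifs with h
    · simp [h]
    · have : (1 : ℤ) ≤ fx g := by omega
      have : (fx g : ℤ) ≤ n := by exact_mod_cast hle g
      nlinarith
  have h1' : ∑ g, (fx g : ℤ) = Fintype.card G := by exact_mod_cast h1
  have h2' : 2 * (Fintype.card G : ℤ) ≤ ∑ g, (fx g : ℤ) ^ 2 := by exact_mod_cast h2
  have hsum : ∑ g, t g = n * D - (∑ g, (fx g : ℤ) ^ 2 - (n + 1) * ∑ g, (fx g : ℤ) + n * Fintype.card G) := by
    simp only [t]
    rw [Finset.sum_sub_distrib, ← Finset.mul_sum, ← hD, Finset.mul_sum, ← Finset.sum_sub_distrib]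
    congr 1
    rw [← Finset.card_univ, Finset.card_eq_sum_ones]
    push_cast
    rw [Finset.mul_sum, ← Finset.sum_add_distrib]
    exact Finset.sum_congr rfl fun g _ => by ring
  have hlt' : (n : ℤ) * D ≤ Fintype.card G := by exact_mod_cast not_lt.1 hlt
  have hs0 : 0 ≤ ∑ g, t g := Finset.sum_nonneg fun g _ => ht g
  have hz : ∑ g, t g = 0 := by rw [h1'] at hsum; linarith
  have hnD : (n : ℤ) * D = Fintype.card G := by rw [h1'] at hsum; linarith
  rw [Finset.sum_eq_zero_iff_of_nonneg fun g _ => ht g] at hz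
  have hf1 : ∀ g : G, g ≠ 1 → fx g ≤ 1 := by
    intro g hg
    have := hz g (Finset.mem_univ _)
    by_contra h
    simp only [t, if_neg (show fx g ≠ 0 by omega), mul_zero, zero_sub, neg_eq_zero, mul_eq_zero] at this
    have h3 : fx g = n := by omega
    apply hg
    apply eq_of_smul_eq_smul (α := Ω)
    intro ω
    have h4 : fixedBy Ω g = Set.univ := (set_fintype_card_eq_univ_iff _).1 h3
    rw [one_smul]
    exact (h4 ▸ Set.mem_univ ω : ω ∈ fixedBy Ω g)
  have hone : fx 1 = n := by simp [fx, hn']
  have hDn : (D : ℤ) = n - 1 := by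
    have e : ∑ g : G, ((fx g : ℤ) + (if fx g = 0 then 1 else 0)) =
        ∑ g : G, (1 + if g = 1 then (n : ℤ) - 1 else 0) := by
      refine Finset.sum_congr rfl fun g _ => ?_
      by_cases hg : g = 1
      · subst hg; rw [hone, if_neg (by omega)]; simp
      · have := hf1 g hg
        rw [if_neg hg]
        split_ifs <;> omega
    rw [Finset.sum_add_distrib, Finset.sum_add_distrib, h1', ← hD] at e
    simp at e
    linarith
  have hG : Fintype.card G = n * (n - 1) := by
    have : D = n - 1 := by omega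
    rw [← this]; exact_mod_cast hnD.symm
  refine ⟨⟨htr, ?_, fun g hg => by rw [Nat.card_eq_fintype_card]; exact hf1 g hg⟩, hG, by exact_mod_cast hnD⟩
  by_contra! h
  obtain ⟨ω⟩ : Nonempty Ω := inferInstance
  have hb : stabilizer G ω = ⊥ := by
    rw [eq_bot_iff]
    intro g hg
    by_contra hg1
    exact h g hg1 ω hg
  have := index_stabilizer_of_transitive G ω
  rw [hb, Subgroup.index_bot, Nat.card_eq_fintype_card, Nat.card_eq_fintype_card, hG, ← hn'] at this
  have h3 : n * 2 ≤ n * (n - 1) := Nat.mul_le_mul_left _ (by omega)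
  omega

end Cfsg.Agent.S5729
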