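import Cfsg.Statements.S5730
import Cfsg.Agent.Lib.Layer.Der3

set_option autoImplicit false
open Cfsg

namespace Cfsg.Agent.S5730

open Cfsg.Lib.Layer.Der Finset

/-- Let a finite group G act faithfully and transitively on a set with n ≥ 7 points. Then either G is a Frobenius permutation group (Frobenius as a permutation group: transitive, some non-identity element fixes a point, and no non-identity element fixes two points) of order n(n − 1)/a with a ∈ {1, 2}, in which case exactly a|G|/n of its elements are derangements, or the number of derangements is at least 2|G|/n. (Equality does occur: PSL₃(2) acting on the 7 points of the Fano plane has exactly 2|G|/7 derangements.) -/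
theorem result {G Ω : Type*} [Group G] [Finite G] [MulAction G Ω] [FaithfulSMul G Ω] [Fintype Ω] (htr : MulAction.IsPretransitive G Ω) (hn : 7 ≤ Fintype.card Ω) :
    (∃ a : ℕ, (a = 1 ∨ a = 2) ∧ (MulAction.IsPretransitive G Ω ∧ (∃ g : G, g ≠ 1 ∧ ∃ ω : Ω, g • ω = ω) ∧ ∀ g : G, g ≠ 1 → Nat.card (MulAction.fixedBy Ω g) ≤ 1) ∧ a * Nat.card G = Fintype.card Ω * (Fintype.card Ω - 1) ∧ Fintype.card Ω * Nat.card {g : G // ∀ ω : Ω, g • ω ≠ ω} = a * Nat.card G) ∨
    2 * Nat.card G ≤ Fintype.card Ω * Nat.card {g : G // ∀ ω : Ω, g • ω ≠ ω} := by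
  classical
  letI := Fintype.ofFinite G
  have hD : Nat.card {g : G // ∀ ω : Ω, g • ω ≠ ω} = nder G Ω := by
    rw [Nat.card_eq_fintype_card, Fintype.card_subtype]; unfold nder; congr
  rw [hD, Nat.card_eq_fintype_card (α := G)]
  by_cases h : TT G Ω
  swap
  · exact Or.inr (rank3 (by omega) h)
  obtain ⟨a, b, c, hab, hac, hbc⟩ := Fintype.two_lt_card_iff.mp (show 2 < Fintype.card Ω by omega)
  have h1 := nder_tt h hab
  have h2 := card_G h hab
  have hn' : (7 : ℚ) ≤ Fintype.card Ω := by exact_mod_cast hn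
  have h2' : (Fintype.card G : ℚ) = Fintype.card Ω * (Fintype.card Ω - 1) * (st2 G a b).card := by
    rw [h2]; push_cast [Nat.cast_sub (show 1 ≤ Fintype.card Ω by omega)]; ring
  by_cases ht : 2 ≤ (st2 G a b).card
  · right
    have h3 := main_tt h hab hn ht
    have : (2 : ℚ) * Fintype.card G ≤ Fintype.card Ω * nder G Ω := by
      rw [h1, h2']
      have h4 : (0 : ℚ) ≤ Fintype.card Ω * (Fintype.card Ω - 1) := mul_nonneg (by linarith) (by linarith)
      nlinarith [mul_le_mul_of_nonneg_left h3 h4]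
    exact_mod_cast this
  left
  have ht1 : (st2 G a b).card = 1 := by
    have : 0 < (st2 G a b).card := card_pos.mpr ⟨1, by simp⟩
    omega
  have hs : st2 G a b = {1} := by
    obtain ⟨g, hg⟩ := card_eq_one.mp ht1
    have : (1 : G) ∈ st2 G a b := by simp
    rw [hg] at this ⊢; rw [mem_singleton.mp this]
  refine ⟨1, Or.inl rfl, ⟨htr, ?_, ?_⟩, by rw [h2, ht1]; ring, ?_⟩
  · obtain ⟨g, hg1, hg2⟩ := h a b a c hab hac
    refine ⟨g, ?_, a, hg1⟩
    rintro rfl
    exact hbc (by simpa using hg2)
  · intro g hg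
    rw [fx_eq]
    by_contra hc
    obtain ⟨x, hx, y, hy, hxy⟩ := one_lt_card.mp (show 1 < fx Ω g by omega)
    have h5 := card_st2 h hab hxy
    rw [ht1] at h5
    obtain ⟨k, hk⟩ := card_eq_one.mp h5
    have e1 : (1 : G) ∈ st2 G x y := by simp
    have e2 : g ∈ st2 G x y := mem_st2.mpr ⟨(mem_filter.mp hx).2, (mem_filter.mp hy).2⟩
    rw [hk, mem_singleton] at e1 e2
    exact hg (e2.trans e1.symm)
  · rw [hs, sum_singleton, fx_one] at h1
    rw [ht1] at h2'
    have : (Fintype.card Ω : ℚ) * nder G Ω = 1 * Fintype.card G := by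
      rw [h1, h2']; field_simp; simp
    exact_mod_cast this

end Cfsg.Agent.S5730
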