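import Cfsg.Statements.S5735
import Cfsg.Agent.Lib.BN.BinL2
import Cfsg.Agent.Lib.BN.BinU3

set_option autoImplicit false
open Cfsg

namespace Cfsg.Agent.S5735

open Cfsg.Lib Cfsg.Lib.BN

theorem two_zero {F : Type*} [Field F] [Fintype F] {n : ℕ} (h : Fintype.card F = 2 ^ n) : (2 : F) = 0 := by
  haveI := BS.charP_two_of_card h
  exact CharTwo.two_eq_zero

theorem thm_sz {G : Type*} [Group G] (h : Cfsg.Lie.IsoSuzuki G) : BinThm G := by
  obtain ⟨F, _, _, m, hm, hF, ⟨e⟩⟩ := h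
  haveI := Sz.szField_of_card hm hF
  exact (Sz.binThm (F := F) m).of_equiv ((Sz.szEquiv m).trans e.symm)

theorem thm_u3 {G : Type*} [Group G] [IsSimpleGroup G] {F : Type*} [Field F] [Fintype F] {a : ℕ} (ha : 2 ≤ a)
    (hF : Fintype.card F = (2 ^ a) ^ 2) (e : G ≃* Cfsg.PSU 3 F (2 ^ a)) : BinThm G := by
  obtain ⟨σ, c⟩ := Forms.isConj_of_card hF
  obtain ⟨f⟩ := Lib.U3.nonempty_psu c
  haveI := (e.trans f).symm.isSimpleGroup
  exact (BN.U3.binThm c ha rfl).of_equiv (e.trans f).symm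

/-- Let G be a finite simple group with exactly one conjugacy class of involutions, and let H be a proper subgroup of even order. Then the action of G on the cosets of H is binary if and only if one of the following holds: G ≅ SL₂(2^a) with a ≥ 2 and H is a Sylow 2-subgroup; G is a Suzuki group Sz(2^(2a+1)) with a ≥ 1 and H is the centre of a Sylow 2-subgroup; G ≅ PSU₃(2^a) with a ≥ 2 and H is the centre of a Sylow 2-subgroup. Here an action is binary (relational complexity 2) when, for every n ≥ 2 and all n-tuples I, J of points, if for every pair of positions some group element carries the corresponding pair of entries of I to those of J, then a single group element carries I to J. -/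
theorem result {G : Type*} [Group G] [Finite G] [IsSimpleGroup G] (hinv : ∃ s : G, orderOf s = 2)
    (hone : ∀ s t : G, orderOf s = 2 → orderOf t = 2 → IsConj s t)
    (H : Subgroup G) (hH : H ≠ ⊤) (heven : Even (Nat.card H)) :
    (∀ (n : ℕ) (I J : Fin n → G ⧸ H), 2 ≤ n →
        (∀ i j : Fin n, i ≠ j → ∃ g : G, g • I i = J i ∧ g • I j = J j) → ∃ g : G, ∀ i, g • I i = J i) ↔
      (((∃ (F : Type) (_ : Field F) (_ : Fintype F) (a : ℕ), 2 ≤ a ∧ Fintype.card F = 2 ^ a ∧ Nonempty (G ≃* Matrix.SpecialLinearGroup (Fin 2) F)) ∧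
          ∃ P : Sylow 2 G, H = P) ∨
        (Cfsg.Lie.IsoSuzuki G ∧ ∃ P : Sylow 2 G, H = (Subgroup.center (P : Subgroup G)).map (P : Subgroup G).subtype) ∨
        ((∃ (F : Type) (_ : Field F) (_ : Fintype F) (a : ℕ), 2 ≤ a ∧ Fintype.card F = (2 ^ a) ^ 2 ∧ Nonempty (G ≃* Cfsg.PSU 3 F (2 ^ a))) ∧
          ∃ P : Sylow 2 G, H = (Subgroup.center (P : Subgroup G)).map (P : Subgroup G).subtype)) := by
  change Bin _ _ ↔ _
  constructor
  · intro hb
    obtain ⟨N, hN⟩ := hb.exists_se hone hH heven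
    rcases (BS.bro.bender hN).cases' with ⟨F, _, _, n, hn, hF, ⟨e⟩⟩ | h | ⟨F, _, _, n, hn, hF, ⟨e⟩⟩
    · have e' := e.trans (Known.pmkEquiv (two_zero hF)).symm
      obtain ⟨h1, h2⟩ := L2.binThm (two_zero hF) e'
      obtain ⟨P, hP⟩ := (h1 H hH heven).1 hb
      exact Or.inl ⟨⟨F, _, _, n, hn, hF, ⟨e'⟩⟩, P, hP.trans (h2 P)⟩
    · exact Or.inr (Or.inl ⟨h, (thm_sz h H hH heven).1 hb⟩)
    · exact Or.inr (Or.inr ⟨⟨F, _, _, n, hn, hF, ⟨e⟩⟩, (thm_u3 hn hF e H hH heven).1 hb⟩)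
  · rintro (⟨⟨F, _, _, n, hn, hF, ⟨e⟩⟩, P, hP⟩ | ⟨h, hP⟩ | ⟨⟨F, _, _, n, hn, hF, ⟨e⟩⟩, hP⟩)
    · obtain ⟨h1, h2⟩ := L2.binThm (two_zero hF) e
      exact (h1 H hH heven).2 ⟨P, hP.trans (h2 P).symm⟩
    · exact (thm_sz h H hH heven).2 hP
    · exact (thm_u3 hn hF e H hH heven).2 hP

end Cfsg.Agent.S5735
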