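import Cfsg.Statements.S5736
import Cfsg.Agent.Lib.BN.BinL2b

set_option autoImplicit false
open Cfsg

namespace Cfsg.Agent.S5736

open Cfsg.Lib Cfsg.Lib.BN

theorem two_zero {F : Type*} [Field F] [Fintype F] {n : ℕ} (h : Fintype.card F = 2 ^ n) : (2 : F) = 0 := by
  haveI := BS.charP_two_of_card h
  exact CharTwo.two_eq_zero

theorem card_pow {F : Type*} [Field F] [Fintype F] (h : (2 : F) = 0) : ∃ n, Fintype.card F = 2 ^ n := by
  haveI : CharP F 2 := CharTwo.of_one_ne_zero_of_two_eq_zero one_ne_zero h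
  obtain ⟨n, -, hn⟩ := FiniteField.card F 2
  exact ⟨n, hn⟩

theorem mod_three (a : ℕ) : 2 ^ (2 * a) % 3 = 1 := by rw [pow_mul, Nat.pow_mod]; simp

/-- Let F be a finite field with q ≥ 4 elements, q ≠ 5, let G = PSL₂(F) and let H be a proper subgroup of G. Then the action of G on the cosets of H is binary if and only if H is trivial, or q is a power of 2 and H is a Sylow 2-subgroup, or q = 2^a with a odd and H has order 3. Here an action is binary (relational complexity 2) when, for every n ≥ 2 and all n-tuples I, J of points, if for every pair of positions some group element carries the corresponding pair of entries of I to those of J, then a single group element carries I to J. -/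
theorem result {F : Type*} [Field F] [Fintype F] (h4 : 4 ≤ Fintype.card F) (h5 : Fintype.card F ≠ 5)
    (H : Subgroup (Matrix.ProjectiveSpecialLinearGroup (Fin 2) F)) (hH : H ≠ ⊤) :
    (∀ (n : ℕ) (I J : Fin n → Matrix.ProjectiveSpecialLinearGroup (Fin 2) F ⧸ H), 2 ≤ n →
        (∀ i j : Fin n, i ≠ j → ∃ g : Matrix.ProjectiveSpecialLinearGroup (Fin 2) F, g • I i = J i ∧ g • I j = J j) → ∃ g : Matrix.ProjectiveSpecialLinearGroup (Fin 2) F, ∀ i, g • I i = J i) ↔
      (H = ⊥ ∨ ((∃ a : ℕ, Fintype.card F = 2 ^ a) ∧ ∃ P : Sylow 2 (Matrix.ProjectiveSpecialLinearGroup (Fin 2) F), H = P) ∨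
        ((∃ a : ℕ, Odd a ∧ Fintype.card F = 2 ^ a) ∧ Nat.card H = 3)) := by
  change Bin _ _ ↔ _
  haveI := Linear.psl_fin_isSimpleGroup (F := F) le_rfl fun _ => by rwa [Nat.card_eq_fintype_card]
  constructor
  · intro hb
    rcases Nat.even_or_odd (Nat.card H) with he | ho
    · by_cases h2 : (2 : F) = 0
      · obtain ⟨h1, h3⟩ := L2.binThm h2 (Known.pmkEquiv h2).symm
        obtain ⟨P, hP⟩ := (h1 H hH he).1 hb
        exact Or.inr (Or.inl ⟨card_pow h2, P, hP.trans (h3 P)⟩)
      · obtain ⟨N, hN⟩ := hb.exists_se (fun _ _ => Linear.psl2_isConj_of_orderOf_two h2) hH he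
        have := Known.odd_card_of_two_ne_zero h2
        rw [Nat.card_eq_fintype_card, Nat.odd_iff] at this
        exact absurd hN (L2.not_se h2 (by rw [Nat.card_eq_fintype_card]; omega) N)
    by_cases h1 : H = ⊥
    · exact Or.inl h1
    obtain ⟨h2, h3, h6⟩ := L2.card_eq_three hb ho h1
    obtain ⟨a, ha⟩ := card_pow h2
    refine Or.inr (Or.inr ⟨⟨a, ?_, ha⟩, h6⟩)
    rcases Nat.even_or_odd' a with ⟨k, rfl | rfl⟩
    · have := mod_three k
      rw [Nat.card_eq_fintype_card, ha] at h3
      omega
    · exact odd_two_mul_add_one k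
  · rintro (rfl | ⟨⟨a, ha⟩, P, hP⟩ | ⟨⟨a, ⟨k, rfl⟩, ha⟩, h3⟩)
    · exact bin_bot
    · obtain ⟨h1, h3⟩ := L2.binThm (two_zero ha) (Known.pmkEquiv (two_zero ha)).symm
      by_cases h0 : H = ⊥
      · exact h0 ▸ bin_bot
      refine (h1 H hH ?_).2 ⟨P, hP.trans (h3 P).symm⟩
      obtain ⟨n, hn⟩ := (hP ▸ P.isPGroup' : IsPGroup 2 H).exists_card_eq
      rcases n with _ | n
      · exact absurd (Subgroup.card_eq_one.1 hn) h0
      · rw [hn, pow_succ]; simp
    · refine L2.bin_three (two_zero ha) (fun c hc => ?_) h3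
      have c0 : c ≠ 0 := fun e => by simp [e] at hc
      have c1 : c ≠ 1 := fun e => by
        rw [e] at hc
        exact one_ne_zero (α := F) (by linear_combination hc - two_zero ha)
      have h7 : orderOf (Units.mk0 c c0) = 3 := orderOf_eq_prime
        (Units.ext (by simp; linear_combination (c - 1) * hc)) fun e => c1 (congrArg Units.val e)
      have h8 := orderOf_dvd_natCard (Units.mk0 c c0)
      rw [h7, Nat.card_units, Nat.card_eq_fintype_card, ha, pow_succ] at h8
      have := mod_three k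
      omega

end Cfsg.Agent.S5736
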