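import Cfsg.Statements.S5737
import Cfsg.Agent.Lib.BN.BinFam

set_option autoImplicit false
open Cfsg

namespace Cfsg.Agent.S5737

open Cfsg.Lib.BN

/-- Let G = Sz(q) be a Suzuki group, q = 2^(2a+1) with a ≥ 1 (realised inside Sp₄ over the field with q elements), and let H be a proper subgroup of G. Then the action of G on the cosets of H is binary if and only if H is trivial or H is the centre of a Sylow 2-subgroup of G. Here an action is binary (relational complexity 2) when, for every n ≥ 2 and all n-tuples I, J of points, if for every pair of positions some group element carries the corresponding pair of entries of I to those of J, then a single group element carries I to J. -/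
theorem result {F : Type*} [Field F] [Fintype F] (a : ℕ) (ha : 1 ≤ a) (hF : Fintype.card F = 2 ^ (2 * a + 1))
    (H : Subgroup (Cfsg.Lie.Sz F (2 ^ (a + 1)))) (hH : H ≠ ⊤) :
    (∀ (n : ℕ) (I J : Fin n → (Cfsg.Lie.Sz F (2 ^ (a + 1))) ⧸ H), 2 ≤ n →
        (∀ i j : Fin n, i ≠ j → ∃ g : (Cfsg.Lie.Sz F (2 ^ (a + 1))), g • I i = J i ∧ g • I j = J j) → ∃ g : (Cfsg.Lie.Sz F (2 ^ (a + 1))), ∀ i, g • I i = J i) ↔
      (H = ⊥ ∨ ∃ P : Sylow 2 (Cfsg.Lie.Sz F (2 ^ (a + 1))), H = (Subgroup.center (P : Subgroup (Cfsg.Lie.Sz F (2 ^ (a + 1))))).map (P : Subgroup (Cfsg.Lie.Sz F (2 ^ (a + 1)))).subtype) := by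
  haveI := Sz.szField_of_card ha hF
  change Bin _ _ ↔ _
  have key := (Sz.binThm (F := F) a).of_equiv (Sz.szEquiv a)
  rcases Nat.even_or_odd (Nat.card H) with he | ho
  · rw [key H hH he]
    exact ⟨Or.inr, fun h => h.resolve_left fun e => by simp [e] at he⟩
  by_cases h1 : H = ⊥
  · exact ⟨fun _ => Or.inl h1, fun _ => h1 ▸ bin_bot⟩
  refine ⟨fun hb => absurd (hb.map (Sz.szEquiv a).symm) (Sz.not_bin_of_odd a ?_ ?_), fun h => ?_⟩
  · rwa [Subgroup.card_map_of_injective (Sz.szEquiv a).symm.injective]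
  · rwa [Ne, Subgroup.map_eq_bot_iff_of_injective _ (Sz.szEquiv a).symm.injective]
  · obtain ⟨P, hP⟩ := h.resolve_left h1
    haveI : Finite (Cfsg.Lie.Sz F (2 ^ (a + 1))) := Finite.of_equiv _ (Sz.szEquiv a).toEquiv
    have h2 : IsPGroup 2 H := P.isPGroup'.to_le (hP ▸ Subgroup.map_subtype_le _)
    obtain ⟨n, hn⟩ := h2.exists_card_eq
    rcases n with _ | n
    · exact absurd (Subgroup.card_eq_one.1 hn) h1
    · rw [hn, pow_succ] at ho
      exact absurd ho (by simp)

end Cfsg.Agent.S5737
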