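import Cfsg.Statements.S5738


set_option autoImplicit false
open Cfsg

namespace Cfsg.Agent.S5738





/-- Let F ⊆ K be finite fields with |F| = q and [K : F] = n ≥ 2, so |K| = q^n. Regard K as an n-dimensional F-vector space; the multiplications by non-zero elements of K form a cyclic subgroup of GL_F(K) of order q^n − 1 acting regularly on the non-zero vectors (a Singer group). Its normaliser in GL_F(K) has order n·(q^n − 1). -/
theorem result {F K : Type*} [Field F] [Fintype F] [Field K] [Fintype K] [Algebra F K] (n : ℕ) (hn : 2 ≤ n) (hdim : Module.finrank F K = n) :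
    Nat.card (Subgroup.normalizer (((Units.map ((Algebra.lmul F K : K →ₐ[F] Module.End F K) : K →* Module.End F K)).range : Subgroup (Module.End F K)ˣ) : Set (Module.End F K)ˣ)) = n * (Fintype.card K - 1) := by
  classical
  set S := (Units.map ((Algebra.lmul F K : K →ₐ[F] Module.End F K) : K →* Module.End F K)) with hS
  let A : (K ≃ₐ[F] K) → (Module.End F K)ˣ := fun σ =>
    ⟨σ.toLinearMap, σ.symm.toLinearMap, by ext; simp, by ext; simp⟩
  have hSa : ∀ (a : Kˣ) (x : K), (S a : Module.End F K) x = a * x := fun a x => by simp [hS]
  have hA : ∀ σ, A σ ∈ Subgroup.normalizer (S.range : Set (Module.End F K)ˣ) := by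
    intro σ
    haveI : Finite (S.range : Set (Module.End F K)ˣ) := Set.finite_range S
    apply Subgroup.mem_normalizer_fintype
    rintro _ ⟨a, rfl⟩
    refine ⟨Units.map (σ : K →* K) a, Units.ext (LinearMap.ext fun x => ?_)⟩
    simp [hSa, A]
  let f : (K ≃ₐ[F] K) × Kˣ → Subgroup.normalizer (S.range : Set (Module.End F K)ˣ) := fun x =>
    ⟨S x.2 * A x.1, Subgroup.mul_mem _ (Subgroup.le_normalizer ⟨x.2, rfl⟩) (hA _)⟩
  have hf : Function.Bijective f := by
    constructor
    · rintro ⟨σ, a⟩ ⟨τ, b⟩ h
      have h' : ∀ x, (a : K) * σ x = b * τ x := fun x => by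
        have := congrArg (fun u : Subgroup.normalizer (S.range : Set (Module.End F K)ˣ) =>
          (u.1 : Module.End F K) x) h
        simpa [f, A, hSa] using this
      have h1 : a = b := Units.ext (by simpa using h' 1)
      subst h1
      have : σ = τ := AlgEquiv.ext fun x => mul_left_cancel₀ a.ne_zero (h' x)
      rw [this]
    · rintro ⟨g, hg⟩
      have hinj : Function.Injective (g : Module.End F K) := fun x y h => by
        have := congrArg ((g⁻¹ : (Module.End F K)ˣ) : Module.End F K) h
        rwa [← Module.End.mul_apply, ← Module.End.mul_apply, Units.inv_mul] at this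
      have h1 : (g : Module.End F K) 1 ≠ 0 := fun h0 => one_ne_zero (hinj (h0.trans (map_zero _).symm))
      have hmul : ∀ x y : K, (g : Module.End F K) (x * y) * (g : Module.End F K) 1 =
          (g : Module.End F K) x * (g : Module.End F K) y := by
        intro x y
        by_cases hx : x = 0
        · simp [hx]
        obtain ⟨b, hb⟩ := (Subgroup.mem_normalizer_iff.1 hg (S (Units.mk0 x hx))).1 ⟨_, rfl⟩
        have h2 : S b * g = g * S (Units.mk0 x hx) := by rw [hb]; group
        have h3 : ∀ z, (b : K) * (g : Module.End F K) z = (g : Module.End F K) (x * z) := fun z => by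
          have := congrArg (fun u : (Module.End F K)ˣ => (u : Module.End F K) z) h2
          simpa [hSa] using this
        rw [← h3, ← mul_one x, ← h3]; ring
      let φ : K →ₐ[F] K := AlgHom.ofLinearMap (((g : Module.End F K) 1)⁻¹ • (g : Module.End F K))
        (by simp [h1]) (fun x y => by
          simp only [LinearMap.smul_apply, smul_eq_mul]
          field_simp
          rw [mul_comm, hmul])
      refine ⟨(AlgEquiv.ofBijective φ φ.bijective, Units.mk0 _ h1), Subtype.ext (Units.ext
        (LinearMap.ext fun x => ?_))⟩
      simp [f, A, hSa, φ, h1]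
  rw [← Nat.card_eq_of_bijective f hf, Nat.card_prod, IsGalois.card_aut_eq_finrank, hdim,
    Nat.card_units, Nat.card_eq_fintype_card]

end Cfsg.Agent.S5738
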