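import Cfsg.Statements.S5739


set_option autoImplicit false
open Cfsg

namespace Cfsg.Agent.S5739





/-- Let F ⊆ K be finite fields with |F| = q and [K : F] = n ≥ 2, and let M ≤ GL_F(K) be the Singer group of multiplications by non-zero elements of K. If g ∈ GL_F(K) does not normalise M, then the order of M ∩ gMg⁻¹ divides q^r − 1 for some proper divisor r of n. In particular, when n is prime, that order divides q − 1. -/
theorem result {F K : Type*} [Field F] [Fintype F] [Field K] [Fintype K] [Algebra F K] (n : ℕ) (hn : 2 ≤ n) (hdim : Module.finrank F K = n)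
    (g : (Module.End F K)ˣ) (hg : ((Units.map ((Algebra.lmul F K : K →ₐ[F] Module.End F K) : K →* Module.End F K)).range).map (MulAut.conj g).toMonoidHom ≠ (Units.map ((Algebra.lmul F K : K →ₐ[F] Module.End F K) : K →* Module.End F K)).range) :
    ∃ r : ℕ, 1 ≤ r ∧ r ∣ n ∧ r < n ∧ Nat.card ↥(((Units.map ((Algebra.lmul F K : K →ₐ[F] Module.End F K) : K →* Module.End F K)).range).map (MulAut.conj g).toMonoidHom ⊓ (Units.map ((Algebra.lmul F K : K →ₐ[F] Module.End F K) : K →* Module.End F K)).range) ∣ Fintype.card F ^ r - 1 := by
  classical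
  set S := (Units.map ((Algebra.lmul F K : K →ₐ[F] Module.End F K) : K →* Module.End F K)) with hS
  let c : Module.End F K →ₐ[F] Module.End F K :=
    { toFun := fun x => (g : Module.End F K) * x * (g⁻¹ : (Module.End F K)ˣ)
      map_one' := by simp
      map_mul' := fun x y => by simp [mul_assoc]
      map_zero' := by simp
      map_add' := fun x y => by simp [mul_add, add_mul]
      commutes' := fun r => by rw [← Algebra.commutes r, mul_assoc]; simp }
  let R : Subalgebra F K := ((Algebra.lmul F K).range.map c).comap (Algebra.lmul F K)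
  let L : IntermediateField F K := R.toIntermediateField' (Finite.isField_of_domain R)
  have hSi : Function.Injective S := Units.map_injective (Algebra.lmul_injective)
  have hmem : ∀ a : Kˣ, S a ∈ S.range.map (MulAut.conj g).toMonoidHom ↔ (a : K) ∈ L := by
    intro a
    constructor
    · rintro ⟨_, ⟨b, rfl⟩, h⟩
      refine ⟨_, ⟨b, rfl⟩, ?_⟩
      have := congrArg Units.val h
      simpa [hS, c] using this
    · rintro ⟨_, ⟨b, rfl⟩, h⟩
      have hb : b ≠ 0 := by
        rintro rfl
        have h' : Algebra.lmul F K a = 0 := h.symm.trans (by simp)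
        exact a.ne_zero (Algebra.lmul_injective (R := F) (h'.trans (map_zero _).symm))
      refine ⟨_, ⟨Units.mk0 b hb, rfl⟩, Units.ext ?_⟩
      simpa [hS, c] using h
  have hLtop : L ≠ ⊤ := by
    intro h
    apply hg
    symm
    haveI : Finite S.range := Set.finite_range S
    haveI : Finite (S.range.map (MulAut.conj g).toMonoidHom) :=
      Finite.of_equiv _ (S.range.equivMapOfInjective _ (MulAut.conj g).injective).toEquiv
    apply Subgroup.eq_of_le_of_card_ge
    · rintro _ ⟨a, rfl⟩
      exact (hmem a).2 (h ▸ IntermediateField.mem_top)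
    · exact (Subgroup.card_map_of_injective (MulAut.conj g).injective).le
  have hmul := Module.finrank_mul_finrank F L K
  refine ⟨Module.finrank F L, Module.finrank_pos, ⟨_, (hmul.trans hdim).symm⟩, ?_, ?_⟩
  · have h1 : Module.finrank L K ≠ 1 := fun h => hLtop (IntermediateField.finrank_eq_one_iff_eq_top.1 h)
    have h2 : 0 < Module.finrank L K := Module.finrank_pos
    have h3 : 0 < Module.finrank F L := Module.finrank_pos
    rw [← hdim, ← hmul]
    nlinarith [show 2 ≤ Module.finrank L K by omega]
  · have hc : Nat.card Lˣ = Fintype.card F ^ Module.finrank F L - 1 := by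
      rw [Nat.card_units, Module.natCard_eq_pow_finrank (K := F), Nat.card_eq_fintype_card]
    rw [← hc]
    have : S.range.map (MulAut.conj g).toMonoidHom ⊓ S.range =
        (S.comp (Units.map (L.val : L →* K))).range := by
      ext x
      constructor
      · rintro ⟨h1, a, rfl⟩
        have ha := (hmem a).1 h1
        refine ⟨Units.mk0 ⟨a, ha⟩ (fun h => a.ne_zero (congrArg Subtype.val h)), ?_⟩
        exact congrArg S (Units.ext rfl)
      · rintro ⟨a, rfl⟩
        exact ⟨(hmem _).2 (a : L).2, _, rfl⟩
    rw [this]
    exact Subgroup.card_range_dvd _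

end Cfsg.Agent.S5739
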