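import Cfsg.Statements.S5744
import Cfsg.Agent.Lib.E6F.D
import Cfsg.Agent.S2604
import Cfsg.Agent.S1686
import Cfsg.Agent.Lib.Forms.Omega

set_option autoImplicit false
open Cfsg

namespace Cfsg.Agent.S5744

open Cfsg.Lib.Forms Cfsg.Lib.Forms.Form in
theorem omega7 : Nonempty (POmega (ZMod 3) (quadFormOdd 3 (ZMod 3)) ≃* Omega (ZMod 3) (quadFormOdd 3 (ZMod 3))) := by
  classical
  have h2 : (2 : ZMod 3) ≠ 0 := by decide
  have hD := fOdd_nondeg h2 3
  have hn := finrank_odd (F := ZMod 3) 3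
  have h1 := hD.card_center_omega (good_of_two_ne_zero h2) (by omega)
  rw [if_neg fun h => absurd (hn ▸ ((negOne_mem_commutator_iff hD h2).1 h.2).1) (by decide), Subgroup.card_eq_one] at h1
  exact ⟨(pOmegaEquiv (fOdd (ZMod 3) 3)).trans (((QuotientGroup.quotientMulEquivOfEq h1).trans QuotientGroup.quotientBot).trans
    (omegaEquiv (fOdd (ZMod 3) 3)).symm)⟩

/-- The simple group ²E₆(2) (the twisted group of type E₆ over the field with 4 elements) contains at least three pairwise non-conjugate subgroups isomorphic to the orthogonal group Ω₇(3) (the commutator subgroup of the isometry group of x₀² + x₁y₁ + x₂y₂ + x₃y₃ over the field with 3 elements). -/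
theorem result {K : Type*} [Field K] [Fintype K] (hK : Fintype.card K = 4) :
    ∃ H : Fin 3 → Subgroup (Cfsg.Lie.twistedE6 K 2),
      (∀ i, Nonempty ((H i) ≃* Cfsg.Omega (ZMod 3) (Cfsg.quadFormOdd 3 (ZMod 3)))) ∧
      (∀ i j, i ≠ j → ∀ g : (Cfsg.Lie.twistedE6 K 2), (H i).map (MulAut.conj g).toMonoidHom ≠ H j) := by
  obtain ⟨e⟩ := Cfsg.Agent.S1686.result
  obtain ⟨e'⟩ := omega7
  obtain ⟨e''⟩ := Cfsg.Agent.S2604.result (F := ZMod 3) (p := 3) (f := 1) (m := 3) le_rfl (by simp) (by norm_num) le_rfl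
  obtain ⟨H, h1, h2⟩ := Lib.E6F.three_sub hK _ (fun y hy => Subgroup.mem_map_of_mem _ (Subgroup.subset_closure (by
      cases y <;> simp at hy ⊢)))
    ((Lib.Twist.card_Out_congr' e).trans ((Nat.card_congr e''.toEquiv).trans (by simp)))
  exact ⟨H, fun i => (h1 i).map fun f => f.trans (e.trans e'), h2⟩

end Cfsg.Agent.S5744
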