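import Cfsg.Statements.S5747


set_option autoImplicit false
open Cfsg

namespace Cfsg.Agent.S5747



section
variable {G Ω : Type*} [Group G] [MulAction G Ω] [DecidableEq Ω]

/-- irredundant base, as a sequence -/
def Irr (G : Type*) [Group G] [MulAction G Ω] {t : ℕ} (f : Fin t → Ω) : Prop :=
  (∀ g : G, (∀ i : Fin t, g • f i = f i) → g = 1) ∧
    ∀ i : Fin t, ∃ g : G, (∀ j : Fin t, j < i → g • f j = f j) ∧ g • f i ≠ f i

def Bs (G : Type*) [Group G] [MulAction G Ω] (S : Finset Ω) : Prop :=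
  ∀ g : G, (∀ x ∈ S, g • x = x) → g = 1

def Ind (G : Type*) [Group G] [MulAction G Ω] (S : Finset Ω) : Prop :=
  ∀ x ∈ S, ∃ g : G, (∀ y ∈ S, y ≠ x → g • y = y) ∧ g • x ≠ x

theorem Irr.inj {t : ℕ} {f : Fin t → Ω} (h : Irr G f) : Function.Injective f := by
  intro i j e
  by_contra hne
  rcases lt_or_gt_of_ne hne with h' | h'
  · obtain ⟨g, h1, h2⟩ := h.2 j
    exact h2 (e ▸ h1 i h')
  · obtain ⟨g, h1, h2⟩ := h.2 i
    exact h2 (e ▸ h1 j h')

theorem exists_irr (S : Finset Ω) (hS : Bs G S) (r : Ω → ℕ)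
    (h : ∀ x ∈ S, ∃ g : G, (∀ y ∈ S, y ≠ x → r y ≤ r x → g • y = y) ∧ g • x ≠ x) :
    ∃ f : Fin S.card → Ω, Irr G f ∧ ∀ x, x ∈ S ↔ ∃ i, f i = x := by
  let e : Fin S.card → Ω := fun i => S.equivFin.symm i
  let σ := Tuple.sort (r ∘ e)
  have hm : Monotone ((r ∘ e) ∘ σ) := Tuple.monotone_sort _
  have hmem : ∀ x, x ∈ S ↔ ∃ i, e (σ i) = x := fun x =>
    ⟨fun hx => ⟨σ.symm (S.equivFin ⟨x, hx⟩), by simp [e]⟩, by rintro ⟨i, rfl⟩; exact (S.equivFin.symm _).2⟩
  refine ⟨e ∘ σ, ⟨fun g hg => hS g fun x hx => ?_, fun i => ?_⟩, hmem⟩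
  · obtain ⟨i, rfl⟩ := (hmem x).1 hx
    exact hg i
  · obtain ⟨g, h1, h2⟩ := h _ ((hmem _).2 ⟨i, rfl⟩)
    refine ⟨g, fun j hj => h1 _ ((hmem _).2 ⟨j, rfl⟩) (fun e' => hj.ne ?_) (hm hj.le), h2⟩
    exact σ.injective (S.equivFin.symm.injective (Subtype.ext e'))

theorem exists_min (S : Finset Ω) (hS : Bs G S) : ∃ T : Finset Ω, T.card ≤ S.card ∧ Bs G T ∧ Ind G T := by
  induction hn : S.card using Nat.strong_induction_on generalizing S with
  | _ n ih =>
    by_cases h : Ind G S
    · exact ⟨S, hn.le, hS, h⟩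
    · simp only [Ind, not_forall, not_exists, not_and, not_not] at h
      obtain ⟨x, hx, h⟩ := h
      have hlt := Finset.card_erase_lt_of_mem hx
      obtain ⟨T, h1, h2⟩ := ih _ (hn ▸ hlt) (S.erase x) (fun g hg => hS g fun y hy => by
        by_cases e : y = x
        · exact e ▸ h g fun z hz hzx => hg z (Finset.mem_erase.2 ⟨hzx, hz⟩)
        · exact hg y (Finset.mem_erase.2 ⟨e, hy⟩)) rfl
      exact ⟨T, by omega, h2⟩

variable (R : ∀ (t : ℕ) (f : Fin t → Ω) (σ : Equiv.Perm (Fin t)), Irr G f → Irr G (f ∘ σ))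
include R

theorem Irr.ind {t : ℕ} {f : Fin t → Ω} (h : Irr G f) {S : Finset Ω} (hS : ∀ x, x ∈ S ↔ ∃ i, f i = x) :
    Ind G S := by
  intro x hx
  obtain ⟨i, rfl⟩ := (hS x).1 hx
  obtain ⟨s, rfl⟩ : ∃ s, t = s + 1 := ⟨t - 1, by have := i.pos; omega⟩
  obtain ⟨g, h1, h2⟩ := (R _ f (Equiv.swap i (Fin.last s)) h).2 (Fin.last s)
  refine ⟨g, fun y hy hne => ?_, by simpa using h2⟩
  obtain ⟨j, rfl⟩ := (hS y).1 hy
  have := h1 (Equiv.swap i (Fin.last s) j) (lt_of_le_of_ne (Fin.le_last _) fun e => hne (by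
    rw [Equiv.swap_apply_eq_iff] at e
    simp [e]))
  simpa using this

theorem ind_of (S : Finset Ω) (hS : Bs G S) (r : Ω → ℕ)
    (h : ∀ x ∈ S, ∃ g : G, (∀ y ∈ S, y ≠ x → r y ≤ r x → g • y = y) ∧ g • x ≠ x) : Ind G S := by
  obtain ⟨f, h1, h2⟩ := exists_irr S hS r h
  exact h1.ind R h2

theorem exch {A : Finset Ω} (hA : Bs G A) (hI : Ind G A) {x y : Ω} (hx : x ∈ A) (hy : y ∉ A) {g : G}
    (hg : ∀ z ∈ A, z ≠ x → g • z = z) (hgy : g • y ≠ y) :
    Bs G (insert y (A.erase x)) ∧ Ind G (insert y (A.erase x)) := by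
  have hyx : y ≠ x := fun e => hy (e ▸ hx)
  have hB : Bs G (insert y (A.erase x)) := by
    intro k hk
    by_contra hk1
    have hkx : k • x ≠ x := fun e => hk1 (hA k fun z hz => by
      by_cases h : z = x
      · exact h ▸ e
      · exact hk z (by simp [h, hz]))
    have := ind_of R (insert y A) (fun k hk => hA k fun z hz => hk z (by simp [hz]))
      (fun z => if z = x then 2 else if z = y then 1 else 0) (fun z hz => by
        by_cases h1 : z = x
        · subst h1
          exact ⟨k, fun w hw h _ => hk w (by simpa [h] using hw), hkx⟩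
        · by_cases h2 : z = y
          · subst h2
            refine ⟨g, fun w hw h h' => hg w (by simpa [h] using hw) (by rintro rfl; simp [h1] at h'), hgy⟩
          · obtain ⟨k, hk1, hk2⟩ := hI z (by simpa [h2] using hz)
            refine ⟨k, fun w hw h h' => hk1 w ?_ h, hk2⟩
            rcases Finset.mem_insert.1 hw with rfl | hw
            · simp [h1, h2, hyx] at h'
            · exact hw)
    obtain ⟨k, h1, h2⟩ := this y (Finset.mem_insert_self _ _)
    rw [hA k fun z hz => h1 z (by simp [hz]) (fun e => hy (e ▸ hz)), one_smul] at h2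
    exact h2 rfl
  refine ⟨hB, ind_of R _ hB (fun z => if z = y then 1 else 0) fun z hz => ?_⟩
  by_cases h2 : z = y
  · subst h2
    refine ⟨g, fun w hw h _ => ?_, hgy⟩
    have : w ≠ x ∧ w ∈ A := by simpa [h] using hw
    exact hg w this.2 this.1
  · have : z ≠ x ∧ z ∈ A := by simpa [h2] using hz
    obtain ⟨k, hk1, hk2⟩ := hI z this.2
    refine ⟨k, fun w hw h h' => hk1 w ?_ h, hk2⟩
    rcases Finset.mem_insert.1 hw with rfl | hw
    · simp [h2] at h'
    · exact Finset.mem_of_mem_erase hw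

theorem card_eq {B : Finset Ω} (hB : Bs G B) (hBI : Ind G B) (A : Finset Ω) (hA : Bs G A) (hI : Ind G A) :
    A.card = B.card := by
  induction hn : (A \ B).card using Nat.strong_induction_on generalizing A with
  | _ n ih =>
    by_cases h : A ⊆ B
    · congr 1
      refine Finset.Subset.antisymm h fun b hb => ?_
      by_contra hbA
      obtain ⟨g, h1, h2⟩ := hBI b hb
      rw [hA g fun z hz => h1 z (h hz) (fun e => hbA (e ▸ hz)), one_smul] at h2
      exact h2 rfl
    · obtain ⟨x, hx, hxB⟩ := Finset.not_subset.1 h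
      obtain ⟨g, h1, h2⟩ := hI x hx
      have : ∃ y ∈ B, g • y ≠ y := by
        by_contra! h'
        rw [hB g h', one_smul] at h2
        exact h2 rfl
      obtain ⟨y, hy, hgy⟩ := this
      have hyA : y ∉ A := fun e => hgy (h1 y e fun e' => hxB (e' ▸ hy))
      obtain ⟨h3, h4⟩ := exch R hA hI hx hyA h1 hgy
      have hlt : (insert y (A.erase x) \ B).card < n := by
        rw [← hn]
        apply Finset.card_lt_card
        refine ⟨fun z hz => ?_, fun h' => ?_⟩
        · simp only [Finset.mem_sdiff, Finset.mem_insert, Finset.mem_erase] at hz ⊢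
          rcases hz with ⟨rfl | hz, hz'⟩
          · exact (hz' hy).elim
          · exact ⟨hz.2, hz'⟩
        · have := h' (Finset.mem_sdiff.2 ⟨hx, hxB⟩)
          simp only [Finset.mem_sdiff, Finset.mem_insert, Finset.mem_erase] at this
          rcases this with ⟨rfl | hz, hz'⟩
          · exact hz' hy
          · exact hz.1 rfl
      rw [← ih _ hlt _ h3 h4 rfl, Finset.card_insert_of_notMem (by simp [hyA]),
        Finset.card_erase_add_one hx]
end

/-- Let a finite group G act on a finite set Ω. An irredundant base is a sequence of points ω₁, …, ω_t whose pointwise stabiliser is trivial and in which each ω_i is moved by some element fixing ω₁, …, ω_{i−1}. Then all irredundant bases have the same length if and only if every reordering of an irredundant base is again an irredundant base. -/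
theorem result {G Ω : Type*} [Group G] [Finite G] [MulAction G Ω] [Fintype Ω] :
    (∀ (t t' : ℕ) (f : Fin t → Ω) (f' : Fin t' → Ω), ((∀ g : G, (∀ i : Fin t, g • f i = f i) → g = 1) ∧ ∀ i : Fin t, ∃ g : G, (∀ j : Fin t, j < i → g • f j = f j) ∧ g • f i ≠ f i) → ((∀ g : G, (∀ i : Fin t', g • f' i = f' i) → g = 1) ∧ ∀ i : Fin t', ∃ g : G, (∀ j : Fin t', j < i → g • f' j = f' j) ∧ g • f' i ≠ f' i) → t = t') ↔
    (∀ (t : ℕ) (f : Fin t → Ω) (σ : Equiv.Perm (Fin t)), ((∀ g : G, (∀ i : Fin t, g • f i = f i) → g = 1) ∧ ∀ i : Fin t, ∃ g : G, (∀ j : Fin t, j < i → g • f j = f j) ∧ g • f i ≠ f i) → ((∀ g : G, (∀ i : Fin t, g • (f ∘ σ) i = (f ∘ σ) i) → g = 1) ∧ ∀ i : Fin t, ∃ g : G, (∀ j : Fin t, j < i → g • (f ∘ σ) j = (f ∘ σ) j) ∧ g • (f ∘ σ) i ≠ (f ∘ σ) i)) := by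
  classical
  constructor
  · intro h t f σ hf
    refine ⟨fun g hg => hf.1 g fun i => by simpa using hg (σ.symm i), fun i => ?_⟩
    by_contra! hi
    obtain ⟨T, h1, h2, h3⟩ := exists_min (G := G) ((Finset.univ.erase i).image (f ∘ σ)) (fun g hg =>
      hf.1 g fun j => by
        have h' : ∀ j, j ≠ i → g • (f ∘ σ) j = (f ∘ σ) j := fun j hj =>
          hg _ (Finset.mem_image_of_mem _ (by simp [hj]))
        by_cases e : σ.symm j = i
        · have := hi g fun k hk => h' k hk.ne
          simpa [← e] using this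
        · simpa using h' _ e)
    obtain ⟨f', h4, -⟩ := exists_irr T h2 (fun _ => 0) fun x hx => by
      obtain ⟨g, h5, h6⟩ := h3 x hx
      exact ⟨g, fun y hy h _ => h5 y hy h, h6⟩
    have h5 := h _ _ f f' hf h4
    have h6 := Finset.card_image_le (s := Finset.univ.erase i) (f := f ∘ σ)
    rw [Finset.card_erase_of_mem (Finset.mem_univ _), Finset.card_univ, Fintype.card_fin] at h6
    have := i.pos
    omega
  · intro R t t' f f' hf hf'
    have key : ∀ {t : ℕ} {f : Fin t → Ω}, Irr G f → Bs G (Finset.univ.image f) ∧ Ind G (Finset.univ.image f) ∧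
        (Finset.univ.image f).card = t := fun {t f} hf =>
      ⟨fun g hg => hf.1 g fun i => hg _ (by simp), Irr.ind R hf (by simp),
        by rw [Finset.card_image_of_injective _ hf.inj]; simp⟩
    obtain ⟨a1, a2, a3⟩ := key hf
    obtain ⟨b1, b2, b3⟩ := key hf'
    rw [← a3, ← b3]
    exact card_eq R b1 b2 _ a1 a2

end Cfsg.Agent.S5747
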