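import Cfsg.Statements.S5748
import Cfsg.Agent.Lib.Exc.AC2
import Cfsg.Agent.Lib.FT.Cor

set_option autoImplicit false
open Cfsg

namespace Cfsg.Agent.S5748

/-- A finite non-abelian simple group in which commuting is a transitive relation on the non-identity elements (equivalently, every non-identity element has abelian centraliser) is isomorphic to PSL₂ over a field with 2^f elements for some f ≥ 2; conversely these groups have that property. -/
theorem result {G : Type*} [Group G] [Finite G] [IsSimpleGroup G] (hG : ¬ IsMulCommutative G) :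
    (∀ a b c : G, a ≠ 1 → b ≠ 1 → c ≠ 1 → Commute a b → Commute b c → Commute a c) ↔
    ∃ (F : Type) (_ : Field F) (_ : Fintype F) (f : ℕ), 2 ≤ f ∧ Fintype.card F = 2 ^ f ∧ Nonempty (G ≃* Matrix.ProjectiveSpecialLinearGroup (Fin 2) F) := by
  constructor
  · intro h
    refine Cfsg.Lib.Exc.AC.simple (fun t ht x y hx hy => ?_) hG
      (Cfsg.Lib.FT.even_card_of_simple G fun e => hG ⟨⟨e⟩⟩)
    by_cases h1 : x = 1
    · exact h1 ▸ Commute.one_left y
    by_cases h2 : y = 1
    · exact h2 ▸ Commute.one_right x
    exact h x t y h1 (Cfsg.Lib.Invol.ne_one_of_two ht) h2 hx hy.symm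
  · rintro ⟨F, _, _, f, h1, h2, ⟨e⟩⟩ a b c - hb - h3 h4
    have h5 := Cfsg.Lib.Exc.psl_even_ct (F := F) (by
      rw [Nat.card_eq_fintype_card, h2]; exact (Nat.even_pow.2 ⟨even_two, by omega⟩))
      (by simpa using hb) (h3.map e) (h4.map e)
    exact e.injective (by simpa using h5.eq)

end Cfsg.Agent.S5748
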