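import Cfsg.Statements.S5751
import Cfsg.Agent.Lib.Chev.ItCore
import Cfsg.Agent.Lib.Chev.MatTop
import Cfsg.Agent.Lib.Twist.RootE8
import Cfsg.Agent.Lib.Chev.TabE8

set_option autoImplicit false
open Cfsg

namespace Cfsg.Agent.S5751

open Cfsg.Lie Cfsg.Lib.Chev Cfsg.Lib.Twist

theorem dec : (∀ r < chevE8.nroots, lk tabE8.L r = 1 ∧ Cfsg.Lib.Twist.rtN chevE8 tabE8 r 3 ≤ 6) ∧ Cfsg.Lib.Twist.rtN chevE8 tabE8 239 3 = 6 := by
  decide +kernel

/-- An extremal example for iterated cores of conjugate maximal subgroups: there exist a finite group G and two distinct conjugate maximal subgroups M₁, M₂ of G, with M₁ having trivial core in G, such that, if we define two descending sequences of subgroups by A₀ = M₁, B₀ = M₂ and, for every i, A_{i+1} = the core in M₁ of A_i ∩ B_i and B_{i+1} = the core in M₂ of A_i ∩ B_i (the core in M of a subgroup Y ≤ M is the largest normal subgroup of M contained in Y), the subgroup A₆ is trivial while A₅ is not (so the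 index 6 cannot be lowered to 5). (One example is a maximal parabolic subgroup of the Chevalley group of type E₈ over a finite field and a suitable conjugate of it.) -/
theorem result :
    ∃ (G : Type) (_ : Group G) (_ : Finite G) (M₁ M₂ : Subgroup G) (g : G) (A B : ℕ → Subgroup G),
      IsCoatom M₁ ∧ M₂ = M₁.map (MulAut.conj g).toMonoidHom ∧ M₁ ≠ M₂ ∧ M₁.normalCore = ⊥ ∧ A 0 = M₁ ∧ B 0 = M₂ ∧
      (∀ i, A (i + 1) = ((A i ⊓ B i).subgroupOf M₁).normalCore.map M₁.subtype) ∧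
      (∀ i, B (i + 1) = ((A i ⊓ B i).subgroupOf M₂).normalCore.map M₂.subtype) ∧ A 6 = ⊥ ∧ A 5 ≠ ⊥ := by
  have hc := compat_E8
  have hm := matOK_E8
  have hS := hc.gst hm (F := ZMod 2)
  have hF := hc.gsep hm (F := ZMod 2)
  have hO := hc.gopp hm (F := ZMod 2)
  have hgen := hc.ggen hm (F := ZMod 2)
  have hR := hc.conn (by simp)
  set S := hc.gsys hm (ZMod 2)
  have hH : S.H = ⊥ := le_bot_iff.1 (S.H_le_iff.2 fun r t ht => by
    rw [show t = 1 by revert t; decide, S.h_one]; exact one_mem _)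
  have hsl : ∀ r s, s ≠ r → RE8.pair r s ≤ 1 := fun r s h => by
    by_cases e : s = RE8.neg r
    · rw [e, RE8.pair_neg_right, RE8.pair_self]; omega
    have h1 := RE8.pair_mul_lt h e
    have h2 := RE8.len_pair_symm r s
    have h3 : ∀ r, RE8.len r = 1 := fun r => (dec.1 r r.2).1
    rw [h3, h3, Nat.cast_one, one_mul, one_mul] at h2
    rw [← h2] at h1
    nlinarith
  let i₀ : Fin chevE8.rank := ⟨3, by decide⟩
  have hn := ItCore.n_sq hH (RE8.simple i₀)
  have h6 : ItCore.seq (S.P {i | i ≠ i₀}) (S.n (RE8.simple i₀) 1) 6 = ⊥ := by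
    refine le_bot_iff.1 ((ItCore.upper hS hF hO hR hH hsl i₀ 5).trans (S.U_le_iff.2 fun r hr => ?_))
    have h1 : RE8.rt r i₀ ≤ 6 := (dec.1 r r.2).2
    simp only [Set.mem_setOf_eq] at hr
    omega
  refine ⟨chevE8.group (ZMod 2), inferInstance, inferInstance, S.P {i | i ≠ i₀}, _, S.n (RE8.simple i₀) 1,
    ItCore.seq (S.P {i | i ≠ i₀}) (S.n (RE8.simple i₀) 1),
    fun i => (ItCore.seq (S.P {i | i ≠ i₀}) (S.n (RE8.simple i₀) 1) i).map (MulAut.conj (S.n (RE8.simple i₀) 1)).toMonoidHom,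
    ItCore.isCoatom_P hS hF hgen i₀, rfl, ItCore.ne_map hS hF hgen hH i₀, le_bot_iff.1 (h6 ▸ ItCore.core_le_seq hn 6),
    rfl, rfl, fun i => rfl, fun i => ItCore.seq_map hn i, h6, fun h => ?_⟩
  have h0 : RE8.rt ⟨239, by decide⟩ i₀ = 6 := (rootOK_E8.R_rt _ _).trans dec.2
  have h1 := ItCore.lower hS hH hsl i₀ 5 (S.x_mem_U (r := ⟨239, by decide⟩) (by rw [Set.mem_setOf_eq, h0]; norm_num) 1)
  rw [h, Subgroup.mem_bot] at h1
  exact one_ne_zero (hF.x_eq_one h1)

end Cfsg.Agent.S5751
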