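import Cfsg.Statements.S5752
import Cfsg.Agent.Lib.Layer.TW

set_option autoImplicit false
open Cfsg

namespace Cfsg.Agent.S5752

open Subgroup Cfsg.Lib.Core Cfsg.Lib.Amalg Cfsg.Lib.BG1 Cfsg.Lib.Layer

/-- A form of the Thompson–Wielandt Theorem on primitive permutation groups. Let G be a finite group and M₁, M₂ two distinct conjugate maximal subgroups of G with trivial core in G; define two descending sequences of subgroups by A₀ = M₁, B₀ = M₂ and, for every i, A_{i+1} = the core in M₁ of A_i ∩ B_i and B_{i+1} = the core in M₂ of A_i ∩ B_i (the core in M of a subgroup Y ≤ M is the largest normal subgroup of M contained in Y). If A₂ and B₂ are both non-trivial, then for some prime p the subgroup generated by A₂ and B₂ is a p-group, and for each j the generalized Fitting subgroups of M_j and of its first core (A₁, resp. B₁) are their largest normal p-subgroups. -/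
theorem result {G : Type*} [Group G] [Finite G] (M₁ M₂ : Subgroup G) (hmax : IsCoatom M₁) (g : G)
    (hconj : M₂ = M₁.map (MulAut.conj g).toMonoidHom) (hne : M₁ ≠ M₂) (hcore : M₁.normalCore = ⊥)
    (A B : ℕ → Subgroup G) (hA0 : A 0 = M₁) (hB0 : B 0 = M₂)
    (hA : ∀ i, A (i + 1) = ((A i ⊓ B i).subgroupOf M₁).normalCore.map M₁.subtype)
    (hB : ∀ i, B (i + 1) = ((A i ⊓ B i).subgroupOf M₂).normalCore.map M₂.subtype) (hA2 : A 2 ≠ ⊥) (hB2 : B 2 ≠ ⊥) :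
    ∃ p : ℕ, p.Prime ∧ IsPGroup p ↥(A 2 ⊔ B 2) ∧
      Cfsg.generalizedFittingSubgroup ↥M₁ = Cfsg.pCore p ↥M₁ ∧ Cfsg.generalizedFittingSubgroup ↥(A 1) = Cfsg.pCore p ↥(A 1) ∧
      Cfsg.generalizedFittingSubgroup ↥M₂ = Cfsg.pCore p ↥M₂ ∧ Cfsg.generalizedFittingSubgroup ↥(B 1) = Cfsg.pCore p ↥(B 1) := by
  have hM := prim_of_coatom hmax hcore
  have a1 : A 1 = coreIn M₁ (M₁ ⊓ M₂) := by rw [hA 0, hA0, hB0]; rfl
  have b1 : B 1 = coreIn M₂ (M₁ ⊓ M₂) := by rw [hB 0, hA0, hB0]; rfl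
  have a2 : A 2 = coreIn M₁ (A 1 ⊓ B 1) := hA 1
  have b2 : B 2 = coreIn M₂ (A 1 ⊓ B 1) := hB 1
  have h1 : A 2 ≤ B 1 := a2 ▸ (coreIn_le _ _).trans inf_le_right
  have h2 : B 1 ≤ M₁ := b1 ▸ (coreIn_le _ _).trans inf_le_left
  obtain ⟨p, hp, c1, c2, c3, c4⟩ := thompson_wielandt (X := A 2) (B := B 1) (Y := B 2) (A := A 1) hM (hconj ▸ hM.conj g) hne
    hconj hA2 (a2 ▸ le_norm_coreIn _ _) h1 h2 (b1 ▸ coreIn_le' _ _) (b1 ▸ le_norm_coreIn _ _) hB2 (b2 ▸ le_norm_coreIn _ _)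
    (b2 ▸ (coreIn_le _ _).trans inf_le_left) (a1 ▸ (coreIn_le _ _).trans inf_le_right) (a1 ▸ coreIn_le' _ _)
    (a1 ▸ le_norm_coreIn _ _)
  haveI := Fact.mk hp
  have key : ∀ M X : Subgroup G, IsPGroup p 𝐅⋆(M) → generalizedFittingSubgroup M = pCore p M ∧
      generalizedFittingSubgroup (coreIn M X) = pCore p (coreIn M X) := fun M X h => by
    have h := fstar_eq_pCore_iff_isPGroup.2 (Lib.Amalg.isPGroup_map_subtype_iff.1 h)
    exact ⟨h, fstar_eq_pCore_iff.2 (Lib.Amalg.charP_iff.1 ((Lib.Amalg.charP_iff.2 (fstar_eq_pCore_iff.1 h)).of_normal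
      (coreIn_le' _ _) (le_norm_coreIn _ _)))⟩
  refine ⟨p, hp, isPGroup_sup_of_le_normalizer c1 c2 ?_, (key _ ⊥ c3).1, a1 ▸ (key _ _ c3).2, (key _ ⊥ c4).1,
    b1 ▸ (key _ _ c4).2⟩
  exact h1.trans ((b1 ▸ coreIn_le' _ _ : B 1 ≤ M₂).trans (b2 ▸ le_norm_coreIn _ _))

end Cfsg.Agent.S5752
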