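import Cfsg.Statements.S5753
import Cfsg.Agent.Lib.BinAff.E
import Cfsg.Agent.Lib.BN.Bin

set_option autoImplicit false
open Cfsg

namespace Cfsg.Agent.S5753

open Cfsg.Lib.BinAff MulAction
open scoped IsMulCommutative

/-- Conjugation action on an abelian normal subgroup, written additively. -/
abbrev act {G : Type*} [Group G] (N : Subgroup G) [N.Normal] [IsMulCommutative N] (S : Subgroup G) :
    DistribMulAction S (Additive N) where
  smul g v := Additive.ofMul (MulAut.conjNormal (g : G) v.toMul)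
  one_smul v := by change Additive.ofMul (MulAut.conjNormal ((1 : S) : G) v.toMul) = v; simp
  mul_smul g k v := by
    change Additive.ofMul (MulAut.conjNormal ((g * k : S) : G) v.toMul) =
      Additive.ofMul (MulAut.conjNormal (g : G) (MulAut.conjNormal (k : G) v.toMul))
    simp
  smul_zero g := by change Additive.ofMul (MulAut.conjNormal (g : G) 1) = 0; simp
  smul_add g v w := by
    change Additive.ofMul (MulAut.conjNormal (g : G) (v.toMul * w.toMul)) =
      Additive.ofMul (MulAut.conjNormal (g : G) v.toMul) + Additive.ofMul (MulAut.conjNormal (g : G) w.toMul)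
    simp

/-- The binary primitive permutation groups of affine type (the known proof uses the classification of the finite simple groups). Let a finite group G act faithfully and primitively on a finite set Ω, with a non-trivial abelian normal subgroup, and suppose the action is binary: for every n ≥ 2 and all n-tuples I, J of points, if for every pair of positions some element of G carries the corresponding pair of entries of I to those of J, then a single element carries I to J. Then either Ω has a prime number of points and every point stabilizer has order at most 2, or Ω can be identified with a field E that is a quadratic extension of a subfield F in such a way that the permutations induced by G are exactly the maps x ↦ a·φ(x) + b with a ∈ E of norm 1 over F, φ an automorphism of E over F and b ∈ E (the affine group of the anisotropic plane orthogonal group). -/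
theorem result {G Ω : Type*} [Group G] [Finite G] [MulAction G Ω] [FaithfulSMul G Ω] [Fintype Ω]
    (hprim : MulAction.IsPreprimitive G Ω)
    (haff : ∃ N : Subgroup G, N.Normal ∧ N ≠ ⊥ ∧ IsMulCommutative ↥N)
    (hbin : ∀ (n : ℕ) (I J : Fin n → Ω), 2 ≤ n →
      (∀ i j : Fin n, i ≠ j → ∃ g : G, g • I i = J i ∧ g • I j = J j) → ∃ g : G, ∀ i, g • I i = J i) :
    ((Fintype.card Ω).Prime ∧ ∀ ω : Ω, Nat.card ↥(MulAction.stabilizer G ω) ≤ 2) ∨
    (∃ (F E : Type) (_ : Field F) (_ : Fintype F) (_ : Field E) (_ : Fintype E) (_ : Algebra F E) (e : Ω ≃ E),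
        Module.finrank F E = 2 ∧
        ∀ σ : Equiv.Perm Ω, σ ∈ (MulAction.toPermHom G Ω).range ↔
          ∃ (a b : E) (φ : E ≃ₐ[F] E), Algebra.norm F a = 1 ∧ ∀ ω : Ω, e (σ ω) = a * φ (e ω) + b) := by
  classical
  obtain ⟨N, hN, hN0, hNc⟩ := haff
  have tr : ∀ K : Subgroup G, K.Normal → K = ⊥ ∨ IsPretransitive K Ω := fun K hK => or_iff_not_imp_left.2 fun h =>
    hprim.isQuasiPreprimitive.isPretransitive_of_normal fun e => h (eq_bot_iff.2 fun k hk =>
      eq_of_smul_eq_smul (α := Ω) fun ω => by rw [one_smul]; exact e.ge (Set.mem_univ ω) ⟨k, hk⟩)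
  have hT := (tr N hN).resolve_left hN0
  obtain ⟨n₀, hn₀⟩ := (Subgroup.nontrivial_iff_ne_bot N).2 hN0 |>.exists_pair_ne
  obtain ⟨ω₀⟩ : Nonempty Ω := by
    by_contra h
    obtain ⟨m, hm⟩ := hn₀
    exact hm (Subtype.ext (eq_of_smul_eq_smul (α := Ω) fun ω => (h ⟨ω⟩).elim))
  letI := act N (stabilizer G ω₀)
  let β : Additive N → Ω := fun v => (v.toMul : G) • ω₀
  have b0 : β 0 = ω₀ := one_smul G ω₀
  have b1 : ∀ v w, β (v + w) = (v.toMul : G) • β w := fun v w => mul_smul _ _ _
  have b2 : ∀ (g : stabilizer G ω₀) v, β (g • v) = (g : G) • β v := fun g v => by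
    change ((g : G) * v.toMul * (g : G)⁻¹) • ω₀ = _
    rw [mul_smul, mul_smul, show (g : G)⁻¹ • ω₀ = ω₀ from (g⁻¹).2]
  have b3 : Function.Surjective β := fun ω => by
    obtain ⟨m, hm⟩ := hT.exists_smul_eq ω₀ ω
    exact ⟨Additive.ofMul m, hm⟩
  have b4 : Function.Injective β := fun v w h => Additive.toMul.injective (Subtype.ext (eq_of_smul_eq_smul (α := Ω) fun ω => by
    obtain ⟨z, rfl⟩ := b3 ω
    rw [← b1, ← b1, add_comm, add_comm w, b1, b1, h]))
  have dec : ∀ g : G, ∃ (n : Additive N) (k : stabilizer G ω₀), g = n.toMul * k := fun g => by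
    obtain ⟨n, hn⟩ := b3 (g • ω₀)
    exact ⟨n, ⟨(n.toMul : G)⁻¹ * g, by rw [mem_stabilizer_iff, mul_smul, ← hn, inv_smul_smul]⟩, by simp⟩
  have : FaithfulSMul (stabilizer G ω₀) (Additive N) := ⟨fun {g k} h => Subtype.ext (eq_of_smul_eq_smul (α := Ω) fun ω => by
    obtain ⟨z, rfl⟩ := b3 ω
    rw [← b2, ← b2, h])⟩
  have : Nontrivial (Additive N) := ⟨Additive.ofMul n₀, by obtain ⟨m, hm⟩ := hn₀; exact ⟨Additive.ofMul m, hm⟩⟩
  have H : Ext (stabilizer G ω₀) (Additive N) := fun C x y h1 h2 => by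
    have h3 : ∀ c ∈ insert 0 C, ∃ g : G, g • β x = β y ∧ g • β c = β c := fun c hc => by
      obtain ⟨g, hg⟩ : ∃ g : stabilizer G ω₀, g • (x - c) = y - c := by
        rcases hc with rfl | hc
        · simpa using h1
        · exact h2 c hc
      refine ⟨c.toMul * g * (-c).toMul, ?_, ?_⟩
      · rw [mul_smul, mul_smul, ← b1, ← b2, ← b1, neg_add_eq_sub, hg, add_sub_cancel]
      · rw [mul_smul, mul_smul, ← b1, ← b2, ← b1, neg_add_cancel, smul_zero, add_zero]
    by_cases hx : x ∈ insert 0 C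
    · obtain ⟨g, e1, e2⟩ := h3 x hx
      exact ⟨1, by rw [one_smul]; exact b4 (e2.symm.trans e1), fun c _ => one_smul _ c⟩
    have h4 : ∀ c ∈ insert 0 C, β c ≠ β x := fun c hc h => hx (b4 h ▸ hc)
    obtain ⟨g, hg⟩ := Cfsg.Lib.BN.Bin.exists_smul hbin (β '' insert x (insert 0 C)) (fun ω => if ω = β x then β y else ω) (by
      rintro _ ⟨a, rfl | ha, rfl⟩ _ ⟨b, rfl | hb, rfl⟩
      · simpa using (h3 0 (.inl rfl)).imp fun _ h => h.1
      · simpa [h4 b hb] using h3 b hb
      · simpa [h4 a ha, and_comm] using h3 a ha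
      · exact ⟨1, by simp [h4 a ha, h4 b hb]⟩)
    have h5 : ∀ c ∈ insert 0 C, g • β c = β c := fun c hc => by simpa [h4 c hc] using hg _ ⟨c, .inr hc, rfl⟩
    refine ⟨⟨g, by simpa [b0] using h5 0 (.inl rfl)⟩, b4 ?_, fun c hc => b4 ?_⟩
    · rw [b2]; simpa using hg _ ⟨x, .inl rfl, rfl⟩
    · rw [b2]; exact h5 c (.inr hc)
  have hirr : ∀ M : AddSubgroup (Additive N), (∀ g : stabilizer G ω₀, ∀ v ∈ M, g • v ∈ M) → M = ⊥ ∨ M = ⊤ := fun M hM => by
    refine (tr ((AddSubgroup.toSubgroup' M).map N.subtype) ⟨?_⟩).imp (fun h => eq_bot_iff.2 fun v hv => ?_)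
      fun h => eq_top_iff.2 fun v _ => ?_
    · rintro _ ⟨m, hm, rfl⟩ g
      obtain ⟨n, k, rfl⟩ := dec g
      refine ⟨(k • Additive.ofMul m).toMul, hM k _ hm, ?_⟩
      have := congrArg Subtype.val (mul_comm n.toMul (k • Additive.ofMul m).toMul)
      change _ * ((k : G) * m * (k : G)⁻¹) = (k : G) * m * (k : G)⁻¹ * _ at this
      change (k : G) * m * (k : G)⁻¹ = _
      rw [← mul_inv_eq_iff_eq_mul] at this
      rw [← this]; simp [mul_assoc]
    · exact Additive.toMul.injective (Subtype.ext (h.le ⟨v.toMul, hv, rfl⟩))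
    · obtain ⟨⟨_, m, hm, rfl⟩, e⟩ := h.exists_smul_eq ω₀ (β v)
      exact b4 (a₁ := Additive.ofMul m) e ▸ hm
  let e := Equiv.ofBijective β ⟨b4, b3⟩
  refine (main H hirr).imp (fun h => ⟨by rw [← Nat.card_eq_fintype_card, ← Nat.card_congr e]; exact h.1, fun ω => ?_⟩) ?_
  · obtain ⟨g, rfl⟩ := hprim.exists_smul_eq ω₀ ω
    rw [← Nat.card_congr (stabilizerEquivStabilizer (rfl : g • ω₀ = g • ω₀)).toEquiv]
    exact h.2
  rintro ⟨F, E, i1, i2, i3, i4, i5, ε, h1, h2, h3⟩
  have he : ∀ v, e.symm (β v) = v := e.symm_apply_apply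
  refine ⟨F, E, i1, i2, i3, i4, i5, e.symm.trans ε.toEquiv, h1, fun σ => ⟨?_, ?_⟩⟩
  · rintro ⟨g, rfl⟩
    obtain ⟨n, k, rfl⟩ := dec g
    obtain ⟨a, φ, h4, h5⟩ := h2 k
    refine ⟨a, ε n, φ, h4, fun ω => ?_⟩
    obtain ⟨v, rfl⟩ := b3 ω
    change ε (e.symm (((n.toMul : G) * k) • β v)) = a * φ (ε (e.symm (β v))) + ε n
    rw [mul_smul, ← b2, ← b1, he, he, map_add, h5, add_comm]
  · rintro ⟨a, b, φ, h4, h5⟩
    obtain ⟨k, hk⟩ := h3 a φ h4
    obtain ⟨n, rfl⟩ := ε.surjective b
    refine ⟨n.toMul * k, Equiv.ext fun ω => (e.symm.trans ε.toEquiv).injective ?_⟩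
    obtain ⟨v, rfl⟩ := b3 ω
    rw [h5]
    change ε (e.symm (((n.toMul : G) * k) • β v)) = a * φ (ε (e.symm (β v))) + ε n
    rw [mul_smul, ← b2, ← b1, he, he, map_add, hk, add_comm]

end Cfsg.Agent.S5753
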