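import Cfsg.Statements.S5754


set_option autoImplicit false
open Cfsg

namespace Cfsg.Agent.S5754



/-- reflection in an anisotropic vector -/
theorem exists_refl {F V : Type*} [Field F] [AddCommGroup V] [Module F V] (Q : QuadraticForm F V)
    (w : V) (hw : Q w ≠ 0) : ∃ r : Q.IsometryEquiv Q, ∀ x, r x = x - (QuadraticMap.polar Q x w / Q w) • w := by
  let f : V →ₗ[F] V := LinearMap.id - LinearMap.smulRight ((Q w)⁻¹ • (Q.polarBilin.flip w)) w
  have hf : ∀ x, f x = x - (QuadraticMap.polar Q x w / Q w) • w := fun x => by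
    simp [f, div_eq_inv_mul]
  have hww : QuadraticMap.polar Q w w = 2 * Q w := by
    rw [QuadraticMap.polar_self, two_smul, two_mul]
  have hinv : Function.Involutive f := fun x => by
    rw [hf, hf, QuadraticMap.polar_sub_left, QuadraticMap.polar_smul_left, hww, smul_eq_mul]
    match_scalars
    · rfl
    · field_simp; ring
  refine ⟨{ LinearEquiv.ofInvolutive f hinv with map_app' := fun x => ?_ }, hf⟩
  change Q (f x) = Q x
  rw [hf, sub_eq_add_neg, ← neg_smul, QuadraticMap.map_add Q, QuadraticMap.map_smul,
    QuadraticMap.polar_smul_right]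
  simp only [smul_eq_mul]
  field_simp; ring

theorem exists_ext {F V : Type*} [Field F] [AddCommGroup V] [Module F V] (Q : QuadraticForm F V)
    (hQ : Q.Anisotropic) {ι : Type*} (v v' : ι → V) (h1 : ∀ i, Q (v i) = Q (v' i))
    (h2 : ∀ i j, QuadraticMap.polar Q (v i) (v j) = QuadraticMap.polar Q (v' i) (v' j)) (s : Finset ι) :
    ∃ φ : Q.IsometryEquiv Q, ∀ i ∈ s, φ (v i) = v' i := by
  classical
  induction s using Finset.induction_on with
  | empty => exact ⟨QuadraticMap.IsometryEquiv.refl Q, by simp⟩
  | insert k s hk ih =>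
    obtain ⟨φ, hφ⟩ := ih
    have hp : ∀ x y, QuadraticMap.polar Q (φ x) (φ y) = QuadraticMap.polar Q x y := fun x y => by
      simp only [QuadraticMap.polar]
      rw [← map_add φ, φ.map_app, φ.map_app, φ.map_app]
    by_cases h : φ (v k) = v' k
    · exact ⟨φ, by simpa [h] using hφ⟩
    · have hw : Q (φ (v k) - v' k) ≠ 0 := fun e => h (sub_eq_zero.1 (hQ _ e))
      obtain ⟨r, hr⟩ := exists_refl Q _ hw
      refine ⟨φ.trans r, fun i hi => ?_⟩
      change r (φ (v i)) = v' i
      rw [hr]
      rcases Finset.mem_insert.1 hi with rfl | hi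
      · have : QuadraticMap.polar Q (φ (v i)) (φ (v i) - v' i) = Q (φ (v i) - v' i) := by
          have e := φ.map_app (v i)
          rw [QuadraticMap.polar_sub_right, QuadraticMap.polar_self, sub_eq_add_neg (φ (v i)),
            QuadraticMap.map_add Q, QuadraticMap.map_neg, QuadraticMap.polar_neg_right, e, ← h1]
          simp only [two_smul]; ring
        rw [this, div_self hw]; simp
      · rw [QuadraticMap.polar_sub_right, hp, hφ i hi, h2]; simp

/-- Let V be a finite-dimensional vector space over a finite field F carrying an anisotropic quadratic form Q (Q(v) = 0 only for v = 0). Then the group of all maps v ↦ φ(v) + c, with φ an isometry of Q and c ∈ V, acts on V as a binary permutation group: given n ≥ 2 and two n-tuples u, u' of vectors such that every pair of corresponding entries of u is carried to that of u' by such a map, one such map carries u to u'. -/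
theorem result {F V : Type*} [Field F] [Finite F] [AddCommGroup V] [Module F V] [Module.Finite F V]
    (Q : QuadraticForm F V) (hQ : Q.Anisotropic) (n : ℕ) (hn : 2 ≤ n) (u u' : Fin n → V)
    (h2 : ∀ i j : Fin n, i ≠ j → ∃ (φ : Q.IsometryEquiv Q) (c : V), φ (u i) + c = u' i ∧ φ (u j) + c = u' j) :
    ∃ (φ : Q.IsometryEquiv Q) (c : V), ∀ i, φ (u i) + c = u' i := by
  let o : Fin n := ⟨0, by omega⟩
  have hd : ∀ i j, Q (u i - u j) = Q (u' i - u' j) := by
    intro i j
    by_cases h : i = j
    · subst h; simp
    · obtain ⟨φ, c, h1, h2⟩ := h2 i j h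
      rw [← h1, ← h2, add_sub_add_right_eq_sub, ← map_sub φ, φ.map_app]
  obtain ⟨φ, hφ⟩ := exists_ext Q hQ (fun i => u i - u o) (fun i => u' i - u' o) (fun i => hd i o)
    (fun i j => by
      have e : ∀ x y : V, QuadraticMap.polar Q x y = Q x + Q y - Q (x - y) := fun x y => by
        rw [sub_eq_add_neg x, QuadraticMap.map_add Q, QuadraticMap.map_neg, QuadraticMap.polar_neg_right]
        ring
      rw [e, e, hd, hd j, sub_sub_sub_cancel_right, sub_sub_sub_cancel_right, hd]) Finset.univ
  refine ⟨φ, u' o - φ (u o), fun i => ?_⟩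
  have := hφ i (Finset.mem_univ _)
  rw [map_sub] at this
  rw [← add_sub_assoc, add_sub_right_comm, this]; simp

end Cfsg.Agent.S5754
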