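import Cfsg.Statements.S5763


set_option autoImplicit false
open Cfsg

namespace Cfsg.Agent.S5763

open Equiv

def allInj (P : List ℕ → Bool) : ℕ → List ℕ → Bool
  | 0, l => P l
  | n + 1, l => [0, 1, 2, 3].all fun a => decide (2 ≤ l.count a) || allInj P n (a :: l)

theorem allInj_spec {P : List ℕ → Bool} : ∀ (m l : List ℕ), allInj P m.length l = true →
    (∀ a ∈ m, a < 4) → (∀ a, (m.reverse ++ l).count a ≤ 2) → P (m.reverse ++ l) = true
  | [], l, h, _, _ => h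
  | a :: m, l, h, h4, hn => by
    simp only [List.length_cons, allInj, List.all_eq_true, Bool.or_eq_true] at h
    rw [List.reverse_cons, List.append_assoc] at hn ⊢
    have ha := h4 a (by simp)
    rcases h a (by simp; omega) with h | h
    · have := hn a
      simp at this h
      omega
    · exact allInj_spec m (a :: l) h (fun b hb => h4 b (by simp [hb])) hn

def L : List (List (Fin 8)) := [[0, 1, 2, 3, 4, 5, 7, 6], [0, 1, 2, 3, 5, 4, 6, 7], [1, 0, 3, 2, 5, 4, 7, 6], [0, 1, 3, 2, 4, 5, 6, 7], [1, 0, 2, 3, 4, 5, 6, 7], [2, 3, 0, 1, 6, 7, 4, 5], [2, 3, 0, 1, 7, 6, 5, 4], [3, 2, 1, 0, 6, 7, 4, 5], [3, 2, 1, 0, 7, 6, 5, 4], [4, 5, 6, 7, 0, 1, 2, 3], [4, 5, 7, 6, 0, 1, 3, 2], [5, 4, 6, 7, 1, 0, 2, 3], [5, 4, 7, 6, 1, 0, 3, 2], [6, 7, 4, 5, 2, 3, 0, 1], [6, 7, 5, 4, 3, 2, 0, 1], [7, 6, 4, 5, 2, 3, 1, 0], [7, 6, 5, 4, 3, 2, 1, 0]]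

def chk (l : List ℕ) : Bool := L.any fun k => decide (∀ i : Fin 8, l.getD (k.getD i 0) 0 =
  l.getD i 0 ^^^ (l.getD (k.getD 0 0) 0 ^^^ l.getD 0 0))

theorem chk_ok : allInj chk 8 [] = true := by decide +kernel

theorem L_ok : ∀ k ∈ L, (∀ i : Fin 8, k.getD (k.getD i 0) 0 = i) ∧ (∃ i : Fin 8, k.getD i 0 ≠ i) ∧
    ∃ c : Fin 4, ∀ i : Fin 8, (k.getD i 0).1 / 2 = (i.1 / 2) ^^^ c.1 := by decide +kernel

def K : Subgroup (Perm (Fin 8)) where
  carrier := {g | ∃ c : ℕ, ∀ i, (g i).1 / 2 = (i.1 / 2) ^^^ c}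
  one_mem' := ⟨0, fun i => by simp⟩
  mul_mem' := by
    rintro a b ⟨c, hc⟩ ⟨d, hd⟩
    refine ⟨d ^^^ c, fun i => ?_⟩
    rw [Perm.mul_apply, hc, hd, Nat.xor_assoc]
  inv_mem' := by
    rintro a ⟨c, hc⟩
    refine ⟨c, fun i => ?_⟩
    have := hc (a⁻¹ i)
    rw [show a (a⁻¹ i) = i by simp] at this
    rw [this, Nat.xor_xor_cancel_right]

theorem isPGroup_K : IsPGroup 2 K := by
  rintro ⟨g, c, hc⟩
  refine ⟨2, Subtype.ext (Perm.ext fun i => ?_)⟩
  have h1 : ∀ i, (g (g i)).1 / 2 = i.1 / 2 := fun i => by rw [hc, hc, Nat.xor_xor_cancel_right]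
  change g (g (g (g i))) = i
  by_cases h : g (g i) = i
  · rw [h, h]
  · have h2 : g (g (g (g i))) ≠ g (g i) := fun e => h (g.injective (g.injective e))
    have h3 := h1 i
    have h4 := h1 (g (g i))
    rw [Ne, Fin.ext_iff] at h2
    rw [Fin.ext_iff] at h ⊢
    omega

theorem key (x : Perm (Fin 8)) : ∃ k ∈ K, k ≠ 1 ∧ x * k * x⁻¹ ∈ K := by
  have h1 := allInj_spec (P := chk) (List.ofFn fun i => (x i).1 / 2).reverse [] (by simpa using chk_ok)
    (fun a ha => by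
      simp only [List.mem_reverse, List.mem_ofFn] at ha
      obtain ⟨i, rfl⟩ := ha
      have := (x i).2
      omega)
    (fun a => by
      rw [List.append_nil, List.reverse_reverse]
      have : (List.ofFn fun i => (x i).1 / 2).Perm (List.ofFn fun i : Fin 8 => i.1 / 2) :=
        Equiv.Perm.ofFn_comp_perm x (fun i : Fin 8 => i.1 / 2)
      rw [this.count_eq]
      change List.count a [0, 0, 1, 1, 2, 2, 3, 3] ≤ 2
      simp only [List.count_cons, List.count_nil, beq_iff_eq]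
      split_ifs <;> omega)
  rw [List.append_nil, List.reverse_reverse, chk, List.any_eq_true] at h1
  obtain ⟨k, hk, h⟩ := h1
  obtain ⟨h2, ⟨i, h3⟩, c, h4⟩ := L_ok k hk
  have e : ∀ i : Fin 8, (List.ofFn fun i => (x i).1 / 2).getD i 0 = (x i).1 / 2 := fun i => by
    rw [List.getD_eq_getElem _ _ (by simp), List.getElem_ofFn]
  simp only [decide_eq_true_eq, e] at h
  refine ⟨Function.Involutive.toPerm (fun i => k.getD i 0) h2, ⟨c, h4⟩, fun e => h3 (congrArg (· i) e),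
    (x (k.getD 0 0)).1 / 2 ^^^ (List.ofFn fun i => (x i).1 / 2).getD 0 0, fun j => ?_⟩
  obtain ⟨j, rfl⟩ := x.surjective j
  rw [Perm.mul_apply, Perm.mul_apply, show x⁻¹ (x j) = j by simp]
  exact h j

/-- In the symmetric group on 8 letters any two Sylow 2-subgroups have non-trivial intersection: for a Sylow 2-subgroup H and every element x, H ∩ xHx⁻¹ ≠ 1. -/
theorem result (H : Sylow 2 (Equiv.Perm (Fin 8))) (x : Equiv.Perm (Fin 8)) :
    (H : Subgroup (Equiv.Perm (Fin 8))) ⊓ (H : Subgroup (Equiv.Perm (Fin 8))).map (MulAut.conj x).toMonoidHom ≠ ⊥ := by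
  obtain ⟨Q, hQ⟩ := isPGroup_K.exists_le_sylow
  obtain ⟨y, rfl⟩ := MulAction.exists_smul_eq (Perm (Fin 8)) Q H
  obtain ⟨k, hk, h1, h2⟩ := key (y⁻¹ * x * y)
  have hm : ∀ g ∈ K, y * g * y⁻¹ ∈ ((y • Q : Sylow 2 (Perm (Fin 8))) : Subgroup (Perm (Fin 8))) :=
    fun g hg => ⟨g, hQ hg, rfl⟩
  intro h
  have : x * (y * k * y⁻¹) * x⁻¹ ∈ (⊥ : Subgroup (Perm (Fin 8))) := by
    rw [← h]
    refine ⟨?_, _, hm k hk, rfl⟩
    rw [show x * (y * k * y⁻¹) * x⁻¹ = y * (y⁻¹ * x * y * k * (y⁻¹ * x * y)⁻¹) * y⁻¹ by group]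
    exact hm _ h2
  rw [Subgroup.mem_bot, conj_eq_one_iff, conj_eq_one_iff] at this
  exact h1 this

end Cfsg.Agent.S5763
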