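import Cfsg.Statements.S5769
import Cfsg.Agent.Lib.Exc.FrobW
import Cfsg.Agent.Lib.Linear.SpecU
import Cfsg.Agent.Lib.Conj.SpecO

set_option autoImplicit false
open Cfsg

namespace Cfsg.Agent.S5769

open Cfsg.Lib Cfsg.Lib.Linear

attribute [-simp] Nat.card_eq_fintype_card

theorem psl {F : Type*} [Field F] [Finite F] [CharP F 2] {n : ℕ} (hn : 1 ≤ n) (h1 : 65 ∣ geomS (Nat.card F) n)
    (h2 : 65 ∣ Nat.card F ^ n - 1) (h3 : Nat.Coprime 65 (Nat.card F - 1)) :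
    65 ∈ Set.range (orderOf : Matrix.ProjectiveSpecialLinearGroup (Fin n) F → ℕ) := by
  obtain ⟨a, ha⟩ := exists_units_orderOf (F := F) 2 (N := 65) (by decide)
  refine psl_exists_order 2 (L := [(a, n, 1)]) (by simp [SVal, hn, ← orderOf_dvd_iff_pow_eq_one, ha, h2]) (by simp [sDim])
    (by simp [sDet, ← orderOf_dvd_iff_pow_eq_one, ha, h1]) fun m hm => ?_
  exact h3.dvd_of_dvd_mul_right (ha ▸ orderOf_dvd_of_pow_eq_one (hm.1 (a, n, 1) (by simp)))

theorem psp {F : Type*} [Field F] [Finite F] [CharP F 2] {n : ℕ} (hn : 2 ≤ n) (h : Nat.card F = 8) :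
    65 ∈ Set.range (orderOf : PSp n F → ℕ) := by
  obtain ⟨a, ha⟩ := exists_units_orderOf (F := F) 2 (N := 65) (by decide)
  exact Conj.psp_exists_order 2 (L := [(a, 2, 1)]) (by omega)
    (by simp [Conj.OVal, Conj.OV, ← orderOf_dvd_iff_pow_eq_one, ha, h]) (by simp [Conj.oDim]; omega)
    fun m hm => hm.dvd (a := (a, 2, 1)) (by simp) ha.symm.dvd (by decide)

/-- The Chevalley group of type E₇ over the field with two elements (generated by its root elements in the adjoint representation) has no subgroup isomorphic to any of PSL₂(64), PSp₄(8), PSL₄(8), PSU₄(8) or PSp₆(8). Here F₈ and F₆₄ denote fields with 8 and 64 elements. -/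
theorem result {F₈ F₆₄ : Type*} [Field F₈] [Fintype F₈] (h8 : Fintype.card F₈ = 8) [Field F₆₄] [Fintype F₆₄] (h64 : Fintype.card F₆₄ = 64)
    (H : Subgroup ↥(Cfsg.Lie.chevE7.group (ZMod 2))) :
    IsEmpty (↥H ≃* Matrix.ProjectiveSpecialLinearGroup (Fin 2) F₆₄) ∧ IsEmpty (↥H ≃* Cfsg.PSp 2 F₈) ∧
    IsEmpty (↥H ≃* Matrix.ProjectiveSpecialLinearGroup (Fin 4) F₈) ∧ IsEmpty (↥H ≃* Cfsg.PSU 4 F₆₄ 8) ∧ IsEmpty (↥H ≃* Cfsg.PSp 3 F₈) := by
  have : CharP F₈ 2 := charP_of_card_eq_prime_pow (f := 3) h8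
  have : CharP F₆₄ 2 := charP_of_card_eq_prime_pow (f := 6) h64
  have key : ∀ {X : Type _} [Group X], 65 ∈ Set.range (orderOf : X → ℕ) → IsEmpty (H ≃* X) := fun ⟨x, hx⟩ => ⟨fun e =>
    FrobW.orderOf_E7_ne (Nat.card_zmod 2) (e.symm x).1 (by rw [Subgroup.orderOf_coe, MulEquiv.orderOf_eq, hx])⟩
  have key' : ∀ {X : Type _} [Group X], 65 ∈ Set.range (orderOf : X → ℕ) → IsEmpty (H ≃* X) := fun ⟨x, hx⟩ => ⟨fun e =>
    FrobW.orderOf_E7_ne (Nat.card_zmod 2) (e.symm x).1 (by rw [Subgroup.orderOf_coe, MulEquiv.orderOf_eq, hx])⟩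
  obtain ⟨σ, hσ⟩ := Forms.isConj_of_card (q := 8) h64
  rw [← Nat.card_eq_fintype_card] at h8 h64
  refine ⟨key (psl (by decide) ?_ ?_ ?_), key' (psp le_rfl h8), key' (psl (by decide) ?_ ?_ ?_), key ?_, key' (psp (by decide) h8)⟩
  iterate 3 rw [h64]; decide
  iterate 3 rw [h8]; decide
  obtain ⟨a, ha⟩ := exists_units_orderOf (F := F₆₄) 2 (N := 65) (by decide)
  refine psu_exists_order hσ 2 (by decide) (L := [(a, 4, 1)]) (by simp [UVal, ← orderOf_dvd_iff_zpow_eq_one, ha]) (by simp [sDim])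
    (by simpa [uDet, geomZ_succ] using orderOf_dvd_iff_zpow_eq_one.1 (show (orderOf a : ℤ) ∣ 455 by simp [ha])) fun m hm => ?_
  exact (by decide : Nat.Coprime 65 (8 + 1)).dvd_of_dvd_mul_right (ha ▸ orderOf_dvd_of_pow_eq_one (hm.1 (a, 4, 1) (by simp)))

end Cfsg.Agent.S5769
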