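import Cfsg.Statements.S5775
import Cfsg.Agent.Lib.Linear.NmC

set_option autoImplicit false
open Cfsg

namespace Cfsg.Agent.S5775

open Cfsg.Lib.Linear.Nm Cfsg.Lib.Asch Cfsg.Lib.Forms Cfsg.Geo

theorem chk_sl34 : fldChk T4 3 7 (fun a => T4.det 3 a == 1) (fun _ => true)
    [16, 32, 48, 4, 8, 12, 20, 40, 60, 1, 2, 3, 17, 34, 51, 5, 10, 15, 21, 42, 63]
    [[0, 0, 1], [1, 0, 1], [0, 1, 0]]
    [[1, 0, 0], [0, 1, 0], [0, 0, 1]]
    [[1, 1, 0], [0, 1, 0], [0, 0, 1]]
    [[1, 2, 0], [0, 1, 0], [0, 0, 1]]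
    [[[0, 0, 1], [1, 0, 1], [0, 1, 0]], [[0, 0, 1], [0, 1, 0], [1, 1, 1]], [[0, 0, 1], [1, 1, 1], [1, 0, 1]]]
    [0, 1, 0] :=
  ⟨by decide +kernel, by decide +kernel, by decide +kernel, by decide +kernel, by decide +kernel, by decide +kernel,
    by decide +kernel⟩

/-- Every maximal subgroup of SL_3(q) is of one of the listed geometric types or lies in the residual class. Let F be a finite field with q elements and H a maximal subgroup of SL_3(F) (viewed inside GL_3(F)). Then H is the intersection with SL_3(F) of one of: the stabiliser of a proper non-zero subspace; for q ≥ 5, the stabiliser of a decomposition of F^3 into three independent lines; for q ≠ 4, the normaliser of a degree-3 subfield of the matrix algebra; a subfield group for a subfield F₀ with |F| = |F₀|^r, r prime; for q = p ≡ 1 mod 3 prime, the normaliser of an absolutely irreducible 3-subgroup R of exponent 3 with centre of order 3, all of whose characteristic abelian subgroups are cyclic,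 of order 3^(1+2m) for some m ≥ 1, with F the smallest field of characteristic p containing the cube roots of unity (so R is extraspecial of order 27); for q odd, the similarity group of a non-degenerate quadratic form; the similarity group of a non-degenerate unitary form — or else H lies in the residual class of the linear case (modulo scalars H is almost simple, with absolutely irreducible perfect socle preimage realisable over no proper subfield and fixing no non-degenerate quadratic, symplectic or unitary form). -/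
theorem result {F : Type*} [Field F] [Fintype F] (H : Subgroup (Matrix.GeneralLinearGroup (Fin 3) F)) (hH : Cfsg.Geo.IsMaximalIn (Cfsg.Geo.specialLinear (Fin 3) F) H) :
    (∃ W : Submodule F (Fin 3 → F), W ≠ ⊥ ∧ W ≠ ⊤ ∧ H = Cfsg.Geo.subspaceStabilizer W ⊓ Cfsg.Geo.specialLinear (Fin 3) F) ∨
    (5 ≤ Fintype.card F ∧ ∃ D : Fin 3 → Submodule F (Fin 3 → F), Cfsg.Geo.IsMDecomposition 1 D ∧ H = Cfsg.Geo.decompositionStabilizer D ⊓ Cfsg.Geo.specialLinear (Fin 3) F) ∨
    (Fintype.card F ≠ 4 ∧ ∃ K : Subalgebra F (Matrix (Fin 3) (Fin 3) F), Cfsg.Geo.IsFieldSubalgebra 3 K ∧ H = Cfsg.Geo.subalgebraNormalizer K ⊓ Cfsg.Geo.specialLinear (Fin 3) F) ∨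
    (∃ (F₀ : Subfield F) (r : ℕ) (P : Matrix.GeneralLinearGroup (Fin 3) F), r.Prime ∧ Fintype.card F = Nat.card F₀ ^ r ∧ H = Cfsg.Geo.subfieldSubgroup F₀ P ⊓ Cfsg.Geo.specialLinear (Fin 3) F) ∨
    (∃ (p : ℕ) (R : Subgroup (Matrix.GeneralLinearGroup (Fin 3) F)), p.Prime ∧ Fintype.card F = p ∧ p % 3 = 1 ∧ Cfsg.Geo.IsLinearSymplecticTypeData 3 R ∧ H = Cfsg.Geo.subgroupNormalizer R ⊓ Cfsg.Geo.specialLinear (Fin 3) F) ∨
    (Odd (Fintype.card F) ∧ ∃ Q : (Fin 3 → F) → F, Cfsg.Geo.IsNondegenerateQuadraticForm Q ∧ H = Cfsg.Geo.quadSimilarityGroup Q ⊓ Cfsg.Geo.specialLinear (Fin 3) F) ∨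
    (∃ (σ : F ≃+* F) (f : (Fin 3 → F) → (Fin 3 → F) → F), Cfsg.Geo.IsUnitaryForm σ f ∧ H = Cfsg.Geo.similarityGroup f ⊓ Cfsg.Geo.specialLinear (Fin 3) F) ∨
    Cfsg.Geo.InLinearResidualClass H := by
  rcases slCase (by simp) hH with h | ⟨t, m, ht, htm, h1, h2, h3, h⟩ | ⟨r, hr, hd, h⟩ |
    ⟨a, b, h1, h2, hn, h3, h⟩ | h | ⟨r, m, hr, hm, R, hR, h⟩ | ⟨m, t, h1, h2, hn, h⟩ | ⟨he, h⟩ | h | h | h
  · exact .inl h
  · rw [Fintype.card_fin] at htm
    have : t ≤ 3 := Nat.le_of_dvd (by decide) ⟨m, htm.symm⟩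
    obtain ⟨rfl, rfl⟩ : t = 3 ∧ m = 1 := by interval_cases t <;> omega
    exact .inr <| .inl ⟨h1 rfl, h⟩
  · rw [Fintype.card_fin] at hd
    obtain rfl : r = 3 := (Nat.prime_dvd_prime_iff_eq hr Nat.prime_three).1 hd
    refine .inr <| .inr <| .inl ⟨fun h4 => ?_, h⟩
    obtain ⟨K, hK, h⟩ := h
    obtain ⟨σ, hq⟩ := isConj_of_card (q := 2) h4
    obtain ⟨E⟩ := enc4 hq
    haveI : Fact (Nat.Prime 7) := ⟨by norm_num⟩
    obtain ⟨t, -, h5, h6⟩ := exists_t (l := 7) hK (by rw [h4]; decide)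
    refine (E.cx_sl (cov_msk T4 3 _)).fld hH le_top ?_ (fun P _ g => ?_) (fun _ _ => rfl) (Subgroup.mem_top t) h5
      (fun g hg => h6 g (h.le hg).1) chk_sl34
    · rw [Subgroup.card_top, Matrix.card_GL_field, h4]; decide +kernel
    · rw [mem_sl, mem_sl, Units.val_mul, Units.val_mul, Matrix.det_units_conj']
  · rw [Fintype.card_fin] at hn
    have : a ≤ 3 := Nat.le_of_dvd (by decide) ⟨b, hn.symm⟩
    exfalso; interval_cases a <;> omega
  · exact .inr <| .inr <| .inr <| .inl h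
  · rw [Fintype.card_fin] at hm
    obtain rfl := eq_of_prime_pow hr (s := 3) (by decide) hm (by decide)
    obtain ⟨p, e, hp, hc, hq, he⟩ := IsLinearSymplecticTypeData.odd (by decide) hR
    have key : ∀ a < 3, ∀ e < 3, Odd e ∧ a ^ e % 3 = 1 ∧ (∀ d < e, 0 < d → a ^ d % 3 ≠ 1) →
        e = 1 ∧ a = 1 := by
      intro a ha e he; interval_cases a <;> interval_cases e <;> decide
    have := key _ (Nat.mod_lt p (by decide)) e he.2.1 ⟨he.1, he.2.2⟩
    exact .inr <| .inr <| .inr <| .inr <| .inl ⟨p, R, hp, by simpa [this.1] using hq, this.2, hR, h⟩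
  · rw [Fintype.card_fin] at hn
    have := (Nat.pow_le_pow_left h1 t).trans' (Nat.pow_le_pow_right (by decide) h2)
    omega
  · exact absurd he (by decide)
  · exact .inr <| .inr <| .inr <| .inr <| .inr <| .inl h
  · exact .inr <| .inr <| .inr <| .inr <| .inr <| .inr <| .inl h
  · exact .inr <| .inr <| .inr <| .inr <| .inr <| .inr <| .inr h

end Cfsg.Agent.S5775
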