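import Cfsg.Statements.S5778
import Cfsg.Agent.Lib.Linear.NmE
import Cfsg.Agent.Lib.Linear.NmF

set_option autoImplicit false
open Cfsg

namespace Cfsg.Agent.S5778

open Cfsg.Lib.Linear.Nm Cfsg.Lib.Asch Cfsg.Lib.Forms Cfsg.Geo

/-- Every maximal subgroup of SU_3(q), q ≥ 3, is of one of the listed geometric types or lies in the residual class. Let F be the field with q² elements, f the standard unitary form Σ u_i v_i^q on F^3, and H a maximal subgroup of SU_3(q) (the determinant-one isometries of f, inside GL_3(F)). Then H is the intersection with SU_3(q) of one of: the stabiliser of a non-zero subspace on which f vanishes; the stabiliser of a non-degenerate 1-space; for q ≠ 5, the stabiliser of a decomposition into three mutually orthogonal non-degenerate 1-spaces; for q ≠ 3, 5, the normaliser of an adjoint-closed degree-3 subfield of the matrix algebra; a subfield group of odd prime index whose F₀-structure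 carries f; for q odd, q ≥ 7, a subfield group of index 2 whose F₀-structure carries f; for q = p ≡ 2 mod 3 prime with p ≥ 11, the normaliser of an absolutely irreducible subgroup of order 27 with centre of order 3, exponent 3 and all characteristic abelian subgroups cyclic, contained in the similarity group of f — or else H lies in the residual class of the unitary case. -/
theorem result {F : Type*} [Field F] [Fintype F] (q : ℕ) (hF : Fintype.card F = q ^ 2) (hq : 3 ≤ q) (H : Subgroup (Matrix.GeneralLinearGroup (Fin 3) F)) (hH : Cfsg.Geo.IsMaximalIn (Cfsg.GU 3 F q ⊓ Cfsg.Geo.specialLinear (Fin 3) F) H) :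
    (∃ W : Submodule F (Fin 3 → F), W ≠ ⊥ ∧ Cfsg.Geo.IsTotallySingularFor (Cfsg.hermForm 3 F q) W ∧ H = Cfsg.Geo.subspaceStabilizer W ⊓ (Cfsg.GU 3 F q ⊓ Cfsg.Geo.specialLinear (Fin 3) F)) ∨
    (∃ W : Submodule F (Fin 3 → F), W ≠ ⊥ ∧ Cfsg.Geo.IsNondegenerateOn (Cfsg.hermForm 3 F q) W ∧ 2 * Module.finrank F W < 3 ∧ H = Cfsg.Geo.subspaceStabilizer W ⊓ (Cfsg.GU 3 F q ⊓ Cfsg.Geo.specialLinear (Fin 3) F)) ∨
    (q ≠ 5 ∧ ∃ D : Fin 3 → Submodule F (Fin 3 → F), Cfsg.Geo.IsNondegenerateMDecomposition (Cfsg.hermForm 3 F q) 1 D ∧ H = Cfsg.Geo.decompositionStabilizer D ⊓ (Cfsg.GU 3 F q ⊓ Cfsg.Geo.specialLinear (Fin 3) F)) ∨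
    (q ≠ 3 ∧ q ≠ 5 ∧ ∃ K : Subalgebra F (Matrix (Fin 3) (Fin 3) F), Cfsg.Geo.IsFieldSubalgebra 3 K ∧ Cfsg.Geo.IsAdjointClosedFor (Cfsg.hermForm 3 F q) K ∧ H = Cfsg.Geo.subalgebraNormalizer K ⊓ (Cfsg.GU 3 F q ⊓ Cfsg.Geo.specialLinear (Fin 3) F)) ∨
    (∃ (F₀ : Subfield F) (r : ℕ) (P : Matrix.GeneralLinearGroup (Fin 3) F), r.Prime ∧ Odd r ∧ Fintype.card F = Nat.card F₀ ^ r ∧ Cfsg.Geo.IsFormRationalStructure (Cfsg.hermForm 3 F q) F₀ 1 P ∧ H = Cfsg.Geo.subfieldSubgroup F₀ P ⊓ (Cfsg.GU 3 F q ⊓ Cfsg.Geo.specialLinear (Fin 3) F)) ∨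
    (Odd q ∧ 7 ≤ q ∧ ∃ (F₀ : Subfield F) (P : Matrix.GeneralLinearGroup (Fin 3) F), Fintype.card F = Nat.card F₀ ^ 2 ∧ Cfsg.Geo.IsFormRationalStructure (Cfsg.hermForm 3 F q) F₀ 1 P ∧ H = Cfsg.Geo.subfieldSubgroup F₀ P ⊓ (Cfsg.GU 3 F q ⊓ Cfsg.Geo.specialLinear (Fin 3) F)) ∨
    (∃ (p : ℕ) (R : Subgroup (Matrix.GeneralLinearGroup (Fin 3) F)), p.Prime ∧ q = p ∧ p % 3 = 2 ∧ 11 ≤ p ∧ Cfsg.Geo.IsSymplecticTypeGroup 3 R ∧ Cfsg.Geo.ActsAbsolutelyIrreducibly (Cfsg.Geo.matrixSet R) ∧ R ≤ Cfsg.Geo.similarityGroup (Cfsg.hermForm 3 F q) ∧ Nat.card R = 27 ∧ Nat.card (Subgroup.center R) = 3 ∧ H = Cfsg.Geo.subgroupNormalizer R ⊓ (Cfsg.GU 3 F q ⊓ Cfsg.Geo.specialLinear (Fin 3) F)) ∨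
    Cfsg.Geo.InUnitaryResidualClass H := by
  obtain ⟨σ, hσ⟩ := isConj_of_card hF
  haveI : Fact (Nat.Prime 7) := ⟨by norm_num⟩
  rcases suCase hF (by decide) (by omega) hH.1.le with ⟨W, h0, h1, h⟩ | ⟨W, h0, h1, h2, h⟩ |
    ⟨t, k, ht, hn, h1, h2, D, hD, h⟩ | ⟨k, hn, h4, D, hD, h1, h⟩ | ⟨r, hr, ho, hn, K, hK, h1, h⟩ |
    ⟨n₁, n₂, hn, h1, h2, h3, e, P, f₁, f₂, h4, h5, hs, h⟩ | ⟨F₀, r, P, hr, ho, hc, h1, h⟩ |
    ⟨ho, F₀, P, hc, h1, h⟩ | ⟨he, F₀, P, ζ, hc, h0, h1, h2, h3, h⟩ |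
    ⟨r, k, p, e, hn, R, h1, h2, h3, h4, h5, h6, h⟩ | ⟨k, t, hn, hk, ht, h5, e, P, f₁, h1, hs, h⟩ | h
  · exact .inl ⟨W, h0, h1, h.eq hH⟩
  · exact .inr <| .inl ⟨W, h0, h1, by simpa using h2, h.eq hH⟩
  · rw [Fintype.card_fin] at hn
    have : t ≤ 3 := Nat.le_of_dvd (by decide) ⟨k, hn.symm⟩
    obtain ⟨rfl, rfl⟩ : (t = 3 ∧ k = 1) := by
      interval_cases t <;> omega
    refine .inr <| .inr <| .inl ⟨?_, D, hD, h.eq hH⟩
    rintro rfl
    obtain ⟨E⟩ := enc25 hσ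
    exact dec_su hσ E hH hD h.1 0 1 0 (by decide) chk_u35d
  · simp at hn; omega
  · rw [Fintype.card_fin] at hn
    obtain rfl : r = 3 := (Nat.prime_dvd_prime_iff_eq hr Nat.prime_three).1 hn
    refine .inr <| .inr <| .inr <| .inl ⟨?_, ?_, K, hK, h1, h.eq hH⟩ <;> rintro rfl
    · obtain ⟨E⟩ := enc9 hσ
      exact fld_su hσ E hH hK h1 h.1 (by decide) (by decide) (by decide +kernel) chk_u33f
    · obtain ⟨E⟩ := enc25 hσ
      exact fld_su hσ E hH hK h1 h.1 (by decide) (by decide) (by decide +kernel) chk_u35f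
  · rw [Fintype.card_fin] at hn
    have : n₁ ≤ 3 := Nat.le_of_dvd (by decide) ⟨n₂, hn.symm⟩
    exfalso; interval_cases n₁ <;> omega
  · exact .inr <| .inr <| .inr <| .inr <| .inl ⟨F₀, r, P, hr, ho, hc, h1, h.eq hH⟩
  · refine .inr <| .inr <| .inr <| .inr <| .inr <| .inl ⟨ho, by_contra fun h7 => ?_, F₀, P, hc, h1, h.eq hH⟩
    have h2 : (2 : F) ≠ 0 := two_ne_zero_of_odd (hF ▸ ho.pow)
    obtain rfl | rfl : q = 3 ∨ q = 5 := by have := Nat.odd_iff.1 ho; omega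
    · obtain ⟨E⟩ := enc9 hσ
      exact orth_su hσ E hH h2 hc h1 h.1 chk_W9 0 2 (by decide +kernel) chk_u33o
    · obtain ⟨E⟩ := enc25 hσ
      exact orth_su hσ E hH h2 hc h1 h.1 chk_W25 0 0 (by decide +kernel) chk_u35o
  · exact absurd he (by decide)
  · rw [Fintype.card_fin] at hn
    obtain rfl := eq_of_prime_pow h1.prime (s := 3) (by decide) hn (by decide)
    obtain rfl : 1 = k := Nat.pow_right_injective (by decide : 2 ≤ 3) hn
    obtain ⟨-, h7, -, h8⟩ := h6.resolve_right fun h => absurd h.1 (by decide)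
    obtain ⟨d, h9, h10, h11⟩ := minimal_unitary hF h1.prime h4 (h7 ▸ h5)
    have key : ∀ a < 3, ∀ d < 3, 2 * d < 3 → 0 < d → a ^ (2 * d) % 3 = 1 ∧ (∀ k < 2 * d, 0 < k → a ^ k % 3 ≠ 1) →
        (d = 1 ∧ (a = 2)) := by
      intro a ha d hd; interval_cases a <;> interval_cases d <;> decide
    have := key _ (Nat.mod_lt p (by decide)) d (by omega) h10 (Nat.pos_of_ne_zero (by rintro rfl; simp at h9; omega)) h11
    obtain rfl : q = p := by simpa [this.1] using h9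
    refine .inr <| .inr <| .inr <| .inr <| .inr <| .inr <| .inl ⟨q, R, h5.1, rfl, this.2, by_contra fun h12 => ?_, h1, h2,
      h3.trans isoG_le_sim, h8, h7, h.eq hH⟩
    obtain rfl : q = 5 := by
      have h13 : q ≠ 8 := fun h => absurd h5.1 (by rw [h]; norm_num)
      omega
    obtain ⟨E⟩ := enc25 hσ
    have := h5.2.1
    refine ext_u35 hσ E hH (le_inf h3 (le_sl_of_extra (fun h6 => ?_) h1 h2 h8 h7)) h8 h.1 ?_
    · exact absurd ((CharP.cast_eq_zero_iff F 5 6).1 (by exact_mod_cast h6)) (by decide)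
    · have := Agent.S0278.result hF 3 (by decide)
      rw [show Nat.card (SU 3 F 5) = 378000 by simp [Finset.prod_range_succ] at this; omega]
      decide +kernel
  · rw [Fintype.card_fin] at hn
    have := (Nat.pow_le_pow_left hk t).trans' (Nat.pow_le_pow_right (by decide) ht)
    omega
  · exact .inr <| .inr <| .inr <| .inr <| .inr <| .inr <| .inr <| h

end Cfsg.Agent.S5778
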