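import Cfsg.Statements.S5781
import Cfsg.Agent.Lib.Asch.SUT2

set_option autoImplicit false
open Cfsg

namespace Cfsg.Agent.S5781

open Cfsg.Lib.Asch

/-- Every maximal subgroup of SL_4(q) is of one of the listed geometric types or lies in the residual class. Let F be a finite field with q elements and H a maximal subgroup of SL_4(F) (inside GL_4(F)). Then H is the intersection with SL_4(F) of one of: the stabiliser of a proper non-zero subspace; for q ≥ 7, the stabiliser of a decomposition into four independent lines; for q ≥ 4, the stabiliser of a decomposition into two independent planes; the normaliser of a degree-2 subfield of the matrix algebra; a subfield group for a subfield F₀ with |F| = |F₀|^r, r prime; for q = p ≡ 1 mod 4 prime, the normaliser of an absolutely irreducible 2-subgroup R of exponent 4 with centre of order 4, all of whose characteristic abelian subgroups are cyclic, of order 2^(2+2m) for some m (here |R| = 64), with 4 dividing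 p − 1; for q odd, the similarity group of a non-degenerate quadratic form; the similarity group of a non-degenerate symplectic form; the similarity group of a non-degenerate unitary form — or else H lies in the residual class of the linear case. -/
theorem result {F : Type*} [Field F] [Fintype F] (H : Subgroup (Matrix.GeneralLinearGroup (Fin 4) F)) (hH : Cfsg.Geo.IsMaximalIn (Cfsg.Geo.specialLinear (Fin 4) F) H) :
    (∃ W : Submodule F (Fin 4 → F), W ≠ ⊥ ∧ W ≠ ⊤ ∧ H = Cfsg.Geo.subspaceStabilizer W ⊓ Cfsg.Geo.specialLinear (Fin 4) F) ∨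
    (7 ≤ Fintype.card F ∧ ∃ D : Fin 4 → Submodule F (Fin 4 → F), Cfsg.Geo.IsMDecomposition 1 D ∧ H = Cfsg.Geo.decompositionStabilizer D ⊓ Cfsg.Geo.specialLinear (Fin 4) F) ∨
    (4 ≤ Fintype.card F ∧ ∃ D : Fin 2 → Submodule F (Fin 4 → F), Cfsg.Geo.IsMDecomposition 2 D ∧ H = Cfsg.Geo.decompositionStabilizer D ⊓ Cfsg.Geo.specialLinear (Fin 4) F) ∨
    (∃ K : Subalgebra F (Matrix (Fin 4) (Fin 4) F), Cfsg.Geo.IsFieldSubalgebra 2 K ∧ H = Cfsg.Geo.subalgebraNormalizer K ⊓ Cfsg.Geo.specialLinear (Fin 4) F) ∨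
    (∃ (F₀ : Subfield F) (r : ℕ) (P : Matrix.GeneralLinearGroup (Fin 4) F), r.Prime ∧ Fintype.card F = Nat.card F₀ ^ r ∧ H = Cfsg.Geo.subfieldSubgroup F₀ P ⊓ Cfsg.Geo.specialLinear (Fin 4) F) ∨
    (∃ (p : ℕ) (R : Subgroup (Matrix.GeneralLinearGroup (Fin 4) F)), p.Prime ∧ Fintype.card F = p ∧ p % 4 = 1 ∧ Cfsg.Geo.IsLinearSymplecticTypeData 2 R ∧ H = Cfsg.Geo.subgroupNormalizer R ⊓ Cfsg.Geo.specialLinear (Fin 4) F) ∨
    (Odd (Fintype.card F) ∧ ∃ Q : (Fin 4 → F) → F, Cfsg.Geo.IsNondegenerateQuadraticForm Q ∧ H = Cfsg.Geo.quadSimilarityGroup Q ⊓ Cfsg.Geo.specialLinear (Fin 4) F) ∨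
    (∃ f : (Fin 4 → F) → (Fin 4 → F) → F, Cfsg.Geo.IsSymplecticForm f ∧ H = Cfsg.Geo.similarityGroup f ⊓ Cfsg.Geo.specialLinear (Fin 4) F) ∨
    (∃ (σ : F ≃+* F) (f : (Fin 4 → F) → (Fin 4 → F) → F), Cfsg.Geo.IsUnitaryForm σ f ∧ H = Cfsg.Geo.similarityGroup f ⊓ Cfsg.Geo.specialLinear (Fin 4) F) ∨
    Cfsg.Geo.InLinearResidualClass H := by
  have hn : 3 ≤ Fintype.card (Fin 4) := by simp
  have hC := cl_sl (F := F) hn
  rcases slCase hn hH with h | ⟨t, m, ht, htm, h1, h2, h3, h⟩ | ⟨r, hr, hd, h⟩ |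
    ⟨a, b, h1, h2, hn, h3, h⟩ | h | ⟨r, m, hr, hm, R, hR, h⟩ | ⟨m, t, h1, h2, hn, h⟩ | ⟨he, h⟩ | h | h | h
  · exact .inl h
  · rw [Fintype.card_fin] at htm
    have : t ≤ 4 := Nat.le_of_dvd (by decide) ⟨m, htm.symm⟩
    obtain ⟨rfl, rfl⟩ | ⟨rfl, rfl⟩ : (t = 4 ∧ m = 1) ∨ (t = 2 ∧ m = 2) := by
      interval_cases t <;> omega
    swap
    · exact .inr <| .inr <| .inl ⟨h3 rfl rfl, h⟩
    by_cases h5 : Fintype.card F = 5
    swap
    · obtain ⟨p, hp, n, hp', h6⟩ := FiniteField.card' F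
      refine .inr <| .inl ⟨?_, h⟩
      have := h1 rfl
      have h7 : Fintype.card F ≠ 6 := fun h7 => absurd (FiniteField.isPrimePow_card F) (by rw [h7]; decide)
      omega
    obtain ⟨D, hD, h⟩ := h
    obtain ⟨e, P, hb⟩ := IsMDecomposition.exists_blk' hD
    obtain ⟨R, m, hR, h4, -⟩ := exists_extra_mon (two_ne_zero_of_odd (by rw [h5]; decide)) (e := e) (P := P)
      (H := H) fun g hg => ⟨by rw [mem_sl.1 (hH.1.le hg), one_pow],
        let ⟨π, d, h6, h7⟩ := hb.exists_mon (h.le hg).1; ⟨π, d, fun j => pow_eq_one_of_card h5 (h6 j), h7⟩⟩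
    rcases hR.linear_cases hn ((irr_of_alg_top hR.top).mono hR.le) with ⟨F₀, r, P, h1, h2, h⟩ | hR' | h |
      ⟨σ, f, h1, h⟩
    · exact .inr <| .inr <| .inr <| .inr <| .inl ⟨F₀, r, P, h1, h2,
        IsMaximalIn.eq_inf hH (h4.trans h) (hC.not_le_subfield (ne_top_of_card_pow h1.two_le h2) P)⟩
    · exact .inr <| .inr <| .inr <| .inr <| .inr <| .inl ⟨5, R, by decide, h5, rfl, hR',
        IsMaximalIn.eq_inf hH h4 (sl_not_le_normalizer hn hR')⟩
    · rcases h.even_or with ⟨f, h1, h2, h⟩ | ⟨ho, Q, h1, h⟩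
      · exact .inr <| .inr <| .inr <| .inr <| .inr <| .inr <| .inr <| .inl ⟨f, h1, IsMaximalIn.eq_inf hH (h4.trans h)
          (sl_not_le_sim' hn (isSesq_id_iff.2 h1.bilinear) Function.surjective_id h1.nondegenerate)⟩
      · exact .inr <| .inr <| .inr <| .inr <| .inr <| .inr <| .inl ⟨ho, Q, h1, IsMaximalIn.eq_inf hH (h4.trans h)
          fun hc => sl_not_le_sim' hn (isSesq_id_iff.2 h1.polar_bilinear) Function.surjective_id
            h1.nondegenerate (hc.trans (quadSim_le_sim Q))⟩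
    · exact .inr <| .inr <| .inr <| .inr <| .inr <| .inr <| .inr <| .inr <| .inl ⟨σ, f, h1,
        IsMaximalIn.eq_inf hH (h4.trans h) (sl_not_le_sim' hn (IsUnitaryForm.isSesq h1) σ.surjective h1.nondegenerate)⟩
  · rw [Fintype.card_fin] at hd
    obtain rfl : r = 2 := (Nat.prime_dvd_prime_iff_eq hr Nat.prime_two).1 (hr.dvd_of_dvd_pow (n := 2) hd)
    exact .inr <| .inr <| .inr <| .inl h
  · rw [Fintype.card_fin] at hn
    have : a ≤ 4 := Nat.le_of_dvd (by decide) ⟨b, hn.symm⟩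
    exfalso; interval_cases a <;> omega
  · exact .inr <| .inr <| .inr <| .inr <| .inl h
  · rw [Fintype.card_fin] at hm
    obtain rfl := eq_of_prime_pow hr (s := 2) (by decide) hm (by decide)
    obtain ⟨p, hp, h1, h2⟩ := IsLinearSymplecticTypeData.two hn hR
    exact .inr <| .inr <| .inr <| .inr <| .inr <| .inl ⟨p, R, hp, h1, h2, hR, h⟩
  · rw [Fintype.card_fin] at hn
    have := (Nat.pow_le_pow_left h1 t).trans' (Nat.pow_le_pow_right (by decide) h2)
    omega
  · exact .inr <| .inr <| .inr <| .inr <| .inr <| .inr <| .inr <| .inl h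
  · exact .inr <| .inr <| .inr <| .inr <| .inr <| .inr <| .inl h
  · exact .inr <| .inr <| .inr <| .inr <| .inr <| .inr <| .inr <| .inr <| .inl h
  · exact .inr <| .inr <| .inr <| .inr <| .inr <| .inr <| .inr <| .inr <| .inr <| h

end Cfsg.Agent.S5781
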