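import Cfsg.Statements.S5784
import Cfsg.Agent.Lib.Asch.SU

set_option autoImplicit false
open Cfsg

namespace Cfsg.Agent.S5784

/-- Every maximal subgroup of SU_4(q) is of one of the listed geometric types or lies in the residual class. Let F be the field with q² elements, f the standard unitary form Σ u_i v_i^q on F^4, and H a maximal subgroup of SU_4(q) (inside GL_4(F)). Then H is the intersection with SU_4(q) of one of: the stabiliser of a non-zero subspace on which f vanishes; the stabiliser of a non-degenerate 1-space; for q ≠ 3, the stabiliser of a decomposition into four mutually orthogonal non-degenerate 1-spaces; for q ≥ 3, of a decomposition into two orthogonal non-degenerate 2-spaces; for q ≥ 4, of a decomposition into two totally isotropic 2-spaces; a subfield group of odd prime index whose F₀-structure carries f; a subfield group of index 2 whose F₀-structure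 carries ζ f, vanishing on pairs (u, u), for some non-zero ζ with ζ + ζ^q = 0; for q odd, a subfield group of index 2 whose F₀-structure carries f; for q = p ≡ 3 mod 4 prime, the normaliser of an absolutely irreducible symplectic-type 2-group of exponent 4, order 64 and centre of order 4 inside the similarity group of f — or else H lies in the residual class of the unitary case. -/
theorem result {F : Type*} [Field F] [Fintype F] (q : ℕ) (hF : Fintype.card F = q ^ 2) (H : Subgroup (Matrix.GeneralLinearGroup (Fin 4) F)) (hH : Cfsg.Geo.IsMaximalIn (Cfsg.GU 4 F q ⊓ Cfsg.Geo.specialLinear (Fin 4) F) H) :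
    (∃ W : Submodule F (Fin 4 → F), W ≠ ⊥ ∧ Cfsg.Geo.IsTotallySingularFor (Cfsg.hermForm 4 F q) W ∧ H = Cfsg.Geo.subspaceStabilizer W ⊓ (Cfsg.GU 4 F q ⊓ Cfsg.Geo.specialLinear (Fin 4) F)) ∨
    (∃ W : Submodule F (Fin 4 → F), W ≠ ⊥ ∧ Cfsg.Geo.IsNondegenerateOn (Cfsg.hermForm 4 F q) W ∧ 2 * Module.finrank F W < 4 ∧ H = Cfsg.Geo.subspaceStabilizer W ⊓ (Cfsg.GU 4 F q ⊓ Cfsg.Geo.specialLinear (Fin 4) F)) ∨
    (q ≠ 3 ∧ ∃ D : Fin 4 → Submodule F (Fin 4 → F), Cfsg.Geo.IsNondegenerateMDecomposition (Cfsg.hermForm 4 F q) 1 D ∧ H = Cfsg.Geo.decompositionStabilizer D ⊓ (Cfsg.GU 4 F q ⊓ Cfsg.Geo.specialLinear (Fin 4) F)) ∨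
    (3 ≤ q ∧ ∃ D : Fin 2 → Submodule F (Fin 4 → F), Cfsg.Geo.IsNondegenerateMDecomposition (Cfsg.hermForm 4 F q) 2 D ∧ H = Cfsg.Geo.decompositionStabilizer D ⊓ (Cfsg.GU 4 F q ⊓ Cfsg.Geo.specialLinear (Fin 4) F)) ∨
    (4 ≤ q ∧ ∃ D : Fin 2 → Submodule F (Fin 4 → F), Cfsg.Geo.IsMDecomposition 2 D ∧ (∀ i, Cfsg.Geo.IsTotallySingularFor (Cfsg.hermForm 4 F q) (D i)) ∧ H = Cfsg.Geo.decompositionStabilizer D ⊓ (Cfsg.GU 4 F q ⊓ Cfsg.Geo.specialLinear (Fin 4) F)) ∨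
    (∃ (F₀ : Subfield F) (r : ℕ) (P : Matrix.GeneralLinearGroup (Fin 4) F), r.Prime ∧ Odd r ∧ Fintype.card F = Nat.card F₀ ^ r ∧ Cfsg.Geo.IsFormRationalStructure (Cfsg.hermForm 4 F q) F₀ 1 P ∧ H = Cfsg.Geo.subfieldSubgroup F₀ P ⊓ (Cfsg.GU 4 F q ⊓ Cfsg.Geo.specialLinear (Fin 4) F)) ∨
    (∃ (F₀ : Subfield F) (P : Matrix.GeneralLinearGroup (Fin 4) F) (ζ : F), Fintype.card F = Nat.card F₀ ^ 2 ∧ ζ ≠ 0 ∧ ζ + ζ ^ q = 0 ∧ Cfsg.Geo.IsFormRationalStructure (Cfsg.hermForm 4 F q) F₀ ζ P ∧ (∀ u : Fin 4 → F, (∀ i, u i ∈ F₀) → (Cfsg.hermForm 4 F q) (Matrix.mulVec (P : Matrix (Fin 4) (Fin 4) F) u) (Matrix.mulVec (P : Matrix (Fin 4) (Fin 4) F) u) = 0) ∧ H = Cfsg.Geo.subfieldSubgroup F₀ P ⊓ (Cfsg.GU 4 F q ⊓ Cfsg.Geo.specialLinear (Fin 4) F)) ∨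
    (Odd q ∧ ∃ (F₀ : Subfield F) (P : Matrix.GeneralLinearGroup (Fin 4) F), Fintype.card F = Nat.card F₀ ^ 2 ∧ Cfsg.Geo.IsFormRationalStructure (Cfsg.hermForm 4 F q) F₀ 1 P ∧ H = Cfsg.Geo.subfieldSubgroup F₀ P ⊓ (Cfsg.GU 4 F q ⊓ Cfsg.Geo.specialLinear (Fin 4) F)) ∨
    (∃ (p : ℕ) (R : Subgroup (Matrix.GeneralLinearGroup (Fin 4) F)), p.Prime ∧ q = p ∧ p % 4 = 3 ∧ Cfsg.Geo.IsSymplecticTypeGroup 2 R ∧ Cfsg.Geo.ActsAbsolutelyIrreducibly (Cfsg.Geo.matrixSet R) ∧ R ≤ Cfsg.Geo.similarityGroup (Cfsg.hermForm 4 F q) ∧ Nat.card R = 64 ∧ Nat.card (Subgroup.center R) = 4 ∧ H = Cfsg.Geo.subgroupNormalizer R ⊓ (Cfsg.GU 4 F q ⊓ Cfsg.Geo.specialLinear (Fin 4) F)) ∨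
    Cfsg.Geo.InUnitaryResidualClass H := by
  rcases Lib.Asch.suCase hF (by decide) (by omega) hH.1.le with ⟨W, h0, h1, h⟩ | ⟨W, h0, h1, h2, h⟩ |
    ⟨t, k, ht, hn, h1, h2, D, hD, h⟩ | ⟨k, hn, h4, D, hD, h1, h⟩ | ⟨r, hr, ho, hn, K, hK, h1, h⟩ |
    ⟨n₁, n₂, hn, h1, h2, h3, e, P, f₁, f₂, h4, h5, hs, h⟩ | ⟨F₀, r, P, hr, ho, hc, h1, h⟩ |
    ⟨ho, F₀, P, hc, h1, h⟩ | ⟨he, F₀, P, ζ, hc, h0, h1, h2, h3, h⟩ |
    ⟨r, k, p, e, hn, R, h1, h2, h3, h4, h5, h6, h⟩ | ⟨k, t, hn, hk, ht, h5, e, P, f₁, h1, hs, h⟩ | h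
  · exact .inl ⟨W, h0, h1, h.eq hH⟩
  · exact .inr <| .inl ⟨W, h0, h1, by simpa using h2, h.eq hH⟩
  · rw [Fintype.card_fin] at hn
    have : t ≤ 4 := Nat.le_of_dvd (by decide) ⟨k, hn.symm⟩
    obtain ⟨rfl, rfl⟩ | ⟨rfl, rfl⟩ : (t = 4 ∧ k = 1) ∨ (t = 2 ∧ k = 2) := by
      interval_cases t <;> omega
    · exact .inr <| .inr <| .inl ⟨h1 rfl rfl, D, hD, h.eq hH⟩
    · exact .inr <| .inr <| .inr <| .inl ⟨h2 rfl, D, hD, h.eq hH⟩
  · obtain rfl : k = 2 := by simp at hn; omega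
    exact .inr <| .inr <| .inr <| .inr <| .inl ⟨h4 rfl, D, hD, h1, h.eq hH⟩
  · rw [Fintype.card_fin] at hn
    have : r ≤ 4 := Nat.le_of_dvd (by decide) hn
    exfalso; revert hr ho hn; interval_cases r <;> decide
  · rw [Fintype.card_fin] at hn
    have : n₁ ≤ 4 := Nat.le_of_dvd (by decide) ⟨n₂, hn.symm⟩
    exfalso; interval_cases n₁ <;> omega
  · exact .inr <| .inr <| .inr <| .inr <| .inr <| .inl ⟨F₀, r, P, hr, ho, hc, h1, h.eq hH⟩
  · exact .inr <| .inr <| .inr <| .inr <| .inr <| .inr <| .inr <| .inl ⟨ho, F₀, P, hc, h1, h.eq hH⟩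
  · exact .inr <| .inr <| .inr <| .inr <| .inr <| .inr <| .inl ⟨F₀, P, ζ, hc, h0, h1, h2, h3, h.eq hH⟩
  · rw [Fintype.card_fin] at hn
    obtain rfl := Lib.Asch.eq_of_prime_pow h1.prime (s := 2) (by decide) hn (by decide)
    obtain rfl : 2 = k := Nat.pow_right_injective (by decide : 2 ≤ 2) hn
    obtain ⟨-, rfl, h7, h8⟩ := h6.resolve_left fun h => absurd h.1 (by decide)
    obtain ⟨h9, h10⟩ := Lib.Asch.minimal_four hF h4 (h7 ▸ h5)
    exact .inr <| .inr <| .inr <| .inr <| .inr <| .inr <| .inr <| .inr <| .inl ⟨p, R, h5.1, h9, h10, h1, h2, h3.trans Lib.Asch.isoG_le_sim, h8, h7, h.eq hH⟩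
  · rw [Fintype.card_fin] at hn
    have h6 : t < 3 := (Nat.pow_lt_pow_iff_right (by decide : 1 < 3)).1
      ((Nat.pow_le_pow_left hk t).trans_lt (by omega))
    obtain rfl : t = 2 := by omega
    have : k ≤ 4 := Nat.le_of_dvd (by decide) ((dvd_pow_self k (by omega)).trans hn.dvd)
    exfalso; interval_cases k <;> omega
  · exact .inr <| .inr <| .inr <| .inr <| .inr <| .inr <| .inr <| .inr <| .inr <| h

end Cfsg.Agent.S5784
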