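import Cfsg.Statements.S5787
import Cfsg.Agent.Lib.Asch.Sp

set_option autoImplicit false
open Cfsg

namespace Cfsg.Agent.S5787

/-- Every maximal subgroup of Sp_4(q), q odd, is of one of the listed geometric types or lies in the residual class. Let F be a finite field of odd order q, f the standard alternating form on F^4 (coordinates Fin 2 ⊕ Fin 2), and H a maximal subgroup of the isometry group Sp_4(F) (inside GL_4(F)). Then H is the intersection with Sp_4(F) of one of: the stabiliser of a non-zero totally isotropic subspace; the stabiliser of a decomposition into two orthogonal non-degenerate 2-spaces; for q ≥ 5, of a decomposition into two totally isotropic 2-spaces; the normaliser of a degree-2 subfield K of the matrix algebra, self-adjoint with f(k v, v) = 0; for q ≥ 5, the normaliser of a degree-2 subfield closed under adjoints but not self-adjoint; a subfield group whose F₀-structure carries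 a non-zero multiple of f, |F| = |F₀|^r with r prime; for q = p prime, the normaliser of an absolutely irreducible symplectic-type 2-group of exponent 4, order 32, centre of order 2 and minus type inside the similarity group of f — or else H lies in the residual class of the symplectic case. -/
theorem result {F : Type*} [Field F] [Fintype F] (hodd : Odd (Fintype.card F)) (H : Subgroup (Matrix.GeneralLinearGroup (Fin 2 ⊕ Fin 2) F)) (hH : Cfsg.Geo.IsMaximalIn (Cfsg.spGL 2 F) H) :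
    (∃ W : Submodule F (Fin 2 ⊕ Fin 2 → F), W ≠ ⊥ ∧ Cfsg.Geo.IsTotallySingularFor (Cfsg.sympForm 2 F) W ∧ H = Cfsg.Geo.subspaceStabilizer W ⊓ Cfsg.spGL 2 F) ∨
    (∃ D : Fin 2 → Submodule F (Fin 2 ⊕ Fin 2 → F), Cfsg.Geo.IsNondegenerateMDecomposition (Cfsg.sympForm 2 F) 2 D ∧ H = Cfsg.Geo.decompositionStabilizer D ⊓ Cfsg.spGL 2 F) ∨
    (5 ≤ Fintype.card F ∧ ∃ D : Fin 2 → Submodule F (Fin 2 ⊕ Fin 2 → F), Cfsg.Geo.IsMDecomposition 2 D ∧ (∀ i, Cfsg.Geo.IsTotallySingularFor (Cfsg.sympForm 2 F) (D i)) ∧ H = Cfsg.Geo.decompositionStabilizer D ⊓ Cfsg.spGL 2 F) ∨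
    (∃ K : Subalgebra F (Matrix (Fin 2 ⊕ Fin 2) (Fin 2 ⊕ Fin 2) F), Cfsg.Geo.IsFieldSubalgebra 2 K ∧ Cfsg.Geo.IsSelfAdjointFor (Cfsg.sympForm 2 F) K ∧ (∀ k ∈ K, ∀ v : (Fin 2 ⊕ Fin 2 → F), (Cfsg.sympForm 2 F) (Matrix.mulVec k v) v = 0) ∧ H = Cfsg.Geo.subalgebraNormalizer K ⊓ Cfsg.spGL 2 F) ∨
    (5 ≤ Fintype.card F ∧ ∃ K : Subalgebra F (Matrix (Fin 2 ⊕ Fin 2) (Fin 2 ⊕ Fin 2) F), Cfsg.Geo.IsFieldSubalgebra 2 K ∧ Cfsg.Geo.IsAdjointClosedFor (Cfsg.sympForm 2 F) K ∧ ¬ Cfsg.Geo.IsSelfAdjointFor (Cfsg.sympForm 2 F) K ∧ H = Cfsg.Geo.subalgebraNormalizer K ⊓ Cfsg.spGL 2 F) ∨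
    (∃ (F₀ : Subfield F) (r : ℕ) (P : Matrix.GeneralLinearGroup (Fin 2 ⊕ Fin 2) F) (ζ : F), r.Prime ∧ Fintype.card F = Nat.card F₀ ^ r ∧ ζ ≠ 0 ∧ Cfsg.Geo.IsFormRationalStructure (Cfsg.sympForm 2 F) F₀ ζ P ∧ H = Cfsg.Geo.subfieldSubgroup F₀ P ⊓ Cfsg.spGL 2 F) ∨
    (∃ (p : ℕ) (R : Subgroup (Matrix.GeneralLinearGroup (Fin 2 ⊕ Fin 2) F)), p.Prime ∧ Fintype.card F = p ∧ Cfsg.Geo.IsSymplecticTypeGroup 2 R ∧ Cfsg.Geo.ActsAbsolutelyIrreducibly (Cfsg.Geo.matrixSet R) ∧ R ≤ Cfsg.Geo.similarityGroup (Cfsg.sympForm 2 F) ∧ Nat.card R = 32 ∧ Nat.card (Subgroup.center R) = 2 ∧ Cfsg.Geo.IsOfMinusType 2 R ∧ H = Cfsg.Geo.subgroupNormalizer R ⊓ Cfsg.spGL 2 F) ∨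
    Cfsg.Geo.InSymplecticResidualClass H := by
  have hq : 2 ≤ Fintype.card F := Fintype.one_lt_card
  rcases Lib.Asch.spCase (.inr ⟨le_rfl, by rcases Lib.Asch.odd_cases hodd with h | h <;> omega⟩) hH.1.le with ⟨W, h0, h1, h⟩ | ⟨W, h0, h1, h2, h⟩ |
    ⟨t, k, ht, hn, he, h2, D, hD, h⟩ | ⟨k, hn, ho, h5, D, hD, h1, h⟩ | ⟨r, hr, hn, K, hK, h1, h2, h⟩ |
    ⟨ho, h5, K, hK, h1, h2, h⟩ | ⟨n₁, n₂, hn, he, h3, ho, h5, e, P, f₁, f₂, h1, h2, hm, hs, h⟩ |
    ⟨F₀, r, P, ζ, hr, hc, h0, h1, h⟩ | ⟨k, hn, hp, ho, R, h1, h2, h3, h4, h5, h6, h⟩ |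
    ⟨k, t, hn, hk, ho, ht, h3, h5, e, P, f₁, h1, hs, h⟩ | ⟨he, Q, h1, h2, h⟩ | h
  · exact .inl ⟨W, h0, h1, h.eq hH⟩
  · obtain ⟨j, hj⟩ := (Lib.Asch.hm_sympForm _).even_finrank (Lib.Asch.sympForm_self _) h1
    simp at h2
    exact (h0 (Submodule.finrank_eq_zero.1 (by omega))).elim
  · simp only [Fintype.card_sum, Fintype.card_fin] at hn
    have : t ≤ 4 := Nat.le_of_dvd (by decide) ⟨k, hn.symm⟩
    obtain ⟨j, hj⟩ := he
    obtain ⟨rfl, rfl⟩ : (t = 2 ∧ k = 2) := by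
      interval_cases t <;> omega
    · exact .inr <| .inl ⟨D, hD, h.eq hH⟩
  · obtain rfl : k = 2 := by simp at hn; omega
    exact .inr <| .inr <| .inl ⟨h5 (by simp), D, hD, h1, h.eq hH⟩
  · simp only [Fintype.card_sum, Fintype.card_fin] at hn
    have : 2 * r ≤ 4 := Nat.le_of_dvd (by decide) hn
    have : r ≤ 2 := by omega
    obtain rfl : r = 2 := by
      revert hr hn; interval_cases r <;> decide
    · exact .inr <| .inr <| .inr <| .inl ⟨K, hK, h1, h2, h.eq hH⟩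
  · exact .inr <| .inr <| .inr <| .inr <| .inl ⟨h5 (by simp), K, hK, h1, h2, h.eq hH⟩
  · simp only [Fintype.card_sum, Fintype.card_fin] at hn
    have : n₂ ≤ 4 := Nat.le_of_dvd (by decide) ⟨n₁, by rw [mul_comm]; exact hn.symm⟩
    obtain ⟨j, hj⟩ := he
    exfalso; interval_cases n₂ <;> omega
  · exact .inr <| .inr <| .inr <| .inr <| .inr <| .inl ⟨F₀, r, P, ζ, hr, hc, h0, h1, h.eq hH⟩
  · simp only [Fintype.card_sum, Fintype.card_fin] at hn
    have : k < 4 := (Nat.pow_lt_pow_iff_right (by decide : 1 < 2)).1 (by omega)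
    obtain rfl : k = 2 := by interval_cases k <;> omega
    exact .inr <| .inr <| .inr <| .inr <| .inr <| .inr <| .inl ⟨_, R, hp, rfl, h1, h2, h3, h4, h5, h6, h.eq hH⟩
  · simp only [Fintype.card_sum, Fintype.card_fin] at hn
    have h6 : t < 4 := (Nat.pow_lt_pow_iff_right (by decide : 1 < 2)).1
      ((Nat.pow_le_pow_left hk t).trans_lt (by omega))
    obtain rfl : t = 3 := by omega
    have : k ≤ 4 := Nat.le_of_dvd (by decide) ((dvd_pow_self k (by omega)).trans hn.dvd)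
    exfalso; interval_cases k <;> omega
  · exact absurd hodd he
  · exact .inr <| .inr <| .inr <| .inr <| .inr <| .inr <| .inr <| h

end Cfsg.Agent.S5787
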