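import Cfsg.Statements.S5796
import Cfsg.Agent.Lib.Linear.NmC

set_option autoImplicit false
open Cfsg

namespace Cfsg.Agent.S5796

open Cfsg.Lib.Linear.Nm Cfsg.Lib.Asch Cfsg.Lib.Forms Cfsg.Geo

theorem chk_u52f : fldChk T4 5 11 (T4.isSU 5) (fun v => T4.hm v v == 1)
    [192, 752, 1008, 4, 276, 148, 292, 100, 968, 716, 529, 145, 225, 773, 133, 917, 997, 885, 949, 489, 377, 525, 205, 493, 749, 322, 386, 242, 262, 198, 470, 982, 486, 742, 758, 1014, 682, 58, 862, 62, 211, 803, 99, 519, 71, 727, 615, 631, 695, 779, 203, 475, 987, 479, 447]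
    [[0, 3, 2, 1, 0], [3, 1, 0, 2, 0], [0, 0, 0, 0, 2], [3, 0, 3, 2, 0], [1, 2, 1, 0, 0]]
    [[1, 1, 0, 0, 3], [0, 1, 2, 2, 3], [0, 1, 2, 2, 2], [0, 1, 1, 2, 2], [0, 3, 1, 3, 0]]
    [[1, 0, 1, 2, 0], [0, 1, 0, 0, 0], [1, 0, 0, 2, 3], [3, 0, 3, 0, 2], [0, 0, 2, 3, 1]]
    [[0, 0, 1, 3, 2], [0, 1, 0, 0, 0], [1, 0, 0, 3, 2], [2, 0, 2, 0, 3], [3, 0, 3, 2, 0]]
    [[[0, 2, 0, 3, 2], [0, 3, 0, 2, 2], [1, 1, 1, 1, 2], [3, 1, 2, 1, 2], [1, 3, 2, 3, 1]], [[0, 3, 1, 3, 0], [0, 2, 0, 2, 3], [2, 1, 3, 3, 3], [2, 3, 3, 1, 3], [3, 3, 0, 3, 0]], [[0, 3, 1, 0, 1], [0, 1, 3, 0, 1], [3, 1, 1, 1, 3], [1, 3, 3, 1, 2], [2, 2, 2, 1, 1]], [[0, 0, 3, 1, 1], [1, 1, 2, 1, 2], [1, 1, 2, 2, 1], [0, 2, 0, 1, 1], [3, 0, 0, 2, 2]], [[0, 1, 1, 0, 2], [0, 1, 1, 3, 0], [2, 3, 3, 0, 0], [1, 1, 3, 1, 3], [1, 3, 1, 1, 3]]]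
    [0, 0, 0, 3, 0] :=
  ⟨by decide +kernel, by decide +kernel, by decide +kernel, by decide +kernel, by decide +kernel, by decide +kernel,
    by decide +kernel⟩

/-- Every maximal subgroup of SU_5(q) is of one of the listed geometric types or lies in the residual class. Let F be the field with q² elements (characteristic p), f the standard unitary form Σ u_i v_i^q on F^5, and H a maximal subgroup of SU_5(q) (inside GL_5(F)). Then H is the intersection with SU_5(q) of one of: the stabiliser of a non-zero totally isotropic subspace; the stabiliser of a non-degenerate 1-space or 2-space; the stabiliser of a decomposition into five mutually orthogonal non-degenerate 1-spaces; for q ≥ 3, the normaliser of an adjoint-closed degree-5 subfield of the matrix algebra; a subfield group of odd prime index whose F₀-structure carries f; for q odd, a subfield group of index 2 whose F₀-structure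 carries f; for q = p ≡ 4 mod 5 or q = p² with p ≡ 2, 3 mod 5, the normaliser of an absolutely irreducible 5-group of exponent 5, order 125 and centre of order 5 with all characteristic abelian subgroups cyclic inside the similarity group of f — or else H lies in the residual class of the unitary case. -/
theorem result {F : Type*} [Field F] [Fintype F] (q : ℕ) (hF : Fintype.card F = q ^ 2) (H : Subgroup (Matrix.GeneralLinearGroup (Fin 5) F)) (hH : Cfsg.Geo.IsMaximalIn (Cfsg.GU 5 F q ⊓ Cfsg.Geo.specialLinear (Fin 5) F) H) :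
    (∃ W : Submodule F (Fin 5 → F), W ≠ ⊥ ∧ Cfsg.Geo.IsTotallySingularFor (Cfsg.hermForm 5 F q) W ∧ H = Cfsg.Geo.subspaceStabilizer W ⊓ (Cfsg.GU 5 F q ⊓ Cfsg.Geo.specialLinear (Fin 5) F)) ∨
    (∃ W : Submodule F (Fin 5 → F), W ≠ ⊥ ∧ Cfsg.Geo.IsNondegenerateOn (Cfsg.hermForm 5 F q) W ∧ 2 * Module.finrank F W < 5 ∧ H = Cfsg.Geo.subspaceStabilizer W ⊓ (Cfsg.GU 5 F q ⊓ Cfsg.Geo.specialLinear (Fin 5) F)) ∨
    (∃ D : Fin 5 → Submodule F (Fin 5 → F), Cfsg.Geo.IsNondegenerateMDecomposition (Cfsg.hermForm 5 F q) 1 D ∧ H = Cfsg.Geo.decompositionStabilizer D ⊓ (Cfsg.GU 5 F q ⊓ Cfsg.Geo.specialLinear (Fin 5) F)) ∨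
    (3 ≤ q ∧ ∃ K : Subalgebra F (Matrix (Fin 5) (Fin 5) F), Cfsg.Geo.IsFieldSubalgebra 5 K ∧ Cfsg.Geo.IsAdjointClosedFor (Cfsg.hermForm 5 F q) K ∧ H = Cfsg.Geo.subalgebraNormalizer K ⊓ (Cfsg.GU 5 F q ⊓ Cfsg.Geo.specialLinear (Fin 5) F)) ∨
    (∃ (F₀ : Subfield F) (r : ℕ) (P : Matrix.GeneralLinearGroup (Fin 5) F), r.Prime ∧ Odd r ∧ Fintype.card F = Nat.card F₀ ^ r ∧ Cfsg.Geo.IsFormRationalStructure (Cfsg.hermForm 5 F q) F₀ 1 P ∧ H = Cfsg.Geo.subfieldSubgroup F₀ P ⊓ (Cfsg.GU 5 F q ⊓ Cfsg.Geo.specialLinear (Fin 5) F)) ∨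
    (Odd q ∧ ∃ (F₀ : Subfield F) (P : Matrix.GeneralLinearGroup (Fin 5) F), Fintype.card F = Nat.card F₀ ^ 2 ∧ Cfsg.Geo.IsFormRationalStructure (Cfsg.hermForm 5 F q) F₀ 1 P ∧ H = Cfsg.Geo.subfieldSubgroup F₀ P ⊓ (Cfsg.GU 5 F q ⊓ Cfsg.Geo.specialLinear (Fin 5) F)) ∨
    (∃ (p : ℕ) (R : Subgroup (Matrix.GeneralLinearGroup (Fin 5) F)), p.Prime ∧ CharP F p ∧ ((q = p ∧ p % 5 = 4) ∨ (q = p ^ 2 ∧ (p % 5 = 2 ∨ p % 5 = 3))) ∧ Cfsg.Geo.IsSymplecticTypeGroup 5 R ∧ Cfsg.Geo.ActsAbsolutelyIrreducibly (Cfsg.Geo.matrixSet R) ∧ R ≤ Cfsg.Geo.similarityGroup (Cfsg.hermForm 5 F q) ∧ Nat.card R = 125 ∧ Nat.card (Subgroup.center R) = 5 ∧ H = Cfsg.Geo.subgroupNormalizer R ⊓ (Cfsg.GU 5 F q ⊓ Cfsg.Geo.specialLinear (Fin 5) F)) ∨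
    Cfsg.Geo.InUnitaryResidualClass H := by
  have h12 : 2 ≤ q := by
    by_contra h; have := Fintype.one_lt_card (α := F); interval_cases q <;> omega
  rcases suCase hF (by decide) (by omega) hH.1.le with ⟨W, h0, h1, h⟩ | ⟨W, h0, h1, h2, h⟩ |
    ⟨t, k, ht, hn, h1, h2, D, hD, h⟩ | ⟨k, hn, h4, D, hD, h1, h⟩ | ⟨r, hr, ho, hn, K, hK, h1, h⟩ |
    ⟨n₁, n₂, hn, h1, h2, h3, e, P, f₁, f₂, h4, h5, hs, h⟩ | ⟨F₀, r, P, hr, ho, hc, h1, h⟩ |
    ⟨ho, F₀, P, hc, h1, h⟩ | ⟨he, F₀, P, ζ, hc, h0, h1, h2, h3, h⟩ |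
    ⟨r, k, p, e, hn, R, h1, h2, h3, h4, h5, h6, h⟩ | ⟨k, t, hn, hk, ht, h5, e, P, f₁, h1, hs, h⟩ | h
  · exact .inl ⟨W, h0, h1, h.eq hH⟩
  · exact .inr <| .inl ⟨W, h0, h1, by simpa using h2, h.eq hH⟩
  · rw [Fintype.card_fin] at hn
    have : t ≤ 5 := Nat.le_of_dvd (by decide) ⟨k, hn.symm⟩
    obtain ⟨rfl, rfl⟩ : (t = 5 ∧ k = 1) := by
      interval_cases t <;> omega
    exact .inr <| .inr <| .inl ⟨D, hD, h.eq hH⟩
  · simp at hn; omega
  · rw [Fintype.card_fin] at hn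
    obtain rfl : r = 5 := (Nat.prime_dvd_prime_iff_eq hr Nat.prime_five).1 hn
    refine .inr <| .inr <| .inr <| .inl ⟨by_contra fun h3 => ?_, K, hK, h1, h.eq hH⟩
    obtain rfl : q = 2 := by omega
    obtain ⟨σ, hq⟩ := isConj_of_card hF
    obtain ⟨E⟩ := enc4 hq
    haveI : Fact (Nat.Prime 11) := ⟨by norm_num⟩
    exact fld_su hq E hH hK h1 h.1 (by decide) (by decide) (by decide +kernel) chk_u52f
  · rw [Fintype.card_fin] at hn
    have : n₁ ≤ 5 := Nat.le_of_dvd (by decide) ⟨n₂, hn.symm⟩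
    exfalso; interval_cases n₁ <;> omega
  · exact .inr <| .inr <| .inr <| .inr <| .inl ⟨F₀, r, P, hr, ho, hc, h1, h.eq hH⟩
  · exact .inr <| .inr <| .inr <| .inr <| .inr <| .inl ⟨ho, F₀, P, hc, h1, h.eq hH⟩
  · exact absurd he (by decide)
  · rw [Fintype.card_fin] at hn
    obtain rfl := eq_of_prime_pow h1.prime (s := 5) (by decide) hn (by decide)
    obtain rfl : 1 = k := Nat.pow_right_injective (by decide : 2 ≤ 5) hn
    obtain ⟨-, h7, -, h8⟩ := h6.resolve_right fun h => absurd h.1 (by decide)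
    obtain ⟨d, h9, h10, h11⟩ := minimal_unitary hF h1.prime h4 (h7 ▸ h5)
    have key : ∀ a < 5, ∀ d < 5, 2 * d < 5 → 0 < d → a ^ (2 * d) % 5 = 1 ∧ (∀ k < 2 * d, 0 < k → a ^ k % 5 ≠ 1) →
        (d = 1 ∧ (a = 4)) ∨ (d = 2 ∧ (a = 2 ∨ a = 3)) := by
      intro a ha d hd; interval_cases a <;> interval_cases d <;> decide
    have := key _ (Nat.mod_lt p (by decide)) d (by omega) h10 (Nat.pos_of_ne_zero (by rintro rfl; simp at h9; omega)) h11
    have h13 := this.imp (And.imp_left fun h => show q = p by simpa [h] using h9)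
      (And.imp_left fun h => show q = p ^ 2 by simpa [h] using h9)
    exact .inr <| .inr <| .inr <| .inr <| .inr <| .inr <| .inl ⟨p, R, h5.1, h5.2.1, h13, h1, h2, h3.trans isoG_le_sim,
      h8, h7, h.eq hH⟩
  · rw [Fintype.card_fin] at hn
    have := (Nat.pow_le_pow_left hk t).trans' (Nat.pow_le_pow_right (by decide) ht)
    omega
  · exact .inr <| .inr <| .inr <| .inr <| .inr <| .inr <| .inr <| h

end Cfsg.Agent.S5796
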