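import Cfsg.Statements.S5802
import Cfsg.Agent.Lib.Linear.NmG

set_option autoImplicit false
open Cfsg

namespace Cfsg.Agent.S5802

open Cfsg.Lib.Linear.Nm Cfsg.Lib.Asch Cfsg.Lib.Forms Cfsg.Geo

/-- Every maximal subgroup of SU_6(q) is of one of the listed geometric types or lies in the residual class. Let F be the field with q² elements, f the standard unitary form Σ u_i v_i^q on F^6, and H a maximal subgroup of SU_6(q) (inside GL_6(F)). Then H is the intersection with SU_6(q) of one of: the stabiliser of a non-zero totally isotropic subspace; the stabiliser of a non-degenerate 1- or 2-space; for q ≥ 3, the stabiliser of a decomposition into six mutually orthogonal non-degenerate 1-spaces; for q ≥ 3, of a decomposition into three mutually orthogonal non-degenerate 2-spaces; of a decomposition into two orthogonal non-degenerate 3-spaces; of a decomposition into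 two totally isotropic 3-spaces; for q ≥ 3, the normaliser of an adjoint-closed degree-3 subfield of the matrix algebra; for q ≥ 3, the stabiliser of a tensor decomposition of f into unitary forms on F^2 and F^3; a subfield group of odd prime index whose F₀-structure carries f; a subfield group of index 2 and symplectic type; for q odd, a subfield group of index 2 and orthogonal type — or else H lies in the residual class of the unitary case. -/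
theorem result {F : Type*} [Field F] [Fintype F] (q : ℕ) (hF : Fintype.card F = q ^ 2) (H : Subgroup (Matrix.GeneralLinearGroup (Fin 6) F)) (hH : Cfsg.Geo.IsMaximalIn (Cfsg.GU 6 F q ⊓ Cfsg.Geo.specialLinear (Fin 6) F) H) :
    (∃ W : Submodule F (Fin 6 → F), W ≠ ⊥ ∧ Cfsg.Geo.IsTotallySingularFor (Cfsg.hermForm 6 F q) W ∧ H = Cfsg.Geo.subspaceStabilizer W ⊓ (Cfsg.GU 6 F q ⊓ Cfsg.Geo.specialLinear (Fin 6) F)) ∨
    (∃ W : Submodule F (Fin 6 → F), W ≠ ⊥ ∧ Cfsg.Geo.IsNondegenerateOn (Cfsg.hermForm 6 F q) W ∧ 2 * Module.finrank F W < 6 ∧ H = Cfsg.Geo.subspaceStabilizer W ⊓ (Cfsg.GU 6 F q ⊓ Cfsg.Geo.specialLinear (Fin 6) F)) ∨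
    (3 ≤ q ∧ ∃ D : Fin 6 → Submodule F (Fin 6 → F), Cfsg.Geo.IsNondegenerateMDecomposition (Cfsg.hermForm 6 F q) 1 D ∧ H = Cfsg.Geo.decompositionStabilizer D ⊓ (Cfsg.GU 6 F q ⊓ Cfsg.Geo.specialLinear (Fin 6) F)) ∨
    (3 ≤ q ∧ ∃ D : Fin 3 → Submodule F (Fin 6 → F), Cfsg.Geo.IsNondegenerateMDecomposition (Cfsg.hermForm 6 F q) 2 D ∧ H = Cfsg.Geo.decompositionStabilizer D ⊓ (Cfsg.GU 6 F q ⊓ Cfsg.Geo.specialLinear (Fin 6) F)) ∨
    (∃ D : Fin 2 → Submodule F (Fin 6 → F), Cfsg.Geo.IsNondegenerateMDecomposition (Cfsg.hermForm 6 F q) 3 D ∧ H = Cfsg.Geo.decompositionStabilizer D ⊓ (Cfsg.GU 6 F q ⊓ Cfsg.Geo.specialLinear (Fin 6) F)) ∨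
    (∃ D : Fin 2 → Submodule F (Fin 6 → F), Cfsg.Geo.IsMDecomposition 3 D ∧ (∀ i, Cfsg.Geo.IsTotallySingularFor (Cfsg.hermForm 6 F q) (D i)) ∧ H = Cfsg.Geo.decompositionStabilizer D ⊓ (Cfsg.GU 6 F q ⊓ Cfsg.Geo.specialLinear (Fin 6) F)) ∨
    (3 ≤ q ∧ ∃ K : Subalgebra F (Matrix (Fin 6) (Fin 6) F), Cfsg.Geo.IsFieldSubalgebra 3 K ∧ Cfsg.Geo.IsAdjointClosedFor (Cfsg.hermForm 6 F q) K ∧ H = Cfsg.Geo.subalgebraNormalizer K ⊓ (Cfsg.GU 6 F q ⊓ Cfsg.Geo.specialLinear (Fin 6) F)) ∨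
    (3 ≤ q ∧ ∃ (e : Fin 6 ≃ Fin 2 × Fin 3) (P : Matrix.GeneralLinearGroup (Fin 6) F) (f₁ : (Fin 2 → F) → (Fin 2 → F) → F) (f₂ : (Fin 3 → F) → (Fin 3 → F) → F), Cfsg.Geo.IsUnitaryFormPow q f₁ ∧ Cfsg.Geo.IsUnitaryFormPow q f₂ ∧ Cfsg.Geo.IsTensorFormStructure (fun x : F => x ^ q) (Cfsg.hermForm 6 F q) f₁ f₂ e P ∧ H = Cfsg.Geo.tensorProductSubgroup 2 3 e P ⊓ (Cfsg.GU 6 F q ⊓ Cfsg.Geo.specialLinear (Fin 6) F)) ∨
    (∃ (F₀ : Subfield F) (r : ℕ) (P : Matrix.GeneralLinearGroup (Fin 6) F), r.Prime ∧ Odd r ∧ Fintype.card F = Nat.card F₀ ^ r ∧ Cfsg.Geo.IsFormRationalStructure (Cfsg.hermForm 6 F q) F₀ 1 P ∧ H = Cfsg.Geo.subfieldSubgroup F₀ P ⊓ (Cfsg.GU 6 F q ⊓ Cfsg.Geo.specialLinear (Fin 6) F)) ∨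
    (∃ (F₀ : Subfield F) (P : Matrix.GeneralLinearGroup (Fin 6) F) (ζ : F), Fintype.card F = Nat.card F₀ ^ 2 ∧ ζ ≠ 0 ∧ ζ + ζ ^ q = 0 ∧ Cfsg.Geo.IsFormRationalStructure (Cfsg.hermForm 6 F q) F₀ ζ P ∧ (∀ u : Fin 6 → F, (∀ i, u i ∈ F₀) → (Cfsg.hermForm 6 F q) (Matrix.mulVec (P : Matrix (Fin 6) (Fin 6) F) u) (Matrix.mulVec (P : Matrix (Fin 6) (Fin 6) F) u) = 0) ∧ H = Cfsg.Geo.subfieldSubgroup F₀ P ⊓ (Cfsg.GU 6 F q ⊓ Cfsg.Geo.specialLinear (Fin 6) F)) ∨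
    (Odd q ∧ ∃ (F₀ : Subfield F) (P : Matrix.GeneralLinearGroup (Fin 6) F), Fintype.card F = Nat.card F₀ ^ 2 ∧ Cfsg.Geo.IsFormRationalStructure (Cfsg.hermForm 6 F q) F₀ 1 P ∧ H = Cfsg.Geo.subfieldSubgroup F₀ P ⊓ (Cfsg.GU 6 F q ⊓ Cfsg.Geo.specialLinear (Fin 6) F)) ∨
    Cfsg.Geo.InUnitaryResidualClass H := by
  obtain ⟨σ, hσ⟩ := isConj_of_card hF
  have h12 := hσ.two_le
  rcases suCase hF (by decide) (by omega) hH.1.le with ⟨W, h0, h1, h⟩ | ⟨W, h0, h1, h2, h⟩ |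
    ⟨t, k, ht, hn, h1, h2, D, hD, h⟩ | ⟨k, hn, h4, D, hD, h1, h⟩ | ⟨r, hr, ho, hn, K, hK, h1, h⟩ |
    ⟨n₁, n₂, hn, h1, h2, h3, e, P, f₁, f₂, h4, h5, hs, h⟩ | ⟨F₀, r, P, hr, ho, hc, h1, h⟩ |
    ⟨ho, F₀, P, hc, h1, h⟩ | ⟨he, F₀, P, ζ, hc, h0, h1, h2, h3, h⟩ |
    ⟨r, k, p, e, hn, R, h1, h2, h3, h4, h5, h6, h⟩ | ⟨k, t, hn, hk, ht, h5, e, P, f₁, h1, hs, h⟩ | h
  · exact .inl ⟨W, h0, h1, h.eq hH⟩
  · exact .inr <| .inl ⟨W, h0, h1, by simpa using h2, h.eq hH⟩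
  · rw [Fintype.card_fin] at hn
    have : t ≤ 6 := Nat.le_of_dvd (by decide) ⟨k, hn.symm⟩
    obtain ⟨rfl, rfl⟩ | ⟨rfl, rfl⟩ | ⟨rfl, rfl⟩ : (t = 6 ∧ k = 1) ∨ (t = 3 ∧ k = 2) ∨ (t = 2 ∧ k = 3) := by
      interval_cases t <;> omega
    · refine .inr <| .inr <| .inl ⟨by_contra fun h3 => ?_, D, hD, h.eq hH⟩
      obtain rfl : q = 2 := by omega
      exact dec_u62 hσ hH hD h.1
    · exact .inr <| .inr <| .inr <| .inl ⟨h2 rfl, D, hD, h.eq hH⟩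
    · exact .inr <| .inr <| .inr <| .inr <| .inl ⟨D, hD, h.eq hH⟩
  · rw [Fintype.card_fin] at hn
    obtain rfl : k = 3 := by omega
    exact .inr <| .inr <| .inr <| .inr <| .inr <| .inl ⟨D, hD, h1, h.eq hH⟩
  · rw [Fintype.card_fin] at hn
    have : r ≤ 6 := Nat.le_of_dvd (by decide) hn
    obtain rfl : r = 3 := by
      revert hr ho hn; interval_cases r <;> decide
    refine .inr <| .inr <| .inr <| .inr <| .inr <| .inr <| .inl ⟨by_contra fun h3 => ?_, K, hK, h1, h.eq hH⟩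
    obtain rfl : q = 2 := by omega
    exact fld_u62 hσ hH hK h1 h.1
  · rw [Fintype.card_fin] at hn
    have : n₁ ≤ 6 := Nat.le_of_dvd (by decide) ⟨n₂, hn.symm⟩
    obtain ⟨rfl, rfl⟩ : n₁ = 2 ∧ n₂ = 3 := by interval_cases n₁ <;> omega
    exact .inr <| .inr <| .inr <| .inr <| .inr <| .inr <| .inr <| .inl ⟨h3 rfl, e, P, f₁, f₂, h4, h5, hs, h.eq hH⟩
  · exact .inr <| .inr <| .inr <| .inr <| .inr <| .inr <| .inr <| .inr <| .inl ⟨F₀, r, P, hr, ho, hc, h1, h.eq hH⟩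
  · exact .inr <| .inr <| .inr <| .inr <| .inr <| .inr <| .inr <| .inr <| .inr <| .inr <| .inl
      ⟨ho, F₀, P, hc, h1, h.eq hH⟩
  · exact .inr <| .inr <| .inr <| .inr <| .inr <| .inr <| .inr <| .inr <| .inr <| .inl
      ⟨F₀, P, ζ, hc, h0, h1, h2, h3, h.eq hH⟩
  · rw [Fintype.card_fin] at hn
    have h7 : ∀ s : ℕ, s.Prime → s ∣ 6 → s = r := fun s hs h =>
      (Nat.prime_dvd_prime_iff_eq hs h1.prime).1 (hs.dvd_of_dvd_pow (hn ▸ h))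
    exact absurd ((h7 2 Nat.prime_two (by decide)).trans (h7 3 Nat.prime_three (by decide)).symm) (by decide)
  · rw [Fintype.card_fin] at hn
    have := (Nat.pow_le_pow_left hk t).trans' (Nat.pow_le_pow_right (by decide) ht)
    omega
  · exact .inr <| .inr <| .inr <| .inr <| .inr <| .inr <| .inr <| .inr <| .inr <| .inr <| .inr <| h

end Cfsg.Agent.S5802
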