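import Cfsg.Statements.S5805
import Cfsg.Agent.Lib.Asch.Sp

set_option autoImplicit false
open Cfsg

namespace Cfsg.Agent.S5805

/-- Every maximal subgroup of Sp_6(q) is of one of the listed geometric types or lies in the residual class. Let F be a finite field with q elements, f the standard alternating form on F^6 (coordinates Fin 3 ⊕ Fin 3), and H a maximal subgroup of Sp_6(F) (inside GL_6(F)). Then H is the intersection with Sp_6(F) of one of: the stabiliser of a non-zero totally isotropic subspace; the stabiliser of a non-degenerate 2-space; for q ≥ 3, the stabiliser of a decomposition into three mutually orthogonal non-degenerate 2-spaces; for q odd, of a decomposition into two totally isotropic 3-spaces; the normaliser of a degree-3 subfield K of the matrix algebra, self-adjoint with f(k v, v) = 0; for q odd, the normaliser of a degree-2 subfield closed under adjoints but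 not self-adjoint; for q odd, q ≥ 5, the stabiliser of a tensor decomposition of f into an alternating form on F^2 and a symmetric form on F^3; a subfield group (|F| = |F₀|^r, r prime) whose F₀-structure carries a non-zero multiple of f; for q even, the similarity group of a non-degenerate quadratic form polarising to f — or else H lies in the residual class of the symplectic case. -/
theorem result {F : Type*} [Field F] [Fintype F] (H : Subgroup (Matrix.GeneralLinearGroup (Fin 3 ⊕ Fin 3) F)) (hH : Cfsg.Geo.IsMaximalIn (Cfsg.spGL 3 F) H) :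
    (∃ W : Submodule F (Fin 3 ⊕ Fin 3 → F), W ≠ ⊥ ∧ Cfsg.Geo.IsTotallySingularFor (Cfsg.sympForm 3 F) W ∧ H = Cfsg.Geo.subspaceStabilizer W ⊓ Cfsg.spGL 3 F) ∨
    (∃ W : Submodule F (Fin 3 ⊕ Fin 3 → F), W ≠ ⊥ ∧ Cfsg.Geo.IsNondegenerateOn (Cfsg.sympForm 3 F) W ∧ Module.finrank F W < 3 ∧ H = Cfsg.Geo.subspaceStabilizer W ⊓ Cfsg.spGL 3 F) ∨
    (3 ≤ Fintype.card F ∧ ∃ D : Fin 3 → Submodule F (Fin 3 ⊕ Fin 3 → F), Cfsg.Geo.IsNondegenerateMDecomposition (Cfsg.sympForm 3 F) 2 D ∧ H = Cfsg.Geo.decompositionStabilizer D ⊓ Cfsg.spGL 3 F) ∨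
    (Odd (Fintype.card F) ∧ ∃ D : Fin 2 → Submodule F (Fin 3 ⊕ Fin 3 → F), Cfsg.Geo.IsMDecomposition 3 D ∧ (∀ i, Cfsg.Geo.IsTotallySingularFor (Cfsg.sympForm 3 F) (D i)) ∧ H = Cfsg.Geo.decompositionStabilizer D ⊓ Cfsg.spGL 3 F) ∨
    (∃ K : Subalgebra F (Matrix (Fin 3 ⊕ Fin 3) (Fin 3 ⊕ Fin 3) F), Cfsg.Geo.IsFieldSubalgebra 3 K ∧ Cfsg.Geo.IsSelfAdjointFor (Cfsg.sympForm 3 F) K ∧ (∀ k ∈ K, ∀ v : (Fin 3 ⊕ Fin 3 → F), (Cfsg.sympForm 3 F) (Matrix.mulVec k v) v = 0) ∧ H = Cfsg.Geo.subalgebraNormalizer K ⊓ Cfsg.spGL 3 F) ∨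
    (Odd (Fintype.card F) ∧ ∃ K : Subalgebra F (Matrix (Fin 3 ⊕ Fin 3) (Fin 3 ⊕ Fin 3) F), Cfsg.Geo.IsFieldSubalgebra 2 K ∧ Cfsg.Geo.IsAdjointClosedFor (Cfsg.sympForm 3 F) K ∧ ¬ Cfsg.Geo.IsSelfAdjointFor (Cfsg.sympForm 3 F) K ∧ H = Cfsg.Geo.subalgebraNormalizer K ⊓ Cfsg.spGL 3 F) ∨
    (Odd (Fintype.card F) ∧ 5 ≤ Fintype.card F ∧ ∃ (e : (Fin 3 ⊕ Fin 3) ≃ Fin 2 × Fin 3) (P : Matrix.GeneralLinearGroup (Fin 3 ⊕ Fin 3) F) (f₁ : (Fin 2 → F) → (Fin 2 → F) → F) (f₂ : (Fin 3 → F) → (Fin 3 → F) → F), Cfsg.Geo.IsSymplecticForm f₁ ∧ Cfsg.Geo.IsSymmetricForm f₂ ∧ Cfsg.Geo.IsTensorFormStructure id (Cfsg.sympForm 3 F) f₁ f₂ e P ∧ H = Cfsg.Geo.tensorProductSubgroup 2 3 e P ⊓ Cfsg.spGL 3 F) ∨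
    (∃ (F₀ : Subfield F) (r : ℕ) (P : Matrix.GeneralLinearGroup (Fin 3 ⊕ Fin 3) F) (ζ : F), r.Prime ∧ Fintype.card F = Nat.card F₀ ^ r ∧ ζ ≠ 0 ∧ Cfsg.Geo.IsFormRationalStructure (Cfsg.sympForm 3 F) F₀ ζ P ∧ H = Cfsg.Geo.subfieldSubgroup F₀ P ⊓ Cfsg.spGL 3 F) ∨
    (¬ Odd (Fintype.card F) ∧ ∃ Q : (Fin 3 ⊕ Fin 3 → F) → F, Cfsg.Geo.IsNondegenerateQuadraticForm Q ∧ (∀ u v : (Fin 3 ⊕ Fin 3 → F), QuadraticMap.polar Q u v = (Cfsg.sympForm 3 F) u v) ∧ H = Cfsg.Geo.quadSimilarityGroup Q ⊓ Cfsg.spGL 3 F) ∨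
    Cfsg.Geo.InSymplecticResidualClass H := by
  have hq : 2 ≤ Fintype.card F := Fintype.one_lt_card
  rcases Lib.Asch.spCase (.inl (by decide)) hH.1.le with ⟨W, h0, h1, h⟩ | ⟨W, h0, h1, h2, h⟩ |
    ⟨t, k, ht, hn, he, h2, D, hD, h⟩ | ⟨k, hn, ho, h5, D, hD, h1, h⟩ | ⟨r, hr, hn, K, hK, h1, h2, h⟩ |
    ⟨ho, h5, K, hK, h1, h2, h⟩ | ⟨n₁, n₂, hn, he, h3, ho, h5, e, P, f₁, f₂, h1, h2, hm, hs, h⟩ |
    ⟨F₀, r, P, ζ, hr, hc, h0, h1, h⟩ | ⟨k, hn, hp, ho, R, h1, h2, h3, h4, h5, h6, h⟩ |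
    ⟨k, t, hn, hk, ho, ht, h3, h5, e, P, f₁, h1, hs, h⟩ | ⟨he, Q, h1, h2, h⟩ | h
  · exact .inl ⟨W, h0, h1, h.eq hH⟩
  · exact .inr <| .inl ⟨W, h0, h1, by simp at h2; omega, h.eq hH⟩
  · simp only [Fintype.card_sum, Fintype.card_fin] at hn
    have : t ≤ 6 := Nat.le_of_dvd (by decide) ⟨k, hn.symm⟩
    obtain ⟨j, hj⟩ := he
    obtain ⟨rfl, rfl⟩ : (t = 3 ∧ k = 2) := by
      interval_cases t <;> omega
    · exact .inr <| .inr <| .inl ⟨h2 rfl, D, hD, h.eq hH⟩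
  · obtain rfl : k = 3 := by simp at hn; omega
    exact .inr <| .inr <| .inr <| .inl ⟨ho, D, hD, h1, h.eq hH⟩
  · simp only [Fintype.card_sum, Fintype.card_fin] at hn
    have : 2 * r ≤ 6 := Nat.le_of_dvd (by decide) hn
    have : r ≤ 3 := by omega
    obtain rfl : r = 3 := by
      revert hr hn; interval_cases r <;> decide
    · exact .inr <| .inr <| .inr <| .inr <| .inl ⟨K, hK, h1, h2, h.eq hH⟩
  · exact .inr <| .inr <| .inr <| .inr <| .inr <| .inl ⟨ho, K, hK, h1, h2, h.eq hH⟩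
  · simp only [Fintype.card_sum, Fintype.card_fin] at hn
    have : n₂ ≤ 6 := Nat.le_of_dvd (by decide) ⟨n₁, by rw [mul_comm]; exact hn.symm⟩
    obtain ⟨j, hj⟩ := he
    obtain ⟨rfl, rfl⟩ : (n₁ = 2 ∧ n₂ = 3) := by
      interval_cases n₂ <;> omega
    · exact .inr <| .inr <| .inr <| .inr <| .inr <| .inr <| .inl ⟨ho, h5 rfl, e, P, f₁, f₂, h1, h2, hs, h.eq hH⟩
  · exact .inr <| .inr <| .inr <| .inr <| .inr <| .inr <| .inr <| .inl ⟨F₀, r, P, ζ, hr, hc, h0, h1, h.eq hH⟩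
  · simp only [Fintype.card_sum, Fintype.card_fin] at hn
    have : k < 4 := (Nat.pow_lt_pow_iff_right (by decide : 1 < 2)).1 (by omega)
    exfalso; interval_cases k <;> omega
  · simp only [Fintype.card_sum, Fintype.card_fin] at hn
    have h6 : t < 4 := (Nat.pow_lt_pow_iff_right (by decide : 1 < 2)).1
      ((Nat.pow_le_pow_left hk t).trans_lt (by omega))
    obtain rfl : t = 3 := by omega
    have : k ≤ 6 := Nat.le_of_dvd (by decide) ((dvd_pow_self k (by omega)).trans hn.dvd)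
    exfalso; interval_cases k <;> omega
  · exact .inr <| .inr <| .inr <| .inr <| .inr <| .inr <| .inr <| .inr <| .inl ⟨he, Q, h1, h2, h.eq hH⟩
  · exact .inr <| .inr <| .inr <| .inr <| .inr <| .inr <| .inr <| .inr <| .inr <| h

end Cfsg.Agent.S5805
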