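import Cfsg.Statements.S5811
import Cfsg.Agent.Lib.Asch.SU

set_option autoImplicit false
open Cfsg

namespace Cfsg.Agent.S5811

/-- Every maximal subgroup of SU_7(q) is of one of the listed geometric types or lies in the residual class. Let F be the field with q² elements (characteristic p), f the standard unitary form Σ u_i v_i^q on F^7, and H a maximal subgroup of SU_7(q) (inside GL_7(F)). Then H is the intersection with SU_7(q) of one of: the stabiliser of a non-zero totally isotropic subspace; the stabiliser of a non-degenerate 1-, 2- or 3-space; the stabiliser of a decomposition into seven mutually orthogonal non-degenerate 1-spaces; the normaliser of an adjoint-closed degree-7 subfield of the matrix algebra; a subfield group of odd prime index whose F₀-structure carries f; for q odd, a subfield group of index 2 whose F₀-structure carries f; for q = p prime with p ≡ 6 mod 7, or q = p³ with p ≡ 3 or 5 mod 7, the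 normaliser of an absolutely irreducible 7-group R of exponent 7, order 343 and centre of order 7, all of whose characteristic abelian subgroups are cyclic, contained in the similarity group of f — or else H lies in the residual class of the unitary case (modulo scalars H is almost simple, with absolutely irreducible perfect socle preimage realisable over no proper subfield and fixing no non-degenerate quadratic or symplectic form). -/
theorem result {F : Type*} [Field F] [Fintype F] (q : ℕ) (hF : Fintype.card F = q ^ 2) (H : Subgroup (Matrix.GeneralLinearGroup (Fin 7) F)) (hH : Cfsg.Geo.IsMaximalIn (Cfsg.GU 7 F q ⊓ Cfsg.Geo.specialLinear (Fin 7) F) H) :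
    (∃ W : Submodule F (Fin 7 → F), W ≠ ⊥ ∧ Cfsg.Geo.IsTotallySingularFor (Cfsg.hermForm 7 F q) W ∧ H = Cfsg.Geo.subspaceStabilizer W ⊓ (Cfsg.GU 7 F q ⊓ Cfsg.Geo.specialLinear (Fin 7) F)) ∨
    (∃ W : Submodule F (Fin 7 → F), W ≠ ⊥ ∧ Cfsg.Geo.IsNondegenerateOn (Cfsg.hermForm 7 F q) W ∧ 2 * Module.finrank F W < 7 ∧ H = Cfsg.Geo.subspaceStabilizer W ⊓ (Cfsg.GU 7 F q ⊓ Cfsg.Geo.specialLinear (Fin 7) F)) ∨
    (∃ D : Fin 7 → Submodule F (Fin 7 → F), Cfsg.Geo.IsNondegenerateMDecomposition (Cfsg.hermForm 7 F q) 1 D ∧ H = Cfsg.Geo.decompositionStabilizer D ⊓ (Cfsg.GU 7 F q ⊓ Cfsg.Geo.specialLinear (Fin 7) F)) ∨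
    (∃ K : Subalgebra F (Matrix (Fin 7) (Fin 7) F), Cfsg.Geo.IsFieldSubalgebra 7 K ∧ Cfsg.Geo.IsAdjointClosedFor (Cfsg.hermForm 7 F q) K ∧ H = Cfsg.Geo.subalgebraNormalizer K ⊓ (Cfsg.GU 7 F q ⊓ Cfsg.Geo.specialLinear (Fin 7) F)) ∨
    (∃ (F₀ : Subfield F) (r : ℕ) (P : Matrix.GeneralLinearGroup (Fin 7) F), r.Prime ∧ Odd r ∧ Fintype.card F = Nat.card F₀ ^ r ∧ Cfsg.Geo.IsFormRationalStructure (Cfsg.hermForm 7 F q) F₀ 1 P ∧ H = Cfsg.Geo.subfieldSubgroup F₀ P ⊓ (Cfsg.GU 7 F q ⊓ Cfsg.Geo.specialLinear (Fin 7) F)) ∨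
    (Odd q ∧ ∃ (F₀ : Subfield F) (P : Matrix.GeneralLinearGroup (Fin 7) F), Fintype.card F = Nat.card F₀ ^ 2 ∧ Cfsg.Geo.IsFormRationalStructure (Cfsg.hermForm 7 F q) F₀ 1 P ∧ H = Cfsg.Geo.subfieldSubgroup F₀ P ⊓ (Cfsg.GU 7 F q ⊓ Cfsg.Geo.specialLinear (Fin 7) F)) ∨
    (∃ (p : ℕ) (R : Subgroup (Matrix.GeneralLinearGroup (Fin 7) F)), p.Prime ∧ CharP F p ∧ ((q = p ∧ p % 7 = 6) ∨ (q = p ^ 3 ∧ (p % 7 = 3 ∨ p % 7 = 5))) ∧ Cfsg.Geo.IsSymplecticTypeGroup 7 R ∧ Cfsg.Geo.ActsAbsolutelyIrreducibly (Cfsg.Geo.matrixSet R) ∧ R ≤ Cfsg.Geo.similarityGroup (Cfsg.hermForm 7 F q) ∧ Nat.card R = 343 ∧ Nat.card (Subgroup.center R) = 7 ∧ H = Cfsg.Geo.subgroupNormalizer R ⊓ (Cfsg.GU 7 F q ⊓ Cfsg.Geo.specialLinear (Fin 7) F)) ∨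
    Cfsg.Geo.InUnitaryResidualClass H := by
  rcases Lib.Asch.suCase hF (by decide) (by omega) hH.1.le with ⟨W, h0, h1, h⟩ | ⟨W, h0, h1, h2, h⟩ |
    ⟨t, k, ht, hn, h1, h2, D, hD, h⟩ | ⟨k, hn, h4, D, hD, h1, h⟩ | ⟨r, hr, ho, hn, K, hK, h1, h⟩ |
    ⟨n₁, n₂, hn, h1, h2, h3, e, P, f₁, f₂, h4, h5, hs, h⟩ | ⟨F₀, r, P, hr, ho, hc, h1, h⟩ |
    ⟨ho, F₀, P, hc, h1, h⟩ | ⟨he, F₀, P, ζ, hc, h0, h1, h2, h3, h⟩ |
    ⟨r, k, p, e, hn, R, h1, h2, h3, h4, h5, h6, h⟩ | ⟨k, t, hn, hk, ht, h5, e, P, f₁, h1, hs, h⟩ | h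
  · exact .inl ⟨W, h0, h1, h.eq hH⟩
  · exact .inr <| .inl ⟨W, h0, h1, by simpa using h2, h.eq hH⟩
  · rw [Fintype.card_fin] at hn
    have : t ≤ 7 := Nat.le_of_dvd (by decide) ⟨k, hn.symm⟩
    obtain ⟨rfl, rfl⟩ : (t = 7 ∧ k = 1) := by
      interval_cases t <;> omega
    · exact .inr <| .inr <| .inl ⟨D, hD, h.eq hH⟩
  · simp at hn; omega
  · rw [Fintype.card_fin] at hn
    have : r ≤ 7 := Nat.le_of_dvd (by decide) hn
    obtain rfl : r = 7 := by
      revert hr ho hn; interval_cases r <;> decide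
    exact .inr <| .inr <| .inr <| .inl ⟨K, hK, h1, h.eq hH⟩
  · rw [Fintype.card_fin] at hn
    have : n₁ ≤ 7 := Nat.le_of_dvd (by decide) ⟨n₂, hn.symm⟩
    exfalso; interval_cases n₁ <;> omega
  · exact .inr <| .inr <| .inr <| .inr <| .inl ⟨F₀, r, P, hr, ho, hc, h1, h.eq hH⟩
  · exact .inr <| .inr <| .inr <| .inr <| .inr <| .inl ⟨ho, F₀, P, hc, h1, h.eq hH⟩
  · exact absurd he (by decide)
  · rw [Fintype.card_fin] at hn
    obtain rfl := Lib.Asch.eq_of_prime_pow h1.prime (s := 7) (by decide) hn (by decide)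
    obtain rfl : 1 = k := Nat.pow_right_injective (by decide : 2 ≤ 7) hn
    obtain ⟨-, h7, -, h8⟩ := h6.resolve_right fun h => absurd h.1 (by decide)
    obtain ⟨d, h9, h10, h11⟩ := Lib.Asch.minimal_unitary hF h1.prime h4 (h7 ▸ h5)
    have key : ∀ a < 7, ∀ d < 7, 2 * d < 7 → 0 < d → a ^ (2 * d) % 7 = 1 ∧ (∀ k < 2 * d, 0 < k → a ^ k % 7 ≠ 1) →
        (d = 1 ∧ (a = 6)) ∨ (d = 3 ∧ (a = 3 ∨ a = 5)) := by
      intro a ha d hd; interval_cases a <;> interval_cases d <;> decide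
    have h12 : 2 ≤ q := by
      by_contra h; have := Fintype.one_lt_card (α := F); interval_cases q <;> omega
    have := key _ (Nat.mod_lt p (by decide)) d (by omega) h10 (Nat.pos_of_ne_zero (by rintro rfl; simp at h9; omega)) h11
    have h13 := this.imp (And.imp_left fun h => show q = p by simpa [h] using h9) (And.imp_left fun h => show q = p ^ 3 by simpa [h] using h9)
    exact .inr <| .inr <| .inr <| .inr <| .inr <| .inr <| .inl ⟨p, R, h5.1, h5.2.1, h13, h1, h2, h3.trans Lib.Asch.isoG_le_sim, h8, h7, h.eq hH⟩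
  · rw [Fintype.card_fin] at hn
    have h6 : t < 3 := (Nat.pow_lt_pow_iff_right (by decide : 1 < 3)).1
      ((Nat.pow_le_pow_left hk t).trans_lt (by omega))
    obtain rfl : t = 2 := by omega
    have : k ≤ 7 := Nat.le_of_dvd (by decide) ((dvd_pow_self k (by omega)).trans hn.dvd)
    exfalso; interval_cases k <;> omega
  · exact .inr <| .inr <| .inr <| .inr <| .inr <| .inr <| .inr <| h

end Cfsg.Agent.S5811
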