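import Cfsg.Statements.S5826
import Cfsg.Agent.Lib.Asch.O

set_option autoImplicit false
open Cfsg

namespace Cfsg.Agent.S5826

/-- Every maximal subgroup of Ω_8^-(q) is of one of the listed geometric types or lies in the residual class. Let F be a finite field with q elements, Q a non-degenerate quadratic form on F^8 of minus type (no totally singular 4-space), Ω the commutator subgroup of its isometry group, and H a maximal subgroup of Ω (inside GL_8(F)). Then H is the intersection with Ω of one of: the stabiliser of a non-zero totally singular subspace; for q odd, the stabiliser of a non-degenerate subspace of odd dimension; the stabiliser of a non-degenerate 2-space of minus type; for q ≥ 4, the stabiliser of a non-degenerate 2-space of plus type; the stabiliser of a non-degenerate 4-space; for q even, the stabiliser of the span of a non-singular vector; the normaliser of a degree-2 subfield of the matrix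 algebra; a subfield group of odd prime index whose F₀-structure carries a non-zero multiple of Q — or else H lies in the residual class of the orthogonal case (modulo scalars H is almost simple, with absolutely irreducible perfect socle preimage realisable over no proper subfield and fixing no non-degenerate unitary form). -/
theorem result {F : Type*} [Field F] [Fintype F] (Q : (Fin 8 → F) → F) (hQ : Cfsg.Geo.IsNondegenerateQuadraticForm Q) (hminus : ¬ Cfsg.Geo.IsPlusTypeOn Q ⊤) (H : Subgroup (Matrix.GeneralLinearGroup (Fin 8) F)) (hH : Cfsg.Geo.IsMaximalIn (Cfsg.Geo.omegaGL Q) H) :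
    (∃ W : Submodule F (Fin 8 → F), W ≠ ⊥ ∧ Cfsg.Geo.IsTotallySingularQuad Q W ∧ H = Cfsg.Geo.subspaceStabilizer W ⊓ Cfsg.Geo.omegaGL Q) ∨
    (Odd (Fintype.card F) ∧ ∃ W : Submodule F (Fin 8 → F), W ≠ ⊥ ∧ W ≠ ⊤ ∧ Odd (Module.finrank F W) ∧ Cfsg.Geo.IsNondegenerateOn (QuadraticMap.polar Q) W ∧ H = Cfsg.Geo.subspaceStabilizer W ⊓ Cfsg.Geo.omegaGL Q) ∨
    (∃ W : Submodule F (Fin 8 → F), Module.finrank F W = 2 ∧ Cfsg.Geo.IsNondegenerateOn (QuadraticMap.polar Q) W ∧ ¬ Cfsg.Geo.IsPlusTypeOn Q W ∧ H = Cfsg.Geo.subspaceStabilizer W ⊓ Cfsg.Geo.omegaGL Q) ∨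
    (4 ≤ Fintype.card F ∧ ∃ W : Submodule F (Fin 8 → F), Module.finrank F W = 2 ∧ Cfsg.Geo.IsNondegenerateOn (QuadraticMap.polar Q) W ∧ Cfsg.Geo.IsPlusTypeOn Q W ∧ H = Cfsg.Geo.subspaceStabilizer W ⊓ Cfsg.Geo.omegaGL Q) ∨
    (∃ W : Submodule F (Fin 8 → F), Module.finrank F W = 4 ∧ Cfsg.Geo.IsNondegenerateOn (QuadraticMap.polar Q) W ∧ H = Cfsg.Geo.subspaceStabilizer W ⊓ Cfsg.Geo.omegaGL Q) ∨
    (¬ Odd (Fintype.card F) ∧ ∃ v : (Fin 8 → F), Q v ≠ 0 ∧ H = Cfsg.Geo.subspaceStabilizer (Submodule.span F {v}) ⊓ Cfsg.Geo.omegaGL Q) ∨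
    (∃ K : Subalgebra F (Matrix (Fin 8) (Fin 8) F), Cfsg.Geo.IsFieldSubalgebra 2 K ∧ H = Cfsg.Geo.subalgebraNormalizer K ⊓ Cfsg.Geo.omegaGL Q) ∨
    (∃ (F₀ : Subfield F) (r : ℕ) (P : Matrix.GeneralLinearGroup (Fin 8) F) (ζ : F), r.Prime ∧ Odd r ∧ Fintype.card F = Nat.card F₀ ^ r ∧ ζ ≠ 0 ∧ Cfsg.Geo.IsQuadFormRationalStructure (fun v : Fin 8 → F => ζ * Q v) F₀ P ∧ H = Cfsg.Geo.subfieldSubgroup F₀ P ⊓ Cfsg.Geo.omegaGL Q) ∨
    Cfsg.Geo.InOrthogonalResidualClass H := by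
  have hN : Fintype.card (Fin 8) = 8 := rfl
  rcases Lib.Asch.oCase hQ (by decide) hH.1.le with ⟨W, h0, h1, h2, h⟩ | ⟨W, h0, ht, h1, h2, h3, h4, h5, h⟩ |
    ⟨k, hn, hk, ho, hp, D, hD, h1, h⟩ | ⟨he, v, h0, h⟩ |
    ⟨t, k, ht, hn, D, hD, ho, h1, h2, h2', h3, h4, h⟩ | ⟨k, hn, hk, hp, D, hD, h1, h⟩ |
    ⟨r, hr, hn, h1, h2, h3, K, hK, h4, h⟩ | ⟨he, hp, K, hK, h1, h2, h3, h⟩ |
    ⟨n₁, n₂, hn, ho, h3, hle, he, h5, e, P, f₁, f₂, h1, h2, hm', hs, h⟩ |
    ⟨n₁, n₂, hn, he₁, he₂, h3, hle, hp, e, P, f₁, f₂, h1, h2, hs, h0, h⟩ |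
    ⟨F₀, r, P, ζ, hr, hc, h0, h1, hp, h⟩ | ⟨k, hn, hp⟩ |
    ⟨k, t, hn, hk, hk', ht, ho, h5, e, P, f₁, h1, hs, h⟩ | ⟨k, t, hn, hk, ht, hp⟩ | h
  · exact .inl ⟨W, h0, h1, h.eq hH⟩
  · by_cases h6 : Odd (Module.finrank F W)
    · exact .inr <| .inl ⟨(h5 h6).1, W, h0, ht, h6, h1, h.eq hH⟩
    have h7 := h2 (by decide)
    have h8 := Submodule.finrank_eq_zero.not.2 h0
    rw [Nat.odd_iff] at h6
    obtain h9 | h9 : Module.finrank F W = 2 ∨ Module.finrank F W = 4 := by omega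
    · by_cases h10 : Geo.IsPlusTypeOn Q W
      · exact .inr <| .inr <| .inr <| .inl ⟨h4 h9 h10, W, h9, h1, h10, h.eq hH⟩
      · exact .inr <| .inr <| .inl ⟨W, h9, h1, h10, h.eq hH⟩
    · exact .inr <| .inr <| .inr <| .inr <| .inl ⟨W, h9, h1, h.eq hH⟩
  · rw [Nat.odd_iff] at hk; omega
  · exact .inr <| .inr <| .inr <| .inr <| .inr <| .inl ⟨he, v, h0, h.eq hH⟩
  · rw [hN] at hn
    have : t ≤ 8 := Nat.le_of_dvd (by decide) ⟨k, hn.symm⟩
    obtain ⟨rfl, rfl⟩ | ⟨rfl, rfl⟩ | ⟨rfl, rfl⟩ : (t = 8 ∧ k = 1) ∨ (t = 4 ∧ k = 2) ∨ (t = 2 ∧ k = 4) := by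
      interval_cases t <;> omega
    · exact absurd ((Lib.Asch.NQ.type_odd hQ hD (by decide) (by decide)).2 (.inl rfl)) hminus
    · exact absurd ((Lib.Asch.NQ.type_even hQ hD (by decide)).elim (·.2) (·.2.2 (by decide))) hminus
    · exact absurd ((Lib.Asch.NQ.type_even hQ hD (by decide)).elim (·.2) (·.2.2 (by decide))) hminus
  · exact absurd hp hminus
  · rw [hN] at hn h1 h2 h3
    have : r ≤ 8 := Nat.le_of_dvd (by decide) hn
    obtain rfl : r = 2 := by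
      clear h3; revert hr hn h1 h2; interval_cases r <;> decide
    · exact .inr <| .inr <| .inr <| .inr <| .inr <| .inr <| .inl ⟨K, hK, h.eq hH⟩
  · exact .inr <| .inr <| .inr <| .inr <| .inr <| .inr <| .inl ⟨K, hK, h.eq hH⟩
  · rw [hN] at hn
    have : n₁ ≤ 8 := Nat.le_of_dvd (by decide) ⟨n₂, hn.symm⟩
    rw [Nat.even_iff] at he; exfalso; interval_cases n₁ <;> omega
  · rw [hN] at hn
    rw [Nat.even_iff] at he₁ he₂
    have : n₁ ≤ 8 := Nat.le_of_dvd (by decide) ⟨n₂, hn.symm⟩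
    obtain ⟨rfl, rfl⟩ : n₁ = 2 ∧ n₂ = 4 := by interval_cases n₁ <;> omega
    exact absurd (hp rfl).2 hminus
  · exact .inr <| .inr <| .inr <| .inr <| .inr <| .inr <| .inr <| .inl ⟨F₀, r, P, ζ, hr, hp (by decide) hminus, hc, h0, h1, h.eq hH⟩
  · exact absurd hp hminus
  · exact absurd (hn ▸ hk'.pow) (by decide)
  · rw [hN] at hn
    have : k ≤ 8 := Nat.le_of_dvd (by decide) ((dvd_pow_self k (by omega)).trans hn.dvd)
    have h5 : 2 ≤ k := by
      obtain ⟨_ | l, rfl⟩ := hk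
      · simp [show t ≠ 0 by omega] at hn
      · omega
    have h6 : t < 4 := (Nat.pow_lt_pow_iff_right (by decide : 1 < 2)).1
      ((Nat.pow_le_pow_left h5 t).trans_lt (by omega))
    exact absurd (hp (by interval_cases t <;> interval_cases k <;> omega)) hminus
  · exact .inr <| .inr <| .inr <| .inr <| .inr <| .inr <| .inr <| .inr <| h

end Cfsg.Agent.S5826
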