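import Cfsg.Statements.S5835
import Cfsg.Agent.Lib.Asch.O

set_option autoImplicit false
open Cfsg

namespace Cfsg.Agent.S5835

/-- Every maximal subgroup of Ω_9(q), q odd, is of one of the listed geometric types or lies in the residual class. Let F be a finite field of odd order q, Q the standard quadratic form x₀² + Σ x_i y_i on F^9 (coordinates Unit ⊕ (Fin 4 ⊕ Fin 4)), Ω the commutator subgroup of its isometry group, and H a maximal subgroup of Ω (inside GL_9(F)). Then H is the intersection with Ω of one of: the stabiliser of a non-zero totally singular subspace; the stabiliser of a non-zero non-degenerate subspace of even dimension (not a plus-type plane when q = 3); for q prime, the stabiliser of a decomposition into nine pairwise orthogonal, pairwise isometric non-degenerate 1-spaces; for q ≥ 5, the stabiliser of a decomposition into three pairwise orthogonal, pairwise isometric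 non-degenerate 3-spaces; the normaliser of a degree-3 subfield of the matrix algebra, self-adjoint for the polar form; a subfield group (|F| = |F₀|^r, r prime) whose F₀-structure carries Q; for q ≥ 5, the stabiliser of a tensor decomposition of the polar form as a tensor square of a symmetric form on F^3 — or else H lies in the residual class of the orthogonal case (modulo scalars H is almost simple, with absolutely irreducible perfect socle preimage realisable over no proper subfield and fixing no non-degenerate unitary form). -/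
theorem result {F : Type*} [Field F] [Fintype F] (hodd : Odd (Fintype.card F)) (H : Subgroup (Matrix.GeneralLinearGroup (Unit ⊕ (Fin 4 ⊕ Fin 4)) F)) (hH : Cfsg.Geo.IsMaximalIn (Cfsg.Geo.omegaGL (Cfsg.quadFormOdd 4 F)) H) :
    (∃ W : Submodule F (Unit ⊕ (Fin 4 ⊕ Fin 4) → F), W ≠ ⊥ ∧ Cfsg.Geo.IsTotallySingularQuad (Cfsg.quadFormOdd 4 F) W ∧ H = Cfsg.Geo.subspaceStabilizer W ⊓ Cfsg.Geo.omegaGL (Cfsg.quadFormOdd 4 F)) ∨
    (∃ W : Submodule F (Unit ⊕ (Fin 4 ⊕ Fin 4) → F), W ≠ ⊥ ∧ Even (Module.finrank F W) ∧ Cfsg.Geo.IsNondegenerateOn (QuadraticMap.polar (Cfsg.quadFormOdd 4 F)) W ∧ ¬ (Fintype.card F = 3 ∧ Module.finrank F W = 2 ∧ Cfsg.Geo.IsPlusTypeOn (Cfsg.quadFormOdd 4 F) W) ∧ H = Cfsg.Geo.subspaceStabilizer W ⊓ Cfsg.Geo.omegaGL (Cfsg.quadFormOdd 4 F)) ∨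
    ((Fintype.card F).Prime ∧ ∃ D : Fin 9 → Submodule F (Unit ⊕ (Fin 4 ⊕ Fin 4) → F), Cfsg.Geo.IsOrthogonalMDecomposition (Cfsg.quadFormOdd 4 F) 1 D ∧ H = Cfsg.Geo.decompositionStabilizer D ⊓ Cfsg.Geo.omegaGL (Cfsg.quadFormOdd 4 F)) ∨
    (5 ≤ Fintype.card F ∧ ∃ D : Fin 3 → Submodule F (Unit ⊕ (Fin 4 ⊕ Fin 4) → F), Cfsg.Geo.IsOrthogonalMDecomposition (Cfsg.quadFormOdd 4 F) 3 D ∧ H = Cfsg.Geo.decompositionStabilizer D ⊓ Cfsg.Geo.omegaGL (Cfsg.quadFormOdd 4 F)) ∨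
    (∃ K : Subalgebra F (Matrix (Unit ⊕ (Fin 4 ⊕ Fin 4)) (Unit ⊕ (Fin 4 ⊕ Fin 4)) F), Cfsg.Geo.IsFieldSubalgebra 3 K ∧ Cfsg.Geo.IsSelfAdjointFor (QuadraticMap.polar (Cfsg.quadFormOdd 4 F)) K ∧ H = Cfsg.Geo.subalgebraNormalizer K ⊓ Cfsg.Geo.omegaGL (Cfsg.quadFormOdd 4 F)) ∨
    (∃ (F₀ : Subfield F) (r : ℕ) (P : Matrix.GeneralLinearGroup (Unit ⊕ (Fin 4 ⊕ Fin 4)) F), r.Prime ∧ Fintype.card F = Nat.card F₀ ^ r ∧ Cfsg.Geo.IsQuadFormRationalStructure (Cfsg.quadFormOdd 4 F) F₀ P ∧ H = Cfsg.Geo.subfieldSubgroup F₀ P ⊓ Cfsg.Geo.omegaGL (Cfsg.quadFormOdd 4 F)) ∨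
    (5 ≤ Fintype.card F ∧ ∃ (e : (Unit ⊕ (Fin 4 ⊕ Fin 4)) ≃ (Fin 2 → Fin 3)) (P : Matrix.GeneralLinearGroup (Unit ⊕ (Fin 4 ⊕ Fin 4)) F) (f₁ : (Fin 3 → F) → (Fin 3 → F) → F), Cfsg.Geo.IsSymmetricForm f₁ ∧ Cfsg.Geo.IsTensorPowerFormStructure id (QuadraticMap.polar (Cfsg.quadFormOdd 4 F)) f₁ e P ∧ H = Cfsg.Geo.tensorWreathSubgroup 3 2 e P ⊓ Cfsg.Geo.omegaGL (Cfsg.quadFormOdd 4 F)) ∨
    Cfsg.Geo.InOrthogonalResidualClass H := by
  have hQ := Lib.Asch.nq_odd (Lib.Asch.two_ne_zero_of_odd hodd) 4 (F := F)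
  have hN : Fintype.card (Unit ⊕ (Fin 4 ⊕ Fin 4)) = 9 := rfl
  rcases Lib.Asch.oCase hQ (by decide) hH.1.le with ⟨W, h0, h1, h2, h⟩ | ⟨W, h0, ht, h1, h2, h3, h4, h5, h⟩ |
    ⟨k, hn, hk, ho, hp, D, hD, h1, h⟩ | ⟨he, v, h0, h⟩ |
    ⟨t, k, ht, hn, D, hD, ho, h1, h2, h2', h3, h4, h⟩ | ⟨k, hn, hk, hp, D, hD, h1, h⟩ |
    ⟨r, hr, hn, h1, h2, h3, K, hK, h4, h⟩ | ⟨he, hp, K, hK, h1, h2, h3, h⟩ |
    ⟨n₁, n₂, hn, ho, h3, hle, he, h5, e, P, f₁, f₂, h1, h2, hm', hs, h⟩ |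
    ⟨n₁, n₂, hn, he₁, he₂, h3, hle, hp, e, P, f₁, f₂, h1, h2, hs, h0, h⟩ |
    ⟨F₀, r, P, ζ, hr, hc, h0, h1, hp, h⟩ | ⟨k, hn, hp⟩ |
    ⟨k, t, hn, hk, hk', ht, ho, h5, e, P, f₁, h1, hs, h⟩ | ⟨k, t, hn, hk, ht, hp⟩ | h
  · exact .inl ⟨W, h0, h1, h.eq hH⟩
  · exact .inr <| .inl ⟨W, h0, Nat.not_odd_iff_even.1 fun h6 => absurd (h5 h6).2 (by decide), h1,
      fun ⟨h6, h7, h8⟩ => by have := h4 h7 h8; omega, h.eq hH⟩
  · rw [Nat.odd_iff] at hk; omega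
  · exact absurd hodd he
  · rw [hN] at hn
    have : t ≤ 9 := Nat.le_of_dvd (by decide) ⟨k, hn.symm⟩
    obtain ⟨rfl, rfl⟩ | ⟨rfl, rfl⟩ : (t = 9 ∧ k = 1) ∨ (t = 3 ∧ k = 3) := by
      interval_cases t <;> omega
    · exact .inr <| .inr <| .inl ⟨h1 rfl, D, hD, h.eq hH⟩
    · exact .inr <| .inr <| .inr <| .inl ⟨h3 rfl, D, hD, h.eq hH⟩
  · rw [Nat.even_iff] at hk; omega
  · rw [hN] at hn h1 h2 h3
    have : r ≤ 9 := Nat.le_of_dvd (by decide) hn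
    obtain rfl : r = 3 := by
      clear h3; revert hr hn h1 h2; interval_cases r <;> decide
    · exact .inr <| .inr <| .inr <| .inr <| .inl ⟨K, hK, h4, h.eq hH⟩
  · exact absurd he (by decide)
  · rw [hN] at hn
    have : n₁ ≤ 9 := Nat.le_of_dvd (by decide) ⟨n₂, hn.symm⟩
    rw [Nat.even_iff] at he; exfalso; interval_cases n₁ <;> omega
  · rw [hN] at hn
    rw [Nat.even_iff] at he₁ he₂
    have : n₁ ≤ 9 := Nat.le_of_dvd (by decide) ⟨n₂, hn.symm⟩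
    exfalso; interval_cases n₁ <;> omega
  · obtain ⟨P', h2, h3⟩ := hQ.rational_one (by decide) (Lib.Asch.gram_odd_mem _ F₀) h0 h1
    exact .inr <| .inr <| .inr <| .inr <| .inr <| .inl ⟨F₀, r, P', hr, hc, h2, h3 ▸ h.eq hH⟩
  · exact absurd (Lib.Asch.eq_of_prime_pow Nat.prime_two (s := 3) (by decide) hn (by decide)) (by decide)
  · rw [hN] at hn
    have h6 : t < 3 := (Nat.pow_lt_pow_iff_right (by decide : 1 < 3)).1
      ((Nat.pow_le_pow_left hk t).trans_lt (by omega))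
    obtain rfl : t = 2 := by omega
    have : k ≤ 9 := Nat.le_of_dvd (by decide) ((dvd_pow_self k (by omega)).trans hn.dvd)
    obtain rfl : k = 3 := by interval_cases k <;> omega
    exact .inr <| .inr <| .inr <| .inr <| .inr <| .inr <| .inl ⟨by have := Lib.Asch.odd_cases ho; omega, e, P, f₁, h1, hs, h.eq hH⟩
  · exact absurd (hn ▸ hk.pow_of_ne_zero (by omega)) (by decide)
  · exact .inr <| .inr <| .inr <| .inr <| .inr <| .inr <| .inr <| h

end Cfsg.Agent.S5835
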