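import Cfsg.Statements.S5873
import Cfsg.Agent.Lib.Max.Nd8
import Cfsg.Agent.Lib.Max.C5E
import Cfsg.Agent.Lib.Max.C3O
import Cfsg.Agent.Lib.Max.TQ4

set_option autoImplicit false
open Cfsg

namespace Cfsg.Agent.S5873

/-- Maximal subgroups of Ω_12^-(q) of geometric type (any q). Let F be a finite field with q elements (characteristic p), Q a non-degenerate quadratic form on F^12 (non-degenerate polar form) of minus type (Witt index 5: no totally singular 6-space), and Ω = Ω_12^-(q) the commutator subgroup of the isometry group of Q, inside GL_12(F). Each of the following, intersected with Ω, is a maximal subgroup of Ω: (1) the stabiliser of any non-zero subspace on which Q vanishes identically (totally singular subspaces, dimensions 1 to 5); (2) for q odd, the stabiliser of any subspace of odd dimension on which the polar form of Q is non-degenerate; (3) the stabiliser of any non-degenerate 2-space of minus type (containing no non-zero singular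 vector); (4) for q ≥ 4, the stabiliser of any non-degenerate 2-space of plus type (containing a non-zero singular vector); (5) the stabiliser of any non-degenerate 4-space (either type); (6) the stabiliser of any non-degenerate 6-space (either type); (7) for q even, the stabiliser of the 1-space spanned by any non-singular vector v (Q(v) ≠ 0); (8) the stabiliser of any decomposition of F^12 into 3 pairwise orthogonal, pairwise Q-isometric non-degenerate 4-spaces of minus type; (9) for q odd, the normaliser of any degree-2 subfield K of the matrix algebra whose elements are self-adjoint for the polar form of Q (Q is then the trace of a quadratic form over K); (10) for q odd, the normaliser of any degree-3 subfield K of the matrix algebra whose elements are self-adjoint for the polar form of Q (Q is then the trace of a quadratic form over K); (11) for q odd with q ≥ 5, the stabiliser of any tensor decomposition F^12 = F^3 ⊗ F^4 in which the polar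 form of Q is the product of non-degenerate symmetric bilinear forms, the second of minus type, up to a scalar; (12) every subfield group for a subfield F₀ with |F| = |F₀|^r, r an odd prime, whose F₀-structure carries a non-zero scalar multiple of Q. -/
theorem result {F : Type*} [Field F] [Fintype F] (Q : (Fin 12 → F) → F) (hQ : Cfsg.Geo.IsNondegenerateQuadraticForm Q) (hminus : ¬ Cfsg.Geo.IsPlusTypeOn Q ⊤) :
    (∀ W : Submodule F (Fin 12 → F), W ≠ ⊥ → Cfsg.Geo.IsTotallySingularQuad Q W → Cfsg.Geo.IsMaximalIn (Cfsg.Geo.omegaGL Q) (Cfsg.Geo.subspaceStabilizer W ⊓ Cfsg.Geo.omegaGL Q)) ∧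
    (Odd (Fintype.card F) → ∀ W : Submodule F (Fin 12 → F), W ≠ ⊥ → W ≠ ⊤ → Odd (Module.finrank F W) → 2 * Module.finrank F W ≠ 12 → Cfsg.Geo.IsNondegenerateOn (QuadraticMap.polar Q) W → Cfsg.Geo.IsMaximalIn (Cfsg.Geo.omegaGL Q) (Cfsg.Geo.subspaceStabilizer W ⊓ Cfsg.Geo.omegaGL Q)) ∧
    (∀ W : Submodule F (Fin 12 → F), Module.finrank F W = 2 → Cfsg.Geo.IsNondegenerateOn (QuadraticMap.polar Q) W → ¬ Cfsg.Geo.IsPlusTypeOn Q W → Cfsg.Geo.IsMaximalIn (Cfsg.Geo.omegaGL Q) (Cfsg.Geo.subspaceStabilizer W ⊓ Cfsg.Geo.omegaGL Q)) ∧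
    (4 ≤ Fintype.card F → ∀ W : Submodule F (Fin 12 → F), Module.finrank F W = 2 → Cfsg.Geo.IsNondegenerateOn (QuadraticMap.polar Q) W → Cfsg.Geo.IsPlusTypeOn Q W → Cfsg.Geo.IsMaximalIn (Cfsg.Geo.omegaGL Q) (Cfsg.Geo.subspaceStabilizer W ⊓ Cfsg.Geo.omegaGL Q)) ∧
    (∀ W : Submodule F (Fin 12 → F), Module.finrank F W = 4 → Cfsg.Geo.IsNondegenerateOn (QuadraticMap.polar Q) W → Cfsg.Geo.IsMaximalIn (Cfsg.Geo.omegaGL Q) (Cfsg.Geo.subspaceStabilizer W ⊓ Cfsg.Geo.omegaGL Q)) ∧
    (∀ W : Submodule F (Fin 12 → F), Module.finrank F W = 6 → Cfsg.Geo.IsNondegenerateOn (QuadraticMap.polar Q) W → Cfsg.Geo.IsMaximalIn (Cfsg.Geo.omegaGL Q) (Cfsg.Geo.subspaceStabilizer W ⊓ Cfsg.Geo.omegaGL Q)) ∧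
    (¬ Odd (Fintype.card F) → ∀ v : (Fin 12 → F), Q v ≠ 0 → Cfsg.Geo.IsMaximalIn (Cfsg.Geo.omegaGL Q) (Cfsg.Geo.subspaceStabilizer (Submodule.span F {v}) ⊓ Cfsg.Geo.omegaGL Q)) ∧
    (∀ D : Fin 3 → Submodule F (Fin 12 → F), Cfsg.Geo.IsOrthogonalMDecomposition Q 4 D → (∀ i, ¬ Cfsg.Geo.IsPlusTypeOn Q (D i)) → Cfsg.Geo.IsMaximalIn (Cfsg.Geo.omegaGL Q) (Cfsg.Geo.decompositionStabilizer D ⊓ Cfsg.Geo.omegaGL Q)) ∧
    (Odd (Fintype.card F) → ∀ K : Subalgebra F (Matrix (Fin 12) (Fin 12) F), Cfsg.Geo.IsFieldSubalgebra 2 K → Cfsg.Geo.IsSelfAdjointFor (QuadraticMap.polar Q) K → Cfsg.Geo.IsMaximalIn (Cfsg.Geo.omegaGL Q) (Cfsg.Geo.subalgebraNormalizer K ⊓ Cfsg.Geo.omegaGL Q)) ∧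
    (Odd (Fintype.card F) → ∀ K : Subalgebra F (Matrix (Fin 12) (Fin 12) F), Cfsg.Geo.IsFieldSubalgebra 3 K → Cfsg.Geo.IsSelfAdjointFor (QuadraticMap.polar Q) K → Cfsg.Geo.IsMaximalIn (Cfsg.Geo.omegaGL Q) (Cfsg.Geo.subalgebraNormalizer K ⊓ Cfsg.Geo.omegaGL Q)) ∧
    (Odd (Fintype.card F) ∧ 5 ≤ Fintype.card F → ∀ (e : Fin 12 ≃ Fin 3 × Fin 4) (P : Matrix.GeneralLinearGroup (Fin 12) F) (f₁ : (Fin 3 → F) → (Fin 3 → F) → F) (f₂ : (Fin 4 → F) → (Fin 4 → F) → F), Cfsg.Geo.IsSymmetricForm f₁ → Cfsg.Geo.IsSymmetricForm f₂ → ¬ Cfsg.Geo.IsPlusTypeOn (fun v : Fin 4 → F => f₂ v v) ⊤ → Cfsg.Geo.IsTensorFormStructure id (QuadraticMap.polar Q) f₁ f₂ e P → Cfsg.Geo.IsMaximalIn (Cfsg.Geo.omegaGL Q) (Cfsg.Geo.tensorProductSubgroup 3 4 e P ⊓ Cfsg.Geo.omegaGL Q)) ∧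
    (∀ (F₀ : Subfield F) (r : ℕ) (P : Matrix.GeneralLinearGroup (Fin 12) F) (ζ : F), r.Prime → Odd r → Fintype.card F = Nat.card F₀ ^ r → ζ ≠ 0 → Cfsg.Geo.IsQuadFormRationalStructure (fun v : Fin 12 → F => ζ * Q v) F₀ P → Cfsg.Geo.IsMaximalIn (Cfsg.Geo.omegaGL Q) (Cfsg.Geo.subfieldSubgroup F₀ P ⊓ Cfsg.Geo.omegaGL Q)) := by
  have n0 : ∀ {W : Submodule F (Fin 12 → F)} {k}, Module.finrank F W = k → 0 < k → k < 12 → W ≠ ⊥ ∧ W ≠ ⊤ :=
    fun h h1 h2 => ⟨by rintro rfl; simp at h; omega, by rintro rfl; simp at h; omega⟩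
  have n8 : 8 ≤ 12 := by omega
  open Cfsg.Lib.Forms Cfsg.Lib.Forms.Form in
  refine ⟨fun W h0 hW => even_max_ts hQ n8 h0 hW fun h => absurd h hminus,
    fun ho W h0 h1 h2 _ hW => ?_, fun W h2 hW h => ?_, fun h4 W h2 hW _ => ?_, fun W h2 hW => ?_,
    fun W h2 hW => ?_, fun h v hv => even_max_vec hQ n8 h hv, fun W hW hm => ?_,
    fun ho K hK hs => max_ext_orth ho Nat.prime_two (by omega) hQ hK hs,
    fun ho K hK hs => max_ext_orth ho Nat.prime_three (by omega) hQ hK hs,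
    fun ho e P f₁ f₂ h1 h2 h3 h4 => TF.O4.oo_max_tensor4 ho.1 ho.2 hQ e P h1 h2 h3 h4,
    fun k r P ζ hr _ hc hζ hP => even_max_rat n8 hQ hr hc hζ hP⟩
  · obtain ⟨l, hl⟩ := h2
    exact Lib.Forms.even_max_nondeg hQ n8 (by decide) h0 h1 hW (fun _ => ho) (by omega) (by omega) (by omega)
  · exact Lib.Forms.even_max_nondeg hQ n8 (by decide) (n0 h2 (by omega) (by omega)).1 (n0 h2 (by omega) (by omega)).2 hW
      (by simp [h2, Nat.odd_iff]) (by omega) (by omega) fun _ h' => absurd h' h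
  · exact Lib.Forms.even_max_nondeg hQ n8 (by decide) (n0 h2 (by omega) (by omega)).1 (n0 h2 (by omega) (by omega)).2 hW
      (by simp [h2, Nat.odd_iff]) (by omega) (by omega) fun _ _ => h4
  · exact Lib.Forms.even_max_nondeg hQ n8 (by decide) (n0 h2 (by omega) (by omega)).1 (n0 h2 (by omega) (by omega)).2 hW
      (by simp [h2, Nat.odd_iff]) (by omega) (by omega) (by omega)
  · exact Lib.Forms.even_max_nondeg hQ n8 (by decide) (n0 h2 (by omega) (by omega)).1 (n0 h2 (by omega) (by omega)).2 hW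
      (by simp [h2, Nat.odd_iff]) (Lib.Forms.minus_not_iso hQ hminus hW (h2 ▸ by decide)) (by omega) (by omega)
  open Cfsg.Lib.Forms Cfsg.Lib.Forms.Form Cfsg.Geo in
  obtain ⟨D, rfl, hD⟩ := exists_form_of_quad hQ
  open Cfsg.Lib.Forms Cfsg.Lib.Forms.Form Cfsg.Geo in
  have hn' : Module.finrank F (Fin 12 → F) = 12 := by simp
  have h := (Lib.Forms.rep_quad _).isOrth hW.decomp
  have h3 := hW.decomp.decomp
  have hiso := fun i j => Lib.Forms.areIsometricFor_iff.1 (hW.isometric i j)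
  refine Lib.Forms.isMaximalIn_map (Lib.Forms.omegaGL_eq hD (by omega)) (Lib.Forms.comap_decompositionStabilizer W)
    ((Lib.Forms.Quad.trans hD (by omega)).not_E_le_dec (Lib.Forms.Quad.sing _) h3.indep (i := 0)
      (fun H => by have := h3.finrank_eq 0; rw [H] at this; simp at this) (by rw [h3.finrank_eq]; omega))
    fun X h0 h1 => ?_
  exact h.E_le_ge_three hD (by omega) h3.finrank_eq hiso (by omega) (by simp)
    (fun i => Or.inr (Or.inr fun h8 => hm i ((Lib.Forms.isPlusTypeOn_iff' (m := 2) (h3.finrank_eq i)).2 h8)))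
    (fun H => absurd H (by decide)) (fun H => absurd H (by decide)) h0 h1

end Cfsg.Agent.S5873
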