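import Cfsg.Statements.S5876


set_option autoImplicit false
open Cfsg

namespace Cfsg.Agent.S5876

open scoped commutatorElement in
theorem codim_comm {F G V : Type*} [Field F] [Group G] [AddCommGroup V] [Module F V]
    [FiniteDimensional F V] (ρ : G →* Module.End F V) (g x : G) :
    2 * Module.finrank F (LinearMap.ker (ρ g - 1)) ≤
      Module.finrank F V + Module.finrank F (LinearMap.ker (ρ ⁅g, x⁆ - 1)) := by
  set A := LinearMap.ker (ρ g - 1) with hA
  have hinj : Function.Injective (ρ x) := by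
    intro u v h
    have := congrArg (ρ x⁻¹) h
    simpa [← Module.End.mul_apply, ← map_mul] using this
  have h1 : Module.finrank F (A.map (ρ x)) = Module.finrank F A :=
    (LinearEquiv.finrank_eq (Submodule.equivMapOfInjective _ hinj A)).symm
  have h2 : A ⊓ A.map (ρ x) ≤ LinearMap.ker (ρ ⁅g, x⁆ - 1) := by
    rintro v ⟨hv, w, hw, rfl⟩
    have hv' : ρ g (ρ x w) = ρ x w := by simpa [hA, sub_eq_zero] using hv
    have hw' : ρ g w = w := by simpa [hA, sub_eq_zero] using hw
    have hw'' : ρ g⁻¹ w = w := by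
      conv_lhs => rw [← hw']
      rw [← Module.End.mul_apply, ← map_mul]; simp
    simp only [LinearMap.mem_ker, LinearMap.sub_apply, Module.End.one_apply, sub_eq_zero,
      commutatorElement_def, map_mul, Module.End.mul_apply]
    rw [← Module.End.mul_apply (ρ x⁻¹), ← map_mul, inv_mul_cancel, map_one, Module.End.one_apply,
      hw'', hv']
  have h3 := Submodule.finrank_sup_add_finrank_inf_eq A (A.map (ρ x))
  have h4 := Submodule.finrank_mono h2
  have h5 := Submodule.finrank_le (A ⊔ A.map (ρ x))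
  omega

/-- fixed space of a subgroup -/
def fx {F G V : Type*} [Field F] [Group G] [AddCommGroup V] [Module F V]
    (ρ : G →* Module.End F V) (B : Subgroup G) : Submodule F V where
  carrier := {v | ∀ b ∈ B, ρ b v = v}
  add_mem' {u v} hu hv b hb := by rw [map_add, hu b hb, hv b hb]
  zero_mem' b _ := map_zero _
  smul_mem' c v hv b hb := by rw [map_smul, hv b hb]

theorem mem_fx {F G V : Type*} [Field F] [Group G] [AddCommGroup V] [Module F V]
    {ρ : G →* Module.End F V} {B : Subgroup G} {v : V} : v ∈ fx ρ B ↔ ∀ b ∈ B, ρ b v = v := Iff.rfl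

theorem fx_map {F G V : Type*} [Field F] [Group G] [AddCommGroup V] [Module F V]
    (ρ : G →* Module.End F V) (B : Subgroup G) (g : G) :
    (fx ρ B).map (ρ g) = fx ρ (B.map (MulAut.conj g).toMonoidHom) := by
  ext v
  constructor
  · rintro ⟨w, hw, rfl⟩ _ ⟨b, hb, rfl⟩
    simp only [MulEquiv.coe_toMonoidHom, MulAut.conj_apply]
    rw [← Module.End.mul_apply, ← map_mul, inv_mul_cancel_right, map_mul, Module.End.mul_apply,
      hw b hb]
  · intro hv
    refine ⟨ρ g⁻¹ v, fun b hb => ?_, by rw [← Module.End.mul_apply, ← map_mul]; simp⟩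
    have := hv _ ⟨b, hb, rfl⟩
    simp only [MulEquiv.coe_toMonoidHom, MulAut.conj_apply] at this
    conv_rhs => rw [← this]
    simp only [← Module.End.mul_apply, ← map_mul]
    congr 2; group

theorem semireg {F G V : Type*} [Field F] [Group G] [Finite G] [AddCommGroup V] [Module F V]
    (ρ : G →* Module.End F V) (hinj : Function.Injective ρ)
    (hirr : ∀ W : Submodule F V, (∀ g, W.map (ρ g) ≤ W) → W = ⊥ ∨ W = ⊤)
    (hprim : ∀ W : Submodule F V, W ≠ ⊥ →
      iSupIndep (fun U : Set.range (fun g : G => W.map (ρ g)) => (U : Submodule F V)) →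
      ∀ g, W.map (ρ g) = W)
    (Z : Subgroup G) [Z.Normal] (hZ : ∀ a ∈ Z, ∀ b ∈ Z, a * b = b * a) (z : G) (hz : z ∈ Z)
    (hz1 : z ≠ 1) : LinearMap.ker (ρ z - 1) = ⊥ := by
  by_contra hne
  have h0 : Subgroup.zpowers z ≤ Z ∧ fx ρ (Subgroup.zpowers z) ≠ ⊥ := by
    refine ⟨by simpa using hz, fun h => hne ?_⟩
    rw [eq_bot_iff, ← h]
    intro v hv b hb
    have hv' : ρ z v = v := by simpa [sub_eq_zero] using hv
    have : Subgroup.zpowers z ≤ (MulAction.stabilizer (Module.End F V)ˣ v).comap ρ.toHomUnits := by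
      rw [Subgroup.zpowers_le]; exact hv'
    exact this hb
  obtain ⟨B, hzB, hB⟩ := Finite.exists_le_maximal (p := fun B : Subgroup G => B ≤ Z ∧ fx ρ B ≠ ⊥) h0
  have hcard : ∀ g : G, Nat.card (B.map (MulAut.conj g).toMonoidHom) = Nat.card B := fun g =>
    Subgroup.card_map_of_injective (MulAut.conj g).injective
  have hle : ∀ g : G, B.map (MulAut.conj g).toMonoidHom ≤ Z := by
    rintro g _ ⟨b, hb, rfl⟩
    exact ‹Z.Normal›.conj_mem _ (hB.1.1 hb) g
  have hmax : ∀ g : G, ∀ b ∈ Z, ∀ v ∈ fx ρ (B.map (MulAut.conj g).toMonoidHom), ρ b v = v →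
      b ∈ B.map (MulAut.conj g).toMonoidHom ∨ v = 0 := by
    intro g b hb v hv hbv
    by_cases hv0 : v = 0
    · exact Or.inr hv0
    left
    have hb' : g⁻¹ * b * g ∈ Z := by simpa using ‹Z.Normal›.conj_mem _ hb g⁻¹
    rw [← fx_map] at hv
    obtain ⟨w, hw, rfl⟩ := hv
    have h1 : B ⊔ Subgroup.zpowers (g⁻¹ * b * g) ≤ B := by
      refine hB.2 ⟨sup_le hB.1.1 (by simpa using hb'), fun h => hv0 ?_⟩ le_sup_left
      have hw2 : w ∈ fx ρ (B ⊔ Subgroup.zpowers (g⁻¹ * b * g)) := by
        have : B ⊔ Subgroup.zpowers (g⁻¹ * b * g) ≤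
            (MulAction.stabilizer (Module.End F V)ˣ w).comap ρ.toHomUnits := by
          refine sup_le (fun c hc => hw c hc) ?_
          rw [Subgroup.zpowers_le]
          show ρ (g⁻¹ * b * g) w = w
          rw [map_mul, map_mul, Module.End.mul_apply, Module.End.mul_apply, hbv,
            ← Module.End.mul_apply, ← map_mul]; simp
        exact fun c hc => this hc
      rw [h, Submodule.mem_bot] at hw2
      rw [hw2, map_zero]
    exact ⟨g⁻¹ * b * g, h1 (Subgroup.mem_sup_right (Subgroup.mem_zpowers _)), by simp [mul_assoc]⟩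
  have hpres : ∀ g : G, ∀ b ∈ Z, (fx ρ (B.map (MulAut.conj g).toMonoidHom)).map (ρ b - 1) ≤
      fx ρ (B.map (MulAut.conj g).toMonoidHom) := by
    rintro g b hb _ ⟨v, hv, rfl⟩
    simp only [LinearMap.sub_apply, Module.End.one_apply]
    refine Submodule.sub_mem _ (fun c hc => ?_) hv
    rw [← Module.End.mul_apply, ← map_mul, hZ c (hle g hc) b hb, map_mul, Module.End.mul_apply,
      hv c hc]
  have hind : iSupIndep (fun U : Set.range (fun g : G => (fx ρ B).map (ρ g)) =>
      (U : Submodule F V)) := by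
    classical
    have key : ∀ (i : Set.range (fun g : G => (fx ρ B).map (ρ g)))
        (s : Finset (Set.range (fun g : G => (fx ρ B).map (ρ g)))), i ∉ s →
        Disjoint (i : Submodule F V) (⨆ j ∈ s, (j : Submodule F V)) := by
      intro i s
      induction s using Finset.induction_on with
      | empty => simp
      | insert j s hj ih =>
        intro hi
        rw [Finset.mem_insert, not_or] at hi
        have ih' := ih hi.2
        rw [Finset.iSup_insert, Submodule.disjoint_def]
        intro v hvi hv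
        obtain ⟨w, hw, u, hu, rfl⟩ := Submodule.mem_sup.1 hv
        obtain ⟨i, g, rfl⟩ := i
        obtain ⟨j, h, rfl⟩ := j
        simp only [fx_map] at hvi hw
        have hne : ¬ B.map (MulAut.conj h).toMonoidHom ≤ B.map (MulAut.conj g).toMonoidHom := by
          intro hle'
          have := Subgroup.eq_of_le_of_card_ge hle' (by rw [hcard, hcard])
          exact hi.1 (Subtype.ext (by simp only [fx_map, this]))
        obtain ⟨b, hb, hb'⟩ := Set.not_subset.1 hne
        have hbZ := hle h hb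
        have h1 : (ρ b - 1) (w + u) ∈ fx ρ (B.map (MulAut.conj g).toMonoidHom) :=
          hpres g b hbZ ⟨_, hvi, rfl⟩
        have h2 : (ρ b - 1) (w + u) ∈ ⨆ j ∈ s, (j : Submodule F V) := by
          have h3 : (ρ b - 1) w = 0 := by simp [hw b hb]
          rw [map_add, h3, zero_add]
          have h4 : (⨆ j ∈ s, (j : Submodule F V)).map (ρ b - 1) ≤ ⨆ j ∈ s, (j : Submodule F V) := by
            rw [Submodule.map_iSup]
            refine iSup_mono fun k => ?_
            rw [Submodule.map_iSup]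
            refine iSup_mono fun _ => ?_
            obtain ⟨k, l, rfl⟩ := k
            simp only [fx_map]
            exact hpres l b hbZ
          exact h4 ⟨u, hu, rfl⟩
        have h5 : (ρ b - 1) (w + u) = 0 :=
          Submodule.disjoint_def.1 ih' _ (by simpa only [fx_map] using h1) h2
        rcases hmax g b hbZ _ hvi (by simpa [sub_eq_zero] using h5) with h6 | h6
        · exact absurd h6 hb'
        · exact h6
    intro i
    haveI : Fintype (Set.range (fun g : G => (fx ρ B).map (ρ g))) :=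
      (Set.finite_range _).fintype
    have := key i (Finset.univ.erase i) (by simp)
    simpa using this
  have h7 := hprim _ hB.1.2 hind
  rcases hirr (fx ρ B) (fun g => (h7 g).le) with h8 | h8
  · exact hB.1.2 h8
  · apply hz1
    apply hinj
    ext v
    have : v ∈ fx ρ B := h8 ▸ Submodule.mem_top
    simpa using this z (hzB (Subgroup.mem_zpowers z))

theorem exists_K {G : Type*} [Group G] [Finite G] [Group.IsSolvable G] :
    ∃ K : Subgroup G, K.Normal ∧ ⁅K, K⁆ ≤ Subgroup.centralizer K ∧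
      Subgroup.centralizer (K : Set G) ≤ K := by
  obtain ⟨K, -, hK⟩ := Finite.exists_le_maximal
    (p := fun K : Subgroup G => K.Normal ∧ ⁅K, K⁆ ≤ Subgroup.centralizer K) (a := ⊥)
    ⟨inferInstance, by simp⟩
  haveI := hK.1.1
  refine ⟨K, hK.1.1, hK.1.2, ?_⟩
  by_contra hC
  obtain ⟨A, -, hA⟩ := exists_minimal_le_of_wellFoundedLT
    (fun A : Subgroup G => A.Normal ∧ A ≤ Subgroup.centralizer K ∧ ¬ A ≤ K)
    (Subgroup.centralizer (K : Set G)) ⟨inferInstance, le_rfl, hC⟩
  haveI := hA.1.1
  have hne : A ≠ ⊥ := fun h => hA.1.2.2 (h ▸ bot_le)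
  have hlt := Group.IsSolvable.commutator_lt_of_ne_bot hne
  have hAA : ⁅A, A⁆ ≤ K := by
    by_contra h
    exact hlt.not_ge (hA.2 ⟨inferInstance, hlt.le.trans hA.1.2.1, h⟩ hlt.le)
  have hAK : ⁅A, K⁆ = ⊥ := Subgroup.commutator_eq_bot_iff_le_centralizer.2 hA.1.2.1
  have hKA : K ≤ Subgroup.centralizer A := Subgroup.le_centralizer_iff.1 hA.1.2.1
  have h1 : ⁅A ⊔ K, A ⊔ K⁆ ≤ K ⊓ Subgroup.centralizer K := by
    rw [Subgroup.commutator_le]
    intro x hx y hy
    rw [← SetLike.mem_coe, Subgroup.normal_mul] at hx hy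
    obtain ⟨a, ha, k, hk, rfl⟩ := hx
    obtain ⟨b, hb, l, hl, rfl⟩ := hy
    have c1 : Commute k a := hA.1.2.1 ha k hk
    have c2 : Commute l a := hA.1.2.1 ha l hl
    have c3 : Commute k b := hA.1.2.1 hb k hk
    have c4 : Commute l b := hA.1.2.1 hb l hl
    have e : a * k * (b * l) * (a * k)⁻¹ * (b * l)⁻¹ =
        (a * b * a⁻¹ * b⁻¹) * (k * l * k⁻¹ * l⁻¹) := by
      have d1 : Commute (k * l * k⁻¹) a⁻¹ :=
        ((c1.inv_right.mul_left c2.inv_right).mul_left c1.inv_inv)
      have d2 : Commute (k * l * k⁻¹ * l⁻¹) b⁻¹ :=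
        (((c3.inv_right.mul_left c4.inv_right).mul_left c3.inv_inv).mul_left c4.inv_inv)
      calc a * k * (b * l) * (a * k)⁻¹ * (b * l)⁻¹
          = a * (k * b) * l * k⁻¹ * a⁻¹ * l⁻¹ * b⁻¹ := by group
        _ = a * b * ((k * l * k⁻¹) * a⁻¹) * l⁻¹ * b⁻¹ := by rw [c3.eq]; group
        _ = a * b * a⁻¹ * ((k * l * k⁻¹ * l⁻¹) * b⁻¹) := by rw [d1.eq]; group
        _ = _ := by rw [d2.eq]; group
    show a * k * (b * l) * (a * k)⁻¹ * (b * l)⁻¹ ∈ _
    rw [e]
    have m1 : a * b * a⁻¹ * b⁻¹ ∈ ⁅A, A⁆ := Subgroup.commutator_mem_commutator ha hb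
    have m2 : k * l * k⁻¹ * l⁻¹ ∈ ⁅K, K⁆ := Subgroup.commutator_mem_commutator hk hl
    exact Subgroup.mul_mem _ ⟨hAA m1, hA.1.2.1 (hlt.le m1)⟩
      ⟨Subgroup.commutator_le_left _ _ m2, hK.1.2 m2⟩
  have h2 : ⁅A ⊔ K, A ⊔ K⁆ ≤ Subgroup.centralizer (A ⊔ K : Subgroup G) := by
    refine h1.trans ?_
    rw [Subgroup.le_centralizer_iff, sup_le_iff]
    exact ⟨Subgroup.le_centralizer_iff.1 (inf_le_left.trans hKA),
      Subgroup.le_centralizer_iff.1 inf_le_right⟩
  exact hA.1.2.2 (le_sup_left.trans (hK.2 ⟨inferInstance, h2⟩ le_sup_right))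

open scoped commutatorElement in
theorem main {F G V : Type*} [Field F] [Group G] [Finite G] [Group.IsSolvable G] [AddCommGroup V]
    [Module F V] [FiniteDimensional F V]
    (ρ : G →* Module.End F V) (hinj : Function.Injective ρ)
    (hirr : ∀ W : Submodule F V, (∀ g, W.map (ρ g) ≤ W) → W = ⊥ ∨ W = ⊤)
    (hprim : ∀ W : Submodule F V, W ≠ ⊥ →
      iSupIndep (fun U : Set.range (fun g : G => W.map (ρ g)) => (U : Submodule F V)) →
      ∀ g, W.map (ρ g) = W) (g : G) (hg : g ≠ 1) :
    4 * Module.finrank F (LinearMap.ker (ρ g - 1)) ≤ 3 * Module.finrank F V := by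
  obtain ⟨K, hKn, hK2, hKC⟩ := exists_K (G := G)
  have hZ : ∀ z ∈ Subgroup.centralizer (K : Set G), z ≠ 1 →
      Module.finrank F (LinearMap.ker (ρ z - 1)) = 0 := fun z hz hz1 => by
    rw [semireg ρ hinj hirr hprim (Subgroup.centralizer (K : Set G))
      (fun a ha b hb => hb a (hKC ha)) z hz hz1, finrank_bot]
  have hK : ∀ y ∈ K, y ≠ 1 →
      2 * Module.finrank F (LinearMap.ker (ρ y - 1)) ≤ Module.finrank F V := fun y hy hy1 => by
    by_cases hyc : y ∈ Subgroup.centralizer (K : Set G)
    · rw [hZ y hyc hy1]; omega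
    · obtain ⟨x, hx, hxy⟩ : ∃ x ∈ K, ⁅y, x⁆ ≠ 1 := by
        by_contra h
        push Not at h
        exact hyc fun x hx => (commutatorElement_eq_one_iff_mul_comm.1 (h x hx)).symm
      have := codim_comm ρ y x
      rw [hZ _ (hK2 (Subgroup.commutator_mem_commutator hy hx)) hxy] at this
      omega
  by_cases hgc : g ∈ Subgroup.centralizer (K : Set G)
  · rw [hZ g hgc hg]; omega
  · obtain ⟨x, hx, hxy⟩ : ∃ x ∈ K, ⁅g, x⁆ ≠ 1 := by
      by_contra h
      push Not at h
      exact hgc fun x hx => (commutatorElement_eq_one_iff_mul_comm.1 (h x hx)).symm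
    have h1 := codim_comm ρ g x
    have h2 := hK ⁅g, x⁆ (K.mul_mem (hKn.conj_mem _ hx g |> fun h => by simpa using h) (K.inv_mem hx)) hxy
    omega

/-- Fixed-point spaces in primitive soluble linear groups. Let F be a finite field and G a soluble subgroup of GL_n(F) that acts irreducibly on F^n and primitively (G preserves no decomposition of F^n into two or more independent subspaces of equal dimension). Then every non-identity element g of G has fixed-point space {v : g v = v} of dimension at most 3n/4. -/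
theorem result {F : Type*} [Field F] [Fintype F] {n : ℕ} (G : Subgroup (Matrix.GeneralLinearGroup (Fin n) F)) (hsol : IsSolvable G) (hirr : Cfsg.Geo.ActsIrreducibly (Cfsg.Geo.matrixSet G)) (hprim : ∀ (m t : ℕ) (D : Fin t → Submodule F (Fin n → F)), 2 ≤ t → Cfsg.Geo.IsMDecomposition m D → ¬ G ≤ Cfsg.Geo.decompositionStabilizer D) (g : Matrix.GeneralLinearGroup (Fin n) F) (hg : g ∈ G) (hg1 : g ≠ 1) :
    4 * Module.finrank F (Module.End.eigenspace (Matrix.toLin' (g : Matrix (Fin n) (Fin n) F)) 1) ≤ 3 * n := by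
  classical
  haveI : Group.IsSolvable G := hsol
  let ρ : G →* Module.End F (Fin n → F) :=
    { toFun := fun g => Matrix.toLin' ((g : Matrix.GeneralLinearGroup (Fin n) F) : Matrix (Fin n) (Fin n) F)
      map_one' := by simp [Module.End.one_eq_id]
      map_mul' := fun a b => by simp [Matrix.toLin'_mul, Module.End.mul_eq_comp] }
  have hρ : ∀ g : G, ρ g = Matrix.toLin' ((g : Matrix.GeneralLinearGroup (Fin n) F) : Matrix (Fin n) (Fin n) F) :=
    fun _ => rfl
  have hinj : Function.Injective ρ := fun a b h =>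
    Subtype.ext (Units.ext (Matrix.toLin'.injective h))
  have hirr' : ∀ W : Submodule F (Fin n → F), (∀ g, W.map (ρ g) ≤ W) → W = ⊥ ∨ W = ⊤ :=
    fun W hW => hirr W (by rintro _ ⟨g, hg, rfl⟩; exact hW ⟨g, hg⟩)
  have hmm : ∀ (a b : G) (W : Submodule F (Fin n → F)),
      (W.map (ρ b)).map (ρ a) = W.map (ρ (a * b)) := fun a b W => by
    rw [map_mul, Module.End.mul_eq_comp, Submodule.map_comp]
  have h1 : ∀ W : Submodule F (Fin n → F), W.map (ρ 1) = W := fun W => by
    rw [map_one, Module.End.one_eq_id, Submodule.map_id]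
  have := main ρ hinj hirr' (fun W hW hind a => by
    by_contra hne
    haveI : Fintype (Set.range (fun g : G => W.map (ρ g))) := (Set.finite_range _).fintype
    let e := (Fintype.equivFin (Set.range (fun g : G => W.map (ρ g)))).symm
    have h2 : 2 ≤ Fintype.card (Set.range (fun g : G => W.map (ρ g))) :=
      Fintype.one_lt_card_iff.2 ⟨⟨_, a, rfl⟩, ⟨_, 1, rfl⟩, fun h => hne (by
        have := congrArg Subtype.val h
        simpa only [h1] using this)⟩
    have hinj' : ∀ x : G, Function.Injective (ρ x) := fun x u v h => by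
      have := congrArg (ρ x⁻¹) h
      simpa [← Module.End.mul_apply, ← map_mul] using this
    refine hprim (Module.finrank F W) _ (fun i => (e i : Submodule F (Fin n → F))) h2
      ⟨h2, ?_, fun i => ?_, hind.comp e.injective, ?_⟩ fun b hb => ?_
    · exact Nat.pos_of_ne_zero fun h => hW (Submodule.finrank_eq_zero.1 h)
    · obtain ⟨x, hx⟩ := (e i).2
      rw [← hx]
      exact (LinearEquiv.finrank_eq (Submodule.equivMapOfInjective _ (hinj' x) W)).symm
    · refine (hirr' _ fun b => ?_).resolve_left fun h => hW ?_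
      · rw [Submodule.map_iSup]
        refine iSup_le fun i => ?_
        obtain ⟨x, hx⟩ := (e i).2
        refine le_iSup_of_le (e.symm ⟨_, b * x, rfl⟩) ?_
        rw [← hx, hmm]; simp
      · rw [eq_bot_iff, ← h]
        refine le_iSup_of_le (e.symm ⟨_, 1, rfl⟩) ?_
        simp [h1, Module.End.one_eq_id]
    · let f : G → Set.range (fun g : G => W.map (ρ g)) → Set.range (fun g : G => W.map (ρ g)) :=
        fun c U => ⟨U.1.map (ρ c), by
          obtain ⟨x, hx⟩ := U.2
          exact ⟨c * x, by rw [← hx, hmm]⟩⟩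
      let σ : Equiv.Perm (Set.range (fun g : G => W.map (ρ g))) :=
        ⟨f ⟨b, hb⟩, f ⟨b, hb⟩⁻¹, fun U => Subtype.ext (by simp only [f, hmm, inv_mul_cancel, h1]),
          fun U => Subtype.ext (by simp only [f, hmm, mul_inv_cancel, h1])⟩
      exact ⟨(e.trans σ).trans e.symm, fun i => by simp [σ, f, hρ]⟩) ⟨g, hg⟩
    (fun h => hg1 (congrArg Subtype.val h))
  rw [Module.finrank_fin_fun] at this
  rw [Module.End.eigenspace_def, one_smul]
  exact this

end Cfsg.Agent.S5876
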